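import Mathlib

/-!
# A trace formula for tight frames

If the vectors `g i` form a tight frame on the subspace `W` and `a i` is the orthogonal projection
of `g i` to `W`, then `∑ i, ‖a i‖ ^ 2 = dim W`.
-/

set_option autoImplicit false

namespace Cfsg.Agent.Lib.Helper8

open scoped InnerProductSpace

theorem sum_norm_sq_eq_finrank {E : Type*} [NormedAddCommGroup E] [InnerProductSpace ℂ E]
    (W : Submodule ℂ E) [FiniteDimensional ℂ W] {ι : Type*} [Fintype ι] (g a : ι → E)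
    (ha : ∀ i, a i ∈ W) (hr : ∀ i, ∀ w ∈ W, ⟪w, g i - a i⟫_ℂ = 0)
    (K : ℝ) (hframe : ∀ w ∈ W, ∑ i, ‖⟪w, g i⟫_ℂ‖ ^ 2 = K * ‖w‖ ^ 2) :
    ∑ i, ‖a i‖ ^ 2 = K * (Module.finrank ℂ W : ℝ) := by
  classical
  set b := stdOrthonormalBasis ℂ W with hb
  have h1 : ∀ i, ‖a i‖ ^ 2 = ∑ j, ‖⟪((b j : W) : E), g i⟫_ℂ‖ ^ 2 := by
    intro i
    have h2 := b.sum_sq_norm_inner_right (⟨a i, ha i⟩ : W)
    have h3 : ‖(⟨a i, ha i⟩ : W)‖ = ‖a i‖ := rfl
    rw [h3] at h2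
    rw [← h2]
    refine Finset.sum_congr rfl fun j _ => ?_
    have h4 : ⟪b j, (⟨a i, ha i⟩ : W)⟫_ℂ = ⟪((b j : W) : E), a i⟫_ℂ := rfl
    rw [h4]
    have h5 := hr i (b j : W) (b j).2
    rw [inner_sub_right, sub_eq_zero] at h5
    rw [h5]
  simp_rw [h1]
  rw [Finset.sum_comm]
  have h6 : ∀ j, ∑ i, ‖⟪((b j : W) : E), g i⟫_ℂ‖ ^ 2 = K := by
    intro j
    rw [hframe _ (b j).2]
    have : ‖((b j : W) : E)‖ = 1 := by
      have := b.orthonormal.1 j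
      exact this
    rw [this, one_pow, mul_one]
  simp_rw [h6]
  simp [mul_comm]

end Cfsg.Agent.Lib.Helper8
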