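import Mathlib
import Cfsg.Agent.Lib.Helper8.Sub1

/-!
# The trace formula for tight frames, for functions on a finite type
-/

set_option autoImplicit false

namespace Cfsg.Agent.Lib.Helper8

open scoped InnerProductSpace ComplexConjugate

theorem sum_sum_normSq_eq_finrank {X : Type*} [Fintype X] (W : Submodule ℂ (X → ℂ))
    {ι : Type*} [Fintype ι] (g a : ι → X → ℂ) (ha : ∀ i, a i ∈ W)
    (hr : ∀ i, ∀ w ∈ W, ∑ x, (g i x - a i x) * conj (w x) = 0)
    (K : ℝ) (hframe : ∀ w ∈ W,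
      ∑ i, Complex.normSq (∑ x, g i x * conj (w x)) = K * ∑ x, Complex.normSq (w x)) :
    ∑ i, ∑ x, Complex.normSq (a i x) = K * (Module.finrank ℂ W : ℝ) := by
  classical
  set L : (X → ℂ) ≃ₗ[ℂ] EuclideanSpace ℂ X := (WithLp.linearEquiv 2 ℂ (X → ℂ)).symm with hL
  set W' : Submodule ℂ (EuclideanSpace ℂ X) := W.map (L : (X → ℂ) →ₗ[ℂ] EuclideanSpace ℂ X) with hW'
  have hfin : Module.finrank ℂ W' = Module.finrank ℂ W := LinearEquiv.finrank_map_eq L W
  have hinner : ∀ u v : X → ℂ, ⟪L u, L v⟫_ℂ = ∑ x, v x * conj (u x) := by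
    intro u v
    rw [PiLp.inner_apply]
    refine Finset.sum_congr rfl fun x _ => ?_
    simp [hL]
  have hnorm : ∀ u : X → ℂ, ‖L u‖ ^ 2 = ∑ x, Complex.normSq (u x) := by
    intro u
    rw [EuclideanSpace.norm_eq, Real.sq_sqrt (Finset.sum_nonneg fun i _ => sq_nonneg _)]
    refine Finset.sum_congr rfl fun x _ => ?_
    rw [Complex.normSq_eq_norm_sq]
    rfl
  have key := sum_norm_sq_eq_finrank W' (fun i => L (g i)) (fun i => L (a i))
    (fun i => Submodule.mem_map_of_mem (ha i)) ?_ K ?_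
  · rw [hfin] at key
    rw [← key]
    refine Finset.sum_congr rfl fun i _ => ?_
    rw [hnorm]
  · rintro i _ ⟨w, hw, rfl⟩
    show ⟪L w, L (g i) - L (a i)⟫_ℂ = 0
    rw [← map_sub, hinner]
    exact hr i w hw
  · rintro _ ⟨w, hw, rfl⟩
    show ∑ i, ‖⟪L w, L (g i)⟫_ℂ‖ ^ 2 = K * ‖L w‖ ^ 2
    rw [hnorm, ← hframe w hw]
    refine Finset.sum_congr rfl fun i _ => ?_
    rw [hinner, Complex.normSq_eq_norm_sq]

end Cfsg.Agent.Lib.Helper8
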