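import Mathlib
import Cfsg.Prelude.Def_Blocks

/-!
# The local ring at a maximal ideal of the algebraic integers

Closure lemmas for `Cfsg.MemLocalRing` and `Cfsg.MemLocalIdeal`, packaged also as a
`Subring ℂ` with an ideal.
-/

set_option autoImplicit false

namespace Cfsg.Agent.Lib.Helper8

open Cfsg

variable {M : Ideal AlgInt}

theorem algInt_coe_ne_zero_of_not_mem {b : AlgInt} (hb : b ∉ M) : (b : ℂ) ≠ 0 := by
  intro h
  apply hb
  have : b = 0 := Subtype.ext h
  rw [this]
  exact M.zero_mem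

theorem memLocalRing_of_memLocalIdeal {z : ℂ} (h : MemLocalIdeal M z) : MemLocalRing M z := by
  obtain ⟨a, b, _, hb, hz⟩ := h
  exact ⟨a, b, hb, hz⟩

theorem memLocalRing_algInt (hM : M ≠ ⊤) (a : AlgInt) : MemLocalRing M (a : ℂ) :=
  ⟨a, 1, (Ideal.ne_top_iff_one M).1 hM, by simp⟩

theorem memLocalRing_of_isIntegral (hM : M ≠ ⊤) {z : ℂ} (hz : IsIntegral ℤ z) :
    MemLocalRing M z :=
  memLocalRing_algInt hM ⟨z, hz⟩

theorem memLocalIdeal_algInt_of_mem (hM : M ≠ ⊤) {a : AlgInt} (ha : a ∈ M) :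
    MemLocalIdeal M (a : ℂ) :=
  ⟨a, 1, ha, (Ideal.ne_top_iff_one M).1 hM, by simp⟩

theorem memLocalRing_zero (hM : M ≠ ⊤) : MemLocalRing M 0 := by
  simpa using memLocalRing_algInt hM 0

theorem memLocalRing_one (hM : M ≠ ⊤) : MemLocalRing M 1 := by
  simpa using memLocalRing_algInt hM 1

theorem memLocalIdeal_zero (hM : M ≠ ⊤) : MemLocalIdeal M 0 := by
  simpa using memLocalIdeal_algInt_of_mem hM M.zero_mem

theorem memLocalRing_natCast (hM : M ≠ ⊤) (n : ℕ) : MemLocalRing M (n : ℂ) := by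
  simpa using memLocalRing_algInt hM (n : AlgInt)

theorem memLocalRing_intCast (hM : M ≠ ⊤) (n : ℤ) : MemLocalRing M (n : ℂ) := by
  simpa using memLocalRing_algInt hM (n : AlgInt)

section Prime

variable (hM : M.IsPrime)
include hM

theorem memLocalRing_add {z w : ℂ} (hz : MemLocalRing M z) (hw : MemLocalRing M w) :
    MemLocalRing M (z + w) := by
  obtain ⟨a, b, hb, rfl⟩ := hz
  obtain ⟨c, d, hd, rfl⟩ := hw
  refine ⟨a * d + c * b, b * d, fun h => (hM.mem_or_mem h).elim hb hd, ?_⟩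
  have hb0 := algInt_coe_ne_zero_of_not_mem hb
  have hd0 := algInt_coe_ne_zero_of_not_mem hd
  push_cast
  field_simp

theorem memLocalRing_mul {z w : ℂ} (hz : MemLocalRing M z) (hw : MemLocalRing M w) :
    MemLocalRing M (z * w) := by
  obtain ⟨a, b, hb, rfl⟩ := hz
  obtain ⟨c, d, hd, rfl⟩ := hw
  refine ⟨a * c, b * d, fun h => (hM.mem_or_mem h).elim hb hd, ?_⟩
  have hb0 := algInt_coe_ne_zero_of_not_mem hb
  have hd0 := algInt_coe_ne_zero_of_not_mem hd
  push_cast
  field_simp

omit hM in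
theorem memLocalRing_neg {z : ℂ} (hz : MemLocalRing M z) : MemLocalRing M (-z) := by
  obtain ⟨a, b, hb, rfl⟩ := hz
  refine ⟨-a, b, hb, ?_⟩
  push_cast
  ring

theorem memLocalRing_sub {z w : ℂ} (hz : MemLocalRing M z) (hw : MemLocalRing M w) :
    MemLocalRing M (z - w) := by
  rw [sub_eq_add_neg]
  exact memLocalRing_add hM hz (memLocalRing_neg hw)

theorem memLocalIdeal_add {z w : ℂ} (hz : MemLocalIdeal M z) (hw : MemLocalIdeal M w) :
    MemLocalIdeal M (z + w) := by
  obtain ⟨a, b, ha, hb, rfl⟩ := hz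
  obtain ⟨c, d, hc, hd, rfl⟩ := hw
  refine ⟨a * d + c * b, b * d, M.add_mem (M.mul_mem_right _ ha) (M.mul_mem_right _ hc),
    fun h => (hM.mem_or_mem h).elim hb hd, ?_⟩
  have hb0 := algInt_coe_ne_zero_of_not_mem hb
  have hd0 := algInt_coe_ne_zero_of_not_mem hd
  push_cast
  field_simp

omit hM in
theorem memLocalIdeal_neg {z : ℂ} (hz : MemLocalIdeal M z) : MemLocalIdeal M (-z) := by
  obtain ⟨a, b, ha, hb, rfl⟩ := hz
  refine ⟨-a, b, M.neg_mem ha, hb, ?_⟩
  push_cast
  ring

theorem memLocalIdeal_sub {z w : ℂ} (hz : MemLocalIdeal M z) (hw : MemLocalIdeal M w) :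
    MemLocalIdeal M (z - w) := by
  rw [sub_eq_add_neg]
  exact memLocalIdeal_add hM hz (memLocalIdeal_neg hw)

theorem memLocalIdeal_mul_left {z w : ℂ} (hz : MemLocalRing M z) (hw : MemLocalIdeal M w) :
    MemLocalIdeal M (z * w) := by
  obtain ⟨a, b, hb, rfl⟩ := hz
  obtain ⟨c, d, hc, hd, rfl⟩ := hw
  refine ⟨a * c, b * d, M.mul_mem_left _ hc, fun h => (hM.mem_or_mem h).elim hb hd, ?_⟩
  have hb0 := algInt_coe_ne_zero_of_not_mem hb
  have hd0 := algInt_coe_ne_zero_of_not_mem hd
  push_cast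
  field_simp

theorem memLocalIdeal_mul_right {z w : ℂ} (hz : MemLocalIdeal M z) (hw : MemLocalRing M w) :
    MemLocalIdeal M (z * w) := by
  rw [mul_comm]
  exact memLocalIdeal_mul_left hM hw hz

/-- For an algebraic integer, membership in the local ideal is membership in `M`. -/
theorem memLocalIdeal_algInt_iff (a : AlgInt) : MemLocalIdeal M (a : ℂ) ↔ a ∈ M := by
  constructor
  · rintro ⟨c, d, hc, hd, h⟩
    have hd0 := algInt_coe_ne_zero_of_not_mem hd
    have h1 : (c : ℂ) = (a : ℂ) * (d : ℂ) := by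
      rw [← h]
      field_simp
    have h2 : c = a * d := Subtype.ext (by simpa using h1)
    rw [h2] at hc
    exact (hM.mem_or_mem hc).resolve_right hd
  · exact memLocalIdeal_algInt_of_mem hM.ne_top

theorem not_memLocalIdeal_one : ¬ MemLocalIdeal M 1 := by
  intro h
  have := (memLocalIdeal_algInt_iff hM 1).1 (by simpa using h)
  exact (Ideal.ne_top_iff_one M).1 hM.ne_top this

omit hM in
/-- Elements of the local ring outside the local ideal are units of the local ring. -/
theorem memLocalRing_inv {z : ℂ} (hz : MemLocalRing M z) (hz' : ¬ MemLocalIdeal M z) :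
    MemLocalRing M z⁻¹ := by
  obtain ⟨a, b, hb, rfl⟩ := hz
  have ha : a ∉ M := fun ha => hz' ⟨a, b, ha, hb, rfl⟩
  refine ⟨b, a, ha, ?_⟩
  rw [inv_div]

theorem not_memLocalIdeal_inv {z : ℂ} (hz : MemLocalRing M z) (hz' : ¬ MemLocalIdeal M z) :
    ¬ MemLocalIdeal M z⁻¹ := by
  intro h
  have h1 := memLocalIdeal_mul_left hM hz h
  have hz0 : z ≠ 0 := by
    rintro rfl
    exact hz' (memLocalIdeal_zero hM.ne_top)
  rw [mul_inv_cancel₀ hz0] at h1
  exact not_memLocalIdeal_one hM h1

theorem memLocalRing_div {z w : ℂ} (hz : MemLocalRing M z) (hw : MemLocalRing M w)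
    (hw' : ¬ MemLocalIdeal M w) : MemLocalRing M (z / w) := by
  rw [div_eq_mul_inv]
  exact memLocalRing_mul hM hz (memLocalRing_inv hw hw')

/-- The complement of the local ideal in the local ring is multiplicatively closed. -/
theorem not_memLocalIdeal_mul {z w : ℂ} (hz : MemLocalRing M z) (hw : MemLocalRing M w)
    (hz' : ¬ MemLocalIdeal M z) (hw' : ¬ MemLocalIdeal M w) : ¬ MemLocalIdeal M (z * w) := by
  intro h
  have h1 := memLocalIdeal_mul_left hM (memLocalRing_inv hz hz') h
  have hz0 : z ≠ 0 := by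
    rintro rfl
    exact hz' (memLocalIdeal_zero hM.ne_top)
  rw [← mul_assoc, inv_mul_cancel₀ hz0, one_mul] at h1
  exact hw' h1

theorem memLocalRing_sum {ι : Type*} (s : Finset ι) (f : ι → ℂ)
    (h : ∀ i ∈ s, MemLocalRing M (f i)) : MemLocalRing M (∑ i ∈ s, f i) := by
  classical
  induction s using Finset.induction_on with
  | empty => simpa using memLocalRing_zero hM.ne_top
  | insert a s ha ih =>
    rw [Finset.sum_insert ha]
    exact memLocalRing_add hM (h a (Finset.mem_insert_self _ _))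
      (ih fun i hi => h i (Finset.mem_insert_of_mem hi))

theorem memLocalIdeal_sum {ι : Type*} (s : Finset ι) (f : ι → ℂ)
    (h : ∀ i ∈ s, MemLocalIdeal M (f i)) : MemLocalIdeal M (∑ i ∈ s, f i) := by
  classical
  induction s using Finset.induction_on with
  | empty => simpa using memLocalIdeal_zero hM.ne_top
  | insert a s ha ih =>
    rw [Finset.sum_insert ha]
    exact memLocalIdeal_add hM (h a (Finset.mem_insert_self _ _))
      (ih fun i hi => h i (Finset.mem_insert_of_mem hi))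

theorem memLocalRing_prod {ι : Type*} (s : Finset ι) (f : ι → ℂ)
    (h : ∀ i ∈ s, MemLocalRing M (f i)) : MemLocalRing M (∏ i ∈ s, f i) := by
  classical
  induction s using Finset.induction_on with
  | empty => simpa using memLocalRing_one hM.ne_top
  | insert a s ha ih =>
    rw [Finset.prod_insert ha]
    exact memLocalRing_mul hM (h a (Finset.mem_insert_self _ _))
      (ih fun i hi => h i (Finset.mem_insert_of_mem hi))

theorem memLocalRing_pow {z : ℂ} (hz : MemLocalRing M z) (n : ℕ) : MemLocalRing M (z ^ n) := by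
  induction n with
  | zero => simpa using memLocalRing_one hM.ne_top
  | succ n ih =>
    rw [pow_succ]
    exact memLocalRing_mul hM ih hz

/-- `z ≡ 1` and `w ≡ 1` modulo the local ideal imply `z * w ≡ 1`. -/
theorem memLocalIdeal_mul_sub_one {z w : ℂ} (hz : MemLocalIdeal M (z - 1))
    (hw : MemLocalIdeal M (w - 1)) : MemLocalIdeal M (z * w - 1) := by
  have hzr : MemLocalRing M z := by
    have := memLocalRing_add hM (memLocalRing_of_memLocalIdeal hz) (memLocalRing_one hM.ne_top)
    simpa using this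
  have h1 : z * w - 1 = z * (w - 1) + (z - 1) := by ring
  rw [h1]
  exact memLocalIdeal_add hM (memLocalIdeal_mul_left hM hzr hw) hz

theorem memLocalIdeal_prod_sub_one {ι : Type*} (s : Finset ι) (f : ι → ℂ)
    (h : ∀ i ∈ s, MemLocalIdeal M (f i - 1)) : MemLocalIdeal M (∏ i ∈ s, f i - 1) := by
  classical
  induction s using Finset.induction_on with
  | empty => simpa using memLocalIdeal_zero hM.ne_top
  | insert a s ha ih =>
    rw [Finset.prod_insert ha]
    exact memLocalIdeal_mul_sub_one hM (h a (Finset.mem_insert_self _ _))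
      (ih fun i hi => h i (Finset.mem_insert_of_mem hi))

/-- An element congruent to `1` modulo the local ideal is not in the local ideal. -/
theorem not_memLocalIdeal_of_sub_one {z : ℂ} (hz : MemLocalIdeal M (z - 1)) :
    ¬ MemLocalIdeal M z := by
  intro h
  have := memLocalIdeal_sub hM h hz
  rw [sub_sub_cancel] at this
  exact not_memLocalIdeal_one hM this

theorem memLocalRing_of_sub_one {z : ℂ} (hz : MemLocalIdeal M (z - 1)) : MemLocalRing M z := by
  have := memLocalRing_add hM (memLocalRing_of_memLocalIdeal hz) (memLocalRing_one hM.ne_top)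
  simpa using this

end Prime

/-- The local ring at a prime ideal `M` of the algebraic integers, as a subring of `ℂ`. -/
def localRing (M : Ideal AlgInt) (hM : M.IsPrime) : Subring ℂ where
  carrier := {z | MemLocalRing M z}
  mul_mem' := fun ha hb => memLocalRing_mul hM ha hb
  one_mem' := memLocalRing_one hM.ne_top
  add_mem' := fun ha hb => memLocalRing_add hM ha hb
  zero_mem' := memLocalRing_zero hM.ne_top
  neg_mem' := fun ha => memLocalRing_neg ha

theorem mem_localRing_iff (hM : M.IsPrime) (z : ℂ) : z ∈ localRing M hM ↔ MemLocalRing M z :=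
  Iff.rfl

/-- The maximal ideal of the local ring. -/
def localIdeal (M : Ideal AlgInt) (hM : M.IsPrime) : Ideal (localRing M hM) where
  carrier := {z | MemLocalIdeal M (z : ℂ)}
  add_mem' := fun ha hb => memLocalIdeal_add hM ha hb
  zero_mem' := memLocalIdeal_zero hM.ne_top
  smul_mem' := fun c x hx => memLocalIdeal_mul_left hM c.2 hx

theorem mem_localIdeal_iff (hM : M.IsPrime) (z : localRing M hM) :
    z ∈ localIdeal M hM ↔ MemLocalIdeal M (z : ℂ) :=
  Iff.rfl

theorem localIdeal_ne_top (hM : M.IsPrime) : localIdeal M hM ≠ ⊤ := by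
  rw [Ideal.ne_top_iff_one]
  intro h
  exact not_memLocalIdeal_one hM ((mem_localIdeal_iff hM 1).1 h)

section Modular

variable {p : ℕ}

theorem isPModular_isPrime (h : IsPModular p M) : M.IsPrime := h.2.1.isPrime

theorem isPModular_ne_top (h : IsPModular p M) : M ≠ ⊤ := h.2.1.ne_top

/-- An integer lies in `M` iff it is divisible by `p`. -/
theorem intCast_mem_iff (h : IsPModular p M) (n : ℤ) : (n : AlgInt) ∈ M ↔ (p : ℤ) ∣ n := by
  constructor
  · intro hn
    by_contra hdiv
    have hp : Prime (p : ℤ) := Nat.prime_iff_prime_int.1 h.1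
    have hcop : IsCoprime (p : ℤ) n := (Prime.coprime_iff_not_dvd hp).2 hdiv
    obtain ⟨u, v, huv⟩ := hcop
    have h1 : ((u * p + v * n : ℤ) : AlgInt) ∈ M := by
      push_cast
      exact M.add_mem (M.mul_mem_left _ (by simpa using h.2.2)) (M.mul_mem_left _ hn)
    rw [huv] at h1
    exact (Ideal.ne_top_iff_one M).1 (isPModular_ne_top h) (by simpa using h1)
  · rintro ⟨k, rfl⟩
    push_cast
    exact M.mul_mem_right _ (by simpa using h.2.2)

theorem memLocalIdeal_intCast_iff (h : IsPModular p M) (n : ℤ) :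
    MemLocalIdeal M (n : ℂ) ↔ (p : ℤ) ∣ n := by
  rw [← intCast_mem_iff h, ← memLocalIdeal_algInt_iff (isPModular_isPrime h)]
  simp

theorem memLocalIdeal_natCast_iff (h : IsPModular p M) (n : ℕ) :
    MemLocalIdeal M (n : ℂ) ↔ p ∣ n := by
  have := memLocalIdeal_intCast_iff h (n : ℤ)
  rw [Int.natCast_dvd_natCast] at this
  simpa using this

theorem memLocalRing_inv_natCast (h : IsPModular p M) {n : ℕ} (hn : ¬ p ∣ n) :
    MemLocalRing M ((n : ℂ)⁻¹) :=
  memLocalRing_inv (memLocalRing_natCast (isPModular_ne_top h) n)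
    (fun h' => hn ((memLocalIdeal_natCast_iff h n).1 h'))

theorem memLocalIdeal_prime (h : IsPModular p M) : MemLocalIdeal M (p : ℂ) :=
  (memLocalIdeal_natCast_iff h p).2 dvd_rfl

/-- A rational number in the local ring has denominator prime to `p`. -/
theorem not_dvd_den_of_memLocalRing (h : IsPModular p M) (q : ℚ) (hq : MemLocalRing M (q : ℂ)) :
    ¬ p ∣ q.den := by
  intro hd
  have h1 : MemLocalIdeal M ((q.den : ℂ)) := (memLocalIdeal_natCast_iff h q.den).2 hd
  have h2 : MemLocalIdeal M ((q : ℂ) * (q.den : ℂ)) := memLocalIdeal_mul_left (isPModular_isPrime h) hq h1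
  have h3 : (q : ℂ) * (q.den : ℂ) = (q.num : ℂ) := by
    have := Rat.mul_den_eq_num q
    exact_mod_cast this
  rw [h3, memLocalIdeal_intCast_iff h] at h2
  have hcop := q.reduced
  have h4 : p ∣ q.num.natAbs := Int.natCast_dvd.1 h2
  have := Nat.dvd_gcd h4 hd
  rw [hcop] at this
  exact h.1.one_lt.ne' (Nat.dvd_one.1 this)

/-- If `a / b` (natural numbers, `b ≠ 0`) lies in the local ring then the `p`-part of `b` divides `a`. -/
theorem pow_dvd_of_memLocalRing_div (h : IsPModular p M) (a b : ℕ) (hb : b ≠ 0)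
    (hq : MemLocalRing M ((a : ℂ) / (b : ℂ))) : p ^ b.factorization p ∣ a := by
  set k := b.factorization p with hk
  obtain ⟨c, hc⟩ : p ^ k ∣ b := Nat.ordProj_dvd b p
  have hcp : ¬ p ∣ c := by
    intro hpc
    have : p ^ (k + 1) ∣ b := by
      rw [hc, pow_succ]
      exact Nat.mul_dvd_mul_left _ hpc
    have h5 := (h.1.pow_dvd_iff_le_factorization hb).1 this
    omega
  have hc0 : c ≠ 0 := by
    rintro rfl
    exact hcp (dvd_zero p)
  -- a / p^k = (a / b) * c lies in the local ring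
  have h1 : MemLocalRing M ((a : ℂ) / ((p ^ k : ℕ) : ℂ)) := by
    have : (a : ℂ) / ((p ^ k : ℕ) : ℂ) = (a : ℂ) / (b : ℂ) * (c : ℂ) := by
      have hb0 : (b : ℂ) ≠ 0 := Nat.cast_ne_zero.2 hb
      have hpk : ((p ^ k : ℕ) : ℂ) ≠ 0 := Nat.cast_ne_zero.2 (pow_pos h.1.pos k).ne'
      rw [hc]
      push_cast
      have hc0' : (c : ℂ) ≠ 0 := Nat.cast_ne_zero.2 hc0
      have hp0 : (p : ℂ) ≠ 0 := Nat.cast_ne_zero.2 h.1.pos.ne'
      field_simp
    rw [this]
    exact memLocalRing_mul (isPModular_isPrime h) hq (memLocalRing_natCast (isPModular_ne_top h) c)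
  have h2 : ((a : ℂ) / ((p ^ k : ℕ) : ℂ)) = (((a : ℚ) / ((p ^ k : ℕ) : ℚ) : ℚ) : ℂ) := by
    push_cast
    rfl
  rw [h2] at h1
  have h3 := not_dvd_den_of_memLocalRing h _ h1
  -- the denominator of a / p^k is a power of p; prime to p forces it to be 1
  set q : ℚ := (a : ℚ) / ((p ^ k : ℕ) : ℚ) with hqdef
  have hden : q.den ∣ p ^ k := by
    have := Rat.den_dvd (a : ℤ) ((p ^ k : ℕ) : ℤ)
    have h6 : q = Rat.divInt (a : ℤ) ((p ^ k : ℕ) : ℤ) := by
      rw [hqdef, Rat.divInt_eq_div]
      push_cast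
      rfl
    rw [h6]
    exact_mod_cast this
  obtain ⟨j, hj, hden'⟩ := (Nat.dvd_prime_pow h.1).1 hden
  have hj0 : j = 0 := by
    by_contra hj0
    apply h3
    rw [hden']
    exact dvd_pow_self p hj0
  rw [hj0, pow_zero] at hden'
  have hq_int : q = (q.num : ℚ) := by
    conv_lhs => rw [← Rat.num_div_den q, hden']
    simp
  have h7 : (a : ℚ) = (q.num : ℚ) * ((p ^ k : ℕ) : ℚ) := by
    rw [← hq_int, hqdef]
    have hpk : ((p ^ k : ℕ) : ℚ) ≠ 0 := Nat.cast_ne_zero.2 (pow_pos h.1.pos k).ne'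
    field_simp
  have h8 : (a : ℤ) = q.num * ((p ^ k : ℕ) : ℤ) := by exact_mod_cast h7
  have h9 : ((p ^ k : ℕ) : ℤ) ∣ (a : ℤ) := ⟨q.num, by rw [h8, mul_comm]⟩
  exact Int.natCast_dvd_natCast.1 h9

/-- A `p`-power root of unity is congruent to `1` modulo the local ideal. -/
theorem memLocalIdeal_sub_one_of_pow_eq_one (h : IsPModular p M) {z : ℂ} (k : ℕ)
    (hz : z ^ (p ^ k) = 1) : MemLocalIdeal M (z - 1) := by
  have hp : p.Prime := h.1
  have hint : IsIntegral ℤ z := by
    refine ⟨Polynomial.X ^ (p ^ k) - 1, Polynomial.monic_X_pow_sub_C 1 (pow_pos hp.pos k).ne', ?_⟩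
    simp [hz]
  let ζ : AlgInt := ⟨z, hint⟩
  have hζ : ζ ^ (p ^ k) = 1 := Subtype.ext (by simpa using hz)
  have := h.2.1
  have : Fact p.Prime := ⟨hp⟩
  have : CharP (AlgInt ⧸ M) p := by
    have h0 : ((p : ℕ) : AlgInt ⧸ M) = 0 := by
      have : (Ideal.Quotient.mk M) (p : AlgInt) = 0 := Ideal.Quotient.eq_zero_iff_mem.2 h.2.2
      simpa using this
    exact (CharP.charP_iff_prime_eq_zero hp).2 h0
  have h1 : ((Ideal.Quotient.mk M ζ) - 1) ^ (p ^ k) = 0 := by
    rw [sub_pow_char_pow, ← map_pow, hζ]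
    simp
  have h2 : (Ideal.Quotient.mk M ζ) - 1 = 0 := pow_eq_zero_iff (pow_pos hp.pos k).ne' |>.1 h1
  have h3 : ζ - 1 ∈ M := by
    rw [← Ideal.Quotient.eq_zero_iff_mem, map_sub, map_one]
    exact h2
  have := memLocalIdeal_algInt_of_mem (isPModular_ne_top h) h3
  simpa [ζ] using this

end Modular

end Cfsg.Agent.Lib.Helper8
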