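import Mathlib
import Cfsg.Prelude.Def_Characters
import Cfsg.Agent.Lib.Helper1.CharInt
import Cfsg.Agent.Lib.Helper1.CharFound5

set_option autoImplicit false

namespace Cfsg.Agent.Lib.Helper8

open scoped ComplexConjugate
open Cfsg.Agent.Lib.Helper1 Cfsg.Agent.Lib.Helper4

universe u

section

variable {G : Type u} [Group G] [Fintype G]

/-- Trace form of Schur's lemma: for an irreducible character `χ` and a class function `f`,
`∑ g, f g * χ (a * g) = ((∑ g, f g * χ g) / χ 1) * χ a`. -/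
theorem sum_classFunction_mul_irr {χ : G → ℂ} (hχ : Cfsg.IsIrrCharacter G χ) (f : G → ℂ)
    (hf : Cfsg.IsClassFunction G f) (a : G) :
    ∑ g, f g * χ (a * g) = ((∑ g, f g * χ g) / χ 1) * χ a := by
  obtain ⟨n, ρ, hρ, rfl⟩ := hχ
  have h1 := opSum_eq_smul_id ρ f hf
  have h2 : LinearMap.trace ℂ _ (ρ a * opSum ρ f) = ∑ g, f g * ρ.character (a * g) := by
    unfold opSum Representation.character
    rw [Finset.mul_sum, map_sum]
    refine Finset.sum_congr rfl fun g _ => ?_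
    rw [mul_smul_comm, map_smul, smul_eq_mul, show ρ a * ρ g = ρ (a * g) from (map_mul ρ a g).symm]
  rw [← h2, h1, Representation.char_one]
  have h3 : (ρ a * ((∑ g, f g * ρ.character g) / (Module.finrank ℂ (Fin n → ℂ) : ℂ)) •
      (LinearMap.id : (Fin n → ℂ) →ₗ[ℂ] (Fin n → ℂ)))
      = ((∑ g, f g * ρ.character g) / (Module.finrank ℂ (Fin n → ℂ) : ℂ)) • ρ a := by
    rw [mul_smul_comm]
    congr 1
  rw [h3, map_smul, smul_eq_mul]
  rfl

/-- `∑ y, χ (a * (y * b * y⁻¹)) = |G| χ(a) χ(b) / χ(1)`. -/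
theorem sum_irr_mul_conj {χ : G → ℂ} (hχ : Cfsg.IsIrrCharacter G χ) (a b : G) :
    ∑ y : G, χ (a * (y * b * y⁻¹)) = (Fintype.card G : ℂ) * χ a * χ b / χ 1 := by
  classical
  have hcf : Cfsg.IsClassFunction G χ := isClassFunction_irr hχ
  let f : G → ℂ := fun g => ∑ y : G, if y * b * y⁻¹ = g then 1 else 0
  have hf : Cfsg.IsClassFunction G f := by
    intro g h
    show (∑ y : G, if y * b * y⁻¹ = h * g * h⁻¹ then (1 : ℂ) else 0)
      = ∑ y : G, if y * b * y⁻¹ = g then (1 : ℂ) else 0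
    rw [← Equiv.sum_comp (Equiv.mulLeft h)]
    refine Finset.sum_congr rfl fun y _ => ?_
    have : (Equiv.mulLeft h y) * b * (Equiv.mulLeft h y)⁻¹ = h * g * h⁻¹ ↔ y * b * y⁻¹ = g := by
      simp only [Equiv.coe_mulLeft, mul_inv_rev]
      constructor
      · intro h1
        have : h⁻¹ * (h * y * b * (y⁻¹ * h⁻¹)) * h = h⁻¹ * (h * g * h⁻¹) * h := by rw [h1]
        simpa [mul_assoc] using this
      · intro h1
        rw [← h1]; group
    simp only [this]
  have key : ∀ F : G → ℂ, ∑ g, f g * F g = ∑ y : G, F (y * b * y⁻¹) := by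
    intro F
    simp only [f, Finset.sum_mul]
    rw [Finset.sum_comm]
    refine Finset.sum_congr rfl fun y _ => ?_
    simp
  have h1 := sum_classFunction_mul_irr hχ f hf a
  rw [key (fun g => χ (a * g)), key χ] at h1
  rw [h1]
  have h2 : ∑ y : G, χ (y * b * y⁻¹) = (Fintype.card G : ℂ) * χ b := by
    simp only [hcf b]
    simp
  rw [h2]
  ring

/-- Generalised orthogonality: `∑ g, ψ g⁻¹ * χ (a * g) = [χ = ψ] |G| χ(a) / χ(1)`. -/
theorem sum_irr_inv_mul_irr {χ ψ : G → ℂ} (hχ : Cfsg.IsIrrCharacter G χ)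
    (hψ : Cfsg.IsIrrCharacter G ψ) (a : G) :
    ∑ g, ψ g⁻¹ * χ (a * g) = if χ = ψ then (Fintype.card G : ℂ) * χ a / χ 1 else 0 := by
  have hψc : Cfsg.IsClassFunction G ψ := isClassFunction_irr hψ
  have hf : Cfsg.IsClassFunction G (fun g => ψ g⁻¹) := by
    intro g h
    show ψ (h * g * h⁻¹)⁻¹ = ψ g⁻¹
    have : (h * g * h⁻¹)⁻¹ = h * g⁻¹ * h⁻¹ := by group
    rw [this, hψc]
  have h1 := sum_classFunction_mul_irr hχ (fun g => ψ g⁻¹) hf a
  rw [h1]
  have h2 : ∑ g, ψ g⁻¹ * χ g = (Fintype.card G : ℂ) * Cfsg.classInner χ ψ := by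
    rw [classInner_def]
    have hG : (Nat.card G : ℂ) ≠ 0 := Nat.cast_ne_zero.2 Nat.card_pos.ne'
    rw [Nat.card_eq_fintype_card] at hG ⊢
    rw [← mul_assoc, mul_inv_cancel₀ hG, one_mul]
    refine Finset.sum_congr rfl fun g _ => ?_
    rw [isCharacter_inv (isCharacter_of_irr hψ) g, mul_comm]
  rw [h2, classInner_irr hχ hψ]
  split_ifs with h
  · ring
  · simp

end

end Cfsg.Agent.Lib.Helper8
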