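import Mathlib
import Cfsg.Prelude.Def_Blocks
import Cfsg.Agent.Lib.Helper8.BlockLocal
import Cfsg.Agent.Lib.Helper8.ClassAlgebra
import Cfsg.Agent.S0135
import Cfsg.Agent.S0141

/-!
# Central characters as algebra homomorphisms on class functions (convolution)
-/

set_option autoImplicit false

namespace Cfsg.Agent.Lib.Helper8

open Cfsg
open scoped ComplexConjugate
open Cfsg.Agent.Lib.Helper1 Cfsg.Agent.Lib.Helper4

universe u

section Conv

variable {G : Type u} [Group G] [Fintype G]

set_option linter.unusedSectionVars false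

/-- Convolution of complex functions on a finite group (the product of the group algebra). -/
noncomputable def conv (f h : G → ℂ) : G → ℂ := fun x => ∑ y, f y * h (y⁻¹ * x)

/-- The unit of the convolution product. -/
noncomputable def deltaOne : G → ℂ := fun x => by classical exact if x = 1 then 1 else 0

/-- The central character of `χ` evaluated at the central element with coefficient function `f`. -/
noncomputable def omega (χ f : G → ℂ) : ℂ := (∑ g, f g * χ g) / χ 1

theorem conv_apply (f h : G → ℂ) (x : G) : conv f h x = ∑ y, f y * h (y⁻¹ * x) := rfl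

theorem isClassFunction_conv {f h : G → ℂ} (hf : IsClassFunction G f) (hh : IsClassFunction G h) :
    IsClassFunction G (conv f h) := by
  intro x t
  rw [conv_apply, conv_apply]
  rw [← Equiv.sum_comp (MulAut.conj t).toEquiv]
  refine Finset.sum_congr rfl fun y _ => ?_
  have h1 : (MulAut.conj t).toEquiv y = t * y * t⁻¹ := rfl
  rw [h1, hf y t]
  congr 1
  have h2 : (t * y * t⁻¹)⁻¹ * (t * x * t⁻¹) = t * (y⁻¹ * x) * t⁻¹ := by group
  rw [h2, hh]

theorem isClassFunction_deltaOne : IsClassFunction G (deltaOne : G → ℂ) := by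
  classical
  intro x t
  unfold deltaOne
  have : t * x * t⁻¹ = 1 ↔ x = 1 := by
    constructor
    · intro h
      have : x = t⁻¹ * (t * x * t⁻¹) * t := by group
      rw [this, h]; group
    · rintro rfl; group
  by_cases hx : x = 1
  · rw [if_pos hx, if_pos (this.2 hx)]
  · rw [if_neg hx, if_neg (fun h => hx (this.1 h))]

theorem isClassFunction_add' {f h : G → ℂ} (hf : IsClassFunction G f) (hh : IsClassFunction G h) :
    IsClassFunction G (f + h) := by
  intro x t
  simp only [Pi.add_apply]
  rw [hf x t, hh x t]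

theorem isClassFunction_neg' {f : G → ℂ} (hf : IsClassFunction G f) :
    IsClassFunction G (-f) := by
  intro x t
  simp only [Pi.neg_apply]
  rw [hf x t]

theorem isClassFunction_zero' : IsClassFunction G (0 : G → ℂ) := by
  intro x t
  rfl

theorem omega_add (χ f h : G → ℂ) : omega χ (f + h) = omega χ f + omega χ h := by
  unfold omega
  simp only [Pi.add_apply, add_mul, Finset.sum_add_distrib, add_div]

theorem omega_neg (χ f : G → ℂ) : omega χ (-f) = - omega χ f := by
  unfold omega
  simp only [Pi.neg_apply, neg_mul, Finset.sum_neg_distrib, neg_div]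

theorem omega_zero (χ : G → ℂ) : omega χ (0 : G → ℂ) = 0 := by
  unfold omega
  simp

theorem omega_smul (χ f : G → ℂ) (c : ℂ) : omega χ (c • f) = c * omega χ f := by
  unfold omega
  simp only [Pi.smul_apply, smul_eq_mul, mul_assoc, ← Finset.mul_sum, mul_div_assoc]

theorem omega_deltaOne {χ : G → ℂ} (hχ : χ 1 ≠ 0) : omega χ (deltaOne : G → ℂ) = 1 := by
  classical
  unfold omega deltaOne
  simp only [ite_mul, one_mul, zero_mul, Finset.sum_ite_eq', Finset.mem_univ, if_true]
  exact div_self hχ

theorem omega_classIndicator {χ : G → ℂ} (hχ : IsClassFunction G χ) (g : G) :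
    omega χ (classIndicator g) = centralChar χ g := by
  unfold omega centralChar
  rw [Cfsg.Agent.S0141.sum_classIndicator_mul g χ hχ]

/-- The central character is multiplicative for the convolution of class functions. -/
theorem omega_conv {χ : G → ℂ} (hχ : IsIrrCharacter G χ) {f h : G → ℂ}
    (hh : IsClassFunction G h) : omega χ (conv f h) = omega χ f * omega χ h := by
  have hχ1 : χ 1 ≠ 0 := irr_apply_one_ne_zero hχ
  unfold omega
  have h1 : ∑ x, conv f h x * χ x = ∑ y, f y * ∑ z, h z * χ (y * z) := by
    simp only [conv_apply, Finset.sum_mul, Finset.mul_sum]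
    rw [Finset.sum_comm]
    refine Finset.sum_congr rfl fun y _ => ?_
    rw [← Equiv.sum_comp (Equiv.mulLeft y)]
    refine Finset.sum_congr rfl fun z _ => ?_
    simp only [Equiv.coe_mulLeft, inv_mul_cancel_left]
    ring
  rw [h1]
  simp only [sum_classFunction_mul_irr hχ h hh]
  have h2 : ∑ y, f y * ((∑ g, h g * χ g) / χ 1 * χ y)
      = (∑ g, h g * χ g) / χ 1 * ∑ y, f y * χ y := by
    rw [Finset.mul_sum]
    refine Finset.sum_congr rfl fun y _ => ?_
    ring
  rw [h2]
  field_simp

end Conv

section Fourier

variable {G : Type u} [Group G] [Fintype G]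

/-- Fourier inversion for class functions in terms of central characters. -/
theorem classFunction_eq_sum_omega [Fintype (IrrCharacter G)] {F : G → ℂ}
    (hF : IsClassFunction G F) (g : G) :
    F g = (Nat.card G : ℂ)⁻¹ *
      ∑ ψ : IrrCharacter G, omega (ψ : G → ℂ) F * (ψ : G → ℂ) 1 * conj ((ψ : G → ℂ) g) := by
  classical
  have hG0 : (Nat.card G : ℂ) ≠ 0 := Nat.cast_ne_zero.2 Nat.card_pos.ne'
  have h1 : ∀ ψ : IrrCharacter G, omega (ψ : G → ℂ) F * (ψ : G → ℂ) 1 * conj ((ψ : G → ℂ) g)
      = ∑ h, F h * ((ψ : G → ℂ) h * conj ((ψ : G → ℂ) g)) := by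
    intro ψ
    unfold omega
    rw [div_mul_cancel₀ _ (irr_apply_one_ne_zero ψ.2), Finset.sum_mul]
    refine Finset.sum_congr rfl fun h _ => ?_
    ring
  simp only [h1]
  rw [Finset.sum_comm]
  simp only [← Finset.mul_sum, column_orthogonality]
  have h2 : ∑ x, F x * ((Nat.card (Subgroup.centralizer ({g} : Set G)) : ℂ) * classIndicator g x)
      = (Nat.card (Subgroup.centralizer ({g} : Set G)) : ℂ) * ∑ x, classIndicator g x * F x := by
    rw [Finset.mul_sum]
    refine Finset.sum_congr rfl fun x _ => ?_
    ring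
  rw [h2, Cfsg.Agent.S0141.sum_classIndicator_mul g F hF]
  have h3 : (Nat.card (Subgroup.centralizer ({g} : Set G)) : ℂ)
      * ((Subgroup.centralizer ({g} : Set G)).index : ℂ) = (Nat.card G : ℂ) := by
    have := (Subgroup.centralizer ({g} : Set G)).card_mul_index
    exact_mod_cast this
  have h4 : (Nat.card G : ℂ)⁻¹ * ((Nat.card (Subgroup.centralizer ({g} : Set G)) : ℂ) *
      (((Subgroup.centralizer ({g} : Set G)).index : ℂ) * F g))
      = (Nat.card G : ℂ)⁻¹ * ((Nat.card (Subgroup.centralizer ({g} : Set G)) : ℂ) *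
      ((Subgroup.centralizer ({g} : Set G)).index : ℂ)) * F g := by ring
  rw [h4, h3, inv_mul_cancel₀ hG0, one_mul]

end Fourier

end Cfsg.Agent.Lib.Helper8
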