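import Mathlib
import Cfsg.Prelude.Def_Blocks
import Cfsg.Agent.Lib.Helper8.BlockOmega

/-!
# The coefficients of a block idempotent are local integers
-/

set_option autoImplicit false

namespace Cfsg.Agent.Lib.Helper8

open Cfsg
open scoped ComplexConjugate
open Cfsg.Agent.Lib.Helper1 Cfsg.Agent.Lib.Helper4

universe u

section

variable {G : Type u} [Group G] [Fintype G] {M : Ideal AlgInt}

/-- Values of central characters of irreducible characters at class sums are algebraic integers. -/
theorem isIntegral_centralChar {χ : G → ℂ} (hχ : IsIrrCharacter G χ) (g : G) :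
    IsIntegral ℤ (centralChar χ g) := by
  obtain ⟨n, ρ, hρ, rfl⟩ := hχ
  have := Cfsg.Agent.S0141.result ρ g
  unfold centralChar
  rw [Representation.char_one]
  exact this

theorem memLocalRing_centralChar (hM : M ≠ ⊤) {χ : G → ℂ} (hχ : IsIrrCharacter G χ) (g : G) :
    MemLocalRing M (centralChar χ g) :=
  memLocalRing_of_isIntegral hM (isIntegral_centralChar hχ g)

/-- The central character of an irreducible character at a class function, as a sum over the
conjugacy classes. -/
theorem omega_eq_sum_classes [Fintype (ConjClasses G)] {χ : G → ℂ} (hχ : IsIrrCharacter G χ)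
    {F : G → ℂ} (hF : IsClassFunction G F) :
    omega χ F = ∑ c : ConjClasses G, F (Quotient.out c) * centralChar χ (Quotient.out c) := by
  have hcf : IsClassFunction G (fun g => F g * χ g) := by
    intro g h
    simp only
    rw [hF g h, isClassFunction_irr hχ g h]
  unfold omega
  rw [Cfsg.Agent.S0135.sum_by_classes _ hcf, Finset.sum_div]
  refine Finset.sum_congr rfl fun c _ => ?_
  unfold centralChar
  ring

/-- The central character of a class function with values in the local ring lies in the local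
ring. -/
theorem memLocalRing_omega (hM : M.IsPrime) {χ : G → ℂ} (hχ : IsIrrCharacter G χ)
    {F : G → ℂ} (hF : IsClassFunction G F) (hFS : ∀ g, MemLocalRing M (F g)) :
    MemLocalRing M (omega χ F) := by
  classical
  have : Fintype (ConjClasses G) := Fintype.ofFinite _
  rw [omega_eq_sum_classes hχ hF]
  apply memLocalRing_sum hM
  intro c _
  exact memLocalRing_mul hM (hFS _) (memLocalRing_centralChar hM.ne_top hχ _)

theorem memLocalRing_conv (hM : M.IsPrime) {f h : G → ℂ} (hf : ∀ g, MemLocalRing M (f g))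
    (hh : ∀ g, MemLocalRing M (h g)) (x : G) : MemLocalRing M (conv f h x) := by
  rw [conv_apply]
  apply memLocalRing_sum hM
  intro y _
  exact memLocalRing_mul hM (hf _) (hh _)

/-- The ring of functions on the irreducible characters of the form `ψ ↦ ω_ψ(F)` for a class
function `F` with values in the local ring. -/
def omegaRing (M : Ideal AlgInt) (hM : M.IsPrime) (G : Type u) [Group G] [Fintype G] :
    Subring (IrrCharacter G → ℂ) where
  carrier := {Ω | ∃ F : G → ℂ, IsClassFunction G F ∧ (∀ g, MemLocalRing M (F g)) ∧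
    ∀ ψ : IrrCharacter G, omega (ψ : G → ℂ) F = Ω ψ}
  mul_mem' := by
    rintro a b ⟨F, hF, hFS, hFa⟩ ⟨H, hH, hHS, hHb⟩
    refine ⟨conv F H, isClassFunction_conv hF hH, memLocalRing_conv hM hFS hHS, fun ψ => ?_⟩
    rw [omega_conv ψ.2 hH, hFa, hHb]
    rfl
  one_mem' := by
    classical
    refine ⟨deltaOne, isClassFunction_deltaOne, fun g => ?_, fun ψ => ?_⟩
    · unfold deltaOne
      split_ifs
      · exact memLocalRing_one hM.ne_top
      · exact memLocalRing_zero hM.ne_top
    · rw [omega_deltaOne (irr_apply_one_ne_zero ψ.2)]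
      rfl
  add_mem' := by
    rintro a b ⟨F, hF, hFS, hFa⟩ ⟨H, hH, hHS, hHb⟩
    refine ⟨F + H, isClassFunction_add' hF hH, fun g => memLocalRing_add hM (hFS g) (hHS g),
      fun ψ => ?_⟩
    rw [omega_add, hFa, hHb]
    rfl
  zero_mem' := by
    refine ⟨0, isClassFunction_zero', fun g => memLocalRing_zero hM.ne_top, fun ψ => ?_⟩
    rw [omega_zero]
    rfl
  neg_mem' := by
    rintro a ⟨F, hF, hFS, hFa⟩
    refine ⟨-F, isClassFunction_neg' hF, fun g => memLocalRing_neg (hFS g), fun ψ => ?_⟩
    rw [omega_neg, hFa]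
    rfl

theorem mem_omegaRing_iff (hM : M.IsPrime) (Ω : IrrCharacter G → ℂ) :
    Ω ∈ omegaRing M hM G ↔ ∃ F : G → ℂ, IsClassFunction G F ∧ (∀ g, MemLocalRing M (F g)) ∧
      ∀ ψ : IrrCharacter G, omega (ψ : G → ℂ) F = Ω ψ :=
  Iff.rfl

theorem const_mem_omegaRing (hM : M.IsPrime) {c : ℂ} (hc : MemLocalRing M c) :
    (fun _ : IrrCharacter G => c) ∈ omegaRing M hM G := by
  classical
  refine ⟨c • deltaOne, isClassFunction_smul c isClassFunction_deltaOne, fun g => ?_, fun ψ => ?_⟩
  · simp only [Pi.smul_apply, smul_eq_mul]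
    unfold deltaOne
    split_ifs
    · simpa using hc
    · simpa using memLocalRing_zero hM.ne_top
  · rw [omega_smul, omega_deltaOne (irr_apply_one_ne_zero ψ.2), mul_one]

theorem centralChar_mem_omegaRing (hM : M.IsPrime) (g : G) :
    (fun ψ : IrrCharacter G => centralChar (ψ : G → ℂ) g) ∈ omegaRing M hM G := by
  classical
  refine ⟨classIndicator g, classIndicator_isClassFunction g, fun x => ?_, fun ψ => ?_⟩
  · unfold classIndicator
    split_ifs
    · exact memLocalRing_one hM.ne_top
    · exact memLocalRing_zero hM.ne_top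
  · rw [omega_classIndicator (isClassFunction_irr ψ.2)]

theorem apply_memLocalRing_of_mem_omegaRing (hM : M.IsPrime) {Ω : IrrCharacter G → ℂ}
    (hΩ : Ω ∈ omegaRing M hM G) (ψ : IrrCharacter G) : MemLocalRing M (Ω ψ) := by
  obtain ⟨F, hF, hFS, hFΩ⟩ := hΩ
  rw [← hFΩ]
  exact memLocalRing_omega hM ψ.2 hF hFS

end

section Blocks

variable {G : Type u} [Group G] [Fintype G] {M : Ideal AlgInt}

set_option linter.unusedSectionVars false

omit [Fintype G] in
theorem sameBlock_refl (hM : M ≠ ⊤) (χ : G → ℂ) : SameBlock M χ χ := by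
  intro g
  rw [sub_self]
  exact memLocalIdeal_zero hM

omit [Fintype G] in
theorem sameBlock_symm {χ ψ : G → ℂ} (h : SameBlock M χ ψ) : SameBlock M ψ χ := by
  intro g
  have := memLocalIdeal_neg (h g)
  rwa [neg_sub] at this

omit [Fintype G] in
theorem sameBlock_trans (hM : M.IsPrime) {χ ψ φ : G → ℂ} (h1 : SameBlock M χ ψ)
    (h2 : SameBlock M ψ φ) : SameBlock M χ φ := by
  intro g
  have := memLocalIdeal_add hM (h1 g) (h2 g)
  rwa [sub_add_sub_cancel] at this

open Classical in
/-- The indicator function of a block belongs to the ring of central character functions. -/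
theorem indicator_mem_omegaRing (hM : M.IsPrime) [Fintype (IrrCharacter G)] (χ₀ : IrrCharacter G) :
    (fun ψ : IrrCharacter G =>
      if (SameBlock M (χ₀ : G → ℂ) (ψ : G → ℂ)) then (1 : ℂ) else 0) ∈ omegaRing M hM G := by
  set R := omegaRing M hM G with hR
  -- separating elements
  have hsep : ∀ ψ : IrrCharacter G, ¬ SameBlock M (χ₀ : G → ℂ) (ψ : G → ℂ) →
      ∃ g : G, ¬ MemLocalIdeal M (centralChar (χ₀ : G → ℂ) g - centralChar (ψ : G → ℂ) g) := by
    intro ψ h
    unfold SameBlock at h
    push Not at h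
    exact h
  choose! gs hgs using hsep
  let d : IrrCharacter G → ℂ := fun ψ =>
    centralChar (χ₀ : G → ℂ) (gs ψ) - centralChar (ψ : G → ℂ) (gs ψ)
  have hdS : ∀ ψ, MemLocalRing M (d ψ) := fun ψ =>
    memLocalRing_sub hM (memLocalRing_centralChar hM.ne_top χ₀.2 _)
      (memLocalRing_centralChar hM.ne_top ψ.2 _)
  let T : Finset (IrrCharacter G) :=
    Finset.univ.filter (fun ψ => ¬ SameBlock M (χ₀ : G → ℂ) (ψ : G → ℂ))
  let B : Finset (IrrCharacter G) :=
    Finset.univ.filter (fun ψ => SameBlock M (χ₀ : G → ℂ) (ψ : G → ℂ))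
  -- the factor attached to `ψ ∉ B`
  let fac : IrrCharacter G → (IrrCharacter G → ℂ) := fun ψ =>
    ((fun φ : IrrCharacter G => centralChar (φ : G → ℂ) (gs ψ))
      - (fun _ : IrrCharacter G => centralChar (ψ : G → ℂ) (gs ψ)))
      * (fun _ : IrrCharacter G => (d ψ)⁻¹)
  have hfac : ∀ ψ ∈ T, fac ψ ∈ R := by
    intro ψ hψ
    have hψ' : ¬ SameBlock M (χ₀ : G → ℂ) (ψ : G → ℂ) := (Finset.mem_filter.1 hψ).2
    refine R.mul_mem (R.sub_mem (centralChar_mem_omegaRing hM _) (const_mem_omegaRing hM
      (memLocalRing_centralChar hM.ne_top ψ.2 _))) (const_mem_omegaRing hM ?_)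
    exact memLocalRing_inv (hdS ψ) (hgs ψ hψ')
  let U : IrrCharacter G → ℂ := ∏ ψ ∈ T, fac ψ
  have hU : U ∈ R := R.prod_mem hfac
  have hU0 : ∀ φ ∈ T, U φ = 0 := by
    intro φ hφ
    simp only [U, Finset.prod_apply]
    apply Finset.prod_eq_zero hφ
    simp [fac]
  have hU1 : ∀ φ ∈ B, MemLocalIdeal M (U φ - 1) := by
    intro φ hφ
    have hφ' : SameBlock M (χ₀ : G → ℂ) (φ : G → ℂ) := (Finset.mem_filter.1 hφ).2
    simp only [U, Finset.prod_apply]
    apply memLocalIdeal_prod_sub_one hM
    intro ψ hψ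
    have hψ' : ¬ SameBlock M (χ₀ : G → ℂ) (ψ : G → ℂ) := (Finset.mem_filter.1 hψ).2
    have hd0 : d ψ ≠ 0 := by
      intro h0
      apply hgs ψ hψ'
      show MemLocalIdeal M (d ψ)
      rw [h0]
      exact memLocalIdeal_zero hM.ne_top
    have h1 : fac ψ φ - 1 = (centralChar (φ : G → ℂ) (gs ψ) - centralChar (χ₀ : G → ℂ) (gs ψ))
        * (d ψ)⁻¹ := by
      simp only [fac, Pi.mul_apply, Pi.sub_apply]
      field_simp
      simp only [d]
      ring
    rw [h1]
    apply memLocalIdeal_mul_right hM _ (memLocalRing_inv (hdS ψ) (hgs ψ hψ'))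
    have := memLocalIdeal_neg (hφ' (gs ψ))
    rwa [neg_sub] at this
  -- the second stage
  let c : ℂ := ∏ χ ∈ B, (- U χ)
  have hcS : MemLocalRing M c := memLocalRing_prod hM _ _ fun χ _ =>
    memLocalRing_neg (apply_memLocalRing_of_mem_omegaRing hM hU χ)
  have hUunit : ∀ χ ∈ B, ¬ MemLocalIdeal M (U χ) := fun χ hχ =>
    not_memLocalIdeal_of_sub_one hM (hU1 χ hχ)
  have hcunit : ¬ MemLocalIdeal M c := by
    have key : ∀ s : Finset (IrrCharacter G), s ⊆ B →
        MemLocalRing M (∏ χ ∈ s, (- U χ)) ∧ ¬ MemLocalIdeal M (∏ χ ∈ s, (- U χ)) := by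
      intro s
      induction s using Finset.induction_on with
      | empty =>
        intro _
        simp only [Finset.prod_empty]
        exact ⟨memLocalRing_one hM.ne_top, not_memLocalIdeal_one hM⟩
      | insert a s ha ih =>
        intro hs
        rw [Finset.prod_insert ha]
        have haB : a ∈ B := hs (Finset.mem_insert_self _ _)
        have h1 := ih (fun x hx => hs (Finset.mem_insert_of_mem hx))
        have h2 : MemLocalRing M (- U a) :=
          memLocalRing_neg (apply_memLocalRing_of_mem_omegaRing hM hU a)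
        have h3 : ¬ MemLocalIdeal M (- U a) := by
          intro h
          apply hUunit a haB
          have := memLocalIdeal_neg h
          rwa [neg_neg] at this
        exact ⟨memLocalRing_mul hM h2 h1.1, not_memLocalIdeal_mul hM h2 h1.1 h3 h1.2⟩
    exact (key B (Finset.Subset.refl _)).2
  have hc0 : c ≠ 0 := by
    intro h0
    apply hcunit
    rw [h0]
    exact memLocalIdeal_zero hM.ne_top
  let V : IrrCharacter G → ℂ :=
    1 - (∏ χ ∈ B, (U - fun _ : IrrCharacter G => U χ)) * (fun _ : IrrCharacter G => c⁻¹)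
  have hV : V ∈ R := by
    refine R.sub_mem R.one_mem (R.mul_mem (R.prod_mem fun χ _ => R.sub_mem hU
      (const_mem_omegaRing hM (apply_memLocalRing_of_mem_omegaRing hM hU χ)))
      (const_mem_omegaRing hM (memLocalRing_inv hcS hcunit)))
  have hVeq : V = (fun ψ : IrrCharacter G =>
      if SameBlock M (χ₀ : G → ℂ) (ψ : G → ℂ) then (1 : ℂ) else 0) := by
    funext φ
    by_cases hφ : SameBlock M (χ₀ : G → ℂ) (φ : G → ℂ)
    · rw [if_pos hφ]
      have hφB : φ ∈ B := Finset.mem_filter.2 ⟨Finset.mem_univ _, hφ⟩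
      simp only [V, Pi.sub_apply, Pi.one_apply, Pi.mul_apply, Finset.prod_apply]
      rw [Finset.prod_eq_zero hφB (by simp)]
      simp
    · rw [if_neg hφ]
      have hφT : φ ∈ T := Finset.mem_filter.2 ⟨Finset.mem_univ _, hφ⟩
      simp only [V, Pi.sub_apply, Pi.one_apply, Pi.mul_apply, Finset.prod_apply]
      rw [hU0 φ hφT]
      simp only [zero_sub]
      show 1 - c * c⁻¹ = 0
      rw [mul_inv_cancel₀ hc0, sub_self]
  have := hV
  rw [hVeq] at this
  convert this

end Blocks

end Cfsg.Agent.Lib.Helper8
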