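import Mathlib
import Cfsg.Prelude.Def_Blocks
import Cfsg.Agent.Lib.Helper8.BlockIdem

/-!
# Basic properties of the block idempotent coefficients `blockCoeff`
-/

set_option autoImplicit false

namespace Cfsg.Agent.Lib.Helper8

open Cfsg
open scoped ComplexConjugate
open Cfsg.Agent.Lib.Helper1 Cfsg.Agent.Lib.Helper4

universe u

section

variable {G : Type u} [Group G] [Fintype G] {M : Ideal AlgInt}

/-- `blockCoeff` as a finite sum. -/
theorem blockCoeff_eq_sum [Fintype (IrrCharacter G)] (B : Set (IrrCharacter G)) (g : G) :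
    blockCoeff B g = (Nat.card G : ℂ)⁻¹ * ∑ ψ : IrrCharacter G,
      (by classical exact if ψ ∈ B then (1 : ℂ) else 0) * (ψ : G → ℂ) 1 * conj ((ψ : G → ℂ) g) := by
  classical
  unfold blockCoeff
  congr 1
  rw [finsum_mem_eq_finite_toFinset_sum _ (Set.toFinite B)]
  rw [← Finset.sum_filter_add_sum_filter_not Finset.univ (fun ψ => ψ ∈ B)]
  have h0 : ∑ ψ ∈ Finset.univ.filter (fun ψ => ¬ ψ ∈ B),
      (if ψ ∈ B then (1 : ℂ) else 0) * (ψ : G → ℂ) 1 * conj ((ψ : G → ℂ) g) = 0 := by
    apply Finset.sum_eq_zero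
    intro ψ hψ
    rw [if_neg (Finset.mem_filter.1 hψ).2]
    ring
  rw [h0, add_zero]
  have hset : (Set.toFinite B).toFinset = Finset.univ.filter (fun ψ => ψ ∈ B) := by
    ext ψ
    simp
  rw [hset]
  refine Finset.sum_congr rfl fun ψ hψ => ?_
  rw [if_pos (Finset.mem_filter.1 hψ).2, one_mul]

/-- Any class function whose central characters are the indicator of `B` is `blockCoeff B`. -/
theorem eq_blockCoeff_of_omega [Fintype (IrrCharacter G)] (B : Set (IrrCharacter G)) {F : G → ℂ}
    (hF : IsClassFunction G F)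
    (hω : ∀ ψ : IrrCharacter G, omega (ψ : G → ℂ) F
      = (by classical exact if ψ ∈ B then (1 : ℂ) else 0)) : F = blockCoeff B := by
  funext g
  rw [classFunction_eq_sum_omega hF g, blockCoeff_eq_sum B g]
  congr 1
  refine Finset.sum_congr rfl fun ψ _ => ?_
  rw [hω ψ]

omit [Fintype G] in
theorem blockOf_eq_setOf (χ : G → ℂ) :
    blockOf M χ = {ψ : IrrCharacter G | SameBlock M χ (ψ : G → ℂ)} := rfl

/-- For a block `B`, there is a class function with values in the local ring whose central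
characters are the indicator of `B`; it equals `blockCoeff B`. -/
theorem blockCoeff_spec (hM : M.IsPrime) {B : Set (IrrCharacter G)} (hB : IsPBlock M B) :
    IsClassFunction G (blockCoeff B) ∧ (∀ g, MemLocalRing M (blockCoeff B g)) ∧
      ∀ ψ : IrrCharacter G, omega (ψ : G → ℂ) (blockCoeff B)
        = (by classical exact if ψ ∈ B then (1 : ℂ) else 0) := by
  classical
  have : Fintype (IrrCharacter G) := Fintype.ofFinite _
  obtain ⟨χ₀, rfl⟩ := hB
  obtain ⟨F, hF, hFS, hFω⟩ := indicator_mem_omegaRing hM χ₀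
  have hFω' : ∀ ψ : IrrCharacter G, omega (ψ : G → ℂ) F
      = (if ψ ∈ blockOf M (χ₀ : G → ℂ) then (1 : ℂ) else 0) := by
    intro ψ
    rw [hFω ψ]
    rfl
  have hEq : F = blockCoeff (blockOf M (χ₀ : G → ℂ)) := by
    apply eq_blockCoeff_of_omega _ hF
    intro ψ
    rw [hFω' ψ]
  rw [← hEq]
  refine ⟨hF, hFS, fun ψ => ?_⟩
  rw [hFω' ψ]

end

/-- The coefficients of a block idempotent are local integers. -/
theorem blockCoeff_memLocalRing {G : Type u} [Group G] [Finite G] {M : Ideal AlgInt}
    (hM : M.IsPrime) {B : Set (IrrCharacter G)} (hB : IsPBlock M B) (g : G) :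
    MemLocalRing M (blockCoeff B g) := by
  have : Fintype G := Fintype.ofFinite G
  exact (blockCoeff_spec hM hB).2.1 g

end Cfsg.Agent.Lib.Helper8
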