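import Mathlib
import Cfsg.Prelude.Def_Blocks
import Cfsg.Agent.Lib.Helper8.BlockLocal

/-!
# Traces of idempotents with local-integer entries against `p`-singular permutations

The key linear-algebra fact behind Osima's theorem and weak block orthogonality: if `Π` is an
idempotent matrix with entries in the local ring, commuting with the permutation matrix of a
permutation `γ` all of whose cycles have length divisible by `p`, then `trace (Γ Π) = 0`.
-/

set_option autoImplicit false

namespace Cfsg.Agent.Lib.Helper8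

open Cfsg Matrix

universe u

section Core

variable {X : Type u} [Fintype X] [DecidableEq X] {M : Ideal AlgInt} {p : ℕ}

/-- A matrix congruent to the identity modulo the local ideal has nonzero determinant. -/
theorem det_ne_zero_of_sub_one_memLocalIdeal (hM : M.IsPrime) (A : Matrix X X ℂ)
    (hA : ∀ i j, MemLocalIdeal M ((A - 1) i j)) : A.det ≠ 0 := by
  have hAS : ∀ i j, MemLocalRing M (A i j) := by
    intro i j
    have h1 : A i j = (A - 1) i j + (1 : Matrix X X ℂ) i j := by simp
    rw [h1]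
    apply memLocalRing_add hM (memLocalRing_of_memLocalIdeal (hA i j))
    rw [Matrix.one_apply]
    split_ifs
    · exact memLocalRing_one hM.ne_top
    · exact memLocalRing_zero hM.ne_top
  let S := localRing M hM
  let J := localIdeal M hM
  let A' : Matrix X X S := fun i j => ⟨A i j, hAS i j⟩
  have hmap : A = S.subtype.mapMatrix A' := by
    ext i j
    rfl
  have hdet : A.det = S.subtype A'.det := by
    rw [hmap, ← RingHom.map_det]
  have hone : (Ideal.Quotient.mk J).mapMatrix A' = 1 := by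
    ext i j
    simp only [RingHom.mapMatrix_apply, Matrix.map_apply]
    rw [Matrix.one_apply]
    by_cases hij : i = j
    · rw [if_pos hij, ← map_one (Ideal.Quotient.mk J), Ideal.Quotient.eq]
      show MemLocalIdeal M (((A' i j - 1 : S) : ℂ))
      have := hA i j
      rw [Matrix.sub_apply, Matrix.one_apply, if_pos hij] at this
      simpa [A'] using this
    · rw [if_neg hij, Ideal.Quotient.eq_zero_iff_mem]
      show MemLocalIdeal M ((A' i j : ℂ))
      have := hA i j
      rw [Matrix.sub_apply, Matrix.one_apply, if_neg hij, sub_zero] at this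
      exact this
  have hdet1 : Ideal.Quotient.mk J A'.det = 1 := by
    rw [RingHom.map_det, hone, Matrix.det_one]
  intro h0
  rw [hdet] at h0
  have h1 : A'.det = 0 := by
    apply Subtype.ext
    simpa using h0
  rw [h1, map_zero] at hdet1
  have : (1 : S) ∈ J := by
    rw [← Ideal.Quotient.eq_zero_iff_mem]
    exact hdet1.symm
  exact localIdeal_ne_top hM ((Ideal.eq_top_iff_one J).2 this)

/-- If every cycle of `γ` has length divisible by `p` and `ζ ^ p = 1`, there is a function `d`
with values `p`-th roots of unity satisfying `d (γ x) = ζ * d x`. -/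
theorem exists_twist (hp : p ≠ 0) (γ : Equiv.Perm X) (ζ : ℂ) (hζ : ζ ^ p = 1)
    (hγ : ∀ (x : X) (n : ℤ), (γ ^ n) x = x → (p : ℤ) ∣ n) :
    ∃ d : X → ℂ, (∀ x, d x ^ p = 1) ∧ ∀ x, d (γ x) = ζ * d x := by
  classical
  have hζ0 : ζ ≠ 0 := by
    rintro rfl
    rw [zero_pow hp] at hζ
    exact zero_ne_one hζ
  have hζz : ∀ k : ℤ, ζ ^ ((p : ℤ) * k) = 1 := by
    intro k
    rw [_root_.zpow_mul, zpow_natCast, hζ, _root_.one_zpow]
  let s : Setoid X := Equiv.Perm.SameCycle.setoid γ
  let r : X → X := fun x => Quotient.out (Quotient.mk s x)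
  have hr : ∀ x, γ.SameCycle (r x) x := fun x => Quotient.mk_out (s := s) x
  have hrγ : ∀ x, r (γ x) = r x := by
    intro x
    have : Quotient.mk s (γ x) = Quotient.mk s x := by
      apply Quotient.sound
      show γ.SameCycle (γ x) x
      exact ⟨-1, by simp⟩
    simp only [r, this]
  choose e he using hr
  refine ⟨fun x => ζ ^ (e x), fun x => ?_, fun x => ?_⟩
  · rw [← zpow_natCast, ← _root_.zpow_mul, mul_comm, hζz]
  · have h1 : (γ ^ (e (γ x))) (r x) = γ x := by
      have := he (γ x)
      rwa [hrγ x] at this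
    have h2 : (γ ^ (e x + 1)) (r x) = γ x := by
      rw [add_comm, _root_.zpow_add, zpow_one, Equiv.Perm.mul_apply, he x]
    have h3 : (γ ^ (e (γ x) - (e x + 1))) (r x) = r x := by
      rw [sub_eq_add_neg, add_comm, _root_.zpow_add, Equiv.Perm.mul_apply, h1, ← h2, ← Equiv.Perm.mul_apply,
        ← _root_.zpow_add, neg_add_cancel, zpow_zero, Equiv.Perm.one_apply]
    obtain ⟨k, hk⟩ := hγ _ _ h3
    have h4 : e (γ x) = (p : ℤ) * k + (e x + 1) := by omega
    show ζ ^ e (γ x) = ζ * ζ ^ e x
    rw [h4, zpow_add₀ hζ0, hζz, one_mul, zpow_add₀ hζ0, zpow_one, mul_comm]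

/-- Permutation matrix with the convention `permMat γ i j = 1` iff `i = γ j`, so that it maps
the basis vector `j` to the basis vector `γ j`. -/
def permMat (γ : Equiv.Perm X) : Matrix X X ℂ := Matrix.of fun i j => if i = γ j then 1 else 0

theorem permMat_apply (γ : Equiv.Perm X) (i j : X) :
    permMat γ i j = if i = γ j then 1 else 0 := rfl

/-- **Key trace lemma.**  If all cycles of `γ` have length divisible by `p`, and `A` is an
idempotent matrix with entries in the local ring commuting with the permutation matrix `Γ` of `γ`,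
then `trace (Γ * A) = 0`. -/
theorem trace_permMat_mul_eq_zero (hM : IsPModular p M) (γ : Equiv.Perm X)
    (hγ : ∀ (x : X) (n : ℤ), (γ ^ n) x = x → (p : ℤ) ∣ n)
    (A : Matrix X X ℂ) (hAS : ∀ i j, MemLocalRing M (A i j)) (hA : A * A = A)
    (hcomm : permMat γ * A = A * permMat γ) : Matrix.trace (permMat γ * A) = 0 := by
  have hMp : M.IsPrime := isPModular_isPrime hM
  have hp : p.Prime := hM.1
  -- a primitive `p`-th root of unity
  obtain ⟨ζ, hζp, hζ1⟩ : ∃ ζ : ℂ, ζ ^ p = 1 ∧ ζ ≠ 1 := by
    have hprim := Complex.isPrimitiveRoot_exp p hp.ne_zero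
    exact ⟨_, hprim.pow_eq_one, hprim.ne_one hp.one_lt⟩
  have hζ0 : ζ ≠ 0 := by
    rintro rfl
    rw [zero_pow hp.ne_zero] at hζp
    exact zero_ne_one hζp
  obtain ⟨d, hdp, hdγ⟩ := exists_twist hp.ne_zero γ ζ hζp hγ
  have hd0 : ∀ x, d x ≠ 0 := by
    intro x h0
    have := hdp x
    rw [h0, zero_pow hp.ne_zero] at this
    exact zero_ne_one this
  set Γ := permMat γ with hΓ
  let D : Matrix X X ℂ := Matrix.diagonal d
  let Di : Matrix X X ℂ := Matrix.diagonal fun x => (d x)⁻¹
  have hDDi : D * Di = 1 := by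
    simp only [D, Di, Matrix.diagonal_mul_diagonal]
    rw [← Matrix.diagonal_one]
    congr 1
    funext x
    exact mul_inv_cancel₀ (hd0 x)
  have hDiD : Di * D = 1 := by
    simp only [D, Di, Matrix.diagonal_mul_diagonal]
    rw [← Matrix.diagonal_one]
    congr 1
    funext x
    exact inv_mul_cancel₀ (hd0 x)
  -- `D Γ = ζ Γ D`
  have hDΓ : D * Γ = ζ • (Γ * D) := by
    ext i j
    simp only [D, Matrix.diagonal_mul, Matrix.mul_diagonal, Matrix.smul_apply, smul_eq_mul, hΓ,
      permMat_apply]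
    by_cases hij : i = γ j
    · rw [if_pos hij, hij, hdγ j]
      ring
    · rw [if_neg hij]
      ring
  have hΓDi : Γ * Di = ζ • (Di * Γ) := by
    have h1 : Di * (D * Γ) * Di = Di * (ζ • (Γ * D)) * Di := by rw [hDΓ]
    rw [← Matrix.mul_assoc, hDiD, Matrix.one_mul] at h1
    rw [h1, Matrix.mul_smul, Matrix.smul_mul, Matrix.mul_assoc, Matrix.mul_assoc, hDDi,
      Matrix.mul_one]
  have hΓD : Γ * D = ζ⁻¹ • (D * Γ) := by
    rw [hDΓ, smul_smul, inv_mul_cancel₀ hζ0, one_smul]
  -- the twisted idempotent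
  obtain ⟨A', hA'def⟩ : ∃ A' : Matrix X X ℂ, A' = Di * A * D := ⟨_, rfl⟩
  have hA' : A' * A' = A' := by
    rw [hA'def]
    calc Di * A * D * (Di * A * D) = Di * A * (D * Di) * A * D := by
          simp only [Matrix.mul_assoc]
      _ = Di * (A * A) * D := by rw [hDDi]; simp only [Matrix.mul_one, Matrix.mul_assoc]
      _ = Di * A * D := by rw [hA]
  have hcomm' : Γ * A' = A' * Γ := by
    rw [hA'def]
    calc Γ * (Di * A * D) = (Γ * Di) * A * D := by simp only [Matrix.mul_assoc]
      _ = ζ • (Di * (Γ * A) * D) := by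
          rw [hΓDi]; simp only [Matrix.smul_mul, Matrix.mul_assoc]
      _ = ζ • (Di * A * (Γ * D)) := by rw [hcomm]; simp only [Matrix.mul_assoc]
      _ = ζ • (Di * A * (ζ⁻¹ • (D * Γ))) := by rw [hΓD]
      _ = Di * A * D * Γ := by
          rw [Matrix.mul_smul, smul_smul, mul_inv_cancel₀ hζ0, one_smul]
          simp only [Matrix.mul_assoc]
  -- the conjugating matrix
  obtain ⟨W, hWdef⟩ : ∃ W : Matrix X X ℂ, W = A * A' + (1 - A) * (1 - A') := ⟨_, rfl⟩
  have hA1 : A * (1 - A) = 0 := by rw [Matrix.mul_sub, Matrix.mul_one, hA, sub_self]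
  have hA1' : (1 - A') * A' = 0 := by rw [Matrix.sub_mul, Matrix.one_mul, hA', sub_self]
  have hAW : A * W = A * A' := by
    rw [hWdef, Matrix.mul_add, ← Matrix.mul_assoc, hA, ← Matrix.mul_assoc, hA1, Matrix.zero_mul,
      add_zero]
  have hWA' : W * A' = A * A' := by
    rw [hWdef, Matrix.add_mul, Matrix.mul_assoc, hA', Matrix.mul_assoc (1 - A), hA1',
      Matrix.mul_zero, add_zero]
  have hΓW : Γ * W = W * Γ := by
    rw [hWdef]
    have e1 : Γ * (A * A') = A * A' * Γ := by
      rw [← Matrix.mul_assoc, hcomm, Matrix.mul_assoc, hcomm', Matrix.mul_assoc]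
    have e2 : Γ * (1 - A) = (1 - A) * Γ := by
      rw [Matrix.mul_sub, Matrix.sub_mul, Matrix.mul_one, Matrix.one_mul, hcomm]
    have e3 : Γ * (1 - A') = (1 - A') * Γ := by
      rw [Matrix.mul_sub, Matrix.sub_mul, Matrix.mul_one, Matrix.one_mul, hcomm']
    rw [Matrix.mul_add, Matrix.add_mul, e1, ← Matrix.mul_assoc, e2, Matrix.mul_assoc (1 - A), e3,
      ← Matrix.mul_assoc]
  -- `W ≡ 1`
  have hE : ∀ i j, MemLocalIdeal M ((A' - A) i j) := by
    intro i j
    have h1 : (A' - A) i j = A i j * ((d i)⁻¹ * d j - 1) := by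
      rw [hA'def]
      simp only [Di, D, Matrix.sub_apply, Matrix.mul_diagonal, Matrix.diagonal_mul]
      ring
    rw [h1]
    apply memLocalIdeal_mul_left hMp (hAS i j)
    apply memLocalIdeal_sub_one_of_pow_eq_one hM 1
    rw [pow_one, mul_pow, inv_pow, hdp, hdp, inv_one, one_mul]
  have hW1 : W - 1 = (2 : ℂ) • (A * (A' - A)) - (A' - A) := by
    have e1 : A * (A' - A) = A * A' - A := by rw [Matrix.mul_sub, hA]
    have e2 : (1 - A) * (1 - A') = 1 - A - A' + A * A' := by
      rw [Matrix.sub_mul, Matrix.one_mul, Matrix.mul_sub, Matrix.mul_one]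
      abel
    rw [hWdef, e1, e2, two_smul]
    abel
  have hWJ : ∀ i j, MemLocalIdeal M ((W - 1) i j) := by
    intro i j
    rw [hW1, Matrix.sub_apply, Matrix.smul_apply, smul_eq_mul]
    apply memLocalIdeal_sub hMp _ (hE i j)
    apply memLocalIdeal_mul_left hMp
    · have : (2 : ℂ) = ((2 : ℕ) : ℂ) := by norm_num
      rw [this]
      exact memLocalRing_natCast hMp.ne_top 2
    · rw [Matrix.mul_apply]
      apply memLocalIdeal_sum hMp
      intro k _
      exact memLocalIdeal_mul_left hMp (hAS i k) (hE k j)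
  have hdetW : IsUnit W.det := isUnit_iff_ne_zero.2 (det_ne_zero_of_sub_one_memLocalIdeal hMp W hWJ)
  have hWinv : W⁻¹ * W = 1 := Matrix.nonsing_inv_mul W hdetW
  have hWinv' : W * W⁻¹ = 1 := Matrix.mul_nonsing_inv W hdetW
  -- `A = W A' W⁻¹`
  have hAeq : A = W * A' * W⁻¹ := by
    rw [hWA', ← hAW, Matrix.mul_assoc, hWinv', Matrix.mul_one]
  have ht1 : Matrix.trace (Γ * A) = Matrix.trace (Γ * A') := by
    conv_lhs => rw [hAeq]
    rw [← Matrix.mul_assoc, Matrix.trace_mul_comm, ← Matrix.mul_assoc, ← Matrix.mul_assoc,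
      Matrix.mul_assoc W⁻¹, hΓW, ← Matrix.mul_assoc, hWinv, Matrix.one_mul]
  have ht2 : Matrix.trace (Γ * A') = ζ * Matrix.trace (Γ * A) := by
    rw [hA'def, ← Matrix.mul_assoc, Matrix.trace_mul_comm, ← Matrix.mul_assoc, ← Matrix.mul_assoc, hDΓ,
      Matrix.smul_mul, Matrix.mul_assoc Γ, hDDi, Matrix.mul_one, Matrix.smul_mul,
      Matrix.trace_smul, smul_eq_mul]
  have ht3 : (1 - ζ) * Matrix.trace (Γ * A) = 0 := by
    rw [sub_mul, one_mul, ← ht2, ← ht1, sub_self]
  rcases mul_eq_zero.1 ht3 with h | h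
  · exact absurd (sub_eq_zero.1 h).symm hζ1
  · exact h

end Core

end Cfsg.Agent.Lib.Helper8
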