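import Mathlib
import Cfsg.Prelude.Def_Blocks
import Cfsg.Agent.Lib.Helper8.BlockCoeff
import Cfsg.Agent.Lib.Helper8.BlockTrace

/-!
# Osima's theorem and weak block orthogonality
-/

set_option autoImplicit false

namespace Cfsg.Agent.Lib.Helper8

open Cfsg
open scoped ComplexConjugate
open Cfsg.Agent.Lib.Helper1 Cfsg.Agent.Lib.Helper4

universe u

section

variable {G : Type u} [Group G] [Fintype G] [DecidableEq G] {M : Ideal AlgInt} {p : ℕ}

/-- The permutation `z ↦ y * z * x` of `G`. -/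
def twoSidedPerm (y x : G) : Equiv.Perm G where
  toFun z := y * z * x
  invFun z := y⁻¹ * z * x⁻¹
  left_inv z := by group
  right_inv z := by group

omit [Fintype G] [DecidableEq G] in
theorem twoSidedPerm_apply (y x z : G) : twoSidedPerm y x z = y * z * x := rfl

omit [Fintype G] [DecidableEq G] in
theorem twoSidedPerm_zpow (y x : G) (n : ℤ) (z : G) :
    (twoSidedPerm y x ^ n) z = y ^ n * z * x ^ n := by
  have hnat : ∀ k : ℕ, ∀ z : G, (twoSidedPerm y x ^ k) z = y ^ k * z * x ^ k := by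
    intro k
    induction k with
    | zero => intro z; simp
    | succ k ih =>
      intro z
      rw [pow_succ, Equiv.Perm.mul_apply, twoSidedPerm_apply, ih, pow_succ', pow_succ]
      group
  induction n using Int.induction_on generalizing z with
  | zero => simp
  | succ k _ =>
    have := hnat (k + 1) z
    rw [← zpow_natCast, ← zpow_natCast y, ← zpow_natCast x] at this
    exact_mod_cast this
  | pred k _ =>
    -- negative exponent
    have h1 := hnat (k + 1) (y ^ (-(k : ℤ) - 1) * z * x ^ (-(k : ℤ) - 1))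
    have h2 : (twoSidedPerm y x ^ (k + 1)) (y ^ (-(k : ℤ) - 1) * z * x ^ (-(k : ℤ) - 1)) = z := by
      rw [h1]
      have e1 : y ^ (k + 1) = y ^ ((k : ℤ) + 1) := by
        rw [← zpow_natCast]; push_cast; rfl
      have e2 : x ^ (k + 1) = x ^ ((k : ℤ) + 1) := by
        rw [← zpow_natCast]; push_cast; rfl
      rw [e1, e2]
      have e3 : y ^ ((k : ℤ) + 1) * (y ^ (-(k : ℤ) - 1) * z * x ^ (-(k : ℤ) - 1)) * x ^ ((k : ℤ) + 1)
          = (y ^ ((k : ℤ) + 1) * y ^ (-(k : ℤ) - 1)) * z * (x ^ (-(k : ℤ) - 1) * x ^ ((k : ℤ) + 1)) := by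
        group
      rw [e3, ← zpow_add, ← zpow_add]
      simp
    have h3 : (twoSidedPerm y x ^ (-(k : ℤ) - 1)) z
        = (twoSidedPerm y x ^ (-(k : ℤ) - 1)) ((twoSidedPerm y x ^ (k + 1))
          (y ^ (-(k : ℤ) - 1) * z * x ^ (-(k : ℤ) - 1))) := by rw [h2]
    rw [h3, ← Equiv.Perm.mul_apply, ← zpow_natCast, ← zpow_add]
    have : (-(k : ℤ) - 1 + ((k + 1 : ℕ) : ℤ)) = 0 := by push_cast; ring
    rw [this, zpow_zero, Equiv.Perm.one_apply]

omit [Fintype G] [DecidableEq G] in
/-- All cycles of `z ↦ y z x` have length divisible by `p` when `y` is `p`-singular and `x` is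
`p`-regular. -/
theorem twoSidedPerm_cycle (hp : p.Prime) [Finite G] {y x : G} (hy : p ∣ orderOf y)
    (hx : ¬ p ∣ orderOf x) (z : G) (n : ℤ) (h : (twoSidedPerm y x ^ n) z = z) : (p : ℤ) ∣ n := by
  rw [twoSidedPerm_zpow] at h
  have h1 : y ^ n = z * (x ^ n)⁻¹ * z⁻¹ := by
    have : y ^ n * z * x ^ n * (x ^ n)⁻¹ * z⁻¹ = z * (x ^ n)⁻¹ * z⁻¹ := by rw [h]
    rw [← this]
    group
  have h2 : (y ^ n) ^ (orderOf x) = 1 := by
    rw [h1]
    have : (z * (x ^ n)⁻¹ * z⁻¹) ^ (orderOf x) = z * ((x ^ n)⁻¹) ^ (orderOf x) * z⁻¹ := by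
      rw [← conj_pow]
    rw [this, inv_pow, ← zpow_natCast, ← zpow_mul, mul_comm, zpow_mul, zpow_natCast,
      pow_orderOf_eq_one, one_zpow, inv_one, mul_one, mul_inv_cancel]
  rw [← zpow_natCast, ← zpow_mul] at h2
  have h3 : (orderOf y : ℤ) ∣ n * (orderOf x : ℤ) := orderOf_dvd_iff_zpow_eq_one.2 h2
  have h4 : (p : ℤ) ∣ n * (orderOf x : ℤ) := (Int.natCast_dvd_natCast.2 hy).trans h3
  have hpp : Prime (p : ℤ) := Nat.prime_iff_prime_int.1 hp
  rcases hpp.dvd_or_dvd h4 with h5 | h5
  · exact h5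
  · exact absurd (Int.natCast_dvd_natCast.1 h5) hx

/-- The matrix of right multiplication by the group algebra element with coefficients `f`. -/
def rightMulMat (f : G → ℂ) : Matrix G G ℂ := Matrix.of fun i j => f (j⁻¹ * i)

omit [Fintype G] [DecidableEq G] in
theorem rightMulMat_apply (f : G → ℂ) (i j : G) : rightMulMat f i j = f (j⁻¹ * i) := rfl

omit [DecidableEq G] in
theorem rightMulMat_mul (f h : G → ℂ) : rightMulMat f * rightMulMat h = rightMulMat (conv h f) := by
  ext i j
  rw [Matrix.mul_apply, rightMulMat_apply, conv_apply]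
  rw [← Equiv.sum_comp (Equiv.mulLeft j)]
  refine Finset.sum_congr rfl fun t _ => ?_
  simp only [rightMulMat_apply, Equiv.coe_mulLeft]
  have e1 : j⁻¹ * (j * t) = t := by group
  have e2 : (j * t)⁻¹ * i = t⁻¹ * (j⁻¹ * i) := by group
  rw [e1, e2, mul_comm]

/-- **Weak block orthogonality, idempotent form.**  For a class function `f` with values in the
local ring which is idempotent for convolution, `∑ z, f (z⁻¹ y⁻¹ z x⁻¹) = 0` whenever `y` is
`p`-singular and `x` is `p`-regular. -/
theorem sum_idem_twisted_eq_zero (hM : IsPModular p M) {f : G → ℂ} (hf : IsClassFunction G f)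
    (hfS : ∀ g, MemLocalRing M (f g)) (hff : conv f f = f) {y x : G} (hy : p ∣ orderOf y)
    (hx : ¬ p ∣ orderOf x) : ∑ z : G, f (z⁻¹ * y⁻¹ * z * x⁻¹) = 0 := by
  have hp : p.Prime := hM.1
  have key := trace_permMat_mul_eq_zero hM (twoSidedPerm y x)
    (fun z n h => twoSidedPerm_cycle hp hy hx z n h) (rightMulMat f)
    (fun i j => hfS _) (by rw [rightMulMat_mul, hff]) ?_
  · rw [Matrix.trace] at key
    rw [← key]
    refine Finset.sum_congr rfl fun i _ => ?_
    rw [Matrix.diag_apply, Matrix.mul_apply]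
    rw [Finset.sum_eq_single (y⁻¹ * i * x⁻¹)]
    · rw [permMat_apply, twoSidedPerm_apply, if_pos (by group), one_mul, rightMulMat_apply]
      congr 1
      group
    · intro k _ hk
      rw [permMat_apply, twoSidedPerm_apply, if_neg, zero_mul]
      intro h
      apply hk
      rw [h]
      group
    · intro h
      exact absurd (Finset.mem_univ _) h
  · ext i j
    rw [Matrix.mul_apply, Matrix.mul_apply]
    rw [Finset.sum_eq_single (y⁻¹ * i * x⁻¹), Finset.sum_eq_single (y * j * x)]
    · rw [permMat_apply, twoSidedPerm_apply, if_pos (by group), one_mul, permMat_apply,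
        twoSidedPerm_apply, if_pos rfl, mul_one, rightMulMat_apply, rightMulMat_apply]
      have e1 : j⁻¹ * (y⁻¹ * i * x⁻¹) = x * (x⁻¹ * j⁻¹ * y⁻¹ * i) * x⁻¹ := by group
      have e2 : (y * j * x)⁻¹ * i = x⁻¹ * j⁻¹ * y⁻¹ * i := by group
      rw [e1, e2, hf]
    · intro k _ hk
      rw [permMat_apply, twoSidedPerm_apply, if_neg hk, mul_zero]
    · intro h
      exact absurd (Finset.mem_univ _) h
    · intro k _ hk
      rw [permMat_apply, twoSidedPerm_apply, if_neg, zero_mul]
      intro h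
      apply hk
      rw [h]
      group
    · intro h
      exact absurd (Finset.mem_univ _) h

end

end Cfsg.Agent.Lib.Helper8
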