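import Mathlib
import Cfsg.Prelude.Def_Blocks
import Cfsg.Agent.Lib.Helper8.BlockOrth

/-!
# Osima's theorem and weak block orthogonality for blocks
-/

set_option autoImplicit false

namespace Cfsg.Agent.Lib.Helper8

open Cfsg
open scoped ComplexConjugate
open Cfsg.Agent.Lib.Helper1 Cfsg.Agent.Lib.Helper4

universe u

section

variable {G : Type u} [Group G] [Fintype G] {M : Ideal AlgInt} {p : ℕ}

/-- The block idempotent is idempotent for convolution. -/
theorem conv_blockCoeff_self (hM : M.IsPrime) {B : Set (IrrCharacter G)} (hB : IsPBlock M B) :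
    conv (blockCoeff B) (blockCoeff B) = blockCoeff B := by
  classical
  have : Fintype (IrrCharacter G) := Fintype.ofFinite _
  obtain ⟨hcf, _, hω⟩ := blockCoeff_spec hM hB
  apply eq_blockCoeff_of_omega B (isClassFunction_conv hcf hcf)
  intro ψ
  rw [omega_conv ψ.2 hcf, hω ψ]
  split_ifs <;> simp

/-- A finite sum over a set of irreducible characters, via indicators. -/
theorem finsum_mem_eq_sum_indicator [Fintype (IrrCharacter G)] (B : Set (IrrCharacter G))
    (F : IrrCharacter G → ℂ) :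
    ∑ᶠ ψ ∈ B, F ψ = ∑ ψ : IrrCharacter G,
      (by classical exact if ψ ∈ B then (1 : ℂ) else 0) * F ψ := by
  classical
  rw [finsum_mem_eq_finite_toFinset_sum _ (Set.toFinite B)]
  rw [← Finset.sum_filter_add_sum_filter_not Finset.univ (fun ψ => ψ ∈ B)]
  have h0 : ∑ ψ ∈ Finset.univ.filter (fun ψ => ¬ ψ ∈ B),
      (if ψ ∈ B then (1 : ℂ) else 0) * F ψ = 0 := by
    apply Finset.sum_eq_zero
    intro ψ hψ
    rw [if_neg (Finset.mem_filter.1 hψ).2, zero_mul]
  rw [h0, add_zero]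
  have hset : (Set.toFinite B).toFinset = Finset.univ.filter (fun ψ => ψ ∈ B) := by
    ext ψ
    simp
  rw [hset]
  refine Finset.sum_congr rfl fun ψ hψ => ?_
  rw [if_pos (Finset.mem_filter.1 hψ).2, one_mul]

/-- **Weak block orthogonality** (product form): for a block `B`, a `p`-regular `x` and a
`p`-singular `y`, `∑_{χ ∈ B} χ(x) χ(y) = 0`. -/
theorem finsum_block_mul_eq_zero (hM : IsPModular p M) {B : Set (IrrCharacter G)}
    (hB : IsPBlock M B) {x y : G} (hx : ¬ p ∣ orderOf x) (hy : p ∣ orderOf y) :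
    ∑ᶠ χ ∈ B, (χ : G → ℂ) x * (χ : G → ℂ) y = 0 := by
  classical
  have : Fintype (IrrCharacter G) := Fintype.ofFinite _
  have hMp := isPModular_isPrime hM
  obtain ⟨hcf, hS, _⟩ := blockCoeff_spec hMp hB
  have key := sum_idem_twisted_eq_zero hM hcf hS (conv_blockCoeff_self hMp hB) hy hx
  have hG0 : (Nat.card G : ℂ) ≠ 0 := Nat.cast_ne_zero.2 Nat.card_pos.ne'
  rw [finsum_mem_eq_sum_indicator]
  have hmain : ∑ z : G, blockCoeff B (z⁻¹ * y⁻¹ * z * x⁻¹)
      = ∑ ψ : IrrCharacter G, (if ψ ∈ B then (1 : ℂ) else 0) *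
        ((ψ : G → ℂ) x * (ψ : G → ℂ) y) := by
    simp only [blockCoeff_eq_sum]
    rw [← Finset.mul_sum, Finset.sum_comm]
    rw [Finset.mul_sum]
    refine Finset.sum_congr rfl fun ψ _ => ?_
    have h1 : ∀ z : G, conj ((ψ : G → ℂ) (z⁻¹ * y⁻¹ * z * x⁻¹))
        = (ψ : G → ℂ) (x * (z⁻¹ * y * z⁻¹⁻¹)) := by
      intro z
      rw [← isCharacter_inv (isCharacter_of_irr ψ.2)]
      congr 1
      group
    simp only [h1]
    rw [← Finset.mul_sum]
    have h2 : ∑ z : G, (ψ : G → ℂ) (x * (z⁻¹ * y * z⁻¹⁻¹))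
        = ∑ z : G, (ψ : G → ℂ) (x * (z * y * z⁻¹)) :=
      Equiv.sum_comp (Equiv.inv G) (fun z => (ψ : G → ℂ) (x * (z * y * z⁻¹)))
    rw [h2, sum_irr_mul_conj ψ.2, Nat.card_eq_fintype_card]
    have hψ1 := irr_apply_one_ne_zero ψ.2
    have hG0' : (Fintype.card G : ℂ) ≠ 0 := by
      rw [← Nat.card_eq_fintype_card]; exact hG0
    field_simp
  rw [← hmain, key]

/-- **Weak block orthogonality**: `∑_{χ ∈ B} χ(x) conj χ(y) = 0` for `x` `p`-regular and `y`
`p`-singular. -/
theorem finsum_block_mul_conj_eq_zero (hM : IsPModular p M) {B : Set (IrrCharacter G)}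
    (hB : IsPBlock M B) {x y : G} (hx : ¬ p ∣ orderOf x) (hy : p ∣ orderOf y) :
    ∑ᶠ χ ∈ B, (χ : G → ℂ) x * conj ((χ : G → ℂ) y) = 0 := by
  have hy' : p ∣ orderOf y⁻¹ := by rwa [orderOf_inv]
  have := finsum_block_mul_eq_zero hM hB hx hy'
  rw [← this]
  refine finsum_congr fun χ => finsum_congr fun _ => ?_
  rw [isCharacter_inv (isCharacter_of_irr χ.2)]

/-- **Osima's theorem**: the coefficients of a block idempotent vanish at `p`-singular elements. -/
theorem blockCoeff_eq_zero_of_dvd_orderOf (hM : IsPModular p M) {B : Set (IrrCharacter G)}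
    (hB : IsPBlock M B) {g : G} (hg : p ∣ orderOf g) : blockCoeff B g = 0 := by
  have h1 : ¬ p ∣ orderOf (1 : G) := by
    rw [orderOf_one]
    exact hM.1.one_lt.ne' ∘ Nat.dvd_one.1
  have := finsum_block_mul_conj_eq_zero hM hB h1 hg
  unfold blockCoeff
  rw [this, mul_zero]

end

end Cfsg.Agent.Lib.Helper8
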