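import Mathlib
import Cfsg.Prelude.Def_Characters
import Cfsg.Agent.Lib.Helper8.ClassAlgebra

set_option autoImplicit false

namespace Cfsg.Agent.Lib.Helper8

open scoped ComplexConjugate
open Cfsg.Agent.Lib.Helper1 Cfsg.Agent.Lib.Helper4

universe u

section

variable {G : Type u} [Group G] [Fintype G]

omit [Fintype G] in
theorem irr_conj_one {χ : G → ℂ} (hχ : Cfsg.IsIrrCharacter G χ) : conj (χ 1) = χ 1 := by
  obtain ⟨n, -, h1⟩ := irr_apply_one_pos hχ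
  rw [h1]; simp

/-- The regular character: `∑ χ, χ 1 * χ w = |G| [w = 1]`. -/
theorem sum_irr_one_mul [Fintype (Cfsg.IrrCharacter G)] [DecidableEq G] (w : G) :
    ∑ χ : Cfsg.IrrCharacter G, (χ : G → ℂ) 1 * (χ : G → ℂ) w
      = if w = 1 then (Fintype.card G : ℂ) else 0 := by
  have h := column_orthogonality (G := G) 1 w
  have h1 : ∀ χ : Cfsg.IrrCharacter G, (χ : G → ℂ) w * conj ((χ : G → ℂ) 1)
      = (χ : G → ℂ) 1 * (χ : G → ℂ) w := fun χ => by
    rw [irr_conj_one χ.2, mul_comm]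
  simp only [h1] at h
  rw [h]
  have h2 : Nat.card (Subgroup.centralizer ({1} : Set G)) = Fintype.card G := by
    have : Subgroup.centralizer ({1} : Set G) = ⊤ := by
      ext x; simp [Subgroup.mem_centralizer_iff]
    rw [this, Subgroup.card_top, Nat.card_eq_fintype_card]
  rw [h2]
  unfold classIndicator
  by_cases hw : w = 1
  · subst hw; simp
  · have : ¬ IsConj 1 w := by
      intro hc
      exact hw (isConj_one_right.mp hc)
    rw [if_neg this, if_neg hw, mul_zero]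

/-- Frobenius' commutator count (with `z⁻¹`). -/
theorem card_commutator_pairs_aux [Fintype (Cfsg.IrrCharacter G)] [DecidableEq G] (z : G) :
    (Fintype.card {xy : G × G // xy.1 * xy.2 * xy.1⁻¹ * xy.2⁻¹ = z} : ℂ)
      = (Fintype.card G : ℂ) * ∑ χ : Cfsg.IrrCharacter G, (χ : G → ℂ) z⁻¹ / (χ : G → ℂ) 1 := by
  have hG : (Fintype.card G : ℂ) ≠ 0 := Nat.cast_ne_zero.2 Fintype.card_pos.ne'
  have h0 : (Fintype.card {xy : G × G // xy.1 * xy.2 * xy.1⁻¹ * xy.2⁻¹ = z} : ℂ)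
      = ∑ x : G, ∑ y : G, if z⁻¹ * x * (y * x⁻¹ * y⁻¹) = 1 then (1 : ℂ) else 0 := by
    rw [Fintype.card_subtype, Finset.card_filter, Nat.cast_sum, Fintype.sum_prod_type]
    refine Finset.sum_congr rfl fun x _ => Finset.sum_congr rfl fun y _ => ?_
    have : x * y * x⁻¹ * y⁻¹ = z ↔ z⁻¹ * x * (y * x⁻¹ * y⁻¹) = 1 := by
      constructor
      · intro h; rw [← h]; group
      · intro h
        have : z * (z⁻¹ * x * (y * x⁻¹ * y⁻¹)) = z * 1 := by rw [h]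
        rw [mul_one] at this
        rw [← this]; group
    simp only [this]
    split_ifs <;> simp
  have h1 : (Fintype.card G : ℂ) * (Fintype.card {xy : G × G // xy.1 * xy.2 * xy.1⁻¹ * xy.2⁻¹ = z} : ℂ)
      = ∑ x : G, ∑ y : G, ∑ χ : Cfsg.IrrCharacter G,
          (χ : G → ℂ) 1 * (χ : G → ℂ) (z⁻¹ * x * (y * x⁻¹ * y⁻¹)) := by
    rw [h0, Finset.mul_sum]
    refine Finset.sum_congr rfl fun x _ => ?_
    rw [Finset.mul_sum]
    refine Finset.sum_congr rfl fun y _ => ?_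
    rw [sum_irr_one_mul]
    split_ifs <;> simp
  have h2 : ∑ x : G, ∑ y : G, ∑ χ : Cfsg.IrrCharacter G,
          (χ : G → ℂ) 1 * (χ : G → ℂ) (z⁻¹ * x * (y * x⁻¹ * y⁻¹))
      = ∑ χ : Cfsg.IrrCharacter G, (Fintype.card G : ℂ) * ((Fintype.card G : ℂ) *
          ((χ : G → ℂ) z⁻¹ / (χ : G → ℂ) 1)) := by
    have : ∀ x : G, ∑ y : G, ∑ χ : Cfsg.IrrCharacter G,
          (χ : G → ℂ) 1 * (χ : G → ℂ) (z⁻¹ * x * (y * x⁻¹ * y⁻¹))
        = ∑ χ : Cfsg.IrrCharacter G, ∑ y : G,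
          (χ : G → ℂ) 1 * (χ : G → ℂ) (z⁻¹ * x * (y * x⁻¹ * y⁻¹)) := fun x => Finset.sum_comm
    simp only [this]
    rw [Finset.sum_comm]
    refine Finset.sum_congr rfl fun χ _ => ?_
    have hχ1 : (χ : G → ℂ) 1 ≠ 0 := irr_apply_one_ne_zero χ.2
    have h3 : ∀ x : G, ∑ y : G, (χ : G → ℂ) 1 * (χ : G → ℂ) (z⁻¹ * x * (y * x⁻¹ * y⁻¹))
        = (Fintype.card G : ℂ) * ((χ : G → ℂ) x⁻¹ * (χ : G → ℂ) (z⁻¹ * x)) := by
      intro x
      rw [← Finset.mul_sum, sum_irr_mul_conj χ.2]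
      field_simp
    simp only [h3]
    rw [← Finset.mul_sum, sum_irr_inv_mul_irr χ.2 χ.2, if_pos rfl]
    ring
  rw [h2, ← Finset.mul_sum, ← Finset.mul_sum] at h1
  exact mul_left_cancel₀ hG h1

/-- Frobenius' commutator count. -/
theorem card_commutator_pairs [Fintype (Cfsg.IrrCharacter G)] [DecidableEq G] (z : G) :
    (Fintype.card {xy : G × G // xy.1 * xy.2 * xy.1⁻¹ * xy.2⁻¹ = z} : ℂ)
      = (Fintype.card G : ℂ) * ∑ χ : Cfsg.IrrCharacter G, (χ : G → ℂ) z / (χ : G → ℂ) 1 := by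
  have h := card_commutator_pairs_aux (G := G) z⁻¹
  rw [inv_inv] at h
  rw [← h]
  congr 1
  apply Fintype.card_congr
  have key : ∀ (w : G) (x y : G), x * y * x⁻¹ * y⁻¹ = w → y * x * y⁻¹ * x⁻¹ = w⁻¹ := by
    intro w x y h
    rw [← h]; group
  refine ⟨fun p => ⟨(p.1.2, p.1.1), key _ _ _ p.2⟩,
    fun p => ⟨(p.1.2, p.1.1), by simpa using key _ _ _ p.2⟩, fun p => rfl, fun p => rfl⟩

end

end Cfsg.Agent.Lib.Helper8
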