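import Mathlib
import Cfsg.Prelude.Def_Characters
import Cfsg.Agent.Lib.Helper8.ClassAlgebra2

set_option autoImplicit false

namespace Cfsg.Agent.Lib.Helper8

open scoped ComplexConjugate
open Cfsg.Agent.Lib.Helper1 Cfsg.Agent.Lib.Helper4

universe u

section

variable {G : Type u} [Group G] [Fintype G]

/-- Second orthogonality on the diagonal: `∑ χ, ‖χ g‖² = |C_G(g)|`. -/
theorem sum_irr_mul_conj_self [Fintype (Cfsg.IrrCharacter G)] (g : G) :
    ∑ χ : Cfsg.IrrCharacter G, (χ : G → ℂ) g * conj ((χ : G → ℂ) g)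
      = (Nat.card (Subgroup.centralizer ({g} : Set G)) : ℂ) := by
  have hco := column_orthogonality (G := G) g g
  have hci : classIndicator g g = 1 := by
    unfold classIndicator
    rw [if_pos (IsConj.refl g)]
  rw [hci, mul_one] at hco
  exact hco

/-- Irreducible characters separate conjugacy classes. -/
theorem isConj_of_forall_irr_eq [Fintype (Cfsg.IrrCharacter G)] {g h : G}
    (hgh : ∀ χ : Cfsg.IrrCharacter G, (χ : G → ℂ) g = (χ : G → ℂ) h) : IsConj g h := by
  have hco := column_orthogonality (G := G) g h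
  have h1 : ∑ χ : Cfsg.IrrCharacter G, (χ : G → ℂ) h * conj ((χ : G → ℂ) g)
      = (Nat.card (Subgroup.centralizer ({g} : Set G)) : ℂ) := by
    rw [← sum_irr_mul_conj_self g]
    refine Finset.sum_congr rfl fun χ _ => ?_
    rw [hgh χ]
  rw [h1] at hco
  have hC0 : (Nat.card (Subgroup.centralizer ({g} : Set G)) : ℂ) ≠ 0 :=
    Nat.cast_ne_zero.2 Nat.card_pos.ne'
  by_contra hcon
  unfold classIndicator at hco
  rw [if_neg hcon, mul_zero] at hco
  exact hC0 hco

end

end Cfsg.Agent.Lib.Helper8
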