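import Mathlib
import Cfsg.Prelude.Def_Characters
import Cfsg.Agent.S0139
import Cfsg.Agent.Lib.Helper8.ClassAlgebra3

set_option autoImplicit false

namespace Cfsg.Agent.Lib.Helper8

open scoped ComplexConjugate
open Cfsg.Agent.Lib.Helper1 Cfsg.Agent.Lib.Helper4

universe u

section

variable {G : Type u} [Group G]

/-- The kernel of a character is a normal subgroup. -/
theorem exists_normal_ker [Finite G] {χ : G → ℂ} (hχ : Cfsg.IsCharacter G χ) :
    ∃ K : Subgroup G, K.Normal ∧ ∀ g : G, g ∈ K ↔ χ g = χ 1 := by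
  obtain ⟨n, ρ, rfl⟩ := hχ
  refine ⟨MonoidHom.ker ρ, inferInstance, fun g => ?_⟩
  rw [MonoidHom.mem_ker, Representation.char_one, Cfsg.Agent.S0139.result ρ g]
  rfl

/-- Summing a function supported on `{1}` and one conjugacy class. -/
theorem sum_eq_of_support_two_classes [Fintype G] [DecidableEq G] (g₀ : G) (hg₀ : g₀ ≠ 1)
    [DecidablePred (IsConj g₀)] (F : G → ℂ)
    (hF : ∀ x c : G, F (c * x * c⁻¹) = F x)
    (hsupp : ∀ x : G, F x ≠ 0 → x = 1 ∨ IsConj g₀ x) :
    ∑ x, F x = F 1 + ((Finset.univ.filter (IsConj g₀)).card : ℂ) * F g₀ := by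
  have h1 : ∑ x, F x = ∑ x ∈ insert 1 (Finset.univ.filter (IsConj g₀)), F x := by
    symm
    apply Finset.sum_subset (Finset.subset_univ _)
    intro x _ hx
    by_contra hne
    apply hx
    rcases hsupp x hne with h | h
    · rw [h]; exact Finset.mem_insert_self _ _
    · exact Finset.mem_insert_of_mem (Finset.mem_filter.mpr ⟨Finset.mem_univ _, h⟩)
  have hnot : (1 : G) ∉ Finset.univ.filter (IsConj g₀) := by
    intro h
    have := (Finset.mem_filter.mp h).2
    exact hg₀ (isConj_one_left.mp this)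
  rw [h1, Finset.sum_insert hnot]
  congr 1
  rw [Finset.sum_congr rfl (g := fun _ => F g₀), Finset.sum_const, nsmul_eq_mul]
  intro x hx
  obtain ⟨c, hc⟩ := isConj_iff.mp (Finset.mem_filter.mp hx).2
  rw [← hc, hF]

end

end Cfsg.Agent.Lib.Helper8
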