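import Mathlib
import Cfsg.Prelude.Def_Characters
import Cfsg.Agent.Lib.Helper8.CharKernel
import Cfsg.Agent.Lib.Helper1.LinearChar

set_option autoImplicit false

namespace Cfsg.Agent.Lib.Helper8

open scoped ComplexConjugate
open Cfsg.Agent.Lib.Helper1 Cfsg.Agent.Lib.Helper4

universe u

section

variable {G : Type u} [Group G]

/-- The trivial character. -/
noncomputable def trivIrr (G : Type u) [Group G] : Cfsg.IrrCharacter G :=
  ⟨fun g => ((1 : G →* ℂˣ) g : ℂ), isIrrCharacter_of_hom 1⟩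

theorem trivIrr_apply (x : G) : (trivIrr G : G → ℂ) x = 1 := by simp [trivIrr]

/-- Unpacking "nonzero on exactly two classes". -/
theorem exists_of_two_classes [Finite G] (χ : Cfsg.IrrCharacter G)
    (hχ : Nat.card {C : ConjClasses G // ∃ g ∈ C.carrier, (χ : G → ℂ) g ≠ 0} = 2) :
    ∃ g₀ : G, g₀ ≠ 1 ∧ (χ : G → ℂ) g₀ ≠ 0 ∧
      ∀ g : G, (χ : G → ℂ) g ≠ 0 → g = 1 ∨ IsConj g₀ g := by
  have hχ1 : (χ : G → ℂ) 1 ≠ 0 := irr_apply_one_ne_zero χ.2
  let c₁ : {C : ConjClasses G // ∃ g ∈ C.carrier, (χ : G → ℂ) g ≠ 0} :=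
    ⟨ConjClasses.mk 1, 1, ConjClasses.mem_carrier_mk, hχ1⟩
  obtain ⟨y, hy, hyu⟩ := (Nat.card_eq_two_iff' c₁).mp hχ
  obtain ⟨⟨C₀, g₀, hg₀C, hg₀⟩, hyeq⟩ : ∃ z, z = y := ⟨y, rfl⟩
  have hC₀ : C₀ = ConjClasses.mk g₀ := (ConjClasses.mem_carrier_iff_mk_eq.mp hg₀C).symm
  refine ⟨g₀, ?_, hg₀, ?_⟩
  · rintro rfl
    apply hy
    rw [← hyeq]
    apply Subtype.ext
    exact hC₀
  · intro g hg
    by_cases h1 : g = 1
    · exact Or.inl h1
    · right
      let c : {C : ConjClasses G // ∃ g ∈ C.carrier, (χ : G → ℂ) g ≠ 0} :=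
        ⟨ConjClasses.mk g, g, ConjClasses.mem_carrier_mk, hg⟩
      have hc : c ≠ c₁ := by
        intro h
        have h2 : ConjClasses.mk g = ConjClasses.mk 1 := congrArg Subtype.val h
        rw [ConjClasses.mk_eq_mk_iff_isConj] at h2
        exact h1 (isConj_one_left.mp h2)
      have h3 : c = y := hyu c hc
      rw [← hyeq] at h3
      have h4 : ConjClasses.mk g = C₀ := congrArg Subtype.val h3
      rw [hC₀, ConjClasses.mk_eq_mk_iff_isConj] at h4
      exact h4.symm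

/-- `χ` is nonzero exactly on `{1}` and the class of `g₀`. -/
structure TwoClass (χ : Cfsg.IrrCharacter G) (g₀ : G) : Prop where
  ne_one : g₀ ≠ 1
  ne_zero : (χ : G → ℂ) g₀ ≠ 0
  supp : ∀ g : G, (χ : G → ℂ) g ≠ 0 → g = 1 ∨ IsConj g₀ g

namespace TwoClass

variable {χ : Cfsg.IrrCharacter G} {g₀ : G}

theorem ne_triv [Finite G] (h : TwoClass χ g₀) (hG : 2 < Nat.card G) : χ ≠ trivIrr G := by
  classical
  intro hχ
  have hall : ∀ g : G, g ≠ 1 → IsConj g₀ g := by
    intro g hg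
    have : (χ : G → ℂ) g ≠ 0 := by rw [hχ, trivIrr_apply]; exact one_ne_zero
    exact (h.supp g this).resolve_left hg
  have hcard := card_isConj_mul_card_centralizer g₀
  have h1 : Nat.card {v : G // IsConj g₀ v} = Nat.card G - 1 := by
    have : {v : G // IsConj g₀ v} ≃ {v : G // v ≠ 1} :=
      Equiv.subtypeEquivRight fun v => ⟨fun hv h1 => h.ne_one (by
        rw [h1] at hv; exact isConj_one_left.mp hv), hall v⟩
    rw [Nat.card_congr this]
    have : Fintype G := Fintype.ofFinite G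
    rw [Nat.card_eq_fintype_card, Nat.card_eq_fintype_card, Fintype.card_subtype_compl,
      Fintype.card_subtype_eq]
  rw [h1] at hcard
  have h2 : Nat.card G - 1 ∣ Nat.card G := Dvd.intro _ hcard
  have h3 : Nat.card G - 1 ∣ 1 := by
    have : Nat.card G - 1 ∣ Nat.card G - (Nat.card G - 1) := Nat.dvd_sub h2 dvd_rfl
    have h4 : Nat.card G - (Nat.card G - 1) = 1 := by omega
    rwa [h4] at this
  have := Nat.le_of_dvd one_pos h3
  omega

/-- orthogonality with `ψ ≠ χ` -/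
theorem orth [Fintype G] [DecidableEq G] [DecidablePred (IsConj g₀)] (h : TwoClass χ g₀)
    (ψ : Cfsg.IrrCharacter G) (hψ : ψ ≠ χ) :
    (χ : G → ℂ) 1 * conj ((ψ : G → ℂ) 1)
      + ((Finset.univ.filter (IsConj g₀)).card : ℂ) *
        ((χ : G → ℂ) g₀ * conj ((ψ : G → ℂ) g₀)) = 0 := by
  have h1 : Cfsg.classInner (χ : G → ℂ) (ψ : G → ℂ) = 0 :=
    classInner_irr_ne χ.2 ψ.2 (fun e => hψ (Subtype.ext e.symm))
  rw [classInner_def] at h1
  have hG : ((Nat.card G : ℂ))⁻¹ ≠ 0 := inv_ne_zero (Nat.cast_ne_zero.2 Nat.card_pos.ne')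
  have h2 := (mul_eq_zero.mp h1).resolve_left hG
  rw [sum_eq_of_support_two_classes g₀ h.ne_one
    (fun x => (χ : G → ℂ) x * conj ((ψ : G → ℂ) x)) ?_ ?_] at h2
  · exact h2
  · intro x c
    show (χ : G → ℂ) (c * x * c⁻¹) * conj ((ψ : G → ℂ) (c * x * c⁻¹)) = _
    rw [isClassFunction_irr χ.2 x c, isClassFunction_irr ψ.2 x c]
  · intro x hx
    exact h.supp x (left_ne_zero_of_mul hx)

theorem apply_eq_one [Finite G] (h : TwoClass χ g₀) (hG : 2 < Nat.card G)
    (ψ : Cfsg.IrrCharacter G) (hψ : ψ ≠ χ) : (ψ : G → ℂ) g₀ = (ψ : G → ℂ) 1 := by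
  classical
  have : Fintype G := Fintype.ofFinite G
  have hχ1 : (χ : G → ℂ) 1 ≠ 0 := irr_apply_one_ne_zero χ.2
  have e1 := h.orth (trivIrr G) (h.ne_triv hG).symm
  simp only [trivIrr_apply, map_one, mul_one] at e1
  have e2 := h.orth ψ hψ
  have e3 : ((Finset.univ.filter (IsConj g₀)).card : ℂ) * (χ : G → ℂ) g₀ = -(χ : G → ℂ) 1 := by
    linear_combination e1
  have e4 : (χ : G → ℂ) 1 * (conj ((ψ : G → ℂ) 1) - conj ((ψ : G → ℂ) g₀)) = 0 := by
    rw [← mul_assoc, e3] at e2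
    linear_combination e2
  have e5 := (mul_eq_zero.mp e4).resolve_left hχ1
  have e6 : conj ((ψ : G → ℂ) 1) = conj ((ψ : G → ℂ) g₀) := sub_eq_zero.mp e5
  exact ((starRingEnd ℂ).injective e6).symm

theorem apply_eq_one_of_mem [Finite G] (h : TwoClass χ g₀) (hG : 2 < Nat.card G)
    (ψ : Cfsg.IrrCharacter G) (hψ : ψ ≠ χ) {x : G} (hx : x ∈ Subgroup.normalClosure {g₀}) :
    (ψ : G → ℂ) x = (ψ : G → ℂ) 1 := by
  obtain ⟨K, hK, hKmem⟩ := exists_normal_ker (isCharacter_of_irr ψ.2)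
  have : Subgroup.normalClosure {g₀} ≤ K := by
    apply Subgroup.normalClosure_le_normal
    rw [Set.singleton_subset_iff]
    exact (hKmem g₀).mpr (h.apply_eq_one hG ψ hψ)
  exact (hKmem x).mp (this hx)

theorem ne_zero_of_mem [Finite G] (h : TwoClass χ g₀) (hG : 2 < Nat.card G)
    {x : G} (hx : x ∈ Subgroup.normalClosure {g₀}) (hx1 : x ≠ 1) : (χ : G → ℂ) x ≠ 0 := by
  classical
  have : Fintype G := Fintype.ofFinite G
  have : Fintype (Cfsg.IrrCharacter G) := Fintype.ofFinite _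
  intro hzero
  have h1 := sum_irr_one_mul (G := G) x
  rw [if_neg hx1] at h1
  have h2 : ∀ ψ : Cfsg.IrrCharacter G, 0 ≤ ((ψ : G → ℂ) 1 * (ψ : G → ℂ) x).re := by
    intro ψ
    by_cases hψ : ψ = χ
    · rw [hψ, hzero, mul_zero]; simp
    · rw [h.apply_eq_one_of_mem hG ψ hψ hx]
      obtain ⟨n, -, hn⟩ := irr_apply_one_pos ψ.2
      rw [hn]
      norm_cast
      positivity
  have h3 : 0 < ((trivIrr G : G → ℂ) 1 * (trivIrr G : G → ℂ) x).re := by
    rw [trivIrr_apply, trivIrr_apply]; simp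
  have h4 : 0 < (∑ ψ : Cfsg.IrrCharacter G, (ψ : G → ℂ) 1 * (ψ : G → ℂ) x).re := by
    rw [Complex.re_sum]
    exact Finset.sum_pos' (fun ψ _ => h2 ψ) ⟨trivIrr G, Finset.mem_univ _, h3⟩
  rw [h1] at h4
  simp at h4

theorem mem_of_normal [Finite G] (h : TwoClass χ g₀) (K : Subgroup G) [hK : K.Normal]
    (hKne : K ≠ ⊥) : g₀ ∈ K := by
  classical
  have : Fintype G := Fintype.ofFinite G
  by_contra hg₀K
  have hχ1 : (χ : G → ℂ) 1 ≠ 0 := irr_apply_one_ne_zero χ.2
  -- `χ` vanishes on `K \ {1}`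
  have hvan : ∀ k ∈ K, k ≠ 1 → (χ : G → ℂ) k = 0 := by
    intro k hk hk1
    by_contra hne
    obtain ⟨c, hc⟩ := isConj_iff.mp ((h.supp k hne).resolve_left hk1)
    apply hg₀K
    have := hK.conj_mem k hk c⁻¹
    rw [← hc] at this
    simpa [mul_assoc] using this
  let f : G → ℂ := fun a => if a ∈ K then 1 else 0
  have hf : Cfsg.IsClassFunction G f := by
    intro a c
    show (if c * a * c⁻¹ ∈ K then (1 : ℂ) else 0) = if a ∈ K then 1 else 0
    have : c * a * c⁻¹ ∈ K ↔ a ∈ K := by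
      constructor
      · intro h1
        have := hK.conj_mem _ h1 c⁻¹
        simpa [mul_assoc] using this
      · intro h1
        exact hK.conj_mem _ h1 c
    simp only [this]
  have hsum1 : ∑ a, f a * (χ : G → ℂ) a = (χ : G → ℂ) 1 := by
    rw [Finset.sum_eq_single 1]
    · simp [f, K.one_mem]
    · intro b _ hb
      by_cases hbK : b ∈ K
      · rw [hvan b hbK hb, mul_zero]
      · simp [f, hbK]
    · intro h1; exact absurd (Finset.mem_univ _) h1
  have hA : ∀ a : G, ∑ g, f g * (χ : G → ℂ) (a * g) = (χ : G → ℂ) a := by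
    intro a
    rw [sum_classFunction_mul_irr χ.2 f hf a, hsum1, div_self hχ1, one_mul]
  -- sum over `a ∈ K`
  have hB : ∑ a, f a * ∑ g, f g * (χ : G → ℂ) (a * g) = (χ : G → ℂ) 1 := by
    simp only [hA]; exact hsum1
  have hC : ∀ a : G, f a * ∑ g, f g * (χ : G → ℂ) (a * g) = f a * (χ : G → ℂ) 1 := by
    intro a
    by_cases ha : a ∈ K
    · congr 1
      rw [← Equiv.sum_comp (Equiv.mulLeft a⁻¹)]
      simp only [Equiv.coe_mulLeft, mul_inv_cancel_left]
      rw [← hsum1]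
      refine Finset.sum_congr rfl fun g _ => ?_
      have : a⁻¹ * g ∈ K ↔ g ∈ K := by
        constructor
        · intro h1
          have := K.mul_mem ha h1
          simpa using this
        · intro h1
          exact K.mul_mem (K.inv_mem ha) h1
      simp only [f, this]
    · simp [f, ha]
  simp only [hC] at hB
  rw [← Finset.sum_mul] at hB
  have hD : ∑ a, f a = (Nat.card K : ℂ) := by
    simp only [f]
    rw [Finset.sum_boole, Nat.card_eq_fintype_card, Fintype.card_subtype]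
  rw [hD] at hB
  have hE : (Nat.card K : ℂ) = 1 := by
    have := mul_right_cancel₀ hχ1 (hB.trans (one_mul _).symm)
    exact this
  have hF : Nat.card K = 1 := by exact_mod_cast hE
  exact hKne (Subgroup.card_eq_one.mp hF)

end TwoClass

end

end Cfsg.Agent.Lib.Helper8
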