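import Mathlib
import Cfsg.Prelude.Def_Blocks
import Cfsg.Agent.Lib.Helper8.BlockOrth2
import Cfsg.Agent.Lib.Helper8.TwoClass

/-!
# Defect classes of blocks
-/

set_option autoImplicit false

namespace Cfsg.Agent.Lib.Helper8

open Cfsg
open scoped ComplexConjugate
open Cfsg.Agent.Lib.Helper1 Cfsg.Agent.Lib.Helper4

universe u

section

variable {G : Type u} [Group G] [Fintype G] {M : Ideal AlgInt} {p : ℕ}

omit [Fintype G] in
/-- `blockCoeff A` is a class function for any set `A` of irreducible characters. -/
theorem isClassFunction_blockCoeff (A : Set (IrrCharacter G)) :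
    IsClassFunction G (blockCoeff A) := by
  intro g h
  unfold blockCoeff
  congr 1
  refine finsum_congr fun χ => finsum_congr fun _ => ?_
  rw [isClassFunction_irr χ.2 g h]

/-- The central characters of `blockCoeff A` are the indicator function of `A`. -/
theorem omega_blockCoeff (A : Set (IrrCharacter G)) (ψ : IrrCharacter G) :
    omega (ψ : G → ℂ) (blockCoeff A) = (by classical exact if ψ ∈ A then (1 : ℂ) else 0) := by
  classical
  have : Fintype (IrrCharacter G) := Fintype.ofFinite _
  have hG0 : (Nat.card G : ℂ) ≠ 0 := Nat.cast_ne_zero.2 Nat.card_pos.ne'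
  have hψ1 := irr_apply_one_ne_zero ψ.2
  unfold omega
  simp only [blockCoeff_eq_sum]
  have h1 : ∑ g : G, (Nat.card G : ℂ)⁻¹ * (∑ χ : IrrCharacter G,
      (if χ ∈ A then (1 : ℂ) else 0) * (χ : G → ℂ) 1 * conj ((χ : G → ℂ) g)) * (ψ : G → ℂ) g
      = ∑ χ : IrrCharacter G, (if χ ∈ A then (1 : ℂ) else 0) * (χ : G → ℂ) 1 *
        classInner (ψ : G → ℂ) (χ : G → ℂ) := by
    simp only [classInner_def, Finset.mul_sum, Finset.sum_mul]
    rw [Finset.sum_comm]
    refine Finset.sum_congr rfl fun χ _ => Finset.sum_congr rfl fun g _ => ?_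
    ring
  rw [h1]
  rw [Finset.sum_eq_single ψ]
  · rw [classInner_irr_self ψ.2, mul_one]
    split_ifs
    · rw [one_mul, div_self hψ1]
    · rw [zero_mul, zero_div]
  · intro χ _ hχ
    rw [classInner_irr_ne ψ.2 χ.2 (fun h => hχ (Subtype.ext h.symm)), mul_zero]
  · intro h
    exact absurd (Finset.mem_univ _) h

/-- Central characters of characters in the same block agree modulo the local ideal on every
class function with values in the local ring. -/
theorem memLocalIdeal_omega_sub (hM : M.IsPrime) {χ ψ : G → ℂ} (hχ : IsIrrCharacter G χ)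
    (hψ : IsIrrCharacter G ψ) (h : SameBlock M χ ψ) {F : G → ℂ} (hF : IsClassFunction G F)
    (hFS : ∀ g, MemLocalRing M (F g)) : MemLocalIdeal M (omega χ F - omega ψ F) := by
  classical
  have : Fintype (ConjClasses G) := Fintype.ofFinite _
  rw [omega_eq_sum_classes hχ hF, omega_eq_sum_classes hψ hF, ← Finset.sum_sub_distrib]
  apply memLocalIdeal_sum hM
  intro c _
  rw [← mul_sub]
  exact memLocalIdeal_mul_left hM (hFS _) (h _)

/-- Every block has a defect class. -/
theorem exists_isDefectClass (hM : M.IsPrime) {B : Set (IrrCharacter G)} (hB : IsPBlock M B) :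
    ∃ g : G, IsDefectClass M B g := by
  classical
  have : Fintype (ConjClasses G) := Fintype.ofFinite _
  obtain ⟨hcf, hS, hω⟩ := blockCoeff_spec hM hB
  obtain ⟨χ₀, rfl⟩ := hB
  have hχ₀ : χ₀ ∈ blockOf M (χ₀ : G → ℂ) := sameBlock_refl hM.ne_top _
  have h1 := hω χ₀
  rw [if_pos hχ₀, omega_eq_sum_classes χ₀.2 hcf] at h1
  by_contra hcon
  push Not at hcon
  have h2 : ∀ c : ConjClasses G, MemLocalIdeal M
      (blockCoeff (blockOf M (χ₀ : G → ℂ)) (Quotient.out c) *
        centralChar (χ₀ : G → ℂ) (Quotient.out c)) := by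
    intro c
    by_contra h3
    apply hcon (Quotient.out c)
    have hb := hS (Quotient.out c)
    have hc := memLocalRing_centralChar (M := M) hM.ne_top χ₀.2 (Quotient.out c)
    refine ⟨hb, fun h4 => h3 (memLocalIdeal_mul_right hM h4 hc), fun χ hχ h4 => h3 ?_⟩
    apply memLocalIdeal_mul_left hM hb
    have h5 : MemLocalIdeal M (centralChar (χ₀ : G → ℂ) (Quotient.out c)
        - centralChar (χ : G → ℂ) (Quotient.out c)) := hχ _
    have := memLocalIdeal_add hM h5 h4
    rwa [sub_add_cancel] at this
  have h3 := memLocalIdeal_sum hM Finset.univ _ (fun c _ => h2 c)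
  rw [h1] at h3
  exact not_memLocalIdeal_one hM h3

omit [Fintype G] in
theorem centralChar_conj {χ : G → ℂ} (hχ : IsClassFunction G χ) (g t : G) :
    centralChar χ (t * g * t⁻¹) = centralChar χ g := by
  unfold centralChar
  rw [hχ g t]
  congr 2
  have h : Subgroup.centralizer ({t * g * t⁻¹} : Set G)
      = (Subgroup.centralizer ({g} : Set G)).map (MulAut.conj t).toMonoidHom := by
    ext x
    simp only [Subgroup.mem_centralizer_iff, Set.mem_singleton_iff, forall_eq, Subgroup.mem_map,
      MulEquiv.coe_toMonoidHom, MulAut.conj_apply]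
    constructor
    · intro hx
      refine ⟨t⁻¹ * x * t, ?_, by group⟩
      have : g * (t⁻¹ * x * t) = t⁻¹ * (t * g * t⁻¹ * x) * t := by group
      rw [this, hx]
      group
    · rintro ⟨y, hy, rfl⟩
      have : t * g * t⁻¹ * (t * y * t⁻¹) = t * (g * y) * t⁻¹ := by group
      rw [this, hy]
      group
  rw [h]
  congr 1
  exact Subgroup.index_map_of_bijective (MulAut.conj t).bijective _

/-- Defect classes are invariant under conjugation. -/
theorem isDefectClass_conj {B : Set (IrrCharacter G)} {g : G} (h : IsDefectClass M B g) (t : G) :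
    IsDefectClass M B (t * g * t⁻¹) := by
  obtain ⟨h1, h2, h3⟩ := h
  have hcf := isClassFunction_blockCoeff B g t
  refine ⟨by rw [hcf]; exact h1, by rw [hcf]; exact h2, fun χ hχ => ?_⟩
  rw [centralChar_conj (isClassFunction_irr χ.2)]
  exact h3 χ hχ

omit [Fintype G] in
/-- The principal block is a block. -/
theorem isPBlock_principalBlock : IsPBlock M (principalBlock M G) := by
  refine ⟨trivIrr G, ?_⟩
  unfold principalBlock
  congr 1

omit [Fintype G] in
theorem trivIrr_mem_principalBlock (hM : M ≠ ⊤) : trivIrr G ∈ principalBlock M G := by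
  show SameBlock M (fun _ : G => (1 : ℂ)) (trivIrr G : G → ℂ)
  have : (trivIrr G : G → ℂ) = fun _ => 1 := by
    funext x
    rw [trivIrr_apply]
  rw [this]
  exact sameBlock_refl hM _

end

end Cfsg.Agent.Lib.Helper8
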