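import Mathlib
import Cfsg.Prelude.Def_Blocks
import Cfsg.Agent.Lib.Helper8.BlockDefect

/-!
# Linear functionals on the class functions that are multiplicative modulo the local ideal

Every linear functional on the functions on `G` which, on the class functions with values in the
local ring, takes values in the local ring and is multiplicative modulo the local ideal (for the
convolution product) is congruent to the central character of an irreducible character.
-/

set_option autoImplicit false

namespace Cfsg.Agent.Lib.Helper8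

open Cfsg
open scoped ComplexConjugate
open Cfsg.Agent.Lib.Helper1 Cfsg.Agent.Lib.Helper4

universe u

section Cong

variable {M : Ideal AlgInt}

theorem cong_symm {a b : ℂ} (h : MemLocalIdeal M (a - b)) : MemLocalIdeal M (b - a) := by
  have := memLocalIdeal_neg h
  rwa [neg_sub] at this

theorem cong_trans (hM : M.IsPrime) {a b c : ℂ} (h1 : MemLocalIdeal M (a - b))
    (h2 : MemLocalIdeal M (b - c)) : MemLocalIdeal M (a - c) := by
  have := memLocalIdeal_add hM h1 h2
  rwa [sub_add_sub_cancel] at this

theorem cong_mul (hM : M.IsPrime) {a a' b b' : ℂ} (ha : MemLocalRing M a)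
    (hb' : MemLocalRing M b') (h1 : MemLocalIdeal M (a - a')) (h2 : MemLocalIdeal M (b - b')) :
    MemLocalIdeal M (a * b - a' * b') := by
  have e : a * b - a' * b' = a * (b - b') + (a - a') * b' := by ring
  rw [e]
  exact memLocalIdeal_add hM (memLocalIdeal_mul_left hM ha h2) (memLocalIdeal_mul_right hM h1 hb')

theorem cong_refl (hM : M ≠ ⊤) (a : ℂ) : MemLocalIdeal M (a - a) := by
  rw [sub_self]
  exact memLocalIdeal_zero hM

theorem memLocalRing_of_cong (hM : M.IsPrime) {a b : ℂ} (hb : MemLocalRing M b)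
    (h : MemLocalIdeal M (a - b)) : MemLocalRing M a := by
  have := memLocalRing_add hM (memLocalRing_of_memLocalIdeal h) hb
  rwa [sub_add_cancel] at this

theorem not_memLocalIdeal_of_cong (hM : M.IsPrime) {a b : ℂ} (hb : ¬ MemLocalIdeal M b)
    (h : MemLocalIdeal M (a - b)) : ¬ MemLocalIdeal M a := by
  intro ha
  apply hb
  have := memLocalIdeal_sub hM ha h
  rwa [sub_sub_cancel] at this

end Cong

section

variable {G : Type u} [Group G] [Fintype G] {M : Ideal AlgInt}

theorem isClassFunction_sub' {f h : G → ℂ} (hf : IsClassFunction G f) (hh : IsClassFunction G h) :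
    IsClassFunction G (f - h) := by
  intro x t
  simp only [Pi.sub_apply]
  rw [hf x t, hh x t]

theorem omega_sub (χ f h : G → ℂ) : omega χ (f - h) = omega χ f - omega χ h := by
  rw [sub_eq_add_neg, omega_add, omega_neg, ← sub_eq_add_neg]

theorem memLocalRing_deltaOne (hM : M ≠ ⊤) (g : G) : MemLocalRing M ((deltaOne : G → ℂ) g) := by
  classical
  unfold deltaOne
  split_ifs
  · exact memLocalRing_one hM
  · exact memLocalRing_zero hM

/-- A class function all of whose central characters vanish is zero. -/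
theorem eq_zero_of_omega_eq_zero {F : G → ℂ} (hF : IsClassFunction G F)
    (h : ∀ ψ : IrrCharacter G, omega (ψ : G → ℂ) F = 0) : F = 0 := by
  classical
  have : Fintype (IrrCharacter G) := Fintype.ofFinite _
  funext g
  rw [classFunction_eq_sum_omega hF g]
  simp [h]

/-- **Classification of the central homomorphisms modulo the local ideal.** -/
theorem exists_irr_of_multiplicative (hM : M.IsPrime) (lam : (G → ℂ) →ₗ[ℂ] ℂ)
    (hS : ∀ F : G → ℂ, IsClassFunction G F → (∀ g, MemLocalRing M (F g)) → MemLocalRing M (lam F))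
    (hmul : ∀ F H : G → ℂ, IsClassFunction G F → (∀ g, MemLocalRing M (F g)) →
      IsClassFunction G H → (∀ g, MemLocalRing M (H g)) →
      MemLocalIdeal M (lam (conv F H) - lam F * lam H))
    (hone : MemLocalIdeal M (lam deltaOne - 1)) :
    ∃ χ : IrrCharacter G, ∀ F : G → ℂ, IsClassFunction G F → (∀ g, MemLocalRing M (F g)) →
      MemLocalIdeal M (lam F - omega (χ : G → ℂ) F) := by
  classical
  have : Fintype (IrrCharacter G) := Fintype.ofFinite _
  by_contra hcon
  push Not at hcon
  choose Fχ hFcf hFS hFne using hcon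
  -- the shifted functions
  let Hχ : IrrCharacter G → (G → ℂ) := fun χ =>
    Fχ χ - (omega (χ : G → ℂ) (Fχ χ)) • (deltaOne : G → ℂ)
  have hωS : ∀ χ : IrrCharacter G, MemLocalRing M (omega (χ : G → ℂ) (Fχ χ)) := fun χ =>
    memLocalRing_omega hM χ.2 (hFcf χ) (hFS χ)
  have hHcf : ∀ χ : IrrCharacter G, IsClassFunction G (Hχ χ) := fun χ =>
    isClassFunction_sub' (hFcf χ) (isClassFunction_smul _ isClassFunction_deltaOne)
  have hHS : ∀ (χ : IrrCharacter G) (g : G), MemLocalRing M (Hχ χ g) := by
    intro χ g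
    simp only [Hχ, Pi.sub_apply, Pi.smul_apply, smul_eq_mul]
    exact memLocalRing_sub hM (hFS χ g)
      (memLocalRing_mul hM (hωS χ) (memLocalRing_deltaOne hM.ne_top g))
  have hHω : ∀ χ : IrrCharacter G, omega (χ : G → ℂ) (Hχ χ) = 0 := by
    intro χ
    simp only [Hχ]
    rw [omega_sub, omega_smul, omega_deltaOne (irr_apply_one_ne_zero χ.2), mul_one, sub_self]
  have hHlam : ∀ χ : IrrCharacter G, ¬ MemLocalIdeal M (lam (Hχ χ)) := by
    intro χ h
    apply hFne χ
    simp only [Hχ, map_sub, map_smul, smul_eq_mul] at h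
    -- lam F - ω * lam δ ≡ lam F - ω
    have h2 : MemLocalIdeal M (omega (χ : G → ℂ) (Fχ χ) * lam deltaOne
        - omega (χ : G → ℂ) (Fχ χ) * 1) := by
      rw [← mul_sub]
      exact memLocalIdeal_mul_left hM (hωS χ) hone
    have := memLocalIdeal_add hM h h2
    rw [mul_one] at this
    rwa [sub_add_sub_cancel] at this
  -- products
  have key : ∀ s : Finset (IrrCharacter G), ∃ Pf : G → ℂ, IsClassFunction G Pf ∧
      (∀ g, MemLocalRing M (Pf g)) ∧
      (∀ ψ : IrrCharacter G, omega (ψ : G → ℂ) Pf = ∏ χ ∈ s, omega (ψ : G → ℂ) (Hχ χ)) ∧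
      MemLocalIdeal M (lam Pf - ∏ χ ∈ s, lam (Hχ χ)) := by
    intro s
    induction s using Finset.induction_on with
    | empty =>
      refine ⟨deltaOne, isClassFunction_deltaOne, memLocalRing_deltaOne hM.ne_top, fun ψ => ?_, ?_⟩
      · rw [Finset.prod_empty, omega_deltaOne (irr_apply_one_ne_zero ψ.2)]
      · rw [Finset.prod_empty]
        exact hone
    | insert a s ha ih =>
      obtain ⟨Pf, hPcf, hPS, hPω, hPlam⟩ := ih
      refine ⟨conv (Hχ a) Pf, isClassFunction_conv (hHcf a) hPcf,
        memLocalRing_conv hM (hHS a) hPS, fun ψ => ?_, ?_⟩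
      · rw [Finset.prod_insert ha, omega_conv ψ.2 hPcf, hPω]
      · rw [Finset.prod_insert ha]
        have h1 := hmul (Hχ a) Pf (hHcf a) (hHS a) hPcf hPS
        have hlamP : MemLocalRing M (lam Pf) := hS Pf hPcf hPS
        have hprodS : MemLocalRing M (∏ χ ∈ s, lam (Hχ χ)) :=
          memLocalRing_prod hM _ _ fun χ _ => hS _ (hHcf χ) (hHS χ)
        have h2 := cong_mul hM (hS _ (hHcf a) (hHS a)) hprodS
          (cong_refl hM.ne_top (lam (Hχ a))) hPlam
        exact cong_trans hM h1 h2
  obtain ⟨Pf, hPcf, _, hPω, hPlam⟩ := key Finset.univ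
  have hP0 : Pf = 0 := by
    apply eq_zero_of_omega_eq_zero hPcf
    intro ψ
    rw [hPω ψ]
    exact Finset.prod_eq_zero (Finset.mem_univ ψ) (hHω ψ)
  rw [hP0, map_zero, zero_sub] at hPlam
  have hprod : ¬ MemLocalIdeal M (∏ χ ∈ (Finset.univ : Finset (IrrCharacter G)), lam (Hχ χ)) := by
    have key2 : ∀ s : Finset (IrrCharacter G),
        MemLocalRing M (∏ χ ∈ s, lam (Hχ χ)) ∧ ¬ MemLocalIdeal M (∏ χ ∈ s, lam (Hχ χ)) := by
      intro s
      induction s using Finset.induction_on with
      | empty =>
        simp only [Finset.prod_empty]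
        exact ⟨memLocalRing_one hM.ne_top, not_memLocalIdeal_one hM⟩
      | insert a s ha ih =>
        rw [Finset.prod_insert ha]
        have h2 : MemLocalRing M (lam (Hχ a)) := hS _ (hHcf a) (hHS a)
        exact ⟨memLocalRing_mul hM h2 ih.1, not_memLocalIdeal_mul hM h2 ih.1 (hHlam a) ih.2⟩
    exact (key2 Finset.univ).2
  apply hprod
  have := memLocalIdeal_neg hPlam
  rwa [neg_neg] at this

end

end Cfsg.Agent.Lib.Helper8
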