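import Mathlib
import Cfsg.Prelude.Def_Blocks
import Cfsg.Agent.Lib.Helper8.BlockLocal

/-!
# Sums of invariant functions under a `p`-group action, modulo the local ideal
-/

set_option autoImplicit false

namespace Cfsg.Agent.Lib.Helper8

open Cfsg

section

variable {P : Type*} [Group P] {X : Type*} [MulAction P X] {M : Ideal AlgInt} {p : ℕ}

/-- The level set of an invariant function, as a sub-action. -/
def levelSub (f : X → ℂ) (hf : ∀ (u : P) (x : X), f (u • x) = f x) (v : ℂ) : SubMulAction P X where
  carrier := {x | f x = v}
  smul_mem' := by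
    intro u x hx
    show f (u • x) = v
    rw [hf]
    exact hx

theorem mem_levelSub (f : X → ℂ) (hf : ∀ (u : P) (x : X), f (u • x) = f x) (v : ℂ) (x : X) :
    x ∈ levelSub f hf v ↔ f x = v := Iff.rfl

/-- The number of points of a level set is congruent modulo `p` to the number of its fixed
points. -/
theorem card_level_modEq [Fintype X] [DecidableEq X] (hp : p.Prime) (hP : IsPGroup p P)
    (f : X → ℂ)
    (hf : ∀ (u : P) (x : X), f (u • x) = f x) (v : ℂ) [DecidablePred (fun x : X => f x = v)]
    [DecidablePred (fun x : X => x ∈ MulAction.fixedPoints P X)] :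
    (Finset.univ.filter (fun x : X => f x = v)).card ≡
      (Finset.univ.filter (fun x : X => x ∈ MulAction.fixedPoints P X ∧ f x = v)).card [MOD p] := by
  have : Fact p.Prime := ⟨hp⟩
  have h := hP.card_modEq_card_fixedPoints (levelSub f hf v)
  have e1 : Nat.card (levelSub f hf v) = (Finset.univ.filter (fun x : X => f x = v)).card := by
    rw [← Nat.card_eq_finsetCard]
    apply Nat.card_congr
    exact
      { toFun := fun x => ⟨x.1, by
          rw [Finset.mem_filter]
          exact ⟨Finset.mem_univ _, x.2⟩⟩
        invFun := fun x => ⟨x.1, (Finset.mem_filter.1 x.2).2⟩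
        left_inv := fun x => rfl
        right_inv := fun x => rfl }
  have e2 : Nat.card (MulAction.fixedPoints P (levelSub f hf v)) =
      (Finset.univ.filter (fun x : X => x ∈ MulAction.fixedPoints P X ∧ f x = v)).card := by
    rw [← Nat.card_eq_finsetCard]
    apply Nat.card_congr
    exact
      { toFun := fun x => ⟨x.1.1, by
          rw [Finset.mem_filter]
          refine ⟨Finset.mem_univ _, ?_, x.1.2⟩
          intro u
          have := x.2 u
          exact congrArg Subtype.val this⟩
        invFun := fun x => ⟨⟨x.1, (Finset.mem_filter.1 x.2).2.2⟩, by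
          intro u
          apply Subtype.ext
          exact (Finset.mem_filter.1 x.2).2.1 u⟩
        left_inv := fun x => rfl
        right_inv := fun x => rfl }
  rw [e1, e2] at h
  exact h

/-- **Orbit counting modulo the local ideal**: the sum of an invariant function with values in
the local ring over a finite set acted on by a `p`-group is congruent modulo the local ideal to
the sum over the fixed points. -/
theorem memLocalIdeal_sum_sub_sum_fixedPoints [Fintype X] (hM : IsPModular p M)
    (hP : IsPGroup p P) (f : X → ℂ) (hf : ∀ (u : P) (x : X), f (u • x) = f x)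
    (hfS : ∀ x, MemLocalRing M (f x)) [DecidablePred (fun x : X => x ∈ MulAction.fixedPoints P X)] :
    MemLocalIdeal M (∑ x, f x - ∑ x ∈ Finset.univ.filter
      (fun x : X => x ∈ MulAction.fixedPoints P X), f x) := by
  classical
  have hMp := isPModular_isPrime hM
  have h1 : ∑ x, f x = ∑ v ∈ Finset.univ.image f,
      ((Finset.univ.filter (fun x : X => f x = v)).card : ℂ) * v := by
    rw [← Finset.sum_fiberwise_of_maps_to (g := f) (t := Finset.univ.image f)
      (fun x _ => Finset.mem_image_of_mem f (Finset.mem_univ x))]
    refine Finset.sum_congr rfl fun v _ => ?_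
    rw [Finset.sum_congr rfl (fun x hx => (Finset.mem_filter.1 hx).2), Finset.sum_const,
      nsmul_eq_mul]
  have h2 : ∑ x ∈ Finset.univ.filter (fun x : X => x ∈ MulAction.fixedPoints P X), f x
      = ∑ v ∈ Finset.univ.image f,
      ((Finset.univ.filter (fun x : X => x ∈ MulAction.fixedPoints P X ∧ f x = v)).card : ℂ) * v := by
    rw [← Finset.sum_fiberwise_of_maps_to (g := f) (t := Finset.univ.image f)
      (fun x _ => Finset.mem_image_of_mem f (Finset.mem_univ x))]
    refine Finset.sum_congr rfl fun v _ => ?_
    rw [Finset.filter_filter]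
    rw [Finset.sum_congr rfl (fun x hx => (Finset.mem_filter.1 hx).2.2), Finset.sum_const,
      nsmul_eq_mul]
  rw [h1, h2, ← Finset.sum_sub_distrib]
  apply memLocalIdeal_sum hMp
  intro v hv
  rw [← sub_mul]
  obtain ⟨x, _, rfl⟩ := Finset.mem_image.1 hv
  apply memLocalIdeal_mul_right hMp _ (hfS x)
  have hmod := card_level_modEq hM.1 hP f hf (f x)
  have hdvd : (p : ℤ) ∣ ((Finset.univ.filter (fun y : X => f y = f x)).card : ℤ) -
      ((Finset.univ.filter (fun y : X => y ∈ MulAction.fixedPoints P X ∧ f y = f x)).card : ℤ) := by
    have := (Nat.modEq_iff_dvd.1 hmod.symm)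
    exact this
  have h3 := (memLocalIdeal_intCast_iff hM _).2 hdvd
  push_cast at h3
  exact h3

end

end Cfsg.Agent.Lib.Helper8
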