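import Mathlib
import Cfsg.Prelude.Def_Blocks
import Cfsg.Agent.Lib.Helper8.BlockHom
import Cfsg.Agent.Lib.Helper8.OrbitSum

/-!
# The Brauer map: truncation to the centralizer of a `p`-subgroup is multiplicative modulo the
local ideal
-/

set_option autoImplicit false

namespace Cfsg.Agent.Lib.Helper8

open Cfsg
open scoped ComplexConjugate
open Cfsg.Agent.Lib.Helper1 Cfsg.Agent.Lib.Helper4

universe u

section

variable {G : Type u} [Group G]

/-- Truncation of a function to a set. -/
noncomputable def truncTo (C : Set G) (F : G → ℂ) : G → ℂ :=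
  fun g => by classical exact if g ∈ C then F g else 0

theorem truncTo_apply (C : Set G) (F : G → ℂ) (g : G) [Decidable (g ∈ C)] :
    truncTo C F g = if g ∈ C then F g else 0 := by
  unfold truncTo
  congr

theorem truncTo_of_mem {C : Set G} (F : G → ℂ) {g : G} (hg : g ∈ C) : truncTo C F g = F g := by
  classical
  rw [truncTo_apply, if_pos hg]

theorem truncTo_of_not_mem {C : Set G} (F : G → ℂ) {g : G} (hg : g ∉ C) : truncTo C F g = 0 := by
  classical
  rw [truncTo_apply, if_neg hg]

theorem isClassFunction_truncTo {C : Set G} (hC : ∀ g t : G, g ∈ C → t * g * t⁻¹ ∈ C)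
    {F : G → ℂ} (hF : IsClassFunction G F) : IsClassFunction G (truncTo C F) := by
  classical
  intro g t
  have hiff : t * g * t⁻¹ ∈ C ↔ g ∈ C := by
    constructor
    · intro h
      have := hC _ t⁻¹ h
      simpa [mul_assoc] using this
    · intro h
      exact hC g t h
  by_cases hg : g ∈ C
  · rw [truncTo_of_mem _ hg, truncTo_of_mem _ (hiff.2 hg), hF g t]
  · rw [truncTo_of_not_mem _ hg, truncTo_of_not_mem _ (fun h => hg (hiff.1 h))]

theorem memLocalRing_truncTo {M : Ideal AlgInt} (hM : M ≠ ⊤) (C : Set G) {F : G → ℂ}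
    (hFS : ∀ g, MemLocalRing M (F g)) (g : G) : MemLocalRing M (truncTo C F g) := by
  classical
  rw [truncTo_apply]
  split_ifs
  · exact hFS g
  · exact memLocalRing_zero hM

/-- A copy of the pairs of group elements, to carry the simultaneous conjugation action. -/
structure PairC (G : Type u) where
  fst : G
  snd : G

/-- The pairs are equivalent to the product. -/
def pairCEquiv (G : Type u) : PairC G ≃ G × G where
  toFun q := (q.fst, q.snd)
  invFun q := ⟨q.1, q.2⟩
  left_inv _ := rfl
  right_inv _ := rfl

noncomputable instance [Fintype G] : Fintype (PairC G) := Fintype.ofEquiv _ (pairCEquiv G).symm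

/-- The action of a subgroup on pairs of group elements by simultaneous conjugation. -/
instance conjPairAction (P : Subgroup G) : MulAction P (PairC G) where
  smul u q := ⟨(u : G) * q.fst * (u : G)⁻¹, (u : G) * q.snd * (u : G)⁻¹⟩
  one_smul := by
    intro q
    show (⟨((1 : P) : G) * q.fst * ((1 : P) : G)⁻¹, ((1 : P) : G) * q.snd * ((1 : P) : G)⁻¹⟩
      : PairC G) = q
    cases q
    simp
  mul_smul := by
    intro u v q
    show (⟨((u * v : P) : G) * q.fst * ((u * v : P) : G)⁻¹,
        ((u * v : P) : G) * q.snd * ((u * v : P) : G)⁻¹⟩ : PairC G)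
      = ⟨(u : G) * ((v : G) * q.fst * (v : G)⁻¹) * (u : G)⁻¹,
        (u : G) * ((v : G) * q.snd * (v : G)⁻¹) * (u : G)⁻¹⟩
    simp [mul_assoc]

theorem conjPairAction_smul (P : Subgroup G) (u : P) (q : PairC G) :
    u • q = ⟨(u : G) * q.fst * (u : G)⁻¹, (u : G) * q.snd * (u : G)⁻¹⟩ := rfl

theorem mem_fixedPoints_conjPairAction (P : Subgroup G) (q : PairC G) :
    q ∈ MulAction.fixedPoints P (PairC G) ↔
      q.fst ∈ Subgroup.centralizer (P : Set G) ∧ q.snd ∈ Subgroup.centralizer (P : Set G) := by
  rw [MulAction.mem_fixedPoints]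
  constructor
  · intro h
    constructor
    · rw [Subgroup.mem_centralizer_iff]
      intro u hu
      have := h ⟨u, hu⟩
      rw [conjPairAction_smul] at this
      have h1 : u * q.fst * u⁻¹ = q.fst := congrArg PairC.fst this
      calc u * q.fst = u * q.fst * u⁻¹ * u := by group
        _ = q.fst * u := by rw [h1]
    · rw [Subgroup.mem_centralizer_iff]
      intro u hu
      have := h ⟨u, hu⟩
      rw [conjPairAction_smul] at this
      have h1 : u * q.snd * u⁻¹ = q.snd := congrArg PairC.snd this
      calc u * q.snd = u * q.snd * u⁻¹ * u := by group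
        _ = q.snd * u := by rw [h1]
  · rintro ⟨h1, h2⟩ u
    have e1 := Subgroup.mem_centralizer_iff.1 h1 u u.2
    have e2 := Subgroup.mem_centralizer_iff.1 h2 u u.2
    rw [conjPairAction_smul, e1, e2]
    cases q
    simp

end

section

variable {G : Type u} [Group G] [Fintype G] {M : Ideal AlgInt} {p : ℕ}

theorem sum_pairC (f : G × G → ℂ) : ∑ q : PairC G, f (q.fst, q.snd) = ∑ q : G × G, f q :=
  Fintype.sum_equiv (pairCEquiv G) _ _ (fun _ => rfl)

/-- Convolution as a sum over pairs. -/
theorem conv_eq_sum_pairs [DecidableEq G] (F H : G → ℂ) (z : G) :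
    conv F H z = ∑ q : G × G, if q.1 * q.2 = z then F q.1 * H q.2 else 0 := by
  rw [conv_apply, Fintype.sum_prod_type]
  refine Finset.sum_congr rfl fun x _ => ?_
  rw [Finset.sum_eq_single (x⁻¹ * z)]
  · simp
  · intro y _ hy
    rw [if_neg]
    intro h
    apply hy
    rw [← h]
    group
  · intro h
    exact absurd (Finset.mem_univ _) h

/-- **The Brauer map is multiplicative modulo the local ideal**, for functions invariant under
conjugation by the `p`-subgroup `P`. -/
theorem brauer_conv' (hM : IsPModular p M) (P : Subgroup G) (hP : IsPGroup p P) {F H : G → ℂ}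
    (hF : ∀ u ∈ P, ∀ x : G, F (u * x * u⁻¹) = F x) (hH : ∀ u ∈ P, ∀ x : G, H (u * x * u⁻¹) = H x)
    (hFS : ∀ g, MemLocalRing M (F g))
    (hHS : ∀ g, MemLocalRing M (H g)) (z : G) :
    MemLocalIdeal M (truncTo (Subgroup.centralizer (P : Set G) : Set G) (conv F H) z -
      conv (truncTo (Subgroup.centralizer (P : Set G) : Set G) F)
        (truncTo (Subgroup.centralizer (P : Set G) : Set G) H) z) := by
  classical
  have hMp := isPModular_isPrime hM
  set C : Subgroup G := Subgroup.centralizer (P : Set G) with hC
  by_cases hz : z ∈ (C : Set G)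
  · rw [truncTo_of_mem _ hz, conv_eq_sum_pairs, conv_eq_sum_pairs]
    rw [← sum_pairC, ← sum_pairC]
    let f : PairC G → ℂ := fun q => if q.fst * q.snd = z then F q.fst * H q.snd else 0
    have hf : ∀ (u : P) (q : PairC G), f (u • q) = f q := by
      intro u q
      simp only [f, conjPairAction_smul]
      have hzu : (u : G) * z * (u : G)⁻¹ = z := by
        have := Subgroup.mem_centralizer_iff.1 hz u u.2
        rw [this]
        group
      have hiff : (u : G) * q.fst * (u : G)⁻¹ * ((u : G) * q.snd * (u : G)⁻¹) = z ↔
          q.fst * q.snd = z := by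
        have e : (u : G) * q.fst * (u : G)⁻¹ * ((u : G) * q.snd * (u : G)⁻¹)
            = (u : G) * (q.fst * q.snd) * (u : G)⁻¹ := by group
        rw [e]
        constructor
        · intro h
          have : q.fst * q.snd = (u : G)⁻¹ * z * (u : G) := by
            rw [← h]; group
          rw [this]
          calc (u : G)⁻¹ * z * (u : G) = (u : G)⁻¹ * ((u : G) * z * (u : G)⁻¹) * (u : G) := by
                rw [hzu]
            _ = z := by group
        · intro h
          rw [h, hzu]
      by_cases hq : q.fst * q.snd = z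
      · rw [if_pos hq, if_pos (hiff.2 hq), hF u u.2 q.fst, hH u u.2 q.snd]
      · rw [if_neg hq, if_neg (fun h => hq (hiff.1 h))]
    have hfS : ∀ q, MemLocalRing M (f q) := by
      intro q
      simp only [f]
      split_ifs
      · exact memLocalRing_mul hMp (hFS _) (hHS _)
      · exact memLocalRing_zero hMp.ne_top
    have key := memLocalIdeal_sum_sub_sum_fixedPoints hM hP f hf hfS
    have e2 : ∑ q ∈ Finset.univ.filter (fun q : PairC G => q ∈ MulAction.fixedPoints P (PairC G)),
        f q = ∑ q : PairC G, if q.fst * q.snd = z then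
          truncTo (C : Set G) F q.fst * truncTo (C : Set G) H q.snd else 0 := by
      rw [Finset.sum_filter]
      refine Finset.sum_congr rfl fun q _ => ?_
      by_cases hq : q ∈ MulAction.fixedPoints P (PairC G)
      · rw [if_pos hq]
        obtain ⟨h1, h2⟩ := (mem_fixedPoints_conjPairAction P q).1 hq
        rw [truncTo_of_mem _ (show q.fst ∈ (C : Set G) from h1),
          truncTo_of_mem _ (show q.snd ∈ (C : Set G) from h2)]
      · rw [if_neg hq]
        have : ¬ (q.fst ∈ (C : Set G) ∧ q.snd ∈ (C : Set G)) := fun h =>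
          hq ((mem_fixedPoints_conjPairAction P q).2 h)
        by_cases h1 : q.fst ∈ (C : Set G)
        · have h2 : q.snd ∉ (C : Set G) := fun h2 => this ⟨h1, h2⟩
          rw [truncTo_of_not_mem _ h2, mul_zero, ite_self]
        · rw [truncTo_of_not_mem _ h1, zero_mul, ite_self]
    rw [e2] at key
    exact key
  · rw [truncTo_of_not_mem _ hz]
    have : conv (truncTo (C : Set G) F) (truncTo (C : Set G) H) z = 0 := by
      rw [conv_apply]
      apply Finset.sum_eq_zero
      intro y _
      by_cases hy : y ∈ (C : Set G)
      · have : y⁻¹ * z ∉ (C : Set G) := by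
          intro h
          apply hz
          have := C.mul_mem hy h
          simpa using this
        rw [truncTo_of_not_mem _ this, mul_zero]
      · rw [truncTo_of_not_mem _ hy, zero_mul]
    rw [this, sub_zero]
    exact memLocalIdeal_zero hMp.ne_top

/-- **The Brauer map is multiplicative modulo the local ideal.** -/
theorem brauer_conv (hM : IsPModular p M) (P : Subgroup G) (hP : IsPGroup p P) {F H : G → ℂ}
    (hF : IsClassFunction G F) (hH : IsClassFunction G H) (hFS : ∀ g, MemLocalRing M (F g))
    (hHS : ∀ g, MemLocalRing M (H g)) (z : G) :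
    MemLocalIdeal M (truncTo (Subgroup.centralizer (P : Set G) : Set G) (conv F H) z -
      conv (truncTo (Subgroup.centralizer (P : Set G) : Set G) F)
        (truncTo (Subgroup.centralizer (P : Set G) : Set G) H) z) :=
  brauer_conv' hM P hP (fun u _ x => hF x u) (fun u _ x => hH x u) hFS hHS z

end

end Cfsg.Agent.Lib.Helper8
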