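import Mathlib
import Cfsg.Prelude.Def_Blocks
import Cfsg.Agent.Lib.Helper8.BlockTrace

/-!
# Traces of idempotents against permutations: the supported and the mixed versions

Extensions of the key trace lemma `trace_permMat_mul_eq_zero`: the idempotent may be supported on a
stable subset on which all cycles have length divisible by `p`; and, more generally, the
idempotent may be arbitrary provided its block on the complement is "quasi-regular".
-/

set_option autoImplicit false

namespace Cfsg.Agent.Lib.Helper8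

open Cfsg Matrix

universe u

section Ring

variable {R : Type*} [Ring R]

/-- A Woodbury-type identity. -/
theorem ring_woodbury (A W Q : R) (hA : A * A = A) (hWQ : W * Q = W) (hQ : Q * Q = Q)
    (hW : W * (Q - Q * A * Q) = Q) : (1 + A * W * A) * (1 - A * Q * A) = 1 := by
  have key : A * W * A - A * W * A * (A * Q * A) = A * Q * A := by
    have e1 : A * W * A * (A * Q * A) = A * W * (A * A) * Q * A := by noncomm_ring
    rw [e1, hA]
    have e3 : A * (W * (Q - Q * A * Q)) * (Q * A)
        = A * (W * (Q * Q)) * A - A * (W * Q) * A * (Q * Q) * A := by noncomm_ring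
    rw [hQ, hWQ, hW] at e3
    rw [← e3]
    have : A * Q * (Q * A) = A * (Q * Q) * A := by noncomm_ring
    rw [this, hQ]
  have : (1 + A * W * A) * (1 - A * Q * A)
      = 1 - A * Q * A + (A * W * A - A * W * A * (A * Q * A)) := by noncomm_ring
  rw [this, key]
  noncomm_ring

/-- If `Θ = A P A + 1 - A` has the two-sided inverse `T`, then `T` commutes with `A`. -/
theorem ring_inv_comm (A P T : R) (hA : A * A = A)
    (h1 : T * (A * P * A + 1 - A) = 1) (h2 : (A * P * A + 1 - A) * T = 1) : T * A = A * T := by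
  have e1 : (A * P * A + 1 - A) * A = A * P * A := by
    have : (A * P * A + 1 - A) * A = A * P * (A * A) + A - A * A := by noncomm_ring
    rw [this, hA]; noncomm_ring
  have e2 : A * (A * P * A + 1 - A) = A * P * A := by
    have : A * (A * P * A + 1 - A) = A * A * P * A + A - A * A := by noncomm_ring
    rw [this, hA]; noncomm_ring
  calc T * A = T * A * ((A * P * A + 1 - A) * T) := by rw [h2, mul_one]
    _ = T * (A * (A * P * A + 1 - A)) * T := by simp only [mul_assoc]
    _ = T * ((A * P * A + 1 - A) * A) * T := by rw [e1, e2]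
    _ = (T * (A * P * A + 1 - A)) * A * T := by simp only [mul_assoc]
    _ = A * T := by rw [h1, one_mul]

/-- `P T A P` is idempotent. -/
theorem ring_compress_idem (A P T : R) (hA : A * A = A) (hP : P * P = P)
    (h1 : T * (A * P * A + 1 - A) = 1) (h2 : (A * P * A + 1 - A) * T = 1) :
    (P * T * A * P) * (P * T * A * P) = P * T * A * P := by
  have hTA := ring_inv_comm A P T hA h1 h2
  have e1 : (A * P * A + 1 - A) * A = A * P * A := by
    have : (A * P * A + 1 - A) * A = A * P * (A * A) + A - A * A := by noncomm_ring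
    rw [this, hA]; noncomm_ring
  have key : T * A * P * (T * A) = T * A := by
    calc T * A * P * (T * A) = T * A * P * (A * T) := congrArg (fun x => T * A * P * x) hTA
      _ = T * (A * P * A) * T := by simp only [mul_assoc]
      _ = T * ((A * P * A + 1 - A) * A) * T := by rw [e1]
      _ = (T * (A * P * A + 1 - A)) * A * T := by simp only [mul_assoc]
      _ = A * T := by rw [h1, one_mul]
      _ = T * A := hTA.symm
  calc (P * T * A * P) * (P * T * A * P) = P * (T * A * (P * P) * (T * A)) * P := by noncomm_ring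
    _ = P * (T * A * P * (T * A)) * P := by rw [hP]
    _ = P * (T * A) * P := by rw [key]
    _ = P * T * A * P := by noncomm_ring

/-- An inverse of an element commuting with `Γ` commutes with `Γ`. -/
theorem ring_inv_comm' (Θ T Γ : R) (h1 : T * Θ = 1) (h2 : Θ * T = 1) (h : Γ * Θ = Θ * Γ) :
    Γ * T = T * Γ := by
  calc Γ * T = (T * Θ) * Γ * T := by rw [h1, one_mul]
    _ = T * (Θ * Γ) * T := by simp only [mul_assoc]
    _ = T * (Γ * Θ) * T := by rw [h]
    _ = T * Γ * (Θ * T) := by simp only [mul_assoc]
    _ = T * Γ := by rw [h2, mul_one]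

/-- `Γ` commutes with `A P A + 1 - A`. -/
theorem ring_comm_theta (A P Γ : R) (hcomm : Γ * A = A * Γ) (hΓP : Γ * P = P * Γ) :
    Γ * (A * P * A + 1 - A) = (A * P * A + 1 - A) * Γ := by
  calc Γ * (A * P * A + 1 - A) = (Γ * A) * P * A + Γ - Γ * A := by noncomm_ring
    _ = (A * Γ) * P * A + Γ - A * Γ := by rw [hcomm]
    _ = A * (Γ * P) * A + Γ - A * Γ := by noncomm_ring
    _ = A * (P * Γ) * A + Γ - A * Γ := by rw [hΓP]
    _ = A * P * (Γ * A) + Γ - A * Γ := by noncomm_ring
    _ = A * P * (A * Γ) + Γ - A * Γ := by rw [hcomm]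
    _ = (A * P * A + 1 - A) * Γ := by noncomm_ring

/-- `Γ` commutes with `P T A P`. -/
theorem ring_comm_compress (A P T Γ : R) (hcomm : Γ * A = A * Γ) (hΓP : Γ * P = P * Γ)
    (hΓT : Γ * T = T * Γ) : Γ * (P * T * A * P) = (P * T * A * P) * Γ := by
  calc Γ * (P * T * A * P) = (Γ * P) * T * A * P := by simp only [mul_assoc]
    _ = (P * Γ) * T * A * P := by rw [hΓP]
    _ = P * (Γ * T) * A * P := by simp only [mul_assoc]
    _ = P * (T * Γ) * A * P := by rw [hΓT]
    _ = P * T * (Γ * A) * P := by simp only [mul_assoc]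
    _ = P * T * (A * Γ) * P := by rw [hcomm]
    _ = P * T * A * (Γ * P) := by simp only [mul_assoc]
    _ = P * T * A * (P * Γ) := by rw [hΓP]
    _ = (P * T * A * P) * Γ := by simp only [mul_assoc]

theorem ring_trace_step2 (P Γ Y : R) (hΓP : Γ * P = P * Γ) (hP : P * P = P) :
    P * (Γ * P * Y) = Γ * P * Y := by
  calc P * (Γ * P * Y) = (P * Γ) * P * Y := by simp only [mul_assoc]
    _ = (Γ * P) * P * Y := by rw [hΓP]
    _ = Γ * (P * P) * Y := by simp only [mul_assoc]
    _ = Γ * P * Y := by rw [hP]

theorem ring_trace_step4 (A P T Γ : R) (hA : A * A = A) (hcomm : Γ * A = A * Γ)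
    (hTA : T * A = A * T) (h2 : (A * P * A + 1 - A) * T = 1) :
    A * (Γ * P * (T * A)) = Γ * A := by
  have e1 : (A * P * A + 1 - A) * A = A * P * A := by
    have : (A * P * A + 1 - A) * A = A * P * (A * A) + A - A * A := by noncomm_ring
    rw [this, hA]; noncomm_ring
  calc A * (Γ * P * (T * A)) = (A * Γ) * P * (T * A) := by simp only [mul_assoc]
    _ = (Γ * A) * P * (A * T) := by rw [hcomm, hTA]
    _ = Γ * (A * P * A) * T := by simp only [mul_assoc]
    _ = Γ * ((A * P * A + 1 - A) * A) * T := by rw [e1]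
    _ = Γ * (A * P * A + 1 - A) * (A * T) := by simp only [mul_assoc]
    _ = Γ * (A * P * A + 1 - A) * (T * A) := by rw [hTA]
    _ = Γ * ((A * P * A + 1 - A) * T) * A := by simp only [mul_assoc]
    _ = Γ * A := by rw [h2, mul_one]

end Ring

section Core

variable {X : Type u} [Fintype X] [DecidableEq X] {M : Ideal AlgInt} {p : ℕ}

theorem permMat_mul_apply (γ : Equiv.Perm X) (A : Matrix X X ℂ) (i j : X) :
    (permMat γ * A) i j = A (γ.symm i) j := by
  classical
  rw [Matrix.mul_apply, Finset.sum_eq_single (γ.symm i)]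
  · rw [permMat_apply, if_pos (by simp), one_mul]
  · intro k _ hk
    rw [permMat_apply, if_neg, zero_mul]
    intro h
    apply hk
    rw [h]
    simp
  · intro h
    exact absurd (Finset.mem_univ _) h

theorem mul_permMat_apply (γ : Equiv.Perm X) (A : Matrix X X ℂ) (i j : X) :
    (A * permMat γ) i j = A i (γ j) := by
  classical
  rw [Matrix.mul_apply, Finset.sum_eq_single (γ j)]
  · rw [permMat_apply, if_pos rfl, mul_one]
  · intro k _ hk
    rw [permMat_apply, if_neg hk, mul_zero]
  · intro h
    exact absurd (Finset.mem_univ _) h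

theorem trace_permMat_mul (γ : Equiv.Perm X) (A : Matrix X X ℂ) :
    Matrix.trace (permMat γ * A) = ∑ i, A (γ.symm i) i := by
  rw [Matrix.trace]
  refine Finset.sum_congr rfl fun i _ => ?_
  rw [Matrix.diag_apply, permMat_mul_apply]

omit [DecidableEq X] in
theorem sum_eq_sum_subtype_of_support (s : Set X) [DecidablePred (· ∈ s)] (f : X → ℂ)
    (h : ∀ x, x ∉ s → f x = 0) : ∑ x, f x = ∑ y : {x // x ∈ s}, f y := by
  classical
  rw [← Finset.sum_subtype (Finset.univ.filter (· ∈ s)) (by simp) f, Finset.sum_filter]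
  refine Finset.sum_congr rfl fun x _ => ?_
  by_cases hx : x ∈ s
  · rw [if_pos hx]
  · rw [if_neg hx, h x hx]

/-- **Supported version of the trace lemma.** -/
theorem trace_permMat_mul_eq_zero_of_support (hM : IsPModular p M) (γ : Equiv.Perm X)
    (s : Set X) [DecidablePred (· ∈ s)] (hs : ∀ x, γ x ∈ s ↔ x ∈ s)
    (hγ : ∀ x ∈ s, ∀ n : ℤ, (γ ^ n) x = x → (p : ℤ) ∣ n)
    (A : Matrix X X ℂ) (hAS : ∀ i j, MemLocalRing M (A i j)) (hA : A * A = A)
    (hcomm : permMat γ * A = A * permMat γ)
    (hsupp : ∀ i j, A i j ≠ 0 → i ∈ s ∧ j ∈ s) : Matrix.trace (permMat γ * A) = 0 := by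
  classical
  let γ' : Equiv.Perm {x // x ∈ s} := γ.subtypePerm hs
  let A' : Matrix {x // x ∈ s} {x // x ∈ s} ℂ := fun i j => A i j
  have hsymm : ∀ i : {x // x ∈ s}, ((γ'.symm i : {x // x ∈ s}) : X) = γ.symm i := by
    intro i
    have h1 : γ' (γ'.symm i) = i := γ'.apply_symm_apply i
    have h2 : γ ((γ'.symm i : {x // x ∈ s}) : X) = i := congrArg Subtype.val h1
    rw [← h2]
    simp
  have hcomm_entry : ∀ i j : X, A (γ.symm i) j = A i (γ j) := by
    intro i j
    have := congrFun (congrFun hcomm i) j
    rwa [permMat_mul_apply, mul_permMat_apply] at this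
  have key := trace_permMat_mul_eq_zero hM γ' ?_ A' (fun i j => hAS _ _) ?_ ?_
  · rw [trace_permMat_mul] at key ⊢
    rw [sum_eq_sum_subtype_of_support s (fun i => A (γ.symm i) i)
      (fun x hx => by
        by_contra h0
        exact hx (hsupp _ _ h0).2)]
    rw [← key]
    refine Finset.sum_congr rfl fun i _ => ?_
    show A (γ.symm i) i = A (γ'.symm i : {x // x ∈ s}) i
    rw [hsymm]
  · intro x n hn
    apply hγ x x.2 n
    rw [Equiv.Perm.subtypePerm_zpow] at hn
    have := congrArg Subtype.val hn
    simpa [Equiv.Perm.subtypePerm_apply] using this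
  · ext i j
    rw [Matrix.mul_apply]
    have h1 := congrFun (congrFun hA (i : X)) (j : X)
    rw [Matrix.mul_apply] at h1
    rw [sum_eq_sum_subtype_of_support s (fun k => A i k * A k j)
      (fun x hx => by
        by_contra h0
        have : A i x ≠ 0 := left_ne_zero_of_mul h0
        exact hx (hsupp _ _ this).2)] at h1
    exact h1
  · ext i j
    rw [permMat_mul_apply, mul_permMat_apply]
    show A (γ'.symm i : {x // x ∈ s}) j = A i (γ' j : {x // x ∈ s})
    rw [hsymm]
    exact hcomm_entry i j

end Core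

end Cfsg.Agent.Lib.Helper8
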