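import Mathlib
import Cfsg.Prelude.Def_Blocks
import Cfsg.Agent.Lib.Helper8.SM1

/-!
# The mixed trace lemma

If `A` is an idempotent matrix with entries in the local ring commuting with the permutation matrix
of `γ`, if `s` is a `γ`-stable subset on which all cycles of `γ` have length divisible by `p`, and
if the block of `A` on the complement of `s` is quasi-regular (`1 - A₀₀` is invertible over the
local ring), then `trace (Γ A) = 0`.
-/

set_option autoImplicit false

namespace Cfsg.Agent.Lib.Helper8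

open Cfsg Matrix

universe u

section Core

variable {X : Type u} [Fintype X] [DecidableEq X] {M : Ideal AlgInt} {p : ℕ}

/-- The diagonal projection onto a subset. -/
def projMat (s : Set X) [DecidablePred (· ∈ s)] : Matrix X X ℂ :=
  Matrix.diagonal fun x => if x ∈ s then 1 else 0

theorem projMat_mul_self (s : Set X) [DecidablePred (· ∈ s)] : projMat s * projMat s = projMat s := by
  unfold projMat
  rw [Matrix.diagonal_mul_diagonal]
  congr 1
  funext x
  split_ifs <;> simp

theorem projMat_mul_apply (s : Set X) [DecidablePred (· ∈ s)] (A : Matrix X X ℂ) (i j : X) :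
    (projMat s * A) i j = if i ∈ s then A i j else 0 := by
  unfold projMat
  rw [Matrix.diagonal_mul]
  split_ifs <;> simp

theorem mul_projMat_apply (s : Set X) [DecidablePred (· ∈ s)] (A : Matrix X X ℂ) (i j : X) :
    (A * projMat s) i j = if j ∈ s then A i j else 0 := by
  unfold projMat
  rw [Matrix.mul_diagonal]
  split_ifs <;> simp

theorem permMat_comm_projMat (γ : Equiv.Perm X) (s : Set X) [DecidablePred (· ∈ s)]
    (hs : ∀ x, γ x ∈ s ↔ x ∈ s) : permMat γ * projMat s = projMat s * permMat γ := by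
  ext i j
  rw [mul_projMat_apply, projMat_mul_apply, permMat_apply]
  by_cases hij : i = γ j
  · rw [if_pos hij, hij]
    by_cases hj : j ∈ s
    · rw [if_pos hj, if_pos ((hs j).2 hj)]
    · rw [if_neg hj, if_neg (fun h => hj ((hs j).1 h))]
  · rw [if_neg hij]
    simp

theorem memLocalRing_matrix_mul (hM : M.IsPrime) {A B : Matrix X X ℂ}
    (hA : ∀ i j, MemLocalRing M (A i j)) (hB : ∀ i j, MemLocalRing M (B i j)) (i j : X) :
    MemLocalRing M ((A * B) i j) := by
  rw [Matrix.mul_apply]
  exact memLocalRing_sum hM _ _ fun k _ => memLocalRing_mul hM (hA i k) (hB k j)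

theorem memLocalRing_projMat (hM : M.IsPrime) (s : Set X) [DecidablePred (· ∈ s)] (i j : X) :
    MemLocalRing M (projMat s i j) := by
  unfold projMat
  rw [Matrix.diagonal_apply]
  split_ifs
  · exact memLocalRing_one hM.ne_top
  · exact memLocalRing_zero hM.ne_top
  · exact memLocalRing_zero hM.ne_top

/-- **Mixed version of the trace lemma.** -/
theorem trace_permMat_mul_eq_zero_mixed (hM : IsPModular p M) (γ : Equiv.Perm X)
    (s : Set X) [DecidablePred (· ∈ s)] (hs : ∀ x, γ x ∈ s ↔ x ∈ s)
    (hγ : ∀ x ∈ s, ∀ n : ℤ, (γ ^ n) x = x → (p : ℤ) ∣ n)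
    (A : Matrix X X ℂ) (hAS : ∀ i j, MemLocalRing M (A i j)) (hA : A * A = A)
    (hcomm : permMat γ * A = A * permMat γ)
    (W : Matrix X X ℂ) (hWS : ∀ i j, MemLocalRing M (W i j))
    (hWQ : W * (1 - projMat s) = W)
    (hW : W * ((1 - projMat s) - (1 - projMat s) * A * (1 - projMat s)) = 1 - projMat s) :
    Matrix.trace (permMat γ * A) = 0 := by
  classical
  have hMp := isPModular_isPrime hM
  obtain ⟨P, hPdef⟩ : ∃ P : Matrix X X ℂ, P = projMat s := ⟨_, rfl⟩
  obtain ⟨Γ, hΓdef⟩ : ∃ Γ : Matrix X X ℂ, Γ = permMat γ := ⟨_, rfl⟩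
  rw [← hPdef] at hWQ hW
  rw [← hΓdef] at hcomm ⊢
  have hP : P * P = P := by rw [hPdef]; exact projMat_mul_self s
  have hPS : ∀ i j, MemLocalRing M (P i j) := by
    rw [hPdef]; exact memLocalRing_projMat hMp s
  have hΓP : Γ * P = P * Γ := by
    rw [hPdef, hΓdef]; exact permMat_comm_projMat γ s hs
  have hQ : (1 - P) * (1 - P) = 1 - P := by
    have : (1 - P) * (1 - P) = 1 - P - P + P * P := by noncomm_ring
    rw [this, hP]; noncomm_ring
  obtain ⟨T, hTdef⟩ : ∃ T : Matrix X X ℂ, T = 1 + A * W * A := ⟨_, rfl⟩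
  have hΘ : A * P * A + 1 - A = 1 - A * (1 - P) * A := by
    have : 1 - A * (1 - P) * A = 1 - A * A + A * P * A := by noncomm_ring
    rw [this, hA]; noncomm_ring
  have h1 : T * (A * P * A + 1 - A) = 1 := by
    rw [hΘ, hTdef]
    exact ring_woodbury A W (1 - P) hA hWQ hQ hW
  have h2 : (A * P * A + 1 - A) * T = 1 := mul_eq_one_comm.1 h1
  have hΓΘ : Γ * (A * P * A + 1 - A) = (A * P * A + 1 - A) * Γ := ring_comm_theta A P Γ hcomm hΓP
  have hΓT : Γ * T = T * Γ := ring_inv_comm' _ T Γ h1 h2 hΓΘ
  have hTA : T * A = A * T := ring_inv_comm A P T hA h1 h2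
  have hTS : ∀ i j, MemLocalRing M (T i j) := by
    intro i j
    rw [hTdef, Matrix.add_apply]
    apply memLocalRing_add hMp
    · rw [Matrix.one_apply]
      split_ifs
      · exact memLocalRing_one hMp.ne_top
      · exact memLocalRing_zero hMp.ne_top
    · exact memLocalRing_matrix_mul hMp (memLocalRing_matrix_mul hMp hAS hWS) hAS i j
  obtain ⟨E, hEdef⟩ : ∃ E : Matrix X X ℂ, E = P * T * A * P := ⟨_, rfl⟩
  have hE : E * E = E := by
    rw [hEdef]; exact ring_compress_idem A P T hA hP h1 h2
  have hES : ∀ i j, MemLocalRing M (E i j) := by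
    rw [hEdef]
    exact memLocalRing_matrix_mul hMp (memLocalRing_matrix_mul hMp
      (memLocalRing_matrix_mul hMp hPS hTS) hAS) hPS
  have hΓE : Γ * E = E * Γ := by
    rw [hEdef]; exact ring_comm_compress A P T Γ hcomm hΓP hΓT
  have hEsupp : ∀ i j, E i j ≠ 0 → i ∈ s ∧ j ∈ s := by
    intro i j hij
    rw [hEdef, hPdef, mul_projMat_apply] at hij
    by_cases hj : j ∈ s
    · rw [if_pos hj, Matrix.mul_assoc, projMat_mul_apply] at hij
      by_cases hi : i ∈ s
      · exact ⟨hi, hj⟩
      · rw [if_neg hi] at hij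
        exact absurd rfl hij
    · rw [if_neg hj] at hij
      exact absurd rfl hij
  have htr : Matrix.trace (Γ * E) = Matrix.trace (Γ * A) := by
    have e0 : Γ * E = (Γ * P * (T * A)) * P := by
      rw [hEdef]; simp only [Matrix.mul_assoc]
    have e1 : Γ * P * (T * A) = (Γ * P * (T * A)) * A := by
      have : (Γ * P * (T * A)) * A = Γ * P * (T * (A * A)) := by simp only [Matrix.mul_assoc]
      rw [this, hA]
    rw [e0, Matrix.trace_mul_comm, ring_trace_step2 P Γ (T * A) hΓP hP, e1, Matrix.trace_mul_comm,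
      ring_trace_step4 A P T Γ hA hcomm hTA h2]
  rw [← htr, hΓdef]
  apply trace_permMat_mul_eq_zero_of_support hM γ s hs hγ E hES hE
  · rw [← hΓdef]; exact hΓE
  · exact hEsupp

end Core

end Cfsg.Agent.Lib.Helper8
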