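import Mathlib
import Cfsg.Prelude.Def_Blocks
import Cfsg.Agent.Lib.Helper8.SM2
import Cfsg.Agent.Lib.Helper8.BlockOrth
import Cfsg.Agent.Lib.Helper8.BlockBrauer

/-!
# Vanishing of twisted class sums of idempotents of the group algebra

For an idempotent `j` of the group algebra with coefficients in the local ring, commuting with `a`,
the sums `∑ z, j (a⁻¹ z g⁻¹ z⁻¹)` vanish under a condition on the cycles of `z ↦ a z g`.
-/

set_option autoImplicit false

namespace Cfsg.Agent.Lib.Helper8

open Cfsg Matrix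
open scoped ComplexConjugate

universe u

section

variable {G : Type u} [Group G] [Fintype G] [DecidableEq G] {M : Ideal AlgInt} {p : ℕ}

/-- The matrix of left multiplication by the group algebra element with coefficients `f`. -/
def leftMulMat (f : G → ℂ) : Matrix G G ℂ := Matrix.of fun i k => f (i * k⁻¹)

omit [Fintype G] [DecidableEq G] in
theorem leftMulMat_apply (f : G → ℂ) (i k : G) : leftMulMat f i k = f (i * k⁻¹) := rfl

omit [DecidableEq G] in
theorem leftMulMat_mul (f h : G → ℂ) : leftMulMat f * leftMulMat h = leftMulMat (conv f h) := by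
  ext i k
  rw [Matrix.mul_apply, leftMulMat_apply, conv_apply]
  rw [← Equiv.sum_comp ((Equiv.inv G).trans (Equiv.mulRight i))]
  refine Finset.sum_congr rfl fun m _ => ?_
  simp only [leftMulMat_apply, Equiv.trans_apply, Equiv.inv_apply, Equiv.coe_mulRight]
  have e1 : i * (m⁻¹ * i)⁻¹ = m := by group
  have e2 : m⁻¹ * i * k⁻¹ = m⁻¹ * (i * k⁻¹) := by group
  rw [e1, e2]

omit [Fintype G] [DecidableEq G] in
theorem leftMulMat_sub (f h : G → ℂ) : leftMulMat (f - h) = leftMulMat f - leftMulMat h := by
  ext i k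
  rfl

theorem leftMulMat_deltaOne : leftMulMat (deltaOne : G → ℂ) = 1 := by
  ext i k
  rw [leftMulMat_apply, Matrix.one_apply]
  unfold deltaOne
  by_cases hik : i = k
  · rw [if_pos hik, if_pos (by rw [hik]; group)]
  · rw [if_neg hik, if_neg]
    intro h
    apply hik
    have : i = (i * k⁻¹) * k := by group
    rw [this, h, one_mul]

theorem memLocalRing_leftMulMat {f : G → ℂ} (hf : ∀ g, MemLocalRing M (f g)) (i k : G) :
    MemLocalRing M (leftMulMat f i k) := hf _

theorem leftMulMat_comm_permMat {j : G → ℂ} {a : G} (hja : ∀ x, j (a * x * a⁻¹) = j x) (g : G) :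
    permMat (twoSidedPerm a g) * leftMulMat j = leftMulMat j * permMat (twoSidedPerm a g) := by
  ext i k
  rw [permMat_mul_apply, mul_permMat_apply, leftMulMat_apply, leftMulMat_apply]
  show j (a⁻¹ * i * g⁻¹ * k⁻¹) = j (i * (a * k * g)⁻¹)
  rw [← hja (a⁻¹ * i * g⁻¹ * k⁻¹)]
  congr 1
  group

theorem trace_permMat_leftMulMat (j : G → ℂ) (a g : G) :
    Matrix.trace (permMat (twoSidedPerm a g) * leftMulMat j) =
      ∑ z : G, j (a⁻¹ * z * g⁻¹ * z⁻¹) := by
  rw [trace_permMat_mul]
  rfl

/-- **Pure case.**  If all cycles of `z ↦ a z g` have length divisible by `p`, the twisted class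
sums of an idempotent `j` commuting with `a` vanish. -/
theorem sum_idem_twisted_pure (hM : IsPModular p M) {j : G → ℂ}
    (hjS : ∀ x, MemLocalRing M (j x)) (hjj : conv j j = j) {a : G}
    (hja : ∀ x, j (a * x * a⁻¹) = j x) (g : G)
    (hcyc : ∀ z : G, ∀ n : ℤ, a ^ n * z * g ^ n = z → (p : ℤ) ∣ n) :
    ∑ z : G, j (a⁻¹ * z * g⁻¹ * z⁻¹) = 0 := by
  rw [← trace_permMat_leftMulMat]
  apply trace_permMat_mul_eq_zero hM _ _ (leftMulMat j) (fun i k => hjS _)
  · rw [leftMulMat_mul, hjj]
  · exact leftMulMat_comm_permMat hja g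
  · intro z n hn
    rw [twoSidedPerm_zpow] at hn
    exact hcyc z n hn

theorem one_sub_projMat_compl (s : Set G) [DecidablePred (· ∈ s)] :
    (1 : Matrix G G ℂ) - projMat (sᶜ) = projMat s := by
  unfold projMat
  rw [← Matrix.diagonal_one, Matrix.diagonal_sub]
  congr 1
  funext x
  by_cases hx : x ∈ s
  · rw [if_pos hx, if_neg (fun h : x ∈ sᶜ => h hx)]
    simp
  · rw [if_neg hx, if_pos (show x ∈ sᶜ from hx)]
    simp

/-- **Mixed case.**  `H` is a subgroup containing `a` and `g`; all cycles of `z ↦ a z g` outside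
`H` have length divisible by `p`; and `1 - s_H(j)` is invertible in the group algebra of `H` over
the local ring. -/
theorem sum_idem_twisted_mixed (hM : IsPModular p M) (H : Subgroup G) {j : G → ℂ}
    (hjS : ∀ x, MemLocalRing M (j x)) (hjj : conv j j = j) {a g : G} (ha : a ∈ H) (hg : g ∈ H)
    (hja : ∀ x, j (a * x * a⁻¹) = j x)
    (hcyc : ∀ z : G, z ∉ H → ∀ n : ℤ, a ^ n * z * g ^ n = z → (p : ℤ) ∣ n)
    (w : G → ℂ) (hwS : ∀ x, MemLocalRing M (w x))
    (hw : conv w (deltaOne - truncTo (H : Set G) j) = deltaOne) :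
    ∑ z : G, j (a⁻¹ * z * g⁻¹ * z⁻¹) = 0 := by
  classical
  have hMp := isPModular_isPrime hM
  rw [← trace_permMat_leftMulMat]
  obtain ⟨Q, hQdef⟩ : ∃ Q : Matrix G G ℂ, Q = projMat (H : Set G) := ⟨_, rfl⟩
  have hQ1 : (1 : Matrix G G ℂ) - projMat ((H : Set G)ᶜ) = Q := by
    rw [hQdef]; exact one_sub_projMat_compl _
  have hQQ : Q * Q = Q := by rw [hQdef]; exact projMat_mul_self _
  -- `Q A Q = L_{s j} Q`
  have hQAQ : Q * leftMulMat j * Q = leftMulMat (truncTo (H : Set G) j) * Q := by
    ext i k
    rw [hQdef, mul_projMat_apply, mul_projMat_apply, projMat_mul_apply]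
    by_cases hk : k ∈ (H : Set G)
    · rw [if_pos hk, if_pos hk, leftMulMat_apply, leftMulMat_apply]
      by_cases hi : i ∈ (H : Set G)
      · rw [if_pos hi, truncTo_of_mem]
        exact H.mul_mem hi (H.inv_mem hk)
      · rw [if_neg hi, truncTo_of_not_mem]
        intro h
        apply hi
        have : i = (i * k⁻¹) * k := by group
        rw [this]
        exact H.mul_mem h hk
    · rw [if_neg hk, if_neg hk]
  apply trace_permMat_mul_eq_zero_mixed hM _ ((H : Set G)ᶜ) ?_ ?_ (leftMulMat j)
    (fun i k => hjS _) (by rw [leftMulMat_mul, hjj]) (leftMulMat_comm_permMat hja g)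
    (leftMulMat w * Q) ?_ ?_ ?_
  · intro x
    show a * x * g ∉ H ↔ x ∉ H
    apply not_congr
    constructor
    · intro h
      have : x = a⁻¹ * (a * x * g) * g⁻¹ := by group
      rw [this]
      exact H.mul_mem (H.mul_mem (H.inv_mem ha) h) (H.inv_mem hg)
    · intro h
      exact H.mul_mem (H.mul_mem ha h) hg
  · intro z hz n hn
    rw [twoSidedPerm_zpow] at hn
    exact hcyc z hz n hn
  · intro i k
    apply memLocalRing_matrix_mul hMp (fun i k => hwS _)
    rw [hQdef]
    exact memLocalRing_projMat hMp _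
  · rw [hQ1, Matrix.mul_assoc, hQQ]
  · rw [hQ1]
    have h0 : leftMulMat w - leftMulMat (conv w (truncTo (H : Set G) j)) =
        leftMulMat (conv w (deltaOne - truncTo (H : Set G) j)) := by
      rw [← leftMulMat_sub]
      congr 1
      funext x
      simp only [Pi.sub_apply, conv_apply]
      have h1 : w x = ∑ y : G, w y * (deltaOne : G → ℂ) (y⁻¹ * x) := by
        rw [Finset.sum_eq_single x]
        · unfold deltaOne
          rw [if_pos (by group), mul_one]
        · intro y _ hy
          unfold deltaOne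
          rw [if_neg, mul_zero]
          intro h
          apply hy
          have : x = y * (y⁻¹ * x) := by group
          rw [this, h, mul_one]
        · intro h
          exact absurd (Finset.mem_univ _) h
      rw [h1, ← Finset.sum_sub_distrib]
      refine Finset.sum_congr rfl fun y _ => ?_
      ring
    have h2 : Q * (Q * leftMulMat j * Q) = Q * leftMulMat j * Q := by
      calc Q * (Q * leftMulMat j * Q) = (Q * Q) * leftMulMat j * Q := by
            simp only [Matrix.mul_assoc]
        _ = Q * leftMulMat j * Q := by rw [hQQ]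
    calc leftMulMat w * Q * (Q - Q * leftMulMat j * Q)
        = leftMulMat w * (Q * Q - Q * (Q * leftMulMat j * Q)) := by
          rw [Matrix.mul_assoc, Matrix.mul_sub]
      _ = leftMulMat w * (Q - leftMulMat (truncTo (H : Set G) j) * Q) := by
          rw [hQQ, h2, hQAQ]
      _ = (leftMulMat w - leftMulMat w * leftMulMat (truncTo (H : Set G) j)) * Q := by
          rw [Matrix.mul_sub, Matrix.sub_mul, Matrix.mul_assoc]
      _ = Q := by
          rw [leftMulMat_mul, h0, hw, leftMulMat_deltaOne, Matrix.one_mul]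

end

end Cfsg.Agent.Lib.Helper8
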