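import Mathlib
import Cfsg.Prelude.Def_Blocks
import Cfsg.Agent.Lib.Helper8.SM3

/-!
# `p`-parts, and vanishing of `χ(a j)` for idempotents `j`
-/

set_option autoImplicit false

namespace Cfsg.Agent.Lib.Helper8

open Cfsg
open scoped ComplexConjugate

universe u

section PPart

variable {G : Type u} [Group G] {p : ℕ}

/-- Every element of a finite group has a `p`-part. -/
theorem exists_isPPart [Finite G] (hp : p.Prime) (g : G) : ∃ x : G, IsPPart p g x := by
  have hn : orderOf g ≠ 0 := (orderOf_pos g).ne'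
  obtain ⟨k, m, hm, hkm⟩ := Nat.exists_eq_pow_mul_and_not_dvd hn p hp.ne_one
  have hcop : Nat.Coprime (p ^ k) m := Nat.Coprime.pow_left k ((Nat.Prime.coprime_iff_not_dvd hp).2 hm)
  have hb := Int.gcd_eq_gcd_ab ((p ^ k : ℕ) : ℤ) (m : ℤ)
  have hg1 : Int.gcd ((p ^ k : ℕ) : ℤ) (m : ℤ) = 1 := by
    rw [Int.gcd_natCast_natCast]
    exact hcop
  rw [hg1] at hb
  set s := Int.gcdA ((p ^ k : ℕ) : ℤ) (m : ℤ) with hs
  set t := Int.gcdB ((p ^ k : ℕ) : ℤ) (m : ℤ) with ht
  have hone : (m : ℤ) * t + ((p ^ k : ℕ) : ℤ) * s = 1 := by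
    have : ((1 : ℕ) : ℤ) = ((p ^ k : ℕ) : ℤ) * s + (m : ℤ) * t := hb
    rw [add_comm, ← this]; rfl
  have hx : (g ^ ((m : ℤ) * t)) ^ (p ^ k) = 1 := by
    rw [← zpow_natCast, ← zpow_mul]
    have : (m : ℤ) * t * ((p ^ k : ℕ) : ℤ) = ((p ^ k * m : ℕ) : ℤ) * t := by push_cast; ring
    rw [this, zpow_mul, zpow_natCast, ← hkm, pow_orderOf_eq_one, one_zpow]
  have hy : (g ^ (((p ^ k : ℕ) : ℤ) * s)) ^ m = 1 := by
    rw [← zpow_natCast, ← zpow_mul]
    have : ((p ^ k : ℕ) : ℤ) * s * (m : ℤ) = ((p ^ k * m : ℕ) : ℤ) * s := by push_cast; ring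
    rw [this, zpow_mul, zpow_natCast, ← hkm, pow_orderOf_eq_one, one_zpow]
  refine ⟨g ^ ((m : ℤ) * t), g ^ (((p ^ k : ℕ) : ℤ) * s), ?_, ?_, ?_, ?_⟩
  · rw [← zpow_add, hone, zpow_one]
  · exact (Commute.refl g).zpow_zpow _ _
  · obtain ⟨k', _, hk'⟩ := (Nat.dvd_prime_pow hp).1 (orderOf_dvd_of_pow_eq_one hx)
    exact ⟨k', hk'⟩
  · intro h
    exact hm (h.trans (orderOf_dvd_of_pow_eq_one hy))

theorem conj_inv_zpow (z x : G) (n : ℤ) : (z⁻¹ * x * z) ^ n = z⁻¹ * x ^ n * z := by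
  have := conj_zpow (a := z⁻¹) (b := x) (i := n)
  simpa using this

/-- If a power (prime to `p`) of `a` is conjugate under `z` to the same power of `y`, then the
`p`-part of `a` is conjugate under `z` to the `p`-part of `y`. -/
theorem conj_pPart_of_zpow_conj (hp : p.Prime) {a u y v z : G} (ha : IsPPart p a u)
    (hy : IsPPart p y v) (n : ℤ) (hn : ¬ (p : ℤ) ∣ n) (h : z⁻¹ * a ^ n * z = y ^ n) :
    z⁻¹ * u * z = v := by
  obtain ⟨a', rfl, hca, ⟨k, hk⟩, ha'⟩ := ha
  obtain ⟨y', rfl, hcy, ⟨k', hk'⟩, hy'⟩ := hy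
  have hpp : Prime (p : ℤ) := Nat.prime_iff_prime_int.1 hp
  obtain ⟨m, hmdef⟩ : ∃ m : ℕ, m = orderOf a' * orderOf y' := ⟨_, rfl⟩
  have hpm : ¬ p ∣ m := by
    rw [hmdef]
    intro h
    rcases (Nat.Prime.dvd_mul hp).1 h with h | h
    · exact ha' h
    · exact hy' h
  obtain ⟨N, hNdef⟩ : ∃ N : ℤ, N = n * (m : ℤ) := ⟨_, rfl⟩
  have hpN : ¬ (p : ℤ) ∣ N := by
    rw [hNdef]
    intro h
    rcases hpp.dvd_or_dvd h with h | h
    · exact hn h
    · exact hpm (Int.natCast_dvd_natCast.1 h)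
  have h1 : (u * a') ^ N = u ^ N := by
    rw [hca.mul_zpow]
    have : a' ^ N = 1 := by
      rw [hNdef, mul_comm, zpow_mul, zpow_natCast, hmdef, pow_mul, pow_orderOf_eq_one, one_pow,
        one_zpow]
    rw [this, mul_one]
  have h2 : (v * y') ^ N = v ^ N := by
    rw [hcy.mul_zpow]
    have : y' ^ N = 1 := by
      rw [hNdef, mul_comm, zpow_mul, zpow_natCast, hmdef, mul_comm (orderOf a'), pow_mul,
        pow_orderOf_eq_one, one_pow, one_zpow]
    rw [this, mul_one]
  have h3 : z⁻¹ * u ^ N * z = v ^ N := by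
    rw [← h1, ← h2, hNdef, zpow_mul, zpow_mul, ← h, conj_inv_zpow]
  -- Bezout
  obtain ⟨q, hqdef⟩ : ∃ q : ℕ, q = p ^ (k + k') := ⟨_, rfl⟩
  have huq : u ^ (q : ℤ) = 1 := by
    rw [zpow_natCast, hqdef, pow_add, pow_mul, ← hk, pow_orderOf_eq_one, one_pow]
  have hvq : v ^ (q : ℤ) = 1 := by
    rw [zpow_natCast, hqdef, pow_add, mul_comm, pow_mul, ← hk', pow_orderOf_eq_one, one_pow]
  have hcop : IsCoprime N (q : ℤ) := by
    rw [hqdef]
    push_cast
    apply IsCoprime.pow_right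
    exact ((hpp.irreducible.coprime_iff_not_dvd).2 hpN).symm
  obtain ⟨s, t, hst⟩ := hcop
  have hu : u = (u ^ N) ^ s := by
    have : u ^ (s * N + t * (q : ℤ)) = u := by rw [hst, zpow_one]
    rw [zpow_add, mul_comm t, zpow_mul u (q : ℤ), huq, one_zpow, mul_one, mul_comm s,
      zpow_mul] at this
    exact this.symm
  have hv : v = (v ^ N) ^ s := by
    have : v ^ (s * N + t * (q : ℤ)) = v := by rw [hst, zpow_one]
    rw [zpow_add, mul_comm t, zpow_mul v (q : ℤ), hvq, one_zpow, mul_one, mul_comm s,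
      zpow_mul] at this
    exact this.symm
  rw [hu, ← conj_inv_zpow, h3, ← hv]

theorem orderOf_conj' (t x : G) : orderOf (t * x * t⁻¹) = orderOf x :=
  (MulAut.conj t).orderOf_eq x

/-- Conjugates of `p`-parts are `p`-parts. -/
theorem isPPart_conj {g x : G} (h : IsPPart p g x) (t : G) :
    IsPPart p (t * g * t⁻¹) (t * x * t⁻¹) := by
  obtain ⟨y, rfl, hc, ⟨k, hk⟩, hy⟩ := h
  refine ⟨t * y * t⁻¹, by group, ?_, ⟨k, ?_⟩, ?_⟩
  · show t * x * t⁻¹ * (t * y * t⁻¹) = t * y * t⁻¹ * (t * x * t⁻¹)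
    have := hc.eq
    calc t * x * t⁻¹ * (t * y * t⁻¹) = t * (x * y) * t⁻¹ := by group
      _ = t * (y * x) * t⁻¹ := by rw [this]
      _ = t * y * t⁻¹ * (t * x * t⁻¹) := by group
  · rw [← hk]
    exact orderOf_conj' t x
  · rw [orderOf_conj']
    exact hy

/-- An element commutes with its `p`-part. -/
theorem isPPart_commute {g x : G} (h : IsPPart p g x) : g * x = x * g := by
  obtain ⟨y, rfl, hc, _, _⟩ := h
  rw [mul_assoc, hc.eq]

end PPart

section

variable {G : Type u} [Group G] [Fintype G] [DecidableEq G] {M : Ideal AlgInt} {p : ℕ}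

/-- **Vanishing of `χ(a j)`.**  Let `j` be an idempotent of the group algebra over the local ring
commuting with `a ∈ H`, where `H` contains the centralizer of the `p`-part of `a`, and suppose that
`1 - s_H(j)` is invertible in the group algebra of `H` over the local ring.  Then every class
function vanishes at `a j`. -/
theorem sum_idem_mul_classFunction_eq_zero (hM : IsPModular p M) (H : Subgroup G) {j : G → ℂ}
    (hjS : ∀ x, MemLocalRing M (j x)) (hjj : conv j j = j) {a u : G} (ha : a ∈ H)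
    (hau : IsPPart p a u) (hC : Subgroup.centralizer ({u} : Set G) ≤ H)
    (hja : ∀ x, j (a * x * a⁻¹) = j x)
    (w : G → ℂ) (hwS : ∀ x, MemLocalRing M (w x))
    (hw : conv w (deltaOne - truncTo (H : Set G) j) = deltaOne)
    {χ : G → ℂ} (hχ : IsClassFunction G χ) : ∑ x : G, j x * χ (a * x) = 0 := by
  classical
  have hp : p.Prime := hM.1
  -- the twisted class sums vanish
  have hinner : ∀ y : G, ∑ z : G, j (a⁻¹ * z * y * z⁻¹) = 0 := by
    intro y
    obtain ⟨v, hyv⟩ := exists_isPPart hp y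
    by_cases hconj : ∃ t : G, t * v * t⁻¹ = u
    · obtain ⟨t, ht⟩ := hconj
      have hy'' : IsPPart p (t * y * t⁻¹) u := by
        rw [← ht]; exact isPPart_conj hyv t
      have hy''H : t * y * t⁻¹ ∈ H := by
        apply hC
        rw [Subgroup.mem_centralizer_singleton_iff]
        exact isPPart_commute hy''
      have hre : ∑ z : G, j (a⁻¹ * z * y * z⁻¹) = ∑ z : G, j (a⁻¹ * z * (t * y * t⁻¹)⁻¹⁻¹ * z⁻¹) := by
        rw [← Equiv.sum_comp (Equiv.mulRight t)]
        refine Finset.sum_congr rfl fun z _ => ?_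
        congr 1
        simp only [Equiv.coe_mulRight, inv_inv]
        group
      rw [hre]
      apply sum_idem_twisted_mixed hM H hjS hjj ha (H.inv_mem hy''H) hja _ w hwS hw
      intro z hz n hn
      by_contra hpn
      apply hz
      apply hC
      rw [Subgroup.mem_centralizer_singleton_iff]
      have h1 : z⁻¹ * a ^ n * z = (t * y * t⁻¹) ^ n := by
        rw [inv_zpow] at hn
        have : a ^ n * z = z * (t * y * t⁻¹) ^ n := by
          calc a ^ n * z = a ^ n * z * ((t * y * t⁻¹) ^ n)⁻¹ * (t * y * t⁻¹) ^ n := by group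
            _ = z * (t * y * t⁻¹) ^ n := by rw [hn]
        rw [mul_assoc, this]
        group
      have h2 := conj_pPart_of_zpow_conj hp hau hy'' n hpn h1
      calc z * u = z * (z⁻¹ * u * z) := by rw [h2]
        _ = u * z := by group
    · have hre : ∑ z : G, j (a⁻¹ * z * y * z⁻¹) = ∑ z : G, j (a⁻¹ * z * y⁻¹⁻¹ * z⁻¹) := by
        simp only [inv_inv]
      rw [hre]
      apply sum_idem_twisted_pure hM hjS hjj hja
      intro z n hn
      by_contra hpn
      apply hconj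
      have h1 : z⁻¹ * a ^ n * z = y ^ n := by
        rw [inv_zpow] at hn
        have : a ^ n * z = z * y ^ n := by
          calc a ^ n * z = a ^ n * z * (y ^ n)⁻¹ * y ^ n := by group
            _ = z * y ^ n := by rw [hn]
        rw [mul_assoc, this]
        group
      have h2 := conj_pPart_of_zpow_conj hp hau hyv n hpn h1
      refine ⟨z, ?_⟩
      rw [← h2]
      group
  have hG0 : (Fintype.card G : ℂ) ≠ 0 := Nat.cast_ne_zero.2 Fintype.card_ne_zero
  have hmain : (Fintype.card G : ℂ) * ∑ x : G, j x * χ (a * x) = 0 := by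
    have e1 : ∑ x : G, j x * χ (a * x) = ∑ y : G, j (a⁻¹ * y) * χ y := by
      rw [← Equiv.sum_comp (Equiv.mulLeft a) (fun y => j (a⁻¹ * y) * χ y)]
      refine Finset.sum_congr rfl fun x _ => ?_
      rw [Equiv.coe_mulLeft, inv_mul_cancel_left]
    have e2 : (Fintype.card G : ℂ) * ∑ y : G, j (a⁻¹ * y) * χ y
        = ∑ z : G, ∑ y : G, j (a⁻¹ * (z * y * z⁻¹)) * χ y := by
      rw [Finset.card_univ.symm, ← nsmul_eq_mul, ← Finset.sum_const]
      refine Finset.sum_congr rfl fun z _ => ?_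
      rw [← Equiv.sum_comp (MulAut.conj z).toEquiv (fun y => j (a⁻¹ * y) * χ y)]
      refine Finset.sum_congr rfl fun y _ => ?_
      show j (a⁻¹ * (z * y * z⁻¹)) * χ (z * y * z⁻¹) = j (a⁻¹ * (z * y * z⁻¹)) * χ y
      rw [hχ y z]
    rw [e1, e2, Finset.sum_comm]
    apply Finset.sum_eq_zero
    intro y _
    rw [← Finset.sum_mul]
    have : ∑ z : G, j (a⁻¹ * (z * y * z⁻¹)) = ∑ z : G, j (a⁻¹ * z * y * z⁻¹) := by
      refine Finset.sum_congr rfl fun z _ => ?_
      congr 1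
      group
    rw [this, hinner y, zero_mul]
  rcases mul_eq_zero.1 hmain with h | h
  · exact absurd h hG0
  · exact h

end

end Cfsg.Agent.Lib.Helper8
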