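import Mathlib
import Cfsg.Prelude.Def_Blocks
import Cfsg.Agent.Lib.Helper8.SM4
import Cfsg.Agent.Lib.Helper1.CharFound5
import Cfsg.Agent.Lib.Helper1.ConjCount

/-!
# Sections: the characters of `G` form a tight frame on the `p`-regular class functions of `C_G(u)`
-/

set_option autoImplicit false

namespace Cfsg.Agent.Lib.Helper8

open Cfsg
open scoped ComplexConjugate
open Cfsg.Agent.Lib.Helper1 Cfsg.Agent.Lib.Helper4

universe u

section

variable {G : Type u} [Group G] {p : ℕ}

/-- The `p`-part of an element is unique. -/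
theorem isPPart_unique [Finite G] (hp : p.Prime) {a u v : G} (h1 : IsPPart p a u)
    (h2 : IsPPart p a v) : u = v := by
  have h3 : ¬ (p : ℤ) ∣ 1 := by
    intro h
    have h4 := Int.eq_one_of_dvd_one (by positivity) h
    have : p = 1 := by exact_mod_cast h4
    exact hp.ne_one this
  have := conj_pPart_of_zpow_conj (z := 1) hp h1 h2 1 h3 (by simp)
  simpa using this

theorem isPPart_mul_of_commute {u c : G} (hu : ∃ k : ℕ, orderOf u = p ^ k)
    (hc : ¬ p ∣ orderOf c) (huc : u * c = c * u) : IsPPart p (u * c) u :=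
  ⟨c, rfl, huc, hu, hc⟩

variable (C : Subgroup G) {u : G} (hC : ∀ t, t ∈ C ↔ t * u = u * t)

include hC in
/-- Conjugacy inside a section is conjugacy of the `p`-regular parts in the centralizer. -/
theorem isConj_section_iff [Finite G] (hp : p.Prime) (hu : ∃ k : ℕ, orderOf u = p ^ k)
    {c c' : C} (hc : ¬ p ∣ orderOf c) (hc' : ¬ p ∣ orderOf c') :
    IsConj (u * (c : G)) (u * (c' : G)) ↔ IsConj c c' := by
  have hcG : ¬ p ∣ orderOf (c : G) := by rwa [Subgroup.orderOf_coe]
  have hc'G : ¬ p ∣ orderOf (c' : G) := by rwa [Subgroup.orderOf_coe]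
  have hcu : u * (c : G) = (c : G) * u := ((hC c).1 c.2).symm
  have hc'u : u * (c' : G) = (c' : G) * u := ((hC c').1 c'.2).symm
  constructor
  · intro h
    obtain ⟨t, ht⟩ := isConj_iff.1 h
    have h1 : IsPPart p (u * (c' : G)) (t * u * t⁻¹) := by
      rw [← ht]
      exact isPPart_conj (isPPart_mul_of_commute hu hcG hcu) t
    have h2 := isPPart_unique hp h1 (isPPart_mul_of_commute hu hc'G hc'u)
    have htC : t ∈ C := by
      rw [hC]
      calc t * u = t * u * t⁻¹ * t := by group
        _ = u * t := by rw [h2]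
    rw [isConj_iff]
    refine ⟨⟨t, htC⟩, ?_⟩
    apply Subtype.ext
    show t * (c : G) * t⁻¹ = (c' : G)
    have h3 : t * (u * (c : G)) * t⁻¹ = (t * u * t⁻¹) * (t * (c : G) * t⁻¹) := by group
    rw [h3, h2] at ht
    exact mul_left_cancel ht
  · intro h
    obtain ⟨t, ht⟩ := isConj_iff.1 h
    rw [isConj_iff]
    refine ⟨(t : G), ?_⟩
    have h1 : (t : G) * (c : G) * (t : G)⁻¹ = (c' : G) := congrArg Subtype.val ht
    have h2 : (t : G) * u = u * (t : G) := (hC t).1 t.2
    calc (t : G) * (u * (c : G)) * (t : G)⁻¹ = ((t : G) * u) * (c : G) * (t : G)⁻¹ := by group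
      _ = u * ((t : G) * (c : G) * (t : G)⁻¹) := by rw [h2]; group
      _ = u * (c' : G) := by rw [h1]

include hC in
/-- The centralizer of `u c` in `G` has the order of the centralizer of `c` in `C_G(u)`. -/
theorem card_centralizer_section [Finite G] (hp : p.Prime) (hu : ∃ k : ℕ, orderOf u = p ^ k)
    {c : C} (hc : ¬ p ∣ orderOf c) :
    Nat.card (Subgroup.centralizer ({u * (c : G)} : Set G)) =
      Nat.card (Subgroup.centralizer ({c} : Set C)) := by
  have hcG : ¬ p ∣ orderOf (c : G) := by rwa [Subgroup.orderOf_coe]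
  have hcu : u * (c : G) = (c : G) * u := ((hC c).1 c.2).symm
  have hmap : (Subgroup.centralizer ({c} : Set C)).map C.subtype =
      Subgroup.centralizer ({u * (c : G)} : Set G) := by
    ext t
    constructor
    · rintro ⟨s, hs, rfl⟩
      rw [SetLike.mem_coe, Subgroup.mem_centralizer_singleton_iff] at hs
      rw [Subgroup.mem_centralizer_singleton_iff]
      have h1 : (s : G) * (c : G) = (c : G) * (s : G) := congrArg Subtype.val hs
      have h2 : (s : G) * u = u * (s : G) := (hC s).1 s.2
      show (s : G) * (u * (c : G)) = u * (c : G) * (s : G)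
      calc (s : G) * (u * (c : G)) = ((s : G) * u) * (c : G) := by group
        _ = u * ((s : G) * (c : G)) := by rw [h2]; group
        _ = u * (c : G) * (s : G) := by rw [h1]; group
    · intro ht
      rw [Subgroup.mem_centralizer_singleton_iff] at ht
      have h0 : t * (u * (c : G)) * t⁻¹ = u * (c : G) := by rw [ht]; group
      have h1 : IsPPart p (u * (c : G)) (t * u * t⁻¹) := by
        conv_lhs => rw [← h0]
        exact isPPart_conj (isPPart_mul_of_commute hu hcG hcu) t
      have h2 := isPPart_unique hp h1 (isPPart_mul_of_commute hu hcG hcu)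
      have htC : t ∈ C := by
        rw [hC]
        calc t * u = t * u * t⁻¹ * t := by group
          _ = u * t := by rw [h2]
      refine ⟨⟨t, htC⟩, ?_, rfl⟩
      rw [SetLike.mem_coe, Subgroup.mem_centralizer_singleton_iff]
      apply Subtype.ext
      show t * (c : G) = (c : G) * t
      have h3 : t * (u * (c : G)) = (t * u) * (c : G) := by group
      rw [h3, (hC t).1 htC, mul_assoc, mul_assoc] at ht
      exact mul_left_cancel ht
  rw [← hmap, Subgroup.card_map_of_injective (Subgroup.subtype_injective _)]

end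

end Cfsg.Agent.Lib.Helper8
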