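import Mathlib
import Cfsg.Prelude.Def_Blocks
import Cfsg.Agent.Lib.Helper8.Sub3

/-!
# The tight frame property of sections
-/

set_option autoImplicit false

namespace Cfsg.Agent.Lib.Helper8

open Cfsg
open scoped ComplexConjugate
open Cfsg.Agent.Lib.Helper1 Cfsg.Agent.Lib.Helper4

universe u

section

variable {G : Type u} [Group G] [Fintype G] {p : ℕ}

theorem sum_irr_section_complex [Fintype (IrrCharacter G)] (hp : p.Prime) (C : Subgroup G)
    [Fintype C] {u : G} (hC : ∀ t, t ∈ C ↔ t * u = u * t) (hu : ∃ k : ℕ, orderOf u = p ^ k)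
    (w : C → ℂ) (hwcf : IsClassFunction C w) (hw : ∀ c : C, p ∣ orderOf c → w c = 0) :
    ∑ χ : IrrCharacter G, (∑ c : C, (χ : G → ℂ) (u * (c : G)) * conj (w c)) *
        conj (∑ c : C, (χ : G → ℂ) (u * (c : G)) * conj (w c)) =
      (Nat.card C : ℂ) * ∑ c : C, w c * conj (w c) := by
  classical
  have h1 : ∀ χ : IrrCharacter G, (∑ c : C, (χ : G → ℂ) (u * (c : G)) * conj (w c)) *
        conj (∑ c : C, (χ : G → ℂ) (u * (c : G)) * conj (w c)) =
      ∑ c' : C, ∑ c : C, (w c' * conj (w c)) *
        ((χ : G → ℂ) (u * (c : G)) * conj ((χ : G → ℂ) (u * (c' : G)))) := by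
    intro χ
    rw [map_sum, Finset.sum_mul_sum, Finset.sum_comm]
    refine Finset.sum_congr rfl fun c' _ => Finset.sum_congr rfl fun c _ => ?_
    rw [map_mul, Complex.conj_conj]
    ring
  simp_rw [h1]
  rw [Finset.sum_comm, Finset.mul_sum]
  refine Finset.sum_congr rfl fun c' _ => ?_
  rw [Finset.sum_comm]
  simp_rw [← Finset.mul_sum, column_orthogonality]
  by_cases hc' : p ∣ orderOf c'
  · rw [hw c' hc']
    simp
  · have h2 : ∀ c : C, w c' * conj (w c) *
        ((Nat.card (Subgroup.centralizer ({u * (c' : G)} : Set G)) : ℂ) *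
          classIndicator (u * (c' : G)) (u * (c : G))) =
        (w c' * conj (w c')) * (Nat.card (Subgroup.centralizer ({c'} : Set C)) : ℂ) *
          (if IsConj c' c then 1 else 0) := by
      intro c
      rw [card_centralizer_section C hC hp hu hc']
      by_cases hc : p ∣ orderOf c
      · have hnc : ¬ IsConj c' c := by
          intro hcon
          obtain ⟨t, ht⟩ := isConj_iff.1 hcon
          apply hc'
          have : orderOf c = orderOf c' := by
            rw [← ht]
            exact orderOf_conj' t c'
          rwa [← this]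
        rw [hw c hc, if_neg hnc]
        simp
      · unfold classIndicator
        by_cases hcon : IsConj c' c
        · rw [if_pos hcon, if_pos ((isConj_section_iff C hC hp hu hc' hc).2 hcon)]
          obtain ⟨t, ht⟩ := isConj_iff.1 hcon
          rw [← ht, hwcf c' t]
          ring
        · rw [if_neg hcon, if_neg (fun h => hcon ((isConj_section_iff C hC hp hu hc' hc).1 h))]
          ring
    simp_rw [h2]
    rw [← Finset.mul_sum, Finset.sum_ite, Finset.sum_const, Finset.sum_const_zero, add_zero,
      nsmul_eq_mul, mul_one]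
    have hc : (Finset.univ.filter (fun x : C => IsConj c' x)).card =
        Nat.card {v : C // IsConj c' v} := (Nat.subtype_card _ (by simp)).symm
    rw [hc]
    have h3 := card_isConj_mul_card_centralizer c'
    have h4 : (Nat.card {v : C // IsConj c' v} : ℂ) *
        (Nat.card (Subgroup.centralizer ({c'} : Set C)) : ℂ) = (Nat.card C : ℂ) := by
      exact_mod_cast h3
    rw [← h4]
    ring

/-- **Tight frame property**: the restrictions `c ↦ χ (u c)` of the irreducible characters of `G`
form a tight frame (with constant `|C|`) on the class functions of `C = C_G(u)` supported on the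
`p`-regular elements. -/
theorem sum_irr_normSq_section [Fintype (IrrCharacter G)] (hp : p.Prime) (C : Subgroup G)
    [Fintype C] {u : G} (hC : ∀ t, t ∈ C ↔ t * u = u * t) (hu : ∃ k : ℕ, orderOf u = p ^ k)
    (w : C → ℂ) (hwcf : IsClassFunction C w) (hw : ∀ c : C, p ∣ orderOf c → w c = 0) :
    ∑ χ : IrrCharacter G, Complex.normSq (∑ c : C, (χ : G → ℂ) (u * (c : G)) * conj (w c)) =
      (Nat.card C : ℝ) * ∑ c : C, Complex.normSq (w c) := by
  have h := sum_irr_section_complex hp C hC hu w hwcf hw
  simp_rw [Complex.mul_conj] at h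
  have h2 : ((∑ χ : IrrCharacter G,
      Complex.normSq (∑ c : C, (χ : G → ℂ) (u * (c : G)) * conj (w c)) : ℝ) : ℂ) =
      (((Nat.card C : ℝ) * ∑ c : C, Complex.normSq (w c) : ℝ) : ℂ) := by
    push_cast
    exact h
  exact_mod_cast h2

end

end Cfsg.Agent.Lib.Helper8
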