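import Mathlib
import Cfsg.Prelude.Def_Blocks
import Cfsg.Agent.Lib.Helper8.BlockLocal

/-!
# Lifting idempotents in rings of functions with values in the local ring

A subring `R` of the ring of complex functions on a finite type `ι` which contains the constants
with values in the local ring and all of whose members take values in the local ring contains the
indicator function of a set `A` as soon as it contains a function congruent to that indicator
modulo the local ideal.  It also contains the inverse of each of its members all of whose values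
are units of the local ring.
-/

set_option autoImplicit false

namespace Cfsg.Agent.Lib.Helper8

open Cfsg

section

variable {ι : Type*} [Fintype ι] {M : Ideal AlgInt}

open Classical in
/-- Lifting an idempotent. -/
theorem indicator_mem_of_congr (hM : M.IsPrime) (R : Subring (ι → ℂ))
    (hconst : ∀ c : ℂ, MemLocalRing M c → (fun _ : ι => c) ∈ R)
    (hval : ∀ r ∈ R, ∀ i, MemLocalRing M (r i)) (A : Set ι) (U : ι → ℂ) (hU : U ∈ R)
    (hU0 : ∀ i, i ∉ A → MemLocalIdeal M (U i)) (hU1 : ∀ i, i ∈ A → MemLocalIdeal M (U i - 1)) :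
    (fun i : ι => if i ∈ A then (1 : ℂ) else 0) ∈ R := by
  let T : Finset ι := Finset.univ.filter (fun i => i ∉ A)
  let B : Finset ι := Finset.univ.filter (fun i => i ∈ A)
  have hunitT : ∀ j ∈ T, ¬ MemLocalIdeal M (1 - U j) := by
    intro j hj h
    have hj' : j ∉ A := (Finset.mem_filter.1 hj).2
    have := memLocalIdeal_add hM h (hU0 j hj')
    rw [sub_add_cancel] at this
    exact not_memLocalIdeal_one hM this
  have hST : ∀ j, MemLocalRing M (1 - U j) := fun j =>
    memLocalRing_sub hM (memLocalRing_one hM.ne_top) (hval U hU j)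
  let fac : ι → (ι → ℂ) := fun j => (U - (fun _ : ι => U j)) * (fun _ : ι => (1 - U j)⁻¹)
  have hfac : ∀ j ∈ T, fac j ∈ R := by
    intro j hj
    exact R.mul_mem (R.sub_mem hU (hconst _ (hval U hU j)))
      (hconst _ (memLocalRing_inv (hST j) (hunitT j hj)))
  let U₁ : ι → ℂ := ∏ j ∈ T, fac j
  have hU₁ : U₁ ∈ R := R.prod_mem hfac
  have hU₁0 : ∀ i ∈ T, U₁ i = 0 := by
    intro i hi
    simp only [U₁, Finset.prod_apply]
    apply Finset.prod_eq_zero hi
    simp [fac]
  have hU₁1 : ∀ i ∈ B, MemLocalIdeal M (U₁ i - 1) := by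
    intro i hi
    have hi' : i ∈ A := (Finset.mem_filter.1 hi).2
    simp only [U₁, Finset.prod_apply]
    apply memLocalIdeal_prod_sub_one hM
    intro j hj
    have hd0 : (1 - U j) ≠ 0 := by
      intro h0
      apply hunitT j hj
      rw [h0]
      exact memLocalIdeal_zero hM.ne_top
    have h1 : fac j i - 1 = (U i - 1) * (1 - U j)⁻¹ := by
      simp only [fac, Pi.mul_apply, Pi.sub_apply]
      field_simp
      ring
    rw [h1]
    exact memLocalIdeal_mul_right hM (hU1 i hi') (memLocalRing_inv (hST j) (hunitT j hj))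
  -- second stage
  let c : ℂ := ∏ i ∈ B, (- U₁ i)
  have hUunit : ∀ i ∈ B, ¬ MemLocalIdeal M (U₁ i) := fun i hi =>
    not_memLocalIdeal_of_sub_one hM (hU₁1 i hi)
  have key : ∀ s : Finset ι, s ⊆ B →
      MemLocalRing M (∏ i ∈ s, (- U₁ i)) ∧ ¬ MemLocalIdeal M (∏ i ∈ s, (- U₁ i)) := by
    intro s
    induction s using Finset.induction_on with
    | empty =>
      intro _
      simp only [Finset.prod_empty]
      exact ⟨memLocalRing_one hM.ne_top, not_memLocalIdeal_one hM⟩
    | insert a s ha ih =>
      intro hs
      rw [Finset.prod_insert ha]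
      have haB : a ∈ B := hs (Finset.mem_insert_self _ _)
      have h1 := ih (fun x hx => hs (Finset.mem_insert_of_mem hx))
      have h2 : MemLocalRing M (- U₁ a) := memLocalRing_neg (hval U₁ hU₁ a)
      have h3 : ¬ MemLocalIdeal M (- U₁ a) := by
        intro h
        apply hUunit a haB
        have := memLocalIdeal_neg h
        rwa [neg_neg] at this
      exact ⟨memLocalRing_mul hM h2 h1.1, not_memLocalIdeal_mul hM h2 h1.1 h3 h1.2⟩
  have hcS : MemLocalRing M c := (key B (Finset.Subset.refl _)).1
  have hcunit : ¬ MemLocalIdeal M c := (key B (Finset.Subset.refl _)).2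
  have hc0 : c ≠ 0 := by
    intro h0
    apply hcunit
    rw [h0]
    exact memLocalIdeal_zero hM.ne_top
  let V : ι → ℂ :=
    1 - (∏ i ∈ B, (U₁ - fun _ : ι => U₁ i)) * (fun _ : ι => c⁻¹)
  have hV : V ∈ R := by
    refine R.sub_mem R.one_mem (R.mul_mem (R.prod_mem fun i _ => R.sub_mem hU₁
      (hconst _ (hval U₁ hU₁ i))) (hconst _ (memLocalRing_inv hcS hcunit)))
  have hVeq : V = (fun i : ι => if i ∈ A then (1 : ℂ) else 0) := by
    funext k
    by_cases hk : k ∈ A
    · rw [if_pos hk]
      have hkB : k ∈ B := Finset.mem_filter.2 ⟨Finset.mem_univ _, hk⟩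
      simp only [V, Pi.sub_apply, Pi.one_apply, Pi.mul_apply, Finset.prod_apply]
      rw [Finset.prod_eq_zero hkB (by simp)]
      simp
    · rw [if_neg hk]
      have hkT : k ∈ T := Finset.mem_filter.2 ⟨Finset.mem_univ _, hk⟩
      simp only [V, Pi.sub_apply, Pi.one_apply, Pi.mul_apply, Finset.prod_apply]
      rw [hU₁0 k hkT]
      simp only [zero_sub]
      show 1 - c * c⁻¹ = 0
      rw [mul_inv_cancel₀ hc0, sub_self]
  rw [← hVeq]
  exact hV

/-- A member of `R` all of whose values are units of the local ring is invertible in `R`. -/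
theorem inv_mem_of_units (hM : M.IsPrime) (R : Subring (ι → ℂ))
    (hconst : ∀ c : ℂ, MemLocalRing M c → (fun _ : ι => c) ∈ R)
    (hval : ∀ r ∈ R, ∀ i, MemLocalRing M (r i)) (r : ι → ℂ) (hr : r ∈ R)
    (hunit : ∀ i, ¬ MemLocalIdeal M (r i)) : (fun i => (r i)⁻¹) ∈ R := by
  classical
  -- `∏_j (r - r j) = 0`; expand as a polynomial in `r` with constant term `∏ (- r j)`.
  -- We prove by induction: for each finset `s`, there is `q ∈ R` with
  -- `∏_{j ∈ s} (r - r j) = r * q + const (∏_{j∈s} (- r j))`.
  have key : ∀ s : Finset ι, ∃ q ∈ R, (∏ j ∈ s, (r - fun _ : ι => r j))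
      = r * q + (fun _ : ι => ∏ j ∈ s, (- r j)) := by
    intro s
    induction s using Finset.induction_on with
    | empty =>
      refine ⟨0, R.zero_mem, ?_⟩
      funext i
      simp
    | insert a s ha ih =>
      obtain ⟨q, hq, hqe⟩ := ih
      refine ⟨q * (r - fun _ : ι => r a) + (fun _ : ι => ∏ j ∈ s, (- r j)), ?_, ?_⟩
      · exact R.add_mem (R.mul_mem hq (R.sub_mem hr (hconst _ (hval r hr a))))
          (hconst _ (memLocalRing_prod hM _ _ fun j _ => memLocalRing_neg (hval r hr j)))
      · rw [Finset.prod_insert ha, Finset.prod_insert ha, hqe]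
        funext i
        simp only [Pi.mul_apply, Pi.add_apply, Pi.sub_apply]
        ring
  obtain ⟨q, hq, hqe⟩ := key Finset.univ
  have hzero : (∏ j ∈ (Finset.univ : Finset ι), (r - fun _ : ι => r j)) = 0 := by
    funext i
    simp only [Finset.prod_apply, Pi.sub_apply, Pi.zero_apply]
    exact Finset.prod_eq_zero (Finset.mem_univ i) (sub_self _)
  rw [hzero] at hqe
  set c : ℂ := ∏ j ∈ (Finset.univ : Finset ι), (- r j) with hc
  have hcS : MemLocalRing M c := memLocalRing_prod hM _ _ fun j _ => memLocalRing_neg (hval r hr j)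
  have hcu : ¬ MemLocalIdeal M c := by
    have key2 : ∀ s : Finset ι,
        MemLocalRing M (∏ i ∈ s, (- r i)) ∧ ¬ MemLocalIdeal M (∏ i ∈ s, (- r i)) := by
      intro s
      induction s using Finset.induction_on with
      | empty =>
        simp only [Finset.prod_empty]
        exact ⟨memLocalRing_one hM.ne_top, not_memLocalIdeal_one hM⟩
      | insert a s ha ih =>
        rw [Finset.prod_insert ha]
        have h2 : MemLocalRing M (- r a) := memLocalRing_neg (hval r hr a)
        have h3 : ¬ MemLocalIdeal M (- r a) := by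
          intro h
          apply hunit a
          have := memLocalIdeal_neg h
          rwa [neg_neg] at this
        exact ⟨memLocalRing_mul hM h2 ih.1, not_memLocalIdeal_mul hM h2 ih.1 h3 ih.2⟩
    exact (key2 Finset.univ).2
  have hc0 : c ≠ 0 := by
    intro h0
    apply hcu
    rw [h0]
    exact memLocalIdeal_zero hM.ne_top
  have hr0 : ∀ i, r i ≠ 0 := by
    intro i h0
    apply hunit i
    rw [h0]
    exact memLocalIdeal_zero hM.ne_top
  have hinv : (fun i => (r i)⁻¹) = q * (fun _ : ι => - c⁻¹) := by
    funext i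
    have h1 := congrFun hqe i
    simp only [Pi.zero_apply, Pi.add_apply, Pi.mul_apply] at h1
    simp only [Pi.mul_apply]
    have h2 : r i * q i = - c := by linear_combination -h1
    have hri := hr0 i
    have h3 : q i = - c * (r i)⁻¹ := by
      rw [← h2]
      field_simp
    rw [h3]
    field_simp
  rw [hinv]
  exact R.mul_mem hq (hconst _ (memLocalRing_neg (memLocalRing_inv hcS hcu)))

end

end Cfsg.Agent.Lib.Helper8
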