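import Mathlib
import Cfsg.Prelude.Def_Blocks
import Cfsg.Agent.Lib.Helper8.BlockHom
import Cfsg.Agent.Lib.Helper8.BlockRefine
import Cfsg.Agent.Lib.Helper8.BlockCoeff

/-!
# Idempotents modulo the local ideal are sums of block idempotents
-/

set_option autoImplicit false

namespace Cfsg.Agent.Lib.Helper8

open Cfsg
open scoped ComplexConjugate
open Cfsg.Agent.Lib.Helper1 Cfsg.Agent.Lib.Helper4

universe u

section

variable {G : Type u} [Group G] [Fintype G] {M : Ideal AlgInt}

theorem memLocalIdeal_conv_left (hM : M.IsPrime) {f h : G → ℂ} (hf : ∀ g, MemLocalIdeal M (f g))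
    (hh : ∀ g, MemLocalRing M (h g)) (x : G) : MemLocalIdeal M (conv f h x) := by
  rw [conv_apply]
  apply memLocalIdeal_sum hM
  intro y _
  exact memLocalIdeal_mul_right hM (hf _) (hh _)

theorem memLocalIdeal_conv_right (hM : M.IsPrime) {f h : G → ℂ} (hf : ∀ g, MemLocalRing M (f g))
    (hh : ∀ g, MemLocalIdeal M (h g)) (x : G) : MemLocalIdeal M (conv f h x) := by
  rw [conv_apply]
  apply memLocalIdeal_sum hM
  intro y _
  exact memLocalIdeal_mul_left hM (hf _) (hh _)

/-- The central character of a class function with values in the local ideal lies in the local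
ideal. -/
theorem memLocalIdeal_omega (hM : M.IsPrime) {χ : G → ℂ} (hχ : IsIrrCharacter G χ)
    {F : G → ℂ} (hF : IsClassFunction G F) (hFJ : ∀ g, MemLocalIdeal M (F g)) :
    MemLocalIdeal M (omega χ F) := by
  classical
  have : Fintype (ConjClasses G) := Fintype.ofFinite _
  rw [omega_eq_sum_classes hχ hF]
  apply memLocalIdeal_sum hM
  intro c _
  exact memLocalIdeal_mul_right hM (hFJ _) (memLocalRing_centralChar hM.ne_top hχ _)

/-- Two class functions with the same central characters are equal. -/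
theorem eq_of_omega_eq {F F' : G → ℂ} (hF : IsClassFunction G F) (hF' : IsClassFunction G F')
    (h : ∀ ψ : IrrCharacter G, omega (ψ : G → ℂ) F = omega (ψ : G → ℂ) F') : F = F' := by
  have := eq_zero_of_omega_eq_zero (isClassFunction_sub' hF hF') (fun ψ => by
    rw [omega_sub, h ψ, sub_self])
  exact sub_eq_zero.1 this

/-- A set of irreducible characters whose indicator is congruent to the central characters of a
class function with values in the local ring has idempotent coefficients in the local ring. -/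
theorem blockCoeff_memLocalRing_of_congr (hM : M.IsPrime) (A : Set (IrrCharacter G))
    {β : G → ℂ} (hβ : IsClassFunction G β) (hβS : ∀ g, MemLocalRing M (β g))
    (h0 : ∀ ψ : IrrCharacter G, ψ ∉ A → MemLocalIdeal M (omega (ψ : G → ℂ) β))
    (h1 : ∀ ψ : IrrCharacter G, ψ ∈ A → MemLocalIdeal M (omega (ψ : G → ℂ) β - 1)) :
    IsClassFunction G (blockCoeff A) ∧ (∀ g, MemLocalRing M (blockCoeff A g)) ∧
      ∀ ψ : IrrCharacter G, omega (ψ : G → ℂ) (blockCoeff A)
        = (by classical exact if ψ ∈ A then (1 : ℂ) else 0) := by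
  classical
  have : Fintype (IrrCharacter G) := Fintype.ofFinite _
  have hU : (fun ψ : IrrCharacter G => omega (ψ : G → ℂ) β) ∈ omegaRing M hM G :=
    ⟨β, hβ, hβS, fun _ => rfl⟩
  obtain ⟨F, hF, hFS, hFω⟩ := indicator_mem_of_congr hM (omegaRing M hM G)
    (fun c hc => const_mem_omegaRing hM hc)
    (fun r hr i => apply_memLocalRing_of_mem_omegaRing hM hr i) A _ hU h0 h1
  have hEq : F = blockCoeff A := by
    apply eq_blockCoeff_of_omega A hF
    intro ψ
    rw [hFω ψ]
  rw [← hEq]
  exact ⟨hF, hFS, fun ψ => hFω ψ⟩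

/-- **An idempotent modulo the local ideal is congruent to a sum of block idempotents.** -/
theorem cong_blockCoeff_of_idempotent (hM : M.IsPrime) {β : G → ℂ} (hβ : IsClassFunction G β)
    (hβS : ∀ g, MemLocalRing M (β g)) (hid : ∀ g, MemLocalIdeal M (conv β β g - β g))
    (A : Set (IrrCharacter G))
    (hA : ∀ ψ : IrrCharacter G, ψ ∈ A ↔ MemLocalIdeal M (omega (ψ : G → ℂ) β - 1)) :
    (∀ ψ : IrrCharacter G, ψ ∉ A → MemLocalIdeal M (omega (ψ : G → ℂ) β)) ∧
    IsClassFunction G (blockCoeff A) ∧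
    (∀ ψ : IrrCharacter G, omega (ψ : G → ℂ) (blockCoeff A)
        = (by classical exact if ψ ∈ A then (1 : ℂ) else 0)) ∧
    (∀ g, MemLocalRing M (blockCoeff A g)) ∧ ∀ g, MemLocalIdeal M (β g - blockCoeff A g) := by
  classical
  have : Fintype (IrrCharacter G) := Fintype.ofFinite _
  set U : IrrCharacter G → ℂ := fun ψ => omega (ψ : G → ℂ) β with hUdef
  have hUS : ∀ ψ, MemLocalRing M (U ψ) := fun ψ => memLocalRing_omega hM ψ.2 hβ hβS
  have hνcf : IsClassFunction G (conv β β - β) := isClassFunction_sub' (isClassFunction_conv hβ hβ) hβ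
  have hνJ : ∀ g, MemLocalIdeal M ((conv β β - β) g) := fun g => hid g
  have hUU : ∀ ψ : IrrCharacter G, MemLocalIdeal M (U ψ * U ψ - U ψ) := by
    intro ψ
    have := memLocalIdeal_omega hM ψ.2 hνcf hνJ
    rwa [omega_sub, omega_conv ψ.2 hβ] at this
  have h0 : ∀ ψ : IrrCharacter G, ψ ∉ A → MemLocalIdeal M (U ψ) := by
    intro ψ hψ
    have h := hUU ψ
    have e : U ψ * U ψ - U ψ = (U ψ - 1) * U ψ := by ring
    rw [e] at h
    by_contra hcon
    have h1 : ¬ MemLocalIdeal M (U ψ - 1) := fun h' => hψ ((hA ψ).2 h')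
    exact not_memLocalIdeal_mul hM (memLocalRing_sub hM (hUS ψ) (memLocalRing_one hM.ne_top))
      (hUS ψ) h1 hcon h
  have h1 : ∀ ψ : IrrCharacter G, ψ ∈ A → MemLocalIdeal M (U ψ - 1) := fun ψ hψ => (hA ψ).1 hψ
  obtain ⟨hAcf, hAS, hAω⟩ := blockCoeff_memLocalRing_of_congr hM A hβ hβS h0 h1
  refine ⟨h0, hAcf, hAω, hAS, ?_⟩
  -- the unit `W = U + 1_A - 1`
  let W : IrrCharacter G → ℂ := fun ψ => U ψ + (if ψ ∈ A then (1 : ℂ) else 0) - 1
  have hWR : W ∈ omegaRing M hM G := by
    refine ⟨β + blockCoeff A - deltaOne, isClassFunction_sub' (isClassFunction_add' hβ hAcf)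
      isClassFunction_deltaOne, fun g => ?_, fun ψ => ?_⟩
    · exact memLocalRing_sub hM (memLocalRing_add hM (hβS g) (hAS g))
        (memLocalRing_deltaOne hM.ne_top g)
    · rw [omega_sub, omega_add, hAω ψ, omega_deltaOne (irr_apply_one_ne_zero ψ.2)]
  have hWunit : ∀ ψ, ¬ MemLocalIdeal M (W ψ) := by
    intro ψ
    by_cases hψ : ψ ∈ A
    · simp only [W, if_pos hψ]
      have e : U ψ + 1 - 1 = U ψ := by ring
      rw [e]
      exact not_memLocalIdeal_of_sub_one hM (h1 ψ hψ)
    · simp only [W, if_neg hψ, add_zero]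
      intro h
      have := memLocalIdeal_sub hM (h0 ψ hψ) h
      rw [sub_sub_cancel] at this
      exact not_memLocalIdeal_one hM this
  obtain ⟨w', hw'cf, hw'S, hw'ω⟩ := inv_mem_of_units hM (omegaRing M hM G)
    (fun c hc => const_mem_omegaRing hM hc)
    (fun r hr i => apply_memLocalRing_of_mem_omegaRing hM hr i) W hWR hWunit
  -- `β - f_A = ν * w'`
  have hEq : β - blockCoeff A = conv (conv β β - β) w' := by
    apply eq_of_omega_eq (isClassFunction_sub' hβ hAcf) (isClassFunction_conv hνcf hw'cf)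
    intro ψ
    rw [omega_sub, hAω ψ, omega_conv ψ.2 hw'cf, hw'ω ψ, omega_sub, omega_conv ψ.2 hβ]
    have hW0 : W ψ ≠ 0 := by
      intro h0'
      apply hWunit ψ
      rw [h0']
      exact memLocalIdeal_zero hM.ne_top
    show U ψ - _ = (U ψ * U ψ - U ψ) * (W ψ)⁻¹
    rw [eq_mul_inv_iff_mul_eq₀ hW0]
    simp only [W]
    split_ifs <;> ring
  intro g
  have := memLocalIdeal_conv_left hM hνJ hw'S g
  rw [← hEq] at this
  exact this

end

end Cfsg.Agent.Lib.Helper8
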