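import Mathlib
import Cfsg.Prelude.Def_Blocks
import Cfsg.Agent.Lib.Helper8.BlockIdem2
import Cfsg.Agent.Lib.Helper8.OrbitSum

/-!
# The min-max lemma for defect classes
-/

set_option autoImplicit false

namespace Cfsg.Agent.Lib.Helper8

open Cfsg
open scoped ComplexConjugate
open Cfsg.Agent.Lib.Helper1 Cfsg.Agent.Lib.Helper4

universe u

section

variable {G : Type u} [Group G]

/-- A copy of the group elements, to carry the conjugation action of a subgroup. -/
structure EltC (G : Type u) where
  val : G

/-- The copy is equivalent to the group. -/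
def eltCEquiv (G : Type u) : EltC G ≃ G where
  toFun q := q.val
  invFun q := ⟨q⟩
  left_inv _ := rfl
  right_inv _ := rfl

noncomputable instance [Fintype G] : Fintype (EltC G) := Fintype.ofEquiv _ (eltCEquiv G).symm

/-- The action of a subgroup on the group elements by conjugation. -/
instance conjEltAction (P : Subgroup G) : MulAction P (EltC G) where
  smul u q := ⟨(u : G) * q.val * (u : G)⁻¹⟩
  one_smul := by
    intro q
    show (⟨((1 : P) : G) * q.val * ((1 : P) : G)⁻¹⟩ : EltC G) = q
    cases q
    simp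
  mul_smul := by
    intro u v q
    show (⟨((u * v : P) : G) * q.val * ((u * v : P) : G)⁻¹⟩ : EltC G)
      = ⟨(u : G) * ((v : G) * q.val * (v : G)⁻¹) * (u : G)⁻¹⟩
    simp [mul_assoc]

theorem conjEltAction_smul (P : Subgroup G) (u : P) (q : EltC G) :
    u • q = ⟨(u : G) * q.val * (u : G)⁻¹⟩ := rfl

theorem mem_fixedPoints_conjEltAction (P : Subgroup G) (q : EltC G) :
    q ∈ MulAction.fixedPoints P (EltC G) ↔ q.val ∈ Subgroup.centralizer (P : Set G) := by
  rw [MulAction.mem_fixedPoints]
  constructor
  · intro h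
    rw [Subgroup.mem_centralizer_iff]
    intro u hu
    have := h ⟨u, hu⟩
    rw [conjEltAction_smul] at this
    have h1 : u * q.val * u⁻¹ = q.val := congrArg EltC.val this
    calc u * q.val = u * q.val * u⁻¹ * u := by group
      _ = q.val * u := by rw [h1]
  · intro h1 u
    have e1 := Subgroup.mem_centralizer_iff.1 h1 u u.2
    rw [conjEltAction_smul, e1]
    cases q
    simp

end

section

variable {G : Type u} [Group G] [Fintype G] {M : Ideal AlgInt} {p : ℕ}

theorem sum_eltC (f : G → ℂ) : ∑ q : EltC G, f q.val = ∑ q : G, f q :=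
  Fintype.sum_equiv (eltCEquiv G) _ _ (fun _ => rfl)

/-- Orbit counting for the conjugation action of a `p`-subgroup on the group. -/
theorem memLocalIdeal_sum_sub_sum_centralizer (hM : IsPModular p M) (Q : Subgroup G)
    (hQ : IsPGroup p Q) (f : G → ℂ) (hf : ∀ u ∈ Q, ∀ x : G, f (u * x * u⁻¹) = f x)
    (hfS : ∀ x, MemLocalRing M (f x)) [DecidablePred (fun x : G => x ∈ Subgroup.centralizer (Q : Set G))] :
    MemLocalIdeal M (∑ x, f x - ∑ x ∈ Finset.univ.filter
      (fun x : G => x ∈ Subgroup.centralizer (Q : Set G)), f x) := by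
  classical
  have key := memLocalIdeal_sum_sub_sum_fixedPoints hM hQ (fun q : EltC G => f q.val)
    (fun u q => hf u u.2 q.val) (fun q => hfS q.val)
  rw [sum_eltC] at key
  have e : ∑ x ∈ Finset.univ.filter (fun x : EltC G => x ∈ MulAction.fixedPoints Q (EltC G)), f x.val
      = ∑ x ∈ Finset.univ.filter (fun x : G => x ∈ Subgroup.centralizer (Q : Set G)), f x := by
    rw [Finset.sum_filter, Finset.sum_filter,
      ← sum_eltC (fun x => if x ∈ Subgroup.centralizer (Q : Set G) then f x else 0)]
    refine Finset.sum_congr rfl fun q _ => ?_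
    by_cases hq : q ∈ MulAction.fixedPoints Q (EltC G)
    · rw [if_pos hq, if_pos ((mem_fixedPoints_conjEltAction Q q).1 hq)]
    · rw [if_neg hq, if_neg (fun h => hq ((mem_fixedPoints_conjEltAction Q q).2 h))]
  rw [e] at key
  exact key

/-- A block is the block of each of its members. -/
theorem eq_blockOf_of_mem (hM : M.IsPrime) {B : Set (IrrCharacter G)} (hB : IsPBlock M B)
    {χ : IrrCharacter G} (hχ : χ ∈ B) : B = blockOf M (χ : G → ℂ) := by
  obtain ⟨χ₀, rfl⟩ := hB
  ext ψ
  constructor
  · intro hψ
    exact sameBlock_trans hM (sameBlock_symm hχ) hψ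
  · intro hψ
    exact sameBlock_trans hM hχ hψ

/-- If the central characters of a block are units at `z`, the idempotent of the block is a
multiple of the class sum of `z`. -/
theorem exists_conv_classIndicator_eq_blockCoeff (hM : M.IsPrime) {B : Set (IrrCharacter G)}
    (hB : IsPBlock M B) {z : G}
    (hz : ∃ χ ∈ B, ¬ MemLocalIdeal M (centralChar (χ : G → ℂ) z)) :
    ∃ Uf : G → ℂ, IsClassFunction G Uf ∧ (∀ g, MemLocalRing M (Uf g)) ∧
      conv (classIndicator z) Uf = blockCoeff B := by
  classical
  have : Fintype (IrrCharacter G) := Fintype.ofFinite _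
  obtain ⟨χ, hχB, hχz⟩ := hz
  obtain ⟨hcf, hS, hω⟩ := blockCoeff_spec hM hB
  have hBeq : B = blockOf M (χ : G → ℂ) := eq_blockOf_of_mem hM hB hχB
  let r' : IrrCharacter G → ℂ := fun ψ => if ψ ∈ B then centralChar (ψ : G → ℂ) z else 1
  have hr'R : r' ∈ omegaRing M hM G := by
    refine ⟨conv (classIndicator z) (blockCoeff B) + (deltaOne - blockCoeff B), ?_, ?_, ?_⟩
    · exact isClassFunction_add' (isClassFunction_conv (classIndicator_isClassFunction z) hcf)
        (isClassFunction_sub' isClassFunction_deltaOne hcf)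
    · intro g
      refine memLocalRing_add hM (memLocalRing_conv hM (fun x => ?_) hS g)
        (memLocalRing_sub hM (memLocalRing_deltaOne hM.ne_top g) (hS g))
      unfold classIndicator
      split_ifs
      · exact memLocalRing_one hM.ne_top
      · exact memLocalRing_zero hM.ne_top
    · intro ψ
      rw [omega_add, omega_conv ψ.2 hcf, omega_sub, hω ψ,
        omega_classIndicator (isClassFunction_irr ψ.2),
        omega_deltaOne (irr_apply_one_ne_zero ψ.2)]
      simp only [r']
      split_ifs <;> ring
  have hunit : ∀ ψ, ¬ MemLocalIdeal M (r' ψ) := by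
    intro ψ
    simp only [r']
    split_ifs with hψ
    · rw [hBeq] at hψ
      have hψ' : SameBlock M (χ : G → ℂ) (ψ : G → ℂ) := hψ
      exact not_memLocalIdeal_of_cong hM hχz (cong_symm (hψ' z))
    · exact not_memLocalIdeal_one hM
  obtain ⟨w', hw'cf, hw'S, hw'ω⟩ := inv_mem_of_units hM (omegaRing M hM G)
    (fun c hc => const_mem_omegaRing hM hc)
    (fun r hr i => apply_memLocalRing_of_mem_omegaRing hM hr i) r' hr'R hunit
  refine ⟨conv w' (blockCoeff B), isClassFunction_conv hw'cf hcf, memLocalRing_conv hM hw'S hS, ?_⟩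
  apply eq_blockCoeff_of_omega B (isClassFunction_conv (classIndicator_isClassFunction z)
    (isClassFunction_conv hw'cf hcf))
  intro ψ
  rw [omega_conv ψ.2 (isClassFunction_conv hw'cf hcf), omega_conv ψ.2 hcf, hw'ω ψ, hω ψ,
    omega_classIndicator (isClassFunction_irr ψ.2)]
  by_cases hψ : ψ ∈ B
  · rw [if_pos hψ, mul_one]
    have h0 : r' ψ ≠ 0 := by
      intro h0
      apply hunit ψ
      rw [h0]
      exact memLocalIdeal_zero hM.ne_top
    have : r' ψ = centralChar (ψ : G → ℂ) z := by
      simp only [r']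
      rw [if_pos hψ]
    rw [← this]
    exact mul_inv_cancel₀ h0
  · rw [if_neg hψ, mul_zero, mul_zero]

/-- **The min-max lemma**: if the central characters of the block `B` are units at `z` and the
idempotent coefficient of `B` at `w` is a unit, then every `p`-subgroup of `C_G(w)` centralizes
a conjugate of `z`. -/
theorem exists_isConj_le_centralizer (hM : IsPModular p M) {B : Set (IrrCharacter G)}
    (hB : IsPBlock M B) {z w : G}
    (hz : ∃ χ ∈ B, ¬ MemLocalIdeal M (centralChar (χ : G → ℂ) z))
    (hw : ¬ MemLocalIdeal M (blockCoeff B w)) (Q : Subgroup G) (hQ : IsPGroup p Q)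
    (hQw : Q ≤ Subgroup.centralizer ({w} : Set G)) :
    ∃ y : G, IsConj z y ∧ Q ≤ Subgroup.centralizer ({y} : Set G) := by
  classical
  have hMp := isPModular_isPrime hM
  obtain ⟨Uf, hUcf, hUS, hUeq⟩ := exists_conv_classIndicator_eq_blockCoeff hMp hB hz
  let f : G → ℂ := fun y => classIndicator z y * Uf (y⁻¹ * w)
  have hfsum : ∑ y, f y = blockCoeff B w := by
    rw [← hUeq, conv_apply]
  have hfinv : ∀ u ∈ Q, ∀ x : G, f (u * x * u⁻¹) = f x := by
    intro u hu x
    simp only [f]
    rw [classIndicator_isClassFunction z x u]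
    congr 1
    have hwu : u * w = w * u := by
      have := Subgroup.mem_centralizer_iff.1 (hQw hu) w (Set.mem_singleton w)
      exact this.symm
    have e : (u * x * u⁻¹)⁻¹ * w = u * (x⁻¹ * w) * u⁻¹ := by
      have : w = u * w * u⁻¹ := by rw [hwu]; group
      calc (u * x * u⁻¹)⁻¹ * w = u * x⁻¹ * u⁻¹ * w := by group
        _ = u * x⁻¹ * u⁻¹ * (u * w * u⁻¹) := by rw [← this]
        _ = u * (x⁻¹ * w) * u⁻¹ := by group
    rw [e, hUcf _ u]
  have hfS : ∀ x, MemLocalRing M (f x) := by
    intro x
    simp only [f]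
    apply memLocalRing_mul hMp _ (hUS _)
    unfold classIndicator
    split_ifs
    · exact memLocalRing_one hMp.ne_top
    · exact memLocalRing_zero hMp.ne_top
  have key := memLocalIdeal_sum_sub_sum_centralizer hM Q hQ f hfinv hfS
  rw [hfsum] at key
  have hne : ∑ x ∈ Finset.univ.filter (fun x : G => x ∈ Subgroup.centralizer (Q : Set G)), f x ≠ 0 := by
    intro h0
    rw [h0, sub_zero] at key
    exact hw key
  obtain ⟨y, hy, hfy⟩ := Finset.exists_ne_zero_of_sum_ne_zero hne
  have hyC : y ∈ Subgroup.centralizer (Q : Set G) := (Finset.mem_filter.1 hy).2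
  refine ⟨y, ?_, ?_⟩
  · by_contra hcon
    apply hfy
    simp only [f]
    unfold classIndicator
    rw [if_neg hcon, zero_mul]
  · intro u hu
    rw [Subgroup.mem_centralizer_iff]
    intro x hx
    rw [Set.mem_singleton_iff] at hx
    subst hx
    exact (Subgroup.mem_centralizer_iff.1 hyC u hu).symm

end

end Cfsg.Agent.Lib.Helper8
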