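import Mathlib
import Cfsg.Prelude.Def_Characters
import Cfsg.Prelude.Def_Blocks
import Cfsg.Agent.Lib.Helper4.Characters
import Cfsg.Agent.Lib.Helper1.CharFound7
import Cfsg.Agent.S0135
import Cfsg.Agent.S0139

set_option autoImplicit false

namespace Cfsg.Agent.Lib.Helper8

open scoped ComplexConjugate
open Cfsg.Agent.Lib.Helper1 Cfsg.Agent.Lib.Helper4

universe u

section

variable {G : Type u} [Group G] {H : Type*} [Group H] {V : Type*} [AddCommGroup V] [Module ℂ V]

/-- If `ρ ∘ φ` is irreducible then so is `ρ`. -/
theorem isIrreducible_of_comp (ρ : Representation ℂ G V) (φ : H →* G)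
    (h : Representation.IsIrreducible (ρ.comp φ : Representation ℂ H V)) : ρ.IsIrreducible := by
  have hnt : Nontrivial V := by
    by_contra hV
    rw [not_nontrivial_iff_subsingleton] at hV
    have : (⊥ : Subrepresentation (ρ.comp φ : Representation ℂ H V)) = ⊤ := by
      apply Subrepresentation.toSubmodule_injective
      exact Subsingleton.elim _ _
    exact bot_ne_top this
  refine { exists_pair_ne := ⟨⊥, ⊤, ?_⟩, eq_bot_or_eq_top := ?_ }
  · intro hbt
    have h1 := congrArg Subrepresentation.toSubmodule hbt
    exact bot_ne_top h1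
  · intro S
    let S' : Subrepresentation (ρ.comp φ : Representation ℂ H V) :=
      { toSubmodule := S.toSubmodule
        apply_mem_toSubmodule := by
          intro g v hv
          exact S.apply_mem_toSubmodule (φ g) hv }
    rcases eq_bot_or_eq_top S' with h | h
    · left
      apply Subrepresentation.toSubmodule_injective
      have h1 : S'.toSubmodule
          = (⊥ : Subrepresentation (ρ.comp φ : Representation ℂ H V)).toSubmodule :=
        congrArg Subrepresentation.toSubmodule h
      exact h1
    · right
      apply Subrepresentation.toSubmodule_injective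
      have h1 : S'.toSubmodule
          = (⊤ : Subrepresentation (ρ.comp φ : Representation ℂ H V)).toSubmodule :=
        congrArg Subrepresentation.toSubmodule h
      exact h1

end

section

variable {G : Type u} [Group G]

/-- Inflation of an irreducible character of a quotient. -/
theorem isIrrCharacter_inflation (N : Subgroup G) [N.Normal] {ψ : G ⧸ N → ℂ}
    (hψ : Cfsg.IsIrrCharacter (G ⧸ N) ψ) :
    Cfsg.IsIrrCharacter G (fun g => ψ (QuotientGroup.mk g)) := by
  obtain ⟨n, ρ, hirr, rfl⟩ := hψ
  exact ⟨n, ρ.comp (QuotientGroup.mk' N),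
    isIrreducible_comp_surjective ρ hirr (QuotientGroup.mk' N) (QuotientGroup.mk'_surjective N), rfl⟩

/-- Deflation: an irreducible character whose kernel contains the normal subgroup `N`
comes from an irreducible character of `G ⧸ N`. -/
theorem exists_deflation [Finite G] (N : Subgroup G) [N.Normal] {χ : G → ℂ}
    (hχ : Cfsg.IsIrrCharacter G χ) (hN : ∀ g ∈ N, χ g = χ 1) :
    ∃ ψ : G ⧸ N → ℂ, Cfsg.IsIrrCharacter (G ⧸ N) ψ ∧
      ∀ g : G, ψ (QuotientGroup.mk g) = χ g := by
  obtain ⟨n, ρ, hirr, rfl⟩ := hχ
  have hle : N ≤ MonoidHom.ker ρ := by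
    intro g hg
    rw [MonoidHom.mem_ker]
    have h1 := hN g hg
    rw [Representation.char_one] at h1
    exact (Cfsg.Agent.S0139.result ρ g).mp h1
  let ρ' : Representation ℂ (G ⧸ N) (Fin n → ℂ) := QuotientGroup.lift N ρ hle
  have hcomp : (ρ'.comp (QuotientGroup.mk' N) : Representation ℂ G (Fin n → ℂ)) = ρ := by
    apply MonoidHom.ext
    intro g
    rfl
  refine ⟨ρ'.character, ⟨n, ρ', ?_, rfl⟩, ?_⟩
  · apply isIrreducible_of_comp ρ' (QuotientGroup.mk' N)
    rw [hcomp]
    exact hirr
  · intro g
    rfl

/-- The degree of an irreducible character, as a natural number. -/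
theorem irr_apply_one_eq_charDegree [Finite G] {χ : G → ℂ} (hχ : Cfsg.IsIrrCharacter G χ) :
    χ 1 = (Cfsg.charDegree χ : ℂ) ∧ 0 < Cfsg.charDegree χ := by
  obtain ⟨m, hm, h1⟩ := irr_apply_one_pos hχ
  have : Cfsg.charDegree χ = m := by
    unfold Cfsg.charDegree
    rw [h1]
    simp
  rw [this]
  exact ⟨h1, hm⟩

/-- The degree of an irreducible character divides the group order. -/
theorem charDegree_dvd_card [Finite G] {χ : G → ℂ} (hχ : Cfsg.IsIrrCharacter G χ) :
    Cfsg.charDegree χ ∣ Nat.card G := by
  obtain ⟨n, ρ, hirr, rfl⟩ := hχ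
  haveI := hirr
  have h1 := Cfsg.Agent.S0135.result ρ
  have h2 : Cfsg.charDegree ρ.character = n := by
    unfold Cfsg.charDegree
    rw [Representation.char_one]
    simp
  rw [h2]
  simpa using h1

/-- The degree of an irreducible character divides the index of any normal subgroup contained in
its kernel. -/
theorem charDegree_dvd_index [Finite G] (N : Subgroup G) [N.Normal] {χ : G → ℂ}
    (hχ : Cfsg.IsIrrCharacter G χ) (hN : ∀ g ∈ N, χ g = χ 1) :
    Cfsg.charDegree χ ∣ N.index := by
  obtain ⟨ψ, hψ, hψχ⟩ := exists_deflation N hχ hN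
  have h1 := charDegree_dvd_card hψ
  have h2 : Cfsg.charDegree ψ = Cfsg.charDegree χ := by
    unfold Cfsg.charDegree
    have := hψχ 1
    rw [QuotientGroup.mk_one] at this
    rw [this]
  rw [h2] at h1
  exact h1

end

end Cfsg.Agent.Lib.Helper8
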