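import Mathlib
import Cfsg.Prelude.Def_Blocks
import Cfsg.Agent.Lib.Helper8.BlockDefect
import Cfsg.Agent.Lib.Helper8.Deflation
import Cfsg.Agent.Lib.Helper1.RepEigen
import Cfsg.Agent.S4665

/-!
# Unions of blocks, blocks of defect zero
-/

set_option autoImplicit false

namespace Cfsg.Agent.Lib.Helper8

open Cfsg
open scoped ComplexConjugate
open Cfsg.Agent.Lib.Helper1 Cfsg.Agent.Lib.Helper4

universe u

section

variable {G : Type u} [Group G] [Fintype G] {M : Ideal AlgInt} {p : ℕ}

/-- Character values are algebraic integers. -/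
theorem isIntegral_char_apply {χ : G → ℂ} (hχ : IsCharacter G χ) (g : G) : IsIntegral ℤ (χ g) := by
  obtain ⟨n, ρ, rfl⟩ := hχ
  rw [character_eq_sum_roots]
  apply IsIntegral.multiset_sum
  intro μ hμ
  have h := charpoly_roots_pow ρ g μ hμ
  exact IsIntegral.of_pow (orderOf_pos _) (h ▸ isIntegral_one)

theorem memLocalRing_char_apply (hM : M ≠ ⊤) {χ : G → ℂ} (hχ : IsCharacter G χ) (g : G) :
    MemLocalRing M (χ g) :=
  memLocalRing_of_isIntegral hM (isIntegral_char_apply hχ g)

theorem isIntegral_conj {z : ℂ} (hz : IsIntegral ℤ z) : IsIntegral ℤ (conj z) := by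
  obtain ⟨q, hq, hq0⟩ := hz
  refine ⟨q, hq, ?_⟩
  have := congrArg conj hq0
  rw [map_zero] at this
  rw [← this, Polynomial.eval₂_eq_sum_range, Polynomial.eval₂_eq_sum_range, map_sum]
  refine Finset.sum_congr rfl fun i _ => ?_
  rw [map_mul, map_pow]
  congr 1
  simp

/-- A set of irreducible characters whose idempotent has local integer coefficients is a union of
blocks. -/
theorem blockOf_subset_of_memLocalRing (hM : M.IsPrime) (A : Set (IrrCharacter G))
    (hA : ∀ g : G, MemLocalRing M (blockCoeff A g)) {χ : IrrCharacter G} (hχ : χ ∈ A) :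
    blockOf M (χ : G → ℂ) ⊆ A := by
  classical
  intro ψ hψ
  have hψ' : SameBlock M (χ : G → ℂ) (ψ : G → ℂ) := hψ
  have h1 := memLocalIdeal_omega_sub hM χ.2 ψ.2 hψ' (isClassFunction_blockCoeff A) hA
  rw [omega_blockCoeff, omega_blockCoeff, if_pos hχ] at h1
  by_contra hψA
  rw [if_neg hψA, sub_zero] at h1
  exact not_memLocalIdeal_one hM h1

omit [Fintype G] in
/-- The idempotent coefficients of a singleton. -/
theorem blockCoeff_singleton (χ : IrrCharacter G) (g : G) :
    blockCoeff {χ} g = (Nat.card G : ℂ)⁻¹ * ((χ : G → ℂ) 1 * conj ((χ : G → ℂ) g)) := by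
  unfold blockCoeff
  rw [finsum_mem_singleton]

/-- A character of defect zero forms a block by itself. -/
theorem blockOf_eq_singleton_of_not_dvd (hM : IsPModular p M) (χ : IrrCharacter G)
    (h : ¬ p ∣ Nat.card G / charDegree (χ : G → ℂ)) : blockOf M (χ : G → ℂ) = {χ} := by
  have hMp := isPModular_isPrime hM
  apply Set.Subset.antisymm
  · apply blockOf_subset_of_memLocalRing hMp {χ} _ (Set.mem_singleton χ)
    intro g
    rw [blockCoeff_singleton]
    obtain ⟨h1, h2⟩ := irr_apply_one_eq_charDegree χ.2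
    obtain ⟨k, hk⟩ := charDegree_dvd_card χ.2
    have hk' : Nat.card G / charDegree (χ : G → ℂ) = k := by
      rw [hk]
      exact Nat.mul_div_cancel_left k h2
    rw [hk'] at h
    have h3 : (Nat.card G : ℂ)⁻¹ * ((χ : G → ℂ) 1 * conj ((χ : G → ℂ) g))
        = (k : ℂ)⁻¹ * conj ((χ : G → ℂ) g) := by
      rw [h1, hk]
      push_cast
      have hd0 : (charDegree (χ : G → ℂ) : ℂ) ≠ 0 := Nat.cast_ne_zero.2 h2.ne'
      have hk0 : (k : ℂ) ≠ 0 := by
        intro h0
        have : k = 0 := by exact_mod_cast h0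
        rw [this] at h
        exact h (dvd_zero p)
      field_simp
    rw [h3]
    apply memLocalRing_mul hMp (memLocalRing_inv_natCast hM h)
    exact memLocalRing_of_isIntegral hMp.ne_top
      (isIntegral_conj (isIntegral_char_apply (isCharacter_of_irr χ.2) g))
  · intro ψ hψ
    rw [Set.mem_singleton_iff] at hψ
    rw [hψ]
    exact sameBlock_refl hMp.ne_top _

/-- If `{χ}` is a block then `χ` vanishes on `p`-singular elements. -/
theorem irr_eq_zero_of_singleton_block (hM : IsPModular p M) (χ : IrrCharacter G)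
    (h : blockOf M (χ : G → ℂ) = {χ}) {g : G} (hg : p ∣ orderOf g) : (χ : G → ℂ) g = 0 := by
  have hB : IsPBlock M ({χ} : Set (IrrCharacter G)) := ⟨χ, h.symm⟩
  have h1 := blockCoeff_eq_zero_of_dvd_orderOf hM hB hg
  rw [blockCoeff_singleton] at h1
  have hG0 : (Nat.card G : ℂ) ≠ 0 := Nat.cast_ne_zero.2 Nat.card_pos.ne'
  have hχ1 := irr_apply_one_ne_zero χ.2
  rcases mul_eq_zero.1 h1 with h2 | h2
  · exact absurd (inv_eq_zero.1 h2) hG0
  · rcases mul_eq_zero.1 h2 with h3 | h3
    · exact absurd h3 hχ1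
    · simpa using h3

/-- If an irreducible character vanishes on all `p`-singular elements then the full `p`-part of the
group order divides its degree. -/
theorem pow_dvd_charDegree_of_vanish (hp : p.Prime) (χ : IrrCharacter G)
    (h : ∀ g : G, p ∣ orderOf g → (χ : G → ℂ) g = 0) :
    p ^ (Nat.card G).factorization p ∣ charDegree (χ : G → ℂ) := by
  classical
  have : Fact p.Prime := ⟨hp⟩
  obtain ⟨P⟩ : Nonempty (Sylow p G) := inferInstance
  have hcard : Nat.card P = p ^ (Nat.card G).factorization p := P.card_eq_multiplicity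
  obtain ⟨k, hk⟩ := Cfsg.Agent.S4665.sum_subgroup_irr (P : Subgroup G) χ
  have h1 : ∑ x : (P : Subgroup G), (χ : G → ℂ) x = (χ : G → ℂ) 1 := by
    rw [Finset.sum_eq_single (1 : (P : Subgroup G))]
    · rfl
    · intro x _ hx
      apply h
      obtain ⟨j, hj⟩ := (IsPGroup.iff_orderOf.1 P.2) x
      rw [Subgroup.orderOf_coe, hj]
      rcases j with _ | j
      · exfalso
        rw [pow_zero, orderOf_eq_one_iff] at hj
        exact hx hj
      · exact dvd_pow_self p (Nat.succ_ne_zero j)
    · intro h'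
      exact absurd (Finset.mem_univ _) h'
  rw [h1, (irr_apply_one_eq_charDegree χ.2).1, hcard] at hk
  have : charDegree (χ : G → ℂ) = p ^ (Nat.card G).factorization p * k := by exact_mod_cast hk
  exact ⟨k, this⟩

/-- If `{χ}` is a block then `χ` has defect zero. -/
theorem not_dvd_of_blockOf_eq_singleton (hM : IsPModular p M) (χ : IrrCharacter G)
    (h : blockOf M (χ : G → ℂ) = {χ}) : ¬ p ∣ Nat.card G / charDegree (χ : G → ℂ) := by
  have hp := hM.1
  have h1 := pow_dvd_charDegree_of_vanish hp χ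
    (fun g hg => irr_eq_zero_of_singleton_block hM χ h hg)
  obtain ⟨h2, h3⟩ := irr_apply_one_eq_charDegree χ.2
  obtain ⟨k, hk⟩ := charDegree_dvd_card χ.2
  have hk' : Nat.card G / charDegree (χ : G → ℂ) = k := by
    rw [hk]
    exact Nat.mul_div_cancel_left k h3
  rw [hk']
  intro hpk
  -- then p^(a+1) divides |G|
  have h4 : p ^ ((Nat.card G).factorization p + 1) ∣ Nat.card G := by
    rw [pow_succ]
    conv_rhs => rw [hk]
    exact Nat.mul_dvd_mul h1 hpk
  have := (hp.pow_dvd_iff_le_factorization Nat.card_pos.ne').1 h4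
  omega

end

end Cfsg.Agent.Lib.Helper8
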