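import Mathlib
import Cfsg.Prelude.Def_Blocks
import Cfsg.Prelude.Def_BlockRank
import Cfsg.Agent.Lib.Helper8.BlockUnion

/-!
# Block orthogonality on `p`-regular elements and the `p`-regular rank of a block
-/

set_option autoImplicit false

namespace Cfsg.Agent.Lib.Helper8

open Cfsg
open scoped ComplexConjugate
open Cfsg.Agent.Lib.Helper1 Cfsg.Agent.Lib.Helper4

universe u

section

variable {G : Type u} [Group G] [Fintype G] {M : Ideal AlgInt} {p : ℕ}

omit [Fintype G] in
theorem pRegularPart_apply (χ : G → ℂ) (g : G) :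
    pRegularPart p χ g = (by classical exact if ¬ p ∣ orderOf g then χ g else 0) := by
  classical
  unfold pRegularPart IsPRegular
  congr

omit [Fintype G] in
theorem pRegularPart_of_not_dvd (χ : G → ℂ) {g : G} (hg : ¬ p ∣ orderOf g) :
    pRegularPart p χ g = χ g := by
  classical
  rw [pRegularPart_apply, if_pos hg]

omit [Fintype G] in
theorem pRegularPart_of_dvd (χ : G → ℂ) {g : G} (hg : p ∣ orderOf g) :
    pRegularPart p χ g = 0 := by
  classical
  rw [pRegularPart_apply, if_neg (not_not.2 hg)]

omit [Fintype G] in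
theorem isClassFunction_pRegularPart {χ : G → ℂ} (hχ : IsClassFunction G χ) :
    IsClassFunction G (pRegularPart p χ) := by
  classical
  intro g h
  rw [pRegularPart_apply, pRegularPart_apply]
  have : orderOf (h * g * h⁻¹) = orderOf g := by
    have := MulEquiv.orderOf_eq (MulAut.conj h) g
    simpa [MulAut.conj_apply] using this
  rw [this, hχ g h]

omit [Fintype G] in
theorem pRegularPart_pRegularPart (χ : G → ℂ) :
    pRegularPart p (pRegularPart p χ) = pRegularPart p χ := by
  classical
  funext g
  by_cases hg : p ∣ orderOf g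
  · rw [pRegularPart_of_dvd _ hg, pRegularPart_of_dvd _ hg]
  · rw [pRegularPart_of_not_dvd _ hg]

omit [Fintype G] in
theorem pRegularPart_add (χ ψ : G → ℂ) :
    pRegularPart p (χ + ψ) = pRegularPart p χ + pRegularPart p ψ := by
  classical
  funext g
  simp only [Pi.add_apply, pRegularPart_apply]
  split_ifs <;> simp

omit [Fintype G] in
theorem pRegularPart_smul (c : ℂ) (χ : G → ℂ) :
    pRegularPart p (c • χ) = c • pRegularPart p χ := by
  classical
  funext g
  simp only [Pi.smul_apply, pRegularPart_apply]
  split_ifs <;> simp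

/-- The inner product with a `p`-regular part is symmetric in where the truncation is put. -/
theorem classInner_pRegularPart_left (χ ψ : G → ℂ) :
    classInner (pRegularPart p χ) ψ = classInner (pRegularPart p χ) (pRegularPart p ψ) := by
  classical
  rw [classInner_def, classInner_def]
  congr 1
  refine Finset.sum_congr rfl fun g _ => ?_
  by_cases hg : p ∣ orderOf g
  · rw [pRegularPart_of_dvd _ hg, zero_mul, zero_mul]
  · rw [pRegularPart_of_not_dvd ψ hg]

theorem classInner_pRegularPart_right (χ ψ : G → ℂ) :
    classInner χ (pRegularPart p ψ) = classInner (pRegularPart p χ) (pRegularPart p ψ) := by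
  classical
  rw [classInner_def, classInner_def]
  congr 1
  refine Finset.sum_congr rfl fun g _ => ?_
  by_cases hg : p ∣ orderOf g
  · rw [pRegularPart_of_dvd ψ hg, map_zero, mul_zero, mul_zero]
  · rw [pRegularPart_of_not_dvd χ hg]

/-- **Block orthogonality on `p`-regular elements**: irreducible characters in different blocks
are orthogonal on the `p`-regular elements. -/
theorem classInner_pRegularPart_eq_zero (hM : IsPModular p M) {χ ψ : IrrCharacter G}
    (h : ¬ SameBlock M (χ : G → ℂ) (ψ : G → ℂ)) :
    classInner (pRegularPart p (χ : G → ℂ)) (ψ : G → ℂ) = 0 := by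
  classical
  have : Fintype (IrrCharacter G) := Fintype.ofFinite _
  have hMp := isPModular_isPrime hM
  set B := blockOf M (χ : G → ℂ) with hBdef
  have hB : IsPBlock M B := ⟨χ, rfl⟩
  have hχB : χ ∈ B := sameBlock_refl hMp.ne_top _
  have hψB : ψ ∉ B := h
  let ind : IrrCharacter G → ℂ := fun φ => if φ ∈ B then 1 else 0
  let m : IrrCharacter G → ℂ := fun φ => classInner (pRegularPart p (φ : G → ℂ)) (ψ : G → ℂ)
  -- Step 1
  have step1 : ∀ x : G, ¬ p ∣ orderOf x →
      ∑ φ : IrrCharacter G, ind φ * (conj ((φ : G → ℂ) x) * m φ) = 0 := by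
    intro x hx
    let θ : G → ℂ := fun y => ∑ φ : IrrCharacter G, ind φ * (conj ((φ : G → ℂ) x) * (φ : G → ℂ) y)
    have hθ0 : ∀ y : G, p ∣ orderOf y → θ y = 0 := by
      intro y hy
      have := finsum_block_mul_conj_eq_zero hM hB hx hy
      rw [finsum_mem_eq_sum_indicator] at this
      have h2 := congrArg conj this
      rw [map_zero, map_sum] at h2
      rw [← h2]
      refine Finset.sum_congr rfl fun φ _ => ?_
      simp only [ind]
      rw [map_mul, map_mul, Complex.conj_conj]
      split_ifs <;> simp
    have hθ : θ = ∑ φ : IrrCharacter G, (ind φ * conj ((φ : G → ℂ) x)) • (φ : G → ℂ) := by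
      funext y
      simp only [θ, Finset.sum_apply, Pi.smul_apply, smul_eq_mul]
      refine Finset.sum_congr rfl fun φ _ => ?_
      ring
    have h1 : classInner θ (ψ : G → ℂ) = 0 := by
      rw [hθ, classInner_sum_left]
      apply Finset.sum_eq_zero
      intro φ _
      rw [classInner_smul_left]
      by_cases hφ : φ ∈ B
      · have hne : (φ : G → ℂ) ≠ (ψ : G → ℂ) := by
          intro heq
          apply hψB
          have : φ = ψ := Subtype.ext heq
          rwa [← this]
        rw [classInner_irr_ne φ.2 ψ.2 hne, mul_zero]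
      · simp only [ind]
        rw [if_neg hφ, zero_mul, zero_mul]
    have h2 : classInner θ (ψ : G → ℂ) = classInner (pRegularPart p θ) (ψ : G → ℂ) := by
      congr 1
      funext y
      by_cases hy : p ∣ orderOf y
      · rw [pRegularPart_of_dvd _ hy, hθ0 y hy]
      · rw [pRegularPart_of_not_dvd _ hy]
    rw [h2, hθ] at h1
    have h3 : pRegularPart p (∑ φ : IrrCharacter G,
        (ind φ * conj ((φ : G → ℂ) x)) • (φ : G → ℂ))
        = ∑ φ : IrrCharacter G, (ind φ * conj ((φ : G → ℂ) x)) • pRegularPart p (φ : G → ℂ) := by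
      funext y
      by_cases hy : p ∣ orderOf y
      · rw [pRegularPart_of_dvd _ hy, Finset.sum_apply]
        symm
        apply Finset.sum_eq_zero
        intro φ _
        rw [Pi.smul_apply, pRegularPart_of_dvd _ hy, smul_zero]
      · rw [pRegularPart_of_not_dvd _ hy, Finset.sum_apply, Finset.sum_apply]
        refine Finset.sum_congr rfl fun φ _ => ?_
        rw [Pi.smul_apply, Pi.smul_apply, pRegularPart_of_not_dvd _ hy]
    rw [h3, classInner_sum_left] at h1
    rw [← h1]
    refine Finset.sum_congr rfl fun φ _ => ?_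
    rw [classInner_smul_left]
    ring
  -- Step 2
  have hG0 : (Nat.card G : ℂ) ≠ 0 := Nat.cast_ne_zero.2 Nat.card_pos.ne'
  have step2 : ∑ φ : IrrCharacter G, ind φ * (m φ * conj (m φ)) = 0 := by
    have h1 : ∀ φ : IrrCharacter G, conj (m φ)
        = (Nat.card G : ℂ)⁻¹ * ∑ x : G, pRegularPart p (ψ : G → ℂ) x * conj ((φ : G → ℂ) x) := by
      intro φ
      simp only [m]
      rw [classInner_conj_symm, classInner_pRegularPart_right, ← classInner_pRegularPart_left,
        classInner_def]
    have h2 : ∑ φ : IrrCharacter G, ind φ * (m φ * conj (m φ))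
        = (Nat.card G : ℂ)⁻¹ * ∑ x : G, pRegularPart p (ψ : G → ℂ) x *
          ∑ φ : IrrCharacter G, ind φ * (conj ((φ : G → ℂ) x) * m φ) := by
      simp only [h1, Finset.mul_sum]
      rw [Finset.sum_comm]
      refine Finset.sum_congr rfl fun φ _ => Finset.sum_congr rfl fun x _ => ?_
      ring
    rw [h2]
    have h3 : ∀ x : G, pRegularPart p (ψ : G → ℂ) x *
        ∑ φ : IrrCharacter G, ind φ * (conj ((φ : G → ℂ) x) * m φ) = 0 := by
      intro x
      by_cases hx : p ∣ orderOf x
      · rw [pRegularPart_of_dvd _ hx, zero_mul]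
      · rw [step1 x hx, mul_zero]
    simp only [h3, Finset.sum_const_zero, mul_zero]
  -- conclude
  have h4 : ∀ φ : IrrCharacter G, ind φ * (m φ * conj (m φ))
      = ((if φ ∈ B then Complex.normSq (m φ) else 0 : ℝ) : ℂ) := by
    intro φ
    simp only [ind]
    split_ifs
    · rw [one_mul, Complex.mul_conj]
    · rw [zero_mul]; simp
  simp only [h4] at step2
  rw [← Complex.ofReal_sum] at step2
  have h5 : ∑ φ : IrrCharacter G, (if φ ∈ B then Complex.normSq (m φ) else 0 : ℝ) = 0 := by
    exact_mod_cast step2
  have h6 := (Finset.sum_eq_zero_iff_of_nonneg (fun φ _ => by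
    split_ifs
    · exact Complex.normSq_nonneg _
    · exact le_refl _)).1 h5 χ (Finset.mem_univ _)
  rw [if_pos hχB] at h6
  exact Complex.normSq_eq_zero.1 h6

open Classical in
/-- The `p`-regular part of an irreducible character is a combination of the characters in its
block. -/
theorem pRegularPart_eq_sum_block (hM : IsPModular p M) [Fintype (IrrCharacter G)]
    (χ : IrrCharacter G) :
    pRegularPart p (χ : G → ℂ) = ∑ ψ : IrrCharacter G,
      (if (SameBlock M (χ : G → ℂ) (ψ : G → ℂ)) then
        (classInner (pRegularPart p (χ : G → ℂ)) (ψ : G → ℂ)) else 0) • (ψ : G → ℂ) := by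
  have h1 := class_function_expansion (pRegularPart p (χ : G → ℂ))
    (isClassFunction_pRegularPart (isClassFunction_irr χ.2))
  conv_lhs => rw [h1]
  refine Finset.sum_congr rfl fun ψ _ => ?_
  split_ifs with h
  · rfl
  · rw [classInner_pRegularPart_eq_zero hM h]

end

end Cfsg.Agent.Lib.Helper8
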