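import Mathlib
import Cfsg.Prelude.Def_Characters
import Cfsg.Agent.Lib.Helper1.CharFound6
import Cfsg.Agent.Lib.Helper4.CharBound
import Cfsg.Agent.Lib.Helper8.ClassAlgebra

set_option autoImplicit false

namespace Cfsg.Agent.Lib.Helper8

open scoped ComplexConjugate
open Cfsg.Agent.Lib.Helper1 Cfsg.Agent.Lib.Helper4

universe u

section

variable {G : Type u} [Group G] [Fintype G]

open Classical in
/-- The elements of a subgroup as a finset. -/
noncomputable def subFinset (N : Subgroup G) : Finset G := Finset.univ.filter (fun g : G => g ∈ N)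

theorem mem_subFinset {N : Subgroup G} {g : G} : g ∈ subFinset N ↔ g ∈ N := by
  classical
  simp [subFinset]

theorem card_subFinset (N : Subgroup G) : (subFinset N).card = Nat.card N := by
  classical
  unfold subFinset
  rw [Nat.card_eq_fintype_card, Fintype.card_subtype]

/-- Averaging a function over the cosets of `N`. -/
noncomputable def avgN (N : Subgroup G) (ψ : G → ℂ) : G → ℂ :=
  fun x => (Nat.card N : ℂ)⁻¹ * ∑ n ∈ subFinset N, ψ (x * n)

theorem card_ne_zero_h8 (N : Subgroup G) : (Nat.card N : ℂ) ≠ 0 := by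
  exact_mod_cast Nat.card_pos.ne'

/-- Translation by an element of `N` permutes `N`. -/
theorem sum_subFinset_mul_left (N : Subgroup G) {m : G} (hm : m ∈ N) (F : G → ℂ) :
    ∑ n ∈ subFinset N, F (m * n) = ∑ n ∈ subFinset N, F n := by
  apply Finset.sum_nbij' (fun n => m * n) (fun n => m⁻¹ * n)
  · intro n hn
    rw [mem_subFinset] at hn ⊢
    exact N.mul_mem hm hn
  · intro n hn
    rw [mem_subFinset] at hn ⊢
    exact N.mul_mem (N.inv_mem hm) hn
  · intro n _; simp
  · intro n _; simp
  · intro n _; rfl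

theorem sum_subFinset_inv (N : Subgroup G) (F : G → ℂ) :
    ∑ n ∈ subFinset N, F n⁻¹ = ∑ n ∈ subFinset N, F n := by
  apply Finset.sum_nbij' (fun n => n⁻¹) (fun n => n⁻¹)
  · intro n hn
    rw [mem_subFinset] at hn ⊢
    exact N.inv_mem hn
  · intro n hn
    rw [mem_subFinset] at hn ⊢
    exact N.inv_mem hn
  · intro n _; simp
  · intro n _; simp
  · intro n _; rfl

theorem sum_subFinset_conj (N : Subgroup G) [N.Normal] (h : G) (F : G → ℂ) :
    ∑ n ∈ subFinset N, F (h * n * h⁻¹) = ∑ n ∈ subFinset N, F n := by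
  apply Finset.sum_nbij' (fun n => h * n * h⁻¹) (fun n => h⁻¹ * n * h)
  · intro n hn
    rw [mem_subFinset] at hn ⊢
    exact (inferInstance : N.Normal).conj_mem n hn h
  · intro n hn
    rw [mem_subFinset] at hn ⊢
    have := (inferInstance : N.Normal).conj_mem n hn h⁻¹
    simpa using this
  · intro n _; group
  · intro n _; group
  · intro n _; rfl

theorem avgN_smul (N : Subgroup G) (c : ℂ) (ψ : G → ℂ) : avgN N (c • ψ) = c • avgN N ψ := by
  funext x
  simp only [avgN, Pi.smul_apply, smul_eq_mul]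
  rw [← Finset.mul_sum]
  ring

/-- Averaging is idempotent. -/
theorem avgN_idem (N : Subgroup G) (ψ : G → ℂ) : avgN N (avgN N ψ) = avgN N ψ := by
  funext x
  have hN := card_ne_zero_h8 N
  show (Nat.card N : ℂ)⁻¹ * ∑ m ∈ subFinset N, avgN N ψ (x * m) = avgN N ψ x
  have h1 : ∀ m ∈ subFinset N, avgN N ψ (x * m) = avgN N ψ x := by
    intro m hm
    rw [mem_subFinset] at hm
    unfold avgN
    congr 1
    have := sum_subFinset_mul_left N hm (fun n => ψ (x * n))
    simp only [← mul_assoc] at this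
    exact this
  rw [Finset.sum_congr rfl h1, Finset.sum_const, card_subFinset, nsmul_eq_mul, ← mul_assoc,
    inv_mul_cancel₀ hN, one_mul]

/-- Averaging is self-adjoint for the inner product. -/
theorem classInner_avgN (N : Subgroup G) (ψ φ : G → ℂ) :
    Cfsg.classInner (avgN N ψ) φ = Cfsg.classInner ψ (avgN N φ) := by
  simp only [classInner_def, avgN, map_mul, map_sum, map_inv₀, Complex.conj_natCast]
  congr 1
  have h1 : ∑ g, (Nat.card N : ℂ)⁻¹ * (∑ n ∈ subFinset N, ψ (g * n)) * conj (φ g)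
      = (Nat.card N : ℂ)⁻¹ * ∑ n ∈ subFinset N, ∑ g, ψ (g * n) * conj (φ g) := by
    rw [Finset.sum_comm, Finset.mul_sum]
    refine Finset.sum_congr rfl fun g _ => ?_
    rw [mul_assoc, Finset.sum_mul]
  have h2 : ∑ g, ψ g * ((Nat.card N : ℂ)⁻¹ * ∑ n ∈ subFinset N, conj (φ (g * n)))
      = (Nat.card N : ℂ)⁻¹ * ∑ n ∈ subFinset N, ∑ g, ψ g * conj (φ (g * n)) := by
    rw [Finset.sum_comm, Finset.mul_sum]
    refine Finset.sum_congr rfl fun g _ => ?_
    rw [Finset.mul_sum, Finset.mul_sum, Finset.mul_sum]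
    refine Finset.sum_congr rfl fun n _ => ?_
    ring
  rw [h1, h2]
  congr 1
  rw [← sum_subFinset_inv N (fun n => ∑ g, ψ g * conj (φ (g * n)))]
  refine Finset.sum_congr rfl fun n _ => ?_
  apply Fintype.sum_equiv (Equiv.mulRight n)
  intro g
  simp only [Equiv.coe_mulRight]
  rw [mul_assoc, mul_inv_cancel, mul_one]

theorem isClassFunction_avgN (N : Subgroup G) [N.Normal] {ψ : G → ℂ}
    (hψ : Cfsg.IsClassFunction G ψ) : Cfsg.IsClassFunction G (avgN N ψ) := by
  intro g h
  unfold avgN
  congr 1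
  rw [← sum_subFinset_conj N h (fun n => ψ (h * g * h⁻¹ * n))]
  refine Finset.sum_congr rfl fun n _ => ?_
  have : h * g * h⁻¹ * (h * n * h⁻¹) = h * (g * n) * h⁻¹ := by group
  rw [this, hψ]

/-- The scalar by which averaging acts on an irreducible character. -/
noncomputable def avgScalar (N : Subgroup G) (χ : G → ℂ) : ℂ :=
  (Nat.card N : ℂ)⁻¹ * ((∑ n ∈ subFinset N, χ n) / χ 1)

theorem avgN_irr (N : Subgroup G) [N.Normal] {χ : G → ℂ} (hχ : Cfsg.IsIrrCharacter G χ) :
    avgN N χ = avgScalar N χ • χ := by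
  classical
  funext x
  let f : G → ℂ := fun a => if a ∈ N then 1 else 0
  have hf : Cfsg.IsClassFunction G f := by
    intro a h
    show (if h * a * h⁻¹ ∈ N then (1 : ℂ) else 0) = if a ∈ N then 1 else 0
    have : h * a * h⁻¹ ∈ N ↔ a ∈ N := by
      constructor
      · intro h1
        have := (inferInstance : N.Normal).conj_mem _ h1 h⁻¹
        simpa [mul_assoc] using this
      · intro h1
        exact (inferInstance : N.Normal).conj_mem _ h1 h
    simp only [this]
  have h1 := sum_classFunction_mul_irr hχ f hf x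
  have h2 : ∀ F : G → ℂ, ∑ g, f g * F g = ∑ n ∈ subFinset N, F n := by
    intro F
    unfold subFinset
    rw [Finset.sum_filter]
    refine Finset.sum_congr rfl fun g _ => ?_
    by_cases hg : g ∈ N <;> simp [f, hg]
  rw [h2 (fun g => χ (x * g)), h2 χ] at h1
  show (Nat.card N : ℂ)⁻¹ * ∑ n ∈ subFinset N, χ (x * n) = avgScalar N χ • χ x
  rw [h1, avgScalar, smul_eq_mul]
  ring

theorem avgScalar_sq (N : Subgroup G) [N.Normal] {χ : G → ℂ} (hχ : Cfsg.IsIrrCharacter G χ) :
    avgScalar N χ * avgScalar N χ = avgScalar N χ := by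
  have h1 := avgN_idem N χ
  rw [avgN_irr N hχ, avgN_smul, avgN_irr N hχ, smul_smul] at h1
  have h2 := congrFun h1 1
  simp only [Pi.smul_apply, smul_eq_mul] at h2
  exact mul_right_cancel₀ (irr_apply_one_ne_zero hχ) h2

theorem avgScalar_eq (N : Subgroup G) [N.Normal] {χ : G → ℂ} (hχ : Cfsg.IsIrrCharacter G χ) :
    avgScalar N χ = 0 ∨ avgScalar N χ = 1 := by
  have h := avgScalar_sq N hχ
  have h1 : avgScalar N χ * (avgScalar N χ - 1) = 0 := by linear_combination h
  rcases mul_eq_zero.mp h1 with h2 | h2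
  · exact Or.inl h2
  · exact Or.inr (by linear_combination h2)

/-- Averaging a character over a normal subgroup gives a character (that of the fixed points). -/
theorem isCharacter_avgN (N : Subgroup G) [N.Normal] {ψ : G → ℂ} (hψ : Cfsg.IsCharacter G ψ) :
    Cfsg.IsCharacter G (avgN N ψ) := by
  apply isCharacter_of_nat_mult _ (isClassFunction_avgN N (isClassFunction_of_isCharacter hψ))
  intro χ hχ
  rw [classInner_avgN, avgN_irr N hχ, classInner_smul_right]
  obtain ⟨m, hm⟩ := classInner_char_irr_nat hψ hχ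
  rcases avgScalar_eq N hχ with h | h
  · refine ⟨0, ?_⟩
    rw [h]; simp
  · refine ⟨m, ?_⟩
    rw [h, hm]; simp

end

end Cfsg.Agent.Lib.Helper8
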