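import Mathlib
import Cfsg.Prelude.Def_Characters
import Cfsg.Agent.Lib.Helper8.AvgNormal

/-!
# Averages of character values over a subgroup centralized by an element are algebraic integers
-/

set_option autoImplicit false

namespace Cfsg.Agent.Lib.Helper8

open scoped ComplexConjugate
open Cfsg.Agent.Lib.Helper1 Cfsg.Agent.Lib.Helper4

universe u

section

variable {V : Type*} [AddCommGroup V] [Module ℂ V] [FiniteDimensional ℂ V]

/-- The trace of an endomorphism `T` with `T ^ (n+1) = T` is an algebraic integer. -/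
theorem isIntegral_trace_of_pow_succ_eq (T : Module.End ℂ V) (n : ℕ) (hn : 0 < n)
    (h : T ^ (n + 1) = T) : IsIntegral ℤ (LinearMap.trace ℂ V T) := by
  rw [Module.End.trace_eq_sum_roots_charpoly_of_splits (IsAlgClosed.splits _)]
  have hint : ∀ μ ∈ T.charpoly.roots, μ ∈ (integralClosure ℤ ℂ) := by
    intro μ hμ
    have hroot : T.charpoly.IsRoot μ := (Polynomial.mem_roots'.1 hμ).2
    have hev : Module.End.HasEigenvalue T μ :=
      (Module.End.hasEigenvalue_iff_isRoot_charpoly _ _).2 hroot
    obtain ⟨v, hv⟩ := hev.exists_hasEigenvector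
    have h1 : (T ^ (n + 1)) v = μ ^ (n + 1) • v := hv.pow_apply (n + 1)
    rw [h] at h1
    have h2 : T v = μ • v := hv.apply_eq_smul
    rw [h2] at h1
    have h3 : (μ - μ ^ (n + 1)) • v = 0 := by rw [sub_smul, h1, sub_self]
    have h4 : μ - μ ^ (n + 1) = 0 := by
      rcases smul_eq_zero.1 h3 with h5 | h5
      · exact h5
      · exact absurd h5 hv.2
    by_cases hμ0 : μ = 0
    · rw [hμ0]
      exact isIntegral_zero
    · have h5 : μ ^ n = 1 := by
        have : μ * (1 - μ ^ n) = 0 := by rw [← h4]; ring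
        rcases mul_eq_zero.1 this with h6 | h6
        · exact absurd h6 hμ0
        · exact (sub_eq_zero.1 h6).symm
      apply IsIntegral.of_pow hn
      rw [h5]
      exact isIntegral_one
  exact Subalgebra.multiset_sum_mem _ hint

end

section

variable {G : Type u} [Group G] [Fintype G]

/-- Translation by an element of `N` permutes `N` (general coefficients). -/
theorem sum_subFinset_mul_left' {A : Type*} [AddCommMonoid A] (N : Subgroup G) {m : G}
    (hm : m ∈ N) (F : G → A) :
    ∑ n ∈ subFinset N, F (m * n) = ∑ n ∈ subFinset N, F n := by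
  apply Finset.sum_nbij' (fun n => m * n) (fun n => m⁻¹ * n)
  · intro n hn
    rw [mem_subFinset] at hn ⊢
    exact N.mul_mem hm hn
  · intro n hn
    rw [mem_subFinset] at hn ⊢
    exact N.mul_mem (N.inv_mem hm) hn
  · intro n _
    simp
  · intro n _
    simp
  · intro n _
    rfl

/-- For a character `χ`, a subgroup `D` and an element `g` centralizing `D`, the average of
`χ (u * g)` over `u ∈ D` is an algebraic integer. -/
theorem isIntegral_avg_character {χ : G → ℂ} (hχ : Cfsg.IsCharacter G χ) (D : Subgroup G) {g : G}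
    (hg : g ∈ Subgroup.centralizer (D : Set G)) :
    IsIntegral ℤ ((Nat.card D : ℂ)⁻¹ * ∑ u ∈ subFinset D, χ (u * g)) := by
  classical
  obtain ⟨n, ρ, rfl⟩ := hχ
  let E : Module.End ℂ (Fin n → ℂ) := (Nat.card D : ℂ)⁻¹ • ∑ u ∈ subFinset D, ρ u
  have hD0 := card_ne_zero_h8 D
  have hρE : ∀ m ∈ D, ρ m * E = E := by
    intro m hm
    simp only [E]
    rw [mul_smul_comm, Finset.mul_sum]
    congr 1
    rw [← sum_subFinset_mul_left' D hm (fun x => ρ x)]
    refine Finset.sum_congr rfl fun u _ => ?_
    rw [map_mul]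
  have hEE : E * E = E := by
    have : E * E = (Nat.card D : ℂ)⁻¹ • ∑ u ∈ subFinset D, (ρ u * E) := by
      conv_lhs => rw [show E = (Nat.card D : ℂ)⁻¹ • ∑ u ∈ subFinset D, ρ u from rfl]
      rw [smul_mul_assoc, Finset.sum_mul]
    rw [this, Finset.sum_congr rfl (fun u hu => hρE u (mem_subFinset.1 hu)), Finset.sum_const,
      card_subFinset, ← Nat.cast_smul_eq_nsmul ℂ, smul_smul, inv_mul_cancel₀ hD0, one_smul]
  have hcomm : ρ g * E = E * ρ g := by
    simp only [E]
    rw [mul_smul_comm, smul_mul_assoc, Finset.mul_sum, Finset.sum_mul]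
    congr 1
    refine Finset.sum_congr rfl fun u hu => ?_
    have := Subgroup.mem_centralizer_iff.1 hg u (mem_subFinset.1 hu)
    rw [← map_mul, ← map_mul, this]
  let T : Module.End ℂ (Fin n → ℂ) := ρ g * E
  have hpow : ∀ k : ℕ, T ^ (k + 1) = ρ g ^ (k + 1) * E := by
    intro k
    induction k with
    | zero => simp [T]
    | succ k ih =>
      rw [pow_succ, ih]
      simp only [T]
      calc ρ g ^ (k + 1) * E * (ρ g * E) = ρ g ^ (k + 1) * (E * ρ g) * E := by
            simp only [mul_assoc]
        _ = ρ g ^ (k + 1) * (ρ g * E) * E := by rw [hcomm]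
        _ = ρ g ^ (k + 1 + 1) * (E * E) := by rw [pow_succ (ρ g) (k + 1)]; simp only [mul_assoc]
        _ = ρ g ^ (k + 1 + 1) * E := by rw [hEE]
  have hT : T ^ (orderOf g + 1) = T := by
    rw [hpow, pow_succ, ← map_pow, pow_orderOf_eq_one, map_one, one_mul]
  have htr : LinearMap.trace ℂ (Fin n → ℂ) T
      = (Nat.card D : ℂ)⁻¹ * ∑ u ∈ subFinset D, ρ.character (u * g) := by
    simp only [T, E]
    rw [mul_smul_comm, map_smul, Finset.mul_sum, map_sum, smul_eq_mul]
    congr 1
    refine Finset.sum_congr rfl fun u hu => ?_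
    have := Subgroup.mem_centralizer_iff.1 hg u (mem_subFinset.1 hu)
    rw [← map_mul, ← this]
    rfl
  rw [← htr]
  exact isIntegral_trace_of_pow_succ_eq T (orderOf g) (orderOf_pos g) hT

end

end Cfsg.Agent.Lib.Helper8
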