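import Mathlib
import Cfsg.Prelude.Def_Blocks
import Cfsg.Agent.Lib.Helper8.BlockMinMax
import Cfsg.Agent.Lib.Helper8.TraceIntegral
import Cfsg.Agent.Lib.Helper8.BlockOrth2
import Cfsg.Agent.Lib.Helper8.BlockUnion

/-!
# The order of a defect group
-/

set_option autoImplicit false

namespace Cfsg.Agent.Lib.Helper8

open Cfsg
open scoped ComplexConjugate
open Cfsg.Agent.Lib.Helper1 Cfsg.Agent.Lib.Helper4

universe u

section

variable {M : Ideal AlgInt} {p : ℕ}

/-- A quotient of natural numbers whose numerator has larger `p`-adic valuation than its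
denominator lies in the local ideal. -/
theorem memLocalIdeal_natCast_div (hM : IsPModular p M) {A B : ℕ} (hB : B ≠ 0)
    (h : B.factorization p < A.factorization p) : MemLocalIdeal M ((A : ℂ) / (B : ℂ)) := by
  have hMp := isPModular_isPrime hM
  have hp := hM.1
  have hA : A ≠ 0 := by
    rintro rfl
    simp at h
  set b := B.factorization p with hb
  obtain ⟨B', hB'⟩ : p ^ b ∣ B := Nat.ordProj_dvd B p
  obtain ⟨A', hA'⟩ : p ^ (b + 1) ∣ A := (hp.pow_dvd_iff_le_factorization hA).2 h
  have hB'p : ¬ p ∣ B' := by
    intro hpc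
    have : p ^ (b + 1) ∣ B := by
      rw [hB', pow_succ]
      exact Nat.mul_dvd_mul_left _ hpc
    have h5 := (hp.pow_dvd_iff_le_factorization hB).1 this
    omega
  have hB'0 : (B' : ℂ) ≠ 0 := by
    intro h0
    apply hB'p
    have : B' = 0 := by exact_mod_cast h0
    rw [this]
    exact dvd_zero p
  have hp0 : (p : ℂ) ≠ 0 := by exact_mod_cast hp.ne_zero
  have e : (A : ℂ) / (B : ℂ) = (p : ℂ) * ((A' : ℂ) * (B' : ℂ)⁻¹) := by
    rw [hA', hB']
    push_cast
    field_simp
    ring
  rw [e]
  exact memLocalIdeal_mul_right hMp (memLocalIdeal_prime hM)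
    (memLocalRing_mul hMp (memLocalRing_natCast hMp.ne_top _) (memLocalRing_inv_natCast hM hB'p))

end

section

variable {G : Type u} [Group G] [Fintype G] {M : Ideal AlgInt} {p : ℕ}

/-- A defect class consists of `p`-regular elements. -/
theorem not_dvd_orderOf_of_isDefectClass (hM : IsPModular p M) {B : Set (IrrCharacter G)}
    (hB : IsPBlock M B) {g : G} (hg : IsDefectClass M B g) : ¬ p ∣ orderOf g := by
  intro h
  apply hg.2.1
  rw [blockCoeff_eq_zero_of_dvd_orderOf hM hB h]
  exact memLocalIdeal_zero (isPModular_ne_top hM)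

/-- The idempotent coefficient at a `p`-regular element `g` as a sum over a `p`-subgroup of the
centralizer of `g`. -/
theorem blockCoeff_eq_sum_avg (hM : IsPModular p M) [Fintype (IrrCharacter G)]
    {B : Set (IrrCharacter G)} (hB : IsPBlock M B) {g : G} (hg : ¬ p ∣ orderOf g)
    (D : Subgroup G) (hD : IsPGroup p D) (hDg : D ≤ Subgroup.centralizer ({g} : Set G)) :
    blockCoeff B g = ∑ ψ : IrrCharacter G, (by classical exact if ψ ∈ B then (1 : ℂ) else 0) *
      (((ψ : G → ℂ) 1) / (D.index : ℂ)) *
        conj ((Nat.card D : ℂ)⁻¹ * ∑ u ∈ subFinset D, (ψ : G → ℂ) (u * g)) := by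
  classical
  have hp : Fact p.Prime := ⟨hM.1⟩
  have h1 : ∑ u ∈ subFinset D, blockCoeff B (u * g) = blockCoeff B g := by
    rw [← Finset.add_sum_erase _ _ (mem_subFinset.2 D.one_mem), one_mul, Finset.sum_eq_zero,
      add_zero]
    intro u hu
    have hu1 : u ≠ 1 := (Finset.mem_erase.1 hu).1
    have huD : u ∈ D := mem_subFinset.1 (Finset.mem_erase.1 hu).2
    apply blockCoeff_eq_zero_of_dvd_orderOf hM hB
    have hcomm : Commute u g := by
      have := Subgroup.mem_centralizer_iff.1 (hDg huD) g (Set.mem_singleton g)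
      exact this.symm
    obtain ⟨k, hk⟩ := (IsPGroup.iff_orderOf.1 hD) ⟨u, huD⟩
    have hk' : orderOf u = p ^ k := by
      rw [← hk]
      exact (Subgroup.orderOf_coe (⟨u, huD⟩ : D))
    have hk0 : k ≠ 0 := by
      rintro rfl
      rw [pow_zero, orderOf_eq_one_iff] at hk'
      exact hu1 hk'
    have hco : (orderOf u).Coprime (orderOf g) := by
      rw [hk']
      exact Nat.Coprime.pow_left _ ((Nat.Prime.coprime_iff_not_dvd hM.1).2 hg)
    rw [hcomm.orderOf_mul_eq_mul_orderOf_of_coprime hco, hk']
    exact Dvd.dvd.mul_right (dvd_pow_self p hk0) _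
  rw [← h1]
  simp_rw [blockCoeff_eq_sum]
  rw [← Finset.mul_sum, Finset.sum_comm, Finset.mul_sum]
  refine Finset.sum_congr rfl fun ψ _ => ?_
  rw [map_mul, map_sum, map_inv₀, Complex.conj_natCast]
  have hDcard : (Nat.card D : ℂ) ≠ 0 := card_ne_zero_h8 D
  have hidx : (Nat.card G : ℂ) = (Nat.card D : ℂ) * (D.index : ℂ) := by
    rw [← Nat.cast_mul, Subgroup.card_mul_index]
  have hidx0 : (D.index : ℂ) ≠ 0 := by
    have : D.index ≠ 0 := Subgroup.index_ne_zero_of_finite
    exact_mod_cast this
  rw [hidx, ← Finset.mul_sum]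
  field_simp

/-- **The order of a defect group**: a Sylow `p`-subgroup of the centralizer of a defect class of
`B` has order `p ^ d` with `d` the defect of `B`. -/
theorem card_sylow_centralizer_of_isDefectClass (hM : IsPModular p M) [Fact p.Prime]
    {B : Set (IrrCharacter G)} (hB : IsPBlock M B) {g : G} (hg : IsDefectClass M B g)
    (P : Sylow p (Subgroup.centralizer ({g} : Set G))) :
    Nat.card P = p ^ blockDefect p B := by
  classical
  have : Fintype (IrrCharacter G) := Fintype.ofFinite _
  have hMp := isPModular_isPrime hM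
  have hp := hM.1
  set C := Subgroup.centralizer ({g} : Set G) with hC
  set S := (fun χ : IrrCharacter G => (charDegree (χ : G → ℂ)).factorization p) '' B with hS
  have hBne : B.Nonempty := by
    obtain ⟨χ₀, rfl⟩ := hB
    exact ⟨χ₀, sameBlock_refl hMp.ne_top _⟩
  have hSne : S.Nonempty := hBne.image _
  obtain ⟨χ₀, hχ₀B, hχ₀⟩ := Nat.sInf_mem hSne
  have hmin : ∀ χ ∈ B, sInf S ≤ (charDegree (χ : G → ℂ)).factorization p :=
    fun χ hχ => Nat.sInf_le ⟨χ, hχ, rfl⟩
  set m := sInf S with hm
  set a := (Nat.card G).factorization p with ha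
  set c := (Nat.card C).factorization p with hc
  set k := C.index.factorization p with hk
  have hidx0 : C.index ≠ 0 := Subgroup.index_ne_zero_of_finite
  have hCcard0 : Nat.card C ≠ 0 := Nat.card_pos.ne'
  have hack : a = c + k := by
    rw [ha, ← Subgroup.card_mul_index C, Nat.factorization_mul hCcard0 hidx0]
    rfl
  rw [Sylow.card_eq_multiplicity]
  congr 1
  unfold blockDefect
  show c = a - m
  have hgreg := not_dvd_orderOf_of_isDefectClass hM hB hg
  -- (1) k ≤ m
  have h1 : k ≤ m := by
    by_contra hcon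
    push Not at hcon
    apply hg.2.2 χ₀ hχ₀B
    unfold centralChar
    rw [(irr_apply_one_eq_charDegree χ₀.2).1, mul_div_right_comm]
    apply memLocalIdeal_mul_right hMp _ (memLocalRing_char_apply hMp.ne_top (isCharacter_of_irr χ₀.2) g)
    apply memLocalIdeal_natCast_div hM (irr_apply_one_eq_charDegree χ₀.2).2.ne'
    show (charDegree (χ₀ : G → ℂ)).factorization p < k
    have : (charDegree (χ₀ : G → ℂ)).factorization p = m := hχ₀
    rw [this]
    exact hcon
  -- (2) m ≤ k
  have h2 : m ≤ k := by
    by_contra hcon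
    push Not at hcon
    apply hg.2.1
    set D : Subgroup G := (P : Subgroup C).map C.subtype with hD
    have hDp : IsPGroup p D := P.isPGroup'.map _
    have hDle : D ≤ C := by
      rintro _ ⟨q, _, rfl⟩
      exact q.2
    have hDcard : Nat.card D = p ^ c := by
      rw [hD, Nat.card_congr (Subgroup.equivMapOfInjective _ _ C.subtype_injective).symm.toEquiv,
        Sylow.card_eq_multiplicity]
    have hDidx : D.index.factorization p = k := by
      have h3 := Subgroup.card_mul_index D
      have hDi0 : D.index ≠ 0 := Subgroup.index_ne_zero_of_finite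
      have h4 : (Nat.card D * D.index).factorization p = a := by rw [h3]
      rw [Nat.factorization_mul Nat.card_pos.ne' hDi0, hDcard] at h4
      simp only [Finsupp.coe_add, Pi.add_apply] at h4
      rw [hp.factorization_pow] at h4
      simp at h4
      omega
    rw [blockCoeff_eq_sum_avg hM hB hgreg D hDp hDle]
    apply memLocalIdeal_sum hMp
    intro ψ _
    by_cases hψ : ψ ∈ B
    · rw [if_pos hψ, one_mul]
      apply memLocalIdeal_mul_right hMp
      · rw [(irr_apply_one_eq_charDegree ψ.2).1]
        apply memLocalIdeal_natCast_div hM Subgroup.index_ne_zero_of_finite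
        rw [hDidx]
        exact lt_of_lt_of_le hcon (hmin ψ hψ)
      · apply memLocalRing_of_isIntegral hMp.ne_top
        apply isIntegral_conj
        apply isIntegral_avg_character (isCharacter_of_irr ψ.2) D
        rw [Subgroup.mem_centralizer_iff]
        intro u hu
        have := Subgroup.mem_centralizer_iff.1 (hDle hu) g (Set.mem_singleton g)
        exact this.symm
    · rw [if_neg hψ, zero_mul, zero_mul]
      exact memLocalIdeal_zero hMp.ne_top
  omega

end

end Cfsg.Agent.Lib.Helper8
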