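import Mathlib

/-!
# Sylow subgroups of a subgroup, viewed in the ambient group
-/

set_option autoImplicit false

namespace Cfsg.Agent.Lib.Helper8

universe u

section

variable {G : Type u} [Group G] {p : ℕ}

/-- Every `p`-subgroup of `K` lies in the image of a Sylow `p`-subgroup of `K`. -/
theorem exists_sylow_map_ge (K : Subgroup G) {R : Subgroup G} (hR : IsPGroup p R) (hRK : R ≤ K) :
    ∃ Q : Sylow p K, R ≤ (Q : Subgroup K).map K.subtype := by
  have hR' : IsPGroup p (R.subgroupOf K) := hR.comap_subtype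
  obtain ⟨Q, hQ⟩ := hR'.exists_le_sylow
  refine ⟨Q, ?_⟩
  intro r hr
  exact ⟨⟨r, hRK hr⟩, hQ (Subgroup.mem_subgroupOf.2 hr), rfl⟩

/-- Every `p`-subgroup of a finite `K` lies in a `K`-conjugate of a given Sylow `p`-subgroup of
`K`. -/
theorem exists_conj_sylow_ge [Fact p.Prime] (K : Subgroup G) [Finite K] (D : Sylow p K)
    {R : Subgroup G} (hR : IsPGroup p R) (hRK : R ≤ K) :
    ∃ c ∈ K, R ≤ ((D : Subgroup K).map K.subtype).map (MulAut.conj c).toMonoidHom := by
  obtain ⟨Q, hQ⟩ := exists_sylow_map_ge K hR hRK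
  obtain ⟨c, hc⟩ := MulAction.exists_smul_eq K D Q
  refine ⟨c, c.2, ?_⟩
  intro r hr
  obtain ⟨q, hq, rfl⟩ := hQ hr
  have hq' : q ∈ ((c • D : Sylow p K) : Subgroup K) := by rw [hc]; exact hq
  rw [Sylow.coe_subgroup_smul] at hq'
  obtain ⟨d, hd, hdq⟩ := (Subgroup.mem_smul_pointwise_iff_exists _ _ _).1 hq'
  refine ⟨(d : G), ⟨d, hd, rfl⟩, ?_⟩
  rw [← hdq]
  simp [MulAut.smul_def]

/-- Conjugating a subgroup of the centralizer of a conjugate. -/
theorem map_conj_le_centralizer {Q : Subgroup G} {g t : G}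
    (hQ : Q ≤ Subgroup.centralizer ({t * g * t⁻¹} : Set G)) :
    Q.map (MulAut.conj t⁻¹).toMonoidHom ≤ Subgroup.centralizer ({g} : Set G) := by
  rintro _ ⟨q, hq, rfl⟩
  rw [Subgroup.mem_centralizer_iff]
  intro x hx
  rw [Set.mem_singleton_iff] at hx
  subst hx
  have := Subgroup.mem_centralizer_iff.1 (hQ hq) _ (Set.mem_singleton _)
  simp only [MulEquiv.coe_toMonoidHom, MulAut.conj_apply, inv_inv]
  calc x * (t⁻¹ * q * t) = t⁻¹ * ((t * x * t⁻¹) * q) * t := by group
    _ = t⁻¹ * (q * (t * x * t⁻¹)) * t := by rw [this]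
    _ = t⁻¹ * q * t * x := by group

theorem map_conj_map_conj (Q : Subgroup G) (a b : G) :
    (Q.map (MulAut.conj a).toMonoidHom).map (MulAut.conj b).toMonoidHom
      = Q.map (MulAut.conj (b * a)).toMonoidHom := by
  rw [Subgroup.map_map]
  congr 1
  ext x
  simp [mul_assoc]

theorem map_conj_inv_map_conj (Q : Subgroup G) (a : G) :
    (Q.map (MulAut.conj a⁻¹).toMonoidHom).map (MulAut.conj a).toMonoidHom = Q := by
  rw [map_conj_map_conj, mul_inv_cancel]
  ext x
  simp

end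

end Cfsg.Agent.Lib.Helper8
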