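import Mathlib
import Cfsg.Prelude.Def_Blocks
import Cfsg.Agent.Lib.Helper8.BlockDefectOrder
import Cfsg.Agent.Lib.Helper8.SylowConj
import Cfsg.Agent.Lib.Helper8.BlockTrace

/-!
# Bounds on the defects of classes from the min-max lemma, and counting blocks
-/

set_option autoImplicit false

namespace Cfsg.Agent.Lib.Helper8

open Cfsg
open scoped ComplexConjugate
open Cfsg.Agent.Lib.Helper1 Cfsg.Agent.Lib.Helper4

universe u

section

variable {G : Type u} [Group G]

theorem card_centralizer_conj [Finite G] (g t : G) :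
    Nat.card (Subgroup.centralizer ({t * g * t⁻¹} : Set G))
      = Nat.card (Subgroup.centralizer ({g} : Set G)) := by
  have key : ∀ (g t : G), Nat.card (Subgroup.centralizer ({t * g * t⁻¹} : Set G))
      ≤ Nat.card (Subgroup.centralizer ({g} : Set G)) := by
    intro g t
    have h1 := map_conj_le_centralizer (Q := Subgroup.centralizer ({t * g * t⁻¹} : Set G))
      (g := g) (t := t) le_rfl
    have h2 := Subgroup.card_le_of_le h1
    rwa [Nat.card_congr (Subgroup.equivMapOfInjective _ _
      (MulAut.conj t⁻¹).injective).symm.toEquiv] at h2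
  apply le_antisymm (key g t)
  have := key (t * g * t⁻¹) t⁻¹
  have e : t⁻¹ * (t * g * t⁻¹) * t⁻¹⁻¹ = g := by group
  rwa [e] at this

end

section

variable {G : Type u} [Group G] [Fintype G] {M : Ideal AlgInt} {p : ℕ}

/-- The `p`-part of the order of the centralizer of a defect class is the defect. -/
theorem factorization_card_centralizer_of_isDefectClass (hM : IsPModular p M)
    {B : Set (IrrCharacter G)} (hB : IsPBlock M B) {g : G} (hg : IsDefectClass M B g) :
    (Nat.card (Subgroup.centralizer ({g} : Set G))).factorization p = blockDefect p B := by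
  have : Fact p.Prime := ⟨hM.1⟩
  obtain ⟨P⟩ : Nonempty (Sylow p (Subgroup.centralizer ({g} : Set G))) := inferInstance
  have h1 := card_sylow_centralizer_of_isDefectClass hM hB hg P
  rw [Sylow.card_eq_multiplicity] at h1
  exact Nat.pow_right_injective hM.1.two_le h1

/-- If the idempotent coefficient of a block at `x` is a unit, the defect of the class of `x` is at
most the defect of the block. -/
theorem factorization_le_of_not_memLocalIdeal_blockCoeff (hM : IsPModular p M)
    {B : Set (IrrCharacter G)} (hB : IsPBlock M B) {x : G}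
    (hx : ¬ MemLocalIdeal M (blockCoeff B x)) :
    (Nat.card (Subgroup.centralizer ({x} : Set G))).factorization p ≤ blockDefect p B := by
  classical
  have hp : Fact p.Prime := ⟨hM.1⟩
  have hMp := isPModular_isPrime hM
  obtain ⟨g, hg⟩ := exists_isDefectClass hMp hB
  have hBne : ∃ χ, χ ∈ B := by
    obtain ⟨χ₀, rfl⟩ := hB
    exact ⟨χ₀, sameBlock_refl hMp.ne_top _⟩
  obtain ⟨χ, hχ⟩ := hBne
  obtain ⟨Q⟩ : Nonempty (Sylow p (Subgroup.centralizer ({x} : Set G))) := inferInstance
  set Q₀ := (Q : Subgroup (Subgroup.centralizer ({x} : Set G))).map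
    (Subgroup.centralizer ({x} : Set G)).subtype with hQ₀
  have hQ₀p : IsPGroup p Q₀ := Q.isPGroup'.map _
  have hQ₀le : Q₀ ≤ Subgroup.centralizer ({x} : Set G) := by
    rintro _ ⟨q, _, rfl⟩
    exact q.2
  obtain ⟨y, hy, hQy⟩ := exists_isConj_le_centralizer hM hB ⟨χ, hχ, hg.2.2 χ hχ⟩ hx Q₀ hQ₀p hQ₀le
  obtain ⟨t, rfl⟩ := isConj_iff.1 hy
  have hcard : Nat.card Q₀ = p ^ (Nat.card (Subgroup.centralizer ({x} : Set G))).factorization p := by
    rw [hQ₀, Nat.card_congr (Subgroup.equivMapOfInjective _ _
      (Subgroup.subtype_injective _)).symm.toEquiv, Sylow.card_eq_multiplicity]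
  have hdvd : Nat.card Q₀ ∣ Nat.card (Subgroup.centralizer ({t * g * t⁻¹} : Set G)) :=
    Subgroup.card_dvd_of_le hQy
  rw [card_centralizer_conj, hcard] at hdvd
  have := (hM.1.pow_dvd_iff_le_factorization Nat.card_pos.ne').1 hdvd
  rwa [factorization_card_centralizer_of_isDefectClass hM hB hg] at this

/-- If the central character of a member of a block at `x` is a unit, the defect of the class of
`x` is at least the defect of the block. -/
theorem le_factorization_of_not_memLocalIdeal_centralChar (hM : IsPModular p M)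
    {B : Set (IrrCharacter G)} (hB : IsPBlock M B) {x : G}
    (hx : ∃ χ ∈ B, ¬ MemLocalIdeal M (centralChar (χ : G → ℂ) x)) :
    blockDefect p B ≤ (Nat.card (Subgroup.centralizer ({x} : Set G))).factorization p := by
  classical
  have hp : Fact p.Prime := ⟨hM.1⟩
  have hMp := isPModular_isPrime hM
  obtain ⟨g, hg⟩ := exists_isDefectClass hMp hB
  obtain ⟨P⟩ : Nonempty (Sylow p (Subgroup.centralizer ({g} : Set G))) := inferInstance
  set P₀ := (P : Subgroup (Subgroup.centralizer ({g} : Set G))).map
    (Subgroup.centralizer ({g} : Set G)).subtype with hP₀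
  have hP₀p : IsPGroup p P₀ := P.isPGroup'.map _
  have hP₀le : P₀ ≤ Subgroup.centralizer ({g} : Set G) := by
    rintro _ ⟨q, _, rfl⟩
    exact q.2
  obtain ⟨y, hy, hPy⟩ := exists_isConj_le_centralizer hM hB hx hg.2.1 P₀ hP₀p hP₀le
  obtain ⟨t, rfl⟩ := isConj_iff.1 hy
  have hcard : Nat.card P₀ = p ^ blockDefect p B := by
    rw [hP₀, Nat.card_congr (Subgroup.equivMapOfInjective _ _
      (Subgroup.subtype_injective _)).symm.toEquiv]
    exact card_sylow_centralizer_of_isDefectClass hM hB hg P
  have hdvd : Nat.card P₀ ∣ Nat.card (Subgroup.centralizer ({t * x * t⁻¹} : Set G)) :=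
    Subgroup.card_dvd_of_le hPy
  rw [card_centralizer_conj, hcard] at hdvd
  exact (hM.1.pow_dvd_iff_le_factorization Nat.card_pos.ne').1 hdvd

end

end Cfsg.Agent.Lib.Helper8
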