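import Mathlib
import Cfsg.Prelude.Def_Blocks
import Cfsg.Prelude.Def_BlockRank
import Cfsg.Agent.Lib.Helper8.BlockRank

/-!
# The `p`-regular rank of a block as a trace
-/

set_option autoImplicit false

namespace Cfsg.Agent.Lib.Helper8

open Cfsg
open scoped ComplexConjugate
open Cfsg.Agent.Lib.Helper1 Cfsg.Agent.Lib.Helper4

universe u

section

variable {G : Type u} [Group G] [Fintype G] {M : Ideal AlgInt} {p : ℕ}

/-- The inner product with a fixed function, as a linear functional. -/
noncomputable def innerL (ψ : G → ℂ) : (G → ℂ) →ₗ[ℂ] ℂ where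
  toFun θ := classInner θ ψ
  map_add' a b := classInner_add_left a b ψ
  map_smul' c a := by
    rw [classInner_smul_left]
    rfl

theorem innerL_apply (ψ θ : G → ℂ) : innerL ψ θ = classInner θ ψ := rfl

/-- Truncation to the `p`-regular elements, as a linear map. -/
noncomputable def pRegL (p : ℕ) (G : Type u) [Group G] : (G → ℂ) →ₗ[ℂ] (G → ℂ) where
  toFun θ := pRegularPart p θ
  map_add' a b := pRegularPart_add a b
  map_smul' c a := by
    rw [pRegularPart_smul]
    rfl

omit [Fintype G] in
theorem pRegL_apply (θ : G → ℂ) : pRegL p G θ = pRegularPart p θ := rfl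

open Classical in
/-- The projection onto the span of a set `B` of irreducible characters. -/
noncomputable def blockProjL [Fintype (IrrCharacter G)] (B : Set (IrrCharacter G)) :
    (G → ℂ) →ₗ[ℂ] (G → ℂ) :=
  ∑ ψ : IrrCharacter G, (if ψ ∈ B then (1 : ℂ) else 0) •
    (innerL (ψ : G → ℂ)).smulRight (ψ : G → ℂ)

open Classical in
theorem blockProjL_apply [Fintype (IrrCharacter G)] (B : Set (IrrCharacter G)) (θ : G → ℂ) :
    blockProjL B θ = ∑ ψ : IrrCharacter G,
      ((if ψ ∈ B then (1 : ℂ) else 0) * classInner θ (ψ : G → ℂ)) • (ψ : G → ℂ) := by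
  unfold blockProjL
  rw [LinearMap.sum_apply]
  refine Finset.sum_congr rfl fun ψ _ => ?_
  rw [LinearMap.smul_apply, LinearMap.smulRight_apply, innerL_apply, smul_smul]

theorem mem_block_iff_sameBlock (hM : M.IsPrime) {B : Set (IrrCharacter G)} (hB : IsPBlock M B)
    {χ : IrrCharacter G} (hχ : χ ∈ B) (ψ : IrrCharacter G) :
    ψ ∈ B ↔ SameBlock M (χ : G → ℂ) (ψ : G → ℂ) := by
  obtain ⟨χ₀, rfl⟩ := hB
  have h0 : SameBlock M (χ₀ : G → ℂ) (χ : G → ℂ) := hχ
  constructor
  · intro hψ
    exact sameBlock_trans hM (sameBlock_symm h0) hψ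
  · intro hψ
    exact sameBlock_trans hM h0 hψ

/-- The `p`-regular rank of a block, as a sum of inner products over `p`-regular elements. -/
theorem card_mul_blockRank (hM : IsPModular p M) {B : Set (IrrCharacter G)}
    (hB : IsPBlock M B) :
    (Nat.card G : ℂ) * (blockRank p B : ℂ)
      = ∑ x : G, ∑ᶠ χ ∈ B, pRegularPart p (χ : G → ℂ) x * (χ : G → ℂ) x⁻¹ := by
  classical
  have : Fintype (IrrCharacter G) := Fintype.ofFinite _
  have hMp := isPModular_isPrime hM
  have hG0 : (Nat.card G : ℂ) ≠ 0 := Nat.cast_ne_zero.2 Nat.card_pos.ne'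
  set W : Submodule ℂ (G → ℂ) :=
    Submodule.span ℂ ((fun χ : IrrCharacter G => pRegularPart p (χ : G → ℂ)) '' B) with hW
  let f : (G → ℂ) →ₗ[ℂ] (G → ℂ) := pRegL p G ∘ₗ blockProjL B
  have hf_apply : ∀ θ : G → ℂ, f θ = ∑ ψ : IrrCharacter G,
      ((if ψ ∈ B then (1 : ℂ) else 0) * classInner θ (ψ : G → ℂ)) •
        pRegularPart p (ψ : G → ℂ) := by
    intro θ
    show pRegL p G (blockProjL B θ) = _
    rw [blockProjL_apply, map_sum]
    refine Finset.sum_congr rfl fun ψ _ => ?_
    rw [map_smul, pRegL_apply]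
  have hproj : LinearMap.IsProj W f := by
    constructor
    · intro θ
      rw [hf_apply]
      apply Submodule.sum_mem
      intro ψ _
      by_cases hψ : ψ ∈ B
      · apply Submodule.smul_mem
        exact Submodule.subset_span ⟨ψ, hψ, rfl⟩
      · rw [if_neg hψ, zero_mul, zero_smul]
        exact Submodule.zero_mem _
    · intro w hw
      induction hw using Submodule.span_induction with
      | mem w hw =>
        obtain ⟨χ, hχ, rfl⟩ := hw
        show pRegL p G (blockProjL B (pRegularPart p (χ : G → ℂ))) = pRegularPart p (χ : G → ℂ)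
        have h1 : blockProjL B (pRegularPart p (χ : G → ℂ)) = pRegularPart p (χ : G → ℂ) := by
          rw [blockProjL_apply]
          conv_rhs => rw [pRegularPart_eq_sum_block hM χ]
          refine Finset.sum_congr rfl fun ψ _ => ?_
          by_cases hψ : ψ ∈ B
          · rw [if_pos hψ, one_mul, if_pos ((mem_block_iff_sameBlock hMp hB hχ ψ).1 hψ)]
          · rw [if_neg hψ, zero_mul, if_neg (fun h => hψ ((mem_block_iff_sameBlock hMp hB hχ ψ).2 h))]
        rw [h1, pRegL_apply, pRegularPart_pRegularPart]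
      | zero => exact map_zero f
      | add a b _ _ ha hb => rw [map_add, ha, hb]
      | smul c a _ ha => rw [map_smul, ha]
  have htrace := hproj.trace
  have hrank : blockRank p B = Module.finrank ℂ W := rfl
  rw [hrank, ← htrace]
  rw [LinearMap.trace_eq_matrix_trace ℂ (Pi.basisFun ℂ G) f, Matrix.trace, Finset.mul_sum]
  refine Finset.sum_congr rfl fun x _ => ?_
  rw [Matrix.diag_apply, LinearMap.toMatrix_apply, Pi.basisFun_repr, Pi.basisFun_apply, hf_apply,
    Finset.sum_apply, finsum_mem_eq_sum_indicator, Finset.mul_sum]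
  refine Finset.sum_congr rfl fun ψ _ => ?_
  rw [Pi.smul_apply, smul_eq_mul]
  have h2 : classInner (Pi.single x (1 : ℂ)) (ψ : G → ℂ)
      = (Nat.card G : ℂ)⁻¹ * conj ((ψ : G → ℂ) x) := by
    rw [classInner_def]
    congr 1
    rw [Finset.sum_eq_single x]
    · rw [Pi.single_eq_same, one_mul]
    · intro y _ hy
      rw [Pi.single_eq_of_ne hy, zero_mul]
    · intro h
      exact absurd (Finset.mem_univ _) h
  rw [h2, isCharacter_inv (isCharacter_of_irr ψ.2)]
  field_simp

end

end Cfsg.Agent.Lib.Helper8
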