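import Mathlib
import Cfsg.Prelude.Def_Blocks
import Cfsg.Agent.Lib.Helper8.BlockRank2
import Cfsg.Agent.Lib.Helper8.Deflation

/-!
# Blocks and normal `p`-subgroups: central characters vanish modulo the local ideal on classes
outside the centralizer of a normal `p`-subgroup
-/

set_option autoImplicit false

namespace Cfsg.Agent.Lib.Helper8

open Cfsg
open scoped ComplexConjugate
open Cfsg.Agent.Lib.Helper1 Cfsg.Agent.Lib.Helper4

universe u

section

variable {G : Type u} [Group G] [Fintype G] {M : Ideal AlgInt} {p : ℕ}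

/-- If the sum of an irreducible character over a normal subgroup is nonzero, the normal subgroup
lies in the kernel of the character. -/
theorem irr_const_of_sum_ne_zero (N : Subgroup G) [N.Normal] [Fintype N] {χ : G → ℂ}
    (hχ : IsIrrCharacter G χ) (h : ∑ n : N, χ n ≠ 0) : ∀ m ∈ N, χ m = χ 1 := by
  classical
  obtain ⟨k, ρ, hirr, rfl⟩ := hχ
  have := hirr
  intro m hm
  let F : G → ℂ := fun g => if g ∈ N then 1 else 0
  have hF : IsClassFunction G F := by
    intro g t
    simp only [F]
    have : t * g * t⁻¹ ∈ N ↔ g ∈ N := by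
      constructor
      · intro h1
        have := ‹N.Normal›.conj_mem _ h1 t⁻¹
        simpa [mul_assoc] using this
      · intro h1
        exact ‹N.Normal›.conj_mem _ h1 t
    by_cases hg : g ∈ N
    · rw [if_pos hg, if_pos (this.2 hg)]
    · rw [if_neg hg, if_neg (fun h' => hg (this.1 h'))]
  have hsum : ∑ g, F g * ρ.character g = ∑ n : N, ρ.character n := by
    simp only [F, ite_mul, one_mul, zero_mul]
    rw [← Finset.sum_filter]
    symm
    apply Finset.sum_bij (fun (n : N) _ => (n : G))
    · intro n _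
      simp
    · intro a _ b _ hab
      exact Subtype.ext hab
    · intro g hg
      exact ⟨⟨g, (Finset.mem_filter.1 hg).2⟩, Finset.mem_univ _, rfl⟩
    · intro n _
      rfl
  have h1 := opSum_eq_smul_id ρ F hF
  rw [hsum] at h1
  set c := (∑ n : N, ρ.character n) / (Module.finrank ℂ (Fin k → ℂ) : ℂ) with hc
  have hc0 : c ≠ 0 := by
    rw [hc]
    exact div_ne_zero h (finrank_ne_zero_of_irreducible ρ)
  -- ρ m * opSum = opSum
  have h2 : ρ m * opSum ρ F = opSum ρ F := by
    unfold opSum
    rw [Finset.mul_sum]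
    rw [← Equiv.sum_comp (Equiv.mulLeft m) (fun g => F g • ρ g)]
    refine Finset.sum_congr rfl fun g _ => ?_
    simp only [Equiv.coe_mulLeft]
    have hFm : F (m * g) = F g := by
      simp only [F]
      have : m * g ∈ N ↔ g ∈ N := by
        constructor
        · intro h3
          have := N.mul_mem (N.inv_mem hm) h3
          simpa using this
        · intro h3
          exact N.mul_mem hm h3
      by_cases hg : g ∈ N
      · rw [if_pos hg, if_pos (this.2 hg)]
      · rw [if_neg hg, if_neg (fun h' => hg (this.1 h'))]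
    rw [hFm, map_mul, mul_smul_comm]
  rw [h1] at h2
  have h3 : ρ m = LinearMap.id := by
    have h4 : c • (ρ m) = c • (LinearMap.id : (Fin k → ℂ) →ₗ[ℂ] (Fin k → ℂ)) := by
      rw [← h2, mul_smul_comm]
      congr 1
    exact smul_right_injective _ hc0 h4
  rw [Representation.char_one]
  exact (Cfsg.Agent.S0139.result ρ m).2 h3

end

section Quot

variable {G : Type u} [Group G] [Finite G] {M : Ideal AlgInt} {p : ℕ}

/-- Central characters of `G` and of a quotient `G ⧸ N` for a character with `N` in its kernel. -/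
theorem centralChar_eq_relIndex_mul (N : Subgroup G) [N.Normal] {χ : G → ℂ} {ψ : G ⧸ N → ℂ}
    (hψ : ∀ g : G, ψ (QuotientGroup.mk g) = χ g) (y : G) :
    centralChar χ y = (((Subgroup.centralizer ({y} : Set G)).relIndex
      ((Subgroup.centralizer ({(QuotientGroup.mk y : G ⧸ N)} : Set (G ⧸ N))).comap
        (QuotientGroup.mk' N)) : ℕ) : ℂ) * centralChar ψ (QuotientGroup.mk y) := by
  unfold centralChar
  have hle : Subgroup.centralizer ({y} : Set G) ≤
      (Subgroup.centralizer ({(QuotientGroup.mk y : G ⧸ N)} : Set (G ⧸ N))).comap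
        (QuotientGroup.mk' N) := by
    intro g hg
    rw [Subgroup.mem_comap, Subgroup.mem_centralizer_iff]
    intro z hz
    rw [Set.mem_singleton_iff] at hz
    subst hz
    have := Subgroup.mem_centralizer_iff.1 hg y (Set.mem_singleton y)
    show (QuotientGroup.mk y : G ⧸ N) * QuotientGroup.mk g = QuotientGroup.mk g * QuotientGroup.mk y
    rw [← QuotientGroup.mk_mul, ← QuotientGroup.mk_mul, this]
  have h1 := Subgroup.relIndex_mul_index hle
  rw [Subgroup.index_comap_of_surjective _ (QuotientGroup.mk'_surjective N)] at h1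
  rw [← h1, hψ y]
  have : ψ 1 = χ 1 := by
    have := hψ 1
    simpa using this
  rw [this]
  push_cast
  ring

theorem card_mul_relIndex_of_le {H K : Subgroup G} (h : H ≤ K) :
    Nat.card H * H.relIndex K = Nat.card K := by
  have := Subgroup.card_mul_index (H.subgroupOf K)
  rw [← this, Subgroup.relIndex]
  congr 1
  exact (Nat.card_congr (Subgroup.subgroupOfEquivOfLe h).toEquiv).symm

theorem relIndex_sup_of_normal (P H : Subgroup G) [P.Normal] :
    H.relIndex (P ⊔ H) = H.relIndex P := by
  have e1 := card_mul_relIndex_of_le (le_sup_right : H ≤ P ⊔ H)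
  have e2 := card_mul_relIndex_of_le (le_sup_left : P ≤ P ⊔ H)
  have e3 : P.relIndex (P ⊔ H) = P.relIndex H := Subgroup.relIndex_sup_left H P
  have e4 := card_mul_relIndex_of_le (inf_le_right : P ⊓ H ≤ H)
  have e5 := card_mul_relIndex_of_le (inf_le_left : P ⊓ H ≤ P)
  rw [Subgroup.inf_relIndex_right] at e4
  rw [Subgroup.inf_relIndex_left] at e5
  rw [e3] at e2
  have hposH : 0 < Nat.card H := Nat.card_pos
  have : Nat.card H * H.relIndex (P ⊔ H) = Nat.card H * H.relIndex P := by
    rw [e1, ← e2, ← e5, ← e4]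
    ring
  exact Nat.eq_of_mul_eq_mul_left hposH this

/-- If `y` does not centralize the normal `p`-subgroup `P`, then `p` divides the index of
`C_G(y)` in the preimage of the centralizer of the image of `y` in `G ⧸ P`. -/
theorem dvd_relIndex_centralizer (hp : p.Prime) (P : Subgroup G) [P.Normal] (hP : IsPGroup p P)
    {y : G} (hy : y ∉ Subgroup.centralizer (P : Set G)) :
    p ∣ (Subgroup.centralizer ({y} : Set G)).relIndex
      ((Subgroup.centralizer ({(QuotientGroup.mk y : G ⧸ P)} : Set (G ⧸ P))).comap
        (QuotientGroup.mk' P)) := by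
  have : Fact p.Prime := ⟨hp⟩
  set H := Subgroup.centralizer ({y} : Set G) with hH
  set L := (Subgroup.centralizer ({(QuotientGroup.mk y : G ⧸ P)} : Set (G ⧸ P))).comap
        (QuotientGroup.mk' P) with hL
  have hHL : H ≤ L := by
    intro g hg
    rw [hL, Subgroup.mem_comap, Subgroup.mem_centralizer_iff]
    intro z hz
    rw [Set.mem_singleton_iff] at hz
    subst hz
    have := Subgroup.mem_centralizer_iff.1 hg y (Set.mem_singleton y)
    show (QuotientGroup.mk y : G ⧸ P) * QuotientGroup.mk g = QuotientGroup.mk g * QuotientGroup.mk y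
    rw [← QuotientGroup.mk_mul, ← QuotientGroup.mk_mul, this]
  have hPL : P ≤ L := by
    intro g hg
    rw [hL, Subgroup.mem_comap]
    have : (QuotientGroup.mk' P) g = 1 := (QuotientGroup.eq_one_iff g).2 hg
    rw [this]
    exact Subgroup.one_mem _
  have hsup : P ⊔ H ≤ L := sup_le hPL hHL
  have h1 := Subgroup.relIndex_mul_relIndex H (P ⊔ H) L le_sup_right hsup
  rw [← h1]
  apply Dvd.dvd.mul_right
  rw [relIndex_sup_of_normal]
  have h2 : H.relIndex P ∣ Nat.card P := Subgroup.relIndex_dvd_card H P
  obtain ⟨n, hn⟩ := IsPGroup.iff_card.1 hP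
  rw [hn] at h2
  obtain ⟨k, _, hk⟩ := (Nat.dvd_prime_pow hp).1 h2
  rw [hk]
  have hk0 : k ≠ 0 := by
    rintro rfl
    rw [pow_zero, Subgroup.relIndex_eq_one] at hk
    apply hy
    rw [Subgroup.mem_centralizer_iff]
    intro u hu
    have hu' := Subgroup.mem_centralizer_iff.1 (hk hu) y (Set.mem_singleton y)
    exact hu'.symm
  exact dvd_pow_self p hk0

/-- (B) The central character of an irreducible character whose kernel contains the normal
`p`-subgroup `P` lies in the local ideal at every element not centralizing `P`. -/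
theorem memLocalIdeal_centralChar_of_ker (hM : IsPModular p M) (P : Subgroup G) [P.Normal]
    (hP : IsPGroup p P) {χ : G → ℂ} (hχ : IsIrrCharacter G χ) (hker : ∀ u ∈ P, χ u = χ 1)
    {y : G} (hy : y ∉ Subgroup.centralizer (P : Set G)) : MemLocalIdeal M (centralChar χ y) := by
  classical
  have : Fintype (G ⧸ P) := Fintype.ofFinite _
  have hMp := isPModular_isPrime hM
  obtain ⟨ψ, hψ, hψχ⟩ := exists_deflation P hχ hker
  rw [centralChar_eq_relIndex_mul P hψχ y]
  apply memLocalIdeal_mul_right hMp
    ((memLocalIdeal_natCast_iff hM _).2 (dvd_relIndex_centralizer hM.1 P hP hy))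
  exact memLocalRing_centralChar hMp.ne_top hψ _

end Quot

section Dominance

variable {G : Type u} [Group G] [Fintype G] {M : Ideal AlgInt} {p : ℕ}

/-- The value of a block idempotent at the identity is nonzero. -/
theorem blockCoeff_one_ne_zero {B : Set (IrrCharacter G)} (hB : B.Nonempty) :
    blockCoeff B 1 ≠ 0 := by
  classical
  have : Fintype (IrrCharacter G) := Fintype.ofFinite _
  rw [blockCoeff_eq_sum]
  apply mul_ne_zero
  · apply inv_ne_zero
    exact_mod_cast Nat.card_pos.ne'
  · obtain ⟨χ₀, hχ₀⟩ := hB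
    have h1 : ∀ ψ : IrrCharacter G, (if ψ ∈ B then (1 : ℂ) else 0) * (ψ : G → ℂ) 1 *
        conj ((ψ : G → ℂ) 1) = (((if ψ ∈ B then 1 else 0) * charDegree (ψ : G → ℂ) ^ 2 : ℕ) : ℂ) := by
      intro ψ
      rw [(irr_apply_one_eq_charDegree ψ.2).1]
      split_ifs
      · simp [pow_two]
      · simp
    rw [Finset.sum_congr rfl fun ψ _ => h1 ψ, ← Nat.cast_sum]
    norm_cast
    apply ne_of_gt
    apply Finset.sum_pos'
    · intro ψ _
      exact Nat.zero_le _
    · refine ⟨χ₀, Finset.mem_univ _, ?_⟩
      rw [if_pos hχ₀, one_mul]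
      exact pow_pos (irr_apply_one_eq_charDegree χ₀.2).2 2

/-- (C) Every block contains an irreducible character whose kernel contains a given normal
`p`-subgroup. -/
theorem exists_mem_block_ker (hM : IsPModular p M) (P : Subgroup G) [P.Normal]
    (hP : IsPGroup p P) {B : Set (IrrCharacter G)} (hB : IsPBlock M B) :
    ∃ χ ∈ B, ∀ u ∈ P, (χ : G → ℂ) u = (χ : G → ℂ) 1 := by
  classical
  have : Fintype (IrrCharacter G) := Fintype.ofFinite _
  have hMp := isPModular_isPrime hM
  have hBne : B.Nonempty := by
    obtain ⟨χ₀, rfl⟩ := hB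
    exact ⟨χ₀, sameBlock_refl hMp.ne_top _⟩
  by_contra hcon
  push Not at hcon
  have hzero : ∀ χ ∈ B, ∑ n : P, (χ : G → ℂ) n = 0 := by
    intro χ hχ
    by_contra hne
    obtain ⟨u, hu, hne'⟩ := hcon χ hχ
    exact hne' (irr_const_of_sum_ne_zero P χ.2 hne u hu)
  -- sum of the idempotent coefficients over `P`
  have h1 : ∑ n : P, blockCoeff B (n : G) = blockCoeff B 1 := by
    rw [← Finset.add_sum_erase _ _ (Finset.mem_univ (1 : P))]
    rw [Finset.sum_eq_zero, add_zero]
    · rfl
    · intro n hn
      have hn1 : n ≠ 1 := (Finset.mem_erase.1 hn).1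
      apply blockCoeff_eq_zero_of_dvd_orderOf hM hB
      have hn1' : (n : G) ≠ 1 := fun h => hn1 (Subtype.ext h)
      have : Fact p.Prime := ⟨hM.1⟩
      have := hP.dvd_orderOf hn1
      rwa [Subgroup.orderOf_coe]
  have h2 : ∑ n : P, blockCoeff B (n : G) = 0 := by
    simp_rw [blockCoeff_eq_sum]
    rw [← Finset.mul_sum, Finset.sum_comm]
    apply mul_eq_zero_of_right
    apply Finset.sum_eq_zero
    intro ψ _
    by_cases hψ : ψ ∈ B
    · rw [← Finset.mul_sum, ← map_sum, hzero ψ hψ, map_zero, mul_zero]
    · apply Finset.sum_eq_zero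
      intro n _
      rw [if_neg hψ]
      ring
  rw [h1] at h2
  exact blockCoeff_one_ne_zero hBne h2

/-- (**) The central character of any irreducible character lies in the local ideal at every
element not centralizing a normal `p`-subgroup. -/
theorem memLocalIdeal_centralChar_of_not_mem_centralizer (hM : IsPModular p M) (P : Subgroup G)
    [P.Normal] (hP : IsPGroup p P) (ψ : IrrCharacter G) {y : G}
    (hy : y ∉ Subgroup.centralizer (P : Set G)) :
    MemLocalIdeal M (centralChar (ψ : G → ℂ) y) := by
  have hMp := isPModular_isPrime hM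
  obtain ⟨χ, hχ, hker⟩ := exists_mem_block_ker hM P hP (⟨ψ, rfl⟩ : IsPBlock M (blockOf M (ψ : G → ℂ)))
  have h1 : MemLocalIdeal M (centralChar (ψ : G → ℂ) y - centralChar (χ : G → ℂ) y) := hχ y
  have h2 := memLocalIdeal_centralChar_of_ker hM P hP χ.2 hker hy
  have := memLocalIdeal_add hMp h1 h2
  rwa [sub_add_cancel] at this

end Dominance



end Cfsg.Agent.Lib.Helper8
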