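import Mathlib
import Cfsg.Prelude.Def_Blocks
import Cfsg.Agent.Lib.Helper8.BlockNormalP
import Cfsg.Agent.Lib.Helper8.BlockRefine

/-!
# Block idempotents are supported on the centralizer of a normal `p`-subgroup
-/

set_option autoImplicit false

namespace Cfsg.Agent.Lib.Helper8

open Cfsg
open scoped ComplexConjugate
open Cfsg.Agent.Lib.Helper1 Cfsg.Agent.Lib.Helper4

universe u

section

variable {G : Type u} [Group G] [Fintype G] {M : Ideal AlgInt} {p : ℕ}

/-- The ring of central-character functions of the class functions with values in the local ring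
that are supported on the subgroup `C`. -/
def omegaRingOn (M : Ideal AlgInt) (hM : M.IsPrime) (C : Subgroup G) :
    Subring (IrrCharacter G → ℂ) where
  carrier := {Ω | ∃ F : G → ℂ, IsClassFunction G F ∧ (∀ g, MemLocalRing M (F g)) ∧
    (∀ g, g ∉ C → F g = 0) ∧ ∀ ψ : IrrCharacter G, omega (ψ : G → ℂ) F = Ω ψ}
  mul_mem' := by
    rintro a b ⟨F, hF, hFS, hFC, hFa⟩ ⟨H, hH, hHS, hHC, hHb⟩
    refine ⟨conv F H, isClassFunction_conv hF hH, memLocalRing_conv hM hFS hHS, ?_, fun ψ => ?_⟩
    · intro g hg
      rw [conv_apply]
      apply Finset.sum_eq_zero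
      intro y _
      by_cases hy : y ∈ C
      · have : y⁻¹ * g ∉ C := by
          intro h
          apply hg
          have := C.mul_mem hy h
          simpa using this
        rw [hHC _ this, mul_zero]
      · rw [hFC _ hy, zero_mul]
    · rw [omega_conv ψ.2 hH, hFa, hHb]
      rfl
  one_mem' := by
    classical
    refine ⟨deltaOne, isClassFunction_deltaOne, fun g => ?_, ?_, fun ψ => ?_⟩
    · unfold deltaOne
      split_ifs
      · exact memLocalRing_one hM.ne_top
      · exact memLocalRing_zero hM.ne_top
    · intro g hg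
      unfold deltaOne
      rw [if_neg]
      rintro rfl
      exact hg C.one_mem
    · rw [omega_deltaOne (irr_apply_one_ne_zero ψ.2)]
      rfl
  add_mem' := by
    rintro a b ⟨F, hF, hFS, hFC, hFa⟩ ⟨H, hH, hHS, hHC, hHb⟩
    refine ⟨F + H, isClassFunction_add' hF hH, fun g => memLocalRing_add hM (hFS g) (hHS g),
      ?_, fun ψ => ?_⟩
    · intro g hg
      simp only [Pi.add_apply]
      rw [hFC g hg, hHC g hg, add_zero]
    · rw [omega_add, hFa, hHb]
      rfl
  zero_mem' := by
    refine ⟨0, isClassFunction_zero', fun g => memLocalRing_zero hM.ne_top, fun _ _ => rfl,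
      fun ψ => ?_⟩
    rw [omega_zero]
    rfl
  neg_mem' := by
    rintro a ⟨F, hF, hFS, hFC, hFa⟩
    refine ⟨-F, isClassFunction_neg' hF, fun g => memLocalRing_neg (hFS g), ?_, fun ψ => ?_⟩
    · intro g hg
      simp only [Pi.neg_apply]
      rw [hFC g hg, neg_zero]
    · rw [omega_neg, hFa]
      rfl

theorem const_mem_omegaRingOn (hM : M.IsPrime) (C : Subgroup G) {c : ℂ}
    (hc : MemLocalRing M c) : (fun _ : IrrCharacter G => c) ∈ omegaRingOn M hM C := by
  classical
  refine ⟨c • deltaOne, isClassFunction_smul c isClassFunction_deltaOne, fun g => ?_, ?_,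
    fun ψ => ?_⟩
  · simp only [Pi.smul_apply, smul_eq_mul]
    unfold deltaOne
    split_ifs
    · simpa using hc
    · simpa using memLocalRing_zero hM.ne_top
  · intro g hg
    simp only [Pi.smul_apply, smul_eq_mul]
    unfold deltaOne
    rw [if_neg, mul_zero]
    rintro rfl
    exact hg C.one_mem
  · rw [omega_smul, omega_deltaOne (irr_apply_one_ne_zero ψ.2), mul_one]

theorem apply_memLocalRing_of_mem_omegaRingOn (hM : M.IsPrime) (C : Subgroup G)
    {Ω : IrrCharacter G → ℂ} (hΩ : Ω ∈ omegaRingOn M hM C) (ψ : IrrCharacter G) :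
    MemLocalRing M (Ω ψ) := by
  obtain ⟨F, hF, hFS, _, hFΩ⟩ := hΩ
  rw [← hFΩ]
  exact memLocalRing_omega hM ψ.2 hF hFS

/-- If a class function with values in the local ring is congruent to zero at all elements
where the central characters are not all in the local ideal ... : the central character of a
class function is congruent to that of its truncation to a set `C` closed under conjugation
provided all central characters lie in the local ideal off `C`. -/
theorem memLocalIdeal_omega_truncate (hM : M.IsPrime) (ψ : IrrCharacter G) {F : G → ℂ}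
    (hF : IsClassFunction G F) (hFS : ∀ g, MemLocalRing M (F g)) (C : Set G)
    (hC : ∀ g t : G, g ∈ C → t * g * t⁻¹ ∈ C)
    (hJ : ∀ y, y ∉ C → MemLocalIdeal M (centralChar (ψ : G → ℂ) y)) :
    MemLocalIdeal M (omega (ψ : G → ℂ) F -
      omega (ψ : G → ℂ) (fun g => by classical exact if g ∈ C then F g else 0)) := by
  classical
  have : Fintype (ConjClasses G) := Fintype.ofFinite _
  have hF' : IsClassFunction G (fun g => if g ∈ C then F g else 0) := by
    intro g t
    simp only
    have hiff : t * g * t⁻¹ ∈ C ↔ g ∈ C := by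
      constructor
      · intro h
        have := hC _ t⁻¹ h
        simpa [mul_assoc] using this
      · intro h
        exact hC g t h
    by_cases hg : g ∈ C
    · rw [if_pos hg, if_pos (hiff.2 hg), hF g t]
    · rw [if_neg hg, if_neg (fun h => hg (hiff.1 h))]
  rw [omega_eq_sum_classes ψ.2 hF, omega_eq_sum_classes ψ.2 hF', ← Finset.sum_sub_distrib]
  apply memLocalIdeal_sum hM
  intro c _
  by_cases hc : Quotient.out c ∈ C
  · simp only [if_pos hc, sub_self]
    exact memLocalIdeal_zero hM.ne_top
  · simp only [if_neg hc, zero_mul, sub_zero]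
    exact memLocalIdeal_mul_left hM (hFS _) (hJ _ hc)

/-- **The idempotent of a block vanishes outside the centralizer of a normal `p`-subgroup.** -/
theorem blockCoeff_eq_zero_of_not_mem_centralizer (hM : IsPModular p M) (P : Subgroup G)
    [P.Normal] (hP : IsPGroup p P) {B : Set (IrrCharacter G)} (hB : IsPBlock M B) {g : G}
    (hg : g ∉ Subgroup.centralizer (P : Set G)) : blockCoeff B g = 0 := by
  classical
  have : Fintype (IrrCharacter G) := Fintype.ofFinite _
  have hMp := isPModular_isPrime hM
  set C : Subgroup G := Subgroup.centralizer (P : Set G) with hCdef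
  have hCn : C.Normal := Subgroup.normal_centralizer
  obtain ⟨hcf, hS, hω⟩ := blockCoeff_spec hMp hB
  let c : G → ℂ := fun g => if g ∈ (C : Set G) then blockCoeff B g else 0
  have hcconj : ∀ g t : G, g ∈ (C : Set G) → t * g * t⁻¹ ∈ (C : Set G) :=
    fun g t h => hCn.conj_mem g h t
  have hccf : IsClassFunction G c := by
    intro g t
    simp only [c]
    have hiff : t * g * t⁻¹ ∈ (C : Set G) ↔ g ∈ (C : Set G) := by
      constructor
      · intro h
        have := hcconj _ t⁻¹ h
        simpa [mul_assoc] using this
      · intro h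
        exact hcconj g t h
    by_cases hg : g ∈ (C : Set G)
    · rw [if_pos hg, if_pos (hiff.2 hg), hcf g t]
    · rw [if_neg hg, if_neg (fun h => hg (hiff.1 h))]
  have hcS : ∀ g, MemLocalRing M (c g) := by
    intro g
    simp only [c]
    split_ifs
    · exact hS g
    · exact memLocalRing_zero hMp.ne_top
  let U : IrrCharacter G → ℂ := fun ψ => omega (ψ : G → ℂ) c
  have hU : U ∈ omegaRingOn M hMp C := by
    refine ⟨c, hccf, hcS, ?_, fun ψ => rfl⟩
    intro g hg
    simp only [c]
    rw [if_neg]
    exact hg
  have hcong : ∀ ψ : IrrCharacter G,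
      MemLocalIdeal M ((if ψ ∈ B then (1 : ℂ) else 0) - U ψ) := by
    intro ψ
    have := memLocalIdeal_omega_truncate hMp ψ hcf hS (C : Set G) hcconj
      (fun y hy => memLocalIdeal_centralChar_of_not_mem_centralizer hM P hP ψ hy)
    rw [hω ψ] at this
    exact this
  have hind := indicator_mem_of_congr hMp (omegaRingOn M hMp C)
    (fun c hc => const_mem_omegaRingOn hMp C hc)
    (fun r hr i => apply_memLocalRing_of_mem_omegaRingOn hMp C hr i) B U hU
    (by
      intro ψ hψ
      have := memLocalIdeal_neg (hcong ψ)
      rwa [if_neg hψ, zero_sub, neg_neg] at this)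
    (by
      intro ψ hψ
      have := memLocalIdeal_neg (hcong ψ)
      rwa [if_pos hψ, neg_sub] at this)
  obtain ⟨F, hF, _, hFC, hFω⟩ := hind
  have hEq : F = blockCoeff B := by
    apply eq_blockCoeff_of_omega B hF
    intro ψ
    rw [hFω ψ]
  rw [← hEq]
  exact hFC g hg

end

end Cfsg.Agent.Lib.Helper8
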