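import Mathlib
import Cfsg.Prelude.Def_Blocks
import Cfsg.Agent.Lib.Helper8.BlockBrauer
import Cfsg.Agent.Lib.Helper8.BlockNormalP2

/-!
# Induced blocks from subgroups between `C_G(P)` and `N_G(P)`
-/

set_option autoImplicit false

namespace Cfsg.Agent.Lib.Helper8

open Cfsg
open scoped ComplexConjugate
open Cfsg.Agent.Lib.Helper1 Cfsg.Agent.Lib.Helper4

universe u

section

variable {G : Type u} [Group G] [Fintype G] {M : Ideal AlgInt} {p : ℕ}

/-- Central characters of pointwise congruent class functions are congruent. -/
theorem omega_cong (hM : M.IsPrime) {χ : G → ℂ} (hχ : IsIrrCharacter G χ) {F F' : G → ℂ}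
    (hF : IsClassFunction G F) (hF' : IsClassFunction G F')
    (h : ∀ g, MemLocalIdeal M (F g - F' g)) : MemLocalIdeal M (omega χ F - omega χ F') := by
  classical
  have : Fintype (ConjClasses G) := Fintype.ofFinite _
  rw [omega_eq_sum_classes hχ hF, omega_eq_sum_classes hχ hF', ← Finset.sum_sub_distrib]
  apply memLocalIdeal_sum hM
  intro c _
  rw [← sub_mul]
  exact memLocalIdeal_mul_right hM (h _) (memLocalRing_centralChar hM.ne_top hχ _)

/-- Restriction to a subgroup commutes with convolution when the first factor is supported on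
the subgroup. -/
theorem conv_restrict (H : Subgroup G) [Fintype H] {A B : G → ℂ} (hA : ∀ g, g ∉ H → A g = 0)
    (h : H) : conv A B (h : G) = conv (fun k : H => A k) (fun k : H => B k) h := by
  classical
  rw [conv_apply, conv_apply]
  have h1 : ∑ y : G, A y * B (y⁻¹ * (h : G)) =
      ∑ y ∈ Finset.univ.filter (fun y : G => y ∈ H), A y * B (y⁻¹ * (h : G)) := by
    rw [Finset.sum_filter]
    refine Finset.sum_congr rfl fun y _ => ?_
    by_cases hy : y ∈ H
    · rw [if_pos hy]
    · rw [if_neg hy, hA y hy, zero_mul]
  rw [h1]
  rw [Finset.sum_subtype (Finset.univ.filter (fun y : G => y ∈ H)) (p := fun y => y ∈ H)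
    (fun x => by simp)]
  refine Finset.sum_congr rfl fun y _ => ?_
  simp

/-- The linear functional `F ↦ ω_ξ(Br_P(F))` attached to a function `ξ` on a subgroup `H`. -/
noncomputable def brauerLam (P H : Subgroup G) [Fintype H] (ξ : H → ℂ) : (G → ℂ) →ₗ[ℂ] ℂ where
  toFun F := omega ξ (fun h : H => truncTo (Subgroup.centralizer (P : Set G) : Set G) F h)
  map_add' := by
    classical
    intro F F'
    rw [← omega_add]
    congr 1
    funext h
    simp only [Pi.add_apply, truncTo_apply]
    split_ifs <;> simp
  map_smul' := by
    classical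
    intro c F
    simp only [RingHom.id_apply, smul_eq_mul]
    rw [← omega_smul]
    congr 1
    funext h
    simp only [Pi.smul_apply, truncTo_apply, smul_eq_mul]
    split_ifs <;> simp

theorem brauerLam_apply (P H : Subgroup G) [Fintype H] (ξ : H → ℂ) (F : G → ℂ) :
    brauerLam P H ξ F =
      omega ξ (fun h : H => truncTo (Subgroup.centralizer (P : Set G) : Set G) F h) := rfl

/-- The centralizer of `P` is stable under conjugation by elements of the normalizer. -/
theorem conj_mem_centralizer_of_mem_normalizer (P : Subgroup G) {t g : G}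
    (ht : t ∈ Subgroup.normalizer (P : Set G)) (hg : g ∈ Subgroup.centralizer (P : Set G)) :
    t * g * t⁻¹ ∈ Subgroup.centralizer (P : Set G) := by
  rw [Subgroup.mem_centralizer_iff] at hg ⊢
  intro u hu
  have hu' : t⁻¹ * u * t ∈ P := by
    have := (Subgroup.mem_normalizer_iff.1 (Subgroup.inv_mem _ ht) u).1 hu
    simpa using this
  have := hg _ hu'
  calc u * (t * g * t⁻¹) = t * ((t⁻¹ * u * t) * g) * t⁻¹ := by group
    _ = t * (g * (t⁻¹ * u * t)) * t⁻¹ := by rw [this]
    _ = t * g * t⁻¹ * u := by group

/-- The restriction to `H ≤ N_G(P)` of the truncation to `C_G(P)` of a class function is a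
class function. -/
theorem isClassFunction_restrict_truncTo (P H : Subgroup G)
    (hHN : H ≤ Subgroup.normalizer (P : Set G)) {F : G → ℂ} (hF : IsClassFunction G F) :
    IsClassFunction H (fun h : H => truncTo (Subgroup.centralizer (P : Set G) : Set G) F h) := by
  classical
  intro g t
  simp only
  have hiff : ((t * g * t⁻¹ : H) : G) ∈ (Subgroup.centralizer (P : Set G) : Set G) ↔
      (g : G) ∈ (Subgroup.centralizer (P : Set G) : Set G) := by
    constructor
    · intro h
      have := conj_mem_centralizer_of_mem_normalizer P
        (Subgroup.inv_mem _ (hHN t.2)) h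
      simpa [mul_assoc] using this
    · intro h
      exact conj_mem_centralizer_of_mem_normalizer P (hHN t.2) h
  by_cases hg : (g : G) ∈ (Subgroup.centralizer (P : Set G) : Set G)
  · rw [truncTo_of_mem _ hg, truncTo_of_mem _ (hiff.2 hg)]
    exact hF g t
  · rw [truncTo_of_not_mem _ hg, truncTo_of_not_mem _ (fun h => hg (hiff.1 h))]

/-- **Existence of the Brauer correspondent**: for a `p`-subgroup `P`, a subgroup `H` with
`C_G(P) ≤ H ≤ N_G(P)` and an irreducible character `ξ` of `H` there is an irreducible character
of `G` whose central character is congruent to `F ↦ ω_ξ(Br_P F)`. -/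
theorem exists_irr_brauerLam (hM : IsPModular p M) (P H : Subgroup G) [Fintype H]
    (hP : IsPGroup p P) (hCH : Subgroup.centralizer (P : Set G) ≤ H)
    (hHN : H ≤ Subgroup.normalizer (P : Set G)) {ξ : H → ℂ} (hξ : IsIrrCharacter H ξ) :
    ∃ χ : IrrCharacter G, ∀ F : G → ℂ, IsClassFunction G F → (∀ g, MemLocalRing M (F g)) →
      MemLocalIdeal M (brauerLam P H ξ F - omega (χ : G → ℂ) F) := by
  classical
  have hMp := isPModular_isPrime hM
  set C : Set G := (Subgroup.centralizer (P : Set G) : Set G) with hCdef
  have hCconj : ∀ g t : G, g ∈ C → t * g * t⁻¹ ∈ C → True := fun _ _ _ _ => trivial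
  apply exists_irr_of_multiplicative hMp (brauerLam P H ξ)
  · intro F hF hFS
    rw [brauerLam_apply]
    exact memLocalRing_omega hMp hξ (isClassFunction_restrict_truncTo P H hHN hF)
      (fun h => memLocalRing_truncTo hMp.ne_top _ hFS _)
  · intro F F' hF hFS hF' hFS'
    rw [brauerLam_apply, brauerLam_apply, brauerLam_apply]
    have hsupp : ∀ g, g ∉ H → truncTo C F g = 0 := by
      intro g hg
      apply truncTo_of_not_mem
      intro h
      exact hg (hCH h)
    have h1 : (fun h : H => conv (truncTo C F) (truncTo C F') (h : G)) =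
        conv (fun k : H => truncTo C F k) (fun k : H => truncTo C F' k) := by
      funext h
      exact conv_restrict H hsupp h
    have hcf2 : IsClassFunction H (fun k : H => truncTo C F' k) :=
      isClassFunction_restrict_truncTo P H hHN hF'
    have hcf1 : IsClassFunction H (fun k : H => truncTo C F k) :=
      isClassFunction_restrict_truncTo P H hHN hF
    rw [← omega_conv hξ hcf2, ← h1]
    apply omega_cong hMp hξ
    · exact isClassFunction_restrict_truncTo P H hHN (isClassFunction_conv hF hF')
    · rw [h1]
      exact isClassFunction_conv hcf1 hcf2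
    · intro h
      exact brauer_conv hM P hP hF hF' hFS hFS' (h : G)
  · rw [brauerLam_apply]
    have : (fun h : H => truncTo C (deltaOne : G → ℂ) h) = (deltaOne : H → ℂ) := by
      funext h
      unfold deltaOne
      by_cases hh : h = 1
      · rw [if_pos hh, truncTo_of_mem]
        · rw [if_pos]
          rw [hh]; rfl
        · rw [hh]
          exact Subgroup.one_mem _
      · rw [if_neg hh]
        by_cases hc : (h : G) ∈ C
        · rw [truncTo_of_mem _ hc, if_neg]
          intro h1
          exact hh (Subtype.ext h1)
        · rw [truncTo_of_not_mem _ hc]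
    rw [this, omega_deltaOne (irr_apply_one_ne_zero hξ), sub_self]
    exact memLocalIdeal_zero hMp.ne_top

end

end Cfsg.Agent.Lib.Helper8
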