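import Mathlib
import Cfsg.Prelude.Def_Blocks
import Cfsg.Agent.Lib.Helper8.BlockBrauer2

/-!
# Induced blocks: the induced central character and the Brauer central character as central
characters of restricted class functions
-/

set_option autoImplicit false

namespace Cfsg.Agent.Lib.Helper8

open Cfsg
open scoped ComplexConjugate
open Cfsg.Agent.Lib.Helper1 Cfsg.Agent.Lib.Helper4

universe u

section

variable {G : Type u} [Group G] [Fintype G] {M : Ideal AlgInt} {p : ℕ}

/-- The induced central character is the central character of the restricted class indicator. -/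
theorem inducedCentralChar_eq_omega (H : Subgroup G) [Fintype H] (ξ : H → ℂ) (g : G) :
    inducedCentralChar H ξ g = omega ξ (fun h : H => classIndicator g (h : G)) := by
  classical
  unfold inducedCentralChar omega
  rw [finsum_mem_eq_finite_toFinset_sum _ (Set.toFinite _), Finset.sum_div]
  rw [← Finset.sum_subset (Finset.subset_univ _)]
  · refine Finset.sum_congr rfl fun h hh => ?_
    rw [Set.Finite.mem_toFinset] at hh
    have : IsConj g (h : G) := hh
    unfold classIndicator
    beta_reduce
    rw [if_pos this, one_mul]
  · intro h _ hh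
    rw [Set.Finite.mem_toFinset] at hh
    have : ¬ IsConj g (h : G) := hh
    unfold classIndicator
    beta_reduce
    rw [if_neg this, zero_mul, zero_div]

/-- The Brauer central character is the functional `brauerLam` at the class indicator. -/
theorem brauerCentralChar_eq_brauerLam (P H : Subgroup G) [Fintype H] (ξ : H → ℂ) (g : G) :
    brauerCentralChar P H ξ g = brauerLam P H ξ (classIndicator g) := by
  classical
  rw [brauerLam_apply]
  unfold brauerCentralChar omega
  rw [finsum_mem_eq_finite_toFinset_sum _ (Set.toFinite _), Finset.sum_div]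
  rw [← Finset.sum_subset (Finset.subset_univ _)]
  · refine Finset.sum_congr rfl fun h hh => ?_
    rw [Set.Finite.mem_toFinset] at hh
    have h1 : IsConj g (h : G) := hh.1
    have h2 : (h : G) ∈ (Subgroup.centralizer (P : Set G) : Set G) := hh.2
    beta_reduce
    rw [truncTo_of_mem _ h2]
    unfold classIndicator
    rw [if_pos h1, one_mul]
  · intro h _ hh
    rw [Set.Finite.mem_toFinset] at hh
    have hh' : ¬ (IsConj g (h : G) ∧ (h : G) ∈ Subgroup.centralizer (P : Set G)) := hh
    beta_reduce
    by_cases h2 : (h : G) ∈ (Subgroup.centralizer (P : Set G) : Set G)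
    · rw [truncTo_of_mem _ h2]
      have : ¬ IsConj g (h : G) := fun h1 => hh' ⟨h1, h2⟩
      unfold classIndicator
      rw [if_neg this, zero_mul, zero_div]
    · rw [truncTo_of_not_mem _ h2, zero_mul, zero_div]

theorem isClassFunction_restrict (H : Subgroup G) {F : G → ℂ} (hF : IsClassFunction G F) :
    IsClassFunction H (fun h : H => F (h : G)) := by
  intro g t
  exact hF g t

theorem memLocalRing_classIndicator (hM : M ≠ ⊤) (g x : G) :
    MemLocalRing M (classIndicator g x) := by
  classical
  unfold classIndicator
  split_ifs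
  · exact memLocalRing_one hM
  · exact memLocalRing_zero hM

/-- For `P ≤ H ≤ N_G(P)` the induced central character and the Brauer central character of an
irreducible character of `H` are congruent. -/
theorem memLocalIdeal_induced_sub_brauer (hM : IsPModular p M) (P H : Subgroup G) [Fintype H]
    (hP : IsPGroup p P) (hPH : P ≤ H) (hHN : H ≤ Subgroup.normalizer (P : Set G))
    (ξ : IrrCharacter H) (g : G) :
    MemLocalIdeal M (inducedCentralChar H (ξ : H → ℂ) g - brauerCentralChar P H (ξ : H → ℂ) g) := by
  classical
  have hMp := isPModular_isPrime hM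
  rw [inducedCentralChar_eq_omega, brauerCentralChar_eq_brauerLam, brauerLam_apply]
  have hPn : (P.subgroupOf H).Normal := (Subgroup.normal_subgroupOf_iff_le_normalizer hPH).2 hHN
  have hPp : IsPGroup p (P.subgroupOf H) := hP.comap_subtype
  set C : Set H := {h : H | (h : G) ∈ Subgroup.centralizer (P : Set G)} with hC
  have hCconj : ∀ g t : H, g ∈ C → t * g * t⁻¹ ∈ C := by
    intro g t hg
    exact conj_mem_centralizer_of_mem_normalizer P (hHN t.2) hg
  have hJ : ∀ y : H, y ∉ C → MemLocalIdeal M (centralChar (ξ : H → ℂ) y) := by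
    intro y hy
    apply memLocalIdeal_centralChar_of_not_mem_centralizer hM (P.subgroupOf H) hPp ξ
    intro hy'
    apply hy
    show (y : G) ∈ Subgroup.centralizer (P : Set G)
    rw [Subgroup.mem_centralizer_iff]
    intro u hu
    have := Subgroup.mem_centralizer_iff.1 hy' ⟨u, hPH hu⟩ (Subgroup.mem_subgroupOf.2 hu)
    exact congrArg Subtype.val this
  have key := memLocalIdeal_omega_truncate hMp ξ
    (isClassFunction_restrict H (classIndicator_isClassFunction g))
    (fun h => memLocalRing_classIndicator hMp.ne_top g (h : G)) C hCconj hJ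
  convert key using 3
  funext h
  by_cases hh : h ∈ C
  · rw [if_pos hh, truncTo_of_mem _ (show (h : G) ∈ _ from hh)]
  · rw [if_neg hh, truncTo_of_not_mem _ (show (h : G) ∉ _ from hh)]

/-- **Induced blocks are defined** for subgroups `H` with `P C_G(P) ≤ H ≤ N_G(P)`. -/
theorem inducedBlockDefined_of_le (hM : IsPModular p M) (P H : Subgroup G)
    (hP : IsPGroup p P) (hPH : P ≤ H) (hCH : Subgroup.centralizer (P : Set G) ≤ H)
    (hHN : H ≤ Subgroup.normalizer (P : Set G)) {b : Set (IrrCharacter H)} (hb : IsPBlock M b) :
    InducedBlockDefined M H b := by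
  classical
  have : Fintype H := Fintype.ofFinite _
  have hMp := isPModular_isPrime hM
  obtain ⟨ξ₀, rfl⟩ := hb
  obtain ⟨χ, hχ⟩ := exists_irr_brauerLam hM P H hP hCH hHN ξ₀.2
  refine ⟨blockOf M (χ : G → ℂ), ⟨ξ₀, rfl⟩, ⟨χ, rfl⟩, ?_⟩
  intro ξ hξ χ' hχ' g
  -- induced ξ ≡ induced ξ₀
  have h1 : MemLocalIdeal M (inducedCentralChar H (ξ : H → ℂ) g -
      inducedCentralChar H (ξ₀ : H → ℂ) g) := by
    rw [inducedCentralChar_eq_omega, inducedCentralChar_eq_omega]
    exact cong_symm (memLocalIdeal_omega_sub hMp ξ₀.2 ξ.2 hξ
      (isClassFunction_restrict H (classIndicator_isClassFunction g))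
      (fun h => memLocalRing_classIndicator hMp.ne_top g (h : G)))
  have h2 := memLocalIdeal_induced_sub_brauer hM P H hP hPH hHN ξ₀ g
  have h3 : MemLocalIdeal M (brauerCentralChar P H (ξ₀ : H → ℂ) g - centralChar (χ : G → ℂ) g) := by
    rw [brauerCentralChar_eq_brauerLam, ← omega_classIndicator (isClassFunction_irr χ.2)]
    exact hχ _ (classIndicator_isClassFunction g) (memLocalRing_classIndicator hMp.ne_top g)
  have h4 : MemLocalIdeal M (centralChar (χ : G → ℂ) g - centralChar (χ' : G → ℂ) g) := hχ' g
  exact cong_trans hMp (cong_trans hMp (cong_trans hMp h1 h2) h3) h4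

end

end Cfsg.Agent.Lib.Helper8
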