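import Mathlib
import Cfsg.Prelude.Def_Blocks
import Cfsg.Agent.Lib.Helper8.BlockInduced
import Cfsg.Agent.Lib.Helper8.BlockIdem2
import Cfsg.Agent.Lib.Helper8.BlockOrth
import Cfsg.Agent.Lib.Helper8.BlockMinMax

/-!
# Existence of Brauer correspondents

For a `p`-subgroup `P` and `C_G(P) ≤ H ≤ N_G(P)`, a block `B` of `G` whose idempotent does not
vanish modulo the local ideal on `C_G(P)` is induced from a block of `H`.
-/

set_option autoImplicit false

namespace Cfsg.Agent.Lib.Helper8

open Cfsg
open scoped ComplexConjugate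
open Cfsg.Agent.Lib.Helper1 Cfsg.Agent.Lib.Helper4

universe u

section

variable {G : Type u} [Group G] [Fintype G] {M : Ideal AlgInt} {p : ℕ}

/-- If the functional `brauerLam P H ξ₀` is congruent to the central character of `χ`, then the
block of `ξ₀` induces the block of `χ`. -/
theorem isInducedBlock_of_brauerLam (hM : IsPModular p M) (P H : Subgroup G) [Fintype H]
    (hP : IsPGroup p P) (hPH : P ≤ H)
    (hHN : H ≤ Subgroup.normalizer (P : Set G)) (ξ₀ : IrrCharacter H) (χ : IrrCharacter G)
    (hχ : ∀ F : G → ℂ, IsClassFunction G F → (∀ g, MemLocalRing M (F g)) →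
      MemLocalIdeal M (brauerLam P H (ξ₀ : H → ℂ) F - omega (χ : G → ℂ) F)) :
    IsInducedBlock M H (blockOf M (ξ₀ : H → ℂ)) (blockOf M (χ : G → ℂ)) := by
  classical
  have hMp := isPModular_isPrime hM
  refine ⟨⟨ξ₀, rfl⟩, ⟨χ, rfl⟩, ?_⟩
  intro ξ hξ χ' hχ' g
  have h1 : MemLocalIdeal M (inducedCentralChar H (ξ : H → ℂ) g -
      inducedCentralChar H (ξ₀ : H → ℂ) g) := by
    rw [inducedCentralChar_eq_omega, inducedCentralChar_eq_omega]
    exact cong_symm (memLocalIdeal_omega_sub hMp ξ₀.2 ξ.2 hξ
      (isClassFunction_restrict H (classIndicator_isClassFunction g))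
      (fun h => memLocalRing_classIndicator hMp.ne_top g (h : G)))
  have h2 := memLocalIdeal_induced_sub_brauer hM P H hP hPH hHN ξ₀ g
  have h3 : MemLocalIdeal M (brauerCentralChar P H (ξ₀ : H → ℂ) g - centralChar (χ : G → ℂ) g) := by
    rw [brauerCentralChar_eq_brauerLam, ← omega_classIndicator (isClassFunction_irr χ.2)]
    exact hχ _ (classIndicator_isClassFunction g) (memLocalRing_classIndicator hMp.ne_top g)
  have h4 : MemLocalIdeal M (centralChar (χ : G → ℂ) g - centralChar (χ' : G → ℂ) g) := hχ' g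
  exact cong_trans hMp (cong_trans hMp (cong_trans hMp h1 h2) h3) h4

omit [Fintype G] in
theorem blockCoeff_empty (g : G) : blockCoeff (∅ : Set (IrrCharacter G)) g = 0 := by
  unfold blockCoeff
  rw [finsum_mem_empty, mul_zero]

/-- **Existence of Brauer correspondents.**  If the idempotent of the block `B` is a unit at some
element of `C_G(P)`, there are `ξ ∈ Irr(H)` and `χ ∈ B` with the Brauer functional of `ξ`
congruent to the central character of `χ`. -/
theorem exists_brauer_correspondent (hM : IsPModular p M) (P H : Subgroup G) [Fintype H]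
    (hP : IsPGroup p P) (hCH : Subgroup.centralizer (P : Set G) ≤ H)
    (hHN : H ≤ Subgroup.normalizer (P : Set G)) {B : Set (IrrCharacter G)} (hB : IsPBlock M B)
    {c : G} (hc : c ∈ Subgroup.centralizer (P : Set G))
    (hfc : ¬ MemLocalIdeal M (blockCoeff B c)) :
    ∃ ξ : IrrCharacter H, ∃ χ : IrrCharacter G, χ ∈ B ∧
      ∀ F : G → ℂ, IsClassFunction G F → (∀ g, MemLocalRing M (F g)) →
        MemLocalIdeal M (brauerLam P H (ξ : H → ℂ) F - omega (χ : G → ℂ) F) := by
  classical
  have hMp := isPModular_isPrime hM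
  obtain ⟨hcf, hS, hω⟩ := blockCoeff_spec hMp hB
  set C : Set G := (Subgroup.centralizer (P : Set G) : Set G) with hCdef
  set β : H → ℂ := fun h : H => truncTo C (blockCoeff B) (h : G) with hβ
  have hβcf : IsClassFunction H β := isClassFunction_restrict_truncTo P H hHN hcf
  have hβS : ∀ h, MemLocalRing M (β h) := fun h => memLocalRing_truncTo hMp.ne_top C hS (h : G)
  have hid : ∀ h : H, MemLocalIdeal M (conv β β h - β h) := by
    intro h
    have h1 := brauer_conv hM P hP hcf hcf hS hS (h : G)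
    rw [conv_blockCoeff_self hMp hB] at h1
    have hsupp : ∀ g, g ∉ H → truncTo C (blockCoeff B) g = 0 := by
      intro g hg
      apply truncTo_of_not_mem
      intro hgC
      exact hg (hCH hgC)
    rw [conv_restrict H hsupp h] at h1
    exact cong_symm h1
  set A : Set (IrrCharacter H) := {ψ | MemLocalIdeal M (omega (ψ : H → ℂ) β - 1)} with hA
  obtain ⟨h0, hAcf, hAω, hAS, hAc⟩ := cong_blockCoeff_of_idempotent hMp hβcf hβS hid A
    (fun ψ => Iff.rfl)
  have hAne : A.Nonempty := by
    by_contra hne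
    rw [Set.not_nonempty_iff_eq_empty] at hne
    apply hfc
    have h1 := hAc ⟨c, hCH hc⟩
    rw [hne, blockCoeff_empty, sub_zero] at h1
    have h2 : β ⟨c, hCH hc⟩ = blockCoeff B c := truncTo_of_mem _ hc
    rwa [h2] at h1
  obtain ⟨ξ, hξ⟩ := hAne
  obtain ⟨χ, hχ⟩ := exists_irr_brauerLam hM P H hP hCH hHN ξ.2
  refine ⟨ξ, χ, ?_, hχ⟩
  by_contra hχB
  have h1 := hχ (blockCoeff B) hcf hS
  rw [hω χ, if_neg hχB, sub_zero, brauerLam_apply] at h1
  have h2 : MemLocalIdeal M (omega (ξ : H → ℂ) β - 1) := hξ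
  have h3 : MemLocalIdeal M (1 : ℂ) := by
    have h1' : MemLocalIdeal M (omega (ξ : H → ℂ) β) := h1
    have := memLocalIdeal_sub hMp h1' h2
    rwa [sub_sub_cancel] at this
  exact not_memLocalIdeal_one hMp h3

end

end Cfsg.Agent.Lib.Helper8
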