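import Mathlib
import Cfsg.Agent.S0916
import Cfsg.Agent.Lib.Helper8.SylowConj

/-!
# Sylow subgroups of centralizers in terms of cardinalities; fusion of classes with a given defect
group in the normalizer
-/

set_option autoImplicit false

namespace Cfsg.Agent.Lib.Helper8

universe u

section

variable {G : Type u} [Group G] [Finite G] {p : ℕ} [Fact p.Prime]

/-- A subgroup of `K` of full `p`-power order is the image of a Sylow `p`-subgroup of `K`. -/
theorem exists_sylow_map_eq (K D : Subgroup G) (hDK : D ≤ K)
    (hcard : Nat.card D = p ^ (Nat.card K).factorization p) :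
    ∃ S : Sylow p K, (S : Subgroup K).map K.subtype = D := by
  have h1 : Nat.card (D.subgroupOf K) = p ^ (Nat.card K).factorization p := by
    rw [Nat.card_congr (Subgroup.subgroupOfEquivOfLe hDK).toEquiv, hcard]
  refine ⟨Sylow.ofCard (D.subgroupOf K) h1, ?_⟩
  rw [Sylow.coe_ofCard, Subgroup.subgroupOf_map_subtype]
  exact inf_eq_left.2 hDK

theorem card_of_sylow_map_eq (K D : Subgroup G) (S : Sylow p K)
    (h : (S : Subgroup K).map K.subtype = D) :
    Nat.card D = p ^ (Nat.card K).factorization p := by
  rw [← h, Nat.card_congr (Subgroup.equivMapOfInjective _ _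
    (Subgroup.subtype_injective _)).symm.toEquiv, Sylow.card_eq_multiplicity]

omit [Finite G] in
/-- The centralizer of an element of a subgroup `N`, computed in `N`. -/
theorem centralizer_subgroup_eq (N : Subgroup G) (y : N) :
    Subgroup.centralizer ({y} : Set N) = (Subgroup.centralizer ({(y : G)} : Set G)).subgroupOf N := by
  ext z
  rw [Subgroup.mem_subgroupOf, Subgroup.mem_centralizer_singleton_iff,
    Subgroup.mem_centralizer_singleton_iff]
  constructor
  · intro h
    exact congrArg Subtype.val h
  · intro h
    exact Subtype.ext h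

omit [Finite G] in
theorem card_centralizer_subgroup (N : Subgroup G) (y : N) :
    Nat.card (Subgroup.centralizer ({y} : Set N)) =
      Nat.card ((Subgroup.centralizer ({(y : G)} : Set G) ⊓ N : Subgroup G)) := by
  rw [centralizer_subgroup_eq, ← Subgroup.inf_subgroupOf_right]
  exact Nat.card_congr (Subgroup.subgroupOfEquivOfLe inf_le_right).toEquiv

/-- If `D` is a `p`-subgroup centralized by `y` whose order is the `p`-part of the order of
`C_G(y) ∩ N_G(D)`, then its order is the `p`-part of the order of `C_G(y)`. -/
theorem factorization_card_centralizer_of_normalizer (D : Subgroup G) (hD : IsPGroup p D) {y : G}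
    (hy : y ∈ Subgroup.centralizer (D : Set G))
    (hcard : Nat.card D = p ^ (Nat.card ((Subgroup.centralizer ({y} : Set G) ⊓
      Subgroup.normalizer (D : Set G) : Subgroup G))).factorization p) :
    Nat.card D = p ^ (Nat.card (Subgroup.centralizer ({y} : Set G))).factorization p := by
  have hDle : D ≤ Subgroup.centralizer ({y} : Set G) ⊓ Subgroup.normalizer (D : Set G) := by
    intro u hu
    rw [Subgroup.mem_inf]
    refine ⟨?_, Subgroup.le_normalizer hu⟩
    rw [Subgroup.mem_centralizer_singleton_iff]
    exact (Subgroup.mem_centralizer_iff.1 hy u hu)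
  obtain ⟨S, hS⟩ := exists_sylow_map_eq _ D hDle hcard
  obtain ⟨S', hS'⟩ := (Cfsg.Agent.S0916.result p D hD).2 y hy ⟨S, hS⟩
  exact card_of_sylow_map_eq _ D S' hS'

/-- Fusion: if `D` is a `p`-subgroup of `C_G(y)` of full `p`-power order, any conjugate of `y`
centralizing `D` is conjugate to `y` under `N_G(D)`. -/
theorem exists_normalizer_conj (D : Subgroup G) (hD : IsPGroup p D) {y c : G}
    (hy : y ∈ Subgroup.centralizer (D : Set G))
    (hcard : Nat.card D = p ^ (Nat.card (Subgroup.centralizer ({y} : Set G))).factorization p)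
    (hc : IsConj y c) (hcD : c ∈ Subgroup.centralizer (D : Set G)) :
    ∃ n ∈ Subgroup.normalizer (D : Set G), n * y * n⁻¹ = c := by
  have hDle : D ≤ Subgroup.centralizer ({y} : Set G) := by
    intro u hu
    rw [Subgroup.mem_centralizer_singleton_iff]
    exact (Subgroup.mem_centralizer_iff.1 hy u hu)
  obtain ⟨S, hS⟩ := exists_sylow_map_eq _ D hDle hcard
  exact ((Cfsg.Agent.S0916.result p D hD).1 y ⟨S, hS⟩).2 y c (IsConj.refl y) hc hy hcD

end

end Cfsg.Agent.Lib.Helper8
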