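import Mathlib
import Cfsg.Prelude.Def_Blocks
import Cfsg.Agent.Lib.Helper8.BlockFirstMain
import Cfsg.Agent.Lib.Helper8.SylowCard

/-!
# Fusion of classes with defect group `D` in `N_G(D)` and the Brauer central character
-/

set_option autoImplicit false

namespace Cfsg.Agent.Lib.Helper8

open Cfsg
open scoped ComplexConjugate
open Cfsg.Agent.Lib.Helper1 Cfsg.Agent.Lib.Helper4

universe u

section

variable {G : Type u} [Group G] [Fintype G] {M : Ideal AlgInt} {p : ℕ} [Fact p.Prime]

/-- If `y ∈ N_G(D)` centralizes the `p`-subgroup `D` and the order of `D` is the `p`-part of the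
order of `C_{N_G(D)}(y)`, then it is also the `p`-part of the order of `C_G(y)`. -/
theorem card_eq_of_card_eq_normalizer (D : Subgroup G) (hD : IsPGroup p D)
    (y : Subgroup.normalizer (D : Set G))
    (hy : (y : G) ∈ Subgroup.centralizer (D : Set G))
    (hcard : Nat.card D = p ^ (Nat.card (Subgroup.centralizer
      ({y} : Set (Subgroup.normalizer (D : Set G))))).factorization p) :
    Nat.card D = p ^ (Nat.card (Subgroup.centralizer ({(y : G)} : Set G))).factorization p := by
  rw [card_centralizer_subgroup] at hcard
  exact factorization_card_centralizer_of_normalizer D hD hy hcard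

/-- Under the same hypotheses, the Brauer central character at `y` is the central character
at `y`. -/
theorem brauerCentralChar_eq_centralChar (D : Subgroup G) (hD : IsPGroup p D)
    [Fintype (Subgroup.normalizer (D : Set G))]
    (y : Subgroup.normalizer (D : Set G))
    (hy : (y : G) ∈ Subgroup.centralizer (D : Set G))
    (hcard : Nat.card D = p ^ (Nat.card (Subgroup.centralizer
      ({y} : Set (Subgroup.normalizer (D : Set G))))).factorization p)
    {ξ : Subgroup.normalizer (D : Set G) → ℂ}
    (hξ : IsClassFunction (Subgroup.normalizer (D : Set G)) ξ) :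
    brauerCentralChar D (Subgroup.normalizer (D : Set G)) ξ (y : G) = centralChar ξ y := by
  classical
  have hcard' := card_eq_of_card_eq_normalizer D hD y hy hcard
  rw [brauerCentralChar_eq_brauerLam, brauerLam_apply, ← omega_classIndicator hξ]
  congr 1
  funext h
  by_cases hh : (h : G) ∈ (Subgroup.centralizer (D : Set G) : Set G)
  · rw [truncTo_of_mem _ hh]
    unfold classIndicator
    by_cases hc : IsConj (y : G) (h : G)
    · obtain ⟨n, hn, hnc⟩ := exists_normalizer_conj D hD hy hcard' hc hh
      have : IsConj y h := by
        rw [isConj_iff]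
        exact ⟨⟨n, hn⟩, Subtype.ext hnc⟩
      rw [if_pos hc, if_pos this]
    · have : ¬ IsConj y h := by
        intro h1
        apply hc
        rw [isConj_iff] at h1 ⊢
        obtain ⟨n, hn⟩ := h1
        exact ⟨(n : G), congrArg Subtype.val hn⟩
      rw [if_neg hc, if_neg this]
  · rw [truncTo_of_not_mem _ hh]
    unfold classIndicator
    have : ¬ IsConj y h := by
      intro h1
      apply hh
      rw [isConj_iff] at h1
      obtain ⟨n, hn⟩ := h1
      have := conj_mem_centralizer_of_mem_normalizer D n.2 hy
      rw [← hn]
      exact this
    rw [if_neg this]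

end

end Cfsg.Agent.Lib.Helper8
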