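import Mathlib
import Cfsg.Prelude.Def_Blocks
import Cfsg.Agent.Lib.Helper8.BlockInduced
import Cfsg.Agent.Lib.Helper8.BlockDefectBounds

/-!
# Defect groups of induced blocks
-/

set_option autoImplicit false

namespace Cfsg.Agent.Lib.Helper8

open Cfsg
open scoped ComplexConjugate
open Cfsg.Agent.Lib.Helper1 Cfsg.Agent.Lib.Helper4

universe u

section

variable {G : Type u} [Group G] [Fintype G] {M : Ideal AlgInt} {p : ℕ}

/-- If the induced central character of `ξ` is a unit at `g`, some element `y` of `H` conjugate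
to `g` in `G` has the central character of `ξ` a unit at `y`. -/
theorem exists_conj_of_inducedCentralChar (hM : M.IsPrime) (H : Subgroup G) [Fintype H]
    {ξ : H → ℂ} (hξ : IsIrrCharacter H ξ) {g : G}
    (h : ¬ MemLocalIdeal M (inducedCentralChar H ξ g)) :
    ∃ y : H, IsConj g (y : G) ∧ ¬ MemLocalIdeal M (centralChar ξ y) := by
  classical
  have : Fintype (ConjClasses H) := Fintype.ofFinite _
  rw [inducedCentralChar_eq_omega, omega_eq_sum_classes hξ
    (isClassFunction_restrict H (classIndicator_isClassFunction g))] at h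
  by_contra hcon
  push Not at hcon
  apply h
  apply memLocalIdeal_sum hM
  intro c _
  by_cases hc : IsConj g ((Quotient.out c : H) : G)
  · exact memLocalIdeal_mul_left hM (memLocalRing_classIndicator hM.ne_top _ _) (hcon _ hc)
  · unfold classIndicator
    rw [if_neg hc, zero_mul]
    exact memLocalIdeal_zero hM.ne_top

/-- **Defect groups of induced blocks**: every defect group of `b` lies in a defect group of the
induced block. -/
theorem exists_defectGroup_ge_of_induced (hM : IsPModular p M) [Fact p.Prime] (H : Subgroup G)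
    {b : Set (IrrCharacter H)} {B : Set (IrrCharacter G)} (hind : IsInducedBlock M H b B)
    {D : Subgroup H} (hD : IsDefectGroup p M b D) :
    ∃ E : Subgroup G, IsDefectGroup p M B E ∧ D.map H.subtype ≤ E := by
  classical
  have : Fintype H := Fintype.ofFinite _
  have hMp := isPModular_isPrime hM
  obtain ⟨hb, hB, hcong⟩ := hind
  obtain ⟨g, hg⟩ := exists_isDefectClass hMp hB
  have hbne : ∃ ξ, ξ ∈ b := by
    obtain ⟨ξ₀, rfl⟩ := hb
    exact ⟨ξ₀, sameBlock_refl hMp.ne_top _⟩
  have hBne : ∃ χ, χ ∈ B := by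
    obtain ⟨χ₀, rfl⟩ := hB
    exact ⟨χ₀, sameBlock_refl hMp.ne_top _⟩
  obtain ⟨ξ, hξ⟩ := hbne
  obtain ⟨χ, hχ⟩ := hBne
  have h1 : ¬ MemLocalIdeal M (inducedCentralChar H (ξ : H → ℂ) g) :=
    not_memLocalIdeal_of_cong hMp (hg.2.2 χ hχ) (hcong ξ hξ χ hχ g)
  obtain ⟨y, hy, hyJ⟩ := exists_conj_of_inducedCentralChar hMp H ξ.2 h1
  obtain ⟨gb, hgb, Pb, rfl⟩ := hD
  set D₀ : Subgroup H := (Pb : Subgroup (Subgroup.centralizer ({gb} : Set H))).map
    (Subgroup.centralizer ({gb} : Set H)).subtype with hD₀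
  have hD₀p : IsPGroup p D₀ := Pb.isPGroup'.map _
  have hD₀le : D₀ ≤ Subgroup.centralizer ({gb} : Set H) := by
    rintro _ ⟨q, _, rfl⟩
    exact q.2
  obtain ⟨y', hy', hDy'⟩ := exists_isConj_le_centralizer hM hb ⟨ξ, hξ, hyJ⟩ hgb.2.1 D₀ hD₀p hD₀le
  -- `y'` is a defect class of `B`
  have hy'G : IsConj g (y' : G) := by
    obtain ⟨t, ht⟩ := isConj_iff.1 hy'
    refine hy.trans (isConj_iff.2 ⟨(t : G), ?_⟩)
    rw [← ht]
    rfl
  obtain ⟨s, hs⟩ := isConj_iff.1 hy'G
  have hdef : IsDefectClass M B (y' : G) := by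
    rw [← hs]
    exact isDefectClass_conj hg s
  have hDle : D₀.map H.subtype ≤ Subgroup.centralizer ({(y' : G)} : Set G) := by
    rintro _ ⟨d, hd, rfl⟩
    have := Subgroup.mem_centralizer_iff.1 (hDy' hd) y' (Set.mem_singleton y')
    rw [Subgroup.mem_centralizer_iff]
    intro x hx
    rw [Set.mem_singleton_iff] at hx
    subst hx
    exact congrArg Subtype.val this
  obtain ⟨E₀, hE₀⟩ := exists_sylow_map_ge (Subgroup.centralizer ({(y' : G)} : Set G))
    (hD₀p.map _) hDle
  exact ⟨_, ⟨(y' : G), hdef, E₀, rfl⟩, hE₀⟩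

end

end Cfsg.Agent.Lib.Helper8
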