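import Mathlib
import Cfsg.Prelude.Def_Blocks
import Cfsg.Agent.Lib.Helper8.BlockDefectBounds

/-!
# Counting blocks against conjugacy classes
-/

set_option autoImplicit false

namespace Cfsg.Agent.Lib.Helper8

open Cfsg
open scoped ComplexConjugate
open Cfsg.Agent.Lib.Helper1 Cfsg.Agent.Lib.Helper4

universe u

section

variable {G : Type u} [Group G] [Fintype G] {M : Ideal AlgInt} {p : ℕ}

/-- **Counting lemma**: if, for all blocks `B`, `B'` in a family and all classes outside a
family of classes, the product of the idempotent coefficient of `B` and the central character of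
`B'` lies in the local ideal, then there are at most as many blocks as classes in the families. -/
theorem card_blocks_le_card_classes (hM : M.IsPrime) (Pblk : Set (IrrCharacter G) → Prop)
    (Pcls : ConjClasses G → Prop)
    (h : ∀ B B' : Set (IrrCharacter G), IsPBlock M B → Pblk B → IsPBlock M B' → Pblk B' →
      ∀ c : ConjClasses G, ¬ Pcls c → ∀ χ' ∈ B',
        MemLocalIdeal M (blockCoeff B (Quotient.out c) * centralChar (χ' : G → ℂ) (Quotient.out c))) :
    Nat.card {B : Set (IrrCharacter G) // IsPBlock M B ∧ Pblk B} ≤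
      Nat.card {c : ConjClasses G // Pcls c} := by
  classical
  have : Fintype (ConjClasses G) := Fintype.ofFinite _
  have : Fintype (IrrCharacter G) := Fintype.ofFinite _
  have : Fintype {B : Set (IrrCharacter G) // IsPBlock M B ∧ Pblk B} := Fintype.ofFinite _
  have : Fintype {c : ConjClasses G // Pcls c} := Fintype.ofFinite _
  rw [Nat.card_eq_fintype_card, Nat.card_eq_fintype_card]
  have hne : ∀ b : {B : Set (IrrCharacter G) // IsPBlock M B ∧ Pblk B}, ∃ χ, χ ∈ b.1 := by
    rintro ⟨B, ⟨χ₀, rfl⟩, _⟩
    exact ⟨χ₀, sameBlock_refl hM.ne_top _⟩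
  choose rep hrep using hne
  let W : Matrix {B : Set (IrrCharacter G) // IsPBlock M B ∧ Pblk B} {c : ConjClasses G // Pcls c} ℂ :=
    fun b c => centralChar (rep b : G → ℂ) (Quotient.out c.1)
  let A : Matrix {c : ConjClasses G // Pcls c} {B : Set (IrrCharacter G) // IsPBlock M B ∧ Pblk B} ℂ :=
    fun c b => blockCoeff b.1 (Quotient.out c.1)
  have hWA : ∀ i j, MemLocalIdeal M ((W * A - 1 : Matrix {B : Set (IrrCharacter G) // IsPBlock M B ∧ Pblk B} {B : Set (IrrCharacter G) // IsPBlock M B ∧ Pblk B} ℂ) i j) := by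
    intro b' b
    obtain ⟨hcf, hS, hω⟩ := blockCoeff_spec hM b.2.1
    have h1 := hω (rep b')
    rw [omega_eq_sum_classes (rep b').2 hcf] at h1
    have hind : (if rep b' ∈ b.1 then (1 : ℂ) else 0) = (1 : Matrix _ _ ℂ) b' b := by
      rw [Matrix.one_apply]
      by_cases hbb : b' = b
      · rw [if_pos hbb, if_pos (hbb ▸ hrep b')]
      · rw [if_neg hbb, if_neg]
        intro hmem
        apply hbb
        apply Subtype.ext
        rw [eq_blockOf_of_mem hM b'.2.1 (hrep b'), eq_blockOf_of_mem hM b.2.1 hmem]
    rw [Matrix.sub_apply, ← hind, ← h1, Matrix.mul_apply]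
    have hsub : ∑ c : {c : ConjClasses G // Pcls c}, W b' c * A c b
        = ∑ c ∈ Finset.univ.filter (fun c : ConjClasses G => Pcls c),
          blockCoeff b.1 (Quotient.out c) * centralChar (rep b' : G → ℂ) (Quotient.out c) := by
      rw [Finset.sum_subtype (Finset.univ.filter (fun c : ConjClasses G => Pcls c))
        (p := fun c => Pcls c) (fun x => by simp)]
      refine Finset.sum_congr rfl fun c _ => ?_
      simp only [W, A]
      ring
    rw [hsub, ← Finset.sum_filter_add_sum_filter_not Finset.univ (fun c : ConjClasses G => Pcls c)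
      (fun c => blockCoeff b.1 (Quotient.out c) * centralChar (rep b' : G → ℂ) (Quotient.out c)),
      sub_add_cancel_left]
    apply memLocalIdeal_neg
    apply memLocalIdeal_sum hM
    intro c hc
    exact h b.1 b'.1 b.2.1 b.2.2 b'.2.1 b'.2.2 c (Finset.mem_filter.1 hc).2 (rep b') (hrep b')
  have hdet := det_ne_zero_of_sub_one_memLocalIdeal hM (W * A) hWA
  have hunit : IsUnit (W * A) := (Matrix.isUnit_iff_isUnit_det _).2 (isUnit_iff_ne_zero.2 hdet)
  have h1 := Matrix.rank_of_isUnit (W * A) hunit
  have h2 := Matrix.rank_mul_le_left W A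
  have h3 := Matrix.rank_le_card_width W
  omega

end

end Cfsg.Agent.Lib.Helper8
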