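import Mathlib
import Cfsg.Prelude.Def_Blocks
import Cfsg.Agent.Lib.Helper8.BlockFirstMain2
import Cfsg.Agent.Lib.Helper8.BlockDefectBounds
import Cfsg.Agent.Lib.Helper8.BlockInducedDefect
import Cfsg.Agent.Lib.Lead.Core
import Cfsg.Agent.S0908
import Cfsg.Agent.S0912
import Cfsg.Agent.S4510

/-!
# Brauer's First Main Theorem
-/

set_option autoImplicit false

namespace Cfsg.Agent.Lib.Helper8

open Cfsg
open scoped ComplexConjugate
open Cfsg.Agent.Lib.Helper1 Cfsg.Agent.Lib.Helper4

universe u

section

variable {G : Type u} [Group G] [Finite G] {M : Ideal AlgInt} {p : ℕ} [Fact p.Prime]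

theorem card_of_isDefectGroup (hM : IsPModular p M) {B : Set (IrrCharacter G)} (hB : IsPBlock M B)
    {D : Subgroup G} (hD : IsDefectGroup p M B D) : Nat.card D = p ^ blockDefect p B :=
  Cfsg.Agent.S0908.result p M hM B hB D hD

omit [Finite G] [Fact p.Prime] in
theorem isPBlock_nonempty (hM : M.IsPrime) {B : Set (IrrCharacter G)} (hB : IsPBlock M B) :
    ∃ χ, χ ∈ B := by
  obtain ⟨χ₀, rfl⟩ := hB
  exact ⟨χ₀, sameBlock_refl hM.ne_top _⟩

omit [Fact p.Prime] in
theorem exists_isDefectGroup (hM : M.IsPrime) {B : Set (IrrCharacter G)} (hB : IsPBlock M B) :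
    ∃ D : Subgroup G, IsDefectGroup p M B D := by
  classical
  have : Fintype G := Fintype.ofFinite G
  obtain ⟨g, hg⟩ := exists_isDefectClass hM hB
  obtain ⟨P⟩ : Nonempty (Sylow p (Subgroup.centralizer ({g} : Set G))) := inferInstance
  exact ⟨_, g, hg, P, rfl⟩

omit [Finite G] [Fact p.Prime] in
theorem subgroupOf_map_subtype_of_le {D N : Subgroup G} (h : D ≤ N) :
    (D.subgroupOf N).map N.subtype = D := by
  rw [Subgroup.subgroupOf_map_subtype]
  exact inf_eq_left.2 h

omit [Finite G] [Fact p.Prime] in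
theorem mem_centralizer_of_le_centralizer_singleton {D : Subgroup G} {g : G}
    (h : D ≤ Subgroup.centralizer ({g} : Set G)) : g ∈ Subgroup.centralizer (D : Set G) := by
  rw [Subgroup.mem_centralizer_iff]
  intro u hu
  have := h hu
  rw [Subgroup.mem_centralizer_singleton_iff] at this
  exact this

/-- First Main Theorem, part (i). -/
theorem firstMain_induce (hM : IsPModular p M) (D : Subgroup G) (hD : IsPGroup p D)
    {b : Set (IrrCharacter (Subgroup.normalizer (D : Set G)))} (hb : IsPBlock M b)
    (hbD : IsDefectGroup p M b (D.subgroupOf (Subgroup.normalizer (D : Set G)))) :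
    ∃ B : Set (IrrCharacter G), IsPBlock M B ∧ IsDefectGroup p M B D ∧
      IsInducedBlock M (Subgroup.normalizer (D : Set G)) b B := by
  classical
  have : Fintype G := Fintype.ofFinite G
  have : Fintype (Subgroup.normalizer (D : Set G)) := Fintype.ofFinite _
  have hMp := isPModular_isPrime hM
  have hDN : D ≤ Subgroup.normalizer (D : Set G) := Subgroup.le_normalizer
  obtain ⟨B, hind⟩ := inducedBlockDefined_of_le hM D (Subgroup.normalizer (D : Set G)) hD hDN
    (Subgroup.centralizer_le_normalizer _) le_rfl hb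
  have hB : IsPBlock M B := hind.2.1
  refine ⟨B, hB, ?_, hind⟩
  obtain ⟨gb, hgb, Pb, hPb⟩ := hbD
  have hcardD : Nat.card D = p ^ (Nat.card (Subgroup.centralizer
      ({gb} : Set (Subgroup.normalizer (D : Set G))))).factorization p := by
    rw [← Nat.card_congr (Subgroup.subgroupOfEquivOfLe hDN).toEquiv, hPb,
      Nat.card_congr (Subgroup.equivMapOfInjective _ _ (Subgroup.subtype_injective _)).symm.toEquiv,
      Sylow.card_eq_multiplicity]
  have hgbC : (gb : G) ∈ Subgroup.centralizer (D : Set G) := by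
    rw [Subgroup.mem_centralizer_iff]
    intro u hu
    have h1 : (⟨u, hDN hu⟩ : Subgroup.normalizer (D : Set G)) ∈
        D.subgroupOf (Subgroup.normalizer (D : Set G)) := Subgroup.mem_subgroupOf.2 hu
    rw [hPb] at h1
    obtain ⟨w, _, hw⟩ := h1
    have h2 := w.2
    rw [Subgroup.mem_centralizer_singleton_iff] at h2
    have h3 : ((w : Subgroup.normalizer (D : Set G)) : G) = u := by
      have := congrArg Subtype.val hw
      exact this
    have h4 := congrArg Subtype.val h2
    simp only [Subgroup.coe_mul] at h4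
    rw [h3] at h4
    exact h4
  have hcard' := card_eq_of_card_eq_normalizer D hD gb hgbC hcardD
  obtain ⟨χ, hχ⟩ := isPBlock_nonempty hMp hB
  obtain ⟨ξ, hξ⟩ := isPBlock_nonempty hMp hb
  have h1 : ¬ MemLocalIdeal M (centralChar (χ : G → ℂ) (gb : G)) := by
    intro hJ
    apply hgb.2.2 ξ hξ
    have e := brauerCentralChar_eq_centralChar D hD gb hgbC hcardD (isClassFunction_irr ξ.2)
    rw [← e]
    have c1 := memLocalIdeal_induced_sub_brauer hM D (Subgroup.normalizer (D : Set G)) hD hDN
      le_rfl ξ (gb : G)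
    have c2 := hind.2.2 ξ hξ χ hχ (gb : G)
    have c3 := memLocalIdeal_add hMp (cong_trans hMp (cong_symm c1) c2) hJ
    rwa [sub_add_cancel] at c3
  have hle : blockDefect p B ≤
      (Nat.card (Subgroup.centralizer ({(gb : G)} : Set G))).factorization p :=
    le_factorization_of_not_memLocalIdeal_centralChar hM hB ⟨χ, hχ, h1⟩
  obtain ⟨E, hE, hDE⟩ := exists_defectGroup_ge_of_induced hM (Subgroup.normalizer (D : Set G)) hind
    ⟨gb, hgb, Pb, hPb⟩
  rw [subgroupOf_map_subtype_of_le hDN] at hDE
  have hEcard : Nat.card E = p ^ blockDefect p B := card_of_isDefectGroup hM hB hE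
  have hEle : Nat.card E ≤ Nat.card D := by
    rw [hEcard, hcard']
    exact Nat.pow_le_pow_right (Fact.out : p.Prime).pos hle
  have hEq : D = E := Subgroup.eq_of_le_of_card_ge hDE hEle
  rw [hEq]
  exact hE

/-- First Main Theorem, part (ii), existence. -/
theorem firstMain_exists (hM : IsPModular p M) (D : Subgroup G) (hD : IsPGroup p D)
    {B : Set (IrrCharacter G)} (hB : IsPBlock M B) (hBD : IsDefectGroup p M B D) :
    ∃ b : Set (IrrCharacter (Subgroup.normalizer (D : Set G))), IsPBlock M b ∧
      IsDefectGroup p M b (D.subgroupOf (Subgroup.normalizer (D : Set G))) ∧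
      IsInducedBlock M (Subgroup.normalizer (D : Set G)) b B := by
  classical
  have : Fintype G := Fintype.ofFinite G
  have : Fintype (Subgroup.normalizer (D : Set G)) := Fintype.ofFinite _
  have hMp := isPModular_isPrime hM
  have hDN : D ≤ Subgroup.normalizer (D : Set G) := Subgroup.le_normalizer
  have hDcard : Nat.card D = p ^ blockDefect p B := card_of_isDefectGroup hM hB hBD
  obtain ⟨g, hg, P, hP⟩ := hBD
  have hgC : g ∈ Subgroup.centralizer (D : Set G) := by
    apply mem_centralizer_of_le_centralizer_singleton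
    rw [hP]
    intro u hu
    obtain ⟨w, _, rfl⟩ := hu
    exact w.2
  obtain ⟨ξ, χ, hχB, hχ⟩ := exists_brauer_correspondent hM D (Subgroup.normalizer (D : Set G)) hD
    (Subgroup.centralizer_le_normalizer _) le_rfl hB hgC hg.2.1
  have hind := isInducedBlock_of_brauerLam hM D (Subgroup.normalizer (D : Set G)) hD hDN le_rfl
    ξ χ hχ
  rw [← eq_blockOf_of_mem hMp hB hχB] at hind
  have hb : IsPBlock M (blockOf M (ξ : Subgroup.normalizer (D : Set G) → ℂ)) := ⟨ξ, rfl⟩
  refine ⟨blockOf M (ξ : Subgroup.normalizer (D : Set G) → ℂ), hb, ?_, hind⟩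
  obtain ⟨Db, hDb⟩ := exists_isDefectGroup (p := p) hMp hb
  have h1 : pCore p (Subgroup.normalizer (D : Set G)) ≤ Db :=
    Cfsg.Agent.S0912.result p M hM _ hb Db hDb
  have hDn : (D.subgroupOf (Subgroup.normalizer (D : Set G))).Normal :=
    (Subgroup.normal_subgroupOf_iff_le_normalizer hDN).2 le_rfl
  have h2 : D.subgroupOf (Subgroup.normalizer (D : Set G)) ≤
      pCore p (Subgroup.normalizer (D : Set G)) :=
    Cfsg.Agent.Lib.Lead.le_pCore hDn hD.comap_subtype
  obtain ⟨E, hE, hDbE⟩ := exists_defectGroup_ge_of_induced hM (Subgroup.normalizer (D : Set G))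
    hind hDb
  have hEcard : Nat.card E = p ^ blockDefect p B := card_of_isDefectGroup hM hB hE
  have hDDb : D ≤ Db.map (Subgroup.normalizer (D : Set G)).subtype :=
    le_trans (subgroupOf_map_subtype_of_le hDN).symm.le (Subgroup.map_mono (h2.trans h1))
  have hDE : D = E := Subgroup.eq_of_le_of_card_ge (hDDb.trans hDbE) (by rw [hEcard, hDcard])
  have hmap : Db.map (Subgroup.normalizer (D : Set G)).subtype = D :=
    le_antisymm (hDbE.trans hDE.symm.le) hDDb
  have hDbeq : Db = D.subgroupOf (Subgroup.normalizer (D : Set G)) := by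
    have e := Subgroup.comap_map_eq_self_of_injective (Subgroup.subtype_injective _) Db
    have e2 := congrArg (fun X : Subgroup G => X.comap (Subgroup.normalizer (D : Set G)).subtype) hmap
    exact e.symm.trans e2
  rw [← hDbeq]
  exact hDb

/-- First Main Theorem, part (ii), uniqueness. -/
theorem firstMain_unique (hM : IsPModular p M) (D : Subgroup G) (hD : IsPGroup p D)
    {B : Set (IrrCharacter G)}
    {b₁ b₂ : Set (IrrCharacter (Subgroup.normalizer (D : Set G)))}
    (hb₁ : IsPBlock M b₁) (hb₂ : IsPBlock M b₂)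
    (hD₁ : IsDefectGroup p M b₁ (D.subgroupOf (Subgroup.normalizer (D : Set G))))
    (hD₂ : IsDefectGroup p M b₂ (D.subgroupOf (Subgroup.normalizer (D : Set G))))
    (hi₁ : IsInducedBlock M (Subgroup.normalizer (D : Set G)) b₁ B)
    (hi₂ : IsInducedBlock M (Subgroup.normalizer (D : Set G)) b₂ B) : b₁ = b₂ := by
  classical
  have : Fintype G := Fintype.ofFinite G
  have : Fintype (Subgroup.normalizer (D : Set G)) := Fintype.ofFinite _
  have hMp := isPModular_isPrime hM
  have hDN : D ≤ Subgroup.normalizer (D : Set G) := Subgroup.le_normalizer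
  have hB : IsPBlock M B := hi₁.2.1
  have hc₁ := card_of_isDefectGroup hM hb₁ hD₁
  have hc₂ := card_of_isDefectGroup hM hb₂ hD₂
  rw [Nat.card_congr (Subgroup.subgroupOfEquivOfLe hDN).toEquiv] at hc₁ hc₂
  have hdd : blockDefect p b₂ = blockDefect p b₁ :=
    Nat.pow_right_injective (Fact.out : p.Prime).two_le (hc₂.symm.trans hc₁)
  obtain ⟨ξ₁, rfl⟩ := hb₁
  obtain ⟨ξ₂, rfl⟩ := hb₂
  have hDn : (D.subgroupOf (Subgroup.normalizer (D : Set G))).Normal :=
    (Subgroup.normal_subgroupOf_iff_le_normalizer hDN).2 le_rfl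
  have hDp : IsPGroup p (D.subgroupOf (Subgroup.normalizer (D : Set G))) := hD.comap_subtype
  obtain ⟨χ, hχ⟩ := isPBlock_nonempty hMp hB
  have hsame : SameBlock M (ξ₁ : Subgroup.normalizer (D : Set G) → ℂ)
      (ξ₂ : Subgroup.normalizer (D : Set G) → ℂ) := by
    rw [Cfsg.Agent.S4510.result p M hM _ ξ₁ ξ₂ rfl hdd]
    intro y _ hyd
    by_cases hyC : (y : G) ∈ Subgroup.centralizer (D : Set G)
    · have hcard : Nat.card D = p ^ (Nat.card (Subgroup.centralizer
          ({y} : Set (Subgroup.normalizer (D : Set G))))).factorization p := by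
        rw [hyd, hc₁]
      have e₁ := brauerCentralChar_eq_centralChar D hD y hyC hcard (isClassFunction_irr ξ₁.2)
      have e₂ := brauerCentralChar_eq_centralChar D hD y hyC hcard (isClassFunction_irr ξ₂.2)
      rw [← e₁, ← e₂]
      have a₁ := memLocalIdeal_induced_sub_brauer hM D (Subgroup.normalizer (D : Set G)) hD hDN
        le_rfl ξ₁ (y : G)
      have a₂ := memLocalIdeal_induced_sub_brauer hM D (Subgroup.normalizer (D : Set G)) hD hDN
        le_rfl ξ₂ (y : G)
      have c₁ := hi₁.2.2 ξ₁ (sameBlock_refl hMp.ne_top _) χ hχ (y : G)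
      have c₂ := hi₂.2.2 ξ₂ (sameBlock_refl hMp.ne_top _) χ hχ (y : G)
      exact cong_trans hMp (cong_trans hMp (cong_symm a₁) c₁) (cong_trans hMp (cong_symm c₂) a₂)
    · have hyC' : y ∉ Subgroup.centralizer
          ((D.subgroupOf (Subgroup.normalizer (D : Set G)) : Subgroup _) : Set _) := by
        intro h
        apply hyC
        rw [Subgroup.mem_centralizer_iff]
        intro u hu
        have := Subgroup.mem_centralizer_iff.1 h ⟨u, hDN hu⟩ (Subgroup.mem_subgroupOf.2 hu)
        exact congrArg Subtype.val this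
      have h1 := memLocalIdeal_centralChar_of_not_mem_centralizer hM
        (D.subgroupOf (Subgroup.normalizer (D : Set G))) hDp ξ₁ hyC'
      have h2 := memLocalIdeal_centralChar_of_not_mem_centralizer hM
        (D.subgroupOf (Subgroup.normalizer (D : Set G))) hDp ξ₂ hyC'
      exact memLocalIdeal_sub hMp h1 h2
  ext ψ
  constructor
  · intro h
    exact sameBlock_trans hMp (sameBlock_symm hsame) h
  · intro h
    exact sameBlock_trans hMp hsame h

end

end Cfsg.Agent.Lib.Helper8
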