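import Mathlib
import Cfsg.Prelude.Def_Blocks
import Cfsg.Agent.Lib.Helper8.BlockFirstMain3
import Cfsg.Agent.S0911

/-!
# Consequences of the First Main Theorem
-/

set_option autoImplicit false

namespace Cfsg.Agent.Lib.Helper8

open Cfsg
open scoped ComplexConjugate
open Cfsg.Agent.Lib.Helper1 Cfsg.Agent.Lib.Helper4

universe u

section

variable {G : Type u} [Group G] [Finite G] {M : Ideal AlgInt} {p : ℕ} [Fact p.Prime]

omit [Finite G] [Fact p.Prime] in
theorem isPGroup_of_isDefectGroup {B : Set (IrrCharacter G)} {D : Subgroup G}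
    (hD : IsDefectGroup p M B D) : IsPGroup p D := by
  obtain ⟨g, _, P, rfl⟩ := hD
  exact P.isPGroup'.map _

/-- A defect group `D` is the largest normal `p`-subgroup of its normalizer. -/
theorem pCore_normalizer_of_isDefectGroup (hM : IsPModular p M) {B : Set (IrrCharacter G)}
    (hB : IsPBlock M B) {D : Subgroup G} (hD : IsDefectGroup p M B D) :
    (pCore p (Subgroup.normalizer (D : Set G))).map (Subgroup.normalizer (D : Set G)).subtype
      = D := by
  have hDp := isPGroup_of_isDefectGroup hD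
  have hDN : D ≤ Subgroup.normalizer (D : Set G) := Subgroup.le_normalizer
  obtain ⟨b, hb, hbD, _⟩ := firstMain_exists hM D hDp hB hD
  have h1 : pCore p (Subgroup.normalizer (D : Set G)) ≤
      D.subgroupOf (Subgroup.normalizer (D : Set G)) :=
    Cfsg.Agent.S0912.result p M hM b hb _ hbD
  have hDn : (D.subgroupOf (Subgroup.normalizer (D : Set G))).Normal :=
    (Subgroup.normal_subgroupOf_iff_le_normalizer hDN).2 le_rfl
  have h2 : D.subgroupOf (Subgroup.normalizer (D : Set G)) ≤
      pCore p (Subgroup.normalizer (D : Set G)) :=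
    Cfsg.Agent.Lib.Lead.le_pCore hDn hDp.comap_subtype
  rw [le_antisymm h1 h2]
  exact subgroupOf_map_subtype_of_le hDN

/-- The idempotent of `B` is a unit at some element with a conjugate centralizing the
`p`-subgroup `P` iff some conjugate of `P` lies in a defect group. -/
theorem exists_unit_coeff_iff (hM : IsPModular p M) {B : Set (IrrCharacter G)}
    (hB : IsPBlock M B) {D : Subgroup G} (hD : IsDefectGroup p M B D) (P : Subgroup G)
    (hP : IsPGroup p P) :
    (∃ g : G, MemLocalRing M (blockCoeff B g) ∧ ¬ MemLocalIdeal M (blockCoeff B g) ∧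
      ∃ c : G, IsConj g c ∧ c ∈ Subgroup.centralizer (P : Set G)) ↔
    ∃ x : G, P.map (MulAut.conj x).toMonoidHom ≤ D := by
  classical
  have : Fintype G := Fintype.ofFinite G
  have hMp := isPModular_isPrime hM
  obtain ⟨g₁, hg₁, P₁, rfl⟩ := hD
  constructor
  · rintro ⟨g, hgS, hgJ, c, hgc, hcP⟩
    have hcf : blockCoeff B c = blockCoeff B g := by
      obtain ⟨t, ht⟩ := isConj_iff.1 hgc
      rw [← ht]
      exact (blockCoeff_spec hMp hB).1 g t
    obtain ⟨x, Q, hQ⟩ := (Cfsg.Agent.S0911.result p M hM B hB g₁ hg₁ P₁ c).1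
      (by rw [hcf]; exact hgS) (by rw [hcf]; exact hgJ)
    have hPc : P ≤ Subgroup.centralizer ({c} : Set G) := by
      intro u hu
      rw [Subgroup.mem_centralizer_singleton_iff]
      exact Subgroup.mem_centralizer_iff.1 hcP u hu
    obtain ⟨y, _, hPy⟩ := exists_conj_sylow_ge (Subgroup.centralizer ({c} : Set G)) Q hP hPc
    have h1 : P ≤ ((P₁ : Subgroup (Subgroup.centralizer ({g₁} : Set G))).map
        (Subgroup.centralizer ({g₁} : Set G)).subtype).map (MulAut.conj (y * x)).toMonoidHom := by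
      rw [← map_conj_map_conj]
      exact hPy.trans (Subgroup.map_mono hQ)
    refine ⟨(y * x)⁻¹, ?_⟩
    have h2 := Subgroup.map_mono (f := (MulAut.conj (y * x)⁻¹).toMonoidHom) h1
    have h3 := map_conj_inv_map_conj ((P₁ : Subgroup (Subgroup.centralizer ({g₁} : Set G))).map
        (Subgroup.centralizer ({g₁} : Set G)).subtype) (y * x)⁻¹
    rw [inv_inv] at h3
    rwa [h3] at h2
  · rintro ⟨x, hx⟩
    refine ⟨g₁, hg₁.1, hg₁.2.1, x⁻¹ * g₁ * x, ?_, ?_⟩
    · rw [isConj_iff]
      exact ⟨x⁻¹, by rw [inv_inv]⟩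
    · rw [Subgroup.mem_centralizer_iff]
      intro u hu
      have h1 : x * u * x⁻¹ ∈ (P₁ : Subgroup (Subgroup.centralizer ({g₁} : Set G))).map
          (Subgroup.centralizer ({g₁} : Set G)).subtype :=
        hx ⟨u, hu, by simp⟩
      obtain ⟨w, _, hw⟩ := h1
      have h2 := w.2
      rw [Subgroup.mem_centralizer_singleton_iff] at h2
      have h3 : ((w : Subgroup.centralizer ({g₁} : Set G)) : G) = x * u * x⁻¹ := hw
      rw [h3] at h2
      calc u * (x⁻¹ * g₁ * x) = x⁻¹ * (x * u * x⁻¹ * g₁) * x := by group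
        _ = x⁻¹ * (g₁ * (x * u * x⁻¹)) * x := by rw [h2]
        _ = x⁻¹ * g₁ * x * u := by group

/-- For `P C_G(P) ≤ H ≤ N_G(P)`, a block `B` of `G` is induced from `H` iff some conjugate of `P`
lies in a defect group of `B`. -/
theorem exists_isInducedBlock_iff (hM : IsPModular p M) (P H : Subgroup G) (hP : IsPGroup p P)
    (hPH : P ≤ H) (hCH : Subgroup.centralizer (P : Set G) ≤ H)
    (hHN : H ≤ Subgroup.normalizer (P : Set G)) {B : Set (IrrCharacter G)} (hB : IsPBlock M B) :
    (∃ b : Set (IrrCharacter H), IsInducedBlock M H b B) ↔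
      ∃ D : Subgroup G, IsDefectGroup p M B D ∧ ∃ x : G, P.map (MulAut.conj x).toMonoidHom ≤ D := by
  classical
  have : Fintype G := Fintype.ofFinite G
  have : Fintype H := Fintype.ofFinite _
  have hMp := isPModular_isPrime hM
  constructor
  · rintro ⟨b, hind⟩
    have hb := hind.1
    obtain ⟨Db, hDb⟩ := exists_isDefectGroup (p := p) hMp hb
    have h1 : pCore p H ≤ Db := Cfsg.Agent.S0912.result p M hM b hb Db hDb
    have hPn : (P.subgroupOf H).Normal := (Subgroup.normal_subgroupOf_iff_le_normalizer hPH).2 hHN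
    have h2 : P.subgroupOf H ≤ pCore p H := Cfsg.Agent.Lib.Lead.le_pCore hPn hP.comap_subtype
    obtain ⟨E, hE, hDbE⟩ := exists_defectGroup_ge_of_induced hM H hind hDb
    refine ⟨E, hE, 1, ?_⟩
    have h3 : P ≤ E :=
      le_trans (subgroupOf_map_subtype_of_le hPH).symm.le
        ((Subgroup.map_mono (h2.trans h1)).trans hDbE)
    rintro _ ⟨u, hu, rfl⟩
    simpa using h3 hu
  · rintro ⟨D, hD, hx⟩
    obtain ⟨g, _, hgJ, c, hgc, hcP⟩ := (exists_unit_coeff_iff hM hB hD P hP).2 hx
    have hcf : blockCoeff B c = blockCoeff B g := by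
      obtain ⟨t, ht⟩ := isConj_iff.1 hgc
      rw [← ht]
      exact (blockCoeff_spec hMp hB).1 g t
    rw [← hcf] at hgJ
    obtain ⟨ξ, χ, hχB, hχ⟩ := exists_brauer_correspondent hM P H hP hCH hHN hB hcP hgJ
    have hind := isInducedBlock_of_brauerLam hM P H hP hPH hHN ξ χ hχ
    rw [← eq_blockOf_of_mem hMp hB hχB] at hind
    exact ⟨_, hind⟩

end

end Cfsg.Agent.Lib.Helper8
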