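import Mathlib
import Cfsg.Prelude.Def_Blocks
import Cfsg.Agent.Lib.Helper8.BlockFirstMain4

/-!
# Further consequences of the First Main Theorem: the Brauer image of a block idempotent
-/

set_option autoImplicit false
set_option linter.unusedSectionVars false

namespace Cfsg.Agent.Lib.Helper8

open Cfsg
open scoped ComplexConjugate
open Cfsg.Agent.Lib.Helper1 Cfsg.Agent.Lib.Helper4

universe u

section

variable {G : Type u} [Group G] [Fintype G] {M : Ideal AlgInt} {p : ℕ}

/-- A class function is the sum of its values times the class indicators. -/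
theorem classFunction_eq_sum_classIndicator [Fintype (ConjClasses G)] {F : G → ℂ}
    (hF : IsClassFunction G F) :
    F = ∑ c : ConjClasses G, F (Quotient.out c) • classIndicator (Quotient.out c) := by
  classical
  funext g
  rw [Finset.sum_apply]
  rw [Finset.sum_eq_single (ConjClasses.mk g)]
  · rw [Pi.smul_apply, smul_eq_mul]
    have hconj : IsConj (Quotient.out (ConjClasses.mk g)) g := by
      rw [← ConjClasses.mk_eq_mk_iff_isConj]
      exact Quotient.out_eq _
    unfold classIndicator
    rw [if_pos hconj, mul_one]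
    obtain ⟨t, ht⟩ := isConj_iff.1 hconj
    conv_lhs => rw [← ht, hF]
  · intro c _ hc
    rw [Pi.smul_apply, smul_eq_mul]
    unfold classIndicator
    rw [if_neg, mul_zero]
    intro hconj
    apply hc
    rw [← Quotient.out_eq c]
    exact (ConjClasses.mk_eq_mk_iff_isConj.2 hconj)
  · intro h
    exact absurd (Finset.mem_univ _) h

/-- If `b` induces `B`, the Brauer functional of a member of `b` is congruent to the central
character of a member of `B` on all class functions with local-integral values. -/
theorem brauerLam_cong_of_induced (hM : IsPModular p M) (P H : Subgroup G) [Fintype H]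
    (hP : IsPGroup p P) (hPH : P ≤ H) (hHN : H ≤ Subgroup.normalizer (P : Set G))
    {b : Set (IrrCharacter H)} {B : Set (IrrCharacter G)} (hind : IsInducedBlock M H b B)
    {ψ : IrrCharacter H} (hψ : ψ ∈ b) {χ : IrrCharacter G} (hχ : χ ∈ B)
    {F : G → ℂ} (hF : IsClassFunction G F) (hFS : ∀ g, MemLocalRing M (F g)) :
    MemLocalIdeal M (brauerLam P H (ψ : H → ℂ) F - omega (χ : G → ℂ) F) := by
  classical
  have : Fintype (ConjClasses G) := Fintype.ofFinite _
  have hMp := isPModular_isPrime hM
  rw [omega_eq_sum_classes χ.2 hF]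
  have hdec : brauerLam P H (ψ : H → ℂ) F = brauerLam P H (ψ : H → ℂ)
      (∑ c : ConjClasses G, F (Quotient.out c) • classIndicator (Quotient.out c)) := by
    rw [← classFunction_eq_sum_classIndicator hF]
  rw [hdec, map_sum, ← Finset.sum_sub_distrib]
  apply memLocalIdeal_sum hMp
  intro c _
  rw [map_smul, smul_eq_mul, ← mul_sub, ← brauerCentralChar_eq_brauerLam]
  apply memLocalIdeal_mul_left hMp (hFS _)
  have c1 := memLocalIdeal_induced_sub_brauer hM P H hP hPH hHN ψ (Quotient.out c)
  have c2 := hind.2.2 ψ hψ χ hχ (Quotient.out c)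
  exact cong_trans hMp (cong_symm c1) c2

end

section

variable {G : Type u} [Group G] [Finite G] {M : Ideal AlgInt} {p : ℕ} [Fact p.Prime]

/-- If `B` has defect group `P`, `P ≤ H ≤ N_G(P)` and the block `b` of `H` induces `B`, then `b`
has defect group `P`. -/
theorem isDefectGroup_of_induced (hM : IsPModular p M) (P H : Subgroup G) (hPH : P ≤ H)
    (hHN : H ≤ Subgroup.normalizer (P : Set G)) {B : Set (IrrCharacter G)}
    (hBP : IsDefectGroup p M B P) {b : Set (IrrCharacter H)} (hind : IsInducedBlock M H b B) :
    IsDefectGroup p M b (P.subgroupOf H) := by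
  classical
  have : Fintype G := Fintype.ofFinite G
  have : Fintype H := Fintype.ofFinite _
  have hMp := isPModular_isPrime hM
  have hb := hind.1
  have hB := hind.2.1
  have hP := isPGroup_of_isDefectGroup hBP
  have hPcard : Nat.card P = p ^ blockDefect p B := card_of_isDefectGroup hM hB hBP
  obtain ⟨Db, hDb⟩ := exists_isDefectGroup (p := p) hMp hb
  have h1 : pCore p H ≤ Db := Cfsg.Agent.S0912.result p M hM _ hb Db hDb
  have hPn : (P.subgroupOf H).Normal := (Subgroup.normal_subgroupOf_iff_le_normalizer hPH).2 hHN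
  have h2 : P.subgroupOf H ≤ pCore p H := Cfsg.Agent.Lib.Lead.le_pCore hPn hP.comap_subtype
  obtain ⟨E, hE, hDbE⟩ := exists_defectGroup_ge_of_induced hM H hind hDb
  have hEcard : Nat.card E = p ^ blockDefect p B := card_of_isDefectGroup hM hB hE
  have hPDb : P ≤ Db.map H.subtype :=
    le_trans (subgroupOf_map_subtype_of_le hPH).symm.le (Subgroup.map_mono (h2.trans h1))
  have hPE : P = E := Subgroup.eq_of_le_of_card_ge (hPDb.trans hDbE) (by rw [hEcard, hPcard])
  have hmap : Db.map H.subtype = P := le_antisymm (hDbE.trans hPE.symm.le) hPDb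
  have hDbeq : Db = P.subgroupOf H := by
    have e := Subgroup.comap_map_eq_self_of_injective (Subgroup.subtype_injective H) Db
    have e2 := congrArg (fun X : Subgroup G => X.comap H.subtype) hmap
    exact e.symm.trans e2
  rw [← hDbeq]
  exact hDb

end

section

variable {G : Type u} [Group G] [Fintype G] {M : Ideal AlgInt} {p : ℕ}

/-- **The Brauer image of a block idempotent.**  For `P C_G(P) ≤ H ≤ N_G(P)`, the truncation to
`C_G(P)` of the idempotent of `B`, as a function on `H`, is congruent to the idempotent of the set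
`A` of characters of `H` on which its central character is `1`; every member of `A` lies in a
block inducing `B`, and every block inducing `B` lies in `A`. -/
theorem brauer_image_cong (hM : IsPModular p M) (P H : Subgroup G) [Fintype H]
    (hP : IsPGroup p P) (hPH : P ≤ H) (hCH : Subgroup.centralizer (P : Set G) ≤ H)
    (hHN : H ≤ Subgroup.normalizer (P : Set G)) {B : Set (IrrCharacter G)} (hB : IsPBlock M B)
    (A : Set (IrrCharacter H))
    (hA : ∀ ψ : IrrCharacter H, ψ ∈ A ↔ MemLocalIdeal M (brauerLam P H (ψ : H → ℂ) (blockCoeff B) - 1)) :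
    (∀ h : H, MemLocalIdeal M
      (truncTo (Subgroup.centralizer (P : Set G) : Set G) (blockCoeff B) (h : G) - blockCoeff A h)) ∧
    (∀ ξ ∈ A, IsInducedBlock M H (blockOf M (ξ : H → ℂ)) B) ∧
    (∀ b : Set (IrrCharacter H), IsInducedBlock M H b B → b ⊆ A) := by
  classical
  have hMp := isPModular_isPrime hM
  obtain ⟨hcf, hS, hω⟩ := blockCoeff_spec hMp hB
  set C : Set G := (Subgroup.centralizer (P : Set G) : Set G) with hCdef
  set β : H → ℂ := fun h : H => truncTo C (blockCoeff B) (h : G) with hβ
  have hβcf : IsClassFunction H β := isClassFunction_restrict_truncTo P H hHN hcf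
  have hβS : ∀ h, MemLocalRing M (β h) := fun h => memLocalRing_truncTo hMp.ne_top C hS (h : G)
  have hid : ∀ h : H, MemLocalIdeal M (conv β β h - β h) := by
    intro h
    have h1 := brauer_conv hM P hP hcf hcf hS hS (h : G)
    rw [conv_blockCoeff_self hMp hB] at h1
    have hsupp : ∀ g, g ∉ H → truncTo C (blockCoeff B) g = 0 := by
      intro g hg
      apply truncTo_of_not_mem
      intro hgC
      exact hg (hCH hgC)
    rw [conv_restrict H hsupp h] at h1
    exact cong_symm h1
  have hA' : ∀ ψ : IrrCharacter H, ψ ∈ A ↔ MemLocalIdeal M (omega (ψ : H → ℂ) β - 1) := by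
    intro ψ
    rw [hA ψ, brauerLam_apply]
  obtain ⟨h0, hAcf, hAω, hAS, hAc⟩ := cong_blockCoeff_of_idempotent hMp hβcf hβS hid A hA'
  refine ⟨hAc, ?_, ?_⟩
  · intro ξ hξ
    obtain ⟨χ, hχ⟩ := exists_irr_brauerLam hM P H hP hCH hHN ξ.2
    have hχB : χ ∈ B := by
      by_contra hχB
      have h1 := hχ (blockCoeff B) hcf hS
      rw [hω χ, if_neg hχB, sub_zero] at h1
      have h2 := (hA ξ).1 hξ
      have := memLocalIdeal_sub hMp h1 h2
      rw [sub_sub_cancel] at this
      exact not_memLocalIdeal_one hMp this
    have hind := isInducedBlock_of_brauerLam hM P H hP hPH hHN ξ χ hχ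
    rwa [← eq_blockOf_of_mem hMp hB hχB] at hind
  · intro b hind ψ hψ
    rw [hA ψ]
    obtain ⟨χ, hχ⟩ : ∃ χ, χ ∈ B := by
      obtain ⟨χ₀, rfl⟩ := hB
      exact ⟨χ₀, sameBlock_refl hMp.ne_top _⟩
    have h1 := brauerLam_cong_of_induced hM P H hP hPH hHN hind hψ hχ hcf hS
    rwa [hω χ, if_pos hχ] at h1

end

section

variable {G : Type u} [Group G] [Finite G] {M : Ideal AlgInt} {p : ℕ} [Fact p.Prime]

/-- If `B` has defect group `P` and `β` is its Brauer correspondent in `N_G(P)`, the truncation to
`C_G(P)` of the idempotent of `B` is congruent to the idempotent of `β` on `N_G(P)`. -/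
theorem brauer_image_cong_normalizer (hM : IsPModular p M) {P : Subgroup G}
    {B : Set (IrrCharacter G)} (hB : IsPBlock M B) (hBP : IsDefectGroup p M B P)
    {β : Set (IrrCharacter (Subgroup.normalizer (P : Set G)))} (hβ : IsPBlock M β)
    (hβP : IsDefectGroup p M β (P.subgroupOf (Subgroup.normalizer (P : Set G))))
    (hind : IsInducedBlock M (Subgroup.normalizer (P : Set G)) β B)
    (h : Subgroup.normalizer (P : Set G)) :
    MemLocalIdeal M
      (truncTo (Subgroup.centralizer (P : Set G) : Set G) (blockCoeff B) (h : G) - blockCoeff β h) := by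
  classical
  have : Fintype G := Fintype.ofFinite G
  have : Fintype (Subgroup.normalizer (P : Set G)) := Fintype.ofFinite _
  have hMp := isPModular_isPrime hM
  have hP := isPGroup_of_isDefectGroup hBP
  have hPN : P ≤ Subgroup.normalizer (P : Set G) := Subgroup.le_normalizer
  set A : Set (IrrCharacter (Subgroup.normalizer (P : Set G))) :=
    {ψ | MemLocalIdeal M (brauerLam P (Subgroup.normalizer (P : Set G))
      (ψ : Subgroup.normalizer (P : Set G) → ℂ) (blockCoeff B) - 1)} with hA
  obtain ⟨h1, h2, h3⟩ := brauer_image_cong hM P (Subgroup.normalizer (P : Set G)) hP hPN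
    (Subgroup.centralizer_le_normalizer _) le_rfl hB A (fun ψ => Iff.rfl)
  have hAβ : A = β := by
    apply Set.Subset.antisymm
    · intro ξ hξ
      have hi := h2 ξ hξ
      have hd := isDefectGroup_of_induced hM P (Subgroup.normalizer (P : Set G)) hPN le_rfl hBP hi
      have := firstMain_unique hM P hP ⟨ξ, rfl⟩ hβ hd hβP hi hind
      rw [← this]
      exact sameBlock_refl hMp.ne_top _
    · exact h3 β hind
  rw [← hAβ]
  exact h1 h

end

end Cfsg.Agent.Lib.Helper8
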