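import Mathlib
import Cfsg.Prelude.Def_Blocks
import Cfsg.Agent.Lib.Helper8.BlockRank
import Cfsg.Agent.S0164

/-!
# The class function `χ̃ = |G|_p χ 1_{G°}` is a generalized character (Navarro 2.15 / 3.23)
-/

set_option autoImplicit false

namespace Cfsg.Agent.Lib.Helper8

open Cfsg
open scoped ComplexConjugate
open Cfsg.Agent.Lib.Helper1 Cfsg.Agent.Lib.Helper4

universe u

section

/-- A finite nilpotent group has a normal `p`-complement consisting exactly of the `p`-regular
elements. -/
theorem exists_normal_pComplement_of_isNilpotent {E : Type u} [Group E] [Finite E]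
    [Group.IsNilpotent E] (p : ℕ) [hp : Fact p.Prime] :
    ∃ K : Subgroup E, K.Normal ∧ (∀ y : E, y ∈ K ↔ ¬ p ∣ orderOf y) ∧
      K.index = p ^ (Nat.card E).factorization p := by
  classical
  by_cases hpE : p ∣ Nat.card E
  · have hmem : p ∈ (Nat.card E).primeFactors :=
      Nat.mem_primeFactors.2 ⟨hp.1, hpE, Nat.card_pos.ne'⟩
    obtain ⟨φ⟩ := (Group.isNilpotent_of_finite_tfae (G := E)).out 0 4 rfl rfl |>.mp ‹_›
    obtain ⟨P₀⟩ : Nonempty (Sylow p E) := inferInstance
    let π₁ : (∀ q : (Nat.card E).primeFactors, ∀ P : Sylow q E, (↑P : Subgroup E)) →*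
        (∀ P : Sylow p E, (↑P : Subgroup E)) :=
      Pi.evalMonoidHom (fun q : (Nat.card E).primeFactors => ∀ P : Sylow q E, (↑P : Subgroup E))
        ⟨p, hmem⟩
    let π₂ : (∀ P : Sylow p E, (↑P : Subgroup E)) →* (↑P₀ : Subgroup E) :=
      Pi.evalMonoidHom (fun P : Sylow p E => (↑P : Subgroup E)) P₀
    let π : E →* (↑P₀ : Subgroup E) := (π₂.comp π₁).comp φ.symm.toMonoidHom
    have hsurj : Function.Surjective π := by
      intro y
      let f : ∀ q : (Nat.card E).primeFactors, ∀ P : Sylow q E, (↑P : Subgroup E) :=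
        fun q => if h : q = ⟨p, hmem⟩ then by
          subst h
          exact fun P => if h2 : P = P₀ then by subst h2; exact y else 1
        else 1
      refine ⟨φ f, ?_⟩
      simp only [π, π₁, π₂, MonoidHom.comp_apply, MulEquiv.coe_toMonoidHom,
        MulEquiv.symm_apply_apply, Pi.evalMonoidHom_apply, f, dite_true]
    have hcardP : Nat.card (↑P₀ : Subgroup E) = p ^ (Nat.card E).factorization p :=
      Sylow.card_eq_multiplicity P₀
    have hidx : π.ker.index = p ^ (Nat.card E).factorization p := by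
      rw [Subgroup.index_ker, MonoidHom.range_eq_top.2 hsurj, ← hcardP]
      exact Nat.card_congr (Subgroup.topEquiv).toEquiv
    refine ⟨π.ker, inferInstance, ?_, hidx⟩
    intro y
    rw [MonoidHom.mem_ker]
    constructor
    · intro hy hdvd
      have hy' : y ∈ π.ker := hy
      have h1 : orderOf y ∣ Nat.card π.ker := by
        have := orderOf_dvd_natCard (⟨y, hy'⟩ : π.ker)
        rwa [Subgroup.orderOf_mk] at this
      have h2 : Nat.card π.ker * p ^ (Nat.card E).factorization p = Nat.card E := by
        rw [← hidx]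
        exact Subgroup.card_mul_index _
      have h3 : p ∣ Nat.card π.ker := hdvd.trans h1
      have h4 : p ^ ((Nat.card E).factorization p + 1) ∣ Nat.card E := by
        obtain ⟨c, hc⟩ := h3
        refine ⟨c, ?_⟩
        conv_lhs => rw [← h2, hc]
        rw [pow_succ]
        ring
      exact Nat.pow_succ_factorization_not_dvd Nat.card_pos.ne' hp.1 h4
    · intro hy
      have h1 : orderOf (π y) ∣ orderOf y := orderOf_map_dvd π y
      obtain ⟨k, hk⟩ := (IsPGroup.iff_orderOf.1 P₀.isPGroup') (π y)
      rw [hk] at h1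
      rcases Nat.eq_zero_or_pos k with rfl | hkpos
      · rw [pow_zero, orderOf_eq_one_iff] at hk
        exact hk
      · exfalso
        exact hy ((dvd_pow_self p hkpos.ne').trans h1)
  · refine ⟨⊤, inferInstance, ?_, ?_⟩
    · intro y
      simp only [Subgroup.mem_top, true_iff]
      intro h
      exact hpE (h.trans (orderOf_dvd_natCard y))
    · rw [Subgroup.index_top, Nat.factorization_eq_zero_of_not_dvd hpE, pow_zero]

/-- If the `p`-regular elements of `E` form a normal subgroup `K` whose index divides `n`, then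
`n · 1_{E°}` is a character of `E`. -/
theorem isCharacter_pRegIndicator {E : Type u} [Group E] [Finite E] (p : ℕ)
    (K : Subgroup E) [hK : K.Normal] (hmem : ∀ y : E, y ∈ K ↔ ¬ p ∣ orderOf y) (n : ℕ)
    (hn : K.index ∣ n) :
    IsCharacter E (fun y : E => if p ∣ orderOf y then (0 : ℂ) else (n : ℂ)) := by
  classical
  have : Fintype E := Fintype.ofFinite E
  obtain ⟨c, rfl⟩ := hn
  have h1 : IsCharacter E (indFun K (fun _ : K => (1 : ℂ))) :=
    Cfsg.Agent.S0148.result K _ (isCharacter_of_irr Cfsg.Agent.S0161.isIrrCharacter_one)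
  have h2 := isCharacter_nsmul h1 c
  convert h2 using 1
  funext y
  rw [Pi.smul_apply, smul_eq_mul, indFun_apply]
  have hK0 : (Nat.card K : ℂ) ≠ 0 := Nat.cast_ne_zero.2 Nat.card_pos.ne'
  by_cases hy : p ∣ orderOf y
  · rw [if_pos hy]
    have hyK : y ∉ K := fun h => (hmem y).1 h hy
    have : ∀ x : E, extendByZero K (fun _ : K => (1 : ℂ)) (x⁻¹ * y * x) = 0 := by
      intro x
      apply extendByZero_of_notMem
      intro hx
      apply hyK
      have := hK.conj_mem _ hx x
      simpa [mul_assoc] using this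
    simp only [this, Finset.sum_const_zero, mul_zero]
  · rw [if_neg hy]
    have hyK : y ∈ K := (hmem y).2 hy
    have : ∀ x : E, extendByZero K (fun _ : K => (1 : ℂ)) (x⁻¹ * y * x) = 1 := by
      intro x
      have hx : x⁻¹ * y * x ∈ K := by
        have := hK.conj_mem _ hyK x⁻¹
        simpa using this
      rw [extendByZero_of_mem _ _ hx]
    simp only [this, Finset.sum_const, Finset.card_univ, nsmul_eq_mul, mul_one]
    have hcard : (Fintype.card E : ℂ) = (Nat.card K : ℂ) * (K.index : ℂ) := by
      rw [← Nat.cast_mul, Subgroup.card_mul_index, Nat.card_eq_fintype_card]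
    rw [hcard]
    push_cast
    field_simp

/-- The function `c · χ` on `p`-regular elements and `0` elsewhere. -/
noncomputable def pRegScale {G : Type u} [Group G] (p : ℕ) (c : ℂ) (χ : G → ℂ) : G → ℂ :=
  fun x => if p ∣ orderOf x then (0 : ℂ) else c * χ x

theorem pRegScale_apply {G : Type u} [Group G] (p : ℕ) (c : ℂ) (χ : G → ℂ) (x : G) :
    pRegScale p c χ x = if p ∣ orderOf x then (0 : ℂ) else c * χ x := rfl

theorem pRegScale_of_dvd {G : Type u} [Group G] {p : ℕ} (c : ℂ) (χ : G → ℂ) {x : G}
    (hx : p ∣ orderOf x) : pRegScale p c χ x = 0 := by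
  rw [pRegScale_apply, if_pos hx]

theorem pRegScale_of_not_dvd {G : Type u} [Group G] {p : ℕ} (c : ℂ) (χ : G → ℂ) {x : G}
    (hx : ¬ p ∣ orderOf x) : pRegScale p c χ x = c * χ x := by
  rw [pRegScale_apply, if_neg hx]

theorem pRegScale_eq_smul {G : Type u} [Group G] (p : ℕ) (c : ℂ) (χ : G → ℂ) :
    pRegScale p c χ = c • pRegularPart p χ := by
  funext x
  rw [Pi.smul_apply, smul_eq_mul]
  by_cases hx : p ∣ orderOf x
  · rw [pRegScale_of_dvd _ _ hx, pRegularPart_of_dvd _ hx, mul_zero]
  · rw [pRegScale_of_not_dvd _ _ hx, pRegularPart_of_not_dvd _ hx]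

theorem isClassFunction_pRegScale {G : Type u} [Group G] (p : ℕ) (c : ℂ) {χ : G → ℂ}
    (hχ : IsClassFunction G χ) : IsClassFunction G (pRegScale p c χ) := by
  intro g h
  rw [pRegScale_apply, pRegScale_apply]
  have : orderOf (h * g * h⁻¹) = orderOf g := by
    have := MulEquiv.orderOf_eq (MulAut.conj h) g
    simpa [MulAut.conj_apply] using this
  rw [this, hχ g h]

/-- **Navarro 2.15**: if `|G|_p` divides `n` and `χ` is a character, then `n χ 1_{G°}` is a
generalized character. -/
theorem isGenChar_pRegScale {G : Type u} [Group G] [Finite G] (p : ℕ) [hp : Fact p.Prime]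
    {χ : G → ℂ} (hχ : IsCharacter G χ) (n : ℕ) (hn : p ^ (Nat.card G).factorization p ∣ n) :
    IsGeneralizedCharacter G (pRegScale p (n : ℂ) χ) := by
  classical
  apply Cfsg.Agent.S0164.result _ (isClassFunction_pRegScale p _ (isClassFunction_of_isCharacter hχ))
  intro E q hq hE
  have : Fact q.Prime := ⟨hq⟩
  have : Group.IsNilpotent E := Cfsg.Agent.Lib.Helper2.BrauerInd.isNilpotent_of_isElementary hE
  obtain ⟨K, hKn, hKmem, hKidx⟩ := exists_normal_pComplement_of_isNilpotent (E := E) p
  have hdvd : K.index ∣ n := by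
    rw [hKidx]
    refine dvd_trans (pow_dvd_pow p ?_) hn
    have h1 : Nat.card E ∣ Nat.card G := Subgroup.card_subgroup_dvd_card E
    exact (Nat.factorization_le_iff_dvd Nat.card_pos.ne' Nat.card_pos.ne').2 h1 p
  have h1 := isCharacter_pRegIndicator p K hKmem n hdvd
  have h2 := Cfsg.Agent.S0148.isCharacter_restrict E hχ
  have h3 := Cfsg.Agent.S0177.isGenChar_mul (isGenChar_of_isCharacter h1)
    (isGenChar_of_isCharacter h2)
  convert h3 using 1
  funext e
  rw [Pi.mul_apply, pRegScale_apply, Subgroup.orderOf_coe]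
  split_ifs <;> simp

end

end Cfsg.Agent.Lib.Helper8
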