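import Mathlib
import Cfsg.Prelude.Def_Blocks
import Cfsg.Agent.Lib.Helper8.TildeChar
import Cfsg.Agent.Lib.Helper8.BlockFirstMain5
import Cfsg.Agent.Lib.Helper8.Deflation

/-!
# `χ̃` and blocks (Navarro 3.22–3.24)
-/

set_option autoImplicit false

namespace Cfsg.Agent.Lib.Helper8

open Cfsg
open scoped ComplexConjugate
open Cfsg.Agent.Lib.Helper1 Cfsg.Agent.Lib.Helper4

universe u

/-- There is a maximal ideal of the algebraic integers containing `p`. -/
theorem exists_isPModular (p : ℕ) [hp : Fact p.Prime] : ∃ M : Ideal AlgInt, IsPModular p M := by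
  have hne : Ideal.span {(p : AlgInt)} ≠ ⊤ := by
    intro h
    rw [Ideal.span_singleton_eq_top] at h
    obtain ⟨u, hu⟩ := h.exists_right_inv
    have hu' : (p : ℂ) * (u : ℂ) = 1 := by
      have := congrArg (fun z : AlgInt => (z : ℂ)) hu
      simpa using this
    have hp0 : (p : ℂ) ≠ 0 := Nat.cast_ne_zero.2 hp.1.pos.ne'
    have hu2 : (u : ℂ) = ((1 / p : ℚ) : ℂ) := by
      push_cast
      field_simp
      rw [mul_comm]; exact hu'
    have hint : IsIntegral ℤ ((1 / p : ℚ) : ℂ) := by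
      rw [← hu2]
      exact u.2
    have hint' : IsIntegral ℤ (1 / p : ℚ) := by
      have := (isIntegral_algebraMap_iff (algebraMap ℚ ℂ).injective (R := ℤ) (x := (1 / p : ℚ))).1
      apply this
      simpa using hint
    obtain ⟨n, hn⟩ := IsIntegrallyClosed.isIntegral_iff.1 hint'
    have h1 : (n : ℚ) * p = 1 := by
      have : (algebraMap ℤ ℚ) n = (n : ℚ) := rfl
      rw [this] at hn
      rw [hn]
      have hp0' : (p : ℚ) ≠ 0 := Nat.cast_ne_zero.2 hp.1.pos.ne'
      field_simp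
    have h2 : n * (p : ℤ) = 1 := by exact_mod_cast h1
    have h3 : (p : ℤ) ∣ 1 := ⟨n, by rw [← h2, mul_comm]⟩
    have h4 : p ∣ 1 := by exact_mod_cast h3
    exact hp.1.one_lt.ne' (Nat.dvd_one.1 h4)
  obtain ⟨M, hM, hle⟩ := Ideal.exists_le_maximal _ hne
  exact ⟨M, hp.1, hM, hle (Ideal.mem_span_singleton_self _)⟩

section Arith

variable {M : Ideal AlgInt} {p : ℕ}

/-- If `n / d` (`n` an integer, `d` a nonzero natural number) lies in the local ring then the
`p`-part of `d` divides `n`. -/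
theorem pow_dvd_of_memLocalRing_int_div (h : IsPModular p M) (n : ℤ) (d : ℕ) (hd : d ≠ 0)
    (hq : MemLocalRing M ((n : ℂ) / (d : ℂ))) : ((p ^ d.factorization p : ℕ) : ℤ) ∣ n := by
  have hMp := isPModular_isPrime h
  have h1 : MemLocalRing M ((n.natAbs : ℂ) / (d : ℂ)) := by
    rcases Int.natAbs_eq n with hn | hn
    · have : ((n.natAbs : ℕ) : ℂ) = (n : ℂ) := by
        conv_rhs => rw [hn]
        simp
      rw [this]
      exact hq
    · have : ((n.natAbs : ℕ) : ℂ) = -(n : ℂ) := by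
        conv_rhs => rw [hn]
        simp
      rw [this, neg_div]
      exact memLocalRing_neg hq
  have h2 := pow_dvd_of_memLocalRing_div h n.natAbs d hd h1
  exact Int.natCast_dvd.2 h2

/-- The quotient `n / d` is a unit of the local ring iff `n ≠ 0` and `ν_p(n) = ν_p(d)`. -/
theorem unit_div_iff [hp : Fact p.Prime] (h : IsPModular p M) (n : ℤ) (d : ℕ) (hd : d ≠ 0) :
    (MemLocalRing M ((n : ℂ) / (d : ℂ)) ∧ ¬ MemLocalIdeal M ((n : ℂ) / (d : ℂ))) ↔
      (n ≠ 0 ∧ padicValInt p n = d.factorization p) := by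
  have hMp := isPModular_isPrime h
  set k := d.factorization p with hk
  obtain ⟨c, hc⟩ : p ^ k ∣ d := Nat.ordProj_dvd d p
  have hcp : ¬ p ∣ c := by
    intro hpc
    have : p ^ (k + 1) ∣ d := by
      rw [hc, pow_succ]
      exact Nat.mul_dvd_mul_left _ hpc
    have h5 := (h.1.pow_dvd_iff_le_factorization hd).1 this
    omega
  have hc0 : (c : ℂ) ≠ 0 := by
    apply Nat.cast_ne_zero.2
    rintro rfl
    exact hcp (dvd_zero p)
  have hp0 : (p : ℂ) ≠ 0 := Nat.cast_ne_zero.2 h.1.pos.ne'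
  have hcinv : MemLocalRing M ((c : ℂ)⁻¹) := memLocalRing_inv_natCast h hcp
  -- reduce to `n = p^k n'`
  have key : ∀ n' : ℤ, n = ((p ^ k : ℕ) : ℤ) * n' → (n : ℂ) / (d : ℂ) = (n' : ℂ) * (c : ℂ)⁻¹ := by
    intro n' hn'
    rw [hn', hc]
    push_cast
    field_simp
  constructor
  · rintro ⟨h1, h2⟩
    obtain ⟨n', hn'⟩ := pow_dvd_of_memLocalRing_int_div h n d hd h1
    have hn'p : ¬ (p : ℤ) ∣ n' := by
      intro hdvd
      apply h2
      rw [key n' hn']
      exact memLocalIdeal_mul_right hMp ((memLocalIdeal_intCast_iff h n').2 hdvd) hcinv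
    have hn'0 : n' ≠ 0 := by
      rintro rfl
      exact hn'p (dvd_zero _)
    have hpk0 : ((p ^ k : ℕ) : ℤ) ≠ 0 := by
      exact_mod_cast (pow_pos h.1.pos k).ne'
    refine ⟨?_, ?_⟩
    · rw [hn']
      exact mul_ne_zero hpk0 hn'0
    · rw [hn', padicValInt.mul hpk0 hn'0]
      have e1 : padicValInt p ((p ^ k : ℕ) : ℤ) = k := by
        rw [padicValInt.of_nat, padicValNat.prime_pow]
      have e2 : padicValInt p n' = 0 := padicValInt.eq_zero_of_not_dvd hn'p
      rw [e1, e2, add_zero]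
  · rintro ⟨hn0, hval⟩
    have hdvd : ((p : ℤ)) ^ k ∣ n := by
      rw [padicValInt_dvd_iff]
      right
      rw [hval]
    obtain ⟨n', hn'⟩ := hdvd
    have hn'' : n = ((p ^ k : ℕ) : ℤ) * n' := by
      rw [hn']
      push_cast
      rfl
    have hn'p : ¬ (p : ℤ) ∣ n' := by
      intro hdvd
      have : (p : ℤ) ^ (k + 1) ∣ n := by
        rw [hn', pow_succ]
        exact mul_dvd_mul_left _ hdvd
      rw [padicValInt_dvd_iff] at this
      rcases this with h0 | h0
      · exact hn0 h0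
      · omega
    rw [key n' hn'']
    refine ⟨memLocalRing_mul hMp (memLocalRing_intCast hMp.ne_top n') hcinv, ?_⟩
    intro hJ
    apply hn'p
    rw [← memLocalIdeal_intCast_iff h n']
    have := memLocalIdeal_mul_right hMp hJ (memLocalRing_natCast hMp.ne_top c)
    rwa [mul_assoc, inv_mul_cancel₀ hc0, mul_one] at this

end Arith

section Main

variable {G : Type u} [Group G] [Fintype G] {M : Ideal AlgInt} {p : ℕ}

/-- `g ↦ χ(g⁻¹) 1_{G°}(g)`. -/
noncomputable def pRegInv (p : ℕ) (χ : G → ℂ) : G → ℂ := fun g => pRegularPart p χ g⁻¹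

omit [Fintype G] in
theorem pRegInv_apply (χ : G → ℂ) (g : G) : pRegInv p χ g = pRegularPart p χ g⁻¹ := rfl

omit [Fintype G] in
theorem isClassFunction_pRegInv {χ : G → ℂ} (hχ : IsClassFunction G χ) :
    IsClassFunction G (pRegInv p χ) := by
  intro g h
  rw [pRegInv_apply, pRegInv_apply]
  have := isClassFunction_pRegularPart (p := p) hχ g⁻¹ h
  rw [← this]
  congr 1
  group

omit [Fintype G] in
theorem memLocalRing_pRegInv [Finite G] (hM : M ≠ ⊤) {χ : G → ℂ} (hχ : IsCharacter G χ) (g : G) :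
    MemLocalRing M (pRegInv p χ g) := by
  rw [pRegInv_apply]
  by_cases hg : p ∣ orderOf g⁻¹
  · rw [pRegularPart_of_dvd _ hg]
    exact memLocalRing_zero hM
  · rw [pRegularPart_of_not_dvd _ hg]
    exact memLocalRing_of_isIntegral hM (Cfsg.Agent.S0161.isIntegral_isCharacter hχ _)

/-- The inner product with an irreducible character through its central character. -/
theorem classInner_eq_omega {ψ : G → ℂ} (hψ : IsIrrCharacter G ψ) (φ : G → ℂ) :
    classInner φ ψ = ψ 1 / (Nat.card G : ℂ) * omega ψ (fun g => φ g⁻¹) := by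
  rw [classInner_def]
  unfold omega
  have h1 : ∑ g, φ g * conj (ψ g) = ∑ g, φ g⁻¹ * ψ g := by
    rw [← Equiv.sum_comp (Equiv.inv G)]
    refine Finset.sum_congr rfl fun g _ => ?_
    simp only [Equiv.inv_apply]
    rw [← isCharacter_inv (isCharacter_of_irr hψ), inv_inv]
  rw [h1]
  have hψ1 := irr_apply_one_ne_zero hψ
  field_simp

theorem classInner_pRegularPart_div {ψ : G → ℂ} (hψ : IsIrrCharacter G ψ) (χ : G → ℂ) :
    classInner (pRegularPart p χ) ψ / ψ 1 = (Nat.card G : ℂ)⁻¹ * omega ψ (pRegInv p χ) := by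
  rw [classInner_eq_omega hψ]
  have hψ1 := irr_apply_one_ne_zero hψ
  have : (fun g => pRegularPart p χ g⁻¹) = pRegInv p χ := rfl
  rw [this]
  field_simp

/-- `χ̃ = |G|_p χ 1_{G°}`. -/
noncomputable def tilde (p : ℕ) (χ : G → ℂ) : G → ℂ :=
  pRegScale p ((p ^ (Nat.card G).factorization p : ℕ) : ℂ) χ

omit [Fintype G] in
theorem tilde_eq (χ : G → ℂ) : tilde p χ = fun x : G => if p ∣ orderOf x then (0 : ℂ) else
    ((p ^ (Nat.card G).factorization p : ℕ) : ℂ) * χ x := rfl

theorem classInner_pRegScale (c : ℂ) (χ ψ : G → ℂ) :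
    classInner (pRegScale p c χ) ψ = c * classInner (pRegularPart p χ) ψ := by
  rw [pRegScale_eq_smul, classInner_smul_left]

theorem classInner_tilde (χ ψ : G → ℂ) :
    classInner (tilde p χ) ψ =
      ((p ^ (Nat.card G).factorization p : ℕ) : ℂ) * classInner (pRegularPart p χ) ψ :=
  classInner_pRegScale _ _ _

/-- `[χ̃, ψ] = conj [ψ̃, χ]`. -/
theorem classInner_tilde_symm (χ ψ : G → ℂ) :
    classInner (tilde p χ) ψ = conj (classInner (tilde p ψ) χ) := by
  rw [classInner_tilde, classInner_tilde, map_mul, Complex.conj_natCast,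
    classInner_conj_symm, classInner_pRegularPart_left, classInner_pRegularPart_right χ]

omit [Fintype G] in
/-- `|G|_p / |G|` is a unit of the local ring. -/
theorem pPart_div_card_unit [hp : Fact p.Prime] [Finite G] (hM : IsPModular p M) :
    MemLocalRing M (((p ^ (Nat.card G).factorization p : ℕ) : ℂ) / (Nat.card G : ℂ)) ∧
    ¬ MemLocalIdeal M (((p ^ (Nat.card G).factorization p : ℕ) : ℂ) / (Nat.card G : ℂ)) := by
  have hMp := isPModular_isPrime hM
  have hG0 : Nat.card G ≠ 0 := Nat.card_pos.ne'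
  have h1 := Nat.ordProj_mul_ordCompl_eq_self (Nat.card G) p
  have h2 : ¬ p ∣ Nat.card G / p ^ (Nat.card G).factorization p := Nat.not_dvd_ordCompl hp.1 hG0
  set m := Nat.card G / p ^ (Nat.card G).factorization p with hm
  have hm0 : (m : ℂ) ≠ 0 := by
    apply Nat.cast_ne_zero.2
    rintro h0
    rw [h0] at h2
    exact h2 (dvd_zero p)
  have hpk : ((p ^ (Nat.card G).factorization p : ℕ) : ℂ) ≠ 0 :=
    Nat.cast_ne_zero.2 (pow_pos hp.1.pos _).ne'
  have e : ((p ^ (Nat.card G).factorization p : ℕ) : ℂ) / (Nat.card G : ℂ) = (m : ℂ)⁻¹ := by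
    have h1' : (Nat.card G : ℂ) = ((p ^ (Nat.card G).factorization p : ℕ) : ℂ) * (m : ℂ) := by
      rw [← Nat.cast_mul, h1]
    rw [h1']
    field_simp
  rw [e]
  have hmS := memLocalRing_natCast hMp.ne_top m
  have hmJ : ¬ MemLocalIdeal M (m : ℂ) := fun h' => h2 ((memLocalIdeal_natCast_iff hM m).1 h')
  exact ⟨memLocalRing_inv hmS hmJ, not_memLocalIdeal_inv hMp hmS hmJ⟩

/-- `[χ̃, ψ] / ψ(1)` through the central character of `ψ`. -/
theorem tildeRatio_eq {ψ : G → ℂ} (hψ : IsIrrCharacter G ψ) (χ : G → ℂ) :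
    classInner (tilde p χ) ψ / ψ 1 =
      ((p ^ (Nat.card G).factorization p : ℕ) : ℂ) / (Nat.card G : ℂ) * omega ψ (pRegInv p χ) := by
  rw [classInner_tilde, mul_div_assoc, classInner_pRegularPart_div hψ]
  ring

/-- `[χ̃, ψ] / ψ(1)` is a local integer. -/
theorem memLocalRing_tildeRatio [Fact p.Prime] (hM : IsPModular p M) {χ ψ : G → ℂ}
    (hχ : IsCharacter G χ) (hψ : IsIrrCharacter G ψ) :
    MemLocalRing M (classInner (tilde p χ) ψ / ψ 1) := by
  have hMp := isPModular_isPrime hM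
  rw [tildeRatio_eq hψ]
  exact memLocalRing_mul hMp (pPart_div_card_unit hM).1
    (memLocalRing_omega hMp hψ (isClassFunction_pRegInv (isClassFunction_of_isCharacter hχ))
      (memLocalRing_pRegInv hMp.ne_top hχ))

/-- `[χ̃, ψ] / ψ(1)` only depends on the block of `ψ`, modulo the local ideal. -/
theorem memLocalIdeal_tildeRatio_sub [Fact p.Prime] (hM : IsPModular p M) {χ ψ ξ : G → ℂ}
    (hχ : IsCharacter G χ) (hψ : IsIrrCharacter G ψ) (hξ : IsIrrCharacter G ξ)
    (h : SameBlock M ψ ξ) :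
    MemLocalIdeal M (classInner (tilde p χ) ψ / ψ 1 - classInner (tilde p χ) ξ / ξ 1) := by
  have hMp := isPModular_isPrime hM
  rw [tildeRatio_eq hψ, tildeRatio_eq hξ, ← mul_sub]
  exact memLocalIdeal_mul_left hMp (pPart_div_card_unit hM).1
    (memLocalIdeal_omega_sub hMp hψ hξ h
      (isClassFunction_pRegInv (isClassFunction_of_isCharacter hχ))
      (memLocalRing_pRegInv hMp.ne_top hχ))

/-- `[χ̃, ψ]` is an integer. -/
theorem exists_int_classInner_tilde [Fact p.Prime] {χ ψ : G → ℂ}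
    (hχ : IsCharacter G χ) (hψ : IsCharacter G ψ) : ∃ n : ℤ, classInner (tilde p χ) ψ = n := by
  have h1 : IsGeneralizedCharacter G (tilde p χ) := isGenChar_pRegScale p hχ _ dvd_rfl
  exact classInner_genChar_int h1 (isGenChar_of_isCharacter hψ)

/-- `[χ̃, ψ] = 0` for irreducible characters in different blocks. -/
theorem classInner_tilde_eq_zero (hM : IsPModular p M) {χ ψ : IrrCharacter G}
    (h : ¬ SameBlock M (χ : G → ℂ) (ψ : G → ℂ)) :
    classInner (tilde p (χ : G → ℂ)) (ψ : G → ℂ) = 0 := by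
  rw [classInner_tilde, classInner_pRegularPart_eq_zero hM h, mul_zero]

end Main

end Cfsg.Agent.Lib.Helper8
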