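import Mathlib
import Cfsg.Prelude.Def_Blocks
import Cfsg.Agent.Lib.Helper8.TildeBlock

/-!
# Exact divisibility of `χ̃` (Navarro 3.23) and the height-zero criterion (Navarro 3.24)
-/

set_option autoImplicit false

namespace Cfsg.Agent.Lib.Helper8

open Cfsg
open scoped ComplexConjugate
open Cfsg.Agent.Lib.Helper1 Cfsg.Agent.Lib.Helper4

universe u

section Gen

variable {G : Type u} [Group G]

theorem isGenChar_natCast_smul {θ : G → ℂ} (h : IsGeneralizedCharacter G θ) (n : ℕ) :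
    IsGeneralizedCharacter G ((n : ℂ) • θ) := by
  obtain ⟨a, b, ha, hb, rfl⟩ := h
  refine ⟨(n : ℂ) • a, (n : ℂ) • b, isCharacter_nsmul ha n, isCharacter_nsmul hb n, ?_⟩
  rw [smul_sub]

theorem isGenChar_intCast_smul {θ : G → ℂ} (h : IsGeneralizedCharacter G θ) (n : ℤ) :
    IsGeneralizedCharacter G ((n : ℂ) • θ) := by
  rcases Int.eq_nat_or_neg n with ⟨k, rfl | rfl⟩
  · simpa using isGenChar_natCast_smul h k
  · have := isGenChar_neg (isGenChar_natCast_smul h k)
    convert this using 1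
    funext x
    simp

theorem isGenChar_restrict (H : Subgroup G) {θ : G → ℂ} (h : IsGeneralizedCharacter G θ) :
    IsGeneralizedCharacter H (fun x : H => θ x) := by
  obtain ⟨a, b, ha, hb, rfl⟩ := h
  exact ⟨_, _, Cfsg.Agent.S0148.isCharacter_restrict H ha,
    Cfsg.Agent.S0148.isCharacter_restrict H hb, rfl⟩

/-- A generalized character vanishing on the `p`-singular elements has degree divisible by
`|G|_p`. -/
theorem genChar_pReg_apply_one [Finite G] (p : ℕ) [hp : Fact p.Prime] {θ : G → ℂ}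
    (hθ : IsGeneralizedCharacter G θ) (hvan : ∀ x : G, p ∣ orderOf x → θ x = 0) :
    ∃ m : ℤ, θ 1 = (m : ℂ) * ((p ^ (Nat.card G).factorization p : ℕ) : ℂ) := by
  classical
  obtain ⟨P⟩ : Nonempty (Sylow p G) := inferInstance
  have : Fintype (P : Subgroup G) := Fintype.ofFinite _
  have h1 := isGenChar_restrict (P : Subgroup G) hθ
  have h2 : IsGeneralizedCharacter (P : Subgroup G) (fun _ => (1 : ℂ)) :=
    isGenChar_of_irr Cfsg.Agent.S0161.isIrrCharacter_one
  obtain ⟨m, hm⟩ := classInner_genChar_int h1 h2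
  refine ⟨m, ?_⟩
  rw [← hm, classInner_def]
  have hcard : Nat.card (P : Subgroup G) = p ^ (Nat.card G).factorization p :=
    Sylow.card_eq_multiplicity P
  have hsum : ∑ y : (P : Subgroup G), θ (y : G) * conj (1 : ℂ) = θ 1 := by
    rw [Finset.sum_eq_single (1 : (P : Subgroup G))]
    · simp
    · intro y _ hy
      obtain ⟨k, hk⟩ := (IsPGroup.iff_orderOf.1 P.isPGroup') y
      have hk0 : k ≠ 0 := by
        rintro rfl
        rw [pow_zero, orderOf_eq_one_iff] at hk
        exact hy hk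
      have : p ∣ orderOf (y : G) := by
        rw [Subgroup.orderOf_coe, hk]
        exact dvd_pow_self p hk0
      rw [hvan _ this, zero_mul]
    · intro h
      exact absurd (Finset.mem_univ _) h
  rw [hsum, hcard]
  have : ((p ^ (Nat.card G).factorization p : ℕ) : ℂ) ≠ 0 :=
    Nat.cast_ne_zero.2 (pow_pos hp.1.pos _).ne'
  field_simp

end Gen

section Main

variable {G : Type u} [Group G] [Fintype G] {M : Ideal AlgInt} {p : ℕ}

/-- `χ(1)_p` divides `[χ̃, ψ]`. -/
theorem pow_dvd_classInner_tilde [Fact p.Prime] {χ ψ : G → ℂ} (hχ : IsIrrCharacter G χ)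
    (hψ : IsCharacter G ψ) {n : ℤ} (hn : classInner (tilde p χ) ψ = n) :
    ((p ^ (charDegree χ).factorization p : ℕ) : ℤ) ∣ n := by
  obtain ⟨M, hM⟩ := exists_isPModular p
  have h1 : classInner (tilde p ψ) χ = n := by
    have := classInner_tilde_symm (p := p) ψ χ
    rw [hn] at this
    rw [this]
    exact map_intCast _ n
  have h2 := memLocalRing_tildeRatio hM hψ hχ
  obtain ⟨hd1, hd0⟩ := irr_apply_one_eq_charDegree hχ
  rw [h1, hd1] at h2
  exact pow_dvd_of_memLocalRing_int_div hM n _ hd0.ne' h2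

omit [Fintype G] in
theorem pRegScale_smul (c d : ℂ) (χ : G → ℂ) :
    pRegScale p (c * d) χ = c • pRegScale p d χ := by
  funext x
  rw [Pi.smul_apply, smul_eq_mul, pRegScale_apply, pRegScale_apply]
  split_ifs
  · rw [mul_zero]
  · rw [mul_assoc]

/-- If `p^k` divides all the multiplicities `[χ̃, ψ]`, then `χ̃ / p^k` is a generalized
character. -/
theorem isGenChar_pRegScale_div [Fact p.Prime] {χ : G → ℂ} (hχ : IsCharacter G χ) (k : ℕ)
    (hdvd : ∀ ψ : IrrCharacter G, ∀ n : ℤ, classInner (tilde p χ) (ψ : G → ℂ) = n →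
      ((p ^ k : ℕ) : ℤ) ∣ n) :
    IsGeneralizedCharacter G (pRegScale p
      (((p ^ (Nat.card G).factorization p : ℕ) : ℂ) / ((p ^ k : ℕ) : ℂ)) χ) := by
  classical
  have : Fintype (IrrCharacter G) := Fintype.ofFinite _
  have hp : p.Prime := Fact.out
  have hint : ∀ ψ : IrrCharacter G, ∃ n : ℤ, classInner (tilde p χ) (ψ : G → ℂ) = n :=
    fun ψ => exists_int_classInner_tilde hχ (isCharacter_of_irr ψ.2)
  choose a ha using hint
  have hc : ∀ ψ : IrrCharacter G, ∃ c : ℤ, a ψ = ((p ^ k : ℕ) : ℤ) * c := fun ψ => hdvd ψ _ (ha ψ)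
  choose c hc using hc
  have hgc : IsGeneralizedCharacter G (tilde p χ) := isGenChar_pRegScale p hχ _ dvd_rfl
  have h3 := genChar_expansion hgc a ha
  have hpk : ((p ^ k : ℕ) : ℂ) ≠ 0 := Nat.cast_ne_zero.2 (pow_pos hp.pos k).ne'
  have h4 : pRegScale p (((p ^ (Nat.card G).factorization p : ℕ) : ℂ) / ((p ^ k : ℕ) : ℂ)) χ
      = ∑ ψ : IrrCharacter G, (c ψ : ℂ) • (ψ : G → ℂ) := by
    have h5 : ((p ^ k : ℕ) : ℂ) • pRegScale p
        (((p ^ (Nat.card G).factorization p : ℕ) : ℂ) / ((p ^ k : ℕ) : ℂ)) χ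
        = ((p ^ k : ℕ) : ℂ) • ∑ ψ : IrrCharacter G, (c ψ : ℂ) • (ψ : G → ℂ) := by
      rw [← pRegScale_smul, mul_div_cancel₀ _ hpk, Finset.smul_sum]
      change tilde p χ = _
      rw [h3]
      refine Finset.sum_congr rfl fun ψ _ => ?_
      rw [smul_smul, hc ψ]
      push_cast
      rfl
    exact smul_right_injective _ hpk h5
  rw [h4]
  apply isGenChar_sum
  intro ψ _
  exact isGenChar_intCast_smul (isGenChar_of_irr ψ.2) _

/-- **Navarro 3.23, first part.** -/
theorem isGenChar_pRegScale_sub [Fact p.Prime] {χ : G → ℂ} (hχ : IsIrrCharacter G χ) :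
    IsGeneralizedCharacter G (pRegScale p
      ((p ^ ((Nat.card G).factorization p - (charDegree χ).factorization p) : ℕ) : ℂ) χ) := by
  have hp : p.Prime := Fact.out
  have hle : (charDegree χ).factorization p ≤ (Nat.card G).factorization p := by
    have h1 := charDegree_dvd_card hχ
    have h0 := (irr_apply_one_eq_charDegree hχ).2
    exact (Nat.factorization_le_iff_dvd h0.ne' Nat.card_pos.ne').2 h1 p
  have h := isGenChar_pRegScale_div (p := p) (isCharacter_of_irr hχ)
    ((charDegree χ).factorization p)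
    (fun ψ n hn => pow_dvd_classInner_tilde hχ (isCharacter_of_irr ψ.2) hn)
  convert h using 2
  have hpk : ((p ^ (charDegree χ).factorization p : ℕ) : ℂ) ≠ 0 :=
    Nat.cast_ne_zero.2 (pow_pos hp.pos _).ne'
  rw [eq_div_iff hpk, ← Nat.cast_mul, ← pow_add, Nat.sub_add_cancel hle]

omit [Fintype G] in
/-- **Navarro 3.23, second part.** -/
theorem not_isGenChar_pRegScale_succ [Finite G] [Fact p.Prime] {χ : G → ℂ}
    (hχ : IsIrrCharacter G χ) :
    ¬ IsGeneralizedCharacter G (pRegScale p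
      (((p ^ (Nat.card G).factorization p : ℕ) : ℂ) /
        ((p ^ ((charDegree χ).factorization p + 1) : ℕ) : ℂ)) χ) := by
  have hp : p.Prime := Fact.out
  intro h
  obtain ⟨m, hm⟩ := genChar_pReg_apply_one p h (fun x hx => pRegScale_of_dvd _ _ hx)
  have h1 : ¬ p ∣ orderOf (1 : G) := by
    rw [orderOf_one]
    exact fun h' => hp.one_lt.ne' (Nat.dvd_one.1 h')
  rw [pRegScale_of_not_dvd _ _ h1] at hm
  obtain ⟨hd1, hd0⟩ := irr_apply_one_eq_charDegree hχ
  rw [hd1] at hm
  have hpa : ((p ^ (Nat.card G).factorization p : ℕ) : ℂ) ≠ 0 :=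
    Nat.cast_ne_zero.2 (pow_pos hp.pos _).ne'
  have hpb : ((p ^ ((charDegree χ).factorization p + 1) : ℕ) : ℂ) ≠ 0 :=
    Nat.cast_ne_zero.2 (pow_pos hp.pos _).ne'
  have h2 : (charDegree χ : ℂ) = (m : ℂ) * ((p ^ ((charDegree χ).factorization p + 1) : ℕ) : ℂ) := by
    field_simp at hm
    rw [hm]
    ring
  have h3 : (charDegree χ : ℤ) = m * ((p ^ ((charDegree χ).factorization p + 1) : ℕ) : ℤ) := by
    exact_mod_cast h2
  have h4 : ((p ^ ((charDegree χ).factorization p + 1) : ℕ) : ℤ) ∣ (charDegree χ : ℤ) :=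
    ⟨m, by rw [h3, mul_comm]⟩
  have h5 : p ^ ((charDegree χ).factorization p + 1) ∣ charDegree χ := Int.natCast_dvd_natCast.1 h4
  exact Nat.pow_succ_factorization_not_dvd hd0.ne' hp h5

/-- Some multiplicity `[χ̃, ψ]` is not divisible by `p χ(1)_p`. -/
theorem exists_not_dvd_classInner_tilde [Fact p.Prime] {χ : G → ℂ} (hχ : IsIrrCharacter G χ) :
    ∃ ψ : IrrCharacter G, ∃ n : ℤ, classInner (tilde p χ) (ψ : G → ℂ) = n ∧
      ¬ ((p ^ ((charDegree χ).factorization p + 1) : ℕ) : ℤ) ∣ n := by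
  by_contra hcon
  push Not at hcon
  exact not_isGenChar_pRegScale_succ (p := p) hχ
    (isGenChar_pRegScale_div (isCharacter_of_irr hχ) _ hcon)

end Main

end Cfsg.Agent.Lib.Helper8
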