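import Mathlib
import Cfsg.Prelude.Def_Blocks
import Cfsg.Agent.Lib.Helper8.TildeBlock2
import Cfsg.Agent.Lib.Helper8.BlockMinMax

/-!
# The height-zero criterion (Navarro 3.24)
-/

set_option autoImplicit false

namespace Cfsg.Agent.Lib.Helper8

open Cfsg
open scoped ComplexConjugate
open Cfsg.Agent.Lib.Helper1 Cfsg.Agent.Lib.Helper4

universe u

section Height

variable {G : Type u} [Group G] {p : ℕ}

/-- Height zero means minimal `p`-part of the degree. -/
theorem blockHeight_eq_zero_iff {B : Set (IrrCharacter G)} (hB : B.Nonempty) (χ : G → ℂ) :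
    blockHeight p B χ = 0 ↔
      ∀ ξ ∈ B, (charDegree χ).factorization p ≤ (charDegree (ξ : G → ℂ)).factorization p := by
  unfold blockHeight
  rw [Nat.sub_eq_zero_iff_le]
  constructor
  · intro h ξ hξ
    exact h.trans (Nat.sInf_le ⟨ξ, hξ, rfl⟩)
  · intro h
    apply le_csInf (hB.image _)
    rintro _ ⟨ξ, hξ, rfl⟩
    exact h ξ hξ

end Height

section Main

variable {G : Type u} [Group G] [Fintype G] {M : Ideal AlgInt} {p : ℕ} [Fact p.Prime]

/-- The arithmetic condition of Navarro 3.24 says that `[χ̃, ξ] / ξ(1)` is a unit. -/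
theorem tildeUnit_iff (hM : IsPModular p M) {χ ξ : G → ℂ} (hχ : IsCharacter G χ)
    (hξ : IsIrrCharacter G ξ) :
    (∃ n : ℤ, classInner (tilde p χ) ξ = (n : ℂ) ∧ n ≠ 0 ∧
      padicValInt p n = (charDegree ξ).factorization p) ↔
    ¬ MemLocalIdeal M (classInner (tilde p χ) ξ / ξ 1) := by
  obtain ⟨n, hn⟩ := exists_int_classInner_tilde (p := p) hχ (isCharacter_of_irr hξ)
  obtain ⟨hd1, hd0⟩ := irr_apply_one_eq_charDegree hξ
  have hS := memLocalRing_tildeRatio hM hχ hξ
  have key := unit_div_iff hM n (charDegree ξ) hd0.ne'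
  rw [hn, hd1] at hS ⊢
  constructor
  · rintro ⟨n', hn', h0, hv⟩
    have : n' = n := by exact_mod_cast hn'.symm
    subst this
    exact (key.2 ⟨h0, hv⟩).2
  · intro h
    obtain ⟨h0, hv⟩ := key.1 ⟨hS, h⟩
    exact ⟨n, rfl, h0, hv⟩

/-- Being a unit only depends on the block of `ξ`. -/
theorem tildeUnit_congr (hM : IsPModular p M) {χ ψ ξ : G → ℂ} (hχ : IsCharacter G χ)
    (hψ : IsIrrCharacter G ψ) (hξ : IsIrrCharacter G ξ) (h : SameBlock M ψ ξ)
    (hu : ¬ MemLocalIdeal M (classInner (tilde p χ) ψ / ψ 1)) :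
    ¬ MemLocalIdeal M (classInner (tilde p χ) ξ / ξ 1) := by
  have hMp := isPModular_isPrime hM
  intro hJ
  apply hu
  have := memLocalIdeal_add hMp (memLocalIdeal_tildeRatio_sub hM hχ hψ hξ h) hJ
  rwa [sub_add_cancel] at this

/-- If `[χ̃, ξ] / ξ(1)` is a unit then `ν(χ(1)) ≤ ν(ξ(1))`. -/
theorem factorization_le_of_tildeUnit (hM : IsPModular p M) {χ ξ : G → ℂ}
    (hχ : IsIrrCharacter G χ) (hξ : IsIrrCharacter G ξ)
    (hu : ¬ MemLocalIdeal M (classInner (tilde p χ) ξ / ξ 1)) :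
    (charDegree χ).factorization p ≤ (charDegree ξ).factorization p := by
  obtain ⟨n, hn, h0, hv⟩ := (tildeUnit_iff hM (isCharacter_of_irr hχ) hξ).2 hu
  have h1 := pow_dvd_classInner_tilde (p := p) hχ (isCharacter_of_irr hξ) hn
  have h2 : ((p : ℤ)) ^ (charDegree χ).factorization p ∣ n := by
    have : (((p ^ (charDegree χ).factorization p : ℕ) : ℤ)) = (p : ℤ) ^ (charDegree χ).factorization p := by
      push_cast
      rfl
    rwa [this] at h1
  rw [padicValInt_dvd_iff] at h2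
  rcases h2 with h2 | h2
  · exact absurd h2 h0
  · omega

/-- A height-zero character `χ` of `B` has some `ψ ∈ B` with `[χ̃, ψ] / ψ(1)` a unit. -/
theorem exists_tildeUnit_of_height_zero (hM : IsPModular p M) {B : Set (IrrCharacter G)}
    (hB : IsPBlock M B) {χ : IrrCharacter G} (hχ : χ ∈ B)
    (h0 : blockHeight p B (χ : G → ℂ) = 0) :
    ∃ ψ ∈ B, ¬ MemLocalIdeal M (classInner (tilde p (χ : G → ℂ)) (ψ : G → ℂ) / (ψ : G → ℂ) 1) := by
  have hp : p.Prime := Fact.out
  have hMp := isPModular_isPrime hM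
  obtain ⟨ψ, n, hn, hnd⟩ := exists_not_dvd_classInner_tilde (p := p) χ.2
  have hn0 : n ≠ 0 := by
    rintro rfl
    exact hnd (dvd_zero _)
  have hψB : ψ ∈ B := by
    by_contra hψ
    have hBeq := eq_blockOf_of_mem hMp hB hχ
    have h1 : ¬ SameBlock M (χ : G → ℂ) (ψ : G → ℂ) := by
      intro h
      apply hψ
      rw [hBeq]
      exact h
    have h2 := classInner_tilde_eq_zero (p := p) hM h1
    rw [hn] at h2
    exact hn0 (by exact_mod_cast h2)
  refine ⟨ψ, hψB, ?_⟩
  rw [← tildeUnit_iff hM (isCharacter_of_irr χ.2) ψ.2]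
  refine ⟨n, hn, hn0, ?_⟩
  -- `p^{ν(ψ(1))} ∣ n`
  obtain ⟨hd1, hd0⟩ := irr_apply_one_eq_charDegree ψ.2
  have hS := memLocalRing_tildeRatio hM (isCharacter_of_irr χ.2) ψ.2
  rw [hn, hd1] at hS
  have h3 := pow_dvd_of_memLocalRing_int_div hM n _ hd0.ne' hS
  have hle := (blockHeight_eq_zero_iff ⟨χ, hχ⟩ _).1 h0 ψ hψB
  set b := (charDegree (χ : G → ℂ)).factorization p with hb
  set c := (charDegree (ψ : G → ℂ)).factorization p with hc
  have hcb : c = b := by
    by_contra hne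
    have hlt : b + 1 ≤ c := by omega
    apply hnd
    refine dvd_trans ?_ h3
    exact_mod_cast pow_dvd_pow p hlt
  -- valuation of n is exactly b
  have h4 : (p : ℤ) ^ c ∣ n := by
    have : (((p ^ c : ℕ) : ℤ)) = (p : ℤ) ^ c := by push_cast; rfl
    rwa [this] at h3
  have h5 : ¬ (p : ℤ) ^ (b + 1) ∣ n := by
    have : (((p ^ (b + 1) : ℕ) : ℤ)) = (p : ℤ) ^ (b + 1) := by push_cast; rfl
    rwa [this] at hnd
  rw [padicValInt_dvd_iff] at h4 h5
  push Not at h5
  rcases h4 with h4 | h4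
  · exact absurd h4 hn0
  · omega

end Main

end Cfsg.Agent.Lib.Helper8
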