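import Mathlib
import Cfsg.Prelude.Def_Blocks
import Cfsg.Agent.Lib.Helper8.TildeBlock3
import Cfsg.Agent.S0146

/-!
# Induced blocks and central characters of restricted class functions (Navarro ch. 6)
-/

set_option autoImplicit false

namespace Cfsg.Agent.Lib.Helper8

open Cfsg
open scoped ComplexConjugate
open Cfsg.Agent.Lib.Helper1 Cfsg.Agent.Lib.Helper4

universe u

section

variable {G : Type u} [Group G] [Fintype G] {M : Ideal AlgInt} {p : ℕ}

/-- The central character of a restricted class function through the induced central
characters. -/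
theorem omega_restrict_eq_sum_classes [Fintype (ConjClasses G)] (H : Subgroup G) [Fintype H]
    (ξ : H → ℂ) {F : G → ℂ} (hF : IsClassFunction G F) :
    omega ξ (fun h : H => F h) =
      ∑ c : ConjClasses G, F (Quotient.out c) * inducedCentralChar H ξ (Quotient.out c) := by
  classical
  simp only [inducedCentralChar_eq_omega]
  unfold omega
  simp only [mul_div_assoc', Finset.mul_sum]
  rw [← Finset.sum_div, Finset.sum_comm]
  congr 1
  refine Finset.sum_congr rfl fun h _ => ?_
  have h1 := congrFun (classFunction_eq_sum_classIndicator hF) (h : G)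
  rw [Finset.sum_apply] at h1
  conv_lhs => rw [h1]
  rw [Finset.sum_mul]
  refine Finset.sum_congr rfl fun c _ => ?_
  rw [Pi.smul_apply, smul_eq_mul]
  ring

/-- If `b` induces `B`, the central character of a member of `b` at the restriction of a class
function `F` of `G` with local-integral values is congruent to the central character of a member
of `B` at `F`. -/
theorem omega_restrict_cong_of_induced (hM : M.IsPrime) (H : Subgroup G) [Fintype H]
    {b : Set (IrrCharacter H)} {B : Set (IrrCharacter G)} (hind : IsInducedBlock M H b B)
    {ψ : IrrCharacter H} (hψ : ψ ∈ b) {χ : IrrCharacter G} (hχ : χ ∈ B)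
    {F : G → ℂ} (hF : IsClassFunction G F) (hFS : ∀ g, MemLocalRing M (F g)) :
    MemLocalIdeal M (omega (ψ : H → ℂ) (fun h : H => F h) - omega (χ : G → ℂ) F) := by
  classical
  have : Fintype (ConjClasses G) := Fintype.ofFinite _
  rw [omega_restrict_eq_sum_classes H _ hF, omega_eq_sum_classes χ.2 hF, ← Finset.sum_sub_distrib]
  apply memLocalIdeal_sum hM
  intro c _
  rw [← mul_sub]
  exact memLocalIdeal_mul_left hM (hFS _) (hind.2.2 ψ hψ χ hχ _)

/-- Local integrality of the restricted central character. -/
theorem memLocalRing_omega_restrict (hM : M.IsPrime) (H : Subgroup G) [Fintype H]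
    {ψ : H → ℂ} (hψ : IsIrrCharacter H ψ) {F : G → ℂ} (hF : IsClassFunction G F)
    (hFS : ∀ g, MemLocalRing M (F g)) : MemLocalRing M (omega ψ (fun h : H => F h)) :=
  memLocalRing_omega hM hψ (isClassFunction_restrict H hF) (fun _ => hFS _)

end

end Cfsg.Agent.Lib.Helper8
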