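import Mathlib
import Cfsg.Prelude.Def_Blocks
import Cfsg.Agent.Lib.Helper8.InducedOmega
import Cfsg.Agent.S0170

/-!
# The block parts of an induced character (Navarro 6.?)
-/

set_option autoImplicit false

namespace Cfsg.Agent.Lib.Helper8

open Cfsg
open scoped ComplexConjugate
open Cfsg.Agent.Lib.Helper1 Cfsg.Agent.Lib.Helper4

universe u

section

variable {G : Type u} [Group G] [Fintype G] {M : Ideal AlgInt} {p : ℕ}

/-- `blockPart` as a finite sum, with the ambient `Fintype` instance. -/
theorem blockPart_eq_sum [Fintype (IrrCharacter G)] (B : Set (IrrCharacter G)) (ϑ : G → ℂ) (g : G) :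
    blockPart B ϑ g = ∑ χ : IrrCharacter G,
      (by classical exact if χ ∈ B then (1 : ℂ) else 0) * (classInner ϑ (χ : G → ℂ) * (χ : G → ℂ) g) := by
  classical
  unfold blockPart
  have e : ∀ χ : IrrCharacter G,
      @classInner G _ (Fintype.ofFinite G) ϑ (χ : G → ℂ) = classInner ϑ (χ : G → ℂ) := by
    intro χ
    congr
    exact Subsingleton.elim _ _
  simp only [e]
  exact finsum_mem_eq_sum_indicator B _

/-- The value at `1` of the `B`-part of an induced function. -/
theorem blockPart_indFun_one (H : Subgroup G) [Fintype H] (ξ : H → ℂ) (B : Set (IrrCharacter G)) :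
    blockPart B (indFun H ξ) 1 =
      (Nat.card G : ℂ) / (Nat.card H : ℂ) * ∑ h : H, blockCoeff B (h : G) * ξ h := by
  classical
  have : Fintype (IrrCharacter G) := Fintype.ofFinite _
  rw [blockPart_eq_sum]
  have h1 : ∀ χ : IrrCharacter G, classInner (indFun H ξ) (χ : G → ℂ)
      = (Nat.card H : ℂ)⁻¹ * ∑ h : H, ξ h * conj ((χ : G → ℂ) h) := by
    intro χ
    rw [Cfsg.Agent.S0146.result H ξ _ (isClassFunction_irr χ.2), classInner_def]
  simp only [h1, blockCoeff_eq_sum]
  have hG0 : (Nat.card G : ℂ) ≠ 0 := Nat.cast_ne_zero.2 Nat.card_pos.ne'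
  simp only [Finset.mul_sum, Finset.sum_mul]
  rw [Finset.sum_comm]
  refine Finset.sum_congr rfl fun h _ => Finset.sum_congr rfl fun χ _ => ?_
  field_simp

/-- The value at `1` of the `B`-part of an induced function, through the central character. -/
theorem blockPart_indFun_one' (H : Subgroup G) [Fintype H] {ξ : H → ℂ} (hξ : ξ 1 ≠ 0)
    (B : Set (IrrCharacter G)) :
    blockPart B (indFun H ξ) 1 = indFun H ξ 1 * omega ξ (fun h : H => blockCoeff B (h : G)) := by
  rw [blockPart_indFun_one, Cfsg.Agent.S0170.indFun_one]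
  unfold omega
  field_simp

/-- If `b` induces `B₀` and `ξ ∈ b`, the central character of `ξ` at the restricted idempotent of a
block `B` of `G` is congruent to `1` if `B = B₀` and to `0` otherwise. -/
theorem omega_restrict_blockCoeff_cong (hM : M.IsPrime) (H : Subgroup G) [Fintype H]
    {b : Set (IrrCharacter H)} {B₀ : Set (IrrCharacter G)} (hind : IsInducedBlock M H b B₀)
    {ξ : IrrCharacter H} (hξ : ξ ∈ b) {B : Set (IrrCharacter G)} (hB : IsPBlock M B) :
    MemLocalIdeal M (omega (ξ : H → ℂ) (fun h : H => blockCoeff B (h : G)) -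
      (by classical exact if B = B₀ then (1 : ℂ) else 0)) := by
  classical
  obtain ⟨χ', hχ'⟩ := isPBlock_nonempty hM hind.2.1
  obtain ⟨hcf, hS, hω⟩ := blockCoeff_spec hM hB
  have h1 := omega_restrict_cong_of_induced hM H hind hξ hχ' hcf hS
  rw [hω χ'] at h1
  have h2 : (χ' ∈ B) ↔ B = B₀ := by
    constructor
    · intro h
      rw [eq_blockOf_of_mem hM hB h, eq_blockOf_of_mem hM hind.2.1 hχ']
    · rintro rfl
      exact hχ'
  convert h1 using 2
  simp only [h2]

/-- The value at `1` of a block part of a character is a natural number. -/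
theorem exists_nat_blockPart_one (B : Set (IrrCharacter G)) {ϑ : G → ℂ} (hϑ : IsCharacter G ϑ) :
    ∃ n : ℕ, blockPart B ϑ 1 = (n : ℂ) := by
  classical
  have : Fintype (IrrCharacter G) := Fintype.ofFinite _
  rw [blockPart_eq_sum]
  have h1 : ∀ χ : IrrCharacter G, ∃ m : ℕ, classInner ϑ (χ : G → ℂ) * (χ : G → ℂ) 1 = (m : ℂ) := by
    intro χ
    obtain ⟨m1, h1⟩ := classInner_char_nat hϑ (isCharacter_of_irr χ.2)
    obtain ⟨m2, h2⟩ := isCharacter_apply_one (isCharacter_of_irr χ.2)
    exact ⟨m1 * m2, by rw [h1, h2]; push_cast; rfl⟩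
  choose m hm using h1
  refine ⟨∑ χ : IrrCharacter G, if χ ∈ B then m χ else 0, ?_⟩
  push_cast
  refine Finset.sum_congr rfl fun χ _ => ?_
  rw [hm χ]
  split_ifs <;> simp

/-- The degree of an induced character. -/
theorem charDegree_indFun (H : Subgroup G) [Fintype H] {ξ : H → ℂ} (hξ : IsIrrCharacter H ξ) :
    indFun H ξ 1 = (charDegree (indFun H ξ) : ℂ) ∧ charDegree (indFun H ξ) ≠ 0 := by
  have hc : IsCharacter G (indFun H ξ) := Cfsg.Agent.S0148.result H ξ (isCharacter_of_irr hξ)
  obtain ⟨n, hn⟩ := isCharacter_apply_one hc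
  have h1 : charDegree (indFun H ξ) = n := by
    unfold charDegree
    rw [hn]
    simp
  rw [h1]
  refine ⟨hn, ?_⟩
  rintro rfl
  rw [Cfsg.Agent.S0170.indFun_one] at hn
  have hG0 : (Nat.card G : ℂ) ≠ 0 := Nat.cast_ne_zero.2 Nat.card_pos.ne'
  have hH0 : (Nat.card H : ℂ) ≠ 0 := Nat.cast_ne_zero.2 Nat.card_pos.ne'
  have hξ1 := irr_apply_one_ne_zero hξ
  simp only [Nat.cast_zero, mul_eq_zero, inv_eq_zero] at hn
  tauto

/-- **Navarro 6.?**: the `p`-part of the degree of the block parts of an induced character. -/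
theorem blockPart_indFun_valuation [Fact p.Prime] (hM : IsPModular p M) (H : Subgroup G)
    [Fintype H] {b : Set (IrrCharacter H)} {B₀ : Set (IrrCharacter G)}
    (hind : IsInducedBlock M H b B₀) {ξ : IrrCharacter H} (hξ : ξ ∈ b)
    {B : Set (IrrCharacter G)} (hB : IsPBlock M B) :
    ∃ n : ℕ, blockPart B (indFun H (ξ : H → ℂ)) 1 = (n : ℂ) ∧
      (B = B₀ → n ≠ 0 ∧
        n.factorization p = (charDegree (indFun H (ξ : H → ℂ))).factorization p) ∧
      (B ≠ B₀ → n = 0 ∨
        (charDegree (indFun H (ξ : H → ℂ))).factorization p < n.factorization p) := by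
  classical
  have hp : p.Prime := Fact.out
  have hMp := isPModular_isPrime hM
  have hc : IsCharacter G (indFun H (ξ : H → ℂ)) :=
    Cfsg.Agent.S0148.result H _ (isCharacter_of_irr ξ.2)
  obtain ⟨n, hn⟩ := exists_nat_blockPart_one B hc
  obtain ⟨hN, hN0⟩ := charDegree_indFun H ξ.2
  set N := charDegree (indFun H (ξ : H → ℂ)) with hNdef
  have hNC : (N : ℂ) ≠ 0 := Nat.cast_ne_zero.2 hN0
  have hform := blockPart_indFun_one' H (irr_apply_one_ne_zero ξ.2) B
  rw [hn, hN] at hform
  set u := omega (ξ : H → ℂ) (fun h : H => blockCoeff B (h : G)) with hu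
  have hu' : ((n : ℤ) : ℂ) / (N : ℂ) = u := by
    rw [Int.cast_natCast, hform]
    field_simp
  have hcong := omega_restrict_blockCoeff_cong hMp H hind hξ hB
  rw [← hu] at hcong
  have huS : MemLocalRing M u := by
    obtain ⟨hcf, hS, -⟩ := blockCoeff_spec hMp hB
    exact memLocalRing_omega_restrict hMp H ξ.2 hcf hS
  have hval : padicValInt p (n : ℤ) = n.factorization p := by
    rw [padicValInt.of_nat, Nat.factorization_def n hp]
  have key := unit_div_iff hM (n : ℤ) N hN0
  rw [hu', hval] at key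
  refine ⟨n, hn, ?_, ?_⟩
  · intro hBB
    rw [if_pos hBB] at hcong
    have h1 : ¬ MemLocalIdeal M u := not_memLocalIdeal_of_sub_one hMp hcong
    obtain ⟨h2, h3⟩ := key.1 ⟨huS, h1⟩
    exact ⟨by exact_mod_cast h2, h3⟩
  · intro hBB
    rw [if_neg hBB, sub_zero] at hcong
    by_cases hn0 : n = 0
    · exact Or.inl hn0
    · right
      have h1 := pow_dvd_of_memLocalRing_int_div hM (n : ℤ) N hN0 (by rw [hu']; exact huS)
      have h2 : p ^ N.factorization p ∣ n := Int.natCast_dvd_natCast.1 h1
      have h3 : N.factorization p ≤ n.factorization p :=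
        (hp.pow_dvd_iff_le_factorization hn0).1 h2
      rcases h3.lt_or_eq with h4 | h4
      · exact h4
      · exfalso
        exact (key.2 ⟨by exact_mod_cast hn0, h4.symm⟩).2 hcong

end

end Cfsg.Agent.Lib.Helper8
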