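import Mathlib
import Cfsg.Prelude.Def_Blocks
import Cfsg.Prelude.Def_BlockRank
import Cfsg.Agent.Lib.Helper8.BlockRank
import Cfsg.Agent.Lib.Helper8.InducedOmega2
import Cfsg.Agent.Lib.Helper8.BlockMinMax

/-!
# The `p`-regular span of a block and the block projection
-/

set_option autoImplicit false

namespace Cfsg.Agent.Lib.Helper8

open Cfsg
open scoped ComplexConjugate
open Cfsg.Agent.Lib.Helper1 Cfsg.Agent.Lib.Helper4

universe u

section

variable {H : Type u} [Group H] {M : Ideal AlgInt} {p : ℕ}

/-- The span of the restrictions to `p`-regular elements of the members of `e`. -/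
noncomputable def regSpan (p : ℕ) (e : Set (IrrCharacter H)) : Submodule ℂ (H → ℂ) :=
  Submodule.span ℂ ((fun χ : IrrCharacter H => pRegularPart p (χ : H → ℂ)) '' e)

theorem blockRank_eq_finrank_regSpan (e : Set (IrrCharacter H)) :
    blockRank p e = Module.finrank ℂ (regSpan p e) := rfl

theorem regSpan_spec [Fintype H] {e : Set (IrrCharacter H)} {w : H → ℂ} (hw : w ∈ regSpan p e) :
    IsClassFunction H w ∧ ∀ c, p ∣ orderOf c → w c = 0 := by
  unfold regSpan at hw
  induction hw using Submodule.span_induction with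
  | mem x hx =>
    obtain ⟨χ, _, rfl⟩ := hx
    exact ⟨isClassFunction_pRegularPart (isClassFunction_irr χ.2),
      fun c hc => pRegularPart_of_dvd _ hc⟩
  | zero => exact ⟨fun _ _ => rfl, fun _ _ => rfl⟩
  | add x y _ _ hx hy =>
    refine ⟨fun g h => ?_, fun c hc => ?_⟩
    · rw [Pi.add_apply, Pi.add_apply, hx.1 g h, hy.1 g h]
    · rw [Pi.add_apply, hx.2 c hc, hy.2 c hc, add_zero]
  | smul a x _ hx =>
    refine ⟨fun g h => ?_, fun c hc => ?_⟩
    · rw [Pi.smul_apply, Pi.smul_apply, hx.1 g h]
    · rw [Pi.smul_apply, hx.2 c hc, smul_zero]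

theorem pRegularPart_blockPart_mem [Fintype H] (e : Set (IrrCharacter H)) (ϑ : H → ℂ) :
    pRegularPart p (blockPart e ϑ) ∈ regSpan p e := by
  classical
  have : Fintype (IrrCharacter H) := Fintype.ofFinite _
  have h1 : pRegularPart p (blockPart e ϑ) = ∑ χ : IrrCharacter H,
      ((if χ ∈ e then (1 : ℂ) else 0) * classInner ϑ (χ : H → ℂ)) •
        pRegularPart p (χ : H → ℂ) := by
    funext c
    rw [Finset.sum_apply]
    by_cases hc : p ∣ orderOf c
    · rw [pRegularPart_of_dvd _ hc]
      symm
      apply Finset.sum_eq_zero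
      intro χ _
      rw [Pi.smul_apply, pRegularPart_of_dvd _ hc, smul_zero]
    · rw [pRegularPart_of_not_dvd _ hc, blockPart_eq_sum]
      refine Finset.sum_congr rfl fun χ _ => ?_
      rw [Pi.smul_apply, pRegularPart_of_not_dvd _ hc, smul_eq_mul]
      have : (by classical exact if χ ∈ e then (1 : ℂ) else 0) = (if χ ∈ e then (1 : ℂ) else 0) := by
        congr
      rw [this]
      ring
  rw [h1]
  apply Submodule.sum_mem
  intro χ _
  by_cases hχ : χ ∈ e
  · apply Submodule.smul_mem
    exact Submodule.subset_span ⟨χ, hχ, rfl⟩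
  · rw [if_neg hχ, zero_mul, zero_smul]
    exact Submodule.zero_mem _

/-- The part of a class function outside the block `e` is orthogonal to the `p`-regular span of
`e`. -/
theorem sum_sub_blockPart_mul_conj_eq_zero [Fintype H] (hM : IsPModular p M)
    {e : Set (IrrCharacter H)} (he : IsPBlock M e) {ϑ : H → ℂ} (hϑ : IsClassFunction H ϑ)
    {w : H → ℂ} (hw : w ∈ regSpan p e) :
    ∑ c : H, (ϑ c - pRegularPart p (blockPart e ϑ) c) * conj (w c) = 0 := by
  classical
  have : Fintype (IrrCharacter H) := Fintype.ofFinite _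
  have hMp := isPModular_isPrime hM
  unfold regSpan at hw
  induction hw using Submodule.span_induction with
  | mem x hx =>
    obtain ⟨ψ', hψ', rfl⟩ := hx
    -- replace the truncated block part by the block part
    have h1 : ∀ c : H, (ϑ c - pRegularPart p (blockPart e ϑ) c) *
        conj (pRegularPart p (ψ' : H → ℂ) c) =
        ∑ ψ : IrrCharacter H, ((1 - (if ψ ∈ e then (1 : ℂ) else 0)) * classInner ϑ (ψ : H → ℂ)) *
          ((ψ : H → ℂ) c * conj (pRegularPart p (ψ' : H → ℂ) c)) := by
      intro c
      by_cases hc : p ∣ orderOf c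
      · rw [pRegularPart_of_dvd (ψ' : H → ℂ) hc, map_zero, mul_zero]
        symm
        apply Finset.sum_eq_zero
        intro ψ _
        rw [mul_zero, mul_zero]
      · rw [pRegularPart_of_not_dvd _ hc, blockPart_eq_sum]
        have h2 := congrFun (class_function_expansion ϑ hϑ) c
        rw [Finset.sum_apply] at h2
        conv_lhs => rw [h2]
        rw [← Finset.sum_sub_distrib, Finset.sum_mul]
        refine Finset.sum_congr rfl fun ψ _ => ?_
        rw [Pi.smul_apply, smul_eq_mul]
        have : (by classical exact if ψ ∈ e then (1 : ℂ) else 0) = (if ψ ∈ e then (1 : ℂ) else 0) := by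
          congr
        rw [this]
        ring
    simp_rw [h1]
    rw [Finset.sum_comm]
    apply Finset.sum_eq_zero
    intro ψ _
    rw [← Finset.mul_sum]
    by_cases hψ : ψ ∈ e
    · rw [if_pos hψ, sub_self, zero_mul, zero_mul]
    · have h3 : ¬ SameBlock M (ψ : H → ℂ) (ψ' : H → ℂ) := by
        intro hs
        apply hψ
        rw [eq_blockOf_of_mem hMp he hψ']
        exact sameBlock_symm hs
      have h4 := classInner_pRegularPart_eq_zero hM h3
      rw [classInner_pRegularPart_left, ← classInner_pRegularPart_right, classInner_def] at h4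
      have hH0 : (Nat.card H : ℂ) ≠ 0 := Nat.cast_ne_zero.2 Nat.card_pos.ne'
      have h5 : ∑ g : H, (ψ : H → ℂ) g * conj (pRegularPart p (ψ' : H → ℂ) g) = 0 := by
        rcases mul_eq_zero.1 h4 with h | h
        · exact absurd (inv_eq_zero.1 h) hH0
        · exact h
      rw [h5, mul_zero]
  | zero => simp
  | add x y _ _ hx hy =>
    simp only [Pi.add_apply, map_add, mul_add, Finset.sum_add_distrib, hx, hy, add_zero]
  | smul a x _ hx =>
    simp only [Pi.smul_apply, smul_eq_mul, map_mul]
    have : ∀ c : H, (ϑ c - pRegularPart p (blockPart e ϑ) c) * (conj a * conj (x c)) =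
        conj a * ((ϑ c - pRegularPart p (blockPart e ϑ) c) * conj (x c)) := fun c => by ring
    simp_rw [this]
    rw [← Finset.mul_sum, hx, mul_zero]

end

end Cfsg.Agent.Lib.Helper8
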