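import Mathlib
import Cfsg.Prelude.Def_Blocks
import Cfsg.Prelude.Def_BlockRank
import Cfsg.Agent.Lib.Helper8.Sub2
import Cfsg.Agent.Lib.Helper8.Sub4
import Cfsg.Agent.Lib.Helper8.Sub5

/-!
# The norms of the block parts of a section sum to the rank of the block
-/

set_option autoImplicit false

namespace Cfsg.Agent.Lib.Helper8

open Cfsg
open scoped ComplexConjugate
open Cfsg.Agent.Lib.Helper1 Cfsg.Agent.Lib.Helper4

universe u

section

variable {G : Type u} [Group G] [Fintype G] {M : Ideal AlgInt} {p : ℕ}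

omit [Fintype G] in
theorem isClassFunction_section (C : Subgroup G) {u : G} (hC : ∀ t, t ∈ C ↔ t * u = u * t)
    {χ : G → ℂ} (hχ : IsClassFunction G χ) :
    IsClassFunction C (fun c : C => χ (u * (c : G))) := by
  intro c t
  show χ (u * ((t : G) * (c : G) * (t : G)⁻¹)) = χ (u * (c : G))
  have h2 : (t : G) * u = u * (t : G) := (hC t).1 t.2
  have : u * ((t : G) * (c : G) * (t : G)⁻¹) = (t : G) * (u * (c : G)) * (t : G)⁻¹ := by
    calc u * ((t : G) * (c : G) * (t : G)⁻¹) = (u * (t : G)) * (c : G) * (t : G)⁻¹ := by group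
      _ = (t : G) * (u * (c : G)) * (t : G)⁻¹ := by rw [← h2]; group
  rw [this, hχ]

/-- **Subsection norms**: the squared norms on the `p`-regular elements of the `e`-parts of the
functions `c ↦ χ (u c)`, summed over all irreducible characters `χ` of `G`, give `|C|` times the
rank of `e`. -/
theorem sum_irr_normSq_blockPart_section [Fintype (IrrCharacter G)] (hM : IsPModular p M)
    (C : Subgroup G) [Fintype C] {u : G} (hC : ∀ t, t ∈ C ↔ t * u = u * t)
    (hu : ∃ k : ℕ, orderOf u = p ^ k) {e : Set (IrrCharacter C)} (he : IsPBlock M e) :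
    ∑ χ : IrrCharacter G, ∑ c : C, Complex.normSq
      (pRegularPart p (blockPart e (fun c : C => (χ : G → ℂ) (u * (c : G)))) c) =
      (Nat.card C : ℝ) * (blockRank p e : ℝ) := by
  rw [blockRank_eq_finrank_regSpan]
  apply sum_sum_normSq_eq_finrank (regSpan p e)
    (fun (χ : IrrCharacter G) (c : C) => (χ : G → ℂ) (u * (c : G)))
    (fun (χ : IrrCharacter G) => pRegularPart p (blockPart e
      (fun c : C => (χ : G → ℂ) (u * (c : G)))))
  · intro χ
    exact pRegularPart_blockPart_mem e _
  · intro χ w hw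
    exact sum_sub_blockPart_mul_conj_eq_zero hM he
      (isClassFunction_section C hC (isClassFunction_irr χ.2)) hw
  · intro w hw
    obtain ⟨hwcf, hw0⟩ := regSpan_spec hw
    exact sum_irr_normSq_section hM.1 C hC hu w hwcf hw0

end

end Cfsg.Agent.Lib.Helper8
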