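import Mathlib
import Cfsg.Prelude.Def_Blocks
import Cfsg.Prelude.Def_BlockRank
import Cfsg.Agent.Lib.Helper8.Sub6

/-!
# Contributions of a subsection: the Frobenius norm of the contribution matrix
-/

set_option autoImplicit false

namespace Cfsg.Agent.Lib.Helper8

open Cfsg
open scoped ComplexConjugate
open Cfsg.Agent.Lib.Helper1 Cfsg.Agent.Lib.Helper4

universe u

section

variable {G : Type u} [Group G] [Fintype G] {M : Ideal AlgInt} {p : ℕ}

/-- The section function `c ↦ ζ (u c)` on a subgroup. -/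
def secFun (C : Subgroup G) (u : G) (ζ : G → ℂ) : C → ℂ := fun c => ζ (u * (c : G))

omit [Fintype G] in
theorem secFun_apply (C : Subgroup G) (u : G) (ζ : G → ℂ) (c : C) :
    secFun C u ζ c = ζ (u * (c : G)) := rfl

/-- The `p`-regular part of the `b`-part of the section function. -/
noncomputable def secPart (p : ℕ) (C : Subgroup G) (b : Set (IrrCharacter C)) (u : G)
    (ζ : G → ℂ) : C → ℂ :=
  pRegularPart p (blockPart b (secFun C u ζ))

/-- The contribution of the subsection `(u, b)` to the pair `(ζ, ξ)`. -/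
noncomputable def contrib (p : ℕ) (C : Subgroup G) [Fintype C] (b : Set (IrrCharacter C)) (u : G)
    (ζ ξ : G → ℂ) : ℂ :=
  (Nat.card C : ℂ)⁻¹ * ∑ c : C, secPart p C b u ζ c * conj (ξ (u * (c : G)))

theorem secPart_spec (C : Subgroup G) [Fintype C] (b : Set (IrrCharacter C)) (u : G) (ζ : G → ℂ) :
    IsClassFunction C (secPart p C b u ζ) ∧ ∀ c : C, p ∣ orderOf c → secPart p C b u ζ c = 0 :=
  regSpan_spec (pRegularPart_blockPart_mem b (secFun C u ζ))

theorem sum_normSq_contrib (hp : p.Prime) (C : Subgroup G) [Fintype C] {u : G}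
    (hC : ∀ t, t ∈ C ↔ t * u = u * t) (hu : ∃ k : ℕ, orderOf u = p ^ k)
    (b : Set (IrrCharacter C)) [Fintype (IrrCharacter G)] (ζ : G → ℂ) :
    ∑ ξ : IrrCharacter G, Complex.normSq (contrib p C b u ζ (ξ : G → ℂ)) =
      (Nat.card C : ℝ)⁻¹ * ∑ c : C, Complex.normSq (secPart p C b u ζ c) := by
  obtain ⟨hcf, hvan⟩ := secPart_spec (p := p) C b u ζ
  have h1 := sum_irr_normSq_section hp C hC hu (secPart p C b u ζ) hcf hvan
  have hC0 : (Nat.card C : ℝ) ≠ 0 := Nat.cast_ne_zero.2 Nat.card_pos.ne'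
  have h2 : ∀ ξ : IrrCharacter G, Complex.normSq (contrib p C b u ζ (ξ : G → ℂ)) =
      ((Nat.card C : ℝ)⁻¹) ^ 2 * Complex.normSq
        (∑ c : C, (ξ : G → ℂ) (u * (c : G)) * conj (secPart p C b u ζ c)) := by
    intro ξ
    unfold contrib
    rw [Complex.normSq_mul, Complex.normSq_inv, Complex.normSq_natCast, ← pow_two, ← inv_pow]
    congr 1
    rw [← Complex.normSq_conj, map_sum]
    congr 1
    refine Finset.sum_congr rfl fun c _ => ?_
    rw [map_mul, Complex.conj_conj, mul_comm]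
  rw [Finset.sum_congr rfl (fun ξ _ => h2 ξ), ← Finset.mul_sum, h1]
  field_simp

theorem sum_sum_normSq_contrib (hM : IsPModular p M) (C : Subgroup G) [Fintype C] {u : G}
    (hC : ∀ t, t ∈ C ↔ t * u = u * t) (hu : ∃ k : ℕ, orderOf u = p ^ k)
    {b : Set (IrrCharacter C)} (hb : IsPBlock M b) [Fintype (IrrCharacter G)] :
    ∑ ζ : IrrCharacter G, ∑ ξ : IrrCharacter G,
      Complex.normSq (contrib p C b u (ζ : G → ℂ) (ξ : G → ℂ)) = (blockRank p b : ℝ) := by
  have h1 := sum_irr_normSq_blockPart_section hM C hC hu hb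
  have hC0 : (Nat.card C : ℝ) ≠ 0 := Nat.cast_ne_zero.2 Nat.card_pos.ne'
  have h3 : ∀ ζ : IrrCharacter G, ∑ ξ : IrrCharacter G,
      Complex.normSq (contrib p C b u (ζ : G → ℂ) (ξ : G → ℂ)) =
      (Nat.card C : ℝ)⁻¹ * ∑ c : C, Complex.normSq (secPart p C b u (ζ : G → ℂ) c) :=
    fun ζ => sum_normSq_contrib hM.1 C hC hu b (ζ : G → ℂ)
  rw [Finset.sum_congr rfl (fun ζ _ => h3 ζ), ← Finset.mul_sum]
  have h2 : ∑ ζ : IrrCharacter G, ∑ c : C, Complex.normSq (secPart p C b u (ζ : G → ℂ) c) =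
      (Nat.card C : ℝ) * (blockRank p b : ℝ) := h1
  rw [h2, ← mul_assoc, inv_mul_cancel₀ hC0, one_mul]

end

end Cfsg.Agent.Lib.Helper8
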