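import Mathlib
import Cfsg.Prelude.Def_Blocks
import Cfsg.Prelude.Def_BlockRank
import Cfsg.Prelude.Def_BrauerPairs
import Cfsg.Agent.Lib.Helper8.KB1

/-!
# The Broué–Puig `*`-construction: definitions and the statement of the main theorem

For a block `B` with maximal Brauer pair `(D, e_D)` and a class function `η` of `D` which is
stable under the fusion of `(D, e_D)`, the function `η * χ` (for `χ ∈ Irr(B)`) is defined on
`u s` (`u` a `p`-element, `s` a `p`-regular element of `C_G(u)`) by
`∑_b η(u_b) χ^{(u,b)}(us)`, the sum over the blocks `b` of `C_G(u)` such that `(u, b)` is a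
`B`-subsection, where `u_b ∈ D` is a conjugate of `u` by an element carrying `(⟨u⟩, b)` into
`(D, e_D)`.  We phrase this with a *weight system* `w (u, b)` (so that no choices are needed):
`IsStarWeight` says that `w (u, b) = η (g u g⁻¹)` whenever `g` carries the `B`-subsection `(u, b)`
into `(D, e_D)`.
-/

set_option autoImplicit false

namespace Cfsg.Agent.Lib.Helper8.BPS

open Cfsg Cfsg.Agent.Lib.Helper8

universe u

variable {G : Type u} [Group G]

/-- the centralizer of the cyclic group generated by `u` -/
abbrev cent (u : G) : Subgroup G := Subgroup.centralizer (Subgroup.zpowers u : Set G)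

theorem mem_cent_iff {u t : G} : t ∈ cent u ↔ t * u = u * t := by
  rw [Subgroup.mem_centralizer_iff]
  constructor
  · intro h
    exact (h u (Subgroup.mem_zpowers u)).symm
  · intro h g hg
    obtain ⟨n, rfl⟩ := Subgroup.mem_zpowers_iff.1 hg
    have hc : Commute t u := h
    exact (hc.zpow_right n).eq.symm

theorem inv_mul_mem_cent_of_isPPart {p : ℕ} {g u : G} (h : IsPPart p g u) : u⁻¹ * g ∈ cent u := by
  obtain ⟨y, rfl, hc, -, -⟩ := h
  rw [inv_mul_cancel_left, mem_cent_iff]
  exact hc.eq.symm

/-- a weight system: a complex number for every element `u` and every set of irreducible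
characters of `C_G(u)` -/
abbrev StarWeight (G : Type u) [Group G] : Type u :=
  ∀ u : G, Set (IrrCharacter ↥(cent u)) → ℂ

/-- `w` is a weight system attached to the function `η` on `D`, relative to the maximal Brauer
pair `(D, e_D)` of `B`: whenever `(u, b)` is a `B`-subsection and `g` carries `(⟨u⟩, b)` into
`(D, e_D)`, the weight of `(u, b)` is `η (g u g⁻¹)`. -/
def IsStarWeight (p : ℕ) (M : Ideal AlgInt) (B : Set (IrrCharacter G)) (D : Subgroup G)
    (eD : Set (IrrCharacter ↥(Subgroup.centralizer (D : Set G)))) (η : D → ℂ)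
    (w : StarWeight G) : Prop :=
  ∀ (u : G) (b : Set (IrrCharacter ↥(cent u))), (∃ k : ℕ, orderOf u = p ^ k) →
    IsBrauerPairOf p M B (Subgroup.zpowers u) b →
    ∀ (g : G) (hg : g * u * g⁻¹ ∈ D),
      SubpairLE p M ((Subgroup.zpowers u).map (MulAut.conj g).toMonoidHom)
        (conjBlock (Subgroup.zpowers u) g b) D eD →
      w u b = η ⟨g * u * g⁻¹, hg⟩

/-- the function `w * ζ`: at `g` with `p`-part `u` it is the sum over the blocks `b` of `C_G(u)`
of `w (u, b)` times the value of the `(u, b)`-part of `ζ` at `g`. -/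
noncomputable def starFun [Fintype G] (p : ℕ) (M : Ideal AlgInt) (w : StarWeight G) (ζ : G → ℂ)
    (g : G) : ℂ :=
  ∑ᶠ (u : G) (h : IsPPart p g u), ∑ᶠ (b : Set (IrrCharacter ↥(cent u))) (_ : IsPBlock M b),
    w u b * secPart p (cent u) b u ζ ⟨u⁻¹ * g, inv_mul_mem_cent_of_isPPart h⟩

/-- **The statement of the Broué–Puig theorem** for the group `G`, the prime `p` and the maximal
ideal `M`, with coefficients in an arbitrary additive subgroup `S` of `ℂ`. -/
def TstarStatement (p : ℕ) (M : Ideal AlgInt) (G : Type u) [Group G] [Fintype G] : Prop :=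
  ∀ (B : Set (IrrCharacter G)) (D : Subgroup G)
    (eD : Set (IrrCharacter ↥(Subgroup.centralizer (D : Set G)))),
    IsMaximalBrauerPair p M B D eD → ∀ [Fintype D] (S : AddSubgroup ℂ) (η : D → ℂ),
    IsClassFunction D η →
    (∀ ψ : IrrCharacter D, classInner η (ψ : D → ℂ) ∈ S) →
    ∀ w : StarWeight G, IsStarWeight p M B D eD η w → ∀ χ : IrrCharacter G, χ ∈ B →
      IsClassFunction G (starFun p M w (χ : G → ℂ)) ∧
        ∀ ψ : IrrCharacter G, classInner (starFun p M w (χ : G → ℂ)) (ψ : G → ℂ) ∈ S

end Cfsg.Agent.Lib.Helper8.BPS
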