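import Mathlib
import Cfsg.Prelude.Def_Blocks
import Cfsg.Agent.Lib.Helper8.BlockUnion
import Cfsg.Agent.Lib.Helper8.BlockNormalP
import Cfsg.Agent.Lib.Helper8.BlockMinMax

/-!
# Exact central idempotents with coefficients in the local ring
-/

set_option autoImplicit false

namespace Cfsg.Agent.Lib.Helper8

open Cfsg
open scoped ComplexConjugate
open Cfsg.Agent.Lib.Helper1 Cfsg.Agent.Lib.Helper4

universe u

section

variable {G : Type u} [Group G] [Fintype G] {M : Ideal AlgInt}

/-- The product of the idempotents of two sets of irreducible characters is the idempotent of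
their intersection. -/
theorem conv_blockCoeff_blockCoeff (A₁ A₂ : Set (IrrCharacter G)) :
    conv (blockCoeff A₁) (blockCoeff A₂) = blockCoeff (A₁ ∩ A₂) := by
  classical
  have : Fintype (IrrCharacter G) := Fintype.ofFinite _
  apply eq_blockCoeff_of_omega
  · exact isClassFunction_conv (isClassFunction_blockCoeff A₁) (isClassFunction_blockCoeff A₂)
  · intro ψ
    rw [omega_conv ψ.2 (isClassFunction_blockCoeff A₂), omega_blockCoeff, omega_blockCoeff]
    by_cases h1 : ψ ∈ A₁ <;> by_cases h2 : ψ ∈ A₂ <;> simp [h1, h2]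

theorem blockCoeff_univ : blockCoeff (Set.univ : Set (IrrCharacter G)) = deltaOne := by
  classical
  have : Fintype (IrrCharacter G) := Fintype.ofFinite _
  symm
  apply eq_blockCoeff_of_omega
  · exact isClassFunction_deltaOne
  · intro ψ
    rw [omega_deltaOne (irr_apply_one_ne_zero ψ.2), if_pos (Set.mem_univ ψ)]

theorem blockCoeff_union_of_disjoint {A₁ A₂ : Set (IrrCharacter G)} (h : Disjoint A₁ A₂) (g : G) :
    blockCoeff (A₁ ∪ A₂) g = blockCoeff A₁ g + blockCoeff A₂ g := by
  unfold blockCoeff
  rw [finsum_mem_union h (Set.toFinite _) (Set.toFinite _), mul_add]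

/-- An exact idempotent class function is the idempotent of a set of irreducible characters. -/
theorem eq_blockCoeff_of_conv_self {F : G → ℂ} (hF : IsClassFunction G F)
    (hid : conv F F = F) :
    F = blockCoeff {ψ : IrrCharacter G | omega (ψ : G → ℂ) F = 1} := by
  classical
  have : Fintype (IrrCharacter G) := Fintype.ofFinite _
  apply eq_blockCoeff_of_omega _ hF
  intro ψ
  have h1 : omega (ψ : G → ℂ) F * omega (ψ : G → ℂ) F = omega (ψ : G → ℂ) F := by
    rw [← omega_conv ψ.2 hF, hid]
  by_cases h : omega (ψ : G → ℂ) F = 1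
  · rw [if_pos (show ψ ∈ {ψ : IrrCharacter G | omega (ψ : G → ℂ) F = 1} from h), h]
  · rw [if_neg (show ψ ∉ {ψ : IrrCharacter G | omega (ψ : G → ℂ) F = 1} from h)]
    have h2 : omega (ψ : G → ℂ) F * (omega (ψ : G → ℂ) F - 1) = 0 := by
      rw [mul_sub, h1, mul_one, sub_self]
    rcases mul_eq_zero.1 h2 with h3 | h3
    · exact h3
    · exact absurd (sub_eq_zero.1 h3) h

/-- **Primitivity of block idempotents**: an idempotent class function with local-integral
coefficients lying below a block idempotent is zero or the block idempotent. -/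
theorem eq_zero_or_eq_blockCoeff (hM : M.IsPrime) {B : Set (IrrCharacter G)} (hB : IsPBlock M B)
    {F : G → ℂ} (hF : IsClassFunction G F) (hFS : ∀ g, MemLocalRing M (F g))
    (hid : conv F F = F) (hFB : conv F (blockCoeff B) = F) : F = 0 ∨ F = blockCoeff B := by
  classical
  set A : Set (IrrCharacter G) := {ψ : IrrCharacter G | omega (ψ : G → ℂ) F = 1} with hA
  have hFA : F = blockCoeff A := eq_blockCoeff_of_conv_self hF hid
  have hAB : A ⊆ B := by
    intro ψ hψ
    have h1 : omega (ψ : G → ℂ) F = 1 := hψ
    have h2 : omega (ψ : G → ℂ) F = omega (ψ : G → ℂ) F * omega (ψ : G → ℂ) (blockCoeff B) := by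
      conv_lhs => rw [← hFB]
      rw [omega_conv ψ.2 (isClassFunction_blockCoeff B)]
    rw [h1, one_mul, omega_blockCoeff] at h2
    by_contra hψB
    rw [if_neg hψB] at h2
    exact one_ne_zero h2
  by_cases hne : A.Nonempty
  · right
    obtain ⟨χ, hχ⟩ := hne
    have hsub : blockOf M (χ : G → ℂ) ⊆ A := by
      apply blockOf_subset_of_memLocalRing hM A _ hχ
      intro g
      rw [← hFA]
      exact hFS g
    have hBeq : B = blockOf M (χ : G → ℂ) := eq_blockOf_of_mem hM hB (hAB hχ)
    have : A = B := Set.Subset.antisymm hAB (by rw [hBeq]; exact hsub)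
    rw [hFA, this]
  · left
    rw [Set.not_nonempty_iff_eq_empty] at hne
    rw [hFA, hne]
    funext g
    unfold blockCoeff
    rw [finsum_mem_empty, mul_zero]
    rfl

/-- The idempotent of a union of blocks has coefficients in the local ring. -/
theorem memLocalRing_blockCoeff_of_union (hM : M.IsPrime) (A : Set (IrrCharacter G))
    (hA : ∀ χ ∈ A, blockOf M (χ : G → ℂ) ⊆ A) (g : G) : MemLocalRing M (blockCoeff A g) := by
  classical
  have hfin : A.Finite := Set.toFinite A
  induction' hn : hfin.toFinset.card using Nat.strong_induction_on with n ih generalizing A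
  by_cases hne : A.Nonempty
  · obtain ⟨χ, hχ⟩ := hne
    set B := blockOf M (χ : G → ℂ) with hBdef
    have hB : IsPBlock M B := ⟨χ, rfl⟩
    have hBA : B ⊆ A := hA χ hχ
    have hA' : ∀ ψ ∈ A \ B, blockOf M (ψ : G → ℂ) ⊆ A \ B := by
      intro ψ hψ φ hφ
      refine ⟨hA ψ hψ.1 hφ, ?_⟩
      intro hφB
      apply hψ.2
      exact sameBlock_trans hM hφB (sameBlock_symm hφ)
    have hdisj : Disjoint B (A \ B) := Set.disjoint_sdiff_right
    have hunion : B ∪ (A \ B) = A := Set.union_sdiff_cancel hBA
    have hlt : (Set.toFinite (A \ B)).toFinset.card < n := by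
      rw [← hn]
      apply Finset.card_lt_card
      rw [Finset.ssubset_iff_of_subset]
      · refine ⟨χ, ?_, ?_⟩
        · rw [Set.Finite.mem_toFinset]; exact hχ
        · rw [Set.Finite.mem_toFinset]
          intro h
          exact h.2 (sameBlock_refl hM.ne_top _)
      · intro ψ hψ
        rw [Set.Finite.mem_toFinset] at hψ ⊢
        exact hψ.1
    have h1 := ih _ hlt (A \ B) hA' (Set.toFinite _) rfl
    rw [← hunion, blockCoeff_union_of_disjoint hdisj]
    exact memLocalRing_add hM ((blockCoeff_spec hM hB).2.1 g) h1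
  · rw [Set.not_nonempty_iff_eq_empty] at hne
    rw [hne]
    unfold blockCoeff
    rw [finsum_mem_empty, mul_zero]
    exact memLocalRing_zero hM.ne_top

end

end Cfsg.Agent.Lib.Helper8
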