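import Mathlib
import Cfsg.Prelude.Def_Blocks
import Cfsg.Prelude.Def_BrauerPairs
import Cfsg.Agent.Lib.Helper8.BlockInduced
import Cfsg.Agent.Lib.Helper8.BlockIdem2

/-!
# Brauer pairs: every Brauer pair belongs to exactly one block
-/

set_option autoImplicit false

namespace Cfsg.Agent.Lib.Helper8

open Cfsg
open scoped ComplexConjugate
open Cfsg.Agent.Lib.Helper1 Cfsg.Agent.Lib.Helper4

universe u

section

variable {G : Type u} [Group G] [Fintype G] {M : Ideal AlgInt} {p : ℕ}

theorem brauerOmega_eq_omega (P : Subgroup G) [Fintype (Subgroup.centralizer (P : Set G))]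
    (β : G → ℂ) (ξ : Subgroup.centralizer (P : Set G) → ℂ) :
    brauerOmega P β ξ = omega ξ (fun x : Subgroup.centralizer (P : Set G) => β x) := by
  unfold brauerOmega omega
  rw [finsum_eq_sum_of_fintype, Finset.sum_div]

theorem brauerOmega_eq_brauerLam (P : Subgroup G) [Fintype (Subgroup.centralizer (P : Set G))]
    (β : G → ℂ) (ξ : Subgroup.centralizer (P : Set G) → ℂ) :
    brauerOmega P β ξ = brauerLam P (Subgroup.centralizer (P : Set G)) ξ β := by
  rw [brauerOmega_eq_omega, brauerLam_apply]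
  congr 1
  funext x
  rw [truncTo_of_mem _ (show (x : G) ∈ _ from x.2)]

/-- Two blocks with a common member are equal. -/
theorem isPBlock_eq_blockOf (hM : M.IsPrime) {B : Set (IrrCharacter G)} (hB : IsPBlock M B)
    {χ : IrrCharacter G} (hχ : χ ∈ B) : B = blockOf M (χ : G → ℂ) := by
  obtain ⟨χ₀, rfl⟩ := hB
  ext ψ
  constructor
  · intro hψ
    exact sameBlock_trans hM (sameBlock_symm hχ) hψ
  · intro hψ
    exact sameBlock_trans hM hχ hψ

/-- **Every Brauer pair belongs to exactly one block.** -/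
theorem existsUnique_isBrauerPairOf (hM : IsPModular p M) (P : Subgroup G)
    (e : Set (IrrCharacter (Subgroup.centralizer (P : Set G)))) (hPe : IsBrauerPair p M P e) :
    ∃! B : Set (IrrCharacter G), IsBrauerPairOf p M B P e := by
  classical
  have : Fintype (Subgroup.centralizer (P : Set G)) := Fintype.ofFinite _
  have hMp := isPModular_isPrime hM
  obtain ⟨hP, ξ₀, rfl⟩ := hPe
  obtain ⟨χ, hχ⟩ := exists_irr_brauerLam hM P (Subgroup.centralizer (P : Set G)) hP le_rfl (Subgroup.centralizer_le_normalizer _) ξ₀.2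
  have hξ₀ : ξ₀ ∈ blockOf M (ξ₀ : Subgroup.centralizer (P : Set G) → ℂ) := sameBlock_refl hMp.ne_top _
  -- value of the functional at a block idempotent
  have hval : ∀ B : Set (IrrCharacter G), IsPBlock M B →
      MemLocalIdeal M (brauerOmega P (blockCoeff B) (ξ₀ : Subgroup.centralizer (P : Set G) → ℂ) -
        (if χ ∈ B then (1 : ℂ) else 0)) := by
    intro B hB
    obtain ⟨hcf, hS, hω⟩ := blockCoeff_spec hMp hB
    have := hχ (blockCoeff B) hcf hS
    rw [hω χ, ← brauerOmega_eq_brauerLam] at this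
    exact this
  have hcong : ∀ B : Set (IrrCharacter G), IsPBlock M B → ∀ ξ ∈ blockOf M (ξ₀ : Subgroup.centralizer (P : Set G) → ℂ),
      MemLocalIdeal M (brauerOmega P (blockCoeff B) (ξ : Subgroup.centralizer (P : Set G) → ℂ) -
        brauerOmega P (blockCoeff B) (ξ₀ : Subgroup.centralizer (P : Set G) → ℂ)) := by
    intro B hB ξ hξ
    obtain ⟨hcf, hS, hω⟩ := blockCoeff_spec hMp hB
    rw [brauerOmega_eq_omega, brauerOmega_eq_omega]
    exact cong_symm (memLocalIdeal_omega_sub hMp ξ₀.2 ξ.2 hξ (isClassFunction_restrict (Subgroup.centralizer (P : Set G)) hcf)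
      (fun x => hS x))
  refine ⟨blockOf M (χ : G → ℂ), ⟨⟨hP, ξ₀, rfl⟩, ⟨χ, rfl⟩, ?_⟩, ?_⟩
  · intro ξ hξ
    have h1 := hcong _ ⟨χ, rfl⟩ ξ hξ
    have h2 := hval _ (⟨χ, rfl⟩ : IsPBlock M (blockOf M (χ : G → ℂ)))
    have hχχ : χ ∈ blockOf M (χ : G → ℂ) := sameBlock_refl hMp.ne_top _
    rw [if_pos hχχ] at h2
    exact cong_trans hMp h1 h2
  · rintro B' ⟨_, hB', h⟩
    have h2 := hval B' hB'
    have h3 := h ξ₀ hξ₀
    by_cases hχB : χ ∈ B'
    · exact isPBlock_eq_blockOf hMp hB' hχB
    · exfalso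
      rw [if_neg hχB, sub_zero] at h2
      have := memLocalIdeal_sub hMp h2 h3
      rw [sub_sub_cancel] at this
      exact not_memLocalIdeal_one hMp this

end

end Cfsg.Agent.Lib.Helper8
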