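import Mathlib
import Cfsg.Prelude.Def_Blocks
import Cfsg.Prelude.Def_BrauerPairs
import Cfsg.Agent.Lib.Helper8.BlockPairs

/-!
# Brauer pairs: inclusion of pairs and membership in a block
-/

set_option autoImplicit false

namespace Cfsg.Agent.Lib.Helper8

open Cfsg
open scoped ComplexConjugate
open Cfsg.Agent.Lib.Helper1 Cfsg.Agent.Lib.Helper4

universe u

section

variable {G : Type u} [Group G]

theorem subgroupBlockCoeff_of_mem (K : Subgroup G) (f : Set (IrrCharacter K)) {g : G}
    (hg : g ∈ K) : subgroupBlockCoeff K f g = blockCoeff f ⟨g, hg⟩ := by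
  classical
  unfold subgroupBlockCoeff
  rw [dif_pos hg]

theorem subgroupBlockCoeff_of_not_mem (K : Subgroup G) (f : Set (IrrCharacter K)) {g : G}
    (hg : g ∉ K) : subgroupBlockCoeff K f g = 0 := by
  classical
  unfold subgroupBlockCoeff
  rw [dif_neg hg]

theorem subgroupBlockCoeff_coe (K : Subgroup G) (f : Set (IrrCharacter K)) (k : K) :
    subgroupBlockCoeff K f (k : G) = blockCoeff f k :=
  subgroupBlockCoeff_of_mem K f k.2

/-- The idempotent coefficients of a set of characters stabilized by `x` are invariant under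
conjugation by `x`. -/
theorem subgroupBlockCoeff_conj_of_stabilizes [Finite G] (K : Subgroup G)
    (f : Set (IrrCharacter K)) {x : G} (hx : StabilizesBlock K f x) (y : G) :
    subgroupBlockCoeff K f (x * y * x⁻¹) = subgroupBlockCoeff K f y := by
  classical
  obtain ⟨hxN, hst⟩ := hx
  have hiff : x * y * x⁻¹ ∈ K ↔ y ∈ K := ((Subgroup.mem_normalizer_iff.1 hxN) y).symm
  by_cases hy : y ∈ K
  · rw [subgroupBlockCoeff_of_mem K f hy, subgroupBlockCoeff_of_mem K f (hiff.2 hy)]
    unfold blockCoeff
    congr 1
    choose! σ hσf hσ using hst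
    have hmaps : Set.MapsTo σ f f := fun χ hχ => hσf χ hχ
    have hinj : Set.InjOn σ f := by
      intro χ₁ h₁ χ₂ h₂ h12
      apply Subtype.ext
      funext k
      have hk : x * (k : G) * x⁻¹ ∈ K := ((Subgroup.mem_normalizer_iff.1 hxN) k).1 k.2
      have e1 := hσ χ₁ h₁ k ⟨_, hk⟩ rfl
      have e2 := hσ χ₂ h₂ k ⟨_, hk⟩ rfl
      rw [← e1, ← e2, h12]
    have hbij : Set.BijOn σ f f := ((Set.toFinite f).injOn_iff_bijOn_of_mapsTo hmaps).1 hinj
    symm
    apply finsum_mem_eq_of_bijOn σ hbij
    intro χ hχ
    have e1 := hσ χ hχ ⟨y, hy⟩ ⟨_, hiff.2 hy⟩ rfl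
    have e2 := hσ χ hχ 1 1 (by simp)
    rw [e1, e2]
  · rw [subgroupBlockCoeff_of_not_mem K f hy,
      subgroupBlockCoeff_of_not_mem K f (fun h => hy (hiff.1 h))]

end

section

variable {G : Type u} [Group G] [Fintype G] {M : Ideal AlgInt} {p : ℕ}

theorem conv_sub_left (a b c : G → ℂ) : conv (a - b) c = conv a c - conv b c := by
  funext x
  simp only [conv_apply, Pi.sub_apply, sub_mul, Finset.sum_sub_distrib]

/-- The restriction to a subgroup `D ≤ K` of a function which is a class function on `K` is a
class function on `D`. -/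
theorem isClassFunction_of_le {D K : Subgroup G} (hDK : D ≤ K) {F : G → ℂ}
    (hF : IsClassFunction K (fun k : K => F k)) : IsClassFunction D (fun d : D => F d) := by
  intro g t
  exact hF ⟨g, hDK g.2⟩ ⟨t, hDK t.2⟩

/-- The truncation to `C_G(Q)` of the idempotent of a block of `G`, as a function on `C_G(Q)`, is
congruent to the idempotent of the set of characters of `C_G(Q)` on which its central character
is congruent to `1`. -/
theorem brauer_blockCoeff_cong (hM : IsPModular p M) (Q : Subgroup G) (hQ : IsPGroup p Q)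
    [Fintype (Subgroup.centralizer (Q : Set G))]
    {B : Set (IrrCharacter G)} (hB : IsPBlock M B)
    (A : Set (IrrCharacter (Subgroup.centralizer (Q : Set G))))
    (hA : ∀ ψ : IrrCharacter (Subgroup.centralizer (Q : Set G)), ψ ∈ A ↔
      MemLocalIdeal M (brauerOmega Q (blockCoeff B) (ψ : Subgroup.centralizer (Q : Set G) → ℂ) - 1)) :
    (∀ ψ : IrrCharacter (Subgroup.centralizer (Q : Set G)), ψ ∉ A →
      MemLocalIdeal M (brauerOmega Q (blockCoeff B) (ψ : Subgroup.centralizer (Q : Set G) → ℂ))) ∧
    IsClassFunction (Subgroup.centralizer (Q : Set G)) (blockCoeff A) ∧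
    (∀ ψ : IrrCharacter (Subgroup.centralizer (Q : Set G)),
      omega (ψ : Subgroup.centralizer (Q : Set G) → ℂ) (blockCoeff A)
        = (by classical exact if ψ ∈ A then (1 : ℂ) else 0)) ∧
    (∀ g, MemLocalRing M (blockCoeff A g)) ∧
    ∀ k : Subgroup.centralizer (Q : Set G), MemLocalIdeal M (blockCoeff B (k : G) - blockCoeff A k) := by
  classical
  have hMp := isPModular_isPrime hM
  obtain ⟨hcf, hS, hω⟩ := blockCoeff_spec hMp hB
  have hβcf : IsClassFunction (Subgroup.centralizer (Q : Set G))
      (fun k : Subgroup.centralizer (Q : Set G) => blockCoeff B (k : G)) :=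
    isClassFunction_restrict _ hcf
  have hid : ∀ k : Subgroup.centralizer (Q : Set G), MemLocalIdeal M
      (conv (fun k : Subgroup.centralizer (Q : Set G) => blockCoeff B (k : G))
        (fun k : Subgroup.centralizer (Q : Set G) => blockCoeff B (k : G)) k - blockCoeff B (k : G)) := by
    intro k
    have h := brauer_conv hM Q hQ hcf hcf hS hS (k : G)
    rw [conv_blockCoeff_self hMp hB, truncTo_of_mem _ (show (k : G) ∈ _ from k.2)] at h
    have hsupp : ∀ g, g ∉ Subgroup.centralizer (Q : Set G) →
        truncTo (Subgroup.centralizer (Q : Set G) : Set G) (blockCoeff B) g = 0 :=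
      fun g hg => truncTo_of_not_mem _ hg
    rw [conv_restrict _ hsupp k] at h
    have e : (fun k : Subgroup.centralizer (Q : Set G) =>
        truncTo (Subgroup.centralizer (Q : Set G) : Set G) (blockCoeff B) (k : G))
        = (fun k : Subgroup.centralizer (Q : Set G) => blockCoeff B (k : G)) := by
      funext k'
      exact truncTo_of_mem _ (show (k' : G) ∈ _ from k'.2)
    rw [e] at h
    exact cong_symm h
  have hA' : ∀ ψ : IrrCharacter (Subgroup.centralizer (Q : Set G)), ψ ∈ A ↔
      MemLocalIdeal M (omega (ψ : Subgroup.centralizer (Q : Set G) → ℂ)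
        (fun k : Subgroup.centralizer (Q : Set G) => blockCoeff B (k : G)) - 1) := by
    intro ψ
    rw [hA ψ, brauerOmega_eq_omega]
  obtain ⟨h0, hAcf, hAω, hAS, hAc⟩ := cong_blockCoeff_of_idempotent hMp hβcf (fun k => hS k) hid A hA'
  refine ⟨?_, hAcf, hAω, hAS, hAc⟩
  intro ψ hψ
  rw [brauerOmega_eq_omega]
  exact h0 ψ hψ

/-- **The normal step**: if `(Q, f)` is a Brauer pair of `B`, `f` is stable under `P` and `ξ`
occurs in the Brauer-map image at `P` of the idempotent of `f`, then `ξ` occurs in the Brauer-map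
image at `P` of the idempotent of `B`. -/
theorem normal_step (hM : IsPModular p M) (P Q : Subgroup G) (hP : IsPGroup p P) (hQP : Q ≤ P)
    (hPN : P ≤ Subgroup.normalizer (Q : Set G))
    {B : Set (IrrCharacter G)} (hB : IsPBlock M B)
    {f : Set (IrrCharacter (Subgroup.centralizer (Q : Set G)))} (hf : IsPBlock M f)
    (h1 : ∀ ξ' ∈ f, MemLocalIdeal M
      (brauerOmega Q (blockCoeff B) (ξ' : Subgroup.centralizer (Q : Set G) → ℂ) - 1))
    (h2 : ∀ u ∈ P, ∀ x : G, subgroupBlockCoeff (Subgroup.centralizer (Q : Set G)) f (u * x * u⁻¹)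
      = subgroupBlockCoeff (Subgroup.centralizer (Q : Set G)) f x)
    (ξ : IrrCharacter (Subgroup.centralizer (P : Set G)))
    (h3 : MemLocalIdeal M (brauerOmega P (subgroupBlockCoeff (Subgroup.centralizer (Q : Set G)) f)
      (ξ : Subgroup.centralizer (P : Set G) → ℂ) - 1)) :
    MemLocalIdeal M (brauerOmega P (blockCoeff B) (ξ : Subgroup.centralizer (P : Set G) → ℂ) - 1) := by
  classical
  have hMp := isPModular_isPrime hM
  have hQ : IsPGroup p Q := hP.to_le hQP
  have : Fintype (Subgroup.centralizer (Q : Set G)) := Fintype.ofFinite _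
  have : Fintype (Subgroup.centralizer (P : Set G)) := Fintype.ofFinite _
  have hDK : Subgroup.centralizer (P : Set G) ≤ Subgroup.centralizer (Q : Set G) :=
    Subgroup.centralizer_le (by exact_mod_cast hQP)
  obtain ⟨hcf, hS, hω⟩ := blockCoeff_spec hMp hB
  obtain ⟨hφcf, hφS, hφω⟩ := blockCoeff_spec hMp hf
  -- Step 2
  let A : Set (IrrCharacter (Subgroup.centralizer (Q : Set G))) := {ψ | MemLocalIdeal M
      (brauerOmega Q (blockCoeff B) (ψ : Subgroup.centralizer (Q : Set G) → ℂ) - 1)}
  obtain ⟨_, hAcf, hAω, hAS, hAc⟩ := brauer_blockCoeff_cong hM Q hQ hB A (fun ψ => Iff.rfl)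
  have hfA : f ⊆ A := fun ξ' hξ' => h1 ξ' hξ'
  -- Step 3
  have hAf : conv (blockCoeff A) (blockCoeff f) = blockCoeff f := by
    apply eq_of_omega_eq (isClassFunction_conv hAcf hφcf) hφcf
    intro ψ
    rw [omega_conv ψ.2 hφcf, hAω ψ, hφω ψ]
    by_cases hψ : ψ ∈ f
    · rw [if_pos hψ, if_pos (hfA hψ), one_mul]
    · rw [if_neg hψ, mul_zero]
  have hstep3 : ∀ k : Subgroup.centralizer (Q : Set G), MemLocalIdeal M
      (conv (fun k : Subgroup.centralizer (Q : Set G) => blockCoeff B (k : G)) (blockCoeff f) k
        - blockCoeff f k) := by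
    intro k
    have e : conv (fun k : Subgroup.centralizer (Q : Set G) => blockCoeff B (k : G)) (blockCoeff f)
        - blockCoeff f = conv ((fun k : Subgroup.centralizer (Q : Set G) => blockCoeff B (k : G))
          - blockCoeff A) (blockCoeff f) := by
      rw [conv_sub_left, hAf]
    have := memLocalIdeal_conv_left hMp (f := (fun k : Subgroup.centralizer (Q : Set G) =>
      blockCoeff B (k : G)) - blockCoeff A) (fun g => hAc g) hφS k
    rw [← e] at this
    exact this
  -- Step 4
  set φ := subgroupBlockCoeff (Subgroup.centralizer (Q : Set G)) f with hφdef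
  set β₀ := truncTo (Subgroup.centralizer (Q : Set G) : Set G) (blockCoeff B) with hβ₀def
  have hβ₀inv : ∀ u ∈ P, ∀ x : G, β₀ (u * x * u⁻¹) = β₀ x := by
    intro u hu x
    have hiff : u * x * u⁻¹ ∈ (Subgroup.centralizer (Q : Set G) : Set G) ↔
        x ∈ (Subgroup.centralizer (Q : Set G) : Set G) := by
      constructor
      · intro h
        have := conj_mem_centralizer_of_mem_normalizer Q (Subgroup.inv_mem _ (hPN hu)) h
        simpa [mul_assoc] using this
      · intro h
        exact conj_mem_centralizer_of_mem_normalizer Q (hPN hu) h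
    by_cases hx : x ∈ (Subgroup.centralizer (Q : Set G) : Set G)
    · rw [hβ₀def, truncTo_of_mem _ hx, truncTo_of_mem _ (hiff.2 hx), hcf x u]
    · rw [hβ₀def, truncTo_of_not_mem _ hx, truncTo_of_not_mem _ (fun h => hx (hiff.1 h))]
  have hβ₀S : ∀ g, MemLocalRing M (β₀ g) := memLocalRing_truncTo hMp.ne_top _ hS
  have hφS' : ∀ g, MemLocalRing M (φ g) := by
    intro g
    by_cases hg : g ∈ Subgroup.centralizer (Q : Set G)
    · rw [hφdef, subgroupBlockCoeff_of_mem _ _ hg]
      exact hφS _
    · rw [hφdef, subgroupBlockCoeff_of_not_mem _ _ hg]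
      exact memLocalRing_zero hMp.ne_top
  have hβK : (fun k : Subgroup.centralizer (Q : Set G) => β₀ (k : G))
      = (fun k : Subgroup.centralizer (Q : Set G) => blockCoeff B (k : G)) := by
    funext k
    exact truncTo_of_mem _ (show (k : G) ∈ _ from k.2)
  have hφK : (fun k : Subgroup.centralizer (Q : Set G) => φ (k : G)) = blockCoeff f := by
    funext k
    exact subgroupBlockCoeff_coe _ f k
  have hβ₀supp : ∀ g, g ∉ Subgroup.centralizer (Q : Set G) → β₀ g = 0 :=
    fun g hg => truncTo_of_not_mem _ hg
  have hstep4 : ∀ d : Subgroup.centralizer (P : Set G), MemLocalIdeal M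
      (conv (fun k : Subgroup.centralizer (Q : Set G) => blockCoeff B (k : G)) (blockCoeff f)
          ⟨(d : G), hDK d.2⟩
        - conv (fun d : Subgroup.centralizer (P : Set G) => blockCoeff B (d : G))
          (fun d : Subgroup.centralizer (P : Set G) => φ (d : G)) d) := by
    intro d
    have h := brauer_conv' hM P hP hβ₀inv h2 hβ₀S hφS' (d : G)
    rw [truncTo_of_mem _ (show (d : G) ∈ _ from d.2)] at h
    have e1 := conv_restrict (Subgroup.centralizer (Q : Set G)) (B := φ) hβ₀supp ⟨(d : G), hDK d.2⟩
    rw [hβK, hφK] at e1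
    have e1' : conv β₀ φ (d : G) = conv (fun k : Subgroup.centralizer (Q : Set G) =>
        blockCoeff B (k : G)) (blockCoeff f) ⟨(d : G), hDK d.2⟩ := e1
    rw [e1'] at h
    have hsupp2 : ∀ g, g ∉ Subgroup.centralizer (P : Set G) →
        truncTo (Subgroup.centralizer (P : Set G) : Set G) β₀ g = 0 :=
      fun g hg => truncTo_of_not_mem _ hg
    rw [conv_restrict (Subgroup.centralizer (P : Set G)) hsupp2 d] at h
    have e2 : (fun k : Subgroup.centralizer (P : Set G) =>
        truncTo (Subgroup.centralizer (P : Set G) : Set G) β₀ (k : G))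
        = (fun d : Subgroup.centralizer (P : Set G) => blockCoeff B (d : G)) := by
      funext k
      rw [truncTo_of_mem _ (show (k : G) ∈ _ from k.2), hβ₀def,
        truncTo_of_mem _ (show (k : G) ∈ _ from hDK k.2)]
    have e3 : (fun k : Subgroup.centralizer (P : Set G) =>
        truncTo (Subgroup.centralizer (P : Set G) : Set G) φ (k : G))
        = (fun d : Subgroup.centralizer (P : Set G) => φ (d : G)) := by
      funext k
      rw [truncTo_of_mem _ (show (k : G) ∈ _ from k.2)]
    rw [e2, e3] at h
    exact h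
  -- Step 5
  have hβDcf : IsClassFunction (Subgroup.centralizer (P : Set G))
      (fun d : Subgroup.centralizer (P : Set G) => blockCoeff B (d : G)) :=
    isClassFunction_restrict _ hcf
  have hφKcf : IsClassFunction (Subgroup.centralizer (Q : Set G))
      (fun k : Subgroup.centralizer (Q : Set G) => φ (k : G)) := by
    rw [hφK]; exact hφcf
  have hφDcf : IsClassFunction (Subgroup.centralizer (P : Set G))
      (fun d : Subgroup.centralizer (P : Set G) => φ (d : G)) :=
    isClassFunction_of_le hDK hφKcf
  -- the convolution on `K` as a function on `G`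
  let cK : G → ℂ := fun g => if hg : g ∈ Subgroup.centralizer (Q : Set G) then
    conv (fun k : Subgroup.centralizer (Q : Set G) => blockCoeff B (k : G)) (blockCoeff f) ⟨g, hg⟩
    else 0
  have hcKK : (fun k : Subgroup.centralizer (Q : Set G) => cK (k : G)) =
      conv (fun k : Subgroup.centralizer (Q : Set G) => blockCoeff B (k : G)) (blockCoeff f) := by
    funext k
    simp only [cK]
    rw [dif_pos k.2]
  have hcKcf : IsClassFunction (Subgroup.centralizer (Q : Set G))
      (fun k : Subgroup.centralizer (Q : Set G) => cK (k : G)) := by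
    rw [hcKK]
    exact isClassFunction_conv (isClassFunction_restrict _ hcf) hφcf
  have hcKD : IsClassFunction (Subgroup.centralizer (P : Set G))
      (fun d : Subgroup.centralizer (P : Set G) => cK (d : G)) :=
    isClassFunction_of_le hDK hcKcf
  have hcKval : ∀ d : Subgroup.centralizer (P : Set G), cK (d : G) =
      conv (fun k : Subgroup.centralizer (Q : Set G) => blockCoeff B (k : G)) (blockCoeff f)
        ⟨(d : G), hDK d.2⟩ := by
    intro d
    simp only [cK]
    rw [dif_pos (hDK d.2)]
  have c1 : MemLocalIdeal M (omega (ξ : Subgroup.centralizer (P : Set G) → ℂ)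
        (fun d : Subgroup.centralizer (P : Set G) => cK (d : G))
      - omega (ξ : Subgroup.centralizer (P : Set G) → ℂ)
        (conv (fun d : Subgroup.centralizer (P : Set G) => blockCoeff B (d : G))
          (fun d : Subgroup.centralizer (P : Set G) => φ (d : G)))) := by
    apply omega_cong hMp ξ.2 hcKD (isClassFunction_conv hβDcf hφDcf)
    intro d
    rw [hcKval d]
    exact hstep4 d
  have c2 : MemLocalIdeal M (omega (ξ : Subgroup.centralizer (P : Set G) → ℂ)
        (fun d : Subgroup.centralizer (P : Set G) => cK (d : G))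
      - omega (ξ : Subgroup.centralizer (P : Set G) → ℂ)
        (fun d : Subgroup.centralizer (P : Set G) => φ (d : G))) := by
    apply omega_cong hMp ξ.2 hcKD hφDcf
    intro d
    rw [hcKval d]
    have := hstep3 ⟨(d : G), hDK d.2⟩
    rw [← subgroupBlockCoeff_coe] at this
    exact this
  rw [omega_conv ξ.2 hφDcf] at c1
  rw [brauerOmega_eq_omega] at h3 ⊢
  set b := omega (ξ : Subgroup.centralizer (P : Set G) → ℂ)
    (fun d : Subgroup.centralizer (P : Set G) => blockCoeff B (d : G)) with hb
  set c := omega (ξ : Subgroup.centralizer (P : Set G) → ℂ)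
    (fun d : Subgroup.centralizer (P : Set G) => φ (d : G)) with hc
  have hbS : MemLocalRing M b := memLocalRing_omega hMp ξ.2 hβDcf (fun d => hS d)
  have hcS : MemLocalRing M c := memLocalRing_omega hMp ξ.2 hφDcf (fun d => hφS' d)
  have h4 : MemLocalIdeal M (b * c - c) := cong_trans hMp (cong_symm c1) c2
  have e : b * c - c = (b - 1) * c := by ring
  rw [e] at h4
  by_contra hcon
  exact not_memLocalIdeal_mul hMp (memLocalRing_sub hMp hbS (memLocalRing_one hMp.ne_top)) hcS hcon
    (not_memLocalIdeal_of_sub_one hMp h3) h4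

end

end Cfsg.Agent.Lib.Helper8
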