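import Mathlib
import Cfsg.Prelude.Def_Blocks
import Cfsg.Prelude.Def_BlockLocal
import Cfsg.Agent.Lib.Helper1.CharFound7
import Cfsg.Agent.Lib.Helper8.BlockIdem

/-!
# Conjugation of irreducible characters of a subgroup by elements of its normalizer
-/

set_option autoImplicit false

namespace Cfsg.Agent.Lib.Helper8

open Cfsg
open scoped ComplexConjugate
open Cfsg.Agent.Lib.Helper1 Cfsg.Agent.Lib.Helper4

universe u

section

variable {G : Type u} [Group G] (K : Subgroup G)

/-- Conjugation by an element normalizing `K`, as an automorphism of `K`. -/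
def conjAutOn (x : G) (hx : x ∈ Subgroup.normalizer (K : Set G)) : K ≃* K where
  toFun k := ⟨x * k * x⁻¹, (Subgroup.mem_normalizer_iff.1 hx k).1 k.2⟩
  invFun k := ⟨x⁻¹ * k * x, by
    have := (Subgroup.mem_normalizer_iff.1 (Subgroup.inv_mem _ hx) k).1 k.2
    simpa using this⟩
  left_inv k := by
    apply Subtype.ext
    simp [mul_assoc]
  right_inv k := by
    apply Subtype.ext
    simp [mul_assoc]
  map_mul' a b := by
    apply Subtype.ext
    simp [mul_assoc]

@[simp] theorem conjAutOn_apply_coe (x : G) (hx : x ∈ Subgroup.normalizer (K : Set G)) (k : K) :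
    ((conjAutOn K x hx k : K) : G) = x * k * x⁻¹ := rfl

@[simp] theorem conjAutOn_symm_apply_coe (x : G) (hx : x ∈ Subgroup.normalizer (K : Set G)) (k : K) :
    (((conjAutOn K x hx).symm k : K) : G) = x⁻¹ * k * x := rfl

/-- The conjugate of an irreducible character of `K` by `x ∈ N_G(K)`:
`(x • χ)(k) = χ(x⁻¹ k x)`. -/
noncomputable def conjIrr (x : G) (hx : x ∈ Subgroup.normalizer (K : Set G))
    (χ : IrrCharacter K) : IrrCharacter K :=
  ⟨fun k => (χ : K → ℂ) ((conjAutOn K x hx).symm k),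
    isIrrCharacter_comp_mulEquiv χ.2 (conjAutOn K x hx).symm⟩

theorem conjIrr_apply (x : G) (hx : x ∈ Subgroup.normalizer (K : Set G))
    (χ : IrrCharacter K) (k : K) :
    (conjIrr K x hx χ : K → ℂ) k = (χ : K → ℂ) ((conjAutOn K x hx).symm k) := rfl

theorem conjIrr_apply_conj (x : G) (hx : x ∈ Subgroup.normalizer (K : Set G))
    (χ : IrrCharacter K) (k : K) :
    (conjIrr K x hx χ : K → ℂ) (conjAutOn K x hx k) = (χ : K → ℂ) k := by
  rw [conjIrr_apply, MulEquiv.symm_apply_apply]

theorem conjIrr_apply_one (x : G) (hx : x ∈ Subgroup.normalizer (K : Set G))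
    (χ : IrrCharacter K) : (conjIrr K x hx χ : K → ℂ) 1 = (χ : K → ℂ) 1 := by
  rw [conjIrr_apply, map_one]

theorem isConjCharOf_conjIrr (x : G) (hx : x ∈ Subgroup.normalizer (K : Set G))
    (χ : IrrCharacter K) :
    IsConjCharOf K x (χ : K → ℂ) (conjIrr K x hx χ : K → ℂ) := by
  intro k k' hk
  have : k' = conjAutOn K x hx k := Subtype.ext hk
  rw [this, conjIrr_apply_conj]

theorem eq_conjIrr_of_isConjCharOf (x : G) (hx : x ∈ Subgroup.normalizer (K : Set G))
    {χ χ' : IrrCharacter K} (h : IsConjCharOf K x (χ : K → ℂ) (χ' : K → ℂ)) :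
    χ' = conjIrr K x hx χ := by
  apply Subtype.ext
  funext k
  rw [conjIrr_apply]
  apply h
  simp [mul_assoc]

theorem conjIrr_one (χ : IrrCharacter K) :
    conjIrr K 1 (Subgroup.one_mem _) χ = χ := by
  apply Subtype.ext
  funext k
  rw [conjIrr_apply]
  apply congrArg
  apply Subtype.ext
  simp

theorem conjIrr_mul (x y : G) (hx : x ∈ Subgroup.normalizer (K : Set G))
    (hy : y ∈ Subgroup.normalizer (K : Set G)) (χ : IrrCharacter K) :
    conjIrr K (x * y) (Subgroup.mul_mem _ hx hy) χ = conjIrr K x hx (conjIrr K y hy χ) := by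
  apply Subtype.ext
  funext k
  rw [conjIrr_apply, conjIrr_apply, conjIrr_apply]
  apply congrArg
  apply Subtype.ext
  simp [mul_assoc]

theorem conjIrr_inv_conjIrr (x : G) (hx : x ∈ Subgroup.normalizer (K : Set G))
    (χ : IrrCharacter K) :
    conjIrr K x⁻¹ (Subgroup.inv_mem _ hx) (conjIrr K x hx χ) = χ := by
  rw [← conjIrr_mul]
  have : conjIrr K (x⁻¹ * x) (Subgroup.mul_mem _ (Subgroup.inv_mem _ hx) hx) χ
      = conjIrr K 1 (Subgroup.one_mem _) χ := by
    congr 1
    exact inv_mul_cancel x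
  rw [this, conjIrr_one]

theorem conjIrr_conjIrr_inv (x : G) (hx : x ∈ Subgroup.normalizer (K : Set G))
    (χ : IrrCharacter K) :
    conjIrr K x hx (conjIrr K x⁻¹ (Subgroup.inv_mem _ hx) χ) = χ := by
  rw [← conjIrr_mul]
  have : conjIrr K (x * x⁻¹) (Subgroup.mul_mem _ hx (Subgroup.inv_mem _ hx)) χ
      = conjIrr K 1 (Subgroup.one_mem _) χ := by
    congr 1
    exact mul_inv_cancel x
  rw [this, conjIrr_one]

theorem conjIrr_injective (x : G) (hx : x ∈ Subgroup.normalizer (K : Set G)) :
    Function.Injective (conjIrr K x hx) := by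
  intro χ ψ h
  have := congrArg (conjIrr K x⁻¹ (Subgroup.inv_mem _ hx)) h
  rwa [conjIrr_inv_conjIrr, conjIrr_inv_conjIrr] at this

/-- Conjugation by an element of `K` itself fixes every irreducible character. -/
theorem conjIrr_of_mem (x : G) (hxK : x ∈ K) (χ : IrrCharacter K) :
    conjIrr K x (Subgroup.le_normalizer hxK) χ = χ := by
  apply Subtype.ext
  funext k
  rw [conjIrr_apply]
  have : (conjAutOn K x (Subgroup.le_normalizer hxK)).symm k = (⟨x, hxK⟩ : K)⁻¹ * k * ⟨x, hxK⟩ := by
    apply Subtype.ext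
    simp
  rw [this]
  have h := isClassFunction_irr χ.2 k (⟨x, hxK⟩ : K)⁻¹
  rw [inv_inv] at h
  exact h

/-- Conjugation by an element centralizing `K` fixes every irreducible character. -/
theorem conjIrr_of_centralizes (x : G) (hx : x ∈ Subgroup.normalizer (K : Set G))
    (hxc : ∀ k ∈ K, x * k = k * x) (χ : IrrCharacter K) :
    conjIrr K x hx χ = χ := by
  apply Subtype.ext
  funext k
  rw [conjIrr_apply]
  apply congrArg
  apply Subtype.ext
  rw [conjAutOn_symm_apply_coe]
  have := hxc k k.2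
  calc x⁻¹ * (k : G) * x = x⁻¹ * ((k : G) * x) := by group
    _ = x⁻¹ * (x * k) := by rw [this]
    _ = k := by group

end

end Cfsg.Agent.Lib.Helper8
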