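import Mathlib
import Cfsg.Prelude.Def_Blocks
import Cfsg.Prelude.Def_BlockLocal
import Cfsg.Agent.Lib.Helper8.ConjChar

/-!
# Conjugation of characters: central characters, blocks and idempotents
-/

set_option autoImplicit false

namespace Cfsg.Agent.Lib.Helper8

open Cfsg
open scoped ComplexConjugate
open Cfsg.Agent.Lib.Helper1 Cfsg.Agent.Lib.Helper4

universe u

section

variable {G : Type u} [Group G] (K : Subgroup G) {M : Ideal AlgInt}

theorem index_centralizer_conjAutOn (x : G) (hx : x ∈ Subgroup.normalizer (K : Set G)) (k : K) :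
    (Subgroup.centralizer ({conjAutOn K x hx k} : Set K)).index =
      (Subgroup.centralizer ({k} : Set K)).index := by
  have h : Subgroup.centralizer ({conjAutOn K x hx k} : Set K) =
      (Subgroup.centralizer ({k} : Set K)).comap (conjAutOn K x hx).symm.toMonoidHom := by
    ext z
    rw [Subgroup.mem_comap, Subgroup.mem_centralizer_singleton_iff,
      Subgroup.mem_centralizer_singleton_iff]
    constructor
    · intro hz
      have := congrArg (conjAutOn K x hx).symm hz
      simpa using this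
    · intro hz
      have := congrArg (conjAutOn K x hx) hz
      simpa using this
  rw [h]
  exact Subgroup.index_comap_of_surjective _ (conjAutOn K x hx).symm.surjective

theorem centralChar_conjIrr (x : G) (hx : x ∈ Subgroup.normalizer (K : Set G))
    (χ : IrrCharacter K) (k : K) :
    centralChar (conjIrr K x hx χ : K → ℂ) (conjAutOn K x hx k) = centralChar (χ : K → ℂ) k := by
  unfold centralChar
  rw [index_centralizer_conjAutOn, conjIrr_apply_conj, conjIrr_apply_one]

theorem centralChar_conjIrr' (x : G) (hx : x ∈ Subgroup.normalizer (K : Set G))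
    (χ : IrrCharacter K) (k : K) :
    centralChar (conjIrr K x hx χ : K → ℂ) k =
      centralChar (χ : K → ℂ) ((conjAutOn K x hx).symm k) := by
  rw [← centralChar_conjIrr K x hx χ ((conjAutOn K x hx).symm k), MulEquiv.apply_symm_apply]

theorem sameBlock_conjIrr (x : G) (hx : x ∈ Subgroup.normalizer (K : Set G))
    {χ ψ : IrrCharacter K} (h : SameBlock M (χ : K → ℂ) (ψ : K → ℂ)) :
    SameBlock M (conjIrr K x hx χ : K → ℂ) (conjIrr K x hx ψ : K → ℂ) := by
  intro k
  rw [centralChar_conjIrr', centralChar_conjIrr']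
  exact h _

theorem conjIrr_image_blockOf (x : G) (hx : x ∈ Subgroup.normalizer (K : Set G))
    (χ : IrrCharacter K) :
    conjIrr K x hx '' blockOf M (χ : K → ℂ) = blockOf M (conjIrr K x hx χ : K → ℂ) := by
  ext ψ
  constructor
  · rintro ⟨ψ₀, hψ₀, rfl⟩
    exact sameBlock_conjIrr K x hx hψ₀
  · intro hψ
    refine ⟨conjIrr K x⁻¹ (Subgroup.inv_mem _ hx) ψ, ?_, conjIrr_conjIrr_inv K x hx ψ⟩
    have := sameBlock_conjIrr (M := M) K x⁻¹ (Subgroup.inv_mem _ hx) hψ
    rwa [conjIrr_inv_conjIrr] at this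

theorem isPBlock_image_conjIrr (x : G) (hx : x ∈ Subgroup.normalizer (K : Set G))
    {e : Set (IrrCharacter K)} (he : IsPBlock M e) : IsPBlock M (conjIrr K x hx '' e) := by
  obtain ⟨χ, rfl⟩ := he
  exact ⟨conjIrr K x hx χ, conjIrr_image_blockOf K x hx χ⟩

theorem blockCoeff_image_conjIrr (x : G) (hx : x ∈ Subgroup.normalizer (K : Set G))
    (e : Set (IrrCharacter K)) (k : K) :
    blockCoeff (conjIrr K x hx '' e) k = blockCoeff e ((conjAutOn K x hx).symm k) := by
  unfold blockCoeff
  congr 1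
  rw [finsum_mem_image (fun a _ b _ h => conjIrr_injective K x hx h)]
  refine finsum_mem_congr rfl fun χ _ => ?_
  rw [conjIrr_apply_one, conjIrr_apply]

/-- `x` stabilizes `e` iff it normalizes `K` and conjugation by `x` maps `e` into itself. -/
theorem stabilizesBlock_iff (e : Set (IrrCharacter K)) (x : G) :
    StabilizesBlock K e x ↔ ∃ hx : x ∈ Subgroup.normalizer (K : Set G),
      ∀ χ ∈ e, conjIrr K x hx χ ∈ e := by
  constructor
  · rintro ⟨hx, h⟩
    refine ⟨hx, fun χ hχ => ?_⟩
    obtain ⟨χ', hχ', hc⟩ := h χ hχ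
    rw [← eq_conjIrr_of_isConjCharOf K x hx hc]
    exact hχ'
  · rintro ⟨hx, h⟩
    exact ⟨hx, fun χ hχ => ⟨conjIrr K x hx χ, h χ hχ, isConjCharOf_conjIrr K x hx χ⟩⟩

/-- For a finite group, `x` stabilizes `e` iff conjugation by `x` maps `e` onto itself. -/
theorem stabilizesBlock_iff_image [Finite K] (e : Set (IrrCharacter K)) (x : G) :
    StabilizesBlock K e x ↔ ∃ hx : x ∈ Subgroup.normalizer (K : Set G),
      conjIrr K x hx '' e = e := by
  rw [stabilizesBlock_iff]
  constructor
  · rintro ⟨hx, h⟩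
    refine ⟨hx, ?_⟩
    have hfin : e.Finite := Set.toFinite e
    have hmaps : Set.MapsTo (conjIrr K x hx) e e := h
    have hinj : Set.InjOn (conjIrr K x hx) e := (conjIrr_injective K x hx).injOn
    have hbij := (hfin.injOn_iff_bijOn_of_mapsTo hmaps).1 hinj
    exact hbij.image_eq
  · rintro ⟨hx, h⟩
    refine ⟨hx, fun χ hχ => ?_⟩
    rw [← h]
    exact ⟨χ, hχ, rfl⟩

theorem stabilizesBlock_blockOf_iff (hM : M.IsPrime) [Finite K] (χ : IrrCharacter K) (x : G) :
    StabilizesBlock K (blockOf M (χ : K → ℂ)) x ↔ ∃ hx : x ∈ Subgroup.normalizer (K : Set G),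
      SameBlock M (χ : K → ℂ) (conjIrr K x hx χ : K → ℂ) := by
  rw [stabilizesBlock_iff]
  constructor
  · rintro ⟨hx, h⟩
    exact ⟨hx, h χ (sameBlock_refl hM.ne_top _)⟩
  · rintro ⟨hx, h⟩
    refine ⟨hx, fun ψ hψ => ?_⟩
    exact sameBlock_trans hM h (sameBlock_conjIrr K x hx hψ)

end

end Cfsg.Agent.Lib.Helper8
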