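import Mathlib
import Cfsg.Prelude.Def_Blocks
import Cfsg.Prelude.Def_BrauerPairs
import Cfsg.Agent.Lib.Helper8.BlockBrauer2
import Cfsg.Agent.Lib.Helper8.ConjChar2

/-!
# Extension by zero from a subgroup, convolution, and conjugation
-/

set_option autoImplicit false

namespace Cfsg.Agent.Lib.Helper8

open Cfsg
open scoped ComplexConjugate
open Cfsg.Agent.Lib.Helper1 Cfsg.Agent.Lib.Helper4

universe u

section

variable {G : Type u} [Group G]

/-- Extension by zero of a function on a subgroup. -/
noncomputable def extZ (K : Subgroup G) (a : K → ℂ) : G → ℂ :=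
  fun g => by classical exact if h : g ∈ K then a ⟨g, h⟩ else 0

theorem extZ_of_mem (K : Subgroup G) (a : K → ℂ) {g : G} (hg : g ∈ K) :
    extZ K a g = a ⟨g, hg⟩ := by
  classical
  unfold extZ
  rw [dif_pos hg]

theorem extZ_of_not_mem (K : Subgroup G) (a : K → ℂ) {g : G} (hg : g ∉ K) :
    extZ K a g = 0 := by
  classical
  unfold extZ
  rw [dif_neg hg]

theorem extZ_coe (K : Subgroup G) (a : K → ℂ) (k : K) : extZ K a (k : G) = a k :=
  extZ_of_mem K a k.2

theorem subgroupBlockCoeff_eq_extZ (K : Subgroup G) (e : Set (IrrCharacter K)) :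
    subgroupBlockCoeff K e = extZ K (blockCoeff e) := rfl

theorem extZ_injective (K : Subgroup G) {a b : K → ℂ} (h : extZ K a = extZ K b) : a = b := by
  funext k
  have := congrFun h (k : G)
  rwa [extZ_coe, extZ_coe] at this

theorem eq_extZ_of_support (K : Subgroup G) {F : G → ℂ} (h : ∀ g, g ∉ K → F g = 0) :
    F = extZ K (fun k : K => F k) := by
  funext g
  by_cases hg : g ∈ K
  · rw [extZ_of_mem K _ hg]
  · rw [extZ_of_not_mem K _ hg, h g hg]

end

section

variable {G : Type u} [Group G] [Fintype G]

theorem conv_extZ (K : Subgroup G) [Fintype K] (a b : K → ℂ) :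
    conv (extZ K a) (extZ K b) = extZ K (conv a b) := by
  classical
  funext g
  by_cases hg : g ∈ K
  · have h1 := conv_restrict K (A := extZ K a) (B := extZ K b)
      (fun g hg => extZ_of_not_mem K a hg) ⟨g, hg⟩
    rw [extZ_of_mem K _ hg]
    have e1 : (fun k : K => extZ K a k) = a := by funext k; exact extZ_coe K a k
    have e2 : (fun k : K => extZ K b k) = b := by funext k; exact extZ_coe K b k
    rw [e1, e2] at h1
    exact h1
  · rw [extZ_of_not_mem K _ hg, conv_apply]
    apply Finset.sum_eq_zero
    intro y _
    by_cases hy : y ∈ K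
    · have : y⁻¹ * g ∉ K := by
        intro h
        apply hg
        have := K.mul_mem hy h
        simpa using this
      rw [extZ_of_not_mem K _ this, mul_zero]
    · rw [extZ_of_not_mem K _ hy, zero_mul]

/-- Restriction of a convolution to a subgroup containing the support of the first factor. -/
theorem conv_extZ_restrict (T : Subgroup G) [Fintype T] (F H : G → ℂ)
    (hF : ∀ g, g ∉ T → F g = 0) (t : T) :
    conv F H (t : G) = conv (fun s : T => F s) (fun s : T => H s) t :=
  conv_restrict T hF t

end

section

variable {G : Type u} [Group G] (K : Subgroup G) [Fintype K]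

/-- The central character of a conjugate character. -/
theorem omega_conjIrr (x : G) (hx : x ∈ Subgroup.normalizer (K : Set G))
    (ψ : IrrCharacter K) (F : K → ℂ) :
    omega (conjIrr K x hx ψ : K → ℂ) F =
      omega (ψ : K → ℂ) (fun k => F (conjAutOn K x hx k)) := by
  unfold omega
  rw [conjIrr_apply_one]
  congr 1
  rw [← Equiv.sum_comp (conjAutOn K x hx).toEquiv]
  refine Finset.sum_congr rfl fun k _ => ?_
  show F (conjAutOn K x hx k) * (conjIrr K x hx ψ : K → ℂ) (conjAutOn K x hx k) = _
  rw [conjIrr_apply_conj]

end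

end Cfsg.Agent.Lib.Helper8
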