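import Mathlib
import Cfsg.Prelude.Def_Blocks
import Cfsg.Prelude.Def_BrauerPairs
import Cfsg.Agent.Lib.Helper8.ExtZero
import Cfsg.Agent.Lib.Helper8.BlockExactIdem
import Cfsg.Agent.Lib.Helper8.BlockNormalP2
import Cfsg.Agent.Lib.Helper8.BlockPairs2

/-!
# Blocks of a group with a normal `p`-subgroup `P` as orbit sums of blocks of `C_G(P)`
-/

set_option autoImplicit false

namespace Cfsg.Agent.Lib.Helper8

open Cfsg
open scoped ComplexConjugate
open Cfsg.Agent.Lib.Helper1 Cfsg.Agent.Lib.Helper4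

universe u

section

variable {G : Type u} [Group G] (K : Subgroup G) {M : Ideal AlgInt}

/-- The union of the conjugates of a set of irreducible characters of `K` under `N_G(K)`. -/
def orbitUnion (e : Set (IrrCharacter K)) : Set (IrrCharacter K) :=
  {ψ | ∃ (x : G) (hx : x ∈ Subgroup.normalizer (K : Set G)), ψ ∈ conjIrr K x hx '' e}

theorem subset_orbitUnion (e : Set (IrrCharacter K)) : e ⊆ orbitUnion K e := by
  intro ψ hψ
  exact ⟨1, Subgroup.one_mem _, ψ, hψ, conjIrr_one K ψ⟩

theorem conjIrr_mem_orbitUnion (e : Set (IrrCharacter K)) (y : G)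
    (hy : y ∈ Subgroup.normalizer (K : Set G)) {ψ : IrrCharacter K} (hψ : ψ ∈ orbitUnion K e) :
    conjIrr K y hy ψ ∈ orbitUnion K e := by
  obtain ⟨x, hx, ψ₀, hψ₀, rfl⟩ := hψ
  exact ⟨y * x, Subgroup.mul_mem _ hy hx, ψ₀, hψ₀, conjIrr_mul K y x hy hx ψ₀⟩

theorem conjIrr_image_orbitUnion (e : Set (IrrCharacter K)) (y : G)
    (hy : y ∈ Subgroup.normalizer (K : Set G)) :
    conjIrr K y hy '' orbitUnion K e = orbitUnion K e := by
  ext ψ
  constructor
  · rintro ⟨ψ₀, hψ₀, rfl⟩
    exact conjIrr_mem_orbitUnion K e y hy hψ₀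
  · intro hψ
    exact ⟨conjIrr K y⁻¹ (Subgroup.inv_mem _ hy) ψ,
      conjIrr_mem_orbitUnion K e y⁻¹ (Subgroup.inv_mem _ hy) hψ, conjIrr_conjIrr_inv K y hy ψ⟩

theorem blockOf_subset_orbitUnion [Fintype K] (hM : M.IsPrime) {e : Set (IrrCharacter K)} (he : IsPBlock M e)
    {χ : IrrCharacter K} (hχ : χ ∈ orbitUnion K e) : blockOf M (χ : K → ℂ) ⊆ orbitUnion K e := by
  obtain ⟨x, hx, hχx⟩ := hχ
  have hb : IsPBlock M (conjIrr K x hx '' e) := isPBlock_image_conjIrr K x hx he
  rw [← eq_blockOf_of_mem hM hb hχx]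
  intro ψ hψ
  exact ⟨x, hx, hψ⟩

end

section

variable {G : Type u} [Group G] [Fintype G] {M : Ideal AlgInt} {p : ℕ}

/-- The conjugate of the idempotent of a set stable under conjugation. -/
theorem extZ_blockCoeff_conj_of_stable (K : Subgroup G) (O : Set (IrrCharacter K))
    (x : G) (hx : x ∈ Subgroup.normalizer (K : Set G))
    (hO : conjIrr K x hx '' O = O) (g : G) :
    extZ K (blockCoeff O) (x * g * x⁻¹) = extZ K (blockCoeff O) g := by
  have hiff : x * g * x⁻¹ ∈ K ↔ g ∈ K := ((Subgroup.mem_normalizer_iff.1 hx) g).symm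
  by_cases hg : g ∈ K
  · rw [extZ_of_mem K _ hg, extZ_of_mem K _ (hiff.2 hg)]
    have h1 := blockCoeff_image_conjIrr K x hx O ⟨x * g * x⁻¹, hiff.2 hg⟩
    rw [hO] at h1
    rw [h1]
    congr 1
    apply Subtype.ext
    simp [mul_assoc]
  · rw [extZ_of_not_mem K _ hg, extZ_of_not_mem K _ (fun h => hg (hiff.1 h))]

/-- **Blocks over a normal `p`-subgroup**: if `P` is a normal `p`-subgroup and `(P, e)` is a Brauer
pair of `B`, the idempotent of `B` is the idempotent of the union of the conjugates of `e`. -/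
theorem blockCoeff_eq_extZ_orbitUnion (hM : IsPModular p M) (P : Subgroup G) [P.Normal]
    (hP : IsPGroup p P) {B : Set (IrrCharacter G)}
    {e : Set (IrrCharacter (Subgroup.centralizer (P : Set G)))}
    (hBe : IsBrauerPairOf p M B P e) :
    blockCoeff B = extZ (Subgroup.centralizer (P : Set G))
      (blockCoeff (orbitUnion (Subgroup.centralizer (P : Set G)) e)) := by
  classical
  have hMp := isPModular_isPrime hM
  have hKn : (Subgroup.centralizer (P : Set G)).Normal := Subgroup.normal_centralizer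
  have hN : ∀ x : G, x ∈ Subgroup.normalizer ((Subgroup.centralizer (P : Set G) : Subgroup G) : Set G) := by
    intro x
    rw [Subgroup.normalizer_eq_top]
    trivial
  obtain ⟨⟨_, he⟩, hB, hξ⟩ := hBe
  have hsupp : ∀ g, g ∉ Subgroup.centralizer (P : Set G) → blockCoeff B g = 0 :=
    fun g hg => blockCoeff_eq_zero_of_not_mem_centralizer hM P hP hB hg
  set β : Subgroup.centralizer (P : Set G) → ℂ := fun k => blockCoeff B k with hβdef
  have hβ : blockCoeff B = extZ (Subgroup.centralizer (P : Set G)) β :=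
    eq_extZ_of_support _ hsupp
  have hββ : conv β β = β := by
    apply extZ_injective (Subgroup.centralizer (P : Set G))
    rw [← conv_extZ, ← hβ, conv_blockCoeff_blockCoeff, Set.inter_self]
  have hβcf : IsClassFunction (Subgroup.centralizer (P : Set G)) β :=
    isClassFunction_restrict _ (isClassFunction_blockCoeff B)
  set A : Set (IrrCharacter (Subgroup.centralizer (P : Set G))) :=
    {ψ | omega (ψ : Subgroup.centralizer (P : Set G) → ℂ) β = 1} with hA
  have hβA : β = blockCoeff A := eq_blockCoeff_of_conv_self hβcf hββ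
  have heA : e ⊆ A := by
    intro ξ hξe
    by_contra hξA
    have h1 := hξ ξ hξe
    rw [brauerOmega_eq_omega] at h1
    have h2 : omega (ξ : Subgroup.centralizer (P : Set G) → ℂ) β = 0 := by
      conv_lhs => rw [hβA]
      rw [omega_blockCoeff, if_neg hξA]
    have h3 : (fun x : Subgroup.centralizer (P : Set G) => blockCoeff B x) = β := rfl
    rw [h3, h2, zero_sub] at h1
    have := memLocalIdeal_neg h1
    rw [neg_neg] at this
    exact not_memLocalIdeal_one hMp this
  have hAst : ∀ (x : G) (ψ : IrrCharacter (Subgroup.centralizer (P : Set G))), ψ ∈ A →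
      conjIrr _ x (hN x) ψ ∈ A := by
    intro x ψ hψ
    show omega _ β = 1
    rw [omega_conjIrr]
    have : (fun k => β (conjAutOn _ x (hN x) k)) = β := by
      funext k
      exact isClassFunction_blockCoeff B (k : G) x
    rw [this]
    exact hψ
  set O := orbitUnion (Subgroup.centralizer (P : Set G)) e with hO
  have hOA : O ⊆ A := by
    rintro ψ ⟨x, hx, ψ₀, hψ₀, rfl⟩
    exact hAst x ψ₀ (heA hψ₀)
  have hOne : O.Nonempty := by
    obtain ⟨ξ₀, hξ₀⟩ := he
    exact ⟨ξ₀, subset_orbitUnion _ e (by rw [hξ₀]; exact sameBlock_refl hMp.ne_top _)⟩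
  set F := extZ (Subgroup.centralizer (P : Set G)) (blockCoeff O) with hF
  have hFcf : IsClassFunction G F := by
    intro g x
    exact extZ_blockCoeff_conj_of_stable _ O x (hN x)
      (conjIrr_image_orbitUnion _ e x _) g
  have hFS : ∀ g, MemLocalRing M (F g) := by
    intro g
    by_cases hg : g ∈ Subgroup.centralizer (P : Set G)
    · rw [hF, extZ_of_mem _ _ hg]
      exact memLocalRing_blockCoeff_of_union hMp O
        (fun χ hχ => blockOf_subset_orbitUnion _ hMp he hχ) _
    · rw [hF, extZ_of_not_mem _ _ hg]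
      exact memLocalRing_zero hMp.ne_top
  have hFF : conv F F = F := by
    rw [hF, conv_extZ, conv_blockCoeff_blockCoeff, Set.inter_self]
  have hFB : conv F (blockCoeff B) = F := by
    rw [hβ, hβA, hF, conv_extZ, conv_blockCoeff_blockCoeff, Set.inter_eq_left.2 hOA]
  rcases eq_zero_or_eq_blockCoeff hMp hB hFcf hFS hFF hFB with h0 | h1
  · exfalso
    have h2 := congrFun h0 1
    rw [hF, extZ_of_mem _ _ (Subgroup.one_mem _)] at h2
    exact blockCoeff_one_ne_zero hOne h2
  · exact h1.symm

end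

end Cfsg.Agent.Lib.Helper8
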