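import Mathlib
import Cfsg.Prelude.Def_Blocks
import Cfsg.Prelude.Def_BrauerPairs
import Cfsg.Agent.Lib.Helper8.BlockNormalTrace

/-!
# The idempotent of an orbit union as a sum of conjugates; the block of the stabilizer
-/

set_option autoImplicit false
set_option linter.unusedSectionVars false

namespace Cfsg.Agent.Lib.Helper8

open Cfsg
open scoped ComplexConjugate
open Cfsg.Agent.Lib.Helper1 Cfsg.Agent.Lib.Helper4

universe u

section

variable {G : Type u} [Group G] [Fintype G] {M : Ideal AlgInt} {p : ℕ}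

theorem mem_normalizer_of_normal (K : Subgroup G) [K.Normal] (x : G) :
    x ∈ Subgroup.normalizer (K : Set G) := by
  rw [Subgroup.normalizer_eq_top]
  trivial

/-- Two conjugates of a block which share a member are equal. -/
theorem conjIrr_image_eq_of_mem (hM : M.IsPrime) (K : Subgroup G) [Fintype K]
    {e : Set (IrrCharacter K)} (he : IsPBlock M e) (x y : G)
    (hx : x ∈ Subgroup.normalizer (K : Set G)) (hy : y ∈ Subgroup.normalizer (K : Set G))
    {ψ : IrrCharacter K} (h1 : ψ ∈ conjIrr K x hx '' e) (h2 : ψ ∈ conjIrr K y hy '' e) :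
    conjIrr K x hx '' e = conjIrr K y hy '' e := by
  rw [eq_blockOf_of_mem hM (isPBlock_image_conjIrr K x hx he) h1,
    eq_blockOf_of_mem hM (isPBlock_image_conjIrr K y hy he) h2]

theorem conjIrr_image_mul (K : Subgroup G) (e : Set (IrrCharacter K)) (x y : G)
    (hx : x ∈ Subgroup.normalizer (K : Set G)) (hy : y ∈ Subgroup.normalizer (K : Set G)) :
    conjIrr K (x * y) (Subgroup.mul_mem _ hx hy) '' e = conjIrr K x hx '' (conjIrr K y hy '' e) := by
  rw [Set.image_image]
  apply Set.image_congr
  intro χ _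
  exact conjIrr_mul K x y hx hy χ

theorem conjIrr_image_inv_image (K : Subgroup G) (e : Set (IrrCharacter K)) (x : G)
    (hx : x ∈ Subgroup.normalizer (K : Set G)) :
    conjIrr K x⁻¹ (Subgroup.inv_mem _ hx) '' (conjIrr K x hx '' e) = e := by
  rw [Set.image_image]
  conv_rhs => rw [← Set.image_id e]
  apply Set.image_congr
  intro χ _
  exact conjIrr_inv_conjIrr K x hx χ

/-- The number of conjugating elements `x` with `ψ ∈ x • e` is the order of the stabilizer. -/
theorem card_filter_mem_conjIrr_image (hM : M.IsPrime) (K : Subgroup G) [K.Normal] [Fintype K]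
    {e : Set (IrrCharacter K)} (he : IsPBlock M e) (T : Subgroup G)
    (hT : ∀ x : G, x ∈ T ↔ StabilizesBlock K e x) {ψ : IrrCharacter K}
    (hψ : ψ ∈ orbitUnion K e) [DecidablePred fun x : G =>
      ψ ∈ conjIrr K x (mem_normalizer_of_normal K x) '' e] :
    (Finset.univ.filter (fun x : G =>
      ψ ∈ conjIrr K x (mem_normalizer_of_normal K x) '' e)).card = Nat.card T := by
  classical
  obtain ⟨x₀, hx₀, hψ₀⟩ := hψ
  have hTmem : ∀ t : G, t ∈ T ↔ conjIrr K t (mem_normalizer_of_normal K t) '' e = e := by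
    intro t
    rw [hT t, stabilizesBlock_iff_image]
    constructor
    · rintro ⟨_, h⟩
      exact h
    · intro h
      exact ⟨_, h⟩
  rw [Nat.card_eq_fintype_card, ← Finset.card_univ]
  symm
  apply Finset.card_bij (fun (t : T) _ => x₀ * (t : G))
  · intro t _
    rw [Finset.mem_filter]
    refine ⟨Finset.mem_univ _, ?_⟩
    have h1 := conjIrr_image_mul K e x₀ (t : G) hx₀ (mem_normalizer_of_normal K t)
    have h2 : conjIrr K (x₀ * (t : G)) (mem_normalizer_of_normal K _) '' e =
        conjIrr K x₀ hx₀ '' e := by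
      rw [h1, (hTmem t).1 t.2]
    rw [h2]
    exact hψ₀
  · intro t₁ _ t₂ _ h
    apply Subtype.ext
    exact mul_left_cancel h
  · intro x hx
    rw [Finset.mem_filter] at hx
    have heq := conjIrr_image_eq_of_mem hM K he x x₀ (mem_normalizer_of_normal K x) hx₀ hx.2 hψ₀
    have hmem : x₀⁻¹ * x ∈ T := by
      rw [hTmem]
      have h1 := conjIrr_image_mul K e x₀⁻¹ x (Subgroup.inv_mem _ hx₀)
        (mem_normalizer_of_normal K x)
      have h2 : conjIrr K (x₀⁻¹ * x) (mem_normalizer_of_normal K _) '' e =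
          conjIrr K x₀⁻¹ (Subgroup.inv_mem _ hx₀) '' (conjIrr K x (mem_normalizer_of_normal K x) '' e) :=
        h1
      rw [h2, heq, conjIrr_image_inv_image]
    exact ⟨⟨x₀⁻¹ * x, hmem⟩, Finset.mem_univ _, by simp⟩

/-- The idempotent of the orbit union of `e` is the sum of the distinct conjugates of the
idempotent of `e`. -/
theorem extZ_blockCoeff_orbitUnion_eq_sum (hM : M.IsPrime) (K : Subgroup G) [K.Normal]
    [Fintype K] {e : Set (IrrCharacter K)} (he : IsPBlock M e) (T : Subgroup G)
    (hT : ∀ x : G, x ∈ T ↔ StabilizesBlock K e x) (g : G) :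
    extZ K (blockCoeff (orbitUnion K e)) g =
      (Nat.card T : ℂ)⁻¹ * ∑ x : G, subgroupBlockCoeff K e (x⁻¹ * g * x) := by
  classical
  have : Fintype (IrrCharacter K) := Fintype.ofFinite _
  have hT0 : (Nat.card T : ℂ) ≠ 0 := Nat.cast_ne_zero.2 Nat.card_pos.ne'
  by_cases hg : g ∈ K
  · have hterm : ∀ x : G, subgroupBlockCoeff K e (x⁻¹ * g * x) =
        blockCoeff (conjIrr K x (mem_normalizer_of_normal K x) '' e) ⟨g, hg⟩ := by
      intro x
      have hmem : x⁻¹ * g * x ∈ K := by
        have := (inferInstance : K.Normal).conj_mem g hg x⁻¹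
        simpa using this
      rw [subgroupBlockCoeff_of_mem K e hmem, blockCoeff_image_conjIrr]
      congr 1
    rw [extZ_of_mem K _ hg]
    simp only [hterm, blockCoeff_eq_sum]
    rw [← Finset.mul_sum, Finset.sum_comm]
    have hinner : ∀ ψ : IrrCharacter K,
        ∑ x : G, (if ψ ∈ conjIrr K x (mem_normalizer_of_normal K x) '' e then (1 : ℂ) else 0) *
          (ψ : K → ℂ) 1 * conj ((ψ : K → ℂ) ⟨g, hg⟩) =
        (Nat.card T : ℂ) * ((if ψ ∈ orbitUnion K e then (1 : ℂ) else 0) *
          (ψ : K → ℂ) 1 * conj ((ψ : K → ℂ) ⟨g, hg⟩)) := by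
      intro ψ
      rw [← Finset.sum_mul, ← Finset.sum_mul]
      have hcount : ∑ x : G, (if ψ ∈ conjIrr K x (mem_normalizer_of_normal K x) '' e
          then (1 : ℂ) else 0) = (Nat.card T : ℂ) * (if ψ ∈ orbitUnion K e then (1 : ℂ) else 0) := by
        by_cases hψ : ψ ∈ orbitUnion K e
        · rw [if_pos hψ, mul_one, Finset.sum_boole,
            card_filter_mem_conjIrr_image hM K he T hT hψ]
        · rw [if_neg hψ, mul_zero]
          apply Finset.sum_eq_zero
          intro x _
          rw [if_neg]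
          intro h
          exact hψ ⟨x, _, h⟩
      rw [hcount]
      ring
    simp only [hinner]
    rw [← Finset.mul_sum]
    field_simp
  · rw [extZ_of_not_mem K _ hg]
    have : ∀ x : G, subgroupBlockCoeff K e (x⁻¹ * g * x) = 0 := by
      intro x
      apply subgroupBlockCoeff_of_not_mem
      intro h
      apply hg
      have := (inferInstance : K.Normal).conj_mem _ h x
      simpa [mul_assoc] using this
    simp only [this, Finset.sum_const_zero, mul_zero]

end

end Cfsg.Agent.Lib.Helper8
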