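import Mathlib
import Cfsg.Prelude.Def_Blocks
import Cfsg.Prelude.Def_BrauerPairs
import Cfsg.Agent.Lib.Helper8.BlockNormalTrace2

/-!
# The idempotent of a block of `C_G(P)` is a block idempotent of its stabilizer
-/

set_option autoImplicit false
set_option linter.unusedSectionVars false

namespace Cfsg.Agent.Lib.Helper8

open Cfsg
open scoped ComplexConjugate
open Cfsg.Agent.Lib.Helper1 Cfsg.Agent.Lib.Helper4

universe u

section

variable {G : Type u} [Group G] [Fintype G] {M : Ideal AlgInt} {p : ℕ}

/-- Elements of `K` stabilize every set of irreducible characters of `K`. -/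
theorem stabilizesBlock_of_mem (K : Subgroup G) (e : Set (IrrCharacter K)) {x : G} (hx : x ∈ K) :
    StabilizesBlock K e x := by
  rw [stabilizesBlock_iff]
  refine ⟨Subgroup.le_normalizer hx, fun χ hχ => ?_⟩
  rw [conjIrr_of_mem K x hx χ]
  exact hχ

/-- Elements centralizing `K` stabilize every set of irreducible characters of `K`. -/
theorem stabilizesBlock_of_centralizes (K : Subgroup G) (e : Set (IrrCharacter K)) {x : G}
    (hx : ∀ k ∈ K, x * k = k * x) : StabilizesBlock K e x := by
  have hxN : x ∈ Subgroup.normalizer (K : Set G) := by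
    rw [Subgroup.mem_normalizer_iff]
    intro k
    constructor
    · intro hk
      have : x * k * x⁻¹ = k := by
        rw [hx k hk]; group
      rw [this]; exact hk
    · intro hk
      have h1 : x * (x * k * x⁻¹) = (x * k * x⁻¹) * x := hx _ hk
      have h2 : x * k = k * x := by
        have h3 : x * (x * k * x⁻¹) * x = x * (x * k) := by group
        have h4 : (x * k * x⁻¹) * x * x = x * (k * x) := by group
        have h5 : x * (x * k) = x * (k * x) := by rw [← h3, h1, h4]
        exact mul_left_cancel h5
      have : k = x * k * x⁻¹ := by rw [h2]; group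
      rw [this]; exact hk
  rw [stabilizesBlock_iff]
  refine ⟨hxN, fun χ hχ => ?_⟩
  rw [conjIrr_of_centralizes K x hxN hx χ]
  exact hχ

/-- **The block of the stabilizer**, general form: `K ≤ T`, every element of `T` stabilizes the
block `e` of `K`, and all block idempotents of `T` are supported on `K`.  Then the idempotent of
`e` is the idempotent of a block of `T`. -/
theorem exists_block_stabilizer_aux (hMp : M.IsPrime) (K : Subgroup G)
    {e : Set (IrrCharacter K)}
    (he : IsPBlock M e) (T : Subgroup G)
    (hT : ∀ x : G, x ∈ T → StabilizesBlock K e x)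
    (hKT : K ≤ T)
    (hsupp : ∀ E : Set (IrrCharacter T), IsPBlock M E → ∀ t : T, (t : G) ∉ K → blockCoeff E t = 0) :
    ∃ E : Set (IrrCharacter T), IsPBlock M E ∧ ∀ t : T, blockCoeff E t =
      subgroupBlockCoeff K e (t : G) := by
  classical
  have : Fintype T := Fintype.ofFinite _
  have : Fintype K := Fintype.ofFinite _
  have heS : ∀ k, MemLocalRing M (blockCoeff e k) := (blockCoeff_spec hMp he).2.1
  have hene : e.Nonempty := by
    obtain ⟨ξ₀, hξ₀⟩ := he
    exact ⟨ξ₀, by rw [hξ₀]; exact sameBlock_refl hMp.ne_top _⟩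
  -- the function on T
  set FT : T → ℂ := fun t => extZ K (blockCoeff e) (t : G) with hFT
  have hFTcf : IsClassFunction T FT := by
    intro t s
    exact subgroupBlockCoeff_conj_of_stabilizes K e (hT s s.2) (t : G)
  have hFTS : ∀ t, MemLocalRing M (FT t) := by
    intro t
    by_cases ht : (t : G) ∈ K
    · rw [hFT]
      beta_reduce
      rw [extZ_of_mem K _ ht]
      exact heS _
    · rw [hFT]
      beta_reduce
      rw [extZ_of_not_mem K _ ht]
      exact memLocalRing_zero hMp.ne_top
  have hsuppK : ∀ g, g ∉ T → extZ K (blockCoeff e) g = 0 :=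
    fun g hg => extZ_of_not_mem K _ (fun h => hg (hKT h))
  have hextFT : extZ K (blockCoeff e) = extZ T FT := eq_extZ_of_support T hsuppK
  have hee : conv (extZ K (blockCoeff e)) (extZ K (blockCoeff e)) = extZ K (blockCoeff e) := by
    rw [conv_extZ, conv_blockCoeff_blockCoeff, Set.inter_self]
  have hFTid : conv FT FT = FT := by
    apply extZ_injective T
    rw [← conv_extZ, ← hextFT, hee]
  set E' : Set (IrrCharacter T) := {ψ | omega (ψ : T → ℂ) FT = 1} with hE'
  have hFTE' : FT = blockCoeff E' := eq_blockCoeff_of_conv_self hFTcf hFTid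
  have hE'ne : E'.Nonempty := by
    by_contra hne
    rw [Set.not_nonempty_iff_eq_empty] at hne
    have h1 : FT 1 = 0 := by
      rw [hFTE', hne]
      unfold blockCoeff
      rw [finsum_mem_empty, mul_zero]
    have h2 : FT 1 = blockCoeff e 1 := by
      rw [hFT]
      beta_reduce
      exact extZ_of_mem K _ (Subgroup.one_mem _)
    rw [h2] at h1
    exact blockCoeff_one_ne_zero hene h1
  obtain ⟨ψ₀, hψ₀⟩ := hE'ne
  set E := blockOf M (ψ₀ : T → ℂ) with hEdef
  have hE : IsPBlock M E := ⟨ψ₀, rfl⟩
  have hEE' : E ⊆ E' := by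
    apply blockOf_subset_of_memLocalRing hMp E' _ hψ₀
    intro t
    rw [← hFTE']
    exact hFTS t
  have hEne : E.Nonempty := ⟨ψ₀, sameBlock_refl hMp.ne_top _⟩
  refine ⟨E, hE, ?_⟩
  have hES : ∀ t, MemLocalRing M (blockCoeff E t) := (blockCoeff_spec hMp hE).2.1
  -- f_E * F_T = f_E
  have hEFT : conv (blockCoeff E) FT = blockCoeff E := by
    rw [hFTE', conv_blockCoeff_blockCoeff, Set.inter_eq_left.2 hEE']
  -- f_E is supported on K
  have hEsupp : ∀ t : T, (t : G) ∉ K → blockCoeff E t = 0 := hsupp E hE
  set φ : K → ℂ := fun k => blockCoeff E ⟨(k : G), hKT k.2⟩ with hφ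
  have hextE : extZ T (blockCoeff E) = extZ K φ := by
    have hs : ∀ g, g ∉ K → extZ T (blockCoeff E) g = 0 := by
      intro g hg
      by_cases hgT : g ∈ T
      · rw [extZ_of_mem T _ hgT]
        exact hEsupp ⟨g, hgT⟩ hg
      · exact extZ_of_not_mem T _ hgT
    rw [eq_extZ_of_support K hs]
    congr 1
    funext k
    exact extZ_of_mem T _ (hKT k.2)
  have hφcf : IsClassFunction K φ := by
    intro k s
    exact isClassFunction_blockCoeff E ⟨(k : G), hKT k.2⟩ ⟨(s : G), hKT s.2⟩
  have hφS : ∀ k, MemLocalRing M (φ k) := fun k => hES _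
  have hφid : conv φ φ = φ := by
    apply extZ_injective K
    rw [← conv_extZ, ← hextE, conv_extZ, conv_blockCoeff_blockCoeff, Set.inter_self]
  have hφe : conv φ (blockCoeff e) = φ := by
    apply extZ_injective K
    rw [← conv_extZ, ← hextE, hextFT, conv_extZ, hEFT]
  rcases eq_zero_or_eq_blockCoeff hMp he hφcf hφS hφid hφe with h0 | h1
  · exfalso
    have h2 := congrFun h0 1
    have h3 : φ 1 = blockCoeff E 1 := rfl
    rw [h3] at h2
    exact blockCoeff_one_ne_zero hEne h2
  · intro t
    by_cases ht : (t : G) ∈ K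
    · rw [subgroupBlockCoeff_of_mem K e ht]
      have := congrFun h1 ⟨(t : G), ht⟩
      exact this
    · rw [subgroupBlockCoeff_of_not_mem K e ht]
      exact hEsupp t ht

/-- **The block of the stabilizer.**  Let `P` be a normal `p`-subgroup, `e` a block of `C_G(P)` and
`T` a subgroup containing `P C_G(P)` all of whose elements stabilize `e`.  Then the idempotent of
`e` is the idempotent of a block of `T`. -/
theorem exists_block_stabilizer (hM : IsPModular p M) (P : Subgroup G) [P.Normal]
    (hP : IsPGroup p P) {e : Set (IrrCharacter (Subgroup.centralizer (P : Set G)))}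
    (he : IsPBlock M e) (T : Subgroup G)
    (hT : ∀ x : G, x ∈ T → StabilizesBlock (Subgroup.centralizer (P : Set G)) e x)
    (hKT : Subgroup.centralizer (P : Set G) ≤ T) (hPT : P ≤ T) :
    ∃ E : Set (IrrCharacter T), IsPBlock M E ∧ ∀ t : T, blockCoeff E t =
      subgroupBlockCoeff (Subgroup.centralizer (P : Set G)) e (t : G) := by
  classical
  have hMp := isPModular_isPrime hM
  have : Fintype T := Fintype.ofFinite _
  apply exists_block_stabilizer_aux hMp _ he T hT hKT
  intro E hE t ht
  have hPn : (P.subgroupOf T).Normal := Subgroup.normal_subgroupOf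
  have hPp : IsPGroup p (P.subgroupOf T) := hP.comap_subtype
  apply blockCoeff_eq_zero_of_not_mem_centralizer hM (P.subgroupOf T) hPp hE
  intro htc
  apply ht
  rw [Subgroup.mem_centralizer_iff]
  intro u hu
  have := Subgroup.mem_centralizer_iff.1 htc ⟨u, hPT hu⟩ (Subgroup.mem_subgroupOf.2 hu)
  exact congrArg Subtype.val this

end

end Cfsg.Agent.Lib.Helper8
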