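import Mathlib
import Cfsg.Prelude.Def_Blocks
import Cfsg.Prelude.Def_BrauerPairs
import Cfsg.Agent.Lib.Helper8.BlockNormalTrace3

/-!
# Blocks of a subgroup `N` supported on a normal subgroup `K` of `N`: the blocks of `K` below form
a single `N`-orbit
-/

set_option autoImplicit false
set_option linter.unusedSectionVars false

namespace Cfsg.Agent.Lib.Helper8

open Cfsg
open scoped ComplexConjugate
open Cfsg.Agent.Lib.Helper1 Cfsg.Agent.Lib.Helper4

universe u

section

variable {G : Type u} [Group G] (N K : Subgroup G) {M : Ideal AlgInt}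

/-- The union of the conjugates of a set of irreducible characters of `K` under elements of `N`
normalizing `K`. -/
def orbitUnionOf (e : Set (IrrCharacter K)) : Set (IrrCharacter K) :=
  {ψ | ∃ (x : G) (_ : x ∈ N) (hx : x ∈ Subgroup.normalizer (K : Set G)), ψ ∈ conjIrr K x hx '' e}

theorem subset_orbitUnionOf (e : Set (IrrCharacter K)) : e ⊆ orbitUnionOf N K e := by
  intro ψ hψ
  exact ⟨1, Subgroup.one_mem _, Subgroup.one_mem _, ψ, hψ, conjIrr_one K ψ⟩

theorem conjIrr_mem_orbitUnionOf (e : Set (IrrCharacter K)) (y : G) (hyN : y ∈ N)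
    (hy : y ∈ Subgroup.normalizer (K : Set G)) {ψ : IrrCharacter K} (hψ : ψ ∈ orbitUnionOf N K e) :
    conjIrr K y hy ψ ∈ orbitUnionOf N K e := by
  obtain ⟨x, hxN, hx, ψ₀, hψ₀, rfl⟩ := hψ
  exact ⟨y * x, Subgroup.mul_mem _ hyN hxN, Subgroup.mul_mem _ hy hx, ψ₀, hψ₀,
    conjIrr_mul K y x hy hx ψ₀⟩

theorem conjIrr_image_orbitUnionOf (e : Set (IrrCharacter K)) (y : G) (hyN : y ∈ N)
    (hy : y ∈ Subgroup.normalizer (K : Set G)) :
    conjIrr K y hy '' orbitUnionOf N K e = orbitUnionOf N K e := by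
  ext ψ
  constructor
  · rintro ⟨ψ₀, hψ₀, rfl⟩
    exact conjIrr_mem_orbitUnionOf N K e y hyN hy hψ₀
  · intro hψ
    exact ⟨conjIrr K y⁻¹ (Subgroup.inv_mem _ hy) ψ,
      conjIrr_mem_orbitUnionOf N K e y⁻¹ (Subgroup.inv_mem _ hyN) (Subgroup.inv_mem _ hy) hψ,
      conjIrr_conjIrr_inv K y hy ψ⟩

theorem blockOf_subset_orbitUnionOf [Fintype K] (hM : M.IsPrime) {e : Set (IrrCharacter K)}
    (he : IsPBlock M e) {χ : IrrCharacter K} (hχ : χ ∈ orbitUnionOf N K e) :
    blockOf M (χ : K → ℂ) ⊆ orbitUnionOf N K e := by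
  obtain ⟨x, hxN, hx, hχx⟩ := hχ
  have hb : IsPBlock M (conjIrr K x hx '' e) := isPBlock_image_conjIrr K x hx he
  rw [← eq_blockOf_of_mem hM hb hχx]
  intro ψ hψ
  exact ⟨x, hxN, hx, hψ⟩

end

section

variable {G : Type u} [Group G] [Fintype G] {M : Ideal AlgInt}

/-- Two sets of irreducible characters with the same idempotent are equal. -/
theorem eq_of_blockCoeff_eq {A₁ A₂ : Set (IrrCharacter G)} (h : blockCoeff A₁ = blockCoeff A₂) :
    A₁ = A₂ := by
  classical
  ext ψ
  have h1 := omega_blockCoeff A₁ ψ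
  have h2 := omega_blockCoeff A₂ ψ
  rw [h] at h1
  rw [h1] at h2
  by_cases ha : ψ ∈ A₁ <;> by_cases hb : ψ ∈ A₂
  · exact ⟨fun _ => hb, fun _ => ha⟩
  · rw [if_pos ha, if_neg hb] at h2
    exact absurd h2 one_ne_zero
  · rw [if_neg ha, if_pos hb] at h2
    exact absurd h2.symm one_ne_zero
  · exact ⟨fun h => absurd h ha, fun h => absurd h hb⟩

/-- **Relative orbit theorem.**  Let `K ≤ N ≤ N_G(K)`, `β` a block of `N` whose idempotent is
supported on `K`, and `e` a block of `K` occurring in the restriction of the idempotent of `β`.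
Then the irreducible characters of `K` occurring in that restriction are exactly the members of
the `N`-conjugates of `e`. -/
theorem omega_restrict_eq_one_iff (hMp : M.IsPrime) (N K : Subgroup G) [Fintype K] [Fintype N]
    (hKN : K ≤ N) (hNK : N ≤ Subgroup.normalizer (K : Set G))
    {β : Set (IrrCharacter N)} (hβ : IsPBlock M β)
    (hsupp : ∀ n : N, (n : G) ∉ K → blockCoeff β n = 0)
    {e : Set (IrrCharacter K)} (he : IsPBlock M e) {ξ : IrrCharacter K} (hξe : ξ ∈ e)
    (hξ : MemLocalIdeal M (omega (ξ : K → ℂ) (fun k : K => blockCoeff β ⟨(k : G), hKN k.2⟩) - 1))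
    (ψ : IrrCharacter K) :
    omega (ψ : K → ℂ) (fun k : K => blockCoeff β ⟨(k : G), hKN k.2⟩) = 1 ↔
      ψ ∈ orbitUnionOf N K e := by
  classical
  set βK : K → ℂ := fun k : K => blockCoeff β ⟨(k : G), hKN k.2⟩ with hβK
  have hβS : ∀ n, MemLocalRing M (blockCoeff β n) := (blockCoeff_spec hMp hβ).2.1
  have hext : extZ N (blockCoeff β) = extZ K βK := by
    have hs : ∀ g, g ∉ K → extZ N (blockCoeff β) g = 0 := by
      intro g hg
      by_cases hgN : g ∈ N
      · rw [extZ_of_mem N _ hgN]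
        exact hsupp ⟨g, hgN⟩ hg
      · exact extZ_of_not_mem N _ hgN
    rw [eq_extZ_of_support K hs]
    congr 1
    funext k
    exact extZ_of_mem N _ (hKN k.2)
  have hββ : conv βK βK = βK := by
    apply extZ_injective K
    rw [← conv_extZ, ← hext, conv_extZ, conv_blockCoeff_blockCoeff, Set.inter_self]
  have hβcf : IsClassFunction K βK := by
    intro k s
    exact isClassFunction_blockCoeff β ⟨(k : G), hKN k.2⟩ ⟨(s : G), hKN s.2⟩
  set A : Set (IrrCharacter K) := {ψ | omega (ψ : K → ℂ) βK = 1} with hA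
  have hβA : βK = blockCoeff A := eq_blockCoeff_of_conv_self hβcf hββ
  have hAunion : ∀ χ ∈ A, blockOf M (χ : K → ℂ) ⊆ A := by
    intro χ hχ
    apply blockOf_subset_of_memLocalRing hMp A _ hχ
    intro k
    rw [← hβA]
    exact hβS _
  have hξA : ξ ∈ A := by
    by_contra hξA
    have h2 : omega (ξ : K → ℂ) βK = 0 := by
      conv_lhs => rw [hβA]
      rw [omega_blockCoeff, if_neg hξA]
    rw [h2, zero_sub] at hξ
    have := memLocalIdeal_neg hξ
    rw [neg_neg] at this
    exact not_memLocalIdeal_one hMp this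
  have heA : e ⊆ A := by
    rw [eq_blockOf_of_mem hMp he hξe]
    exact hAunion ξ hξA
  have hAst : ∀ (x : G) (hxN : x ∈ N) (ψ : IrrCharacter K), ψ ∈ A →
      conjIrr K x (hNK hxN) ψ ∈ A := by
    intro x hxN ψ hψ
    show omega _ βK = 1
    rw [omega_conjIrr]
    have : (fun k => βK (conjAutOn K x (hNK hxN) k)) = βK := by
      funext k
      exact isClassFunction_blockCoeff β ⟨(k : G), hKN k.2⟩ ⟨x, hxN⟩
    rw [this]
    exact hψ
  set O := orbitUnionOf N K e with hO
  have hOA : O ⊆ A := by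
    rintro ψ ⟨x, hxN, hx, ψ₀, hψ₀, rfl⟩
    exact hAst x hxN ψ₀ (heA hψ₀)
  have hOne : O.Nonempty := ⟨ξ, subset_orbitUnionOf N K e hξe⟩
  set F : N → ℂ := fun n => extZ K (blockCoeff O) (n : G) with hF
  have hextF : extZ K (blockCoeff O) = extZ N F :=
    eq_extZ_of_support N (fun g hg => extZ_of_not_mem K _ (fun h => hg (hKN h)))
  have hFcf : IsClassFunction N F := by
    intro n x
    exact extZ_blockCoeff_conj_of_stable K O (x : G) (hNK x.2)
      (conjIrr_image_orbitUnionOf N K e x x.2 _) (n : G)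
  have hFS : ∀ n, MemLocalRing M (F n) := by
    intro n
    by_cases hn : (n : G) ∈ K
    · rw [hF]
      beta_reduce
      rw [extZ_of_mem K _ hn]
      exact memLocalRing_blockCoeff_of_union hMp O
        (fun χ hχ => blockOf_subset_orbitUnionOf N K hMp he hχ) _
    · rw [hF]
      beta_reduce
      rw [extZ_of_not_mem K _ hn]
      exact memLocalRing_zero hMp.ne_top
  have hFF : conv F F = F := by
    apply extZ_injective N
    rw [← conv_extZ, ← hextF, conv_extZ, conv_blockCoeff_blockCoeff, Set.inter_self]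
  have hFB : conv F (blockCoeff β) = F := by
    apply extZ_injective N
    rw [← conv_extZ, ← hextF, hext, hβA, conv_extZ, conv_blockCoeff_blockCoeff,
      Set.inter_eq_left.2 hOA]
  have hFeq : F = blockCoeff β := by
    rcases eq_zero_or_eq_blockCoeff hMp hβ hFcf hFS hFF hFB with h0 | h1
    · exfalso
      have h2 := congrFun h0 1
      have h3 : F 1 = blockCoeff O 1 := by
        rw [hF]
        beta_reduce
        exact extZ_of_mem K _ (Subgroup.one_mem _)
      rw [h3] at h2
      exact blockCoeff_one_ne_zero hOne h2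
    · exact h1
  have hOA' : blockCoeff O = blockCoeff A := by
    rw [← hβA]
    apply extZ_injective K
    rw [← hext, ← hFeq, hextF]
  have hAO : A = O := (eq_of_blockCoeff_eq hOA').symm
  show ψ ∈ A ↔ ψ ∈ O
  rw [hAO]

end

end Cfsg.Agent.Lib.Helper8
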