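import Mathlib
import Cfsg.Prelude.Def_Blocks
import Cfsg.Prelude.Def_BrauerPairs
import Cfsg.Agent.Lib.Helper8.BlockRelOrbit
import Cfsg.Agent.Lib.Helper8.OrbitSum

/-!
# Normal subpairs: existence and uniqueness
-/

set_option autoImplicit false
set_option linter.unusedSectionVars false

namespace Cfsg.Agent.Lib.Helper8

open Cfsg
open scoped ComplexConjugate
open Cfsg.Agent.Lib.Helper1 Cfsg.Agent.Lib.Helper4

universe u

section

variable {G : Type u} [Group G] [Fintype G] {M : Ideal AlgInt} {p : ℕ}

/-- The normalizer of `Q` normalizes the centralizer of `Q`. -/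
theorem normalizer_le_normalizer_centralizer (Q : Subgroup G) :
    Subgroup.normalizer (Q : Set G) ≤
      Subgroup.normalizer ((Subgroup.centralizer (Q : Set G) : Subgroup G) : Set G) := by
  intro x hx
  rw [Subgroup.mem_normalizer_iff]
  intro k
  constructor
  · intro hk
    exact conj_mem_centralizer_of_mem_normalizer Q hx hk
  · intro hk
    have := conj_mem_centralizer_of_mem_normalizer Q (Subgroup.inv_mem _ hx) hk
    simpa [mul_assoc] using this

/-- **The Brauer map followed by a central character is multiplicative** modulo the local ideal on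
`P`-invariant functions whose restrictions to `C_G(P)` are class functions. -/
theorem brauerOmega_conv (hM : IsPModular p M) (P : Subgroup G) (hP : IsPGroup p P)
    [Fintype (Subgroup.centralizer (P : Set G))] {F H : G → ℂ}
    (hFinv : ∀ u ∈ P, ∀ x : G, F (u * x * u⁻¹) = F x)
    (hHinv : ∀ u ∈ P, ∀ x : G, H (u * x * u⁻¹) = H x)
    (hFS : ∀ g, MemLocalRing M (F g)) (hHS : ∀ g, MemLocalRing M (H g))
    (hHcf : IsClassFunction (Subgroup.centralizer (P : Set G))
      (fun d : Subgroup.centralizer (P : Set G) => H d))
    (hFcf : IsClassFunction (Subgroup.centralizer (P : Set G))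
      (fun d : Subgroup.centralizer (P : Set G) => F d))
    (hccf : IsClassFunction (Subgroup.centralizer (P : Set G))
      (fun d : Subgroup.centralizer (P : Set G) => conv F H d))
    (ξ : IrrCharacter (Subgroup.centralizer (P : Set G))) :
    MemLocalIdeal M (brauerOmega P (conv F H) (ξ : Subgroup.centralizer (P : Set G) → ℂ) -
      brauerOmega P F (ξ : Subgroup.centralizer (P : Set G) → ℂ) *
        brauerOmega P H (ξ : Subgroup.centralizer (P : Set G) → ℂ)) := by
  classical
  have hMp := isPModular_isPrime hM
  rw [brauerOmega_eq_omega, brauerOmega_eq_omega, brauerOmega_eq_omega,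
    ← omega_conv ξ.2 hHcf]
  apply omega_cong hMp ξ.2 hccf (isClassFunction_conv hFcf hHcf)
  intro d
  have h := brauer_conv' hM P hP hFinv hHinv hFS hHS (d : G)
  rw [truncTo_of_mem _ (show (d : G) ∈ _ from d.2)] at h
  have hsupp : ∀ g, g ∉ Subgroup.centralizer (P : Set G) →
      truncTo (Subgroup.centralizer (P : Set G) : Set G) F g = 0 :=
    fun g hg => truncTo_of_not_mem _ hg
  rw [conv_restrict (Subgroup.centralizer (P : Set G)) hsupp d] at h
  have e2 : (fun k : Subgroup.centralizer (P : Set G) =>
      truncTo (Subgroup.centralizer (P : Set G) : Set G) F (k : G))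
      = (fun d : Subgroup.centralizer (P : Set G) => F (d : G)) := by
    funext k
    rw [truncTo_of_mem _ (show (k : G) ∈ _ from k.2)]
  have e3 : (fun k : Subgroup.centralizer (P : Set G) =>
      truncTo (Subgroup.centralizer (P : Set G) : Set G) H (k : G))
      = (fun d : Subgroup.centralizer (P : Set G) => H (d : G)) := by
    funext k
    rw [truncTo_of_mem _ (show (k : G) ∈ _ from k.2)]
  rw [e2, e3] at h
  exact h

/-- The sum of all block idempotents is the identity. -/
theorem sum_blocks_blockCoeff (hM : M.IsPrime) [Fintype (Set (IrrCharacter G))]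
    [DecidablePred (fun f : Set (IrrCharacter G) => IsPBlock M f)] (g : G) :
    ∑ f : Set (IrrCharacter G), (if IsPBlock M f then blockCoeff f g else 0) = deltaOne g := by
  classical
  have : Fintype (IrrCharacter G) := Fintype.ofFinite _
  rw [← blockCoeff_univ]
  have h1 : ∀ f : Set (IrrCharacter G), (if IsPBlock M f then blockCoeff f g else 0) =
      (Nat.card G : ℂ)⁻¹ * ∑ ψ : IrrCharacter G, (if IsPBlock M f ∧ ψ ∈ f then (1 : ℂ) else 0) *
        (ψ : G → ℂ) 1 * conj ((ψ : G → ℂ) g) := by
    intro f
    by_cases hf : IsPBlock M f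
    · rw [if_pos hf, blockCoeff_eq_sum]
      congr 1
      refine Finset.sum_congr rfl fun ψ _ => ?_
      by_cases hψ : ψ ∈ f
      · rw [if_pos hψ, if_pos ⟨hf, hψ⟩]
      · rw [if_neg hψ, if_neg (fun h => hψ h.2)]
    · rw [if_neg hf]
      symm
      apply mul_eq_zero_of_right
      apply Finset.sum_eq_zero
      intro ψ _
      rw [if_neg (fun h => hf h.1), zero_mul, zero_mul]
  simp only [h1]
  rw [← Finset.mul_sum, Finset.sum_comm, blockCoeff_eq_sum]
  congr 1
  refine Finset.sum_congr rfl fun ψ _ => ?_
  rw [← Finset.sum_mul, ← Finset.sum_mul, if_pos (Set.mem_univ ψ)]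
  congr 2
  rw [Finset.sum_eq_single (blockOf M (ψ : G → ℂ))]
  · rw [if_pos ⟨⟨ψ, rfl⟩, sameBlock_refl hM.ne_top _⟩]
  · intro f _ hf
    rw [if_neg]
    rintro ⟨hfb, hψf⟩
    exact hf (eq_blockOf_of_mem hM hfb hψf)
  · intro h
    exact absurd (Finset.mem_univ _) h

end

section

variable {G : Type u} [Group G] (K : Subgroup G)

/-- The action of a subgroup `P ≤ N_G(K)` on the sets of irreducible characters of `K`. -/
@[reducible] noncomputable def conjSetAction (P : Subgroup G)
    (hPK : P ≤ Subgroup.normalizer (K : Set G)) : MulAction P (Set (IrrCharacter K)) where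
  smul u f := conjIrr K (u : G) (hPK u.2) '' f
  one_smul := by
    intro f
    show conjIrr K ((1 : P) : G) _ '' f = f
    conv_rhs => rw [← Set.image_id f]
    apply Set.image_congr
    intro χ _
    exact conjIrr_one K χ
  mul_smul := by
    intro u v f
    show conjIrr K ((u * v : P) : G) _ '' f = conjIrr K (u : G) _ '' (conjIrr K (v : G) _ '' f)
    rw [Set.image_image]
    apply Set.image_congr
    intro χ _
    exact conjIrr_mul K (u : G) (v : G) (hPK u.2) (hPK v.2) χ

end

end Cfsg.Agent.Lib.Helper8
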