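import Mathlib
import Cfsg.Prelude.Def_Blocks
import Cfsg.Prelude.Def_BrauerPairs
import Cfsg.Agent.Lib.Helper8.BlockPairs3

/-!
# Normal subpairs: existence and uniqueness (S4656)
-/

set_option autoImplicit false
set_option linter.unusedSectionVars false

namespace Cfsg.Agent.Lib.Helper8

open Cfsg
open scoped ComplexConjugate
open Cfsg.Agent.Lib.Helper1 Cfsg.Agent.Lib.Helper4

universe u

section

variable {G : Type u} [Group G] [Fintype G] {M : Ideal AlgInt} {p : ℕ}

theorem memLocalRing_extZ (hM : M ≠ ⊤) (K : Subgroup G) {a : K → ℂ}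
    (ha : ∀ k, MemLocalRing M (a k)) (g : G) : MemLocalRing M (extZ K a g) := by
  by_cases hg : g ∈ K
  · rw [extZ_of_mem K _ hg]; exact ha _
  · rw [extZ_of_not_mem K _ hg]; exact memLocalRing_zero hM

/-- The restriction to a subgroup `D ≤ K` of the extension by zero of a class function on `K` is
a class function on `D`. -/
theorem isClassFunction_extZ_restrict {D K : Subgroup G} (hDK : D ≤ K) {a : K → ℂ}
    (ha : IsClassFunction K a) : IsClassFunction D (fun d : D => extZ K a d) := by
  intro d s
  show extZ K a ((s * d * s⁻¹ : D) : G) = extZ K a (d : G)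
  have h1 : ((s * d * s⁻¹ : D) : G) = ((⟨s, hDK s.2⟩ * ⟨d, hDK d.2⟩ * (⟨s, hDK s.2⟩ : K)⁻¹ : K) : G) := by
    simp
  rw [h1, extZ_coe, extZ_of_mem K a (hDK d.2)]
  exact ha _ _

/-- If `(Q, f)` and `(Q, f')` are both normally below `(P, e)` then `f = f'`. -/
theorem isNormalSubpair_unique (hM : IsPModular p M) (P Q : Subgroup G)
    {e : Set (IrrCharacter (Subgroup.centralizer (P : Set G)))}
    {f₁ f₂ : Set (IrrCharacter (Subgroup.centralizer (Q : Set G)))}
    (h₁ : IsNormalSubpair p M Q f₁ P e) (h₂ : IsNormalSubpair p M Q f₂ P e) : f₁ = f₂ := by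
  classical
  have hMp := isPModular_isPrime hM
  have : Fintype (Subgroup.centralizer (Q : Set G)) := Fintype.ofFinite _
  have : Fintype (Subgroup.centralizer (P : Set G)) := Fintype.ofFinite _
  obtain ⟨⟨hQ, hf₁⟩, ⟨hP, he⟩, hQP, hPN, hst₁, hocc₁⟩ := h₁
  obtain ⟨⟨_, hf₂⟩, _, _, _, hst₂, hocc₂⟩ := h₂
  have hCK : Subgroup.centralizer (P : Set G) ≤ Subgroup.centralizer (Q : Set G) :=
    Subgroup.centralizer_le (by exact_mod_cast hQP)
  by_contra hne
  have hdisj : f₁ ∩ f₂ = ∅ := by
    rw [Set.eq_empty_iff_forall_notMem]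
    rintro ψ ⟨h1, h2⟩
    apply hne
    rw [eq_blockOf_of_mem hMp hf₁ h1, eq_blockOf_of_mem hMp hf₂ h2]
  obtain ⟨ξ, hξ⟩ : ∃ ξ, ξ ∈ e := by
    obtain ⟨ξ₀, rfl⟩ := he
    exact ⟨ξ₀, sameBlock_refl hMp.ne_top _⟩
  have hS₁ := (blockCoeff_spec hMp hf₁).2.1
  have hS₂ := (blockCoeff_spec hMp hf₂).2.1
  have hconv : conv (extZ (Subgroup.centralizer (Q : Set G)) (blockCoeff f₁))
      (extZ (Subgroup.centralizer (Q : Set G)) (blockCoeff f₂)) = 0 := by
    rw [conv_extZ, conv_blockCoeff_blockCoeff, hdisj]
    funext g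
    by_cases hg : g ∈ Subgroup.centralizer (Q : Set G)
    · rw [extZ_of_mem _ _ hg]
      unfold blockCoeff
      rw [finsum_mem_empty, mul_zero]
      rfl
    · rw [extZ_of_not_mem _ _ hg]
      rfl
  have key := brauerOmega_conv hM P hP
    (F := extZ (Subgroup.centralizer (Q : Set G)) (blockCoeff f₁))
    (H := extZ (Subgroup.centralizer (Q : Set G)) (blockCoeff f₂))
    (fun u hu x => subgroupBlockCoeff_conj_of_stabilizes _ f₁ (hst₁ u hu) x)
    (fun u hu x => subgroupBlockCoeff_conj_of_stabilizes _ f₂ (hst₂ u hu) x)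
    (memLocalRing_extZ hMp.ne_top _ hS₁) (memLocalRing_extZ hMp.ne_top _ hS₂)
    (isClassFunction_extZ_restrict hCK (isClassFunction_blockCoeff f₂))
    (isClassFunction_extZ_restrict hCK (isClassFunction_blockCoeff f₁))
    (by
      rw [hconv]
      intro d s
      rfl) ξ
  rw [hconv] at key
  have h0 : brauerOmega P (0 : G → ℂ) (ξ : Subgroup.centralizer (P : Set G) → ℂ) = 0 := by
    unfold brauerOmega
    simp
  rw [h0, zero_sub] at key
  have hk := memLocalIdeal_neg key
  rw [neg_neg] at hk
  have h1 := hocc₁ ξ hξ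
  have h2 := hocc₂ ξ hξ
  rw [subgroupBlockCoeff_eq_extZ] at h1 h2
  have hprod := memLocalIdeal_mul_sub_one hMp h1 h2
  have : MemLocalIdeal M (1 : ℂ) := by
    have := memLocalIdeal_sub hMp hk hprod
    rwa [sub_sub_cancel] at this
  exact not_memLocalIdeal_one hMp this

/-- Existence of a normal subpair. -/
theorem exists_isNormalSubpair (hM : IsPModular p M) (P Q : Subgroup G)
    {e : Set (IrrCharacter (Subgroup.centralizer (P : Set G)))}
    (hPe : IsBrauerPair p M P e) (hQP : Q ≤ P) (hPN : P ≤ Subgroup.normalizer (Q : Set G)) :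
    ∃ f : Set (IrrCharacter (Subgroup.centralizer (Q : Set G))), IsNormalSubpair p M Q f P e := by
  classical
  have hMp := isPModular_isPrime hM
  have : Fintype (Subgroup.centralizer (Q : Set G)) := Fintype.ofFinite _
  have : Fintype (Subgroup.centralizer (P : Set G)) := Fintype.ofFinite _
  obtain ⟨hP, he⟩ := hPe
  have hQ : IsPGroup p Q := hP.to_le hQP
  have hCK : Subgroup.centralizer (P : Set G) ≤ Subgroup.centralizer (Q : Set G) :=
    Subgroup.centralizer_le (by exact_mod_cast hQP)
  have hPK : P ≤ Subgroup.normalizer ((Subgroup.centralizer (Q : Set G) : Subgroup G) : Set G) :=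
    hPN.trans (normalizer_le_normalizer_centralizer Q)
  obtain ⟨ξ, hξ⟩ : ∃ ξ, ξ ∈ e := by
    obtain ⟨ξ₀, rfl⟩ := he
    exact ⟨ξ₀, sameBlock_refl hMp.ne_top _⟩
  have hξ1 := irr_apply_one_ne_zero ξ.2
  have : Fintype (Set (IrrCharacter (Subgroup.centralizer (Q : Set G)))) := Fintype.ofFinite _
  let _ := conjSetAction (Subgroup.centralizer (Q : Set G)) P hPK
  -- the function on sets of characters
  set φ : Set (IrrCharacter (Subgroup.centralizer (Q : Set G))) → ℂ := fun f =>
    if IsPBlock M f then brauerOmega P (extZ (Subgroup.centralizer (Q : Set G)) (blockCoeff f))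
      (ξ : Subgroup.centralizer (P : Set G) → ℂ) else 0 with hφ
  have hsmul : ∀ (u : P) (f : Set (IrrCharacter (Subgroup.centralizer (Q : Set G)))),
      u • f = conjIrr (Subgroup.centralizer (Q : Set G)) (u : G) (hPK u.2) '' f := fun _ _ => rfl
  have hblk : ∀ (u : P) (f : Set (IrrCharacter (Subgroup.centralizer (Q : Set G)))),
      IsPBlock M (u • f) ↔ IsPBlock M f := by
    intro u f
    constructor
    · intro h
      have := isPBlock_image_conjIrr _ (u : G)⁻¹ (Subgroup.inv_mem _ (hPK u.2)) h
      rw [hsmul, conjIrr_image_inv_image] at this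
      exact this
    · intro h
      exact isPBlock_image_conjIrr _ (u : G) (hPK u.2) h
  have hval : ∀ (u : P) (f : Set (IrrCharacter (Subgroup.centralizer (Q : Set G))))
      (x : Subgroup.centralizer (P : Set G)),
      extZ (Subgroup.centralizer (Q : Set G)) (blockCoeff (u • f)) (x : G) =
        extZ (Subgroup.centralizer (Q : Set G)) (blockCoeff f) (x : G) := by
    intro u f x
    rw [extZ_of_mem _ _ (hCK x.2), extZ_of_mem _ _ (hCK x.2), hsmul, blockCoeff_image_conjIrr]
    apply congrArg
    apply Subtype.ext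
    rw [conjAutOn_symm_apply_coe]
    have := Subgroup.mem_centralizer_iff.1 x.2 (u : G) u.2
    show (u : G)⁻¹ * (x : G) * (u : G) = (x : G)
    rw [mul_assoc, ← this, ← mul_assoc, inv_mul_cancel, one_mul]
  have hφinv : ∀ (u : P) (f : Set (IrrCharacter (Subgroup.centralizer (Q : Set G)))),
      φ (u • f) = φ f := by
    intro u f
    simp only [hφ]
    by_cases hf : IsPBlock M f
    · rw [if_pos hf, if_pos ((hblk u f).2 hf)]
      unfold brauerOmega
      refine finsum_congr fun x => ?_
      rw [hval u f x]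
    · rw [if_neg hf, if_neg (fun h => hf ((hblk u f).1 h))]
  have hφS : ∀ f, MemLocalRing M (φ f) := by
    intro f
    simp only [hφ]
    by_cases hf : IsPBlock M f
    · rw [if_pos hf, brauerOmega_eq_omega]
      exact memLocalRing_omega hMp ξ.2
        (isClassFunction_extZ_restrict hCK (isClassFunction_blockCoeff f))
        (fun d => memLocalRing_extZ hMp.ne_top _ (blockCoeff_spec hMp hf).2.1 _)
    · rw [if_neg hf]
      exact memLocalRing_zero hMp.ne_top
  have hcount := memLocalIdeal_sum_sub_sum_fixedPoints hM hP φ hφinv hφS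
  -- the total sum is one
  have htotal : ∑ f, φ f = 1 := by
    have h1 : ∀ f : Set (IrrCharacter (Subgroup.centralizer (Q : Set G))), φ f =
        (∑ x : Subgroup.centralizer (P : Set G),
          (if IsPBlock M f then blockCoeff f ⟨(x : G), hCK x.2⟩ else 0) *
            (ξ : Subgroup.centralizer (P : Set G) → ℂ) x) /
          (ξ : Subgroup.centralizer (P : Set G) → ℂ) 1 := by
      intro f
      simp only [hφ]
      by_cases hf : IsPBlock M f
      · rw [if_pos hf, brauerOmega_eq_omega]
        unfold omega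
        congr 1
        refine Finset.sum_congr rfl fun x _ => ?_
        beta_reduce
        rw [if_pos hf, extZ_of_mem _ _ (hCK x.2)]
      · rw [if_neg hf]
        symm
        rw [div_eq_zero_iff]
        left
        apply Finset.sum_eq_zero
        intro x _
        rw [if_neg hf, zero_mul]
    simp only [h1]
    rw [← Finset.sum_div, Finset.sum_comm]
    simp only [← Finset.sum_mul]
    have h2 : ∀ x : Subgroup.centralizer (P : Set G),
        ∑ f : Set (IrrCharacter (Subgroup.centralizer (Q : Set G))),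
          (if IsPBlock M f then blockCoeff f ⟨(x : G), hCK x.2⟩ else 0) =
        deltaOne (⟨(x : G), hCK x.2⟩ : Subgroup.centralizer (Q : Set G)) :=
      fun x => sum_blocks_blockCoeff hMp _
    simp only [h2]
    rw [Finset.sum_eq_single (1 : Subgroup.centralizer (P : Set G))]
    · have : deltaOne (⟨((1 : Subgroup.centralizer (P : Set G)) : G), hCK (1 : Subgroup.centralizer (P : Set G)).2⟩ :
          Subgroup.centralizer (Q : Set G)) = 1 := by
        unfold deltaOne
        rw [if_pos]
        rfl
      rw [this, one_mul, div_self hξ1]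
    · intro x _ hx
      have : deltaOne (⟨(x : G), hCK x.2⟩ : Subgroup.centralizer (Q : Set G)) = 0 := by
        unfold deltaOne
        rw [if_neg]
        intro h
        apply hx
        apply Subtype.ext
        have h' : ((⟨(x : G), hCK x.2⟩ : Subgroup.centralizer (Q : Set G)) : G) =
            ((1 : Subgroup.centralizer (Q : Set G)) : G) := congrArg Subtype.val h
        exact h'
      rw [this, zero_mul]
    · intro h
      exact absurd (Finset.mem_univ _) h
  rw [htotal] at hcount
  -- some fixed block has a unit value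
  have hex : ∃ f ∈ Finset.univ.filter (fun f : Set (IrrCharacter (Subgroup.centralizer (Q : Set G))) =>
      f ∈ MulAction.fixedPoints P (Set (IrrCharacter (Subgroup.centralizer (Q : Set G))))),
      ¬ MemLocalIdeal M (φ f) := by
    by_contra hcon
    push Not at hcon
    have h1 := memLocalIdeal_sum hMp _ _ hcon
    have := memLocalIdeal_add hMp hcount h1
    rw [sub_add_cancel] at this
    exact not_memLocalIdeal_one hMp this
  obtain ⟨f, hfmem, hfJ⟩ := hex
  rw [Finset.mem_filter] at hfmem
  have hffix := hfmem.2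
  have hf : IsPBlock M f := by
    by_contra hf
    apply hfJ
    simp only [hφ]
    rw [if_neg hf]
    exact memLocalIdeal_zero hMp.ne_top
  have hφf : φ f = brauerOmega P (extZ (Subgroup.centralizer (Q : Set G)) (blockCoeff f))
      (ξ : Subgroup.centralizer (P : Set G) → ℂ) := by
    simp only [hφ]
    rw [if_pos hf]
  have hstab : ∀ x ∈ P, StabilizesBlock (Subgroup.centralizer (Q : Set G)) f x := by
    intro x hx
    rw [stabilizesBlock_iff_image]
    exact ⟨hPK hx, hffix ⟨x, hx⟩⟩
  have hS := (blockCoeff_spec hMp hf).2.1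
  have hFinv : ∀ u ∈ P, ∀ x : G, extZ (Subgroup.centralizer (Q : Set G)) (blockCoeff f) (u * x * u⁻¹)
      = extZ (Subgroup.centralizer (Q : Set G)) (blockCoeff f) x :=
    fun u hu x => subgroupBlockCoeff_conj_of_stabilizes _ f (hstab u hu) x
  have hconv : conv (extZ (Subgroup.centralizer (Q : Set G)) (blockCoeff f))
      (extZ (Subgroup.centralizer (Q : Set G)) (blockCoeff f)) =
      extZ (Subgroup.centralizer (Q : Set G)) (blockCoeff f) := by
    rw [conv_extZ, conv_blockCoeff_blockCoeff, Set.inter_self]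
  have hres := isClassFunction_extZ_restrict hCK (isClassFunction_blockCoeff f)
  have key := brauerOmega_conv hM P hP hFinv hFinv
    (memLocalRing_extZ hMp.ne_top _ hS) (memLocalRing_extZ hMp.ne_top _ hS) hres hres
    (by rw [hconv]; exact hres) ξ
  rw [hconv, ← hφf] at key
  -- φ f is an idempotent unit, hence congruent to one
  have hone : MemLocalIdeal M (φ f - 1) := by
    by_contra hcon
    have h1 : MemLocalIdeal M (φ f * (φ f - 1)) := by
      have e : φ f * (φ f - 1) = -(φ f - φ f * φ f) := by ring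
      rw [e]
      exact memLocalIdeal_neg key
    exact not_memLocalIdeal_mul hMp (hφS f)
      (memLocalRing_sub hMp (hφS f) (memLocalRing_one hMp.ne_top)) hfJ hcon h1
  refine ⟨f, ⟨hQ, hf⟩, ⟨hP, he⟩, hQP, hPN, hstab, ?_⟩
  intro ξ' hξ'
  have hsame : SameBlock M (ξ' : Subgroup.centralizer (P : Set G) → ℂ)
      (ξ : Subgroup.centralizer (P : Set G) → ℂ) := by
    obtain ⟨ξ₀, rfl⟩ := he
    exact sameBlock_trans hMp (sameBlock_symm hξ') hξ
  have h2 := memLocalIdeal_omega_sub hMp ξ'.2 ξ.2 hsame hres
    (fun d => memLocalRing_extZ hMp.ne_top _ hS _)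
  rw [subgroupBlockCoeff_eq_extZ, brauerOmega_eq_omega]
  rw [hφf, brauerOmega_eq_omega] at hone
  exact cong_trans hMp h2 hone

end

end Cfsg.Agent.Lib.Helper8
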