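import Mathlib
import Cfsg.Prelude.Def_Blocks
import Cfsg.Prelude.Def_BrauerPairs
import Cfsg.Agent.Lib.Helper8.BlockPairs4

/-!
# Inclusion of Brauer pairs: the normal-normal lemma
-/

set_option autoImplicit false
set_option linter.unusedSectionVars false

namespace Cfsg.Agent.Lib.Helper8

open Cfsg
open scoped ComplexConjugate
open Cfsg.Agent.Lib.Helper1 Cfsg.Agent.Lib.Helper4

universe u

section

variable {G : Type u} [Group G] [Fintype G] {M : Ideal AlgInt} {p : ℕ}

/-- The convolution of two functions invariant under conjugation by `t` is invariant under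
conjugation by `t`. -/
theorem conv_conj_of_invariant {F H : G → ℂ} (t : G) (hF : ∀ x, F (t * x * t⁻¹) = F x)
    (hH : ∀ x, H (t * x * t⁻¹) = H x) (x : G) : conv F H (t * x * t⁻¹) = conv F H x := by
  rw [conv_apply, conv_apply]
  rw [← Equiv.sum_comp (MulAut.conj t).toEquiv]
  refine Finset.sum_congr rfl fun y _ => ?_
  have h1 : (MulAut.conj t).toEquiv y = t * y * t⁻¹ := rfl
  rw [h1, hF y]
  congr 1
  have h2 : (t * y * t⁻¹)⁻¹ * (t * x * t⁻¹) = t * (y⁻¹ * x) * t⁻¹ := by group
  rw [h2, hH]

omit [Fintype G] in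
/-- The extension by zero of a class function on `K` is invariant under conjugation by elements of
`K`. -/
theorem extZ_conj_of_mem (K : Subgroup G) {a : K → ℂ} (ha : IsClassFunction K a) {t : G}
    (ht : t ∈ K) (x : G) : extZ K a (t * x * t⁻¹) = extZ K a x := by
  by_cases hx : x ∈ K
  · have hx' : t * x * t⁻¹ ∈ K := K.mul_mem (K.mul_mem ht hx) (K.inv_mem ht)
    rw [extZ_of_mem K a hx', extZ_of_mem K a hx]
    exact ha ⟨x, hx⟩ ⟨t, ht⟩
  · have hx' : t * x * t⁻¹ ∉ K := by
      intro h
      apply hx
      have : x = t⁻¹ * (t * x * t⁻¹) * t := by group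
      rw [this]
      exact K.mul_mem (K.mul_mem (K.inv_mem ht) h) ht
    rw [extZ_of_not_mem K a hx', extZ_of_not_mem K a hx]

omit [Fintype G] in
theorem blockCoeff_empty_eq_zero : blockCoeff (∅ : Set (IrrCharacter G)) = 0 := by
  funext g
  unfold blockCoeff
  rw [finsum_mem_empty, mul_zero]
  rfl

/-- **The normal–normal lemma.**  If `Q ≤ R` and both `(Q, f)` and `(R, g)` are normally below
`(P, e)`, then `(Q, f)` is normally below `(R, g)`. -/
theorem isNormalSubpair_of_normal_of_normal (hM : IsPModular p M) (P Q R : Subgroup G)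
    {e : Set (IrrCharacter (Subgroup.centralizer (P : Set G)))}
    {f : Set (IrrCharacter (Subgroup.centralizer (Q : Set G)))}
    {g : Set (IrrCharacter (Subgroup.centralizer (R : Set G)))}
    (h₁ : IsNormalSubpair p M Q f P e) (h₂ : IsNormalSubpair p M R g P e) (hQR : Q ≤ R) :
    IsNormalSubpair p M Q f R g := by
  classical
  have hMp := isPModular_isPrime hM
  have : Fintype (Subgroup.centralizer (Q : Set G)) := Fintype.ofFinite _
  have : Fintype (Subgroup.centralizer (R : Set G)) := Fintype.ofFinite _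
  have : Fintype (Subgroup.centralizer (P : Set G)) := Fintype.ofFinite _
  obtain ⟨hQf, hPe, hQP, hPNQ, hstf, hoccf⟩ := h₁
  obtain ⟨hRg, _, hRP, hPNR, hstg, hoccg⟩ := h₂
  refine ⟨hQf, hRg, hQR, hRP.trans hPNQ, fun x hx => hstf x (hRP hx), ?_⟩
  have hKRQ : Subgroup.centralizer (R : Set G) ≤ Subgroup.centralizer (Q : Set G) :=
    Subgroup.centralizer_le (by exact_mod_cast hQR)
  have hKPR : Subgroup.centralizer (P : Set G) ≤ Subgroup.centralizer (R : Set G) :=
    Subgroup.centralizer_le (by exact_mod_cast hRP)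
  have hKPQ := hKPR.trans hKRQ
  obtain ⟨hfcf, hfS, hfω⟩ := blockCoeff_spec hMp hQf.2
  obtain ⟨hgcf, hgS, hgω⟩ := blockCoeff_spec hMp hRg.2
  have hFinv : ∀ u ∈ P, ∀ x, extZ (Subgroup.centralizer (Q : Set G)) (blockCoeff f) (u * x * u⁻¹)
      = extZ (Subgroup.centralizer (Q : Set G)) (blockCoeff f) x :=
    fun u hu x => subgroupBlockCoeff_conj_of_stabilizes _ f (hstf u hu) x
  have hHinv : ∀ u ∈ P, ∀ x, extZ (Subgroup.centralizer (R : Set G)) (blockCoeff g) (u * x * u⁻¹)
      = extZ (Subgroup.centralizer (R : Set G)) (blockCoeff g) x :=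
    fun u hu x => subgroupBlockCoeff_conj_of_stabilizes _ g (hstg u hu) x
  have hFS : ∀ x, MemLocalRing M (extZ (Subgroup.centralizer (Q : Set G)) (blockCoeff f) x) :=
    memLocalRing_extZ hMp.ne_top _ hfS
  have hHS : ∀ x, MemLocalRing M (extZ (Subgroup.centralizer (R : Set G)) (blockCoeff g) x) :=
    memLocalRing_extZ hMp.ne_top _ hgS
  have hFRcf : IsClassFunction (Subgroup.centralizer (R : Set G))
      (fun k : Subgroup.centralizer (R : Set G) =>
        extZ (Subgroup.centralizer (Q : Set G)) (blockCoeff f) k) :=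
    isClassFunction_extZ_restrict hKRQ hfcf
  have hFF : conv (extZ (Subgroup.centralizer (Q : Set G)) (blockCoeff f))
      (extZ (Subgroup.centralizer (Q : Set G)) (blockCoeff f))
      = extZ (Subgroup.centralizer (Q : Set G)) (blockCoeff f) := by
    rw [conv_extZ, conv_blockCoeff_blockCoeff, Set.inter_self]
  have hsuppF : ∀ x, x ∉ Subgroup.centralizer (R : Set G) →
      truncTo (Subgroup.centralizer (R : Set G) : Set G)
        (extZ (Subgroup.centralizer (Q : Set G)) (blockCoeff f)) x = 0 :=
    fun x hx => truncTo_of_not_mem _ hx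
  have eF : (fun k : Subgroup.centralizer (R : Set G) =>
      truncTo (Subgroup.centralizer (R : Set G) : Set G)
        (extZ (Subgroup.centralizer (Q : Set G)) (blockCoeff f)) (k : G))
      = (fun k : Subgroup.centralizer (R : Set G) =>
        extZ (Subgroup.centralizer (Q : Set G)) (blockCoeff f) k) := by
    funext k'
    exact truncTo_of_mem _ (show (k' : G) ∈ _ from k'.2)
  have eH : (fun k : Subgroup.centralizer (R : Set G) =>
      truncTo (Subgroup.centralizer (R : Set G) : Set G)
        (extZ (Subgroup.centralizer (R : Set G)) (blockCoeff g)) (k : G)) = blockCoeff g := by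
    funext k'
    rw [truncTo_of_mem _ (show (k' : G) ∈ _ from k'.2), extZ_coe]
  have hid : ∀ k : Subgroup.centralizer (R : Set G), MemLocalIdeal M
      (conv (fun k : Subgroup.centralizer (R : Set G) =>
        extZ (Subgroup.centralizer (Q : Set G)) (blockCoeff f) k)
        (fun k : Subgroup.centralizer (R : Set G) =>
        extZ (Subgroup.centralizer (Q : Set G)) (blockCoeff f) k) k
        - extZ (Subgroup.centralizer (Q : Set G)) (blockCoeff f) k) := by
    intro k
    have h := brauer_conv' hM R hRg.1 (fun u hu x => hFinv u (hRP hu) x)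
      (fun u hu x => hFinv u (hRP hu) x) hFS hFS (k : G)
    rw [hFF, truncTo_of_mem _ (show (k : G) ∈ _ from k.2), conv_restrict _ hsuppF k, eF] at h
    exact cong_symm h
  let A : Set (IrrCharacter (Subgroup.centralizer (R : Set G))) := {ψ | MemLocalIdeal M
    (omega (ψ : Subgroup.centralizer (R : Set G) → ℂ) (fun k : Subgroup.centralizer (R : Set G) =>
        extZ (Subgroup.centralizer (Q : Set G)) (blockCoeff f) k) - 1)}
  obtain ⟨hA0, hAcf, hAω, hAS, hAc⟩ := cong_blockCoeff_of_idempotent hMp hFRcf (fun k => hFS _) hid A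
    (fun ψ => Iff.rfl)
  intro ξ hξ
  rw [subgroupBlockCoeff_eq_extZ, brauerOmega_eq_omega]
  by_contra hnot
  have hξA : ξ ∉ A := hnot
  have hgA : A ∩ g = ∅ := by
    rw [Set.eq_empty_iff_forall_notMem]
    rintro ψ ⟨hψA, hψg⟩
    have hsb : SameBlock M (ψ : Subgroup.centralizer (R : Set G) → ℂ)
        (ξ : Subgroup.centralizer (R : Set G) → ℂ) := by
      obtain ⟨χ₀, rfl⟩ := hRg.2
      exact sameBlock_trans hMp (sameBlock_symm hψg) hξ
    have h2 := memLocalIdeal_omega_sub hMp ψ.2 ξ.2 hsb hFRcf (fun k => hFS _)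
    apply hξA
    have h3 := memLocalIdeal_sub hMp hψA h2
    have e3 : ∀ a b : ℂ, a - 1 - (a - b) = b - 1 := fun a b => by ring
    rw [e3] at h3
    exact h3
  obtain ⟨ζ, hζ⟩ : ∃ ζ, ζ ∈ e := by
    obtain ⟨ξ₀, rfl⟩ := hPe.2
    exact ⟨ξ₀, sameBlock_refl hMp.ne_top _⟩
  have hc1 := hoccf ζ hζ
  have hc2 := hoccg ζ hζ
  rw [subgroupBlockCoeff_eq_extZ] at hc1 hc2
  have hccf : IsClassFunction (Subgroup.centralizer (P : Set G))
      (fun d : Subgroup.centralizer (P : Set G) =>
        conv (extZ (Subgroup.centralizer (Q : Set G)) (blockCoeff f))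
          (extZ (Subgroup.centralizer (R : Set G)) (blockCoeff g)) d) := by
    intro d s
    show conv _ _ ((s * d * s⁻¹ : Subgroup.centralizer (P : Set G)) : G) = conv _ _ (d : G)
    have : ((s * d * s⁻¹ : Subgroup.centralizer (P : Set G)) : G) = (s : G) * d * (s : G)⁻¹ := by
      simp
    rw [this]
    exact conv_conj_of_invariant (s : G) (fun x => extZ_conj_of_mem _ hfcf (hKPQ s.2) x)
      (fun x => extZ_conj_of_mem _ hgcf (hKPR s.2) x) d
  have key := brauerOmega_conv hM P hPe.1 hFinv hHinv hFS hHS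
    (isClassFunction_extZ_restrict hKPR hgcf) (isClassFunction_extZ_restrict hKPQ hfcf) hccf ζ
  have hpt : ∀ k : Subgroup.centralizer (R : Set G), MemLocalIdeal M
      (conv (extZ (Subgroup.centralizer (Q : Set G)) (blockCoeff f))
          (extZ (Subgroup.centralizer (R : Set G)) (blockCoeff g)) (k : G)) := by
    intro k
    have h := brauer_conv' hM R hRg.1 (fun u hu x => hFinv u (hRP hu) x)
      (fun u hu x => hHinv u (hRP hu) x) hFS hHS (k : G)
    rw [truncTo_of_mem _ (show (k : G) ∈ _ from k.2), conv_restrict _ hsuppF k, eF, eH] at h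
    have h5 : MemLocalIdeal M (conv (fun k : Subgroup.centralizer (R : Set G) =>
        extZ (Subgroup.centralizer (Q : Set G)) (blockCoeff f) k) (blockCoeff g) k) := by
      have e5 : conv (fun k : Subgroup.centralizer (R : Set G) =>
          extZ (Subgroup.centralizer (Q : Set G)) (blockCoeff f) k) (blockCoeff g)
          = conv ((fun k : Subgroup.centralizer (R : Set G) =>
          extZ (Subgroup.centralizer (Q : Set G)) (blockCoeff f) k) - blockCoeff A)
            (blockCoeff g) := by
        rw [conv_sub_left, conv_blockCoeff_blockCoeff, hgA, blockCoeff_empty_eq_zero, sub_zero]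
      rw [e5]
      exact memLocalIdeal_conv_left hMp (fun x => hAc x) hgS k
    have := memLocalIdeal_add hMp h h5
    rwa [sub_add_cancel] at this
  have hz : MemLocalIdeal M (brauerOmega P
      (conv (extZ (Subgroup.centralizer (Q : Set G)) (blockCoeff f))
          (extZ (Subgroup.centralizer (R : Set G)) (blockCoeff g)))
      (ζ : Subgroup.centralizer (P : Set G) → ℂ)) := by
    rw [brauerOmega_eq_omega]
    exact memLocalIdeal_omega hMp ζ.2 hccf (fun d => hpt ⟨d, hKPR d.2⟩)
  have hprod := memLocalIdeal_mul_sub_one hMp hc1 hc2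
  -- key : bΩ(conv) - bΩF * bΩH ∈ I
  have h7 := memLocalIdeal_sub hMp hz key
  rw [sub_sub_cancel] at h7
  have h8 := memLocalIdeal_sub hMp h7 hprod
  rw [sub_sub_cancel] at h8
  exact not_memLocalIdeal_one hMp h8

end

end Cfsg.Agent.Lib.Helper8
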