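import Mathlib
import Cfsg.Prelude.Def_Blocks
import Cfsg.Prelude.Def_BrauerPairs
import Cfsg.Agent.Lib.Helper8.BlockPairs5

/-!
# Inclusion of Brauer pairs: existence and uniqueness of the subpair on a subgroup (S4655)
-/

set_option autoImplicit false
set_option linter.unusedSectionVars false

namespace Cfsg.Agent.Lib.Helper8

open Cfsg
open scoped ComplexConjugate
open Cfsg.Agent.Lib.Helper1 Cfsg.Agent.Lib.Helper4

universe u

section

variable {G : Type u} [Group G] [Fintype G] {M : Ideal AlgInt} {p : ℕ}

omit [Fintype G] in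
/-- Inclusion of Brauer pairs implies inclusion of the subgroups. -/
theorem subpairRel_le {a b : BrauerPairIdx G}
    (h : Relation.ReflTransGen (NormalSubpairRel p M) a b) : a.1 ≤ b.1 := by
  induction h with
  | refl => exact le_rfl
  | tail _ hstep ih => exact ih.trans hstep.2.2.1

omit [Fintype G] in
theorem subpairLE_le {Q P : Subgroup G}
    {f : Set (IrrCharacter (Subgroup.centralizer (Q : Set G)))}
    {e : Set (IrrCharacter (Subgroup.centralizer (P : Set G)))} (h : SubpairLE p M Q f P e) :
    Q ≤ P :=
  subpairRel_le h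

omit [Fintype G] in
/-- The lower pair of an inclusion of Brauer pairs is a Brauer pair (if the upper one is). -/
theorem subpairRel_isBrauerPair {a b : BrauerPairIdx G}
    (h : Relation.ReflTransGen (NormalSubpairRel p M) a b) (hb : IsBrauerPair p M b.1 b.2) :
    IsBrauerPair p M a.1 a.2 := by
  induction h using Relation.ReflTransGen.head_induction_on with
  | refl => exact hb
  | head hstep _ _ => exact hstep.1

/-- A normal inclusion between pairs on the same subgroup is an equality. -/
theorem eq_of_isNormalSubpair_self (hM : M.IsPrime) (Q : Subgroup G)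
    {f e : Set (IrrCharacter (Subgroup.centralizer (Q : Set G)))}
    (h : IsNormalSubpair p M Q f Q e) : f = e := by
  classical
  have : Fintype (Subgroup.centralizer (Q : Set G)) := Fintype.ofFinite _
  obtain ⟨hQf, hQe, _, _, _, hocc⟩ := h
  obtain ⟨ξ, hξ⟩ : ∃ ξ, ξ ∈ e := by
    obtain ⟨ξ₀, rfl⟩ := hQe.2
    exact ⟨ξ₀, sameBlock_refl hM.ne_top _⟩
  have h1 := hocc ξ hξ
  rw [subgroupBlockCoeff_eq_extZ, brauerOmega_eq_omega] at h1
  have e1 : (fun k : Subgroup.centralizer (Q : Set G) =>
      extZ (Subgroup.centralizer (Q : Set G)) (blockCoeff f) k) = blockCoeff f := by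
    funext k
    exact extZ_coe _ _ k
  rw [e1, omega_blockCoeff] at h1
  have hξf : ξ ∈ f := by
    by_contra hne
    rw [if_neg hne, zero_sub] at h1
    have := memLocalIdeal_neg h1
    rw [neg_neg] at this
    exact not_memLocalIdeal_one hM this
  rw [eq_blockOf_of_mem hM hQf.2 hξf, eq_blockOf_of_mem hM hQe.2 hξ]

theorem eq_of_normalSubpairRel_of_eq (hM : M.IsPrime) {a b : BrauerPairIdx G}
    (h : NormalSubpairRel p M a b) (hab : a.1 = b.1) : a = b := by
  obtain ⟨Q, f⟩ := a
  obtain ⟨P, e⟩ := b
  simp only at hab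
  subst hab
  have : f = e := eq_of_isNormalSubpair_self hM Q h
  rw [this]

/-- An inclusion of Brauer pairs is an equality, or ends with a normal inclusion from a pair on
a proper subgroup. -/
theorem subpairRel_cases (hM : M.IsPrime) {a b : BrauerPairIdx G}
    (h : Relation.ReflTransGen (NormalSubpairRel p M) a b) :
    a = b ∨ ∃ c, Relation.ReflTransGen (NormalSubpairRel p M) a c ∧ NormalSubpairRel p M c b ∧
      c.1 < b.1 := by
  induction h with
  | refl => exact Or.inl rfl
  | @tail c b hac hcb ih =>
    by_cases hc : c.1 = b.1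
    · have := eq_of_normalSubpairRel_of_eq hM hcb hc
      subst this
      exact ih
    · exact Or.inr ⟨c, hac, hcb, lt_of_le_of_ne hcb.2.2.1 hc⟩

omit [Fintype G] in
/-- Normalizers grow in finite `p`-groups. -/
theorem exists_normalizer_grow [Finite G] [Fact p.Prime] {T S : Subgroup G}
    (hlt : T < S) (hS : IsPGroup p S) :
    ∃ n ∈ S, n ∉ T ∧ n ∈ Subgroup.normalizer (T : Set G) := by
  have : Group.IsNilpotent S := hS.isNilpotent
  have hnc := Group.normalizerCondition_of_isNilpotent (G := S)
  have h1 : T.subgroupOf S < ⊤ := by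
    rw [lt_top_iff_ne_top]
    intro h
    rw [Subgroup.subgroupOf_eq_top] at h
    exact (not_le_of_gt hlt) h
  have h2 := hnc _ h1
  obtain ⟨n, hn, hnT⟩ := SetLike.exists_of_lt h2
  refine ⟨n, n.2, ?_, ?_⟩
  · intro h
    apply hnT
    rw [Subgroup.mem_subgroupOf]; exact h
  · have key : ∀ (m : S), m ∈ Subgroup.normalizer ((T.subgroupOf S : Subgroup S) : Set S) →
        ∀ x ∈ T, (m : G) * x * (m : G)⁻¹ ∈ T := by
      intro m hm x hx
      have hxS : x ∈ S := hlt.le hx
      have := (Subgroup.mem_normalizer_iff.mp hm ⟨x, hxS⟩).mp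
        (by rw [Subgroup.mem_subgroupOf]; exact hx)
      rw [Subgroup.mem_subgroupOf] at this
      simpa using this
    rw [Subgroup.mem_normalizer_iff]
    intro x
    constructor
    · exact key n hn x
    · intro hx
      have := key n⁻¹ (Subgroup.inv_mem _ hn) _ hx
      simpa [mul_assoc] using this

omit [Fintype G] in
theorem subgroup_card_lt_of_lt [Finite G] {H K : Subgroup G} (h : H < K) :
    Nat.card H < Nat.card K := by
  by_contra hc
  push Not at hc
  exact h.ne (Subgroup.eq_of_le_of_card_ge h.le hc)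

/-- **Existence of subpairs.** -/
theorem exists_subpairLE (hM : IsPModular p M) [Fact p.Prime] :
    ∀ (n : ℕ) (P Q : Subgroup G) (e : Set (IrrCharacter (Subgroup.centralizer (P : Set G)))),
      IsBrauerPair p M P e → Q ≤ P → Nat.card P - Nat.card Q ≤ n →
      ∃ f : Set (IrrCharacter (Subgroup.centralizer (Q : Set G))),
        IsBrauerPair p M Q f ∧ SubpairLE p M Q f P e := by
  intro n
  induction n with
  | zero =>
    intro P Q e hPe hQP hn
    have hcard : Nat.card P ≤ Nat.card Q := by omega
    have : Q = P := Subgroup.eq_of_le_of_card_ge hQP hcard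
    subst this
    exact ⟨e, hPe, Relation.ReflTransGen.refl⟩
  | succ m ih =>
    intro P Q e hPe hQP hn
    by_cases hQeq : Q = P
    · subst hQeq
      exact ⟨e, hPe, Relation.ReflTransGen.refl⟩
    have hlt : Q < P := lt_of_le_of_ne hQP hQeq
    obtain ⟨x, hxP, hxQ, hxN⟩ := exists_normalizer_grow hlt hPe.1
    set R : Subgroup G := P ⊓ Subgroup.normalizer (Q : Set G) with hR
    have hQR : Q ≤ R := le_inf hQP Subgroup.le_normalizer
    have hRP : R ≤ P := inf_le_left
    have hRN : R ≤ Subgroup.normalizer (Q : Set G) := inf_le_right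
    have hQltR : Q < R := by
      refine lt_of_le_of_ne hQR ?_
      intro h
      apply hxQ
      rw [h]
      exact ⟨hxP, hxN⟩
    have hc1 : Nat.card Q < Nat.card R := subgroup_card_lt_of_lt hQltR
    have hc2 : Nat.card R ≤ Nat.card P := Subgroup.card_le_of_le hRP
    obtain ⟨g, hRg, hle⟩ := ih P R e hPe hRP (by omega)
    obtain ⟨f, hf⟩ := exists_isNormalSubpair hM R Q hRg hQR hRN
    exact ⟨f, hf.1, Relation.ReflTransGen.head (show NormalSubpairRel p M ⟨Q, f⟩ ⟨R, g⟩ from hf) hle⟩

/-- **Uniqueness of subpairs.** -/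
theorem subpairLE_unique (hM : IsPModular p M) [Fact p.Prime] :
    ∀ (n : ℕ) (b : BrauerPairIdx G), IsBrauerPair p M b.1 b.2 → Nat.card b.1 ≤ n →
      ∀ (Q : Subgroup G) (f f' : Set (IrrCharacter (Subgroup.centralizer (Q : Set G)))),
        Relation.ReflTransGen (NormalSubpairRel p M) ⟨Q, f⟩ b →
        Relation.ReflTransGen (NormalSubpairRel p M) ⟨Q, f'⟩ b → f = f' := by
  have hMp := isPModular_isPrime hM
  intro n
  induction n using Nat.strong_induction_on with
  | _ n ih =>
    intro b hb hn Q f f' h1 h2
    rcases subpairRel_cases hMp h1 with h1e | ⟨c, h1c, hcb, hclt⟩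
    · rcases subpairRel_cases hMp h2 with h2e | ⟨c', h2c, hcb', hclt'⟩
      · have := h1e.trans h2e.symm
        rw [Sigma.mk.inj_iff] at this
        exact eq_of_heq this.2
      · exfalso
        have hQc : Q ≤ c'.1 := subpairRel_le h2c
        have : b.1 = Q := by rw [← h1e]
        rw [this] at hclt'
        exact absurd hclt' (not_lt_of_ge hQc)
    · rcases subpairRel_cases hMp h2 with h2e | ⟨c', h2c, hcb', hclt'⟩
      · exfalso
        have hQc : Q ≤ c.1 := subpairRel_le h1c
        have : b.1 = Q := by rw [← h2e]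
        rw [this] at hclt
        exact absurd hclt (not_lt_of_ge hQc)
      · -- both proper
        obtain ⟨P, e⟩ := b
        obtain ⟨R, g⟩ := c
        obtain ⟨R', g'⟩ := c'
        change IsNormalSubpair p M R g P e at hcb
        change IsNormalSubpair p M R' g' P e at hcb'
        simp only at hclt hclt' hb hn
        have hQR : Q ≤ R := subpairRel_le h1c
        have hQR' : Q ≤ R' := subpairRel_le h2c
        have hIP : R ⊓ R' ≤ P := inf_le_left.trans hcb.2.2.1
        have hPNI : P ≤ Subgroup.normalizer ((R ⊓ R' : Subgroup G) : Set G) := by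
          intro x hx
          have hxR := hcb.2.2.2.1 hx
          have hxR' := hcb'.2.2.2.1 hx
          rw [Subgroup.mem_normalizer_iff] at hxR hxR' ⊢
          intro y
          constructor
          · rintro ⟨hy1, hy2⟩
            exact ⟨(hxR y).1 hy1, (hxR' y).1 hy2⟩
          · rintro ⟨hy1, hy2⟩
            exact ⟨(hxR y).2 hy1, (hxR' y).2 hy2⟩
        obtain ⟨h, hh⟩ := exists_isNormalSubpair hM P (R ⊓ R') hb hIP hPNI
        have hIR := isNormalSubpair_of_normal_of_normal hM P (R ⊓ R') R hh hcb inf_le_left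
        have hIR' := isNormalSubpair_of_normal_of_normal hM P (R ⊓ R') R' hh hcb' inf_le_right
        obtain ⟨f'', _, hf''⟩ := exists_subpairLE hM _ (R ⊓ R') Q h hh.1 (le_inf hQR hQR') le_rfl
        have hcR : Nat.card R < Nat.card P := subgroup_card_lt_of_lt hclt
        have hcR' : Nat.card R' < Nat.card P := subgroup_card_lt_of_lt hclt'
        have e1 : f = f'' := ih (Nat.card R) (by omega) ⟨R, g⟩ hcb.1 le_rfl Q f f'' h1c
          (Relation.ReflTransGen.tail hf'' hIR)
        have e2 : f' = f'' := ih (Nat.card R') (by omega) ⟨R', g'⟩ hcb'.1 le_rfl Q f' f'' h2c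
          (Relation.ReflTransGen.tail hf'' hIR')
        rw [e1, e2]

end

end Cfsg.Agent.Lib.Helper8
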