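import Mathlib
import Cfsg.Prelude.Def_Blocks
import Cfsg.Prelude.Def_BlockLocal
import Cfsg.Agent.Lib.Helper1.CharFound7
import Cfsg.Agent.Lib.Helper8.BlockDefect
import Cfsg.Agent.Lib.Helper8.SylowCard

/-!
# Transport of irreducible characters, blocks and defect groups along a group isomorphism
-/

set_option autoImplicit false
set_option linter.unusedSectionVars false

namespace Cfsg.Agent.Lib.Helper8

open Cfsg
open scoped ComplexConjugate
open Cfsg.Agent.Lib.Helper1 Cfsg.Agent.Lib.Helper4

universe u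

section

variable {G₁ G₂ G₃ : Type u} [Group G₁] [Group G₂] [Group G₃] (φ : G₁ ≃* G₂) {M : Ideal AlgInt}

/-- Transport of an irreducible character along a group isomorphism: `(φ χ)(g) = χ(φ⁻¹ g)`. -/
noncomputable def irrMap (χ : IrrCharacter G₁) : IrrCharacter G₂ :=
  ⟨fun g => (χ : G₁ → ℂ) (φ.symm g), isIrrCharacter_comp_mulEquiv χ.2 φ.symm⟩

theorem irrMap_apply (χ : IrrCharacter G₁) (g : G₂) :
    (irrMap φ χ : G₂ → ℂ) g = (χ : G₁ → ℂ) (φ.symm g) := rfl

theorem irrMap_apply_map (χ : IrrCharacter G₁) (g : G₁) :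
    (irrMap φ χ : G₂ → ℂ) (φ g) = (χ : G₁ → ℂ) g := by
  rw [irrMap_apply, MulEquiv.symm_apply_apply]

theorem irrMap_apply_one (χ : IrrCharacter G₁) :
    (irrMap φ χ : G₂ → ℂ) 1 = (χ : G₁ → ℂ) 1 := by
  rw [irrMap_apply, map_one]

theorem irrMap_symm_irrMap (χ : IrrCharacter G₁) : irrMap φ.symm (irrMap φ χ) = χ := by
  apply Subtype.ext
  funext g
  rw [irrMap_apply, irrMap_apply, MulEquiv.symm_symm, MulEquiv.symm_apply_apply]

theorem irrMap_irrMap_symm (χ : IrrCharacter G₂) : irrMap φ (irrMap φ.symm χ) = χ := by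
  apply Subtype.ext
  funext g
  rw [irrMap_apply, irrMap_apply, MulEquiv.symm_symm, MulEquiv.apply_symm_apply]

theorem irrMap_injective : Function.Injective (irrMap φ) := by
  intro χ ψ h
  have := congrArg (irrMap φ.symm) h
  rwa [irrMap_symm_irrMap, irrMap_symm_irrMap] at this

theorem irrMap_trans (ψ : G₂ ≃* G₃) (χ : IrrCharacter G₁) :
    irrMap (φ.trans ψ) χ = irrMap ψ (irrMap φ χ) := by
  apply Subtype.ext
  funext g
  rfl

theorem irrMap_image_image_symm (e : Set (IrrCharacter G₁)) :
    irrMap φ.symm '' (irrMap φ '' e) = e := by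
  rw [Set.image_image]
  conv_rhs => rw [← Set.image_id e]
  apply Set.image_congr
  intro χ _
  exact irrMap_symm_irrMap φ χ

theorem irrMap_image_symm_image (e : Set (IrrCharacter G₂)) :
    irrMap φ '' (irrMap φ.symm '' e) = e := by
  rw [Set.image_image]
  conv_rhs => rw [← Set.image_id e]
  apply Set.image_congr
  intro χ _
  exact irrMap_irrMap_symm φ χ

theorem index_centralizer_map (g : G₁) :
    (Subgroup.centralizer ({φ g} : Set G₂)).index =
      (Subgroup.centralizer ({g} : Set G₁)).index := by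
  have h : Subgroup.centralizer ({φ g} : Set G₂) =
      (Subgroup.centralizer ({g} : Set G₁)).comap φ.symm.toMonoidHom := by
    ext z
    rw [Subgroup.mem_comap, Subgroup.mem_centralizer_singleton_iff,
      Subgroup.mem_centralizer_singleton_iff]
    constructor
    · intro hz
      have := congrArg φ.symm hz
      simpa using this
    · intro hz
      have := congrArg φ hz
      simpa using this
  rw [h]
  exact Subgroup.index_comap_of_surjective _ φ.symm.surjective

theorem centralChar_irrMap (χ : IrrCharacter G₁) (g : G₁) :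
    centralChar (irrMap φ χ : G₂ → ℂ) (φ g) = centralChar (χ : G₁ → ℂ) g := by
  unfold centralChar
  rw [index_centralizer_map, irrMap_apply_map, irrMap_apply_one]

theorem centralChar_irrMap' (χ : IrrCharacter G₁) (g : G₂) :
    centralChar (irrMap φ χ : G₂ → ℂ) g = centralChar (χ : G₁ → ℂ) (φ.symm g) := by
  rw [← centralChar_irrMap φ χ (φ.symm g), MulEquiv.apply_symm_apply]

theorem sameBlock_irrMap {χ ψ : IrrCharacter G₁} (h : SameBlock M (χ : G₁ → ℂ) (ψ : G₁ → ℂ)) :
    SameBlock M (irrMap φ χ : G₂ → ℂ) (irrMap φ ψ : G₂ → ℂ) := by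
  intro k
  rw [centralChar_irrMap', centralChar_irrMap']
  exact h _

theorem irrMap_image_blockOf (χ : IrrCharacter G₁) :
    irrMap φ '' blockOf M (χ : G₁ → ℂ) = blockOf M (irrMap φ χ : G₂ → ℂ) := by
  ext ψ
  constructor
  · rintro ⟨ψ₀, hψ₀, rfl⟩
    exact sameBlock_irrMap φ hψ₀
  · intro hψ
    refine ⟨irrMap φ.symm ψ, ?_, irrMap_irrMap_symm φ ψ⟩
    have := sameBlock_irrMap (M := M) φ.symm hψ
    rwa [irrMap_symm_irrMap] at this

theorem isPBlock_image_irrMap {e : Set (IrrCharacter G₁)} (he : IsPBlock M e) :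
    IsPBlock M (irrMap φ '' e) := by
  obtain ⟨χ, rfl⟩ := he
  exact ⟨irrMap φ χ, irrMap_image_blockOf φ χ⟩

theorem blockCoeff_image_irrMap (e : Set (IrrCharacter G₁)) (g : G₂) :
    blockCoeff (irrMap φ '' e) g = blockCoeff e (φ.symm g) := by
  unfold blockCoeff
  rw [Nat.card_congr φ.toEquiv]
  congr 1
  rw [finsum_mem_image (fun a _ b _ h => irrMap_injective φ h)]
  refine finsum_mem_congr rfl fun χ _ => ?_
  rw [irrMap_apply_one, irrMap_apply]

theorem blockCoeff_image_irrMap_map (e : Set (IrrCharacter G₁)) (g : G₁) :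
    blockCoeff (irrMap φ '' e) (φ g) = blockCoeff e g := by
  rw [blockCoeff_image_irrMap, MulEquiv.symm_apply_apply]

theorem isDefectClass_image_irrMap {B : Set (IrrCharacter G₁)} {g : G₁}
    (h : IsDefectClass M B g) : IsDefectClass M (irrMap φ '' B) (φ g) := by
  obtain ⟨h1, h2, h3⟩ := h
  refine ⟨by rw [blockCoeff_image_irrMap_map]; exact h1,
    by rw [blockCoeff_image_irrMap_map]; exact h2, ?_⟩
  rintro _ ⟨χ, hχ, rfl⟩
  rw [centralChar_irrMap]
  exact h3 χ hχ

theorem irrMap_image_principalBlock :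
    irrMap φ '' principalBlock M G₁ = principalBlock M G₂ := by
  have h1 : ∀ (G : Type u) [Group G], principalBlock M G = blockOf M (trivIrr G : G → ℂ) := by
    intro G _
    unfold principalBlock
    congr 1
  rw [h1, h1, irrMap_image_blockOf]
  have h2 : irrMap φ (trivIrr G₁) = trivIrr G₂ := by
    apply Subtype.ext
    funext k
    rw [irrMap_apply, trivIrr_apply, trivIrr_apply]
  rw [h2]

end

section

variable {G₁ G₂ : Type u} [Group G₁] [Group G₂] [Finite G₁] (φ : G₁ ≃* G₂)
  {M : Ideal AlgInt} {p : ℕ} [Fact p.Prime]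

/-- A characterization of defect groups by their order. -/
theorem isDefectGroup_iff_card {B : Set (IrrCharacter G₁)} {D : Subgroup G₁} :
    IsDefectGroup p M B D ↔ ∃ g : G₁, IsDefectClass M B g ∧
      D ≤ Subgroup.centralizer ({g} : Set G₁) ∧
      Nat.card D = p ^ (Nat.card (Subgroup.centralizer ({g} : Set G₁))).factorization p := by
  constructor
  · rintro ⟨g, hg, P, rfl⟩
    refine ⟨g, hg, ?_, card_of_sylow_map_eq _ _ P rfl⟩
    rintro _ ⟨y, _, rfl⟩
    exact y.2
  · rintro ⟨g, hg, hD, hcard⟩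
    obtain ⟨S, hS⟩ := exists_sylow_map_eq _ D hD hcard
    exact ⟨g, hg, S, hS.symm⟩

theorem isDefectGroup_image_irrMap {B : Set (IrrCharacter G₁)} {D : Subgroup G₁}
    (h : IsDefectGroup p M B D) :
    IsDefectGroup p M (irrMap φ '' B) (D.map φ.toMonoidHom) := by
  have : Finite G₂ := Finite.of_equiv G₁ φ.toEquiv
  rw [isDefectGroup_iff_card] at h ⊢
  obtain ⟨g, hg, hD, hcard⟩ := h
  refine ⟨φ g, isDefectClass_image_irrMap φ hg, ?_, ?_⟩
  · rintro _ ⟨y, hy, rfl⟩
    have := hD hy
    rw [Subgroup.mem_centralizer_singleton_iff] at this ⊢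
    show φ y * φ g = φ g * φ y
    rw [← map_mul, ← map_mul, this]
  · rw [Subgroup.card_map_of_injective φ.injective, hcard]
    congr 2
    have h1 : Subgroup.centralizer ({φ g} : Set G₂) =
        (Subgroup.centralizer ({g} : Set G₁)).map φ.toMonoidHom := by
      ext z
      rw [Subgroup.mem_map, Subgroup.mem_centralizer_singleton_iff]
      constructor
      · intro hz
        refine ⟨φ.symm z, ?_, by simp⟩
        rw [Subgroup.mem_centralizer_singleton_iff]
        have := congrArg φ.symm hz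
        simpa using this
      · rintro ⟨y, hy, rfl⟩
        rw [Subgroup.mem_centralizer_singleton_iff] at hy
        show φ y * φ g = φ g * φ y
        rw [← map_mul, ← map_mul, hy]
    rw [h1, Subgroup.card_map_of_injective φ.injective]

end

end Cfsg.Agent.Lib.Helper8
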