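import Mathlib
import Cfsg.Prelude.Def_Blocks
import Cfsg.Prelude.Def_BrauerPairs
import Cfsg.Agent.Lib.Helper8.BlockPairs6
import Cfsg.Agent.Lib.Helper8.BlockFirstMain4

/-!
# The block of the stabilizer of a Brauer pair, and growing Brauer pairs
-/

set_option autoImplicit false
set_option linter.unusedSectionVars false

namespace Cfsg.Agent.Lib.Helper8

open Cfsg
open scoped ComplexConjugate
open Cfsg.Agent.Lib.Helper1 Cfsg.Agent.Lib.Helper4

universe u

section

variable {G : Type u} [Group G] [Fintype G] {M : Ideal AlgInt} {p : ℕ}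

/-- **The block of the stabilizer of a Brauer pair.**  Let `Q` be a `p`-subgroup, `f` a block of
`C_G(Q)` and `T` a subgroup with `Q C_G(Q) ≤ T ≤ N_G(Q)` all of whose elements stabilize `f`.
Then the idempotent of `f` is the idempotent of a block of `T`. -/
theorem exists_block_of_stabilizes (hM : IsPModular p M) (Q : Subgroup G)
    (hQ : IsPGroup p Q) {f : Set (IrrCharacter (Subgroup.centralizer (Q : Set G)))}
    (hf : IsPBlock M f) (T : Subgroup G)
    (hT : ∀ x : G, x ∈ T → StabilizesBlock (Subgroup.centralizer (Q : Set G)) f x)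
    (hTN : T ≤ Subgroup.normalizer (Q : Set G))
    (hKT : Subgroup.centralizer (Q : Set G) ≤ T) (hQT : Q ≤ T) :
    ∃ E : Set (IrrCharacter T), IsPBlock M E ∧ ∀ t : T, blockCoeff E t =
      subgroupBlockCoeff (Subgroup.centralizer (Q : Set G)) f (t : G) := by
  classical
  have hMp := isPModular_isPrime hM
  have : Fintype T := Fintype.ofFinite _
  apply exists_block_stabilizer_aux hMp _ hf T hT hKT
  intro E hE t ht
  have hPn : (Q.subgroupOf T).Normal := Subgroup.normal_subgroupOf_of_le_normalizer hTN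
  have hPp : IsPGroup p (Q.subgroupOf T) := hQ.comap_subtype
  apply blockCoeff_eq_zero_of_not_mem_centralizer hM (Q.subgroupOf T) hPp hE
  intro htc
  apply ht
  rw [Subgroup.mem_centralizer_iff]
  intro u hu
  have := Subgroup.mem_centralizer_iff.1 htc ⟨u, hQT hu⟩ (Subgroup.mem_subgroupOf.2 hu)
  exact congrArg Subtype.val this

/-- **Growing a Brauer pair.**  If `Q ≤ R ≤ N_G(Q)` with `R` a `p`-group stabilizing the block `f`
of `C_G(Q)`, and the idempotent of `f` is a unit at some element of `C_G(R)`, then there is a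
block `g` of `C_G(R)` with `(Q, f) ⊴ (R, g)`. -/
theorem exists_isNormalSubpair_of_unit (hM : IsPModular p M) (Q R : Subgroup G)
    {f : Set (IrrCharacter (Subgroup.centralizer (Q : Set G)))}
    (hQf : IsBrauerPair p M Q f) (hR : IsPGroup p R) (hQR : Q ≤ R)
    (hRN : R ≤ Subgroup.normalizer (Q : Set G))
    (hst : ∀ x ∈ R, StabilizesBlock (Subgroup.centralizer (Q : Set G)) f x)
    {c : G} (hc : c ∈ Subgroup.centralizer (R : Set G))
    (hu : ¬ MemLocalIdeal M (subgroupBlockCoeff (Subgroup.centralizer (Q : Set G)) f c)) :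
    ∃ g : Set (IrrCharacter (Subgroup.centralizer (R : Set G))), IsNormalSubpair p M Q f R g := by
  classical
  have hMp := isPModular_isPrime hM
  have : Fintype (Subgroup.centralizer (Q : Set G)) := Fintype.ofFinite _
  have : Fintype (Subgroup.centralizer (R : Set G)) := Fintype.ofFinite _
  have hKRQ : Subgroup.centralizer (R : Set G) ≤ Subgroup.centralizer (Q : Set G) :=
    Subgroup.centralizer_le (by exact_mod_cast hQR)
  obtain ⟨hfcf, hfS, hfω⟩ := blockCoeff_spec hMp hQf.2
  rw [subgroupBlockCoeff_eq_extZ] at hu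
  have hFinv : ∀ u ∈ R, ∀ x, extZ (Subgroup.centralizer (Q : Set G)) (blockCoeff f) (u * x * u⁻¹)
      = extZ (Subgroup.centralizer (Q : Set G)) (blockCoeff f) x :=
    fun u hu x => subgroupBlockCoeff_conj_of_stabilizes _ f (hst u hu) x
  have hFS : ∀ x, MemLocalRing M (extZ (Subgroup.centralizer (Q : Set G)) (blockCoeff f) x) :=
    memLocalRing_extZ hMp.ne_top _ hfS
  have hFRcf : IsClassFunction (Subgroup.centralizer (R : Set G))
      (fun k : Subgroup.centralizer (R : Set G) =>
        extZ (Subgroup.centralizer (Q : Set G)) (blockCoeff f) k) :=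
    isClassFunction_extZ_restrict hKRQ hfcf
  have hFF : conv (extZ (Subgroup.centralizer (Q : Set G)) (blockCoeff f))
      (extZ (Subgroup.centralizer (Q : Set G)) (blockCoeff f))
      = extZ (Subgroup.centralizer (Q : Set G)) (blockCoeff f) := by
    rw [conv_extZ, conv_blockCoeff_blockCoeff, Set.inter_self]
  have hsuppF : ∀ x, x ∉ Subgroup.centralizer (R : Set G) →
      truncTo (Subgroup.centralizer (R : Set G) : Set G)
        (extZ (Subgroup.centralizer (Q : Set G)) (blockCoeff f)) x = 0 :=
    fun x hx => truncTo_of_not_mem _ hx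
  have eF : (fun k : Subgroup.centralizer (R : Set G) =>
      truncTo (Subgroup.centralizer (R : Set G) : Set G)
        (extZ (Subgroup.centralizer (Q : Set G)) (blockCoeff f)) (k : G))
      = (fun k : Subgroup.centralizer (R : Set G) =>
        extZ (Subgroup.centralizer (Q : Set G)) (blockCoeff f) k) := by
    funext k'
    exact truncTo_of_mem _ (show (k' : G) ∈ _ from k'.2)
  have hid : ∀ k : Subgroup.centralizer (R : Set G), MemLocalIdeal M
      (conv (fun k : Subgroup.centralizer (R : Set G) =>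
        extZ (Subgroup.centralizer (Q : Set G)) (blockCoeff f) k)
        (fun k : Subgroup.centralizer (R : Set G) =>
        extZ (Subgroup.centralizer (Q : Set G)) (blockCoeff f) k) k
        - extZ (Subgroup.centralizer (Q : Set G)) (blockCoeff f) k) := by
    intro k
    have h := brauer_conv' hM R hR hFinv hFinv hFS hFS (k : G)
    rw [hFF, truncTo_of_mem _ (show (k : G) ∈ _ from k.2), conv_restrict _ hsuppF k, eF] at h
    exact cong_symm h
  let A : Set (IrrCharacter (Subgroup.centralizer (R : Set G))) := {ψ | MemLocalIdeal M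
    (omega (ψ : Subgroup.centralizer (R : Set G) → ℂ) (fun k : Subgroup.centralizer (R : Set G) =>
        extZ (Subgroup.centralizer (Q : Set G)) (blockCoeff f) k) - 1)}
  obtain ⟨hA0, hAcf, hAω, hAS, hAc⟩ := cong_blockCoeff_of_idempotent hMp hFRcf (fun k => hFS _) hid A
    (fun ψ => Iff.rfl)
  have hAne : A.Nonempty := by
    by_contra hne
    rw [Set.not_nonempty_iff_eq_empty] at hne
    apply hu
    have := hAc ⟨c, hc⟩
    rw [hne, blockCoeff_empty_eq_zero] at this
    simpa using this
  obtain ⟨ψ₀, hψ₀⟩ := hAne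
  refine ⟨blockOf M (ψ₀ : Subgroup.centralizer (R : Set G) → ℂ), hQf, ⟨hR, ⟨ψ₀, rfl⟩⟩, hQR, hRN,
    hst, ?_⟩
  intro ξ hξ
  rw [subgroupBlockCoeff_eq_extZ, brauerOmega_eq_omega]
  have h2 := memLocalIdeal_omega_sub hMp ψ₀.2 ξ.2 hξ hFRcf (fun k => hFS _)
  have h3 := memLocalIdeal_sub hMp hψ₀ h2
  have e3 : ∀ a b : ℂ, a - 1 - (a - b) = b - 1 := fun a b => by ring
  rw [e3] at h3
  exact h3

/-- Conversely, if `(Q, f) ⊴ (R, g)` then the idempotent of `f` is a unit at some element of
`C_G(R)`. -/
theorem exists_unit_of_isNormalSubpair (hM : IsPModular p M) (Q R : Subgroup G)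
    {f : Set (IrrCharacter (Subgroup.centralizer (Q : Set G)))}
    {g : Set (IrrCharacter (Subgroup.centralizer (R : Set G)))}
    (h : IsNormalSubpair p M Q f R g) :
    ∃ c ∈ Subgroup.centralizer (R : Set G),
      ¬ MemLocalIdeal M (subgroupBlockCoeff (Subgroup.centralizer (Q : Set G)) f c) := by
  classical
  have hMp := isPModular_isPrime hM
  have : Fintype (Subgroup.centralizer (Q : Set G)) := Fintype.ofFinite _
  have : Fintype (Subgroup.centralizer (R : Set G)) := Fintype.ofFinite _
  obtain ⟨hQf, hRg, hQR, hRN, hst, hocc⟩ := h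
  have hKRQ : Subgroup.centralizer (R : Set G) ≤ Subgroup.centralizer (Q : Set G) :=
    Subgroup.centralizer_le (by exact_mod_cast hQR)
  obtain ⟨hfcf, hfS, hfω⟩ := blockCoeff_spec hMp hQf.2
  by_contra hne
  push Not at hne
  obtain ⟨ξ, hξ⟩ : ∃ ξ, ξ ∈ g := by
    obtain ⟨ξ₀, rfl⟩ := hRg.2
    exact ⟨ξ₀, sameBlock_refl hMp.ne_top _⟩
  have h1 := hocc ξ hξ
  rw [brauerOmega_eq_omega] at h1
  have h2 : MemLocalIdeal M (omega (ξ : Subgroup.centralizer (R : Set G) → ℂ)
      (fun x : Subgroup.centralizer (R : Set G) =>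
        subgroupBlockCoeff (Subgroup.centralizer (Q : Set G)) f x)) := by
    apply memLocalIdeal_omega hMp ξ.2
    · rw [subgroupBlockCoeff_eq_extZ]
      exact isClassFunction_extZ_restrict hKRQ hfcf
    · intro d
      exact hne d d.2
  have h3 := memLocalIdeal_sub hMp h2 h1
  rw [sub_sub_cancel] at h3
  exact not_memLocalIdeal_one hMp h3

/-- Let `E` be a block of `T` whose idempotent is the extension by zero of a function `a` on
`K ≤ T`, with defect group `D`.  For a `p`-subgroup `R ≤ T`: the function `a` is a unit at some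
element of `C_G(R)` if and only if some `T`-conjugate of `R` lies in `D`. -/
theorem unit_iff_conj_le_defectGroup (hM : IsPModular p M) [Fact p.Prime] (K T : Subgroup G)
    (hKT : K ≤ T) {a : K → ℂ} {E : Set (IrrCharacter T)} (hE : IsPBlock M E)
    (hEa : ∀ t : T, blockCoeff E t = extZ K a t)
    {D : Subgroup T} (hD : IsDefectGroup p M E D) (R : Subgroup G) (hR : IsPGroup p R)
    (hRT : R ≤ T) :
    (∃ c ∈ Subgroup.centralizer (R : Set G), ¬ MemLocalIdeal M (extZ K a c)) ↔
      ∃ x : T, (R.subgroupOf T).map (MulAut.conj x).toMonoidHom ≤ D := by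
  classical
  have hMp := isPModular_isPrime hM
  have hES : ∀ t, MemLocalRing M (blockCoeff E t) := (blockCoeff_spec hMp hE).2.1
  have hRp : IsPGroup p (R.subgroupOf T) := hR.comap_subtype
  rw [← exists_unit_coeff_iff hM hE hD (R.subgroupOf T) hRp]
  constructor
  · rintro ⟨c, hc, hu⟩
    have hcK : c ∈ K := by
      by_contra hcK
      rw [extZ_of_not_mem K a hcK] at hu
      exact hu (memLocalIdeal_zero hMp.ne_top)
    refine ⟨⟨c, hKT hcK⟩, hES _, ?_, ⟨c, hKT hcK⟩, IsConj.refl _, ?_⟩
    · rw [hEa]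
      exact hu
    · rw [Subgroup.mem_centralizer_iff]
      intro u hu'
      apply Subtype.ext
      have := Subgroup.mem_centralizer_iff.1 hc (u : G) (Subgroup.mem_subgroupOf.1 hu')
      simpa using this
  · rintro ⟨g, _, hgu, c, hgc, hc⟩
    refine ⟨(c : G), ?_, ?_⟩
    · rw [Subgroup.mem_centralizer_iff]
      intro u hu'
      have := Subgroup.mem_centralizer_iff.1 hc ⟨u, hRT hu'⟩ (Subgroup.mem_subgroupOf.2 hu')
      exact congrArg Subtype.val this
    · rw [← hEa]
      obtain ⟨s, hs⟩ := isConj_iff.1 hgc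
      rw [← hs, isClassFunction_blockCoeff E g s]
      exact hgu

end

end Cfsg.Agent.Lib.Helper8
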