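import Mathlib
import Cfsg.Prelude.Def_Blocks
import Cfsg.Prelude.Def_BrauerPairs
import Cfsg.Agent.Lib.Helper8.BlockPairStab

/-!
# The block of `N` covering a block of `K ⊴ N`, relative version
-/

set_option autoImplicit false
set_option linter.unusedSectionVars false

namespace Cfsg.Agent.Lib.Helper8

open Cfsg
open scoped ComplexConjugate
open Cfsg.Agent.Lib.Helper1 Cfsg.Agent.Lib.Helper4

universe u

section

variable {G : Type u} [Group G] [Fintype G] {M : Ideal AlgInt} {p : ℕ}

/-- **The covering block.**  Let `K ≤ N ≤ N_G(K)` be such that every block idempotent of `N` is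
supported on `K`, and let `e` be a block of `K`.  Then some block of `N` has as idempotent the
extension by zero of the idempotent of the union of the `N`-conjugates of `e`. -/
theorem exists_covering_block (hMp : M.IsPrime) (N K : Subgroup G) (hKN : K ≤ N)
    (hNK : N ≤ Subgroup.normalizer (K : Set G))
    (hsupp : ∀ β : Set (IrrCharacter N), IsPBlock M β → ∀ n : N, (n : G) ∉ K → blockCoeff β n = 0)
    {e : Set (IrrCharacter K)} (he : IsPBlock M e) :
    ∃ β : Set (IrrCharacter N), IsPBlock M β ∧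
      ∀ n : N, blockCoeff β n = extZ K (blockCoeff (orbitUnionOf N K e)) (n : G) := by
  classical
  have : Fintype N := Fintype.ofFinite _
  have : Fintype K := Fintype.ofFinite _
  obtain ⟨ξ, hξe⟩ : ∃ ξ, ξ ∈ e := by
    obtain ⟨ξ₀, rfl⟩ := he
    exact ⟨ξ₀, sameBlock_refl hMp.ne_top _⟩
  set O := orbitUnionOf N K e with hO
  have hOne : O.Nonempty := ⟨ξ, subset_orbitUnionOf N K e hξe⟩
  set F : N → ℂ := fun n => extZ K (blockCoeff O) (n : G) with hF
  have hextF : extZ K (blockCoeff O) = extZ N F :=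
    eq_extZ_of_support N (fun g hg => extZ_of_not_mem K _ (fun h => hg (hKN h)))
  have hFcf : IsClassFunction N F := by
    intro n x
    exact extZ_blockCoeff_conj_of_stable K O (x : G) (hNK x.2)
      (conjIrr_image_orbitUnionOf N K e x x.2 _) (n : G)
  have hOS : ∀ k, MemLocalRing M (blockCoeff O k) :=
    memLocalRing_blockCoeff_of_union hMp O
      (fun χ hχ => blockOf_subset_orbitUnionOf N K hMp he hχ)
  have hFS : ∀ n, MemLocalRing M (F n) := by
    intro n
    by_cases hn : (n : G) ∈ K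
    · rw [hF]
      beta_reduce
      rw [extZ_of_mem K _ hn]
      exact hOS _
    · rw [hF]
      beta_reduce
      rw [extZ_of_not_mem K _ hn]
      exact memLocalRing_zero hMp.ne_top
  have hFF : conv F F = F := by
    apply extZ_injective N
    rw [← conv_extZ, ← hextF, conv_extZ, conv_blockCoeff_blockCoeff, Set.inter_self]
  set E' : Set (IrrCharacter N) := {ψ | omega (ψ : N → ℂ) F = 1} with hE'
  have hFE' : F = blockCoeff E' := eq_blockCoeff_of_conv_self hFcf hFF
  have hE'ne : E'.Nonempty := by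
    by_contra hne
    rw [Set.not_nonempty_iff_eq_empty] at hne
    have h1 : F 1 = 0 := by
      rw [hFE', hne, blockCoeff_empty_eq_zero]
      rfl
    have h2 : F 1 = blockCoeff O 1 := by
      rw [hF]
      beta_reduce
      exact extZ_of_mem K _ (Subgroup.one_mem _)
    rw [h2] at h1
    exact blockCoeff_one_ne_zero hOne h1
  obtain ⟨ψ₀, hψ₀⟩ := hE'ne
  set β := blockOf M (ψ₀ : N → ℂ) with hβdef
  have hβ : IsPBlock M β := ⟨ψ₀, rfl⟩
  have hβE' : β ⊆ E' := by
    apply blockOf_subset_of_memLocalRing hMp E' _ hψ₀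
    intro t
    rw [← hFE']
    exact hFS t
  have hβne : β.Nonempty := ⟨ψ₀, sameBlock_refl hMp.ne_top _⟩
  refine ⟨β, hβ, ?_⟩
  have hβS : ∀ t, MemLocalRing M (blockCoeff β t) := (blockCoeff_spec hMp hβ).2.1
  have hβF : conv (blockCoeff β) F = blockCoeff β := by
    rw [hFE', conv_blockCoeff_blockCoeff, Set.inter_eq_left.2 hβE']
  have hβsupp : ∀ n : N, (n : G) ∉ K → blockCoeff β n = 0 := hsupp β hβ
  set φ : K → ℂ := fun k => blockCoeff β ⟨(k : G), hKN k.2⟩ with hφ
  have hextβ : extZ N (blockCoeff β) = extZ K φ := by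
    have hs : ∀ g, g ∉ K → extZ N (blockCoeff β) g = 0 := by
      intro g hg
      by_cases hgN : g ∈ N
      · rw [extZ_of_mem N _ hgN]
        exact hβsupp ⟨g, hgN⟩ hg
      · exact extZ_of_not_mem N _ hgN
    rw [eq_extZ_of_support K hs]
    congr 1
    funext k
    exact extZ_of_mem N _ (hKN k.2)
  have hφcf : IsClassFunction K φ := by
    intro k s
    exact isClassFunction_blockCoeff β ⟨(k : G), hKN k.2⟩ ⟨(s : G), hKN s.2⟩
  have hφid : conv φ φ = φ := by
    apply extZ_injective K
    rw [← conv_extZ, ← hextβ, conv_extZ, conv_blockCoeff_blockCoeff, Set.inter_self]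
  have hφO : conv φ (blockCoeff O) = φ := by
    apply extZ_injective K
    rw [← conv_extZ, ← hextβ, hextF, conv_extZ, hβF]
  set A : Set (IrrCharacter K) := {ψ | omega (ψ : K → ℂ) φ = 1} with hA
  have hφA : φ = blockCoeff A := eq_blockCoeff_of_conv_self hφcf hφid
  have hAO : A ⊆ O := by
    have h1 : blockCoeff (A ∩ O) = blockCoeff A := by
      rw [← conv_blockCoeff_blockCoeff, ← hφA, hφO]
    have h2 := eq_of_blockCoeff_eq h1
    exact Set.inter_eq_left.1 h2
  have hAne : A.Nonempty := by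
    by_contra hne
    rw [Set.not_nonempty_iff_eq_empty] at hne
    have h1 : φ 1 = 0 := by
      rw [hφA, hne, blockCoeff_empty_eq_zero]
      rfl
    have h2 : φ 1 = blockCoeff β 1 := rfl
    rw [h2] at h1
    exact blockCoeff_one_ne_zero hβne h1
  have hAst : ∀ (x : G) (hxN : x ∈ N) (ψ : IrrCharacter K), ψ ∈ A →
      conjIrr K x (hNK hxN) ψ ∈ A := by
    intro x hxN ψ hψ
    show omega _ φ = 1
    rw [omega_conjIrr]
    have : (fun k => φ (conjAutOn K x (hNK hxN) k)) = φ := by
      funext k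
      exact isClassFunction_blockCoeff β ⟨(k : G), hKN k.2⟩ ⟨x, hxN⟩
    rw [this]
    exact hψ
  obtain ⟨ψ, hψA⟩ := hAne
  obtain ⟨x, hxN, hx, ξ', hξ'e, hξ'ψ⟩ := hAO hψA
  have hξ'A : ξ' ∈ A := by
    have := hAst x⁻¹ (Subgroup.inv_mem _ hxN) ψ hψA
    rw [← hξ'ψ, conjIrr_inv_conjIrr] at this
    exact this
  have hξ'1 : MemLocalIdeal M (omega (ξ' : K → ℂ) φ - 1) := by
    have : omega (ξ' : K → ℂ) φ = 1 := hξ'A
    rw [this, sub_self]
    exact memLocalIdeal_zero hMp.ne_top
  have hiff := omega_restrict_eq_one_iff hMp N K hKN hNK hβ hβsupp he hξ'e hξ'1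
  have hAeqO : A = O := by
    ext ψ'
    exact hiff ψ'
  intro n
  have h1 := congrFun hextβ (n : G)
  rw [extZ_coe] at h1
  rw [h1, hφA, hAeqO]

end

end Cfsg.Agent.Lib.Helper8
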