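import Mathlib
import Cfsg.Prelude.Def_Blocks
import Cfsg.Prelude.Def_BrauerPairs
import Cfsg.Agent.Lib.Helper8.BlockPairCover

/-!
# Defect groups of a covering block versus the block of the stabilizer (Fong–Reynolds, order part)
-/

set_option autoImplicit false
set_option linter.unusedSectionVars false

namespace Cfsg.Agent.Lib.Helper8

open Cfsg
open scoped ComplexConjugate
open Cfsg.Agent.Lib.Helper1 Cfsg.Agent.Lib.Helper4

universe u

section

variable {G : Type u} [Group G] [Fintype G] {M : Ideal AlgInt} {p : ℕ}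

/-- The idempotent of the union of the `N`-conjugates of a block `e` of `K` is the sum of the
idempotents of the distinct conjugates. -/
theorem sum_orbit_blockCoeff (hM : M.IsPrime) (N K : Subgroup G) [Fintype K]
    (hNK : N ≤ Subgroup.normalizer (K : Set G)) {e : Set (IrrCharacter K)} (he : IsPBlock M e)
    [Fintype (Set (IrrCharacter K))]
    [DecidablePred (fun f' : Set (IrrCharacter K) =>
      ∃ x, ∃ hxN : x ∈ N, f' = conjIrr K x (hNK hxN) '' e)] (k : K) :
    ∑ f' : Set (IrrCharacter K),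
      (if (∃ x, ∃ hxN : x ∈ N, f' = conjIrr K x (hNK hxN) '' e) then blockCoeff f' k else 0)
      = blockCoeff (orbitUnionOf N K e) k := by
  classical
  have : Fintype (IrrCharacter K) := Fintype.ofFinite _
  have h1 : ∀ f' : Set (IrrCharacter K),
      (if (∃ x, ∃ hxN : x ∈ N, f' = conjIrr K x (hNK hxN) '' e) then blockCoeff f' k else 0) =
      (Nat.card K : ℂ)⁻¹ * ∑ ψ : IrrCharacter K,
        (if (∃ x, ∃ hxN : x ∈ N, f' = conjIrr K x (hNK hxN) '' e) ∧ ψ ∈ f' then (1 : ℂ) else 0) *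
        (ψ : K → ℂ) 1 * conj ((ψ : K → ℂ) k) := by
    intro f'
    by_cases hf : ∃ x, ∃ hxN : x ∈ N, f' = conjIrr K x (hNK hxN) '' e
    · rw [if_pos hf, blockCoeff_eq_sum]
      congr 1
      refine Finset.sum_congr rfl fun ψ _ => ?_
      by_cases hψ : ψ ∈ f'
      · rw [if_pos hψ, if_pos ⟨hf, hψ⟩]
      · rw [if_neg hψ, if_neg (fun h => hψ h.2)]
    · rw [if_neg hf]
      symm
      apply mul_eq_zero_of_right
      apply Finset.sum_eq_zero
      intro ψ _
      rw [if_neg (fun h => hf h.1), zero_mul, zero_mul]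
  simp only [h1]
  rw [← Finset.mul_sum, Finset.sum_comm, blockCoeff_eq_sum]
  congr 1
  refine Finset.sum_congr rfl fun ψ _ => ?_
  rw [← Finset.sum_mul, ← Finset.sum_mul]
  congr 2
  by_cases hψ : ψ ∈ orbitUnionOf N K e
  · rw [if_pos hψ]
    obtain ⟨x, hxN, hx, hψx⟩ := hψ
    rw [Finset.sum_eq_single (conjIrr K x (hNK hxN) '' e)]
    · rw [if_pos ⟨⟨x, hxN, rfl⟩, hψx⟩]
    · intro f' _ hf'
      rw [if_neg]
      rintro ⟨⟨y, hyN, rfl⟩, hψy⟩
      apply hf'
      have hb1 : IsPBlock M (conjIrr K y (hNK hyN) '' e) := isPBlock_image_conjIrr K y _ he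
      have hb2 : IsPBlock M (conjIrr K x (hNK hxN) '' e) := isPBlock_image_conjIrr K x _ he
      rw [eq_blockOf_of_mem hM hb1 hψy, eq_blockOf_of_mem hM hb2 hψx]
    · intro h
      exact absurd (Finset.mem_univ _) h
  · rw [if_neg hψ]
    apply Finset.sum_eq_zero
    intro f' _
    rw [if_neg]
    rintro ⟨⟨y, hyN, rfl⟩, hψy⟩
    exact hψ ⟨y, hyN, hNK hyN, hψy⟩

/-- **Fong–Reynolds, order part.**  Let `K ≤ N ≤ N_G(K)`, `e` a block of `K`, `T` a subgroup
containing the stabilizer of `e` in `N`, `E` a block of `T` whose idempotent is that of `e`, and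
`β` a block of `N` whose idempotent is that of the union of the `N`-conjugates of `e`.  Then a
defect group of `β` is no larger than a defect group of `E`. -/
theorem card_defectGroup_cover_le (hM : IsPModular p M) [Fact p.Prime] (N K T : Subgroup G)
    (hNK : N ≤ Subgroup.normalizer (K : Set G)) (hKT : K ≤ T)
    {e : Set (IrrCharacter K)} (he : IsPBlock M e)
    (hT : ∀ y ∈ N, StabilizesBlock K e y → y ∈ T)
    {E : Set (IrrCharacter T)} (hE : IsPBlock M E)
    (hEe : ∀ t : T, blockCoeff E t = extZ K (blockCoeff e) (t : G))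
    {β : Set (IrrCharacter N)} (hβ : IsPBlock M β)
    (hβe : ∀ n : N, blockCoeff β n = extZ K (blockCoeff (orbitUnionOf N K e)) (n : G))
    {DT : Subgroup T} (hDT : IsDefectGroup p M E DT) {DN : Subgroup N}
    (hDN : IsDefectGroup p M β DN) : Nat.card DN ≤ Nat.card DT := by
  classical
  have hMp := isPModular_isPrime hM
  have : Fintype N := Fintype.ofFinite _
  have : Fintype K := Fintype.ofFinite _
  have : Fintype T := Fintype.ofFinite _
  have : Fintype (Set (IrrCharacter K)) := Fintype.ofFinite _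
  have hDNp : IsPGroup p DN := isPGroup_of_isDefectGroup hDN
  obtain ⟨g, _, hgu, c, hgc, hc⟩ := (exists_unit_coeff_iff hM hβ hDN DN hDNp).2
    ⟨1, by
      intro y hy
      obtain ⟨z, hz, rfl⟩ := hy
      simpa using hz⟩
  have hcu : ¬ MemLocalIdeal M (blockCoeff β c) := by
    obtain ⟨s, hs⟩ := isConj_iff.1 hgc
    rw [← hs, isClassFunction_blockCoeff β g s]
    exact hgu
  have hcK : (c : G) ∈ K := by
    by_contra h
    apply hcu
    rw [hβe, extZ_of_not_mem K _ h]
    exact memLocalIdeal_zero hMp.ne_top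
  rw [hβe, extZ_of_mem K _ hcK] at hcu
  set D : Subgroup G := DN.map N.subtype with hD
  have hDp : IsPGroup p D := hDNp.map _
  have hDN' : D ≤ N := by
    rintro _ ⟨y, _, rfl⟩
    exact y.2
  have hDK : D ≤ Subgroup.normalizer (K : Set G) := hDN'.trans hNK
  have hDc : ∀ u ∈ D, u * (c : G) = (c : G) * u := by
    rintro _ ⟨y, hy, rfl⟩
    have := Subgroup.mem_centralizer_iff.1 hc y hy
    exact congrArg Subtype.val this
  let _ := conjSetAction K D hDK
  set φ : Set (IrrCharacter K) → ℂ := fun f' =>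
    if (∃ x, ∃ hxN : x ∈ N, f' = conjIrr K x (hNK hxN) '' e) then blockCoeff f' ⟨c, hcK⟩ else 0
    with hφ
  have hsmul : ∀ (u : D) (f' : Set (IrrCharacter K)),
      u • f' = conjIrr K (u : G) (hDK u.2) '' f' := fun _ _ => rfl
  have horb : ∀ (u : D) (f' : Set (IrrCharacter K)),
      (∃ x, ∃ hxN : x ∈ N, u • f' = conjIrr K x (hNK hxN) '' e) ↔
        (∃ x, ∃ hxN : x ∈ N, f' = conjIrr K x (hNK hxN) '' e) := by
    intro u f'
    constructor
    · rintro ⟨x, hxN, hx⟩
      refine ⟨(u : G)⁻¹ * x, N.mul_mem (N.inv_mem (hDN' u.2)) hxN, ?_⟩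
      rw [conjIrr_image_mul K e _ _ (Subgroup.inv_mem _ (hDK u.2)) (hNK hxN), ← hx, hsmul,
        conjIrr_image_inv_image]
    · rintro ⟨x, hxN, rfl⟩
      refine ⟨(u : G) * x, N.mul_mem (hDN' u.2) hxN, ?_⟩
      rw [hsmul, conjIrr_image_mul K e _ _ (hDK u.2) (hNK hxN)]
  have hval : ∀ (u : D) (f' : Set (IrrCharacter K)),
      blockCoeff (u • f') ⟨c, hcK⟩ = blockCoeff f' ⟨c, hcK⟩ := by
    intro u f'
    rw [hsmul, blockCoeff_image_conjIrr]
    apply congrArg
    apply Subtype.ext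
    rw [conjAutOn_symm_apply_coe]
    show (u : G)⁻¹ * (c : G) * (u : G) = (c : G)
    have := hDc u u.2
    rw [mul_assoc, ← this, ← mul_assoc, inv_mul_cancel, one_mul]
  have hφinv : ∀ (u : D) (f' : Set (IrrCharacter K)), φ (u • f') = φ f' := by
    intro u f'
    simp only [hφ]
    by_cases hf : ∃ x, ∃ hxN : x ∈ N, f' = conjIrr K x (hNK hxN) '' e
    · rw [if_pos hf, if_pos ((horb u f').2 hf), hval]
    · rw [if_neg hf, if_neg (fun h => hf ((horb u f').1 h))]
  have hφS : ∀ f', MemLocalRing M (φ f') := by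
    intro f'
    simp only [hφ]
    by_cases hf : ∃ x, ∃ hxN : x ∈ N, f' = conjIrr K x (hNK hxN) '' e
    · rw [if_pos hf]
      obtain ⟨x, hxN, rfl⟩ := hf
      exact (blockCoeff_spec hMp (isPBlock_image_conjIrr K x _ he)).2.1 _
    · rw [if_neg hf]
      exact memLocalRing_zero hMp.ne_top
  have hcount := memLocalIdeal_sum_sub_sum_fixedPoints hM hDp φ hφinv hφS
  have htotal : ∑ f', φ f' = blockCoeff (orbitUnionOf N K e) ⟨c, hcK⟩ :=
    sum_orbit_blockCoeff hMp N K hNK he _
  rw [htotal] at hcount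
  have hex : ∃ f' ∈ Finset.univ.filter (fun f' : Set (IrrCharacter K) =>
      f' ∈ MulAction.fixedPoints D (Set (IrrCharacter K))), ¬ MemLocalIdeal M (φ f') := by
    by_contra hcon
    push Not at hcon
    have h1 := memLocalIdeal_sum hMp _ _ hcon
    have := memLocalIdeal_add hMp hcount h1
    rw [sub_add_cancel] at this
    exact hcu this
  obtain ⟨f', hfmem, hfJ⟩ := hex
  rw [Finset.mem_filter] at hfmem
  have hffix := hfmem.2
  have hf'orb : ∃ x, ∃ hxN : x ∈ N, f' = conjIrr K x (hNK hxN) '' e := by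
    by_contra hf
    apply hfJ
    simp only [hφ]
    rw [if_neg hf]
    exact memLocalIdeal_zero hMp.ne_top
  obtain ⟨x, hxN, rfl⟩ := hf'orb
  have hφf : φ (conjIrr K x (hNK hxN) '' e) =
      blockCoeff e ((conjAutOn K x (hNK hxN)).symm ⟨c, hcK⟩) := by
    simp only [hφ]
    rw [if_pos ⟨x, hxN, rfl⟩, blockCoeff_image_conjIrr]
  rw [hφf] at hfJ
  set D' : Subgroup G := D.map (MulAut.conj x⁻¹).toMonoidHom with hD'
  have hD'p : IsPGroup p D' := hDp.map _
  have hD'el : ∀ v ∈ D', ∃ u ∈ D, v = x⁻¹ * u * x := by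
    rintro _ ⟨u, hu, rfl⟩
    exact ⟨u, hu, by simp⟩
  have hD'T : D' ≤ T := by
    intro v hv
    obtain ⟨u, hu, rfl⟩ := hD'el v hv
    have hxK := hNK hxN
    have huK := hDK hu
    apply hT _ (N.mul_mem (N.mul_mem (N.inv_mem hxN) (hDN' hu)) hxN)
    rw [stabilizesBlock_iff_image]
    refine ⟨Subgroup.mul_mem _ (Subgroup.mul_mem _ (Subgroup.inv_mem _ hxK) huK) hxK, ?_⟩
    rw [conjIrr_image_mul K e _ _ (Subgroup.mul_mem _ (Subgroup.inv_mem _ hxK) huK) hxK,
      conjIrr_image_mul K _ _ _ (Subgroup.inv_mem _ hxK) huK]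
    have := hffix ⟨u, hu⟩
    rw [hsmul] at this
    rw [this, conjIrr_image_inv_image]
  have hc'coe : (((conjAutOn K x (hNK hxN)).symm ⟨c, hcK⟩ : K) : G) = x⁻¹ * (c : G) * x :=
    conjAutOn_symm_apply_coe K x (hNK hxN) ⟨c, hcK⟩
  have hc'cent : x⁻¹ * (c : G) * x ∈ Subgroup.centralizer (D' : Set G) := by
    rw [Subgroup.mem_centralizer_iff]
    intro v hv
    obtain ⟨u, hu, rfl⟩ := hD'el v hv
    have h1 := hDc u hu
    calc x⁻¹ * u * x * (x⁻¹ * (c : G) * x) = x⁻¹ * (u * (c : G)) * x := by group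
      _ = x⁻¹ * ((c : G) * u) * x := by rw [h1]
      _ = x⁻¹ * (c : G) * x * (x⁻¹ * u * x) := by group
  obtain ⟨t, ht⟩ := (unit_iff_conj_le_defectGroup hM K T hKT hE hEe hDT D' hD'p hD'T).1
    ⟨x⁻¹ * (c : G) * x, hc'cent, by
      have hmem : x⁻¹ * (c : G) * x ∈ K := by
        rw [← hc'coe]
        exact ((conjAutOn K x (hNK hxN)).symm ⟨c, hcK⟩).2
      rw [extZ_of_mem K _ hmem]
      have : (⟨x⁻¹ * (c : G) * x, hmem⟩ : K) = (conjAutOn K x (hNK hxN)).symm ⟨c, hcK⟩ :=
        Subtype.ext hc'coe.symm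
      rw [this]
      exact hfJ⟩
  have e1 : Nat.card D = Nat.card DN := Subgroup.card_map_of_injective N.subtype_injective
  have e2 : Nat.card D' = Nat.card D :=
    Subgroup.card_map_of_injective (MulAut.conj x⁻¹).injective
  have e3 : Nat.card (D'.subgroupOf T) = Nat.card D' :=
    Nat.card_congr (Subgroup.subgroupOfEquivOfLe hD'T).toEquiv
  have e4 : Nat.card ((D'.subgroupOf T).map (MulAut.conj t).toMonoidHom) =
      Nat.card (D'.subgroupOf T) := Subgroup.card_map_of_injective (MulAut.conj t).injective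
  have e5 := Subgroup.card_le_of_le ht
  omega

end

end Cfsg.Agent.Lib.Helper8
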