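import Mathlib
import Cfsg.Prelude.Def_Blocks
import Cfsg.Prelude.Def_BrauerPairs
import Cfsg.Agent.Lib.Helper8.BlockPairFR
import Cfsg.Agent.Lib.Helper8.BlockFirstMain5

/-!
# The covering block of a Brauer pair of `B` induces `B`
-/

set_option autoImplicit false
set_option linter.unusedSectionVars false

namespace Cfsg.Agent.Lib.Helper8

open Cfsg
open scoped ComplexConjugate
open Cfsg.Agent.Lib.Helper1 Cfsg.Agent.Lib.Helper4

universe u

section

variable {G : Type u} [Group G] [Fintype G] {M : Ideal AlgInt} {p : ℕ}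

/-- Let `(Q, f)` be a Brauer pair of `B`, `Q C_G(Q) ≤ N ≤ N_G(Q)`, and `β` a block of `N` whose
idempotent is that of the union of the `N`-conjugates of `f`.  Then `β` induces `B`. -/
theorem isInducedBlock_of_cover (hM : IsPModular p M) (Q N : Subgroup G) (hQN : Q ≤ N)
    (hCN : Subgroup.centralizer (Q : Set G) ≤ N) (hNN : N ≤ Subgroup.normalizer (Q : Set G))
    {B : Set (IrrCharacter G)} {f : Set (IrrCharacter (Subgroup.centralizer (Q : Set G)))}
    (hBf : IsBrauerPairOf p M B Q f)
    {β : Set (IrrCharacter N)} (hβ : IsPBlock M β)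
    (hβe : ∀ n : N, blockCoeff β n = extZ (Subgroup.centralizer (Q : Set G))
      (blockCoeff (orbitUnionOf N (Subgroup.centralizer (Q : Set G)) f)) (n : G)) :
    IsInducedBlock M N β B := by
  classical
  have hMp := isPModular_isPrime hM
  have : Fintype N := Fintype.ofFinite _
  have : Fintype (Subgroup.centralizer (Q : Set G)) := Fintype.ofFinite _
  obtain ⟨⟨hQ, hf⟩, hB, hocc⟩ := hBf
  have hNK : N ≤ Subgroup.normalizer ((Subgroup.centralizer (Q : Set G) : Subgroup G) : Set G) :=
    hNN.trans (normalizer_le_normalizer_centralizer Q)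
  obtain ⟨hBcf, hBS, hBω⟩ := blockCoeff_spec hMp hB
  let AC : Set (IrrCharacter (Subgroup.centralizer (Q : Set G))) := {ψ | MemLocalIdeal M
      (brauerOmega Q (blockCoeff B) (ψ : Subgroup.centralizer (Q : Set G) → ℂ) - 1)}
  obtain ⟨_, hAcf, hAω, hAS, hAc⟩ := brauer_blockCoeff_cong hM Q hQ hB AC (fun ψ => Iff.rfl)
  have hfA : f ⊆ AC := fun ξ hξ => hocc ξ hξ
  have hAst : ∀ (x : G) (hxN : x ∈ N) (ψ : IrrCharacter (Subgroup.centralizer (Q : Set G))),
      ψ ∈ AC → conjIrr _ x (hNK hxN) ψ ∈ AC := by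
    intro x hxN ψ hψ
    show MemLocalIdeal M (brauerOmega Q (blockCoeff B) _ - 1)
    rw [brauerOmega_eq_omega, omega_conjIrr]
    have : (fun k : Subgroup.centralizer (Q : Set G) =>
        blockCoeff B ((conjAutOn _ x (hNK hxN) k : Subgroup.centralizer (Q : Set G)) : G)) =
        (fun k : Subgroup.centralizer (Q : Set G) => blockCoeff B (k : G)) := by
      funext k
      exact hBcf (k : G) x
    rw [this, ← brauerOmega_eq_omega]
    exact hψ
  set O := orbitUnionOf N (Subgroup.centralizer (Q : Set G)) f with hO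
  have hOA : O ⊆ AC := by
    rintro ψ ⟨x, hxN, hx, ψ₀, hψ₀, rfl⟩
    exact hAst x hxN ψ₀ (hfA hψ₀)
  obtain ⟨ψ₀, hψ₀⟩ : ∃ ψ₀, ψ₀ ∈ β := by
    obtain ⟨ξ₀, rfl⟩ := hβ
    exact ⟨ξ₀, sameBlock_refl hMp.ne_top _⟩
  -- the truncated idempotent on N
  set z' : N → ℂ := fun h => truncTo (Subgroup.centralizer (Q : Set G) : Set G) (blockCoeff B) h
    with hz'
  have hz'cf : IsClassFunction N z' := isClassFunction_restrict_truncTo Q N hNN hBcf
  have hβcf : IsClassFunction N (blockCoeff β) := isClassFunction_blockCoeff β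
  have hOS : ∀ k, MemLocalRing M (blockCoeff O k) :=
    memLocalRing_blockCoeff_of_union hMp O
      (fun χ hχ => blockOf_subset_orbitUnionOf N _ hMp hf hχ)
  have hZ : truncTo (Subgroup.centralizer (Q : Set G) : Set G) (blockCoeff B) =
      extZ (Subgroup.centralizer (Q : Set G))
        (fun k : Subgroup.centralizer (Q : Set G) => blockCoeff B (k : G)) := by
    funext g
    by_cases hg : g ∈ Subgroup.centralizer (Q : Set G)
    · rw [truncTo_of_mem _ (show g ∈ ((Subgroup.centralizer (Q : Set G) : Subgroup G) : Set G)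
        from hg), extZ_of_mem _ _ hg]
    · rw [truncTo_of_not_mem _ (show g ∉ ((Subgroup.centralizer (Q : Set G) : Subgroup G) : Set G)
        from hg), extZ_of_not_mem _ _ hg]
  have hclaim : ∀ n : N, MemLocalIdeal M (conv z' (blockCoeff β) n - blockCoeff β n) := by
    intro n
    have hβfun : blockCoeff β = fun n : N => extZ (Subgroup.centralizer (Q : Set G))
        (blockCoeff O) (n : G) := by
      funext m
      exact hβe m
    have h1 : conv z' (blockCoeff β) n =
        conv (truncTo (Subgroup.centralizer (Q : Set G) : Set G) (blockCoeff B))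
          (extZ (Subgroup.centralizer (Q : Set G)) (blockCoeff O)) (n : G) := by
      rw [conv_restrict N (A := truncTo (Subgroup.centralizer (Q : Set G) : Set G) (blockCoeff B))
        (B := extZ (Subgroup.centralizer (Q : Set G)) (blockCoeff O))
        (fun g hg => truncTo_of_not_mem _ (fun h => hg (hCN h))) n, hβfun]
    rw [h1, hZ, conv_extZ, hβe]
    by_cases hn : (n : G) ∈ Subgroup.centralizer (Q : Set G)
    · rw [extZ_of_mem _ _ hn, extZ_of_mem _ _ hn]
      have e5 : conv (fun k : Subgroup.centralizer (Q : Set G) => blockCoeff B (k : G))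
          (blockCoeff O) - blockCoeff O
          = conv ((fun k : Subgroup.centralizer (Q : Set G) => blockCoeff B (k : G))
            - blockCoeff AC) (blockCoeff O) := by
        rw [conv_sub_left, conv_blockCoeff_blockCoeff, Set.inter_eq_right.2 hOA]
      have := memLocalIdeal_conv_left hMp (f := (fun k : Subgroup.centralizer (Q : Set G) =>
        blockCoeff B (k : G)) - blockCoeff AC) (fun g => hAc g) hOS ⟨(n : G), hn⟩
      rw [← e5] at this
      exact this
    · rw [extZ_of_not_mem _ _ hn, extZ_of_not_mem _ _ hn, sub_self]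
      exact memLocalIdeal_zero hMp.ne_top
  have h2 := omega_cong hMp ψ₀.2 (isClassFunction_conv hz'cf hβcf) hβcf hclaim
  rw [omega_conv ψ₀.2 hβcf, omega_blockCoeff, if_pos hψ₀, mul_one] at h2
  -- apply brauer_image_cong
  let A : Set (IrrCharacter N) := {ψ | MemLocalIdeal M
    (brauerLam Q N (ψ : N → ℂ) (blockCoeff B) - 1)}
  obtain ⟨_, hind, _⟩ := brauer_image_cong hM Q N hQ hQN hCN hNN hB A (fun ψ => Iff.rfl)
  have hψ₀A : ψ₀ ∈ A := by
    show MemLocalIdeal M (brauerLam Q N (ψ₀ : N → ℂ) (blockCoeff B) - 1)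
    rw [brauerLam_apply]
    exact h2
  have := hind ψ₀ hψ₀A
  rw [← eq_blockOf_of_mem hMp hβ hψ₀] at this
  exact this

end

end Cfsg.Agent.Lib.Helper8
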