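import Mathlib
import Cfsg.Prelude.Def_Blocks
import Cfsg.Prelude.Def_BrauerPairs
import Cfsg.Agent.Lib.Helper8.BlockPairInduce
import Cfsg.Agent.S4658

/-!
# Maximal Brauer pairs live on defect groups (S4659)
-/

set_option autoImplicit false
set_option linter.unusedSectionVars false

namespace Cfsg.Agent.Lib.Helper8

open Cfsg
open scoped ComplexConjugate
open Cfsg.Agent.Lib.Helper1 Cfsg.Agent.Lib.Helper4

universe u

section

variable {G : Type u} [Group G] [Fintype G] {M : Ideal AlgInt} {p : ℕ}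

/-- The stabilizer in `N` of a set `e` of irreducible characters of `K`. -/
def pairStab (N K : Subgroup G) (e : Set (IrrCharacter K)) : Subgroup G where
  carrier := {y | y ∈ N ∧ StabilizesBlock K e y}
  one_mem' := ⟨N.one_mem, stabilizesBlock_of_mem K e K.one_mem⟩
  mul_mem' := by
    rintro y z ⟨hyN, hy⟩ ⟨hzN, hz⟩
    refine ⟨N.mul_mem hyN hzN, ?_⟩
    rw [stabilizesBlock_iff_image] at hy hz ⊢
    obtain ⟨hy1, hy2⟩ := hy
    obtain ⟨hz1, hz2⟩ := hz
    refine ⟨Subgroup.mul_mem _ hy1 hz1, ?_⟩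
    rw [conjIrr_image_mul K e y z hy1 hz1, hz2, hy2]
  inv_mem' := by
    rintro y ⟨hyN, hy⟩
    refine ⟨N.inv_mem hyN, ?_⟩
    rw [stabilizesBlock_iff_image] at hy ⊢
    obtain ⟨hy1, hy2⟩ := hy
    refine ⟨Subgroup.inv_mem _ hy1, ?_⟩
    conv_lhs => rw [← hy2]
    exact conjIrr_image_inv_image K e y hy1

theorem mem_pairStab (N K : Subgroup G) (e : Set (IrrCharacter K)) (y : G) :
    y ∈ pairStab N K e ↔ y ∈ N ∧ StabilizesBlock K e y := Iff.rfl

/-- A normal `p`-subgroup is contained in every defect group. -/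
theorem normal_le_of_isDefectGroup [Fact p.Prime] (hM : IsPModular p M)
    {B : Set (IrrCharacter G)} (hB : IsPBlock M B) {D : Subgroup G}
    (hD : IsDefectGroup p M B D) (Q : Subgroup G) [hQn : Q.Normal] (hQ : IsPGroup p Q) : Q ≤ D :=
  (Cfsg.Agent.Lib.Lead.le_pCore hQn hQ).trans (Cfsg.Agent.S0912.result p M hM B hB D hD)

/-- Block idempotents of a subgroup `T ≤ N_G(Q)` containing `Q` vanish outside `C_G(Q)`. -/
theorem blockCoeff_eq_zero_of_not_mem_centralizer_sub (hM : IsPModular p M) (Q T : Subgroup G)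
    (hQ : IsPGroup p Q) (hTN : T ≤ Subgroup.normalizer (Q : Set G)) (hQT : Q ≤ T)
    {E : Set (IrrCharacter T)} (hE : IsPBlock M E) (t : T)
    (ht : (t : G) ∉ Subgroup.centralizer (Q : Set G)) : blockCoeff E t = 0 := by
  classical
  have : Fintype T := Fintype.ofFinite _
  have hPn : (Q.subgroupOf T).Normal := Subgroup.normal_subgroupOf_of_le_normalizer hTN
  have hPp : IsPGroup p (Q.subgroupOf T) := hQ.comap_subtype
  apply blockCoeff_eq_zero_of_not_mem_centralizer hM (Q.subgroupOf T) hPp hE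
  intro htc
  apply ht
  rw [Subgroup.mem_centralizer_iff]
  intro u hu
  have := Subgroup.mem_centralizer_iff.1 htc ⟨u, hQT hu⟩ (Subgroup.mem_subgroupOf.2 hu)
  exact congrArg Subtype.val this

/-- A block of a subgroup induces at most one block. -/
theorem isInducedBlock_unique (hM : M.IsPrime) (H : Subgroup G) {b : Set (IrrCharacter H)}
    {B₁ B₂ : Set (IrrCharacter G)} (h₁ : IsInducedBlock M H b B₁) (h₂ : IsInducedBlock M H b B₂) :
    B₁ = B₂ := by
  obtain ⟨hb, hB₁, hc₁⟩ := h₁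
  obtain ⟨_, hB₂, hc₂⟩ := h₂
  obtain ⟨ξ, hξ⟩ : ∃ ξ, ξ ∈ b := by
    obtain ⟨ξ₀, rfl⟩ := hb
    exact ⟨ξ₀, sameBlock_refl hM.ne_top _⟩
  obtain ⟨χ₁, hχ₁⟩ : ∃ χ, χ ∈ B₁ := by
    obtain ⟨ξ₀, rfl⟩ := hB₁
    exact ⟨ξ₀, sameBlock_refl hM.ne_top _⟩
  obtain ⟨χ₂, hχ₂⟩ : ∃ χ, χ ∈ B₂ := by
    obtain ⟨ξ₀, rfl⟩ := hB₂
    exact ⟨ξ₀, sameBlock_refl hM.ne_top _⟩
  have hs : SameBlock M (χ₁ : G → ℂ) (χ₂ : G → ℂ) := by
    intro g
    exact cong_trans hM (cong_symm (hc₁ ξ hξ χ₁ hχ₁ g)) (hc₂ ξ hξ χ₂ hχ₂ g)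
  rw [eq_blockOf_of_mem hM hB₁ hχ₁, eq_blockOf_of_mem hM hB₂ hχ₂]
  ext ψ
  constructor
  · intro hψ
    exact sameBlock_trans hM (sameBlock_symm hs) hψ
  · intro hψ
    exact sameBlock_trans hM hs hψ

/-- **A maximal Brauer pair of `B` lives on a defect group of `B`.** -/
theorem isDefectGroup_of_isMaximalBrauerPair [Fact p.Prime] (hM : IsPModular p M)
    {B : Set (IrrCharacter G)} {P : Subgroup G}
    {e : Set (IrrCharacter (Subgroup.centralizer (P : Set G)))}
    (hmax : IsMaximalBrauerPair p M B P e) : IsDefectGroup p M B P := by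
  classical
  have hMp := isPModular_isPrime hM
  obtain ⟨hBe, hmaxR⟩ := hmax
  have hBe' := hBe
  obtain ⟨⟨hP, he⟩, hB, hocc⟩ := hBe
  obtain ⟨T, hTdef⟩ : ∃ T : Subgroup G, T = pairStab (Subgroup.normalizer (P : Set G))
    (Subgroup.centralizer (P : Set G)) e := ⟨_, rfl⟩
  have hTmem : ∀ y, y ∈ T ↔ y ∈ Subgroup.normalizer (P : Set G) ∧
      StabilizesBlock (Subgroup.centralizer (P : Set G)) e y := by
    intro y
    rw [hTdef]
    exact Iff.rfl
  have hTst : ∀ x ∈ T, StabilizesBlock (Subgroup.centralizer (P : Set G)) e x :=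
    fun x hx => ((hTmem x).1 hx).2
  have hTN : T ≤ Subgroup.normalizer (P : Set G) := fun x hx => ((hTmem x).1 hx).1
  have hKN : Subgroup.centralizer (P : Set G) ≤ Subgroup.normalizer (P : Set G) :=
    Subgroup.centralizer_le_normalizer _
  have hKT : Subgroup.centralizer (P : Set G) ≤ T :=
    fun x hx => (hTmem x).2 ⟨hKN hx, stabilizesBlock_of_mem _ e hx⟩
  have hPT : P ≤ T := fun x hx => (hTmem x).2 ⟨Subgroup.le_normalizer hx,
    stabilizesBlock_of_centralizes _ e (fun k hk => (Subgroup.mem_centralizer_iff.1 hk) x hx)⟩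
  obtain ⟨E, hE, hEe⟩ := exists_block_of_stabilizes hM P hP he T hTst hTN hKT hPT
  obtain ⟨DT, hDT⟩ := exists_isDefectGroup hMp hE
  have hPnT : (P.subgroupOf T).Normal := Subgroup.normal_subgroupOf_of_le_normalizer hTN
  have hPDT : P.subgroupOf T ≤ DT :=
    normal_le_of_isDefectGroup hM hE hDT (P.subgroupOf T) hP.comap_subtype
  have hDTp : IsPGroup p DT := isPGroup_of_isDefectGroup hDT
  obtain ⟨R, hRdef⟩ : ∃ R : Subgroup G, R = DT.map T.subtype := ⟨_, rfl⟩
  have hRp : IsPGroup p R := by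
    rw [hRdef]
    exact hDTp.map _
  have hRT : R ≤ T := by
    rw [hRdef]
    rintro _ ⟨y, _, rfl⟩
    exact y.2
  have hPR : P ≤ R := by
    intro x hx
    rw [hRdef]
    exact ⟨⟨x, hPT hx⟩, hPDT (Subgroup.mem_subgroupOf.2 hx), rfl⟩
  have hRsub : R.subgroupOf T = DT := by
    rw [hRdef]
    exact Subgroup.comap_map_eq_self_of_injective T.subtype_injective DT
  have hEe' : ∀ t : T, blockCoeff E t =
      extZ (Subgroup.centralizer (P : Set G)) (blockCoeff e) (t : G) := by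
    intro t
    rw [hEe]
    rfl
  obtain ⟨c, hc, hu⟩ := (unit_iff_conj_le_defectGroup hM _ T hKT hE hEe' hDT R hRp hRT).2
    ⟨1, by
      rw [hRsub]
      intro y hy
      obtain ⟨z, hz, rfl⟩ := hy
      simpa using hz⟩
  obtain ⟨g, hg⟩ := exists_isNormalSubpair_of_unit hM P R ⟨hP, he⟩ hRp hPR (hRT.trans hTN)
    (fun x hx => hTst x (hRT hx)) hc (by rw [subgroupBlockCoeff_eq_extZ]; exact hu)
  have hRg : IsBrauerPairOf p M B R g :=
    (Cfsg.Agent.S4658.result p M hM R P g e hg.2.1 hg.1 (Relation.ReflTransGen.single hg) B hB).2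
      hBe'
  have hRP : R = P := hmaxR R g hRg (Relation.ReflTransGen.single hg)
  have hDTeq : DT = P.subgroupOf T := by rw [← hRsub, hRP]
  rw [hDTeq] at hDT
  have hNK := normalizer_le_normalizer_centralizer P
  obtain ⟨β, hβ, hβe⟩ := exists_covering_block hMp (Subgroup.normalizer (P : Set G))
    (Subgroup.centralizer (P : Set G)) hKN hNK
    (fun β hβ n hn => blockCoeff_eq_zero_of_not_mem_centralizer_sub hM P _ hP le_rfl
      Subgroup.le_normalizer hβ n hn) he
  obtain ⟨DN, hDN⟩ := exists_isDefectGroup hMp hβ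
  have hle := card_defectGroup_cover_le hM (Subgroup.normalizer (P : Set G))
    (Subgroup.centralizer (P : Set G)) T hNK hKT he (fun y hyN hy => (hTmem y).2 ⟨hyN, hy⟩) hE hEe'
    hβ hβe hDT hDN
  have hPDN : P.subgroupOf (Subgroup.normalizer (P : Set G)) ≤ DN :=
    normal_le_of_isDefectGroup hM hβ hDN _ hP.comap_subtype
  have hcard1 : Nat.card (P.subgroupOf T) = Nat.card P :=
    Nat.card_congr (Subgroup.subgroupOfEquivOfLe hPT).toEquiv
  have hcard2 : Nat.card (P.subgroupOf (Subgroup.normalizer (P : Set G))) = Nat.card P :=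
    Nat.card_congr (Subgroup.subgroupOfEquivOfLe Subgroup.le_normalizer).toEquiv
  have hDNeq : P.subgroupOf (Subgroup.normalizer (P : Set G)) = DN :=
    Subgroup.eq_of_le_of_card_ge hPDN (by omega)
  rw [← hDNeq] at hDN
  obtain ⟨B', hB', hB'P, hind'⟩ := firstMain_induce hM P hP hβ hDN
  have hind := isInducedBlock_of_cover hM P (Subgroup.normalizer (P : Set G))
    Subgroup.le_normalizer hKN le_rfl hBe' hβ hβe
  have : B' = B := isInducedBlock_unique hMp _ hind' hind
  rw [← this]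
  exact hB'P

end

end Cfsg.Agent.Lib.Helper8
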