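import Mathlib
import Cfsg.Prelude.Def_Blocks
import Cfsg.Prelude.Def_BrauerPairs
import Cfsg.Agent.Lib.Helper8.BlockPairMax

/-!
# Maximal Brauer pairs: existence above a given pair, and conjugacy on a defect group
-/

set_option autoImplicit false
set_option linter.unusedSectionVars false

namespace Cfsg.Agent.Lib.Helper8

open Cfsg
open scoped ComplexConjugate
open Cfsg.Agent.Lib.Helper1 Cfsg.Agent.Lib.Helper4

universe u

section

variable {G : Type u} [Group G] [Fintype G] {M : Ideal AlgInt} {p : ℕ}

/-- **Every Brauer pair of `B` lies below a maximal Brauer pair of `B`.** -/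
theorem exists_isMaximalBrauerPair_ge (B : Set (IrrCharacter G)) :
    ∀ (n : ℕ) (Q : Subgroup G) (f : Set (IrrCharacter (Subgroup.centralizer (Q : Set G)))),
      IsBrauerPairOf p M B Q f → Nat.card G - Nat.card Q ≤ n →
      ∃ (P : Subgroup G) (e : Set (IrrCharacter (Subgroup.centralizer (P : Set G)))),
        IsMaximalBrauerPair p M B P e ∧ SubpairLE p M Q f P e := by
  classical
  intro n
  induction n with
  | zero =>
    intro Q f hQf hn
    refine ⟨Q, f, ⟨hQf, ?_⟩, Relation.ReflTransGen.refl⟩
    intro R g _ hle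
    have hQR : Q ≤ R := subpairLE_le hle
    have h1 : Nat.card R ≤ Nat.card G := Subgroup.card_le_card_group R
    exact (Subgroup.eq_of_le_of_card_ge hQR (by omega)).symm
  | succ m ih =>
    intro Q f hQf hn
    by_cases hmax : IsMaximalBrauerPair p M B Q f
    · exact ⟨Q, f, hmax, Relation.ReflTransGen.refl⟩
    · have : ¬ ∀ (R : Subgroup G) (g : Set (IrrCharacter (Subgroup.centralizer (R : Set G)))),
          IsBrauerPairOf p M B R g → SubpairLE p M Q f R g → R = Q := fun h => hmax ⟨hQf, h⟩
      push Not at this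
      obtain ⟨R, g, hRg, hle, hne⟩ := this
      have hQR : Q ≤ R := subpairLE_le hle
      have hlt : Q < R := lt_of_le_of_ne hQR (Ne.symm hne)
      have hc := subgroup_card_lt_of_lt hlt
      have h1 : Nat.card R ≤ Nat.card G := Subgroup.card_le_card_group R
      obtain ⟨P, e, hPe, hle'⟩ := ih R g hRg (by omega)
      exact ⟨P, e, hPe, Relation.ReflTransGen.trans hle hle'⟩

/-- **Brauer pairs of `B` on a defect group `D` are conjugate under `N_G(D)`.** -/
theorem exists_conj_of_isBrauerPairOf_defectGroup [Fact p.Prime] (hM : IsPModular p M)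
    {B : Set (IrrCharacter G)} {D : Subgroup G} (hD : IsDefectGroup p M B D)
    {e e' : Set (IrrCharacter (Subgroup.centralizer (D : Set G)))}
    (he : IsBrauerPairOf p M B D e) (he' : IsBrauerPairOf p M B D e') :
    ∃ (x : G) (_ : x ∈ Subgroup.normalizer (D : Set G))
      (hx : x ∈ Subgroup.normalizer ((Subgroup.centralizer (D : Set G) : Subgroup G) : Set G)),
      e' = conjIrr (Subgroup.centralizer (D : Set G)) x hx '' e := by
  classical
  have hMp := isPModular_isPrime hM
  have : Fintype (Subgroup.centralizer (D : Set G)) := Fintype.ofFinite _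
  have hDp : IsPGroup p D := he.1.1
  have hB : IsPBlock M B := he.2.1
  have hKN : Subgroup.centralizer (D : Set G) ≤ Subgroup.normalizer (D : Set G) :=
    Subgroup.centralizer_le_normalizer _
  have hNK := normalizer_le_normalizer_centralizer D
  have hsupp : ∀ β : Set (IrrCharacter (Subgroup.normalizer (D : Set G))), IsPBlock M β →
      ∀ n : Subgroup.normalizer (D : Set G), (n : G) ∉ Subgroup.centralizer (D : Set G) →
        blockCoeff β n = 0 :=
    fun β hβ n hn => blockCoeff_eq_zero_of_not_mem_centralizer_sub hM D _ hDp le_rfl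
      Subgroup.le_normalizer hβ n hn
  -- the covering blocks
  have key : ∀ {e₁ : Set (IrrCharacter (Subgroup.centralizer (D : Set G)))},
      IsBrauerPairOf p M B D e₁ →
      ∃ β : Set (IrrCharacter (Subgroup.normalizer (D : Set G))), IsPBlock M β ∧
        (∀ n : Subgroup.normalizer (D : Set G), blockCoeff β n =
          extZ (Subgroup.centralizer (D : Set G)) (blockCoeff
            (orbitUnionOf (Subgroup.normalizer (D : Set G)) (Subgroup.centralizer (D : Set G)) e₁))
            (n : G)) ∧
        IsDefectGroup p M β (D.subgroupOf (Subgroup.normalizer (D : Set G))) ∧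
        IsInducedBlock M (Subgroup.normalizer (D : Set G)) β B := by
    intro e₁ he₁
    obtain ⟨β, hβ, hβe⟩ := exists_covering_block hMp (Subgroup.normalizer (D : Set G))
      (Subgroup.centralizer (D : Set G)) hKN hNK hsupp he₁.1.2
    have hind := isInducedBlock_of_cover hM D (Subgroup.normalizer (D : Set G))
      Subgroup.le_normalizer hKN le_rfl he₁ hβ hβe
    refine ⟨β, hβ, hβe, ?_, hind⟩
    obtain ⟨DN, hDN⟩ := exists_isDefectGroup (p := p) hMp hβ
    have hPDN : D.subgroupOf (Subgroup.normalizer (D : Set G)) ≤ DN :=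
      normal_le_of_isDefectGroup hM hβ hDN _ hDp.comap_subtype
    obtain ⟨E', hE', hDE'⟩ := exists_defectGroup_ge_of_induced hM _ hind hDN
    have hc1 : Nat.card E' = Nat.card D := by
      rw [card_of_isDefectGroup hM hB hE', card_of_isDefectGroup hM hB hD]
    have hc2 : Nat.card (DN.map (Subgroup.normalizer (D : Set G)).subtype) = Nat.card DN :=
      Subgroup.card_map_of_injective (Subgroup.subtype_injective _)
    have hc3 := Subgroup.card_le_of_le hDE'
    have hc4 : Nat.card (D.subgroupOf (Subgroup.normalizer (D : Set G))) = Nat.card D :=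
      Nat.card_congr (Subgroup.subgroupOfEquivOfLe Subgroup.le_normalizer).toEquiv
    have hDNeq : D.subgroupOf (Subgroup.normalizer (D : Set G)) = DN :=
      Subgroup.eq_of_le_of_card_ge hPDN (by omega)
    rw [hDNeq]
    exact hDN
  obtain ⟨β, hβ, hβe, hβD, hβind⟩ := key he
  obtain ⟨β', hβ', hβe', hβD', hβind'⟩ := key he'
  have hββ' : β = β' := firstMain_unique hM D hDp hβ hβ' hβD hβD' hβind hβind'
  have hOO : orbitUnionOf (Subgroup.normalizer (D : Set G)) (Subgroup.centralizer (D : Set G)) e =
      orbitUnionOf (Subgroup.normalizer (D : Set G)) (Subgroup.centralizer (D : Set G)) e' := by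
    apply eq_of_blockCoeff_eq
    funext k
    have h1 := hβe ⟨(k : G), hKN k.2⟩
    have h2 := hβe' ⟨(k : G), hKN k.2⟩
    rw [← hββ', h1] at h2
    simp only [extZ_coe] at h2
    exact h2
  obtain ⟨ξ', hξ'⟩ : ∃ ξ', ξ' ∈ e' := by
    obtain ⟨ξ₀, hξ₀⟩ := he'.1.2
    exact ⟨ξ₀, by rw [hξ₀]; exact sameBlock_refl hMp.ne_top _⟩
  have hξ'O := subset_orbitUnionOf (Subgroup.normalizer (D : Set G))
    (Subgroup.centralizer (D : Set G)) e' hξ'
  rw [← hOO] at hξ'O
  obtain ⟨x, hxN, hx, hξ'x⟩ := hξ'O
  refine ⟨x, hxN, hx, ?_⟩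
  have hb : IsPBlock M (conjIrr (Subgroup.centralizer (D : Set G)) x hx '' e) :=
    isPBlock_image_conjIrr _ x hx he.1.2
  rw [eq_blockOf_of_mem hMp he'.1.2 hξ', eq_blockOf_of_mem hMp hb hξ'x]

end

end Cfsg.Agent.Lib.Helper8
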