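import Mathlib
import Cfsg.Prelude.Def_Blocks
import Cfsg.Prelude.Def_BrauerPairs
import Cfsg.Agent.Lib.Helper8.BlockIso
import Cfsg.Agent.Lib.Helper8.BlockPairSylow

/-!
# Conjugation of Brauer pairs
-/

set_option autoImplicit false
set_option linter.unusedSectionVars false

namespace Cfsg.Agent.Lib.Helper8

open Cfsg
open scoped ComplexConjugate
open Cfsg.Agent.Lib.Helper1 Cfsg.Agent.Lib.Helper4

universe u

section

variable {G₁ G₂ : Type u} [Group G₁] [Group G₂] [Fintype G₁] [Fintype G₂] (φ : G₁ ≃* G₂)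

theorem omega_irrMap (χ : IrrCharacter G₁) (F : G₂ → ℂ) :
    omega (irrMap φ χ : G₂ → ℂ) F = omega (χ : G₁ → ℂ) (fun g => F (φ g)) := by
  unfold omega
  rw [irrMap_apply_one]
  congr 1
  rw [← Equiv.sum_comp φ.toEquiv]
  refine Finset.sum_congr rfl fun k _ => ?_
  show F (φ k) * (irrMap φ χ : G₂ → ℂ) (φ k) = _
  rw [irrMap_apply_map]

end

section

variable {G : Type u} [Group G]

theorem mem_centralizer_map_conj (Q : Subgroup G) (x c : G) :
    c ∈ Subgroup.centralizer ((Q.map (MulAut.conj x).toMonoidHom : Subgroup G) : Set G) ↔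
      x⁻¹ * c * x ∈ Subgroup.centralizer (Q : Set G) := by
  rw [Subgroup.mem_centralizer_iff, Subgroup.mem_centralizer_iff]
  constructor
  · intro h q hq
    have := h (x * q * x⁻¹) ⟨q, hq, by simp⟩
    calc q * (x⁻¹ * c * x) = x⁻¹ * (x * q * x⁻¹ * c) * x := by group
      _ = x⁻¹ * (c * (x * q * x⁻¹)) * x := by rw [this]
      _ = x⁻¹ * c * x * q := by group
  · rintro h _ ⟨q, hq, rfl⟩
    have := h q hq
    simp only [MulEquiv.coe_toMonoidHom, MulAut.conj_apply]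
    calc x * q * x⁻¹ * c = x * (q * (x⁻¹ * c * x)) * x⁻¹ := by group
      _ = x * (x⁻¹ * c * x * q) * x⁻¹ := by rw [this]
      _ = c * (x * q * x⁻¹) := by group

/-- Conjugation by `x` as an isomorphism `C_G(Q) ≃* C_G(x Q x⁻¹)`. -/
def centConj (Q : Subgroup G) (x : G) : Subgroup.centralizer (Q : Set G) ≃*
    Subgroup.centralizer ((Q.map (MulAut.conj x).toMonoidHom : Subgroup G) : Set G) where
  toFun c := ⟨x * c * x⁻¹, by
    rw [mem_centralizer_map_conj]
    have : x⁻¹ * (x * (c : G) * x⁻¹) * x = c := by group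
    rw [this]
    exact c.2⟩
  invFun c := ⟨x⁻¹ * c * x, (mem_centralizer_map_conj Q x c).1 c.2⟩
  left_inv c := by
    apply Subtype.ext
    simp [mul_assoc]
  right_inv c := by
    apply Subtype.ext
    simp [mul_assoc]
  map_mul' a b := by
    apply Subtype.ext
    show x * ((a * b : Subgroup.centralizer (Q : Set G)) : G) * x⁻¹ =
      (x * (a : G) * x⁻¹) * (x * (b : G) * x⁻¹)
    rw [Subgroup.coe_mul]
    group

@[simp] theorem centConj_apply_coe (Q : Subgroup G) (x : G)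
    (c : Subgroup.centralizer (Q : Set G)) : ((centConj Q x c : _) : G) = x * c * x⁻¹ := rfl

@[simp] theorem centConj_symm_apply_coe (Q : Subgroup G) (x : G)
    (c : Subgroup.centralizer ((Q.map (MulAut.conj x).toMonoidHom : Subgroup G) : Set G)) :
    (((centConj Q x).symm c : _) : G) = x⁻¹ * c * x := rfl

/-- The conjugate block is the image under transport along `centConj`. -/
theorem conjBlock_eq_image (Q : Subgroup G) (x : G)
    (f : Set (IrrCharacter (Subgroup.centralizer (Q : Set G)))) :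
    conjBlock Q x f = irrMap (centConj Q x) '' f := by
  ext ξ'
  constructor
  · rintro ⟨ξ, hξ, h⟩
    refine ⟨ξ, hξ, ?_⟩
    apply Subtype.ext
    funext c'
    rw [irrMap_apply]
    symm
    apply h
    rw [centConj_symm_apply_coe]
    group
  · rintro ⟨ξ, hξ, rfl⟩
    refine ⟨ξ, hξ, ?_⟩
    intro c c' hc
    have : c' = centConj Q x c := Subtype.ext hc
    rw [this, irrMap_apply_map]

/-- Conjugation of Brauer pairs. -/
def pairConj (x : G) (a : BrauerPairIdx G) : BrauerPairIdx G :=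
  ⟨a.1.map (MulAut.conj x).toMonoidHom, conjBlock a.1 x a.2⟩

/-- Extensionality for Brauer pair indices. -/
theorem pairIdx_ext {a b : BrauerPairIdx G} (h1 : a.1 = b.1)
    (h2 : ∀ ξ ∈ a.2, ∃ ξ' ∈ b.2, ∀ (g : G) (hg : g ∈ Subgroup.centralizer (a.1 : Set G))
      (hg' : g ∈ Subgroup.centralizer (b.1 : Set G)),
      (ξ : Subgroup.centralizer (a.1 : Set G) → ℂ) ⟨g, hg⟩ =
        (ξ' : Subgroup.centralizer (b.1 : Set G) → ℂ) ⟨g, hg'⟩)
    (h3 : ∀ ξ' ∈ b.2, ∃ ξ ∈ a.2, ∀ (g : G) (hg : g ∈ Subgroup.centralizer (a.1 : Set G))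
      (hg' : g ∈ Subgroup.centralizer (b.1 : Set G)),
      (ξ : Subgroup.centralizer (a.1 : Set G) → ℂ) ⟨g, hg⟩ =
        (ξ' : Subgroup.centralizer (b.1 : Set G) → ℂ) ⟨g, hg'⟩) : a = b := by
  obtain ⟨Q, f⟩ := a
  obtain ⟨P, e⟩ := b
  simp only at h1
  subst h1
  have : f = e := by
    ext ξ
    constructor
    · intro hξ
      obtain ⟨ξ', hξ', h⟩ := h2 ξ hξ
      have : ξ = ξ' := by
        apply Subtype.ext
        funext c
        exact h c c.2 c.2
      rw [this]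
      exact hξ'
    · intro hξ
      obtain ⟨ξ', hξ', h⟩ := h3 ξ hξ
      have : ξ' = ξ := by
        apply Subtype.ext
        funext c
        exact h c c.2 c.2
      rw [← this]
      exact hξ'
  rw [this]

theorem pairIdx_mk_ext {Q₁ Q₂ : Subgroup G}
    {f₁ : Set (IrrCharacter (Subgroup.centralizer (Q₁ : Set G)))}
    {f₂ : Set (IrrCharacter (Subgroup.centralizer (Q₂ : Set G)))} (h1 : Q₁ = Q₂)
    (h2 : ∀ ξ ∈ f₁, ∃ ξ' ∈ f₂, ∀ (g : G) (hg : g ∈ Subgroup.centralizer (Q₁ : Set G))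
      (hg' : g ∈ Subgroup.centralizer (Q₂ : Set G)),
      (ξ : Subgroup.centralizer (Q₁ : Set G) → ℂ) ⟨g, hg⟩ =
        (ξ' : Subgroup.centralizer (Q₂ : Set G) → ℂ) ⟨g, hg'⟩)
    (h3 : ∀ ξ' ∈ f₂, ∃ ξ ∈ f₁, ∀ (g : G) (hg : g ∈ Subgroup.centralizer (Q₁ : Set G))
      (hg' : g ∈ Subgroup.centralizer (Q₂ : Set G)),
      (ξ : Subgroup.centralizer (Q₁ : Set G) → ℂ) ⟨g, hg⟩ =
        (ξ' : Subgroup.centralizer (Q₂ : Set G) → ℂ) ⟨g, hg'⟩) :
    (⟨Q₁, f₁⟩ : BrauerPairIdx G) = ⟨Q₂, f₂⟩ :=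
  pairIdx_ext (a := ⟨Q₁, f₁⟩) (b := ⟨Q₂, f₂⟩) h1 h2 h3

theorem eq_mk_of_fst_eq (a : BrauerPairIdx G) {P : Subgroup G} (h : a.1 = P) :
    ∃ e : Set (IrrCharacter (Subgroup.centralizer (P : Set G))), a = ⟨P, e⟩ := by
  obtain ⟨R, g⟩ := a
  simp only at h
  subst h
  exact ⟨g, rfl⟩

end

end Cfsg.Agent.Lib.Helper8
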