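import Mathlib
import Cfsg.Prelude.Def_Blocks
import Cfsg.Prelude.Def_BrauerPairs
import Cfsg.Agent.Lib.Helper8.PairConj

/-!
# Conjugation of Brauer pairs preserves all the relations
-/

set_option autoImplicit false
set_option linter.unusedSectionVars false

namespace Cfsg.Agent.Lib.Helper8

open Cfsg
open scoped ComplexConjugate
open Cfsg.Agent.Lib.Helper1 Cfsg.Agent.Lib.Helper4

universe u

section

variable {G : Type u} [Group G] [Fintype G] {M : Ideal AlgInt} {p : ℕ}

theorem isBrauerPair_conj (x : G) {Q : Subgroup G}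
    {f : Set (IrrCharacter (Subgroup.centralizer (Q : Set G)))} (h : IsBrauerPair p M Q f) :
    IsBrauerPair p M (Q.map (MulAut.conj x).toMonoidHom) (conjBlock Q x f) := by
  refine ⟨h.1.map _, ?_⟩
  rw [conjBlock_eq_image]
  exact isPBlock_image_irrMap _ h.2

/-- The idempotent of the conjugate block. -/
theorem subgroupBlockCoeff_conjBlock (x : G) (Q : Subgroup G)
    (f : Set (IrrCharacter (Subgroup.centralizer (Q : Set G)))) (g : G) :
    subgroupBlockCoeff (Subgroup.centralizer ((Q.map (MulAut.conj x).toMonoidHom : Subgroup G) : Set G))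
      (conjBlock Q x f) (x * g * x⁻¹) =
    subgroupBlockCoeff (Subgroup.centralizer (Q : Set G)) f g := by
  have hiff : x * g * x⁻¹ ∈ Subgroup.centralizer
      ((Q.map (MulAut.conj x).toMonoidHom : Subgroup G) : Set G) ↔
      g ∈ Subgroup.centralizer (Q : Set G) := by
    rw [mem_centralizer_map_conj]
    have : x⁻¹ * (x * g * x⁻¹) * x = g := by group
    rw [this]
  by_cases hg : g ∈ Subgroup.centralizer (Q : Set G)
  · rw [subgroupBlockCoeff_of_mem _ _ (hiff.2 hg), subgroupBlockCoeff_of_mem _ _ hg,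
      conjBlock_eq_image, blockCoeff_image_irrMap]
    apply congrArg
    apply Subtype.ext
    rw [centConj_symm_apply_coe]
    show x⁻¹ * (x * g * x⁻¹) * x = g
    group
  · rw [subgroupBlockCoeff_of_not_mem _ _ (fun h => hg (hiff.1 h)),
      subgroupBlockCoeff_of_not_mem _ _ hg]

/-- The Brauer functional of a transported character. -/
theorem brauerOmega_irrMap_centConj (x : G) (P : Subgroup G) (β : G → ℂ)
    (ξ : IrrCharacter (Subgroup.centralizer (P : Set G))) :
    brauerOmega (P.map (MulAut.conj x).toMonoidHom) β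
      (irrMap (centConj P x) ξ : Subgroup.centralizer
        ((P.map (MulAut.conj x).toMonoidHom : Subgroup G) : Set G) → ℂ) =
    brauerOmega P (fun g => β (x * g * x⁻¹)) (ξ : Subgroup.centralizer (P : Set G) → ℂ) := by
  classical
  have : Fintype (Subgroup.centralizer (P : Set G)) := Fintype.ofFinite _
  have : Fintype (Subgroup.centralizer
    ((P.map (MulAut.conj x).toMonoidHom : Subgroup G) : Set G)) := Fintype.ofFinite _
  rw [brauerOmega_eq_omega, brauerOmega_eq_omega, omega_irrMap]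
  rfl

theorem isBrauerPairOf_conj (x : G) {B : Set (IrrCharacter G)} {Q : Subgroup G}
    {f : Set (IrrCharacter (Subgroup.centralizer (Q : Set G)))}
    (h : IsBrauerPairOf p M B Q f) :
    IsBrauerPairOf p M B (Q.map (MulAut.conj x).toMonoidHom) (conjBlock Q x f) := by
  obtain ⟨hQf, hB, hocc⟩ := h
  refine ⟨isBrauerPair_conj x hQf, hB, ?_⟩
  intro ξ' hξ'
  rw [conjBlock_eq_image] at hξ'
  obtain ⟨ξ, hξ, rfl⟩ := hξ'
  rw [brauerOmega_irrMap_centConj]
  have hcf := isClassFunction_blockCoeff B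
  have : (fun g => blockCoeff B (x * g * x⁻¹)) = blockCoeff B := by
    funext g
    exact hcf g x
  rw [this]
  exact hocc ξ hξ

theorem stabilizesBlock_conj (x : G) {Q : Subgroup G}
    {f : Set (IrrCharacter (Subgroup.centralizer (Q : Set G)))} {u : G}
    (h : StabilizesBlock (Subgroup.centralizer (Q : Set G)) f u) :
    StabilizesBlock (Subgroup.centralizer ((Q.map (MulAut.conj x).toMonoidHom : Subgroup G) : Set G))
      (conjBlock Q x f) (x * u * x⁻¹) := by
  obtain ⟨hu, hst⟩ := h
  refine ⟨?_, ?_⟩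
  · rw [Subgroup.mem_normalizer_iff]
    intro k
    have e : x⁻¹ * (x * u * x⁻¹ * k * (x * u * x⁻¹)⁻¹) * x = u * (x⁻¹ * k * x) * u⁻¹ := by group
    rw [mem_centralizer_map_conj, mem_centralizer_map_conj, e]
    exact Subgroup.mem_normalizer_iff.1 hu _
  · intro χ₁ hχ₁
    rw [conjBlock_eq_image] at hχ₁ ⊢
    obtain ⟨χ, hχ, rfl⟩ := hχ₁
    obtain ⟨χ', hχ', hc⟩ := hst χ hχ
    refine ⟨irrMap (centConj Q x) χ', ⟨χ', hχ', rfl⟩, ?_⟩
    intro k k' hk
    rw [irrMap_apply, irrMap_apply]
    apply hc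
    rw [centConj_symm_apply_coe, centConj_symm_apply_coe, hk]
    group

theorem isNormalSubpair_conj (x : G) {Q P : Subgroup G}
    {f : Set (IrrCharacter (Subgroup.centralizer (Q : Set G)))}
    {e : Set (IrrCharacter (Subgroup.centralizer (P : Set G)))}
    (h : IsNormalSubpair p M Q f P e) :
    IsNormalSubpair p M (Q.map (MulAut.conj x).toMonoidHom) (conjBlock Q x f)
      (P.map (MulAut.conj x).toMonoidHom) (conjBlock P x e) := by
  obtain ⟨hQf, hPe, hQP, hPN, hst, hocc⟩ := h
  refine ⟨isBrauerPair_conj x hQf, isBrauerPair_conj x hPe, Subgroup.map_mono hQP, ?_, ?_, ?_⟩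
  · exact (Subgroup.map_mono hPN).trans (Subgroup.le_normalizer_map _)
  · rintro _ ⟨u, hu, rfl⟩
    have := stabilizesBlock_conj x (hst u hu)
    simpa using this
  · intro ξ' hξ'
    rw [conjBlock_eq_image] at hξ'
    obtain ⟨ξ, hξ, rfl⟩ := hξ'
    rw [brauerOmega_irrMap_centConj]
    have : (fun g => subgroupBlockCoeff (Subgroup.centralizer
        ((Q.map (MulAut.conj x).toMonoidHom : Subgroup G) : Set G)) (conjBlock Q x f)
        (x * g * x⁻¹)) = subgroupBlockCoeff (Subgroup.centralizer (Q : Set G)) f := by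
      funext g
      exact subgroupBlockCoeff_conjBlock x Q f g
    rw [this]
    exact hocc ξ hξ

theorem normalSubpairRel_pairConj (x : G) {a b : BrauerPairIdx G}
    (h : NormalSubpairRel p M a b) : NormalSubpairRel p M (pairConj x a) (pairConj x b) :=
  isNormalSubpair_conj x h

theorem subpairRel_pairConj (x : G) {a b : BrauerPairIdx G}
    (h : Relation.ReflTransGen (NormalSubpairRel p M) a b) :
    Relation.ReflTransGen (NormalSubpairRel p M) (pairConj x a) (pairConj x b) := by
  induction h with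
  | refl => exact Relation.ReflTransGen.refl
  | tail _ hstep ih => exact Relation.ReflTransGen.tail ih (normalSubpairRel_pairConj x hstep)

omit [Fintype G] in
theorem pairConj_mul (x y : G) (a : BrauerPairIdx G) :
    pairConj (x * y) a = pairConj x (pairConj y a) := by
  obtain ⟨Q, f⟩ := a
  show (⟨Q.map (MulAut.conj (x * y)).toMonoidHom, conjBlock Q (x * y) f⟩ : BrauerPairIdx G) =
    ⟨(Q.map (MulAut.conj y).toMonoidHom).map (MulAut.conj x).toMonoidHom,
      conjBlock (Q.map (MulAut.conj y).toMonoidHom) x (conjBlock Q y f)⟩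
  apply pairIdx_mk_ext
  · rw [map_conj_map_conj]
  · intro ξ hξ
    rw [conjBlock_eq_image] at hξ
    obtain ⟨ξ₀, hξ₀, rfl⟩ := hξ
    refine ⟨irrMap (centConj _ x) (irrMap (centConj Q y) ξ₀), ?_, ?_⟩
    · rw [conjBlock_eq_image, conjBlock_eq_image]
      exact ⟨_, ⟨ξ₀, hξ₀, rfl⟩, rfl⟩
    · intro g hg hg'
      rw [irrMap_apply, irrMap_apply, irrMap_apply]
      apply congrArg
      apply Subtype.ext
      simp only [centConj_symm_apply_coe]
      group
  · intro ξ' hξ'
    rw [conjBlock_eq_image, conjBlock_eq_image] at hξ'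
    obtain ⟨_, ⟨ξ₀, hξ₀, rfl⟩, rfl⟩ := hξ'
    refine ⟨irrMap (centConj Q (x * y)) ξ₀, ?_, ?_⟩
    · rw [conjBlock_eq_image]
      exact ⟨ξ₀, hξ₀, rfl⟩
    · intro g hg hg'
      rw [irrMap_apply, irrMap_apply, irrMap_apply]
      apply congrArg
      apply Subtype.ext
      simp only [centConj_symm_apply_coe]
      group

omit [Fintype G] in
/-- Conjugating a pair by an element normalizing its subgroup. -/
theorem pairConj_of_mem_normalizer (x : G) (Q : Subgroup G)
    (f : Set (IrrCharacter (Subgroup.centralizer (Q : Set G))))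
    (hx : x ∈ Subgroup.normalizer (Q : Set G))
    (hx' : x ∈ Subgroup.normalizer ((Subgroup.centralizer (Q : Set G) : Subgroup G) : Set G)) :
    pairConj x ⟨Q, f⟩ = ⟨Q, conjIrr (Subgroup.centralizer (Q : Set G)) x hx' '' f⟩ := by
  show (⟨Q.map (MulAut.conj x).toMonoidHom, conjBlock Q x f⟩ : BrauerPairIdx G) =
    ⟨Q, conjIrr (Subgroup.centralizer (Q : Set G)) x hx' '' f⟩
  apply pairIdx_mk_ext
  · exact Subgroup.mem_normalizer_iff_map_conj_eq.1 hx
  · intro ξ hξ
    rw [conjBlock_eq_image] at hξ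
    obtain ⟨ξ₀, hξ₀, rfl⟩ := hξ
    refine ⟨conjIrr _ x hx' ξ₀, ⟨ξ₀, hξ₀, rfl⟩, ?_⟩
    intro g hg hg'
    rw [irrMap_apply, conjIrr_apply]
    apply congrArg
    apply Subtype.ext
    rfl
  · rintro _ ⟨ξ₀, hξ₀, rfl⟩
    refine ⟨irrMap (centConj Q x) ξ₀, ?_, ?_⟩
    · rw [conjBlock_eq_image]
      exact ⟨ξ₀, hξ₀, rfl⟩
    · intro g hg hg'
      rw [irrMap_apply, conjIrr_apply]
      apply congrArg
      apply Subtype.ext
      rfl

end

end Cfsg.Agent.Lib.Helper8
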