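import Mathlib
import Cfsg.Prelude.Def_Blocks
import Cfsg.Prelude.Def_BrauerPairs
import Cfsg.Agent.Lib.Helper8.PairConj2

/-!
# Conjugacy of maximal Brauer pairs (S4660)
-/

set_option autoImplicit false
set_option linter.unusedSectionVars false

namespace Cfsg.Agent.Lib.Helper8

open Cfsg
open scoped ComplexConjugate
open Cfsg.Agent.Lib.Helper1 Cfsg.Agent.Lib.Helper4

universe u

section

variable {G : Type u} [Group G] [Fintype G] {M : Ideal AlgInt} {p : ℕ}

/-- A defect group centralizes... rather: the defect class representative centralizes it. -/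
theorem exists_isDefectClass_mem_centralizer {B : Set (IrrCharacter G)} {D : Subgroup G}
    (hD : IsDefectGroup p M B D) :
    ∃ g : G, IsDefectClass M B g ∧ g ∈ Subgroup.centralizer (D : Set G) := by
  obtain ⟨g, hg, P, rfl⟩ := hD
  refine ⟨g, hg, ?_⟩
  rw [Subgroup.mem_centralizer_iff]
  rintro _ ⟨y, _, rfl⟩
  have := y.2
  rw [Subgroup.mem_centralizer_singleton_iff] at this
  exact this

/-- **Defect groups of a block are conjugate.** -/
theorem exists_conj_eq_of_isDefectGroup [Fact p.Prime] (hM : IsPModular p M)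
    {B : Set (IrrCharacter G)} (hB : IsPBlock M B) {D D' : Subgroup G}
    (hD : IsDefectGroup p M B D) (hD' : IsDefectGroup p M B D') :
    ∃ x : G, D'.map (MulAut.conj x).toMonoidHom = D := by
  obtain ⟨g', hg', hg'c⟩ := exists_isDefectClass_mem_centralizer hD'
  obtain ⟨x, hx⟩ := (exists_unit_coeff_iff hM hB hD D' (isPGroup_of_isDefectGroup hD')).1
    ⟨g', hg'.1, hg'.2.1, g', IsConj.refl _, hg'c⟩
  refine ⟨x, Subgroup.eq_of_le_of_card_ge hx ?_⟩
  rw [Subgroup.card_map_of_injective (MulAut.conj x).injective, card_of_isDefectGroup hM hB hD,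
    card_of_isDefectGroup hM hB hD']

/-- **Every Brauer pair of `B` is conjugate to a pair below a given maximal Brauer pair.** -/
theorem exists_conj_subpairLE [Fact p.Prime] (hM : IsPModular p M) {B : Set (IrrCharacter G)}
    {P Q : Subgroup G} {e : Set (IrrCharacter (Subgroup.centralizer (P : Set G)))}
    {f : Set (IrrCharacter (Subgroup.centralizer (Q : Set G)))}
    (hmax : IsMaximalBrauerPair p M B P e) (hQf : IsBrauerPairOf p M B Q f) :
    ∃ x : G, SubpairLE p M (Q.map (MulAut.conj x).toMonoidHom) (conjBlock Q x f) P e := by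
  have hB : IsPBlock M B := hQf.2.1
  obtain ⟨P', e', hmax', hle⟩ := exists_isMaximalBrauerPair_ge B _ Q f hQf le_rfl
  have hPD := isDefectGroup_of_isMaximalBrauerPair hM hmax
  have hP'D := isDefectGroup_of_isMaximalBrauerPair hM hmax'
  obtain ⟨x, hx⟩ := exists_conj_eq_of_isDefectGroup hM hB hPD hP'D
  obtain ⟨e'', he''⟩ := eq_mk_of_fst_eq (pairConj x ⟨P', e'⟩) hx
  have hB'' : IsBrauerPairOf p M B P e'' := by
    have h1 := isBrauerPairOf_conj (M := M) (p := p) x hmax'.1
    have : ∀ a : BrauerPairIdx G, a = pairConj x ⟨P', e'⟩ → IsBrauerPairOf p M B a.1 a.2 := by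
      rintro _ rfl
      exact h1
    exact this ⟨P, e''⟩ he''.symm
  obtain ⟨n, hnN, hn', hne⟩ := exists_conj_of_isBrauerPairOf_defectGroup hM hPD hB'' hmax.1
  refine ⟨n * x, ?_⟩
  have h1 := subpairRel_pairConj x hle
  rw [he''] at h1
  have h2 := subpairRel_pairConj n h1
  rw [← pairConj_mul, pairConj_of_mem_normalizer n P e'' hnN hn', ← hne] at h2
  exact h2

end

end Cfsg.Agent.Lib.Helper8
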