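import Mathlib
import Cfsg.Prelude.Def_Blocks
import Cfsg.Prelude.Def_BrauerPairs
import Cfsg.Agent.Lib.Helper8.PairConj3

/-!
# Normalizers in a maximal Brauer pair and defect groups of the block of the stabilizer (S4662)
-/

set_option autoImplicit false
set_option linter.unusedSectionVars false

namespace Cfsg.Agent.Lib.Helper8

open Cfsg
open scoped ComplexConjugate
open Cfsg.Agent.Lib.Helper1 Cfsg.Agent.Lib.Helper4

universe u

section

variable {G : Type u} [Group G] [Fintype G] {M : Ideal AlgInt} {p : ℕ}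

/-- Conjugates of defect groups are defect groups. -/
theorem isDefectGroup_map_conj [Fact p.Prime] {B : Set (IrrCharacter G)} {D : Subgroup G}
    (h : IsDefectGroup p M B D) (x : G) :
    IsDefectGroup p M B (D.map (MulAut.conj x).toMonoidHom) := by
  have h1 := isDefectGroup_image_irrMap (MulAut.conj x) h
  have e : irrMap (MulAut.conj x) '' B = B := by
    conv_rhs => rw [← Set.image_id B]
    apply Set.image_congr
    intro χ _
    apply Subtype.ext
    funext g
    rw [irrMap_apply, MulAut.conj_symm_apply]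
    have := isClassFunction_irr χ.2 g x⁻¹
    simpa using this
  rwa [e] at h1

/-- If `(Q, f) ≤ (P, e)` and `Q ⊴ R ≤ P` then `(Q, f) ⊴ (R, g)` for the pair `(R, g) ≤ (P, e)`. -/
theorem exists_isNormalSubpair_of_subpairLE [Fact p.Prime] (hM : IsPModular p M)
    {P Q R : Subgroup G} {e : Set (IrrCharacter (Subgroup.centralizer (P : Set G)))}
    {f : Set (IrrCharacter (Subgroup.centralizer (Q : Set G)))}
    (hPe : IsBrauerPair p M P e) (hle : SubpairLE p M Q f P e) (hQR : Q ≤ R) (hRP : R ≤ P)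
    (hRN : R ≤ Subgroup.normalizer (Q : Set G)) :
    ∃ g : Set (IrrCharacter (Subgroup.centralizer (R : Set G))),
      IsNormalSubpair p M Q f R g ∧ SubpairLE p M R g P e := by
  obtain ⟨g, hRg, hgle⟩ := exists_subpairLE hM _ P R e hPe hRP le_rfl
  obtain ⟨f', hf'⟩ := exists_isNormalSubpair hM R Q hRg hQR hRN
  have hle' : SubpairLE p M Q f' P e :=
    Relation.ReflTransGen.head (show NormalSubpairRel p M ⟨Q, f'⟩ ⟨R, g⟩ from hf') hgle
  have : f' = f := subpairLE_unique hM _ ⟨P, e⟩ hPe le_rfl Q f' f hle' hle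
  rw [this] at hf'
  exact ⟨g, hf', hgle⟩

/-- **Containment**: if `(Q, f) ≤ (P, e)`, `T` is the stabilizer of `(Q, f)` and `F` the block of
`T` with the idempotent of `f`, then `N_P(Q)` lies in a defect group of `F`. -/
theorem exists_defectGroup_ge_normalizer [Fact p.Prime] (hM : IsPModular p M)
    {P Q : Subgroup G} {e : Set (IrrCharacter (Subgroup.centralizer (P : Set G)))}
    {f : Set (IrrCharacter (Subgroup.centralizer (Q : Set G)))}
    (hPe : IsBrauerPair p M P e) (hQP : Q ≤ P) (hle : SubpairLE p M Q f P e)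
    (T : Subgroup G)
    (hT : ∀ y : G, y ∈ T ↔ y ∈ Subgroup.normalizer (Q : Set G) ∧
      StabilizesBlock (Subgroup.centralizer (Q : Set G)) f y)
    {F : Set (IrrCharacter T)} (hF : IsPBlock M F)
    (hFe : ∀ t : T, blockCoeff F t = subgroupBlockCoeff (Subgroup.centralizer (Q : Set G)) f (t : G)) :
    (P ⊓ Subgroup.normalizer (Q : Set G) : Subgroup G) ≤ T ∧
    ∃ D : Subgroup T, IsDefectGroup p M F D ∧
      (P ⊓ Subgroup.normalizer (Q : Set G)).subgroupOf T ≤ D := by
  classical
  have hMp := isPModular_isPrime hM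
  have hKT : Subgroup.centralizer (Q : Set G) ≤ T :=
    fun x hx => (hT x).2 ⟨Subgroup.centralizer_le_normalizer _ hx, stabilizesBlock_of_mem _ f hx⟩
  have hRp : IsPGroup p (P ⊓ Subgroup.normalizer (Q : Set G) : Subgroup G) := hPe.1.to_le inf_le_left
  obtain ⟨g, hnorm, _⟩ := exists_isNormalSubpair_of_subpairLE hM hPe hle
    (le_inf hQP Subgroup.le_normalizer) inf_le_left inf_le_right
  have hRT : (P ⊓ Subgroup.normalizer (Q : Set G) : Subgroup G) ≤ T :=
    fun x hx => (hT x).2 ⟨hx.2, hnorm.2.2.2.2.1 x hx⟩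
  obtain ⟨c, hc, hu⟩ := exists_unit_of_isNormalSubpair hM Q _ hnorm
  obtain ⟨DT, hDT⟩ := exists_isDefectGroup (p := p) hMp hF
  have hFe' : ∀ t : T, blockCoeff F t =
      extZ (Subgroup.centralizer (Q : Set G)) (blockCoeff f) (t : G) := by
    intro t
    rw [hFe]
    rfl
  obtain ⟨t, ht⟩ := (unit_iff_conj_le_defectGroup hM _ T hKT hF hFe' hDT _ hRp hRT).1
    ⟨c, hc, by rw [← subgroupBlockCoeff_eq_extZ]; exact hu⟩
  refine ⟨hRT, DT.map (MulAut.conj t⁻¹).toMonoidHom, isDefectGroup_map_conj hDT _, ?_⟩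
  intro y hy
  have := ht ⟨y, hy, rfl⟩
  refine ⟨_, this, ?_⟩
  simp [mul_assoc]

/-- **Growth to a maximal pair**: with `(P, e)` a maximal Brauer pair of `B`, `(Q, f)` a Brauer
pair of `B`, `T` its stabilizer, `F` the block of `T` with the idempotent of `f` and `D` a defect
group of `F`, some conjugate `(Q, f)^z` lies below `(P, e)` with `|D| ≤ |N_P(Q^z)|`. -/
theorem exists_conj_card_le_normalizer [Fact p.Prime] (hM : IsPModular p M)
    {B : Set (IrrCharacter G)}
    {P Q : Subgroup G} {e : Set (IrrCharacter (Subgroup.centralizer (P : Set G)))}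
    {f : Set (IrrCharacter (Subgroup.centralizer (Q : Set G)))}
    (hmax : IsMaximalBrauerPair p M B P e) (hQf : IsBrauerPairOf p M B Q f)
    (T : Subgroup G)
    (hT : ∀ y : G, y ∈ T ↔ y ∈ Subgroup.normalizer (Q : Set G) ∧
      StabilizesBlock (Subgroup.centralizer (Q : Set G)) f y)
    {F : Set (IrrCharacter T)} (hF : IsPBlock M F)
    (hFe : ∀ t : T, blockCoeff F t = subgroupBlockCoeff (Subgroup.centralizer (Q : Set G)) f (t : G))
    {D : Subgroup T} (hD : IsDefectGroup p M F D) :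
    ∃ z : G, Relation.ReflTransGen (NormalSubpairRel p M) (pairConj z ⟨Q, f⟩) ⟨P, e⟩ ∧
      Nat.card D ≤ Nat.card (P ⊓ Subgroup.normalizer
        ((Q.map (MulAut.conj z).toMonoidHom : Subgroup G) : Set G) : Subgroup G) := by
  classical
  have hMp := isPModular_isPrime hM
  have hQ : IsPGroup p Q := hQf.1.1
  have hB : IsPBlock M B := hQf.2.1
  have hTN : T ≤ Subgroup.normalizer (Q : Set G) := fun x hx => ((hT x).1 hx).1
  have hTst : ∀ x ∈ T, StabilizesBlock (Subgroup.centralizer (Q : Set G)) f x :=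
    fun x hx => ((hT x).1 hx).2
  have hKT : Subgroup.centralizer (Q : Set G) ≤ T :=
    fun x hx => (hT x).2 ⟨Subgroup.centralizer_le_normalizer _ hx, stabilizesBlock_of_mem _ f hx⟩
  have hQT : Q ≤ T := fun x hx => (hT x).2 ⟨Subgroup.le_normalizer hx,
    stabilizesBlock_of_centralizes _ f (fun k hk => (Subgroup.mem_centralizer_iff.1 hk) x hx)⟩
  have hQnT : (Q.subgroupOf T).Normal := Subgroup.normal_subgroupOf_of_le_normalizer hTN
  have hQD : Q.subgroupOf T ≤ D := normal_le_of_isDefectGroup hM hF hD _ hQ.comap_subtype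
  have hDp : IsPGroup p D := isPGroup_of_isDefectGroup hD
  obtain ⟨R, hRdef⟩ : ∃ R : Subgroup G, R = D.map T.subtype := ⟨_, rfl⟩
  have hRp : IsPGroup p R := by
    rw [hRdef]
    exact hDp.map _
  have hRT : R ≤ T := by
    rw [hRdef]
    rintro _ ⟨y, _, rfl⟩
    exact y.2
  have hQR : Q ≤ R := by
    intro x hx
    rw [hRdef]
    exact ⟨⟨x, hQT hx⟩, hQD (Subgroup.mem_subgroupOf.2 hx), rfl⟩
  have hRsub : R.subgroupOf T = D := by
    rw [hRdef]
    exact Subgroup.comap_map_eq_self_of_injective T.subtype_injective D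
  have hRcard : Nat.card R = Nat.card D := by
    rw [hRdef]
    exact Subgroup.card_map_of_injective T.subtype_injective
  have hFe' : ∀ t : T, blockCoeff F t =
      extZ (Subgroup.centralizer (Q : Set G)) (blockCoeff f) (t : G) := by
    intro t
    rw [hFe]
    rfl
  obtain ⟨c, hc, hu⟩ := (unit_iff_conj_le_defectGroup hM _ T hKT hF hFe' hD R hRp hRT).2
    ⟨1, by
      rw [hRsub]
      intro y hy
      obtain ⟨z, hz, rfl⟩ := hy
      simpa using hz⟩
  obtain ⟨g, hg⟩ := exists_isNormalSubpair_of_unit hM Q R hQf.1 hRp hQR (hRT.trans hTN)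
    (fun x hx => hTst x (hRT hx)) hc (by rw [subgroupBlockCoeff_eq_extZ]; exact hu)
  have hRg : IsBrauerPairOf p M B R g :=
    (Cfsg.Agent.S4658.result p M hM R Q g f hg.2.1 hg.1 (Relation.ReflTransGen.single hg) B hB).2
      hQf
  obtain ⟨z, hz⟩ := exists_conj_subpairLE hM hmax hRg
  refine ⟨z, ?_, ?_⟩
  · exact Relation.ReflTransGen.head (normalSubpairRel_pairConj z
      (show NormalSubpairRel p M ⟨Q, f⟩ ⟨R, g⟩ from hg)) hz
  · have h1 : R.map (MulAut.conj z).toMonoidHom ≤ P := subpairLE_le hz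
    have h2 : R.map (MulAut.conj z).toMonoidHom ≤ Subgroup.normalizer
        ((Q.map (MulAut.conj z).toMonoidHom : Subgroup G) : Set G) :=
      (isNormalSubpair_conj z hg).2.2.2.1
    have h3 := Subgroup.card_le_of_le (le_inf h1 h2)
    rw [Subgroup.card_map_of_injective (MulAut.conj z).injective, hRcard] at h3
    exact h3

/-- **S4662.** -/
theorem normalizer_defectGroup_of_subpairLE [Fact p.Prime] (hM : IsPModular p M)
    {B : Set (IrrCharacter G)}
    {P Q : Subgroup G} {e : Set (IrrCharacter (Subgroup.centralizer (P : Set G)))}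
    {f : Set (IrrCharacter (Subgroup.centralizer (Q : Set G)))}
    (hmax : IsMaximalBrauerPair p M B P e) (hQP : Q ≤ P) (hf : IsPBlock M f)
    (hle : SubpairLE p M Q f P e) (T : Subgroup G)
    (hT : ∀ y : G, y ∈ T ↔ y ∈ Subgroup.normalizer (Q : Set G) ∧
      StabilizesBlock (Subgroup.centralizer (Q : Set G)) f y) :
    (∃ F : Set (IrrCharacter T), IsPBlock M F ∧
      (∀ t : T, blockCoeff F t =
        subgroupBlockCoeff (Subgroup.centralizer (Q : Set G)) f (t : G)) ∧
      ∃ D : Subgroup T, IsDefectGroup p M F D ∧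
        (P ⊓ Subgroup.normalizer (Q : Set G)).subgroupOf T ≤ D) ∧
    ∃ x : G, SubpairLE p M (Q.map (MulAut.conj x).toMonoidHom) (conjBlock Q x f) P e ∧
      ∀ (T' : Subgroup G), (∀ y : G, y ∈ T' ↔
        y ∈ Subgroup.normalizer ((Q.map (MulAut.conj x).toMonoidHom) : Set G) ∧
        StabilizesBlock (Subgroup.centralizer ((Q.map (MulAut.conj x).toMonoidHom) : Set G))
          (conjBlock Q x f) y) →
      ∃ F' : Set (IrrCharacter T'), IsPBlock M F' ∧
        (∀ t : T', blockCoeff F' t = subgroupBlockCoeff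
          (Subgroup.centralizer ((Q.map (MulAut.conj x).toMonoidHom) : Set G))
          (conjBlock Q x f) (t : G)) ∧
        IsDefectGroup p M F' ((P ⊓ Subgroup.normalizer
          ((Q.map (MulAut.conj x).toMonoidHom) : Set G)).subgroupOf T') := by
  classical
  have hMp := isPModular_isPrime hM
  have hPe : IsBrauerPair p M P e := hmax.1.1
  have hB : IsPBlock M B := hmax.1.2.1
  have hQ : IsPGroup p Q := hPe.1.to_le hQP
  have hBQf : IsBrauerPairOf p M B Q f :=
    (Cfsg.Agent.S4658.result p M hM P Q e f hPe ⟨hQ, hf⟩ hle B hB).1 hmax.1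
  -- a general fact on stabilizers
  have hstab : ∀ (Q' : Subgroup G) (f' : Set (IrrCharacter (Subgroup.centralizer (Q' : Set G))))
      (T' : Subgroup G), IsBrauerPair p M Q' f' →
      (∀ y : G, y ∈ T' ↔ y ∈ Subgroup.normalizer (Q' : Set G) ∧
        StabilizesBlock (Subgroup.centralizer (Q' : Set G)) f' y) →
      ∃ F' : Set (IrrCharacter T'), IsPBlock M F' ∧ ∀ t : T', blockCoeff F' t =
        subgroupBlockCoeff (Subgroup.centralizer (Q' : Set G)) f' (t : G) := by
    intro Q' f' T' hQ'f' hT'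
    have hTN : T' ≤ Subgroup.normalizer (Q' : Set G) := fun x hx => ((hT' x).1 hx).1
    have hTst : ∀ x ∈ T', StabilizesBlock (Subgroup.centralizer (Q' : Set G)) f' x :=
      fun x hx => ((hT' x).1 hx).2
    have hKT : Subgroup.centralizer (Q' : Set G) ≤ T' :=
      fun x hx => (hT' x).2 ⟨Subgroup.centralizer_le_normalizer _ hx,
        stabilizesBlock_of_mem _ f' hx⟩
    have hQT : Q' ≤ T' := fun x hx => (hT' x).2 ⟨Subgroup.le_normalizer hx,
      stabilizesBlock_of_centralizes _ f' (fun k hk => (Subgroup.mem_centralizer_iff.1 hk) x hx)⟩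
    exact exists_block_of_stabilizes hM Q' hQ'f'.1 hQ'f'.2 T' hTst hTN hKT hQT
  constructor
  · obtain ⟨F, hF, hFe⟩ := hstab Q f T ⟨hQ, hf⟩ hT
    obtain ⟨_, D, hD, hDle⟩ := exists_defectGroup_ge_normalizer hM hPe hQP hle T hT hF hFe
    exact ⟨F, hF, hFe, D, hD, hDle⟩
  · -- choose x maximizing |N_P(Q^x)|
    let S : Set G := {x | Relation.ReflTransGen (NormalSubpairRel p M) (pairConj x ⟨Q, f⟩) ⟨P, e⟩}
    obtain ⟨x₀, hx₀⟩ := exists_conj_subpairLE hM hmax hBQf
    have hSne : Nonempty S := ⟨⟨x₀, hx₀⟩⟩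
    obtain ⟨⟨x, hxS⟩, hxmax⟩ := Finite.exists_max (fun x : S =>
      Nat.card (P ⊓ Subgroup.normalizer
        ((Q.map (MulAut.conj (x : G)).toMonoidHom : Subgroup G) : Set G) : Subgroup G))
    refine ⟨x, hxS, ?_⟩
    intro T' hT'
    have hQ'f' : IsBrauerPairOf p M B (Q.map (MulAut.conj x).toMonoidHom) (conjBlock Q x f) :=
      isBrauerPairOf_conj x hBQf
    have hle' : SubpairLE p M (Q.map (MulAut.conj x).toMonoidHom) (conjBlock Q x f) P e := hxS
    have hQ'P : Q.map (MulAut.conj x).toMonoidHom ≤ P := subpairLE_le hle'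
    obtain ⟨F', hF', hF'e⟩ := hstab _ _ T' hQ'f'.1 hT'
    refine ⟨F', hF', hF'e, ?_⟩
    obtain ⟨hR'T', D', hD', hD'le⟩ :=
      exists_defectGroup_ge_normalizer hM hPe hQ'P hle' T' hT' hF' hF'e
    obtain ⟨z, hz, hzcard⟩ := exists_conj_card_le_normalizer hM hmax hQ'f' T' hT' hF' hF'e hD'
    have hzx : z * x ∈ S := by
      show Relation.ReflTransGen (NormalSubpairRel p M) (pairConj (z * x) ⟨Q, f⟩) ⟨P, e⟩
      rw [pairConj_mul]
      exact hz
    have hmx := hxmax ⟨z * x, hzx⟩
    simp only at hmx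
    rw [map_conj_map_conj] at hzcard
    have hc1 : Nat.card ((P ⊓ Subgroup.normalizer
        ((Q.map (MulAut.conj x).toMonoidHom : Subgroup G) : Set G)).subgroupOf T') =
        Nat.card (P ⊓ Subgroup.normalizer
        ((Q.map (MulAut.conj x).toMonoidHom : Subgroup G) : Set G) : Subgroup G) :=
      Nat.card_congr (Subgroup.subgroupOfEquivOfLe hR'T').toEquiv
    have heq : (P ⊓ Subgroup.normalizer
        ((Q.map (MulAut.conj x).toMonoidHom : Subgroup G) : Set G)).subgroupOf T' = D' :=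
      Subgroup.eq_of_le_of_card_ge hD'le (by omega)
    rw [heq]
    exact hD'

end

end Cfsg.Agent.Lib.Helper8
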