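import Mathlib
import Cfsg.Prelude.Def_Blocks
import Cfsg.Prelude.Def_BrauerPairs
import Cfsg.Agent.Lib.Helper8.PairFull

/-!
# Centralizers in a maximal Brauer pair and defect groups of the blocks of `C_G(Q)` (S4661)
-/

set_option autoImplicit false
set_option linter.unusedSectionVars false

namespace Cfsg.Agent.Lib.Helper8

open Cfsg
open scoped ComplexConjugate
open Cfsg.Agent.Lib.Helper1 Cfsg.Agent.Lib.Helper4

universe u

section

variable {G : Type u} [Group G] [Fintype G] {M : Ideal AlgInt} {p : ℕ}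

/-- **Containment**: if `(Q, f) ≤ (P, e)` then `C_P(Q)` lies in a defect group of `f`. -/
theorem exists_defectGroup_ge_centralizer [Fact p.Prime] (hM : IsPModular p M)
    {P Q : Subgroup G} {e : Set (IrrCharacter (Subgroup.centralizer (P : Set G)))}
    {f : Set (IrrCharacter (Subgroup.centralizer (Q : Set G)))}
    (hPe : IsBrauerPair p M P e) (hQP : Q ≤ P) (hf : IsPBlock M f)
    (hle : SubpairLE p M Q f P e) :
    ∃ D : Subgroup (Subgroup.centralizer (Q : Set G)), IsDefectGroup p M f D ∧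
      (P ⊓ Subgroup.centralizer (Q : Set G)).subgroupOf (Subgroup.centralizer (Q : Set G)) ≤ D := by
  classical
  have hMp := isPModular_isPrime hM
  have : Fintype (Subgroup.centralizer (Q : Set G)) := Fintype.ofFinite _
  have hKN : Subgroup.centralizer (Q : Set G) ≤ Subgroup.normalizer (Q : Set G) :=
    Subgroup.centralizer_le_normalizer _
  have hCp : IsPGroup p (P ⊓ Subgroup.centralizer (Q : Set G) : Subgroup G) :=
    hPe.1.to_le inf_le_left
  obtain ⟨g, hnorm, _⟩ := exists_isNormalSubpair_of_subpairLE hM hPe hle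
    (R := Q ⊔ (P ⊓ Subgroup.centralizer (Q : Set G))) le_sup_left
    (sup_le hQP inf_le_left) (sup_le Subgroup.le_normalizer (inf_le_right.trans hKN))
  obtain ⟨c, hc, hu⟩ := exists_unit_of_isNormalSubpair hM Q _ hnorm
  have hcK : c ∈ Subgroup.centralizer (Q : Set G) :=
    Subgroup.centralizer_le (by exact_mod_cast (le_sup_left : Q ≤ Q ⊔ _)) hc
  rw [subgroupBlockCoeff_of_mem _ _ hcK] at hu
  obtain ⟨Df, hDf⟩ := exists_isDefectGroup (p := p) hMp hf
  obtain ⟨k, hk⟩ := (exists_unit_coeff_iff hM hf hDf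
    ((P ⊓ Subgroup.centralizer (Q : Set G)).subgroupOf (Subgroup.centralizer (Q : Set G)))
    hCp.comap_subtype).1
    ⟨⟨c, hcK⟩, (blockCoeff_spec hMp hf).2.1 _, hu, ⟨c, hcK⟩, IsConj.refl _, by
      rw [Subgroup.mem_centralizer_iff]
      intro u hu'
      apply Subtype.ext
      have hu'' : (u : G) ∈ (Q ⊔ (P ⊓ Subgroup.centralizer (Q : Set G)) : Subgroup G) :=
        (le_sup_right : (P ⊓ Subgroup.centralizer (Q : Set G) : Subgroup G) ≤ _)
          (Subgroup.mem_subgroupOf.1 hu')
      have := Subgroup.mem_centralizer_iff.1 hc (u : G) hu''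
      simpa using this⟩
  refine ⟨Df.map (MulAut.conj k⁻¹).toMonoidHom, isDefectGroup_map_conj hDf _, ?_⟩
  intro y hy
  have := hk ⟨y, hy, rfl⟩
  refine ⟨_, this, ?_⟩
  simp [mul_assoc]

/-- **Growth to a maximal pair, centralizer version.** -/
theorem exists_conj_card_le_centralizer [Fact p.Prime] (hM : IsPModular p M)
    {B : Set (IrrCharacter G)}
    {P Q : Subgroup G} {e : Set (IrrCharacter (Subgroup.centralizer (P : Set G)))}
    {f : Set (IrrCharacter (Subgroup.centralizer (Q : Set G)))}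
    (hmax : IsMaximalBrauerPair p M B P e) (hQf : IsBrauerPairOf p M B Q f)
    {D : Subgroup (Subgroup.centralizer (Q : Set G))} (hD : IsDefectGroup p M f D) :
    ∃ z : G, Relation.ReflTransGen (NormalSubpairRel p M) (pairConj z ⟨Q, f⟩) ⟨P, e⟩ ∧
      Nat.card D ≤ Nat.card (P ⊓ Subgroup.centralizer
        ((Q.map (MulAut.conj z).toMonoidHom : Subgroup G) : Set G) : Subgroup G) := by
  classical
  have hMp := isPModular_isPrime hM
  have : Fintype (Subgroup.centralizer (Q : Set G)) := Fintype.ofFinite _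
  have hQ : IsPGroup p Q := hQf.1.1
  have hf : IsPBlock M f := hQf.1.2
  have hB : IsPBlock M B := hQf.2.1
  have hKN : Subgroup.centralizer (Q : Set G) ≤ Subgroup.normalizer (Q : Set G) :=
    Subgroup.centralizer_le_normalizer _
  have hDp : IsPGroup p D := isPGroup_of_isDefectGroup hD
  obtain ⟨D'', hD''def⟩ : ∃ D'' : Subgroup G,
    D'' = D.map (Subgroup.centralizer (Q : Set G)).subtype := ⟨_, rfl⟩
  have hD''p : IsPGroup p D'' := by
    rw [hD''def]
    exact hDp.map _
  have hD''K : D'' ≤ Subgroup.centralizer (Q : Set G) := by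
    rw [hD''def]
    rintro _ ⟨y, _, rfl⟩
    exact y.2
  have hD''card : Nat.card D'' = Nat.card D := by
    rw [hD''def]
    exact Subgroup.card_map_of_injective (Subgroup.subtype_injective _)
  have hRp : IsPGroup p (Q ⊔ D'' : Subgroup G) :=
    IsPGroup.to_sup_of_normal_left' hQ hD''p (hD''K.trans hKN)
  have hRN : Q ⊔ D'' ≤ Subgroup.normalizer (Q : Set G) :=
    sup_le Subgroup.le_normalizer (hD''K.trans hKN)
  have hRst : ∀ x ∈ Q ⊔ D'', StabilizesBlock (Subgroup.centralizer (Q : Set G)) f x := by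
    have hle : Q ⊔ D'' ≤ pairStab (Subgroup.normalizer (Q : Set G))
        (Subgroup.centralizer (Q : Set G)) f := by
      apply sup_le
      · intro x hx
        exact ⟨Subgroup.le_normalizer hx, stabilizesBlock_of_centralizes _ f
          (fun k hk => (Subgroup.mem_centralizer_iff.1 hk) x hx)⟩
      · intro x hx
        exact ⟨hKN (hD''K hx), stabilizesBlock_of_mem _ f (hD''K hx)⟩
    intro x hx
    exact (hle hx).2
  obtain ⟨g₀, _, hg₀u, c, hgc, hc⟩ := (exists_unit_coeff_iff hM hf hD D hDp).2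
    ⟨1, by
      intro y hy
      obtain ⟨z, hz, rfl⟩ := hy
      simpa using hz⟩
  have hcu : ¬ MemLocalIdeal M (blockCoeff f c) := by
    obtain ⟨s, hs⟩ := isConj_iff.1 hgc
    rw [← hs, isClassFunction_blockCoeff f g₀ s]
    exact hg₀u
  have hcR : (c : G) ∈ Subgroup.centralizer ((Q ⊔ D'' : Subgroup G) : Set G) := by
    have hle : Q ⊔ D'' ≤ Subgroup.centralizer ({(c : G)} : Set G) := by
      apply sup_le
      · intro x hx
        rw [Subgroup.mem_centralizer_singleton_iff]
        exact Subgroup.mem_centralizer_iff.1 c.2 x hx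
      · intro x hx
        rw [hD''def] at hx
        obtain ⟨y, hy, rfl⟩ := hx
        rw [Subgroup.mem_centralizer_singleton_iff]
        have := Subgroup.mem_centralizer_iff.1 hc y hy
        exact congrArg Subtype.val this
    rw [Subgroup.mem_centralizer_iff]
    intro r hr
    have := hle hr
    rw [Subgroup.mem_centralizer_singleton_iff] at this
    exact this
  obtain ⟨g, hg⟩ := exists_isNormalSubpair_of_unit hM Q (Q ⊔ D'') hQf.1 hRp le_sup_left hRN hRst hcR
    (by rw [subgroupBlockCoeff_of_mem _ _ c.2]; exact hcu)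
  have hRg : IsBrauerPairOf p M B (Q ⊔ D'') g :=
    (Cfsg.Agent.S4658.result p M hM _ Q g f hg.2.1 hg.1 (Relation.ReflTransGen.single hg) B hB).2
      hQf
  obtain ⟨z, hz⟩ := exists_conj_subpairLE hM hmax hRg
  refine ⟨z, ?_, ?_⟩
  · exact Relation.ReflTransGen.head (normalSubpairRel_pairConj z
      (show NormalSubpairRel p M ⟨Q, f⟩ ⟨Q ⊔ D'', g⟩ from hg)) hz
  · have h1 : (Q ⊔ D'').map (MulAut.conj z).toMonoidHom ≤ P := subpairLE_le hz
    have h2 : D''.map (MulAut.conj z).toMonoidHom ≤ P :=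
      (Subgroup.map_mono le_sup_right).trans h1
    have h3 : D''.map (MulAut.conj z).toMonoidHom ≤ Subgroup.centralizer
        ((Q.map (MulAut.conj z).toMonoidHom : Subgroup G) : Set G) := by
      rintro _ ⟨u, hu, rfl⟩
      rw [mem_centralizer_map_conj]
      have : z⁻¹ * ((MulAut.conj z).toMonoidHom u) * z = u := by
        simp [mul_assoc]
      rw [this]
      exact hD''K hu
    have h4 := Subgroup.card_le_of_le (le_inf h2 h3)
    rw [Subgroup.card_map_of_injective (MulAut.conj z).injective, hD''card] at h4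
    exact h4

/-- **S4661.** -/
theorem centralizer_defectGroup_of_subpairLE [Fact p.Prime] (hM : IsPModular p M)
    {B : Set (IrrCharacter G)}
    {P Q : Subgroup G} {e : Set (IrrCharacter (Subgroup.centralizer (P : Set G)))}
    {f : Set (IrrCharacter (Subgroup.centralizer (Q : Set G)))}
    (hmax : IsMaximalBrauerPair p M B P e) (hQP : Q ≤ P) (hf : IsPBlock M f)
    (hle : SubpairLE p M Q f P e) :
    (∃ D : Subgroup (Subgroup.centralizer (Q : Set G)), IsDefectGroup p M f D ∧
      (P ⊓ Subgroup.centralizer (Q : Set G)).subgroupOf (Subgroup.centralizer (Q : Set G)) ≤ D) ∧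
    ∃ x : G, SubpairLE p M (Q.map (MulAut.conj x).toMonoidHom) (conjBlock Q x f) P e ∧
      IsDefectGroup p M (conjBlock Q x f)
        ((P ⊓ Subgroup.centralizer ((Q.map (MulAut.conj x).toMonoidHom) : Set G)).subgroupOf
          (Subgroup.centralizer ((Q.map (MulAut.conj x).toMonoidHom) : Set G))) := by
  classical
  have hMp := isPModular_isPrime hM
  have hPe : IsBrauerPair p M P e := hmax.1.1
  have hB : IsPBlock M B := hmax.1.2.1
  have hQ : IsPGroup p Q := hPe.1.to_le hQP
  have hBQf : IsBrauerPairOf p M B Q f :=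
    (Cfsg.Agent.S4658.result p M hM P Q e f hPe ⟨hQ, hf⟩ hle B hB).1 hmax.1
  refine ⟨exists_defectGroup_ge_centralizer hM hPe hQP hf hle, ?_⟩
  let S : Set G := {x | Relation.ReflTransGen (NormalSubpairRel p M) (pairConj x ⟨Q, f⟩) ⟨P, e⟩}
  obtain ⟨x₀, hx₀⟩ := exists_conj_subpairLE hM hmax hBQf
  have hSne : Nonempty S := ⟨⟨x₀, hx₀⟩⟩
  obtain ⟨⟨x, hxS⟩, hxmax⟩ := Finite.exists_max (fun x : S =>
    Nat.card (P ⊓ Subgroup.centralizer
      ((Q.map (MulAut.conj (x : G)).toMonoidHom : Subgroup G) : Set G) : Subgroup G))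
  refine ⟨x, hxS, ?_⟩
  have hQ'f' : IsBrauerPairOf p M B (Q.map (MulAut.conj x).toMonoidHom) (conjBlock Q x f) :=
    isBrauerPairOf_conj x hBQf
  have hle' : SubpairLE p M (Q.map (MulAut.conj x).toMonoidHom) (conjBlock Q x f) P e := hxS
  have hQ'P : Q.map (MulAut.conj x).toMonoidHom ≤ P := subpairLE_le hle'
  obtain ⟨D', hD', hD'le⟩ := exists_defectGroup_ge_centralizer hM hPe hQ'P hQ'f'.1.2 hle'
  obtain ⟨z, hz, hzcard⟩ := exists_conj_card_le_centralizer hM hmax hQ'f' hD'
  have hzx : z * x ∈ S := by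
    show Relation.ReflTransGen (NormalSubpairRel p M) (pairConj (z * x) ⟨Q, f⟩) ⟨P, e⟩
    rw [pairConj_mul]
    exact hz
  have hmx := hxmax ⟨z * x, hzx⟩
  simp only at hmx
  rw [map_conj_map_conj] at hzcard
  have hc1 : Nat.card ((P ⊓ Subgroup.centralizer
      ((Q.map (MulAut.conj x).toMonoidHom : Subgroup G) : Set G)).subgroupOf
        (Subgroup.centralizer ((Q.map (MulAut.conj x).toMonoidHom : Subgroup G) : Set G))) =
      Nat.card (P ⊓ Subgroup.centralizer
      ((Q.map (MulAut.conj x).toMonoidHom : Subgroup G) : Set G) : Subgroup G) :=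
    Nat.card_congr (Subgroup.subgroupOfEquivOfLe inf_le_right).toEquiv
  have heq : (P ⊓ Subgroup.centralizer
      ((Q.map (MulAut.conj x).toMonoidHom : Subgroup G) : Set G)).subgroupOf
        (Subgroup.centralizer ((Q.map (MulAut.conj x).toMonoidHom : Subgroup G) : Set G)) = D' :=
    Subgroup.eq_of_le_of_card_ge hD'le (by omega)
  rw [heq]
  exact hD'

end

end Cfsg.Agent.Lib.Helper8
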