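import Mathlib
import Cfsg.Prelude.Def_Blocks
import Cfsg.Prelude.Def_BrauerPairs
import Cfsg.Prelude.Def_BlockFusion
import Cfsg.Agent.Lib.Helper8.PairFullC

/-!
# The fusion system of a block: conjugacy of subgroups in terms of Brauer pairs
-/

set_option autoImplicit false
set_option linter.unusedSectionVars false

namespace Cfsg.Agent.Lib.Helper8

open Cfsg
open scoped ComplexConjugate
open Cfsg.Agent.Lib.Helper1 Cfsg.Agent.Lib.Helper4

universe u

section

variable {G : Type u} [Group G] [Fintype G] {M : Ideal AlgInt} {p : ℕ} [Fact p.Prime]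

omit [Fintype G] [Fact p.Prime] in
theorem range_conjHom (Q : Subgroup G) (x : G) :
    (conjHom Q x).range = Q.map (MulAut.conj x).toMonoidHom := by
  unfold conjHom
  rw [MonoidHom.range_eq_map, ← Subgroup.map_map, ← MonoidHom.range_eq_map, Subgroup.range_subtype]

/-- A conjugate pair below the maximal pair gives a conjugate subgroup in the fusion system. -/
theorem isConj_of_subpairLE {B : Set (IrrCharacter G)} {P : Subgroup G}
    {e : Set (IrrCharacter (Subgroup.centralizer (P : Set G)))} {F : FusionSystem P}
    (hF : IsBlockFusionSystemOn p M B P e F) {Q : Subgroup G}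
    {f : Set (IrrCharacter (Subgroup.centralizer (Q : Set G)))}
    (hle : SubpairLE p M Q f P e) {x : G}
    (hlex : SubpairLE p M (Q.map (MulAut.conj x).toMonoidHom) (conjBlock Q x f) P e) :
    F.IsConj Q (Q.map (MulAut.conj x).toMonoidHom) := by
  refine ⟨conjHom Q x, ?_, range_conjHom Q x⟩
  rw [hF.2]
  exact ⟨subpairLE_le hle, x, fun u => rfl, subpairLE_le hlex, f, hle, hlex⟩

/-- Conjugate subgroups in the fusion system of a block come from conjugate pairs below the
maximal pair. -/
theorem exists_of_isConj (hM : IsPModular p M) {B : Set (IrrCharacter G)} {P : Subgroup G}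
    {e : Set (IrrCharacter (Subgroup.centralizer (P : Set G)))} {F : FusionSystem P}
    (hF : IsBlockFusionSystemOn p M B P e F) {Q : Subgroup G}
    {f : Set (IrrCharacter (Subgroup.centralizer (Q : Set G)))}
    (hle : SubpairLE p M Q f P e) {Q' : Subgroup G} (h : F.IsConj Q Q') :
    ∃ g : G, Q' = Q.map (MulAut.conj g).toMonoidHom ∧
      SubpairLE p M (Q.map (MulAut.conj g).toMonoidHom) (conjBlock Q g f) P e := by
  obtain ⟨φ, hφ, hrange⟩ := h
  rw [hF.2] at hφ
  obtain ⟨_, g, hφg, _, f', hle', hleg⟩ := hφ
  have hPe : IsBrauerPair p M P e := hF.1.1.1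
  have hff : f' = f :=
    subpairLE_unique hM (Nat.card P) ⟨P, e⟩ hPe le_rfl Q f' f hle' hle
  subst hff
  refine ⟨g, ?_, hleg⟩
  rw [← hrange, ← range_conjHom]
  congr 1
  ext u
  exact hφg u

omit [Fintype G] [Fact p.Prime] in
theorem card_centralizerIn (P Q : Subgroup G) :
    Nat.card (FusionSystem.centralizerIn P Q) =
      Nat.card ((P ⊓ Subgroup.centralizer (Q : Set G)).subgroupOf
        (Subgroup.centralizer (Q : Set G))) := by
  unfold FusionSystem.centralizerIn
  exact (Nat.card_congr (Subgroup.subgroupOfEquivOfLe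
    (inf_le_right : P ⊓ Subgroup.centralizer (Q : Set G) ≤ Subgroup.centralizer (Q : Set G))).toEquiv).symm

/-- Defect groups of a block of `C_G(Q)` and of a conjugate block have the same order. -/
theorem card_defectGroup_conjBlock (hM : IsPModular p M) {Q : Subgroup G}
    {f : Set (IrrCharacter (Subgroup.centralizer (Q : Set G)))} (hf : IsPBlock M f) (x : G)
    {D : Subgroup (Subgroup.centralizer (Q : Set G))} (hD : IsDefectGroup p M f D)
    {D' : Subgroup (Subgroup.centralizer
      ((Q.map (MulAut.conj x).toMonoidHom : Subgroup G) : Set G))}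
    (hD' : IsDefectGroup p M (conjBlock Q x f) D') : Nat.card D' = Nat.card D := by
  have h1 := isDefectGroup_image_irrMap (centConj Q x) hD
  rw [← conjBlock_eq_image] at h1
  have hf' : IsPBlock M (conjBlock Q x f) := by
    rw [conjBlock_eq_image]
    exact isPBlock_image_irrMap _ hf
  rw [card_of_isDefectGroup hM hf' hD', ← card_of_isDefectGroup hM hf' h1]
  exact Subgroup.card_map_of_injective (centConj Q x).injective

end

end Cfsg.Agent.Lib.Helper8
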