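import Mathlib
import Cfsg.Prelude.Def_Blocks
import Cfsg.Prelude.Def_BrauerPairs
import Cfsg.Prelude.Def_BlockFusion
import Cfsg.Agent.Lib.Helper8.PairFusion

/-!
# Stabilizers of conjugate Brauer pairs
-/

set_option autoImplicit false
set_option linter.unusedSectionVars false

namespace Cfsg.Agent.Lib.Helper8

open Cfsg
open scoped ComplexConjugate
open Cfsg.Agent.Lib.Helper1 Cfsg.Agent.Lib.Helper4

universe u

section

variable {G : Type u} [Group G] [Fintype G] {M : Ideal AlgInt} {p : ℕ}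

/-- The stabilizer of a Brauer pair (as an index). -/
def pairStabOf (a : BrauerPairIdx G) : Subgroup G :=
  pairStab (Subgroup.normalizer (a.1 : Set G)) (Subgroup.centralizer (a.1 : Set G)) a.2

omit [Fintype G] in
theorem pairConj_one (a : BrauerPairIdx G) : pairConj 1 a = a := by
  obtain ⟨Q, f⟩ := a
  show (⟨Q.map (MulAut.conj 1).toMonoidHom, conjBlock Q 1 f⟩ : BrauerPairIdx G) = ⟨Q, f⟩
  apply pairIdx_mk_ext
  · ext y
    simp
  · intro ξ hξ
    rw [conjBlock_eq_image] at hξ
    obtain ⟨ξ₀, hξ₀, rfl⟩ := hξ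
    refine ⟨ξ₀, hξ₀, ?_⟩
    intro g hg hg'
    rw [irrMap_apply]
    apply congrArg
    apply Subtype.ext
    rw [centConj_symm_apply_coe]
    simp
  · intro ξ₀ hξ₀
    refine ⟨irrMap (centConj Q 1) ξ₀, ?_, ?_⟩
    · rw [conjBlock_eq_image]
      exact ⟨ξ₀, hξ₀, rfl⟩
    · intro g hg hg'
      rw [irrMap_apply]
      apply congrArg
      apply Subtype.ext
      rw [centConj_symm_apply_coe]
      simp

theorem conj_mem_pairStabOf (x : G) (a : BrauerPairIdx G) {y : G} (hy : y ∈ pairStabOf a) :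
    x * y * x⁻¹ ∈ pairStabOf (pairConj x a) := by
  obtain ⟨Q, f⟩ := a
  obtain ⟨hyN, hyS⟩ := hy
  refine ⟨?_, stabilizesBlock_conj x hyS⟩
  have : x * y * x⁻¹ ∈ (Subgroup.normalizer (Q : Set G)).map (MulAut.conj x).toMonoidHom :=
    ⟨y, hyN, rfl⟩
  exact Subgroup.le_normalizer_map _ this

theorem conj_mem_pairStabOf_iff (x : G) (a : BrauerPairIdx G) (y : G) :
    x * y * x⁻¹ ∈ pairStabOf (pairConj x a) ↔ y ∈ pairStabOf a := by
  refine ⟨fun h => ?_, conj_mem_pairStabOf x a⟩
  have h1 := conj_mem_pairStabOf x⁻¹ _ h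
  rw [← pairConj_mul, inv_mul_cancel, pairConj_one] at h1
  have : x⁻¹ * (x * y * x⁻¹) * x⁻¹⁻¹ = y := by group
  rwa [this] at h1

/-- Conjugation by `x` as an isomorphism between the stabilizers of a pair and its conjugate. -/
def stabConj (x : G) (a : BrauerPairIdx G) : pairStabOf a ≃* pairStabOf (pairConj x a) where
  toFun c := ⟨x * c * x⁻¹, conj_mem_pairStabOf x a c.2⟩
  invFun c := ⟨x⁻¹ * c * x, by
    rw [← conj_mem_pairStabOf_iff x a]
    have : x * (x⁻¹ * (c : G) * x) * x⁻¹ = c := by group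
    rw [this]
    exact c.2⟩
  left_inv c := by
    apply Subtype.ext
    simp [mul_assoc]
  right_inv c := by
    apply Subtype.ext
    simp [mul_assoc]
  map_mul' a b := by
    apply Subtype.ext
    show x * ((a * b : pairStabOf _) : G) * x⁻¹ = (x * (a : G) * x⁻¹) * (x * (b : G) * x⁻¹)
    rw [Subgroup.coe_mul]
    group

@[simp] theorem stabConj_apply_coe (x : G) (a : BrauerPairIdx G) (c : pairStabOf a) :
    ((stabConj x a c : _) : G) = x * c * x⁻¹ := rfl

@[simp] theorem stabConj_symm_apply_coe (x : G) (a : BrauerPairIdx G)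
    (c : pairStabOf (pairConj x a)) : (((stabConj x a).symm c : _) : G) = x⁻¹ * c * x := rfl

/-- Transport of the block of the stabilizer with the idempotent of `f`. -/
theorem stab_block_conj (x : G) (Q : Subgroup G)
    (f : Set (IrrCharacter (Subgroup.centralizer (Q : Set G))))
    {F : Set (IrrCharacter (pairStabOf (⟨Q, f⟩ : BrauerPairIdx G)))} (hF : IsPBlock M F)
    (hFe : ∀ t : pairStabOf (⟨Q, f⟩ : BrauerPairIdx G), blockCoeff F t =
      subgroupBlockCoeff (Subgroup.centralizer (Q : Set G)) f (t : G)) :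
    IsPBlock M (irrMap (stabConj x ⟨Q, f⟩) '' F) ∧
    ∀ t : pairStabOf (pairConj x (⟨Q, f⟩ : BrauerPairIdx G)),
      blockCoeff (irrMap (stabConj x ⟨Q, f⟩) '' F) t =
      subgroupBlockCoeff (Subgroup.centralizer
        ((Q.map (MulAut.conj x).toMonoidHom : Subgroup G) : Set G)) (conjBlock Q x f) (t : G) := by
  refine ⟨isPBlock_image_irrMap _ hF, ?_⟩
  intro t
  rw [blockCoeff_image_irrMap, hFe, stabConj_symm_apply_coe, ← subgroupBlockCoeff_conjBlock x Q f]
  congr 1
  group

end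

end Cfsg.Agent.Lib.Helper8
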