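import Mathlib
import Cfsg.Prelude.Def_Blocks
import Cfsg.Prelude.Def_BlockRank
import Cfsg.Agent.Lib.Helper8.Sub5

/-!
# The set of blocks of a finite group and the orthogonal decomposition on `p`-regular elements
-/

set_option autoImplicit false

namespace Cfsg.Agent.Lib.Helper8

open Cfsg
open scoped ComplexConjugate
open Cfsg.Agent.Lib.Helper1 Cfsg.Agent.Lib.Helper4

universe u

section

variable {H : Type u} [Group H] {M : Ideal AlgInt} {p : ℕ}

theorem finite_setOf_isPBlock [Finite H] : {b : Set (IrrCharacter H) | IsPBlock M b}.Finite := by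
  have : {b : Set (IrrCharacter H) | IsPBlock M b} =
      Set.range (fun ψ : IrrCharacter H => blockOf M (ψ : H → ℂ)) := by
    ext b
    constructor
    · rintro ⟨ψ, rfl⟩
      exact ⟨ψ, rfl⟩
    · rintro ⟨ψ, rfl⟩
      exact ⟨ψ, rfl⟩
  rw [this]
  exact Set.finite_range _

/-- The finite set of the blocks of `H`. -/
noncomputable def blocksFinset (M : Ideal AlgInt) (H : Type u) [Group H] [Finite H] :
    Finset (Set (IrrCharacter H)) :=
  (finite_setOf_isPBlock (H := H) (M := M)).toFinset

theorem mem_blocksFinset [Finite H] (b : Set (IrrCharacter H)) :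
    b ∈ blocksFinset M H ↔ IsPBlock M b := by
  unfold blocksFinset
  rw [Set.Finite.mem_toFinset]
  rfl

/-- The block parts of a class function sum to it. -/
theorem sum_blocks_blockPart [Fintype H] (hM : M.IsPrime) {ϑ : H → ℂ} (hϑ : IsClassFunction H ϑ)
    (c : H) : ∑ b ∈ blocksFinset M H, blockPart b ϑ c = ϑ c := by
  classical
  have : Fintype (IrrCharacter H) := Fintype.ofFinite _
  simp_rw [blockPart_eq_sum]
  rw [Finset.sum_comm]
  have h2 := congrFun (class_function_expansion ϑ hϑ) c
  rw [Finset.sum_apply] at h2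
  conv_rhs => rw [h2]
  refine Finset.sum_congr rfl fun ψ _ => ?_
  rw [← Finset.sum_mul, Pi.smul_apply, smul_eq_mul]
  have h3 : ∑ b ∈ blocksFinset M H, (by classical exact if ψ ∈ b then (1 : ℂ) else 0) = (1 : ℂ) := by
    rw [Finset.sum_eq_single (blockOf M (ψ : H → ℂ))]
    · have : ψ ∈ blockOf M (ψ : H → ℂ) := sameBlock_refl hM.ne_top _
      simp only [this, if_true]
    · intro b hb hne
      rw [mem_blocksFinset] at hb
      have : ψ ∉ b := fun h => hne (eq_blockOf_of_mem hM hb h)
      simp only [this, if_false]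
    · intro h
      exact absurd ((mem_blocksFinset _).2 ⟨ψ, rfl⟩) h
  rw [h3, one_mul]

/-- **Orthogonal decomposition**: the squared norm on the `p`-regular elements of a class function
is the sum of the squared norms of its block parts. -/
theorem sum_blocks_normSq [Fintype H] (hM : IsPModular p M) {ϑ : H → ℂ}
    (hϑ : IsClassFunction H ϑ) :
    ∑ b ∈ blocksFinset M H, ∑ c : H, Complex.normSq (pRegularPart p (blockPart b ϑ) c) =
      ∑ c : H, Complex.normSq (pRegularPart p ϑ c) := by
  classical
  have hMp := isPModular_isPrime hM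
  have key : ∀ b ∈ blocksFinset M H,
      ((∑ c : H, Complex.normSq (pRegularPart p (blockPart b ϑ) c) : ℝ) : ℂ) =
      ∑ c : H, ϑ c * conj (pRegularPart p (blockPart b ϑ) c) := by
    intro b hb
    rw [mem_blocksFinset] at hb
    have h1 := sum_sub_blockPart_mul_conj_eq_zero hM hb hϑ (pRegularPart_blockPart_mem (p := p) b ϑ)
    simp_rw [sub_mul] at h1
    rw [Finset.sum_sub_distrib, sub_eq_zero] at h1
    rw [h1, Complex.ofReal_sum]
    refine Finset.sum_congr rfl fun c _ => ?_
    rw [Complex.mul_conj]
  have h2 : ((∑ b ∈ blocksFinset M H, ∑ c : H,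
      Complex.normSq (pRegularPart p (blockPart b ϑ) c) : ℝ) : ℂ) =
      ((∑ c : H, Complex.normSq (pRegularPart p ϑ c) : ℝ) : ℂ) := by
    rw [Complex.ofReal_sum, Finset.sum_congr rfl key, Finset.sum_comm, Complex.ofReal_sum]
    refine Finset.sum_congr rfl fun c _ => ?_
    rw [← Finset.mul_sum, ← map_sum]
    have h3 : ∑ b ∈ blocksFinset M H, pRegularPart p (blockPart b ϑ) c = pRegularPart p ϑ c := by
      by_cases hc : p ∣ orderOf c
      · rw [pRegularPart_of_dvd _ hc]
        apply Finset.sum_eq_zero
        intro b _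
        rw [pRegularPart_of_dvd _ hc]
      · rw [pRegularPart_of_not_dvd _ hc, ← sum_blocks_blockPart hMp hϑ c]
        refine Finset.sum_congr rfl fun b _ => ?_
        rw [pRegularPart_of_not_dvd _ hc]
    rw [h3]
    by_cases hc : p ∣ orderOf c
    · rw [pRegularPart_of_dvd _ hc]; simp
    · rw [pRegularPart_of_not_dvd _ hc, Complex.mul_conj]
  exact_mod_cast h2

end

end Cfsg.Agent.Lib.Helper8
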