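import Mathlib
import Cfsg.Prelude.Def_Blocks
import Cfsg.Prelude.Def_BlockRank
import Cfsg.Agent.Lib.Helper8.BlockRank2
import Cfsg.Agent.Lib.Helper8.Sub10
import Cfsg.Agent.Lib.Helper8.BlockMinMax

/-!
# The `p`-regular rank and the cardinality of a union of blocks
-/

set_option autoImplicit false

namespace Cfsg.Agent.Lib.Helper8.KR

open Cfsg Cfsg.Agent.Lib.Helper8
open scoped ComplexConjugate
open Cfsg.Agent.Lib.Helper1 Cfsg.Agent.Lib.Helper4

universe u

section

variable {G : Type u} [Group G] [Fintype G] {M : Ideal AlgInt} {p : ℕ}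

/-- The `p`-regular rank of a union of blocks, as a sum over the `p`-regular elements. -/
theorem card_mul_blockRank_closed (hM : IsPModular p M) {B : Set (IrrCharacter G)}
    (hB : ∀ χ ∈ B, ∀ ψ : IrrCharacter G, SameBlock M (χ : G → ℂ) (ψ : G → ℂ) → ψ ∈ B) :
    (Nat.card G : ℂ) * (blockRank p B : ℂ)
      = ∑ x : G, ∑ᶠ χ ∈ B, pRegularPart p (χ : G → ℂ) x * (χ : G → ℂ) x⁻¹ := by
  classical
  have : Fintype (IrrCharacter G) := Fintype.ofFinite _
  have hMp := isPModular_isPrime hM
  have hG0 : (Nat.card G : ℂ) ≠ 0 := Nat.cast_ne_zero.2 Nat.card_pos.ne'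
  set W : Submodule ℂ (G → ℂ) :=
    Submodule.span ℂ ((fun χ : IrrCharacter G => pRegularPart p (χ : G → ℂ)) '' B) with hW
  let f : (G → ℂ) →ₗ[ℂ] (G → ℂ) := pRegL p G ∘ₗ blockProjL B
  have hf_apply : ∀ θ : G → ℂ, f θ = ∑ ψ : IrrCharacter G,
      ((if ψ ∈ B then (1 : ℂ) else 0) * classInner θ (ψ : G → ℂ)) •
        pRegularPart p (ψ : G → ℂ) := by
    intro θ
    show pRegL p G (blockProjL B θ) = _
    rw [blockProjL_apply, map_sum]
    refine Finset.sum_congr rfl fun ψ _ => ?_
    rw [map_smul, pRegL_apply]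
  have hproj : LinearMap.IsProj W f := by
    constructor
    · intro θ
      rw [hf_apply]
      apply Submodule.sum_mem
      intro ψ _
      by_cases hψ : ψ ∈ B
      · apply Submodule.smul_mem
        exact Submodule.subset_span ⟨ψ, hψ, rfl⟩
      · rw [if_neg hψ, zero_mul, zero_smul]
        exact Submodule.zero_mem _
    · intro w hw
      induction hw using Submodule.span_induction with
      | mem w hw =>
        obtain ⟨χ, hχ, rfl⟩ := hw
        show pRegL p G (blockProjL B (pRegularPart p (χ : G → ℂ))) = pRegularPart p (χ : G → ℂ)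
        have h1 : blockProjL B (pRegularPart p (χ : G → ℂ)) = pRegularPart p (χ : G → ℂ) := by
          rw [blockProjL_apply]
          conv_rhs => rw [pRegularPart_eq_sum_block hM χ]
          refine Finset.sum_congr rfl fun ψ _ => ?_
          by_cases hs : SameBlock M (χ : G → ℂ) (ψ : G → ℂ)
          · rw [if_pos hs, if_pos (hB χ hχ ψ hs), one_mul]
          · rw [if_neg hs, classInner_pRegularPart_eq_zero hM hs, mul_zero]
        rw [h1, pRegL_apply, pRegularPart_pRegularPart]
      | zero => exact map_zero f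
      | add a b _ _ ha hb => rw [map_add, ha, hb]
      | smul c a _ ha => rw [map_smul, ha]
  have htrace := hproj.trace
  have hrank : blockRank p B = Module.finrank ℂ W := rfl
  rw [hrank, ← htrace]
  rw [LinearMap.trace_eq_matrix_trace ℂ (Pi.basisFun ℂ G) f, Matrix.trace, Finset.mul_sum]
  refine Finset.sum_congr rfl fun x _ => ?_
  rw [Matrix.diag_apply, LinearMap.toMatrix_apply, Pi.basisFun_repr, Pi.basisFun_apply, hf_apply,
    Finset.sum_apply, finsum_mem_eq_sum_indicator, Finset.mul_sum]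
  refine Finset.sum_congr rfl fun ψ _ => ?_
  rw [Pi.smul_apply, smul_eq_mul]
  have h2 : classInner (Pi.single x (1 : ℂ)) (ψ : G → ℂ)
      = (Nat.card G : ℂ)⁻¹ * conj ((ψ : G → ℂ) x) := by
    rw [classInner_def]
    congr 1
    rw [Finset.sum_eq_single x]
    · rw [Pi.single_eq_same, one_mul]
    · intro y _ hy
      rw [Pi.single_eq_of_ne hy, zero_mul]
    · intro h
      exact absurd (Finset.mem_univ _) h
  rw [h2, isCharacter_inv (isCharacter_of_irr ψ.2)]
  field_simp

/-- The union of the blocks satisfying `P`. -/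
def unionOf (P : Set (IrrCharacter G) → Prop) : Set (IrrCharacter G) :=
  {ψ | ∃ β : Set (IrrCharacter G), ψ ∈ β ∧ P β}

omit [Fintype G] in
theorem unionOf_eq_sUnion (P : Set (IrrCharacter G) → Prop) :
    unionOf P = ⋃₀ {β | P β} := by
  ext ψ
  unfold unionOf
  rw [Set.mem_sUnion]
  constructor
  · rintro ⟨β, h1, h2⟩
    exact ⟨β, h2, h1⟩
  · rintro ⟨β, h2, h1⟩
    exact ⟨β, h1, h2⟩

theorem pairwiseDisjoint_blocks (hM : M.IsPrime) {P : Set (IrrCharacter G) → Prop}
    (hP : ∀ β, P β → IsPBlock M β) : ({β | P β} : Set (Set (IrrCharacter G))).PairwiseDisjoint id := by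
  intro β hβ β' hβ' hne
  rw [Function.onFun, id, id, Set.disjoint_left]
  intro χ h1 h2
  apply hne
  rw [eq_blockOf_of_mem hM (hP β hβ) h1, eq_blockOf_of_mem hM (hP β' hβ') h2]

theorem blockRank_unionOf (hM : IsPModular p M) {P : Set (IrrCharacter G) → Prop}
    (hP : ∀ β, P β → IsPBlock M β) :
    blockRank p (unionOf P) = ∑ᶠ β ∈ {β | P β}, blockRank p β := by
  classical
  have : Finite (IrrCharacter G) := inferInstance
  have hMp := isPModular_isPrime hM
  have hG0 : (Nat.card G : ℂ) ≠ 0 := Nat.cast_ne_zero.2 Nat.card_pos.ne'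
  have hfin : ({β | P β} : Set (Set (IrrCharacter G))).Finite :=
    (finite_setOf_isPBlock (M := M)).subset (fun β hβ => hP β hβ)
  have hclosed : ∀ χ ∈ unionOf P, ∀ ψ : IrrCharacter G,
      SameBlock M (χ : G → ℂ) (ψ : G → ℂ) → ψ ∈ unionOf P := by
    rintro χ ⟨β, hχ, hβ⟩ ψ hs
    refine ⟨β, ?_, hβ⟩
    rw [eq_blockOf_of_mem hMp (hP β hβ) hχ]
    exact hs
  have h1 := card_mul_blockRank_closed hM hclosed
  apply Nat.cast_injective (R := ℂ)
  apply mul_left_cancel₀ hG0
  rw [h1, Nat.cast_finsum_mem hfin, mul_finsum_mem]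
  have h2 : ∀ β ∈ {β | P β}, (Nat.card G : ℂ) * (blockRank p β : ℂ) =
      ∑ x : G, ∑ᶠ χ ∈ β, pRegularPart p (χ : G → ℂ) x * (χ : G → ℂ) x⁻¹ :=
    fun β hβ => card_mul_blockRank hM (hP β hβ)
  rw [finsum_mem_congr rfl h2]
  rw [finsum_mem_eq_finite_toFinset_sum _ hfin, Finset.sum_comm]
  refine Finset.sum_congr rfl fun x _ => ?_
  rw [unionOf_eq_sUnion, finsum_mem_sUnion (pairwiseDisjoint_blocks hMp hP) hfin
    (fun β _ => Set.toFinite β), finsum_mem_eq_finite_toFinset_sum _ hfin]

theorem card_unionOf (hM : M.IsPrime) {P : Set (IrrCharacter G) → Prop}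
    (hP : ∀ β, P β → IsPBlock M β) :
    Nat.card (unionOf P) = ∑ᶠ β ∈ {β | P β}, Nat.card β := by
  classical
  have : Finite (IrrCharacter G) := inferInstance
  have hfin : ({β | P β} : Set (Set (IrrCharacter G))).Finite :=
    (finite_setOf_isPBlock (M := M)).subset (fun β hβ => hP β hβ)
  rw [Nat.card_coe_set_eq, unionOf_eq_sUnion, Set.sUnion_eq_biUnion,
    Set.Finite.ncard_biUnion hfin (fun β _ => Set.toFinite β) (pairwiseDisjoint_blocks hM hP)]
  exact finsum_mem_congr rfl fun β _ => (Nat.card_coe_set_eq β).symm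

end

end Cfsg.Agent.Lib.Helper8.KR
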