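import Mathlib
import Cfsg.Prelude.Def_Blocks
import Cfsg.Agent.Lib.Helper8.BlockOmega
import Cfsg.Agent.Lib.Helper8.ExtZero

/-!
# Fong–Reynolds, part 1: generalities on the convolution algebra
-/

set_option autoImplicit false

namespace Cfsg.Agent.Lib.Helper8

open Cfsg
open scoped ComplexConjugate
open Cfsg.Agent.Lib.Helper1 Cfsg.Agent.Lib.Helper4

universe u

section

variable {G : Type u} [Group G] [Fintype G]

theorem conv_assoc (a b c : G → ℂ) : conv (conv a b) c = conv a (conv b c) := by
  funext x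
  simp only [conv_apply, Finset.sum_mul, Finset.mul_sum]
  rw [Finset.sum_comm]
  refine Finset.sum_congr rfl fun z _ => ?_
  rw [← Equiv.sum_comp (Equiv.mulLeft z)]
  refine Finset.sum_congr rfl fun w _ => ?_
  simp [mul_assoc]

theorem conv_zero_left (a : G → ℂ) : conv (0 : G → ℂ) a = 0 := by
  funext x
  simp [conv_apply]

/-- The conjugate of a function on `G` by an element of `G`. -/
def conjF (g : G) (a : G → ℂ) : G → ℂ := fun x => a (g⁻¹ * x * g)

omit [Fintype G] in
theorem conjF_apply (g : G) (a : G → ℂ) (x : G) : conjF g a x = a (g⁻¹ * x * g) := rfl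

theorem conv_conjF (g : G) (a b : G → ℂ) :
    conv (conjF g a) (conjF g b) = conjF g (conv a b) := by
  funext x
  simp only [conv_apply, conjF_apply]
  rw [← Equiv.sum_comp (MulAut.conj g⁻¹).toEquiv (fun y => a y * b (y⁻¹ * (g⁻¹ * x * g)))]
  refine Finset.sum_congr rfl fun y _ => ?_
  have h1 : (MulAut.conj g⁻¹).toEquiv y = g⁻¹ * y * g := by
    simp
  rw [h1]
  congr 2
  group

/-- Left multiplication by a self-adjoint element is self-adjoint for the standard
Hermitian form. -/
theorem sum_conv_mul_conj {e : G → ℂ} (he : ∀ y, conj (e y) = e y⁻¹) (A B : G → ℂ) :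
    ∑ x, conv e A x * conj (B x) = ∑ x, A x * conj (conv e B x) := by
  simp only [conv_apply, map_sum, map_mul, Finset.sum_mul, Finset.mul_sum]
  rw [Finset.sum_comm]
  conv_rhs => rw [Finset.sum_comm]
  rw [← Equiv.sum_comp (Equiv.inv G)]
  refine Finset.sum_congr rfl fun y _ => ?_
  rw [← Equiv.sum_comp (Equiv.mulLeft y⁻¹)]
  refine Finset.sum_congr rfl fun x _ => ?_
  simp only [Equiv.inv_apply, Equiv.coe_mulLeft, inv_inv, mul_inv_cancel_left]
  rw [← he y]
  ring

end

end Cfsg.Agent.Lib.Helper8
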