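import Mathlib
import Cfsg.Prelude.Def_Blocks
import Cfsg.Agent.Lib.Helper8.BlockOmega
import Cfsg.Agent.Lib.Helper8.FR1

/-!
# The complex group algebra as a ring (functions with the convolution product)
-/

set_option autoImplicit false

namespace Cfsg.Agent.Lib.Helper8

open Cfsg
open scoped ComplexConjugate
open Cfsg.Agent.Lib.Helper1 Cfsg.Agent.Lib.Helper4

universe u

/-- The complex group algebra of a finite group, as the type of complex functions on the group,
to be endowed with the convolution product. -/
def CAlg (G : Type u) [Group G] [Fintype G] : Type u := G → ℂ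

namespace CAlg

variable {G : Type u} [Group G] [Fintype G]

/-- A function, viewed as an element of the group algebra. -/
def of (f : G → ℂ) : CAlg G := f

/-- The coefficient function of an element of the group algebra. -/
def fn (x : CAlg G) : G → ℂ := x

instance : CoeFun (CAlg G) (fun _ => G → ℂ) := ⟨fn⟩

@[ext] theorem ext {x y : CAlg G} (h : ∀ g, x g = y g) : x = y := funext h

@[simp] theorem of_apply (f : G → ℂ) (g : G) : (of f) g = f g := rfl

@[simp] theorem fn_of (f : G → ℂ) : fn (of f) = f := rfl

@[simp] theorem of_fn (x : CAlg G) : of (fn x) = x := rfl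

noncomputable instance : AddCommGroup (CAlg G) := inferInstanceAs (AddCommGroup (G → ℂ))

noncomputable instance : Module ℂ (CAlg G) := inferInstanceAs (Module ℂ (G → ℂ))

@[simp] theorem add_apply (x y : CAlg G) (g : G) : (x + y) g = x g + y g := rfl
@[simp] theorem sub_apply (x y : CAlg G) (g : G) : (x - y) g = x g - y g := rfl
@[simp] theorem neg_apply (x : CAlg G) (g : G) : (-x) g = - x g := rfl
@[simp] theorem zero_apply (g : G) : (0 : CAlg G) g = 0 := rfl
@[simp] theorem smul_apply (c : ℂ) (x : CAlg G) (g : G) : (c • x) g = c * x g := rfl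

theorem sum_apply {ι : Type*} (s : Finset ι) (f : ι → CAlg G) (g : G) :
    (∑ i ∈ s, f i) g = ∑ i ∈ s, (f i) g := by
  classical
  induction s using Finset.induction_on with
  | empty => simp
  | insert a s ha ih => rw [Finset.sum_insert ha, Finset.sum_insert ha, add_apply, ih]

theorem conv_deltaOne_left (a : G → ℂ) : conv (deltaOne : G → ℂ) a = a := by
  classical
  funext x
  rw [conv_apply]
  unfold deltaOne
  rw [Finset.sum_eq_single (1 : G)]
  · simp
  · intro y _ hy
    rw [if_neg hy, zero_mul]
  · intro h
    exact absurd (Finset.mem_univ _) h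

theorem conv_deltaOne_right (a : G → ℂ) : conv a (deltaOne : G → ℂ) = a := by
  classical
  funext x
  rw [conv_apply]
  unfold deltaOne
  rw [Finset.sum_eq_single x]
  · simp
  · intro y _ hy
    rw [if_neg, mul_zero]
    intro h
    apply hy
    have : y = x * (y⁻¹ * x)⁻¹ := by group
    rw [this, h]
    simp
  · intro h
    exact absurd (Finset.mem_univ _) h

theorem conv_add_left (a b c : G → ℂ) : conv (a + b) c = conv a c + conv b c := by
  funext x
  simp only [conv_apply, Pi.add_apply, add_mul, Finset.sum_add_distrib]

theorem conv_add_right (a b c : G → ℂ) : conv a (b + c) = conv a b + conv a c := by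
  funext x
  simp only [conv_apply, Pi.add_apply, mul_add, Finset.sum_add_distrib]

theorem conv_zero_right (a : G → ℂ) : conv a (0 : G → ℂ) = 0 := by
  funext x
  simp [conv_apply]

noncomputable instance : Ring (CAlg G) :=
  { (inferInstance : AddCommGroup (CAlg G)) with
    mul := fun x y => of (conv (fn x) (fn y))
    one := of deltaOne
    mul_assoc := fun a b c => conv_assoc (fn a) (fn b) (fn c)
    one_mul := fun a => conv_deltaOne_left (fn a)
    mul_one := fun a => conv_deltaOne_right (fn a)
    left_distrib := fun a b c => conv_add_right (fn a) (fn b) (fn c)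
    right_distrib := fun a b c => conv_add_left (fn a) (fn b) (fn c)
    zero_mul := fun a => conv_zero_left (fn a)
    mul_zero := fun a => conv_zero_right (fn a) }

theorem mul_def (x y : CAlg G) : x * y = of (conv (fn x) (fn y)) := rfl

theorem mul_apply (x y : CAlg G) (g : G) : (x * y) g = conv (fn x) (fn y) g := rfl

theorem one_def : (1 : CAlg G) = of deltaOne := rfl

theorem of_conv (f h : G → ℂ) : of (conv f h) = of f * of h := rfl

theorem fn_mul (x y : CAlg G) : fn (x * y) = conv (fn x) (fn y) := rfl

theorem smul_mul' (c : ℂ) (x y : CAlg G) : (c • x) * y = c • (x * y) := by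
  ext g
  simp only [mul_apply, smul_apply, conv_apply, Finset.mul_sum]
  refine Finset.sum_congr rfl fun z _ => ?_
  change (c * fn x z) * _ = _
  ring

theorem mul_smul' (c : ℂ) (x y : CAlg G) : x * (c • y) = c • (x * y) := by
  ext g
  simp only [mul_apply, smul_apply, conv_apply, Finset.mul_sum]
  refine Finset.sum_congr rfl fun z _ => ?_
  change fn x z * (c * fn y _) = _
  ring

end CAlg

end Cfsg.Agent.Lib.Helper8
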