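import Mathlib

/-!
# An abstract lemma on idempotents in group-graded rings

Let `C q` (`q ∈ Q`, a finite group) be the homogeneous components of a graded ring with local
commutative central degree-one part.  If an idempotent `E = ∑ c q` is not in the "radical" `j`,
then some homogeneous component `c q` is invertible modulo `j`.
-/

set_option autoImplicit false

namespace Cfsg.Agent.Lib.Helper8

universe u v

section Pigeon

variable {Q : Type v} [Group Q] [Fintype Q]

/-- A long list in a finite group has a nonempty consecutive sublist with product `1`. -/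
theorem exists_sublist_prod_eq_one (l : List Q) (hl : Fintype.card Q ≤ l.length) :
    ∃ (l₁ : List Q) (k : Q) (l₂ l₃ : List Q), l = l₁ ++ (k :: l₂) ++ l₃ ∧ k * l₂.prod = 1 := by
  classical
  let f : Fin (l.length + 1) → Q := fun i => (l.take i).prod
  have hcard : Fintype.card Q < Fintype.card (Fin (l.length + 1)) := by
    rw [Fintype.card_fin]
    omega
  obtain ⟨i, j, hij, hf⟩ := Fintype.exists_ne_map_eq_of_card_lt f hcard
  wlog hlt : i < j generalizing i j
  · exact this j i hij.symm hf.symm (lt_of_le_of_ne (not_lt.1 hlt) hij.symm)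
  have hi : (i : ℕ) < j := hlt
  have hj : (j : ℕ) ≤ l.length := Nat.lt_succ_iff.1 j.2
  set m := (j : ℕ) - i with hm
  have hjm : (j : ℕ) = i + m := by omega
  have h1 : l.take j = l.take i ++ (l.drop i).take m := by
    rw [hjm, List.take_add]
  have h2 : (l.take i).prod * ((l.drop i).take m).prod = (l.take i).prod := by
    have := hf
    simp only [f] at this
    rw [← List.prod_append, ← h1]
    exact this.symm
  have h3 : ((l.drop i).take m).prod = 1 := by
    have := mul_left_cancel (a := (l.take i).prod) (b := ((l.drop i).take m).prod) (c := 1)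
      (by rw [h2, mul_one])
    exact this
  have hlen : ((l.drop i).take m).length = m := by
    rw [List.length_take, List.length_drop]
    omega
  have hmpos : 0 < m := by omega
  obtain ⟨k, l₂, hk⟩ : ∃ k l₂, (l.drop i).take m = k :: l₂ := by
    cases h : (l.drop i).take m with
    | nil => rw [h] at hlen; simp at hlen; omega
    | cons k l₂ => exact ⟨k, l₂, rfl⟩
  refine ⟨l.take i, k, l₂, l.drop j, ?_, ?_⟩
  · rw [← hk, ← h1, List.take_append_drop]
  · rw [← List.prod_cons, ← hk, h3]

end Pigeon

section Abstract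

variable {A : Type u} [Ring A] {Q : Type v} [Group Q] [Fintype Q]

/-- **Unit component lemma.** -/
theorem exists_unit_component (C : Q → AddSubgroup A) (m j : AddSubgroup A) (e : A)
    (he1 : e ∈ C 1)
    (heL : ∀ q, ∀ x ∈ C q, e * x = x) (heR : ∀ q, ∀ x ∈ C q, x * e = x)
    (hmul : ∀ q r, ∀ x ∈ C q, ∀ y ∈ C r, x * y ∈ C (q * r))
    (hcomm : ∀ z ∈ m, ∀ q, ∀ x ∈ C q, z * x = x * z)
    (hloc : ∀ z ∈ C 1, z ∈ m ∨ ∃ z' ∈ C 1, e - z * z' ∈ j)
    (k : ℕ) (hnil : ∀ zs : List A, (∀ z ∈ zs, z ∈ m) → zs.length = k → zs.prod ∈ j)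
    (hj : ∀ x ∈ j, ∀ q, ∀ y ∈ C q, x * y ∈ j)
    (c : Q → A) (hc : ∀ q, c q ∈ C q) (E : A) (hE : E = ∑ q, c q) (hEE : E * E = E)
    (hEj : E ∉ j) :
    ∃ q, ∃ d ∈ C q⁻¹, e - c q * d ∈ j := by
  classical
  by_contra hcon
  push Not at hcon
  -- (H): all products land in `m`
  have H : ∀ q, ∀ d ∈ C q⁻¹, c q * d ∈ m := by
    intro q d hd
    have h1 : c q * d ∈ C 1 := by
      have := hmul q q⁻¹ _ (hc q) _ hd
      rwa [mul_inv_cancel] at this
    rcases hloc _ h1 with h | ⟨z', hz', h⟩
    · exact h
    · exfalso
      have h2 : d * z' ∈ C q⁻¹ := by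
        have := hmul q⁻¹ 1 _ hd _ hz'
        rwa [mul_one] at this
      apply hcon q (d * z') h2
      rwa [← mul_assoc]
  -- words
  set w : List Q → A := fun l => e * (l.map c).prod with hw
  have w_nil : w [] = e := by simp [hw]
  have w_cons : ∀ q l, w (q :: l) = c q * w l := by
    intro q l
    simp only [hw, List.map_cons, List.prod_cons]
    rw [← mul_assoc, heL q _ (hc q), ← mul_assoc, heR q _ (hc q)]
  have w_mem : ∀ l : List Q, w l ∈ C l.prod := by
    intro l
    induction l with
    | nil => rw [w_nil, List.prod_nil]; exact he1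
    | cons q l ih =>
      rw [w_cons, List.prod_cons]
      exact hmul q _ _ (hc q) _ ih
  have w_append : ∀ l₁ l₂ : List Q, w (l₁ ++ l₂) = w l₁ * w l₂ := by
    intro l₁ l₂
    induction l₁ with
    | nil => rw [List.nil_append, w_nil, heL _ _ (w_mem l₂)]
    | cons q l₁ ih =>
      rw [List.cons_append, w_cons, ih, w_cons]
      exact (mul_assoc _ _ _).symm
  -- step 2
  have step2 : ∀ l : List Q, Fintype.card Q ≤ l.length →
      ∃ z ∈ m, ∃ q, ∃ y ∈ C q, w l = z * y := by
    intro l hl
    obtain ⟨l₁, k', l₂, l₃, rfl, hk'⟩ := exists_sublist_prod_eq_one l hl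
    have hl₂ : l₂.prod = k'⁻¹ := eq_inv_of_mul_eq_one_right hk'
    have hz : c k' * w l₂ ∈ m := by
      apply H
      rw [← hl₂]
      exact w_mem l₂
    refine ⟨c k' * w l₂, hz, l₁.prod * l₃.prod, w l₁ * w l₃, hmul _ _ _ (w_mem l₁) _ (w_mem l₃), ?_⟩
    rw [w_append, w_append, w_cons]
    rw [← hcomm _ hz _ _ (w_mem l₁), mul_assoc]
  -- commutation of products of elements of `m`
  have prod_comm : ∀ zs : List A, (∀ z ∈ zs, z ∈ m) → ∀ q, ∀ x ∈ C q,
      zs.prod * x = x * zs.prod := by
    intro zs
    induction zs with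
    | nil => intro _ q x _; simp
    | cons z zs ih =>
      intro hzs q x hx
      rw [List.prod_cons, mul_assoc, ih (fun z' hz' => hzs z' (List.mem_cons_of_mem _ hz')) q x hx,
        ← mul_assoc, hcomm z (hzs z List.mem_cons_self) q x hx, mul_assoc]
  -- step 3
  have step3 : ∀ r : ℕ, ∀ l : List Q, r * Fintype.card Q ≤ l.length →
      ∃ zs : List A, (∀ z ∈ zs, z ∈ m) ∧ zs.length = r ∧ ∃ q, ∃ y ∈ C q, w l = zs.prod * y := by
    intro r
    induction r with
    | zero =>
      intro l _
      exact ⟨[], by simp, rfl, l.prod, w l, w_mem l, by simp⟩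
    | succ r ih =>
      intro l hl
      set n := Fintype.card Q with hn
      have hl1 : n ≤ l.length := by
        have : n ≤ (r + 1) * n := Nat.le_mul_of_pos_left _ (Nat.succ_pos r)
        omega
      have hsplit : l = l.take n ++ l.drop n := (List.take_append_drop n l).symm
      have hlen1 : (l.take n).length = n := by
        rw [List.length_take]; omega
      have hlen2 : r * n ≤ (l.drop n).length := by
        rw [List.length_drop]
        have : (r + 1) * n = r * n + n := by ring
        omega
      obtain ⟨z, hz, q', y', hy', e1⟩ := step2 (l.take n) (by omega)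
      obtain ⟨zs, hzs, hzl, q'', y'', hy'', e2⟩ := ih (l.drop n) hlen2
      refine ⟨z :: zs, ?_, by simp [hzl], q' * q'', y' * y'', hmul _ _ _ hy' _ hy'', ?_⟩
      · intro z' hz'
        rcases List.mem_cons.1 hz' with rfl | h
        · exact hz
        · exact hzs z' h
      · rw [hsplit, w_append, e1, e2, List.prod_cons]
        have := prod_comm zs hzs q' y' hy'
        calc z * y' * (zs.prod * y'') = z * (y' * zs.prod) * y'' := by noncomm_ring
          _ = z * (zs.prod * y') * y'' := by rw [this]
          _ = z * zs.prod * (y' * y'') := by noncomm_ring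
  -- the span of words of length `n`
  let W : ℕ → AddSubgroup A := fun n =>
    AddSubgroup.closure {a | ∃ l : List Q, l.length = n ∧ a = w l}
  have hEe : E * e = E := by
    rw [hE, Finset.sum_mul]
    exact Finset.sum_congr rfl fun q _ => heR q _ (hc q)
  have hWstep : ∀ n, ∀ a ∈ W n, E * a ∈ W (n + 1) := by
    intro n a ha
    induction ha using AddSubgroup.closure_induction with
    | mem a ha =>
      obtain ⟨l, hl, rfl⟩ := ha
      rw [hE, Finset.sum_mul]
      apply AddSubgroup.sum_mem
      intro q _
      apply AddSubgroup.subset_closure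
      exact ⟨q :: l, by simp [hl], (w_cons q l).symm⟩
    | zero => rw [mul_zero]; exact AddSubgroup.zero_mem _
    | add a b _ _ iha ihb => rw [mul_add]; exact AddSubgroup.add_mem _ iha ihb
    | neg a _ iha => rw [mul_neg]; exact AddSubgroup.neg_mem _ iha
  have hpowW : ∀ n, E ^ n * e ∈ W n := by
    intro n
    induction n with
    | zero =>
      rw [pow_zero, one_mul]
      apply AddSubgroup.subset_closure
      exact ⟨[], rfl, w_nil.symm⟩
    | succ n ih =>
      rw [pow_succ', mul_assoc]
      exact hWstep n _ ih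
  have hpow : ∀ n, E ^ (n + 1) = E := by
    intro n
    induction n with
    | zero => simp
    | succ n ih => rw [pow_succ, ih, hEE]
  set n := k * Fintype.card Q with hn
  have hWj : W (n + 1) ≤ j := by
    apply (AddSubgroup.closure_le _).2
    rintro a ⟨l, hl, rfl⟩
    obtain ⟨zs, hzs, hzl, q, y, hy, e1⟩ := step3 k l (by omega)
    change w l ∈ j
    rw [e1]
    exact hj _ (hnil zs hzs hzl) q y hy
  apply hEj
  have := hWj (hpowW (n + 1))
  rwa [hpow n, hEe] at this

end Abstract

end Cfsg.Agent.Lib.Helper8
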