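import Mathlib
import Cfsg.Prelude.Def_Blocks
import Cfsg.Agent.Lib.Helper8.BlockLocal
import Cfsg.Agent.Lib.Helper4.CharCongr

/-!
# Character values modulo the local ideal: the `p`-part does not matter
-/

set_option autoImplicit false

namespace Cfsg.Agent.Lib.Helper8

open Cfsg
open scoped ComplexConjugate
open Cfsg.Agent.Lib.Helper1 Cfsg.Agent.Lib.Helper4

universe u

section

variable {G : Type u} [Group G] [Finite G] {M : Ideal AlgInt} {p : ℕ}

/-- `χ(xy) ≡ χ(y)` modulo the local ideal when `x` is a `p`-element commuting with `y`. -/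
theorem memLocalIdeal_char_mul_sub (hM : IsPModular p M) {χ : G → ℂ} (hχ : IsCharacter G χ)
    (x y : G) (k : ℕ) (hx : x ^ (p ^ k) = 1) (hxy : x * y = y * x) :
    MemLocalIdeal M (χ (x * y) - χ y) := by
  classical
  have hMp := isPModular_isPrime hM
  set A : Subgroup G := Subgroup.closure {x, y} with hA
  have hcommS : ∀ a ∈ ({x, y} : Set G), ∀ b ∈ ({x, y} : Set G), a * b = b * a := by
    intro a ha b hb
    simp only [Set.mem_insert_iff, Set.mem_singleton_iff] at ha hb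
    rcases ha with rfl | rfl <;> rcases hb with rfl | rfl
    · rfl
    · exact hxy
    · exact hxy.symm
    · rfl
  have hcomm : ∀ a b : A, a * b = b * a := by
    intro a b
    exact (Subgroup.isMulCommutative_closure hcommS).is_comm.comm a b
  have : Fintype A := Fintype.ofFinite A
  have : Fintype (IrrCharacter A) := Fintype.ofFinite _
  have hxA : x ∈ A := Subgroup.subset_closure (by simp)
  have hyA : y ∈ A := Subgroup.subset_closure (by simp)
  set χA : A → ℂ := fun a => χ a with hχA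
  have hχAc : IsCharacter A χA := Cfsg.Agent.S0148.isCharacter_restrict A hχ
  have hm : ∀ ψ : IrrCharacter A, ∃ m : ℕ, classInner χA (ψ : A → ℂ) = m :=
    fun ψ => classInner_char_irr_nat hχAc ψ.2
  choose m hm using hm
  have hexp := class_function_expansion χA (isClassFunction_of_isCharacter hχAc)
  have hφ : ∀ ψ : IrrCharacter A, ∃ φ : A →* ℂˣ, (ψ : A → ℂ) = fun g => (φ g : ℂ) :=
    fun ψ => exists_hom_of_comm hcomm ψ.2
  choose φ hφ using hφ
  have hω : ∀ ψ : IrrCharacter A, MemLocalIdeal M (((φ ψ ⟨x, hxA⟩ : ℂˣ) : ℂ) - 1) := by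
    intro ψ
    apply memLocalIdeal_sub_one_of_pow_eq_one hM k
    rw [← Units.val_pow_eq_pow_val, ← map_pow]
    have : (⟨x, hxA⟩ : A) ^ (p ^ k) = 1 := by
      apply Subtype.ext
      rw [Subgroup.coe_pow, Subgroup.coe_one]
      exact hx
    rw [this, map_one, Units.val_one]
  have hyint : ∀ ψ : IrrCharacter A, IsIntegral ℤ ((φ ψ ⟨y, hyA⟩ : ℂˣ) : ℂ) := by
    intro ψ
    apply IsIntegral.of_pow (n := Nat.card A) Nat.card_pos
    rw [← Units.val_pow_eq_pow_val, ← map_pow, pow_card_eq_one', map_one, Units.val_one]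
    exact isIntegral_one
  have h1 : ∀ a : A, χ a = ∑ ψ : IrrCharacter A, (m ψ : ℂ) * ((φ ψ a : ℂˣ) : ℂ) := by
    intro a
    have h2 : χ a = χA a := rfl
    rw [h2]
    conv_lhs => rw [hexp]
    rw [Finset.sum_apply]
    refine Finset.sum_congr rfl fun ψ _ => ?_
    rw [Pi.smul_apply, hm ψ, smul_eq_mul]
    conv_lhs => rw [hφ ψ]
  have h3 := h1 (⟨x, hxA⟩ * ⟨y, hyA⟩)
  have h4 := h1 ⟨y, hyA⟩
  have h5 : ((⟨x, hxA⟩ * ⟨y, hyA⟩ : A) : G) = x * y := rfl
  rw [h5] at h3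
  have h6 : ((⟨y, hyA⟩ : A) : G) = y := rfl
  rw [h6] at h4
  rw [h3, h4, ← Finset.sum_sub_distrib]
  apply memLocalIdeal_sum hMp
  intro ψ _
  rw [map_mul, Units.val_mul]
  have e : (m ψ : ℂ) * (((φ ψ ⟨x, hxA⟩ : ℂˣ) : ℂ) * ((φ ψ ⟨y, hyA⟩ : ℂˣ) : ℂ)) -
      (m ψ : ℂ) * ((φ ψ ⟨y, hyA⟩ : ℂˣ) : ℂ) =
      ((m ψ : ℂ) * ((φ ψ ⟨y, hyA⟩ : ℂˣ) : ℂ)) * (((φ ψ ⟨x, hxA⟩ : ℂˣ) : ℂ) - 1) := by ring
  rw [e]
  exact memLocalIdeal_mul_left hMp (memLocalRing_mul hMp (memLocalRing_natCast hMp.ne_top _)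
    (memLocalRing_of_isIntegral hMp.ne_top (hyint ψ))) (hω ψ)

omit [Finite G] in
/-- The `p`-part of an element is a power of it. -/
theorem IsPPart.exists_zpow {g z : G} (hp : p.Prime) (h : IsPPart p g z) : ∃ m : ℤ, z = g ^ m := by
  obtain ⟨y, hzy, hcomm, ⟨k, hk⟩, hy⟩ := h
  have hcop : Nat.Coprime (orderOf y) (p ^ k) :=
    Nat.Coprime.pow_right k ((Nat.Prime.coprime_iff_not_dvd hp).2 hy).symm
  have hb := Int.gcd_eq_gcd_ab (orderOf y : ℤ) ((p ^ k : ℕ) : ℤ)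
  have hg1 : Int.gcd (orderOf y : ℤ) ((p ^ k : ℕ) : ℤ) = 1 := by
    rw [Int.gcd_natCast_natCast]
    exact hcop
  rw [hg1] at hb
  set a := Int.gcdA (orderOf y : ℤ) ((p ^ k : ℕ) : ℤ) with ha
  set b := Int.gcdB (orderOf y : ℤ) ((p ^ k : ℕ) : ℤ) with hb'
  refine ⟨(orderOf y : ℤ) * a, ?_⟩
  rw [← hzy, hcomm.mul_zpow]
  have h1 : y ^ ((orderOf y : ℤ) * a) = 1 := by
    rw [zpow_mul, zpow_natCast, pow_orderOf_eq_one, one_zpow]
  have h2 : z ^ ((orderOf y : ℤ) * a) = z := by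
    have e : (orderOf y : ℤ) * a = 1 - ((p ^ k : ℕ) : ℤ) * b := by
      have : ((1 : ℕ) : ℤ) = (orderOf y : ℤ) * a + ((p ^ k : ℕ) : ℤ) * b := hb
      push_cast at this ⊢
      linarith
    rw [e, zpow_sub, zpow_one, zpow_mul, zpow_natCast, ← hk, pow_orderOf_eq_one, one_zpow, inv_one,
      mul_one]
  rw [h1, h2, mul_one]

/-- A quotient of natural numbers whose denominator has at most the `p`-part of the numerator is a
local integer. -/
theorem memLocalRing_natCast_div (hM : IsPModular p M) {A B : ℕ} (hA : A ≠ 0) (hB : B ≠ 0)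
    (h : B.factorization p ≤ A.factorization p) : MemLocalRing M ((A : ℂ) / (B : ℂ)) := by
  have hMp := isPModular_isPrime hM
  have hp := hM.1
  set b := B.factorization p with hb
  obtain ⟨B', hB'⟩ : p ^ b ∣ B := Nat.ordProj_dvd B p
  obtain ⟨A', hA'⟩ : p ^ b ∣ A := (hp.pow_dvd_iff_le_factorization hA).2 h
  have hB'p : ¬ p ∣ B' := by
    intro hpc
    have : p ^ (b + 1) ∣ B := by
      rw [hB', pow_succ]
      exact Nat.mul_dvd_mul_left _ hpc
    have := (hp.pow_dvd_iff_le_factorization hB).1 this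
    omega
  have hpb : ((p ^ b : ℕ) : ℂ) ≠ 0 := Nat.cast_ne_zero.2 (pow_pos hp.pos b).ne'
  have hB'0 : (B' : ℂ) ≠ 0 := by
    intro h0
    have : B' = 0 := Nat.cast_eq_zero.1 h0
    rw [this] at hB'p
    exact hB'p (dvd_zero p)
  have e : (A : ℂ) / (B : ℂ) = (A' : ℂ) * (B' : ℂ)⁻¹ := by
    rw [hA', hB']
    push_cast at hpb ⊢
    field_simp
  rw [e]
  exact memLocalRing_mul hMp (memLocalRing_natCast hMp.ne_top _) (memLocalRing_inv_natCast hM hB'p)

end

end Cfsg.Agent.Lib.Helper8
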