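import Mathlib
import Cfsg.Prelude.Def_Blocks
import Cfsg.Agent.Lib.Helper8.BlockFirstMain4
import Cfsg.Agent.Lib.Helper8.CharPPart
import Cfsg.Agent.Lib.Helper8.Deflation
import Cfsg.Agent.S0914

/-!
# Classes with non-vanishing central character meet the centralizer of a defect group in elements
whose `p`-part lies in the centre of the defect group
-/

set_option autoImplicit false

namespace Cfsg.Agent.Lib.Helper8

open Cfsg
open scoped ComplexConjugate
open Cfsg.Agent.Lib.Helper1 Cfsg.Agent.Lib.Helper4

universe u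

section

variable {G : Type u} [Group G] [Finite G] {M : Ideal AlgInt} {p : ℕ} [Fact p.Prime]

/-- An irreducible character of `p`-defect zero vanishes at `p`-singular elements. -/
theorem irr_eq_zero_of_defect_zero (hM : IsPModular p M) (ψ : IrrCharacter G)
    (h0 : ¬ p ∣ Nat.card G / charDegree (ψ : G → ℂ)) {g : G} (hg : p ∣ orderOf g) :
    (ψ : G → ℂ) g = 0 := by
  classical
  have : Fintype G := Fintype.ofFinite G
  have hb := (Cfsg.Agent.S0914.result p M hM ψ).1 h0
  have h1 := blockCoeff_eq_zero_of_dvd_orderOf hM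
    (⟨ψ, rfl⟩ : IsPBlock M (blockOf M (ψ : G → ℂ))) hg
  rw [hb] at h1
  unfold blockCoeff at h1
  rw [finsum_mem_singleton] at h1
  have hG : (Nat.card G : ℂ)⁻¹ ≠ 0 := inv_ne_zero (Nat.cast_ne_zero.2 Nat.card_pos.ne')
  have h2 := (mul_eq_zero.1 h1).resolve_left hG
  have h3 := (mul_eq_zero.1 h2).resolve_left (irr_apply_one_ne_zero ψ.2)
  exact (map_eq_zero (starRingEnd ℂ)).1 h3

omit [Finite G] [Fact p.Prime] in
theorem sameBlock_of_mem (hM : M.IsPrime) {b : Set (IrrCharacter G)} (hb : IsPBlock M b)
    {θ ξ : IrrCharacter G} (hθ : θ ∈ b) (hξ : ξ ∈ b) :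
    SameBlock M (θ : G → ℂ) (ξ : G → ℂ) := by
  obtain ⟨χ₀, rfl⟩ := hb
  exact sameBlock_trans hM (sameBlock_symm hθ) hξ

/-- If `P` is a normal `p`-subgroup and `b` a block with `|P| = p ^ d(b)`, then the central
characters of the members of `b` lie in the local ideal at every element whose image in `G ⧸ P` is
`p`-singular. -/
theorem memLocalIdeal_centralChar_of_quotient_singular (hM : IsPModular p M) (P : Subgroup G)
    [P.Normal] (hP : IsPGroup p P) {b : Set (IrrCharacter G)} (hb : IsPBlock M b)
    (hd : Nat.card P = p ^ blockDefect p b) {u : G}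
    (hu : p ∣ orderOf (QuotientGroup.mk u : G ⧸ P)) (ξ : IrrCharacter G) (hξ : ξ ∈ b) :
    MemLocalIdeal M (centralChar (ξ : G → ℂ) u) := by
  classical
  have : Fintype G := Fintype.ofFinite G
  have hp : p.Prime := Fact.out
  have hMp := isPModular_isPrime hM
  obtain ⟨θ, hθb, hker⟩ := exists_mem_block_ker hM P hP hb
  obtain ⟨θ', hθ', hdef⟩ := exists_deflation P θ.2 hker
  have hdeg : charDegree θ' = charDegree (θ : G → ℂ) := by
    unfold charDegree
    have := hdef 1
    rw [QuotientGroup.mk_one] at this
    rw [this]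
  have hn0 : 0 < charDegree (θ : G → ℂ) := (irr_apply_one_eq_charDegree θ.2).2
  have hdvd : charDegree (θ : G → ℂ) ∣ P.index := charDegree_dvd_index P θ.2 hker
  have hcardq : Nat.card (G ⧸ P) = P.index := rfl
  have hidx0 : P.index ≠ 0 := Subgroup.index_ne_zero_of_finite
  -- valuations
  have hmul : Nat.card G = Nat.card P * P.index := (Subgroup.card_mul_index P).symm
  have ha : (Nat.card G).factorization p = blockDefect p b + P.index.factorization p := by
    rw [hmul, Nat.factorization_mul Nat.card_pos.ne' hidx0, hd]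
    simp [hp.factorization_pow]
  have hle : sInf ((fun χ : IrrCharacter G => (charDegree (χ : G → ℂ)).factorization p) '' b) ≤
      (charDegree (θ : G → ℂ)).factorization p := Nat.sInf_le ⟨θ, hθb, rfl⟩
  have hidx : P.index.factorization p ≤ (charDegree (θ : G → ℂ)).factorization p := by
    have hdef' : blockDefect p b = (Nat.card G).factorization p -
        sInf ((fun χ : IrrCharacter G => (charDegree (χ : G → ℂ)).factorization p) '' b) := rfl
    omega
  have h0 : ¬ p ∣ Nat.card (G ⧸ P) / charDegree θ' := by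
    rw [hcardq, hdeg]
    intro hdiv
    have hq0 : P.index / charDegree (θ : G → ℂ) ≠ 0 :=
      (Nat.div_pos (Nat.le_of_dvd (Nat.pos_of_ne_zero hidx0) hdvd) hn0).ne'
    have h1 := (hp.dvd_iff_one_le_factorization hq0).1 hdiv
    rw [Nat.factorization_div hdvd] at h1
    simp only [Finsupp.coe_tsub, Pi.sub_apply] at h1
    omega
  have hzero := irr_eq_zero_of_defect_zero hM (⟨θ', hθ'⟩ : IrrCharacter (G ⧸ P)) h0 hu
  have hθu : (θ : G → ℂ) u = 0 := by
    rw [← hdef u]
    exact hzero
  have hcc : centralChar (θ : G → ℂ) u = 0 := by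
    unfold centralChar
    rw [hθu, mul_zero, zero_div]
  have hs := sameBlock_of_mem hMp hb hξ hθb u
  rw [hcc, sub_zero] at hs
  exact hs

end

section

variable {G : Type u} [Group G] [Fintype G] {M : Ideal AlgInt} {p : ℕ}

/-- If the Brauer central character at `g` is a unit, some conjugate of `g` in `H ∩ C_G(P)` has a
unit central character. -/
theorem exists_conj_of_brauerCentralChar (hM : M.IsPrime) (P H : Subgroup G) [Fintype H]
    (hHN : H ≤ Subgroup.normalizer (P : Set G))
    {ξ : H → ℂ} (hξ : IsIrrCharacter H ξ) {g : G}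
    (h : ¬ MemLocalIdeal M (brauerCentralChar P H ξ g)) :
    ∃ y : H, IsConj g (y : G) ∧ (y : G) ∈ Subgroup.centralizer (P : Set G) ∧
      ¬ MemLocalIdeal M (centralChar ξ y) := by
  classical
  have : Fintype (ConjClasses H) := Fintype.ofFinite _
  rw [brauerCentralChar_eq_brauerLam, brauerLam_apply, omega_eq_sum_classes hξ
    (isClassFunction_restrict_truncTo P H hHN (classIndicator_isClassFunction g))] at h
  by_contra hcon
  push Not at hcon
  apply h
  apply memLocalIdeal_sum hM
  intro c _
  by_cases hc : ((Quotient.out c : H) : G) ∈ (Subgroup.centralizer (P : Set G) : Set G)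
  · rw [truncTo_of_mem _ hc]
    by_cases hc2 : IsConj g ((Quotient.out c : H) : G)
    · exact memLocalIdeal_mul_left hM (memLocalRing_classIndicator hM.ne_top _ _) (hcon _ hc2 hc)
    · unfold classIndicator
      rw [if_neg hc2, zero_mul]
      exact memLocalIdeal_zero hM.ne_top
  · rw [truncTo_of_not_mem _ hc, zero_mul]
    exact memLocalIdeal_zero hM.ne_top

end

end Cfsg.Agent.Lib.Helper8
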