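import Mathlib
import Cfsg.Prelude.Def_Blocks
import Cfsg.Agent.Lib.Helper8.FR1
import Cfsg.Agent.Lib.Helper8.ClassAlgebra
import Cfsg.Agent.Lib.Helper8.BlockPairs5
import Cfsg.Agent.Lib.Helper1.IndFun
import Cfsg.Agent.S0146

/-!
# Fong–Reynolds, part 2: the orthonormality relation for induced characters
-/

set_option autoImplicit false

namespace Cfsg.Agent.Lib.Helper8

open Cfsg
open scoped ComplexConjugate
open Cfsg.Agent.Lib.Helper1 Cfsg.Agent.Lib.Helper4

universe u

section

variable {G : Type u} [Group G]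

theorem extendByZero_eq_extZ (H : Subgroup G) (θ : H → ℂ) : extendByZero H θ = extZ H θ := by
  funext g
  by_cases hg : g ∈ H
  · rw [extendByZero_of_mem H θ hg, extZ_of_mem H θ hg]
  · rw [extendByZero_of_notMem H θ hg, extZ_of_not_mem H θ hg]

variable [Fintype G]

theorem sum_extZ_mul (H : Subgroup G) [Fintype H] (θ : H → ℂ) (f : G → ℂ) :
    ∑ g : G, extZ H θ g * f g = ∑ h : H, θ h * f h := by
  rw [← extendByZero_eq_extZ]
  exact sum_extendByZero_mul H θ f

theorem indFun_apply' (H : Subgroup G) (θ : H → ℂ) (g : G) :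
    indFun H θ g = (Nat.card H : ℂ)⁻¹ * ∑ x : G, conjF x (extZ H θ) g := by
  rw [indFun_apply, extendByZero_eq_extZ]
  rfl

variable (T : Subgroup G) [Fintype T]

/-- An irreducible character of `T` on which the `T`-central idempotent `e` acts as the
identity is fixed by convolution with `e`. -/
theorem conv_conj_extZ_of_omega_eq_one {e : G → ℂ} (hsupp : ∀ g, g ∉ T → e g = 0)
    (hcl : IsClassFunction T (fun t : T => e t)) {ψ : T → ℂ} (hψ : IsIrrCharacter T ψ)
    (hω : omega ψ (fun t : T => e t) = 1) :
    conv e (fun x => conj (extZ T ψ x)) = fun x => conj (extZ T ψ x) := by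
  funext x
  by_cases hx : x ∈ T
  · have h1 := conv_extZ_restrict T e (fun x => conj (extZ T ψ x)) hsupp ⟨x, hx⟩
    simp only at h1
    rw [h1, conv_apply, extZ_of_mem T ψ hx]
    have h2 := sum_classFunction_mul_irr hψ (fun t : T => e t) hcl (⟨x, hx⟩ : T)⁻¹
    have h3 : (∑ g : T, e g * ψ g) / ψ 1 = 1 := hω
    rw [h3, one_mul, isCharacter_inv (isCharacter_of_irr hψ)] at h2
    rw [← h2]
    refine Finset.sum_congr rfl fun s _ => ?_
    congr 1
    rw [extZ_coe, ← isCharacter_inv (isCharacter_of_irr hψ)]
    congr 1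
    group
  · rw [extZ_of_not_mem T ψ hx, map_zero, conv_apply]
    apply Finset.sum_eq_zero
    intro y _
    by_cases hy : y ∈ T
    · have : y⁻¹ * x ∉ T := fun h => hx (by
        have := T.mul_mem hy h
        rwa [mul_inv_cancel_left] at this)
      rw [extZ_of_not_mem T ψ this, map_zero, mul_zero]
    · rw [hsupp y hy, zero_mul]

/-- Vanishing of the pairing between an `e`-fixed function and a conjugate, by an element outside
`T`, of an `e`-fixed function. -/
theorem sum_conjF_mul_conj_eq_zero {e : G → ℂ} (he : ∀ y, conj (e y) = e y⁻¹)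
    {g : G} (horth : conv e (conjF g e) = 0) {Φ A' : G → ℂ}
    (h1 : conv e Φ = Φ) (h2 : conv e A' = A') :
    ∑ x : G, conjF g A' x * conj (Φ x) = 0 := by
  set A : G → ℂ := conjF g A' with hA
  have hA0 : conv e A = 0 := by
    have : A = conv (conjF g e) A := by
      rw [hA, conv_conjF, h2]
    rw [this, ← conv_assoc, horth, conv_zero_left]
  conv_lhs => rw [← h1]
  rw [← sum_conv_mul_conj he, hA0]
  simp

/-- The pairing of an induced `e`-fixed class function of `T` with an `e`-fixed function on `T`
can be computed in `T`. -/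
theorem sum_indFun_mul_of_orth {e : G → ℂ} (he : ∀ y, conj (e y) = e y⁻¹)
    (horth : ∀ g : G, g ∉ T → conv e (conjF g e) = 0)
    {ε ψ : T → ℂ} (hε : IsClassFunction T ε)
    (h1 : conv e (fun x => conj (extZ T ψ x)) = fun x => conj (extZ T ψ x))
    (h2 : conv e (extZ T ε) = extZ T ε) :
    ∑ t : T, indFun T ε t * ψ t = ∑ t : T, ε t * ψ t := by
  classical
  have hT0 : (Nat.card T : ℂ) ≠ 0 := Nat.cast_ne_zero.2 Nat.card_pos.ne'
  have hI : ∀ g : G, ∑ x : G, conjF g (extZ T ε) x * extZ T ψ x =
      if g ∈ T then ∑ t : T, ε t * ψ t else 0 := by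
    intro g
    by_cases hg : g ∈ T
    · rw [if_pos hg]
      have hc : conjF g (extZ T ε) = extZ T ε := by
        funext x
        rw [conjF_apply]
        have := extZ_conj_of_mem T hε (T.inv_mem hg) x
        rwa [inv_inv] at this
      rw [hc, sum_extZ_mul]
      refine Finset.sum_congr rfl fun t _ => ?_
      rw [extZ_coe]
    · rw [if_neg hg]
      have := sum_conjF_mul_conj_eq_zero he (horth g hg) h1 h2
      rw [← this]
      refine Finset.sum_congr rfl fun x _ => ?_
      simp only [Complex.conj_conj]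
  calc ∑ t : T, indFun T ε t * ψ t
      = ∑ t : T, ψ t * indFun T ε t := Finset.sum_congr rfl fun t _ => mul_comm _ _
    _ = ∑ x : G, extZ T ψ x * indFun T ε x :=
        (sum_extZ_mul T ψ (fun x => indFun T ε x)).symm
    _ = ∑ x : G, extZ T ψ x * ((Nat.card T : ℂ)⁻¹ * ∑ g : G, conjF g (extZ T ε) x) := by
        refine Finset.sum_congr rfl fun x _ => ?_
        rw [indFun_apply']
    _ = (Nat.card T : ℂ)⁻¹ * ∑ g : G, ∑ x : G, conjF g (extZ T ε) x * extZ T ψ x := by
        rw [Finset.sum_comm, Finset.mul_sum]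
        refine Finset.sum_congr rfl fun x _ => ?_
        rw [Finset.mul_sum, Finset.mul_sum, Finset.mul_sum]
        refine Finset.sum_congr rfl fun g _ => ?_
        ring
    _ = (Nat.card T : ℂ)⁻¹ * ∑ g : G, (if g ∈ T then ∑ t : T, ε t * ψ t else 0) := by
        congr 1
        exact Finset.sum_congr rfl fun g _ => hI g
    _ = ∑ t : T, ε t * ψ t := by
        rw [← Finset.sum_filter, Finset.sum_const, nsmul_eq_mul]
        have : (Finset.univ.filter (fun g : G => g ∈ T)).card = Nat.card T := by
          rw [Nat.card_eq_fintype_card, Fintype.card_subtype]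
        rw [this, ← mul_assoc, inv_mul_cancel₀ hT0, one_mul]

/-- **Orthonormality of induced characters** under an orthogonality hypothesis on the conjugates
of a self-adjoint element `e` acting as the identity on `ψ` and `ψ'`. -/
theorem classInner_indFun_indFun_of_orth {e : G → ℂ} (he : ∀ y, conj (e y) = e y⁻¹)
    (horth : ∀ g : G, g ∉ T → conv e (conjF g e) = 0)
    {ψ ψ' : T → ℂ} (hψ' : IsClassFunction T ψ')
    (h1 : conv e (fun x => conj (extZ T ψ x)) = fun x => conj (extZ T ψ x))
    (h2 : conv e (fun x => conj (extZ T ψ' x)) = fun x => conj (extZ T ψ' x)) :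
    classInner (indFun T ψ) (indFun T ψ') = classInner ψ ψ' := by
  classical
  have hT0 : (Nat.card T : ℂ) ≠ 0 := Nat.cast_ne_zero.2 Nat.card_pos.ne'
  rw [Cfsg.Agent.S0146.result T ψ (indFun T ψ') (indFun_isClassFunction T ψ')]
  rw [classInner_def, classInner_def]
  congr 1
  -- the pairing `I g`
  have hI : ∀ g : G, ∑ x : G, extZ T ψ x * conj (conjF g (extZ T ψ') x) =
      if g ∈ T then ∑ t : T, ψ t * conj (ψ' t) else 0 := by
    intro g
    by_cases hg : g ∈ T
    · rw [if_pos hg]
      have hc : conjF g (extZ T ψ') = extZ T ψ' := by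
        funext x
        rw [conjF_apply]
        have := extZ_conj_of_mem T hψ' (T.inv_mem hg) x
        rwa [inv_inv] at this
      rw [hc, sum_extZ_mul]
      refine Finset.sum_congr rfl fun t _ => ?_
      rw [extZ_coe]
    · rw [if_neg hg]
      set Φ : G → ℂ := fun x => conj (extZ T ψ x) with hΦ
      set Φ' : G → ℂ := fun x => conj (extZ T ψ' x) with hΦ'
      set A : G → ℂ := conjF g Φ' with hA
      have hA0 : conv e A = 0 := by
        have : A = conv (conjF g e) A := by
          rw [hA, conv_conjF, h2]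
        rw [this, ← conv_assoc, horth g hg, conv_zero_left]
      have e1 : ∑ x : G, extZ T ψ x * conj (conjF g (extZ T ψ') x)
          = ∑ x : G, A x * conj (Φ x) := by
        refine Finset.sum_congr rfl fun x _ => ?_
        simp only [hA, hΦ, hΦ', conjF_apply, Complex.conj_conj]
        ring
      rw [e1]
      conv_lhs => rw [← h1]
      rw [← sum_conv_mul_conj he, hA0]
      simp
  calc ∑ t : T, ψ t * conj (indFun T ψ' t)
      = ∑ x : G, extZ T ψ x * conj (indFun T ψ' x) :=
        (sum_extZ_mul T ψ (fun x => conj (indFun T ψ' x))).symm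
    _ = ∑ x : G, extZ T ψ x * ((Nat.card T : ℂ)⁻¹ * ∑ g : G, conj (conjF g (extZ T ψ') x)) := by
        refine Finset.sum_congr rfl fun x _ => ?_
        rw [indFun_apply', map_mul, map_inv₀, map_natCast, map_sum]
    _ = (Nat.card T : ℂ)⁻¹ * ∑ g : G, ∑ x : G, extZ T ψ x * conj (conjF g (extZ T ψ') x) := by
        rw [Finset.sum_comm, Finset.mul_sum]
        refine Finset.sum_congr rfl fun x _ => ?_
        rw [Finset.mul_sum, Finset.mul_sum, Finset.mul_sum]
        refine Finset.sum_congr rfl fun g _ => ?_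
        ring
    _ = (Nat.card T : ℂ)⁻¹ * ∑ g : G, (if g ∈ T then ∑ t : T, ψ t * conj (ψ' t) else 0) := by
        congr 1
        exact Finset.sum_congr rfl fun g _ => hI g
    _ = ∑ t : T, ψ t * conj (ψ' t) := by
        rw [← Finset.sum_filter, Finset.sum_const, nsmul_eq_mul]
        have : (Finset.univ.filter (fun g : G => g ∈ T)).card = Nat.card T := by
          rw [Nat.card_eq_fintype_card, Fintype.card_subtype]
        rw [this, ← mul_assoc, inv_mul_cancel₀ hT0, one_mul]

end

end Cfsg.Agent.Lib.Helper8
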