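import Mathlib
import Cfsg.Prelude.Def_Blocks
import Cfsg.Agent.Lib.Helper8.SM4
import Cfsg.Agent.Lib.Helper8.FR1
import Cfsg.Agent.Lib.Helper8.FR2
import Cfsg.Agent.Lib.Helper8.InducedOmega
import Cfsg.Agent.Lib.Helper8.BlockMinMax
import Cfsg.Agent.Lib.Helper8.BlockFirstMain3
import Cfsg.Agent.Lib.Helper8.BlockOrth2

/-!
# Brauer's second main theorem, idempotent form
-/

set_option autoImplicit false

namespace Cfsg.Agent.Lib.Helper8

open Cfsg
open scoped ComplexConjugate
open Cfsg.Agent.Lib.Helper1 Cfsg.Agent.Lib.Helper4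

universe u

section

variable {G : Type u} [Group G] [Fintype G] {M : Ideal AlgInt} {p : ℕ}

/-- Class functions are central for convolution. -/
theorem conv_comm_of_isClassFunction {e : G → ℂ} (he : IsClassFunction G e) (f : G → ℂ) :
    conv e f = conv f e := by
  funext x
  rw [conv_apply, conv_apply]
  rw [← Equiv.sum_comp ((Equiv.inv G).trans (Equiv.mulLeft x))]
  refine Finset.sum_congr rfl fun y _ => ?_
  simp only [Equiv.trans_apply, Equiv.inv_apply, Equiv.coe_mulLeft]
  have e1 : (x * y⁻¹)⁻¹ * x = y := by group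
  have e2 : x * y⁻¹ = y * (y⁻¹ * x) * y⁻¹ := by group
  rw [e1, e2, he, mul_comm]

/-- The product of a central idempotent and an idempotent is an idempotent. -/
theorem conv_idem_of_central {e f : G → ℂ} (he : IsClassFunction G e) (hee : conv e e = e)
    (hff : conv f f = f) : conv (conv f e) (conv f e) = conv f e := by
  calc conv (conv f e) (conv f e) = conv f (conv (conv e f) e) := by
        rw [conv_assoc, conv_assoc]
    _ = conv f (conv (conv f e) e) := by rw [conv_comm_of_isClassFunction he f]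
    _ = conv (conv f f) (conv e e) := by rw [conv_assoc, conv_assoc]
    _ = conv f e := by rw [hee, hff]

theorem deltaOne_eq_extZ (H : Subgroup G) : (deltaOne : G → ℂ) = extZ H (deltaOne : H → ℂ) := by
  classical
  funext g
  by_cases hg : g ∈ H
  · rw [extZ_of_mem H _ hg]
    unfold deltaOne
    by_cases h1 : g = 1
    · rw [if_pos h1, if_pos (Subtype.ext h1)]
    · rw [if_neg h1, if_neg (fun h => h1 (congrArg Subtype.val h))]
  · rw [extZ_of_not_mem H _ hg]
    unfold deltaOne
    rw [if_neg]
    rintro rfl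
    exact hg H.one_mem

/-- **Second main theorem, idempotent form.**  If the block `b` of `H` induces the block `B` of
`G`, `a ∈ H` is such that `H` contains the centralizer of the `p`-part of `a`, and `χ` is an
irreducible character of `G` outside `B`, then `χ` vanishes at `a f_b`. -/
theorem second_main_idempotent [Fact p.Prime] (hM : IsPModular p M) (H : Subgroup G) [Fintype H]
    {b : Set (IrrCharacter H)} {B : Set (IrrCharacter G)} (hind : IsInducedBlock M H b B)
    {a u : G} (ha : a ∈ H) (hau : IsPPart p a u)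
    (hC : Subgroup.centralizer ({u} : Set G) ≤ H) {χ : IrrCharacter G} (hχ : χ ∉ B) :
    ∑ k : H, blockCoeff b k * (χ : G → ℂ) (a * (k : G)) = 0 := by
  classical
  have : Fintype (IrrCharacter H) := Fintype.ofFinite _
  have hMp := isPModular_isPrime hM
  obtain ⟨hb, hB, _⟩ := hind
  -- the block of `χ`
  obtain ⟨B', hB'def⟩ : ∃ B' : Set (IrrCharacter G), B' = blockOf M (χ : G → ℂ) := ⟨_, rfl⟩
  have hB' : IsPBlock M B' := ⟨χ, hB'def⟩
  have hχB' : χ ∈ B' := by rw [hB'def]; exact sameBlock_refl hMp.ne_top _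
  have hdisj : ∀ χ₁ : IrrCharacter G, χ₁ ∈ B → χ₁ ∉ B' := by
    intro χ₁ h1 h2
    apply hχ
    rw [eq_blockOf_of_mem hMp hB h1, ← eq_blockOf_of_mem hMp hB' h2]
    exact hχB'
  obtain ⟨hecf, heS, heω⟩ := blockCoeff_spec hMp hB'
  obtain ⟨hfcf, hfS, hfω⟩ := blockCoeff_spec hMp hb
  have hee := conv_blockCoeff_self hMp hB'
  have hff0 := conv_blockCoeff_self hMp hb
  set e : G → ℂ := blockCoeff B' with hedef
  set f : G → ℂ := extZ H (blockCoeff b) with hfdef
  have hff : conv f f = f := by rw [hfdef, conv_extZ, hff0]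
  have hfSS : ∀ x, MemLocalRing M (f x) := by
    intro x
    by_cases hx : x ∈ H
    · rw [hfdef, extZ_of_mem H _ hx]; exact hfS _
    · rw [hfdef, extZ_of_not_mem H _ hx]; exact memLocalRing_zero hMp.ne_top
  have hfsupp : ∀ g, g ∉ H → f g = 0 := fun g hg => extZ_of_not_mem H _ hg
  set j : G → ℂ := conv f e with hjdef
  have hjS : ∀ x, MemLocalRing M (j x) := memLocalRing_conv hMp hfSS heS
  have hjj : conv j j = j := conv_idem_of_central hecf hee hff
  -- invariance under conjugation by `a`
  have hfa : ∀ x, f (a * x * a⁻¹) = f x := by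
    intro x
    by_cases hx : x ∈ H
    · have hx' : a * x * a⁻¹ ∈ H := H.mul_mem (H.mul_mem ha hx) (H.inv_mem ha)
      rw [hfdef, extZ_of_mem H _ hx', extZ_of_mem H _ hx]
      exact hfcf ⟨x, hx⟩ ⟨a, ha⟩
    · have hx' : a * x * a⁻¹ ∉ H := by
        intro h
        apply hx
        have : x = a⁻¹ * (a * x * a⁻¹) * a := by group
        rw [this]
        exact H.mul_mem (H.mul_mem (H.inv_mem ha) h) ha
      rw [hfsupp _ hx', hfsupp _ hx]
  have hja : ∀ x, j (a * x * a⁻¹) = j x := by
    intro x
    rw [hjdef, conv_apply, conv_apply]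
    rw [← Equiv.sum_comp (MulAut.conj a).toEquiv]
    refine Finset.sum_congr rfl fun y _ => ?_
    show f (a * y * a⁻¹) * e ((a * y * a⁻¹)⁻¹ * (a * x * a⁻¹)) = f y * e (y⁻¹ * x)
    have e1 : (a * y * a⁻¹)⁻¹ * (a * x * a⁻¹) = a * (y⁻¹ * x) * a⁻¹ := by group
    rw [hfa, e1, hecf]
  -- the truncation of `j` to `H`
  set zH : H → ℂ := conv (blockCoeff b) (fun k : H => e k) with hzHdef
  have hercf : IsClassFunction H (fun k : H => e k) := isClassFunction_restrict H hecf
  have hzHcf : IsClassFunction H zH := isClassFunction_conv hfcf hercf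
  have hzHS : ∀ k, MemLocalRing M (zH k) := memLocalRing_conv hMp hfS (fun k => heS _)
  have htrunc : truncTo (H : Set G) j = extZ H zH := by
    funext g
    by_cases hg : g ∈ H
    · rw [truncTo_of_mem _ (show g ∈ (H : Set G) from hg), extZ_of_mem H _ hg, hjdef]
      have := conv_extZ_restrict H f e hfsupp ⟨g, hg⟩
      rw [this, hzHdef]
      congr 1
      funext k
      rw [hfdef, extZ_coe]
    · rw [truncTo_of_not_mem _ (show g ∉ (H : Set G) from hg), extZ_of_not_mem H _ hg]
  -- all central characters of `zH` lie in the local ideal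
  obtain ⟨χ₁, hχ₁⟩ := isPBlock_nonempty hMp hB
  have hzω : ∀ ψ : IrrCharacter H, MemLocalIdeal M (omega (ψ : H → ℂ) zH) := by
    intro ψ
    rw [hzHdef, omega_conv ψ.2 hercf, hfω ψ]
    by_cases hψ : ψ ∈ b
    · rw [if_pos hψ, one_mul]
      have h1 := omega_restrict_cong_of_induced hMp H ⟨hb, hB, ‹_›⟩ hψ hχ₁ hecf heS
      rw [heω χ₁, if_neg (hdisj χ₁ hχ₁), sub_zero] at h1
      exact h1
    · rw [if_neg hψ, zero_mul]
      exact memLocalIdeal_zero hMp.ne_top
  -- the inverse of `1 - zH`
  have hr : (fun ψ : IrrCharacter H => 1 - omega (ψ : H → ℂ) zH) ∈ omegaRing M hMp H := by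
    refine ⟨deltaOne - zH, isClassFunction_sub' isClassFunction_deltaOne hzHcf, fun k => ?_,
      fun ψ => ?_⟩
    · exact memLocalRing_sub hMp (memLocalRing_deltaOne hMp.ne_top k) (hzHS k)
    · rw [omega_sub, omega_deltaOne (irr_apply_one_ne_zero ψ.2)]
  obtain ⟨wH, hwHcf, hwHS, hwHω⟩ := inv_mem_of_units hMp (omegaRing M hMp H)
    (fun c hc => const_mem_omegaRing hMp hc)
    (fun r hr i => apply_memLocalRing_of_mem_omegaRing hMp hr i) _ hr
    (fun ψ h => by
      have := memLocalIdeal_add hMp h (hzω ψ)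
      rw [sub_add_cancel] at this
      exact not_memLocalIdeal_one hMp this)
  have hwinv : conv wH (deltaOne - zH) = deltaOne := by
    apply eq_of_omega_eq (isClassFunction_conv hwHcf
      (isClassFunction_sub' isClassFunction_deltaOne hzHcf)) isClassFunction_deltaOne
    intro ψ
    rw [omega_conv ψ.2 (isClassFunction_sub' isClassFunction_deltaOne hzHcf), hwHω ψ, omega_sub,
      omega_deltaOne (irr_apply_one_ne_zero ψ.2)]
    apply inv_mul_cancel₀
    intro h0
    have := hzω ψ
    have h1 : omega (ψ : H → ℂ) zH = 1 := by linear_combination -h0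
    rw [h1] at this
    exact not_memLocalIdeal_one hMp this
  have hw : conv (extZ H wH) (deltaOne - truncTo (H : Set G) j) = deltaOne := by
    have : (deltaOne : G → ℂ) - truncTo (H : Set G) j = extZ H (deltaOne - zH) := by
      rw [htrunc, deltaOne_eq_extZ H]
      funext g
      by_cases hg : g ∈ H
      · rw [Pi.sub_apply, extZ_of_mem H _ hg, extZ_of_mem H _ hg, extZ_of_mem H _ hg]
        rfl
      · rw [Pi.sub_apply, extZ_of_not_mem H _ hg, extZ_of_not_mem H _ hg, extZ_of_not_mem H _ hg,
          sub_zero]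
    rw [this, conv_extZ, hwinv, ← deltaOne_eq_extZ]
  have hwS : ∀ x, MemLocalRing M (extZ H wH x) := by
    intro x
    by_cases hx : x ∈ H
    · rw [extZ_of_mem H _ hx]; exact hwHS _
    · rw [extZ_of_not_mem H _ hx]; exact memLocalRing_zero hMp.ne_top
  have key := sum_idem_mul_classFunction_eq_zero hM H hjS hjj ha hau hC hja (extZ H wH) hwS hw
    (isClassFunction_irr χ.2)
  -- unfold `j`
  have h1 : ∑ x : G, j x * (χ : G → ℂ) (a * x) = ∑ y : G, f y * (χ : G → ℂ) (a * y) := by
    simp only [hjdef, conv_apply, Finset.sum_mul]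
    rw [Finset.sum_comm]
    refine Finset.sum_congr rfl fun y _ => ?_
    have h2 : ∑ x : G, f y * e (y⁻¹ * x) * (χ : G → ℂ) (a * x)
        = f y * ∑ x' : G, e x' * (χ : G → ℂ) (a * y * x') := by
      rw [Finset.mul_sum, ← Equiv.sum_comp (Equiv.mulLeft y)]
      refine Finset.sum_congr rfl fun x' _ => ?_
      simp only [Equiv.coe_mulLeft]
      rw [inv_mul_cancel_left, mul_assoc, mul_assoc]
    rw [h2, sum_classFunction_mul_irr χ.2 e hecf (a * y)]
    have h3 : (∑ g : G, e g * (χ : G → ℂ) g) / (χ : G → ℂ) 1 = 1 := by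
      have := heω χ
      rw [if_pos hχB'] at this
      exact this
    rw [h3, one_mul]
  rw [h1, sum_extZ_mul] at key
  exact key

end

end Cfsg.Agent.Lib.Helper8
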