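import Mathlib
import Cfsg.Prelude.Def_Blocks
import Cfsg.Agent.Lib.Helper8.CA1
import Cfsg.Agent.Lib.Helper8.SM5
import Cfsg.Agent.Lib.Helper8.BlockHom
import Cfsg.Agent.Lib.Helper8.BlockFirstMain5
import Cfsg.Agent.Lib.Helper8.BlockCenterDefect

/-!
# The radical of the centre of a block is nilpotent modulo the local ideal
-/

set_option autoImplicit false

namespace Cfsg.Agent.Lib.Helper8

open Cfsg
open scoped ComplexConjugate
open Cfsg.Agent.Lib.Helper1 Cfsg.Agent.Lib.Helper4

universe u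

section

variable {K : Type u} [Group K] [Fintype K] {M : Ideal AlgInt}

/-- The subring of class functions with values in the local ring. -/
def ZS (hM : M.IsPrime) : Subring (CAlg K) where
  carrier := {z | IsClassFunction K (CAlg.fn z) ∧ ∀ x, MemLocalRing M (z x)}
  mul_mem' := fun ha hb => ⟨isClassFunction_conv ha.1 hb.1, memLocalRing_conv hM ha.2 hb.2⟩
  one_mem' := ⟨isClassFunction_deltaOne, memLocalRing_deltaOne hM.ne_top⟩
  add_mem' := fun ha hb => ⟨isClassFunction_add' ha.1 hb.1,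
    fun x => memLocalRing_add hM (ha.2 x) (hb.2 x)⟩
  zero_mem' := ⟨isClassFunction_zero', fun _ => memLocalRing_zero hM.ne_top⟩
  neg_mem' := fun ha => ⟨isClassFunction_neg' ha.1, fun x => memLocalRing_neg (ha.2 x)⟩

theorem mem_ZS (hM : M.IsPrime) (z : CAlg K) :
    z ∈ ZS (K := K) hM ↔ IsClassFunction K (CAlg.fn z) ∧ ∀ x, MemLocalRing M (z x) := Iff.rfl

noncomputable instance instCommRingZS (hM : M.IsPrime) : CommRing (ZS (K := K) hM) :=
  { (inferInstance : Ring (ZS (K := K) hM)) with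
    mul_comm := fun a b => Subtype.ext (conv_comm_of_isClassFunction a.2.1 (CAlg.fn b.1)) }

/-- The ideal of functions with values in the local ideal. -/
def ZJ (hM : M.IsPrime) : Ideal (ZS (K := K) hM) where
  carrier := {z | ∀ x, MemLocalIdeal M (z.1 x)}
  add_mem' := fun ha hb x => memLocalIdeal_add hM (ha x) (hb x)
  zero_mem' := fun _ => memLocalIdeal_zero hM.ne_top
  smul_mem' := fun c _ hz x => memLocalIdeal_conv_right hM c.2.2 hz x

theorem mem_ZJ (hM : M.IsPrime) (z : ZS (K := K) hM) :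
    z ∈ ZJ hM ↔ ∀ x, MemLocalIdeal M (z.1 x) := Iff.rfl

/-- The central character as a ring homomorphism on `ZS`. -/
noncomputable def omegaHom (hM : M.IsPrime) (ψ : IrrCharacter K) : ZS (K := K) hM →+* ℂ where
  toFun z := omega (ψ : K → ℂ) (CAlg.fn z.1)
  map_one' := omega_deltaOne (irr_apply_one_ne_zero ψ.2)
  map_mul' _ b := omega_conv ψ.2 b.2.1
  map_zero' := omega_zero _
  map_add' _ _ := omega_add _ _ _

theorem omegaHom_apply (hM : M.IsPrime) (ψ : IrrCharacter K) (z : ZS (K := K) hM) :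
    omegaHom hM ψ z = omega (ψ : K → ℂ) (CAlg.fn z.1) := rfl

theorem eq_zero_of_omegaHom (hM : M.IsPrime) (z : ZS (K := K) hM)
    (h : ∀ ψ : IrrCharacter K, omegaHom hM ψ z = 0) : z = 0 := by
  apply Subtype.ext
  exact eq_zero_of_omega_eq_zero z.2.1 h

/-- Scalars from the local ring, as elements of `ZS`. -/
noncomputable def scal (hM : M.IsPrime) (c : ℂ) (hc : MemLocalRing M c) : ZS (K := K) hM :=
  ⟨c • (1 : CAlg K), by
    refine ⟨?_, fun x => ?_⟩
    · intro x t
      change c * (deltaOne : K → ℂ) _ = c * (deltaOne : K → ℂ) _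
      rw [isClassFunction_deltaOne x t]
    · exact memLocalRing_mul hM hc (memLocalRing_deltaOne hM.ne_top x)⟩

theorem omegaHom_scal (hM : M.IsPrime) (ψ : IrrCharacter K) (c : ℂ) (hc : MemLocalRing M c) :
    omegaHom hM ψ (scal (K := K) hM c hc) = c := by
  rw [omegaHom_apply]
  change omega (ψ : K → ℂ) (c • (deltaOne : K → ℂ)) = c
  rw [omega_smul, omega_deltaOne (irr_apply_one_ne_zero ψ.2), mul_one]

theorem scal_mem_ZJ (hM : M.IsPrime) (c : ℂ) (hc : MemLocalIdeal M c) :
    scal (K := K) hM c (memLocalRing_of_memLocalIdeal hc) ∈ ZJ hM := by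
  intro x
  exact memLocalIdeal_mul_right hM hc (memLocalRing_deltaOne hM.ne_top x)

/-- The block idempotent as an element of `ZS`. -/
noncomputable def ebZ (hM : M.IsPrime) {b : Set (IrrCharacter K)} (hb : IsPBlock M b) :
    ZS (K := K) hM :=
  ⟨CAlg.of (blockCoeff b), (blockCoeff_spec hM hb).1, (blockCoeff_spec hM hb).2.1⟩

theorem omegaHom_ebZ (hM : M.IsPrime) {b : Set (IrrCharacter K)} (hb : IsPBlock M b)
    (ψ : IrrCharacter K) :
    omegaHom hM ψ (ebZ hM hb) = (by classical exact if ψ ∈ b then (1 : ℂ) else 0) :=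
  omega_blockCoeff b ψ

theorem ebZ_mul_self (hM : M.IsPrime) {b : Set (IrrCharacter K)} (hb : IsPBlock M b) :
    ebZ hM hb * ebZ hM hb = ebZ (K := K) hM hb := by
  apply Subtype.ext
  change conv (blockCoeff b) (blockCoeff b) = blockCoeff b
  rw [conv_blockCoeff_blockCoeff, Set.inter_self]

/-- In a commutative ring, a product of `z - c t` with all `c t` in an ideal is congruent to a
power of `z`. -/
theorem prod_sub_mem {R : Type*} [CommRing R] (I : Ideal R) {ι : Type*} (T : Finset ι) (z : R)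
    (c : ι → R) (hc : ∀ t ∈ T, c t ∈ I) : ∏ t ∈ T, (z - c t) - z ^ T.card ∈ I := by
  rw [← Ideal.Quotient.eq, map_prod, map_pow]
  rw [Finset.prod_congr rfl (fun t ht => by
    rw [map_sub, Ideal.Quotient.eq_zero_iff_mem.2 (hc t ht), sub_zero])]
  rw [Finset.prod_const]

/-- An element of the block with all central characters in the local ideal is nilpotent modulo the
local ideal. -/
theorem pow_mem_ZJ (hM : M.IsPrime) {b : Set (IrrCharacter K)} (hb : IsPBlock M b)
    (z : ZS (K := K) hM) (hz : ebZ hM hb * z = z)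
    (hω : ∀ θ ∈ b, MemLocalIdeal M (omegaHom hM θ z)) :
    ∃ n : ℕ, z ^ n ∈ ZJ hM := by
  classical
  have : Fintype (IrrCharacter K) := Fintype.ofFinite _
  refine ⟨(Finset.univ.filter (fun θ : IrrCharacter K => θ ∈ b)).card, ?_⟩
  set T := Finset.univ.filter (fun θ : IrrCharacter K => θ ∈ b) with hT
  have hTb : ∀ θ, θ ∈ T ↔ θ ∈ b := fun θ => by simp [hT]
  have hωS : ∀ θ : IrrCharacter K, MemLocalRing M (omegaHom hM θ z) := fun θ =>
    memLocalRing_omega hM θ.2 z.2.1 z.2.2
  let c : IrrCharacter K → ZS (K := K) hM := fun θ => scal hM (omegaHom hM θ z) (hωS θ)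
  have hc : ∀ θ ∈ T, c θ ∈ ZJ hM := fun θ hθ => scal_mem_ZJ hM _ (hω θ ((hTb θ).1 hθ))
  have h1 := prod_sub_mem (ZJ hM) T z c hc
  set P := ∏ θ ∈ T, (z - c θ) with hP
  -- `P * e_b = 0`
  have h2 : P * ebZ hM hb = 0 := by
    apply eq_zero_of_omegaHom hM
    intro ψ
    rw [map_mul, omegaHom_ebZ]
    by_cases hψ : ψ ∈ b
    · have : omegaHom hM ψ P = 0 := by
        rw [hP, map_prod]
        apply Finset.prod_eq_zero ((hTb ψ).2 hψ)
        rw [map_sub, omegaHom_scal, sub_self]
      rw [this, zero_mul]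
    · rw [if_neg hψ, mul_zero]
  -- `z ^ m * e_b = z ^ m`
  obtain ⟨θ₀, hθ₀⟩ := isPBlock_nonempty hM hb
  have hcard : 0 < T.card := Finset.card_pos.2 ⟨θ₀, (hTb θ₀).2 hθ₀⟩
  have h3 : z ^ T.card * ebZ hM hb = z ^ T.card := by
    obtain ⟨n, hn⟩ := Nat.exists_eq_succ_of_ne_zero hcard.ne'
    rw [hn, pow_succ, mul_assoc, mul_comm z, hz]
  have h4 : z ^ T.card = - ((P - z ^ T.card) * ebZ hM hb) := by
    rw [sub_mul, h2, h3]
    ring
  rw [h4]
  exact (ZJ hM).neg_mem ((ZJ hM).mul_mem_right _ h1)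

/-- Scalars from the local ring, as a ring homomorphism. -/
noncomputable def scalHom (hM : M.IsPrime) : localRing M hM →+* ZS (K := K) hM where
  toFun c := scal hM (c : ℂ) c.2
  map_one' := by
    apply Subtype.ext
    change ((1 : ℂ) • (1 : CAlg K)) = 1
    rw [one_smul]
  map_mul' a b := by
    apply Subtype.ext
    change (((a : ℂ) * (b : ℂ)) • (1 : CAlg K)) = ((a : ℂ) • (1 : CAlg K)) * ((b : ℂ) • (1 : CAlg K))
    rw [CAlg.smul_mul', CAlg.mul_smul', one_mul, smul_smul]
  map_zero' := by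
    apply Subtype.ext
    change ((0 : ℂ) • (1 : CAlg K)) = 0
    rw [zero_smul]
  map_add' a b := by
    apply Subtype.ext
    change (((a : ℂ) + (b : ℂ)) • (1 : CAlg K)) = ((a : ℂ) • (1 : CAlg K)) + ((b : ℂ) • (1 : CAlg K))
    rw [add_smul]

theorem scalHom_apply (hM : M.IsPrime) (c : localRing M hM) :
    scalHom (K := K) hM c = scal hM (c : ℂ) c.2 := rfl

theorem omegaHom_scalHom (hM : M.IsPrime) (ψ : IrrCharacter K) (c : localRing M hM) :
    omegaHom hM ψ (scalHom (K := K) hM c) = (c : ℂ) := omegaHom_scal hM ψ (c : ℂ) c.2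

theorem scalHom_mem_ZJ (hM : M.IsPrime) (c : localRing M hM) (hc : MemLocalIdeal M (c : ℂ)) :
    scalHom (K := K) hM c ∈ ZJ hM := scal_mem_ZJ hM _ hc

/-- The class indicator as an element of `ZS`. -/
noncomputable def indZ (hM : M.IsPrime) (g : K) : ZS (K := K) hM :=
  ⟨CAlg.of (classIndicator g), classIndicator_isClassFunction g,
    fun x => memLocalRing_classIndicator hM.ne_top g x⟩

/-- Decomposition of an element of `ZS` along class indicators. -/
theorem eq_sum_indZ (hM : M.IsPrime) [Fintype (ConjClasses K)] (z : ZS (K := K) hM) :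
    z = ∑ c : ConjClasses K,
      scalHom hM ⟨z.1 (Quotient.out c), z.2.2 _⟩ * indZ hM (Quotient.out c) := by
  classical
  apply Subtype.ext
  rw [AddSubmonoidClass.coe_finsetSum]
  have h1 := classFunction_eq_sum_classIndicator z.2.1
  have h2 : ∀ c : ConjClasses K,
      ((scalHom hM ⟨z.1 (Quotient.out c), z.2.2 _⟩ * indZ hM (Quotient.out c) :
        ZS (K := K) hM) : CAlg K)
      = CAlg.of (CAlg.fn z.1 (Quotient.out c) • classIndicator (Quotient.out c)) := by
    intro c
    change ((z.1 (Quotient.out c)) • (1 : CAlg K)) * CAlg.of (classIndicator (Quotient.out c)) = _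
    rw [CAlg.smul_mul', one_mul]
    rfl
  simp only [h2]
  ext x
  have := congrFun h1 x
  rw [Finset.sum_apply] at this
  change CAlg.fn z.1 x = _
  rw [this]
  rw [CAlg.sum_apply]
  rfl

/-- The generators of the radical of the block, modulo the local ideal. -/
noncomputable def genZ (hM : M.IsPrime) {b : Set (IrrCharacter K)} (hb : IsPBlock M b)
    (θ₀ : IrrCharacter K) (c : ConjClasses K) : ZS (K := K) hM :=
  (indZ hM (Quotient.out c) - scalHom hM ⟨omegaHom hM θ₀ (indZ hM (Quotient.out c)),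
    memLocalRing_omega hM θ₀.2 (indZ hM (Quotient.out c)).2.1 (indZ hM (Quotient.out c)).2.2⟩) *
    ebZ hM hb

theorem genZ_mem_radical (hM : M.IsPrime) {b : Set (IrrCharacter K)} (hb : IsPBlock M b)
    {θ₀ : IrrCharacter K} (hθ₀ : θ₀ ∈ b) (c : ConjClasses K) :
    genZ hM hb θ₀ c ∈ (ZJ (K := K) hM).radical := by
  classical
  rw [Ideal.mem_radical_iff]
  apply pow_mem_ZJ hM hb
  · unfold genZ
    rw [mul_comm, mul_assoc, ebZ_mul_self]
  · intro θ hθ
    unfold genZ
    rw [map_mul, map_sub, omegaHom_scalHom, omegaHom_ebZ, if_pos hθ, mul_one]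
    exact memLocalIdeal_omega_sub hM θ.2 θ₀.2 (sameBlock_of_mem hM hb hθ hθ₀)
      (indZ hM (Quotient.out c)).2.1 (indZ hM (Quotient.out c)).2.2

/-- Elements of the block with central characters in the local ideal lie in the ideal generated by
the generators and the local ideal. -/
theorem mem_span_genZ_sup (hM : M.IsPrime) {b : Set (IrrCharacter K)} (hb : IsPBlock M b)
    {θ₀ : IrrCharacter K} (_hθ₀ : θ₀ ∈ b) (z : ZS (K := K) hM) (hz : ebZ hM hb * z = z)
    (hω : MemLocalIdeal M (omegaHom hM θ₀ z)) :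
    z ∈ Ideal.span (Set.range (genZ hM hb θ₀)) ⊔ ZJ hM := by
  classical
  have : Fintype (ConjClasses K) := Fintype.ofFinite _
  set a : ConjClasses K → localRing M hM := fun c => ⟨omegaHom hM θ₀ (indZ hM (Quotient.out c)),
    memLocalRing_omega hM θ₀.2 (indZ hM (Quotient.out c)).2.1 (indZ hM (Quotient.out c)).2.2⟩
    with ha
  set v : ConjClasses K → localRing M hM := fun c => ⟨z.1 (Quotient.out c), z.2.2 _⟩ with hv
  have h1 : z = ∑ c, scalHom hM (v c) * indZ hM (Quotient.out c) := eq_sum_indZ hM z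
  have h2 : ∀ c, indZ hM (Quotient.out c) * ebZ hM hb
      = genZ hM hb θ₀ c + scalHom hM (a c) * ebZ hM hb := by
    intro c
    unfold genZ
    ring
  have h3 : z = ∑ c, scalHom hM (v c) * genZ hM hb θ₀ c +
      scalHom hM (∑ c, v c * a c) * ebZ hM hb := by
    calc z = z * ebZ hM hb := by rw [mul_comm, hz]
      _ = ∑ c, scalHom hM (v c) * (indZ hM (Quotient.out c) * ebZ hM hb) := by
          conv_lhs => rw [h1]
          rw [Finset.sum_mul]
          exact Finset.sum_congr rfl fun c _ => mul_assoc _ _ _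
      _ = ∑ c, (scalHom hM (v c) * genZ hM hb θ₀ c +
            scalHom hM (v c) * scalHom hM (a c) * ebZ hM hb) := by
          refine Finset.sum_congr rfl fun c _ => ?_
          rw [h2 c, mul_add, mul_assoc]
      _ = _ := by
          rw [Finset.sum_add_distrib, map_sum, Finset.sum_mul]
          congr 1
          refine Finset.sum_congr rfl fun c _ => ?_
          rw [map_mul]
  have h4 : ((∑ c, v c * a c : localRing M hM) : ℂ) = omegaHom hM θ₀ z := by
    conv_rhs => rw [h1]
    rw [map_sum]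
    push_cast
    refine Finset.sum_congr rfl fun c _ => ?_
    rw [map_mul, omegaHom_scalHom]
  rw [h3]
  apply Ideal.add_mem
  · apply Ideal.mem_sup_left
    apply Ideal.sum_mem
    intro c _
    exact Ideal.mul_mem_left _ _ (Ideal.subset_span ⟨c, rfl⟩)
  · apply Ideal.mem_sup_right
    apply Ideal.mul_mem_right
    apply scalHom_mem_ZJ
    rw [h4]
    exact hω

theorem sup_pow_le {R : Type*} [CommRing R] (I J : Ideal R) (k : ℕ) : (I ⊔ J) ^ k ≤ I ^ k ⊔ J := by
  induction k with
  | zero => simp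
  | succ k ih =>
    rw [pow_succ, pow_succ]
    calc (I ⊔ J) ^ k * (I ⊔ J) ≤ (I ^ k ⊔ J) * (I ⊔ J) := Ideal.mul_mono_left ih
      _ ≤ I ^ k * I ⊔ J := by
        rw [Ideal.sup_mul, Ideal.mul_sup, Ideal.mul_sup]
        refine sup_le (sup_le le_sup_left (le_sup_of_le_right Ideal.mul_le_right))
          (le_sup_of_le_right ?_)
        exact sup_le Ideal.mul_le_left Ideal.mul_le_left

/-- **Nilpotency of the radical of a block modulo the local ideal.** -/
theorem exists_nilpotency_bound (hM : M.IsPrime) {b : Set (IrrCharacter K)} (hb : IsPBlock M b) :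
    ∃ k : ℕ, ∀ zs : List (CAlg K),
      (∀ z ∈ zs, IsClassFunction K (CAlg.fn z) ∧ (∀ x, MemLocalRing M (z x)) ∧
        CAlg.of (blockCoeff b) * z = z ∧ ∀ θ ∈ b, MemLocalIdeal M (omega (θ : K → ℂ) (CAlg.fn z))) →
      zs.length = k → ∀ x, MemLocalIdeal M (zs.prod x) := by
  classical
  have : Fintype (ConjClasses K) := Fintype.ofFinite _
  obtain ⟨θ₀, hθ₀⟩ := isPBlock_nonempty hM hb
  set I := Ideal.span (Set.range (genZ (K := K) hM hb θ₀)) with hI
  have hIfg : I.FG := ⟨(Finset.univ.image (genZ (K := K) hM hb θ₀)), by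
    rw [hI]; congr 1; ext; simp⟩
  have hIrad : I ≤ (ZJ (K := K) hM).radical := by
    rw [hI, Ideal.span_le]
    rintro _ ⟨c, rfl⟩
    exact genZ_mem_radical hM hb hθ₀ c
  obtain ⟨k, hk⟩ := Ideal.exists_pow_le_of_le_radical_of_fg hIrad hIfg
  refine ⟨k, ?_⟩
  have key : ∀ zs : List (CAlg K),
      (∀ z ∈ zs, IsClassFunction K (CAlg.fn z) ∧ (∀ x, MemLocalRing M (z x)) ∧
        CAlg.of (blockCoeff b) * z = z ∧ ∀ θ ∈ b, MemLocalIdeal M (omega (θ : K → ℂ) (CAlg.fn z))) →
      ∃ P : ZS (K := K) hM, P ∈ (I ⊔ ZJ hM) ^ zs.length ∧ (P : CAlg K) = zs.prod := by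
    intro zs
    induction zs with
    | nil =>
      intro _
      exact ⟨1, by simp, rfl⟩
    | cons z zs ih =>
      intro h
      obtain ⟨P, hP, hPz⟩ := ih (fun z' hz' => h z' (List.mem_cons_of_mem _ hz'))
      obtain ⟨h1, h2, h3, h4⟩ := h z List.mem_cons_self
      have hz' : (⟨z, h1, h2⟩ : ZS (K := K) hM) ∈ I ⊔ ZJ hM := by
        apply mem_span_genZ_sup hM hb hθ₀
        · exact Subtype.ext h3
        · exact h4 θ₀ hθ₀
      refine ⟨⟨z, h1, h2⟩ * P, ?_, ?_⟩
      · rw [List.length_cons, pow_succ']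
        exact Ideal.mul_mem_mul hz' hP
      · rw [List.prod_cons, ← hPz]
        rfl
  intro zs hzs hlen x
  obtain ⟨P, hP, hPz⟩ := key zs hzs
  rw [hlen] at hP
  have h5 : P ∈ ZJ hM := by
    have := sup_pow_le I (ZJ hM) k hP
    exact (sup_le hk le_rfl) this
  rw [← hPz]
  exact h5 x

end

end Cfsg.Agent.Lib.Helper8
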