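import Mathlib
import Cfsg.Prelude.Def_Blocks
import Cfsg.Agent.Lib.Helper8.InducedOmega2
import Cfsg.Agent.Lib.Helper4.IndNormal
import Cfsg.Agent.S0174
import Cfsg.Agent.S0932

/-!
# Characters over characters of a normal subgroup: central characters (Navarro 9.1)
-/

set_option autoImplicit false

namespace Cfsg.Agent.Lib.Helper8

open Cfsg
open scoped ComplexConjugate
open Cfsg.Agent.Lib.Helper1 Cfsg.Agent.Lib.Helper4

universe u

section

variable {G : Type u} [Group G] [Fintype G] (N : Subgroup G) [hN : N.Normal] [Fintype N]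

/-- Clifford's theorem: the restriction of `χ` to `N` is proportional to the restriction of the
character induced from a constituent. -/
theorem restrict_eq_smul_indFun {χ : G → ℂ} (hχ : IsIrrCharacter G χ) {θ : N → ℂ}
    (hθ : IsIrrCharacter N θ) (h : classInner (fun n : N => χ n) θ ≠ 0) :
    ∃ c : ℂ, c ≠ 0 ∧ (fun n : N => χ n) = c • (fun n : N => indFun N θ n) := by
  classical
  have h1 := Cfsg.Agent.S0174.result N hN χ hχ θ hθ h
  have h2 := sum_conjFn N θ
  have h3 := indFun_normal_restrict N θ
  set k := Nat.card {g : G // ∀ h : N, conjFn N θ g h = θ h} with hk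
  have hk0 : (k : ℂ) ≠ 0 := by
    apply Nat.cast_ne_zero.2
    have : Nonempty {g : G // ∀ h : N, conjFn N θ g h = θ h} :=
      ⟨⟨1, fun h => by rw [conjFn_one]⟩⟩
    exact Nat.card_pos.ne'
  have hN0 : (Nat.card N : ℂ) ≠ 0 := Nat.cast_ne_zero.2 Nat.card_pos.ne'
  set S : N → ℂ := ∑ᶠ ψ ∈ {ψ : N → ℂ | ∃ g : G, ψ = conjFn N θ g}, ψ with hS
  obtain ⟨e, he⟩ : ∃ e : ℂ, e = classInner (fun n : N => χ n) θ := ⟨_, rfl⟩
  have h1' : (fun n : N => χ n) = e • S := by rw [he]; exact h1
  refine ⟨e * ((Nat.card N : ℂ) / (k : ℂ)), ?_, ?_⟩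
  · rw [he]
    exact mul_ne_zero h (div_ne_zero hN0 hk0)
  · rw [h1', h3, h2, smul_smul, smul_smul]
    congr 1
    field_simp

/-- **Navarro 9.1** (one direction): if `θ` lies under `χ` then the central character of `χ` on
`N` is the induced central character of `θ`. -/
theorem centralChar_eq_inducedCentralChar {χ : G → ℂ} (hχ : IsIrrCharacter G χ) {θ : N → ℂ}
    (hθ : IsIrrCharacter N θ) (h : classInner (fun n : N => χ n) θ ≠ 0) (n : N) :
    centralChar χ (n : G) = inducedCentralChar N θ (n : G) := by
  obtain ⟨c, hc, hres⟩ := restrict_eq_smul_indFun N hχ hθ h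
  rw [Cfsg.Agent.S0932.result N θ (isCharacter_of_irr hθ)]
  unfold centralChar
  have e1 : χ (n : G) = c * indFun N θ (n : G) := congrFun hres n
  have e2 : χ 1 = c * indFun N θ 1 := congrFun hres 1
  rw [e1, e2]
  have h1 : indFun N θ 1 ≠ 0 := by
    intro h0
    apply irr_apply_one_ne_zero hχ
    rw [e2, h0, mul_zero]
  field_simp

/-- A character with nonzero degree has an irreducible constituent. -/
theorem exists_irr_constituent {K : Type u} [Group K] [Fintype K] {ψ : K → ℂ}
    (hψ : IsCharacter K ψ) (h1 : ψ 1 ≠ 0) :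
    ∃ θ : IrrCharacter K, classInner ψ (θ : K → ℂ) ≠ 0 := by
  classical
  have : Fintype (IrrCharacter K) := Fintype.ofFinite _
  by_contra hcon
  push Not at hcon
  apply h1
  have hexp := class_function_expansion ψ (isClassFunction_of_isCharacter hψ)
  rw [hexp, Finset.sum_apply]
  apply Finset.sum_eq_zero
  intro θ _
  rw [hcon θ, zero_smul]
  rfl

omit [Fintype G] in
/-- Conjugates of constituents are constituents. -/
theorem classInner_restrict_conjFn {χ : G → ℂ} (hχ : IsClassFunction G χ) (θ : N → ℂ) (g : G) :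
    classInner (fun n : N => χ n) (conjFn N θ g) = classInner (fun n : N => χ n) θ :=
  Cfsg.Agent.S0174.classInner_restrict_conjFun N χ hχ θ g

/-- If the induced characters of two irreducible characters of `N` are not orthogonal, the
characters are conjugate. -/
theorem exists_conjFn_eq_of_classInner_indFun {θ θ' : N → ℂ} (hθ : IsIrrCharacter N θ)
    (hθ' : IsIrrCharacter N θ') (h : classInner (indFun N θ) (indFun N θ') ≠ 0) :
    ∃ g : G, θ = conjFn N θ' g := by
  rw [classInner_indFun_normal] at h
  by_contra hcon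
  push Not at hcon
  apply h
  rw [Finset.sum_eq_zero, mul_zero]
  intro g _
  exact classInner_irr_ne hθ (isIrrCharacter_conjFn N hθ' g) (hcon g)

/-- **Navarro 9.1**: `θ` lies under `χ` iff the central character of `χ` on `N` is the induced
central character of `θ`. -/
theorem classInner_restrict_ne_zero_iff {χ : G → ℂ} (hχ : IsIrrCharacter G χ) {θ : N → ℂ}
    (hθ : IsIrrCharacter N θ) :
    classInner (fun n : N => χ n) θ ≠ 0 ↔
      ∀ n : N, centralChar χ (n : G) = inducedCentralChar N θ (n : G) := by
  classical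
  constructor
  · intro h n
    exact centralChar_eq_inducedCentralChar N hχ hθ h n
  · intro hall
    have hres : IsCharacter N (fun n : N => χ n) :=
      Cfsg.Agent.S0148.isCharacter_restrict N (isCharacter_of_irr hχ)
    obtain ⟨θ', hθ'⟩ := exists_irr_constituent hres (irr_apply_one_ne_zero hχ)
    have hall' : ∀ n : N, inducedCentralChar N θ (n : G) = inducedCentralChar N (θ' : N → ℂ) (n : G) := by
      intro n
      rw [← hall n, centralChar_eq_inducedCentralChar N hχ θ'.2 hθ' n]
    -- the induced characters are proportional on `N`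
    have hI1 : indFun N θ 1 ≠ 0 := (charDegree_indFun N hθ).1 ▸
      Nat.cast_ne_zero.2 (charDegree_indFun N hθ).2
    have hI1' : indFun N (θ' : N → ℂ) 1 ≠ 0 := (charDegree_indFun N θ'.2).1 ▸
      Nat.cast_ne_zero.2 (charDegree_indFun N θ'.2).2
    have hprop : (fun n : N => indFun N θ n) =
        (indFun N θ 1 / indFun N (θ' : N → ℂ) 1) • (fun n : N => indFun N (θ' : N → ℂ) n) := by
      funext n
      have h1 := hall' n
      rw [Cfsg.Agent.S0932.result N θ (isCharacter_of_irr hθ),
        Cfsg.Agent.S0932.result N _ (isCharacter_of_irr θ'.2)] at h1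
      unfold centralChar at h1
      have hidx : ((Subgroup.centralizer ({(n : G)} : Set G)).index : ℂ) ≠ 0 :=
        Nat.cast_ne_zero.2 (Subgroup.index_ne_zero_of_finite)
      rw [Pi.smul_apply, smul_eq_mul]
      field_simp at h1 ⊢
      linear_combination h1
    -- `[θ^G, θ^G] ≠ 0`
    have h2 : classInner (indFun N θ) (indFun N θ) ≠ 0 := by
      intro h0
      exact hI1 (eq_zero_of_classInner_self_eq_zero h0 1)
    rw [Cfsg.Agent.S0146.result N θ _ (indFun_isClassFunction N θ), hprop,
      classInner_smul_right, ← Cfsg.Agent.S0146.result N θ _ (indFun_isClassFunction N _)] at h2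
    have h3 : classInner (indFun N θ) (indFun N (θ' : N → ℂ)) ≠ 0 := fun h0 => h2 (by rw [h0, mul_zero])
    obtain ⟨g, hg⟩ := exists_conjFn_eq_of_classInner_indFun N hθ θ'.2 h3
    rw [hg, classInner_restrict_conjFn N (isClassFunction_irr hχ)]
    exact hθ'

end

end Cfsg.Agent.Lib.Helper8
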