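import Mathlib
import Cfsg.Prelude.Def_Blocks
import Cfsg.Agent.Lib.Helper8.Cover1
import Cfsg.Agent.Lib.Helper8.BlockPairCover

/-!
# Covering blocks: the orbit of covered blocks (Navarro 9.2, 9.3, Passman's criterion)
-/

set_option autoImplicit false

namespace Cfsg.Agent.Lib.Helper8

open Cfsg
open scoped ComplexConjugate
open Cfsg.Agent.Lib.Helper1 Cfsg.Agent.Lib.Helper4

universe u

section

variable {G : Type u} [Group G] [Fintype G] (N : Subgroup G) [hN : N.Normal] [Fintype N]
  {M : Ideal AlgInt}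

/-- The union of the `G`-conjugates of a set of irreducible characters of the normal
subgroup `N`. -/
def gOrbit (b : Set (IrrCharacter N)) : Set (IrrCharacter N) :=
  orbitUnion N b

omit [Fintype G] [Fintype N] hN in
theorem subset_gOrbit (b : Set (IrrCharacter N)) : b ⊆ gOrbit N b := subset_orbitUnion _ _

omit [Fintype N] in
theorem mem_gOrbit_iff (b : Set (IrrCharacter N)) (ψ : IrrCharacter N) :
    ψ ∈ gOrbit N b ↔ ∃ g : G, ∃ θ' ∈ b, ∀ n : N,
      (ψ : N → ℂ) n = (θ' : N → ℂ) ⟨g * n * g⁻¹, hN.conj_mem n n.2 g⟩ := by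
  constructor
  · rintro ⟨x, hx, θ', hθ', rfl⟩
    refine ⟨x⁻¹, θ', hθ', fun n => ?_⟩
    rw [conjIrr_apply]
    exact congrArg _ (Subtype.ext (by simp))
  · rintro ⟨g, θ', hθ', h⟩
    refine ⟨g⁻¹, mem_normalizer_of_normal N _, θ', hθ', ?_⟩
    apply Subtype.ext
    funext n
    rw [conjIrr_apply, h n]
    exact congrArg _ (Subtype.ext (by simp))

omit [Fintype N] in
/-- The idempotent of a `G`-orbit of blocks, extended by zero, is a class function of `G`. -/
theorem isClassFunction_extZ_gOrbit (b : Set (IrrCharacter N)) :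
    IsClassFunction G (extZ N (blockCoeff (gOrbit N b))) := by
  intro g x
  exact extZ_blockCoeff_conj_of_stable N _ x (mem_normalizer_of_normal N x)
    (conjIrr_image_orbitUnion N b x _) g

omit hN in
/-- If the induced central characters of `ψ` and `θ` are congruent on `N`, then their central
characters agree modulo the local ideal on every `G`-invariant class function of `N` with
local-integral values. -/
theorem omega_invariant_cong (hM : M.IsPrime) {ψ θ : N → ℂ}
    (hcong : ∀ n : N, MemLocalIdeal M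
      (inducedCentralChar N ψ (n : G) - inducedCentralChar N θ (n : G)))
    {F : N → ℂ} (hFinv : IsClassFunction G (extZ N F)) (hFS : ∀ n, MemLocalRing M (F n)) :
    MemLocalIdeal M (omega ψ F - omega θ F) := by
  classical
  have : Fintype (ConjClasses G) := Fintype.ofFinite _
  have hF : F = fun n : N => extZ N F (n : G) := by
    funext n
    rw [extZ_coe]
  rw [hF, omega_restrict_eq_sum_classes N ψ hFinv, omega_restrict_eq_sum_classes N θ hFinv,
    ← Finset.sum_sub_distrib]
  apply memLocalIdeal_sum hM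
  intro c _
  rw [← mul_sub]
  by_cases hc : Quotient.out c ∈ N
  · rw [extZ_of_mem N _ hc]
    exact memLocalIdeal_mul_left hM (hFS _) (hcong ⟨_, hc⟩)
  · rw [extZ_of_not_mem N _ hc, zero_mul]
    exact memLocalIdeal_zero hM.ne_top

/-- If the induced central characters of `ψ` and of `θ ∈ b` are congruent on `N`, then `ψ` lies in
a `G`-conjugate of the block `b`. -/
theorem mem_gOrbit_of_cong (hM : M.IsPrime) {b : Set (IrrCharacter N)} (hb : IsPBlock M b)
    {θ : IrrCharacter N} (hθ : θ ∈ b) (ψ : IrrCharacter N)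
    (hcong : ∀ n : N, MemLocalIdeal M
      (inducedCentralChar N (ψ : N → ℂ) (n : G) - inducedCentralChar N (θ : N → ℂ) (n : G))) :
    ψ ∈ gOrbit N b := by
  classical
  have hOS : ∀ k, MemLocalRing M (blockCoeff (gOrbit N b) k) :=
    memLocalRing_blockCoeff_of_union hM _
      (fun χ hχ => blockOf_subset_orbitUnion N hM hb hχ)
  have h1 := omega_invariant_cong N hM hcong (isClassFunction_extZ_gOrbit N b) hOS
  rw [omega_blockCoeff, omega_blockCoeff, if_pos (subset_gOrbit N b hθ)] at h1
  by_contra hψ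
  rw [if_neg hψ, zero_sub] at h1
  have := memLocalIdeal_neg h1
  rw [neg_neg] at this
  exact not_memLocalIdeal_one hM this

/-- The block `B` of `G` covers the block `b` of the normal subgroup `N`. -/
def Covers (B : Set (IrrCharacter G)) (b : Set (IrrCharacter N)) : Prop :=
  ∃ χ ∈ B, ∃ θ ∈ b, classInner (fun n : N => (χ : G → ℂ) n) (θ : N → ℂ) ≠ 0

omit hN in
/-- Induced central characters of characters in the same block are congruent. -/
theorem inducedCentralChar_cong_of_sameBlock (hM : M.IsPrime) {θ θ' : N → ℂ}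
    (hθ : IsIrrCharacter N θ) (hθ' : IsIrrCharacter N θ') (h : SameBlock M θ θ') (g : G) :
    MemLocalIdeal M (inducedCentralChar N θ g - inducedCentralChar N θ' g) := by
  rw [inducedCentralChar_eq_omega, inducedCentralChar_eq_omega]
  exact memLocalIdeal_omega_sub hM hθ hθ' h
    (isClassFunction_restrict N (classIndicator_isClassFunction g))
    (fun h => memLocalRing_classIndicator hM.ne_top g (h : G))

/-- **Passman's criterion**, one direction: if `B` covers `b` then the central characters of `B`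
on `N` are congruent to the induced central characters of `b`. -/
theorem covers_cong (hM : M.IsPrime) {B : Set (IrrCharacter G)} (hB : IsPBlock M B)
    {b : Set (IrrCharacter N)} (hb : IsPBlock M b) (hcov : Covers N B b)
    {χ : IrrCharacter G} (hχ : χ ∈ B) {θ : IrrCharacter N} (hθ : θ ∈ b) (n : N) :
    MemLocalIdeal M (centralChar (χ : G → ℂ) (n : G) -
      inducedCentralChar N (θ : N → ℂ) (n : G)) := by
  obtain ⟨χ₀, hχ₀, θ₀, hθ₀, h0⟩ := hcov
  have h1 := centralChar_eq_inducedCentralChar N χ₀.2 θ₀.2 h0 n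
  have h2 : SameBlock M (χ : G → ℂ) (χ₀ : G → ℂ) := by
    rw [eq_blockOf_of_mem hM hB hχ] at hχ₀
    exact hχ₀
  have h3 : SameBlock M (θ₀ : N → ℂ) (θ : N → ℂ) := by
    rw [eq_blockOf_of_mem hM hb hθ₀] at hθ
    exact hθ
  have h4 := h2 (n : G)
  rw [h1] at h4
  exact cong_trans hM h4 (inducedCentralChar_cong_of_sameBlock N hM θ₀.2 θ.2 h3 _)

/-- **Navarro 9.2**: if `B` covers `b`, every irreducible constituent of the restriction of a
member of `B` lies in a `G`-conjugate of `b`. -/
theorem mem_gOrbit_of_covers (hM : M.IsPrime) {B : Set (IrrCharacter G)} (hB : IsPBlock M B)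
    {b : Set (IrrCharacter N)} (hb : IsPBlock M b) (hcov : Covers N B b)
    {χ : IrrCharacter G} (hχ : χ ∈ B) {ψ : IrrCharacter N}
    (hψ : classInner (fun n : N => (χ : G → ℂ) n) (ψ : N → ℂ) ≠ 0) : ψ ∈ gOrbit N b := by
  obtain ⟨θ, hθ⟩ := isPBlock_nonempty hM hb
  apply mem_gOrbit_of_cong N hM hb hθ ψ
  intro n
  rw [← centralChar_eq_inducedCentralChar N χ.2 ψ.2 hψ n]
  exact covers_cong N hM hB hb hcov hχ hθ n

/-- **Passman's criterion**, converse direction. -/
theorem covers_of_cong (hM : M.IsPrime) {B : Set (IrrCharacter G)} (hB : IsPBlock M B)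
    {b : Set (IrrCharacter N)} (hb : IsPBlock M b)
    (hcong : ∀ χ ∈ B, ∀ θ ∈ b, ∀ n : N, MemLocalIdeal M (centralChar (χ : G → ℂ) (n : G) -
      inducedCentralChar N (θ : N → ℂ) (n : G))) : Covers N B b := by
  classical
  obtain ⟨χ, hχ⟩ := isPBlock_nonempty hM hB
  obtain ⟨θ, hθ⟩ := isPBlock_nonempty hM hb
  have hres : IsCharacter N (fun n : N => (χ : G → ℂ) n) :=
    Cfsg.Agent.S0148.isCharacter_restrict N (isCharacter_of_irr χ.2)
  obtain ⟨ψ, hψ⟩ := exists_irr_constituent hres (irr_apply_one_ne_zero χ.2)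
  have h1 : ψ ∈ gOrbit N b := by
    apply mem_gOrbit_of_cong N hM hb hθ ψ
    intro n
    rw [← centralChar_eq_inducedCentralChar N χ.2 ψ.2 hψ n]
    exact hcong χ hχ θ hθ n
  obtain ⟨x, hx, θ', hθ', rfl⟩ := h1
  refine ⟨χ, hχ, θ', hθ', ?_⟩
  -- `θ'` is a conjugate of a constituent
  have h2 : (conjIrr N x hx θ' : N → ℂ) = conjFn N (θ' : N → ℂ) x⁻¹ := by
    funext n
    rw [conjIrr_apply, conjFn_apply]
    exact congrArg _ (Subtype.ext (by simp))
  rw [h2, classInner_restrict_conjFn N (isClassFunction_irr χ.2)] at hψ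
  exact hψ

end

end Cfsg.Agent.Lib.Helper8
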