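import Mathlib
import Cfsg.Prelude.Def_Blocks
import Cfsg.Prelude.Def_BlockLocal
import Cfsg.Agent.Lib.Helper8.FR2
import Cfsg.Agent.Lib.Helper8.ConjChar2
import Cfsg.Agent.Lib.Helper8.BlockNormalTrace2
import Cfsg.Agent.Lib.Helper8.BlockExactIdem
import Cfsg.Agent.Lib.Helper8.BlockMinMax
import Cfsg.Agent.Lib.Helper8.BlockFirstMain
import Cfsg.Agent.Lib.Helper8.Deflation

/-!
# Fong–Reynolds, part 3: the idempotent of a block of a normal subgroup and its stabilizer
-/

set_option autoImplicit false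

namespace Cfsg.Agent.Lib.Helper8

open Cfsg
open scoped ComplexConjugate
open Cfsg.Agent.Lib.Helper1 Cfsg.Agent.Lib.Helper4

universe u

section

theorem conj_blockCoeff {K : Type u} [Group K] [Fintype K] (B : Set (IrrCharacter K)) (k : K) :
    conj (blockCoeff B k) = blockCoeff B k⁻¹ := by
  classical
  have : Fintype (IrrCharacter K) := Fintype.ofFinite _
  rw [blockCoeff_eq_sum, blockCoeff_eq_sum, map_mul, map_inv₀, map_natCast, map_sum]
  congr 1
  refine Finset.sum_congr rfl fun ψ _ => ?_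
  rw [map_mul, map_mul, Complex.conj_conj, isCharacter_inv (isCharacter_of_irr ψ.2),
    Complex.conj_conj]
  have h1 : conj ((ψ : K → ℂ) 1) = (ψ : K → ℂ) 1 := by
    rw [(irr_apply_one_eq_charDegree ψ.2).1]
    simp
  rw [h1]
  split_ifs <;> simp

variable {G : Type u} [Group G] (N : Subgroup G) [hN : N.Normal]

/-- The stabilizer condition as phrased in the statements, in terms of `StabilizesBlock`. -/
theorem stabilizesBlock_inv_iff (b : Set (IrrCharacter N)) (g : G) :
    (∀ θ ∈ b, ∀ θ' : IrrCharacter N, (∀ n : N, (θ' : N → ℂ) n =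
      (θ : N → ℂ) ⟨g * n * g⁻¹, hN.conj_mem n n.2 g⟩) → θ' ∈ b) ↔ StabilizesBlock N b g⁻¹ := by
  have hg : g⁻¹ ∈ Subgroup.normalizer (N : Set G) := by
    rw [Subgroup.normalizer_eq_top]
    trivial
  constructor
  · intro h
    refine ⟨hg, fun χ hχ => ⟨conjIrr N g⁻¹ hg χ, h χ hχ _ (fun n => ?_), isConjCharOf_conjIrr N g⁻¹ hg χ⟩⟩
    rw [conjIrr_apply]
    refine congrArg _ (Subtype.ext ?_)
    simp [conjAutOn]
  · rintro ⟨_, h⟩ θ hθ θ' hθ'
    obtain ⟨χ', hχ'b, hconj⟩ := h θ hθ
    have : θ' = χ' := by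
      apply Subtype.ext
      funext n
      rw [hθ' n]
      symm
      apply hconj
      simp [mul_assoc]
    rw [this]
    exact hχ'b

theorem mem_iff_stabilizesBlock (b : Set (IrrCharacter N)) (T : Subgroup G)
    (hT : ∀ g : G, g ∈ T ↔ ∀ θ ∈ b, ∀ θ' : IrrCharacter N, (∀ n : N, (θ' : N → ℂ) n =
      (θ : N → ℂ) ⟨g * n * g⁻¹, hN.conj_mem n n.2 g⟩) → θ' ∈ b) (g : G) :
    g ∈ T ↔ StabilizesBlock N b g := by
  rw [← T.inv_mem_iff, hT g⁻¹, stabilizesBlock_inv_iff, inv_inv]

end

section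

variable {G : Type u} [Group G] [Fintype G] (N : Subgroup G) [hN : N.Normal] [Fintype N]
  {M : Ideal AlgInt}

/-- The idempotent function of a set of irreducible characters of `N`, as a function on `G`. -/
noncomputable def eb (b : Set (IrrCharacter N)) : G → ℂ := extZ N (blockCoeff b)

omit [Fintype G] hN in
theorem conj_eb (b : Set (IrrCharacter N)) (y : G) : conj (eb N b y) = eb N b y⁻¹ := by
  unfold eb
  by_cases hy : y ∈ N
  · rw [extZ_of_mem N _ hy, extZ_of_mem N _ (N.inv_mem hy), conj_blockCoeff]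
    rfl
  · have : y⁻¹ ∉ N := fun h => hy (by simpa using N.inv_mem h)
    rw [extZ_of_not_mem N _ hy, extZ_of_not_mem N _ this, map_zero]

omit [Fintype N] in
theorem conjF_eb (b : Set (IrrCharacter N)) (g : G) :
    conjF g (eb N b) = eb N (conjIrr N g (mem_normalizer_of_normal N g) '' b) := by
  funext x
  unfold eb
  rw [conjF_apply]
  by_cases hx : x ∈ N
  · have hx' : g⁻¹ * x * g ∈ N := by
      have := hN.conj_mem x hx g⁻¹
      rwa [inv_inv] at this
    rw [extZ_of_mem N _ hx, extZ_of_mem N _ hx', blockCoeff_image_conjIrr]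
    rfl
  · have hx' : g⁻¹ * x * g ∉ N := by
      intro h
      apply hx
      have := hN.conj_mem _ h g
      have e : g * (g⁻¹ * x * g) * g⁻¹ = x := by group
      rwa [e] at this
    rw [extZ_of_not_mem N _ hx, extZ_of_not_mem N _ hx']

omit hN in
theorem conv_eb (b b' : Set (IrrCharacter N)) : conv (eb N b) (eb N b') = eb N (b ∩ b') := by
  unfold eb
  rw [conv_extZ, conv_blockCoeff_blockCoeff]

omit [Fintype G] [Fintype N] hN in
theorem eb_of_not_mem (b : Set (IrrCharacter N)) {g : G} (hg : g ∉ N) : eb N b g = 0 :=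
  extZ_of_not_mem N _ hg

variable (T : Subgroup G)

theorem conv_eb_conjF_eb_eq_zero (hM : M.IsPrime) {b : Set (IrrCharacter N)} (hb : IsPBlock M b)
    (hT : ∀ g : G, g ∈ T ↔ StabilizesBlock N b g) {g : G} (hg : g ∉ T) :
    conv (eb N b) (conjF g (eb N b)) = 0 := by
  rw [conjF_eb, conv_eb]
  have : b ∩ conjIrr N g (mem_normalizer_of_normal N g) '' b = ∅ := by
    rw [Set.eq_empty_iff_forall_notMem]
    rintro ψ ⟨h1, h2⟩
    apply hg
    rw [hT, stabilizesBlock_iff_image]
    refine ⟨mem_normalizer_of_normal N g, ?_⟩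
    rw [eq_blockOf_of_mem hM (isPBlock_image_conjIrr N g _ hb) h2]
    exact (eq_blockOf_of_mem hM hb h1).symm
  rw [this]
  unfold eb
  funext x
  by_cases hx : x ∈ N
  · rw [extZ_of_mem N _ hx, blockCoeff_empty]
    rfl
  · rw [extZ_of_not_mem N _ hx]
    rfl

omit [Fintype N] hN in
theorem eb_conj_of_mem {b : Set (IrrCharacter N)}
    (hT : ∀ g : G, g ∈ T ↔ StabilizesBlock N b g) {t : G} (ht : t ∈ T) (x : G) :
    eb N b (t * x * t⁻¹) = eb N b x := by
  have := (stabilizesBlock_iff_image N b t).1 ((hT t).1 ht)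
  obtain ⟨hx, h⟩ := this
  exact extZ_blockCoeff_conj_of_stable N b t hx h x

omit [Fintype N] hN in
theorem isClassFunction_eb_restrict {b : Set (IrrCharacter N)}
    (hT : ∀ g : G, g ∈ T ↔ StabilizesBlock N b g) :
    IsClassFunction T (fun t : T => eb N b t) := by
  intro g h
  exact eb_conj_of_mem N T hT h.2 g

end

end Cfsg.Agent.Lib.Helper8
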