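import Mathlib
import Cfsg.Prelude.Def_Blocks
import Cfsg.Prelude.Def_BlockLocal
import Cfsg.Agent.Lib.Helper8.FR3
import Cfsg.Agent.Lib.Helper8.BlockDefect
import Cfsg.Agent.Lib.Helper8.BlockLocal
import Cfsg.Agent.Lib.Helper1.CharFound6
import Cfsg.Agent.Lib.Helper1.CharFound7

/-!
# Fong–Reynolds, part 4: characters of the stabilizer lying over the block
-/

set_option autoImplicit false

namespace Cfsg.Agent.Lib.Helper8

open Cfsg
open scoped ComplexConjugate
open Cfsg.Agent.Lib.Helper1 Cfsg.Agent.Lib.Helper4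

universe u

section

theorem sum_blockCoeff_mul {K : Type u} [Group K] [Fintype K] [Fintype (IrrCharacter K)]
    (b : Set (IrrCharacter K)) (φ : K → ℂ) [DecidablePred (· ∈ b)] :
    ∑ n : K, blockCoeff b n * φ n = ∑ θ : IrrCharacter K,
      (if θ ∈ b then (1 : ℂ) else 0) * (θ : K → ℂ) 1 * classInner φ (θ : K → ℂ) := by
  simp only [blockCoeff_eq_sum, classInner_def, Finset.mul_sum, Finset.sum_mul]
  rw [Finset.sum_comm]
  refine Finset.sum_congr rfl fun θ _ => ?_
  refine Finset.sum_congr rfl fun n _ => ?_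
  by_cases hθ : θ ∈ b
  · simp only [if_pos hθ]
    ring
  · simp only [if_neg hθ]
    ring

/-- A character has a constituent in `b` iff the idempotent of `b` does not kill it. -/
theorem sum_blockCoeff_mul_ne_zero_iff {K : Type u} [Group K] [Fintype K]
    (b : Set (IrrCharacter K)) {φ : K → ℂ} (hφ : IsCharacter K φ) :
    (∑ n : K, blockCoeff b n * φ n ≠ 0) ↔ ∃ θ ∈ b, classInner φ (θ : K → ℂ) ≠ 0 := by
  classical
  have : Fintype (IrrCharacter K) := Fintype.ofFinite _
  rw [sum_blockCoeff_mul]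
  have hk : ∀ θ : IrrCharacter K, ∃ k : ℕ, classInner φ (θ : K → ℂ) = k :=
    fun θ => classInner_char_nat hφ (isCharacter_of_irr θ.2)
  choose k hk using hk
  have hterm : ∀ θ : IrrCharacter K,
      (if θ ∈ b then (1 : ℂ) else 0) * (θ : K → ℂ) 1 * classInner φ (θ : K → ℂ)
        = ((if θ ∈ b then charDegree (θ : K → ℂ) * k θ else 0 : ℕ) : ℂ) := by
    intro θ
    rw [hk, (irr_apply_one_eq_charDegree θ.2).1]
    split_ifs <;> simp
  rw [Finset.sum_congr rfl fun θ _ => hterm θ, ← Nat.cast_sum, Nat.cast_ne_zero]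
  constructor
  · intro h
    obtain ⟨θ, _, hθ⟩ := Finset.exists_ne_zero_of_sum_ne_zero h
    by_cases hθb : θ ∈ b
    · rw [if_pos hθb] at hθ
      refine ⟨θ, hθb, ?_⟩
      rw [hk, Nat.cast_ne_zero]
      exact right_ne_zero_of_mul hθ
    · rw [if_neg hθb] at hθ
      exact absurd rfl hθ
  · rintro ⟨θ, hθb, hθ⟩
    rw [hk, Nat.cast_ne_zero] at hθ
    intro h
    have := (Finset.sum_eq_zero_iff.1 h) θ (Finset.mem_univ _)
    rw [if_pos hθb] at this
    rcases Nat.mul_eq_zero.1 this with h1 | h1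
    · exact (irr_apply_one_eq_charDegree θ.2).2.ne' h1
    · exact hθ h1

end

section

variable {G : Type u} [Group G] [Fintype G] (N : Subgroup G) [Fintype N]
  {M : Ideal AlgInt} (T : Subgroup G) [Fintype T] (hNT : N ≤ T)

include hNT

omit [Fintype G] [Fintype N] [Fintype T] in
theorem eb_of_not_mem' (b : Set (IrrCharacter N)) {g : G} (hg : g ∉ T) : eb N b g = 0 :=
  eb_of_not_mem N b (fun h => hg (hNT h))

omit [Fintype G] in
theorem sum_eb_mul (b : Set (IrrCharacter N)) (ψ : T → ℂ) :
    ∑ t : T, eb N b t * ψ t = ∑ n : N, blockCoeff b n * ψ ⟨n, hNT n.2⟩ := by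
  symm
  apply Fintype.sum_of_injective (fun n : N => (⟨n, hNT n.2⟩ : T))
  · intro n n' h
    apply Subtype.ext
    exact congrArg (fun t : T => (t : G)) h
  · intro t ht
    have : (t : G) ∉ N := by
      intro h
      exact ht ⟨⟨t, h⟩, rfl⟩
    rw [eb_of_not_mem N b this, zero_mul]
  · intro n
    unfold eb
    rw [extZ_coe]

theorem conv_eb_restrict (b : Set (IrrCharacter N)) :
    conv (fun t : T => eb N b t) (fun t : T => eb N b t) = fun t : T => eb N b t := by
  funext t
  rw [← conv_extZ_restrict T (eb N b) (eb N b) (fun g hg => eb_of_not_mem' N T hNT b hg) t,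
    conv_eb, Set.inter_self]

/-- The central character of an irreducible character of `T` at the idempotent of `b` is `0`
or `1`. -/
theorem omega_eb_eq_zero_or_one {b : Set (IrrCharacter N)}
    (hcl : IsClassFunction T (fun t : T => eb N b t)) {ψ : T → ℂ} (hψ : IsIrrCharacter T ψ) :
    omega ψ (fun t : T => eb N b t) = 0 ∨ omega ψ (fun t : T => eb N b t) = 1 := by
  have h1 := omega_conv hψ (f := fun t : T => eb N b t) hcl
  rw [conv_eb_restrict N T hNT b] at h1
  by_cases h0 : omega ψ (fun t : T => eb N b t) = 0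
  · exact Or.inl h0
  · right
    exact mul_right_cancel₀ h0 (by rw [one_mul]; exact h1.symm)

/-- `ψ` lies over `b` iff the idempotent of `b` acts as the identity on `ψ`. -/
theorem omega_eb_eq_one_iff {b : Set (IrrCharacter N)}
    (hcl : IsClassFunction T (fun t : T => eb N b t)) {ψ : T → ℂ} (hψ : IsIrrCharacter T ψ) :
    omega ψ (fun t : T => eb N b t) = 1 ↔
      ∃ θ ∈ b, classInner (fun n : N => ψ ⟨n, hNT n.2⟩) (θ : N → ℂ) ≠ 0 := by
  have hres : IsCharacter N (fun n : N => ψ ⟨n, hNT n.2⟩) :=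
    isCharacter_comp_hom (isCharacter_of_irr hψ) (Subgroup.inclusion hNT)
  rw [← sum_blockCoeff_mul_ne_zero_iff b hres, ← sum_eb_mul N T hNT b ψ]
  have hψ1 : ψ 1 ≠ 0 := irr_apply_one_ne_zero hψ
  constructor
  · intro h h0
    unfold omega at h
    rw [h0, zero_div] at h
    exact zero_ne_one h
  · intro h
    rcases omega_eb_eq_zero_or_one N T hNT hcl hψ with h0 | h1
    · exfalso
      apply h
      unfold omega at h0
      rcases div_eq_zero_iff.1 h0 with h0 | h0
      · exact h0
      · exact absurd h0 hψ1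
    · exact h1

/-- Lying over `b` is constant on blocks of `T`. -/
theorem omega_eb_eq_one_of_sameBlock (hM : M.IsPrime) {b : Set (IrrCharacter N)}
    (hb : IsPBlock M b)
    (hcl : IsClassFunction T (fun t : T => eb N b t)) {ψ ψ' : T → ℂ} (hψ : IsIrrCharacter T ψ)
    (hψ' : IsIrrCharacter T ψ') (hs : SameBlock M ψ ψ')
    (h : omega ψ (fun t : T => eb N b t) = 1) : omega ψ' (fun t : T => eb N b t) = 1 := by
  have hloc : ∀ t : T, MemLocalRing M (eb N b t) := by
    intro t
    unfold eb
    by_cases ht : (t : G) ∈ N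
    · rw [extZ_of_mem N _ ht]
      exact blockCoeff_memLocalRing hM hb _
    · rw [extZ_of_not_mem N _ ht]
      exact memLocalRing_zero hM.ne_top
  have h1 := memLocalIdeal_omega_sub hM hψ hψ' hs hcl hloc
  rcases omega_eb_eq_zero_or_one N T hNT hcl hψ' with h0 | h0
  · rw [h, h0, sub_zero] at h1
    exact absurd h1 (not_memLocalIdeal_one hM)
  · exact h0

end

end Cfsg.Agent.Lib.Helper8
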