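import Mathlib
import Cfsg.Prelude.Def_Blocks
import Cfsg.Prelude.Def_BlockLocal
import Cfsg.Agent.Lib.Helper8.FR4
import Cfsg.Agent.Lib.Helper8.Cover2
import Cfsg.Agent.Lib.Helper8.InducedOmega

/-!
# Fong's theorem on covering blocks of maximal defect, part 1: the idempotent of an invariant block
-/

set_option autoImplicit false

namespace Cfsg.Agent.Lib.Helper8

open Cfsg
open scoped ComplexConjugate
open Cfsg.Agent.Lib.Helper1 Cfsg.Agent.Lib.Helper4

universe u

section

variable {G : Type u} [Group G] [Fintype G] {M : Ideal AlgInt}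

/-- Induction over the blocks making up a union of blocks. -/
theorem blockCoeff_union_induction (hM : M.IsPrime) (Pr : ℂ → Prop) (h0 : Pr 0)
    (hadd : ∀ a b, Pr a → Pr b → Pr (a + b)) (g : G) (A : Set (IrrCharacter G))
    (hA : ∀ χ ∈ A, blockOf M (χ : G → ℂ) ⊆ A)
    (h : ∀ χ ∈ A, Pr (blockCoeff (blockOf M (χ : G → ℂ)) g)) : Pr (blockCoeff A g) := by
  classical
  have hfin : A.Finite := Set.toFinite A
  induction' hn : hfin.toFinset.card using Nat.strong_induction_on with n ih generalizing A
  by_cases hne : A.Nonempty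
  · obtain ⟨χ, hχ⟩ := hne
    set B := blockOf M (χ : G → ℂ) with hBdef
    have hBA : B ⊆ A := hA χ hχ
    have hA' : ∀ ψ ∈ A \ B, blockOf M (ψ : G → ℂ) ⊆ A \ B := by
      intro ψ hψ φ hφ
      refine ⟨hA ψ hψ.1 hφ, ?_⟩
      intro hφB
      apply hψ.2
      exact sameBlock_trans hM hφB (sameBlock_symm hφ)
    have hdisj : Disjoint B (A \ B) := Set.disjoint_sdiff_right
    have hunion : B ∪ (A \ B) = A := Set.union_sdiff_cancel hBA
    have hlt : (Set.toFinite (A \ B)).toFinset.card < n := by
      rw [← hn]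
      apply Finset.card_lt_card
      rw [Finset.ssubset_iff_of_subset]
      · refine ⟨χ, ?_, ?_⟩
        · rw [Set.Finite.mem_toFinset]; exact hχ
        · rw [Set.Finite.mem_toFinset]
          intro h
          exact h.2 (sameBlock_refl hM.ne_top _)
      · intro ψ hψ
        rw [Set.Finite.mem_toFinset] at hψ ⊢
        exact hψ.1
    have h1 := ih _ hlt (A \ B) hA' (fun ψ hψ => h ψ hψ.1) (Set.toFinite _) rfl
    rw [← hunion, blockCoeff_union_of_disjoint hdisj]
    exact hadd _ _ (h χ hχ) h1
  · rw [Set.not_nonempty_iff_eq_empty] at hne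
    rw [hne, blockCoeff_empty]
    exact h0

end

section

variable {G : Type u} [Group G] [Fintype G] (N : Subgroup G) [hN : N.Normal] [Fintype N]
  {M : Ideal AlgInt}

omit [Fintype N] hN in
theorem isClassFunction_eb_of_invariant {b : Set (IrrCharacter N)}
    (hinv : ∀ g : G, StabilizesBlock N b g) : IsClassFunction G (eb N b) := by
  intro x t
  exact eb_conj_of_mem N ⊤ (fun g => ⟨fun _ => hinv g, fun _ => Subgroup.mem_top g⟩)
    (Subgroup.mem_top t) x

omit [Fintype G] hN in
theorem memLocalRing_eb (hM : M.IsPrime) {b : Set (IrrCharacter N)} (hb : IsPBlock M b) (g : G) :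
    MemLocalRing M (eb N b g) := by
  unfold eb
  by_cases hg : g ∈ N
  · rw [extZ_of_mem N _ hg]
    exact blockCoeff_memLocalRing hM hb _
  · rw [extZ_of_not_mem N _ hg]
    exact memLocalRing_zero hM.ne_top

omit hN in
theorem omega_eb_G_eq_zero_or_one {b : Set (IrrCharacter N)}
    (hcl : IsClassFunction G (eb N b)) {χ : G → ℂ} (hχ : IsIrrCharacter G χ) :
    omega χ (eb N b) = 0 ∨ omega χ (eb N b) = 1 := by
  have h1 := omega_conv hχ (f := eb N b) hcl
  rw [conv_eb, Set.inter_self] at h1
  by_cases h0 : omega χ (eb N b) = 0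
  · exact Or.inl h0
  · right
    exact mul_right_cancel₀ h0 (by rw [one_mul]; exact h1.symm)

omit hN in
theorem omega_eb_G_eq_one_iff {b : Set (IrrCharacter N)}
    (hcl : IsClassFunction G (eb N b)) {χ : G → ℂ} (hχ : IsIrrCharacter G χ) :
    omega χ (eb N b) = 1 ↔ ∃ θ ∈ b, classInner (fun n : N => χ n) (θ : N → ℂ) ≠ 0 := by
  have hres : IsCharacter N (fun n : N => χ n) :=
    Cfsg.Agent.S0148.isCharacter_restrict N (isCharacter_of_irr hχ)
  rw [← sum_blockCoeff_mul_ne_zero_iff b hres]
  have e1 : ∑ g : G, eb N b g * χ g = ∑ n : N, blockCoeff b n * χ n := sum_extZ_mul N _ χ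
  rw [← e1]
  have hχ1 : χ 1 ≠ 0 := irr_apply_one_ne_zero hχ
  constructor
  · intro h h0
    unfold omega at h
    rw [h0, zero_div] at h
    exact zero_ne_one h
  · intro h
    rcases omega_eb_G_eq_zero_or_one N hcl hχ with h0 | h1
    · exfalso
      apply h
      unfold omega at h0
      rcases div_eq_zero_iff.1 h0 with h0 | h0
      · exact h0
      · exact absurd h0 hχ1
    · exact h1

omit hN in
theorem omega_eb_G_eq_one_of_sameBlock (hM : M.IsPrime) {b : Set (IrrCharacter N)}
    (hb : IsPBlock M b) (hcl : IsClassFunction G (eb N b)) {χ χ' : G → ℂ}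
    (hχ : IsIrrCharacter G χ) (hχ' : IsIrrCharacter G χ') (hs : SameBlock M χ χ')
    (h : omega χ (eb N b) = 1) : omega χ' (eb N b) = 1 := by
  have h1 := memLocalIdeal_omega_sub hM hχ hχ' hs hcl (memLocalRing_eb N hM hb)
  rcases omega_eb_G_eq_zero_or_one N hcl hχ' with h0 | h0
  · rw [h, h0, sub_zero] at h1
    exact absurd h1 (not_memLocalIdeal_one hM)
  · exact h0

omit hN in
/-- The idempotent of an invariant block of `N` is the sum of the idempotents of the blocks of `G`
covering it. -/
theorem eb_eq_blockCoeff_over {b : Set (IrrCharacter N)} (hcl : IsClassFunction G (eb N b)) :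
    eb N b = blockCoeff {χ : IrrCharacter G | omega (χ : G → ℂ) (eb N b) = 1} := by
  apply eq_blockCoeff_of_conv_self hcl
  rw [conv_eb, Set.inter_self]

omit hN in
/-- There is an element of `N` at which both the idempotent of the invariant block `b` and the
induced central character of `θ ∈ b` are units. -/
theorem exists_unit_eb_inducedCentralChar (hM : M.IsPrime) {b : Set (IrrCharacter N)}
    (hb : IsPBlock M b) (hcl : IsClassFunction G (eb N b)) {θ : IrrCharacter N} (hθ : θ ∈ b) :
    ∃ x : G, x ∈ N ∧ ¬ MemLocalIdeal M (eb N b x) ∧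
      ¬ MemLocalIdeal M (inducedCentralChar N (θ : N → ℂ) x) := by
  classical
  have : Fintype (ConjClasses G) := Fintype.ofFinite _
  have h1 := omega_restrict_eq_sum_classes N (θ : N → ℂ) hcl
  have h2 : (fun n : N => eb N b n) = blockCoeff b := by
    funext n
    unfold eb
    rw [extZ_coe]
  rw [h2, omega_blockCoeff b θ, if_pos hθ] at h1
  by_contra hcon
  push Not at hcon
  apply not_memLocalIdeal_one hM
  rw [h1]
  apply memLocalIdeal_sum hM
  intro c _
  have hι : MemLocalRing M (inducedCentralChar N (θ : N → ℂ) (Quotient.out c)) := by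
    rw [inducedCentralChar_eq_omega]
    exact memLocalRing_omega hM θ.2
      (isClassFunction_restrict N (classIndicator_isClassFunction _))
      (fun h => memLocalRing_classIndicator hM.ne_top _ (h : G))
  by_cases hx : Quotient.out c ∈ N
  · by_cases h3 : MemLocalIdeal M (eb N b (Quotient.out c))
    · exact memLocalIdeal_mul_right hM h3 hι
    · exact memLocalIdeal_mul_left hM (memLocalRing_eb N hM hb _) (hcon _ hx h3)
  · rw [eb_of_not_mem N b hx, zero_mul]
    exact memLocalIdeal_zero hM.ne_top

end

end Cfsg.Agent.Lib.Helper8
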