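import Mathlib
import Cfsg.Prelude.Def_Blocks
import Cfsg.Agent.Lib.Helper8.CA1
import Cfsg.Agent.Lib.Helper8.CA2
import Cfsg.Agent.Lib.Helper8.CA3
import Cfsg.Agent.Lib.Helper8.Fong1

/-!
# The graded centralizer algebra of an invariant block of a normal subgroup
-/

set_option autoImplicit false
set_option linter.unusedSectionVars false

namespace Cfsg.Agent.Lib.Helper8

open Cfsg
open scoped ComplexConjugate
open Cfsg.Agent.Lib.Helper1 Cfsg.Agent.Lib.Helper4

universe u

section

variable {G : Type u} [Group G] [Fintype G] (N : Subgroup G) [hN : N.Normal] [Fintype N]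
  {M : Ideal AlgInt}

/-- Extension by zero as a ring homomorphism of group algebras. -/
noncomputable def extHom : CAlg N →+* CAlg G where
  toFun x := CAlg.of (extZ N (CAlg.fn x))
  map_one' := (deltaOne_eq_extZ N).symm
  map_mul' a b := (conv_extZ N (CAlg.fn a) (CAlg.fn b)).symm
  map_zero' := by
    ext g
    change extZ N (0 : N → ℂ) g = 0
    by_cases hg : g ∈ N
    · rw [extZ_of_mem N _ hg]; rfl
    · rw [extZ_of_not_mem N _ hg]
  map_add' a b := by
    ext g
    change extZ N (CAlg.fn a + CAlg.fn b) g = extZ N (CAlg.fn a) g + extZ N (CAlg.fn b) g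
    by_cases hg : g ∈ N
    · rw [extZ_of_mem N _ hg, extZ_of_mem N _ hg, extZ_of_mem N _ hg]; rfl
    · rw [extZ_of_not_mem N _ hg, extZ_of_not_mem N _ hg, extZ_of_not_mem N _ hg, add_zero]

theorem extHom_apply (x : CAlg N) : extHom (G := G) N x = CAlg.of (extZ N (CAlg.fn x)) := rfl

/-- The part of a function on `G` supported on the coset `q` of `N`. -/
noncomputable def cosetPart (q : G ⧸ N) (x : G → ℂ) : G → ℂ :=
  fun g => by classical exact if (g : G ⧸ N) = q then x g else 0

theorem cosetPart_of_eq {q : G ⧸ N} (x : G → ℂ) {g : G} (h : (g : G ⧸ N) = q) :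
    cosetPart N q x g = x g := by
  classical
  unfold cosetPart
  rw [if_pos h]

theorem cosetPart_of_ne {q : G ⧸ N} (x : G → ℂ) {g : G} (h : (g : G ⧸ N) ≠ q) :
    cosetPart N q x g = 0 := by
  classical
  unfold cosetPart
  rw [if_neg h]

theorem sum_cosetPart [Fintype (G ⧸ N)] (x : G → ℂ) :
    ∑ q : G ⧸ N, CAlg.of (cosetPart N q x) = CAlg.of x := by
  classical
  ext g
  rw [CAlg.sum_apply, Finset.sum_eq_single ((g : G ⧸ N))]
  · exact cosetPart_of_eq N x rfl
  · intro q _ hq
    exact cosetPart_of_ne N x (Ne.symm hq)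
  · intro h
    exact absurd (Finset.mem_univ _) h

/-- Multiplying by a function supported on `N` commutes with taking coset parts. -/
theorem conv_cosetPart {z : G → ℂ} (hz : ∀ g, g ∉ N → z g = 0) (q : G ⧸ N) (x : G → ℂ) :
    conv z (cosetPart N q x) = cosetPart N q (conv z x) := by
  classical
  funext g
  by_cases hg : (g : G ⧸ N) = q
  · rw [cosetPart_of_eq N _ hg, conv_apply, conv_apply]
    refine Finset.sum_congr rfl fun u _ => ?_
    by_cases hu : u ∈ N
    · have : ((u⁻¹ * g : G) : G ⧸ N) = q := by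
        rw [QuotientGroup.mk_mul, QuotientGroup.mk_inv, (QuotientGroup.eq_one_iff u).2 hu, inv_one,
          one_mul, hg]
      rw [cosetPart_of_eq N _ this]
    · rw [hz u hu, zero_mul, zero_mul]
  · rw [cosetPart_of_ne N _ hg, conv_apply]
    apply Finset.sum_eq_zero
    intro u _
    by_cases hu : u ∈ N
    · have : ((u⁻¹ * g : G) : G ⧸ N) ≠ q := by
        rw [QuotientGroup.mk_mul, QuotientGroup.mk_inv, (QuotientGroup.eq_one_iff u).2 hu, inv_one,
          one_mul]
        exact hg
      rw [cosetPart_of_ne N _ this, mul_zero]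
    · rw [hz u hu, zero_mul]

/-- A function supported on `N` and invariant under `N` commutes with every `N`-invariant
function. -/
theorem conv_comm_of_invariant {z x : G → ℂ} (hz : ∀ g, g ∉ N → z g = 0)
    (hx : ∀ n ∈ N, ∀ g, x (n * g * n⁻¹) = x g) : conv z x = conv x z := by
  funext g
  rw [conv_apply, conv_apply]
  rw [← Equiv.sum_comp ((Equiv.inv G).trans (Equiv.mulLeft g))
    (fun v => x v * z (v⁻¹ * g))]
  refine Finset.sum_congr rfl fun u _ => ?_
  simp only [Equiv.trans_apply, Equiv.inv_apply, Equiv.coe_mulLeft]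
  have e1 : (g * u⁻¹)⁻¹ * g = u := by group
  rw [e1]
  by_cases hu : u ∈ N
  · have := hx u⁻¹ (N.inv_mem hu) (g * u⁻¹)
    have e2 : u⁻¹ * (g * u⁻¹) * u⁻¹⁻¹ = u⁻¹ * g := by group
    rw [e2] at this
    rw [this, mul_comm]
  · rw [hz u hu, zero_mul, mul_zero]

end

end Cfsg.Agent.Lib.Helper8
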