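import Mathlib
import Cfsg.Prelude.Def_Blocks
import Cfsg.Agent.Lib.Helper8.CA4

/-!
# The unit component theorem for blocks covering an invariant block
-/

set_option autoImplicit false
set_option linter.unusedSectionVars false

namespace Cfsg.Agent.Lib.Helper8

open Cfsg
open scoped ComplexConjugate
open Cfsg.Agent.Lib.Helper1 Cfsg.Agent.Lib.Helper4

universe u

section

variable {G : Type u} [Group G] [Fintype G] (N : Subgroup G) [hN : N.Normal] [Fintype N]
  {M : Ideal AlgInt}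

/-- The degree-`q` part of the centralizer of the block algebra of `b` in the group algebra. -/
def Cq (hM : M.IsPrime) (b : Set (IrrCharacter N)) (q : G ⧸ N) : AddSubgroup (CAlg G) where
  carrier := {x | (∀ g : G, (g : G ⧸ N) ≠ q → x g = 0) ∧ (∀ g, MemLocalRing M (x g)) ∧
    (∀ n ∈ N, ∀ g, x (n * g * n⁻¹) = x g) ∧ CAlg.of (eb N b) * x = x}
  add_mem' := by
    rintro x y ⟨h1, h2, h3, h4⟩ ⟨k1, k2, k3, k4⟩
    refine ⟨fun g hg => ?_, fun g => ?_, fun n hn g => ?_, ?_⟩
    · rw [CAlg.add_apply, h1 g hg, k1 g hg, add_zero]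
    · exact memLocalRing_add hM (h2 g) (k2 g)
    · rw [CAlg.add_apply, CAlg.add_apply, h3 n hn g, k3 n hn g]
    · rw [mul_add, h4, k4]
  zero_mem' := ⟨fun _ _ => rfl, fun _ => memLocalRing_zero hM.ne_top, fun _ _ _ => rfl,
    mul_zero _⟩
  neg_mem' := by
    rintro x ⟨h1, h2, h3, h4⟩
    refine ⟨fun g hg => ?_, fun g => ?_, fun n hn g => ?_, ?_⟩
    · rw [CAlg.neg_apply, h1 g hg, neg_zero]
    · exact memLocalRing_neg (h2 g)
    · rw [CAlg.neg_apply, CAlg.neg_apply, h3 n hn g]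
    · rw [mul_neg, h4]

theorem mem_Cq (hM : M.IsPrime) (b : Set (IrrCharacter N)) (q : G ⧸ N) (x : CAlg G) :
    x ∈ Cq N hM b q ↔ (∀ g : G, (g : G ⧸ N) ≠ q → x g = 0) ∧ (∀ g, MemLocalRing M (x g)) ∧
      (∀ n ∈ N, ∀ g, x (n * g * n⁻¹) = x g) ∧ CAlg.of (eb N b) * x = x := Iff.rfl

theorem Cq_mul (hM : M.IsPrime) (b : Set (IrrCharacter N)) {q r : G ⧸ N} {x y : CAlg G}
    (hx : x ∈ Cq N hM b q) (hy : y ∈ Cq N hM b r) : x * y ∈ Cq N hM b (q * r) := by
  obtain ⟨h1, h2, h3, h4⟩ := hx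
  obtain ⟨k1, k2, k3, -⟩ := hy
  refine ⟨fun g hg => ?_, fun g => memLocalRing_conv hM h2 k2 g, fun n hn g => ?_, ?_⟩
  · rw [CAlg.mul_apply, conv_apply]
    apply Finset.sum_eq_zero
    intro u _
    by_cases hu : (u : G ⧸ N) = q
    · have : ((u⁻¹ * g : G) : G ⧸ N) ≠ r := by
        intro h
        apply hg
        have e : (g : G ⧸ N) = (u : G ⧸ N) * ((u⁻¹ * g : G) : G ⧸ N) := by
          rw [← QuotientGroup.mk_mul]
          congr 1
          group
        rw [e, hu, h]
      have := k1 _ this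
      change CAlg.fn x u * CAlg.fn y (u⁻¹ * g) = 0
      change y (u⁻¹ * g) = 0 at this
      change _ * (y (u⁻¹ * g)) = 0
      rw [this, mul_zero]
    · have := h1 u hu
      change x u * _ = 0
      rw [this, zero_mul]
  · have e1 : conjF n⁻¹ (CAlg.fn x) = CAlg.fn x := by
      funext g'
      rw [conjF_apply, inv_inv]
      exact h3 n hn g'
    have e2 : conjF n⁻¹ (CAlg.fn y) = CAlg.fn y := by
      funext g'
      rw [conjF_apply, inv_inv]
      exact k3 n hn g'
    have e3 := conv_conjF n⁻¹ (CAlg.fn x) (CAlg.fn y)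
    rw [e1, e2] at e3
    have := congrFun e3 g
    rw [conjF_apply, inv_inv] at this
    exact this.symm
  · rw [← mul_assoc, h4]

theorem eb_mem_Cq_one (hM : M.IsPrime) {b : Set (IrrCharacter N)} (hb : IsPBlock M b) :
    CAlg.of (eb N b) ∈ Cq (G := G) N hM b 1 := by
  refine ⟨fun g hg => ?_, fun g => memLocalRing_eb N hM hb g, fun n hn g => ?_, ?_⟩
  · apply eb_of_not_mem N b
    intro h
    exact hg ((QuotientGroup.eq_one_iff g).2 h)
  · change eb N b (n * g * n⁻¹) = eb N b g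
    unfold eb
    by_cases hg : g ∈ N
    · have hg' : n * g * n⁻¹ ∈ N := N.mul_mem (N.mul_mem hn hg) (N.inv_mem hn)
      rw [extZ_of_mem N _ hg, extZ_of_mem N _ hg']
      exact isClassFunction_blockCoeff b ⟨g, hg⟩ ⟨n, hn⟩
    · have hg' : n * g * n⁻¹ ∉ N := by
        intro h
        apply hg
        have : g = n⁻¹ * (n * g * n⁻¹) * n := by group
        rw [this]
        exact N.mul_mem (N.mul_mem (N.inv_mem hn) h) hn
      rw [extZ_of_not_mem N _ hg, extZ_of_not_mem N _ hg']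
  · change CAlg.of (conv (eb N b) (eb N b)) = _
    rw [conv_eb, Set.inter_self]

theorem support_of_mem_Cq_one (hM : M.IsPrime) (b : Set (IrrCharacter N)) {z : CAlg G}
    (hz : z ∈ Cq N hM b 1) : ∀ g, g ∉ N → CAlg.fn z g = 0 := by
  intro g hg
  apply hz.1
  intro h
  exact hg ((QuotientGroup.eq_one_iff g).1 h)

theorem Cq_comm (hM : M.IsPrime) (b : Set (IrrCharacter N)) {q : G ⧸ N} {z x : CAlg G}
    (hz : z ∈ Cq N hM b 1) (hx : x ∈ Cq N hM b q) : z * x = x * z :=
  conv_comm_of_invariant N (support_of_mem_Cq_one N hM b hz) hx.2.2.1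

theorem Cq_mul_eb (hM : M.IsPrime) {b : Set (IrrCharacter N)} (hb : IsPBlock M b) {q : G ⧸ N}
    {x : CAlg G} (hx : x ∈ Cq N hM b q) : x * CAlg.of (eb N b) = x := by
  rw [← Cq_comm N hM b (eb_mem_Cq_one N hM hb) hx]
  exact hx.2.2.2

/-- Functions with values in the local ideal. -/
def Jg (hM : M.IsPrime) : AddSubgroup (CAlg G) where
  carrier := {x | ∀ g, MemLocalIdeal M (x g)}
  add_mem' := fun ha hb g => memLocalIdeal_add hM (ha g) (hb g)
  zero_mem' := fun _ => memLocalIdeal_zero hM.ne_top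
  neg_mem' := fun ha g => memLocalIdeal_neg (ha g)

theorem mem_Jg (hM : M.IsPrime) (x : CAlg G) : x ∈ Jg (G := G) hM ↔ ∀ g, MemLocalIdeal M (x g) :=
  Iff.rfl

/-- The restriction to `N` of an element of the group algebra of `G`. -/
def restrN (z : CAlg G) : CAlg N := CAlg.of (fun n : N => z n)

theorem extHom_restrN {z : CAlg G} (hz : ∀ g, g ∉ N → CAlg.fn z g = 0) :
    extHom N (restrN N z) = z := by
  rw [extHom_apply]
  exact (eq_extZ_of_support N hz).symm

/-- The radical of the degree-one part. -/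
def Mq (hM : M.IsPrime) (b : Set (IrrCharacter N)) : AddSubgroup (CAlg G) where
  carrier := {z | z ∈ Cq N hM b 1 ∧
    ∀ θ ∈ b, MemLocalIdeal M (omega (θ : N → ℂ) (CAlg.fn (restrN N z)))}
  add_mem' := by
    rintro x y ⟨h1, h2⟩ ⟨k1, k2⟩
    refine ⟨(Cq N hM b 1).add_mem h1 k1, fun θ hθ => ?_⟩
    have : CAlg.fn (restrN N (x + y)) = CAlg.fn (restrN N x) + CAlg.fn (restrN N y) := rfl
    rw [this, omega_add]
    exact memLocalIdeal_add hM (h2 θ hθ) (k2 θ hθ)
  zero_mem' := by
    refine ⟨(Cq N hM b 1).zero_mem, fun θ _ => ?_⟩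
    have : CAlg.fn (restrN N (0 : CAlg G)) = 0 := rfl
    rw [this, omega_zero]
    exact memLocalIdeal_zero hM.ne_top
  neg_mem' := by
    rintro x ⟨h1, h2⟩
    refine ⟨(Cq N hM b 1).neg_mem h1, fun θ hθ => ?_⟩
    have : CAlg.fn (restrN N (-x)) = - CAlg.fn (restrN N x) := rfl
    rw [this, omega_neg]
    exact memLocalIdeal_neg (h2 θ hθ)

/-- Properties of the restriction to `N` of an element of degree one. -/
theorem restrN_spec (hM : M.IsPrime) {b : Set (IrrCharacter N)} (hb : IsPBlock M b) {z : CAlg G}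
    (hz : z ∈ Cq N hM b 1) :
    IsClassFunction N (CAlg.fn (restrN N z)) ∧ (∀ x, MemLocalRing M ((restrN N z) x)) ∧
      CAlg.of (blockCoeff b) * restrN N z = restrN N z := by
  refine ⟨fun g n => ?_, fun x => hz.2.1 _, ?_⟩
  · exact hz.2.2.1 n n.2 g
  · have hsupp := support_of_mem_Cq_one N hM b hz
    have h1 : extHom (G := G) N (CAlg.of (blockCoeff b) * restrN N z) = extHom N (restrN N z) := by
      rw [map_mul, extHom_restrN N hsupp]
      exact hz.2.2.2
    have h2 := congrArg CAlg.fn h1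
    rw [extHom_apply, extHom_apply] at h2
    exact extZ_injective N h2

/-- Long products of elements of the radical have coefficients in the local ideal. -/
theorem exists_Mq_nilpotency (hM : M.IsPrime) {b : Set (IrrCharacter N)} (hb : IsPBlock M b) :
    ∃ k : ℕ, ∀ zs : List (CAlg G), (∀ z ∈ zs, z ∈ Mq N hM b) → zs.length = k →
      zs.prod ∈ Jg (G := G) hM := by
  obtain ⟨k, hk⟩ := exists_nilpotency_bound hM hb
  refine ⟨k, fun zs hzs hlen => ?_⟩
  have h1 : zs = (zs.map (restrN N)).map (extHom N) := by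
    rw [List.map_map]
    conv_lhs => rw [← List.map_id zs]
    apply List.map_congr_left
    intro z hz
    exact (extHom_restrN N (support_of_mem_Cq_one N hM b (hzs z hz).1)).symm
  have h2 : zs.prod = extHom N (zs.map (restrN N)).prod := by
    conv_lhs => rw [h1]
    rw [map_list_prod]
  have h3 := hk (zs.map (restrN N)) (by
    intro z' hz'
    obtain ⟨z, hz, rfl⟩ := List.mem_map.1 hz'
    obtain ⟨h4, h5, h6⟩ := restrN_spec N hM hb (hzs z hz).1
    exact ⟨h4, h5, h6, (hzs z hz).2⟩) (by rw [List.length_map, hlen])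
  intro g
  rw [h2, extHom_apply]
  change MemLocalIdeal M (extZ N _ g)
  by_cases hg : g ∈ N
  · rw [extZ_of_mem N _ hg]
    exact h3 _
  · rw [extZ_of_not_mem N _ hg]
    exact memLocalIdeal_zero hM.ne_top

end

end Cfsg.Agent.Lib.Helper8
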