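import Mathlib
import Cfsg.Prelude.Def_Blocks
import Cfsg.Agent.Lib.Helper8.CA5
import Cfsg.Agent.Lib.Helper8.Cover2
import Cfsg.Agent.Lib.Helper8.BlockOrth2

/-!
# The unit component theorem
-/

set_option autoImplicit false
set_option linter.unusedSectionVars false

namespace Cfsg.Agent.Lib.Helper8

open Cfsg
open scoped ComplexConjugate
open Cfsg.Agent.Lib.Helper1 Cfsg.Agent.Lib.Helper4

universe u

section

variable {G : Type u} [Group G] [Fintype G] (N : Subgroup G) [hN : N.Normal] [Fintype N]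
  {M : Ideal AlgInt}

theorem Cq_smul (hM : M.IsPrime) (b : Set (IrrCharacter N)) {q : G ⧸ N} {x : CAlg G}
    (hx : x ∈ Cq N hM b q) {c : ℂ} (hc : MemLocalRing M c) : c • x ∈ Cq N hM b q := by
  obtain ⟨h1, h2, h3, h4⟩ := hx
  refine ⟨fun g hg => ?_, fun g => memLocalRing_mul hM hc (h2 g), fun n hn g => ?_, ?_⟩
  · rw [CAlg.smul_apply, h1 g hg, mul_zero]
  · rw [CAlg.smul_apply, CAlg.smul_apply, h3 n hn g]
  · rw [CAlg.mul_smul', h4]

theorem Jg_mul_right (hM : M.IsPrime) {x y : CAlg G} (hx : x ∈ Jg (G := G) hM)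
    (hy : ∀ g, MemLocalRing M (y g)) : x * y ∈ Jg (G := G) hM :=
  fun g => memLocalIdeal_conv_left hM hx hy g

theorem Jg_mul_left (hM : M.IsPrime) {x y : CAlg G} (hx : ∀ g, MemLocalRing M (x g))
    (hy : y ∈ Jg (G := G) hM) : x * y ∈ Jg (G := G) hM :=
  fun g => memLocalIdeal_conv_right hM hx hy g

theorem restrN_eb (b : Set (IrrCharacter N)) :
    CAlg.fn (restrN N (CAlg.of (eb (G := G) N b))) = blockCoeff b := by
  funext n
  change eb N b (n : G) = _
  unfold eb
  rw [extZ_coe]

/-- The locality of the degree-one part, modulo the local ideal. -/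
theorem Cq_one_local (hM : M.IsPrime) {b : Set (IrrCharacter N)} (hb : IsPBlock M b)
    {z : CAlg G} (hz : z ∈ Cq N hM b 1) :
    z ∈ Mq N hM b ∨ ∃ z' ∈ Cq N hM b 1, CAlg.of (eb N b) - z * z' ∈ Jg (G := G) hM := by
  classical
  by_cases h : ∀ θ ∈ b, MemLocalIdeal M (omega (θ : N → ℂ) (CAlg.fn (restrN N z)))
  · exact Or.inl ⟨hz, h⟩
  · right
    push Not at h
    obtain ⟨θ₀, hθ₀, hu⟩ := h
    obtain ⟨hcl, hint, -⟩ := restrN_spec N hM hb hz
    set u := omega (θ₀ : N → ℂ) (CAlg.fn (restrN N z)) with hudef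
    have huS : MemLocalRing M u := memLocalRing_omega hM θ₀.2 hcl hint
    have hu0 : u ≠ 0 := fun h0 => hu (h0 ▸ memLocalIdeal_zero hM.ne_top)
    have huinv : MemLocalRing M u⁻¹ := memLocalRing_inv huS hu
    set e : CAlg G := CAlg.of (eb N b) with he
    have he1 : e ∈ Cq N hM b 1 := eb_mem_Cq_one N hM hb
    set y : CAlg G := e - u⁻¹ • z with hy
    have hyC : y ∈ Cq N hM b 1 := (Cq N hM b 1).sub_mem he1 (Cq_smul N hM b hz huinv)
    have hyM : y ∈ Mq N hM b := by
      refine ⟨hyC, fun θ hθ => ?_⟩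
      have e1 : CAlg.fn (restrN N y) = blockCoeff b - u⁻¹ • CAlg.fn (restrN N z) := by
        rw [← restrN_eb (G := G) N b]
        rfl
      rw [e1, omega_sub, omega_smul, omega_blockCoeff, if_pos hθ]
      have e2 : (1 : ℂ) - u⁻¹ * omega (θ : N → ℂ) (CAlg.fn (restrN N z))
          = u⁻¹ * (u - omega (θ : N → ℂ) (CAlg.fn (restrN N z))) := by
        field_simp
      rw [e2]
      exact memLocalIdeal_mul_left hM huinv
        (memLocalIdeal_omega_sub hM θ₀.2 θ.2 (sameBlock_of_mem hM hb hθ₀ hθ) hcl hint)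
    obtain ⟨k, hk⟩ := exists_Mq_nilpotency N hM hb
    have hyk : y ^ k ∈ Jg (G := G) hM := by
      have := hk (List.replicate k y) (fun z' hz' => by
        rw [List.eq_of_mem_replicate hz']; exact hyM) (List.length_replicate)
      rwa [List.prod_replicate] at this
    have hpow : ∀ i : ℕ, y ^ i * e ∈ Cq N hM b 1 := by
      intro i
      induction i with
      | zero => rw [pow_zero, one_mul]; exact he1
      | succ i ih =>
        rw [pow_succ', mul_assoc]
        have := Cq_mul N hM b hyC ih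
        rwa [mul_one] at this
    set s : CAlg G := ∑ i ∈ Finset.range k, y ^ i with hs
    have hsC : s * e ∈ Cq N hM b 1 := by
      rw [hs, Finset.sum_mul]
      exact AddSubgroup.sum_mem _ fun i _ => hpow i
    refine ⟨u⁻¹ • (s * e), Cq_smul N hM b hsC huinv, ?_⟩
    have hz' : z = u • (e - y) := by
      rw [hy, sub_sub_cancel, smul_smul, mul_inv_cancel₀ hu0, one_smul]
    have hey : e * y = y := hyC.2.2.2
    have h1 : z * (u⁻¹ • (s * e)) = (e - y) * (s * e) := by
      rw [CAlg.mul_smul']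
      conv_lhs => rw [hz']
      rw [CAlg.smul_mul', smul_smul, inv_mul_cancel₀ hu0, one_smul]
    have h2 : (e - y) * s = e - e * y ^ k := by
      have : e - y = e * (1 - y) := by rw [mul_sub, mul_one, hey]
      rw [this, mul_assoc, mul_neg_geom_sum, mul_sub, mul_one]
    have hee : e * e = e := he1.2.2.2
    have h3 : e - z * (u⁻¹ • (s * e)) = e * y ^ k * e := by
      rw [h1, ← mul_assoc, h2, sub_mul, hee]
      abel
    rw [h3]
    exact Jg_mul_right hM (Jg_mul_left hM he1.2.1 hyk) he1.2.1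

/-- The idempotent of an invariant block absorbs the idempotent of a covering block. -/
theorem eb_mul_blockCoeff (hM : M.IsPrime) {b : Set (IrrCharacter N)} (hb : IsPBlock M b)
    (hinv : ∀ g : G, StabilizesBlock N b g) {B : Set (IrrCharacter G)} (hB : IsPBlock M B)
    (hcov : Covers N B b) : conv (eb N b) (blockCoeff B) = blockCoeff B := by
  have hcl := isClassFunction_eb_of_invariant N hinv
  have h1 := eb_eq_blockCoeff_over N hcl
  rw [h1, conv_blockCoeff_blockCoeff]
  congr 1
  apply Set.inter_eq_right.2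
  intro χ hχ
  obtain ⟨χ₀, hχ₀, θ, hθ, h0⟩ := hcov
  have h2 : omega (χ₀ : G → ℂ) (eb N b) = 1 :=
    (omega_eb_G_eq_one_iff N hcl χ₀.2).2 ⟨θ, hθ, h0⟩
  have h3 : SameBlock M (χ₀ : G → ℂ) (χ : G → ℂ) := sameBlock_of_mem hM hB hχ₀ hχ
  exact omega_eb_G_eq_one_of_sameBlock N hM hb hcl χ₀.2 χ.2 h3 h2

theorem cosetPart_mem_Cq (hM : M.IsPrime) {b : Set (IrrCharacter N)} (hb : IsPBlock M b)
    (hinv : ∀ g : G, StabilizesBlock N b g) {B : Set (IrrCharacter G)} (hB : IsPBlock M B)
    (hcov : Covers N B b) (q : G ⧸ N) :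
    CAlg.of (cosetPart N q (blockCoeff B)) ∈ Cq N hM b q := by
  obtain ⟨hcf, hS, -⟩ := blockCoeff_spec hM hB
  refine ⟨fun g hg => cosetPart_of_ne N _ hg, fun g => ?_, fun n hn g => ?_, ?_⟩
  · change MemLocalRing M (cosetPart N q (blockCoeff B) g)
    by_cases hg : (g : G ⧸ N) = q
    · rw [cosetPart_of_eq N _ hg]; exact hS g
    · rw [cosetPart_of_ne N _ hg]; exact memLocalRing_zero hM.ne_top
  · change cosetPart N q (blockCoeff B) (n * g * n⁻¹) = cosetPart N q (blockCoeff B) g
    have e1 : ((n * g * n⁻¹ : G) : G ⧸ N) = (g : G ⧸ N) := by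
      rw [QuotientGroup.mk_mul, QuotientGroup.mk_mul, QuotientGroup.mk_inv,
        (QuotientGroup.eq_one_iff n).2 hn]
      simp
    by_cases hg : (g : G ⧸ N) = q
    · rw [cosetPart_of_eq N _ hg, cosetPart_of_eq N _ (e1.trans hg), hcf g n]
    · rw [cosetPart_of_ne N _ hg, cosetPart_of_ne N _ (by rw [e1]; exact hg)]
  · change CAlg.of (conv (eb N b) (cosetPart N q (blockCoeff B))) = _
    rw [conv_cosetPart N (fun g hg => eb_of_not_mem N b hg), eb_mul_blockCoeff N hM hb hinv hB hcov]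

/-- **The unit component theorem.**  If `B` covers the `G`-invariant block `b` of the normal
subgroup `N`, then some coset part of the idempotent of `B` is invertible, modulo the local ideal,
in the block algebra of `b` extended to `G`. -/
theorem exists_unit_component_block (hM : M.IsPrime) {b : Set (IrrCharacter N)}
    (hb : IsPBlock M b) (hinv : ∀ g : G, StabilizesBlock N b g) {B : Set (IrrCharacter G)}
    (hB : IsPBlock M B) (hcov : Covers N B b) :
    ∃ q : G ⧸ N, ∃ d ∈ Cq N hM b q⁻¹,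
      CAlg.of (eb N b) - CAlg.of (cosetPart N q (blockCoeff B)) * d ∈ Jg (G := G) hM := by
  classical
  have : Fintype (G ⧸ N) := Fintype.ofFinite _
  obtain ⟨k, hk⟩ := exists_Mq_nilpotency (G := G) N hM hb
  have he1 := eb_mem_Cq_one (G := G) N hM hb
  apply exists_unit_component (Cq N hM b) (Mq N hM b) (Jg hM) (CAlg.of (eb N b)) he1
    (fun q x hx => hx.2.2.2) (fun q x hx => Cq_mul_eb N hM hb hx)
    (fun q r x hx y hy => Cq_mul N hM b hx hy)
    (fun z hz q x hx => Cq_comm N hM b hz.1 hx)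
    (fun z hz => Cq_one_local N hM hb hz) k hk
    (fun x hx q y hy => Jg_mul_right hM hx hy.2.1)
    (fun q => CAlg.of (cosetPart N q (blockCoeff B)))
    (fun q => cosetPart_mem_Cq N hM hb hinv hB hcov q) (CAlg.of (blockCoeff B))
    (sum_cosetPart N (blockCoeff B)).symm
  · change CAlg.of (conv (blockCoeff B) (blockCoeff B)) = _
    rw [conv_blockCoeff_self hM hB]
  · intro h
    obtain ⟨g, -, hg, -⟩ := exists_isDefectClass hM hB
    exact hg (h g)

end

end Cfsg.Agent.Lib.Helper8
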