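import Mathlib
import Cfsg.Prelude.Def_Blocks
import Cfsg.Agent.Lib.Helper8.CA6
import Cfsg.Agent.Lib.Helper8.FR4

/-!
# Every character of a covered invariant block lies under the covering block
-/

set_option autoImplicit false
set_option linter.unusedSectionVars false

namespace Cfsg.Agent.Lib.Helper8

open Cfsg
open scoped ComplexConjugate
open Cfsg.Agent.Lib.Helper1 Cfsg.Agent.Lib.Helper4

universe u

section

variable {G : Type u} [Group G] [Fintype G]

theorem eq_zero_of_sum_mul_conj_eq_zero (f : G → ℂ) (h : ∑ x, f x * conj (f x) = 0) : f = 0 := by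
  have h1 : ∀ x, f x * conj (f x) = ((Complex.normSq (f x) : ℝ) : ℂ) := fun x =>
    Complex.mul_conj (f x)
  simp only [h1] at h
  rw [← Complex.ofReal_sum, Complex.ofReal_eq_zero] at h
  have h2 := (Finset.sum_eq_zero_iff_of_nonneg (fun x _ => Complex.normSq_nonneg (f x))).1 h
  funext x
  exact Complex.normSq_eq_zero.1 (h2 x (Finset.mem_univ x))

end

section

variable {G : Type u} [Group G] [Fintype G] (N : Subgroup G) [hN : N.Normal] [Fintype N]
  {M : Ideal AlgInt}

/-- If no member of `B` lies over `θ`, the idempotent of `θ` annihilates the idempotent of `B`. -/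
theorem conv_eb_singleton_blockCoeff (B : Set (IrrCharacter G)) (θ : IrrCharacter N)
    (hno : ∀ χ ∈ B, classInner (fun n : N => (χ : G → ℂ) n) (θ : N → ℂ) = 0) :
    conv (eb N ({θ} : Set (IrrCharacter N))) (blockCoeff B) = 0 := by
  classical
  have : Fintype (IrrCharacter G) := Fintype.ofFinite _
  have : Fintype (IrrCharacter N) := Fintype.ofFinite _
  set t := eb (G := G) N ({θ} : Set (IrrCharacter N)) with ht
  set E := blockCoeff B with hE
  have hEcf : IsClassFunction G E := isClassFunction_blockCoeff B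
  apply eq_zero_of_sum_mul_conj_eq_zero
  have htt : conv t t = t := by rw [ht, conv_eb, Set.inter_self]
  have hEE : conv E E = E := by rw [hE, conv_blockCoeff_blockCoeff, Set.inter_self]
  have s1 := sum_conv_mul_conj (conj_eb N ({θ} : Set (IrrCharacter N))) E (conv t E)
  rw [← ht, ← conv_assoc, htt] at s1
  rw [s1]
  have s2 := sum_conv_mul_conj (conj_blockCoeff B) E t
  rw [← hE, hEE, conv_comm_of_isClassFunction hEcf t] at s2
  rw [← s2]
  -- now compute `∑ x, E x * conj (t x)`
  have s3 : ∑ x, E x * conj (t x) = conj (∑ x, t x * E x⁻¹) := by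
    rw [map_sum]
    refine Finset.sum_congr rfl fun x _ => ?_
    rw [map_mul, hE, ← conj_blockCoeff B x, Complex.conj_conj, mul_comm]
  rw [s3, ht]
  unfold eb
  rw [sum_extZ_mul N (blockCoeff ({θ} : Set (IrrCharacter N))) (fun x => E x⁻¹)]
  rw [sum_blockCoeff_mul ({θ} : Set (IrrCharacter N)) (fun n : N => E ((n : G))⁻¹)]
  have key : classInner (fun n : N => E ((n : G))⁻¹) (θ : N → ℂ) = 0 := by
    have e1 : (fun n : N => E ((n : G))⁻¹) = ∑ χ : IrrCharacter G,
        ((Nat.card G : ℂ)⁻¹ * ((if χ ∈ B then (1 : ℂ) else 0) * (χ : G → ℂ) 1)) •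
          (fun n : N => (χ : G → ℂ) n) := by
      funext n
      rw [hE, ← conj_blockCoeff B (n : G), blockCoeff_eq_sum, Finset.sum_apply]
      rw [map_mul, map_inv₀, map_natCast, map_sum, Finset.mul_sum]
      refine Finset.sum_congr rfl fun χ _ => ?_
      rw [Pi.smul_apply, smul_eq_mul, map_mul, map_mul, Complex.conj_conj]
      obtain ⟨m, hm⟩ := isCharacter_apply_one (isCharacter_of_irr χ.2)
      rw [hm, map_natCast]
      split_ifs <;> simp [mul_assoc]
    rw [e1, classInner_sum_left]
    apply Finset.sum_eq_zero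
    intro χ _
    rw [classInner_smul_left]
    by_cases hχ : χ ∈ B
    · rw [hno χ hχ, mul_zero]
    · rw [if_neg hχ, zero_mul, mul_zero, zero_mul]
  rw [Finset.sum_eq_single θ]
  · rw [key, mul_zero, map_zero]
  · intro θ' _ hθ'
    rw [if_neg (by simpa using hθ'), zero_mul, zero_mul]
  · intro h
    exact absurd (Finset.mem_univ _) h

/-- **Navarro 9.4, invariant case**: if `B` covers the `G`-invariant block `b` of the normal
subgroup `N`, every member of `b` lies under a member of `B`. -/
theorem exists_over_of_covers_invariant (hM : M.IsPrime) {b : Set (IrrCharacter N)}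
    (hb : IsPBlock M b) (hinv : ∀ g : G, StabilizesBlock N b g) {B : Set (IrrCharacter G)}
    (hB : IsPBlock M B) (hcov : Covers N B b) {θ : IrrCharacter N} (hθ : θ ∈ b) :
    ∃ χ ∈ B, classInner (fun n : N => (χ : G → ℂ) n) (θ : N → ℂ) ≠ 0 := by
  classical
  by_contra hcon
  push Not at hcon
  obtain ⟨q, d, hd, hj⟩ := exists_unit_component_block N hM hb hinv hB hcov
  set e : CAlg G := CAlg.of (eb N b) with he
  set c : CAlg G := CAlg.of (cosetPart N q (blockCoeff B)) with hc
  set t : CAlg G := CAlg.of (eb N ({θ} : Set (IrrCharacter N))) with ht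
  set j : CAlg G := e - c * d with hjdef
  have hcC : c ∈ Cq N hM b q := cosetPart_mem_Cq N hM hb hinv hB hcov q
  have he1 : e ∈ Cq N hM b 1 := eb_mem_Cq_one N hM hb
  have hcd : c * d ∈ Cq N hM b 1 := by
    have := Cq_mul N hM b hcC hd
    rwa [mul_inv_cancel] at this
  have hjC : j ∈ Cq N hM b 1 := (Cq N hM b 1).sub_mem he1 hcd
  -- `t * c = 0`
  have h1 : t * c = 0 := by
    change CAlg.of (conv (eb N ({θ} : Set (IrrCharacter N))) (cosetPart N q (blockCoeff B))) = 0
    rw [conv_cosetPart N (fun g hg => eb_of_not_mem N _ hg),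
      conv_eb_singleton_blockCoeff N B θ hcon]
    ext g
    by_cases hg : (g : G ⧸ N) = q
    · exact cosetPart_of_eq N _ hg
    · exact cosetPart_of_ne N _ hg
  have h2 : t * e = t := by
    change CAlg.of (conv (eb N ({θ} : Set (IrrCharacter N))) (eb N b)) = _
    rw [conv_eb, Set.inter_eq_left.2 (Set.singleton_subset_iff.2 hθ)]
  have h3 : t * j = t := by
    rw [hjdef, mul_sub, h2, ← mul_assoc, h1, zero_mul, sub_zero]
  -- restrict to `N`
  have hsupp := support_of_mem_Cq_one N hM b hjC
  have h4 : CAlg.of (blockCoeff ({θ} : Set (IrrCharacter N))) * restrN N j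
      = CAlg.of (blockCoeff ({θ} : Set (IrrCharacter N))) := by
    have e1 : extHom (G := G) N (CAlg.of (blockCoeff ({θ} : Set (IrrCharacter N))) * restrN N j)
        = extHom N (CAlg.of (blockCoeff ({θ} : Set (IrrCharacter N)))) := by
      rw [map_mul, extHom_restrN N hsupp]
      exact h3
    have e2 := congrArg CAlg.fn e1
    rw [extHom_apply, extHom_apply] at e2
    exact extZ_injective N e2
  obtain ⟨hcl, -, -⟩ := restrN_spec N hM hb hjC
  have h5 := congrArg (fun x : CAlg N => omega (θ : N → ℂ) (CAlg.fn x)) h4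
  rw [CAlg.fn_mul, omega_conv θ.2 hcl] at h5
  have h6 : omega (θ : N → ℂ) (CAlg.fn (CAlg.of (blockCoeff ({θ} : Set (IrrCharacter N))))) = 1 := by
    rw [CAlg.fn_of, omega_blockCoeff, if_pos (Set.mem_singleton θ)]
  rw [h6, one_mul] at h5
  have h7 : MemLocalIdeal M (omega (θ : N → ℂ) (CAlg.fn (restrN N j))) :=
    memLocalIdeal_omega hM θ.2 hcl (fun n => hj _)
  rw [h5] at h7
  exact not_memLocalIdeal_one hM h7

end

end Cfsg.Agent.Lib.Helper8
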