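import Mathlib
import Cfsg.Prelude.Def_Blocks
import Cfsg.Prelude.Def_BlockLocal
import Cfsg.Agent.Lib.Helper8.FR4
import Cfsg.Agent.S0148

/-!
# Fong–Reynolds, part 5: the character correspondence
-/

set_option autoImplicit false

namespace Cfsg.Agent.Lib.Helper8

open Cfsg
open scoped ComplexConjugate
open Cfsg.Agent.Lib.Helper1 Cfsg.Agent.Lib.Helper4

universe u

section

variable {G : Type u} [Group G] [Fintype G] (N : Subgroup G) [Fintype N]
  (T : Subgroup G) [Fintype T] (hNT : N ≤ T)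

include hNT

omit [Fintype G] in
/-- Multiplicities in a restriction from `T` to `N` via the irreducible constituents on `T`. -/
theorem classInner_restrict_eq_sum [Fintype (IrrCharacter T)] {Χ : T → ℂ}
    (hΧ : IsClassFunction T Χ) (θ : N → ℂ) :
    classInner (fun n : N => Χ ⟨n, hNT n.2⟩) θ = ∑ ψ : IrrCharacter T,
      classInner Χ (ψ : T → ℂ) * classInner (fun n : N => (ψ : T → ℂ) ⟨n, hNT n.2⟩) θ := by
  have h1 : (fun n : N => Χ ⟨n, hNT n.2⟩) = ∑ ψ : IrrCharacter T,
      classInner Χ (ψ : T → ℂ) • (fun n : N => (ψ : T → ℂ) ⟨n, hNT n.2⟩) := by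
    funext n
    have := congrFun (class_function_expansion Χ hΧ) ⟨n, hNT n.2⟩
    rw [this]
    simp only [Finset.sum_apply, Pi.smul_apply]
  rw [h1, classInner_sum_left]
  refine Finset.sum_congr rfl fun ψ _ => ?_
  rw [classInner_smul_left]

omit [Fintype G] in
/-- Transitivity of "lying over". -/
theorem classInner_restrict_ne_zero_of_constituent {Χ : T → ℂ} (hΧ : IsCharacter T Χ)
    {ψ : T → ℂ} (hψ : IsIrrCharacter T ψ) (h1 : classInner Χ ψ ≠ 0) {θ : N → ℂ}
    (hθ : IsIrrCharacter N θ) (h2 : classInner (fun n : N => ψ ⟨n, hNT n.2⟩) θ ≠ 0) :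
    classInner (fun n : N => Χ ⟨n, hNT n.2⟩) θ ≠ 0 := by
  classical
  have : Fintype (IrrCharacter T) := Fintype.ofFinite _
  rw [classInner_restrict_eq_sum N T hNT (isClassFunction_of_isCharacter hΧ) θ]
  have hk : ∀ ψ' : IrrCharacter T, ∃ k : ℕ, classInner Χ (ψ' : T → ℂ) *
      classInner (fun n : N => (ψ' : T → ℂ) ⟨n, hNT n.2⟩) θ = k := by
    intro ψ'
    obtain ⟨k1, hk1⟩ := classInner_char_irr_nat hΧ ψ'.2
    obtain ⟨k2, hk2⟩ := classInner_char_irr_nat
      (isCharacter_comp_hom (isCharacter_of_irr ψ'.2) (Subgroup.inclusion hNT)) hθ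
    refine ⟨k1 * k2, ?_⟩
    rw [hk1, Nat.cast_mul, ← hk2]
    rfl
  choose k hk using hk
  rw [Finset.sum_congr rfl fun ψ' _ => hk ψ', ← Nat.cast_sum, Nat.cast_ne_zero]
  intro h
  have h3 := (Finset.sum_eq_zero_iff.1 h) ⟨ψ, hψ⟩ (Finset.mem_univ _)
  have h4 := hk ⟨ψ, hψ⟩
  rw [h3, Nat.cast_zero] at h4
  rcases mul_eq_zero.1 h4 with h5 | h5
  · exact h1 h5
  · exact h2 h5

end

section

variable {G : Type u} [Group G] [Fintype G] (N : Subgroup G) [hN : N.Normal] [Fintype N]
  {M : Ideal AlgInt} (T : Subgroup G) [Fintype T] (hNT : N ≤ T)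

include hNT

/-- **Fong–Reynolds, orthonormality**: induction to `G` is an isometry on the irreducible
characters of the stabilizer lying over the block. -/
theorem classInner_indFun_of_over (hM : M.IsPrime) {b : Set (IrrCharacter N)} (hb : IsPBlock M b)
    (hT : ∀ g : G, g ∈ T ↔ StabilizesBlock N b g) {ψ ψ' : T → ℂ} (hψ : IsIrrCharacter T ψ)
    (hψ' : IsIrrCharacter T ψ')
    (h1 : omega ψ (fun t : T => eb N b t) = 1) (h2 : omega ψ' (fun t : T => eb N b t) = 1) :
    classInner (indFun T ψ) (indFun T ψ') = classInner ψ ψ' := by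
  have hcl := isClassFunction_eb_restrict N T hT
  have hsupp : ∀ g, g ∉ T → eb N b g = 0 := fun g hg => eb_of_not_mem' N T hNT b hg
  exact classInner_indFun_indFun_of_orth T (conj_eb N b)
    (fun g hg => conv_eb_conjF_eb_eq_zero N T hM hb hT hg) (isClassFunction_irr hψ')
    (conv_conj_extZ_of_omega_eq_one T hsupp hcl hψ h1)
    (conv_conj_extZ_of_omega_eq_one T hsupp hcl hψ' h2)

/-- Irreducible characters of the stabilizer lying over the block induce irreducibly. -/
theorem isIrrCharacter_indFun_of_over (hM : M.IsPrime) {b : Set (IrrCharacter N)}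
    (hb : IsPBlock M b)
    (hT : ∀ g : G, g ∈ T ↔ StabilizesBlock N b g) {ψ : T → ℂ} (hψ : IsIrrCharacter T ψ)
    (h1 : omega ψ (fun t : T => eb N b t) = 1) : IsIrrCharacter G (indFun T ψ) := by
  apply isIrrCharacter_of_norm_one (Cfsg.Agent.S0148.result T ψ (isCharacter_of_irr hψ))
  rw [classInner_indFun_of_over N T hNT hM hb hT hψ hψ h1 h1, classInner_irr_self hψ]

/-- Induction is injective on the irreducible characters lying over the block. -/
theorem indFun_injective_of_over (hM : M.IsPrime) {b : Set (IrrCharacter N)}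
    (hb : IsPBlock M b)
    (hT : ∀ g : G, g ∈ T ↔ StabilizesBlock N b g) {ψ ψ' : T → ℂ} (hψ : IsIrrCharacter T ψ)
    (hψ' : IsIrrCharacter T ψ')
    (h1 : omega ψ (fun t : T => eb N b t) = 1) (h2 : omega ψ' (fun t : T => eb N b t) = 1)
    (h : indFun T ψ = indFun T ψ') : ψ = ψ' := by
  by_contra hne
  have e1 := classInner_indFun_of_over N T hNT hM hb hT hψ hψ' h1 h2
  have e2 := classInner_indFun_of_over N T hNT hM hb hT hψ hψ h1 h1
  rw [classInner_irr_ne hψ hψ' hne, ← h, e2, classInner_irr_self hψ] at e1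
  exact one_ne_zero e1

/-- Every irreducible character of `G` lying over `θ ∈ b` is induced from an irreducible
character of the stabilizer lying over `θ`. -/
theorem exists_indFun_eq_of_over (hM : M.IsPrime) {b : Set (IrrCharacter N)}
    (hb : IsPBlock M b)
    (hT : ∀ g : G, g ∈ T ↔ StabilizesBlock N b g) {χ : G → ℂ} (hχ : IsIrrCharacter G χ)
    {θ : IrrCharacter N} (hθ : θ ∈ b)
    (h : classInner (fun n : N => χ n) (θ : N → ℂ) ≠ 0) :
    ∃ ψ : T → ℂ, IsIrrCharacter T ψ ∧
      classInner (fun n : N => ψ ⟨n, hNT n.2⟩) (θ : N → ℂ) ≠ 0 ∧ χ = indFun T ψ := by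
  classical
  have : Fintype (IrrCharacter T) := Fintype.ofFinite _
  have hcl := isClassFunction_eb_restrict N T hT
  have hχT : IsCharacter T (fun t : T => χ t) :=
    Cfsg.Agent.S0148.isCharacter_restrict T (isCharacter_of_irr hχ)
  have h1 := classInner_restrict_eq_sum N T hNT (isClassFunction_of_isCharacter hχT) (θ : N → ℂ)
  have h2 : (fun n : N => (fun t : T => χ t) ⟨n, hNT n.2⟩) = fun n : N => χ n := rfl
  rw [h2] at h1
  rw [h1] at h
  obtain ⟨ψ, _, hψ⟩ := Finset.exists_ne_zero_of_sum_ne_zero h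
  have hψ1 : classInner (fun t : T => χ t) (ψ : T → ℂ) ≠ 0 := left_ne_zero_of_mul hψ
  have hψ2 := right_ne_zero_of_mul hψ
  have hover : omega (ψ : T → ℂ) (fun t : T => eb N b t) = 1 :=
    (omega_eb_eq_one_iff N T hNT hcl ψ.2).2 ⟨θ, hθ, hψ2⟩
  have hirr := isIrrCharacter_indFun_of_over N T hNT hM hb hT ψ.2 hover
  refine ⟨ψ, ψ.2, hψ2, ?_⟩
  by_contra hne
  have h3 := classInner_irr_ne hirr hχ (Ne.symm hne)
  rw [Cfsg.Agent.S0146.result T (ψ : T → ℂ) χ (isClassFunction_irr hχ)] at h3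
  apply hψ1
  rw [← classInner_conj_symm, h3, map_zero]

end

end Cfsg.Agent.Lib.Helper8
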