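import Mathlib
import Cfsg.Prelude.Def_Blocks
import Cfsg.Prelude.Def_BlockLocal
import Cfsg.Agent.Lib.Helper8.FR5
import Cfsg.Agent.Lib.Helper5.BorelInd
import Cfsg.Agent.Lib.Helper8.InducedOmega

/-!
# Fong–Reynolds, part 6: blocks
-/

set_option autoImplicit false

namespace Cfsg.Agent.Lib.Helper8

open Cfsg
open scoped ComplexConjugate
open Cfsg.Agent.Lib.Helper1 Cfsg.Agent.Lib.Helper4

universe u

section

variable {G : Type u} [Group G] [Fintype G] {M : Ideal AlgInt}

omit [Fintype G] in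
theorem out_mul_bijective (T : Subgroup G) :
    Function.Bijective (fun p : (G ⧸ T) × T => (Quotient.out p.1 : G) * (p.2 : G)) := by
  constructor
  · rintro ⟨q, h⟩ ⟨q', h'⟩ heq
    simp only at heq
    have h1 : q = q' := by
      have e1 : (QuotientGroup.mk (Quotient.out q * (h : G)) : G ⧸ T) = q := by
        rw [QuotientGroup.mk_mul_of_mem _ h.2]
        exact Quotient.out_eq' q
      have e2 : (QuotientGroup.mk (Quotient.out q' * (h' : G)) : G ⧸ T) = q' := by
        rw [QuotientGroup.mk_mul_of_mem _ h'.2]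
        exact Quotient.out_eq' q'
      rw [← e1, ← e2, heq]
    subst h1
    have h2 : (h : G) = h' := mul_left_cancel heq
    rw [Subtype.ext h2]
  · intro g
    obtain ⟨h, hh⟩ := QuotientGroup.mk_out_eq_mul T g
    refine ⟨(QuotientGroup.mk g, h⁻¹), ?_⟩
    simp only
    rw [hh]
    simp

/-- Values of a function induced from a class function with local-integral values are
local integers. -/
theorem memLocalRing_indFun (hM : M.IsPrime) (T : Subgroup G) {ε : T → ℂ}
    (hε : IsClassFunction T ε) (hloc : ∀ t, MemLocalRing M (ε t)) (g : G) :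
    MemLocalRing M (indFun T ε g) := by
  classical
  have : Fintype (G ⧸ T) := Fintype.ofFinite _
  have hε' : ∀ h k : T, ε (h⁻¹ * k * h) = ε k := by
    intro h k
    have := hε k h⁻¹
    rwa [inv_inv] at this
  rw [Cfsg.Agent.Lib.Helper5.indFun_eq_sum_transversal T ε hε'
    (fun q : G ⧸ T => (Quotient.out q : G)) (out_mul_bijective T) g]
  apply memLocalRing_sum hM
  intro q _
  rw [extendByZero_eq_extZ]
  by_cases hx : (Quotient.out q : G)⁻¹ * g * Quotient.out q ∈ T
  · rw [extZ_of_mem T _ hx]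
    exact hloc _
  · rw [extZ_of_not_mem T _ hx]
    exact memLocalRing_zero hM.ne_top

end

section

variable {G : Type u} [Group G] [Fintype G] (N : Subgroup G) [hN : N.Normal] [Fintype N]
  {M : Ideal AlgInt} (T : Subgroup G) [Fintype T] (hNT : N ≤ T)

include hNT

omit hN in
/-- All members of a block of `T` covering `b` lie over `b`. -/
theorem omega_eb_eq_one_of_covers (hM : M.IsPrime) {b : Set (IrrCharacter N)}
    (hb : IsPBlock M b) (hcl : IsClassFunction T (fun t : T => eb N b t))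
    {B' : Set (IrrCharacter T)} (hB' : IsPBlock M B')
    (hcov : ∃ ψ ∈ B', ∃ θ ∈ b,
      classInner (fun n : N => (ψ : T → ℂ) ⟨(n : G), hNT n.2⟩) (θ : N → ℂ) ≠ 0)
    {ψ : IrrCharacter T} (hψ : ψ ∈ B') : omega (ψ : T → ℂ) (fun t : T => eb N b t) = 1 := by
  obtain ⟨ψ₀, hψ₀, θ, hθ, h0⟩ := hcov
  have h1 : omega (ψ₀ : T → ℂ) (fun t : T => eb N b t) = 1 :=
    (omega_eb_eq_one_iff N T hNT hcl ψ₀.2).2 ⟨θ, hθ, h0⟩
  have hs : SameBlock M (ψ₀ : T → ℂ) (ψ : T → ℂ) := by
    have := eq_blockOf_of_mem hM hB' hψ₀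
    rw [this] at hψ
    exact hψ
  exact omega_eb_eq_one_of_sameBlock N T hNT hM hb hcl ψ₀.2 ψ.2 hs h1

omit hN in
/-- The idempotent of a block of `T` covering `b` is fixed by the idempotent of `b`. -/
theorem conv_eb_extZ_blockCoeff {b : Set (IrrCharacter N)}
    (hcl : IsClassFunction T (fun t : T => eb N b t))
    {B' : Set (IrrCharacter T)}
    (hover : ∀ ψ ∈ B', omega (ψ : T → ℂ) (fun t : T => eb N b t) = 1) :
    conv (eb N b) (extZ T (blockCoeff B')) = extZ T (blockCoeff B') := by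
  have h1 : eb N b = extZ T (fun t : T => eb N b t) :=
    eq_extZ_of_support T (fun g hg => eb_of_not_mem' N T hNT b hg)
  have h2 := eq_blockCoeff_of_conv_self hcl (conv_eb_restrict N T hNT b)
  conv_lhs => rw [h1]
  rw [conv_extZ, h2, conv_blockCoeff_blockCoeff]
  congr 2
  exact Set.inter_eq_right.2 (fun ψ hψ => hover ψ hψ)

/-- The induced idempotent of a block of `T` covering `b` separates that block from the other
characters of `T` lying over `b`. -/
theorem omega_indFun_blockCoeff (hM : M.IsPrime) {b : Set (IrrCharacter N)}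
    (hb : IsPBlock M b) (hT : ∀ g : G, g ∈ T ↔ StabilizesBlock N b g)
    {B' : Set (IrrCharacter T)}
    (hover : ∀ ψ ∈ B', omega (ψ : T → ℂ) (fun t : T => eb N b t) = 1)
    (ψ : IrrCharacter T) (hψ : omega (ψ : T → ℂ) (fun t : T => eb N b t) = 1) :
    omega (ψ : T → ℂ) (fun t : T => indFun T (blockCoeff B') t) =
      (by classical exact if ψ ∈ B' then (1 : ℂ) else 0) := by
  have hcl := isClassFunction_eb_restrict N T hT
  have hsupp : ∀ g, g ∉ T → eb N b g = 0 := fun g hg => eb_of_not_mem' N T hNT b hg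
  rw [← omega_blockCoeff B' ψ]
  unfold omega
  congr 1
  exact sum_indFun_mul_of_orth T (conj_eb N b)
    (fun g hg => conv_eb_conjF_eb_eq_zero N T hM hb hT hg) (isClassFunction_blockCoeff B')
    (conv_conj_extZ_of_omega_eq_one T hsupp hcl ψ.2 hψ)
    (conv_eb_extZ_blockCoeff N T hNT hcl hover)

/-- **Fong–Reynolds, injectivity on blocks**: two blocks of the stabilizer covering `b` and
inducing the same block of `G` are equal. -/
theorem eq_of_isInducedBlock_of_covers (hM : M.IsPrime) {b : Set (IrrCharacter N)}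
    (hb : IsPBlock M b) (hT : ∀ g : G, g ∈ T ↔ StabilizesBlock N b g)
    {B'₁ B'₂ : Set (IrrCharacter T)} (hB'₁ : IsPBlock M B'₁) (hB'₂ : IsPBlock M B'₂)
    (hcov₁ : ∃ ψ ∈ B'₁, ∃ θ ∈ b,
      classInner (fun n : N => (ψ : T → ℂ) ⟨(n : G), hNT n.2⟩) (θ : N → ℂ) ≠ 0)
    (hcov₂ : ∃ ψ ∈ B'₂, ∃ θ ∈ b,
      classInner (fun n : N => (ψ : T → ℂ) ⟨(n : G), hNT n.2⟩) (θ : N → ℂ) ≠ 0)
    {B : Set (IrrCharacter G)} (h₁ : IsInducedBlock M T B'₁ B) (h₂ : IsInducedBlock M T B'₂ B) :
    B'₁ = B'₂ := by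
  classical
  have hcl := isClassFunction_eb_restrict N T hT
  have hover₁ : ∀ ψ ∈ B'₁, omega (ψ : T → ℂ) (fun t : T => eb N b t) = 1 :=
    fun ψ hψ => omega_eb_eq_one_of_covers N T hNT hM hb hcl hB'₁ hcov₁ hψ
  have hover₂ : ∀ ψ ∈ B'₂, omega (ψ : T → ℂ) (fun t : T => eb N b t) = 1 :=
    fun ψ hψ => omega_eb_eq_one_of_covers N T hNT hM hb hcl hB'₂ hcov₂ hψ
  obtain ⟨ψ₁, hψ₁⟩ := isPBlock_nonempty hM hB'₁
  obtain ⟨ψ₂, hψ₂⟩ := isPBlock_nonempty hM hB'₂
  obtain ⟨χ, hχ⟩ := isPBlock_nonempty hM h₁.2.1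
  set F : G → ℂ := indFun T (blockCoeff B'₁) with hF
  have hFcl : IsClassFunction G F := indFun_isClassFunction T _
  have hFloc : ∀ g, MemLocalRing M (F g) :=
    memLocalRing_indFun hM T (isClassFunction_blockCoeff B'₁)
      (fun t => blockCoeff_memLocalRing hM hB'₁ t)
  have e1 := omega_restrict_cong_of_induced hM T h₁ hψ₁ hχ hFcl hFloc
  have e2 := omega_restrict_cong_of_induced hM T h₂ hψ₂ hχ hFcl hFloc
  rw [hF, omega_indFun_blockCoeff N T hNT hM hb hT hover₁ ψ₁ (hover₁ ψ₁ hψ₁), if_pos hψ₁] at e1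
  rw [hF, omega_indFun_blockCoeff N T hNT hM hb hT hover₁ ψ₂ (hover₂ ψ₂ hψ₂)] at e2
  by_cases hmem : ψ₂ ∈ B'₁
  · rw [eq_blockOf_of_mem hM hB'₁ hmem, eq_blockOf_of_mem hM hB'₂ hψ₂]
  · exfalso
    rw [if_neg hmem] at e2
    have e3 := memLocalIdeal_sub hM e1 e2
    rw [sub_sub_sub_cancel_right, sub_zero] at e3
    exact not_memLocalIdeal_one hM e3

end

end Cfsg.Agent.Lib.Helper8
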