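import Mathlib
import Cfsg.Prelude.Def_Blocks
import Cfsg.Prelude.Def_BlockLocal
import Cfsg.Agent.Lib.Helper8.FR6
import Cfsg.Agent.Lib.Helper8.Cover2
import Cfsg.Agent.Lib.Helper8.BlockPairMax
import Cfsg.Agent.S0933

/-!
# Fong–Reynolds, part 7: the correspondence of blocks
-/

set_option autoImplicit false

namespace Cfsg.Agent.Lib.Helper8

open Cfsg
open scoped ComplexConjugate
open Cfsg.Agent.Lib.Helper1 Cfsg.Agent.Lib.Helper4

universe u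

section

variable {G : Type u} [Group G] [Fintype G] (N : Subgroup G) [hN : N.Normal] [Fintype N]
  {M : Ideal AlgInt} {p : ℕ} [Fact p.Prime] (T : Subgroup G) [Fintype T] (hNT : N ≤ T)

include hNT

/-- A block of `G` covering `b` is induced from a block of the stabilizer covering `b`. -/
theorem exists_isInducedBlock_of_covers (hM : IsPModular p M) {b : Set (IrrCharacter N)}
    (hb : IsPBlock M b) (hT : ∀ g : G, g ∈ T ↔ StabilizesBlock N b g)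
    {B : Set (IrrCharacter G)} (hB : IsPBlock M B) {χ : IrrCharacter G} (hχ : χ ∈ B)
    {θ : IrrCharacter N} (hθ : θ ∈ b)
    (h : classInner (fun n : N => (χ : G → ℂ) n) (θ : N → ℂ) ≠ 0) :
    ∃ ψ : IrrCharacter T, classInner (fun n : N => (ψ : T → ℂ) ⟨n, hNT n.2⟩) (θ : N → ℂ) ≠ 0 ∧
      (χ : G → ℂ) = indFun T (ψ : T → ℂ) ∧ IsInducedBlock M T (blockOf M (ψ : T → ℂ)) B := by
  have hMp := isPModular_isPrime hM
  obtain ⟨ψ, hψ, hψθ, hχψ⟩ := exists_indFun_eq_of_over N T hNT hMp hb hT χ.2 hθ h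
  refine ⟨⟨ψ, hψ⟩, hψθ, hχψ, ?_⟩
  have hirr : IsIrrCharacter G (indFun T ψ) := hχψ ▸ χ.2
  have h1 := Cfsg.Agent.S0933.result p M hM T ⟨ψ, hψ⟩ hirr
  have h2 : blockOf M (indFun T ψ) = B := by
    rw [eq_blockOf_of_mem hMp hB hχ, hχψ]
  rw [← h2]
  exact h1

/-- **Fong–Reynolds, part (i).** -/
theorem fongReynolds_induce (hM : IsPModular p M) {b : Set (IrrCharacter N)}
    (hb : IsPBlock M b) (hT : ∀ g : G, g ∈ T ↔ StabilizesBlock N b g)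
    {B' : Set (IrrCharacter T)} (hB' : IsPBlock M B')
    (hcov : ∃ ψ ∈ B', ∃ θ ∈ b,
      classInner (fun n : N => (ψ : T → ℂ) ⟨(n : G), hNT n.2⟩) (θ : N → ℂ) ≠ 0) :
    ∃ B : Set (IrrCharacter G), IsInducedBlock M T B' B ∧
      (∃ χ ∈ B, ∃ θ ∈ b, classInner (fun n : N => (χ : G → ℂ) n) (θ : N → ℂ) ≠ 0) ∧
      (∀ ψ ∈ B', IsIrrCharacter G (indFun T (ψ : T → ℂ))) ∧
      ∀ χ : IrrCharacter G, χ ∈ B ↔ ∃ ψ ∈ B', (χ : G → ℂ) = indFun T (ψ : T → ℂ) := by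
  classical
  have hMp := isPModular_isPrime hM
  have hcl := isClassFunction_eb_restrict N T hT
  have hover : ∀ ψ ∈ B', omega (ψ : T → ℂ) (fun t : T => eb N b t) = 1 :=
    fun ψ hψ => omega_eb_eq_one_of_covers N T hNT hMp hb hcl hB' hcov hψ
  have hirr : ∀ ψ ∈ B', IsIrrCharacter G (indFun T (ψ : T → ℂ)) :=
    fun ψ hψ => isIrrCharacter_indFun_of_over N T hNT hMp hb hT ψ.2 (hover ψ hψ)
  have hind : ∀ ψ (hψ : ψ ∈ B'), IsInducedBlock M T B' (blockOf M (indFun T (ψ : T → ℂ))) := by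
    intro ψ hψ
    have := Cfsg.Agent.S0933.result p M hM T ψ (hirr ψ hψ)
    rwa [← eq_blockOf_of_mem hMp hB' hψ] at this
  obtain ⟨ψ₀, hψ₀⟩ := isPBlock_nonempty hMp hB'
  set B : Set (IrrCharacter G) := blockOf M (indFun T (ψ₀ : T → ℂ)) with hBdef
  have hB : IsPBlock M B := ⟨⟨_, hirr ψ₀ hψ₀⟩, rfl⟩
  have hχ₀ : (⟨_, hirr ψ₀ hψ₀⟩ : IrrCharacter G) ∈ B := sameBlock_refl hMp.ne_top _
  -- `B` covers `b`
  have hBcov : ∃ χ ∈ B, ∃ θ ∈ b,
      classInner (fun n : N => (χ : G → ℂ) n) (θ : N → ℂ) ≠ 0 := by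
    obtain ⟨θ, hθ, hψθ⟩ := (omega_eb_eq_one_iff N T hNT hcl ψ₀.2).1 (hover ψ₀ hψ₀)
    refine ⟨⟨_, hirr ψ₀ hψ₀⟩, hχ₀, θ, hθ, ?_⟩
    have hΧ : IsCharacter T (fun t : T => indFun T (ψ₀ : T → ℂ) t) :=
      Cfsg.Agent.S0148.isCharacter_restrict T (isCharacter_of_irr (hirr ψ₀ hψ₀))
    have h1 : classInner (fun t : T => indFun T (ψ₀ : T → ℂ) t) (ψ₀ : T → ℂ) ≠ 0 := by
      rw [← classInner_conj_symm, ← Cfsg.Agent.S0146.result T (ψ₀ : T → ℂ) _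
        (indFun_isClassFunction T _), classInner_irr_self (hirr ψ₀ hψ₀)]
      simp
    exact classInner_restrict_ne_zero_of_constituent N T hNT hΧ ψ₀.2 h1 θ.2 hψθ
  refine ⟨B, hind ψ₀ hψ₀, hBcov, hirr, ?_⟩
  intro χ
  constructor
  · intro hχ
    -- a constituent of `χ` on `N` in `b`
    obtain ⟨θ', hθ'⟩ := exists_irr_constituent (K := N)
      (Cfsg.Agent.S0148.isCharacter_restrict N (isCharacter_of_irr χ.2))
      (irr_apply_one_ne_zero χ.2)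
    have hθ'orb := mem_gOrbit_of_covers N hMp hB hb hBcov hχ hθ'
    obtain ⟨g, θ, hθ, hconj⟩ := (mem_gOrbit_iff N b θ').1 hθ'orb
    have hθ'eq : (θ' : N → ℂ) = conjFn N (θ : N → ℂ) g := by
      funext n
      rw [hconj n, conjFn_apply]
    have hχθ : classInner (fun n : N => (χ : G → ℂ) n) (θ : N → ℂ) ≠ 0 := by
      rw [← classInner_restrict_conjFn N (isClassFunction_irr χ.2) (θ : N → ℂ) g, ← hθ'eq]
      exact hθ'
    obtain ⟨ψ, hψθ, hχψ, hψind⟩ :=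
      exists_isInducedBlock_of_covers N T hNT hM hb hT hB hχ hθ hχθ
    refine ⟨ψ, ?_, hχψ⟩
    have hcov₂ : ∃ ψ' ∈ blockOf M (ψ : T → ℂ), ∃ θ ∈ b,
        classInner (fun n : N => (ψ' : T → ℂ) ⟨(n : G), hNT n.2⟩) (θ : N → ℂ) ≠ 0 :=
      ⟨ψ, sameBlock_refl hMp.ne_top _, θ, hθ, hψθ⟩
    have := eq_of_isInducedBlock_of_covers N T hNT hMp hb hT hB' ⟨ψ, rfl⟩ hcov hcov₂
      (hind ψ₀ hψ₀) hψind
    rw [this]
    exact sameBlock_refl hMp.ne_top _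
  · rintro ⟨ψ, hψ, hχψ⟩
    have h1 := isInducedBlock_unique hMp T (hind ψ₀ hψ₀) (hind ψ hψ)
    rw [hBdef, h1]
    show SameBlock M (indFun T (ψ : T → ℂ)) (χ : G → ℂ)
    rw [hχψ]
    exact sameBlock_refl hMp.ne_top _

end

end Cfsg.Agent.Lib.Helper8
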