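import Mathlib
import Cfsg.Prelude.Def_Blocks
import Cfsg.Agent.Lib.Helper8.CA7
import Cfsg.Agent.Lib.Helper8.BlockIso
import Cfsg.Agent.Lib.Helper8.FR7
import Cfsg.Agent.Lib.Helper8.BlockPairMax

/-!
# Every character of a covered block lies under the covering block (Navarro 9.4)
-/

set_option autoImplicit false
set_option linter.unusedSectionVars false

namespace Cfsg.Agent.Lib.Helper8

open Cfsg
open scoped ComplexConjugate
open Cfsg.Agent.Lib.Helper1 Cfsg.Agent.Lib.Helper4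

universe u

section

variable {G : Type u} [Group G] [Fintype G] (N : Subgroup G) [hN : N.Normal] [Fintype N]
  {M : Ideal AlgInt} (T : Subgroup G) [Fintype T] (hNT : N ≤ T)

theorem classInner_comp_mulEquiv_aux {A B : Type*} [Group A] [Group B] [Fintype A] [Fintype B]
    (e : A ≃* B) (f h : B → ℂ) :
    classInner (fun a => f (e a)) (fun a => h (e a)) = classInner f h := by
  rw [classInner_def, classInner_def, Nat.card_congr e.toEquiv]
  congr 1
  exact Equiv.sum_comp e.toEquiv (fun x => f x * conj (h x))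

theorem classInner_subgroupOf [Fintype (N.subgroupOf T)] (f : T → ℂ) (θ : N → ℂ) :
    classInner (fun m : N.subgroupOf T => f (m : T))
      (fun m : N.subgroupOf T => θ (Subgroup.subgroupOfEquivOfLe hNT m))
    = classInner (fun n : N => f ⟨(n : G), hNT n.2⟩) θ := by
  classical
  have := classInner_comp_mulEquiv_aux (Subgroup.subgroupOfEquivOfLe hNT)
    (fun n : N => f ⟨(n : G), hNT n.2⟩) θ
  rw [← this]
  congr 1

include hNT in
/-- The relative version of the invariant case: `T` stabilizes the block `b` of `N ≤ T`. -/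
theorem exists_over_of_covers_sub (hM : M.IsPrime) {b : Set (IrrCharacter N)}
    (hb : IsPBlock M b) (hT : ∀ t ∈ T, StabilizesBlock N b t) {B' : Set (IrrCharacter T)}
    (hB' : IsPBlock M B')
    (hcov : ∃ ψ ∈ B', ∃ θ ∈ b,
      classInner (fun n : N => (ψ : T → ℂ) ⟨(n : G), hNT n.2⟩) (θ : N → ℂ) ≠ 0)
    {θ : IrrCharacter N} (hθ : θ ∈ b) :
    ∃ ψ ∈ B', classInner (fun n : N => (ψ : T → ℂ) ⟨(n : G), hNT n.2⟩) (θ : N → ℂ) ≠ 0 := by
  classical
  have : Fintype (N.subgroupOf T) := Fintype.ofFinite _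
  set φ := Subgroup.subgroupOfEquivOfLe hNT with hφ
  set bT : Set (IrrCharacter (N.subgroupOf T)) := irrMap φ.symm '' b with hbT
  have hbTblock : IsPBlock M bT := isPBlock_image_irrMap φ.symm hb
  have hinv : ∀ t : T, StabilizesBlock (N.subgroupOf T) bT t := by
    intro t
    refine ⟨?_, ?_⟩
    · rw [Subgroup.normalizer_eq_top]
      trivial
    · rintro _ ⟨θ₁, hθ₁, rfl⟩
      obtain ⟨-, h2⟩ := hT t t.2
      obtain ⟨θ₂, hθ₂, hc⟩ := h2 θ₁ hθ₁
      refine ⟨irrMap φ.symm θ₂, ⟨θ₂, hθ₂, rfl⟩, ?_⟩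
      intro k k' hk
      rw [irrMap_apply, irrMap_apply]
      change (θ₂ : N → ℂ) (φ k') = (θ₁ : N → ℂ) (φ k)
      apply hc
      have := congrArg (fun x : T => (x : G)) hk
      simp only [Subgroup.coe_mul, Subgroup.coe_inv] at this
      exact this
  have key : ∀ (ψ : IrrCharacter T) (θ' : IrrCharacter N),
      classInner (fun m : N.subgroupOf T => (ψ : T → ℂ) (m : T))
        (irrMap φ.symm θ' : N.subgroupOf T → ℂ)
      = classInner (fun n : N => (ψ : T → ℂ) ⟨(n : G), hNT n.2⟩) (θ' : N → ℂ) := by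
    intro ψ θ'
    exact classInner_subgroupOf N T hNT (ψ : T → ℂ) (θ' : N → ℂ)
  have hcov' : Covers (N.subgroupOf T) B' bT := by
    obtain ⟨ψ, hψ, θ₀, hθ₀, h0⟩ := hcov
    refine ⟨ψ, hψ, irrMap φ.symm θ₀, ⟨θ₀, hθ₀, rfl⟩, ?_⟩
    rw [key]
    exact h0
  obtain ⟨ψ, hψ, h1⟩ := exists_over_of_covers_invariant (N.subgroupOf T) hM hbTblock hinv hB' hcov'
    (θ := irrMap φ.symm θ) ⟨θ, hθ, rfl⟩
  refine ⟨ψ, hψ, ?_⟩
  rw [← key]
  exact h1

/-- **Navarro 9.4**: if the block `B` of `G` covers the block `b` of the normal subgroup `N`,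
every member of `b` lies under a member of `B`. -/
theorem exists_over_of_covers {p : ℕ} [Fact p.Prime] (hM : IsPModular p M)
    {b : Set (IrrCharacter N)} (hb : IsPBlock M b)
    {B : Set (IrrCharacter G)} (hB : IsPBlock M B) (hcov : Covers N B b) {θ : IrrCharacter N}
    (hθ : θ ∈ b) : ∃ χ ∈ B, classInner (fun n : N => (χ : G → ℂ) n) (θ : N → ℂ) ≠ 0 := by
  classical
  have hMp := isPModular_isPrime hM
  set S := pairStab (⊤ : Subgroup G) N b with hS
  have : Fintype S := Fintype.ofFinite _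
  have hST : ∀ g : G, g ∈ S ↔ StabilizesBlock N b g := fun g => by
    rw [hS, mem_pairStab]
    exact ⟨fun h => h.2, fun h => ⟨Subgroup.mem_top g, h⟩⟩
  have hNS : N ≤ S := fun n hn => (hST n).2 (stabilizesBlock_of_mem N b hn)
  obtain ⟨χ₀, hχ₀, θ₀, hθ₀, h0⟩ := hcov
  obtain ⟨ψ₀, hψ₀θ, hχψ, hind⟩ :=
    exists_isInducedBlock_of_covers N S hNS hM hb hST hB hχ₀ hθ₀ h0
  set B' := blockOf M (ψ₀ : S → ℂ) with hB'
  have hB'block : IsPBlock M B' := ⟨ψ₀, rfl⟩
  have hψ₀B' : ψ₀ ∈ B' := sameBlock_refl hMp.ne_top _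
  have hcov' : ∃ ψ ∈ B', ∃ θ ∈ b,
      classInner (fun n : N => (ψ : S → ℂ) ⟨(n : G), hNS n.2⟩) (θ : N → ℂ) ≠ 0 :=
    ⟨ψ₀, hψ₀B', θ₀, hθ₀, hψ₀θ⟩
  obtain ⟨ψ, hψ, h1⟩ := exists_over_of_covers_sub N S hNS hMp hb (fun t ht => (hST t).1 ht)
    hB'block hcov' hθ
  obtain ⟨B₀, hind₀, -, hirr, hmem⟩ := fongReynolds_induce N S hNS hM hb hST hB'block hcov'
  have hBB : B₀ = B := isInducedBlock_unique hMp S hind₀ hind
  subst hBB
  refine ⟨⟨_, hirr ψ hψ⟩, (hmem _).2 ⟨ψ, hψ, rfl⟩, ?_⟩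
  -- `ψ` is a constituent of the restriction of `ψ^G`
  have hχirr := hirr ψ hψ
  have hres : IsCharacter S (fun s : S => indFun S (ψ : S → ℂ) (s : G)) :=
    Cfsg.Agent.S0148.isCharacter_restrict S (isCharacter_of_irr hχirr)
  have hfrob : classInner (fun s : S => indFun S (ψ : S → ℂ) (s : G)) (ψ : S → ℂ) ≠ 0 := by
    have := Cfsg.Agent.S0146.result S (ψ : S → ℂ) _ (isClassFunction_irr hχirr)
    rw [← classInner_conj_symm, ← this, classInner_irr_self hχirr]
    simp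
  exact classInner_restrict_ne_zero_of_constituent N S hNS hres ψ.2 hfrob θ.2 h1

end

end Cfsg.Agent.Lib.Helper8
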