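import Mathlib
import Cfsg.Prelude.Def_Characters
import Cfsg.Agent.Lib.Helper1.LinearChar
import Cfsg.Agent.Lib.Helper4.Characters

set_option autoImplicit false

namespace Cfsg.Agent.Lib.Helper8

open scoped ComplexConjugate
open Cfsg.Agent.Lib.Helper1 Cfsg.Agent.Lib.Helper4

universe u

section

variable {G : Type u} [Group G]

/-- The linear characters, in bijection with `G →* ℂˣ`. -/
noncomputable def linearCharEquiv :
    (G →* ℂˣ) ≃ {χ : Cfsg.IrrCharacter G // (χ : G → ℂ) 1 = 1} :=
  Equiv.ofBijective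
    (fun φ => ⟨⟨fun g => (φ g : ℂ), isIrrCharacter_of_hom φ⟩, by simp⟩)
    (by
      constructor
      · intro φ ψ h
        have h1 : (fun g => (φ g : ℂ)) = fun g => (ψ g : ℂ) :=
          congrArg (fun χ : {χ : Cfsg.IrrCharacter G // (χ : G → ℂ) 1 = 1} => ((χ : Cfsg.IrrCharacter G) : G → ℂ)) h
        ext g
        exact congrFun h1 g
      · rintro ⟨⟨χ, hχ⟩, h1⟩
        obtain ⟨φ, hφ⟩ := exists_hom_of_isIrrCharacter hχ h1
        refine ⟨φ, ?_⟩
        apply Subtype.ext
        apply Subtype.ext
        exact hφ.symm)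

/-- The number of linear characters is the index of the commutator subgroup. -/
theorem card_linear_irr [Finite G] :
    Nat.card {χ : Cfsg.IrrCharacter G // (χ : G → ℂ) 1 = 1} = (commutator G).index := by
  rw [← Nat.card_congr (linearCharEquiv (G := G)),
    Nat.card_congr (Abelianization.lift (G := G) (A := ℂˣ))]
  have : NeZero (Monoid.exponent (Abelianization G)) := ⟨Monoid.exponent_ne_zero_of_finite⟩
  rw [CommGroup.card_monoidHom_of_hasEnoughRootsOfUnity (Abelianization G) ℂ]
  exact (Subgroup.index_eq_card (commutator G)).symm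

/-- A linear character is multiplicative. -/
theorem linear_irr_mul {χ : G → ℂ} (hχ : Cfsg.IsIrrCharacter G χ) (h1 : χ 1 = 1) (a b : G) :
    χ (a * b) = χ a * χ b := by
  obtain ⟨φ, rfl⟩ := exists_hom_of_isIrrCharacter hχ h1
  simp

/-- A linear character is trivial on the commutator subgroup. -/
theorem linear_irr_commutator {χ : G → ℂ} (hχ : Cfsg.IsIrrCharacter G χ) (h1 : χ 1 = 1) {c : G}
    (hc : c ∈ commutator G) : χ c = 1 := by
  obtain ⟨φ, rfl⟩ := exists_hom_of_isIrrCharacter hχ h1
  have : c ∈ φ.ker := Abelianization.commutator_subset_ker φ hc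
  rw [MonoidHom.mem_ker] at this
  simp [this]

/-- `χ g * conj (χ g) = 1` for a linear character. -/
theorem linear_irr_mul_conj [Fintype G] {χ : G → ℂ} (hχ : Cfsg.IsIrrCharacter G χ) (h1 : χ 1 = 1)
    (g : G) : χ g * conj (χ g) = 1 := by
  rw [← isCharacter_inv (isCharacter_of_irr hχ) g, ← linear_irr_mul hχ h1, mul_inv_cancel, h1]

end

end Cfsg.Agent.Lib.Helper8
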