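import Mathlib
import Cfsg.Prelude.Def_Blocks
import Cfsg.Agent.Lib.Helper8.BlockFirstMain5
import Cfsg.Agent.Lib.Helper8.BlockRelOrbit

/-!
# The extended First Main Theorem
-/

set_option autoImplicit false
set_option linter.unusedSectionVars false

namespace Cfsg.Agent.Lib.Helper8

open Cfsg
open scoped ComplexConjugate
open Cfsg.Agent.Lib.Helper1 Cfsg.Agent.Lib.Helper4

universe u

section

variable {G : Type u} [Group G] [Finite G]

/-- The normalizer of `P` normalizes `P C_G(P)`. -/
theorem normalizer_le_normalizer_sup_centralizer (P : Subgroup G) :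
    Subgroup.normalizer (P : Set G) ≤
      Subgroup.normalizer ((P ⊔ Subgroup.centralizer (P : Set G) : Subgroup G) : Set G) := by
  have : Fintype G := Fintype.ofFinite G
  have key : ∀ n ∈ Subgroup.normalizer (P : Set G), ∀ h ∈ P ⊔ Subgroup.centralizer (P : Set G),
      n * h * n⁻¹ ∈ P ⊔ Subgroup.centralizer (P : Set G) := by
    intro n hn h hh
    have h1 : (P ⊔ Subgroup.centralizer (P : Set G)).map (MulAut.conj n).toMonoidHom ≤
        P ⊔ Subgroup.centralizer (P : Set G) := by
      rw [Subgroup.map_sup]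
      apply sup_le
      · apply le_trans _ le_sup_left
        rintro _ ⟨u, hu, rfl⟩
        exact (Subgroup.mem_normalizer_iff.1 hn u).1 hu
      · apply le_trans _ le_sup_right
        rintro _ ⟨c, hc, rfl⟩
        exact conj_mem_centralizer_of_mem_normalizer P hn hc
    exact h1 ⟨h, hh, rfl⟩
  intro n hn
  rw [Subgroup.mem_normalizer_iff]
  intro h
  constructor
  · exact key n hn h
  · intro hh
    have := key n⁻¹ (Subgroup.inv_mem _ hn) _ hh
    simpa [mul_assoc] using this

end

section

variable {G : Type u} [Group G] [Finite G] {M : Ideal AlgInt} {p : ℕ} [Fact p.Prime]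

/-- Extended First Main Theorem, existence. -/
theorem extFirstMain_exists (hM : IsPModular p M) {B : Set (IrrCharacter G)} (hB : IsPBlock M B)
    {P : Subgroup G} (hBP : IsDefectGroup p M B P) (H : Subgroup G) (hPH : P ≤ H)
    (hCH : Subgroup.centralizer (P : Set G) ≤ H) (hHN : H ≤ Subgroup.normalizer (P : Set G)) :
    ∃ b : Set (IrrCharacter H), IsDefectGroup p M b (P.subgroupOf H) ∧ IsInducedBlock M H b B := by
  classical
  have : Fintype G := Fintype.ofFinite G
  have : Fintype H := Fintype.ofFinite _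
  have hMp := isPModular_isPrime hM
  have hP := isPGroup_of_isDefectGroup hBP
  obtain ⟨g, hg, P₁, hP₁⟩ := hBP
  have hgC : g ∈ Subgroup.centralizer (P : Set G) := by
    apply mem_centralizer_of_le_centralizer_singleton
    rw [hP₁]
    rintro _ ⟨w, _, rfl⟩
    exact w.2
  obtain ⟨ξ, χ, hχB, hχ⟩ := exists_brauer_correspondent hM P H hP hCH hHN hB hgC hg.2.1
  have hind := isInducedBlock_of_brauerLam hM P H hP hPH hHN ξ χ hχ
  rw [← eq_blockOf_of_mem hMp hB hχB] at hind
  exact ⟨_, isDefectGroup_of_induced hM P H hPH hHN ⟨g, hg, P₁, hP₁⟩ hind, hind⟩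

/-- Extended First Main Theorem, conjugacy: two blocks of `P C_G(P)` inducing the block `B` with
defect group `P` are conjugate under `N_G(P)`. -/
theorem extFirstMain_conj (hM : IsPModular p M) {B : Set (IrrCharacter G)} (hB : IsPBlock M B)
    {P : Subgroup G} (hBP : IsDefectGroup p M B P)
    {b b' : Set (IrrCharacter ↥(P ⊔ Subgroup.centralizer (P : Set G)))}
    (hind : IsInducedBlock M (P ⊔ Subgroup.centralizer (P : Set G)) b B)
    (hind' : IsInducedBlock M (P ⊔ Subgroup.centralizer (P : Set G)) b' B) :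
    ∃ (x : G) (_ : x ∈ Subgroup.normalizer (P : Set G))
      (hx : x ∈ Subgroup.normalizer ((P ⊔ Subgroup.centralizer (P : Set G) : Subgroup G) : Set G)),
      b' = conjIrr (P ⊔ Subgroup.centralizer (P : Set G)) x hx '' b := by
  classical
  have : Fintype G := Fintype.ofFinite G
  have : Fintype (Subgroup.normalizer (P : Set G)) := Fintype.ofFinite _
  have : Fintype ↥(P ⊔ Subgroup.centralizer (P : Set G)) := Fintype.ofFinite _
  have hMp := isPModular_isPrime hM
  have hP := isPGroup_of_isDefectGroup hBP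
  have hPL : P ≤ P ⊔ Subgroup.centralizer (P : Set G) := le_sup_left
  have hCL : Subgroup.centralizer (P : Set G) ≤ P ⊔ Subgroup.centralizer (P : Set G) := le_sup_right
  have hLN : P ⊔ Subgroup.centralizer (P : Set G) ≤ Subgroup.normalizer (P : Set G) :=
    sup_le Subgroup.le_normalizer (Subgroup.centralizer_le_normalizer _)
  have hNL := normalizer_le_normalizer_sup_centralizer P
  have hPN : P ≤ Subgroup.normalizer (P : Set G) := Subgroup.le_normalizer
  obtain ⟨β, hβ, hβP, hβind⟩ := firstMain_exists hM P hP hB hBP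
  obtain ⟨hcf, hS, hω⟩ := blockCoeff_spec hMp hB
  obtain ⟨χ, hχ⟩ := isPBlock_nonempty hMp hB
  have hb := hind.1
  have hb' := hind'.1
  -- support of f_β
  have hPn : (P.subgroupOf (Subgroup.normalizer (P : Set G))).Normal :=
    (Subgroup.normal_subgroupOf_iff_le_normalizer hPN).2 le_rfl
  have hPp : IsPGroup p (P.subgroupOf (Subgroup.normalizer (P : Set G))) := hP.comap_subtype
  have hsupp : ∀ n : Subgroup.normalizer (P : Set G),
      (n : G) ∉ P ⊔ Subgroup.centralizer (P : Set G) → blockCoeff β n = 0 := by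
    intro n hn
    apply blockCoeff_eq_zero_of_not_mem_centralizer hM _ hPp hβ
    intro hnc
    apply hn
    apply hCL
    rw [Subgroup.mem_centralizer_iff]
    intro u hu
    have := Subgroup.mem_centralizer_iff.1 hnc ⟨u, hPN hu⟩ (Subgroup.mem_subgroupOf.2 hu)
    exact congrArg Subtype.val this
  have hZ := brauer_image_cong_normalizer hM hB hBP hβ hβP hβind
  -- members of blocks inducing B occur in the restriction of f_β
  have key : ∀ (b₀ : Set (IrrCharacter ↥(P ⊔ Subgroup.centralizer (P : Set G)))),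
      IsInducedBlock M (P ⊔ Subgroup.centralizer (P : Set G)) b₀ B → ∀ ψ ∈ b₀,
      MemLocalIdeal M (omega (ψ : ↥(P ⊔ Subgroup.centralizer (P : Set G)) → ℂ)
        (fun l : ↥(P ⊔ Subgroup.centralizer (P : Set G)) =>
          blockCoeff β ⟨(l : G), hLN l.2⟩) - 1) := by
    intro b₀ hind₀ ψ hψ
    have h1 := brauerLam_cong_of_induced hM P (P ⊔ Subgroup.centralizer (P : Set G)) hP hPL hLN
      hind₀ hψ hχ hcf hS
    rw [hω χ, if_pos hχ, brauerLam_apply] at h1
    have h2 := omega_cong hMp ψ.2
      (F := fun l : ↥(P ⊔ Subgroup.centralizer (P : Set G)) =>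
        truncTo (Subgroup.centralizer (P : Set G) : Set G) (blockCoeff B) (l : G))
      (F' := fun l : ↥(P ⊔ Subgroup.centralizer (P : Set G)) =>
          blockCoeff β ⟨(l : G), hLN l.2⟩)
      (isClassFunction_restrict_truncTo P _ hLN hcf)
      (fun l s => isClassFunction_blockCoeff β ⟨(l : G), hLN l.2⟩ ⟨(s : G), hLN s.2⟩)
      (fun l => hZ ⟨(l : G), hLN l.2⟩)
    exact cong_trans hMp (cong_symm h2) h1
  obtain ⟨ψ, hψ⟩ := isPBlock_nonempty hMp hb
  obtain ⟨ψ', hψ'⟩ := isPBlock_nonempty hMp hb'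
  have e1 := omega_restrict_eq_one_iff hMp (Subgroup.normalizer (P : Set G))
    (P ⊔ Subgroup.centralizer (P : Set G)) hLN hNL hβ hsupp hb hψ (key b hind ψ hψ) ψ'
  have e2 := omega_restrict_eq_one_iff hMp (Subgroup.normalizer (P : Set G))
    (P ⊔ Subgroup.centralizer (P : Set G)) hLN hNL hβ hsupp hb' hψ' (key b' hind' ψ' hψ') ψ'
  have h3 := e1.1 (e2.2 (subset_orbitUnionOf _ _ b' hψ'))
  obtain ⟨x, hxN, hx, hmem⟩ := h3
  refine ⟨x, hxN, hx, ?_⟩
  rw [eq_blockOf_of_mem hMp hb' hψ',
    eq_blockOf_of_mem hMp (isPBlock_image_conjIrr _ x hx hb) hmem]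

end

end Cfsg.Agent.Lib.Helper8
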