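import Mathlib
import Cfsg.Prelude.Def_Characters

/-!
# In an elementary group the `p`-regular elements form a subgroup of `p`-power index
-/

set_option autoImplicit false

namespace Cfsg.Agent.Lib.Helper8

open Cfsg
open scoped IsMulCommutative

universe u

section

variable {E : Type u} [Group E] [Finite E]

theorem exists_pRegular_subgroup_same {p : ℕ} (hp : p.Prime) (hE : IsElementary p E) :
    ∃ K : Subgroup E, (∀ s, s ∈ K ↔ ¬ p ∣ orderOf s) ∧ ∃ j : ℕ, K.index = p ^ j := by
  obtain ⟨x, hx, hcop, k, hk⟩ := hE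
  have hle : Subgroup.zpowers x ≤ Subgroup.center E := Subgroup.zpowers_le.2 hx
  have hN : (Subgroup.zpowers x).Normal := by
    refine ⟨fun y hy g => ?_⟩
    have h1 : g * y * g⁻¹ = y := by
      rw [(Subgroup.mem_center_iff.1 (hle hy)) g, mul_inv_cancel_right]
    rw [h1]
    exact hy
  refine ⟨Subgroup.zpowers x, fun s => ?_, k, hk⟩
  constructor
  · intro hs hdvd
    have h1 := orderOf_dvd_of_mem_zpowers hs
    have h2 : p ∣ orderOf x := hdvd.trans h1
    have h3 : p ∣ Nat.gcd (orderOf x) p := Nat.dvd_gcd h2 dvd_rfl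
    rw [Nat.Coprime] at hcop
    rw [hcop] at h3
    exact hp.one_lt.ne' (Nat.dvd_one.1 h3)
  · intro hs
    rw [← QuotientGroup.eq_one_iff]
    have h1 : orderOf (QuotientGroup.mk s : E ⧸ Subgroup.zpowers x) ∣ orderOf s :=
      orderOf_map_dvd (QuotientGroup.mk' (Subgroup.zpowers x)) s
    have h2 : orderOf (QuotientGroup.mk s : E ⧸ Subgroup.zpowers x) ∣ p ^ k := by
      rw [← hk, Subgroup.index_eq_card]
      exact orderOf_dvd_natCard _
    obtain ⟨i, _, hi⟩ := (Nat.dvd_prime_pow hp).1 h2
    rw [← orderOf_eq_one_iff, hi]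
    by_contra hne
    have hi0 : i ≠ 0 := by
      rintro rfl
      exact hne (pow_zero p)
    apply hs
    have : p ∣ p ^ i := dvd_pow_self p hi0
    rw [← hi] at this
    exact this.trans h1

theorem exists_pRegular_subgroup_other {p q : ℕ} (hp : p.Prime) (hq : q.Prime) (hpq : p ≠ q)
    (hE : IsElementary q E) :
    ∃ K : Subgroup E, (∀ s, s ∈ K ↔ ¬ p ∣ orderOf s) ∧ ∃ j : ℕ, K.index = p ^ j := by
  classical
  have : Fact p.Prime := ⟨hp⟩
  obtain ⟨x, hx, hcop, k, hk⟩ := hE
  have hle : Subgroup.zpowers x ≤ Subgroup.center E := Subgroup.zpowers_le.2 hx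
  set nZ := (Subgroup.center E).index with hnZ
  have hnZdvd : nZ ∣ q ^ k := by
    rw [← hk]
    exact Subgroup.index_dvd_of_le hle
  have hnZcop : Nat.Coprime nZ p := by
    obtain ⟨i, _, hi⟩ := (Nat.dvd_prime_pow hq).1 hnZdvd
    rw [hi]
    exact Nat.Coprime.pow_left i ((Nat.coprime_primes hq hp).2 hpq.symm)
  set cZ := Nat.card (Subgroup.center E) with hcZ
  have hcZ0 : cZ ≠ 0 := Nat.card_pos.ne'
  set m := cZ / p ^ cZ.factorization p with hm
  have hmcop : Nat.Coprime m p := by
    rw [Nat.coprime_comm]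
    exact (Nat.Prime.coprime_iff_not_dvd hp).2 (Nat.not_dvd_ordCompl hp hcZ0)
  have hcard : Nat.card E = nZ * (p ^ cZ.factorization p * m) := by
    rw [Nat.ordProj_mul_ordCompl_eq_self, mul_comm]
    exact (Subgroup.card_mul_index (Subgroup.center E)).symm
  set ψ : E →* Subgroup.center E := MonoidHom.transferCenterPow E with hψ
  set φ : E →* Subgroup.center E := (powMonoidHom m : Subgroup.center E →* Subgroup.center E).comp ψ with hφ
  have hφapp : ∀ s : E, ((φ s : Subgroup.center E) : E) = s ^ (nZ * m) := by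
    intro s
    show (((ψ s) ^ m : Subgroup.center E) : E) = s ^ (nZ * m)
    rw [Subgroup.coe_pow, hψ, MonoidHom.transferCenterPow_apply, ← pow_mul]
  refine ⟨φ.ker, fun s => ?_, ?_⟩
  · rw [MonoidHom.mem_ker]
    have h1 : φ s = 1 ↔ s ^ (nZ * m) = 1 := by
      rw [← hφapp s]
      constructor
      · intro h
        rw [h]
        rfl
      · intro h
        exact Subtype.ext h
    rw [h1, ← orderOf_dvd_iff_pow_eq_one]
    constructor
    · intro h hdvd
      have h2 : p ∣ nZ * m := hdvd.trans h
      rcases (Nat.Prime.dvd_mul hp).1 h2 with h3 | h3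
      · exact (Nat.Prime.coprime_iff_not_dvd hp).1 hnZcop.symm h3
      · exact (Nat.Prime.coprime_iff_not_dvd hp).1 hmcop.symm h3
    · intro hs
      have h2 : orderOf s ∣ Nat.card E := orderOf_dvd_natCard s
      rw [hcard] at h2
      have h3 : Nat.Coprime (orderOf s) (p ^ cZ.factorization p) :=
        Nat.Coprime.pow_right _ ((Nat.Prime.coprime_iff_not_dvd hp).2 hs).symm
      have h4 : nZ * (p ^ cZ.factorization p * m) = (nZ * m) * p ^ cZ.factorization p := by ring
      rw [h4] at h2
      exact h3.dvd_of_dvd_mul_right h2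
  · rw [Subgroup.index_ker]
    have hpg : IsPGroup p φ.range := by
      rintro ⟨z, s, rfl⟩
      refine ⟨cZ.factorization p, ?_⟩
      apply Subtype.ext
      apply Subtype.ext
      show (((φ s : Subgroup.center E) ^ p ^ cZ.factorization p : Subgroup.center E) : E) = 1
      have h5 : (φ s : Subgroup.center E) ^ p ^ cZ.factorization p = 1 := by
        show ((ψ s) ^ m) ^ p ^ cZ.factorization p = 1
        rw [← pow_mul, mul_comm, Nat.ordProj_mul_ordCompl_eq_self]
        exact pow_card_eq_one'
      rw [h5]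
      rfl
    exact hpg.exists_card_eq

/-- In an elementary group (for any prime), the `p`-regular elements form a subgroup of `p`-power
index. -/
theorem exists_pRegular_subgroup_of_isElementary {p q : ℕ} (hp : p.Prime) (hq : q.Prime)
    (hE : IsElementary q E) :
    ∃ K : Subgroup E, (∀ s, s ∈ K ↔ ¬ p ∣ orderOf s) ∧ ∃ j : ℕ, K.index = p ^ j := by
  by_cases hpq : p = q
  · subst hpq
    exact exists_pRegular_subgroup_same hp hE
  · exact exists_pRegular_subgroup_other hp hq hpq hE

end

end Cfsg.Agent.Lib.Helper8
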