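import Mathlib
import Cfsg.Prelude.Def_Characters
import Cfsg.Prelude.Def_BlockRank
import Cfsg.Agent.Lib.Helper8.BF1
import Cfsg.Agent.Lib.Helper8.BlockRank
import Cfsg.Agent.Lib.Helper2.BrauerInd
import Cfsg.Agent.S0146
import Cfsg.Agent.S0148

/-!
# `p ^ a` times the indicator function of the `p`-regular elements is a generalized character
-/

set_option autoImplicit false

namespace Cfsg.Agent.Lib.Helper8

open Cfsg
open scoped ComplexConjugate
open Cfsg.Agent.Lib.Helper1 Cfsg.Agent.Lib.Helper4

universe u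

section

variable {E : Type u} [Group E] [Fintype E]

/-- Integrality on an elementary group. -/
theorem exists_int_pRegular_elementary {p q : ℕ} (hp : p.Prime) (hq : q.Prime)
    (hE : IsElementary q E) {μ ν : E → ℂ} (hμ : IsCharacter E μ) (hν : IsCharacter E ν) (c : ℕ)
    (hc : p ^ ((Nat.card E).factorization p) ∣ c) :
    ∃ n : ℤ, (c : ℂ) * ((Nat.card E : ℂ)⁻¹ *
      ∑ s : E, (if p ∣ orderOf s then 0 else μ s * conj (ν s))) = n := by
  classical
  obtain ⟨K, hK, j, hj⟩ := exists_pRegular_subgroup_of_isElementary hp hq hE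
  have : Fintype K := Fintype.ofFinite _
  have hcard : Nat.card K * p ^ j = Nat.card E := by
    rw [← hj]
    exact Subgroup.card_mul_index K
  have hjdvd : p ^ j ∣ c := by
    refine dvd_trans ?_ hc
    apply pow_dvd_pow
    have h1 : p ^ j ∣ Nat.card E := by
      rw [← hcard]
      exact Dvd.intro_left _ rfl
    exact (hp.pow_dvd_iff_le_factorization Nat.card_pos.ne').1 h1
  obtain ⟨c', rfl⟩ := hjdvd
  obtain ⟨m, hm⟩ := classInner_char_nat (Cfsg.Agent.S0148.isCharacter_restrict K hμ)
    (Cfsg.Agent.S0148.isCharacter_restrict K hν)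
  rw [classInner_def] at hm
  have hsum : ∑ s : E, (if p ∣ orderOf s then 0 else μ s * conj (ν s)) =
      ∑ k : K, μ k * conj (ν k) := by
    have h0 : ∀ s : E, (if p ∣ orderOf s then (0 : ℂ) else μ s * conj (ν s)) =
        if s ∈ K then μ s * conj (ν s) else 0 := by
      intro s
      by_cases hs : p ∣ orderOf s
      · rw [if_pos hs, if_neg (fun h => (hK s).1 h hs)]
      · rw [if_neg hs, if_pos ((hK s).2 hs)]
    simp_rw [h0]
    rw [← Finset.sum_filter]
    symm
    apply Finset.sum_bij (fun (k : K) _ => (k : E))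
    · intro k _
      rw [Finset.mem_filter]
      exact ⟨Finset.mem_univ _, k.2⟩
    · intro k _ k' _ h
      exact Subtype.ext h
    · intro s hs
      rw [Finset.mem_filter] at hs
      exact ⟨⟨s, hs.2⟩, Finset.mem_univ _, rfl⟩
    · intro k _
      rfl
  rw [hsum]
  refine ⟨(c' * m : ℕ), ?_⟩
  have hK0 : (Nat.card K : ℂ) ≠ 0 := Nat.cast_ne_zero.2 Nat.card_pos.ne'
  have hp0 : ((p : ℂ) ^ j) ≠ 0 := pow_ne_zero _ (Nat.cast_ne_zero.2 hp.ne_zero)
  have h2 : ∑ k : K, μ k * conj (ν k) = (Nat.card K : ℂ) * m := by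
    rw [← hm, ← mul_assoc, mul_inv_cancel₀ hK0, one_mul]
  rw [h2, ← hcard]
  push_cast
  field_simp

end

section

variable {G : Type u} [Group G] [Fintype G] {p : ℕ}

/-- `p ^ a` times the indicator function of the `p`-regular elements is a generalized
character. -/
theorem exists_int_mul_classInner_pRegular (hp : p.Prime) {ξ : G → ℂ} (hξ : IsCharacter G ξ) :
    ∃ n : ℤ, ((p : ℂ) ^ ((Nat.card G).factorization p)) *
      classInner (pRegularPart p (fun _ : G => (1 : ℂ))) ξ = n := by
  classical
  set a := (Nat.card G).factorization p with ha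
  have key : ∀ f ∈ Cfsg.Agent.Lib.Helper2.BrauerInd.linSpan (G := G),
      ∀ ξ : G → ℂ, IsCharacter G ξ → ∃ n : ℤ, ((p : ℂ) ^ a) *
        classInner (fun s => f s * pRegularPart p (fun _ : G => (1 : ℂ)) s) ξ = n := by
    intro f hf
    unfold Cfsg.Agent.Lib.Helper2.BrauerInd.linSpan at hf
    induction hf using AddSubgroup.closure_induction with
    | mem f hf =>
      intro ξ hξ
      obtain ⟨E, lam, ⟨q, hq, hE⟩, rfl⟩ := hf
      have : Fintype E := Fintype.ofFinite _
      have hcf : IsClassFunction G (fun s => pRegularPart p (fun _ : G => (1 : ℂ)) s * ξ s) := by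
        intro g h
        show pRegularPart p (fun _ : G => (1 : ℂ)) (h * g * h⁻¹) * ξ (h * g * h⁻¹) = _
        rw [isClassFunction_pRegularPart (fun _ _ => rfl) g h,
          isClassFunction_of_isCharacter hξ g h]
      have h1 : classInner (fun s => Cfsg.indFun E (fun e => (lam e : ℂ)) s *
          pRegularPart p (fun _ : G => (1 : ℂ)) s) ξ =
          classInner (Cfsg.indFun E (fun e => (lam e : ℂ)))
            (fun s => pRegularPart p (fun _ : G => (1 : ℂ)) s * ξ s) := by
        rw [classInner_def, classInner_def]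
        congr 1
        refine Finset.sum_congr rfl fun s _ => ?_
        rw [map_mul]
        by_cases hs : p ∣ orderOf s
        · rw [pRegularPart_of_dvd _ hs]; simp
        · rw [pRegularPart_of_not_dvd _ hs]; simp
      rw [h1, Cfsg.Agent.S0146.result E _ _ hcf, classInner_def]
      have hE' : p ^ ((Nat.card E).factorization p) ∣ p ^ a := by
        apply pow_dvd_pow
        have h2 : p ^ ((Nat.card E).factorization p) ∣ Nat.card G :=
          (Nat.ordProj_dvd _ _).trans (Subgroup.card_subgroup_dvd_card E)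
        exact (hp.pow_dvd_iff_le_factorization Nat.card_pos.ne').1 h2
      obtain ⟨n, hn⟩ := exists_int_pRegular_elementary hp hq hE
        (isCharacter_of_irr (isIrrCharacter_of_hom lam))
        (Cfsg.Agent.S0148.isCharacter_restrict E hξ) (p ^ a) hE'
      refine ⟨n, ?_⟩
      rw [← hn]
      push_cast
      congr 2
      refine Finset.sum_congr rfl fun s _ => ?_
      have hord : orderOf (s : G) = orderOf s := Subgroup.orderOf_coe s
      by_cases hs : p ∣ orderOf s
      · rw [if_pos hs, pRegularPart_of_dvd _ (by rw [hord]; exact hs)]; simp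
      · rw [if_neg hs, pRegularPart_of_not_dvd _ (by rw [hord]; exact hs)]; simp
    | zero =>
      intro ξ _
      refine ⟨0, ?_⟩
      simp [classInner_def]
    | add x y _ _ hx hy =>
      intro ξ hξ
      obtain ⟨n₁, h₁⟩ := hx ξ hξ
      obtain ⟨n₂, h₂⟩ := hy ξ hξ
      refine ⟨n₁ + n₂, ?_⟩
      push_cast
      rw [← h₁, ← h₂, ← mul_add, ← classInner_add_left]
      congr 2
      funext s
      simp only [Pi.add_apply, add_mul]
    | neg x _ hx =>
      intro ξ hξ
      obtain ⟨n₁, h₁⟩ := hx ξ hξ
      refine ⟨-n₁, ?_⟩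
      push_cast
      rw [← h₁, classInner_def, classInner_def]
      simp only [Pi.neg_apply, neg_mul, Finset.sum_neg_distrib, mul_neg]
  obtain ⟨n, hn⟩ := key _ Cfsg.Agent.Lib.Helper2.BrauerInd.one_mem_linSpan ξ hξ
  refine ⟨n, ?_⟩
  rw [← hn]
  congr 2
  funext s
  rw [one_mul]

end

end Cfsg.Agent.Lib.Helper8
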