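import Mathlib
import Cfsg.Prelude.Def_Blocks
import Cfsg.Prelude.Def_BlockRank
import Cfsg.Agent.Lib.Helper8.BF2
import Cfsg.Agent.Lib.Helper8.BlockRank
import Cfsg.Agent.Lib.Helper8.BlockOmega
import Cfsg.Agent.Lib.Helper1.CharFound8
import Cfsg.Agent.S0177

/-!
# Contributions: the inner products of irreducible characters on the `p`-regular elements
-/

set_option autoImplicit false

namespace Cfsg.Agent.Lib.Helper8

open Cfsg
open scoped ComplexConjugate
open Cfsg.Agent.Lib.Helper1 Cfsg.Agent.Lib.Helper4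

universe u

section

variable {G : Type u} [Group G] [Fintype G] {M : Ideal AlgInt} {p : ℕ}

/-- The contribution of the `p`-regular elements to the inner product of `χ` and `χ'`. -/
noncomputable def mreg (p : ℕ) (χ χ' : G → ℂ) : ℂ := classInner (pRegularPart p χ) χ'

theorem mreg_def (χ χ' : G → ℂ) :
    mreg p χ χ' = (Nat.card G : ℂ)⁻¹ * ∑ s : G, pRegularPart p χ s * conj (χ' s) := rfl

theorem mreg_eq_sum_ite (χ χ' : G → ℂ) :
    mreg p χ χ' = (Nat.card G : ℂ)⁻¹ *
      ∑ s : G, if p ∣ orderOf s then 0 else χ s * conj (χ' s) := by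
  rw [mreg_def]
  congr 1
  refine Finset.sum_congr rfl fun s _ => ?_
  by_cases hs : p ∣ orderOf s
  · rw [if_pos hs, pRegularPart_of_dvd _ hs, zero_mul]
  · rw [if_neg hs, pRegularPart_of_not_dvd _ hs]

/-- The contributions are symmetric. -/
theorem mreg_symm {χ χ' : G → ℂ} (hχ : IsCharacter G χ) (hχ' : IsCharacter G χ') :
    mreg p χ χ' = mreg p χ' χ := by
  rw [mreg_eq_sum_ite, mreg_eq_sum_ite]
  congr 1
  rw [← Equiv.sum_comp (Equiv.inv G)]
  refine Finset.sum_congr rfl fun s _ => ?_
  rw [Equiv.inv_apply, orderOf_inv, isCharacter_inv hχ, isCharacter_inv hχ', Complex.conj_conj,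
    mul_comm]

/-- `p ^ a` times a contribution is an integer. -/
theorem exists_int_mreg (hp : p.Prime) {χ χ' : G → ℂ} (hχ : IsIrrCharacter G χ)
    (hχ' : IsCharacter G χ') :
    ∃ n : ℤ, ((p : ℂ) ^ ((Nat.card G).factorization p)) * mreg p χ χ' = n := by
  have hξ : IsCharacter G ((fun g => conj (χ g)) * χ') :=
    Cfsg.Agent.S0177.isCharacter_mul (isCharacter_of_irr (isIrrCharacter_conj hχ)) hχ'
  obtain ⟨n, hn⟩ := exists_int_mul_classInner_pRegular hp hξ
  refine ⟨n, ?_⟩
  rw [← hn, mreg_eq_sum_ite, classInner_def]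
  congr 2
  refine Finset.sum_congr rfl fun s _ => ?_
  by_cases hs : p ∣ orderOf s
  · rw [if_pos hs, pRegularPart_of_dvd _ hs, zero_mul]
  · rw [if_neg hs, pRegularPart_of_not_dvd _ hs, one_mul, Pi.mul_apply, map_mul,
      Complex.conj_conj]

/-- The contribution in terms of the central character. -/
theorem omega_conj_pRegularPart (χ χ' : G → ℂ) :
    omega χ (fun s => conj (pRegularPart p χ' s)) = (Nat.card G : ℂ) * mreg p χ χ' / χ 1 := by
  have hG0 : (Nat.card G : ℂ) ≠ 0 := Nat.cast_ne_zero.2 Nat.card_pos.ne'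
  unfold omega
  congr 1
  rw [mreg_eq_sum_ite, ← mul_assoc, mul_inv_cancel₀ hG0, one_mul]
  refine Finset.sum_congr rfl fun s _ => ?_
  show conj (pRegularPart p χ' s) * χ s = _
  by_cases hs : p ∣ orderOf s
  · rw [if_pos hs, pRegularPart_of_dvd _ hs, map_zero, zero_mul]
  · rw [if_neg hs, pRegularPart_of_not_dvd _ hs, mul_comm]

/-- The expansion of the `p`-regular part of a class function. -/
theorem pRegularPart_expansion [Fintype (IrrCharacter G)] {χ : G → ℂ}
    (hχ : IsClassFunction G χ) :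
    pRegularPart p χ = ∑ ψ : IrrCharacter G, mreg p χ (ψ : G → ℂ) • (ψ : G → ℂ) :=
  class_function_expansion _ (isClassFunction_pRegularPart hχ)

/-- The contributions form an idempotent matrix. -/
theorem sum_mreg_mul_mreg [Fintype (IrrCharacter G)] {χ χ' : G → ℂ}
    (hχ : IsClassFunction G χ) :
    ∑ ψ : IrrCharacter G, mreg p χ (ψ : G → ℂ) * mreg p (ψ : G → ℂ) χ' = mreg p χ χ' := by
  have h1 : mreg p χ χ' = classInner (pRegularPart p χ) (pRegularPart p χ') := by
    unfold mreg
    rw [classInner_pRegularPart_left]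
  rw [h1]
  conv_rhs => rw [pRegularPart_expansion hχ]
  rw [classInner_sum_left]
  refine Finset.sum_congr rfl fun ψ _ => ?_
  rw [classInner_smul_left]
  congr 1
  unfold mreg
  rw [classInner_pRegularPart_left, ← classInner_pRegularPart_right]

end

end Cfsg.Agent.Lib.Helper8
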