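import Mathlib
import Cfsg.Prelude.Def_Blocks
import Cfsg.Prelude.Def_BlockRank
import Cfsg.Agent.Lib.Helper8.BF3
import Cfsg.Agent.Lib.Helper8.BlockIdem
import Cfsg.Agent.Lib.Helper8.BlockDefect
import Cfsg.Agent.Lib.Helper8.BlockUnion
import Cfsg.Agent.Lib.Helper8.CharPPart
import Cfsg.Agent.Lib.Helper8.Deflation
import Cfsg.Agent.Lib.Helper8.BlockMinMax

/-!
# Contributions and heights: a character of height zero has unit contributions
-/

set_option autoImplicit false

namespace Cfsg.Agent.Lib.Helper8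

open Cfsg
open scoped ComplexConjugate
open Cfsg.Agent.Lib.Helper1 Cfsg.Agent.Lib.Helper4

universe u

section

variable {G : Type u} [Group G] [Fintype G] {M : Ideal AlgInt} {p : ℕ}

omit [Fintype G] in
theorem isClassFunction_conj_pRegularPart {χ : G → ℂ} (hχ : IsClassFunction G χ) :
    IsClassFunction G (fun s => conj (pRegularPart p χ s)) := by
  intro g h
  show conj (pRegularPart p χ (h * g * h⁻¹)) = conj (pRegularPart p χ g)
  rw [isClassFunction_pRegularPart hχ g h]

theorem memLocalRing_conj_pRegularPart (hM : M ≠ ⊤) {χ : G → ℂ} (hχ : IsCharacter G χ) (s : G) :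
    MemLocalRing M (conj (pRegularPart p χ s)) := by
  by_cases hs : p ∣ orderOf s
  · rw [pRegularPart_of_dvd _ hs, map_zero]
    exact memLocalRing_zero hM
  · rw [pRegularPart_of_not_dvd _ hs]
    exact memLocalRing_of_isIntegral hM (isIntegral_conj (isIntegral_char_apply hχ s))

/-- The normalized contribution `|G| m(χ, χ₀) / χ(1)` is a local integer. -/
theorem memLocalRing_contrib (hM : M.IsPrime) (χ χ₀ : IrrCharacter G) :
    MemLocalRing M ((Nat.card G : ℂ) * mreg p (χ : G → ℂ) (χ₀ : G → ℂ) / (χ : G → ℂ) 1) := by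
  rw [← omega_conj_pRegularPart]
  exact memLocalRing_omega hM χ.2 (isClassFunction_conj_pRegularPart (isClassFunction_irr χ₀.2))
    (memLocalRing_conj_pRegularPart hM.ne_top (isCharacter_of_irr χ₀.2))

/-- The normalized contributions of two characters of the same block are congruent. -/
theorem memLocalIdeal_contrib_sub (hM : M.IsPrime) {χ χ' : IrrCharacter G} (χ₀ : IrrCharacter G)
    (h : SameBlock M (χ : G → ℂ) (χ' : G → ℂ)) :
    MemLocalIdeal M ((Nat.card G : ℂ) * mreg p (χ : G → ℂ) (χ₀ : G → ℂ) / (χ : G → ℂ) 1 -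
      (Nat.card G : ℂ) * mreg p (χ' : G → ℂ) (χ₀ : G → ℂ) / (χ' : G → ℂ) 1) := by
  rw [← omega_conj_pRegularPart, ← omega_conj_pRegularPart]
  exact memLocalIdeal_omega_sub hM χ.2 χ'.2 h
    (isClassFunction_conj_pRegularPart (isClassFunction_irr χ₀.2))
    (memLocalRing_conj_pRegularPart hM.ne_top (isCharacter_of_irr χ₀.2))

/-- Restricting the `p`-regular part of `χ₀` to a `p`-subgroup. -/
theorem degree_eq_sum_mreg [Fintype (IrrCharacter G)] (hp : p.Prime) (P : Subgroup G)
    (hP : IsPGroup p P) (χ₀ : IrrCharacter G) :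
    ∃ n : IrrCharacter G → ℕ, (χ₀ : G → ℂ) 1 = (Nat.card P : ℂ) *
      ∑ χ : IrrCharacter G, mreg p (χ₀ : G → ℂ) (χ : G → ℂ) * (n χ : ℂ) := by
  classical
  have : Fact p.Prime := ⟨hp⟩
  have : Fintype P := Fintype.ofFinite _
  have hP0 : (Nat.card P : ℂ) ≠ 0 := Nat.cast_ne_zero.2 Nat.card_pos.ne'
  have h1c : IsCharacter P (fun _ : P => (1 : ℂ)) := by
    have := isCharacter_of_irr (isIrrCharacter_of_hom (1 : P →* ℂˣ))
    simpa using this
  have hn : ∀ χ : IrrCharacter G, ∃ m : ℕ,
      classInner (fun u : P => (χ : G → ℂ) u) (fun _ : P => (1 : ℂ)) = m := fun χ =>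
    classInner_char_nat (Cfsg.Agent.S0148.isCharacter_restrict P (isCharacter_of_irr χ.2)) h1c
  choose n hn using hn
  refine ⟨n, ?_⟩
  have hsum : ∀ χ : IrrCharacter G, ∑ u : P, (χ : G → ℂ) u = (Nat.card P : ℂ) * n χ := by
    intro χ
    rw [← hn χ, classInner_def, ← mul_assoc, mul_inv_cancel₀ hP0, one_mul]
    simp
  have h2 : ∑ u : P, pRegularPart p (χ₀ : G → ℂ) (u : G) = (χ₀ : G → ℂ) 1 := by
    rw [Finset.sum_eq_single (1 : P)]
    · rw [Subgroup.coe_one, pRegularPart_of_not_dvd]
      rw [orderOf_one]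
      intro h
      exact hp.one_lt.ne' (Nat.dvd_one.1 h)
    · intro u _ hu
      apply pRegularPart_of_dvd
      obtain ⟨k, hk⟩ := (IsPGroup.iff_orderOf.1 hP) u
      have hk0 : k ≠ 0 := by
        rintro rfl
        rw [pow_zero, orderOf_eq_one_iff] at hk
        exact hu hk
      rw [Subgroup.orderOf_coe, hk]
      exact dvd_pow_self p hk0
    · intro h
      exact absurd (Finset.mem_univ _) h
  rw [← h2, pRegularPart_expansion (isClassFunction_irr χ₀.2)]
  simp only [Finset.sum_apply, Pi.smul_apply, smul_eq_mul]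
  rw [Finset.sum_comm, Finset.mul_sum]
  refine Finset.sum_congr rfl fun χ _ => ?_
  rw [← Finset.mul_sum, hsum χ]
  ring

end

end Cfsg.Agent.Lib.Helper8
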