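import Mathlib
import Cfsg.Prelude.Def_Blocks
import Cfsg.Prelude.Def_BlockRank
import Cfsg.Agent.Lib.Helper8.BF4

/-!
# The contributions of a character of height zero are units
-/

set_option autoImplicit false

namespace Cfsg.Agent.Lib.Helper8

open Cfsg
open scoped ComplexConjugate
open Cfsg.Agent.Lib.Helper1 Cfsg.Agent.Lib.Helper4

universe u

section

variable {M : Ideal AlgInt} {p : ℕ}

theorem factorization_pow_mul (hp : p.Prime) (d : ℕ) {n : ℕ} (hn : n ≠ 0) :
    (p ^ d * n).factorization p = d + n.factorization p := by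
  rw [Nat.factorization_mul (pow_ne_zero _ hp.ne_zero) hn, Finsupp.add_apply,
    hp.factorization_pow, Finsupp.single_eq_same]

/-- A quotient of natural numbers with equal `p`-adic valuations is not in the local ideal. -/
theorem not_memLocalIdeal_natCast_div (hM : IsPModular p M) {A B : ℕ} (hA : A ≠ 0) (hB : B ≠ 0)
    (h : A.factorization p = B.factorization p) : ¬ MemLocalIdeal M ((A : ℂ) / (B : ℂ)) := by
  have hMp := isPModular_isPrime hM
  intro hmem
  have h1 := memLocalRing_natCast_div hM hB hA h.le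
  have h2 := memLocalIdeal_mul_right hMp hmem h1
  have hA0 : (A : ℂ) ≠ 0 := Nat.cast_ne_zero.2 hA
  have hB0 : (B : ℂ) ≠ 0 := Nat.cast_ne_zero.2 hB
  have h3 : (A : ℂ) / (B : ℂ) * ((B : ℂ) / (A : ℂ)) = 1 := by
    field_simp
  rw [h3] at h2
  exact not_memLocalIdeal_one hMp h2

/-- An integer divided by `p ^ k` lying in the local ring is divisible by `p ^ k`. -/
theorem int_pow_dvd_of_memLocalRing (hM : IsPModular p M) (N : ℤ) (k : ℕ)
    (h : MemLocalRing M ((N : ℂ) / ((p : ℂ) ^ k))) : (p : ℤ) ^ k ∣ N := by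
  have hMp := isPModular_isPrime hM
  have hp0 : (p : ℂ) ≠ 0 := Nat.cast_ne_zero.2 hM.1.ne_zero
  induction k generalizing N with
  | zero => simp
  | succ k ih =>
    have h1 : MemLocalRing M ((N : ℂ) / ((p : ℂ) ^ k)) := by
      have : (N : ℂ) / ((p : ℂ) ^ k) = (p : ℂ) * ((N : ℂ) / ((p : ℂ) ^ (k + 1))) := by
        rw [pow_succ]
        field_simp
      rw [this]
      exact memLocalRing_mul hMp (memLocalRing_natCast hMp.ne_top p) h
    obtain ⟨N', rfl⟩ := ih N h1
    have h2 : MemLocalIdeal M ((N' : ℂ)) := by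
      have : (N' : ℂ) = (p : ℂ) * (((((p : ℤ) ^ k * N' : ℤ)) : ℂ) / ((p : ℂ) ^ (k + 1))) := by
        push_cast
        rw [pow_succ]
        field_simp
      rw [this]
      exact memLocalIdeal_mul_right hMp (memLocalIdeal_prime hM) h
    obtain ⟨N'', rfl⟩ := (memLocalIdeal_intCast_iff hM N').1 h2
    exact ⟨N'', by ring⟩

end

section

variable {G : Type u} [Group G] [Fintype G] {M : Ideal AlgInt} {p : ℕ}

/-- Valuations in a block: for `χ ∈ B`, `ν(χ(1)) = (a - d) + h(χ)` and `d ≤ a`. -/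
theorem block_valuations {B : Set (IrrCharacter G)} {χ : IrrCharacter G}
    (hχ : χ ∈ B) :
    (charDegree (χ : G → ℂ)).factorization p + blockDefect p B =
      (Nat.card G).factorization p + blockHeight p B (χ : G → ℂ) ∧
    blockDefect p B ≤ (Nat.card G).factorization p := by
  obtain ⟨hdeg, hdegpos⟩ := irr_apply_one_eq_charDegree χ.2
  have hdvd := charDegree_dvd_card χ.2
  set S := (fun ψ : IrrCharacter G => (charDegree (ψ : G → ℂ)).factorization p) '' B with hS
  have hSle : sInf S ≤ (charDegree (χ : G → ℂ)).factorization p := Nat.sInf_le ⟨χ, hχ, rfl⟩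
  have hdle : (charDegree (χ : G → ℂ)).factorization p ≤ (Nat.card G).factorization p :=
    (Nat.factorization_le_iff_dvd hdegpos.ne' Nat.card_pos.ne').2 hdvd p
  have hdef : blockDefect p B = (Nat.card G).factorization p - sInf S := rfl
  have hht : blockHeight p B (χ : G → ℂ) =
      (charDegree (χ : G → ℂ)).factorization p - sInf S := rfl
  constructor <;> omega

/-- **Height zero**: if `χ₀ ∈ B` has height zero, the normalized contributions
`|G| m(χ, χ₀) / χ(1)`, `χ ∈ B`, lie outside the local ideal. -/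
theorem contrib_not_memLocalIdeal (hM : IsPModular p M) {B : Set (IrrCharacter G)}
    (hB : IsPBlock M B) {χ₀ : IrrCharacter G} (hχ₀ : χ₀ ∈ B)
    (h0 : blockHeight p B (χ₀ : G → ℂ) = 0) {χ : IrrCharacter G} (hχ : χ ∈ B) :
    ¬ MemLocalIdeal M
      ((Nat.card G : ℂ) * mreg p (χ : G → ℂ) (χ₀ : G → ℂ) / (χ : G → ℂ) 1) := by
  classical
  have : Fintype (IrrCharacter G) := Fintype.ofFinite _
  have hMp := isPModular_isPrime hM
  have hp := hM.1
  have : Fact p.Prime := ⟨hp⟩
  intro hmem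
  -- all normalized contributions lie in the ideal
  have hall : ∀ χ' ∈ B, MemLocalIdeal M
      ((Nat.card G : ℂ) * mreg p (χ' : G → ℂ) (χ₀ : G → ℂ) / (χ' : G → ℂ) 1) := by
    intro χ' hχ'
    have hs : SameBlock M (χ' : G → ℂ) (χ : G → ℂ) := by
      have := hχ
      rw [eq_blockOf_of_mem hMp hB hχ'] at this
      exact this
    have := memLocalIdeal_add hMp (memLocalIdeal_contrib_sub (p := p) hMp χ₀ hs) hmem
    rwa [sub_add_cancel] at this
  obtain ⟨P⟩ : Nonempty (Sylow p G) := inferInstance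
  obtain ⟨n, hn⟩ := degree_eq_sum_mreg hp (P : Subgroup G) P.isPGroup' χ₀
  have hPcard : Nat.card (P : Subgroup G) = p ^ (Nat.card G).factorization p :=
    Sylow.card_eq_multiplicity P
  set a := (Nat.card G).factorization p with ha
  set d := blockDefect p B with hd
  obtain ⟨hdeg₀, hdegpos₀⟩ := irr_apply_one_eq_charDegree χ₀.2
  obtain ⟨hv₀, hda⟩ := block_valuations (p := p) hχ₀
  rw [h0, add_zero] at hv₀
  have hG0 : (Nat.card G : ℂ) ≠ 0 := Nat.cast_ne_zero.2 Nat.card_pos.ne'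
  have hp0 : (p : ℂ) ≠ 0 := Nat.cast_ne_zero.2 hp.ne_zero
  -- the left side is a unit
  have hunit : ¬ MemLocalIdeal M (((p ^ d * charDegree (χ₀ : G → ℂ) : ℕ) : ℂ) / ((p ^ a : ℕ) : ℂ)) := by
    apply not_memLocalIdeal_natCast_div hM
      (Nat.mul_ne_zero (pow_ne_zero _ hp.ne_zero) hdegpos₀.ne') (pow_ne_zero _ hp.ne_zero)
    rw [factorization_pow_mul hp d hdegpos₀.ne', hp.factorization_pow, Finsupp.single_eq_same]
    omega
  apply hunit
  -- the right side lies in the ideal
  have hkey : (((p ^ d * charDegree (χ₀ : G → ℂ) : ℕ) : ℂ) / ((p ^ a : ℕ) : ℂ)) =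
      ∑ χ' : IrrCharacter G, (if χ' ∈ B then
        ((Nat.card G : ℂ) * mreg p (χ' : G → ℂ) (χ₀ : G → ℂ) / (χ' : G → ℂ) 1) *
        ((((p ^ d * charDegree (χ' : G → ℂ) : ℕ) : ℂ) / (Nat.card G : ℂ)) * (n χ' : ℂ)) else 0) := by
    have hpa : ((p : ℂ) ^ a) ≠ 0 := pow_ne_zero _ hp0
    have hL : (((p ^ d * charDegree (χ₀ : G → ℂ) : ℕ) : ℂ) / ((p ^ a : ℕ) : ℂ)) =
        (p : ℂ) ^ d * ∑ χ' : IrrCharacter G, mreg p (χ₀ : G → ℂ) (χ' : G → ℂ) * (n χ' : ℂ) := by
      push_cast
      rw [← hdeg₀, hn, hPcard]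
      push_cast
      field_simp
    rw [hL, Finset.mul_sum]
    refine Finset.sum_congr rfl fun χ' _ => ?_
    by_cases hχ' : χ' ∈ B
    · rw [if_pos hχ', mreg_symm (isCharacter_of_irr χ₀.2) (isCharacter_of_irr χ'.2)]
      obtain ⟨hdeg', hdegpos'⟩ := irr_apply_one_eq_charDegree χ'.2
      have hd0 : ((charDegree (χ' : G → ℂ) : ℕ) : ℂ) ≠ 0 := Nat.cast_ne_zero.2 hdegpos'.ne'
      rw [hdeg']
      field_simp
      push_cast
      ring
    · rw [if_neg hχ']
      have hns : ¬ SameBlock M (χ₀ : G → ℂ) (χ' : G → ℂ) := by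
        intro hs
        apply hχ'
        rw [eq_blockOf_of_mem hMp hB hχ₀]
        exact hs
      have : mreg p (χ₀ : G → ℂ) (χ' : G → ℂ) = 0 := classInner_pRegularPart_eq_zero hM hns
      rw [this, zero_mul, mul_zero]
  rw [hkey]
  apply memLocalIdeal_sum hMp
  intro χ' _
  by_cases hχ' : χ' ∈ B
  · rw [if_pos hχ']
    apply memLocalIdeal_mul_right hMp (hall χ' hχ')
    obtain ⟨hdeg', hdegpos'⟩ := irr_apply_one_eq_charDegree χ'.2
    obtain ⟨hv', _⟩ := block_valuations (p := p) hχ'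
    apply memLocalRing_mul hMp _ (memLocalRing_natCast hMp.ne_top _)
    apply memLocalRing_natCast_div hM
      (Nat.mul_ne_zero (pow_ne_zero _ hp.ne_zero) hdegpos'.ne') Nat.card_pos.ne'
    rw [factorization_pow_mul hp d hdegpos'.ne']
    omega
  · rw [if_neg hχ']
    exact memLocalIdeal_zero hMp.ne_top

end

end Cfsg.Agent.Lib.Helper8
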