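import Mathlib
import Cfsg.Prelude.Def_Blocks
import Cfsg.Agent.Lib.Helper8.ClassAlgebra
import Cfsg.Agent.Lib.Helper8.Cover1
import Cfsg.Agent.S0174

/-!
# Groups of the form `G = P C_G(P)`: elementary facts
-/

set_option autoImplicit false

namespace Cfsg.Agent.Lib.Helper8

open Cfsg
open scoped ComplexConjugate Pointwise
open Cfsg.Agent.Lib.Helper1 Cfsg.Agent.Lib.Helper4

universe u

section

variable {G : Type u} [Group G] {P : Subgroup G}

theorem normal_of_sup_centralizer (hG : P ⊔ Subgroup.centralizer (P : Set G) = ⊤) : P.Normal := by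
  rw [← Subgroup.normalizer_eq_top_iff, eq_top_iff, ← hG]
  exact sup_le Subgroup.le_normalizer (Subgroup.centralizer_le_normalizer _)

theorem exists_mul_of_sup_centralizer (hG : P ⊔ Subgroup.centralizer (P : Set G) = ⊤) (g : G) :
    ∃ a ∈ P, ∃ c ∈ Subgroup.centralizer (P : Set G), g = a * c := by
  have hn := normal_of_sup_centralizer hG
  have h1 : g ∈ ((P ⊔ Subgroup.centralizer (P : Set G) : Subgroup G) : Set G) := by
    rw [hG]
    exact Set.mem_univ _
  rw [Subgroup.normal_mul, Set.mem_mul] at h1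
  obtain ⟨a, ha, c, hc, rfl⟩ := h1
  exact ⟨a, ha, c, hc, rfl⟩

theorem commute_of_mem_centralizer {y x : G} (hy : y ∈ P)
    (hx : x ∈ Subgroup.centralizer (P : Set G)) : y * x = x * y :=
  (Subgroup.mem_centralizer_iff.1 hx) y hy

/-- Conjugation by any element acts on `P` as conjugation by an element of `P`. -/
theorem exists_conj_eq_of_sup_centralizer (hG : P ⊔ Subgroup.centralizer (P : Set G) = ⊤) (g : G) :
    ∃ a ∈ P, ∀ y ∈ P, g * y * g⁻¹ = a * y * a⁻¹ := by
  obtain ⟨a, ha, c, hc, rfl⟩ := exists_mul_of_sup_centralizer hG g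
  refine ⟨a, ha, fun y hy => ?_⟩
  have h1 : y * c = c * y := commute_of_mem_centralizer hy hc
  calc a * c * y * (a * c)⁻¹ = a * (c * y) * c⁻¹ * a⁻¹ := by group
    _ = a * (y * c) * c⁻¹ * a⁻¹ := by rw [h1]
    _ = a * y * a⁻¹ := by group

/-- The `p`-regular elements lie in the centralizer of `P`. -/
theorem mem_centralizer_of_pRegular [Finite G] {p : ℕ} (hp : p.Prime) (hP : IsPGroup p P)
    (hG : P ⊔ Subgroup.centralizer (P : Set G) = ⊤) {x : G} (hx : ¬ p ∣ orderOf x) :
    x ∈ Subgroup.centralizer (P : Set G) := by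
  obtain ⟨a, ha, c, hc, rfl⟩ := exists_mul_of_sup_centralizer hG x
  obtain ⟨k, hk⟩ := hP ⟨a, ha⟩
  have hk' : a ^ p ^ k = 1 := congrArg Subtype.val hk
  have hcomm : Commute a c := commute_of_mem_centralizer ha hc
  have h1 : (a * c) ^ p ^ k ∈ Subgroup.centralizer (P : Set G) := by
    rw [hcomm.mul_pow, hk', one_mul]
    exact Subgroup.pow_mem _ hc _
  have hco : (p ^ k).Coprime (orderOf (a * c)) :=
    Nat.Coprime.pow_left k ((Nat.Prime.coprime_iff_not_dvd hp).2 hx)
  obtain ⟨m, hm⟩ := exists_pow_eq_self_of_coprime hco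
  rw [← hm]
  exact Subgroup.pow_mem _ h1 m

end

section

variable {G : Type u} [Group G] [Fintype G] {P : Subgroup G}

/-- **Product formula**: in `G = P C_G(P)`, irreducible characters are multiplicative on
`P × C_G(P)` up to the degree. -/
theorem irr_mul_of_sup_centralizer (hG : P ⊔ Subgroup.centralizer (P : Set G) = ⊤) {χ : G → ℂ}
    (hχ : IsIrrCharacter G χ) {y x : G} (hy : y ∈ P) (hx : x ∈ Subgroup.centralizer (P : Set G)) :
    χ (y * x) = χ y * χ x / χ 1 := by
  have hcf := isClassFunction_irr hχ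
  have h1 := sum_irr_mul_conj hχ x y
  have h2 : ∀ t : G, χ (x * (t * y * t⁻¹)) = χ (y * x) := by
    intro t
    obtain ⟨a, ha, hconj⟩ := exists_conj_eq_of_sup_centralizer hG t
    rw [hconj y hy]
    have hax : a * x = x * a := commute_of_mem_centralizer ha hx
    have h3 : x * (a * y * a⁻¹) = a * (x * y) * a⁻¹ := by
      calc x * (a * y * a⁻¹) = (x * a) * y * a⁻¹ := by group
        _ = (a * x) * y * a⁻¹ := by rw [hax]
        _ = a * (x * y) * a⁻¹ := by group
    rw [h3, hcf, commute_of_mem_centralizer hy hx]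
  simp only [h2, Finset.sum_const, Finset.card_univ, nsmul_eq_mul] at h1
  have hG0 : (Fintype.card G : ℂ) ≠ 0 := Nat.cast_ne_zero.2 Fintype.card_ne_zero
  have h3 : (Fintype.card G : ℂ) * χ (y * x) = (Fintype.card G : ℂ) * (χ y * χ x / χ 1) := by
    rw [h1]
    ring
  exact mul_left_cancel₀ hG0 h3

/-- **Clifford for invariant characters**: in `G = P C_G(P)`, the restriction to `P` of an
irreducible character of `G` is a multiple of one irreducible character of `P`. -/
theorem exists_restrict_eq_smul (hG : P ⊔ Subgroup.centralizer (P : Set G) = ⊤) {χ : G → ℂ}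
    (hχ : IsIrrCharacter G χ) :
    ∃ ζ : IrrCharacter P, ∃ e : ℂ, e ≠ 0 ∧ ∀ y : P, χ y = e * (ζ : P → ℂ) y := by
  classical
  have hn := normal_of_sup_centralizer hG
  have : Fintype P := Fintype.ofFinite _
  have hres : IsCharacter P (fun n : P => χ n) :=
    Cfsg.Agent.S0148.isCharacter_restrict P (isCharacter_of_irr hχ)
  obtain ⟨ζ, hζ⟩ := exists_irr_constituent hres (irr_apply_one_ne_zero hχ)
  have h1 := Cfsg.Agent.S0174.result P hn χ hχ (ζ : P → ℂ) ζ.2 hζ
  have hset : {ψ : P → ℂ | ∃ g : G, ψ = fun n : P =>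
      (ζ : P → ℂ) ⟨g * n * g⁻¹, hn.conj_mem n n.2 g⟩} = {(ζ : P → ℂ)} := by
    ext ψ
    simp only [Set.mem_ofPred_eq, Set.mem_singleton_iff]
    have hinv : ∀ g : G, (fun n : P => (ζ : P → ℂ) ⟨g * n * g⁻¹, hn.conj_mem n n.2 g⟩) =
        (ζ : P → ℂ) := by
      intro g
      funext n
      obtain ⟨a, ha, hconj⟩ := exists_conj_eq_of_sup_centralizer hG g
      have h2 : (⟨g * n * g⁻¹, hn.conj_mem n n.2 g⟩ : P) = ⟨a, ha⟩ * n * ⟨a, ha⟩⁻¹ := by
        apply Subtype.ext
        exact hconj n n.2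
      rw [h2]
      exact isClassFunction_irr ζ.2 n ⟨a, ha⟩
    constructor
    · rintro ⟨g, rfl⟩
      exact hinv g
    · rintro rfl
      exact ⟨1, (hinv 1).symm⟩
  rw [hset, finsum_mem_singleton] at h1
  refine ⟨ζ, _, hζ, fun y => ?_⟩
  have := congrFun h1 y
  simpa using this

end

end Cfsg.Agent.Lib.Helper8
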