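import Mathlib
import Cfsg.Prelude.Def_Blocks
import Cfsg.Agent.Lib.Helper8.PC1
import Cfsg.Agent.Lib.Helper8.Sub3
import Cfsg.Agent.Lib.Helper8.SM4

/-!
# Groups of the form `G = P C_G(P)`: summation over `P × (p-regular elements)`
-/

set_option autoImplicit false

namespace Cfsg.Agent.Lib.Helper8

open Cfsg
open scoped ComplexConjugate
open Cfsg.Agent.Lib.Helper1 Cfsg.Agent.Lib.Helper4

universe u

section

variable {G : Type u} [Group G] [Fintype G] {P : Subgroup G} {p : ℕ}

/-- For `y ∈ P`, the elements with `p`-part `y` are the `y x` with `x` `p`-regular. -/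
theorem isPPart_iff_of_sup_centralizer (hp : p.Prime) (hP : IsPGroup p P)
    (hG : P ⊔ Subgroup.centralizer (P : Set G) = ⊤) {y : G} (hy : y ∈ P) (g : G) :
    IsPPart p g y ↔ ¬ p ∣ orderOf (y⁻¹ * g) := by
  constructor
  · rintro ⟨x, rfl, _, _, hx⟩
    rwa [inv_mul_cancel_left]
  · intro h
    have hx := mem_centralizer_of_pRegular hp hP hG h
    have hyp : ∃ k : ℕ, orderOf y = p ^ k := by
      obtain ⟨k, hk⟩ := hP ⟨y, hy⟩
      have hk' : y ^ p ^ k = 1 := congrArg Subtype.val hk
      obtain ⟨j, _, hj⟩ := (Nat.dvd_prime_pow hp).1 (orderOf_dvd_of_pow_eq_one hk')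
      exact ⟨j, hj⟩
    exact ⟨y⁻¹ * g, mul_inv_cancel_left y g, commute_of_mem_centralizer hy hx, hyp, h⟩

/-- **Summation over `P × (p-regular elements)`** for functions vanishing at the elements whose
`p`-part is outside `P`. -/
theorem sum_eq_sum_mul_of_sup_centralizer [Fintype P] (hp : p.Prime) (hP : IsPGroup p P)
    (hG : P ⊔ Subgroup.centralizer (P : Set G) = ⊤) (F : G → ℂ)
    (hF : ∀ g x : G, IsPPart p g x → x ∉ P → F g = 0) :
    ∑ g : G, F g = ∑ y : P, ∑ x : G, if p ∣ orderOf x then 0 else F ((y : G) * x) := by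
  classical
  have h1 : ∀ y : P, ∑ x : G, (if p ∣ orderOf x then 0 else F ((y : G) * x)) =
      ∑ g : G, if IsPPart p g (y : G) then F g else 0 := by
    intro y
    rw [← Equiv.sum_comp (Equiv.mulLeft (y : G)⁻¹)]
    refine Finset.sum_congr rfl fun g _ => ?_
    rw [Equiv.coe_mulLeft, mul_inv_cancel_left]
    by_cases h : p ∣ orderOf ((y : G)⁻¹ * g)
    · rw [if_pos h, if_neg]
      rw [isPPart_iff_of_sup_centralizer hp hP hG y.2]
      exact not_not.2 h
    · rw [if_neg h, if_pos]
      rw [isPPart_iff_of_sup_centralizer hp hP hG y.2]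
      exact h
  simp_rw [h1]
  rw [Finset.sum_comm]
  refine Finset.sum_congr rfl fun g _ => ?_
  obtain ⟨x₀, hx₀⟩ := exists_isPPart hp g
  by_cases hx₀P : x₀ ∈ P
  · rw [Finset.sum_eq_single (⟨x₀, hx₀P⟩ : P)]
    · rw [if_pos hx₀]
    · intro y _ hne
      rw [if_neg]
      intro hy
      apply hne
      exact Subtype.ext (isPPart_unique hp hy hx₀)
    · intro h
      exact absurd (Finset.mem_univ _) h
  · rw [hF g x₀ hx₀ hx₀P]
    symm
    apply Finset.sum_eq_zero
    intro y _
    rw [if_neg]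
    intro hy
    apply hx₀P
    rw [← isPPart_unique hp hy hx₀]
    exact y.2

end

end Cfsg.Agent.Lib.Helper8
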