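import Mathlib
import Cfsg.Prelude.Def_Blocks
import Cfsg.Agent.Lib.Helper8.SM5
import Cfsg.Agent.Lib.Helper8.InducedOmega2
import Cfsg.Agent.Lib.Helper8.BlockInduced

/-!
# Brauer's second main theorem in terms of block parts
-/

set_option autoImplicit false

namespace Cfsg.Agent.Lib.Helper8

open Cfsg
open scoped ComplexConjugate
open Cfsg.Agent.Lib.Helper1 Cfsg.Agent.Lib.Helper4

universe u

section

variable {G : Type u} [Group G] [Fintype G] {M : Ideal AlgInt} {p : ℕ}

/-- The `B`-part of a class function, via the idempotent of `B`. -/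
theorem blockPart_eq_sum_blockCoeff (hM : M.IsPrime) {B : Set (IrrCharacter G)}
    (hB : IsPBlock M B) {θ : G → ℂ} (hθ : IsClassFunction G θ) (g : G) :
    blockPart B θ g = ∑ k : G, blockCoeff B k * θ (g * k) := by
  classical
  have : Fintype (IrrCharacter G) := Fintype.ofFinite _
  obtain ⟨hcf, _, hω⟩ := blockCoeff_spec hM hB
  rw [blockPart_eq_sum]
  have hexp := class_function_expansion θ hθ
  have h1 : ∀ k : G, θ (g * k) = ∑ ψ : IrrCharacter G, classInner θ (ψ : G → ℂ) * (ψ : G → ℂ) (g * k) := by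
    intro k
    conv_lhs => rw [hexp]
    rw [Finset.sum_apply]
    rfl
  simp only [h1, Finset.mul_sum]
  rw [Finset.sum_comm]
  refine Finset.sum_congr rfl fun ψ _ => ?_
  have h2 : ∑ k : G, blockCoeff B k * (classInner θ (ψ : G → ℂ) * (ψ : G → ℂ) (g * k))
      = classInner θ (ψ : G → ℂ) * ∑ k : G, blockCoeff B k * (ψ : G → ℂ) (g * k) := by
    rw [Finset.mul_sum]
    refine Finset.sum_congr rfl fun k _ => ?_
    ring
  rw [h2, sum_classFunction_mul_irr ψ.2 _ hcf g]
  have h3 := hω ψ
  unfold omega at h3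
  rw [h3]
  ring

end

end Cfsg.Agent.Lib.Helper8
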