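import Mathlib
import Cfsg.Prelude.Def_Blocks
import Cfsg.Agent.Lib.Helper8.SM6

/-!
# Block orthogonality
-/

set_option autoImplicit false

namespace Cfsg.Agent.Lib.Helper8

open Cfsg
open scoped ComplexConjugate
open Cfsg.Agent.Lib.Helper1 Cfsg.Agent.Lib.Helper4

universe u

section

variable {G : Type u} [Group G] [Fintype G] {M : Ideal AlgInt} {p : ℕ}

/-- Twisted class sums of the idempotent of a set of characters. -/
theorem sum_blockCoeff_twisted (B : Set (IrrCharacter G)) (a c : G) :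
    ∑ z : G, blockCoeff B (a⁻¹ * z * c * z⁻¹) =
      ∑ᶠ χ ∈ B, (χ : G → ℂ) a * (χ : G → ℂ) c⁻¹ := by
  classical
  have : Fintype (IrrCharacter G) := Fintype.ofFinite _
  have hG0 : (Nat.card G : ℂ) ≠ 0 := Nat.cast_ne_zero.2 Nat.card_pos.ne'
  rw [finsum_mem_eq_sum_indicator]
  simp only [blockCoeff_eq_sum]
  rw [← Finset.mul_sum, Finset.sum_comm, Finset.mul_sum]
  refine Finset.sum_congr rfl fun ψ _ => ?_
  have h1 : ∀ z : G, conj ((ψ : G → ℂ) (a⁻¹ * z * c * z⁻¹))
      = (ψ : G → ℂ) (a * (z * c⁻¹ * z⁻¹)) := by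
    intro z
    rw [← isCharacter_inv (isCharacter_of_irr ψ.2)]
    have e : (a⁻¹ * z * c * z⁻¹)⁻¹ = a⁻¹ * (a * (z * c⁻¹ * z⁻¹)) * a⁻¹⁻¹ := by group
    rw [e, isClassFunction_irr ψ.2]
  simp only [h1]
  rw [← Finset.mul_sum, sum_irr_mul_conj ψ.2, Nat.card_eq_fintype_card]
  have hψ1 := irr_apply_one_ne_zero ψ.2
  have hG0' : (Fintype.card G : ℂ) ≠ 0 := by
    rw [← Nat.card_eq_fintype_card]; exact hG0
  field_simp

/-- **Block orthogonality**: if the `p`-parts of `g` and `h` are not conjugate then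
`∑_{χ ∈ B} χ(g) χ(h⁻¹) = 0`. -/
theorem block_orthogonality (hM : IsPModular p M) {B : Set (IrrCharacter G)} (hB : IsPBlock M B)
    {g h x y : G} (hgx : IsPPart p g x) (hhy : IsPPart p h y) (hxy : ¬ IsConj x y) :
    ∑ᶠ χ ∈ B, (χ : G → ℂ) g * (χ : G → ℂ) h⁻¹ = 0 := by
  classical
  have hMp := isPModular_isPrime hM
  obtain ⟨hcf, hS, _⟩ := blockCoeff_spec hMp hB
  rw [← sum_blockCoeff_twisted]
  have key := sum_idem_twisted_pure hM hS (conv_blockCoeff_self hMp hB) (a := g)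
    (fun t => hcf t g) h⁻¹ ?_
  · rw [inv_inv] at key
    exact key
  · intro z n hn
    by_contra hpn
    apply hxy
    have h1 : z⁻¹ * g ^ n * z = h ^ n := by
      rw [inv_zpow] at hn
      have : g ^ n * z = z * h ^ n := by
        calc g ^ n * z = g ^ n * z * (h ^ n)⁻¹ * h ^ n := by group
          _ = z * h ^ n := by rw [hn]
      rw [mul_assoc, this]
      group
    have h2 := conj_pPart_of_zpow_conj hM.1 hgx hhy n hpn h1
    rw [isConj_iff]
    refine ⟨z⁻¹, ?_⟩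
    rw [inv_inv]
    exact h2

/-- If a class function vanishes on the `p`-section of `x`, so does its `B`-part. -/
theorem blockPart_eq_zero_on_section (hM : IsPModular p M) {θ : G → ℂ} {x : G}
    (hθ : ∀ u z : G, IsPPart p u z → IsConj x z → θ u = 0) {B : Set (IrrCharacter G)}
    (hB : IsPBlock M B) {u z : G} (huz : IsPPart p u z) (hxz : IsConj x z) :
    blockPart B θ u = 0 := by
  classical
  have : Fintype (IrrCharacter G) := Fintype.ofFinite _
  have hMp := isPModular_isPrime hM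
  rw [blockPart_eq_sum]
  unfold classInner
  have h1 : ∀ χ : IrrCharacter G, (if χ ∈ B then (1 : ℂ) else 0) *
      ((Nat.card G : ℂ)⁻¹ * ∑ g : G, θ g * conj ((χ : G → ℂ) g) * (χ : G → ℂ) u)
      = (Nat.card G : ℂ)⁻¹ * ∑ g : G, θ g * ((if χ ∈ B then (1 : ℂ) else 0) *
        ((χ : G → ℂ) u * (χ : G → ℂ) g⁻¹)) := by
    intro χ
    rw [Finset.mul_sum, Finset.mul_sum, Finset.mul_sum]
    refine Finset.sum_congr rfl fun g _ => ?_
    rw [isCharacter_inv (isCharacter_of_irr χ.2)]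
    ring
  have h2 : ∀ χ : IrrCharacter G, (if χ ∈ B then (1 : ℂ) else 0) *
      ((Nat.card G : ℂ)⁻¹ * ∑ g : G, θ g * conj ((χ : G → ℂ) g) * (χ : G → ℂ) u)
      = (if χ ∈ B then (1 : ℂ) else 0) *
      ((Nat.card G : ℂ)⁻¹ * (∑ g : G, θ g * conj ((χ : G → ℂ) g)) * (χ : G → ℂ) u) := by
    intro χ
    rw [mul_assoc ((Nat.card G : ℂ)⁻¹), Finset.sum_mul]
  simp only [← h2, h1]
  rw [← Finset.mul_sum, Finset.sum_comm]
  have h3 : ∀ g : G, ∑ χ : IrrCharacter G, θ g * ((if χ ∈ B then (1 : ℂ) else 0) *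
      ((χ : G → ℂ) u * (χ : G → ℂ) g⁻¹)) = 0 := by
    intro g
    rw [← Finset.mul_sum]
    obtain ⟨z', hgz'⟩ := exists_isPPart hM.1 g
    by_cases hc : IsConj x z'
    · rw [hθ g z' hgz' hc, zero_mul]
    · have := block_orthogonality hM hB huz hgz' (fun h => hc (hxz.trans h))
      rw [finsum_mem_eq_sum_indicator] at this
      rw [this, mul_zero]
  rw [Finset.sum_congr rfl (fun g _ => h3 g)]
  simp

end

end Cfsg.Agent.Lib.Helper8
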