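import Mathlib
import Cfsg.Prelude.Def_Blocks
import Cfsg.Agent.Lib.Helper8.SM7
import Cfsg.Agent.Lib.Helper8.BlockInducedDefect
import Cfsg.Agent.Lib.Helper8.BlockPairMax

/-!
# Vanishing of characters off the defect groups
-/

set_option autoImplicit false

namespace Cfsg.Agent.Lib.Helper8

open Cfsg
open scoped ComplexConjugate
open Cfsg.Agent.Lib.Helper1 Cfsg.Agent.Lib.Helper4

universe u

section

variable {G : Type u} [Group G] [Fintype G] {M : Ideal AlgInt} {p : ℕ}

/-- A class function of `H` all of whose central characters lie in the local ideal is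
quasi-regular in the group algebra over the local ring. -/
theorem exists_inv_one_sub (hM : M.IsPrime) (H : Subgroup G) [Fintype H] {zH : H → ℂ}
    (hzHcf : IsClassFunction H zH) (hzHS : ∀ k, MemLocalRing M (zH k))
    (hzω : ∀ ψ : IrrCharacter H, MemLocalIdeal M (omega (ψ : H → ℂ) zH)) :
    ∃ w : G → ℂ, (∀ x, MemLocalRing M (w x)) ∧
      conv w (deltaOne - extZ H zH) = deltaOne := by
  classical
  have : Fintype (IrrCharacter H) := Fintype.ofFinite _
  have hr : (fun ψ : IrrCharacter H => 1 - omega (ψ : H → ℂ) zH) ∈ omegaRing M hM H := by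
    refine ⟨deltaOne - zH, isClassFunction_sub' isClassFunction_deltaOne hzHcf, fun k => ?_,
      fun ψ => ?_⟩
    · exact memLocalRing_sub hM (memLocalRing_deltaOne hM.ne_top k) (hzHS k)
    · rw [omega_sub, omega_deltaOne (irr_apply_one_ne_zero ψ.2)]
  obtain ⟨wH, hwHcf, hwHS, hwHω⟩ := inv_mem_of_units hM (omegaRing M hM H)
    (fun c hc => const_mem_omegaRing hM hc)
    (fun r hr i => apply_memLocalRing_of_mem_omegaRing hM hr i) _ hr
    (fun ψ h => by
      have := memLocalIdeal_add hM h (hzω ψ)
      rw [sub_add_cancel] at this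
      exact not_memLocalIdeal_one hM this)
  have hwinv : conv wH (deltaOne - zH) = deltaOne := by
    apply eq_of_omega_eq (isClassFunction_conv hwHcf
      (isClassFunction_sub' isClassFunction_deltaOne hzHcf)) isClassFunction_deltaOne
    intro ψ
    rw [omega_conv ψ.2 (isClassFunction_sub' isClassFunction_deltaOne hzHcf), hwHω ψ, omega_sub,
      omega_deltaOne (irr_apply_one_ne_zero ψ.2)]
    apply inv_mul_cancel₀
    intro h0
    have := hzω ψ
    have h1 : omega (ψ : H → ℂ) zH = 1 := by linear_combination -h0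
    rw [h1] at this
    exact not_memLocalIdeal_one hM this
  refine ⟨extZ H wH, ?_, ?_⟩
  · intro x
    by_cases hx : x ∈ H
    · rw [extZ_of_mem H _ hx]; exact hwHS _
    · rw [extZ_of_not_mem H _ hx]; exact memLocalRing_zero hM.ne_top
  · have : (deltaOne : G → ℂ) - extZ H zH = extZ H (deltaOne - zH) := by
      rw [deltaOne_eq_extZ H]
      funext g
      by_cases hg : g ∈ H
      · rw [Pi.sub_apply, extZ_of_mem H _ hg, extZ_of_mem H _ hg, extZ_of_mem H _ hg]
        rfl
      · rw [Pi.sub_apply, extZ_of_not_mem H _ hg, extZ_of_not_mem H _ hg, extZ_of_not_mem H _ hg,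
          sub_zero]
    rw [this, conv_extZ, hwinv, ← deltaOne_eq_extZ]

/-- If no block of `H ≥ C_G(a_p)` induces the block `B'`, every character of `B'` vanishes at
`a`. -/
theorem irr_eq_zero_of_omega_restrict (hM : IsPModular p M) (H : Subgroup G) [Fintype H]
    {a u : G} (ha : a ∈ H) (hau : IsPPart p a u) (hC : Subgroup.centralizer ({u} : Set G) ≤ H)
    {B' : Set (IrrCharacter G)} (hB' : IsPBlock M B')
    (hno : ∀ ψ : IrrCharacter H,
      MemLocalIdeal M (omega (ψ : H → ℂ) (fun k : H => blockCoeff B' (k : G))))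
    {χ : IrrCharacter G} (hχ : χ ∈ B') : (χ : G → ℂ) a = 0 := by
  classical
  have hMp := isPModular_isPrime hM
  obtain ⟨hecf, heS, heω⟩ := blockCoeff_spec hMp hB'
  have hee := conv_blockCoeff_self hMp hB'
  have hercf : IsClassFunction H (fun k : H => blockCoeff B' (k : G)) :=
    isClassFunction_restrict H hecf
  obtain ⟨w, hwS, hw⟩ := exists_inv_one_sub hMp H hercf (fun k => heS _) hno
  have htrunc : truncTo (H : Set G) (blockCoeff B') = extZ H (fun k : H => blockCoeff B' (k : G)) := by
    funext g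
    by_cases hg : g ∈ H
    · rw [truncTo_of_mem _ (show g ∈ (H : Set G) from hg), extZ_of_mem H _ hg]
    · rw [truncTo_of_not_mem _ (show g ∉ (H : Set G) from hg), extZ_of_not_mem H _ hg]
  rw [← htrunc] at hw
  have key := sum_idem_mul_classFunction_eq_zero hM H heS hee ha hau hC (fun t => hecf t a) w hwS hw
    (isClassFunction_irr χ.2)
  rw [sum_classFunction_mul_irr χ.2 _ hecf a] at key
  have h3 : (∑ g : G, blockCoeff B' g * (χ : G → ℂ) g) / (χ : G → ℂ) 1 = 1 := by
    have := heω χ
    rw [if_pos hχ] at this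
    exact this
  rw [h3, one_mul] at key
  exact key

/-- **Characters vanish off the defect groups**: if the `p`-part of `g` lies in no defect group of
the block of `χ`, then `χ g = 0`. -/
theorem irr_eq_zero_of_pPart_not_mem_defectGroup [Fact p.Prime] (hM : IsPModular p M)
    (χ : IrrCharacter G) {g x : G} (hx : IsPPart p g x)
    (hD : ∀ D : Subgroup G, IsDefectGroup p M (blockOf M (χ : G → ℂ)) D → x ∉ D) :
    (χ : G → ℂ) g = 0 := by
  classical
  have hMp := isPModular_isPrime hM
  have hB' : IsPBlock M (blockOf M (χ : G → ℂ)) := ⟨χ, rfl⟩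
  have hχB' : χ ∈ blockOf M (χ : G → ℂ) := sameBlock_refl hMp.ne_top _
  obtain ⟨hecf, heS, heω⟩ := blockCoeff_spec hMp hB'
  have hxp : ∃ k : ℕ, orderOf x = p ^ k := by
    obtain ⟨_, _, _, h, _⟩ := hx
    exact h
  have hgC : g ∈ Subgroup.centralizer ({x} : Set G) := by
    rw [Subgroup.mem_centralizer_singleton_iff]
    exact isPPart_commute hx
  have hxC : x ∈ Subgroup.centralizer ({x} : Set G) := by
    rw [Subgroup.mem_centralizer_singleton_iff]
  have hcent : Subgroup.centralizer ((Subgroup.zpowers x : Subgroup G) : Set G) =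
      Subgroup.centralizer ({x} : Set G) := by
    rw [Subgroup.zpowers_eq_closure, Subgroup.centralizer_closure]
  have hPp : IsPGroup p (Subgroup.zpowers x) := by
    obtain ⟨k, hk⟩ := hxp
    apply IsPGroup.of_card (n := k)
    rw [Nat.card_zpowers, hk]
  apply irr_eq_zero_of_omega_restrict hM (Subgroup.centralizer ({x} : Set G)) hgC hx le_rfl hB' _ hχB'
  intro ψ
  -- the block of `ψ` induces a block `B₀`
  have hb : IsPBlock M (blockOf M (ψ : Subgroup.centralizer ({x} : Set G) → ℂ)) := ⟨ψ, rfl⟩
  have hψb : ψ ∈ blockOf M (ψ : Subgroup.centralizer ({x} : Set G) → ℂ) :=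
    sameBlock_refl hMp.ne_top _
  have hdef : InducedBlockDefined M (Subgroup.centralizer ({x} : Set G))
      (blockOf M (ψ : Subgroup.centralizer ({x} : Set G) → ℂ)) := by
    apply inducedBlockDefined_of_le hM (Subgroup.zpowers x) _ hPp _ _ _ hb
    · rw [Subgroup.zpowers_le]
      exact hxC
    · rw [hcent]
    · rw [← hcent]
      exact Subgroup.centralizer_le_normalizer _
  obtain ⟨B₀, hind⟩ := hdef
  obtain ⟨χ₀, hχ₀⟩ := isPBlock_nonempty hMp hind.2.1
  have h1 := omega_restrict_cong_of_induced hMp _ hind hψb hχ₀ hecf heS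
  rw [heω χ₀] at h1
  by_cases hχ₀B' : χ₀ ∈ blockOf M (χ : G → ℂ)
  · exfalso
    -- then `B₀` is the block of `χ`, and `x` lies in a defect group
    have hBeq : B₀ = blockOf M (χ : G → ℂ) := by
      rw [eq_blockOf_of_mem hMp hind.2.1 hχ₀, ← eq_blockOf_of_mem hMp hB' hχ₀B']
    obtain ⟨Db, hDb⟩ := exists_isDefectGroup (p := p) hMp hb
    obtain ⟨E, hE, hDE⟩ := exists_defectGroup_ge_of_induced hM _ hind hDb
    rw [hBeq] at hE
    apply hD E hE
    apply hDE
    have hn : ((Subgroup.zpowers x).subgroupOf (Subgroup.centralizer ({x} : Set G))).Normal := by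
      apply Subgroup.normal_subgroupOf_of_le_normalizer
      rw [← hcent]
      exact Subgroup.centralizer_le_normalizer _
    have hle := normal_le_of_isDefectGroup hM hb hDb
      ((Subgroup.zpowers x).subgroupOf (Subgroup.centralizer ({x} : Set G))) hPp.comap_subtype
    exact ⟨⟨x, hxC⟩, hle (Subgroup.mem_subgroupOf.2 (Subgroup.mem_zpowers x)), rfl⟩
  · rw [if_neg hχ₀B', sub_zero] at h1
    exact h1

end

end Cfsg.Agent.Lib.Helper8
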