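import Mathlib
import Cfsg.Prelude.Def_Blocks
import Cfsg.Agent.Lib.Helper8.PC2
import Cfsg.Agent.Lib.Helper8.SM8
import Cfsg.Agent.Lib.Helper8.PairConj3
import Cfsg.Agent.Lib.Helper8.BF3

/-!
# Blocks of `G = P C_G(P)` with defect group `P`: inner products
-/

set_option autoImplicit false

namespace Cfsg.Agent.Lib.Helper8

open Cfsg
open scoped ComplexConjugate
open Cfsg.Agent.Lib.Helper1 Cfsg.Agent.Lib.Helper4

universe u

section

variable {G : Type u} [Group G] [Fintype G] {M : Ideal AlgInt} {p : ℕ} [Fact p.Prime]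
  {P : Subgroup G}

/-- The members of a block with a normal defect group `P` vanish at the elements whose `p`-part
is outside `P`. -/
theorem irr_eq_zero_of_normal_defectGroup (hM : IsPModular p M) {B : Set (IrrCharacter G)}
    (hB : IsPBlock M B) (hn : P.Normal) (hD : IsDefectGroup p M B P) {χ : IrrCharacter G}
    (hχ : χ ∈ B) {g x : G} (hx : IsPPart p g x) (hxP : x ∉ P) : (χ : G → ℂ) g = 0 := by
  have hMp := isPModular_isPrime hM
  have hBeq := eq_blockOf_of_mem hMp hB hχ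
  apply irr_eq_zero_of_pPart_not_mem_defectGroup hM χ hx
  intro D hD' hxD
  rw [← hBeq] at hD'
  obtain ⟨t, ht⟩ := exists_conj_eq_of_isDefectGroup hM hB hD hD'
  apply hxP
  have h1 : t * x * t⁻¹ ∈ P := by
    rw [← ht]
    exact ⟨x, hxD, rfl⟩
  have h2 := hn.conj_mem _ h1 t⁻¹
  have h3 : t⁻¹ * (t * x * t⁻¹) * t⁻¹⁻¹ = x := by group
  rwa [h3] at h2

/-- **Inner products in a block of `G = P C_G(P)` with defect group `P`.** -/
theorem classInner_eq_of_sup_centralizer [Fintype P] (hM : IsPModular p M) (hP : IsPGroup p P)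
    (hG : P ⊔ Subgroup.centralizer (P : Set G) = ⊤) {B : Set (IrrCharacter G)}
    (hB : IsPBlock M B) (hD : IsDefectGroup p M B P) {χ χ' : IrrCharacter G} (hχ : χ ∈ B)
    (_hχ' : χ' ∈ B) :
    classInner (χ : G → ℂ) (χ' : G → ℂ) =
      (∑ y : P, (χ : G → ℂ) y * conj ((χ' : G → ℂ) y)) * mreg p (χ : G → ℂ) (χ' : G → ℂ) /
        ((χ : G → ℂ) 1 * (χ' : G → ℂ) 1) := by
  classical
  have hp : p.Prime := Fact.out
  have hn := normal_of_sup_centralizer hG
  have hχ1 := irr_apply_one_ne_zero χ.2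
  have hχ'1 := irr_apply_one_ne_zero χ'.2
  have hconj1 : conj ((χ' : G → ℂ) 1) = (χ' : G → ℂ) 1 := by
    obtain ⟨n, hn⟩ := isCharacter_apply_one (isCharacter_of_irr χ'.2)
    rw [hn, Complex.conj_natCast]
  rw [classInner_def, sum_eq_sum_mul_of_sup_centralizer hp hP hG
    (fun g => (χ : G → ℂ) g * conj ((χ' : G → ℂ) g))
    (fun g x hx hxP => by
      rw [irr_eq_zero_of_normal_defectGroup hM hB hn hD hχ hx hxP, zero_mul]),
    mreg_eq_sum_ite]
  have h1 : ∀ y : P, ∑ x : G, (if p ∣ orderOf x then (0 : ℂ) else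
      (χ : G → ℂ) ((y : G) * x) * conj ((χ' : G → ℂ) ((y : G) * x))) =
      ((χ : G → ℂ) y * conj ((χ' : G → ℂ) y)) / ((χ : G → ℂ) 1 * (χ' : G → ℂ) 1) *
        ∑ x : G, if p ∣ orderOf x then (0 : ℂ) else (χ : G → ℂ) x * conj ((χ' : G → ℂ) x) := by
    intro y
    rw [Finset.mul_sum]
    refine Finset.sum_congr rfl fun x _ => ?_
    by_cases hx : p ∣ orderOf x
    · rw [if_pos hx, if_pos hx, mul_zero]
    · rw [if_neg hx, if_neg hx]
      have hxC := mem_centralizer_of_pRegular hp hP hG hx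
      rw [irr_mul_of_sup_centralizer hG χ.2 y.2 hxC, irr_mul_of_sup_centralizer hG χ'.2 y.2 hxC,
        map_div₀, map_mul, hconj1]
      field_simp
  simp_rw [h1]
  rw [← Finset.sum_mul, ← Finset.sum_div]
  ring

end

end Cfsg.Agent.Lib.Helper8
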