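import Mathlib
import Cfsg.Prelude.Def_Blocks
import Cfsg.Agent.Lib.Helper8.PC3

/-!
# Blocks of `G = P C_G(P)` with defect group `P`: the constituent on `P`
-/

set_option autoImplicit false

namespace Cfsg.Agent.Lib.Helper8

open Cfsg
open scoped ComplexConjugate
open Cfsg.Agent.Lib.Helper1 Cfsg.Agent.Lib.Helper4

universe u

section

variable {G : Type u} [Group G] [Fintype G] {P : Subgroup G}

/-- The irreducible constituent on `P` of an irreducible character of `G = P C_G(P)`. -/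
noncomputable def pcConst (hG : P ⊔ Subgroup.centralizer (P : Set G) = ⊤) (χ : IrrCharacter G) :
    IrrCharacter P :=
  Classical.choose (exists_restrict_eq_smul hG χ.2)

theorem pcConst_spec (hG : P ⊔ Subgroup.centralizer (P : Set G) = ⊤) (χ : IrrCharacter G)
    (y : P) : (χ : G → ℂ) y =
      (χ : G → ℂ) 1 / (pcConst hG χ : P → ℂ) 1 * (pcConst hG χ : P → ℂ) y := by
  obtain ⟨e, _, he⟩ := Classical.choose_spec (exists_restrict_eq_smul hG χ.2)
  have h1 := he 1
  rw [OneMemClass.coe_one] at h1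
  have hζ1 : (pcConst hG χ : P → ℂ) 1 ≠ 0 := irr_apply_one_ne_zero (pcConst hG χ).2
  have he' : e = (χ : G → ℂ) 1 / (pcConst hG χ : P → ℂ) 1 := by
    rw [eq_div_iff hζ1]
    exact h1.symm
  rw [← he']
  exact he y

/-- The sum over `P` of `χ conj χ'`. -/
theorem sum_restrict_mul_conj [Fintype P] (hG : P ⊔ Subgroup.centralizer (P : Set G) = ⊤)
    (χ χ' : IrrCharacter G) :
    ∑ y : P, (χ : G → ℂ) y * conj ((χ' : G → ℂ) y) =
      (χ : G → ℂ) 1 * (χ' : G → ℂ) 1 /
        ((pcConst hG χ : P → ℂ) 1 * (pcConst hG χ' : P → ℂ) 1) * (Nat.card P : ℂ) *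
        classInner (pcConst hG χ : P → ℂ) (pcConst hG χ' : P → ℂ) := by
  have hP0 : (Nat.card P : ℂ) ≠ 0 := Nat.cast_ne_zero.2 Nat.card_pos.ne'
  have hc : ∀ ψ : IrrCharacter G, conj ((ψ : G → ℂ) 1) = (ψ : G → ℂ) 1 := by
    intro ψ
    obtain ⟨n, hn⟩ := isCharacter_apply_one (isCharacter_of_irr ψ.2)
    rw [hn, Complex.conj_natCast]
  have hc' : ∀ ψ : IrrCharacter P, conj ((ψ : P → ℂ) 1) = (ψ : P → ℂ) 1 := by
    intro ψ
    obtain ⟨n, hn⟩ := isCharacter_apply_one (isCharacter_of_irr ψ.2)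
    rw [hn, Complex.conj_natCast]
  rw [classInner_def, mul_comm (Nat.card P : ℂ)⁻¹, ← mul_assoc, mul_assoc _ (Nat.card P : ℂ),
    mul_comm (Nat.card P : ℂ), ← mul_assoc, mul_assoc _ _ (Nat.card P : ℂ)⁻¹,
    mul_inv_cancel₀ hP0, mul_one, Finset.mul_sum]
  refine Finset.sum_congr rfl fun y _ => ?_
  rw [pcConst_spec hG χ y, pcConst_spec hG χ' y, map_mul, map_div₀, hc, hc']
  have h1 := irr_apply_one_ne_zero (pcConst hG χ).2
  have h2 := irr_apply_one_ne_zero (pcConst hG χ').2
  field_simp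

end

section

variable {G : Type u} [Group G] [Fintype G] {M : Ideal AlgInt} {p : ℕ} [Fact p.Prime]
  {P : Subgroup G}

/-- The `p`-regular norm of a member of the block. -/
theorem mreg_self_of_sup_centralizer (hM : IsPModular p M) (hP : IsPGroup p P)
    (hG : P ⊔ Subgroup.centralizer (P : Set G) = ⊤) {B : Set (IrrCharacter G)}
    (hB : IsPBlock M B) (hD : IsDefectGroup p M B P) {χ : IrrCharacter G} (hχ : χ ∈ B) :
    mreg p (χ : G → ℂ) (χ : G → ℂ) =
      (pcConst hG χ : P → ℂ) 1 * (pcConst hG χ : P → ℂ) 1 / (Nat.card P : ℂ) := by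
  classical
  have : Fintype P := Fintype.ofFinite _
  have hP0 : (Nat.card P : ℂ) ≠ 0 := Nat.cast_ne_zero.2 Nat.card_pos.ne'
  have h1 := classInner_eq_of_sup_centralizer hM hP hG hB hD hχ hχ
  rw [classInner_irr_self χ.2, sum_restrict_mul_conj hG, classInner_irr_self (pcConst hG χ).2,
    mul_one] at h1
  have hχ1 := irr_apply_one_ne_zero χ.2
  have hζ1 := irr_apply_one_ne_zero (pcConst hG χ).2
  field_simp at h1
  field_simp
  rw [h1]
  ring

/-- Distinct members of the block with the same constituent on `P` are orthogonal on the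
`p`-regular elements. -/
theorem mreg_eq_zero_of_sup_centralizer (hM : IsPModular p M) (hP : IsPGroup p P)
    (hG : P ⊔ Subgroup.centralizer (P : Set G) = ⊤) {B : Set (IrrCharacter G)}
    (hB : IsPBlock M B) (hD : IsDefectGroup p M B P) {χ χ' : IrrCharacter G} (hχ : χ ∈ B)
    (hχ' : χ' ∈ B) (hne : χ ≠ χ') (hζ : pcConst hG χ = pcConst hG χ') :
    mreg p (χ : G → ℂ) (χ' : G → ℂ) = 0 := by
  classical
  have : Fintype P := Fintype.ofFinite _
  have hP0 : (Nat.card P : ℂ) ≠ 0 := Nat.cast_ne_zero.2 Nat.card_pos.ne'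
  have h1 := classInner_eq_of_sup_centralizer hM hP hG hB hD hχ hχ'
  rw [classInner_irr_ne χ.2 χ'.2 (fun h => hne (Subtype.ext h)), sum_restrict_mul_conj hG, hζ,
    classInner_irr_self (pcConst hG χ').2, mul_one] at h1
  have hχ1 := irr_apply_one_ne_zero χ.2
  have hχ'1 := irr_apply_one_ne_zero χ'.2
  have hζ1 := irr_apply_one_ne_zero (pcConst hG χ').2
  field_simp at h1
  rw [zero_mul] at h1
  rcases mul_eq_zero.1 h1.symm with h | h
  · exact absurd h hP0
  · exact h

end

end Cfsg.Agent.Lib.Helper8
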