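import Mathlib
import Cfsg.Prelude.Def_Blocks
import Cfsg.Prelude.Def_BlockRank
import Cfsg.Agent.Lib.Helper8.PC4
import Cfsg.Agent.Lib.Helper8.Sub5
import Cfsg.Agent.Lib.Helper8.BlockRank2

/-!
# Blocks of `G = P C_G(P)` with defect group `P`: counting
-/

set_option autoImplicit false

namespace Cfsg.Agent.Lib.Helper8

open Cfsg
open scoped ComplexConjugate
open Cfsg.Agent.Lib.Helper1 Cfsg.Agent.Lib.Helper4

universe u

/-- A pairwise orthogonal family of nonzero vectors of a subspace has at most as many members as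
the dimension of the subspace. -/
theorem card_le_finrank_of_orthogonal {X : Type*} [Fintype X] {ι : Type*} [Fintype ι]
    (W : Submodule ℂ (X → ℂ)) (v : ι → X → ℂ) (hv : ∀ i, v i ∈ W)
    (hnz : ∀ i, ∑ x, v i x * conj (v i x) ≠ 0)
    (hort : ∀ i j, i ≠ j → ∑ x, v i x * conj (v j x) = 0) :
    Fintype.card ι ≤ Module.finrank ℂ W := by
  classical
  have hli : LinearIndependent ℂ (fun i => (⟨v i, hv i⟩ : W)) := by
    apply LinearIndependent.of_comp W.subtype
    rw [linearIndependent_iff']
    intro s c hc j hj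
    have h1 : ∑ x, (∑ i ∈ s, c i • (W.subtype ∘ fun i => (⟨v i, hv i⟩ : W)) i) x * conj (v j x) = 0 := by
      rw [hc]
      simp
    have h2 : ∑ x, (∑ i ∈ s, c i • (W.subtype ∘ fun i => (⟨v i, hv i⟩ : W)) i) x * conj (v j x) =
        c j * ∑ x, v j x * conj (v j x) := by
      have : ∀ x, (∑ i ∈ s, c i • (W.subtype ∘ fun i => (⟨v i, hv i⟩ : W)) i) x * conj (v j x) =
          ∑ i ∈ s, c i * (v i x * conj (v j x)) := by
        intro x
        rw [Finset.sum_apply, Finset.sum_mul]
        refine Finset.sum_congr rfl fun i _ => ?_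
        simp only [Function.comp_apply, Submodule.subtype_apply, Pi.smul_apply, smul_eq_mul]
        ring
      simp_rw [this]
      rw [Finset.sum_comm]
      simp_rw [← Finset.mul_sum]
      rw [Finset.sum_eq_single j]
      · intro i _ hij
        rw [hort i j hij, mul_zero]
      · intro h
        exact absurd hj h
    rw [h2] at h1
    rcases mul_eq_zero.1 h1 with h | h
    · exact h
    · exact absurd h (hnz j)
  exact hli.fintype_card_le_finrank

section

variable {G : Type u} [Group G] [Fintype G] {M : Ideal AlgInt} {p : ℕ} [Fact p.Prime]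
  {P : Subgroup G}

omit [Fact p.Prime] in
theorem sum_pRegularPart_mul_conj (χ χ' : G → ℂ) :
    ∑ x : G, pRegularPart p χ x * conj (pRegularPart p χ' x) =
      (Nat.card G : ℂ) * mreg p χ χ' := by
  have hG0 : (Nat.card G : ℂ) ≠ 0 := Nat.cast_ne_zero.2 Nat.card_pos.ne'
  rw [mreg_def, ← mul_assoc, mul_inv_cancel₀ hG0, one_mul]
  refine Finset.sum_congr rfl fun x _ => ?_
  by_cases hx : p ∣ orderOf x
  · rw [pRegularPart_of_dvd _ hx, zero_mul, zero_mul]
  · rw [pRegularPart_of_not_dvd χ' hx]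

omit [Fact p.Prime] in
/-- The sum of the `p`-regular norms over a block is its rank. -/
theorem sum_mreg_self_eq_blockRank [Fintype (IrrCharacter G)] (hM : IsPModular p M)
    {B : Set (IrrCharacter G)} (hB : IsPBlock M B) :
    ∑ χ : IrrCharacter G, (by classical exact if χ ∈ B then (1 : ℂ) else 0) *
      mreg p (χ : G → ℂ) (χ : G → ℂ) = (blockRank p B : ℂ) := by
  classical
  have hG0 : (Nat.card G : ℂ) ≠ 0 := Nat.cast_ne_zero.2 Nat.card_pos.ne'
  have h1 := card_mul_blockRank hM hB
  have h2 : ∀ x : G, ∑ᶠ χ ∈ B, pRegularPart p (χ : G → ℂ) x * (χ : G → ℂ) x⁻¹ =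
      ∑ χ : IrrCharacter G, (if χ ∈ B then (1 : ℂ) else 0) *
        (pRegularPart p (χ : G → ℂ) x * conj ((χ : G → ℂ) x)) := by
    intro x
    rw [finsum_mem_eq_sum_indicator]
    refine Finset.sum_congr rfl fun χ _ => ?_
    rw [isCharacter_inv (isCharacter_of_irr χ.2)]
  simp_rw [h2] at h1
  rw [Finset.sum_comm] at h1
  simp_rw [← Finset.mul_sum] at h1
  apply mul_left_cancel₀ hG0
  rw [h1, Finset.mul_sum]
  refine Finset.sum_congr rfl fun χ _ => ?_
  rw [mreg_def, ← mul_assoc, ← mul_assoc, mul_comm (Nat.card G : ℂ), mul_assoc _ (Nat.card G : ℂ),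
    mul_inv_cancel₀ hG0, mul_one]

end

end Cfsg.Agent.Lib.Helper8
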