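import Mathlib
import Cfsg.Prelude.Def_Blocks
import Cfsg.Prelude.Def_BlockRank
import Cfsg.Agent.Lib.Helper8.PC5
import Cfsg.Agent.Lib.Helper8.Deflation

/-!
# Blocks of `G = P C_G(P)` with defect group `P`: the fibres of the constituent map
-/

set_option autoImplicit false

namespace Cfsg.Agent.Lib.Helper8

open Cfsg
open scoped ComplexConjugate
open Cfsg.Agent.Lib.Helper1 Cfsg.Agent.Lib.Helper4

universe u

section

variable {G : Type u} [Group G] [Fintype G] {M : Ideal AlgInt} {p : ℕ} [Fact p.Prime]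
  {P : Subgroup G}

/-- The sum of the squares of the degrees of the irreducible characters is the group order. -/
theorem sum_charDegree_sq (H : Type u) [Group H] [Fintype H] [Fintype (IrrCharacter H)] :
    ∑ ζ : IrrCharacter H, charDegree (ζ : H → ℂ) ^ 2 = Nat.card H := by
  have h1 := column_orthogonality (G := H) 1 1
  have h2 : classIndicator (1 : H) 1 = 1 := by
    unfold classIndicator
    rw [if_pos (IsConj.refl 1)]
  have h3 : Subgroup.centralizer ({(1 : H)} : Set H) = ⊤ := by
    ext t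
    simp [Subgroup.mem_centralizer_singleton_iff]
  rw [h2, mul_one, h3, Subgroup.card_top] at h1
  have h4 : ((∑ ζ : IrrCharacter H, charDegree (ζ : H → ℂ) ^ 2 : ℕ) : ℂ) = (Nat.card H : ℂ) := by
    rw [← h1, Nat.cast_sum]
    refine Finset.sum_congr rfl fun ζ _ => ?_
    obtain ⟨hd, _⟩ := irr_apply_one_eq_charDegree ζ.2
    rw [hd, Complex.conj_natCast, Nat.cast_pow, sq]
  exact_mod_cast h4

/-- Each fibre of the constituent map on `B` has at most `l(B)` members. -/
theorem card_fiber_le_blockRank (hM : IsPModular p M) (hP : IsPGroup p P)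
    (hG : P ⊔ Subgroup.centralizer (P : Set G) = ⊤) {B : Set (IrrCharacter G)}
    (hB : IsPBlock M B) (hD : IsDefectGroup p M B P) (ζ : IrrCharacter P) :
    Nat.card {χ : IrrCharacter G // χ ∈ B ∧ pcConst hG χ = ζ} ≤ blockRank p B := by
  classical
  have : Fintype {χ : IrrCharacter G // χ ∈ B ∧ pcConst hG χ = ζ} := Fintype.ofFinite _
  have hG0 : (Nat.card G : ℂ) ≠ 0 := Nat.cast_ne_zero.2 Nat.card_pos.ne'
  have hP0 : (Nat.card P : ℂ) ≠ 0 := Nat.cast_ne_zero.2 Nat.card_pos.ne'
  rw [blockRank_eq_finrank_regSpan, Nat.card_eq_fintype_card]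
  apply card_le_finrank_of_orthogonal (regSpan p B)
    (fun χ : {χ : IrrCharacter G // χ ∈ B ∧ pcConst hG χ = ζ} =>
      pRegularPart p ((χ : IrrCharacter G) : G → ℂ))
  · intro χ
    exact Submodule.subset_span ⟨χ, χ.2.1, rfl⟩
  · intro χ
    rw [sum_pRegularPart_mul_conj, mreg_self_of_sup_centralizer hM hP hG hB hD χ.2.1]
    have hζ1 := irr_apply_one_ne_zero (pcConst hG (χ : IrrCharacter G)).2
    exact mul_ne_zero hG0 (div_ne_zero (mul_ne_zero hζ1 hζ1) hP0)
  · intro χ χ' hne
    rw [sum_pRegularPart_mul_conj, mreg_eq_zero_of_sup_centralizer hM hP hG hB hD χ.2.1 χ'.2.1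
      (fun h => hne (Subtype.ext h)) (χ.2.2.trans χ'.2.2.symm), mul_zero]

end

end Cfsg.Agent.Lib.Helper8
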