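import Mathlib
import Cfsg.Prelude.Def_Blocks
import Cfsg.Prelude.Def_BlockRank
import Cfsg.Agent.Lib.Helper8.PC6

/-!
# Blocks of `G = P C_G(P)` with defect group `P`: every fibre has `l(B)` members
-/

set_option autoImplicit false

namespace Cfsg.Agent.Lib.Helper8

open Cfsg
open scoped ComplexConjugate
open Cfsg.Agent.Lib.Helper1 Cfsg.Agent.Lib.Helper4

universe u

section

variable {G : Type u} [Group G] [Fintype G] {M : Ideal AlgInt} {p : ℕ} [Fact p.Prime]
  {P : Subgroup G}

/-- Each fibre of the constituent map on `B` has exactly `l(B)` members. -/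
theorem card_fiber_eq_blockRank (hM : IsPModular p M) (hP : IsPGroup p P)
    (hG : P ⊔ Subgroup.centralizer (P : Set G) = ⊤) {B : Set (IrrCharacter G)}
    (hB : IsPBlock M B) (hD : IsDefectGroup p M B P) (ζ : IrrCharacter P) :
    Nat.card {χ : IrrCharacter G // χ ∈ B ∧ pcConst hG χ = ζ} = blockRank p B := by
  classical
  have : Fintype (IrrCharacter G) := Fintype.ofFinite _
  have : Fintype P := Fintype.ofFinite _
  have : Fintype (IrrCharacter P) := Fintype.ofFinite _
  have hP0 : (Nat.card P : ℂ) ≠ 0 := Nat.cast_ne_zero.2 Nat.card_pos.ne'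
  set l := blockRank p B with hl
  set d : IrrCharacter P → ℕ := fun ζ => charDegree (ζ : P → ℂ) with hd
  set n : IrrCharacter P → ℕ := fun ζ =>
    (Finset.univ.filter (fun χ : IrrCharacter G => χ ∈ B ∧ pcConst hG χ = ζ)).card with hn
  have hcard : ∀ ζ : IrrCharacter P,
      Nat.card {χ : IrrCharacter G // χ ∈ B ∧ pcConst hG χ = ζ} = n ζ := by
    intro ζ
    rw [Nat.card_eq_fintype_card, Fintype.card_subtype]
  have hle : ∀ ζ, n ζ ≤ l := by
    intro ζ
    rw [← hcard]
    exact card_fiber_le_blockRank hM hP hG hB hD ζ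
  have hdpos : ∀ ζ, 0 < d ζ := fun ζ => (irr_apply_one_eq_charDegree ζ.2).2
  -- the sum over the block
  have h1 : (((∑ χ ∈ Finset.univ.filter (fun χ : IrrCharacter G => χ ∈ B),
      d (pcConst hG χ) ^ 2 : ℕ) : ℂ)) = ((Nat.card P * l : ℕ) : ℂ) := by
    have h2 := sum_mreg_self_eq_blockRank hM hB
    rw [Nat.cast_sum, Finset.sum_filter, Nat.cast_mul, ← h2, Finset.mul_sum]
    refine Finset.sum_congr rfl fun χ _ => ?_
    by_cases hχ : χ ∈ B
    · rw [if_pos hχ]
      have : (by classical exact if χ ∈ B then (1 : ℂ) else 0) = (1 : ℂ) := by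
        simp only [hχ, if_true]
      rw [this, one_mul, mreg_self_of_sup_centralizer hM hP hG hB hD hχ,
        (irr_apply_one_eq_charDegree (pcConst hG χ).2).1, Nat.cast_pow]
      field_simp
      rfl
    · rw [if_neg hχ]
      have : (by classical exact if χ ∈ B then (1 : ℂ) else 0) = (0 : ℂ) := by
        simp only [hχ, if_false]
      rw [this, zero_mul, mul_zero]
  have h1' : ∑ χ ∈ Finset.univ.filter (fun χ : IrrCharacter G => χ ∈ B),
      d (pcConst hG χ) ^ 2 = Nat.card P * l := by exact_mod_cast h1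
  -- fibrewise
  have h3 : ∑ χ ∈ Finset.univ.filter (fun χ : IrrCharacter G => χ ∈ B),
      d (pcConst hG χ) ^ 2 = ∑ ζ : IrrCharacter P, n ζ * d ζ ^ 2 := by
    rw [← Finset.sum_fiberwise _ (fun χ => pcConst hG χ)]
    refine Finset.sum_congr rfl fun ζ _ => ?_
    rw [Finset.filter_filter]
    have h4 : ∀ χ ∈ Finset.univ.filter (fun χ : IrrCharacter G => χ ∈ B ∧ pcConst hG χ = ζ),
        d (pcConst hG χ) ^ 2 = d ζ ^ 2 := by
      intro χ hχ
      rw [(Finset.mem_filter.1 hχ).2.2]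
    rw [Finset.sum_congr rfl h4, Finset.sum_const, smul_eq_mul]
  have h5 : ∑ ζ : IrrCharacter P, l * d ζ ^ 2 = Nat.card P * l := by
    rw [← Finset.mul_sum, sum_charDegree_sq, mul_comm]
  have h6 : ∑ ζ : IrrCharacter P, n ζ * d ζ ^ 2 = ∑ ζ : IrrCharacter P, l * d ζ ^ 2 := by
    rw [← h3, h1', h5]
  have h7 := (Finset.sum_eq_sum_iff_of_le
    (fun ζ _ => Nat.mul_le_mul_right (d ζ ^ 2) (hle ζ))).1 h6 ζ (Finset.mem_univ _)
  rw [hcard]
  exact Nat.eq_of_mul_eq_mul_right (pow_pos (hdpos ζ) 2) h7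

end

end Cfsg.Agent.Lib.Helper8
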