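import Mathlib
import Cfsg.Prelude.Def_Blocks
import Cfsg.Prelude.Def_BlockRank
import Cfsg.Agent.Lib.Helper8.PC7
import Cfsg.Agent.Lib.Helper8.BF5
import Cfsg.Agent.Lib.Helper8.BlockNormalP
import Cfsg.Agent.Lib.Helper8.BlockFirstMain3
import Cfsg.Agent.Lib.Helper8.TwoClass

/-!
# Blocks of `G = P C_G(P)` with defect group `P`: rank one
-/

set_option autoImplicit false

namespace Cfsg.Agent.Lib.Helper8

open Cfsg
open scoped ComplexConjugate
open Cfsg.Agent.Lib.Helper1 Cfsg.Agent.Lib.Helper4

universe u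

section

variable {G : Type u} [Group G] [Fintype G] {M : Ideal AlgInt} {p : ℕ} [Fact p.Prime]
  {P : Subgroup G}

/-- A member of a block with normal defect group `P` that is trivial on `P` has height zero, and
its degree has the `p`-part of the index of `P`. -/
theorem height_zero_of_trivial_on_defectGroup (hM : IsPModular p M) {B : Set (IrrCharacter G)}
    (hB : IsPBlock M B) [P.Normal] (hD : IsDefectGroup p M B P) {θ : IrrCharacter G}
    (hθ : θ ∈ B) (hker : ∀ u ∈ P, (θ : G → ℂ) u = (θ : G → ℂ) 1) :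
    blockHeight p B (θ : G → ℂ) = 0 ∧
      (charDegree (θ : G → ℂ)).factorization p = P.index.factorization p := by
  have hp : p.Prime := Fact.out
  obtain ⟨h1, h2⟩ := block_valuations (p := p) hθ
  have h3 := charDegree_dvd_index P θ.2 hker
  have h4 := card_of_isDefectGroup hM hB hD
  have hdpos := (irr_apply_one_eq_charDegree θ.2).2
  have hidx : P.index ≠ 0 := Subgroup.index_ne_zero_of_finite
  have h5 : (charDegree (θ : G → ℂ)).factorization p ≤ P.index.factorization p :=
    (Nat.factorization_le_iff_dvd hdpos.ne' hidx).2 h3 p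
  have h6 : (Nat.card G).factorization p = blockDefect p B + P.index.factorization p := by
    rw [← Subgroup.card_mul_index P, Nat.factorization_mul Nat.card_pos.ne' hidx,
      Finsupp.add_apply, h4, Nat.factorization_pow, Finsupp.smul_apply, hp.factorization_self,
      smul_eq_mul, mul_one]
  constructor <;> omega

/-- The constituent on `P` of a character trivial on `P` is the trivial character. -/
theorem pcConst_eq_trivIrr (hG : P ⊔ Subgroup.centralizer (P : Set G) = ⊤) {θ : IrrCharacter G}
    (hker : ∀ u ∈ P, (θ : G → ℂ) u = (θ : G → ℂ) 1) : pcConst hG θ = trivIrr P := by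
  classical
  have : Fintype P := Fintype.ofFinite _
  have hP0 : (Nat.card P : ℂ) ≠ 0 := Nat.cast_ne_zero.2 Nat.card_pos.ne'
  by_contra hne
  have h1 := classInner_irr_ne (pcConst hG θ).2 (trivIrr P).2 (fun h => hne (Subtype.ext h))
  have hθ1 := irr_apply_one_ne_zero θ.2
  have hζ1 := irr_apply_one_ne_zero (pcConst hG θ).2
  have h2 : ∀ y : P, (pcConst hG θ : P → ℂ) y = (pcConst hG θ : P → ℂ) 1 := by
    intro y
    have h3 := pcConst_spec hG θ y
    rw [hker y y.2] at h3
    field_simp at h3
    exact h3.symm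
  rw [classInner_def] at h1
  have h4 : ∑ g : P, (pcConst hG θ : P → ℂ) g * conj ((trivIrr P : P → ℂ) g) =
      (Nat.card P : ℂ) * (pcConst hG θ : P → ℂ) 1 := by
    rw [Nat.card_eq_fintype_card, ← Finset.card_univ, ← nsmul_eq_mul, ← Finset.sum_const]
    refine Finset.sum_congr rfl fun y _ => ?_
    rw [trivIrr_apply, map_one, mul_one, h2 y]
  rw [h4, ← mul_assoc, inv_mul_cancel₀ hP0, one_mul] at h1
  exact hζ1 h1

/-- Conversely, a character whose constituent on `P` is trivial is trivial on `P`. -/
theorem trivial_on_of_pcConst_eq (hG : P ⊔ Subgroup.centralizer (P : Set G) = ⊤)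
    {θ : IrrCharacter G} (h : pcConst hG θ = trivIrr P) :
    ∀ u ∈ P, (θ : G → ℂ) u = (θ : G → ℂ) 1 := by
  intro u hu
  have h1 := pcConst_spec hG θ ⟨u, hu⟩
  rw [h, trivIrr_apply, trivIrr_apply, div_one, mul_one] at h1
  exact h1

/-- **Rank one**: a block of `G = P C_G(P)` with defect group `P` has `p`-regular rank one. -/
theorem blockRank_eq_one_of_sup_centralizer (hM : IsPModular p M) (hP : IsPGroup p P)
    (hG : P ⊔ Subgroup.centralizer (P : Set G) = ⊤) {B : Set (IrrCharacter G)}
    (hB : IsPBlock M B) (hD : IsDefectGroup p M B P) : blockRank p B = 1 := by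
  classical
  have hMp := isPModular_isPrime hM
  have hn := normal_of_sup_centralizer hG
  have h1 := card_fiber_eq_blockRank hM hP hG hB hD (trivIrr P)
  rw [← h1]
  apply le_antisymm
  · rw [Finite.card_le_one_iff_subsingleton]
    constructor
    intro θ θ'
    by_contra hne
    have hne' : (θ : IrrCharacter G) ≠ (θ' : IrrCharacter G) := fun h => hne (Subtype.ext h)
    have hker' := trivial_on_of_pcConst_eq hG θ'.2.2
    obtain ⟨h0, _⟩ := height_zero_of_trivial_on_defectGroup hM hB hD θ'.2.1 hker'
    have h2 := contrib_not_memLocalIdeal hM hB θ'.2.1 h0 θ.2.1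
    rw [mreg_eq_zero_of_sup_centralizer hM hP hG hB hD θ.2.1 θ'.2.1 hne'
      (θ.2.2.trans θ'.2.2.symm), mul_zero, zero_div] at h2
    exact h2 (memLocalIdeal_zero hMp.ne_top)
  · obtain ⟨θ, hθ, hker⟩ := exists_mem_block_ker hM P hP hB
    have : Nonempty {χ : IrrCharacter G // χ ∈ B ∧ pcConst hG χ = trivIrr P} :=
      ⟨⟨θ, hθ, pcConst_eq_trivIrr hG hker⟩⟩
    exact Nat.succ_le_of_lt Nat.card_pos

end

end Cfsg.Agent.Lib.Helper8
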