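import Mathlib
import Cfsg.Prelude.Def_Blocks
import Cfsg.Prelude.Def_BlockRank
import Cfsg.Agent.Lib.Helper8.PC8
import Cfsg.Agent.Lib.Helper1.CharFound4

/-!
# Blocks of `G = P C_G(P)` with defect group `P`: the bijection with `Irr(P)`
-/

set_option autoImplicit false

namespace Cfsg.Agent.Lib.Helper8

open Cfsg
open scoped ComplexConjugate
open Cfsg.Agent.Lib.Helper1 Cfsg.Agent.Lib.Helper4

universe u

section

variable {G : Type u} [Group G] [Fintype G] {M : Ideal AlgInt} {p : ℕ} [Fact p.Prime]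
  {P : Subgroup G}

/-- Each fibre of the constituent map on `B` is a singleton. -/
theorem card_fiber_eq_one (hM : IsPModular p M) (hP : IsPGroup p P)
    (hG : P ⊔ Subgroup.centralizer (P : Set G) = ⊤) {B : Set (IrrCharacter G)}
    (hB : IsPBlock M B) (hD : IsDefectGroup p M B P) (ζ : IrrCharacter P) :
    Nat.card {χ : IrrCharacter G // χ ∈ B ∧ pcConst hG χ = ζ} = 1 := by
  rw [card_fiber_eq_blockRank hM hP hG hB hD ζ,
    blockRank_eq_one_of_sup_centralizer hM hP hG hB hD]

/-- **The constituent map `B → Irr(P)` is bijective.** -/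
theorem pcConst_bijective (hM : IsPModular p M) (hP : IsPGroup p P)
    (hG : P ⊔ Subgroup.centralizer (P : Set G) = ⊤) {B : Set (IrrCharacter G)}
    (hB : IsPBlock M B) (hD : IsDefectGroup p M B P) :
    Function.Bijective (fun χ : B => pcConst hG (χ : IrrCharacter G)) := by
  constructor
  · intro χ χ' h
    have h1 := card_fiber_eq_one hM hP hG hB hD (pcConst hG (χ' : IrrCharacter G))
    have h2 : Subsingleton {χ₁ : IrrCharacter G // χ₁ ∈ B ∧
        pcConst hG χ₁ = pcConst hG (χ' : IrrCharacter G)} :=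
      Finite.card_le_one_iff_subsingleton.1 h1.le
    have h3 := h2.elim ⟨(χ : IrrCharacter G), χ.2, h⟩ ⟨(χ' : IrrCharacter G), χ'.2, rfl⟩
    exact Subtype.ext (Subtype.mk.inj h3)
  · intro ζ
    have h1 := card_fiber_eq_one hM hP hG hB hD ζ
    have h2 : Nonempty {χ₁ : IrrCharacter G // χ₁ ∈ B ∧ pcConst hG χ₁ = ζ} := by
      apply Nat.card_pos_iff.1 _ |>.1
      rw [h1]
      exact Nat.one_pos
    obtain ⟨χ, hχB, hχ⟩ := h2
    exact ⟨⟨χ, hχB⟩, hχ⟩

/-- **`|B| = k(P)`.** -/
theorem card_block_eq_card_conjClasses (hM : IsPModular p M) (hP : IsPGroup p P)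
    (hG : P ⊔ Subgroup.centralizer (P : Set G) = ⊤) {B : Set (IrrCharacter G)}
    (hB : IsPBlock M B) (hD : IsDefectGroup p M B P) :
    Nat.card B = Nat.card (ConjClasses P) := by
  rw [← card_irr_eq_card_conjClasses]
  exact Nat.card_congr (Equiv.ofBijective _ (pcConst_bijective hM hP hG hB hD))

/-- **Uniqueness of the canonical character.** -/
theorem existsUnique_trivial_on (hM : IsPModular p M) (hP : IsPGroup p P)
    (hG : P ⊔ Subgroup.centralizer (P : Set G) = ⊤) {B : Set (IrrCharacter G)}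
    (hB : IsPBlock M B) (hD : IsDefectGroup p M B P) :
    ∃! θ : IrrCharacter G, θ ∈ B ∧ ∀ x ∈ P, (θ : G → ℂ) x = (θ : G → ℂ) 1 := by
  have hn := normal_of_sup_centralizer hG
  obtain ⟨θ, hθ, hker⟩ := exists_mem_block_ker hM P hP hB
  refine ⟨θ, ⟨hθ, hker⟩, ?_⟩
  rintro θ' ⟨hθ', hker'⟩
  have hinj := (pcConst_bijective hM hP hG hB hD).1
  have h1 : (⟨θ', hθ'⟩ : B) = ⟨θ, hθ⟩ := by
    apply hinj
    show pcConst hG θ' = pcConst hG θ
    rw [pcConst_eq_trivIrr hG hker, pcConst_eq_trivIrr hG hker']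
  exact congrArg Subtype.val h1

end

end Cfsg.Agent.Lib.Helper8
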