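import Mathlib
import Cfsg.Prelude.Def_Blocks
import Cfsg.Prelude.Def_BlockRank
import Cfsg.Agent.Lib.Helper8.PC9

/-!
# Blocks of `G = P C_G(P)` with defect group `P`: the values of the members
-/

set_option autoImplicit false

namespace Cfsg.Agent.Lib.Helper8

open Cfsg
open scoped ComplexConjugate
open Cfsg.Agent.Lib.Helper1 Cfsg.Agent.Lib.Helper4

universe u

section

variable {G : Type u} [Group G] [Fintype G] {M : Ideal AlgInt} {p : ℕ} [Fact p.Prime]
  {P : Subgroup G}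

omit [Fintype G] in
theorem not_dvd_orderOf_one : ¬ p ∣ orderOf (1 : G) := by
  have hp : p.Prime := Fact.out
  rw [orderOf_one]
  exact fun h => hp.one_lt.ne' (Nat.dvd_one.1 h)

omit [Fintype G] in
/-- In a block of rank one, the members are proportional on the `p`-regular elements. -/
theorem exists_smul_pRegularPart_of_blockRank_one {B : Set (IrrCharacter G)}
    (hl : blockRank p B = 1) {χ θ : IrrCharacter G} (hχ : χ ∈ B) (hθ : θ ∈ B) :
    ∃ c : ℂ, ∀ x : G, ¬ p ∣ orderOf x → (θ : G → ℂ) x = c * (χ : G → ℂ) x := by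
  rw [blockRank_eq_finrank_regSpan] at hl
  have hχmem : pRegularPart p (χ : G → ℂ) ∈ regSpan p B := Submodule.subset_span ⟨χ, hχ, rfl⟩
  have hθmem : pRegularPart p (θ : G → ℂ) ∈ regSpan p B := Submodule.subset_span ⟨θ, hθ, rfl⟩
  have hnz : (⟨pRegularPart p (χ : G → ℂ), hχmem⟩ : regSpan p B) ≠ 0 := by
    intro h
    have h1 := congrArg (fun v : regSpan p B => (v : G → ℂ) 1) h
    simp only [ZeroMemClass.coe_zero, Pi.zero_apply] at h1
    rw [pRegularPart_of_not_dvd _ not_dvd_orderOf_one] at h1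
    exact irr_apply_one_ne_zero χ.2 h1
  obtain ⟨c, hc⟩ := (finrank_eq_one_iff_of_nonzero' _ hnz).1 hl ⟨pRegularPart p (θ : G → ℂ), hθmem⟩
  refine ⟨c, fun x hx => ?_⟩
  have h2 := congrArg (fun v : regSpan p B => (v : G → ℂ) x) hc
  simp only [SetLike.val_smul, Pi.smul_apply, smul_eq_mul] at h2
  rw [pRegularPart_of_not_dvd _ hx, pRegularPart_of_not_dvd _ hx] at h2
  exact h2.symm

/-- **Values of the members of `B`**: with `χ ∈ B` the canonical character (trivial on `P`),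
every `θ ∈ B` satisfies `θ (y x) = ζ y * χ x` for `y ∈ P`, `x` `p`-regular, where `ζ` is the
constituent of `θ` on `P`. -/
theorem apply_mul_of_mem_block (hM : IsPModular p M) (hP : IsPGroup p P)
    (hG : P ⊔ Subgroup.centralizer (P : Set G) = ⊤) {B : Set (IrrCharacter G)}
    (hB : IsPBlock M B) (hD : IsDefectGroup p M B P) {χ θ : IrrCharacter G} (hχ : χ ∈ B)
    (hker : ∀ u ∈ P, (χ : G → ℂ) u = (χ : G → ℂ) 1) (hθ : θ ∈ B) (y : P) {x : G}
    (hx : ¬ p ∣ orderOf x) :
    (θ : G → ℂ) ((y : G) * x) = (pcConst hG θ : P → ℂ) y * (χ : G → ℂ) x := by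
  classical
  have hp : p.Prime := Fact.out
  have hl := blockRank_eq_one_of_sup_centralizer hM hP hG hB hD
  obtain ⟨c, hc⟩ := exists_smul_pRegularPart_of_blockRank_one hl hχ hθ
  have hxC := mem_centralizer_of_pRegular hp hP hG hx
  have hθ1 := irr_apply_one_ne_zero θ.2
  have hχ1 := irr_apply_one_ne_zero χ.2
  have hζ1 := irr_apply_one_ne_zero (pcConst hG θ).2
  have hG0 : (Nat.card G : ℂ) ≠ 0 := Nat.cast_ne_zero.2 Nat.card_pos.ne'
  have hP0 : (Nat.card P : ℂ) ≠ 0 := Nat.cast_ne_zero.2 Nat.card_pos.ne'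
  -- the constant
  have hc1 : (θ : G → ℂ) 1 = c * (χ : G → ℂ) 1 := hc 1 not_dvd_orderOf_one
  -- norms
  have hn1 := mreg_self_of_sup_centralizer hM hP hG hB hD hθ
  have hn2 := mreg_self_of_sup_centralizer hM hP hG hB hD hχ
  rw [pcConst_eq_trivIrr hG hker, trivIrr_apply, one_mul] at hn2
  have hn3 : mreg p (θ : G → ℂ) (θ : G → ℂ) = c * conj c * mreg p (χ : G → ℂ) (χ : G → ℂ) := by
    have hsum : (∑ s : G, if p ∣ orderOf s then (0 : ℂ) else
        (θ : G → ℂ) s * conj ((θ : G → ℂ) s)) =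
        c * conj c * ∑ s : G, if p ∣ orderOf s then (0 : ℂ) else
          (χ : G → ℂ) s * conj ((χ : G → ℂ) s) := by
      rw [Finset.mul_sum]
      refine Finset.sum_congr rfl fun s _ => ?_
      by_cases hs : p ∣ orderOf s
      · rw [if_pos hs, if_pos hs, mul_zero]
      · rw [if_neg hs, if_neg hs, hc s hs, map_mul]
        ring
    rw [mreg_eq_sum_ite, mreg_eq_sum_ite, hsum]
    ring
  -- `c` is a nonnegative real with `c² = ζ(1)²`
  obtain ⟨dθ, hdθ⟩ := irr_apply_one_eq_charDegree θ.2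
  obtain ⟨dχ, hdχ⟩ := irr_apply_one_eq_charDegree χ.2
  obtain ⟨dζ, hdζ⟩ := irr_apply_one_eq_charDegree (pcConst hG θ).2
  have hcval : c = ((charDegree (θ : G → ℂ) : ℝ) / (charDegree (χ : G → ℂ) : ℝ) : ℝ) := by
    push_cast
    rw [← dθ, ← dχ, eq_div_iff hχ1]
    exact hc1.symm
  set r : ℝ := (charDegree (θ : G → ℂ) : ℝ) / (charDegree (χ : G → ℂ) : ℝ) with hr
  have hr0 : 0 ≤ r := by positivity
  have hcc : c * conj c = ((r * r : ℝ) : ℂ) := by
    rw [hcval, Complex.conj_ofReal]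
    push_cast
    ring
  have hsq : r * r = (charDegree ((pcConst hG θ : IrrCharacter P) : P → ℂ) : ℝ) *
      (charDegree ((pcConst hG θ : IrrCharacter P) : P → ℂ) : ℝ) := by
    have h4 : ((r * r : ℝ) : ℂ) = (pcConst hG θ : P → ℂ) 1 * (pcConst hG θ : P → ℂ) 1 := by
      rw [← hcc]
      rw [hn1, hn2, hcc] at hn3
      rw [← hcc] at hn3
      field_simp at hn3
      rw [← hn3]
      ring
    rw [dζ] at h4
    exact_mod_cast h4
  have hreq : r = (charDegree ((pcConst hG θ : IrrCharacter P) : P → ℂ) : ℝ) := by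
    have h5 : (0 : ℝ) ≤ (charDegree ((pcConst hG θ : IrrCharacter P) : P → ℂ) : ℝ) := by
      positivity
    nlinarith [sq_nonneg (r - (charDegree ((pcConst hG θ : IrrCharacter P) : P → ℂ) : ℝ)),
      sq_nonneg (r + (charDegree ((pcConst hG θ : IrrCharacter P) : P → ℂ) : ℝ))]
  have hcζ : c = (pcConst hG θ : P → ℂ) 1 := by
    rw [hcval, hreq, dζ]
    norm_cast
  rw [irr_mul_of_sup_centralizer hG θ.2 y.2 hxC, pcConst_spec hG θ y, hc x hx, hcζ]
  field_simp

end

end Cfsg.Agent.Lib.Helper8
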