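import Mathlib
import Cfsg.Prelude.Def_Blocks
import Cfsg.Agent.Lib.Helper8.Cover2
import Cfsg.Agent.Lib.Helper2.CliffordDeg

/-!
# Covering blocks: existence, and uniqueness for normal subgroups of `p`-power index
-/

set_option autoImplicit false

namespace Cfsg.Agent.Lib.Helper8

open Cfsg
open scoped ComplexConjugate
open Cfsg.Agent.Lib.Helper1 Cfsg.Agent.Lib.Helper4

universe u

section

variable {G : Type u} [Group G] [Fintype G] (N : Subgroup G) [hN : N.Normal] [Fintype N]
  {M : Ideal AlgInt} {p : ℕ}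

omit [Fintype G] [Fintype N] in
/-- Elements outside a normal subgroup of `p`-power index are `p`-singular. -/
theorem dvd_orderOf_of_not_mem [Finite G] (hp : p.Prime) (hidx : ∃ k : ℕ, N.index = p ^ k)
    {g : G} (hg : g ∉ N) : p ∣ orderOf g := by
  obtain ⟨k, hk⟩ := hidx
  have h1 : orderOf (QuotientGroup.mk' N g) ∣ orderOf g := orderOf_map_dvd _ g
  have h2 : orderOf (QuotientGroup.mk' N g) ∣ p ^ k := by
    rw [← hk, Subgroup.index_eq_card]
    exact orderOf_dvd_natCard _
  obtain ⟨j, -, hj⟩ := (Nat.dvd_prime_pow hp).1 h2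
  have hj0 : j ≠ 0 := by
    rintro rfl
    rw [pow_zero, orderOf_eq_one_iff] at hj
    apply hg
    exact (QuotientGroup.eq_one_iff g).1 hj
  exact (dvd_pow_self p hj0).trans (hj ▸ h1)

/-- Every block of a normal subgroup is covered by some block. -/
theorem exists_covers (hM : M.IsPrime) {b : Set (IrrCharacter N)} (hb : IsPBlock M b) :
    ∃ B : Set (IrrCharacter G), IsPBlock M B ∧ Covers N B b := by
  obtain ⟨θ, hθ⟩ := isPBlock_nonempty hM hb
  obtain ⟨χ, hχ, hχθ⟩ := Cfsg.Agent.Lib.Helper2.CliffordDeg.exists_irr_over (G := G) (N := N) θ.2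
  exact ⟨blockOf M χ, ⟨⟨χ, hχ⟩, rfl⟩, ⟨χ, hχ⟩, sameBlock_refl hM.ne_top _, θ, hθ, hχθ⟩

/-- If two blocks cover the same block of `N` and the idempotent of the first is supported on `N`,
they are equal. -/
theorem covers_unique_of_support (hM : M.IsPrime) {B B' : Set (IrrCharacter G)}
    (hB : IsPBlock M B) (hB' : IsPBlock M B') {b : Set (IrrCharacter N)} (hb : IsPBlock M b)
    (hcov : Covers N B b) (hcov' : Covers N B' b)
    (hsupp : ∀ g : G, g ∉ N → blockCoeff B g = 0) : B = B' := by
  classical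
  have : Fintype (ConjClasses G) := Fintype.ofFinite _
  obtain ⟨χ, hχ⟩ := isPBlock_nonempty hM hB
  obtain ⟨χ', hχ'⟩ := isPBlock_nonempty hM hB'
  obtain ⟨θ, hθ⟩ := isPBlock_nonempty hM hb
  obtain ⟨hcf, hS, hω⟩ := blockCoeff_spec hM hB
  have h1 : MemLocalIdeal M (omega (χ' : G → ℂ) (blockCoeff B) - omega (χ : G → ℂ) (blockCoeff B)) := by
    rw [omega_eq_sum_classes χ'.2 hcf, omega_eq_sum_classes χ.2 hcf, ← Finset.sum_sub_distrib]
    apply memLocalIdeal_sum hM
    intro c _
    rw [← mul_sub]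
    by_cases hc : Quotient.out c ∈ N
    · apply memLocalIdeal_mul_left hM (hS _)
      have c1 := covers_cong N hM hB' hb hcov' hχ' hθ ⟨_, hc⟩
      have c2 := covers_cong N hM hB hb hcov hχ hθ ⟨_, hc⟩
      exact cong_trans hM c1 (cong_symm c2)
    · rw [hsupp _ hc, zero_mul]
      exact memLocalIdeal_zero hM.ne_top
  rw [hω χ', hω χ, if_pos hχ] at h1
  have hχ'B : χ' ∈ B := by
    by_contra hne
    rw [if_neg hne, zero_sub] at h1
    have := memLocalIdeal_neg h1
    rw [neg_neg] at this
    exact not_memLocalIdeal_one hM this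
  rw [eq_blockOf_of_mem hM hB hχ'B, eq_blockOf_of_mem hM hB' hχ']

/-- **Navarro 9.6**: if `N` has `p`-power index, exactly one block of `G` covers a given block
of `N`. -/
theorem covers_unique_of_index (hM : IsPModular p M) (hidx : ∃ k : ℕ, N.index = p ^ k)
    {B B' : Set (IrrCharacter G)} (hB : IsPBlock M B) (hB' : IsPBlock M B')
    {b : Set (IrrCharacter N)} (hb : IsPBlock M b)
    (hcov : Covers N B b) (hcov' : Covers N B' b) : B = B' :=
  covers_unique_of_support N (isPModular_isPrime hM) hB hB' hb hcov hcov'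
    (fun _ hg => blockCoeff_eq_zero_of_dvd_orderOf hM hB
      (dvd_orderOf_of_not_mem N hM.1 hidx hg))

omit [Fintype G] [Fintype N] in
/-- The induced central character vanishes outside the normal subgroup. -/
theorem inducedCentralChar_of_not_mem (θ : N → ℂ) {g : G} (hg : g ∉ N) :
    inducedCentralChar N θ g = 0 := by
  unfold inducedCentralChar
  have : {h : N | IsConj g (h : G)} = ∅ := by
    ext h
    simp only [Set.mem_ofPred_eq, Set.mem_empty_iff_false, iff_false]
    intro hc
    obtain ⟨c, hc⟩ := isConj_iff.1 hc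
    apply hg
    have h1 : g = c⁻¹ * (h : G) * c⁻¹⁻¹ := by
      rw [← hc]
      group
    rw [h1]
    exact hN.conj_mem _ h.2 _
  rw [this]
  simp

/-- **Navarro 9.20**: for a normal `p`-subgroup `Q` and a normal subgroup `N ≥ C_G(Q)`, a block of
`G` covering the block `b` of `N` is induced from `b`. -/
theorem isInducedBlock_of_covers (hM : IsPModular p M) (Q : Subgroup G) [Q.Normal]
    (hQ : IsPGroup p Q) (hCN : Subgroup.centralizer (Q : Set G) ≤ N)
    {B : Set (IrrCharacter G)} (hB : IsPBlock M B) {b : Set (IrrCharacter N)} (hb : IsPBlock M b)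
    (hcov : Covers N B b) : IsInducedBlock M N b B := by
  have hMp := isPModular_isPrime hM
  refine ⟨hb, hB, ?_⟩
  intro ξ hξ χ hχ g
  by_cases hg : g ∈ N
  · exact cong_symm (covers_cong N hMp hB hb hcov hχ hξ ⟨g, hg⟩)
  · rw [inducedCentralChar_of_not_mem N _ hg, zero_sub]
    apply memLocalIdeal_neg
    exact memLocalIdeal_centralChar_of_not_mem_centralizer hM Q hQ χ (fun h => hg (hCN h))

end

end Cfsg.Agent.Lib.Helper8
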