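import Mathlib
import Cfsg.Prelude.Def_Blocks
import Cfsg.Prelude.Def_BlockRank
import Cfsg.Agent.Lib.Helper8.PC10
import Cfsg.Agent.Lib.Helper8.PairConj3
import Cfsg.Agent.Lib.Helper8.BlockExtFirstMain
import Cfsg.Agent.S0971
import Cfsg.Agent.S0917
import Cfsg.Agent.S0912

/-!
# Blocks with a normal defect group `P`: the blocks of `P C_G(P)` covered
-/

set_option autoImplicit false

namespace Cfsg.Agent.Lib.Helper8

open Cfsg
open scoped ComplexConjugate
open Cfsg.Agent.Lib.Helper1 Cfsg.Agent.Lib.Helper4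

universe u

section

variable {G : Type u} [Group G] (P : Subgroup G)

/-- Inside `L = P C_G(P)`, we have `L = P C_L(P)`. -/
theorem subgroupOf_sup_centralizer_eq_top :
    P.subgroupOf (P ⊔ Subgroup.centralizer (P : Set G)) ⊔
      Subgroup.centralizer ((P.subgroupOf (P ⊔ Subgroup.centralizer (P : Set G)) :
        Subgroup ↥(P ⊔ Subgroup.centralizer (P : Set G))) :
          Set ↥(P ⊔ Subgroup.centralizer (P : Set G))) = ⊤ := by
  rw [eq_top_iff]
  have h1 : (P ⊔ Subgroup.centralizer (P : Set G)).subgroupOf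
      (P ⊔ Subgroup.centralizer (P : Set G)) = ⊤ := Subgroup.subgroupOf_self _
  rw [← h1, Subgroup.subgroupOf_sup le_sup_left le_sup_right]
  apply sup_le_sup le_rfl
  intro c hc
  rw [Subgroup.mem_centralizer_iff]
  intro u hu
  apply Subtype.ext
  exact (Subgroup.mem_centralizer_iff.1 (Subgroup.mem_subgroupOf.1 hc)) u
    (Subgroup.mem_subgroupOf.1 hu)

theorem map_conj_eq_of_normal [hn : P.Normal] (x : G) :
    P.map (MulAut.conj x).toMonoidHom = P := by
  ext y
  constructor
  · rintro ⟨u, hu, rfl⟩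
    exact hn.conj_mem u hu x
  · intro hy
    refine ⟨x⁻¹ * y * x, ?_, ?_⟩
    · have := hn.conj_mem y hy x⁻¹
      simpa using this
    · simp [mul_assoc]

end

section

variable {G : Type u} [Group G] [Fintype G] {M : Ideal AlgInt} {p : ℕ} [Fact p.Prime]
  {P : Subgroup G}

/-- A block of `P C_G(P)` covered by a block `B` with normal defect group `P` induces `B` and has
defect group `P`. -/
theorem isDefectGroup_of_covered (hM : IsPModular p M) {B : Set (IrrCharacter G)}
    (hB : IsPBlock M B) [hn : P.Normal] (hD : IsDefectGroup p M B P)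
    [Fintype ↥(P ⊔ Subgroup.centralizer (P : Set G))]
    {b' : Set (IrrCharacter ↥(P ⊔ Subgroup.centralizer (P : Set G)))} (hb' : IsPBlock M b')
    {χ : IrrCharacter G} (hχ : χ ∈ B)
    {ξ : IrrCharacter ↥(P ⊔ Subgroup.centralizer (P : Set G))} (hξ : ξ ∈ b')
    (hcon : classInner (fun n : ↥(P ⊔ Subgroup.centralizer (P : Set G)) => (χ : G → ℂ) n)
      (ξ : ↥(P ⊔ Subgroup.centralizer (P : Set G)) → ℂ) ≠ 0) :
    IsInducedBlock M (P ⊔ Subgroup.centralizer (P : Set G)) b' B ∧
      IsDefectGroup p M b' (P.subgroupOf (P ⊔ Subgroup.centralizer (P : Set G))) := by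
  have hMp := isPModular_isPrime hM
  have hP := isPGroup_of_isDefectGroup hD
  have hind : IsInducedBlock M (P ⊔ Subgroup.centralizer (P : Set G)) b' B :=
    (Cfsg.Agent.S0971.result p M hM P hP b' hb').2 B hB ⟨χ, hχ, ξ, hξ, hcon⟩
  refine ⟨hind, ?_⟩
  obtain ⟨D', hD'⟩ := exists_isDefectGroup (p := p) hMp hb'
  obtain ⟨E, hE, hDE⟩ := Cfsg.Agent.S0917.result p M hM _ b' hb' B hB hind D' hD'
  obtain ⟨x, hx⟩ := exists_conj_eq_of_isDefectGroup hM hB hE hD
  rw [map_conj_eq_of_normal] at hx
  subst hx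
  have h1 : D' ≤ P.subgroupOf (P ⊔ Subgroup.centralizer (P : Set G)) := by
    intro d hd
    rw [Subgroup.mem_subgroupOf]
    exact hDE ⟨d, hd, rfl⟩
  have h2 := Cfsg.Agent.S0912.result p M hM b' hb' D' hD'
  have h3 : P.subgroupOf (P ⊔ Subgroup.centralizer (P : Set G)) ≤
      pCore p ↥(P ⊔ Subgroup.centralizer (P : Set G)) := by
    apply le_sSup
    exact ⟨inferInstance, hP.comap_subtype⟩
  have h4 : D' = P.subgroupOf (P ⊔ Subgroup.centralizer (P : Set G)) :=
    le_antisymm h1 (h3.trans h2)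
  rw [← h4]
  exact hD'

end

section

variable {G : Type u} [Group G] [Fintype G] {M : Ideal AlgInt} {p : ℕ} [Fact p.Prime]
  {P : Subgroup G}

/-- Degrees in a block of `G = P C_G(P)` with defect group `P`: `θ(1) = ζ_θ(1) χ(1)` for the
canonical character `χ`. -/
theorem charDegree_eq_mul_of_sup_centralizer (hM : IsPModular p M) (hP : IsPGroup p P)
    (hG : P ⊔ Subgroup.centralizer (P : Set G) = ⊤) {B : Set (IrrCharacter G)}
    (hB : IsPBlock M B) (hD : IsDefectGroup p M B P) {χ θ : IrrCharacter G} (hχ : χ ∈ B)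
    (hker : ∀ u ∈ P, (χ : G → ℂ) u = (χ : G → ℂ) 1) (hθ : θ ∈ B) :
    charDegree (θ : G → ℂ) = charDegree (pcConst hG θ : P → ℂ) * charDegree (χ : G → ℂ) := by
  have h1 := apply_mul_of_mem_block hM hP hG hB hD hχ hker hθ 1 (x := 1) not_dvd_orderOf_one
  rw [OneMemClass.coe_one, mul_one, (irr_apply_one_eq_charDegree θ.2).1,
    (irr_apply_one_eq_charDegree χ.2).1, (irr_apply_one_eq_charDegree (pcConst hG θ).2).1] at h1
  exact_mod_cast h1

/-- The `p`-part of the degree of a member of a block of `G = P C_G(P)` with defect group `P`. -/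
theorem factorization_charDegree_of_sup_centralizer (hM : IsPModular p M) (hP : IsPGroup p P)
    (hG : P ⊔ Subgroup.centralizer (P : Set G) = ⊤) {B : Set (IrrCharacter G)}
    (hB : IsPBlock M B) (hD : IsDefectGroup p M B P) {θ : IrrCharacter G} (hθ : θ ∈ B) :
    (charDegree (θ : G → ℂ)).factorization p =
      (charDegree (pcConst hG θ : P → ℂ)).factorization p + P.index.factorization p := by
  have hn := normal_of_sup_centralizer hG
  obtain ⟨χ, hχ, hker⟩ := exists_mem_block_ker hM P hP hB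
  obtain ⟨_, h2⟩ := height_zero_of_trivial_on_defectGroup hM hB hD hχ hker
  rw [charDegree_eq_mul_of_sup_centralizer hM hP hG hB hD hχ hker hθ,
    Nat.factorization_mul (irr_apply_one_eq_charDegree (pcConst hG θ).2).2.ne'
      (irr_apply_one_eq_charDegree χ.2).2.ne', Finsupp.add_apply, h2]

end

end Cfsg.Agent.Lib.Helper8
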