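import Mathlib
import Cfsg.Prelude.Def_Blocks
import Cfsg.Agent.Lib.Helper8.PC6
import Cfsg.Agent.Lib.Helper1.CharFound4

/-!
# A finite group is abelian iff all its irreducible characters are linear
-/

set_option autoImplicit false

namespace Cfsg.Agent.Lib.Helper8

open Cfsg
open scoped ComplexConjugate
open Cfsg.Agent.Lib.Helper1 Cfsg.Agent.Lib.Helper4

universe u

section

variable (H : Type u) [Group H] [Fintype H]

theorem charDegree_eq_one_of_comm (hc : ∀ a b : H, a * b = b * a) (ζ : IrrCharacter H) :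
    charDegree (ζ : H → ℂ) = 1 := by
  classical
  have : Fintype (IrrCharacter H) := Fintype.ofFinite _
  have hcomm : IsMulCommutative H := ⟨⟨hc⟩⟩
  have h1 : commProb H = 1 := commProb_eq_one_iff.2 hcomm
  rw [commProb_def'] at h1
  have hH0 : (Nat.card H : ℚ) ≠ 0 := Nat.cast_ne_zero.2 Nat.card_pos.ne'
  rw [div_eq_one_iff_eq hH0] at h1
  have h2 : Nat.card (ConjClasses H) = Nat.card H := by exact_mod_cast h1
  rw [← card_irr_eq_card_conjClasses] at h2
  have h3 := sum_charDegree_sq H
  have h4 : ∑ _ζ : IrrCharacter H, 1 = ∑ ζ : IrrCharacter H, charDegree (ζ : H → ℂ) ^ 2 := by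
    rw [h3, ← h2, Finset.sum_const, Finset.card_univ, Nat.card_eq_fintype_card, smul_eq_mul,
      mul_one]
  have h5 : ∀ ζ ∈ (Finset.univ : Finset (IrrCharacter H)), 1 ≤ charDegree (ζ : H → ℂ) ^ 2 :=
    fun ζ _ => Nat.one_le_pow _ _ (irr_apply_one_eq_charDegree ζ.2).2
  have h6 := (Finset.sum_eq_sum_iff_of_le h5).1 h4 ζ (Finset.mem_univ _)
  have h7 : charDegree (ζ : H → ℂ) ^ 2 = 1 ^ 2 := by rw [← h6, one_pow]
  exact Nat.pow_left_injective (by norm_num : 2 ≠ 0) h7

theorem comm_of_charDegree_eq_one (h : ∀ ζ : IrrCharacter H, charDegree (ζ : H → ℂ) = 1)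
    (a b : H) : a * b = b * a := by
  classical
  have : Fintype (IrrCharacter H) := Fintype.ofFinite _
  have h3 := sum_charDegree_sq H
  have h4 : Nat.card (IrrCharacter H) = Nat.card H := by
    rw [← h3, Finset.sum_congr rfl fun ζ _ => by rw [h ζ, one_pow], Finset.sum_const,
      Finset.card_univ, Nat.card_eq_fintype_card, smul_eq_mul, mul_one]
  rw [card_irr_eq_card_conjClasses] at h4
  have h1 : commProb H = 1 := by
    rw [commProb_def', h4]
    exact div_self (Nat.cast_ne_zero.2 Nat.card_pos.ne')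
  have hcomm : IsMulCommutative H := commProb_eq_one_iff.1 h1
  exact hcomm.is_comm.comm a b

end

end Cfsg.Agent.Lib.Helper8
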