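import Mathlib
import Cfsg.Prelude.Def_Blocks
import Cfsg.Prelude.Def_BlockRank
import Cfsg.Agent.Lib.Helper8.Rey2
import Cfsg.Agent.Lib.Helper8.Rey3
import Cfsg.Agent.Lib.Helper8.LinearCount

/-!
# Blocks whose defect group is generated by an involution: the block of the centralizer
-/

set_option autoImplicit false

namespace Cfsg.Agent.Lib.Helper8

open Cfsg
open scoped ComplexConjugate
open Cfsg.Agent.Lib.Helper1 Cfsg.Agent.Lib.Helper4

universe u

section

variable {G : Type u} [Group G]

theorem mem_zpowers_of_orderOf_two {x : G} (hx : orderOf x = 2) {y : G}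
    (hy : y ∈ Subgroup.zpowers x) : y = 1 ∨ y = x := by
  obtain ⟨k, rfl⟩ := hy
  beta_reduce
  rw [← zpow_mod_orderOf, hx]
  have h1 : (0 : ℤ) ≤ k % ((2 : ℕ) : ℤ) := Int.emod_nonneg _ (by norm_num)
  have h2 : k % ((2 : ℕ) : ℤ) < 2 := Int.emod_lt_of_pos _ (by norm_num)
  have h3 : k % ((2 : ℕ) : ℤ) = 0 ∨ k % ((2 : ℕ) : ℤ) = 1 := by omega
  rcases h3 with h | h
  · left
    rw [h, zpow_zero]
  · right
    rw [h, zpow_one]

theorem sq_eq_one_of_orderOf_two {x : G} (hx : orderOf x = 2) : x * x = 1 := by
  rw [← pow_two, ← hx, pow_orderOf_eq_one]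

theorem ne_one_of_orderOf_two {x : G} (hx : orderOf x = 2) : x ≠ 1 := by
  rintro rfl
  rw [orderOf_one] at hx
  omega

theorem zpowers_le_centralizer_singleton (x : G) :
    Subgroup.zpowers x ≤ Subgroup.centralizer ({x} : Set G) := by
  rw [Subgroup.zpowers_le, Subgroup.mem_centralizer_singleton_iff]

theorem centralizer_singleton_eq_sup (x : G) :
    Subgroup.centralizer ({x} : Set G) = Subgroup.zpowers x ⊔
      Subgroup.centralizer ((Subgroup.zpowers x : Subgroup G) : Set G) := by
  have hcent : Subgroup.centralizer ((Subgroup.zpowers x : Subgroup G) : Set G) =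
      Subgroup.centralizer ({x} : Set G) := by
    rw [Subgroup.zpowers_eq_closure, Subgroup.centralizer_closure]
  rw [hcent]
  exact (sup_eq_right.2 (zpowers_le_centralizer_singleton x)).symm

theorem normalizer_zpowers_le_centralizer {x : G} (hx : orderOf x = 2) :
    Subgroup.normalizer ((Subgroup.zpowers x : Subgroup G) : Set G) ≤
      Subgroup.centralizer ({x} : Set G) := by
  intro t ht
  rw [Subgroup.mem_centralizer_singleton_iff]
  have h1 := (Subgroup.mem_normalizer_iff.1 ht x).1 (Subgroup.mem_zpowers x)
  rcases mem_zpowers_of_orderOf_two hx h1 with h | h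
  · exfalso
    apply ne_one_of_orderOf_two hx
    have : x = t⁻¹ * (t * x * t⁻¹) * t := by group
    rw [this, h]
    group
  · calc t * x = (t * x * t⁻¹) * t := by group
      _ = x * t := by rw [h]

end

section

variable {G : Type u} [Group G] [Finite G] {M : Ideal AlgInt} {p : ℕ} [Fact p.Prime]

/-- The extended first main theorem, conjugacy part, for a subgroup equal to `P C_G(P)`. -/
theorem extFirstMain_conj' (hM : IsPModular p M) {B : Set (IrrCharacter G)} (hB : IsPBlock M B)
    {P : Subgroup G} (hBP : IsDefectGroup p M B P) (H : Subgroup G)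
    (hH : H = P ⊔ Subgroup.centralizer (P : Set G))
    {b b' : Set (IrrCharacter H)} (hind : IsInducedBlock M H b B)
    (hind' : IsInducedBlock M H b' B) :
    ∃ (x : G) (_ : x ∈ Subgroup.normalizer (P : Set G))
      (hx : x ∈ Subgroup.normalizer ((H : Subgroup G) : Set G)),
      b' = conjIrr H x hx '' b := by
  subst hH
  exact extFirstMain_conj hM hB hBP hind hind'

end

section

variable {G : Type u} [Group G] [Fintype G] {M : Ideal AlgInt}

/-- If the defect group of `B` is generated by an involution `x`, at most one block of `C_G(x)`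
induces `B`. -/
theorem inducing_block_unique_of_orderOf_two (hM : IsPModular 2 M) {x : G} (hx : orderOf x = 2)
    {B : Set (IrrCharacter G)} (hB : IsPBlock M B)
    (hBD : IsDefectGroup 2 M B (Subgroup.zpowers x))
    {b b' : Set (IrrCharacter ↥(Subgroup.centralizer ({x} : Set G)))}
    (hind : IsInducedBlock M (Subgroup.centralizer ({x} : Set G)) b B)
    (hind' : IsInducedBlock M (Subgroup.centralizer ({x} : Set G)) b' B) : b' = b := by
  obtain ⟨t, ht, htn, hb'⟩ := extFirstMain_conj' hM hB hBD _ (centralizer_singleton_eq_sup x)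
    hind hind'
  have htC := normalizer_zpowers_le_centralizer hx ht
  rw [hb']
  ext ξ
  constructor
  · rintro ⟨ξ₀, hξ₀, rfl⟩
    rw [conjIrr_of_mem _ t htC]
    exact hξ₀
  · intro hξ
    exact ⟨ξ, hξ, conjIrr_of_mem _ t htC ξ⟩

/-- A block of `C_G(x)` inducing a block with defect group `⟨x⟩`, `x` an involution, has defect
group `⟨x⟩`. -/
theorem isDefectGroup_of_induced_orderOf_two (hM : IsPModular 2 M) {x : G} (hx : orderOf x = 2)
    {B : Set (IrrCharacter G)} (hB : IsPBlock M B)
    (hBD : IsDefectGroup 2 M B (Subgroup.zpowers x))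
    {b : Set (IrrCharacter ↥(Subgroup.centralizer ({x} : Set G)))}
    (hind : IsInducedBlock M (Subgroup.centralizer ({x} : Set G)) b B) :
    IsDefectGroup 2 M b ((Subgroup.zpowers x).subgroupOf (Subgroup.centralizer ({x} : Set G))) := by
  have hMp := isPModular_isPrime hM
  have hb := hind.1
  have hP := isPGroup_of_isDefectGroup hBD
  obtain ⟨D', hD'⟩ := exists_isDefectGroup (p := 2) hMp hb
  obtain ⟨E, hE, hDE⟩ := Cfsg.Agent.S0917.result 2 M hM _ b hb B hB hind D' hD'
  have h2 := Cfsg.Agent.S0912.result 2 M hM b hb D' hD'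
  have hnorm : ((Subgroup.zpowers x).subgroupOf (Subgroup.centralizer ({x} : Set G))).Normal := by
    constructor
    intro u hu c
    rw [Subgroup.mem_subgroupOf] at hu ⊢
    have hc : (c : G) * x = x * (c : G) := Subgroup.mem_centralizer_singleton_iff.1 c.2
    rcases mem_zpowers_of_orderOf_two hx hu with h | h
    · have : ((c * u * c⁻¹ : ↥(Subgroup.centralizer ({x} : Set G))) : G) = 1 := by
        push_cast
        rw [h]
        group
      rw [this]
      exact Subgroup.one_mem _
    · have : ((c * u * c⁻¹ : ↥(Subgroup.centralizer ({x} : Set G))) : G) = x := by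
        push_cast
        rw [h, hc]
        group
      rw [this]
      exact Subgroup.mem_zpowers x
  have h3 : (Subgroup.zpowers x).subgroupOf (Subgroup.centralizer ({x} : Set G)) ≤
      pCore 2 ↥(Subgroup.centralizer ({x} : Set G)) := by
    apply le_sSup
    exact ⟨hnorm, hP.comap_subtype⟩
  have h4 : (Subgroup.zpowers x).subgroupOf (Subgroup.centralizer ({x} : Set G)) ≤ D' :=
    h3.trans h2
  have hcard : Nat.card D' ≤
      Nat.card ((Subgroup.zpowers x).subgroupOf (Subgroup.centralizer ({x} : Set G))) := by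
    have e1 : Nat.card ((Subgroup.zpowers x).subgroupOf (Subgroup.centralizer ({x} : Set G))) =
        Nat.card (Subgroup.zpowers x) :=
      Nat.card_congr (Subgroup.subgroupOfEquivOfLe (zpowers_le_centralizer_singleton x)).toEquiv
    rw [e1, card_of_isDefectGroup hM hB hBD, ← card_of_isDefectGroup hM hB hE,
      ← Subgroup.card_map_of_injective (Subgroup.subtype_injective _)]
    exact Subgroup.card_le_of_le hDE
  rw [Subgroup.eq_of_le_of_card_ge h4 hcard]
  exact hD'

end

end Cfsg.Agent.Lib.Helper8
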