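import Mathlib
import Cfsg.Prelude.Def_Blocks
import Cfsg.Prelude.Def_BlockRank
import Cfsg.Agent.Lib.Helper8.D1

/-!
# Groups with a central involution: blocks with defect group generated by it
-/

set_option autoImplicit false
set_option linter.unusedSectionVars false

namespace Cfsg.Agent.Lib.Helper8

open Cfsg
open scoped ComplexConjugate
open Cfsg.Agent.Lib.Helper1 Cfsg.Agent.Lib.Helper4

universe u

section

theorem card_conjClasses_of_comm (H : Type u) [Group H] [Finite H]
    (hc : ∀ a b : H, a * b = b * a) : Nat.card (ConjClasses H) = Nat.card H := by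
  have hcomm : IsMulCommutative H := ⟨⟨hc⟩⟩
  have h1 : commProb H = 1 := commProb_eq_one_iff.2 hcomm
  rw [commProb_def'] at h1
  have hH0 : (Nat.card H : ℚ) ≠ 0 := Nat.cast_ne_zero.2 Nat.card_pos.ne'
  rw [div_eq_one_iff_eq hH0] at h1
  exact_mod_cast h1

end

section

variable {C : Type u} [Group C] [Fintype C] {z : C}

theorem zpowers_sup_centralizer_of_central (hzc : ∀ c : C, z * c = c * z) :
    Subgroup.zpowers z ⊔ Subgroup.centralizer ((Subgroup.zpowers z : Subgroup C) : Set C) = ⊤ := by
  have h1 : Subgroup.centralizer ((Subgroup.zpowers z : Subgroup C) : Set C) = ⊤ := by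
    rw [Subgroup.zpowers_eq_closure, Subgroup.centralizer_closure, eq_top_iff]
    intro c _
    rw [Subgroup.mem_centralizer_singleton_iff]
    exact (hzc c).symm
  rw [h1, sup_top_eq]

theorem zpowers_comm (a b : Subgroup.zpowers z) : a * b = b * a := by
  obtain ⟨a, ⟨k, rfl⟩⟩ := a
  obtain ⟨b, ⟨l, rfl⟩⟩ := b
  apply Subtype.ext
  show z ^ k * z ^ l = z ^ l * z ^ k
  rw [← zpow_add, ← zpow_add, add_comm]

/-- The sign of an irreducible character at a central involution. -/
noncomputable def centralSign (hzc : ∀ c : C, z * c = c * z) (ξ : IrrCharacter C) : ℂ :=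
  (pcConst (zpowers_sup_centralizer_of_central hzc) ξ : Subgroup.zpowers z → ℂ)
    ⟨z, Subgroup.mem_zpowers z⟩

theorem pcConst_apply_one (hzc : ∀ c : C, z * c = c * z) (ξ : IrrCharacter C) :
    (pcConst (zpowers_sup_centralizer_of_central hzc) ξ : Subgroup.zpowers z → ℂ) 1 = 1 := by
  have : Fintype (Subgroup.zpowers z) := Fintype.ofFinite _
  have h1 := charDegree_eq_one_of_comm _ zpowers_comm
    (pcConst (zpowers_sup_centralizer_of_central hzc) ξ)
  rw [(irr_apply_one_eq_charDegree (pcConst (zpowers_sup_centralizer_of_central hzc) ξ).2).1, h1,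
    Nat.cast_one]

theorem centralSign_sq (hz : orderOf z = 2) (hzc : ∀ c : C, z * c = c * z) (ξ : IrrCharacter C) :
    centralSign hzc ξ = 1 ∨ centralSign hzc ξ = -1 := by
  have h1 := pcConst_apply_one hzc ξ
  have h2 := linear_irr_mul (pcConst (zpowers_sup_centralizer_of_central hzc) ξ).2 h1
    ⟨z, Subgroup.mem_zpowers z⟩ ⟨z, Subgroup.mem_zpowers z⟩
  have h3 : (⟨z, Subgroup.mem_zpowers z⟩ : Subgroup.zpowers z) * ⟨z, Subgroup.mem_zpowers z⟩ = 1 := by
    apply Subtype.ext
    exact sq_eq_one_of_orderOf_two hz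
  rw [h3, h1] at h2
  have h4 : (centralSign hzc ξ - 1) * (centralSign hzc ξ + 1) = 0 := by
    unfold centralSign
    linear_combination -h2
  rcases mul_eq_zero.1 h4 with h | h
  · left
    exact sub_eq_zero.1 h
  · right
    exact eq_neg_of_add_eq_zero_left h

/-- Values at `z c` for a central involution `z`. -/
theorem irr_central_involution_mul (hzc : ∀ c : C, z * c = c * z) (ξ : IrrCharacter C) (c : C) :
    (ξ : C → ℂ) (z * c) = centralSign hzc ξ * (ξ : C → ℂ) c := by
  have hG := zpowers_sup_centralizer_of_central hzc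
  have hcC : c ∈ Subgroup.centralizer ((Subgroup.zpowers z : Subgroup C) : Set C) := by
    have h1 : Subgroup.centralizer ((Subgroup.zpowers z : Subgroup C) : Set C) = ⊤ := by
      rw [Subgroup.zpowers_eq_closure, Subgroup.centralizer_closure, eq_top_iff]
      intro c _
      rw [Subgroup.mem_centralizer_singleton_iff]
      exact (hzc c).symm
    rw [h1]
    exact Subgroup.mem_top c
  have h1 := irr_mul_of_sup_centralizer hG ξ.2 (Subgroup.mem_zpowers z) hcC
  have h2 := pcConst_spec hG ξ ⟨z, Subgroup.mem_zpowers z⟩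
  rw [pcConst_apply_one hzc ξ, div_one] at h2
  have hξ1 := irr_apply_one_ne_zero ξ.2
  rw [h1]
  unfold centralSign
  have h3 : (ξ : C → ℂ) z = (ξ : C → ℂ) 1 *
      (pcConst hG ξ : Subgroup.zpowers z → ℂ) ⟨z, Subgroup.mem_zpowers z⟩ := h2
  rw [h3]
  field_simp

variable {M : Ideal AlgInt}

/-- In a block with defect group `⟨z⟩`, all members agree with the canonical character on the
elements of odd order. -/
theorem apply_eq_canonical_of_central_involution (hM : IsPModular 2 M)
    (hzc : ∀ c : C, z * c = c * z)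
    {b : Set (IrrCharacter C)} (hb : IsPBlock M b)
    (hD : IsDefectGroup 2 M b (Subgroup.zpowers z)) {θ ξ : IrrCharacter C} (hθ : θ ∈ b)
    (hker : ∀ u ∈ Subgroup.zpowers z, (θ : C → ℂ) u = (θ : C → ℂ) 1) (hξ : ξ ∈ b) {y : C}
    (hy : ¬ 2 ∣ orderOf y) : (ξ : C → ℂ) y = (θ : C → ℂ) y := by
  have hG := zpowers_sup_centralizer_of_central hzc
  have hP : IsPGroup 2 (Subgroup.zpowers z) := isPGroup_of_isDefectGroup hD
  have h1 := apply_mul_of_mem_block hM hP hG hb hD hθ hker hξ 1 hy
  rw [pcConst_apply_one hzc ξ, one_mul, OneMemClass.coe_one, one_mul] at h1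
  exact h1

/-- A block with defect group generated by a central involution has two members. -/
theorem card_block_of_central_involution (hM : IsPModular 2 M)
    (hzc : ∀ c : C, z * c = c * z) (hz : orderOf z = 2)
    {b : Set (IrrCharacter C)} (hb : IsPBlock M b)
    (hD : IsDefectGroup 2 M b (Subgroup.zpowers z)) : Nat.card b = 2 := by
  have hG := zpowers_sup_centralizer_of_central hzc
  have hP : IsPGroup 2 (Subgroup.zpowers z) := isPGroup_of_isDefectGroup hD
  rw [card_block_eq_card_conjClasses hM hP hG hb hD, card_conjClasses_of_comm _ zpowers_comm,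
    Nat.card_zpowers, hz]

end

end Cfsg.Agent.Lib.Helper8
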