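import Mathlib
import Cfsg.Prelude.Def_Blocks
import Cfsg.Agent.Lib.Helper8.Cover1
import Cfsg.Agent.Lib.Helper8.Deflation
import Cfsg.Agent.Lib.Helper1.CharFound6
import Cfsg.Agent.S0148

/-!
# Clifford numerics for a normal subgroup

For `N ⊲ G`, `θ ∈ Irr N` with inertia group `I`, and `χ ∈ Irr G` over `θ` with multiplicity `e`:
`|I| χ(1) = e |G| θ(1)` and `|I| = |N| Σ_χ e_χ²`.
-/

set_option autoImplicit false

namespace Cfsg.Agent.Lib.Helper8

open Cfsg
open scoped ComplexConjugate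
open Cfsg.Agent.Lib.Helper1 Cfsg.Agent.Lib.Helper4

universe u

section

variable {G : Type u} [Group G] (N : Subgroup G) [hN : N.Normal]

/-- The inertia group of a function on a normal subgroup, with respect to `conjFn`. -/
def inertiaFn (θ : N → ℂ) : Subgroup G where
  carrier := {g | conjFn N θ g = θ}
  mul_mem' := by
    intro a b ha hb
    simp only [Set.mem_ofPred_eq] at *
    rw [conjFn_mul, ha, hb]
  one_mem' := conjFn_one N θ
  inv_mem' := by
    intro a ha
    simp only [Set.mem_ofPred_eq] at *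
    have h1 : conjFn N θ (a * a⁻¹) = θ := by rw [mul_inv_cancel, conjFn_one]
    rw [conjFn_mul, ha] at h1
    exact h1

theorem mem_inertiaFn {θ : N → ℂ} {g : G} : g ∈ inertiaFn N θ ↔ conjFn N θ g = θ := Iff.rfl

theorem le_inertiaFn {θ : N → ℂ} (hθ : IsClassFunction N θ) : N ≤ inertiaFn N θ := by
  intro n hn
  rw [mem_inertiaFn]
  funext h
  rw [conjFn_apply]
  have := hθ h ⟨n, hn⟩
  rw [← this]
  rfl

variable [Fintype G] [Fintype N]

/-- `Σ_g ⟨θ, θ^g⟩ = |I(θ)|`. -/
theorem sum_classInner_conjFn {θ : N → ℂ} (hθ : IsIrrCharacter N θ) :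
    ∑ g : G, classInner θ (conjFn N θ g) = (Nat.card (inertiaFn N θ) : ℂ) := by
  classical
  have h1 : ∀ g : G, classInner θ (conjFn N θ g) = if g ∈ inertiaFn N θ then 1 else 0 := by
    intro g
    split_ifs with hg
    · rw [(mem_inertiaFn N).1 hg, classInner_irr_self hθ]
    · exact classInner_irr_ne hθ (isIrrCharacter_conjFn N hθ g)
        (fun h => hg ((mem_inertiaFn N).2 h.symm))
  rw [Finset.sum_congr rfl fun g _ => h1 g, Finset.sum_boole, Nat.card_eq_fintype_card,
    Fintype.card_subtype]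

/-- `⟨Ind θ, Ind θ⟩ = |I(θ)| / |N|`. -/
theorem classInner_indFun_self {θ : N → ℂ} (hθ : IsIrrCharacter N θ) :
    classInner (indFun N θ) (indFun N θ) =
      (Nat.card N : ℂ)⁻¹ * (Nat.card (inertiaFn N θ) : ℂ) := by
  rw [classInner_indFun_normal, sum_classInner_conjFn N hθ]

omit [Fintype N] in
/-- `(Ind θ)(1) = |G| θ(1) / |N|`. -/
theorem indFun_normal_one (θ : N → ℂ) :
    indFun N θ 1 = (Nat.card N : ℂ)⁻¹ * ((Nat.card G : ℂ) * θ 1) := by
  have h1 := indFun_normal_apply N θ 1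
  rw [OneMemClass.coe_one] at h1
  rw [h1]
  congr 1
  have h2 : ∀ g : G, conjFn N θ g 1 = θ 1 := by
    intro g
    rw [conjFn_apply]
    congr 1
    apply Subtype.ext
    simp
  rw [Finset.sum_congr rfl fun g _ => h2 g, Finset.sum_const, Finset.card_univ, nsmul_eq_mul,
    Nat.card_eq_fintype_card]

/-- **Clifford degree formula**: `|I(θ)| χ(1) = e |G| θ(1)` for `χ` over `θ` with multiplicity
`e`. -/
theorem card_inertiaFn_mul_degree {χ : G → ℂ} (hχ : IsIrrCharacter G χ) {θ : N → ℂ}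
    (hθ : IsIrrCharacter N θ) (h : classInner (fun n : N => χ n) θ ≠ 0) :
    (Nat.card (inertiaFn N θ) : ℂ) * χ 1 =
      classInner (fun n : N => χ n) θ * (Nat.card G : ℂ) * θ 1 := by
  have hN0 : (Nat.card N : ℂ) ≠ 0 := Nat.cast_ne_zero.2 Nat.card_pos.ne'
  obtain ⟨c, hc, hres⟩ := restrict_eq_smul_indFun N hχ hθ h
  have h1 : classInner (fun n : N => χ n) θ =
      c * ((Nat.card N : ℂ)⁻¹ * (Nat.card (inertiaFn N θ) : ℂ)) := by
    rw [hres, classInner_smul_left, ← classInner_conj_symm,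
      ← Cfsg.Agent.S0146.result N θ _ (indFun_isClassFunction N θ), classInner_indFun_self N hθ,
      map_mul, map_inv₀, Complex.conj_natCast, Complex.conj_natCast]
  have h2 : χ 1 = c * ((Nat.card N : ℂ)⁻¹ * ((Nat.card G : ℂ) * θ 1)) := by
    have := congrFun hres 1
    simp only [Pi.smul_apply, smul_eq_mul, OneMemClass.coe_one] at this
    rw [this, indFun_normal_one]
  rw [h1, h2]
  ring

/-- `|I(θ)| = |N| Σ_χ ⟨χ_N, θ⟩²`. -/
theorem card_inertiaFn_eq_sum [Fintype (IrrCharacter G)] {θ : N → ℂ} (hθ : IsIrrCharacter N θ) :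
    (Nat.card (inertiaFn N θ) : ℂ) = (Nat.card N : ℂ) *
      ∑ χ : IrrCharacter G, classInner (fun n : N => (χ : G → ℂ) n) θ ^ 2 := by
  have hN0 : (Nat.card N : ℂ) ≠ 0 := Nat.cast_ne_zero.2 Nat.card_pos.ne'
  have h1 := classInner_eq_sum_mult (indFun N θ) (indFun N θ) (indFun_isClassFunction N θ)
  rw [classInner_indFun_self N hθ] at h1
  have h2 : ∀ χ : IrrCharacter G,
      classInner (indFun N θ) (χ : G → ℂ) * classInner (χ : G → ℂ) (indFun N θ) =
        classInner (fun n : N => (χ : G → ℂ) n) θ ^ 2 := by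
    intro χ
    obtain ⟨m, hm⟩ := classInner_char_irr_nat
      (Cfsg.Agent.S0148.isCharacter_restrict N (isCharacter_of_irr χ.2)) hθ
    have h3 : classInner (χ : G → ℂ) (indFun N θ) = m := by
      rw [← classInner_conj_symm, Cfsg.Agent.S0146.result N θ _ (isClassFunction_irr χ.2),
        classInner_conj_symm]
      exact hm
    have h4 : classInner (indFun N θ) (χ : G → ℂ) = m := by
      rw [← classInner_conj_symm, h3, Complex.conj_natCast]
    rw [h3, h4, hm]
    ring
  rw [Finset.sum_congr rfl fun χ _ => h2 χ] at h1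
  rw [← h1, ← mul_assoc, mul_inv_cancel₀ hN0, one_mul]

end

end Cfsg.Agent.Lib.Helper8
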