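import Mathlib
import Cfsg.Prelude.Def_Blocks
import Cfsg.Agent.Lib.Helper8.Rey1

/-!
# Clifford numerics, `p`-adic consequences
-/

set_option autoImplicit false

namespace Cfsg.Agent.Lib.Helper8

open Cfsg
open scoped ComplexConjugate
open Cfsg.Agent.Lib.Helper1 Cfsg.Agent.Lib.Helper4

universe u

section

variable {G : Type u} [Group G] [Fintype G] (N : Subgroup G) [hN : N.Normal] [Fintype N]

omit hN [Fintype G] in
/-- Multiplicities of irreducible constituents of restrictions are natural numbers. -/
theorem exists_nat_restrict_mult {χ : G → ℂ} (hχ : IsIrrCharacter G χ) {θ : N → ℂ}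
    (hθ : IsIrrCharacter N θ) : ∃ e : ℕ, classInner (fun n : N => χ n) θ = e :=
  classInner_char_irr_nat (Cfsg.Agent.S0148.isCharacter_restrict N (isCharacter_of_irr hχ)) hθ

/-- The Clifford degree formula in natural numbers. -/
theorem card_inertiaFn_mul_charDegree {χ : G → ℂ} (hχ : IsIrrCharacter G χ) {θ : N → ℂ}
    (hθ : IsIrrCharacter N θ) {e : ℕ} (he : classInner (fun n : N => χ n) θ = e) (he0 : e ≠ 0) :
    Nat.card (inertiaFn N θ) * charDegree χ = e * Nat.card G * charDegree θ := by
  have h0 : classInner (fun n : N => χ n) θ ≠ 0 := by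
    rw [he]
    exact Nat.cast_ne_zero.2 he0
  have h1 := card_inertiaFn_mul_degree N hχ hθ h0
  rw [he, (irr_apply_one_eq_charDegree hχ).1, (irr_apply_one_eq_charDegree hθ).1] at h1
  exact_mod_cast h1

/-- The inertia index as a sum of squares of multiplicities, in natural numbers. -/
theorem card_inertiaFn_eq_sum_nat [Fintype (IrrCharacter G)] {θ : N → ℂ}
    (hθ : IsIrrCharacter N θ) (e : IrrCharacter G → ℕ)
    (he : ∀ χ : IrrCharacter G, classInner (fun n : N => (χ : G → ℂ) n) θ = e χ) :
    Nat.card (inertiaFn N θ) = Nat.card N * ∑ χ : IrrCharacter G, e χ ^ 2 := by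
  have h1 := card_inertiaFn_eq_sum N hθ
  rw [Finset.sum_congr rfl fun χ _ => by rw [he χ]] at h1
  exact_mod_cast h1

variable {p : ℕ} [Fact p.Prime]

/-- If every irreducible character over `θ` has relative height zero, then `p` does not divide
the index of `N` in the inertia group of `θ`. -/
theorem factorization_card_inertiaFn_of_relative_height_zero {θ : N → ℂ}
    (hθ : IsIrrCharacter N θ)
    (h : ∀ χ : IrrCharacter G, classInner (fun n : N => (χ : G → ℂ) n) θ ≠ 0 →
      (charDegree (χ : G → ℂ)).factorization p + (Nat.card N).factorization p =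
        (Nat.card G).factorization p + (charDegree θ).factorization p) :
    (Nat.card (inertiaFn N θ)).factorization p = (Nat.card N).factorization p := by
  classical
  have hp : p.Prime := Fact.out
  have : Fintype (IrrCharacter G) := Fintype.ofFinite _
  have hex : ∀ χ : IrrCharacter G, ∃ e : ℕ,
      classInner (fun n : N => (χ : G → ℂ) n) θ = e := fun χ => exists_nat_restrict_mult N χ.2 hθ
  choose e he using hex
  have hsum := card_inertiaFn_eq_sum_nat N hθ e he
  set m := ∑ χ : IrrCharacter G, e χ ^ 2 with hm
  have hIpos : 0 < Nat.card (inertiaFn N θ) := Nat.card_pos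
  have hNpos : 0 < Nat.card N := Nat.card_pos
  have hm0 : m ≠ 0 := by
    rintro h0
    rw [h0, mul_zero] at hsum
    omega
  have hθpos := (irr_apply_one_eq_charDegree hθ).2
  have hfac : (Nat.card (inertiaFn N θ)).factorization p =
      (Nat.card N).factorization p + m.factorization p := by
    rw [hsum, Nat.factorization_mul hNpos.ne' hm0, Finsupp.add_apply]
  -- each nonzero multiplicity has valuation `ν(m)`
  have hval : ∀ χ : IrrCharacter G, e χ ≠ 0 → (e χ).factorization p = m.factorization p := by
    intro χ hχ0
    have h1 := card_inertiaFn_mul_charDegree N χ.2 hθ (he χ) hχ0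
    have h0 : classInner (fun n : N => (χ : G → ℂ) n) θ ≠ 0 := by
      rw [he χ]
      exact Nat.cast_ne_zero.2 hχ0
    have h2 := h χ h0
    have hχpos := (irr_apply_one_eq_charDegree χ.2).2
    have h3 := congrArg (fun n : ℕ => n.factorization p) h1
    beta_reduce at h3
    rw [Nat.factorization_mul hIpos.ne' hχpos.ne', Nat.factorization_mul
      (Nat.mul_ne_zero hχ0 Nat.card_pos.ne') hθpos.ne', Nat.factorization_mul hχ0
      Nat.card_pos.ne', Finsupp.add_apply, Finsupp.add_apply, Finsupp.add_apply] at h3
    omega
  -- so `p ^ (2 ν(m))` divides `m`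
  have hdvd : p ^ (2 * m.factorization p) ∣ m := by
    rw [hm]
    apply Finset.dvd_sum
    intro χ _
    by_cases hχ0 : e χ = 0
    · rw [hχ0]
      simp
    · rw [mul_comm, pow_mul]
      apply pow_dvd_pow_of_dvd
      rw [← hval χ hχ0]
      exact Nat.ordProj_dvd _ _
  have h4 := (hp.pow_dvd_iff_le_factorization hm0).1 hdvd
  omega

omit [Fact p.Prime] in
/-- If `p` does not divide the index of `N` in the inertia group of `ξ`, then every character
over `ξ` has relative height at least `ν(e)`. -/
theorem factorization_charDegree_of_inertiaFn {ξ : N → ℂ} (hξ : IsIrrCharacter N ξ)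
    (hI : (Nat.card (inertiaFn N ξ)).factorization p = (Nat.card N).factorization p)
    {χ : G → ℂ} (hχ : IsIrrCharacter G χ) (h : classInner (fun n : N => χ n) ξ ≠ 0) :
    (Nat.card G).factorization p + (charDegree ξ).factorization p ≤
      (charDegree χ).factorization p + (Nat.card N).factorization p := by
  obtain ⟨e, he⟩ := exists_nat_restrict_mult N hχ hξ
  have he0 : e ≠ 0 := by
    rintro rfl
    rw [he] at h
    exact h Nat.cast_zero
  have h1 := card_inertiaFn_mul_charDegree N hχ hξ he he0
  have hχpos := (irr_apply_one_eq_charDegree hχ).2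
  have hξpos := (irr_apply_one_eq_charDegree hξ).2
  have hIpos : 0 < Nat.card (inertiaFn N ξ) := Nat.card_pos
  have h3 := congrArg (fun n : ℕ => n.factorization p) h1
  beta_reduce at h3
  rw [Nat.factorization_mul hIpos.ne' hχpos.ne', Nat.factorization_mul
    (Nat.mul_ne_zero he0 Nat.card_pos.ne') hξpos.ne', Nat.factorization_mul he0
    Nat.card_pos.ne', Finsupp.add_apply, Finsupp.add_apply, Finsupp.add_apply] at h3
  omega

end

end Cfsg.Agent.Lib.Helper8
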