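import Mathlib
import Cfsg.Prelude.Def_Blocks
import Cfsg.Agent.Lib.Helper8.Sub3
import Cfsg.Agent.Lib.Helper3.Count

/-!
# Summation over the `p`-sections
-/

set_option autoImplicit false

namespace Cfsg.Agent.Lib.Helper8

open Cfsg
open scoped ComplexConjugate
open Cfsg.Agent.Lib.Helper1 Cfsg.Agent.Lib.Helper4

universe u

section

variable {G : Type u} [Group G] [Fintype G] {p : ℕ}

/-- Summing over the elements with `p`-part `x` is summing over the `p`-regular elements of the
centralizer of `x`. -/
theorem sum_isPPart_eq_sum_centralizer [DecidableEq G] (x : G) (hx : ∃ k : ℕ, orderOf x = p ^ k)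
    (C : Subgroup G) [Fintype C] (hC : ∀ t, t ∈ C ↔ t * x = x * t) (F : G → ℂ) :
    ∑ g : G, (by classical exact if IsPPart p g x then F g else 0) =
      ∑ c : C, if p ∣ orderOf c then 0 else F (x * (c : G)) := by
  classical
  have h0 : ∀ c : C, (if p ∣ orderOf c then (0 : ℂ) else F (x * (c : G))) =
      if ¬ p ∣ orderOf c then F (x * (c : G)) else 0 := by
    intro c
    split_ifs <;> rfl
  simp_rw [h0]
  rw [← Finset.sum_filter, ← Finset.sum_filter]
  symm
  apply Finset.sum_bij (fun (c : C) _ => x * (c : G))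
  · intro c hc
    rw [Finset.mem_filter] at hc ⊢
    refine ⟨Finset.mem_univ _, ?_⟩
    apply isPPart_mul_of_commute hx
    · rw [Subgroup.orderOf_coe]; exact hc.2
    · exact ((hC c).1 c.2).symm
  · intro c _ c' _ h
    exact Subtype.ext (mul_left_cancel h)
  · intro g hg
    rw [Finset.mem_filter] at hg
    obtain ⟨y, rfl, hxy, _, hy⟩ := hg.2
    have hyC : y ∈ C := (hC y).2 hxy.eq.symm
    refine ⟨⟨y, hyC⟩, ?_, rfl⟩
    rw [Finset.mem_filter]
    refine ⟨Finset.mem_univ _, ?_⟩
    rw [← Subgroup.orderOf_coe]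
    exact hy
  · intro c _
    rfl

/-- The sum of a class function over the elements whose `p`-part is conjugate to `x`. -/
theorem sum_section_eq (hp : p.Prime) (x : G) (F : G → ℂ) (hF : IsClassFunction G F)
    (π : G → G) (hπ : ∀ g, IsPPart p g (π g)) :
    (Nat.card (Subgroup.centralizer ({x} : Set G)) : ℂ) *
      ∑ g : G, (by classical exact if IsConj x (π g) then F g else 0) =
    (Nat.card G : ℂ) * ∑ g : G, (by classical exact if IsPPart p g x then F g else 0) := by
  classical
  -- count pairs `(t, g)` with `t x t⁻¹` the `p`-part of `g`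
  have h1 : ∀ g : G, (Nat.card (Subgroup.centralizer ({x} : Set G)) : ℂ) *
      (if IsConj x (π g) then F g else 0) =
      ∑ t : G, if IsPPart p g (t * x * t⁻¹) then F g else 0 := by
    intro g
    have h2 : ∀ t : G, IsPPart p g (t * x * t⁻¹) ↔ t * x * t⁻¹ = π g := by
      intro t
      constructor
      · intro h
        exact isPPart_unique hp h (hπ g)
      · intro h
        rw [h]
        exact hπ g
    simp_rw [h2]
    rw [Finset.sum_ite, Finset.sum_const, Finset.sum_const_zero, add_zero, nsmul_eq_mul]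
    by_cases hc : IsConj x (π g)
    · rw [if_pos hc]
      obtain ⟨g₀, hg₀⟩ := isConj_iff.1 hc
      have h3 := Cfsg.Agent.Lib.Helper3.card_conj_fibre' x (π g) g₀ hg₀
      have h4 : (Finset.univ.filter (fun t : G => t * x * t⁻¹ = π g)).card =
          Nat.card {t : G // t * x * t⁻¹ = π g} := (Nat.subtype_card _ (by simp)).symm
      rw [h4, h3]
    · rw [if_neg hc, mul_zero]
      have : Finset.univ.filter (fun t : G => t * x * t⁻¹ = π g) = ∅ := by
        apply Finset.filter_eq_empty_iff.2
        intro t _ ht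
        exact hc (isConj_iff.2 ⟨t, ht⟩)
      rw [this, Finset.card_empty, Nat.cast_zero, zero_mul]
  rw [Finset.mul_sum]
  simp_rw [h1]
  rw [Finset.sum_comm, Finset.mul_sum]
  have hG : (Nat.card G : ℂ) = ∑ _t : G, (1 : ℂ) := by
    rw [Finset.sum_const, Finset.card_univ, Nat.card_eq_fintype_card, nsmul_eq_mul, mul_one]
  have h5 : ∀ t : G, ∑ g : G, (if IsPPart p g (t * x * t⁻¹) then F g else 0) =
      ∑ g : G, if IsPPart p g x then F g else 0 := by
    intro t
    rw [← Equiv.sum_comp (MulAut.conj t).toEquiv]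
    refine Finset.sum_congr rfl fun g _ => ?_
    have h6 : IsPPart p ((MulAut.conj t).toEquiv g) (t * x * t⁻¹) ↔ IsPPart p g x := by
      show IsPPart p (t * g * t⁻¹) (t * x * t⁻¹) ↔ IsPPart p g x
      constructor
      · intro h
        have := isPPart_conj h t⁻¹
        have e1 : t⁻¹ * (t * g * t⁻¹) * t⁻¹⁻¹ = g := by group
        have e2 : t⁻¹ * (t * x * t⁻¹) * t⁻¹⁻¹ = x := by group
        rwa [e1, e2] at this
      · intro h
        exact isPPart_conj h t
    have h7 : F ((MulAut.conj t).toEquiv g) = F g := hF g t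
    rw [h7]
    by_cases h : IsPPart p g x
    · rw [if_pos h, if_pos (h6.2 h)]
    · rw [if_neg h, if_neg (fun h' => h (h6.1 h'))]
  simp_rw [h5]
  rw [Finset.sum_const, Finset.card_univ, nsmul_eq_mul, Nat.card_eq_fintype_card]
  rw [Finset.mul_sum]

end

end Cfsg.Agent.Lib.Helper8
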