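import Mathlib
import Cfsg.Prelude.Def_Blocks
import Cfsg.Prelude.Def_BlockRank
import Cfsg.Agent.Lib.Helper8.Sub9
import Cfsg.Agent.Lib.Helper8.BlockRank
import Cfsg.Agent.Lib.Helper4.Characters

/-!
# The norm of an irreducible character distributed over the `p`-sections
-/

set_option autoImplicit false

namespace Cfsg.Agent.Lib.Helper8

open Cfsg
open scoped ComplexConjugate
open Cfsg.Agent.Lib.Helper1 Cfsg.Agent.Lib.Helper4

universe u

section

variable {G : Type u} [Group G] [Fintype G] {p : ℕ}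

/-- The sum of a class function as a sum over the `p`-sections. -/
theorem sum_eq_sum_sections (hp : p.Prime) (X : Finset G)
    (hXrep : ∀ g : G, (∃ k : ℕ, orderOf g = p ^ k) → ∃! x, x ∈ X ∧ IsConj g x)
    (F : G → ℂ) (hF : IsClassFunction G F) :
    ∑ g : G, F g = ∑ x ∈ X, (Nat.card G : ℂ) *
      (Nat.card (Subgroup.centralizer ({x} : Set G)) : ℂ)⁻¹ *
        ∑ g : G, (by classical exact if IsPPart p g x then F g else 0) := by
  classical
  choose π hπ using fun g : G => exists_isPPart hp g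
  have hπp : ∀ g, ∃ k : ℕ, orderOf (π g) = p ^ k := by
    intro g
    obtain ⟨_, _, _, h, _⟩ := hπ g
    exact h
  have h1 : ∀ g : G, F g = ∑ x ∈ X, if IsConj x (π g) then F g else 0 := by
    intro g
    obtain ⟨x₀, ⟨hx₀X, hx₀⟩, huniq⟩ := hXrep (π g) (hπp g)
    rw [Finset.sum_eq_single x₀]
    · rw [if_pos hx₀.symm]
    · intro x hxX hne
      rw [if_neg]
      intro hcon
      exact hne (huniq x ⟨hxX, hcon.symm⟩)
    · intro h
      exact absurd hx₀X h
  conv_lhs => rw [Finset.sum_congr rfl fun g _ => h1 g]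
  rw [Finset.sum_comm]
  refine Finset.sum_congr rfl fun x _ => ?_
  have h2 := sum_section_eq hp x F hF π hπ
  have hC0 : (Nat.card (Subgroup.centralizer ({x} : Set G)) : ℂ) ≠ 0 :=
    Nat.cast_ne_zero.2 Nat.card_pos.ne'
  rw [mul_comm (Nat.card G : ℂ), mul_assoc, ← h2, ← mul_assoc, inv_mul_cancel₀ hC0, one_mul]

/-- **The norm of an irreducible character over the sections.** -/
theorem one_eq_sum_sections (hp : p.Prime) (X : Finset G)
    (hX : ∀ x ∈ X, ∃ k : ℕ, orderOf x = p ^ k)
    (hXrep : ∀ g : G, (∃ k : ℕ, orderOf g = p ^ k) → ∃! x, x ∈ X ∧ IsConj g x)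
    [∀ x : G, Fintype (Subgroup.centralizer ({x} : Set G))]
    (χ : IrrCharacter G) :
    (1 : ℝ) = ∑ x ∈ X, (Nat.card (Subgroup.centralizer ({x} : Set G)) : ℝ)⁻¹ *
      ∑ c : Subgroup.centralizer ({x} : Set G), Complex.normSq (pRegularPart p
        (fun c : Subgroup.centralizer ({x} : Set G) => (χ : G → ℂ) (x * (c : G))) c) := by
  classical
  have hG0 : (Nat.card G : ℂ) ≠ 0 := Nat.cast_ne_zero.2 Nat.card_pos.ne'
  have h1 := classInner_irr_self χ.2
  rw [classInner_def] at h1
  have hF : IsClassFunction G (fun g => (χ : G → ℂ) g * conj ((χ : G → ℂ) g)) := by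
    intro g h
    show (χ : G → ℂ) (h * g * h⁻¹) * conj ((χ : G → ℂ) (h * g * h⁻¹)) = _
    rw [isClassFunction_irr χ.2 g h]
  rw [sum_eq_sum_sections hp X hXrep _ hF, Finset.mul_sum] at h1
  have h2 : ((1 : ℝ) : ℂ) = ((∑ x ∈ X, (Nat.card (Subgroup.centralizer ({x} : Set G)) : ℝ)⁻¹ *
      ∑ c : Subgroup.centralizer ({x} : Set G), Complex.normSq (pRegularPart p
        (fun c : Subgroup.centralizer ({x} : Set G) => (χ : G → ℂ) (x * (c : G))) c) : ℝ) : ℂ) := by
    rw [Complex.ofReal_one, ← h1, Complex.ofReal_sum]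
    refine Finset.sum_congr rfl fun x hx => ?_
    have hC : ∀ t, t ∈ Subgroup.centralizer ({x} : Set G) ↔ t * x = x * t := by
      intro t
      rw [Subgroup.mem_centralizer_singleton_iff]
    rw [sum_isPPart_eq_sum_centralizer x (hX x hx) _ hC, ← mul_assoc, ← mul_assoc,
      inv_mul_cancel₀ hG0, one_mul, Complex.ofReal_mul, Complex.ofReal_inv, Complex.ofReal_natCast,
      Complex.ofReal_sum]
    congr 1
    refine Finset.sum_congr rfl fun c _ => ?_
    by_cases hc : p ∣ orderOf c
    · rw [if_pos hc, pRegularPart_of_dvd _ hc]; simp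
    · rw [if_neg hc, pRegularPart_of_not_dvd _ hc, Complex.mul_conj]
  exact_mod_cast h2

end

end Cfsg.Agent.Lib.Helper8
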