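import Mathlib
import Cfsg.Prelude.Def_Blocks
import Cfsg.Prelude.Def_BrauerPairs
import Cfsg.Agent.Lib.Helper8.SM6
import Cfsg.Agent.Lib.Helper8.BlockPairs
import Cfsg.Agent.Lib.Helper8.BlockFirstMain

/-!
# Second main theorem for sections; Brauer pairs on abelian subgroups induce
-/

set_option autoImplicit false

namespace Cfsg.Agent.Lib.Helper8

open Cfsg
open scoped ComplexConjugate
open Cfsg.Agent.Lib.Helper1 Cfsg.Agent.Lib.Helper4

universe u

section

variable {G : Type u} [Group G] [Fintype G] {M : Ideal AlgInt} {p : ℕ}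

/-- A Brauer pair `(Q, e)` of `B` with `Q ≤ C_G(Q)`: the block `e` induces `B`. -/
theorem isInducedBlock_of_isBrauerPairOf (hM : IsPModular p M) (Q : Subgroup G)
    (hQC : Q ≤ Subgroup.centralizer (Q : Set G)) {B : Set (IrrCharacter G)}
    {e : Set (IrrCharacter (Subgroup.centralizer (Q : Set G)))}
    (h : IsBrauerPairOf p M B Q e) : IsInducedBlock M (Subgroup.centralizer (Q : Set G)) e B := by
  classical
  have : Fintype (Subgroup.centralizer (Q : Set G)) := Fintype.ofFinite _
  have hMp := isPModular_isPrime hM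
  obtain ⟨⟨hP, ξ₀, rfl⟩, hB, hocc⟩ := h
  obtain ⟨χ, hχ⟩ := exists_irr_brauerLam hM Q (Subgroup.centralizer (Q : Set G)) hP le_rfl
    (Subgroup.centralizer_le_normalizer _) ξ₀.2
  have hind := isInducedBlock_of_brauerLam hM Q (Subgroup.centralizer (Q : Set G)) hP hQC
    (Subgroup.centralizer_le_normalizer _) ξ₀ χ hχ
  have hξ₀ : ξ₀ ∈ blockOf M (ξ₀ : Subgroup.centralizer (Q : Set G) → ℂ) :=
    sameBlock_refl hMp.ne_top _
  have hχB : χ ∈ B := by
    by_contra hχB
    obtain ⟨hcf, hS, hω⟩ := blockCoeff_spec hMp hB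
    have h2 := hχ (blockCoeff B) hcf hS
    rw [hω χ, ← brauerOmega_eq_brauerLam, if_neg hχB, sub_zero] at h2
    have h3 := hocc ξ₀ hξ₀
    have := memLocalIdeal_sub hMp h2 h3
    rw [sub_sub_cancel] at this
    exact not_memLocalIdeal_one hMp this
  rw [eq_blockOf_of_mem hMp hB hχB]
  exact hind

/-- **Second main theorem on sections**: if the block `e` of `C = C_G(u)` induces `B` and `χ ∉ B`,
the `e`-part of `c ↦ χ (u c)` vanishes on the `p`-regular elements. -/
theorem blockPart_section_eq_zero (hM : IsPModular p M) (C : Subgroup G) [Fintype C] {u : G}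
    (hC : ∀ t, t ∈ C ↔ t * u = u * t) (hu : ∃ k : ℕ, orderOf u = p ^ k)
    {e : Set (IrrCharacter C)} {B : Set (IrrCharacter G)} (hind : IsInducedBlock M C e B)
    {χ : IrrCharacter G} (hχ : χ ∉ B) {y : C} (hy : ¬ p ∣ orderOf y) :
    blockPart e (fun c : C => (χ : G → ℂ) (u * (c : G))) y = 0 := by
  classical
  have hMp := isPModular_isPrime hM
  have : Fact p.Prime := ⟨hM.1⟩
  have huC : u ∈ C := (hC u).2 rfl
  have hau : IsPPart p (u * (y : G)) u := by
    refine ⟨(y : G), rfl, ?_, hu, ?_⟩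
    · exact ((hC y).1 y.2).symm
    · rw [Subgroup.orderOf_coe]
      exact hy
  have hle : Subgroup.centralizer ({u} : Set G) ≤ C := by
    intro t ht
    rw [Subgroup.mem_centralizer_singleton_iff] at ht
    exact (hC t).2 ht
  have key := second_main_idempotent hM C hind (C.mul_mem huC y.2) hau hle hχ
  have hθ : IsClassFunction C (fun c : C => (χ : G → ℂ) (u * (c : G))) := by
    intro c t
    show (χ : G → ℂ) (u * ((t : G) * (c : G) * (t : G)⁻¹)) = (χ : G → ℂ) (u * (c : G))
    have h2 : (t : G) * u = u * (t : G) := (hC t).1 t.2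
    have : u * ((t : G) * (c : G) * (t : G)⁻¹) = (t : G) * (u * (c : G)) * (t : G)⁻¹ := by
      calc u * ((t : G) * (c : G) * (t : G)⁻¹) = (u * (t : G)) * (c : G) * (t : G)⁻¹ := by group
        _ = (t : G) * (u * (c : G)) * (t : G)⁻¹ := by rw [← h2]; group
    rw [this, isClassFunction_irr χ.2]
  rw [blockPart_eq_sum_blockCoeff hMp hind.1 hθ y, ← key]
  refine Finset.sum_congr rfl fun k _ => ?_
  congr 2
  push_cast
  group

end

end Cfsg.Agent.Lib.Helper8
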