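import Mathlib
import Cfsg.Prelude.Def_Blocks
import Cfsg.Prelude.Def_BlockRank
import Cfsg.Agent.Lib.Helper8.Sub6
import Cfsg.Agent.Lib.Helper8.Sub7
import Cfsg.Agent.Lib.Helper8.Sub10
import Cfsg.Agent.Lib.Helper8.Sub11
import Cfsg.Agent.Lib.Helper8.BlockInduced
import Cfsg.Agent.Lib.Helper8.BlockPairMax

/-!
# Brauer's count of the characters of a block by subsections
-/

set_option autoImplicit false

namespace Cfsg.Agent.Lib.Helper8

open Cfsg
open scoped ComplexConjugate
open Cfsg.Agent.Lib.Helper1 Cfsg.Agent.Lib.Helper4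

universe u

section

variable {G : Type u} [Group G] [Fintype G] {M : Ideal AlgInt} {p : ℕ}

/-- Every block of the centralizer of a `p`-element induces a block. -/
theorem inducedBlockDefined_centralizer (hM : IsPModular p M) {x : G}
    (hx : ∃ k : ℕ, orderOf x = p ^ k)
    {b : Set (IrrCharacter (Subgroup.centralizer ({x} : Set G)))} (hb : IsPBlock M b) :
    InducedBlockDefined M (Subgroup.centralizer ({x} : Set G)) b := by
  have : Fact p.Prime := ⟨hM.1⟩
  have hxC : x ∈ Subgroup.centralizer ({x} : Set G) := by
    rw [Subgroup.mem_centralizer_singleton_iff]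
  have hcent : Subgroup.centralizer ((Subgroup.zpowers x : Subgroup G) : Set G) =
      Subgroup.centralizer ({x} : Set G) := by
    rw [Subgroup.zpowers_eq_closure, Subgroup.centralizer_closure]
  have hPp : IsPGroup p (Subgroup.zpowers x) := by
    obtain ⟨k, hk⟩ := hx
    apply IsPGroup.of_card (n := k)
    rw [Nat.card_zpowers, hk]
  apply inducedBlockDefined_of_le hM (Subgroup.zpowers x) _ hPp _ _ _ hb
  · rw [Subgroup.zpowers_le]
    exact hxC
  · rw [hcent]
  · rw [← hcent]
    exact Subgroup.centralizer_le_normalizer _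

/-- The subsection norms of the members of `B` at a block `b` of `C_G(x)`: `|C| l(b)` if `b`
induces `B`, zero otherwise. -/
theorem sum_block_ind_section [Fintype (IrrCharacter G)] (hM : IsPModular p M) (x : G)
    (hx : ∃ k : ℕ, orderOf x = p ^ k) [Fintype (Subgroup.centralizer ({x} : Set G))]
    {b : Set (IrrCharacter (Subgroup.centralizer ({x} : Set G)))} (hb : IsPBlock M b)
    {B : Set (IrrCharacter G)} (hB : IsPBlock M B) :
    ∑ χ : IrrCharacter G, (by classical exact if χ ∈ B then (1 : ℝ) else 0) *
      ∑ c : Subgroup.centralizer ({x} : Set G), Complex.normSq (pRegularPart p (blockPart b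
        (fun c : Subgroup.centralizer ({x} : Set G) => (χ : G → ℂ) (x * (c : G)))) c) =
    (by classical exact if IsInducedBlock M (Subgroup.centralizer ({x} : Set G)) b B then
      (Nat.card (Subgroup.centralizer ({x} : Set G)) : ℝ) * (blockRank p b : ℝ) else 0) := by
  classical
  have hMp := isPModular_isPrime hM
  have hC : ∀ t, t ∈ Subgroup.centralizer ({x} : Set G) ↔ t * x = x * t := by
    intro t
    rw [Subgroup.mem_centralizer_singleton_iff]
  obtain ⟨B', hind⟩ := inducedBlockDefined_centralizer hM hx hb
  have hzero : ∀ χ : IrrCharacter G, χ ∉ B' →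
      ∑ c : Subgroup.centralizer ({x} : Set G), Complex.normSq (pRegularPart p (blockPart b
        (fun c : Subgroup.centralizer ({x} : Set G) => (χ : G → ℂ) (x * (c : G)))) c) = 0 := by
    intro χ hχ
    apply Finset.sum_eq_zero
    intro c _
    by_cases hc : p ∣ orderOf c
    · rw [pRegularPart_of_dvd _ hc]; simp
    · rw [pRegularPart_of_not_dvd _ hc, blockPart_section_eq_zero hM _ hC hx hind hχ hc]; simp
  by_cases hBB : B' = B
  · subst hBB
    rw [if_pos hind, ← sum_irr_normSq_blockPart_section hM _ hC hx hb]
    refine Finset.sum_congr rfl fun χ _ => ?_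
    by_cases hχ : χ ∈ B'
    · rw [if_pos hχ, one_mul]
    · rw [if_neg hχ, zero_mul, hzero χ hχ]
  · have hnot : ¬ IsInducedBlock M (Subgroup.centralizer ({x} : Set G)) b B := by
      intro h
      exact hBB (isInducedBlock_unique hMp _ hind h)
    rw [if_neg hnot]
    apply Finset.sum_eq_zero
    intro χ _
    by_cases hχ : χ ∈ B
    · have hχ' : χ ∉ B' := by
        intro h
        apply hBB
        rw [eq_blockOf_of_mem hMp hind.2.1 h, eq_blockOf_of_mem hMp hB hχ]
      rw [hzero χ hχ', mul_zero]
    · rw [if_neg hχ, zero_mul]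

end

end Cfsg.Agent.Lib.Helper8
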