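import Mathlib
import Cfsg.Prelude.Def_Blocks
import Cfsg.Prelude.Def_BlockRank
import Cfsg.Agent.Lib.Helper8.Sub12
import Cfsg.Agent.Lib.Helper8.SM7

/-!
# Block orthogonality on a section, pointwise
-/

set_option autoImplicit false

namespace Cfsg.Agent.Lib.Helper8

open Cfsg
open scoped ComplexConjugate
open Cfsg.Agent.Lib.Helper1 Cfsg.Agent.Lib.Helper4

universe u

section

variable {H : Type u} [Group H] [Fintype H] {M : Ideal AlgInt} {p : ℕ}

theorem blockPart_sub (e : Set (IrrCharacter H)) (ϑ ϑ' : H → ℂ) (y : H) :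
    blockPart e (ϑ - ϑ') y = blockPart e ϑ y - blockPart e ϑ' y := by
  classical
  have : Fintype (IrrCharacter H) := Fintype.ofFinite _
  rw [blockPart_eq_sum, blockPart_eq_sum, blockPart_eq_sum, ← Finset.sum_sub_distrib]
  refine Finset.sum_congr rfl fun χ _ => ?_
  rw [classInner_sub_left]
  ring

theorem blockPart_sum_mul {ι : Type*} (s : Finset ι) (e : Set (IrrCharacter H)) (a : ι → ℂ)
    (f : ι → H → ℂ) (y : H) :
    blockPart e (fun c => ∑ i ∈ s, a i * f i c) y = ∑ i ∈ s, a i * blockPart e (f i) y := by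
  classical
  have : Fintype (IrrCharacter H) := Fintype.ofFinite _
  simp_rw [blockPart_eq_sum, Finset.mul_sum]
  rw [Finset.sum_comm]
  refine Finset.sum_congr rfl fun χ _ => ?_
  have h1 : (fun c => ∑ i ∈ s, a i * f i c) = ∑ i ∈ s, a i • f i := by
    funext c
    rw [Finset.sum_apply]
    rfl
  rw [h1, classInner_sum_left, Finset.sum_mul, Finset.mul_sum]
  refine Finset.sum_congr rfl fun i _ => ?_
  rw [classInner_smul_left]
  ring

theorem blockPart_irr [Fintype (IrrCharacter H)] (e : Set (IrrCharacter H)) (χ : IrrCharacter H)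
    (y : H) :
    blockPart e (χ : H → ℂ) y =
      (by classical exact if χ ∈ e then (1 : ℂ) else 0) * (χ : H → ℂ) y := by
  classical
  rw [blockPart_eq_sum, Finset.sum_eq_single χ]
  · rw [classInner_irr_self χ.2, one_mul]
  · intro ψ _ hne
    rw [classInner_irr_ne χ.2 ψ.2 (fun h => hne (Subtype.ext h).symm), zero_mul, mul_zero]
  · intro h
    exact absurd (Finset.mem_univ _) h

/-- Two functions agreeing on the `p`-regular elements have block parts agreeing on the
`p`-regular elements. -/
theorem blockPart_congr_pRegular (hM : IsPModular p M) {e : Set (IrrCharacter H)}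
    (he : IsPBlock M e) {ϑ ϑ' : H → ℂ} (h : ∀ c : H, ¬ p ∣ orderOf c → ϑ c = ϑ' c) {y : H}
    (hy : ¬ p ∣ orderOf y) : blockPart e ϑ y = blockPart e ϑ' y := by
  have h1 : blockPart e (ϑ - ϑ') y = 0 := by
    apply blockPart_eq_zero_on_section hM (x := 1) _ he (u := y) (z := 1)
    · exact ⟨y, one_mul y, Commute.one_left y, ⟨0, by rw [orderOf_one, pow_zero]⟩, hy⟩
    · exact IsConj.refl 1
    · intro u z huz hz
      have hz1 : z = 1 := by
        rw [isConj_one_right] at hz
        exact hz
      subst hz1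
      obtain ⟨y', hy', -, -, hy'o⟩ := huz
      rw [one_mul] at hy'
      subst hy'
      rw [Pi.sub_apply, h _ hy'o, sub_self]
  rw [blockPart_sub, sub_eq_zero] at h1
  exact h1

end

end Cfsg.Agent.Lib.Helper8
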