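import Mathlib
import Cfsg.Prelude.Def_Blocks
import Cfsg.Prelude.Def_BlockRank
import Cfsg.Agent.Lib.Helper8.Sub14

/-!
# Block orthogonality on a section, pointwise (continued)
-/

set_option autoImplicit false

namespace Cfsg.Agent.Lib.Helper8

open Cfsg
open scoped ComplexConjugate
open Cfsg.Agent.Lib.Helper1 Cfsg.Agent.Lib.Helper4

universe u

section

variable {G : Type u} [Group G] [Fintype G] {M : Ideal AlgInt} {p : ℕ}

/-- **Block orthogonality on a section**: for `p`-regular `y, y'` in `C = C_G(u)` and a block `e`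
of `C`, the sum over the irreducible characters `ζ` of `G` of `conj (ζ (u y'))` times the
`e`-part of `c ↦ ζ (u c)` at `y` is the sum over `χ ∈ e` of `conj (χ y') χ y`. -/
theorem sum_irr_conj_mul_blockPart_section [Fintype (IrrCharacter G)] (hM : IsPModular p M)
    (C : Subgroup G) [Fintype C] [Fintype (IrrCharacter C)] {u : G}
    (hC : ∀ t, t ∈ C ↔ t * u = u * t)
    (hu : ∃ k : ℕ, orderOf u = p ^ k) {e : Set (IrrCharacter C)} (he : IsPBlock M e)
    {y y' : C} (hy : ¬ p ∣ orderOf y) (hy' : ¬ p ∣ orderOf y') :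
    ∑ ζ : IrrCharacter G, conj ((ζ : G → ℂ) (u * (y' : G))) *
      blockPart e (fun c : C => (ζ : G → ℂ) (u * (c : G))) y =
    ∑ χ : IrrCharacter C, (by classical exact if χ ∈ e then (1 : ℂ) else 0) *
      (conj ((χ : C → ℂ) y') * (χ : C → ℂ) y) := by
  classical
  have hp := hM.1
  have h1 := blockPart_sum_mul Finset.univ e
    (fun ζ : IrrCharacter G => conj ((ζ : G → ℂ) (u * (y' : G))))
    (fun (ζ : IrrCharacter G) (c : C) => (ζ : G → ℂ) (u * (c : G))) y
  have h2 := blockPart_sum_mul Finset.univ e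
    (fun χ : IrrCharacter C => conj ((χ : C → ℂ) y'))
    (fun (χ : IrrCharacter C) (c : C) => (χ : C → ℂ) c) y
  rw [← h1]
  have h3 : ∑ χ : IrrCharacter C, (if χ ∈ e then (1 : ℂ) else 0) *
      (conj ((χ : C → ℂ) y') * (χ : C → ℂ) y) =
      ∑ χ : IrrCharacter C, conj ((χ : C → ℂ) y') * blockPart e (χ : C → ℂ) y := by
    refine Finset.sum_congr rfl fun χ _ => ?_
    rw [blockPart_irr]
    have : (by classical exact if χ ∈ e then (1 : ℂ) else 0) = (if χ ∈ e then (1 : ℂ) else 0) := by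
      congr
    rw [this]
    ring
  rw [h3, ← h2]
  apply blockPart_congr_pRegular hM he _ hy
  intro c hc
  have e1 : ∑ ζ : IrrCharacter G, conj ((ζ : G → ℂ) (u * (y' : G))) * (ζ : G → ℂ) (u * (c : G)) =
      ∑ ζ : IrrCharacter G, (ζ : G → ℂ) (u * (c : G)) * conj ((ζ : G → ℂ) (u * (y' : G))) :=
    Finset.sum_congr rfl fun ζ _ => mul_comm _ _
  have e2 : ∑ χ : IrrCharacter C, conj ((χ : C → ℂ) y') * (χ : C → ℂ) c =
      ∑ χ : IrrCharacter C, (χ : C → ℂ) c * conj ((χ : C → ℂ) y') :=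
    Finset.sum_congr rfl fun χ _ => mul_comm _ _
  show ∑ ζ : IrrCharacter G, conj ((ζ : G → ℂ) (u * (y' : G))) * (ζ : G → ℂ) (u * (c : G)) =
    ∑ χ : IrrCharacter C, conj ((χ : C → ℂ) y') * (χ : C → ℂ) c
  rw [e1, e2, column_orthogonality, column_orthogonality, card_centralizer_section C hC hp hu hy']
  congr 1
  unfold classIndicator
  by_cases hcon : IsConj y' c
  · rw [if_pos hcon, if_pos ((isConj_section_iff C hC hp hu hy' hc).2 hcon)]
  · rw [if_neg hcon, if_neg (fun h => hcon ((isConj_section_iff C hC hp hu hy' hc).1 h))]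

end

end Cfsg.Agent.Lib.Helper8
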