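import Mathlib
import Cfsg.Prelude.Def_Blocks
import Cfsg.Agent.Lib.Helper8.InducedOmega2

/-!
# `χ̃` restricted to a subgroup and induced blocks (Navarro 6.5)
-/

set_option autoImplicit false

namespace Cfsg.Agent.Lib.Helper8

open Cfsg
open scoped ComplexConjugate
open Cfsg.Agent.Lib.Helper1 Cfsg.Agent.Lib.Helper4

universe u

section

variable {G : Type u} [Group G] [Fintype G] {M : Ideal AlgInt} {p : ℕ} [Fact p.Prime]

omit [Fintype G] [Fact p.Prime] in
theorem pRegInv_restrict (H : Subgroup G) (χ : G → ℂ) :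
    pRegInv p (fun h : H => χ h) = fun h : H => pRegInv p χ (h : G) := by
  funext h
  rw [pRegInv_apply, pRegInv_apply]
  by_cases hh : p ∣ orderOf h⁻¹
  · have hh' : p ∣ orderOf ((h : G)⁻¹) := by
      rw [← Subgroup.coe_inv, Subgroup.orderOf_coe]
      exact hh
    rw [pRegularPart_of_dvd _ hh, pRegularPart_of_dvd _ hh']
  · have hh' : ¬ p ∣ orderOf ((h : G)⁻¹) := by
      rw [← Subgroup.coe_inv, Subgroup.orderOf_coe]
      exact hh
    rw [pRegularPart_of_not_dvd _ hh, pRegularPart_of_not_dvd _ hh']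
    rfl

/-- If `b` induces `B₀`, `ψ ∈ b`, `χ' ∈ B₀` and `χ` is a character of `G`, then
`[(χ_H)~, ψ] / ψ(1)` is congruent to a unit multiple of `ω_{χ'}` at `χ(·⁻¹) 1_{G°}`. -/
theorem tildeRatio_restrict_cong (hM : IsPModular p M) (H : Subgroup G) [Fintype H]
    {b : Set (IrrCharacter H)} {B₀ : Set (IrrCharacter G)} (hind : IsInducedBlock M H b B₀)
    {ψ : IrrCharacter H} (hψ : ψ ∈ b) {χ' : IrrCharacter G} (hχ' : χ' ∈ B₀) {χ : G → ℂ}
    (hχ : IsCharacter G χ) :
    MemLocalIdeal M (classInner (tilde p (fun h : H => χ h)) (ψ : H → ℂ) / (ψ : H → ℂ) 1 -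
      ((p ^ (Nat.card H).factorization p : ℕ) : ℂ) / (Nat.card H : ℂ) *
        omega (χ' : G → ℂ) (pRegInv p χ)) := by
  have hMp := isPModular_isPrime hM
  rw [tildeRatio_eq ψ.2, pRegInv_restrict, ← mul_sub]
  exact memLocalIdeal_mul_left hMp (pPart_div_card_unit hM).1
    (omega_restrict_cong_of_induced hMp H hind hψ hχ'
      (isClassFunction_pRegInv (isClassFunction_of_isCharacter hχ))
      (memLocalRing_pRegInv hMp.ne_top hχ))

/-- **Navarro 6.5 (a).** -/
theorem memLocalIdeal_tildeRatio_restrict (hM : IsPModular p M) (H : Subgroup G) [Fintype H]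
    {b : Set (IrrCharacter H)} {B₀ : Set (IrrCharacter G)} (hind : IsInducedBlock M H b B₀)
    {ψ : IrrCharacter H} (hψ : ψ ∈ b) {χ : IrrCharacter G} (hχ : χ ∉ B₀) :
    MemLocalIdeal M (classInner (tilde p (fun h : H => (χ : G → ℂ) h)) (ψ : H → ℂ) /
      (ψ : H → ℂ) 1) := by
  have hMp := isPModular_isPrime hM
  obtain ⟨χ', hχ'⟩ := isPBlock_nonempty hMp hind.2.1
  have h1 := tildeRatio_restrict_cong hM H hind hψ hχ' (isCharacter_of_irr χ.2)
  have h2 : omega (χ' : G → ℂ) (pRegInv p (χ : G → ℂ)) = 0 := by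
    have h3 := classInner_pRegularPart_div (p := p) χ'.2 (χ : G → ℂ)
    have h4 : ¬ SameBlock M (χ : G → ℂ) (χ' : G → ℂ) := by
      intro h
      apply hχ
      rw [eq_blockOf_of_mem hMp hind.2.1 hχ']
      exact sameBlock_symm h
    rw [classInner_pRegularPart_eq_zero hM h4, zero_div] at h3
    have hG0 : (Nat.card G : ℂ)⁻¹ ≠ 0 := inv_ne_zero (Nat.cast_ne_zero.2 Nat.card_pos.ne')
    exact (mul_eq_zero.1 h3.symm).resolve_left hG0
  rw [h2, mul_zero, sub_zero] at h1
  exact h1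

/-- **Navarro 6.5 (b).** -/
theorem not_memLocalIdeal_tildeRatio_restrict (hM : IsPModular p M) (H : Subgroup G) [Fintype H]
    {b : Set (IrrCharacter H)} {B₀ : Set (IrrCharacter G)} (hind : IsInducedBlock M H b B₀)
    {ψ : IrrCharacter H} (hψ : ψ ∈ b) {χ : IrrCharacter G} (hχ : χ ∈ B₀)
    (h0 : blockHeight p B₀ (χ : G → ℂ) = 0) :
    ¬ MemLocalIdeal M (classInner (tilde p (fun h : H => (χ : G → ℂ) h)) (ψ : H → ℂ) /
      (ψ : H → ℂ) 1) := by
  have hMp := isPModular_isPrime hM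
  have hχc := isCharacter_of_irr χ.2
  have h1 := tildeRatio_restrict_cong hM H hind hψ hχ hχc
  -- `ω_χ` at `χ(·⁻¹) 1_{G°}` is a unit
  obtain ⟨ξ, hξ, hu⟩ := exists_tildeUnit_of_height_zero hM hind.2.1 hχ h0
  have hsb : SameBlock M (ξ : G → ℂ) (χ : G → ℂ) := by
    have hBeq := eq_blockOf_of_mem hMp hind.2.1 hξ
    rw [hBeq] at hχ
    exact hχ
  have hu' := tildeUnit_congr hM hχc ξ.2 χ.2 hsb hu
  rw [tildeRatio_eq χ.2] at hu'
  have hcf := isClassFunction_pRegInv (p := p) (isClassFunction_of_isCharacter hχc)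
  have hFS := memLocalRing_pRegInv (p := p) (M := M) hMp.ne_top hχc
  have hωS : MemLocalRing M (omega (χ : G → ℂ) (pRegInv p (χ : G → ℂ))) :=
    memLocalRing_omega hMp χ.2 hcf hFS
  have hω : ¬ MemLocalIdeal M (omega (χ : G → ℂ) (pRegInv p (χ : G → ℂ))) := by
    intro hJ
    exact hu' (memLocalIdeal_mul_left hMp (pPart_div_card_unit hM).1 hJ)
  have hprod := not_memLocalIdeal_mul hMp (pPart_div_card_unit (G := H) hM).1 hωS
    (pPart_div_card_unit (G := H) hM).2 hω
  intro hJ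
  apply hprod
  have := memLocalIdeal_sub hMp hJ h1
  rwa [sub_sub_cancel] at this

end

end Cfsg.Agent.Lib.Helper8
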