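import Mathlib
import Cfsg.Prelude.Def_Blocks
import Cfsg.Prelude.Def_BlockRank
import Cfsg.Agent.Lib.Helper8.Sub15
import Cfsg.Agent.S0936

/-!
# The principal block on a section
-/

set_option autoImplicit false

namespace Cfsg.Agent.Lib.Helper8

open Cfsg
open scoped ComplexConjugate
open Cfsg.Agent.Lib.Helper1 Cfsg.Agent.Lib.Helper4

universe u

section

variable {G : Type u} [Group G] [Fintype G] {M : Ideal AlgInt} {p : ℕ}

/-- For `ζ` in the principal block of `G`, the principal block part of `c ↦ ζ (z c)` on
`C_G(z)` is `ζ (z y)` at the `p`-regular `y`; for `ζ` outside it vanishes. -/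
theorem blockPart_principal_section [Fact p.Prime] (hM : IsPModular p M) (z : G)
    (hz : ∃ k : ℕ, orderOf z = p ^ k) [Fintype (Subgroup.centralizer ({z} : Set G))]
    (ζ : IrrCharacter G) {y : Subgroup.centralizer ({z} : Set G)} (hy : ¬ p ∣ orderOf y) :
    blockPart (principalBlock M (Subgroup.centralizer ({z} : Set G)))
      (fun c : Subgroup.centralizer ({z} : Set G) => (ζ : G → ℂ) (z * (c : G))) y =
    (by classical exact if ζ ∈ principalBlock M G then (1 : ℂ) else 0) *
      (ζ : G → ℂ) (z * (y : G)) := by
  classical
  have hMp := isPModular_isPrime hM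
  have hC : ∀ t, t ∈ Subgroup.centralizer ({z} : Set G) ↔ t * z = z * t := by
    intro t
    rw [Subgroup.mem_centralizer_singleton_iff]
  have hb0 : IsPBlock M (principalBlock M (Subgroup.centralizer ({z} : Set G))) :=
    isPBlock_principalBlock
  have hind0 : IsInducedBlock M (Subgroup.centralizer ({z} : Set G))
      (principalBlock M (Subgroup.centralizer ({z} : Set G))) (principalBlock M G) :=
    (Cfsg.Agent.S0936.result p M hM _ _ (inducedBlockDefined_centralizer hM hz hb0)).2 rfl
  by_cases hζ : ζ ∈ principalBlock M G
  · rw [if_pos hζ, one_mul]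
    have hcf := isClassFunction_section (Subgroup.centralizer ({z} : Set G)) hC
      (isClassFunction_irr ζ.2)
    have hsum := sum_blocks_blockPart (M := M) hMp hcf y
    rw [Finset.sum_eq_single (principalBlock M (Subgroup.centralizer ({z} : Set G)))] at hsum
    · exact hsum
    · intro b hb hne
      rw [mem_blocksFinset] at hb
      obtain ⟨B', hind'⟩ := inducedBlockDefined_centralizer hM hz hb
      apply blockPart_section_eq_zero hM _ hC hz hind' _ hy
      intro hζB'
      apply hne
      have hB'eq : B' = principalBlock M G := by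
        rw [eq_blockOf_of_mem hMp hind'.2.1 hζB',
          eq_blockOf_of_mem hMp (isPBlock_principalBlock (M := M) (G := G)) hζ]
      rw [hB'eq] at hind'
      exact (Cfsg.Agent.S0936.result p M hM _ _ ⟨_, hind'⟩).1 hind'
    · intro h
      exact absurd ((mem_blocksFinset _).2 hb0) h
  · rw [if_neg hζ, zero_mul]
    exact blockPart_section_eq_zero hM _ hC hz hind0 hζ hy

/-- **Principal block orthogonality on a section**. -/
theorem sum_principal_section [Fact p.Prime] [Fintype (IrrCharacter G)] (hM : IsPModular p M)
    (z : G) (hz : ∃ k : ℕ, orderOf z = p ^ k) [Fintype (Subgroup.centralizer ({z} : Set G))]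
    [Fintype (IrrCharacter (Subgroup.centralizer ({z} : Set G)))]
    {y : Subgroup.centralizer ({z} : Set G)} (hy : ¬ p ∣ orderOf y) :
    ∑ ζ : IrrCharacter G, (by classical exact if ζ ∈ principalBlock M G then (1 : ℂ) else 0) *
      (conj ((ζ : G → ℂ) (z * (y : G))) * (ζ : G → ℂ) (z * (y : G))) =
    ∑ χ : IrrCharacter (Subgroup.centralizer ({z} : Set G)),
      (by classical exact if χ ∈ principalBlock M (Subgroup.centralizer ({z} : Set G))
        then (1 : ℂ) else 0) *
      (conj ((χ : Subgroup.centralizer ({z} : Set G) → ℂ) y) *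
        (χ : Subgroup.centralizer ({z} : Set G) → ℂ) y) := by
  classical
  have hC : ∀ t, t ∈ Subgroup.centralizer ({z} : Set G) ↔ t * z = z * t := by
    intro t
    rw [Subgroup.mem_centralizer_singleton_iff]
  have key := sum_irr_conj_mul_blockPart_section hM (Subgroup.centralizer ({z} : Set G)) hC hz
    (isPBlock_principalBlock (M := M) (G := Subgroup.centralizer ({z} : Set G))) hy hy
  rw [← key]
  refine Finset.sum_congr rfl fun ζ _ => ?_
  rw [blockPart_principal_section hM z hz ζ hy]
  have : (by classical exact if ζ ∈ principalBlock M G then (1 : ℂ) else 0) =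
      (if ζ ∈ principalBlock M G then (1 : ℂ) else 0) := by
    congr
  rw [this]
  ring

end

end Cfsg.Agent.Lib.Helper8
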