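import Mathlib
import Cfsg.Prelude.Def_Blocks
import Cfsg.Prelude.Def_BlockRank
import Cfsg.Agent.Lib.Helper8.BF5

/-!
# The integers `p ^ d m(χ, χ₀)`
-/

set_option autoImplicit false

namespace Cfsg.Agent.Lib.Helper8

open Cfsg
open scoped ComplexConjugate
open Cfsg.Agent.Lib.Helper1 Cfsg.Agent.Lib.Helper4

universe u

section

variable {G : Type u} [Group G] [Fintype G] {M : Ideal AlgInt} {p : ℕ}

/-- For `χ₀ ∈ B` of height zero and `χ ∈ B`, the number `p ^ d m(χ, χ₀)` is a nonzero integer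
divisible by `p ^ h(χ)`. -/
theorem exists_int_contrib (hM : IsPModular p M) {B : Set (IrrCharacter G)}
    (hB : IsPBlock M B) {χ₀ : IrrCharacter G} (hχ₀ : χ₀ ∈ B)
    (h0 : blockHeight p B (χ₀ : G → ℂ) = 0) {χ : IrrCharacter G} (hχ : χ ∈ B) :
    ∃ N : ℤ, (N : ℂ) = (p : ℂ) ^ (blockDefect p B) * mreg p (χ : G → ℂ) (χ₀ : G → ℂ) ∧ N ≠ 0 ∧
      (p : ℤ) ^ (blockHeight p B (χ : G → ℂ)) ∣ N := by
  classical
  have hMp := isPModular_isPrime hM
  have hp := hM.1
  obtain ⟨n, hn⟩ := exists_int_mreg hp χ.2 (isCharacter_of_irr χ₀.2) (χ' := (χ₀ : G → ℂ))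
  have hcS := memLocalRing_contrib (p := p) hMp χ χ₀
  have hcu := contrib_not_memLocalIdeal hM hB hχ₀ h0 hχ
  set a := (Nat.card G).factorization p with ha
  set d := blockDefect p B with hd
  set h := blockHeight p B (χ : G → ℂ) with hh
  set m := mreg p (χ : G → ℂ) (χ₀ : G → ℂ) with hm
  obtain ⟨hdeg, hdegpos⟩ := irr_apply_one_eq_charDegree χ.2
  obtain ⟨hv, hda⟩ := block_valuations (p := p) hχ
  have hG0 : (Nat.card G : ℂ) ≠ 0 := Nat.cast_ne_zero.2 Nat.card_pos.ne'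
  have hp0 : (p : ℂ) ≠ 0 := Nat.cast_ne_zero.2 hp.ne_zero
  have hd0 : ((charDegree (χ : G → ℂ) : ℕ) : ℂ) ≠ 0 := Nat.cast_ne_zero.2 hdegpos.ne'
  -- `p ^ d m` is a local integer
  have h1 : MemLocalRing M ((p : ℂ) ^ d * m) := by
    have e : (p : ℂ) ^ d * m = ((Nat.card G : ℂ) * m / (χ : G → ℂ) 1) *
        (((p ^ d * charDegree (χ : G → ℂ) : ℕ) : ℂ) / (Nat.card G : ℂ)) := by
      rw [hdeg]
      push_cast
      field_simp
    rw [e]
    apply memLocalRing_mul hMp hcS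
    apply memLocalRing_natCast_div hM
      (Nat.mul_ne_zero (pow_ne_zero _ hp.ne_zero) hdegpos.ne') Nat.card_pos.ne'
    rw [factorization_pow_mul hp d hdegpos.ne']
    omega
  -- `n` is divisible by `p ^ (a - d)`
  have h2 : (p : ℤ) ^ (a - d) ∣ n := by
    apply int_pow_dvd_of_memLocalRing hM
    have e : (n : ℂ) / (p : ℂ) ^ (a - d) = (p : ℂ) ^ d * m := by
      rw [← hn]
      have : (p : ℂ) ^ a = (p : ℂ) ^ (a - d) * (p : ℂ) ^ d := by
        rw [← pow_add, Nat.sub_add_cancel hda]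
      rw [this]
      field_simp
    rw [e]
    exact h1
  obtain ⟨N, rfl⟩ := h2
  have hN : (N : ℂ) = (p : ℂ) ^ d * m := by
    have hpa : (p : ℂ) ^ (a - d) ≠ 0 := pow_ne_zero _ hp0
    have : (p : ℂ) ^ a = (p : ℂ) ^ (a - d) * (p : ℂ) ^ d := by
      rw [← pow_add, Nat.sub_add_cancel hda]
    rw [this] at hn
    push_cast at hn
    have h3 : (p : ℂ) ^ (a - d) * ((p : ℂ) ^ d * m) = (p : ℂ) ^ (a - d) * (N : ℂ) := by
      rw [← hn]; ring
    exact (mul_left_cancel₀ hpa h3).symm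
  refine ⟨N, hN, ?_, ?_⟩
  · rintro rfl
    apply hcu
    have : m = 0 := by
      have h4 : (p : ℂ) ^ d * m = 0 := by rw [← hN]; simp
      rcases mul_eq_zero.1 h4 with h5 | h5
      · exact absurd h5 (pow_ne_zero _ hp0)
      · exact h5
    rw [this, mul_zero, zero_div]
    exact memLocalIdeal_zero hMp.ne_top
  · apply int_pow_dvd_of_memLocalRing hM
    have e : (N : ℂ) / (p : ℂ) ^ h = ((Nat.card G : ℂ) * m / (χ : G → ℂ) 1) *
        (((p ^ d * charDegree (χ : G → ℂ) : ℕ) : ℂ) / ((Nat.card G * p ^ h : ℕ) : ℂ)) := by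
      rw [hN, hdeg]
      push_cast
      field_simp
    rw [e]
    apply memLocalRing_mul hMp hcS
    apply memLocalRing_natCast_div hM
      (Nat.mul_ne_zero (pow_ne_zero _ hp.ne_zero) hdegpos.ne')
      (Nat.mul_ne_zero Nat.card_pos.ne' (pow_ne_zero _ hp.ne_zero))
    rw [factorization_pow_mul hp d hdegpos.ne', mul_comm (Nat.card G),
      factorization_pow_mul hp h Nat.card_pos.ne']
    omega

end

end Cfsg.Agent.Lib.Helper8
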