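import Mathlib
import Cfsg.Prelude.Def_Blocks
import Cfsg.Prelude.Def_BlockRank
import Cfsg.Agent.Lib.Helper8.BF6

/-!
# The Brauer–Feit bound
-/

set_option autoImplicit false

namespace Cfsg.Agent.Lib.Helper8

open Cfsg
open scoped ComplexConjugate
open Cfsg.Agent.Lib.Helper1 Cfsg.Agent.Lib.Helper4

universe u

section

variable {G : Type u} [Group G] [Fintype G] {M : Ideal AlgInt} {p : ℕ}

omit [Fintype G] in
/-- A block contains a character of height zero. -/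
theorem exists_height_zero (hM : M.IsPrime) {B : Set (IrrCharacter G)} (hB : IsPBlock M B) :
    ∃ χ₀ ∈ B, blockHeight p B (χ₀ : G → ℂ) = 0 := by
  set S := (fun ψ : IrrCharacter G => (charDegree (ψ : G → ℂ)).factorization p) '' B with hS
  have hBne : B.Nonempty := by
    obtain ⟨χ₀, rfl⟩ := hB
    exact ⟨χ₀, sameBlock_refl hM.ne_top _⟩
  obtain ⟨χ₀, hχ₀B, hχ₀⟩ := Nat.sInf_mem (hBne.image _ : S.Nonempty)
  refine ⟨χ₀, hχ₀B, ?_⟩
  have hht : blockHeight p B (χ₀ : G → ℂ) =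
      (charDegree (χ₀ : G → ℂ)).factorization p - sInf S := rfl
  rw [hht]
  have : (charDegree (χ₀ : G → ℂ)).factorization p = sInf S := hχ₀
  omega

/-- **Brauer–Feit**: `∑_{χ ∈ B} p ^ (2 h(χ)) ≤ p ^ (2 d) / 4 + 1`. -/
theorem sum_pow_height_le (hM : IsPModular p M) {B : Set (IrrCharacter G)} (hB : IsPBlock M B) :
    ∑ᶠ χ ∈ B, p ^ (2 * blockHeight p B (χ : G → ℂ)) ≤ p ^ (2 * blockDefect p B) / 4 + 1 := by
  classical
  have : Fintype (IrrCharacter G) := Fintype.ofFinite _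
  have hMp := isPModular_isPrime hM
  have hp := hM.1
  obtain ⟨χ₀, hχ₀, h0⟩ := exists_height_zero (p := p) hMp hB
  set d := blockDefect p B with hd
  -- the integers
  have hex : ∀ χ : IrrCharacter G, ∃ N : ℤ, χ ∈ B →
      ((N : ℂ) = (p : ℂ) ^ d * mreg p (χ : G → ℂ) (χ₀ : G → ℂ) ∧ N ≠ 0 ∧
        (p : ℤ) ^ (blockHeight p B (χ : G → ℂ)) ∣ N) := by
    intro χ
    by_cases hχ : χ ∈ B
    · obtain ⟨N, hN⟩ := exists_int_contrib hM hB hχ₀ h0 hχ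
      exact ⟨N, fun _ => hN⟩
    · exact ⟨0, fun h => absurd h hχ⟩
  choose N hN using hex
  set Bf : Finset (IrrCharacter G) := B.toFinset with hBf
  have hmemBf : ∀ χ, χ ∈ Bf ↔ χ ∈ B := fun χ => Set.mem_toFinset
  -- the quadratic relation
  have hquad : ∑ χ ∈ Bf, N χ ^ 2 = (p : ℤ) ^ d * N χ₀ := by
    have hc : ((∑ χ ∈ Bf, N χ ^ 2 : ℤ) : ℂ) = (((p : ℤ) ^ d * N χ₀ : ℤ) : ℂ) := by
      push_cast
      rw [(hN χ₀ hχ₀).1]
      have h1 := sum_mreg_mul_mreg (p := p) (χ := (χ₀ : G → ℂ)) (χ' := (χ₀ : G → ℂ))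
        (isClassFunction_irr χ₀.2)
      rw [← h1, Finset.mul_sum, Finset.mul_sum]
      rw [← Finset.sum_subset (Finset.subset_univ Bf)]
      · refine Finset.sum_congr rfl fun χ hχ => ?_
        rw [(hN χ ((hmemBf χ).1 hχ)).1,
          mreg_symm (isCharacter_of_irr χ₀.2) (isCharacter_of_irr χ.2)]
        ring
      · intro χ _ hχ
        have hχB : χ ∉ B := fun h => hχ ((hmemBf χ).2 h)
        have hns : ¬ SameBlock M (χ₀ : G → ℂ) (χ : G → ℂ) := by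
          intro hs
          apply hχB
          rw [eq_blockOf_of_mem hMp hB hχ₀]
          exact hs
        have : mreg p (χ₀ : G → ℂ) (χ : G → ℂ) = 0 := classInner_pRegularPart_eq_zero hM hns
        rw [this, zero_mul, mul_zero, mul_zero]
    exact_mod_cast hc
  -- lower bounds
  have hlow : ∀ χ ∈ Bf, ((p : ℤ) ^ (2 * blockHeight p B (χ : G → ℂ))) ≤ N χ ^ 2 := by
    intro χ hχ
    obtain ⟨_, hne, hdvd⟩ := hN χ ((hmemBf χ).1 hχ)
    have h1 : (p : ℤ) ^ (blockHeight p B (χ : G → ℂ)) ≤ |N χ| := by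
      apply Int.le_of_dvd (abs_pos.2 hne)
      exact (dvd_abs _ _).2 hdvd
    have h2 : (0 : ℤ) ≤ (p : ℤ) ^ (blockHeight p B (χ : G → ℂ)) := by positivity
    calc (p : ℤ) ^ (2 * blockHeight p B (χ : G → ℂ))
        = ((p : ℤ) ^ (blockHeight p B (χ : G → ℂ))) ^ 2 := by rw [← pow_mul, mul_comm]
      _ ≤ |N χ| ^ 2 := by gcongr
      _ = N χ ^ 2 := sq_abs _
  -- split off `χ₀`
  have hχ₀f : χ₀ ∈ Bf := (hmemBf χ₀).2 hχ₀
  rw [finsum_mem_eq_finite_toFinset_sum _ (Set.toFinite B)]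
  have hBf' : (Set.toFinite B).toFinset = Bf := by
    ext χ
    simp [hBf]
  rw [hBf']
  have hsplit : ∑ χ ∈ Bf, N χ ^ 2 = N χ₀ ^ 2 + ∑ χ ∈ Bf.erase χ₀, N χ ^ 2 :=
    (Finset.add_sum_erase Bf (fun χ => N χ ^ 2) hχ₀f).symm
  have hsum1 : ((∑ χ ∈ Bf, p ^ (2 * blockHeight p B (χ : G → ℂ)) : ℕ) : ℤ) ≤
      1 + ((p : ℤ) ^ d * N χ₀ - N χ₀ ^ 2) := by
    rw [← Finset.add_sum_erase Bf _ hχ₀f, h0, mul_zero, pow_zero]
    push_cast
    have h3 : ∑ χ ∈ Bf.erase χ₀, ((p : ℤ) ^ (2 * blockHeight p B (χ : G → ℂ))) ≤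
        ∑ χ ∈ Bf.erase χ₀, N χ ^ 2 :=
      Finset.sum_le_sum fun χ hχ => hlow χ (Finset.mem_of_mem_erase hχ)
    have h4 : ∑ χ ∈ Bf.erase χ₀, N χ ^ 2 = (p : ℤ) ^ d * N χ₀ - N χ₀ ^ 2 := by
      rw [← hquad, hsplit]; ring
    linarith
  have h5 : 4 * ((p : ℤ) ^ d * N χ₀ - N χ₀ ^ 2) ≤ (p : ℤ) ^ (2 * d) := by
    have : (p : ℤ) ^ (2 * d) = ((p : ℤ) ^ d) ^ 2 := by rw [← pow_mul, mul_comm]
    rw [this]
    nlinarith [sq_nonneg ((p : ℤ) ^ d - 2 * N χ₀)]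
  have h6 : ((∑ χ ∈ Bf, p ^ (2 * blockHeight p B (χ : G → ℂ)) : ℕ) : ℤ) ≤
      ((p ^ (2 * d) / 4 + 1 : ℕ) : ℤ) := by
    push_cast
    have h7 : ((p : ℤ) ^ d * N χ₀ - N χ₀ ^ 2) ≤ (p : ℤ) ^ (2 * d) / 4 := by
      rw [Int.le_ediv_iff_mul_le (by norm_num)]
      linarith
    push_cast at hsum1
    linarith
  exact_mod_cast h6

/-- **Brauer–Feit**: `4 k(B) ≤ p ^ (2 d) + 4`. -/
theorem four_mul_card_block_le (hM : IsPModular p M) {B : Set (IrrCharacter G)}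
    (hB : IsPBlock M B) : 4 * Nat.card B ≤ p ^ (2 * blockDefect p B) + 4 := by
  classical
  have : Fintype (IrrCharacter G) := Fintype.ofFinite _
  have h1 := sum_pow_height_le hM hB
  have h2 : Nat.card B ≤ ∑ᶠ χ ∈ B, p ^ (2 * blockHeight p B (χ : G → ℂ)) := by
    rw [finsum_mem_eq_finite_toFinset_sum _ (Set.toFinite B), Nat.card_eq_card_finite_toFinset
      (Set.toFinite B), Finset.card_eq_sum_ones]
    apply Finset.sum_le_sum
    intro χ _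
    exact Nat.one_le_pow _ _ hM.1.pos
  have h3 := Nat.div_mul_le_self (p ^ (2 * blockDefect p B)) 4
  omega

end

end Cfsg.Agent.Lib.Helper8
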