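import Mathlib
import Cfsg.Prelude.Def_Blocks
import Cfsg.Prelude.Def_BlockRank
import Cfsg.Agent.Lib.Helper8.D2
import Cfsg.Agent.Lib.Helper8.Rey5
import Cfsg.Agent.Lib.Helper8.Sub15
import Cfsg.Agent.Lib.Helper8.Sub16
import Cfsg.Agent.S4494

/-!
# 2-blocks of defect one
-/

set_option autoImplicit false
set_option maxHeartbeats 800000

namespace Cfsg.Agent.Lib.Helper8

open Cfsg
open scoped ComplexConjugate
open Cfsg.Agent.Lib.Helper1 Cfsg.Agent.Lib.Helper4

universe u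

section

variable {G : Type u} [Group G] [Fintype G] {M : Ideal AlgInt}

theorem defect_one_two_block (hM : IsPModular 2 M) {x : G} (hx : orderOf x = 2)
    {B : Set (IrrCharacter G)} (hB : IsPBlock M B)
    (hBD : IsDefectGroup 2 M B (Subgroup.zpowers x))
    {b : Set (IrrCharacter ↥(Subgroup.centralizer ({x} : Set G)))}
    (hind : IsInducedBlock M (Subgroup.centralizer ({x} : Set G)) b B)
    {θ : IrrCharacter ↥(Subgroup.centralizer ({x} : Set G))} (hθ : θ ∈ b)
    (hθx : ∀ z : ↥(Subgroup.centralizer ({x} : Set G)), (z : G) = x →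
      (θ : ↥(Subgroup.centralizer ({x} : Set G)) → ℂ) z =
        (θ : ↥(Subgroup.centralizer ({x} : Set G)) → ℂ) 1) :
    Nat.card B = 2 ∧
    (∀ χ ∈ B, ∀ ψ ∈ B, ∀ g : G, ¬ 2 ∣ orderOf g → (χ : G → ℂ) g = (ψ : G → ℂ) g) ∧
    ∃ χ₁ ∈ B, ∃ χ₂ ∈ B, χ₁ ≠ χ₂ ∧ ∃ ε₁ ε₂ : ℤ, (ε₁ = 1 ∨ ε₁ = -1) ∧ (ε₂ = 1 ∨ ε₂ = -1) ∧
      ε₁ * ε₂ = -1 ∧ ∀ y : ↥(Subgroup.centralizer ({x} : Set G)), ¬ 2 ∣ orderOf y →
        (χ₁ : G → ℂ) (x * y) = (ε₁ : ℂ) * (θ : ↥(Subgroup.centralizer ({x} : Set G)) → ℂ) y ∧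
        (χ₂ : G → ℂ) (x * y) = (ε₂ : ℂ) * (θ : ↥(Subgroup.centralizer ({x} : Set G)) → ℂ) y := by
  classical
  have hMp := isPModular_isPrime hM
  have : Fintype (IrrCharacter G) := Fintype.ofFinite _
  have : Fintype ↥(Subgroup.centralizer ({x} : Set G)) := Fintype.ofFinite _
  have : Fintype (IrrCharacter ↥(Subgroup.centralizer ({x} : Set G))) := Fintype.ofFinite _
  have hxC : x ∈ Subgroup.centralizer ({x} : Set G) := Subgroup.mem_centralizer_singleton_iff.2 rfl
  have hC : ∀ t, t ∈ Subgroup.centralizer ({x} : Set G) ↔ t * x = x * t :=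
    fun t => Subgroup.mem_centralizer_singleton_iff
  have hx2 : ∃ k : ℕ, orderOf x = 2 ^ k := ⟨1, by rw [hx, pow_one]⟩
  set z : ↥(Subgroup.centralizer ({x} : Set G)) := ⟨x, hxC⟩ with hzdef
  have hzc : ∀ c : ↥(Subgroup.centralizer ({x} : Set G)), z * c = c * z :=
    fun c => Subtype.ext ((hC c).1 c.2).symm
  have hz : orderOf z = 2 := by
    rw [← hx]
    exact Subgroup.orderOf_mk x hxC
  have hzp : Subgroup.zpowers z =
      (Subgroup.zpowers x).subgroupOf (Subgroup.centralizer ({x} : Set G)) := by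
    ext c
    rw [Subgroup.mem_subgroupOf, Subgroup.mem_zpowers_iff, Subgroup.mem_zpowers_iff]
    constructor
    · rintro ⟨k, hk⟩
      refine ⟨k, ?_⟩
      rw [← hk]
      rfl
    · rintro ⟨k, hk⟩
      refine ⟨k, ?_⟩
      apply Subtype.ext
      rw [← hk]
      rfl
  have hb := hind.1
  have hDb : IsDefectGroup 2 M b (Subgroup.zpowers z) := by
    rw [hzp]
    exact isDefectGroup_of_induced_orderOf_two hM hx hB hBD hind
  have hker : ∀ u ∈ Subgroup.zpowers z,
      (θ : ↥(Subgroup.centralizer ({x} : Set G)) → ℂ) u =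
        (θ : ↥(Subgroup.centralizer ({x} : Set G)) → ℂ) 1 := by
    intro u hu
    rw [hzp, Subgroup.mem_subgroupOf] at hu
    rcases mem_zpowers_of_orderOf_two hx hu with h | h
    · have : u = 1 := Subtype.ext h
      rw [this]
    · exact hθx u h
  have hone : ¬ 2 ∣ orderOf (1 : ↥(Subgroup.centralizer ({x} : Set G))) := by
    rw [orderOf_one]
    norm_num
  -- multiplicities and signs
  have hm : ∀ (χ : IrrCharacter G) (ξ : IrrCharacter ↥(Subgroup.centralizer ({x} : Set G))),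
      ∃ e : ℕ, classInner (fun c : ↥(Subgroup.centralizer ({x} : Set G)) => (χ : G → ℂ) c)
        (ξ : ↥(Subgroup.centralizer ({x} : Set G)) → ℂ) = e :=
    fun χ ξ => exists_nat_restrict_mult _ χ.2 ξ.2
  choose m hm using hm
  have hs : ∀ ξ : IrrCharacter ↥(Subgroup.centralizer ({x} : Set G)), ∃ s : ℤ,
      (s : ℂ) = centralSign hzc ξ ∧ (s = 1 ∨ s = -1) := by
    intro ξ
    rcases centralSign_sq hz hzc ξ with h | h
    · exact ⟨1, by rw [h]; simp, Or.inl rfl⟩
    · exact ⟨-1, by rw [h]; simp, Or.inr rfl⟩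
  choose s hs hs' using hs
  set ε : IrrCharacter G → ℤ := fun χ =>
    ∑ ξ : IrrCharacter ↥(Subgroup.centralizer ({x} : Set G)),
      if ξ ∈ b then (m χ ξ : ℤ) * s ξ else 0 with hε
  -- expansion of the section function
  have hf : ∀ χ : IrrCharacter G,
      (fun c : ↥(Subgroup.centralizer ({x} : Set G)) => (χ : G → ℂ) (x * (c : G))) =
      fun c => ∑ ξ : IrrCharacter ↥(Subgroup.centralizer ({x} : Set G)),
        ((m χ ξ : ℂ) * (s ξ : ℂ)) * (ξ : ↥(Subgroup.centralizer ({x} : Set G)) → ℂ) c := by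
    intro χ
    funext c
    have h1 := congrFun (class_function_expansion
      (fun c' : ↥(Subgroup.centralizer ({x} : Set G)) => (χ : G → ℂ) c')
      (isClassFunction_restrict _ (isClassFunction_irr χ.2))) (z * c)
    rw [Finset.sum_apply] at h1
    have h2 : (χ : G → ℂ) (x * (c : G)) = (χ : G → ℂ) ((z * c :
        ↥(Subgroup.centralizer ({x} : Set G))) : G) := rfl
    rw [h2, h1]
    refine Finset.sum_congr rfl fun ξ _ => ?_
    rw [Pi.smul_apply, smul_eq_mul, hm, irr_central_involution_mul hzc ξ c, hs]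
    ring
  have hbp : ∀ (χ : IrrCharacter G) (e : Set (IrrCharacter ↥(Subgroup.centralizer ({x} : Set G))))
      (y : ↥(Subgroup.centralizer ({x} : Set G))),
      blockPart e (fun c : ↥(Subgroup.centralizer ({x} : Set G)) => (χ : G → ℂ) (x * (c : G))) y =
      ∑ ξ : IrrCharacter ↥(Subgroup.centralizer ({x} : Set G)),
        ((m χ ξ : ℂ) * (s ξ : ℂ)) * ((if ξ ∈ e then (1 : ℂ) else 0) *
          (ξ : ↥(Subgroup.centralizer ({x} : Set G)) → ℂ) y) := by
    intro χ e y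
    rw [hf χ, blockPart_sum_mul Finset.univ e _
      (fun ξ : IrrCharacter ↥(Subgroup.centralizer ({x} : Set G)) =>
        (ξ : ↥(Subgroup.centralizer ({x} : Set G)) → ℂ)) y]
    refine Finset.sum_congr rfl fun ξ _ => ?_
    rw [blockPart_irr]
  have hB1 : ∀ (χ : IrrCharacter G) (y : ↥(Subgroup.centralizer ({x} : Set G))),
      ¬ 2 ∣ orderOf y →
      blockPart b (fun c : ↥(Subgroup.centralizer ({x} : Set G)) => (χ : G → ℂ) (x * (c : G))) y =
      (ε χ : ℂ) * (θ : ↥(Subgroup.centralizer ({x} : Set G)) → ℂ) y := by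
    intro χ y hy
    rw [hbp, hε]
    push_cast
    rw [Finset.sum_mul]
    refine Finset.sum_congr rfl fun ξ _ => ?_
    by_cases hξ : ξ ∈ b
    · rw [if_pos hξ, if_pos hξ, one_mul,
        apply_eq_canonical_of_central_involution hM hzc hb hDb hθ hker hξ hy]
    · rw [if_neg hξ, if_neg hξ]
      simp
  have hA : ∀ χ ∈ B, ∀ y : ↥(Subgroup.centralizer ({x} : Set G)), ¬ 2 ∣ orderOf y →
      (χ : G → ℂ) (x * (y : G)) = (ε χ : ℂ) * (θ : ↥(Subgroup.centralizer ({x} : Set G)) → ℂ) y := by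
    intro χ hχ y hy
    have hcf := isClassFunction_section (Subgroup.centralizer ({x} : Set G)) hC
      (isClassFunction_irr χ.2)
    have hsum := sum_blocks_blockPart (M := M) hMp hcf y
    rw [Finset.sum_eq_single b] at hsum
    · rw [← hsum, hB1 χ y hy]
    · intro e he hne
      rw [mem_blocksFinset] at he
      obtain ⟨B', hind'⟩ := inducedBlockDefined_centralizer hM hx2 he
      apply blockPart_section_eq_zero hM _ hC hx2 hind' _ hy
      intro hχB'
      apply hne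
      have hB'eq : B' = B := by
        rw [eq_blockOf_of_mem hMp hind'.2.1 hχB', eq_blockOf_of_mem hMp hB hχ]
      rw [hB'eq] at hind'
      exact inducing_block_unique_of_orderOf_two hM hx hB hBD hind hind'
    · intro h
      exact absurd ((mem_blocksFinset _).2 hb) h
  -- the sum of the squares of the signs
  set sB : Finset (IrrCharacter G) := Finset.univ.filter (fun χ => χ ∈ B) with hsB
  have hmemB : ∀ χ : IrrCharacter G, χ ∈ sB ↔ χ ∈ B := by
    intro χ
    rw [hsB, Finset.mem_filter]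
    simp
  have hθ1 : (θ : ↥(Subgroup.centralizer ({x} : Set G)) → ℂ) 1 ≠ 0 := irr_apply_one_ne_zero θ.2
  have hθc : conj ((θ : ↥(Subgroup.centralizer ({x} : Set G)) → ℂ) 1) =
      (θ : ↥(Subgroup.centralizer ({x} : Set G)) → ℂ) 1 := by
    rw [(irr_apply_one_eq_charDegree θ.2).1, Complex.conj_natCast]
  have hS : ∑ χ ∈ sB, ε χ ^ 2 = 2 := by
    have h1 := sum_irr_conj_mul_blockPart_section hM (Subgroup.centralizer ({x} : Set G)) hC hx2
      hb (y := 1) (y' := 1) hone hone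
    have hL : ∀ ζ : IrrCharacter G,
        conj ((ζ : G → ℂ) (x * ((1 : ↥(Subgroup.centralizer ({x} : Set G))) : G))) *
        blockPart b (fun c : ↥(Subgroup.centralizer ({x} : Set G)) =>
          (ζ : G → ℂ) (x * (c : G))) 1 =
        (if ζ ∈ B then ((ε ζ ^ 2 : ℤ) : ℂ) else 0) *
          ((θ : ↥(Subgroup.centralizer ({x} : Set G)) → ℂ) 1) ^ 2 := by
      intro ζ
      by_cases hζ : ζ ∈ B
      · rw [if_pos hζ, hB1 ζ 1 hone, hA ζ hζ 1 hone, map_mul, map_intCast, hθc]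
        push_cast
        ring
      · rw [if_neg hζ, blockPart_section_eq_zero hM _ hC hx2 hind hζ hone]
        simp
    have hR : ∀ ξ : IrrCharacter ↥(Subgroup.centralizer ({x} : Set G)),
        (by classical exact if ξ ∈ b then (1 : ℂ) else 0) *
        (conj ((ξ : ↥(Subgroup.centralizer ({x} : Set G)) → ℂ) 1) *
          (ξ : ↥(Subgroup.centralizer ({x} : Set G)) → ℂ) 1) =
        (if ξ ∈ b then (1 : ℂ) else 0) *
          ((θ : ↥(Subgroup.centralizer ({x} : Set G)) → ℂ) 1) ^ 2 := by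
      intro ξ
      by_cases hξ : ξ ∈ b
      · have : (by classical exact if ξ ∈ b then (1 : ℂ) else 0) = (1 : ℂ) := by
          simp only [hξ, if_true]
        rw [this,
          apply_eq_canonical_of_central_involution hM hzc hb hDb hθ hker hξ hone, hθc]
        ring
      · have : (by classical exact if ξ ∈ b then (1 : ℂ) else 0) = (0 : ℂ) := by
          simp only [hξ, if_false]
        rw [this, zero_mul, zero_mul]
    rw [Finset.sum_congr rfl fun ζ _ => hL ζ, Finset.sum_congr rfl fun ξ _ => hR ξ,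
      ← Finset.sum_mul, ← Finset.sum_mul] at h1
    have h2 := mul_right_cancel₀ (pow_ne_zero 2 hθ1) h1
    have h3 : ∑ ξ : IrrCharacter ↥(Subgroup.centralizer ({x} : Set G)),
        (if ξ ∈ b then (1 : ℂ) else 0) = 2 := by
      rw [Finset.sum_boole]
      have h4 := card_block_of_central_involution hM hzc hz hb hDb
      rw [Nat.card_eq_fintype_card, Fintype.card_subtype] at h4
      have h5 : (Finset.univ.filter fun ξ : IrrCharacter ↥(Subgroup.centralizer ({x} : Set G)) =>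
          ξ ∈ b).card = 2 := by
        rw [← h4]
      rw [h5]
      norm_num
    rw [h3] at h2
    have h6 : ((∑ χ ∈ sB, ε χ ^ 2 : ℤ) : ℂ) = ((2 : ℤ) : ℂ) := by
      rw [Int.cast_sum, hsB, Finset.sum_filter]
      push_cast
      rw [← h2]
      refine Finset.sum_congr rfl fun ζ _ => ?_
      split_ifs <;> simp
    exact_mod_cast h6
  -- the cardinality bound
  have hcard2 : sB.card ≤ 2 := by
    have h1 := Cfsg.Agent.S4494.result 2 M hM B hB
    have h2 := card_of_isDefectGroup hM hB hBD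
    rw [Nat.card_zpowers, hx] at h2
    have h3 : blockDefect 2 B = 1 := by
      have : (2 : ℕ) ^ 1 = 2 ^ blockDefect 2 B := by rw [pow_one]; exact h2
      exact (Nat.pow_right_injective (le_refl 2) this).symm
    rw [h3] at h1
    have h4 : Nat.card B = sB.card := by
      rw [Nat.card_eq_fintype_card, Fintype.card_subtype]
    rw [h4] at h1
    omega
  have hle1 : ∀ χ ∈ sB, ε χ ^ 2 ≤ 1 := by
    intro χ hχ
    have h1 : ε χ ^ 2 ≤ ∑ χ' ∈ sB, ε χ' ^ 2 :=
      Finset.single_le_sum (f := fun χ' => ε χ' ^ 2) (fun _ _ => sq_nonneg _) hχ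
    rw [hS] at h1
    have h2 : -1 ≤ ε χ ∧ ε χ ≤ 1 := by constructor <;> nlinarith
    nlinarith [h2.1, h2.2]
  have hcardeq : sB.card = 2 ∧ ∀ χ ∈ sB, ε χ ^ 2 = 1 := by
    have h1 : ∑ χ ∈ sB, ε χ ^ 2 ≤ ∑ _χ ∈ sB, (1 : ℤ) := Finset.sum_le_sum hle1
    rw [hS, Finset.sum_const, nsmul_eq_mul, mul_one] at h1
    have h2 : sB.card = 2 := by
      have : (2 : ℤ) ≤ (sB.card : ℤ) := h1
      omega
    refine ⟨h2, ?_⟩
    have h3 : ∑ χ ∈ sB, ε χ ^ 2 = ∑ _χ ∈ sB, (1 : ℤ) := by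
      rw [hS, Finset.sum_const, nsmul_eq_mul, mul_one, h2]
      norm_num
    exact (Finset.sum_eq_sum_iff_of_le hle1).1 h3
  obtain ⟨hc2, hsq⟩ := hcardeq
  obtain ⟨χ₁, χ₂, hne, hpair⟩ := Finset.card_eq_two.1 hc2
  have hχ₁s : χ₁ ∈ sB := by rw [hpair]; simp
  have hχ₂s : χ₂ ∈ sB := by rw [hpair]; simp
  have hχ₁B := (hmemB χ₁).1 hχ₁s
  have hχ₂B := (hmemB χ₂).1 hχ₂s
  have hpm : ∀ χ ∈ sB, ε χ = 1 ∨ ε χ = -1 := by
    intro χ hχ
    have h1 := hsq χ hχ
    have h2 : (ε χ - 1) * (ε χ + 1) = 0 := by ring_nf; rw [h1]; ring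
    rcases mul_eq_zero.1 h2 with h | h
    · left; omega
    · right; omega
  -- orthogonality with the elements of odd order
  have hxinv : x⁻¹ = x := by
    rw [inv_eq_iff_mul_eq_one]
    exact sq_eq_one_of_orderOf_two hx
  have hxval : ∀ χ ∈ B, (χ : G → ℂ) x = (ε χ : ℂ) *
      (θ : ↥(Subgroup.centralizer ({x} : Set G)) → ℂ) 1 := by
    intro χ hχ
    have := hA χ hχ 1 hone
    rw [OneMemClass.coe_one, mul_one] at this
    exact this
  have horth : ∀ g : G, ¬ 2 ∣ orderOf g →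
      (χ₁ : G → ℂ) g * (ε χ₁ : ℂ) + (χ₂ : G → ℂ) g * (ε χ₂ : ℂ) = 0 := by
    intro g hg
    have hgx : IsPPart 2 g 1 := ⟨g, one_mul g, Commute.one_left g, ⟨0, by simp⟩, hg⟩
    have hhy : IsPPart 2 x x := ⟨1, mul_one x, Commute.one_right x, hx2, by simp⟩
    have hnc : ¬ IsConj (1 : G) x := by
      rw [isConj_one_right]
      exact ne_one_of_orderOf_two hx
    have h1 := block_orthogonality hM hB hgx hhy hnc
    rw [hxinv, finsum_mem_eq_finite_toFinset_sum _ (Set.toFinite B)] at h1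
    have h2 : (Set.toFinite B).toFinset = sB := by
      ext χ
      rw [Set.Finite.mem_toFinset, hmemB]
    rw [h2, hpair, Finset.sum_pair hne, hxval χ₁ hχ₁B, hxval χ₂ hχ₂B] at h1
    have h3 : ((χ₁ : G → ℂ) g * (ε χ₁ : ℂ) + (χ₂ : G → ℂ) g * (ε χ₂ : ℂ)) *
        (θ : ↥(Subgroup.centralizer ({x} : Set G)) → ℂ) 1 = 0 := by
      rw [← h1]
      ring
    rcases mul_eq_zero.1 h3 with h | h
    · exact h
    · exact absurd h hθ1
  have hgone : ¬ 2 ∣ orderOf (1 : G) := by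
    rw [orderOf_one]
    norm_num
  have hprod : ε χ₁ * ε χ₂ = -1 := by
    have h1 := horth 1 hgone
    rw [(irr_apply_one_eq_charDegree χ₁.2).1, (irr_apply_one_eq_charDegree χ₂.2).1] at h1
    have h2 : (charDegree (χ₁ : G → ℂ) : ℤ) * ε χ₁ + (charDegree (χ₂ : G → ℂ) : ℤ) * ε χ₂ = 0 := by
      exact_mod_cast h1
    have hp1 := (irr_apply_one_eq_charDegree χ₁.2).2
    have hp2 := (irr_apply_one_eq_charDegree χ₂.2).2
    rcases hpm χ₁ hχ₁s with h | h <;> rcases hpm χ₂ hχ₂s with h' | h' <;> rw [h, h'] at h2 ⊢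
    · exfalso; omega
    · rfl
    · rfl
    · exfalso; omega
  have hneg : (ε χ₂ : ℂ) = -(ε χ₁ : ℂ) := by
    rcases hpm χ₁ hχ₁s with h | h <;> rcases hpm χ₂ hχ₂s with h' | h' <;>
      rw [h, h'] at hprod ⊢
    · exfalso; omega
    · push_cast; ring
    · push_cast; ring
    · exfalso; omega
  have heq : ∀ g : G, ¬ 2 ∣ orderOf g → (χ₁ : G → ℂ) g = (χ₂ : G → ℂ) g := by
    intro g hg
    have h1 := horth g hg
    rw [hneg] at h1
    have hε0 : (ε χ₁ : ℂ) ≠ 0 := by
      rcases hpm χ₁ hχ₁s with h | h <;> rw [h] <;> norm_num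
    have h2 : ((χ₁ : G → ℂ) g - (χ₂ : G → ℂ) g) * (ε χ₁ : ℂ) = 0 := by
      rw [← h1]
      ring
    rcases mul_eq_zero.1 h2 with h | h
    · exact sub_eq_zero.1 h
    · exact absurd h hε0
  have hBpair : ∀ χ ∈ B, χ = χ₁ ∨ χ = χ₂ := by
    intro χ hχ
    have := (hmemB χ).2 hχ
    rw [hpair] at this
    simpa using this
  refine ⟨?_, ?_, χ₁, hχ₁B, χ₂, hχ₂B, hne, ε χ₁, ε χ₂, hpm χ₁ hχ₁s, hpm χ₂ hχ₂s, hprod,
    fun y hy => ⟨hA χ₁ hχ₁B y hy, hA χ₂ hχ₂B y hy⟩⟩
  · rw [Nat.card_eq_fintype_card, Fintype.card_subtype]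
    exact hc2
  · intro χ hχ ψ hψ g hg
    rcases hBpair χ hχ with rfl | rfl <;> rcases hBpair ψ hψ with rfl | rfl
    · rfl
    · exact heq g hg
    · exact (heq g hg).symm
    · rfl

end

end Cfsg.Agent.Lib.Helper8
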