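import Mathlib

/-!
# Group-theoretic setup: a subgroup of prime order `p` in a group whose order is not divisible
by `p²`, its normalizer and a complement
-/

set_option autoImplicit false
set_option maxHeartbeats 800000

namespace Cfsg.Agent.Lib.Helper8

section

variable {G : Type*} [Group G] [Finite G] (p : ℕ) [hp : Fact p.Prime]

omit [Finite G] hp in
/-- The normalizer data of a subgroup of order `p`. -/
theorem setup_orderOf {x : G} (hx : orderOf x = p)
    (hxN : x ∈ Subgroup.normalizer ((Subgroup.zpowers x : Subgroup G) : Set G)) :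
    orderOf (⟨x, hxN⟩ : Subgroup.normalizer ((Subgroup.zpowers x : Subgroup G) : Set G)) = p := by
  rw [← hx]
  exact (Subgroup.orderOf_mk x hxN)

omit [Finite G] in
theorem setup_subgroupOf (x : G)
    (hxN : x ∈ Subgroup.normalizer ((Subgroup.zpowers x : Subgroup G) : Set G)) :
    (Subgroup.zpowers x).subgroupOf (Subgroup.normalizer ((Subgroup.zpowers x : Subgroup G) : Set G))
      = Subgroup.zpowers (⟨x, hxN⟩ :
          Subgroup.normalizer ((Subgroup.zpowers x : Subgroup G) : Set G)) := by
  ext u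
  rw [Subgroup.mem_subgroupOf, Subgroup.mem_zpowers_iff, Subgroup.mem_zpowers_iff]
  constructor
  · rintro ⟨k, hk⟩
    refine ⟨k, Subtype.ext ?_⟩
    rw [← hk]
    simp
  · rintro ⟨k, hk⟩
    refine ⟨k, ?_⟩
    rw [← hk]
    simp

theorem setup_hnorm {x : G}
    (hxN : x ∈ Subgroup.normalizer ((Subgroup.zpowers x : Subgroup G) : Set G))
    (g : Subgroup.normalizer ((Subgroup.zpowers x : Subgroup G) : Set G)) :
    ∃ n : ℕ, g * ⟨x, hxN⟩ * g⁻¹ = (⟨x, hxN⟩ :
      Subgroup.normalizer ((Subgroup.zpowers x : Subgroup G) : Set G)) ^ n := by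
  have h1 : (g : G) * x * (g : G)⁻¹ ∈ Subgroup.zpowers x :=
    (Subgroup.mem_normalizer_iff.1 g.2 x).1 (Subgroup.mem_zpowers x)
  have hfin : IsOfFinOrder x := isOfFinOrder_of_finite x
  rw [← hfin.mem_powers_iff_mem_zpowers] at h1
  obtain ⟨n, hn⟩ := (Submonoid.mem_powers_iff _ _).1 h1
  refine ⟨n, Subtype.ext ?_⟩
  rw [Subgroup.coe_pow, Subgroup.coe_mul, Subgroup.coe_mul, Subgroup.coe_inv]
  exact hn.symm

omit [Finite G] in
/-- The index of a subgroup of order `p` in its normalizer is prime to `p`. -/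
theorem setup_coprime {x : G} (hx : orderOf x = p) (hsq : ¬ p ^ 2 ∣ Nat.card G) :
    Nat.Coprime (Nat.card ((Subgroup.zpowers x).subgroupOf
      (Subgroup.normalizer ((Subgroup.zpowers x : Subgroup G) : Set G))))
      ((Subgroup.zpowers x).subgroupOf
        (Subgroup.normalizer ((Subgroup.zpowers x : Subgroup G) : Set G))).index := by
  set N := Subgroup.normalizer ((Subgroup.zpowers x : Subgroup G) : Set G) with hN
  set P' := (Subgroup.zpowers x).subgroupOf N with hP'
  have hle : Subgroup.zpowers x ≤ N := Subgroup.le_normalizer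
  have hcard : Nat.card P' = p := by
    rw [hP', Nat.card_congr (Subgroup.subgroupOfEquivOfLe hle).toEquiv, Nat.card_zpowers, hx]
  rw [hcard, Nat.Prime.coprime_iff_not_dvd hp.out]
  intro hdvd
  apply hsq
  have h1 : Nat.card P' * P'.index = Nat.card N := P'.card_mul_index
  have h2 : Nat.card N ∣ Nat.card G := Subgroup.card_subgroup_dvd_card N
  refine dvd_trans ?_ h2
  rw [← h1, hcard, pow_two]
  exact Nat.mul_dvd_mul_left p hdvd

/-- **The trivial-intersection property**: if `p²` does not divide the group order, a conjugate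
of the subgroup `P` of order `p` inside `N(P)` equals `P`. -/
theorem setup_hfix {x : G} (hx : orderOf x = p) (hsq : ¬ p ^ 2 ∣ Nat.card G) (g : G)
    (hg : ∀ u ∈ Subgroup.zpowers x,
      g⁻¹ * u * g ∈ Subgroup.normalizer ((Subgroup.zpowers x : Subgroup G) : Set G)) :
    g ∈ Subgroup.normalizer ((Subgroup.zpowers x : Subgroup G) : Set G) := by
  set N := Subgroup.normalizer ((Subgroup.zpowers x : Subgroup G) : Set G) with hN
  set P' := (Subgroup.zpowers x).subgroupOf N with hP'
  have hcop := setup_coprime p hx hsq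
  rw [← hN, ← hP'] at hcop
  have hle : Subgroup.zpowers x ≤ N := Subgroup.le_normalizer
  have hcard : Nat.card P' = p := by
    rw [hP', Nat.card_congr (Subgroup.subgroupOfEquivOfLe hle).toEquiv, Nat.card_zpowers, hx]
  rw [hcard] at hcop
  have hyN : g⁻¹ * x * g ∈ N := hg x (Subgroup.mem_zpowers x)
  -- the image of `y` in `N / P'` is trivial
  have hnormal : P'.Normal := Subgroup.normal_in_normalizer
  set y' : N := ⟨g⁻¹ * x * g, hyN⟩ with hy'
  have hyp : y' ^ p = 1 := by
    apply Subtype.ext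
    rw [Subgroup.coe_pow, Subgroup.coe_one]
    show (g⁻¹ * x * g) ^ p = 1
    have : (g⁻¹ * x * g) ^ p = g⁻¹ * x ^ p * g := by
      have := conj_pow (a := g⁻¹) (b := x) (i := p)
      simpa using this
    rw [this, ← hx, pow_orderOf_eq_one]
    group
  have hq1 : ((y' : N) : N ⧸ P') ^ p = 1 := by
    rw [← QuotientGroup.mk_pow, hyp, QuotientGroup.mk_one]
  have hq2 : ((y' : N) : N ⧸ P') ^ (Nat.card (N ⧸ P')) = 1 := pow_card_eq_one'
  have hq3 : ((y' : N) : N ⧸ P') = 1 := by
    have hidx : Nat.card (N ⧸ P') = P'.index := rfl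
    rw [hidx] at hq2
    have h1 : orderOf ((y' : N) : N ⧸ P') ∣ p := orderOf_dvd_of_pow_eq_one hq1
    have h2 : orderOf ((y' : N) : N ⧸ P') ∣ P'.index := orderOf_dvd_of_pow_eq_one hq2
    have h3 : orderOf ((y' : N) : N ⧸ P') = 1 := Nat.eq_one_of_dvd_coprimes hcop h1 h2
    exact orderOf_eq_one_iff.1 h3
  have hyP : y' ∈ P' := (QuotientGroup.eq_one_iff y').1 hq3
  have hyP2 : g⁻¹ * x * g ∈ Subgroup.zpowers x := Subgroup.mem_subgroupOf.1 hyP
  -- so `g⁻¹` normalizes `P`
  have hginv : g⁻¹ ∈ N := by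
    apply Subgroup.mem_normalizer_fintype
    intro n hn
    obtain ⟨k, rfl⟩ := Subgroup.mem_zpowers_iff.1 hn
    have : g⁻¹ * x ^ k * g⁻¹⁻¹ = (g⁻¹ * x * g) ^ k := by
      have := conj_zpow (a := g⁻¹) (b := x) (i := k)
      simpa using this.symm
    rw [this]
    exact (Subgroup.zpowers x).zpow_mem hyP2 k
  have := N.inv_mem hginv
  simpa using this

/-- A complement to `P` in its normalizer, with the properties used. -/
theorem setup_complement {x : G} (hx : orderOf x = p) (hsq : ¬ p ^ 2 ∣ Nat.card G) :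
    ∃ L : Subgroup (Subgroup.normalizer ((Subgroup.zpowers x : Subgroup G) : Set G)),
      (∀ g, ∃ u ∈ (Subgroup.zpowers x).subgroupOf
          (Subgroup.normalizer ((Subgroup.zpowers x : Subgroup G) : Set G)),
        ∃ l ∈ L, g = u * l) ∧ ¬ p ∣ Nat.card L ∧
      (∀ l ∈ L, ∀ u, u ∈ (Subgroup.zpowers x).subgroupOf
          (Subgroup.normalizer ((Subgroup.zpowers x : Subgroup G) : Set G)) ↔
        l * u * l⁻¹ ∈ (Subgroup.zpowers x).subgroupOf
          (Subgroup.normalizer ((Subgroup.zpowers x : Subgroup G) : Set G))) := by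
  set N := Subgroup.normalizer ((Subgroup.zpowers x : Subgroup G) : Set G) with hN
  set P' := (Subgroup.zpowers x).subgroupOf N with hP'
  have hcop := setup_coprime p hx hsq
  rw [← hN, ← hP'] at hcop
  have hle : Subgroup.zpowers x ≤ N := Subgroup.le_normalizer
  have hcard : Nat.card P' = p := by
    rw [hP', Nat.card_congr (Subgroup.subgroupOfEquivOfLe hle).toEquiv, Nat.card_zpowers, hx]
  have hnormal : P'.Normal := Subgroup.normal_in_normalizer
  obtain ⟨L, hL⟩ := Subgroup.exists_right_complement'_of_coprime hcop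
  refine ⟨L, ?_, ?_, ?_⟩
  · intro g
    obtain ⟨⟨u, l⟩, hul, -⟩ := (Subgroup.isComplement_iff_existsUnique.1 hL) g
    exact ⟨u, u.2, l, l.2, hul.symm⟩
  · have h1 : Nat.card P' * Nat.card L = Nat.card N := hL.card_mul_card
    have h2 : Nat.card P' * P'.index = Nat.card N := P'.card_mul_index
    have h3 : Nat.card L = P'.index := by
      have hpos : 0 < Nat.card P' := Nat.card_pos
      exact Nat.eq_of_mul_eq_mul_left hpos (h1.trans h2.symm)
    rw [h3]
    rw [hcard] at hcop
    exact (Nat.Prime.coprime_iff_not_dvd hp.out).1 hcop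
  · intro l _ u
    constructor
    · intro hu
      exact hnormal.conj_mem u hu l
    · intro hu
      have := hnormal.conj_mem _ hu l⁻¹
      simpa [mul_assoc] using this

end

end Cfsg.Agent.Lib.Helper8
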