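import Mathlib
import Cfsg.Agent.Lib.Helper8.MR20

/-!
# Blocks of defect one: group-theoretic setup

`x` has prime order `p`, and `p²` does not divide the order of `G`.
-/

set_option autoImplicit false
set_option maxHeartbeats 800000

namespace Cfsg.Agent.Lib.Helper8

section

variable {G : Type*} [Group G] [Finite G] {p : ℕ} [hp : Fact p.Prime]

omit [Finite G] hp in
theorem d1_card_zpowers {x : G} (hx : orderOf x = p) : Nat.card (Subgroup.zpowers x) = p := by
  rw [Nat.card_zpowers, hx]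

/-- A `p`-element commuting with `x` is a power of `x`. -/
theorem d1_mem_zpowers {x : G} (hx : orderOf x = p) (hsq : ¬ p ^ 2 ∣ Nat.card G) {u : G}
    (hu : ∃ k : ℕ, orderOf u = p ^ k) (hux : u * x = x * u) : u ∈ Subgroup.zpowers x := by
  obtain ⟨k, hk⟩ := hu
  have hH : IsPGroup p (Subgroup.zpowers u) := by
    apply IsPGroup.of_card (n := k)
    rw [Nat.card_zpowers, hk]
  have hK : IsPGroup p (Subgroup.zpowers x) := by
    apply IsPGroup.of_card (n := 1)
    rw [Nat.card_zpowers, hx, pow_one]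
  have hHK : Subgroup.zpowers u ≤ Subgroup.normalizer ((Subgroup.zpowers x : Subgroup G) : Set G) := by
    intro h hh
    obtain ⟨j, rfl⟩ := Subgroup.mem_zpowers_iff.1 hh
    apply Subgroup.mem_normalizer_fintype
    intro n hn
    obtain ⟨i, rfl⟩ := Subgroup.mem_zpowers_iff.1 hn
    have hc : Commute (u ^ j) (x ^ i) := (Commute.zpow_zpow (show Commute u x from hux) j i)
    have : u ^ j * x ^ i * (u ^ j)⁻¹ = x ^ i := by
      rw [hc.eq, mul_inv_cancel_right]
    rw [this]
    exact Subgroup.zpow_mem_zpowers x i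
  have hsup := IsPGroup.to_sup_of_normal_right' hH hK hHK
  obtain ⟨n, hn⟩ := IsPGroup.exists_card_eq hsup
  have hdvd : Nat.card ↥(Subgroup.zpowers u ⊔ Subgroup.zpowers x) ∣ Nat.card G :=
    Subgroup.card_subgroup_dvd_card _
  rw [hn] at hdvd
  have hn1 : n ≤ 1 := by
    by_contra h
    have h := not_le.1 h
    exact hsq ((pow_dvd_pow p h).trans hdvd)
  have hle : Subgroup.zpowers x ≤ Subgroup.zpowers u ⊔ Subgroup.zpowers x := le_sup_right
  have hcard : Nat.card ↥(Subgroup.zpowers u ⊔ Subgroup.zpowers x) ≤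
      Nat.card (Subgroup.zpowers x) := by
    rw [hn, d1_card_zpowers hx]
    calc p ^ n ≤ p ^ 1 := Nat.pow_le_pow_right hp.out.pos hn1
      _ = p := pow_one p
  have heq := Subgroup.eq_of_le_of_card_ge hle hcard
  rw [heq]
  exact (le_sup_left : Subgroup.zpowers u ≤ _) (Subgroup.mem_zpowers u)

omit [Finite G] in
/-- A nontrivial power of `x` generates the same subgroup. -/
theorem d1_zpowers_eq {x u : G} (hx : orderOf x = p) (hu : u ∈ Subgroup.zpowers x)
    (hu1 : u ≠ 1) : Subgroup.zpowers u = Subgroup.zpowers x := by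
  have hfin : Finite (Subgroup.zpowers x) := by
    apply Nat.finite_of_card_ne_zero
    rw [d1_card_zpowers hx]
    exact hp.out.ne_zero
  have hle : Subgroup.zpowers u ≤ Subgroup.zpowers x := (Subgroup.zpowers_le).2 hu
  apply Subgroup.eq_of_le_of_card_ge hle
  rw [d1_card_zpowers hx, Nat.card_zpowers]
  have h1 : orderOf u ∣ p := by
    have := Subgroup.orderOf_dvd_natCard (Subgroup.zpowers x) hu
    rwa [d1_card_zpowers hx] at this
  rcases (Nat.dvd_prime hp.out).1 h1 with h | h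
  · exact absurd (orderOf_eq_one_iff.1 h) hu1
  · rw [h]

omit [Finite G] in
/-- Commuting with a nontrivial power of `x` is the same as commuting with `x`. -/
theorem d1_comm_iff {x u : G} (hx : orderOf x = p) (hu : u ∈ Subgroup.zpowers x)
    (hu1 : u ≠ 1) (t : G) : t * u = u * t ↔ t * x = x * t := by
  have heq := d1_zpowers_eq hx hu hu1
  have hxu : x ∈ Subgroup.zpowers u := by
    rw [heq]
    exact Subgroup.mem_zpowers x
  constructor
  · intro h
    obtain ⟨j, rfl⟩ := Subgroup.mem_zpowers_iff.1 hxu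
    exact (Commute.zpow_right (show Commute t u from h) j).eq
  · intro h
    obtain ⟨j, rfl⟩ := Subgroup.mem_zpowers_iff.1 hu
    exact (Commute.zpow_right (show Commute t x from h) j).eq

/-- Trivial intersection: an element conjugating a nontrivial power of `x` into `⟨x⟩` normalizes
`⟨x⟩`. -/
theorem d1_mem_normalizer {x u g : G} (hx : orderOf x = p) (hu : u ∈ Subgroup.zpowers x)
    (hu1 : u ≠ 1) (hg : g⁻¹ * u * g ∈ Subgroup.zpowers x) :
    g ∈ Subgroup.normalizer ((Subgroup.zpowers x : Subgroup G) : Set G) := by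
  have heq := d1_zpowers_eq hx hu hu1
  have hginv : g⁻¹ ∈ Subgroup.normalizer ((Subgroup.zpowers x : Subgroup G) : Set G) := by
    apply Subgroup.mem_normalizer_fintype
    intro n hn
    rw [← heq] at hn
    obtain ⟨k, rfl⟩ := Subgroup.mem_zpowers_iff.1 hn
    have : g⁻¹ * u ^ k * g⁻¹⁻¹ = (g⁻¹ * u * g) ^ k := by
      have := conj_zpow (a := g⁻¹) (b := u) (i := k)
      simpa using this.symm
    rw [this]
    exact (Subgroup.zpowers x).zpow_mem hg k
  have := (Subgroup.normalizer ((Subgroup.zpowers x : Subgroup G) : Set G)).inv_mem hginv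
  simpa using this

/-- A `p`-singular element commuting with `x` is the product of a nontrivial power of `x` (which
is a power of the element) and a `p`-regular element commuting with `x`. -/
theorem d1_decomp {x c : G} (hx : orderOf x = p) (hsq : ¬ p ^ 2 ∣ Nat.card G)
    (hc : c * x = x * c) (hcp : p ∣ orderOf c) :
    ∃ u y : G, c = u * y ∧ u ∈ Subgroup.zpowers x ∧ u ≠ 1 ∧ y * x = x * y ∧ ¬ p ∣ orderOf y ∧
      (∃ a : ℤ, u = c ^ a) ∧ ∃ a : ℤ, y = c ^ a := by
  have hn : orderOf c ≠ 0 := (orderOf_pos c).ne'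
  obtain ⟨k, m, hm, hkm⟩ := Nat.exists_eq_pow_mul_and_not_dvd hn p hp.out.one_lt.ne'
  have hcop : Nat.Coprime (p ^ k) m :=
    Nat.Coprime.pow_left k ((Nat.Prime.coprime_iff_not_dvd hp.out).mpr hm)
  obtain ⟨a, b, hab⟩ := Nat.Coprime.isCoprime hcop
  have hu_pow : (c ^ (b * (m : ℤ))) ^ p ^ k = 1 := by
    rw [← zpow_natCast, ← zpow_mul]
    have : b * (m : ℤ) * ((p ^ k : ℕ) : ℤ) = b * ((orderOf c : ℕ) : ℤ) := by
      rw [hkm]; push_cast; ring
    rw [this, zpow_mul', zpow_natCast, pow_orderOf_eq_one, one_zpow]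
  have hy_pow : (c ^ (a * ((p ^ k : ℕ) : ℤ))) ^ m = 1 := by
    rw [← zpow_natCast, ← zpow_mul]
    have : a * ((p ^ k : ℕ) : ℤ) * (m : ℤ) = a * ((orderOf c : ℕ) : ℤ) := by
      rw [hkm]; push_cast; ring
    rw [this, zpow_mul', zpow_natCast, pow_orderOf_eq_one, one_zpow]
  have hyreg : ¬ p ∣ orderOf (c ^ (a * ((p ^ k : ℕ) : ℤ))) := by
    intro hdvd
    exact hm (hdvd.trans (orderOf_dvd_of_pow_eq_one hy_pow))
  have hprod : c = c ^ (b * (m : ℤ)) * c ^ (a * ((p ^ k : ℕ) : ℤ)) := by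
    rw [← zpow_add, add_comm, hab, zpow_one]
  have hucomm : c ^ (b * (m : ℤ)) * x = x * c ^ (b * (m : ℤ)) :=
    (Commute.zpow_left (show Commute c x from hc) _).eq
  have hycomm : c ^ (a * ((p ^ k : ℕ) : ℤ)) * x = x * c ^ (a * ((p ^ k : ℕ) : ℤ)) :=
    (Commute.zpow_left (show Commute c x from hc) _).eq
  have huord : ∃ j : ℕ, orderOf (c ^ (b * (m : ℤ))) = p ^ j := by
    obtain ⟨j, _, hj⟩ := (Nat.dvd_prime_pow hp.out).1 (orderOf_dvd_of_pow_eq_one hu_pow)
    exact ⟨j, hj⟩
  refine ⟨c ^ (b * (m : ℤ)), c ^ (a * ((p ^ k : ℕ) : ℤ)), hprod,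
    d1_mem_zpowers hx hsq huord hucomm, ?_, hycomm, hyreg, ⟨_, rfl⟩, ⟨_, rfl⟩⟩
  intro h1
  apply hyreg
  rw [h1, one_mul] at hprod
  rw [← hprod]
  exact hcp

end

end Cfsg.Agent.Lib.Helper8
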