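import Mathlib

set_option autoImplicit false

/-!
# Sums of powers of roots of unity over the exponents prime to `p`
-/

namespace Cfsg.Agent.Lib.Helper8.MJ

open scoped ComplexConjugate

theorem sum_range_pow_root {η : ℂ} {N : ℕ} (hη : η ^ N = 1) :
    ∑ k ∈ Finset.range N, η ^ k = if η = 1 then (N : ℂ) else 0 := by
  by_cases h1 : η = 1
  · rw [if_pos h1, h1]
    simp
  · rw [if_neg h1, geom_sum_eq h1, hη, sub_self, zero_div]

/-- the exponents below `q * p` not divisible by `p` -/
def unitsRange (q p : ℕ) : Finset ℕ := (Finset.range (q * p)).filter (fun k => ¬ p ∣ k)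

theorem filter_dvd_range (q p : ℕ) (hp : 0 < p) :
    (Finset.range (q * p)).filter (fun k => p ∣ k) = (Finset.range q).image (fun k => p * k) := by
  ext k
  simp only [Finset.mem_filter, Finset.mem_range, Finset.mem_image]
  constructor
  · rintro ⟨hk, c, rfl⟩
    refine ⟨c, ?_, rfl⟩
    rw [mul_comm] at hk
    exact lt_of_mul_lt_mul_right hk (Nat.zero_le _)
  · rintro ⟨c, hc, rfl⟩
    refine ⟨?_, Dvd.intro _ rfl⟩
    rw [mul_comm]
    exact Nat.mul_lt_mul_of_pos_right hc hp

theorem sum_unitsRange_pow {q p : ℕ} (hp : 0 < p) {η : ℂ} (hη : η ^ (q * p) = 1) :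
    ∑ k ∈ unitsRange q p, η ^ k =
      (if η = 1 then ((q * p : ℕ) : ℂ) else 0) - (if η ^ p = 1 then (q : ℂ) else 0) := by
  have h1 := sum_range_pow_root hη
  have h2 : ∑ k ∈ (Finset.range (q * p)).filter (fun k => p ∣ k), η ^ k =
      if η ^ p = 1 then (q : ℂ) else 0 := by
    rw [filter_dvd_range q p hp, Finset.sum_image]
    · have h3 : (η ^ p) ^ q = 1 := by rw [← pow_mul, mul_comm, hη]
      rw [← sum_range_pow_root h3]
      refine Finset.sum_congr rfl fun k _ => ?_
      rw [pow_mul]
    · intro a _ b _ hab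
      exact Nat.eq_of_mul_eq_mul_left hp hab
  have h4 := Finset.sum_filter_add_sum_filter_not (Finset.range (q * p)) (fun k => p ∣ k)
    (fun k => η ^ k)
  unfold unitsRange
  rw [h2, h1] at h4
  rw [← h4]
  ring

theorem card_unitsRange (q p : ℕ) (hp : 0 < p) :
    ((unitsRange q p).card : ℂ) = (q * p : ℕ) - q := by
  have h := sum_unitsRange_pow (q := q) (p := p) hp (η := 1) (one_pow _)
  simp only [one_pow, Finset.sum_const, nsmul_eq_mul, mul_one, if_true] at h
  exact h

end Cfsg.Agent.Lib.Helper8.MJ
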