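import Mathlib

set_option autoImplicit false

/-!
# A Lagrange-type identity for finite families of complex-valued functions
-/

namespace Cfsg.Agent.Lib.Helper8.MJ

open scoped ComplexConjugate

variable {X : Type*} [Fintype X]

/-- the sum of the squared absolute values -/
noncomputable def nsq (f : X → ℂ) : ℝ := ∑ x, Complex.normSq (f x)

theorem nsq_nonneg (f : X → ℂ) : 0 ≤ nsq f :=
  Finset.sum_nonneg fun x _ => Complex.normSq_nonneg _

theorem nsq_eq_zero_iff (f : X → ℂ) : nsq f = 0 ↔ f = 0 := by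
  unfold nsq
  rw [Finset.sum_eq_zero_iff_of_nonneg fun x _ => Complex.normSq_nonneg _]
  constructor
  · intro h
    funext x
    exact Complex.normSq_eq_zero.1 (h x (Finset.mem_univ x))
  · intro h x _
    rw [h]
    simp

theorem nsq_cast (f : X → ℂ) : ((nsq f : ℝ) : ℂ) = ∑ x, f x * conj (f x) := by
  unfold nsq
  rw [Complex.ofReal_sum]
  refine Finset.sum_congr rfl fun x _ => ?_
  rw [Complex.mul_conj]

theorem lagrange_complex {T : Type*} [Fintype T] (a : T → ℂ) :
    (Fintype.card T : ℂ) * ∑ t, a t * conj (a t) - (∑ t, a t) * conj (∑ t, a t) =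
      (1 / 2 : ℂ) * ∑ t, ∑ t', (a t - a t') * conj (a t - a t') := by
  have h1 : ∀ t t', (a t - a t') * conj (a t - a t') =
      a t * conj (a t) - a t * conj (a t') - a t' * conj (a t) + a t' * conj (a t') := by
    intro t t'
    rw [map_sub]
    ring
  simp only [h1, Finset.sum_add_distrib, Finset.sum_sub_distrib, Finset.sum_const, Finset.card_univ,
    nsmul_eq_mul]
  rw [map_sum, Finset.sum_mul_sum]
  have h2 : ∑ t, ∑ t', a t' * conj (a t) = ∑ t, ∑ t', a t * conj (a t') := Finset.sum_comm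
  have h3 : ∑ t : T, (Fintype.card T : ℂ) * (a t * conj (a t)) =
      (Fintype.card T : ℂ) * ∑ t, a t * conj (a t) := by rw [Finset.mul_sum]
  rw [h2, h3]
  ring

theorem lagrange {T : Type*} [Fintype T] (u : T → X → ℂ) :
    (Fintype.card T : ℝ) * ∑ t, nsq (u t) - nsq (∑ t, u t) =
      (1 / 2 : ℝ) * ∑ t, ∑ t', nsq (u t - u t') := by
  have h : (((Fintype.card T : ℝ) * ∑ t, nsq (u t) - nsq (∑ t, u t) : ℝ) : ℂ) =
      (((1 / 2 : ℝ) * ∑ t, ∑ t', nsq (u t - u t') : ℝ) : ℂ) := by
    push_cast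
    simp only [nsq_cast]
    have h1 : ∀ x, (Fintype.card T : ℂ) * ∑ t, u t x * conj (u t x) -
        (∑ t, u t x) * conj (∑ t, u t x) =
        (1 / 2 : ℂ) * ∑ t, ∑ t', (u t x - u t' x) * conj (u t x - u t' x) :=
      fun x => lagrange_complex (fun t => u t x)
    have h2 : (Fintype.card T : ℂ) * ∑ t, ∑ x, u t x * conj (u t x) -
        ∑ x, (∑ t, u t) x * conj ((∑ t, u t) x) =
        ∑ x, ((Fintype.card T : ℂ) * ∑ t, u t x * conj (u t x) -
          (∑ t, u t x) * conj (∑ t, u t x)) := by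
      rw [Finset.sum_sub_distrib, ← Finset.mul_sum, Finset.sum_comm]
      simp only [Finset.sum_apply]
    rw [h2, Finset.sum_congr rfl fun x _ => h1 x, ← Finset.mul_sum]
    congr 1
    rw [Finset.sum_comm]
    refine Finset.sum_congr rfl fun t _ => ?_
    rw [Finset.sum_comm]
    rfl
  exact_mod_cast h

theorem pair_bound {T : Type*} [Fintype T] (u : T → X → ℂ) (μ : ℝ) (hμ : 0 ≤ μ)
    (h : ∀ t t', u t = u t' ∨ μ ≤ nsq (u t - u t')) (t₀ t₁ : T) (hne : u t₀ ≠ u t₁) :
    ((Fintype.card T : ℝ) - 1) * μ ≤ (1 / 2 : ℝ) * ∑ t, ∑ t', nsq (u t - u t') := by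
  classical
  set A := Finset.univ.filter (fun t => u t = u t₀) with hA
  set R := Finset.univ.filter (fun t => ¬ u t = u t₀) with hR
  have hAR : A.card + R.card = Fintype.card T := by
    rw [hA, hR, Finset.card_filter_add_card_filter_not]
    exact Finset.card_univ
  have hA1 : 1 ≤ A.card := Finset.card_pos.2 ⟨t₀, by simp [hA]⟩
  have hR1 : 1 ≤ R.card := Finset.card_pos.2 ⟨t₁, by simp [hR, Ne.symm hne]⟩
  have hnn : ∀ t t', 0 ≤ nsq (u t - u t') := fun t t' => nsq_nonneg _
  have hsplit : ∑ t, ∑ t', nsq (u t - u t') =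
      ∑ t ∈ A, ∑ t', nsq (u t - u t') + ∑ t ∈ R, ∑ t', nsq (u t - u t') := by
    rw [hA, hR, Finset.sum_filter_add_sum_filter_not]
  have h1 : (A.card : ℝ) * (R.card : ℝ) * μ ≤ ∑ t ∈ A, ∑ t', nsq (u t - u t') := by
    calc (A.card : ℝ) * (R.card : ℝ) * μ = ∑ t ∈ A, ∑ t' ∈ R, μ := by
          simp only [Finset.sum_const, nsmul_eq_mul]
          ring
      _ ≤ ∑ t ∈ A, ∑ t' ∈ R, nsq (u t - u t') := by
          refine Finset.sum_le_sum fun t ht => Finset.sum_le_sum fun t' ht' => ?_
          rcases h t t' with h2 | h2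
          · exfalso
            have h3 : u t = u t₀ := (Finset.mem_filter.1 ht).2
            have h4 : ¬ u t' = u t₀ := (Finset.mem_filter.1 ht').2
            exact h4 (h2.symm.trans h3)
          · exact h2
      _ ≤ ∑ t ∈ A, ∑ t', nsq (u t - u t') := by
          refine Finset.sum_le_sum fun t _ => ?_
          exact Finset.sum_le_sum_of_subset_of_nonneg (Finset.subset_univ _)
            (fun t' _ _ => hnn t t')
  have h2 : (A.card : ℝ) * (R.card : ℝ) * μ ≤ ∑ t ∈ R, ∑ t', nsq (u t - u t') := by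
    calc (A.card : ℝ) * (R.card : ℝ) * μ = ∑ t ∈ R, ∑ t' ∈ A, μ := by
          simp only [Finset.sum_const, nsmul_eq_mul]
          ring
      _ ≤ ∑ t ∈ R, ∑ t' ∈ A, nsq (u t - u t') := by
          refine Finset.sum_le_sum fun t ht => Finset.sum_le_sum fun t' ht' => ?_
          rcases h t t' with h2 | h2
          · exfalso
            have h3 : u t' = u t₀ := (Finset.mem_filter.1 ht').2
            have h4 : ¬ u t = u t₀ := (Finset.mem_filter.1 ht).2
            exact h4 (h2.trans h3)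
          · exact h2
      _ ≤ ∑ t ∈ R, ∑ t', nsq (u t - u t') := by
          refine Finset.sum_le_sum fun t _ => ?_
          exact Finset.sum_le_sum_of_subset_of_nonneg (Finset.subset_univ _)
            (fun t' _ _ => hnn t t')
  have hcard : (Fintype.card T : ℝ) = (A.card : ℝ) + (R.card : ℝ) := by
    rw [← hAR]
    push_cast
    ring
  have hA1' : (1 : ℝ) ≤ (A.card : ℝ) := by exact_mod_cast hA1
  have hR1' : (1 : ℝ) ≤ (R.card : ℝ) := by exact_mod_cast hR1
  have h3 : (Fintype.card T : ℝ) - 1 ≤ (A.card : ℝ) * (R.card : ℝ) := by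
    rw [hcard]
    nlinarith
  have h4 : ((Fintype.card T : ℝ) - 1) * μ ≤ (A.card : ℝ) * (R.card : ℝ) * μ :=
    mul_le_mul_of_nonneg_right h3 hμ
  rw [hsplit]
  linarith

end Cfsg.Agent.Lib.Helper8.MJ
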