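import Mathlib
import Cfsg.Agent.Lib.Helper8.MJ1
import Cfsg.Agent.Lib.Helper8.MJ2

set_option autoImplicit false

/-!
# A Parseval identity over the exponents prime to `p`
-/

namespace Cfsg.Agent.Lib.Helper8.MJ

open scoped ComplexConjugate

theorem conj_of_pow_eq_one {ζ : ℂ} {N : ℕ} (hN : 0 < N) (h : ζ ^ N = 1) : conj ζ = ζ⁻¹ := by
  have h1 : ‖ζ‖ = 1 := Complex.norm_eq_one_of_pow_eq_one h hN.ne'
  have h2 : ζ * conj ζ = 1 := by
    rw [Complex.mul_conj, Complex.normSq_eq_norm_sq, h1]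
    simp
  exact eq_inv_of_mul_eq_one_right h2

theorem sum_range_mul' {A : Type*} [AddCommMonoid A] (q p : ℕ) (f : ℕ → A) :
    ∑ e ∈ Finset.range (q * p), f e =
      ∑ r ∈ Finset.range q, ∑ t ∈ Finset.range p, f (r + q * t) := by
  induction p with
  | zero => simp
  | succ p ih =>
    rw [Nat.mul_succ, Finset.sum_range_add, ih]
    simp only [Finset.sum_range_succ]
    rw [Finset.sum_add_distrib]
    congr 1
    refine Finset.sum_congr rfl fun r _ => ?_
    rw [add_comm]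

theorem parseval_scalar {N : ℕ} {ζ : ℂ} (hζ : IsPrimitiveRoot ζ N) (a : ℕ → ℂ) :
    ∑ k ∈ Finset.range N, (∑ e ∈ Finset.range N, ζ ^ (k * e) * a e) *
        conj (∑ e ∈ Finset.range N, ζ ^ (k * e) * a e) =
      (N : ℂ) * ∑ e ∈ Finset.range N, a e * conj (a e) := by
  rcases Nat.eq_zero_or_pos N with hN | hN
  · subst hN
    simp
  have hone : ζ ^ N = 1 := hζ.pow_eq_one
  have hconj : ∀ e : ℕ, conj (ζ ^ e) = (ζ ^ e)⁻¹ := by
    intro e
    apply conj_of_pow_eq_one hN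
    rw [← pow_mul, mul_comm, pow_mul, hone, one_pow]
  have h1 : ∀ k : ℕ, (∑ e ∈ Finset.range N, ζ ^ (k * e) * a e) *
        conj (∑ e ∈ Finset.range N, ζ ^ (k * e) * a e) =
      ∑ e ∈ Finset.range N, ∑ e' ∈ Finset.range N,
        (a e * conj (a e')) * (ζ ^ e * conj (ζ ^ e')) ^ k := by
    intro k
    rw [map_sum, Finset.sum_mul_sum]
    refine Finset.sum_congr rfl fun e _ => Finset.sum_congr rfl fun e' _ => ?_
    rw [map_mul, mul_pow, ← pow_mul, ← map_pow, ← pow_mul, mul_comm e k, mul_comm e' k]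
    ring
  rw [Finset.sum_congr rfl (fun k _ => h1 k), Finset.sum_comm, Finset.mul_sum]
  refine Finset.sum_congr rfl fun e he => ?_
  rw [Finset.sum_comm]
  have h2 : ∀ e' ∈ Finset.range N, ∑ k ∈ Finset.range N,
      (a e * conj (a e')) * (ζ ^ e * conj (ζ ^ e')) ^ k =
      if e = e' then (a e * conj (a e')) * (N : ℂ) else 0 := by
    intro e' he'
    rw [← Finset.mul_sum]
    have h3 : (ζ ^ e * conj (ζ ^ e')) ^ N = 1 := by
      rw [mul_pow, ← map_pow, ← pow_mul, ← pow_mul, mul_comm e N, mul_comm e' N, pow_mul, pow_mul,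
        hone, one_pow, one_pow, map_one, one_mul]
    rw [sum_range_pow_root h3]
    by_cases hee : e = e'
    · subst hee
      have : ζ ^ e * conj (ζ ^ e) = 1 := by
        rw [hconj]
        exact mul_inv_cancel₀ (pow_ne_zero _ (hζ.ne_zero hN.ne'))
      rw [if_pos this, if_pos rfl]
    · have : ζ ^ e * conj (ζ ^ e') ≠ 1 := by
        intro h4
        rw [hconj] at h4
        have h5 : ζ ^ e = ζ ^ e' := by
          have h6 : ζ ^ e' ≠ 0 := pow_ne_zero _ (hζ.ne_zero hN.ne')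
          field_simp at h4
          exact h4
        exact hee (hζ.pow_inj (Finset.mem_range.1 he) (Finset.mem_range.1 he') h5)
      rw [if_neg this, if_neg hee, mul_zero]
  rw [Finset.sum_congr rfl h2, Finset.sum_ite_eq, if_pos he]
  ring

variable {X : Type*} [Fintype X]

theorem parseval_vector {N : ℕ} {ζ : ℂ} (hζ : IsPrimitiveRoot ζ N) (W : ℕ → X → ℂ) :
    ∑ k ∈ Finset.range N, nsq (∑ e ∈ Finset.range N, ζ ^ (k * e) • W e) =
      (N : ℝ) * ∑ e ∈ Finset.range N, nsq (W e) := by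
  have h : ((∑ k ∈ Finset.range N, nsq (∑ e ∈ Finset.range N, ζ ^ (k * e) • W e) : ℝ) : ℂ) =
      (((N : ℝ) * ∑ e ∈ Finset.range N, nsq (W e) : ℝ) : ℂ) := by
    push_cast
    simp only [nsq_cast, Finset.sum_apply, Pi.smul_apply, smul_eq_mul]
    rw [Finset.sum_comm]
    have h1 : ∀ x : X, ∑ k ∈ Finset.range N, (∑ e ∈ Finset.range N, ζ ^ (k * e) * W e x) *
        conj (∑ e ∈ Finset.range N, ζ ^ (k * e) * W e x) =
        (N : ℂ) * ∑ e ∈ Finset.range N, W e x * conj (W e x) :=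
      fun x => parseval_scalar hζ (fun e => W e x)
    rw [Finset.sum_congr rfl (fun x _ => h1 x), ← Finset.mul_sum, Finset.sum_comm]
  exact_mod_cast h

theorem gs_identity {q p : ℕ} (hp : 0 < p) (hq : 0 < q) {ζ : ℂ}
    (hζ : IsPrimitiveRoot ζ (q * p)) (W : ℕ → X → ℂ) :
    ∑ k ∈ unitsRange q p, nsq (∑ e ∈ Finset.range (q * p), ζ ^ (k * e) • W e) =
      (q : ℝ) * ∑ r ∈ Finset.range q, ((p : ℝ) * ∑ t ∈ Finset.range p, nsq (W (r + q * t)) -
        nsq (∑ t ∈ Finset.range p, W (r + q * t))) := by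
  have hone : ζ ^ (q * p) = 1 := hζ.pow_eq_one
  have hζp : IsPrimitiveRoot (ζ ^ p) q := hζ.pow (Nat.mul_pos hq hp) (mul_comm q p)
  have h4 := Finset.sum_filter_add_sum_filter_not (Finset.range (q * p)) (fun k => p ∣ k)
    (fun k => nsq (∑ e ∈ Finset.range (q * p), ζ ^ (k * e) • W e))
  have h1 : ∑ k ∈ Finset.range (q * p), nsq (∑ e ∈ Finset.range (q * p), ζ ^ (k * e) • W e) =
      ((q * p : ℕ) : ℝ) * ∑ r ∈ Finset.range q, ∑ t ∈ Finset.range p, nsq (W (r + q * t)) := by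
    rw [parseval_vector hζ W, sum_range_mul']
  have hS : ∀ k' : ℕ, ∑ e ∈ Finset.range (q * p), ζ ^ (p * k' * e) • W e =
      ∑ r ∈ Finset.range q, (ζ ^ p) ^ (k' * r) • ∑ t ∈ Finset.range p, W (r + q * t) := by
    intro k'
    rw [sum_range_mul']
    refine Finset.sum_congr rfl fun r _ => ?_
    rw [Finset.smul_sum]
    refine Finset.sum_congr rfl fun t _ => ?_
    congr 1
    have : p * k' * (r + q * t) = p * (k' * r) + (q * p) * (k' * t) := by ring
    rw [this, pow_add, pow_mul, pow_mul (ζ) (q * p), hone, one_pow, mul_one]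
  have h2 : ∑ k ∈ (Finset.range (q * p)).filter (fun k => p ∣ k),
      nsq (∑ e ∈ Finset.range (q * p), ζ ^ (k * e) • W e) =
      (q : ℝ) * ∑ r ∈ Finset.range q, nsq (∑ t ∈ Finset.range p, W (r + q * t)) := by
    rw [filter_dvd_range q p hp, Finset.sum_image]
    · rw [← parseval_vector hζp (fun r => ∑ t ∈ Finset.range p, W (r + q * t))]
      refine Finset.sum_congr rfl fun k' _ => ?_
      rw [hS k']
    · intro a _ b _ hab
      exact Nat.eq_of_mul_eq_mul_left hp hab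
  unfold unitsRange
  rw [h2, h1] at h4
  have h5 : ∑ k ∈ (Finset.range (q * p)).filter (fun k => ¬ p ∣ k),
      nsq (∑ e ∈ Finset.range (q * p), ζ ^ (k * e) • W e) =
      ((q * p : ℕ) : ℝ) * ∑ r ∈ Finset.range q, ∑ t ∈ Finset.range p, nsq (W (r + q * t)) -
      (q : ℝ) * ∑ r ∈ Finset.range q, nsq (∑ t ∈ Finset.range p, W (r + q * t)) := by
    linarith
  rw [h5]
  push_cast
  rw [Finset.mul_sum, Finset.mul_sum, Finset.mul_sum, ← Finset.sum_sub_distrib]
  refine Finset.sum_congr rfl fun r _ => ?_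
  ring

/-- the defect of a row is nonnegative -/
theorem row_nonneg (p : ℕ) (u : ℕ → X → ℂ) :
    0 ≤ (p : ℝ) * ∑ t ∈ Finset.range p, nsq (u t) - nsq (∑ t ∈ Finset.range p, u t) := by
  have h := lagrange (fun t : Fin p => u t)
  rw [Fintype.card_fin, Fin.sum_univ_eq_sum_range (fun t => nsq (u t)) p,
    Fin.sum_univ_eq_sum_range (fun t => u t) p] at h
  rw [h]
  apply mul_nonneg (by norm_num)
  exact Finset.sum_nonneg fun t _ => Finset.sum_nonneg fun t' _ => nsq_nonneg _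

/-- the defect of a nonconstant row is large -/
theorem row_bound (p : ℕ) (u : ℕ → X → ℂ) (μ : ℝ) (hμ : 0 ≤ μ)
    (h : ∀ t t', u t = u t' ∨ μ ≤ nsq (u t - u t')) {t₀ t₁ : ℕ} (ht₀ : t₀ < p) (ht₁ : t₁ < p)
    (hne : u t₀ ≠ u t₁) :
    ((p : ℝ) - 1) * μ ≤
      (p : ℝ) * ∑ t ∈ Finset.range p, nsq (u t) - nsq (∑ t ∈ Finset.range p, u t) := by
  have h1 := lagrange (fun t : Fin p => u t)
  have h2 := pair_bound (fun t : Fin p => u t) μ hμ (fun t t' => h t t') ⟨t₀, ht₀⟩ ⟨t₁, ht₁⟩ hne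
  rw [Fintype.card_fin, Fin.sum_univ_eq_sum_range (fun t => nsq (u t)) p,
    Fin.sum_univ_eq_sum_range (fun t => u t) p] at h1
  rw [Fintype.card_fin] at h2
  rw [h1]
  exact h2

theorem exists_row_nonconstant {q p : ℕ} (hp : 2 ≤ p) (hq : 0 < q) {ζ : ℂ}
    (hζ : IsPrimitiveRoot ζ (q * p)) (W : ℕ → X → ℂ)
    (h1 : ∑ e ∈ Finset.range (q * p), ζ ^ e • W e ≠ 0) :
    ∃ r ∈ Finset.range q, ∃ t₀ < p, ∃ t₁ < p, W (r + q * t₀) ≠ W (r + q * t₁) := by
  by_contra hcon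
  push Not at hcon
  apply h1
  have hp0 : 0 < p := by omega
  have hζq : IsPrimitiveRoot (ζ ^ q) p := hζ.pow (Nat.mul_pos hq hp0) rfl
  have hgeom : ∑ t ∈ Finset.range p, (ζ ^ q) ^ t = 0 := hζq.geom_sum_eq_zero (by omega)
  rw [sum_range_mul']
  apply Finset.sum_eq_zero
  intro r hr
  have h2 : ∀ t ∈ Finset.range p, ζ ^ (r + q * t) • W (r + q * t) =
      (ζ ^ q) ^ t • (ζ ^ r • W (r + q * 0)) := by
    intro t ht
    rw [hcon r hr t (Finset.mem_range.1 ht) 0 hp0, smul_smul, pow_add, pow_mul, mul_comm]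
  rw [Finset.sum_congr rfl h2, ← Finset.sum_smul, hgeom, zero_smul]

/-- **Lower bound** for the sum over the exponents prime to `p`. -/
theorem gs_bound {q p : ℕ} (hp : 2 ≤ p) (hq : 0 < q) {ζ : ℂ}
    (hζ : IsPrimitiveRoot ζ (q * p)) (W : ℕ → X → ℂ) (L : AddSubgroup (X → ℂ))
    (hW : ∀ e, W e ∈ L) (μ : ℝ) (hμ : 0 ≤ μ) (hL : ∀ w ∈ L, w = 0 ∨ μ ≤ nsq w)
    (h1 : ∑ e ∈ Finset.range (q * p), ζ ^ e • W e ≠ 0) :
    (((q * p : ℕ) : ℝ) - q) * μ ≤
      ∑ k ∈ unitsRange q p, nsq (∑ e ∈ Finset.range (q * p), ζ ^ (k * e) • W e) := by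
  have hp0 : 0 < p := by omega
  rw [gs_identity hp0 hq hζ W]
  obtain ⟨r₀, hr₀, t₀, ht₀, t₁, ht₁, hne⟩ := exists_row_nonconstant hp hq hζ W h1
  have hrow : ((p : ℝ) - 1) * μ ≤
      (p : ℝ) * ∑ t ∈ Finset.range p, nsq (W (r₀ + q * t)) -
        nsq (∑ t ∈ Finset.range p, W (r₀ + q * t)) := by
    apply row_bound p (fun t => W (r₀ + q * t)) μ hμ _ ht₀ ht₁ hne
    intro t t'
    rcases hL _ (L.sub_mem (hW (r₀ + q * t)) (hW (r₀ + q * t'))) with h | h
    · left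
      exact sub_eq_zero.1 h
    · right
      exact h
  have hsum : (p : ℝ) * ∑ t ∈ Finset.range p, nsq (W (r₀ + q * t)) -
        nsq (∑ t ∈ Finset.range p, W (r₀ + q * t)) ≤
      ∑ r ∈ Finset.range q, ((p : ℝ) * ∑ t ∈ Finset.range p, nsq (W (r + q * t)) -
        nsq (∑ t ∈ Finset.range p, W (r + q * t))) :=
    Finset.single_le_sum (f := fun r => (p : ℝ) * ∑ t ∈ Finset.range p, nsq (W (r + q * t)) -
        nsq (∑ t ∈ Finset.range p, W (r + q * t)))
      (fun r _ => row_nonneg p (fun t => W (r + q * t))) hr₀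
  have hq0 : (0 : ℝ) ≤ q := Nat.cast_nonneg q
  have h3 := mul_le_mul_of_nonneg_left (hrow.trans hsum) hq0
  push_cast
  calc ((q : ℝ) * p - q) * μ = (q : ℝ) * (((p : ℝ) - 1) * μ) := by ring
    _ ≤ _ := h3

end Cfsg.Agent.Lib.Helper8.MJ
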