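import Mathlib
import Cfsg.Prelude.Def_Blocks
import Cfsg.Prelude.Def_BlockRank
import Cfsg.Agent.Lib.Helper8.D2
import Cfsg.Agent.Lib.Helper8.MJ3
import Cfsg.Agent.Lib.Helper8.DO1

/-!
# Blocks of defect one: the block of the centralizer

`H` is a finite group with a central element `z` of prime order `p`, and `b` is a block of `H`
with defect group `⟨z⟩`.
-/

set_option autoImplicit false
set_option maxHeartbeats 800000
set_option linter.unusedSectionVars false

namespace Cfsg.Agent.Lib.Helper8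

open Cfsg
open scoped ComplexConjugate
open Cfsg.Agent.Lib.Helper1 Cfsg.Agent.Lib.Helper4

universe u

section

variable {H : Type u} [Group H] [Fintype H] {z : H}

/-- The value of the central character of `ξ` at `z`. -/
noncomputable def d1om (z : H) (ξ : IrrCharacter H) : ℂ := (ξ : H → ℂ) z / (ξ : H → ℂ) 1

theorem d1_mem_centralizer (hzc : ∀ c : H, z * c = c * z) (c : H) :
    c ∈ Subgroup.centralizer ((Subgroup.zpowers z : Subgroup H) : Set H) := by
  have h1 : Subgroup.centralizer ((Subgroup.zpowers z : Subgroup H) : Set H) = ⊤ := by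
    rw [Subgroup.zpowers_eq_closure, Subgroup.centralizer_closure, eq_top_iff]
    intro c _
    rw [Subgroup.mem_centralizer_singleton_iff]
    exact (hzc c).symm
  rw [h1]
  exact Subgroup.mem_top c

theorem d1om_mul (hzc : ∀ c : H, z * c = c * z) (ξ : IrrCharacter H) (c : H) :
    (ξ : H → ℂ) (z * c) = d1om z ξ * (ξ : H → ℂ) c := by
  have hG := zpowers_sup_centralizer_of_central hzc
  have h1 := irr_mul_of_sup_centralizer hG ξ.2 (Subgroup.mem_zpowers z) (d1_mem_centralizer hzc c)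
  have hξ1 := irr_apply_one_ne_zero ξ.2
  rw [h1]
  unfold d1om
  field_simp

theorem d1om_pow_mul (hzc : ∀ c : H, z * c = c * z) (ξ : IrrCharacter H) (k : ℕ) (c : H) :
    (ξ : H → ℂ) (z ^ k * c) = d1om z ξ ^ k * (ξ : H → ℂ) c := by
  induction k with
  | zero => simp
  | succ k ih =>
    rw [pow_succ', mul_assoc, d1om_mul hzc, ih, pow_succ']
    ring

theorem d1om_pow_apply (hzc : ∀ c : H, z * c = c * z) (ξ : IrrCharacter H) (k : ℕ) :
    (ξ : H → ℂ) (z ^ k) = d1om z ξ ^ k * (ξ : H → ℂ) 1 := by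
  have := d1om_pow_mul hzc ξ k 1
  rwa [mul_one] at this

theorem d1om_pow_orderOf (hzc : ∀ c : H, z * c = c * z) (ξ : IrrCharacter H) :
    d1om z ξ ^ orderOf z = 1 := by
  have h1 := d1om_pow_apply hzc ξ (orderOf z)
  rw [pow_orderOf_eq_one] at h1
  have hξ1 := irr_apply_one_ne_zero ξ.2
  have h2 : (d1om z ξ ^ orderOf z - 1) * (ξ : H → ℂ) 1 = 0 := by
    rw [sub_mul, one_mul, ← h1, sub_self]
  rcases mul_eq_zero.1 h2 with h | h
  · exact sub_eq_zero.1 h
  · exact absurd h hξ1

theorem d1om_ne_zero (hzc : ∀ c : H, z * c = c * z) (ξ : IrrCharacter H) : d1om z ξ ≠ 0 := by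
  intro h
  have h1 := d1om_pow_orderOf hzc ξ
  rw [h, zero_pow (orderOf_pos z).ne'] at h1
  exact zero_ne_one h1

theorem d1om_conj (hzc : ∀ c : H, z * c = c * z) (ξ : IrrCharacter H) :
    conj (d1om z ξ) = (d1om z ξ)⁻¹ :=
  MJ.conj_of_pow_eq_one (orderOf_pos z) (d1om_pow_orderOf hzc ξ)

/-- the constituent on `⟨z⟩` in terms of `d1om` -/
theorem d1_pcConst_apply (hzc : ∀ c : H, z * c = c * z) (ξ : IrrCharacter H) (k : ℕ)
    (hk : z ^ k ∈ Subgroup.zpowers z) :
    (pcConst (zpowers_sup_centralizer_of_central hzc) ξ : Subgroup.zpowers z → ℂ) ⟨z ^ k, hk⟩ =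
      d1om z ξ ^ k := by
  have hG := zpowers_sup_centralizer_of_central hzc
  have h2 := pcConst_spec hG ξ ⟨z ^ k, hk⟩
  rw [pcConst_apply_one hzc ξ, div_one] at h2
  have hξ1 := irr_apply_one_ne_zero ξ.2
  have h3 : (ξ : H → ℂ) (z ^ k) = d1om z ξ ^ k * (ξ : H → ℂ) 1 := d1om_pow_apply hzc ξ k
  have h4 : (ξ : H → ℂ) 1 * ((pcConst hG ξ : Subgroup.zpowers z → ℂ) ⟨z ^ k, hk⟩ -
      d1om z ξ ^ k) = 0 := by
    rw [mul_sub, ← h2]
    show (ξ : H → ℂ) (z ^ k) - _ = 0
    rw [h3]
    ring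
  rcases mul_eq_zero.1 h4 with h | h
  · exact absurd h hξ1
  · exact sub_eq_zero.1 h

end

section

variable {H : Type u} [Group H] [Fintype H] {z : H} {M : Ideal AlgInt} {p : ℕ} [Fact p.Prime]

/-- all members of `b` agree with the canonical character on the `p`-regular elements -/
theorem d1_apply_pRegular (hM : IsPModular p M) (hzc : ∀ c : H, z * c = c * z)
    {b : Set (IrrCharacter H)} (hb : IsPBlock M b)
    (hD : IsDefectGroup p M b (Subgroup.zpowers z)) {θ ξ : IrrCharacter H} (hθ : θ ∈ b)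
    (hker : ∀ u ∈ Subgroup.zpowers z, (θ : H → ℂ) u = (θ : H → ℂ) 1) (hξ : ξ ∈ b) {y : H}
    (hy : ¬ p ∣ orderOf y) : (ξ : H → ℂ) y = (θ : H → ℂ) y := by
  have hG := zpowers_sup_centralizer_of_central hzc
  have hP : IsPGroup p (Subgroup.zpowers z) := isPGroup_of_isDefectGroup hD
  have h1 := apply_mul_of_mem_block hM hP hG hb hD hθ hker hξ 1 hy
  rw [pcConst_apply_one hzc ξ, one_mul, OneMemClass.coe_one, one_mul] at h1
  exact h1

theorem d1om_canonical {θ : IrrCharacter H}
    (hker : ∀ u ∈ Subgroup.zpowers z, (θ : H → ℂ) u = (θ : H → ℂ) 1) : d1om z θ = 1 := by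
  unfold d1om
  rw [hker z (Subgroup.mem_zpowers z)]
  exact div_self (irr_apply_one_ne_zero θ.2)

/-- `ξ ↦ ω_ξ` is injective on `b`. -/
theorem d1om_injOn (hM : IsPModular p M) (hzc : ∀ c : H, z * c = c * z)
    {b : Set (IrrCharacter H)} (hb : IsPBlock M b)
    (hD : IsDefectGroup p M b (Subgroup.zpowers z)) {ξ ξ' : IrrCharacter H} (hξ : ξ ∈ b)
    (hξ' : ξ' ∈ b) (h : d1om z ξ = d1om z ξ') : ξ = ξ' := by
  have hG := zpowers_sup_centralizer_of_central hzc
  have hP : IsPGroup p (Subgroup.zpowers z) := isPGroup_of_isDefectGroup hD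
  have hinj := (pcConst_bijective hM hP hG hb hD).1
  have h1 : pcConst hG ξ = pcConst hG ξ' := by
    apply Subtype.ext
    funext y
    obtain ⟨y, hy⟩ := y
    have hfin : IsOfFinOrder z := isOfFinOrder_of_finite z
    have hy' := hy
    rw [← hfin.mem_powers_iff_mem_zpowers] at hy'
    obtain ⟨k, hk⟩ := (Submonoid.mem_powers_iff _ _).1 hy'
    subst hk
    rw [d1_pcConst_apply hzc ξ k hy, d1_pcConst_apply hzc ξ' k hy, h]
  have h2 : (⟨ξ, hξ⟩ : b) = ⟨ξ', hξ'⟩ := hinj h1
  exact congrArg Subtype.val h2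

/-- A block with defect group `⟨z⟩` has `p` members. -/
theorem d1_card_block (hM : IsPModular p M) (hzc : ∀ c : H, z * c = c * z)
    (hz : orderOf z = p) {b : Set (IrrCharacter H)} (hb : IsPBlock M b)
    (hD : IsDefectGroup p M b (Subgroup.zpowers z)) : Nat.card b = p := by
  have hG := zpowers_sup_centralizer_of_central hzc
  have hP : IsPGroup p (Subgroup.zpowers z) := isPGroup_of_isDefectGroup hD
  rw [card_block_eq_card_conjClasses hM hP hG hb hD, card_conjClasses_of_comm _ zpowers_comm,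
    Nat.card_zpowers, hz]

/-- **Second orthogonality on the block**: the sum over `b` of `ω_ξ^k conj ω_ξ^l`. -/
theorem d1_sum_om_pow [DecidableEq H] [Fintype (IrrCharacter H)] {b : Set (IrrCharacter H)}
    [DecidablePred (· ∈ b)] (hM : IsPModular p M) (hzc : ∀ c : H, z * c = c * z)
    (hz : orderOf z = p) (hb : IsPBlock M b)
    (hD : IsDefectGroup p M b (Subgroup.zpowers z)) (k l : ℕ) :
    ∑ ξ : IrrCharacter H, (if ξ ∈ b then d1om z ξ ^ k * conj (d1om z ξ ^ l) else 0) =
      if z ^ k = z ^ l then (p : ℂ) else 0 := by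
  classical
  have hG := zpowers_sup_centralizer_of_central hzc
  have hP : IsPGroup p (Subgroup.zpowers z) := isPGroup_of_isDefectGroup hD
  have hbij := pcConst_bijective hM hP hG hb hD
  have : Fintype (Subgroup.zpowers z) := Fintype.ofFinite _
  have : Fintype (IrrCharacter (Subgroup.zpowers z)) := Fintype.ofFinite _
  have : Fintype b := Fintype.ofFinite _
  have hk : z ^ k ∈ Subgroup.zpowers z := Subgroup.npow_mem_zpowers z k
  have hl : z ^ l ∈ Subgroup.zpowers z := Subgroup.npow_mem_zpowers z l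
  have h1 := column_orthogonality (G := Subgroup.zpowers z) ⟨z ^ l, hl⟩ ⟨z ^ k, hk⟩
  have h2 : ∑ ξ : IrrCharacter H, (if ξ ∈ b then d1om z ξ ^ k * conj (d1om z ξ ^ l) else 0) =
      ∑ ξ : b, d1om z (ξ : IrrCharacter H) ^ k * conj (d1om z (ξ : IrrCharacter H) ^ l) := by
    rw [← Finset.sum_filter]
    exact (Finset.sum_subtype (Finset.univ.filter (· ∈ b)) (by simp)
      (fun ξ => d1om z ξ ^ k * conj (d1om z ξ ^ l)))
  have h3 : ∑ ξ : b, d1om z (ξ : IrrCharacter H) ^ k * conj (d1om z (ξ : IrrCharacter H) ^ l) =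
      ∑ χ : IrrCharacter (Subgroup.zpowers z), (χ : Subgroup.zpowers z → ℂ) ⟨z ^ k, hk⟩ *
        conj ((χ : Subgroup.zpowers z → ℂ) ⟨z ^ l, hl⟩) := by
    rw [← (Equiv.ofBijective _ hbij).sum_comp]
    refine Finset.sum_congr rfl fun ξ _ => ?_
    rw [Equiv.ofBijective_apply, d1_pcConst_apply hzc _ k hk, d1_pcConst_apply hzc _ l hl]
  rw [h2, h3, h1]
  have hcard : Nat.card (Subgroup.centralizer ({(⟨z ^ l, hl⟩ : Subgroup.zpowers z)} :
      Set (Subgroup.zpowers z))) = p := by
    have htop : Subgroup.centralizer ({(⟨z ^ l, hl⟩ : Subgroup.zpowers z)} :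
        Set (Subgroup.zpowers z)) = ⊤ := by
      rw [eq_top_iff]
      intro c _
      rw [Subgroup.mem_centralizer_singleton_iff]
      exact zpowers_comm _ _
    rw [htop, Subgroup.card_top, Nat.card_zpowers, hz]
  rw [hcard]
  unfold classIndicator
  by_cases hkl : z ^ k = z ^ l
  · rw [if_pos hkl, if_pos, mul_one]
    have : (⟨z ^ l, hl⟩ : Subgroup.zpowers z) = ⟨z ^ k, hk⟩ := Subtype.ext hkl.symm
    rw [this]
  · rw [if_neg hkl, if_neg, mul_zero]
    intro hc
    apply hkl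
    obtain ⟨c, hc⟩ := isConj_iff.1 hc
    have h4 : c * ⟨z ^ l, hl⟩ * c⁻¹ = (⟨z ^ l, hl⟩ : Subgroup.zpowers z) := by
      rw [zpowers_comm c, mul_inv_cancel_right]
    rw [h4] at hc
    exact (congrArg Subtype.val hc).symm


omit [Fintype H] in
theorem d1_pow_eq_one_iff (hz : orderOf z = p) (k : ℕ) : z ^ k = 1 ↔ p ∣ k := by
  rw [← hz]
  exact orderOf_dvd_iff_pow_eq_one.symm

/-- (F1) the sum over `b` of `ω_ξ^k` vanishes for `k` prime to `p`. -/
theorem d1_sum_om_pow_eq_zero [Fintype (IrrCharacter H)] {b : Set (IrrCharacter H)}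
    [DecidablePred (· ∈ b)] (hM : IsPModular p M) (hzc : ∀ c : H, z * c = c * z)
    (hz : orderOf z = p) (hb : IsPBlock M b)
    (hD : IsDefectGroup p M b (Subgroup.zpowers z)) {k : ℕ} (hk : ¬ p ∣ k) :
    ∑ ξ : IrrCharacter H, (if ξ ∈ b then d1om z ξ ^ k else 0) = 0 := by
  classical
  have h1 := d1_sum_om_pow hM hzc hz hb hD k 0
  rw [if_neg] at h1
  · have h2 : ∀ ξ : IrrCharacter H, (if ξ ∈ b then d1om z ξ ^ k else 0) =
        (if ξ ∈ b then d1om z ξ ^ k * conj (d1om z ξ ^ 0) else 0) := by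
      intro ξ
      split_ifs <;> simp
    rw [Finset.sum_congr rfl fun ξ _ => h2 ξ]
    exact h1
  · rw [pow_zero, d1_pow_eq_one_iff hz]
    exact hk

/-- row orthogonality on `b` -/
theorem d1_sum_range_om (hM : IsPModular p M) (hzc : ∀ c : H, z * c = c * z)
    (hz : orderOf z = p) {b : Set (IrrCharacter H)} (hb : IsPBlock M b)
    (hD : IsDefectGroup p M b (Subgroup.zpowers z)) {ξ η : IrrCharacter H} (hξ : ξ ∈ b)
    (hη : η ∈ b) :
    ∑ k ∈ Finset.range p, d1om z ξ ^ k * conj (d1om z η ^ k) =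
      if ξ = η then (p : ℂ) else 0 := by
  classical
  have h1 : ∀ k : ℕ, d1om z ξ ^ k * conj (d1om z η ^ k) = (d1om z ξ * (d1om z η)⁻¹) ^ k := by
    intro k
    rw [map_pow, d1om_conj hzc η, mul_pow]
  rw [Finset.sum_congr rfl fun k _ => h1 k]
  have h2 : (d1om z ξ * (d1om z η)⁻¹) ^ p = 1 := by
    have e1 := d1om_pow_orderOf hzc ξ
    have e2 := d1om_pow_orderOf hzc η
    rw [hz] at e1 e2
    rw [mul_pow, inv_pow, e1, e2, inv_one, mul_one]
  rw [MJ.sum_range_pow_root h2]
  have hη0 := d1om_ne_zero hzc η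
  by_cases h : ξ = η
  · rw [if_pos h, if_pos]
    rw [h]
    exact mul_inv_cancel₀ hη0
  · rw [if_neg h, if_neg]
    intro h3
    apply h
    apply d1om_injOn hM hzc hb hD hξ hη
    have := congrArg (· * d1om z η) h3
    simpa [mul_assoc, inv_mul_cancel₀ hη0] using this

/-- (F2) a function on `b` all of whose nontrivial Fourier coefficients vanish is constant. -/
theorem d1_const_of_fourier [Fintype (IrrCharacter H)] {b : Set (IrrCharacter H)}
    [DecidablePred (· ∈ b)] (hM : IsPModular p M) (hzc : ∀ c : H, z * c = c * z)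
    (hz : orderOf z = p) (hb : IsPBlock M b)
    (hD : IsDefectGroup p M b (Subgroup.zpowers z)) (f : IrrCharacter H → ℂ)
    (hf : ∀ k : ℕ, 0 < k → k < p →
      ∑ ξ : IrrCharacter H, (if ξ ∈ b then f ξ * d1om z ξ ^ k else 0) = 0)
    {ξ η : IrrCharacter H} (hξ : ξ ∈ b) (hη : η ∈ b) : f ξ = f η := by
  classical
  have hp : p.Prime := Fact.out
  have key : ∀ η' : IrrCharacter H, η' ∈ b → (p : ℂ) * f η' =
      ∑ ξ' : IrrCharacter H, (if ξ' ∈ b then f ξ' else 0) := by
    intro η' hη'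
    have h1 : ∑ k ∈ Finset.range p, (∑ ξ' : IrrCharacter H,
        (if ξ' ∈ b then f ξ' * d1om z ξ' ^ k else 0)) * conj (d1om z η' ^ k) =
        (p : ℂ) * f η' := by
      have e1 : ∀ k ∈ Finset.range p, (∑ ξ' : IrrCharacter H,
          (if ξ' ∈ b then f ξ' * d1om z ξ' ^ k else 0)) * conj (d1om z η' ^ k) =
          ∑ ξ' : IrrCharacter H, (if ξ' ∈ b then f ξ' *
            (d1om z ξ' ^ k * conj (d1om z η' ^ k)) else 0) := by
        intro k _
        rw [Finset.sum_mul]
        refine Finset.sum_congr rfl fun ξ' _ => ?_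
        split_ifs
        · ring
        · rw [zero_mul]
      rw [Finset.sum_congr rfl e1, Finset.sum_comm]
      have e2 : ∀ ξ' : IrrCharacter H, ∑ k ∈ Finset.range p, (if ξ' ∈ b then f ξ' *
          (d1om z ξ' ^ k * conj (d1om z η' ^ k)) else 0) =
          if ξ' = η' then (p : ℂ) * f η' else 0 := by
        intro ξ'
        by_cases hξ' : ξ' ∈ b
        · simp only [if_pos hξ']
          rw [← Finset.mul_sum, d1_sum_range_om hM hzc hz hb hD hξ' hη']
          by_cases h : ξ' = η'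
          · rw [if_pos h, if_pos h, h]
            ring
          · rw [if_neg h, if_neg h, mul_zero]
        · simp only [if_neg hξ', Finset.sum_const_zero]
          rw [if_neg]
          rintro rfl
          exact hξ' hη'
      rw [Finset.sum_congr rfl fun ξ' _ => e2 ξ', Finset.sum_ite_eq' Finset.univ η']
      simp
    rw [← h1]
    rw [Finset.sum_eq_single 0]
    · simp
    · intro k hk hk0
      rw [hf k (Nat.pos_of_ne_zero hk0) (Finset.mem_range.1 hk), zero_mul]
    · intro h0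
      exact absurd (Finset.mem_range.2 hp.pos) h0
  have hp0 : (p : ℂ) ≠ 0 := Nat.cast_ne_zero.2 (Fact.out : p.Prime).ne_zero
  have h1 := key ξ hξ
  have h2 := key η hη
  rw [← h2] at h1
  exact mul_left_cancel₀ hp0 h1

/-- For a non-canonical member of `b`, `ω_ξ` is a primitive `p`-th root of unity. -/
theorem d1om_isPrimitiveRoot (hM : IsPModular p M) (hzc : ∀ c : H, z * c = c * z)
    (hz : orderOf z = p) {b : Set (IrrCharacter H)} (hb : IsPBlock M b)
    (hD : IsDefectGroup p M b (Subgroup.zpowers z)) {θ ξ : IrrCharacter H} (hθ : θ ∈ b)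
    (hker : ∀ u ∈ Subgroup.zpowers z, (θ : H → ℂ) u = (θ : H → ℂ) 1) (hξ : ξ ∈ b)
    (hne : ξ ≠ θ) : IsPrimitiveRoot (d1om z ξ) p := by
  have hp : p.Prime := Fact.out
  have h1 : d1om z ξ ^ p = 1 := by
    have := d1om_pow_orderOf hzc ξ
    rwa [hz] at this
  have h2 : d1om z ξ ≠ 1 := by
    intro h
    apply hne
    apply d1om_injOn hM hzc hb hD hξ hθ
    rw [h, d1om_canonical hker]
  have h3 : orderOf (d1om z ξ) = p := orderOf_eq_prime h1 h2
  rw [← h3]
  exact IsPrimitiveRoot.orderOf _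

/-- (F3) the sum of the nontrivial powers of `ω_ξ` for a non-canonical member. -/
theorem d1_sum_om_range (hM : IsPModular p M) (hzc : ∀ c : H, z * c = c * z)
    (hz : orderOf z = p) {b : Set (IrrCharacter H)} (hb : IsPBlock M b)
    (hD : IsDefectGroup p M b (Subgroup.zpowers z)) {θ ξ : IrrCharacter H} (hθ : θ ∈ b)
    (hker : ∀ u ∈ Subgroup.zpowers z, (θ : H → ℂ) u = (θ : H → ℂ) 1) (hξ : ξ ∈ b)
    (hne : ξ ≠ θ) : ∑ k ∈ (Finset.range p).erase 0, d1om z ξ ^ k = -1 := by
  have hp : p.Prime := Fact.out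
  have hprim := d1om_isPrimitiveRoot hM hzc hz hb hD hθ hker hξ hne
  have h1 : d1om z ξ ^ p = 1 := hprim.pow_eq_one
  have h2 := MJ.sum_range_pow_root h1
  rw [if_neg (hprim.ne_one hp.one_lt)] at h2
  rw [← Finset.add_sum_erase _ _ (Finset.mem_range.2 hp.pos), pow_zero] at h2
  linear_combination h2

end

end Cfsg.Agent.Lib.Helper8
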