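import Mathlib

/-!
# Relative trace maps for representations

Toward the Green correspondence for a trivial-intersection Sylow subgroup of prime order:
the trace map from the trivial subgroup to a finite subgroup `P`, the maps that are traces
(`P`-projective maps), and their elementary properties.
-/

set_option autoImplicit false

namespace Cfsg.Agent.Lib.Helper8

section

variable {F : Type*} [Field F] {Γ : Type*} [Group Γ]
variable {V W V' W' : Type*} [AddCommGroup V] [Module F V] [AddCommGroup W] [Module F W]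
  [AddCommGroup V'] [Module F V'] [AddCommGroup W'] [Module F W']

/-- `φ` intertwines the actions of the elements of `H`. -/
def MREquiv (H : Subgroup Γ) (ρ : Representation F Γ V) (σ : Representation F Γ W)
    (φ : V →ₗ[F] W) : Prop :=
  ∀ g ∈ H, φ ∘ₗ ρ g = σ g ∘ₗ φ

theorem MREquiv.apply {H : Subgroup Γ} {ρ : Representation F Γ V} {σ : Representation F Γ W}
    {φ : V →ₗ[F] W} (h : MREquiv H ρ σ φ) {g : Γ} (hg : g ∈ H) (v : V) :
    φ (ρ g v) = σ g (φ v) := by
  have := congrArg (fun f => f v) (h g hg)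
  simpa using this

theorem mrEquiv_of_apply {H : Subgroup Γ} {ρ : Representation F Γ V} {σ : Representation F Γ W}
    {φ : V →ₗ[F] W} (h : ∀ g ∈ H, ∀ v, φ (ρ g v) = σ g (φ v)) : MREquiv H ρ σ φ := by
  intro g hg
  ext v
  exact h g hg v

theorem MREquiv.mono {H K : Subgroup Γ} (hKH : K ≤ H) {ρ : Representation F Γ V}
    {σ : Representation F Γ W} {φ : V →ₗ[F] W} (h : MREquiv H ρ σ φ) : MREquiv K ρ σ φ :=
  fun g hg => h g (hKH hg)

theorem MREquiv.add {H : Subgroup Γ} {ρ : Representation F Γ V} {σ : Representation F Γ W}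
    {φ ψ : V →ₗ[F] W} (h : MREquiv H ρ σ φ) (h' : MREquiv H ρ σ ψ) : MREquiv H ρ σ (φ + ψ) := by
  intro g hg
  rw [LinearMap.add_comp, LinearMap.comp_add, h g hg, h' g hg]

theorem MREquiv.sub {H : Subgroup Γ} {ρ : Representation F Γ V} {σ : Representation F Γ W}
    {φ ψ : V →ₗ[F] W} (h : MREquiv H ρ σ φ) (h' : MREquiv H ρ σ ψ) : MREquiv H ρ σ (φ - ψ) := by
  intro g hg
  rw [LinearMap.sub_comp, LinearMap.comp_sub, h g hg, h' g hg]

theorem MREquiv.smul {H : Subgroup Γ} {ρ : Representation F Γ V} {σ : Representation F Γ W}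
    {φ : V →ₗ[F] W} (c : F) (h : MREquiv H ρ σ φ) : MREquiv H ρ σ (c • φ) := by
  intro g hg
  rw [LinearMap.smul_comp, LinearMap.comp_smul, h g hg]

theorem mrEquiv_zero (H : Subgroup Γ) (ρ : Representation F Γ V) (σ : Representation F Γ W) :
    MREquiv H ρ σ (0 : V →ₗ[F] W) := by
  intro g _
  simp

theorem mrEquiv_id (H : Subgroup Γ) (ρ : Representation F Γ V) :
    MREquiv H ρ ρ (LinearMap.id : V →ₗ[F] V) := by
  intro g _
  simp

theorem MREquiv.comp {H : Subgroup Γ} {ρ : Representation F Γ V} {σ : Representation F Γ W}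
    {τ : Representation F Γ W'} {φ : V →ₗ[F] W} {ψ : W →ₗ[F] W'} (h : MREquiv H ρ σ φ)
    (h' : MREquiv H σ τ ψ) : MREquiv H ρ τ (ψ ∘ₗ φ) := by
  intro g hg
  rw [LinearMap.comp_assoc, h g hg, ← LinearMap.comp_assoc, h' g hg, LinearMap.comp_assoc]

/-- The trace map from the trivial subgroup to the finite subgroup `P`. -/
noncomputable def mrTr (P : Subgroup Γ) [Fintype P] (ρ : Representation F Γ V)
    (σ : Representation F Γ W) (h : V →ₗ[F] W) : V →ₗ[F] W :=
  ∑ u : P, σ (u : Γ) ∘ₗ h ∘ₗ ρ ((u : Γ)⁻¹)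

theorem mrTr_apply (P : Subgroup Γ) [Fintype P] (ρ : Representation F Γ V)
    (σ : Representation F Γ W) (h : V →ₗ[F] W) (v : V) :
    mrTr P ρ σ h v = ∑ u : P, σ (u : Γ) (h (ρ ((u : Γ)⁻¹) v)) := by
  unfold mrTr
  rw [LinearMap.sum_apply]
  rfl

theorem mrTr_add (P : Subgroup Γ) [Fintype P] (ρ : Representation F Γ V)
    (σ : Representation F Γ W) (h h' : V →ₗ[F] W) :
    mrTr P ρ σ (h + h') = mrTr P ρ σ h + mrTr P ρ σ h' := by
  unfold mrTr
  rw [← Finset.sum_add_distrib]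
  refine Finset.sum_congr rfl fun u _ => ?_
  rw [LinearMap.add_comp, LinearMap.comp_add]

theorem mrTr_smul (P : Subgroup Γ) [Fintype P] (ρ : Representation F Γ V)
    (σ : Representation F Γ W) (c : F) (h : V →ₗ[F] W) :
    mrTr P ρ σ (c • h) = c • mrTr P ρ σ h := by
  unfold mrTr
  rw [Finset.smul_sum]
  refine Finset.sum_congr rfl fun u _ => ?_
  rw [LinearMap.smul_comp, LinearMap.comp_smul]

theorem mrTr_zero (P : Subgroup Γ) [Fintype P] (ρ : Representation F Γ V)
    (σ : Representation F Γ W) : mrTr P ρ σ (0 : V →ₗ[F] W) = 0 := by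
  unfold mrTr
  simp

theorem mrTr_sum {ι : Type*} (s : Finset ι) (P : Subgroup Γ) [Fintype P]
    (ρ : Representation F Γ V) (σ : Representation F Γ W) (h : ι → (V →ₗ[F] W)) :
    mrTr P ρ σ (∑ i ∈ s, h i) = ∑ i ∈ s, mrTr P ρ σ (h i) := by
  classical
  induction s using Finset.induction_on with
  | empty => simp [mrTr_zero]
  | insert a s ha ih => rw [Finset.sum_insert ha, Finset.sum_insert ha, mrTr_add, ih]

/-- Post-composition with a `P`-equivariant map. -/
theorem comp_mrTr (P : Subgroup Γ) [Fintype P] {ρ : Representation F Γ V}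
    {σ : Representation F Γ W} {σ' : Representation F Γ W'} {β : W →ₗ[F] W'}
    (hβ : MREquiv P σ σ' β) (h : V →ₗ[F] W) :
    β ∘ₗ mrTr P ρ σ h = mrTr P ρ σ' (β ∘ₗ h) := by
  ext v
  rw [LinearMap.comp_apply, mrTr_apply, mrTr_apply, map_sum]
  refine Finset.sum_congr rfl fun u _ => ?_
  rw [hβ.apply u.2, LinearMap.comp_apply]

/-- Pre-composition with a `P`-equivariant map. -/
theorem mrTr_comp (P : Subgroup Γ) [Fintype P] {ρ' : Representation F Γ V'}
    {ρ : Representation F Γ V} {σ : Representation F Γ W} {α : V' →ₗ[F] V}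
    (hα : MREquiv P ρ' ρ α) (h : V →ₗ[F] W) :
    mrTr P ρ σ h ∘ₗ α = mrTr P ρ' σ (h ∘ₗ α) := by
  ext v
  rw [LinearMap.comp_apply, mrTr_apply, mrTr_apply]
  refine Finset.sum_congr rfl fun u _ => ?_
  rw [LinearMap.comp_apply, hα.apply (P.inv_mem u.2)]

/-- The trace is `P`-equivariant. -/
theorem mrEquiv_mrTr (P : Subgroup Γ) [Fintype P] (ρ : Representation F Γ V)
    (σ : Representation F Γ W) (h : V →ₗ[F] W) : MREquiv P ρ σ (mrTr P ρ σ h) := by
  apply mrEquiv_of_apply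
  intro g hg v
  rw [mrTr_apply, mrTr_apply, map_sum]
  refine Fintype.sum_equiv (Equiv.mulLeft (⟨g, hg⟩ : P)⁻¹) _ _ fun u => ?_
  simp only [Equiv.coe_mulLeft, Subgroup.coe_mul, Subgroup.coe_inv, mul_inv_rev, inv_inv, map_mul,
    Module.End.mul_apply]
  rw [Representation.self_inv_apply]

/-- Conjugation by an element normalizing `P`. -/
theorem conj_mrTr (P : Subgroup Γ) [Fintype P] (ρ : Representation F Γ V)
    (σ : Representation F Γ W) {l : Γ} (hl : ∀ u : Γ, u ∈ P ↔ l * u * l⁻¹ ∈ P)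
    (h : V →ₗ[F] W) :
    σ l ∘ₗ mrTr P ρ σ h ∘ₗ ρ l⁻¹ = mrTr P ρ σ (σ l ∘ₗ h ∘ₗ ρ l⁻¹) := by
  let e : P ≃ P :=
    { toFun := fun u => ⟨l * u * l⁻¹, (hl u).1 u.2⟩
      invFun := fun u => ⟨l⁻¹ * u * l, by
        rw [hl]
        have : l * (l⁻¹ * (u : Γ) * l) * l⁻¹ = u := by group
        rw [this]
        exact u.2⟩
      left_inv := fun u => by
        apply Subtype.ext
        simp only
        group
      right_inv := fun u => by
        apply Subtype.ext
        simp only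
        group }
  ext v
  rw [LinearMap.comp_apply, LinearMap.comp_apply, mrTr_apply, mrTr_apply, map_sum]
  refine Fintype.sum_equiv e _ _ fun u => ?_
  have h1 : (e u : Γ) = l * u * l⁻¹ := rfl
  rw [h1]
  simp only [LinearMap.comp_apply, mul_inv_rev, inv_inv, map_mul, Module.End.mul_apply]
  rw [← Module.End.mul_apply (σ l⁻¹), ← map_mul, inv_mul_cancel, map_one, Module.End.one_apply]
  rw [← Module.End.mul_apply (ρ l⁻¹), ← map_mul, inv_mul_cancel, map_one, Module.End.one_apply]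

/-- `φ` is `P`-projective: a trace from the trivial subgroup. -/
def IsPProj (P : Subgroup Γ) [Fintype P] (ρ : Representation F Γ V) (σ : Representation F Γ W)
    (φ : V →ₗ[F] W) : Prop :=
  ∃ h : V →ₗ[F] W, mrTr P ρ σ h = φ

theorem IsPProj.add {P : Subgroup Γ} [Fintype P] {ρ : Representation F Γ V}
    {σ : Representation F Γ W} {φ ψ : V →ₗ[F] W} (h : IsPProj P ρ σ φ) (h' : IsPProj P ρ σ ψ) :
    IsPProj P ρ σ (φ + ψ) := by
  obtain ⟨a, rfl⟩ := h
  obtain ⟨b, rfl⟩ := h'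
  exact ⟨a + b, mrTr_add P ρ σ a b⟩

theorem IsPProj.smul {P : Subgroup Γ} [Fintype P] {ρ : Representation F Γ V}
    {σ : Representation F Γ W} {φ : V →ₗ[F] W} (c : F) (h : IsPProj P ρ σ φ) :
    IsPProj P ρ σ (c • φ) := by
  obtain ⟨a, rfl⟩ := h
  exact ⟨c • a, mrTr_smul P ρ σ c a⟩

theorem IsPProj.neg {P : Subgroup Γ} [Fintype P] {ρ : Representation F Γ V}
    {σ : Representation F Γ W} {φ : V →ₗ[F] W} (h : IsPProj P ρ σ φ) :
    IsPProj P ρ σ (-φ) := by
  have := h.smul (-1 : F)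
  simpa using this

theorem IsPProj.sub {P : Subgroup Γ} [Fintype P] {ρ : Representation F Γ V}
    {σ : Representation F Γ W} {φ ψ : V →ₗ[F] W} (h : IsPProj P ρ σ φ) (h' : IsPProj P ρ σ ψ) :
    IsPProj P ρ σ (φ - ψ) := by
  rw [sub_eq_add_neg]
  exact h.add h'.neg

theorem isPProj_zero (P : Subgroup Γ) [Fintype P] (ρ : Representation F Γ V)
    (σ : Representation F Γ W) : IsPProj P ρ σ (0 : V →ₗ[F] W) :=
  ⟨0, mrTr_zero P ρ σ⟩

theorem isPProj_sum {ι : Type*} (s : Finset ι) {P : Subgroup Γ} [Fintype P]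
    {ρ : Representation F Γ V} {σ : Representation F Γ W} {φ : ι → (V →ₗ[F] W)}
    (h : ∀ i ∈ s, IsPProj P ρ σ (φ i)) : IsPProj P ρ σ (∑ i ∈ s, φ i) := by
  classical
  induction s using Finset.induction_on with
  | empty => simpa using isPProj_zero P ρ σ
  | insert a s ha ih =>
    rw [Finset.sum_insert ha]
    exact (h a (Finset.mem_insert_self a s)).add
      (ih fun i hi => h i (Finset.mem_insert_of_mem hi))

theorem IsPProj.comp_left {P : Subgroup Γ} [Fintype P] {ρ : Representation F Γ V}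
    {σ : Representation F Γ W} {σ' : Representation F Γ W'} {φ : V →ₗ[F] W}
    (h : IsPProj P ρ σ φ) {β : W →ₗ[F] W'} (hβ : MREquiv P σ σ' β) :
    IsPProj P ρ σ' (β ∘ₗ φ) := by
  obtain ⟨a, rfl⟩ := h
  exact ⟨β ∘ₗ a, (comp_mrTr P hβ a).symm⟩

theorem IsPProj.comp_right {P : Subgroup Γ} [Fintype P] {ρ' : Representation F Γ V'}
    {ρ : Representation F Γ V} {σ : Representation F Γ W} {φ : V →ₗ[F] W}
    (h : IsPProj P ρ σ φ) {α : V' →ₗ[F] V} (hα : MREquiv P ρ' ρ α) :
    IsPProj P ρ' σ (φ ∘ₗ α) := by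
  obtain ⟨a, rfl⟩ := h
  exact ⟨a ∘ₗ α, (mrTr_comp P hα a).symm⟩

theorem IsPProj.mrEquiv {P : Subgroup Γ} [Fintype P] {ρ : Representation F Γ V}
    {σ : Representation F Γ W} {φ : V →ₗ[F] W} (h : IsPProj P ρ σ φ) : MREquiv P ρ σ φ := by
  obtain ⟨a, rfl⟩ := h
  exact mrEquiv_mrTr P ρ σ a

/-- Conjugating a `P`-projective map by an element normalizing `P` gives a `P`-projective
map. -/
theorem IsPProj.conj {P : Subgroup Γ} [Fintype P] {ρ : Representation F Γ V}
    {σ : Representation F Γ W} {φ : V →ₗ[F] W} (h : IsPProj P ρ σ φ) {l : Γ}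
    (hl : ∀ u : Γ, u ∈ P ↔ l * u * l⁻¹ ∈ P) : IsPProj P ρ σ (σ l ∘ₗ φ ∘ₗ ρ l⁻¹) := by
  obtain ⟨a, rfl⟩ := h
  exact ⟨_, (conj_mrTr P ρ σ hl a).symm⟩

end

end Cfsg.Agent.Lib.Helper8
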