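import Mathlib
import Cfsg.Agent.Lib.Helper8.MR1

/-!
# The augmentation operator of a cyclic group of prime order in characteristic `p`
-/

set_option autoImplicit false

namespace Cfsg.Agent.Lib.Helper8

section

variable {F : Type*} [Field F] {Γ : Type*} [Group Γ]
variable {V W : Type*} [AddCommGroup V] [Module F V] [AddCommGroup W] [Module F W]

/-- The operator `ρ x - 1`. -/
noncomputable def mrNu (ρ : Representation F Γ V) (x : Γ) : Module.End F V := ρ x - 1

theorem mrNu_apply (ρ : Representation F Γ V) (x : Γ) (v : V) : mrNu ρ x v = ρ x v - v := by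
  unfold mrNu
  simp

/-- In characteristic `p`, `∑_{i<p} a^i = (a-1)^(p-1)` in any `F`-algebra. -/
theorem geom_sum_eq_sub_one_pow {A : Type*} [Ring A] [Algebra F A] (p : ℕ) [hp : Fact p.Prime]
    [CharP F p] (a : A) : ∑ i ∈ Finset.range p, a ^ i = (a - 1) ^ (p - 1) := by
  have h1 : (∑ i ∈ Finset.range p, (Polynomial.X : Polynomial F) ^ i) =
      (Polynomial.X - 1) ^ (p - 1) := by
    have h2 : (∑ i ∈ Finset.range p, (Polynomial.X : Polynomial F) ^ i) * (Polynomial.X - 1) =
        (Polynomial.X - 1) ^ (p - 1) * (Polynomial.X - 1) := by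
      rw [geom_sum_mul, ← pow_succ, Nat.sub_add_cancel hp.out.one_le, sub_pow_char, one_pow]
    have h3 : (Polynomial.X - 1 : Polynomial F) ≠ 0 := Polynomial.X_sub_C_ne_zero (1 : F)
    exact mul_right_cancel₀ h3 h2
  have h4 := congrArg (Polynomial.aeval a) h1
  simpa using h4

variable (p : ℕ) [hp : Fact p.Prime] [CharP F p]

/-- The sum of `ρ u` over the cyclic group generated by `x` of order `p` is `(ρ x - 1)^(p-1)`. -/
theorem sum_zpowers_eq (ρ : Representation F Γ V) {x : Γ} (hx : orderOf x = p)
    (P : Subgroup Γ) [Fintype P] (hP : P = Subgroup.zpowers x) :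
    ∑ u : P, ρ (u : Γ) = mrNu ρ x ^ (p - 1) := by
  subst hP
  have hfin : IsOfFinOrder x := by
    rw [← orderOf_pos_iff, hx]
    exact hp.out.pos
  have h1 : ∑ u : Subgroup.zpowers x, ρ (u : Γ) = ∑ i : Fin (orderOf x), ρ x ^ (i : ℕ) := by
    symm
    refine Fintype.sum_equiv (finEquivZPowers hfin) _ _ fun i => ?_
    rw [finEquivZPowers_apply, map_pow]
  rw [h1, Fin.sum_univ_eq_sum_range (fun i => ρ x ^ i) (orderOf x), hx]
  exact geom_sum_eq_sub_one_pow (F := F) p (ρ x)

theorem mrNu_pow_p (ρ : Representation F Γ V) {x : Γ} (hx : orderOf x = p) :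
    mrNu ρ x ^ p = 0 := by
  unfold mrNu
  have h1 : Commute (ρ x) (1 : Module.End F V) := Commute.one_right _
  have : CharP (Module.End F V) p ∨ Subsingleton V := by
    by_cases hV : Subsingleton V
    · exact Or.inr hV
    · left
      rw [not_subsingleton_iff_nontrivial] at hV
      exact charP_of_injective_algebraMap (FaithfulSMul.algebraMap_injective F (Module.End F V)) p
  rcases this with h | h
  · rw [sub_pow_char_of_commute _ h1, one_pow, ← map_pow, ← hx, pow_orderOf_eq_one, map_one,
      sub_self]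
  · apply LinearMap.ext
    intro v
    exact Subsingleton.elim _ _

/-- The trace of a map out of a representation on which `P` acts trivially. -/
theorem mrTr_of_trivial (ρ : Representation F Γ V) (σ : Representation F Γ W) {x : Γ}
    (hx : orderOf x = p) (P : Subgroup Γ) [Fintype P] (hP : P = Subgroup.zpowers x)
    (htriv : ∀ u ∈ P, ρ u = 1) (h : V →ₗ[F] W) :
    mrTr P ρ σ h = (mrNu σ x ^ (p - 1)) ∘ₗ h := by
  rw [← sum_zpowers_eq p σ hx P hP]
  ext v
  rw [mrTr_apply, LinearMap.comp_apply, LinearMap.sum_apply]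
  refine Finset.sum_congr rfl fun u _ => ?_
  rw [htriv _ (P.inv_mem u.2), Module.End.one_apply]

/-- A map out of a `P`-trivial representation is `P`-projective iff its range lies in the range of
`(σ x - 1)^(p-1)`. -/
theorem isPProj_iff_of_trivial (ρ : Representation F Γ V) (σ : Representation F Γ W) {x : Γ}
    (hx : orderOf x = p) (P : Subgroup Γ) [Fintype P] (hP : P = Subgroup.zpowers x)
    (htriv : ∀ u ∈ P, ρ u = 1) (φ : V →ₗ[F] W) :
    IsPProj P ρ σ φ ↔ LinearMap.range φ ≤ LinearMap.range (mrNu σ x ^ (p - 1)) := by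
  constructor
  · rintro ⟨h, rfl⟩
    rw [mrTr_of_trivial p ρ σ hx P hP htriv h]
    exact LinearMap.range_comp_le_range _ _
  · intro hle
    set N := mrNu σ x ^ (p - 1) with hN
    obtain ⟨g, hg⟩ := LinearMap.exists_rightInverse_of_surjective N.rangeRestrict
      (LinearMap.range_rangeRestrict N)
    refine ⟨(g ∘ₗ LinearMap.codRestrict (LinearMap.range N) φ
      (fun v => hle (LinearMap.mem_range_self φ v))), ?_⟩
    rw [mrTr_of_trivial p ρ σ hx P hP htriv]
    ext v
    have h1 := congrArg (fun f => f (LinearMap.codRestrict (LinearMap.range N) φ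
      (fun v => hle (LinearMap.mem_range_self φ v)) v)) hg
    simp only [LinearMap.comp_apply, LinearMap.id_apply] at h1
    have h2 := congrArg Subtype.val h1
    simpa using h2

end

end Cfsg.Agent.Lib.Helper8
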