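import Mathlib
import Cfsg.Agent.Lib.Helper8.MR2

/-!
# Invariance of the radical and socle filtrations under a group normalizing `⟨x⟩`
-/

set_option autoImplicit false

namespace Cfsg.Agent.Lib.Helper8

section

variable {F : Type*} [Field F] {Γ : Type*} [Group Γ]
variable {V W : Type*} [AddCommGroup V] [Module F V] [AddCommGroup W] [Module F W]

/-- The geometric sum `∑_{i<n} (ρ x)^i`. -/
noncomputable def mrGeom (ρ : Representation F Γ V) (x : Γ) (n : ℕ) : Module.End F V :=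
  ∑ i ∈ Finset.range n, ρ x ^ i

theorem commute_mrGeom_mrNu (ρ : Representation F Γ V) (x : Γ) (n : ℕ) :
    Commute (mrGeom ρ x n) (mrNu ρ x) := by
  unfold mrGeom mrNu
  apply Commute.sum_left
  intro i _
  apply Commute.sub_right
  · exact (Commute.refl (ρ x)).pow_left i
  · exact Commute.one_right _

theorem mrGeom_mul_mrNu (ρ : Representation F Γ V) (x : Γ) (n : ℕ) :
    mrGeom ρ x n * mrNu ρ x = ρ (x ^ n) - 1 := by
  unfold mrGeom mrNu
  rw [geom_sum_mul, map_pow]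

theorem mrGeom_apply_of_mem_ker (ρ : Representation F Γ V) (x : Γ) (n : ℕ) {v : V}
    (hv : mrNu ρ x v = 0) : mrGeom ρ x n v = (n : F) • v := by
  have h1 : ρ x v = v := by
    rw [mrNu_apply] at hv
    exact sub_eq_zero.1 hv
  have h2 : ∀ i : ℕ, (ρ x ^ i) v = v := by
    intro i
    induction i with
    | zero => simp
    | succ k ih => rw [pow_succ, Module.End.mul_apply, h1, ih]
  unfold mrGeom
  rw [LinearMap.sum_apply, Finset.sum_congr rfl fun i _ => h2 i, Finset.sum_const,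
    Finset.card_range, Nat.cast_smul_eq_nsmul]

theorem mrNu_mul_rho (ρ : Representation F Γ V) {x g : Γ} {n : ℕ} (h : g⁻¹ * x * g = x ^ n) :
    mrNu ρ x * ρ g = ρ g * (mrGeom ρ x n * mrNu ρ x) := by
  rw [mrGeom_mul_mrNu, ← h]
  unfold mrNu
  rw [mul_sub, sub_mul, mul_one, one_mul, ← map_mul, ← map_mul]
  congr 2
  group

theorem mrNu_pow_mul_rho (ρ : Representation F Γ V) {x g : Γ} {n : ℕ}
    (h : g⁻¹ * x * g = x ^ n) (j : ℕ) :
    mrNu ρ x ^ j * ρ g = ρ g * (mrGeom ρ x n ^ j * mrNu ρ x ^ j) := by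
  induction j with
  | zero => simp
  | succ k ih =>
    have hc := commute_mrGeom_mrNu ρ x n
    rw [pow_succ, mul_assoc, mrNu_mul_rho ρ h, ← mul_assoc, ih, mul_assoc, mul_assoc]
    congr 1
    rw [pow_succ (mrGeom ρ x n), mul_assoc (mrGeom ρ x n ^ k)]
    congr 1
    rw [← mul_assoc, ← (hc.pow_right k).eq, mul_assoc]

/-- `ker ν^j` is stable under the elements normalizing `⟨x⟩`. -/
theorem rho_mem_ker_mrNu_pow (ρ : Representation F Γ V) {x g : Γ} {n : ℕ}
    (h : g⁻¹ * x * g = x ^ n) (j : ℕ) {v : V} (hv : (mrNu ρ x ^ j) v = 0) :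
    (mrNu ρ x ^ j) (ρ g v) = 0 := by
  have h1 := congrArg (fun f => f v) (mrNu_pow_mul_rho ρ h j)
  simp only [Module.End.mul_apply] at h1
  rw [h1, hv, map_zero, map_zero]

/-- `range ν^j` is stable under the elements normalizing `⟨x⟩`. -/
theorem rho_mem_range_mrNu_pow (ρ : Representation F Γ V) {x g : Γ} {n : ℕ}
    (h : g * x * g⁻¹ = x ^ n) (j : ℕ) {v : V} (hv : v ∈ LinearMap.range (mrNu ρ x ^ j)) :
    ρ g v ∈ LinearMap.range (mrNu ρ x ^ j) := by
  obtain ⟨w, rfl⟩ := hv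
  have h' : (g⁻¹)⁻¹ * x * g⁻¹ = x ^ n := by rw [inv_inv]; exact h
  have h1 := congrArg (fun f => f (ρ g w)) (mrNu_pow_mul_rho ρ h' j)
  simp only [Module.End.mul_apply] at h1
  rw [Representation.inv_self_apply] at h1
  have hc := (commute_mrGeom_mrNu ρ x n).pow_pow j j
  refine ⟨(mrGeom ρ x n ^ j) (ρ g w), ?_⟩
  have h2 : (mrNu ρ x ^ j) ((mrGeom ρ x n ^ j) (ρ g w)) =
      (mrGeom ρ x n ^ j) ((mrNu ρ x ^ j) (ρ g w)) := by
    have := congrArg (fun f => f (ρ g w)) hc.eq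
    simpa [Module.End.mul_apply] using this.symm
  rw [h2, h1, Representation.self_inv_apply]

end

end Cfsg.Agent.Lib.Helper8
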