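import Mathlib
import Cfsg.Agent.Lib.Helper8.MR3

/-!
# Invariant subspaces and Maschke averaging over a subgroup of invertible order
-/

set_option autoImplicit false

namespace Cfsg.Agent.Lib.Helper8

section

variable {F : Type*} [Field F] {Γ : Type*} [Group Γ]
variable {V W : Type*} [AddCommGroup V] [Module F V] [AddCommGroup W] [Module F W]

/-- `Y` is stable under the elements of `H`. -/
def MRInv (H : Subgroup Γ) (ρ : Representation F Γ V) (Y : Submodule F V) : Prop :=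
  ∀ g ∈ H, ∀ v ∈ Y, ρ g v ∈ Y

theorem mrInv_bot (H : Subgroup Γ) (ρ : Representation F Γ V) : MRInv H ρ ⊥ := by
  intro g _ v hv
  rw [Submodule.mem_bot] at hv ⊢
  rw [hv, map_zero]

theorem mrInv_top (H : Subgroup Γ) (ρ : Representation F Γ V) : MRInv H ρ ⊤ :=
  fun _ _ _ _ => Submodule.mem_top

theorem MRInv.inf {H : Subgroup Γ} {ρ : Representation F Γ V} {Y Z : Submodule F V}
    (hY : MRInv H ρ Y) (hZ : MRInv H ρ Z) : MRInv H ρ (Y ⊓ Z) :=
  fun g hg v hv => ⟨hY g hg v hv.1, hZ g hg v hv.2⟩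

theorem MRInv.sup {H : Subgroup Γ} {ρ : Representation F Γ V} {Y Z : Submodule F V}
    (hY : MRInv H ρ Y) (hZ : MRInv H ρ Z) : MRInv H ρ (Y ⊔ Z) := by
  intro g hg v hv
  obtain ⟨y, hy, z, hz, rfl⟩ := Submodule.mem_sup.1 hv
  rw [map_add]
  exact Submodule.add_mem_sup (hY g hg y hy) (hZ g hg z hz)

theorem MRInv.mono {H K : Subgroup Γ} (hKH : K ≤ H) {ρ : Representation F Γ V}
    {Y : Submodule F V} (hY : MRInv H ρ Y) : MRInv K ρ Y :=
  fun g hg v hv => hY g (hKH hg) v hv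

theorem mrInv_ker {H : Subgroup Γ} {ρ : Representation F Γ V} {σ : Representation F Γ W}
    {φ : V →ₗ[F] W} (hφ : MREquiv H ρ σ φ) : MRInv H ρ (LinearMap.ker φ) := by
  intro g hg v hv
  rw [LinearMap.mem_ker] at hv ⊢
  rw [hφ.apply hg, hv, map_zero]

theorem mrInv_range {H : Subgroup Γ} {ρ : Representation F Γ V} {σ : Representation F Γ W}
    {φ : V →ₗ[F] W} (hφ : MREquiv H ρ σ φ) : MRInv H σ (LinearMap.range φ) := by
  rintro g hg _ ⟨v, rfl⟩
  exact ⟨ρ g v, hφ.apply hg v⟩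

theorem mrInv_map {H : Subgroup Γ} {ρ : Representation F Γ V} {σ : Representation F Γ W}
    {φ : V →ₗ[F] W} (hφ : MREquiv H ρ σ φ) {Y : Submodule F V} (hY : MRInv H ρ Y) :
    MRInv H σ (Y.map φ) := by
  rintro g hg _ ⟨v, hv, rfl⟩
  exact ⟨ρ g v, hY g hg v hv, hφ.apply hg v⟩

theorem mrInv_comap {H : Subgroup Γ} {ρ : Representation F Γ V} {σ : Representation F Γ W}
    {φ : V →ₗ[F] W} (hφ : MREquiv H ρ σ φ) {Y : Submodule F W} (hY : MRInv H σ Y) :
    MRInv H ρ (Y.comap φ) := by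
  intro g hg v hv
  rw [Submodule.mem_comap] at hv ⊢
  rw [hφ.apply hg]
  exact hY g hg _ hv

/-- The trace of an equivariant map is a multiple of the map. -/
theorem mrTr_of_mrEquiv (L : Subgroup Γ) [Fintype L] {ρ : Representation F Γ V}
    {σ : Representation F Γ W} {φ : V →ₗ[F] W} (hφ : MREquiv L ρ σ φ) :
    mrTr L ρ σ φ = (Fintype.card L : F) • φ := by
  ext v
  rw [mrTr_apply, LinearMap.smul_apply]
  have h1 : ∀ u : L, σ (u : Γ) (φ (ρ ((u : Γ)⁻¹) v)) = φ v := by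
    intro u
    rw [← hφ.apply u.2, Representation.self_inv_apply]
  rw [Finset.sum_congr rfl fun u _ => h1 u, Finset.sum_const, Finset.card_univ,
    Nat.cast_smul_eq_nsmul]

/-- The averaging operator over a subgroup of invertible order. -/
noncomputable def mrAvg (L : Subgroup Γ) [Fintype L] (ρ : Representation F Γ V)
    (σ : Representation F Γ W) (h : V →ₗ[F] W) : V →ₗ[F] W :=
  (Fintype.card L : F)⁻¹ • mrTr L ρ σ h

theorem mrEquiv_mrAvg (L : Subgroup Γ) [Fintype L] (ρ : Representation F Γ V)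
    (σ : Representation F Γ W) (h : V →ₗ[F] W) : MREquiv L ρ σ (mrAvg L ρ σ h) :=
  (mrEquiv_mrTr L ρ σ h).smul _

theorem mrAvg_of_mrEquiv (L : Subgroup Γ) [Fintype L] (hL : (Fintype.card L : F) ≠ 0)
    {ρ : Representation F Γ V} {σ : Representation F Γ W} {φ : V →ₗ[F] W}
    (hφ : MREquiv L ρ σ φ) : mrAvg L ρ σ φ = φ := by
  unfold mrAvg
  rw [mrTr_of_mrEquiv L hφ, smul_smul, inv_mul_cancel₀ hL, one_smul]

theorem mrAvg_apply (L : Subgroup Γ) [Fintype L] (ρ : Representation F Γ V)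
    (σ : Representation F Γ W) (h : V →ₗ[F] W) (v : V) :
    mrAvg L ρ σ h v = (Fintype.card L : F)⁻¹ • ∑ u : L, σ (u : Γ) (h (ρ ((u : Γ)⁻¹) v)) := by
  unfold mrAvg
  rw [LinearMap.smul_apply, mrTr_apply]

/-- The average of a map into an invariant subspace has range in that subspace. -/
theorem mrAvg_mem (L : Subgroup Γ) [Fintype L] (ρ : Representation F Γ V)
    (σ : Representation F Γ W) {Y : Submodule F W} (hY : MRInv L σ Y) {h : V →ₗ[F] W}
    (hh : ∀ v, h v ∈ Y) (v : V) : mrAvg L ρ σ h v ∈ Y := by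
  rw [mrAvg_apply]
  apply Y.smul_mem
  apply Y.sum_mem
  intro u _
  exact hY u u.2 _ (hh _)

/-- The average of a map which is the identity on an invariant subspace is the identity there. -/
theorem mrAvg_apply_of_id (L : Subgroup Γ) [Fintype L] (hL : (Fintype.card L : F) ≠ 0)
    (ρ : Representation F Γ V) {Y : Submodule F V} (hY : MRInv L ρ Y) {h : V →ₗ[F] V}
    (hh : ∀ v ∈ Y, h v = v) {v : V} (hv : v ∈ Y) : mrAvg L ρ ρ h v = v := by
  rw [mrAvg_apply]
  have h1 : ∀ u : L, ρ (u : Γ) (h (ρ ((u : Γ)⁻¹) v)) = v := by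
    intro u
    rw [hh _ (hY _ (L.inv_mem u.2) v hv), Representation.self_inv_apply]
  rw [Finset.sum_congr rfl fun u _ => h1 u, Finset.sum_const, Finset.card_univ,
    ← Nat.cast_smul_eq_nsmul F, smul_smul, inv_mul_cancel₀ hL, one_smul]

/-- **Maschke**: an invariant subspace of an invariant subspace has an invariant complement. -/
theorem exists_mrInv_compl (L : Subgroup Γ) [Fintype L] (hL : (Fintype.card L : F) ≠ 0)
    (ρ : Representation F Γ V) {K₀ W₀ : Submodule F V} (hK : MRInv L ρ K₀) (hW : MRInv L ρ W₀)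
    (hle : K₀ ≤ W₀) :
    ∃ W₁ : Submodule F V, MRInv L ρ W₁ ∧ W₁ ≤ W₀ ∧ W₁ ⊓ K₀ = ⊥ ∧ W₁ ⊔ K₀ = W₀ := by
  obtain ⟨g, hg⟩ := LinearMap.exists_leftInverse_of_injective K₀.subtype
    (LinearMap.ker_eq_bot.2 K₀.injective_subtype)
  set π₀ : V →ₗ[F] V := K₀.subtype ∘ₗ g with hπ₀
  have hπ₀mem : ∀ v, π₀ v ∈ K₀ := fun v => (g v).2
  have hπ₀id : ∀ v ∈ K₀, π₀ v = v := by
    intro v hv
    have h1 := congrArg (fun f => f (⟨v, hv⟩ : K₀)) hg
    simp only [LinearMap.comp_apply, LinearMap.id_apply] at h1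
    rw [hπ₀, LinearMap.comp_apply]
    exact congrArg Subtype.val h1
  set π := mrAvg L ρ ρ π₀ with hπ
  have hπmem : ∀ v, π v ∈ K₀ := mrAvg_mem L ρ ρ hK hπ₀mem
  have hπid : ∀ v ∈ K₀, π v = v := fun v hv => mrAvg_apply_of_id L hL ρ hK hπ₀id hv
  have hπeq : MREquiv L ρ ρ π := mrEquiv_mrAvg L ρ ρ π₀
  refine ⟨W₀ ⊓ LinearMap.ker π, hW.inf (mrInv_ker hπeq), inf_le_left, ?_, ?_⟩
  · rw [eq_bot_iff]
    rintro v ⟨⟨_, hv2⟩, hv3⟩
    rw [SetLike.mem_coe, LinearMap.mem_ker] at hv2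
    rw [Submodule.mem_bot, ← hπid v hv3, hv2]
  · apply le_antisymm
    · exact sup_le inf_le_left hle
    · intro v hv
      have h1 : v = (v - π v) + π v := by abel
      rw [h1]
      apply Submodule.add_mem_sup
      · refine ⟨W₀.sub_mem hv (hle (hπmem v)), ?_⟩
        rw [SetLike.mem_coe, LinearMap.mem_ker, map_sub, hπid _ (hπmem v), sub_self]
      · exact hπmem v

/-- A minimal nonzero invariant subspace. -/
def MRSimple (H : Subgroup Γ) (ρ : Representation F Γ V) (T : Submodule F V) : Prop :=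
  T ≠ ⊥ ∧ MRInv H ρ T ∧ ∀ Y : Submodule F V, Y ≤ T → MRInv H ρ Y → Y = ⊥ ∨ Y = T

theorem exists_mrSimple_le [FiniteDimensional F V] (H : Subgroup Γ) (ρ : Representation F Γ V)
    {Y : Submodule F V} (hY : MRInv H ρ Y) (hne : Y ≠ ⊥) :
    ∃ T : Submodule F V, T ≤ Y ∧ MRSimple H ρ T := by
  classical
  have hex : ∃ n : ℕ, ∃ T : Submodule F V, T ≤ Y ∧ T ≠ ⊥ ∧ MRInv H ρ T ∧
      Module.finrank F T = n := ⟨_, Y, le_rfl, hne, hY, rfl⟩
  obtain ⟨T, hTY, hTne, hTinv, hTn⟩ := Nat.find_spec hex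
  refine ⟨T, hTY, hTne, hTinv, ?_⟩
  intro Z hZT hZinv
  by_contra hcon
  rw [not_or] at hcon
  have hlt : Module.finrank F Z < Module.finrank F T :=
    Submodule.finrank_lt_finrank_of_lt (lt_of_le_of_ne hZT hcon.2)
  have := Nat.find_min hex (m := Module.finrank F Z) (by rw [← hTn]; exact hlt)
  exact this ⟨Z, hZT.trans hTY, hcon.1, hZinv, rfl⟩

end

end Cfsg.Agent.Lib.Helper8
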