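import Mathlib
import Cfsg.Agent.Lib.Helper8.MR4

/-!
# A pure free submodule over a truncated polynomial ring is a direct summand

For a single endomorphism `ν`, an exponent `j` and a subspace `W₁` on which `ν^j` is injective
modulo the range of `ν^(j+1)` and which is killed by `ν^(j+1)`, the subspace
`W = W₁ + ν W₁ + ⋯ + ν^j W₁` admits a retraction commuting with `ν`.
-/

set_option autoImplicit false

namespace Cfsg.Agent.Lib.Helper8

section

variable {F : Type*} [Field F] {V : Type*} [AddCommGroup V] [Module F V]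

/-- The map `(w_i) ↦ ∑ ν^i w_i`. -/
noncomputable def mrXi (ν : Module.End F V) (j : ℕ) (W₁ : Submodule F V) :
    (Fin (j + 1) → W₁) →ₗ[F] V :=
  ∑ i : Fin (j + 1), (ν ^ (i : ℕ)) ∘ₗ W₁.subtype ∘ₗ LinearMap.proj i

theorem mrXi_apply (ν : Module.End F V) (j : ℕ) (W₁ : Submodule F V) (w : Fin (j + 1) → W₁) :
    mrXi ν j W₁ w = ∑ i : Fin (j + 1), (ν ^ (i : ℕ)) (w i : V) := by
  unfold mrXi
  rw [LinearMap.sum_apply]
  rfl

/-- The subspace `W₁ + ν W₁ + ⋯ + ν^j W₁`. -/
noncomputable def mrFree (ν : Module.End F V) (j : ℕ) (W₁ : Submodule F V) : Submodule F V :=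
  LinearMap.range (mrXi ν j W₁)

theorem pow_mem_mrFree (ν : Module.End F V) (j : ℕ) (W₁ : Submodule F V) {a : ℕ} (ha : a ≤ j)
    {w : V} (hw : w ∈ W₁) : (ν ^ a) w ∈ mrFree ν j W₁ := by
  classical
  refine ⟨Pi.single (⟨a, Nat.lt_succ_of_le ha⟩ : Fin (j + 1)) ⟨w, hw⟩, ?_⟩
  rw [mrXi_apply, Finset.sum_eq_single (⟨a, Nat.lt_succ_of_le ha⟩ : Fin (j + 1))]
  · rw [Pi.single_eq_same]
  · intro b _ hb
    rw [Pi.single_eq_of_ne hb]
    simp
  · intro h
    exact absurd (Finset.mem_univ _) h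

theorem le_mrFree (ν : Module.End F V) (j : ℕ) (W₁ : Submodule F V) : W₁ ≤ mrFree ν j W₁ := by
  intro w hw
  have := pow_mem_mrFree ν j W₁ (Nat.zero_le j) hw
  simpa using this

variable {ν : Module.End F V} {j : ℕ} {W₁ : Submodule F V}

/-- The key independence statement. -/
theorem mrXi_eq_zero_of_pure (h2 : ∀ w ∈ W₁, (ν ^ (j + 1)) w = 0)
    (h3 : ∀ w ∈ W₁, (ν ^ j) w ∈ LinearMap.range (ν ^ (j + 1)) → w = 0)
    {w : Fin (j + 1) → W₁} {u : V} (h : mrXi ν j W₁ w = (ν ^ (j + 1)) u) : w = 0 := by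
  have key : ∀ (i : ℕ) (hi : i < j + 1), w ⟨i, hi⟩ = 0 := by
    intro i
    induction i using Nat.strong_induction_on with
    | _ i ih =>
      intro hi
      have h4 : (ν ^ (j - i)) (mrXi ν j W₁ w) = (ν ^ (j - i)) ((ν ^ (j + 1)) u) := by rw [h]
      rw [mrXi_apply, map_sum, Finset.sum_eq_single (⟨i, hi⟩ : Fin (j + 1))] at h4
      · apply Subtype.ext
        rw [Submodule.coe_zero]
        apply h3 _ (w ⟨i, hi⟩).2
        have h5 : (ν ^ (j - i)) ((ν ^ i) (w ⟨i, hi⟩ : V)) = (ν ^ j) (w ⟨i, hi⟩ : V) := by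
          rw [← Module.End.mul_apply, ← pow_add, Nat.sub_add_cancel (Nat.le_of_lt_succ hi)]
        rw [← h5, h4]
        refine ⟨(ν ^ (j - i)) u, ?_⟩
        rw [← Module.End.mul_apply, ← Module.End.mul_apply, ← pow_add, ← pow_add, add_comm]
      · intro b _ hb
        rcases lt_or_gt_of_ne (fun h' => hb (Fin.ext h')) with hlt | hgt
        · have := ih b hlt b.2
          rw [show (⟨(b : ℕ), b.2⟩ : Fin (j + 1)) = b from rfl] at this
          rw [this]
          simp
        · have h6 : (ν ^ (j - i)) ((ν ^ (b : ℕ)) (w b : V)) =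
              (ν ^ ((j - i) + b - (j + 1))) ((ν ^ (j + 1)) (w b : V)) := by
            rw [← Module.End.mul_apply, ← Module.End.mul_apply, ← pow_add, ← pow_add]
            congr 2
            have : i < (b : ℕ) := hgt
            omega
          rw [h6, h2 _ (w b).2, map_zero]
      · intro h'
        exact absurd (Finset.mem_univ _) h'
  funext i
  exact key i i.2

/-- The functional `λ`. -/
theorem exists_mrLambda (h2 : ∀ w ∈ W₁, (ν ^ (j + 1)) w = 0)
    (h3 : ∀ w ∈ W₁, (ν ^ j) w ∈ LinearMap.range (ν ^ (j + 1)) → w = 0) :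
    ∃ lam : V →ₗ[F] W₁, (∀ (a : ℕ), a ≤ j → ∀ (w : W₁),
      lam ((ν ^ a) (w : V)) = if a = j then w else 0) ∧ ∀ u : V, lam ((ν ^ (j + 1)) u) = 0 := by
  classical
  set Ξ : ((Fin (j + 1) → W₁) × LinearMap.range (ν ^ (j + 1))) →ₗ[F] V :=
    (mrXi ν j W₁).coprod (LinearMap.range (ν ^ (j + 1))).subtype with hΞ
  have hinj : Function.Injective Ξ := by
    rw [← LinearMap.ker_eq_bot, eq_bot_iff]
    rintro ⟨w, z⟩ hwz
    rw [LinearMap.mem_ker, hΞ, LinearMap.coprod_apply, Submodule.subtype_apply] at hwz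
    obtain ⟨u, hu⟩ := z.2
    have h5 : mrXi ν j W₁ w = (ν ^ (j + 1)) (-u) := by
      rw [map_neg, hu]
      exact eq_neg_of_add_eq_zero_left hwz
    have hw0 := mrXi_eq_zero_of_pure h2 h3 h5
    rw [hw0, map_zero, zero_add] at hwz
    rw [Submodule.mem_bot, Prod.mk_eq_zero]
    exact ⟨hw0, Subtype.ext hwz⟩
  obtain ⟨Ξ', hΞ'⟩ := LinearMap.exists_leftInverse_of_injective Ξ (LinearMap.ker_eq_bot.2 hinj)
  have hΞapp : ∀ (w : Fin (j + 1) → W₁) (z : LinearMap.range (ν ^ (j + 1))),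
      Ξ (w, z) = mrXi ν j W₁ w + (z : V) := by
    intro w z
    rw [hΞ, LinearMap.coprod_apply]
    rfl
  refine ⟨LinearMap.proj (Fin.last j) ∘ₗ LinearMap.fst F _ _ ∘ₗ Ξ', ?_, ?_⟩
  · intro a ha w
    have h6 : (ν ^ a) (w : V) = Ξ (Pi.single (⟨a, Nat.lt_succ_of_le ha⟩ : Fin (j + 1)) w, 0) := by
      rw [hΞapp, Submodule.coe_zero, add_zero, mrXi_apply,
        Finset.sum_eq_single (⟨a, Nat.lt_succ_of_le ha⟩ : Fin (j + 1))]
      · rw [Pi.single_eq_same]
      · intro b _ hb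
        rw [Pi.single_eq_of_ne hb]
        simp
      · intro h
        exact absurd (Finset.mem_univ _) h
    have h7 := congrArg (fun f => f (Pi.single (⟨a, Nat.lt_succ_of_le ha⟩ : Fin (j + 1)) w,
      (0 : LinearMap.range (ν ^ (j + 1))))) hΞ'
    simp only [LinearMap.comp_apply, LinearMap.id_apply] at h7
    rw [h6, LinearMap.comp_apply, LinearMap.comp_apply, h7, LinearMap.fst_apply,
      LinearMap.proj_apply]
    by_cases haj : a = j
    · subst haj
      rw [if_pos rfl]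
      exact Pi.single_eq_same _ _
    · rw [if_neg haj]
      apply Pi.single_eq_of_ne
      intro h8
      apply haj
      have := congrArg Fin.val h8
      simpa using this.symm
  · intro u
    have h6 : (ν ^ (j + 1)) u = Ξ (0, ⟨(ν ^ (j + 1)) u, LinearMap.mem_range_self _ u⟩) := by
      rw [hΞapp, map_zero, zero_add]
    have h7 := congrArg (fun f => f ((0 : Fin (j + 1) → W₁),
      (⟨(ν ^ (j + 1)) u, LinearMap.mem_range_self _ u⟩ : LinearMap.range (ν ^ (j + 1))))) hΞ'
    simp only [LinearMap.comp_apply, LinearMap.id_apply] at h7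
    rw [h6, LinearMap.comp_apply, LinearMap.comp_apply, h7, LinearMap.fst_apply,
      LinearMap.proj_apply]
    rfl

end

end Cfsg.Agent.Lib.Helper8
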