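import Mathlib
import Cfsg.Agent.Lib.Helper8.MR5

/-!
# The retraction onto a pure free submodule, and its socle
-/

set_option autoImplicit false

namespace Cfsg.Agent.Lib.Helper8

section

variable {F : Type*} [Field F] {V : Type*} [AddCommGroup V] [Module F V]
variable {ν : Module.End F V} {j : ℕ} {W₁ : Submodule F V}

theorem nu_mem_mrFree (h2 : ∀ w ∈ W₁, (ν ^ (j + 1)) w = 0) {v : V} (hv : v ∈ mrFree ν j W₁) :
    ν v ∈ mrFree ν j W₁ := by
  obtain ⟨w, rfl⟩ := hv
  rw [mrXi_apply, map_sum]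
  apply Submodule.sum_mem
  intro i _
  rw [← Module.End.mul_apply, ← pow_succ']
  by_cases hi : (i : ℕ) + 1 ≤ j
  · exact pow_mem_mrFree ν j W₁ hi (w i).2
  · have : (i : ℕ) + 1 = j + 1 := by
      have := i.2
      omega
    rw [this, h2 _ (w i).2]
    exact Submodule.zero_mem _

theorem exists_mrRetract (h2 : ∀ w ∈ W₁, (ν ^ (j + 1)) w = 0)
    (h3 : ∀ w ∈ W₁, (ν ^ j) w ∈ LinearMap.range (ν ^ (j + 1)) → w = 0) :
    ∃ r : V →ₗ[F] V, r ∘ₗ ν = ν ∘ₗ r ∧ (∀ v, r v ∈ mrFree ν j W₁) ∧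
      ∀ v ∈ mrFree ν j W₁, r v = v := by
  classical
  obtain ⟨lam, hlam1, hlam2⟩ := exists_mrLambda h2 h3
  set r : V →ₗ[F] V := ∑ i ∈ Finset.range (j + 1),
    (ν ^ i) ∘ₗ W₁.subtype ∘ₗ lam ∘ₗ (ν ^ (j - i)) with hr
  have hrapp : ∀ v, r v = ∑ i ∈ Finset.range (j + 1), (ν ^ i) (lam ((ν ^ (j - i)) v) : V) := by
    intro v
    rw [hr, LinearMap.sum_apply]
    rfl
  refine ⟨r, ?_, ?_, ?_⟩
  · ext v
    rw [LinearMap.comp_apply, LinearMap.comp_apply, hrapp, hrapp, map_sum,
      Finset.sum_range_succ', Finset.sum_range_succ]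
    have e1 : (ν ^ 0) (lam ((ν ^ (j - 0)) (ν v)) : V) = 0 := by
      rw [Nat.sub_zero, ← Module.End.mul_apply, ← pow_succ, hlam2]
      simp
    have e2 : ν ((ν ^ j) (lam ((ν ^ (j - j)) v) : V)) = 0 := by
      rw [← Module.End.mul_apply, ← pow_succ']
      exact h2 _ (lam _).2
    rw [e1, e2, add_zero, add_zero]
    refine Finset.sum_congr rfl fun i hi => ?_
    rw [Finset.mem_range] at hi
    rw [← Module.End.mul_apply ν, ← pow_succ', ← Module.End.mul_apply (ν ^ (j - (i + 1))),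
      ← pow_succ]
    have : j - (i + 1) + 1 = j - i := by omega
    rw [this]
  · intro v
    rw [hrapp]
    apply Submodule.sum_mem
    intro i hi
    rw [Finset.mem_range] at hi
    exact pow_mem_mrFree ν j W₁ (Nat.le_of_lt_succ hi) (lam _).2
  · intro v hv
    obtain ⟨w, rfl⟩ := hv
    rw [mrXi_apply, map_sum]
    refine Finset.sum_congr rfl fun a _ => ?_
    have ha : (a : ℕ) ≤ j := Nat.le_of_lt_succ a.2
    rw [hrapp, Finset.sum_eq_single (a : ℕ)]
    · rw [← Module.End.mul_apply (ν ^ (j - (a : ℕ))), ← pow_add, Nat.sub_add_cancel ha,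
        hlam1 j le_rfl, if_pos rfl]
    · intro i hi hia
      rw [Finset.mem_range] at hi
      rw [← Module.End.mul_apply (ν ^ (j - i)), ← pow_add]
      rcases lt_or_gt_of_ne hia with hlt | hgt
      · -- `i < a`: the exponent exceeds `j`
        have h4 : (ν ^ (j - i + (a : ℕ))) (w a : V) =
            (ν ^ (j - i + (a : ℕ) - (j + 1))) ((ν ^ (j + 1)) (w a : V)) := by
          rw [← Module.End.mul_apply, ← pow_add]
          congr 2
          omega
        rw [h4, h2 _ (w a).2, map_zero, map_zero]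
        simp
      · -- `a < i`
        have hle : j - i + (a : ℕ) ≤ j := by omega
        rw [hlam1 _ hle, if_neg (by omega)]
        simp
    · intro h
      exact absurd (Finset.mem_range.2 a.2) h

/-- The socle of the free submodule is its top layer. -/
theorem mem_map_of_mem_mrFree_of_nu_eq_zero (h2 : ∀ w ∈ W₁, (ν ^ (j + 1)) w = 0)
    (h3 : ∀ w ∈ W₁, (ν ^ j) w ∈ LinearMap.range (ν ^ (j + 1)) → w = 0) {v : V}
    (hv : v ∈ mrFree ν j W₁) (hν : ν v = 0) : v ∈ W₁.map (ν ^ j) := by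
  obtain ⟨w, rfl⟩ := hv
  set w' : Fin (j + 1) → W₁ := Fin.cons 0 (fun i : Fin j => w (Fin.castSucc i)) with hw'
  have h4 : mrXi ν j W₁ w' = (ν ^ (j + 1)) 0 := by
    rw [map_zero, ← hν, mrXi_apply, mrXi_apply, map_sum, Fin.sum_univ_succ,
      Fin.sum_univ_castSucc (n := j)]
    have e1 : ν ((ν ^ ((Fin.last j : Fin (j + 1)) : ℕ)) (w (Fin.last j) : V)) = 0 := by
      rw [← Module.End.mul_apply, ← pow_succ', Fin.val_last]
      exact h2 _ (w _).2
    rw [e1, add_zero, hw', Fin.cons_zero]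
    simp only [Fin.cons_succ, Fin.val_succ, Fin.val_castSucc, Fin.val_zero, pow_zero,
      Submodule.coe_zero, map_zero, zero_add]
    refine Finset.sum_congr rfl fun i _ => ?_
    rw [← Module.End.mul_apply, ← pow_succ']
  have h5 := mrXi_eq_zero_of_pure h2 h3 h4
  have h6 : ∀ i : Fin j, w (Fin.castSucc i) = 0 := by
    intro i
    have := congrFun h5 i.succ
    rw [hw', Fin.cons_succ] at this
    exact this
  refine ⟨(w (Fin.last j) : V), (w (Fin.last j)).2, ?_⟩
  rw [mrXi_apply, Fin.sum_univ_castSucc (n := j)]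
  rw [Finset.sum_eq_zero (fun i _ => by rw [h6 i]; simp), zero_add, Fin.val_last]

end

end Cfsg.Agent.Lib.Helper8
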