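import Mathlib
import Cfsg.Agent.Lib.Helper8.MR6

/-!
# Helper lemmas on a cyclic normal subgroup `⟨x⟩` with a complement
-/

set_option autoImplicit false

namespace Cfsg.Agent.Lib.Helper8

section

variable {F : Type*} [Field F] {Γ : Type*} [Group Γ]
variable {V W : Type*} [AddCommGroup V] [Module F V] [AddCommGroup W] [Module F W]

theorem exists_pow_eq_of_mem_zpowers {x : Γ} (hx : 0 < orderOf x) {u : Γ}
    (hu : u ∈ Subgroup.zpowers x) : ∃ n : ℕ, x ^ n = u := by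
  have hfin : IsOfFinOrder x := orderOf_pos_iff.1 hx
  rw [← hfin.mem_powers_iff_mem_zpowers] at hu
  exact (Submonoid.mem_powers_iff _ _).1 hu

theorem rho_eq_of_mem_ker_mrNu (ρ : Representation F Γ V) {x : Γ} (hx : 0 < orderOf x) {v : V}
    (hv : mrNu ρ x v = 0) {u : Γ} (hu : u ∈ Subgroup.zpowers x) : ρ u v = v := by
  obtain ⟨n, rfl⟩ := exists_pow_eq_of_mem_zpowers hx hu
  have h1 : ρ x v = v := by
    rw [mrNu_apply] at hv
    exact sub_eq_zero.1 hv
  clear hu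
  rw [map_pow]
  induction n with
  | zero => simp
  | succ k ih => rw [pow_succ, Module.End.mul_apply, h1, ih]

/-- A map commuting with `ν` is equivariant for `⟨x⟩`. -/
theorem mrEquiv_zpowers_of_comm (ρ : Representation F Γ V) (σ : Representation F Γ W) {x : Γ}
    (hx : 0 < orderOf x) {r : V →ₗ[F] W} (hr : r ∘ₗ mrNu ρ x = mrNu σ x ∘ₗ r) :
    MREquiv (Subgroup.zpowers x) ρ σ r := by
  have h1 : r ∘ₗ ρ x = σ x ∘ₗ r := by
    ext v
    have := congrArg (fun f => f v) hr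
    simp only [LinearMap.comp_apply, mrNu_apply, map_sub] at this
    rw [LinearMap.comp_apply, LinearMap.comp_apply]
    exact sub_left_inj.1 this
  have h2 : ∀ n : ℕ, r ∘ₗ ρ (x ^ n) = σ (x ^ n) ∘ₗ r := by
    intro n
    induction n with
    | zero =>
      ext v
      simp
    | succ k ih =>
      rw [pow_succ, map_mul, map_mul, Module.End.mul_eq_comp, Module.End.mul_eq_comp,
        ← LinearMap.comp_assoc, ih, LinearMap.comp_assoc, h1, ← LinearMap.comp_assoc]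
  intro u hu
  obtain ⟨n, rfl⟩ := exists_pow_eq_of_mem_zpowers hx hu
  exact h2 n

theorem comm_mrNu_of_mrEquiv (ρ : Representation F Γ V) (σ : Representation F Γ W) {x : Γ}
    {H : Subgroup Γ} (hxH : x ∈ H) {r : V →ₗ[F] W} (hr : MREquiv H ρ σ r) :
    r ∘ₗ mrNu ρ x = mrNu σ x ∘ₗ r := by
  ext v
  rw [LinearMap.comp_apply, LinearMap.comp_apply, mrNu_apply, mrNu_apply, map_sub,
    hr.apply hxH]

/-- Averaging over a subgroup normalizing `P` preserves `P`-equivariance. -/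
theorem mrEquiv_mrAvg_of_normalizes (P L : Subgroup Γ) [Fintype L] (ρ : Representation F Γ V)
    (σ : Representation F Γ W) (hnorm : ∀ l ∈ L, ∀ u ∈ P, l⁻¹ * u * l ∈ P) {r : V →ₗ[F] W}
    (hr : MREquiv P ρ σ r) : MREquiv P ρ σ (mrAvg L ρ σ r) := by
  apply mrEquiv_of_apply
  intro u hu v
  rw [mrAvg_apply, mrAvg_apply]
  have h0 : σ u ((Fintype.card L : F)⁻¹ • ∑ l : L, σ (l : Γ) (r (ρ ((l : Γ)⁻¹) v))) =
      (Fintype.card L : F)⁻¹ • ∑ l : L, σ u (σ (l : Γ) (r (ρ ((l : Γ)⁻¹) v))) := by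
    rw [map_smul, map_sum]
  rw [h0]
  congr 1
  refine Finset.sum_congr rfl fun l _ => ?_
  have e1 : ρ ((l : Γ)⁻¹) (ρ u v) = ρ ((l : Γ)⁻¹ * u * l) (ρ ((l : Γ)⁻¹) v) := by
    rw [← Module.End.mul_apply, ← map_mul, ← Module.End.mul_apply, ← map_mul]
    congr 2
    group
  have e2 : ∀ w : W, σ (l : Γ) (σ ((l : Γ)⁻¹ * u * l) w) = σ u (σ (l : Γ) w) := by
    intro w
    rw [← Module.End.mul_apply, ← map_mul, ← Module.End.mul_apply, ← map_mul]
    congr 2
    group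
  rw [e1, hr.apply (hnorm l l.2 u hu), e2]

/-- Equivariance for two subgroups whose product is everything. -/
theorem mrEquiv_top_of_mul (P L : Subgroup Γ) (hgen : ∀ g : Γ, ∃ u ∈ P, ∃ l ∈ L, g = u * l)
    {ρ : Representation F Γ V} {σ : Representation F Γ W} {r : V →ₗ[F] W}
    (hP : MREquiv P ρ σ r) (hL : MREquiv L ρ σ r) : MREquiv ⊤ ρ σ r := by
  intro g _
  obtain ⟨u, hu, l, hl, rfl⟩ := hgen g
  rw [map_mul, map_mul, Module.End.mul_eq_comp, Module.End.mul_eq_comp, ← LinearMap.comp_assoc,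
    hP u hu, LinearMap.comp_assoc, hL l hl, ← LinearMap.comp_assoc]

theorem mrInv_top_of_mul (P L : Subgroup Γ) (hgen : ∀ g : Γ, ∃ u ∈ P, ∃ l ∈ L, g = u * l)
    {ρ : Representation F Γ V} {Y : Submodule F V} (hP : MRInv P ρ Y) (hL : MRInv L ρ Y) :
    MRInv ⊤ ρ Y := by
  intro g _ v hv
  obtain ⟨u, hu, l, hl, rfl⟩ := hgen g
  rw [map_mul, Module.End.mul_apply]
  exact hP u hu _ (hL l hl v hv)

/-- The relation `ρ g ν^j = ν^j G^j ρ g`. -/
theorem rho_mul_mrNu_pow (ρ : Representation F Γ V) {x g : Γ} {n : ℕ}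
    (h : g * x * g⁻¹ = x ^ n) (j : ℕ) (w : V) :
    ρ g ((mrNu ρ x ^ j) w) = (mrNu ρ x ^ j) ((mrGeom ρ x n ^ j) (ρ g w)) := by
  have h' : (g⁻¹)⁻¹ * x * g⁻¹ = x ^ n := by rw [inv_inv]; exact h
  have h1 := congrArg (fun f => f (ρ g w)) (mrNu_pow_mul_rho ρ h' j)
  simp only [Module.End.mul_apply] at h1
  rw [Representation.inv_self_apply] at h1
  have hc := (commute_mrGeom_mrNu ρ x n).pow_pow j j
  have h2 : (mrNu ρ x ^ j) ((mrGeom ρ x n ^ j) (ρ g w)) =
      (mrGeom ρ x n ^ j) ((mrNu ρ x ^ j) (ρ g w)) := by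
    have := congrArg (fun f => f (ρ g w)) hc.eq
    simpa [Module.End.mul_apply] using this.symm
  rw [h2, h1, Representation.self_inv_apply]

theorem mrGeom_pow_apply_of_mem_ker (ρ : Representation F Γ V) (x : Γ) (n j : ℕ) {v : V}
    (hv : mrNu ρ x v = 0) : (mrGeom ρ x n ^ j) v = ((n : F) ^ j) • v := by
  induction j with
  | zero => simp
  | succ k ih =>
    rw [pow_succ, Module.End.mul_apply, mrGeom_apply_of_mem_ker ρ x n hv, map_smul, ih, smul_smul,
      pow_succ, mul_comm]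

end

end Cfsg.Agent.Lib.Helper8
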