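import Mathlib
import Cfsg.Agent.Lib.Helper8.MR7

/-!
# Invariance of the free submodule and the trace on the socle
-/

set_option autoImplicit false

namespace Cfsg.Agent.Lib.Helper8

section

variable {F : Type*} [Field F] {Γ : Type*} [Group Γ]
variable {U : Type*} [AddCommGroup U] [Module F U]

theorem pow_mem_of_forall_mem {Y : Submodule F U} {f : Module.End F U}
    (hf : ∀ v ∈ Y, f v ∈ Y) (k : ℕ) : ∀ v ∈ Y, (f ^ k) v ∈ Y := by
  induction k with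
  | zero => intro v hv; simpa using hv
  | succ n ih =>
    intro v hv
    rw [pow_succ, Module.End.mul_apply]
    exact ih _ (hf v hv)

theorem mrGeom_mem_of_forall_mem (ρ : Representation F Γ U) (x : Γ) {Y : Submodule F U}
    (hf : ∀ v ∈ Y, ρ x v ∈ Y) (n : ℕ) : ∀ v ∈ Y, mrGeom ρ x n v ∈ Y := by
  intro v hv
  unfold mrGeom
  rw [LinearMap.sum_apply]
  apply Submodule.sum_mem
  intro i _
  exact pow_mem_of_forall_mem hf i v hv

theorem rho_mem_of_nu_mem (ρ : Representation F Γ U) (x : Γ) {Y : Submodule F U}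
    (hf : ∀ v ∈ Y, mrNu ρ x v ∈ Y) : ∀ v ∈ Y, ρ x v ∈ Y := by
  intro v hv
  have h1 : ρ x v = mrNu ρ x v + v := by rw [mrNu_apply]; abel
  rw [h1]
  exact Y.add_mem (hf v hv) hv

/-- The free submodule on an `L`-invariant `W₁` is invariant under `⟨x⟩ L`. -/
theorem mrInv_mrFree (ρ : Representation F Γ U) {x : Γ} (hx : 0 < orderOf x)
    (P L : Subgroup Γ) (hP : P = Subgroup.zpowers x)
    (hnorm : ∀ g : Γ, ∃ n : ℕ, g * x * g⁻¹ = x ^ n)
    (hgen : ∀ g : Γ, ∃ u ∈ P, ∃ l ∈ L, g = u * l) {j : ℕ} {W₁ : Submodule F U}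
    (h2 : ∀ w ∈ W₁, (mrNu ρ x ^ (j + 1)) w = 0) (hW₁ : MRInv L ρ W₁) :
    MRInv ⊤ ρ (mrFree (mrNu ρ x) j W₁) := by
  have hν : ∀ v ∈ mrFree (mrNu ρ x) j W₁, mrNu ρ x v ∈ mrFree (mrNu ρ x) j W₁ :=
    fun v hv => nu_mem_mrFree h2 hv
  have hρx := rho_mem_of_nu_mem ρ x hν
  apply mrInv_top_of_mul P L hgen
  · intro u hu v hv
    rw [hP] at hu
    obtain ⟨n, rfl⟩ := exists_pow_eq_of_mem_zpowers hx hu
    rw [map_pow]
    exact pow_mem_of_forall_mem hρx n v hv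
  · intro l hl v hv
    obtain ⟨w, rfl⟩ := hv
    rw [mrXi_apply, map_sum]
    apply Submodule.sum_mem
    intro i _
    obtain ⟨n, hn⟩ := hnorm l
    rw [rho_mul_mrNu_pow ρ hn]
    apply pow_mem_of_forall_mem hν
    apply pow_mem_of_forall_mem (mrGeom_mem_of_forall_mem ρ x hρx n)
    exact le_mrFree _ _ _ (hW₁ l hl _ (w i).2)

variable (p : ℕ) [hp : Fact p.Prime] [CharP F p]

/-- On the socle, a trace is a norm. -/
theorem mrTr_apply_of_mem_ker (ρ : Representation F Γ U) {x : Γ} (hx : orderOf x = p)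
    (P : Subgroup Γ) [Fintype P] (hP : P = Subgroup.zpowers x) (h : U →ₗ[F] U) {v : U}
    (hv : mrNu ρ x v = 0) : mrTr P ρ ρ h v = (mrNu ρ x ^ (p - 1)) (h v) := by
  have hpos : 0 < orderOf x := by rw [hx]; exact hp.out.pos
  rw [mrTr_apply, ← sum_zpowers_eq p ρ hx P hP, LinearMap.sum_apply]
  refine Finset.sum_congr rfl fun u _ => ?_
  rw [rho_eq_of_mem_ker_mrNu ρ hpos hv]
  rw [← hP]
  exact P.inv_mem u.2

theorem range_le_ker_mrNu (ρ : Representation F Γ U) {x : Γ} (hx : orderOf x = p) :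
    LinearMap.range (mrNu ρ x ^ (p - 1)) ≤ LinearMap.ker (mrNu ρ x) := by
  rintro _ ⟨w, rfl⟩
  rw [LinearMap.mem_ker, ← Module.End.mul_apply, ← pow_succ', Nat.sub_add_cancel hp.out.one_le,
    mrNu_pow_p p ρ hx]
  rfl

theorem mrInv_ker_mrNu_pow (ρ : Representation F Γ U) {x : Γ}
    (hnorm : ∀ g : Γ, ∃ n : ℕ, g * x * g⁻¹ = x ^ n) (j : ℕ) :
    MRInv ⊤ ρ (LinearMap.ker (mrNu ρ x ^ j)) := by
  intro g _ v hv
  obtain ⟨n, hn⟩ := hnorm g⁻¹
  rw [inv_inv] at hn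
  rw [LinearMap.mem_ker] at hv ⊢
  exact rho_mem_ker_mrNu_pow ρ hn j hv

theorem mrInv_range_mrNu_pow (ρ : Representation F Γ U) {x : Γ}
    (hnorm : ∀ g : Γ, ∃ n : ℕ, g * x * g⁻¹ = x ^ n) (j : ℕ) :
    MRInv ⊤ ρ (LinearMap.range (mrNu ρ x ^ j)) := by
  intro g _ v hv
  obtain ⟨n, hn⟩ := hnorm g
  exact rho_mem_range_mrNu_pow ρ hn j hv

theorem mrInv_ker_mrNu (ρ : Representation F Γ U) {x : Γ}
    (hnorm : ∀ g : Γ, ∃ n : ℕ, g * x * g⁻¹ = x ^ n) :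
    MRInv ⊤ ρ (LinearMap.ker (mrNu ρ x)) := by
  have := mrInv_ker_mrNu_pow ρ hnorm 1
  rwa [pow_one] at this

end

end Cfsg.Agent.Lib.Helper8
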