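import Mathlib
import Cfsg.Agent.Lib.Helper8.MR8

/-!
# Modules for `⟨x⟩ ⋊ L` whose stable endomorphism ring is at most one-dimensional
have a simple (or zero) Tate quotient `ker ν / im ν^(p-1)`.
-/

set_option autoImplicit false
set_option maxHeartbeats 800000

namespace Cfsg.Agent.Lib.Helper8

section

variable {F : Type*} [Field F] {Γ : Type*} [Group Γ]
variable {U : Type*} [AddCommGroup U] [Module F U]
variable (p : ℕ) [hp : Fact p.Prime] [CharP F p]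

theorem simpleQ_of_endo {x : Γ} (hx : orderOf x = p)
    (P : Subgroup Γ) [Fintype P] (hP : P = Subgroup.zpowers x)
    (L : Subgroup Γ) [Fintype L] (hL : (Fintype.card L : F) ≠ 0)
    (hnorm : ∀ g : Γ, ∃ n : ℕ, g * x * g⁻¹ = x ^ n)
    (hgen : ∀ g : Γ, ∃ u ∈ P, ∃ l ∈ L, g = u * l)
    (ρ : Representation F Γ U) [FiniteDimensional F U]
    (H : ∀ ψ : U →ₗ[F] U, MREquiv ⊤ ρ ρ ψ →
      ∃ (c : F) (h : U →ₗ[F] U), ψ = c • LinearMap.id + mrTr P ρ ρ h)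
    {Y : Submodule F U} (hY : MRInv L ρ Y)
    (hRY : LinearMap.range (mrNu ρ x ^ (p - 1)) ≤ Y) (hYK : Y ≤ LinearMap.ker (mrNu ρ x)) :
    Y = LinearMap.range (mrNu ρ x ^ (p - 1)) ∨ Y = LinearMap.ker (mrNu ρ x) := by
  classical
  have hpos : 0 < orderOf x := by rw [hx]; exact hp.out.pos
  set ν := mrNu ρ x with hν
  set R := LinearMap.range (ν ^ (p - 1)) with hR
  set K := LinearMap.ker ν with hK
  have hRK : R ≤ K := range_le_ker_mrNu p ρ hx
  by_cases hKR : K ≤ R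
  · left
    exact le_antisymm (hYK.trans hKR) hRY
  -- the filtration of the socle
  have hex : ∃ j, j < p - 1 ∧ ¬ (K ⊓ LinearMap.range (ν ^ j) ≤ LinearMap.range (ν ^ (j + 1))) := by
    by_contra hcon
    push Not at hcon
    apply hKR
    have h1 : ∀ j, j ≤ p - 1 → K ≤ LinearMap.range (ν ^ j) := by
      intro j
      induction j with
      | zero =>
        intro _ v _
        exact ⟨v, by simp⟩
      | succ k ih =>
        intro hk
        have h2 := ih (Nat.le_of_succ_le hk)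
        exact (le_inf le_rfl h2).trans (hcon k (Nat.lt_of_succ_le hk))
    exact h1 (p - 1) le_rfl
  obtain ⟨j, hj, hS⟩ := hex
  -- invariance
  have hKinv : MRInv ⊤ ρ K := mrInv_ker_mrNu ρ hnorm
  have hRinv : ∀ i, MRInv ⊤ ρ (LinearMap.range (ν ^ i)) := fun i => mrInv_range_mrNu_pow ρ hnorm i
  have hLtop : L ≤ ⊤ := le_top
  have hSj : MRInv L ρ (K ⊓ LinearMap.range (ν ^ j)) := (hKinv.inf (hRinv j)).mono hLtop
  have hSj1 : MRInv L ρ (K ⊓ LinearMap.range (ν ^ j) ⊓ LinearMap.range (ν ^ (j + 1))) :=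
    hSj.inf ((hRinv (j + 1)).mono hLtop)
  obtain ⟨C, hCinv, hCle, hCinf, hCsup⟩ := exists_mrInv_compl L hL ρ hSj1 hSj inf_le_left
  have hCne : C ≠ ⊥ := by
    intro h0
    apply hS
    rw [h0, bot_sup_eq] at hCsup
    rw [← hCsup]
    exact inf_le_right
  obtain ⟨T₁, hT₁C, hT₁ne, hT₁inv, hT₁min⟩ := exists_mrSimple_le L ρ hCinv hCne
  have hT₁K : T₁ ≤ K := (hT₁C.trans hCle).trans inf_le_left
  have hT₁R : T₁ ≤ LinearMap.range (ν ^ j) := (hT₁C.trans hCle).trans inf_le_right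
  have hT₁pure : ∀ t ∈ T₁, t ∈ LinearMap.range (ν ^ (j + 1)) → t = 0 := by
    intro t ht ht'
    have h1 : t ∈ C ⊓ (K ⊓ LinearMap.range (ν ^ j) ⊓ LinearMap.range (ν ^ (j + 1))) :=
      ⟨hT₁C ht, ⟨hCle (hT₁C ht), ht'⟩⟩
    rw [hCinf] at h1
    exact (Submodule.mem_bot F).1 h1
  -- the lifting `W₁`
  have hK₀inv : MRInv L ρ (LinearMap.ker (ν ^ j)) := (mrInv_ker_mrNu_pow ρ hnorm j).mono hLtop
  have hW₀inv : MRInv L ρ (T₁.comap (ν ^ j)) := by
    intro l hl w hw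
    rw [Submodule.mem_comap] at hw ⊢
    obtain ⟨n, hn⟩ := hnorm l⁻¹
    rw [inv_inv] at hn
    have h1 := congrArg (fun f => f w) (mrNu_pow_mul_rho ρ hn j)
    simp only [Module.End.mul_apply] at h1
    rw [h1]
    apply hT₁inv l hl
    have h2 : ν ((ν ^ j) w) = 0 := LinearMap.mem_ker.1 (hT₁K hw)
    rw [mrGeom_pow_apply_of_mem_ker ρ x n j h2]
    exact T₁.smul_mem _ hw
  have hK₀W₀ : LinearMap.ker (ν ^ j) ≤ T₁.comap (ν ^ j) := by
    intro v hv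
    rw [Submodule.mem_comap, LinearMap.mem_ker.1 hv]
    exact T₁.zero_mem
  obtain ⟨W₁, hW₁inv, hW₁le, hW₁inf, hW₁sup⟩ := exists_mrInv_compl L hL ρ hK₀inv hW₀inv hK₀W₀
  have hW₁T : ∀ w ∈ W₁, (ν ^ j) w ∈ T₁ := fun w hw => hW₁le hw
  have h2 : ∀ w ∈ W₁, (ν ^ (j + 1)) w = 0 := by
    intro w hw
    rw [pow_succ', Module.End.mul_apply]
    exact LinearMap.mem_ker.1 (hT₁K (hW₁T w hw))
  have h3 : ∀ w ∈ W₁, (ν ^ j) w ∈ LinearMap.range (ν ^ (j + 1)) → w = 0 := by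
    intro w hw hw'
    have h4 := hT₁pure _ (hW₁T w hw) hw'
    have h5 : w ∈ W₁ ⊓ LinearMap.ker (ν ^ j) := ⟨hw, LinearMap.mem_ker.2 h4⟩
    rw [hW₁inf] at h5
    exact (Submodule.mem_bot F).1 h5
  have hmap : ∀ t ∈ T₁, ∃ w ∈ W₁, (ν ^ j) w = t := by
    intro t ht
    obtain ⟨u, hu⟩ := hT₁R ht
    have h4 : u ∈ T₁.comap (ν ^ j) := by
      rw [Submodule.mem_comap, hu]
      exact ht
    rw [← hW₁sup] at h4
    obtain ⟨w, hw, k, hk, rfl⟩ := Submodule.mem_sup.1 h4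
    refine ⟨w, hw, ?_⟩
    rw [← hu, map_add, LinearMap.mem_ker.1 hk, add_zero]
  -- the retraction
  obtain ⟨r₀, hr₀c, hr₀m, hr₀i⟩ := exists_mrRetract h2 h3
  set Wf := mrFree ν j W₁ with hWf
  have hWfinv : MRInv ⊤ ρ Wf := mrInv_mrFree ρ hpos P L hP hnorm hgen h2 hW₁inv
  have hr₀P : MREquiv P ρ ρ r₀ := by
    rw [hP]
    exact mrEquiv_zpowers_of_comm ρ ρ hpos hr₀c
  have hnorm' : ∀ l ∈ L, ∀ u ∈ P, l⁻¹ * u * l ∈ P := by
    intro l _ u hu
    rw [hP] at hu ⊢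
    obtain ⟨k, rfl⟩ := exists_pow_eq_of_mem_zpowers hpos hu
    obtain ⟨n, hn⟩ := hnorm l⁻¹
    rw [inv_inv] at hn
    have : l⁻¹ * x ^ k * l = (l⁻¹ * x * l) ^ k := by
      have h0 := conj_pow (a := l⁻¹) (b := x) (i := k)
      rw [inv_inv] at h0
      exact h0.symm
    rw [this, hn]
    exact Subgroup.pow_mem _ (Subgroup.pow_mem _ (Subgroup.mem_zpowers x) n) k
  set r₁ := mrAvg L ρ ρ r₀ with hr₁
  have hr₁L : MREquiv L ρ ρ r₁ := mrEquiv_mrAvg L ρ ρ r₀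
  have hr₁P : MREquiv P ρ ρ r₁ := mrEquiv_mrAvg_of_normalizes P L ρ ρ hnorm' hr₀P
  have hr₁top : MREquiv ⊤ ρ ρ r₁ := mrEquiv_top_of_mul P L hgen hr₁P hr₁L
  have hr₁m : ∀ v, r₁ v ∈ Wf := mrAvg_mem L ρ ρ (hWfinv.mono hLtop) hr₀m
  have hr₁i : ∀ v ∈ Wf, r₁ v = v :=
    fun v hv => mrAvg_apply_of_id L hL ρ (hWfinv.mono hLtop) hr₀i hv
  have hxP : x ∈ P := by rw [hP]; exact Subgroup.mem_zpowers x
  have hr₁c : r₁ ∘ₗ ν = ν ∘ₗ r₁ := comm_mrNu_of_mrEquiv ρ ρ hxP hr₁P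
  obtain ⟨c, h, hch⟩ := H r₁ hr₁top
  have hval : ∀ v ∈ K, r₁ v = c • v + (ν ^ (p - 1)) (h v) := by
    intro v hv
    rw [hch, LinearMap.add_apply, LinearMap.smul_apply, LinearMap.id_apply,
      mrTr_apply_of_mem_ker p ρ hx P hP h (LinearMap.mem_ker.1 hv)]
  have hjle : j + 1 ≤ p - 1 := hj
  have hRle : R ≤ LinearMap.range (ν ^ (j + 1)) := by
    rintro _ ⟨w, rfl⟩
    refine ⟨(ν ^ (p - 1 - (j + 1))) w, ?_⟩
    rw [← Module.End.mul_apply, ← pow_add, Nat.add_sub_cancel' hjle]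
  -- `c = 1`
  have hc : c = 1 := by
    obtain ⟨t, ht, ht0⟩ := Submodule.exists_mem_ne_zero_of_ne_bot hT₁ne
    obtain ⟨w, hw, hwt⟩ := hmap t ht
    have htW : t ∈ Wf := by
      rw [← hwt]
      exact pow_mem_mrFree ν j W₁ le_rfl hw
    have h4 := hval t (hT₁K ht)
    rw [hr₁i t htW] at h4
    have h5 : (1 - c) • t = (ν ^ (p - 1)) (h t) := by
      rw [sub_smul, one_smul]
      nth_rewrite 1 [h4]
      abel
    have h6 : (1 - c) • t = 0 :=
      hT₁pure _ (T₁.smul_mem _ ht) (hRle (by rw [h5]; exact LinearMap.mem_range_self _ _))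
    rcases smul_eq_zero.1 h6 with h7 | h7
    · exact (sub_eq_zero.1 h7).symm
    · exact absurd h7 ht0
  -- `K ≤ T₁ ⊔ R`
  have hKle : K ≤ T₁ ⊔ R := by
    intro v hv
    have h4 := hval v hv
    rw [hc, one_smul] at h4
    have h5 : ν (r₁ v) = 0 := by
      have := congrArg (fun f => f v) hr₁c
      simp only [LinearMap.comp_apply] at this
      rw [← this, LinearMap.mem_ker.1 hv, map_zero]
    obtain ⟨w, hw, hwt⟩ := mem_map_of_mem_mrFree_of_nu_eq_zero h2 h3 (hr₁m v) h5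
    have h6 : v = r₁ v - (ν ^ (p - 1)) (h v) := by rw [h4]; abel
    rw [h6]
    apply Submodule.sub_mem
    · apply Submodule.mem_sup_left
      rw [← hwt]
      exact hW₁T w hw
    · exact Submodule.mem_sup_right (LinearMap.mem_range_self _ _)
  -- conclusion
  have hYT : MRInv L ρ (Y ⊓ T₁) := hY.inf hT₁inv
  have hYeq : Y = (Y ⊓ T₁) ⊔ R := by
    apply le_antisymm
    · intro y hy
      obtain ⟨t, ht, r, hr, rfl⟩ := Submodule.mem_sup.1 (hKle (hYK hy))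
      apply Submodule.add_mem_sup _ hr
      refine ⟨?_, ht⟩
      have := Y.sub_mem hy (hRY hr)
      simpa using this
    · exact sup_le inf_le_left hRY
  rcases hT₁min (Y ⊓ T₁) inf_le_right hYT with h0 | h0
  · left
    rw [hYeq, h0, bot_sup_eq]
  · right
    apply le_antisymm hYK
    rw [hYeq, h0]
    exact hKle

end

end Cfsg.Agent.Lib.Helper8
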