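import Mathlib
import Cfsg.Agent.Lib.Helper8.MR9

/-!
# Irreducible representations: invariant subspaces, trivial action of a normal `p`-subgroup,
and the uniqueness of the irreducible representation mapping stably nontrivially
-/

set_option autoImplicit false
set_option maxHeartbeats 800000

namespace Cfsg.Agent.Lib.Helper8

section

variable {F : Type*} [Field F] {Γ : Type*} [Group Γ]
variable {T T' U : Type*} [AddCommGroup T] [Module F T] [AddCommGroup T'] [Module F T']
  [AddCommGroup U] [Module F U]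

theorem irr_eq_bot_or_top {τ : Representation F Γ T} (hτ : τ.IsIrreducible) {Y : Submodule F T}
    (hY : MRInv ⊤ τ Y) : Y = ⊥ ∨ Y = ⊤ := by
  have := hτ
  rcases eq_bot_or_eq_top (⟨Y, fun g v hv => hY g (Subgroup.mem_top g) v hv⟩ :
    Subrepresentation τ) with h | h
  · left
    exact congrArg Subrepresentation.toSubmodule h
  · right
    exact congrArg Subrepresentation.toSubmodule h

theorem irr_nontrivial {τ : Representation F Γ T} (hτ : τ.IsIrreducible) : Nontrivial T := by
  have := hτ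
  by_contra h
  rw [not_nontrivial_iff_subsingleton] at h
  have h1 : (⊥ : Subrepresentation τ) = ⊤ := by
    apply Subrepresentation.toSubmodule_injective
    exact Subsingleton.elim _ _
  exact bot_ne_top h1

/-- An equivariant map out of an irreducible representation is zero or injective. -/
theorem irr_ker_eq_bot {τ : Representation F Γ T} (hτ : τ.IsIrreducible)
    {ρ : Representation F Γ U} {φ : T →ₗ[F] U} (hφ : MREquiv ⊤ τ ρ φ) (hne : φ ≠ 0) :
    LinearMap.ker φ = ⊥ := by
  rcases irr_eq_bot_or_top hτ (mrInv_ker hφ) with h | h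
  · exact h
  · exfalso
    apply hne
    exact LinearMap.ker_eq_top.1 h

variable (p : ℕ) [hp : Fact p.Prime] [CharP F p]

/-- A normal subgroup of order `p` acts trivially on an irreducible representation in
characteristic `p`. -/
theorem irr_trivial_on {x : Γ} (hx : orderOf x = p)
    (hnorm : ∀ g : Γ, ∃ n : ℕ, g * x * g⁻¹ = x ^ n)
    {τ : Representation F Γ T} (hτ : τ.IsIrreducible) :
    ∀ u ∈ Subgroup.zpowers x, τ u = 1 := by
  have hpos : 0 < orderOf x := by rw [hx]; exact hp.out.pos
  have hnt := irr_nontrivial hτ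
  have hK : LinearMap.ker (mrNu τ x) ≠ ⊥ := by
    intro h0
    have hinj : Function.Injective (mrNu τ x) := LinearMap.ker_eq_bot.1 h0
    have hpow : Function.Injective (mrNu τ x ^ p) := by
      have : ∀ k : ℕ, Function.Injective (mrNu τ x ^ k) := by
        intro k
        induction k with
        | zero => intro a b hab; simpa using hab
        | succ n ih =>
          rw [pow_succ]
          exact ih.comp hinj
      exact this p
    rw [mrNu_pow_p p τ hx] at hpow
    obtain ⟨a, b, hab⟩ := hnt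
    exact hab (hpow (by simp))
  rcases irr_eq_bot_or_top hτ (mrInv_ker_mrNu τ hnorm) with h | h
  · exact absurd h hK
  · intro u hu
    ext v
    have hv : mrNu τ x v = 0 := by
      have : v ∈ LinearMap.ker (mrNu τ x) := by rw [h]; exact Submodule.mem_top
      exact LinearMap.mem_ker.1 this
    rw [rho_eq_of_mem_ker_mrNu τ hpos hv hu, Module.End.one_apply]

/-- A non-`P`-projective equivariant map from an irreducible representation is injective modulo
`R = im ν^(p-1)` and its image spans the Tate quotient. -/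
theorem injective_mkQ_comp_of_not_isPProj {x : Γ} (hx : orderOf x = p)
    (P : Subgroup Γ) [Fintype P] (hP : P = Subgroup.zpowers x)
    (L : Subgroup Γ)
    (hnorm : ∀ g : Γ, ∃ n : ℕ, g * x * g⁻¹ = x ^ n)
    (ρ : Representation F Γ U)
    (hQ : ∀ Y : Submodule F U, MRInv L ρ Y → LinearMap.range (mrNu ρ x ^ (p - 1)) ≤ Y →
      Y ≤ LinearMap.ker (mrNu ρ x) →
      Y = LinearMap.range (mrNu ρ x ^ (p - 1)) ∨ Y = LinearMap.ker (mrNu ρ x))
    {σ : Representation F Γ T} (hσ : σ.IsIrreducible)
    {ψ : T →ₗ[F] U} (hψ : MREquiv ⊤ σ ρ ψ) (hψP : ¬ IsPProj P σ ρ ψ) :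
    Function.Injective ((LinearMap.range (mrNu ρ x ^ (p - 1))).mkQ ∘ₗ ψ) ∧
      LinearMap.range ((LinearMap.range (mrNu ρ x ^ (p - 1))).mkQ ∘ₗ ψ) =
        (LinearMap.ker (mrNu ρ x)).map (LinearMap.range (mrNu ρ x ^ (p - 1))).mkQ := by
  classical
  set ν := mrNu ρ x with hν
  set R := LinearMap.range (ν ^ (p - 1)) with hR
  set K := LinearMap.ker ν with hK
  have hRK : R ≤ K := range_le_ker_mrNu p ρ hx
  have hRinv : MRInv ⊤ ρ R := mrInv_range_mrNu_pow ρ hnorm (p - 1)
  have hLtop : L ≤ ⊤ := le_top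
  have hxtop : x ∈ (⊤ : Subgroup Γ) := Subgroup.mem_top x
  have htriv : ∀ u ∈ P, σ u = 1 := by
    rw [hP]
    exact irr_trivial_on p hx hnorm hσ
  have hψK : LinearMap.range ψ ≤ K := by
    rintro _ ⟨s, rfl⟩
    rw [hK, LinearMap.mem_ker, hν, mrNu_apply, ← hψ.apply hxtop,
      htriv x (by rw [hP]; exact Subgroup.mem_zpowers x), Module.End.one_apply, sub_self]
  have hψR : ¬ LinearMap.range ψ ≤ R := by
    intro hle
    exact hψP ((isPProj_iff_of_trivial p σ ρ hx P hP htriv ψ).2 hle)
  have hsup : LinearMap.range ψ ⊔ R = K := by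
    rcases hQ (LinearMap.range ψ ⊔ R) (((mrInv_range hψ).sup hRinv).mono hLtop) le_sup_right
      (sup_le hψK hRK) with h | h
    · exfalso
      apply hψR
      rw [← h]
      exact le_sup_left
    · exact h
  have hcomap : R.comap ψ = ⊥ := by
    rcases irr_eq_bot_or_top hσ (mrInv_comap hψ hRinv) with h | h
    · exact h
    · exfalso
      apply hψR
      rintro _ ⟨s, rfl⟩
      have : s ∈ R.comap ψ := by rw [h]; exact Submodule.mem_top
      exact this
  constructor
  · rw [← LinearMap.ker_eq_bot, eq_bot_iff]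
    intro s hs
    rw [LinearMap.mem_ker, LinearMap.comp_apply, Submodule.mkQ_apply,
      Submodule.Quotient.mk_eq_zero] at hs
    have : s ∈ R.comap ψ := hs
    rw [hcomap] at this
    exact this
  · rw [LinearMap.range_comp, ← hsup, Submodule.map_sup, Submodule.mkQ_map_self, sup_bot_eq]

/-- **Uniqueness**: two irreducible representations both mapping to `U` by equivariant maps
that are not `P`-projective are isomorphic, when the Tate quotient of `U` is simple. -/
theorem exists_equiv_of_not_isPProj {x : Γ} (hx : orderOf x = p)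
    (P : Subgroup Γ) [Fintype P] (hP : P = Subgroup.zpowers x)
    (L : Subgroup Γ)
    (hnorm : ∀ g : Γ, ∃ n : ℕ, g * x * g⁻¹ = x ^ n)
    (ρ : Representation F Γ U)
    (hQ : ∀ Y : Submodule F U, MRInv L ρ Y → LinearMap.range (mrNu ρ x ^ (p - 1)) ≤ Y →
      Y ≤ LinearMap.ker (mrNu ρ x) →
      Y = LinearMap.range (mrNu ρ x ^ (p - 1)) ∨ Y = LinearMap.ker (mrNu ρ x))
    {τ : Representation F Γ T} (hτ : τ.IsIrreducible)
    {τ' : Representation F Γ T'} (hτ' : τ'.IsIrreducible)
    {φ : T →ₗ[F] U} (hφ : MREquiv ⊤ τ ρ φ) (hφP : ¬ IsPProj P τ ρ φ)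
    {φ' : T' →ₗ[F] U} (hφ' : MREquiv ⊤ τ' ρ φ') (hφ'P : ¬ IsPProj P τ' ρ φ') :
    ∃ θ : T ≃ₗ[F] T', ∀ g : Γ, ∀ t : T, θ (τ g t) = τ' g (θ t) := by
  classical
  set ν := mrNu ρ x with hν
  set R := LinearMap.range (ν ^ (p - 1)) with hR
  have hRinv : MRInv ⊤ ρ R := mrInv_range_mrNu_pow ρ hnorm (p - 1)
  obtain ⟨hinj, hrange⟩ := injective_mkQ_comp_of_not_isPProj p hx P hP L hnorm ρ hQ hτ hφ hφP
  obtain ⟨hinj', hrange'⟩ := injective_mkQ_comp_of_not_isPProj p hx P hP L hnorm ρ hQ hτ' hφ' hφ'P
  set e₁ := LinearEquiv.ofInjective (R.mkQ ∘ₗ φ) hinj with he₁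
  set e₂ := LinearEquiv.ofInjective (R.mkQ ∘ₗ φ') hinj' with he₂
  set θ : T ≃ₗ[F] T' :=
    e₁.trans ((LinearEquiv.ofEq _ _ (hrange.trans hrange'.symm)).trans e₂.symm) with hθ
  have hθspec : ∀ t : T, (R.mkQ ∘ₗ φ') (θ t) = (R.mkQ ∘ₗ φ) t := by
    intro t
    have h1 : e₂ (θ t) = LinearEquiv.ofEq _ _ (hrange.trans hrange'.symm) (e₁ t) := by
      rw [hθ]
      simp
    have h2 := congrArg Subtype.val h1
    rw [he₂, LinearEquiv.ofInjective_apply] at h2
    rw [h2]
    rfl
  refine ⟨θ, fun g t => ?_⟩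
  apply hinj'
  rw [hθspec, LinearMap.comp_apply, LinearMap.comp_apply, hφ.apply (Subgroup.mem_top g),
    hφ'.apply (Subgroup.mem_top g), Submodule.mkQ_apply, Submodule.mkQ_apply,
    Submodule.Quotient.eq, ← map_sub]
  apply hRinv g (Subgroup.mem_top g)
  have h3 := hθspec t
  rw [LinearMap.comp_apply, LinearMap.comp_apply, Submodule.mkQ_apply, Submodule.mkQ_apply,
    Submodule.Quotient.eq] at h3
  have := R.neg_mem h3
  simpa using this

end

end Cfsg.Agent.Lib.Helper8
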