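import Mathlib
import Cfsg.Agent.Lib.Helper8.MR10

/-!
# Endomorphisms of the restriction of an irreducible representation to the normalizer of a
trivial-intersection subgroup of prime order

`ψ = c • id + Tr_1^P h` for every `N`-endomorphism `ψ` of an irreducible representation of the
whole group over an algebraically closed field (Mackey decomposition + Schur's lemma).
-/

set_option autoImplicit false
set_option maxHeartbeats 800000

namespace Cfsg.Agent.Lib.Helper8

section

variable {F : Type*} [Field F] {Γ : Type*} [Group Γ]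
variable {S W : Type*} [AddCommGroup S] [Module F S] [AddCommGroup W] [Module F W]

/-- Schur's lemma over an algebraically closed field. -/
theorem schur_mrEquiv [IsAlgClosed F] [FiniteDimensional F S] {ρ : Representation F Γ S}
    (hρ : ρ.IsIrreducible) {Θ : S →ₗ[F] S} (h : MREquiv ⊤ ρ ρ Θ) :
    ∃ c : F, Θ = c • LinearMap.id := by
  have := hρ
  let f : Representation.IntertwiningMap ρ ρ := ⟨Θ, fun g => h g (Subgroup.mem_top g)⟩
  obtain ⟨c, hc⟩ :=
    (Representation.IsIrreducible.algebraMap_intertwiningMap_bijective_of_isAlgClosed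
      (ρ := ρ)).2 f
  refine ⟨c, ?_⟩
  have h1 := congrArg Representation.IntertwiningMap.toLinearMap hc
  have h2 : f.toLinearMap = Θ := rfl
  rw [h2] at h1
  rw [← h1]
  ext v
  simp [Algebra.algebraMap_eq_smul_one]

/-- A sum over a finite set on which `P` acts freely, of an equivariant family of maps, is a
trace. -/
theorem isPProj_sum_of_free (P : Subgroup Γ) [Fintype P] (ρ : Representation F Γ S)
    (σ : Representation F Γ W)
    {X : Type*} [MulAction Γ X] [DecidableEq X] (f : X → (S →ₗ[F] W))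
    (hf : ∀ u ∈ P, ∀ q : X, f (u • q) = σ u ∘ₗ f q ∘ₗ ρ u⁻¹) :
    ∀ (n : ℕ) (Y : Finset X), Y.card = n → (∀ u ∈ P, ∀ q ∈ Y, u • q ∈ Y) →
      (∀ q ∈ Y, ∀ u ∈ P, u • q = q → u = 1) → IsPProj P ρ σ (∑ q ∈ Y, f q) := by
  intro n
  induction n using Nat.strong_induction_on with
  | _ n ih =>
    intro Y hn hstab hfree
    rcases Y.eq_empty_or_nonempty with h0 | ⟨q₀, hq₀⟩
    · rw [h0, Finset.sum_empty]
      exact isPProj_zero P ρ σ
    set O : Finset X := Finset.image (fun u : P => (u : Γ) • q₀) Finset.univ with hO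
    have hOY : O ⊆ Y := by
      intro q hq
      obtain ⟨u, -, rfl⟩ := Finset.mem_image.1 hq
      exact hstab u u.2 q₀ hq₀
    have hinj : Function.Injective (fun u : P => (u : Γ) • q₀) := by
      intro u u' huu
      have huu' : (u : Γ) • q₀ = (u' : Γ) • q₀ := huu
      have h1 : ((u' : Γ)⁻¹ * (u : Γ)) • q₀ = q₀ := by
        rw [mul_smul, huu', ← mul_smul, inv_mul_cancel, one_smul]
      have h2 := hfree q₀ hq₀ _ (P.mul_mem (P.inv_mem u'.2) u.2) h1
      apply Subtype.ext
      have h3 : (u : Γ) = (u' : Γ) * ((u' : Γ)⁻¹ * (u : Γ)) := by group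
      rw [h3, h2, mul_one]
    have hsumO : ∑ q ∈ O, f q = mrTr P ρ σ (f q₀) := by
      rw [hO, Finset.sum_image (fun a _ b _ hab => hinj hab)]
      unfold mrTr
      exact Finset.sum_congr rfl fun u _ => hf u u.2 q₀
    have hq₀O : q₀ ∈ O := by
      rw [hO]
      exact Finset.mem_image.2 ⟨1, Finset.mem_univ _, by simp⟩
    have hsplit : ∑ q ∈ Y, f q = ∑ q ∈ O, f q + ∑ q ∈ Y \ O, f q := by
      rw [add_comm]
      exact (Finset.sum_sdiff hOY).symm
    rw [hsplit, hsumO]
    refine IsPProj.add ⟨_, rfl⟩ ?_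
    have hcard : (Y \ O).card < n := by
      rw [← hn]
      apply Finset.card_lt_card
      constructor
      · exact Finset.sdiff_subset
      · intro hsub
        have := hsub hq₀
        rw [Finset.mem_sdiff] at this
        exact this.2 hq₀O
    refine ih _ hcard (Y \ O) rfl ?_ ?_
    · intro u hu q hq
      rw [Finset.mem_sdiff] at hq ⊢
      refine ⟨hstab u hu q hq.1, ?_⟩
      intro hmem
      apply hq.2
      obtain ⟨u', -, hu'⟩ := Finset.mem_image.1 hmem
      have hu'' : (u' : Γ) • q₀ = u • q := hu'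
      rw [hO]
      refine Finset.mem_image.2 ⟨⟨u⁻¹ * u', P.mul_mem (P.inv_mem hu) u'.2⟩, Finset.mem_univ _, ?_⟩
      show (u⁻¹ * (u' : Γ)) • q₀ = q
      rw [mul_smul, hu'', ← mul_smul, inv_mul_cancel, one_smul]
    · intro q hq u hu huq
      exact hfree q (Finset.mem_sdiff.1 hq).1 u hu huq

variable (N : Subgroup Γ)

/-- The conjugate of `ψ` attached to a coset of `N`. -/
noncomputable def mrCoset (ρ : Representation F Γ S) (ψ : S →ₗ[F] S) (q : Γ ⧸ N) : S →ₗ[F] S :=
  ρ q.out ∘ₗ ψ ∘ₗ ρ (q.out)⁻¹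

theorem mrCoset_mk {ρ : Representation F Γ S} {ψ : S →ₗ[F] S} (hψ : MREquiv N ρ ρ ψ) (g : Γ) :
    mrCoset N ρ ψ (g : Γ ⧸ N) = ρ g ∘ₗ ψ ∘ₗ ρ g⁻¹ := by
  unfold mrCoset
  obtain ⟨n, hn⟩ := QuotientGroup.mk_out_eq_mul N g
  rw [hn]
  ext v
  simp only [LinearMap.comp_apply, mul_inv_rev, map_mul, Module.End.mul_apply]
  rw [← hψ.apply n.2, Representation.self_inv_apply]

theorem mrCoset_smul {ρ : Representation F Γ S} {ψ : S →ₗ[F] S} (hψ : MREquiv N ρ ρ ψ) (g : Γ)
    (q : Γ ⧸ N) : mrCoset N ρ ψ (g • q) = ρ g ∘ₗ mrCoset N ρ ψ q ∘ₗ ρ g⁻¹ := by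
  induction q using QuotientGroup.induction_on with
  | H a =>
    have h1 : g • (a : Γ ⧸ N) = ((g * a : Γ) : Γ ⧸ N) := rfl
    rw [h1, mrCoset_mk N hψ, mrCoset_mk N hψ]
    ext v
    simp only [LinearMap.comp_apply, mul_inv_rev, map_mul, Module.End.mul_apply]

variable (p : ℕ) [hp : Fact p.Prime]

/-- **Mackey + Schur**: every `N`-endomorphism of an irreducible representation of `Γ` is a
scalar plus a trace from `1` to `P`, when `P` of prime order fixes only the trivial coset. -/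
theorem endo_eq_smul_add_mrTr [IsAlgClosed F] [FiniteDimensional F S] [Finite Γ]
    (P : Subgroup Γ) [Fintype P] (hcard : Nat.card P = p) (hPN : P ≤ N)
    (hfix : ∀ g : Γ, (∀ u ∈ P, g⁻¹ * u * g ∈ N) → g ∈ N)
    {ρ : Representation F Γ S} (hρ : ρ.IsIrreducible) {ψ : S →ₗ[F] S}
    (hψ : MREquiv N ρ ρ ψ) :
    ∃ (c : F) (h : S →ₗ[F] S), ψ = c • LinearMap.id + mrTr P ρ ρ h := by
  classical
  let _ : Fintype (Γ ⧸ N) := Fintype.ofFinite _
  set Θ : S →ₗ[F] S := ∑ q : Γ ⧸ N, mrCoset N ρ ψ q with hΘ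
  have hΘeq : MREquiv ⊤ ρ ρ Θ := by
    apply mrEquiv_of_apply
    intro g _ v
    rw [hΘ, LinearMap.sum_apply, LinearMap.sum_apply, map_sum]
    rw [← Equiv.sum_comp (MulAction.toPerm g : Γ ⧸ N ≃ Γ ⧸ N)]
    refine Finset.sum_congr rfl fun q _ => ?_
    rw [MulAction.toPerm_apply, mrCoset_smul N hψ, LinearMap.comp_apply, LinearMap.comp_apply,
      Representation.inv_self_apply]
  obtain ⟨c, hc⟩ := schur_mrEquiv hρ hΘeq
  -- split off the trivial coset
  have h1 : mrCoset N ρ ψ ((1 : Γ) : Γ ⧸ N) = ψ := by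
    rw [mrCoset_mk N hψ]
    ext v
    simp
  have hsplit : Θ = ψ + ∑ q ∈ Finset.univ.erase ((1 : Γ) : Γ ⧸ N), mrCoset N ρ ψ q := by
    rw [hΘ, ← Finset.add_sum_erase _ _ (Finset.mem_univ ((1 : Γ) : Γ ⧸ N)), h1]
  have hproj : IsPProj P ρ ρ (∑ q ∈ Finset.univ.erase ((1 : Γ) : Γ ⧸ N), mrCoset N ρ ψ q) := by
    refine isPProj_sum_of_free P ρ ρ (mrCoset N ρ ψ) (fun u _ q => mrCoset_smul N hψ u q) _ _ rfl
      ?_ ?_
    · intro u hu q hq
      rw [Finset.mem_erase] at hq ⊢
      refine ⟨?_, Finset.mem_univ _⟩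
      intro huq
      apply hq.1
      have h2 : q = u⁻¹ • ((1 : Γ) : Γ ⧸ N) := by
        rw [← huq, ← mul_smul, inv_mul_cancel, one_smul]
      rw [h2]
      have h3 : u⁻¹ • ((1 : Γ) : Γ ⧸ N) = ((u⁻¹ * 1 : Γ) : Γ ⧸ N) := rfl
      rw [h3, mul_one, QuotientGroup.eq]
      simpa using hPN hu
    · intro q hq u hu huq
      by_contra hne
      apply (Finset.mem_erase.1 hq).1
      induction q using QuotientGroup.induction_on with
      | H a =>
        -- `u` generates `P`
        have hgen : ∀ u' ∈ P, u' • (a : Γ ⧸ N) = (a : Γ ⧸ N) := by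
          intro u' hu'
          have hne' : (⟨u, hu⟩ : P) ≠ 1 := by
            intro h
            exact hne (congrArg Subtype.val h)
          have hmem := mem_zpowers_of_prime_card (G := P) hcard hne' (g' := ⟨u', hu'⟩)
          obtain ⟨k, hk⟩ := Subgroup.mem_zpowers_iff.1 hmem
          have hk' : u ^ k = u' := by
            have := congrArg Subtype.val hk
            simpa using this
          rw [← hk']
          have hstab : u ∈ MulAction.stabilizer Γ (a : Γ ⧸ N) := huq
          exact (MulAction.stabilizer Γ (a : Γ ⧸ N)).zpow_mem hstab k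
        have haN : a ∈ N := by
          apply hfix
          intro u' hu'
          have h2 := hgen u' hu'
          have h3 : u' • (a : Γ ⧸ N) = ((u' * a : Γ) : Γ ⧸ N) := rfl
          rw [h3, QuotientGroup.eq] at h2
          have h4 : a⁻¹ * u' * a = ((u' * a)⁻¹ * a)⁻¹ := by group
          rw [h4]
          exact N.inv_mem h2
        rw [QuotientGroup.eq]
        simpa using haN
  obtain ⟨h, hh⟩ := hproj
  refine ⟨c, -h, ?_⟩
  have h5 : mrTr P ρ ρ (-h) = -mrTr P ρ ρ h := by
    have := mrTr_smul P ρ ρ (-1 : F) h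
    simpa using this
  rw [h5, hh, ← hc, hsplit]
  abel

/-- Restriction of a representation to a subgroup (as a representation of the subgroup type). -/
def mrRes (ρ : Representation F Γ S) : Representation F N S := ρ.comp N.subtype

@[simp] theorem mrRes_apply (ρ : Representation F Γ S) (n : N) : mrRes N ρ n = ρ (n : Γ) := rfl

theorem mrEquiv_mrRes {ρ : Representation F Γ S} {σ : Representation F Γ W} {φ : S →ₗ[F] W} :
    MREquiv ⊤ (mrRes N ρ) (mrRes N σ) φ ↔ MREquiv N ρ σ φ := by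
  constructor
  · intro h g hg
    exact h ⟨g, hg⟩ (Subgroup.mem_top _)
  · intro h g _
    exact h g g.2

theorem mrTr_subgroupOf (P : Subgroup Γ) (hPN : P ≤ N) [Fintype P] [Fintype (P.subgroupOf N)]
    (ρ : Representation F Γ S) (σ : Representation F Γ W) (h : S →ₗ[F] W) :
    mrTr (P.subgroupOf N) (mrRes N ρ) (mrRes N σ) h = mrTr P ρ σ h := by
  unfold mrTr
  refine Fintype.sum_equiv (Subgroup.subgroupOfEquivOfLe hPN).toEquiv _ _ fun u => ?_
  rfl

theorem endo_restrict [IsAlgClosed F] [FiniteDimensional F S] [Finite Γ]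
    (P : Subgroup Γ) [Fintype P] [Fintype (P.subgroupOf N)] (hcard : Nat.card P = p) (hPN : P ≤ N)
    (hfix : ∀ g : Γ, (∀ u ∈ P, g⁻¹ * u * g ∈ N) → g ∈ N)
    {ρ : Representation F Γ S} (hρ : ρ.IsIrreducible) {ψ : S →ₗ[F] S}
    (hψ : MREquiv ⊤ (mrRes N ρ) (mrRes N ρ) ψ) :
    ∃ (c : F) (h : S →ₗ[F] S),
      ψ = c • LinearMap.id + mrTr (P.subgroupOf N) (mrRes N ρ) (mrRes N ρ) h := by
  obtain ⟨c, h, hh⟩ := endo_eq_smul_add_mrTr N p P hcard hPN hfix hρ ((mrEquiv_mrRes N).1 hψ)
  exact ⟨c, h, by rw [mrTr_subgroupOf N P hPN]; exact hh⟩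

end

end Cfsg.Agent.Lib.Helper8
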