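import Mathlib
import Cfsg.Agent.Lib.Helper8.MR11

/-!
# Sub- and quotient representations, half-exactness of the stable `Hom` functor, and the
coinduced module: every irreducible representation of `N` maps non-projectively to an
irreducible representation of the whole group.
-/

set_option autoImplicit false
set_option maxHeartbeats 800000

namespace Cfsg.Agent.Lib.Helper8

section

variable {F : Type*} [Field F] {Γ : Type*} [Group Γ]
variable {T W : Type*} [AddCommGroup T] [Module F T] [AddCommGroup W] [Module F W]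

/-- The representation on an invariant subspace. -/
def mrSub (ρ : Representation F Γ W) (Y : Submodule F W) (hY : MRInv ⊤ ρ Y) :
    Representation F Γ Y where
  toFun g := (ρ g).restrict (fun v hv => hY g (Subgroup.mem_top g) v hv)
  map_one' := by ext; simp
  map_mul' x y := by ext; simp

@[simp] theorem mrSub_apply_coe (ρ : Representation F Γ W) (Y : Submodule F W)
    (hY : MRInv ⊤ ρ Y) (g : Γ) (v : Y) : ((mrSub ρ Y hY g v : Y) : W) = ρ g (v : W) := rfl

theorem mrEquiv_subtype (ρ : Representation F Γ W) (Y : Submodule F W) (hY : MRInv ⊤ ρ Y) :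
    MREquiv ⊤ (mrSub ρ Y hY) ρ Y.subtype := by
  apply mrEquiv_of_apply
  intro g _ v
  rfl

/-- The representation on the quotient by an invariant subspace. -/
def mrQuot (ρ : Representation F Γ W) (Y : Submodule F W) (hY : MRInv ⊤ ρ Y) :
    Representation F Γ (W ⧸ Y) where
  toFun g := Y.mapQ Y (ρ g) (fun v hv => hY g (Subgroup.mem_top g) v hv)
  map_one' := by
    ext v
    simp
  map_mul' x y := by
    ext v
    simp

@[simp] theorem mrQuot_apply_mk (ρ : Representation F Γ W) (Y : Submodule F W)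
    (hY : MRInv ⊤ ρ Y) (g : Γ) (v : W) :
    mrQuot ρ Y hY g (Submodule.Quotient.mk v) = Submodule.Quotient.mk (ρ g v) := rfl

theorem mrEquiv_mkQ (ρ : Representation F Γ W) (Y : Submodule F W) (hY : MRInv ⊤ ρ Y) :
    MREquiv ⊤ ρ (mrQuot ρ Y hY) Y.mkQ := by
  apply mrEquiv_of_apply
  intro g _ v
  rfl

/-- A criterion for irreducibility. -/
theorem irr_of_forall [Nontrivial W] {ρ : Representation F Γ W}
    (h : ∀ Y : Submodule F W, MRInv ⊤ ρ Y → Y = ⊥ ∨ Y = ⊤) : ρ.IsIrreducible := by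
  refine { exists_pair_ne := ⟨⊥, ⊤, ?_⟩, eq_bot_or_eq_top := ?_ }
  · intro h0
    have h1 := congrArg Subrepresentation.toSubmodule h0
    exact bot_ne_top (α := Submodule F W) h1
  · intro Y
    rcases h Y.toSubmodule (fun g _ v hv => Y.apply_mem_toSubmodule g hv) with h1 | h1
    · left
      exact Subrepresentation.toSubmodule_injective h1
    · right
      exact Subrepresentation.toSubmodule_injective h1

end

section

variable {F : Type*} [Field F] {Γ : Type*} [Group Γ]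
variable {T W W' : Type*} [AddCommGroup T] [Module F T] [AddCommGroup W] [Module F W]
  [AddCommGroup W'] [Module F W']

theorem comp_mrAvg (L : Subgroup Γ) [Fintype L] {ρ : Representation F Γ T}
    {σ : Representation F Γ W} {σ' : Representation F Γ W'} {β : W →ₗ[F] W'}
    (hβ : MREquiv L σ σ' β) (h : T →ₗ[F] W) :
    β ∘ₗ mrAvg L ρ σ h = mrAvg L ρ σ' (β ∘ₗ h) := by
  unfold mrAvg
  rw [LinearMap.comp_smul, comp_mrTr L hβ]

/-- The trace from `1` to `P` commutes with averaging over a subgroup normalizing `P`. -/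
theorem mrTr_mrAvg (P L : Subgroup Γ) [Fintype P] [Fintype L]
    (hLP : ∀ l ∈ L, ∀ u : Γ, u ∈ P ↔ l * u * l⁻¹ ∈ P)
    (ρ : Representation F Γ T) (σ : Representation F Γ W) (h : T →ₗ[F] W) :
    mrTr P ρ σ (mrAvg L ρ σ h) = mrAvg L ρ σ (mrTr P ρ σ h) := by
  unfold mrAvg
  rw [mrTr_smul]
  congr 1
  have h1 : mrTr L ρ σ h = ∑ l : L, σ (l : Γ) ∘ₗ h ∘ₗ ρ ((l : Γ)⁻¹) := rfl
  have h2 : mrTr L ρ σ (mrTr P ρ σ h) =
      ∑ l : L, σ (l : Γ) ∘ₗ mrTr P ρ σ h ∘ₗ ρ ((l : Γ)⁻¹) := rfl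
  rw [h1, mrTr_sum, h2]
  refine Finset.sum_congr rfl fun l _ => ?_
  exact (conj_mrTr P ρ σ (hLP l l.2) h).symm

/-- The trace of an `L`-equivariant map is `L`-equivariant, when `L` normalizes `P`. -/
theorem mrEquiv_mrTr_of_normalizes (P L : Subgroup Γ) [Fintype P]
    (hLP : ∀ l ∈ L, ∀ u : Γ, u ∈ P ↔ l * u * l⁻¹ ∈ P)
    {ρ : Representation F Γ T} {σ : Representation F Γ W} {h : T →ₗ[F] W}
    (hh : MREquiv L ρ σ h) : MREquiv L ρ σ (mrTr P ρ σ h) := by
  apply mrEquiv_of_apply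
  intro l hl v
  have h1 := conj_mrTr P ρ σ (hLP l hl) h
  have h2 : σ l ∘ₗ h ∘ₗ ρ l⁻¹ = h := by
    ext w
    rw [LinearMap.comp_apply, LinearMap.comp_apply, ← hh.apply hl, Representation.self_inv_apply]
  rw [h2] at h1
  have h3 := congrArg (fun f => f (ρ l v)) h1
  simp only [LinearMap.comp_apply] at h3
  rw [Representation.inv_self_apply] at h3
  exact h3.symm

/-- **Half-exactness** of the stable `Hom` functor. -/
theorem half_exact (P L : Subgroup Γ) [Fintype P] [Fintype L] (hL : (Fintype.card L : F) ≠ 0)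
    (hLP : ∀ l ∈ L, ∀ u : Γ, u ∈ P ↔ l * u * l⁻¹ ∈ P)
    (hgen : ∀ g : Γ, ∃ u ∈ P, ∃ l ∈ L, g = u * l)
    (τ : Representation F Γ T) (ρ : Representation F Γ W) (Y : Submodule F W)
    (hY : MRInv ⊤ ρ Y) {φ : T →ₗ[F] W} (hφ : MREquiv ⊤ τ ρ φ) (hφP : ¬ IsPProj P τ ρ φ) :
    (∃ φ' : T →ₗ[F] Y, MREquiv ⊤ τ (mrSub ρ Y hY) φ' ∧ ¬ IsPProj P τ (mrSub ρ Y hY) φ') ∨
    (∃ φ'' : T →ₗ[F] W ⧸ Y, MREquiv ⊤ τ (mrQuot ρ Y hY) φ'' ∧
      ¬ IsPProj P τ (mrQuot ρ Y hY) φ'') := by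
  classical
  by_cases hq : IsPProj P τ (mrQuot ρ Y hY) (Y.mkQ ∘ₗ φ)
  swap
  · right
    exact ⟨Y.mkQ ∘ₗ φ, hφ.comp (mrEquiv_mkQ ρ Y hY), hq⟩
  left
  obtain ⟨hbar, hhbar⟩ := hq
  obtain ⟨s, hs⟩ := LinearMap.exists_rightInverse_of_surjective Y.mkQ
    (LinearMap.range_eq_top.2 (Submodule.mkQ_surjective Y))
  set h : T →ₗ[F] W := s ∘ₗ hbar with hh
  have hπh : Y.mkQ ∘ₗ h = hbar := by
    rw [hh, ← LinearMap.comp_assoc, hs, LinearMap.id_comp]
  set ht : T →ₗ[F] W := mrAvg L τ ρ h with hht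
  have hπ := mrEquiv_mkQ ρ Y hY
  have hLtop : L ≤ ⊤ := le_top
  have hPtop : P ≤ ⊤ := le_top
  -- the correction term is equivariant
  have hcorr : MREquiv ⊤ τ ρ (mrTr P τ ρ ht) :=
    mrEquiv_top_of_mul P L hgen (mrEquiv_mrTr P τ ρ ht)
      (mrEquiv_mrTr_of_normalizes P L hLP (mrEquiv_mrAvg L τ ρ h))
  -- and has the same image in the quotient
  have hπcorr : Y.mkQ ∘ₗ mrTr P τ ρ ht = Y.mkQ ∘ₗ φ := by
    rw [comp_mrTr P (hπ.mono hPtop), hht, comp_mrAvg L (hπ.mono hLtop), hπh,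
      mrTr_mrAvg P L hLP, hhbar]
    exact mrAvg_of_mrEquiv L hL ((hφ.comp hπ).mono hLtop)
  set φ₁ : T →ₗ[F] W := φ - mrTr P τ ρ ht with hφ₁
  have hφ₁eq : MREquiv ⊤ τ ρ φ₁ := hφ.sub hcorr
  have hφ₁Y : ∀ t, φ₁ t ∈ Y := by
    intro t
    have h1 : Y.mkQ (φ₁ t) = 0 := by
      have h2 := congrArg (fun f => f t) hπcorr
      simp only [LinearMap.comp_apply] at h2
      rw [hφ₁, LinearMap.sub_apply, map_sub, h2, sub_self]
    rwa [Submodule.mkQ_apply, Submodule.Quotient.mk_eq_zero] at h1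
  refine ⟨LinearMap.codRestrict Y φ₁ hφ₁Y, ?_, ?_⟩
  · apply mrEquiv_of_apply
    intro g hg t
    apply Subtype.ext
    rw [mrSub_apply_coe, LinearMap.codRestrict_apply, LinearMap.codRestrict_apply,
      hφ₁eq.apply hg]
  · intro hproj
    apply hφP
    have h1 : IsPProj P τ ρ (Y.subtype ∘ₗ LinearMap.codRestrict Y φ₁ hφ₁Y) :=
      hproj.comp_left ((mrEquiv_subtype ρ Y hY).mono hPtop)
    have h2 : Y.subtype ∘ₗ LinearMap.codRestrict Y φ₁ hφ₁Y = φ₁ := by
      ext t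
      rfl
    rw [h2] at h1
    have h3 : φ = φ₁ + mrTr P τ ρ ht := by
      rw [hφ₁]
      abel
    rw [h3]
    exact h1.add ⟨ht, rfl⟩

end

end Cfsg.Agent.Lib.Helper8
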