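import Mathlib
import Cfsg.Agent.Lib.Helper8.MR12

/-!
# The coinduced module and the existence half of the Green correspondence for simple modules
-/

set_option autoImplicit false
set_option maxHeartbeats 800000

namespace Cfsg.Agent.Lib.Helper8

section

variable {F : Type*} [Field F] {Γ : Type*} [Group Γ]
variable {T : Type*} [AddCommGroup T] [Module F T]

/-- Right translation on functions. -/
def mrRight (F : Type*) [Field F] (Γ : Type*) [Group Γ] (T : Type*) [AddCommGroup T]
    [Module F T] : Representation F Γ (Γ → T) where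
  toFun g :=
    { toFun := fun f a => f (a * g)
      map_add' := fun f f' => rfl
      map_smul' := fun c f => rfl }
  map_one' := by
    ext f a
    simp
  map_mul' x y := by
    ext f a
    simp [mul_assoc]

@[simp] theorem mrRight_apply (g : Γ) (f : Γ → T) (a : Γ) : mrRight F Γ T g f a = f (a * g) := rfl

variable (N : Subgroup Γ) (τ : Representation F N T)

/-- The coinduced module, as a submodule of all functions. -/
def mrCoindSub : Submodule F (Γ → T) where
  carrier := {f | ∀ (n : N) (a : Γ), f ((n : Γ) * a) = τ n (f a)}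
  add_mem' := by
    intro f f' hf hf' n a
    simp only [Pi.add_apply, map_add]
    rw [hf n a, hf' n a]
  zero_mem' := by
    intro n a
    simp
  smul_mem' := by
    intro c f hf n a
    simp only [Pi.smul_apply, map_smul]
    rw [hf n a]

theorem mem_mrCoindSub {f : Γ → T} :
    f ∈ mrCoindSub N τ ↔ ∀ (n : N) (a : Γ), f ((n : Γ) * a) = τ n (f a) := Iff.rfl

theorem mrInv_mrCoindSub : MRInv ⊤ (mrRight F Γ T) (mrCoindSub N τ) := by
  intro g _ f hf n a
  rw [mrRight_apply, mrRight_apply, mul_assoc, hf n (a * g)]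

/-- The coinduced representation. -/
def mrCoind : Representation F Γ (mrCoindSub N τ) :=
  mrSub (mrRight F Γ T) (mrCoindSub N τ) (mrInv_mrCoindSub N τ)

theorem mrCoind_apply (g : Γ) (f : mrCoindSub N τ) (a : Γ) :
    ((mrCoind N τ g f : mrCoindSub N τ) : Γ → T) a = (f : Γ → T) (a * g) := rfl

open Classical in
/-- The function underlying the canonical embedding of `T` into the coinduced module. -/
noncomputable def mrIotaFun (t : T) : Γ → T := fun a => if h : a ∈ N then τ ⟨a, h⟩ t else 0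

theorem mrIotaFun_of_mem (t : T) {a : Γ} (h : a ∈ N) : mrIotaFun N τ t a = τ ⟨a, h⟩ t := by
  unfold mrIotaFun
  rw [dif_pos h]

theorem mrIotaFun_of_not_mem (t : T) {a : Γ} (h : a ∉ N) : mrIotaFun N τ t a = 0 := by
  unfold mrIotaFun
  rw [dif_neg h]

theorem mrIotaFun_mem (t : T) : mrIotaFun N τ t ∈ mrCoindSub N τ := by
  intro n a
  by_cases h : a ∈ N
  · have h' : (n : Γ) * a ∈ N := N.mul_mem n.2 h
    rw [mrIotaFun_of_mem N τ t h, mrIotaFun_of_mem N τ t h']
    have : (⟨(n : Γ) * a, h'⟩ : N) = n * ⟨a, h⟩ := rfl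
    rw [this, map_mul, Module.End.mul_apply]
  · have h' : ¬ (n : Γ) * a ∈ N := by
      intro h'
      apply h
      have := N.mul_mem (N.inv_mem n.2) h'
      simpa using this
    rw [mrIotaFun_of_not_mem N τ t h, mrIotaFun_of_not_mem N τ t h', map_zero]

/-- The canonical embedding of `T` into the coinduced module. -/
noncomputable def mrIota : T →ₗ[F] mrCoindSub N τ where
  toFun t := ⟨mrIotaFun N τ t, mrIotaFun_mem N τ t⟩
  map_add' := by
    intro t t'
    apply Subtype.ext
    funext a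
    by_cases h : a ∈ N
    · simp [mrIotaFun_of_mem N τ _ h]
    · simp [mrIotaFun_of_not_mem N τ _ h]
  map_smul' := by
    intro c t
    apply Subtype.ext
    funext a
    by_cases h : a ∈ N
    · simp [mrIotaFun_of_mem N τ _ h]
    · simp [mrIotaFun_of_not_mem N τ _ h]

theorem mrIota_apply_of_mem (t : T) {a : Γ} (h : a ∈ N) :
    ((mrIota N τ t : mrCoindSub N τ) : Γ → T) a = τ ⟨a, h⟩ t :=
  mrIotaFun_of_mem N τ t h

theorem mrIota_apply_of_not_mem (t : T) {a : Γ} (h : a ∉ N) :
    ((mrIota N τ t : mrCoindSub N τ) : Γ → T) a = 0 :=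
  mrIotaFun_of_not_mem N τ t h

/-- Evaluation at the identity. -/
def mrEv : mrCoindSub N τ →ₗ[F] T where
  toFun f := (f : Γ → T) 1
  map_add' := fun _ _ => rfl
  map_smul' := fun _ _ => rfl

@[simp] theorem mrEv_apply (f : mrCoindSub N τ) : mrEv N τ f = (f : Γ → T) 1 := rfl

theorem mrEv_comp_mrIota : mrEv N τ ∘ₗ mrIota N τ = LinearMap.id := by
  ext t
  rw [LinearMap.comp_apply, mrEv_apply, mrIota_apply_of_mem N τ t N.one_mem]
  have : (⟨1, N.one_mem⟩ : N) = 1 := rfl
  rw [this, map_one]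
  rfl

theorem mrEquiv_mrIota : MREquiv ⊤ τ (mrRes N (mrCoind N τ)) (mrIota N τ) := by
  apply mrEquiv_of_apply
  intro n _ t
  apply Subtype.ext
  funext a
  rw [mrRes_apply, mrCoind_apply]
  by_cases h : a ∈ N
  · have h' : a * (n : Γ) ∈ N := N.mul_mem h n.2
    rw [mrIota_apply_of_mem N τ _ h, mrIota_apply_of_mem N τ _ h']
    have : (⟨a * (n : Γ), h'⟩ : N) = ⟨a, h⟩ * n := rfl
    rw [this, map_mul, Module.End.mul_apply]
  · have h' : ¬ a * (n : Γ) ∈ N := by
      intro h'
      apply h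
      have := N.mul_mem h' (N.inv_mem n.2)
      simpa using this
    rw [mrIota_apply_of_not_mem N τ _ h, mrIota_apply_of_not_mem N τ _ h']

theorem mrEquiv_mrEv : MREquiv ⊤ (mrRes N (mrCoind N τ)) τ (mrEv N τ) := by
  apply mrEquiv_of_apply
  intro n _ f
  rw [mrEv_apply, mrEv_apply, mrRes_apply, mrCoind_apply, one_mul]
  have := f.2 n 1
  rw [mul_one] at this
  exact this

/-- The canonical embedding is not `P`-projective when `P` acts trivially on `T` and
`|P| = 0` in `F`. -/
theorem not_isPProj_mrIota [Nontrivial T] (P : Subgroup N) [Fintype P]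
    (hcard : (Fintype.card P : F) = 0) (htriv : ∀ u ∈ P, τ u = 1) :
    ¬ IsPProj P τ (mrRes N (mrCoind N τ)) (mrIota N τ) := by
  rintro ⟨h, hh⟩
  have h1 : mrEv N τ ∘ₗ mrIota N τ = mrTr P τ τ (mrEv N τ ∘ₗ h) := by
    rw [← hh]
    exact comp_mrTr P ((mrEquiv_mrEv N τ).mono le_top) h
  rw [mrEv_comp_mrIota] at h1
  have h2 : mrTr P τ τ (mrEv N τ ∘ₗ h) = 0 := by
    ext t
    rw [mrTr_apply]
    have h3 : ∀ u : P, τ (u : N) ((mrEv N τ ∘ₗ h) (τ ((u : N)⁻¹) t)) = (mrEv N τ ∘ₗ h) t := by
      intro u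
      rw [htriv _ u.2, htriv _ (P.inv_mem u.2)]
      rfl
    rw [Finset.sum_congr rfl fun u _ => h3 u, Finset.sum_const, Finset.card_univ,
      ← Nat.cast_smul_eq_nsmul F, hcard, zero_smul]
    rfl
  rw [h2] at h1
  obtain ⟨t, ht⟩ := exists_ne (0 : T)
  apply ht
  have := congrArg (fun f => f t) h1
  simpa using this

end

section

universe u v w w'

variable {F : Type u} [Field F] {Γ : Type v} [Group Γ]
variable {T : Type w'} [AddCommGroup T] [Module F T]

theorem mrRes_mrSub (N : Subgroup Γ) {W : Type w} [AddCommGroup W] [Module F W]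
    (ρ : Representation F Γ W) (Y : Submodule F W) (hY : MRInv ⊤ ρ Y)
    (hY' : MRInv ⊤ (mrRes N ρ) Y) :
    mrRes N (mrSub ρ Y hY) = mrSub (mrRes N ρ) Y hY' := rfl

theorem mrRes_mrQuot (N : Subgroup Γ) {W : Type w} [AddCommGroup W] [Module F W]
    (ρ : Representation F Γ W) (Y : Submodule F W) (hY : MRInv ⊤ ρ Y)
    (hY' : MRInv ⊤ (mrRes N ρ) Y) :
    mrRes N (mrQuot ρ Y hY) = mrQuot (mrRes N ρ) Y hY' := rfl

theorem mrInv_mrRes (N : Subgroup Γ) {W : Type w} [AddCommGroup W] [Module F W]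
    {ρ : Representation F Γ W} {Y : Submodule F W} (hY : MRInv ⊤ ρ Y) :
    MRInv ⊤ (mrRes N ρ) Y :=
  fun g _ v hv => hY g (Subgroup.mem_top _) v hv

/-- If a representation of `Γ` receives a non-`P`-projective `N`-map from `T`, so does one of
its irreducible subquotients. -/
theorem exists_irr_of_not_isPProj_aux (N : Subgroup Γ) (P L : Subgroup N) [Fintype P] [Fintype L]
    (hL : (Fintype.card L : F) ≠ 0)
    (hLP : ∀ l ∈ L, ∀ u : N, u ∈ P ↔ l * u * l⁻¹ ∈ P)
    (hgen : ∀ g : N, ∃ u ∈ P, ∃ l ∈ L, g = u * l)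
    (τ : Representation F N T) :
    ∀ (n : ℕ) (W : Type w) [AddCommGroup W] [Module F W] [FiniteDimensional F W]
      (ρ : Representation F Γ W), Module.finrank F W = n →
      ∀ φ : T →ₗ[F] W, MREquiv ⊤ τ (mrRes N ρ) φ → ¬ IsPProj P τ (mrRes N ρ) φ →
      ∃ (S : Type w) (_ : AddCommGroup S) (_ : Module F S) (_ : FiniteDimensional F S)
        (σ : Representation F Γ S), σ.IsIrreducible ∧
        ∃ φ' : T →ₗ[F] S, MREquiv ⊤ τ (mrRes N σ) φ' ∧ ¬ IsPProj P τ (mrRes N σ) φ' := by
  intro n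
  induction n using Nat.strong_induction_on with
  | _ n ih =>
    intro W _ _ _ ρ hn φ hφ hφP
    by_cases hirr : ρ.IsIrreducible
    · exact ⟨W, inferInstance, inferInstance, inferInstance, ρ, hirr, φ, hφ, hφP⟩
    have hnt : Nontrivial W := by
      by_contra hnt
      rw [not_nontrivial_iff_subsingleton] at hnt
      apply hφP
      have : φ = 0 := by
        ext t
        exact Subsingleton.elim _ _
      rw [this]
      exact isPProj_zero P τ (mrRes N ρ)
    have hex : ∃ Y : Submodule F W, MRInv ⊤ ρ Y ∧ Y ≠ ⊥ ∧ Y ≠ ⊤ := by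
      by_contra hcon
      push Not at hcon
      apply hirr
      apply irr_of_forall
      intro Y hY
      by_cases h0 : Y = ⊥
      · left; exact h0
      · right; exact hcon Y hY h0
    obtain ⟨Y, hY, hYbot, hYtop⟩ := hex
    have hY' := mrInv_mrRes N hY
    have hlt1 : Module.finrank F Y < n := by
      rw [← hn]
      exact Submodule.finrank_lt hYtop
    have hlt2 : Module.finrank F (W ⧸ Y) < n := by
      rw [← hn, ← Submodule.finrank_quotient_add_finrank Y]
      have : 0 < Module.finrank F Y := by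
        rw [Module.finrank_pos_iff]
        exact Submodule.nontrivial_iff_ne_bot.2 hYbot
      omega
    rcases half_exact P L hL hLP hgen τ (mrRes N ρ) Y hY' hφ hφP with
      ⟨φ', hφ', hφ'P⟩ | ⟨φ'', hφ'', hφ''P⟩
    · rw [← mrRes_mrSub N ρ Y hY hY'] at hφ' hφ'P
      exact ih _ hlt1 Y (mrSub ρ Y hY) rfl φ' hφ' hφ'P
    · rw [← mrRes_mrQuot N ρ Y hY hY'] at hφ'' hφ''P
      exact ih _ hlt2 (W ⧸ Y) (mrQuot ρ Y hY) rfl φ'' hφ'' hφ''P

/-- **Existence half of the Green correspondence for simple modules**: an irreducible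
representation of `N` on which `P` acts trivially maps non-`P`-projectively to some irreducible
representation of `Γ`. -/
theorem exists_irr_of_not_isPProj [Finite Γ] (N : Subgroup Γ) (P L : Subgroup N) [Fintype P]
    [Fintype L] (hL : (Fintype.card L : F) ≠ 0) (hcard : (Fintype.card P : F) = 0)
    (hLP : ∀ l ∈ L, ∀ u : N, u ∈ P ↔ l * u * l⁻¹ ∈ P)
    (hgen : ∀ g : N, ∃ u ∈ P, ∃ l ∈ L, g = u * l)
    (τ : Representation F N T) [FiniteDimensional F T] [Nontrivial T]
    (htriv : ∀ u ∈ P, τ u = 1) :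
    ∃ (S : Type (max v w')) (_ : AddCommGroup S) (_ : Module F S) (_ : FiniteDimensional F S)
      (σ : Representation F Γ S), σ.IsIrreducible ∧
      ∃ φ' : T →ₗ[F] S, MREquiv ⊤ τ (mrRes N σ) φ' ∧ ¬ IsPProj P τ (mrRes N σ) φ' := by
  have : Fintype Γ := Fintype.ofFinite Γ
  exact exists_irr_of_not_isPProj_aux N P L hL hLP hgen τ _ (mrCoindSub N τ) (mrCoind N τ) rfl
    (mrIota N τ) (mrEquiv_mrIota N τ) (not_isPProj_mrIota N τ P hcard htriv)

end

end Cfsg.Agent.Lib.Helper8
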