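import Mathlib
import Cfsg.Agent.Lib.Helper8.MR13

/-!
# Simple modules of a product of matrix algebras
-/

set_option autoImplicit false
set_option maxHeartbeats 800000

namespace Cfsg.Agent.Lib.Helper8

section

variable {F : Type*} [Field F]

/-- The column space `F^d` is a simple module over the full matrix algebra. -/
theorem matrix_simple {d : ℕ} (Y : Submodule F (Fin d → F))
    (hY : ∀ (m : Matrix (Fin d) (Fin d) F), ∀ w ∈ Y, m.mulVec w ∈ Y) : Y = ⊥ ∨ Y = ⊤ := by
  by_cases h0 : Y = ⊥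
  · left; exact h0
  right
  obtain ⟨w, hwY, hw0⟩ := (Submodule.ne_bot_iff Y).1 h0
  have hex : ∃ a, w a ≠ 0 := by
    by_contra hcon
    push Not at hcon
    exact hw0 (funext hcon)
  obtain ⟨a, ha⟩ := hex
  rw [eq_top_iff]
  intro z _
  have h1 := hY (Matrix.vecMulVec z ((w a)⁻¹ • Pi.single a 1)) w hwY
  rw [Matrix.vecMulVec_mulVec] at h1
  have h2 : ((w a)⁻¹ • (Pi.single a 1 : Fin d → F)) ⬝ᵥ w = 1 := by
    rw [smul_dotProduct, single_dotProduct, one_mul, smul_eq_mul, inv_mul_cancel₀ ha]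
  rw [h2] at h1
  simpa using h1

variable {n : ℕ} {d : Fin n → ℕ} {S : Type*} [AddCommGroup S] [Module F S]

theorem pi_mul_single (r : Π k : Fin n, Matrix (Fin (d k)) (Fin (d k)) F) (k : Fin n)
    (m : Matrix (Fin (d k)) (Fin (d k)) F) :
    r * Pi.single k m = Pi.single k (r k * m) := by
  ext k' a b
  by_cases hk : k' = k
  · subst hk
    simp
  · simp [Pi.single_eq_of_ne hk]

theorem pi_single_mul_single (k : Fin n) (m m' : Matrix (Fin (d k)) (Fin (d k)) F) :
    (Pi.single k m : Π k : Fin n, Matrix (Fin (d k)) (Fin (d k)) F) * Pi.single k m' =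
      Pi.single k (m * m') := by
  rw [pi_mul_single, Pi.single_eq_same]

/-- A simple module over a product of matrix algebras is isomorphic to one of the column
spaces. -/
theorem exists_equiv_of_simple [Nontrivial S]
    (ρ' : (Π k : Fin n, Matrix (Fin (d k)) (Fin (d k)) F) →ₐ[F] Module.End F S)
    (hsimple : ∀ Y : Submodule F S, (∀ r, ∀ s ∈ Y, ρ' r s ∈ Y) → Y = ⊥ ∨ Y = ⊤) :
    ∃ k : Fin n, ∃ θ : (Fin (d k) → F) ≃ₗ[F] S,
      ∀ (r : Π k : Fin n, Matrix (Fin (d k)) (Fin (d k)) F) (w : Fin (d k) → F),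
        θ ((r k).mulVec w) = ρ' r (θ w) := by
  classical
  -- some diagonal matrix unit acts nontrivially
  have hex : ∃ k : Fin n, ∃ i : Fin (d k), ρ' (Pi.single k (Matrix.single i i 1)) ≠ 0 := by
    by_contra hcon
    push Not at hcon
    have h1 : (1 : Π k : Fin n, Matrix (Fin (d k)) (Fin (d k)) F) =
        ∑ k : Fin n, ∑ i : Fin (d k), Pi.single k (Matrix.single i i 1) := by
      have h2 : ∀ k : Fin n, ∑ i : Fin (d k), (Pi.single k (Matrix.single i i (1 : F)) :
          Π k : Fin n, Matrix (Fin (d k)) (Fin (d k)) F) = Pi.single k 1 := by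
        intro k
        rw [← Matrix.sum_single_one]
        exact (map_sum (AddMonoidHom.single (fun k : Fin n => Matrix (Fin (d k)) (Fin (d k)) F) k)
          _ _).symm
      rw [Finset.sum_congr rfl fun k _ => h2 k]
      exact (Finset.univ_sum_single (1 : Π k : Fin n, Matrix (Fin (d k)) (Fin (d k)) F)).symm
    have h3 : ρ' 1 = 0 := by
      rw [h1, map_sum]
      refine Finset.sum_eq_zero fun k _ => ?_
      rw [map_sum]
      exact Finset.sum_eq_zero fun i _ => hcon k i
    rw [map_one] at h3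
    obtain ⟨s, hs⟩ := exists_ne (0 : S)
    apply hs
    have := congrArg (fun f => f s) h3
    simpa using this
  obtain ⟨k, i, hki⟩ := hex
  have hex2 : ∃ s : S, ρ' (Pi.single k (Matrix.single i i 1)) s ≠ 0 := by
    by_contra hcon
    push Not at hcon
    apply hki
    ext s
    exact hcon s
  obtain ⟨s, hs⟩ := hex2
  obtain ⟨v, hv⟩ : ∃ v : S, v = ρ' (Pi.single k (Matrix.single i i 1)) s := ⟨_, rfl⟩
  rw [← hv] at hs
  -- the map `w ↦ ρ' (column matrix of w) v`
  let col : (Fin (d k) → F) →ₗ[F] Matrix (Fin (d k)) (Fin (d k)) F :=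
    { toFun := fun w => Matrix.vecMulVec w (Pi.single i 1)
      map_add' := fun w w' => Matrix.add_vecMulVec _ _ _
      map_smul' := fun c w => Matrix.smul_vecMulVec _ _ _ }
  let emb : Matrix (Fin (d k)) (Fin (d k)) F →ₗ[F]
      (Π k : Fin n, Matrix (Fin (d k)) (Fin (d k)) F) :=
    LinearMap.single F (fun k : Fin n => Matrix (Fin (d k)) (Fin (d k)) F) k
  let θ₀ : (Fin (d k) → F) →ₗ[F] S :=
    (LinearMap.applyₗ v : Module.End F S →ₗ[F] S) ∘ₗ ρ'.toLinearMap ∘ₗ emb ∘ₗ col
  have hθ₀ : ∀ w, θ₀ w = ρ' (Pi.single k (Matrix.vecMulVec w (Pi.single i 1))) v := fun w => rfl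
  have hθ₀eq : ∀ (r : Π k : Fin n, Matrix (Fin (d k)) (Fin (d k)) F) (w : Fin (d k) → F),
      θ₀ ((r k).mulVec w) = ρ' r (θ₀ w) := by
    intro r w
    rw [hθ₀, hθ₀, ← Module.End.mul_apply, ← map_mul, pi_mul_single, Matrix.mul_vecMulVec]
  have hθ₀ne : θ₀ (Pi.single i 1) = v := by
    rw [hθ₀, ← Matrix.single_eq_single_vecMulVec_single]
    conv_lhs => rw [hv]
    rw [← Module.End.mul_apply, ← map_mul, pi_single_mul_single, Matrix.single_mul_single_same,
      mul_one, ← hv]
  have hker : LinearMap.ker θ₀ = ⊥ := by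
    rcases matrix_simple (LinearMap.ker θ₀) (by
      intro m w hw
      rw [LinearMap.mem_ker] at hw ⊢
      have := hθ₀eq (Pi.single k m) w
      rw [Pi.single_eq_same] at this
      rw [this, hw, map_zero]) with h | h
    · exact h
    · exfalso
      apply hs
      rw [← hθ₀ne]
      have : (Pi.single i 1 : Fin (d k) → F) ∈ LinearMap.ker θ₀ := by
        rw [h]; exact Submodule.mem_top
      exact LinearMap.mem_ker.1 this
  have hrange : LinearMap.range θ₀ = ⊤ := by
    rcases hsimple (LinearMap.range θ₀) (by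
      rintro r _ ⟨w, rfl⟩
      exact ⟨_, hθ₀eq r w⟩) with h | h
    · exfalso
      apply hs
      rw [← hθ₀ne]
      have : θ₀ (Pi.single i 1) ∈ LinearMap.range θ₀ := ⟨_, rfl⟩
      rw [h] at this
      exact (Submodule.mem_bot F).1 this
    · exact h
  refine ⟨k, LinearEquiv.ofBijective θ₀ ⟨LinearMap.ker_eq_bot.1 hker,
    LinearMap.range_eq_top.1 hrange⟩, ?_⟩
  intro r w
  exact hθ₀eq r w

end

end Cfsg.Agent.Lib.Helper8
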