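import Mathlib
import Cfsg.Agent.Lib.Helper8.MR14

/-!
# The Wedderburn decomposition of a group algebra modulo its radical, and the standard
irreducible representations
-/

set_option autoImplicit false
set_option maxHeartbeats 800000

namespace Cfsg.Agent.Lib.Helper8

universe u v

/-- A Wedderburn decomposition of the group algebra modulo its Jacobson radical. -/
structure MRWed (F : Type u) (G : Type v) [Field F] [Group G] where
  /-- the number of simple components -/
  n : ℕ
  /-- their degrees -/
  d : Fin n → ℕ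
  hd : ∀ i, NeZero (d i)
  /-- the projection -/
  π : MonoidAlgebra F G →ₐ[F] (Π i : Fin n, Matrix (Fin (d i)) (Fin (d i)) F)
  surj : Function.Surjective π
  ker : ∀ a, π a = 0 ↔ a ∈ Ring.jacobson (MonoidAlgebra F G)
  nil : ∀ a, π a = 0 → IsNilpotent a

section

variable {F : Type u} [Field F] {G : Type v} [Group G]

theorem nonempty_mrWed [IsAlgClosed F] [Finite G] : Nonempty (MRWed F G) := by
  classical
  have : Fintype G := Fintype.ofFinite G
  have hfin : Module.Finite F (MonoidAlgebra F G) := inferInstance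
  have hart : IsArtinianRing (MonoidAlgebra F G) := IsArtinianRing.of_finite F _
  have hsp : IsSemiprimaryRing (MonoidAlgebra F G) := inferInstance
  have hss : IsSemisimpleRing (MonoidAlgebra F G ⧸ Ring.jacobson (MonoidAlgebra F G)) :=
    hsp.isSemisimpleRing
  obtain ⟨n, d, hd, ⟨e⟩⟩ := IsSemisimpleRing.exists_algEquiv_pi_matrix_of_isAlgClosed F
    (MonoidAlgebra F G ⧸ Ring.jacobson (MonoidAlgebra F G))
  have hker : ∀ a, (e.toAlgHom.comp (Ideal.Quotient.mkₐ F (Ring.jacobson (MonoidAlgebra F G)))) a
      = 0 ↔ a ∈ Ring.jacobson (MonoidAlgebra F G) := by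
    intro a
    rw [AlgHom.comp_apply]
    constructor
    · intro h
      have h1 : (Ideal.Quotient.mkₐ F (Ring.jacobson (MonoidAlgebra F G))) a = 0 :=
        e.injective (by rw [map_zero]; exact h)
      exact Ideal.Quotient.eq_zero_iff_mem.1 h1
    · intro h
      have h1 : (Ideal.Quotient.mkₐ F (Ring.jacobson (MonoidAlgebra F G))) a = 0 :=
        Ideal.Quotient.eq_zero_iff_mem.2 h
      rw [h1]
      exact map_zero _
  refine ⟨⟨n, d, hd, e.toAlgHom.comp (Ideal.Quotient.mkₐ F (Ring.jacobson (MonoidAlgebra F G))),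
    ?_, hker, ?_⟩⟩
  · intro r
    obtain ⟨q, hq⟩ := e.surjective r
    obtain ⟨a, ha⟩ := Ideal.Quotient.mk_surjective q
    exact ⟨a, by rw [AlgHom.comp_apply]; rw [← hq, ← ha]; rfl⟩
  · intro a ha
    have h1 := (hker a).1 ha
    obtain ⟨m, hm⟩ := hsp.isNilpotent
    refine ⟨m, ?_⟩
    have h2 : a ^ m ∈ Ring.jacobson (MonoidAlgebra F G) ^ m := Ideal.pow_mem_pow h1 m
    rw [hm] at h2
    exact h2

end

section

variable {F : Type*} [Field F] {A B C : Type*} [Ring A] [Ring B] [Ring C] [Algebra F A]
  [Algebra F B] [Algebra F C]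

theorem eq_of_map_eq_of_ker {π : A →ₐ[F] B} {g : A →ₐ[F] C} (H : ∀ a, π a = 0 → g a = 0)
    {a a' : A} (h : π a = π a') : g a = g a' := by
  have h1 : π (a - a') = 0 := by rw [map_sub, h, sub_self]
  have h2 := H _ h1
  rw [map_sub] at h2
  exact sub_eq_zero.1 h2

/-- Descend an algebra homomorphism along a surjection (noncommutative version). -/
noncomputable def liftSurj (π : A →ₐ[F] B) (hπ : Function.Surjective π) (g : A →ₐ[F] C)
    (H : ∀ a, π a = 0 → g a = 0) : B →ₐ[F] C where
  toFun b := g (Function.surjInv hπ b)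
  map_one' := by
    rw [← map_one g]
    exact eq_of_map_eq_of_ker H (by rw [Function.surjInv_eq hπ, map_one])
  map_mul' b b' := by
    rw [← map_mul g]
    exact eq_of_map_eq_of_ker H (by simp only [map_mul, Function.surjInv_eq hπ])
  map_zero' := by
    rw [← map_zero g]
    exact eq_of_map_eq_of_ker H (by rw [Function.surjInv_eq hπ, map_zero])
  map_add' b b' := by
    rw [← map_add g]
    exact eq_of_map_eq_of_ker H (by simp only [map_add, Function.surjInv_eq hπ])
  commutes' r := by
    rw [← AlgHom.commutes g r]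
    exact eq_of_map_eq_of_ker H (by rw [Function.surjInv_eq hπ, AlgHom.commutes])

theorem liftSurj_apply (π : A →ₐ[F] B) (hπ : Function.Surjective π) (g : A →ₐ[F] C)
    (H : ∀ a, π a = 0 → g a = 0) (a : A) : liftSurj π hπ g H (π a) = g a :=
  eq_of_map_eq_of_ker H (Function.surjInv_eq hπ (π a))

end

section

variable {F : Type u} [Field F] {G : Type v} [Group G]
variable {S S' : Type*} [AddCommGroup S] [Module F S] [AddCommGroup S'] [Module F S']

theorem asAlgebraHom_mem (ρ : Representation F G S) {Y : Submodule F S} (hY : MRInv ⊤ ρ Y)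
    (a : MonoidAlgebra F G) {v : S} (hv : v ∈ Y) : ρ.asAlgebraHom a v ∈ Y := by
  induction a using MonoidAlgebra.induction_on with
  | of g =>
    rw [Representation.asAlgebraHom_of]
    exact hY g (Subgroup.mem_top g) v hv
  | add a b ha hb =>
    rw [map_add, LinearMap.add_apply]
    exact Y.add_mem ha hb
  | smul c a ha =>
    rw [map_smul, LinearMap.smul_apply]
    exact Y.smul_mem c ha

theorem asAlgebraHom_intertwine {ρ : Representation F G S} {σ : Representation F G S'}
    {θ : S →ₗ[F] S'} (hθ : ∀ g v, θ (ρ g v) = σ g (θ v)) (a : MonoidAlgebra F G) (v : S) :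
    θ (ρ.asAlgebraHom a v) = σ.asAlgebraHom a (θ v) := by
  induction a using MonoidAlgebra.induction_on with
  | of g =>
    rw [Representation.asAlgebraHom_of, Representation.asAlgebraHom_of]
    exact hθ g v
  | add a b ha hb =>
    rw [map_add, map_add, LinearMap.add_apply, LinearMap.add_apply, map_add, ha, hb]
  | smul c a ha =>
    rw [map_smul, map_smul, LinearMap.smul_apply, LinearMap.smul_apply, map_smul, ha]

namespace MRWed

variable (D : MRWed F G)

/-- The `k`-th standard module, as an algebra homomorphism. -/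
noncomputable def stdAlg (k : Fin D.n) :
    MonoidAlgebra F G →ₐ[F] Module.End F (Fin (D.d k) → F) :=
  (Matrix.toLinAlgEquiv' : Matrix (Fin (D.d k)) (Fin (D.d k)) F ≃ₐ[F] _).toAlgHom.comp
    ((Pi.evalAlgHom F (fun i : Fin D.n => Matrix (Fin (D.d i)) (Fin (D.d i)) F) k).comp D.π)

theorem stdAlg_apply (k : Fin D.n) (a : MonoidAlgebra F G) (w : Fin (D.d k) → F) :
    D.stdAlg k a w = (D.π a k).mulVec w := rfl

/-- The `k`-th standard representation. -/
noncomputable def std (k : Fin D.n) : Representation F G (Fin (D.d k) → F) :=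
  ((D.stdAlg k : MonoidAlgebra F G →* Module.End F (Fin (D.d k) → F))).comp
    (MonoidAlgebra.of F G)

theorem std_apply (k : Fin D.n) (g : G) (w : Fin (D.d k) → F) :
    D.std k g w = (D.π (MonoidAlgebra.of F G g) k).mulVec w := rfl

theorem std_asAlgebraHom (k : Fin D.n) : (D.std k).asAlgebraHom = D.stdAlg k := by
  rw [Representation.asAlgebraHom_def]
  exact (MonoidAlgebra.lift_unique' (D.stdAlg k)).symm

theorem exists_pi_single (k : Fin D.n) (m : Matrix (Fin (D.d k)) (Fin (D.d k)) F) :
    ∃ a : MonoidAlgebra F G, D.π a = Pi.single k m := D.surj _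

instance (k : Fin D.n) : Nonempty (Fin (D.d k)) :=
  ⟨⟨0, Nat.pos_of_ne_zero (D.hd k).ne⟩⟩

/-- The standard representations are irreducible. -/
theorem std_irreducible (k : Fin D.n) : (D.std k).IsIrreducible := by
  apply irr_of_forall
  intro Y hY
  apply matrix_simple
  intro m w hw
  obtain ⟨a, ha⟩ := D.exists_pi_single k m
  have h1 := asAlgebraHom_mem (D.std k) hY a hw
  rw [std_asAlgebraHom, stdAlg_apply, ha, Pi.single_eq_same] at h1
  exact h1

/-- **Classification**: every irreducible representation is isomorphic to a standard one. -/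
theorem exists_equiv_std {ρ : Representation F G S} (hρ : ρ.IsIrreducible) :
    ∃ k : Fin D.n, ∃ θ : (Fin (D.d k) → F) ≃ₗ[F] S,
      ∀ (g : G) (w : Fin (D.d k) → F), θ (D.std k g w) = ρ g (θ w) := by
  have := hρ
  have hnt : Nontrivial S := irr_nontrivial hρ
  have H : ∀ a, D.π a = 0 → ρ.asAlgebraHom a = 0 := by
    intro a ha
    have h1 : a ∈ Ring.jacobson (MonoidAlgebra F G) := (D.ker a).1 ha
    have h2 : a ∈ Module.annihilator (MonoidAlgebra F G) ρ.asModule :=
      IsSemisimpleModule.jacobson_le_annihilator _ _ h1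
    rw [Module.mem_annihilator] at h2
    ext s
    have h3 := h2 (ρ.asModuleEquiv.symm s)
    have h4 := congrArg ρ.asModuleEquiv h3
    rw [Representation.asModuleEquiv_map_smul, map_zero, LinearEquiv.apply_symm_apply] at h4
    rw [h4]
    rfl
  set ρ' := liftSurj D.π D.surj ρ.asAlgebraHom H with hρ'
  have hρ'π : ∀ a, ρ' (D.π a) = ρ.asAlgebraHom a := liftSurj_apply D.π D.surj _ H
  have hsimple : ∀ Y : Submodule F S, (∀ r, ∀ s ∈ Y, ρ' r s ∈ Y) → Y = ⊥ ∨ Y = ⊤ := by
    intro Y hY
    apply irr_eq_bot_or_top hρ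
    intro g _ s hs
    have := hY (D.π (MonoidAlgebra.of F G g)) s hs
    rw [hρ'π, Representation.asAlgebraHom_of] at this
    exact this
  obtain ⟨k, θ, hθ⟩ := exists_equiv_of_simple ρ' hsimple
  refine ⟨k, θ, fun g w => ?_⟩
  rw [std_apply, hθ, hρ'π, Representation.asAlgebraHom_of]

/-- Distinct standard representations are not isomorphic. -/
theorem std_injective {k j : Fin D.n} (θ : (Fin (D.d k) → F) →ₗ[F] (Fin (D.d j) → F))
    (hθ : ∀ (g : G) (w : Fin (D.d k) → F), θ (D.std k g w) = D.std j g (θ w))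
    (hne : θ ≠ 0) : k = j := by
  by_contra hkj
  apply hne
  obtain ⟨a, ha⟩ := D.exists_pi_single k 1
  refine LinearMap.ext fun w => ?_
  have h1 := asAlgebraHom_intertwine hθ a w
  rw [std_asAlgebraHom, std_asAlgebraHom, stdAlg_apply, stdAlg_apply, ha, Pi.single_eq_same,
    Pi.single_eq_of_ne (Ne.symm hkj), Matrix.one_mulVec, Matrix.zero_mulVec] at h1
  rw [h1]
  rfl

end MRWed

end

end Cfsg.Agent.Lib.Helper8
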