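import Mathlib
import Cfsg.Agent.Lib.Helper8.MR15

/-!
# Central idempotents and traces of the standard representations; the number of simple
modules is at most the number of `p`-regular classes
-/

set_option autoImplicit false
set_option maxHeartbeats 800000

namespace Cfsg.Agent.Lib.Helper8

universe u v

section

variable {F : Type u} [Field F] {G : Type v} [Group G]

namespace MRWed

variable (D : MRWed F G)

/-- Nonzero pairwise orthogonal central idempotents of the group algebra act as the identity on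
distinct standard modules. -/
theorem exists_injective_of_idem {ι : Type*} (ε : ι → MonoidAlgebra F G)
    (hidem : ∀ i, ε i * ε i = ε i) (hne : ∀ i, ε i ≠ 0)
    (hcent : ∀ i a, ε i * a = a * ε i) (horth : ∀ i j, i ≠ j → ε i * ε j = 0) :
    ∃ κ : ι → Fin D.n, Function.Injective κ ∧ ∀ i, D.π (ε i) (κ i) = 1 := by
  classical
  have hπne : ∀ i, D.π (ε i) ≠ 0 := by
    intro i h0
    obtain ⟨m, hm⟩ := D.nil _ h0
    apply hne i
    cases m with
    | zero =>
      rw [pow_zero] at hm
      rw [← mul_one (ε i), hm, mul_zero]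
    | succ m =>
      have : IsIdempotentElem (ε i) := hidem i
      rw [this.pow_succ_eq] at hm
      exact hm
  have hex : ∀ i, ∃ k : Fin D.n, D.π (ε i) k = 1 := by
    intro i
    have h1 : ∃ k, D.π (ε i) k ≠ 0 := by
      by_contra hcon
      push Not at hcon
      exact hπne i (funext hcon)
    obtain ⟨k, hk⟩ := h1
    refine ⟨k, ?_⟩
    set z := D.π (ε i) k with hz
    have hzc : z ∈ Set.center (Matrix (Fin (D.d k)) (Fin (D.d k)) F) := by
      rw [Semigroup.mem_center_iff]
      intro m
      obtain ⟨a, ha⟩ := D.exists_pi_single k m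
      have h2 := congrArg (fun r => r k) (congrArg D.π (hcent i a))
      simp only [map_mul, Pi.mul_apply, ha, Pi.single_eq_same] at h2
      exact h2.symm
    rw [Matrix.center_eq_range] at hzc
    obtain ⟨α, hα⟩ := hzc
    have hzz : z * z = z := by
      rw [hz, ← Pi.mul_apply, ← map_mul, hidem i]
    rw [← hα] at hzz hk ⊢
    rw [← map_mul] at hzz
    have hαα : α * α = α := Matrix.scalar_inj.1 hzz
    have hα0 : α ≠ 0 := by
      intro h0
      apply hk
      rw [h0, map_zero]
    have hα1 : α = 1 := by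
      have : α * (α - 1) = 0 := by rw [mul_sub, hαα, mul_one, sub_self]
      rcases mul_eq_zero.1 this with h | h
      · exact absurd h hα0
      · exact sub_eq_zero.1 h
    rw [hα1, map_one]
  choose κ hκ using hex
  refine ⟨κ, ?_, hκ⟩
  intro i j hij
  by_contra hne'
  have h1 := congrArg (fun r => r (κ i)) (congrArg D.π (horth i j hne'))
  simp only [map_mul, Pi.mul_apply, map_zero, Pi.zero_apply] at h1
  rw [hκ i, hij, hκ j, mul_one] at h1
  exact one_ne_zero h1

/-- The trace of the `k`-th standard representation. -/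
noncomputable def tr (k : Fin D.n) (g : G) : F := Matrix.trace (D.π (MonoidAlgebra.of F G g) k)

/-- The traces of the standard representations are linearly independent. -/
theorem tr_indep (c : Fin D.n → F) (h : ∀ g, ∑ k, c k * D.tr k g = 0) : c = 0 := by
  classical
  let Λ : MonoidAlgebra F G →ₗ[F] F :=
    ∑ k : Fin D.n, c k • ((Matrix.traceLinearMap (Fin (D.d k)) F F) ∘ₗ
      (LinearMap.proj k : (Π i : Fin D.n, Matrix (Fin (D.d i)) (Fin (D.d i)) F) →ₗ[F] _) ∘ₗ
      D.π.toLinearMap)
  have hΛ : ∀ a, Λ a = ∑ k, c k * Matrix.trace (D.π a k) := by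
    intro a
    simp only [Λ, LinearMap.sum_apply, LinearMap.smul_apply, LinearMap.comp_apply, smul_eq_mul]
    rfl
  have hΛ0 : Λ = 0 := by
    apply MonoidAlgebra.lhom_ext'
    intro g
    refine LinearMap.ext fun b => ?_
    rw [LinearMap.comp_apply, LinearMap.comp_apply, MonoidAlgebra.lsingle_apply]
    have h1 : (MonoidAlgebra.single g b : MonoidAlgebra F G) = b • MonoidAlgebra.of F G g := by
      rw [MonoidAlgebra.of_apply, MonoidAlgebra.smul_single, smul_eq_mul, mul_one]
    rw [h1, map_smul, LinearMap.zero_apply, hΛ]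
    have := h g
    unfold tr at this
    rw [this, smul_zero]
  funext j
  have := D.hd j
  obtain ⟨a, ha⟩ := D.exists_pi_single j (Matrix.single (0 : Fin (D.d j)) 0 1)
  have h2 := hΛ a
  rw [hΛ0, LinearMap.zero_apply, ha, Finset.sum_eq_single j] at h2
  · rw [Pi.single_eq_same, Matrix.trace_single_eq_same, mul_one] at h2
    exact h2.symm
  · intro k _ hkj
    rw [Pi.single_eq_of_ne hkj, Matrix.trace_zero, mul_zero]
  · intro hj
    exact absurd (Finset.mem_univ j) hj

theorem tr_conj (k : Fin D.n) (g h : G) : D.tr k (h * g * h⁻¹) = D.tr k g := by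
  unfold tr
  rw [map_mul, map_mul, map_mul, map_mul, Pi.mul_apply, Pi.mul_apply, Matrix.trace_mul_comm,
    ← mul_assoc, ← Pi.mul_apply, ← map_mul, ← map_mul, inv_mul_cancel, map_one, map_one,
    Pi.one_apply, one_mul]

variable (p : ℕ) [hp : Fact p.Prime] [CharP F p]

/-- The trace only depends on the `p`-regular part. -/
theorem tr_mul_eq (k : Fin D.n) {u w : G} (hcomm : Commute u w) {m : ℕ} (hu : u ^ p ^ m = 1) :
    D.tr k (u * w) = D.tr k w := by
  classical
  unfold tr
  set X := D.π (MonoidAlgebra.of F G u) k with hX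
  set Y := D.π (MonoidAlgebra.of F G w) k with hY
  have hXY : D.π (MonoidAlgebra.of F G (u * w)) k = X * Y := by
    rw [map_mul, map_mul, Pi.mul_apply]
  have hcommXY : Commute X Y := by
    show X * Y = Y * X
    rw [hX, hY, ← Pi.mul_apply, ← Pi.mul_apply, ← map_mul, ← map_mul, ← map_mul, ← map_mul,
      hcomm.eq]
  have hXp : X ^ p ^ m = 1 := by
    rw [hX, ← Pi.pow_apply, ← map_pow, ← map_pow, hu, map_one, map_one, Pi.one_apply]
  have hnil : IsNilpotent (X - 1) := by
    refine ⟨p ^ m, ?_⟩
    rw [sub_pow_char_pow_of_commute p m (Commute.one_right X), hXp, one_pow, sub_self]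
  have hnil2 : IsNilpotent ((X - 1) * Y) :=
    Commute.isNilpotent_mul_right (hcommXY.sub_left (Commute.one_left Y)) hnil
  have h0 := (Matrix.isNilpotent_trace_of_isNilpotent hnil2).eq_zero
  rw [sub_mul, one_mul, Matrix.trace_sub, sub_eq_zero] at h0
  rw [hXY, h0]

end MRWed

end

section

variable {G : Type*} [Group G] [Finite G]

/-- Every element of a finite group is a commuting product of a `p`-element and a `p`-regular
element. -/
theorem exists_pPart_decomp (p : ℕ) [hp : Fact p.Prime] (g : G) :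
    ∃ u w : G, g = u * w ∧ Commute u w ∧ (∃ m : ℕ, u ^ p ^ m = 1) ∧ ¬ p ∣ orderOf w := by
  have hn : orderOf g ≠ 0 := (orderOf_pos g).ne'
  obtain ⟨k, m, hm, hkm⟩ := Nat.exists_eq_pow_mul_and_not_dvd hn p hp.out.one_lt.ne'
  have hcop : Nat.Coprime (p ^ k) m :=
    Nat.Coprime.pow_left k ((Nat.Prime.coprime_iff_not_dvd hp.out).mpr hm)
  obtain ⟨a, b, hab⟩ := Nat.Coprime.isCoprime hcop
  refine ⟨g ^ (b * (m : ℤ)), g ^ (a * ((p ^ k : ℕ) : ℤ)), ?_, ?_, ⟨k, ?_⟩, ?_⟩
  · rw [← zpow_add, add_comm, hab, zpow_one]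
  · exact (Commute.refl g).zpow_zpow _ _
  · rw [← zpow_natCast, ← zpow_mul]
    have : b * (m : ℤ) * ((p ^ k : ℕ) : ℤ) = b * ((orderOf g : ℕ) : ℤ) := by
      rw [hkm]; push_cast; ring
    rw [this, zpow_mul', zpow_natCast, pow_orderOf_eq_one, one_zpow]
  · intro hdvd
    apply hm
    have h1 : (g ^ (a * ((p ^ k : ℕ) : ℤ))) ^ m = 1 := by
      rw [← zpow_natCast, ← zpow_mul]
      have : a * ((p ^ k : ℕ) : ℤ) * (m : ℤ) = a * ((orderOf g : ℕ) : ℤ) := by
        rw [hkm]; push_cast; ring
      rw [this, zpow_mul', zpow_natCast, pow_orderOf_eq_one, one_zpow]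
    exact hdvd.trans (orderOf_dvd_of_pow_eq_one h1)

end

section

variable {F : Type u} [Field F] {G : Type v} [Group G] [Finite G]

/-- **Brauer**: the number of simple modules is at most the number of `p`-regular classes. -/
theorem MRWed.n_le_card (D : MRWed F G) (p : ℕ) [hp : Fact p.Prime] [CharP F p] (R : Finset G)
    (hR : ∀ g : G, ¬ p ∣ orderOf g → ∃ r ∈ R, IsConj g r) : D.n ≤ R.card := by
  classical
  have hli : LinearIndependent F (fun k : Fin D.n => (fun r : R => D.tr k (r : G))) := by
    rw [Fintype.linearIndependent_iff]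
    intro c hc k
    have h1 : ∀ g : G, ∑ k, c k * D.tr k g = 0 := by
      intro g
      obtain ⟨u, w, rfl, hcomm, ⟨m, hu⟩, hw⟩ := exists_pPart_decomp p g
      obtain ⟨r, hrR, hconj⟩ := hR w hw
      obtain ⟨t, ht⟩ := isConj_iff.1 hconj
      have h2 := congrArg (fun f => f (⟨r, hrR⟩ : R)) hc
      simp only [Finset.sum_apply, Pi.smul_apply, smul_eq_mul, Pi.zero_apply] at h2
      rw [← h2]
      refine Finset.sum_congr rfl fun k _ => ?_
      rw [D.tr_mul_eq p k hcomm hu, ← ht, D.tr_conj]
    have := D.tr_indep c h1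
    rw [this]
    rfl
  have h3 := hli.fintype_card_le_finrank
  rw [Fintype.card_fin, Module.finrank_fintype_fun_eq_card, Fintype.card_coe] at h3
  exact h3

end

end Cfsg.Agent.Lib.Helper8
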