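import Mathlib
import Cfsg.Agent.Lib.Helper8.MR16
import Cfsg.Agent.Lib.Helper8.MR20

/-!
# The lower bound for the number of simple modules of a group with a Sylow subgroup of
prime order
-/

set_option autoImplicit false
set_option maxHeartbeats 1600000

namespace Cfsg.Agent.Lib.Helper8

universe u v

section

variable {F : Type u} [Field F] {Γ : Type*} [Group Γ]
variable {S T : Type*} [AddCommGroup S] [Module F S] [AddCommGroup T] [Module F T]

/-- Inflation along a surjective homomorphism preserves irreducibility. -/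
theorem irr_comp_of_surjective {H : Type*} [Group H] {ρ : Representation F H S}
    (hρ : ρ.IsIrreducible) (f : Γ →* H) (hf : Function.Surjective f) :
    Representation.IsIrreducible (ρ.comp f : Representation F Γ S) := by
  have := irr_nontrivial hρ
  apply irr_of_forall
  intro Y hY
  apply irr_eq_bot_or_top hρ
  intro h _ v hv
  obtain ⟨g, rfl⟩ := hf h
  exact hY g (Subgroup.mem_top g) v hv

/-- The sum of all conjugates of a linear map is a trace from the trivial subgroup. -/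
theorem isPProj_sum_conj [Fintype Γ] (P : Subgroup Γ) [Fintype P] (ρ : Representation F Γ S)
    (k : S →ₗ[F] S) : IsPProj P ρ ρ (∑ g : Γ, ρ g ∘ₗ k ∘ₗ ρ g⁻¹) := by
  classical
  refine isPProj_sum_of_free P ρ ρ (X := Γ) (fun g => ρ g ∘ₗ k ∘ₗ ρ g⁻¹) ?_ _ Finset.univ rfl
    (fun _ _ _ _ => Finset.mem_univ _) ?_
  · intro u _ q
    ext v
    simp only [smul_eq_mul, mul_inv_rev, map_mul, LinearMap.comp_apply, Module.End.mul_apply]
  · intro q _ u _ huq
    rw [smul_eq_mul] at huq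
    exact mul_right_cancel (huq.trans (one_mul q).symm)

/-- If the identity of `S` is a trace, every equivariant map into `S` is a trace. -/
theorem isPProj_of_id (P : Subgroup Γ) [Fintype P] {τ : Representation F Γ T}
    {ρ : Representation F Γ S} (hid : IsPProj P ρ ρ LinearMap.id) {φ : T →ₗ[F] S}
    (hφ : MREquiv P τ ρ φ) : IsPProj P τ ρ φ := by
  have := hid.comp_right hφ
  rwa [LinearMap.id_comp] at this

end

section

variable {F : Type u} [Field F] {G : Type v} [Group G] [Fintype G]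

/-- A standard module on which a trace idempotent acts as the identity has identity a trace. -/
theorem MRWed.isPProj_id_of_trace (D : MRWed F G) (P : Subgroup G) [Fintype P] (k : Fin D.n)
    {ε a : MonoidAlgebra F G} (hε : D.π ε k = 1)
    (ha : ε = ∑ g : G, MonoidAlgebra.of F G g * a * MonoidAlgebra.of F G g⁻¹) :
    IsPProj P (D.std k) (D.std k) LinearMap.id := by
  have h1 : (LinearMap.id : (Fin (D.d k) → F) →ₗ[F] (Fin (D.d k) → F)) = D.stdAlg k ε := by
    refine LinearMap.ext fun w => ?_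
    rw [MRWed.stdAlg_apply, hε, Matrix.one_mulVec]
    rfl
  have h2 : D.stdAlg k ε = ∑ g : G, D.std k g ∘ₗ D.stdAlg k a ∘ₗ D.std k g⁻¹ := by
    rw [ha, map_sum]
    refine Finset.sum_congr rfl fun g _ => ?_
    rw [map_mul, map_mul]
    rfl
  rw [h1, h2]
  exact isPProj_sum_conj P (D.std k) (D.stdAlg k a)

end

section

variable {G : Type v} [Group G]

/-- The normalizer of the cyclic subgroup generated by `x`. -/
abbrev mrN (x : G) : Subgroup G := Subgroup.normalizer ((Subgroup.zpowers x : Subgroup G) : Set G)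

/-- The cyclic subgroup generated by `x`, inside its normalizer. -/
abbrev mrP' (x : G) : Subgroup (mrN x) := (Subgroup.zpowers x).subgroupOf (mrN x)

end

section

variable {F : Type u} [Field F] [IsAlgClosed F] {G : Type v} [Group G] [Fintype G]

/-- **The lower bound**: for a group `G` with `p ∥ |G|`, `P` a subgroup of order `p` and
`N = N_G(P)`, the number of `p`-regular classes of `G` is at least the number of members of any
family of orthogonal central trace idempotents of `F[G]` plus the number of members of any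
family of orthogonal central idempotents of `F[N/P]`. -/
theorem mr_count (p : ℕ) [hp : Fact p.Prime] [CharP F p] {x : G} (hx : orderOf x = p)
    (hsq : ¬ p ^ 2 ∣ Nat.card G)
    {ι : Type*} [Finite ι] (ε : ι → MonoidAlgebra F G)
    (hidem : ∀ i, ε i * ε i = ε i) (hne : ∀ i, ε i ≠ 0)
    (hcent : ∀ i a, ε i * a = a * ε i) (horth : ∀ i j, i ≠ j → ε i * ε j = 0)
    (htr : ∀ i, ∃ a : MonoidAlgebra F G,
      ε i = ∑ g : G, MonoidAlgebra.of F G g * a * MonoidAlgebra.of F G g⁻¹)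
    {ι' : Type*} [Finite ι']
    (ε' : ι' → MonoidAlgebra F (mrN x ⧸ mrP' x))
    (hidem' : ∀ i, ε' i * ε' i = ε' i) (hne' : ∀ i, ε' i ≠ 0)
    (hcent' : ∀ i a, ε' i * a = a * ε' i) (horth' : ∀ i j, i ≠ j → ε' i * ε' j = 0)
    (R : Finset G) (hR : ∀ g : G, ¬ p ∣ orderOf g → ∃ r ∈ R, IsConj g r) :
    Nat.card ι + Nat.card ι' ≤ R.card := by
  classical
  have hPN : Subgroup.zpowers x ≤ mrN x := Subgroup.le_normalizer
  have hxN : x ∈ mrN x := hPN (Subgroup.mem_zpowers x)
  obtain ⟨x', hx'def⟩ : ∃ x' : mrN x, x' = ⟨x, hxN⟩ := ⟨_, rfl⟩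
  have hx' : orderOf x' = p := by rw [hx'def]; exact setup_orderOf p hx hxN
  have hP' : mrP' x = Subgroup.zpowers x' := by rw [hx'def]; exact setup_subgroupOf x hxN
  have hnorm : ∀ g : mrN x, ∃ n : ℕ, g * x' * g⁻¹ = x' ^ n := by
    rw [hx'def]; exact setup_hnorm hxN
  have hfix : ∀ g : G, (∀ u ∈ Subgroup.zpowers x, g⁻¹ * u * g ∈ mrN x) → g ∈ mrN x :=
    setup_hfix p hx hsq
  obtain ⟨L, hgen, hLcard, hLP⟩ := setup_complement p hx hsq
  have : Fintype (Subgroup.zpowers x) := Fintype.ofFinite _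
  have : Fintype (mrP' x) := Fintype.ofFinite _
  have : Fintype L := Fintype.ofFinite L
  have hcardP : Nat.card (Subgroup.zpowers x) = p := by rw [Nat.card_zpowers, hx]
  have hcardP' : (Fintype.card (mrP' x) : F) = 0 := by
    have h1 : Fintype.card (mrP' x) = p := by
      rw [← Nat.card_eq_fintype_card, ← hcardP]
      exact Nat.card_congr (Subgroup.subgroupOfEquivOfLe hPN).toEquiv
    rw [h1]
    exact CharP.cast_eq_zero F p
  have hL : (Fintype.card L : F) ≠ 0 := by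
    rw [Ne, CharP.cast_eq_zero_iff F p, ← Nat.card_eq_fintype_card]
    exact hLcard
  obtain ⟨D⟩ := nonempty_mrWed (F := F) (G := G)
  obtain ⟨D'⟩ := nonempty_mrWed (F := F) (G := mrN x ⧸ mrP' x)
  obtain ⟨κ, hκinj, hκ⟩ := D.exists_injective_of_idem ε hidem hne hcent horth
  obtain ⟨κ', hκ'inj, -⟩ := D'.exists_injective_of_idem ε' hidem' hne' hcent' horth'
  -- the irreducible representations of `N`
  let τ : ∀ j : Fin D'.n, Representation F (mrN x) (Fin (D'.d j) → F) :=
    fun j => (D'.std j).comp (QuotientGroup.mk' (mrP' x))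
  have hτ : ∀ j, (τ j).IsIrreducible := fun j =>
    irr_comp_of_surjective (D'.std_irreducible j) _ (QuotientGroup.mk'_surjective (mrP' x))
  have hτtriv : ∀ j, ∀ u ∈ mrP' x, τ j u = 1 := by
    intro j u hu
    show (D'.std j) (QuotientGroup.mk' (mrP' x) u) = 1
    rw [QuotientGroup.mk'_apply, (QuotientGroup.eq_one_iff u).2 hu, map_one]
  -- Part A
  have hA : ∀ j : Fin D'.n, ∃ k : Fin D.n, ∃ ψ : (Fin (D'.d j) → F) →ₗ[F] (Fin (D.d k) → F),
      MREquiv ⊤ (τ j) (mrRes (mrN x) (D.std k)) ψ ∧ ¬ IsPProj (mrP' x) (τ j) (mrRes (mrN x) (D.std k)) ψ := by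
    intro j
    have := irr_nontrivial (hτ j)
    obtain ⟨S, _, _, _, σ, hσ, φ, hφ, hφP⟩ :=
      exists_irr_of_not_isPProj (Γ := G) (mrN x) (mrP' x) L hL hcardP' hLP hgen (τ j) (hτtriv j)
    obtain ⟨k, θ, hθ⟩ := D.exists_equiv_std hσ
    have hθeq : MREquiv ⊤ (mrRes (mrN x) σ) (mrRes (mrN x) (D.std k)) (θ.symm : S →ₗ[F] (Fin (D.d k) → F)) := by
      apply mrEquiv_of_apply
      intro g _ s
      apply θ.injective
      show θ (θ.symm (σ g s)) = θ (D.std k g (θ.symm s))
      rw [LinearEquiv.apply_symm_apply, hθ, LinearEquiv.apply_symm_apply]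
    have hθeq' : MREquiv ⊤ (mrRes (mrN x) (D.std k)) (mrRes (mrN x) σ) (θ : (Fin (D.d k) → F) →ₗ[F] S) := by
      apply mrEquiv_of_apply
      intro g _ w
      show θ (D.std k g w) = σ g (θ w)
      rw [hθ]
    refine ⟨k, (θ.symm : S →ₗ[F] (Fin (D.d k) → F)) ∘ₗ φ, hφ.comp hθeq, ?_⟩
    intro hproj
    apply hφP
    have h1 := hproj.comp_left (hθeq'.mono (le_top : mrP' x ≤ ⊤))
    have h2 : (θ : (Fin (D.d k) → F) →ₗ[F] S) ∘ₗ (θ.symm : S →ₗ[F] (Fin (D.d k) → F)) ∘ₗ φ = φ := by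
      ext t
      simp
    rwa [h2] at h1
  -- uniqueness
  have key_inj : ∀ (k : Fin D.n) (j₁ j₂ : Fin D'.n),
      (∃ ψ : (Fin (D'.d j₁) → F) →ₗ[F] (Fin (D.d k) → F),
        MREquiv ⊤ (τ j₁) (mrRes (mrN x) (D.std k)) ψ ∧ ¬ IsPProj (mrP' x) (τ j₁) (mrRes (mrN x) (D.std k)) ψ) →
      (∃ ψ : (Fin (D'.d j₂) → F) →ₗ[F] (Fin (D.d k) → F),
        MREquiv ⊤ (τ j₂) (mrRes (mrN x) (D.std k)) ψ ∧ ¬ IsPProj (mrP' x) (τ j₂) (mrRes (mrN x) (D.std k)) ψ) →
      j₁ = j₂ := by
    rintro k j₁ j₂ ⟨ψ₁, hψ₁, hψ₁P⟩ ⟨ψ₂, hψ₂, hψ₂P⟩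
    have hH : ∀ ψ : (Fin (D.d k) → F) →ₗ[F] (Fin (D.d k) → F),
        MREquiv ⊤ (mrRes (mrN x) (D.std k)) (mrRes (mrN x) (D.std k)) ψ →
        ∃ (c : F) (h : (Fin (D.d k) → F) →ₗ[F] (Fin (D.d k) → F)),
          ψ = c • LinearMap.id + mrTr (mrP' x) (mrRes (mrN x) (D.std k)) (mrRes (mrN x) (D.std k)) h :=
      fun ψ hψ => endo_restrict (mrN x) p (Subgroup.zpowers x) hcardP hPN hfix
        (D.std_irreducible k) hψ
    have hQ := fun (Y : Submodule F (Fin (D.d k) → F)) (hY : MRInv L (mrRes (mrN x) (D.std k)) Y)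
      (h1 : LinearMap.range (mrNu (mrRes (mrN x) (D.std k)) x' ^ (p - 1)) ≤ Y)
      (h2 : Y ≤ LinearMap.ker (mrNu (mrRes (mrN x) (D.std k)) x')) =>
      simpleQ_of_endo p hx' (mrP' x) hP' L hL hnorm hgen (mrRes (mrN x) (D.std k)) hH hY h1 h2
    obtain ⟨θ, hθ⟩ := exists_equiv_of_not_isPProj p hx' (mrP' x) hP' L hnorm (mrRes (mrN x) (D.std k)) hQ
      (hτ j₁) (hτ j₂) hψ₁ hψ₁P hψ₂ hψ₂P
    have := irr_nontrivial (hτ j₁)
    apply D'.std_injective (θ : (Fin (D'.d j₁) → F) →ₗ[F] (Fin (D'.d j₂) → F))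
    · intro h w
      obtain ⟨g, rfl⟩ := QuotientGroup.mk'_surjective (mrP' x) h
      exact hθ g w
    · intro h0
      obtain ⟨t, ht⟩ := exists_ne (0 : Fin (D'.d j₁) → F)
      apply ht
      apply θ.injective
      have := congrArg (fun f => f t) h0
      simpa using this
  -- disjointness
  have key_disj : ∀ (k : Fin D.n) (j : Fin D'.n),
      (∃ ψ : (Fin (D'.d j) → F) →ₗ[F] (Fin (D.d k) → F),
        MREquiv ⊤ (τ j) (mrRes (mrN x) (D.std k)) ψ ∧ ¬ IsPProj (mrP' x) (τ j) (mrRes (mrN x) (D.std k)) ψ) →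
      ∀ i, κ i ≠ k := by
    rintro k j ⟨ψ, hψ, hψP⟩ i hik
    apply hψP
    obtain ⟨a, ha⟩ := htr i
    have h1 : IsPProj (Subgroup.zpowers x) (D.std k) (D.std k) LinearMap.id :=
      D.isPProj_id_of_trace (Subgroup.zpowers x) k (by rw [← hik]; exact hκ i) ha
    obtain ⟨h₀, hh₀⟩ := h1
    have h2 : IsPProj (mrP' x) (mrRes (mrN x) (D.std k)) (mrRes (mrN x) (D.std k)) LinearMap.id := by
      refine ⟨h₀, ?_⟩
      rw [← hh₀, ← mrTr_subgroupOf (mrN x) (Subgroup.zpowers x) hPN]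
    exact isPProj_of_id (mrP' x) h2 (hψ.mono le_top)
  choose Ψ ψ hψ using hA
  have hΨinj : Function.Injective Ψ := by
    intro j₁ j₂ h
    apply key_inj (Ψ j₁) j₁ j₂ ⟨ψ j₁, hψ j₁⟩
    rw [h]
    exact ⟨ψ j₂, hψ j₂⟩
  have hdisj : ∀ i j, κ i ≠ Ψ j := fun i j => key_disj (Ψ j) j ⟨ψ j, hψ j⟩ i
  -- counting
  have : Fintype ι := Fintype.ofFinite ι
  have : Fintype ι' := Fintype.ofFinite ι'
  have h1 : Fintype.card ι' ≤ D'.n := by
    have := Fintype.card_le_of_injective κ' hκ'inj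
    rwa [Fintype.card_fin] at this
  have h2 : Fintype.card ι + D'.n ≤ D.n := by
    have hinj : Function.Injective (Sum.elim κ Ψ) := by
      rintro (i | j) (i' | j') h
      · exact congrArg Sum.inl (hκinj h)
      · exact absurd h (hdisj i j')
      · exact absurd h.symm (hdisj i' j)
      · exact congrArg Sum.inr (hΨinj h)
    have := Fintype.card_le_of_injective _ hinj
    rwa [Fintype.card_sum, Fintype.card_fin, Fintype.card_fin] at this
  have h3 : D.n ≤ R.card := D.n_le_card p R hR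
  rw [Nat.card_eq_fintype_card, Nat.card_eq_fintype_card]
  omega

end

end Cfsg.Agent.Lib.Helper8
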