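import Mathlib
import Cfsg.Prelude.Def_Blocks
import Cfsg.Prelude.Def_BlockRank
import Cfsg.Agent.Lib.Helper8.DO2
import Cfsg.Agent.Lib.Helper8.MR21
import Cfsg.Agent.Lib.Helper8.D3

/-!
# Blocks of defect one: the context
-/

set_option autoImplicit false
set_option maxHeartbeats 800000
set_option linter.unusedSectionVars false

namespace Cfsg.Agent.Lib.Helper8

open Cfsg
open scoped ComplexConjugate
open Cfsg.Agent.Lib.Helper1 Cfsg.Agent.Lib.Helper4

universe u

/-- The setting for a block `B` with defect group `⟨x⟩` of prime order `p`, in a group whose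
order is not divisible by `p²`: `C = C_G(x)`, `b` a block of `C` inducing `B` and `θ` the
canonical character of `b`. -/
structure D1Ctx (p : ℕ) (M : Ideal AlgInt) {G : Type u} [Group G] [Fintype G] (x : G)
    (C : Subgroup G) (b : Set (IrrCharacter C)) (B : Set (IrrCharacter G))
    (θ : IrrCharacter C) : Prop where
  hM : IsPModular p M
  hx : orderOf x = p
  hsq : ¬ p ^ 2 ∣ Nat.card G
  hC : ∀ t, t ∈ C ↔ t * x = x * t
  hB : IsPBlock M B
  hBP : IsDefectGroup p M B (Subgroup.zpowers x)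
  hind : IsInducedBlock M C b B
  hθ : θ ∈ b
  hθP : ∀ c : C, (c : G) ∈ Subgroup.zpowers x → (θ : C → ℂ) c = (θ : C → ℂ) 1

section

variable {G : Type u} [Group G] [Fintype G] {M : Ideal AlgInt} {p : ℕ} [Fact p.Prime]
  {x : G} {C : Subgroup G} [Fintype C] {b : Set (IrrCharacter C)} {B : Set (IrrCharacter G)}
  {θ : IrrCharacter C}

namespace D1Ctx

theorem hMp (ctx : D1Ctx p M x C b B θ) : M.IsPrime := isPModular_isPrime ctx.hM

theorem hb (ctx : D1Ctx p M x C b B θ) : IsPBlock M b := ctx.hind.1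

omit [Fact p.Prime] [Fintype C] in
theorem hxC (ctx : D1Ctx p M x C b B θ) : x ∈ C := (ctx.hC x).2 rfl

omit [Fact p.Prime] [Fintype C] in
/-- the element `x` inside `C` -/
def z (ctx : D1Ctx p M x C b B θ) : C := ⟨x, ctx.hxC⟩

@[simp] theorem coe_z (ctx : D1Ctx p M x C b B θ) : ((ctx.z : C) : G) = x := rfl

@[simp] theorem coe_z_pow (ctx : D1Ctx p M x C b B θ) (k : ℕ) :
    ((ctx.z ^ k : C) : G) = x ^ k := by
  rw [Subgroup.coe_pow, coe_z]

theorem hzc (ctx : D1Ctx p M x C b B θ) (c : C) : ctx.z * c = c * ctx.z :=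
  Subtype.ext ((ctx.hC c).1 c.2).symm

theorem hz (ctx : D1Ctx p M x C b B θ) : orderOf ctx.z = p :=
  (Subgroup.orderOf_mk x ctx.hxC).trans ctx.hx

theorem hzp (ctx : D1Ctx p M x C b B θ) :
    Subgroup.zpowers ctx.z = (Subgroup.zpowers x).subgroupOf C := by
  ext c
  rw [Subgroup.mem_subgroupOf, Subgroup.mem_zpowers_iff, Subgroup.mem_zpowers_iff]
  constructor
  · rintro ⟨k, hk⟩
    refine ⟨k, ?_⟩
    rw [← hk]
    rfl
  · rintro ⟨k, hk⟩
    refine ⟨k, ?_⟩
    apply Subtype.ext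
    rw [← hk]
    rfl

theorem hxk (ctx : D1Ctx p M x C b B θ) (k : ℕ) : ∃ j : ℕ, orderOf (x ^ k) = p ^ j := by
  have hp : p.Prime := Fact.out
  have h1 : orderOf (x ^ k) ∣ p := by
    rw [← ctx.hx]
    exact orderOf_pow_dvd k
  rcases (Nat.dvd_prime hp).1 h1 with h | h
  · exact ⟨0, by rw [h, pow_zero]⟩
  · exact ⟨1, by rw [h, pow_one]⟩

theorem xk_ne_one (ctx : D1Ctx p M x C b B θ) {k : ℕ} (hk : ¬ p ∣ k) : x ^ k ≠ 1 := by
  intro h
  apply hk
  rw [← ctx.hx]
  exact orderOf_dvd_of_pow_eq_one h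

theorem hCk (ctx : D1Ctx p M x C b B θ) {k : ℕ} (hk : ¬ p ∣ k) :
    ∀ t, t ∈ C ↔ t * x ^ k = x ^ k * t := by
  intro t
  rw [ctx.hC t]
  exact (d1_comm_iff ctx.hx (Subgroup.npow_mem_zpowers x k) (ctx.xk_ne_one hk) t).symm

theorem hCN (ctx : D1Ctx p M x C b B θ) : C ≤ mrN x := by
  intro t ht
  apply Subgroup.mem_normalizer_fintype
  intro n hn
  obtain ⟨i, rfl⟩ := Subgroup.mem_zpowers_iff.1 hn
  have hc : Commute t (x ^ i) := Commute.zpow_right (show Commute t x from (ctx.hC t).1 ht) i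
  have : t * x ^ i * t⁻¹ = x ^ i := by
    rw [hc.eq, mul_inv_cancel_right]
  rw [this]
  exact Subgroup.zpow_mem_zpowers x i

theorem hNC (ctx : D1Ctx p M x C b B θ) : mrN x ≤ Subgroup.normalizer (C : Set G) := by
  intro n hn
  have key : ∀ m ∈ mrN x, ∀ t ∈ C, m * t * m⁻¹ ∈ C := by
    intro m hm t ht
    rw [ctx.hC]
    -- `m⁻¹ x m` is a power of `x`
    have hminv : m⁻¹ ∈ mrN x := Subgroup.inv_mem _ hm
    have h1 : m⁻¹ * x * m⁻¹⁻¹ ∈ Subgroup.zpowers x :=
      (Subgroup.mem_normalizer_iff.1 hminv x).1 (Subgroup.mem_zpowers x)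
    rw [inv_inv] at h1
    obtain ⟨i, hi⟩ := Subgroup.mem_zpowers_iff.1 h1
    have hc : Commute t (x ^ i) := Commute.zpow_right (show Commute t x from (ctx.hC t).1 ht) i
    rw [hi] at hc
    have e1 : m * t * m⁻¹ * x = m * (t * (m⁻¹ * x * m)) * m⁻¹ := by group
    have e2 : x * (m * t * m⁻¹) = m * ((m⁻¹ * x * m) * t) * m⁻¹ := by group
    rw [e1, e2, hc.eq]
  rw [Subgroup.mem_normalizer_iff]
  intro t
  constructor
  · exact key n hn t
  · intro h
    have := key n⁻¹ (Subgroup.inv_mem _ hn) _ h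
    simpa [mul_assoc] using this

theorem hDb (ctx : D1Ctx p M x C b B θ) : IsDefectGroup p M b (Subgroup.zpowers ctx.z) := by
  have hMp := ctx.hMp
  have hb := ctx.hb
  have hP := isPGroup_of_isDefectGroup ctx.hBP
  obtain ⟨D', hD'⟩ := exists_isDefectGroup (p := p) hMp hb
  obtain ⟨E, hE, hDE⟩ := Cfsg.Agent.S0917.result p M ctx.hM _ b hb B ctx.hB ctx.hind D' hD'
  have h2 := Cfsg.Agent.S0912.result p M ctx.hM b hb D' hD'
  have hnorm : (Subgroup.zpowers ctx.z).Normal := by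
    constructor
    intro u hu c
    obtain ⟨i, rfl⟩ := Subgroup.mem_zpowers_iff.1 hu
    have hc : Commute c (ctx.z ^ i) := Commute.zpow_right (ctx.hzc c).symm i
    rw [hc.eq, mul_inv_cancel_right]
    exact Subgroup.zpow_mem_zpowers _ i
  have hPz : IsPGroup p (Subgroup.zpowers ctx.z) := by
    apply IsPGroup.of_card (n := 1)
    rw [Nat.card_zpowers, ctx.hz, pow_one]
  have h3 : Subgroup.zpowers ctx.z ≤ pCore p ↥C := by
    apply le_sSup
    exact ⟨hnorm, hPz⟩
  have h4 : Subgroup.zpowers ctx.z ≤ D' := h3.trans h2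
  have hcard : Nat.card D' ≤ Nat.card (Subgroup.zpowers ctx.z) := by
    rw [Nat.card_zpowers, ctx.hz]
    have e1 : Nat.card (Subgroup.zpowers x) = p := d1_card_zpowers ctx.hx
    rw [← e1, card_of_isDefectGroup ctx.hM ctx.hB ctx.hBP, ← card_of_isDefectGroup ctx.hM ctx.hB hE,
      ← Subgroup.card_map_of_injective (Subgroup.subtype_injective _)]
    exact Subgroup.card_le_of_le hDE
  rw [Subgroup.eq_of_le_of_card_ge h4 hcard]
  exact hD'

theorem hker (ctx : D1Ctx p M x C b B θ) :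
    ∀ u ∈ Subgroup.zpowers ctx.z, (θ : C → ℂ) u = (θ : C → ℂ) 1 := by
  intro u hu
  rw [ctx.hzp, Subgroup.mem_subgroupOf] at hu
  exact ctx.hθP u hu

/-- members of `b` agree with `θ` on `p`-regular elements -/
theorem apply_pRegular (ctx : D1Ctx p M x C b B θ) {ξ : IrrCharacter C} (hξ : ξ ∈ b) {y : C}
    (hy : ¬ p ∣ orderOf y) : (ξ : C → ℂ) y = (θ : C → ℂ) y :=
  d1_apply_pRegular ctx.hM ctx.hzc ctx.hb ctx.hDb ctx.hθ ctx.hker hξ hy

end D1Ctx

end

end Cfsg.Agent.Lib.Helper8
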