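import Mathlib
import Cfsg.Prelude.Def_Blocks
import Cfsg.Prelude.Def_BlockRank
import Cfsg.Agent.Lib.Helper8.DO3

/-!
# Blocks of defect one: multiplicities and generalized decomposition numbers
-/

set_option autoImplicit false
set_option maxHeartbeats 800000
set_option linter.unusedSectionVars false

namespace Cfsg.Agent.Lib.Helper8

open Cfsg
open scoped ComplexConjugate
open Cfsg.Agent.Lib.Helper1 Cfsg.Agent.Lib.Helper4

universe u

section

variable {G : Type u} [Group G] [Fintype G] (C : Subgroup G) [Fintype C]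

/-- the multiplicity of `ξ` in the restriction of `χ` to `C` -/
noncomputable def d1m (χ : IrrCharacter G) (ξ : IrrCharacter C) : ℕ :=
  Classical.choose (exists_nat_restrict_mult C χ.2 ξ.2)

theorem d1m_spec (χ : IrrCharacter G) (ξ : IrrCharacter C) :
    classInner (fun c : C => (χ : G → ℂ) c) (ξ : C → ℂ) = (d1m C χ ξ : ℂ) :=
  Classical.choose_spec (exists_nat_restrict_mult C χ.2 ξ.2)

theorem d1_restrict_expansion [Fintype (IrrCharacter C)] (χ : IrrCharacter G) (c : C) :
    (χ : G → ℂ) c = ∑ ξ : IrrCharacter C, (d1m C χ ξ : ℂ) * (ξ : C → ℂ) c := by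
  have h1 := congrFun (class_function_expansion
    (fun c' : C => (χ : G → ℂ) c')
    (isClassFunction_restrict _ (isClassFunction_irr χ.2))) c
  rw [Finset.sum_apply] at h1
  rw [h1]
  refine Finset.sum_congr rfl fun ξ _ => ?_
  rw [Pi.smul_apply, smul_eq_mul, d1m_spec]

open Classical in
/-- the generalized decomposition number of `χ` at the central element `u` of `C`, with respect
to the set `b` -/
noncomputable def d1dEl [Fintype (IrrCharacter C)] (b : Set (IrrCharacter C))
    (χ : IrrCharacter G) (u : C) : ℂ :=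
  ∑ ξ : IrrCharacter C, if ξ ∈ b then (d1m C χ ξ : ℂ) * d1om u ξ else 0

variable {C}

theorem d1_section_expansion [Fintype (IrrCharacter C)] {u : C} (hu : ∀ c : C, u * c = c * u)
    (χ : IrrCharacter G) (c : C) :
    (χ : G → ℂ) ((u : G) * (c : G)) =
      ∑ ξ : IrrCharacter C, ((d1m C χ ξ : ℂ) * d1om u ξ) * (ξ : C → ℂ) c := by
  have h2 : (χ : G → ℂ) ((u : G) * (c : G)) = (χ : G → ℂ) ((u * c : C) : G) := rfl
  rw [h2, d1_restrict_expansion C χ (u * c)]
  refine Finset.sum_congr rfl fun ξ _ => ?_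
  rw [d1om_mul hu ξ c]
  ring

theorem d1_blockPart_section [Fintype (IrrCharacter C)] {u : C} (hu : ∀ c : C, u * c = c * u)
    (χ : IrrCharacter G) (e : Set (IrrCharacter C)) (y : C) :
    blockPart e (fun c : C => (χ : G → ℂ) ((u : G) * (c : G))) y =
      ∑ ξ : IrrCharacter C, ((d1m C χ ξ : ℂ) * d1om u ξ) *
        ((by classical exact if ξ ∈ e then (1 : ℂ) else 0) * (ξ : C → ℂ) y) := by
  classical
  have hf : (fun c : C => (χ : G → ℂ) ((u : G) * (c : G))) =
      fun c => ∑ ξ : IrrCharacter C, ((d1m C χ ξ : ℂ) * d1om u ξ) * (ξ : C → ℂ) c := by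
    funext c
    exact d1_section_expansion hu χ c
  rw [hf, blockPart_sum_mul Finset.univ e _
    (fun ξ : IrrCharacter C => (ξ : C → ℂ)) y]
  refine Finset.sum_congr rfl fun ξ _ => ?_
  rw [blockPart_irr]

end

section

variable {G : Type u} [Group G] [Fintype G] {M : Ideal AlgInt} {p : ℕ} [Fact p.Prime]
  {x : G} {C : Subgroup G} [Fintype C] {b : Set (IrrCharacter C)} {B : Set (IrrCharacter G)}
  {θ : IrrCharacter C}

namespace D1Ctx

theorem central_of_mem (ctx : D1Ctx p M x C b B θ) {u : C} (hu : u ∈ Subgroup.zpowers ctx.z)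
    (c : C) : u * c = c * u := by
  obtain ⟨i, rfl⟩ := Subgroup.mem_zpowers_iff.1 hu
  exact (Commute.zpow_left (show Commute ctx.z c from ctx.hzc c) i).eq

theorem d1om_z_pow (ctx : D1Ctx p M x C b B θ) (ξ : IrrCharacter C) (k : ℕ) :
    d1om (ctx.z ^ k) ξ = d1om ctx.z ξ ^ k := by
  unfold d1om
  rw [d1om_pow_apply ctx.hzc ξ k]
  unfold d1om
  field_simp [irr_apply_one_ne_zero ξ.2]

/-- the `b`-part of the section function of `χ` at `u`, on `p`-regular elements -/
theorem blockPart_b (ctx : D1Ctx p M x C b B θ) [Fintype (IrrCharacter C)] {u : C}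
    (hu : u ∈ Subgroup.zpowers ctx.z) (χ : IrrCharacter G) {y : C} (hy : ¬ p ∣ orderOf y) :
    blockPart b (fun c : C => (χ : G → ℂ) ((u : G) * (c : G))) y =
      d1dEl C b χ u * (θ : C → ℂ) y := by
  classical
  rw [d1_blockPart_section (ctx.central_of_mem hu) χ b y]
  unfold d1dEl
  rw [Finset.sum_mul]
  refine Finset.sum_congr rfl fun ξ _ => ?_
  by_cases hξ : ξ ∈ b
  · have : (by classical exact if ξ ∈ b then (1 : ℂ) else 0) = (1 : ℂ) := by
      simp only [hξ, if_true]
    rw [this, if_pos hξ, one_mul, ctx.apply_pRegular hξ hy]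
  · have : (by classical exact if ξ ∈ b then (1 : ℂ) else 0) = (0 : ℂ) := by
      simp only [hξ, if_false]
    rw [this, if_neg hξ]
    simp

/-- **Second main theorem**: the generalized decomposition numbers of characters outside `B`
vanish. -/
theorem dEl_eq_zero (ctx : D1Ctx p M x C b B θ) [Fintype (IrrCharacter C)] {u : C}
    (hu : u ∈ Subgroup.zpowers ctx.z) (hu1 : u ≠ 1) {χ : IrrCharacter G} (hχ : χ ∉ B) :
    d1dEl C b χ u = 0 := by
  have hone : ¬ p ∣ orderOf (1 : C) := not_dvd_orderOf_one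
  have huG : (u : G) ∈ Subgroup.zpowers x := by
    have := hu
    rw [ctx.hzp, Subgroup.mem_subgroupOf] at this
    exact this
  have huG1 : (u : G) ≠ 1 := fun h => hu1 (Subtype.ext h)
  have hCu : ∀ t, t ∈ C ↔ t * (u : G) = (u : G) * t := by
    intro t
    rw [ctx.hC t]
    exact (d1_comm_iff ctx.hx huG huG1 t).symm
  have huord : ∃ k : ℕ, orderOf (u : G) = p ^ k := by
    obtain ⟨i, hi⟩ := Subgroup.mem_zpowers_iff.1 huG
    have hfin : IsOfFinOrder x := isOfFinOrder_of_finite x
    have h2 := huG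
    rw [← hfin.mem_powers_iff_mem_zpowers] at h2
    obtain ⟨k, hk⟩ := (Submonoid.mem_powers_iff _ _).1 h2
    rw [← hk]
    exact ctx.hxk k
  have h1 := blockPart_section_eq_zero ctx.hM C hCu huord ctx.hind hχ hone
  rw [ctx.blockPart_b hu χ hone] at h1
  rcases mul_eq_zero.1 h1 with h | h
  · exact h
  · exact absurd h (irr_apply_one_ne_zero θ.2)

end D1Ctx

end

end Cfsg.Agent.Lib.Helper8
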