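import Mathlib
import Cfsg.Prelude.Def_Blocks
import Cfsg.Prelude.Def_BlockRank
import Cfsg.Agent.Lib.Helper8.DO4
import Cfsg.Agent.Lib.Helper8.CA8
import Cfsg.Agent.Lib.Helper8.BlockNormalTrace2

/-!
# Blocks of defect one: the action of the normalizer
-/

set_option autoImplicit false
set_option maxHeartbeats 800000
set_option linter.unusedSectionVars false

namespace Cfsg.Agent.Lib.Helper8

open Cfsg
open scoped ComplexConjugate
open Cfsg.Agent.Lib.Helper1 Cfsg.Agent.Lib.Helper4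

universe u

section

variable {G : Type u} [Group G] [Fintype G] (C : Subgroup G) [Fintype C]

/-- multiplicities are invariant under conjugation -/
theorem d1m_conjIrr (n : G) (hn : n ∈ Subgroup.normalizer (C : Set G)) (χ : IrrCharacter G)
    (ξ : IrrCharacter C) : d1m C χ (conjIrr C n hn ξ) = d1m C χ ξ := by
  apply Nat.cast_injective (R := ℂ)
  rw [← d1m_spec, ← d1m_spec]
  have h1 := classInner_comp_mulEquiv_aux (conjAutOn C n hn).symm
    (fun c : C => (χ : G → ℂ) c) (ξ : C → ℂ)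
  rw [← h1]
  congr 1
  funext c
  rw [conjAutOn_symm_apply_coe]
  have h2 := isClassFunction_irr χ.2 (c : G) n⁻¹
  rw [inv_inv] at h2
  exact h2.symm

theorem d1om_conjIrr (n : G) (hn : n ∈ Subgroup.normalizer (C : Set G)) (ξ : IrrCharacter C)
    (u : C) : d1om u (conjIrr C n hn ξ) = d1om ((conjAutOn C n hn).symm u) ξ := by
  unfold d1om
  rw [conjIrr_apply, conjIrr_apply, map_one]

end

section

variable {G : Type u} [Group G] [Fintype G] {M : Ideal AlgInt} {p : ℕ} [Fact p.Prime]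
  {x : G} {C : Subgroup G} [Fintype C] {b : Set (IrrCharacter C)} {B : Set (IrrCharacter G)}
  {θ : IrrCharacter C}

namespace D1Ctx

theorem mem_zpowers_z_iff (ctx : D1Ctx p M x C b B θ) (u : C) :
    u ∈ Subgroup.zpowers ctx.z ↔ (u : G) ∈ Subgroup.zpowers x := by
  rw [ctx.hzp, Subgroup.mem_subgroupOf]

/-- conjugation by an element of the normalizer preserves `⟨z⟩` -/
theorem conj_mem_zpowers (ctx : D1Ctx p M x C b B θ) {n : G} (hn : n ∈ mrN x) {u : C}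
    (hu : u ∈ Subgroup.zpowers ctx.z) :
    (conjAutOn C n (ctx.hNC hn)).symm u ∈ Subgroup.zpowers ctx.z := by
  rw [ctx.mem_zpowers_z_iff] at hu ⊢
  rw [conjAutOn_symm_apply_coe]
  have hninv : n⁻¹ ∈ mrN x := Subgroup.inv_mem _ hn
  have := (Subgroup.mem_normalizer_iff.1 hninv (u : G)).1 hu
  rwa [inv_inv] at this

theorem conj_ne_one (ctx : D1Ctx p M x C b B θ) {n : G} (hn : n ∈ mrN x) {u : C}
    (hu1 : u ≠ 1) : (conjAutOn C n (ctx.hNC hn)).symm u ≠ 1 := by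
  intro h
  apply hu1
  have := congrArg (conjAutOn C n (ctx.hNC hn)) h
  rwa [MulEquiv.apply_symm_apply, map_one] at this

/-- the conjugate of the canonical character is trivial on `⟨z⟩` -/
theorem conj_canonical (ctx : D1Ctx p M x C b B θ) {n : G} (hn : n ∈ mrN x) :
    ∀ u ∈ Subgroup.zpowers ctx.z, (conjIrr C n (ctx.hNC hn) θ : C → ℂ) u =
      (conjIrr C n (ctx.hNC hn) θ : C → ℂ) 1 := by
  intro u hu
  rw [conjIrr_apply, conjIrr_apply, map_one]
  exact ctx.hker _ (ctx.conj_mem_zpowers hn hu)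

/-- the stabilizer of `θ` in the normalizer -/
def T (ctx : D1Ctx p M x C b B θ) : Subgroup G where
  carrier := {n | ∃ hn : n ∈ mrN x, conjIrr C n (ctx.hNC hn) θ = θ}
  mul_mem' := by
    rintro a c ⟨ha, ha'⟩ ⟨hc, hc'⟩
    refine ⟨Subgroup.mul_mem _ ha hc, ?_⟩
    have := conjIrr_mul C a c (ctx.hNC ha) (ctx.hNC hc) θ
    rw [hc', ha'] at this
    exact this
  one_mem' := ⟨Subgroup.one_mem _, conjIrr_one C θ⟩
  inv_mem' := by
    rintro a ⟨ha, ha'⟩
    refine ⟨Subgroup.inv_mem _ ha, ?_⟩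
    have := conjIrr_inv_conjIrr C a (ctx.hNC ha) θ
    rw [ha'] at this
    exact this

theorem mem_T (ctx : D1Ctx p M x C b B θ) {n : G} :
    n ∈ ctx.T ↔ ∃ hn : n ∈ mrN x, conjIrr C n (ctx.hNC hn) θ = θ := Iff.rfl

theorem T_le_N (ctx : D1Ctx p M x C b B θ) : ctx.T ≤ mrN x := fun _ h => h.1

theorem C_le_T (ctx : D1Ctx p M x C b B θ) : C ≤ ctx.T := by
  intro c hc
  exact ⟨ctx.hCN hc, conjIrr_of_mem C c hc θ⟩

/-- stabilizing the block is the same as stabilizing its canonical character -/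
theorem conj_block_eq_iff (ctx : D1Ctx p M x C b B θ) {n : G} (hn : n ∈ mrN x) :
    conjIrr C n (ctx.hNC hn) '' b = b ↔ conjIrr C n (ctx.hNC hn) θ = θ := by
  constructor
  · intro h
    have h1 : conjIrr C n (ctx.hNC hn) θ ∈ b := (Set.ext_iff.1 h _).1 ⟨θ, ctx.hθ, rfl⟩
    apply d1om_injOn ctx.hM ctx.hzc ctx.hb ctx.hDb h1 ctx.hθ
    rw [d1om_canonical (ctx.conj_canonical hn), d1om_canonical ctx.hker]
  · intro h
    have hb' := isPBlock_image_conjIrr (M := M) C n (ctx.hNC hn) ctx.hb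
    have h1 : θ ∈ conjIrr C n (ctx.hNC hn) '' b := ⟨θ, ctx.hθ, h⟩
    rw [eq_blockOf_of_mem ctx.hMp hb' h1, ← eq_blockOf_of_mem ctx.hMp ctx.hb ctx.hθ]

theorem mem_T_of_conj (ctx : D1Ctx p M x C b B θ) {n : G} (hn : n ∈ mrN x)
    {ξ ξ' : IrrCharacter C} (hξ : ξ ∈ b) (hξ' : ξ' ∈ b)
    (h : conjIrr C n (ctx.hNC hn) ξ' = ξ) : n ∈ ctx.T := by
  refine ⟨hn, (ctx.conj_block_eq_iff hn).1 ?_⟩
  have hb' := isPBlock_image_conjIrr (M := M) C n (ctx.hNC hn) ctx.hb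
  have h1 : ξ ∈ conjIrr C n (ctx.hNC hn) '' b := ⟨ξ', hξ', h⟩
  rw [eq_blockOf_of_mem ctx.hMp hb' h1, ← eq_blockOf_of_mem ctx.hMp ctx.hb hξ]

theorem conj_mem_b (ctx : D1Ctx p M x C b B θ) {n : G} (hn : n ∈ ctx.T)
    {ξ : IrrCharacter C} (hξ : ξ ∈ b) : conjIrr C n (ctx.hNC hn.1) ξ ∈ b := by
  have h1 := (ctx.conj_block_eq_iff hn.1).2 hn.2
  exact (Set.ext_iff.1 h1 _).1 ⟨ξ, hξ, rfl⟩

/-- a non-canonical member of `b` is fixed only by the elements of `C` -/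
theorem mem_C_of_fix (ctx : D1Ctx p M x C b B θ) {n : G} (hn : n ∈ mrN x)
    {ξ : IrrCharacter C} (hξ : ξ ∈ b) (hne : ξ ≠ θ)
    (h : conjIrr C n (ctx.hNC hn) ξ = ξ) : n ∈ C := by
  have hp : p.Prime := Fact.out
  have hprim := d1om_isPrimitiveRoot ctx.hM ctx.hzc ctx.hz ctx.hb ctx.hDb ctx.hθ ctx.hker hξ hne
  have h1 := d1om_conjIrr C n (ctx.hNC hn) ξ ctx.z
  rw [h] at h1
  -- `σ⁻¹ z` is a power of `z`
  have h2 := ctx.conj_mem_zpowers hn (Subgroup.mem_zpowers ctx.z)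
  have hfin : IsOfFinOrder ctx.z := isOfFinOrder_of_finite _
  rw [← hfin.mem_powers_iff_mem_zpowers] at h2
  obtain ⟨a, ha⟩ := (Submonoid.mem_powers_iff _ _).1 h2
  rw [← ha, ctx.d1om_z_pow] at h1
  -- so `a ≡ 1`
  have h3 : d1om ctx.z ξ ^ a = d1om ctx.z ξ ^ 1 := by rw [pow_one]; exact h1.symm
  have hord : orderOf (d1om ctx.z ξ) = p := hprim.eq_orderOf.symm
  have h4 : a ≡ 1 [MOD p] := by
    have e1 : d1om ctx.z ξ ^ (a % p) = d1om ctx.z ξ ^ (1 % p) := by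
      have e2 := pow_mod_orderOf (d1om ctx.z ξ) a
      have e3 := pow_mod_orderOf (d1om ctx.z ξ) 1
      rw [hord] at e2 e3
      rw [e2, e3, h3]
    exact hprim.pow_inj (Nat.mod_lt _ hp.pos) (Nat.mod_lt _ hp.pos) e1
  have h5 : ctx.z ^ a = ctx.z ^ 1 := by
    rw [pow_eq_pow_iff_modEq, ctx.hz]
    exact h4
  rw [pow_one] at h5
  rw [h5] at ha
  -- `n⁻¹ x n = x`
  have h6 := congrArg (Subtype.val) ha
  rw [conjAutOn_symm_apply_coe, coe_z] at h6
  rw [ctx.hC]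
  calc n * x = n * (n⁻¹ * x * n) := by rw [← h6]
    _ = x * n := by group

theorem hCsup (ctx : D1Ctx p M x C b B θ) :
    C = Subgroup.zpowers x ⊔ Subgroup.centralizer ((Subgroup.zpowers x : Subgroup G) : Set G) := by
  rw [← centralizer_singleton_eq_sup]
  ext t
  rw [ctx.hC, Subgroup.mem_centralizer_singleton_iff]

/-- blocks of `C` inducing `B` are conjugate to `b` under the normalizer -/
theorem exists_conj_of_induced (ctx : D1Ctx p M x C b B θ) {b' : Set (IrrCharacter C)}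
    (hind' : IsInducedBlock M C b' B) :
    ∃ (n : G) (hn : n ∈ mrN x), b' = conjIrr C n (ctx.hNC hn) '' b := by
  obtain ⟨t, ht, htn, hb'⟩ := extFirstMain_conj' ctx.hM ctx.hB ctx.hBP C ctx.hCsup ctx.hind hind'
  exact ⟨t, ht, hb'⟩

end D1Ctx

end

end Cfsg.Agent.Lib.Helper8
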