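import Mathlib
import Cfsg.Prelude.Def_Blocks
import Cfsg.Prelude.Def_BlockRank
import Cfsg.Agent.Lib.Helper8.DO5

/-!
# Blocks of defect one: the values on `p`-singular elements (second main theorem)
-/

set_option autoImplicit false
set_option maxHeartbeats 800000
set_option linter.unusedSectionVars false

namespace Cfsg.Agent.Lib.Helper8

open Cfsg
open scoped ComplexConjugate
open Cfsg.Agent.Lib.Helper1 Cfsg.Agent.Lib.Helper4

universe u

section

variable {G : Type u} [Group G] [Fintype G] (C : Subgroup G) [Fintype C]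

/-- conjugation as a permutation of the irreducible characters -/
noncomputable def conjIrrEquiv (n : G) (hn : n ∈ Subgroup.normalizer (C : Set G)) :
    IrrCharacter C ≃ IrrCharacter C where
  toFun := conjIrr C n hn
  invFun := conjIrr C n⁻¹ (Subgroup.inv_mem _ hn)
  left_inv := conjIrr_inv_conjIrr C n hn
  right_inv := conjIrr_conjIrr_inv C n hn

@[simp] theorem conjIrrEquiv_apply (n : G) (hn : n ∈ Subgroup.normalizer (C : Set G))
    (ξ : IrrCharacter C) : conjIrrEquiv C n hn ξ = conjIrr C n hn ξ := rfl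

/-- induced blocks are defined for blocks of the centralizer of a `p`-element -/
theorem inducedBlockDefined_of_comm {M : Ideal AlgInt} {p : ℕ} (hM : IsPModular p M) {u : G}
    (hC : ∀ t, t ∈ C ↔ t * u = u * t) (hu : ∃ k : ℕ, orderOf u = p ^ k)
    {e : Set (IrrCharacter C)} (he : IsPBlock M e) : InducedBlockDefined M C e := by
  have hCeq : C = Subgroup.centralizer ({u} : Set G) := by
    ext t
    rw [hC, Subgroup.mem_centralizer_singleton_iff]
  subst hCeq
  exact inducedBlockDefined_centralizer hM hu he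

theorem orderOf_conjAutOn_symm (n : G) (hn : n ∈ Subgroup.normalizer (C : Set G)) (y : C) :
    orderOf ((conjAutOn C n hn).symm y) = orderOf y :=
  MulEquiv.orderOf_eq (conjAutOn C n hn).symm y

end

section

variable {G : Type u} [Group G] [Fintype G] {M : Ideal AlgInt} {p : ℕ} [Fact p.Prime]
  {x : G} {C : Subgroup G} [Fintype C] {b : Set (IrrCharacter C)} {B : Set (IrrCharacter G)}
  {θ : IrrCharacter C}

namespace D1Ctx

/-- the part of the section function belonging to a conjugate of `b` -/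
theorem blockPart_conj (ctx : D1Ctx p M x C b B θ) [Fintype (IrrCharacter C)] {n : G}
    (hn : n ∈ mrN x) {u : C} (hu : u ∈ Subgroup.zpowers ctx.z) (χ : IrrCharacter G) {y : C}
    (hy : ¬ p ∣ orderOf y) :
    blockPart (conjIrr C n (ctx.hNC hn) '' b) (fun c : C => (χ : G → ℂ) ((u : G) * (c : G))) y =
      d1dEl C b χ ((conjAutOn C n (ctx.hNC hn)).symm u) *
        (θ : C → ℂ) ((conjAutOn C n (ctx.hNC hn)).symm y) := by
  classical
  rw [d1_blockPart_section (ctx.central_of_mem hu) χ _ y]
  rw [← (conjIrrEquiv C n (ctx.hNC hn)).sum_comp]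
  unfold d1dEl
  rw [Finset.sum_mul]
  refine Finset.sum_congr rfl fun ξ _ => ?_
  rw [conjIrrEquiv_apply, d1m_conjIrr, d1om_conjIrr, conjIrr_apply]
  have hy' : ¬ p ∣ orderOf ((conjAutOn C n (ctx.hNC hn)).symm y) := by
    rw [orderOf_conjAutOn_symm]
    exact hy
  by_cases hξ : ξ ∈ b
  · have hmem : conjIrr C n (ctx.hNC hn) ξ ∈ conjIrr C n (ctx.hNC hn) '' b := ⟨ξ, hξ, rfl⟩
    have : (by classical exact if conjIrr C n (ctx.hNC hn) ξ ∈ conjIrr C n (ctx.hNC hn) '' b
        then (1 : ℂ) else 0) = (1 : ℂ) := by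
      simp only [hmem, if_true]
    rw [this, if_pos hξ, one_mul, ctx.apply_pRegular hξ hy']
  · have hmem : conjIrr C n (ctx.hNC hn) ξ ∉ conjIrr C n (ctx.hNC hn) '' b := by
      rintro ⟨ξ', hξ', h⟩
      apply hξ
      rw [← conjIrr_injective C n (ctx.hNC hn) h]
      exact hξ'
    have : (by classical exact if conjIrr C n (ctx.hNC hn) ξ ∈ conjIrr C n (ctx.hNC hn) '' b
        then (1 : ℂ) else 0) = (0 : ℂ) := by
      simp only [hmem, if_false]
    rw [this, if_neg hξ]
    simp

/-- the number of elements of the normalizer carrying `b` to a given conjugate -/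
theorem card_conj_eq (ctx : D1Ctx p M x C b B θ) [DecidableEq (Set (IrrCharacter C))]
    [Fintype (mrN x)] (n₀ : mrN x) :
    (Finset.univ.filter (fun n : mrN x => conjIrr C (n : G) (ctx.hNC n.2) '' b =
      conjIrr C (n₀ : G) (ctx.hNC n₀.2) '' b)).card = Nat.card ctx.T := by
  classical
  have : Fintype ctx.T := Fintype.ofFinite _
  rw [Nat.card_eq_fintype_card, ← Finset.card_univ]
  symm
  apply Finset.card_bij (fun (t : ctx.T) _ => n₀ * ⟨(t : G), ctx.T_le_N t.2⟩)
  · intro t _
    rw [Finset.mem_filter]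
    refine ⟨Finset.mem_univ _, ?_⟩
    have h1 := conjIrr_image_mul C b (n₀ : G) (t : G) (ctx.hNC n₀.2) (ctx.hNC (ctx.T_le_N t.2))
    have h2 := (ctx.conj_block_eq_iff (ctx.T_le_N t.2)).2 t.2.2
    rw [h2] at h1
    exact h1
  · intro t₁ _ t₂ _ h
    apply Subtype.ext
    have := mul_left_cancel h
    exact congrArg (fun m : mrN x => (m : G)) this
  · intro n hn
    rw [Finset.mem_filter] at hn
    have hmemN : (n₀ : G)⁻¹ * (n : G) ∈ mrN x :=
      Subgroup.mul_mem _ (Subgroup.inv_mem _ n₀.2) n.2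
    have hmem : (n₀ : G)⁻¹ * (n : G) ∈ ctx.T := by
      refine ⟨hmemN, (ctx.conj_block_eq_iff hmemN).1 ?_⟩
      have h1 := conjIrr_image_mul C b (n₀ : G)⁻¹ (n : G)
        (Subgroup.inv_mem _ (ctx.hNC n₀.2)) (ctx.hNC n.2)
      rw [hn.2, conjIrr_image_inv_image] at h1
      exact h1
    refine ⟨⟨(n₀ : G)⁻¹ * (n : G), hmem⟩, Finset.mem_univ _, ?_⟩
    apply Subtype.ext
    simp

/-- **The values on `p`-singular elements**: for `χ ∈ B`, `u` a nontrivial power of `x` and `y`
a `p`-regular element of `C`. -/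
theorem card_T_mul_apply (ctx : D1Ctx p M x C b B θ) [Fintype (IrrCharacter C)]
    [Fintype (mrN x)] {u : C}
    (hu : u ∈ Subgroup.zpowers ctx.z) (hu1 : u ≠ 1) {χ : IrrCharacter G} (hχ : χ ∈ B) {y : C}
    (hy : ¬ p ∣ orderOf y) :
    (Nat.card ctx.T : ℂ) * (χ : G → ℂ) ((u : G) * (y : G)) =
      ∑ n : mrN x, d1dEl C b χ ((conjAutOn C (n : G) (ctx.hNC n.2)).symm u) *
        (θ : C → ℂ) ((conjAutOn C (n : G) (ctx.hNC n.2)).symm y) := by
  classical
  have hMp := ctx.hMp
  have huG : (u : G) ∈ Subgroup.zpowers x := (ctx.mem_zpowers_z_iff u).1 hu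
  have huG1 : (u : G) ≠ 1 := fun h => hu1 (Subtype.ext h)
  have hCu : ∀ t, t ∈ C ↔ t * (u : G) = (u : G) * t := by
    intro t
    rw [ctx.hC t]
    exact (d1_comm_iff ctx.hx huG huG1 t).symm
  have huord : ∃ k : ℕ, orderOf (u : G) = p ^ k := by
    have hfin : IsOfFinOrder x := isOfFinOrder_of_finite x
    have h2 := huG
    rw [← hfin.mem_powers_iff_mem_zpowers] at h2
    obtain ⟨k, hk⟩ := (Submonoid.mem_powers_iff _ _).1 h2
    rw [← hk]
    exact ctx.hxk k
  set F : C → ℂ := fun c : C => (χ : G → ℂ) ((u : G) * (c : G)) with hF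
  have hcf : IsClassFunction C F := isClassFunction_section C hCu (isClassFunction_irr χ.2)
  have hsum := sum_blocks_blockPart (M := M) hMp hcf y
  -- the sum over the normalizer
  have h1 : ∑ n : mrN x, blockPart (conjIrr C (n : G) (ctx.hNC n.2) '' b) F y =
      ∑ e ∈ blocksFinset M C, (Nat.card ctx.T : ℂ) * blockPart e F y := by
    have hmaps : ∀ n ∈ (Finset.univ : Finset (mrN x)),
        conjIrr C (n : G) (ctx.hNC n.2) '' b ∈ blocksFinset M C := by
      intro n _
      rw [mem_blocksFinset]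
      exact isPBlock_image_conjIrr C _ _ ctx.hb
    rw [← Finset.sum_fiberwise_of_maps_to hmaps]
    refine Finset.sum_congr rfl fun e he => ?_
    rw [mem_blocksFinset] at he
    by_cases hex : ∃ n₀ : mrN x, conjIrr C (n₀ : G) (ctx.hNC n₀.2) '' b = e
    · obtain ⟨n₀, rfl⟩ := hex
      rw [Finset.sum_congr rfl (g := fun _ => blockPart (conjIrr C (n₀ : G) (ctx.hNC n₀.2) '' b) F y)]
      · rw [Finset.sum_const, ctx.card_conj_eq n₀, nsmul_eq_mul]
      · intro n hn
        rw [(Finset.mem_filter.1 hn).2]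
    · rw [Finset.sum_eq_zero]
      · obtain ⟨B', hind'⟩ := inducedBlockDefined_of_comm C ctx.hM hCu huord he
        have hχB' : χ ∉ B' := by
          intro hχB'
          apply hex
          have hB'eq : B' = B := by
            rw [eq_blockOf_of_mem hMp hind'.2.1 hχB', eq_blockOf_of_mem hMp ctx.hB hχ]
          rw [hB'eq] at hind'
          obtain ⟨n, hn, hb'⟩ := ctx.exists_conj_of_induced hind'
          exact ⟨⟨n, hn⟩, hb'.symm⟩
        rw [blockPart_section_eq_zero ctx.hM C hCu huord hind' hχB' hy, mul_zero]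
      · intro n hn
        exact absurd ⟨n, (Finset.mem_filter.1 hn).2⟩ hex
  rw [← Finset.mul_sum, hsum] at h1
  rw [← h1]
  refine Finset.sum_congr rfl fun n _ => ?_
  exact ctx.blockPart_conj n.2 hu χ hy

end D1Ctx

end

end Cfsg.Agent.Lib.Helper8
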