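import Mathlib
import Cfsg.Prelude.Def_Blocks
import Cfsg.Prelude.Def_BlockRank
import Cfsg.Agent.Lib.Helper8.DO6
import Cfsg.Agent.S0146

/-!
# Blocks of defect one: induction from the centralizer of functions vanishing on the
`p`-regular elements
-/

set_option autoImplicit false
set_option maxHeartbeats 800000
set_option linter.unusedSectionVars false

namespace Cfsg.Agent.Lib.Helper8

open Cfsg
open scoped ComplexConjugate
open Cfsg.Agent.Lib.Helper1 Cfsg.Agent.Lib.Helper4

universe u

section

variable {G : Type u} [Group G] [Fintype G] {M : Ideal AlgInt} {p : ℕ} [Fact p.Prime]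
  {x : G} {C : Subgroup G} [Fintype C] {b : Set (IrrCharacter C)} {B : Set (IrrCharacter G)}
  {θ : IrrCharacter C}

omit [Fintype G] in
theorem d1_orderOf_conj (g u : G) : orderOf (g⁻¹ * u * g) = orderOf u := by
  have := MulEquiv.orderOf_eq (MulAut.conj g⁻¹) u
  simpa [MulAut.conj_apply] using this

namespace D1Ctx

/-- an element conjugating a `p`-singular element of `C` into `C` normalizes `⟨x⟩` -/
theorem mem_N_of_conj_mem (ctx : D1Ctx p M x C b B θ) {c : C} (hc : p ∣ orderOf c) {g : G}
    (hg : g⁻¹ * (c : G) * g ∈ C) : g ∈ mrN x := by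
  have hcG : p ∣ orderOf (c : G) := by
    rw [Subgroup.orderOf_coe]
    exact hc
  obtain ⟨u, y, -, hu, hu1, -, -, ⟨a, hua⟩, -⟩ :=
    d1_decomp ctx.hx ctx.hsq ((ctx.hC c).1 c.2) hcG
  -- `g⁻¹ u g` is a power of `g⁻¹ c g`
  have h1 : g⁻¹ * u * g = (g⁻¹ * (c : G) * g) ^ a := by
    rw [hua]
    have := conj_zpow (a := g⁻¹) (b := (c : G)) (i := a)
    simpa using this.symm
  have h2 : g⁻¹ * u * g ∈ C := by
    rw [h1]
    exact C.zpow_mem hg a
  have h3 : ∃ k : ℕ, orderOf (g⁻¹ * u * g) = p ^ k := by
    rw [d1_orderOf_conj]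
    have hfin : IsOfFinOrder x := isOfFinOrder_of_finite x
    have hu' := hu
    rw [← hfin.mem_powers_iff_mem_zpowers] at hu'
    obtain ⟨k, hk⟩ := (Submonoid.mem_powers_iff _ _).1 hu'
    rw [← hk]
    exact ctx.hxk k
  have h4 := d1_mem_zpowers ctx.hx ctx.hsq h3 ((ctx.hC _).1 h2)
  exact d1_mem_normalizer ctx.hx hu hu1 h4

/-- the induced function at a `p`-singular element of `C` -/
theorem indFun_apply_singular (ctx : D1Ctx p M x C b B θ) [Fintype (mrN x)] (β : C → ℂ) {c : C}
    (hc : p ∣ orderOf c) :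
    indFun C β (c : G) = (Nat.card C : ℂ)⁻¹ *
      ∑ n : mrN x, β ((conjAutOn C (n : G) (ctx.hNC n.2)).symm c) := by
  classical
  rw [indFun_apply]
  congr 1
  have h1 : ∑ g : G, extendByZero C β (g⁻¹ * (c : G) * g) =
      ∑ g ∈ Finset.univ.filter (fun g : G => g ∈ mrN x), extendByZero C β (g⁻¹ * (c : G) * g) := by
    symm
    apply Finset.sum_subset (Finset.filter_subset _ _)
    intro g _ hg
    rw [Finset.mem_filter] at hg
    apply extendByZero_of_notMem
    intro hmem
    exact hg ⟨Finset.mem_univ _, ctx.mem_N_of_conj_mem hc hmem⟩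
  rw [h1, Finset.sum_subtype (p := fun g : G => g ∈ mrN x)
    (Finset.univ.filter (fun g : G => g ∈ mrN x)) (by simp)
    (fun g => extendByZero C β (g⁻¹ * (c : G) * g))]
  refine Finset.sum_congr rfl fun n _ => ?_
  have hmem : (n : G)⁻¹ * (c : G) * (n : G) ∈ C :=
    ((conjAutOn C (n : G) (ctx.hNC n.2)).symm c).2
  rw [extendByZero_of_mem C β hmem]
  rfl

/-- **Induction formula**: the inner product of two functions induced from `C`, the first one
vanishing on the `p`-regular elements. -/
theorem classInner_indFun (ctx : D1Ctx p M x C b B θ) [Fintype (mrN x)] (α β : C → ℂ)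
    (hα : ∀ y : C, ¬ p ∣ orderOf y → α y = 0) :
    classInner (indFun C α) (indFun C β) = (Nat.card C : ℂ)⁻¹ *
      ∑ n : mrN x, classInner α
        (fun c : C => β ((conjAutOn C (n : G) (ctx.hNC n.2)).symm c)) := by
  classical
  rw [Cfsg.Agent.S0146.result C α _ (indFun_isClassFunction C β)]
  have h1 : classInner α (fun h : C => indFun C β (h : G)) =
      classInner α ((Nat.card C : ℂ)⁻¹ • ∑ n : mrN x,
        (fun c : C => β ((conjAutOn C (n : G) (ctx.hNC n.2)).symm c))) := by
    rw [classInner_def, classInner_def]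
    congr 1
    refine Finset.sum_congr rfl fun c _ => ?_
    by_cases hc : p ∣ orderOf c
    · rw [ctx.indFun_apply_singular β hc]
      simp only [Pi.smul_apply, Finset.sum_apply, smul_eq_mul]
    · rw [hα c hc, zero_mul, zero_mul]
  rw [h1, classInner_smul_right, classInner_sum_right, map_inv₀, Complex.conj_natCast]

/-- the induced function vanishes on the `p`-regular elements -/
theorem indFun_apply_regular (α : C → ℂ) (hα : ∀ y : C, ¬ p ∣ orderOf y → α y = 0) {g : G}
    (hg : ¬ p ∣ orderOf g) : indFun C α g = 0 := by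
  rw [indFun_apply]
  have : ∀ t : G, extendByZero C α (t⁻¹ * g * t) = 0 := by
    intro t
    by_cases hmem : t⁻¹ * g * t ∈ C
    · rw [extendByZero_of_mem C α hmem]
      apply hα
      rw [← Subgroup.orderOf_coe]
      show ¬ p ∣ orderOf (t⁻¹ * g * t)
      rw [d1_orderOf_conj]
      exact hg
    · exact extendByZero_of_notMem C α hmem
  simp [this]

end D1Ctx

end

end Cfsg.Agent.Lib.Helper8
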