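import Mathlib
import Cfsg.Prelude.Def_Blocks
import Cfsg.Prelude.Def_BlockRank
import Cfsg.Agent.Lib.Helper8.DO7

/-!
# Blocks of defect one: the Gram matrix of the multiplicity vectors
-/

set_option autoImplicit false
set_option maxHeartbeats 800000
set_option linter.unusedSectionVars false

namespace Cfsg.Agent.Lib.Helper8

open Cfsg
open scoped ComplexConjugate
open Cfsg.Agent.Lib.Helper1 Cfsg.Agent.Lib.Helper4

universe u

section

variable {G : Type u} [Group G] [Fintype G]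

/-- Parseval for combinations of irreducible characters -/
theorem d1_classInner_sum_smul [Fintype (IrrCharacter G)] (a c : IrrCharacter G → ℂ) :
    classInner (∑ χ : IrrCharacter G, a χ • (χ : G → ℂ)) (∑ χ : IrrCharacter G, c χ • (χ : G → ℂ)) =
      ∑ χ : IrrCharacter G, a χ * conj (c χ) := by
  classical
  rw [classInner_sum_left]
  refine Finset.sum_congr rfl fun χ _ => ?_
  rw [classInner_smul_left, classInner_sum_right, Finset.sum_eq_single χ]
  · rw [classInner_smul_right, classInner_irr_self χ.2, mul_one]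
  · intro ψ _ hne
    rw [classInner_smul_right, classInner_irr_ne χ.2 ψ.2 (fun h => hne (Subtype.ext h).symm),
      mul_zero]
  · intro h
    exact absurd (Finset.mem_univ χ) h

end

section

variable {G : Type u} [Group G] [Fintype G] {M : Ideal AlgInt} {p : ℕ} [Fact p.Prime]
  {x : G} {C : Subgroup G} [Fintype C] {b : Set (IrrCharacter C)} {B : Set (IrrCharacter G)}
  {θ : IrrCharacter C}

namespace D1Ctx

/-- the multiplicity vector of `ξ` relative to the canonical character -/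
noncomputable def V (_ctx : D1Ctx p M x C b B θ) (ξ : IrrCharacter C) (χ : IrrCharacter G) : ℤ :=
  (d1m C χ ξ : ℤ) - (d1m C χ θ : ℤ)

/-- the inertial index -/
noncomputable def e (ctx : D1Ctx p M x C b B θ) : ℕ := C.relIndex ctx.T

theorem card_T (ctx : D1Ctx p M x C b B θ) : Nat.card ctx.T = Nat.card C * ctx.e := by
  have h1 := Subgroup.relIndex_mul_relIndex (⊥ : Subgroup G) C ctx.T bot_le ctx.C_le_T
  rw [Subgroup.relIndex_bot_left, Subgroup.relIndex_bot_left] at h1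
  exact h1.symm

theorem e_pos (ctx : D1Ctx p M x C b B θ) : 0 < ctx.e := by
  have h1 := ctx.card_T
  have h2 : 0 < Nat.card ctx.T := Nat.card_pos
  rw [h1] at h2
  exact Nat.pos_of_mul_pos_left h2

/-- conjugacy of characters of `C` under the normalizer -/
def Rel (ctx : D1Ctx p M x C b B θ) (ξ ξ' : IrrCharacter C) : Prop :=
  ∃ (n : G) (hn : n ∈ mrN x), conjIrr C n (ctx.hNC hn) ξ' = ξ

/-- the induced function of `ξ - θ` in terms of the multiplicity vector -/
theorem indFun_sub (ctx : D1Ctx p M x C b B θ) [Fintype (IrrCharacter G)] (ξ : IrrCharacter C) :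
    indFun C ((ξ : C → ℂ) - (θ : C → ℂ)) =
      ∑ χ : IrrCharacter G, ((ctx.V ξ χ : ℤ) : ℂ) • (χ : G → ℂ) := by
  have h1 := class_function_expansion (indFun C ((ξ : C → ℂ) - (θ : C → ℂ)))
    (indFun_isClassFunction C _)
  rw [h1]
  refine Finset.sum_congr rfl fun χ _ => ?_
  congr 1
  rw [Cfsg.Agent.S0146.result C _ _ (isClassFunction_irr χ.2), classInner_sub_left,
    ← classInner_conj_symm, ← classInner_conj_symm (fun h : C => (χ : G → ℂ) h), d1m_spec, d1m_spec]
  unfold V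
  push_cast
  simp

theorem sub_apply_pRegular (ctx : D1Ctx p M x C b B θ) {ξ : IrrCharacter C} (hξ : ξ ∈ b) (y : C)
    (hy : ¬ p ∣ orderOf y) : ((ξ : C → ℂ) - (θ : C → ℂ)) y = 0 := by
  rw [Pi.sub_apply, ctx.apply_pRegular hξ hy, sub_self]

/-- a conjugate of `θ` lying in `b` is `θ` -/
theorem conj_theta_eq (ctx : D1Ctx p M x C b B θ) {n : G} (hn : n ∈ mrN x)
    (h : conjIrr C n (ctx.hNC hn) θ ∈ b) : conjIrr C n (ctx.hNC hn) θ = θ := by
  apply d1om_injOn ctx.hM ctx.hzc ctx.hb ctx.hDb h ctx.hθ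
  rw [d1om_canonical (ctx.conj_canonical hn), d1om_canonical ctx.hker]

/-- the number of elements of the normalizer carrying `ξ'` to `ξ` -/
theorem card_conj_irr_eq (ctx : D1Ctx p M x C b B θ) [Fintype (mrN x)]
    {ξ ξ' : IrrCharacter C} (hξ' : ξ' ∈ b) (hne' : ξ' ≠ θ)
    [DecidablePred fun n : mrN x => conjIrr C (n : G) (ctx.hNC n.2) ξ' = ξ]
    [Decidable (ctx.Rel ξ ξ')] :
    (Finset.univ.filter (fun n : mrN x => conjIrr C (n : G) (ctx.hNC n.2) ξ' = ξ)).card =
      if ctx.Rel ξ ξ' then Nat.card C else 0 := by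
  classical
  by_cases hrel : ctx.Rel ξ ξ'
  · rw [if_pos hrel]
    obtain ⟨n₀, hn₀, h₀⟩ := hrel
    rw [Nat.card_eq_fintype_card, ← Finset.card_univ]
    symm
    apply Finset.card_bij (fun (c : C) _ => (⟨n₀, hn₀⟩ : mrN x) * ⟨(c : G), ctx.hCN c.2⟩)
    · intro c _
      rw [Finset.mem_filter]
      refine ⟨Finset.mem_univ _, ?_⟩
      have h1 := conjIrr_mul C n₀ (c : G) (ctx.hNC hn₀) (ctx.hNC (ctx.hCN c.2)) ξ'
      rw [conjIrr_of_mem C (c : G) c.2 ξ', h₀] at h1
      exact h1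
    · intro c₁ _ c₂ _ h
      apply Subtype.ext
      have := mul_left_cancel h
      exact congrArg (fun m : mrN x => (m : G)) this
    · intro n hn
      rw [Finset.mem_filter] at hn
      have hmemN : n₀⁻¹ * (n : G) ∈ mrN x := Subgroup.mul_mem _ (Subgroup.inv_mem _ hn₀) n.2
      have hfix : conjIrr C (n₀⁻¹ * (n : G)) (ctx.hNC hmemN) ξ' = ξ' := by
        have h1 := conjIrr_mul C n₀⁻¹ (n : G) (Subgroup.inv_mem _ (ctx.hNC hn₀)) (ctx.hNC n.2) ξ'
        rw [hn.2, ← h₀, conjIrr_inv_conjIrr] at h1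
        exact h1
      have hmemC := ctx.mem_C_of_fix hmemN hξ' hne' hfix
      refine ⟨⟨n₀⁻¹ * (n : G), hmemC⟩, Finset.mem_univ _, ?_⟩
      apply Subtype.ext
      simp
  · rw [if_neg hrel, Finset.card_eq_zero, Finset.filter_eq_empty_iff]
    intro n _ h
    exact hrel ⟨n, n.2, h⟩

/-- **The Gram matrix** of the multiplicity vectors. -/
theorem gram (ctx : D1Ctx p M x C b B θ) [Fintype (IrrCharacter G)]
    {ξ ξ' : IrrCharacter C} (hξ : ξ ∈ b) (hne : ξ ≠ θ) (hξ' : ξ' ∈ b) (hne' : ξ' ≠ θ)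
    [Decidable (ctx.Rel ξ ξ')] :
    ∑ χ : IrrCharacter G, ctx.V ξ χ * ctx.V ξ' χ =
      (ctx.e : ℤ) + if ctx.Rel ξ ξ' then 1 else 0 := by
  classical
  have : Fintype (mrN x) := Fintype.ofFinite _
  have hC0 : (Nat.card C : ℂ) ≠ 0 := Nat.cast_ne_zero.2 Nat.card_pos.ne'
  have h1 := ctx.classInner_indFun ((ξ : C → ℂ) - (θ : C → ℂ)) ((ξ' : C → ℂ) - (θ : C → ℂ))
    (ctx.sub_apply_pRegular hξ)
  rw [ctx.indFun_sub ξ, ctx.indFun_sub ξ', d1_classInner_sum_smul] at h1
  -- the terms of the right side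
  have h2 : ∀ n : mrN x, classInner ((ξ : C → ℂ) - (θ : C → ℂ))
      (fun c : C => ((ξ' : C → ℂ) - (θ : C → ℂ)) ((conjAutOn C (n : G) (ctx.hNC n.2)).symm c)) =
      (if conjIrr C (n : G) (ctx.hNC n.2) ξ' = ξ then (1 : ℂ) else 0) +
        (if (n : G) ∈ ctx.T then (1 : ℂ) else 0) := by
    intro n
    have e1 : (fun c : C => ((ξ' : C → ℂ) - (θ : C → ℂ))
        ((conjAutOn C (n : G) (ctx.hNC n.2)).symm c)) =
        (conjIrr C (n : G) (ctx.hNC n.2) ξ' : C → ℂ) - (conjIrr C (n : G) (ctx.hNC n.2) θ : C → ℂ) := by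
      funext c
      rfl
    rw [e1, classInner_sub_left, classInner_sub_right, classInner_sub_right,
      classInner_irr ξ.2 (conjIrr C (n : G) (ctx.hNC n.2) ξ').2,
      classInner_irr ξ.2 (conjIrr C (n : G) (ctx.hNC n.2) θ).2,
      classInner_irr θ.2 (conjIrr C (n : G) (ctx.hNC n.2) ξ').2,
      classInner_irr θ.2 (conjIrr C (n : G) (ctx.hNC n.2) θ).2]
    have c1 : ((ξ : C → ℂ) = (conjIrr C (n : G) (ctx.hNC n.2) ξ' : C → ℂ)) ↔
        conjIrr C (n : G) (ctx.hNC n.2) ξ' = ξ :=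
      ⟨fun h => (Subtype.ext h).symm, fun h => by rw [h]⟩
    have c2 : ¬ ((ξ : C → ℂ) = (conjIrr C (n : G) (ctx.hNC n.2) θ : C → ℂ)) := by
      intro h
      have h' : ξ = conjIrr C (n : G) (ctx.hNC n.2) θ := Subtype.ext h
      apply hne
      rw [h']
      apply ctx.conj_theta_eq n.2
      rw [← h']
      exact hξ
    have c3 : ¬ ((θ : C → ℂ) = (conjIrr C (n : G) (ctx.hNC n.2) ξ' : C → ℂ)) := by
      intro h
      have h' : θ = conjIrr C (n : G) (ctx.hNC n.2) ξ' := Subtype.ext h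
      apply hne'
      have hninv : (n : G)⁻¹ ∈ mrN x := Subgroup.inv_mem _ n.2
      have h3 : ξ' = conjIrr C (n : G)⁻¹ (ctx.hNC hninv) θ := by
        have e3 := conjIrr_inv_conjIrr C (n : G) (ctx.hNC n.2) ξ'
        rw [← h'] at e3
        exact e3.symm
      rw [h3]
      apply ctx.conj_theta_eq hninv
      rw [← h3]
      exact hξ'
    have c4 : ((θ : C → ℂ) = (conjIrr C (n : G) (ctx.hNC n.2) θ : C → ℂ)) ↔ (n : G) ∈ ctx.T :=
      ⟨fun h => ⟨n.2, (Subtype.ext h).symm⟩, fun h => by rw [h.2]⟩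
    rw [if_neg c2, if_neg c3]
    simp only [c1, c4]
    ring
  rw [Finset.sum_congr rfl fun n _ => h2 n, Finset.sum_add_distrib, Finset.sum_boole,
    Finset.sum_boole, ctx.card_conj_irr_eq hξ' hne'] at h1
  have h3 : (Finset.univ.filter (fun n : mrN x => (n : G) ∈ ctx.T)).card = Nat.card ctx.T := by
    have : Fintype ctx.T := Fintype.ofFinite _
    rw [Nat.card_eq_fintype_card, ← Finset.card_univ]
    symm
    apply Finset.card_bij (fun (t : ctx.T) _ => (⟨(t : G), ctx.T_le_N t.2⟩ : mrN x))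
    · intro t _
      rw [Finset.mem_filter]
      exact ⟨Finset.mem_univ _, t.2⟩
    · intro t₁ _ t₂ _ h
      apply Subtype.ext
      exact congrArg (fun m : mrN x => (m : G)) h
    · intro n hn
      rw [Finset.mem_filter] at hn
      exact ⟨⟨(n : G), hn.2⟩, Finset.mem_univ _, rfl⟩
  rw [h3, ctx.card_T] at h1
  have h4 : ((∑ χ : IrrCharacter G, ctx.V ξ χ * ctx.V ξ' χ : ℤ) : ℂ) =
      (((ctx.e : ℤ) + if ctx.Rel ξ ξ' then 1 else 0 : ℤ) : ℂ) := by
    push_cast
    have e2 : ∑ χ : IrrCharacter G, ((ctx.V ξ χ : ℤ) : ℂ) * ((ctx.V ξ' χ : ℤ) : ℂ) =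
        ∑ χ : IrrCharacter G, ((ctx.V ξ χ : ℤ) : ℂ) * conj (((ctx.V ξ' χ : ℤ) : ℂ)) := by
      refine Finset.sum_congr rfl fun χ _ => ?_
      rw [map_intCast]
    rw [e2, h1]
    by_cases hrel : ctx.Rel ξ ξ'
    · rw [if_pos hrel, if_pos hrel]
      push_cast
      field_simp
      ring
    · rw [if_neg hrel, if_neg hrel]
      push_cast
      field_simp
      ring
  exact_mod_cast h4

end D1Ctx

end

end Cfsg.Agent.Lib.Helper8
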