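import Mathlib
import Cfsg.Prelude.Def_Blocks
import Cfsg.Prelude.Def_BlockRank
import Cfsg.Agent.Lib.Helper8.DO8
import Cfsg.Agent.S0914

/-!
# Blocks of defect one: properties of the multiplicity vectors
-/

set_option autoImplicit false
set_option maxHeartbeats 800000
set_option linter.unusedSectionVars false

namespace Cfsg.Agent.Lib.Helper8

open Cfsg
open scoped ComplexConjugate
open Cfsg.Agent.Lib.Helper1 Cfsg.Agent.Lib.Helper4

universe u

section

variable {G : Type u} [Group G] [Fintype G] {p : ℕ} [Fact p.Prime]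

/-- the sum of the values of a character over a subgroup of prime order is a multiple of `p` -/
theorem d1_sum_pow_eq {x : G} (hx : orderOf x = p) (χ : IrrCharacter G) :
    ∃ e : ℕ, ∑ k ∈ Finset.range p, (χ : G → ℂ) (x ^ k) = (p : ℂ) * (e : ℂ) := by
  classical
  have hp : p.Prime := Fact.out
  have : Fintype (Subgroup.zpowers x) := Fintype.ofFinite _
  obtain ⟨e, he⟩ := exists_nat_restrict_mult (Subgroup.zpowers x) χ.2 (trivIrr (Subgroup.zpowers x)).2
  refine ⟨e, ?_⟩
  rw [classInner_def, Nat.card_zpowers, hx] at he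
  have hp0 : (p : ℂ) ≠ 0 := Nat.cast_ne_zero.2 hp.ne_zero
  have h1 : ∑ g : Subgroup.zpowers x, (χ : G → ℂ) g *
      conj ((trivIrr (Subgroup.zpowers x) : Subgroup.zpowers x → ℂ) g) =
      ∑ k ∈ Finset.range p, (χ : G → ℂ) (x ^ k) := by
    have hfin : IsOfFinOrder x := isOfFinOrder_of_finite x
    rw [← (finEquivZPowers hfin).sum_comp, ← Fin.sum_univ_eq_sum_range
      (fun k => (χ : G → ℂ) (x ^ k)) p]
    rw [← hx]
    refine Finset.sum_congr rfl fun k _ => ?_
    rw [trivIrr_apply, map_one, mul_one, finEquivZPowers_apply]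
  rw [h1] at he
  rw [← he]
  field_simp

/-- a character vanishing at the nontrivial powers of `x` has degree divisible by `p` -/
theorem d1_dvd_degree_of_vanish {x : G} (hx : orderOf x = p) (χ : IrrCharacter G)
    (h : ∀ k : ℕ, 0 < k → k < p → (χ : G → ℂ) (x ^ k) = 0) : p ∣ charDegree (χ : G → ℂ) := by
  have hp : p.Prime := Fact.out
  obtain ⟨e, he⟩ := d1_sum_pow_eq hx χ
  rw [Finset.sum_eq_single 0] at he
  · rw [pow_zero, (irr_apply_one_eq_charDegree χ.2).1] at he
    refine ⟨e, ?_⟩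
    exact_mod_cast he
  · intro k hk hk0
    exact h k (Nat.pos_of_ne_zero hk0) (Finset.mem_range.1 hk)
  · intro h0
    exact absurd (Finset.mem_range.2 hp.pos) h0

end

section

variable {G : Type u} [Group G] [Fintype G] {M : Ideal AlgInt} {p : ℕ} [Fact p.Prime]
  {x : G} {C : Subgroup G} [Fintype C] {b : Set (IrrCharacter C)} {B : Set (IrrCharacter G)}
  {θ : IrrCharacter C}

namespace D1Ctx

/-- (V1) the multiplicity vectors are orthogonal to the `p`-regular columns -/
theorem sum_V_mul_apply (ctx : D1Ctx p M x C b B θ) [Fintype (IrrCharacter G)]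
    {ξ : IrrCharacter C} (hξ : ξ ∈ b) {g : G} (hg : ¬ p ∣ orderOf g) :
    ∑ χ : IrrCharacter G, ((ctx.V ξ χ : ℤ) : ℂ) * (χ : G → ℂ) g = 0 := by
  have h1 := indFun_apply_regular ((ξ : C → ℂ) - (θ : C → ℂ)) (ctx.sub_apply_pRegular hξ) hg
  rw [ctx.indFun_sub ξ, Finset.sum_apply] at h1
  rw [← h1]
  refine Finset.sum_congr rfl fun χ _ => ?_
  rw [Pi.smul_apply, smul_eq_mul]

/-- (V2) the multiplicity vectors are orthogonal to the degree vector -/
theorem sum_V_mul_degree (ctx : D1Ctx p M x C b B θ) [Fintype (IrrCharacter G)]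
    {ξ : IrrCharacter C} (hξ : ξ ∈ b) :
    ∑ χ : IrrCharacter G, (charDegree (χ : G → ℂ) : ℤ) * ctx.V ξ χ = 0 := by
  have h1 := ctx.sum_V_mul_apply hξ (g := 1) not_dvd_orderOf_one
  have h2 : ((∑ χ : IrrCharacter G, (charDegree (χ : G → ℂ) : ℤ) * ctx.V ξ χ : ℤ) : ℂ) = 0 := by
    rw [← h1]
    push_cast
    refine Finset.sum_congr rfl fun χ _ => ?_
    rw [(irr_apply_one_eq_charDegree χ.2).1]
    ring
  exact_mod_cast h2

theorem z_pow_ne_one (ctx : D1Ctx p M x C b B θ) {k : ℕ} (hk : ¬ p ∣ k) : ctx.z ^ k ≠ 1 := by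
  intro h
  apply ctx.xk_ne_one hk
  have := congrArg (Subtype.val) h
  rwa [coe_z_pow] at this

theorem not_dvd_of_lt {k : ℕ} (hk0 : 0 < k) (hk : k < p) : ¬ p ∣ k :=
  fun h => absurd (Nat.le_of_dvd hk0 h) (not_le.2 hk)

/-- the generalized decomposition numbers at the powers of `z` -/
theorem dEl_pow (ctx : D1Ctx p M x C b B θ) [Fintype (IrrCharacter C)] (χ : IrrCharacter G)
    (k : ℕ) : d1dEl C b χ (ctx.z ^ k) = ∑ ξ : IrrCharacter C,
      (by classical exact if ξ ∈ b then (d1m C χ ξ : ℂ) * d1om ctx.z ξ ^ k else 0) := by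
  classical
  unfold d1dEl
  refine Finset.sum_congr rfl fun ξ _ => ?_
  rw [ctx.d1om_z_pow]

/-- (V3) the multiplicity vectors are supported on `B` -/
theorem V_eq_zero (ctx : D1Ctx p M x C b B θ) {ξ : IrrCharacter C} (hξ : ξ ∈ b)
    {χ : IrrCharacter G} (hχ : χ ∉ B) : ctx.V ξ χ = 0 := by
  classical
  have : Fintype (IrrCharacter C) := Fintype.ofFinite _
  have h1 := d1_const_of_fourier ctx.hM ctx.hzc ctx.hz ctx.hb ctx.hDb
    (fun ξ' => (d1m C χ ξ' : ℂ)) ?_ hξ ctx.hθ
  · have h2 : d1m C χ ξ = d1m C χ θ := by exact_mod_cast h1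
    unfold V
    rw [h2, sub_self]
  · intro k hk0 hk
    have h3 := ctx.dEl_eq_zero (Subgroup.npow_mem_zpowers ctx.z k)
      (ctx.z_pow_ne_one (not_dvd_of_lt hk0 hk)) hχ
    rw [ctx.dEl_pow] at h3
    exact h3

/-- (V4) the generalized decomposition numbers in terms of the multiplicity vectors -/
theorem dEl_eq_sum_V (ctx : D1Ctx p M x C b B θ) [Fintype (IrrCharacter C)]
    (χ : IrrCharacter G) {k : ℕ} (hk : ¬ p ∣ k) :
    d1dEl C b χ (ctx.z ^ k) = ∑ ξ : IrrCharacter C,
      (by classical exact if ξ ∈ b then ((ctx.V ξ χ : ℤ) : ℂ) * d1om ctx.z ξ ^ k else 0) := by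
  classical
  rw [ctx.dEl_pow]
  have h1 := d1_sum_om_pow_eq_zero ctx.hM ctx.hzc ctx.hz ctx.hb ctx.hDb hk
  have h2 : ∀ ξ : IrrCharacter C, (if ξ ∈ b then (d1m C χ ξ : ℂ) * d1om ctx.z ξ ^ k else 0) =
      (if ξ ∈ b then ((ctx.V ξ χ : ℤ) : ℂ) * d1om ctx.z ξ ^ k else 0) +
        (d1m C χ θ : ℂ) * (if ξ ∈ b then d1om ctx.z ξ ^ k else 0) := by
    intro ξ
    unfold V
    split_ifs
    · push_cast
      ring
    · ring
  rw [Finset.sum_congr rfl fun ξ _ => h2 ξ, Finset.sum_add_distrib, ← Finset.mul_sum, h1,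
    mul_zero, add_zero]

/-- (V5) every member of `B` has a nonzero coordinate in some multiplicity vector -/
theorem exists_V_ne_zero (ctx : D1Ctx p M x C b B θ) {χ : IrrCharacter G} (hχ : χ ∈ B) :
    ∃ ξ ∈ b, ctx.V ξ χ ≠ 0 := by
  classical
  by_contra hcon
  push Not at hcon
  have hp : p.Prime := Fact.out
  have : Fintype (IrrCharacter C) := Fintype.ofFinite _
  have : Fintype (mrN x) := Fintype.ofFinite _
  -- all generalized decomposition numbers vanish
  have hd : ∀ u : C, u ∈ Subgroup.zpowers ctx.z → u ≠ 1 → d1dEl C b χ u = 0 := by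
    intro u hu hu1
    have hfin : IsOfFinOrder ctx.z := isOfFinOrder_of_finite _
    have hu' := hu
    rw [← hfin.mem_powers_iff_mem_zpowers] at hu'
    obtain ⟨k, hk⟩ := (Submonoid.mem_powers_iff _ _).1 hu'
    subst hk
    have hpk : ¬ p ∣ k := by
      intro h
      apply hu1
      rw [← ctx.hz] at h
      exact orderOf_dvd_iff_pow_eq_one.1 h
    rw [ctx.dEl_eq_sum_V χ hpk]
    apply Finset.sum_eq_zero
    intro ξ _
    by_cases hξ : ξ ∈ b
    · rw [if_pos hξ, hcon ξ hξ]
      simp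
    · rw [if_neg hξ]
  -- so `χ` vanishes at the nontrivial powers of `x`
  have hvan : ∀ k : ℕ, 0 < k → k < p → (χ : G → ℂ) (x ^ k) = 0 := by
    intro k hk0 hk
    have hpk := not_dvd_of_lt hk0 hk
    have h1 := ctx.card_T_mul_apply (Subgroup.npow_mem_zpowers ctx.z k) (ctx.z_pow_ne_one hpk) hχ
      (y := 1) not_dvd_orderOf_one
    rw [Finset.sum_eq_zero] at h1
    · have hT0 : (Nat.card ctx.T : ℂ) ≠ 0 := Nat.cast_ne_zero.2 Nat.card_pos.ne'
      rw [coe_z_pow, OneMemClass.coe_one, mul_one] at h1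
      exact (mul_eq_zero.1 h1).resolve_left hT0
    · intro n _
      rw [hd _ (ctx.conj_mem_zpowers n.2 (Subgroup.npow_mem_zpowers ctx.z k))
        (ctx.conj_ne_one n.2 (ctx.z_pow_ne_one hpk)), zero_mul]
  have hdvd := d1_dvd_degree_of_vanish ctx.hx χ hvan
  -- so `χ` has defect zero
  have hpG : p ∣ Nat.card G := by
    rw [← ctx.hx]
    exact orderOf_dvd_natCard x
  have hdeg := charDegree_dvd_card χ.2
  have hnd : ¬ p ∣ Nat.card G / charDegree (χ : G → ℂ) := by
    intro h
    apply ctx.hsq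
    obtain ⟨a, ha⟩ := hdvd
    obtain ⟨c, hc⟩ := h
    have h3 : Nat.card G = charDegree (χ : G → ℂ) * (Nat.card G / charDegree (χ : G → ℂ)) :=
      (Nat.mul_div_cancel' hdeg).symm
    rw [h3, hc, ha]
    exact ⟨a * c, by ring⟩
  have hsingle := (Cfsg.Agent.S0914.result p M ctx.hM χ).1 hnd
  have hBeq : B = {χ} := by
    rw [eq_blockOf_of_mem ctx.hMp ctx.hB hχ, hsingle]
  -- the defect of `B` is zero
  have hcard := card_of_isDefectGroup ctx.hM ctx.hB ctx.hBP
  rw [d1_card_zpowers ctx.hx] at hcard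
  have hdef : blockDefect p B = 0 := by
    unfold blockDefect
    rw [hBeq, Set.image_singleton, csInf_singleton]
    have h1 : (Nat.card G).factorization p ≤ (charDegree (χ : G → ℂ)).factorization p := by
      have h2 : (Nat.card G).factorization p ≤ 1 := by
        by_contra h
        have h' := not_le.1 h
        apply ctx.hsq
        have := (Nat.Prime.pow_dvd_iff_le_factorization hp Nat.card_pos.ne').2 h'
        exact this
      have h3 : 1 ≤ (charDegree (χ : G → ℂ)).factorization p := by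
        have hpos := (irr_apply_one_eq_charDegree χ.2).2
        exact (Nat.Prime.dvd_iff_one_le_factorization hp hpos.ne').1 hdvd
      omega
    omega
  rw [hdef, pow_zero] at hcard
  exact hp.one_lt.ne' hcard

end D1Ctx

end

end Cfsg.Agent.Lib.Helper8
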