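import Mathlib
import Cfsg.Prelude.Def_Blocks
import Cfsg.Prelude.Def_BlockRank
import Cfsg.Agent.Lib.Helper8.DO9

/-!
# Blocks of defect one: the orbits of the normalizer on the non-canonical characters
-/

set_option autoImplicit false
set_option maxHeartbeats 800000
set_option linter.unusedSectionVars false

namespace Cfsg.Agent.Lib.Helper8

open Cfsg
open scoped ComplexConjugate
open Cfsg.Agent.Lib.Helper1 Cfsg.Agent.Lib.Helper4

universe u

section

variable {G : Type u} [Group G] [Fintype G] {M : Ideal AlgInt} {p : ℕ} [Fact p.Prime]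
  {x : G} {C : Subgroup G} [Fintype C] {b : Set (IrrCharacter C)} {B : Set (IrrCharacter G)}
  {θ : IrrCharacter C}

namespace D1Ctx

theorem rel_refl (ctx : D1Ctx p M x C b B θ) (ξ : IrrCharacter C) : ctx.Rel ξ ξ :=
  ⟨1, Subgroup.one_mem _, conjIrr_one C ξ⟩

theorem rel_symm (ctx : D1Ctx p M x C b B θ) {ξ ξ' : IrrCharacter C} (h : ctx.Rel ξ ξ') :
    ctx.Rel ξ' ξ := by
  obtain ⟨n, hn, h⟩ := h
  refine ⟨n⁻¹, Subgroup.inv_mem _ hn, ?_⟩
  rw [← h]
  exact conjIrr_inv_conjIrr C n (ctx.hNC hn) ξ'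

theorem rel_trans (ctx : D1Ctx p M x C b B θ) {ξ ξ' ξ'' : IrrCharacter C} (h : ctx.Rel ξ ξ')
    (h' : ctx.Rel ξ' ξ'') : ctx.Rel ξ ξ'' := by
  obtain ⟨n, hn, h⟩ := h
  obtain ⟨m, hm, h'⟩ := h'
  refine ⟨n * m, Subgroup.mul_mem _ hn hm, ?_⟩
  have := conjIrr_mul C n m (ctx.hNC hn) (ctx.hNC hm) ξ''
  rw [h', h] at this
  exact this

/-- the multiplicity vectors of conjugate characters agree -/
theorem V_eq_of_rel (ctx : D1Ctx p M x C b B θ) {ξ ξ' : IrrCharacter C} (h : ctx.Rel ξ ξ')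
    (χ : IrrCharacter G) : ctx.V ξ χ = ctx.V ξ' χ := by
  obtain ⟨n, hn, h⟩ := h
  unfold V
  rw [← h, d1m_conjIrr]

/-- the non-canonical members of `b` -/
def Bn (_ctx : D1Ctx p M x C b B θ) : Type u := {ξ : IrrCharacter C // ξ ∈ b ∧ ξ ≠ θ}

noncomputable instance (ctx : D1Ctx p M x C b B θ) : Fintype ctx.Bn :=
  Fintype.ofFinite {ξ : IrrCharacter C // ξ ∈ b ∧ ξ ≠ θ}

/-- conjugacy under the normalizer, on the non-canonical members of `b` -/
def setoid (ctx : D1Ctx p M x C b B θ) : Setoid ctx.Bn where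
  r ξ ξ' := ctx.Rel ξ.1 ξ'.1
  iseqv := ⟨fun ξ => ctx.rel_refl ξ.1, fun h => ctx.rel_symm h, fun h h' => ctx.rel_trans h h'⟩

/-- the orbits of the normalizer on the non-canonical members of `b` -/
def Q (ctx : D1Ctx p M x C b B θ) : Type u := Quotient ctx.setoid

noncomputable instance (ctx : D1Ctx p M x C b B θ) : Fintype ctx.Q :=
  @Fintype.ofFinite _ (by unfold Q; infer_instance)

noncomputable instance (ctx : D1Ctx p M x C b B θ) : DecidableEq ctx.Q := Classical.decEq _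

/-- the multiplicity vector of an orbit -/
noncomputable def VQ (ctx : D1Ctx p M x C b B θ) (q : ctx.Q) (χ : IrrCharacter G) : ℤ :=
  Quotient.liftOn q (fun ξ : ctx.Bn => ctx.V ξ.1 χ) (fun _ _ h => ctx.V_eq_of_rel h χ)

/-- the orbit of a non-canonical member of `b` -/
def mkQ (ctx : D1Ctx p M x C b B θ) (ξ : ctx.Bn) : ctx.Q := Quotient.mk ctx.setoid ξ

theorem mkQ_surj (ctx : D1Ctx p M x C b B θ) (q : ctx.Q) : ∃ ξ : ctx.Bn, ctx.mkQ ξ = q :=
  Quotient.exists_rep q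

theorem mkQ_eq_iff (ctx : D1Ctx p M x C b B θ) (ξ ξ' : ctx.Bn) :
    ctx.mkQ ξ = ctx.mkQ ξ' ↔ ctx.Rel ξ.1 ξ'.1 :=
  Quotient.eq (r := ctx.setoid)

theorem VQ_mk (ctx : D1Ctx p M x C b B θ) (ξ : ctx.Bn) (χ : IrrCharacter G) :
    ctx.VQ (ctx.mkQ ξ) χ = ctx.V ξ.1 χ := rfl

theorem card_Bn (ctx : D1Ctx p M x C b B θ) : Fintype.card ctx.Bn = p - 1 := by
  classical
  have : Fintype (IrrCharacter C) := Fintype.ofFinite _
  have h1 := d1_card_block ctx.hM ctx.hzc ctx.hz ctx.hb ctx.hDb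
  rw [Nat.card_eq_fintype_card, Fintype.card_subtype] at h1
  rw [← Nat.card_eq_fintype_card]
  unfold Bn
  rw [Nat.card_eq_fintype_card, Fintype.card_subtype]
  have h2 : (Finset.univ.filter fun ξ : IrrCharacter C => ξ ∈ b ∧ ξ ≠ θ) =
      (Finset.univ.filter fun ξ : IrrCharacter C => ξ ∈ b).erase θ := by
    ext ξ
    simp only [Finset.mem_filter, Finset.mem_univ, true_and, Finset.mem_erase]
    tauto
  rw [h2, Finset.card_erase_of_mem, h1]
  rw [Finset.mem_filter]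
  exact ⟨Finset.mem_univ _, ctx.hθ⟩

theorem conj_ne_theta (ctx : D1Ctx p M x C b B θ) {n : G} (hn : n ∈ ctx.T) {ξ : IrrCharacter C}
    (hne : ξ ≠ θ) : conjIrr C n (ctx.hNC hn.1) ξ ≠ θ := by
  intro h
  apply hne
  have h1 := conjIrr_inv_conjIrr C n (ctx.hNC hn.1) ξ
  rw [h] at h1
  rw [← h1]
  exact (ctx.T.inv_mem hn).2

open Classical in
/-- each orbit on the non-canonical members of `b` has `e` members (on the level of characters) -/
theorem card_class' (ctx : D1Ctx p M x C b B θ) [Fintype (IrrCharacter C)]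
    {ξ : IrrCharacter C} (hξ : ξ ∈ b) (hne : ξ ≠ θ) :
    (Finset.univ.filter (fun ξ' : IrrCharacter C => (ξ' ∈ b ∧ ξ' ≠ θ) ∧ ctx.Rel ξ' ξ)).card =
      ctx.e := by
  classical
  have : Fintype (mrN x) := Fintype.ofFinite _
  have h1 : (Finset.univ.filter (fun n : mrN x => (n : G) ∈ ctx.T)).card = Nat.card ctx.T := by
    have : Fintype ctx.T := Fintype.ofFinite _
    rw [Nat.card_eq_fintype_card, ← Finset.card_univ]
    symm
    apply Finset.card_bij (fun (t : ctx.T) _ => (⟨(t : G), ctx.T_le_N t.2⟩ : mrN x))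
    · intro t _
      rw [Finset.mem_filter]
      exact ⟨Finset.mem_univ _, t.2⟩
    · intro t₁ _ t₂ _ h
      apply Subtype.ext
      exact congrArg (fun m : mrN x => (m : G)) h
    · intro n hn
      rw [Finset.mem_filter] at hn
      exact ⟨⟨(n : G), hn.2⟩, Finset.mem_univ _, rfl⟩
  have hmaps : ∀ n ∈ Finset.univ.filter (fun n : mrN x => (n : G) ∈ ctx.T),
      conjIrr C (n : G) (ctx.hNC n.2) ξ ∈
        Finset.univ.filter (fun ξ' : IrrCharacter C => ξ' ∈ b ∧ ξ' ≠ θ) := by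
    intro n hn
    rw [Finset.mem_filter] at hn ⊢
    exact ⟨Finset.mem_univ _, ctx.conj_mem_b hn.2 hξ, ctx.conj_ne_theta hn.2 hne⟩
  have h2 := Finset.card_eq_sum_card_fiberwise hmaps
  have h3 : ∀ ξ' ∈ Finset.univ.filter (fun ξ' : IrrCharacter C => ξ' ∈ b ∧ ξ' ≠ θ),
      ((Finset.univ.filter (fun n : mrN x => (n : G) ∈ ctx.T)).filter
        (fun n : mrN x => conjIrr C (n : G) (ctx.hNC n.2) ξ = ξ')).card =
      if ctx.Rel ξ' ξ then Nat.card C else 0 := by
    intro ξ' hξ'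
    rw [Finset.mem_filter] at hξ'
    rw [← ctx.card_conj_irr_eq (ξ := ξ') hξ hne, Finset.filter_filter]
    congr 1
    ext n
    simp only [Finset.mem_filter, Finset.mem_univ, true_and]
    constructor
    · exact fun h => h.2
    · intro h
      exact ⟨ctx.mem_T_of_conj n.2 hξ'.2.1 hξ h, h⟩
  rw [Finset.sum_congr rfl h3, h1, ctx.card_T, ← Finset.sum_filter, Finset.sum_const,
    smul_eq_mul, Finset.filter_filter, mul_comm] at h2
  have hC0 : 0 < Nat.card C := Nat.card_pos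
  exact (Nat.eq_of_mul_eq_mul_right hC0 h2).symm

open Classical in
/-- each orbit on the non-canonical members of `b` has `e` members -/
theorem card_class (ctx : D1Ctx p M x C b B θ) (ξ : ctx.Bn) :
    (Finset.univ.filter (fun ξ' : ctx.Bn => ctx.Rel ξ'.1 ξ.1)).card = ctx.e := by
  classical
  have : Fintype (IrrCharacter C) := Fintype.ofFinite _
  rw [← ctx.card_class' ξ.2.1 ξ.2.2]
  apply Finset.card_bij (fun (ξ' : ctx.Bn) _ => ξ'.1)
  · intro ξ' hξ'
    rw [Finset.mem_filter] at hξ' ⊢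
    exact ⟨Finset.mem_univ _, ξ'.2, hξ'.2⟩
  · intro ξ₁ _ ξ₂ _ h
    exact Subtype.ext h
  · intro ξ' hξ'
    rw [Finset.mem_filter] at hξ'
    exact ⟨⟨ξ', hξ'.2.1⟩, Finset.mem_filter.2 ⟨Finset.mem_univ _, hξ'.2.2⟩, rfl⟩

/-- the number of orbits times `e` is `p - 1` -/
theorem card_Q_mul_e (ctx : D1Ctx p M x C b B θ) : Fintype.card ctx.Q * ctx.e = p - 1 := by
  classical
  rw [← ctx.card_Bn, ← Finset.card_univ (α := ctx.Bn)]
  have hmaps : ∀ ξ ∈ (Finset.univ : Finset ctx.Bn),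
      ctx.mkQ ξ ∈ (Finset.univ : Finset ctx.Q) :=
    fun _ _ => Finset.mem_univ _
  rw [Finset.card_eq_sum_card_fiberwise hmaps]
  have h1 : ∀ q ∈ (Finset.univ : Finset ctx.Q), ((Finset.univ : Finset ctx.Bn).filter
      (fun ξ => ctx.mkQ ξ = q)).card = ctx.e := by
    intro q _
    obtain ⟨ξ, rfl⟩ := ctx.mkQ_surj q
    rw [← ctx.card_class ξ]
    congr 1
    ext ξ'
    simp only [Finset.mem_filter, Finset.mem_univ, true_and]
    exact ctx.mkQ_eq_iff ξ' ξ
  rw [Finset.sum_congr rfl h1, Finset.sum_const, smul_eq_mul, Finset.card_univ]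

theorem e_dvd (ctx : D1Ctx p M x C b B θ) : ctx.e ∣ p - 1 :=
  ⟨Fintype.card ctx.Q, by rw [← ctx.card_Q_mul_e, mul_comm]⟩

theorem card_Q (ctx : D1Ctx p M x C b B θ) : Fintype.card ctx.Q = (p - 1) / ctx.e := by
  rw [← ctx.card_Q_mul_e, Nat.mul_div_cancel _ ctx.e_pos]

theorem nonempty_Q (ctx : D1Ctx p M x C b B θ) : Nonempty ctx.Q := by
  have hp : p.Prime := Fact.out
  have h1 := ctx.card_Q_mul_e
  have h2 : 0 < Fintype.card ctx.Q := by
    by_contra h
    have h0 : Fintype.card ctx.Q = 0 := by omega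
    rw [h0, zero_mul] at h1
    have := hp.two_le
    omega
  exact Fintype.card_pos_iff.1 h2

end D1Ctx

end

end Cfsg.Agent.Lib.Helper8
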