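import Mathlib
import Cfsg.Prelude.Def_Blocks
import Cfsg.Prelude.Def_BlockRank
import Cfsg.Agent.Lib.Helper8.DO10
import Cfsg.Agent.Lib.Helper6.D1A

/-!
# Blocks of defect one: the bounds `k(B) ≤ e + t` and `l(B) + t ≤ k(B)`
-/

set_option autoImplicit false
set_option maxHeartbeats 800000
set_option linter.unusedSectionVars false

namespace Cfsg.Agent.Lib.Helper8

open Cfsg
open scoped ComplexConjugate
open Cfsg.Agent.Lib.Helper1 Cfsg.Agent.Lib.Helper4

universe u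

section

variable {G : Type u} [Group G] [Fintype G]

/-- a sum over all irreducible characters of a function supported on `B` -/
theorem d1_sum_eq_sum_subtype [Fintype (IrrCharacter G)] {A : Type*} [AddCommMonoid A]
    (B : Set (IrrCharacter G)) [Fintype B] (f : IrrCharacter G → A) (hf : ∀ χ, χ ∉ B → f χ = 0) :
    ∑ χ : IrrCharacter G, f χ = ∑ χ : B, f χ.1 := by
  classical
  rw [← Finset.sum_subtype (p := fun χ => χ ∈ B) (Finset.univ.filter (fun χ => χ ∈ B)) (by simp) f]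
  symm
  apply Finset.sum_subset (Finset.filter_subset _ _)
  intro χ _ hχ
  apply hf
  intro h
  exact hχ (Finset.mem_filter.2 ⟨Finset.mem_univ _, h⟩)

end

section

variable {G : Type u} [Group G] [Fintype G] {M : Ideal AlgInt} {p : ℕ} [Fact p.Prime]
  {x : G} {C : Subgroup G} [Fintype C] {b : Set (IrrCharacter C)} {B : Set (IrrCharacter G)}
  {θ : IrrCharacter C}

namespace D1Ctx

theorem VQ_eq_zero (ctx : D1Ctx p M x C b B θ) (q : ctx.Q) {χ : IrrCharacter G} (hχ : χ ∉ B) :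
    ctx.VQ q χ = 0 := by
  obtain ⟨ξ, rfl⟩ := ctx.mkQ_surj q
  rw [ctx.VQ_mk]
  exact ctx.V_eq_zero ξ.2.1 hχ

theorem V_theta (ctx : D1Ctx p M x C b B θ) (χ : IrrCharacter G) : ctx.V θ χ = 0 := by
  unfold V
  exact sub_self _

/-- the Gram matrix on the orbit space -/
theorem gramQ (ctx : D1Ctx p M x C b B θ) [Fintype B] (q q' : ctx.Q) :
    ∑ χ : B, ctx.VQ q χ.1 * ctx.VQ q' χ.1 = (ctx.e : ℤ) + if q = q' then 1 else 0 := by
  classical
  have : Fintype (IrrCharacter G) := Fintype.ofFinite _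
  obtain ⟨ξ, rfl⟩ := ctx.mkQ_surj q
  obtain ⟨ξ', rfl⟩ := ctx.mkQ_surj q'
  rw [← d1_sum_eq_sum_subtype B (fun χ => ctx.VQ (ctx.mkQ ξ) χ * ctx.VQ (ctx.mkQ ξ') χ)]
  · simp only [ctx.VQ_mk]
    rw [ctx.gram ξ.2.1 ξ.2.2 ξ'.2.1 ξ'.2.2]
    congr 1
    by_cases h : ctx.Rel ξ.1 ξ'.1
    · rw [if_pos h, if_pos ((ctx.mkQ_eq_iff ξ ξ').2 h)]
    · rw [if_neg h, if_neg (fun h' => h ((ctx.mkQ_eq_iff ξ ξ').1 h'))]
  · intro χ hχ
    rw [ctx.VQ_eq_zero _ hχ, zero_mul]

theorem orthQ (ctx : D1Ctx p M x C b B θ) [Fintype B] (q : ctx.Q) :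
    ∑ χ : B, (charDegree (χ.1 : G → ℂ) : ℤ) * ctx.VQ q χ.1 = 0 := by
  classical
  have : Fintype (IrrCharacter G) := Fintype.ofFinite _
  obtain ⟨ξ, rfl⟩ := ctx.mkQ_surj q
  rw [← d1_sum_eq_sum_subtype B (fun χ => (charDegree (χ : G → ℂ) : ℤ) * ctx.VQ (ctx.mkQ ξ) χ)]
  · simp only [ctx.VQ_mk]
    exact ctx.sum_V_mul_degree ξ.2.1
  · intro χ hχ
    rw [ctx.VQ_eq_zero _ hχ, mul_zero]

theorem suppQ (ctx : D1Ctx p M x C b B θ) (χ : B) : ∃ q : ctx.Q, ctx.VQ q χ.1 ≠ 0 := by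
  obtain ⟨ξ, hξ, hne⟩ := ctx.exists_V_ne_zero χ.2
  have hξθ : ξ ≠ θ := by
    rintro rfl
    exact hne (ctx.V_theta _)
  exact ⟨ctx.mkQ (⟨ξ, hξ, hξθ⟩ : ctx.Bn), hne⟩

/-- **The upper bound** `k(B) ≤ e + (p - 1) / e`. -/
theorem card_B_le (ctx : D1Ctx p M x C b B θ) : Nat.card B ≤ ctx.e + (p - 1) / ctx.e := by
  classical
  have : Fintype B := Fintype.ofFinite _
  have h1 := (Cfsg.Agent.Lib.Helper6.defectOne_lattice ctx.e (fun (q : ctx.Q) (χ : B) => ctx.VQ q χ.1)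
    (fun χ : B => (charDegree (χ.1 : G → ℂ) : ℤ))
    (fun χ => by exact_mod_cast (irr_apply_one_eq_charDegree χ.1.2).2)
    ctx.orthQ ctx.gramQ ctx.nonempty_Q ctx.suppQ).1
  rw [ctx.card_Q] at h1
  rw [Nat.card_eq_fintype_card]
  exact h1

/-- the multiplicity vectors of the orbits are linearly independent -/
theorem linearIndependent_VQ (ctx : D1Ctx p M x C b B θ) [Fintype B] :
    LinearIndependent ℂ (fun (q : ctx.Q) (χ : B) => ((ctx.VQ q χ.1 : ℤ) : ℂ)) := by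
  classical
  rw [Fintype.linearIndependent_iff]
  intro c hc q'
  -- pair with the vector of `q'`
  have h1 : ∀ q'' : ctx.Q, ∑ χ : B, (∑ q : ctx.Q, c q • (fun χ : B => ((ctx.VQ q χ.1 : ℤ) : ℂ))) χ *
      ((ctx.VQ q'' χ.1 : ℤ) : ℂ) = 0 := by
    intro q''
    rw [hc]
    simp
  have h2 : ∀ q'' : ctx.Q, (ctx.e : ℂ) * (∑ q : ctx.Q, c q) + c q'' = 0 := by
    intro q''
    rw [← h1 q'']
    have e1 : ∀ χ : B, (∑ q : ctx.Q, c q • (fun χ : B => ((ctx.VQ q χ.1 : ℤ) : ℂ))) χ *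
        ((ctx.VQ q'' χ.1 : ℤ) : ℂ) =
        ∑ q : ctx.Q, c q * (((ctx.VQ q χ.1 : ℤ) : ℂ) * ((ctx.VQ q'' χ.1 : ℤ) : ℂ)) := by
      intro χ
      rw [Finset.sum_apply, Finset.sum_mul]
      refine Finset.sum_congr rfl fun q _ => ?_
      rw [Pi.smul_apply, smul_eq_mul, mul_assoc]
    rw [Finset.sum_congr rfl fun χ _ => e1 χ, Finset.sum_comm]
    have e2 : ∀ q : ctx.Q, ∑ χ : B, c q * (((ctx.VQ q χ.1 : ℤ) : ℂ) * ((ctx.VQ q'' χ.1 : ℤ) : ℂ)) =
        c q * ((ctx.e : ℂ) + if q = q'' then 1 else 0) := by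
      intro q
      rw [← Finset.mul_sum]
      congr 1
      have := ctx.gramQ q q''
      have h3 : ((∑ χ : B, ctx.VQ q χ.1 * ctx.VQ q'' χ.1 : ℤ) : ℂ) =
          (((ctx.e : ℤ) + if q = q'' then 1 else 0 : ℤ) : ℂ) := by rw [this]
      push_cast at h3
      rw [h3]
    rw [Finset.sum_congr rfl fun q _ => e2 q]
    simp only [mul_add, Finset.sum_add_distrib, mul_ite, mul_one, mul_zero]
    rw [Finset.sum_ite_eq' Finset.univ q'', if_pos (Finset.mem_univ _), Finset.mul_sum]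
    congr 1
    refine Finset.sum_congr rfl fun q _ => ?_
    ring
  -- sum over `q''`
  have h3 : (∑ q : ctx.Q, c q) * ((ctx.e : ℂ) * (Fintype.card ctx.Q : ℂ) + 1) = 0 := by
    have := Finset.sum_congr rfl (fun q'' (_ : q'' ∈ (Finset.univ : Finset ctx.Q)) => h2 q'')
    rw [Finset.sum_add_distrib, Finset.sum_const, Finset.card_univ, Finset.sum_const_zero,
      nsmul_eq_mul] at this
    rw [← this]
    ring
  have h4 : ((ctx.e : ℂ) * (Fintype.card ctx.Q : ℂ) + 1) ≠ 0 := by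
    have : ((ctx.e * Fintype.card ctx.Q + 1 : ℕ) : ℂ) ≠ 0 := Nat.cast_ne_zero.2 (Nat.succ_ne_zero _)
    push_cast at this
    exact this
  have h5 : ∑ q : ctx.Q, c q = 0 := (mul_eq_zero.1 h3).resolve_right h4
  have h6 := h2 q'
  rw [h5, mul_zero, zero_add] at h6
  exact h6

/-- **The lower bound** `l(B) + (p - 1) / e ≤ k(B)`. -/
theorem blockRank_add_le (ctx : D1Ctx p M x C b B θ) :
    blockRank p B + (p - 1) / ctx.e ≤ Nat.card B := by
  classical
  have : Fintype B := Fintype.ofFinite _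
  have : Fintype (IrrCharacter G) := Fintype.ofFinite _
  set v : B → (G → ℂ) := fun χ => pRegularPart p (χ.1 : G → ℂ) with hv
  set Φ : (B → ℂ) →ₗ[ℂ] (G → ℂ) := Fintype.linearCombination ℂ v with hΦ
  have hrange : LinearMap.range Φ =
      Submodule.span ℂ ((fun χ : IrrCharacter G => pRegularPart p (χ : G → ℂ)) '' B) := by
    rw [hΦ, Fintype.range_linearCombination]
    congr 1
    rw [Set.image_eq_range]
  have hrank : blockRank p B = Module.finrank ℂ (LinearMap.range Φ) := by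
    unfold blockRank
    rw [hrange]
  have hsum := LinearMap.finrank_range_add_finrank_ker Φ
  rw [Module.finrank_pi, Fintype.card_eq_nat_card (α := B)] at hsum
  -- the kernel contains the multiplicity vectors
  have hker : ∀ q : ctx.Q, (fun χ : B => ((ctx.VQ q χ.1 : ℤ) : ℂ)) ∈ LinearMap.ker Φ := by
    intro q
    rw [LinearMap.mem_ker, hΦ, Fintype.linearCombination_apply]
    funext g
    rw [Finset.sum_apply, Pi.zero_apply]
    by_cases hg : p ∣ orderOf g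
    · apply Finset.sum_eq_zero
      intro χ _
      simp only [Pi.smul_apply, hv]
      rw [pRegularPart_of_dvd _ hg, smul_zero]
    · obtain ⟨ξ, rfl⟩ := ctx.mkQ_surj q
      have h1 := ctx.sum_V_mul_apply ξ.2.1 hg
      rw [d1_sum_eq_sum_subtype B] at h1
      · rw [← h1]
        refine Finset.sum_congr rfl fun χ _ => ?_
        simp only [Pi.smul_apply, hv]
        rw [pRegularPart_of_not_dvd _ hg, smul_eq_mul, ctx.VQ_mk]
      · intro χ hχ
        rw [ctx.V_eq_zero ξ.2.1 hχ]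
        simp
  have hle : Submodule.span ℂ (Set.range (fun (q : ctx.Q) (χ : B) => ((ctx.VQ q χ.1 : ℤ) : ℂ))) ≤
      LinearMap.ker Φ := by
    rw [Submodule.span_le]
    rintro _ ⟨q, rfl⟩
    exact hker q
  have h2 := Submodule.finrank_mono hle
  rw [finrank_span_eq_card ctx.linearIndependent_VQ, ctx.card_Q] at h2
  rw [hrank]
  omega

end D1Ctx

end

end Cfsg.Agent.Lib.Helper8
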