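import Mathlib
import Cfsg.Prelude.Def_Blocks
import Cfsg.Prelude.Def_BlockRank
import Cfsg.Prelude.Def_BlockLocal
import Cfsg.Agent.Lib.Helper8.DO11

/-!
# Blocks of defect one: existence of the context, conjugate inducing blocks, the stabilizer
-/

set_option autoImplicit false
set_option maxHeartbeats 800000
set_option linter.unusedSectionVars false

namespace Cfsg.Agent.Lib.Helper8

open Cfsg
open scoped ComplexConjugate
open Cfsg.Agent.Lib.Helper1 Cfsg.Agent.Lib.Helper4

universe u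

section

variable {G : Type u} [Group G] (K : Subgroup G)

/-- the induced central character is invariant under conjugation -/
theorem inducedCentralChar_conjIrr (y : G) (hy : y ∈ Subgroup.normalizer (K : Set G))
    (ξ : IrrCharacter K) (h : G) :
    inducedCentralChar K (conjIrr K y hy ξ : K → ℂ) h = inducedCentralChar K (ξ : K → ℂ) h := by
  unfold inducedCentralChar
  set σ := conjAutOn K y hy with hσ
  have himg : σ '' {k : K | IsConj h (k : G)} = {k : K | IsConj h (k : G)} := by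
    ext k
    constructor
    · rintro ⟨k', hk', rfl⟩
      show IsConj h ((σ k' : K) : G)
      rw [hσ, conjAutOn_apply_coe]
      exact hk'.trans (isConj_iff.2 ⟨y, rfl⟩)
    · intro hk
      refine ⟨σ.symm k, ?_, σ.apply_symm_apply k⟩
      show IsConj h ((σ.symm k : K) : G)
      rw [hσ, conjAutOn_symm_apply_coe]
      refine hk.trans (isConj_iff.2 ⟨y⁻¹, ?_⟩)
      rw [inv_inv]
  have h1 : ∑ᶠ k ∈ {k : K | IsConj h (k : G)},
      (conjIrr K y hy ξ : K → ℂ) k / (conjIrr K y hy ξ : K → ℂ) 1 =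
      ∑ᶠ k ∈ σ '' {k : K | IsConj h (k : G)},
        (conjIrr K y hy ξ : K → ℂ) k / (conjIrr K y hy ξ : K → ℂ) 1 := by
    rw [himg]
  rw [h1, finsum_mem_image σ.injective.injOn]
  refine finsum_mem_congr rfl fun k _ => ?_
  rw [conjIrr_apply_conj, conjIrr_apply_one]

/-- a conjugate of an inducing block induces the same block -/
theorem isInducedBlock_conjIrr {M : Ideal AlgInt} (y : G)
    (hy : y ∈ Subgroup.normalizer (K : Set G)) {e : Set (IrrCharacter K)}
    {B : Set (IrrCharacter G)} (h : IsInducedBlock M K e B) :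
    IsInducedBlock M K (conjIrr K y hy '' e) B := by
  obtain ⟨he, hB, hc⟩ := h
  refine ⟨isPBlock_image_conjIrr K y hy he, hB, ?_⟩
  rintro _ ⟨ξ, hξ, rfl⟩ χ hχ g
  rw [inducedCentralChar_conjIrr]
  exact hc ξ hξ χ hχ g

/-- fixing a character under conjugation, elementwise -/
theorem conjIrr_eq_self_iff (y : G) (hy : y ∈ Subgroup.normalizer (K : Set G))
    (ξ : IrrCharacter K) :
    conjIrr K y hy ξ = ξ ↔ ∀ c c' : K, (c' : G) = y * (c : G) * y⁻¹ →
      (ξ : K → ℂ) c' = (ξ : K → ℂ) c := by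
  constructor
  · intro h c c' hc
    have := isConjCharOf_conjIrr K y hy ξ c c' hc
    rwa [h] at this
  · intro h
    exact (eq_conjIrr_of_isConjCharOf K y hy (χ := ξ) (χ' := ξ) h).symm

/-- conjugacy of characters, elementwise -/
theorem conjIrr_eq_iff' (y : G) (hy : y ∈ Subgroup.normalizer (K : Set G))
    (ξ ξ' : IrrCharacter K) :
    ξ' = conjIrr K y hy ξ ↔ ∀ c c' : K, (c' : G) = y * (c : G) * y⁻¹ →
      (ξ' : K → ℂ) c' = (ξ : K → ℂ) c := by
  constructor
  · intro h c c' hc
    rw [h]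
    exact isConjCharOf_conjIrr K y hy ξ c c' hc
  · intro h
    exact eq_conjIrr_of_isConjCharOf K y hy h

end

section

variable {G : Type u} [Group G] [Fintype G] {M : Ideal AlgInt} {p : ℕ} [Fact p.Prime]
  {x : G} {C : Subgroup G} [Fintype C]

/-- the global hypotheses: `x` has order `p`, `p²` does not divide `|G|`, `C = C_G(x)` -/
structure D1Base (p : ℕ) (M : Ideal AlgInt) {G : Type u} [Group G] [Fintype G] (x : G)
    (C : Subgroup G) : Prop where
  hM : IsPModular p M
  hx : orderOf x = p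
  hsq : ¬ p ^ 2 ∣ Nat.card G
  hC : ∀ t, t ∈ C ↔ t * x = x * t

namespace D1Base

theorem hPC (base : D1Base p M x C) : Subgroup.zpowers x ≤ C := by
  rw [Subgroup.zpowers_le]
  exact (base.hC x).2 rfl

theorem hcentC (base : D1Base p M x C) :
    Subgroup.centralizer ((Subgroup.zpowers x : Subgroup G) : Set G) ≤ C := by
  intro t ht
  rw [base.hC]
  exact ((Subgroup.mem_centralizer_iff.1 ht) x (Subgroup.mem_zpowers x)).symm

theorem hCN (base : D1Base p M x C) : C ≤ mrN x := by
  intro t ht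
  apply Subgroup.mem_normalizer_fintype
  intro n hn
  obtain ⟨i, rfl⟩ := Subgroup.mem_zpowers_iff.1 hn
  have hc : Commute t (x ^ i) := Commute.zpow_right (show Commute t x from (base.hC t).1 ht) i
  have : t * x ^ i * t⁻¹ = x ^ i := by
    rw [hc.eq, mul_inv_cancel_right]
  rw [this]
  exact Subgroup.zpow_mem_zpowers x i

/-- **Existence of the context** for a block with defect group `⟨x⟩`. -/
theorem exists_ctx (base : D1Base p M x C) {B : Set (IrrCharacter G)} (hB : IsPBlock M B)
    (hBP : IsDefectGroup p M B (Subgroup.zpowers x)) :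
    ∃ (b : Set (IrrCharacter C)) (θ : IrrCharacter C), D1Ctx p M x C b B θ := by
  obtain ⟨b, hDb, hind⟩ := extFirstMain_exists base.hM hB hBP C base.hPC base.hcentC base.hCN
  have hnorm : ((Subgroup.zpowers x).subgroupOf C).Normal := by
    constructor
    intro u hu c
    rw [Subgroup.mem_subgroupOf] at hu ⊢
    obtain ⟨i, hi⟩ := Subgroup.mem_zpowers_iff.1 hu
    have hc : Commute (c : G) (x ^ i) :=
      Commute.zpow_right (show Commute (c : G) x from (base.hC c).1 c.2) i
    have : ((c * u * c⁻¹ : C) : G) = x ^ i := by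
      push_cast
      rw [← hi, hc.eq, mul_inv_cancel_right]
    rw [this]
    exact Subgroup.zpow_mem_zpowers x i
  have hP : IsPGroup p ((Subgroup.zpowers x).subgroupOf C) :=
    (isPGroup_of_isDefectGroup hBP).comap_subtype
  obtain ⟨θ, hθ, hker⟩ := exists_mem_block_ker base.hM _ hP hind.1
  refine ⟨b, θ, ⟨base.hM, base.hx, base.hsq, base.hC, hB, hBP, hind, hθ, ?_⟩⟩
  intro c hc
  exact hker c (Subgroup.mem_subgroupOf.2 hc)

end D1Base

namespace D1Ctx

variable {b : Set (IrrCharacter C)} {B : Set (IrrCharacter G)} {θ : IrrCharacter C}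

theorem base (ctx : D1Ctx p M x C b B θ) : D1Base p M x C := ⟨ctx.hM, ctx.hx, ctx.hsq, ctx.hC⟩

/-- membership in the stabilizer, elementwise (the form of the statements) -/
theorem mem_T_iff (ctx : D1Ctx p M x C b B θ) (g : G) :
    g ∈ ctx.T ↔ g ∈ mrN x ∧ ∀ c c' : C, (c' : G) = g * (c : G) * g⁻¹ →
      (θ : C → ℂ) c' = (θ : C → ℂ) c := by
  constructor
  · rintro ⟨hn, h⟩
    exact ⟨hn, (conjIrr_eq_self_iff C g (ctx.hNC hn) θ).1 h⟩
  · rintro ⟨hn, h⟩
    exact ⟨hn, (conjIrr_eq_self_iff C g (ctx.hNC hn) θ).2 h⟩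

/-- contexts of different blocks have non-conjugate canonical characters -/
theorem block_eq_of_conj (ctx : D1Ctx p M x C b B θ) {b' : Set (IrrCharacter C)}
    {B' : Set (IrrCharacter G)} {θ' : IrrCharacter C} (ctx' : D1Ctx p M x C b' B' θ') {g : G}
    (hg : g ∈ mrN x) (h : θ' = conjIrr C g (ctx.hNC hg) θ) : B' = B := by
  have h1 := isInducedBlock_conjIrr C g (ctx.hNC hg) ctx.hind
  have hmem : θ' ∈ conjIrr C g (ctx.hNC hg) '' b := ⟨θ, ctx.hθ, h.symm⟩
  have hbeq : b' = conjIrr C g (ctx.hNC hg) '' b := by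
    rw [eq_blockOf_of_mem ctx.hMp ctx'.hb ctx'.hθ, eq_blockOf_of_mem ctx.hMp h1.1 hmem]
  rw [← hbeq] at h1
  -- both `B` and `B'` are induced from `b'`
  obtain ⟨ξ, hξ⟩ := isPBlock_nonempty ctx.hMp ctx'.hb
  obtain ⟨χ, hχ⟩ := isPBlock_nonempty ctx.hMp ctx.hB
  obtain ⟨χ', hχ'⟩ := isPBlock_nonempty ctx.hMp ctx'.hB
  have hs : SameBlock M (χ : G → ℂ) (χ' : G → ℂ) := by
    intro t
    have e1 := h1.2.2 ξ hξ χ hχ t
    have e2 := ctx'.hind.2.2 ξ hξ χ' hχ' t
    have e3 : centralChar (χ : G → ℂ) t - centralChar (χ' : G → ℂ) t =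
        (inducedCentralChar C (ξ : C → ℂ) t - centralChar (χ' : G → ℂ) t) -
        (inducedCentralChar C (ξ : C → ℂ) t - centralChar (χ : G → ℂ) t) := by ring
    rw [e3]
    exact memLocalIdeal_sub ctx.hMp e2 e1
  rw [eq_blockOf_of_mem ctx.hMp ctx'.hB hχ', eq_blockOf_of_mem ctx.hMp ctx.hB hχ]
  ext ψ
  constructor
  · intro hψ
    exact sameBlock_trans ctx.hMp hs hψ
  · intro hψ
    exact sameBlock_trans ctx.hMp (sameBlock_symm hs) hψ

end D1Ctx

end

end Cfsg.Agent.Lib.Helper8
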