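import Mathlib
import Cfsg.Prelude.Def_Blocks
import Cfsg.Prelude.Def_BrauerPairs
import Cfsg.Agent.Lib.Helper8.BlockPairSylow

/-!
# Brauer pairs of the principal block (Brauer's Third Main Theorem, S4663)
-/

set_option autoImplicit false
set_option linter.unusedSectionVars false

namespace Cfsg.Agent.Lib.Helper8

open Cfsg
open scoped ComplexConjugate
open Cfsg.Agent.Lib.Helper1 Cfsg.Agent.Lib.Helper4

universe u

section

variable {G : Type u} [Group G] [Fintype G] {M : Ideal AlgInt} {p : ℕ}

/-- **Orbit counting for conjugation**: the sum over `G` of a function invariant under conjugation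
by the `p`-group `P`, with values in the local ring, is congruent to its sum over `C_G(P)`. -/
theorem memLocalIdeal_sum_sub_sum_centralizer' (hM : IsPModular p M) (P : Subgroup G)
    (hP : IsPGroup p P) [Fintype (Subgroup.centralizer (P : Set G))] (F : G → ℂ)
    (hF : ∀ u ∈ P, ∀ x : G, F (u * x * u⁻¹) = F x) (hFS : ∀ g, MemLocalRing M (F g)) :
    MemLocalIdeal M (∑ x : G, F x - ∑ x : Subgroup.centralizer (P : Set G), F x) := by
  classical
  have h := memLocalIdeal_sum_sub_sum_centralizer hM P hP F hF hFS
  have e3 : ∑ x : Subgroup.centralizer (P : Set G), F x =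
      ∑ x ∈ Finset.univ.filter (fun x : G => x ∈ Subgroup.centralizer (P : Set G)), F x := by
    rw [← Finset.sum_subtype (Finset.univ.filter
      (fun x : G => x ∈ Subgroup.centralizer (P : Set G))) (by simp) F]
  rw [e3]
  exact h

/-- The sum over the group of an extension by zero. -/
theorem sum_extZ (K : Subgroup G) [Fintype K] (a : K → ℂ) :
    ∑ g : G, extZ K a g = ∑ k : K, a k := by
  classical
  have e3 : ∑ k : K, a k = ∑ k : K, extZ K a (k : G) := by
    refine Finset.sum_congr rfl fun k _ => ?_
    rw [extZ_coe]
  rw [e3, ← Finset.sum_subtype (Finset.univ.filter (fun x : G => x ∈ K)) (by simp)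
    (fun g => extZ K a g), Finset.sum_filter]
  refine Finset.sum_congr rfl fun g _ => ?_
  by_cases hg : g ∈ K
  · rw [if_pos hg]
  · rw [if_neg hg, extZ_of_not_mem K a hg]

/-- The central character of the trivial character at a function is the sum of its values. -/
theorem omega_trivIrr (F : G → ℂ) : omega (trivIrr G : G → ℂ) F = ∑ g, F g := by
  unfold omega
  rw [trivIrr_apply, div_one]
  refine Finset.sum_congr rfl fun g _ => ?_
  rw [trivIrr_apply, mul_one]

/-- For a `p`-group `R`, a function `F` on `G` invariant under `R` with values in the local ring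
whose restriction to `C_G(R)` is a class function, and `ξ` in the principal block of `C_G(R)`:
the Brauer functional of `ξ` at `F` is congruent to the sum of the values of `F`. -/
theorem brauerOmega_principal_cong (hM : IsPModular p M) (R : Subgroup G) (hR : IsPGroup p R)
    {F : G → ℂ} (hF : ∀ u ∈ R, ∀ x : G, F (u * x * u⁻¹) = F x) (hFS : ∀ g, MemLocalRing M (F g))
    (hFcf : IsClassFunction (Subgroup.centralizer (R : Set G))
      (fun d : Subgroup.centralizer (R : Set G) => F d))
    {ξ : IrrCharacter (Subgroup.centralizer (R : Set G))}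
    (hξ : ξ ∈ principalBlock M (Subgroup.centralizer (R : Set G))) :
    MemLocalIdeal M (brauerOmega R F (ξ : Subgroup.centralizer (R : Set G) → ℂ) - ∑ g : G, F g) := by
  classical
  have hMp := isPModular_isPrime hM
  have : Fintype (Subgroup.centralizer (R : Set G)) := Fintype.ofFinite _
  rw [brauerOmega_eq_omega]
  have hsb : SameBlock M (ξ : Subgroup.centralizer (R : Set G) → ℂ)
      (trivIrr (Subgroup.centralizer (R : Set G)) : Subgroup.centralizer (R : Set G) → ℂ) := by
    have h1 : SameBlock M (fun _ : Subgroup.centralizer (R : Set G) => (1 : ℂ))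
        (ξ : Subgroup.centralizer (R : Set G) → ℂ) := hξ
    have h2 : (trivIrr (Subgroup.centralizer (R : Set G)) :
        Subgroup.centralizer (R : Set G) → ℂ) = fun _ => 1 := by
      funext x
      rw [trivIrr_apply]
    rw [h2]
    exact sameBlock_symm h1
  have h1 := memLocalIdeal_omega_sub hMp ξ.2 (trivIrr _).2 hsb hFcf (fun d => hFS _)
  rw [omega_trivIrr] at h1
  have h2 := memLocalIdeal_sum_sub_sum_centralizer' hM R hR F hF hFS
  have h3 := memLocalIdeal_sub hMp h1 h2
  have e : ∀ a b c : ℂ, a - b - (c - b) = a - c := fun a b c => by ring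
  rw [e] at h3
  exact h3

/-- The sum of the coefficients of the idempotent of the principal block is `1`. -/
theorem sum_blockCoeff_principalBlock (hM : M ≠ ⊤) :
    ∑ g : G, blockCoeff (principalBlock M G) g = 1 := by
  classical
  rw [← omega_trivIrr, omega_blockCoeff, if_pos (trivIrr_mem_principalBlock hM)]

/-- **Third Main Theorem, easy half**: `(Q, b₀(C_G(Q)))` is a Brauer pair of the principal
block. -/
theorem isBrauerPairOf_principal (hM : IsPModular p M) (Q : Subgroup G) (hQ : IsPGroup p Q) :
    IsBrauerPairOf p M (principalBlock M G) Q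
      (principalBlock M (Subgroup.centralizer (Q : Set G))) := by
  classical
  have hMp := isPModular_isPrime hM
  refine ⟨⟨hQ, isPBlock_principalBlock⟩, isPBlock_principalBlock, ?_⟩
  intro ξ hξ
  obtain ⟨hcf, hS, _⟩ := blockCoeff_spec hMp (isPBlock_principalBlock (M := M) (G := G))
  have h := brauerOmega_principal_cong hM Q hQ (F := blockCoeff (principalBlock M G))
    (fun u _ x => hcf x u) hS (isClassFunction_restrict _ hcf) hξ
  rw [sum_blockCoeff_principalBlock hMp.ne_top] at h
  exact h

/-- The principal block is stable under conjugation. -/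
theorem conjIrr_image_principalBlock (K : Subgroup G) (x : G)
    (hx : x ∈ Subgroup.normalizer (K : Set G)) :
    conjIrr K x hx '' principalBlock M K = principalBlock M K := by
  have h1 : principalBlock M K = blockOf M (trivIrr K : K → ℂ) := by
    unfold principalBlock
    congr 1
  rw [h1, conjIrr_image_blockOf]
  have h2 : conjIrr K x hx (trivIrr K) = trivIrr K := by
    apply Subtype.ext
    funext k
    rw [conjIrr_apply, trivIrr_apply, trivIrr_apply]
  rw [h2]

/-- **Normal inclusion of principal pairs.** -/
theorem isNormalSubpair_principal (hM : IsPModular p M) (Q R : Subgroup G) (hR : IsPGroup p R)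
    (hQR : Q ≤ R) (hRN : R ≤ Subgroup.normalizer (Q : Set G)) :
    IsNormalSubpair p M Q (principalBlock M (Subgroup.centralizer (Q : Set G))) R
      (principalBlock M (Subgroup.centralizer (R : Set G))) := by
  classical
  have hMp := isPModular_isPrime hM
  have : Fintype (Subgroup.centralizer (Q : Set G)) := Fintype.ofFinite _
  have hKRQ : Subgroup.centralizer (R : Set G) ≤ Subgroup.centralizer (Q : Set G) :=
    Subgroup.centralizer_le (by exact_mod_cast hQR)
  have hNK := normalizer_le_normalizer_centralizer Q
  have hst : ∀ x ∈ R, StabilizesBlock (Subgroup.centralizer (Q : Set G))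
      (principalBlock M (Subgroup.centralizer (Q : Set G))) x := by
    intro x hx
    rw [stabilizesBlock_iff_image]
    exact ⟨hNK (hRN hx), conjIrr_image_principalBlock _ x _⟩
  refine ⟨⟨hR.to_le hQR, isPBlock_principalBlock⟩, ⟨hR, isPBlock_principalBlock⟩, hQR, hRN, hst, ?_⟩
  intro ξ hξ
  obtain ⟨hcf, hS, _⟩ := blockCoeff_spec hMp
    (isPBlock_principalBlock (M := M) (G := Subgroup.centralizer (Q : Set G)))
  rw [subgroupBlockCoeff_eq_extZ]
  have h := brauerOmega_principal_cong hM R hR
    (F := extZ (Subgroup.centralizer (Q : Set G))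
      (blockCoeff (principalBlock M (Subgroup.centralizer (Q : Set G)))))
    (fun u hu x => subgroupBlockCoeff_conj_of_stabilizes _ _ (hst u hu) x)
    (memLocalRing_extZ hMp.ne_top _ hS) (isClassFunction_extZ_restrict hKRQ hcf) hξ
  rw [sum_extZ, sum_blockCoeff_principalBlock hMp.ne_top] at h
  exact h

/-- Below a principal pair, all pairs are principal. -/
theorem eq_principalBlock_of_subpairRel (hM : IsPModular p M) {a b : BrauerPairIdx G}
    (h : Relation.ReflTransGen (NormalSubpairRel p M) a b)
    (hb : b.2 = principalBlock M (Subgroup.centralizer (b.1 : Set G))) :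
    a.2 = principalBlock M (Subgroup.centralizer (a.1 : Set G)) := by
  induction h using Relation.ReflTransGen.head_induction_on with
  | refl => exact hb
  | @head a c hac _ ih =>
    obtain ⟨Q, f⟩ := a
    obtain ⟨R, g⟩ := c
    change IsNormalSubpair p M Q f R g at hac
    change g = principalBlock M (Subgroup.centralizer (R : Set G)) at ih
    change f = principalBlock M (Subgroup.centralizer (Q : Set G))
    subst ih
    have h2 := isNormalSubpair_principal hM Q R hac.2.1.1 hac.2.2.1 hac.2.2.2.1
    exact isNormalSubpair_unique hM R Q hac h2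

/-- **Brauer's Third Main Theorem for Brauer pairs.** -/
theorem isBrauerPairOf_principal_iff [Fact p.Prime] (hM : IsPModular p M) (Q : Subgroup G)
    (hQ : IsPGroup p Q) (e : Set (IrrCharacter (Subgroup.centralizer (Q : Set G))))
    (he : IsPBlock M e) :
    IsBrauerPairOf p M (principalBlock M G) Q e ↔
      e = principalBlock M (Subgroup.centralizer (Q : Set G)) := by
  classical
  have hMp := isPModular_isPrime hM
  constructor
  · intro hQe
    obtain ⟨S, eS, hmax, hle⟩ := exists_isMaximalBrauerPair_ge (principalBlock M G) _ Q e hQe le_rfl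
    have hSD := isDefectGroup_of_isMaximalBrauerPair hM hmax
    have hSp : IsPGroup p S := hmax.1.1.1
    have hS0 := isBrauerPairOf_principal hM S hSp
    obtain ⟨x, _, hx, hxe⟩ := exists_conj_of_isBrauerPairOf_defectGroup hM hSD hS0 hmax.1
    rw [conjIrr_image_principalBlock] at hxe
    exact eq_principalBlock_of_subpairRel hM (a := ⟨Q, e⟩) (b := ⟨S, eS⟩) hle hxe
  · rintro rfl
    exact isBrauerPairOf_principal hM Q hQ

end

end Cfsg.Agent.Lib.Helper8
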