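import Mathlib
import Cfsg.Prelude.Def_Blocks
import Cfsg.Agent.Lib.Helper8.Cover3
import Cfsg.Agent.Lib.Helper6.PPrimeCore

/-!
# Covering blocks of normal `p'`-subgroups
-/

set_option autoImplicit false

namespace Cfsg.Agent.Lib.Helper8

open Cfsg
open scoped ComplexConjugate
open Cfsg.Agent.Lib.Helper1 Cfsg.Agent.Lib.Helper4

universe u

section

variable {K : Type u} [Group K] [Fintype K] {M : Ideal AlgInt} {p : ℕ}

/-- The blocks of a `p'`-group are singletons. -/
theorem blockOf_eq_singleton_of_pPrime (hM : IsPModular p M) (hK : ¬ p ∣ Nat.card K)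
    (θ : IrrCharacter K) : blockOf M (θ : K → ℂ) = {θ} := by
  apply blockOf_eq_singleton_of_not_dvd hM θ
  intro h
  apply hK
  exact h.trans (Nat.div_dvd_of_dvd (charDegree_dvd_card θ.2))

end

section

variable {G : Type u} [Group G] [Fintype G] (N : Subgroup G) [hN : N.Normal] [Fintype N]
  {M : Ideal AlgInt} {p : ℕ}

/-- If `B` covers the singleton block `{θ}`, then `θ` lies under every member of `B`. -/
theorem constituent_of_covers_singleton (hM : M.IsPrime) {B : Set (IrrCharacter G)}
    (hB : IsPBlock M B) {θ : IrrCharacter N} (hb : IsPBlock M ({θ} : Set (IrrCharacter N)))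
    (hcov : Covers N B {θ}) {ψ : IrrCharacter G} (hψ : ψ ∈ B) :
    classInner (fun n : N => (ψ : G → ℂ) n) (θ : N → ℂ) ≠ 0 := by
  classical
  have hres : IsCharacter N (fun n : N => (ψ : G → ℂ) n) :=
    Cfsg.Agent.S0148.isCharacter_restrict N (isCharacter_of_irr ψ.2)
  obtain ⟨ψ', hψ'⟩ := exists_irr_constituent hres (irr_apply_one_ne_zero ψ.2)
  obtain ⟨x, hx, θ', hθ', rfl⟩ := mem_gOrbit_of_covers N hM hB hb hcov hψ hψ'
  rw [Set.mem_singleton_iff] at hθ'
  subst hθ'
  have h2 : (conjIrr N x hx θ' : N → ℂ) = conjFn N (θ' : N → ℂ) x⁻¹ := by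
    funext n
    rw [conjIrr_apply, conjFn_apply]
    exact congrArg _ (Subtype.ext (by simp))
  rw [h2, classInner_restrict_conjFn N (isClassFunction_irr ψ.2)] at hψ'
  exact hψ'

/-- Over a normal `p'`-subgroup, characters in the same block have the same constituents. -/
theorem constituent_of_sameBlock (hM : IsPModular p M) (hNp : ¬ p ∣ Nat.card N)
    {χ ψ : IrrCharacter G} (h : SameBlock M (χ : G → ℂ) (ψ : G → ℂ)) {θ : IrrCharacter N}
    (hθ : classInner (fun n : N => (χ : G → ℂ) n) (θ : N → ℂ) ≠ 0) :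
    classInner (fun n : N => (ψ : G → ℂ) n) (θ : N → ℂ) ≠ 0 := by
  have hMp := isPModular_isPrime hM
  have hb : IsPBlock M ({θ} : Set (IrrCharacter N)) :=
    ⟨θ, (blockOf_eq_singleton_of_pPrime hM hNp θ).symm⟩
  have hB : IsPBlock M (blockOf M (χ : G → ℂ)) := ⟨χ, rfl⟩
  have hcov : Covers N (blockOf M (χ : G → ℂ)) {θ} :=
    ⟨χ, sameBlock_refl hMp.ne_top _, θ, rfl, hθ⟩
  exact constituent_of_covers_singleton N hMp hB hb hcov h

/-- The trivial character of `N` lies under `χ` iff `N` is in the kernel of `χ`. -/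
theorem constituent_one_iff {χ : G → ℂ} (hχ : IsIrrCharacter G χ) :
    classInner (fun n : N => χ n) (fun _ : N => (1 : ℂ)) ≠ 0 ↔ ∀ n ∈ N, χ n = χ 1 := by
  classical
  constructor
  · intro h n hn
    obtain ⟨c, -, hres⟩ :=
      restrict_eq_smul_indFun N hχ (Cfsg.Agent.S0161.isIrrCharacter_one (G := N)) h
    have e1 := congrFun hres ⟨n, hn⟩
    have e2 := congrFun hres 1
    simp only [Pi.smul_apply, smul_eq_mul] at e1 e2
    have h3 : indFun N (fun _ : N => (1 : ℂ)) n = indFun N (fun _ : N => (1 : ℂ)) 1 := by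
      have := indFun_normal_apply N (fun _ : N => (1 : ℂ)) ⟨n, hn⟩
      have h4 := indFun_normal_apply N (fun _ : N => (1 : ℂ)) 1
      simp only [conjFn_apply] at this h4
      change indFun N (fun _ : N => (1 : ℂ)) n = _ at this
      change indFun N (fun _ : N => (1 : ℂ)) 1 = _ at h4
      rw [this, h4]
    change χ n = _ at e1
    change χ 1 = _ at e2
    rw [e1, e2, h3]
    rfl
  · intro h
    have h1 : (fun n : N => χ n) = χ 1 • (fun _ : N => (1 : ℂ)) := by
      funext n
      rw [Pi.smul_apply, smul_eq_mul, mul_one]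
      exact h n n.2
    rw [h1, classInner_smul_left, classInner_irr_self Cfsg.Agent.S0161.isIrrCharacter_one, mul_one]
    exact irr_apply_one_ne_zero hχ

end

end Cfsg.Agent.Lib.Helper8
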