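import Mathlib
import Cfsg.Prelude.Def_Blocks
import Cfsg.Prelude.Def_BlockRank
import Cfsg.Agent.Lib.Helper8.Cover4
import Cfsg.Agent.S0939

/-!
# The principal block of a group with a normal `p`-complement: sum of squares
-/

set_option autoImplicit false

namespace Cfsg.Agent.Lib.Helper8

open Cfsg
open scoped ComplexConjugate
open Cfsg.Agent.Lib.Helper1 Cfsg.Agent.Lib.Helper4

universe u

section

variable {H : Type u} [Group H] [Fintype H] {M : Ideal AlgInt} {p : ℕ}

/-- The sum over the irreducible characters trivial on the normal subgroup `N` of the squares of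
their degrees is the index of `N`. -/
theorem sum_sq_degree_of_trivial_on [Fintype (IrrCharacter H)] (N : Subgroup H) [N.Normal] :
    ∑ χ : IrrCharacter H, (by classical exact
      if (∀ n ∈ N, (χ : H → ℂ) n = (χ : H → ℂ) 1) then (1 : ℂ) else 0) *
      ((χ : H → ℂ) 1 * (χ : H → ℂ) 1) = (N.index : ℂ) := by
  classical
  have : Fintype N := Fintype.ofFinite _
  have hconj1 : ∀ χ : IrrCharacter H, conj ((χ : H → ℂ) 1) = (χ : H → ℂ) 1 := by
    intro χ
    obtain ⟨n, hn⟩ := isCharacter_apply_one (isCharacter_of_irr χ.2)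
    rw [hn, Complex.conj_natCast]
  -- the double sum, computed in two ways
  have h1 : ∑ n : N, ∑ χ : IrrCharacter H, (χ : H → ℂ) (n : H) * conj ((χ : H → ℂ) 1) =
      (Nat.card H : ℂ) := by
    simp_rw [column_orthogonality]
    rw [Finset.sum_eq_single (1 : N)]
    · unfold classIndicator
      rw [if_pos (by rw [OneMemClass.coe_one]), mul_one]
      congr 1
      have : Subgroup.centralizer ({(1 : H)} : Set H) = ⊤ := by
        ext t
        simp [Subgroup.mem_centralizer_singleton_iff]
      rw [this, Subgroup.card_top]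
    · intro n _ hn
      unfold classIndicator
      rw [if_neg, mul_zero]
      intro hcon
      apply hn
      rw [isConj_one_right] at hcon
      exact OneMemClass.coe_eq_one.1 hcon
    · intro h
      exact absurd (Finset.mem_univ _) h
  have h2 : ∀ χ : IrrCharacter H, ∑ n : N, (χ : H → ℂ) (n : H) * conj ((χ : H → ℂ) 1) =
      (Nat.card N : ℂ) * ((if (∀ n ∈ N, (χ : H → ℂ) n = (χ : H → ℂ) 1) then (1 : ℂ) else 0) *
        ((χ : H → ℂ) 1 * (χ : H → ℂ) 1)) := by
    intro χ
    have hN0 : (Nat.card N : ℂ) ≠ 0 := Nat.cast_ne_zero.2 Nat.card_pos.ne'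
    rw [hconj1, ← Finset.sum_mul]
    have h3 : ∑ n : N, (χ : H → ℂ) (n : H) = (Nat.card N : ℂ) *
        classInner (fun n : N => (χ : H → ℂ) n) (fun _ : N => (1 : ℂ)) := by
      rw [classInner_def, ← mul_assoc, mul_inv_cancel₀ hN0, one_mul]
      refine Finset.sum_congr rfl fun n _ => ?_
      rw [map_one, mul_one]
    rw [h3]
    by_cases hk : ∀ n ∈ N, (χ : H → ℂ) n = (χ : H → ℂ) 1
    · rw [if_pos hk, one_mul, classInner_def]
      have : ∑ n : N, (fun n : N => (χ : H → ℂ) n) n * conj ((fun _ : N => (1 : ℂ)) n) =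
          (Nat.card N : ℂ) * (χ : H → ℂ) 1 := by
        rw [Nat.card_eq_fintype_card, ← Finset.card_univ, ← nsmul_eq_mul, ← Finset.sum_const]
        refine Finset.sum_congr rfl fun n _ => ?_
        show (χ : H → ℂ) (n : H) * conj (1 : ℂ) = _
        rw [map_one, mul_one, hk n n.2]
      rw [this, ← mul_assoc (_)⁻¹, inv_mul_cancel₀ hN0, one_mul, mul_assoc]
    · rw [if_neg hk, zero_mul, mul_zero]
      have := (constituent_one_iff N χ.2).not.2 hk
      rw [not_not] at this
      rw [this, mul_zero, zero_mul]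
  rw [Finset.sum_comm] at h1
  simp_rw [h2] at h1
  rw [← Finset.mul_sum] at h1
  have hidx : (Nat.card H : ℂ) = (Nat.card N : ℂ) * (N.index : ℂ) := by
    rw [← Nat.cast_mul, Subgroup.card_mul_index]
  rw [hidx] at h1
  exact mul_left_cancel₀ (Nat.cast_ne_zero.2 Nat.card_pos.ne') h1

/-- In a group with a normal `p`-complement, the sum of `|χ y|²` over the principal block at a
`p`-regular element `y` is the order of a Sylow `p`-subgroup. -/
theorem sum_principal_of_normal_pComplement [Fact p.Prime] [Fintype (IrrCharacter H)]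
    (hM : IsPModular p M) (hnc : ∃ k : ℕ, (pPrimeCore p H).index = p ^ k) {y : H}
    (hy : ¬ p ∣ orderOf y) :
    ∑ χ : IrrCharacter H, (by classical exact if χ ∈ principalBlock M H then (1 : ℂ) else 0) *
      (conj ((χ : H → ℂ) y) * (χ : H → ℂ) y) =
      ((p ^ (Nat.card H).factorization p : ℕ) : ℂ) := by
  classical
  have hp : p.Prime := Fact.out
  obtain ⟨hNn, hNc⟩ := Cfsg.Agent.Lib.Helper6.pPrimeCore_mem_set (G := H) p
  have hB0 := Cfsg.Agent.S0939.result p M hM hnc
  obtain ⟨k, hk⟩ := hnc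
  have hyN : y ∈ pPrimeCore p H := by
    have h1 : y ^ p ^ k ∈ pPrimeCore p H := by
      rw [← hk]
      exact Subgroup.pow_index_mem _ y
    have hco : (p ^ k).Coprime (orderOf y) :=
      Nat.Coprime.pow_left k ((Nat.Prime.coprime_iff_not_dvd hp).2 hy)
    obtain ⟨m, hm⟩ := exists_pow_eq_self_of_coprime hco
    rw [← hm]
    exact Subgroup.pow_mem _ h1 m
  have hfac : (Nat.card H).factorization p = k := by
    rw [← Subgroup.card_mul_index (pPrimeCore p H), hk,
      Nat.factorization_mul Nat.card_pos.ne' (pow_ne_zero k hp.ne_zero), Finsupp.add_apply,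
      Nat.factorization_pow, Finsupp.smul_apply, hp.factorization_self, smul_eq_mul, mul_one,
      Nat.factorization_eq_zero_of_not_dvd, zero_add]
    intro hdvd
    exact hp.one_lt.ne' (Nat.Coprime.eq_one_of_dvd hNc.symm hdvd)
  rw [hfac, ← hk, ← sum_sq_degree_of_trivial_on (pPrimeCore p H)]
  refine Finset.sum_congr rfl fun χ _ => ?_
  have hmem : χ ∈ principalBlock M H ↔ ∀ n ∈ pPrimeCore p H, (χ : H → ℂ) n = (χ : H → ℂ) 1 := by
    rw [hB0]
    rfl
  by_cases hχ : χ ∈ principalBlock M H
  · have hχ' := hmem.1 hχ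
    have e1 : (by classical exact if χ ∈ principalBlock M H then (1 : ℂ) else 0) = (1 : ℂ) := by
      simp only [hχ, if_true]
    have e2 : (by classical exact
        if (∀ n ∈ pPrimeCore p H, (χ : H → ℂ) n = (χ : H → ℂ) 1) then (1 : ℂ) else 0) = (1 : ℂ) := by
      simp only [if_pos hχ']
    rw [e1, e2, hχ' y hyN]
    obtain ⟨n, hn⟩ := isCharacter_apply_one (isCharacter_of_irr χ.2)
    rw [hn, Complex.conj_natCast]
  · have hχ' : ¬ ∀ n ∈ pPrimeCore p H, (χ : H → ℂ) n = (χ : H → ℂ) 1 := fun h => hχ (hmem.2 h)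
    have e1 : (by classical exact if χ ∈ principalBlock M H then (1 : ℂ) else 0) = (0 : ℂ) := by
      simp only [hχ, if_false]
    have e2 : (by classical exact
        if (∀ n ∈ pPrimeCore p H, (χ : H → ℂ) n = (χ : H → ℂ) 1) then (1 : ℂ) else 0) = (0 : ℂ) := by
      simp only [if_neg hχ']
    rw [e1, e2, zero_mul, zero_mul]

end

end Cfsg.Agent.Lib.Helper8
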