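import Mathlib
import Cfsg.Prelude.Def_Blocks
import Cfsg.Prelude.Def_BlockRank
import Cfsg.Agent.Lib.Helper8.Sub16
import Cfsg.Agent.Lib.Helper8.Sub17

/-!
# Sums of squared norms over a set of irreducible characters
-/

set_option autoImplicit false

namespace Cfsg.Agent.Lib.Helper8

open Cfsg
open scoped ComplexConjugate
open Cfsg.Agent.Lib.Helper1 Cfsg.Agent.Lib.Helper4

universe u

section

variable {G : Type u} [Group G] [Finite G]

/-- The `finsum` of squared norms over a set of irreducible characters, as a complex indicator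
sum. -/
theorem finsum_mem_norm_sq_eq [Fintype (IrrCharacter G)] (B : Set (IrrCharacter G)) (g : G) :
    ((∑ᶠ ζ ∈ B, ‖(ζ : G → ℂ) g‖ ^ 2 : ℝ) : ℂ) =
      ∑ ζ : IrrCharacter G, (by classical exact if ζ ∈ B then (1 : ℂ) else 0) *
        (conj ((ζ : G → ℂ) g) * (ζ : G → ℂ) g) := by
  classical
  rw [finsum_mem_eq_finite_toFinset_sum _ (Set.toFinite B)]
  have hf : (Set.toFinite B).toFinset = Finset.univ.filter (fun ζ => ζ ∈ B) := by
    ext ζ
    simp
  rw [hf, Finset.sum_filter, Complex.ofReal_sum]
  refine Finset.sum_congr rfl fun ζ _ => ?_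
  by_cases hζ : ζ ∈ B
  · rw [if_pos hζ]
    have : (by classical exact if ζ ∈ B then (1 : ℂ) else 0) = (1 : ℂ) := by
      simp only [hζ, if_true]
    rw [this, one_mul, Complex.conj_mul', Complex.ofReal_pow]
  · rw [if_neg hζ]
    have : (by classical exact if ζ ∈ B then (1 : ℂ) else 0) = (0 : ℂ) := by
      simp only [hζ, if_false]
    rw [this, zero_mul, Complex.ofReal_zero]

end

end Cfsg.Agent.Lib.Helper8
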