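import Mathlib
import Cfsg.Prelude.Def_Blocks
import Cfsg.Prelude.Def_BlockRank
import Cfsg.Agent.Lib.Helper8.Sub18
import Cfsg.Agent.Lib.Helper8.SM7
import Cfsg.Agent.Lib.Helper8.Deflation

/-!
# Principal block sums at `p`-elements
-/

set_option autoImplicit false

namespace Cfsg.Agent.Lib.Helper8

open Cfsg
open scoped ComplexConjugate
open Cfsg.Agent.Lib.Helper1 Cfsg.Agent.Lib.Helper4

universe u

section

variable {G : Type u} [Group G] [Fintype G] {M : Ideal AlgInt} {p : ℕ}

omit [Fintype G] in
/-- A `p`-element is its own `p`-part. -/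
theorem isPPart_self {u : G} (hu : ∃ k : ℕ, orderOf u = p ^ k) (hp : p.Prime) : IsPPart p u u := by
  refine ⟨1, mul_one u, Commute.one_right u, hu, ?_⟩
  rw [orderOf_one]
  exact fun h => hp.one_lt.ne' (Nat.dvd_one.1 h)

/-- The principal block sum `∑ conj χ(u) χ(v)` over the principal block. -/
noncomputable def prinT (M : Ideal AlgInt) (u v : G) : ℂ :=
  ∑ᶠ χ ∈ principalBlock M G, conj ((χ : G → ℂ) u) * (χ : G → ℂ) v

theorem prinT_eq_zero [Fact p.Prime] (hM : IsPModular p M) {u v : G}
    (hu : ∃ k : ℕ, orderOf u = p ^ k) (hv : ∃ k : ℕ, orderOf v = p ^ k) (h : ¬ IsConj u v) :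
    prinT M u v = 0 := by
  classical
  have hp := (Fact.out : p.Prime)
  have key := block_orthogonality hM (isPBlock_principalBlock (M := M) (G := G))
    (isPPart_self hv hp) (isPPart_self hu hp) (fun hc => h hc.symm)
  unfold prinT
  rw [← key]
  refine finsum_congr fun χ => ?_
  refine finsum_congr fun _ => ?_
  rw [isCharacter_inv (isCharacter_of_irr χ.2)]
  ring

theorem prinT_conj [Fact p.Prime] (hM : IsPModular p M) {u : G}
    (hu : ∃ k : ℕ, orderOf u = p ^ k) (g : G) :
    prinT M u (g * u * g⁻¹) =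
      ((∑ᶠ ψ ∈ principalBlock M (Subgroup.centralizer ({u} : Set G)),
        (charDegree (ψ : Subgroup.centralizer ({u} : Set G) → ℂ) : ℚ) ^ 2 : ℚ) : ℂ) := by
  classical
  have : Fintype (IrrCharacter G) := Fintype.ofFinite _
  have : Fintype (Subgroup.centralizer ({u} : Set G)) := Fintype.ofFinite _
  have : Fintype (IrrCharacter (Subgroup.centralizer ({u} : Set G))) := Fintype.ofFinite _
  have h1 : ¬ p ∣ orderOf (1 : Subgroup.centralizer ({u} : Set G)) := by
    rw [orderOf_one]
    exact fun h => (Fact.out : p.Prime).one_lt.ne' (Nat.dvd_one.1 h)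
  have key := sum_principal_section hM u hu h1
  unfold prinT
  rw [finsum_mem_eq_sum_indicator]
  have e1 : ∀ χ : IrrCharacter G, (χ : G → ℂ) (g * u * g⁻¹) = (χ : G → ℂ) u := fun χ =>
    isClassFunction_irr χ.2 u g
  simp only [e1]
  simp only [OneMemClass.coe_one, mul_one] at key
  rw [key]
  rw [finsum_mem_eq_finite_toFinset_sum _ (Set.toFinite _)]
  rw [Rat.cast_sum]
  have hf : (Set.toFinite (principalBlock M (Subgroup.centralizer ({u} : Set G)))).toFinset =
      Finset.univ.filter (fun ζ => ζ ∈ principalBlock M (Subgroup.centralizer ({u} : Set G))) := by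
    ext ζ
    simp
  rw [hf, Finset.sum_filter]
  refine Finset.sum_congr rfl fun ψ _ => ?_
  have hd := (irr_apply_one_eq_charDegree ψ.2).1
  by_cases hψ : ψ ∈ principalBlock M (Subgroup.centralizer ({u} : Set G))
  · simp only [hψ, if_true]
    rw [one_mul, hd]
    push_cast
    rw [Complex.conj_natCast]
    ring
  · simp only [hψ, if_false]
    rw [zero_mul]

end

end Cfsg.Agent.Lib.Helper8
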