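import Mathlib
import Cfsg.Prelude.Def_Blocks
import Cfsg.Prelude.Def_BlockRank
import Cfsg.Agent.Lib.Helper8.BA1
import Cfsg.Agent.Lib.Helper8.ClassAlgebra
import Cfsg.Agent.Lib.Helper8.CharPPart

/-!
# Brauer's involution formulas for the principal 2-block
-/

set_option autoImplicit false

namespace Cfsg.Agent.Lib.Helper8

open Cfsg
open scoped ComplexConjugate
open Cfsg.Agent.Lib.Helper1 Cfsg.Agent.Lib.Helper4

universe u

section

variable {G : Type u} [Group G] [Fintype G] {M : Ideal AlgInt} {p : ℕ}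

/-- Block orthogonality for the principal block in indicator form. -/
theorem prin_orth [Fact p.Prime] [Fintype (IrrCharacter G)] (hM : IsPModular p M) {g u z : G}
    (hgz : IsPPart p g z) (hu : ∃ k : ℕ, orderOf u = p ^ k) (hn : ¬ IsConj z u) :
    ∑ χ : IrrCharacter G, (by classical exact if χ ∈ principalBlock M G then (1 : ℂ) else 0) *
      (conj ((χ : G → ℂ) u) * (χ : G → ℂ) g) = 0 := by
  classical
  have hp := (Fact.out : p.Prime)
  have key := block_orthogonality hM (isPBlock_principalBlock (M := M) (G := G))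
    hgz (isPPart_self hu hp) hn
  rw [finsum_mem_eq_sum_indicator] at key
  refine Eq.trans ?_ key
  refine Finset.sum_congr rfl fun χ _ => ?_
  rw [isCharacter_inv (isCharacter_of_irr χ.2)]
  ring

/-- The three vanishing sums. -/
theorem prin2_sums [Fintype (IrrCharacter G)] (hM : IsPModular 2 M) (t : G) (ht : orderOf t = 2)
    (u : G) (hu : ∃ k : ℕ, orderOf u = 2 ^ k)
    (hinv : ∀ g : G, (g * t * g⁻¹) * u * (g * t * g⁻¹)⁻¹ ≠ u⁻¹) :
    (∑ χ : IrrCharacter G, (by classical exact if χ ∈ principalBlock M G then (1 : ℂ) else 0) *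
      (conj ((χ : G → ℂ) u) * ((χ : G → ℂ) t ^ 2 / (χ : G → ℂ) 1)) = 0) ∧
    (∑ χ : IrrCharacter G, (by classical exact if χ ∈ principalBlock M G then (1 : ℂ) else 0) *
      (conj ((χ : G → ℂ) u) * (χ : G → ℂ) 1) = 0) ∧
    (∑ χ : IrrCharacter G, (by classical exact if χ ∈ principalBlock M G then (1 : ℂ) else 0) *
      (conj ((χ : G → ℂ) u) * (χ : G → ℂ) t) = 0) := by
  classical
  have hp2 : (2 : ℕ).Prime := Nat.prime_two
  have ht2 : t * t = 1 := by
    have := pow_orderOf_eq_one t
    rw [ht, pow_two] at this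
    exact this
  have htinv : t⁻¹ = t := inv_eq_of_mul_eq_one_right ht2
  refine ⟨?_, ?_, ?_⟩
  · -- first sum
    have hG : (Fintype.card G : ℂ) ≠ 0 := Nat.cast_ne_zero.2 Fintype.card_pos.ne'
    have h1 : ∀ χ : IrrCharacter G, (χ : G → ℂ) t ^ 2 / (χ : G → ℂ) 1 =
        (Fintype.card G : ℂ)⁻¹ * ∑ y : G, (χ : G → ℂ) (t * (y * t * y⁻¹)) := by
      intro χ
      rw [sum_irr_mul_conj χ.2 t t]
      field_simp
    simp only [h1]
    have h2 : ∀ χ : IrrCharacter G, (if χ ∈ principalBlock M G then (1 : ℂ) else 0) *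
        (conj ((χ : G → ℂ) u) * ((Fintype.card G : ℂ)⁻¹ * ∑ y : G, (χ : G → ℂ) (t * (y * t * y⁻¹))))
        = (Fintype.card G : ℂ)⁻¹ * ∑ y : G, (if χ ∈ principalBlock M G then (1 : ℂ) else 0) *
          (conj ((χ : G → ℂ) u) * (χ : G → ℂ) (t * (y * t * y⁻¹))) := by
      intro χ
      rw [Finset.mul_sum, Finset.mul_sum, Finset.mul_sum, Finset.mul_sum]
      refine Finset.sum_congr rfl fun y _ => ?_
      ring
    simp only [h2]
    rw [← Finset.mul_sum, Finset.sum_comm]
    have h3 : ∀ y : G, ∑ χ : IrrCharacter G, (if χ ∈ principalBlock M G then (1 : ℂ) else 0) *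
        (conj ((χ : G → ℂ) u) * (χ : G → ℂ) (t * (y * t * y⁻¹))) = 0 := by
      intro y
      obtain ⟨z, hz⟩ := exists_isPPart hp2 (t * (y * t * y⁻¹))
      have := prin_orth (p := 2) hM hz hu ?_
      · convert this
      · intro hc
        rw [isConj_iff] at hc
        obtain ⟨c, hc⟩ := hc
        obtain ⟨m, hm⟩ := IsPPart.exists_zpow hp2 hz
        apply hinv c
        have hg : t * (t * (y * t * y⁻¹)) * t⁻¹ = (t * (y * t * y⁻¹))⁻¹ := by
          rw [htinv]
          have : (t * (y * t * y⁻¹))⁻¹ = y * t⁻¹ * y⁻¹ * t⁻¹ := by group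
          rw [this, htinv, ← mul_assoc, ← mul_assoc, ht2, one_mul]
        have hzinv : t * z * t⁻¹ = z⁻¹ := by
          rw [hm, ← zpow_neg, ← inv_zpow', ← hg]
          have : t * (t * (y * t * y⁻¹)) ^ m * t⁻¹ = (t * (t * (y * t * y⁻¹)) * t⁻¹) ^ m := by
            rw [← MulAut.conj_apply, map_zpow, MulAut.conj_apply]
          exact this
        rw [← hc]
        calc c * t * c⁻¹ * (c * z * c⁻¹) * (c * t * c⁻¹)⁻¹ = c * (t * z * t⁻¹) * c⁻¹ := by group
          _ = (c * z * c⁻¹)⁻¹ := by rw [hzinv]; group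
    simp only [h3]
    simp
  · -- second sum
    have h1 : IsPPart 2 (1 : G) 1 := isPPart_self ⟨0, by simp⟩ hp2
    have := prin_orth (p := 2) hM h1 hu ?_
    · convert this
    · intro hc
      have hu1 : u = 1 := (isConj_one_right.1 hc)
      apply hinv 1
      rw [hu1]
      group
  · -- third sum
    have h1 : IsPPart 2 t t := isPPart_self ⟨1, by rw [ht, pow_one]⟩ hp2
    have := prin_orth (p := 2) hM h1 hu ?_
    · convert this
    · intro hc
      rw [isConj_iff] at hc
      obtain ⟨c, hc⟩ := hc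
      apply hinv c
      rw [hc]
      have huu : u * u = 1 := by
        rw [← hc]
        calc c * t * c⁻¹ * (c * t * c⁻¹) = c * (t * t) * c⁻¹ := by group
          _ = 1 := by rw [ht2]; group
      have : u⁻¹ = u := inv_eq_of_mul_eq_one_right huu
      rw [this, huu, one_mul]

end

end Cfsg.Agent.Lib.Helper8
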