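import Mathlib

/-!
# A sign lemma for weights annihilating quadratic polynomials
-/

set_option autoImplicit false

namespace Cfsg.Agent.Lib.Helper8

section

variable {ι : Type*} [Fintype ι] [DecidableEq ι]

theorem sum_weight_shift_sq (w r : ι → ℝ) (h0 : ∑ i, w i = 0) (h1 : ∑ i, w i * r i = 0)
    (h2 : ∑ i, w i * r i ^ 2 = 0) (c : ℝ) : ∑ i, w i * (r i - c) ^ 2 = 0 := by
  have : ∀ i, w i * (r i - c) ^ 2 = w i * r i ^ 2 - 2 * c * (w i * r i) + c ^ 2 * w i := by
    intro i; ring
  simp only [this]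
  rw [Finset.sum_add_distrib, Finset.sum_sub_distrib, ← Finset.mul_sum, ← Finset.mul_sum, h0, h1, h2]
  ring

theorem sign_aux (w r : ι → ℝ) (h0 : ∑ i, w i = 0) (h1 : ∑ i, w i * r i = 0)
    (h2 : ∑ i, w i * r i ^ 2 = 0) (i₀ : ι) (hi₀ : w i₀ ≠ 0)
    (hc : (Finset.univ.filter (fun i => 0 < w i)).card < 2) :
    ∃ j, w j * w i₀ < 0 ∧ r j = r i₀ := by
  classical
  have hpos : ∃ i, 0 < w i := by
    by_contra hne
    push Not at hne
    have := (Finset.sum_eq_zero_iff_of_nonpos (fun i _ => hne i)).1 h0 i₀ (Finset.mem_univ _)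
    exact hi₀ this
  have hneg : ∃ i, w i < 0 := by
    by_contra hne
    push Not at hne
    have := (Finset.sum_eq_zero_iff_of_nonneg (fun i _ => hne i)).1 h0 i₀ (Finset.mem_univ _)
    exact hi₀ this
  obtain ⟨s0, hs0⟩ := hpos
  have hmem : s0 ∈ Finset.univ.filter (fun i => 0 < w i) :=
    Finset.mem_filter.2 ⟨Finset.mem_univ _, hs0⟩
  have hcard : (Finset.univ.filter (fun i => 0 < w i)).card = 1 := by
    have : 0 < (Finset.univ.filter (fun i => 0 < w i)).card := Finset.card_pos.2 ⟨s0, hmem⟩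
    omega
  obtain ⟨s, hs⟩ := Finset.card_eq_one.1 hcard
  have hss : 0 < w s := by
    have : s ∈ Finset.univ.filter (fun i => 0 < w i) := by rw [hs]; exact Finset.mem_singleton_self s
    exact (Finset.mem_filter.1 this).2
  have hle : ∀ i, i ≠ s → w i ≤ 0 := by
    intro i his
    by_contra hgt
    push Not at hgt
    have : i ∈ Finset.univ.filter (fun i => 0 < w i) := Finset.mem_filter.2 ⟨Finset.mem_univ _, hgt⟩
    rw [hs] at this
    exact his (Finset.mem_singleton.1 this)
  have hsq := sum_weight_shift_sq w r h0 h1 h2 (r s)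
  have hterm : ∀ i ∈ Finset.univ, w i * (r i - r s) ^ 2 ≤ 0 := by
    intro i _
    by_cases his : i = s
    · rw [his, sub_self]; simp
    · exact mul_nonpos_of_nonpos_of_nonneg (hle i his) (sq_nonneg _)
  have hall := (Finset.sum_eq_zero_iff_of_nonpos hterm).1 hsq
  have heq : ∀ i, w i ≠ 0 → r i = r s := by
    intro i hi
    have := hall i (Finset.mem_univ _)
    rcases mul_eq_zero.1 this with h | h
    · exact absurd h hi
    · have := pow_eq_zero_iff (two_ne_zero) |>.1 h
      linarith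
  by_cases h0s : i₀ = s
  · obtain ⟨j, hj⟩ := hneg
    refine ⟨j, ?_, ?_⟩
    · rw [h0s]
      exact mul_neg_of_neg_of_pos hj hss
    · rw [heq j hj.ne, h0s]
  · refine ⟨s, ?_, ?_⟩
    · have : w i₀ < 0 := lt_of_le_of_ne (hle i₀ h0s) hi₀
      exact mul_neg_of_pos_of_neg hss this
    · rw [heq i₀ hi₀]

theorem sign_lemma (w r : ι → ℝ) (h0 : ∑ i, w i = 0) (h1 : ∑ i, w i * r i = 0)
    (h2 : ∑ i, w i * r i ^ 2 = 0) (i₀ : ι) (hi₀ : w i₀ ≠ 0) :
    (2 ≤ (Finset.univ.filter (fun i => 0 < w i)).card ∧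
      2 ≤ (Finset.univ.filter (fun i => w i < 0)).card) ∨
    ∃ j, w j * w i₀ < 0 ∧ r j = r i₀ := by
  classical
  by_cases hA : 2 ≤ (Finset.univ.filter (fun i => 0 < w i)).card
  · by_cases hB : 2 ≤ (Finset.univ.filter (fun i => w i < 0)).card
    · exact Or.inl ⟨hA, hB⟩
    · right
      have hB' : (Finset.univ.filter (fun i => 0 < (fun i => - w i) i)).card < 2 := by
        have : Finset.univ.filter (fun i => 0 < (fun i => - w i) i) =
            Finset.univ.filter (fun i => w i < 0) := by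
          ext i
          simp
        rw [this]
        omega
      obtain ⟨j, hj1, hj2⟩ := sign_aux (fun i => - w i) r (by simp [h0])
        (by simp only [neg_mul, Finset.sum_neg_distrib, h1, neg_zero])
        (by simp only [neg_mul, Finset.sum_neg_distrib, h2, neg_zero]) i₀
        (by simpa using hi₀) hB'
      refine ⟨j, ?_, hj2⟩
      have : (fun i => - w i) j * (fun i => - w i) i₀ = w j * w i₀ := by
        show - w j * - w i₀ = w j * w i₀
        ring
      rw [← this]
      exact hj1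
  · right
    exact sign_aux w r h0 h1 h2 i₀ hi₀ (by omega)

end

end Cfsg.Agent.Lib.Helper8
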