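import Mathlib
import Cfsg.Prelude.Def_Blocks
import Cfsg.Agent.Lib.Helper8.Cover4
import Cfsg.Agent.Lib.Helper8.CharKernel

/-!
# The kernel of a block (Navarro 6.10)
-/

set_option autoImplicit false

namespace Cfsg.Agent.Lib.Helper8

open Cfsg
open scoped ComplexConjugate
open Cfsg.Agent.Lib.Helper1 Cfsg.Agent.Lib.Helper4

universe u

section

variable {G : Type u} [Group G] [Fintype G] {M : Ideal AlgInt} {p : ℕ}

omit [Fintype G] in
/-- The kernel of a set of irreducible characters is a normal subgroup. -/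
theorem exists_normal_blockKer [Finite G] (B : Set (IrrCharacter G)) :
    ∃ K : Subgroup G, K.Normal ∧ (K : Set G) = blockKer B := by
  classical
  have h : ∀ ψ : IrrCharacter G, ∃ K : Subgroup G, K.Normal ∧
      ∀ g : G, g ∈ K ↔ (ψ : G → ℂ) g = (ψ : G → ℂ) 1 :=
    fun ψ => exists_normal_ker (isCharacter_of_irr ψ.2)
  choose Kf hKn hKmem using h
  refine ⟨⨅ ψ : B, Kf ψ, ?_, ?_⟩
  · exact Subgroup.normal_iInf_normal (fun ψ => hKn ψ)
  · ext g
    simp only [Subgroup.coe_iInf, Set.mem_iInter, SetLike.mem_coe]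
    unfold blockKer
    constructor
    · intro h ψ hψ
      exact (hKmem ψ g).1 (h ⟨ψ, hψ⟩)
    · intro h ψ
      exact (hKmem ψ g).2 (h ψ ψ.2)

omit [Fintype G] in
/-- The idempotent coefficients of `B` are constant on the kernel of `B`. -/
theorem blockCoeff_of_mem_blockKer (B : Set (IrrCharacter G)) {g : G} (hg : g ∈ blockKer B) :
    blockCoeff B g = blockCoeff B 1 := by
  unfold blockCoeff
  congr 1
  refine finsum_congr fun ψ => finsum_congr fun hψ => ?_
  rw [hg ψ hψ]

/-- The kernel of a block has no `p`-singular elements. -/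
theorem not_dvd_orderOf_of_mem_blockKer (hM : IsPModular p M) {B : Set (IrrCharacter G)}
    (hB : IsPBlock M B) {g : G} (hg : g ∈ blockKer B) : ¬ p ∣ orderOf g := by
  intro hdvd
  have h1 := blockCoeff_eq_zero_of_dvd_orderOf hM hB hdvd
  rw [blockCoeff_of_mem_blockKer B hg] at h1
  obtain ⟨χ, hχ⟩ := isPBlock_nonempty (isPModular_isPrime hM) hB
  exact blockCoeff_one_ne_zero ⟨χ, hχ⟩ h1

end

end Cfsg.Agent.Lib.Helper8
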