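import Mathlib
import Cfsg.Prelude.Def_Blocks
import Cfsg.Prelude.Def_Local
import Cfsg.Agent.Lib.Helper8.Sub7
import Cfsg.Agent.Lib.Helper8.Sub10
import Cfsg.Agent.Lib.Helper8.Sub12
import Cfsg.Agent.Lib.Helper8.Sub6
import Cfsg.Agent.Lib.Helper8.CharKernel
import Cfsg.Agent.Lib.Helper6.PPrimeCore
import Cfsg.Agent.S0936
import Cfsg.Agent.S0938
import Cfsg.Agent.S0139

/-!
# Principal block characters on `u · O_{p'}(C_G(u))`
-/

set_option autoImplicit false
set_option maxHeartbeats 800000

namespace Cfsg.Agent.Lib.Helper8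

open Cfsg
open scoped ComplexConjugate
open Cfsg.Agent.Lib.Helper1 Cfsg.Agent.Lib.Helper4

universe u

section

variable {G : Type u} [Group G]

/-- Elements of the kernel of a character can be cancelled. -/
theorem character_mul_of_ker [Finite G] {χ : G → ℂ} (hχ : IsCharacter G χ) {n : G}
    (hn : χ n = χ 1) (g : G) : χ (n * g) = χ g := by
  obtain ⟨k, ρ, rfl⟩ := hχ
  have h1 : ρ n = LinearMap.id := by
    rw [← Cfsg.Agent.S0139.result ρ n, hn, Representation.char_one]
  show LinearMap.trace ℂ _ (ρ (n * g)) = LinearMap.trace ℂ _ (ρ g)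
  rw [map_mul, h1]
  rfl

end

section

variable {G : Type u} [Group G] [Fintype G] {M : Ideal AlgInt} {p : ℕ} [Fact p.Prime]

/-- Members of the principal block are trivial on `O_{p'}`. -/
theorem principalBlock_apply_pPrimeCore (hM : IsPModular p M) {ψ : IrrCharacter G}
    (hψ : ψ ∈ principalBlock M G) {n : G} (hn : n ∈ pPrimeCore p G) :
    (ψ : G → ℂ) n = (ψ : G → ℂ) 1 := by
  classical
  have hMp := isPModular_isPrime hM
  obtain ⟨hNn, hNc⟩ := Cfsg.Agent.Lib.Helper6.pPrimeCore_mem_set (G := G) p
  have hpp : p.Prime := Fact.out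
  have hNp : ¬ p ∣ Nat.card (pPrimeCore p G) := by
    intro h
    have := Nat.Coprime.eq_one_of_dvd hNc.symm h
    exact hpp.one_lt.ne' this
  have hB : IsPBlock M (principalBlock M G) := ⟨trivIrr G, rfl⟩
  have htriv : trivIrr G ∈ principalBlock M G := sameBlock_refl hMp.ne_top _
  obtain ⟨K, _, hK, _, _, hmax⟩ := Cfsg.Agent.S0938.result p M hM (principalBlock M G) hB
    (trivIrr G) htriv
  have hle := hmax (pPrimeCore p G) hNn hNp (fun g _ => by rw [trivIrr_apply, trivIrr_apply])
  have : n ∈ blockKer (principalBlock M G) := by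
    rw [← hK]
    exact hle hn
  exact this ψ hψ

/-- **Principal block characters are constant on `u · O_{p'}(C_G(u))`.** -/
theorem principal_apply_mul_core (hM : IsPModular p M) {u : G} (hu : ∃ k : ℕ, orderOf u = p ^ k)
    {v : G} (hv : v ∈ centralizerPPrimeCore p u) {χ : IrrCharacter G}
    (hχ : χ ∈ principalBlock M G) : (χ : G → ℂ) (u * v) = (χ : G → ℂ) u := by
  classical
  have hMp := isPModular_isPrime hM
  set C := Subgroup.centralizer ({u} : Set G) with hCdef
  have : Fintype C := Fintype.ofFinite _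
  have hC : ∀ t, t ∈ C ↔ t * u = u * t := fun t => Subgroup.mem_centralizer_singleton_iff
  obtain ⟨v', hv', rfl⟩ := hv
  have hv'core : v' ∈ pPrimeCore p C := hv'
  set ϑ : C → ℂ := fun c : C => (χ : G → ℂ) (u * (c : G)) with hϑ
  have hϑcf : IsClassFunction C ϑ := isClassFunction_section C hC (isClassFunction_irr χ.2)
  -- `p`-regularity of `v'`
  obtain ⟨hNn, hNc⟩ := Cfsg.Agent.Lib.Helper6.pPrimeCore_mem_set (G := C) p
  have hpp : p.Prime := Fact.out
  have hv'reg : ¬ p ∣ orderOf v' := by
    intro hdvd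
    have h1 : orderOf (⟨v', hv'core⟩ : pPrimeCore p C) = orderOf v' := Subgroup.orderOf_mk _ _
    have h2 : orderOf (⟨v', hv'core⟩ : pPrimeCore p C) ∣ Nat.card (pPrimeCore p C) :=
      orderOf_dvd_natCard _
    rw [h1] at h2
    have := Nat.Coprime.eq_one_of_dvd hNc.symm (hdvd.trans h2)
    exact hpp.one_lt.ne' this
  have h1reg : ¬ p ∣ orderOf (1 : C) := by
    rw [orderOf_one]
    exact hpp.one_lt.ne' ∘ Nat.dvd_one.1
  -- on `p`-regular elements, only the principal block part survives
  have key : ∀ y : C, ¬ p ∣ orderOf y → ϑ y = blockPart (principalBlock M C) ϑ y := by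
    intro y hy
    have hsum := sum_blocks_blockPart (M := M) hMp hϑcf y
    have hpb : principalBlock M C ∈ blocksFinset M C := by
      rw [mem_blocksFinset]
      exact ⟨trivIrr C, rfl⟩
    rw [← Finset.add_sum_erase _ _ hpb] at hsum
    have hzero : ∑ b ∈ (blocksFinset M C).erase (principalBlock M C), blockPart b ϑ y = 0 := by
      apply Finset.sum_eq_zero
      intro b hb
      obtain ⟨hbne, hbmem⟩ := Finset.mem_erase.1 hb
      rw [mem_blocksFinset] at hbmem
      obtain ⟨B, hind⟩ := inducedBlockDefined_centralizer hM hu hbmem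
      have hBne : B ≠ principalBlock M G := by
        intro h
        apply hbne
        rw [h] at hind
        exact (Cfsg.Agent.S0936.result p M hM _ b ⟨_, hind⟩).1 hind
      have hχB : χ ∉ B := by
        intro hχB
        apply hBne
        rw [eq_blockOf_of_mem hMp hind.2.1 hχB,
          eq_blockOf_of_mem hMp (⟨trivIrr G, rfl⟩ : IsPBlock M (principalBlock M G)) hχ]
      exact blockPart_section_eq_zero hM C hC hu hind hχB hy
    rw [hzero, add_zero] at hsum
    exact hsum.symm
  have hconst : blockPart (principalBlock M C) ϑ v' = blockPart (principalBlock M C) ϑ 1 := by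
    have : Fintype (IrrCharacter C) := Fintype.ofFinite _
    rw [blockPart_eq_sum, blockPart_eq_sum]
    refine Finset.sum_congr rfl fun ψ _ => ?_
    by_cases hψ : ψ ∈ principalBlock M C
    · rw [principalBlock_apply_pPrimeCore hM hψ hv'core]
    · simp only [hψ, if_false, zero_mul]
  have e1 := key v' hv'reg
  have e2 := key 1 h1reg
  rw [hconst, ← e2] at e1
  show (χ : G → ℂ) (u * ((v' : C) : G)) = (χ : G → ℂ) u
  have e3 : ϑ 1 = (χ : G → ℂ) u := by
    show (χ : G → ℂ) (u * ((1 : C) : G)) = _
    rw [Subgroup.coe_one, mul_one]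
  rw [← e3, ← e1]

end

end Cfsg.Agent.Lib.Helper8
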