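import Mathlib
import Cfsg.Prelude.Def_Blocks
import Cfsg.Prelude.Def_BlockRank
import Cfsg.Agent.Lib.Helper8.BA4
import Cfsg.Agent.Lib.Helper8.BA5
import Cfsg.Agent.Lib.Helper8.PB1
import Cfsg.Agent.Lib.Helper8.CharKernel

/-!
# Brauer's involution formulas: assembly
-/

set_option autoImplicit false

namespace Cfsg.Agent.Lib.Helper8

open Cfsg
open scoped ComplexConjugate
open Cfsg.Agent.Lib.Helper1 Cfsg.Agent.Lib.Helper4

universe u

section

variable {G : Type u} [Group G] [Fintype G] {M : Ideal AlgInt}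

/-- An irreducible character that is constant is the trivial character. -/
theorem eq_trivIrr_of_const (χ : IrrCharacter G) (h : ∀ g : G, (χ : G → ℂ) g = (χ : G → ℂ) 1) :
    χ = trivIrr G := by
  classical
  have h1 := classInner_irr χ.2 (trivIrr G).2
  by_contra hne
  have hne' : ¬ ((χ : G → ℂ) = (trivIrr G : G → ℂ)) := fun h' => hne (Subtype.ext h')
  rw [if_neg hne', classInner_def] at h1
  have h2 : ∑ g : G, (χ : G → ℂ) g * conj ((trivIrr G : G → ℂ) g) =
      (Fintype.card G : ℂ) * (χ : G → ℂ) 1 := by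
    simp only [h, trivIrr_apply, map_one, mul_one]
    rw [Finset.sum_const, Finset.card_univ, nsmul_eq_mul]
  rw [h2] at h1
  have hG : (Nat.card G : ℂ) ≠ 0 := Nat.cast_ne_zero.2 Nat.card_pos.ne'
  have hG' : (Fintype.card G : ℂ) ≠ 0 := Nat.cast_ne_zero.2 Fintype.card_pos.ne'
  rcases mul_eq_zero.1 h1 with h3 | h3
  · exact (inv_ne_zero hG) h3
  · rcases mul_eq_zero.1 h3 with h4 | h4
    · exact hG' h4
    · exact irr_apply_one_ne_zero χ.2 h4

/-- Transfer of a vanishing statement from `u ∈ U` to the coefficients `a_χ`. -/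
theorem sum_coeff_eq_zero [Fintype (IrrCharacter G)] (P : Subgroup G) (U : Set G)
    (θ : P → ℂ) (hθU : ∀ y : P, (y : G) ∉ U → θ y = 0) (F : IrrCharacter G → ℂ)
    (hF : ∀ u : P, (u : G) ∈ U → ∑ χ : IrrCharacter G,
      (by classical exact if χ ∈ principalBlock M G then (1 : ℂ) else 0) *
      (conj ((χ : G → ℂ) (u : G)) * F χ) = 0) :
    ∑ᶠ χ ∈ principalBlock M G,
      ((Nat.card ↥P : ℂ)⁻¹ * ∑ᶠ y : ↥P, (χ : G → ℂ) (y : G) * θ y⁻¹) * F χ = 0 := by
  classical
  have : Fintype P := Fintype.ofFinite _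
  rw [finsum_mem_eq_sum_indicator]
  simp only [finsum_eq_sum_of_fintype]
  have hA : ∀ (χ : IrrCharacter G), ∑ y : P, (χ : G → ℂ) (y : G) * θ y⁻¹ =
      ∑ u : P, conj ((χ : G → ℂ) (u : G)) * θ u := by
    intro χ
    rw [← Equiv.sum_comp (Equiv.inv P)]
    refine Finset.sum_congr rfl fun y _ => ?_
    show (χ : G → ℂ) ((y⁻¹ : P) : G) * θ (y⁻¹)⁻¹ = conj ((χ : G → ℂ) (y : G)) * θ y
    rw [inv_inv, Subgroup.coe_inv, isCharacter_inv (isCharacter_of_irr χ.2)]
  simp only [hA]
  have h1 : ∀ χ : IrrCharacter G,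
      (by classical exact if χ ∈ principalBlock M G then (1 : ℂ) else 0) *
      (((Nat.card ↥P : ℂ)⁻¹ * ∑ u : P, conj ((χ : G → ℂ) (u : G)) * θ u) * F χ) =
      (Nat.card ↥P : ℂ)⁻¹ * ∑ u : P, θ u *
        ((if χ ∈ principalBlock M G then (1 : ℂ) else 0) *
          (conj ((χ : G → ℂ) (u : G)) * F χ)) := by
    intro χ
    have : (by classical exact if χ ∈ principalBlock M G then (1 : ℂ) else 0) =
        (if χ ∈ principalBlock M G then (1 : ℂ) else 0) := by
      congr
    rw [this, Finset.mul_sum, Finset.mul_sum, Finset.sum_mul, Finset.mul_sum]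
    refine Finset.sum_congr rfl fun u _ => ?_
    ring
  simp only [h1]
  rw [← Finset.mul_sum, Finset.sum_comm]
  have h2 : ∀ u : P, ∑ χ : IrrCharacter G, θ u *
      ((if χ ∈ principalBlock M G then (1 : ℂ) else 0) *
        (conj ((χ : G → ℂ) (u : G)) * F χ)) = 0 := by
    intro u
    rw [← Finset.mul_sum]
    by_cases hu : (u : G) ∈ U
    · have := hF u hu
      have e : ∑ χ : IrrCharacter G, (if χ ∈ principalBlock M G then (1 : ℂ) else 0) *
          (conj ((χ : G → ℂ) (u : G)) * F χ) = 0 := by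
        rw [← this]
        refine Finset.sum_congr rfl fun χ _ => ?_
        congr
      rw [e, mul_zero]
    · rw [hθU u hu, zero_mul]
  simp only [h2]
  simp

end

end Cfsg.Agent.Lib.Helper8
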