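import Mathlib
import Cfsg.Agent.Lib.Lead.SZConjB3

/-!
# Coprime cyclic extensions: the structure of a generating coset

`Γ = G ⋊ ⟨s⟩` with `G` normal and `|G|` coprime to the order of `s`.  Every element of the coset
`G s` is `G`-conjugate to an element `c s` with `c ∈ C_G(s)` (Isaacs, Lemma 13.8), and the
conjugating elements form a coset of `C_G(s)`.
-/

set_option autoImplicit false

namespace Cfsg.Agent.Lib.Helper8

open Cfsg.Agent.Lib.Lead

universe u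

section

variable {Γ : Type u} [Group Γ]

/-- The fixed points of `s` in `G`. -/
abbrev fixC (G : Subgroup Γ) (s : Γ) : Subgroup Γ := G ⊓ Subgroup.centralizer {s}

theorem mem_fixC_iff {G : Subgroup Γ} {s c : Γ} : c ∈ fixC G s ↔ c ∈ G ∧ s * c = c * s := by
  unfold fixC
  rw [Subgroup.mem_inf, Subgroup.mem_centralizer_iff]
  constructor
  · rintro ⟨h1, h2⟩
    exact ⟨h1, h2 s rfl⟩
  · rintro ⟨h1, h2⟩
    refine ⟨h1, ?_⟩
    intro y hy
    rw [Set.mem_singleton_iff] at hy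
    rw [hy]
    exact h2

/-- The hypotheses: `G` and `s` generate `Γ`, and `|G|` is coprime to the order of `s`. -/
structure CycSetup (G : Subgroup Γ) (s : Γ) : Prop where
  cop : (Nat.card G).Coprime (orderOf s)
  top : G ⊔ Subgroup.zpowers s = ⊤

variable {G : Subgroup Γ} {s : Γ}

theorem CycSetup.inf_eq_bot [Finite Γ] (h : CycSetup G s) : G ⊓ Subgroup.zpowers s = ⊥ := by
  apply disjoint_iff.1
  apply Subgroup.disjoint_of_coprime_natCard
  rw [Nat.card_zpowers]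
  exact h.cop

theorem CycSetup.pow_mem_iff [Finite Γ] (h : CycSetup G s) (j : ℕ) : s ^ j ∈ G ↔ s ^ j = 1 := by
  constructor
  · intro hj
    have h1 : s ^ j ∈ G ⊓ Subgroup.zpowers s :=
      ⟨hj, Subgroup.npow_mem_zpowers s j⟩
    rw [h.inf_eq_bot, Subgroup.mem_bot] at h1
    exact h1
  · intro hj
    rw [hj]
    exact G.one_mem

theorem CycSetup.exists_mul [G.Normal] (h : CycSetup G s) (x : Γ) :
    ∃ g ∈ G, ∃ z ∈ Subgroup.zpowers s, x = g * z := by
  have hx : x ∈ G ⊔ Subgroup.zpowers s := by rw [h.top]; trivial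
  have h1 : x ∈ ((G ⊔ Subgroup.zpowers s : Subgroup Γ) : Set Γ) := hx
  rw [Subgroup.normal_mul] at h1
  obtain ⟨g, hg, z, hz, rfl⟩ := Set.mem_mul.1 h1
  exact ⟨g, hg, z, hz, rfl⟩

theorem CycSetup.exists_mul' [G.Normal] (h : CycSetup G s) (x : Γ) :
    ∃ z ∈ Subgroup.zpowers s, ∃ g ∈ G, x = z * g := by
  have hx : x ∈ Subgroup.zpowers s ⊔ G := by rw [sup_comm, h.top]; trivial
  have h1 : x ∈ ((Subgroup.zpowers s ⊔ G : Subgroup Γ) : Set Γ) := hx
  rw [Subgroup.mul_normal] at h1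
  obtain ⟨z, hz, g, hg, rfl⟩ := Set.mem_mul.1 h1
  exact ⟨z, hz, g, hg, rfl⟩

theorem CycSetup.isComplement' [G.Normal] (h : CycSetup G s) [Finite Γ] :
    Subgroup.IsComplement' G (Subgroup.zpowers s) := by
  apply Subgroup.isComplement'_of_disjoint_and_mul_eq_univ
  · rw [disjoint_iff]
    exact h.inf_eq_bot
  · rw [← Subgroup.normal_mul, h.top]
    rfl

theorem CycSetup.card_eq [G.Normal] [Finite Γ] (h : CycSetup G s) :
    Nat.card G * orderOf s = Nat.card Γ := by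
  have := h.isComplement'.card_mul_card
  rwa [Nat.card_zpowers] at this

theorem CycSetup.index_eq [G.Normal] [Finite Γ] (h : CycSetup G s) : G.index = orderOf s := by
  have h1 := h.card_eq
  rw [← G.card_mul_index] at h1
  exact (Nat.eq_of_mul_eq_mul_left Nat.card_pos h1).symm

theorem CycSetup.isSolvable_quot [G.Normal] (h : CycSetup G s) : Group.IsSolvable (Γ ⧸ G) := by
  have hsurj : Function.Surjective
      ((QuotientGroup.mk' G).comp (Subgroup.zpowers s).subtype) := by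
    intro y
    induction y using QuotientGroup.induction_on with
    | H x =>
      obtain ⟨g, hg, z, hz, rfl⟩ := h.exists_mul x
      refine ⟨⟨z, hz⟩, ?_⟩
      rw [MonoidHom.comp_apply, QuotientGroup.mk'_apply, Subgroup.subtype_apply]
      symm
      rw [QuotientGroup.eq]
      have : (g * z)⁻¹ * z = z⁻¹ * g⁻¹ * z := by group
      rw [this]
      have h2 := (inferInstance : G.Normal).conj_mem g⁻¹ (G.inv_mem hg) z⁻¹
      simpa using h2
  haveI : Group.IsSolvable (Subgroup.zpowers s) := by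
    apply Group.isSolvable_of_comm
    intro a b
    exact mul_comm' a b
  exact Group.isSolvable_of_surjective hsurj

/-- A number `≡ 0` modulo `|G|` and `≡ 1` modulo the order of `s`. -/
theorem CycSetup.exists_k (h : CycSetup G s) :
    ∃ k : ℕ, Nat.card G ∣ k ∧ k ≡ 1 [MOD orderOf s] := by
  obtain ⟨k, hk0, hk1⟩ := Nat.chineseRemainder h.cop 0 1
  exact ⟨k, (Nat.modEq_zero_iff_dvd).1 hk0, hk1⟩

theorem pow_eq_self_of_modEq {x : Γ} {k : ℕ} (hk : k ≡ 1 [MOD orderOf x]) : x ^ k = x := by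
  conv_rhs => rw [← pow_one x]
  exact pow_eq_pow_iff_modEq.2 hk

theorem pow_eq_one_of_mem_of_dvd [Finite Γ] {c : Γ} (hc : c ∈ G) {k : ℕ} (hk : Nat.card G ∣ k) :
    c ^ k = 1 := by
  obtain ⟨a, rfl⟩ := hk
  have h1 : (⟨c, hc⟩ : G) ^ Nat.card G = 1 := pow_card_eq_one'
  have h2 : c ^ Nat.card G = 1 := by
    have h3 := congrArg (fun z : G => (z : Γ)) h1
    simp only [Subgroup.coe_pow, Subgroup.coe_one] at h3
    exact h3
  rw [pow_mul, h2, one_pow]

/-- If `c` lies in `G`, commutes with `s`, then the `k`-th power of `c s` is `s`. -/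
theorem CycSetup.mul_pow_k [Finite Γ] {c : Γ} (hc : c ∈ fixC G s) {k : ℕ}
    (hk0 : Nat.card G ∣ k) (hk1 : k ≡ 1 [MOD orderOf s]) : (c * s) ^ k = s := by
  obtain ⟨hcG, hcs⟩ := mem_fixC_iff.1 hc
  have hcomm : Commute c s := hcs.symm
  rw [hcomm.mul_pow, pow_eq_one_of_mem_of_dvd hcG hk0, one_mul, pow_eq_self_of_modEq hk1]

/-- An element of `G` conjugating `c s` to `c' s` (with `c, c' ∈ C_G(s)`) centralizes `s`. -/
theorem CycSetup.mem_fixC_of_conj [Finite Γ] (h : CycSetup G s) {c c' g : Γ} (hc : c ∈ fixC G s)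
    (hc' : c' ∈ fixC G s) (hg : g ∈ G) (he : g * (c * s) * g⁻¹ = c' * s) : g ∈ fixC G s := by
  obtain ⟨k, hk0, hk1⟩ := h.exists_k
  have h1 : (g * (c * s) * g⁻¹) ^ k = (c' * s) ^ k := by rw [he]
  rw [conj_pow, CycSetup.mul_pow_k hc hk0 hk1, CycSetup.mul_pow_k hc' hk0 hk1] at h1
  rw [mem_fixC_iff]
  refine ⟨hg, ?_⟩
  have : g * s = s * g := by
    calc g * s = g * s * g⁻¹ * g := by group
      _ = s * g := by rw [h1]
  exact this.symm

/-- Isaacs, Lemma 13.8: every element of the coset `G s` is `G`-conjugate to an element of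
`C_G(s) s`. -/
theorem CycSetup.coset_conj [G.Normal] [Finite Γ] (h : CycSetup G s) {x : Γ} (hx : x * s⁻¹ ∈ G) :
    ∃ g ∈ G, ∃ c ∈ fixC G s, g * x * g⁻¹ = c * s := by
  obtain ⟨k, hk0, hk1⟩ := h.exists_k
  have hq : ∀ {a b : Γ}, (QuotientGroup.mk' G a = QuotientGroup.mk' G b) ↔ a * b⁻¹ ∈ G := by
    intro a b
    rw [← mul_inv_eq_one, ← map_inv, ← map_mul, QuotientGroup.mk'_apply,
      QuotientGroup.eq_one_iff]
  have hqx : QuotientGroup.mk' G x = QuotientGroup.mk' G s := hq.2 hx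
  have hsk : s ^ k = s := pow_eq_self_of_modEq hk1
  have hqt : QuotientGroup.mk' G (x ^ k) = QuotientGroup.mk' G s := by
    rw [map_pow, hqx, ← map_pow, hsk]
  have htn : (x ^ k) ^ orderOf s = 1 := by
    rw [← pow_mul]
    obtain ⟨a, ha⟩ := hk0
    rw [ha, mul_right_comm, h.card_eq, pow_mul, pow_card_eq_one', one_pow]
  have hqs : orderOf (QuotientGroup.mk' G s) = orderOf s := by
    apply Nat.dvd_antisymm (orderOf_map_dvd _ _)
    apply orderOf_dvd_of_pow_eq_one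
    have h1 : QuotientGroup.mk' G (s ^ orderOf (QuotientGroup.mk' G s)) = 1 := by
      rw [map_pow, pow_orderOf_eq_one]
    rw [QuotientGroup.mk'_apply, QuotientGroup.eq_one_iff] at h1
    exact (h.pow_mem_iff _).1 h1
  have hordt : orderOf (x ^ k) = orderOf s := by
    apply Nat.dvd_antisymm (orderOf_dvd_of_pow_eq_one htn)
    rw [← hqs, ← hqt]
    exact orderOf_map_dvd _ _
  have hN : (Nat.card G).Coprime G.index := by rw [h.index_eq]; exact h.cop
  obtain ⟨g₀, hg₀⟩ := schur_zassenhaus_conj G hN (Or.inr h.isSolvable_quot)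
    (Subgroup.zpowers (x ^ k)) (Subgroup.zpowers s)
    (by rw [Nat.card_zpowers, hordt, h.index_eq]) (by rw [Nat.card_zpowers, h.index_eq])
  obtain ⟨z, hz, g₁, hg₁, rfl⟩ := h.exists_mul' g₀
  have h1 : (z * g₁) * x ^ k * (z * g₁)⁻¹ ∈ Subgroup.zpowers s := by
    rw [← hg₀]
    have h0 := Subgroup.smul_mem_pointwise_smul (x ^ k) (MulAut.conj (z * g₁))
      (Subgroup.zpowers (x ^ k)) (Subgroup.mem_zpowers _)
    rw [MulAut.smul_def, MulAut.conj_apply] at h0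
    exact h0
  have h2 : g₁ * x ^ k * g₁⁻¹ ∈ Subgroup.zpowers s := by
    have h3 := Subgroup.mul_mem _ (Subgroup.mul_mem _ (Subgroup.inv_mem _ hz) h1) hz
    have : z⁻¹ * (z * g₁ * x ^ k * (z * g₁)⁻¹) * z = g₁ * x ^ k * g₁⁻¹ := by group
    rwa [this] at h3
  have hqg : QuotientGroup.mk' G g₁ = 1 := by
    rw [QuotientGroup.mk'_apply, QuotientGroup.eq_one_iff]; exact hg₁
  have h4 : g₁ * x ^ k * g₁⁻¹ * s⁻¹ ∈ G := by
    apply hq.1
    rw [map_mul, map_mul, map_inv, hqg, hqt]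
    simp
  have h5 : g₁ * x ^ k * g₁⁻¹ = s := by
    have h6 : g₁ * x ^ k * g₁⁻¹ * s⁻¹ ∈ G ⊓ Subgroup.zpowers s :=
      ⟨h4, Subgroup.mul_mem _ h2 (Subgroup.inv_mem _ (Subgroup.mem_zpowers s))⟩
    rw [h.inf_eq_bot, Subgroup.mem_bot] at h6
    exact mul_inv_eq_one.1 h6
  have h7 : (g₁ * x * g₁⁻¹) ^ k = s := by rw [conj_pow, h5]
  have hcomm : Commute (g₁ * x * g₁⁻¹) s := by
    rw [← h7]
    exact Commute.pow_right (Commute.refl _) k
  refine ⟨g₁, hg₁, g₁ * x * g₁⁻¹ * s⁻¹, ?_, by group⟩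
  rw [mem_fixC_iff]
  constructor
  · apply hq.1
    rw [map_mul, map_mul, map_inv, hqg, hqx]
    simp
  · have h8 := hcomm.eq
    calc s * (g₁ * x * g₁⁻¹ * s⁻¹) = (s * (g₁ * x * g₁⁻¹)) * s⁻¹ := by group
      _ = (g₁ * x * g₁⁻¹ * s) * s⁻¹ := by rw [h8]
      _ = g₁ * x * g₁⁻¹ * s⁻¹ * s := by group

/-- The elements of `G` conjugating a given element of `G s` into `C_G(s) s` form a coset of
`C_G(s)`. -/
theorem CycSetup.card_conj_into [G.Normal] [Finite Γ] (h : CycSetup G s) {x : Γ}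
    (hx : x * s⁻¹ ∈ G) :
    Nat.card {g : G // (g : Γ)⁻¹ * x * g * s⁻¹ ∈ fixC G s} = Nat.card (fixC G s) := by
  obtain ⟨g₀, hg₀, c₀, hc₀, he⟩ := h.coset_conj hx
  have hx' : x = g₀⁻¹ * (c₀ * s) * g₀ := by rw [← he]; group
  symm
  refine Nat.card_congr
    { toFun := fun c => ⟨⟨g₀⁻¹ * c, G.mul_mem (G.inv_mem hg₀) (mem_fixC_iff.1 c.2).1⟩, ?_⟩
      invFun := fun g => ⟨g₀ * g, ?_⟩
      left_inv := ?_
      right_inv := ?_ }
  · obtain ⟨hcG, hcs⟩ := mem_fixC_iff.1 c.2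
    have h1 : ((g₀⁻¹ * (c : Γ))⁻¹ * x * (g₀⁻¹ * c) * s⁻¹) = (c : Γ)⁻¹ * c₀ * (s * c * s⁻¹) := by
      rw [hx']; group
    have h2 : s * (c : Γ) * s⁻¹ = c := by rw [hcs]; group
    show ((g₀⁻¹ * (c : Γ))⁻¹ * x * (g₀⁻¹ * c) * s⁻¹) ∈ fixC G s
    rw [h1, h2]
    exact Subgroup.mul_mem _ (Subgroup.mul_mem _ (Subgroup.inv_mem _ c.2) hc₀) c.2
  · obtain ⟨g, hg⟩ := g
    have hgG : (g₀ * (g : Γ))⁻¹ ∈ G := G.inv_mem (G.mul_mem hg₀ g.2)
    have h1 : (g₀ * (g : Γ))⁻¹ * (c₀ * s) * ((g₀ * (g : Γ))⁻¹)⁻¹ =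
        ((g : Γ)⁻¹ * x * g * s⁻¹) * s := by
      rw [hx']; group
    have h2 := h.mem_fixC_of_conj hc₀ hg hgG h1
    have h3 := Subgroup.inv_mem _ h2
    rwa [inv_inv] at h3
  · intro c
    apply Subtype.ext
    show g₀ * (g₀⁻¹ * (c : Γ)) = c
    group
  · intro g
    apply Subtype.ext
    apply Subtype.ext
    show g₀⁻¹ * (g₀ * ((g : G) : Γ)) = g
    group

end

end Cfsg.Agent.Lib.Helper8
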