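import Mathlib
import Cfsg.Prelude.Def_Characters
import Cfsg.Agent.Lib.Helper4.GaloisTwist
import Cfsg.Agent.Lib.Helper4.Characters

/-!
# Power maps on class functions (Galois conjugation of characters)

For `k` coprime to the group order, `χ ↦ (g ↦ χ (g ^ k))` is the Galois conjugation of characters.
-/

set_option autoImplicit false
set_option linter.unusedSectionVars false

namespace Cfsg.Agent.Lib.Helper8

open Cfsg
open scoped ComplexConjugate
open Cfsg.Agent.Lib.Helper1 Cfsg.Agent.Lib.Helper4

universe u

section

variable {G : Type u} [Group G]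

/-- The class function `g ↦ f (g ^ k)`. -/
def powFn (k : ℕ) (f : G → ℂ) : G → ℂ := fun g => f (g ^ k)

theorem powFn_apply (k : ℕ) (f : G → ℂ) (g : G) : powFn k f g = f (g ^ k) := rfl

theorem powFn_powFn (k l : ℕ) (f : G → ℂ) : powFn k (powFn l f) = powFn (k * l) f := by
  funext g
  rw [powFn_apply, powFn_apply, powFn_apply, ← pow_mul]

theorem powFn_one (f : G → ℂ) : powFn 1 f = f := by
  funext g
  rw [powFn_apply, pow_one]

theorem powFn_iterate (k : ℕ) (f : G → ℂ) (j : ℕ) : (powFn k)^[j] f = powFn (k ^ j) f := by
  induction j with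
  | zero => rw [Function.iterate_zero, id, pow_zero, powFn_one]
  | succ j ih => rw [Function.iterate_succ_apply', ih, powFn_powFn, pow_succ']

/-- If `a ≡ b` modulo the group order then the power maps agree. -/
theorem powFn_congr [Finite G] {a b : ℕ} (h : a ≡ b [MOD Nat.card G]) (f : G → ℂ) :
    powFn a f = powFn b f := by
  funext g
  rw [powFn_apply, powFn_apply]
  congr 1
  rw [pow_eq_pow_iff_modEq]
  exact h.of_dvd (orderOf_dvd_natCard g)

/-- Power maps and restriction to a subgroup. -/
theorem powFn_restrict (H : Subgroup G) (k : ℕ) (f : G → ℂ) :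
    (fun h : H => powFn k f (h : G)) = powFn k (fun h : H => f (h : G)) := by
  funext h
  rw [powFn_apply, powFn_apply, Subgroup.coe_pow]

end

section

variable {G : Type u} [Group G] [Fintype G]

/-- The power map by `k` coprime to `|G|` preserves irreducible characters. -/
theorem isIrrCharacter_powFn {k : ℕ} (hk : k.Coprime (Nat.card G)) {χ : G → ℂ}
    (hχ : IsIrrCharacter G χ) : IsIrrCharacter G (powFn k χ) := by
  have : NeZero (Nat.card G) := ⟨Nat.card_pos.ne'⟩
  obtain ⟨τ, hτ⟩ := exists_complex_aut_pow (Nat.card G) k hk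
  have h1 := isIrrCharacter_twist (τ : ℂ →+* ℂ) hχ
  have h2 : (fun g => (τ : ℂ →+* ℂ) (χ g)) = powFn k χ := by
    funext g
    exact twist_apply (τ : ℂ →+* ℂ) (Nat.card G) k hτ (isCharacter_of_irr hχ) g pow_card_eq_one'
  rwa [h2] at h1

/-- The power map by `k` coprime to `|G|` preserves inner products. -/
theorem classInner_powFn {k : ℕ} (hk : k.Coprime (Nat.card G)) (f h : G → ℂ) :
    classInner (powFn k f) (powFn k h) = classInner f h := by
  unfold classInner
  congr 1
  exact Fintype.sum_equiv (powCoprime hk.symm) _ _ (fun g => rfl)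

end

end Cfsg.Agent.Lib.Helper8
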