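import Mathlib
import Cfsg.Prelude.Def_Characters
import Cfsg.Agent.Lib.Helper1.CycloNorm
import Cfsg.Agent.Lib.Helper8.GaloisAvg

set_option autoImplicit false

namespace Cfsg.Agent.Lib.Helper8

open Cfsg.Agent.Lib.Helper1 Cfsg.Agent.Lib.Helper4

section

variable {G : Type*} [Group G] [Finite G]

/-- The average of `‖χ (g ^ k)‖` over a suitable family of exponents `k` prime to `|G|`,
indexed by a finite type, is at least one when `χ g ≠ 0`. -/
theorem exists_galois_family_norm (G : Type*) [Group G] [Finite G] :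
    ∃ (Γ : Type) (_ : Fintype Γ) (_ : Nonempty Γ) (k : Γ → ℕ),
      (∀ σ, (k σ).Coprime (Nat.card G)) ∧
      ∀ (χ : G → ℂ), Cfsg.IsCharacter G χ → ∀ g : G, χ g ≠ 0 →
        (Fintype.card Γ : ℝ) ≤ ∑ σ, ‖χ (g ^ k σ)‖ := by
  classical
  obtain ⟨N, hN⟩ : ∃ N, N = Nat.card G := ⟨_, rfl⟩
  have hN0 : NeZero N := ⟨hN ▸ Nat.card_pos.ne'⟩
  let K := CyclotomicField N ℚ
  have hcyc : IsCyclotomicExtension {N} ℚ K :=
    CyclotomicField.instIsCyclotomicExtensionSingletonNatSetOfCharZero N ℚ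
  let ι : K →+* ℂ := ((IsAlgClosed.lift : K →ₐ[ℚ] ℂ) : K →+* ℂ)
  have hfd : FiniteDimensional ℚ K := IsCyclotomicExtension.finiteDimensional {N} ℚ K
  have hk : ∀ σ : K ≃ₐ[ℚ] K, ∃ k : ℕ, k.Coprime N ∧ ∀ z : K, z ^ N = 1 → σ z = z ^ k :=
    fun σ => aut_pow N σ
  choose k hk1 hk2 using hk
  have hfin : Finite (K ≃ₐ[ℚ] K) := inferInstance
  have : Fintype (K ≃ₐ[ℚ] K) := Fintype.ofFinite _
  let e := Fintype.equivFin (K ≃ₐ[ℚ] K)
  refine ⟨Fin (Fintype.card (K ≃ₐ[ℚ] K)), inferInstance, ⟨e 1⟩, fun j => k (e.symm j),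
    fun j => hN ▸ hk1 _, ?_⟩
  intro χ hχ g hg
  have hgN : g ^ N = 1 := hN ▸ pow_card_eq_one'
  obtain ⟨x, hxint, hx⟩ := exists_cyclo_of_character N ι hχ g hgN
  have hx1 : ι x = χ g := by
    have := hx 1 1 (fun z _ => by simp)
    simpa using this
  have hx0 : x ≠ 0 := by
    intro h0
    rw [h0, map_zero] at hx1
    exact hg hx1.symm
  have hprod := one_le_prod_norm N ι x hxint hx0
  have hval : ∀ σ : K ≃ₐ[ℚ] K, ι (σ x) = χ (g ^ k σ) := fun σ => hx σ (k σ) (hk2 σ)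
  have hprod2 : 1 ≤ ∏ σ : K ≃ₐ[ℚ] K, ‖χ (g ^ k σ)‖ := by
    have : ∏ σ : K ≃ₐ[ℚ] K, ‖χ (g ^ k σ)‖ = ∏ σ : K ≃ₐ[ℚ] K, ‖ι (σ x)‖ :=
      Finset.prod_congr rfl fun σ _ => by rw [hval]
    rw [this]
    exact hprod
  have hsum := card_le_sum_of_one_le_prod Finset.univ (fun σ : K ≃ₐ[ℚ] K => ‖χ (g ^ k σ)‖)
    (fun σ _ => by positivity) hprod2
  rw [Finset.card_univ] at hsum
  rw [Fintype.card_fin]
  rw [← Equiv.sum_comp e.symm] at hsum
  exact hsum

end

/-- Burnside averaging without squares: on a set closed under powers prime to `|G|`, the sum of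
`‖χ g‖` is at least the number of points where the character `χ` does not vanish. -/
theorem card_nonzero_le_sum_norm {G : Type*} [Group G] [Fintype G] [DecidableEq G]
    {χ : G → ℂ} (hχ : Cfsg.IsCharacter G χ) (S : Finset G)
    (hS : ∀ g ∈ S, ∀ k : ℕ, k.Coprime (Nat.card G) → g ^ k ∈ S) :
    ((S.filter (fun g => χ g ≠ 0)).card : ℝ) ≤ ∑ g ∈ S, ‖χ g‖ := by
  classical
  obtain ⟨Γ, _, hne, k, hk, hkey⟩ := exists_galois_family_norm G
  have hm : (0 : ℝ) < Fintype.card Γ := by exact_mod_cast Fintype.card_pos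
  have hperm : ∀ σ : Γ, ∑ g ∈ S, ‖χ (g ^ k σ)‖ = ∑ g ∈ S, ‖χ g‖ := by
    intro σ
    have hinj : Set.InjOn (fun g : G => g ^ k σ) (S : Set G) := by
      intro a _ b _ hab
      exact (powCoprime (hk σ).symm).injective hab
    have hmaps : Set.MapsTo (fun g : G => g ^ k σ) (S : Set G) (S : Set G) :=
      fun g hg => hS g hg _ (hk σ)
    have hsurj : Set.SurjOn (fun g : G => g ^ k σ) (S : Set G) (S : Set G) :=
      Finset.surjOn_of_injOn_of_card_le _ hmaps hinj le_rfl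
    exact Finset.sum_nbij (fun g => g ^ k σ) hmaps hinj hsurj (fun _ _ => rfl)
  have h1 : (Fintype.card Γ : ℝ) * ∑ g ∈ S, ‖χ g‖ = ∑ g ∈ S, ∑ σ, ‖χ (g ^ k σ)‖ := by
    rw [Finset.sum_comm]
    simp only [hperm]
    rw [Finset.sum_const, Finset.card_univ, nsmul_eq_mul]
  have h2 : ∑ g ∈ S, (if χ g ≠ 0 then (Fintype.card Γ : ℝ) else 0)
      ≤ ∑ g ∈ S, ∑ σ, ‖χ (g ^ k σ)‖ := by
    refine Finset.sum_le_sum fun g _ => ?_
    split_ifs with h
    · exact hkey χ hχ g h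
    · exact Finset.sum_nonneg fun σ _ => by positivity
  rw [← h1, ← Finset.sum_filter, Finset.sum_const, nsmul_eq_mul, mul_comm] at h2
  exact le_of_mul_le_mul_left h2 hm

end Cfsg.Agent.Lib.Helper8
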