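import Mathlib
import Cfsg.Prelude.Def_CharExt
import Cfsg.Agent.Lib.Helper2.DetChar
import Cfsg.Agent.Lib.Helper8.GP1
import Cfsg.Agent.Lib.Helper8.Deflation
import Cfsg.Agent.S0867
import Cfsg.Agent.Lib.Helper8.GL1

/-!
# The canonical extension is fixed by the Galois automorphisms that fix the base character
-/

set_option autoImplicit false

namespace Cfsg.Agent.Lib.Helper8

open Cfsg
open Cfsg.Agent.Lib.Helper1 Cfsg.Agent.Lib.Helper4
open Cfsg.Agent.Lib.Helper2.DetChar Cfsg.Agent.Lib.Helper2.LinExt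

universe u

section

variable {Γ : Type u} [Group Γ] [Fintype Γ]

/-- The `k`-th power map on the cyclic group generated by `x`. -/
noncomputable def zpowPowHom (x : Γ) (k : ℕ) : Subgroup.zpowers x →* Subgroup.zpowers x where
  toFun a := a ^ k
  map_one' := one_pow k
  map_mul' a b := (Commute.mul_pow (mul_comm' a b) k)

theorem detChar_powFn {ψ : Γ → ℂ} (hψ : IsCharacter Γ ψ) (k : ℕ)
    (hk : IsCharacter Γ (powFn k ψ)) : detChar (powFn k ψ) = powFn k (detChar ψ) := by
  funext x
  have h1 := congrFun (detChar_restrict (Subgroup.zpowers x) hk) ⟨x, Subgroup.mem_zpowers x⟩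
  simp only at h1
  rw [← h1]
  have hA : IsCharacter (Subgroup.zpowers x) (fun a : Subgroup.zpowers x => ψ a) :=
    Cfsg.Agent.S0148.isCharacter_restrict _ hψ
  have h2 : (fun n : Subgroup.zpowers x => powFn k ψ n) =
      fun n : Subgroup.zpowers x => (fun a : Subgroup.zpowers x => ψ a) (zpowPowHom x k n) := by
    funext n
    rfl
  rw [h2, detChar_comp_hom (zpowPowHom x k) hA, detChar_restrict (Subgroup.zpowers x) hψ]
  rfl

theorem detOrder_powFn {ψ : Γ → ℂ} (hψ : IsCharacter Γ ψ) {k : ℕ}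
    (hk : k.Coprime (Nat.card Γ)) (hk' : IsCharacter Γ (powFn k ψ)) :
    detOrder (powFn k ψ) = detOrder ψ := by
  unfold detOrder
  rw [detChar_powFn hψ k hk']
  obtain ⟨δ, hδ⟩ := exists_detHom hψ
  have h1 : powFn k (detChar ψ) = (detChar ψ) ^ k := by
    funext x
    rw [powFn_apply, hδ, Pi.pow_apply, coeHom_apply, coeHom_apply, map_pow,
      Units.val_pow_eq_pow_val]
  rw [h1]
  apply Nat.Coprime.orderOf_pow
  have h2 : orderOf (detChar ψ) ∣ Nat.card Γ := by
    apply orderOf_dvd_of_pow_eq_one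
    funext x
    rw [hδ, Pi.pow_apply, coeHom_apply, ← Units.val_pow_eq_pow_val, ← map_pow,
      pow_card_eq_one', map_one, Units.val_one]
    rfl
  exact Nat.Coprime.coprime_dvd_left h2 hk.symm

theorem detOrder_dvd_card {ψ : Γ → ℂ} (hψ : IsCharacter Γ ψ) : detOrder ψ ∣ Nat.card Γ := by
  unfold detOrder
  obtain ⟨δ, hδ⟩ := exists_detHom hψ
  apply orderOf_dvd_of_pow_eq_one
  funext x
  rw [hδ, Pi.pow_apply, coeHom_apply, ← Units.val_pow_eq_pow_val, ← map_pow,
    pow_card_eq_one', map_one, Units.val_one]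
  rfl

theorem charDegree_of_apply_one {H : Type*} [Group H] {ψ : H → ℂ} {n : ℕ} (h : ψ 1 = n) :
    charDegree ψ = n := by
  unfold charDegree
  rw [h]
  simp

/-- The canonical extension of an irreducible character of a normal subgroup of coprime index is
fixed by every Galois automorphism fixing the roots of unity of order `|G|`. -/
theorem canonical_powFn_eq (G : Subgroup Γ) [G.Normal] {χh : Γ → ℂ}
    (hχh : IsIrrCharacter Γ χh) (hres : IsIrrCharacter G (fun g : G => χh g))
    (hcop : (Nat.card G).Coprime G.index) (hdet : (detOrder χh).Coprime G.index) {k : ℕ}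
    (hk : k.Coprime (Nat.card Γ)) (hk1 : k ≡ 1 [MOD Nat.card G]) : powFn k χh = χh := by
  classical
  haveI : Fintype G := Fintype.ofFinite G
  obtain ⟨d, hd0, hd⟩ := irr_apply_one_pos hres
  have hddvd : d ∣ Nat.card G := by
    rw [← charDegree_of_apply_one hd]
    exact charDegree_dvd_card hres
  have hcop' : Nat.Coprime G.index (detOrder (fun g : G => χh g) * d) := by
    apply Nat.Coprime.mul_right
    · exact (Nat.Coprime.coprime_dvd_left (detOrder_dvd_card (isCharacter_of_irr hres)) hcop).symm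
    · exact (Nat.Coprime.coprime_dvd_left hddvd hcop).symm
  obtain ⟨χ₀, -, huniq⟩ := Cfsg.Agent.S0867.result G (fun g : G => χh g) hres
    (fun g n => isClassFunction_irr hχh _ _) d hd hcop'
  have hpirr : IsIrrCharacter Γ (powFn k χh) := isIrrCharacter_powFn hk hχh
  have h1 := huniq χh hχh (fun _ => rfl) hdet.symm
  have h2 := huniq (powFn k χh) hpirr (by
    intro n
    rw [powFn_apply]
    congr 1
    apply pow_eq_self_of_modEq
    apply Nat.ModEq.of_dvd _ hk1
    rw [Subgroup.orderOf_coe]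
    exact orderOf_dvd_natCard n) (by
    rw [detOrder_powFn (isCharacter_of_irr hχh) hk (isCharacter_of_irr hpirr)]
    exact hdet.symm)
  rw [h2, ← h1]

/-- Existence of the canonical extension of an invariant irreducible character of a normal
subgroup of coprime index. -/
theorem exists_canonical_ext (G : Subgroup Γ) [hG : G.Normal]
    (hcop : (Nat.card G).Coprime G.index) {ϑ : G → ℂ} (hϑ : IsIrrCharacter G ϑ)
    (hinv : ∀ (g : Γ) (n : G), ϑ ⟨g * n * g⁻¹, hG.conj_mem (n : Γ) n.2 g⟩ = ϑ n) :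
    ∃ χ₀ : Γ → ℂ, IsIrrCharacter Γ χ₀ ∧ (∀ n : G, χ₀ n = ϑ n) ∧
      (detOrder χ₀).Coprime G.index := by
  classical
  haveI : Fintype G := Fintype.ofFinite G
  obtain ⟨d, hd0, hd⟩ := irr_apply_one_pos hϑ
  have hddvd : d ∣ Nat.card G := by
    rw [← charDegree_of_apply_one hd]
    exact charDegree_dvd_card hϑ
  have hdet : detOrder ϑ ∣ Nat.card G := detOrder_dvd_card (isCharacter_of_irr hϑ)
  have hcop' : Nat.Coprime G.index (detOrder ϑ * d) := by
    apply Nat.Coprime.mul_right
    · exact (Nat.Coprime.coprime_dvd_left hdet hcop).symm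
    · exact (Nat.Coprime.coprime_dvd_left hddvd hcop).symm
  obtain ⟨χ₀, ⟨h1, h2, h3⟩, -⟩ := Cfsg.Agent.S0867.result G ϑ hϑ hinv d hd hcop'
  refine ⟨χ₀, h1, h2, ?_⟩
  rw [h3]
  exact Nat.Coprime.coprime_dvd_left hdet hcop

end

end Cfsg.Agent.Lib.Helper8
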