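import Mathlib
import Cfsg.Prelude.Def_Blocks
import Cfsg.Agent.Lib.Helper8.TildeChar

/-!
# The indicator function of the `p`-elements, scaled by `|G|_{p'}`, is a generalized character
-/

set_option autoImplicit false

namespace Cfsg.Agent.Lib.Helper8

open Cfsg
open scoped ComplexConjugate
open Cfsg.Agent.Lib.Helper1 Cfsg.Agent.Lib.Helper4

universe u

section

/-- If `K` is a normal subgroup of `E` whose index divides `n`, then `n · 1_K` is a character. -/
theorem isCharacter_indicator_of_normal {E : Type u} [Group E] [Finite E]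
    (K : Subgroup E) [hK : K.Normal] [DecidablePred (fun y : E => y ∈ K)] (n : ℕ)
    (hn : K.index ∣ n) :
    IsCharacter E (fun y : E => if y ∈ K then (n : ℂ) else (0 : ℂ)) := by
  classical
  have : Fintype E := Fintype.ofFinite E
  obtain ⟨c, rfl⟩ := hn
  have h1 : IsCharacter E (indFun K (fun _ : K => (1 : ℂ))) :=
    Cfsg.Agent.S0148.result K _ (isCharacter_of_irr Cfsg.Agent.S0161.isIrrCharacter_one)
  have h2 := isCharacter_nsmul h1 c
  convert h2 using 1
  funext y
  rw [Pi.smul_apply, smul_eq_mul, indFun_apply]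
  have hK0 : (Nat.card K : ℂ) ≠ 0 := Nat.cast_ne_zero.2 Nat.card_pos.ne'
  by_cases hyK : y ∈ K
  · rw [if_pos hyK]
    have : ∀ x : E, extendByZero K (fun _ : K => (1 : ℂ)) (x⁻¹ * y * x) = 1 := by
      intro x
      have hx : x⁻¹ * y * x ∈ K := by
        have := hK.conj_mem _ hyK x⁻¹
        simpa using this
      rw [extendByZero_of_mem _ _ hx]
    simp only [this, Finset.sum_const, Finset.card_univ, nsmul_eq_mul, mul_one]
    have hcard : (Fintype.card E : ℂ) = (Nat.card K : ℂ) * (K.index : ℂ) := by
      rw [← Nat.cast_mul, Subgroup.card_mul_index, Nat.card_eq_fintype_card]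
    rw [hcard]
    push_cast
    field_simp
  · rw [if_neg hyK]
    have : ∀ x : E, extendByZero K (fun _ : K => (1 : ℂ)) (x⁻¹ * y * x) = 0 := by
      intro x
      apply extendByZero_of_notMem
      intro hx
      apply hyK
      have := hK.conj_mem _ hx x
      simpa [mul_assoc] using this
    simp only [this, Finset.sum_const_zero, mul_zero]

/-- In a finite nilpotent group the `p`-elements form a normal subgroup of index `|E|_{p'}`. -/
theorem exists_normal_sylow_of_isNilpotent {E : Type u} [Group E] [Finite E]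
    [hnil : Group.IsNilpotent E] (p : ℕ) [hp : Fact p.Prime] :
    ∃ K : Subgroup E, K.Normal ∧ (∀ y : E, y ∈ K ↔ ∃ k : ℕ, orderOf y = p ^ k) ∧
      K.index = Nat.card E / p ^ (Nat.card E).factorization p := by
  classical
  have hall := (Group.isNilpotent_of_finite_tfae (G := E)).out 0 3 rfl rfl |>.mp hnil
  let P : Sylow p E := default
  have hPn : (P : Subgroup E).Normal := hall p hp P
  refine ⟨(P : Subgroup E), hPn, ?_, ?_⟩
  · intro y
    constructor
    · intro hy
      obtain ⟨k, hk⟩ := (IsPGroup.iff_orderOf.1 P.isPGroup') ⟨y, hy⟩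
      rw [Subgroup.orderOf_mk] at hk
      exact ⟨k, hk⟩
    · rintro ⟨k, hk⟩
      have hz : IsPGroup p (Subgroup.zpowers y) := by
        apply IsPGroup.of_card (n := k)
        rw [Nat.card_zpowers, hk]
      obtain ⟨Q, hQ⟩ := hz.exists_le_sylow
      haveI := Sylow.unique_of_normal P hPn
      have hQP : Q = P := Subsingleton.elim Q P
      rw [← hQP]
      exact hQ (Subgroup.mem_zpowers y)
  · have h1 := Subgroup.card_mul_index (P : Subgroup E)
    rw [Sylow.card_eq_multiplicity] at h1
    exact (Nat.div_eq_of_eq_mul_right (pow_pos hp.1.pos _) h1.symm).symm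

/-- The function equal to `n` on the `p`-elements and `0` elsewhere. -/
noncomputable def pEltScale {G : Type u} [Group G] (p : ℕ) (c : ℂ) : G → ℂ :=
  fun x => by classical exact if (∃ k : ℕ, orderOf x = p ^ k) then c else 0

theorem pEltScale_apply {G : Type u} [Group G] (p : ℕ) (c : ℂ) (x : G)
    [Decidable (∃ k : ℕ, orderOf x = p ^ k)] :
    pEltScale p c x = if (∃ k : ℕ, orderOf x = p ^ k) then c else 0 := by
  unfold pEltScale
  congr

theorem isClassFunction_pEltScale {G : Type u} [Group G] (p : ℕ) (c : ℂ) :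
    IsClassFunction G (pEltScale p c : G → ℂ) := by
  classical
  intro g h
  rw [pEltScale_apply, pEltScale_apply]
  have : orderOf (h * g * h⁻¹) = orderOf g := by
    have := MulEquiv.orderOf_eq (MulAut.conj h) g
    simpa [MulAut.conj_apply] using this
  rw [this]

/-- If `|G|_{p'}` divides `n` then `n · 1_{G_p}` is a generalized character. -/
theorem isGenChar_pEltScale {G : Type u} [Group G] [Finite G] (p : ℕ) [hp : Fact p.Prime]
    (n : ℕ) (hn : Nat.card G / p ^ (Nat.card G).factorization p ∣ n) :
    IsGeneralizedCharacter G (pEltScale p (n : ℂ) : G → ℂ) := by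
  classical
  apply Cfsg.Agent.S0164.result _ (isClassFunction_pEltScale p _)
  intro E q hq hE
  have : Fact q.Prime := ⟨hq⟩
  have : Group.IsNilpotent E := Cfsg.Agent.Lib.Helper2.BrauerInd.isNilpotent_of_isElementary hE
  obtain ⟨K, hKn, hKmem, hKidx⟩ := exists_normal_sylow_of_isNilpotent (E := E) p
  have hdvd : K.index ∣ n := by
    rw [hKidx]
    refine dvd_trans ?_ hn
    exact Nat.ordCompl_dvd_ordCompl_of_dvd (Subgroup.card_subgroup_dvd_card E) p
  have h1 := isCharacter_indicator_of_normal K n hdvd
  convert isGenChar_of_isCharacter h1 using 1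
  funext e
  rw [pEltScale_apply, Subgroup.orderOf_coe]
  by_cases he : e ∈ K
  · rw [if_pos he, if_pos ((hKmem e).1 he)]
  · rw [if_neg he, if_neg (fun h => he ((hKmem e).2 h))]

end

end Cfsg.Agent.Lib.Helper8
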