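import Mathlib
import Cfsg.Prelude.Def_Blocks
import Cfsg.Agent.Lib.Helper8.KU1
import Cfsg.Agent.Lib.Helper8.TildeBlock2
import Cfsg.Agent.Lib.Helper8.TwoClass
import Cfsg.Agent.Lib.Helper8.GL3

/-!
# The number of `p`-regular elements is prime to `p`; sums over the `p`-elements
-/

set_option autoImplicit false

namespace Cfsg.Agent.Lib.Helper8

open Cfsg
open scoped ComplexConjugate
open Cfsg.Agent.Lib.Helper1 Cfsg.Agent.Lib.Helper4

universe u

section

variable {G : Type u} [Group G] [Fintype G] {M : Ideal AlgInt} {p : ℕ}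

/-- The sum of a character over the `p`-elements, divided by the group order, is a local
integer. -/
theorem memLocalRing_sum_pElt (hM : IsPModular p M) {ψ : G → ℂ} (hψ : IsCharacter G ψ) :
    MemLocalRing M ((Nat.card G : ℂ)⁻¹ * ∑ x, pEltScale p 1 x * ψ x) := by
  classical
  haveI hp : Fact p.Prime := ⟨hM.1⟩
  have hMp := isPModular_isPrime hM
  set m := Nat.card G / p ^ (Nat.card G).factorization p with hm
  have hmp : ¬ p ∣ m := Nat.not_dvd_ordCompl hp.1 Nat.card_pos.ne'
  have hm0 : (m : ℂ) ≠ 0 := by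
    apply Nat.cast_ne_zero.2
    rintro h0
    rw [h0] at hmp
    exact hmp (dvd_zero p)
  have hgen : IsGeneralizedCharacter G (pEltScale p (m : ℂ) : G → ℂ) :=
    isGenChar_pEltScale p m dvd_rfl
  obtain ⟨k, hk⟩ := classInner_genChar_int hgen (isGenChar_of_isCharacter hψ)
  have h1 : (Nat.card G : ℂ)⁻¹ * ∑ x, pEltScale p 1 x * ψ x = (k : ℂ) * (m : ℂ)⁻¹ := by
    have h2 : conj (classInner (pEltScale p (m : ℂ) : G → ℂ) ψ) = (k : ℂ) := by
      rw [hk]; exact map_intCast _ k
    rw [classInner_def, map_mul, map_inv₀, Complex.conj_natCast, map_sum] at h2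
    have h3 : ∀ x : G, conj (pEltScale p (m : ℂ) x * conj (ψ x)) =
        (m : ℂ) * (pEltScale p 1 x * ψ x) := by
      intro x
      rw [map_mul, Complex.conj_conj, pEltScale_apply, pEltScale_apply]
      split_ifs
      · rw [Complex.conj_natCast]; ring
      · rw [map_zero]; ring
    simp only [h3] at h2
    rw [← Finset.mul_sum] at h2
    rw [← h2]
    field_simp
  rw [h1]
  exact memLocalRing_mul hMp (memLocalRing_intCast hMp.ne_top k) (memLocalRing_inv_natCast hM hmp)

/-- The number of `p`-regular elements is not divisible by `p`. -/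
theorem not_dvd_card_pRegular (hM : IsPModular p M) :
    ¬ p ∣ (Finset.univ.filter (fun y : G => ¬ p ∣ orderOf y)).card := by
  classical
  haveI hp : Fact p.Prime := ⟨hM.1⟩
  have hMp := isPModular_isPrime hM
  intro hdvd
  set R := (Finset.univ.filter (fun y : G => ¬ p ∣ orderOf y)).card with hR
  have htriv : IsCharacter G (trivIrr G : G → ℂ) := isCharacter_of_irr (trivIrr G).2
  -- the inner product of the trivial character with its tilde
  have h11 : classInner (tilde p (trivIrr G : G → ℂ)) (trivIrr G : G → ℂ) =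
      ((p ^ (Nat.card G).factorization p : ℕ) : ℂ) / (Nat.card G : ℂ) * (R : ℂ) := by
    rw [classInner_tilde, classInner_def]
    have h1 : ∑ g : G, pRegularPart p (trivIrr G : G → ℂ) g * conj ((trivIrr G : G → ℂ) g) =
        (R : ℂ) := by
      have h2 : ∀ g : G, pRegularPart p (trivIrr G : G → ℂ) g * conj ((trivIrr G : G → ℂ) g) =
          if ¬ p ∣ orderOf g then 1 else 0 := by
        intro g
        rw [pRegularPart_apply, trivIrr_apply, map_one, mul_one]
      simp only [h2]
      rw [Finset.sum_boole]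
    rw [h1]
    ring
  have h11' : MemLocalIdeal M (classInner (tilde p (trivIrr G : G → ℂ)) (trivIrr G : G → ℂ) /
      (trivIrr G : G → ℂ) 1) := by
    rw [trivIrr_apply, div_one, h11]
    exact memLocalIdeal_mul_left hMp (pPart_div_card_unit hM).1
      ((memLocalIdeal_natCast_iff hM R).2 hdvd)
  obtain ⟨ψ, n, hn, hndvd⟩ := exists_not_dvd_classInner_tilde (p := p) (trivIrr G).2
  have hdeg : charDegree (trivIrr G : G → ℂ) = 1 := by
    apply charDegree_of_apply_one (n := 1)
    rw [trivIrr_apply, Nat.cast_one]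
  rw [hdeg, Nat.factorization_one, Finsupp.zero_apply, zero_add, pow_one] at hndvd
  apply hndvd
  by_cases hblock : SameBlock M (trivIrr G : G → ℂ) (ψ : G → ℂ)
  · have h1 := memLocalIdeal_tildeRatio_sub hM htriv ψ.2 (trivIrr G).2 (sameBlock_symm hblock)
    have h2 := memLocalIdeal_add hMp h1 h11'
    rw [sub_add_cancel, hn] at h2
    obtain ⟨hd1, hd0⟩ := irr_apply_one_eq_charDegree ψ.2
    have h3 : MemLocalIdeal M ((n : ℂ) / (ψ : G → ℂ) 1 * (ψ : G → ℂ) 1) :=
      memLocalIdeal_mul_right hMp h2 (by rw [hd1]; exact memLocalRing_natCast hMp.ne_top _)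
    rw [div_mul_cancel₀ _ (irr_apply_one_ne_zero ψ.2)] at h3
    exact (memLocalIdeal_intCast_iff hM n).1 h3
  · have h0 := classInner_tilde_eq_zero hM hblock
    rw [hn] at h0
    have : n = 0 := by exact_mod_cast h0
    rw [this]
    exact dvd_zero _

end

end Cfsg.Agent.Lib.Helper8
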