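import Mathlib
import Cfsg.Prelude.Def_Blocks
import Cfsg.Agent.Lib.Helper8.KU2
import Cfsg.Agent.Lib.Helper8.SM7
import Cfsg.Agent.Lib.Helper8.InducedOmega2
import Cfsg.Agent.Lib.Helper8.BlockHom

/-!
# The principal block idempotent on `p`-regular elements
-/

set_option autoImplicit false

namespace Cfsg.Agent.Lib.Helper8

open Cfsg
open scoped ComplexConjugate
open Cfsg.Agent.Lib.Helper1 Cfsg.Agent.Lib.Helper4

universe u

section

variable {G : Type u} [Group G] [Fintype G] {M : Ideal AlgInt} {p : ℕ}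

omit [Fintype G] in
theorem pEltScale_inv (c : ℂ) (x : G) : pEltScale p c x⁻¹ = pEltScale p c x := by
  classical
  rw [pEltScale_apply, pEltScale_apply, orderOf_inv]

omit [Fintype G] in
theorem pEltScale_one_one (c : ℂ) : pEltScale p c (1 : G) = c := by
  classical
  rw [pEltScale_apply, if_pos ⟨0, by rw [orderOf_one, pow_zero]⟩]

omit [Fintype G] in
/-- A `p`-regular `p`-element is trivial. -/
theorem eq_one_of_pElt_of_pRegular {x : G} (h1 : ∃ k : ℕ, orderOf x = p ^ k)
    (h2 : ¬ p ∣ orderOf x) : x = 1 := by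
  obtain ⟨k, hk⟩ := h1
  rcases Nat.eq_zero_or_pos k with rfl | hkpos
  · rw [pow_zero, orderOf_eq_one_iff] at hk
    exact hk
  · exfalso
    apply h2
    rw [hk]
    exact dvd_pow_self p hkpos.ne'

/-- The inner product of `1_{G_p} - δ₁` with a character, without conjugation. -/
theorem classInner_pElt_sub_deltaOne {ψ : G → ℂ} (hψ : IsIrrCharacter G ψ) :
    classInner (pEltScale p 1 - deltaOne : G → ℂ) ψ =
      (Nat.card G : ℂ)⁻¹ * (omega ψ (pEltScale p 1) * ψ 1 - ψ 1) := by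
  classical
  rw [classInner_def]
  congr 1
  unfold omega
  rw [div_mul_cancel₀ _ (irr_apply_one_ne_zero hψ)]
  have h1 : ∑ g : G, (pEltScale p 1 - deltaOne : G → ℂ) g * conj (ψ g) =
      ∑ g : G, (pEltScale p 1 - deltaOne : G → ℂ) g * ψ g := by
    rw [← Equiv.sum_comp (Equiv.inv G)]
    refine Finset.sum_congr rfl fun g _ => ?_
    simp only [Equiv.inv_apply, Pi.sub_apply]
    rw [pEltScale_inv, ← isCharacter_inv (isCharacter_of_irr hψ), inv_inv]
    congr 2
    unfold deltaOne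
    simp only [inv_eq_one]
  rw [h1]
  simp only [Pi.sub_apply, sub_mul, Finset.sum_sub_distrib]
  congr 1
  unfold deltaOne
  simp only [ite_mul, one_mul, zero_mul, Finset.sum_ite_eq', Finset.mem_univ, if_true]

/-- **Külshammer's formula** for the principal block idempotent at a `p`-regular element. -/
theorem kulshammer_formula (hM : IsPModular p M) (g : G) (hg : ¬ p ∣ orderOf g) :
    MemLocalIdeal M (blockCoeff (principalBlock M G) g -
      conv (pEltScale p 1) (pRegularPart p (trivIrr G : G → ℂ)) g /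
        ((Finset.univ.filter (fun y : G => ¬ p ∣ orderOf y)).card : ℂ)) := by
  classical
  haveI hp : Fact p.Prime := ⟨hM.1⟩
  have hMp := isPModular_isPrime hM
  haveI : Fintype (IrrCharacter G) := Fintype.ofFinite _
  set a : G → ℂ := pEltScale p 1 with ha
  set b : G → ℂ := pRegularPart p (trivIrr G : G → ℂ) with hb
  have hacf : IsClassFunction G a := isClassFunction_pEltScale p 1
  have hbcf : IsClassFunction G b :=
    isClassFunction_pRegularPart (isClassFunction_irr (trivIrr G).2)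
  set B := principalBlock M G with hB
  have htriv : (trivIrr G : G → ℂ) = fun _ => (1 : ℂ) := funext trivIrr_apply
  have hBmem : ∀ ψ : IrrCharacter G, ψ ∈ B ↔ SameBlock M (trivIrr G : G → ℂ) (ψ : G → ℂ) := by
    intro ψ
    rw [hB, htriv]
    rfl
  have hBblock : IsPBlock M B := ⟨trivIrr G, by rw [hB, htriv]; rfl⟩
  set R := (Finset.univ.filter (fun y : G => ¬ p ∣ orderOf y)).card with hR
  have hRp : ¬ p ∣ R := not_dvd_card_pRegular hM
  have hbval : ∀ x : G, b x = if ¬ p ∣ orderOf x then 1 else 0 := by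
    intro x
    rw [hb, pRegularPart_apply, trivIrr_apply]
  have hbS : ∀ x, MemLocalRing M (b x) := by
    intro x
    rw [hbval]
    by_cases hx : p ∣ orderOf x
    · rw [if_neg (not_not.2 hx)]
      exact memLocalRing_zero hMp.ne_top
    · rw [if_pos hx]
      exact memLocalRing_one hMp.ne_top
  have hωR : omega (trivIrr G : G → ℂ) b = (R : ℂ) := by
    unfold omega
    rw [trivIrr_apply, div_one]
    simp only [trivIrr_apply, mul_one, hbval]
    rw [Finset.sum_boole]
  have hb_inv : (fun x : G => b x⁻¹) = b := by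
    funext x
    rw [hbval, hbval, orderOf_inv]
  have hω_out : ∀ ψ : IrrCharacter G, ψ ∉ B → omega (ψ : G → ℂ) b = 0 := by
    intro ψ hψ
    have h1 : ¬ SameBlock M (trivIrr G : G → ℂ) (ψ : G → ℂ) := fun h => hψ ((hBmem ψ).2 h)
    have h2 := classInner_pRegularPart_eq_zero hM h1
    rw [classInner_eq_omega ψ.2, hb_inv] at h2
    have hG0 : (Nat.card G : ℂ) ≠ 0 := Nat.cast_ne_zero.2 Nat.card_pos.ne'
    rcases mul_eq_zero.1 h2 with h3 | h3
    · exfalso
      rcases div_eq_zero_iff.1 h3 with h4 | h4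
      · exact irr_apply_one_ne_zero ψ.2 h4
      · exact hG0 h4
    · exact h3
  have hω_in : ∀ ψ : IrrCharacter G, ψ ∈ B → MemLocalIdeal M (omega (ψ : G → ℂ) b - (R : ℂ)) := by
    intro ψ hψ
    have h1 := memLocalIdeal_omega_sub hMp ψ.2 (trivIrr G).2 (sameBlock_symm ((hBmem ψ).1 hψ))
      hbcf hbS
    rwa [hωR] at h1
  -- the class function `1_{G_p} - δ₁` vanishes on the `p`-regular elements
  have hθ : ∀ u z : G, IsPPart p u z → IsConj (1 : G) z → (a - deltaOne : G → ℂ) u = 0 := by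
    intro u z huz h1z
    have hz : z = 1 := (isConj_one_right.1 h1z)
    subst hz
    obtain ⟨y, hy1, _, _, hy2⟩ := huz
    rw [one_mul] at hy1
    subst hy1
    rw [Pi.sub_apply, ha, pEltScale_apply]
    unfold deltaOne
    by_cases h3 : ∃ k : ℕ, orderOf y = p ^ k
    · have := eq_one_of_pElt_of_pRegular h3 hy2
      rw [if_pos h3, if_pos this, sub_self]
    · have h4 : y ≠ 1 := by
        rintro rfl
        exact h3 ⟨0, by rw [orderOf_one, pow_zero]⟩
      rw [if_neg h3, if_neg h4, sub_self]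
  have hginv : ¬ p ∣ orderOf g⁻¹ := by rwa [orderOf_inv]
  have hpart : IsPPart p g⁻¹ 1 :=
    ⟨g⁻¹, one_mul _, Commute.one_left _, ⟨0, by rw [orderOf_one, pow_zero]⟩, hginv⟩
  have hzero := blockPart_eq_zero_on_section hM hθ hBblock hpart (IsConj.refl 1)
  rw [blockPart_eq_sum] at hzero
  -- expansions
  have hF := classFunction_eq_sum_omega (isClassFunction_conv hacf hbcf) g
  have hE := blockCoeff_eq_sum B g
  have hG0 : (Nat.card G : ℂ) ≠ 0 := Nat.cast_ne_zero.2 Nat.card_pos.ne'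
  have key : (R : ℂ) * blockCoeff B g - conv a b g =
      ∑ ψ : IrrCharacter G, ((Nat.card G : ℂ)⁻¹ * ∑ x, a x * (ψ : G → ℂ) x) *
        (((R : ℂ) * (if ψ ∈ B then (1 : ℂ) else 0) - omega (ψ : G → ℂ) b) *
          conj ((ψ : G → ℂ) g)) := by
    have h1 : ∀ ψ : IrrCharacter G, ∑ x, a x * (ψ : G → ℂ) x =
        omega (ψ : G → ℂ) a * (ψ : G → ℂ) 1 := by
      intro ψ
      unfold omega
      rw [div_mul_cancel₀ _ (irr_apply_one_ne_zero ψ.2)]
    have h2 : ∑ ψ : IrrCharacter G, (if ψ ∈ B then (1 : ℂ) else 0) *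
        ((Nat.card G : ℂ)⁻¹ * (omega (ψ : G → ℂ) a * (ψ : G → ℂ) 1 - (ψ : G → ℂ) 1) *
          conj ((ψ : G → ℂ) g)) = 0 := by
      refine Eq.trans (Finset.sum_congr rfl fun ψ _ => ?_) hzero
      rw [ha, classInner_pElt_sub_deltaOne ψ.2, isCharacter_inv (isCharacter_of_irr ψ.2)]
    have h3 : ∀ ψ : IrrCharacter G, omega (ψ : G → ℂ) (conv a b) =
        omega (ψ : G → ℂ) a * omega (ψ : G → ℂ) b := fun ψ => omega_conv ψ.2 hbcf
    rw [hF, hE]
    simp only [h1, h3]
    have h4 : (R : ℂ) * ((Nat.card G : ℂ)⁻¹ * ∑ ψ : IrrCharacter G,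
        (if ψ ∈ B then (1 : ℂ) else 0) * (ψ : G → ℂ) 1 * conj ((ψ : G → ℂ) g)) -
        (Nat.card G : ℂ)⁻¹ * ∑ ψ : IrrCharacter G, omega (ψ : G → ℂ) a * omega (ψ : G → ℂ) b *
          (ψ : G → ℂ) 1 * conj ((ψ : G → ℂ) g) =
        ∑ ψ : IrrCharacter G, ((Nat.card G : ℂ)⁻¹ * (omega (ψ : G → ℂ) a * (ψ : G → ℂ) 1)) *
        (((R : ℂ) * (if ψ ∈ B then (1 : ℂ) else 0) - omega (ψ : G → ℂ) b) *
          conj ((ψ : G → ℂ) g)) - (R : ℂ) * ∑ ψ : IrrCharacter G, (if ψ ∈ B then (1 : ℂ) else 0) *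
        ((Nat.card G : ℂ)⁻¹ * (omega (ψ : G → ℂ) a * (ψ : G → ℂ) 1 - (ψ : G → ℂ) 1) *
          conj ((ψ : G → ℂ) g)) := by
      simp only [Finset.mul_sum, ← Finset.sum_sub_distrib]
      refine Finset.sum_congr rfl fun ψ _ => ?_
      ring
    rw [h4, h2, mul_zero, sub_zero]
  have hideal : MemLocalIdeal M ((R : ℂ) * blockCoeff B g - conv a b g) := by
    rw [key]
    apply memLocalIdeal_sum hMp
    intro ψ _
    have h1 : MemLocalRing M ((Nat.card G : ℂ)⁻¹ * ∑ x, a x * (ψ : G → ℂ) x) :=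
      memLocalRing_sum_pElt hM (isCharacter_of_irr ψ.2)
    have h2 : MemLocalRing M (conj ((ψ : G → ℂ) g)) := by
      rw [← isCharacter_inv (isCharacter_of_irr ψ.2)]
      exact memLocalRing_of_isIntegral hMp.ne_top
        (Cfsg.Agent.S0161.isIntegral_isCharacter (isCharacter_of_irr ψ.2) _)
    apply memLocalIdeal_mul_left hMp h1
    apply memLocalIdeal_mul_right hMp _ h2
    by_cases hψ : ψ ∈ B
    · rw [if_pos hψ, mul_one]
      have := memLocalIdeal_neg (hω_in ψ hψ)
      rwa [neg_sub] at this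
    · rw [if_neg hψ, mul_zero, hω_out ψ hψ, sub_zero]
      exact memLocalIdeal_zero hMp.ne_top
  have hR0 : (R : ℂ) ≠ 0 := by
    apply Nat.cast_ne_zero.2
    rintro h0
    rw [h0] at hRp
    exact hRp (dvd_zero p)
  have hfin : blockCoeff B g - conv a b g / (R : ℂ) =
      ((R : ℂ) * blockCoeff B g - conv a b g) * (R : ℂ)⁻¹ := by
    field_simp
  rw [hfin]
  exact memLocalIdeal_mul_right hMp hideal (memLocalRing_inv_natCast hM hRp)

/-- The convolution of the indicator functions of the `p`-elements and of the `p`-regular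
elements counts factorizations. -/
theorem conv_pElt_pReg_eq_card (g : G) :
    conv (pEltScale p 1) (pRegularPart p (trivIrr G : G → ℂ)) g =
      (Nat.card {xy : G × G // (∃ k : ℕ, orderOf xy.1 = p ^ k) ∧ ¬ p ∣ orderOf xy.2 ∧
        xy.1 * xy.2 = g} : ℂ) := by
  classical
  rw [conv_apply]
  have h1 : ∀ y : G, pEltScale p 1 y * pRegularPart p (trivIrr G : G → ℂ) (y⁻¹ * g) =
      if ((∃ k : ℕ, orderOf y = p ^ k) ∧ ¬ p ∣ orderOf (y⁻¹ * g)) then 1 else 0 := by
    intro y
    rw [pEltScale_apply, pRegularPart_apply, trivIrr_apply]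
    by_cases h2 : ∃ k : ℕ, orderOf y = p ^ k
    · by_cases h3 : p ∣ orderOf (y⁻¹ * g)
      · rw [if_pos h2, if_neg (not_not.2 h3),
          if_neg (fun h : (∃ k : ℕ, orderOf y = p ^ k) ∧ ¬ p ∣ orderOf (y⁻¹ * g) => h.2 h3),
          mul_zero]
      · rw [if_pos h2, if_pos h3, if_pos ⟨h2, h3⟩, mul_one]
    · rw [if_neg h2,
        if_neg (fun h : (∃ k : ℕ, orderOf y = p ^ k) ∧ ¬ p ∣ orderOf (y⁻¹ * g) => h2 h.1),
        zero_mul]
  simp only [h1]
  rw [Finset.sum_boole]
  congr 1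
  rw [← Fintype.card_subtype, ← Nat.card_eq_fintype_card]
  apply Nat.card_congr
  refine ⟨fun y => ⟨(y.1, y.1⁻¹ * g), y.2.1, y.2.2, mul_inv_cancel_left _ _⟩,
    fun xy => ⟨xy.1.1, xy.2.1, ?_⟩, ?_, ?_⟩
  · have h2 : xy.1.1⁻¹ * g = xy.1.2 := by
      have h3 := xy.2.2.2
      calc xy.1.1⁻¹ * g = xy.1.1⁻¹ * (xy.1.1 * xy.1.2) := by rw [h3]
        _ = xy.1.2 := inv_mul_cancel_left _ _
    rw [h2]
    exact xy.2.2.1
  · intro y
    rfl
  · intro xy
    apply Subtype.ext
    apply Prod.ext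
    · rfl
    · show xy.1.1⁻¹ * g = xy.1.2
      have h3 := xy.2.2.2
      calc xy.1.1⁻¹ * g = xy.1.1⁻¹ * (xy.1.1 * xy.1.2) := by rw [h3]
        _ = xy.1.2 := inv_mul_cancel_left _ _

/-- **Külshammer's formula**, with the counts as cardinalities of subtypes. -/
theorem kulshammer_formula' (hM : IsPModular p M) (g : G) (hg : ¬ p ∣ orderOf g) :
    MemLocalIdeal M (blockCoeff (principalBlock M G) g -
      (Nat.card {xy : G × G // (∃ k : ℕ, orderOf xy.1 = p ^ k) ∧ ¬ p ∣ orderOf xy.2 ∧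
        xy.1 * xy.2 = g} : ℂ) / (Nat.card {y : G // ¬ p ∣ orderOf y} : ℂ)) := by
  classical
  have h1 := kulshammer_formula hM g hg
  rw [conv_pElt_pReg_eq_card] at h1
  have h2 : Nat.card {y : G // ¬ p ∣ orderOf y} =
      (Finset.univ.filter (fun y : G => ¬ p ∣ orderOf y)).card := by
    rw [Nat.card_eq_fintype_card, Fintype.card_subtype]
  rw [h2]
  exact h1

end

end Cfsg.Agent.Lib.Helper8
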