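import Mathlib
import Cfsg.Prelude.Def_Blocks
import Cfsg.Agent.Lib.Helper8.KU3
import Cfsg.Agent.Lib.Helper8.BlockDefectBounds
import Cfsg.Agent.Lib.Helper8.PairFull
import Cfsg.Agent.Lib.Helper8.SylowConj
import Cfsg.Agent.Lib.Helper8.SylowCard

/-!
# Separated classes with a common defect group: the orthogonality identity
-/

set_option autoImplicit false

namespace Cfsg.Agent.Lib.Helper8

open Cfsg
open scoped ComplexConjugate
open Cfsg.Agent.Lib.Helper1 Cfsg.Agent.Lib.Helper4

universe u

section

variable {G : Type u} [Group G] [Fintype G] {M : Ideal AlgInt} {p : ℕ}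

/-- The normalized sum of a character over the `p`-elements. -/
noncomputable def pEltCoeff (p : ℕ) (ψ : G → ℂ) : ℂ :=
  (Nat.card G : ℂ)⁻¹ * ∑ u, pEltScale p 1 u * ψ u

theorem memLocalRing_pEltCoeff (hM : IsPModular p M) {ψ : G → ℂ} (hψ : IsCharacter G ψ) :
    MemLocalRing M (pEltCoeff p ψ) := memLocalRing_sum_pElt hM hψ

/-- The orthogonality identity for classes separated by `p`-elements. -/
theorem sum_pEltCoeff_centralChar_conj [Fintype (IrrCharacter G)] (a b : G)
    (hsep : ∀ g h : G, IsConj a g → IsConj b h → (∃ n : ℕ, orderOf (g⁻¹ * h) = p ^ n) → g = h) :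
    ∑ ψ : IrrCharacter G, pEltCoeff p (ψ : G → ℂ) * centralChar (ψ : G → ℂ) a *
      conj ((ψ : G → ℂ) b) = by classical exact if IsConj a b then 1 else 0 := by
  classical
  have hcf : IsClassFunction G (conv (classIndicator a) (pEltScale p 1 : G → ℂ)) :=
    isClassFunction_conv (classIndicator_isClassFunction a) (isClassFunction_pEltScale p 1)
  have h1 := classFunction_eq_sum_omega hcf b
  have h2 : conv (classIndicator a) (pEltScale p 1 : G → ℂ) b = if IsConj a b then 1 else 0 := by
    rw [conv_apply]
    by_cases hab : IsConj a b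
    · rw [if_pos hab, Finset.sum_eq_single b]
      · unfold classIndicator
        rw [if_pos hab, inv_mul_cancel, pEltScale_one_one, mul_one]
      · intro y _ hyb
        unfold classIndicator
        by_cases hay : IsConj a y
        · rw [if_pos hay, one_mul, pEltScale_apply, if_neg]
          intro hpe
          exact hyb (hsep y b hay (IsConj.refl b) hpe)
        · rw [if_neg hay, zero_mul]
      · intro h
        exact absurd (Finset.mem_univ _) h
    · rw [if_neg hab]
      apply Finset.sum_eq_zero
      intro y _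
      unfold classIndicator
      by_cases hay : IsConj a y
      · rw [if_pos hay, one_mul, pEltScale_apply, if_neg]
        intro hpe
        have := hsep y b hay (IsConj.refl b) hpe
        rw [this] at hay
        exact hab hay
      · rw [if_neg hay, zero_mul]
  rw [h2] at h1
  rw [h1, Finset.mul_sum]
  refine Finset.sum_congr rfl fun ψ _ => ?_
  rw [omega_conv ψ.2 (isClassFunction_pEltScale p 1),
    omega_classIndicator (isClassFunction_irr ψ.2)]
  unfold pEltCoeff omega
  have h3 := irr_apply_one_ne_zero ψ.2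
  have h4 : centralChar (ψ : G → ℂ) a * ((∑ g, pEltScale p 1 g * (ψ : G → ℂ) g) / (ψ : G → ℂ) 1) *
      (ψ : G → ℂ) 1 = centralChar (ψ : G → ℂ) a * (∑ g, pEltScale p 1 g * (ψ : G → ℂ) g) := by
    rw [mul_assoc, div_mul_cancel₀ _ h3]
  rw [h4]
  ring

omit [Fintype G] in
theorem centralizer_singleton_inv (g : G) :
    Subgroup.centralizer ({g⁻¹} : Set G) = Subgroup.centralizer ({g} : Set G) := by
  ext z
  rw [Subgroup.mem_centralizer_singleton_iff, Subgroup.mem_centralizer_singleton_iff]
  constructor
  · intro h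
    have h1 : z * g = g * (g⁻¹ * z) * g := by group
    rw [h1, ← h]
    group
  · intro h
    have h1 : z * g⁻¹ = g⁻¹ * (g * z) * g⁻¹ := by group
    rw [h1, ← h]
    group

/-- The value of an irreducible character through its central character. -/
theorem irr_apply_eq_centralChar_mul {ψ : G → ℂ} (hψ : IsIrrCharacter G ψ) (g : G) :
    ψ g = centralChar ψ g * (ψ 1 / ((Subgroup.centralizer ({g} : Set G)).index : ℂ)) := by
  unfold centralChar
  have h1 := irr_apply_one_ne_zero hψ
  have h2 : ((Subgroup.centralizer ({g} : Set G)).index : ℂ) ≠ 0 :=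
    Nat.cast_ne_zero.2 Subgroup.index_ne_zero_of_finite
  field_simp

/-- If the defect of the block of `ψ` is smaller than the defect of the class of `g`, the value
`ψ(g)` lies in the local ideal. -/
theorem memLocalIdeal_irr_apply_of_defect_lt (hM : IsPModular p M) (ψ : IrrCharacter G) (g : G)
    (hlt : blockDefect p (blockOf M (ψ : G → ℂ)) <
      (Nat.card (Subgroup.centralizer ({g} : Set G))).factorization p) :
    MemLocalIdeal M ((ψ : G → ℂ) g) := by
  classical
  haveI hp : Fact p.Prime := ⟨hM.1⟩
  have hMp := isPModular_isPrime hM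
  rw [irr_apply_eq_centralChar_mul ψ.2 g]
  apply memLocalIdeal_mul_left hMp (memLocalRing_centralChar hMp.ne_top ψ.2 g)
  obtain ⟨hd1, hd0⟩ := irr_apply_one_eq_charDegree ψ.2
  rw [hd1]
  apply memLocalIdeal_natCast_div hM Subgroup.index_ne_zero_of_finite
  set C := Subgroup.centralizer ({g} : Set G) with hC
  have hψB : ψ ∈ blockOf M (ψ : G → ℂ) := sameBlock_refl hMp.ne_top _
  have h1 : sInf ((fun χ : IrrCharacter G => (charDegree (χ : G → ℂ)).factorization p) ''
      blockOf M (ψ : G → ℂ)) ≤ (charDegree (ψ : G → ℂ)).factorization p :=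
    Nat.sInf_le ⟨ψ, hψB, rfl⟩
  have h2 : (Nat.card C).factorization p + C.index.factorization p =
      (Nat.card G).factorization p := by
    rw [← C.card_mul_index, Nat.factorization_mul Nat.card_pos.ne'
      Subgroup.index_ne_zero_of_finite, Finsupp.add_apply]
  have h3 : (charDegree (ψ : G → ℂ)).factorization p ≤ (Nat.card G).factorization p :=
    (Nat.factorization_le_iff_dvd hd0.ne' Nat.card_pos.ne').2 (charDegree_dvd_card ψ.2) p
  unfold blockDefect at hlt
  omega

/-- If the central character of `ψ` is a unit at `g`, the block of `ψ` has defect equal to the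
defect of the class of `g`, and `D` is a Sylow `p`-subgroup of `C_G(g)`, then `D` is a defect
group of the block of `ψ`. -/
theorem isDefectGroup_of_centralChar_unit (hM : IsPModular p M) (ψ : IrrCharacter G) (g : G)
    (hunit : ¬ MemLocalIdeal M (centralChar (ψ : G → ℂ) g)) (D : Subgroup G)
    (S : Sylow p (Subgroup.centralizer ({g} : Set G)))
    (hS : (S : Subgroup (Subgroup.centralizer ({g} : Set G))).map
      (Subgroup.centralizer ({g} : Set G)).subtype = D)
    (hdef : blockDefect p (blockOf M (ψ : G → ℂ)) =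
      (Nat.card (Subgroup.centralizer ({g} : Set G))).factorization p) :
    IsDefectGroup p M (blockOf M (ψ : G → ℂ)) D := by
  classical
  haveI hp : Fact p.Prime := ⟨hM.1⟩
  have hMp := isPModular_isPrime hM
  set B := blockOf M (ψ : G → ℂ) with hB
  have hBblock : IsPBlock M B := ⟨ψ, rfl⟩
  have hψB : ψ ∈ B := sameBlock_refl hMp.ne_top _
  obtain ⟨w, hw⟩ := exists_isDefectClass hMp hBblock
  obtain ⟨P⟩ : Nonempty (Sylow p (Subgroup.centralizer ({w} : Set G))) := inferInstance
  set Q := (P : Subgroup (Subgroup.centralizer ({w} : Set G))).map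
    (Subgroup.centralizer ({w} : Set G)).subtype with hQ
  have hQdef : IsDefectGroup p M B Q := ⟨w, hw, P, rfl⟩
  have hQp : IsPGroup p Q := P.isPGroup'.map _
  have hQw : Q ≤ Subgroup.centralizer ({w} : Set G) := by
    rintro _ ⟨q, _, rfl⟩
    exact q.2
  have hQcard : Nat.card Q = p ^ blockDefect p B := by
    rw [hQ, Nat.card_congr (Subgroup.equivMapOfInjective _ _
      (Subgroup.subtype_injective _)).symm.toEquiv]
    exact card_sylow_centralizer_of_isDefectClass hM hBblock hw P
  obtain ⟨y, hy, hQy⟩ := exists_isConj_le_centralizer hM hBblock ⟨ψ, hψB, hunit⟩ hw.2.1 Q hQp hQw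
  obtain ⟨t, rfl⟩ := isConj_iff.1 hy
  have hQ'le := map_conj_le_centralizer hQy
  have hQ'p : IsPGroup p (Q.map (MulAut.conj t⁻¹).toMonoidHom) := hQp.map _
  obtain ⟨c, _, hc⟩ := exists_conj_sylow_ge (Subgroup.centralizer ({g} : Set G)) S hQ'p hQ'le
  rw [hS] at hc
  have hDcard : Nat.card D = p ^ (Nat.card (Subgroup.centralizer ({g} : Set G))).factorization p :=
    card_of_sylow_map_eq _ D S hS
  have hcard1 : Nat.card (Q.map (MulAut.conj t⁻¹).toMonoidHom) = Nat.card Q :=
    Nat.card_congr (Subgroup.equivMapOfInjective _ _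
      (MulAut.conj t⁻¹).injective).symm.toEquiv
  have hcard2 : Nat.card (D.map (MulAut.conj c).toMonoidHom) = Nat.card D :=
    Nat.card_congr (Subgroup.equivMapOfInjective _ _
      (MulAut.conj c).injective).symm.toEquiv
  have heq : Q.map (MulAut.conj t⁻¹).toMonoidHom = D.map (MulAut.conj c).toMonoidHom := by
    apply Subgroup.eq_of_le_of_card_ge hc
    rw [hcard1, hcard2, hQcard, hDcard, hdef]
  have hD : D = Q.map (MulAut.conj (c⁻¹ * t⁻¹)).toMonoidHom := by
    rw [← map_conj_map_conj, heq]
    have := map_conj_inv_map_conj (D.map (MulAut.conj c).toMonoidHom) c⁻¹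
    rw [inv_inv] at this
    rw [map_conj_map_conj, inv_mul_cancel]
    ext z
    simp
  rw [hD]
  exact isDefectGroup_map_conj hQdef _

/-- **Injectivity**: for classes separated by `p`-elements with common defect group `D`, a local
linear combination of the class sums annihilated by all blocks with defect group `D` has all
its coefficients in the local ideal. -/
theorem memLocalIdeal_coeff_of_forall_defect (hM : IsPModular p M) (D : Subgroup G) {r : ℕ}
    (x : Fin r → G) (hx : ∀ i j : Fin r, IsConj (x i) (x j) → i = j)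
    (hD : ∀ i : Fin r, ∃ S : Sylow p ↥(Subgroup.centralizer ({x i} : Set G)),
      (S : Subgroup ↥(Subgroup.centralizer ({x i} : Set G))).map
        (Subgroup.centralizer ({x i} : Set G)).subtype = D)
    (hsep : ∀ i j : Fin r, ∀ g h : G, IsConj (x i) g → IsConj (x j) h →
      (∃ n : ℕ, orderOf (g⁻¹ * h) = p ^ n) → g = h)
    (c : Fin r → ℂ) (hc : ∀ j, MemLocalRing M (c j))
    (hyp : ∀ ψ : IrrCharacter G, IsDefectGroup p M (blockOf M (ψ : G → ℂ)) D →
      MemLocalIdeal M (∑ j, c j * centralChar (ψ : G → ℂ) (x j))) (k : Fin r) :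
    MemLocalIdeal M (c k) := by
  classical
  haveI hp : Fact p.Prime := ⟨hM.1⟩
  have hMp := isPModular_isPrime hM
  haveI : Fintype (IrrCharacter G) := Fintype.ofFinite _
  have hexp : c k = ∑ ψ : IrrCharacter G, pEltCoeff p (ψ : G → ℂ) *
      ((∑ j, c j * centralChar (ψ : G → ℂ) (x j)) * conj ((ψ : G → ℂ) (x k))) := by
    have h1 : ∀ j : Fin r, ∑ ψ : IrrCharacter G, pEltCoeff p (ψ : G → ℂ) *
        centralChar (ψ : G → ℂ) (x j) * conj ((ψ : G → ℂ) (x k)) = if j = k then 1 else 0 := by
      intro j
      rw [sum_pEltCoeff_centralChar_conj (x j) (x k) (hsep j k)]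
      by_cases hjk : j = k
      · rw [if_pos hjk, if_pos (by rw [hjk])]
      · rw [if_neg hjk, if_neg (fun h => hjk (hx j k h))]
    have h2 : c k = ∑ j, c j * (if j = k then (1 : ℂ) else 0) := by
      simp only [mul_ite, mul_one, mul_zero, Finset.sum_ite_eq', Finset.mem_univ, if_true]
    rw [h2]
    simp only [← h1, Finset.mul_sum, Finset.sum_mul]
    rw [Finset.sum_comm]
    refine Finset.sum_congr rfl fun ψ _ => ?_
    refine Finset.sum_congr rfl fun j _ => ?_
    ring
  rw [hexp]
  apply memLocalIdeal_sum hMp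
  intro ψ _
  have hα : MemLocalRing M (pEltCoeff p (ψ : G → ℂ)) :=
    memLocalRing_pEltCoeff hM (isCharacter_of_irr ψ.2)
  have hconjS : MemLocalRing M (conj ((ψ : G → ℂ) (x k))) := by
    rw [← isCharacter_inv (isCharacter_of_irr ψ.2)]
    exact memLocalRing_of_isIntegral hMp.ne_top
      (Cfsg.Agent.S0161.isIntegral_isCharacter (isCharacter_of_irr ψ.2) _)
  have hsumS : MemLocalRing M (∑ j, c j * centralChar (ψ : G → ℂ) (x j)) := by
    apply memLocalRing_sum hMp
    intro j _
    exact memLocalRing_mul hMp (hc j) (memLocalRing_centralChar hMp.ne_top ψ.2 _)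
  apply memLocalIdeal_mul_left hMp hα
  by_cases hψD : IsDefectGroup p M (blockOf M (ψ : G → ℂ)) D
  · exact memLocalIdeal_mul_right hMp (hyp ψ hψD) hconjS
  · by_cases hall : ∀ j, MemLocalIdeal M (centralChar (ψ : G → ℂ) (x j))
    · apply memLocalIdeal_mul_right hMp _ hconjS
      apply memLocalIdeal_sum hMp
      intro j _
      exact memLocalIdeal_mul_left hMp (hc j) (hall j)
    · push Not at hall
      obtain ⟨j, hj⟩ := hall
      apply memLocalIdeal_mul_left hMp hsumS
      set B := blockOf M (ψ : G → ℂ) with hB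
      have hBblock : IsPBlock M B := ⟨ψ, rfl⟩
      have hψB : ψ ∈ B := sameBlock_refl hMp.ne_top _
      have hle := le_factorization_of_not_memLocalIdeal_centralChar hM hBblock ⟨ψ, hψB, hj⟩
      obtain ⟨Sj, hSj⟩ := hD j
      obtain ⟨Sk, hSk⟩ := hD k
      have hcj := card_of_sylow_map_eq _ D Sj hSj
      have hck := card_of_sylow_map_eq _ D Sk hSk
      have hjk : (Nat.card (Subgroup.centralizer ({x j} : Set G))).factorization p =
          (Nat.card (Subgroup.centralizer ({x k} : Set G))).factorization p :=
        Nat.pow_right_injective hM.1.two_le (hcj.symm.trans hck)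
      have hlt : blockDefect p B <
          (Nat.card (Subgroup.centralizer ({x j} : Set G))).factorization p := by
        rcases lt_or_eq_of_le hle with h | h
        · exact h
        · exact absurd (isDefectGroup_of_centralChar_unit hM ψ (x j) hj D Sj hSj h) hψD
      rw [← isCharacter_inv (isCharacter_of_irr ψ.2)]
      apply memLocalIdeal_irr_apply_of_defect_lt hM ψ
      rw [centralizer_singleton_inv, ← hjk]
      exact hlt

end

end Cfsg.Agent.Lib.Helper8
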