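import Mathlib
import Cfsg.Prelude.Def_Blocks
import Cfsg.Agent.Lib.Helper8.RB1
import Cfsg.Agent.Lib.Helper8.CharPPart
import Cfsg.Agent.Lib.Helper8.BlockUnion
import Cfsg.Agent.S0148

/-!
# Products of two conjugates of an involution and character degrees
-/

set_option autoImplicit false

namespace Cfsg.Agent.Lib.Helper8

open Cfsg
open scoped ComplexConjugate
open Cfsg.Agent.Lib.Helper1 Cfsg.Agent.Lib.Helper4

universe u

section

variable {G : Type u} [Group G] [Fintype G] {M : Ideal AlgInt} {p : ℕ}

/-- The number of ways of writing `1` as a product of two conjugates of an involution. -/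
theorem conv_classIndicator_self_one (x : G) (hx : orderOf x = 2) :
    conv (classIndicator x) (classIndicator x) 1 =
      ((Subgroup.centralizer ({x} : Set G)).index : ℂ) := by
  classical
  rw [conv_apply]
  have hcf : IsClassFunction G (fun y : G => classIndicator x (y⁻¹ * 1)) := by
    intro y t
    have h1 : (t * y * t⁻¹)⁻¹ * 1 = t * (y⁻¹ * 1) * t⁻¹ := by group
    show classIndicator x ((t * y * t⁻¹)⁻¹ * 1) = classIndicator x (y⁻¹ * 1)
    rw [h1, classIndicator_isClassFunction x]
  rw [Cfsg.Agent.S0141.sum_classIndicator_mul x _ hcf]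
  have hxx : x⁻¹ * 1 = x := by
    rw [mul_one, inv_eq_iff_mul_eq_one, ← pow_two, ← hx, pow_orderOf_eq_one]
  simp only [hxx]
  unfold classIndicator
  rw [if_pos (IsConj.refl x), mul_one]

/-- If no conjugate of the involution `x` inverts `z` then `z` is not a product of two conjugates
of `x`. -/
theorem conv_classIndicator_self_eq_zero (x : G) (hx : orderOf x = 2) (z : G)
    (hz : ∀ g : G, IsConj x g → g * z * g⁻¹ ≠ z⁻¹) :
    conv (classIndicator x) (classIndicator x) z = 0 := by
  classical
  rw [conv_apply]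
  refine Finset.sum_eq_zero fun y _ => ?_
  unfold classIndicator
  by_cases h1 : IsConj x y
  · by_cases h2 : IsConj x (y⁻¹ * z)
    · exfalso
      apply hz y h1
      have hy2 : y * y = 1 := by
        have : orderOf y = 2 := by
          obtain ⟨c, hc⟩ := isConj_iff.1 h1
          rw [← hc]
          have := MulEquiv.orderOf_eq (MulAut.conj c) x
          rw [MulAut.conj_apply] at this
          rw [this, hx]
        rw [← pow_two, ← this, pow_orderOf_eq_one]
      have hw2 : (y⁻¹ * z) * (y⁻¹ * z) = 1 := by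
        have : orderOf (y⁻¹ * z) = 2 := by
          obtain ⟨c, hc⟩ := isConj_iff.1 h2
          rw [← hc]
          have := MulEquiv.orderOf_eq (MulAut.conj c) x
          rw [MulAut.conj_apply] at this
          rw [this, hx]
        rw [← pow_two, ← this, pow_orderOf_eq_one]
      have hyinv : y⁻¹ = y := inv_eq_of_mul_eq_one_left hy2
      rw [hyinv] at hw2 ⊢
      -- y z y z = 1
      have : y * z * y = z⁻¹ := by
        rw [eq_inv_iff_mul_eq_one]
        calc y * z * y * z = (y * z) * (y * z) := by group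
          _ = 1 := hw2
      exact this
    · rw [if_neg h2, mul_zero]
  · rw [if_neg h1, zero_mul]

/-- The central character of the square of the class sum of `x`. -/
theorem omega_conv_classIndicator_self {χ : G → ℂ} (hχ : IsIrrCharacter G χ) (x : G) :
    omega χ (conv (classIndicator x) (classIndicator x)) = centralChar χ x ^ 2 := by
  rw [omega_conv hχ (classIndicator_isClassFunction x),
    omega_classIndicator (isClassFunction_irr hχ), pow_two]

/-- The basic identity: summing the class multiplication coefficient over a subgroup `P` no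
non-identity element of which is inverted by a conjugate of the involution `x`. -/
theorem sum_centralChar_sq_mul_fixed [Fintype (IrrCharacter G)] (x : G) (hx : orderOf x = 2)
    (P : Subgroup G) [Fintype P]
    (hinv : ∀ g : G, IsConj x g → ∀ z ∈ P, z ≠ 1 → g * z * g⁻¹ ≠ z⁻¹) :
    ((Subgroup.centralizer ({x} : Set G)).index : ℂ) = (Nat.card G : ℂ)⁻¹ *
      ∑ ψ : IrrCharacter G, centralChar (ψ : G → ℂ) x ^ 2 * (ψ : G → ℂ) 1 *
        ∑ z : P, conj ((ψ : G → ℂ) (z : G)) := by
  classical
  set θ : G → ℂ := conv (classIndicator x) (classIndicator x) with hθ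
  have hcf : IsClassFunction G θ :=
    isClassFunction_conv (classIndicator_isClassFunction x) (classIndicator_isClassFunction x)
  have h1 : ∑ z : P, θ (z : G) = ((Subgroup.centralizer ({x} : Set G)).index : ℂ) := by
    rw [Finset.sum_eq_single (1 : P)]
    · exact conv_classIndicator_self_one x hx
    · intro z _ hz
      apply conv_classIndicator_self_eq_zero x hx
      intro g hg
      exact hinv g hg z z.2 (fun h => hz (Subtype.ext h))
    · intro h
      exact absurd (Finset.mem_univ _) h
  rw [← h1]
  have h2 : ∀ z : P, θ (z : G) = (Nat.card G : ℂ)⁻¹ *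
      ∑ ψ : IrrCharacter G, centralChar (ψ : G → ℂ) x ^ 2 * (ψ : G → ℂ) 1 *
        conj ((ψ : G → ℂ) (z : G)) := by
    intro z
    rw [classFunction_eq_sum_omega hcf (z : G)]
    congr 1
    refine Finset.sum_congr rfl fun ψ _ => ?_
    rw [hθ, omega_conv_classIndicator_self ψ.2]
  simp only [h2]
  rw [← Finset.mul_sum, Finset.sum_comm]
  congr 1
  refine Finset.sum_congr rfl fun ψ _ => ?_
  rw [Finset.mul_sum]

/-- The sum of the conjugate of a character over a subgroup is the order of the subgroup times a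
natural number. -/
theorem sum_conj_subgroup_eq_nat (P : Subgroup G) [Fintype P] {ψ : G → ℂ} (hψ : IsCharacter G ψ) :
    ∃ m : ℕ, ∑ z : P, conj (ψ (z : G)) = (Nat.card P : ℂ) * m := by
  have h1 : IsCharacter P (fun _ => (1 : ℂ)) :=
    isCharacter_of_irr (isIrrCharacter_of_hom (1 : P →* ℂˣ))
  obtain ⟨m, hm⟩ := classInner_char_nat h1 (Cfsg.Agent.S0148.isCharacter_restrict P hψ)
  refine ⟨m, ?_⟩
  rw [← hm, classInner_def]
  have hP0 : (Nat.card P : ℂ) ≠ 0 := Nat.cast_ne_zero.2 Nat.card_pos.ne'
  rw [← mul_assoc, mul_inv_cancel₀ hP0, one_mul]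
  refine Finset.sum_congr rfl fun z _ => ?_
  rw [one_mul]

/-- **Robinson**: if no conjugate of the involution `x` inverts a non-identity element of the
subgroup `P` of order `p ^ c`, then some irreducible character has degree divisible by
`p ^ (c - a)`, where `p ^ a` is the `p`-part of the order of the centralizer of `x`. -/
theorem exists_irr_pow_dvd_degree_of_not_inverted (hM : IsPModular p M) (x : G)
    (hx : orderOf x = 2) (P : Subgroup G) (c : ℕ) (hP : Nat.card P = p ^ c)
    (hinv : ∀ g : G, IsConj x g → ∀ z ∈ P, z ≠ 1 → g * z * g⁻¹ ≠ z⁻¹) :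
    ∃ χ : IrrCharacter G, p ^ (c - (Nat.card (Subgroup.centralizer ({x} : Set G))).factorization p)
      ∣ charDegree (χ : G → ℂ) := by
  classical
  haveI : Fintype (IrrCharacter G) := Fintype.ofFinite _
  haveI : Fintype P := Fintype.ofFinite _
  have hMp := isPModular_isPrime hM
  have hp := hM.1
  set a := (Nat.card (Subgroup.centralizer ({x} : Set G))).factorization p with ha
  by_contra hcon
  push Not at hcon
  have hca : 0 < c - a := by
    by_contra h0
    have h0' : c - a = 0 := by omega
    have χ0 : IrrCharacter G := ⟨_, isIrrCharacter_of_hom (1 : G →* ℂˣ)⟩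
    apply hcon χ0
    rw [h0', pow_zero]
    exact one_dvd _
  set e := c - a with he
  have hid := sum_centralChar_sq_mul_fixed x hx P hinv
  -- divide the identity
  set K : ℂ := ((Subgroup.centralizer ({x} : Set G)).index : ℂ) with hK
  set C : ℕ := Nat.card (Subgroup.centralizer ({x} : Set G)) with hC
  have hK0 : K ≠ 0 := Nat.cast_ne_zero.2 Subgroup.index_ne_zero_of_finite
  have hG0 : (Nat.card G : ℂ) ≠ 0 := Nat.cast_ne_zero.2 Nat.card_pos.ne'
  have hC0 : C ≠ 0 := Nat.card_pos.ne'
  have hCK : (C : ℂ) * K = (Nat.card G : ℂ) := by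
    have := (Subgroup.centralizer ({x} : Set G)).card_mul_index
    rw [hK, hC]
    exact_mod_cast this
  have hP0 : (Nat.card P : ℂ) ≠ 0 := Nat.cast_ne_zero.2 Nat.card_pos.ne'
  -- the terms
  have hterm : ∀ ψ : IrrCharacter G, ∃ t : ℂ, MemLocalRing M t ∧
      ((p ^ (e - 1) : ℕ) : ℂ) * (centralChar (ψ : G → ℂ) x ^ 2 * (ψ : G → ℂ) 1 *
        ∑ z : P, conj ((ψ : G → ℂ) (z : G))) = K ^ 2 * (Nat.card P : ℂ) * t := by
    intro ψ
    obtain ⟨m, hm⟩ := sum_conj_subgroup_eq_nat P (isCharacter_of_irr ψ.2)
    obtain ⟨hd1, hd0⟩ := irr_apply_one_eq_charDegree ψ.2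
    refine ⟨((ψ : G → ℂ) x) ^ 2 * m * (((p ^ (e - 1) : ℕ) : ℂ) /
      (charDegree (ψ : G → ℂ) : ℂ)), ?_, ?_⟩
    · apply memLocalRing_mul hMp
      · apply memLocalRing_mul hMp
        · apply memLocalRing_pow hMp
          exact memLocalRing_of_isIntegral hMp.ne_top
            (isIntegral_char_apply (isCharacter_of_irr ψ.2) x)
        · exact memLocalRing_natCast hMp.ne_top m
      · apply memLocalRing_natCast_div hM (pow_pos hp.pos _).ne' hd0.ne'
        rw [hp.factorization_pow, Finsupp.single_eq_same]
        have h1 := hcon ψ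
        by_contra h2
        push Not at h2
        apply h1
        have h3 : e ≤ (charDegree (ψ : G → ℂ)).factorization p := by omega
        exact (hp.pow_dvd_iff_le_factorization hd0.ne').2 h3
    · rw [hm]
      unfold centralChar
      rw [hd1]
      have hd0' : (charDegree (ψ : G → ℂ) : ℂ) ≠ 0 := Nat.cast_ne_zero.2 hd0.ne'
      rw [← hK]
      field_simp
  choose t ht1 ht2 using hterm
  have hsum : MemLocalRing M (∑ ψ : IrrCharacter G, t ψ) :=
    memLocalRing_sum hMp _ _ (fun ψ _ => ht1 ψ)
  have hval : ∑ ψ : IrrCharacter G, t ψ = ((p ^ (e - 1) * C : ℕ) : ℂ) / ((p ^ c : ℕ) : ℂ) := by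
    have h1 : ((p ^ (e - 1) : ℕ) : ℂ) * K = (Nat.card G : ℂ)⁻¹ *
        ∑ ψ : IrrCharacter G, K ^ 2 * (Nat.card P : ℂ) * t ψ := by
      conv_lhs => rw [hid]
      rw [← mul_assoc, mul_comm _ ((Nat.card G : ℂ)⁻¹), mul_assoc, Finset.mul_sum]
      congr 1
      refine Finset.sum_congr rfl fun ψ _ => ?_
      exact ht2 ψ
    rw [← Finset.mul_sum] at h1
    rw [← hP]
    have hP0' : ((Nat.card P : ℕ) : ℂ) ≠ 0 := hP0
    rw [eq_div_iff hP0']
    push_cast
    rw [← hCK] at h1
    have hC0' : (C : ℂ) ≠ 0 := Nat.cast_ne_zero.2 hC0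
    field_simp at h1
    push_cast at h1
    linear_combination (-1 : ℂ) * h1
  rw [hval] at hsum
  have hdvd := pow_dvd_of_memLocalRing_div hM _ _ (pow_pos hp.pos c).ne' hsum
  rw [hp.factorization_pow, Finsupp.single_eq_same] at hdvd
  have h5 := (hp.pow_dvd_iff_le_factorization
    (Nat.mul_ne_zero (pow_pos hp.pos _).ne' hC0)).1 hdvd
  rw [Nat.factorization_mul (pow_pos hp.pos _).ne' hC0, Finsupp.add_apply,
    hp.factorization_pow, Finsupp.single_eq_same] at h5
  omega

end

end Cfsg.Agent.Lib.Helper8
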