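import Mathlib
import Cfsg.Prelude.Def_Blocks
import Cfsg.Agent.Lib.Helper8.BlockCenterDefect
import Cfsg.Agent.Lib.Helper8.TildeBlock
import Cfsg.Agent.Lib.Helper8.TwoClass
import Cfsg.Agent.Lib.Helper8.RC1

/-!
# A character of defect zero for `2` and for all primes `p` with elements of order `2p`
-/

set_option autoImplicit false

namespace Cfsg.Agent.Lib.Helper8

open Cfsg
open scoped ComplexConjugate
open Cfsg.Agent.Lib.Helper1 Cfsg.Agent.Lib.Helper4

universe u

section

variable {G : Type u} [Group G] [Fintype G]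

/-- A character whose degree is divisible by the full `p`-part of the group order vanishes on
`p`-singular elements. -/
theorem irr_eq_zero_of_pow_dvd_degree (p : ℕ) [hp : Fact p.Prime] (χ : IrrCharacter G)
    (h : p ^ (Nat.card G).factorization p ∣ charDegree (χ : G → ℂ)) {g : G} (hg : p ∣ orderOf g) :
    (χ : G → ℂ) g = 0 := by
  obtain ⟨M, hM⟩ := exists_isPModular p
  apply irr_eq_zero_of_defect_zero hM χ _ hg
  obtain ⟨hd1, hd0⟩ := irr_apply_one_eq_charDegree χ.2
  have hdvd := charDegree_dvd_card χ.2
  obtain ⟨e, he⟩ := hdvd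
  rw [he, Nat.mul_div_cancel_left _ hd0]
  intro hpe
  have he0 : e ≠ 0 := by
    rintro rfl
    rw [mul_zero] at he
    exact Nat.card_pos.ne' he
  have h1 : (Nat.card G).factorization p =
      (charDegree (χ : G → ℂ)).factorization p + e.factorization p := by
    rw [he, Nat.factorization_mul hd0.ne' he0, Finsupp.add_apply]
  have h2 := (hp.out.pow_dvd_iff_le_factorization hd0.ne').1 h
  have h3 := (hp.out.dvd_iff_one_le_factorization he0).1 hpe
  omega

/-- The squaring map permutes the elements of odd order. -/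
theorem sum_sq_odd_order (f : G → ℂ) [DecidableEq G] :
    ∑ g ∈ Finset.univ.filter (fun g : G => ¬ 2 ∣ orderOf g), f (g * g) =
      ∑ g ∈ Finset.univ.filter (fun g : G => ¬ 2 ∣ orderOf g), f g := by
  have hord : ∀ g : G, ¬ 2 ∣ orderOf g → orderOf (g * g) = orderOf g := by
    intro g hg
    rw [← pow_two, orderOf_pow' _ (by norm_num)]
    have hcop : Nat.Coprime (orderOf g) 2 := by
      rw [Nat.coprime_comm, Nat.Prime.coprime_iff_not_dvd Nat.prime_two]
      exact hg
    rw [Nat.Coprime.gcd_eq_one hcop, Nat.div_one]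
  have hroot : ∀ g : G, ¬ 2 ∣ orderOf g → (g * g) ^ ((orderOf g + 1) / 2) = g := by
    intro g hg
    have hodd : orderOf g % 2 = 1 := by omega
    rw [← pow_two, ← pow_mul]
    have : 2 * ((orderOf g + 1) / 2) = orderOf g + 1 := by omega
    rw [this, pow_succ, pow_orderOf_eq_one, one_mul]
  apply Finset.sum_bij (fun g _ => g * g)
  · intro g hg
    rw [Finset.mem_filter] at hg ⊢
    exact ⟨Finset.mem_univ _, by rw [hord g hg.2]; exact hg.2⟩
  · intro g hg g' hg' heq
    rw [Finset.mem_filter] at hg hg'
    have h1 := hroot g hg.2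
    have h2 := hroot g' hg'.2
    have h3 : orderOf g = orderOf g' := by
      rw [← hord g hg.2, ← hord g' hg'.2, heq]
    rw [← h1, ← h2, heq, h3]
  · intro h hh
    rw [Finset.mem_filter] at hh
    refine ⟨h ^ ((orderOf h + 1) / 2), ?_, ?_⟩
    · rw [Finset.mem_filter]
      refine ⟨Finset.mem_univ _, ?_⟩
      intro h2
      exact hh.2 (h2.trans (orderOf_pow_dvd _))
    · have hodd : orderOf h % 2 = 1 := by omega
      rw [← pow_add]
      have : (orderOf h + 1) / 2 + (orderOf h + 1) / 2 = orderOf h + 1 := by omega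
      rw [this, pow_succ, pow_orderOf_eq_one, one_mul]
  · intro g _
    rfl

end

end Cfsg.Agent.Lib.Helper8
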