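import Mathlib
import Cfsg.Prelude.Def_Characters
import Cfsg.Agent.Lib.Helper8.Deflation
import Cfsg.Agent.Lib.Helper8.CharKernel
import Cfsg.Agent.Lib.Helper8.PC6
import Cfsg.Agent.Lib.Helper8.DI1
import Cfsg.Agent.S0161

/-!
# Codegrees of irreducible characters
-/

set_option autoImplicit false

namespace Cfsg.Agent.Lib.Helper8

open Cfsg
open scoped ComplexConjugate
open Cfsg.Agent.Lib.Helper1 Cfsg.Agent.Lib.Helper4

universe u

section

variable {G : Type u} [Group G] [Finite G]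

/-- The kernel data of an irreducible character. -/
theorem exists_kernel_data (ψ : IrrCharacter G) :
    ∃ K : Subgroup G, K.Normal ∧ (∀ g : G, g ∈ K ↔ (ψ : G → ℂ) g = (ψ : G → ℂ) 1) ∧
      Nat.card {g : G // (ψ : G → ℂ) g = (ψ : G → ℂ) 1} = Nat.card K ∧
      charDegree (ψ : G → ℂ) ∣ K.index := by
  obtain ⟨K, hKn, hK⟩ := exists_normal_ker (isCharacter_of_irr ψ.2)
  haveI := hKn
  refine ⟨K, hKn, hK, ?_, ?_⟩
  · apply Nat.card_congr
    exact
      { toFun := fun x => ⟨x.1, (hK x.1).2 x.2⟩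
        invFun := fun x => ⟨x.1, (hK x.1).1 x.2⟩
        left_inv := fun x => rfl
        right_inv := fun x => rfl }
  · exact charDegree_dvd_index K ψ.2 (fun g hg => (hK g).1 hg)

/-- `|ker ψ| · ψ(1)` divides `|G|`. -/
theorem card_ker_mul_degree_dvd (ψ : IrrCharacter G) :
    Nat.card {g : G // (ψ : G → ℂ) g = (ψ : G → ℂ) 1} * charDegree (ψ : G → ℂ) ∣ Nat.card G := by
  obtain ⟨K, _, _, hcard, hdvd⟩ := exists_kernel_data ψ
  rw [hcard, ← Subgroup.card_mul_index K]
  exact Nat.mul_dvd_mul_left _ hdvd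

/-- The codegree divides the group order. -/
theorem codegree_dvd_card (ψ : IrrCharacter G) :
    Nat.card G / (Nat.card {g : G // (ψ : G → ℂ) g = (ψ : G → ℂ) 1} * charDegree (ψ : G → ℂ)) ∣
      Nat.card G :=
  Nat.div_dvd_of_dvd (card_ker_mul_degree_dvd ψ)

end

end Cfsg.Agent.Lib.Helper8
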