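import Mathlib
import Cfsg.Prelude.Def_Characters
import Cfsg.Agent.Lib.Helper8.CD1
import Cfsg.Agent.Lib.Helper8.TwoClass
import Cfsg.Agent.Lib.Helper8.BA6

/-!
# Codegrees of irreducible characters, II
-/

set_option autoImplicit false

namespace Cfsg.Agent.Lib.Helper8

open Cfsg
open scoped ComplexConjugate
open Cfsg.Agent.Lib.Helper1 Cfsg.Agent.Lib.Helper4

universe u

section

variable {G : Type u} [Group G] [Finite G]

theorem charDegree_trivIrr : charDegree ((trivIrr G : IrrCharacter G) : G → ℂ) = 1 := by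
  have h := (irr_apply_one_eq_charDegree (trivIrr G).2).1
  rw [trivIrr_apply] at h
  exact_mod_cast h.symm

/-- If `p ∣ |G|` some nontrivial irreducible character has degree prime to `p`. -/
theorem exists_irr_ne_triv_not_dvd {p : ℕ} (hp : p.Prime) (hpG : p ∣ Nat.card G) :
    ∃ χ : IrrCharacter G, χ ≠ trivIrr G ∧ ¬ p ∣ charDegree (χ : G → ℂ) := by
  classical
  by_contra hcon
  push Not at hcon
  haveI : Fintype G := Fintype.ofFinite _
  haveI : Fintype (IrrCharacter G) := Fintype.ofFinite _
  have hsum := sum_charDegree_sq G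
  rw [← Finset.add_sum_erase Finset.univ _ (Finset.mem_univ (trivIrr G)), charDegree_trivIrr] at hsum
  have hdvd : p ∣ ∑ x ∈ Finset.univ.erase (trivIrr G), charDegree (x : G → ℂ) ^ 2 := by
    apply Finset.dvd_sum
    intro x hx
    have hx' : x ≠ trivIrr G := (Finset.mem_erase.1 hx).1
    exact dvd_pow (hcon x hx') (by norm_num)
  rw [← hsum] at hpG
  have h1 : p ∣ 1 ^ 2 := (Nat.dvd_add_iff_left hdvd).2 hpG
  rw [one_pow] at h1
  exact hp.one_lt.ne' (Nat.dvd_one.1 h1)

/-- For a simple group, a nontrivial irreducible character is faithful. -/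
theorem card_ker_eq_one_of_simple (hS : IsSimpleGroup G) (χ : IrrCharacter G)
    (hχ : χ ≠ trivIrr G) :
    Nat.card {g : G // (χ : G → ℂ) g = (χ : G → ℂ) 1} = 1 := by
  haveI : Fintype G := Fintype.ofFinite _
  obtain ⟨K, hKn, hK, hcard, -⟩ := exists_kernel_data χ
  rw [hcard]
  rcases hS.eq_bot_or_eq_top_of_normal K hKn with h | h
  · rw [h]
    simp
  · exfalso
    apply hχ
    apply eq_trivIrr_of_const
    intro g
    exact (hK g).1 (h ▸ Subgroup.mem_top g)

end

end Cfsg.Agent.Lib.Helper8
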