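import Mathlib
import Cfsg.Prelude.Def_Blocks
import Cfsg.Agent.Lib.Helper8.BlockLocal

/-!
# The residue field of the local ring at a `p`-modular maximal ideal of the algebraic integers
is an algebraically closed field of characteristic `p`
-/

set_option autoImplicit false
set_option maxHeartbeats 800000

namespace Cfsg.Agent.Lib.Helper8

open Cfsg Polynomial

variable {M : Ideal AlgInt} {p : ℕ}

theorem localIdeal_isMaximal (hM : M.IsPrime) : (localIdeal M hM).IsMaximal := by
  rw [Ideal.isMaximal_iff]
  refine ⟨fun h => not_memLocalIdeal_one hM ((mem_localIdeal_iff hM 1).1 h), ?_⟩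
  intro J x _ hx hxJ
  have hx' : ¬ MemLocalIdeal M (x : ℂ) := fun h => hx ((mem_localIdeal_iff hM x).2 h)
  have hinv : MemLocalRing M ((x : ℂ)⁻¹) := memLocalRing_inv x.2 hx'
  have hx0 : (x : ℂ) ≠ 0 := by
    intro h0
    apply hx'
    rw [h0]
    exact memLocalIdeal_zero hM.ne_top
  have h1 : (1 : localRing M hM) = ⟨(x : ℂ)⁻¹, hinv⟩ * x := by
    apply Subtype.ext
    show (1 : ℂ) = (x : ℂ)⁻¹ * (x : ℂ)
    rw [inv_mul_cancel₀ hx0]
  rw [h1]
  exact J.mul_mem_left _ hxJ

/-- The inclusion of the algebraic integers in the local ring. -/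
def algIntToLocal (hM : M.IsPrime) : AlgInt →+* localRing M hM where
  toFun a := ⟨(a : ℂ), memLocalRing_algInt hM.ne_top a⟩
  map_one' := rfl
  map_mul' _ _ := rfl
  map_zero' := rfl
  map_add' _ _ := rfl

theorem algIntToLocal_coe (hM : M.IsPrime) (a : AlgInt) : ((algIntToLocal hM a : localRing M hM) : ℂ) = a :=
  rfl

/-- Every residue class of the local ring is represented by an algebraic integer. -/
theorem exists_algInt_sub_mem (hM : M.IsMaximal) (z : localRing M hM.isPrime) :
    ∃ a : AlgInt, z - algIntToLocal hM.isPrime a ∈ localIdeal M hM.isPrime := by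
  obtain ⟨a, b, hb, hab⟩ := z.2
  obtain ⟨c, i, hi, hci⟩ := hM.exists_inv hb
  refine ⟨a * c, ?_⟩
  rw [mem_localIdeal_iff]
  refine ⟨a * i, b, M.mul_mem_left a hi, hb, ?_⟩
  have hb0 : (b : ℂ) ≠ 0 := algInt_coe_ne_zero_of_not_mem hb
  have h1 : ((z - algIntToLocal hM.isPrime (a * c) : localRing M hM.isPrime) : ℂ) =
      (z : ℂ) - (a : ℂ) * (c : ℂ) := rfl
  rw [h1, ← hab]
  have h2 : (i : ℂ) = 1 - (c : ℂ) * (b : ℂ) := by
    have := congrArg (fun t : AlgInt => (t : ℂ)) hci
    simp only [Subalgebra.coe_add, Subalgebra.coe_mul, Subalgebra.coe_one] at this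
    rw [← this]
    ring
  have h3 : ((a * i : AlgInt) : ℂ) = (a : ℂ) * (i : ℂ) := rfl
  rw [h3, h2]
  field_simp

/-- **The residue field**: an algebraically closed field of characteristic `p` with a surjective
ring homomorphism from the local ring whose kernel is the local ideal. -/
theorem exists_residueField (h : IsPModular p M) :
    ∃ (F : Type) (_ : Field F) (_ : IsAlgClosed F) (_ : CharP F p)
      (red : localRing M (isPModular_isPrime h) →+* F),
      Function.Surjective red ∧ ∀ z, red z = 0 ↔ z ∈ localIdeal M (isPModular_isPrime h) := by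
  have hMp := isPModular_isPrime h
  have hMmax : M.IsMaximal := h.2.1
  have hmax := localIdeal_isMaximal hMp
  let _ : Field (localRing M hMp ⧸ localIdeal M hMp) := Ideal.Quotient.field _
  set red : localRing M hMp →+* (localRing M hMp ⧸ localIdeal M hMp) :=
    Ideal.Quotient.mk (localIdeal M hMp) with hred
  have hredsurj : Function.Surjective red := Ideal.Quotient.mk_surjective
  have hker : ∀ z, red z = 0 ↔ z ∈ localIdeal M hMp := fun z => Ideal.Quotient.eq_zero_iff_mem
  -- characteristic `p`
  have hp0 : ((p : ℕ) : localRing M hMp ⧸ localIdeal M hMp) = 0 := by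
    have h1 : ((p : ℕ) : localRing M hMp) ∈ localIdeal M hMp := by
      rw [mem_localIdeal_iff]
      have := memLocalIdeal_prime h
      simpa using this
    have h2 := (hker _).2 h1
    rw [map_natCast] at h2
    exact h2
  have hchar : CharP (localRing M hMp ⧸ localIdeal M hMp) p := by
    obtain ⟨q, hq⟩ := CharP.exists (localRing M hMp ⧸ localIdeal M hMp)
    have hqp : q ∣ p := (CharP.cast_eq_zero_iff _ q p).1 hp0
    rcases (Nat.dvd_prime h.1).1 hqp with h1 | h1
    · exfalso
      subst h1
      exact CharP.char_ne_one (localRing M hMp ⧸ localIdeal M hMp) 1 rfl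
    · rw [← h1]
      exact hq
  -- algebraically closed
  set φ : AlgInt →+* (localRing M hMp ⧸ localIdeal M hMp) := red.comp (algIntToLocal hMp) with hφ
  have hφsurj : Function.Surjective φ := by
    intro y
    obtain ⟨z, rfl⟩ := hredsurj y
    obtain ⟨a, ha⟩ := exists_algInt_sub_mem hMmax z
    refine ⟨a, ?_⟩
    have h1 := (hker _).2 ha
    rw [map_sub, sub_eq_zero] at h1
    exact h1.symm
  have hclosed : IsAlgClosed (localRing M hMp ⧸ localIdeal M hMp) := by
    apply IsAlgClosed.of_exists_root
    intro f hfm hfi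
    have hlifts : f ∈ Polynomial.lifts φ := by
      rw [Polynomial.mem_lifts]
      exact Polynomial.map_surjective φ hφsurj f
    obtain ⟨q, hqf, hqdeg, hqm⟩ := Polynomial.lifts_and_degree_eq_and_monic hlifts hfm
    have hdeg : (q.map (algebraMap AlgInt ℂ)).degree ≠ 0 := by
      rw [Polynomial.degree_map_eq_of_injective (FaithfulSMul.algebraMap_injective AlgInt ℂ), hqdeg]
      exact (Polynomial.degree_pos_of_irreducible hfi).ne'
    obtain ⟨z, hz⟩ := IsAlgClosed.exists_root (q.map (algebraMap AlgInt ℂ)) hdeg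
    have hzint : IsIntegral AlgInt z := by
      refine ⟨q, hqm, ?_⟩
      rw [← Polynomial.eval_map]
      exact hz
    have hzint' : IsIntegral ℤ z := isIntegral_trans z hzint
    set z' : AlgInt := ⟨z, hzint'⟩ with hz'
    have hq0 : q.eval z' = 0 := by
      apply FaithfulSMul.algebraMap_injective AlgInt ℂ
      rw [map_zero, ← Polynomial.eval₂_at_apply, Polynomial.eval₂_eq_eval_map]
      exact hz
    refine ⟨φ z', ?_⟩
    rw [← hqf, Polynomial.eval_map, Polynomial.eval₂_at_apply, hq0, map_zero]
  exact ⟨_, inferInstance, hclosed, hchar, red, hredsurj, hker⟩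

end Cfsg.Agent.Lib.Helper8
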