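import Mathlib

/-!
# Elements of the group algebra of a finite group as coefficient functions
-/

set_option autoImplicit false
set_option maxHeartbeats 800000

namespace Cfsg.Agent.Lib.Helper8

section

variable {R : Type*} [CommRing R] {G : Type*} [Group G] [Fintype G]

/-- The element of the group algebra with given coefficient function. -/
noncomputable def mrToMA (c : G → R) : MonoidAlgebra R G :=
  ∑ g, MonoidAlgebra.single g (c g)

omit [Group G] in
theorem mrToMA_coeff (c : G → R) (x : G) : (mrToMA c).coeff x = c x := by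
  classical
  unfold mrToMA
  rw [MonoidAlgebra.coeff_sum, Finsupp.finsetSum_apply]
  simp only [MonoidAlgebra.coeff_single, Finsupp.single_apply]
  rw [Finset.sum_ite_eq' Finset.univ x]
  simp

omit [Group G] in
theorem mrToMA_injective : Function.Injective (mrToMA : (G → R) → MonoidAlgebra R G) := by
  intro c c' h
  funext x
  rw [← mrToMA_coeff c x, ← mrToMA_coeff c' x, h]

theorem mrToMA_zero : mrToMA (0 : G → R) = 0 := by
  unfold mrToMA
  simp

omit [Group G] in
theorem mrToMA_sum {ι : Type*} (s : Finset ι) (f : ι → G → R) :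
    mrToMA (fun x => ∑ i ∈ s, f i x) = ∑ i ∈ s, mrToMA (f i) := by
  unfold mrToMA
  rw [Finset.sum_comm]
  refine Finset.sum_congr rfl fun g _ => ?_
  exact map_sum (MonoidAlgebra.singleAddHom g : R →+ MonoidAlgebra R G) _ _

/-- Convolution of coefficient functions. -/
def mrConv (c c' : G → R) : G → R := fun x => ∑ y, c y * c' (y⁻¹ * x)

theorem mrToMA_mul (c c' : G → R) : mrToMA c * mrToMA c' = mrToMA (mrConv c c') := by
  classical
  have h1 : mrToMA (mrConv c c') = ∑ y, mrToMA (fun x => c y * c' (y⁻¹ * x)) :=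
    mrToMA_sum Finset.univ _
  rw [h1]
  unfold mrToMA
  rw [Finset.sum_mul]
  refine Finset.sum_congr rfl fun y _ => ?_
  rw [Finset.mul_sum]
  refine Fintype.sum_equiv (Equiv.mulLeft y) _ _ fun z => ?_
  rw [MonoidAlgebra.single_mul_single, Equiv.coe_mulLeft]
  simp only [inv_mul_cancel_left]

theorem of_mul_mrToMA (h : G) (c : G → R) :
    MonoidAlgebra.of R G h * mrToMA c = mrToMA (fun x => c (h⁻¹ * x)) := by
  unfold mrToMA
  rw [Finset.mul_sum]
  refine Fintype.sum_equiv (Equiv.mulLeft h) _ _ fun z => ?_
  rw [MonoidAlgebra.of_apply, MonoidAlgebra.single_mul_single, one_mul, Equiv.coe_mulLeft]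
  simp only [inv_mul_cancel_left]

theorem mrToMA_mul_of (h : G) (c : G → R) :
    mrToMA c * MonoidAlgebra.of R G h = mrToMA (fun x => c (x * h⁻¹)) := by
  unfold mrToMA
  rw [Finset.sum_mul]
  refine Fintype.sum_equiv (Equiv.mulRight h) _ _ fun z => ?_
  rw [MonoidAlgebra.of_apply, MonoidAlgebra.single_mul_single, mul_one, Equiv.coe_mulRight]
  simp only [mul_inv_cancel_right]

/-- Conjugation of a coefficient function. -/
theorem of_mul_mrToMA_mul_of (h : G) (c : G → R) :
    MonoidAlgebra.of R G h * mrToMA c * MonoidAlgebra.of R G h⁻¹ =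
      mrToMA (fun x => c (h⁻¹ * x * h)) := by
  rw [of_mul_mrToMA, mrToMA_mul_of]
  congr 1
  funext x
  rw [inv_inv, mul_assoc]

/-- Class functions give central elements. -/
theorem mrToMA_central {c : G → R} (hc : ∀ h x : G, c (h * x * h⁻¹) = c x)
    (a : MonoidAlgebra R G) : mrToMA c * a = a * mrToMA c := by
  induction a using MonoidAlgebra.induction_on with
  | of g =>
    rw [of_mul_mrToMA, mrToMA_mul_of]
    congr 1
    funext x
    have := hc g (g⁻¹ * x)
    rw [← this]
    congr 1
    group
  | add a b ha hb => rw [mul_add, add_mul, ha, hb]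
  | smul r a ha => rw [mul_smul_comm, smul_mul_assoc, ha]

theorem mrToMA_map {R' : Type*} [CommRing R'] (f : R →+* R') (c c' : G → R) :
    mrConv (fun x => f (c x)) (fun x => f (c' x)) = fun x => f (mrConv c c' x) := by
  funext x
  unfold mrConv
  rw [map_sum]
  refine Finset.sum_congr rfl fun y _ => ?_
  rw [map_mul]

end

end Cfsg.Agent.Lib.Helper8
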