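import Mathlib
import Cfsg.Prelude.Def_Blocks
import Cfsg.Agent.Lib.Helper8.ClassAlgebra
import Cfsg.Agent.Lib.Helper8.BlockIdem2
import Cfsg.Agent.Lib.Helper8.BlockUnion
import Cfsg.Agent.Lib.Helper8.MR18

/-!
# The coefficient functions of the primitive central idempotents of characters of defect zero
-/

set_option autoImplicit false
set_option maxHeartbeats 800000

namespace Cfsg.Agent.Lib.Helper8

open Cfsg
open scoped ComplexConjugate
open Cfsg.Agent.Lib.Helper1 Cfsg.Agent.Lib.Helper4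

universe u

section

variable {G : Type u} [Group G] [Fintype G] {M : Ideal AlgInt}

/-- The coefficient function of the central idempotent of `χ`. -/
noncomputable def mrCoef (χ : G → ℂ) : G → ℂ :=
  fun g => χ 1 / (Fintype.card G : ℂ) * χ g⁻¹

theorem mrCoef_apply (χ : G → ℂ) (g : G) :
    mrCoef χ g = χ 1 / (Fintype.card G : ℂ) * χ g⁻¹ := rfl

theorem mrCoef_class {χ : G → ℂ} (hχ : IsIrrCharacter G χ) (h x : G) :
    mrCoef χ (h * x * h⁻¹) = mrCoef χ x := by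
  rw [mrCoef_apply, mrCoef_apply]
  have : (h * x * h⁻¹)⁻¹ = h * x⁻¹ * h⁻¹ := by group
  rw [this, isClassFunction_irr hχ]

theorem mrCoef_conv {χ ψ : G → ℂ} (hχ : IsIrrCharacter G χ) (hψ : IsIrrCharacter G ψ) :
    mrConv (mrCoef χ) (mrCoef ψ) = if χ = ψ then mrCoef χ else 0 := by
  have hG : (Fintype.card G : ℂ) ≠ 0 := Nat.cast_ne_zero.2 Fintype.card_pos.ne'
  have hψ1 : ψ 1 ≠ 0 := irr_apply_one_ne_zero hψ
  funext x
  unfold mrConv
  have h1 : ∀ y : G, mrCoef χ y * mrCoef ψ (y⁻¹ * x) =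
      (χ 1 / (Fintype.card G : ℂ) * (ψ 1 / (Fintype.card G : ℂ))) * (χ y⁻¹ * ψ (x⁻¹ * y)) := by
    intro y
    rw [mrCoef_apply, mrCoef_apply]
    have : (y⁻¹ * x)⁻¹ = x⁻¹ * y := by group
    rw [this]
    ring
  rw [Finset.sum_congr rfl fun y _ => h1 y, ← Finset.mul_sum, sum_irr_inv_mul_irr hψ hχ x⁻¹]
  by_cases hχψ : χ = ψ
  · subst hχψ
    rw [if_pos rfl, if_pos rfl, mrCoef_apply]
    field_simp
  · rw [if_neg hχψ, if_neg (Ne.symm hχψ), mul_zero]
    rfl

theorem mrCoef_sum_conj {χ : G → ℂ} (hχ : IsIrrCharacter G χ) (g₀ x : G) :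
    ∑ g : G, mrCoef χ (g⁻¹ * x * g * g₀⁻¹) =
      ((Fintype.card G : ℂ) * χ g₀ / χ 1) * mrCoef χ x := by
  have hχ1 : χ 1 ≠ 0 := irr_apply_one_ne_zero hχ
  have hG : (Fintype.card G : ℂ) ≠ 0 := Nat.cast_ne_zero.2 Fintype.card_pos.ne'
  have h1 : ∀ g : G, mrCoef χ (g⁻¹ * x * g * g₀⁻¹) =
      χ 1 / (Fintype.card G : ℂ) * χ (g₀ * (g⁻¹ * x⁻¹ * g⁻¹⁻¹)) := by
    intro g
    rw [mrCoef_apply]
    congr 2
    group
  rw [Finset.sum_congr rfl fun g _ => h1 g, ← Finset.mul_sum]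
  have h2 : ∑ g : G, χ (g₀ * (g⁻¹ * x⁻¹ * g⁻¹⁻¹)) = ∑ y : G, χ (g₀ * (y * x⁻¹ * y⁻¹)) :=
    Fintype.sum_equiv (Equiv.inv G) _ _ fun g => rfl
  rw [h2, sum_irr_mul_conj hχ, mrCoef_apply]
  field_simp

theorem mrCoef_mem (hM : M.IsPrime) {χ : G → ℂ} (hχ : IsIrrCharacter G χ)
    (ht : MemLocalRing M (χ 1 / (Fintype.card G : ℂ))) (g : G) :
    MemLocalRing M (mrCoef χ g) :=
  memLocalRing_mul hM ht (memLocalRing_char_apply hM.ne_top (isCharacter_of_irr hχ) g⁻¹)

theorem omega_mrCoef {χ : G → ℂ} (hχ : IsIrrCharacter G χ) : omega χ (mrCoef χ) = 1 := by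
  have hχ1 : χ 1 ≠ 0 := irr_apply_one_ne_zero hχ
  have hG : (Fintype.card G : ℂ) ≠ 0 := Nat.cast_ne_zero.2 Fintype.card_pos.ne'
  unfold omega
  have h1 : ∀ g : G, mrCoef χ g * χ g = χ 1 / (Fintype.card G : ℂ) * (χ g⁻¹ * χ (1 * g)) := by
    intro g
    rw [mrCoef_apply, one_mul]
    ring
  rw [Finset.sum_congr rfl fun g _ => h1 g, ← Finset.mul_sum, sum_irr_inv_mul_irr hχ hχ 1,
    if_pos rfl]
  field_simp

theorem exists_mrCoef_not_mem (hM : M.IsPrime) {χ : G → ℂ} (hχ : IsIrrCharacter G χ) :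
    ∃ g : G, ¬ MemLocalIdeal M (mrCoef χ g) := by
  by_contra hcon
  push Not at hcon
  have hcf : IsClassFunction G (mrCoef χ) := fun x h => mrCoef_class hχ h x
  have h1 := memLocalIdeal_omega hM hχ hcf hcon
  rw [omega_mrCoef hχ] at h1
  exact not_memLocalIdeal_one hM h1

end

section

variable {G : Type u} [Group G] [Fintype G] {M : Ideal AlgInt} (hM : M.IsPrime)
variable {F : Type*} [Field F] (red : localRing M hM →+* F)

/-- The coefficient function of the idempotent, with values in the local ring. -/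
noncomputable def mrCoefO {χ : G → ℂ} (hχ : IsIrrCharacter G χ)
    (ht : MemLocalRing M (χ 1 / (Fintype.card G : ℂ))) : G → localRing M hM :=
  fun g => ⟨mrCoef χ g, mrCoef_mem hM hχ ht g⟩

theorem mrCoefO_conv {χ ψ : G → ℂ} (hχ : IsIrrCharacter G χ) (hψ : IsIrrCharacter G ψ)
    (ht : MemLocalRing M (χ 1 / (Fintype.card G : ℂ)))
    (ht' : MemLocalRing M (ψ 1 / (Fintype.card G : ℂ))) :
    mrConv (mrCoefO hM hχ ht) (mrCoefO hM hψ ht') =
      if χ = ψ then mrCoefO hM hχ ht else 0 := by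
  funext x
  apply Subtype.ext
  have h1 := congrFun (mrToMA_map (localRing M hM).subtype (mrCoefO hM hχ ht)
    (mrCoefO hM hψ ht')) x
  have h2 : (fun x => (localRing M hM).subtype (mrCoefO hM hχ ht x)) = mrCoef χ := rfl
  have h3 : (fun x => (localRing M hM).subtype (mrCoefO hM hψ ht' x)) = mrCoef ψ := rfl
  rw [h2, h3, mrCoef_conv hχ hψ] at h1
  have h4 : ((mrConv (mrCoefO hM hχ ht) (mrCoefO hM hψ ht') x : localRing M hM) : ℂ) =
      (localRing M hM).subtype (mrConv (mrCoefO hM hχ ht) (mrCoefO hM hψ ht') x) := rfl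
  rw [h4, ← h1]
  by_cases hχψ : χ = ψ
  · rw [if_pos hχψ, if_pos hχψ]
    rfl
  · rw [if_neg hχψ, if_neg hχψ]
    rfl

/-- The coefficient function of the idempotent reduced modulo the local ideal. -/
noncomputable def mrIdem {χ : G → ℂ} (hχ : IsIrrCharacter G χ)
    (ht : MemLocalRing M (χ 1 / (Fintype.card G : ℂ))) : G → F :=
  fun g => red (mrCoefO hM hχ ht g)

theorem mrIdem_conv {χ ψ : G → ℂ} (hχ : IsIrrCharacter G χ) (hψ : IsIrrCharacter G ψ)
    (ht : MemLocalRing M (χ 1 / (Fintype.card G : ℂ)))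
    (ht' : MemLocalRing M (ψ 1 / (Fintype.card G : ℂ))) :
    mrConv (mrIdem hM red hχ ht) (mrIdem hM red hψ ht') =
      if χ = ψ then mrIdem hM red hχ ht else 0 := by
  unfold mrIdem
  rw [mrToMA_map red, mrCoefO_conv hM hχ hψ ht ht']
  by_cases hχψ : χ = ψ
  · rw [if_pos hχψ, if_pos hχψ]
  · rw [if_neg hχψ, if_neg hχψ]
    funext x
    simp

theorem mrIdem_class {χ : G → ℂ} (hχ : IsIrrCharacter G χ)
    (ht : MemLocalRing M (χ 1 / (Fintype.card G : ℂ))) (h x : G) :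
    mrIdem hM red hχ ht (h * x * h⁻¹) = mrIdem hM red hχ ht x := by
  unfold mrIdem
  congr 1
  apply Subtype.ext
  exact mrCoef_class hχ h x

/-- The idempotent is a trace from the trivial subgroup. -/
theorem exists_mrIdem_trace {χ : G → ℂ} (hχ : IsIrrCharacter G χ)
    (ht : MemLocalRing M (χ 1 / (Fintype.card G : ℂ))) :
    ∃ a : G → F, ∀ x : G, ∑ g : G, a (g⁻¹ * x * g) = mrIdem hM red hχ ht x := by
  have hχ1 : χ 1 ≠ 0 := irr_apply_one_ne_zero hχ
  have hG : (Fintype.card G : ℂ) ≠ 0 := Nat.cast_ne_zero.2 Fintype.card_pos.ne'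
  obtain ⟨g₁, hg₁⟩ := exists_mrCoef_not_mem hM hχ
  -- `χ g₁⁻¹` is a unit of the local ring
  have hχg : MemLocalRing M (χ g₁⁻¹) :=
    memLocalRing_char_apply hM.ne_top (isCharacter_of_irr hχ) g₁⁻¹
  have hχg' : ¬ MemLocalIdeal M (χ g₁⁻¹) := by
    intro h
    apply hg₁
    rw [mrCoef_apply]
    exact memLocalIdeal_mul_left hM ht h
  have hχg0 : χ g₁⁻¹ ≠ 0 := by
    intro h0
    apply hχg'
    rw [h0]
    exact memLocalIdeal_zero hM.ne_top
  set μ : ℂ := χ 1 / (Fintype.card G : ℂ) * (χ g₁⁻¹)⁻¹ with hμ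
  have hμmem : MemLocalRing M μ := memLocalRing_mul hM ht (memLocalRing_inv hχg hχg')
  have hμl : μ * ((Fintype.card G : ℂ) * χ g₁⁻¹ / χ 1) = 1 := by
    rw [hμ]
    field_simp
  let aO : G → localRing M hM := fun x =>
    ⟨μ * mrCoef χ (x * g₁⁻¹⁻¹), memLocalRing_mul hM hμmem (mrCoef_mem hM hχ ht _)⟩
  refine ⟨fun x => red (aO x), fun x => ?_⟩
  rw [← map_sum]
  unfold mrIdem
  congr 1
  apply Subtype.ext
  have h1 : ((∑ g : G, aO (g⁻¹ * x * g) : localRing M hM) : ℂ) =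
      ∑ g : G, μ * mrCoef χ (g⁻¹ * x * g * g₁⁻¹⁻¹) := by
    have := map_sum (localRing M hM).subtype (fun g => aO (g⁻¹ * x * g)) Finset.univ
    exact this
  rw [h1, ← Finset.mul_sum, mrCoef_sum_conj hχ, ← mul_assoc, hμl, one_mul]
  rfl

variable (hred : ∀ z, red z = 0 ↔ z ∈ localIdeal M hM)

include hred

theorem mrIdem_ne_zero {χ : G → ℂ} (hχ : IsIrrCharacter G χ)
    (ht : MemLocalRing M (χ 1 / (Fintype.card G : ℂ))) : mrIdem hM red hχ ht ≠ 0 := by
  obtain ⟨g, hg⟩ := exists_mrCoef_not_mem hM hχ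
  intro h0
  apply hg
  have h1 : mrIdem hM red hχ ht g = 0 := by rw [h0]; rfl
  unfold mrIdem at h1
  rw [hred] at h1
  exact (mem_localIdeal_iff hM _).1 h1

end

section

variable {G : Type u} [Group G] [Fintype G] {M : Ideal AlgInt} (hM : M.IsPrime)
variable {F : Type*} [Field F] (red : localRing M hM →+* F)
  (hred : ∀ z, red z = 0 ↔ z ∈ localIdeal M hM)

include hred in
/-- **The central idempotents of defect zero**: pairwise orthogonal nonzero central idempotents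
of the modular group algebra, each a trace from the trivial subgroup. -/
theorem exists_idem_family :
    ∃ ε : {χ : IrrCharacter G //
        MemLocalRing M ((χ : G → ℂ) 1 / (Fintype.card G : ℂ))} → MonoidAlgebra F G,
      (∀ i, ε i * ε i = ε i) ∧ (∀ i, ε i ≠ 0) ∧ (∀ i a, ε i * a = a * ε i) ∧
      (∀ i j, i ≠ j → ε i * ε j = 0) ∧
      (∀ i, ∃ a : MonoidAlgebra F G,
        ε i = ∑ g : G, MonoidAlgebra.of F G g * a * MonoidAlgebra.of F G g⁻¹) := by
  refine ⟨fun i => mrToMA (mrIdem hM red i.1.2 i.2), ?_, ?_, ?_, ?_, ?_⟩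
  · intro i
    rw [mrToMA_mul, mrIdem_conv, if_pos rfl]
  · intro i h0
    rw [← mrToMA_zero] at h0
    exact mrIdem_ne_zero hM red hred i.1.2 i.2 (mrToMA_injective h0)
  · intro i a
    exact mrToMA_central (fun h x => mrIdem_class hM red i.1.2 i.2 h x) a
  · intro i j hij
    have hne : (i.1 : G → ℂ) ≠ (j.1 : G → ℂ) := by
      intro h
      apply hij
      exact Subtype.ext (Subtype.ext h)
    rw [mrToMA_mul, mrIdem_conv, if_neg hne, mrToMA_zero]
  · intro i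
    obtain ⟨a, ha⟩ := exists_mrIdem_trace hM red i.1.2 i.2
    refine ⟨mrToMA a, ?_⟩
    have h1 : ∀ g : G, MonoidAlgebra.of F G g * mrToMA a * MonoidAlgebra.of F G g⁻¹ =
        mrToMA (fun x => a (g⁻¹ * x * g)) := fun g => of_mul_mrToMA_mul_of g a
    rw [Finset.sum_congr rfl fun g _ => h1 g, ← mrToMA_sum]
    show mrToMA (mrIdem hM red i.1.2 i.2) = _
    congr 1
    funext x
    exact (ha x).symm

end

end Cfsg.Agent.Lib.Helper8
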