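import Mathlib
import Cfsg.Prelude.Def_Blocks
import Cfsg.Agent.Lib.Helper8.MR17
import Cfsg.Agent.Lib.Helper8.MR19
import Cfsg.Agent.Lib.Helper8.MR21

/-!
# The lower bound for the number of `p`-regular classes in terms of characters
-/

set_option autoImplicit false
set_option maxHeartbeats 1600000

namespace Cfsg.Agent.Lib.Helper8

open Cfsg

universe u

section

variable {G : Type u} [Group G] [Fintype G] {M : Ideal AlgInt}

/-- **Brauer–Green lower bound**: if `p ∥ |G|`, `x` has order `p` and `N = N_G(⟨x⟩)`, then the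
number of `p`-regular classes of `G` is at least the number of irreducible characters of defect
zero plus the number of irreducible characters of `N / ⟨x⟩`. -/
theorem mr_count_char (p : ℕ) [hp : Fact p.Prime] (hM : IsPModular p M) {x : G}
    (hx : orderOf x = p) (hsq : ¬ p ^ 2 ∣ Nat.card G)
    (R : Finset G) (hR : ∀ g : G, ¬ p ∣ orderOf g → ∃ r ∈ R, IsConj g r) :
    Nat.card {χ : IrrCharacter G //
        MemLocalRing M ((χ : G → ℂ) 1 / (Fintype.card G : ℂ))} +
      Nat.card (IrrCharacter (mrN x ⧸ mrP' x)) ≤ R.card := by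
  classical
  have hMp := isPModular_isPrime hM
  obtain ⟨F, _, _, _, red, -, hred⟩ := exists_residueField hM
  have : Fintype (mrN x ⧸ mrP' x) := Fintype.ofFinite _
  obtain ⟨ε, hidem, hne, hcent, horth, htr⟩ := exists_idem_family (G := G) hMp red hred
  obtain ⟨ε', hidem', hne', hcent', horth', -⟩ :=
    exists_idem_family (G := mrN x ⧸ mrP' x) hMp red hred
  have h1 := mr_count p hx hsq ε hidem hne hcent horth htr ε' hidem' hne' hcent' horth' R hR
  -- every character of the `p'`-group `N / P` has defect zero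
  have hcop : ¬ p ∣ Fintype.card (mrN x ⧸ mrP' x) := by
    have h2 := setup_coprime p hx hsq
    have h3 : Nat.card (mrP' x) = p := by
      have hPN : Subgroup.zpowers x ≤ mrN x := Subgroup.le_normalizer
      rw [Nat.card_congr (Subgroup.subgroupOfEquivOfLe hPN).toEquiv, Nat.card_zpowers, hx]
    rw [h3, Nat.Prime.coprime_iff_not_dvd hp.out] at h2
    rw [← Nat.card_eq_fintype_card]
    exact h2
  have hall : ∀ χ : IrrCharacter (mrN x ⧸ mrP' x),
      MemLocalRing M ((χ : (mrN x ⧸ mrP' x) → ℂ) 1 /
        (Fintype.card (mrN x ⧸ mrP' x) : ℂ)) := by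
    intro χ
    rw [div_eq_mul_inv]
    exact memLocalRing_mul hMp
      (memLocalRing_char_apply hMp.ne_top (Cfsg.Agent.Lib.Helper4.isCharacter_of_irr χ.2) 1)
      (memLocalRing_inv_natCast hM hcop)
  have h4 : Nat.card {χ : IrrCharacter (mrN x ⧸ mrP' x) //
      MemLocalRing M ((χ : (mrN x ⧸ mrP' x) → ℂ) 1 /
        (Fintype.card (mrN x ⧸ mrP' x) : ℂ))} = Nat.card (IrrCharacter (mrN x ⧸ mrP' x)) :=
    Nat.card_congr (Equiv.subtypeUnivEquiv hall)
  rw [← h4]
  exact h1

end

end Cfsg.Agent.Lib.Helper8
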