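import Mathlib
import Cfsg.Prelude.Def_Blocks
import Cfsg.Prelude.Def_BlockRank
import Cfsg.Agent.Lib.Helper8.DO12
import Cfsg.Agent.Lib.Helper8.MR22
import Cfsg.Agent.Lib.Helper6.D1B
import Cfsg.Agent.Lib.Helper6.D1F

/-!
# Blocks of defect one: the global count
-/

set_option autoImplicit false
set_option maxHeartbeats 1600000
set_option linter.unusedSectionVars false

namespace Cfsg.Agent.Lib.Helper8

open Cfsg
open scoped ComplexConjugate
open Cfsg.Agent.Lib.Helper1 Cfsg.Agent.Lib.Helper4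

universe u

section

variable {G : Type u} [Group G] [Fintype G] {M : Ideal AlgInt} {p : ℕ} [Fact p.Prime]
  {x : G} {C : Subgroup G} [Fintype C]

/-- the stabilizer of a character of `C` in the normalizer of `⟨x⟩` -/
def d1Stab (x : G) (C : Subgroup G) (hNC : mrN x ≤ Subgroup.normalizer (C : Set G))
    (θ : IrrCharacter C) : Subgroup G where
  carrier := {n | ∃ hn : n ∈ mrN x, conjIrr C n (hNC hn) θ = θ}
  mul_mem' := by
    rintro a c ⟨ha, ha'⟩ ⟨hc, hc'⟩
    refine ⟨Subgroup.mul_mem _ ha hc, ?_⟩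
    have := conjIrr_mul C a c (hNC ha) (hNC hc) θ
    rw [hc', ha'] at this
    exact this
  one_mem' := ⟨Subgroup.one_mem _, conjIrr_one C θ⟩
  inv_mem' := by
    rintro a ⟨ha, ha'⟩
    refine ⟨Subgroup.inv_mem _ ha, ?_⟩
    have := conjIrr_inv_conjIrr C a (hNC ha) θ
    rw [ha'] at this
    exact this

theorem D1Ctx.T_eq {b : Set (IrrCharacter C)} {B : Set (IrrCharacter G)} {θ : IrrCharacter C}
    (ctx : D1Ctx p M x C b B θ) (hNC : mrN x ≤ Subgroup.normalizer (C : Set G)) :
    ctx.T = d1Stab x C hNC θ := by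
  ext n
  exact Iff.rfl

theorem D1Ctx.e_eq {b : Set (IrrCharacter C)} {B : Set (IrrCharacter G)} {θ : IrrCharacter C}
    (ctx : D1Ctx p M x C b B θ) (hNC : mrN x ≤ Subgroup.normalizer (C : Set G)) :
    ctx.e = C.relIndex (d1Stab x C hNC θ) := by
  unfold D1Ctx.e
  rw [ctx.T_eq hNC]

theorem mem_d1Stab_iff (hNC : mrN x ≤ Subgroup.normalizer (C : Set G)) (θ : IrrCharacter C)
    (g : G) : g ∈ d1Stab x C hNC θ ↔ g ∈ mrN x ∧ ∀ c c' : C, (c' : G) = g * (c : G) * g⁻¹ →
      (θ : C → ℂ) c' = (θ : C → ℂ) c := by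
  constructor
  · rintro ⟨hn, h⟩
    exact ⟨hn, (conjIrr_eq_self_iff C g (hNC hn) θ).1 h⟩
  · rintro ⟨hn, h⟩
    exact ⟨hn, (conjIrr_eq_self_iff C g (hNC hn) θ).2 h⟩

open Classical in
/-- **The global count**: in every block with defect group `⟨x⟩` the `p`-regular rank equals the
inertial index. -/
theorem d1_global (base : D1Base p M x C) (hNC : mrN x ≤ Subgroup.normalizer (C : Set G))
    (bF : Set (IrrCharacter G) → Set (IrrCharacter C))
    (θF : Set (IrrCharacter G) → IrrCharacter C)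
    (hF : ∀ B, IsPBlock M B → IsDefectGroup p M B (Subgroup.zpowers x) →
      D1Ctx p M x C (bF B) B (θF B))
    (R : Finset G) (hR : ∀ g : G, ¬ p ∣ orderOf g → ∃ r ∈ R, IsConj g r)
    (hRcard : R.card = ∑ B ∈ blocksFinset M G, blockRank p B)
    (h0rank : ∀ B ∈ blocksFinset M G, blockDefect p B = 0 → blockRank p B = 1)
    (h0card : ((blocksFinset M G).filter (fun B => blockDefect p B = 0)).card ≤
      Nat.card {χ : IrrCharacter G // MemLocalRing M ((χ : G → ℂ) 1 / (Fintype.card G : ℂ))})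
    (hdich : ∀ B, IsPBlock M B → blockDefect p B = 0 ∨
      IsDefectGroup p M B (Subgroup.zpowers x)) :
    ∀ B, IsPBlock M B → IsDefectGroup p M B (Subgroup.zpowers x) →
      blockRank p B = C.relIndex (d1Stab x C hNC (θF B)) := by
  classical
  have hp : p.Prime := Fact.out
  set S0 := (blocksFinset M G).filter (fun B => blockDefect p B = 0) with hS0
  set S1 := (blocksFinset M G).filter (fun B => IsDefectGroup p M B (Subgroup.zpowers x)) with hS1
  have hmem1 : ∀ B, B ∈ S1 ↔ IsPBlock M B ∧ IsDefectGroup p M B (Subgroup.zpowers x) := by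
    intro B
    rw [hS1, Finset.mem_filter, mem_blocksFinset]
  -- the two kinds of blocks
  have hdisj : Disjoint S0 S1 := by
    rw [Finset.disjoint_left]
    intro B h0 h1
    rw [hS0, Finset.mem_filter] at h0
    rw [hmem1] at h1
    have hcard := card_of_isDefectGroup base.hM h1.1 h1.2
    rw [d1_card_zpowers base.hx, h0.2, pow_zero] at hcard
    exact hp.one_lt.ne' hcard
  have hunion : blocksFinset M G = S0 ∪ S1 := by
    ext B
    rw [Finset.mem_union, hS0, hS1, Finset.mem_filter, Finset.mem_filter]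
    constructor
    · intro hB
      rcases hdich B ((mem_blocksFinset B).1 hB) with h | h
      · exact Or.inl ⟨hB, h⟩
      · exact Or.inr ⟨hB, h⟩
    · rintro (h | h) <;> exact h.1
  -- the bounds for the blocks with defect group `⟨x⟩`
  have hle : ∀ B ∈ S1, blockRank p B ≤ C.relIndex (d1Stab x C hNC (θF B)) := by
    intro B hB
    rw [hmem1] at hB
    have ctx := hF B hB.1 hB.2
    have h1 := ctx.blockRank_add_le
    have h2 := ctx.card_B_le
    rw [← ctx.e_eq hNC]
    omega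
  -- the Clifford count
  have hcliff : ∑ B ∈ S1, C.relIndex (d1Stab x C hNC (θF B)) ≤
      Nat.card (IrrCharacter (mrN x ⧸ mrP' x)) := by
    have hCn : (C.subgroupOf (mrN x)).Normal :=
      (Subgroup.normal_subgroupOf_iff_le_normalizer base.hCN).2 hNC
    have hPn : ((Subgroup.zpowers x).subgroupOf (mrN x)).Normal :=
      (Subgroup.normal_subgroupOf_iff_le_normalizer Subgroup.le_normalizer).2 le_rfl
    have hcyc := Cfsg.Agent.Lib.Helper6.isCyclic_normalizer_quot_centralizer p base.hx C base.hC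
    have hinj : ∀ B₁ ∈ S1, ∀ B₂ ∈ S1, θF B₁ = θF B₂ → B₁ = B₂ := by
      intro B₁ h₁ B₂ h₂ h
      rw [hmem1] at h₁ h₂
      have ctx₁ := hF B₁ h₁.1 h₁.2
      have ctx₂ := hF B₂ h₂.1 h₂.2
      have h' : θF B₁ = conjIrr C 1 (ctx₂.hNC (Subgroup.one_mem _)) (θF B₂) := by
        rw [conjIrr_one, h]
      exact ctx₂.block_eq_of_conj ctx₁ (Subgroup.one_mem _) h'
    have h1 := Cfsg.Agent.Lib.Helper6.clifford_count_le (Subgroup.zpowers x) C (mrN x) base.hPC
      base.hCN hcyc (S1.image θF) ?_ (fun θ => d1Stab x C hNC θ) ?_ ?_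
    · rw [Finset.sum_image hinj] at h1
      exact h1
    · intro θ hθ c hc
      obtain ⟨B, hB, rfl⟩ := Finset.mem_image.1 hθ
      rw [hmem1] at hB
      exact (hF B hB.1 hB.2).hθP c hc
    · intro θ _ g
      exact mem_d1Stab_iff hNC θ g
    · intro θ₁ hθ₁ θ₂ hθ₂ g hg hconj
      obtain ⟨B₁, hB₁, rfl⟩ := Finset.mem_image.1 hθ₁
      obtain ⟨B₂, hB₂, rfl⟩ := Finset.mem_image.1 hθ₂
      have hB₁' := (hmem1 B₁).1 hB₁
      have hB₂' := (hmem1 B₂).1 hB₂
      have ctx₁ := hF B₁ hB₁'.1 hB₁'.2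
      have ctx₂ := hF B₂ hB₂'.1 hB₂'.2
      have h' : θF B₂ = conjIrr C g (ctx₁.hNC hg) (θF B₁) :=
        (conjIrr_eq_iff' C g (ctx₁.hNC hg) (θF B₁) (θF B₂)).2 hconj
      have := ctx₁.block_eq_of_conj ctx₂ hg h'
      rw [this]
  -- Phase 1
  have hphase1 := mr_count_char p base.hM base.hx base.hsq R hR
  -- the sum over the blocks
  have hsplit : R.card = S0.card + ∑ B ∈ S1, blockRank p B := by
    rw [hRcard, hunion, Finset.sum_union hdisj]
    congr 1
    rw [Finset.card_eq_sum_ones]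
    refine Finset.sum_congr rfl fun B hB => ?_
    rw [hS0, Finset.mem_filter] at hB
    exact h0rank B hB.1 hB.2
  have hsumle : ∑ B ∈ S1, blockRank p B ≤ ∑ B ∈ S1, C.relIndex (d1Stab x C hNC (θF B)) :=
    Finset.sum_le_sum hle
  have hsumeq : ∑ B ∈ S1, blockRank p B = ∑ B ∈ S1, C.relIndex (d1Stab x C hNC (θF B)) := by
    omega
  intro B hB hBP
  exact (Finset.sum_eq_sum_iff_of_le hle).1 hsumeq B ((hmem1 B).2 ⟨hB, hBP⟩)

end

end Cfsg.Agent.Lib.Helper8
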