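import Mathlib
import Cfsg.Prelude.Def_Blocks
import Cfsg.Prelude.Def_BlockRank
import Cfsg.Agent.Lib.Helper8.DO13
import Cfsg.Agent.Lib.Helper1.D1H

/-!
# Blocks of defect one: `l(B) = e` and `k(B) = e + (p - 1) / e`
-/

set_option autoImplicit false
set_option maxHeartbeats 800000
set_option linter.unusedSectionVars false

namespace Cfsg.Agent.Lib.Helper8

open Cfsg
open scoped ComplexConjugate
open Cfsg.Agent.Lib.Helper1 Cfsg.Agent.Lib.Helper4

universe u

section

variable {G : Type u} [Group G] [Fintype G] {M : Ideal AlgInt} {p : ℕ} [Fact p.Prime]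
  {x : G} {C : Subgroup G} [Fintype C] {b : Set (IrrCharacter C)} {B : Set (IrrCharacter G)}
  {θ : IrrCharacter C}

namespace D1Ctx

/-- **`l(B) = e`** for a block of defect one. -/
theorem blockRank_eq (ctx : D1Ctx p M x C b B θ) : blockRank p B = ctx.e := by
  classical
  have base := ctx.base
  have hNC : mrN x ≤ Subgroup.normalizer (C : Set G) := fun n hn => ctx.hNC hn
  have hex : ∀ B' : Set (IrrCharacter G), ∃ bθ : Set (IrrCharacter C) × IrrCharacter C,
      IsPBlock M B' → IsDefectGroup p M B' (Subgroup.zpowers x) →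
        D1Ctx p M x C bθ.1 B' bθ.2 := by
    intro B'
    by_cases h : IsPBlock M B' ∧ IsDefectGroup p M B' (Subgroup.zpowers x)
    · obtain ⟨b', θ', c'⟩ := base.exists_ctx h.1 h.2
      exact ⟨(b', θ'), fun _ _ => c'⟩
    · exact ⟨(b, θ), fun h1 h2 => absurd ⟨h1, h2⟩ h⟩
  choose F hF using hex
  obtain ⟨R, hR, hRcard⟩ := d1h_exists_reps (G := G) ctx.hM
  obtain ⟨h0rank, h0card⟩ := d1h_defect_zero (G := G) ctx.hM
  have hdich : ∀ B', IsPBlock M B' → blockDefect p B' = 0 ∨
      IsDefectGroup p M B' (Subgroup.zpowers x) :=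
    fun B' hB' => d1h_defect_zero_or ctx.hM ctx.hx ctx.hsq hB'
  have hF' : ∀ B', IsPBlock M B' → IsDefectGroup p M B' (Subgroup.zpowers x) →
      D1Ctx p M x C ((fun B'' => if B'' = B then b else (F B'').1) B') B'
        ((fun B'' => if B'' = B then θ else (F B'').2) B') := by
    intro B' h1 h2
    by_cases h : B' = B
    · subst h
      simp only [if_true]
      exact ctx
    · simp only [if_neg h]
      exact hF B' h1 h2
  have := d1_global base hNC _ _ hF' R hR hRcard h0rank h0card hdich B ctx.hB ctx.hBP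
  simp only [if_true] at this
  rw [this, ctx.e_eq hNC]

/-- **`k(B) = e + (p - 1) / e`** for a block of defect one. -/
theorem card_B (ctx : D1Ctx p M x C b B θ) : Nat.card B = ctx.e + (p - 1) / ctx.e := by
  have h1 := ctx.blockRank_add_le
  have h2 := ctx.card_B_le
  rw [ctx.blockRank_eq] at h1
  omega

end D1Ctx

end

end Cfsg.Agent.Lib.Helper8
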