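import Mathlib
import Cfsg.Prelude.Def_Blocks
import Cfsg.Prelude.Def_BlockRank
import Cfsg.Agent.Lib.Helper8.DO14

/-!
# Blocks of defect one: the shape of the multiplicity vectors
-/

set_option autoImplicit false
set_option maxHeartbeats 800000
set_option linter.unusedSectionVars false

namespace Cfsg.Agent.Lib.Helper8

open Cfsg
open scoped ComplexConjugate
open Cfsg.Agent.Lib.Helper1 Cfsg.Agent.Lib.Helper4

universe u

section

variable {G : Type u} [Group G] [Fintype G] {M : Ideal AlgInt} {p : ℕ} [Fact p.Prime]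
  {x : G} {C : Subgroup G} [Fintype C] {b : Set (IrrCharacter C)} {B : Set (IrrCharacter G)}
  {θ : IrrCharacter C}

namespace D1Ctx

/-- the shape of the multiplicity vectors: a sign `ε`, a vector `W` of signs and the exceptional
characters `a q` -/
structure Str (ctx : D1Ctx p M x C b B θ) (ε : ℤ) (W : IrrCharacter G → ℤ)
    (a : ctx.Q → IrrCharacter G) : Prop where
  hε : ε = 1 ∨ ε = -1
  inj : Function.Injective a
  mem : ∀ q, a q ∈ B
  hV : ∀ q χ, ctx.VQ q χ = W χ + if χ = a q then ε else 0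
  hWa : ∀ q, W (a q) = 0
  hW : ∀ χ ∈ B, χ ∉ Set.range a → W χ = 1 ∨ W χ = -1
  hW0 : ∀ χ, χ ∉ B → W χ = 0

/-- **The shape of the multiplicity vectors.** -/
theorem exists_str (ctx : D1Ctx p M x C b B θ) :
    ∃ (ε : ℤ) (W : IrrCharacter G → ℤ) (a : ctx.Q → IrrCharacter G), ctx.Str ε W a := by
  classical
  have : Fintype B := Fintype.ofFinite _
  have hcard : Fintype.card B = ctx.e + Fintype.card ctx.Q := by
    rw [ctx.card_Q, ← Nat.card_eq_fintype_card]
    exact ctx.card_B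
  obtain ⟨ε, W, a, hε, hinj, hV, hWa, hW⟩ :=
    (Cfsg.Agent.Lib.Helper6.defectOne_lattice ctx.e (fun (q : ctx.Q) (χ : B) => ctx.VQ q χ.1)
      (fun χ : B => (charDegree (χ.1 : G → ℂ) : ℤ))
      (fun χ => by exact_mod_cast (irr_apply_one_eq_charDegree χ.1.2).2)
      ctx.orthQ ctx.gramQ ctx.nonempty_Q ctx.suppQ).2 hcard
  refine ⟨ε, fun χ => if h : χ ∈ B then W ⟨χ, h⟩ else 0, fun q => (a q).1,
    ⟨hε, ?_, fun q => (a q).2, ?_, ?_, ?_, ?_⟩⟩
  · intro q q' h
    exact hinj (Subtype.ext h)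
  · intro q χ
    by_cases h : χ ∈ B
    · simp only [dif_pos h]
      have := hV q ⟨χ, h⟩
      simp only at this
      rw [this]
      congr 1
      by_cases h2 : χ = (a q).1
      · rw [if_pos h2, if_pos (Subtype.ext h2)]
      · rw [if_neg h2, if_neg (fun h3 => h2 (congrArg Subtype.val h3))]
    · simp only [dif_neg h]
      rw [ctx.VQ_eq_zero q h, if_neg, add_zero]
      intro h2
      exact h (h2 ▸ (a q).2)
  · intro q
    simp only [dif_pos (a q).2]
    exact hWa q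
  · intro χ hχ hr
    simp only [dif_pos hχ]
    apply hW
    rintro ⟨q, hq⟩
    exact hr ⟨q, congrArg Subtype.val hq⟩
  · intro χ hχ
    simp only [dif_neg hχ]

/-- a sum over the block `b`: the canonical character and the others -/
theorem sum_b_eq (ctx : D1Ctx p M x C b B θ) [Fintype (IrrCharacter C)] (f : IrrCharacter C → ℂ) :
    ∑ ξ : IrrCharacter C, (by classical exact if ξ ∈ b then f ξ else 0) =
      f θ + ∑ ξ : ctx.Bn, f ξ.1 := by
  classical
  rw [← Finset.sum_filter]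
  have h1 : θ ∈ Finset.univ.filter (fun ξ : IrrCharacter C => ξ ∈ b) :=
    Finset.mem_filter.2 ⟨Finset.mem_univ _, ctx.hθ⟩
  rw [← Finset.add_sum_erase _ _ h1]
  congr 1
  have h2 : (Finset.univ.filter (fun ξ : IrrCharacter C => ξ ∈ b)).erase θ =
      Finset.univ.filter (fun ξ : IrrCharacter C => ξ ∈ b ∧ ξ ≠ θ) := by
    ext ξ
    simp only [Finset.mem_erase, Finset.mem_filter, Finset.mem_univ, true_and]
    tauto
  rw [h2]
  exact Finset.sum_subtype (p := fun ξ : IrrCharacter C => ξ ∈ b ∧ ξ ≠ θ)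
    (F := (inferInstance : Fintype ctx.Bn))
    (Finset.univ.filter (fun ξ : IrrCharacter C => ξ ∈ b ∧ ξ ≠ θ)) (by simp) f

/-- (F1) on the non-canonical members -/
theorem sum_Bn_om_pow (ctx : D1Ctx p M x C b B θ) {k : ℕ} (hk : ¬ p ∣ k) :
    ∑ ξ : ctx.Bn, d1om ctx.z ξ.1 ^ k = -1 := by
  classical
  have : Fintype (IrrCharacter C) := Fintype.ofFinite _
  have h1 := d1_sum_om_pow_eq_zero ctx.hM ctx.hzc ctx.hz ctx.hb ctx.hDb hk
  have h2 := ctx.sum_b_eq (fun ξ => d1om ctx.z ξ ^ k)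
  have h3 : ∑ ξ : IrrCharacter C, (if ξ ∈ b then d1om ctx.z ξ ^ k else 0) =
      d1om ctx.z θ ^ k + ∑ ξ : ctx.Bn, d1om ctx.z ξ.1 ^ k := by
    rw [← h2]
  rw [h3, d1om_canonical ctx.hker, one_pow] at h1
  linear_combination h1

/-- the generalized decomposition numbers as a sum over the non-canonical members -/
theorem dEl_eq_sum_Bn (ctx : D1Ctx p M x C b B θ) [Fintype (IrrCharacter C)]
    (χ : IrrCharacter G) {k : ℕ} (hk : ¬ p ∣ k) :
    d1dEl C b χ (ctx.z ^ k) = ∑ ξ : ctx.Bn, ((ctx.V ξ.1 χ : ℤ) : ℂ) * d1om ctx.z ξ.1 ^ k := by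
  classical
  rw [ctx.dEl_eq_sum_V χ hk]
  have h2 := ctx.sum_b_eq (fun ξ => ((ctx.V ξ χ : ℤ) : ℂ) * d1om ctx.z ξ ^ k)
  have h3 : ∑ ξ : IrrCharacter C, (if ξ ∈ b then ((ctx.V ξ χ : ℤ) : ℂ) * d1om ctx.z ξ ^ k else 0) =
      ((ctx.V θ χ : ℤ) : ℂ) * d1om ctx.z θ ^ k +
        ∑ ξ : ctx.Bn, ((ctx.V ξ.1 χ : ℤ) : ℂ) * d1om ctx.z ξ.1 ^ k := by
    rw [← h2]
  have h4 : ∑ ξ : IrrCharacter C,
      (by classical exact if ξ ∈ b then ((ctx.V ξ χ : ℤ) : ℂ) * d1om ctx.z ξ ^ k else 0) =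
      ∑ ξ : IrrCharacter C, (if ξ ∈ b then ((ctx.V ξ χ : ℤ) : ℂ) * d1om ctx.z ξ ^ k else 0) := by
    refine Finset.sum_congr rfl fun ξ _ => ?_
    congr
  rw [h4, h3, ctx.V_theta, Int.cast_zero, zero_mul, zero_add]

variable {ε : ℤ} {W : IrrCharacter G → ℤ}

namespace Str

theorem V_eq {ctx : D1Ctx p M x C b B θ} {a : ctx.Q → IrrCharacter G} (S : ctx.Str ε W a)
    (ξ : ctx.Bn) (χ : IrrCharacter G) :
    ctx.V ξ.1 χ = W χ + if χ = a (ctx.mkQ ξ) then ε else 0 := by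
  rw [← ctx.VQ_mk]
  exact S.hV _ _

/-- the generalized decomposition numbers -/
theorem dEl_eq {ctx : D1Ctx p M x C b B θ} {a : ctx.Q → IrrCharacter G} (S : ctx.Str ε W a)
    [Fintype (IrrCharacter C)] (χ : IrrCharacter G) {k : ℕ} (hk : ¬ p ∣ k) :
    d1dEl C b χ (ctx.z ^ k) = -(W χ : ℂ) + (ε : ℂ) * ∑ ξ : ctx.Bn,
      (by classical exact if χ = a (ctx.mkQ ξ) then d1om ctx.z ξ.1 ^ k else 0) := by
  classical
  rw [ctx.dEl_eq_sum_Bn χ hk]
  have h1 : ∀ ξ : ctx.Bn, ((ctx.V ξ.1 χ : ℤ) : ℂ) * d1om ctx.z ξ.1 ^ k =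
      (W χ : ℂ) * d1om ctx.z ξ.1 ^ k +
        (ε : ℂ) * (if χ = a (ctx.mkQ ξ) then d1om ctx.z ξ.1 ^ k else 0) := by
    intro ξ
    rw [S.V_eq ξ χ]
    by_cases h : χ = a (ctx.mkQ ξ)
    · rw [if_pos h, if_pos h]
      push_cast
      ring
    · rw [if_neg h, if_neg h]
      push_cast
      ring
  rw [Finset.sum_congr rfl fun ξ _ => h1 ξ, Finset.sum_add_distrib, ← Finset.mul_sum,
    ← Finset.mul_sum, ctx.sum_Bn_om_pow hk]
  have h4 : ∑ ξ : ctx.Bn,
      (by classical exact if χ = a (ctx.mkQ ξ) then d1om ctx.z ξ.1 ^ k else 0) =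
      ∑ ξ : ctx.Bn, (if χ = a (ctx.mkQ ξ) then d1om ctx.z ξ.1 ^ k else 0) := by
    refine Finset.sum_congr rfl fun ξ _ => ?_
    congr
  rw [h4]
  ring

/-- the generalized decomposition numbers of the non-exceptional characters -/
theorem dEl_nonexc {ctx : D1Ctx p M x C b B θ} {a : ctx.Q → IrrCharacter G} (S : ctx.Str ε W a)
    [Fintype (IrrCharacter C)] {χ : IrrCharacter G} (hχ : χ ∉ Set.range a) {k : ℕ}
    (hk : ¬ p ∣ k) : d1dEl C b χ (ctx.z ^ k) = -(W χ : ℂ) := by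
  classical
  rw [S.dEl_eq χ hk]
  have : ∑ ξ : ctx.Bn,
      (by classical exact if χ = a (ctx.mkQ ξ) then d1om ctx.z ξ.1 ^ k else 0) = (0 : ℂ) := by
    apply Finset.sum_eq_zero
    intro ξ _
    rw [if_neg]
    intro h
    exact hχ ⟨_, h.symm⟩
  rw [this, mul_zero, add_zero]

/-- the generalized decomposition numbers of the exceptional characters -/
theorem dEl_exc {ctx : D1Ctx p M x C b B θ} {a : ctx.Q → IrrCharacter G} (S : ctx.Str ε W a)
    [Fintype (IrrCharacter C)] (q : ctx.Q) {k : ℕ} (hk : ¬ p ∣ k) :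
    d1dEl C b (a q) (ctx.z ^ k) = (ε : ℂ) * ∑ ξ : ctx.Bn,
      (by classical exact if ctx.mkQ ξ = q then d1om ctx.z ξ.1 ^ k else 0) := by
  classical
  rw [S.dEl_eq (a q) hk, S.hWa q, Int.cast_zero, neg_zero, zero_add]
  congr 1
  refine Finset.sum_congr rfl fun ξ _ => ?_
  by_cases h : ctx.mkQ ξ = q
  · rw [if_pos h, if_pos (by rw [h])]
  · rw [if_neg h, if_neg (fun h' => h (S.inj h').symm)]

/-- the values of the exceptional characters at the `p`-regular elements -/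
theorem exc_apply_pRegular {ctx : D1Ctx p M x C b B θ} {a : ctx.Q → IrrCharacter G}
    (S : ctx.Str ε W a) [Fintype (IrrCharacter G)] (q : ctx.Q) {g : G} (hg : ¬ p ∣ orderOf g) :
    (ε : ℂ) * (a q : G → ℂ) g = -∑ χ : IrrCharacter G, (W χ : ℂ) * (χ : G → ℂ) g := by
  classical
  obtain ⟨ξ, rfl⟩ := ctx.mkQ_surj q
  have h1 := ctx.sum_V_mul_apply ξ.2.1 hg
  have h2 : ∀ χ : IrrCharacter G, ((ctx.V ξ.1 χ : ℤ) : ℂ) * (χ : G → ℂ) g =
      (W χ : ℂ) * (χ : G → ℂ) g +
        (if χ = a (ctx.mkQ ξ) then (ε : ℂ) * (χ : G → ℂ) g else 0) := by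
    intro χ
    rw [S.V_eq ξ χ]
    by_cases h : χ = a (ctx.mkQ ξ)
    · rw [if_pos h, if_pos h]
      push_cast
      ring
    · rw [if_neg h, if_neg h]
      push_cast
      ring
  rw [Finset.sum_congr rfl fun χ _ => h2 χ, Finset.sum_add_distrib,
    Finset.sum_ite_eq' Finset.univ (a (ctx.mkQ ξ)), if_pos (Finset.mem_univ _)] at h1
  linear_combination h1

/-- the exceptional characters agree on the `p`-regular elements -/
theorem exc_agree {ctx : D1Ctx p M x C b B θ} {a : ctx.Q → IrrCharacter G}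
    (S : ctx.Str ε W a) (q q' : ctx.Q) {g : G} (hg : ¬ p ∣ orderOf g) :
    (a q : G → ℂ) g = (a q' : G → ℂ) g := by
  classical
  have : Fintype (IrrCharacter G) := Fintype.ofFinite _
  have h1 := S.exc_apply_pRegular q hg
  have h2 := S.exc_apply_pRegular q' hg
  have hε : (ε : ℂ) ≠ 0 := by
    rcases S.hε with h | h <;> rw [h] <;> norm_num
  apply mul_left_cancel₀ hε
  rw [h1, h2]

/-- the degrees of the exceptional characters in terms of the others -/
theorem exc_degree {ctx : D1Ctx p M x C b B θ} {a : ctx.Q → IrrCharacter G}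
    (S : ctx.Str ε W a) [Fintype (IrrCharacter G)] (q : ctx.Q) :
    ε * (charDegree (a q : G → ℂ) : ℤ) =
      -∑ χ : IrrCharacter G, W χ * (charDegree (χ : G → ℂ) : ℤ) := by
  have h1 := S.exc_apply_pRegular q (g := 1) not_dvd_orderOf_one
  have h2 : ((ε * (charDegree (a q : G → ℂ) : ℤ) : ℤ) : ℂ) =
      ((-∑ χ : IrrCharacter G, W χ * (charDegree (χ : G → ℂ) : ℤ) : ℤ) : ℂ) := by
    push_cast
    rw [← (irr_apply_one_eq_charDegree (a q).2).1, h1]
    congr 1
    refine Finset.sum_congr rfl fun χ _ => ?_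
    rw [(irr_apply_one_eq_charDegree χ.2).1]
  exact_mod_cast h2

/-- the set of the non-exceptional characters has `e` elements -/
theorem card_nonexc {ctx : D1Ctx p M x C b B θ} {a : ctx.Q → IrrCharacter G}
    (S : ctx.Str ε W a) : Nat.card (B \ Set.range a : Set (IrrCharacter G)) = ctx.e := by
  classical
  have : Fintype B := Fintype.ofFinite _
  have h1 : Nat.card (Set.range a) = (p - 1) / ctx.e := by
    rw [Nat.card_range_of_injective S.inj, Nat.card_eq_fintype_card, ctx.card_Q]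
  have hsub : Set.range a ⊆ B := by
    rintro _ ⟨q, rfl⟩
    exact S.mem q
  have hfin : (B : Set (IrrCharacter G)).Finite := Set.toFinite _
  have h2 := Set.ncard_sdiff_add_ncard_of_subset hsub hfin
  rw [Nat.card_coe_set_eq] at h1 ⊢
  have h3 := ctx.card_B
  rw [Nat.card_coe_set_eq] at h3
  omega

theorem card_exc {ctx : D1Ctx p M x C b B θ} {a : ctx.Q → IrrCharacter G}
    (S : ctx.Str ε W a) : Nat.card (Set.range a) = (p - 1) / ctx.e := by
  rw [Nat.card_range_of_injective S.inj, Nat.card_eq_fintype_card, ctx.card_Q]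

end Str

end D1Ctx

end

end Cfsg.Agent.Lib.Helper8
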