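import Mathlib
import Cfsg.Prelude.Def_Blocks
import Cfsg.Prelude.Def_BlockRank
import Cfsg.Agent.Lib.Helper8.DO15

/-!
# Blocks of defect one: values and degrees
-/

set_option autoImplicit false
set_option maxHeartbeats 800000
set_option linter.unusedSectionVars false

namespace Cfsg.Agent.Lib.Helper8

open Cfsg
open scoped ComplexConjugate
open Cfsg.Agent.Lib.Helper1 Cfsg.Agent.Lib.Helper4

universe u

section

variable {G : Type u} [Group G] [Fintype G] {M : Ideal AlgInt} {p : ℕ} [Fact p.Prime]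
  {x : G} {C : Subgroup G} [Fintype C] {b : Set (IrrCharacter C)} {B : Set (IrrCharacter G)}
  {θ : IrrCharacter C}

namespace D1Ctx

/-- a non-identity element of `⟨z⟩` is a power of `z` with exponent prime to `p` -/
theorem exists_pow_of_mem (ctx : D1Ctx p M x C b B θ) {u : C} (hu : u ∈ Subgroup.zpowers ctx.z)
    (hu1 : u ≠ 1) : ∃ k : ℕ, ¬ p ∣ k ∧ u = ctx.z ^ k := by
  obtain ⟨i, hi⟩ := Subgroup.mem_zpowers_iff.1 hu
  have hp : p.Prime := Fact.out
  have hp0 : (0 : ℤ) < p := by exact_mod_cast hp.pos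
  have h1 : ((i % p).toNat : ℤ) = i % p := Int.toNat_of_nonneg (Int.emod_nonneg _ hp0.ne')
  have h2 : ctx.z ^ (i % p).toNat = u := by
    rw [← zpow_natCast, h1, ← hi]
    have := zpow_mod_orderOf ctx.z i
    rw [ctx.hz] at this
    exact this
  refine ⟨(i % p).toNat, ?_, h2.symm⟩
  intro hk
  apply hu1
  rw [← h2]
  exact (d1_pow_eq_one_iff ctx.hz _).2 hk

/-- the index of the stabilizer in the normalizer -/
noncomputable def r (ctx : D1Ctx p M x C b B θ) : ℕ := ctx.T.relIndex (mrN x)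

theorem card_N (ctx : D1Ctx p M x C b B θ) : Nat.card (mrN x) = Nat.card ctx.T * ctx.r := by
  have h1 := Subgroup.relIndex_mul_relIndex (⊥ : Subgroup G) ctx.T (mrN x) bot_le ctx.T_le_N
  rw [Subgroup.relIndex_bot_left, Subgroup.relIndex_bot_left] at h1
  exact h1.symm

/-- `f = e r` -/
theorem e_mul_r (ctx : D1Ctx p M x C b B θ) : ctx.e * ctx.r = C.relIndex (mrN x) :=
  Subgroup.relIndex_mul_relIndex C ctx.T (mrN x) ctx.C_le_T ctx.T_le_N

theorem r_eq (ctx : D1Ctx p M x C b B θ) : ctx.r = C.relIndex (mrN x) / ctx.e := by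
  rw [← ctx.e_mul_r, Nat.mul_div_cancel_left _ ctx.e_pos]

variable {ε : ℤ} {W : IrrCharacter G → ℤ}

namespace Str

/-- the values of the non-exceptional characters at the `p`-singular elements -/
theorem nonexc_apply {ctx : D1Ctx p M x C b B θ} {a : ctx.Q → IrrCharacter G} (S : ctx.Str ε W a)
    [Fintype (mrN x)] {χ : IrrCharacter G} (hχ : χ ∈ B) (hχa : χ ∉ Set.range a) {u : C}
    (hu : u ∈ Subgroup.zpowers ctx.z) (hu1 : u ≠ 1) {y : C} (hy : ¬ p ∣ orderOf y) :
    (Nat.card ctx.T : ℂ) * (χ : G → ℂ) ((u : G) * (y : G)) =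
      -(W χ : ℂ) * ∑ n : mrN x, (θ : C → ℂ) ((conjAutOn C (n : G) (ctx.hNC n.2)).symm y) := by
  classical
  have : Fintype (IrrCharacter C) := Fintype.ofFinite _
  rw [ctx.card_T_mul_apply hu hu1 hχ hy, Finset.mul_sum]
  refine Finset.sum_congr rfl fun n _ => ?_
  obtain ⟨k, hk, hk'⟩ := ctx.exists_pow_of_mem (ctx.conj_mem_zpowers n.2 hu)
    (ctx.conj_ne_one n.2 hu1)
  rw [hk', S.dEl_nonexc hχa hk]

/-- the values of the non-exceptional characters at the powers of `x` -/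
theorem nonexc_apply_pow {ctx : D1Ctx p M x C b B θ} {a : ctx.Q → IrrCharacter G}
    (S : ctx.Str ε W a) {χ : IrrCharacter G} (hχ : χ ∈ B) (hχa : χ ∉ Set.range a) {k : ℕ}
    (hk : ¬ p ∣ k) :
    (χ : G → ℂ) (x ^ k) = -(W χ : ℂ) * (ctx.r : ℂ) * (charDegree (θ : C → ℂ) : ℂ) := by
  classical
  have : Fintype (mrN x) := Fintype.ofFinite _
  have h1 := S.nonexc_apply hχ hχa (Subgroup.npow_mem_zpowers ctx.z k) (ctx.z_pow_ne_one hk)
    (y := 1) (by rw [orderOf_one]; exact (Fact.out : p.Prime).one_lt.ne' ∘ Nat.dvd_one.1)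
  simp only [map_one, Finset.sum_const, Finset.card_univ, nsmul_eq_mul, OneMemClass.coe_one,
    mul_one, coe_z_pow] at h1
  rw [Fintype.card_eq_nat_card, ctx.card_N, (irr_apply_one_eq_charDegree θ.2).1] at h1
  have hT : (Nat.card ctx.T : ℂ) ≠ 0 := Nat.cast_ne_zero.2 Nat.card_pos.ne'
  apply mul_left_cancel₀ hT
  rw [h1]
  push_cast
  ring

/-- the degrees of the non-exceptional characters -/
theorem nonexc_degree {ctx : D1Ctx p M x C b B θ} {a : ctx.Q → IrrCharacter G}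
    (S : ctx.Str ε W a) {χ : IrrCharacter G} (hχ : χ ∈ B) (hχa : χ ∉ Set.range a) :
    (p : ℤ) ∣ (charDegree (χ : G → ℂ) : ℤ) + W χ * ((ctx.r * charDegree (θ : C → ℂ) : ℕ) : ℤ) := by
  have hp : p.Prime := Fact.out
  obtain ⟨e', he'⟩ := d1_sum_pow_eq ctx.hx χ
  rw [← Finset.add_sum_erase _ _ (Finset.mem_range.2 hp.pos), pow_zero,
    (irr_apply_one_eq_charDegree χ.2).1] at he'
  have h1 : ∀ k ∈ (Finset.range p).erase 0, (χ : G → ℂ) (x ^ k) =
      -(W χ : ℂ) * (ctx.r : ℂ) * (charDegree (θ : C → ℂ) : ℂ) := by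
    intro k hk
    rw [Finset.mem_erase, Finset.mem_range] at hk
    exact S.nonexc_apply_pow hχ hχa (not_dvd_of_lt (Nat.pos_of_ne_zero hk.1) hk.2)
  rw [Finset.sum_congr rfl h1, Finset.sum_const, Finset.card_erase_of_mem
    (Finset.mem_range.2 hp.pos), Finset.card_range, nsmul_eq_mul] at he'
  have h2 : ((charDegree (χ : G → ℂ) : ℤ) + W χ * ((ctx.r * charDegree (θ : C → ℂ) : ℕ) : ℤ) : ℤ) =
      (p : ℤ) * ((e' : ℤ) + W χ * ((ctx.r * charDegree (θ : C → ℂ) : ℕ) : ℤ)) := by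
    have h3 : (((charDegree (χ : G → ℂ) : ℤ) +
        W χ * ((ctx.r * charDegree (θ : C → ℂ) : ℕ) : ℤ) : ℤ) : ℂ) =
        (((p : ℤ) * ((e' : ℤ) + W χ * ((ctx.r * charDegree (θ : C → ℂ) : ℕ) : ℤ)) : ℤ) : ℂ) := by
      push_cast
      have h4 : ((p - 1 : ℕ) : ℂ) = (p : ℂ) - 1 := by
        rw [Nat.cast_sub hp.one_lt.le, Nat.cast_one]
      rw [h4] at he'
      linear_combination he'
    exact_mod_cast h3
  exact ⟨_, h2⟩

/-- the non-exceptional characters, as a finset -/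
theorem card_filter_nonexc {ctx : D1Ctx p M x C b B θ} {a : ctx.Q → IrrCharacter G}
    (S : ctx.Str ε W a) [Fintype (IrrCharacter G)] [DecidablePred fun χ => χ ∈ B ∧ χ ∉ Set.range a] :
    (Finset.univ.filter (fun χ : IrrCharacter G => χ ∈ B ∧ χ ∉ Set.range a)).card = ctx.e := by
  classical
  rw [← S.card_nonexc, Nat.card_eq_fintype_card, Fintype.card_subtype]
  congr 1
  ext χ
  simp only [Finset.mem_filter, Finset.mem_univ, true_and, Set.mem_sdiff]

/-- the degrees of the exceptional characters -/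
theorem exc_degree_mod {ctx : D1Ctx p M x C b B θ} {a : ctx.Q → IrrCharacter G}
    (S : ctx.Str ε W a) (q : ctx.Q) :
    (p : ℤ) ∣ (charDegree (a q : G → ℂ) : ℤ) -
      ε * ((C.relIndex (mrN x) * charDegree (θ : C → ℂ) : ℕ) : ℤ) := by
  classical
  have : Fintype (IrrCharacter G) := Fintype.ofFinite _
  have h1 := S.exc_degree q
  set X := Finset.univ.filter (fun χ : IrrCharacter G => χ ∈ B ∧ χ ∉ Set.range a) with hX
  set D : ℤ := ((ctx.r * charDegree (θ : C → ℂ) : ℕ) : ℤ) with hD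
  have h2 : ∑ χ : IrrCharacter G, W χ * (charDegree (χ : G → ℂ) : ℤ) =
      ∑ χ ∈ X, W χ * (charDegree (χ : G → ℂ) : ℤ) := by
    symm
    apply Finset.sum_subset (Finset.subset_univ _)
    intro χ _ hχ
    rw [hX, Finset.mem_filter] at hχ
    have : W χ = 0 := by
      by_cases hB : χ ∈ B
      · have : χ ∈ Set.range a := by
          by_contra h
          exact hχ ⟨Finset.mem_univ _, hB, h⟩
        obtain ⟨q', rfl⟩ := this
        exact S.hWa q'
      · exact S.hW0 χ hB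
    rw [this, zero_mul]
  have h3 : ∀ χ ∈ X, (p : ℤ) ∣ W χ * (charDegree (χ : G → ℂ) : ℤ) + D := by
    intro χ hχ
    rw [hX, Finset.mem_filter] at hχ
    have h4 := S.nonexc_degree hχ.2.1 hχ.2.2
    have h5 : W χ * W χ = 1 := by
      rcases S.hW χ hχ.2.1 hχ.2.2 with h | h <;> rw [h] <;> norm_num
    have h6 : W χ * (charDegree (χ : G → ℂ) : ℤ) + D =
        W χ * ((charDegree (χ : G → ℂ) : ℤ) + W χ * D) := by
      rw [mul_add, ← mul_assoc, h5, one_mul]
    rw [h6]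
    exact Dvd.dvd.mul_left h4 _
  have h7 : (p : ℤ) ∣ ∑ χ ∈ X, (W χ * (charDegree (χ : G → ℂ) : ℤ) + D) := Finset.dvd_sum h3
  rw [Finset.sum_add_distrib, Finset.sum_const, S.card_filter_nonexc, ← h2, nsmul_eq_mul] at h7
  have h8 : ((ctx.e : ℕ) : ℤ) * D = ((C.relIndex (mrN x) * charDegree (θ : C → ℂ) : ℕ) : ℤ) := by
    rw [hD, ← ctx.e_mul_r]
    push_cast
    ring
  rw [h8] at h7
  have h9 : ε * ε = 1 := by
    rcases S.hε with h | h <;> rw [h] <;> norm_num
  have h10 : (charDegree (a q : G → ℂ) : ℤ) -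
      ε * ((C.relIndex (mrN x) * charDegree (θ : C → ℂ) : ℕ) : ℤ) =
      -ε * (∑ χ : IrrCharacter G, W χ * (charDegree (χ : G → ℂ) : ℤ) +
        ((C.relIndex (mrN x) * charDegree (θ : C → ℂ) : ℕ) : ℤ)) := by
    have : (charDegree (a q : G → ℂ) : ℤ) = ε * (ε * (charDegree (a q : G → ℂ) : ℤ)) := by
      rw [← mul_assoc, h9, one_mul]
    rw [this, h1]
    ring
  rw [h10]
  exact Dvd.dvd.mul_left h7 _

end Str

end D1Ctx

end

end Cfsg.Agent.Lib.Helper8
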