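import Mathlib
import Cfsg.Prelude.Def_Blocks
import Cfsg.Prelude.Def_BlockRank
import Cfsg.Agent.Lib.Helper8.DO16

/-!
# Blocks of defect one: the main theorem
-/

set_option autoImplicit false
set_option maxHeartbeats 800000
set_option linter.unusedSectionVars false

namespace Cfsg.Agent.Lib.Helper8

open Cfsg
open scoped ComplexConjugate
open Cfsg.Agent.Lib.Helper1 Cfsg.Agent.Lib.Helper4

universe u

section

variable {G : Type u} [Group G] [Fintype G]

theorem d1_mem_centralizer_zpowers (x t : G) :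
    t ∈ Subgroup.centralizer ((Subgroup.zpowers x : Subgroup G) : Set G) ↔ t * x = x * t := by
  constructor
  · intro h
    exact (Subgroup.mem_centralizer_iff.1 h x (Subgroup.mem_zpowers x)).symm
  · intro h
    rw [Subgroup.mem_centralizer_iff]
    intro y hy
    obtain ⟨i, rfl⟩ := Subgroup.mem_zpowers_iff.1 hy
    exact (Commute.zpow_left (show Commute x t from h.symm) i).eq

/-- a Sylow subgroup of prime order is generated by an element of order `p`, and `p²` does not
divide the order of the group -/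
theorem d1_sylow_data (p : ℕ) [Fact p.Prime] (P : Sylow p G) (hP : Nat.card P = p) :
    ∃ x : G, orderOf x = p ∧ (P : Subgroup G) = Subgroup.zpowers x ∧ ¬ p ^ 2 ∣ Nat.card G := by
  have hp : p.Prime := Fact.out
  have hcyc : IsCyclic (P : Subgroup G) := isCyclic_of_prime_card (p := p) hP
  obtain ⟨g, hg⟩ := hcyc.exists_generator
  have hord : orderOf g = p := by
    rw [orderOf_eq_card_of_forall_mem_zpowers hg]
    exact hP
  refine ⟨(g : G), ?_, ?_, ?_⟩
  · rw [Subgroup.orderOf_coe]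
    exact hord
  · ext t
    constructor
    · intro ht
      obtain ⟨i, hi⟩ := Subgroup.mem_zpowers_iff.1 (hg ⟨t, ht⟩)
      rw [Subgroup.mem_zpowers_iff]
      refine ⟨i, ?_⟩
      have := congrArg Subtype.val hi
      simpa using this
    · intro ht
      obtain ⟨i, rfl⟩ := Subgroup.mem_zpowers_iff.1 ht
      exact Subgroup.zpow_mem _ g.2 i
  · intro hdvd
    have h1 := P.card_eq_multiplicity
    have h2 : (P : Subgroup G) = P.toSubgroup := rfl
    have h3 : Nat.card (P : Subgroup G) = p := hP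
    rw [h3] at h1
    have h4 : (Nat.card G).factorization p = 1 := by
      have : p ^ 1 = p ^ (Nat.card G).factorization p := by rw [pow_one]; exact h1
      exact (Nat.pow_right_injective hp.two_le this).symm
    have h5 : 2 ≤ (Nat.card G).factorization p :=
      (hp.pow_dvd_iff_le_factorization Nat.card_pos.ne').1 hdvd
    omega

end

section

variable {G : Type u} [Group G] [Fintype G]

/-- **Blocks of defect one** (Brauer, Dade). -/
theorem d1_main (p : ℕ) [Fact p.Prime] (M : Ideal AlgInt)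
    (hM : IsPModular p M) (P' : Subgroup G) (x : G) (hx : orderOf x = p)
    (hP' : P' = Subgroup.zpowers x) (hsq : ¬ p ^ 2 ∣ Nat.card G)
    (B : Set (IrrCharacter G)) (hB : IsPBlock M B) (hBP : IsDefectGroup p M B P')
    (b : Set (IrrCharacter (Subgroup.centralizer (P' : Set G))))
    (hind : IsInducedBlock M (Subgroup.centralizer (P' : Set G)) b B)
    (θ : IrrCharacter (Subgroup.centralizer (P' : Set G))) (hθ : θ ∈ b)
    (hθP : ∀ c : Subgroup.centralizer (P' : Set G), (c : G) ∈ P' →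
      (θ : Subgroup.centralizer (P' : Set G) → ℂ) c = (θ : Subgroup.centralizer (P' : Set G) → ℂ) 1)
    (T : Subgroup G)
    (hT : ∀ g : G, g ∈ T ↔ (g ∈ Subgroup.normalizer (P' : Set G) ∧
      ∀ c c' : Subgroup.centralizer (P' : Set G), (c' : G) = g * c * g⁻¹ →
        (θ : Subgroup.centralizer (P' : Set G) → ℂ) c' =
          (θ : Subgroup.centralizer (P' : Set G) → ℂ) c))
    (e f : ℕ) (he : (Subgroup.centralizer (P' : Set G)).relIndex T = e)
    (hf : (Subgroup.centralizer (P' : Set G)).relIndex (Subgroup.normalizer (P' : Set G)) = f) :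
    e ∣ p - 1 ∧ Nat.card B = e + (p - 1) / e ∧ ∃ X Y : Set (IrrCharacter G), B = X ∪ Y ∧
      Disjoint X Y ∧ Nat.card X = e ∧ Nat.card Y = (p - 1) / e ∧
      (∀ χ ∈ X, (charDegree (χ : G → ℂ) : ℤ) ≡
          ((f / e * charDegree (θ : Subgroup.centralizer (P' : Set G) → ℂ) : ℕ) : ℤ) [ZMOD p] ∨
        (charDegree (χ : G → ℂ) : ℤ) ≡
          -((f / e * charDegree (θ : Subgroup.centralizer (P' : Set G) → ℂ) : ℕ) : ℤ) [ZMOD p]) ∧
      (∃ ε : ℤ, (ε = 1 ∨ ε = -1) ∧ ∀ ψ ∈ Y, (charDegree (ψ : G → ℂ) : ℤ) ≡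
        ε * ((f * charDegree (θ : Subgroup.centralizer (P' : Set G) → ℂ) : ℕ) : ℤ) [ZMOD p]) ∧
      ∀ ψ ∈ Y, ∀ ψ' ∈ Y, ∀ g : G, ¬ p ∣ orderOf g → (ψ : G → ℂ) g = (ψ' : G → ℂ) g := by
  classical
  subst hP'
  have : Fintype (Subgroup.centralizer ((Subgroup.zpowers x : Subgroup G) : Set G)) :=
    Fintype.ofFinite _
  have ctx : D1Ctx p M x (Subgroup.centralizer ((Subgroup.zpowers x : Subgroup G) : Set G)) b B θ :=
    ⟨hM, hx, hsq, d1_mem_centralizer_zpowers x, hB, hBP, hind, hθ, hθP⟩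
  have hTeq : T = ctx.T := by
    ext g
    rw [hT, ctx.mem_T_iff]
  have he' : ctx.e = e := by
    unfold D1Ctx.e
    rw [← hTeq, he]
  have hf' : (Subgroup.centralizer ((Subgroup.zpowers x : Subgroup G) : Set G)).relIndex (mrN x) =
      f := hf
  obtain ⟨ε, W, a, S⟩ := ctx.exists_str
  set D := charDegree (θ : Subgroup.centralizer ((Subgroup.zpowers x : Subgroup G) : Set G) → ℂ)
    with hD
  have hsub : Set.range a ⊆ B := by
    rintro _ ⟨q, rfl⟩
    exact S.mem q
  refine ⟨he' ▸ ctx.e_dvd, he' ▸ ctx.card_B, B \ Set.range a, Set.range a,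
    (Set.sdiff_union_of_subset hsub).symm, Set.disjoint_sdiff_left, he' ▸ S.card_nonexc,
    he' ▸ S.card_exc, ?_, ⟨ε, S.hε, ?_⟩, ?_⟩
  · intro χ hχ
    have h1 := S.nonexc_degree hχ.1 hχ.2
    rw [ctx.r_eq, hf', he'] at h1
    rcases S.hW χ hχ.1 hχ.2 with h | h
    · right
      rw [h, one_mul] at h1
      rw [Int.modEq_iff_dvd]
      have : -((f / e * D : ℕ) : ℤ) - (charDegree (χ : G → ℂ) : ℤ) =
          -((charDegree (χ : G → ℂ) : ℤ) + ((f / e * D : ℕ) : ℤ)) := by ring
      rw [this]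
      exact (dvd_neg).2 h1
    · left
      rw [h] at h1
      rw [Int.modEq_iff_dvd]
      have : ((f / e * D : ℕ) : ℤ) - (charDegree (χ : G → ℂ) : ℤ) =
          -((charDegree (χ : G → ℂ) : ℤ) + -1 * ((f / e * D : ℕ) : ℤ)) := by
        ring
      rw [this]
      exact (dvd_neg).2 h1
  · rintro _ ⟨q, rfl⟩
    have h1 := S.exc_degree_mod q
    rw [hf'] at h1
    rw [Int.modEq_iff_dvd]
    have : ε * ((f * D : ℕ) : ℤ) - (charDegree (a q : G → ℂ) : ℤ) =
        -((charDegree (a q : G → ℂ) : ℤ) - ε * ((f * D : ℕ) : ℤ)) := by ring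
    rw [this]
    exact (dvd_neg).2 h1
  · rintro _ ⟨q, rfl⟩ _ ⟨q', rfl⟩ g hg
    exact S.exc_agree q q' hg

end

end Cfsg.Agent.Lib.Helper8
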