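import Mathlib
import Cfsg.Prelude.Def_Blocks
import Cfsg.Prelude.Def_BlockRank
import Cfsg.Agent.Lib.Helper8.DO17
import Cfsg.Agent.Lib.Helper8.CD2
import Cfsg.Agent.Lib.Helper8.Sub7
import Cfsg.Agent.Lib.Helper8.BlockPairPrincipal

/-!
# Blocks of defect one: the principal block
-/

set_option autoImplicit false
set_option maxHeartbeats 800000
set_option linter.unusedSectionVars false

namespace Cfsg.Agent.Lib.Helper8

open Cfsg
open scoped ComplexConjugate
open Cfsg.Agent.Lib.Helper1 Cfsg.Agent.Lib.Helper4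

universe u

section

variable {G : Type u} [Group G] [Fintype G] {M : Ideal AlgInt} {p : ℕ} [Fact p.Prime]

/-- the principal block has positive defect when `p` divides the order of the group -/
theorem d1_blockDefect_principal_ne_zero (hM : IsPModular p M) (hdiv : p ∣ Nat.card G) :
    blockDefect p (principalBlock M G) ≠ 0 := by
  have hp : p.Prime := Fact.out
  have hMp := isPModular_isPrime hM
  unfold blockDefect
  have h1 : sInf ((fun χ : IrrCharacter G => (charDegree (χ : G → ℂ)).factorization p) ''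
      principalBlock M G) = 0 := by
    rw [Nat.sInf_eq_zero]
    left
    refine ⟨trivIrr G, trivIrr_mem_principalBlock hMp.ne_top, ?_⟩
    simp only
    rw [charDegree_trivIrr, Nat.factorization_one]
    rfl
  rw [h1, Nat.sub_zero]
  have h2 : 1 ≤ (Nat.card G).factorization p :=
    (hp.pow_dvd_iff_le_factorization Nat.card_pos.ne').1 (by rwa [pow_one])
  omega

/-- the context of the principal block -/
theorem d1_principal_ctx (hM : IsPModular p M) {x : G} (hx : orderOf x = p)
    (hsq : ¬ p ^ 2 ∣ Nat.card G)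
    [Fintype (Subgroup.centralizer ((Subgroup.zpowers x : Subgroup G) : Set G))] :
    D1Ctx p M x (Subgroup.centralizer ((Subgroup.zpowers x : Subgroup G) : Set G))
      (principalBlock M (Subgroup.centralizer ((Subgroup.zpowers x : Subgroup G) : Set G)))
      (principalBlock M G)
      (trivIrr (Subgroup.centralizer ((Subgroup.zpowers x : Subgroup G) : Set G))) := by
  have hp : p.Prime := Fact.out
  have hMp := isPModular_isPrime hM
  have hdiv : p ∣ Nat.card G := by
    rw [← hx]
    exact orderOf_dvd_natCard x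
  have hBP : IsDefectGroup p M (principalBlock M G) (Subgroup.zpowers x) := by
    rcases d1h_defect_zero_or hM hx hsq (isPBlock_principalBlock (M := M) (G := G)) with h | h
    · exact absurd h (d1_blockDefect_principal_ne_zero hM hdiv)
    · exact h
  have hQ : IsPGroup p (Subgroup.zpowers x) := isPGroup_of_isDefectGroup hBP
  have hQC : Subgroup.zpowers x ≤
      Subgroup.centralizer ((Subgroup.zpowers x : Subgroup G) : Set G) := by
    intro t ht
    rw [d1_mem_centralizer_zpowers]
    obtain ⟨i, rfl⟩ := Subgroup.mem_zpowers_iff.1 ht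
    exact (Commute.zpow_left (Commute.refl x) i).eq
  have hind := isInducedBlock_of_isBrauerPairOf hM (Subgroup.zpowers x) hQC
    (isBrauerPairOf_principal hM (Subgroup.zpowers x) hQ)
  refine ⟨hM, hx, hsq, d1_mem_centralizer_zpowers x, isPBlock_principalBlock, hBP, hind,
    trivIrr_mem_principalBlock hMp.ne_top, ?_⟩
  intro c _
  rw [trivIrr_apply, trivIrr_apply]

variable {x : G} {C : Subgroup G} [Fintype C] {b : Set (IrrCharacter C)}
  {B : Set (IrrCharacter G)}

/-- for the trivial canonical character the stabilizer is the whole normalizer -/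
theorem D1Ctx.T_eq_of_triv (ctx : D1Ctx p M x C b B (trivIrr C)) : ctx.T = mrN x := by
  apply le_antisymm ctx.T_le_N
  intro n hn
  refine ⟨hn, ?_⟩
  apply Subtype.ext
  funext k
  rw [conjIrr_apply, trivIrr_apply, trivIrr_apply]

theorem D1Ctx.e_eq_of_triv (ctx : D1Ctx p M x C b B (trivIrr C)) :
    ctx.e = C.relIndex (mrN x) := by
  unfold D1Ctx.e
  rw [ctx.T_eq_of_triv]

theorem D1Ctx.r_eq_of_triv (ctx : D1Ctx p M x C b B (trivIrr C)) : ctx.r = 1 := by
  unfold D1Ctx.r
  rw [ctx.T_eq_of_triv]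
  exact Subgroup.relIndex_self _

end

section

variable {G : Type u} [Group G] [Fintype G]

/-- **The principal block of a group with a Sylow subgroup of prime order** (Brauer). -/
theorem d1_principal (p : ℕ) [Fact p.Prime] (M : Ideal AlgInt) (hM : IsPModular p M)
    (P' : Subgroup G) (x : G) (hx : orderOf x = p) (hP' : P' = Subgroup.zpowers x)
    (hsq : ¬ p ^ 2 ∣ Nat.card G) (e : ℕ)
    (he : (Subgroup.centralizer (P' : Set G)).relIndex (Subgroup.normalizer (P' : Set G)) = e) :
    Nat.card (principalBlock M G) = e + (p - 1) / e ∧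
    ∃ X Y : Set (IrrCharacter G), principalBlock M G = X ∪ Y ∧ Disjoint X Y ∧ Nat.card X = e ∧
      Nat.card Y = (p - 1) / e ∧ ∃ (εX : IrrCharacter G → ℤ) (ε : ℤ),
      (∀ χ ∈ X, (εX χ = 1 ∨ εX χ = -1) ∧ (charDegree (χ : G → ℂ) : ℤ) ≡ εX χ [ZMOD p] ∧
        ∀ x' : G, x' ∈ P' → x' ≠ 1 → ∀ y : G, y ∈ Subgroup.centralizer (P' : Set G) →
          ¬ p ∣ orderOf y → (χ : G → ℂ) (x' * y) = (εX χ : ℂ)) ∧
      (ε = 1 ∨ ε = -1) ∧ (∀ θ ∈ Y, (charDegree (θ : G → ℂ) : ℤ) ≡ ε * (e : ℤ) [ZMOD p]) ∧
      (∀ θ ∈ Y, ∀ θ' ∈ Y, ∀ g : G, ¬ p ∣ orderOf g → (θ : G → ℂ) g = (θ' : G → ℂ) g) ∧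
      ∀ θ ∈ Y, ∀ g : G, ¬ p ∣ orderOf g →
        (ε : ℂ) * (θ : G → ℂ) g = ∑ᶠ χ ∈ X, (εX χ : ℂ) * (χ : G → ℂ) g := by
  classical
  subst hP'
  have : Fintype (Subgroup.centralizer ((Subgroup.zpowers x : Subgroup G) : Set G)) :=
    Fintype.ofFinite _
  have : Fintype (IrrCharacter G) := Fintype.ofFinite _
  have : Fintype (mrN x) := Fintype.ofFinite _
  have ctx := d1_principal_ctx (M := M) hM hx hsq
  have he' : ctx.e = e := by
    rw [ctx.e_eq_of_triv]
    exact he
  obtain ⟨ε, W, a, S⟩ := ctx.exists_str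
  have hsub : Set.range a ⊆ principalBlock M G := by
    rintro _ ⟨q, rfl⟩
    exact S.mem q
  have hp : p.Prime := Fact.out
  refine ⟨he' ▸ ctx.card_B, principalBlock M G \ Set.range a, Set.range a,
    (Set.sdiff_union_of_subset hsub).symm, Set.disjoint_sdiff_left, he' ▸ S.card_nonexc,
    he' ▸ S.card_exc, fun χ => -W χ, ε, ?_, S.hε, ?_, ?_, ?_⟩
  · intro χ hχ
    refine ⟨?_, ?_, ?_⟩
    · show -W χ = 1 ∨ -W χ = -1
      rcases S.hW χ hχ.1 hχ.2 with h | h
      · right
        rw [h]
      · left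
        rw [h]
        norm_num
    · have h1 := S.nonexc_degree hχ.1 hχ.2
      rw [ctx.r_eq_of_triv, charDegree_trivIrr] at h1
      rw [Int.modEq_iff_dvd]
      have : -W χ - (charDegree (χ : G → ℂ) : ℤ) =
          -((charDegree (χ : G → ℂ) : ℤ) + W χ * ((1 * 1 : ℕ) : ℤ)) := by
        push_cast
        ring
      rw [this]
      exact (dvd_neg).2 h1
    · intro x' hx' hx'1 y hy hyp
      have hx'C : x' ∈ Subgroup.centralizer ((Subgroup.zpowers x : Subgroup G) : Set G) :=
        ctx.base.hPC hx'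
      have hu : (⟨x', hx'C⟩ : Subgroup.centralizer ((Subgroup.zpowers x : Subgroup G) : Set G)) ∈
          Subgroup.zpowers ctx.z := by
        rw [ctx.mem_zpowers_z_iff]
        exact hx'
      have hu1 : (⟨x', hx'C⟩ :
          Subgroup.centralizer ((Subgroup.zpowers x : Subgroup G) : Set G)) ≠ 1 := by
        intro h
        exact hx'1 (congrArg Subtype.val h)
      have hy' : ¬ p ∣ orderOf (⟨y, hy⟩ :
          Subgroup.centralizer ((Subgroup.zpowers x : Subgroup G) : Set G)) := by
        rw [← Subgroup.orderOf_coe]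
        exact hyp
      have h1 := S.nonexc_apply hχ.1 hχ.2 hu hu1 hy'
      simp only [trivIrr_apply, Finset.sum_const, Finset.card_univ, nsmul_eq_mul, mul_one] at h1
      rw [Fintype.card_eq_nat_card, ctx.card_N, ctx.r_eq_of_triv] at h1
      have hT : (Nat.card ctx.T : ℂ) ≠ 0 := Nat.cast_ne_zero.2 Nat.card_pos.ne'
      apply mul_left_cancel₀ hT
      rw [h1]
      push_cast
      ring
  · rintro _ ⟨q, rfl⟩
    have h1 := S.exc_degree_mod q
    rw [charDegree_trivIrr, mul_one, ← ctx.e_eq_of_triv, he'] at h1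
    rw [Int.modEq_iff_dvd]
    have : ε * (e : ℤ) - (charDegree (a q : G → ℂ) : ℤ) =
        -((charDegree (a q : G → ℂ) : ℤ) - ε * (e : ℤ)) := by ring
    rw [this]
    exact (dvd_neg).2 h1
  · rintro _ ⟨q, rfl⟩ _ ⟨q', rfl⟩ g hg
    exact S.exc_agree q q' hg
  · rintro _ ⟨q, rfl⟩ g hg
    rw [S.exc_apply_pRegular q hg]
    have hfin : (principalBlock M G \ Set.range a).Finite := Set.toFinite _
    rw [finsum_mem_eq_finite_toFinset_sum _ hfin, ← Finset.sum_neg_distrib]
    symm
    have h5 : ∀ χ : IrrCharacter G, ((-W χ : ℤ) : ℂ) * (χ : G → ℂ) g =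
        -((W χ : ℂ) * (χ : G → ℂ) g) := by
      intro χ
      push_cast
      ring
    show ∑ χ ∈ hfin.toFinset, ((-W χ : ℤ) : ℂ) * (χ : G → ℂ) g =
      ∑ χ : IrrCharacter G, -((W χ : ℂ) * (χ : G → ℂ) g)
    rw [Finset.sum_congr rfl (fun χ _ => h5 χ)]
    apply Finset.sum_subset (Finset.subset_univ _)
    intro χ _ hχ
    rw [Set.Finite.mem_toFinset] at hχ
    have : W χ = 0 := by
      by_cases hB : χ ∈ principalBlock M G
      · have : χ ∈ Set.range a := by
          by_contra h
          exact hχ ⟨hB, h⟩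
        obtain ⟨q', rfl⟩ := this
        exact S.hWa q'
      · exact S.hW0 χ hB
    rw [this]
    simp

end

end Cfsg.Agent.Lib.Helper8
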