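import Mathlib
import Cfsg.Prelude.Def_Blocks
import Cfsg.Prelude.Def_BlockRank
import Cfsg.Agent.Lib.Helper8.DO16
import Cfsg.Agent.Lib.Helper1.D1G

/-!
# Blocks of defect one: rationality of the non-exceptional characters
-/

set_option autoImplicit false
set_option maxHeartbeats 800000
set_option linter.unusedSectionVars false

namespace Cfsg.Agent.Lib.Helper8

open Cfsg
open scoped ComplexConjugate
open Cfsg.Agent.Lib.Helper1 Cfsg.Agent.Lib.Helper4

universe u

section

/-- an automorphism fixing the `n`-th roots of unity fixes the values of the characters at the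
elements of order dividing `n` -/
theorem d1_fix_of_orderOf_dvd {H : Type u} [Group H] [Finite H] (σ : ℂ ≃+* ℂ) {n : ℕ} (hn : n ≠ 0)
    (hσ : σ (Complex.exp (2 * Real.pi * Complex.I / (n : ℕ))) =
      Complex.exp (2 * Real.pi * Complex.I / (n : ℕ)))
    (ξ : IrrCharacter H) {y : H} (hy : orderOf y ∣ n) :
    σ ((ξ : H → ℂ) y) = (ξ : H → ℂ) y := by
  classical
  have : Fintype H := Fintype.ofFinite H
  obtain ⟨ι', _, mult, c, hc, hsum⟩ :=
    character_pow_eq_sum (Cfsg.Agent.Lib.Helper4.isCharacter_of_irr ξ.2) y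
  have h1 := hsum 1
  rw [pow_one] at h1
  rw [h1, map_sum]
  refine Finset.sum_congr rfl fun j _ => ?_
  rw [map_mul, map_natCast, pow_one]
  congr 1
  apply D1G.fix_of_pow_eq_one σ hn hσ
  obtain ⟨d, hd⟩ := hy
  rw [hd, pow_mul, hc j, one_pow]

variable {G : Type u} [Group G] [Fintype G] {p : ℕ} [Fact p.Prime]

/-- a `p`-singular element is conjugate to the product of a non-identity power of `x` and a
`p`-regular element commuting with `x` -/
theorem d1_exists_conj_decomp {x : G} (hx : orderOf x = p) (hsq : ¬ p ^ 2 ∣ Nat.card G) {g : G}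
    (hg : p ∣ orderOf g) :
    ∃ t u y : G, t * g * t⁻¹ = u * y ∧ u ∈ Subgroup.zpowers x ∧ u ≠ 1 ∧ y * x = x * y ∧
      ¬ p ∣ orderOf y := by
  have hp : p.Prime := Fact.out
  set w := g ^ (orderOf g / p) with hw
  have hwo : orderOf w = p := orderOf_pow_orderOf_div (orderOf_pos g).ne' hg
  have h1 : Nat.card (Subgroup.zpowers w) = p := by rw [Nat.card_zpowers, hwo]
  have h2 : Nat.card (Subgroup.zpowers x) = p := by rw [Nat.card_zpowers, hx]
  obtain ⟨t, ht⟩ := D1H.exists_conj_of_card_eq hsq h1 h2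
  have h3 : t * w * t⁻¹ ∈ Subgroup.zpowers x := by
    rw [ht, Subgroup.mem_map]
    exact ⟨w, Subgroup.mem_zpowers w, rfl⟩
  have h4 : t * w * t⁻¹ ≠ 1 := by
    intro h
    have : w = 1 := by
      have := congrArg (fun v => t⁻¹ * v * t) h
      simpa [mul_assoc] using this
    rw [this, orderOf_one] at hwo
    exact hp.one_lt.ne hwo
  have h5 : (t * g * t⁻¹) * (t * w * t⁻¹) = (t * w * t⁻¹) * (t * g * t⁻¹) := by
    have : g * w = w * g := ((Commute.refl g).pow_right _).eq
    calc (t * g * t⁻¹) * (t * w * t⁻¹) = t * (g * w) * t⁻¹ := by group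
      _ = t * (w * g) * t⁻¹ := by rw [this]
      _ = (t * w * t⁻¹) * (t * g * t⁻¹) := by group
  have h6 : (t * g * t⁻¹) * x = x * (t * g * t⁻¹) := (d1_comm_iff hx h3 h4 _).1 h5
  have h7 : p ∣ orderOf (t * g * t⁻¹) := by
    have := d1_orderOf_conj t⁻¹ g
    rw [inv_inv] at this
    rw [this]
    exact hg
  obtain ⟨u, y, huy, hu, hu1, hyx, hyp, -, -⟩ := d1_decomp hx hsq h6 h7
  exact ⟨t, u, y, huy, hu, hu1, hyx, hyp⟩

end

section

variable {G : Type u} [Group G] [Fintype G] {M : Ideal AlgInt} {p : ℕ} [Fact p.Prime]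
  {x : G} {C : Subgroup G} [Fintype C] {b : Set (IrrCharacter C)} {B : Set (IrrCharacter G)}
  {θ : IrrCharacter C}

namespace D1Ctx

/-- an automorphism fixing the `g'`-th roots of unity fixes the values of the characters of `C`
at the `p`-regular elements -/
theorem fix_sub_pRegular (_ctx : D1Ctx p M x C b B θ) (σ : ℂ ≃+* ℂ)
    (hσ : σ (Complex.exp (2 * Real.pi * Complex.I /
        ((Nat.card G / p ^ (Nat.card G).factorization p) : ℕ))) =
      Complex.exp (2 * Real.pi * Complex.I /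
        ((Nat.card G / p ^ (Nat.card G).factorization p) : ℕ)))
    (ξ : IrrCharacter C) {y : C} (hy : ¬ p ∣ orderOf y) :
    σ ((ξ : C → ℂ) y) = (ξ : C → ℂ) y := by
  obtain ⟨h0, _, hdvd⟩ := D1G.ordCompl_facts (G := G) p
  apply d1_fix_of_orderOf_dvd σ h0 hσ
  rw [← Subgroup.orderOf_coe]
  apply hdvd
  rw [Subgroup.orderOf_coe]
  exact hy

/-- the value at a `p`-singular element in terms of the elements of `C` -/
theorem exists_conj_decomp (ctx : D1Ctx p M x C b B θ) {g : G} (hg : p ∣ orderOf g) :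
    ∃ (t : G) (u y : C), t * g * t⁻¹ = (u : G) * (y : G) ∧ u ∈ Subgroup.zpowers ctx.z ∧ u ≠ 1 ∧
      ¬ p ∣ orderOf y := by
  obtain ⟨t, u, y, h1, hu, hu1, hyx, hyp⟩ := d1_exists_conj_decomp ctx.hx ctx.hsq hg
  have huC : u ∈ C := ctx.base.hPC hu
  have hyC : y ∈ C := (ctx.hC y).2 hyx
  refine ⟨t, ⟨u, huC⟩, ⟨y, hyC⟩, h1, ?_, ?_, ?_⟩
  · rw [ctx.mem_zpowers_z_iff]
    exact hu
  · intro h
    exact hu1 (congrArg Subtype.val h)
  · rw [← Subgroup.orderOf_coe]
    exact hyp

variable {ε : ℤ} {W : IrrCharacter G → ℤ}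

/-- **The non-exceptional characters are `p`-rational.** -/
theorem Str.nonexc_fix {ctx : D1Ctx p M x C b B θ} {a : ctx.Q → IrrCharacter G}
    (S : ctx.Str ε W a) {χ : IrrCharacter G} (hχ : χ ∈ B) (hχa : χ ∉ Set.range a) (σ : ℂ ≃+* ℂ)
    (hσ : σ (Complex.exp (2 * Real.pi * Complex.I /
        ((Nat.card G / p ^ (Nat.card G).factorization p) : ℕ))) =
      Complex.exp (2 * Real.pi * Complex.I /
        ((Nat.card G / p ^ (Nat.card G).factorization p) : ℕ)))
    (g : G) : σ ((χ : G → ℂ) g) = (χ : G → ℂ) g := by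
  classical
  have : Fintype (mrN x) := Fintype.ofFinite _
  by_cases hg : p ∣ orderOf g
  · obtain ⟨t, u, y, h1, hu, hu1, hy⟩ := ctx.exists_conj_decomp hg
    have h2 : (χ : G → ℂ) g = (χ : G → ℂ) ((u : G) * (y : G)) := by
      rw [← h1]
      exact (isClassFunction_irr χ.2 g t).symm
    rw [h2]
    have h3 := S.nonexc_apply hχ hχa hu hu1 hy
    have h4 := congrArg σ h3
    rw [map_mul, map_natCast, map_mul, map_neg, map_intCast, map_sum] at h4
    have h5 : ∀ n : mrN x, σ ((θ : C → ℂ) ((conjAutOn C (n : G) (ctx.hNC n.2)).symm y)) =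
        (θ : C → ℂ) ((conjAutOn C (n : G) (ctx.hNC n.2)).symm y) := by
      intro n
      apply ctx.fix_sub_pRegular σ hσ
      rw [MulEquiv.orderOf_eq]
      exact hy
    rw [Finset.sum_congr rfl (fun n _ => h5 n), ← h3] at h4
    have hT : (Nat.card ctx.T : ℂ) ≠ 0 := Nat.cast_ne_zero.2 Nat.card_pos.ne'
    exact mul_left_cancel₀ hT h4
  · exact d1g_fix_pRegular p σ hσ χ hg

end D1Ctx

end

end Cfsg.Agent.Lib.Helper8
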