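import Mathlib
import Cfsg.Prelude.Def_Blocks
import Cfsg.Prelude.Def_BlockRank
import Cfsg.Agent.Lib.Helper8.DO19

/-!
# Blocks of defect one: the Galois action on the exceptional characters
-/

set_option autoImplicit false
set_option maxHeartbeats 800000
set_option linter.unusedSectionVars false

namespace Cfsg.Agent.Lib.Helper8

open Cfsg
open scoped ComplexConjugate
open Cfsg.Agent.Lib.Helper1 Cfsg.Agent.Lib.Helper4

universe u

section

variable {G : Type u} [Group G] [Fintype G] {M : Ideal AlgInt} {p : ℕ} [Fact p.Prime]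
  {x : G} {C : Subgroup G} [Fintype C] {b : Set (IrrCharacter C)} {B : Set (IrrCharacter G)}
  {θ : IrrCharacter C}

namespace D1Ctx

theorem z_ne_one (ctx : D1Ctx p M x C b B θ) : ctx.z ≠ 1 := by
  have := ctx.z_pow_ne_one (k := 1) (by
    intro h
    exact (Fact.out : p.Prime).one_lt.ne' (Nat.dvd_one.1 h))
  rwa [pow_one] at this

/-- the power by which an element of the normalizer acts on the central characters -/
theorem exists_om_conj (ctx : D1Ctx p M x C b B θ) {n : G} (hn : n ∈ mrN x) :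
    ∃ m : ℕ, ¬ p ∣ m ∧ ∀ ξ : IrrCharacter C,
      d1om ctx.z (conjIrr C n (ctx.hNC hn) ξ) = d1om ctx.z ξ ^ m := by
  obtain ⟨m, hm, hm'⟩ := ctx.exists_pow_of_mem
    (ctx.conj_mem_zpowers hn (Subgroup.mem_zpowers ctx.z)) (ctx.conj_ne_one hn ctx.z_ne_one)
  refine ⟨m, hm, fun ξ => ?_⟩
  rw [d1om_conjIrr, hm', ctx.d1om_z_pow]

theorem om_pow_p (ctx : D1Ctx p M x C b B θ) (ξ : IrrCharacter C) : d1om ctx.z ξ ^ p = 1 := by
  have := d1om_pow_orderOf ctx.hzc ξ
  rwa [ctx.hz] at this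

/-- a conjugate of a non-canonical member of `b` lies in `b` exactly for the elements of the
stabilizer -/
theorem conj_mem_b_iff (ctx : D1Ctx p M x C b B θ) {n : G} (hn : n ∈ mrN x) {ξ : IrrCharacter C}
    (hξ : ξ ∈ b) : conjIrr C n (ctx.hNC hn) ξ ∈ b ↔ n ∈ ctx.T := by
  constructor
  · intro h
    exact ctx.mem_T_of_conj hn h hξ rfl
  · intro h
    exact ctx.conj_mem_b h hξ

open Classical in
/-- the sum over a class, as a sum over the normalizer -/
theorem class_sum (ctx : D1Ctx p M x C b B θ) [Fintype (mrN x)] (ξ : ctx.Bn) (F : ℂ → ℂ) :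
    (Nat.card C : ℂ) * ∑ η : ctx.Bn,
        (if ctx.mkQ η = ctx.mkQ ξ then F (d1om ctx.z η.1) else 0) =
      ∑ n : mrN x, (if conjIrr C (n : G) (ctx.hNC n.2) ξ.1 ∈ b then
        F (d1om ctx.z (conjIrr C (n : G) (ctx.hNC n.2) ξ.1)) else 0) := by
  have h1 : ∀ n : mrN x, (if conjIrr C (n : G) (ctx.hNC n.2) ξ.1 ∈ b then
        F (d1om ctx.z (conjIrr C (n : G) (ctx.hNC n.2) ξ.1)) else 0) =
      ∑ η : ctx.Bn, (if conjIrr C (n : G) (ctx.hNC n.2) ξ.1 = η.1 then
        F (d1om ctx.z η.1) else 0) := by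
    intro n
    by_cases h : conjIrr C (n : G) (ctx.hNC n.2) ξ.1 ∈ b
    · rw [if_pos h]
      have hT : (n : G) ∈ ctx.T := (ctx.conj_mem_b_iff n.2 ξ.2.1).1 h
      have hne : conjIrr C (n : G) (ctx.hNC n.2) ξ.1 ≠ θ := ctx.conj_ne_theta hT ξ.2.2
      have e := Finset.sum_eq_single (s := Finset.univ)
        (f := fun η : ctx.Bn => if conjIrr C (n : G) (ctx.hNC n.2) ξ.1 = η.1 then
          F (d1om ctx.z η.1) else 0)
        (⟨conjIrr C (n : G) (ctx.hNC n.2) ξ.1, h, hne⟩ : ctx.Bn)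
        (fun η _ hη => if_neg (fun h' => hη (Subtype.ext h'.symm)))
        (fun h' => absurd (Finset.mem_univ _) h')
      exact (e.trans (if_pos rfl)).symm
    · rw [if_neg h]
      symm
      apply Finset.sum_eq_zero
      intro η _
      rw [if_neg]
      intro h'
      apply h
      rw [h']
      exact η.2.1
  rw [Finset.sum_congr rfl (fun n _ => h1 n), Finset.sum_comm, Finset.mul_sum]
  refine Finset.sum_congr rfl fun η _ => ?_
  rw [← Finset.sum_filter, Finset.sum_const, ctx.card_conj_irr_eq ξ.2.1 ξ.2.2, nsmul_eq_mul]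
  by_cases h : ctx.mkQ η = ctx.mkQ ξ
  · rw [if_pos h, if_pos ((ctx.mkQ_eq_iff η ξ).1 h)]
  · rw [if_neg h, if_neg (fun h' => h ((ctx.mkQ_eq_iff η ξ).2 h'))]
    simp

/-- the classes of two members of `b` whose central characters are powers of each other -/
theorem class_sum_pow (ctx : D1Ctx p M x C b B θ) (ξ ξ' : ctx.Bn) (j : ℕ)
    (hj : d1om ctx.z ξ'.1 = d1om ctx.z ξ.1 ^ j) (F : ℂ → ℂ) :
    ∑ η : ctx.Bn, (if ctx.mkQ η = ctx.mkQ ξ' then F (d1om ctx.z η.1) else 0) =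
      ∑ η : ctx.Bn, (if ctx.mkQ η = ctx.mkQ ξ then F (d1om ctx.z η.1 ^ j) else 0) := by
  classical
  have : Fintype (mrN x) := Fintype.ofFinite _
  have hC : (Nat.card C : ℂ) ≠ 0 := Nat.cast_ne_zero.2 Nat.card_pos.ne'
  apply mul_left_cancel₀ hC
  rw [ctx.class_sum ξ' F, ctx.class_sum ξ (fun w => F (w ^ j))]
  refine Finset.sum_congr rfl fun n _ => ?_
  obtain ⟨m, -, hm⟩ := ctx.exists_om_conj n.2
  have h1 : conjIrr C (n : G) (ctx.hNC n.2) ξ'.1 ∈ b ↔ conjIrr C (n : G) (ctx.hNC n.2) ξ.1 ∈ b := by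
    rw [ctx.conj_mem_b_iff n.2 ξ'.2.1, ctx.conj_mem_b_iff n.2 ξ.2.1]
  by_cases h : conjIrr C (n : G) (ctx.hNC n.2) ξ.1 ∈ b
  · rw [if_pos h, if_pos (h1.2 h), hm, hm, hj, ← pow_mul, ← pow_mul, mul_comm]
  · rw [if_neg h, if_neg (fun h' => h (h1.1 h'))]

variable {ε : ℤ} {W : IrrCharacter G → ℤ}

/-- **The Galois action on the exceptional characters.** -/
theorem Str.exc_twist {ctx : D1Ctx p M x C b B θ} {a : ctx.Q → IrrCharacter G}
    (S : ctx.Str ε W a) (ξ ξ' : ctx.Bn) (j : ℕ)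
    (hj : d1om ctx.z ξ'.1 = d1om ctx.z ξ.1 ^ j) (σ : ℂ ≃+* ℂ)
    (hσ : σ (Complex.exp (2 * Real.pi * Complex.I /
        ((Nat.card G / p ^ (Nat.card G).factorization p) : ℕ))) =
      Complex.exp (2 * Real.pi * Complex.I /
        ((Nat.card G / p ^ (Nat.card G).factorization p) : ℕ)))
    (hσp : ∀ ζ : ℂ, ζ ^ p = 1 → σ ζ = ζ ^ j) (g : G) :
    σ ((a (ctx.mkQ ξ) : G → ℂ) g) = (a (ctx.mkQ ξ') : G → ℂ) g := by
  classical
  have : Fintype (mrN x) := Fintype.ofFinite _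
  have : Fintype (IrrCharacter C) := Fintype.ofFinite _
  by_cases hg : p ∣ orderOf g
  · obtain ⟨t, u, y, h1, hu, hu1, hy⟩ := ctx.exists_conj_decomp hg
    have h2 : ∀ χ : IrrCharacter G, (χ : G → ℂ) g = (χ : G → ℂ) ((u : G) * (y : G)) := by
      intro χ
      rw [← h1]
      exact (isClassFunction_irr χ.2 g t).symm
    rw [h2, h2]
    have h3 := ctx.card_T_mul_apply hu hu1 (S.mem (ctx.mkQ ξ)) hy
    have h3' := ctx.card_T_mul_apply hu hu1 (S.mem (ctx.mkQ ξ')) hy
    have h4 := congrArg σ h3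
    rw [map_mul, map_natCast, map_sum] at h4
    have h5 : ∀ n : mrN x,
        σ (d1dEl C b (a (ctx.mkQ ξ)) ((conjAutOn C (n : G) (ctx.hNC n.2)).symm u) *
          (θ : C → ℂ) ((conjAutOn C (n : G) (ctx.hNC n.2)).symm y)) =
        d1dEl C b (a (ctx.mkQ ξ')) ((conjAutOn C (n : G) (ctx.hNC n.2)).symm u) *
          (θ : C → ℂ) ((conjAutOn C (n : G) (ctx.hNC n.2)).symm y) := by
      intro n
      rw [map_mul]
      congr 1
      · obtain ⟨k, hk, hk'⟩ := ctx.exists_pow_of_mem (ctx.conj_mem_zpowers n.2 hu)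
          (ctx.conj_ne_one n.2 hu1)
        rw [hk', S.dEl_exc _ hk, S.dEl_exc _ hk, map_mul, map_intCast, map_sum]
        congr 1
        have e1 : ∑ η : ctx.Bn,
            (by classical exact if ctx.mkQ η = ctx.mkQ ξ' then d1om ctx.z η.1 ^ k else 0) =
            ∑ η : ctx.Bn, (if ctx.mkQ η = ctx.mkQ ξ' then (fun w => w ^ k) (d1om ctx.z η.1)
              else 0) := by
          refine Finset.sum_congr rfl fun η _ => ?_
          congr
        rw [e1, ctx.class_sum_pow ξ ξ' j hj (fun w => w ^ k)]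
        refine Finset.sum_congr rfl fun η _ => ?_
        by_cases h : ctx.mkQ η = ctx.mkQ ξ
        · rw [if_pos h, if_pos h, hσp]
          · rw [← pow_mul, ← pow_mul, mul_comm]
          · rw [← pow_mul, mul_comm, pow_mul, ctx.om_pow_p, one_pow]
        · rw [if_neg h, if_neg h, map_zero]
      · apply ctx.fix_sub_pRegular σ hσ
        rw [MulEquiv.orderOf_eq]
        exact hy
    rw [Finset.sum_congr rfl (fun n _ => h5 n), ← h3'] at h4
    have hT : (Nat.card ctx.T : ℂ) ≠ 0 := Nat.cast_ne_zero.2 Nat.card_pos.ne'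
    exact mul_left_cancel₀ hT h4
  · rw [d1g_fix_pRegular p σ hσ _ hg]
    exact S.exc_agree _ _ hg

end D1Ctx

end

end Cfsg.Agent.Lib.Helper8
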