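import Mathlib
import Cfsg.Prelude.Def_Blocks
import Cfsg.Prelude.Def_BlockRank
import Cfsg.Agent.Lib.Helper8.DO17
import Cfsg.Agent.Lib.Helper8.DO20

/-!
# Blocks of defect one: the exceptional family as a class of `p`-conjugate characters
-/

set_option autoImplicit false
set_option maxHeartbeats 800000
set_option linter.unusedSectionVars false

namespace Cfsg.Agent.Lib.Helper8

open Cfsg
open scoped ComplexConjugate
open Cfsg.Agent.Lib.Helper1 Cfsg.Agent.Lib.Helper4

universe u

section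

variable {G : Type u} [Group G] [Fintype G]

/-- **Blocks of defect one: `p`-conjugate characters** (Brauer). -/
theorem d1_galois (p : ℕ) [Fact p.Prime] (M : Ideal AlgInt) (hM : IsPModular p M)
    (hdiv : p ∣ Nat.card G) (hsq : ¬ p ^ 2 ∣ Nat.card G) (B : Set (IrrCharacter G))
    (hB : IsPBlock M B) (hd : 0 < blockDefect p B) :
    ∃ Y : Set (IrrCharacter G), Y ⊆ B ∧ Y.Nonempty ∧
      (∀ θ ∈ Y, ∀ ψ : IrrCharacter G,
        (∃ σ : ℂ ≃+* ℂ, σ (Complex.exp (2 * Real.pi * Complex.I /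
            ((Nat.card G / p ^ (Nat.card G).factorization p) : ℕ))) =
          Complex.exp (2 * Real.pi * Complex.I /
            ((Nat.card G / p ^ (Nat.card G).factorization p) : ℕ)) ∧
          (ψ : G → ℂ) = fun g => σ ((θ : G → ℂ) g)) ↔ ψ ∈ Y) ∧
      (∀ χ ∈ B, χ ∉ Y → ∀ ψ : IrrCharacter G,
        (∃ σ : ℂ ≃+* ℂ, σ (Complex.exp (2 * Real.pi * Complex.I /
            ((Nat.card G / p ^ (Nat.card G).factorization p) : ℕ))) =
          Complex.exp (2 * Real.pi * Complex.I /
            ((Nat.card G / p ^ (Nat.card G).factorization p) : ℕ)) ∧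
          (ψ : G → ℂ) = fun g => σ ((χ : G → ℂ) g)) → ψ = χ) ∧
      Nat.card Y ∣ p - 1 ∧ Nat.card B = Nat.card Y + (p - 1) / Nat.card Y ∧
      ∃ δ : IrrCharacter G → ℤ, (∀ χ ∈ B, δ χ = 1 ∨ δ χ = -1) ∧
        ∀ x : G, ¬ p ∣ orderOf x → ∀ θ ∈ Y,
          (∑ᶠ χ ∈ B \ Y, (δ χ : ℂ) * (χ : G → ℂ) x) + (δ θ : ℂ) * (θ : G → ℂ) x = 0 := by
  classical
  have hp : p.Prime := Fact.out
  have : Fintype (IrrCharacter G) := Fintype.ofFinite _
  obtain ⟨x, hx⟩ := exists_prime_orderOf_dvd_card' p hdiv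
  have hBP : IsDefectGroup p M B (Subgroup.zpowers x) := by
    rcases d1h_defect_zero_or hM hx hsq hB with h | h
    · omega
    · exact h
  have : Fintype (Subgroup.centralizer ((Subgroup.zpowers x : Subgroup G) : Set G)) :=
    Fintype.ofFinite _
  have base : D1Base p M x (Subgroup.centralizer ((Subgroup.zpowers x : Subgroup G) : Set G)) :=
    ⟨hM, hx, hsq, d1_mem_centralizer_zpowers x⟩
  obtain ⟨b, θ, ctx⟩ := base.exists_ctx hB hBP
  obtain ⟨ε, W, a, S⟩ := ctx.exists_str
  have hsub : Set.range a ⊆ B := by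
    rintro _ ⟨q, rfl⟩
    exact S.mem q
  have hp1 : p - 1 ≠ 0 := by
    have := hp.two_le
    omega
  refine ⟨Set.range a, hsub, ?_, ?_, ?_, ?_, ?_, ?_⟩
  · obtain ⟨q⟩ := ctx.nonempty_Q
    exact ⟨a q, q, rfl⟩
  · -- the exceptional characters form a class of `p`-conjugate characters
    rintro _ ⟨q, rfl⟩ ψ
    constructor
    · rintro ⟨σ, hσ, hψ⟩
      have hψB : ψ ∈ B := d1g_twist_mem_block p hM hB σ hσ (S.mem q) hψ
      by_contra hψY
      have hσ' : σ.symm (Complex.exp (2 * Real.pi * Complex.I /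
            ((Nat.card G / p ^ (Nat.card G).factorization p) : ℕ))) =
          Complex.exp (2 * Real.pi * Complex.I /
            ((Nat.card G / p ^ (Nat.card G).factorization p) : ℕ)) := by
        conv_lhs => rw [← hσ]
        exact σ.symm_apply_apply _
      apply hψY
      refine ⟨q, ?_⟩
      apply Subtype.ext
      funext g
      have h1 := S.nonexc_fix hψB hψY σ.symm hσ' g
      rw [← h1, hψ]
      exact (σ.symm_apply_apply _).symm
    · rintro ⟨q', rfl⟩
      obtain ⟨ξ, rfl⟩ := ctx.mkQ_surj q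
      obtain ⟨ξ', rfl⟩ := ctx.mkQ_surj q'
      have hprim := d1om_isPrimitiveRoot ctx.hM ctx.hzc ctx.hz ctx.hb ctx.hDb ctx.hθ ctx.hker
        ξ.2.1 ξ.2.2
      have hprim' := d1om_isPrimitiveRoot ctx.hM ctx.hzc ctx.hz ctx.hb ctx.hDb ctx.hθ ctx.hker
        ξ'.2.1 ξ'.2.2
      have : NeZero p := ⟨hp.ne_zero⟩
      obtain ⟨j, -, hj⟩ := hprim.eq_pow_of_pow_eq_one (ctx.om_pow_p ξ'.1)
      have hjp : ¬ p ∣ j := by
        rintro ⟨c, rfl⟩
        rw [pow_mul, ctx.om_pow_p, one_pow] at hj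
        exact hprim'.ne_one hp.one_lt hj.symm
      obtain ⟨σ, hσ, hσp⟩ := d1g_exists_pow (G := G) p j hjp
      refine ⟨σ, hσ, ?_⟩
      funext g
      exact (S.exc_twist ξ ξ' j hj.symm σ hσ hσp g).symm
  · -- the other characters are `p`-rational
    rintro χ hχ hχY ψ ⟨σ, hσ, hψ⟩
    apply Subtype.ext
    rw [hψ]
    funext g
    exact S.nonexc_fix hχ hχY σ hσ g
  · rw [S.card_exc]
    exact Nat.div_dvd_of_dvd ctx.e_dvd
  · rw [S.card_exc, Nat.div_div_self ctx.e_dvd hp1, ctx.card_B, add_comm]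
  · refine ⟨fun χ => if χ ∈ Set.range a then ε else W χ, ?_, ?_⟩
    · intro χ hχ
      by_cases h : χ ∈ Set.range a
      · simp only [if_pos h]
        exact S.hε
      · simp only [if_neg h]
        exact S.hW χ hχ h
    · rintro g hg _ ⟨q, rfl⟩
      simp only [if_pos (Set.mem_range_self q)]
      rw [S.exc_apply_pRegular q hg]
      have hfin : (B \ Set.range a).Finite := Set.toFinite _
      rw [finsum_mem_eq_finite_toFinset_sum _ hfin]
      have h1 : ∑ χ ∈ hfin.toFinset,
          (((if χ ∈ Set.range a then ε else W χ : ℤ) : ℂ)) * (χ : G → ℂ) g =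
          ∑ χ : IrrCharacter G, (W χ : ℂ) * (χ : G → ℂ) g := by
        have h2 : ∀ χ ∈ hfin.toFinset,
            (((if χ ∈ Set.range a then ε else W χ : ℤ) : ℂ)) * (χ : G → ℂ) g =
            (W χ : ℂ) * (χ : G → ℂ) g := by
          intro χ hχ
          rw [Set.Finite.mem_toFinset] at hχ
          rw [if_neg hχ.2]
        rw [Finset.sum_congr rfl h2]
        apply Finset.sum_subset (Finset.subset_univ _)
        intro χ _ hχ
        rw [Set.Finite.mem_toFinset] at hχ
        have : W χ = 0 := by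
          by_cases hB' : χ ∈ B
          · have : χ ∈ Set.range a := by
              by_contra h
              exact hχ ⟨hB', h⟩
            obtain ⟨q', rfl⟩ := this
            exact S.hWa q'
          · exact S.hW0 χ hB'
        rw [this]
        simp
      rw [h1]
      ring

end

end Cfsg.Agent.Lib.Helper8
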