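import Mathlib
import Cfsg.Prelude.Def_Characters
import Cfsg.Agent.Lib.Helper8.CD2
import Cfsg.Agent.S0146
import Cfsg.Agent.S0148
import Cfsg.Agent.S0170

/-!
# Characters induced from Sylow subgroups and prime power codegrees
-/

set_option autoImplicit false

namespace Cfsg.Agent.Lib.Helper8

open Cfsg
open scoped ComplexConjugate
open Cfsg.Agent.Lib.Helper1 Cfsg.Agent.Lib.Helper4

universe u

section

variable {G : Type u} [Group G] [Fintype G]

/-- Decomposition of a character with natural multiplicities. -/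
theorem exists_nat_mult [Fintype (IrrCharacter G)] {ψ : G → ℂ} (hψ : IsCharacter G ψ) :
    ∃ m : IrrCharacter G → ℕ, (∀ ζ : IrrCharacter G, classInner ψ (ζ : G → ℂ) = m ζ) ∧
      ψ = ∑ ζ : IrrCharacter G, (m ζ : ℂ) • (ζ : G → ℂ) := by
  have h : ∀ ζ : IrrCharacter G, ∃ m : ℕ, classInner ψ (ζ : G → ℂ) = m :=
    fun ζ => classInner_char_irr_nat hψ ζ.2
  choose m hm using h
  refine ⟨m, hm, ?_⟩
  conv_lhs => rw [class_function_expansion ψ (isClassFunction_of_isCharacter hψ)]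
  exact Finset.sum_congr rfl (fun ζ _ => by rw [hm ζ])

/-- The degree of a character in terms of multiplicities. -/
theorem apply_one_eq_sum_mult [Fintype (IrrCharacter G)] {ψ : G → ℂ} (m : IrrCharacter G → ℕ)
    (h : ψ = ∑ ζ : IrrCharacter G, (m ζ : ℂ) • (ζ : G → ℂ)) :
    ψ 1 = ((∑ ζ : IrrCharacter G, m ζ * charDegree (ζ : G → ℂ) : ℕ) : ℂ) := by
  rw [h, Finset.sum_apply]
  push_cast
  refine Finset.sum_congr rfl (fun ζ _ => ?_)
  rw [Pi.smul_apply, smul_eq_mul, (irr_apply_one_eq_charDegree ζ.2).1]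

/-- A character containing the irreducible `χ`, of degree at most `χ 1`, equals `χ`. -/
theorem eq_irr_of_degree_le {Ψ : G → ℂ} (hΨ : IsCharacter G Ψ) (χ : IrrCharacter G)
    (hne : classInner Ψ (χ : G → ℂ) ≠ 0) (d : ℕ) (hd : Ψ 1 = d)
    (hle : d ≤ charDegree (χ : G → ℂ)) : Ψ = (χ : G → ℂ) := by
  classical
  haveI : Fintype (IrrCharacter G) := Fintype.ofFinite _
  obtain ⟨m, hm, hdec⟩ := exists_nat_mult hΨ
  have h1 := apply_one_eq_sum_mult m hdec
  rw [hd] at h1
  have h1' : d = ∑ ζ : IrrCharacter G, m ζ * charDegree (ζ : G → ℂ) := by exact_mod_cast h1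
  have hmχ : m χ ≠ 0 := by
    intro h0
    apply hne
    rw [hm χ, h0]
    simp
  rw [← Finset.add_sum_erase Finset.univ _ (Finset.mem_univ χ)] at h1'
  have hdχ := (irr_apply_one_eq_charDegree χ.2).2
  have hmχ1 : m χ = 1 := by
    by_contra hne1
    have h2 : 2 ≤ m χ := by omega
    have : 2 * charDegree (χ : G → ℂ) ≤ m χ * charDegree (χ : G → ℂ) :=
      Nat.mul_le_mul_right _ h2
    omega
  have hrest : ∑ ζ ∈ Finset.univ.erase χ, m ζ * charDegree (ζ : G → ℂ) = 0 := by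
    rw [hmχ1, one_mul] at h1'
    omega
  have hzero : ∀ ζ : IrrCharacter G, ζ ≠ χ → m ζ = 0 := by
    intro ζ hζ
    have := (Finset.sum_eq_zero_iff.1 hrest) ζ (Finset.mem_erase.2 ⟨hζ, Finset.mem_univ _⟩)
    rcases Nat.mul_eq_zero.1 this with h | h
    · exact h
    · exact absurd h (irr_apply_one_eq_charDegree ζ.2).2.ne'
  rw [hdec, ← Finset.add_sum_erase Finset.univ _ (Finset.mem_univ χ), hmχ1]
  rw [Finset.sum_eq_zero, add_zero]
  · simp
  · intro ζ hζ
    rw [hzero ζ (Finset.mem_erase.1 hζ).1]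
    simp

/-- Degree of an induced function. -/
theorem indFun_apply_one_nat (H : Subgroup G) (θ : H → ℂ) {x : ℕ} (hx : θ 1 = x) :
    indFun H θ 1 = ((H.index * x : ℕ) : ℂ) := by
  rw [Cfsg.Agent.S0170.indFun_one, hx]
  have h1 : (Nat.card G : ℂ) = (H.index : ℂ) * (Nat.card H : ℂ) := by
    exact_mod_cast (Subgroup.index_mul_card H).symm
  have hH0 : (Nat.card H : ℂ) ≠ 0 := Nat.cast_ne_zero.2 Nat.card_pos.ne'
  rw [h1]
  push_cast
  field_simp

end

end Cfsg.Agent.Lib.Helper8
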