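import Mathlib
import Cfsg.Prelude.Def_Blocks
import Cfsg.Prelude.Def_BlockRank
import Cfsg.Agent.Lib.Helper8.DO14

/-!
# Blocks of defect one: the number of `p`-regular classes
-/

set_option autoImplicit false
set_option maxHeartbeats 1600000
set_option linter.unusedSectionVars false

namespace Cfsg.Agent.Lib.Helper8

open Cfsg
open scoped ComplexConjugate
open Cfsg.Agent.Lib.Helper1 Cfsg.Agent.Lib.Helper4

universe u

section

variable {H : Type u} [Group H]

/-- a conjugacy class of `p`-regular elements -/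
def d1reg (p : ℕ) (c : ConjClasses H) : Prop := ¬ p ∣ orderOf (Quotient.out c)

theorem d1reg_mk (p : ℕ) (g : H) : d1reg p (ConjClasses.mk g) ↔ ¬ p ∣ orderOf g := by
  have hconj : IsConj g (Quotient.out (ConjClasses.mk g)) := by
    rw [← ConjClasses.mk_eq_mk_iff_isConj]
    exact (Quotient.out_eq _).symm
  unfold d1reg
  rw [← D1H.orderOf_eq_of_isConj hconj]

end

section

variable {G : Type u} [Group G] [Fintype G] {M : Ideal AlgInt} {p : ℕ} [Fact p.Prime]

/-- the sum of the ranks of the blocks is the number of `p`-regular classes -/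
theorem d1_sum_blockRank_eq (hM : IsPModular p M) :
    ∑ B ∈ blocksFinset M G, blockRank p B = Nat.card {c : ConjClasses G // d1reg p c} := by
  classical
  have : Fintype (IrrCharacter G) := Fintype.ofFinite _
  have hMp := isPModular_isPrime hM
  have hG0 : (Nat.card G : ℂ) ≠ 0 := Nat.cast_ne_zero.2 Nat.card_pos.ne'
  rw [D1H.sum_blockRank hM]
  apply Nat.cast_injective (R := ℂ)
  apply mul_left_cancel₀ hG0
  rw [KR.card_mul_blockRank_closed hM (B := Set.univ) (fun _ _ ψ _ => Set.mem_univ ψ)]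
  have h2 : ∀ x : G, ∑ᶠ χ ∈ (Set.univ : Set (IrrCharacter G)),
      pRegularPart p (χ : G → ℂ) x * (χ : G → ℂ) x⁻¹ =
      (Nat.card (Subgroup.centralizer ({x} : Set G)) : ℂ) *
        (if ¬ p ∣ orderOf x then (1 : ℂ) else 0) := by
    intro x
    rw [finsum_mem_univ, finsum_eq_sum_of_fintype]
    by_cases hx : p ∣ orderOf x
    · rw [if_neg (not_not.2 hx), mul_zero]
      apply Finset.sum_eq_zero
      intro χ _
      rw [pRegularPart_of_dvd _ hx, zero_mul]
    · rw [if_pos hx, mul_one]
      have h3 := column_orthogonality x x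
      have h4 : classIndicator x x = 1 := by
        unfold classIndicator
        rw [if_pos (IsConj.refl x)]
      rw [h4, mul_one] at h3
      rw [← h3]
      refine Finset.sum_congr rfl fun χ _ => ?_
      rw [pRegularPart_of_not_dvd _ hx,
        Cfsg.Agent.Lib.Helper4.isCharacter_inv (Cfsg.Agent.Lib.Helper4.isCharacter_of_irr χ.2)]
  rw [Finset.sum_congr rfl (fun x _ => h2 x)]
  rw [D1H.sum_card_centralizer_mul (fun x => if ¬ p ∣ orderOf x then (1 : ℂ) else 0)
    (fun x y h => by rw [D1H.orderOf_eq_of_isConj h])]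
  congr 1
  rw [Finset.sum_boole, Nat.card_eq_fintype_card, Fintype.card_subtype]
  congr 1
  apply Finset.card_bij (fun c _ => c)
  · intro c hc
    rw [Finset.mem_filter] at hc ⊢
    exact ⟨Finset.mem_univ _, hc.2⟩
  · intro c _ c' _ h
    exact h
  · intro c hc
    rw [Finset.mem_filter] at hc
    exact ⟨c, Finset.mem_filter.2 ⟨Finset.mem_univ _, hc.2⟩, rfl⟩

variable {x : G} {C : Subgroup G} [Fintype C]

open Classical in
/-- the chain of inequalities of the global count is a chain of equalities -/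
theorem d1_global_card (base : D1Base p M x C) (hNC : mrN x ≤ Subgroup.normalizer (C : Set G))
    (bF : Set (IrrCharacter G) → Set (IrrCharacter C))
    (θF : Set (IrrCharacter G) → IrrCharacter C)
    (hF : ∀ B, IsPBlock M B → IsDefectGroup p M B (Subgroup.zpowers x) →
      D1Ctx p M x C (bF B) B (θF B))
    (R : Finset G) (hR : ∀ g : G, ¬ p ∣ orderOf g → ∃ r ∈ R, IsConj g r)
    (hRcard : R.card = ∑ B ∈ blocksFinset M G, blockRank p B)
    (h0rank : ∀ B ∈ blocksFinset M G, blockDefect p B = 0 → blockRank p B = 1)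
    (h0card : ((blocksFinset M G).filter (fun B => blockDefect p B = 0)).card ≤
      Nat.card {χ : IrrCharacter G // MemLocalRing M ((χ : G → ℂ) 1 / (Fintype.card G : ℂ))})
    (hdich : ∀ B, IsPBlock M B → blockDefect p B = 0 ∨
      IsDefectGroup p M B (Subgroup.zpowers x)) :
    R.card = Nat.card {χ : IrrCharacter G //
        MemLocalRing M ((χ : G → ℂ) 1 / (Fintype.card G : ℂ))} +
      Nat.card (IrrCharacter (mrN x ⧸ mrP' x)) := by
  classical
  have hp : p.Prime := Fact.out
  set S0 := (blocksFinset M G).filter (fun B => blockDefect p B = 0) with hS0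
  set S1 := (blocksFinset M G).filter (fun B => IsDefectGroup p M B (Subgroup.zpowers x)) with hS1
  have hmem1 : ∀ B, B ∈ S1 ↔ IsPBlock M B ∧ IsDefectGroup p M B (Subgroup.zpowers x) := by
    intro B
    rw [hS1, Finset.mem_filter, mem_blocksFinset]
  have hdisj : Disjoint S0 S1 := by
    rw [Finset.disjoint_left]
    intro B h0 h1
    rw [hS0, Finset.mem_filter] at h0
    rw [hmem1] at h1
    have hcard := card_of_isDefectGroup base.hM h1.1 h1.2
    rw [d1_card_zpowers base.hx, h0.2, pow_zero] at hcard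
    exact hp.one_lt.ne' hcard
  have hunion : blocksFinset M G = S0 ∪ S1 := by
    ext B
    rw [Finset.mem_union, hS0, hS1, Finset.mem_filter, Finset.mem_filter]
    constructor
    · intro hB
      rcases hdich B ((mem_blocksFinset B).1 hB) with h | h
      · exact Or.inl ⟨hB, h⟩
      · exact Or.inr ⟨hB, h⟩
    · rintro (h | h) <;> exact h.1
  have hle : ∀ B ∈ S1, blockRank p B ≤ C.relIndex (d1Stab x C hNC (θF B)) := by
    intro B hB
    rw [hmem1] at hB
    have ctx := hF B hB.1 hB.2
    have h1 := ctx.blockRank_add_le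
    have h2 := ctx.card_B_le
    rw [← ctx.e_eq hNC]
    omega
  have hcliff : ∑ B ∈ S1, C.relIndex (d1Stab x C hNC (θF B)) ≤
      Nat.card (IrrCharacter (mrN x ⧸ mrP' x)) := by
    have hCn : (C.subgroupOf (mrN x)).Normal :=
      (Subgroup.normal_subgroupOf_iff_le_normalizer base.hCN).2 hNC
    have hPn : ((Subgroup.zpowers x).subgroupOf (mrN x)).Normal :=
      (Subgroup.normal_subgroupOf_iff_le_normalizer Subgroup.le_normalizer).2 le_rfl
    have hcyc := Cfsg.Agent.Lib.Helper6.isCyclic_normalizer_quot_centralizer p base.hx C base.hC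
    have hinj : ∀ B₁ ∈ S1, ∀ B₂ ∈ S1, θF B₁ = θF B₂ → B₁ = B₂ := by
      intro B₁ h₁ B₂ h₂ h
      rw [hmem1] at h₁ h₂
      have ctx₁ := hF B₁ h₁.1 h₁.2
      have ctx₂ := hF B₂ h₂.1 h₂.2
      have h' : θF B₁ = conjIrr C 1 (ctx₂.hNC (Subgroup.one_mem _)) (θF B₂) := by
        rw [conjIrr_one, h]
      exact ctx₂.block_eq_of_conj ctx₁ (Subgroup.one_mem _) h'
    have h1 := Cfsg.Agent.Lib.Helper6.clifford_count_le (Subgroup.zpowers x) C (mrN x) base.hPC
      base.hCN hcyc (S1.image θF) ?_ (fun θ => d1Stab x C hNC θ) ?_ ?_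
    · rw [Finset.sum_image hinj] at h1
      exact h1
    · intro θ hθ c hc
      obtain ⟨B, hB, rfl⟩ := Finset.mem_image.1 hθ
      rw [hmem1] at hB
      exact (hF B hB.1 hB.2).hθP c hc
    · intro θ _ g
      exact mem_d1Stab_iff hNC θ g
    · intro θ₁ hθ₁ θ₂ hθ₂ g hg hconj
      obtain ⟨B₁, hB₁, rfl⟩ := Finset.mem_image.1 hθ₁
      obtain ⟨B₂, hB₂, rfl⟩ := Finset.mem_image.1 hθ₂
      have hB₁' := (hmem1 B₁).1 hB₁
      have hB₂' := (hmem1 B₂).1 hB₂
      have ctx₁ := hF B₁ hB₁'.1 hB₁'.2
      have ctx₂ := hF B₂ hB₂'.1 hB₂'.2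
      have h' : θF B₂ = conjIrr C g (ctx₁.hNC hg) (θF B₁) :=
        (conjIrr_eq_iff' C g (ctx₁.hNC hg) (θF B₁) (θF B₂)).2 hconj
      have := ctx₁.block_eq_of_conj ctx₂ hg h'
      rw [this]
  have hphase1 := mr_count_char p base.hM base.hx base.hsq R hR
  have hsplit : R.card = S0.card + ∑ B ∈ S1, blockRank p B := by
    rw [hRcard, hunion, Finset.sum_union hdisj]
    congr 1
    rw [Finset.card_eq_sum_ones]
    refine Finset.sum_congr rfl fun B hB => ?_
    rw [hS0, Finset.mem_filter] at hB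
    exact h0rank B hB.1 hB.2
  have hsumle : ∑ B ∈ S1, blockRank p B ≤ ∑ B ∈ S1, C.relIndex (d1Stab x C hNC (θF B)) :=
    Finset.sum_le_sum hle
  omega

/-- **The number of `p`-regular classes** of a group whose order is divisible by `p` exactly
once. -/
theorem D1Base.card_regular (base : D1Base p M x C) :
    Nat.card {c : ConjClasses G // d1reg p c} =
      Nat.card {χ : IrrCharacter G //
        MemLocalRing M ((χ : G → ℂ) 1 / (Fintype.card G : ℂ))} +
      Nat.card (IrrCharacter (mrN x ⧸ mrP' x)) := by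
  classical
  have hNC : mrN x ≤ Subgroup.normalizer (C : Set G) := by
    intro n hn
    apply Subgroup.mem_normalizer_fintype
    intro t ht
    rw [SetLike.mem_coe, base.hC] at ht ⊢
    have h1 : n⁻¹ * x * n ∈ Subgroup.zpowers x := by
      have := (Subgroup.mem_normalizer_iff.1 (Subgroup.inv_mem _ hn) x).1 (Subgroup.mem_zpowers x)
      simpa using this
    obtain ⟨i, hi⟩ := Subgroup.mem_zpowers_iff.1 h1
    have h2 : t * (x ^ i) = (x ^ i) * t := (Commute.zpow_right (show Commute t x from ht) i).eq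
    have h3 : x = n * x ^ i * n⁻¹ := by
      rw [hi]
      group
    calc n * t * n⁻¹ * x = n * t * n⁻¹ * (n * x ^ i * n⁻¹) := by rw [← h3]
      _ = n * (t * x ^ i) * n⁻¹ := by group
      _ = n * (x ^ i * t) * n⁻¹ := by rw [h2]
      _ = (n * x ^ i * n⁻¹) * (n * t * n⁻¹) := by group
      _ = x * (n * t * n⁻¹) := by rw [← h3]
  have hex : ∀ B' : Set (IrrCharacter G), ∃ bθ : Set (IrrCharacter C) × IrrCharacter C,
      IsPBlock M B' → IsDefectGroup p M B' (Subgroup.zpowers x) →
        D1Ctx p M x C bθ.1 B' bθ.2 := by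
    intro B'
    by_cases h : IsPBlock M B' ∧ IsDefectGroup p M B' (Subgroup.zpowers x)
    · obtain ⟨b', θ', c'⟩ := base.exists_ctx h.1 h.2
      exact ⟨(b', θ'), fun _ _ => c'⟩
    · exact ⟨(∅, trivIrr C), fun h1 h2 => absurd ⟨h1, h2⟩ h⟩
  choose F hF using hex
  obtain ⟨R, hR, hRcard⟩ := d1h_exists_reps (G := G) base.hM
  obtain ⟨h0rank, h0card⟩ := d1h_defect_zero (G := G) base.hM
  have hdich : ∀ B', IsPBlock M B' → blockDefect p B' = 0 ∨
      IsDefectGroup p M B' (Subgroup.zpowers x) :=
    fun B' hB' => d1h_defect_zero_or base.hM base.hx base.hsq hB'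
  have := d1_global_card base hNC (fun B' => (F B').1) (fun B' => (F B').2) hF R hR hRcard
    h0rank h0card hdich
  rw [← this, hRcard, d1_sum_blockRank_eq base.hM]

end

end Cfsg.Agent.Lib.Helper8
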