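import Mathlib
import Cfsg.Prelude.Def_Blocks
import Cfsg.Prelude.Def_BlockRank
import Cfsg.Agent.Lib.Helper8.DO19
import Cfsg.Agent.Lib.Helper8.DO22

/-!
# Blocks of defect one: the conjugacy classes of the normalizer
-/

set_option autoImplicit false
set_option maxHeartbeats 800000
set_option linter.unusedSectionVars false

namespace Cfsg.Agent.Lib.Helper8

open Cfsg
open scoped ComplexConjugate
open Cfsg.Agent.Lib.Helper1 Cfsg.Agent.Lib.Helper4

universe u

section

variable {G : Type u} [Group G] [Fintype G] {p : ℕ} [Fact p.Prime]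

/-- a `p`-element normalizing `⟨x⟩` lies in `⟨x⟩` -/
theorem d1_mem_zpowers_of_mem_normalizer {x : G} (hx : orderOf x = p)
    (hsq : ¬ p ^ 2 ∣ Nat.card G) {w : G} (hw : w ∈ mrN x) (hwp : ∃ k : ℕ, orderOf w = p ^ k) :
    w ∈ Subgroup.zpowers x := by
  have hp : p.Prime := Fact.out
  have hcH : Nat.card (Subgroup.zpowers x) = p := by rw [Nat.card_zpowers, hx]
  have hH : IsPGroup p (Subgroup.zpowers x) := IsPGroup.of_card (n := 1) (by rw [hcH, pow_one])
  obtain ⟨k, hk⟩ := hwp
  have hK : IsPGroup p (Subgroup.zpowers w) :=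
    IsPGroup.of_card (n := k) (by rw [Nat.card_zpowers, hk])
  have hle : Subgroup.zpowers w ≤ Subgroup.normalizer ((Subgroup.zpowers x : Subgroup G) : Set G) := by
    rw [Subgroup.zpowers_le]
    exact hw
  have hsup := IsPGroup.to_sup_of_normal_left' hH hK hle
  obtain ⟨n, hn⟩ := hsup.exists_card_eq
  have hdvd : p ^ n ∣ Nat.card G := hn ▸ Subgroup.card_subgroup_dvd_card _
  have hn1 : n ≤ 1 := by
    by_contra h
    have h2 : 2 ≤ n := by omega
    exact hsq ((pow_dvd_pow p h2).trans hdvd)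
  have hcard : Nat.card (Subgroup.zpowers x ⊔ Subgroup.zpowers w : Subgroup G) ≤
      Nat.card (Subgroup.zpowers x) := by
    rw [hn, hcH]
    calc p ^ n ≤ p ^ 1 := Nat.pow_le_pow_right hp.pos hn1
      _ = p := pow_one p
  have heq : Subgroup.zpowers x = Subgroup.zpowers x ⊔ Subgroup.zpowers w :=
    Subgroup.eq_of_le_of_card_ge le_sup_left hcard
  rw [heq]
  exact (le_sup_right : Subgroup.zpowers w ≤ _) (Subgroup.mem_zpowers w)

/-- an element commuting with `x` normalizes `⟨x⟩` -/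
theorem d1_comm_mem_normalizer {x y : G} (h : y * x = x * y) : y ∈ mrN x := by
  apply Subgroup.mem_normalizer_fintype
  intro n hn
  obtain ⟨i, rfl⟩ := Subgroup.mem_zpowers_iff.1 hn
  have hc : Commute y (x ^ i) := Commute.zpow_right (show Commute y x from h) i
  have : y * x ^ i * y⁻¹ = x ^ i := by
    rw [hc.eq, mul_inv_cancel_right]
  rw [this]
  exact Subgroup.zpow_mem_zpowers x i

/-- a `p`-singular element of the normalizer has a non-identity power in `⟨x⟩` -/
theorem d1_exists_pow_mem {x : G} (hx : orderOf x = p) (hsq : ¬ p ^ 2 ∣ Nat.card G) {h : G}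
    (hh : h ∈ mrN x) (hp' : p ∣ orderOf h) :
    h ^ (orderOf h / p) ∈ Subgroup.zpowers x ∧ h ^ (orderOf h / p) ≠ 1 := by
  have hp : p.Prime := Fact.out
  have hwo : orderOf (h ^ (orderOf h / p)) = p :=
    orderOf_pow_orderOf_div (orderOf_pos h).ne' hp'
  refine ⟨d1_mem_zpowers_of_mem_normalizer hx hsq (Subgroup.pow_mem _ hh _)
    ⟨1, by rw [hwo, pow_one]⟩, ?_⟩
  intro h1
  rw [h1, orderOf_one] at hwo
  exact hp.one_lt.ne hwo

/-- `p`-regular elements of the normalizer congruent modulo `⟨x⟩` are conjugate under `⟨x⟩` -/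
theorem d1_conj_of_mul_mem {x h₂ u : G} (hx : orderOf x = p) (hh₂ : h₂ ∈ mrN x)
    (hu : u ∈ Subgroup.zpowers x) (hreg₂ : ¬ p ∣ orderOf h₂) (hreg : ¬ p ∣ orderOf (h₂ * u)) :
    ∃ v ∈ Subgroup.zpowers x, v * h₂ * v⁻¹ = h₂ * u := by
  classical
  have hp : p.Prime := Fact.out
  by_cases hcomm : h₂ * x = x * h₂
  · -- `h₂` centralizes `⟨x⟩`: then `u = 1`
    have hcu : Commute h₂ u := by
      obtain ⟨i, rfl⟩ := Subgroup.mem_zpowers_iff.1 hu
      exact Commute.zpow_right hcomm i
    have hu1 : u = 1 := by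
      by_contra hne
      have huo : orderOf u = p := by
        have h1 : orderOf u ∣ p := by
          rw [← hx]
          obtain ⟨i, rfl⟩ := Subgroup.mem_zpowers_iff.1 hu
          exact orderOf_dvd_of_pow_eq_one (by
            rw [← zpow_natCast, ← zpow_mul, mul_comm, zpow_mul, zpow_natCast, pow_orderOf_eq_one,
              one_zpow])
        rcases (Nat.dvd_prime hp).1 h1 with h | h
        · exact absurd (orderOf_eq_one_iff.1 h) hne
        · exact h
      have hcop : (orderOf u).Coprime (orderOf h₂) := by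
        rw [huo]
        exact (Nat.Prime.coprime_iff_not_dvd hp).2 hreg₂
      have h2 : (h₂ * u) ^ orderOf h₂ = u ^ orderOf h₂ := by
        rw [hcu.mul_pow, pow_orderOf_eq_one, one_mul]
      have h3 : orderOf (u ^ orderOf h₂) = p := by
        rw [Nat.Coprime.orderOf_pow hcop, huo]
      have h4 : orderOf ((h₂ * u) ^ orderOf h₂) ∣ orderOf (h₂ * u) := orderOf_pow_dvd _
      rw [h2, h3] at h4
      exact hreg h4
    exact ⟨1, Subgroup.one_mem _, by rw [hu1]; group⟩
  · -- `h₂` acts without fixed points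
    have hmap : ∀ v : Subgroup.zpowers x, h₂⁻¹ * (v : G) * h₂ * (v : G)⁻¹ ∈ Subgroup.zpowers x := by
      intro v
      have h1 : h₂⁻¹ * (v : G) * h₂ ∈ Subgroup.zpowers x := by
        have := (Subgroup.mem_normalizer_iff.1 (Subgroup.inv_mem _ hh₂) (v : G)).1 v.2
        simpa using this
      exact Subgroup.mul_mem _ h1 (Subgroup.inv_mem _ v.2)
    set ψ : Subgroup.zpowers x → Subgroup.zpowers x :=
      fun v => ⟨h₂⁻¹ * (v : G) * h₂ * (v : G)⁻¹, hmap v⟩ with hψ
    have hfin : Finite (Subgroup.zpowers x) := inferInstance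
    have hinj : Function.Injective ψ := by
      intro v v' hvv
      have h1 : h₂⁻¹ * (v : G) * h₂ * (v : G)⁻¹ = h₂⁻¹ * (v' : G) * h₂ * (v' : G)⁻¹ :=
        congrArg Subtype.val hvv
      -- `v'⁻¹ v` commutes with `h₂`
      have hab : ∀ a b : Subgroup.zpowers x, (a : G) * (b : G) = (b : G) * (a : G) := by
        intro a b
        obtain ⟨i, hi⟩ := Subgroup.mem_zpowers_iff.1 a.2
        obtain ⟨j, hj⟩ := Subgroup.mem_zpowers_iff.1 b.2
        rw [← hi, ← hj, ← zpow_add, ← zpow_add, add_comm]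
      have h2 : h₂ * ((v' : G)⁻¹ * (v : G)) = ((v' : G)⁻¹ * (v : G)) * h₂ := by
        have e1 : (v : G) * h₂ * (v : G)⁻¹ = (v' : G) * h₂ * (v' : G)⁻¹ := by
          have := congrArg (fun t => h₂ * t) h1
          simpa [mul_assoc] using this
        calc h₂ * ((v' : G)⁻¹ * (v : G))
            = (v' : G)⁻¹ * ((v' : G) * h₂ * (v' : G)⁻¹) * (v : G) := by group
          _ = (v' : G)⁻¹ * ((v : G) * h₂ * (v : G)⁻¹) * (v : G) := by rw [e1]
          _ = ((v' : G)⁻¹ * (v : G)) * h₂ := by group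
      by_contra hne
      have hw : (v' : G)⁻¹ * (v : G) ∈ Subgroup.zpowers x :=
        Subgroup.mul_mem _ (Subgroup.inv_mem _ v'.2) v.2
      have hw1 : (v' : G)⁻¹ * (v : G) ≠ 1 := by
        intro h
        apply hne
        apply Subtype.ext
        have := congrArg (fun t => (v' : G) * t) h
        simpa using this
      exact hcomm ((d1_comm_iff hx hw hw1 h₂).1 h2)
    have hsurj : Function.Surjective ψ := Finite.injective_iff_surjective.1 hinj
    obtain ⟨v, hv⟩ := hsurj ⟨u, hu⟩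
    refine ⟨(v : G), v.2, ?_⟩
    have h1 : h₂⁻¹ * (v : G) * h₂ * (v : G)⁻¹ = u := congrArg Subtype.val hv
    rw [← h1]
    group

end

section

variable {G : Type u} [Group G] [Fintype G] {p : ℕ} [Fact p.Prime]

/-- the classes of `p`-singular elements of the normalizer and of the group correspond -/
theorem d1_card_singular_normalizer {x : G} (hx : orderOf x = p) (hsq : ¬ p ^ 2 ∣ Nat.card G) :
    Nat.card {c : ConjClasses (mrN x) // ¬ d1reg p c} =
      Nat.card {c : ConjClasses G // ¬ d1reg p c} := by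
  classical
  have hmap : ∀ c : {c : ConjClasses (mrN x) // ¬ d1reg p c},
      ¬ d1reg p (ConjClasses.map (mrN x).subtype c.1) := by
    rintro ⟨c, hc⟩
    obtain ⟨h, rfl⟩ := ConjClasses.mk_surjective c
    rw [d1reg_mk] at hc
    show ¬ d1reg p (ConjClasses.mk ((mrN x).subtype h))
    rw [d1reg_mk]
    rw [Subgroup.coe_subtype, Subgroup.orderOf_coe]
    exact hc
  apply Nat.card_congr
  apply Equiv.ofBijective (fun c => ⟨ConjClasses.map (mrN x).subtype c.1, hmap c⟩)
  constructor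
  · rintro ⟨c₁, hc₁⟩ ⟨c₂, hc₂⟩ heq
    obtain ⟨h₁, rfl⟩ := ConjClasses.mk_surjective c₁
    obtain ⟨h₂, rfl⟩ := ConjClasses.mk_surjective c₂
    rw [d1reg_mk, not_not] at hc₁ hc₂
    have h1 : ConjClasses.mk (h₁ : G) = ConjClasses.mk (h₂ : G) := congrArg Subtype.val heq
    rw [ConjClasses.mk_eq_mk_iff_isConj, isConj_iff] at h1
    obtain ⟨g, hg⟩ := h1
    apply Subtype.ext
    show ConjClasses.mk h₁ = ConjClasses.mk h₂
    rw [ConjClasses.mk_eq_mk_iff_isConj, isConj_iff]
    have hc₁' : p ∣ orderOf (h₁ : G) := by rwa [Subgroup.orderOf_coe]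
    obtain ⟨hw, hw1⟩ := d1_exists_pow_mem hx hsq h₁.2 hc₁'
    have hord : orderOf (h₂ : G) = orderOf (h₁ : G) := by
      rw [← hg]
      have := d1_orderOf_conj g⁻¹ (h₁ : G)
      rwa [inv_inv] at this
    have hc₂' : p ∣ orderOf (h₂ : G) := by rw [hord]; exact hc₁'
    obtain ⟨hw', -⟩ := d1_exists_pow_mem hx hsq h₂.2 hc₂'
    have hgw : g * (h₁ : G) ^ (orderOf (h₁ : G) / p) * g⁻¹ ∈ Subgroup.zpowers x := by
      have : g * (h₁ : G) ^ (orderOf (h₁ : G) / p) * g⁻¹ = (h₂ : G) ^ (orderOf (h₂ : G) / p) := by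
        rw [hord, ← hg, conj_pow]
      rw [this]
      exact hw'
    have hginv : g⁻¹ ∈ mrN x := by
      apply d1_mem_normalizer hx hw hw1
      rw [inv_inv]
      exact hgw
    have hgN : g ∈ mrN x := by
      have := Subgroup.inv_mem _ hginv
      rwa [inv_inv] at this
    refine ⟨⟨g, hgN⟩, ?_⟩
    apply Subtype.ext
    push_cast
    exact hg
  · rintro ⟨c, hc⟩
    obtain ⟨g, rfl⟩ := ConjClasses.mk_surjective c
    rw [d1reg_mk, not_not] at hc
    obtain ⟨t, u, y, h1, hu, hu1, hyx, hyp⟩ := d1_exists_conj_decomp hx hsq hc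
    have huN : u ∈ mrN x := Subgroup.le_normalizer hu
    have hyN : y ∈ mrN x := d1_comm_mem_normalizer hyx
    have hconj : IsConj g (u * y) := by
      rw [isConj_iff]
      exact ⟨t, h1⟩
    refine ⟨⟨ConjClasses.mk (⟨u * y, Subgroup.mul_mem _ huN hyN⟩ : mrN x), ?_⟩, ?_⟩
    · rw [d1reg_mk, not_not, ← Subgroup.orderOf_coe]
      show p ∣ orderOf (u * y)
      rw [← D1H.orderOf_eq_of_isConj hconj]
      exact hc
    · apply Subtype.ext
      show ConjClasses.mk (u * y) = ConjClasses.mk g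
      rw [ConjClasses.mk_eq_mk_iff_isConj]
      exact hconj.symm

/-- the classes of `p`-regular elements of the normalizer correspond to the classes of the
quotient by `⟨x⟩` -/
theorem d1_card_regular_normalizer {x : G} (hx : orderOf x = p) (hsq : ¬ p ^ 2 ∣ Nat.card G) :
    Nat.card {c : ConjClasses (mrN x) // d1reg p c} =
      Nat.card (ConjClasses (mrN x ⧸ mrP' x)) := by
  classical
  apply Nat.card_congr
  apply Equiv.ofBijective
    (fun c : {c : ConjClasses (mrN x) // d1reg p c} =>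
      ConjClasses.map (QuotientGroup.mk' (mrP' x)) c.1)
  constructor
  · rintro ⟨c₁, hc₁⟩ ⟨c₂, hc₂⟩ heq
    obtain ⟨h₁, rfl⟩ := ConjClasses.mk_surjective c₁
    obtain ⟨h₂, rfl⟩ := ConjClasses.mk_surjective c₂
    rw [d1reg_mk] at hc₁ hc₂
    have h1 : ConjClasses.mk (QuotientGroup.mk' (mrP' x) h₁) =
        ConjClasses.mk (QuotientGroup.mk' (mrP' x) h₂) := heq
    rw [ConjClasses.mk_eq_mk_iff_isConj, isConj_iff] at h1
    obtain ⟨q, hq⟩ := h1
    obtain ⟨n, rfl⟩ := QuotientGroup.mk'_surjective (mrP' x) q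
    rw [← map_mul, ← map_inv, ← map_mul, QuotientGroup.mk'_apply, QuotientGroup.mk'_apply,
      QuotientGroup.eq] at hq
    -- `h := n h₁ n⁻¹ = h₂ u`... in the form `(n h₁ n⁻¹)⁻¹ h₂ ∈ ⟨x⟩`
    rw [Subgroup.mem_subgroupOf] at hq
    set h : mrN x := n * h₁ * n⁻¹ with hh
    have hu : ((h₂ : G))⁻¹ * (h : G) ∈ Subgroup.zpowers x := by
      have := Subgroup.inv_mem _ hq
      simpa [mul_assoc] using this
    have hreg : ¬ p ∣ orderOf ((h₂ : G) * (((h₂ : G))⁻¹ * (h : G))) := by
      rw [mul_inv_cancel_left, Subgroup.orderOf_coe, hh]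
      have := d1_orderOf_conj n⁻¹ h₁
      rw [inv_inv] at this
      rw [this]
      exact hc₁
    have hreg₂ : ¬ p ∣ orderOf (h₂ : G) := by rwa [Subgroup.orderOf_coe]
    obtain ⟨v, hv, hv'⟩ := d1_conj_of_mul_mem hx h₂.2 hu hreg₂ hreg
    rw [mul_inv_cancel_left] at hv'
    apply Subtype.ext
    show ConjClasses.mk h₁ = ConjClasses.mk h₂
    rw [ConjClasses.mk_eq_mk_iff_isConj, isConj_iff]
    have hvN : v ∈ mrN x := Subgroup.le_normalizer hv
    refine ⟨(⟨v, hvN⟩ : mrN x)⁻¹ * n, ?_⟩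
    apply Subtype.ext
    have e1 : ((h : mrN x) : G) = (n : G) * (h₁ : G) * (n : G)⁻¹ := by
      rw [hh]
      push_cast
      rfl
    have e2 : (v)⁻¹ * ((n : G) * (h₁ : G) * (n : G)⁻¹) * v = (h₂ : G) := by
      rw [← e1, ← hv']
      group
    push_cast
    rw [← e2]
    group
  · intro c
    obtain ⟨q, rfl⟩ := ConjClasses.mk_surjective c
    obtain ⟨h, rfl⟩ := QuotientGroup.mk'_surjective (mrP' x) q
    obtain ⟨u, w, huw, -, ⟨m, hm⟩, hw⟩ := exists_pPart_decomp p h
    have hu : u ∈ mrP' x := by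
      rw [Subgroup.mem_subgroupOf]
      apply d1_mem_zpowers_of_mem_normalizer hx hsq u.2
      have h1 : orderOf (u : G) ∣ p ^ m := by
        rw [Subgroup.orderOf_coe]
        exact orderOf_dvd_of_pow_eq_one hm
      obtain ⟨k, -, hk⟩ := (Nat.dvd_prime_pow (Fact.out : p.Prime)).1 h1
      exact ⟨k, hk⟩
    refine ⟨⟨ConjClasses.mk w, (d1reg_mk p w).2 hw⟩, ?_⟩
    show ConjClasses.mk (QuotientGroup.mk' (mrP' x) w) = ConjClasses.mk (QuotientGroup.mk' (mrP' x) h)
    congr 1
    have h1 : (QuotientGroup.mk' (mrP' x)) u = 1 := by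
      rw [QuotientGroup.mk'_apply]
      exact (QuotientGroup.eq_one_iff u).2 hu
    rw [huw, map_mul, h1, one_mul]

/-- the class number of the normalizer -/
theorem d1_card_conjClasses_normalizer {x : G} (hx : orderOf x = p)
    (hsq : ¬ p ^ 2 ∣ Nat.card G) :
    Nat.card (ConjClasses (mrN x)) = Nat.card (ConjClasses (mrN x ⧸ mrP' x)) +
      Nat.card {c : ConjClasses G // ¬ d1reg p c} := by
  classical
  rw [← d1_card_regular_normalizer hx hsq, ← d1_card_singular_normalizer hx hsq,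
    ← Nat.card_sum]
  exact Nat.card_congr (Equiv.sumCompl (fun c : ConjClasses (mrN x) => d1reg p c)).symm

end

end Cfsg.Agent.Lib.Helper8
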