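import Mathlib
import Cfsg.Prelude.Def_GeometricClasses

set_option autoImplicit false
open scoped MatrixGroups

/-!
# PKG-I1 (helper9's C6 cluster): subgroups of order 5 in a subgroup of `GL_4(p)`,
`p` of order 4 mod 5, are conjugate.
-/

namespace Cfsg.Agent.Lib.C6Pk

section prep

variable {F : Type*} [Field F] [Fintype F] {p : ℕ} {ι : Type} [Fintype ι] [DecidableEq ι]

theorem four_dvd_of_pow_modEq (h5 : orderOf (p : ZMod 5) = 4) {a : ℕ} (h : p ^ a ≡ 1 [MOD 5]) :
    4 ∣ a := by
  have h1 : ((p ^ a : ℕ) : ZMod 5) = ((1 : ℕ) : ZMod 5) := (ZMod.natCast_eq_natCast_iff _ _ 5).mpr h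
  push_cast at h1
  rw [← h5]
  exact orderOf_dvd_of_pow_eq_one h1

/-- the fixed vectors of `M` in an invariant subspace -/
theorem card_modEq_fix (M : Matrix ι ι F) (hM5 : M ^ 5 = 1) (W : Submodule F (ι → F))
    (hW : ∀ w ∈ W, M.mulVec w ∈ W) :
    Nat.card ↥W ≡ Nat.card ↥(W ⊓ LinearMap.ker (Matrix.toLin' M - 1)) [MOD 5] := by
  classical
  have : Fact (Nat.Prime 5) := ⟨by norm_num⟩
  let f : Function.End ↥W := fun w => ⟨M.mulVec w.1, hW w.1 w.2⟩
  have hpow : ∀ n : ℕ, ∀ w : ↥W, ((f ^ n) w : ι → F) = (M ^ n).mulVec w.1 := by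
    intro n
    induction n with
    | zero =>
      intro w
      rw [pow_zero, pow_zero]
      show (w : ι → F) = (1 : Matrix ι ι F).mulVec w.1
      simp
    | succ n ih =>
      intro w
      rw [pow_succ']
      show M.mulVec ((f ^ n) w : ι → F) = _
      rw [ih w, Matrix.mulVec_mulVec, ← pow_succ']
  have hf5 : f ^ 5 ^ 1 = 1 := by
    funext w
    show (f ^ 5 ^ 1) w = w
    apply Subtype.ext
    rw [pow_one, hpow 5 w, hM5]
    simp
  have key := Equiv.Perm.card_fixedPoints_modEq (p := 5) (n := 1) hf5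
  have e : Fintype.card ↑(Function.fixedPoints f) =
      Nat.card ↥(W ⊓ LinearMap.ker (Matrix.toLin' M - 1)) := by
    rw [← Nat.card_eq_fintype_card]
    apply Nat.card_congr
    refine
      { toFun := fun w => ⟨w.1.1, ⟨w.1.2, ?_⟩⟩
        invFun := fun v => ⟨⟨v.1, v.2.1⟩, ?_⟩
        left_inv := fun w => rfl
        right_inv := fun v => rfl }
    · have h := w.2
      rw [Function.mem_fixedPoints, Function.IsFixedPt] at h
      have h' : M.mulVec w.1.1 = w.1.1 := congrArg Subtype.val h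
      show w.1.1 ∈ LinearMap.ker (Matrix.toLin' M - 1)
      rw [LinearMap.mem_ker, LinearMap.sub_apply, Matrix.toLin'_apply, h']
      simp
    · have h : v.1 ∈ LinearMap.ker (Matrix.toLin' M - 1) := v.2.2
      rw [LinearMap.mem_ker, LinearMap.sub_apply, Matrix.toLin'_apply] at h
      rw [Function.mem_fixedPoints, Function.IsFixedPt]
      apply Subtype.ext
      show M.mulVec v.1 = v.1
      have h2 : M.mulVec v.1 - v.1 = 0 := by simpa using h
      exact sub_eq_zero.mp h2
  rw [Nat.card_eq_fintype_card, ← e]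
  exact key

theorem natCard_submodule (hF : Fintype.card F = p) (W : Submodule F (ι → F)) :
    Nat.card ↥W = p ^ Module.finrank F ↥W := by
  classical
  rw [Nat.card_eq_fintype_card, Module.card_eq_pow_finrank (K := F) (V := ↥W), hF]

/-- an element of order 5 has no nonzero fixed vector -/
theorem ker_eq_bot_of_order5 (hF : Fintype.card F = p) (h5 : orderOf (p : ZMod 5) = 4)
    (hι : Fintype.card ι = 4) (M : Matrix ι ι F) (hM5 : M ^ 5 = 1) (hM1 : M ≠ 1) :
    LinearMap.ker (Matrix.toLin' M - 1) = ⊥ := by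
  have h1 := card_modEq_fix M hM5 ⊤ (fun w _ => Submodule.mem_top)
  rw [natCard_submodule hF, natCard_submodule hF, top_inf_eq, finrank_top,
    Module.finrank_fintype_fun_eq_card, hι] at h1
  have h4 : p ^ 4 ≡ 1 [MOD 5] := by
    have : ((p ^ 4 : ℕ) : ZMod 5) = ((1 : ℕ) : ZMod 5) := by
      push_cast
      rw [← h5]; exact pow_orderOf_eq_one _
    exact (ZMod.natCast_eq_natCast_iff _ _ 5).mp this
  have h2 := four_dvd_of_pow_modEq h5 (h1.symm.trans h4)
  set K := LinearMap.ker (Matrix.toLin' M - 1) with hK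
  have hle : Module.finrank F ↥K ≤ 4 := by
    have := Submodule.finrank_le K
    rw [Module.finrank_fintype_fun_eq_card, hι] at this
    exact this
  obtain ⟨c, hc⟩ := h2
  have hc01 : c = 0 ∨ c = 1 := by omega
  rcases hc01 with rfl | rfl
  · exact Submodule.finrank_eq_zero.mp (by omega)
  · exfalso
    have htop : K = ⊤ := by
      apply Submodule.eq_top_of_finrank_eq
      rw [Module.finrank_fintype_fun_eq_card, hι]; omega
    apply hM1
    have : Matrix.toLin' M = 1 := by
      apply LinearMap.ext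
      intro v
      have hv : v ∈ K := by rw [htop]; trivial
      rw [hK, LinearMap.mem_ker, LinearMap.sub_apply] at hv
      exact sub_eq_zero.mp hv
    apply Matrix.toLin'.injective
    rw [this]
    exact Matrix.toLin'_one.symm

/-- invariant subspaces of an element of order 5 are trivial -/
theorem invariant_trivial (hF : Fintype.card F = p) (h5 : orderOf (p : ZMod 5) = 4)
    (hι : Fintype.card ι = 4) (M : Matrix ι ι F) (hM5 : M ^ 5 = 1) (hM1 : M ≠ 1)
    (W : Submodule F (ι → F)) (hW : ∀ w ∈ W, M.mulVec w ∈ W) : W = ⊥ ∨ W = ⊤ := by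
  have h1 := card_modEq_fix M hM5 W hW
  rw [ker_eq_bot_of_order5 hF h5 hι M hM5 hM1, inf_bot_eq, natCard_submodule hF,
    natCard_submodule hF, finrank_bot, pow_zero] at h1
  have h2 := four_dvd_of_pow_modEq h5 h1
  have hle : Module.finrank F ↥W ≤ 4 := by
    have := Submodule.finrank_le W
    rw [Module.finrank_fintype_fun_eq_card, hι] at this
    exact this
  obtain ⟨c, hc⟩ := h2
  have hc01 : c = 0 ∨ c = 1 := by omega
  rcases hc01 with rfl | rfl
  · left; exact Submodule.finrank_eq_zero.mp (by omega)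
  · right
    apply Submodule.eq_top_of_finrank_eq
    rw [Module.finrank_fintype_fun_eq_card, hι]; omega

end prep

section comm

variable {F : Type*} [Field F] [Fintype F] {p : ℕ} {ι : Type} [Fintype ι] [DecidableEq ι]

/-- the commutant of an element of order 5 has no zero divisors -/
theorem commutant_noZeroDivisors (hF : Fintype.card F = p) (h5 : orderOf (p : ZMod 5) = 4)
    (hι : Fintype.card ι = 4) (M : Matrix ι ι F) (hM5 : M ^ 5 = 1) (hM1 : M ≠ 1)
    (A B : Matrix ι ι F) (hA : M * A = A * M) (hAB : A * B = 0) : A = 0 ∨ B = 0 := by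
  by_cases hA0 : A = 0
  · exact Or.inl hA0
  right
  set W := LinearMap.ker (Matrix.toLin' A) with hW
  have hinv : ∀ w ∈ W, M.mulVec w ∈ W := by
    intro w hw
    rw [hW, LinearMap.mem_ker, Matrix.toLin'_apply] at hw ⊢
    rw [Matrix.mulVec_mulVec, ← hA, ← Matrix.mulVec_mulVec, hw, Matrix.mulVec_zero]
  rcases invariant_trivial hF h5 hι M hM5 hM1 W hinv with h | h
  · -- A injective
    have hinj : ∀ v, A.mulVec v = 0 → v = 0 := by
      intro v hv
      have : v ∈ W := by rw [hW, LinearMap.mem_ker, Matrix.toLin'_apply]; exact hv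
      rw [h] at this
      exact (Submodule.mem_bot F).mp this
    apply Matrix.toLin'.injective
    apply LinearMap.ext
    intro v
    rw [Matrix.toLin'_apply, map_zero, LinearMap.zero_apply]
    apply hinj
    rw [Matrix.mulVec_mulVec, hAB, Matrix.zero_mulVec]
  · exfalso
    apply hA0
    apply Matrix.toLin'.injective
    apply LinearMap.ext
    intro v
    have : v ∈ W := by rw [h]; trivial
    rw [hW, LinearMap.mem_ker] at this
    rw [this, map_zero, LinearMap.zero_apply]

/-- the commutant of an element of order 5 is commutative -/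
theorem commutant_comm (hF : Fintype.card F = p) (h5 : orderOf (p : ZMod 5) = 4)
    (hι : Fintype.card ι = 4) (M : Matrix ι ι F) (hM5 : M ^ 5 = 1) (hM1 : M ≠ 1)
    (A B : Matrix ι ι F) (hA : M * A = A * M) (hB : M * B = B * M) : A * B = B * A := by
  classical
  let C : Subring (Matrix ι ι F) := Subring.centralizer {M}
  have hmem : ∀ X : Matrix ι ι F, X ∈ C ↔ M * X = X * M := by
    intro X
    rw [Subring.mem_centralizer_iff]
    constructor
    · intro h; exact h M rfl
    · intro h g hg; rw [Set.mem_singleton_iff.mp hg]; exact h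
  have hnt : Nontrivial ↥C := by
    have hne : Nonempty ι := by
      rw [← Fintype.card_pos_iff, hι]; norm_num
    refine ⟨⟨0, 1, ?_⟩⟩
    intro h
    have := congrArg Subtype.val h
    exact zero_ne_one this
  have hnzd : NoZeroDivisors ↥C := by
    refine ⟨?_⟩
    intro X Y hXY
    have h1 : (X : Matrix ι ι F) * Y = 0 := by
      have := congrArg Subtype.val hXY
      simpa using this
    rcases commutant_noZeroDivisors hF h5 hι M hM5 hM1 X Y ((hmem X).mp X.2) h1 with h | h
    · left; exact Subtype.ext h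
    · right; exact Subtype.ext h
  have hdom : IsDomain ↥C := NoZeroDivisors.to_isDomain ↥C
  let _ : DivisionRing ↥C := Fintype.divisionRingOfIsDomain ↥C
  have hc := (littleWedderburn ↥C).mul_comm ⟨A, (hmem A).mpr hA⟩ ⟨B, (hmem B).mpr hB⟩
  exact congrArg Subtype.val hc

end comm

section roots

variable {F : Type*} [Field F] [Fintype F] {p : ℕ} {ι : Type} [Fintype ι] [DecidableEq ι]

/-- an element of order dividing 5 commuting with an element of order 5 is a power of it -/
theorem eq_pow_of_comm (hF : Fintype.card F = p) (h5 : orderOf (p : ZMod 5) = 4)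
    (hι : Fintype.card ι = 4) (z u : GL ι F) (hz5 : z ^ 5 = 1) (hz1 : z ≠ 1) (hu5 : u ^ 5 = 1)
    (hzu : z * u = u * z) : ∃ i : ℕ, u = z ^ i := by
  classical
  set M : Matrix ι ι F := (z : Matrix ι ι F) with hM
  set U : Matrix ι ι F := (u : Matrix ι ι F) with hU
  have hM5 : M ^ 5 = 1 := by
    rw [hM, ← Units.val_pow_eq_pow_val, hz5]; rfl
  have hU5 : U ^ 5 = 1 := by
    rw [hU, ← Units.val_pow_eq_pow_val, hu5]; rfl
  have hM1 : M ≠ 1 := by
    intro h
    apply hz1
    exact Units.ext h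
  have hMU : M * U = U * M := by
    have := congrArg (fun g : GL ι F => (g : Matrix ι ι F)) hzu
    simpa using this
  let C : Subring (Matrix ι ι F) := Subring.centralizer {M}
  have hmem : ∀ X : Matrix ι ι F, X ∈ C ↔ M * X = X * M := by
    intro X
    rw [Subring.mem_centralizer_iff]
    constructor
    · intro h; exact h M rfl
    · intro h g hg; rw [Set.mem_singleton_iff.mp hg]; exact h
  let _ : CommRing ↥C :=
    { (inferInstance : Ring ↥C) with
      mul_comm := fun X Y => Subtype.ext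
        (commutant_comm hF h5 hι M hM5 hM1 X Y ((hmem X).mp X.2) ((hmem Y).mp Y.2)) }
  have hnt : Nontrivial ↥C := by
    have hne : Nonempty ι := by
      rw [← Fintype.card_pos_iff, hι]; norm_num
    refine ⟨⟨0, 1, ?_⟩⟩
    intro h
    have := congrArg Subtype.val h
    exact zero_ne_one this
  have hnzd : NoZeroDivisors ↥C := by
    refine ⟨?_⟩
    intro X Y hXY
    have h1 : (X : Matrix ι ι F) * Y = 0 := by
      have := congrArg Subtype.val hXY
      simpa using this
    rcases commutant_noZeroDivisors hF h5 hι M hM5 hM1 X Y ((hmem X).mp X.2) h1 with h | h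
    · left; exact Subtype.ext h
    · right; exact Subtype.ext h
  have hdom : IsDomain ↥C := NoZeroDivisors.to_isDomain ↥C
  let ζ : ↥C := ⟨M, (hmem M).mpr rfl⟩
  let ξ : ↥C := ⟨U, (hmem U).mpr hMU⟩
  have hζ5 : ζ ^ 5 = 1 := Subtype.ext (by
    show (M : Matrix ι ι F) ^ 5 = 1
    exact hM5)
  have hξ5 : ξ ^ 5 = 1 := Subtype.ext (by
    show (U : Matrix ι ι F) ^ 5 = 1
    exact hU5)
  have hζ1 : ζ ≠ 1 := by
    intro h
    exact hM1 (congrArg Subtype.val h)
  have hord : orderOf ζ = 5 := by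
    have hd := orderOf_dvd_of_pow_eq_one hζ5
    rcases (Nat.dvd_prime (by norm_num : Nat.Prime 5)).mp hd with h | h
    · exact absurd (orderOf_eq_one_iff.mp h) hζ1
    · exact h
  have hprim : IsPrimitiveRoot ζ 5 := hord ▸ IsPrimitiveRoot.orderOf ζ
  obtain ⟨i, -, hi⟩ := hprim.eq_pow_of_pow_eq_one hξ5
  refine ⟨i, ?_⟩
  apply Units.ext
  have h1 : (ζ ^ i : ↥C).1 = ξ.1 := congrArg Subtype.val hi
  rw [Units.val_pow_eq_pow_val]
  show U = M ^ i
  have h2 : (ξ : Matrix ι ι F) = U := rfl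
  have h3 : ((ζ ^ i : ↥C) : Matrix ι ι F) = M ^ i := by
    rw [SubmonoidClass.coe_pow]
  rw [← h2, ← h1, h3]

end roots

/-- PKG-I1: in any subgroup Γ of GL_4(p) with p of order 4 mod 5 the subgroups of order 5 are conjugate
(Sylow 5-subgroups are cyclic). -/
theorem order5_conj {F : Type*} [Field F] [Fintype F] {p : ℕ} [Fact p.Prime] [CharP F p]
    (hF : Fintype.card F = p) (h5 : orderOf (p : ZMod 5) = 4)
    {ι : Type} [Fintype ι] [DecidableEq ι] (hι : Fintype.card ι = 4) (Γ : Subgroup (GL ι F))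
    (x y : GL ι F) (hx : x ∈ Γ) (hy : y ∈ Γ) (hx5 : x ^ 5 = 1) (hx1 : x ≠ 1)
    (hy5 : y ^ 5 = 1) (hy1 : y ≠ 1) :
    ∃ g ∈ Γ, ∃ k : ℕ, g⁻¹ * x * g = y ^ k := by
  classical
  have hfact : Fact (Nat.Prime 5) := ⟨by norm_num⟩
  have hfin : Finite ↥Γ := inferInstance
  let x' : ↥Γ := ⟨x, hx⟩
  let y' : ↥Γ := ⟨y, hy⟩
  have hx'5 : x' ^ 5 = 1 := Subtype.ext (by simpa using hx5)
  have hy'5 : y' ^ 5 = 1 := Subtype.ext (by simpa using hy5)
  have hx'1 : x' ≠ 1 := fun h => hx1 (congrArg Subtype.val h)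
  have hy'1 : y' ≠ 1 := fun h => hy1 (congrArg Subtype.val h)
  have hord : ∀ t : ↥Γ, t ^ 5 = 1 → t ≠ 1 → orderOf t = 5 := by
    intro t ht5 ht1
    have hd := orderOf_dvd_of_pow_eq_one ht5
    rcases (Nat.dvd_prime (by norm_num : Nat.Prime 5)).mp hd with h | h
    · exact absurd (orderOf_eq_one_iff.mp h) ht1
    · exact h
  have hpx : IsPGroup 5 ↥(Subgroup.zpowers x') :=
    IsPGroup.of_card (n := 1) (by rw [Nat.card_zpowers, hord x' hx'5 hx'1, pow_one])
  have hpy : IsPGroup 5 ↥(Subgroup.zpowers y') :=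
    IsPGroup.of_card (n := 1) (by rw [Nat.card_zpowers, hord y' hy'5 hy'1, pow_one])
  obtain ⟨Q, hQ⟩ := hpx.exists_le_sylow
  obtain ⟨Q', hQ'⟩ := hpy.exists_le_sylow
  obtain ⟨g, hg⟩ := MulAction.exists_smul_eq ↥Γ Q Q'
  have hxQ : x' ∈ (Q : Subgroup ↥Γ) := hQ (Subgroup.mem_zpowers x')
  have hyQ' : y' ∈ (Q' : Subgroup ↥Γ) := hQ' (Subgroup.mem_zpowers y')
  set w : ↥Γ := g * x' * g⁻¹ with hw
  have hwQ' : w ∈ (Q' : Subgroup ↥Γ) := by
    rw [← hg, Sylow.smul_def, Sylow.pointwise_smul_def]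
    have := Subgroup.smul_mem_pointwise_smul x' (MulAut.conj g) (Q : Subgroup ↥Γ) hxQ
    simpa [MulAut.smul_def, MulAut.conj_apply, hw] using this
  have hw5 : w ^ 5 = 1 := by
    rw [hw, conj_pow, hx'5]; group
  -- a central element of order 5 in Q'
  have hQ'p : IsPGroup 5 ↥(Q' : Subgroup ↥Γ) := Q'.isPGroup'
  have hQ'nt : Nontrivial ↥(Q' : Subgroup ↥Γ) :=
    ⟨⟨⟨y', hyQ'⟩, 1, fun h => hy'1 (congrArg Subtype.val h)⟩⟩
  have hcnt : Nontrivial ↥(Subgroup.center ↥(Q' : Subgroup ↥Γ)) := hQ'p.center_nontrivial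
  have hcp : IsPGroup 5 ↥(Subgroup.center ↥(Q' : Subgroup ↥Γ)) := hQ'p.to_subgroup _
  have hdvd : 5 ∣ Nat.card ↥(Subgroup.center ↥(Q' : Subgroup ↥Γ)) := by
    rcases hcp.card_eq_or_dvd with h | h
    · exfalso
      have := Finite.one_lt_card (α := ↥(Subgroup.center ↥(Q' : Subgroup ↥Γ)))
      omega
    · exact h
  obtain ⟨c, hc⟩ := exists_prime_orderOf_dvd_card' 5 hdvd
  -- the element of GL
  let z0 : GL ι F := (((c : ↥(Q' : Subgroup ↥Γ)) : ↥Γ) : GL ι F)
  have hz05 : z0 ^ 5 = 1 := by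
    have h1 : c ^ 5 = 1 := by
      have := pow_orderOf_eq_one c
      rwa [hc] at this
    have h2 := congrArg (fun t : ↥(Subgroup.center ↥(Q' : Subgroup ↥Γ)) =>
      (((t : ↥(Q' : Subgroup ↥Γ)) : ↥Γ) : GL ι F)) h1
    simpa using h2
  have hz01 : z0 ≠ 1 := by
    intro h
    have hc1 : c = 1 := by
      apply Subtype.ext; apply Subtype.ext; apply Subtype.ext
      exact h
    rw [hc1, orderOf_one] at hc
    norm_num at hc
  have hcomm : ∀ t : ↥Γ, t ∈ (Q' : Subgroup ↥Γ) → z0 * (t : GL ι F) = (t : GL ι F) * z0 := by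
    intro t ht
    have h1 := Subgroup.mem_center_iff.mp c.2 ⟨t, ht⟩
    have h2 := congrArg (fun s : ↥(Q' : Subgroup ↥Γ) => ((s : ↥Γ) : GL ι F)) h1
    simpa using h2.symm
  obtain ⟨i, hi⟩ := eq_pow_of_comm hF h5 hι z0 (w : GL ι F) hz05 hz01
    (by simpa using congrArg Subtype.val hw5) (hcomm w hwQ')
  obtain ⟨j, hj⟩ := eq_pow_of_comm hF h5 hι z0 y hz05 hz01 hy5 (hcomm y' hyQ')
  -- invert j modulo 5
  have hcop : Nat.Coprime j 5 := by
    rw [Nat.coprime_comm, Nat.Prime.coprime_iff_not_dvd (by norm_num : Nat.Prime 5)]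
    rintro ⟨q, rfl⟩
    apply hy1
    rw [hj, pow_mul, hz05, one_pow]
  obtain ⟨m, -, hm⟩ := Nat.exists_mul_mod_eq_one_of_coprime hcop (by norm_num : 1 < 5)
  have hz0y : z0 = y ^ m := by
    rw [hj, ← pow_mul]
    have : j * m = 5 * (j * m / 5) + 1 := by
      have := Nat.div_add_mod (j * m) 5
      omega
    rw [this, pow_add, pow_mul, hz05, one_pow, one_mul, pow_one]
  refine ⟨((g⁻¹ : ↥Γ) : GL ι F), (g⁻¹).2, m * i, ?_⟩
  have hwv : (w : GL ι F) = (g : GL ι F) * x * (g : GL ι F)⁻¹ := by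
    rw [hw]; simp [x']
  rw [pow_mul, ← hz0y, ← hi, hwv]
  simp

end Cfsg.Agent.Lib.C6Pk
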