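import Mathlib

set_option autoImplicit false

namespace Cfsg.Agent.Lib.Helper8

open scoped Pointwise

section

variable {G : Type*} [Group G]

/-- `[T ⊔ R : R] = [T : T ⊓ R]` when `R` normalizes `T`. -/
theorem relIndex_sup_of_le_normalizer [Finite G] (R T : Subgroup G)
    (h : R ≤ Subgroup.normalizer (T : Set G)) : R.relIndex (T ⊔ R) = R.relIndex T := by
  obtain ⟨X, hX⟩ : ∃ X, X = T ⊔ R := ⟨_, rfl⟩
  rw [← hX]
  have hTX : T ≤ X := hX ▸ le_sup_left
  have hRX : R ≤ X := hX ▸ le_sup_right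
  have hXn : X ≤ Subgroup.normalizer (T : Set G) := hX ▸ sup_le Subgroup.le_normalizer h
  have : (T.subgroupOf X).Normal := (Subgroup.normal_subgroupOf_iff_le_normalizer hTX).mpr hXn
  -- second isomorphism theorem inside `X`
  have e1 := Subgroup.relIndex_mul_relIndex ⊥ (R ⊓ T) T bot_le inf_le_right
  have e2 := Subgroup.relIndex_mul_relIndex ⊥ (R ⊓ T) R bot_le inf_le_left
  have e3 := Subgroup.relIndex_mul_relIndex ⊥ T X bot_le hTX
  have e4 := Subgroup.relIndex_mul_relIndex ⊥ R X bot_le hRX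
  simp only [Subgroup.relIndex_bot_left] at e1 e2 e3 e4
  have e5 : T.relIndex X = (R ⊓ T).relIndex R := by
    have h1 : (T.subgroupOf X).relIndex (R.subgroupOf X ⊔ T.subgroupOf X)
        = (T.subgroupOf X).relIndex (R.subgroupOf X) := Subgroup.relIndex_sup_right _ _
    have h2 : R.subgroupOf X ⊔ T.subgroupOf X = ⊤ := by
      rw [← Subgroup.subgroupOf_sup hRX hTX, sup_comm, ← hX, Subgroup.subgroupOf_self]
    rw [h2, Subgroup.relIndex_top_right] at h1
    have h3 : (T.subgroupOf X).relIndex (R.subgroupOf X) = T.relIndex R :=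
      Subgroup.relIndex_subgroupOf hRX
    rw [h3] at h1
    rw [Subgroup.inf_relIndex_left]
    exact h1
  rw [Subgroup.inf_relIndex_right] at e1
  have hRpos : 0 < Nat.card R := Nat.card_pos
  have : Nat.card R * R.relIndex X = Nat.card R * R.relIndex T := by
    rw [e4, ← e3, e5, ← e1, ← e2]
    ring
  exact Nat.eq_of_mul_eq_mul_left hRpos this

/-- The number of Sylow `p`-subgroups of `G ⧸ K` is the index of `N_G(PK)`. -/
theorem card_sylow_quotient_eq_index [Finite G] (p : ℕ) [Fact p.Prime] (K : Subgroup G)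
    [K.Normal] (P : Sylow p G) :
    Nat.card (Sylow p (G ⧸ K))
      = (Subgroup.normalizer (((P : Subgroup G) ⊔ K : Subgroup G) : Set G)).index := by
  have hsurj := QuotientGroup.mk'_surjective K
  have hset : ((P.mapSurjective hsurj : Sylow p (G ⧸ K)) : Set (G ⧸ K))
      = (((P : Subgroup G).map (QuotientGroup.mk' K) : Subgroup (G ⧸ K)) : Set (G ⧸ K)) := by
    rw [← Sylow.coe_mapSurjective hsurj]; rfl
  rw [Sylow.card_eq_index_normalizer (P.mapSurjective hsurj),
    ← Subgroup.index_comap_of_surjective _ hsurj, hset,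
    Subgroup.comap_normalizer_eq_of_surjective _ hsurj,
    Subgroup.comap_map_eq, QuotientGroup.ker_mk']

theorem le_normalizer_sup {A X Y : Subgroup G} (h1 : A ≤ Subgroup.normalizer (X : Set G))
    (h2 : A ≤ Subgroup.normalizer (Y : Set G)) :
    A ≤ Subgroup.normalizer ((X ⊔ Y : Subgroup G) : Set G) := by
  intro b hb
  have e1 := Subgroup.mem_normalizer_iff_map_conj_eq.mp (h1 hb)
  have e2 := Subgroup.mem_normalizer_iff_map_conj_eq.mp (h2 hb)
  rw [Subgroup.mem_normalizer_iff_map_conj_eq, Subgroup.map_sup, e1, e2]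

theorem le_normalizer_inf {A X Y : Subgroup G} (h1 : A ≤ Subgroup.normalizer (X : Set G))
    (h2 : A ≤ Subgroup.normalizer (Y : Set G)) :
    A ≤ Subgroup.normalizer ((X ⊓ Y : Subgroup G) : Set G) := by
  intro b hb
  rw [Subgroup.mem_normalizer_iff]
  intro x
  have e1 := Subgroup.mem_normalizer_iff.mp (h1 hb) x
  have e2 := Subgroup.mem_normalizer_iff.mp (h2 hb) x
  rw [Subgroup.mem_inf, Subgroup.mem_inf, e1, e2]

/-- Relative Frattini argument. -/
theorem frattini_rel [Finite G] {p : ℕ} [Fact p.Prime] (T X Q : Subgroup G) (hQT : Q ≤ T)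
    (hQ : IsPGroup p Q) (hidx : ¬ p ∣ Q.relIndex T) (hTX : T ≤ X)
    (hX : X ≤ Subgroup.normalizer (T : Set G)) :
    X ≤ T ⊔ (X ⊓ Subgroup.normalizer (Q : Set G)) := by
  intro x hx
  let S1 : Sylow p T := (hQ.comap_subtype (K := T)).toSylow hidx
  have hS1 : ∀ y : T, y ∈ (S1 : Subgroup T) ↔ (y : G) ∈ Q := fun y => Iff.rfl
  let n : Subgroup.normalizer (T : Set G) := ⟨x, hX hx⟩
  obtain ⟨t, ht⟩ := MulAction.exists_smul_eq T S1 (n • S1)
  have key : ∀ y : T, y ∈ ((t • S1 : Sylow p T) : Subgroup T) ↔ y ∈ ((n • S1 : Sylow p T) : Subgroup T) := by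
    rw [ht]; intro; rfl
  rw [Sylow.coe_subgroup_smul, Sylow.pointwise_smul_def] at key
  simp only [Subgroup.mem_pointwise_smul_iff_inv_smul_mem, hS1] at key
  have hxn : x ∈ Subgroup.normalizer (T : Set G) := hX hx
  have key2 : ∀ q : G, x * q * x⁻¹ ∈ T →
      ((t : G)⁻¹ * (x * q * x⁻¹) * t ∈ Q ↔ q ∈ Q) := by
    intro q hq
    have := key ⟨x * q * x⁻¹, hq⟩
    have e1 : (((MulAut.conj t)⁻¹ • (⟨x * q * x⁻¹, hq⟩ : T) : T) : G) = (t : G)⁻¹ * (x * q * x⁻¹) * t := by
      simp [MulAut.smul_def]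
    have e2 : ((n⁻¹ • (⟨x * q * x⁻¹, hq⟩ : T) : T) : G) = q := by
      show (n⁻¹ : Subgroup.normalizer (T : Set G)).1 * (x * q * x⁻¹) * ((n⁻¹ : Subgroup.normalizer (T : Set G)).1)⁻¹ = q
      simp [n]
      group
    rw [e1, e2] at this
    exact this
  have hg : (t : G)⁻¹ * x ∈ X ⊓ Subgroup.normalizer (Q : Set G) := by
    refine Subgroup.mem_inf.mpr ⟨X.mul_mem (X.inv_mem (hTX t.2)) hx, ?_⟩
    rw [Subgroup.mem_normalizer_iff]
    intro q
    have e : (t : G)⁻¹ * x * q * ((t : G)⁻¹ * x)⁻¹ = (t : G)⁻¹ * (x * q * x⁻¹) * t := by group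
    rw [e]
    constructor
    · intro hq
      exact (key2 q ((Subgroup.mem_normalizer_iff.mp hxn q).mp (hQT hq))).mpr hq
    · intro hq
      have h1 : (t : G)⁻¹ * (x * q * x⁻¹) * t ∈ T := hQT hq
      have h2 : x * q * x⁻¹ ∈ T := by
        have := T.mul_mem (T.mul_mem t.2 h1) (T.inv_mem t.2)
        convert this using 1; group
      exact (key2 q h2).mp hq
  have : x = (t : G) * ((t : G)⁻¹ * x) := by group
  rw [this]
  exact Subgroup.mul_mem_sup t.2 hg

/-- The number of Sylow `p`-subgroups of a subgroup `N`, as a relative index. -/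
theorem card_sylow_subgroup_eq_relIndex [Finite G] {p : ℕ} [Fact p.Prime] (N Q : Subgroup G)
    (hQN : Q ≤ N) (hQ : IsPGroup p Q) (hidx : ¬ p ∣ Q.relIndex N) :
    Nat.card (Sylow p N) = (Subgroup.normalizer (Q : Set G)).relIndex N := by
  let S : Sylow p N := (hQ.comap_subtype (K := N)).toSylow hidx
  have hS : Subgroup.normalizer ((S : Subgroup N) : Set N)
      = (Subgroup.normalizer (Q : Set G)).subgroupOf N :=
    (Subgroup.subgroupOf_normalizer_eq hQN).symm
  have hset : (S : Set N) = ((S : Subgroup N) : Set N) := rfl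
  rw [Sylow.card_eq_index_normalizer S, hset, hS]
  rfl

end

end Cfsg.Agent.Lib.Helper8
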