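import Mathlib
import Cfsg.Prelude.Def_Transfer
import Cfsg.Prelude.Def_Solvable
import Cfsg.Agent.Lib.Helper4.HallHigman
import Cfsg.Agent.Lib.Helper4.SolvBalance
import Cfsg.Agent.Lib.Lead.SolvPSolv
import Cfsg.Agent.Lib.Helper9.PCore

/-!
# S4415 farm-out, lemma F4

In a finite solvable group `S`, a `2`-subgroup `Q = [Q, b]` normalized by an element `b` of the
centre of a Sylow `3`-subgroup lies in `O_{3'}(S)`.
-/

set_option autoImplicit false
open Cfsg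
open scoped Pointwise commutatorElement

namespace Cfsg.Agent.Lib.Helper2.Cub

/-- F4. In a finite solvable group, a 2-subgroup `Q = [Q, b]` normalized by an element `b` of the centre of a Sylow 3-subgroup lies in
`O_{3'}(S)`. -/
theorem f4_le_pPrimeCore {S : Type*} [Group S] [Finite S] [Group.IsSolvable S] (P : Sylow 3 S) (b : S)
    (hbP : b ∈ (P : Subgroup S)) (hbZ : ∀ x ∈ (P : Subgroup S), x * b = b * x)
    (Q : Subgroup S) (hQ2 : IsPGroup 2 Q) (hQb : ∀ q ∈ Q, b * q * b⁻¹ ∈ Q)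
    (hQgen : Q ≤ ⁅Q, Subgroup.zpowers b⁆) : Q ≤ Cfsg.pPrimeCore 3 S := by
  have : Fact (Nat.Prime 3) := ⟨Nat.prime_three⟩
  have : Fact (Nat.Prime 2) := ⟨Nat.prime_two⟩
  have hKn : (Cfsg.pPrimeCore 3 S).Normal := Subgroup.sSup_normal _ (fun _ hH => hH.1)
  have hπ : Function.Surjective (QuotientGroup.mk' (Cfsg.pPrimeCore 3 S)) :=
    QuotientGroup.mk'_surjective _
  have hbot : Cfsg.pPrimeCore 3 (S ⧸ Cfsg.pPrimeCore 3 S) = ⊥ :=
    Cfsg.Agent.Lib.Helper4.pPrimeCore_quotient_self 3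
  have hsolv : Cfsg.IsPSolvable 3 (S ⧸ Cfsg.pPrimeCore 3 S) :=
    Cfsg.Agent.Lib.Lead.SolvPSolv.isPSolvable_of_isSolvable' 3 (S ⧸ Cfsg.pPrimeCore 3 S)
  have hCT := Cfsg.Agent.Lib.Helper4.centralizer_pCore_le_of_isPSolvable hsolv hbot
  have hTn : (Cfsg.pCore 3 (S ⧸ Cfsg.pPrimeCore 3 S)).Normal :=
    Cfsg.Agent.Lib.Lead.pCore_normal 3
  have hT3 : IsPGroup 3 (Cfsg.pCore 3 (S ⧸ Cfsg.pPrimeCore 3 S)) :=
    Cfsg.Agent.Lib.Lead.pCore_isPGroup 3
  have hTP : Cfsg.pCore 3 (S ⧸ Cfsg.pPrimeCore 3 S) ≤ (P.mapSurjective hπ : Subgroup _) :=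
    Cfsg.Agent.Lib.Helper9.pCore_le_sylow (P.mapSurjective hπ)
  -- the image of `b` centralizes `T = O_3(S/K)`, hence lies in it
  have hbC : (QuotientGroup.mk' (Cfsg.pPrimeCore 3 S)) b ∈
      Subgroup.centralizer ((Cfsg.pCore 3 (S ⧸ Cfsg.pPrimeCore 3 S) : Subgroup _) : Set _) := by
    rw [Subgroup.mem_centralizer_iff]
    intro t ht
    have h1 : t ∈ (P : Subgroup S).map (QuotientGroup.mk' (Cfsg.pPrimeCore 3 S)) := hTP ht
    obtain ⟨x, hx, rfl⟩ := h1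
    rw [← map_mul, ← map_mul, hbZ x hx]
  have hbT := hCT hbC
  -- images of elements of `Q` commute with the image of `b`
  have hcomm : ∀ q ∈ Q, Commute ((QuotientGroup.mk' (Cfsg.pPrimeCore 3 S)) q)
      ((QuotientGroup.mk' (Cfsg.pPrimeCore 3 S)) b) := by
    intro q hq
    rw [← commutatorElement_eq_one_iff_commute]
    have hcQ : ⁅q, b⁆ ∈ Q := by
      rw [commutatorElement_def]
      have := Q.mul_mem hq (hQb q⁻¹ (Q.inv_mem hq))
      have e : q * (b * q⁻¹ * b⁻¹) = q * b * q⁻¹ * b⁻¹ := by group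
      rw [e] at this
      exact this
    have h2 : ⁅(QuotientGroup.mk' (Cfsg.pPrimeCore 3 S)) q,
        (QuotientGroup.mk' (Cfsg.pPrimeCore 3 S)) b⁆ ∈
          Q.map (QuotientGroup.mk' (Cfsg.pPrimeCore 3 S)) := by
      rw [← map_commutatorElement]
      exact Subgroup.mem_map_of_mem _ hcQ
    have h3 : ⁅(QuotientGroup.mk' (Cfsg.pPrimeCore 3 S)) q,
        (QuotientGroup.mk' (Cfsg.pPrimeCore 3 S)) b⁆ ∈
          Cfsg.pCore 3 (S ⧸ Cfsg.pPrimeCore 3 S) := by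
      rw [commutatorElement_def]
      exact Subgroup.mul_mem _ (hTn.conj_mem _ hbT _) (Subgroup.inv_mem _ hbT)
    have hdisj := IsPGroup.disjoint_of_ne 2 3 (by norm_num)
      (Q.map (QuotientGroup.mk' (Cfsg.pPrimeCore 3 S)))
      (Cfsg.pCore 3 (S ⧸ Cfsg.pPrimeCore 3 S)) (hQ2.map _) hT3
    exact Subgroup.disjoint_def.mp hdisj h2 h3
  -- hence `[Q, ⟨b⟩] ≤ K`
  have hle : ⁅Q, Subgroup.zpowers b⁆ ≤ Cfsg.pPrimeCore 3 S := by
    rw [Subgroup.commutator_le]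
    intro q hq y hy
    obtain ⟨n, rfl⟩ := Subgroup.mem_zpowers_iff.mp hy
    have h1 : (QuotientGroup.mk' (Cfsg.pPrimeCore 3 S)) ⁅q, b ^ n⁆ = 1 := by
      rw [map_commutatorElement, map_zpow, commutatorElement_eq_one_iff_commute]
      exact (hcomm q hq).zpow_right n
    exact (QuotientGroup.eq_one_iff _).mp h1
  exact hQgen.trans hle

end Cfsg.Agent.Lib.Helper2.Cub
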