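import Mathlib
import Cfsg.Agent.Lib.Helper2.CubD0
import Cfsg.Agent.Lib.Helper9.CubPC23

/-!
# S4415 farm-out, package PC6b (core, taking the conclusion of PC1 as a hypothesis)

`C_R(O) = {1, z}` for a maximal normal 2-subgroup `O` of `G` inside `R`.
-/

set_option autoImplicit false
open Cfsg
open scoped commutatorElement

namespace Cfsg.Agent.Lib.Helper2.Cub

variable {G : Type*} [Group G] {W : Type*} [AddCommGroup W] [Module (ZMod 3) W]
variable [Finite G] [Finite W] {ρ : Representation (ZMod 3) G W} {R Q : Subgroup G} {b : G}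

/-- Generalised PC3 core: inside any normal subgroup `C ≤ R` that is not contained in `{1, z}` there
is a normal non-abelian 2-subgroup of `G` (given PC1). -/
theorem Setup.pc6b_min_normal (h : Setup ρ R Q b)
    (hPC1 : ∀ A : Subgroup G, A.Normal → (∀ x ∈ A, ∀ y ∈ A, x * y = y * x) → A ≤ R →
      ∀ a ∈ A, ∀ g : G, a * g = g * a)
    {z : G} (hz1 : z ≠ 1) (hzc : ∀ g : G, z * g = g * z)
    (C : Subgroup G) (hCn : C.Normal) (hCR : C ≤ R) (hCx : ∃ x ∈ C, x ≠ 1 ∧ x ≠ z) :
    ∃ T : Subgroup G, T.Normal ∧ T ≤ C ∧ IsPGroup 2 T ∧ ∃ x ∈ T, ∃ y ∈ T, x * y ≠ y * x := by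
  classical
  -- central elements are `1` or `z`
  have hcen : ∀ c : G, (∀ g : G, c * g = g * c) → c = 1 ∨ c = z := by
    intro c hc
    by_cases hc1 : c = 1
    · exact Or.inl hc1
    · exact Or.inr (h.central_eq hc hzc hc1 hz1)
  have hzz : z * z = 1 := by
    rcases hcen (z * z) (fun g => by rw [mul_assoc, hzc g, ← mul_assoc, hzc g, mul_assoc]) with h1 | h1
    · exact h1
    · exfalso; apply hz1
      calc z = z⁻¹ * (z * z) := by group
        _ = 1 := by rw [h1, inv_mul_cancel]
  -- the minimal normal subgroup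
  have hex : ∃ n : ℕ, ∃ N : Subgroup G, (N.Normal ∧ N ≤ C ∧ ∃ x ∈ N, x ≠ 1 ∧ x ≠ z) ∧
      Nat.card N = n := ⟨_, C, ⟨hCn, le_rfl, hCx⟩, rfl⟩
  obtain ⟨M, ⟨hMn, hMC, x0, hx0M, hx01, hx0z⟩, hMcard⟩ := Nat.find_spec hex
  have hMR : M ≤ R := hMC.trans hCR
  have hmin : ∀ N : Subgroup G, N.Normal → N ≤ M → (∃ x ∈ N, x ≠ 1 ∧ x ≠ z) → N = M := by
    intro N hN hle hx
    have h1 : Nat.find hex ≤ Nat.card N := Nat.find_min' hex ⟨N, ⟨hN, hle.trans hMC, hx⟩, rfl⟩
    exact Subgroup.eq_of_le_of_card_ge hle (by rw [hMcard]; exact h1)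
  -- commutators of `M` lie in `{1, z}`
  have hcomm : ∀ x ∈ M, ∀ y ∈ M, ⁅x, y⁆ = 1 ∨ ⁅x, y⁆ = z := by
    have hsolv : ∃ n : ℕ, ∀ x ∈ M ⊓ derivedSeries G n, x = 1 ∨ x = z := by
      obtain ⟨n, hn⟩ := h.solv.solvable
      refine ⟨n, fun x hx => ?_⟩
      rw [hn] at hx
      exact Or.inl (Subgroup.mem_bot.mp hx.2)
    have hspec := Nat.find_spec hsolv
    rcases hk : Nat.find hsolv with _ | j
    · exfalso
      rw [hk] at hspec
      rcases hspec x0 ⟨hx0M, by rw [derivedSeries_zero]; exact Subgroup.mem_top _⟩ with h1 | h1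
      · exact hx01 h1
      · exact hx0z h1
    · rw [hk] at hspec
      have hj : ¬ (∀ x ∈ M ⊓ derivedSeries G j, x = 1 ∨ x = z) :=
        Nat.find_min hsolv (by rw [hk]; exact Nat.lt_succ_self j)
      push Not at hj
      obtain ⟨x1, hx1, hx11, hx1z⟩ := hj
      have : (derivedSeries G j).Normal := derivedSeries_normal G j
      have : M.Normal := hMn
      have hAn : (M ⊓ derivedSeries G j).Normal := Subgroup.normal_inf_normal M (derivedSeries G j)
      have hMD : M ⊓ derivedSeries G j = M := hmin _ hAn inf_le_left ⟨x1, hx1, hx11, hx1z⟩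
      have hMle : M ≤ derivedSeries G j := by rw [← hMD]; exact inf_le_right
      intro x hx y hy
      apply hspec
      refine ⟨?_, ?_⟩
      · rw [commutatorElement_def]
        exact M.mul_mem (M.mul_mem (M.mul_mem hx hy) (M.inv_mem hx)) (M.inv_mem hy)
      · rw [derivedSeries_succ]
        exact Subgroup.commutator_mem_commutator (hMle hx) (hMle hy)
  -- the centre of `M` is `{1, z}`
  have hcenM : ∀ c ∈ M, (∀ y ∈ M, c * y = y * c) → c = 1 ∨ c = z := by
    have : M.Normal := hMn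
    have hCn' : (M ⊓ Subgroup.centralizer (M : Set G)).Normal :=
      Subgroup.normal_inf_normal M (Subgroup.centralizer (M : Set G))
    have hCab : ∀ x ∈ M ⊓ Subgroup.centralizer (M : Set G),
        ∀ y ∈ M ⊓ Subgroup.centralizer (M : Set G), x * y = y * x := by
      intro x hx y hy
      exact ((Subgroup.mem_centralizer_iff.mp hx.2) y hy.1).symm
    have hCc := hPC1 _ hCn' hCab (inf_le_left.trans hMR)
    intro c hc hcy
    apply hcen c
    apply hCc c
    refine Subgroup.mem_inf.mpr ⟨hc, ?_⟩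
    rw [Subgroup.mem_centralizer_iff]
    intro y hy
    exact (hcy y hy).symm
  -- `M` is not abelian
  have hna : ∃ x ∈ M, ∃ y ∈ M, x * y ≠ y * x := by
    by_contra hcon
    push Not at hcon
    have := hPC1 M hMn hcon hMR x0 hx0M
    rcases hcen x0 this with h1 | h1
    · exact hx01 h1
    · exact hx0z h1
  -- squares of `M` lie in `{1, z}`
  have hsq : ∀ y ∈ M, y * y = 1 ∨ y * y = z := by
    intro y hy
    apply hcenM (y * y) (M.mul_mem hy hy)
    intro x hx
    symm
    rcases hcomm x hx y hy with h1 | h1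
    · have h2 : x * y = y * x := commutatorElement_eq_one_iff_mul_comm.mp h1
      calc x * (y * y) = (x * y) * y := by group
        _ = (y * x) * y := by rw [h2]
        _ = y * (x * y) := by group
        _ = y * (y * x) := by rw [h2]
        _ = y * y * x := by group
    · rw [commutatorElement_def] at h1
      have h2 : x * y = z * y * x := by
        calc x * y = (x * y * x⁻¹ * y⁻¹) * y * x := by group
          _ = z * y * x := by rw [h1]
      calc x * (y * y) = (x * y) * y := by group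
        _ = (z * y * x) * y := by rw [h2]
        _ = z * y * (x * y) := by group
        _ = z * y * (z * y * x) := by rw [h2]
        _ = z * (y * z) * y * x := by group
        _ = z * (z * y) * y * x := by rw [hzc y]
        _ = (z * z) * (y * y) * x := by group
        _ = y * y * x := by rw [hzz, one_mul]
  refine ⟨M, hMn, hMC, ?_, hna⟩
  intro y
  refine ⟨2, ?_⟩
  apply Subtype.ext
  have e : ((y ^ 2 ^ 2 : M) : G) = ((y : G) * y) * ((y : G) * y) := by
    rw [Subgroup.coe_pow]
    show (y : G) ^ 4 = _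
    rw [pow_succ, pow_succ, pow_two]; group
  rw [e]
  rcases hsq y y.2 with h1 | h1
  · rw [h1, one_mul]; rfl
  · rw [h1, hzz]; rfl

/-- PC6b core. -/
theorem Setup.pc6b_core (h : Setup ρ R Q b)
    (hPC1 : ∀ A : Subgroup G, A.Normal → (∀ x ∈ A, ∀ y ∈ A, x * y = y * x) → A ≤ R →
      ∀ a ∈ A, ∀ g : G, a * g = g * a)
    {z : G} (hz1 : z ≠ 1) (hzc : ∀ g : G, z * g = g * z)
    (O : Subgroup G) (hOn : O.Normal) (hOR : O ≤ R) (hO2 : IsPGroup 2 O)
    (hmax : ∀ O' : Subgroup G, O'.Normal → IsPGroup 2 O' → O' ≤ R → O ≤ O' → O' = O) :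
    ∀ x ∈ R, (∀ o ∈ O, x * o = o * x) → x = 1 ∨ x = z := by
  intro x hxR hxO
  by_contra hcon
  push Not at hcon
  have hRn : R.Normal := h.normalR
  have hCn : (R ⊓ Subgroup.centralizer (O : Set G)).Normal :=
    Subgroup.normal_inf_normal R (Subgroup.centralizer (O : Set G))
  have hxC : x ∈ R ⊓ Subgroup.centralizer (O : Set G) := by
    refine Subgroup.mem_inf.mpr ⟨hxR, ?_⟩
    rw [Subgroup.mem_centralizer_iff]
    intro o ho
    exact (hxO o ho).symm
  obtain ⟨T, hTn, hTC, hT2, x1, hx1, y1, hy1, hxy⟩ :=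
    h.pc6b_min_normal hPC1 hz1 hzc _ hCn inf_le_left ⟨x, hxC, hcon.1, hcon.2⟩
  have hTO : T ≤ O := by
    have h1 : (T ⊔ O).Normal := Subgroup.sup_normal T O
    have h2 : IsPGroup 2 (T ⊔ O : Subgroup G) := hT2.to_sup_of_normal_right hO2
    have h3 : T ⊔ O = O := hmax _ h1 h2 (sup_le (hTC.trans inf_le_left) hOR) le_sup_right
    rw [← h3]; exact le_sup_left
  apply hxy
  have h4 : x1 ∈ Subgroup.centralizer (O : Set G) := (hTC hx1).2
  exact ((Subgroup.mem_centralizer_iff.mp h4) y1 (hTO hy1)).symm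

end Cfsg.Agent.Lib.Helper2.Cub
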