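import Mathlib
import Cfsg.Prelude.Def_Blocks

/-!
# Dihedral-like Sylow 2-subgroups: the structure `DL` (for S4481)
-/

set_option autoImplicit false

namespace Cfsg.Agent.Lib.Helper8.DihB

universe u

/-- "Dihedral-like" Sylow 2-subgroup: `σ ∈ P` of order `N ≥ 4`, `|P| = 2N`, every element of `P`
outside `⟨σ⟩` is an involution inverting `σ`. -/
structure DL {G : Type u} [Group G] (P : Sylow 2 G) (σ : G) (N : ℕ) : Prop where
  mem : σ ∈ (P : Subgroup G)
  ord : orderOf σ = N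
  four : 4 ≤ N
  card : Nat.card (P : Subgroup G) = 2 * N
  inv : ∀ x ∈ (P : Subgroup G), x ∉ Subgroup.zpowers σ → x * x = 1 ∧ x * σ * x⁻¹ = σ⁻¹

end Cfsg.Agent.Lib.Helper8.DihB
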