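import Mathlib

/-!
# Klein four Sylow 2-subgroups with a central involution: normalizer centralizes
-/

set_option autoImplicit false

namespace Cfsg.Agent.Lib.Helper8

universe u

section

variable {G : Type u} [Group G]

theorem kleinFour_sq {P : Subgroup G} (hP : IsKleinFour P) {g : G} (hg : g ∈ P) : g * g = 1 := by
  have h := Monoid.pow_exponent_eq_one (⟨g, hg⟩ : P)
  rw [hP.exponent_two, pow_two] at h
  exact congrArg Subtype.val h

/-- Elementary form of the Klein four hypothesis: four elements, all of square one. -/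
def IsK4 (P : Subgroup G) : Prop := Nat.card P = 4 ∧ ∀ g ∈ P, g * g = 1

theorem isK4_of_isKleinFour {P : Subgroup G} (hP : IsKleinFour P) : IsK4 P :=
  ⟨hP.card_four, fun _ hg => kleinFour_sq hP hg⟩

theorem kleinFour_comm {P : Subgroup G} (hP : IsK4 P) {a b : G} (ha : a ∈ P) (hb : b ∈ P) :
    a * b = b * a := by
  have h1 := hP.2 a ha
  have h2 := hP.2 b hb
  have h3 := hP.2 (a * b) (P.mul_mem ha hb)
  have ha' : a⁻¹ = a := by rw [inv_eq_iff_mul_eq_one]; exact h1
  have hb' : b⁻¹ = b := by rw [inv_eq_iff_mul_eq_one]; exact h2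
  have hab' : (a * b)⁻¹ = a * b := by rw [inv_eq_iff_mul_eq_one]; exact h3
  rw [← hab', mul_inv_rev, ha', hb']

/-- In a Klein four-group `{1, z, x, x'}` the fourth element is the product of the other two
nonidentity elements. -/
theorem kleinFour_fourth [Finite G] {P : Subgroup G} (hP : IsK4 P) {z x x' : G}
    (hz : z ∈ P) (hx : x ∈ P) (hx' : x' ∈ P) (hz1 : z ≠ 1) (hx1 : x ≠ 1) (hx'1 : x' ≠ 1)
    (hzx : z ≠ x) (hzx' : z ≠ x') (hxx' : x ≠ x') : x' = x * z := by
  classical
  haveI : Fintype P := Fintype.ofFinite P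
  let S : Finset P := {1, ⟨z, hz⟩, ⟨x, hx⟩, ⟨x', hx'⟩}
  have hcard : S.card = 4 := by
    rw [Finset.card_insert_of_notMem, Finset.card_insert_of_notMem, Finset.card_insert_of_notMem,
      Finset.card_singleton]
    · simp only [Finset.mem_singleton, Subtype.mk.injEq]; exact hxx'
    · simp only [Finset.mem_insert, Finset.mem_singleton, Subtype.mk.injEq, not_or]
      exact ⟨hzx, hzx'⟩
    · simp only [Finset.mem_insert, Finset.mem_singleton, not_or]
      refine ⟨?_, ?_, ?_⟩
      · intro h; exact hz1 (congrArg Subtype.val h).symm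
      · intro h; exact hx1 (congrArg Subtype.val h).symm
      · intro h; exact hx'1 (congrArg Subtype.val h).symm
  have hS : S = Finset.univ := by
    apply Finset.eq_univ_of_card
    rw [hcard, ← Nat.card_eq_fintype_card, hP.1]
  have hmem : (⟨x * z, P.mul_mem hx hz⟩ : P) ∈ S := by rw [hS]; exact Finset.mem_univ _
  simp only [S, Finset.mem_insert, Finset.mem_singleton, Subtype.mk.injEq] at hmem
  rcases hmem with h | h | h | h
  · exfalso
    have : (x * z : G) = 1 := congrArg Subtype.val h
    have hx2 := hP.2 x hx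
    apply hzx
    calc z = (x * x) * z := by rw [hx2, one_mul]
      _ = x * (x * z) := by rw [mul_assoc]
      _ = x := by rw [this, mul_one]
  · exfalso
    apply hx1
    have : x * z = 1 * z := by rw [one_mul]; exact h
    exact mul_right_cancel this
  · exfalso
    apply hz1
    have : x * z = x * 1 := by rw [mul_one]; exact h
    exact mul_left_cancel this
  · exact h.symm

/-- A Klein four Sylow `2`-subgroup containing a central involution is centralized by its
normalizer. -/
theorem kleinFour_normalizer_le_centralizer [Finite G] (P : Sylow 2 G)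
    (hP : IsK4 (P : Subgroup G)) {z : G} (hzP : z ∈ (P : Subgroup G)) (hz1 : z ≠ 1)
    (hzc : z ∈ Subgroup.center G) :
    Subgroup.normalizer ((P : Subgroup G) : Set G) ≤
      Subgroup.centralizer ((P : Subgroup G) : Set G) := by
  intro n hn
  rw [Subgroup.mem_centralizer_iff]
  intro x hx
  have hx : x ∈ (P : Subgroup G) := hx
  by_contra hne
  have hzn : ∀ g : G, g * z = z * g := fun g => Subgroup.mem_center_iff.1 hzc g
  rw [Subgroup.mem_normalizer_iff] at hn
  set x' := n * x * n⁻¹ with hx'def
  have hx' : x' ∈ (P : Subgroup G) := (hn x).1 hx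
  have hxx' : x ≠ x' := by
    intro h
    apply hne
    have : x * n = n * x * n⁻¹ * n := by rw [← hx'def, ← h]
    rw [this, inv_mul_cancel_right]
  have hx1 : x ≠ 1 := by
    rintro rfl
    apply hxx'
    rw [hx'def, mul_one, mul_inv_cancel]
  have hx'1 : x' ≠ 1 := by
    intro h
    apply hx1
    have : n * x * n⁻¹ = n * 1 * n⁻¹ := by rw [mul_one, mul_inv_cancel]; exact h
    exact mul_left_cancel (mul_right_cancel this)
  have hzx : z ≠ x := by
    rintro rfl
    apply hxx'
    rw [hx'def, hzn n, mul_inv_cancel_right]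
  have hzx' : z ≠ x' := by
    intro h
    apply hzx
    have : n * x * n⁻¹ = n * z * n⁻¹ := by rw [hzn n, mul_inv_cancel_right]; exact h.symm
    exact (mul_left_cancel (mul_right_cancel this)).symm
  have h4 : x' = x * z := kleinFour_fourth hP hzP hx hx' hz1 hx1 hx'1 hzx hzx' hxx'
  have hz2 : z * z = 1 := hP.2 z hzP
  -- conjugation by powers of `n`
  have hpow : ∀ k : ℕ, n ^ k * x * (n ^ k)⁻¹ = x * z ^ k := by
    intro k
    induction k with
    | zero => simp
    | succ k ih =>
      have e1 : n ^ (k + 1) * x * (n ^ (k + 1))⁻¹ = n * (n ^ k * x * (n ^ k)⁻¹) * n⁻¹ := by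
        rw [pow_succ']
        group
      rw [e1, ih]
      have e2 : n * (x * z ^ k) * n⁻¹ = (n * x * n⁻¹) * (n * z ^ k * n⁻¹) := by group
      rw [e2, ← hx'def, h4]
      have e3 : n * z ^ k * n⁻¹ = z ^ k := by
        have : n * z ^ k = z ^ k * n := by
          have := Commute.pow_right (show Commute n z from hzn n) k
          exact this.eq
        rw [this, mul_inv_cancel_right]
      rw [e3, pow_succ', mul_assoc]
  -- the odd part of the order of `n`
  obtain ⟨a, m, hm, hnm⟩ := Nat.exists_eq_two_pow_mul_odd (orderOf_pos n).ne'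
  set g := n ^ m with hg
  have hgord : g ^ (2 ^ a) = 1 := by
    rw [hg, ← pow_mul, mul_comm, ← hnm]
    exact pow_orderOf_eq_one n
  have hgN : g ∈ Subgroup.normalizer ((P : Subgroup G) : Set G) := by
    apply Subgroup.pow_mem
    rw [Subgroup.mem_normalizer_iff]
    exact hn
  have hgP : g ∈ (P : Subgroup G) := by
    have hpg : IsPGroup 2 (Subgroup.zpowers g) := by
      intro y
      refine ⟨a, ?_⟩
      obtain ⟨y, hy⟩ := y
      obtain ⟨k, rfl⟩ := Subgroup.mem_zpowers_iff.1 hy
      apply Subtype.ext
      show (g ^ k) ^ (2 ^ a) = 1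
      rw [← zpow_natCast, ← zpow_mul, mul_comm, zpow_mul, zpow_natCast, hgord, one_zpow]
    have h1 := hpg.inf_normalizer_sylow P
    have h2 : g ∈ Subgroup.zpowers g ⊓ Subgroup.normalizer ((P : Subgroup G) : Set G) :=
      ⟨Subgroup.mem_zpowers g, hgN⟩
    have h3 : g ∈ Subgroup.zpowers g ⊓ (P : Subgroup G) := by
      rw [← h1]
      exact h2
    exact h3.2
  have h5 := hpow m
  rw [← hg] at h5
  have hzm : z ^ m = z := by
    obtain ⟨j, rfl⟩ := hm
    rw [pow_succ, pow_mul, pow_two, hz2, one_pow, one_mul]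
  rw [hzm, kleinFour_comm hP hgP hx, mul_inv_cancel_right] at h5
  apply hz1
  have : x * 1 = x * z := by rw [mul_one]; exact h5
  exact (mul_left_cancel this).symm

end

end Cfsg.Agent.Lib.Helper8
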