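import Mathlib
import Cfsg.Prelude.Def_Solvable
import Cfsg.Agent.Lib.Helper8.KF1
import Cfsg.Agent.Lib.Helper6.PPrimeCore

/-!
# Klein four Sylow 2-subgroups: centralizers of involutions have normal 2-complements
-/

set_option autoImplicit false

namespace Cfsg.Agent.Lib.Helper8

open Cfsg

universe u

section

variable {G : Type u} [Group G]

theorem pPrimeCore_index_of_isComplement' {p : ℕ} [Fact p.Prime] [Finite G] (P : Sylow p G)
    (N : Subgroup G) (hN : N.Normal) (h : N.IsComplement' (P : Subgroup G)) :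
    (pPrimeCore p G).index = Nat.card P := by
  have hcard : Nat.card N * Nat.card P = Nat.card G := h.card_mul_card
  have hidx : Nat.card N = (P : Subgroup G).index := by
    have h2 := (P : Subgroup G).card_mul_index
    have hP0 : 0 < Nat.card P := Nat.card_pos
    apply Nat.eq_of_mul_eq_mul_left hP0
    rw [h2, mul_comm, hcard]
  have hNcop : (Nat.card N).Coprime p := by
    rw [hidx]
    have := P.card_coprime_index
    obtain ⟨k, hk⟩ := P.2.exists_card_eq
    by_cases hk0 : k = 0
    · rw [Nat.coprime_comm, Nat.Prime.coprime_iff_not_dvd (Fact.out : p.Prime)]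
      exact P.not_dvd_index
    · rw [Nat.coprime_comm, Nat.Prime.coprime_iff_not_dvd (Fact.out : p.Prime)]
      exact P.not_dvd_index
  have hle : N ≤ pPrimeCore p G := Cfsg.Agent.Lib.Helper6.le_pPrimeCore hN hNcop
  have hcc := Cfsg.Agent.Lib.Helper6.pPrimeCore_coprime (G := G) p
  have hdvd : Nat.card (pPrimeCore p G) ∣ Nat.card N := by
    have h1 : Nat.card (pPrimeCore p G) ∣ Nat.card N * Nat.card P := by
      rw [hcard]; exact Subgroup.card_subgroup_dvd_card _
    obtain ⟨k, hk⟩ := P.2.exists_card_eq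
    rw [hk] at h1
    exact (Nat.Coprime.pow_right k hcc).dvd_of_dvd_mul_right h1
  have heq : N = pPrimeCore p G :=
    Subgroup.eq_of_le_of_card_ge hle (Nat.le_of_dvd Nat.card_pos hdvd)
  rw [← heq]
  have h3 := N.card_mul_index
  have hN0 : 0 < Nat.card N := Nat.card_pos
  apply Nat.eq_of_mul_eq_mul_left hN0
  rw [h3, hcard]

theorem kleinFour_central_pPrimeCore_index [Finite G] (P : Sylow 2 G)
    (hP : IsK4 (P : Subgroup G)) {z : G} (hzP : z ∈ (P : Subgroup G)) (hz1 : z ≠ 1)
    (hzc : z ∈ Subgroup.center G) : (pPrimeCore 2 G).index = 4 := by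
  haveI : Fact (Nat.Prime 2) := ⟨Nat.prime_two⟩
  have hNC := kleinFour_normalizer_le_centralizer P hP hzP hz1 hzc
  have hcompl := MonoidHom.ker_transferSylow_isComplement' P hNC
  rw [pPrimeCore_index_of_isComplement' P _ inferInstance hcompl]
  exact hP.1

theorem kleinFour_centralizer_index [Finite G] (P : Sylow 2 G) (hP : IsK4 (P : Subgroup G))
    {z : G} (hzP : z ∈ (P : Subgroup G)) (hz1 : z ≠ 1) :
    (pPrimeCore 2 (Subgroup.centralizer ({z} : Set G))).index = 4 ∧
      (Nat.card (Subgroup.centralizer ({z} : Set G))).factorization 2 = 2 := by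
  haveI : Fact (Nat.Prime 2) := ⟨Nat.prime_two⟩
  set H := Subgroup.centralizer ({z} : Set G) with hH
  have hle : (P : Subgroup G) ≤ H := by
    intro g hg
    rw [hH, Subgroup.mem_centralizer_singleton_iff]
    exact kleinFour_comm hP hg hzP
  let Q : Sylow 2 H := P.subtype hle
  have hQcoe : (Q : Subgroup H) = (P : Subgroup G).subgroupOf H := rfl
  have hQcard : Nat.card (Q : Subgroup H) = 4 := by
    rw [hQcoe, Nat.card_congr (Subgroup.subgroupOfEquivOfLe hle).toEquiv]
    exact hP.1
  have hQ : IsK4 (Q : Subgroup H) := by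
    refine ⟨hQcard, fun g hg => ?_⟩
    rw [hQcoe, Subgroup.mem_subgroupOf] at hg
    exact Subtype.ext (hP.2 _ hg)
  have hzH : z ∈ H := by
    rw [hH, Subgroup.mem_centralizer_singleton_iff]
  have hzQ : (⟨z, hzH⟩ : H) ∈ (Q : Subgroup H) := by
    rw [hQcoe, Subgroup.mem_subgroupOf]
    exact hzP
  have hz1' : (⟨z, hzH⟩ : H) ≠ 1 := by
    intro h
    exact hz1 (congrArg Subtype.val h)
  have hzc : (⟨z, hzH⟩ : H) ∈ Subgroup.center H := by
    rw [Subgroup.mem_center_iff]
    intro h
    apply Subtype.ext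
    have := Subgroup.mem_centralizer_singleton_iff.1 h.2
    exact this
  refine ⟨kleinFour_central_pPrimeCore_index Q hQ hzQ hz1' hzc, ?_⟩
  have h1 := Q.card_eq_multiplicity
  rw [hQcard] at h1
  have h2 : (2 : ℕ) ^ 2 = 2 ^ (Nat.card H).factorization 2 := by
    rw [← h1]; norm_num
  exact (Nat.pow_right_injective (le_refl 2) h2).symm

end

end Cfsg.Agent.Lib.Helper8
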