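import Mathlib

set_option autoImplicit false

/-!
# Lifting fixed-point-free modules to characteristic zero, part 1

Basic definitions: the norm element `N_h = ∑_{i < o(h)} h^i` of the group algebra and the
(two-sided) ideal generated by all `N_h`, `h ≠ 1`.  A `k[H]`-module on which every `h ≠ 1` acts
without nonzero fixed points is killed by this ideal.
-/

namespace Cfsg.Agent.Lib.Helper8.FpfLift

open MonoidAlgebra

variable (k : Type*) [CommRing k] {H : Type*} [Group H]

/-- The norm element `∑_{i < o(h)} h^i`. -/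
noncomputable def normEl (h : H) : MonoidAlgebra k H :=
  ∑ i ∈ Finset.range (orderOf h), MonoidAlgebra.of k H (h ^ i)

/-- The left ideal generated by all `N_h * b` (`h ≠ 1`); it is two-sided. -/
noncomputable def fpfIdeal (H : Type*) [Group H] : Ideal (MonoidAlgebra k H) :=
  Ideal.span {x | ∃ h b : H, h ≠ 1 ∧ x = normEl k h * MonoidAlgebra.of k H b}

variable {k}

theorem of_mul_normEl [Finite H] (h : H) :
    MonoidAlgebra.of k H h * normEl k h = normEl k h := by
  unfold normEl
  rw [Finset.mul_sum]
  have h1 : ∀ i ∈ Finset.range (orderOf h),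
      MonoidAlgebra.of k H h * MonoidAlgebra.of k H (h ^ i) = MonoidAlgebra.of k H (h ^ (i + 1)) := by
    intro i _
    rw [← map_mul, pow_succ']
  rw [Finset.sum_congr rfl h1]
  have hpos : 0 < orderOf h := orderOf_pos h
  obtain ⟨n, hn⟩ : ∃ n, orderOf h = n + 1 := ⟨orderOf h - 1, by omega⟩
  rw [hn, Finset.sum_range_succ, Finset.sum_range_succ' (fun i => MonoidAlgebra.of k H (h ^ i))]
  rw [← hn, pow_orderOf_eq_one, pow_zero]

theorem of_pow_mul_normEl [Finite H] (h : H) (i : ℕ) :
    MonoidAlgebra.of k H (h ^ i) * normEl k h = normEl k h := by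
  induction i with
  | zero => rw [pow_zero, map_one, one_mul]
  | succ i ih => rw [pow_succ, map_mul, mul_assoc, of_mul_normEl, ih]

theorem normEl_mul_self [Finite H] (h : H) :
    normEl k h * normEl k h = orderOf h • normEl k h := by
  have h1 : normEl k h * normEl k h =
      ∑ i ∈ Finset.range (orderOf h), MonoidAlgebra.of k H (h ^ i) * normEl k h := by
    rw [← Finset.sum_mul]; rfl
  rw [h1, Finset.sum_congr rfl (fun i _ => of_pow_mul_normEl h i)]
  simp

theorem map_normEl {k' : Type*} [CommRing k'] (f : k →+* k') (h : H) :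
    MonoidAlgebra.mapRingHom H f (normEl k h) = normEl k' h := by
  unfold normEl
  rw [map_sum]
  refine Finset.sum_congr rfl (fun i _ => ?_)
  simp [MonoidAlgebra.of_apply]

theorem normEl_mul_of_mem_fpfIdeal {h : H} (hh : h ≠ 1) (b : H) :
    normEl k h * MonoidAlgebra.of k H b ∈ fpfIdeal k H :=
  Ideal.subset_span ⟨h, b, hh, rfl⟩

theorem fpfIdeal_mul_of_mem {x : MonoidAlgebra k H} (hx : x ∈ fpfIdeal k H) (g : H) :
    x * MonoidAlgebra.of k H g ∈ fpfIdeal k H := by
  unfold fpfIdeal at hx ⊢
  induction hx using Submodule.span_induction with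
  | mem x hx =>
    obtain ⟨h, b, hh, rfl⟩ := hx
    rw [mul_assoc, ← map_mul]
    exact Ideal.subset_span ⟨h, b * g, hh, rfl⟩
  | zero => simp
  | add x y _ _ hx hy => rw [add_mul]; exact Ideal.add_mem _ hx hy
  | smul a x _ hx => rw [smul_eq_mul, mul_assoc]; exact Ideal.mul_mem_left _ _ hx

theorem fpfIdeal_mul_mem {x : MonoidAlgebra k H} (hx : x ∈ fpfIdeal k H)
    (y : MonoidAlgebra k H) : x * y ∈ fpfIdeal k H := by
  induction y using MonoidAlgebra.induction_on with
  | of g => exact fpfIdeal_mul_of_mem hx g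
  | add y z hy hz => rw [mul_add]; exact Ideal.add_mem _ hy hz
  | smul r y hy => rw [mul_smul_comm]; exact Submodule.smul_of_tower_mem _ r hy

theorem normEl_mul_mem_fpfIdeal {h : H} (hh : h ≠ 1) (y : MonoidAlgebra k H) :
    normEl k h * y ∈ fpfIdeal k H := by
  have := fpfIdeal_mul_mem (normEl_mul_of_mem_fpfIdeal (k := k) hh 1) y
  rwa [map_one, mul_one] at this

theorem map_mem_fpfIdeal {k' : Type*} [CommRing k'] (f : k →+* k') {x : MonoidAlgebra k H}
    (hx : x ∈ fpfIdeal k H) : MonoidAlgebra.mapRingHom H f x ∈ fpfIdeal k' H := by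
  unfold fpfIdeal at hx
  induction hx using Submodule.span_induction with
  | mem x hx =>
    obtain ⟨h, b, hh, rfl⟩ := hx
    rw [map_mul, map_normEl]
    have : MonoidAlgebra.mapRingHom H f (MonoidAlgebra.of k H b) = MonoidAlgebra.of k' H b := by
      simp [MonoidAlgebra.of_apply]
    rw [this]
    exact normEl_mul_of_mem_fpfIdeal hh b
  | zero => simp
  | add x y _ _ hx hy => rw [map_add]; exact Ideal.add_mem _ hx hy
  | smul a x _ hx => rw [smul_eq_mul, map_mul]; exact Ideal.mul_mem_left _ _ hx

end Cfsg.Agent.Lib.Helper8.FpfLift
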