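import Mathlib
import Cfsg.Agent.Lib.Helper8.FpfLift1

set_option autoImplicit false

/-!
# Lifting fixed-point-free modules, part 2: a fixed-point-free module is killed by `fpfIdeal`
-/

namespace Cfsg.Agent.Lib.Helper8.FpfLift

open MonoidAlgebra

variable {k : Type*} [CommRing k] {H : Type*} [Group H] [Finite H]
  {M : Type*} [AddCommGroup M] [Module k M]

/-- If every `h ≠ 1` acts without nonzero fixed points, the norm elements act as zero. -/
theorem lift_normEl_eq_zero (ρ : H →* (M →ₗ[k] M))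
    (hfpf : ∀ h : H, h ≠ 1 → ∀ m : M, ρ h m = m → m = 0) {h : H} (hh : h ≠ 1) :
    MonoidAlgebra.lift k (M →ₗ[k] M) H ρ (normEl k h) = 0 := by
  ext m
  apply hfpf h hh
  have h1 := congrArg (MonoidAlgebra.lift k (M →ₗ[k] M) H ρ) (of_mul_normEl (k := k) h)
  rw [map_mul, MonoidAlgebra.lift_of] at h1
  have h2 := LinearMap.congr_fun h1 m
  simpa using h2

theorem lift_eq_zero_of_mem_fpfIdeal (ρ : H →* (M →ₗ[k] M))
    (hfpf : ∀ h : H, h ≠ 1 → ∀ m : M, ρ h m = m → m = 0) {x : MonoidAlgebra k H}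
    (hx : x ∈ fpfIdeal k H) : MonoidAlgebra.lift k (M →ₗ[k] M) H ρ x = 0 := by
  unfold fpfIdeal at hx
  induction hx using Submodule.span_induction with
  | mem x hx =>
    obtain ⟨h, b, hh, rfl⟩ := hx
    rw [map_mul, lift_normEl_eq_zero ρ hfpf hh, zero_mul]
  | zero => simp
  | add x y _ _ hx hy => rw [map_add, hx, hy, add_zero]
  | smul a x _ hx => rw [smul_eq_mul, map_mul, hx, mul_zero]

/-- **Claim 1.** A nonzero module with fixed-point-free action shows `1 ∉ fpfIdeal`. -/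
theorem one_notMem_fpfIdeal_of_fpf [Nontrivial M] (ρ : H →* (M →ₗ[k] M))
    (hfpf : ∀ h : H, h ≠ 1 → ∀ m : M, ρ h m = m → m = 0) :
    (1 : MonoidAlgebra k H) ∉ fpfIdeal k H := by
  intro h1
  have h2 := lift_eq_zero_of_mem_fpfIdeal ρ hfpf h1
  rw [map_one] at h2
  obtain ⟨m, hm⟩ := exists_ne (0 : M)
  apply hm
  have := LinearMap.congr_fun h2 m
  simpa using this

end Cfsg.Agent.Lib.Helper8.FpfLift
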