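import Mathlib
import Cfsg.Agent.Lib.Helper8.FpfLift1

set_option autoImplicit false

/-!
# Lifting fixed-point-free modules, part 3: the key lemma

If `p ∤ |H|` and `1 ∉ fpfIdeal (ZMod p) H`, then `fpfIdeal ℤ H` contains no nonzero integer.
-/

namespace Cfsg.Agent.Lib.Helper8.FpfLift

open MonoidAlgebra

variable {H : Type*} [Group H] [Finite H] {p : ℕ} [Fact p.Prime]

/-- Reduction mod `p` of the integral group ring. -/
noncomputable abbrev red (p : ℕ) (H : Type*) [Group H] :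
    MonoidAlgebra ℤ H →+* MonoidAlgebra (ZMod p) H :=
  MonoidAlgebra.mapRingHom H (Int.castRingHom (ZMod p))

omit [Finite H] in
theorem red_surjective : Function.Surjective (red p H) := by
  have := MonoidAlgebra.map_surjective (M := H) (Int.castRingHom (ZMod p)).toAddMonoidHom
    (ZMod.intCast_surjective)
  exact this

omit [Finite H] in
theorem exists_eq_mul_of_red_eq_zero {x : MonoidAlgebra ℤ H} (hx : red p H x = 0) :
    ∃ y : MonoidAlgebra ℤ H, x = (p : ℤ) • y := by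
  have hdvd : ∀ g : H, (p : ℤ) ∣ x.coeff g := by
    intro g
    have h1 : (red p H x).coeff g = 0 := by rw [hx]; rfl
    rw [MonoidAlgebra.coeff_mapRingHom] at h1
    exact (ZMod.intCast_zmod_eq_zero_iff_dvd _ _).mp h1
  refine ⟨MonoidAlgebra.ofCoeff (x.coeff.mapRange (fun n => n / (p : ℤ)) (by simp)), ?_⟩
  apply MonoidAlgebra.coeff_injective
  ext g
  rw [MonoidAlgebra.coeff_smul_apply]
  simp only [Finsupp.mapRange_apply, smul_eq_mul]
  exact (Int.mul_ediv_cancel' (hdvd g)).symm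

/-- The complementary idempotent from Maschke's theorem. -/
theorem exists_idem (hp : ¬ p ∣ Nat.card H)
    (h1 : (1 : MonoidAlgebra (ZMod p) H) ∉ fpfIdeal (ZMod p) H) :
    ∃ f : MonoidAlgebra (ZMod p) H, f ≠ 0 ∧ f * f = f ∧
      ∀ x ∈ fpfIdeal (ZMod p) H, x * f = 0 := by
  have : NeZero (Nat.card H : ZMod p) := ⟨by
    rw [Ne, ZMod.natCast_eq_zero_iff]; exact hp⟩
  obtain ⟨L, hL⟩ := MonoidAlgebra.Submodule.exists_isCompl (fpfIdeal (ZMod p) H)
  have htop : (1 : MonoidAlgebra (ZMod p) H) ∈ fpfIdeal (ZMod p) H ⊔ L := by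
    rw [hL.sup_eq_top]; trivial
  obtain ⟨e, he, f, hf, hef⟩ := Submodule.mem_sup.mp htop
  have hkill : ∀ x ∈ fpfIdeal (ZMod p) H, x * f = 0 := by
    intro x hx
    have h2 : x * f ∈ fpfIdeal (ZMod p) H := fpfIdeal_mul_mem hx f
    have h3 : x * f ∈ L := by
      have := L.smul_mem x hf
      rwa [smul_eq_mul] at this
    have h4 : x * f ∈ fpfIdeal (ZMod p) H ⊓ L := ⟨h2, h3⟩
    rw [hL.inf_eq_bot] at h4
    exact (Submodule.mem_bot _).mp h4
  refine ⟨f, ?_, ?_, hkill⟩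
  · rintro rfl
    rw [add_zero] at hef
    exact h1 (hef ▸ he)
  · have : f = (e + f) * f := by rw [hef, one_mul]
    rw [add_mul, hkill e he, zero_add] at this
    exact this.symm

omit [Fact p.Prime] in
/-- The main induction. -/
theorem key_induction (f : MonoidAlgebra ℤ H)
    (hf : ∀ x ∈ fpfIdeal ℤ H, ∃ y : MonoidAlgebra ℤ H, x * f = (p : ℤ) • y) (n : ℕ) :
    ∀ x ∈ fpfIdeal ℤ H, ∃ y : MonoidAlgebra ℤ H,
      ((Nat.card H : ℤ) ^ n) • (x * f ^ (n + 1)) = ((p : ℤ) ^ (n + 1)) • y := by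
  induction n with
  | zero =>
    intro x hx
    obtain ⟨y, hy⟩ := hf x hx
    exact ⟨y, by simpa using hy⟩
  | succ n ih =>
    intro x hx
    unfold fpfIdeal at hx
    induction hx using Submodule.span_induction with
    | mem x hx =>
      obtain ⟨h, b, hh, rfl⟩ := hx
      obtain ⟨c', hc'⟩ : ∃ c' : ℤ, (Nat.card H : ℤ) = c' * (orderOf h : ℤ) := by
        obtain ⟨d, hd⟩ := orderOf_dvd_natCard h
        exact ⟨d, by rw [hd]; push_cast; ring⟩
      obtain ⟨y1, hy1⟩ := hf _ (normEl_mul_of_mem_fpfIdeal (k := ℤ) hh b)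
      obtain ⟨y2, hy2⟩ := ih _ (normEl_mul_mem_fpfIdeal (k := ℤ) hh y1)
      refine ⟨c' • y2, ?_⟩
      have hss : (orderOf h : ℤ) • normEl ℤ h = normEl ℤ h * normEl ℤ h := by
        rw [normEl_mul_self]; simp
      have e1 : ((Nat.card H : ℤ) ^ (n + 1)) • (normEl ℤ h * MonoidAlgebra.of ℤ H b * f ^ (n + 1 + 1))
          = (c' * (Nat.card H : ℤ) ^ n) •
            (((orderOf h : ℤ) • normEl ℤ h) * MonoidAlgebra.of ℤ H b * f ^ (n + 1 + 1)) := by
        rw [smul_mul_assoc, smul_mul_assoc, smul_smul, pow_succ, hc']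
        congr 1; ring
      rw [e1, hss]
      have e2 : normEl ℤ h * normEl ℤ h * MonoidAlgebra.of ℤ H b * f ^ (n + 1 + 1)
          = normEl ℤ h * ((normEl ℤ h * MonoidAlgebra.of ℤ H b) * f) * f ^ (n + 1) := by
        rw [pow_succ' f (n + 1)]; simp only [mul_assoc]
      rw [e2, hy1, mul_smul_comm, smul_mul_assoc, smul_smul, mul_comm _ (p : ℤ), ← smul_smul,
        ← smul_smul, hy2, smul_smul, smul_smul, smul_smul]
      congr 1; ring
    | zero => exact ⟨0, by simp⟩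
    | add x y _ _ hx hy =>
      obtain ⟨y1, hy1⟩ := hx
      obtain ⟨y2, hy2⟩ := hy
      exact ⟨y1 + y2, by rw [add_mul, smul_add, hy1, hy2, smul_add]⟩
    | smul a x _ hx =>
      obtain ⟨y1, hy1⟩ := hx
      exact ⟨a * y1, by rw [smul_eq_mul, mul_assoc, ← mul_smul_comm, hy1, mul_smul_comm]⟩

/-- **Claim 2 (key lemma).** -/
theorem int_eq_zero_of_mem_fpfIdeal (hp : ¬ p ∣ Nat.card H)
    (h1 : (1 : MonoidAlgebra (ZMod p) H) ∉ fpfIdeal (ZMod p) H)
    (m : ℤ) (hm : (m : MonoidAlgebra ℤ H) ∈ fpfIdeal ℤ H) : m = 0 := by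
  by_contra hm0
  have hpp : p.Prime := Fact.out
  obtain ⟨fb, hfb0, hfbi, hfbk⟩ := exists_idem hp h1
  obtain ⟨f, rfl⟩ := red_surjective (p := p) (H := H) fb
  have hf : ∀ x ∈ fpfIdeal ℤ H, ∃ y : MonoidAlgebra ℤ H, x * f = (p : ℤ) • y := by
    intro x hx
    apply exists_eq_mul_of_red_eq_zero (p := p)
    rw [map_mul]
    exact hfbk _ (map_mem_fpfIdeal _ hx)
  -- write `m = p ^ a * m'`
  obtain ⟨a, m', hm', hmm⟩ : ∃ (a : ℕ) (m' : ℤ), ¬ (p : ℤ) ∣ m' ∧ m = (p : ℤ) ^ a * m' := by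
    obtain ⟨a, n', hn', hn⟩ := Nat.exists_eq_pow_mul_and_not_dvd (Int.natAbs_ne_zero.mpr hm0) p
      hpp.ne_one
    rcases Int.natAbs_eq m with h | h
    · refine ⟨a, n', ?_, ?_⟩
      · exact_mod_cast hn'
      · rw [h, hn]; push_cast; ring
    · refine ⟨a, -n', ?_, ?_⟩
      · rw [Int.dvd_neg]; exact_mod_cast hn'
      · rw [h, hn]; push_cast; ring
  obtain ⟨y, hy⟩ := key_induction f hf a _ hm
  -- compare coefficients
  have hcoef : ∀ g : H, (p : ℤ) ∣ (f ^ (a + 1)).coeff g := by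
    intro g
    have h2 := congrArg (fun z : MonoidAlgebra ℤ H => z.coeff g) hy
    simp only [MonoidAlgebra.coeff_smul_apply, smul_eq_mul] at h2
    have h3 : ((m : MonoidAlgebra ℤ H) * f ^ (a + 1)).coeff g = m * (f ^ (a + 1)).coeff g := by
      rw [← zsmul_eq_mul, MonoidAlgebra.coeff_smul_apply, smul_eq_mul]
    rw [h3, hmm] at h2
    have h4 : (p : ℤ) ^ a * ((Nat.card H : ℤ) ^ a * m' * (f ^ (a + 1)).coeff g)
        = (p : ℤ) ^ a * ((p : ℤ) * y.coeff g) := by
      linear_combination h2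
    have hpa : (p : ℤ) ^ a ≠ 0 := pow_ne_zero _ (by exact_mod_cast hpp.ne_zero)
    have h5 := mul_left_cancel₀ hpa h4
    have hpZ : Prime (p : ℤ) := Nat.prime_iff_prime_int.mp hpp
    have h6 : (p : ℤ) ∣ (Nat.card H : ℤ) ^ a * m' * (f ^ (a + 1)).coeff g := ⟨_, h5⟩
    rcases hpZ.dvd_or_dvd h6 with h7 | h7
    · rcases hpZ.dvd_or_dvd h7 with h8 | h8
      · exfalso
        have := hpZ.dvd_of_dvd_pow h8
        exact hp (by exact_mod_cast this)
      · exact absurd h8 hm'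
    · exact h7
  have hzero : (red p H f) ^ (a + 1) = 0 := by
    rw [← map_pow]
    apply MonoidAlgebra.coeff_injective
    ext g
    rw [MonoidAlgebra.coeff_mapRingHom]
    simpa using (ZMod.intCast_zmod_eq_zero_iff_dvd _ _).mpr (hcoef g)
  have hidem : IsIdempotentElem (red p H f) := hfbi
  rw [hidem.pow_succ_eq] at hzero
  exact hfb0 hzero

end Cfsg.Agent.Lib.Helper8.FpfLift
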