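import Mathlib
import Cfsg.Agent.Lib.Helper8.FpfLift1

set_option autoImplicit false

/-!
# Lifting fixed-point-free modules, part 6: an irreducible fixed-point-free matrix representation

If `F` is a field of characteristic zero and `1 ∉ fpfIdeal F H`, a minimal left ideal inside a
Maschke complement of `fpfIdeal F H` gives a faithful irreducible matrix representation of `H`
over `F` in which no non-identity element has a nonzero fixed vector.
-/

namespace Cfsg.Agent.Lib.Helper8.FpfLift

open MonoidAlgebra

variable {H : Type*} [Group H] [Finite H] {F : Type*} [Field F] [CharZero F]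

theorem exists_atom_killed (h1 : (1 : MonoidAlgebra F H) ∉ fpfIdeal F H) :
    ∃ W : Submodule (MonoidAlgebra F H) (MonoidAlgebra F H), IsAtom W ∧
      ∀ h : H, h ≠ 1 → ∀ w ∈ W, normEl F h * w = 0 := by
  obtain ⟨L, hL⟩ := MonoidAlgebra.Submodule.exists_isCompl (fpfIdeal F H)
  have hLbot : L ≠ ⊥ := by
    rintro rfl
    have := hL.sup_eq_top
    rw [sup_bot_eq] at this
    apply h1
    have h2 : (1 : MonoidAlgebra F H) ∈ (⊤ : Submodule (MonoidAlgebra F H) (MonoidAlgebra F H)) :=
      trivial
    rw [← this] at h2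
    exact h2
  rcases eq_bot_or_exists_atom_le L with h | ⟨W, hW, hWL⟩
  · exact absurd h hLbot
  refine ⟨W, hW, fun h hh w hw => ?_⟩
  have h2 : normEl F h * w ∈ fpfIdeal F H := normEl_mul_mem_fpfIdeal hh w
  have h3 : normEl F h * w ∈ L := by
    have := L.smul_mem (normEl F h) (hWL hw)
    rwa [smul_eq_mul] at this
  have h4 : normEl F h * w ∈ fpfIdeal F H ⊓ L := ⟨h2, h3⟩
  rw [hL.inf_eq_bot] at h4
  exact (Submodule.mem_bot _).mp h4

theorem eq_zero_of_fixed {w : MonoidAlgebra F H} {h : H}
    (hk : normEl F h * w = 0) (hfix : MonoidAlgebra.of F H h * w = w) : w = 0 := by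
  have h1 : ∀ i : ℕ, MonoidAlgebra.of F H (h ^ i) * w = w := by
    intro i
    induction i with
    | zero => rw [pow_zero, map_one, one_mul]
    | succ i ih => rw [pow_succ, map_mul, mul_assoc, hfix, ih]
  have h2 : normEl F h * w = (orderOf h : F) • w := by
    unfold normEl
    rw [Finset.sum_mul, Finset.sum_congr rfl (fun i _ => h1 i)]
    simp [Nat.cast_smul_eq_nsmul]
  rw [hk] at h2
  have h3 : (orderOf h : F) ≠ 0 := by
    exact_mod_cast (orderOf_pos h).ne'
  rcases smul_eq_zero.mp h2.symm with h4 | h4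
  · exact absurd h4 h3
  · exact h4

/-- Left multiplication by group elements on a left ideal, as `F`-linear maps. -/
noncomputable def leftMulRep (W : Submodule (MonoidAlgebra F H) (MonoidAlgebra F H)) :
    H →* (↥(W.restrictScalars F) →ₗ[F] ↥(W.restrictScalars F)) where
  toFun g :=
    { toFun := fun w => ⟨MonoidAlgebra.of F H g * w.1, by
        have := W.smul_mem (MonoidAlgebra.of F H g) w.2
        rwa [smul_eq_mul] at this⟩
      map_add' := fun x y => by
        apply Subtype.ext
        simp [mul_add]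
      map_smul' := fun c x => by
        apply Subtype.ext
        simp }
  map_one' := by
    apply LinearMap.ext
    intro w
    apply Subtype.ext
    show MonoidAlgebra.of F H 1 * w.1 = w.1
    rw [map_one, one_mul]
  map_mul' a b := by
    apply LinearMap.ext
    intro w
    apply Subtype.ext
    show MonoidAlgebra.of F H (a * b) * w.1
      = MonoidAlgebra.of F H a * (MonoidAlgebra.of F H b * w.1)
    rw [map_mul, mul_assoc]

omit [Finite H] [CharZero F] in
theorem leftMulRep_apply_coe (W : Submodule (MonoidAlgebra F H) (MonoidAlgebra F H)) (g : H)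
    (w : ↥(W.restrictScalars F)) :
    ((leftMulRep W g w : ↥(W.restrictScalars F)) : MonoidAlgebra F H)
      = MonoidAlgebra.of F H g * (w : MonoidAlgebra F H) := rfl

omit [Finite H] [CharZero F] in
theorem mul_mem_of_forall_of {U : Submodule F (MonoidAlgebra F H)}
    (hU : ∀ (g : H) (x : MonoidAlgebra F H), x ∈ U → MonoidAlgebra.of F H g * x ∈ U)
    (a : MonoidAlgebra F H) {x : MonoidAlgebra F H} (hx : x ∈ U) : a * x ∈ U := by
  induction a using MonoidAlgebra.induction_on with
  | of g => exact hU g x hx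
  | add y z hy hz => rw [add_mul]; exact U.add_mem hy hz
  | smul r y hy => rw [smul_mul_assoc]; exact U.smul_mem r hy

/-- **The matrix representation.** -/
theorem exists_matrix_rep (h1 : (1 : MonoidAlgebra F H) ∉ fpfIdeal F H) :
    ∃ (n : ℕ) (ρ : H →* GL (Fin n) F), 0 < n ∧ Function.Injective ρ ∧
      (∀ W : Submodule F (Fin n → F),
        (∀ g : H, ∀ w ∈ W,
          ((ρ g : GL (Fin n) F) : Matrix (Fin n) (Fin n) F).mulVec w ∈ W) → W = ⊥ ∨ W = ⊤) ∧
      ∀ g : H, g ≠ 1 → ∀ v : Fin n → F,
        ((ρ g : GL (Fin n) F) : Matrix (Fin n) (Fin n) F).mulVec v = v → v = 0 := by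
  classical
  obtain ⟨W, hW, hkill⟩ := exists_atom_killed h1
  -- the `F`-space `W'`
  set W' : Submodule F (MonoidAlgebra F H) := W.restrictScalars F with hW'
  have hnt : Nontrivial ↥W' := by
    have hne : W ≠ ⊥ := hW.1
    obtain ⟨x, hx, hx0⟩ := (Submodule.ne_bot_iff W).mp hne
    exact ⟨⟨⟨x, hx⟩, 0, fun h => hx0 (congrArg Subtype.val h)⟩⟩
  let b := Module.finBasis F ↥W'
  let E : ↥W' ≃ₗ[F] (Fin (Module.finrank F ↥W') → F) := b.equivFun
  let T := leftMulRep W
  let ρ0 : H →* Matrix (Fin (Module.finrank F ↥W')) (Fin (Module.finrank F ↥W')) F :=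
    ((LinearMap.toMatrixAlgEquiv b : _ ≃ₐ[F] _) : _ →* _).comp T
  have hfpfW : ∀ g : H, g ≠ 1 → ∀ w : ↥W', T g w = w → w = 0 := by
    intro g hg w hw
    apply Subtype.ext
    apply eq_zero_of_fixed (hkill g hg w.1 w.2)
    have := congrArg Subtype.val hw
    rwa [leftMulRep_apply_coe] at this
  have key : ∀ (g : H) (w : ↥W'), ((ρ0.toHomUnits g : GL _ F) : Matrix _ _ F).mulVec (E w)
      = E (T g w) := by
    intro g w
    rw [MonoidHom.coe_toHomUnits]
    have := LinearMap.toMatrix_mulVec_repr b b (T g) w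
    have e : LinearMap.toMatrixAlgEquiv b (T g) = LinearMap.toMatrix b b (T g) := rfl
    simpa [ρ0, E, e, Module.Basis.equivFun_apply] using this
  refine ⟨Module.finrank F ↥W', ρ0.toHomUnits, Module.finrank_pos, ?_, ?_, ?_⟩
  · -- injective
    rw [injective_iff_map_eq_one]
    intro g hg
    by_contra hg1
    obtain ⟨w, hw⟩ := exists_ne (0 : ↥W')
    apply hw
    apply hfpfW g hg1
    apply E.injective
    rw [← key, hg]
    simp
  · -- irreducible
    intro Wt hWt
    -- the corresponding subspace of `W`
    let U0 : Submodule F (MonoidAlgebra F H) := (Wt.comap E.toLinearMap).map W'.subtype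
    have hU0mem : ∀ x, x ∈ U0 ↔ ∃ w : ↥W', E w ∈ Wt ∧ (w : MonoidAlgebra F H) = x := by
      intro x
      simp [U0, Submodule.mem_map]
    have hU0of : ∀ (g : H) (x : MonoidAlgebra F H), x ∈ U0 → MonoidAlgebra.of F H g * x ∈ U0 := by
      intro g x hx
      obtain ⟨w, hw, rfl⟩ := (hU0mem x).mp hx
      rw [hU0mem]
      refine ⟨T g w, ?_, rfl⟩
      rw [← key]
      exact hWt g _ hw
    let U : Submodule (MonoidAlgebra F H) (MonoidAlgebra F H) :=
      { carrier := U0
        add_mem' := fun hx hy => U0.add_mem hx hy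
        zero_mem' := U0.zero_mem
        smul_mem' := fun a x hx => by
          rw [smul_eq_mul]
          exact mul_mem_of_forall_of hU0of a hx }
    have hUmem : ∀ x, x ∈ U ↔ x ∈ U0 := fun x => Iff.rfl
    have hUW : U ≤ W := by
      intro x hx
      obtain ⟨w, -, rfl⟩ := (hU0mem x).mp ((hUmem x).mp hx)
      exact w.2
    rcases hW.le_iff.mp hUW with hU | hU
    · left
      rw [eq_bot_iff]
      intro v hv
      have h2 : ((E.symm v : ↥W') : MonoidAlgebra F H) ∈ U := by
        rw [hUmem, hU0mem]
        exact ⟨E.symm v, by simpa using hv, rfl⟩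
      rw [hU, Submodule.mem_bot] at h2
      have h3 : E.symm v = 0 := Subtype.ext h2
      have h4 : v = E (E.symm v) := (E.apply_symm_apply v).symm
      rw [h3, map_zero] at h4
      exact (Submodule.mem_bot _).mpr h4
    · right
      rw [eq_top_iff]
      intro v _
      have h2 : ((E.symm v : ↥W') : MonoidAlgebra F H) ∈ U := by
        rw [hU]; exact (E.symm v).2
      obtain ⟨w, hw, hwv⟩ := (hU0mem _).mp ((hUmem _).mp h2)
      have h3 : w = E.symm v := Subtype.ext hwv
      rw [h3, E.apply_symm_apply] at hw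
      exact hw
  · -- fixed-point-free
    intro g hg v hv
    have h2 : T g (E.symm v) = E.symm v := by
      apply E.injective
      rw [← key, E.apply_symm_apply, hv]
    have h3 := hfpfW g hg _ h2
    have h4 : v = E (E.symm v) := (E.apply_symm_apply v).symm
    rw [h3, map_zero] at h4
    exact h4

end Cfsg.Agent.Lib.Helper8.FpfLift
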