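import Mathlib
import Cfsg.Agent.Lib.Helper4.HallHigman

set_option autoImplicit false
open Pointwise

/-! The dual of Hall–Higman Lemma 1.2.3: in a `p`-solvable group with `O_p(G) = 1`,
`C_G(O_{p'}(G)) ≤ O_{p'}(G)`. -/

namespace Cfsg.Agent.Lib.Helper8.TB

open Cfsg Cfsg.Agent.Lib.Helper7 Cfsg.Agent.Lib.Helper4

variable {G : Type*} [Group G] [Finite G]

theorem centralizer_pPrimeCore_le_of_isPSolvable {p : ℕ} [hp : Fact p.Prime]
    (hG : Cfsg.IsPSolvable p G) (hred : Cfsg.pCore p G = ⊥) :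
    Subgroup.centralizer ((Cfsg.pPrimeCore p G : Subgroup G) : Set G) ≤ Cfsg.pPrimeCore p G := by
  classical
  obtain ⟨R, hRdef⟩ : ∃ R : Subgroup G, R = Cfsg.pPrimeCore p G := ⟨_, rfl⟩
  rw [← hRdef]
  haveI hRn : R.Normal := by rw [hRdef]; exact (Cfsg.Agent.Lib.Helper6.pPrimeCore_mem_set p).1
  have hRc : (Nat.card R).Coprime p := by
    rw [hRdef]; exact Cfsg.Agent.Lib.Helper6.pPrimeCore_coprime p
  obtain ⟨C, hCdef⟩ : ∃ C : Subgroup G, C = Subgroup.centralizer (R : Set G) := ⟨_, rfl⟩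
  rw [← hCdef]
  haveI hCn : C.Normal := by rw [hCdef]; exact Subgroup.normal_centralizer
  obtain ⟨Z, hZdef⟩ : ∃ Z : Subgroup G, Z = C ⊓ R := ⟨_, rfl⟩
  haveI hZn : Z.Normal := by rw [hZdef]; exact inferInstance
  have hZC : Z ≤ C := by rw [hZdef]; exact inf_le_left
  have hZR : Z ≤ R := by rw [hZdef]; exact inf_le_right
  have hZc : (Nat.card Z).Coprime p :=
    Nat.Coprime.coprime_dvd_left (Subgroup.card_dvd_of_le hZR) hRc
  by_contra hnot
  obtain ⟨c₀, hc₀C, hc₀R⟩ := SetLike.not_le_iff_exists.mp hnot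
  -- pass to G/Z
  have hπs : Function.Surjective (QuotientGroup.mk' Z) := QuotientGroup.mk'_surjective Z
  haveI hCbn : (C.map (QuotientGroup.mk' Z)).Normal := hCn.map _ hπs
  have hCb : C.map (QuotientGroup.mk' Z) ≠ ⊥ := by
    intro h
    have h1 : QuotientGroup.mk' Z c₀ ∈ C.map (QuotientGroup.mk' Z) := ⟨c₀, hc₀C, rfl⟩
    rw [h, Subgroup.mem_bot, QuotientGroup.mk'_apply, QuotientGroup.eq_one_iff] at h1
    exact hc₀R (hZR h1)
  obtain ⟨Nb, hNbn, hNbC, hNb1, hNbcard, -⟩ :=
    exists_normal_le_of_isPSolvable (isPSolvable_quotient hG Z) (C.map (QuotientGroup.mk' Z)) hCb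
  obtain ⟨M, hMdef⟩ : ∃ M : Subgroup G, M = Nb.comap (QuotientGroup.mk' Z) := ⟨_, rfl⟩
  haveI hMn : M.Normal := by rw [hMdef]; exact hNbn.comap _
  have hZM : Z ≤ M := by
    intro z hz
    rw [hMdef, Subgroup.mem_comap]
    have : QuotientGroup.mk' Z z = 1 := by
      rw [QuotientGroup.mk'_apply, QuotientGroup.eq_one_iff]; exact hz
    rw [this]; exact Subgroup.one_mem _
  have hMC : M ≤ C := by
    intro x hx
    rw [hMdef, Subgroup.mem_comap] at hx
    obtain ⟨c, hc, hcx⟩ := hNbC hx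
    have h1 : c⁻¹ * x ∈ Z := by
      rw [← QuotientGroup.eq_one_iff, ← QuotientGroup.mk'_apply, map_mul, map_inv, hcx]
      group
    have : x = c * (c⁻¹ * x) := by group
    rw [this]; exact C.mul_mem hc (hZC h1)
  have hMmap : M.map (QuotientGroup.mk' Z) = Nb := by
    rw [hMdef]; exact Subgroup.map_comap_eq_self_of_surjective hπs Nb
  have hMZ : ¬ M ≤ Z := by
    intro hle
    apply hNb1
    rw [← hMmap, eq_bot_iff]
    rintro _ ⟨x, hx, rfl⟩
    rw [Subgroup.mem_bot, QuotientGroup.mk'_apply, QuotientGroup.eq_one_iff]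
    exact hle hx
  have hcardM : Nat.card Nb * Nat.card Z = Nat.card M := by
    have h1 : Z.relIndex M = Nat.card Nb := by
      have h2 : Z = (⊥ : Subgroup (G ⧸ Z)).comap (QuotientGroup.mk' Z) := by
        have h4 : (⊥ : Subgroup (G ⧸ Z)).comap (QuotientGroup.mk' Z) = (QuotientGroup.mk' Z).ker := rfl
        rw [h4, QuotientGroup.ker_mk']
      conv_lhs => rw [h2]
      rw [Subgroup.relIndex_comap, hMmap, Subgroup.relIndex_bot_left]
    have h3 := Subgroup.relIndex_mul_relIndex (⊥ : Subgroup G) Z M bot_le hZM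
    rw [Subgroup.relIndex_bot_left, Subgroup.relIndex_bot_left, h1] at h3
    rw [mul_comm]; exact h3
  rcases hNbcard with ⟨m, hm⟩ | hcop
  · -- M/Z is a p-group
    have hZcardp : (Nat.card Nb).Coprime (Nat.card Z) := by
      rw [hm]; exact Nat.Coprime.pow_left m hZc.symm
    obtain ⟨B, hBM, hBcard⟩ := Cfsg.Agent.Lib.Lead.sz_exists_internal Z M hZM
      (by rw [Subgroup.normalizer_eq_top]; exact le_top) (Nat.card Nb) hcardM hZcardp
    have hBp : IsPGroup p B := IsPGroup.of_card (by rw [hBcard, hm])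
    have hBZ : B ⊓ Z = ⊥ := Cfsg.Agent.Lib.Helper6.isPGroup_inf_coprime_eq_bot hZc hBp
    have hBZnorm : B ≤ Subgroup.normalizer (Z : Set G) := by
      rw [Subgroup.normalizer_eq_top]; exact le_top
    have hsup : B ⊔ Z = M := by
      have h1 := Cfsg.Agent.Lib.Lead.card_sup_of_disjoint B Z hBZnorm hBZ
      have h2 : B ⊔ Z ≤ M := sup_le hBM hZM
      apply Subgroup.eq_of_le_of_card_ge h2
      rw [h1, hBcard, hcardM]
    have hcommBZ : ∀ b ∈ B, ∀ z ∈ Z, z * b = b * z := by
      intro b hb z hz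
      have hbC : b ∈ Subgroup.centralizer (R : Set G) := by rw [← hCdef]; exact hMC (hBM hb)
      exact Subgroup.mem_centralizer_iff.mp hbC z (hZR hz)
    -- every p-element of M lies in B
    have hpB : ∀ x ∈ M, (∃ k : ℕ, orderOf x = p ^ k) → x ∈ B := by
      intro x hx hxo
      rw [← hsup] at hx
      obtain ⟨b, hb, z, hz, hxbz⟩ : ∃ b ∈ B, ∃ z ∈ Z, x = b * z := by
        let Mm : Subgroup G :=
          { carrier := {x | ∃ b ∈ B, ∃ z ∈ Z, x = b * z}
            one_mem' := ⟨1, B.one_mem, 1, Z.one_mem, by simp⟩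
            mul_mem' := by
              rintro _ _ ⟨b, hb, z, hz, rfl⟩ ⟨b', hb', z', hz', rfl⟩
              refine ⟨b * b', B.mul_mem hb hb', z * z', Z.mul_mem hz hz', ?_⟩
              have := hcommBZ b' hb' z hz
              calc b * z * (b' * z') = b * (z * b') * z' := by group
                _ = b * (b' * z) * z' := by rw [this]
                _ = b * b' * (z * z') := by group
            inv_mem' := by
              rintro _ ⟨b, hb, z, hz, rfl⟩
              refine ⟨b⁻¹, B.inv_mem hb, z⁻¹, Z.inv_mem hz, ?_⟩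
              have := hcommBZ b hb z hz
              calc (b * z)⁻¹ = (z * b)⁻¹ := by rw [this]
                _ = b⁻¹ * z⁻¹ := by group }
        have h2 : B ≤ Mm := fun b hb => ⟨b, hb, 1, Z.one_mem, by simp⟩
        have h3 : Z ≤ Mm := fun z hz => ⟨1, B.one_mem, z, hz, by simp⟩
        exact (sup_le h2 h3) hx
      have hcomm : Commute b z := (hcommBZ b hb z hz).symm
      have hbpow : b ^ Nat.card B = 1 := by
        have := pow_card_eq_one' (G := B) (x := ⟨b, hb⟩)
        exact congrArg Subtype.val this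
      have h1 : x ^ (Nat.card B * orderOf x) = 1 := by
        rw [mul_comm, pow_mul, pow_orderOf_eq_one, one_pow]
      have h2 : z ^ (Nat.card B * orderOf x) = 1 := by
        have h5 : ∀ j : ℕ, x ^ (Nat.card B * j) = z ^ (Nat.card B * j) := by
          intro j
          rw [hxbz, hcomm.mul_pow, pow_mul b, hbpow, one_pow, one_mul]
        rw [← h5]; exact h1
      have h3 : orderOf z ∣ Nat.card B * orderOf x := orderOf_dvd_of_pow_eq_one h2
      have h3' : orderOf z ∣ Nat.card Z := by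
        have := orderOf_dvd_natCard (⟨z, hz⟩ : Z)
        rwa [Subgroup.orderOf_mk] at this
      obtain ⟨k, hk⟩ := hxo
      have h4 : (orderOf z).Coprime (orderOf z) := by
        apply Nat.Coprime.coprime_dvd_right h3
        apply Nat.Coprime.coprime_dvd_left h3'
        rw [hBcard, hm, hk, ← pow_add]
        exact Nat.Coprime.pow_right _ hZc
      rw [Nat.coprime_self] at h4
      have hz1 : z = 1 := orderOf_eq_one_iff.mp h4
      rw [hxbz, hz1, mul_one]; exact hb
    have hBn : B.Normal := by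
      constructor
      intro b hb g
      apply hpB _ (hMn.conj_mem b (hBM hb) g)
      have h1 : g * b * g⁻¹ = MulAut.conj g b := rfl
      rw [h1, MulEquiv.orderOf_eq]
      obtain ⟨k, hk⟩ := IsPGroup.iff_orderOf.mp hBp ⟨b, hb⟩
      rw [Subgroup.orderOf_mk] at hk
      exact ⟨k, hk⟩
    have hB1 : B = ⊥ := by
      have := Cfsg.Agent.Lib.Lead.le_pCore hBn hBp
      rw [hred] at this
      exact le_bot_iff.mp this
    apply hMZ
    rw [← hsup, hB1, bot_sup_eq]
  · -- M is a normal p'-group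
    apply hMZ
    have hMc : (Nat.card M).Coprime p := by
      rw [← hcardM]
      exact Nat.Coprime.mul_left hcop hZc
    have hMR : M ≤ R := by rw [hRdef]; exact Cfsg.Agent.Lib.Helper6.le_pPrimeCore hMn hMc
    rw [hZdef]
    exact le_inf hMC hMR

end Cfsg.Agent.Lib.Helper8.TB
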