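import Mathlib
import Cfsg.Prelude.Def_Blocks
import Cfsg.Agent.Lib.Helper8.KF2
import Cfsg.Agent.Lib.Helper8.BlockDefect
import Cfsg.Agent.Lib.Helper8.Deflation
import Cfsg.Agent.Lib.Helper1.CharFound7
import Cfsg.Agent.S0947
import Cfsg.Agent.S0944

/-!
# The principal 2-block of a group with Klein four Sylow subgroup and one class of involutions
has exactly four characters
-/

set_option autoImplicit false

namespace Cfsg.Agent.Lib.Helper8

open Cfsg
open scoped ComplexConjugate
open Cfsg.Agent.Lib.Helper1 Cfsg.Agent.Lib.Helper4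

universe u

/-- A finite family of nonzero integers whose squares sum to `4`, one of which is `1`, consists of
four numbers `±1`. -/
theorem four_squares {ι : Type*} [DecidableEq ι] (F : Finset ι) (n : ι → ℤ) (h0 : ∀ i ∈ F, n i ≠ 0)
    (hsum : ∑ i ∈ F, (n i) ^ 2 = 4) (t : ι) (ht : t ∈ F) (hnt : n t = 1) :
    F.card = 4 ∧ ∀ i ∈ F, n i = 1 ∨ n i = -1 := by
  have hge : ∀ i ∈ F, 1 ≤ (n i) ^ 2 := by
    intro i hi
    have := h0 i hi
    have : 0 < (n i) ^ 2 := by positivity
    omega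
  have hall : ∀ i ∈ F, (n i) ^ 2 = 1 := by
    by_contra hcon
    push Not at hcon
    obtain ⟨i₀, hi₀, hne⟩ := hcon
    have h4 : 4 ≤ (n i₀) ^ 2 := by
      have h1 := hge i₀ hi₀
      have hn0 := h0 i₀ hi₀
      by_contra hlt
      push Not at hlt
      have habs : |n i₀| < 2 := by
        by_contra h2
        push Not at h2
        have : (2 : ℤ) ^ 2 ≤ |n i₀| ^ 2 := by
          apply pow_le_pow_left₀ (by norm_num) h2
        rw [sq_abs] at this
        omega
      have h3 : |n i₀| = 1 := by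
        have hpos : 0 < |n i₀| := abs_pos.2 hn0
        omega
      apply hne
      rw [← sq_abs, h3]
      norm_num
    have hit : i₀ ≠ t := by
      rintro rfl
      rw [hnt] at hne
      exact hne (by norm_num)
    have hsplit : ∑ i ∈ F, (n i) ^ 2 = (n i₀) ^ 2 + ∑ i ∈ F.erase i₀, (n i) ^ 2 :=
      (Finset.add_sum_erase F (fun i => (n i) ^ 2) hi₀).symm
    have htm : t ∈ F.erase i₀ := Finset.mem_erase.2 ⟨hit.symm, ht⟩
    have h5 : (n t) ^ 2 ≤ ∑ i ∈ F.erase i₀, (n i) ^ 2 :=
      Finset.single_le_sum (f := fun i => (n i) ^ 2) (fun i _ => sq_nonneg _) htm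
    rw [hnt] at h5
    rw [hsplit] at hsum
    omega
  constructor
  · have : ∑ i ∈ F, (n i) ^ 2 = ∑ i ∈ F, (1 : ℤ) := Finset.sum_congr rfl hall
    rw [hsum, Finset.sum_const, nsmul_eq_mul, mul_one] at this
    exact_mod_cast this.symm
  · intro i hi
    have := hall i hi
    have h1 : (n i - 1) * (n i + 1) = 0 := by ring_nf; rw [this]; ring
    rcases mul_eq_zero.1 h1 with h | h
    · left; omega
    · right; omega

section

variable {G : Type u} [Group G] [Finite G] {M : Ideal AlgInt}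

omit [Finite G] in
theorem orderOf_eq_two_of_sq {g : G} (h : g * g = 1) (h1 : g ≠ 1) : orderOf g = 2 :=
  orderOf_eq_prime (by rw [pow_two]; exact h) h1

theorem IsK4.exists_involution {P : Subgroup G} (hP : IsK4 P) : ∃ z ∈ P, orderOf z = 2 := by
  have h1 : 1 < Nat.card P := by rw [hP.1]; norm_num
  haveI : Nontrivial P := Finite.one_lt_card_iff_nontrivial.1 h1
  obtain ⟨g, hg⟩ := exists_ne (1 : P)
  refine ⟨g, g.2, orderOf_eq_two_of_sq (hP.2 g g.2) ?_⟩
  intro h
  exact hg (Subtype.ext h)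

/-- Degrees and values at involutions are congruent modulo 4. -/
theorem kf_mod_four {P : Subgroup G} (hP : IsK4 P)
    (hone : ∀ s t : G, orderOf s = 2 → orderOf t = 2 → IsConj s t) (χ : IrrCharacter G)
    {z : G} (hz : orderOf z = 2) {n : ℤ} (hn : (χ : G → ℂ) z = (n : ℂ)) :
    (4 : ℤ) ∣ (charDegree (χ : G → ℂ) : ℤ) - n := by
  classical
  haveI : Fintype P := Fintype.ofFinite P
  obtain ⟨m, hm⟩ := classInner_char_nat
    (isCharacter_comp_hom (isCharacter_of_irr χ.2) P.subtype) (isCharacter_of_irr (trivIrr P).2)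
  rw [classInner_def, hP.1] at hm
  have hsum : ∑ g : P, (χ : G → ℂ) (P.subtype g) * conj ((trivIrr P : P → ℂ) g) =
      (charDegree (χ : G → ℂ) : ℂ) + 3 * (n : ℂ) := by
    rw [← Finset.add_sum_erase Finset.univ _ (Finset.mem_univ (1 : P))]
    congr 1
    · rw [trivIrr_apply, map_one, map_one, mul_one]
      exact (irr_apply_one_eq_charDegree χ.2).1
    · have hterm : ∀ g ∈ Finset.univ.erase (1 : P),
          (χ : G → ℂ) (P.subtype g) * conj ((trivIrr P : P → ℂ) g) = (n : ℂ) := by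
        intro g hg
        have hg1 : g ≠ 1 := (Finset.mem_erase.1 hg).1
        have hgo : orderOf (g : G) = 2 := by
          apply orderOf_eq_two_of_sq (hP.2 g g.2)
          intro h
          exact hg1 (Subtype.ext h)
        obtain ⟨c, hc⟩ := isConj_iff.1 (hone z g hz hgo)
        rw [trivIrr_apply, map_one, mul_one, Subgroup.subtype_apply, ← hc,
          isClassFunction_irr χ.2 z c, hn]
      rw [Finset.sum_congr rfl hterm, Finset.sum_const, Finset.card_erase_of_mem (Finset.mem_univ _),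
        Finset.card_univ, ← Nat.card_eq_fintype_card, hP.1]
      simp
  rw [hsum] at hm
  have h4 : ((charDegree (χ : G → ℂ) : ℤ) : ℂ) + 3 * (n : ℂ) = 4 * ((m : ℤ) : ℂ) := by
    have h40 : ((4 : ℕ) : ℂ) ≠ 0 := by norm_num
    have := congrArg (fun x => ((4 : ℕ) : ℂ) * x) hm
    beta_reduce at this
    rw [← mul_assoc, mul_inv_cancel₀ h40, one_mul] at this
    push_cast at this ⊢
    exact this
  have h5 : (charDegree (χ : G → ℂ) : ℤ) + 3 * n = 4 * (m : ℤ) := by
    exact_mod_cast h4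
  exact ⟨(m : ℤ) - n, by linarith⟩

theorem kf_block_structure (hM : IsPModular 2 M) (P : Sylow 2 G) (hP : IsK4 (P : Subgroup G))
    (hone : ∀ s t : G, orderOf s = 2 → orderOf t = 2 → IsConj s t) :
    ∃ (z : G) (n : IrrCharacter G → ℤ), orderOf z = 2 ∧
      Nat.card (principalBlock M G) = 4 ∧
      ∀ χ ∈ principalBlock M G, (χ : G → ℂ) z = (n χ : ℂ) ∧ (n χ = 1 ∨ n χ = -1) ∧
        (4 : ℤ) ∣ (charDegree (χ : G → ℂ) : ℤ) - n χ := by
  classical
  haveI : Fact (Nat.Prime 2) := ⟨Nat.prime_two⟩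
  haveI : Fintype (IrrCharacter G) := Fintype.ofFinite _
  have hMp := isPModular_isPrime hM
  obtain ⟨z, hzP, hz2⟩ := hP.exists_involution
  have hz1 : z ≠ 1 := by
    rintro rfl
    rw [orderOf_one] at hz2
    omega
  choose n hn using fun χ : IrrCharacter G => Cfsg.Agent.S0944.result χ z hz2
  refine ⟨z, n, hz2, ?_⟩
  obtain ⟨hidx, hfact⟩ := kleinFour_centralizer_index P hP hzP hz1
  have hy1 : ¬ 2 ∣ orderOf (1 : Subgroup.centralizer ({z} : Set G)) := by
    rw [orderOf_one]; norm_num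
  have hS := (Cfsg.Agent.S0947.result 2 M hM z ⟨1, by rw [hz2, pow_one]⟩ hz1
    (1 : Subgroup.centralizer ({z} : Set G)) hy1).2 ⟨2, by rw [hidx]; norm_num⟩
  rw [hfact, Subgroup.coe_one, mul_one] at hS
  -- convert to a finite sum of integers
  set F : Finset (IrrCharacter G) := Finset.univ.filter (fun χ => χ ∈ principalBlock M G) with hF
  have hfin : (principalBlock M G).Finite := Set.toFinite _
  have hFeq : hfin.toFinset = F := by
    ext χ
    rw [Set.Finite.mem_toFinset, hF, Finset.mem_filter]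
    exact ⟨fun h => ⟨Finset.mem_univ _, h⟩, fun h => h.2⟩
  rw [finsum_mem_eq_finite_toFinset_sum _ hfin, hFeq] at hS
  have hsumZ : ∑ χ ∈ F, (n χ) ^ 2 = 4 := by
    have h1 : ∀ χ ∈ F, ‖(χ : G → ℂ) z‖ ^ 2 = (((n χ) ^ 2 : ℤ) : ℝ) := by
      intro χ _
      rw [(hn χ).1, Complex.norm_intCast, sq_abs]
      push_cast
      ring
    rw [Finset.sum_congr rfl h1, ← Int.cast_sum] at hS
    have : (((∑ χ ∈ F, (n χ) ^ 2 : ℤ)) : ℝ) = ((4 : ℤ) : ℝ) := by
      rw [hS]; norm_num
    exact_mod_cast this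
  -- nonvanishing
  have hidxodd : ¬ 2 ∣ (Subgroup.centralizer ({z} : Set G)).index := by
    intro h
    have hle : (P : Subgroup G) ≤ Subgroup.centralizer ({z} : Set G) := by
      intro g hg
      rw [Subgroup.mem_centralizer_singleton_iff]
      exact kleinFour_comm hP hg hzP
    exact P.not_dvd_index (h.trans (Subgroup.index_dvd_of_le hle))
  have h0 : ∀ χ ∈ F, n χ ≠ 0 := by
    intro χ hχ h
    have hχB : χ ∈ principalBlock M G := (Finset.mem_filter.1 hχ).2
    have hs := hχB z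
    have hz0 : (χ : G → ℂ) z = 0 := by rw [(hn χ).1, h, Int.cast_zero]
    unfold centralChar at hs
    rw [hz0, mul_zero, zero_div, sub_zero, mul_one, div_one] at hs
    exact hidxodd ((memLocalIdeal_natCast_iff hM _).1 hs)
  have htF : trivIrr G ∈ F :=
    Finset.mem_filter.2 ⟨Finset.mem_univ _, trivIrr_mem_principalBlock hMp.ne_top⟩
  have hnt : n (trivIrr G) = 1 := by
    have := (hn (trivIrr G)).1
    rw [trivIrr_apply] at this
    exact_mod_cast this.symm
  obtain ⟨hcard, hpm⟩ := four_squares F n h0 hsumZ (trivIrr G) htF hnt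
  refine ⟨?_, fun χ hχ => ?_⟩
  · rw [Nat.card_eq_fintype_card, ← hcard, hF]
    exact Fintype.card_subtype _
  · have hχF : χ ∈ F := Finset.mem_filter.2 ⟨Finset.mem_univ _, hχ⟩
    exact ⟨(hn χ).1, hpm χ hχF, kf_mod_four hP hone χ hz2 (hn χ).1⟩

end

end Cfsg.Agent.Lib.Helper8
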