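import Mathlib
import Cfsg.Prelude.Def_Blocks
import Cfsg.Agent.Lib.Helper8.KF3
import Cfsg.Agent.S0907

/-!
# Brauer's description of the principal 2-block for Klein four Sylow subgroups, one class of
involutions
-/

set_option autoImplicit false

namespace Cfsg.Agent.Lib.Helper8

open Cfsg
open scoped ComplexConjugate
open Cfsg.Agent.Lib.Helper1 Cfsg.Agent.Lib.Helper4

universe u

section

variable {G : Type u} [Group G] [Finite G] {M : Ideal AlgInt}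

omit [Finite G] in
theorem eq_trivIrr_iff (χ : IrrCharacter G) : (χ : G → ℂ) = (fun _ => 1) ↔ χ = trivIrr G := by
  constructor
  · intro h
    apply Subtype.ext
    funext g
    rw [h, trivIrr_apply]
  · intro h
    funext g
    rw [h, trivIrr_apply]

omit [Finite G] in
theorem kf_pack {z : G} (hz2 : orderOf z = 2)
    (hone : ∀ s t : G, orderOf s = 2 → orderOf t = 2 → IsConj s t) (n : IrrCharacter G → ℤ)
    (hB : ∀ χ ∈ principalBlock M G, (χ : G → ℂ) z = (n χ : ℂ) ∧ (n χ = 1 ∨ n χ = -1) ∧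
        (4 : ℤ) ∣ (charDegree (χ : G → ℂ) : ℤ) - n χ)
    (ζ₂ ζ₃ ζ₄ : IrrCharacter G)
    (hmem : ∀ χ, χ ∈ principalBlock M G ↔ χ = trivIrr G ∨ χ = ζ₂ ∨ χ = ζ₃ ∨ χ = ζ₄)
    (ht2 : ζ₂ ≠ trivIrr G) (ht3 : ζ₃ ≠ trivIrr G) (h23 : ζ₂ ≠ ζ₃) (h24 : ζ₂ ≠ ζ₄) (h34 : ζ₃ ≠ ζ₄)
    (hn2 : n ζ₂ = 1) (hn4 : n ζ₄ = -1)
    (hrel : ∀ y : G, Odd (orderOf y) → 1 + (n ζ₂ : ℂ) * (ζ₂ : G → ℂ) y +
      (n ζ₃ : ℂ) * (ζ₃ : G → ℂ) y + (n ζ₄ : ℂ) * (ζ₄ : G → ℂ) y = 0) :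
    ∃ ζ₂ ζ₃ ζ₄ : Cfsg.IrrCharacter G, ∃ ε : ℤ, (ε = 1 ∨ ε = -1) ∧
      (ζ₂ : G → ℂ) ≠ (fun _ => 1) ∧ (ζ₃ : G → ℂ) ≠ (fun _ => 1) ∧ ζ₂ ≠ ζ₃ ∧ ζ₂ ≠ ζ₄ ∧ ζ₃ ≠ ζ₄ ∧
      Cfsg.principalBlock M G = {χ : Cfsg.IrrCharacter G | (χ : G → ℂ) = (fun _ => 1) ∨ χ = ζ₂ ∨
        χ = ζ₃ ∨ χ = ζ₄} ∧
      (∀ z : G, orderOf z = 2 → (ζ₂ : G → ℂ) z = 1 ∧ (ζ₃ : G → ℂ) z = (ε : ℂ) ∧
        (ζ₄ : G → ℂ) z = -1) ∧
      (4 : ℤ) ∣ (Cfsg.charDegree (ζ₂ : G → ℂ) : ℤ) - 1 ∧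
      (4 : ℤ) ∣ (Cfsg.charDegree (ζ₃ : G → ℂ) : ℤ) - ε ∧
      (4 : ℤ) ∣ (Cfsg.charDegree (ζ₄ : G → ℂ) : ℤ) + 1 ∧
      ∀ y : G, Odd (orderOf y) → 1 + (ζ₂ : G → ℂ) y + (ε : ℂ) * (ζ₃ : G → ℂ) y -
        (ζ₄ : G → ℂ) y = 0 := by
  have h2B : ζ₂ ∈ principalBlock M G := (hmem ζ₂).2 (Or.inr (Or.inl rfl))
  have h3B : ζ₃ ∈ principalBlock M G := (hmem ζ₃).2 (Or.inr (Or.inr (Or.inl rfl)))
  have h4B : ζ₄ ∈ principalBlock M G := (hmem ζ₄).2 (Or.inr (Or.inr (Or.inr rfl)))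
  obtain ⟨hv2, -, hd2⟩ := hB ζ₂ h2B
  obtain ⟨hv3, hs3, hd3⟩ := hB ζ₃ h3B
  obtain ⟨hv4, -, hd4⟩ := hB ζ₄ h4B
  have hval : ∀ (χ : IrrCharacter G) (z' : G), orderOf z' = 2 →
      (χ : G → ℂ) z' = (χ : G → ℂ) z := by
    intro χ z' hz'
    obtain ⟨c, hc⟩ := isConj_iff.1 (hone z z' hz2 hz')
    rw [← hc, isClassFunction_irr χ.2 z c]
  refine ⟨ζ₂, ζ₃, ζ₄, n ζ₃, hs3, ?_, ?_, h23, h24, h34, ?_, ?_, ?_, hd3, ?_, ?_⟩
  · intro h
    exact ht2 ((eq_trivIrr_iff ζ₂).1 h)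
  · intro h
    exact ht3 ((eq_trivIrr_iff ζ₃).1 h)
  · ext χ
    rw [hmem χ, Set.mem_ofPred_eq, eq_trivIrr_iff]
  · intro z' hz'
    rw [hval ζ₂ z' hz', hval ζ₃ z' hz', hval ζ₄ z' hz', hv2, hv3, hv4, hn2, hn4]
    simp
  · rw [hn2] at hd2
    exact hd2
  · rw [hn4] at hd4
    simpa using hd4
  · intro y hy
    have := hrel y hy
    rw [hn2, hn4] at this
    push_cast at this
    linear_combination this

theorem kf_main (hM : IsPModular 2 M) (P : Sylow 2 G) (hP : IsK4 (P : Subgroup G))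
    (hone : ∀ s t : G, orderOf s = 2 → orderOf t = 2 → IsConj s t) :
    ∃ ζ₂ ζ₃ ζ₄ : Cfsg.IrrCharacter G, ∃ ε : ℤ, (ε = 1 ∨ ε = -1) ∧
      (ζ₂ : G → ℂ) ≠ (fun _ => 1) ∧ (ζ₃ : G → ℂ) ≠ (fun _ => 1) ∧ ζ₂ ≠ ζ₃ ∧ ζ₂ ≠ ζ₄ ∧ ζ₃ ≠ ζ₄ ∧
      Cfsg.principalBlock M G = {χ : Cfsg.IrrCharacter G | (χ : G → ℂ) = (fun _ => 1) ∨ χ = ζ₂ ∨
        χ = ζ₃ ∨ χ = ζ₄} ∧
      (∀ z : G, orderOf z = 2 → (ζ₂ : G → ℂ) z = 1 ∧ (ζ₃ : G → ℂ) z = (ε : ℂ) ∧
        (ζ₄ : G → ℂ) z = -1) ∧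
      (4 : ℤ) ∣ (Cfsg.charDegree (ζ₂ : G → ℂ) : ℤ) - 1 ∧
      (4 : ℤ) ∣ (Cfsg.charDegree (ζ₃ : G → ℂ) : ℤ) - ε ∧
      (4 : ℤ) ∣ (Cfsg.charDegree (ζ₄ : G → ℂ) : ℤ) + 1 ∧
      ∀ y : G, Odd (orderOf y) → 1 + (ζ₂ : G → ℂ) y + (ε : ℂ) * (ζ₃ : G → ℂ) y -
        (ζ₄ : G → ℂ) y = 0 := by
  classical
  haveI : Fact (Nat.Prime 2) := ⟨Nat.prime_two⟩
  haveI : Fintype (IrrCharacter G) := Fintype.ofFinite _
  have hMp := isPModular_isPrime hM
  obtain ⟨z, n, hz2, hcard, hB⟩ := kf_block_structure hM P hP hone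
  set F : Finset (IrrCharacter G) := Finset.univ.filter (fun χ => χ ∈ principalBlock M G) with hF
  have hFmem : ∀ χ, χ ∈ F ↔ χ ∈ principalBlock M G := by
    intro χ
    rw [hF, Finset.mem_filter]
    exact ⟨fun h => h.2, fun h => ⟨Finset.mem_univ _, h⟩⟩
  have hFcard : F.card = 4 := by
    rw [← hcard, Nat.card_eq_fintype_card, hF]
    exact (Fintype.card_subtype _).symm
  have htB : trivIrr G ∈ principalBlock M G := trivIrr_mem_principalBlock hMp.ne_top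
  have htF : trivIrr G ∈ F := (hFmem _).2 htB
  have h3 : (F.erase (trivIrr G)).card = 3 := by
    rw [Finset.card_erase_of_mem htF, hFcard]
  obtain ⟨a, b, c, hab, hac, hbc, habc⟩ := Finset.card_eq_three.1 h3
  have haE : a ∈ F.erase (trivIrr G) := by rw [habc]; simp
  have hbE : b ∈ F.erase (trivIrr G) := by rw [habc]; simp
  have hcE : c ∈ F.erase (trivIrr G) := by rw [habc]; simp
  have hat : a ≠ trivIrr G := (Finset.mem_erase.1 haE).1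
  have hbt : b ≠ trivIrr G := (Finset.mem_erase.1 hbE).1
  have hct : c ≠ trivIrr G := (Finset.mem_erase.1 hcE).1
  have haB : a ∈ principalBlock M G := (hFmem a).1 (Finset.mem_erase.1 haE).2
  have hbB : b ∈ principalBlock M G := (hFmem b).1 (Finset.mem_erase.1 hbE).2
  have hcB : c ∈ principalBlock M G := (hFmem c).1 (Finset.mem_erase.1 hcE).2
  have hFdesc : F = insert (trivIrr G) ({a, b, c} : Finset (IrrCharacter G)) := by
    rw [← habc, Finset.insert_erase htF]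
  have hmem : ∀ χ, χ ∈ principalBlock M G ↔ χ = trivIrr G ∨ χ = a ∨ χ = b ∨ χ = c := by
    intro χ
    rw [← hFmem χ, hFdesc]
    simp
  -- block orthogonality
  have hnt : n (trivIrr G) = 1 := by
    have := (hB _ htB).1
    rw [trivIrr_apply] at this
    exact_mod_cast this.symm
  have hrel : ∀ y : G, Odd (orderOf y) → 1 + (n a : ℂ) * (a : G → ℂ) y +
      (n b : ℂ) * (b : G → ℂ) y + (n c : ℂ) * (c : G → ℂ) y = 0 := by
    intro y hy
    have hy2 : ¬ 2 ∣ orderOf y := by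
      intro h
      rcases hy with ⟨k, hk⟩
      omega
    have hz : 2 ∣ orderOf z := by rw [hz2]
    have h0 := Cfsg.Agent.S0907.result 2 M hM (principalBlock M G) isPBlock_principalBlock y z hy2 hz
    have hfin : (principalBlock M G).Finite := Set.toFinite _
    have hFeq : hfin.toFinset = F := by
      ext χ
      rw [Set.Finite.mem_toFinset, hFmem]
    rw [finsum_mem_eq_finite_toFinset_sum _ hfin, hFeq, hFdesc] at h0
    rw [Finset.sum_insert, Finset.sum_insert, Finset.sum_insert, Finset.sum_singleton] at h0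
    · rw [(hB _ htB).1, (hB _ haB).1, (hB _ hbB).1, (hB _ hcB).1, hnt, trivIrr_apply] at h0
      simp only [map_intCast] at h0
      push_cast at h0
      linear_combination h0
    · simp only [Finset.mem_singleton]; exact hbc
    · simp only [Finset.mem_insert, Finset.mem_singleton, not_or]; exact ⟨hab, hac⟩
    · simp only [Finset.mem_insert, Finset.mem_singleton, not_or]
      exact ⟨hat.symm, hbt.symm, hct.symm⟩
  -- the degree relation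
  have hdeg : (1 : ℤ) + n a * (charDegree (a : G → ℂ) : ℤ) + n b * (charDegree (b : G → ℂ) : ℤ) +
      n c * (charDegree (c : G → ℂ) : ℤ) = 0 := by
    have h1 := hrel 1 (by rw [orderOf_one]; exact odd_one)
    rw [(irr_apply_one_eq_charDegree a.2).1, (irr_apply_one_eq_charDegree b.2).1,
      (irr_apply_one_eq_charDegree c.2).1] at h1
    exact_mod_cast h1
  have hda := (irr_apply_one_eq_charDegree a.2).2
  have hdb := (irr_apply_one_eq_charDegree b.2).2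
  have hdc := (irr_apply_one_eq_charDegree c.2).2
  have hsa := (hB _ haB).2.1
  have hsb := (hB _ hbB).2.1
  have hsc := (hB _ hcB).2.1
  rcases hsa with ha1 | ha1 <;> rcases hsb with hb1 | hb1 <;> rcases hsc with hc1 | hc1
  · exfalso
    rw [ha1, hb1, hc1] at hdeg
    omega
  · -- (+,+,-)
    exact kf_pack hz2 hone n hB a b c hmem hat hbt hab hac hbc ha1 hc1 hrel
  · -- (+,-,+)
    refine kf_pack hz2 hone n hB a c b ?_ hat hct hac hab hbc.symm ha1 hb1 ?_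
    · intro χ; rw [hmem χ]; tauto
    · intro y hy; have := hrel y hy; linear_combination this
  · -- (+,-,-)
    exact kf_pack hz2 hone n hB a b c hmem hat hbt hab hac hbc ha1 hc1 hrel
  · -- (-,+,+)
    refine kf_pack hz2 hone n hB b c a ?_ hbt hct hbc hab.symm hac.symm hb1 ha1 ?_
    · intro χ; rw [hmem χ]; tauto
    · intro y hy; have := hrel y hy; linear_combination this
  · -- (-,+,-)
    refine kf_pack hz2 hone n hB b a c ?_ hbt hat hab.symm hbc hac hb1 hc1 ?_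
    · intro χ; rw [hmem χ]; tauto
    · intro y hy; have := hrel y hy; linear_combination this
  · -- (-,-,+)
    refine kf_pack hz2 hone n hB c a b ?_ hct hat hac.symm hbc.symm hab hc1 hb1 ?_
    · intro χ; rw [hmem χ]; tauto
    · intro y hy; have := hrel y hy; linear_combination this
  · exfalso
    rw [ha1, hb1, hc1] at hdeg
    omega

end

end Cfsg.Agent.Lib.Helper8
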