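import Mathlib
import Cfsg.Prelude.Def_Blocks
import Cfsg.Prelude.Def_BlockRank
import Cfsg.Prelude.Def_Transfer
import Cfsg.Agent.Lib.Helper8.PB1
import Cfsg.Agent.Lib.Helper8.Cover3
import Cfsg.Agent.Lib.Helper8.Deflation
import Cfsg.Agent.Lib.Helper4.NPC
import Cfsg.Agent.Lib.Helper4.Characters
import Cfsg.Agent.Lib.Helper6.PPrimeCore
import Cfsg.Agent.S0907

/-!
# The principal block has `p`-regular rank one iff `G` has a normal `p`-complement
-/

set_option autoImplicit false
set_option linter.unusedSectionVars false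

namespace Cfsg.Agent.Lib.Helper8

open Cfsg
open scoped ComplexConjugate
open Cfsg.Agent.Lib.Helper1 Cfsg.Agent.Lib.Helper4

universe u

section

variable {G : Type u} [Group G] [Finite G] {M : Ideal AlgInt} {p : ℕ} [Fact p.Prime]

omit [Finite G] in
theorem isPRegular_one : IsPRegular p (1 : G) := by
  unfold IsPRegular
  rw [orderOf_one]
  exact (Fact.out : p.Prime).not_dvd_one

omit [Finite G] in
theorem pRegularPart_trivIrr_ne_zero : pRegularPart p (trivIrr G : G → ℂ) ≠ 0 := by
  intro h
  have := congrFun h 1
  unfold pRegularPart at this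
  rw [if_pos isPRegular_one, trivIrr_apply] at this
  exact one_ne_zero this

/-- If every member of `B` is constant on the `p`-regular elements, `B` has rank one. -/
theorem blockRank_eq_one_of_const {B : Set (IrrCharacter G)} (h1 : trivIrr G ∈ B)
    (h : ∀ χ ∈ B, ∀ x : G, IsPRegular p x → (χ : G → ℂ) x = (χ : G → ℂ) 1) :
    blockRank p B = 1 := by
  classical
  unfold blockRank
  have hspan : Submodule.span ℂ ((fun χ : IrrCharacter G => pRegularPart p (χ : G → ℂ)) '' B) =
      Submodule.span ℂ {pRegularPart p (trivIrr G : G → ℂ)} := by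
    apply le_antisymm
    · apply Submodule.span_le.2
      rintro _ ⟨χ, hχ, rfl⟩
      have : pRegularPart p (χ : G → ℂ) =
          ((χ : G → ℂ) 1) • pRegularPart p (trivIrr G : G → ℂ) := by
        funext g
        unfold pRegularPart
        by_cases hg : IsPRegular p g
        · simp only [Pi.smul_apply, smul_eq_mul]
          rw [if_pos hg, if_pos hg, trivIrr_apply, mul_one, h χ hχ g hg]
        · simp only [Pi.smul_apply, smul_eq_mul]
          rw [if_neg hg, if_neg hg, mul_zero]
      show pRegularPart p (χ : G → ℂ) ∈ _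
      rw [this]
      exact Submodule.smul_mem _ _ (Submodule.mem_span_singleton_self _)
    · apply Submodule.span_mono
      rintro _ rfl
      exact ⟨trivIrr G, h1, rfl⟩
  rw [hspan]
  exact finrank_span_singleton pRegularPart_trivIrr_ne_zero

/-- If `B` contains the trivial character and has rank one, every member of `B` is constant on the
`p`-regular elements. -/
theorem const_of_blockRank_eq_one {B : Set (IrrCharacter G)} (h1 : trivIrr G ∈ B)
    (h : blockRank p B = 1) (χ : IrrCharacter G) (hχ : χ ∈ B) (x : G) (hx : IsPRegular p x) :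
    (χ : G → ℂ) x = (χ : G → ℂ) 1 := by
  classical
  unfold blockRank at h
  set V := Submodule.span ℂ ((fun χ : IrrCharacter G => pRegularPart p (χ : G → ℂ)) '' B) with hV
  have hv₀ : pRegularPart p (trivIrr G : G → ℂ) ∈ V := Submodule.subset_span ⟨trivIrr G, h1, rfl⟩
  have hw : pRegularPart p (χ : G → ℂ) ∈ V := Submodule.subset_span ⟨χ, hχ, rfl⟩
  have hnz : (⟨_, hv₀⟩ : V) ≠ 0 := by
    intro h0
    exact pRegularPart_trivIrr_ne_zero (congrArg Subtype.val h0)
  obtain ⟨a, ha⟩ := (finrank_eq_one_iff_of_nonzero' (⟨_, hv₀⟩ : V) hnz).1 h ⟨_, hw⟩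
  have ha' : a • pRegularPart p (trivIrr G : G → ℂ) = pRegularPart p (χ : G → ℂ) :=
    congrArg Subtype.val ha
  have e1 := congrFun ha' 1
  have e2 := congrFun ha' x
  unfold pRegularPart at e1 e2
  simp only [Pi.smul_apply, smul_eq_mul] at e1 e2
  rw [if_pos isPRegular_one, if_pos isPRegular_one, trivIrr_apply, mul_one] at e1
  rw [if_pos hx, if_pos hx, trivIrr_apply, mul_one] at e2
  rw [← e2, ← e1]

/-- **Normal `p`-complement ⇒ rank one.** -/
theorem principal_rank_one_of_npc (hM : IsPModular p M) (h : HasNormalPComplement p G) :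
    blockRank p (principalBlock M G) = 1 := by
  classical
  have : Fintype G := Fintype.ofFinite G
  have hp : p.Prime := Fact.out
  have hMp := isPModular_isPrime hM
  obtain ⟨P, N, hN, hc⟩ := h
  have h1 : Nat.card N * Nat.card (P : Subgroup G) = Nat.card G := hc.card_mul_card
  have h2 : Nat.card (P : Subgroup G) * (P : Subgroup G).index = Nat.card G :=
    Subgroup.card_mul_index _
  have h3 : Nat.card N = (P : Subgroup G).index := by
    have : Nat.card (P : Subgroup G) * Nat.card N =
        Nat.card (P : Subgroup G) * (P : Subgroup G).index := by rw [h2, mul_comm, h1]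
    exact Nat.eq_of_mul_eq_mul_left Nat.card_pos this
  have hNc : (Nat.card N).Coprime p := by
    rw [h3]
    exact ((Nat.Prime.coprime_iff_not_dvd hp).2 P.not_dvd_index).symm
  have hNle := Cfsg.Agent.Lib.Helper6.le_pPrimeCore hN hNc
  have hidx : ∃ k : ℕ, N.index = p ^ k := by
    obtain ⟨k, hk⟩ := IsPGroup.iff_card.1 P.isPGroup'
    refine ⟨k, ?_⟩
    have h4 : Nat.card N * N.index = Nat.card G := Subgroup.card_mul_index N
    have : Nat.card N * N.index = Nat.card N * Nat.card (P : Subgroup G) := by rw [h4, h1]
    rw [← hk]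
    exact Nat.eq_of_mul_eq_mul_left Nat.card_pos this
  apply blockRank_eq_one_of_const (trivIrr_mem_principalBlock hMp.ne_top)
  intro χ hχ x hx
  have hxN : x ∈ N := by
    by_contra hcon
    have := hN
    exact hx (dvd_orderOf_of_not_mem N hp hidx hcon)
  exact principalBlock_apply_pPrimeCore hM hχ (hNle hxN)

end

end Cfsg.Agent.Lib.Helper8
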