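import Mathlib
import Cfsg.Prelude.Def_Blocks
import Cfsg.Prelude.Def_BlockRank
import Cfsg.Agent.Lib.Helper8.Sub12

/-!
# Brauer's count of the characters of a block by subsections: `k(B) = ∑ l(b)`
-/

set_option autoImplicit false

namespace Cfsg.Agent.Lib.Helper8

open Cfsg
open scoped ComplexConjugate
open Cfsg.Agent.Lib.Helper1 Cfsg.Agent.Lib.Helper4

universe u

section

variable {G : Type u} [Group G] [Fintype G] {M : Ideal AlgInt} {p : ℕ}

theorem card_block_eq_sum_blockRank (hM : IsPModular p M) {B : Set (IrrCharacter G)}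
    (hB : IsPBlock M B) (X : Finset G) (hX : ∀ x ∈ X, ∃ k : ℕ, orderOf x = p ^ k)
    (hXrep : ∀ g : G, (∃ k : ℕ, orderOf g = p ^ k) → ∃! x, x ∈ X ∧ IsConj g x) :
    Nat.card B = ∑ x ∈ X, ∑ᶠ b ∈ {b : Set (IrrCharacter ↥(Subgroup.centralizer ({x} : Set G))) |
      IsInducedBlock M (Subgroup.centralizer ({x} : Set G)) b B}, blockRank p b := by
  classical
  have : Fintype (IrrCharacter G) := Fintype.ofFinite _
  have : ∀ x : G, Fintype (Subgroup.centralizer ({x} : Set G)) := fun x => Fintype.ofFinite _
  have hMp := isPModular_isPrime hM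
  -- the right side as a sum over the finite set of blocks
  have hR : ∀ x : G, ∑ᶠ b ∈ {b : Set (IrrCharacter ↥(Subgroup.centralizer ({x} : Set G))) |
      IsInducedBlock M (Subgroup.centralizer ({x} : Set G)) b B}, blockRank p b =
      ∑ b ∈ blocksFinset M (Subgroup.centralizer ({x} : Set G)),
        if IsInducedBlock M (Subgroup.centralizer ({x} : Set G)) b B then blockRank p b else 0 := by
    intro x
    have hfin : {b : Set (IrrCharacter ↥(Subgroup.centralizer ({x} : Set G))) |
        IsInducedBlock M (Subgroup.centralizer ({x} : Set G)) b B}.Finite :=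
      (finite_setOf_isPBlock (M := M)).subset (fun b hb => hb.1)
    rw [finsum_mem_eq_finite_toFinset_sum _ hfin, ← Finset.sum_filter]
    apply Finset.sum_congr _ (fun _ _ => rfl)
    ext b
    rw [Set.Finite.mem_toFinset, Finset.mem_filter, mem_blocksFinset]
    constructor
    · intro h
      exact ⟨h.1, h⟩
    · intro h
      exact h.2
  simp_rw [hR]
  apply Nat.cast_injective (R := ℝ)
  rw [Nat.cast_sum]
  -- the left side
  have hL : (Nat.card B : ℝ) = ∑ χ : IrrCharacter G, if χ ∈ B then (1 : ℝ) else 0 := by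
    rw [Finset.sum_boole, Nat.card_eq_fintype_card, Fintype.card_subtype]
  rw [hL]
  have h1 : ∀ χ : IrrCharacter G, (if χ ∈ B then (1 : ℝ) else 0) =
      ∑ x ∈ X, (Nat.card (Subgroup.centralizer ({x} : Set G)) : ℝ)⁻¹ *
        ∑ b ∈ blocksFinset M (Subgroup.centralizer ({x} : Set G)),
          (if χ ∈ B then (1 : ℝ) else 0) *
          ∑ c : Subgroup.centralizer ({x} : Set G), Complex.normSq (pRegularPart p (blockPart b
            (fun c : Subgroup.centralizer ({x} : Set G) => (χ : G → ℂ) (x * (c : G)))) c) := by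
    intro χ
    by_cases hχ : χ ∈ B
    · simp only [if_pos hχ, one_mul]
      rw [one_eq_sum_sections hM.1 X hX hXrep χ]
      refine Finset.sum_congr rfl fun x hx => ?_
      have hC : ∀ t, t ∈ Subgroup.centralizer ({x} : Set G) ↔ t * x = x * t := by
        intro t
        rw [Subgroup.mem_centralizer_singleton_iff]
      rw [← sum_blocks_normSq hM (isClassFunction_section _ hC (isClassFunction_irr χ.2))]
    · simp only [if_neg hχ, zero_mul, Finset.sum_const_zero, mul_zero]
  rw [Finset.sum_congr rfl fun χ _ => h1 χ, Finset.sum_comm]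
  refine Finset.sum_congr rfl fun x hx => ?_
  rw [← Finset.mul_sum, Finset.sum_comm]
  have hC0 : (Nat.card (Subgroup.centralizer ({x} : Set G)) : ℝ) ≠ 0 :=
    Nat.cast_ne_zero.2 Nat.card_pos.ne'
  rw [Nat.cast_sum, Finset.mul_sum]
  refine Finset.sum_congr rfl fun b hb => ?_
  rw [mem_blocksFinset] at hb
  have h2 := sum_block_ind_section hM x (hX x hx) hb hB
  rw [h2]
  by_cases hind : IsInducedBlock M (Subgroup.centralizer ({x} : Set G)) b B
  · rw [if_pos hind, if_pos hind, ← mul_assoc, inv_mul_cancel₀ hC0, one_mul]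
  · rw [if_neg hind, if_neg hind, mul_zero, Nat.cast_zero]

end

end Cfsg.Agent.Lib.Helper8
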