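import Mathlib
import Cfsg.Prelude.Def_Blocks
import Cfsg.Prelude.Def_BlockRank
import Cfsg.Agent.Lib.Helper8.KF3
import Cfsg.Agent.Lib.Helper8.BlockIso
import Cfsg.Agent.Lib.Helper8.PR2
import Cfsg.Agent.Lib.Helper8.Sub13
import Cfsg.Agent.S0936

/-!
# The principal 2-block for Klein four Sylow subgroups and one class of involutions has rank 3
-/

set_option autoImplicit false

namespace Cfsg.Agent.Lib.Helper8

open Cfsg
open scoped ComplexConjugate Pointwise
open Cfsg.Agent.Lib.Helper1 Cfsg.Agent.Lib.Helper4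

universe u

section

variable {G₁ G₂ : Type u} [Group G₁] [Group G₂] (φ : G₁ ≃* G₂) {p : ℕ}

/-- The rank of a set of characters is invariant under isomorphisms. -/
theorem blockRank_image_irrMap (e : Set (IrrCharacter G₁)) :
    blockRank p (irrMap φ '' e) = blockRank p e := by
  unfold blockRank
  let L : (G₁ → ℂ) ≃ₗ[ℂ] (G₂ → ℂ) := LinearEquiv.funCongrLeft ℂ ℂ φ.symm.toEquiv
  have hL : ∀ χ : IrrCharacter G₁, L (pRegularPart p (χ : G₁ → ℂ)) =
      pRegularPart p (irrMap φ χ : G₂ → ℂ) := by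
    intro χ
    funext g
    show pRegularPart p (χ : G₁ → ℂ) (φ.symm g) = pRegularPart p (irrMap φ χ : G₂ → ℂ) g
    unfold pRegularPart IsPRegular
    rw [MulEquiv.orderOf_eq, irrMap_apply]
  have hspan : Submodule.span ℂ ((fun χ : IrrCharacter G₂ => pRegularPart p (χ : G₂ → ℂ)) ''
      (irrMap φ '' e)) = (Submodule.span ℂ ((fun χ : IrrCharacter G₁ =>
        pRegularPart p (χ : G₁ → ℂ)) '' e)).map (L : (G₁ → ℂ) →ₗ[ℂ] (G₂ → ℂ)) := by
    rw [Submodule.map_span]
    congr 1
    ext f
    constructor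
    · rintro ⟨_, ⟨χ, hχ, rfl⟩, rfl⟩
      exact ⟨_, ⟨χ, hχ, rfl⟩, hL χ⟩
    · rintro ⟨_, ⟨χ, hχ, rfl⟩, rfl⟩
      exact ⟨_, ⟨χ, hχ, rfl⟩, (hL χ).symm⟩
  rw [hspan]
  exact LinearEquiv.finrank_map_eq L _

end

section

variable {G : Type u} [Group G] [Finite G] {M : Ideal AlgInt}

theorem kleinFour_centralizer_npc (P : Sylow 2 G) (hP : IsK4 (P : Subgroup G))
    {z : G} (hzP : z ∈ (P : Subgroup G)) (hz1 : z ≠ 1) :
    HasNormalPComplement 2 (Subgroup.centralizer ({z} : Set G)) := by
  haveI : Fact (Nat.Prime 2) := ⟨Nat.prime_two⟩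
  set H := Subgroup.centralizer ({z} : Set G) with hH
  have hle : (P : Subgroup G) ≤ H := by
    intro g hg
    rw [hH, Subgroup.mem_centralizer_singleton_iff]
    exact kleinFour_comm hP hg hzP
  let Q : Sylow 2 H := P.subtype hle
  have hQcoe : (Q : Subgroup H) = (P : Subgroup G).subgroupOf H := rfl
  have hQcard : Nat.card (Q : Subgroup H) = 4 := by
    rw [hQcoe, Nat.card_congr (Subgroup.subgroupOfEquivOfLe hle).toEquiv]
    exact hP.1
  have hQ : IsK4 (Q : Subgroup H) := by
    refine ⟨hQcard, fun g hg => ?_⟩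
    rw [hQcoe, Subgroup.mem_subgroupOf] at hg
    exact Subtype.ext (hP.2 _ hg)
  have hzH : z ∈ H := by
    rw [hH, Subgroup.mem_centralizer_singleton_iff]
  have hzQ : (⟨z, hzH⟩ : H) ∈ (Q : Subgroup H) := by
    rw [hQcoe, Subgroup.mem_subgroupOf]
    exact hzP
  have hz1' : (⟨z, hzH⟩ : H) ≠ 1 := by
    intro h
    exact hz1 (congrArg Subtype.val h)
  have hzc : (⟨z, hzH⟩ : H) ∈ Subgroup.center H := by
    rw [Subgroup.mem_center_iff]
    intro h
    apply Subtype.ext
    have := Subgroup.mem_centralizer_singleton_iff.1 h.2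
    exact this
  have hNC := kleinFour_normalizer_le_centralizer Q hQ hzQ hz1' hzc
  exact ⟨Q, _, inferInstance, MonoidHom.ker_transferSylow_isComplement' Q hNC⟩

/-- Every `2`-element of a group with Sylow `2`-subgroups of exponent two is an involution or
trivial. -/
theorem sq_eq_one_of_two_element (P : Sylow 2 G) (hP : IsK4 (P : Subgroup G)) {g : G}
    (hg : ∃ k : ℕ, orderOf g = 2 ^ k) : g * g = 1 := by
  haveI : Fact (Nat.Prime 2) := ⟨Nat.prime_two⟩
  have hpg : IsPGroup 2 (Subgroup.zpowers g) := by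
    obtain ⟨k, hk⟩ := hg
    apply IsPGroup.of_card (n := k)
    rw [Nat.card_zpowers, hk]
  obtain ⟨Q, hQ⟩ := hpg.exists_le_sylow
  obtain ⟨c, hc⟩ := MulAction.exists_smul_eq G P Q
  have hgQ : g ∈ (Q : Subgroup G) := hQ (Subgroup.mem_zpowers g)
  rw [← hc, Sylow.smul_def] at hgQ
  have hgQ' : g ∈ MulAut.conj c • (P : Subgroup G) := hgQ
  obtain ⟨x, hx, rfl⟩ := hgQ'
  simp only [MulDistribMulAction.toMonoidEnd_apply, MulDistribMulAction.toMonoidHom_apply,
    MulAut.smul_def, MulAut.conj_apply]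
  have := hP.2 x hx
  calc c * x * c⁻¹ * (c * x * c⁻¹) = c * (x * x) * c⁻¹ := by group
    _ = 1 := by rw [this, mul_one, mul_inv_cancel]

/-- The centralizer of the identity is the whole group. -/
noncomputable def centralizerOneEquiv (G : Type u) [Group G] :
    Subgroup.centralizer ({(1 : G)} : Set G) ≃* G where
  toFun := Subtype.val
  invFun := fun g => ⟨g, by rw [Subgroup.mem_centralizer_singleton_iff, mul_one, one_mul]⟩
  left_inv := fun _ => rfl
  right_inv := fun _ => rfl
  map_mul' := fun _ _ => rfl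

theorem kf_rank (hM : IsPModular 2 M) (P : Sylow 2 G) (hP : IsK4 (P : Subgroup G))
    (hone : ∀ s t : G, orderOf s = 2 → orderOf t = 2 → IsConj s t) :
    blockRank 2 (principalBlock M G) = 3 := by
  classical
  haveI : Fact (Nat.Prime 2) := ⟨Nat.prime_two⟩
  haveI : Fintype G := Fintype.ofFinite G
  obtain ⟨_, _, _, hcard, -⟩ := kf_block_structure hM P hP hone
  obtain ⟨z, hzP, hz2⟩ := hP.exists_involution
  have hz1 : z ≠ 1 := by
    rintro rfl
    rw [orderOf_one] at hz2
    omega
  have hX : ∀ x ∈ ({1, z} : Finset G), ∃ k : ℕ, orderOf x = 2 ^ k := by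
    intro x hx
    rw [Finset.mem_insert, Finset.mem_singleton] at hx
    rcases hx with rfl | rfl
    · exact ⟨0, by rw [orderOf_one, pow_zero]⟩
    · exact ⟨1, by rw [hz2, pow_one]⟩
  have hXrep : ∀ g : G, (∃ k : ℕ, orderOf g = 2 ^ k) →
      ∃! x, x ∈ ({1, z} : Finset G) ∧ IsConj g x := by
    intro g hg
    have hgg := sq_eq_one_of_two_element P hP hg
    by_cases hg1 : g = 1
    · subst hg1
      refine ⟨1, ⟨by simp, IsConj.refl 1⟩, ?_⟩
      rintro y ⟨-, hy⟩
      exact (isConj_one_right.1 hy)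
    · have hgo : orderOf g = 2 := orderOf_eq_two_of_sq hgg hg1
      refine ⟨z, ⟨by simp, hone g z hgo hz2⟩, ?_⟩
      rintro y ⟨hy, hyc⟩
      rw [Finset.mem_insert, Finset.mem_singleton] at hy
      rcases hy with rfl | rfl
      · exact absurd (isConj_one_left.1 hyc) hg1
      · rfl
  have hkey := card_block_eq_sum_blockRank hM (isPBlock_principalBlock (M := M) (G := G))
    ({1, z} : Finset G) hX hXrep
  rw [hcard, Finset.sum_pair hz1.symm] at hkey
  have hinner : ∀ x : G, (∃ k : ℕ, orderOf x = 2 ^ k) →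
      ∑ᶠ b ∈ {b : Set (IrrCharacter ↥(Subgroup.centralizer ({x} : Set G))) |
        IsInducedBlock M (Subgroup.centralizer ({x} : Set G)) b (principalBlock M G)},
          blockRank 2 b = blockRank 2 (principalBlock M ↥(Subgroup.centralizer ({x} : Set G))) := by
    intro x hx
    have hset : {b : Set (IrrCharacter ↥(Subgroup.centralizer ({x} : Set G))) |
        IsInducedBlock M (Subgroup.centralizer ({x} : Set G)) b (principalBlock M G)} =
        {principalBlock M ↥(Subgroup.centralizer ({x} : Set G))} := by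
      ext b
      rw [Set.mem_ofPred_eq, Set.mem_singleton_iff]
      constructor
      · intro hb
        exact (Cfsg.Agent.S0936.result 2 M hM _ b ⟨_, hb⟩).1 hb
      · intro hb
        have hdef := inducedBlockDefined_centralizer hM hx
          (isPBlock_principalBlock (M := M) (G := ↥(Subgroup.centralizer ({x} : Set G))))
        rw [hb]
        exact (Cfsg.Agent.S0936.result 2 M hM _ _ hdef).2 rfl
    rw [hset, finsum_mem_singleton]
  rw [hinner 1 ⟨0, by rw [orderOf_one, pow_zero]⟩, hinner z ⟨1, by rw [hz2, pow_one]⟩,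
    principal_rank_one_of_npc hM (kleinFour_centralizer_npc P hP hzP hz1)] at hkey
  have htr : blockRank 2 (principalBlock M ↥(Subgroup.centralizer ({(1 : G)} : Set G))) =
      blockRank 2 (principalBlock M G) := by
    rw [← irrMap_image_principalBlock (M := M) (centralizerOneEquiv G), blockRank_image_irrMap]
  rw [htr] at hkey
  omega

end

end Cfsg.Agent.Lib.Helper8
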