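import Mathlib
import Cfsg.Prelude.Def_Blocks
import Cfsg.Agent.Lib.Helper8.BlockCoeff
import Cfsg.Agent.Lib.Helper8.BlockOrth2
import Cfsg.Agent.Lib.Helper8.BlockIdem
import Cfsg.Agent.Lib.Helper8.BlockMinMax
import Cfsg.Agent.Lib.Helper8.BlockFirstMain3

/-!
# Blocks and quotients: Osima's criterion and domination
-/

set_option autoImplicit false
set_option maxHeartbeats 800000

namespace Cfsg.Agent.Lib.Helper8

open Cfsg
open scoped ComplexConjugate
open Cfsg.Agent.Lib.Helper1 Cfsg.Agent.Lib.Helper4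

universe u

section

variable {G : Type u} [Group G] [Fintype G] {M : Ideal AlgInt} {p : ℕ}

/-- **Osima's criterion**: characters whose central characters agree on the `p`-regular elements
lie in the same block. -/
theorem sameBlock_of_regular (hM : IsPModular p M) (χ ψ : IrrCharacter G)
    (h : ∀ g : G, ¬ p ∣ orderOf g →
      MemLocalIdeal M (centralChar (χ : G → ℂ) g - centralChar (ψ : G → ℂ) g)) :
    SameBlock M (χ : G → ℂ) (ψ : G → ℂ) := by
  classical
  have hMp := isPModular_isPrime hM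
  have : Fintype (ConjClasses G) := Fintype.ofFinite _
  have hB : IsPBlock M (blockOf M (χ : G → ℂ)) := ⟨χ, rfl⟩
  obtain ⟨hcf, hS, hω⟩ := blockCoeff_spec hMp hB
  have hχ : χ ∈ blockOf M (χ : G → ℂ) := sameBlock_refl hMp.ne_top _
  have h1 := hω χ
  have h2 := hω ψ
  rw [if_pos hχ] at h1
  have h3 : MemLocalIdeal M (omega (χ : G → ℂ) (blockCoeff (blockOf M (χ : G → ℂ))) -
      omega (ψ : G → ℂ) (blockCoeff (blockOf M (χ : G → ℂ)))) := by
    rw [omega_eq_sum_classes χ.2 hcf, omega_eq_sum_classes ψ.2 hcf, ← Finset.sum_sub_distrib]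
    apply memLocalIdeal_sum hMp
    intro c _
    rw [← mul_sub]
    by_cases hc : p ∣ orderOf (Quotient.out c : G)
    · rw [blockCoeff_eq_zero_of_dvd_orderOf hM hB hc, zero_mul]
      exact memLocalIdeal_zero hMp.ne_top
    · exact memLocalIdeal_mul_left hMp (hS _) (h _ hc)
  rw [h1, h2] at h3
  by_contra hcon
  have hψ : ψ ∉ blockOf M (χ : G → ℂ) := hcon
  rw [if_neg hψ, sub_zero] at h3
  exact not_memLocalIdeal_one hMp h3

end

end Cfsg.Agent.Lib.Helper8
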