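import Mathlib
import Cfsg.Prelude.Def_Blocks
import Cfsg.Agent.Lib.Helper8.Inf1
import Cfsg.Agent.Lib.Helper8.Deflation
import Cfsg.Agent.Lib.Helper8.Cover4

/-!
# Blocks and quotients by normal `p`-subgroups
-/

set_option autoImplicit false
set_option maxHeartbeats 800000

namespace Cfsg.Agent.Lib.Helper8

open Cfsg
open scoped ComplexConjugate
open Cfsg.Agent.Lib.Helper1 Cfsg.Agent.Lib.Helper4

universe u

section

variable {G : Type u} [Group G] [Finite G] (N : Subgroup G) [N.Normal]

theorem centralizer_le_comap_centralizer_mk (g : G) :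
    Subgroup.centralizer ({g} : Set G) ≤
      (Subgroup.centralizer ({(QuotientGroup.mk g : G ⧸ N)} : Set (G ⧸ N))).comap
        (QuotientGroup.mk' N) := by
  intro h hh
  rw [Subgroup.mem_comap, Subgroup.mem_centralizer_singleton_iff]
  rw [Subgroup.mem_centralizer_singleton_iff] at hh
  show (QuotientGroup.mk h : G ⧸ N) * QuotientGroup.mk g = QuotientGroup.mk g * QuotientGroup.mk h
  rw [← QuotientGroup.mk_mul, ← QuotientGroup.mk_mul, hh]

/-- The class size of `g` is a multiple of the class size of its image in the quotient. -/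
theorem index_centralizer_eq_mul (g : G) :
    (Subgroup.centralizer ({g} : Set G)).index =
      (Subgroup.centralizer ({g} : Set G)).relIndex
        ((Subgroup.centralizer ({(QuotientGroup.mk g : G ⧸ N)} : Set (G ⧸ N))).comap
          (QuotientGroup.mk' N)) *
      (Subgroup.centralizer ({(QuotientGroup.mk g : G ⧸ N)} : Set (G ⧸ N))).index := by
  rw [← Subgroup.index_comap_of_surjective _ (QuotientGroup.mk'_surjective N)]
  exact (Subgroup.relIndex_mul_index (centralizer_le_comap_centralizer_mk N g)).symm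

/-- Central characters of inflated functions. -/
theorem centralChar_inflation (χ : G ⧸ N → ℂ) (g : G) :
    centralChar (fun x : G => χ (QuotientGroup.mk x)) g =
      ((Subgroup.centralizer ({g} : Set G)).relIndex
        ((Subgroup.centralizer ({(QuotientGroup.mk g : G ⧸ N)} : Set (G ⧸ N))).comap
          (QuotientGroup.mk' N)) : ℂ) * centralChar χ (QuotientGroup.mk g) := by
  unfold centralChar
  rw [index_centralizer_eq_mul N g]
  push_cast
  rw [QuotientGroup.mk_one]
  ring

end

section

variable {G : Type u} [Group G] [Fintype G] (N : Subgroup G) [N.Normal]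
  {M : Ideal AlgInt} {p : ℕ}

/-- **Domination**: characters of the quotient in the same block have inflations in the same
block. -/
theorem sameBlock_inflation (hM : M.IsPrime) {χ ψ : G ⧸ N → ℂ}
    (h : SameBlock M χ ψ) :
    SameBlock M (fun g : G => χ (QuotientGroup.mk g)) (fun g : G => ψ (QuotientGroup.mk g)) := by
  intro g
  rw [centralChar_inflation, centralChar_inflation, ← mul_sub]
  exact memLocalIdeal_mul_left hM (memLocalRing_natCast hM.ne_top _) (h _)

end

section

variable {G : Type u} [Group G] [Finite G] {p : ℕ} [Fact p.Prime]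

/-- A `p`-regular element of a quotient has a `p`-regular lift. -/
theorem exists_regular_lift (N : Subgroup G) [N.Normal] (q : G ⧸ N) (hq : ¬ p ∣ orderOf q) :
    ∃ g : G, (QuotientGroup.mk g : G ⧸ N) = q ∧ ¬ p ∣ orderOf g := by
  have hp : p.Prime := Fact.out
  obtain ⟨g₀, rfl⟩ := QuotientGroup.mk_surjective q
  obtain ⟨a, m, hm, hgm⟩ := Nat.exists_eq_pow_mul_and_not_dvd (orderOf_pos g₀).ne' p hp.ne_one
  have hcop : (p ^ a).Coprime (orderOf (QuotientGroup.mk g₀ : G ⧸ N)) :=
    Nat.Coprime.pow_left _ ((Nat.Prime.coprime_iff_not_dvd hp).2 hq)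
  obtain ⟨t, ht⟩ := exists_pow_eq_self_of_coprime hcop
  refine ⟨(g₀ ^ p ^ a) ^ t, ?_, ?_⟩
  · rw [QuotientGroup.mk_pow, QuotientGroup.mk_pow]
    exact ht
  · intro hdvd
    have h1 : orderOf ((g₀ ^ p ^ a) ^ t) ∣ orderOf (g₀ ^ p ^ a) := orderOf_pow_dvd t
    have h2 : orderOf (g₀ ^ p ^ a) = m := by
      rw [orderOf_pow' g₀ (pow_ne_zero a hp.ne_zero), hgm, Nat.gcd_eq_right (dvd_mul_right _ _)]
      exact Nat.mul_div_cancel_left m (pow_pos hp.pos a)
    rw [h2] at h1
    exact hm (hdvd.trans h1)

/-- Under the hypotheses of the theorem, `p`-regular elements centralize `P`. -/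
theorem regular_mem_centralizer (P : Subgroup G) [P.Normal]
    (hC : ∃ k : ℕ, (Subgroup.centralizer (P : Set G)).index = p ^ k) {g : G}
    (hg : ¬ p ∣ orderOf g) : g ∈ Subgroup.centralizer (P : Set G) := by
  have hp : p.Prime := Fact.out
  obtain ⟨k, hk⟩ := hC
  have hCn : (Subgroup.centralizer (P : Set G)).Normal := inferInstance
  have h1 : orderOf (QuotientGroup.mk' (Subgroup.centralizer (P : Set G)) g) ∣ orderOf g :=
    orderOf_map_dvd _ g
  have h2 : orderOf (QuotientGroup.mk' (Subgroup.centralizer (P : Set G)) g) ∣ p ^ k := by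
    rw [← hk, Subgroup.index_eq_card]
    exact orderOf_dvd_natCard _
  obtain ⟨j, -, hj⟩ := (Nat.dvd_prime_pow hp).1 h2
  have hj0 : j = 0 := by
    by_contra hj0
    apply hg
    refine dvd_trans ?_ h1
    rw [hj]
    exact dvd_pow_self p hj0
  rw [hj0, pow_zero, orderOf_eq_one_iff] at hj
  exact (QuotientGroup.eq_one_iff g).1 hj

/-- For a `p`-regular element centralizing the normal `p`-subgroup `P`, the centralizer of the
image in `G ⧸ P` is the image of the centralizer. -/
theorem comap_centralizer_mk_of_regular (P : Subgroup G) [P.Normal] (hP : IsPGroup p P)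
    {g : G} (hgP : g ∈ Subgroup.centralizer (P : Set G)) (hg : ¬ p ∣ orderOf g) :
    (Subgroup.centralizer ({(QuotientGroup.mk g : G ⧸ P)} : Set (G ⧸ P))).comap
        (QuotientGroup.mk' P) = Subgroup.centralizer ({g} : Set G) := by
  have hp : p.Prime := Fact.out
  apply le_antisymm _ (centralizer_le_comap_centralizer_mk P g)
  intro h hh
  rw [Subgroup.mem_comap, Subgroup.mem_centralizer_singleton_iff] at hh
  rw [Subgroup.mem_centralizer_singleton_iff]
  -- `z = g⁻¹ h g h⁻¹ ∈ P`, and `h g h⁻¹ = g z`
  have hz : g⁻¹ * (h * g * h⁻¹) ∈ P := by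
    rw [← QuotientGroup.eq_one_iff]
    have e : (QuotientGroup.mk' P h) * QuotientGroup.mk' P g =
        QuotientGroup.mk' P g * QuotientGroup.mk' P h := hh
    have : (QuotientGroup.mk (g⁻¹ * (h * g * h⁻¹)) : G ⧸ P) =
        (QuotientGroup.mk' P g)⁻¹ * (QuotientGroup.mk' P h * QuotientGroup.mk' P g *
          (QuotientGroup.mk' P h)⁻¹) := by
      simp
    rw [this, e]
    group
  set z := g⁻¹ * (h * g * h⁻¹) with hzdef
  have hgz : Commute g z := by
    have := (Subgroup.mem_centralizer_iff.1 hgP) z hz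
    exact this.symm
  have hconj : h * g * h⁻¹ = g * z := by rw [hzdef]; group
  set n := orderOf g with hn
  have h1 : (g * z) ^ n = 1 := by
    rw [← hconj, conj_pow, hn, pow_orderOf_eq_one]
    group
  rw [hgz.mul_pow, hn, pow_orderOf_eq_one, one_mul] at h1
  obtain ⟨k, hk⟩ := (IsPGroup.iff_orderOf.1 hP) ⟨z, hz⟩
  have hk' : orderOf z = p ^ k := by
    rw [← hk, Subgroup.orderOf_mk]
  have h2 : orderOf z ∣ n := orderOf_dvd_of_pow_eq_one h1
  have hz1 : z = 1 := by
    rw [← orderOf_eq_one_iff, hk']
    rw [hk'] at h2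
    by_contra hne
    have hk0 : k ≠ 0 := by
      rintro rfl
      exact hne (pow_zero p)
    exact hg ((dvd_pow_self p hk0).trans h2)
  rw [hz1, mul_one] at hconj
  calc h * g = h * g * h⁻¹ * h := by group
    _ = g * h := by rw [hconj]

end

end Cfsg.Agent.Lib.Helper8
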