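import Mathlib
import Cfsg.Prelude.Def_Blocks
import Cfsg.Agent.Lib.Helper8.Inf2
import Cfsg.Agent.Lib.Helper8.BlockNormalP

/-!
# Blocks and quotients by normal `p`-subgroups: every block contains an inflated character
-/

set_option autoImplicit false
set_option maxHeartbeats 800000

namespace Cfsg.Agent.Lib.Helper8

open Cfsg
open scoped ComplexConjugate
open Cfsg.Agent.Lib.Helper1 Cfsg.Agent.Lib.Helper4

universe u

section

variable {G : Type u} [Group G] [Fintype G] {M : Ideal AlgInt} {p : ℕ} [Fact p.Prime]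

/-- Every block contains a character trivial on a given normal `p`-subgroup. -/
theorem exists_mem_block_trivial_on_normal (hM : IsPModular p M) (P : Subgroup G) [P.Normal]
    (hP : IsPGroup p P) {B : Set (IrrCharacter G)} (hB : IsPBlock M B) :
    ∃ θ ∈ B, ∀ n ∈ P, (θ : G → ℂ) n = (θ : G → ℂ) 1 := by
  classical
  have hMp := isPModular_isPrime hM
  have hp : p.Prime := Fact.out
  have : Fintype (IrrCharacter G) := Fintype.ofFinite _
  have : Fintype P := Fintype.ofFinite _
  by_contra hcon
  push Not at hcon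
  have hzero : ∀ θ ∈ B, ∑ x : P, (θ : G → ℂ) (x : G) = 0 := by
    intro θ hθ
    have h1 : classInner (fun n : P => (θ : G → ℂ) n) (fun _ : P => (1 : ℂ)) = 0 := by
      by_contra hne
      obtain ⟨n, hn, hne'⟩ := hcon θ hθ
      exact hne' ((constituent_one_iff P θ.2).1 hne n hn)
    unfold classInner at h1
    rcases mul_eq_zero.1 h1 with h | h
    · exfalso
      have : (Nat.card P : ℂ) ≠ 0 := Nat.cast_ne_zero.2 Nat.card_pos.ne'
      exact this (inv_eq_zero.1 h)
    · simpa using h
  have hsum1 : ∑ x : P, blockCoeff B (x : G) = 0 := by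
    simp_rw [blockCoeff_eq_sum]
    rw [← Finset.mul_sum, Finset.sum_comm]
    apply mul_eq_zero_of_right
    apply Finset.sum_eq_zero
    intro ψ _
    by_cases hψ : ψ ∈ B
    · simp only [hψ, if_true, one_mul]
      rw [← Finset.mul_sum, ← map_sum, hzero ψ hψ, map_zero, mul_zero]
    · simp only [hψ, if_false, zero_mul, Finset.sum_const_zero]
  have hsum2 : ∑ x : P, blockCoeff B (x : G) = blockCoeff B 1 := by
    rw [Finset.sum_eq_single (1 : P)]
    · rfl
    · intro x _ hx
      apply blockCoeff_eq_zero_of_dvd_orderOf hM hB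
      obtain ⟨k, hk⟩ := (IsPGroup.iff_orderOf.1 hP) x
      rw [Subgroup.orderOf_coe, hk]
      have hk0 : k ≠ 0 := by
        rintro rfl
        rw [pow_zero, orderOf_eq_one_iff] at hk
        exact hx hk
      exact dvd_pow_self p hk0
    · intro h
      exact absurd (Finset.mem_univ _) h
  rw [hsum2] at hsum1
  exact blockCoeff_one_ne_zero (isPBlock_nonempty hMp hB) hsum1

/-- **Blocks of `G` and of `G ⧸ P`** for a normal `p`-subgroup `P` with `G / C_G(P)` a
`p`-group. -/
theorem blocks_quotient_normal_p (hM : IsPModular p M) (P : Subgroup G) [P.Normal]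
    (hP : IsPGroup p P) (hC : ∃ k : ℕ, (Subgroup.centralizer (P : Set G)).index = p ^ k) :
    (∀ χ ψ : IrrCharacter (G ⧸ P), SameBlock M (χ : G ⧸ P → ℂ) (ψ : G ⧸ P → ℂ) ↔
      SameBlock M ((χ : G ⧸ P → ℂ) ∘ QuotientGroup.mk) ((ψ : G ⧸ P → ℂ) ∘ QuotientGroup.mk)) ∧
    ∀ B : Set (IrrCharacter G), IsPBlock M B →
      ∃ χ : IrrCharacter (G ⧸ P), ∃ θ ∈ B, (θ : G → ℂ) = (χ : G ⧸ P → ℂ) ∘ QuotientGroup.mk := by
  classical
  have hMp := isPModular_isPrime hM
  have : Fintype (G ⧸ P) := Fintype.ofFinite _
  constructor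
  · intro χ ψ
    constructor
    · intro h
      exact sameBlock_inflation P hMp h
    · intro h
      apply sameBlock_of_regular hM χ ψ
      intro q hq
      obtain ⟨g, rfl, hg⟩ := exists_regular_lift P q hq
      have hgP := regular_mem_centralizer P hC hg
      have h1 := h g
      have e : ∀ φ : G ⧸ P → ℂ, centralChar (φ ∘ QuotientGroup.mk) g =
          centralChar φ (QuotientGroup.mk g : G ⧸ P) := by
        intro φ
        have := centralChar_inflation P φ g
        rw [comap_centralizer_mk_of_regular P hP hgP hg, Subgroup.relIndex_self, Nat.cast_one,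
          one_mul] at this
        exact this
      rw [e, e] at h1
      exact h1
  · intro B hB
    obtain ⟨θ, hθ, hker⟩ := exists_mem_block_trivial_on_normal hM P hP hB
    obtain ⟨χ, hχ, hχθ⟩ := exists_deflation P θ.2 hker
    refine ⟨⟨χ, hχ⟩, θ, hθ, ?_⟩
    funext g
    exact (hχθ g).symm

end

end Cfsg.Agent.Lib.Helper8
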