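import Mathlib
import Cfsg.Prelude.Def_Blocks
import Cfsg.Agent.Lib.Helper8.Inf3
import Cfsg.Agent.Lib.Helper8.BlockFirstMain4
import Cfsg.Agent.Lib.Helper8.PairFull

/-!
# Defect groups of dominated blocks
-/

set_option autoImplicit false
set_option maxHeartbeats 800000

namespace Cfsg.Agent.Lib.Helper8

open Cfsg
open scoped ComplexConjugate
open Cfsg.Agent.Lib.Helper1 Cfsg.Agent.Lib.Helper4

universe u

section

variable {G : Type u} [Group G] [Fintype G] (N : Subgroup G) [N.Normal] [Fintype (G ⧸ N)]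
  {M : Ideal AlgInt} {p : ℕ}

/-- Push a function on `G` forward to the quotient, summing over the fibres. -/
noncomputable def pushQ (F : G → ℂ) : G ⧸ N → ℂ := fun q =>
  by classical exact ∑ k : G, if (QuotientGroup.mk k : G ⧸ N) = q then F k else 0

omit [Fintype (G ⧸ N)] in
theorem pushQ_apply [DecidableEq (G ⧸ N)] (F : G → ℂ) (q : G ⧸ N) :
    pushQ N F q = ∑ k : G, if (QuotientGroup.mk k : G ⧸ N) = q then F k else 0 := by
  unfold pushQ
  refine Finset.sum_congr rfl fun k _ => ?_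
  congr

theorem omega_pushQ (χ : G ⧸ N → ℂ) (F : G → ℂ) :
    omega χ (pushQ N F) = omega (fun g : G => χ (QuotientGroup.mk g)) F := by
  classical
  unfold omega
  beta_reduce
  rw [QuotientGroup.mk_one]
  congr 1
  simp_rw [pushQ_apply, Finset.sum_mul]
  rw [Finset.sum_comm]
  refine Finset.sum_congr rfl fun k _ => ?_
  simp_rw [ite_mul, zero_mul]
  rw [Finset.sum_ite_eq Finset.univ (QuotientGroup.mk k : G ⧸ N)
    (fun q => F k * χ q), if_pos (Finset.mem_univ _)]

omit [Fintype (G ⧸ N)] in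
theorem isClassFunction_pushQ {F : G → ℂ} (hF : IsClassFunction G F) :
    IsClassFunction (G ⧸ N) (pushQ N F) := by
  classical
  intro q s
  obtain ⟨s₀, rfl⟩ := QuotientGroup.mk_surjective s
  rw [pushQ_apply, pushQ_apply]
  apply Finset.sum_nbij' (fun k => s₀⁻¹ * k * s₀) (fun k => s₀ * k * s₀⁻¹)
  · intro k _; exact Finset.mem_univ _
  · intro k _; exact Finset.mem_univ _
  · intro k _; group
  · intro k _; group
  · intro k _
    have h1 : F (s₀⁻¹ * k * s₀) = F k := by
      have := hF k s₀⁻¹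
      simpa using this
    have h2 : ((QuotientGroup.mk (s₀⁻¹ * k * s₀) : G ⧸ N) = q) ↔
        ((QuotientGroup.mk k : G ⧸ N) = QuotientGroup.mk s₀ * q * (QuotientGroup.mk s₀)⁻¹) := by
      rw [QuotientGroup.mk_mul, QuotientGroup.mk_mul, QuotientGroup.mk_inv]
      constructor
      · intro h
        rw [← h]
        group
      · intro h
        rw [h]
        group
    rw [h1]
    by_cases hk : (QuotientGroup.mk k : G ⧸ N) = QuotientGroup.mk s₀ * q * (QuotientGroup.mk s₀)⁻¹
    · rw [if_pos hk, if_pos (h2.2 hk)]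
    · rw [if_neg hk, if_neg (fun h => hk (h2.1 h))]

omit [Fintype (G ⧸ N)] in
theorem memLocalRing_pushQ (hM : M.IsPrime) {F : G → ℂ} (hF : ∀ g, MemLocalRing M (F g))
    (q : G ⧸ N) : MemLocalRing M (pushQ N F q) := by
  classical
  rw [pushQ_apply]
  apply memLocalRing_sum hM
  intro k _
  split_ifs
  · exact hF k
  · exact memLocalRing_zero hM.ne_top

end

section

variable {G : Type u} [Group G] [Fintype G] (N : Subgroup G) [N.Normal]
  {M : Ideal AlgInt} {p : ℕ} [Fact p.Prime]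

/-- **Defect groups of dominated blocks** (Navarro 9.9(a)). -/
theorem exists_defectGroup_ge_quotient (hM : IsPModular p M)
    {Bbar : Set (IrrCharacter (G ⧸ N))} (hBbar : IsPBlock M Bbar)
    {B : Set (IrrCharacter G)} (hB : IsPBlock M B)
    (hsub : ∀ χ ∈ Bbar, ∀ ψ : IrrCharacter G,
      (ψ : G → ℂ) = (χ : G ⧸ N → ℂ) ∘ QuotientGroup.mk → ψ ∈ B)
    {Dbar : Subgroup (G ⧸ N)} (hDbar : IsDefectGroup p M Bbar Dbar) :
    ∃ P : Subgroup G, IsDefectGroup p M B P ∧ Dbar ≤ P.map (QuotientGroup.mk' N) := by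
  classical
  have hMp := isPModular_isPrime hM
  have : Fintype (G ⧸ N) := Fintype.ofFinite _
  have : Fintype (ConjClasses (G ⧸ N)) := Fintype.ofFinite _
  obtain ⟨χbar, hχbar⟩ := isPBlock_nonempty hMp hBbar
  set χ : IrrCharacter G := ⟨fun g => (χbar : G ⧸ N → ℂ) (QuotientGroup.mk g),
    isIrrCharacter_inflation N χbar.2⟩ with hχdef
  have hχB : χ ∈ B := hsub χbar hχbar χ rfl
  obtain ⟨hcf, hS, hω⟩ := blockCoeff_spec hMp hB
  set Fb := pushQ N (blockCoeff B) with hFb
  have hFbcf : IsClassFunction (G ⧸ N) Fb := isClassFunction_pushQ N hcf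
  have hFbS : ∀ q, MemLocalRing M (Fb q) := memLocalRing_pushQ N hMp hS
  have h1 : omega (χbar : G ⧸ N → ℂ) Fb = 1 := by
    rw [hFb, omega_pushQ]
    have := hω χ
    rw [if_pos hχB] at this
    exact this
  rw [omega_eq_sum_classes χbar.2 hFbcf] at h1
  -- a class where both factors are units
  obtain ⟨q, hq1, hq2⟩ : ∃ q : G ⧸ N, ¬ MemLocalIdeal M (Fb q) ∧
      ¬ MemLocalIdeal M (centralChar (χbar : G ⧸ N → ℂ) q) := by
    by_contra hcon
    push Not at hcon
    apply not_memLocalIdeal_one hMp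
    rw [← h1]
    apply memLocalIdeal_sum hMp
    intro c _
    by_cases hc : MemLocalIdeal M (Fb (Quotient.out c))
    · exact memLocalIdeal_mul_right hMp hc (memLocalRing_centralChar hMp.ne_top χbar.2 _)
    · exact memLocalIdeal_mul_left hMp (hFbS _) (hcon _ hc)
  -- the defect group centralizes a conjugate of `q`
  have hDp : IsPGroup p Dbar := isPGroup_of_isDefectGroup hDbar
  obtain ⟨x₀, hdef, Syl, hDeq⟩ := hDbar
  have hDle : Dbar ≤ Subgroup.centralizer ({x₀} : Set (G ⧸ N)) := by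
    rw [hDeq]
    rintro _ ⟨y, _, rfl⟩
    exact y.2
  obtain ⟨y, hconj, hDy⟩ := exists_isConj_le_centralizer hM hBbar ⟨χbar, hχbar, hq2⟩ hdef.2.1
    Dbar hDp hDle
  have hFy : ¬ MemLocalIdeal M (Fb y) := by
    obtain ⟨s, hs⟩ := isConj_iff.1 hconj
    rw [← hs, hFbcf q s]
    exact hq1
  -- a `p`-subgroup of `G` mapping onto `Dbar`
  obtain ⟨Qbar, hQbar⟩ := hDp.exists_le_sylow
  obtain ⟨Q, hQ⟩ := Sylow.mapSurjective_surjective (QuotientGroup.mk'_surjective N) p Qbar
  set T : Subgroup G := (Q : Subgroup G) ⊓ Dbar.comap (QuotientGroup.mk' N) with hT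
  have hTp : IsPGroup p T := Q.2.to_le inf_le_left
  have hTmap : ∀ d ∈ Dbar, ∃ t ∈ T, (QuotientGroup.mk' N) t = d := by
    intro d hd
    have h2 : d ∈ (Qbar : Subgroup (G ⧸ N)) := hQbar hd
    rw [← hQ, Sylow.coe_mapSurjective] at h2
    obtain ⟨t, ht, rfl⟩ := h2
    exact ⟨t, ⟨ht, hd⟩, rfl⟩
  -- fixed point congruence
  set f : G → ℂ := fun k => if (QuotientGroup.mk k : G ⧸ N) = y then blockCoeff B k else 0
    with hf
  have hfinv : ∀ u ∈ T, ∀ k : G, f (u * k * u⁻¹) = f k := by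
    intro u hu k
    have huD : (QuotientGroup.mk u : G ⧸ N) ∈ Dbar := hu.2
    have hcomm := Subgroup.mem_centralizer_singleton_iff.1 (hDy huD)
    have h2 : ((QuotientGroup.mk (u * k * u⁻¹) : G ⧸ N) = y) ↔
        ((QuotientGroup.mk k : G ⧸ N) = y) := by
      rw [QuotientGroup.mk_mul, QuotientGroup.mk_mul, QuotientGroup.mk_inv]
      constructor
      · intro h
        have : (QuotientGroup.mk k : G ⧸ N) =
            (QuotientGroup.mk u : G ⧸ N)⁻¹ * y * (QuotientGroup.mk u : G ⧸ N) := by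
          rw [← h]
          group
        rw [this, mul_assoc, ← hcomm]
        group
      · intro h
        rw [h, hcomm]
        group
    show (if (QuotientGroup.mk (u * k * u⁻¹) : G ⧸ N) = y then blockCoeff B (u * k * u⁻¹) else 0) =
      if (QuotientGroup.mk k : G ⧸ N) = y then blockCoeff B k else 0
    rw [hcf k u]
    by_cases hk : (QuotientGroup.mk k : G ⧸ N) = y
    · rw [if_pos hk, if_pos (h2.2 hk)]
    · rw [if_neg hk, if_neg (fun h => hk (h2.1 h))]
  have hfS : ∀ k, MemLocalRing M (f k) := by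
    intro k
    show MemLocalRing M (if (QuotientGroup.mk k : G ⧸ N) = y then blockCoeff B k else 0)
    split_ifs
    · exact hS k
    · exact memLocalRing_zero hMp.ne_top
  have hcong := memLocalIdeal_sum_sub_sum_centralizer hM T hTp f hfinv hfS
  have hsum : ∑ k, f k = Fb y := by
    rw [hFb, pushQ_apply]
  rw [hsum] at hcong
  obtain ⟨k, hkC, hk⟩ : ∃ k ∈ Subgroup.centralizer (T : Set G), ¬ MemLocalIdeal M (f k) := by
    by_contra hcon
    push Not at hcon
    apply hFy
    have h3 : MemLocalIdeal M (∑ x ∈ Finset.univ.filter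
        (fun x : G => x ∈ Subgroup.centralizer (T : Set G)), f x) := by
      apply memLocalIdeal_sum hMp
      intro x hx
      exact hcon x (Finset.mem_filter.1 hx).2
    have := memLocalIdeal_add hMp hcong h3
    rwa [sub_add_cancel] at this
  have hky : (QuotientGroup.mk k : G ⧸ N) = y := by
    by_contra hne
    apply hk
    show MemLocalIdeal M (if (QuotientGroup.mk k : G ⧸ N) = y then blockCoeff B k else 0)
    rw [if_neg hne]
    exact memLocalIdeal_zero hMp.ne_top
  have hkB : ¬ MemLocalIdeal M (blockCoeff B k) := by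
    intro h
    apply hk
    show MemLocalIdeal M (if (QuotientGroup.mk k : G ⧸ N) = y then blockCoeff B k else 0)
    rw [if_pos hky]
    exact h
  obtain ⟨P₀, hP₀⟩ := exists_isDefectGroup (p := p) hMp hB
  obtain ⟨x, hx⟩ := (exists_unit_coeff_iff hM hB hP₀ T hTp).1
    ⟨k, hS k, hkB, k, IsConj.refl k, hkC⟩
  refine ⟨P₀.map (MulAut.conj x⁻¹).toMonoidHom, isDefectGroup_map_conj hP₀ x⁻¹, ?_⟩
  intro d hd
  obtain ⟨t, ht, rfl⟩ := hTmap d hd
  refine ⟨t, ?_, rfl⟩
  refine ⟨x * t * x⁻¹, hx ⟨t, ht, by simp⟩, ?_⟩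
  simp [mul_assoc]

end

end Cfsg.Agent.Lib.Helper8
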