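import Mathlib
import Cfsg.Prelude.Def_Blocks
import Cfsg.Agent.Lib.Helper8.Inf4
import Cfsg.Agent.Lib.Helper8.BlockExactIdem
import Cfsg.Agent.Lib.Helper8.PairConj3

/-!
# Blocks of `G ⧸ N` for a normal `p`-subgroup `N`: a dominated block with the image defect groups
-/

set_option autoImplicit false
set_option maxHeartbeats 800000

namespace Cfsg.Agent.Lib.Helper8

open Cfsg
open scoped ComplexConjugate
open Cfsg.Agent.Lib.Helper1 Cfsg.Agent.Lib.Helper4

universe u

section

variable {G : Type u} [Group G] [Fintype G] {M : Ideal AlgInt} {p : ℕ}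

/-- If the idempotent of a union of blocks is a unit at `g`, so is that of one of the blocks. -/
theorem exists_block_unit_of_union (hM : M.IsPrime) (A : Set (IrrCharacter G))
    (hA : ∀ χ ∈ A, blockOf M (χ : G → ℂ) ⊆ A) (g : G)
    (hu : ¬ MemLocalIdeal M (blockCoeff A g)) :
    ∃ χ ∈ A, ¬ MemLocalIdeal M (blockCoeff (blockOf M (χ : G → ℂ)) g) := by
  classical
  have hfin : A.Finite := Set.toFinite A
  induction' hn : hfin.toFinset.card using Nat.strong_induction_on with n ih generalizing A
  by_cases hne : A.Nonempty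
  · obtain ⟨χ, hχ⟩ := hne
    set B := blockOf M (χ : G → ℂ) with hBdef
    by_cases hBu : MemLocalIdeal M (blockCoeff B g)
    · have hBA : B ⊆ A := hA χ hχ
      have hA' : ∀ ψ ∈ A \ B, blockOf M (ψ : G → ℂ) ⊆ A \ B := by
        intro ψ hψ φ hφ
        refine ⟨hA ψ hψ.1 hφ, ?_⟩
        intro hφB
        apply hψ.2
        exact sameBlock_trans hM hφB (sameBlock_symm hφ)
      have hdisj : Disjoint B (A \ B) := Set.disjoint_sdiff_right
      have hunion : B ∪ (A \ B) = A := Set.union_sdiff_cancel hBA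
      have hlt : (Set.toFinite (A \ B)).toFinset.card < n := by
        rw [← hn]
        apply Finset.card_lt_card
        rw [Finset.ssubset_iff_of_subset]
        · refine ⟨χ, ?_, ?_⟩
          · rw [Set.Finite.mem_toFinset]; exact hχ
          · rw [Set.Finite.mem_toFinset]
            intro h
            exact h.2 (sameBlock_refl hM.ne_top _)
        · intro ψ hψ
          rw [Set.Finite.mem_toFinset] at hψ ⊢
          exact hψ.1
      have hu' : ¬ MemLocalIdeal M (blockCoeff (A \ B) g) := by
        intro h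
        apply hu
        rw [← hunion, blockCoeff_union_of_disjoint hdisj]
        exact memLocalIdeal_add hM hBu h
      obtain ⟨ψ, hψ, hψu⟩ := ih _ hlt (A \ B) hA' hu' (Set.toFinite _) rfl
      exact ⟨ψ, hψ.1, hψu⟩
    · exact ⟨χ, hχ, hBu⟩
  · rw [Set.not_nonempty_iff_eq_empty] at hne
    exfalso
    apply hu
    rw [hne]
    unfold blockCoeff
    rw [finsum_mem_empty, mul_zero]
    exact memLocalIdeal_zero hM.ne_top

end

section

variable {G : Type u} [Group G] [Finite G] (N : Subgroup G) [N.Normal]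

theorem card_comap_mk (X : Subgroup (G ⧸ N)) :
    Nat.card (X.comap (QuotientGroup.mk' N)) = Nat.card X * Nat.card N := by
  have h1 := Subgroup.card_mul_index (X.comap (QuotientGroup.mk' N))
  have h2 := Subgroup.card_mul_index X
  have h3 := Subgroup.index_comap_of_surjective X (QuotientGroup.mk'_surjective N)
  have h4 := Subgroup.card_eq_card_quotient_mul_card_subgroup N
  have h5 : X.index ≠ 0 := Subgroup.index_ne_zero_of_finite
  rw [h3] at h1
  apply Nat.eq_of_mul_eq_mul_right (Nat.pos_of_ne_zero h5)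
  rw [h1, h4, ← h2]
  ring

end

section

variable {G : Type u} [Group G] [Fintype G] (N : Subgroup G) [N.Normal]
  {M : Ideal AlgInt} {p : ℕ} [Fact p.Prime]

/-- Inflation of an irreducible character of the quotient. -/
noncomputable def inflIrr (χ : IrrCharacter (G ⧸ N)) : IrrCharacter G :=
  ⟨fun g => (χ : G ⧸ N → ℂ) (QuotientGroup.mk g), isIrrCharacter_inflation N χ.2⟩

omit [Fintype G] in
theorem inflIrr_apply (χ : IrrCharacter (G ⧸ N)) (g : G) :
    (inflIrr N χ : G → ℂ) g = (χ : G ⧸ N → ℂ) (QuotientGroup.mk g) := rfl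

/-- The push-forward of a block idempotent is the idempotent of the set of characters of the
quotient whose inflations lie in the block. -/
theorem pushQ_blockCoeff (B : Set (IrrCharacter G)) [Fintype (G ⧸ N)]
    (hcf : IsClassFunction G (blockCoeff B)) :
    pushQ N (blockCoeff B) = blockCoeff {χ : IrrCharacter (G ⧸ N) | inflIrr N χ ∈ B} := by
  classical
  have : Fintype (IrrCharacter (G ⧸ N)) := Fintype.ofFinite _
  apply eq_blockCoeff_of_omega _ (isClassFunction_pushQ N hcf)
  intro χ
  rw [omega_pushQ]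
  have := omega_blockCoeff B (inflIrr N χ)
  rw [show (fun g : G => (χ : G ⧸ N → ℂ) (QuotientGroup.mk g)) = (inflIrr N χ : G → ℂ) from rfl,
    this]
  rfl

/-- **Navarro 9.9(b)**: for a normal `p`-subgroup `N`, every block of `G` dominates a block of
`G ⧸ N` whose defect groups are the images of those of `B`. -/
theorem exists_dominated_block_defect (hM : IsPModular p M) (hN : IsPGroup p N)
    {B : Set (IrrCharacter G)} (hB : IsPBlock M B) :
    ∃ Bbar : Set (IrrCharacter (G ⧸ N)), IsPBlock M Bbar ∧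
      (∀ χ ∈ Bbar, ∀ ψ : IrrCharacter G,
        (ψ : G → ℂ) = (χ : G ⧸ N → ℂ) ∘ QuotientGroup.mk → ψ ∈ B) ∧
      ∀ Dbar : Subgroup (G ⧸ N), IsDefectGroup p M Bbar Dbar ↔
        ∃ P : Subgroup G, IsDefectGroup p M B P ∧ Dbar = P.map (QuotientGroup.mk' N) := by
  classical
  have hMp := isPModular_isPrime hM
  have hp : p.Prime := Fact.out
  have : Fintype (G ⧸ N) := Fintype.ofFinite _
  obtain ⟨hcf, hS, hω⟩ := blockCoeff_spec hMp hB
  obtain ⟨P, hP⟩ := exists_isDefectGroup (p := p) hMp hB
  have hNP : N ≤ P := normal_le_of_isDefectGroup hM hB hP N hN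
  have hPcard := card_of_isDefectGroup hM hB hP
  obtain ⟨g, hg, Syl, hPeq⟩ := hP
  have hP : IsDefectGroup p M B P := ⟨g, hg, Syl, hPeq⟩
  have hPg : P ≤ Subgroup.centralizer ({g} : Set G) := by
    rw [hPeq]
    rintro _ ⟨y, _, rfl⟩
    exact y.2
  have hPcard' : Nat.card P = p ^ (Nat.card (Subgroup.centralizer ({g} : Set G))).factorization p :=
    card_of_sylow_map_eq _ _ Syl hPeq.symm
  have hgreg : ¬ p ∣ orderOf g := by
    intro h
    apply hg.2.1
    rw [blockCoeff_eq_zero_of_dvd_orderOf hM hB h]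
    exact memLocalIdeal_zero hMp.ne_top
  have hgN : g ∈ Subgroup.centralizer (N : Set G) := by
    rw [Subgroup.mem_centralizer_iff]
    intro n hn
    have := hPg (hNP hn)
    rw [Subgroup.mem_centralizer_singleton_iff] at this
    exact this
  have hcomap := comap_centralizer_mk_of_regular N hN hgN hgreg
  set S : Set (IrrCharacter (G ⧸ N)) := {χ | inflIrr N χ ∈ B} with hSdef
  have hSunion : ∀ χ ∈ S, blockOf M (χ : G ⧸ N → ℂ) ⊆ S := by
    intro χ hχ ψ hψ
    have h1 : SameBlock M (inflIrr N χ : G → ℂ) (inflIrr N ψ : G → ℂ) :=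
      sameBlock_inflation N hMp hψ
    show inflIrr N ψ ∈ B
    rw [eq_blockOf_of_mem hMp hB hχ]
    exact h1
  -- the push-forward at the image of `g`
  have hpush : pushQ N (blockCoeff B) (QuotientGroup.mk g) = blockCoeff B g := by
    rw [pushQ_apply]
    rw [Finset.sum_eq_single g]
    · rw [if_pos rfl]
    · intro k _ hkg
      by_cases hk : (QuotientGroup.mk k : G ⧸ N) = QuotientGroup.mk g
      · rw [if_pos hk]
        apply blockCoeff_eq_zero_of_dvd_orderOf hM hB
        have hn : g⁻¹ * k ∈ N := by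
          rw [← QuotientGroup.eq]
          exact hk.symm
        set n := g⁻¹ * k with hndef
        have hkn : k = g * n := by rw [hndef]; group
        have hn1 : n ≠ 1 := by
          intro h
          apply hkg
          rw [hkn, h, mul_one]
        have hcomm : Commute g n := by
          have := (Subgroup.mem_centralizer_iff.1 hgN) n hn
          exact this.symm
        obtain ⟨j, hj⟩ := (IsPGroup.iff_orderOf.1 hN) ⟨n, hn⟩
        have hj' : orderOf n = p ^ j := by rw [← hj, Subgroup.orderOf_mk]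
        have hj0 : j ≠ 0 := by
          rintro rfl
          rw [pow_zero, orderOf_eq_one_iff] at hj'
          exact hn1 hj'
        have hcop : (orderOf g).Coprime (orderOf n) := by
          rw [hj']
          exact Nat.Coprime.pow_right _ ((Nat.Prime.coprime_iff_not_dvd hp).2 hgreg).symm
        rw [hkn, hcomm.orderOf_mul_eq_mul_orderOf_of_coprime hcop, hj']
        exact (dvd_pow_self p hj0).mul_left _
      · rw [if_neg hk]
    · intro h
      exact absurd (Finset.mem_univ _) h
  have hSu : ¬ MemLocalIdeal M (blockCoeff S (QuotientGroup.mk g : G ⧸ N)) := by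
    rw [hSdef, ← pushQ_blockCoeff N B hcf, hpush]
    exact hg.2.1
  obtain ⟨χ₀, hχ₀S, hχ₀u⟩ := exists_block_unit_of_union hMp S hSunion _ hSu
  set Bbar := blockOf M (χ₀ : G ⧸ N → ℂ) with hBbar
  have hBbarB : IsPBlock M Bbar := ⟨χ₀, rfl⟩
  have hBbarS : Bbar ⊆ S := hSunion χ₀ hχ₀S
  have hdom : ∀ χ ∈ Bbar, ∀ ψ : IrrCharacter G,
      (ψ : G → ℂ) = (χ : G ⧸ N → ℂ) ∘ QuotientGroup.mk → ψ ∈ B := by
    intro χ hχ ψ hψ
    have : ψ = inflIrr N χ := Subtype.ext hψ
    rw [this]
    exact hBbarS hχ
  -- the image of `g` represents a defect class of `Bbar`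
  have hdefcl : IsDefectClass M Bbar (QuotientGroup.mk g : G ⧸ N) := by
    refine ⟨(blockCoeff_spec hMp hBbarB).2.1 _, hχ₀u, ?_⟩
    intro ψ hψ
    have h1 := centralChar_inflation N (ψ : G ⧸ N → ℂ) g
    rw [hcomap, Subgroup.relIndex_self, Nat.cast_one, one_mul] at h1
    rw [← h1]
    exact hg.2.2 (inflIrr N ψ) (hBbarS hψ)
  -- the image of `P` is a defect group of `Bbar`
  have hcardC := card_comap_mk N (Subgroup.centralizer ({(QuotientGroup.mk g : G ⧸ N)} : Set (G ⧸ N)))
  rw [hcomap] at hcardC
  have hcardP := card_comap_mk N (P.map (QuotientGroup.mk' N))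
  have hcm : (P.map (QuotientGroup.mk' N)).comap (QuotientGroup.mk' N) = P := by
    rw [Subgroup.comap_map_eq, QuotientGroup.ker_mk']
    exact sup_eq_left.2 hNP
  rw [hcm] at hcardP
  obtain ⟨j, hj⟩ := IsPGroup.iff_card.1 hN
  have hPbar : IsDefectGroup p M Bbar (P.map (QuotientGroup.mk' N)) := by
    rw [isDefectGroup_iff_card]
    refine ⟨_, hdefcl, ?_, ?_⟩
    · rintro _ ⟨x, hx, rfl⟩
      have := hPg hx
      rw [Subgroup.mem_centralizer_singleton_iff] at this ⊢
      show (QuotientGroup.mk x : G ⧸ N) * QuotientGroup.mk g = QuotientGroup.mk g * QuotientGroup.mk x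
      rw [← QuotientGroup.mk_mul, ← QuotientGroup.mk_mul, this]
    · have hC0 : Nat.card (Subgroup.centralizer
          ({(QuotientGroup.mk g : G ⧸ N)} : Set (G ⧸ N))) ≠ 0 := Nat.card_pos.ne'
      rw [hcardC, hj, Nat.factorization_mul hC0 (pow_ne_zero _ hp.ne_zero), Finsupp.add_apply,
        hp.factorization_pow, Finsupp.single_eq_same, pow_add] at hPcard'
      rw [hcardP, hj] at hPcard'
      exact Nat.eq_of_mul_eq_mul_right (pow_pos hp.pos j) hPcard'
  refine ⟨Bbar, hBbarB, hdom, ?_⟩
  intro Dbar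
  constructor
  · intro hD
    obtain ⟨y, hy⟩ := exists_conj_eq_of_isDefectGroup hM hBbarB hD hPbar
    obtain ⟨y₀, rfl⟩ := QuotientGroup.mk_surjective y
    refine ⟨P.map (MulAut.conj y₀).toMonoidHom, isDefectGroup_map_conj hP y₀, ?_⟩
    rw [← hy, Subgroup.map_map, Subgroup.map_map]
    congr 1
  · rintro ⟨P', hP', rfl⟩
    obtain ⟨x, hx⟩ := exists_conj_eq_of_isDefectGroup hM hB hP' hP
    have h1 := isDefectGroup_map_conj hPbar (QuotientGroup.mk x : G ⧸ N)
    rw [← hx, Subgroup.map_map]
    rw [Subgroup.map_map] at h1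
    have e : (QuotientGroup.mk' N).comp (MulAut.conj x).toMonoidHom =
        (MulAut.conj (QuotientGroup.mk x : G ⧸ N)).toMonoidHom.comp (QuotientGroup.mk' N) := by
      ext k
      simp
    rw [e]
    exact h1

end

end Cfsg.Agent.Lib.Helper8
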