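import Mathlib
import Cfsg.Prelude.Def_Blocks
import Cfsg.Agent.Lib.Helper8.Inf3
import Cfsg.Agent.Lib.Helper8.Inf5
import Cfsg.Agent.Lib.Helper8.BlockDefect

/-!
# Principal blocks and the quotient by a central `p`-subgroup
-/

set_option autoImplicit false

namespace Cfsg.Agent.Lib.Helper8

open Cfsg
open scoped ComplexConjugate
open Cfsg.Agent.Lib.Helper1 Cfsg.Agent.Lib.Helper4

universe u

section

variable {H : Type u} [Group H] [Fintype H] {M : Ideal AlgInt} {p : ℕ} [Fact p.Prime]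

/-- For a central `p`-subgroup `Z`, an irreducible character of `H ⧸ Z` lies in the principal block
iff its inflation does. -/
theorem qb_principal_inflation (hM : IsPModular p M) (Z : Subgroup H) [Z.Normal]
    (hZ : IsPGroup p Z) (hZc : Z ≤ Subgroup.center H) (ζ : IrrCharacter (H ⧸ Z)) :
    inflIrr Z ζ ∈ principalBlock M H ↔ ζ ∈ principalBlock M (H ⧸ Z) := by
  have hC : ∃ k : ℕ, (Subgroup.centralizer (Z : Set H)).index = p ^ k := by
    refine ⟨0, ?_⟩
    have : Subgroup.centralizer (Z : Set H) = ⊤ := by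
      rw [eq_top_iff]
      intro h _
      rw [Subgroup.mem_centralizer_iff]
      intro z hz
      exact (Subgroup.mem_center_iff.1 (hZc hz) h).symm
    rw [this, Subgroup.index_top, pow_zero]
  have key := (blocks_quotient_normal_p hM Z hZ hC).1 (trivIrr (H ⧸ Z)) ζ
  have e1 : ((trivIrr (H ⧸ Z) : H ⧸ Z → ℂ) ∘ QuotientGroup.mk : H → ℂ) = fun _ => 1 := by
    funext x
    rw [Function.comp_apply, trivIrr_apply]
  have e2 : (trivIrr (H ⧸ Z) : H ⧸ Z → ℂ) = fun _ => 1 := by
    funext x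
    rw [trivIrr_apply]
  rw [e1, e2] at key
  exact key.symm

omit [Fintype H] [Fact p.Prime] in
theorem inflIrr_injective (Z : Subgroup H) [Z.Normal] :
    Function.Injective (inflIrr Z : IrrCharacter (H ⧸ Z) → IrrCharacter H) := by
  intro ζ ζ' h
  apply Subtype.ext
  funext q
  obtain ⟨g, rfl⟩ := QuotientGroup.mk_surjective q
  have := congrArg (fun η : IrrCharacter H => (η : H → ℂ) g) h
  simpa only [inflIrr_apply] using this

omit [Fact p.Prime] in
/-- An irreducible character trivial on `Z` is an inflation. -/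
theorem exists_inflIrr_eq (Z : Subgroup H) [Z.Normal] (η : IrrCharacter H)
    (hker : ∀ n ∈ Z, (η : H → ℂ) n = (η : H → ℂ) 1) : ∃ ζ : IrrCharacter (H ⧸ Z), inflIrr Z ζ = η := by
  obtain ⟨ψ, hψ, hψη⟩ := exists_deflation Z η.2 hker
  refine ⟨⟨ψ, hψ⟩, ?_⟩
  apply Subtype.ext
  funext g
  rw [inflIrr_apply]
  exact hψη g

omit [Fact p.Prime] in
/-- Sums over the irreducible characters trivial on `Z` are sums over the quotient. -/
theorem sum_eq_sum_inflIrr [Fintype (IrrCharacter H)] (Z : Subgroup H) [Z.Normal]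
    [Fintype (IrrCharacter (H ⧸ Z))] (f : IrrCharacter H → ℂ)
    (hf : ∀ η : IrrCharacter H, (¬ ∀ n ∈ Z, (η : H → ℂ) n = (η : H → ℂ) 1) → f η = 0) :
    ∑ η : IrrCharacter H, f η = ∑ ζ : IrrCharacter (H ⧸ Z), f (inflIrr Z ζ) := by
  classical
  rw [← Finset.sum_image (s := Finset.univ) (g := inflIrr Z) (f := f)
    (fun a _ b _ h => inflIrr_injective Z h)]
  symm
  apply Finset.sum_subset (Finset.subset_univ _)
  intro η _ hη
  apply hf
  intro hker
  apply hη
  obtain ⟨ζ, hζ⟩ := exists_inflIrr_eq Z η hker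
  rw [Finset.mem_image]
  exact ⟨ζ, Finset.mem_univ _, hζ⟩

end

end Cfsg.Agent.Lib.Helper8
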