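import Mathlib
import Cfsg.Prelude.Def_Blocks
import Cfsg.Agent.Lib.Helper8.ClassAlgebra
import Cfsg.Agent.Lib.Helper4.Characters
import Cfsg.Agent.Lib.Helper4.VirtualChar

/-!
# Characters of central `p`-defect: vanishing off the central subgroup
-/

set_option autoImplicit false

namespace Cfsg.Agent.Lib.Helper8

open Cfsg
open scoped ComplexConjugate
open Cfsg.Agent.Lib.Helper1 Cfsg.Agent.Lib.Helper4

universe u

section

variable {G : Type u} [Group G]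

theorem eq_one_of_orderOf_pow_of_not_dvd {p : ℕ} (_hp : p.Prime) {z : G}
    (h1 : ∃ k : ℕ, orderOf z = p ^ k) (h2 : ¬ p ∣ orderOf z) : z = 1 := by
  obtain ⟨k, hk⟩ := h1
  rw [hk] at h2
  have : k = 0 := by
    by_contra h
    exact h2 (dvd_pow_self p h)
  rw [this, pow_zero] at hk
  exact orderOf_eq_one_iff.1 hk

theorem not_dvd_orderOf_mul {p : ℕ} (hp : p.Prime) {a b : G} (hab : Commute a b)
    (ha : ¬ p ∣ orderOf a) (hb : ¬ p ∣ orderOf b) : ¬ p ∣ orderOf (a * b) := by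
  intro h
  have h1 := h.trans hab.orderOf_mul_dvd_lcm
  have h2 : p ∣ orderOf a * orderOf b := h1.trans (Nat.lcm_dvd_mul _ _)
  rcases (Nat.Prime.dvd_mul hp).1 h2 with h3 | h3
  · exact ha h3
  · exact hb h3

theorem orderOf_pow_of_mul {p : ℕ} (hp : p.Prime) {a b : G} (hab : Commute a b)
    (ha : ∃ k : ℕ, orderOf a = p ^ k) (hb : ∃ k : ℕ, orderOf b = p ^ k) :
    ∃ k : ℕ, orderOf (a * b) = p ^ k := by
  obtain ⟨k, hk⟩ := ha
  obtain ⟨l, hl⟩ := hb
  have ha1 : a ^ (p ^ (k + l)) = 1 := by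
    rw [pow_add, pow_mul, ← hk, pow_orderOf_eq_one, one_pow]
  have hb1 : b ^ (p ^ (k + l)) = 1 := by
    rw [pow_add, mul_comm, pow_mul, ← hl, pow_orderOf_eq_one, one_pow]
  have h1 : (a * b) ^ (p ^ (k + l)) = 1 := by
    rw [hab.mul_pow, ha1, hb1, one_mul]
  obtain ⟨j, _, hj⟩ := (Nat.dvd_prime_pow hp).1 (orderOf_dvd_of_pow_eq_one h1)
  exact ⟨j, hj⟩

theorem not_dvd_orderOf_inv {p : ℕ} {a : G} (ha : ¬ p ∣ orderOf a) : ¬ p ∣ orderOf a⁻¹ := by
  rwa [orderOf_inv]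

/-- Uniqueness of the central `p`-part. -/
theorem central_pPart_unique {p : ℕ} (hp : p.Prime) {D : Subgroup G} (hD : IsPGroup p D)
    (hDZ : D ≤ Subgroup.center G) {g d d' : G} (hd : d ∈ D) (hd' : d' ∈ D)
    (h : ¬ p ∣ orderOf (d⁻¹ * g)) (h' : ¬ p ∣ orderOf (d'⁻¹ * g)) : d = d' := by
  have : Fact p.Prime := ⟨hp⟩
  have hdc := Subgroup.mem_center_iff.1 (hDZ hd)
  have hdc' := Subgroup.mem_center_iff.1 (hDZ hd')
  -- `d'⁻¹ d = (d'⁻¹ g) (d⁻¹ g)⁻¹`
  have e1 : d'⁻¹ * d = (d'⁻¹ * g) * (d⁻¹ * g)⁻¹ := by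
    rw [mul_inv_rev, inv_inv]
    have : d'⁻¹ * g * (g⁻¹ * d) = d'⁻¹ * d := by group
    rw [this]
  have hcomm : Commute (d'⁻¹ * g) (d⁻¹ * g)⁻¹ := by
    have hdi : ∀ x : G, x * d⁻¹ = d⁻¹ * x := by
      intro x
      have := hdc x
      calc x * d⁻¹ = d⁻¹ * (d * x) * d⁻¹ := by group
        _ = d⁻¹ * (x * d) * d⁻¹ := by rw [this]
        _ = d⁻¹ * x := by group
    have hdi' : ∀ x : G, x * d'⁻¹ = d'⁻¹ * x := by
      intro x
      have := hdc' x
      calc x * d'⁻¹ = d'⁻¹ * (d' * x) * d'⁻¹ := by group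
        _ = d'⁻¹ * (x * d') * d'⁻¹ := by rw [this]
        _ = d'⁻¹ * x := by group
    apply Commute.inv_right
    show d'⁻¹ * g * (d⁻¹ * g) = d⁻¹ * g * (d'⁻¹ * g)
    calc d'⁻¹ * g * (d⁻¹ * g) = d'⁻¹ * (g * d⁻¹) * g := by group
      _ = d'⁻¹ * (d⁻¹ * g) * g := by rw [hdi g]
      _ = (d'⁻¹ * d⁻¹) * g * g := by group
      _ = (d⁻¹ * d'⁻¹) * g * g := by rw [hdi' d⁻¹]
      _ = d⁻¹ * (d'⁻¹ * g) * g := by group
      _ = d⁻¹ * (g * d'⁻¹) * g := by rw [hdi' g]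
      _ = d⁻¹ * g * (d'⁻¹ * g) := by group
  have h2 : ¬ p ∣ orderOf (d'⁻¹ * d) := by
    rw [e1]
    exact not_dvd_orderOf_mul hp hcomm h' (not_dvd_orderOf_inv h)
  have h3 : ∃ k : ℕ, orderOf (d'⁻¹ * d) = p ^ k := by
    have hmem : d'⁻¹ * d ∈ D := D.mul_mem (D.inv_mem hd') hd
    obtain ⟨k, hk⟩ := (IsPGroup.iff_orderOf.1 hD) ⟨_, hmem⟩
    refine ⟨k, ?_⟩
    rw [← hk]
    exact (Subgroup.orderOf_mk _ hmem).symm
  have h4 := eq_one_of_orderOf_pow_of_not_dvd hp h3 h2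
  have : d = d' * (d'⁻¹ * d) := by group
  rw [this, h4, mul_one]

/-- The `p`-part of an element with a central `p`-part in `D` is that central element. -/
theorem isPPart_eq_of_central {p : ℕ} (hp : p.Prime) {D : Subgroup G} (hD : IsPGroup p D)
    (hDZ : D ≤ Subgroup.center G) {g x d : G} (hx : IsPPart p g x) (hd : d ∈ D)
    (h : ¬ p ∣ orderOf (d⁻¹ * g)) : x = d := by
  have : Fact p.Prime := ⟨hp⟩
  obtain ⟨y, hxy, hcomm, hxk, hy⟩ := hx
  have hdc := Subgroup.mem_center_iff.1 (hDZ hd)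
  have hdi : ∀ z : G, z * d⁻¹ = d⁻¹ * z := by
    intro z
    have := hdc z
    calc z * d⁻¹ = d⁻¹ * (d * z) * d⁻¹ := by group
      _ = d⁻¹ * (z * d) * d⁻¹ := by rw [this]
      _ = d⁻¹ * z := by group
  -- `d⁻¹ x = (d⁻¹ g) y⁻¹`
  have e1 : d⁻¹ * x = (d⁻¹ * g) * y⁻¹ := by
    rw [← hxy]
    group
  have hc2 : Commute (d⁻¹ * g) y⁻¹ := by
    apply Commute.inv_right
    show d⁻¹ * g * y = y * (d⁻¹ * g)
    rw [← hxy]
    have hxy' : x * y = y * x := hcomm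
    calc d⁻¹ * (x * y) * y = d⁻¹ * (y * x) * y := by rw [hxy']
      _ = (d⁻¹ * y) * (x * y) := by group
      _ = (y * d⁻¹) * (x * y) := by rw [hdi y]
      _ = y * (d⁻¹ * (x * y)) := by group
  have h2 : ¬ p ∣ orderOf (d⁻¹ * x) := by
    rw [e1]
    exact not_dvd_orderOf_mul hp hc2 h (not_dvd_orderOf_inv hy)
  have h3 : ∃ k : ℕ, orderOf (d⁻¹ * x) = p ^ k := by
    apply orderOf_pow_of_mul hp
    · show d⁻¹ * x = x * d⁻¹
      exact (hdi x).symm
    · obtain ⟨k, hk⟩ := (IsPGroup.iff_orderOf.1 hD) ⟨d, hd⟩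
      refine ⟨k, ?_⟩
      rw [orderOf_inv, ← hk]
      exact (Subgroup.orderOf_mk _ hd).symm
    · exact hxk
  have h4 := eq_one_of_orderOf_pow_of_not_dvd hp h3 h2
  have : x = d * (d⁻¹ * x) := by group
  rw [this, h4, mul_one]

end

section

variable {G : Type u} [Group G] [Fintype G]

theorem irr_mul_central {χ : G → ℂ} (hχ : IsIrrCharacter G χ) (a : G) {z : G}
    (hz : z ∈ Subgroup.center G) : χ (a * z) = χ a * χ z / χ 1 := by
  have h1 := sum_irr_mul_conj hχ a z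
  have h2 : ∀ y : G, y * z * y⁻¹ = z := by
    intro y
    have := Subgroup.mem_center_iff.1 hz y
    rw [this]
    group
  simp only [h2, Finset.sum_const, Finset.card_univ, nsmul_eq_mul] at h1
  have hG0 : (Fintype.card G : ℂ) ≠ 0 := Nat.cast_ne_zero.2 Fintype.card_ne_zero
  have h3 : (Fintype.card G : ℂ) * χ (a * z) = (Fintype.card G : ℂ) * (χ a * χ z / χ 1) := by
    rw [h1]
    ring
  exact mul_left_cancel₀ hG0 h3

theorem irr_central_mul_conj {χ : G → ℂ} (hχ : IsIrrCharacter G χ) {z : G}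
    (hz : z ∈ Subgroup.center G) : χ z * conj (χ z) = χ 1 * χ 1 := by
  have h1 := irr_mul_central hχ z⁻¹ hz
  rw [inv_mul_cancel, isCharacter_inv (isCharacter_of_irr hχ)] at h1
  have hχ1 : χ 1 ≠ 0 := irr_apply_one_ne_zero hχ
  field_simp at h1
  rw [mul_comm (χ z)]
  rw [← h1]
  ring

/-- Multiplying by a central element does not change the absolute value of an irreducible
character. -/
theorem irr_central_mul_normSq {χ : G → ℂ} (hχ : IsIrrCharacter G χ) {z : G}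
    (hz : z ∈ Subgroup.center G) (g : G) :
    Complex.normSq (χ (z * g)) = Complex.normSq (χ g) := by
  have hχ1 : χ 1 ≠ 0 := irr_apply_one_ne_zero hχ
  have hcomm : z * g = g * z := (Subgroup.mem_center_iff.1 hz g).symm
  rw [hcomm, irr_mul_central hχ g hz, Complex.normSq_div, Complex.normSq_mul]
  have h1 : Complex.normSq (χ z) = Complex.normSq (χ 1) := by
    have h2 := irr_central_mul_conj hχ hz
    have h3 : ((Complex.normSq (χ z) : ℝ) : ℂ) = ((Complex.normSq (χ 1) : ℝ) : ℂ) := by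
      rw [← Complex.mul_conj, ← Complex.mul_conj, h2]
      congr 1
      obtain ⟨n, hn⟩ := isCharacter_apply_one (isCharacter_of_irr hχ)
      rw [hn]
      simp
    exact_mod_cast h3
  rw [h1]
  have h4 : Complex.normSq (χ 1) ≠ 0 := by
    rw [Ne, Complex.normSq_eq_zero]
    exact hχ1
  field_simp

end

end Cfsg.Agent.Lib.Helper8
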