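import Mathlib
import Cfsg.Prelude.Def_Characters
import Cfsg.Agent.Lib.Helper4.Characters
import Cfsg.Agent.Lib.Helper1.CharFound1

/-!
# Symmetric and alternating squares of a character
-/

set_option autoImplicit false

namespace Cfsg.Agent.Lib.Helper8

open Cfsg Matrix
open scoped Kronecker
open Cfsg.Agent.Lib.Helper1 Cfsg.Agent.Lib.Helper4

universe u

section

variable {H : Type u} [Group H] [Fintype H] {n : ℕ}

/-- The tensor square of a matrix representation, on functions on pairs of indices. -/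
noncomputable def qbSq (ρ : Representation ℂ H (Fin n → ℂ)) :
    Representation ℂ H (Fin n × Fin n → ℂ) where
  toFun g := Matrix.toLin' (repMat ρ g ⊗ₖ repMat ρ g)
  map_one' := by
    rw [repMat_one, Matrix.one_kronecker_one, Matrix.toLin'_one]
    rfl
  map_mul' g h := by
    rw [repMat_mul, Matrix.mul_kronecker_mul, Matrix.toLin'_mul]
    rfl

theorem qbSq_apply (ρ : Representation ℂ H (Fin n → ℂ)) (g : H) :
    qbSq ρ g = Matrix.toLin' (repMat ρ g ⊗ₖ repMat ρ g) := rfl

/-- The swap of the two tensor factors. -/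
noncomputable def qbSwap (n : ℕ) : (Fin n × Fin n → ℂ) →ₗ[ℂ] (Fin n × Fin n → ℂ) :=
  LinearMap.funLeft ℂ ℂ Prod.swap

theorem qbSwap_apply (f : Fin n × Fin n → ℂ) (p : Fin n × Fin n) : qbSwap n f p = f p.swap := rfl

theorem qbSq_swap (ρ : Representation ℂ H (Fin n → ℂ)) (g : H) (f : Fin n × Fin n → ℂ) :
    qbSq ρ g (qbSwap n f) = qbSwap n (qbSq ρ g f) := by
  funext p
  rw [qbSwap_apply, qbSq_apply, Matrix.toLin'_apply, Matrix.toLin'_apply]
  unfold Matrix.mulVec dotProduct
  rw [← Equiv.sum_comp (Equiv.prodComm (Fin n) (Fin n))]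
  refine Finset.sum_congr rfl fun q _ => ?_
  rw [qbSwap_apply]
  obtain ⟨i, j⟩ := p
  obtain ⟨k, l⟩ := q
  simp only [Equiv.prodComm_apply, Prod.swap_prod_mk, Matrix.kroneckerMap_apply]
  ring

/-- Symmetric tensors. -/
def qbSym (n : ℕ) : Submodule ℂ (Fin n × Fin n → ℂ) where
  carrier := {f | ∀ p, f p.swap = f p}
  add_mem' := by
    intro a b ha hb p
    show a p.swap + b p.swap = a p + b p
    rw [ha p, hb p]
  zero_mem' := fun _ => rfl
  smul_mem' := by
    intro c a ha p
    show c • a p.swap = c • a p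
    rw [ha p]

/-- Alternating tensors. -/
def qbAlt (n : ℕ) : Submodule ℂ (Fin n × Fin n → ℂ) where
  carrier := {f | ∀ p, f p.swap = - f p}
  add_mem' := by
    intro a b ha hb p
    show a p.swap + b p.swap = -(a p + b p)
    rw [ha p, hb p]
    ring
  zero_mem' := fun _ => by simp
  smul_mem' := by
    intro c a ha p
    show c • a p.swap = -(c • a p)
    rw [ha p, smul_neg]

theorem mem_qbSym {f : Fin n × Fin n → ℂ} : f ∈ qbSym n ↔ ∀ p, f p.swap = f p := Iff.rfl

theorem mem_qbAlt {f : Fin n × Fin n → ℂ} : f ∈ qbAlt n ↔ ∀ p, f p.swap = - f p := Iff.rfl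

theorem qb_isCompl (n : ℕ) : IsCompl (qbSym n) (qbAlt n) := by
  constructor
  · rw [Submodule.disjoint_def]
    intro f hs ha
    funext p
    have h1 := hs p
    have h2 := ha p
    rw [h1] at h2
    have : (2 : ℂ) * f p = 0 := by linear_combination h2
    rcases mul_eq_zero.1 this with h | h
    · norm_num at h
    · exact h
  · rw [codisjoint_iff, eq_top_iff]
    intro f _
    rw [Submodule.mem_sup]
    refine ⟨fun p => (1 / 2 : ℂ) * (f p + f p.swap), ?_, fun p => (1 / 2 : ℂ) * (f p - f p.swap), ?_, ?_⟩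
    · intro p
      show (1 / 2 : ℂ) * (f p.swap + f p.swap.swap) = (1 / 2 : ℂ) * (f p + f p.swap)
      rw [Prod.swap_swap]
      ring
    · intro p
      show (1 / 2 : ℂ) * (f p.swap - f p.swap.swap) = -((1 / 2 : ℂ) * (f p - f p.swap))
      rw [Prod.swap_swap]
      ring
    · funext p
      show (1 / 2 : ℂ) * (f p + f p.swap) + (1 / 2 : ℂ) * (f p - f p.swap) = f p
      ring

theorem qbSq_mem_sym (ρ : Representation ℂ H (Fin n → ℂ)) (g : H) {f : Fin n × Fin n → ℂ}
    (hf : f ∈ qbSym n) : qbSq ρ g f ∈ qbSym n := by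
  intro p
  have h1 : qbSwap n f = f := by
    funext q
    exact hf q
  have h2 := qbSq_swap ρ g f
  rw [h1] at h2
  have h3 := congrFun h2 p
  rw [qbSwap_apply] at h3
  exact h3.symm

theorem qbSq_mem_alt (ρ : Representation ℂ H (Fin n → ℂ)) (g : H) {f : Fin n × Fin n → ℂ}
    (hf : f ∈ qbAlt n) : qbSq ρ g f ∈ qbAlt n := by
  intro p
  have h1 : qbSwap n f = - f := by
    funext q
    exact hf q
  have h2 := qbSq_swap ρ g f
  rw [h1, map_neg] at h2
  have h3 := congrFun h2 p
  rw [qbSwap_apply] at h3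
  rw [← h3]
  rfl

theorem qb_trace_sq (ρ : Representation ℂ H (Fin n → ℂ)) (g : H) :
    LinearMap.trace ℂ _ (qbSq ρ g) = ρ.character g * ρ.character g := by
  rw [qbSq_apply, Matrix.trace_toLin'_eq, Matrix.trace_kronecker, character_eq_trace_repMat]

theorem qb_trace_sq_swap (ρ : Representation ℂ H (Fin n → ℂ)) (g : H) :
    LinearMap.trace ℂ _ (qbSq ρ g ∘ₗ qbSwap n) = ρ.character (g * g) := by
  have h : qbSq ρ g ∘ₗ qbSwap n =
      Matrix.toLin' ((repMat ρ g ⊗ₖ repMat ρ g).submatrix id Prod.swap) := by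
    apply LinearMap.ext
    intro f
    funext p
    rw [LinearMap.comp_apply, qbSq_apply, Matrix.toLin'_apply, Matrix.toLin'_apply]
    unfold Matrix.mulVec dotProduct
    rw [← Equiv.sum_comp (Equiv.prodComm (Fin n) (Fin n))]
    refine Finset.sum_congr rfl fun q _ => ?_
    rw [qbSwap_apply]
    obtain ⟨k, l⟩ := q
    simp only [Equiv.prodComm_apply, Prod.swap_prod_mk, Matrix.submatrix_apply, id]
  rw [h, Matrix.trace_toLin'_eq, character_eq_trace_repMat, repMat_mul]
  unfold Matrix.trace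
  simp only [Matrix.diag_apply, Matrix.submatrix_apply, id, Matrix.mul_apply]
  rw [Fintype.sum_prod_type]
  refine Finset.sum_congr rfl fun i _ => Finset.sum_congr rfl fun j _ => ?_
  simp only [Prod.swap_prod_mk, Matrix.kroneckerMap_apply]

/-- The family of the two summands. -/
def qbFam (n : ℕ) : Bool → Submodule ℂ (Fin n × Fin n → ℂ) := fun b => cond b (qbSym n) (qbAlt n)

theorem qb_isInternal (n : ℕ) : DirectSum.IsInternal (qbFam n) := by
  have hne : true ≠ false := by decide
  have huniv : (Set.univ : Set Bool) = {true, false} := by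
    ext b
    cases b <;> simp
  exact (DirectSum.isInternal_submodule_iff_isCompl (qbFam n) hne huniv).2 (qb_isCompl n)

theorem qb_trace_split (T : (Fin n × Fin n → ℂ) →ₗ[ℂ] (Fin n × Fin n → ℂ))
    (hS : ∀ f ∈ qbSym n, T f ∈ qbSym n) (hA : ∀ f ∈ qbAlt n, T f ∈ qbAlt n) :
    LinearMap.trace ℂ _ T = LinearMap.trace ℂ _ (T.restrict hS) +
      LinearMap.trace ℂ _ (T.restrict hA) := by
  have hf : ∀ b : Bool, Set.MapsTo T (qbFam n b) (qbFam n b) := by
    intro b
    cases b
    · exact hA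
    · exact hS
  have key := LinearMap.trace_eq_sum_trace_restrict (qb_isInternal n) hf
  rw [Fintype.sum_bool] at key
  exact key

/-- The symmetric square as a subrepresentation. -/
def qbSymRep (ρ : Representation ℂ H (Fin n → ℂ)) : Subrepresentation (qbSq ρ) :=
  ⟨qbSym n, fun g _ hf => qbSq_mem_sym ρ g hf⟩

/-- The alternating square as a subrepresentation. -/
def qbAltRep (ρ : Representation ℂ H (Fin n → ℂ)) : Subrepresentation (qbSq ρ) :=
  ⟨qbAlt n, fun g _ hf => qbSq_mem_alt ρ g hf⟩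

theorem qb_sym_add_alt (ρ : Representation ℂ H (Fin n → ℂ)) (g : H) :
    (qbSymRep ρ).toRepresentation.character g + (qbAltRep ρ).toRepresentation.character g =
      ρ.character g * ρ.character g := by
  rw [← qb_trace_sq ρ g, qb_trace_split (qbSq ρ g) (fun f hf => qbSq_mem_sym ρ g hf)
    (fun f hf => qbSq_mem_alt ρ g hf)]
  rfl

theorem qb_sym_sub_alt (ρ : Representation ℂ H (Fin n → ℂ)) (g : H) :
    (qbSymRep ρ).toRepresentation.character g - (qbAltRep ρ).toRepresentation.character g =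
      ρ.character (g * g) := by
  have hS : ∀ f ∈ qbSym n, (qbSq ρ g ∘ₗ qbSwap n) f ∈ qbSym n := by
    intro f hf
    have h1 : qbSwap n f = f := by
      funext q
      exact hf q
    rw [LinearMap.comp_apply, h1]
    exact qbSq_mem_sym ρ g hf
  have hA : ∀ f ∈ qbAlt n, (qbSq ρ g ∘ₗ qbSwap n) f ∈ qbAlt n := by
    intro f hf
    have h1 : qbSwap n f = - f := by
      funext q
      exact hf q
    rw [LinearMap.comp_apply, h1, map_neg]
    exact (qbAlt n).neg_mem (qbSq_mem_alt ρ g hf)
  rw [← qb_trace_sq_swap ρ g, qb_trace_split _ hS hA]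
  have e1 : (qbSq ρ g ∘ₗ qbSwap n).restrict hS =
      (qbSq ρ g).restrict (fun f hf => qbSq_mem_sym ρ g hf) := by
    apply LinearMap.ext
    rintro ⟨f, hf⟩
    apply Subtype.ext
    have h1 : qbSwap n f = f := by
      funext q
      exact hf q
    show (qbSq ρ g) (qbSwap n f) = qbSq ρ g f
    rw [h1]
  have e2 : (qbSq ρ g ∘ₗ qbSwap n).restrict hA =
      - (qbSq ρ g).restrict (fun f hf => qbSq_mem_alt ρ g hf) := by
    apply LinearMap.ext
    rintro ⟨f, hf⟩
    apply Subtype.ext
    have h1 : qbSwap n f = - f := by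
      funext q
      exact hf q
    show (qbSq ρ g) (qbSwap n f) = - qbSq ρ g f
    rw [h1, map_neg]
  rw [e1, e2]
  have h3 : ∀ X : ↥(qbAlt n) →ₗ[ℂ] ↥(qbAlt n),
      LinearMap.trace ℂ ↥(qbAlt n) (-X) = - LinearMap.trace ℂ ↥(qbAlt n) X := fun X => map_neg _ X
  rw [h3, ← sub_eq_add_neg]
  rfl

/-- **Symmetric and alternating squares**: for a character `χ` there are characters `σ`, `α` with
`σ + α = χ²` and `σ - α = χ (g²)`. -/
theorem exists_sym_alt_square {χ : H → ℂ} (hχ : IsCharacter H χ) :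
    ∃ σ α : H → ℂ, IsCharacter H σ ∧ IsCharacter H α ∧ (∀ g, σ g + α g = χ g * χ g) ∧
      ∀ g, σ g - α g = χ (g * g) := by
  obtain ⟨n, ρ, rfl⟩ := hχ
  exact ⟨_, _, isCharacter_character (qbSymRep ρ).toRepresentation,
    isCharacter_character (qbAltRep ρ).toRepresentation, qb_sym_add_alt ρ, qb_sym_sub_alt ρ⟩

end

end Cfsg.Agent.Lib.Helper8
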