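import Mathlib
import Cfsg.Prelude.Def_Characters
import Cfsg.Agent.Lib.Helper4.VirtualChar
import Cfsg.Agent.Lib.Helper8.QB1

/-!
# Adams operations `ψ^{2^k}` on generalized characters
-/

set_option autoImplicit false

namespace Cfsg.Agent.Lib.Helper8

open Cfsg
open Cfsg.Agent.Lib.Helper1 Cfsg.Agent.Lib.Helper4

universe u

section

variable {H : Type u} [Group H] [Fintype H]

/-- `g ↦ θ (g²)` is a generalized character when `θ` is. -/
theorem isGenChar_sq_comp {θ : H → ℂ} (h : IsGeneralizedCharacter H θ) :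
    IsGeneralizedCharacter H (fun g => θ (g * g)) := by
  obtain ⟨a, b, ha, hb, rfl⟩ := h
  obtain ⟨σa, αa, hσa, hαa, -, h2a⟩ := exists_sym_alt_square ha
  obtain ⟨σb, αb, hσb, hαb, -, h2b⟩ := exists_sym_alt_square hb
  refine ⟨σa + αb, αa + σb, isCharacter_add hσa hαb, isCharacter_add hαa hσb, ?_⟩
  funext g
  show a (g * g) - b (g * g) = (σa g + αb g) - (αa g + σb g)
  rw [← h2a g, ← h2b g]
  ring

/-- `g ↦ θ (g ^ 2 ^ k)` is a generalized character when `θ` is. -/
theorem isGenChar_pow_two_pow {θ : H → ℂ} (h : IsGeneralizedCharacter H θ) (k : ℕ) :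
    IsGeneralizedCharacter H (fun g => θ (g ^ 2 ^ k)) := by
  induction k with
  | zero =>
    simpa using h
  | succ k ih =>
    have h1 := isGenChar_sq_comp ih
    have e : (fun g : H => θ ((g * g) ^ 2 ^ k)) = fun g => θ (g ^ 2 ^ (k + 1)) := by
      funext g
      rw [← pow_two, ← pow_mul, pow_succ']
    rw [← e]
    exact h1

theorem pow_two_pow_factorial_of_odd (g : H) (hg : ¬ 2 ∣ orderOf g) :
    g ^ 2 ^ (Nat.card H).factorial = g := by
  have ho : 0 < orderOf g := orderOf_pos g
  have hcop : Nat.Coprime 2 (orderOf g) := (Nat.Prime.coprime_iff_not_dvd Nat.prime_two).2 hg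
  have h1 : 2 ^ (orderOf g).totient ≡ 1 [MOD orderOf g] := Nat.ModEq.pow_totient hcop
  have hle : (orderOf g).totient ≤ Nat.card H :=
    le_trans (Nat.totient_le _) (orderOf_le_card)
  have hpos : 0 < (orderOf g).totient := Nat.totient_pos.2 ho
  have hdvd : (orderOf g).totient ∣ (Nat.card H).factorial := Nat.dvd_factorial hpos hle
  obtain ⟨m, hm⟩ := hdvd
  have h2 : 2 ^ (Nat.card H).factorial ≡ 1 [MOD orderOf g] := by
    rw [hm, pow_mul]
    have := h1.pow m
    rw [one_pow] at this
    exact this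
  have h3 : g ^ 2 ^ (Nat.card H).factorial = g ^ 1 := pow_eq_pow_iff_modEq.2 h2
  rw [h3, pow_one]

/-- **Reduction to the `2`-regular part**: for a central involution `z` and a generalized
character `θ` there is a generalized character agreeing with `θ` on the elements of odd order and
invariant under multiplication by `z`. -/
theorem exists_genChar_regular {z : H} (hz : z ∈ Subgroup.center H) (hz2 : z * z = 1)
    {θ : H → ℂ} (h : IsGeneralizedCharacter H θ) :
    ∃ θ' : H → ℂ, IsGeneralizedCharacter H θ' ∧ (∀ g, ¬ 2 ∣ orderOf g → θ' g = θ g) ∧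
      ∀ g, θ' (z * g) = θ' g := by
  refine ⟨fun g => θ (g ^ 2 ^ (Nat.card H).factorial), isGenChar_pow_two_pow h _, ?_, ?_⟩
  · intro g hg
    show θ (g ^ 2 ^ (Nat.card H).factorial) = θ g
    rw [pow_two_pow_factorial_of_odd g hg]
  · intro g
    show θ ((z * g) ^ 2 ^ (Nat.card H).factorial) = θ (g ^ 2 ^ (Nat.card H).factorial)
    have hcomm : Commute z g := (Subgroup.mem_center_iff.1 hz g).symm
    rw [hcomm.mul_pow]
    have hk : 0 < (Nat.card H).factorial := Nat.factorial_pos _
    obtain ⟨j, hj⟩ := Nat.exists_eq_succ_of_ne_zero hk.ne'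
    have hz1 : z ^ 2 ^ (Nat.card H).factorial = 1 := by
      rw [hj, pow_succ', pow_mul, pow_two, hz2, one_pow]
    rw [hz1, one_mul]

end

end Cfsg.Agent.Lib.Helper8
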