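import Mathlib
import Cfsg.Prelude.Def_Blocks
import Cfsg.Agent.Lib.Helper8.QB2
import Cfsg.Agent.Lib.Helper8.Sub14
import Cfsg.Agent.Lib.Helper8.CentralDefect

/-!
# Expansion of a block part on the `2`-regular elements through characters trivial on a central
involution
-/

set_option autoImplicit false

namespace Cfsg.Agent.Lib.Helper8

open Cfsg
open scoped ComplexConjugate
open Cfsg.Agent.Lib.Helper1 Cfsg.Agent.Lib.Helper4

universe u

section

variable {H : Type u} [Group H] [Fintype H] {M : Ideal AlgInt}

/-- A central involution takes the value `± η 1` at an irreducible character. -/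
theorem irr_central_involution {η : H → ℂ} (hη : IsIrrCharacter H η) {z : H}
    (hz : z ∈ Subgroup.center H) (hz2 : z * z = 1) : η z = η 1 ∨ η z = - η 1 := by
  have h1 := irr_mul_central hη z hz
  rw [hz2] at h1
  have hη1 : η 1 ≠ 0 := irr_apply_one_ne_zero hη
  have h2 : (η z - η 1) * (η z + η 1) = 0 := by
    field_simp at h1
    linear_combination -h1
  rcases mul_eq_zero.1 h2 with h | h
  · left
    linear_combination h
  · right
    linear_combination h

/-- A function invariant under a central involution is orthogonal to the irreducible characters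
not trivial on it. -/
theorem classInner_eq_zero_of_central_invariant {η : H → ℂ} (hη : IsIrrCharacter H η) {z : H}
    (hz : z ∈ Subgroup.center H) (hz2 : z * z = 1) (hne : η z ≠ η 1) {θ : H → ℂ}
    (hθ : ∀ g, θ (z * g) = θ g) : classInner θ η = 0 := by
  have hη1 : η 1 ≠ 0 := irr_apply_one_ne_zero hη
  have hzm : η z = - η 1 := by
    rcases irr_central_involution hη hz hz2 with h | h
    · exact absurd h hne
    · exact h
  have hmul : ∀ g, η (z * g) = - η g := by
    intro g
    have hcomm : z * g = g * z := (Subgroup.mem_center_iff.1 hz g).symm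
    rw [hcomm, irr_mul_central hη g hz, hzm]
    field_simp
  have h1 : ∑ g : H, θ g * conj (η g) = ∑ g : H, θ (z * g) * conj (η (z * g)) :=
    (Equiv.sum_comp (Equiv.mulLeft z) (fun g => θ g * conj (η g))).symm
  have h2 : ∑ g : H, θ (z * g) * conj (η (z * g)) = - ∑ g : H, θ g * conj (η g) := by
    rw [← Finset.sum_neg_distrib]
    refine Finset.sum_congr rfl fun g _ => ?_
    rw [hθ g, hmul g, map_neg]
    ring
  have h3 : ∑ g : H, θ g * conj (η g) = 0 := by
    have : (2 : ℂ) * ∑ g : H, θ g * conj (η g) = 0 := by
      linear_combination h1 + h2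
    rcases mul_eq_zero.1 this with h | h
    · norm_num at h
    · exact h
  unfold classInner
  rw [h3, mul_zero]

/-- **Regular expansion**: the `b`-part of a generalized character of a group with a central
involution `z` agrees on the elements of odd order with an integral combination of the members of
`b` that are trivial on `z`. -/
theorem qb_regular_expansion [Fintype (IrrCharacter H)] (hM : IsPModular 2 M) {z : H}
    (hz : z ∈ Subgroup.center H) (hz2 : z * z = 1) {b : Set (IrrCharacter H)} (hb : IsPBlock M b)
    {θ : H → ℂ} (hθ : IsGeneralizedCharacter H θ) :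
    ∃ m : IrrCharacter H → ℤ, (∀ η, m η ≠ 0 → η ∈ b ∧ (η : H → ℂ) z = (η : H → ℂ) 1) ∧
      ∀ ρ : H, ¬ 2 ∣ orderOf ρ → blockPart b θ ρ = ∑ η : IrrCharacter H, (m η : ℂ) * (η : H → ℂ) ρ := by
  classical
  obtain ⟨θ', hθ', hreg, hinv⟩ := exists_genChar_regular hz hz2 hθ
  have hint : ∀ η : IrrCharacter H, ∃ k : ℤ, classInner θ' (η : H → ℂ) = k :=
    fun η => classInner_genChar_int hθ' (isGenChar_of_irr η.2)
  choose n hn using hint
  refine ⟨fun η => if η ∈ b then n η else 0, ?_, ?_⟩
  · intro η hη
    simp only at hη
    by_cases hηb : η ∈ b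
    · refine ⟨hηb, ?_⟩
      by_contra hne
      apply hη
      rw [if_pos hηb]
      have := classInner_eq_zero_of_central_invariant η.2 hz hz2 hne hinv
      rw [hn η] at this
      exact_mod_cast this
    · rw [if_neg hηb] at hη
      exact absurd rfl hη
  · intro ρ hρ
    rw [blockPart_congr_pRegular hM hb (fun c hc => (hreg c hc).symm) hρ, blockPart_eq_sum]
    refine Finset.sum_congr rfl fun η _ => ?_
    simp only
    by_cases hηb : η ∈ b
    · simp only [hηb, if_true, hn η, one_mul]
    · simp only [hηb, if_false, zero_mul, Int.cast_zero]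

end

end Cfsg.Agent.Lib.Helper8
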