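import Mathlib
import Cfsg.Prelude.Def_Blocks
import Cfsg.Agent.Lib.Helper8.QB3
import Cfsg.Agent.Lib.Helper8.TildeBlock2

/-!
# Twisting a character by a central involution gives a generalized character
-/

set_option autoImplicit false

namespace Cfsg.Agent.Lib.Helper8

open Cfsg
open scoped ComplexConjugate
open Cfsg.Agent.Lib.Helper1 Cfsg.Agent.Lib.Helper4

universe u

section

variable {H : Type u} [Group H] [Fintype H]

/-- For a central involution `z`, the function `c ↦ χ (z c)` is a generalized character. -/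
theorem qb_twist_genChar {z : H} (hz : z ∈ Subgroup.center H) (hz2 : z * z = 1) {χ : H → ℂ}
    (hχ : IsCharacter H χ) : IsGeneralizedCharacter H (fun c => χ (z * c)) := by
  classical
  have : Fintype (IrrCharacter H) := Fintype.ofFinite _
  have hexp := class_function_expansion χ (isClassFunction_of_isCharacter hχ)
  have hm : ∀ ψ : IrrCharacter H, ∃ m : ℕ, classInner χ (ψ : H → ℂ) = m :=
    fun ψ => classInner_char_irr_nat hχ ψ.2
  choose m hm using hm
  have hs : ∀ ψ : IrrCharacter H, ∃ s : ℤ, ∀ c : H, (ψ : H → ℂ) (z * c) = (s : ℂ) * (ψ : H → ℂ) c := by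
    intro ψ
    have hψ1 : (ψ : H → ℂ) 1 ≠ 0 := irr_apply_one_ne_zero ψ.2
    rcases irr_central_involution ψ.2 hz hz2 with h | h
    · refine ⟨1, fun c => ?_⟩
      have hcomm : z * c = c * z := (Subgroup.mem_center_iff.1 hz c).symm
      rw [hcomm, irr_mul_central ψ.2 c hz, h]
      field_simp
      simp
    · refine ⟨-1, fun c => ?_⟩
      have hcomm : z * c = c * z := (Subgroup.mem_center_iff.1 hz c).symm
      rw [hcomm, irr_mul_central ψ.2 c hz, h]
      field_simp
      simp
  choose s hs using hs
  have e : (fun c => χ (z * c)) = ∑ ψ : IrrCharacter H, (((m ψ : ℤ) * s ψ : ℤ) : ℂ) • (ψ : H → ℂ) := by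
    funext c
    have h1 := congrFun hexp (z * c)
    rw [h1, Finset.sum_apply, Finset.sum_apply]
    refine Finset.sum_congr rfl fun ψ _ => ?_
    rw [Pi.smul_apply, Pi.smul_apply, smul_eq_mul, smul_eq_mul, hm ψ, hs ψ c]
    push_cast
    ring
  rw [e]
  apply isGenChar_sum
  intro ψ _
  exact isGenChar_intCast_smul (isGenChar_of_irr ψ.2) _

end

end Cfsg.Agent.Lib.Helper8
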