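import Mathlib
import Cfsg.Prelude.Def_Blocks
import Cfsg.Agent.Lib.Helper8.QB4
import Cfsg.Agent.Lib.Helper8.QB5
import Cfsg.Agent.Lib.Helper8.Sub16
import Cfsg.Agent.S0148

/-!
# The section of an involution `z`: expansion through `C_G(z) ⧸ ⟨z⟩`
-/

set_option autoImplicit false
set_option maxHeartbeats 800000

namespace Cfsg.Agent.Lib.Helper8

open Cfsg
open scoped ComplexConjugate
open Cfsg.Agent.Lib.Helper1 Cfsg.Agent.Lib.Helper4

universe u

section

variable {G : Type u} [Group G]

/-- `z` as an element of its centralizer. -/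
def qbZel (z : G) : Subgroup.centralizer ({z} : Set G) :=
  ⟨z, Subgroup.mem_centralizer_singleton_iff.2 rfl⟩

theorem qbZel_coe (z : G) : ((qbZel z : Subgroup.centralizer ({z} : Set G)) : G) = z := rfl

theorem qbZel_mem_center (z : G) :
    qbZel z ∈ Subgroup.center (Subgroup.centralizer ({z} : Set G)) := by
  rw [Subgroup.mem_center_iff]
  intro h
  apply Subtype.ext
  exact Subgroup.mem_centralizer_singleton_iff.1 h.2

/-- The subgroup generated by `z` in its centralizer. -/
def qbZ (z : G) : Subgroup (Subgroup.centralizer ({z} : Set G)) := Subgroup.zpowers (qbZel z)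

theorem qbZ_le_center (z : G) :
    qbZ z ≤ Subgroup.center (Subgroup.centralizer ({z} : Set G)) :=
  Subgroup.zpowers_le.2 (qbZel_mem_center z)

instance qbZ_normal (z : G) : (qbZ z).Normal := by
  constructor
  intro n hn g
  have hc := Subgroup.mem_center_iff.1 (qbZ_le_center z hn) g
  have : g * n * g⁻¹ = n := by
    rw [hc]
    group
  rw [this]
  exact hn

theorem qbZel_mul_self {z : G} (hz : z * z = 1) : qbZel z * qbZel z = 1 :=
  Subtype.ext hz

theorem mem_qbZ_iff {z : G} (hz : z * z = 1) (n : Subgroup.centralizer ({z} : Set G)) :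
    n ∈ qbZ z ↔ n = 1 ∨ n = qbZel z := by
  constructor
  · intro hn
    obtain ⟨k, rfl⟩ := Subgroup.mem_zpowers_iff.1 hn
    rcases Int.even_or_odd k with ⟨j, rfl⟩ | ⟨j, rfl⟩
    · left
      rw [zpow_add, ← (Commute.refl (qbZel z)).mul_zpow, qbZel_mul_self hz, one_zpow]
    · right
      rw [zpow_add, zpow_one, two_mul, zpow_add, ← (Commute.refl (qbZel z)).mul_zpow,
        qbZel_mul_self hz, one_zpow, one_mul]
  · rintro (rfl | rfl)
    · exact Subgroup.one_mem _
    · exact Subgroup.mem_zpowers _

theorem qbZ_isPGroup {z : G} (hz : z * z = 1) : IsPGroup 2 (qbZ z) := by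
  intro n
  refine ⟨1, ?_⟩
  rcases (mem_qbZ_iff hz n.1).1 n.2 with h | h
  · apply Subtype.ext
    rw [Subgroup.coe_pow, h, one_pow]
    rfl
  · apply Subtype.ext
    rw [Subgroup.coe_pow, h, pow_one, pow_two, qbZel_mul_self hz]
    rfl

end

section

variable {G : Type u} [Group G] [Fintype G] {M : Ideal AlgInt}

/-- **Expansion on the section of an involution**: for `χ` in the principal block of `G` the
values `χ (z ρ)`, `ρ` of odd order in `C_G(z)`, are an integral combination of the members of the
principal block of `C_G(z) ⧸ ⟨z⟩`. -/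
theorem qb_section_expansion (hM : IsPModular 2 M) {z : G} (hz : orderOf z = 2)
    [Fintype (Subgroup.centralizer ({z} : Set G))]
    [Fintype (IrrCharacter (Subgroup.centralizer ({z} : Set G)))]
    [Fintype (IrrCharacter (Subgroup.centralizer ({z} : Set G) ⧸ qbZ z))]
    (χ : IrrCharacter G) (hχ : χ ∈ principalBlock M G) :
    ∃ m : IrrCharacter (Subgroup.centralizer ({z} : Set G) ⧸ qbZ z) → ℤ,
      (∀ ζ, m ζ ≠ 0 → ζ ∈ principalBlock M (Subgroup.centralizer ({z} : Set G) ⧸ qbZ z)) ∧
      ∀ ρ : Subgroup.centralizer ({z} : Set G), ¬ 2 ∣ orderOf ρ →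
        (χ : G → ℂ) (z * (ρ : G)) =
          ∑ ζ : IrrCharacter (Subgroup.centralizer ({z} : Set G) ⧸ qbZ z),
            (m ζ : ℂ) * (ζ : Subgroup.centralizer ({z} : Set G) ⧸ qbZ z → ℂ) (QuotientGroup.mk ρ) := by
  classical
  haveI : Fact (Nat.Prime 2) := ⟨Nat.prime_two⟩
  have hz2 : z * z = 1 := by
    have := pow_orderOf_eq_one z
    rw [hz, pow_two] at this
    exact this
  have hzp : ∃ k : ℕ, orderOf z = 2 ^ k := ⟨1, by rw [hz, pow_one]⟩
  set C := Subgroup.centralizer ({z} : Set G) with hC
  have hχC : IsCharacter C (fun c : C => (χ : G → ℂ) c) :=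
    Cfsg.Agent.S0148.isCharacter_restrict C (isCharacter_of_irr χ.2)
  have hF : IsGeneralizedCharacter C (fun c : C => (χ : G → ℂ) (z * (c : G))) :=
    qb_twist_genChar (qbZel_mem_center z) (qbZel_mul_self hz2) hχC
  obtain ⟨m', hm', hexp⟩ := qb_regular_expansion hM (qbZel_mem_center z) (qbZel_mul_self hz2)
    (isPBlock_principalBlock (M := M) (G := C)) hF
  refine ⟨fun ζ => m' (inflIrr (qbZ z) ζ), ?_, ?_⟩
  · intro ζ hζ
    exact (qb_principal_inflation hM (qbZ z) (qbZ_isPGroup hz2) (qbZ_le_center z) ζ).1 (hm' _ hζ).1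
  · intro ρ hρ
    have h1 := blockPart_principal_section hM z hzp χ hρ
    have hind : (by classical exact if χ ∈ principalBlock M G then (1 : ℂ) else 0) = (1 : ℂ) := by
      simp only [hχ, if_true]
    rw [hind, one_mul] at h1
    rw [← h1, hexp ρ hρ]
    rw [sum_eq_sum_inflIrr (qbZ z) (fun η => (m' η : ℂ) * (η : C → ℂ) ρ)]
    · rfl
    · intro η hη
      have : m' η = 0 := by
        by_contra hne
        apply hη
        intro n hn
        rcases (mem_qbZ_iff hz2 n).1 hn with h | h
        · rw [h]
        · rw [h]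
          exact (hm' η hne).2
      simp only [this, Int.cast_zero, zero_mul]

/-- Principal block orthogonality on a section, for two `p`-regular elements. -/
theorem sum_principal_section' {p : ℕ} [Fact p.Prime] [Fintype (IrrCharacter G)]
    (hM : IsPModular p M)
    (z : G) (hz : ∃ k : ℕ, orderOf z = p ^ k) [Fintype (Subgroup.centralizer ({z} : Set G))]
    [Fintype (IrrCharacter (Subgroup.centralizer ({z} : Set G)))]
    {y y' : Subgroup.centralizer ({z} : Set G)} (hy : ¬ p ∣ orderOf y) (hy' : ¬ p ∣ orderOf y') :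
    ∑ ζ : IrrCharacter G, (by classical exact if ζ ∈ principalBlock M G then (1 : ℂ) else 0) *
      (conj ((ζ : G → ℂ) (z * (y' : G))) * (ζ : G → ℂ) (z * (y : G))) =
    ∑ χ : IrrCharacter (Subgroup.centralizer ({z} : Set G)),
      (by classical exact if χ ∈ principalBlock M (Subgroup.centralizer ({z} : Set G))
        then (1 : ℂ) else 0) *
      (conj ((χ : Subgroup.centralizer ({z} : Set G) → ℂ) y') *
        (χ : Subgroup.centralizer ({z} : Set G) → ℂ) y) := by
  classical
  have hC : ∀ t, t ∈ Subgroup.centralizer ({z} : Set G) ↔ t * z = z * t := by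
    intro t
    rw [Subgroup.mem_centralizer_singleton_iff]
  have key := sum_irr_conj_mul_blockPart_section hM (Subgroup.centralizer ({z} : Set G)) hC hz
    (isPBlock_principalBlock (M := M) (G := Subgroup.centralizer ({z} : Set G))) hy hy'
  rw [← key]
  refine Finset.sum_congr rfl fun ζ _ => ?_
  rw [blockPart_principal_section hM z hz ζ hy]
  have : (by classical exact if ζ ∈ principalBlock M G then (1 : ℂ) else 0) =
      (if ζ ∈ principalBlock M G then (1 : ℂ) else 0) := by
    congr
  rw [this]
  ring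

end

end Cfsg.Agent.Lib.Helper8
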