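import Mathlib
import Cfsg.Agent.Lib.Helper2.QuatSylow7
import Cfsg.Agent.Lib.Helper3.Quat8
import Cfsg.Agent.S0950

/-!
# Groups with a quaternion Sylow 2-subgroup of order 8: fusion
-/

set_option autoImplicit false

namespace Cfsg.Agent.Lib.Helper8

open Cfsg.Agent.Lib.Helper2.QuatSylow

universe u

section

variable {G : Type u} [Group G] {α β : G}

theorem q8_alpha_pow_four {S : Subgroup G} (h : QData S 2 α β) : α ^ 4 = 1 := by
  have := h.alpha_pow_two_m
  norm_num at this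
  exact this

theorem q8_z_sq {S : Subgroup G} (h : QData S 2 α β) : α ^ 2 * α ^ 2 = 1 := by
  rw [← pow_add]
  exact q8_alpha_pow_four h

theorem q8_orderOf_alpha {S : Subgroup G} (h : QData S 2 α β) : orderOf α = 4 := by
  rw [h.ord]

theorem q8_orderOf_z {S : Subgroup G} (h : QData S 2 α β) : orderOf (α ^ 2) = 2 := by
  rw [orderOf_pow' α (by norm_num), h.ord]
  norm_num

theorem q8_z_ne_one {S : Subgroup G} (h : QData S 2 α β) : α ^ 2 ≠ 1 :=
  h.alpha_pow_m_ne_one (by norm_num)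

/-- Squares in `S` are `1` or `z`. -/
theorem q8_sq_mem {S : Subgroup G} (h : QData S 2 α β) {s : G} (hs : s ∈ S) :
    s * s = 1 ∨ s * s = α ^ 2 := by
  obtain ⟨k, hk | hk⟩ := h.cover' hs
  · rw [hk, ← zpow_add]
    rcases Int.even_or_odd k with ⟨j, hj⟩ | ⟨j, hj⟩
    · left
      have : k + k = 4 * j := by omega
      rw [this, zpow_mul, zpow_ofNat, q8_alpha_pow_four h, one_zpow]
    · right
      have : k + k = 4 * j + 2 := by omega
      rw [this, zpow_add, zpow_mul, zpow_ofNat, q8_alpha_pow_four h, one_zpow, one_mul, zpow_ofNat]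
  · right
    rw [hk, h.sq_beta_mul]

theorem q8_pow_four {S : Subgroup G} (h : QData S 2 α β) {s : G} (hs : s ∈ S) : s ^ 4 = 1 := by
  have : s ^ 4 = (s * s) * (s * s) := by
    rw [← pow_two, ← pow_two, ← pow_mul]
  rw [this]
  rcases q8_sq_mem h hs with h1 | h1
  · rw [h1, one_mul]
  · rw [h1, q8_z_sq h]

/-- `S` centralizes `z`. -/
theorem q8_le_centralizer {S : Subgroup G} (h : QData S 2 α β) :
    S ≤ Subgroup.centralizer ({α ^ 2} : Set G) := by
  intro s hs
  rw [Subgroup.mem_centralizer_singleton_iff]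
  obtain ⟨k, hk | hk⟩ := h.cover' hs
  · rw [hk, ← zpow_ofNat, ← zpow_add, ← zpow_add, add_comm]
  · rw [hk]
    have h1 : β * α ^ (2 : ℤ) * β⁻¹ = α ^ (2 : ℤ) := by
      rw [h.conj_zpow']
      have : α ^ (-2 : ℤ) * α ^ (4 : ℤ) = α ^ (2 : ℤ) := by
        rw [← zpow_add]
        norm_num
      rw [← this, zpow_ofNat α 4, q8_alpha_pow_four h, mul_one]
    have h2 : β * α ^ (2 : ℤ) = α ^ (2 : ℤ) * β := by
      calc β * α ^ (2 : ℤ) = (β * α ^ (2 : ℤ) * β⁻¹) * β := by group
        _ = α ^ (2 : ℤ) * β := by rw [h1]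
    rw [← zpow_ofNat α 2]
    calc β * α ^ k * α ^ (2 : ℤ) = β * α ^ (2 : ℤ) * α ^ k := by
          rw [mul_assoc, ← zpow_add, add_comm, zpow_add, ← mul_assoc]
      _ = α ^ (2 : ℤ) * (β * α ^ k) := by rw [h2, mul_assoc]

end

section

variable {G : Type u} [Group G] [Finite G] {α β : G}

/-- The normalizer of `S` centralizes `z`. -/
theorem q8_normalizer_le (S : Sylow 2 G) (h : QData (S : Subgroup G) 2 α β) :
    Subgroup.normalizer ((S : Subgroup G) : Set G) ≤ Subgroup.centralizer ({α ^ 2} : Set G) := by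
  intro n hn
  rw [Subgroup.mem_centralizer_singleton_iff]
  have hz : α ^ 2 ∈ (S : Subgroup G) := Subgroup.pow_mem _ h.hα 2
  have h1 : n * α ^ 2 * n⁻¹ ∈ (S : Subgroup G) := (Subgroup.mem_normalizer_iff.1 hn _).1 hz
  have h2 : n * α ^ 2 * n⁻¹ = α ^ 2 := by
    apply h.involution_eq (by norm_num) h1
    rw [orderOf_conj', q8_orderOf_z h]
  calc n * α ^ 2 = (n * α ^ 2 * n⁻¹) * n := by group
    _ = α ^ 2 * n := by rw [h2]

/-- No normal complement when `O(G) = 1` and `G ≠ S`. -/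
theorem q8_no_complement (S : Sylow 2 G)
    (hO : ∀ N : Subgroup G, N.Normal → Odd (Nat.card N) → N = ⊥)
    (hG : (S : Subgroup G) ≠ ⊤) :
    ∀ N : Subgroup G, N.Normal → ¬ Subgroup.IsComplement' N (S : Subgroup G) := by
  haveI : Fact (Nat.Prime 2) := ⟨Nat.prime_two⟩
  intro N hN hc
  have hcard : Nat.card N * Nat.card (S : Subgroup G) = Nat.card G := hc.card_mul_card
  have hidx : Nat.card N = (S : Subgroup G).index := by
    have h2 := (S : Subgroup G).card_mul_index
    have hP0 : 0 < Nat.card (S : Subgroup G) := Nat.card_pos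
    apply Nat.eq_of_mul_eq_mul_left hP0
    rw [h2, mul_comm, hcard]
  have hodd : Odd (Nat.card N) := by
    rw [hidx, ← Nat.not_even_iff_odd, even_iff_two_dvd]
    exact S.not_dvd_index
  have hbot := hO N hN hodd
  rw [hbot] at hc
  exact hG (Subgroup.isComplement'_bot_left.1 hc)

/-- Elements of order `4` in `S` are conjugate to `α` or `α z` under the normalizer of `S`. -/
theorem q8_order_four_conj (S : Sylow 2 G) (e : (S : Subgroup G) ≃* QuaternionGroup 2)
    (h : QData (S : Subgroup G) 2 α β)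
    (hnc : ∀ N : Subgroup G, N.Normal → ¬ Subgroup.IsComplement' N (S : Subgroup G))
    {u : G} (huS : u ∈ (S : Subgroup G)) (hu : u * u ≠ 1) :
    ∃ n ∈ Subgroup.normalizer ((S : Subgroup G) : Set G),
      n * u * n⁻¹ = α ∨ n * u * n⁻¹ = α * α ^ 2 := by
  have hu4 : orderOf u = 4 := by
    have := orderOf_eq_prime_pow (p := 2) (n := 1) (x := u) (by simpa [pow_two] using hu)
      (by simpa using q8_pow_four h huS)
    simpa using this
  have hA : Subgroup.zpowers u ≤ (S : Subgroup G) := Subgroup.zpowers_le.2 huS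
  have hB : Subgroup.zpowers α ≤ (S : Subgroup G) := Subgroup.zpowers_le.2 h.hα
  have hA4 : Nat.card (Subgroup.zpowers u) = 4 := by rw [Nat.card_zpowers, hu4]
  have hB4 : Nat.card (Subgroup.zpowers α) = 4 := by rw [Nat.card_zpowers, q8_orderOf_alpha h]
  obtain ⟨n, hn, hBA⟩ := Cfsg.Agent.S0950.result S e hnc _ _ hA hB hA4 hB4
  refine ⟨n, hn, ?_⟩
  have hmem : n * u * n⁻¹ ∈ Subgroup.zpowers α := by
    rw [hBA]
    exact ⟨u, Subgroup.mem_zpowers u, rfl⟩
  obtain ⟨k, hk⟩ := Subgroup.mem_zpowers_iff.1 hmem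
  have hord : orderOf (n * u * n⁻¹) = 4 := by rw [orderOf_conj', hu4]
  have hk' : α ^ (k % 4) = n * u * n⁻¹ := by
    have := zpow_mod_orderOf α k
    rw [q8_orderOf_alpha h] at this
    rw [← hk]
    exact_mod_cast this
  have hk4 : 0 ≤ k % 4 ∧ k % 4 < 4 := ⟨Int.emod_nonneg _ (by norm_num), Int.emod_lt_of_pos _ (by norm_num)⟩
  obtain ⟨j, hj⟩ : ∃ j : ℕ, k % 4 = j := ⟨(k % 4).toNat, (Int.toNat_of_nonneg hk4.1).symm⟩
  rw [hj, zpow_natCast] at hk'
  have hj4 : j < 4 := by omega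
  interval_cases j
  · exfalso
    rw [pow_zero] at hk'
    rw [← hk', orderOf_one] at hord
    norm_num at hord
  · left
    rw [← hk', pow_one]
  · exfalso
    rw [← hk', q8_orderOf_z h] at hord
    norm_num at hord
  · right
    rw [← hk', ← pow_succ']

end

end Cfsg.Agent.Lib.Helper8
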