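import Mathlib
import Cfsg.Agent.Lib.Helper8.QB9
import Cfsg.Agent.Lib.Helper8.QB6
import Cfsg.Agent.Lib.Helper8.KF1

/-!
# The centralizer of the involution modulo the involution: a Klein four Sylow subgroup with one
class of involutions
-/

set_option autoImplicit false
set_option maxHeartbeats 800000

namespace Cfsg.Agent.Lib.Helper8

open Cfsg.Agent.Lib.Helper2.QuatSylow

universe u

section

variable {G : Type u} [Group G] [Finite G] {α β : G}

/-- The Sylow `2`-subgroup of `C_G(z)`. -/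
noncomputable def q8SylC (S : Sylow 2 G) (h : QData (S : Subgroup G) 2 α β) :
    Sylow 2 (Subgroup.centralizer ({α ^ 2} : Set G)) :=
  S.subtype (q8_le_centralizer h)

omit [Finite G] in
theorem mem_q8SylC (S : Sylow 2 G) (h : QData (S : Subgroup G) 2 α β)
    (c : Subgroup.centralizer ({α ^ 2} : Set G)) :
    c ∈ (q8SylC S h : Subgroup (Subgroup.centralizer ({α ^ 2} : Set G))) ↔ (c : G) ∈ (S : Subgroup G) := by
  unfold q8SylC
  rw [Sylow.coe_subtype, Subgroup.mem_subgroupOf]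

/-- `α` as an element of `C_G(z)`. -/
def q8AlphaC (α : G) : Subgroup.centralizer ({α ^ 2} : Set G) :=
  ⟨α, by
    rw [Subgroup.mem_centralizer_singleton_iff, ← pow_succ, ← pow_succ']⟩

/-- Fusion in `C_G(z)`: a `2`-element outside `⟨z⟩` is conjugate to `α` or `α z`. -/
theorem q8_conj_in_C (S : Sylow 2 G) (e : (S : Subgroup G) ≃* QuaternionGroup 2)
    (h : QData (S : Subgroup G) 2 α β)
    (hnc : ∀ N : Subgroup G, N.Normal → ¬ Subgroup.IsComplement' N (S : Subgroup G))
    (u : Subgroup.centralizer ({α ^ 2} : Set G)) (hu4 : u ^ 4 = 1) (hu1 : u ≠ 1)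
    (huz : u ≠ qbZel (α ^ 2)) :
    ∃ c : Subgroup.centralizer ({α ^ 2} : Set G),
      c * u * c⁻¹ = q8AlphaC α ∨ c * u * c⁻¹ = q8AlphaC α * qbZel (α ^ 2) := by
  haveI : Fact (Nat.Prime 2) := ⟨Nat.prime_two⟩
  have hV : IsPGroup 2 (Subgroup.zpowers u) := by
    have hdvd : orderOf u ∣ 2 ^ 2 := orderOf_dvd_of_pow_eq_one (by norm_num; exact hu4)
    obtain ⟨j, -, hj⟩ := (Nat.dvd_prime_pow Nat.prime_two).1 hdvd
    apply IsPGroup.of_card (n := j)
    rw [Nat.card_zpowers, hj]
  obtain ⟨c, hc⟩ := exists_conj_le (q8SylC S h) hV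
  have h1 : ((c * u * c⁻¹ : Subgroup.centralizer ({α ^ 2} : Set G)) : G) ∈ (S : Subgroup G) :=
    (mem_q8SylC S h _).1 (hc u (Subgroup.mem_zpowers u))
  set u1 : G := ((c * u * c⁻¹ : Subgroup.centralizer ({α ^ 2} : Set G)) : G) with hu1def
  have hsq : u1 * u1 ≠ 1 := by
    intro hsq
    by_cases h11 : u1 = 1
    · apply hu1
      have : c * u * c⁻¹ = 1 := Subtype.ext h11
      calc u = c⁻¹ * (c * u * c⁻¹) * c := by group
        _ = 1 := by rw [this]; group
    · have hord : orderOf u1 = 2 := orderOf_eq_prime (by rw [pow_two]; exact hsq) h11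
      have hz := h.involution_eq (by norm_num) h1 hord
      apply huz
      have h2 : c * u * c⁻¹ = qbZel (α ^ 2) := Subtype.ext hz
      have hcen := Subgroup.mem_center_iff.1 (qbZel_mem_center (α ^ 2)) c
      calc u = c⁻¹ * (c * u * c⁻¹) * c := by group
        _ = c⁻¹ * (qbZel (α ^ 2) * c) := by rw [h2, mul_assoc]
        _ = c⁻¹ * (c * qbZel (α ^ 2)) := by rw [hcen]
        _ = qbZel (α ^ 2) := by group
  obtain ⟨n, hn, hor⟩ := q8_order_four_conj S e h hnc h1 hsq
  have hnC : n ∈ Subgroup.centralizer ({α ^ 2} : Set G) := q8_normalizer_le S h hn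
  refine ⟨⟨n, hnC⟩ * c, ?_⟩
  have e1 : (⟨n, hnC⟩ * c) * u * (⟨n, hnC⟩ * c)⁻¹ =
      (⟨n, hnC⟩ : Subgroup.centralizer ({α ^ 2} : Set G)) * (c * u * c⁻¹) * ⟨n, hnC⟩⁻¹ := by group
  rw [e1]
  rcases hor with h' | h'
  · left
    apply Subtype.ext
    exact h'
  · right
    apply Subtype.ext
    exact h'

/-- The image of the Sylow subgroup in `C_G(z) ⧸ ⟨z⟩`. -/
noncomputable def q8SylBar (S : Sylow 2 G) (h : QData (S : Subgroup G) 2 α β) :
    Sylow 2 (Subgroup.centralizer ({α ^ 2} : Set G) ⧸ qbZ (α ^ 2)) :=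
  haveI : Fact (Nat.Prime 2) := ⟨Nat.prime_two⟩
  (q8SylC S h).mapSurjective (QuotientGroup.mk'_surjective (qbZ (α ^ 2)))

omit [Finite G] in
theorem mk_qbZel (z : G) :
    (QuotientGroup.mk (qbZel z) : Subgroup.centralizer ({z} : Set G) ⧸ qbZ z) = 1 := by
  rw [QuotientGroup.eq_one_iff]
  exact Subgroup.mem_zpowers _

omit [Finite G] in
theorem q8_card_qbZ (S : Sylow 2 G) (h : QData (S : Subgroup G) 2 α β) :
    Nat.card (qbZ (α ^ 2)) = 2 := by
  unfold qbZ
  rw [Nat.card_zpowers]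
  have : orderOf (qbZel (α ^ 2)) = orderOf (α ^ 2) := by
    rw [← Subgroup.orderOf_coe]
    rfl
  rw [this, q8_orderOf_z h]

theorem q8_isK4_bar (S : Sylow 2 G) (h : QData (S : Subgroup G) 2 α β) :
    IsK4 ((q8SylBar S h : Sylow 2 (Subgroup.centralizer ({α ^ 2} : Set G) ⧸ qbZ (α ^ 2))) :
      Subgroup (Subgroup.centralizer ({α ^ 2} : Set G) ⧸ qbZ (α ^ 2))) := by
  haveI : Fact (Nat.Prime 2) := ⟨Nat.prime_two⟩
  set C := Subgroup.centralizer ({α ^ 2} : Set G) with hC
  constructor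
  · -- cardinality
    have h1 := (q8SylBar S h).card_eq_multiplicity
    have h2 := (q8SylC S h).card_eq_multiplicity
    have h3 : Nat.card (q8SylC S h : Subgroup C) = 8 := by
      unfold q8SylC
      rw [Sylow.coe_subtype,
        Nat.card_congr (Subgroup.subgroupOfEquivOfLe (q8_le_centralizer h)).toEquiv, h.card]
    have h4 : Nat.card C = Nat.card (C ⧸ qbZ (α ^ 2)) * 2 := by
      rw [Subgroup.card_eq_card_quotient_mul_card_subgroup (qbZ (α ^ 2)), q8_card_qbZ S h]
    have h5 : (Nat.card C).factorization 2 = 3 := by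
      rw [h3] at h2
      have : (2 : ℕ) ^ 3 = 2 ^ (Nat.card C).factorization 2 := by
        rw [← h2]
        norm_num
      exact (Nat.pow_right_injective (le_refl 2) this).symm
    have h6 : (Nat.card (C ⧸ qbZ (α ^ 2))).factorization 2 = 2 := by
      have hne : Nat.card (C ⧸ qbZ (α ^ 2)) ≠ 0 := Nat.card_pos.ne'
      rw [h4, Nat.factorization_mul hne (by norm_num), Finsupp.add_apply,
        Nat.Prime.factorization_self Nat.prime_two] at h5
      omega
    rw [h1, h6]
    norm_num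
  · -- exponent
    intro g hg
    have hg' : g ∈ (q8SylC S h : Subgroup C).map (QuotientGroup.mk' (qbZ (α ^ 2))) := hg
    obtain ⟨s, hs, rfl⟩ := hg'
    have hsS : (s : G) ∈ (S : Subgroup G) := (mem_q8SylC S h s).1 hs
    show (QuotientGroup.mk s : C ⧸ qbZ (α ^ 2)) * QuotientGroup.mk s = 1
    rw [← QuotientGroup.mk_mul, QuotientGroup.eq_one_iff,
      mem_qbZ_iff (q8_z_sq h)]
    rcases q8_sq_mem h hsS with h' | h'
    · left
      exact Subtype.ext h'
    · right
      exact Subtype.ext h'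

/-- All involutions of `C_G(z) ⧸ ⟨z⟩` are conjugate. -/
theorem q8_one_class_bar (S : Sylow 2 G) (e : (S : Subgroup G) ≃* QuaternionGroup 2)
    (h : QData (S : Subgroup G) 2 α β)
    (hnc : ∀ N : Subgroup G, N.Normal → ¬ Subgroup.IsComplement' N (S : Subgroup G))
    (q q' : Subgroup.centralizer ({α ^ 2} : Set G) ⧸ qbZ (α ^ 2)) (hq : orderOf q = 2)
    (hq' : orderOf q' = 2) : IsConj q q' := by
  set C := Subgroup.centralizer ({α ^ 2} : Set G) with hC
  have key : ∀ q : C ⧸ qbZ (α ^ 2), orderOf q = 2 →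
      IsConj q (QuotientGroup.mk (q8AlphaC α) : C ⧸ qbZ (α ^ 2)) := by
    intro q hq
    obtain ⟨u, rfl⟩ := QuotientGroup.mk_surjective q
    have hq2 : (QuotientGroup.mk u : C ⧸ qbZ (α ^ 2)) * QuotientGroup.mk u = 1 := by
      have h0 := pow_orderOf_eq_one (QuotientGroup.mk u : C ⧸ qbZ (α ^ 2))
      rw [hq] at h0
      exact (pow_two _).symm.trans h0
    have hq1 : (QuotientGroup.mk u : C ⧸ qbZ (α ^ 2)) ≠ 1 := by
      intro h1
      rw [h1, orderOf_one] at hq
      norm_num at hq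
    rw [← QuotientGroup.mk_mul, QuotientGroup.eq_one_iff, mem_qbZ_iff (q8_z_sq h)] at hq2
    have hu4 : u ^ 4 = 1 := by
      have : u ^ 4 = (u * u) * (u * u) := by
        rw [← pow_two, ← pow_two, ← pow_mul]
      rw [this]
      rcases hq2 with h' | h'
      · rw [h', one_mul]
      · rw [h', qbZel_mul_self (q8_z_sq h)]
    have hu1 : u ≠ 1 := by
      intro h1
      apply hq1
      rw [h1, QuotientGroup.mk_one]
    have huz : u ≠ qbZel (α ^ 2) := by
      intro h1
      apply hq1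
      rw [h1, mk_qbZel]
    obtain ⟨c, hc⟩ := q8_conj_in_C S e h hnc u hu4 hu1 huz
    rw [isConj_iff]
    refine ⟨QuotientGroup.mk c, ?_⟩
    rw [← QuotientGroup.mk_inv, ← QuotientGroup.mk_mul, ← QuotientGroup.mk_mul]
    rcases hc with h' | h'
    · rw [h']
    · rw [h', QuotientGroup.mk_mul, mk_qbZel, mul_one]
  exact (key q hq).trans (key q' hq').symm

end

end Cfsg.Agent.Lib.Helper8
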