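import Mathlib
import Cfsg.Agent.Lib.Helper1.CycloChar

/-!
# Restriction of a character to an abelian subgroup
-/

set_option autoImplicit false

namespace Cfsg.Agent.Lib.Helper8

open Cfsg.Agent.Lib.Helper1 Cfsg.Agent.Lib.Helper4

/-- The restriction of a character to an abelian subgroup is a sum of linear characters, with
natural multiplicities. -/
theorem exists_linear_decomp {G : Type*} [Group G] [Finite G] {χ : G → ℂ}
    (hχ : Cfsg.IsCharacter G χ) (A : Subgroup G) (hA : ∀ a ∈ A, ∀ b ∈ A, a * b = b * a) :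
    ∃ (ι' : Type) (_ : Fintype ι') (m : ι' → ℕ) (φ : ι' → (A →* ℂˣ)),
      ∀ a : A, χ a = ∑ j, (m j : ℂ) * (φ j a : ℂ) := by
  classical
  have : Fintype A := Fintype.ofFinite A
  have : Fintype (Cfsg.IrrCharacter A) := Fintype.ofFinite _
  have hχA : Cfsg.IsCharacter A (fun h : A => χ h) := Cfsg.Agent.S0148.isCharacter_restrict A hχ
  have hexp := class_function_expansion _ (isClassFunction_of_isCharacter hχA)
  have hm : ∀ ψ : Cfsg.IrrCharacter A, ∃ m : ℕ, Cfsg.classInner (fun h : A => χ h) ψ = m :=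
    fun ψ => classInner_char_irr_nat hχA ψ.2
  choose m hm using hm
  have hcomm : ∀ a b : A, a * b = b * a := fun a b => Subtype.ext (hA a a.2 b b.2)
  have hlin := (Cfsg.Agent.S0187.result (G := A)).1 hcomm
  have hφ : ∀ ψ : Cfsg.IrrCharacter A, ∃ φ : A →* ℂˣ, (ψ : A → ℂ) = fun h => (φ h : ℂ) :=
    fun ψ => exists_hom_of_isIrrCharacter ψ.2 (hlin ψ)
  choose φ hφ using hφ
  let e := Fintype.equivFin (Cfsg.IrrCharacter A)
  refine ⟨Fin (Fintype.card (Cfsg.IrrCharacter A)), inferInstance, fun j => m (e.symm j),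
    fun j => φ (e.symm j), ?_⟩
  intro a
  have h1 := congrFun hexp a
  rw [Finset.sum_apply] at h1
  rw [h1, ← Equiv.sum_comp e.symm]
  refine Finset.sum_congr rfl fun j _ => ?_
  rw [Pi.smul_apply, smul_eq_mul, hm, hφ (e.symm j)]

end Cfsg.Agent.Lib.Helper8
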