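import Mathlib
import Cfsg.Agent.Lib.Helper8.QB9
import Cfsg.Agent.Lib.Helper8.QB6
import Cfsg.Agent.Lib.Helper8.KF2
import Cfsg.Agent.Lib.Helper8.Sub17

/-!
# The centralizer of an element of order four, and the column of that element
-/

set_option autoImplicit false
set_option maxHeartbeats 800000

namespace Cfsg.Agent.Lib.Helper8

open Cfsg
open scoped ComplexConjugate
open Cfsg.Agent.Lib.Helper2.QuatSylow Cfsg.Agent.Lib.Helper3
open Cfsg.Agent.Lib.Helper1 Cfsg.Agent.Lib.Helper4

universe u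

section

variable {G : Type u} [Group G]

/-- In a quaternion group of order `8` the centralizer of an element of order four is the cyclic
group it generates. -/
theorem q8_centralizer_sub (S : Subgroup G) (e : S ≃* QuaternionGroup 2) {d w : G} (hd : d ∈ S)
    (hw : w ∈ S) (hd2 : d * d ≠ 1) (hc : w * d = d * w) : w ∈ Subgroup.zpowers d := by
  have h1 : (e ⟨d, hd⟩) ^ 2 ≠ 1 := by
    intro h
    apply hd2
    rw [← map_pow] at h
    have h2 : (⟨d, hd⟩ : S) ^ 2 = 1 := e.injective (h.trans (map_one e).symm)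
    have h3 := congrArg Subtype.val h2
    rw [Subgroup.coe_pow, pow_two] at h3
    exact h3
  have h2 : e ⟨w, hw⟩ * e ⟨d, hd⟩ = e ⟨d, hd⟩ * e ⟨w, hw⟩ := by
    rw [← map_mul, ← map_mul]
    congr 1
    exact Subtype.ext hc
  have key : ∀ k : ℕ, e ⟨w, hw⟩ = (e ⟨d, hd⟩) ^ k → w ∈ Subgroup.zpowers d := by
    intro k hk
    rw [← map_pow] at hk
    have h3 : (⟨w, hw⟩ : S) = ⟨d, hd⟩ ^ k := e.injective hk
    have h4 : w = d ^ k := by
      have := congrArg Subtype.val h3
      rw [Subgroup.coe_pow] at this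
      exact this
    rw [h4]
    exact Subgroup.pow_mem _ (Subgroup.mem_zpowers d) k
  rcases q8_centralizer _ _ h1 h2 with h3 | h3 | h3 | h3
  · exact key 0 (by rw [h3, pow_zero])
  · exact key 1 (by rw [h3, pow_one])
  · exact key 2 h3
  · exact key 3 h3

end

section

variable {G : Type u} [Group G] [Finite G] {α β : G}

/-- `⟨α⟩` is a Sylow `2`-subgroup of `C_G(α)`. -/
theorem q8_exists_sylow_centralizer_alpha (S : Sylow 2 G)
    (e : (S : Subgroup G) ≃* QuaternionGroup 2) (h : QData (S : Subgroup G) 2 α β) :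
    ∃ Q : Sylow 2 (Subgroup.centralizer ({α} : Set G)),
      (Q : Subgroup (Subgroup.centralizer ({α} : Set G))) = qbZ α := by
  haveI : Fact (Nat.Prime 2) := ⟨Nat.prime_two⟩
  have hcard : Nat.card (qbZ α) = 4 := by
    unfold qbZ
    rw [Nat.card_zpowers]
    have : orderOf (qbZel α) = orderOf α := by
      rw [← Subgroup.orderOf_coe]
      rfl
    rw [this, q8_orderOf_alpha h]
  have hV : IsPGroup 2 (qbZ α) := IsPGroup.of_card (n := 2) (by rw [hcard]; norm_num)
  obtain ⟨Q, hQ⟩ := hV.exists_le_sylow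
  refine ⟨Q, le_antisymm ?_ hQ⟩
  intro q hq
  have hV' : IsPGroup 2 ((Q : Subgroup (Subgroup.centralizer ({α} : Set G))).map
      (Subgroup.centralizer ({α} : Set G)).subtype) := Q.isPGroup'.map _
  obtain ⟨g, hg⟩ := exists_conj_le S hV'
  have hαmem : α ∈ (Q : Subgroup (Subgroup.centralizer ({α} : Set G))).map
      (Subgroup.centralizer ({α} : Set G)).subtype :=
    ⟨qbZel α, hQ (Subgroup.mem_zpowers _), rfl⟩
  have hqmem : (q : G) ∈ (Q : Subgroup (Subgroup.centralizer ({α} : Set G))).map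
      (Subgroup.centralizer ({α} : Set G)).subtype := ⟨q, hq, rfl⟩
  have hd := hg α hαmem
  have hw := hg (q : G) hqmem
  have hd2 : (g * α * g⁻¹) * (g * α * g⁻¹) ≠ 1 := by
    intro hc
    have : g * (α * α) * g⁻¹ = 1 := by
      rw [← hc]
      group
    have h2 : α * α = 1 := by
      calc α * α = g⁻¹ * (g * (α * α) * g⁻¹) * g := by group
        _ = 1 := by rw [this]; group
    rw [← pow_two] at h2
    exact q8_z_ne_one h h2
  have hcomm : (g * (q : G) * g⁻¹) * (g * α * g⁻¹) = (g * α * g⁻¹) * (g * (q : G) * g⁻¹) := by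
    have hqα : (q : G) * α = α * (q : G) := Subgroup.mem_centralizer_singleton_iff.1 q.2
    calc (g * (q : G) * g⁻¹) * (g * α * g⁻¹) = g * ((q : G) * α) * g⁻¹ := by group
      _ = g * (α * (q : G)) * g⁻¹ := by rw [hqα]
      _ = (g * α * g⁻¹) * (g * (q : G) * g⁻¹) := by group
  have hmem := q8_centralizer_sub (S : Subgroup G) e hd hw hd2 hcomm
  obtain ⟨k, hk⟩ := Subgroup.mem_zpowers_iff.1 hmem
  have hqk : (q : G) = α ^ k := by
    have h1 : (g * α * g⁻¹) ^ k = g * α ^ k * g⁻¹ := by
      rw [← MulAut.conj_apply, ← map_zpow, MulAut.conj_apply]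
    rw [h1] at hk
    calc (q : G) = g⁻¹ * (g * (q : G) * g⁻¹) * g := by group
      _ = g⁻¹ * (g * α ^ k * g⁻¹) * g := by rw [hk]
      _ = α ^ k := by group
  show q ∈ Subgroup.zpowers (qbZel α)
  rw [Subgroup.mem_zpowers_iff]
  refine ⟨k, ?_⟩
  apply Subtype.ext
  rw [Subgroup.coe_zpow, qbZel_coe, hqk]

/-- The normal `2`-complement of `C_G(α)`. -/
theorem q8_centralizer_alpha_index (S : Sylow 2 G)
    (e : (S : Subgroup G) ≃* QuaternionGroup 2) (h : QData (S : Subgroup G) 2 α β) :
    (pPrimeCore 2 (Subgroup.centralizer ({α} : Set G))).index = 2 ^ 2 ∧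
      (Nat.card (Subgroup.centralizer ({α} : Set G))).factorization 2 = 2 := by
  haveI : Fact (Nat.Prime 2) := ⟨Nat.prime_two⟩
  obtain ⟨Q, hQ⟩ := q8_exists_sylow_centralizer_alpha S e h
  have hcard : Nat.card (Q : Subgroup (Subgroup.centralizer ({α} : Set G))) = 4 := by
    rw [hQ]
    unfold qbZ
    rw [Nat.card_zpowers]
    have : orderOf (qbZel α) = orderOf α := by
      rw [← Subgroup.orderOf_coe]
      rfl
    rw [this, q8_orderOf_alpha h]
  have hNC : Subgroup.normalizer
      ((Q : Subgroup (Subgroup.centralizer ({α} : Set G))) : Set (Subgroup.centralizer ({α} : Set G))) ≤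
      Subgroup.centralizer
      ((Q : Subgroup (Subgroup.centralizer ({α} : Set G))) : Set (Subgroup.centralizer ({α} : Set G))) := by
    intro n _
    rw [Subgroup.mem_centralizer_iff]
    intro q hq
    have hq' : q ∈ qbZ α := by
      rw [← hQ]
      exact hq
    exact (Subgroup.mem_center_iff.1 (qbZ_le_center α hq') n).symm
  have hcompl := MonoidHom.ker_transferSylow_isComplement' Q hNC
  constructor
  · rw [pPrimeCore_index_of_isComplement' Q _ inferInstance hcompl, hcard]
    norm_num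
  · have h1 := Q.card_eq_multiplicity
    rw [hcard] at h1
    have h2 : (2 : ℕ) ^ 2 = 2 ^ (Nat.card (Subgroup.centralizer ({α} : Set G))).factorization 2 := by
      rw [← h1]
      norm_num
    exact (Nat.pow_right_injective (le_refl 2) h2).symm

end

end Cfsg.Agent.Lib.Helper8
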