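import Mathlib
import Cfsg.Agent.Lib.Helper8.QB11
import Cfsg.Agent.Lib.Helper8.KV3

/-!
# The column of an element of order four: norm and integrality
-/

set_option autoImplicit false
set_option maxHeartbeats 800000

namespace Cfsg.Agent.Lib.Helper8

open Cfsg
open scoped ComplexConjugate
open Cfsg.Agent.Lib.Helper2.QuatSylow
open Cfsg.Agent.Lib.Helper1 Cfsg.Agent.Lib.Helper4

universe u

section

variable {G : Type u} [Group G] [Fintype G] {M : Ideal AlgInt} {α β : G}

/-- The squared norm of the column of `α` in the principal block is `4`. -/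
theorem q8_sum_alpha [Fintype (IrrCharacter G)] (hM : IsPModular 2 M) (S : Sylow 2 G)
    (e : (S : Subgroup G) ≃* QuaternionGroup 2) (h : QData (S : Subgroup G) 2 α β) :
    ∑ ζ : IrrCharacter G, (by classical exact if ζ ∈ principalBlock M G then (1 : ℂ) else 0) *
      (conj ((ζ : G → ℂ) α) * (ζ : G → ℂ) α) = 4 := by
  classical
  haveI : Fact (Nat.Prime 2) := ⟨Nat.prime_two⟩
  haveI : Fintype (Subgroup.centralizer ({α} : Set G)) := Fintype.ofFinite _
  haveI : Fintype (IrrCharacter (Subgroup.centralizer ({α} : Set G))) := Fintype.ofFinite _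
  obtain ⟨hidx, hfac⟩ := q8_centralizer_alpha_index S e h
  have hα : ∃ k : ℕ, orderOf α = 2 ^ k := ⟨2, by rw [q8_orderOf_alpha h]; norm_num⟩
  have h1 : ¬ 2 ∣ orderOf (1 : Subgroup.centralizer ({α} : Set G)) := by
    rw [orderOf_one]
    norm_num
  have key := sum_principal_section hM α hα h1
  rw [sum_principal_of_normal_pComplement hM ⟨2, hidx⟩ h1, hfac] at key
  simp only [OneMemClass.coe_one, mul_one] at key
  rw [key]
  norm_num

end

section

/-- A fourth root of unity is `r + s i` with `(r, s)` one of `(±1, 0)`, `(0, ±1)`. -/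
theorem fourth_root_cases {u : ℂ} (hu : u ^ 4 = 1) :
    ∃ r s : ℤ, u = (r : ℂ) + (s : ℂ) * Complex.I ∧
      ((r = 1 ∧ s = 0) ∨ (r = -1 ∧ s = 0) ∨ (r = 0 ∧ s = 1) ∨ (r = 0 ∧ s = -1)) := by
  have h1 : (u - 1) * (u + 1) * (u - Complex.I) * (u + Complex.I) = 0 := by
    have : (u - 1) * (u + 1) * (u - Complex.I) * (u + Complex.I) =
        u ^ 4 - 1 - (u ^ 2 - 1) * (Complex.I ^ 2 + 1) := by ring
    rw [this, hu, Complex.I_sq]
    ring
  rcases mul_eq_zero.1 h1 with h2 | h2
  · rcases mul_eq_zero.1 h2 with h3 | h3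
    · rcases mul_eq_zero.1 h3 with h4 | h4
      · exact ⟨1, 0, by push_cast; linear_combination h4, Or.inl ⟨rfl, rfl⟩⟩
      · exact ⟨-1, 0, by push_cast; linear_combination h4, Or.inr (Or.inl ⟨rfl, rfl⟩)⟩
    · exact ⟨0, 1, by push_cast; linear_combination h3, Or.inr (Or.inr (Or.inl ⟨rfl, rfl⟩))⟩
  · exact ⟨0, -1, by push_cast; linear_combination h2, Or.inr (Or.inr (Or.inr ⟨rfl, rfl⟩))⟩

variable {G : Type u} [Group G] [Finite G]

/-- Values of a character at an element `y` with `y⁴ = 1` conjugate to its inverse: `χ y` and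
`χ (y²)` are integers of the same parity. -/
theorem char_fourth_root_values {χ : G → ℂ} (hχ : IsCharacter G χ) {y : G} (hy : y ^ 4 = 1)
    (hreal : χ y⁻¹ = χ y) : ∃ a c : ℤ, χ y = a ∧ χ (y * y) = c ∧ Even (a - c) := by
  classical
  have := Fintype.ofFinite G
  have hA : ∀ a ∈ Subgroup.zpowers y, ∀ b ∈ Subgroup.zpowers y, a * b = b * a := by
    intro a ha b hb
    obtain ⟨i, rfl⟩ := Subgroup.mem_zpowers_iff.1 ha
    obtain ⟨j, rfl⟩ := Subgroup.mem_zpowers_iff.1 hb
    rw [← zpow_add, ← zpow_add, add_comm]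
  obtain ⟨ι', _, m, φ, hdec⟩ := exists_linear_decomp hχ (Subgroup.zpowers y) hA
  set yA : Subgroup.zpowers y := ⟨y, Subgroup.mem_zpowers y⟩ with hyA
  have hu4 : ∀ j, ((φ j yA : ℂˣ) : ℂ) ^ 4 = 1 := by
    intro j
    rw [← Units.val_pow_eq_pow_val, ← map_pow]
    have : yA ^ 4 = 1 := Subtype.ext (by rw [Subgroup.coe_pow]; exact hy)
    rw [this, map_one, Units.val_one]
  choose r s hrs hcases using fun j => fourth_root_cases (hu4 j)
  have hy1 : χ y = ((∑ j, (m j : ℤ) * r j : ℤ) : ℂ) + ((∑ j, (m j : ℤ) * s j : ℤ) : ℂ) * Complex.I := by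
    have := hdec yA
    rw [hyA] at this
    simp only at this
    rw [this]
    push_cast
    rw [Finset.sum_mul, ← Finset.sum_add_distrib]
    refine Finset.sum_congr rfl fun j _ => ?_
    rw [hrs j]
    ring
  have hy2 : χ (y * y) = ((∑ j, (m j : ℤ) * (r j * r j - s j * s j) : ℤ) : ℂ) := by
    have := hdec (yA * yA)
    rw [hyA] at this
    simp only [Subgroup.coe_mul] at this
    rw [this]
    push_cast
    refine Finset.sum_congr rfl fun j _ => ?_
    rw [map_mul, Units.val_mul, hrs j]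
    have hI : Complex.I * Complex.I = -1 := Complex.I_mul_I
    rcases hcases j with ⟨h1, h2⟩ | ⟨h1, h2⟩ | ⟨h1, h2⟩ | ⟨h1, h2⟩ <;>
    · rw [h1, h2]
      push_cast
      first | ring1 | linear_combination (m j : ℂ) * hI
  have him : (∑ j, (m j : ℤ) * s j : ℤ) = 0 := by
    have h1 : conj (χ y) = χ y := by
      rw [← isCharacter_inv hχ, hreal]
    rw [hy1, map_add, map_mul, Complex.conj_I, map_intCast, map_intCast] at h1
    have h2 : (2 : ℂ) * (((∑ j, (m j : ℤ) * s j : ℤ) : ℂ) * Complex.I) = 0 := by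
      linear_combination -h1
    rcases mul_eq_zero.1 h2 with h3 | h3
    · norm_num at h3
    · rcases mul_eq_zero.1 h3 with h4 | h4
      · exact_mod_cast h4
      · exact absurd h4 Complex.I_ne_zero
  refine ⟨∑ j, (m j : ℤ) * r j, ∑ j, (m j : ℤ) * (r j * r j - s j * s j), ?_, hy2, ?_⟩
  · rw [hy1, him]
    simp
  · have h1 : (∑ j, (m j : ℤ) * r j) - ∑ j, (m j : ℤ) * (r j * r j - s j * s j) =
        ∑ j, (m j : ℤ) * (r j - r j * r j + (s j * s j - s j)) + ∑ j, (m j : ℤ) * s j := by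
      rw [← Finset.sum_sub_distrib, ← Finset.sum_add_distrib]
      refine Finset.sum_congr rfl fun j _ => ?_
      ring
    rw [h1, him, add_zero]
    apply Finset.even_sum
    intro j _
    apply Even.mul_left
    rcases hcases j with ⟨h1, h2⟩ | ⟨h1, h2⟩ | ⟨h1, h2⟩ | ⟨h1, h2⟩ <;>
    · rw [h1, h2]
      decide

end

end Cfsg.Agent.Lib.Helper8
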