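import Mathlib
import Cfsg.Prelude.Def_BlockRank
import Cfsg.Agent.Lib.Helper8.QB12
import Cfsg.Agent.Lib.Helper8.BlockLocal

/-!
# Independence of the basic set, nonvanishing at the involution, sums over a block
-/

set_option autoImplicit false
set_option maxHeartbeats 800000

namespace Cfsg.Agent.Lib.Helper8

open Cfsg
open scoped ComplexConjugate
open Cfsg.Agent.Lib.Helper1 Cfsg.Agent.Lib.Helper4

universe u

section

variable {H : Type u} [Group H] {M : Ideal AlgInt}

/-- If the principal `2`-block is `{1, ζ₂, ζ₃, ζ₄}` with `ζ₄ = 1 + ζ₂ + ε ζ₃` on odd order elements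
and has rank `3`, then `1, ζ₂, ε ζ₃` are independent on the odd order elements. -/
theorem qb_basic_independent (ζ₂ ζ₃ ζ₄ : IrrCharacter H) (ε : ℤ) (hε : ε = 1 ∨ ε = -1)
    (hB : principalBlock M H = {χ : IrrCharacter H | (χ : H → ℂ) = (fun _ => 1) ∨ χ = ζ₂ ∨
      χ = ζ₃ ∨ χ = ζ₄})
    (hrel : ∀ y : H, Odd (orderOf y) → 1 + (ζ₂ : H → ℂ) y + (ε : ℂ) * (ζ₃ : H → ℂ) y -
      (ζ₄ : H → ℂ) y = 0)
    (hrank : blockRank 2 (principalBlock M H) = 3) :
    ∀ a : Fin 3 → ℂ, (∀ y : H, ¬ 2 ∣ orderOf y →
      a 0 + a 1 * (ζ₂ : H → ℂ) y + a 2 * ((ε : ℂ) * (ζ₃ : H → ℂ) y) = 0) → ∀ j, a j = 0 := by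
  classical
  intro a ha
  set v : Fin 3 → (H → ℂ) := ![pRegularPart 2 (fun _ => 1), pRegularPart 2 (ζ₂ : H → ℂ),
    pRegularPart 2 (ζ₃ : H → ℂ)] with hv
  have hv0 : v 0 = pRegularPart 2 (fun _ => 1) := rfl
  have hv1 : v 1 = pRegularPart 2 (ζ₂ : H → ℂ) := rfl
  have hv2 : v 2 = pRegularPart 2 (ζ₃ : H → ℂ) := rfl
  have hreg : ∀ (f : H → ℂ) (y : H), ¬ 2 ∣ orderOf y → pRegularPart 2 f y = f y := by
    intro f y hy
    unfold pRegularPart
    have : IsPRegular 2 y := hy
    simp only [this, if_true]
  have hsing : ∀ (f : H → ℂ) (y : H), 2 ∣ orderOf y → pRegularPart 2 f y = 0 := by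
    intro f y hy
    unfold pRegularPart
    have : ¬ IsPRegular 2 y := fun h => h hy
    simp only [this, if_false]
  have hspan : Submodule.span ℂ ((fun χ : IrrCharacter H => pRegularPart 2 (χ : H → ℂ)) ''
      principalBlock M H) = Submodule.span ℂ (Set.range v) := by
    apply le_antisymm
    · rw [Submodule.span_le]
      rintro _ ⟨χ, hχ, rfl⟩
      show pRegularPart 2 (χ : H → ℂ) ∈ Submodule.span ℂ (Set.range v)
      rw [hB] at hχ
      rcases hχ with h | h | h | h
      · have : pRegularPart 2 (χ : H → ℂ) = v 0 := by rw [h, hv0]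
        rw [this]
        exact Submodule.subset_span ⟨0, rfl⟩
      · rw [h]
        exact Submodule.subset_span ⟨1, rfl⟩
      · rw [h]
        exact Submodule.subset_span ⟨2, rfl⟩
      · rw [h]
        have : pRegularPart 2 (ζ₄ : H → ℂ) = v 0 + v 1 + (ε : ℂ) • v 2 := by
          funext y
          rw [Pi.add_apply, Pi.add_apply, Pi.smul_apply, hv0, hv1, hv2, smul_eq_mul]
          by_cases hy : 2 ∣ orderOf y
          · rw [hsing _ y hy, hsing _ y hy, hsing _ y hy, hsing _ y hy]
            ring
          · rw [hreg _ y hy, hreg _ y hy, hreg _ y hy, hreg _ y hy]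
            have := hrel y (Nat.not_even_iff_odd.1 (fun h => hy (even_iff_two_dvd.1 h)))
            linear_combination -this
        rw [this]
        exact Submodule.add_mem _ (Submodule.add_mem _ (Submodule.subset_span ⟨0, rfl⟩)
          (Submodule.subset_span ⟨1, rfl⟩)) (Submodule.smul_mem _ _ (Submodule.subset_span ⟨2, rfl⟩))
    · rw [Submodule.span_le]
      rintro _ ⟨j, rfl⟩
      apply Submodule.subset_span
      fin_cases j
      · refine ⟨trivIrr H, ?_, ?_⟩
        · rw [hB]
          left
          funext x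
          rw [trivIrr_apply]
        · have : (trivIrr H : H → ℂ) = fun _ => 1 := by
            funext x
            rw [trivIrr_apply]
          simp only [this]
          rfl
      · exact ⟨ζ₂, by rw [hB]; right; left; rfl, rfl⟩
      · exact ⟨ζ₃, by rw [hB]; right; right; left; rfl, rfl⟩
  have hfin : Module.finrank ℂ (Submodule.span ℂ (Set.range v)) = 3 := by
    rw [← hspan]
    exact hrank
  have hli : LinearIndependent ℂ v := by
    rw [linearIndependent_iff_card_eq_finrank_span]
    rw [Fintype.card_fin]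
    exact hfin.symm
  have hε0 : (ε : ℂ) ≠ 0 := by
    rcases hε with h | h <;> rw [h] <;> norm_num
  have h0 : ∑ i, (![a 0, a 1, a 2 * (ε : ℂ)] : Fin 3 → ℂ) i • v i = 0 := by
    funext y
    rw [Finset.sum_apply, Fin.sum_univ_three]
    simp only [Pi.smul_apply, smul_eq_mul, Matrix.cons_val_zero, Matrix.cons_val_one,
      Matrix.cons_val_two, Matrix.head_cons, Matrix.tail_cons, Pi.zero_apply]
    rw [hv0, hv1, hv2]
    by_cases hy : 2 ∣ orderOf y
    · rw [hsing _ y hy, hsing _ y hy, hsing _ y hy]
      ring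
    · rw [hreg _ y hy, hreg _ y hy, hreg _ y hy]
      have := ha y hy
      linear_combination this
  have h1 := Fintype.linearIndependent_iff.1 hli _ h0
  intro j
  fin_cases j
  · exact h1 0
  · exact h1 1
  · have := h1 2
    simp only [Matrix.cons_val_two, Matrix.head_cons, Matrix.tail_cons] at this
    rcases mul_eq_zero.1 this with h | h
    · exact h
    · exact absurd h hε0

end

section

variable {G : Type u} [Group G] [Finite G] {M : Ideal AlgInt}

omit [Finite G] in
/-- A member of the principal `p`-block does not vanish at an element whose centralizer has index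
prime to `p`. -/
theorem principal_ne_zero_of_index {p : ℕ} (hM : IsPModular p M) (χ : IrrCharacter G)
    (hχ : χ ∈ principalBlock M G) {z : G}
    (hz : ¬ p ∣ (Subgroup.centralizer ({z} : Set G)).index) : (χ : G → ℂ) z ≠ 0 := by
  intro h0
  have h1 : MemLocalIdeal M (centralChar (fun _ : G => (1 : ℂ)) z - centralChar (χ : G → ℂ) z) :=
    hχ z
  unfold centralChar at h1
  rw [h0, mul_zero, zero_div, sub_zero, mul_one, div_one] at h1
  exact hz ((memLocalIdeal_natCast_iff hM _).1 h1)

end

section

variable {A : Type*} [Fintype A]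

/-- Sums with an indicator as sums over the subtype. -/
theorem sum_indicator_eq_sum_subtype (B : Set A) [Fintype B] (f : A → ℂ) :
    ∑ χ : A, (by classical exact if χ ∈ B then (1 : ℂ) else 0) * f χ = ∑ i : B, f i.1 := by
  classical
  have e : ∀ χ : A, (by classical exact if χ ∈ B then (1 : ℂ) else 0) * f χ =
      if χ ∈ B then f χ else 0 := by
    intro χ
    by_cases h : χ ∈ B
    · simp only [h, if_true, one_mul]
    · simp only [h, if_false, zero_mul]
  rw [Finset.sum_congr rfl (fun χ _ => e χ), ← Finset.sum_filter]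
  exact Finset.sum_subtype (Finset.univ.filter (fun χ => χ ∈ B)) (by simp) f

end

end Cfsg.Agent.Lib.Helper8
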