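import Mathlib
import Cfsg.Prelude.Def_Blocks
import Cfsg.Agent.Lib.Helper8.QB6
import Cfsg.Agent.Lib.Helper8.BA1

/-!
# The Gram matrix of the section of an involution
-/

set_option autoImplicit false
set_option maxHeartbeats 800000

namespace Cfsg.Agent.Lib.Helper8

open Cfsg
open scoped ComplexConjugate
open Cfsg.Agent.Lib.Helper1 Cfsg.Agent.Lib.Helper4

universe u

section

variable {H : Type u} [Group H] [Fintype H] {M : Ideal AlgInt}

/-- In a group with a central involution `zc`, the principal block sum of `conj (ξ ρ') ξ ρ` over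
odd order `ρ, ρ'` is twice the corresponding sum for the quotient by `⟨zc⟩`. -/
theorem qb_central_gram [Fintype (IrrCharacter H)] (hM : IsPModular 2 M) {zc : H}
    (hzc : zc ∈ Subgroup.center H) (hz2 : zc * zc = 1) (hz1 : zc ≠ 1)
    (Z : Subgroup H) [Z.Normal] (hZ : ∀ n : H, n ∈ Z ↔ n = 1 ∨ n = zc)
    [Fintype (IrrCharacter (H ⧸ Z))] {ρ ρ' : H} (hρ : ¬ 2 ∣ orderOf ρ) (hρ' : ¬ 2 ∣ orderOf ρ') :
    ∑ ξ : IrrCharacter H, (by classical exact if ξ ∈ principalBlock M H then (1 : ℂ) else 0) *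
      (conj ((ξ : H → ℂ) ρ') * (ξ : H → ℂ) ρ) =
    2 * ∑ ζ : IrrCharacter (H ⧸ Z),
      (by classical exact if ζ ∈ principalBlock M (H ⧸ Z) then (1 : ℂ) else 0) *
      (conj ((ζ : H ⧸ Z → ℂ) (QuotientGroup.mk ρ')) * (ζ : H ⧸ Z → ℂ) (QuotientGroup.mk ρ)) := by
  classical
  haveI : Fact (Nat.Prime 2) := ⟨Nat.prime_two⟩
  have hp2 : (2 : ℕ).Prime := Nat.prime_two
  have hordz : orderOf zc = 2 := orderOf_eq_prime (by rw [pow_two]; exact hz2) hz1
  have hZp : IsPGroup 2 Z := by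
    intro n
    refine ⟨1, ?_⟩
    apply Subtype.ext
    rw [Subgroup.coe_pow, pow_one, pow_two]
    rcases (hZ n.1).1 n.2 with h | h
    · rw [h, one_mul]; rfl
    · rw [h, hz2]; rfl
  have hZc : Z ≤ Subgroup.center H := by
    intro n hn
    rcases (hZ n).1 hn with h | h
    · rw [h]; exact Subgroup.one_mem _
    · rw [h]; exact hzc
  -- the sign of each character
  have hsign : ∀ ξ : IrrCharacter H, ∀ c : H, (ξ : H → ℂ) (zc * c) =
      (if (ξ : H → ℂ) zc = (ξ : H → ℂ) 1 then (1 : ℂ) else -1) * (ξ : H → ℂ) c := by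
    intro ξ c
    have hξ1 : (ξ : H → ℂ) 1 ≠ 0 := irr_apply_one_ne_zero ξ.2
    have hcomm : zc * c = c * zc := (Subgroup.mem_center_iff.1 hzc c).symm
    rw [hcomm, irr_mul_central ξ.2 c hzc]
    by_cases h : (ξ : H → ℂ) zc = (ξ : H → ℂ) 1
    · rw [if_pos h, h]
      field_simp
    · rw [if_neg h]
      rcases irr_central_involution ξ.2 hzc hz2 with h' | h'
      · exact absurd h' h
      · rw [h']
        field_simp
  -- block orthogonality between the sections of 1 and zc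
  have horth : ∑ ξ : IrrCharacter H,
      (if ξ ∈ principalBlock M H then (1 : ℂ) else 0) *
      (conj ((ξ : H → ℂ) ρ') * (ξ : H → ℂ) ρ) *
      (if (ξ : H → ℂ) zc = (ξ : H → ℂ) 1 then (1 : ℂ) else -1) = 0 := by
    have h1 : IsPPart 2 ρ 1 :=
      ⟨ρ, one_mul ρ, Commute.one_left ρ, ⟨0, by rw [orderOf_one, pow_zero]⟩, hρ⟩
    have h2 : IsPPart 2 (zc * ρ') zc :=
      ⟨ρ', rfl, (Subgroup.mem_center_iff.1 hzc ρ').symm, ⟨1, by rw [hordz, pow_one]⟩, hρ'⟩
    have h3 : ¬ IsConj (1 : H) zc := by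
      intro hc
      exact hz1 (isConj_one_right.1 hc)
    have key := block_orthogonality hM (isPBlock_principalBlock (M := M) (G := H)) h1 h2 h3
    rw [finsum_mem_eq_sum_indicator] at key
    refine Eq.trans ?_ key
    refine Finset.sum_congr rfl fun ξ _ => ?_
    rw [isCharacter_inv (isCharacter_of_irr ξ.2), hsign ξ ρ', map_mul]
    have : (by classical exact if ξ ∈ principalBlock M H then (1 : ℂ) else 0) =
        (if ξ ∈ principalBlock M H then (1 : ℂ) else 0) := by
      congr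
    rw [this]
    have hs : conj (if (ξ : H → ℂ) zc = (ξ : H → ℂ) 1 then (1 : ℂ) else -1) =
        (if (ξ : H → ℂ) zc = (ξ : H → ℂ) 1 then (1 : ℂ) else -1) := by
      split_ifs <;> simp
    rw [hs]
    ring
  have hsum : ∑ ξ : IrrCharacter H, (if ξ ∈ principalBlock M H then (1 : ℂ) else 0) *
      (conj ((ξ : H → ℂ) ρ') * (ξ : H → ℂ) ρ) =
      ∑ ξ : IrrCharacter H, (if (ξ : H → ℂ) zc = (ξ : H → ℂ) 1 then
        2 * ((if ξ ∈ principalBlock M H then (1 : ℂ) else 0) *
          (conj ((ξ : H → ℂ) ρ') * (ξ : H → ℂ) ρ)) else 0) := by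
    have : ∑ ξ : IrrCharacter H, (if ξ ∈ principalBlock M H then (1 : ℂ) else 0) *
        (conj ((ξ : H → ℂ) ρ') * (ξ : H → ℂ) ρ) =
        ∑ ξ : IrrCharacter H, ((if ξ ∈ principalBlock M H then (1 : ℂ) else 0) *
        (conj ((ξ : H → ℂ) ρ') * (ξ : H → ℂ) ρ) +
        (if ξ ∈ principalBlock M H then (1 : ℂ) else 0) *
        (conj ((ξ : H → ℂ) ρ') * (ξ : H → ℂ) ρ) *
        (if (ξ : H → ℂ) zc = (ξ : H → ℂ) 1 then (1 : ℂ) else -1)) := by
      rw [Finset.sum_add_distrib, horth, add_zero]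
    rw [this]
    refine Finset.sum_congr rfl fun ξ _ => ?_
    by_cases h : (ξ : H → ℂ) zc = (ξ : H → ℂ) 1
    · rw [if_pos h, if_pos h]
      ring
    · rw [if_neg h, if_neg h]
      ring
  have e0 : ∑ ξ : IrrCharacter H,
      (by classical exact if ξ ∈ principalBlock M H then (1 : ℂ) else 0) *
      (conj ((ξ : H → ℂ) ρ') * (ξ : H → ℂ) ρ) =
      ∑ ξ : IrrCharacter H, (if ξ ∈ principalBlock M H then (1 : ℂ) else 0) *
      (conj ((ξ : H → ℂ) ρ') * (ξ : H → ℂ) ρ) := by
    refine Finset.sum_congr rfl fun ξ _ => ?_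
    congr
  rw [e0, hsum, sum_eq_sum_inflIrr Z, Finset.mul_sum]
  · refine Finset.sum_congr rfl fun ζ _ => ?_
    have hker : (inflIrr Z ζ : H → ℂ) zc = (inflIrr Z ζ : H → ℂ) 1 := by
      have hmk : (QuotientGroup.mk zc : H ⧸ Z) = QuotientGroup.mk 1 := by
        rw [QuotientGroup.eq]
        exact Z.mul_mem (Z.inv_mem ((hZ zc).2 (Or.inr rfl))) (Z.one_mem)
      rw [inflIrr_apply, inflIrr_apply, hmk]
    rw [if_pos hker, inflIrr_apply, inflIrr_apply]
    have hblk := qb_principal_inflation hM Z hZp hZc ζ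
    have : (by classical exact if ζ ∈ principalBlock M (H ⧸ Z) then (1 : ℂ) else 0) =
        (if inflIrr Z ζ ∈ principalBlock M H then (1 : ℂ) else 0) := by
      by_cases h : ζ ∈ principalBlock M (H ⧸ Z)
      · simp only [h, hblk.2 h, if_true]
      · have h' : inflIrr Z ζ ∉ principalBlock M H := fun hc => h (hblk.1 hc)
        simp only [h, h', if_false]
    rw [this]
  · intro η hη
    have hne : ¬ (η : H → ℂ) zc = (η : H → ℂ) 1 := by
      intro hc
      apply hη
      intro n hn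
      rcases (hZ n).1 hn with h | h
      · rw [h]
      · rw [h]; exact hc
    rw [if_neg hne]

end

end Cfsg.Agent.Lib.Helper8
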