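import Mathlib

/-!
# Abstract column analysis: extracting a Gram matrix, and the count of seven rows
-/

set_option autoImplicit false

namespace Cfsg.Agent.Lib.Helper8

open scoped ComplexConjugate

section

variable {ι X : Type*} [Fintype ι] {n : ℕ}

/-- Orthogonality to a column: from `∑ d_i v_i(ρ) = 0` on `R` and independence, coefficientwise. -/
theorem qb_orth_extract (R : Set X) (β : Fin n → X → ℂ)
    (hind : ∀ a : Fin n → ℂ, (∀ ρ ∈ R, ∑ j, a j * β j ρ = 0) → ∀ j, a j = 0)
    (c : ι → Fin n → ℂ) (d : ι → ℂ)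
    (h : ∀ ρ ∈ R, ∑ i, d i * ∑ j, c i j * β j ρ = 0) :
    ∀ j, ∑ i, d i * c i j = 0 := by
  apply hind
  intro ρ hρ
  have := h ρ hρ
  rw [← this]
  simp_rw [Finset.mul_sum, Finset.sum_mul]
  rw [Finset.sum_comm]
  refine Finset.sum_congr rfl fun i _ => Finset.sum_congr rfl fun j _ => ?_
  ring

/-- Extraction of the Gram matrix of the coefficient vectors. -/
theorem qb_gram_extract (R : Set X) (β : Fin n → X → ℂ)
    (hind : ∀ a : Fin n → ℂ, (∀ ρ ∈ R, ∑ j, a j * β j ρ = 0) → ∀ j, a j = 0)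
    (c : ι → Fin n → ℂ) (hc : ∀ i j, conj (c i j) = c i j) (T : Fin n → Fin n → ℂ)
    (hgram : ∀ ρ ∈ R, ∀ ρ' ∈ R,
      ∑ i, conj (∑ j, c i j * β j ρ') * (∑ k, c i k * β k ρ) =
        ∑ j, ∑ k, T j k * conj (β j ρ') * β k ρ) :
    ∀ j k, ∑ i, c i j * c i k = T j k := by
  -- first in ρ
  have h1 : ∀ ρ' ∈ R, ∀ k, ∑ j, ((∑ i, c i j * c i k) - T j k) * conj (β j ρ') = 0 := by
    intro ρ' hρ'
    apply hind
    intro ρ hρ
    have := hgram ρ hρ ρ' hρ'
    have e1 : ∑ k, (∑ j, ((∑ i, c i j * c i k) - T j k) * conj (β j ρ')) * β k ρ =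
        ∑ i, conj (∑ j, c i j * β j ρ') * (∑ k, c i k * β k ρ) -
          ∑ j, ∑ k, T j k * conj (β j ρ') * β k ρ := by
      have e2 : ∑ i, conj (∑ j, c i j * β j ρ') * (∑ k, c i k * β k ρ) =
          ∑ k, ∑ j, (∑ i, c i j * c i k) * conj (β j ρ') * β k ρ := by
        have e3 : ∀ i, conj (∑ j, c i j * β j ρ') * (∑ k, c i k * β k ρ) =
            ∑ k, ∑ j, c i j * c i k * conj (β j ρ') * β k ρ := by
          intro i
          rw [map_sum, Finset.sum_mul_sum, Finset.sum_comm]
          refine Finset.sum_congr rfl fun k _ => Finset.sum_congr rfl fun j _ => ?_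
          rw [map_mul, hc]
          ring
        simp_rw [e3]
        rw [Finset.sum_comm]
        refine Finset.sum_congr rfl fun k _ => ?_
        rw [Finset.sum_comm]
        refine Finset.sum_congr rfl fun j _ => ?_
        rw [Finset.sum_mul, Finset.sum_mul]
      rw [e2, Finset.sum_comm (f := fun j k => T j k * conj (β j ρ') * β k ρ),
        ← Finset.sum_sub_distrib]
      refine Finset.sum_congr rfl fun k _ => ?_
      rw [Finset.sum_mul, ← Finset.sum_sub_distrib]
      refine Finset.sum_congr rfl fun j _ => ?_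
      ring
    rw [e1, this, sub_self]
  intro j k
  have h2 : ∀ j, conj ((∑ i, c i j * c i k) - T j k) = 0 := by
    apply hind
    intro ρ' hρ'
    have := h1 ρ' hρ' k
    have e : ∑ j, conj ((∑ i, c i j * c i k) - T j k) * β j ρ' =
        conj (∑ j, ((∑ i, c i j * c i k) - T j k) * conj (β j ρ')) := by
      rw [map_sum]
      refine Finset.sum_congr rfl fun j _ => ?_
      rw [map_mul, Complex.conj_conj]
    rw [e, this, map_zero]
  have h3 := h2 j
  rw [map_eq_zero] at h3
  exact sub_eq_zero.1 h3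

end

section

variable {ι : Type*} [Fintype ι]

/-- An integral vector of norm `4` orthogonal to a positive vector has entries in `{-1, 0, 1}`. -/
theorem qb_entry_bound (v d : ι → ℤ) (hd : ∀ i, 0 < d i) (hn : ∑ i, v i * v i = 4)
    (ho : ∑ i, d i * v i = 0) : ∀ i, -1 ≤ v i ∧ v i ≤ 1 := by
  classical
  intro i₀
  by_contra hcon
  have h4 : 4 ≤ v i₀ * v i₀ := by
    rcases not_and_or.1 hcon with h | h
    · push Not at h
      nlinarith
    · push Not at h
      nlinarith
  have hsplit := Finset.add_sum_erase Finset.univ (fun i => v i * v i) (Finset.mem_univ i₀)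
  have hnn : 0 ≤ ∑ i ∈ Finset.univ.erase i₀, v i * v i :=
    Finset.sum_nonneg fun i _ => mul_self_nonneg _
  have hz : ∑ i ∈ Finset.univ.erase i₀, v i * v i = 0 := by linarith
  have hzero : ∀ i ∈ Finset.univ.erase i₀, v i = 0 := by
    intro i hi
    have := (Finset.sum_eq_zero_iff_of_nonneg (fun i _ => mul_self_nonneg (v i))).1 hz i hi
    exact mul_self_eq_zero.1 this
  have hsplit2 := Finset.add_sum_erase Finset.univ (fun i => d i * v i) (Finset.mem_univ i₀)
  have hz2 : ∑ i ∈ Finset.univ.erase i₀, d i * v i = 0 := by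
    apply Finset.sum_eq_zero
    intro i hi
    rw [hzero i hi, mul_zero]
  rw [hz2, add_zero, ho] at hsplit2
  have hv0 : v i₀ = 0 := by
    rcases mul_eq_zero.1 hsplit2 with h | h
    · exact absurd h (hd i₀).ne'
    · exact h
  rw [hv0] at h4
  norm_num at h4

/-- The per-row identity. -/
theorem qb_row_identity (x y w : ℤ) (hx : -1 ≤ x ∧ x ≤ 1) (hy : -1 ≤ y ∧ y ≤ 1)
    (hw : -1 ≤ w ∧ w ≤ 1) (hxy : -1 ≤ x - y ∧ x - y ≤ 1) (hxw : -1 ≤ x - w ∧ x - w ≤ 1)
    (hyw : -1 ≤ y - w ∧ y - w ≤ 1) (hnz : x ≠ 0 ∨ y ≠ 0 ∨ w ≠ 0) :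
    x * x + y * y + w * w + (x - y) * (x - y) + (x - w) * (x - w) + (y - w) * (y - w) +
      (x + y + w) % 2 = 4 := by
  obtain ⟨hx1, hx2⟩ := hx
  obtain ⟨hy1, hy2⟩ := hy
  obtain ⟨hw1, hw2⟩ := hw
  interval_cases x <;> interval_cases y <;> interval_cases w <;> simp_all

/-- **The count of seven**. -/
theorem qb_count (x y w a d : ι → ℤ) (hd : ∀ i, 0 < d i)
    (hxx : ∑ i, x i * x i = 4) (hyy : ∑ i, y i * y i = 4) (hww : ∑ i, w i * w i = 4)
    (hxy : ∑ i, x i * y i = 2) (hxw : ∑ i, x i * w i = 2) (hyw : ∑ i, y i * w i = 2)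
    (hdx : ∑ i, d i * x i = 0) (hdy : ∑ i, d i * y i = 0) (hdw : ∑ i, d i * w i = 0)
    (hnz : ∀ i, x i ≠ 0 ∨ y i ≠ 0 ∨ w i ≠ 0)
    (hpar : ∀ i, Even (a i - (x i + y i + w i))) (ha : ∑ i, a i * a i ≤ 4)
    (hodd : ∃ i, Odd (x i + y i + w i)) : Fintype.card ι = 7 := by
  classical
  have bx := qb_entry_bound x d hd hxx hdx
  have by' := qb_entry_bound y d hd hyy hdy
  have bw := qb_entry_bound w d hd hww hdw
  have hsub : ∀ u v : ι → ℤ, ∑ i, u i * u i = 4 → ∑ i, v i * v i = 4 → ∑ i, u i * v i = 2 →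
      ∑ i, d i * u i = 0 → ∑ i, d i * v i = 0 → ∀ i, -1 ≤ u i - v i ∧ u i - v i ≤ 1 := by
    intro u v huu hvv huv hdu hdv
    apply qb_entry_bound (fun i => u i - v i) d hd
    · have : ∀ i, (u i - v i) * (u i - v i) = u i * u i + v i * v i - 2 * (u i * v i) := by
        intro i; ring
      simp only [this]
      rw [Finset.sum_sub_distrib, Finset.sum_add_distrib, ← Finset.mul_sum, huu, hvv, huv]
      norm_num
    · have : ∀ i, d i * (u i - v i) = d i * u i - d i * v i := by
        intro i; ring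
      simp only [this]
      rw [Finset.sum_sub_distrib, hdu, hdv, sub_zero]
  have bxy := hsub x y hxx hyy hxy hdx hdy
  have bxw := hsub x w hxx hww hxw hdx hdw
  have byw := hsub y w hyy hww hyw hdy hdw
  have hrow : ∀ i, x i * x i + y i * y i + w i * w i + (x i - y i) * (x i - y i) +
      (x i - w i) * (x i - w i) + (y i - w i) * (y i - w i) + (x i + y i + w i) % 2 = 4 :=
    fun i => qb_row_identity (x i) (y i) (w i) (bx i) (by' i) (bw i) (bxy i) (bxw i) (byw i) (hnz i)
  have hsum : ∑ i : ι, (x i * x i + y i * y i + w i * w i + (x i - y i) * (x i - y i) +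
      (x i - w i) * (x i - w i) + (y i - w i) * (y i - w i) + (x i + y i + w i) % 2) =
      4 * (Fintype.card ι : ℤ) := by
    rw [Finset.sum_congr rfl (fun i _ => hrow i)]
    simp [mul_comm]
  have hexp : ∑ i : ι, (x i * x i + y i * y i + w i * w i + (x i - y i) * (x i - y i) +
      (x i - w i) * (x i - w i) + (y i - w i) * (y i - w i) + (x i + y i + w i) % 2) =
      24 + ∑ i, (x i + y i + w i) % 2 := by
    have : ∀ i, x i * x i + y i * y i + w i * w i + (x i - y i) * (x i - y i) +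
        (x i - w i) * (x i - w i) + (y i - w i) * (y i - w i) + (x i + y i + w i) % 2 =
        3 * (x i * x i) + 3 * (y i * y i) + 3 * (w i * w i) - 2 * (x i * y i) - 2 * (x i * w i) -
          2 * (y i * w i) + (x i + y i + w i) % 2 := by
      intro i; ring
    simp only [this]
    rw [Finset.sum_add_distrib, Finset.sum_sub_distrib, Finset.sum_sub_distrib,
      Finset.sum_sub_distrib, Finset.sum_add_distrib, Finset.sum_add_distrib,
      ← Finset.mul_sum, ← Finset.mul_sum, ← Finset.mul_sum, ← Finset.mul_sum, ← Finset.mul_sum,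
      ← Finset.mul_sum, hxx, hyy, hww, hxy, hxw, hyw]
    norm_num
  have hle : ∑ i, (x i + y i + w i) % 2 ≤ 4 := by
    refine le_trans (Finset.sum_le_sum fun i _ => ?_) ha
    obtain ⟨k, hk⟩ := hpar i
    have h1 : (x i + y i + w i) % 2 = 0 ∨ (x i + y i + w i) % 2 = 1 := by omega
    rcases h1 with h | h
    · rw [h]; exact mul_self_nonneg _
    · rw [h]
      have hne : a i ≠ 0 := by
        intro h0
        rw [h0] at hk
        omega
      have : 0 < a i * a i := mul_self_pos.2 hne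
      omega
  have hge : 1 ≤ ∑ i, (x i + y i + w i) % 2 := by
    obtain ⟨i₀, hi₀⟩ := hodd
    have h1 : (x i₀ + y i₀ + w i₀) % 2 = 1 := Int.odd_iff.1 hi₀
    calc (1 : ℤ) = (x i₀ + y i₀ + w i₀) % 2 := h1.symm
      _ ≤ ∑ i, (x i + y i + w i) % 2 :=
        Finset.single_le_sum (f := fun i => (x i + y i + w i) % 2)
          (fun i _ => Int.emod_nonneg _ (by norm_num)) (Finset.mem_univ i₀)
  have : 4 * (Fintype.card ι : ℤ) = 24 + ∑ i, (x i + y i + w i) % 2 := by
    rw [← hsum, hexp]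
  omega

end

end Cfsg.Agent.Lib.Helper8
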