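import Mathlib
import Cfsg.Prelude.Def_BlockRank
import Cfsg.Agent.Lib.Helper8.QB13
import Cfsg.Agent.Lib.Helper8.QB7
import Cfsg.Agent.Lib.Helper8.QB8
import Cfsg.Agent.Lib.Helper8.KF4
import Cfsg.Agent.Lib.Helper8.Inf2

/-!
# The columns of the section of an involution with respect to a basic set
-/

set_option autoImplicit false
set_option maxHeartbeats 1600000

namespace Cfsg.Agent.Lib.Helper8

open Cfsg
open scoped ComplexConjugate
open Cfsg.Agent.Lib.Helper1 Cfsg.Agent.Lib.Helper4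

universe u

section

variable {A : Type*} [Fintype A] [DecidableEq A]

theorem sum_eq_four (t a b c : A) (hta : t ≠ a) (htb : t ≠ b) (htc : t ≠ c) (hab : a ≠ b)
    (hac : a ≠ c) (hbc : b ≠ c) (F : A → ℂ)
    (hF : ∀ χ, χ ≠ t → χ ≠ a → χ ≠ b → χ ≠ c → F χ = 0) :
    ∑ χ, F χ = F t + F a + F b + F c := by
  rw [← Finset.sum_subset (Finset.subset_univ ({t, a, b, c} : Finset A))]
  · rw [Finset.sum_insert, Finset.sum_insert, Finset.sum_insert, Finset.sum_singleton]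
    · ring
    · simp [hbc]
    · simp [hab, hac]
    · simp [hta, htb, htc]
  · intro χ _ hχ
    simp only [Finset.mem_insert, Finset.mem_singleton, not_or] at hχ
    exact hF χ hχ.1 hχ.2.1 hχ.2.2.1 hχ.2.2.2

end

section

variable {G : Type u} [Group G] [Fintype G] {M : Ideal AlgInt} {z : G}

set_option quotPrecheck false in
local notation "Cz" => Subgroup.centralizer ({z} : Set G)
set_option quotPrecheck false in
local notation "Cb" => Subgroup.centralizer ({z} : Set G) ⧸ qbZ z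

/-- **The columns of the section of `z`**. -/
theorem qb_columns [Fintype (IrrCharacter G)] [Fintype ↥(principalBlock M G)]
    (hM : IsPModular 2 M) (hz : orderOf z = 2)
    [Fintype Cz] [Fintype (IrrCharacter Cz)] [Fintype (IrrCharacter Cb)]
    (ζ₂ ζ₃ ζ₄ : IrrCharacter Cb) (ε : ℤ) (hε : ε = 1 ∨ ε = -1)
    (h12 : trivIrr Cb ≠ ζ₂) (h13 : trivIrr Cb ≠ ζ₃) (h14 : trivIrr Cb ≠ ζ₄)
    (h23 : ζ₂ ≠ ζ₃) (h24 : ζ₂ ≠ ζ₄) (h34 : ζ₃ ≠ ζ₄)
    (hB : principalBlock M Cb = {χ : IrrCharacter Cb | (χ : Cb → ℂ) = (fun _ => 1) ∨ χ = ζ₂ ∨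
      χ = ζ₃ ∨ χ = ζ₄})
    (hrel : ∀ y : Cb, Odd (orderOf y) → 1 + (ζ₂ : Cb → ℂ) y + (ε : ℂ) * (ζ₃ : Cb → ℂ) y -
      (ζ₄ : Cb → ℂ) y = 0)
    (hrank : blockRank 2 (principalBlock M Cb) = 3) :
    ∃ x y w : ↥(principalBlock M G) → ℤ,
      (∀ (i : ↥(principalBlock M G)) (ρ : Cz), ¬ 2 ∣ orderOf ρ →
        ((i : IrrCharacter G) : G → ℂ) (z * (ρ : G)) = (x i : ℂ) +
          (y i : ℂ) * (ζ₂ : Cb → ℂ) (QuotientGroup.mk ρ) +
          (w i : ℂ) * ((ε : ℂ) * (ζ₃ : Cb → ℂ) (QuotientGroup.mk ρ))) ∧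
      (∑ i, x i * x i = 4 ∧ ∑ i, y i * y i = 4 ∧ ∑ i, w i * w i = 4 ∧
        ∑ i, x i * y i = 2 ∧ ∑ i, x i * w i = 2 ∧ ∑ i, y i * w i = 2) ∧
      (∀ f : ↥(principalBlock M G) → ℂ,
        (∀ ρ : Cz, ¬ 2 ∣ orderOf ρ →
          ∑ i : ↥(principalBlock M G), f i * ((i : IrrCharacter G) : G → ℂ) (z * (ρ : G)) = 0) →
        ∑ i, f i * (x i : ℂ) = 0 ∧ ∑ i, f i * (y i : ℂ) = 0 ∧ ∑ i, f i * (w i : ℂ) = 0) ∧
      (∀ (i : ↥(principalBlock M G)) (x' y' w' : ℂ), (∀ ρ : Cz, ¬ 2 ∣ orderOf ρ →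
        ((i : IrrCharacter G) : G → ℂ) (z * (ρ : G)) = x' +
          y' * (ζ₂ : Cb → ℂ) (QuotientGroup.mk ρ) +
          w' * ((ε : ℂ) * (ζ₃ : Cb → ℂ) (QuotientGroup.mk ρ))) →
        (x i : ℂ) = x' ∧ (y i : ℂ) = y' ∧ (w i : ℂ) = w') := by
  classical
  haveI : Fact (Nat.Prime 2) := ⟨Nat.prime_two⟩
  have hzz : z * z = 1 := by
    have := pow_orderOf_eq_one z
    rw [hz, pow_two] at this
    exact this
  have hz1 : z ≠ 1 := by
    rintro rfl
    rw [orderOf_one] at hz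
    omega
  have hzp : ∃ k : ℕ, orderOf z = 2 ^ k := ⟨1, by rw [hz, pow_one]⟩
  have hzc1 : qbZel z ≠ 1 := by
    intro h
    apply hz1
    have := congrArg Subtype.val h
    exact this
  have hind0 := qb_basic_independent ζ₂ ζ₃ ζ₄ ε hε hB hrel hrank
  let β : Fin 3 → Cz → ℂ := ![fun _ => 1, fun ρ => (ζ₂ : Cb → ℂ) (QuotientGroup.mk ρ),
    fun ρ => (ε : ℂ) * (ζ₃ : Cb → ℂ) (QuotientGroup.mk ρ)]
  let R : Set Cz := {ρ | ¬ 2 ∣ orderOf ρ}
  have hβ : ∀ (a : Fin 3 → ℂ) (ρ : Cz), ∑ j, a j * β j ρ =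
      a 0 + a 1 * (ζ₂ : Cb → ℂ) (QuotientGroup.mk ρ) +
        a 2 * ((ε : ℂ) * (ζ₃ : Cb → ℂ) (QuotientGroup.mk ρ)) := by
    intro a ρ
    rw [Fin.sum_univ_three]
    simp [β]
  have hind : ∀ a : Fin 3 → ℂ, (∀ ρ ∈ R, ∑ j, a j * β j ρ = 0) → ∀ j, a j = 0 := by
    intro a ha
    apply hind0 a
    intro q hq
    obtain ⟨ρ, rfl, hρ⟩ := exists_regular_lift (qbZ z) q hq
    rw [← hβ a ρ]
    exact ha ρ hρ
  choose m hmsupp hmexp using fun i : ↥(principalBlock M G) =>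
    qb_section_expansion hM hz i.1 i.2
  have hBmem : ∀ χ : IrrCharacter Cb, χ ∈ principalBlock M Cb ↔
      χ = trivIrr Cb ∨ χ = ζ₂ ∨ χ = ζ₃ ∨ χ = ζ₄ := by
    intro χ
    rw [hB, Set.mem_setOf_eq, eq_trivIrr_iff]
  have hodd_mk : ∀ ρ : Cz, ¬ 2 ∣ orderOf ρ → Odd (orderOf (QuotientGroup.mk ρ : Cb)) := by
    intro ρ hρ
    have h1 : orderOf (QuotientGroup.mk ρ : Cb) ∣ orderOf ρ := by
      apply orderOf_dvd_of_pow_eq_one
      rw [← QuotientGroup.mk_pow, pow_orderOf_eq_one]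
      rfl
    rw [← Nat.not_even_iff_odd, even_iff_two_dvd]
    exact fun h2 => hρ (h2.trans h1)
  have h4 : ∀ ρ : Cz, ¬ 2 ∣ orderOf ρ → (ζ₄ : Cb → ℂ) (QuotientGroup.mk ρ) =
      1 + (ζ₂ : Cb → ℂ) (QuotientGroup.mk ρ) + (ε : ℂ) * (ζ₃ : Cb → ℂ) (QuotientGroup.mk ρ) := by
    intro ρ hρ
    have := hrel _ (hodd_mk ρ hρ)
    linear_combination -this
  have hεsq : (ε : ℂ) * ε = 1 := by
    rcases hε with h | h <;> rw [h] <;> norm_num
  let x : ↥(principalBlock M G) → ℤ := fun i => m i (trivIrr Cb) + m i ζ₄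
  let y : ↥(principalBlock M G) → ℤ := fun i => m i ζ₂ + m i ζ₄
  let w : ↥(principalBlock M G) → ℤ := fun i => ε * m i ζ₃ + m i ζ₄
  have hexp : ∀ (i : ↥(principalBlock M G)) (ρ : Cz), ¬ 2 ∣ orderOf ρ →
      ((i : IrrCharacter G) : G → ℂ) (z * (ρ : G)) = (x i : ℂ) +
        (y i : ℂ) * (ζ₂ : Cb → ℂ) (QuotientGroup.mk ρ) +
        (w i : ℂ) * ((ε : ℂ) * (ζ₃ : Cb → ℂ) (QuotientGroup.mk ρ)) := by
    intro i ρ hρ
    rw [hmexp i ρ hρ]
    rw [sum_eq_four (trivIrr Cb) ζ₂ ζ₃ ζ₄ h12 h13 h14 h23 h24 h34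
      (fun ζ => (m i ζ : ℂ) * (ζ : Cb → ℂ) (QuotientGroup.mk ρ)) ?_]
    · simp only [trivIrr_apply, h4 ρ hρ, x, y, w]
      push_cast
      linear_combination (-(m i ζ₃ : ℂ) * (ζ₃ : Cb → ℂ) (QuotientGroup.mk ρ)) * hεsq
    · intro ζ h1 h2 h3 h4'
      have : m i ζ = 0 := by
        by_contra hne
        have := (hBmem ζ).1 (hmsupp i ζ hne)
        tauto
      simp only [this, Int.cast_zero, zero_mul]
  have hone : ∀ ζ : IrrCharacter Cb, ζ ∈ principalBlock M Cb →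
      (by classical exact if ζ ∈ principalBlock M Cb then (1 : ℂ) else 0) = (1 : ℂ) := by
    intro ζ h
    simp only [h, if_true]
  have hzero : ∀ ζ : IrrCharacter Cb, ζ ∉ principalBlock M Cb →
      (by classical exact if ζ ∈ principalBlock M Cb then (1 : ℂ) else 0) = (0 : ℂ) := by
    intro ζ h
    simp only [h, if_false]
  have hgramC : ∀ ρ ρ' : Cz, ¬ 2 ∣ orderOf ρ → ¬ 2 ∣ orderOf ρ' →
      ∑ i : ↥(principalBlock M G), conj (((i : IrrCharacter G) : G → ℂ) (z * (ρ' : G))) *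
        ((i : IrrCharacter G) : G → ℂ) (z * (ρ : G)) =
      2 * (1 + conj ((ζ₂ : Cb → ℂ) (QuotientGroup.mk ρ')) * (ζ₂ : Cb → ℂ) (QuotientGroup.mk ρ) +
        conj ((ζ₃ : Cb → ℂ) (QuotientGroup.mk ρ')) * (ζ₃ : Cb → ℂ) (QuotientGroup.mk ρ) +
        conj ((ζ₄ : Cb → ℂ) (QuotientGroup.mk ρ')) * (ζ₄ : Cb → ℂ) (QuotientGroup.mk ρ)) := by
    intro ρ ρ' hρ hρ'
    rw [← sum_indicator_eq_sum_subtype (principalBlock M G)
      (fun χ => conj ((χ : G → ℂ) (z * (ρ' : G))) * (χ : G → ℂ) (z * (ρ : G)))]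
    rw [sum_principal_section' hM z hzp hρ hρ']
    rw [qb_central_gram hM (qbZel_mem_center z) (qbZel_mul_self hzz) hzc1 (qbZ z)
      (mem_qbZ_iff hzz) hρ hρ']
    congr 1
    rw [sum_eq_four (trivIrr Cb) ζ₂ ζ₃ ζ₄ h12 h13 h14 h23 h24 h34 _ ?_]
    · rw [hone _ ((hBmem _).2 (Or.inl rfl)), hone _ ((hBmem _).2 (Or.inr (Or.inl rfl))),
        hone _ ((hBmem _).2 (Or.inr (Or.inr (Or.inl rfl)))),
        hone _ ((hBmem _).2 (Or.inr (Or.inr (Or.inr rfl))))]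
      simp only [trivIrr_apply, map_one, one_mul]
    · intro ζ h1 h2 h3 h4'
      rw [hzero ζ, zero_mul]
      intro hmem
      have := (hBmem ζ).1 hmem
      tauto
  let c : ↥(principalBlock M G) → Fin 3 → ℂ := fun i => ![(x i : ℂ), (y i : ℂ), (w i : ℂ)]
  have hc : ∀ i j, conj (c i j) = c i j := by
    intro i j
    fin_cases j <;> simp [c]
  have hcβ : ∀ (i : ↥(principalBlock M G)) (ρ : Cz), ∑ j, c i j * β j ρ = (x i : ℂ) +
        (y i : ℂ) * (ζ₂ : Cb → ℂ) (QuotientGroup.mk ρ) +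
        (w i : ℂ) * ((ε : ℂ) * (ζ₃ : Cb → ℂ) (QuotientGroup.mk ρ)) := by
    intro i ρ
    rw [hβ (c i) ρ]
    simp [c]
  let T : Fin 3 → Fin 3 → ℂ := fun j k => if j = k then 4 else 2
  have hgram := qb_gram_extract R β hind c hc T (by
    intro ρ hρ ρ' hρ'
    have e1 : ∀ i : ↥(principalBlock M G), conj (∑ j, c i j * β j ρ') * (∑ k, c i k * β k ρ) =
        conj (((i : IrrCharacter G) : G → ℂ) (z * (ρ' : G))) *
          ((i : IrrCharacter G) : G → ℂ) (z * (ρ : G)) := by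
      intro i
      rw [hcβ, hcβ, ← hexp i ρ hρ, ← hexp i ρ' hρ']
    rw [Finset.sum_congr rfl (fun i _ => e1 i), hgramC ρ ρ' hρ hρ', h4 ρ hρ, h4 ρ' hρ']
    simp only [Fin.sum_univ_three, T, β]
    simp
    linear_combination (-2 * conj ((ζ₃ : Cb → ℂ) (QuotientGroup.mk ρ')) *
      (ζ₃ : Cb → ℂ) (QuotientGroup.mk ρ)) * hεsq)
  refine ⟨x, y, w, hexp, ⟨?_, ?_, ?_, ?_, ?_, ?_⟩, ?_, ?_⟩
  · have := hgram 0 0
    simp [c, T] at this
    exact_mod_cast this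
  · have := hgram 1 1
    simp [c, T] at this
    exact_mod_cast this
  · have := hgram 2 2
    simp [c, T] at this
    exact_mod_cast this
  · have := hgram 0 1
    simp [c, T] at this
    exact_mod_cast this
  · have := hgram 0 2
    simp [c, T] at this
    exact_mod_cast this
  · have := hgram 1 2
    simp [c, T] at this
    exact_mod_cast this
  · intro f hf
    have key := qb_orth_extract R β hind c f (by
      intro ρ hρ
      have e1 : ∀ i : ↥(principalBlock M G), f i * ∑ j, c i j * β j ρ =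
          f i * ((i : IrrCharacter G) : G → ℂ) (z * (ρ : G)) := by
        intro i
        rw [hcβ, ← hexp i ρ hρ]
      rw [Finset.sum_congr rfl (fun i _ => e1 i)]
      exact hf ρ hρ)
    refine ⟨?_, ?_, ?_⟩
    · have := key 0
      simpa [c] using this
    · have := key 1
      simpa [c] using this
    · have := key 2
      simpa [c] using this
  · intro i x' y' w' hi
    have key := hind (![(x i : ℂ) - x', (y i : ℂ) - y', (w i : ℂ) - w']) (by
      intro ρ hρ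
      rw [hβ]
      simp only [Matrix.cons_val_zero, Matrix.cons_val_one, Matrix.cons_val_two, Matrix.head_cons,
        Matrix.tail_cons]
      have h1 := hexp i ρ hρ
      have h2 := hi ρ hρ
      linear_combination h2 - h1)
    refine ⟨?_, ?_, ?_⟩
    · have := key 0
      simp only [Matrix.cons_val_zero] at this
      exact sub_eq_zero.1 this
    · have := key 1
      simp only [Matrix.cons_val_one, Matrix.head_cons] at this
      exact sub_eq_zero.1 this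
    · have := key 2
      simp only [Matrix.cons_val_two, Matrix.head_cons, Matrix.tail_cons] at this
      exact sub_eq_zero.1 this

end

end Cfsg.Agent.Lib.Helper8
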