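import Mathlib
import Cfsg.Agent.Lib.Helper8.QB14
import Cfsg.Agent.Lib.Helper8.QB10
import Cfsg.Agent.Lib.Helper8.KF5
import Cfsg.Agent.Lib.Helper8.SM7
import Cfsg.Agent.Lib.Helper8.BA1
import Cfsg.Agent.Lib.Helper8.Deflation

/-!
# The principal `2`-block of a group with quaternion Sylow `2`-subgroups of order `8`: the data
-/

set_option autoImplicit false
set_option maxHeartbeats 1600000

namespace Cfsg.Agent.Lib.Helper8

open Cfsg
open scoped ComplexConjugate
open Cfsg.Agent.Lib.Helper2.QuatSylow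
open Cfsg.Agent.Lib.Helper1 Cfsg.Agent.Lib.Helper4

universe u

section

variable {G : Type u} [Group G] [Fintype G] {M : Ideal AlgInt} {p : ℕ} [Fact p.Prime]

/-- Block orthogonality for the principal block, as a sum over the subtype. -/
theorem prin_orth_subtype [Fintype (IrrCharacter G)] [Fintype ↥(principalBlock M G)]
    (hM : IsPModular p M) {g h x y : G}
    (hgx : IsPPart p g x) (hhy : IsPPart p h y) (hxy : ¬ IsConj x y) :
    ∑ i : ↥(principalBlock M G), ((i : IrrCharacter G) : G → ℂ) g *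
      conj (((i : IrrCharacter G) : G → ℂ) h) = 0 := by
  classical
  have key := block_orthogonality hM (isPBlock_principalBlock (M := M) (G := G)) hgx hhy hxy
  rw [finsum_mem_eq_sum_indicator, sum_indicator_eq_sum_subtype] at key
  rw [← key]
  refine Finset.sum_congr rfl fun i _ => ?_
  rw [isCharacter_inv (isCharacter_of_irr i.1.2)]

end

section

variable {G : Type u} [Group G] [Fintype G] {M : Ideal AlgInt} {α β : G}

/-- **The data of the principal block**. -/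
theorem q8_block_data [Fintype (IrrCharacter G)] [Fintype ↥(principalBlock M G)]
    (hM : IsPModular 2 M) (S : Sylow 2 G) (e : (S : Subgroup G) ≃* QuaternionGroup 2)
    (h : QData (S : Subgroup G) 2 α β)
    (hnc : ∀ N : Subgroup G, N.Normal → ¬ Subgroup.IsComplement' N (S : Subgroup G)) :
    ∃ (x y w a cz d : ↥(principalBlock M G) → ℤ) (e₂ e₃ : ℤ) (i₀ : ↥(principalBlock M G)),
      (∀ i : ↥(principalBlock M G), ((i : IrrCharacter G) : G → ℂ) (α ^ 2) = (cz i : ℂ)) ∧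
      (∀ i : ↥(principalBlock M G), ((i : IrrCharacter G) : G → ℂ) 1 = (d i : ℂ)) ∧
      (∀ i, 0 < d i) ∧
      (∀ i : ↥(principalBlock M G), ((i : IrrCharacter G) : G → ℂ) α = (a i : ℂ)) ∧
      (∀ i, cz i = x i + e₂ * y i + e₃ * w i) ∧ Odd e₂ ∧ Odd e₃ ∧
      (∑ i, x i * x i = 4 ∧ ∑ i, y i * y i = 4 ∧ ∑ i, w i * w i = 4 ∧
        ∑ i, x i * y i = 2 ∧ ∑ i, x i * w i = 2 ∧ ∑ i, y i * w i = 2) ∧
      (∑ i, d i * x i = 0 ∧ ∑ i, d i * y i = 0 ∧ ∑ i, d i * w i = 0) ∧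
      (∑ i, a i * x i = 0 ∧ ∑ i, a i * y i = 0 ∧ ∑ i, a i * w i = 0) ∧
      ∑ i, a i * d i = 0 ∧ ∑ i, a i * a i = 4 ∧
      (∀ i, Even (a i - cz i)) ∧ (∀ i, cz i ≠ 0) ∧
      (x i₀ = 1 ∧ y i₀ = 0 ∧ w i₀ = 0 ∧ a i₀ = 1 ∧ d i₀ = 1 ∧ cz i₀ = 1) ∧
      (∀ f : ↥(principalBlock M G) → ℂ,
        (∀ ρ : Subgroup.centralizer ({α ^ 2} : Set G), ¬ 2 ∣ orderOf ρ →
          ∑ i : ↥(principalBlock M G),
            f i * ((i : IrrCharacter G) : G → ℂ) (α ^ 2 * (ρ : G)) = 0) →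
        ∑ i, f i * (x i : ℂ) = 0 ∧ ∑ i, f i * (y i : ℂ) = 0 ∧ ∑ i, f i * (w i : ℂ) = 0) := by
  classical
  haveI : Fact (Nat.Prime 2) := ⟨Nat.prime_two⟩
  have hp2 : (2 : ℕ).Prime := Nat.prime_two
  have hMp := isPModular_isPrime hM
  haveI : Fintype (Subgroup.centralizer ({α ^ 2} : Set G)) := Fintype.ofFinite _
  haveI : Fintype (IrrCharacter (Subgroup.centralizer ({α ^ 2} : Set G))) := Fintype.ofFinite _
  haveI : Fintype (IrrCharacter (Subgroup.centralizer ({α ^ 2} : Set G) ⧸ qbZ (α ^ 2))) :=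
    Fintype.ofFinite _
  have hz : orderOf (α ^ 2) = 2 := q8_orderOf_z h
  have hzz : α ^ 2 * α ^ 2 = 1 := q8_z_sq h
  have hz1 : α ^ 2 ≠ 1 := q8_z_ne_one h
  have hzp : ∃ k : ℕ, orderOf (α ^ 2) = 2 ^ k := ⟨1, by rw [hz, pow_one]⟩
  have hαp : ∃ k : ℕ, orderOf α = 2 ^ k := ⟨2, by rw [q8_orderOf_alpha h]; norm_num⟩
  have hone : ∀ s t : Subgroup.centralizer ({α ^ 2} : Set G) ⧸ qbZ (α ^ 2),
      orderOf s = 2 → orderOf t = 2 → IsConj s t :=
    fun s t hs ht => q8_one_class_bar S e h hnc s t hs ht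
  obtain ⟨ζ₂, ζ₃, ζ₄, ε, hε, hζ₂1, hζ₃1, h23, h24, h34, hB, hval, hd2, hd3, hd4, hrel⟩ :=
    kf_main hM (q8SylBar S h) (q8_isK4_bar S h) hone
  have hrank := kf_rank hM (q8SylBar S h) (q8_isK4_bar S h) hone
  have h12 : trivIrr (Subgroup.centralizer ({α ^ 2} : Set G) ⧸ qbZ (α ^ 2)) ≠ ζ₂ := by
    intro hc
    exact hζ₂1 ((eq_trivIrr_iff ζ₂).2 hc.symm)
  have h13 : trivIrr (Subgroup.centralizer ({α ^ 2} : Set G) ⧸ qbZ (α ^ 2)) ≠ ζ₃ := by
    intro hc
    exact hζ₃1 ((eq_trivIrr_iff ζ₃).2 hc.symm)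
  have h14 : trivIrr (Subgroup.centralizer ({α ^ 2} : Set G) ⧸ qbZ (α ^ 2)) ≠ ζ₄ := by
    intro hc
    obtain ⟨t, -, ht2⟩ := (q8_isK4_bar S h).exists_involution
    have h1 := (hval t ht2).2.2
    rw [← hc, trivIrr_apply] at h1
    norm_num at h1
  obtain ⟨x, y, w, hexp, hgram, hGP, huniq⟩ := qb_columns hM hz ζ₂ ζ₃ ζ₄ ε hε h12 h13 h14 h23 h24
    h34 hB hrel hrank
  -- the parts
  have hpartz : ∀ ρ : Subgroup.centralizer ({α ^ 2} : Set G), ¬ 2 ∣ orderOf ρ →
      IsPPart 2 (α ^ 2 * (ρ : G)) (α ^ 2) := by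
    intro ρ hρ
    refine ⟨(ρ : G), rfl, ?_, hzp, ?_⟩
    · exact (Subgroup.mem_centralizer_singleton_iff.1 ρ.2).symm
    · rw [Subgroup.orderOf_coe]
      exact hρ
  have hpart1 : IsPPart 2 (1 : G) 1 := isPPart_self ⟨0, by simp⟩ hp2
  have hpartα : IsPPart 2 α α := isPPart_self hαp hp2
  have hnz1 : ¬ IsConj (α ^ 2) (1 : G) := by
    intro hc
    exact hz1 (isConj_one_left.1 hc)
  have hnzα : ¬ IsConj (α ^ 2) α := by
    intro hc
    obtain ⟨c, hc⟩ := isConj_iff.1 hc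
    have := orderOf_conj' c (α ^ 2)
    rw [hc, hz, q8_orderOf_alpha h] at this
    omega
  have hnα1 : ¬ IsConj α (1 : G) := by
    intro hc
    have := isConj_one_left.1 hc
    have h4 := q8_orderOf_alpha h
    rw [this, orderOf_one] at h4
    omega
  -- degrees
  have hdeg : ∀ i : ↥(principalBlock M G), ((i : IrrCharacter G) : G → ℂ) 1 =
      ((charDegree ((i : IrrCharacter G) : G → ℂ) : ℤ) : ℂ) ∧
      (0 : ℤ) < (charDegree ((i : IrrCharacter G) : G → ℂ) : ℤ) := by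
    intro i
    obtain ⟨h1, h2⟩ := irr_apply_one_eq_charDegree i.1.2
    refine ⟨?_, by exact_mod_cast h2⟩
    rw [h1]
    norm_cast
  -- values at α
  have hreal : ∀ i : ↥(principalBlock M G), ((i : IrrCharacter G) : G → ℂ) α⁻¹ =
      ((i : IrrCharacter G) : G → ℂ) α := by
    intro i
    rw [← h.conj]
    exact isClassFunction_of_isCharacter (isCharacter_of_irr i.1.2) α β
  choose a cz ha hcz hpar using fun i : ↥(principalBlock M G) =>
    char_fourth_root_values (isCharacter_of_irr i.1.2) (q8_alpha_pow_four h) (hreal i)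
  have hcz' : ∀ i : ↥(principalBlock M G), ((i : IrrCharacter G) : G → ℂ) (α ^ 2) = (cz i : ℂ) := by
    intro i
    rw [pow_two]
    exact hcz i
  -- the degrees of ζ₂, ζ₃
  obtain ⟨hζ₂d, -⟩ := irr_apply_one_eq_charDegree ζ₂.2
  obtain ⟨hζ₃d, -⟩ := irr_apply_one_eq_charDegree ζ₃.2
  set e₂ : ℤ := (charDegree (ζ₂ : Subgroup.centralizer ({α ^ 2} : Set G) ⧸ qbZ (α ^ 2) → ℂ) : ℤ)
    with he₂
  set e₃ : ℤ := ε * (charDegree (ζ₃ : Subgroup.centralizer ({α ^ 2} : Set G) ⧸ qbZ (α ^ 2) → ℂ) : ℤ)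
    with he₃
  have hodd2 : Odd e₂ := by
    obtain ⟨k, hk⟩ := hd2
    exact ⟨2 * k, by linarith⟩
  have hodd3 : Odd e₃ := by
    obtain ⟨k, hk⟩ := hd3
    rcases hε with h1 | h1
    · refine ⟨2 * k, ?_⟩
      rw [he₃, h1]
      rw [h1] at hk
      linarith
    · refine ⟨-2 * k, ?_⟩
      rw [he₃, h1]
      rw [h1] at hk
      linarith
  have h1reg : ¬ 2 ∣ orderOf (1 : Subgroup.centralizer ({α ^ 2} : Set G)) := by
    rw [orderOf_one]
    norm_num
  have hczexp : ∀ i, cz i = x i + e₂ * y i + e₃ * w i := by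
    intro i
    have h1 := hexp i 1 h1reg
    rw [OneMemClass.coe_one, mul_one, hcz' i, QuotientGroup.mk_one, hζ₂d, hζ₃d] at h1
    have h2 : (cz i : ℂ) = ((x i + e₂ * y i + e₃ * w i : ℤ) : ℂ) := by
      rw [h1, he₂, he₃]
      push_cast
      ring
    exact_mod_cast h2
  -- the trivial character
  set i₀ : ↥(principalBlock M G) := ⟨trivIrr G, trivIrr_mem_principalBlock hMp.ne_top⟩ with hi₀
  have hi₀v : ∀ g : G, ((i₀ : IrrCharacter G) : G → ℂ) g = 1 := fun g => trivIrr_apply g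
  obtain ⟨hx0, hy0, hw0⟩ := huniq i₀ 1 0 0 (by
    intro ρ hρ
    rw [hi₀v]
    ring)
  have hx0' : x i₀ = 1 := by exact_mod_cast hx0
  have hy0' : y i₀ = 0 := by exact_mod_cast hy0
  have hw0' : w i₀ = 0 := by exact_mod_cast hw0
  have ha0 : a i₀ = 1 := by
    have := ha i₀
    rw [hi₀v] at this
    exact_mod_cast this.symm
  have hd0 : (charDegree ((i₀ : IrrCharacter G) : G → ℂ) : ℤ) = 1 := by
    have := (hdeg i₀).1
    rw [hi₀v] at this
    exact_mod_cast this.symm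
  have hcz0 : cz i₀ = 1 := by
    have := hcz' i₀
    rw [hi₀v] at this
    exact_mod_cast this.symm
  -- orthogonality with the degrees
  have hdorth := hGP (fun i => ((charDegree ((i : IrrCharacter G) : G → ℂ) : ℤ) : ℂ)) (by
    intro ρ hρ
    have key := prin_orth_subtype hM (hpartz ρ hρ) hpart1 hnz1
    rw [← key]
    refine Finset.sum_congr rfl fun i _ => ?_
    rw [(hdeg i).1]
    simp only [map_intCast]
    ring)
  have haorth := hGP (fun i => (a i : ℂ)) (by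
    intro ρ hρ
    have key := prin_orth_subtype hM (hpartz ρ hρ) hpartα hnzα
    rw [← key]
    refine Finset.sum_congr rfl fun i _ => ?_
    rw [ha i]
    simp only [map_intCast]
    ring)
  have had : ∑ i : ↥(principalBlock M G), a i * (charDegree ((i : IrrCharacter G) : G → ℂ) : ℤ)
      = 0 := by
    have key := prin_orth_subtype hM hpartα hpart1 hnα1
    have : ((∑ i : ↥(principalBlock M G),
        a i * (charDegree ((i : IrrCharacter G) : G → ℂ) : ℤ) : ℤ) : ℂ) = 0 := by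
      rw [← key]
      push_cast
      refine Finset.sum_congr rfl fun i _ => ?_
      rw [ha i, (hdeg i).1]
      simp only [Int.cast_natCast, map_natCast]
    exact_mod_cast this
  have haa : ∑ i : ↥(principalBlock M G), a i * a i = 4 := by
    have key := q8_sum_alpha hM S e h
    rw [sum_indicator_eq_sum_subtype (principalBlock M G)
      (fun ζ => conj ((ζ : G → ℂ) α) * (ζ : G → ℂ) α)] at key
    have : ((∑ i : ↥(principalBlock M G), a i * a i : ℤ) : ℂ) = 4 := by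
      rw [← key]
      push_cast
      refine Finset.sum_congr rfl fun i _ => ?_
      rw [ha i]
      simp only [map_intCast]
    exact_mod_cast this
  -- nonvanishing
  have hindex : ¬ 2 ∣ (Subgroup.centralizer ({α ^ 2} : Set G)).index := by
    intro hdvd
    have h1 : (Subgroup.centralizer ({α ^ 2} : Set G)).index ∣ (S : Subgroup G).index :=
      Subgroup.index_dvd_of_le (q8_le_centralizer h)
    exact S.not_dvd_index (hdvd.trans h1)
  have hnz : ∀ i, cz i ≠ 0 := by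
    intro i hc
    have := principal_ne_zero_of_index hM i.1 i.2 hindex
    apply this
    rw [hcz' i, hc]
    simp
  refine ⟨x, y, w, a, cz, fun i => (charDegree ((i : IrrCharacter G) : G → ℂ) : ℤ), e₂, e₃, i₀,
    hcz', fun i => (hdeg i).1, fun i => (hdeg i).2, ha, hczexp, hodd2, hodd3, hgram,
    ⟨?_, ?_, ?_⟩, ⟨?_, ?_, ?_⟩, had, haa, hpar, hnz, ⟨hx0', hy0', hw0', ha0, hd0, hcz0⟩, hGP⟩
  · exact_mod_cast hdorth.1
  · exact_mod_cast hdorth.2.1
  · exact_mod_cast hdorth.2.2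
  · exact_mod_cast haorth.1
  · exact_mod_cast haorth.2.1
  · exact_mod_cast haorth.2.2

end

end Cfsg.Agent.Lib.Helper8
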