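import Mathlib
import Cfsg.Agent.S0016

/-!
# Groups without Klein four-subgroups: the Sylow `2`-subgroups are cyclic or generalized quaternion
-/

set_option autoImplicit false
set_option maxHeartbeats 800000

namespace Cfsg.Agent.Lib.Helper8

universe u

section

variable {G : Type u} [Group G]

/-- The four-group generated by two commuting involutions. -/
def k4Sub (s t : G) (hs : s * s = 1) (ht : t * t = 1) (hst : s * t = t * s) : Subgroup G where
  carrier := {g | g = 1 ∨ g = s ∨ g = t ∨ g = s * t}
  one_mem' := Or.inl rfl
  mul_mem' := by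
    have e1 : s * (s * t) = t := by rw [← mul_assoc, hs, one_mul]
    have e2 : t * (s * t) = s := by rw [← mul_assoc, ← hst, mul_assoc, ht, mul_one]
    have e3 : s * t * s = t := by rw [hst, mul_assoc, hs, mul_one]
    have e4 : s * t * t = s := by rw [mul_assoc, ht, mul_one]
    have e5 : s * t * (s * t) = 1 := by rw [← mul_assoc, e3, ht]
    rintro a b (rfl | rfl | rfl | rfl) (rfl | rfl | rfl | rfl)
    · left; rw [one_mul]
    · right; left; rw [one_mul]
    · right; right; left; rw [one_mul]
    · right; right; right; rw [one_mul]
    · right; left; rw [mul_one]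
    · left; exact hs
    · right; right; right; rfl
    · right; right; left; exact e1
    · right; right; left; rw [mul_one]
    · right; right; right; exact hst.symm
    · left; exact ht
    · right; left; exact e2
    · right; right; right; rw [mul_one]
    · right; right; left; exact e3
    · right; left; exact e4
    · left; exact e5
  inv_mem' := by
    have e3 : s * t * s = t := by rw [hst, mul_assoc, hs, mul_one]
    have e5 : s * t * (s * t) = 1 := by rw [← mul_assoc, e3, ht]
    rintro a (rfl | rfl | rfl | rfl)
    · left; exact inv_one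
    · right; left; exact inv_eq_of_mul_eq_one_right hs
    · right; right; left; exact inv_eq_of_mul_eq_one_right ht
    · right; right; right; exact inv_eq_of_mul_eq_one_right e5

theorem mem_k4Sub {s t : G} (hs : s * s = 1) (ht : t * t = 1) (hst : s * t = t * s) (g : G) :
    g ∈ k4Sub s t hs ht hst ↔ g = 1 ∨ g = s ∨ g = t ∨ g = s * t := Iff.rfl

theorem isKleinFour_k4Sub {s t : G} (hs : s * s = 1) (ht : t * t = 1) (hst : s * t = t * s)
    (hs1 : s ≠ 1) (ht1 : t ≠ 1) (hne : s ≠ t) : IsKleinFour (k4Sub s t hs ht hst) := by
  classical
  have hst1 : s * t ≠ 1 := by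
    intro h
    apply hne
    have : s = t⁻¹ := eq_inv_of_mul_eq_one_left h
    rw [this]
    exact inv_eq_of_mul_eq_one_right ht
  have hsst : s ≠ s * t := by
    intro h
    apply ht1
    have := mul_left_cancel (a := s) (b := 1) (c := t) (by rw [mul_one]; exact h)
    exact this.symm
  have htst : t ≠ s * t := by
    intro h
    apply hs1
    have := mul_right_cancel (a := 1) (b := t) (c := s) (by rw [one_mul]; exact h)
    exact this.symm
  constructor
  · have hset : ((k4Sub s t hs ht hst : Subgroup G) : Set G) =
        (({1, s, t, s * t} : Finset G) : Set G) := by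
      ext g
      simp only [SetLike.mem_coe, mem_k4Sub, Finset.coe_insert, Finset.coe_singleton,
        Set.mem_insert_iff, Set.mem_singleton_iff]
    have : Nat.card (k4Sub s t hs ht hst) = Nat.card ((k4Sub s t hs ht hst : Subgroup G) : Set G) :=
      rfl
    rw [this, hset, Nat.card_coe_set_eq, Set.ncard_coe_finset]
    rw [Finset.card_insert_of_notMem, Finset.card_insert_of_notMem,
      Finset.card_insert_of_notMem, Finset.card_singleton]
    · simp only [Finset.mem_singleton]; exact htst
    · simp only [Finset.mem_insert, Finset.mem_singleton, not_or]; exact ⟨hne, hsst⟩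
    · simp only [Finset.mem_insert, Finset.mem_singleton, not_or]
      exact ⟨hs1.symm, ht1.symm, hst1.symm⟩
  · have hsq : ∀ g : k4Sub s t hs ht hst, g ^ 2 = 1 := by
      rintro ⟨g, hg⟩
      apply Subtype.ext
      rw [Subgroup.coe_pow, pow_two, Subgroup.coe_one]
      rcases (mem_k4Sub hs ht hst g).1 hg with rfl | rfl | rfl | rfl
      · rw [one_mul]
      · exact hs
      · exact ht
      · have e3 : s * t * s = t := by rw [hst, mul_assoc, hs, mul_one]
        rw [← mul_assoc, e3, ht]
    have hdvd : Monoid.exponent (k4Sub s t hs ht hst) ∣ 2 :=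
      Monoid.exponent_dvd_of_forall_pow_eq_one hsq
    rcases (Nat.dvd_prime Nat.prime_two).1 hdvd with h1 | h2
    · exfalso
      rw [Monoid.exp_eq_one_iff] at h1
      apply hs1
      have hsm : s ∈ k4Sub s t hs ht hst := (mem_k4Sub hs ht hst s).2 (Or.inr (Or.inl rfl))
      have := h1.elim ⟨s, hsm⟩ 1
      exact congrArg Subtype.val this
    · exact h2

/-- Two distinct commuting involutions give a Klein four-subgroup. -/
theorem exists_kleinFour_of_commuting {s t : G} (hs : s * s = 1) (ht : t * t = 1)
    (hst : s * t = t * s) (hs1 : s ≠ 1) (ht1 : t ≠ 1) (hne : s ≠ t) :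
    ∃ E : Subgroup G, IsKleinFour E :=
  ⟨k4Sub s t hs ht hst, isKleinFour_k4Sub hs ht hst hs1 ht1 hne⟩

end

section

variable {G : Type u} [Group G] [Finite G]

/-- In a group without Klein four-subgroups a Sylow `2`-subgroup is cyclic or generalized
quaternion. -/
theorem sylow_two_cyclic_or_quaternion (hk : ∀ E : Subgroup G, ¬ IsKleinFour E) (P : Sylow 2 G) :
    IsCyclic (P : Subgroup G) ∨
      ∃ n : ℕ, Nonempty ((P : Subgroup G) ≃* QuaternionGroup (2 ^ n)) := by
  classical
  haveI : Fact (Nat.Prime 2) := ⟨Nat.prime_two⟩
  have hP2 : IsPGroup 2 (P : Subgroup G) := P.isPGroup'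
  have key := Cfsg.Agent.S0016.result (G := (P : Subgroup G)) 2 hP2 ?_
  · rcases key with h | ⟨-, h⟩
    · exact Or.inl h
    · exact Or.inr h
  · -- uniqueness of the subgroup of order two
    intro H K hH hK
    haveI : Nontrivial (P : Subgroup G) := by
      have : 1 < Nat.card (P : Subgroup G) := by
        have := Subgroup.card_dvd_of_le (le_top : H ≤ ⊤)
        rw [hH, Subgroup.card_top] at this
        exact lt_of_lt_of_le (by norm_num) (Nat.le_of_dvd Nat.card_pos this)
      exact Finite.one_lt_card_iff_nontrivial.1 this
    haveI := hP2.center_nontrivial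
    have hZ2 : 2 ∣ Nat.card (Subgroup.center (P : Subgroup G)) := by
      have hZ : IsPGroup 2 (Subgroup.center (P : Subgroup G)) := hP2.to_subgroup _
      rcases hZ.card_eq_or_dvd with h | h
      · exfalso
        have := Finite.one_lt_card_iff_nontrivial.2 ‹Nontrivial (Subgroup.center (P : Subgroup G))›
        omega
      · exact h
    obtain ⟨s, hs⟩ := exists_prime_orderOf_dvd_card' 2 hZ2
    have hsc : ∀ u : (P : Subgroup G), (s : (P : Subgroup G)) * u = u * s := fun u =>
      (Subgroup.mem_center_iff.1 s.2 u).symm
    have hs2 : orderOf (s : (P : Subgroup G)) = 2 := by rw [Subgroup.orderOf_coe]; exact hs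
    have hinv : ∀ u : (P : Subgroup G), orderOf u = 2 → u = (s : (P : Subgroup G)) := by
      intro u hu
      by_contra hne
      have huu : (u : G) * (u : G) = 1 := by
        have := pow_orderOf_eq_one u
        rw [hu, pow_two] at this
        exact congrArg Subtype.val this
      have hss : ((s : (P : Subgroup G)) : G) * ((s : (P : Subgroup G)) : G) = 1 := by
        have := pow_orderOf_eq_one (s : (P : Subgroup G))
        rw [hs2, pow_two] at this
        exact congrArg Subtype.val this
      have hu1 : (u : G) ≠ 1 := by
        intro h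
        have : u = 1 := Subtype.ext h
        rw [this, orderOf_one] at hu
        omega
      have hs1 : ((s : (P : Subgroup G)) : G) ≠ 1 := by
        intro h
        have : (s : (P : Subgroup G)) = 1 := Subtype.ext h
        rw [this, orderOf_one] at hs2
        omega
      have hcomm : ((s : (P : Subgroup G)) : G) * (u : G) = (u : G) * ((s : (P : Subgroup G)) : G) :=
        congrArg Subtype.val (hsc u)
      obtain ⟨E, hE⟩ := exists_kleinFour_of_commuting hss huu hcomm hs1 hu1
        (fun h => hne (Subtype.ext h.symm))
      exact hk E hE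
    have hmem : ∀ L : Subgroup (P : Subgroup G), Nat.card L = 2 →
        L = Subgroup.zpowers (s : (P : Subgroup G)) := by
      intro L hL
      obtain ⟨u, hu⟩ := exists_prime_orderOf_dvd_card' (G := L) 2 (by rw [hL])
      have hu' : orderOf (u : (P : Subgroup G)) = 2 := by rw [Subgroup.orderOf_coe]; exact hu
      have hus := hinv _ hu'
      have hle : Subgroup.zpowers (s : (P : Subgroup G)) ≤ L := by
        rw [Subgroup.zpowers_le, ← hus]
        exact u.2
      symm
      apply Subgroup.eq_of_le_of_card_ge hle
      rw [hL, Nat.card_zpowers, hs2]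
    rw [hmem H hH, hmem K hK]

end

end Cfsg.Agent.Lib.Helper8
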