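import Mathlib
import Cfsg.Agent.Lib.Helper8.QB8

/-!
# The seven rows
-/

set_option autoImplicit false
set_option maxHeartbeats 1600000

namespace Cfsg.Agent.Lib.Helper8

def qTx : Fin 7 → ℤ := ![1,0,0,1,1,1,0]
def qTy : Fin 7 → ℤ := ![0,1,0,1,1,0,1]
def qTw : Fin 7 → ℤ := ![0,0,1,1,0,1,1]
def qTp : Fin 7 → ℤ := ![1,1,1,1,0,0,0]

theorem qb_row_class (x y w : ℤ) (hx : -1 ≤ x ∧ x ≤ 1) (hy : -1 ≤ y ∧ y ≤ 1)
    (hw : -1 ≤ w ∧ w ≤ 1) (hxy : -1 ≤ x - y ∧ x - y ≤ 1) (hxw : -1 ≤ x - w ∧ x - w ≤ 1)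
    (hyw : -1 ≤ y - w ∧ y - w ≤ 1) (hnz : x ≠ 0 ∨ y ≠ 0 ∨ w ≠ 0) :
    ∃ k : Fin 7, ∃ s : ℤ, (s = 1 ∨ s = -1) ∧ x = s * qTx k ∧ y = s * qTy k ∧ w = s * qTw k := by
  obtain ⟨hx1, hx2⟩ := hx
  obtain ⟨hy1, hy2⟩ := hy
  obtain ⟨hw1, hw2⟩ := hw
  interval_cases x <;> interval_cases y <;> interval_cases w <;>
    first
    | (exfalso; omega)
    | exact ⟨0, 1, by decide⟩ | exact ⟨0, -1, by decide⟩
    | exact ⟨1, 1, by decide⟩ | exact ⟨1, -1, by decide⟩
    | exact ⟨2, 1, by decide⟩ | exact ⟨2, -1, by decide⟩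
    | exact ⟨3, 1, by decide⟩ | exact ⟨3, -1, by decide⟩
    | exact ⟨4, 1, by decide⟩ | exact ⟨4, -1, by decide⟩
    | exact ⟨5, 1, by decide⟩ | exact ⟨5, -1, by decide⟩
    | exact ⟨6, 1, by decide⟩ | exact ⟨6, -1, by decide⟩

section

variable {ι : Type*} [Fintype ι]

/-- The per-row bounds. -/
theorem qb_bounds (x y w d : ι → ℤ) (hd : ∀ i, 0 < d i)
    (hxx : ∑ i, x i * x i = 4) (hyy : ∑ i, y i * y i = 4) (hww : ∑ i, w i * w i = 4)
    (hxy : ∑ i, x i * y i = 2) (hxw : ∑ i, x i * w i = 2) (hyw : ∑ i, y i * w i = 2)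
    (hdx : ∑ i, d i * x i = 0) (hdy : ∑ i, d i * y i = 0) (hdw : ∑ i, d i * w i = 0) (i : ι) :
    (-1 ≤ x i ∧ x i ≤ 1) ∧ (-1 ≤ y i ∧ y i ≤ 1) ∧ (-1 ≤ w i ∧ w i ≤ 1) ∧
      (-1 ≤ x i - y i ∧ x i - y i ≤ 1) ∧ (-1 ≤ x i - w i ∧ x i - w i ≤ 1) ∧
      (-1 ≤ y i - w i ∧ y i - w i ≤ 1) := by
  classical
  have bx := qb_entry_bound x d hd hxx hdx
  have by' := qb_entry_bound y d hd hyy hdy
  have bw := qb_entry_bound w d hd hww hdw
  have hsub : ∀ u v : ι → ℤ, ∑ i, u i * u i = 4 → ∑ i, v i * v i = 4 → ∑ i, u i * v i = 2 →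
      ∑ i, d i * u i = 0 → ∑ i, d i * v i = 0 → ∀ i, -1 ≤ u i - v i ∧ u i - v i ≤ 1 := by
    intro u v huu hvv huv hdu hdv
    apply qb_entry_bound (fun i => u i - v i) d hd
    · have : ∀ i, (u i - v i) * (u i - v i) = u i * u i + v i * v i - 2 * (u i * v i) := by
        intro i; ring
      simp only [this]
      rw [Finset.sum_sub_distrib, Finset.sum_add_distrib, ← Finset.mul_sum, huu, hvv, huv]
      norm_num
    · have : ∀ i, d i * (u i - v i) = d i * u i - d i * v i := by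
        intro i; ring
      simp only [this]
      rw [Finset.sum_sub_distrib, hdu, hdv, sub_zero]
  exact ⟨bx i, by' i, bw i, hsub x y hxx hyy hxy hdx hdy i, hsub x w hxx hww hxw hdx hdw i,
    hsub y w hyy hww hyw hdy hdw i⟩

/-- **The seven rows**. -/
theorem qb_rows (x y w a d : ι → ℤ) (i₀ : ι) (hd : ∀ i, 0 < d i)
    (hxx : ∑ i, x i * x i = 4) (hyy : ∑ i, y i * y i = 4) (hww : ∑ i, w i * w i = 4)
    (hxy : ∑ i, x i * y i = 2) (hxw : ∑ i, x i * w i = 2) (hyw : ∑ i, y i * w i = 2)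
    (hdx : ∑ i, d i * x i = 0) (hdy : ∑ i, d i * y i = 0) (hdw : ∑ i, d i * w i = 0)
    (hnz : ∀ i, x i ≠ 0 ∨ y i ≠ 0 ∨ w i ≠ 0)
    (hpar : ∀ i, Even (a i - (x i + y i + w i))) (ha : ∑ i, a i * a i ≤ 4)
    (h0 : x i₀ = 1 ∧ y i₀ = 0 ∧ w i₀ = 0) :
    ∃ (r : Fin 7 → ι) (s : Fin 7 → ℤ), Function.Bijective r ∧ (∀ k, s k = 1 ∨ s k = -1) ∧
      (∀ k, x (r k) = s k * qTx k ∧ y (r k) = s k * qTy k ∧ w (r k) = s k * qTw k) ∧
      r 0 = i₀ ∧ s 0 = 1 ∧ (∀ k, a (r k) * a (r k) = qTp k) := by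
  classical
  have hb := qb_bounds x y w d hd hxx hyy hww hxy hxw hyw hdx hdy hdw
  choose ty sg hsg hxr hyr hwr using fun i => qb_row_class (x i) (y i) (w i) (hb i).1 (hb i).2.1
    (hb i).2.2.1 (hb i).2.2.2.1 (hb i).2.2.2.2.1 (hb i).2.2.2.2.2 (hnz i)
  have hsg2 : ∀ i, sg i * sg i = 1 := by
    intro i
    rcases hsg i with h | h <;> rw [h] <;> norm_num
  set n : Fin 7 → ℕ := fun k => (Finset.univ.filter (fun i => ty i = k)).card with hn
  have hfib : ∀ g : Fin 7 → ℤ, ∑ i, g (ty i) = ∑ k, (n k : ℤ) * g k := by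
    intro g
    rw [← Finset.sum_fiberwise' Finset.univ ty g]
    refine Finset.sum_congr rfl fun k _ => ?_
    rw [Finset.sum_const, hn]
    simp
  -- the equations for the counts
  have e1 : ∀ i, x i * x i = qTx (ty i) := by
    intro i
    rw [hxr i]
    have : qTx (ty i) * qTx (ty i) = qTx (ty i) := by
      generalize ty i = k
      fin_cases k <;> decide
    calc sg i * qTx (ty i) * (sg i * qTx (ty i)) = (sg i * sg i) * (qTx (ty i) * qTx (ty i)) := by
          ring
      _ = qTx (ty i) := by rw [hsg2, this, one_mul]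
  have e2 : ∀ i, y i * y i = qTy (ty i) := by
    intro i
    rw [hyr i]
    have : qTy (ty i) * qTy (ty i) = qTy (ty i) := by
      generalize ty i = k
      fin_cases k <;> decide
    calc sg i * qTy (ty i) * (sg i * qTy (ty i)) = (sg i * sg i) * (qTy (ty i) * qTy (ty i)) := by
          ring
      _ = qTy (ty i) := by rw [hsg2, this, one_mul]
  have e3 : ∀ i, w i * w i = qTw (ty i) := by
    intro i
    rw [hwr i]
    have : qTw (ty i) * qTw (ty i) = qTw (ty i) := by
      generalize ty i = k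
      fin_cases k <;> decide
    calc sg i * qTw (ty i) * (sg i * qTw (ty i)) = (sg i * sg i) * (qTw (ty i) * qTw (ty i)) := by
          ring
      _ = qTw (ty i) := by rw [hsg2, this, one_mul]
  have e4 : ∀ i, x i * y i = (fun k => qTx k * qTy k) (ty i) := by
    intro i
    rw [hxr i, hyr i]
    calc sg i * qTx (ty i) * (sg i * qTy (ty i)) = (sg i * sg i) * (qTx (ty i) * qTy (ty i)) := by
          ring
      _ = qTx (ty i) * qTy (ty i) := by rw [hsg2, one_mul]
  have e5 : ∀ i, x i * w i = (fun k => qTx k * qTw k) (ty i) := by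
    intro i
    rw [hxr i, hwr i]
    calc sg i * qTx (ty i) * (sg i * qTw (ty i)) = (sg i * sg i) * (qTx (ty i) * qTw (ty i)) := by
          ring
      _ = qTx (ty i) * qTw (ty i) := by rw [hsg2, one_mul]
  have e6 : ∀ i, y i * w i = (fun k => qTy k * qTw k) (ty i) := by
    intro i
    rw [hyr i, hwr i]
    calc sg i * qTy (ty i) * (sg i * qTw (ty i)) = (sg i * sg i) * (qTy (ty i) * qTw (ty i)) := by
          ring
      _ = qTy (ty i) * qTw (ty i) := by rw [hsg2, one_mul]
  have e7 : ∀ i, qTp (ty i) ≤ a i * a i := by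
    intro i
    have hodd : qTp (ty i) = 1 → Odd (x i + y i + w i) := by
      intro h1
      rw [hxr i, hyr i, hwr i]
      have : Odd (qTx (ty i) + qTy (ty i) + qTw (ty i)) := by
        revert h1
        generalize ty i = k
        fin_cases k <;> decide
      have h2 : sg i * qTx (ty i) + sg i * qTy (ty i) + sg i * qTw (ty i) =
          sg i * (qTx (ty i) + qTy (ty i) + qTw (ty i)) := by ring
      rw [h2]
      apply Odd.mul _ this
      rcases hsg i with h | h <;> rw [h] <;> decide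
    have h01 : qTp (ty i) = 0 ∨ qTp (ty i) = 1 := by
      generalize ty i = k
      fin_cases k <;> decide
    rcases h01 with h | h
    · rw [h]
      exact mul_self_nonneg _
    · rw [h]
      have h1 := hodd h
      have h2 : Odd (a i) := by
        have := (hpar i).add_odd h1
        simpa using this
      have h3 : a i ≠ 0 := by
        rintro h0
        rw [h0] at h2
        exact absurd h2 (by decide)
      have := mul_self_pos.2 h3
      omega
  have q1 := hfib qTx
  have q2 := hfib qTy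
  have q3 := hfib qTw
  have q4 := hfib (fun k => qTx k * qTy k)
  have q5 := hfib (fun k => qTx k * qTw k)
  have q6 := hfib (fun k => qTy k * qTw k)
  have q7 := hfib qTp
  rw [← Finset.sum_congr rfl (fun i _ => e1 i), hxx] at q1
  rw [← Finset.sum_congr rfl (fun i _ => e2 i), hyy] at q2
  rw [← Finset.sum_congr rfl (fun i _ => e3 i), hww] at q3
  rw [← Finset.sum_congr rfl (fun i _ => e4 i), hxy] at q4
  rw [← Finset.sum_congr rfl (fun i _ => e5 i), hxw] at q5
  rw [← Finset.sum_congr rfl (fun i _ => e6 i), hyw] at q6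
  have q7' : ∑ k, (n k : ℤ) * qTp k ≤ 4 := by
    rw [← q7]
    exact le_trans (Finset.sum_le_sum fun i _ => e7 i) ha
  simp only [Fin.sum_univ_seven, qTx, qTy, qTw, qTp] at q1 q2 q3 q4 q5 q6 q7'
  simp at q1 q2 q3 q4 q5 q6 q7'
  -- the trivial row
  have hty0 : ty i₀ = 0 ∧ sg i₀ = 1 := by
    have h1 := hxr i₀
    have h2 := hyr i₀
    have h3 := hwr i₀
    rw [h0.1] at h1
    rw [h0.2.1] at h2
    rw [h0.2.2] at h3
    revert h1 h2 h3
    generalize ty i₀ = k
    rcases hsg i₀ with h | h <;> rw [h] <;> fin_cases k <;> simp [qTx, qTy, qTw]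
  have hn0 : 1 ≤ n 0 := by
    rw [hn]
    apply Finset.card_pos.2
    exact ⟨i₀, Finset.mem_filter.2 ⟨Finset.mem_univ _, hty0.1⟩⟩
  have m0 : n 0 = 1 := by omega
  have m1 : n 1 = 1 := by omega
  have m2 : n 2 = 1 := by omega
  have m3 : n 3 = 1 := by omega
  have m4 : n 4 = 1 := by omega
  have m5 : n 5 = 1 := by omega
  have m6 : n 6 = 1 := by omega
  have hnall : ∀ k, n k = 1 := by
    intro k
    fin_cases k
    · exact m0
    · exact m1
    · exact m2
    · exact m3
    · exact m4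
    · exact m5
    · exact m6
  have hex : ∀ k, ∃ i, Finset.univ.filter (fun i => ty i = k) = {i} := fun k =>
    Finset.card_eq_one.1 (hnall k)
  choose r hr using hex
  have hty : ∀ k, ty (r k) = k := by
    intro k
    have : r k ∈ Finset.univ.filter (fun i => ty i = k) := by
      rw [hr k]
      exact Finset.mem_singleton_self _
    exact (Finset.mem_filter.1 this).2
  have huniq : ∀ i, i = r (ty i) := by
    intro i
    have : i ∈ Finset.univ.filter (fun j => ty j = ty i) :=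
      Finset.mem_filter.2 ⟨Finset.mem_univ _, rfl⟩
    rw [hr (ty i)] at this
    exact Finset.mem_singleton.1 this
  have hbij : Function.Bijective r := by
    constructor
    · intro k k' hkk
      rw [← hty k, ← hty k', hkk]
    · intro i
      exact ⟨ty i, (huniq i).symm⟩
  have hr0 : r 0 = i₀ := by
    have := huniq i₀
    rw [hty0.1] at this
    exact this.symm
  have hrows : ∀ k, x (r k) = sg (r k) * qTx k ∧ y (r k) = sg (r k) * qTy k ∧
      w (r k) = sg (r k) * qTw k := by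
    intro k
    have h1 := hxr (r k)
    have h2 := hyr (r k)
    have h3 := hwr (r k)
    rw [hty k] at h1 h2 h3
    exact ⟨h1, h2, h3⟩
  refine ⟨r, fun k => sg (r k), hbij, fun k => hsg (r k), hrows, hr0, ?_, ?_⟩
  · show sg (r 0) = 1
    rw [hr0]
    exact hty0.2
  · have hsum : ∑ k, a (r k) * a (r k) ≤ 4 := by
      rw [hbij.sum_comp (fun i => a i * a i)]
      exact ha
    have hge : ∀ k, qTp k ≤ a (r k) * a (r k) := by
      intro k
      have := e7 (r k)
      rw [hty k] at this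
      exact this
    have g0 := hge 0
    have g1 := hge 1
    have g2 := hge 2
    have g3 := hge 3
    have g4 := hge 4
    have g5 := hge 5
    have g6 := hge 6
    simp only [Fin.sum_univ_seven] at hsum
    simp [qTp] at g0 g1 g2 g3 g4 g5 g6
    have t0 : a (r 0) * a (r 0) = 1 := by omega
    have t1 : a (r 1) * a (r 1) = 1 := by omega
    have t2 : a (r 2) * a (r 2) = 1 := by omega
    have t3 : a (r 3) * a (r 3) = 1 := by omega
    have t4 : a (r 4) * a (r 4) = 0 := by omega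
    have t5 : a (r 5) * a (r 5) = 0 := by omega
    have t6 : a (r 6) * a (r 6) = 0 := by omega
    intro k
    fin_cases k
    · exact t0
    · exact t1
    · exact t2
    · exact t3
    · exact t4
    · exact t5
    · exact t6

end

end Cfsg.Agent.Lib.Helper8
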