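import Mathlib
import Cfsg.Agent.Lib.Helper8.QB17

/-!
# The values at the involution are plus or minus the degrees
-/

set_option autoImplicit false
set_option maxHeartbeats 1600000

namespace Cfsg.Agent.Lib.Helper8

section

variable {ι : Type*} [Fintype ι]

theorem qb_sq_eq (x y w a cz d : ι → ℤ) (q : ι → ℚ) (e₂ e₃ : ℤ) (i₀ : ι)
    (hd : ∀ i, 0 < d i)
    (hq : ∀ i, q i * (d i : ℚ) = (cz i : ℚ) * (cz i : ℚ))
    (hcz : ∀ i, cz i = x i + e₂ * y i + e₃ * w i) (hodd2 : Odd e₂) (hodd3 : Odd e₃)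
    (hxx : ∑ i, x i * x i = 4) (hyy : ∑ i, y i * y i = 4) (hww : ∑ i, w i * w i = 4)
    (hxy : ∑ i, x i * y i = 2) (hxw : ∑ i, x i * w i = 2) (hyw : ∑ i, y i * w i = 2)
    (hdx : ∑ i, d i * x i = 0) (hdy : ∑ i, d i * y i = 0) (hdw : ∑ i, d i * w i = 0)
    (hax : ∑ i, a i * x i = 0) (hay : ∑ i, a i * y i = 0) (haw : ∑ i, a i * w i = 0)
    (had : ∑ i, a i * d i = 0) (haa : ∑ i, a i * a i = 4)
    (hpar : ∀ i, Even (a i - cz i)) (hnz : ∀ i, cz i ≠ 0)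
    (h0 : x i₀ = 1 ∧ y i₀ = 0 ∧ w i₀ = 0 ∧ a i₀ = 1 ∧ d i₀ = 1 ∧ cz i₀ = 1)
    (hqx : ∑ i, q i * (x i : ℚ) = 0) (hqy : ∑ i, q i * (y i : ℚ) = 0)
    (hqw : ∑ i, q i * (w i : ℚ) = 0) (hqa : ∑ i, q i * (a i : ℚ) = 0) :
    ∀ i, cz i * cz i = d i * d i := by
  classical
  have hnz' : ∀ i, x i ≠ 0 ∨ y i ≠ 0 ∨ w i ≠ 0 := by
    intro i
    by_contra hc
    push_neg at hc
    obtain ⟨h1, h2, h3⟩ := hc
    apply hnz i
    rw [hcz i, h1, h2, h3]
    ring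
  have hpar' : ∀ i, Even (a i - (x i + y i + w i)) := by
    intro i
    obtain ⟨k2, hk2⟩ := hodd2
    obtain ⟨k3, hk3⟩ := hodd3
    obtain ⟨k, hk⟩ := hpar i
    refine ⟨k + k2 * y i + k3 * w i, ?_⟩
    have := hcz i
    rw [hk2, hk3] at this
    linarith
  obtain ⟨r, s, hbij, hs, hrows, hr0, hs0, hap⟩ := qb_rows x y w a d i₀ hd hxx hyy hww hxy hxw hyw
    hdx hdy hdw hnz' hpar' haa.le ⟨h0.1, h0.2.1, h0.2.2.1⟩
  have hss : ∀ k, ((s k : ℤ) : ℚ) * (s k : ℚ) = 1 := by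
    intro k
    rcases hs k with h | h <;> rw [h] <;> norm_num
  -- integer sums over the seven rows
  have Ldx : ∑ k, d (r k) * (s k * qTx k) = 0 := by
    rw [← hdx, ← hbij.sum_comp (fun i => d i * x i)]
    exact Finset.sum_congr rfl (fun k _ => by rw [(hrows k).1])
  have Ldy : ∑ k, d (r k) * (s k * qTy k) = 0 := by
    rw [← hdy, ← hbij.sum_comp (fun i => d i * y i)]
    exact Finset.sum_congr rfl (fun k _ => by rw [(hrows k).2.1])
  have Ldw : ∑ k, d (r k) * (s k * qTw k) = 0 := by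
    rw [← hdw, ← hbij.sum_comp (fun i => d i * w i)]
    exact Finset.sum_congr rfl (fun k _ => by rw [(hrows k).2.2])
  have Lax : ∑ k, a (r k) * (s k * qTx k) = 0 := by
    rw [← hax, ← hbij.sum_comp (fun i => a i * x i)]
    exact Finset.sum_congr rfl (fun k _ => by rw [(hrows k).1])
  have Lay : ∑ k, a (r k) * (s k * qTy k) = 0 := by
    rw [← hay, ← hbij.sum_comp (fun i => a i * y i)]
    exact Finset.sum_congr rfl (fun k _ => by rw [(hrows k).2.1])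
  have Law : ∑ k, a (r k) * (s k * qTw k) = 0 := by
    rw [← haw, ← hbij.sum_comp (fun i => a i * w i)]
    exact Finset.sum_congr rfl (fun k _ => by rw [(hrows k).2.2])
  have Lad : ∑ k, a (r k) * d (r k) = 0 := by
    rw [← had, ← hbij.sum_comp (fun i => a i * d i)]
  have Lqx : ∑ k, q (r k) * ((s k : ℚ) * (qTx k : ℚ)) = 0 := by
    rw [← hqx, ← hbij.sum_comp (fun i => q i * (x i : ℚ))]
    exact Finset.sum_congr rfl (fun k _ => by rw [(hrows k).1]; push_cast; ring)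
  have Lqy : ∑ k, q (r k) * ((s k : ℚ) * (qTy k : ℚ)) = 0 := by
    rw [← hqy, ← hbij.sum_comp (fun i => q i * (y i : ℚ))]
    exact Finset.sum_congr rfl (fun k _ => by rw [(hrows k).2.1]; push_cast; ring)
  have Lqw : ∑ k, q (r k) * ((s k : ℚ) * (qTw k : ℚ)) = 0 := by
    rw [← hqw, ← hbij.sum_comp (fun i => q i * (w i : ℚ))]
    exact Finset.sum_congr rfl (fun k _ => by rw [(hrows k).2.2]; push_cast; ring)
  have Lqa : ∑ k, q (r k) * (a (r k) : ℚ) = 0 := by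
    rw [← hqa, ← hbij.sum_comp (fun i => q i * (a i : ℚ))]
  simp only [Fin.sum_univ_seven, qTx, qTy, qTw] at Ldx Ldy Ldw Lax Lay Law Lad Lqx Lqy Lqw Lqa
  simp at Ldx Ldy Ldw Lax Lay Law Lqx Lqy Lqw
  -- the values of `a`
  have a4 : a (r 4) = 0 := mul_self_eq_zero.1 (hap 4)
  have a5 : a (r 5) = 0 := mul_self_eq_zero.1 (hap 5)
  have a6 : a (r 6) = 0 := mul_self_eq_zero.1 (hap 6)
  have a0 : a (r 0) = 1 := by rw [hr0]; exact h0.2.2.2.1
  have d0 : d (r 0) = 1 := by rw [hr0]; exact h0.2.2.2.2.1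
  have c0 : cz (r 0) = 1 := by rw [hr0]; exact h0.2.2.2.2.2
  have q0 : q (r 0) = 1 := by
    have := hq (r 0)
    rw [d0, c0] at this
    simpa using this
  simp only [a4, a5, a6, a0, hs0, zero_mul, add_zero, one_mul, mul_one] at Lax Lay Law
  have a3 : a (r 3) = - s 3 := by
    have h1 : a (r 3) * s 3 = -1 := by linarith
    rcases hs 3 with h | h <;> rw [h] at h1 ⊢ <;> linarith
  have a1 : a (r 1) = s 1 := by
    have h1 : a (r 1) * s 1 = 1 := by linarith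
    rcases hs 1 with h | h <;> rw [h] at h1 ⊢ <;> linarith
  have a2 : a (r 2) = s 2 := by
    have h1 : a (r 2) * s 2 = 1 := by linarith
    rcases hs 2 with h | h <;> rw [h] at h1 ⊢ <;> linarith
  simp only [a4, a5, a6, a0, a1, a2, a3] at Lad
  simp only [a4, a5, a6, a0, a1, a2, a3, q0] at Lqa
  simp only [hs0, d0] at Ldx
  simp only [hs0, q0] at Lqx
  -- the signed degrees
  set D1 : ℚ := (s 1 : ℚ) * (d (r 1) : ℚ) with hD1
  set D2 : ℚ := (s 2 : ℚ) * (d (r 2) : ℚ) with hD2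
  set D3 : ℚ := (s 3 : ℚ) * (d (r 3) : ℚ) with hD3
  set D4 : ℚ := (s 4 : ℚ) * (d (r 4) : ℚ) with hD4
  set D5 : ℚ := (s 5 : ℚ) * (d (r 5) : ℚ) with hD5
  set D6 : ℚ := (s 6 : ℚ) * (d (r 6) : ℚ) with hD6
  set Q1 : ℚ := (s 1 : ℚ) * q (r 1) with hQ1
  set Q2 : ℚ := (s 2 : ℚ) * q (r 2) with hQ2
  set Q3 : ℚ := (s 3 : ℚ) * q (r 3) with hQ3
  set Q4 : ℚ := (s 4 : ℚ) * q (r 4) with hQ4
  set Q5 : ℚ := (s 5 : ℚ) * q (r 5) with hQ5
  set Q6 : ℚ := (s 6 : ℚ) * q (r 6) with hQ6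
  have E1 : 1 + D3 + D4 + D5 = 0 := by
    have : ((1 + d (r 3) * s 3 + d (r 4) * s 4 + d (r 5) * s 5 : ℤ) : ℚ) = 0 := by
      exact_mod_cast Ldx
    push_cast at this
    linear_combination this
  have E2 : D1 + D3 + D4 + D6 = 0 := by
    have : ((d (r 1) * s 1 + d (r 3) * s 3 + d (r 4) * s 4 + d (r 6) * s 6 : ℤ) : ℚ) = 0 := by
      exact_mod_cast Ldy
    push_cast at this
    linear_combination this
  have E3 : D2 + D3 + D5 + D6 = 0 := by
    have : ((d (r 2) * s 2 + d (r 3) * s 3 + d (r 5) * s 5 + d (r 6) * s 6 : ℤ) : ℚ) = 0 := by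
      exact_mod_cast Ldw
    push_cast at this
    linear_combination this
  have E4 : 1 + D1 + D2 - D3 = 0 := by
    have : ((1 * d (r 0) + s 1 * d (r 1) + s 2 * d (r 2) + -s 3 * d (r 3) + 0 * d (r 4) +
        0 * d (r 5) + 0 * d (r 6) : ℤ) : ℚ) = 0 := by
      exact_mod_cast Lad
    rw [d0] at this
    push_cast at this
    linear_combination this
  have F1 : 1 + Q3 + Q4 + Q5 = 0 := by linear_combination Lqx
  have F2 : Q1 + Q3 + Q4 + Q6 = 0 := by linear_combination Lqy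
  have F3 : Q2 + Q3 + Q5 + Q6 = 0 := by linear_combination Lqw
  have F4 : 1 + Q1 + Q2 - Q3 = 0 := by
    push_cast at Lqa
    linear_combination Lqa
  -- products
  have hprod : ∀ k, ((s k : ℚ) * q (r k)) * ((s k : ℚ) * (d (r k) : ℚ)) =
      ((qTx k : ℚ) + (e₂ : ℚ) * (qTy k : ℚ) + (e₃ : ℚ) * (qTw k : ℚ)) ^ 2 := by
    intro k
    have h1 := hq (r k)
    have h2 : (cz (r k) : ℚ) = (s k : ℚ) * ((qTx k : ℚ) + (e₂ : ℚ) * (qTy k : ℚ) +
        (e₃ : ℚ) * (qTw k : ℚ)) := by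
      rw [hcz (r k), (hrows k).1, (hrows k).2.1, (hrows k).2.2]
      push_cast
      ring
    rw [h2] at h1
    linear_combination (s k : ℚ) * (s k : ℚ) * h1 + ((qTx k : ℚ) + (e₂ : ℚ) * (qTy k : ℚ) +
        (e₃ : ℚ) * (qTw k : ℚ)) ^ 2 * ((s k : ℚ) * (s k : ℚ) + 1) * (hss k)
  have P1 := hprod 1
  have P2 := hprod 2
  have P4 := hprod 4
  have P5 := hprod 5
  simp [qTx, qTy, qTw] at P1 P2 P4 P5
  have P1' : Q1 * D1 = (e₂ : ℚ) ^ 2 := by rw [hQ1, hD1]; exact P1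
  have P2' : Q2 * D2 = (e₃ : ℚ) ^ 2 := by rw [hQ2, hD2]; exact P2
  have P4' : Q4 * D4 = (1 + (e₂ : ℚ)) ^ 2 := by rw [hQ4, hD4]; exact P4
  have P5' : Q5 * D5 = (1 + (e₃ : ℚ)) ^ 2 := by rw [hQ5, hD5]; exact P5
  have G4 : D4 = -(1 + D1) := by linear_combination (E1 + E2 - E3 + E4) / 2
  have G5 : D5 = -(1 + D2) := by linear_combination (E1 - E2 + E3 + E4) / 2
  have H4 : Q4 = -(1 + Q1) := by linear_combination (F1 + F2 - F3 + F4) / 2
  have H5 : Q5 = -(1 + Q2) := by linear_combination (F1 - F2 + F3 + F4) / 2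
  have hs1 : Q1 + D1 = 2 * (e₂ : ℚ) := by
    rw [G4, H4] at P4'
    linear_combination P4' - P1'
  have hs2 : Q2 + D2 = 2 * (e₃ : ℚ) := by
    rw [G5, H5] at P5'
    linear_combination P5' - P2'
  have hsq1 : (D1 - Q1) ^ 2 = 0 := by
    linear_combination (Q1 + D1 + 2 * (e₂ : ℚ)) * hs1 - 4 * P1'
  have hsq2 : (D2 - Q2) ^ 2 = 0 := by
    linear_combination (Q2 + D2 + 2 * (e₃ : ℚ)) * hs2 - 4 * P2'
  have K1 : D1 = Q1 := sub_eq_zero.1 ((pow_eq_zero_iff two_ne_zero).1 hsq1)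
  have K2 : D2 = Q2 := sub_eq_zero.1 ((pow_eq_zero_iff two_ne_zero).1 hsq2)
  have K3 : D3 = Q3 := by linear_combination F4 - E4 + K1 + K2
  have K4 : D4 = Q4 := by rw [G4, H4, K1]
  have K5 : D5 = Q5 := by rw [G5, H5, K2]
  have K6 : D6 = Q6 := by linear_combination E2 - F2 - K1 - K3 - K4
  have hDQ : ∀ k, (s k : ℚ) * (d (r k) : ℚ) = (s k : ℚ) * q (r k) := by
    intro k
    fin_cases k
    · show (s 0 : ℚ) * (d (r 0) : ℚ) = (s 0 : ℚ) * q (r 0)
      rw [d0, q0]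
      simp
    · exact K1
    · exact K2
    · exact K3
    · exact K4
    · exact K5
    · exact K6
  have hdq : ∀ k, (d (r k) : ℚ) = q (r k) := by
    intro k
    linear_combination (s k : ℚ) * hDQ k - ((d (r k) : ℚ) - q (r k)) * hss k
  intro i
  obtain ⟨k, rfl⟩ := hbij.surjective i
  have h1 := hq (r k)
  rw [← hdq k] at h1
  exact_mod_cast h1.symm

end

end Cfsg.Agent.Lib.Helper8
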