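import Mathlib
import Cfsg.Agent.Lib.Helper8.QB15
import Cfsg.Agent.Lib.Helper8.ClassAlgebra

/-!
# Squares of an involution against singular elements; characters with `χ(z)² = χ(1)²`
-/

set_option autoImplicit false
set_option maxHeartbeats 800000

namespace Cfsg.Agent.Lib.Helper8

open Cfsg
open scoped ComplexConjugate
open Cfsg.Agent.Lib.Helper1 Cfsg.Agent.Lib.Helper4

universe u

section

variable {G : Type u} [Group G] [Fintype G] {M : Ideal AlgInt}

/-- If all products `t * t^y` have odd order then `χ ↦ χ(t)²/χ(1)` is orthogonal, over the principal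
`2`-block, to the columns of the `2`-singular elements. -/
theorem prin2_sq_orth [Fintype (IrrCharacter G)] [Fintype ↥(principalBlock M G)]
    (hM : IsPModular 2 M) {t : G} (hodd : ∀ y : G, ¬ 2 ∣ orderOf (t * (y * t * y⁻¹)))
    {g u : G} (hgu : IsPPart 2 g u) (hu : u ≠ 1) :
    ∑ i : ↥(principalBlock M G), ((i : IrrCharacter G) : G → ℂ) g *
      conj (((i : IrrCharacter G) : G → ℂ) t * ((i : IrrCharacter G) : G → ℂ) t /
        ((i : IrrCharacter G) : G → ℂ) 1) = 0 := by
  classical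
  haveI : Fact (Nat.Prime 2) := ⟨Nat.prime_two⟩
  have hG : (Fintype.card G : ℂ) ≠ 0 := Nat.cast_ne_zero.2 Fintype.card_pos.ne'
  have h1 : ∀ χ : IrrCharacter G, (χ : G → ℂ) t * (χ : G → ℂ) t / (χ : G → ℂ) 1 =
      (Fintype.card G : ℂ)⁻¹ * ∑ y : G, (χ : G → ℂ) (t * (y * t * y⁻¹)) := by
    intro χ
    rw [sum_irr_mul_conj χ.2 t t]
    field_simp
  have h2 : ∀ i : ↥(principalBlock M G), ((i : IrrCharacter G) : G → ℂ) g *
      conj (((i : IrrCharacter G) : G → ℂ) t * ((i : IrrCharacter G) : G → ℂ) t /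
        ((i : IrrCharacter G) : G → ℂ) 1) = (Fintype.card G : ℂ)⁻¹ * ∑ y : G,
      ((i : IrrCharacter G) : G → ℂ) g * conj (((i : IrrCharacter G) : G → ℂ) (t * (y * t * y⁻¹))) := by
    intro i
    rw [h1, map_mul, map_inv₀, map_natCast, map_sum, Finset.mul_sum, Finset.mul_sum,
      Finset.mul_sum]
    refine Finset.sum_congr rfl fun y _ => ?_
    ring
  rw [Finset.sum_congr rfl (fun i _ => h2 i), ← Finset.mul_sum, Finset.sum_comm]
  have h3 : ∀ y : G, ∑ i : ↥(principalBlock M G), ((i : IrrCharacter G) : G → ℂ) g *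
      conj (((i : IrrCharacter G) : G → ℂ) (t * (y * t * y⁻¹))) = 0 := by
    intro y
    refine prin_orth_subtype hM hgu
      ⟨t * (y * t * y⁻¹), one_mul _, Commute.one_left _, ⟨0, by simp⟩, hodd y⟩ ?_
    intro hc
    exact hu (isConj_one_left.1 hc)
  rw [Finset.sum_congr rfl (fun y _ => h3 y)]
  simp

end

section

variable {G : Type u} [Group G] [Finite G]

/-- If `z² = 1` and `χ(z)² = χ(1)²` then all commutators `[z, g]` lie in the kernel of `χ`. -/
theorem char_commutator_of_sq_eq {χ : G → ℂ} (hχ : IsCharacter G χ) {z : G} (hz : z * z = 1)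
    (h : χ z * χ z = χ 1 * χ 1) (g : G) : χ (z * g * z⁻¹ * g⁻¹) = χ 1 := by
  obtain ⟨n, ρ, rfl⟩ := hχ
  have hTT : ρ z * ρ z = 1 := by
    rw [← map_mul, hz, map_one]
  have hone : ρ.character 1 = (n : ℂ) := by
    rw [Representation.char_one]
    simp
  have htr : LinearMap.trace ℂ (Fin n → ℂ) (ρ z) = ρ.character z := rfl
  have hcases : ρ.character z = (n : ℂ) ∨ ρ.character z = -(n : ℂ) := by
    rw [hone] at h
    have : (ρ.character z - n) * (ρ.character z + n) = 0 := by linear_combination h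
    rcases mul_eq_zero.1 this with h1 | h1
    · left; exact sub_eq_zero.1 h1
    · right; exact eq_neg_of_add_eq_zero_left h1
  have hzinv : z⁻¹ = z := inv_eq_of_mul_eq_one_right hz
  have key : ρ (z * g * z⁻¹ * g⁻¹) = 1 := by
    rw [hzinv, map_mul, map_mul, map_mul]
    rcases hcases with h1 | h1
    · -- `ρ z = 1`
      have hP : IsIdempotentElem ((2 : ℂ)⁻¹ • (1 - ρ z)) := by
        have e1 : (1 - ρ z) * (1 - ρ z) = (2 : ℂ) • (1 - ρ z) := by
          have : (1 - ρ z) * (1 - ρ z) = 1 - ρ z - (ρ z - ρ z * ρ z) := by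
            rw [sub_mul, one_mul, mul_sub, mul_one]
          rw [this, hTT, two_smul]
          abel
        show (2 : ℂ)⁻¹ • (1 - ρ z) * (2 : ℂ)⁻¹ • (1 - ρ z) = (2 : ℂ)⁻¹ • (1 - ρ z)
        rw [smul_mul_smul_comm, e1, smul_smul]
        congr 1
        norm_num
      have htr0 : LinearMap.trace ℂ (Fin n → ℂ) ((2 : ℂ)⁻¹ • (1 - ρ z)) = 0 := by
        rw [map_smul, map_sub, htr, h1, LinearMap.trace_one]
        simp
      have h0 := LinearMap.IsIdempotentElem.eq_zero_of_trace_eq_zero hP htr0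
      have h2 : ρ z = 1 := by
        have h3 : (1 : (Fin n → ℂ) →ₗ[ℂ] (Fin n → ℂ)) - ρ z = 0 := by
          have := congrArg (fun T => (2 : ℂ) • T) h0
          simpa [smul_smul] using this
        exact (sub_eq_zero.1 h3).symm
      rw [h2, one_mul, mul_one, ← map_mul, mul_inv_cancel, map_one]
    · -- `ρ z = -1`
      have hP : IsIdempotentElem ((2 : ℂ)⁻¹ • (1 + ρ z)) := by
        have e1 : (1 + ρ z) * (1 + ρ z) = (2 : ℂ) • (1 + ρ z) := by
          have : (1 + ρ z) * (1 + ρ z) = 1 + ρ z + (ρ z + ρ z * ρ z) := by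
            rw [add_mul, one_mul, mul_add, mul_one]
          rw [this, hTT, two_smul]
          abel
        show (2 : ℂ)⁻¹ • (1 + ρ z) * (2 : ℂ)⁻¹ • (1 + ρ z) = (2 : ℂ)⁻¹ • (1 + ρ z)
        rw [smul_mul_smul_comm, e1, smul_smul]
        congr 1
        norm_num
      have htr0 : LinearMap.trace ℂ (Fin n → ℂ) ((2 : ℂ)⁻¹ • (1 + ρ z)) = 0 := by
        rw [map_smul, map_add, htr, h1, LinearMap.trace_one]
        simp
      have h0 := LinearMap.IsIdempotentElem.eq_zero_of_trace_eq_zero hP htr0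
      have h2 : ρ z = -1 := by
        have h3 : (1 : (Fin n → ℂ) →ₗ[ℂ] (Fin n → ℂ)) + ρ z = 0 := by
          have := congrArg (fun T => (2 : ℂ) • T) h0
          simpa [smul_smul] using this
        exact eq_neg_of_add_eq_zero_right h3
      rw [h2]
      have e : ∀ X : (Fin n → ℂ) →ₗ[ℂ] (Fin n → ℂ),
          (-1 : (Fin n → ℂ) →ₗ[ℂ] (Fin n → ℂ)) * X = -X := fun X => neg_one_mul X
      have e' : ∀ X : (Fin n → ℂ) →ₗ[ℂ] (Fin n → ℂ),
          X * (-1 : (Fin n → ℂ) →ₗ[ℂ] (Fin n → ℂ)) = -X := fun X => mul_neg_one X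
      rw [e, e', neg_neg, ← map_mul, mul_inv_cancel, map_one]
  show LinearMap.trace ℂ (Fin n → ℂ) (ρ (z * g * z⁻¹ * g⁻¹)) = LinearMap.trace ℂ (Fin n → ℂ) (ρ 1)
  rw [key, map_one ρ]

end

end Cfsg.Agent.Lib.Helper8
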