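import Mathlib
import Cfsg.Agent.Lib.Helper8.QB18
import Cfsg.Agent.Lib.Helper8.QB19
import Cfsg.Agent.Lib.Helper8.BlockKer
import Cfsg.Agent.Lib.Helper8.TildeBlock
import Cfsg.Agent.Lib.Helper2.QuatSylow8

/-!
# The Brauer–Suzuki theorem for quaternion Sylow `2`-subgroups of order `8`
-/

set_option autoImplicit false
set_option maxHeartbeats 1600000

namespace Cfsg.Agent.Lib.Helper8

open Cfsg
open scoped ComplexConjugate
open Cfsg.Agent.Lib.Helper2.QuatSylow
open Cfsg.Agent.Lib.Helper1 Cfsg.Agent.Lib.Helper4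

universe u

section

variable {G : Type u} [Group G] [Fintype G] {M : Ideal AlgInt} {α β : G}

/-- The members of the principal block take the values `± χ(1)` at the involution. -/
theorem q8_values_sq [Fintype (IrrCharacter G)] [Fintype ↥(principalBlock M G)]
    (hM : IsPModular 2 M) (S : Sylow 2 G) (e : (S : Subgroup G) ≃* QuaternionGroup 2)
    (h : QData (S : Subgroup G) 2 α β)
    (hnc : ∀ N : Subgroup G, N.Normal → ¬ Subgroup.IsComplement' N (S : Subgroup G)) :
    ∀ χ ∈ principalBlock M G, (χ : G → ℂ) (α ^ 2) * (χ : G → ℂ) (α ^ 2) =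
      (χ : G → ℂ) 1 * (χ : G → ℂ) 1 := by
  classical
  haveI : Fact (Nat.Prime 2) := ⟨Nat.prime_two⟩
  have hp2 : (2 : ℕ).Prime := Nat.prime_two
  obtain ⟨x, y, w, a, cz, d, e₂, e₃, i₀, hcz, hd1, hdpos, ha, hczexp, hodd2, hodd3,
    ⟨hxx, hyy, hww, hxy, hxw, hyw⟩, ⟨hdx, hdy, hdw⟩, ⟨hax, hay, haw⟩, had, haa, hpar, hnz,
    h0, hGP⟩ := q8_block_data (M := M) hM S e h hnc
  have hz : orderOf (α ^ 2) = 2 := q8_orderOf_z h
  have hz1 : α ^ 2 ≠ 1 := q8_z_ne_one h
  have hzp : ∃ k : ℕ, orderOf (α ^ 2) = 2 ^ k := ⟨1, by rw [hz, pow_one]⟩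
  have hαp : ∃ k : ℕ, orderOf α = 2 ^ k := ⟨2, by rw [q8_orderOf_alpha h]; norm_num⟩
  have hα1 : α ≠ 1 := by
    intro hc
    have h4 := q8_orderOf_alpha h
    rw [hc, orderOf_one] at h4
    omega
  have hpartz : ∀ ρ : Subgroup.centralizer ({α ^ 2} : Set G), ¬ 2 ∣ orderOf ρ →
      IsPPart 2 (α ^ 2 * (ρ : G)) (α ^ 2) := by
    intro ρ hρ
    refine ⟨(ρ : G), rfl, ?_, hzp, ?_⟩
    · exact (Subgroup.mem_centralizer_singleton_iff.1 ρ.2).symm
    · rw [Subgroup.orderOf_coe]
      exact hρ
  have hpartα : IsPPart 2 α α := isPPart_self hαp hp2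
  have hodd : ∀ y : G, ¬ 2 ∣ orderOf (α ^ 2 * (y * α ^ 2 * y⁻¹)) := by
    intro y
    exact odd_orderOf_mul_involutions S h (by norm_num) hz (by rw [orderOf_conj', hz])
  set q : ↥(principalBlock M G) → ℚ := fun i => ((cz i : ℚ) * (cz i : ℚ)) / (d i : ℚ) with hqdef
  have hd0 : ∀ i, (d i : ℚ) ≠ 0 := by
    intro i
    have := hdpos i
    exact_mod_cast this.ne'
  have hq : ∀ i, q i * (d i : ℚ) = (cz i : ℚ) * (cz i : ℚ) := by
    intro i
    rw [hqdef]
    exact div_mul_cancel₀ _ (hd0 i)
  have hqC : ∀ i : ↥(principalBlock M G), ((q i : ℚ) : ℂ) =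
      conj (((i : IrrCharacter G) : G → ℂ) (α ^ 2) * ((i : IrrCharacter G) : G → ℂ) (α ^ 2) /
        ((i : IrrCharacter G) : G → ℂ) 1) := by
    intro i
    rw [hcz i, hd1 i, hqdef]
    simp only [map_div₀, map_mul, map_intCast]
    push_cast
    rfl
  have hqa : ∑ i, q i * (a i : ℚ) = 0 := by
    have key := prin2_sq_orth hM hodd hpartα hα1
    have : ((∑ i, q i * (a i : ℚ) : ℚ) : ℂ) = 0 := by
      push_cast
      rw [← key]
      refine Finset.sum_congr rfl fun i _ => ?_
      rw [hqC i, ha i]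
      ring
    exact_mod_cast this
  obtain ⟨g1, g2, g3⟩ := hGP (fun i => ((q i : ℚ) : ℂ)) (by
    intro ρ hρ
    have key := prin2_sq_orth hM hodd (hpartz ρ hρ) hz1
    rw [← key]
    refine Finset.sum_congr rfl fun i _ => ?_
    rw [hqC i]
    ring)
  have hqx : ∑ i, q i * (x i : ℚ) = 0 := by
    have : ((∑ i, q i * (x i : ℚ) : ℚ) : ℂ) = 0 := by
      push_cast
      exact g1
    exact_mod_cast this
  have hqy : ∑ i, q i * (y i : ℚ) = 0 := by
    have : ((∑ i, q i * (y i : ℚ) : ℚ) : ℂ) = 0 := by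
      push_cast
      exact g2
    exact_mod_cast this
  have hqw : ∑ i, q i * (w i : ℚ) = 0 := by
    have : ((∑ i, q i * (w i : ℚ) : ℚ) : ℂ) = 0 := by
      push_cast
      exact g3
    exact_mod_cast this
  have key := qb_sq_eq x y w a cz d q e₂ e₃ i₀ hdpos hq hczexp hodd2 hodd3 hxx hyy hww hxy hxw hyw
    hdx hdy hdw hax hay haw had haa hpar hnz h0 hqx hqy hqw hqa
  intro χ hχ
  have h1 := key ⟨χ, hχ⟩
  have h2 := hcz ⟨χ, hχ⟩
  have h3 := hd1 ⟨χ, hχ⟩
  simp only at h2 h3
  rw [h2, h3]
  exact_mod_cast h1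

end

section

variable {G : Type u} [Group G] [Finite G] {α β : G}

/-- The involution of a quaternion Sylow `2`-subgroup of order `8` is central when `O(G) = 1`. -/
theorem q8_z_central (S : Sylow 2 G) (e : (S : Subgroup G) ≃* QuaternionGroup 2)
    (h : QData (S : Subgroup G) 2 α β)
    (hO : ∀ N : Subgroup G, N.Normal → Odd (Nat.card N) → N = ⊥) :
    α ^ 2 ∈ Subgroup.center G := by
  classical
  haveI : Fact (Nat.Prime 2) := ⟨Nat.prime_two⟩
  rw [Subgroup.mem_center_iff]
  by_cases hG : (S : Subgroup G) = ⊤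
  · intro g
    have hg : g ∈ (S : Subgroup G) := by rw [hG]; exact Subgroup.mem_top g
    have := q8_le_centralizer h hg
    rw [Subgroup.mem_centralizer_singleton_iff] at this
    exact this
  · haveI : Fintype G := Fintype.ofFinite G
    haveI : Fintype (IrrCharacter G) := Fintype.ofFinite _
    obtain ⟨M, hM⟩ := exists_isPModular 2
    haveI : Fintype ↥(principalBlock M G) := Fintype.ofFinite _
    have hnc := q8_no_complement S hO hG
    have hsq := q8_values_sq hM S e h hnc
    have hzz : α ^ 2 * α ^ 2 = 1 := q8_z_sq h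
    obtain ⟨K, hKn, hK⟩ := exists_normal_blockKer (principalBlock M G)
    have hKodd : Odd (Nat.card K) := by
      rw [← Nat.not_even_iff_odd, even_iff_two_dvd]
      intro hdvd
      obtain ⟨k, hk⟩ := exists_prime_orderOf_dvd_card' 2 hdvd
      have hkK : (k : G) ∈ blockKer (principalBlock M G) := by
        rw [← hK]
        exact k.2
      have := not_dvd_orderOf_of_mem_blockKer hM (isPBlock_principalBlock (M := M) (G := G)) hkK
      apply this
      rw [Subgroup.orderOf_coe, hk]
    have hKbot := hO K hKn hKodd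
    intro g
    have hmem : α ^ 2 * g * (α ^ 2)⁻¹ * g⁻¹ ∈ K := by
      have : α ^ 2 * g * (α ^ 2)⁻¹ * g⁻¹ ∈ (K : Set G) := by
        rw [hK]
        intro χ hχ
        exact char_commutator_of_sq_eq (isCharacter_of_irr χ.2) hzz (hsq χ hχ) g
      exact this
    rw [hKbot, Subgroup.mem_bot] at hmem
    have h1 : α ^ 2 * g = g * α ^ 2 := by
      have := congrArg (fun t => t * g * α ^ 2) hmem
      simp only [one_mul] at this
      rw [← this]
      group
    exact h1.symm

/-- **Brauer–Suzuki for `Q₈`**: the centre has order `2`. -/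
theorem q8_card_center (S : Sylow 2 G) (e : (S : Subgroup G) ≃* QuaternionGroup 2)
    (hO : ∀ N : Subgroup G, N.Normal → Odd (Nat.card N) → N = ⊥) :
    Nat.card (Subgroup.center G) = 2 := by
  classical
  haveI : Fact (Nat.Prime 2) := ⟨Nat.prime_two⟩
  obtain ⟨α, β, h⟩ := exists_qdata (S : Subgroup G) 2 e
  have htc := q8_z_central S e h hO
  have hmpos : 0 < 2 := by norm_num
  have hnormal_le : ∀ V : Subgroup G, IsPGroup 2 V → V.Normal → V ≤ (S : Subgroup G) := by
    intro V hV hVn v hv
    obtain ⟨g, hg⟩ := exists_conj_le S hV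
    have h1 := hg _ (hVn.conj_mem v hv g⁻¹)
    have h2 : g * (g⁻¹ * v * g⁻¹⁻¹) * g⁻¹ = v := by group
    rwa [h2] at h1
  have hcenter : Subgroup.center G = Subgroup.zpowers (α ^ 2) := by
    apply le_antisymm
    · intro z hz
      have hzc : ∀ g : G, g * z = z * g := Subgroup.mem_center_iff.mp hz
      obtain ⟨a, b, hb, hab⟩ := Nat.exists_eq_two_pow_mul_odd (orderOf_pos z).ne'
      have hy : z ^ (2 ^ a) ∈ Subgroup.center G := Subgroup.pow_mem _ hz _
      have hyn : (Subgroup.zpowers (z ^ (2 ^ a))).Normal := by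
        constructor
        intro n hn g
        have hnc : n ∈ Subgroup.center G := (Subgroup.zpowers_le.mpr hy) hn
        have : g * n * g⁻¹ = n := by
          rw [Subgroup.mem_center_iff.mp hnc g]; group
        rw [this]; exact hn
      have hyodd : Odd (Nat.card (Subgroup.zpowers (z ^ (2 ^ a)))) := by
        rw [Nat.card_zpowers]
        apply Odd.of_dvd_nat hb
        apply orderOf_dvd_of_pow_eq_one
        rw [← pow_mul, ← hab, pow_orderOf_eq_one]
      have hybot := hO _ hyn hyodd
      have hy1 : z ^ (2 ^ a) = 1 := by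
        have : z ^ (2 ^ a) ∈ Subgroup.zpowers (z ^ (2 ^ a)) := Subgroup.mem_zpowers _
        rw [hybot, Subgroup.mem_bot] at this
        exact this
      have hz2 : IsPGroup 2 (Subgroup.zpowers z) := by
        obtain ⟨j, _, hj⟩ := (Nat.dvd_prime_pow Nat.prime_two).mp (orderOf_dvd_of_pow_eq_one hy1)
        apply IsPGroup.of_card (n := j)
        rw [Nat.card_zpowers, hj]
      have hzn : (Subgroup.zpowers z).Normal := by
        constructor
        intro n hn g
        have hnc : n ∈ Subgroup.center G := (Subgroup.zpowers_le.mpr hz) hn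
        have : g * n * g⁻¹ = n := by
          rw [Subgroup.mem_center_iff.mp hnc g]; group
        rw [this]; exact hn
      have hzS : z ∈ (S : Subgroup G) := hnormal_le _ hz2 hzn (Subgroup.mem_zpowers z)
      obtain ⟨k, hk | hk⟩ := h.cover' hzS
      · have h1 : β * z * β⁻¹ = z := by rw [hzc β]; group
        rw [hk, h.conj_zpow'] at h1
        have hzz : z * z = 1 := by
          rw [hk]
          nth_rw 1 [← h1]
          rw [← zpow_add]
          simp
        by_cases hz1 : z = 1
        · rw [hz1]; exact Subgroup.one_mem _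
        · have hord : orderOf z = 2 := orderOf_eq_prime (by rw [pow_two]; exact hzz) hz1
          rw [h.involution_eq hmpos hzS hord]
          exact Subgroup.mem_zpowers _
      · exfalso
        have h1 : α * z * α⁻¹ = z := by rw [hzc α]; group
        rw [hk] at h1
        have h2 : α * β = β * α := by
          have e1 : α * (β * α ^ k) * α⁻¹ = (α * β * α⁻¹) * α ^ k := by group
          rw [e1] at h1
          have h3 := mul_right_cancel h1
          calc α * β = (α * β * α⁻¹) * α := by group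
            _ = β * α := by rw [h3]
        have h4 : β * α * β⁻¹ = α := by rw [← h2]; group
        rw [h.conj] at h4
        have h5 : α ^ 2 = 1 := by
          rw [pow_two]
          nth_rw 1 [← h4]
          exact inv_mul_cancel α
        exact q8_z_ne_one h h5
    · rw [Subgroup.zpowers_le]
      exact htc
  rw [hcenter, Nat.card_zpowers]
  exact q8_orderOf_z h

end

end Cfsg.Agent.Lib.Helper8
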