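import Mathlib
import Cfsg.Agent.Lib.Helper8.NK1
import Cfsg.Agent.S0201
import Cfsg.Agent.Lib.Helper2.TwoComplement
import Cfsg.Agent.Lib.Helper3.PComp1
import Cfsg.Agent.Lib.Helper6.PPrimeCore

/-!
# Groups without Klein four-subgroups: an involution central modulo the core
-/

set_option autoImplicit false
set_option maxHeartbeats 800000

namespace Cfsg.Agent.Lib.Helper8

open Cfsg

universe u

section

variable {H : Type u} [Group H] [Finite H]

/-- Cyclic or generalized quaternion Sylow `2`-subgroup, trivial core, even order: there is a central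
involution. -/
theorem exists_central_involution
    (hO : ∀ N : Subgroup H, N.Normal → Odd (Nat.card N) → N = ⊥) (P : Sylow 2 H)
    (hP : IsCyclic (P : Subgroup H) ∨
      ∃ n : ℕ, Nonempty ((P : Subgroup H) ≃* QuaternionGroup (2 ^ n)))
    (heven : 2 ∣ Nat.card H) : ∃ z ∈ Subgroup.center H, orderOf z = 2 := by
  classical
  haveI : Fact (Nat.Prime 2) := ⟨Nat.prime_two⟩
  have hcyc_case : IsCyclic (P : Subgroup H) → ∃ z ∈ Subgroup.center H, orderOf z = 2 := by
    intro hcyc
    obtain ⟨N, hNn, hNodd, -, hcard⟩ :=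
      Cfsg.Agent.Lib.Helper2.TwoComplement.exists_odd_normal P hcyc
    have hN := hO N hNn hNodd
    rw [hN, Subgroup.card_bot, one_mul] at hcard
    have htop : (P : Subgroup H) = ⊤ := (Subgroup.card_eq_iff_eq_top _).1 hcard
    obtain ⟨g, hg⟩ := IsCyclic.exists_generator (α := (P : Subgroup H))
    have hcomm : ∀ a b : H, a * b = b * a := by
      intro a b
      have ha : a ∈ (P : Subgroup H) := by rw [htop]; exact Subgroup.mem_top a
      have hb : b ∈ (P : Subgroup H) := by rw [htop]; exact Subgroup.mem_top b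
      obtain ⟨i, hi⟩ := Subgroup.mem_zpowers_iff.1 (hg ⟨a, ha⟩)
      obtain ⟨j, hj⟩ := Subgroup.mem_zpowers_iff.1 (hg ⟨b, hb⟩)
      have h1 : (⟨a, ha⟩ : (P : Subgroup H)) * ⟨b, hb⟩ = ⟨b, hb⟩ * ⟨a, ha⟩ := by
        rw [← hi, ← hj, ← zpow_add, ← zpow_add, add_comm]
      exact congrArg Subtype.val h1
    obtain ⟨z, hz⟩ := exists_prime_orderOf_dvd_card' 2 heven
    exact ⟨z, Subgroup.mem_center_iff.2 (fun g => hcomm g z), hz⟩
  rcases hP with hcyc | ⟨n, ⟨e⟩⟩
  · exact hcyc_case hcyc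
  · rcases n with _ | m
    · apply hcyc_case
      haveI : IsCyclic (QuaternionGroup (2 ^ 0)) := QuaternionGroup.quaternionGroup_one_isCyclic
      exact isCyclic_of_surjective e.symm e.symm.surjective
    · have hc := Cfsg.Agent.S0201.result P m e hO
      obtain ⟨z, hz⟩ := exists_prime_orderOf_dvd_card' (G := Subgroup.center H) 2 (by rw [hc])
      exact ⟨z, z.2, by rw [Subgroup.orderOf_coe]; exact hz⟩

end

section

variable {G : Type u} [Group G] [Finite G]

/-- **No Klein four-subgroup**: some involution is central modulo a normal subgroup of odd order. -/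
theorem no_kleinFour_main (heven : Even (Nat.card G)) (hk : ∀ E : Subgroup G, ¬ IsKleinFour E) :
    ∃ z : G, orderOf z = 2 ∧ ∃ N : Subgroup G, N.Normal ∧ Odd (Nat.card N) ∧
      ∀ g : G, z * g * z⁻¹ * g⁻¹ ∈ N := by
  classical
  haveI : Fact (Nat.Prime 2) := ⟨Nat.prime_two⟩
  obtain ⟨hNn, hNc⟩ := Cfsg.Agent.Lib.Helper6.pPrimeCore_mem_set (G := G) 2
  haveI := hNn
  have hNodd : Odd (Nat.card (pPrimeCore 2 G)) := Nat.Coprime.odd_of_right hNc
  -- the quotient has trivial core
  have hO' : ∀ N' : Subgroup (G ⧸ pPrimeCore 2 G), N'.Normal → Odd (Nat.card N') → N' = ⊥ := by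
    intro N' hN' hodd
    have h1 := Cfsg.Agent.Lib.Helper6.le_pPrimeCore hN' (p := 2) (Nat.Coprime.symm
      (Nat.coprime_two_left.2 hodd))
    have h2 := Cfsg.Agent.Lib.Helper3.pPrimeCore_quotient_eq_bot (X := G) (p := 2)
    rw [h2] at h1
    exact le_bot_iff.1 h1
  obtain ⟨P⟩ : Nonempty (Sylow 2 G) := inferInstance
  have hU := sylow_two_cyclic_or_quaternion hk P
  -- the image of the Sylow subgroup
  let φ : (P : Subgroup G) →* G ⧸ pPrimeCore 2 G :=
    (QuotientGroup.mk' (pPrimeCore 2 G)).comp (P : Subgroup G).subtype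
  have hφinj : Function.Injective φ := by
    rw [injective_iff_map_eq_one]
    intro x hx
    have hxN : (x : G) ∈ pPrimeCore 2 G := by
      have : (QuotientGroup.mk (x : G) : G ⧸ pPrimeCore 2 G) = 1 := hx
      exact (QuotientGroup.eq_one_iff _).1 this
    obtain ⟨k, hk'⟩ := IsPGroup.iff_orderOf.mp P.isPGroup' x
    have := Cfsg.Agent.Lib.Helper6.eq_one_of_pElement_of_coprime_card hNc hxN
      ⟨k, by rw [Subgroup.orderOf_coe]; exact hk'⟩
    exact Subtype.ext this
  let Pb : Sylow 2 (G ⧸ pPrimeCore 2 G) :=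
    P.mapSurjective (QuotientGroup.mk'_surjective (pPrimeCore 2 G))
  have hrange : φ.range = (Pb : Subgroup (G ⧸ pPrimeCore 2 G)) := by
    rw [Sylow.coe_mapSurjective, MonoidHom.range_comp, Subgroup.range_subtype]
  let e : (P : Subgroup G) ≃* (Pb : Subgroup (G ⧸ pPrimeCore 2 G)) :=
    (MonoidHom.ofInjective hφinj).trans (MulEquiv.subgroupCongr hrange)
  have hPb : IsCyclic (Pb : Subgroup (G ⧸ pPrimeCore 2 G)) ∨
      ∃ n : ℕ, Nonempty ((Pb : Subgroup (G ⧸ pPrimeCore 2 G)) ≃* QuaternionGroup (2 ^ n)) := by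
    rcases hU with h | ⟨n, ⟨e'⟩⟩
    · left
      haveI := h
      exact isCyclic_of_surjective e e.surjective
    · right
      exact ⟨n, ⟨e.symm.trans e'⟩⟩
  have heven' : 2 ∣ Nat.card (G ⧸ pPrimeCore 2 G) := by
    have h1 := Subgroup.card_eq_card_quotient_mul_card_subgroup (pPrimeCore 2 G)
    have h2 : 2 ∣ Nat.card (G ⧸ pPrimeCore 2 G) * Nat.card (pPrimeCore 2 G) := by
      rw [← h1]
      exact even_iff_two_dvd.1 heven
    exact (Nat.Coprime.symm hNc).dvd_of_dvd_mul_right h2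
  obtain ⟨zb, hzbc, hzb2⟩ := exists_central_involution hO' Pb hPb heven'
  -- lift the involution
  have hcardL := Cfsg.Agent.Lib.Helper3.card_comap_mk' (pPrimeCore 2 G) (Subgroup.zpowers zb)
  rw [Nat.card_zpowers, hzb2] at hcardL
  obtain ⟨z, hz⟩ := exists_prime_orderOf_dvd_card'
    (G := (Subgroup.zpowers zb).comap (QuotientGroup.mk' (pPrimeCore 2 G))) 2
    (by rw [hcardL]; exact dvd_mul_left 2 _)
  have hz2 : orderOf (z : G) = 2 := by rw [Subgroup.orderOf_coe]; exact hz
  have hzmem : (QuotientGroup.mk (z : G) : G ⧸ pPrimeCore 2 G) ∈ Subgroup.zpowers zb := z.2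
  have hzb_sq : zb * zb = 1 := by
    have := pow_orderOf_eq_one zb
    rw [hzb2, pow_two] at this
    exact this
  have hmk : (QuotientGroup.mk (z : G) : G ⧸ pPrimeCore 2 G) = zb := by
    obtain ⟨k, hk'⟩ := Subgroup.mem_zpowers_iff.1 hzmem
    rcases Int.even_or_odd k with ⟨j, hj⟩ | ⟨j, hj⟩
    · exfalso
      have h1 : (QuotientGroup.mk (z : G) : G ⧸ pPrimeCore 2 G) = 1 := by
        rw [← hk', hj, zpow_add, ← (Commute.refl zb).mul_zpow, hzb_sq, one_zpow]
      have hzN : (z : G) ∈ pPrimeCore 2 G := (QuotientGroup.eq_one_iff _).1 h1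
      have := Cfsg.Agent.Lib.Helper6.eq_one_of_pElement_of_coprime_card hNc hzN
        ⟨1, by rw [hz2, pow_one]⟩
      rw [this, orderOf_one] at hz2
      omega
    · rw [← hk', hj, zpow_add, zpow_one, two_mul, zpow_add, ← (Commute.refl zb).mul_zpow, hzb_sq,
        one_zpow, one_mul]
  refine ⟨(z : G), hz2, pPrimeCore 2 G, hNn, hNodd, fun g => ?_⟩
  rw [← QuotientGroup.eq_one_iff]
  rw [QuotientGroup.mk_mul, QuotientGroup.mk_mul, QuotientGroup.mk_mul, QuotientGroup.mk_inv,
    QuotientGroup.mk_inv, hmk]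
  have := Subgroup.mem_center_iff.1 hzbc (QuotientGroup.mk g)
  rw [← this, mul_inv_cancel_right, mul_inv_cancel]

end

end Cfsg.Agent.Lib.Helper8
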