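import Mathlib
import Cfsg.Prelude.Def_TwoFusion
import Cfsg.Agent.Lib.Helper3.Isolated
import Cfsg.Agent.Lib.Helper3.Isolated2
import Cfsg.Agent.Lib.Helper3.PComp1
import Cfsg.Agent.Lib.Helper6.PPrimeCore
import Cfsg.Agent.Lib.Helper2.TwoComplement
import Cfsg.Agent.Lib.Helper2.QuatSylow7
import Cfsg.Agent.Lib.Helper8.NK2
import Cfsg.Agent.S1181

/-!
# Glauberman's Z*-theorem: group-theoretic reductions

`ZSConcl G u` is the conclusion of the Z*-theorem.  We collect the elementary facts: isolation from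
the Sylow hypothesis, isolation in subgroups, and the reductions for a minimal counterexample.
-/

set_option autoImplicit false
set_option maxHeartbeats 800000

namespace Cfsg.Agent.Lib.Helper8

open Cfsg
open Cfsg.Agent.Lib.Helper3

universe u

/-- The conclusion of the Z*-theorem: `u` is central modulo a normal subgroup of odd order. -/
def ZSConcl (G : Type u) [Group G] (u : G) : Prop :=
  ∃ N : Subgroup G, N.Normal ∧ Odd (Nat.card N) ∧ ∀ g : G, u * g * u⁻¹ * g⁻¹ ∈ N

section

variable {G : Type u} [Group G]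

theorem zs_mul_self_of_orderOf {s : G} (hs : orderOf s = 2) : s * s = 1 := by
  have := pow_orderOf_eq_one s
  rwa [hs, pow_two] at this

theorem zs_ne_one_of_orderOf {s : G} (hs : orderOf s = 2) : s ≠ 1 := by
  intro h
  rw [h, orderOf_one] at hs
  omega

theorem zs_orderOf_of_mul_self {s : G} (hs : s * s = 1) (h1 : s ≠ 1) : orderOf s = 2 := by
  apply orderOf_eq_prime
  · rw [pow_two]; exact hs
  · exact h1

/-- Isolation passes to subgroups. -/
theorem zs_isolated_subgroup {u : G} (hz : IsIsolatedInvolution u) (H : Subgroup G) (hu : u ∈ H) :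
    IsIsolatedInvolution (⟨u, hu⟩ : H) := by
  refine ⟨?_, ?_⟩
  · rw [← Subgroup.orderOf_coe]
    exact hz.1
  · intro g hg
    apply Subtype.ext
    have h1 := congrArg Subtype.val hg.eq
    simp only [Subgroup.coe_mul, Subgroup.coe_inv] at h1
    have := hz.2 (g : G) h1
    simpa using this

/-- The Sylow form of the hypothesis gives an isolated involution. -/
theorem zs_isolated_of_sylow [Finite G] (P : Sylow 2 G) {u : G} (hu : orderOf u = 2)
    (hiso : ∀ g : G, g * u * g⁻¹ ∈ P → g * u * g⁻¹ = u) : IsIsolatedInvolution u := by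
  haveI : Fact (Nat.Prime 2) := ⟨Nat.prime_two⟩
  refine ⟨hu, ?_⟩
  intro g hg
  have huu : u * u = 1 := zs_mul_self_of_orderOf hu
  have hvv : (g * u * g⁻¹) * (g * u * g⁻¹) = 1 := conj_mul_self huu g
  have hK : IsPGroup 2 (k4Sub u (g * u * g⁻¹) huu hvv hg.eq) := by
    rintro ⟨k, hk⟩
    refine ⟨1, ?_⟩
    apply Subtype.ext
    rw [pow_one]
    show k ^ 2 = 1
    rw [pow_two]
    rcases hk with rfl | rfl | rfl | rfl
    · exact mul_one 1
    · exact huu
    · exact hvv
    · calc u * (g * u * g⁻¹) * (u * (g * u * g⁻¹))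
          = u * ((g * u * g⁻¹) * u) * (g * u * g⁻¹) := by simp only [mul_assoc]
        _ = u * (u * (g * u * g⁻¹)) * (g * u * g⁻¹) := by rw [← hg.eq]
        _ = (u * u) * ((g * u * g⁻¹) * (g * u * g⁻¹)) := by simp only [mul_assoc]
        _ = 1 := by rw [huu, hvv, mul_one]
  obtain ⟨x, hx⟩ := Cfsg.Agent.Lib.Helper2.QuatSylow.exists_conj_le P hK
  have h1 := hiso x (hx u (Or.inr (Or.inl rfl)))
  have h2' : x * (g * u * g⁻¹) * x⁻¹ ∈ (P : Subgroup G) := hx _ (Or.inr (Or.inr (Or.inl rfl)))
  have e : x * (g * u * g⁻¹) * x⁻¹ = (x * g) * u * (x * g)⁻¹ := by group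
  rw [e] at h2'
  have h2 := hiso (x * g) h2'
  rw [← e] at h2
  have : x * (g * u * g⁻¹) * x⁻¹ = x * u * x⁻¹ := h2.trans h1.symm
  exact mul_left_cancel (mul_right_cancel this)

end

end Cfsg.Agent.Lib.Helper8
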