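import Mathlib
import Cfsg.Agent.Lib.Helper8.ZS1

/-!
# Glauberman's Z*-theorem: reductions for a minimal counterexample
-/

set_option autoImplicit false
set_option maxHeartbeats 800000

namespace Cfsg.Agent.Lib.Helper8

open Cfsg
open Cfsg.Agent.Lib.Helper3

universe u

/-- The induction hypothesis: the Z*-theorem for all smaller groups. -/
def ZSIH (G : Type u) [Group G] : Prop :=
  ∀ (H : Type u) [Group H] [Finite H] (v : H), Nat.card H < Nat.card G →
    IsIsolatedInvolution v → ZSConcl H v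

section

variable {G : Type u} [Group G] [Finite G] {u : G}

omit [Finite G] in
theorem zs_not_central (hcon : ¬ ZSConcl G u) : ∃ g : G, u * g * u⁻¹ * g⁻¹ ≠ 1 := by
  by_contra h
  push_neg at h
  apply hcon
  refine ⟨⊥, Subgroup.normal_bot, ?_, fun g => ?_⟩
  · rw [Subgroup.card_bot]; exact odd_one
  · rw [h g]; exact Subgroup.one_mem _

/-- (R1) a minimal counterexample has trivial core. -/
theorem zs_r1 (hz : IsIsolatedInvolution u) (IH : ZSIH G) (hcon : ¬ ZSConcl G u) :
    ∀ N : Subgroup G, N.Normal → Odd (Nat.card N) → N = ⊥ := by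
  intro N hN hodd
  by_contra hne
  haveI := hN
  have huN : u ∉ N := by
    intro h
    have h1 : orderOf u ∣ Nat.card N := Subgroup.orderOf_dvd_natCard N h
    rw [hz.1] at h1
    exact (Nat.not_even_iff_odd.2 hodd) (even_iff_two_dvd.2 h1)
  have hiso' := (Cfsg.Agent.S1181.result u hz N huN).2
  have hcard : Nat.card (G ⧸ N) < Nat.card G := by
    have h1 := Subgroup.card_eq_card_quotient_mul_card_subgroup N
    have h2 : 1 < Nat.card N := by
      rcases Nat.lt_or_ge 1 (Nat.card N) with h | h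
      · exact h
      · exact absurd ((Subgroup.card_le_one_iff_eq_bot N).1 h) hne
    have h3 : 0 < Nat.card (G ⧸ N) := Nat.card_pos
    nlinarith
  obtain ⟨N', hN'n, hN'odd, hN'c⟩ := IH (G ⧸ N) (QuotientGroup.mk u) hcard hiso'
  apply hcon
  refine ⟨N'.comap (QuotientGroup.mk' N), hN'n.comap _, ?_, ?_⟩
  · rw [card_comap_mk']; exact hodd.mul hN'odd
  · intro g
    rw [Subgroup.mem_comap]
    have := hN'c (QuotientGroup.mk g)
    simpa using this

/-- With trivial core, subnormal subgroups of odd order are trivial. -/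
theorem zs_subnormal_trivial (hO : ∀ N : Subgroup G, N.Normal → Odd (Nat.card N) → N = ⊥)
    {S : Subgroup G} (hS : S.IsSubnormal) (hodd : Odd (Nat.card S)) : S = ⊥ := by
  obtain ⟨hn, hc⟩ := Cfsg.Agent.Lib.Helper6.pPrimeCore_mem_set (G := G) 2
  have h1 : pPrimeCore 2 G = ⊥ := hO _ hn (Nat.Coprime.odd_of_right hc)
  have h2 : S ≤ pPrimeCore 2 G :=
    le_pPrimeCore_of_isSubnormal hS (Nat.Coprime.symm (Nat.coprime_two_left.2 hodd))
  rw [h1] at h2
  exact le_bot_iff.1 h2

/-- With trivial core, an odd-order normal subgroup of a normal subgroup is trivial. -/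
theorem zs_normal_normal_trivial (hO : ∀ N : Subgroup G, N.Normal → Odd (Nat.card N) → N = ⊥)
    {M : Subgroup G} (hM : M.Normal) {M0 : Subgroup M} (hM0 : M0.Normal)
    (hodd : Odd (Nat.card M0)) : M0 = ⊥ := by
  have hsub : (M0.map M.subtype).IsSubnormal :=
    Subgroup.IsSubnormal.trans' hM0.isSubnormal hM.isSubnormal
  have hodd' : Odd (Nat.card (M0.map M.subtype)) := by
    rw [← Nat.card_congr (Subgroup.equivMapOfInjective M0 M.subtype M.subtype_injective).toEquiv]
    exact hodd
  have hbot := zs_subnormal_trivial hO hsub hodd'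
  rw [Subgroup.eq_bot_iff_forall]
  intro x hx
  have h2 : (x : G) ∈ M0.map M.subtype := ⟨x, hx, rfl⟩
  rw [hbot] at h2
  exact Subtype.ext (Subgroup.mem_bot.1 h2)

/-- (R3) in a minimal counterexample, `u` lies in no proper normal subgroup. -/
theorem zs_r3 (hz : IsIsolatedInvolution u) (IH : ZSIH G) (hcon : ¬ ZSConcl G u) :
    ∀ N : Subgroup G, N.Normal → u ∈ N → N = ⊤ := by
  intro N hN huN
  by_contra hne
  have hO := zs_r1 hz IH hcon
  have hcard : Nat.card N < Nat.card G :=
    lt_of_le_of_ne (Subgroup.card_le_card_group N)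
      (fun h => hne ((Subgroup.card_eq_iff_eq_top N).1 h))
  obtain ⟨N', hN'n, hN'odd, hN'c⟩ := IH N ⟨u, huN⟩ hcard (zs_isolated_subgroup hz N huN)
  have hbot := zs_normal_normal_trivial hO hN hN'n hN'odd
  have hcomm : ∀ n ∈ N, u * n * u⁻¹ * n⁻¹ = 1 := by
    intro n hn
    have h1 := hN'c ⟨n, hn⟩
    rw [hbot, Subgroup.mem_bot] at h1
    have h2 := congrArg Subtype.val h1
    simpa using h2
  obtain ⟨g, hg⟩ := zs_not_central hcon
  apply hg
  have h1 : g * u * g⁻¹ ∈ N := hN.conj_mem u huN g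
  have h2 := hcomm _ h1
  have h3 : Commute u (g * u * g⁻¹) := by
    have h4 : u * (g * u * g⁻¹) * u⁻¹ = g * u * g⁻¹ := mul_inv_eq_one.1 h2
    have h5 : u * (g * u * g⁻¹) = g * u * g⁻¹ * u := by
      calc u * (g * u * g⁻¹) = (u * (g * u * g⁻¹) * u⁻¹) * u := by group
        _ = g * u * g⁻¹ * u := by rw [h4]
    exact h5
  have h4 := hz.2 g h3
  have huinv := IsIsolatedInvolution.inv_eq hz
  calc u * g * u⁻¹ * g⁻¹ = u * (g * u * g⁻¹) := by rw [huinv]; group
    _ = 1 := by rw [h4]; exact IsIsolatedInvolution.mul_self hz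

end

end Cfsg.Agent.Lib.Helper8
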