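import Mathlib
import Cfsg.Agent.Lib.Helper8.ZS2

/-!
# Glauberman's Z*-theorem: no central involutions, and the case of a unique involution
-/

set_option autoImplicit false
set_option maxHeartbeats 800000

namespace Cfsg.Agent.Lib.Helper8

open Cfsg
open Cfsg.Agent.Lib.Helper3

universe u

section

variable {G : Type u} [Group G] [Finite G] {u : G}

/-- (R2) a minimal counterexample has no central involution. -/
theorem zs_r2 (hz : IsIsolatedInvolution u) (IH : ZSIH G) (hcon : ¬ ZSConcl G u) :
    ∀ z ∈ Subgroup.center G, orderOf z ≠ 2 := by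
  intro z hzc hz2
  haveI : Fact (Nat.Prime 2) := ⟨Nat.prime_two⟩
  have hO := zs_r1 hz IH hcon
  obtain ⟨g0, hg0⟩ := zs_not_central hcon
  have hZle : Subgroup.zpowers z ≤ Subgroup.center G := Subgroup.zpowers_le.2 hzc
  haveI hZn : (Subgroup.zpowers z).Normal := ⟨fun n hn g => by
    have := Subgroup.mem_center_iff.1 (hZle hn) g
    rw [this, mul_inv_cancel_right]; exact hn⟩
  have hZcard : Nat.card (Subgroup.zpowers z) = 2 := by rw [Nat.card_zpowers, hz2]
  have huZ : u ∉ Subgroup.zpowers z := by
    intro h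
    apply hg0
    have := Subgroup.mem_center_iff.1 (hZle h) g0
    rw [← this]; group
  have hiso' := (Cfsg.Agent.S1181.result u hz _ huZ).2
  have hcard : Nat.card (G ⧸ Subgroup.zpowers z) < Nat.card G := by
    have h1 := Subgroup.card_eq_card_quotient_mul_card_subgroup (Subgroup.zpowers z)
    rw [hZcard] at h1
    have h3 : 0 < Nat.card (G ⧸ Subgroup.zpowers z) := Nat.card_pos
    omega
  obtain ⟨N', hN'n, hN'odd, hN'c⟩ :=
    IH (G ⧸ Subgroup.zpowers z) (QuotientGroup.mk u) hcard hiso'
  set M : Subgroup G := N'.comap (QuotientGroup.mk' (Subgroup.zpowers z)) with hM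
  have hMn : M.Normal := hN'n.comap _
  have hMcard : Nat.card M = 2 * Nat.card N' := by rw [hM, card_comap_mk', hZcard]
  obtain ⟨P⟩ : Nonempty (Sylow 2 M) := inferInstance
  have hPcard : Nat.card P = 2 := by
    rw [Sylow.card_eq_multiplicity, hMcard]
    have hn0 : Nat.card N' ≠ 0 := Nat.card_pos.ne'
    have h2 : ¬ 2 ∣ Nat.card N' := fun h => (Nat.not_even_iff_odd.2 hN'odd) (even_iff_two_dvd.2 h)
    rw [Nat.factorization_mul two_ne_zero hn0, Finsupp.add_apply,
      Nat.Prime.factorization_self Nat.prime_two, Nat.factorization_eq_zero_of_not_dvd h2]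
    norm_num
  have hPcyc : IsCyclic P := isCyclic_of_prime_card hPcard
  obtain ⟨M0, hM0n, hM0odd, hM0all, -⟩ :=
    Cfsg.Agent.Lib.Helper2.TwoComplement.exists_odd_normal P hPcyc
  have hbot := zs_normal_normal_trivial hO hMn hM0n hM0odd
  have hmem : u * g0 * u⁻¹ * g0⁻¹ ∈ M := by
    rw [hM, Subgroup.mem_comap]
    have := hN'c (QuotientGroup.mk g0)
    simpa using this
  have hoddc : Odd (orderOf (u * g0 * u⁻¹ * g0⁻¹)) := by
    have := IsIsolatedInvolution.odd_orderOf_mul_conj hz g0
    have e : u * g0 * u⁻¹ * g0⁻¹ = u * (g0 * u * g0⁻¹) := by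
      rw [IsIsolatedInvolution.inv_eq hz]; group
    rw [e]; exact this
  have h1 : (⟨_, hmem⟩ : M) ∈ M0 := hM0all _ (by
    rw [← Subgroup.orderOf_coe]; exact hoddc)
  rw [hbot, Subgroup.mem_bot] at h1
  exact hg0 (congrArg Subtype.val h1)

/-- In a minimal counterexample there is an involution commuting with `u` other than `u`. -/
theorem zs_caseA (hz : IsIsolatedInvolution u) (IH : ZSIH G) (hcon : ¬ ZSConcl G u) :
    ∃ s : G, orderOf s = 2 ∧ Commute s u ∧ s ≠ u := by
  by_contra hno
  push_neg at hno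
  haveI : Fact (Nat.Prime 2) := ⟨Nat.prime_two⟩
  have hO := zs_r1 hz IH hcon
  have hZ := zs_r2 hz IH hcon
  have hk : ∀ E : Subgroup G, ¬ IsKleinFour E := by
    intro E hE
    obtain ⟨T, huT, hTC⟩ := Iso.exists_sylow_le_centralizer hz
    have hE2 : IsPGroup 2 E := IsPGroup.of_card (n := 2) (by rw [hE.card_four]; norm_num)
    obtain ⟨x, hx⟩ := Cfsg.Agent.Lib.Helper2.QuatSylow.exists_conj_le T hE2
    have hall : ∀ e ∈ E, e ∈ Subgroup.zpowers (x⁻¹ * u * x) := by
      intro e he
      by_cases he1 : e = 1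
      · rw [he1]; exact Subgroup.one_mem _
      · have hee : e * e = 1 := by
          have h1 := Monoid.pow_exponent_eq_one (⟨e, he⟩ : E)
          rw [hE.exponent_two, pow_two] at h1
          exact congrArg Subtype.val h1
        have ho : orderOf (x * e * x⁻¹) = 2 := by
          rw [Cfsg.Agent.Lib.Helper2.QuatSylow.orderOf_conj']
          exact zs_orderOf_of_mul_self hee he1
        have hc : Commute (x * e * x⁻¹) u :=
          Subgroup.mem_centralizer_singleton_iff.1 (hTC (hx e he))
        have h2 := hno _ ho hc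
        have : e = x⁻¹ * u * x := by rw [← h2]; group
        rw [this]; exact Subgroup.mem_zpowers _
    have hle : E ≤ Subgroup.zpowers (x⁻¹ * u * x) := hall
    have h1 := Subgroup.card_le_of_le hle
    rw [hE.card_four, Nat.card_zpowers] at h1
    have h2 : orderOf (x⁻¹ * u * x) = 2 := by
      have := Cfsg.Agent.Lib.Helper2.QuatSylow.orderOf_conj' x⁻¹ u
      rw [inv_inv] at this
      rw [this]; exact hz.1
    omega
  have heven : Even (Nat.card G) := by
    rw [even_iff_two_dvd, ← hz.1]
    exact orderOf_dvd_natCard u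
  obtain ⟨z, hz2, N, hNn, hNodd, hNc⟩ := no_kleinFour_main heven hk
  have hN := hO N hNn hNodd
  apply hZ z _ hz2
  rw [Subgroup.mem_center_iff]
  intro g
  have h1 := hNc g
  rw [hN, Subgroup.mem_bot] at h1
  have h2 : z * g * z⁻¹ = g := mul_inv_eq_one.1 h1
  calc g * z = (z * g * z⁻¹) * z := by rw [h2]
    _ = z * g := by group

end

end Cfsg.Agent.Lib.Helper8
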