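import Mathlib
import Cfsg.Prelude.Def_Local
import Cfsg.Agent.Lib.Helper8.ZS3
import Cfsg.Agent.S1182

/-!
# Glauberman's Z*-theorem: the local analysis

For a conjugate `a` of `u` and an involution `s ≠ u` commuting with `u`, the product `a * s` is
`w * v` with `w` an involution conjugate to `u * s` and `v ∈ O(C_G(w))`.
-/

set_option autoImplicit false
set_option maxHeartbeats 800000

namespace Cfsg.Agent.Lib.Helper8

open Cfsg
open Cfsg.Agent.Lib.Helper3

universe u

section

variable {G : Type u} [Group G] [Finite G]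

theorem zs_core_odd {w x : G} (hx : x ∈ centralizerPPrimeCore 2 w) : Odd (orderOf x) := by
  obtain ⟨y, hy, rfl⟩ := hx
  have hc := Cfsg.Agent.Lib.Helper6.pPrimeCore_coprime
    (G := ↥(Subgroup.centralizer ({w} : Set G))) 2
  have h1 : orderOf y ∣ Nat.card (pPrimeCore 2 ↥(Subgroup.centralizer ({w} : Set G))) :=
    Subgroup.orderOf_dvd_natCard _ hy
  have h2 : orderOf ((Subgroup.centralizer ({w} : Set G)).subtype y) = orderOf y :=
    Subgroup.orderOf_coe y
  rw [h2]
  exact (Nat.Coprime.coprime_dvd_left h1 hc).odd_of_right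

omit [Finite G] in
theorem zs_core_commute {w x : G} (hx : x ∈ centralizerPPrimeCore 2 w) : Commute x w := by
  obtain ⟨y, -, rfl⟩ := hx
  exact Subgroup.mem_centralizer_singleton_iff.1 y.2

theorem zs_core_conj {w x h : G} (hx : x ∈ centralizerPPrimeCore 2 w) (hh : Commute h w) :
    h * x * h⁻¹ ∈ centralizerPPrimeCore 2 w := by
  obtain ⟨y, hy, rfl⟩ := hx
  have hhC : h ∈ Subgroup.centralizer ({w} : Set G) :=
    Subgroup.mem_centralizer_singleton_iff.2 hh.eq
  obtain ⟨hn, -⟩ := Cfsg.Agent.Lib.Helper6.pPrimeCore_mem_set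
    (G := ↥(Subgroup.centralizer ({w} : Set G))) 2
  exact ⟨⟨h, hhC⟩ * y * ⟨h, hhC⟩⁻¹, hn.conj_mem y hy ⟨h, hhC⟩, rfl⟩

variable {u : G}

/-- In a minimal counterexample, commutators of an isolated involution inside the centralizer of
an involution `w` lie in `O(C_G(w))`. -/
theorem zs_core_comm (hz : IsIsolatedInvolution u) (IH : ZSIH G) (hcon : ¬ ZSConcl G u) {w : G}
    (hw : orderOf w = 2) {a : G} (ha : IsIsolatedInvolution a) (haw : Commute a w) {h : G}
    (hhw : Commute h w) : a * h * a⁻¹ * h⁻¹ ∈ centralizerPPrimeCore 2 w := by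
  have hZ := zs_r2 hz IH hcon
  have hHne : Subgroup.centralizer ({w} : Set G) ≠ ⊤ := by
    intro htop
    apply hZ w _ hw
    rw [Subgroup.mem_center_iff]
    intro g
    have : g ∈ Subgroup.centralizer ({w} : Set G) := by rw [htop]; trivial
    exact Subgroup.mem_centralizer_singleton_iff.1 this
  have hcard : Nat.card (Subgroup.centralizer ({w} : Set G)) < Nat.card G :=
    lt_of_le_of_ne (Subgroup.card_le_card_group _)
      (fun h => hHne ((Subgroup.card_eq_iff_eq_top _).1 h))
  have haH : a ∈ Subgroup.centralizer ({w} : Set G) :=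
    Subgroup.mem_centralizer_singleton_iff.2 haw.eq
  have hhH : h ∈ Subgroup.centralizer ({w} : Set G) :=
    Subgroup.mem_centralizer_singleton_iff.2 hhw.eq
  obtain ⟨N', hN'n, hN'odd, hN'c⟩ :=
    IH (Subgroup.centralizer ({w} : Set G)) ⟨a, haH⟩ hcard (zs_isolated_subgroup ha _ haH)
  have hle := Cfsg.Agent.Lib.Helper6.le_pPrimeCore hN'n
    (Nat.Coprime.symm (Nat.coprime_two_left.2 hN'odd))
  exact ⟨_, hle (hN'c ⟨h, hhH⟩), rfl⟩

omit [Finite G] in
/-- Two involutions that are not conjugate generate a dihedral group with a central involution. -/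
theorem zs_dihedral [Finite G] {a s : G} (haa : a * a = 1) (hss : s * s = 1)
    (hnc : ∀ k : G, k * a * k⁻¹ ≠ s) :
    ∃ m : ℕ, 0 < m ∧ orderOf (a * s) = 2 * m ∧ orderOf ((a * s) ^ m) = 2 ∧
      Commute a ((a * s) ^ m) ∧ Commute s ((a * s) ^ m) := by
  have hpos : 0 < orderOf (a * s) := orderOf_pos _
  rcases Nat.even_or_odd' (orderOf (a * s)) with ⟨m, hm | hm⟩
  · have hm0 : 0 < m := by omega
    have hw1 : (a * s) ^ m ≠ 1 := pow_ne_one_of_lt_orderOf (by omega) (by omega)
    have hww : (a * s) ^ m * (a * s) ^ m = 1 := by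
      rw [← pow_add, ← two_mul, ← hm, pow_orderOf_eq_one]
    have hwinv : ((a * s) ^ m)⁻¹ = (a * s) ^ m := inv_eq_of_mul_eq_one_right hww
    refine ⟨m, hm0, hm, zs_orderOf_of_mul_self hww hw1, ?_, ?_⟩
    · have h1 := dihedral_pow_mul_left a s haa hss m
      have : (a * s) ^ m * a = a * ((a * s) ^ m)⁻¹ := by
        rw [eq_mul_inv_iff_mul_eq]; exact h1
      rw [hwinv] at this
      exact this.symm
    · have h1 := dihedral_pow_mul_right a s haa hss m
      have : (a * s) ^ m * s = s * ((a * s) ^ m)⁻¹ := by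
        rw [eq_mul_inv_iff_mul_eq]; exact h1
      rw [hwinv] at this
      exact this.symm
  · exfalso
    have hd : (a * s) ^ (2 * m + 1) = 1 := by rw [← hm]; exact pow_orderOf_eq_one _
    exact hnc _ (dihedral_odd_conj a s haa hss m hd).1

end

end Cfsg.Agent.Lib.Helper8
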