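import Mathlib
import Cfsg.Agent.Lib.Helper8.ZS4

/-!
# Glauberman's Z*-theorem: the local analysis, main lemma
-/

set_option autoImplicit false
set_option maxHeartbeats 1600000

namespace Cfsg.Agent.Lib.Helper8

open Cfsg
open Cfsg.Agent.Lib.Helper3

universe u

section

variable {G : Type u} [Group G] [Finite G] {u : G}

/-- For every conjugate `a = g u g⁻¹` and every involution `s ≠ u` commuting with `u`:
`a * s = w * v` with `w` an involution, `v ∈ O(C_G(w))`, and `w = a₁ * s` for a conjugate `a₁` of `u`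
commuting with `s`. -/
theorem zs_local (hz : IsIsolatedInvolution u) (IH : ZSIH G) (hcon : ¬ ZSConcl G u) {s : G}
    (hs : orderOf s = 2) (hsu : Commute s u) (hne : s ≠ u) (g : G) :
    ∃ w v h : G, orderOf w = 2 ∧ v ∈ centralizerPPrimeCore 2 w ∧ g * u * g⁻¹ * s = w * v ∧
      Commute (h * u * h⁻¹) s ∧ w = h * u * h⁻¹ * s := by
  haveI : Fact (Nat.Prime 2) := ⟨Nat.prime_two⟩
  have huu := IsIsolatedInvolution.mul_self hz
  have hss := zs_mul_self_of_orderOf hs
  obtain ⟨a, hadef⟩ : ∃ a : G, a = g * u * g⁻¹ := ⟨_, rfl⟩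
  have ha : IsIsolatedInvolution a := by rw [hadef]; exact IsIsolatedInvolution.conj hz g
  rw [← hadef]
  have haa : a * a = 1 := IsIsolatedInvolution.mul_self ha
  have hainv : a⁻¹ = a := inv_eq_of_mul_eq_one_right haa
  have hsinv : s⁻¹ = s := inv_eq_of_mul_eq_one_right hss
  have hnc : ∀ k : G, k * a * k⁻¹ ≠ s := by
    intro k hk
    apply hne
    have e : k * a * k⁻¹ = (k * g) * u * (k * g)⁻¹ := by rw [hadef]; group
    rw [e] at hk
    have hc : Commute u ((k * g) * u * (k * g)⁻¹) := by rw [hk]; exact hsu.symm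
    rw [← hk]; exact hz.2 _ hc
  obtain ⟨m, hm0, hord, hw, haw, hsw⟩ := zs_dihedral haa hss hnc
  obtain ⟨x, hx⟩ : ∃ x : G, x = a * s := ⟨_, rfl⟩
  rw [← hx] at hord hw haw hsw ⊢
  obtain ⟨w, hwdef⟩ : ∃ w : G, w = x ^ m := ⟨_, rfl⟩
  rw [← hwdef] at hw haw hsw
  have hww : w * w = 1 := zs_mul_self_of_orderOf hw
  have hwinv : w⁻¹ = w := inv_eq_of_mul_eq_one_right hww
  have hxx : x * x ∈ centralizerPPrimeCore 2 w := by
    have := zs_core_comm hz IH hcon hw ha haw hsw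
    rw [hainv, hsinv] at this
    have e : a * s * a * s = x * x := by rw [hx]; group
    rwa [e] at this
  have hmodd : Odd m := by
    have h1 := zs_core_odd hxx
    have h2 : orderOf (x * x) = m := by
      have hg2 : Nat.gcd (2 * m) 2 = 2 := by
        rw [Nat.gcd_comm]; exact Nat.gcd_eq_left (dvd_mul_right 2 m)
      rw [← pow_two, orderOf_pow' x two_ne_zero, hord, hg2]
      exact Nat.mul_div_cancel_left m (by norm_num)
    rw [h2] at h1; exact h1
  obtain ⟨i, hi⟩ := hmodd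
  obtain ⟨v, hvdef⟩ : ∃ v : G, v = (x * x) ^ (i + 1) := ⟨_, rfl⟩
  have hv : v ∈ centralizerPPrimeCore 2 w := by
    rw [hvdef]; exact Subgroup.pow_mem _ hxx _
  have hxwv : x = w * v := by
    rw [hwdef, hvdef, ← pow_two, ← pow_mul, ← pow_add]
    have : m + 2 * (i + 1) = orderOf x + 1 := by rw [hord]; omega
    rw [this, pow_succ, pow_orderOf_eq_one, one_mul]
  -- Sylow theory in the centralizer of `w`
  have haH : a ∈ Subgroup.centralizer ({w} : Set G) :=
    Subgroup.mem_centralizer_singleton_iff.2 haw.eq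
  have hsH : s ∈ Subgroup.centralizer ({w} : Set G) :=
    Subgroup.mem_centralizer_singleton_iff.2 hsw.eq
  have hVs : IsPGroup 2 (Subgroup.zpowers (⟨s, hsH⟩ : Subgroup.centralizer ({w} : Set G))) := by
    apply IsPGroup.of_card (n := 1)
    rw [Nat.card_zpowers, pow_one, ← Subgroup.orderOf_coe]; exact hs
  have hVa : IsPGroup 2 (Subgroup.zpowers (⟨a, haH⟩ : Subgroup.centralizer ({w} : Set G))) := by
    apply IsPGroup.of_card (n := 1)
    rw [Nat.card_zpowers, pow_one, ← Subgroup.orderOf_coe]; exact ha.1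
  obtain ⟨Q, hQ⟩ := hVs.exists_le_sylow
  obtain ⟨h, hh⟩ := Cfsg.Agent.Lib.Helper2.QuatSylow.exists_conj_le Q hVa
  have h1 : h * ⟨a, haH⟩ * h⁻¹ ∈ (Q : Subgroup (Subgroup.centralizer ({w} : Set G))) :=
    hh _ (Subgroup.mem_zpowers _)
  have h2 : (⟨s, hsH⟩ : Subgroup.centralizer ({w} : Set G)) ∈
      (Q : Subgroup (Subgroup.centralizer ({w} : Set G))) := hQ (Subgroup.mem_zpowers _)
  have h3 : h * ⟨a, haH⟩ * h⁻¹ * ⟨s, hsH⟩ ∈
      (Q : Subgroup (Subgroup.centralizer ({w} : Set G))) := Subgroup.mul_mem _ h1 h2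
  obtain ⟨k, hk⟩ := Q.isPGroup' ⟨_, h3⟩
  obtain ⟨hG, hhG⟩ : ∃ hG : G, hG = (h : G) := ⟨_, rfl⟩
  have hk' : (hG * a * hG⁻¹ * s) ^ (2 ^ k) = 1 := by
    have := congrArg (fun y : (Q : Subgroup (Subgroup.centralizer ({w} : Set G))) =>
      ((y : Subgroup.centralizer ({w} : Set G)) : G)) hk
    rw [hhG]
    simpa using this
  have hhw : Commute hG w := by
    rw [hhG]; exact Subgroup.mem_centralizer_singleton_iff.1 h.2
  have hn1 : hG * a * hG⁻¹ * a⁻¹ ∈ centralizerPPrimeCore 2 w := by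
    have := Subgroup.inv_mem _ (zs_core_comm hz IH hcon hw ha haw hhw)
    have e : (a * hG * a⁻¹ * hG⁻¹)⁻¹ = hG * a * hG⁻¹ * a⁻¹ := by group
    rwa [e] at this
  have hy : w * (hG * a * hG⁻¹ * s) ∈ centralizerPPrimeCore 2 w := by
    have h4 := Subgroup.mul_mem _ (zs_core_conj hn1 (Commute.refl w)) hv
    have e : w * (hG * a * hG⁻¹ * a⁻¹) * w⁻¹ * v = w * (hG * a * hG⁻¹ * s) := by
      rw [hwinv]
      calc w * (hG * a * hG⁻¹ * a⁻¹) * w * v = w * (hG * a * hG⁻¹ * a⁻¹) * (w * v) := by group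
        _ = w * (hG * a * hG⁻¹ * a⁻¹) * x := by rw [← hxwv]
        _ = w * (hG * a * hG⁻¹ * s) := by rw [hx]; group
    rwa [e] at h4
  have hcomm : Commute w (hG * a * hG⁻¹ * s) :=
    ((hhw.symm.mul_right haw.symm).mul_right hhw.symm.inv_right).mul_right hsw.symm
  have hy1 : (w * (hG * a * hG⁻¹ * s)) ^ (2 ^ (k + 1)) = 1 := by
    rw [hcomm.mul_pow, pow_succ', pow_mul, pow_mul', hk', one_pow, mul_one, pow_two, hww, one_pow]
  have hy2 : w * (hG * a * hG⁻¹ * s) = 1 := by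
    have hodd := zs_core_odd hy
    have hdvd : orderOf (w * (hG * a * hG⁻¹ * s)) ∣ 2 ^ (k + 1) := orderOf_dvd_of_pow_eq_one hy1
    have hcop : Nat.Coprime (orderOf (w * (hG * a * hG⁻¹ * s))) (2 ^ (k + 1)) :=
      Nat.Coprime.pow_right _ (Nat.coprime_two_right.2 hodd)
    exact orderOf_eq_one_iff.1 (Nat.Coprime.eq_one_of_dvd hcop hdvd)
  have hweq : w = hG * a * hG⁻¹ * s := by
    have := eq_inv_of_mul_eq_one_right hy2
    rw [this, hwinv]
  have e : (hG * g) * u * (hG * g)⁻¹ = hG * a * hG⁻¹ := by rw [hadef]; group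
  refine ⟨w, v, hG * g, hw, hv, hxwv, ?_, ?_⟩
  · rw [e]
    have h5 : hG * a * hG⁻¹ = w * s := by
      rw [hweq, mul_assoc (hG * a * hG⁻¹), hss, mul_one]
    rw [h5]
    exact hsw.symm.mul_left (Commute.refl s)
  · rw [e]; exact hweq

/-- Fusion of involutions in the centralizer of `u` is controlled by the centralizer. -/
theorem zs_fusion (hz : IsIsolatedInvolution u) {s : G} (hsu : Commute s u) {h : G}
    (hc : Commute (h * u * h⁻¹) s) : ∃ c : G, Commute c u ∧ h⁻¹ * s * h = c * s * c⁻¹ := by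
  have hyz : Commute (h⁻¹ * s * h) u := by
    have h1 := hc.eq
    unfold Commute SemiconjBy
    calc h⁻¹ * s * h * u = h⁻¹ * (s * (h * u * h⁻¹)) * h := by group
      _ = h⁻¹ * ((h * u * h⁻¹) * s) * h := by rw [h1]
      _ = u * (h⁻¹ * s * h) := by group
  obtain ⟨c, -, hcz, hcs⟩ := Cfsg.Agent.S1182.result u hz ⊤
    (by rw [Subgroup.normalizer_eq_top_iff.mpr (inferInstance : (⊤ : Subgroup G).Normal)]; trivial)
    s (h⁻¹ * s * h) trivial trivial hsu hyz h⁻¹ trivial (by rw [inv_inv])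
  exact ⟨c, hcz, hcs.symm⟩

end

end Cfsg.Agent.Lib.Helper8
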