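import Mathlib
import Cfsg.Agent.Lib.Helper8.ZS5
import Cfsg.Agent.Lib.Helper8.PB1
import Cfsg.Agent.Lib.Helper8.QB15
import Cfsg.Agent.Lib.Helper8.ClassAlgebra
import Cfsg.Agent.Lib.Helper8.CharKernel
import Cfsg.Agent.Lib.Helper8.BlockDefect
import Cfsg.Agent.Lib.Helper8.Deflation

/-!
# Glauberman's Z*-theorem: the character-theoretic step
-/

set_option autoImplicit false
set_option maxHeartbeats 1600000

namespace Cfsg.Agent.Lib.Helper8

open Cfsg
open scoped ComplexConjugate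
open Cfsg.Agent.Lib.Helper1 Cfsg.Agent.Lib.Helper4 Cfsg.Agent.Lib.Helper3

universe u

section

variable {G : Type u} [Group G] [Fintype G] {M : Ideal AlgInt} {u : G}

/-- Principal block characters take the same value on all `a * s`, `a` a conjugate of `u`. -/
theorem zs_char_pointwise (hM : IsPModular 2 M) (hz : IsIsolatedInvolution u) (IH : ZSIH G)
    (hcon : ¬ ZSConcl G u) {s : G} (hs : orderOf s = 2) (hsu : Commute s u) (hne : s ≠ u)
    {χ : IrrCharacter G} (hχ : χ ∈ principalBlock M G) (g : G) :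
    (χ : G → ℂ) (g * u * g⁻¹ * s) = (χ : G → ℂ) (u * s) := by
  haveI : Fact (Nat.Prime 2) := ⟨Nat.prime_two⟩
  have hcf : IsClassFunction G (χ : G → ℂ) := isClassFunction_irr χ.2
  obtain ⟨w, v, h, hw, hv, hxwv, hc, hweq⟩ := zs_local hz IH hcon hs hsu hne g
  obtain ⟨c, hcu, hcs⟩ := zs_fusion hz hsu hc
  rw [hxwv, principal_apply_mul_core hM ⟨1, by rw [hw, pow_one]⟩ hv hχ, hweq]
  have e1 : h * u * h⁻¹ * s = h * (u * (h⁻¹ * s * h)) * h⁻¹ := by group
  rw [e1, hcf, hcs]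
  have e2 : u * (c * s * c⁻¹) = c * (u * s) * c⁻¹ := by
    have := hcu.eq
    calc u * (c * s * c⁻¹) = (u * c) * s * c⁻¹ := by group
      _ = (c * u) * s * c⁻¹ := by rw [this]
      _ = c * (u * s) * c⁻¹ := by group
  rw [e2, hcf]

/-- `χ(u) χ(s) = χ(1) χ(us)` for principal block characters. -/
theorem zs_char_mul (hM : IsPModular 2 M) (hz : IsIsolatedInvolution u) (IH : ZSIH G)
    (hcon : ¬ ZSConcl G u) {s : G} (hs : orderOf s = 2) (hsu : Commute s u) (hne : s ≠ u)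
    {χ : IrrCharacter G} (hχ : χ ∈ principalBlock M G) :
    (χ : G → ℂ) u * (χ : G → ℂ) s = (χ : G → ℂ) 1 * (χ : G → ℂ) (u * s) := by
  have hcf : IsClassFunction G (χ : G → ℂ) := isClassFunction_irr χ.2
  have h1 := sum_irr_mul_conj χ.2 s u
  have h2 : ∀ y : G, (χ : G → ℂ) (s * (y * u * y⁻¹)) = (χ : G → ℂ) (u * s) := by
    intro y
    have e : s * (y * u * y⁻¹) = s * (y * u * y⁻¹ * s) * s⁻¹ := by group
    rw [e, hcf]
    exact zs_char_pointwise hM hz IH hcon hs hsu hne hχ y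
  rw [Finset.sum_congr rfl (fun y _ => h2 y), Finset.sum_const, Finset.card_univ,
    nsmul_eq_mul] at h1
  have hG : (Fintype.card G : ℂ) ≠ 0 := Nat.cast_ne_zero.2 Fintype.card_pos.ne'
  have h0 : (χ : G → ℂ) 1 ≠ 0 := irr_apply_one_ne_zero χ.2
  rw [eq_div_iff h0] at h1
  have h3 : (Fintype.card G : ℂ) * ((χ : G → ℂ) u * (χ : G → ℂ) s) =
      (Fintype.card G : ℂ) * ((χ : G → ℂ) 1 * (χ : G → ℂ) (u * s)) := by
    linear_combination -h1
  exact mul_left_cancel₀ hG h3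

end

end Cfsg.Agent.Lib.Helper8
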