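import Mathlib
import Cfsg.Agent.Lib.Helper8.ZS6
import Cfsg.Agent.Lib.Helper8.TildeBlock
import Cfsg.Agent.Lib.Helper8.KF4

/-!
# Glauberman's Z*-theorem: conclusion

`zstar_isolated`: an isolated involution of a finite group is central modulo a normal subgroup of
odd order.
-/

set_option autoImplicit false
set_option maxHeartbeats 1600000

namespace Cfsg.Agent.Lib.Helper8

open Cfsg
open scoped ComplexConjugate
open Cfsg.Agent.Lib.Helper1 Cfsg.Agent.Lib.Helper4 Cfsg.Agent.Lib.Helper3

universe u

section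

variable {G : Type u} [Group G] [Fintype G] {M : Ideal AlgInt} {u : G}

/-- The existence of an involution `s ≠ u` commuting with `u` is contradictory in a minimal
counterexample. -/
theorem zs_caseB [Fintype (IrrCharacter G)] [Fintype ↥(principalBlock M G)]
    (hM : IsPModular 2 M) (hz : IsIsolatedInvolution u) (IH : ZSIH G) (hcon : ¬ ZSConcl G u)
    {s : G} (hs : orderOf s = 2) (hsu : Commute s u) (hne : s ≠ u) : False := by
  classical
  haveI : Fact (Nat.Prime 2) := ⟨Nat.prime_two⟩
  have hp2 := Nat.prime_two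
  have huu := IsIsolatedInvolution.mul_self hz
  have huinv := IsIsolatedInvolution.inv_eq hz
  have hss := zs_mul_self_of_orderOf hs
  have hs1 := zs_ne_one_of_orderOf hs
  have hN := zs_r3 hz IH hcon
  have husus : (u * s) * (u * s) = 1 := by
    calc (u * s) * (u * s) = u * (s * u) * s := by group
      _ = u * (u * s) * s := by rw [hsu.eq]
      _ = (u * u) * (s * s) := by group
      _ = 1 := by rw [huu, hss, mul_one]
  have hus1 : u * s ≠ 1 := by
    intro h
    apply hne
    have := eq_inv_of_mul_eq_one_right h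
    rw [this, huinv]
  have hus2 : orderOf (u * s) = 2 := zs_orderOf_of_mul_self husus hus1
  have hus_u : Commute (u * s) u := (Commute.refl u).mul_left hsu
  have hus_ne : u * s ≠ u := by
    intro h
    apply hs1
    exact mul_left_cancel (h.trans (mul_one u).symm)
  have huus : u * (u * s) = s := by rw [← mul_assoc, huu, one_mul]
  have L1 : ∀ i : ↥(principalBlock M G), ((i : IrrCharacter G) : G → ℂ) u *
      ((i : IrrCharacter G) : G → ℂ) s = ((i : IrrCharacter G) : G → ℂ) 1 *
        ((i : IrrCharacter G) : G → ℂ) (u * s) :=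
    fun i => zs_char_mul hM hz IH hcon hs hsu hne i.2
  have L2 : ∀ i : ↥(principalBlock M G), ((i : IrrCharacter G) : G → ℂ) u *
      ((i : IrrCharacter G) : G → ℂ) (u * s) = ((i : IrrCharacter G) : G → ℂ) 1 *
        ((i : IrrCharacter G) : G → ℂ) s := by
    intro i
    have := zs_char_mul hM hz IH hcon hus2 hus_u hus_ne i.2
    rwa [huus] at this
  -- orthogonality
  have hs_part : IsPPart 2 s s := isPPart_self ⟨1, by rw [hs, pow_one]⟩ hp2
  have h1_part : IsPPart 2 (1 : G) 1 := isPPart_self ⟨0, by rw [orderOf_one, pow_zero]⟩ hp2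
  have hu_part : IsPPart 2 u u := isPPart_self ⟨1, by rw [hz.1, pow_one]⟩ hp2
  have hns1 : ¬ IsConj s 1 := by
    rw [isConj_one_left]; exact hs1
  have hnsu : ¬ IsConj s u := by
    rw [isConj_iff]
    rintro ⟨c, hc⟩
    apply hne
    have e : s = c⁻¹ * u * c⁻¹⁻¹ := by rw [← hc]; group
    have hcomm : Commute u (c⁻¹ * u * c⁻¹⁻¹) := by rw [← e]; exact hsu.symm
    rw [e]; exact hz.2 _ hcomm
  have O1 := prin_orth_subtype hM hs_part h1_part hns1
  have O2 := prin_orth_subtype hM hs_part hu_part hnsu
  have hdeg : ∀ χ : IrrCharacter G, ∃ n : ℕ, (χ : G → ℂ) 1 = (n : ℂ) := fun χ =>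
    ⟨_, (irr_apply_one_eq_charDegree χ.2).1⟩
  have conj1 : ∀ χ : IrrCharacter G, conj ((χ : G → ℂ) 1) = (χ : G → ℂ) 1 := by
    intro χ
    obtain ⟨n, hn⟩ := hdeg χ
    rw [hn, Complex.conj_natCast]
  have conju : ∀ χ : IrrCharacter G, conj ((χ : G → ℂ) u) = (χ : G → ℂ) u := by
    intro χ
    rw [← isCharacter_inv (isCharacter_of_irr χ.2) u, huinv]
  have hsum : ∑ i : ↥(principalBlock M G), ((i : IrrCharacter G) : G → ℂ) s *
      (((i : IrrCharacter G) : G → ℂ) 1 + ((i : IrrCharacter G) : G → ℂ) u) = 0 := by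
    have : ∑ i : ↥(principalBlock M G), ((i : IrrCharacter G) : G → ℂ) s *
        (((i : IrrCharacter G) : G → ℂ) 1 + ((i : IrrCharacter G) : G → ℂ) u) =
        ∑ i : ↥(principalBlock M G), ((i : IrrCharacter G) : G → ℂ) s *
          conj (((i : IrrCharacter G) : G → ℂ) 1) +
        ∑ i : ↥(principalBlock M G), ((i : IrrCharacter G) : G → ℂ) s *
          conj (((i : IrrCharacter G) : G → ℂ) u) := by
      rw [← Finset.sum_add_distrib]
      refine Finset.sum_congr rfl fun i _ => ?_
      rw [conj1, conju]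
      ring
    rw [this, O1, O2, add_zero]
  -- each term has nonnegative real part
  have hterm : ∀ i : ↥(principalBlock M G), 0 ≤ (((i : IrrCharacter G) : G → ℂ) s *
      (((i : IrrCharacter G) : G → ℂ) 1 + ((i : IrrCharacter G) : G → ℂ) u)).re := by
    intro i
    have key : (((i : IrrCharacter G) : G → ℂ) u - ((i : IrrCharacter G) : G → ℂ) 1) *
        ((((i : IrrCharacter G) : G → ℂ) u + ((i : IrrCharacter G) : G → ℂ) 1) *
          ((i : IrrCharacter G) : G → ℂ) s) = 0 := by
      linear_combination ((i : IrrCharacter G) : G → ℂ) u * L1 i +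
        ((i : IrrCharacter G) : G → ℂ) 1 * L2 i
    rcases mul_eq_zero.1 key with h | h
    · have hu1 : ((i : IrrCharacter G) : G → ℂ) u = ((i : IrrCharacter G) : G → ℂ) 1 :=
        sub_eq_zero.1 h
      obtain ⟨K, hKn, hK⟩ := exists_normal_ker (isCharacter_of_irr (i : IrrCharacter G).2)
      have hKtop := hN K hKn ((hK u).2 hu1)
      have hs1' : ((i : IrrCharacter G) : G → ℂ) s = ((i : IrrCharacter G) : G → ℂ) 1 :=
        (hK s).1 (by rw [hKtop]; trivial)
      obtain ⟨n, hn⟩ := hdeg (i : IrrCharacter G)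
      rw [hs1', hu1, hn]
      have : ((n : ℂ) * ((n : ℂ) + (n : ℂ))) = ((n * (n + n) : ℕ) : ℂ) := by push_cast; ring
      rw [this, Complex.natCast_re]
      exact Nat.cast_nonneg _
    · have : ((i : IrrCharacter G) : G → ℂ) s *
          (((i : IrrCharacter G) : G → ℂ) 1 + ((i : IrrCharacter G) : G → ℂ) u) = 0 := by
        linear_combination h
      rw [this]
      simp
  -- the trivial character contributes `2`
  have h0 := Finset.single_le_sum (f := fun i : ↥(principalBlock M G) =>
      (((i : IrrCharacter G) : G → ℂ) s *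
        (((i : IrrCharacter G) : G → ℂ) 1 + ((i : IrrCharacter G) : G → ℂ) u)).re)
    (fun i _ => hterm i)
    (Finset.mem_univ (⟨trivIrr G, trivIrr_mem_principalBlock (isPModular_ne_top hM)⟩ :
      ↥(principalBlock M G)))
  rw [← Complex.re_sum, hsum] at h0
  simp only [trivIrr_apply] at h0
  norm_num at h0

end

section

variable {G : Type u} [Group G] [Finite G] {u : G}

/-- The inductive step of the Z*-theorem. -/
theorem zs_step (hz : IsIsolatedInvolution u) (IH : ZSIH G) : ZSConcl G u := by
  by_contra hcon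
  classical
  haveI : Fact (Nat.Prime 2) := ⟨Nat.prime_two⟩
  haveI : Fintype G := Fintype.ofFinite G
  haveI : Fintype (IrrCharacter G) := Fintype.ofFinite _
  obtain ⟨M, hM⟩ := exists_isPModular 2
  haveI : Fintype ↥(principalBlock M G) := Fintype.ofFinite _
  obtain ⟨s, hs, hsu, hne⟩ := zs_caseA hz IH hcon
  exact zs_caseB hM hz IH hcon hs hsu hne

end

theorem zs_main : ∀ (n : ℕ) (G : Type u) [Group G] [Finite G] (u : G), Nat.card G = n →
    IsIsolatedInvolution u → ZSConcl G u := by
  intro n
  induction n using Nat.strong_induction_on with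
  | _ n ih =>
    intro G _ _ u hn hz
    apply zs_step hz
    intro H _ _ v hlt hv
    exact ih (Nat.card H) (by rw [← hn]; exact hlt) H v rfl hv

/-- **Glauberman's Z*-theorem** for isolated involutions. -/
theorem zstar_isolated {G : Type u} [Group G] [Finite G] {u : G} (hz : IsIsolatedInvolution u) :
    ∃ N : Subgroup G, N.Normal ∧ Odd (Nat.card N) ∧ ∀ g : G, u * g * u⁻¹ * g⁻¹ ∈ N :=
  zs_main _ G u rfl hz

/-- The Z*-theorem in terms of the `2'`-core. -/
theorem zstar_pPrimeCore {G : Type u} [Group G] [Finite G] {u : G} (hz : IsIsolatedInvolution u)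
    (g : G) : u * g * u⁻¹ * g⁻¹ ∈ pPrimeCore 2 G := by
  obtain ⟨N, hN, hodd, hc⟩ := zstar_isolated hz
  exact Cfsg.Agent.Lib.Helper6.le_pPrimeCore hN
    (Nat.Coprime.symm (Nat.coprime_two_left.2 hodd)) (hc g)

end Cfsg.Agent.Lib.Helper8
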