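import Cfsg.Agent.Lib.Helper1.GC0
import Cfsg.Agent.Lib.Helper4.GlFixP1

/-!
# S3067 swarm, package (E5') (helper8)

`fp`  : the prime-order fixed point lemma in the shape of helper1's stub (`a⁻¹ * x * a`).
`E5`  : an `a`-invariant subgroup `H ≤ G` containing `u = g⁻¹ τ g`: the point `g⁻¹ a g` of `u` is
        `H`-conjugate to `a`.
-/

set_option autoImplicit false

namespace Cfsg.Agent.Lib.Helper8.GlFixE5

open Cfsg.Agent.Lib.Helper1.GC

universe u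
variable {Γ : Type u} [Group Γ] [Finite Γ] {G : Subgroup Γ} {a τ : Γ} {r : ℕ}

/-- The orbit of `c` under conjugation by `H`. -/
def orb (H : Subgroup Γ) (c : Γ) : Set Γ := {y | ∃ x ∈ H, y = x⁻¹ * c * x}

omit [Finite Γ] in
theorem self_mem_orb (H : Subgroup Γ) (c : Γ) : c ∈ orb H c := ⟨1, H.one_mem, by group⟩

omit [Finite Γ] in
theorem conj_mem_orb {H : Subgroup Γ} {c y z : Γ} (hy : y ∈ orb H c) (hz : z ∈ H) :
    z⁻¹ * y * z ∈ orb H c := by
  obtain ⟨x, hx, rfl⟩ := hy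
  exact ⟨x * z, H.mul_mem hx hz, by group⟩

omit [Finite Γ] in
/-- orbit-stabilizer: the length of an orbit divides the order of the acting subgroup. -/
theorem orb_card_dvd (H : Subgroup Γ) (b : Γ) : (orb H b).ncard ∣ Nat.card H := by
  let _ : MulAction H Γ := MulAction.compHom Γ ((MulAut.conj : Γ →* MulAut Γ).comp H.subtype)
  have h1 : (MulAction.orbit H b).ncard ∣ Nat.card H := by
    rw [← MulAction.index_stabilizer]
    exact Subgroup.index_dvd_card _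
  have h2 : MulAction.orbit H b = orb H b := by
    ext y
    constructor
    · rintro ⟨x, rfl⟩
      refine ⟨(x : Γ)⁻¹, H.inv_mem x.2, ?_⟩
      show (MulAut.conj (x : Γ)) b = _
      simp [MulAut.conj_apply]
    · rintro ⟨x, hx, rfl⟩
      refine ⟨⟨x⁻¹, H.inv_mem hx⟩, ?_⟩
      show (MulAut.conj (x⁻¹ : Γ)) b = _
      simp
  rw [← h2]; exact h1

/-- (FP) prime-order fixed-point lemma, stub shape. -/
theorem fp (h : Hyp G a τ r) (S : Set Γ) (hS : ∀ x ∈ S, a⁻¹ * x * a ∈ S)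
    (hr : ¬ r ∣ S.ncard) : ∃ x ∈ S, Commute x a := by
  have : Fact r.Prime := ⟨h.hr⟩
  have ha : (a⁻¹) ^ r = 1 := by rw [inv_pow, h.a_pow, inv_one]
  obtain ⟨x, hx, hc⟩ := Cfsg.Agent.Lib.Helper4.GlFixP1.exists_commute_of_invariant a⁻¹ ha S
    (fun x hx => by simpa using hS x hx) hr
  exact ⟨x, hx, by simpa using hc.inv_right⟩

/-- an involution acting by conjugation on a set of odd size fixes an element. -/
theorem inv_fp {u : Γ} (hu : u * u = 1) (S : Set Γ) (hS : ∀ x ∈ S, u⁻¹ * x * u ∈ S)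
    (hodd : Odd S.ncard) : ∃ x ∈ S, Commute x u := by
  have : Fact (Nat.Prime 2) := ⟨Nat.prime_two⟩
  have hu2 : (u⁻¹) ^ 2 = 1 := by rw [inv_pow, pow_two, hu, inv_one]
  have hr : ¬ 2 ∣ S.ncard := by
    rw [← even_iff_two_dvd, Nat.not_even_iff_odd]; exact hodd
  obtain ⟨x, hx, hc⟩ := Cfsg.Agent.Lib.Helper4.GlFixP1.exists_commute_of_invariant u⁻¹ hu2 S
    (fun x hx => by simpa using hS x hx) hr
  exact ⟨x, hx, by simpa using hc.inv_right⟩

/-- the `H`-orbit of the point of `u = g⁻¹ τ g ∈ H` has odd length. -/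
theorem orb_odd (h : Hyp G a τ r) (H : Subgroup Γ) (hHG : H ≤ G) {g : Γ} (hg : g ∈ G)
    (hu : g⁻¹ * τ * g ∈ H) : Odd (orb H (g⁻¹ * a * g)).ncard := by
  by_contra hne
  rw [Nat.not_odd_iff_even] at hne
  set b := g⁻¹ * a * g with hb
  set t := g⁻¹ * τ * g with ht
  have htK : IsK G τ t := ⟨g, hg, rfl⟩
  have htt : t * t = 1 := htK.mul_self h
  have htb : Commute t b := h.K_commute_pt
  have hfin : (orb H b).Finite := Set.toFinite _
  have hbm : b ∈ orb H b := self_mem_orb H b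
  have hcard : ((orb H b) \ {b}).ncard = (orb H b).ncard - 1 :=
    Set.ncard_sdiff_singleton_of_mem hbm
  have hpos : 0 < (orb H b).ncard := (Set.ncard_pos hfin).2 ⟨b, hbm⟩
  have hodd : Odd ((orb H b) \ {b}).ncard := by
    rw [hcard]
    obtain ⟨k, hk⟩ := hne
    rw [hk] at hpos ⊢
    exact ⟨k - 1, by omega⟩
  have hS : ∀ x ∈ (orb H b) \ {b}, t⁻¹ * x * t ∈ (orb H b) \ {b} := by
    rintro x ⟨hx, hxb⟩
    refine ⟨conj_mem_orb hx hu, ?_⟩
    intro hxe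
    apply hxb
    rw [Set.mem_singleton_iff] at hxe ⊢
    have : x = t * (t⁻¹ * x * t) * t⁻¹ := by group
    rw [this, hxe]
    have e := htb.eq
    calc t * b * t⁻¹ = (t * b) * t⁻¹ := by group
      _ = (b * t) * t⁻¹ := by rw [e]
      _ = b := by group
  obtain ⟨y, ⟨hy, hyb⟩, hc⟩ := inv_fp htt _ hS hodd
  obtain ⟨x, hx, rfl⟩ := hy
  have hpt : IsPt G a (x⁻¹ * b * x) := ⟨g * x, G.mul_mem hg (hHG hx), by rw [hb]; group⟩
  have := h.point_unique hg hpt hc.symm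
  exact hyb (by rw [Set.mem_singleton_iff]; exact this)

/-- (E5') an `a`-invariant subgroup `H ≤ G` containing `u = g⁻¹ τ g ∈ K`: the point `g⁻¹ a g` of `u`
is `H`-conjugate to `a`. -/
theorem E5 (h : Hyp G a τ r) (H : Subgroup Γ) (hHG : H ≤ G) (hinv : ∀ x ∈ H, a⁻¹ * x * a ∈ H)
    {g : Γ} (hg : g ∈ G) (hu : g⁻¹ * τ * g ∈ H) : ∃ x ∈ H, x⁻¹ * (g⁻¹ * a * g) * x = a := by
  set b := g⁻¹ * a * g with hb
  set t := g⁻¹ * τ * g with ht
  have htK : IsK G τ t := ⟨g, hg, rfl⟩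
  have htt : t * t = 1 := htK.mul_self h
  -- the conjugate point b' = a⁻¹ b a is the point of t' = a⁻¹ t a ∈ H
  have hg' : a⁻¹ * g * a ∈ G := h.hnorm g hg
  have eτ : a⁻¹ * τ * a = τ := by
    have e := h.tau_comm.eq
    calc a⁻¹ * τ * a = a⁻¹ * (τ * a) := by group
      _ = a⁻¹ * (a * τ) := by rw [e]
      _ = τ := by group
  have et' : (a⁻¹ * g * a)⁻¹ * τ * (a⁻¹ * g * a) = a⁻¹ * t * a := by
    rw [ht]
    calc (a⁻¹ * g * a)⁻¹ * τ * (a⁻¹ * g * a) = a⁻¹ * g⁻¹ * (a * τ * a⁻¹) * g * a := by group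
      _ = a⁻¹ * g⁻¹ * τ * g * a := by
          have : a * τ * a⁻¹ = τ := by
            have e := h.tau_comm.eq
            calc a * τ * a⁻¹ = (a * τ) * a⁻¹ := by group
              _ = (τ * a) * a⁻¹ := by rw [e]
              _ = τ := by group
          rw [this]
      _ = a⁻¹ * (g⁻¹ * τ * g) * a := by group
  have eb' : (a⁻¹ * g * a)⁻¹ * a * (a⁻¹ * g * a) = a⁻¹ * b * a := by
    rw [hb]; group
  have hu' : (a⁻¹ * g * a)⁻¹ * τ * (a⁻¹ * g * a) ∈ H := by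
    rw [et']; exact hinv t hu
  have hodd' : Odd (orb H (a⁻¹ * b * a)).ncard := by
    have := orb_odd h H hHG hg' hu'
    rwa [eb'] at this
  -- t fixes a point of the orbit of b'
  have hS' : ∀ x ∈ orb H (a⁻¹ * b * a), t⁻¹ * x * t ∈ orb H (a⁻¹ * b * a) :=
    fun x hx => conj_mem_orb hx hu
  obtain ⟨y, hy, hc⟩ := inv_fp htt _ hS' hodd'
  obtain ⟨z, hz, rfl⟩ := hy
  have hpt : IsPt G a (z⁻¹ * (a⁻¹ * b * a) * z) :=
    ⟨(a⁻¹ * g * a) * z, G.mul_mem hg' (hHG hz), by rw [hb]; group⟩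
  have hzb : z⁻¹ * (a⁻¹ * b * a) * z = b := h.point_unique hg hpt hc.symm
  -- so the orbit of b is a-invariant
  have hSa : ∀ x ∈ orb H b, a⁻¹ * x * a ∈ orb H b := by
    rintro x ⟨w, hw, rfl⟩
    refine ⟨z⁻¹ * (a⁻¹ * w * a), H.mul_mem (H.inv_mem hz) (hinv w hw), ?_⟩
    have e1 : a⁻¹ * (w⁻¹ * b * w) * a = (a⁻¹ * w * a)⁻¹ * (a⁻¹ * b * a) * (a⁻¹ * w * a) := by group
    have e2 : a⁻¹ * b * a = z * b * z⁻¹ := by
      calc a⁻¹ * b * a = z * (z⁻¹ * (a⁻¹ * b * a) * z) * z⁻¹ := by group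
        _ = z * b * z⁻¹ := by rw [hzb]
    rw [e1, e2]; group
  have hr : ¬ r ∣ (orb H b).ncard := fun hd =>
    h.hcop ((hd.trans (orb_card_dvd H b)).trans (Subgroup.card_dvd_of_le hHG))
  obtain ⟨y, hy, hya⟩ := fp h _ hSa hr
  obtain ⟨x, hx, rfl⟩ := hy
  have hpt2 : IsPt G a (x⁻¹ * b * x) := ⟨g * x, G.mul_mem hg (hHG hx), by rw [hb]; group⟩
  exact ⟨x, hx, hpt2.eq_of_commute h hya⟩

end Cfsg.Agent.Lib.Helper8.GlFixE5
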