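import Mathlib

set_option autoImplicit false

/-! Shared definitions for S4359 (Glauberman 1969: `|P| = p ^ t`, `t ≤ 3 n`, `t ≠ 3 n - 1`). -/

namespace Cfsg.Agent.Lib.Helper8.Gl69

open scoped Pointwise

universe u

variable {G : Type u} [Group G]

/-- the conjugate `g⁻ⁱ P gⁱ`, for an integer `i`. -/
def cj (P : Subgroup G) (g : G) (i : ℤ) : Subgroup G := MulAut.conj (g ^ i)⁻¹ • P

theorem mem_cj {P : Subgroup G} {g : G} {i : ℤ} {y : G} :
    y ∈ cj P g i ↔ g ^ i * y * (g ^ i)⁻¹ ∈ P := by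
  unfold cj
  rw [Subgroup.mem_pointwise_smul_iff_inv_smul_mem, ← map_inv, inv_inv, MulAut.smul_def,
    MulAut.conj_apply]

/-- `P_{0,j} = P_0 ⊓ P_1 ⊓ … ⊓ P_j`. -/
def chain (P : Subgroup G) (g : G) (j : ℕ) : Subgroup G :=
  ⨅ k ∈ Finset.range (j + 1), cj P g (k : ℤ)

/-- the canonical generators: `x (i + 1) = g⁻¹ x i g` and every window of `k ≤ t` consecutive
generators generates a subgroup of order `p ^ k`. -/
structure Seq (p t : ℕ) (g : G) (x : ℤ → G) : Prop where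
  shift : ∀ i : ℤ, x (i + 1) = g⁻¹ * x i * g
  card : ∀ (a : ℤ) (k : ℕ), k ≤ t →
    Nat.card (Subgroup.closure (x '' Set.Ico a (a + k))) = p ^ k

end Cfsg.Agent.Lib.Helper8.Gl69
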