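import Mathlib
import Cfsg.Prelude.Def_Characters
import Cfsg.Agent.Lib.Helper1.CycloNorm
import Cfsg.Agent.Lib.Helper8.GaloisAvg

/-!
# Families of Galois conjugates of cyclotomic numbers
-/

set_option autoImplicit false

namespace Cfsg.Agent.Lib.Helper8

open Cfsg.Agent.Lib.Helper1 Cfsg.Agent.Lib.Helper4

section

variable {K : Type*} [Field K] [CharZero K] (ι : K →+* ℂ)

/-- A family of complex numbers indexed by the Galois group is tracked when it consists of the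
images of the conjugates of one element of the field. -/
def Tracked (f : (K ≃ₐ[ℚ] K) → ℂ) : Prop := ∃ x : K, ∀ σ : K ≃ₐ[ℚ] K, ι (σ x) = f σ

variable {ι}

theorem tracked_ratCast (q : ℚ) : Tracked ι (fun _ => (q : ℂ)) := by
  refine ⟨(q : K), fun σ => ?_⟩
  rw [map_ratCast, map_ratCast]

theorem tracked_natCast (m : ℕ) : Tracked ι (fun _ => (m : ℂ)) := by
  refine ⟨(m : K), fun σ => ?_⟩
  rw [map_natCast, map_natCast]

theorem Tracked.add {f g : (K ≃ₐ[ℚ] K) → ℂ} (hf : Tracked ι f) (hg : Tracked ι g) :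
    Tracked ι (fun σ => f σ + g σ) := by
  obtain ⟨x, hx⟩ := hf
  obtain ⟨y, hy⟩ := hg
  exact ⟨x + y, fun σ => by rw [map_add, map_add, hx, hy]⟩

theorem Tracked.mul {f g : (K ≃ₐ[ℚ] K) → ℂ} (hf : Tracked ι f) (hg : Tracked ι g) :
    Tracked ι (fun σ => f σ * g σ) := by
  obtain ⟨x, hx⟩ := hf
  obtain ⟨y, hy⟩ := hg
  exact ⟨x * y, fun σ => by rw [map_mul, map_mul, hx, hy]⟩

theorem tracked_zero : Tracked ι (fun _ => (0 : ℂ)) :=
  ⟨0, fun σ => by rw [map_zero, map_zero]⟩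

theorem tracked_sum {α : Type*} (s : Finset α) (f : α → (K ≃ₐ[ℚ] K) → ℂ)
    (hf : ∀ a ∈ s, Tracked ι (f a)) : Tracked ι (fun σ => ∑ a ∈ s, f a σ) := by
  classical
  induction s using Finset.induction_on with
  | empty => simpa using tracked_zero
  | insert a s ha ih =>
    have h1 := hf a (Finset.mem_insert_self a s)
    have h2 := ih (fun a' ha' => hf a' (Finset.mem_insert_of_mem ha'))
    have := h1.add h2
    refine (show Tracked ι _ from ?_)
    convert this using 2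
    rw [Finset.sum_insert ha]

end

section

variable (n : ℕ) [NeZero n] {K : Type*} [Field K] [CharZero K] [IsCyclotomicExtension {n} ℚ K]
  (ι : K →+* ℂ)

theorem tracked_character {H : Type*} [Group H] [Finite H] {χ : H → ℂ}
    (hχ : Cfsg.IsCharacter H χ) (g : H) (hg : g ^ n = 1) (k : (K ≃ₐ[ℚ] K) → ℕ)
    (hk : ∀ (σ : K ≃ₐ[ℚ] K) (z : K), z ^ n = 1 → σ z = z ^ k σ) :
    Tracked ι (fun σ => χ (g ^ k σ)) := by
  obtain ⟨x, -, hx⟩ := exists_cyclo_of_character n ι hχ g hg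
  exact ⟨x, fun σ => hx σ (k σ) (hk σ)⟩

include n in
theorem card_le_sum_normSq_of_tracked [Fintype (K ≃ₐ[ℚ] K)] {f : (K ≃ₐ[ℚ] K) → ℂ}
    (hf : Tracked ι f) (hint : IsIntegral ℤ (f 1)) (h0 : f 1 ≠ 0) :
    (Fintype.card (K ≃ₐ[ℚ] K) : ℝ) ≤ ∑ σ : K ≃ₐ[ℚ] K, Complex.normSq (f σ) := by
  obtain ⟨x, hx⟩ := hf
  have hx1 : ι x = f 1 := by
    have := hx 1
    simpa using this
  have hx0 : x ≠ 0 := by
    intro h
    rw [h, map_zero] at hx1
    exact h0 hx1.symm
  have hxint : IsIntegral ℤ x := by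
    rw [← hx1] at hint
    exact (isIntegral_algHom_iff (ι.toIntAlgHom) ι.injective).1 hint
  have hprod := one_le_prod_norm n ι x hxint hx0
  have hprod2 : 1 ≤ ∏ σ : K ≃ₐ[ℚ] K, Complex.normSq (f σ) := by
    have h1 : ∀ σ : K ≃ₐ[ℚ] K, Complex.normSq (f σ) = ‖ι (σ x)‖ ^ 2 := by
      intro σ
      rw [hx σ, Complex.normSq_eq_norm_sq]
    rw [Finset.prod_congr rfl (fun σ _ => h1 σ), Finset.prod_pow]
    exact one_le_pow₀ hprod
  have hsum := card_le_sum_of_one_le_prod Finset.univ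
    (fun σ : K ≃ₐ[ℚ] K => Complex.normSq (f σ)) (fun σ _ => Complex.normSq_nonneg _) hprod2
  rwa [Finset.card_univ] at hsum

end

end Cfsg.Agent.Lib.Helper8
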