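import Mathlib
import Cfsg.Prelude.Def_Blocks
import Cfsg.Prelude.Def_BlockRank
import Cfsg.Agent.Lib.Helper1.CharFound8
import Cfsg.Agent.Lib.Helper8.KB1
import Cfsg.Agent.Lib.Helper8.KB2

/-!
# The contributions of a subsection under the Galois group
-/

set_option autoImplicit false

namespace Cfsg.Agent.Lib.Helper8

open Cfsg
open scoped ComplexConjugate
open Cfsg.Agent.Lib.Helper1 Cfsg.Agent.Lib.Helper4

section

variable {K : Type*} [Field K] [CharZero K] (ι : K →+* ℂ) (k : (K ≃ₐ[ℚ] K) → ℕ)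

/-- A family of functions on a group, indexed by the Galois group, is tracked when its values at
the `k σ`-th powers are tracked. -/
def TrackedFun {H : Type*} [Monoid H] (F : (K ≃ₐ[ℚ] K) → H → ℂ) : Prop :=
  ∀ c : H, Tracked ι (fun σ => F σ (c ^ k σ))

variable {ι k}

theorem TrackedFun.add {H : Type*} [Monoid H] {F F' : (K ≃ₐ[ℚ] K) → H → ℂ}
    (h : TrackedFun ι k F) (h' : TrackedFun ι k F') :
    TrackedFun ι k (fun σ c => F σ c + F' σ c) := fun c => (h c).add (h' c)

theorem TrackedFun.mul {H : Type*} [Monoid H] {F F' : (K ≃ₐ[ℚ] K) → H → ℂ}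
    (h : TrackedFun ι k F) (h' : TrackedFun ι k F') :
    TrackedFun ι k (fun σ c => F σ c * F' σ c) := fun c => (h c).mul (h' c)

theorem TrackedFun.smul {H : Type*} [Monoid H] {a : (K ≃ₐ[ℚ] K) → ℂ} {F : (K ≃ₐ[ℚ] K) → H → ℂ}
    (ha : Tracked ι a) (h : TrackedFun ι k F) :
    TrackedFun ι k (fun σ c => a σ * F σ c) := fun c => ha.mul (h c)

theorem trackedFun_sum {H : Type*} [Monoid H] {α : Type*} (s : Finset α)
    (F : α → (K ≃ₐ[ℚ] K) → H → ℂ) (hF : ∀ a ∈ s, TrackedFun ι k (F a)) :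
    TrackedFun ι k (fun σ c => ∑ a ∈ s, F a σ c) :=
  fun c => tracked_sum s (fun a σ => F a σ (c ^ k σ)) (fun a ha => hF a ha c)

/-- Reindexing a sum over a finite group by a power map. -/
theorem tracked_sum_of_trackedFun {H : Type*} [Group H] [Fintype H]
    (hcop : ∀ σ, (Nat.card H).Coprime (k σ)) {F : (K ≃ₐ[ℚ] K) → H → ℂ}
    (hF : TrackedFun ι k F) : Tracked ι (fun σ => ∑ c : H, F σ c) := by
  have h1 : (fun σ => ∑ c : H, F σ c) = fun σ => ∑ c : H, F σ (c ^ k σ) := by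
    funext σ
    exact ((powCoprime (hcop σ)).sum_comp (F σ)).symm
  rw [h1]
  exact tracked_sum Finset.univ _ (fun c _ => hF c)

theorem trackedFun_pRegularPart {H : Type*} [Group H] [Finite H] (p : ℕ)
    (hcop : ∀ σ, (Nat.card H).Coprime (k σ)) {F : (K ≃ₐ[ℚ] K) → H → ℂ}
    (hF : TrackedFun ι k F) : TrackedFun ι k (fun σ => pRegularPart p (F σ)) := by
  intro c
  have hord : ∀ σ, orderOf (c ^ k σ) = orderOf c := by
    intro σ
    apply Nat.Coprime.orderOf_pow
    exact Nat.Coprime.coprime_dvd_left (orderOf_dvd_natCard c) (hcop σ)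
  by_cases hc : p ∣ orderOf c
  · have : (fun σ => pRegularPart p (F σ) (c ^ k σ)) = fun _ => (0 : ℂ) := by
      funext σ
      exact pRegularPart_of_dvd _ (by rw [hord σ]; exact hc)
    rw [this]
    exact tracked_zero
  · have : (fun σ => pRegularPart p (F σ) (c ^ k σ)) = fun σ => F σ (c ^ k σ) := by
      funext σ
      exact pRegularPart_of_not_dvd _ (by rw [hord σ]; exact hc)
    rw [this]
    exact hF c

end

section

variable (n : ℕ) [NeZero n] {K : Type*} [Field K] [CharZero K] [IsCyclotomicExtension {n} ℚ K]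
  (ι : K →+* ℂ) (k : (K ≃ₐ[ℚ] K) → ℕ)
  (hk : ∀ (σ : K ≃ₐ[ℚ] K) (z : K), z ^ n = 1 → σ z = z ^ k σ)

include hk

theorem trackedFun_character {H : Type*} [Group H] [Finite H] (hn : ∀ h : H, h ^ n = 1)
    {χ : H → ℂ} (hχ : IsCharacter H χ) : TrackedFun ι k (fun _ => χ) :=
  fun c => tracked_character n ι hχ c (hn c) k hk

theorem trackedFun_conj_character {H : Type*} [Group H] [Fintype H] (hn : ∀ h : H, h ^ n = 1)
    {χ : H → ℂ} (hχ : IsCharacter H χ) : TrackedFun ι k (fun _ c => conj (χ c)) := by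
  have h1 := isCharacter_inv_comp hχ
  have h2 : (fun (_ : K ≃ₐ[ℚ] K) (c : H) => conj (χ c)) = fun _ c => χ c⁻¹ := by
    funext _ c
    rw [isCharacter_inv hχ]
  rw [h2]
  exact trackedFun_character n ι k hk hn h1

theorem tracked_classInner {H : Type*} [Group H] [Fintype H] (hn : ∀ h : H, h ^ n = 1)
    (hcop : ∀ σ, (Nat.card H).Coprime (k σ)) {F : (K ≃ₐ[ℚ] K) → H → ℂ}
    (hF : TrackedFun ι k F) {θ : H → ℂ} (hθ : IsCharacter H θ) :
    Tracked ι (fun σ => classInner (F σ) θ) := by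
  have h1 : (fun σ => classInner (F σ) θ) =
      fun σ => (((Nat.card H : ℚ)⁻¹ : ℚ) : ℂ) * ∑ c : H, F σ c * conj (θ c) := by
    funext σ
    rw [classInner_def]
    push_cast
    rfl
  rw [h1]
  exact (tracked_ratCast _).mul
    (tracked_sum_of_trackedFun hcop (hF.mul (trackedFun_conj_character n ι k hk hn hθ)))

theorem trackedFun_blockPart {H : Type*} [Group H] [Fintype H] (hn : ∀ h : H, h ^ n = 1)
    (hcop : ∀ σ, (Nat.card H).Coprime (k σ)) (b : Set (IrrCharacter H))
    {F : (K ≃ₐ[ℚ] K) → H → ℂ} (hF : TrackedFun ι k F) :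
    TrackedFun ι k (fun σ => blockPart b (F σ)) := by
  classical
  have : Fintype (IrrCharacter H) := Fintype.ofFinite _
  have h1 : (fun σ => blockPart b (F σ)) = fun σ c => ∑ θ : IrrCharacter H,
      (if θ ∈ b then (1 : ℂ) else 0) * (classInner (F σ) (θ : H → ℂ) * (θ : H → ℂ) c) := by
    funext σ c
    rw [blockPart_eq_sum]
  rw [h1]
  apply trackedFun_sum
  intro θ _
  apply TrackedFun.smul
  · by_cases hθ : θ ∈ b
    · simp only [if_pos hθ]
      simpa using (tracked_natCast (ι := ι) 1)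
    · simp only [if_neg hθ]
      exact tracked_zero
  · apply TrackedFun.smul (tracked_classInner n ι k hk hn hcop hF (isCharacter_of_irr θ.2))
    exact trackedFun_character n ι k hk hn (isCharacter_of_irr θ.2)

end

section

variable {G : Type*} [Group G] [Fintype G]
variable (n : ℕ) [NeZero n] {K : Type*} [Field K] [CharZero K] [IsCyclotomicExtension {n} ℚ K]
  (ι : K →+* ℂ) (k : (K ≃ₐ[ℚ] K) → ℕ)
  (hk : ∀ (σ : K ≃ₐ[ℚ] K) (z : K), z ^ n = 1 → σ z = z ^ k σ)

include hk

theorem trackedFun_secFun (hn : ∀ g : G, g ^ n = 1) (C : Subgroup G) {u : G}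
    (hC : ∀ t, t ∈ C ↔ t * u = u * t) {ζ : G → ℂ} (hζ : IsCharacter G ζ) :
    TrackedFun ι k (fun σ => secFun C (u ^ k σ) ζ) := by
  intro c
  have h1 : (fun σ => secFun C (u ^ k σ) ζ (c ^ k σ)) = fun σ => ζ ((u * (c : G)) ^ k σ) := by
    funext σ
    rw [secFun_apply, Subgroup.coe_pow]
    have hcomm : Commute u (c : G) := ((hC _).1 c.2).symm
    rw [hcomm.mul_pow]
  rw [h1]
  exact tracked_character n ι hζ _ (hn _) k hk

theorem trackedFun_conj_secFun (hn : ∀ g : G, g ^ n = 1) (C : Subgroup G) {u : G}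
    (hC : ∀ t, t ∈ C ↔ t * u = u * t) {ζ : G → ℂ} (hζ : IsCharacter G ζ) :
    TrackedFun ι k (fun σ (c : C) => conj (ζ (u ^ k σ * (c : G)))) := by
  intro c
  have h1 : (fun σ => conj (ζ (u ^ k σ * ((c ^ k σ : C) : G)))) =
      fun σ => ζ ((u * (c : G))⁻¹ ^ k σ) := by
    funext σ
    rw [Subgroup.coe_pow]
    have hcomm : Commute u (c : G) := ((hC _).1 c.2).symm
    rw [← hcomm.mul_pow, ← isCharacter_inv hζ, inv_pow]
  rw [h1]
  exact tracked_character n ι hζ _ (hn _) k hk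

/-- The contributions of the powers of `u` are the Galois conjugates of one cyclotomic number. -/
theorem tracked_contrib (hn : ∀ g : G, g ^ n = 1) (hcop : ∀ σ, (Nat.card G).Coprime (k σ))
    (p : ℕ) (C : Subgroup G) [Fintype C] {u : G}
    (hC : ∀ t, t ∈ C ↔ t * u = u * t) (b : Set (IrrCharacter C)) {ζ ξ : G → ℂ}
    (hζ : IsCharacter G ζ) (hξ : IsCharacter G ξ) :
    Tracked ι (fun σ => contrib p C b (u ^ k σ) ζ ξ) := by
  have hnC : ∀ c : C, c ^ n = 1 := by
    intro c
    apply Subtype.ext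
    rw [Subgroup.coe_pow, hn]
    rfl
  have hcopC : ∀ σ, (Nat.card C).Coprime (k σ) :=
    fun σ => Nat.Coprime.coprime_dvd_left (Subgroup.card_subgroup_dvd_card C) (hcop σ)
  have h1 : (fun σ => contrib p C b (u ^ k σ) ζ ξ) =
      fun σ => (((Nat.card C : ℚ)⁻¹ : ℚ) : ℂ) * ∑ c : C,
        secPart p C b (u ^ k σ) ζ c * conj (ξ (u ^ k σ * (c : G))) := by
    funext σ
    unfold contrib
    push_cast
    rfl
  rw [h1]
  apply (tracked_ratCast _).mul
  apply tracked_sum_of_trackedFun hcopC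
  apply TrackedFun.mul
  · exact trackedFun_pRegularPart p hcopC
      (trackedFun_blockPart n ι k hk hnC hcopC b (trackedFun_secFun n ι k hk hn C hC hζ))
  · exact trackedFun_conj_secFun n ι k hk hn C hC hξ

end

end Cfsg.Agent.Lib.Helper8
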