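import Mathlib
import Cfsg.Prelude.Def_Blocks
import Cfsg.Prelude.Def_BlockRank
import Cfsg.Agent.Lib.Helper8.BF7

/-!
# Contributions of characters of positive height
-/

set_option autoImplicit false

namespace Cfsg.Agent.Lib.Helper8

open Cfsg
open scoped ComplexConjugate
open Cfsg.Agent.Lib.Helper1 Cfsg.Agent.Lib.Helper4

universe u

section

variable {G : Type u} [Group G] [Fintype G] {M : Ideal AlgInt} {p : ℕ}

/-- For `χ, χ' ∈ B` the number `p ^ d m(χ, χ')` is an integer divisible by `p ^ h(χ)`. -/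
theorem exists_int_contrib_general (hM : IsPModular p M) {B : Set (IrrCharacter G)}
    {χ χ' : IrrCharacter G} (hχ : χ ∈ B) :
    ∃ N : ℤ, (N : ℂ) = (p : ℂ) ^ (blockDefect p B) * mreg p (χ : G → ℂ) (χ' : G → ℂ) ∧
      (p : ℤ) ^ (blockHeight p B (χ : G → ℂ)) ∣ N := by
  classical
  have hMp := isPModular_isPrime hM
  have hp := hM.1
  obtain ⟨n, hn⟩ := exists_int_mreg hp χ.2 (isCharacter_of_irr χ'.2) (χ' := (χ' : G → ℂ))
  have hcS := memLocalRing_contrib (p := p) hMp χ χ'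
  set a := (Nat.card G).factorization p with ha
  set d := blockDefect p B with hd
  set h := blockHeight p B (χ : G → ℂ) with hh
  set m := mreg p (χ : G → ℂ) (χ' : G → ℂ) with hm
  obtain ⟨hdeg, hdegpos⟩ := irr_apply_one_eq_charDegree χ.2
  obtain ⟨hv, hda⟩ := block_valuations (p := p) hχ
  have hG0 : (Nat.card G : ℂ) ≠ 0 := Nat.cast_ne_zero.2 Nat.card_pos.ne'
  have hp0 : (p : ℂ) ≠ 0 := Nat.cast_ne_zero.2 hp.ne_zero
  have hd0 : ((charDegree (χ : G → ℂ) : ℕ) : ℂ) ≠ 0 := Nat.cast_ne_zero.2 hdegpos.ne'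
  have h1 : MemLocalRing M ((p : ℂ) ^ d * m) := by
    have e : (p : ℂ) ^ d * m = ((Nat.card G : ℂ) * m / (χ : G → ℂ) 1) *
        (((p ^ d * charDegree (χ : G → ℂ) : ℕ) : ℂ) / (Nat.card G : ℂ)) := by
      rw [hdeg]
      push_cast
      field_simp
    rw [e]
    apply memLocalRing_mul hMp hcS
    apply memLocalRing_natCast_div hM
      (Nat.mul_ne_zero (pow_ne_zero _ hp.ne_zero) hdegpos.ne') Nat.card_pos.ne'
    rw [factorization_pow_mul hp d hdegpos.ne']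
    omega
  have h2 : (p : ℤ) ^ (a - d) ∣ n := by
    apply int_pow_dvd_of_memLocalRing hM
    have e : (n : ℂ) / (p : ℂ) ^ (a - d) = (p : ℂ) ^ d * m := by
      rw [← hn]
      have : (p : ℂ) ^ a = (p : ℂ) ^ (a - d) * (p : ℂ) ^ d := by
        rw [← pow_add, Nat.sub_add_cancel hda]
      rw [this]
      field_simp
    rw [e]
    exact h1
  obtain ⟨N, rfl⟩ := h2
  have hN : (N : ℂ) = (p : ℂ) ^ d * m := by
    have hpa : (p : ℂ) ^ (a - d) ≠ 0 := pow_ne_zero _ hp0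
    have : (p : ℂ) ^ a = (p : ℂ) ^ (a - d) * (p : ℂ) ^ d := by
      rw [← pow_add, Nat.sub_add_cancel hda]
    rw [this] at hn
    push_cast at hn
    have h3 : (p : ℂ) ^ (a - d) * ((p : ℂ) ^ d * m) = (p : ℂ) ^ (a - d) * (N : ℂ) := by
      rw [← hn]; ring
    exact (mul_left_cancel₀ hpa h3).symm
  refine ⟨N, hN, ?_⟩
  apply int_pow_dvd_of_memLocalRing hM
  have e : (N : ℂ) / (p : ℂ) ^ h = ((Nat.card G : ℂ) * m / (χ : G → ℂ) 1) *
      (((p ^ d * charDegree (χ : G → ℂ) : ℕ) : ℂ) / ((Nat.card G * p ^ h : ℕ) : ℂ)) := by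
    rw [hN, hdeg]
    push_cast
    field_simp
  rw [e]
  apply memLocalRing_mul hMp hcS
  apply memLocalRing_natCast_div hM
    (Nat.mul_ne_zero (pow_ne_zero _ hp.ne_zero) hdegpos.ne')
    (Nat.mul_ne_zero Nat.card_pos.ne' (pow_ne_zero _ hp.ne_zero))
  rw [factorization_pow_mul hp d hdegpos.ne', mul_comm (Nat.card G),
    factorization_pow_mul hp h Nat.card_pos.ne']
  omega

/-- The normalized contributions of a character of positive height lie in the local ideal. -/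
theorem contrib_memLocalIdeal_of_pos_height (hM : IsPModular p M) {B : Set (IrrCharacter G)}
    (hB : IsPBlock M B) {χ₁ : IrrCharacter G} (hχ₁ : χ₁ ∈ B)
    (h1 : 0 < blockHeight p B (χ₁ : G → ℂ)) {χ : IrrCharacter G} (hχ : χ ∈ B) :
    MemLocalIdeal M
      ((Nat.card G : ℂ) * mreg p (χ : G → ℂ) (χ₁ : G → ℂ) / (χ : G → ℂ) 1) := by
  classical
  have hMp := isPModular_isPrime hM
  have hp := hM.1
  obtain ⟨χ₀, hχ₀, h0⟩ := exists_height_zero (p := p) hMp hB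
  obtain ⟨N, hN, _, hdvd⟩ := exists_int_contrib hM hB hχ₀ h0 hχ₁
  -- the contribution at `χ₀`
  have hc₀ : MemLocalIdeal M
      ((Nat.card G : ℂ) * mreg p (χ₀ : G → ℂ) (χ₁ : G → ℂ) / (χ₀ : G → ℂ) 1) := by
    obtain ⟨hdeg₀, hdegpos₀⟩ := irr_apply_one_eq_charDegree χ₀.2
    obtain ⟨hv₀, hda⟩ := block_valuations (p := p) hχ₀
    rw [h0, add_zero] at hv₀
    have hpN : (p : ℤ) ∣ N := by
      refine dvd_trans ?_ hdvd
      exact dvd_pow_self _ h1.ne'
    have hNI : MemLocalIdeal M (N : ℂ) := (memLocalIdeal_intCast_iff hM N).2 hpN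
    have hp0 : (p : ℂ) ≠ 0 := Nat.cast_ne_zero.2 hp.ne_zero
    have hd0 : ((charDegree (χ₀ : G → ℂ) : ℕ) : ℂ) ≠ 0 := Nat.cast_ne_zero.2 hdegpos₀.ne'
    have e : (Nat.card G : ℂ) * mreg p (χ₀ : G → ℂ) (χ₁ : G → ℂ) / (χ₀ : G → ℂ) 1 =
        (N : ℂ) * ((Nat.card G : ℂ) /
          ((p ^ blockDefect p B * charDegree (χ₀ : G → ℂ) : ℕ) : ℂ)) := by
      rw [hN, mreg_symm (isCharacter_of_irr χ₁.2) (isCharacter_of_irr χ₀.2), hdeg₀]
      push_cast
      field_simp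
    rw [e]
    apply memLocalIdeal_mul_right hMp hNI
    apply memLocalRing_natCast_div hM Nat.card_pos.ne'
      (Nat.mul_ne_zero (pow_ne_zero _ hp.ne_zero) hdegpos₀.ne')
    rw [factorization_pow_mul hp _ hdegpos₀.ne']
    omega
  have hs : SameBlock M (χ : G → ℂ) (χ₀ : G → ℂ) := by
    have := hχ₀
    rw [eq_blockOf_of_mem hMp hB hχ] at this
    exact this
  have := memLocalIdeal_add hMp (memLocalIdeal_contrib_sub (p := p) hMp χ₁ hs) hc₀
  rwa [sub_add_cancel] at this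

/-- For a character `χ₁` of positive height, `p ^ d m(χ₁, χ₁)` is divisible by
`p ^ (h(χ₁) + 1)`. -/
theorem exists_int_contrib_self_of_pos_height (hM : IsPModular p M) {B : Set (IrrCharacter G)}
    (hB : IsPBlock M B) {χ₁ : IrrCharacter G} (hχ₁ : χ₁ ∈ B)
    (h1 : 0 < blockHeight p B (χ₁ : G → ℂ)) :
    ∃ N : ℤ, (N : ℂ) = (p : ℂ) ^ (blockDefect p B) * mreg p (χ₁ : G → ℂ) (χ₁ : G → ℂ) ∧
      (p : ℤ) ^ (blockHeight p B (χ₁ : G → ℂ) + 1) ∣ N := by
  classical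
  have hMp := isPModular_isPrime hM
  have hp := hM.1
  obtain ⟨N, hN, hdvd⟩ := exists_int_contrib_general hM hχ₁ (χ' := χ₁) (B := B)
  refine ⟨N, hN, ?_⟩
  obtain ⟨N', rfl⟩ := hdvd
  rw [pow_succ]
  apply mul_dvd_mul_left
  rw [← memLocalIdeal_intCast_iff hM]
  have hc := contrib_memLocalIdeal_of_pos_height hM hB hχ₁ h1 hχ₁
  obtain ⟨hdeg, hdegpos⟩ := irr_apply_one_eq_charDegree χ₁.2
  obtain ⟨hv, hda⟩ := block_valuations (p := p) hχ₁
  set d := blockDefect p B with hd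
  set h := blockHeight p B (χ₁ : G → ℂ) with hh
  have hG0 : (Nat.card G : ℂ) ≠ 0 := Nat.cast_ne_zero.2 Nat.card_pos.ne'
  have hp0 : (p : ℂ) ≠ 0 := Nat.cast_ne_zero.2 hp.ne_zero
  have hd0 : ((charDegree (χ₁ : G → ℂ) : ℕ) : ℂ) ≠ 0 := Nat.cast_ne_zero.2 hdegpos.ne'
  have e : (N' : ℂ) = ((Nat.card G : ℂ) * mreg p (χ₁ : G → ℂ) (χ₁ : G → ℂ) / (χ₁ : G → ℂ) 1) *
      (((p ^ d * charDegree (χ₁ : G → ℂ) : ℕ) : ℂ) / ((Nat.card G * p ^ h : ℕ) : ℂ)) := by
    have hN' : (p : ℂ) ^ h * (N' : ℂ) = (p : ℂ) ^ d * mreg p (χ₁ : G → ℂ) (χ₁ : G → ℂ) := by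
      rw [← hN]; push_cast; ring
    rw [hdeg]
    push_cast
    field_simp
    rw [mul_comm, hN', mul_comm]
  rw [e]
  apply memLocalIdeal_mul_right hMp hc
  apply memLocalRing_natCast_div hM
    (Nat.mul_ne_zero (pow_ne_zero _ hp.ne_zero) hdegpos.ne')
    (Nat.mul_ne_zero Nat.card_pos.ne' (pow_ne_zero _ hp.ne_zero))
  rw [factorization_pow_mul hp d hdegpos.ne', mul_comm (Nat.card G),
    factorization_pow_mul hp h Nat.card_pos.ne']
  omega

end

end Cfsg.Agent.Lib.Helper8
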