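import Mathlib
import Cfsg.Prelude.Def_Blocks
import Cfsg.Prelude.Def_BlockRank
import Cfsg.Agent.Lib.Helper8.InducedTilde
import Cfsg.Agent.Lib.Helper8.SM6
import Cfsg.Agent.Lib.Helper8.Sub6
import Cfsg.Agent.Lib.Helper8.CharPPart
import Cfsg.Agent.Lib.Helper8.BlockIdem2

/-!
# Height zero characters have nonvanishing contributions at every subsection (Brauer)
-/

set_option autoImplicit false

namespace Cfsg.Agent.Lib.Helper8

open Cfsg
open scoped ComplexConjugate
open Cfsg.Agent.Lib.Helper1 Cfsg.Agent.Lib.Helper4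

universe u

section

variable {H : Type u} [Group H] [Fintype H] {M : Ideal AlgInt} {p : ℕ}

/-- `[θ̃, ψ]` only sees the part of `θ` in the block of `ψ`. -/
theorem classInner_tilde_blockPart [Fact p.Prime] (hM : IsPModular p M) {b : Set (IrrCharacter H)}
    (hb : IsPBlock M b) {θ : H → ℂ} (hθ : IsClassFunction H θ) {ψ : IrrCharacter H} (hψ : ψ ∈ b) :
    classInner (tilde p (blockPart b θ)) (ψ : H → ℂ) = classInner (tilde p θ) (ψ : H → ℂ) := by
  classical
  have : Fintype (IrrCharacter H) := Fintype.ofFinite _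
  have hMp := isPModular_isPrime hM
  have hmove : ∀ φ : H → ℂ, classInner (tilde p φ) (ψ : H → ℂ) =
      ((p ^ (Nat.card H).factorization p : ℕ) : ℂ) * classInner φ (pRegularPart p (ψ : H → ℂ)) := by
    intro φ
    rw [classInner_tilde, classInner_pRegularPart_left, ← classInner_pRegularPart_right]
  rw [hmove, hmove]
  congr 1
  have hF : blockPart b θ = ∑ ψ' : IrrCharacter H,
      ((if ψ' ∈ b then (1 : ℂ) else 0) * classInner θ (ψ' : H → ℂ)) • (ψ' : H → ℂ) := by
    funext g
    rw [blockPart_eq_sum, Finset.sum_apply]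
    refine Finset.sum_congr rfl fun ψ' _ => ?_
    rw [Pi.smul_apply, smul_eq_mul]
    have : (by classical exact if ψ' ∈ b then (1 : ℂ) else 0) =
        (if ψ' ∈ b then (1 : ℂ) else 0) := by congr
    rw [this]
    ring
  have hθe := class_function_expansion θ hθ
  rw [hF]
  conv_rhs => rw [hθe]
  rw [classInner_sum_left, classInner_sum_left]
  refine Finset.sum_congr rfl fun ψ' _ => ?_
  rw [classInner_smul_left, classInner_smul_left]
  by_cases hψ' : ψ' ∈ b
  · rw [if_pos hψ', one_mul]
  · rw [if_neg hψ', zero_mul, zero_mul]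
    have hns : ¬ SameBlock M (ψ' : H → ℂ) (ψ : H → ℂ) := by
      intro hs
      apply hψ'
      rw [eq_blockOf_of_mem hMp hb hψ]
      exact sameBlock_symm hs
    have := classInner_pRegularPart_eq_zero hM hns
    rw [classInner_pRegularPart_left, ← classInner_pRegularPart_right] at this
    rw [this, mul_zero]

/-- If a class function is in the local ideal at every `p`-regular element, then its tilde ratios
are in the local ideal. -/
theorem memLocalIdeal_tildeRatio_of_pRegular [Fact p.Prime] (hM : IsPModular p M) {F : H → ℂ}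
    (hF : IsClassFunction H F) (hFJ : ∀ y : H, ¬ p ∣ orderOf y → MemLocalIdeal M (F y))
    (ψ : IrrCharacter H) :
    MemLocalIdeal M (classInner (tilde p F) (ψ : H → ℂ) / (ψ : H → ℂ) 1) := by
  have hMp := isPModular_isPrime hM
  rw [tildeRatio_eq ψ.2]
  apply memLocalIdeal_mul_left hMp (pPart_div_card_unit hM).1
  apply memLocalIdeal_omega hMp ψ.2 (isClassFunction_pRegInv hF)
  intro g
  rw [pRegInv_apply]
  by_cases hg : p ∣ orderOf g⁻¹
  · rw [pRegularPart_of_dvd _ hg]
    exact memLocalIdeal_zero hMp.ne_top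
  · rw [pRegularPart_of_not_dvd _ hg]
    exact hFJ _ hg

end

end Cfsg.Agent.Lib.Helper8
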