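import Mathlib
import Cfsg.Prelude.Def_Blocks
import Cfsg.Prelude.Def_BlockRank
import Cfsg.Agent.Lib.Helper8.HZ1

/-!
# Height zero characters have nonvanishing contributions at every subsection: main theorem
-/

set_option autoImplicit false

namespace Cfsg.Agent.Lib.Helper8

open Cfsg
open scoped ComplexConjugate
open Cfsg.Agent.Lib.Helper1 Cfsg.Agent.Lib.Helper4

universe u

section

variable {H : Type u} [Group H] [Fintype H]

theorem isClassFunction_blockPart' (b : Set (IrrCharacter H)) (θ : H → ℂ) :
    IsClassFunction H (blockPart b θ) := by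
  classical
  have : Fintype (IrrCharacter H) := Fintype.ofFinite _
  intro g h
  rw [blockPart_eq_sum, blockPart_eq_sum]
  refine Finset.sum_congr rfl fun ψ _ => ?_
  rw [isClassFunction_irr ψ.2 g h]

end

section

variable {G : Type u} [Group G] [Fintype G] {M : Ideal AlgInt} {p : ℕ}

theorem height_zero_subsection_ne_zero [Fact p.Prime] (hM : IsPModular p M)
    {B : Set (IrrCharacter G)} {χ : IrrCharacter G} (hχ : χ ∈ B)
    (h0 : blockHeight p B (χ : G → ℂ) = 0) (x : G) (hx : ∃ k : ℕ, orderOf x = p ^ k)
    (b : Set (IrrCharacter (Subgroup.centralizer ({x} : Set G))))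
    (hb : IsInducedBlock M (Subgroup.centralizer ({x} : Set G)) b B) :
    ∃ y : Subgroup.centralizer ({x} : Set G), ¬ p ∣ orderOf y ∧
      blockPart b (fun c : Subgroup.centralizer ({x} : Set G) => (χ : G → ℂ) (x * (c : G))) y ≠ 0 := by
  classical
  have : Fintype (Subgroup.centralizer ({x} : Set G)) := Fintype.ofFinite _
  have hMp := isPModular_isPrime hM
  by_contra hcon
  push Not at hcon
  have hbb : IsPBlock M b := hb.1
  obtain ⟨ψ, hψ⟩ := isPBlock_nonempty hMp hbb
  have hC : ∀ t, t ∈ Subgroup.centralizer ({x} : Set G) ↔ t * x = x * t := by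
    intro t
    rw [Subgroup.mem_centralizer_singleton_iff]
  have hχcf := isClassFunction_irr χ.2
  have hϑ := isClassFunction_section (Subgroup.centralizer ({x} : Set G)) hC hχcf
  have hθ := isClassFunction_restrict (Subgroup.centralizer ({x} : Set G)) hχcf
  obtain ⟨_, hεS, _⟩ := blockCoeff_spec hMp hbb
  obtain ⟨k, hk⟩ := hx
  have hxk : x ^ (p ^ k) = 1 := by rw [← hk]; exact pow_orderOf_eq_one x
  have hFJ : ∀ y : Subgroup.centralizer ({x} : Set G), ¬ p ∣ orderOf y →
      MemLocalIdeal M (blockPart b (fun c : Subgroup.centralizer ({x} : Set G) =>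
        (χ : G → ℂ) (c : G)) y) := by
    intro y hy
    have h1 := blockPart_eq_sum_blockCoeff hMp hbb hθ y
    have h2 := blockPart_eq_sum_blockCoeff hMp hbb hϑ y
    rw [hcon y hy] at h2
    have h3 : blockPart b (fun c : Subgroup.centralizer ({x} : Set G) => (χ : G → ℂ) (c : G)) y =
        ∑ k' : Subgroup.centralizer ({x} : Set G), blockCoeff b k' *
          ((χ : G → ℂ) ((y * k' : Subgroup.centralizer ({x} : Set G)) : G) -
            (χ : G → ℂ) (x * ((y * k' : Subgroup.centralizer ({x} : Set G)) : G))) := by
      rw [h1]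
      have : ∑ k' : Subgroup.centralizer ({x} : Set G), blockCoeff b k' *
          ((χ : G → ℂ) ((y * k' : Subgroup.centralizer ({x} : Set G)) : G) -
            (χ : G → ℂ) (x * ((y * k' : Subgroup.centralizer ({x} : Set G)) : G))) =
          ∑ k' : Subgroup.centralizer ({x} : Set G), blockCoeff b k' *
            (χ : G → ℂ) ((y * k' : Subgroup.centralizer ({x} : Set G)) : G) -
          ∑ k' : Subgroup.centralizer ({x} : Set G), blockCoeff b k' *
            (χ : G → ℂ) (x * ((y * k' : Subgroup.centralizer ({x} : Set G)) : G)) := by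
        rw [← Finset.sum_sub_distrib]
        refine Finset.sum_congr rfl fun k' _ => ?_
        ring
      rw [this, ← h2, sub_zero]
    rw [h3]
    apply memLocalIdeal_sum hMp
    intro k' _
    apply memLocalIdeal_mul_left hMp (hεS k')
    have hcomm : x * ((y * k' : Subgroup.centralizer ({x} : Set G)) : G) =
        ((y * k' : Subgroup.centralizer ({x} : Set G)) : G) * x :=
      ((hC _).1 (y * k').2).symm
    have := memLocalIdeal_char_mul_sub hM (isCharacter_of_irr χ.2) x
      ((y * k' : Subgroup.centralizer ({x} : Set G)) : G) k hxk hcomm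
    have h4 := memLocalIdeal_neg this
    rwa [neg_sub] at h4
  have h5 := memLocalIdeal_tildeRatio_of_pRegular hM
    (isClassFunction_blockPart' b (fun c : Subgroup.centralizer ({x} : Set G) =>
      (χ : G → ℂ) (c : G))) hFJ ψ
  rw [classInner_tilde_blockPart hM hbb hθ hψ] at h5
  exact not_memLocalIdeal_tildeRatio_restrict hM _ hb hψ hχ h0 h5

end

end Cfsg.Agent.Lib.Helper8
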