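import Mathlib
import Cfsg.Prelude.Def_Blocks
import Cfsg.Prelude.Def_BlockRank
import Cfsg.Agent.Lib.Helper8.HZ2
import Cfsg.Agent.Lib.Helper8.BF8
import Cfsg.Agent.Lib.Helper8.KB1

/-!
# Tilde ratios of class functions with local values, and reduced degrees in a block
-/

set_option autoImplicit false

namespace Cfsg.Agent.Lib.Helper8

open Cfsg
open scoped ComplexConjugate
open Cfsg.Agent.Lib.Helper1 Cfsg.Agent.Lib.Helper4

universe u

section

variable {H : Type u} [Group H] [Fintype H] {M : Ideal AlgInt} {p : ℕ}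

omit [Fintype H] in
theorem memLocalRing_pRegInv' (hM : M ≠ ⊤) {F : H → ℂ} (hFS : ∀ g, MemLocalRing M (F g)) (g : H) :
    MemLocalRing M (pRegInv p F g) := by
  rw [pRegInv_apply]
  by_cases hg : p ∣ orderOf g⁻¹
  · rw [pRegularPart_of_dvd _ hg]
    exact memLocalRing_zero hM
  · rw [pRegularPart_of_not_dvd _ hg]
    exact hFS _

/-- `[F̃, ψ] / ψ(1)` is a local integer when `F` has local values. -/
theorem memLocalRing_tildeRatio' [Fact p.Prime] (hM : IsPModular p M) {F ψ : H → ℂ}
    (hF : IsClassFunction H F) (hFS : ∀ g, MemLocalRing M (F g)) (hψ : IsIrrCharacter H ψ) :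
    MemLocalRing M (classInner (tilde p F) ψ / ψ 1) := by
  have hMp := isPModular_isPrime hM
  rw [tildeRatio_eq hψ]
  exact memLocalRing_mul hMp (pPart_div_card_unit hM).1
    (memLocalRing_omega hMp hψ (isClassFunction_pRegInv hF) (memLocalRing_pRegInv' hMp.ne_top hFS))

/-- `[F̃, ψ] / ψ(1)` only depends on the block of `ψ`, modulo the local ideal. -/
theorem memLocalIdeal_tildeRatio_sub' [Fact p.Prime] (hM : IsPModular p M) {F ψ ξ : H → ℂ}
    (hF : IsClassFunction H F) (hFS : ∀ g, MemLocalRing M (F g))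
    (hψ : IsIrrCharacter H ψ) (hξ : IsIrrCharacter H ξ) (h : SameBlock M ψ ξ) :
    MemLocalIdeal M (classInner (tilde p F) ψ / ψ 1 - classInner (tilde p F) ξ / ξ 1) := by
  have hMp := isPModular_isPrime hM
  rw [tildeRatio_eq hψ, tildeRatio_eq hξ, ← mul_sub]
  exact memLocalIdeal_mul_left hMp (pPart_div_card_unit hM).1
    (memLocalIdeal_omega_sub hMp hψ hξ h (isClassFunction_pRegInv hF)
      (memLocalRing_pRegInv' hMp.ne_top hFS))

/-- The `p`-regular inner product with `ψ` only sees the part in the block of `ψ`. -/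
theorem classInner_pRegularPart_blockPart (hM : IsPModular p M) {b : Set (IrrCharacter H)}
    (hb : IsPBlock M b) {F : H → ℂ} (hF : IsClassFunction H F) (ψ : IrrCharacter H) :
    classInner (pRegularPart p (blockPart b F)) (ψ : H → ℂ) =
      (by classical exact if ψ ∈ b then classInner (pRegularPart p F) (ψ : H → ℂ) else 0) := by
  classical
  have : Fintype (IrrCharacter H) := Fintype.ofFinite _
  have hMp := isPModular_isPrime hM
  have hmove : ∀ φ : H → ℂ, classInner (pRegularPart p φ) (ψ : H → ℂ) =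
      classInner φ (pRegularPart p (ψ : H → ℂ)) := by
    intro φ
    rw [classInner_pRegularPart_left, ← classInner_pRegularPart_right]
  rw [hmove, hmove]
  have hFb : blockPart b F = ∑ ψ' : IrrCharacter H,
      ((if ψ' ∈ b then (1 : ℂ) else 0) * classInner F (ψ' : H → ℂ)) • (ψ' : H → ℂ) := by
    funext g
    rw [blockPart_eq_sum, Finset.sum_apply]
    refine Finset.sum_congr rfl fun ψ' _ => ?_
    rw [Pi.smul_apply, smul_eq_mul]
    have : (by classical exact if ψ' ∈ b then (1 : ℂ) else 0) =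
        (if ψ' ∈ b then (1 : ℂ) else 0) := by congr
    rw [this]
    ring
  have hFe := class_function_expansion F hF
  have hvan : ∀ ψ' : IrrCharacter H, ¬ SameBlock M (ψ' : H → ℂ) (ψ : H → ℂ) →
      classInner (ψ' : H → ℂ) (pRegularPart p (ψ : H → ℂ)) = 0 := by
    intro ψ' hns
    have := classInner_pRegularPart_eq_zero hM hns
    rwa [classInner_pRegularPart_left, ← classInner_pRegularPart_right] at this
  rw [hFb, classInner_sum_left]
  by_cases hψ : ψ ∈ b
  · rw [if_pos hψ]
    conv_rhs => rw [hFe]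
    rw [classInner_sum_left]
    refine Finset.sum_congr rfl fun ψ' _ => ?_
    rw [classInner_smul_left, classInner_smul_left]
    by_cases hψ' : ψ' ∈ b
    · rw [if_pos hψ', one_mul]
    · rw [if_neg hψ', zero_mul, zero_mul]
      have hns : ¬ SameBlock M (ψ' : H → ℂ) (ψ : H → ℂ) := by
        intro hs
        apply hψ'
        rw [eq_blockOf_of_mem hMp hb hψ]
        exact sameBlock_symm hs
      rw [hvan ψ' hns, mul_zero]
  · rw [if_neg hψ]
    apply Finset.sum_eq_zero
    intro ψ' _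
    rw [classInner_smul_left]
    by_cases hψ' : ψ' ∈ b
    · have hns : ¬ SameBlock M (ψ' : H → ℂ) (ψ : H → ℂ) := by
        intro hs
        apply hψ
        rw [eq_blockOf_of_mem hMp hb hψ']
        exact hs
      rw [hvan ψ' hns, mul_zero]
    · rw [if_neg hψ', zero_mul, zero_mul]

/-- The degree of a character of a block `b` of defect `q` divided by `p ^ (a - q)`. -/
noncomputable def redDeg (p : ℕ) (b : Set (IrrCharacter H)) (ψ : IrrCharacter H) : ℕ :=
  charDegree (ψ : H → ℂ) / p ^ ((Nat.card H).factorization p - blockDefect p b)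

theorem pow_mul_redDeg [hp : Fact p.Prime] {b : Set (IrrCharacter H)} {ψ : IrrCharacter H}
    (hψ : ψ ∈ b) :
    p ^ ((Nat.card H).factorization p - blockDefect p b) * redDeg p b ψ =
      charDegree (ψ : H → ℂ) := by
  obtain ⟨hv, hda⟩ := block_valuations (p := p) hψ
  obtain ⟨_, hpos⟩ := irr_apply_one_eq_charDegree ψ.2
  unfold redDeg
  apply Nat.mul_div_cancel'
  rw [hp.1.pow_dvd_iff_le_factorization hpos.ne']
  omega

theorem redDeg_not_dvd [hp : Fact p.Prime] {b : Set (IrrCharacter H)} {ψ : IrrCharacter H}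
    (hψ : ψ ∈ b) (h0 : blockHeight p b (ψ : H → ℂ) = 0) : ¬ p ∣ redDeg p b ψ := by
  obtain ⟨hv, hda⟩ := block_valuations (p := p) hψ
  obtain ⟨_, hpos⟩ := irr_apply_one_eq_charDegree ψ.2
  have h1 := pow_mul_redDeg (p := p) hψ
  intro hdvd
  obtain ⟨m, hm⟩ := hdvd
  rw [hm] at h1
  have h2 : p ^ ((Nat.card H).factorization p - blockDefect p b + 1) ∣
      charDegree (ψ : H → ℂ) := by
    rw [← h1, pow_succ]
    exact ⟨m, by ring⟩
  rw [hp.1.pow_dvd_iff_le_factorization hpos.ne'] at h2
  omega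

/-- `p ^ q [F°, ψ] = δ_ψ [F̃, ψ] / ψ(1)` for `ψ` in a block of defect `q`. -/
theorem pow_defect_mul_mreg [hp : Fact p.Prime] {b : Set (IrrCharacter H)} {ψ : IrrCharacter H}
    (hψ : ψ ∈ b) (F : H → ℂ) :
    (p : ℂ) ^ (blockDefect p b) * classInner (pRegularPart p F) (ψ : H → ℂ) =
      (redDeg p b ψ : ℂ) * (classInner (tilde p F) (ψ : H → ℂ) / (ψ : H → ℂ) 1) := by
  obtain ⟨hv, hda⟩ := block_valuations (p := p) hψ
  obtain ⟨hdeg, hpos⟩ := irr_apply_one_eq_charDegree ψ.2
  have h1 := pow_mul_redDeg (p := p) hψ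
  have hp0 : (p : ℂ) ≠ 0 := Nat.cast_ne_zero.2 hp.1.ne_zero
  have hd0 : ((charDegree (ψ : H → ℂ) : ℕ) : ℂ) ≠ 0 := Nat.cast_ne_zero.2 hpos.ne'
  rw [classInner_tilde, hdeg]
  have h2 : ((charDegree (ψ : H → ℂ) : ℕ) : ℂ) =
      (p : ℂ) ^ ((Nat.card H).factorization p - blockDefect p b) * (redDeg p b ψ : ℂ) := by
    rw [← h1]
    push_cast
    rfl
  have h3 : (p : ℂ) ^ (Nat.card H).factorization p =
      (p : ℂ) ^ ((Nat.card H).factorization p - blockDefect p b) * (p : ℂ) ^ (blockDefect p b) := by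
    rw [← pow_add, Nat.sub_add_cancel hda]
  have hr0 : (redDeg p b ψ : ℂ) ≠ 0 := by
    intro h0
    rw [h0, mul_zero] at h2
    exact hd0 h2
  rw [h2]
  push_cast
  rw [h3]
  have hpa : (p : ℂ) ^ ((Nat.card H).factorization p - blockDefect p b) ≠ 0 := pow_ne_zero _ hp0
  field_simp

end

end Cfsg.Agent.Lib.Helper8
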