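import Mathlib
import Cfsg.Prelude.Def_Blocks
import Cfsg.Prelude.Def_BlockRank
import Cfsg.Agent.Lib.Helper8.KB4
import Cfsg.Agent.Lib.Helper8.CentralDefect
import Cfsg.Agent.Lib.Helper8.BlockUnion
import Cfsg.Agent.S0148

/-!
# Coefficients of section functions; integrality of the scaled contributions
-/

set_option autoImplicit false

namespace Cfsg.Agent.Lib.Helper8

open Cfsg
open scoped ComplexConjugate
open Cfsg.Agent.Lib.Helper1 Cfsg.Agent.Lib.Helper4

universe u

section

variable {H : Type u} [Group H] [Fintype H]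

/-- The central character of an irreducible character is multiplicative on the centre. -/
theorem irr_central_pow {ψ : H → ℂ} (hψ : IsIrrCharacter H ψ) {z : H}
    (hz : z ∈ Subgroup.center H) (j : ℕ) : (ψ z / ψ 1) ^ j = ψ (z ^ j) / ψ 1 := by
  have hψ1 := irr_apply_one_ne_zero hψ
  induction j with
  | zero => rw [pow_zero, pow_zero, div_self hψ1]
  | succ j ih =>
    rw [pow_succ, ih, pow_succ, irr_mul_central hψ _ hz]
    field_simp

theorem isIntegral_irr_central_div {ψ : H → ℂ} (hψ : IsIrrCharacter H ψ) {z : H}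
    (hz : z ∈ Subgroup.center H) : IsIntegral ℤ (ψ z / ψ 1) := by
  have hψ1 := irr_apply_one_ne_zero hψ
  have h1 := irr_central_pow hψ hz (orderOf z)
  rw [pow_orderOf_eq_one, div_self hψ1] at h1
  apply IsIntegral.of_pow (orderOf_pos z)
  rw [h1]
  exact isIntegral_one

end

section

variable {G : Type u} [Group G] [Fintype G] {M : Ideal AlgInt} {p : ℕ}

/-- The coefficient of `ψ` in the section function `c ↦ ξ (u c)`. -/
noncomputable def secCoeff (C : Subgroup G) [Fintype C] (u : G) (ξ : G → ℂ) (ψ : C → ℂ) : ℂ :=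
  classInner (secFun C u ξ) ψ

omit [Fintype G] in
theorem secFun_expansion (C : Subgroup G) [Fintype C] [Fintype (IrrCharacter C)] {u : G}
    (hC : ∀ t, t ∈ C ↔ t * u = u * t) {ξ : G → ℂ} (hξ : IsClassFunction G ξ) :
    secFun C u ξ = ∑ ψ : IrrCharacter C, secCoeff C u ξ (ψ : C → ℂ) • (ψ : C → ℂ) :=
  class_function_expansion _ (isClassFunction_section C hC hξ)

theorem conj_secCoeff (C : Subgroup G) [Fintype C] {u : G}
    (hC : ∀ t, t ∈ C ↔ t * u = u * t) {ξ : G → ℂ} (hξ : IsCharacter G ξ) {ψ : C → ℂ}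
    (hψ : IsCharacter C ψ) : conj (secCoeff C u ξ ψ) = secCoeff C u⁻¹ ξ ψ := by
  unfold secCoeff
  rw [classInner_conj_symm, classInner_def, classInner_def]
  congr 1
  rw [← Equiv.sum_comp (Equiv.inv C)]
  refine Finset.sum_congr rfl fun c _ => ?_
  rw [Equiv.inv_apply, secFun_apply, secFun_apply, isCharacter_inv hψ, ← isCharacter_inv hξ,
    mul_comm]
  congr 2
  rw [Subgroup.coe_inv, mul_inv_rev, inv_inv]
  have h1 : (c : G) * u = u * (c : G) := (hC _).1 c.2
  have h2 : (c : G) * u⁻¹ = u⁻¹ * (c : G) := by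
    have : u⁻¹ * ((c : G) * u) * u⁻¹ = u⁻¹ * (u * (c : G)) * u⁻¹ := by rw [h1]
    simpa [mul_assoc] using this.symm
  exact h2

omit [Fintype G] in
/-- The coefficients of a section function are algebraic integers. -/
theorem isIntegral_secCoeff (C : Subgroup G) [Fintype C] {u : G}
    (hC : ∀ t, t ∈ C ↔ t * u = u * t) {ξ : G → ℂ} (hξ : IsCharacter G ξ) {ψ : C → ℂ}
    (hψ : IsIrrCharacter C ψ) : IsIntegral ℤ (secCoeff C u ξ ψ) := by
  have huC : u ∈ C := (hC u).2 rfl
  set u' : C := ⟨u, huC⟩ with hu'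
  have hcen : u'⁻¹ ∈ Subgroup.center C := by
    apply Subgroup.inv_mem
    rw [Subgroup.mem_center_iff]
    intro c
    apply Subtype.ext
    exact (hC _).1 c.2
  have hψ1 := irr_apply_one_ne_zero hψ
  have hres := Cfsg.Agent.S0148.isCharacter_restrict C hξ
  obtain ⟨m, hm⟩ := classInner_genChar_int (isGenChar_of_isCharacter hres)
    (isGenChar_of_isCharacter (isCharacter_of_irr hψ))
  have key : secCoeff C u ξ ψ = conj (ψ u'⁻¹ / ψ 1) * (m : ℂ) := by
    rw [← hm]
    unfold secCoeff
    rw [classInner_def, classInner_def, mul_left_comm]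
    congr 1
    rw [Finset.mul_sum, ← Equiv.sum_comp (Equiv.mulLeft u'⁻¹)]
    refine Finset.sum_congr rfl fun c _ => ?_
    show ξ (u * ((u'⁻¹ * c : C) : G)) * conj (ψ (u'⁻¹ * c)) = _
    have h1 : u * ((u'⁻¹ * c : C) : G) = (c : G) := by
      rw [Subgroup.coe_mul, Subgroup.coe_inv, hu']
      simp
    have h2 : u'⁻¹ * c = c * u'⁻¹ := (Subgroup.mem_center_iff.1 hcen c).symm
    rw [h1, h2, irr_mul_central hψ c hcen, map_div₀, map_div₀, map_mul]
    ring
  rw [key]
  exact (isIntegral_conj (isIntegral_irr_central_div hψ hcen)).mul (isIntegral_intCast m)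

/-- The contribution as a sum over the irreducible characters of the block `b`. -/
theorem contrib_eq_sum (hM : IsPModular p M) (C : Subgroup G) [Fintype C]
    [Fintype (IrrCharacter C)] {u : G} (hC : ∀ t, t ∈ C ↔ t * u = u * t)
    {b : Set (IrrCharacter C)} (hb : IsPBlock M b) {ζ ξ : G → ℂ} (hζ : IsClassFunction G ζ)
    (hξ : IsClassFunction G ξ) :
    contrib p C b u ζ ξ = ∑ ψ : IrrCharacter C,
      (by classical exact if ψ ∈ b then conj (secCoeff C u ξ (ψ : C → ℂ)) * classInner (pRegularPart p (secFun C u ζ)) (ψ : C → ℂ) else 0) := by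
  classical
  have h1 : contrib p C b u ζ ξ = classInner (secPart p C b u ζ) (secFun C u ξ) := rfl
  rw [h1]
  conv_lhs => rw [secFun_expansion C hC hξ]
  rw [classInner_sum_right]
  refine Finset.sum_congr rfl fun ψ _ => ?_
  rw [classInner_smul_right]
  unfold secPart
  have hcf : IsClassFunction C (secFun C u ζ) := isClassFunction_section C hC hζ
  rw [classInner_pRegularPart_blockPart hM hb hcf]
  by_cases hψ : ψ ∈ b
  · rw [if_pos hψ, if_pos hψ]
  · rw [if_neg hψ, if_neg hψ, mul_zero]

/-- The `p`-regular inner product of a section function with a character of `b`, scaled by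
`p ^ q`, is an algebraic integer. -/
theorem isIntegral_pow_mul_mreg_secFun (hM : IsPModular p M) (C : Subgroup G) [Fintype C]
    {u : G} (hC : ∀ t, t ∈ C ↔ t * u = u * t)
    {b : Set (IrrCharacter C)} (hb : IsPBlock M b) {ζ : G → ℂ} (hζ : IsCharacter G ζ)
    {ψ : IrrCharacter C} (hψ : ψ ∈ b) :
    IsIntegral ℤ ((p : ℂ) ^ (blockDefect p b) *
      classInner (pRegularPart p (secFun C u ζ)) (ψ : C → ℂ)) := by
  classical
  have : Fintype (IrrCharacter C) := Fintype.ofFinite _
  have hMp := isPModular_isPrime hM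
  have hmove : ∀ φ : C → ℂ, classInner (pRegularPart p φ) (ψ : C → ℂ) =
      classInner φ (pRegularPart p (ψ : C → ℂ)) := by
    intro φ
    rw [classInner_pRegularPart_left, ← classInner_pRegularPart_right]
  rw [hmove]
  have hexp := secFun_expansion C hC (isClassFunction_of_isCharacter hζ)
  rw [hexp, classInner_sum_left, Finset.mul_sum]
  apply IsIntegral.sum
  intro ψ' _
  rw [classInner_smul_left, ← hmove, mul_left_comm]
  apply (isIntegral_secCoeff C hC hζ ψ'.2).mul
  by_cases hψ' : ψ' ∈ b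
  · obtain ⟨N, hN, -⟩ := exists_int_contrib_general hM (χ' := ψ) hψ'
    have : (p : ℂ) ^ blockDefect p b * classInner (pRegularPart p (ψ' : C → ℂ)) (ψ : C → ℂ) =
        (N : ℂ) := by
      rw [hN]
      rfl
    rw [this]
    exact isIntegral_intCast N
  · have hns : ¬ SameBlock M (ψ' : C → ℂ) (ψ : C → ℂ) := by
      intro hs
      apply hψ'
      rw [eq_blockOf_of_mem hMp hb hψ]
      exact sameBlock_symm hs
    rw [classInner_pRegularPart_eq_zero hM hns, mul_zero]
    exact isIntegral_zero

/-- **Integrality**: `p ^ q` times the contribution is an algebraic integer. -/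
theorem isIntegral_pow_mul_contrib (hM : IsPModular p M) (C : Subgroup G) [Fintype C]
    {u : G} (hC : ∀ t, t ∈ C ↔ t * u = u * t)
    {b : Set (IrrCharacter C)} (hb : IsPBlock M b) {ζ ξ : G → ℂ} (hζ : IsCharacter G ζ)
    (hξ : IsCharacter G ξ) :
    IsIntegral ℤ ((p : ℂ) ^ (blockDefect p b) * contrib p C b u ζ ξ) := by
  classical
  have : Fintype (IrrCharacter C) := Fintype.ofFinite _
  rw [contrib_eq_sum hM C hC hb (isClassFunction_of_isCharacter hζ)
    (isClassFunction_of_isCharacter hξ), Finset.mul_sum]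
  apply IsIntegral.sum
  intro ψ _
  by_cases hψ : ψ ∈ b
  · rw [if_pos hψ, mul_left_comm]
    exact (isIntegral_conj (isIntegral_secCoeff C hC hξ ψ.2)).mul
      (isIntegral_pow_mul_mreg_secFun hM C hC hb hζ hψ)
  · rw [if_neg hψ, mul_zero]
    exact isIntegral_zero

end

end Cfsg.Agent.Lib.Helper8
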