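import Mathlib
import Cfsg.Prelude.Def_Blocks
import Cfsg.Prelude.Def_BlockRank
import Cfsg.Agent.Lib.Helper8.KB5

/-!
# Contributions of height zero characters do not vanish modulo the local ideal
-/

set_option autoImplicit false

namespace Cfsg.Agent.Lib.Helper8

open Cfsg
open scoped ComplexConjugate
open Cfsg.Agent.Lib.Helper1 Cfsg.Agent.Lib.Helper4

universe u

section

variable {H : Type u} [Group H] [Fintype H] {p : ℕ}

omit [Fintype H] in
theorem tilde_add (F F' : H → ℂ) : tilde p (F + F') = tilde p F + tilde p F' := by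
  funext x
  rw [Pi.add_apply, tilde_eq, tilde_eq, tilde_eq]
  by_cases hx : p ∣ orderOf x
  · simp only [if_pos hx, add_zero]
  · simp only [if_neg hx, Pi.add_apply, mul_add]

end

section

variable {G : Type u} [Group G] [Fintype G] {M : Ideal AlgInt} {p : ℕ} [Fact p.Prime]

omit [Fact p.Prime] in
theorem memLocalRing_secFun (hM : M ≠ ⊤) (C : Subgroup G) (u : G) {ζ : G → ℂ}
    (hζ : IsCharacter G ζ) (c : C) : MemLocalRing M (secFun C u ζ c) := by
  exact memLocalRing_of_isIntegral hM (Cfsg.Agent.S0161.isIntegral_isCharacter hζ _)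

/-- **N1.** The tilde ratios of the section function of a height zero character are units. -/
theorem not_memLocalIdeal_tildeRatio_secFun (hM : IsPModular p M) (C : Subgroup G) [Fintype C]
    {u : G} (hC : ∀ t, t ∈ C ↔ t * u = u * t) (hu : ∃ k : ℕ, orderOf u = p ^ k)
    {b : Set (IrrCharacter C)} {B : Set (IrrCharacter G)} (hind : IsInducedBlock M C b B)
    {ψ : IrrCharacter C} (hψ : ψ ∈ b) {ζ : IrrCharacter G} (hζ : ζ ∈ B)
    (h0 : blockHeight p B (ζ : G → ℂ) = 0) :
    ¬ MemLocalIdeal M (classInner (tilde p (secFun C u (ζ : G → ℂ))) (ψ : C → ℂ) /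
      (ψ : C → ℂ) 1) := by
  have hMp := isPModular_isPrime hM
  have hζc := isCharacter_of_irr ζ.2
  have hζcf := isClassFunction_irr ζ.2
  set F := secFun C u (ζ : G → ℂ) with hF
  set R : C → ℂ := fun c : C => (ζ : G → ℂ) c with hR
  have hFcf : IsClassFunction C F := isClassFunction_section C hC hζcf
  have hRcf : IsClassFunction C R := isClassFunction_restrict C hζcf
  have hD : F = R + (F - R) := by
    funext c
    simp
  have hDcf : IsClassFunction C (F - R) := by
    intro g h
    rw [Pi.sub_apply, Pi.sub_apply, hFcf g h, hRcf g h]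
  obtain ⟨k, hk⟩ := hu
  have huk : u ^ (p ^ k) = 1 := by rw [← hk]; exact pow_orderOf_eq_one u
  have hDJ : ∀ y : C, ¬ p ∣ orderOf y → MemLocalIdeal M ((F - R) y) := by
    intro y _
    rw [Pi.sub_apply]
    have hcomm : u * (y : G) = (y : G) * u := ((hC _).1 y.2).symm
    exact memLocalIdeal_char_mul_sub hM hζc u (y : G) k huk hcomm
  have h1 := memLocalIdeal_tildeRatio_of_pRegular hM hDcf hDJ ψ
  have h2 := not_memLocalIdeal_tildeRatio_restrict hM C hind hψ hζ h0
  intro hJ
  apply h2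
  have h3 : classInner (tilde p F) (ψ : C → ℂ) / (ψ : C → ℂ) 1 =
      classInner (tilde p R) (ψ : C → ℂ) / (ψ : C → ℂ) 1 +
        classInner (tilde p (F - R)) (ψ : C → ℂ) / (ψ : C → ℂ) 1 := by
    conv_lhs => rw [hD]
    rw [tilde_add, classInner_add_left, add_div]
  rw [h3] at hJ
  have := memLocalIdeal_sub hMp hJ h1
  rwa [add_sub_cancel_right] at this

/-- **N2.** The tilde ratios of a section function are congruent within a block. -/
theorem memLocalIdeal_tildeRatio_secFun_sub (hM : IsPModular p M) (C : Subgroup G) [Fintype C]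
    {u : G} (hC : ∀ t, t ∈ C ↔ t * u = u * t)
    {b : Set (IrrCharacter C)} (hb : IsPBlock M b)
    {ψ ψ' : IrrCharacter C} (hψ : ψ ∈ b) (hψ' : ψ' ∈ b) {ζ : G → ℂ} (hζ : IsCharacter G ζ) :
    MemLocalIdeal M (classInner (tilde p (secFun C u ζ)) (ψ : C → ℂ) / (ψ : C → ℂ) 1 -
      classInner (tilde p (secFun C u ζ)) (ψ' : C → ℂ) / (ψ' : C → ℂ) 1) := by
  have hMp := isPModular_isPrime hM
  have hFcf : IsClassFunction C (secFun C u ζ) :=
    isClassFunction_section C hC (isClassFunction_of_isCharacter hζ)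
  have hs : SameBlock M (ψ : C → ℂ) (ψ' : C → ℂ) := by
    have := hψ'
    rw [eq_blockOf_of_mem hMp hb hψ] at this
    exact this
  exact memLocalIdeal_tildeRatio_sub' hM hFcf (memLocalRing_secFun hMp.ne_top C u hζ) ψ.2 ψ'.2 hs

theorem memLocalRing_tildeRatio_secFun (hM : IsPModular p M) (C : Subgroup G) [Fintype C]
    {u : G} (hC : ∀ t, t ∈ C ↔ t * u = u * t) (ψ : IrrCharacter C) {ζ : G → ℂ}
    (hζ : IsCharacter G ζ) :
    MemLocalRing M (classInner (tilde p (secFun C u ζ)) (ψ : C → ℂ) / (ψ : C → ℂ) 1) := by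
  have hMp := isPModular_isPrime hM
  have hFcf : IsClassFunction C (secFun C u ζ) :=
    isClassFunction_section C hC (isClassFunction_of_isCharacter hζ)
  exact memLocalRing_tildeRatio' hM hFcf (memLocalRing_secFun hMp.ne_top C u hζ) ψ.2

/-- A sum `∑_{ψ ∈ b} a_ψ t_ψ` with `t_ψ` congruent to `t₀` is congruent to `t₀ ∑ a_ψ`. -/
theorem memLocalIdeal_sum_mul_sub {ι : Type*} [Fintype ι] (hM : M.IsPrime) (a t : ι → ℂ)
    (t₀ : ℂ) (ha : ∀ i, MemLocalRing M (a i)) (ht : ∀ i, a i ≠ 0 → MemLocalIdeal M (t i - t₀)) :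
    MemLocalIdeal M (∑ i, a i * t i - t₀ * ∑ i, a i) := by
  rw [Finset.mul_sum, ← Finset.sum_sub_distrib]
  apply memLocalIdeal_sum hM
  intro i _
  by_cases hi : a i = 0
  · rw [hi, zero_mul, mul_zero, sub_zero]
    exact memLocalIdeal_zero hM.ne_top
  · have : a i * t i - t₀ * a i = a i * (t i - t₀) := by ring
    rw [this]
    exact memLocalIdeal_mul_left hM (ha i) (ht i hi)

end

end Cfsg.Agent.Lib.Helper8
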