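import Mathlib
import Cfsg.Prelude.Def_Blocks
import Cfsg.Prelude.Def_BlockRank
import Cfsg.Agent.Lib.Helper8.KB6

/-!
# Contributions of height zero characters do not vanish modulo the local ideal: main theorem
-/

set_option autoImplicit false

namespace Cfsg.Agent.Lib.Helper8

open Cfsg
open scoped ComplexConjugate
open Cfsg.Agent.Lib.Helper1 Cfsg.Agent.Lib.Helper4

universe u

section

variable {G : Type u} [Group G] [Fintype G] {M : Ideal AlgInt} {p : ℕ} [Fact p.Prime]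

/-- The weighted sum of the coefficients of the section function of a height zero character is a
unit. -/
theorem not_memLocalIdeal_sum_secCoeff_redDeg (hM : IsPModular p M) (C : Subgroup G) [Fintype C]
    [Fintype (IrrCharacter C)]
    {u : G} (hC : ∀ t, t ∈ C ↔ t * u = u * t) (hu : ∃ k : ℕ, orderOf u = p ^ k)
    {b : Set (IrrCharacter C)} {B : Set (IrrCharacter G)} (hind : IsInducedBlock M C b B)
    {ξ : IrrCharacter G} (hξ : ξ ∈ B) (h0 : blockHeight p B (ξ : G → ℂ) = 0) :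
    ¬ MemLocalIdeal M (∑ ψ : IrrCharacter C, (by classical exact if ψ ∈ b then secCoeff C u (ξ : G → ℂ) (ψ : C → ℂ) * (redDeg p b ψ : ℂ) else 0)) := by
  classical
  have hMp := isPModular_isPrime hM
  have hb := hind.1
  obtain ⟨ψ₀, hψ₀, hh0⟩ := exists_height_zero (p := p) hMp hb
  have hξc := isCharacter_of_irr ξ.2
  have hψ₀c := isCharacter_of_irr ψ₀.2
  have hmove : ∀ φ : C → ℂ, classInner (pRegularPart p φ) (ψ₀ : C → ℂ) =
      classInner φ (pRegularPart p (ψ₀ : C → ℂ)) := by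
    intro φ
    rw [classInner_pRegularPart_left, ← classInner_pRegularPart_right]
  -- the identity
  have hid : ∑ ψ : IrrCharacter C, (if ψ ∈ b then secCoeff C u (ξ : G → ℂ) (ψ : C → ℂ) *
        (redDeg p b ψ : ℂ) else 0) *
        (classInner (tilde p (ψ₀ : C → ℂ)) (ψ : C → ℂ) / (ψ : C → ℂ) 1) =
      (redDeg p b ψ₀ : ℂ) * (classInner (tilde p (secFun C u (ξ : G → ℂ))) (ψ₀ : C → ℂ) /
        (ψ₀ : C → ℂ) 1) := by
    rw [← pow_defect_mul_mreg hψ₀ (secFun C u (ξ : G → ℂ)), hmove]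
    have hexp := secFun_expansion C hC (isClassFunction_irr ξ.2)
    rw [hexp, classInner_sum_left, Finset.mul_sum]
    refine Finset.sum_congr rfl fun ψ _ => ?_
    rw [classInner_smul_left, ← hmove]
    by_cases hψ : ψ ∈ b
    · have h1 := pow_defect_mul_mreg (p := p) hψ (ψ₀ : C → ℂ)
      have h2 : classInner (pRegularPart p (ψ : C → ℂ)) (ψ₀ : C → ℂ) =
          classInner (pRegularPart p (ψ₀ : C → ℂ)) (ψ : C → ℂ) :=
        mreg_symm (isCharacter_of_irr ψ.2) hψ₀c
      rw [if_pos hψ, h2]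
      linear_combination (-(secCoeff C u (ξ : G → ℂ) (ψ : C → ℂ))) * h1
    · have hns : ¬ SameBlock M (ψ : C → ℂ) (ψ₀ : C → ℂ) := by
        intro hs
        apply hψ
        rw [eq_blockOf_of_mem hMp hb hψ₀]
        exact sameBlock_symm hs
      rw [if_neg hψ, zero_mul, classInner_pRegularPart_eq_zero hM hns, mul_zero, mul_zero]
  -- the right side is a unit
  have hunit : ¬ MemLocalIdeal M ((redDeg p b ψ₀ : ℂ) *
      (classInner (tilde p (secFun C u (ξ : G → ℂ))) (ψ₀ : C → ℂ) / (ψ₀ : C → ℂ) 1)) := by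
    apply not_memLocalIdeal_mul hMp (memLocalRing_natCast hMp.ne_top _)
      (memLocalRing_tildeRatio_secFun hM C hC ψ₀ hξc)
    · rw [memLocalIdeal_natCast_iff hM]
      exact redDeg_not_dvd hψ₀ hh0
    · exact not_memLocalIdeal_tildeRatio_secFun hM C hC hu hind hψ₀ hξ h0
  intro hY
  apply hunit
  rw [← hid]
  have haS : ∀ ψ : IrrCharacter C, MemLocalRing M (if ψ ∈ b then
      secCoeff C u (ξ : G → ℂ) (ψ : C → ℂ) * (redDeg p b ψ : ℂ) else 0) := by
    intro ψ
    by_cases hψ : ψ ∈ b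
    · rw [if_pos hψ]
      exact memLocalRing_mul hMp (memLocalRing_of_isIntegral hMp.ne_top
        (isIntegral_secCoeff C hC hξc ψ.2)) (memLocalRing_natCast hMp.ne_top _)
    · rw [if_neg hψ]
      exact memLocalRing_zero hMp.ne_top
  have hcong := memLocalIdeal_sum_mul_sub hMp
    (fun ψ : IrrCharacter C => if ψ ∈ b then
      secCoeff C u (ξ : G → ℂ) (ψ : C → ℂ) * (redDeg p b ψ : ℂ) else 0)
    (fun ψ : IrrCharacter C => classInner (tilde p (ψ₀ : C → ℂ)) (ψ : C → ℂ) / (ψ : C → ℂ) 1)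
    (classInner (tilde p (ψ₀ : C → ℂ)) (ψ₀ : C → ℂ) / (ψ₀ : C → ℂ) 1) haS
    (by
      intro ψ hne
      have hψ : ψ ∈ b := by
        by_contra hψ
        exact hne (if_neg hψ)
      have hs : SameBlock M (ψ : C → ℂ) (ψ₀ : C → ℂ) := by
        have := hψ₀
        rw [eq_blockOf_of_mem hMp hb hψ] at this
        exact this
      exact memLocalIdeal_tildeRatio_sub hM hψ₀c ψ.2 ψ₀.2 hs)
  have h3 := memLocalIdeal_mul_left hMp (memLocalRing_tildeRatio hM hψ₀c ψ₀.2) hY
  have h4 := memLocalIdeal_add hMp hcong h3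
  rwa [sub_add_cancel] at h4

/-- **Nonvanishing**: for height zero characters `ζ, ξ` of `B = b^G`, the number `p ^ q` times the
contribution of the subsection `(u, b)` is not in the local ideal. -/
theorem not_memLocalIdeal_pow_mul_contrib (hM : IsPModular p M) (C : Subgroup G) [Fintype C]
    {u : G} (hC : ∀ t, t ∈ C ↔ t * u = u * t) (hu : ∃ k : ℕ, orderOf u = p ^ k)
    {b : Set (IrrCharacter C)} {B : Set (IrrCharacter G)} (hind : IsInducedBlock M C b B)
    {ζ ξ : IrrCharacter G} (hζ : ζ ∈ B) (hξ : ξ ∈ B)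
    (h0ζ : blockHeight p B (ζ : G → ℂ) = 0) (h0ξ : blockHeight p B (ξ : G → ℂ) = 0) :
    ¬ MemLocalIdeal M ((p : ℂ) ^ (blockDefect p b) *
      contrib p C b u (ζ : G → ℂ) (ξ : G → ℂ)) := by
  classical
  have : Fintype (IrrCharacter C) := Fintype.ofFinite _
  have hMp := isPModular_isPrime hM
  have hb := hind.1
  have hζc := isCharacter_of_irr ζ.2
  have hξc := isCharacter_of_irr ξ.2
  obtain ⟨ψ₁, hψ₁⟩ := isPBlock_nonempty hMp hb
  have hC' : ∀ t, t ∈ C ↔ t * u⁻¹ = u⁻¹ * t := by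
    intro t
    rw [hC t]
    constructor
    · intro h
      have : u⁻¹ * (t * u) * u⁻¹ = u⁻¹ * (u * t) * u⁻¹ := by rw [h]
      simpa [mul_assoc] using this.symm
    · intro h
      have : u * (t * u⁻¹) * u = u * (u⁻¹ * t) * u := by rw [h]
      simpa [mul_assoc] using this.symm
  have hu' : ∃ k : ℕ, orderOf u⁻¹ = p ^ k := by
    obtain ⟨k, hk⟩ := hu
    exact ⟨k, by rw [orderOf_inv, hk]⟩
  have hY := not_memLocalIdeal_sum_secCoeff_redDeg hM C hC' hu' hind hξ h0ξ
  have hT := not_memLocalIdeal_tildeRatio_secFun hM C hC hu hind hψ₁ hζ h0ζ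
  -- rewrite the contribution
  have hre : (p : ℂ) ^ (blockDefect p b) * contrib p C b u (ζ : G → ℂ) (ξ : G → ℂ) =
      ∑ ψ : IrrCharacter C, (if ψ ∈ b then
        secCoeff C u⁻¹ (ξ : G → ℂ) (ψ : C → ℂ) * (redDeg p b ψ : ℂ) else 0) *
        (classInner (tilde p (secFun C u (ζ : G → ℂ))) (ψ : C → ℂ) / (ψ : C → ℂ) 1) := by
    rw [contrib_eq_sum hM C hC hb (isClassFunction_irr ζ.2) (isClassFunction_irr ξ.2),
      Finset.mul_sum]
    refine Finset.sum_congr rfl fun ψ _ => ?_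
    by_cases hψ : ψ ∈ b
    · rw [if_pos hψ, if_pos hψ, conj_secCoeff C hC hξc (isCharacter_of_irr ψ.2)]
      have h1 := pow_defect_mul_mreg (p := p) hψ (secFun C u (ζ : G → ℂ))
      linear_combination (secCoeff C u⁻¹ (ξ : G → ℂ) (ψ : C → ℂ)) * h1
    · rw [if_neg hψ, if_neg hψ, mul_zero, zero_mul]
  rw [hre]
  have haS : ∀ ψ : IrrCharacter C, MemLocalRing M (if ψ ∈ b then
      secCoeff C u⁻¹ (ξ : G → ℂ) (ψ : C → ℂ) * (redDeg p b ψ : ℂ) else 0) := by
    intro ψ
    by_cases hψ : ψ ∈ b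
    · rw [if_pos hψ]
      exact memLocalRing_mul hMp (memLocalRing_of_isIntegral hMp.ne_top
        (isIntegral_secCoeff C hC' hξc ψ.2)) (memLocalRing_natCast hMp.ne_top _)
    · rw [if_neg hψ]
      exact memLocalRing_zero hMp.ne_top
  have hcong := memLocalIdeal_sum_mul_sub hMp
    (fun ψ : IrrCharacter C => if ψ ∈ b then
      secCoeff C u⁻¹ (ξ : G → ℂ) (ψ : C → ℂ) * (redDeg p b ψ : ℂ) else 0)
    (fun ψ : IrrCharacter C =>
      classInner (tilde p (secFun C u (ζ : G → ℂ))) (ψ : C → ℂ) / (ψ : C → ℂ) 1)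
    (classInner (tilde p (secFun C u (ζ : G → ℂ))) (ψ₁ : C → ℂ) / (ψ₁ : C → ℂ) 1) haS
    (by
      intro ψ hne
      have hψ : ψ ∈ b := by
        by_contra hψ
        exact hne (if_neg hψ)
      exact memLocalIdeal_tildeRatio_secFun_sub hM C hC hb hψ hψ₁ hζc)
  have hYS : MemLocalRing M (∑ ψ : IrrCharacter C, (if ψ ∈ b then
      secCoeff C u⁻¹ (ξ : G → ℂ) (ψ : C → ℂ) * (redDeg p b ψ : ℂ) else 0)) :=
    memLocalRing_sum hMp _ _ (fun ψ _ => haS ψ)
  have hprod := not_memLocalIdeal_mul hMp (memLocalRing_tildeRatio_secFun hM C hC ψ₁ hζc) hYS hT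
    (by convert hY using 3)
  intro hJ
  apply hprod
  have := memLocalIdeal_sub hMp hJ hcong
  rwa [sub_sub_cancel] at this

end

end Cfsg.Agent.Lib.Helper8
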