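import Mathlib
import Cfsg.Prelude.Def_Blocks
import Cfsg.Prelude.Def_BlockRank
import Cfsg.Agent.Lib.Helper8.KB3
import Cfsg.Agent.Lib.Helper8.KB7

/-!
# `k₀(B)² ≤ p^{2q} l(b)` for a subsection `(u, b)` with `b` of defect `q` (all heights zero)
-/

set_option autoImplicit false

namespace Cfsg.Agent.Lib.Helper8

open Cfsg
open scoped ComplexConjugate
open Cfsg.Agent.Lib.Helper1 Cfsg.Agent.Lib.Helper4

universe u

section

variable {G : Type u} [Group G]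

theorem centralizer_pow_iff (C : Subgroup G) {u : G} (hC : ∀ t, t ∈ C ↔ t * u = u * t) {k : ℕ}
    (hk : k.Coprime (orderOf u)) : ∀ t, t ∈ C ↔ t * u ^ k = u ^ k * t := by
  intro t
  rw [hC t]
  constructor
  · intro h
    have hc : Commute t u := h
    exact hc.pow_right k
  · intro h
    obtain ⟨m, hm⟩ := exists_pow_eq_self_of_coprime hk
    have hc : Commute t (u ^ k) := h
    have := hc.pow_right m
    rw [hm] at this
    exact this

end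

section

variable {G : Type u} [Group G] [Fintype G] {M : Ideal AlgInt} {p : ℕ} [Fact p.Prime]

/-- **Héthelyi–Külshammer–Sambale** (all heights zero): `k(B)² ≤ p^{2q} l(b)` for a subsection
`(u, b)` of `B` with `b` of defect `q`. -/
theorem card_sq_le_of_height_zero (hM : IsPModular p M) {B : Set (IrrCharacter G)}
    (hh : ∀ χ ∈ B, blockHeight p B (χ : G → ℂ) = 0) (C : Subgroup G) [Fintype C] {u : G}
    (hC : ∀ t, t ∈ C ↔ t * u = u * t) (hu : ∃ k : ℕ, orderOf u = p ^ k)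
    {b : Set (IrrCharacter C)} (hind : IsInducedBlock M C b B) :
    Nat.card B ^ 2 ≤ p ^ (2 * blockDefect p b) * blockRank p b := by
  classical
  have : Fintype (IrrCharacter G) := Fintype.ofFinite _
  have hMp := isPModular_isPrime hM
  have hp : p.Prime := Fact.out
  have hb := hind.1
  obtain ⟨N, hN⟩ : ∃ N, N = Nat.card G := ⟨_, rfl⟩
  have hN0 : NeZero N := ⟨hN ▸ Nat.card_pos.ne'⟩
  let K := CyclotomicField N ℚ
  have hcyc : IsCyclotomicExtension {N} ℚ K :=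
    CyclotomicField.instIsCyclotomicExtensionSingletonNatSetOfCharZero N ℚ
  let ι : K →+* ℂ := ((IsAlgClosed.lift : K →ₐ[ℚ] ℂ) : K →+* ℂ)
  have hfd : FiniteDimensional ℚ K := IsCyclotomicExtension.finiteDimensional {N} ℚ K
  have hk : ∀ σ : K ≃ₐ[ℚ] K, ∃ k : ℕ, k.Coprime N ∧ ∀ z : K, z ^ N = 1 → σ z = z ^ k :=
    fun σ => aut_pow N σ
  choose k hk1 hk2 using hk
  have hfin : Finite (K ≃ₐ[ℚ] K) := inferInstance
  have : Fintype (K ≃ₐ[ℚ] K) := Fintype.ofFinite _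
  have hn : ∀ g : G, g ^ N = 1 := fun g => hN ▸ pow_card_eq_one'
  have hcop : ∀ σ, (Nat.card G).Coprime (k σ) := fun σ => (hN ▸ hk1 σ).symm
  set q := blockDefect p b with hq
  have hkord : ∀ σ, (k σ).Coprime (orderOf u) :=
    fun σ => Nat.Coprime.coprime_dvd_right (orderOf_dvd_natCard u) (hcop σ).symm
  have hCσ : ∀ σ, ∀ t, t ∈ C ↔ t * u ^ k σ = u ^ k σ * t :=
    fun σ => centralizer_pow_iff C hC (hkord σ)
  have huσ : ∀ σ, ∃ j : ℕ, orderOf (u ^ k σ) = p ^ j := by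
    intro σ
    obtain ⟨j, hj⟩ := hu
    exact ⟨j, by rw [(hkord σ).symm.orderOf_pow, hj]⟩
  have hcardpos : (0 : ℝ) < Fintype.card (K ≃ₐ[ℚ] K) := by
    exact_mod_cast Fintype.card_pos
  -- each pair
  have hpair : ∀ ζ ∈ B, ∀ ξ ∈ B, (Fintype.card (K ≃ₐ[ℚ] K) : ℝ) ≤
      (p : ℝ) ^ (2 * q) * ∑ σ : K ≃ₐ[ℚ] K,
        Complex.normSq (contrib p C b (u ^ k σ) (ζ : G → ℂ) (ξ : G → ℂ)) := by
    intro ζ hζ ξ hξ
    have hζc := isCharacter_of_irr ζ.2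
    have hξc := isCharacter_of_irr ξ.2
    have htr : Tracked ι (fun σ => ((p ^ q : ℕ) : ℂ) *
        contrib p C b (u ^ k σ) (ζ : G → ℂ) (ξ : G → ℂ)) :=
      (tracked_natCast _).mul (tracked_contrib N ι k hk2 hn hcop p C hC b hζc hξc)
    have hint : IsIntegral ℤ (((p ^ q : ℕ) : ℂ) *
        contrib p C b (u ^ k 1) (ζ : G → ℂ) (ξ : G → ℂ)) := by
      have := isIntegral_pow_mul_contrib hM C (hCσ 1) hb hζc hξc
      push_cast
      exact this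
    have hne : ((p ^ q : ℕ) : ℂ) * contrib p C b (u ^ k 1) (ζ : G → ℂ) (ξ : G → ℂ) ≠ 0 := by
      intro h0
      have := not_memLocalIdeal_pow_mul_contrib hM C (hCσ 1) (huσ 1) hind hζ hξ
        (hh ζ hζ) (hh ξ hξ)
      apply this
      push_cast at h0
      rw [h0]
      exact memLocalIdeal_zero hMp.ne_top
    have h1 := card_le_sum_normSq_of_tracked N ι htr hint hne
    have h2 : ∀ σ : K ≃ₐ[ℚ] K, Complex.normSq (((p ^ q : ℕ) : ℂ) *
        contrib p C b (u ^ k σ) (ζ : G → ℂ) (ξ : G → ℂ)) =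
        (p : ℝ) ^ (2 * q) * Complex.normSq (contrib p C b (u ^ k σ) (ζ : G → ℂ) (ξ : G → ℂ)) := by
      intro σ
      rw [Complex.normSq_mul, Complex.normSq_natCast]
      push_cast
      ring
    rw [Finset.sum_congr rfl (fun σ _ => h2 σ), ← Finset.mul_sum] at h1
    exact h1
  -- sum over the pairs
  set S : Finset (IrrCharacter G) := Finset.univ.filter (fun ζ => ζ ∈ B) with hS
  have hcardB : Nat.card B = S.card := by
    rw [Nat.card_eq_fintype_card]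
    exact Fintype.card_of_subtype S (fun x => by simp [hS])
  have hsum : ((S.card : ℝ) ^ 2) * (Fintype.card (K ≃ₐ[ℚ] K) : ℝ) ≤
      (p : ℝ) ^ (2 * q) * ((Fintype.card (K ≃ₐ[ℚ] K) : ℝ) * (blockRank p b : ℝ)) := by
    have h1 : ∑ ζ ∈ S, ∑ ξ ∈ S, (Fintype.card (K ≃ₐ[ℚ] K) : ℝ) ≤
        ∑ ζ ∈ S, ∑ ξ ∈ S, (p : ℝ) ^ (2 * q) * ∑ σ : K ≃ₐ[ℚ] K,
          Complex.normSq (contrib p C b (u ^ k σ) (ζ : G → ℂ) (ξ : G → ℂ)) := by
      apply Finset.sum_le_sum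
      intro ζ hζ
      apply Finset.sum_le_sum
      intro ξ hξ
      exact hpair ζ (Finset.mem_filter.1 hζ).2 ξ (Finset.mem_filter.1 hξ).2
    have h2 : ∑ ζ ∈ S, ∑ ξ ∈ S, (Fintype.card (K ≃ₐ[ℚ] K) : ℝ) =
        ((S.card : ℝ) ^ 2) * (Fintype.card (K ≃ₐ[ℚ] K) : ℝ) := by
      simp only [Finset.sum_const, nsmul_eq_mul]
      ring
    have h3 : ∑ ζ ∈ S, ∑ ξ ∈ S, (p : ℝ) ^ (2 * q) * ∑ σ : K ≃ₐ[ℚ] K,
          Complex.normSq (contrib p C b (u ^ k σ) (ζ : G → ℂ) (ξ : G → ℂ)) ≤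
        (p : ℝ) ^ (2 * q) * ((Fintype.card (K ≃ₐ[ℚ] K) : ℝ) * (blockRank p b : ℝ)) := by
      have h4 : ∑ ζ ∈ S, ∑ ξ ∈ S, (p : ℝ) ^ (2 * q) * ∑ σ : K ≃ₐ[ℚ] K,
          Complex.normSq (contrib p C b (u ^ k σ) (ζ : G → ℂ) (ξ : G → ℂ)) =
          (p : ℝ) ^ (2 * q) * ∑ σ : K ≃ₐ[ℚ] K, ∑ ζ ∈ S, ∑ ξ ∈ S,
            Complex.normSq (contrib p C b (u ^ k σ) (ζ : G → ℂ) (ξ : G → ℂ)) := by
        simp only [← Finset.mul_sum]
        congr 1
        calc ∑ ζ ∈ S, ∑ ξ ∈ S, ∑ σ : K ≃ₐ[ℚ] K,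
              Complex.normSq (contrib p C b (u ^ k σ) (ζ : G → ℂ) (ξ : G → ℂ))
            = ∑ ζ ∈ S, ∑ σ : K ≃ₐ[ℚ] K, ∑ ξ ∈ S,
              Complex.normSq (contrib p C b (u ^ k σ) (ζ : G → ℂ) (ξ : G → ℂ)) :=
              Finset.sum_congr rfl (fun ζ _ => Finset.sum_comm)
          _ = ∑ σ : K ≃ₐ[ℚ] K, ∑ ζ ∈ S, ∑ ξ ∈ S,
              Complex.normSq (contrib p C b (u ^ k σ) (ζ : G → ℂ) (ξ : G → ℂ)) :=
              Finset.sum_comm
      rw [h4]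
      apply mul_le_mul_of_nonneg_left _ (by positivity)
      have h5 : ∀ σ : K ≃ₐ[ℚ] K, ∑ ζ ∈ S, ∑ ξ ∈ S,
          Complex.normSq (contrib p C b (u ^ k σ) (ζ : G → ℂ) (ξ : G → ℂ)) ≤
          (blockRank p b : ℝ) := by
        intro σ
        rw [← sum_sum_normSq_contrib hM C (hCσ σ) (huσ σ) hb]
        apply (Finset.sum_le_sum (fun ζ _ => Finset.sum_le_sum_of_subset_of_nonneg
          (Finset.subset_univ S) (fun ξ _ _ => Complex.normSq_nonneg _))).trans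
        exact Finset.sum_le_sum_of_subset_of_nonneg (Finset.subset_univ S)
          (fun ζ _ _ => Finset.sum_nonneg (fun ξ _ => Complex.normSq_nonneg _))
      calc ∑ σ : K ≃ₐ[ℚ] K, ∑ ζ ∈ S, ∑ ξ ∈ S,
            Complex.normSq (contrib p C b (u ^ k σ) (ζ : G → ℂ) (ξ : G → ℂ))
          ≤ ∑ _σ : K ≃ₐ[ℚ] K, (blockRank p b : ℝ) := Finset.sum_le_sum (fun σ _ => h5 σ)
        _ = (Fintype.card (K ≃ₐ[ℚ] K) : ℝ) * (blockRank p b : ℝ) := by
          rw [Finset.sum_const, Finset.card_univ, nsmul_eq_mul]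
    rw [← h2]
    exact h1.trans h3
  have hfinal : ((S.card : ℝ) ^ 2) ≤ (p : ℝ) ^ (2 * q) * (blockRank p b : ℝ) := by
    have h1 : ((S.card : ℝ) ^ 2) * (Fintype.card (K ≃ₐ[ℚ] K) : ℝ) ≤
        ((p : ℝ) ^ (2 * q) * (blockRank p b : ℝ)) * (Fintype.card (K ≃ₐ[ℚ] K) : ℝ) := by
      calc ((S.card : ℝ) ^ 2) * (Fintype.card (K ≃ₐ[ℚ] K) : ℝ)
          ≤ (p : ℝ) ^ (2 * q) * ((Fintype.card (K ≃ₐ[ℚ] K) : ℝ) * (blockRank p b : ℝ)) := hsum
        _ = ((p : ℝ) ^ (2 * q) * (blockRank p b : ℝ)) * (Fintype.card (K ≃ₐ[ℚ] K) : ℝ) := by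
          ring
    exact le_of_mul_le_mul_right h1 hcardpos
  rw [hcardB]
  exact_mod_cast hfinal

end

end Cfsg.Agent.Lib.Helper8
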