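import Mathlib
import Cfsg.Prelude.Def_Blocks
import Cfsg.Prelude.Def_BlockRank
import Cfsg.Agent.Lib.Helper8.KB5

/-!
# The contribution matrix is a Hermitian idempotent: rows
-/

set_option autoImplicit false

namespace Cfsg.Agent.Lib.Helper8

open Cfsg
open scoped ComplexConjugate
open Cfsg.Agent.Lib.Helper1 Cfsg.Agent.Lib.Helper4

universe u

section

variable {H : Type u} [Group H] [Fintype H]

theorem blockPart_eq_sum_smul [Fintype (IrrCharacter H)] (b : Set (IrrCharacter H)) (F : H → ℂ) :
    blockPart b F = ∑ ψ' : IrrCharacter H,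
      ((by classical exact if ψ' ∈ b then (1 : ℂ) else 0) * classInner F (ψ' : H → ℂ)) • (ψ' : H → ℂ) := by
  classical
  funext g
  rw [blockPart_eq_sum, Finset.sum_apply]
  refine Finset.sum_congr rfl fun ψ' _ => ?_
  rw [Pi.smul_apply, smul_eq_mul]
  ring

end

section

variable {G : Type u} [Group G] [Fintype G] {M : Ideal AlgInt} {p : ℕ}

/-- The diagonal contribution is the squared norm of the section part. -/
theorem contrib_self_eq (hM : IsPModular p M) (C : Subgroup G) [Fintype C]
    {u : G} (hC : ∀ t, t ∈ C ↔ t * u = u * t)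
    {b : Set (IrrCharacter C)} (hb : IsPBlock M b) {ζ : G → ℂ} (hζ : IsClassFunction G ζ) :
    contrib p C b u ζ ζ = classInner (secPart p C b u ζ) (secPart p C b u ζ) := by
  classical
  have : Fintype (IrrCharacter C) := Fintype.ofFinite _
  have hcf : IsClassFunction C (secFun C u ζ) := isClassFunction_section C hC hζ
  rw [contrib_eq_sum hM C hC hb hζ hζ]
  unfold secPart
  rw [← classInner_pRegularPart_left]
  conv_rhs => rw [blockPart_eq_sum_smul b (secFun C u ζ)]
  rw [classInner_sum_right]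
  refine Finset.sum_congr rfl fun ψ _ => ?_
  rw [classInner_smul_right, ← blockPart_eq_sum_smul,
    classInner_pRegularPart_blockPart hM hb hcf]
  by_cases hψ : ψ ∈ b
  · simp only [if_pos hψ, one_mul]
    rfl
  · simp only [if_neg hψ, zero_mul, map_zero]

/-- **Rows**: `∑_ξ |m(ζ, ξ)|² = m(ζ, ζ)`. -/
theorem sum_normSq_contrib_eq_self (hM : IsPModular p M) (C : Subgroup G) [Fintype C] {u : G}
    (hC : ∀ t, t ∈ C ↔ t * u = u * t) (hu : ∃ k : ℕ, orderOf u = p ^ k)
    {b : Set (IrrCharacter C)} (hb : IsPBlock M b) [Fintype (IrrCharacter G)] {ζ : G → ℂ}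
    (hζ : IsClassFunction G ζ) :
    ((∑ ξ : IrrCharacter G, Complex.normSq (contrib p C b u ζ (ξ : G → ℂ)) : ℝ) : ℂ) =
      contrib p C b u ζ ζ := by
  rw [sum_normSq_contrib hM.1 C hC hu b ζ, contrib_self_eq hM C hC hb hζ, classInner_def]
  push_cast
  congr 1
  refine Finset.sum_congr rfl fun c _ => ?_
  rw [Complex.mul_conj]

end

end Cfsg.Agent.Lib.Helper8
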