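import Mathlib
import Cfsg.Prelude.Def_Blocks
import Cfsg.Prelude.Def_BlockRank
import Cfsg.Agent.Lib.Helper8.KB9

/-!
# An explicit formula for the diagonal contributions at the powers of `u`
-/

set_option autoImplicit false

namespace Cfsg.Agent.Lib.Helper8

open Cfsg
open scoped ComplexConjugate
open Cfsg.Agent.Lib.Helper1 Cfsg.Agent.Lib.Helper4

universe u

section

variable {G : Type u} [Group G] [Fintype G] {M : Ideal AlgInt} {p : ℕ}

omit [Fintype G] in
/-- The coefficients of the section function at a central element of `C`. -/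
theorem secCoeff_eq_of_central (C : Subgroup G) [Fintype C] {v : G} (hvC : v ∈ C)
    (hv : ∀ c : C, (c : G) * v = v * (c : G)) {ζ : G → ℂ} {ψ : C → ℂ}
    (hψ : IsIrrCharacter C ψ) :
    secCoeff C v ζ ψ = (ψ ⟨v, hvC⟩ / ψ 1) * classInner (fun c : C => ζ (c : G)) ψ := by
  set v' : C := ⟨v, hvC⟩ with hv'
  have hcen : v'⁻¹ ∈ Subgroup.center C := by
    apply Subgroup.inv_mem
    rw [Subgroup.mem_center_iff]
    intro c
    apply Subtype.ext
    exact hv c
  have hψ1 := irr_apply_one_ne_zero hψ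
  have hψc := isCharacter_of_irr hψ
  have hconj : conj (ψ v'⁻¹ / ψ 1) = ψ v' / ψ 1 := by
    obtain ⟨n, hn⟩ := isCharacter_apply_one hψc
    rw [map_div₀, isCharacter_inv hψc, Complex.conj_conj, hn, Complex.conj_natCast]
  rw [← hconj]
  unfold secCoeff
  rw [classInner_def, classInner_def, mul_left_comm]
  congr 1
  rw [Finset.mul_sum, ← Equiv.sum_comp (Equiv.mulLeft v'⁻¹)]
  refine Finset.sum_congr rfl fun c _ => ?_
  show ζ (v * ((v'⁻¹ * c : C) : G)) * conj (ψ (v'⁻¹ * c)) = _
  have h1 : v * ((v'⁻¹ * c : C) : G) = (c : G) := by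
    rw [Subgroup.coe_mul, Subgroup.coe_inv, hv']
    simp
  have h2 : v'⁻¹ * c = c * v'⁻¹ := (Subgroup.mem_center_iff.1 hcen c).symm
  rw [h1, h2, irr_mul_central hψ c hcen, map_div₀, map_div₀, map_mul]
  ring

omit [Fintype G] in
/-- The `p`-regular inner product of a section function with an irreducible character. -/
theorem classInner_pRegularPart_secFun (C : Subgroup G) [Fintype C] [Fintype (IrrCharacter C)]
    {v : G} (hC : ∀ t, t ∈ C ↔ t * v = v * t) {ζ : G → ℂ} (hζ : IsClassFunction G ζ)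
    (ψ : IrrCharacter C) :
    classInner (pRegularPart p (secFun C v ζ)) (ψ : C → ℂ) =
      ∑ ψ' : IrrCharacter C, secCoeff C v ζ (ψ' : C → ℂ) * mreg p (ψ' : C → ℂ) (ψ : C → ℂ) := by
  have hmove : ∀ φ : C → ℂ, classInner (pRegularPart p φ) (ψ : C → ℂ) =
      classInner φ (pRegularPart p (ψ : C → ℂ)) := by
    intro φ
    rw [classInner_pRegularPart_left, ← classInner_pRegularPart_right]
  rw [hmove]
  have hexp := secFun_expansion C hC hζ
  rw [hexp, classInner_sum_left]
  refine Finset.sum_congr rfl fun ψ' _ => ?_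
  rw [classInner_smul_left, ← hmove]
  rfl

/-- The weights of the explicit formula. -/
noncomputable def kbWeight (p : ℕ) (C : Subgroup G) [Fintype C] (b : Set (IrrCharacter C))
    (ζ : G → ℂ) (ψ ψ' : IrrCharacter C) : ℂ :=
  by classical exact if ψ ∈ b then classInner (fun c : C => ζ (c : G)) (ψ : C → ℂ) * classInner (fun c : C => ζ (c : G)) (ψ' : C → ℂ) * ((p : ℂ) ^ (blockDefect p b) * mreg p (ψ' : C → ℂ) (ψ : C → ℂ)) else 0

omit [Fintype G] in
/-- The weights are integers. -/
theorem exists_int_kbWeight (hM : IsPModular p M) (C : Subgroup G) [Fintype C]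
    {b : Set (IrrCharacter C)} (hb : IsPBlock M b) {ζ : G → ℂ} (hζ : IsCharacter G ζ)
    (ψ ψ' : IrrCharacter C) : ∃ m : ℤ, kbWeight p C b ζ ψ ψ' = (m : ℂ) := by
  classical
  have hMp := isPModular_isPrime hM
  have hres := Cfsg.Agent.S0148.isCharacter_restrict C hζ
  obtain ⟨m1, hm1⟩ := classInner_genChar_int (isGenChar_of_isCharacter hres)
    (isGenChar_of_isCharacter (isCharacter_of_irr ψ.2))
  obtain ⟨m2, hm2⟩ := classInner_genChar_int (isGenChar_of_isCharacter hres)
    (isGenChar_of_isCharacter (isCharacter_of_irr ψ'.2))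
  unfold kbWeight
  by_cases hψ : ψ ∈ b
  · rw [if_pos hψ, hm1, hm2]
    by_cases hψ' : ψ' ∈ b
    · obtain ⟨N, hN, -⟩ := exists_int_contrib_general hM (χ' := ψ) hψ'
      rw [← hN]
      exact ⟨m1 * m2 * N, by push_cast; ring⟩
    · have hns : ¬ SameBlock M (ψ' : C → ℂ) (ψ : C → ℂ) := by
        intro hs
        apply hψ'
        rw [eq_blockOf_of_mem hMp hb hψ]
        exact sameBlock_symm hs
      have h0 : mreg p (ψ' : C → ℂ) (ψ : C → ℂ) = 0 := classInner_pRegularPart_eq_zero hM hns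
      rw [h0]
      exact ⟨0, by simp⟩
  · rw [if_neg hψ]
    exact ⟨0, by simp⟩

omit [Fintype G] in
/-- The weights are symmetric. -/
theorem kbWeight_symm (hM : IsPModular p M) (C : Subgroup G) [Fintype C]
    {b : Set (IrrCharacter C)} (hb : IsPBlock M b) (ζ : G → ℂ)
    (ψ ψ' : IrrCharacter C) : kbWeight p C b ζ ψ ψ' = kbWeight p C b ζ ψ' ψ := by
  classical
  have hMp := isPModular_isPrime hM
  unfold kbWeight
  have hsymm : mreg p (ψ' : C → ℂ) (ψ : C → ℂ) = mreg p (ψ : C → ℂ) (ψ' : C → ℂ) :=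
    mreg_symm (isCharacter_of_irr ψ'.2) (isCharacter_of_irr ψ.2)
  by_cases hψ : ψ ∈ b
  · by_cases hψ' : ψ' ∈ b
    · rw [if_pos hψ, if_pos hψ', hsymm]
      ring
    · have hns : ¬ SameBlock M (ψ' : C → ℂ) (ψ : C → ℂ) := by
        intro hs
        apply hψ'
        rw [eq_blockOf_of_mem hMp hb hψ]
        exact sameBlock_symm hs
      have h0 : mreg p (ψ' : C → ℂ) (ψ : C → ℂ) = 0 := classInner_pRegularPart_eq_zero hM hns
      rw [if_pos hψ, if_neg hψ', h0]
      ring
  · by_cases hψ' : ψ' ∈ b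
    · have hns : ¬ SameBlock M (ψ : C → ℂ) (ψ' : C → ℂ) := by
        intro hs
        apply hψ
        rw [eq_blockOf_of_mem hMp hb hψ']
        exact sameBlock_symm hs
      have h0 : mreg p (ψ : C → ℂ) (ψ' : C → ℂ) = 0 := classInner_pRegularPart_eq_zero hM hns
      rw [if_neg hψ, if_pos hψ', h0]
      ring
    · rw [if_neg hψ, if_neg hψ']

/-- **Explicit formula** for the scaled diagonal contribution at a central element. -/
theorem pow_mul_contrib_self_eq (hM : IsPModular p M) (C : Subgroup G) [Fintype C]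
    [Fintype (IrrCharacter C)] {v : G} (hC : ∀ t, t ∈ C ↔ t * v = v * t)
    {b : Set (IrrCharacter C)} (hb : IsPBlock M b) {ζ : G → ℂ} (hζ : IsCharacter G ζ)
    (lam : IrrCharacter C → ℂ)
    (hlam : ∀ ψ : IrrCharacter C, lam ψ = (ψ : C → ℂ) ⟨v, (hC v).2 rfl⟩ / (ψ : C → ℂ) 1) :
    (p : ℂ) ^ (blockDefect p b) * contrib p C b v ζ ζ =
      ∑ ψ : IrrCharacter C, ∑ ψ' : IrrCharacter C,
        kbWeight p C b ζ ψ ψ' * (lam ψ' * conj (lam ψ)) := by
  classical
  have hζcf := isClassFunction_of_isCharacter hζ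
  have hres := Cfsg.Agent.S0148.isCharacter_restrict C hζ
  have hv : ∀ c : C, (c : G) * v = v * (c : G) := fun c => (hC _).1 c.2
  rw [contrib_eq_sum hM C hC hb hζcf hζcf, Finset.mul_sum]
  refine Finset.sum_congr rfl fun ψ _ => ?_
  by_cases hψ : ψ ∈ b
  · rw [if_pos hψ, classInner_pRegularPart_secFun C hC hζcf, Finset.mul_sum, Finset.mul_sum]
    refine Finset.sum_congr rfl fun ψ' _ => ?_
    rw [secCoeff_eq_of_central C ((hC v).2 rfl) hv ψ.2,
      secCoeff_eq_of_central C ((hC v).2 rfl) hv ψ'.2, ← hlam, ← hlam]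
    obtain ⟨m1, hm1⟩ := classInner_genChar_int (isGenChar_of_isCharacter hres)
      (isGenChar_of_isCharacter (isCharacter_of_irr ψ.2))
    unfold kbWeight
    rw [if_pos hψ, map_mul, hm1, map_intCast]
    ring
  · rw [if_neg hψ, mul_zero]
    symm
    apply Finset.sum_eq_zero
    intro ψ' _
    unfold kbWeight
    rw [if_neg hψ, zero_mul]

end

end Cfsg.Agent.Lib.Helper8
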