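import Mathlib
import Cfsg.Prelude.Def_Blocks
import Cfsg.Prelude.Def_BlockRank
import Cfsg.Agent.Lib.Helper8.KB10
import Cfsg.Agent.Lib.Helper8.MJ2

set_option autoImplicit false

/-!
# The lattice spanned by the `p`-regular parts of the characters of a block
-/

namespace Cfsg.Agent.Lib.Helper8.MJ

open Cfsg
open scoped ComplexConjugate
open Cfsg.Agent.Lib.Helper1 Cfsg.Agent.Lib.Helper4 Cfsg.Agent.Lib.Helper8

universe u

section

variable {H : Type u} [Group H] [Fintype H] {M : Ideal AlgInt} {p : ℕ}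

/-- the lattice spanned by the `p`-regular parts of the members of `b` -/
noncomputable def lat (p : ℕ) (b : Set (IrrCharacter H)) : AddSubgroup (H → ℂ) :=
  AddSubgroup.closure ((fun ψ : IrrCharacter H => pRegularPart p (ψ : H → ℂ)) '' b)

omit [Fintype H] in
theorem pReg_mem_lat {b : Set (IrrCharacter H)} {ψ : IrrCharacter H} (hψ : ψ ∈ b) :
    pRegularPart p (ψ : H → ℂ) ∈ lat p b :=
  AddSubgroup.subset_closure ⟨ψ, hψ, rfl⟩

theorem lat_isClassFunction {b : Set (IrrCharacter H)} {α : H → ℂ} (hα : α ∈ lat p b) :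
    IsClassFunction H α := by
  unfold lat at hα
  induction hα using AddSubgroup.closure_induction with
  | mem x hx =>
    obtain ⟨ψ, _, rfl⟩ := hx
    exact isClassFunction_pRegularPart (isClassFunction_irr ψ.2)
  | zero => exact isClassFunction_zero'
  | add x y _ _ ihx ihy => exact isClassFunction_add' ihx ihy
  | neg x _ ih => exact isClassFunction_neg' ih

omit [Fintype H] in
theorem lat_vanish {b : Set (IrrCharacter H)} {α : H → ℂ} (hα : α ∈ lat p b) :
    ∀ h : H, p ∣ orderOf h → α h = 0 := by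
  unfold lat at hα
  induction hα using AddSubgroup.closure_induction with
  | mem x hx =>
    obtain ⟨ψ, _, rfl⟩ := hx
    intro h hh
    exact pRegularPart_of_dvd _ hh
  | zero => intro h _; rfl
  | add x y _ _ ihx ihy =>
    intro h hh
    rw [Pi.add_apply, ihx h hh, ihy h hh, add_zero]
  | neg x _ ih =>
    intro h hh
    rw [Pi.neg_apply, ih h hh, neg_zero]

omit [Fintype H] in
theorem lat_pRegularPart {b : Set (IrrCharacter H)} {α : H → ℂ} (hα : α ∈ lat p b) :
    pRegularPart p α = α := by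
  funext h
  by_cases hh : p ∣ orderOf h
  · rw [pRegularPart_of_dvd _ hh, lat_vanish hα h hh]
  · rw [pRegularPart_of_not_dvd _ hh]

omit [Fintype H] in
theorem lat_isIntegral [Finite H] {b : Set (IrrCharacter H)} {α : H → ℂ} (hα : α ∈ lat p b) (h : H) :
    IsIntegral ℤ (α h) := by
  unfold lat at hα
  induction hα using AddSubgroup.closure_induction with
  | mem x hx =>
    obtain ⟨ψ, _, rfl⟩ := hx
    show IsIntegral ℤ (pRegularPart p (ψ : H → ℂ) h)
    by_cases hh : p ∣ orderOf h
    · rw [pRegularPart_of_dvd _ hh]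
      exact isIntegral_zero
    · rw [pRegularPart_of_not_dvd _ hh]
      exact Cfsg.Agent.S0161.isIntegral_isCharacter (isCharacter_of_irr ψ.2) h
  | zero => exact isIntegral_zero
  | add x y _ _ ihx ihy => exact ihx.add ihy
  | neg x _ ih => exact ih.neg

/-- the scaled form -/
noncomputable def qf (p : ℕ) (b : Set (IrrCharacter H)) (α γ : H → ℂ) : ℂ :=
  (p : ℂ) ^ (blockDefect p b) * classInner α γ

theorem qf_add_right (b : Set (IrrCharacter H)) (α γ γ' : H → ℂ) :
    qf p b α (γ + γ') = qf p b α γ + qf p b α γ' := by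
  unfold qf
  rw [classInner_add_right, mul_add]

theorem qf_add_left (b : Set (IrrCharacter H)) (α α' γ : H → ℂ) :
    qf p b (α + α') γ = qf p b α γ + qf p b α' γ := by
  unfold qf
  rw [classInner_add_left, mul_add]

theorem qf_neg_right (b : Set (IrrCharacter H)) (α γ : H → ℂ) :
    qf p b α (-γ) = - qf p b α γ := by
  unfold qf
  rw [classInner_neg_right, mul_neg]

theorem qf_neg_left (b : Set (IrrCharacter H)) (α γ : H → ℂ) :
    qf p b (-α) γ = - qf p b α γ := by
  unfold qf
  rw [classInner_neg_left, mul_neg]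

theorem qf_zero_right (b : Set (IrrCharacter H)) (α : H → ℂ) : qf p b α 0 = 0 := by
  unfold qf
  rw [classInner_zero_right, mul_zero]

theorem qf_zero_left (b : Set (IrrCharacter H)) (α : H → ℂ) : qf p b 0 α = 0 := by
  unfold qf
  rw [classInner_zero_left, mul_zero]

theorem qf_sub_left (b : Set (IrrCharacter H)) (α α' γ : H → ℂ) :
    qf p b (α - α') γ = qf p b α γ - qf p b α' γ := by
  rw [sub_eq_add_neg, qf_add_left, qf_neg_left, sub_eq_add_neg]

theorem qf_sub_right (b : Set (IrrCharacter H)) (α γ γ' : H → ℂ) :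
    qf p b α (γ - γ') = qf p b α γ - qf p b α γ' := by
  rw [sub_eq_add_neg, qf_add_right, qf_neg_right, sub_eq_add_neg]

theorem qf_smul_left (b : Set (IrrCharacter H)) (c : ℂ) (α γ : H → ℂ) :
    qf p b (c • α) γ = c * qf p b α γ := by
  unfold qf
  rw [classInner_smul_left]
  ring

theorem qf_smul_right (b : Set (IrrCharacter H)) (c : ℂ) (α γ : H → ℂ) :
    qf p b α (c • γ) = conj c * qf p b α γ := by
  unfold qf
  rw [classInner_smul_right]
  ring

theorem qf_conj_symm (b : Set (IrrCharacter H)) (α γ : H → ℂ) :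
    conj (qf p b α γ) = qf p b γ α := by
  unfold qf
  rw [map_mul, classInner_conj_symm, map_pow, Complex.conj_natCast]

/-- **Integrality** of the form on the lattice. -/
theorem lat_int (hM : IsPModular p M) {b : Set (IrrCharacter H)}
    {α γ : H → ℂ} (hα : α ∈ lat p b) (hγ : γ ∈ lat p b) :
    ∃ n : ℤ, qf p b α γ = (n : ℂ) := by
  have hgen : ∀ ψ ∈ b, ∀ γ ∈ lat p b, ∃ n : ℤ, qf p b (pRegularPart p (ψ : H → ℂ)) γ = (n : ℂ) := by
    intro ψ hψ γ hγ
    unfold lat at hγ
    induction hγ using AddSubgroup.closure_induction with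
    | mem x hx =>
      obtain ⟨ψ', _, rfl⟩ := hx
      obtain ⟨N, hN, -⟩ := exists_int_contrib_general hM (χ' := ψ') hψ
      refine ⟨N, ?_⟩
      rw [hN]
      unfold qf mreg
      rw [← classInner_pRegularPart_left]
    | zero => exact ⟨0, by rw [qf_zero_right]; simp⟩
    | add x y _ _ ihx ihy =>
      obtain ⟨n1, h1⟩ := ihx
      obtain ⟨n2, h2⟩ := ihy
      exact ⟨n1 + n2, by rw [qf_add_right, h1, h2]; push_cast; rfl⟩
    | neg x _ ih =>
      obtain ⟨n1, h1⟩ := ih
      exact ⟨-n1, by rw [qf_neg_right, h1]; push_cast; rfl⟩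
  unfold lat at hα
  induction hα using AddSubgroup.closure_induction with
  | mem x hx =>
    obtain ⟨ψ, hψ, rfl⟩ := hx
    exact hgen ψ hψ γ hγ
  | zero => exact ⟨0, by rw [qf_zero_left]; simp⟩
  | add x y _ _ ihx ihy =>
    obtain ⟨n1, h1⟩ := ihx
    obtain ⟨n2, h2⟩ := ihy
    exact ⟨n1 + n2, by rw [qf_add_left, h1, h2]; push_cast; rfl⟩
  | neg x _ ih =>
    obtain ⟨n1, h1⟩ := ih
    exact ⟨-n1, by rw [qf_neg_left, h1]; push_cast; rfl⟩

/-- the form through the sum of squares -/
theorem qf_self (b : Set (IrrCharacter H)) (α : H → ℂ) :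
    qf p b α α = (((p : ℝ) ^ (blockDefect p b) * (Nat.card H : ℝ)⁻¹ * nsq α : ℝ) : ℂ) := by
  unfold qf
  rw [classInner_def]
  push_cast
  rw [nsq_cast]
  ring

/-- **Positivity** of the form on the lattice. -/
theorem lat_self_pos [hp : Fact p.Prime] (hM : IsPModular p M) {b : Set (IrrCharacter H)}
    {α : H → ℂ} (hα : α ∈ lat p b) (hne : α ≠ 0) :
    ∃ n : ℤ, 1 ≤ n ∧ qf p b α α = (n : ℂ) := by
  obtain ⟨n, hn⟩ := lat_int hM hα hα
  refine ⟨n, ?_, hn⟩
  rw [qf_self] at hn
  have h1 : (p : ℝ) ^ (blockDefect p b) * (Nat.card H : ℝ)⁻¹ * nsq α = (n : ℝ) := by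
    exact_mod_cast hn
  have h2 : 0 < nsq α := by
    rcases (nsq_nonneg α).lt_or_eq with h | h
    · exact h
    · exact absurd ((nsq_eq_zero_iff α).1 h.symm) hne
  have h3 : (0 : ℝ) < (p : ℝ) ^ (blockDefect p b) * (Nat.card H : ℝ)⁻¹ * nsq α := by
    have hp0 : (0 : ℝ) < p := by exact_mod_cast hp.1.pos
    have hH0 : (0 : ℝ) < (Nat.card H : ℝ) := by exact_mod_cast Nat.card_pos
    positivity
  rw [h1] at h3
  have h4 : (0 : ℤ) < n := by exact_mod_cast h3
  omega

end

end Cfsg.Agent.Lib.Helper8.MJ
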