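import Mathlib
import Cfsg.Prelude.Def_Blocks
import Cfsg.Prelude.Def_BlockRank
import Cfsg.Agent.Lib.Helper8.MJ6

set_option autoImplicit false
set_option linter.unusedSectionVars false

/-!
# The form on the lattice of a block modulo `p`
-/

namespace Cfsg.Agent.Lib.Helper8.MJ

open Cfsg
open scoped ComplexConjugate
open Cfsg.Agent.Lib.Helper1 Cfsg.Agent.Lib.Helper4 Cfsg.Agent.Lib.Helper8

universe u

section

variable {H : Type u} [Group H] [Fintype H] {M : Ideal AlgInt} {p : ℕ} [Fact p.Prime]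

/-- the value at `1` divided by `p ^ (a - d)` -/
noncomputable def rho (p : ℕ) (b : Set (IrrCharacter H)) (α : H → ℂ) : ℂ :=
  α 1 / (p : ℂ) ^ ((Nat.card H).factorization p - blockDefect p b)

theorem rho_pReg {b : Set (IrrCharacter H)} {ψ : IrrCharacter H} (hψ : ψ ∈ b) :
    rho p b (pRegularPart p (ψ : H → ℂ)) = (redDeg p b ψ : ℂ) := by
  have hp : p.Prime := Fact.out
  have h1 : ¬ p ∣ orderOf (1 : H) := by
    rw [orderOf_one]
    exact hp.one_lt.ne' ∘ Nat.dvd_one.1
  obtain ⟨hdeg, _⟩ := irr_apply_one_eq_charDegree ψ.2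
  have h2 := pow_mul_redDeg (p := p) hψ
  have hp0 : (p : ℂ) ^ ((Nat.card H).factorization p - blockDefect p b) ≠ 0 :=
    pow_ne_zero _ (Nat.cast_ne_zero.2 hp.ne_zero)
  unfold rho
  rw [pRegularPart_of_not_dvd _ h1, hdeg, ← h2]
  push_cast
  field_simp

theorem rho_add (b : Set (IrrCharacter H)) (α γ : H → ℂ) :
    rho p b (α + γ) = rho p b α + rho p b γ := by
  unfold rho
  rw [Pi.add_apply, add_div]

theorem rho_neg (b : Set (IrrCharacter H)) (α : H → ℂ) : rho p b (-α) = - rho p b α := by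
  unfold rho
  rw [Pi.neg_apply, neg_div]

theorem rho_zero (b : Set (IrrCharacter H)) : rho p b (0 : H → ℂ) = 0 := by
  unfold rho
  rw [Pi.zero_apply, zero_div]

theorem rho_int {b : Set (IrrCharacter H)} {α : H → ℂ} (hα : α ∈ lat p b) :
    ∃ n : ℤ, rho p b α = (n : ℂ) := by
  unfold lat at hα
  induction hα using AddSubgroup.closure_induction with
  | mem x hx =>
    obtain ⟨ψ, hψ, rfl⟩ := hx
    exact ⟨(redDeg p b ψ : ℤ), by rw [rho_pReg hψ]; push_cast; rfl⟩
  | zero => exact ⟨0, by rw [rho_zero]; simp⟩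
  | add x y _ _ ihx ihy =>
    obtain ⟨n1, h1⟩ := ihx
    obtain ⟨n2, h2⟩ := ihy
    exact ⟨n1 + n2, by rw [rho_add, h1, h2]; push_cast; rfl⟩
  | neg x _ ih =>
    obtain ⟨n1, h1⟩ := ih
    exact ⟨-n1, by rw [rho_neg, h1]; push_cast; rfl⟩

/-- **Congruence**: modulo the local ideal the form has rank one. -/
theorem lat_congr (hM : IsPModular p M) {b : Set (IrrCharacter H)} (hb : IsPBlock M b)
    {γ : H → ℂ} (hγ : γ ∈ lat p b) :
    ∃ c : ℂ, MemLocalRing M c ∧
      ∀ α ∈ lat p b, MemLocalIdeal M (qf p b γ α - rho p b α * c) := by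
  have hMp := isPModular_isPrime hM
  obtain ⟨ψ₁, hψ₁⟩ := isPBlock_nonempty hMp hb
  have hF : IsClassFunction H γ := lat_isClassFunction hγ
  have hFS : ∀ g, MemLocalRing M (γ g) :=
    fun g => memLocalRing_of_isIntegral hMp.ne_top (lat_isIntegral hγ g)
  refine ⟨classInner (tilde p γ) (ψ₁ : H → ℂ) / (ψ₁ : H → ℂ) 1,
    memLocalRing_tildeRatio' hM hF hFS ψ₁.2, ?_⟩
  intro α hα
  unfold lat at hα
  induction hα using AddSubgroup.closure_induction with
  | mem x hx =>
    obtain ⟨ψ, hψ, rfl⟩ := hx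
    show MemLocalIdeal M (qf p b γ (pRegularPart p (ψ : H → ℂ)) -
      rho p b (pRegularPart p (ψ : H → ℂ)) *
        (classInner (tilde p γ) (ψ₁ : H → ℂ) / (ψ₁ : H → ℂ) 1))
    have h1 : qf p b γ (pRegularPart p (ψ : H → ℂ)) =
        (redDeg p b ψ : ℂ) * (classInner (tilde p γ) (ψ : H → ℂ) / (ψ : H → ℂ) 1) := by
      rw [← pow_defect_mul_mreg hψ γ]
      unfold qf
      rw [classInner_pRegularPart_right, ← classInner_pRegularPart_left]
    rw [h1, rho_pReg hψ, ← mul_sub]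
    apply memLocalIdeal_mul_left hMp (memLocalRing_natCast hMp.ne_top _)
    have hs : SameBlock M (ψ : H → ℂ) (ψ₁ : H → ℂ) := by
      have := hψ₁
      rw [eq_blockOf_of_mem hMp hb hψ] at this
      exact this
    exact memLocalIdeal_tildeRatio_sub' hM hF hFS ψ.2 ψ₁.2 hs
  | zero =>
    rw [qf_zero_right, rho_zero, zero_mul, sub_zero]
    exact memLocalIdeal_zero hMp.ne_top
  | add x y _ _ ihx ihy =>
    have := memLocalIdeal_add hMp ihx ihy
    rw [qf_add_right, rho_add]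
    convert this using 1
    ring
  | neg x _ ih =>
    have := memLocalIdeal_neg ih
    rw [qf_neg_right, rho_neg]
    convert this using 1
    ring

/-- If the lattice has a vector of norm one, then the form on its orthogonal complement is
divisible by `p`. -/
theorem lat_orth_dvd (hM : IsPModular p M) {b : Set (IrrCharacter H)} (hb : IsPBlock M b)
    {φ₁ : H → ℂ} (hφ₁ : φ₁ ∈ lat p b) (h1 : qf p b φ₁ φ₁ = 1)
    {α : H → ℂ} (hα : α ∈ lat p b) (h0 : qf p b φ₁ α = 0)
    {γ : H → ℂ} (hγ : γ ∈ lat p b) :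
    ∃ n : ℤ, qf p b γ α = (n : ℂ) ∧ (p : ℤ) ∣ n := by
  have hMp := isPModular_isPrime hM
  obtain ⟨c₁, hc₁S, hc₁⟩ := lat_congr hM hb hφ₁
  obtain ⟨c, hcS, hc⟩ := lat_congr hM hb hγ
  obtain ⟨m₁, hm₁⟩ := rho_int (p := p) hφ₁
  obtain ⟨m, hm⟩ := rho_int (p := p) hα
  -- `c₁` is a unit
  have hc₁u : ¬ MemLocalIdeal M c₁ := by
    intro hJ
    have h2 := hc₁ φ₁ hφ₁
    rw [h1] at h2
    have h3 := memLocalIdeal_mul_left hMp (memLocalRing_intCast hMp.ne_top m₁) hJ
    rw [← hm₁] at h3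
    have h4 := memLocalIdeal_add hMp h2 h3
    rw [sub_add_cancel] at h4
    exact not_memLocalIdeal_one hMp h4
  -- `rho α` lies in the ideal
  have hρ : MemLocalIdeal M (rho p b α) := by
    by_contra hn
    have h2 := hc₁ α hα
    rw [h0, zero_sub] at h2
    have h3 := memLocalIdeal_neg h2
    rw [neg_neg] at h3
    have hρS : MemLocalRing M (rho p b α) := by
      rw [hm]
      exact memLocalRing_intCast hMp.ne_top m
    exact not_memLocalIdeal_mul hMp hρS hc₁S hn hc₁u h3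
  obtain ⟨n, hn⟩ := lat_int hM hγ hα
  refine ⟨n, hn, ?_⟩
  rw [← memLocalIdeal_intCast_iff hM, ← hn]
  have h2 := hc α hα
  have h3 := memLocalIdeal_mul_right hMp hρ hcS
  have h4 := memLocalIdeal_add hMp h2 h3
  rwa [sub_add_cancel] at h4

end

end Cfsg.Agent.Lib.Helper8.MJ
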