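import Mathlib
import Cfsg.Prelude.Def_Blocks
import Cfsg.Prelude.Def_BlockRank
import Cfsg.Agent.Lib.Helper8.MJ7

set_option autoImplicit false
set_option linter.unusedSectionVars false

/-!
# The section parts at the powers of a central element
-/

namespace Cfsg.Agent.Lib.Helper8.MJ

open Cfsg
open scoped ComplexConjugate
open Cfsg.Agent.Lib.Helper1 Cfsg.Agent.Lib.Helper4 Cfsg.Agent.Lib.Helper8

universe u

section

variable {G : Type u} [Group G] [Fintype G] {M : Ideal AlgInt} {p : ℕ}

/-- The contributions are the inner products of the section parts. -/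
theorem contrib_eq_classInner (hM : IsPModular p M) (C : Subgroup G) [Fintype C]
    {u : G} (hC : ∀ t, t ∈ C ↔ t * u = u * t)
    {b : Set (IrrCharacter C)} (hb : IsPBlock M b) {ζ ξ : G → ℂ} (hζ : IsClassFunction G ζ)
    (hξ : IsClassFunction G ξ) :
    contrib p C b u ζ ξ = classInner (secPart p C b u ζ) (secPart p C b u ξ) := by
  classical
  have : Fintype (IrrCharacter C) := Fintype.ofFinite _
  have hcf : IsClassFunction C (secFun C u ζ) := isClassFunction_section C hC hζ
  rw [contrib_eq_sum hM C hC hb hζ hξ]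
  unfold secPart
  rw [← classInner_pRegularPart_left]
  conv_rhs => rw [blockPart_eq_sum_smul b (secFun C u ξ)]
  rw [classInner_sum_right]
  refine Finset.sum_congr rfl fun ψ _ => ?_
  rw [classInner_smul_right, classInner_pRegularPart_blockPart hM hb hcf]
  by_cases hψ : ψ ∈ b
  · simp only [if_pos hψ, one_mul]
    rfl
  · simp only [if_neg hψ, zero_mul, map_zero]

/-- the vector attached to a character of `C` -/
noncomputable def secVec (p : ℕ) (C : Subgroup G) [Fintype C] (b : Set (IrrCharacter C))
    (ζ : G → ℂ) (ψ : IrrCharacter C) : C → ℂ :=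
  by classical exact if ψ ∈ b then classInner (fun c : C => ζ (c : G)) (ψ : C → ℂ) • pRegularPart p (ψ : C → ℂ) else 0

theorem secVec_of_mem (C : Subgroup G) [Fintype C] {b : Set (IrrCharacter C)}
    (ζ : G → ℂ) {ψ : IrrCharacter C} (hψ : ψ ∈ b) :
    secVec p C b ζ ψ =
      classInner (fun c : C => ζ (c : G)) (ψ : C → ℂ) • pRegularPart p (ψ : C → ℂ) := by
  classical
  unfold secVec
  rw [if_pos hψ]

theorem secVec_of_not_mem (C : Subgroup G) [Fintype C] {b : Set (IrrCharacter C)}
    (ζ : G → ℂ) {ψ : IrrCharacter C} (hψ : ψ ∉ b) : secVec p C b ζ ψ = 0 := by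
  classical
  unfold secVec
  rw [if_neg hψ]

theorem secVec_mem_lat (C : Subgroup G) [Fintype C] (b : Set (IrrCharacter C))
    {ζ : G → ℂ} (hζ : IsCharacter G ζ) (ψ : IrrCharacter C) : secVec p C b ζ ψ ∈ lat p b := by
  by_cases hψ : ψ ∈ b
  · rw [secVec_of_mem C ζ hψ]
    have hres := Cfsg.Agent.S0148.isCharacter_restrict C hζ
    obtain ⟨m, hm⟩ := classInner_genChar_int (isGenChar_of_isCharacter hres)
      (isGenChar_of_isCharacter (isCharacter_of_irr ψ.2))
    have : classInner (fun c : C => ζ (c : G)) (ψ : C → ℂ) • pRegularPart p (ψ : C → ℂ) =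
        m • pRegularPart p (ψ : C → ℂ) := by
      rw [hm, Int.cast_smul_eq_zsmul]
    rw [this]
    exact (lat p b).zsmul_mem (pReg_mem_lat hψ) m
  · rw [secVec_of_not_mem C ζ hψ]
    exact (lat p b).zero_mem

/-- the central character value at a central element of `C` -/
noncomputable def lamC (C : Subgroup G) {z : G} (hz : z ∈ C) (ψ : IrrCharacter C) : ℂ :=
  (ψ : C → ℂ) ⟨z, hz⟩ / (ψ : C → ℂ) 1

/-- **Expansion** of the section part at a power of a central element. -/
theorem secPart_pow_eq_sum (C : Subgroup G) [Fintype C] [Fintype (IrrCharacter C)]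
    {z : G} (hC : ∀ t, t ∈ C ↔ t * z = z * t) (b : Set (IrrCharacter C)) (ζ : G → ℂ) (k : ℕ) :
    secPart p C b (z ^ k) ζ =
      ∑ ψ : IrrCharacter C, (lamC C ((hC z).2 rfl) ψ) ^ k • secVec p C b ζ ψ := by
  classical
  have hz : z ∈ C := (hC z).2 rfl
  set z' : C := ⟨z, hz⟩ with hz'
  have hcen : z' ∈ Subgroup.center C := by
    rw [Subgroup.mem_center_iff]
    intro c
    apply Subtype.ext
    exact (hC _).1 c.2
  have hzk : z ^ k ∈ C := C.pow_mem hz k
  have hv : ∀ c : C, (c : G) * z ^ k = z ^ k * (c : G) := by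
    intro c
    have h1 : Commute (c : G) z := (hC _).1 c.2
    exact h1.pow_right k
  have hcoef : ∀ ψ : IrrCharacter C, secCoeff C (z ^ k) ζ (ψ : C → ℂ) =
      (lamC C hz ψ) ^ k * classInner (fun c : C => ζ (c : G)) (ψ : C → ℂ) := by
    intro ψ
    rw [secCoeff_eq_of_central C hzk hv ψ.2]
    congr 1
    unfold lamC
    rw [irr_central_pow ψ.2 hcen k]
    rfl
  funext c
  unfold secPart
  rw [Finset.sum_apply]
  by_cases hc : p ∣ orderOf c
  · rw [pRegularPart_of_dvd _ hc]
    symm
    apply Finset.sum_eq_zero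
    intro ψ _
    rw [Pi.smul_apply]
    by_cases hψ : ψ ∈ b
    · rw [secVec_of_mem C ζ hψ, Pi.smul_apply, pRegularPart_of_dvd _ hc, smul_zero, smul_zero]
    · rw [secVec_of_not_mem C ζ hψ, Pi.zero_apply, smul_zero]
  · rw [pRegularPart_of_not_dvd _ hc, blockPart_eq_sum_smul b, Finset.sum_apply]
    refine Finset.sum_congr rfl fun ψ _ => ?_
    rw [Pi.smul_apply, Pi.smul_apply]
    by_cases hψ : ψ ∈ b
    · rw [secVec_of_mem C ζ hψ, Pi.smul_apply, pRegularPart_of_not_dvd _ hc]
      simp only [if_pos hψ, one_mul, smul_eq_mul]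
      have := hcoef ψ
      unfold secCoeff at this
      rw [this]
      ring
    · rw [secVec_of_not_mem C ζ hψ]
      simp only [if_neg hψ, zero_mul, zero_smul, Pi.zero_apply, smul_zero]

/-- The inner products of the section part with the members of the lattice only see the section
function. -/
theorem classInner_secPart_lat [Fact p.Prime] (hM : IsPModular p M) (C : Subgroup G) [Fintype C]
    {u : G} (hC : ∀ t, t ∈ C ↔ t * u = u * t)
    {b : Set (IrrCharacter C)} (hb : IsPBlock M b) {ζ : G → ℂ} (hζ : IsClassFunction G ζ)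
    {α : C → ℂ} (hα : α ∈ lat p b) :
    classInner (secPart p C b u ζ) α = classInner (secFun C u ζ) α := by
  classical
  have hcf : IsClassFunction C (secFun C u ζ) := isClassFunction_section C hC hζ
  unfold lat at hα
  induction hα using AddSubgroup.closure_induction with
  | mem x hx =>
    obtain ⟨ψ, hψ, rfl⟩ := hx
    show classInner (secPart p C b u ζ) (pRegularPart p (ψ : C → ℂ)) =
      classInner (secFun C u ζ) (pRegularPart p (ψ : C → ℂ))
    unfold secPart
    rw [← classInner_pRegularPart_left, classInner_pRegularPart_blockPart hM hb hcf,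
      classInner_pRegularPart_right, ← classInner_pRegularPart_left]
    simp only [if_pos hψ]
  | zero => rw [classInner_zero_right, classInner_zero_right]
  | add x y _ _ ihx ihy => rw [classInner_add_right, classInner_add_right, ihx, ihy]
  | neg x _ ih => rw [classInner_neg_right, classInner_neg_right, ih]

end

end Cfsg.Agent.Lib.Helper8.MJ
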