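import Mathlib
import Cfsg.Prelude.Def_Blocks
import Cfsg.Prelude.Def_BlockRank
import Cfsg.Agent.Lib.Helper8.MJ8
import Cfsg.Agent.S0146

set_option autoImplicit false
set_option linter.unusedSectionVars false

/-!
# The contributions through the central characters of the big group
-/

namespace Cfsg.Agent.Lib.Helper8.MJ

open Cfsg
open scoped ComplexConjugate
open Cfsg.Agent.Lib.Helper1 Cfsg.Agent.Lib.Helper4 Cfsg.Agent.Lib.Helper8

universe u

section

variable {G : Type u} [Group G] [Fintype G] {M : Ideal AlgInt} {p : ℕ}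

/-- the section part moved to the coset `u C°` -/
noncomputable def shiftPart (p : ℕ) (C : Subgroup G) [Fintype C] (b : Set (IrrCharacter C))
    {u : G} (hu : u ∈ C) (ζ : G → ℂ) : C → ℂ :=
  fun c' => secPart p C b u ζ ((⟨u, hu⟩ : C)⁻¹ * c')

/-- the induced class function, composed with the inversion -/
noncomputable def bigTheta (p : ℕ) (C : Subgroup G) [Fintype C] (b : Set (IrrCharacter C))
    {u : G} (hu : u ∈ C) (ζ : G → ℂ) : G → ℂ :=
  fun g => indFun C (shiftPart p C b hu ζ) g⁻¹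

theorem isClassFunction_bigTheta (C : Subgroup G) [Fintype C] (b : Set (IrrCharacter C))
    {u : G} (hu : u ∈ C) (ζ : G → ℂ) : IsClassFunction G (bigTheta p C b hu ζ) := by
  intro g h
  unfold bigTheta
  have h1 : (h * g * h⁻¹)⁻¹ = h * g⁻¹ * h⁻¹ := by group
  rw [h1]
  exact indFun_isClassFunction C _ g⁻¹ h

/-- **The contribution through the central character.** -/
theorem contrib_eq_omega (C : Subgroup G) [Fintype C] (b : Set (IrrCharacter C))
    {u : G} (hu : u ∈ C) (ζ : G → ℂ) {ξ : G → ℂ} (hξ : IsIrrCharacter G ξ) :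
    contrib p C b u ζ ξ =
      ξ 1 / (Nat.card G : ℂ) * omega ξ (bigTheta p C b hu ζ) := by
  have h1 := classInner_eq_omega hξ (indFun C (shiftPart p C b hu ζ))
  have h2 := Cfsg.Agent.S0146.result C (shiftPart p C b hu ζ) ξ (isClassFunction_irr hξ)
  have h3 : classInner (shiftPart p C b hu ζ) (fun h : C => ξ h) = contrib p C b u ζ ξ := by
    rw [classInner_def]
    unfold contrib
    congr 1
    rw [← Equiv.sum_comp (Equiv.mulLeft (⟨u, hu⟩ : C))]
    refine Finset.sum_congr rfl fun c _ => ?_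
    simp only [Equiv.coe_mulLeft]
    unfold shiftPart
    rw [inv_mul_cancel_left]
    rfl
  rw [← h3, ← h2, h1]
  rfl

theorem isIntegral_secPart [Fact p.Prime] (C : Subgroup G) [Fintype C] {u : G}
    (hC : ∀ t, t ∈ C ↔ t * u = u * t) (b : Set (IrrCharacter C)) {ζ : G → ℂ}
    (hζ : IsCharacter G ζ) (c : C) : IsIntegral ℤ (secPart p C b u ζ c) := by
  classical
  have : Fintype (IrrCharacter C) := Fintype.ofFinite _
  unfold secPart
  by_cases hc : p ∣ orderOf c
  · rw [pRegularPart_of_dvd _ hc]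
    exact isIntegral_zero
  · rw [pRegularPart_of_not_dvd _ hc, blockPart_eq_sum_smul b, Finset.sum_apply]
    apply IsIntegral.sum
    intro ψ _
    rw [Pi.smul_apply, smul_eq_mul]
    apply IsIntegral.mul
    · by_cases hψ : ψ ∈ b
      · simp only [if_pos hψ, one_mul]
        exact isIntegral_secCoeff C hC hζ ψ.2
      · simp only [if_neg hψ, zero_mul]
        exact isIntegral_zero
    · exact Cfsg.Agent.S0161.isIntegral_isCharacter (isCharacter_of_irr ψ.2) c

theorem isClassFunction_shiftPart (C : Subgroup G) [Fintype C] {u : G}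
    (hC : ∀ t, t ∈ C ↔ t * u = u * t) (b : Set (IrrCharacter C)) (ζ : G → ℂ) :
    IsClassFunction C (shiftPart p C b ((hC u).2 rfl) ζ) := by
  intro c t
  unfold shiftPart
  have hcf := (secPart_spec (p := p) C b u ζ).1
  have h1 : (⟨u, (hC u).2 rfl⟩ : C)⁻¹ * (t * c * t⁻¹) =
      t * ((⟨u, (hC u).2 rfl⟩ : C)⁻¹ * c) * t⁻¹ := by
    have h2 : t * (⟨u, (hC u).2 rfl⟩ : C) = (⟨u, (hC u).2 rfl⟩ : C) * t := by
      apply Subtype.ext
      exact (hC _).1 t.2
    have h3 : (⟨u, (hC u).2 rfl⟩ : C)⁻¹ * t = t * (⟨u, (hC u).2 rfl⟩ : C)⁻¹ := by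
      rw [inv_mul_eq_iff_eq_mul, ← mul_assoc, ← h2, mul_assoc, mul_inv_cancel, mul_one]
    calc (⟨u, (hC u).2 rfl⟩ : C)⁻¹ * (t * c * t⁻¹)
        = ((⟨u, (hC u).2 rfl⟩ : C)⁻¹ * t) * c * t⁻¹ := by group
      _ = t * ((⟨u, (hC u).2 rfl⟩ : C)⁻¹ * c) * t⁻¹ := by rw [h3]; group
  rw [h1]
  exact hcf _ t

theorem isPPart_of_shiftPart_ne_zero (C : Subgroup G) [Fintype C] {u : G}
    (hC : ∀ t, t ∈ C ↔ t * u = u * t) (hu : ∃ k : ℕ, orderOf u = p ^ k)
    (b : Set (IrrCharacter C)) (ζ : G → ℂ) {c' : C}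
    (hne : shiftPart p C b ((hC u).2 rfl) ζ c' ≠ 0) : IsPPart p (c' : G) u := by
  set y : C := (⟨u, (hC u).2 rfl⟩ : C)⁻¹ * c' with hy
  have hyreg : ¬ p ∣ orderOf y := by
    intro hdvd
    exact hne ((secPart_spec (p := p) C b u ζ).2 y hdvd)
  have hyG : ¬ p ∣ orderOf (y : G) := by rwa [Subgroup.orderOf_coe]
  have huy : u * (y : G) = (y : G) * u := ((hC _).1 y.2).symm
  have h1 : u * (y : G) = (c' : G) := by
    rw [hy, Subgroup.coe_mul, Subgroup.coe_inv]
    simp
  rw [← h1]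
  exact isPPart_mul_of_commute hu hyG huy

/-- The induced function has algebraic integer values. -/
theorem isIntegral_indFun_shiftPart [hp : Fact p.Prime] (C : Subgroup G) [Fintype C] {u : G}
    (hC : ∀ t, t ∈ C ↔ t * u = u * t) (hu : ∃ k : ℕ, orderOf u = p ^ k)
    (b : Set (IrrCharacter C)) {ζ : G → ℂ} (hζ : IsCharacter G ζ) (g : G) :
    IsIntegral ℤ (indFun C (shiftPart p C b ((hC u).2 rfl) ζ) g) := by
  classical
  set θ := shiftPart p C b ((hC u).2 rfl) ζ with hθ
  have hθcf : IsClassFunction C θ := isClassFunction_shiftPart C hC b ζ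
  have hθint : ∀ c : C, IsIntegral ℤ (θ c) := fun c => isIntegral_secPart C hC b hζ _
  rw [indFun_apply]
  by_cases hall : ∀ x : G, extendByZero C θ (x⁻¹ * g * x) = 0
  · rw [Finset.sum_eq_zero (fun x _ => hall x), mul_zero]
    exact isIntegral_zero
  · push Not at hall
    obtain ⟨x₀, hx₀⟩ := hall
    have hmem₀ : x₀⁻¹ * g * x₀ ∈ C := by
      by_contra h
      exact hx₀ (extendByZero_of_notMem C θ h)
    set c₀ : C := ⟨x₀⁻¹ * g * x₀, hmem₀⟩ with hc₀
    have hval₀ : extendByZero C θ (x₀⁻¹ * g * x₀) = θ c₀ := extendByZero_of_mem C θ hmem₀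
    have hne₀ : θ c₀ ≠ 0 := by rwa [← hval₀]
    have hpp₀ : IsPPart p (x₀⁻¹ * g * x₀) u :=
      isPPart_of_shiftPart_ne_zero C hC hu b ζ hne₀
    have key : ∀ x : G, extendByZero C θ (x⁻¹ * g * x) =
        extendByZero C (fun _ : C => θ c₀) (x₀⁻¹ * x) := by
      intro x
      have hconj : x⁻¹ * g * x = (x₀⁻¹ * x)⁻¹ * (x₀⁻¹ * g * x₀) * (x₀⁻¹ * x)⁻¹⁻¹ := by group
      by_cases ht : x₀⁻¹ * x ∈ C
      · rw [extendByZero_of_mem C _ ht]
        have hmem : x⁻¹ * g * x ∈ C := by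
          rw [hconj, inv_inv]
          exact C.mul_mem (C.mul_mem (C.inv_mem ht) hmem₀) ht
        rw [extendByZero_of_mem C θ hmem]
        have := hθcf c₀ (⟨x₀⁻¹ * x, ht⟩ : C)⁻¹
        rw [← this]
        congr 1
        apply Subtype.ext
        rw [Subgroup.coe_mul, Subgroup.coe_mul, Subgroup.coe_inv, Subgroup.coe_inv]
        exact hconj
      · rw [extendByZero_of_notMem C _ ht]
        by_contra hne
        have hmem : x⁻¹ * g * x ∈ C := by
          by_contra h
          exact hne (extendByZero_of_notMem C θ h)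
        rw [extendByZero_of_mem C θ hmem] at hne
        have hpp : IsPPart p (x⁻¹ * g * x) u :=
          isPPart_of_shiftPart_ne_zero C hC hu b ζ hne
        have hpp' := isPPart_conj hpp₀ (x₀⁻¹ * x)⁻¹
        rw [← hconj] at hpp'
        have huniq := isPPart_unique hp.1 hpp hpp'
        apply ht
        rw [hC]
        rw [inv_inv] at huniq
        calc x₀⁻¹ * x * u = x₀⁻¹ * x * ((x₀⁻¹ * x)⁻¹ * u * (x₀⁻¹ * x)) := by rw [← huniq]
          _ = u * (x₀⁻¹ * x) := by group
    have hre : ∑ x : G, extendByZero C (fun _ : C => θ c₀) (x₀⁻¹ * x) =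
        ∑ y : G, extendByZero C (fun _ : C => θ c₀) y :=
      Equiv.sum_comp (Equiv.mulLeft x₀⁻¹) (fun y => extendByZero C (fun _ : C => θ c₀) y)
    rw [Finset.sum_congr rfl (fun x _ => key x), hre,
      sum_extendByZero, Finset.sum_const, Finset.card_univ, nsmul_eq_mul,
      Nat.card_eq_fintype_card]
    have hC0 : (Fintype.card C : ℂ) ≠ 0 := Nat.cast_ne_zero.2 Fintype.card_pos.ne'
    rw [← mul_assoc, inv_mul_cancel₀ hC0, one_mul]
    exact hθint c₀

theorem memLocalRing_bigTheta [hp : Fact p.Prime] (hM : M ≠ ⊤) (C : Subgroup G) [Fintype C] {u : G}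
    (hC : ∀ t, t ∈ C ↔ t * u = u * t) (hu : ∃ k : ℕ, orderOf u = p ^ k)
    (b : Set (IrrCharacter C)) {ζ : G → ℂ} (hζ : IsCharacter G ζ) (g : G) :
    MemLocalRing M (bigTheta p C b ((hC u).2 rfl) ζ g) :=
  memLocalRing_of_isIntegral hM (isIntegral_indFun_shiftPart C hC hu b hζ g⁻¹)

end

end Cfsg.Agent.Lib.Helper8.MJ
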