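import Mathlib
import Cfsg.Prelude.Def_Blocks
import Cfsg.Prelude.Def_BlockRank
import Cfsg.Agent.Lib.Helper8.MJ9
import Cfsg.Agent.Lib.Helper8.KB8

set_option autoImplicit false
set_option linter.unusedSectionVars false

/-!
# Heights and the contributions of a major subsection
-/

namespace Cfsg.Agent.Lib.Helper8.MJ

open Cfsg
open scoped ComplexConjugate
open Cfsg.Agent.Lib.Helper1 Cfsg.Agent.Lib.Helper4 Cfsg.Agent.Lib.Helper8

universe u

section

variable {G : Type u} [Group G] [Fintype G] {M : Ideal AlgInt} {p : ℕ} [Fact p.Prime]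

theorem pow_defect_mul_deg_div (hM : IsPModular p M) {B : Set (IrrCharacter G)}
    {ξ : IrrCharacter G} (hξ : ξ ∈ B) :
    ∃ U : ℂ, MemLocalRing M U ∧
      (p : ℂ) ^ (blockDefect p B) * ((ξ : G → ℂ) 1 / (Nat.card G : ℂ)) =
        (p : ℂ) ^ (blockHeight p B (ξ : G → ℂ)) * U := by
  have hp : p.Prime := Fact.out
  obtain ⟨hdeg, hdegpos⟩ := irr_apply_one_eq_charDegree ξ.2
  obtain ⟨hv, hda⟩ := block_valuations (p := p) hξ
  have hG0 : Nat.card G ≠ 0 := Nat.card_pos.ne'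
  refine ⟨((p ^ (blockDefect p B) * charDegree (ξ : G → ℂ) : ℕ) : ℂ) /
    ((p ^ (blockHeight p B (ξ : G → ℂ)) * Nat.card G : ℕ) : ℂ), ?_, ?_⟩
  · apply memLocalRing_natCast_div hM
      (Nat.mul_ne_zero (pow_ne_zero _ hp.ne_zero) hdegpos.ne')
      (Nat.mul_ne_zero (pow_ne_zero _ hp.ne_zero) hG0)
    rw [factorization_pow_mul hp _ hdegpos.ne', factorization_pow_mul hp _ hG0]
    omega
  · rw [hdeg]
    have hp0 : (p : ℂ) ≠ 0 := Nat.cast_ne_zero.2 hp.ne_zero
    have hG0' : (Nat.card G : ℂ) ≠ 0 := Nat.cast_ne_zero.2 hG0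
    push_cast
    field_simp

/-- The scaled contributions to a character of positive height lie in the local ideal. -/
theorem memLocalIdeal_pow_mul_contrib_of_pos_height (hM : IsPModular p M) (C : Subgroup G)
    [Fintype C] {u : G} (hC : ∀ t, t ∈ C ↔ t * u = u * t) (hu : ∃ k : ℕ, orderOf u = p ^ k)
    {b : Set (IrrCharacter C)} {B : Set (IrrCharacter G)}
    (hdef : blockDefect p b = blockDefect p B)
    {ζ : G → ℂ} (hζ : IsCharacter G ζ) {ξ : IrrCharacter G} (hξ : ξ ∈ B)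
    (hpos : 0 < blockHeight p B (ξ : G → ℂ)) :
    MemLocalIdeal M ((p : ℂ) ^ (blockDefect p b) * contrib p C b u ζ (ξ : G → ℂ)) := by
  have hMp := isPModular_isPrime hM
  obtain ⟨U, hUS, hU⟩ := pow_defect_mul_deg_div hM hξ
  have hω : MemLocalRing M (omega (ξ : G → ℂ) (bigTheta p C b ((hC u).2 rfl) ζ)) :=
    memLocalRing_omega hMp ξ.2 (isClassFunction_bigTheta C b _ ζ)
      (memLocalRing_bigTheta hMp.ne_top C hC hu b hζ)
  rw [contrib_eq_omega C b ((hC u).2 rfl) ζ ξ.2, ← mul_assoc, hdef, hU, mul_assoc]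
  obtain ⟨h', hh'⟩ : ∃ h', blockHeight p B (ξ : G → ℂ) = h' + 1 := ⟨_, (Nat.succ_pred_eq_of_pos hpos).symm⟩
  rw [hh', pow_succ, mul_comm ((p : ℂ) ^ h'), mul_assoc]
  exact memLocalIdeal_mul_right hMp (memLocalIdeal_prime hM)
    (memLocalRing_mul hMp (memLocalRing_pow hMp (memLocalRing_natCast hMp.ne_top p) h')
      (memLocalRing_mul hMp hUS hω))

/-- The contributions of a height zero character to every character of the block are nonzero. -/
theorem contrib_ne_zero_of_height_zero (hM : IsPModular p M) (C : Subgroup G)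
    [Fintype C] {u : G} (hC : ∀ t, t ∈ C ↔ t * u = u * t) (hu : ∃ k : ℕ, orderOf u = p ^ k)
    {b : Set (IrrCharacter C)} {B : Set (IrrCharacter G)} (hind : IsInducedBlock M C b B)
    (hdef : blockDefect p b = blockDefect p B)
    {χ₀ : IrrCharacter G} (hχ₀ : χ₀ ∈ B) (h0 : blockHeight p B (χ₀ : G → ℂ) = 0)
    {ξ : IrrCharacter G} (hξ : ξ ∈ B) :
    contrib p C b u (χ₀ : G → ℂ) (ξ : G → ℂ) ≠ 0 := by
  have hMp := isPModular_isPrime hM
  have hB : IsPBlock M B := hind.2.1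
  have hχ₀c := isCharacter_of_irr χ₀.2
  set Θ := bigTheta p C b ((hC u).2 rfl) (χ₀ : G → ℂ) with hΘ
  have hΘcf : IsClassFunction G Θ := isClassFunction_bigTheta C b _ _
  have hΘS : ∀ g, MemLocalRing M (Θ g) := memLocalRing_bigTheta hMp.ne_top C hC hu b hχ₀c
  -- the central character at `χ₀` is a unit
  have hω₀ : ¬ MemLocalIdeal M (omega (χ₀ : G → ℂ) Θ) := by
    intro hJ
    have h1 := not_memLocalIdeal_pow_mul_contrib hM C hC hu hind hχ₀ hχ₀ h0 h0
    apply h1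
    obtain ⟨U, hUS, hU⟩ := pow_defect_mul_deg_div hM hχ₀
    rw [contrib_eq_omega C b ((hC u).2 rfl) _ χ₀.2, ← mul_assoc, hdef, hU, h0, pow_zero, one_mul]
    exact memLocalIdeal_mul_left hMp hUS hJ
  have hs : SameBlock M (ξ : G → ℂ) (χ₀ : G → ℂ) := by
    have := hχ₀
    rw [eq_blockOf_of_mem hMp hB hξ] at this
    exact this
  have hsub := memLocalIdeal_omega_sub hMp ξ.2 χ₀.2 hs hΘcf hΘS
  have hω : ¬ MemLocalIdeal M (omega (ξ : G → ℂ) Θ) := by
    intro hJ
    apply hω₀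
    have := memLocalIdeal_sub hMp hJ hsub
    rwa [sub_sub_cancel] at this
  have hω0 : omega (ξ : G → ℂ) Θ ≠ 0 := by
    intro h
    apply hω
    rw [h]
    exact memLocalIdeal_zero hMp.ne_top
  rw [contrib_eq_omega C b ((hC u).2 rfl) _ ξ.2]
  have hξ1 := irr_apply_one_ne_zero ξ.2
  have hG0 : (Nat.card G : ℂ) ≠ 0 := Nat.cast_ne_zero.2 Nat.card_pos.ne'
  exact mul_ne_zero (div_ne_zero hξ1 hG0) hω0

end

end Cfsg.Agent.Lib.Helper8.MJ
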