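import Mathlib
import Cfsg.Prelude.Def_Blocks
import Cfsg.Prelude.Def_BlockRank
import Cfsg.Agent.Lib.Helper8.MJ7

set_option autoImplicit false
set_option linter.unusedSectionVars false

/-!
# Splitting off a vector of norm one
-/

namespace Cfsg.Agent.Lib.Helper8.MJ

open Cfsg
open scoped ComplexConjugate
open Cfsg.Agent.Lib.Helper1 Cfsg.Agent.Lib.Helper4 Cfsg.Agent.Lib.Helper8

universe u

section

variable {H : Type u} [Group H] [Fintype H] {M : Ideal AlgInt} {p : ℕ}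

/-- the real norm attached to the form -/
noncomputable def nrm (p : ℕ) (b : Set (IrrCharacter H)) (α : H → ℂ) : ℝ :=
  (p : ℝ) ^ (blockDefect p b) * (Nat.card H : ℝ)⁻¹ * nsq α

theorem qf_self' (b : Set (IrrCharacter H)) (α : H → ℂ) : qf p b α α = ((nrm p b α : ℝ) : ℂ) :=
  qf_self b α

theorem nrm_nonneg (b : Set (IrrCharacter H)) (α : H → ℂ) : 0 ≤ nrm p b α := by
  unfold nrm
  have := nsq_nonneg α
  positivity

theorem qf_sum_left {ι : Type*} (s : Finset ι) (b : Set (IrrCharacter H)) (f : ι → H → ℂ)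
    (γ : H → ℂ) : qf p b (∑ i ∈ s, f i) γ = ∑ i ∈ s, qf p b (f i) γ := by
  unfold qf
  rw [classInner_sum_left, Finset.mul_sum]

theorem qf_sum_right {ι : Type*} (s : Finset ι) (b : Set (IrrCharacter H)) (f : ι → H → ℂ)
    (γ : H → ℂ) : qf p b γ (∑ i ∈ s, f i) = ∑ i ∈ s, qf p b γ (f i) := by
  unfold qf
  rw [classInner_sum_right, Finset.mul_sum]

/-- the component orthogonal to `φ₁` -/
noncomputable def orthPart (p : ℕ) (b : Set (IrrCharacter H)) (φ₁ s : H → ℂ) : H → ℂ :=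
  s - qf p b s φ₁ • φ₁

theorem qf_orthPart_left (b : Set (IrrCharacter H)) {φ₁ : H → ℂ} (h1 : qf p b φ₁ φ₁ = 1)
    (s : H → ℂ) : qf p b (orthPart p b φ₁ s) φ₁ = 0 := by
  unfold orthPart
  rw [qf_sub_left, qf_smul_left, h1, mul_one, sub_self]

theorem qf_orthPart_right (b : Set (IrrCharacter H)) {φ₁ : H → ℂ} (h1 : qf p b φ₁ φ₁ = 1)
    (s : H → ℂ) : qf p b φ₁ (orthPart p b φ₁ s) = 0 := by
  rw [← qf_conj_symm, qf_orthPart_left b h1, map_zero]

/-- **Splitting** of the form. -/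
theorem qf_split (b : Set (IrrCharacter H)) {φ₁ : H → ℂ} (h1 : qf p b φ₁ φ₁ = 1)
    (s s' : H → ℂ) :
    qf p b s s' = qf p b s φ₁ * conj (qf p b s' φ₁) +
      qf p b (orthPart p b φ₁ s) (orthPart p b φ₁ s') := by
  have hs : s = qf p b s φ₁ • φ₁ + orthPart p b φ₁ s := by
    unfold orthPart
    abel
  have hs' : s' = qf p b s' φ₁ • φ₁ + orthPart p b φ₁ s' := by
    unfold orthPart
    abel
  conv_lhs => rw [hs, hs']
  rw [qf_add_left, qf_add_right, qf_add_right, qf_smul_left, qf_smul_left, qf_smul_right,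
    qf_smul_right, h1, qf_orthPart_left b h1, qf_orthPart_right b h1]
  ring

theorem nrm_split (b : Set (IrrCharacter H)) {φ₁ : H → ℂ} (h1 : qf p b φ₁ φ₁ = 1)
    (s : H → ℂ) :
    nrm p b s = Complex.normSq (qf p b s φ₁) + nrm p b (orthPart p b φ₁ s) := by
  have h := qf_split b h1 s s
  rw [qf_self', qf_self', Complex.mul_conj] at h
  exact_mod_cast h

theorem orthPart_sum {ι : Type*} (s : Finset ι) (b : Set (IrrCharacter H)) (φ₁ : H → ℂ)
    (c : ι → ℂ) (f : ι → H → ℂ) :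
    orthPart p b φ₁ (∑ i ∈ s, c i • f i) = ∑ i ∈ s, c i • orthPart p b φ₁ (f i) := by
  unfold orthPart
  rw [qf_sum_left, Finset.sum_smul, ← Finset.sum_sub_distrib]
  refine Finset.sum_congr rfl fun i _ => ?_
  rw [qf_smul_left, smul_sub, smul_smul]

/-- the sublattice orthogonal to `φ₁` -/
noncomputable def latOrth (p : ℕ) (b : Set (IrrCharacter H)) (φ₁ : H → ℂ) :
    AddSubgroup (H → ℂ) where
  carrier := {α | α ∈ lat p b ∧ qf p b φ₁ α = 0}
  zero_mem' := ⟨(lat p b).zero_mem, qf_zero_right b φ₁⟩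
  add_mem' := by
    rintro x y ⟨hx, hx0⟩ ⟨hy, hy0⟩
    exact ⟨(lat p b).add_mem hx hy, by rw [qf_add_right, hx0, hy0, add_zero]⟩
  neg_mem' := by
    rintro x ⟨hx, hx0⟩
    exact ⟨(lat p b).neg_mem hx, by rw [qf_neg_right, hx0, neg_zero]⟩

theorem mem_latOrth (b : Set (IrrCharacter H)) (φ₁ α : H → ℂ) :
    α ∈ latOrth p b φ₁ ↔ α ∈ lat p b ∧ qf p b φ₁ α = 0 := Iff.rfl

theorem orthPart_mem_latOrth (hM : IsPModular p M) {b : Set (IrrCharacter H)} {φ₁ : H → ℂ}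
    (hφ₁ : φ₁ ∈ lat p b) (h1 : qf p b φ₁ φ₁ = 1) {s : H → ℂ} (hs : s ∈ lat p b) :
    orthPart p b φ₁ s ∈ latOrth p b φ₁ := by
  refine ⟨?_, qf_orthPart_right b h1 s⟩
  obtain ⟨n, hn⟩ := lat_int hM hs hφ₁
  unfold orthPart
  rw [hn, Int.cast_smul_eq_zsmul]
  exact (lat p b).sub_mem hs ((lat p b).zsmul_mem hφ₁ n)

end

section

variable {H : Type u} [Group H] [Fintype H] {M : Ideal AlgInt} {p : ℕ} [Fact p.Prime]

theorem lat_nrm_ge_one (hM : IsPModular p M) {b : Set (IrrCharacter H)} {α : H → ℂ}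
    (hα : α ∈ lat p b) (hne : α ≠ 0) : 1 ≤ nrm p b α := by
  obtain ⟨n, hn1, hn⟩ := lat_self_pos hM hα hne
  rw [qf_self'] at hn
  have h : nrm p b α = (n : ℝ) := by exact_mod_cast hn
  rw [h]
  exact_mod_cast hn1

theorem latOrth_qf_dvd (hM : IsPModular p M) {b : Set (IrrCharacter H)} (hb : IsPBlock M b)
    {φ₁ : H → ℂ} (hφ₁ : φ₁ ∈ lat p b) (h1 : qf p b φ₁ φ₁ = 1)
    {α γ : H → ℂ} (hα : α ∈ latOrth p b φ₁) (hγ : γ ∈ latOrth p b φ₁) :
    ∃ n : ℤ, qf p b γ α = (n : ℂ) ∧ (p : ℤ) ∣ n :=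
  lat_orth_dvd hM hb hφ₁ h1 hα.1 hα.2 hγ.1

theorem latOrth_nrm_ge (hM : IsPModular p M) {b : Set (IrrCharacter H)} (hb : IsPBlock M b)
    {φ₁ : H → ℂ} (hφ₁ : φ₁ ∈ lat p b) (h1 : qf p b φ₁ φ₁ = 1)
    {α : H → ℂ} (hα : α ∈ latOrth p b φ₁) (hne : α ≠ 0) : (p : ℝ) ≤ nrm p b α := by
  obtain ⟨n, hn, hdvd⟩ := latOrth_qf_dvd hM hb hφ₁ h1 hα hα
  obtain ⟨n', hn1, hn'⟩ := lat_self_pos hM hα.1 hne
  have hnn : n = n' := by
    rw [hn] at hn'
    exact_mod_cast hn'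
  subst hnn
  rw [qf_self'] at hn
  have h : nrm p b α = (n : ℝ) := by exact_mod_cast hn
  rw [h]
  have h2 : (p : ℤ) ≤ n := Int.le_of_dvd (by omega) hdvd
  exact_mod_cast h2

end

end Cfsg.Agent.Lib.Helper8.MJ
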