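import Mathlib
import Cfsg.Prelude.Def_Blocks
import Cfsg.Prelude.Def_BlockRank
import Cfsg.Agent.Lib.Helper8.MJ1
import Cfsg.Agent.Lib.Helper8.MJ10
import Cfsg.Agent.Lib.Helper8.MJ11

set_option autoImplicit false
set_option linter.unusedSectionVars false

/-!
# A major subsection: the setting and the two frame identities
-/

namespace Cfsg.Agent.Lib.Helper8.MJ

open Cfsg
open scoped ComplexConjugate
open Cfsg.Agent.Lib.Helper1 Cfsg.Agent.Lib.Helper4 Cfsg.Agent.Lib.Helper8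

universe u

/-- the setting -/
structure MajorCtx (p : ℕ) (M : Ideal AlgInt) {G : Type u} [Group G] [Fintype G]
    (C : Subgroup G) [Fintype C] (z : G) (b : Set (IrrCharacter C)) (B : Set (IrrCharacter G))
    (q : ℕ) : Prop where
  hM : IsPModular p M
  hC : ∀ t, t ∈ C ↔ t * z = z * t
  hq : 0 < q
  hz : z ^ (q * p) = 1
  hP : ∃ m : ℕ, q * p = p ^ m
  hu : ∃ j : ℕ, orderOf z = p ^ j
  hind : IsInducedBlock M C b B
  hdef : blockDefect p b = blockDefect p B

section

variable {G : Type u} [Group G] [Fintype G] {M : Ideal AlgInt} {p : ℕ} [Fact p.Prime]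
  {C : Subgroup G} [Fintype C] {z : G} {b : Set (IrrCharacter C)} {B : Set (IrrCharacter G)}
  {q : ℕ}

theorem MajorCtx.coprime (ctx : MajorCtx p M C z b B q) {k : ℕ} (hk : k ∈ unitsRange q p) :
    k.Coprime (orderOf z) := by
  have hp : p.Prime := Fact.out
  obtain ⟨j, hj⟩ := ctx.hu
  rw [hj]
  have h1 : ¬ p ∣ k := (Finset.mem_filter.1 hk).2
  exact Nat.Coprime.pow_right j ((hp.coprime_iff_not_dvd.2 h1).symm)

theorem MajorCtx.hCk (ctx : MajorCtx p M C z b B q) {k : ℕ} (hk : k ∈ unitsRange q p) :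
    ∀ t, t ∈ C ↔ t * z ^ k = z ^ k * t :=
  centralizer_pow_iff C ctx.hC (ctx.coprime hk)

theorem MajorCtx.huk (ctx : MajorCtx p M C z b B q) {k : ℕ} (hk : k ∈ unitsRange q p) :
    ∃ j : ℕ, orderOf (z ^ k) = p ^ j := by
  obtain ⟨j, hj⟩ := ctx.hu
  exact ⟨j, by rw [(ctx.coprime hk).symm.orderOf_pow, hj]⟩

theorem MajorCtx.one_mem (ctx : MajorCtx p M C z b B q) : 1 ∈ unitsRange q p := by
  have hp : p.Prime := Fact.out
  unfold unitsRange
  rw [Finset.mem_filter, Finset.mem_range]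
  refine ⟨?_, ?_⟩
  · have := ctx.hq
    have := hp.two_le
    nlinarith
  · intro h
    exact hp.one_lt.ne' (Nat.dvd_one.1 h)

theorem MajorCtx.hb (ctx : MajorCtx p M C z b B q) : IsPBlock M b := ctx.hind.1

theorem MajorCtx.hB (ctx : MajorCtx p M C z b B q) : IsPBlock M B := ctx.hind.2.1

/-- **First frame identity**: the norms of the section parts add up to `p ^ d l(b)`. -/
theorem MajorCtx.sum_nrm_secPart (ctx : MajorCtx p M C z b B q) [Fintype (IrrCharacter G)]
    {k : ℕ} (hk : k ∈ unitsRange q p) :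
    ∑ ζ : IrrCharacter G, nrm p b (secPart p C b (z ^ k) (ζ : G → ℂ)) =
      (p : ℝ) ^ (blockDefect p b) * (blockRank p b : ℝ) := by
  have hM := ctx.hM
  have hC := ctx.hCk hk
  have hu := ctx.huk hk
  have hb := ctx.hb
  have h1 := sum_sum_normSq_contrib hM C hC hu hb
  have h2 : ∀ ζ : IrrCharacter G, nrm p b (secPart p C b (z ^ k) (ζ : G → ℂ)) =
      (p : ℝ) ^ (blockDefect p b) * ∑ ξ : IrrCharacter G,
        Complex.normSq (contrib p C b (z ^ k) (ζ : G → ℂ) (ξ : G → ℂ)) := by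
    intro ζ
    have hζcf := isClassFunction_irr ζ.2
    have h3 := sum_normSq_contrib_eq_self hM C hC hu hb hζcf
    rw [contrib_eq_classInner hM C hC hb hζcf hζcf] at h3
    have h4 : ((nrm p b (secPart p C b (z ^ k) (ζ : G → ℂ)) : ℝ) : ℂ) =
        (((p : ℝ) ^ (blockDefect p b) * ∑ ξ : IrrCharacter G,
        Complex.normSq (contrib p C b (z ^ k) (ζ : G → ℂ) (ξ : G → ℂ)) : ℝ) : ℂ) := by
      rw [← qf_self']
      unfold qf
      rw [← h3]
      push_cast
      rfl
    exact_mod_cast h4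
  rw [Finset.sum_congr rfl (fun ζ _ => h2 ζ), ← Finset.mul_sum, h1]

/-- **Second frame identity**: the projections on a vector of the lattice. -/
theorem MajorCtx.sum_normSq_qf_secPart (ctx : MajorCtx p M C z b B q) [Fintype (IrrCharacter G)]
    {k : ℕ} (hk : k ∈ unitsRange q p) {φ₁ : C → ℂ} (hφ₁ : φ₁ ∈ lat p b) :
    ∑ ζ : IrrCharacter G,
        Complex.normSq (qf p b (secPart p C b (z ^ k) (ζ : G → ℂ)) φ₁) =
      (p : ℝ) ^ (blockDefect p b) * nrm p b φ₁ := by
  have hp : p.Prime := Fact.out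
  have hM := ctx.hM
  have hC := ctx.hCk hk
  have hu := ctx.huk hk
  have hb := ctx.hb
  have h1 := sum_irr_normSq_section hp C hC hu φ₁ (lat_isClassFunction hφ₁) (lat_vanish hφ₁)
  have hC0 : (Nat.card C : ℝ) ≠ 0 := Nat.cast_ne_zero.2 Nat.card_pos.ne'
  have h2 : ∀ ζ : IrrCharacter G,
      Complex.normSq (qf p b (secPart p C b (z ^ k) (ζ : G → ℂ)) φ₁) =
      ((p : ℝ) ^ (blockDefect p b) * (Nat.card C : ℝ)⁻¹) ^ 2 *
        Complex.normSq (∑ c : C, (ζ : G → ℂ) (z ^ k * (c : G)) * conj (φ₁ c)) := by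
    intro ζ
    unfold qf
    rw [classInner_secPart_lat hM C hC hb (isClassFunction_irr ζ.2) hφ₁, classInner_def,
      ← mul_assoc, Complex.normSq_mul]
    congr 1
    rw [Complex.normSq_mul, Complex.normSq_inv, Complex.normSq_natCast, map_pow,
      Complex.normSq_natCast]
    ring
  rw [Finset.sum_congr rfl (fun ζ _ => h2 ζ), ← Finset.mul_sum, h1]
  unfold nrm nsq
  field_simp

end

end Cfsg.Agent.Lib.Helper8.MJ
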