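import Mathlib
import Cfsg.Agent.Lib.Helper8.MJ3

set_option autoImplicit false

/-!
# Integer-valued version of the lower bound, with a divisibility condition
-/

namespace Cfsg.Agent.Lib.Helper8.MJ

open scoped ComplexConjugate

theorem nsq_unit (f : Unit → ℂ) : nsq f = Complex.normSq (f ()) := by
  simp [nsq]

/-- a nonconstant integer row with sum divisible by `p` has defect at least `2 p` -/
theorem int_row_bound (p : ℕ) (y : ℕ → ℤ) (s' : ℤ)
    (hs : ∑ t ∈ Finset.range p, y t = p * s') {t₀ t₁ : ℕ} (ht₀ : t₀ < p) (ht₁ : t₁ < p)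
    (hne : y t₀ ≠ y t₁) :
    2 * (p : ℤ) ≤ p * ∑ t ∈ Finset.range p, (y t) ^ 2 - (∑ t ∈ Finset.range p, y t) ^ 2 := by
  have hid : (p : ℤ) * ∑ t ∈ Finset.range p, (y t) ^ 2 - (∑ t ∈ Finset.range p, y t) ^ 2 =
      p * ∑ t ∈ Finset.range p, (y t - s') ^ 2 := by
    have h1 : ∑ t ∈ Finset.range p, (y t - s') ^ 2 =
        ∑ t ∈ Finset.range p, (y t) ^ 2 - 2 * s' * ∑ t ∈ Finset.range p, y t + p * s' ^ 2 := by
      have : ∀ t ∈ Finset.range p, (y t - s') ^ 2 = (y t) ^ 2 - 2 * s' * y t + s' ^ 2 :=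
        fun t _ => by ring
      rw [Finset.sum_congr rfl this, Finset.sum_add_distrib, Finset.sum_sub_distrib,
        ← Finset.mul_sum, Finset.sum_const, Finset.card_range, nsmul_eq_mul]
    rw [h1, hs]
    ring
  rw [hid]
  have hsum0 : ∑ t ∈ Finset.range p, (y t - s') = 0 := by
    rw [Finset.sum_sub_distrib, hs, Finset.sum_const, Finset.card_range, nsmul_eq_mul]
    ring
  obtain ⟨a, ha, hwa⟩ : ∃ a, a < p ∧ y a - s' ≠ 0 := by
    by_cases h0 : y t₀ - s' = 0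
    · refine ⟨t₁, ht₁, ?_⟩
      intro h1
      apply hne
      have e0 : y t₀ = s' := sub_eq_zero.1 h0
      have e1 : y t₁ = s' := sub_eq_zero.1 h1
      rw [e0, e1]
    · exact ⟨t₀, ht₀, h0⟩
  obtain ⟨c, hc, hca, hwc⟩ : ∃ c, c < p ∧ c ≠ a ∧ y c - s' ≠ 0 := by
    by_contra hcon
    push Not at hcon
    apply hwa
    rw [← hsum0]
    symm
    apply Finset.sum_eq_single_of_mem a (Finset.mem_range.2 ha)
    intro c hc hca
    exact hcon c (Finset.mem_range.1 hc) hca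
  have h2 : (2 : ℤ) ≤ ∑ t ∈ Finset.range p, (y t - s') ^ 2 := by
    have hsub : ({a, c} : Finset ℕ) ⊆ Finset.range p := by
      intro t ht
      rw [Finset.mem_insert, Finset.mem_singleton] at ht
      rcases ht with rfl | rfl
      · exact Finset.mem_range.2 ha
      · exact Finset.mem_range.2 hc
    have h3 := Finset.sum_le_sum_of_subset_of_nonneg (f := fun t => (y t - s') ^ 2) hsub
      (fun t _ _ => sq_nonneg _)
    rw [Finset.sum_pair (Ne.symm hca)] at h3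
    have h4 : 0 < (y a - s') ^ 2 := by positivity
    have h5 : 0 < (y c - s') ^ 2 := by positivity
    omega
  have hp0 : (0 : ℤ) ≤ p := Int.natCast_nonneg p
  calc 2 * (p : ℤ) = (p : ℤ) * 2 := by ring
    _ ≤ _ := mul_le_mul_of_nonneg_left h2 hp0

/-- the defect of a row of integers -/
def rowDefect (q p : ℕ) (y : ℕ → ℤ) (r : ℕ) : ℤ :=
  (p : ℤ) * ∑ t ∈ Finset.range p, (y (r + q * t)) ^ 2 - (∑ t ∈ Finset.range p, y (r + q * t)) ^ 2

theorem normSq_intCast' (n : ℤ) : Complex.normSq (n : ℂ) = (n : ℝ) ^ 2 := by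
  rw [← Complex.ofReal_intCast, Complex.normSq_ofReal]
  ring

theorem rowDefect_real (q p : ℕ) (y : ℕ → ℤ) (r : ℕ) :
    ((rowDefect q p y r : ℤ) : ℝ) = (p : ℝ) * ∑ t ∈ Finset.range p,
      nsq (fun _ : Unit => (y (r + q * t) : ℂ)) -
      nsq (∑ t ∈ Finset.range p, fun _ : Unit => (y (r + q * t) : ℂ)) := by
  simp only [nsq_unit, Finset.sum_apply]
  have h2 : (∑ t ∈ Finset.range p, (y (r + q * t) : ℂ)) =
      ((∑ t ∈ Finset.range p, y (r + q * t) : ℤ) : ℂ) := by push_cast; rfl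
  rw [h2]
  simp only [normSq_intCast', rowDefect]
  push_cast
  ring

theorem rowDefect_nonneg (q p : ℕ) (y : ℕ → ℤ) (r : ℕ) : 0 ≤ rowDefect q p y r := by
  have := row_nonneg p (fun t => fun _ : Unit => (y (r + q * t) : ℂ))
  rw [← rowDefect_real q p y r] at this
  exact_mod_cast this

theorem rowDefect_bound (q p : ℕ) (y : ℕ → ℤ) (r : ℕ) {t₀ t₁ : ℕ} (ht₀ : t₀ < p) (ht₁ : t₁ < p)
    (hne : y (r + q * t₀) ≠ y (r + q * t₁)) : (p : ℤ) - 1 ≤ rowDefect q p y r := by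
  have hne' : (fun t => fun _ : Unit => (y (r + q * t) : ℂ)) t₀ ≠
      (fun t => fun _ : Unit => (y (r + q * t) : ℂ)) t₁ := by
    intro h
    apply hne
    have h' : ((y (r + q * t₀) : ℤ) : ℂ) = ((y (r + q * t₁) : ℤ) : ℂ) := congrFun h ()
    exact_mod_cast h'
  have := row_bound p (fun t => fun _ : Unit => (y (r + q * t) : ℂ)) 1 zero_le_one
    (by
      intro t t'
      by_cases h : y (r + q * t) = y (r + q * t')
      · left
        simp only [h]
      · right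
        rw [nsq_unit]
        simp only [Pi.sub_apply]
        have h3 : ((y (r + q * t) : ℂ) - (y (r + q * t') : ℂ)) =
            ((y (r + q * t) - y (r + q * t') : ℤ) : ℂ) := by push_cast; rfl
        rw [h3, ← Complex.ofReal_intCast, Complex.normSq_ofReal]
        have h4 : y (r + q * t) - y (r + q * t') ≠ 0 := sub_ne_zero.2 h
        have h5 : (1 : ℤ) ≤ (y (r + q * t) - y (r + q * t')) * (y (r + q * t) - y (r + q * t')) := by
          have : 0 < (y (r + q * t) - y (r + q * t')) * (y (r + q * t) - y (r + q * t')) :=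
            mul_self_pos.2 h4
          omega
        exact_mod_cast h5) ht₀ ht₁ hne'
  rw [← rowDefect_real q p y r, mul_one] at this
  have h6 : (((p : ℤ) - 1 : ℤ) : ℝ) ≤ ((rowDefect q p y r : ℤ) : ℝ) := by
    push_cast
    exact this
  exact_mod_cast h6

/-- the scalar form of the identity -/
theorem gs_identity_int {q p : ℕ} (hp : 0 < p) (hq : 0 < q) {ζ : ℂ}
    (hζ : IsPrimitiveRoot ζ (q * p)) (y : ℕ → ℤ) :
    ∑ k ∈ unitsRange q p, Complex.normSq (∑ e ∈ Finset.range (q * p), ζ ^ (k * e) * (y e : ℂ)) =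
      (q : ℝ) * ∑ r ∈ Finset.range q, ((rowDefect q p y r : ℤ) : ℝ) := by
  have h := gs_identity hp hq hζ (fun e => fun _ : Unit => (y e : ℂ))
  simp only [nsq_unit, Finset.sum_apply, Pi.smul_apply, smul_eq_mul] at h
  rw [h]
  congr 1
  refine Finset.sum_congr rfl fun r _ => ?_
  rw [rowDefect_real]
  simp only [nsq_unit, Finset.sum_apply]

theorem exists_row_nonconstant_int {q p : ℕ} (hp : 2 ≤ p) (hq : 0 < q) {ζ : ℂ}
    (hζ : IsPrimitiveRoot ζ (q * p)) (y : ℕ → ℤ)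
    (h1 : ∑ e ∈ Finset.range (q * p), ζ ^ e * (y e : ℂ) ≠ 0) :
    ∃ r ∈ Finset.range q, ∃ t₀ < p, ∃ t₁ < p, y (r + q * t₀) ≠ y (r + q * t₁) := by
  have h1' : ∑ e ∈ Finset.range (q * p), ζ ^ e • (fun _ : Unit => (y e : ℂ)) ≠ 0 := by
    intro h
    apply h1
    have := congrFun h ()
    simpa [Finset.sum_apply] using this
  obtain ⟨r₀, hr₀, t₀, ht₀, t₁, ht₁, hne⟩ := exists_row_nonconstant hp hq hζ
    (fun e => fun _ : Unit => (y e : ℂ)) h1'
  refine ⟨r₀, hr₀, t₀, ht₀, t₁, ht₁, ?_⟩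
  intro h
  apply hne
  simp only [h]

theorem gs1_bound_int {q p : ℕ} (hp : 2 ≤ p) (hq : 0 < q) {ζ : ℂ}
    (hζ : IsPrimitiveRoot ζ (q * p)) (y : ℕ → ℤ)
    (h1 : ∑ e ∈ Finset.range (q * p), ζ ^ e * (y e : ℂ) ≠ 0) :
    (((q * p : ℕ) : ℝ) - q) ≤
      ∑ k ∈ unitsRange q p,
        Complex.normSq (∑ e ∈ Finset.range (q * p), ζ ^ (k * e) * (y e : ℂ)) := by
  have hp0 : 0 < p := by omega
  rw [gs_identity_int hp0 hq hζ y]
  obtain ⟨r₀, hr₀, t₀, ht₀, t₁, ht₁, hne0⟩ := exists_row_nonconstant_int hp hq hζ y h1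
  have hmain : (p : ℤ) - 1 ≤ ∑ r ∈ Finset.range q, rowDefect q p y r :=
    (rowDefect_bound q p y r₀ ht₀ ht₁ hne0).trans
      (Finset.single_le_sum (fun r _ => rowDefect_nonneg q p y r) hr₀)
  have hq0 : (0 : ℝ) ≤ q := Nat.cast_nonneg q
  have hmainR : ((p : ℝ) - 1) ≤ ∑ r ∈ Finset.range q, ((rowDefect q p y r : ℤ) : ℝ) := by
    have : ((((p : ℤ) - 1) : ℤ) : ℝ) ≤ ((∑ r ∈ Finset.range q, rowDefect q p y r : ℤ) : ℝ) := by
      exact_mod_cast hmain
    push_cast at this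
    exact this
  have h7 := mul_le_mul_of_nonneg_left hmainR hq0
  have e : (((q * p : ℕ) : ℝ)) = (q : ℝ) * p := by push_cast; ring
  rw [e]
  calc ((q : ℝ) * p - q) = (q : ℝ) * (((p : ℝ) - 1)) := by ring
    _ ≤ _ := h7

theorem gs2_bound {q p : ℕ} (hp : 2 ≤ p) (hq : 0 < q) {ζ : ℂ}
    (hζ : IsPrimitiveRoot ζ (q * p)) (y : ℕ → ℤ)
    (hdvd : (p : ℤ) ∣ ∑ e ∈ Finset.range (q * p), y e)
    (h1 : ∑ e ∈ Finset.range (q * p), ζ ^ e * (y e : ℂ) ≠ 0) :
    2 * (((q * p : ℕ) : ℝ) - q) ≤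
      ∑ k ∈ unitsRange q p,
        Complex.normSq (∑ e ∈ Finset.range (q * p), ζ ^ (k * e) * (y e : ℂ)) := by
  have hp0 : 0 < p := by omega
  rw [gs_identity_int hp0 hq hζ y]
  obtain ⟨r₀, hr₀, t₀, ht₀, t₁, ht₁, hne0⟩ := exists_row_nonconstant_int hp hq hζ y h1
  have hnn := fun r => rowDefect_nonneg q p y r
  -- the integer inequality
  have hmain : 2 * ((p : ℤ) - 1) ≤ ∑ r ∈ Finset.range q, rowDefect q p y r := by
    by_cases hex : ∃ r₁ ∈ Finset.range q, r₁ ≠ r₀ ∧ ∃ t₂ < p, ∃ t₃ < p,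
        y (r₁ + q * t₂) ≠ y (r₁ + q * t₃)
    · obtain ⟨r₁, hr₁, hr₁₀, t₂, ht₂, t₃, ht₃, hne1⟩ := hex
      have hsub : ({r₀, r₁} : Finset ℕ) ⊆ Finset.range q := by
        intro t ht
        rw [Finset.mem_insert, Finset.mem_singleton] at ht
        rcases ht with rfl | rfl
        · exact hr₀
        · exact hr₁
      have h3 := Finset.sum_le_sum_of_subset_of_nonneg (f := rowDefect q p y) hsub
        (fun r _ _ => hnn r)
      rw [Finset.sum_pair (Ne.symm hr₁₀)] at h3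
      have h4 := rowDefect_bound q p y r₀ ht₀ ht₁ hne0
      have h5 := rowDefect_bound q p y r₁ ht₂ ht₃ hne1
      omega
    · push Not at hex
      have hconst : ∀ r ∈ (Finset.range q).erase r₀,
          ∑ t ∈ Finset.range p, y (r + q * t) = (p : ℤ) * y (r + q * 0) := by
        intro r hr
        obtain ⟨hr1, hr2⟩ := Finset.mem_erase.1 hr
        have : ∀ t ∈ Finset.range p, y (r + q * t) = y (r + q * 0) :=
          fun t ht => hex r hr2 hr1 t (Finset.mem_range.1 ht) 0 hp0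
        rw [Finset.sum_congr rfl this, Finset.sum_const, Finset.card_range, nsmul_eq_mul]
      have htot : ∑ e ∈ Finset.range (q * p), y e =
          ∑ t ∈ Finset.range p, y (r₀ + q * t) +
            (p : ℤ) * ∑ r ∈ (Finset.range q).erase r₀, y (r + q * 0) := by
        rw [sum_range_mul', ← Finset.add_sum_erase _ _ hr₀, Finset.sum_congr rfl hconst,
          ← Finset.mul_sum]
      obtain ⟨s', hs'⟩ : (p : ℤ) ∣ ∑ t ∈ Finset.range p, y (r₀ + q * t) := by
        have h3 : (p : ℤ) ∣ (p : ℤ) * ∑ r ∈ (Finset.range q).erase r₀, y (r + q * 0) :=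
          Dvd.intro _ rfl
        rw [htot] at hdvd
        exact (dvd_add_left h3).1 hdvd
      have h4 := int_row_bound p (fun t => y (r₀ + q * t)) s' hs' ht₀ ht₁ hne0
      have h5 : rowDefect q p y r₀ ≤ ∑ r ∈ Finset.range q, rowDefect q p y r :=
        Finset.single_le_sum (fun r _ => hnn r) hr₀
      have h6 : 2 * (p : ℤ) ≤ rowDefect q p y r₀ := h4
      omega
  have hq0 : (0 : ℝ) ≤ q := Nat.cast_nonneg q
  have hmainR : (2 : ℝ) * ((p : ℝ) - 1) ≤
      ∑ r ∈ Finset.range q, ((rowDefect q p y r : ℤ) : ℝ) := by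
    have : ((2 * ((p : ℤ) - 1) : ℤ) : ℝ) ≤
        ((∑ r ∈ Finset.range q, rowDefect q p y r : ℤ) : ℝ) := by
      exact_mod_cast hmain
    push_cast at this
    exact this
  have h7 := mul_le_mul_of_nonneg_left hmainR hq0
  have e : (((q * p : ℕ) : ℝ)) = (q : ℝ) * p := by push_cast; ring
  rw [e]
  calc 2 * ((q : ℝ) * p - q) = (q : ℝ) * (2 * ((p : ℝ) - 1)) := by ring
    _ ≤ _ := h7

end Cfsg.Agent.Lib.Helper8.MJ
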