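import Mathlib
import Cfsg.Agent.Lib.Helper8.MJ4

set_option autoImplicit false

/-!
# The lower bounds for families indexed by a finite type
-/

namespace Cfsg.Agent.Lib.Helper8.MJ

open scoped ComplexConjugate

variable {X : Type*} [Fintype X] {I : Type*} [Fintype I]

omit [Fintype X] in
theorem sum_fiber_smul (P : ℕ) (e : I → ℕ) (he : ∀ i, e i < P) (c : ℕ → ℂ) (v : I → X → ℂ) :
    ∑ e' ∈ Finset.range P, c e' • (∑ i ∈ Finset.univ.filter (fun i => e i = e'), v i) =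
      ∑ i, c (e i) • v i := by
  classical
  rw [← Finset.sum_fiberwise_of_maps_to (s := Finset.univ) (t := Finset.range P) (g := e)
    (fun i _ => Finset.mem_range.2 (he i)) (fun i => c (e i) • v i)]
  refine Finset.sum_congr rfl fun e' _ => ?_
  rw [Finset.smul_sum]
  refine Finset.sum_congr rfl fun i hi => ?_
  rw [(Finset.mem_filter.1 hi).2]

theorem sum_fiber_mul_int (P : ℕ) (e : I → ℕ) (he : ∀ i, e i < P) (c : ℕ → ℂ) (x : I → ℤ) :
    ∑ e' ∈ Finset.range P, c e' *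
        ((∑ i ∈ Finset.univ.filter (fun i => e i = e'), x i : ℤ) : ℂ) =
      ∑ i, c (e i) * (x i : ℂ) := by
  classical
  rw [← Finset.sum_fiberwise_of_maps_to (s := Finset.univ) (t := Finset.range P) (g := e)
    (fun i _ => Finset.mem_range.2 (he i)) (fun i => c (e i) * (x i : ℂ))]
  refine Finset.sum_congr rfl fun e' _ => ?_
  push_cast
  rw [Finset.mul_sum]
  refine Finset.sum_congr rfl fun i hi => ?_
  rw [(Finset.mem_filter.1 hi).2]

theorem sum_fiber_int (P : ℕ) (e : I → ℕ) (he : ∀ i, e i < P) (x : I → ℤ) :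
    ∑ e' ∈ Finset.range P, ∑ i ∈ Finset.univ.filter (fun i => e i = e'), x i = ∑ i, x i := by
  classical
  rw [← Finset.sum_fiberwise_of_maps_to (s := Finset.univ) (t := Finset.range P) (g := e)
    (fun i _ => Finset.mem_range.2 (he i)) (fun i => x i)]

/-- **Lower bound**, indexed version. -/
theorem gs_bound_indexed {q p : ℕ} (hp : 2 ≤ p) (hq : 0 < q) {ζ : ℂ}
    (hζ : IsPrimitiveRoot ζ (q * p)) (e : I → ℕ) (he : ∀ i, e i < q * p) (v : I → X → ℂ)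
    (L : AddSubgroup (X → ℂ)) (hv : ∀ i, v i ∈ L) (μ : ℝ) (hμ : 0 ≤ μ)
    (hL : ∀ w ∈ L, w = 0 ∨ μ ≤ nsq w) (h1 : ∑ i, ζ ^ (e i) • v i ≠ 0) :
    (((q * p : ℕ) : ℝ) - q) * μ ≤
      ∑ k ∈ unitsRange q p, nsq (∑ i, ζ ^ (k * e i) • v i) := by
  classical
  set W : ℕ → X → ℂ := fun e' => ∑ i ∈ Finset.univ.filter (fun i => e i = e'), v i with hW
  have hWL : ∀ e', W e' ∈ L := fun e' => L.sum_mem fun i _ => hv i
  have h1' : ∑ e' ∈ Finset.range (q * p), ζ ^ e' • W e' ≠ 0 := by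
    rw [sum_fiber_smul (q * p) e he (fun e' => ζ ^ e') v]
    exact h1
  have h := gs_bound hp hq hζ W L hWL μ hμ hL h1'
  have h2 : ∀ k, ∑ e' ∈ Finset.range (q * p), ζ ^ (k * e') • W e' = ∑ i, ζ ^ (k * e i) • v i :=
    fun k => sum_fiber_smul (q * p) e he (fun e' => ζ ^ (k * e')) v
  simp only [h2] at h
  exact h

theorem gs1_indexed_int {q p : ℕ} (hp : 2 ≤ p) (hq : 0 < q) {ζ : ℂ}
    (hζ : IsPrimitiveRoot ζ (q * p)) (e : I → ℕ) (he : ∀ i, e i < q * p) (x : I → ℤ)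
    (h1 : ∑ i, ζ ^ (e i) * (x i : ℂ) ≠ 0) :
    (((q * p : ℕ) : ℝ) - q) ≤
      ∑ k ∈ unitsRange q p, Complex.normSq (∑ i, ζ ^ (k * e i) * (x i : ℂ)) := by
  classical
  set y : ℕ → ℤ := fun e' => ∑ i ∈ Finset.univ.filter (fun i => e i = e'), x i with hy
  have h1' : ∑ e' ∈ Finset.range (q * p), ζ ^ e' * (y e' : ℂ) ≠ 0 := by
    rw [sum_fiber_mul_int (q * p) e he (fun e' => ζ ^ e') x]
    exact h1
  have h := gs1_bound_int hp hq hζ y h1'
  have h2 : ∀ k, ∑ e' ∈ Finset.range (q * p), ζ ^ (k * e') * (y e' : ℂ) =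
      ∑ i, ζ ^ (k * e i) * (x i : ℂ) :=
    fun k => sum_fiber_mul_int (q * p) e he (fun e' => ζ ^ (k * e')) x
  simp only [h2] at h
  exact h

theorem gs2_indexed_int {q p : ℕ} (hp : 2 ≤ p) (hq : 0 < q) {ζ : ℂ}
    (hζ : IsPrimitiveRoot ζ (q * p)) (e : I → ℕ) (he : ∀ i, e i < q * p) (x : I → ℤ)
    (hdvd : (p : ℤ) ∣ ∑ i, x i)
    (h1 : ∑ i, ζ ^ (e i) * (x i : ℂ) ≠ 0) :
    2 * (((q * p : ℕ) : ℝ) - q) ≤
      ∑ k ∈ unitsRange q p, Complex.normSq (∑ i, ζ ^ (k * e i) * (x i : ℂ)) := by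
  classical
  set y : ℕ → ℤ := fun e' => ∑ i ∈ Finset.univ.filter (fun i => e i = e'), x i with hy
  have h1' : ∑ e' ∈ Finset.range (q * p), ζ ^ e' * (y e' : ℂ) ≠ 0 := by
    rw [sum_fiber_mul_int (q * p) e he (fun e' => ζ ^ e') x]
    exact h1
  have hdvd' : (p : ℤ) ∣ ∑ e' ∈ Finset.range (q * p), y e' := by
    rw [sum_fiber_int (q * p) e he x]
    exact hdvd
  have h := gs2_bound hp hq hζ y hdvd' h1'
  have h2 : ∀ k, ∑ e' ∈ Finset.range (q * p), ζ ^ (k * e') * (y e' : ℂ) =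
      ∑ i, ζ ^ (k * e i) * (x i : ℂ) :=
    fun k => sum_fiber_mul_int (q * p) e he (fun e' => ζ ^ (k * e')) x
  simp only [h2] at h
  exact h

end Cfsg.Agent.Lib.Helper8.MJ
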