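import Mathlib
import Cfsg.Prelude.Def_Blocks
import Cfsg.Prelude.Def_BlockRank
import Cfsg.Agent.Lib.Helper8.MJ5
import Cfsg.Agent.Lib.Helper8.MJ12

set_option autoImplicit false
set_option linter.unusedSectionVars false

/-!
# A major subsection: lower bounds for the sums over the powers of `z`
-/

namespace Cfsg.Agent.Lib.Helper8.MJ

open Cfsg
open scoped ComplexConjugate
open Cfsg.Agent.Lib.Helper1 Cfsg.Agent.Lib.Helper4 Cfsg.Agent.Lib.Helper8

universe u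

section

variable {G : Type u} [Group G] [Fintype G] {M : Ideal AlgInt} {p : ℕ} [Fact p.Prime]
  {C : Subgroup G} [Fintype C] {z : G} {b : Set (IrrCharacter C)} {B : Set (IrrCharacter G)}
  {q : ℕ}

theorem MajorCtx.lamC_pow (ctx : MajorCtx p M C z b B q) (ψ : IrrCharacter C) :
    (lamC C ((ctx.hC z).2 rfl) ψ) ^ (q * p) = 1 := by
  have hz : z ∈ C := (ctx.hC z).2 rfl
  set z' : C := ⟨z, hz⟩ with hz'
  have hcen : z' ∈ Subgroup.center C := by
    rw [Subgroup.mem_center_iff]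
    intro c
    apply Subtype.ext
    exact (ctx.hC _).1 c.2
  have h1 : z' ^ (q * p) = 1 := by
    apply Subtype.ext
    rw [Subgroup.coe_pow]
    exact ctx.hz
  unfold lamC
  rw [irr_central_pow ψ.2 hcen (q * p), h1, div_self (irr_apply_one_ne_zero ψ.2)]

/-- **Expansion** of all section parts through a fixed primitive root of unity. -/
theorem MajorCtx.exists_expansion (ctx : MajorCtx p M C z b B q) [Fintype (IrrCharacter C)] :
    ∃ (ζ₀ : ℂ) (e : IrrCharacter C → ℕ), IsPrimitiveRoot ζ₀ (q * p) ∧ (∀ ψ, e ψ < q * p) ∧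
      ∀ (ζ : G → ℂ) (k : ℕ), secPart p C b (z ^ k) ζ =
        ∑ ψ : IrrCharacter C, ζ₀ ^ (k * e ψ) • secVec p C b ζ ψ := by
  have hp : p.Prime := Fact.out
  have hP0 : q * p ≠ 0 := (Nat.mul_pos ctx.hq hp.pos).ne'
  have : NeZero (q * p) := ⟨hP0⟩
  have hprim := Complex.isPrimitiveRoot_exp (q * p) hP0
  have hex : ∀ ψ : IrrCharacter C, ∃ i < q * p,
      Complex.exp (2 * Real.pi * Complex.I / ((q * p : ℕ) : ℂ)) ^ i =
        lamC C ((ctx.hC z).2 rfl) ψ :=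
    fun ψ => hprim.eq_pow_of_pow_eq_one (ctx.lamC_pow ψ)
  choose e he1 he2 using hex
  refine ⟨_, e, hprim, he1, ?_⟩
  intro ζ k
  rw [secPart_pow_eq_sum C ctx.hC b ζ k]
  refine Finset.sum_congr rfl fun ψ _ => ?_
  rw [← he2 ψ, ← pow_mul, mul_comm (e ψ) k]

/-- the lower bound of `gs_bound_indexed` in terms of the norm `nrm` -/
theorem gs_nrm {I : Type*} [Fintype I] (hq : 0 < q) {ζ₀ : ℂ}
    (hζ₀ : IsPrimitiveRoot ζ₀ (q * p)) (e : I → ℕ) (he : ∀ i, e i < q * p) (v : I → C → ℂ)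
    (L : AddSubgroup (C → ℂ)) (hv : ∀ i, v i ∈ L) (μ : ℝ) (hμ : 0 ≤ μ)
    (hL : ∀ w ∈ L, w ≠ 0 → μ ≤ nrm p b w) (h1 : ∑ i, ζ₀ ^ (e i) • v i ≠ 0) :
    (((q * p : ℕ) : ℝ) - q) * μ ≤
      ∑ k ∈ unitsRange q p, nrm p b (∑ i, ζ₀ ^ (k * e i) • v i) := by
  have hp : p.Prime := Fact.out
  set c : ℝ := (p : ℝ) ^ (blockDefect p b) * (Nat.card C : ℝ)⁻¹ with hc
  have hc0 : 0 < c := by
    have hp0 : (0 : ℝ) < p := by exact_mod_cast hp.pos
    have hC0 : (0 : ℝ) < (Nat.card C : ℝ) := by exact_mod_cast Nat.card_pos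
    positivity
  have hnrm : ∀ w : C → ℂ, nrm p b w = c * nsq w := fun w => rfl
  have hL' : ∀ w ∈ L, w = 0 ∨ μ / c ≤ nsq w := by
    intro w hw
    by_cases hw0 : w = 0
    · exact Or.inl hw0
    · right
      have := hL w hw hw0
      rw [hnrm] at this
      rw [div_le_iff₀ hc0]
      linarith
  have h := gs_bound_indexed hp.two_le hq hζ₀ e he v L hv (μ / c) (div_nonneg hμ hc0.le) hL' h1
  simp only [hnrm]
  rw [← Finset.mul_sum]
  have h2 := mul_le_mul_of_nonneg_left h hc0.le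
  calc (((q * p : ℕ) : ℝ) - q) * μ = c * ((((q * p : ℕ) : ℝ) - q) * (μ / c)) := by
        field_simp
    _ ≤ _ := h2

/-- **Lower bound** for the section parts. -/
theorem MajorCtx.sum_nrm_secPart_ge (ctx : MajorCtx p M C z b B q) {ζ : G → ℂ}
    (hζ : IsCharacter G ζ) (μ : ℝ) (hμ : 0 ≤ μ)
    (hL : ∀ w ∈ lat p b, w ≠ 0 → μ ≤ nrm p b w) (hne : secPart p C b z ζ ≠ 0) :
    (((q * p : ℕ) : ℝ) - q) * μ ≤
      ∑ k ∈ unitsRange q p, nrm p b (secPart p C b (z ^ k) ζ) := by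
  classical
  have : Fintype (IrrCharacter C) := Fintype.ofFinite _
  obtain ⟨ζ₀, e, hζ₀, he, hexp⟩ := ctx.exists_expansion
  have h1 : ∑ ψ : IrrCharacter C, ζ₀ ^ (e ψ) • secVec p C b ζ ψ ≠ 0 := by
    have := hexp ζ 1
    simp only [pow_one, one_mul] at this
    rwa [← this]
  have h := gs_nrm (p := p) (b := b) ctx.hq hζ₀ e he (fun ψ => secVec p C b ζ ψ) (lat p b)
    (fun ψ => secVec_mem_lat C b hζ ψ) μ hμ hL h1
  simp only [← hexp ζ] at h
  exact h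

/-- **Lower bound** for the orthogonal parts. -/
theorem MajorCtx.sum_nrm_orthPart_ge (ctx : MajorCtx p M C z b B q) {ζ : G → ℂ}
    (hζ : IsCharacter G ζ) {φ₁ : C → ℂ} (hφ₁ : φ₁ ∈ lat p b) (h1 : qf p b φ₁ φ₁ = 1)
    (hne : orthPart p b φ₁ (secPart p C b z ζ) ≠ 0) :
    (((q * p : ℕ) : ℝ) - q) * p ≤
      ∑ k ∈ unitsRange q p, nrm p b (orthPart p b φ₁ (secPart p C b (z ^ k) ζ)) := by
  classical
  have : Fintype (IrrCharacter C) := Fintype.ofFinite _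
  have hp : p.Prime := Fact.out
  obtain ⟨ζ₀, e, hζ₀, he, hexp⟩ := ctx.exists_expansion
  have hexp' : ∀ k : ℕ, orthPart p b φ₁ (secPart p C b (z ^ k) ζ) =
      ∑ ψ : IrrCharacter C, ζ₀ ^ (k * e ψ) • orthPart p b φ₁ (secVec p C b ζ ψ) := by
    intro k
    rw [hexp ζ k, orthPart_sum]
  have h1' : ∑ ψ : IrrCharacter C, ζ₀ ^ (e ψ) • orthPart p b φ₁ (secVec p C b ζ ψ) ≠ 0 := by
    have := hexp' 1
    simp only [pow_one, one_mul] at this
    rwa [← this]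
  have h := gs_nrm (p := p) (b := b) ctx.hq hζ₀ e he
    (fun ψ => orthPart p b φ₁ (secVec p C b ζ ψ)) (latOrth p b φ₁)
    (fun ψ => orthPart_mem_latOrth ctx.hM hφ₁ h1 (secVec_mem_lat C b hζ ψ)) p
    (Nat.cast_nonneg p)
    (fun w hw hw0 => latOrth_nrm_ge ctx.hM ctx.hb hφ₁ h1 hw hw0) h1'
  simp only [← hexp'] at h
  exact h

end

end Cfsg.Agent.Lib.Helper8.MJ
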