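import Mathlib
import Cfsg.Prelude.Def_Blocks
import Cfsg.Prelude.Def_BlockRank
import Cfsg.Agent.Lib.Helper8.MJ13

set_option autoImplicit false
set_option linter.unusedSectionVars false

/-!
# A major subsection: lower bounds for the projections on a vector of norm one
-/

namespace Cfsg.Agent.Lib.Helper8.MJ

open Cfsg
open scoped ComplexConjugate
open Cfsg.Agent.Lib.Helper1 Cfsg.Agent.Lib.Helper4 Cfsg.Agent.Lib.Helper8

universe u

section

variable {G : Type u} [Group G] [Fintype G] {M : Ideal AlgInt} {p : ℕ} [Fact p.Prime]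
  {C : Subgroup G} [Fintype C] {z : G} {b : Set (IrrCharacter C)} {B : Set (IrrCharacter G)}
  {q : ℕ}

theorem MajorCtx.exists_int_coeff (ctx : MajorCtx p M C z b B q) {ζ : G → ℂ}
    (hζ : IsCharacter G ζ) {φ₁ : C → ℂ} (hφ₁ : φ₁ ∈ lat p b) :
    ∃ x : IrrCharacter C → ℤ, ∀ ψ, qf p b (secVec p C b ζ ψ) φ₁ = (x ψ : ℂ) := by
  have h : ∀ ψ : IrrCharacter C, ∃ n : ℤ, qf p b (secVec p C b ζ ψ) φ₁ = (n : ℂ) :=
    fun ψ => lat_int ctx.hM (secVec_mem_lat C b hζ ψ) hφ₁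
  choose x hx using h
  exact ⟨x, hx⟩

/-- **Lower bound** for the projections. -/
theorem MajorCtx.sum_normSq_qf_ge (ctx : MajorCtx p M C z b B q) {ζ : G → ℂ}
    (hζ : IsCharacter G ζ) {φ₁ : C → ℂ} (hφ₁ : φ₁ ∈ lat p b)
    (hne : qf p b (secPart p C b z ζ) φ₁ ≠ 0) :
    (((q * p : ℕ) : ℝ) - q) ≤
      ∑ k ∈ unitsRange q p, Complex.normSq (qf p b (secPart p C b (z ^ k) ζ) φ₁) := by
  classical
  have : Fintype (IrrCharacter C) := Fintype.ofFinite _
  have hp : p.Prime := Fact.out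
  obtain ⟨ζ₀, e, hζ₀, he, hexp⟩ := ctx.exists_expansion
  obtain ⟨x, hx⟩ := ctx.exists_int_coeff hζ hφ₁
  have hexp' : ∀ k : ℕ, qf p b (secPart p C b (z ^ k) ζ) φ₁ =
      ∑ ψ : IrrCharacter C, ζ₀ ^ (k * e ψ) * (x ψ : ℂ) := by
    intro k
    rw [hexp ζ k, qf_sum_left]
    refine Finset.sum_congr rfl fun ψ _ => ?_
    rw [qf_smul_left, hx]
  have h1' : ∑ ψ : IrrCharacter C, ζ₀ ^ (e ψ) * (x ψ : ℂ) ≠ 0 := by
    have := hexp' 1
    simp only [pow_one, one_mul] at this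
    rwa [← this]
  have h := gs1_indexed_int hp.two_le ctx.hq hζ₀ e he x h1'
  simp only [← hexp'] at h
  exact h

/-- **Lower bound** for the projections, when the first one lies in the local ideal. -/
theorem MajorCtx.sum_normSq_qf_ge_two (ctx : MajorCtx p M C z b B q) {ζ : G → ℂ}
    (hζ : IsCharacter G ζ) {φ₁ : C → ℂ} (hφ₁ : φ₁ ∈ lat p b)
    (hne : qf p b (secPart p C b z ζ) φ₁ ≠ 0)
    (hJ : MemLocalIdeal M (conj (qf p b (secPart p C b z ζ) φ₁))) :
    2 * (((q * p : ℕ) : ℝ) - q) ≤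
      ∑ k ∈ unitsRange q p, Complex.normSq (qf p b (secPart p C b (z ^ k) ζ) φ₁) := by
  classical
  have : Fintype (IrrCharacter C) := Fintype.ofFinite _
  have hp : p.Prime := Fact.out
  have hM := ctx.hM
  have hMp := isPModular_isPrime hM
  obtain ⟨ζ₀, e, hζ₀, he, hexp⟩ := ctx.exists_expansion
  obtain ⟨x, hx⟩ := ctx.exists_int_coeff hζ hφ₁
  have hexp' : ∀ k : ℕ, qf p b (secPart p C b (z ^ k) ζ) φ₁ =
      ∑ ψ : IrrCharacter C, ζ₀ ^ (k * e ψ) * (x ψ : ℂ) := by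
    intro k
    rw [hexp ζ k, qf_sum_left]
    refine Finset.sum_congr rfl fun ψ _ => ?_
    rw [qf_smul_left, hx]
  have hexp1 : qf p b (secPart p C b z ζ) φ₁ = ∑ ψ : IrrCharacter C, ζ₀ ^ (e ψ) * (x ψ : ℂ) := by
    have := hexp' 1
    simp only [pow_one, one_mul] at this
    exact this
  have h1' : ∑ ψ : IrrCharacter C, ζ₀ ^ (e ψ) * (x ψ : ℂ) ≠ 0 := by rwa [← hexp1]
  -- the divisibility
  have hdvd : (p : ℤ) ∣ ∑ ψ : IrrCharacter C, x ψ := by
    rw [← memLocalIdeal_intCast_iff hM]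
    obtain ⟨m, hm⟩ := ctx.hP
    have hw : ∀ ψ : IrrCharacter C, MemLocalIdeal M (conj (ζ₀ ^ (e ψ)) - 1) := by
      intro ψ
      apply memLocalIdeal_sub_one_of_pow_eq_one hM m
      rw [← hm, ← map_pow, ← pow_mul, mul_comm, pow_mul, hζ₀.pow_eq_one, one_pow, map_one]
    have h2 : ((∑ ψ : IrrCharacter C, x ψ : ℤ) : ℂ) =
        conj (qf p b (secPart p C b z ζ) φ₁) -
          ∑ ψ : IrrCharacter C, (conj (ζ₀ ^ (e ψ)) - 1) * (x ψ : ℂ) := by
      rw [hexp1, map_sum, ← Finset.sum_sub_distrib]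
      push_cast
      refine Finset.sum_congr rfl fun ψ _ => ?_
      rw [map_mul, map_intCast]
      ring
    rw [h2]
    apply memLocalIdeal_sub hMp hJ
    apply memLocalIdeal_sum hMp
    intro ψ _
    exact memLocalIdeal_mul_right hMp (hw ψ) (memLocalRing_intCast hMp.ne_top _)
  have h := gs2_indexed_int hp.two_le ctx.hq hζ₀ e he x hdvd h1'
  simp only [← hexp'] at h
  exact h

end

end Cfsg.Agent.Lib.Helper8.MJ
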