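import Mathlib
import Cfsg.Prelude.Def_Blocks
import Cfsg.Prelude.Def_BlockRank
import Cfsg.Agent.Lib.Helper8.MJ14

set_option autoImplicit false
set_option linter.unusedSectionVars false

/-!
# A major subsection: congruences for the projections on a vector of norm one
-/

namespace Cfsg.Agent.Lib.Helper8.MJ

open Cfsg
open scoped ComplexConjugate
open Cfsg.Agent.Lib.Helper1 Cfsg.Agent.Lib.Helper4 Cfsg.Agent.Lib.Helper8

universe u

section

variable {G : Type u} [Group G] [Fintype G] {M : Ideal AlgInt} {p : ℕ} [Fact p.Prime]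
  {C : Subgroup G} [Fintype C] {z : G} {b : Set (IrrCharacter C)} {B : Set (IrrCharacter G)}
  {q : ℕ}

theorem MajorCtx.pow_mul_contrib_eq_qf (ctx : MajorCtx p M C z b B q) {ζ ξ : G → ℂ}
    (hζ : IsClassFunction G ζ) (hξ : IsClassFunction G ξ) :
    (p : ℂ) ^ (blockDefect p b) * contrib p C b z ζ ξ =
      qf p b (secPart p C b z ζ) (secPart p C b z ξ) := by
  rw [contrib_eq_classInner ctx.hM C ctx.hC ctx.hb hζ hξ]
  rfl

/-- The form on the orthogonal parts of two section parts lies in the local ideal. -/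
theorem MajorCtx.memLocalIdeal_qf_orthPart (ctx : MajorCtx p M C z b B q) {ζ ξ : G → ℂ}
    (hζ : IsCharacter G ζ) (hξ : IsCharacter G ξ) {φ₁ : C → ℂ} (hφ₁ : φ₁ ∈ lat p b)
    (h1 : qf p b φ₁ φ₁ = 1) :
    MemLocalIdeal M (qf p b (orthPart p b φ₁ (secPart p C b z ζ))
      (orthPart p b φ₁ (secPart p C b z ξ))) := by
  classical
  have : Fintype (IrrCharacter C) := Fintype.ofFinite _
  have hp : p.Prime := Fact.out
  have hM := ctx.hM
  have hMp := isPModular_isPrime hM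
  obtain ⟨ζ₀, e, hζ₀, he, hexp⟩ := ctx.exists_expansion
  have hexp' : ∀ ζ : G → ℂ, orthPart p b φ₁ (secPart p C b z ζ) =
      ∑ ψ : IrrCharacter C, ζ₀ ^ (e ψ) • orthPart p b φ₁ (secVec p C b ζ ψ) := by
    intro ζ
    have := hexp ζ 1
    simp only [pow_one, one_mul] at this
    rw [this, orthPart_sum]
  have hint : ∀ j : ℕ, IsIntegral ℤ (ζ₀ ^ j) := by
    intro j
    apply IsIntegral.pow
    exact IsIntegral.of_pow (Nat.mul_pos ctx.hq hp.pos) (by rw [hζ₀.pow_eq_one]; exact isIntegral_one)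
  rw [hexp' ζ, hexp' ξ, qf_sum_left]
  apply memLocalIdeal_sum hMp
  intro ψ _
  rw [qf_sum_right]
  apply memLocalIdeal_sum hMp
  intro ψ' _
  rw [qf_smul_left, qf_smul_right]
  obtain ⟨n, hn, hdvd⟩ := latOrth_qf_dvd hM ctx.hb hφ₁ h1
    (orthPart_mem_latOrth hM hφ₁ h1 (secVec_mem_lat C b hξ ψ'))
    (orthPart_mem_latOrth hM hφ₁ h1 (secVec_mem_lat C b hζ ψ))
  rw [hn]
  apply memLocalIdeal_mul_left hMp (memLocalRing_of_isIntegral hMp.ne_top (hint _))
  apply memLocalIdeal_mul_left hMp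
    (memLocalRing_of_isIntegral hMp.ne_top (isIntegral_conj (hint _)))
  exact (memLocalIdeal_intCast_iff hM n).2 hdvd

/-- The projections are algebraic integers. -/
theorem MajorCtx.isIntegral_qf_secPart (ctx : MajorCtx p M C z b B q) {ζ : G → ℂ}
    (hζ : IsCharacter G ζ) {φ₁ : C → ℂ} (hφ₁ : φ₁ ∈ lat p b) :
    IsIntegral ℤ (qf p b (secPart p C b z ζ) φ₁) := by
  classical
  have : Fintype (IrrCharacter C) := Fintype.ofFinite _
  have hp : p.Prime := Fact.out
  obtain ⟨ζ₀, e, hζ₀, he, hexp⟩ := ctx.exists_expansion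
  obtain ⟨x, hx⟩ := ctx.exists_int_coeff hζ hφ₁
  have := hexp ζ 1
  simp only [pow_one, one_mul] at this
  rw [this, qf_sum_left]
  apply IsIntegral.sum
  intro ψ _
  rw [qf_smul_left, hx]
  apply IsIntegral.mul _ (isIntegral_intCast _)
  apply IsIntegral.pow
  exact IsIntegral.of_pow (Nat.mul_pos ctx.hq hp.pos) (by rw [hζ₀.pow_eq_one]; exact isIntegral_one)

/-- The projection of a height zero character is a unit. -/
theorem MajorCtx.not_memLocalIdeal_qf_of_height_zero (ctx : MajorCtx p M C z b B q)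
    {φ₁ : C → ℂ} (hφ₁ : φ₁ ∈ lat p b) (h1 : qf p b φ₁ φ₁ = 1)
    {χ₀ : IrrCharacter G} (hχ₀ : χ₀ ∈ B) (h0 : blockHeight p B (χ₀ : G → ℂ) = 0) :
    ¬ MemLocalIdeal M (qf p b (secPart p C b z (χ₀ : G → ℂ)) φ₁) := by
  have hM := ctx.hM
  have hMp := isPModular_isPrime hM
  have hχc := isCharacter_of_irr χ₀.2
  have hχcf := isClassFunction_irr χ₀.2
  intro hJ
  have h2 := not_memLocalIdeal_pow_mul_contrib hM C ctx.hC ctx.hu ctx.hind hχ₀ hχ₀ h0 h0
  apply h2
  rw [ctx.pow_mul_contrib_eq_qf hχcf hχcf, qf_split b h1]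
  apply memLocalIdeal_add hMp
  · exact memLocalIdeal_mul_right hMp hJ (memLocalRing_of_isIntegral hMp.ne_top
      (isIntegral_conj (ctx.isIntegral_qf_secPart hχc hφ₁)))
  · exact ctx.memLocalIdeal_qf_orthPart hχc hχc hφ₁ h1

/-- The conjugate of the projection of a character of positive height lies in the local ideal. -/
theorem MajorCtx.memLocalIdeal_conj_qf_of_pos_height (ctx : MajorCtx p M C z b B q)
    {φ₁ : C → ℂ} (hφ₁ : φ₁ ∈ lat p b) (h1 : qf p b φ₁ φ₁ = 1)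
    {ζ : IrrCharacter G} (hζ : ζ ∈ B) (hpos : 0 < blockHeight p B (ζ : G → ℂ)) :
    MemLocalIdeal M (conj (qf p b (secPart p C b z (ζ : G → ℂ)) φ₁)) := by
  have hM := ctx.hM
  have hMp := isPModular_isPrime hM
  obtain ⟨χ₀, hχ₀, h0⟩ := exists_height_zero (p := p) hMp ctx.hB
  have hχc := isCharacter_of_irr χ₀.2
  have hχcf := isClassFunction_irr χ₀.2
  have hζc := isCharacter_of_irr ζ.2
  have hζcf := isClassFunction_irr ζ.2
  have h2 := memLocalIdeal_pow_mul_contrib_of_pos_height hM C ctx.hC ctx.hu ctx.hdef hχc hζ hpos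
  rw [ctx.pow_mul_contrib_eq_qf hχcf hζcf, qf_split b h1] at h2
  have h3 := ctx.memLocalIdeal_qf_orthPart hχc hζc hφ₁ h1
  have h4 := memLocalIdeal_sub hMp h2 h3
  rw [add_sub_cancel_right] at h4
  by_contra hn
  exact not_memLocalIdeal_mul hMp
    (memLocalRing_of_isIntegral hMp.ne_top (ctx.isIntegral_qf_secPart hχc hφ₁))
    (memLocalRing_of_isIntegral hMp.ne_top (isIntegral_conj (ctx.isIntegral_qf_secPart hζc hφ₁)))
    (ctx.not_memLocalIdeal_qf_of_height_zero hφ₁ h1 hχ₀ h0) hn h4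

/-- If a projection vanishes, the orthogonal parts do not. -/
theorem MajorCtx.orthPart_ne_zero (ctx : MajorCtx p M C z b B q)
    {φ₁ : C → ℂ} (h1 : qf p b φ₁ φ₁ = 1)
    {χ₀ : IrrCharacter G} (hχ₀ : χ₀ ∈ B) (h0 : blockHeight p B (χ₀ : G → ℂ) = 0)
    {ζ : IrrCharacter G} (hζ : ζ ∈ B) (ha : qf p b (secPart p C b z (ζ : G → ℂ)) φ₁ = 0) :
    orthPart p b φ₁ (secPart p C b z (χ₀ : G → ℂ)) ≠ 0 ∧
      orthPart p b φ₁ (secPart p C b z (ζ : G → ℂ)) ≠ 0 := by
  have hM := ctx.hM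
  have hp : p.Prime := Fact.out
  have h2 := contrib_ne_zero_of_height_zero hM C ctx.hC ctx.hu ctx.hind ctx.hdef hχ₀ h0 hζ
  have h3 : (p : ℂ) ^ (blockDefect p b) * contrib p C b z (χ₀ : G → ℂ) (ζ : G → ℂ) ≠ 0 :=
    mul_ne_zero (pow_ne_zero _ (Nat.cast_ne_zero.2 hp.ne_zero)) h2
  rw [ctx.pow_mul_contrib_eq_qf (isClassFunction_irr χ₀.2) (isClassFunction_irr ζ.2),
    qf_split b h1, ha, map_zero, mul_zero, zero_add] at h3
  constructor
  · intro h
    rw [h, qf_zero_left] at h3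
    exact h3 rfl
  · intro h
    rw [h, qf_zero_right] at h3
    exact h3 rfl

end

end Cfsg.Agent.Lib.Helper8.MJ
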