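import Mathlib
import Cfsg.Prelude.Def_Blocks
import Cfsg.Prelude.Def_BlockRank
import Cfsg.Agent.Lib.Helper8.MJ15

set_option autoImplicit false
set_option linter.unusedSectionVars false

/-!
# A major subsection: counting the characters through the minimum of the lattice
-/

namespace Cfsg.Agent.Lib.Helper8.MJ

open Cfsg
open scoped ComplexConjugate
open Cfsg.Agent.Lib.Helper1 Cfsg.Agent.Lib.Helper4 Cfsg.Agent.Lib.Helper8

universe u

theorem card_unitsRange_real (q p : ℕ) (hp : 0 < p) :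
    ((unitsRange q p).card : ℝ) = ((q * p : ℕ) : ℝ) - q := by
  have h := card_unitsRange q p hp
  have h2 : (((unitsRange q p).card : ℝ) : ℂ) = ((((q * p : ℕ) : ℝ) - q : ℝ) : ℂ) := by
    push_cast
    push_cast at h
    exact h
  exact_mod_cast h2

section

variable {G : Type u} [Group G] [Fintype G] {M : Ideal AlgInt} {p : ℕ} [Fact p.Prime]
  {C : Subgroup G} [Fintype C] {z : G} {b : Set (IrrCharacter C)} {B : Set (IrrCharacter G)}
  {q : ℕ}

theorem MajorCtx.phi_pos (ctx : MajorCtx p M C z b B q) : (0 : ℝ) < ((q * p : ℕ) : ℝ) - q := by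
  have hp : p.Prime := Fact.out
  have h1 : q < q * p := by
    have := ctx.hq
    have := hp.two_le
    nlinarith
  have : (q : ℝ) < ((q * p : ℕ) : ℝ) := by exact_mod_cast h1
  linarith

/-- Every character of the block has a nonzero section part. -/
theorem MajorCtx.secPart_ne_zero (ctx : MajorCtx p M C z b B q) {ζ : IrrCharacter G}
    (hζ : ζ ∈ B) : secPart p C b z (ζ : G → ℂ) ≠ 0 := by
  have hM := ctx.hM
  have hMp := isPModular_isPrime hM
  have hp : p.Prime := Fact.out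
  obtain ⟨χ₀, hχ₀, h0⟩ := exists_height_zero (p := p) hMp ctx.hB
  have h2 := contrib_ne_zero_of_height_zero hM C ctx.hC ctx.hu ctx.hind ctx.hdef hχ₀ h0 hζ
  have h3 : (p : ℂ) ^ (blockDefect p b) * contrib p C b z (χ₀ : G → ℂ) (ζ : G → ℂ) ≠ 0 :=
    mul_ne_zero (pow_ne_zero _ (Nat.cast_ne_zero.2 hp.ne_zero)) h2
  rw [ctx.pow_mul_contrib_eq_qf (isClassFunction_irr χ₀.2) (isClassFunction_irr ζ.2)] at h3
  intro h
  rw [h, qf_zero_right] at h3
  exact h3 rfl

/-- **Counting through the minimum**: `k(B) μ ≤ p ^ d l(b)`. -/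
theorem MajorCtx.card_mul_le (ctx : MajorCtx p M C z b B q) (μ : ℝ) (hμ : 0 ≤ μ)
    (hL : ∀ w ∈ lat p b, w ≠ 0 → μ ≤ nrm p b w) :
    (Nat.card B : ℝ) * μ ≤ (p : ℝ) ^ (blockDefect p b) * (blockRank p b : ℝ) := by
  classical
  have : Fintype (IrrCharacter G) := Fintype.ofFinite _
  have hp : p.Prime := Fact.out
  set S : Finset (IrrCharacter G) := Finset.univ.filter (fun ζ => ζ ∈ B) with hS
  have hcardB : Nat.card B = S.card := by
    rw [Nat.card_eq_fintype_card]
    exact Fintype.card_of_subtype S (fun x => by simp [hS])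
  set φ : ℝ := ((q * p : ℕ) : ℝ) - q with hφ
  have hφ0 : 0 < φ := ctx.phi_pos
  have h1 : ∀ ζ ∈ S, φ * μ ≤
      ∑ k ∈ unitsRange q p, nrm p b (secPart p C b (z ^ k) (ζ : G → ℂ)) := by
    intro ζ hζ
    have hζB : ζ ∈ B := (Finset.mem_filter.1 hζ).2
    exact ctx.sum_nrm_secPart_ge (isCharacter_of_irr ζ.2) μ hμ hL (ctx.secPart_ne_zero hζB)
  have h2 : (S.card : ℝ) * (φ * μ) ≤
      ∑ ζ ∈ S, ∑ k ∈ unitsRange q p, nrm p b (secPart p C b (z ^ k) (ζ : G → ℂ)) := by
    have := Finset.sum_le_sum h1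
    rw [Finset.sum_const, nsmul_eq_mul] at this
    exact this
  have h3 : ∑ ζ ∈ S, ∑ k ∈ unitsRange q p, nrm p b (secPart p C b (z ^ k) (ζ : G → ℂ)) ≤
      ∑ ζ : IrrCharacter G, ∑ k ∈ unitsRange q p,
        nrm p b (secPart p C b (z ^ k) (ζ : G → ℂ)) :=
    Finset.sum_le_sum_of_subset_of_nonneg (Finset.subset_univ S)
      (fun ζ _ _ => Finset.sum_nonneg fun k _ => nrm_nonneg b _)
  have h4 : ∑ ζ : IrrCharacter G, ∑ k ∈ unitsRange q p,
        nrm p b (secPart p C b (z ^ k) (ζ : G → ℂ)) =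
      φ * ((p : ℝ) ^ (blockDefect p b) * (blockRank p b : ℝ)) := by
    rw [Finset.sum_comm, Finset.sum_congr rfl (fun k hk => ctx.sum_nrm_secPart hk),
      Finset.sum_const, nsmul_eq_mul, card_unitsRange_real q p hp.pos]
  rw [hcardB]
  have h5 : φ * ((S.card : ℝ) * μ) ≤ φ * ((p : ℝ) ^ (blockDefect p b) * (blockRank p b : ℝ)) := by
    calc φ * ((S.card : ℝ) * μ) = (S.card : ℝ) * (φ * μ) := by ring
      _ ≤ _ := h2.trans (h3.trans h4.le)
  exact le_of_mul_le_mul_left h5 hφ0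

end

end Cfsg.Agent.Lib.Helper8.MJ
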