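import Mathlib
import Cfsg.Prelude.Def_Blocks
import Cfsg.Prelude.Def_BlockRank
import Cfsg.Agent.Lib.Helper8.MJ16

set_option autoImplicit false
set_option linter.unusedSectionVars false

/-!
# A major subsection of rank two whose lattice has a vector of norm one
-/

namespace Cfsg.Agent.Lib.Helper8.MJ

open Cfsg
open scoped ComplexConjugate
open Cfsg.Agent.Lib.Helper1 Cfsg.Agent.Lib.Helper4 Cfsg.Agent.Lib.Helper8

universe u

section

variable {G : Type u} [Group G] [Fintype G] {M : Ideal AlgInt} {p : ℕ} [Fact p.Prime]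
  {C : Subgroup G} [Fintype C] {z : G} {b : Set (IrrCharacter C)} {B : Set (IrrCharacter G)}
  {q : ℕ}

theorem nrm_eq_one_of_qf {H : Type u} [Group H] [Fintype H] {b : Set (IrrCharacter H)}
    {φ₁ : H → ℂ} (h1 : qf p b φ₁ φ₁ = 1) : nrm p b φ₁ = 1 := by
  rw [qf_self'] at h1
  exact_mod_cast h1

/-- the sum of the projections of `ζ` over the powers of `z` -/
noncomputable def xSum (p : ℕ) (C : Subgroup G) [Fintype C] (z : G) (b : Set (IrrCharacter C))
    (q : ℕ) (φ₁ : C → ℂ) (ζ : G → ℂ) : ℝ :=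
  ∑ k ∈ unitsRange q p, Complex.normSq (qf p b (secPart p C b (z ^ k) ζ) φ₁)

/-- the sum of the norms of the orthogonal parts of `ζ` over the powers of `z` -/
noncomputable def ySum (p : ℕ) (C : Subgroup G) [Fintype C] (z : G) (b : Set (IrrCharacter C))
    (q : ℕ) (φ₁ : C → ℂ) (ζ : G → ℂ) : ℝ :=
  ∑ k ∈ unitsRange q p, nrm p b (orthPart p b φ₁ (secPart p C b (z ^ k) ζ))

theorem xSum_nonneg (C : Subgroup G) [Fintype C] (z : G) (b : Set (IrrCharacter C))
    (q : ℕ) (φ₁ : C → ℂ) (ζ : G → ℂ) : 0 ≤ xSum p C z b q φ₁ ζ :=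
  Finset.sum_nonneg fun _ _ => Complex.normSq_nonneg _

theorem ySum_nonneg (C : Subgroup G) [Fintype C] (z : G) (b : Set (IrrCharacter C))
    (q : ℕ) (φ₁ : C → ℂ) (ζ : G → ℂ) : 0 ≤ ySum p C z b q φ₁ ζ :=
  Finset.sum_nonneg fun _ _ => nrm_nonneg b _

theorem MajorCtx.sum_xSum (ctx : MajorCtx p M C z b B q) [Fintype (IrrCharacter G)]
    {φ₁ : C → ℂ} (hφ₁ : φ₁ ∈ lat p b) (h1 : qf p b φ₁ φ₁ = 1) :
    ∑ ζ : IrrCharacter G, xSum p C z b q φ₁ (ζ : G → ℂ) =
      (((q * p : ℕ) : ℝ) - q) * (p : ℝ) ^ (blockDefect p b) := by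
  have hp : p.Prime := Fact.out
  unfold xSum
  rw [Finset.sum_comm, Finset.sum_congr rfl (fun k hk => ctx.sum_normSq_qf_secPart hk hφ₁),
    Finset.sum_const, nsmul_eq_mul, card_unitsRange_real q p hp.pos, nrm_eq_one_of_qf h1, mul_one]

theorem MajorCtx.sum_ySum (ctx : MajorCtx p M C z b B q) [Fintype (IrrCharacter G)]
    {φ₁ : C → ℂ} (hφ₁ : φ₁ ∈ lat p b) (h1 : qf p b φ₁ φ₁ = 1) (hl : blockRank p b = 2) :
    ∑ ζ : IrrCharacter G, ySum p C z b q φ₁ (ζ : G → ℂ) =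
      (((q * p : ℕ) : ℝ) - q) * (p : ℝ) ^ (blockDefect p b) := by
  have hp : p.Prime := Fact.out
  unfold ySum
  rw [Finset.sum_comm]
  have h2 : ∀ k ∈ unitsRange q p, ∑ ζ : IrrCharacter G,
      nrm p b (orthPart p b φ₁ (secPart p C b (z ^ k) (ζ : G → ℂ))) =
      (p : ℝ) ^ (blockDefect p b) := by
    intro k hk
    have h3 := ctx.sum_nrm_secPart hk
    have h4 := ctx.sum_normSq_qf_secPart hk hφ₁
    rw [nrm_eq_one_of_qf h1, mul_one] at h4
    rw [hl] at h3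
    have h5 : ∀ ζ : IrrCharacter G,
        nrm p b (orthPart p b φ₁ (secPart p C b (z ^ k) (ζ : G → ℂ))) =
        nrm p b (secPart p C b (z ^ k) (ζ : G → ℂ)) -
          Complex.normSq (qf p b (secPart p C b (z ^ k) (ζ : G → ℂ)) φ₁) := by
      intro ζ
      rw [nrm_split b h1 (secPart p C b (z ^ k) (ζ : G → ℂ))]
      ring
    rw [Finset.sum_congr rfl (fun ζ _ => h5 ζ), Finset.sum_sub_distrib, h3, h4]
    push_cast
    ring
  rw [Finset.sum_congr rfl h2, Finset.sum_const, nsmul_eq_mul, card_unitsRange_real q p hp.pos]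

end

end Cfsg.Agent.Lib.Helper8.MJ
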