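import Mathlib
import Cfsg.Prelude.Def_Blocks
import Cfsg.Prelude.Def_BlockRank
import Cfsg.Agent.Lib.Helper8.MJ17

set_option autoImplicit false
set_option linter.unusedSectionVars false

/-!
# A major subsection of rank two whose lattice has a vector of norm one: the count
-/

namespace Cfsg.Agent.Lib.Helper8.MJ

open Cfsg
open scoped ComplexConjugate
open Cfsg.Agent.Lib.Helper1 Cfsg.Agent.Lib.Helper4 Cfsg.Agent.Lib.Helper8

universe u

section

variable {G : Type u} [Group G] [Fintype G] {M : Ideal AlgInt} {p : ℕ} [Fact p.Prime]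
  {C : Subgroup G} [Fintype C] {z : G} {b : Set (IrrCharacter C)} {B : Set (IrrCharacter G)}
  {q : ℕ}

theorem MajorCtx.card_le_of_norm_one (ctx : MajorCtx p M C z b B q)
    {φ₁ : C → ℂ} (hφ₁ : φ₁ ∈ lat p b) (h1 : qf p b φ₁ φ₁ = 1) (hl : blockRank p b = 2) :
    Nat.card B ≤ p ^ blockDefect p b := by
  classical
  have : Fintype (IrrCharacter G) := Fintype.ofFinite _
  have hp : p.Prime := Fact.out
  have hM := ctx.hM
  have hMp := isPModular_isPrime hM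
  set S : Finset (IrrCharacter G) := Finset.univ.filter (fun ζ => ζ ∈ B) with hS
  have hcardB : Nat.card B = S.card := by
    rw [Nat.card_eq_fintype_card]
    exact Fintype.card_of_subtype S (fun x => by simp [hS])
  have hSB : ∀ ζ ∈ S, ζ ∈ B := fun ζ hζ => (Finset.mem_filter.1 hζ).2
  set φ : ℝ := ((q * p : ℕ) : ℝ) - q with hφ
  have hφ0 : 0 < φ := ctx.phi_pos
  set D : ℝ := (p : ℝ) ^ (blockDefect p b) with hD
  set K₀ := S.filter (fun ζ : IrrCharacter G => blockHeight p B (ζ : G → ℂ) = 0) with hK₀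
  set Kp := S.filter (fun ζ : IrrCharacter G => ¬ blockHeight p B (ζ : G → ℂ) = 0) with hKp
  set K₁ := Kp.filter (fun ζ : IrrCharacter G => qf p b (secPart p C b z (ζ : G → ℂ)) φ₁ ≠ 0) with hK₁
  set K₂ := Kp.filter (fun ζ : IrrCharacter G => ¬ qf p b (secPart p C b z (ζ : G → ℂ)) φ₁ ≠ 0) with hK₂
  have hsplit : S.card = K₀.card + (K₁.card + K₂.card) := by
    rw [hK₁, hK₂, Finset.card_filter_add_card_filter_not, hK₀, hKp,
      Finset.card_filter_add_card_filter_not]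
  have hz1 : z ^ 1 = z := pow_one z
  -- the bounds for the projections
  have hX0 : ∀ ζ ∈ K₀, φ ≤ xSum p C z b q φ₁ (ζ : G → ℂ) := by
    intro ζ hζ
    obtain ⟨hζS, h0⟩ := Finset.mem_filter.1 hζ
    have hne : qf p b (secPart p C b z (ζ : G → ℂ)) φ₁ ≠ 0 := by
      intro h
      apply ctx.not_memLocalIdeal_qf_of_height_zero hφ₁ h1 (hSB ζ hζS) h0
      rw [h]
      exact memLocalIdeal_zero hMp.ne_top
    exact ctx.sum_normSq_qf_ge (isCharacter_of_irr ζ.2) hφ₁ hne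
  have hX1 : ∀ ζ ∈ K₁, 2 * φ ≤ xSum p C z b q φ₁ (ζ : G → ℂ) := by
    intro ζ hζ
    obtain ⟨hζp, hne⟩ := Finset.mem_filter.1 hζ
    obtain ⟨hζS, hpos⟩ := Finset.mem_filter.1 hζp
    have hJ := ctx.memLocalIdeal_conj_qf_of_pos_height hφ₁ h1 (hSB ζ hζS)
      (Nat.pos_of_ne_zero hpos)
    exact ctx.sum_normSq_qf_ge_two (isCharacter_of_irr ζ.2) hφ₁ hne hJ
  have hdisj01 : Disjoint K₀ K₁ := by
    rw [Finset.disjoint_left]
    intro ζ h0 h1'
    exact (Finset.mem_filter.1 (Finset.mem_filter.1 h1').1).2 (Finset.mem_filter.1 h0).2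
  have hdisj02 : Disjoint K₀ K₂ := by
    rw [Finset.disjoint_left]
    intro ζ h0 h1'
    exact (Finset.mem_filter.1 (Finset.mem_filter.1 h1').1).2 (Finset.mem_filter.1 h0).2
  have hXtot : (K₀.card : ℝ) * φ + (K₁.card : ℝ) * (2 * φ) ≤ φ * D := by
    have h2 : (K₀.card : ℝ) * φ ≤ ∑ ζ ∈ K₀, xSum p C z b q φ₁ (ζ : G → ℂ) := by
      have := Finset.sum_le_sum hX0
      rwa [Finset.sum_const, nsmul_eq_mul] at this
    have h3 : (K₁.card : ℝ) * (2 * φ) ≤ ∑ ζ ∈ K₁, xSum p C z b q φ₁ (ζ : G → ℂ) := by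
      have := Finset.sum_le_sum hX1
      rwa [Finset.sum_const, nsmul_eq_mul] at this
    have h4 : ∑ ζ ∈ K₀ ∪ K₁, xSum p C z b q φ₁ (ζ : G → ℂ) ≤
        ∑ ζ : IrrCharacter G, xSum p C z b q φ₁ (ζ : G → ℂ) :=
      Finset.sum_le_sum_of_subset_of_nonneg (Finset.subset_univ _)
        (fun ζ _ _ => xSum_nonneg C z b q φ₁ _)
    rw [Finset.sum_union hdisj01, ctx.sum_xSum hφ₁ h1] at h4
    linarith
  have hX' : (K₀.card : ℝ) + 2 * (K₁.card : ℝ) ≤ D := by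
    have : φ * ((K₀.card : ℝ) + 2 * (K₁.card : ℝ)) ≤ φ * D := by
      calc φ * ((K₀.card : ℝ) + 2 * (K₁.card : ℝ)) =
          (K₀.card : ℝ) * φ + (K₁.card : ℝ) * (2 * φ) := by ring
        _ ≤ _ := hXtot
    exact le_of_mul_le_mul_left this hφ0
  -- the bounds for the orthogonal parts
  have hY : K₂.card = 0 ∨ (p : ℝ) * ((K₀.card : ℝ) + (K₂.card : ℝ)) ≤ D := by
    by_cases hK2 : K₂.card = 0
    · exact Or.inl hK2
    · right
      obtain ⟨ζ₂, hζ₂⟩ := Finset.card_pos.1 (Nat.pos_of_ne_zero hK2)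
      obtain ⟨hζ₂p, ha₂⟩ := Finset.mem_filter.1 hζ₂
      have hζ₂B : ζ₂ ∈ B := hSB ζ₂ (Finset.mem_filter.1 hζ₂p).1
      have ha₂' : qf p b (secPart p C b z (ζ₂ : G → ℂ)) φ₁ = 0 := not_not.1 ha₂
      obtain ⟨χ₁, hχ₁, h01⟩ := exists_height_zero (p := p) hMp ctx.hB
      have hY0 : ∀ ζ ∈ K₀, φ * p ≤ ySum p C z b q φ₁ (ζ : G → ℂ) := by
        intro ζ hζ
        obtain ⟨hζS, h0⟩ := Finset.mem_filter.1 hζ
        exact ctx.sum_nrm_orthPart_ge (isCharacter_of_irr ζ.2) hφ₁ h1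
          (ctx.orthPart_ne_zero h1 (hSB ζ hζS) h0 hζ₂B ha₂').1
      have hY2 : ∀ ζ ∈ K₂, φ * p ≤ ySum p C z b q φ₁ (ζ : G → ℂ) := by
        intro ζ hζ
        obtain ⟨hζp, ha⟩ := Finset.mem_filter.1 hζ
        have hζB : ζ ∈ B := hSB ζ (Finset.mem_filter.1 hζp).1
        exact ctx.sum_nrm_orthPart_ge (isCharacter_of_irr ζ.2) hφ₁ h1
          (ctx.orthPart_ne_zero h1 hχ₁ h01 hζB (not_not.1 ha)).2
      have h2 : (K₀.card : ℝ) * (φ * p) ≤ ∑ ζ ∈ K₀, ySum p C z b q φ₁ (ζ : G → ℂ) := by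
        have := Finset.sum_le_sum hY0
        rwa [Finset.sum_const, nsmul_eq_mul] at this
      have h3 : (K₂.card : ℝ) * (φ * p) ≤ ∑ ζ ∈ K₂, ySum p C z b q φ₁ (ζ : G → ℂ) := by
        have := Finset.sum_le_sum hY2
        rwa [Finset.sum_const, nsmul_eq_mul] at this
      have h4 : ∑ ζ ∈ K₀ ∪ K₂, ySum p C z b q φ₁ (ζ : G → ℂ) ≤
          ∑ ζ : IrrCharacter G, ySum p C z b q φ₁ (ζ : G → ℂ) :=
        Finset.sum_le_sum_of_subset_of_nonneg (Finset.subset_univ _)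
          (fun ζ _ _ => ySum_nonneg C z b q φ₁ _)
      rw [Finset.sum_union hdisj02, ctx.sum_ySum hφ₁ h1 hl] at h4
      have h5 : φ * ((p : ℝ) * ((K₀.card : ℝ) + (K₂.card : ℝ))) ≤ φ * D := by
        calc φ * ((p : ℝ) * ((K₀.card : ℝ) + (K₂.card : ℝ))) =
            (K₀.card : ℝ) * (φ * p) + (K₂.card : ℝ) * (φ * p) := by ring
          _ ≤ _ := by linarith
      exact le_of_mul_le_mul_left h5 hφ0
  -- the arithmetic
  have hfinal : (S.card : ℝ) ≤ D := by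
    have hs : (S.card : ℝ) = (K₀.card : ℝ) + ((K₁.card : ℝ) + (K₂.card : ℝ)) := by
      rw [hsplit]
      push_cast
      ring
    rw [hs]
    have hn0 : (0 : ℝ) ≤ (K₀.card : ℝ) := Nat.cast_nonneg _
    have hn1 : (0 : ℝ) ≤ (K₁.card : ℝ) := Nat.cast_nonneg _
    have hn2 : (0 : ℝ) ≤ (K₂.card : ℝ) := Nat.cast_nonneg _
    rcases hY with h0 | hY
    · rw [h0]
      push_cast
      linarith
    · have hp2 : (2 : ℝ) ≤ p := by exact_mod_cast hp.two_le
      nlinarith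
  rw [hcardB]
  have : ((S.card : ℕ) : ℝ) ≤ ((p ^ blockDefect p b : ℕ) : ℝ) := by
    push_cast
    exact hfinal
  exact_mod_cast this

end

end Cfsg.Agent.Lib.Helper8.MJ
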