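import Mathlib
import Cfsg.Prelude.Def_Blocks
import Cfsg.Prelude.Def_BlockRank
import Cfsg.Agent.Lib.Helper8.MJ18

set_option autoImplicit false
set_option linter.unusedSectionVars false

/-!
# A major subsection of rank at most two: `k(B) ≤ p ^ d`
-/

namespace Cfsg.Agent.Lib.Helper8.MJ

open Cfsg
open scoped ComplexConjugate
open Cfsg.Agent.Lib.Helper1 Cfsg.Agent.Lib.Helper4 Cfsg.Agent.Lib.Helper8

universe u

section

variable {G : Type u} [Group G] [Fintype G] {M : Ideal AlgInt} {p : ℕ} [Fact p.Prime]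
  {C : Subgroup G} [Fintype C] {z : G} {b : Set (IrrCharacter C)} {B : Set (IrrCharacter G)}
  {q : ℕ}

theorem MajorCtx.card_le (ctx : MajorCtx p M C z b B q) (hl : blockRank p b ≤ 2) :
    Nat.card B ≤ p ^ blockDefect p b := by
  have hp : p.Prime := Fact.out
  have hM := ctx.hM
  have hD0 : (0 : ℝ) < (p : ℝ) ^ (blockDefect p b) := by
    have hp0 : (0 : ℝ) < p := by exact_mod_cast hp.pos
    positivity
  have hcast : ∀ {n : ℕ}, (n : ℝ) ≤ (p : ℝ) ^ (blockDefect p b) → n ≤ p ^ blockDefect p b := by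
    intro n hn
    have : ((n : ℕ) : ℝ) ≤ ((p ^ blockDefect p b : ℕ) : ℝ) := by
      push_cast
      exact hn
    exact_mod_cast this
  by_cases hall : ∀ w ∈ lat p b, w ≠ 0 → (2 : ℝ) ≤ nrm p b w
  · have h1 := ctx.card_mul_le 2 (by norm_num) hall
    apply hcast
    have hl' : (blockRank p b : ℝ) ≤ 2 := by exact_mod_cast hl
    nlinarith
  · push Not at hall
    obtain ⟨φ₁, hφ₁, hne, hlt⟩ := hall
    obtain ⟨n, hn1, hn⟩ := lat_self_pos hM hφ₁ hne
    have hn' : nrm p b φ₁ = (n : ℝ) := by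
      rw [qf_self'] at hn
      exact_mod_cast hn
    have hn2 : n = 1 := by
      rw [hn'] at hlt
      have : n < 2 := by exact_mod_cast hlt
      omega
    have h1 : qf p b φ₁ φ₁ = 1 := by
      rw [hn, hn2]
      simp
    rcases Nat.lt_or_ge (blockRank p b) 2 with hl1 | hl2
    · have h2 := ctx.card_mul_le 1 zero_le_one (fun w hw hw0 => lat_nrm_ge_one hM hw hw0)
      apply hcast
      have hl' : (blockRank p b : ℝ) ≤ 1 := by
        have : blockRank p b ≤ 1 := by omega
        exact_mod_cast this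
      nlinarith
    · exact ctx.card_le_of_norm_one hφ₁ h1 (le_antisymm hl hl2)

end

end Cfsg.Agent.Lib.Helper8.MJ
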