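import Mathlib
import Cfsg.Prelude.Def_Solvable

/-!
# Glauberman's theorem on automorphisms centralizing a Sylow 2-subgroup — definitions

Ambient relative form: `Γ` a finite group, `K` a (normal) subgroup, `S` a Sylow 2-subgroup of `K`
(maximal 2-subgroup form), `Q` a 2-subgroup and `x` an element of odd order normalizing `Q`, both centralizing `S`.
Conclusion: the commutators `⁅q, x⁆` act trivially on `K / O(K)`.
-/

set_option autoImplicit false
open scoped commutatorElement

namespace Cfsg.Agent.Lib.Helper8.GlAut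

universe u

variable {Γ : Type u} [Group Γ]

/-- `O(K)` as a subgroup of the ambient group. -/
def oc (K : Subgroup Γ) : Subgroup Γ := (Cfsg.pPrimeCore 2 ↥K).map K.subtype

/-- `S` is a Sylow 2-subgroup of `K` (maximal 2-subgroup form). -/
def SylMax (S K : Subgroup Γ) : Prop :=
  S ≤ K ∧ IsPGroup 2 ↥S ∧ ∀ P : Subgroup Γ, IsPGroup 2 ↥P → S ≤ P → P ≤ K → P = S

/-- The hypotheses of Theorem G. -/
structure Hyp (K S Q : Subgroup Γ) (x : Γ) : Prop where
  syl : SylMax S K
  hQ2 : IsPGroup 2 ↥Q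
  hQS : Q ≤ Subgroup.centralizer (S : Set Γ)
  hx : Odd (orderOf x)
  hxS : x ∈ Subgroup.centralizer (S : Set Γ)
  hxQ : x ∈ Subgroup.normalizer (Q : Set Γ)

/-- The conclusion of Theorem G. -/
def Concl (K Q : Subgroup Γ) (x : Γ) : Prop :=
  ∀ q ∈ Q, ∀ k ∈ K, ⁅⁅q, x⁆, k⁆ ∈ oc K

/-- Theorem G for all normal `K` of order `< n` (all ambient groups of the universe `u`). -/
def IH (n : ℕ) : Prop :=
  ∀ (Γ : Type u) [Group Γ] [Finite Γ] (K : Subgroup Γ) [K.Normal] (S Q : Subgroup Γ) (x : Γ),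
    Nat.card ↥K < n → Hyp K S Q x → Concl K Q x

end Cfsg.Agent.Lib.Helper8.GlAut
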