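import Mathlib
import Cfsg.Agent.Lib.Helper8.GlAutDefs
import Cfsg.Agent.Lib.Helper6.PPrimeCore
import Cfsg.Agent.Lib.Helper6.SylowIdx

/-!
# Theorem G (Glauberman's automorphism theorem): basic API for `oc`, `SylMax`, `Hyp`
-/

set_option autoImplicit false
open scoped commutatorElement

namespace Cfsg.Agent.Lib.Helper8.GlAut

universe u

variable {Γ : Type u} [Group Γ]

theorem oc_le (K : Subgroup Γ) : oc K ≤ K := by
  unfold oc
  exact Subgroup.map_subtype_le _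

theorem card_oc (K : Subgroup Γ) : Nat.card ↥(oc K) = Nat.card ↥(Cfsg.pPrimeCore 2 ↥K) := by
  unfold oc
  exact Subgroup.card_map_of_injective K.subtype_injective

theorem odd_of_coprime_two {n : ℕ} (h : n.Coprime 2) : Odd n := by
  rcases Nat.even_or_odd n with he | ho
  · exfalso
    have h2 : 2 ∣ n := he.two_dvd
    have : 2 ∣ Nat.gcd n 2 := Nat.dvd_gcd h2 dvd_rfl
    rw [h] at this
    omega
  · exact ho

theorem coprime_two_of_odd {n : ℕ} (h : Odd n) : n.Coprime 2 := by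
  exact Nat.coprime_two_right.mpr h

theorem odd_card_oc [Finite Γ] (K : Subgroup Γ) : Odd (Nat.card ↥(oc K)) := by
  rw [card_oc]
  exact odd_of_coprime_two (Cfsg.Agent.Lib.Helper6.pPrimeCore_coprime 2)

theorem le_oc [Finite Γ] {K N : Subgroup Γ} (hNK : N ≤ K)
    (hn : K ≤ Subgroup.normalizer (N : Set Γ)) (hodd : Odd (Nat.card ↥N)) : N ≤ oc K := by
  have hnorm : (N.subgroupOf K).Normal := by
    constructor
    intro a ha g
    rw [Subgroup.mem_subgroupOf] at ha ⊢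
    have hg := hn g.2
    rw [Subgroup.mem_normalizer_iff] at hg
    have := (hg (a : Γ)).1 ha
    simpa using this
  have hcard : Nat.card ↥(N.subgroupOf K) = Nat.card ↥N :=
    Nat.card_congr (Subgroup.subgroupOfEquivOfLe hNK).toEquiv
  have hle : N.subgroupOf K ≤ Cfsg.pPrimeCore 2 ↥K :=
    Cfsg.Agent.Lib.Helper6.le_pPrimeCore hnorm (by rw [hcard]; exact coprime_two_of_odd hodd)
  intro a ha
  unfold oc
  exact ⟨⟨a, hNK ha⟩, hle (by rw [Subgroup.mem_subgroupOf]; exact ha), rfl⟩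

theorem oc_normal_in (K : Subgroup Γ) [Finite Γ] {k a : Γ} (hk : k ∈ K) (ha : a ∈ oc K) :
    k * a * k⁻¹ ∈ oc K := by
  unfold oc at ha ⊢
  obtain ⟨a', ha', rfl⟩ := ha
  have hn : (Cfsg.pPrimeCore 2 ↥K).Normal := (Cfsg.Agent.Lib.Helper6.pPrimeCore_mem_set 2).1
  exact ⟨⟨k, hk⟩ * a' * ⟨k, hk⟩⁻¹, hn.conj_mem a' ha' ⟨k, hk⟩, by simp⟩

theorem oc_conj_mem [Finite Γ] {K : Subgroup Γ} {g : Γ} (hg : g ∈ Subgroup.normalizer (K : Set Γ))
    {a : Γ} (ha : a ∈ oc K) : g * a * g⁻¹ ∈ oc K := by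
  set N' : Subgroup Γ := (oc K).map (MulAut.conj g).toMonoidHom with hN'
  have hmem : ∀ b : Γ, b ∈ N' ↔ g⁻¹ * b * g ∈ oc K := by
    intro b
    rw [hN', Subgroup.mem_map]
    constructor
    · rintro ⟨c, hc, rfl⟩
      have : g⁻¹ * ((MulAut.conj g).toMonoidHom c) * g = c := by
        simp [MulAut.conj_apply]; group
      rw [this]; exact hc
    · intro hb
      refine ⟨g⁻¹ * b * g, hb, ?_⟩
      simp [MulAut.conj_apply]; group
  have hgK : ∀ b : Γ, b ∈ K ↔ g * b * g⁻¹ ∈ K := fun b => (Subgroup.mem_normalizer_iff.mp hg) b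
  have hgK' : ∀ b : Γ, b ∈ K → g⁻¹ * b * g ∈ K := by
    intro b hb
    rw [hgK]
    have : g * (g⁻¹ * b * g) * g⁻¹ = b := by group
    rw [this]; exact hb
  have hN'K : N' ≤ K := by
    intro b hb
    have h1 := oc_le K ((hmem b).1 hb)
    have h2 := (hgK _).1 h1
    have : g * (g⁻¹ * b * g) * g⁻¹ = b := by group
    rwa [this] at h2
  have hKn : K ≤ Subgroup.normalizer (N' : Set Γ) := by
    intro k hk
    rw [Subgroup.mem_normalizer_iff]
    intro b
    rw [hmem, hmem]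
    have hk' : g⁻¹ * k * g ∈ K := hgK' k hk
    have e : g⁻¹ * (k * b * k⁻¹) * g = (g⁻¹ * k * g) * (g⁻¹ * b * g) * (g⁻¹ * k * g)⁻¹ := by group
    rw [e]
    constructor
    · intro h; exact oc_normal_in K hk' h
    · intro h
      have := oc_normal_in K (K.inv_mem hk') h
      have e2 : (g⁻¹ * k * g)⁻¹ * ((g⁻¹ * k * g) * (g⁻¹ * b * g) * (g⁻¹ * k * g)⁻¹) * (g⁻¹ * k * g)⁻¹⁻¹
          = g⁻¹ * b * g := by group
      rwa [e2] at this
  have hcard : Nat.card ↥N' = Nat.card ↥(oc K) := by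
    rw [hN']
    exact Subgroup.card_map_of_injective (MulAut.conj g).injective
  have hle : N' ≤ oc K := le_oc hN'K hKn (by rw [hcard]; exact odd_card_oc K)
  apply hle
  rw [hmem]
  have : g⁻¹ * (g * a * g⁻¹) * g = a := by group
  rw [this]; exact ha

instance oc_normal [Finite Γ] (K : Subgroup Γ) [hK : K.Normal] : (oc K).Normal := by
  constructor
  intro a ha g
  apply oc_conj_mem _ ha
  rw [Subgroup.normalizer_eq_top]
  exact Subgroup.mem_top g

theorem le_normalizer_oc [Finite Γ] (K : Subgroup Γ) :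
    Subgroup.normalizer (K : Set Γ) ≤ Subgroup.normalizer ((oc K : Subgroup Γ) : Set Γ) := by
  intro g hg
  rw [Subgroup.mem_normalizer_iff]
  intro a
  constructor
  · intro ha; exact oc_conj_mem hg ha
  · intro ha
    have := oc_conj_mem (Subgroup.inv_mem _ hg) ha
    have e : g⁻¹ * (g * a * g⁻¹) * g⁻¹⁻¹ = a := by group
    rwa [e] at this

theorem oc_le_oc [Finite Γ] {N K : Subgroup Γ} (hNK : N ≤ K)
    (hn : K ≤ Subgroup.normalizer (N : Set Γ)) : oc N ≤ oc K :=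
  le_oc ((oc_le N).trans hNK) (hn.trans (le_normalizer_oc N)) (odd_card_oc N)

/-- a 2-element of `O(K)` is trivial -/
theorem eq_one_of_mem_oc [Finite Γ] {K P : Subgroup Γ} (hP : IsPGroup 2 ↥P) {a : Γ}
    (ha : a ∈ oc K) (haP : a ∈ P) : a = 1 := by
  have : Fact (Nat.Prime 2) := ⟨Nat.prime_two⟩
  apply Cfsg.Agent.Lib.Helper6.eq_one_of_pElement_of_coprime_card (p := 2) (K := oc K)
    (coprime_two_of_odd (odd_card_oc K)) ha
  obtain ⟨k, hk⟩ := hP ⟨a, haP⟩
  have h1 : a ^ 2 ^ k = 1 := by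
    have := congrArg Subtype.val hk
    simpa using this
  have h2 : orderOf a ∣ 2 ^ k := orderOf_dvd_of_pow_eq_one h1
  obtain ⟨j, _, hj⟩ := (Nat.dvd_prime_pow Nat.prime_two).1 h2
  exact ⟨j, hj⟩

/-! ### `SylMax` -/

instance fact_two : Fact (Nat.Prime 2) := ⟨Nat.prime_two⟩

theorem SylMax.le {S K : Subgroup Γ} (h : SylMax S K) : S ≤ K := h.1

theorem SylMax.isPGroup {S K : Subgroup Γ} (h : SylMax S K) : IsPGroup 2 ↥S := h.2.1

theorem isPGroup_subgroupOf {P K : Subgroup Γ} (hP : IsPGroup 2 ↥P) : IsPGroup 2 ↥(P.subgroupOf K) :=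
  hP.comap_subtype

theorem isPGroup_map_subtype {K : Subgroup Γ} {P : Subgroup ↥K} (hP : IsPGroup 2 ↥P) :
    IsPGroup 2 ↥(P.map K.subtype) := hP.map _

theorem SylMax.exists_sylow [Finite Γ] {S K : Subgroup Γ} (h : SylMax S K) :
    ∃ P : Sylow 2 ↥K, (P : Subgroup ↥K).map K.subtype = S := by
  obtain ⟨P, hP⟩ := (isPGroup_subgroupOf (K := K) h.2.1).exists_le_sylow
  refine ⟨P, ?_⟩
  apply h.2.2 _ (isPGroup_map_subtype P.2) _ (Subgroup.map_subtype_le _)
  intro s hs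
  exact ⟨⟨s, h.1 hs⟩, hP (by rw [Subgroup.mem_subgroupOf]; exact hs), rfl⟩

theorem SylMax.of_sylow {K : Subgroup Γ} (P : Sylow 2 ↥K) :
    SylMax ((P : Subgroup ↥K).map K.subtype) K := by
  refine ⟨Subgroup.map_subtype_le _, isPGroup_map_subtype P.2, ?_⟩
  intro P' hP' hle hP'K
  have h1 : (P : Subgroup ↥K) ≤ P'.subgroupOf K := by
    intro a ha
    rw [Subgroup.mem_subgroupOf]
    exact hle ⟨a, ha, rfl⟩
  have h2 : P'.subgroupOf K = (P : Subgroup ↥K) := P.3 (isPGroup_subgroupOf hP') h1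
  rw [← h2, Subgroup.map_subgroupOf_eq_of_le hP'K]

theorem SylMax.not_dvd_relIndex [Finite Γ] {S K : Subgroup Γ} (h : SylMax S K) :
    ¬ 2 ∣ S.relIndex K := by
  obtain ⟨P, hP⟩ := h.exists_sylow
  have h1 : S.subgroupOf K = (P : Subgroup ↥K) := by
    rw [← hP]
    ext a
    rw [Subgroup.mem_subgroupOf, Subgroup.mem_map]
    constructor
    · rintro ⟨b, hb, hab⟩
      have : b = a := Subtype.ext hab
      rwa [← this]
    · intro ha; exact ⟨a, ha, rfl⟩
  rw [Subgroup.relIndex, h1]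
  exact P.not_dvd_index

theorem SylMax.odd_relIndex [Finite Γ] {S K : Subgroup Γ} (h : SylMax S K) : Odd (S.relIndex K) := by
  rcases Nat.even_or_odd (S.relIndex K) with he | ho
  · exact absurd he.two_dvd h.not_dvd_relIndex
  · exact ho

/-- a 2-subgroup of `K` of odd index is a Sylow 2-subgroup -/
theorem SylMax.of_odd_relIndex [Finite Γ] {S K : Subgroup Γ} (hSK : S ≤ K) (hS : IsPGroup 2 ↥S)
    (h : Odd (S.relIndex K)) : SylMax S K := by
  refine ⟨hSK, hS, ?_⟩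
  intro P hP hSP hPK
  exact Cfsg.Agent.Lib.Helper6.eq_of_not_dvd_relIndex (p := 2) hSP hPK hP
    (fun hd => by
      have := h
      rw [← Nat.not_even_iff_odd] at this
      exact this (even_iff_two_dvd.mpr hd))

/-- Sylow's theorem: every 2-subgroup of `K` is `K`-conjugate into `S` -/
theorem SylMax.exists_conj_le [Finite Γ] {S K R : Subgroup Γ} (h : SylMax S K) (hR : IsPGroup 2 ↥R)
    (hRK : R ≤ K) : ∃ k ∈ K, ∀ r ∈ R, k * r * k⁻¹ ∈ S := by
  obtain ⟨c, hcK, R₀, hR₀K, hR₀, hSR₀, hRR₀⟩ :=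
    Cfsg.Agent.Lib.Helper6.exists_common_pGroup (p := 2) K S R h.1 hRK h.2.1 hR
  have hEq : R₀ = S := h.2.2 R₀ hR₀ hSR₀ hR₀K
  refine ⟨c, hcK, ?_⟩
  intro r hr
  rw [← hEq]
  apply hRR₀
  exact ⟨r, hr, by simp [MulAut.conj_apply]⟩

theorem SylMax.inf_normal [Finite Γ] {S K N : Subgroup Γ} (h : SylMax S K) (hNK : N ≤ K)
    (hn : K ≤ Subgroup.normalizer (N : Set Γ)) : SylMax (S ⊓ N) N := by
  refine ⟨inf_le_right, h.2.1.to_le inf_le_left, ?_⟩
  intro P hP hle hPN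
  obtain ⟨k, hk, hkP⟩ := h.exists_conj_le hP (hPN.trans hNK)
  -- conjugation by `k` maps `P` into `S ⊓ N`
  have hkN := hn hk
  rw [Subgroup.mem_normalizer_iff] at hkN
  have hmap : P.map (MulAut.conj k).toMonoidHom ≤ S ⊓ N := by
    rintro _ ⟨r, hr, rfl⟩
    refine ⟨?_, ?_⟩
    · simpa [MulAut.conj_apply] using hkP r hr
    · simpa [MulAut.conj_apply] using (hkN r).1 (hPN hr)
  have hcard : Nat.card ↥(P.map (MulAut.conj k).toMonoidHom) = Nat.card ↥P :=
    Subgroup.card_map_of_injective (MulAut.conj k).injective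
  have h1 : Nat.card ↥P ≤ Nat.card ↥(S ⊓ N : Subgroup Γ) := by
    rw [← hcard]
    exact Subgroup.card_le_of_le hmap
  have h2 : Nat.card ↥(S ⊓ N : Subgroup Γ) ≤ Nat.card ↥P := Subgroup.card_le_of_le hle
  have h3 : Nat.card ↥(S ⊓ N : Subgroup Γ) = Nat.card ↥P := le_antisymm h2 h1
  symm
  exact Subgroup.eq_of_le_of_card_ge hle (le_of_eq h3.symm)

theorem SylMax.map [Finite Γ] {Γ' : Type u} [Group Γ'] (φ : Γ →* Γ') {S K : Subgroup Γ}
    (h : SylMax S K) : SylMax (S.map φ) (K.map φ) := by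
  obtain ⟨P, hP⟩ := h.exists_sylow
  have hsurj : Function.Surjective (φ.subgroupMap K) := φ.subgroupMap_surjective K
  have key := SylMax.of_sylow (P.mapSurjective hsurj)
  have e : ((P.mapSurjective hsurj : Sylow 2 ↥(K.map φ)) : Subgroup ↥(K.map φ)).map (K.map φ).subtype
      = S.map φ := by
    rw [Sylow.coe_mapSurjective, Subgroup.map_map, ← hP, Subgroup.map_map]
    congr 1
  rwa [e] at key

/-- every 2-subgroup of `K` centralizing the Sylow 2-subgroup `S` lies in `S` -/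
theorem SylMax.le_of_centralizes [Finite Γ] {S K P : Subgroup Γ} (h : SylMax S K) (hP : IsPGroup 2 ↥P)
    (hPK : P ≤ K) (hPS : P ≤ Subgroup.centralizer (S : Set Γ)) : P ≤ S := by
  have hPn : P ≤ Subgroup.normalizer (S : Set Γ) := by
    intro p hp
    rw [Subgroup.mem_normalizer_iff]
    intro s
    have hc := hPS hp
    rw [Subgroup.mem_centralizer_iff] at hc
    constructor
    · intro hs
      have : p * s * p⁻¹ = s := by rw [← hc s hs]; group
      rw [this]; exact hs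
    · intro hs
      have h1 := hc _ hs
      have : s = p * s * p⁻¹ := by
        have e : p * s = p * s * p⁻¹ * p := by group
        have e2 : p * (p * s * p⁻¹) = p * s := by rw [← h1]; group
        calc s = p⁻¹ * (p * s) := by group
          _ = p⁻¹ * (p * (p * s * p⁻¹)) := by rw [e2]
          _ = p * s * p⁻¹ := by group
      rw [this]; exact hs
  have h2 : IsPGroup 2 ↥(P ⊔ S : Subgroup Γ) := IsPGroup.to_sup_of_normal_right' hP h.2.1 hPn
  have h3 : P ⊔ S = S := h.2.2 _ h2 le_sup_right (sup_le hPK h.1)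
  rw [← h3]; exact le_sup_left

theorem SylMax.ne_bot [Finite Γ] {S K : Subgroup Γ} (h : SylMax S K) (h1 : oc K = ⊥) (hK : K ≠ ⊥) :
    S ≠ ⊥ := by
  intro hS
  apply hK
  have hodd := h.odd_relIndex
  rw [hS, Subgroup.relIndex_bot_left] at hodd
  have : K ≤ oc K := le_oc le_rfl Subgroup.le_normalizer hodd
  rw [h1] at this
  exact le_bot_iff.mp this

theorem Hyp.map [Finite Γ] {Γ' : Type u} [Group Γ'] (φ : Γ →* Γ') {K S Q : Subgroup Γ} {x : Γ}
    (hyp : Hyp K S Q x) : Hyp (K.map φ) (S.map φ) (Q.map φ) (φ x) := by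
  refine ⟨hyp.syl.map φ, hyp.hQ2.map φ, ?_, ?_, ?_, ?_⟩
  · rintro _ ⟨q, hq, rfl⟩
    rw [Subgroup.mem_centralizer_iff]
    rintro _ ⟨s, hs, rfl⟩
    have := hyp.hQS hq
    rw [Subgroup.mem_centralizer_iff] at this
    rw [← map_mul, ← map_mul, this s hs]
  · exact Odd.of_dvd_nat hyp.hx (orderOf_map_dvd φ x)
  · rw [Subgroup.mem_centralizer_iff]
    rintro _ ⟨s, hs, rfl⟩
    have := hyp.hxS
    rw [Subgroup.mem_centralizer_iff] at this
    rw [← map_mul, ← map_mul, this s hs]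
  · have hx := hyp.hxQ
    rw [Subgroup.mem_normalizer_iff] at hx
    rw [Subgroup.mem_normalizer_iff]
    intro b
    constructor
    · rintro ⟨q, hq, rfl⟩
      exact ⟨x * q * x⁻¹, (hx q).1 hq, by simp⟩
    · rintro ⟨q, hq, hqe⟩
      refine ⟨x⁻¹ * q * x, ?_, ?_⟩
      · refine (hx (x⁻¹ * q * x)).2 ?_
        have : x * (x⁻¹ * q * x) * x⁻¹ = q := by group
        rw [this]; exact hq
      · rw [map_mul, map_mul, hqe, map_inv]; group

/-- the elements acting trivially on `K / O(K)` form a subgroup (of the normalizer of `K`) -/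
theorem concl_closure [Finite Γ] {K Q : Subgroup Γ} {x : Γ} (hQK : Q ≤ Subgroup.normalizer (K : Set Γ))
    (hxK : x ∈ Subgroup.normalizer (K : Set Γ)) (_hxQ : x ∈ Subgroup.normalizer (Q : Set Γ))
    (h : Concl K Q x) :
    ∀ c ∈ Subgroup.closure {c : Γ | ∃ q ∈ Q, c = ⁅q, x⁆}, ∀ k ∈ K, ⁅c, k⁆ ∈ oc K := by
  have key : ∀ c ∈ Subgroup.closure {c : Γ | ∃ q ∈ Q, c = ⁅q, x⁆},
      c ∈ Subgroup.normalizer (K : Set Γ) ∧ ∀ k ∈ K, ⁅c, k⁆ ∈ oc K := by
    intro c hc
    induction hc using Subgroup.closure_induction with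
    | mem c hc =>
      obtain ⟨q, hq, rfl⟩ := hc
      refine ⟨?_, h q hq⟩
      rw [commutatorElement_def]
      exact mul_mem (mul_mem (mul_mem (hQK hq) hxK) (inv_mem (hQK hq))) (inv_mem hxK)
    | one =>
      refine ⟨one_mem _, ?_⟩
      intro k _
      rw [commutatorElement_def]
      simp
    | mul a b _ _ iha ihb =>
      refine ⟨mul_mem iha.1 ihb.1, ?_⟩
      intro k hk
      have e : ⁅a * b, k⁆ = a * ⁅b, k⁆ * a⁻¹ * ⁅a, k⁆ := by
        simp only [commutatorElement_def]; group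
      rw [e]
      exact mul_mem (oc_conj_mem iha.1 (ihb.2 k hk)) (iha.2 k hk)
    | inv a _ iha =>
      refine ⟨inv_mem iha.1, ?_⟩
      intro k hk
      have e : ⁅a⁻¹, k⁆ = a⁻¹ * (⁅a, k⁆)⁻¹ * a⁻¹⁻¹ := by
        simp only [commutatorElement_def]; group
      rw [e]
      exact oc_conj_mem (inv_mem iha.1) (inv_mem (iha.2 k hk))
  intro c hc
  exact (key c hc).2

/-- group lemma behind `comm_mem_of_comm_comm_mem` -/
theorem comm_eq_one_of_commute {G : Type*} [Group G] {q x : G} (h : ⁅⁅q, x⁆, x⁆ = 1) {n j : ℕ}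
    (hn : x ^ n = 1) (hodd : Odd n) (hc : ⁅q, x⁆ ^ (2 ^ j) = 1) : ⁅q, x⁆ = 1 := by
  set c := ⁅q, x⁆ with hcdef
  have hcx : c * x = x * c := by
    have : c * x * c⁻¹ * x⁻¹ = 1 := by rw [← commutatorElement_def]; exact h
    calc c * x = (c * x * c⁻¹ * x⁻¹) * x * c := by group
      _ = x * c := by rw [this]; group
  have hq : x * q⁻¹ * x⁻¹ = q⁻¹ * c := by
    rw [hcdef, commutatorElement_def]; group
  have hpow : ∀ i : ℕ, x ^ i * q⁻¹ * (x ^ i)⁻¹ = q⁻¹ * c ^ i := by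
    intro i
    induction i with
    | zero => simp
    | succ i ih =>
      have hxc : x * c ^ i * x⁻¹ = c ^ i := by
        have : Commute x (c ^ i) := (Commute.pow_right (show Commute x c from hcx.symm) i)
        rw [this.eq]; group
      calc x ^ (i + 1) * q⁻¹ * (x ^ (i + 1))⁻¹
          = x * (x ^ i * q⁻¹ * (x ^ i)⁻¹) * x⁻¹ := by rw [pow_succ']; group
        _ = x * (q⁻¹ * c ^ i) * x⁻¹ := by rw [ih]
        _ = (x * q⁻¹ * x⁻¹) * (x * c ^ i * x⁻¹) := by group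
        _ = q⁻¹ * c * c ^ i := by rw [hq, hxc]
        _ = q⁻¹ * c ^ (i + 1) := by rw [pow_succ']; group
  have hcn : c ^ n = 1 := by
    have := hpow n
    rw [hn] at this
    simp at this
    exact this.symm ▸ rfl
  have hcop : Nat.Coprime n (2 ^ j) := by
    apply Nat.Coprime.pow_right
    exact coprime_two_of_odd hodd
  have h1 : orderOf c ∣ n := orderOf_dvd_of_pow_eq_one hcn
  have h2 : orderOf c ∣ 2 ^ j := orderOf_dvd_of_pow_eq_one hc
  have h3 : orderOf c ∣ 1 := by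
    have := Nat.dvd_gcd h1 h2
    rwa [hcop] at this
  exact orderOf_eq_one_iff.mp (Nat.dvd_one.mp h3)

/-- trivial lemma: a 2-element commutator `⁅q, x⁆` commuting with the odd-order element `x` (mod `C`) is
trivial (mod `C`) -/
theorem comm_mem_of_comm_comm_mem (C : Subgroup Γ) [C.Normal] {q x : Γ} (h : ⁅⁅q, x⁆, x⁆ ∈ C)
    (hx : Odd (orderOf x)) {j : ℕ} (hc : ⁅q, x⁆ ^ (2 ^ j) ∈ C) : ⁅q, x⁆ ∈ C := by
  rw [← QuotientGroup.eq_one_iff] at h hc ⊢
  have h' : ⁅⁅(q : Γ ⧸ C), (x : Γ ⧸ C)⁆, (x : Γ ⧸ C)⁆ = 1 := by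
    rw [← h]
    simp only [commutatorElement_def, QuotientGroup.mk_mul, QuotientGroup.mk_inv]
  have hc' : ⁅(q : Γ ⧸ C), (x : Γ ⧸ C)⁆ ^ (2 ^ j) = 1 := by
    rw [← hc]
    simp only [commutatorElement_def, QuotientGroup.mk_mul, QuotientGroup.mk_inv, QuotientGroup.mk_pow]
  have hn : (x : Γ ⧸ C) ^ orderOf x = 1 := by
    rw [← QuotientGroup.mk_pow, pow_orderOf_eq_one]; rfl
  have := comm_eq_one_of_commute h' hn hx hc'
  rw [← this]
  simp only [commutatorElement_def, QuotientGroup.mk_mul, QuotientGroup.mk_inv]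

end Cfsg.Agent.Lib.Helper8.GlAut
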