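import Mathlib
import Cfsg.Agent.S0215
import Cfsg.Agent.Lib.Helper1.Conj

set_option autoImplicit false

namespace Cfsg.Agent.Lib.Helper8.GZ

universe u

/-- Glauberman's `Z*` theorem when the odd core is trivial: an isolated involution is central. -/
theorem mem_center_of_isolated {H : Type*} [Group H] [Finite H]
    (hO : ∀ K : Subgroup H, K.Normal → Odd (Nat.card K) → K = ⊥)
    (S : Sylow 2 H) (z : H) (hz : orderOf z = 2) (hzS : z ∈ S)
    (hiso : ∀ g : H, g * z * g⁻¹ ∈ S → g * z * g⁻¹ = z) : z ∈ Subgroup.center H := by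
  obtain ⟨N, hN, hodd, hc⟩ := Cfsg.Agent.S0215.result S z hz hzS hiso
  have hNb := hO N hN hodd
  rw [Subgroup.mem_center_iff]
  intro g
  have h1 := hc g
  rw [hNb, Subgroup.mem_bot] at h1
  have h2 : z * g = g * z := by
    have : z * g * z⁻¹ * g⁻¹ * g * z = g * z := by rw [h1]; group
    rw [← this]; group
  exact h2.symm

/-- elements of `zpowers y` for `y ^ 2 = 1` -/
theorem mem_zpowers_of_sq {H : Type*} [Group H] {y w : H} (hy : y ^ 2 = 1)
    (hw : w ∈ Subgroup.zpowers y) : w = 1 ∨ w = y := by
  obtain ⟨i, rfl⟩ := Subgroup.mem_zpowers_iff.mp hw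
  rcases Int.even_or_odd' i with ⟨k, hk | hk⟩
  · left
    rw [hk, zpow_mul, zpow_ofNat, hy, one_zpow]
  · right
    rw [hk, zpow_add, zpow_mul, zpow_ofNat, hy, one_zpow, one_mul, zpow_one]

theorem exists_normal_compl {H : Type*} [Group H] [Finite H] (Z K' : Subgroup H) (hK' : K'.Normal)
    (hZc : Z ≤ Subgroup.center H) (hZK : Z ≤ K') (hcop : (Nat.card Z).Coprime (Z.relIndex K')) :
    ∃ M : Subgroup H, M.Normal ∧ M ≤ K' ∧ Nat.card M = Z.relIndex K' := by
  haveI hZ'n : (Z.subgroupOf K').Normal := by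
    constructor
    intro n hn g
    rw [Subgroup.mem_subgroupOf] at hn ⊢
    have h1 := hZc hn
    rw [Subgroup.mem_center_iff] at h1
    have h2 : ((g * n * g⁻¹ : K') : H) = (n : H) := by
      push_cast
      rw [h1 (g : H)]; group
    rw [h2]; exact hn
  have hcard : Nat.card (Z.subgroupOf K') = Nat.card Z :=
    Nat.card_congr (Subgroup.subgroupOfEquivOfLe hZK).toEquiv
  have hcop' : (Nat.card (Z.subgroupOf K')).Coprime (Z.subgroupOf K').index := by
    rw [hcard]; exact hcop
  obtain ⟨M', hM'⟩ := Subgroup.exists_right_complement'_of_coprime hcop'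
  set r := Z.relIndex K' with hr
  have hM'card : Nat.card M' = r := by
    have := hM'.symm.index_eq_card
    rw [← this]; rfl
  set M : Subgroup H := M'.map K'.subtype with hM
  have hMcard : Nat.card M = r := by
    rw [hM, Subgroup.card_map_of_injective K'.subtype_injective, hM'card]
  have hMle : M ≤ K' := Subgroup.map_subtype_le M'
  -- characterization
  have hchar : ∀ k : H, k ∈ M ↔ k ∈ K' ∧ k ^ r = 1 := by
    intro k
    constructor
    · intro hk
      refine ⟨hMle hk, ?_⟩
      have : (⟨k, hk⟩ : M) ^ Nat.card M = 1 := pow_card_eq_one'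
      rw [hMcard] at this
      exact congrArg Subtype.val this
    · rintro ⟨hkK, hkr⟩
      -- decompose k = z * m
      obtain ⟨⟨⟨z, hz⟩, ⟨m, hm⟩⟩, hzm, -⟩ :=
        (Subgroup.isComplement_iff_existsUnique.mp hM') (⟨k, hkK⟩ : K')
      simp only at hzm
      have hzZ : (z : H) ∈ Z := Subgroup.mem_subgroupOf.mp hz
      have hzc := hZc hzZ
      rw [Subgroup.mem_center_iff] at hzc
      have hmM : (m : H) ∈ M := ⟨m, hm, rfl⟩
      have hk' : k = (z : H) * (m : H) := by
        have := congrArg Subtype.val hzm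
        simpa using this.symm
      have hmr : (m : H) ^ r = 1 := by
        have : (⟨(m : H), hmM⟩ : M) ^ Nat.card M = 1 := pow_card_eq_one'
        rw [hMcard] at this
        exact congrArg Subtype.val this
      have hcomm : Commute (z : H) (m : H) := (hzc (m : H)).symm
      have hzr : (z : H) ^ r = 1 := by
        have := hcomm.mul_pow r
        rw [← hk', hkr, hmr, mul_one] at this
        exact this.symm
      have hzc' : (z : H) ^ Nat.card Z = 1 := by
        have : (⟨(z : H), hzZ⟩ : Z) ^ Nat.card Z = 1 := pow_card_eq_one'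
        exact congrArg Subtype.val this
      have hz1 : (z : H) = 1 := by
        have h1 := orderOf_dvd_of_pow_eq_one hzr
        have h2 := orderOf_dvd_of_pow_eq_one hzc'
        have h3 : orderOf (z : H) ∣ Nat.gcd (Nat.card Z) r := Nat.dvd_gcd h2 h1
        rw [hcop] at h3
        exact orderOf_eq_one_iff.mp (Nat.dvd_one.mp h3)
      rw [hk', hz1, one_mul]; exact hmM
  refine ⟨M, ⟨?_⟩, hMle, hMcard⟩
  intro n hn g
  rw [hchar] at hn ⊢
  refine ⟨hK'.conj_mem n hn.1 g, ?_⟩
  rw [conj_pow, hn.2]; group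


/-- the quotient by a central subgroup of order at most two has trivial odd core -/
theorem oddCore_quotient {H : Type*} [Group H] [Finite H]
    (hO : ∀ K : Subgroup H, K.Normal → Odd (Nat.card K) → K = ⊥)
    (y : H) (hyc : y ∈ Subgroup.center H) (hy2 : y ^ 2 = 1)
    [hZn : (Subgroup.zpowers y).Normal]
    (K : Subgroup (H ⧸ Subgroup.zpowers y)) (hKn : K.Normal) (hKodd : Odd (Nat.card K)) :
    K = ⊥ := by
  set Z := Subgroup.zpowers y with hZ
  set π := QuotientGroup.mk' Z with hπ
  have hπs : Function.Surjective π := QuotientGroup.mk'_surjective Z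
  set K' := K.comap π with hK'
  have hK'n : K'.Normal := hKn.comap π
  have hZle : Z ≤ Subgroup.center H := by
    rw [hZ, Subgroup.zpowers_le]; exact hyc
  have hZK : Z ≤ K' := by
    intro z hz
    rw [hK', Subgroup.mem_comap]
    have : π z = 1 := by
      rw [hπ, QuotientGroup.mk'_apply, QuotientGroup.eq_one_iff]; exact hz
    rw [this]; exact K.one_mem
  have hrel : Z.relIndex K' = Nat.card K := by
    have h1 : Z = (⊥ : Subgroup (H ⧸ Z)).comap π := by
      rw [MonoidHom.comap_bot, hπ, QuotientGroup.ker_mk']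
    rw [h1, Subgroup.relIndex_comap, Subgroup.relIndex_bot_left, hK',
      Subgroup.map_comap_eq_self_of_surjective hπs]
  have hZcard : Nat.card Z ∣ 2 := by
    rw [hZ, Nat.card_zpowers]
    exact orderOf_dvd_of_pow_eq_one hy2
  have hcop : (Nat.card Z).Coprime (Z.relIndex K') := by
    rw [hrel]
    have h2 : Nat.Coprime 2 (Nat.card K) := Nat.coprime_two_left.mpr hKodd
    exact Nat.Coprime.coprime_dvd_left hZcard h2
  obtain ⟨M, hMn, -, hMcard⟩ := exists_normal_compl Z K' hK'n hZle hZK hcop
  have hMb := hO M hMn (by rw [hMcard, hrel]; exact hKodd)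
  have : Nat.card K = 1 := by
    rw [← hrel, ← hMcard, hMb]; exact Subgroup.card_bot
  exact Subgroup.eq_bot_of_card_eq K this

end Cfsg.Agent.Lib.Helper8.GZ
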