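import Mathlib
import Cfsg.Agent.Lib.Helper8.GlAutBasic
import Cfsg.Agent.Lib.Helper8.GZ1
import Cfsg.Agent.Lib.Helper6.GlAutF2

/-!
# Theorem G: relative forms (inside a subgroup `H₁` of the ambient group) of the `Z*`-theorem and of Lemma F
-/

set_option autoImplicit false
open scoped commutatorElement

namespace Cfsg.Agent.Lib.Helper8.GlAut

universe u

variable {Γ : Type u} [Group Γ]

/-- membership in a join of two elementwise commuting subgroups -/
theorem mem_sup_of_commute {A B : Subgroup Γ} (h : ∀ a ∈ A, ∀ b ∈ B, a * b = b * a) {g : Γ} :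
    g ∈ A ⊔ B ↔ ∃ a ∈ A, ∃ b ∈ B, g = a * b := by
  constructor
  · intro hg
    let C : Subgroup Γ :=
      { carrier := {g | ∃ a ∈ A, ∃ b ∈ B, g = a * b}
        one_mem' := ⟨1, A.one_mem, 1, B.one_mem, by simp⟩
        mul_mem' := by
          rintro _ _ ⟨a, ha, b, hb, rfl⟩ ⟨a', ha', b', hb', rfl⟩
          refine ⟨a * a', A.mul_mem ha ha', b * b', B.mul_mem hb hb', ?_⟩
          have := h a' ha' b hb
          calc a * b * (a' * b') = a * (b * a') * b' := by group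
            _ = a * (a' * b) * b' := by rw [this]
            _ = a * a' * (b * b') := by group
        inv_mem' := by
          rintro _ ⟨a, ha, b, hb, rfl⟩
          refine ⟨a⁻¹, A.inv_mem ha, b⁻¹, B.inv_mem hb, ?_⟩
          have := h a⁻¹ (A.inv_mem ha) b⁻¹ (B.inv_mem hb)
          rw [this]; group }
    have hA : A ≤ C := fun a ha => ⟨a, ha, 1, B.one_mem, by simp⟩
    have hB : B ≤ C := fun b hb => ⟨1, A.one_mem, b, hb, by simp⟩
    exact (sup_le hA hB) hg
  · rintro ⟨a, ha, b, hb, rfl⟩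
    exact mul_mem (Subgroup.mem_sup_left ha) (Subgroup.mem_sup_right hb)

/-- normalizers inside a subgroup -/
theorem mem_normalizer_map_subtype_iff {H₁ : Subgroup Γ} (V' : Subgroup ↥H₁) (a : ↥H₁) :
    (a : Γ) ∈ Subgroup.normalizer ((V'.map H₁.subtype : Subgroup Γ) : Set Γ) ↔
      a ∈ Subgroup.normalizer (V' : Set ↥H₁) := by
  have hmem : ∀ b : ↥H₁, (b : Γ) ∈ V'.map H₁.subtype ↔ b ∈ V' := by
    intro b
    constructor
    · rintro ⟨c, hc, hcb⟩
      have : c = b := Subtype.ext hcb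
      rwa [← this]
    · intro hb; exact ⟨b, hb, rfl⟩
  rw [Subgroup.mem_normalizer_iff, Subgroup.mem_normalizer_iff]
  constructor
  · intro h b
    have := h (b : Γ)
    rw [hmem] at this
    rw [this]
    exact hmem (a * b * a⁻¹)
  · intro h g
    constructor
    · rintro ⟨c, hc, rfl⟩
      have := (h c).1 hc
      exact ⟨a * c * a⁻¹, this, by simp⟩
    · rintro ⟨c, hc, hcg⟩
      -- g = a⁻¹ c a lies in H₁
      have hg : g = ((a⁻¹ * c * a : ↥H₁) : Γ) := by
        have : (c : Γ) = (a : Γ) * g * (a : Γ)⁻¹ := hcg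
        push_cast
        rw [this]; group
      rw [hg, hmem]
      rw [h]
      have : a * (a⁻¹ * c * a) * a⁻¹ = c := by group
      rw [this]; exact hc

/-- relative `Z*`: an isolated involution of a Sylow 2-subgroup `T` of `H₁`, `O(H₁) = 1`, centralizes `H₁` -/
theorem rel_zstar [Finite Γ] {H₁ T : Subgroup Γ} (hT : SylMax T H₁) (h1 : oc H₁ = ⊥) {z : Γ}
    (hz : orderOf z = 2) (hzT : z ∈ T)
    (hiso : ∀ h ∈ H₁, h * z * h⁻¹ ∈ T → h * z * h⁻¹ = z) : ∀ h ∈ H₁, h * z = z * h := by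
  obtain ⟨P, hP⟩ := hT.exists_sylow
  have hzH : z ∈ H₁ := hT.1 hzT
  have hmemP : ∀ b : ↥H₁, b ∈ P ↔ (b : Γ) ∈ T := by
    intro b
    rw [← hP]
    constructor
    · intro hb; exact ⟨b, hb, rfl⟩
    · rintro ⟨c, hc, hcb⟩
      have : c = b := Subtype.ext hcb
      rwa [← this]
  have hO : ∀ N : Subgroup ↥H₁, N.Normal → Odd (Nat.card ↥N) → N = ⊥ := by
    intro N hN hodd
    have hle : N.map H₁.subtype ≤ oc H₁ := by
      apply le_oc (Subgroup.map_subtype_le _)
      · intro k hk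
        have : ((⟨k, hk⟩ : ↥H₁) : Γ) ∈ Subgroup.normalizer ((N.map H₁.subtype : Subgroup Γ) : Set Γ) := by
          rw [mem_normalizer_map_subtype_iff]
          rw [Subgroup.normalizer_eq_top]
          exact Subgroup.mem_top _
        exact this
      · rw [Subgroup.card_map_of_injective H₁.subtype_injective]; exact hodd
    rw [h1] at hle
    rw [eq_bot_iff]
    intro a ha
    have : (a : Γ) ∈ (⊥ : Subgroup Γ) := hle ⟨a, ha, rfl⟩
    rw [Subgroup.mem_bot] at this
    rw [Subgroup.mem_bot]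
    exact Subtype.ext this
  have hz' : orderOf (⟨z, hzH⟩ : ↥H₁) = 2 := by rw [Subgroup.orderOf_mk]; exact hz
  have hc := Cfsg.Agent.Lib.Helper8.GZ.mem_center_of_isolated hO P ⟨z, hzH⟩ hz'
    ((hmemP _).2 hzT) (by
      intro g hg
      have h2 := hiso (g : Γ) g.2 ((hmemP _).1 hg)
      exact Subtype.ext h2)
  rw [Subgroup.mem_center_iff] at hc
  intro h hh
  have := hc ⟨h, hh⟩
  exact congrArg Subtype.val this

/-- relative Lemma F -/
theorem rel_fusion [Finite Γ] {H₁ T : Subgroup Γ} (hT : SylMax T H₁) {z h : Γ} (hzT : z ∈ T)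
    (hzc : ∀ t ∈ T, t * z = z * t) (hh₁ : h ∈ H₁) (hh : h * z * h⁻¹ ∈ T) (hne : h * z * h⁻¹ ≠ z) :
    ∃ (V : Subgroup Γ) (m : Γ), V ≤ T ∧ (∀ c ∈ T, (∀ t ∈ T, t * c = c * t) → c ∈ V) ∧
      SylMax (T ⊓ Subgroup.normalizer (V : Set Γ)) (H₁ ⊓ Subgroup.normalizer (V : Set Γ)) ∧
      m ∈ H₁ ∧ m ∈ Subgroup.normalizer (V : Set Γ) ∧ m * z * m⁻¹ ≠ z := by
  obtain ⟨P, hP⟩ := hT.exists_sylow
  have hzH : z ∈ H₁ := hT.1 hzT
  have hmemP : ∀ b : ↥H₁, b ∈ P ↔ (b : Γ) ∈ T := by
    intro b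
    rw [← hP]
    constructor
    · intro hb; exact ⟨b, hb, rfl⟩
    · rintro ⟨c, hc, hcb⟩
      have : c = b := Subtype.ext hcb
      rwa [← this]
  obtain ⟨V', m', hV'P, hcen, hmax, hm', hm'z⟩ :=
    exists_local_fusion (H := ↥H₁) (p := 2) P (z := ⟨z, hzH⟩) (h := ⟨h, hh₁⟩)
      ((hmemP _).2 hzT)
      (by intro t ht; exact Subtype.ext (hzc (t : Γ) ((hmemP t).1 ht)))
      ((hmemP _).2 hh)
      (by intro he; exact hne (congrArg Subtype.val he))
  have hmemV : ∀ b : ↥H₁, (b : Γ) ∈ V'.map H₁.subtype ↔ b ∈ V' := by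
    intro b
    constructor
    · rintro ⟨c, hc, hcb⟩
      have : c = b := Subtype.ext hcb
      rwa [← this]
    · intro hb; exact ⟨b, hb, rfl⟩
  refine ⟨V'.map H₁.subtype, (m' : Γ), ?_, ?_, ?_, m'.2, ?_, ?_⟩
  · rintro _ ⟨c, hc, rfl⟩
    exact (hmemP c).1 (hV'P hc)
  · intro c hcT hcc
    have hcH : c ∈ H₁ := hT.1 hcT
    have : (⟨c, hcH⟩ : ↥H₁) ∈ V' := by
      apply hcen _ ((hmemP _).2 hcT)
      intro t ht
      exact Subtype.ext (hcc (t : Γ) ((hmemP t).1 ht))
    exact (hmemV ⟨c, hcH⟩).2 this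
  · refine ⟨?_, hT.2.1.to_le inf_le_left, ?_⟩
    · exact inf_le_inf_right _ hT.1
    · intro P₂ hP₂ hle hP₂le
      have hP₂H : P₂ ≤ H₁ := hP₂le.trans inf_le_left
      have key := hmax (P₂.subgroupOf H₁) (isPGroup_subgroupOf hP₂) (by
          intro a ha
          rw [Subgroup.mem_subgroupOf]
          apply hle
          exact ⟨(hmemP a).1 ha.1, (mem_normalizer_map_subtype_iff V' a).2 ha.2⟩) (by
          intro a ha
          rw [Subgroup.mem_subgroupOf] at ha
          exact (mem_normalizer_map_subtype_iff V' a).1 (hP₂le ha).2)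
      apply le_antisymm
      · intro a ha
        have haH : a ∈ H₁ := hP₂H ha
        have h3 : (⟨a, haH⟩ : ↥H₁) ∈ P₂.subgroupOf H₁ := by
          rw [Subgroup.mem_subgroupOf]; exact ha
        rw [key] at h3
        exact ⟨(hmemP _).1 h3.1, (mem_normalizer_map_subtype_iff V' ⟨a, haH⟩).2 h3.2⟩
      · exact hle
  · exact (mem_normalizer_map_subtype_iff V' m').2 hm'
  · intro he
    apply hm'z
    exact Subtype.ext he

end Cfsg.Agent.Lib.Helper8.GlAut
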