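import Mathlib
import Cfsg.Agent.Lib.Helper8.GlAutRel
import Cfsg.Agent.Lib.Helper5.GlAutT

/-!
# Theorem G: the `Z*` step (`K` simple, `C_Γ(K) = 1`)
-/

set_option autoImplicit false
open scoped commutatorElement

namespace Cfsg.Agent.Lib.Helper8.GlAut

universe u

variable {Γ : Type u} [Group Γ]

/-- the subgroup generated by the commutators `⁅q, x⁆`, `q ∈ Q` -/
def Q1 (Q : Subgroup Γ) (x : Γ) : Subgroup Γ := Subgroup.closure {c : Γ | ∃ q ∈ Q, c = ⁅q, x⁆}

theorem comm_mem_Q1 {Q : Subgroup Γ} {x q : Γ} (hq : q ∈ Q) : ⁅q, x⁆ ∈ Q1 Q x :=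
  Subgroup.subset_closure ⟨q, hq, rfl⟩

theorem Q1_le {Q : Subgroup Γ} {x : Γ} (hxQ : x ∈ Subgroup.normalizer (Q : Set Γ)) : Q1 Q x ≤ Q := by
  unfold Q1
  rw [Subgroup.closure_le]
  rintro _ ⟨q, hq, rfl⟩
  rw [Subgroup.mem_normalizer_iff] at hxQ
  rw [commutatorElement_def]
  have h1 : x * q⁻¹ * x⁻¹ ∈ Q := (hxQ q⁻¹).1 (Q.inv_mem hq)
  have : q * x * q⁻¹ * x⁻¹ = q * (x * q⁻¹ * x⁻¹) := by group
  rw [this]
  exact Q.mul_mem hq h1

/-- conjugation by an element `w` with `⁅w q w⁻¹, x⁆`-closure property maps `Q1` into itself -/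
theorem conj_mem_Q1_of [Finite Γ] {Q : Subgroup Γ} {x w : Γ}
    (hw : ∀ q ∈ Q, w * ⁅q, x⁆ * w⁻¹ ∈ Q1 Q x) : w ∈ Subgroup.normalizer ((Q1 Q x : Subgroup Γ) : Set Γ) := by
  have key : ∀ c ∈ Q1 Q x, w * c * w⁻¹ ∈ Q1 Q x := by
    intro c hc
    unfold Q1 at hc
    induction hc using Subgroup.closure_induction with
    | mem c hc =>
      obtain ⟨q, hq, rfl⟩ := hc
      exact hw q hq
    | one => simp
    | mul a b _ _ iha ihb =>
      have e : w * (a * b) * w⁻¹ = (w * a * w⁻¹) * (w * b * w⁻¹) := by group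
      rw [e]
      exact mul_mem iha ihb
    | inv a _ iha =>
      have e : w * a⁻¹ * w⁻¹ = (w * a * w⁻¹)⁻¹ := by group
      rw [e]
      exact inv_mem iha
  apply Subgroup.mem_normalizer_fintype
  intro c hc
  exact key c hc

theorem x_mem_normalizer_Q1 [Finite Γ] {Q : Subgroup Γ} {x : Γ}
    (hxQ : x ∈ Subgroup.normalizer (Q : Set Γ)) :
    x ∈ Subgroup.normalizer ((Q1 Q x : Subgroup Γ) : Set Γ) := by
  apply conj_mem_Q1_of
  intro q hq
  rw [Subgroup.mem_normalizer_iff] at hxQ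
  have h1 : x * q * x⁻¹ ∈ Q := (hxQ q).1 hq
  have e : x * ⁅q, x⁆ * x⁻¹ = ⁅x * q * x⁻¹, x⁆ := by
    simp only [commutatorElement_def]; group
  rw [e]
  exact comm_mem_Q1 h1

theorem Q_le_normalizer_Q1 [Finite Γ] {Q : Subgroup Γ} {x : Γ} :
    Q ≤ Subgroup.normalizer ((Q1 Q x : Subgroup Γ) : Set Γ) := by
  intro w hw
  apply conj_mem_Q1_of
  intro q hq
  have e : w * ⁅q, x⁆ * w⁻¹ = ⁅w * q, x⁆ * (⁅w, x⁆)⁻¹ := by
    simp only [commutatorElement_def]; group
  rw [e]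
  exact mul_mem (comm_mem_Q1 (Q.mul_mem hw hq)) (inv_mem (comm_mem_Q1 hw))

/-- a nontrivial 2-subgroup has a central involution -/
theorem exists_central_involution [Finite Γ] {R : Subgroup Γ} (hR : IsPGroup 2 ↥R) (hne : R ≠ ⊥) :
    ∃ z ∈ R, orderOf z = 2 ∧ ∀ r ∈ R, r * z = z * r := by
  have : Nontrivial ↥R := (Subgroup.nontrivial_iff_ne_bot R).2 hne
  have : Nontrivial ↥(Subgroup.center ↥R) := hR.center_nontrivial
  have hC2 : IsPGroup 2 ↥(Subgroup.center ↥R) := hR.to_subgroup _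
  obtain ⟨m, hm⟩ := hC2.exists_card_eq
  have hm0 : m ≠ 0 := by
    rintro rfl
    have h1 : Nat.card ↥(Subgroup.center ↥R) = 1 := by simpa using hm
    have := Finite.one_lt_card (α := ↥(Subgroup.center ↥R))
    omega
  have hdvd : 2 ∣ Nat.card ↥(Subgroup.center ↥R) := by
    rw [hm]; exact dvd_pow_self 2 hm0
  obtain ⟨c, hc⟩ := exists_prime_orderOf_dvd_card' 2 hdvd
  refine ⟨((c : ↥R) : Γ), (c : ↥R).2, ?_, ?_⟩
  · rw [← hc, ← Subgroup.orderOf_coe, ← Subgroup.orderOf_coe]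
  · intro r hr
    have := c.2
    rw [Subgroup.mem_center_iff] at this
    have h2 := this ⟨r, hr⟩
    exact congrArg Subtype.val h2

/-- **Step 5** of Theorem G: `K` simple, `C_Γ(K) = 1`: the `Z*` step. -/
theorem step5 {n : ℕ} (ih : IH.{u} n) [Finite Γ] {K : Subgroup Γ} [K.Normal] {S Q : Subgroup Γ} {x : Γ}
    (hn : Nat.card ↥K = n) (hyp : Hyp K S Q x) (h1 : oc K = ⊥)
    (hs : ∀ E : Subgroup Γ, E ≤ K → K ≤ Subgroup.normalizer (E : Set Γ) → E = ⊥ ∨ E = K)
    (hC : Subgroup.centralizer (K : Set Γ) = ⊥) : Concl K Q x := by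
  by_cases hQ1 : Q1 Q x = ⊥
  · intro q hq k hk
    have : ⁅q, x⁆ ∈ Q1 Q x := comm_mem_Q1 hq
    rw [hQ1, Subgroup.mem_bot] at this
    rw [this, commutatorElement_def]
    simp
  exfalso
  -- basic facts on `Q₁`
  have hQ1Q : Q1 Q x ≤ Q := Q1_le hyp.hxQ
  have hQ12 : IsPGroup 2 ↥(Q1 Q x) := hyp.hQ2.to_le hQ1Q
  obtain ⟨z, hzQ1, hz2, hzc⟩ := exists_central_involution hQ12 hQ1
  have hz1 : z ≠ 1 := by
    rintro rfl
    rw [orderOf_one] at hz2
    omega
  -- `Z'` := the centre of `Q₁`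
  set Z' : Subgroup Γ := Q1 Q x ⊓ Subgroup.centralizer ((Q1 Q x : Subgroup Γ) : Set Γ) with hZ'
  have hzZ' : z ∈ Z' := Subgroup.mem_inf.2 ⟨hzQ1, by
    rw [Subgroup.mem_centralizer_iff]; intro r hr; exact hzc r hr⟩
  have hZ'Q1 : Z' ≤ Q1 Q x := inf_le_left
  have hZ'ab : ∀ a ∈ Z', ∀ b ∈ Z', a * b = b * a := by
    intro a ha b hb
    have := (Subgroup.mem_inf.1 hb).2
    rw [Subgroup.mem_centralizer_iff] at this
    exact this a (Subgroup.mem_inf.1 ha).1
  have hZ'S : Z' ≤ Subgroup.centralizer (S : Set Γ) := hZ'Q1.trans (hQ1Q.trans hyp.hQS)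
  have hZ'2 : IsPGroup 2 ↥Z' := hQ12.to_le hZ'Q1
  have hnormZ' : ∀ w : Γ, w ∈ Subgroup.normalizer ((Q1 Q x : Subgroup Γ) : Set Γ) →
      w ∈ Subgroup.normalizer (Z' : Set Γ) := by
    intro w hw
    apply Subgroup.mem_normalizer_fintype
    intro c hc
    have hw' := hw
    rw [Subgroup.mem_normalizer_iff] at hw'
    have hc := Subgroup.mem_inf.1 hc
    refine Subgroup.mem_inf.2 ⟨(hw' c).1 hc.1, ?_⟩
    rw [Subgroup.mem_centralizer_iff]
    intro r hr
    -- r = w r' w⁻¹ with r' ∈ Q₁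
    have hr' : w⁻¹ * r * w ∈ Q1 Q x := by
      rw [hw' (w⁻¹ * r * w)]
      have : w * (w⁻¹ * r * w) * w⁻¹ = r := by group
      rw [this]; exact hr
    have hcc := hc.2
    rw [Subgroup.mem_centralizer_iff] at hcc
    have h3 := hcc _ hr'
    calc r * (w * c * w⁻¹) = w * ((w⁻¹ * r * w) * c) * w⁻¹ := by group
      _ = w * (c * (w⁻¹ * r * w)) * w⁻¹ := by rw [h3]
      _ = w * c * w⁻¹ * r := by group
  have hQZ' : Q ≤ Subgroup.normalizer (Z' : Set Γ) := fun w hw => hnormZ' w (Q_le_normalizer_Q1 hw)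
  have hxZ' : x ∈ Subgroup.normalizer (Z' : Set Γ) := hnormZ' x (x_mem_normalizer_Q1 hyp.hxQ)
  -- `H₁ = K Z'`, `T = S Z'`
  set H₁ : Subgroup Γ := K ⊔ Z' with hH₁
  set T : Subgroup Γ := S ⊔ Z' with hTdef
  have hSZ'comm : ∀ s ∈ S, ∀ c ∈ Z', s * c = c * s := by
    intro s hs c hc
    have := hZ'S hc
    rw [Subgroup.mem_centralizer_iff] at this
    exact this s hs
  have hS2 : IsPGroup 2 ↥S := hyp.syl.2.1
  have hSK : S ≤ K := hyp.syl.1
  have hT2 : IsPGroup 2 ↥T := by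
    rw [hTdef, sup_comm]
    apply IsPGroup.to_sup_of_normal_right' hZ'2 hS2
    intro c hc
    apply Subgroup.mem_normalizer_fintype
    intro s hs
    have := hSZ'comm s hs c hc
    have e : c * s * c⁻¹ = s := by rw [← this]; group
    rw [e]; exact hs
  have hTK : T ⊓ K = S := by
    have h2 : IsPGroup 2 ↥(T ⊓ K : Subgroup Γ) := hT2.to_le inf_le_left
    exact hyp.syl.2.2 _ h2 (le_inf le_sup_left hSK) inf_le_right
  have hmemH₁ : ∀ g : Γ, g ∈ H₁ → ∃ k ∈ K, ∃ c ∈ Z', g = k * c := by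
    intro g hg
    have hg' : g ∈ ((K ⊔ Z' : Subgroup Γ) : Set Γ) := hg
    rw [Subgroup.normal_mul] at hg'
    obtain ⟨k, hk, c, hc, rfl⟩ := Set.mem_mul.1 hg'
    exact ⟨k, hk, c, hc, rfl⟩
  have hT : SylMax T H₁ := by
    refine ⟨sup_le_sup_right hSK _, hT2, ?_⟩
    intro P hP hTP hPH
    apply le_antisymm
    · intro p hp
      obtain ⟨k, hk, c, hc, rfl⟩ := hmemH₁ p (hPH hp)
      have hcP : c ∈ P := hTP (Subgroup.mem_sup_right hc)
      have hkP : k ∈ P := by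
        have : k = k * c * c⁻¹ := by group
        rw [this]; exact P.mul_mem hp (P.inv_mem hcP)
      have hPK : P ⊓ K = S :=
        hyp.syl.2.2 _ (hP.to_le inf_le_left) (le_inf (le_sup_left.trans hTP) hSK) inf_le_right
      have hkS : k ∈ S := by rw [← hPK]; exact Subgroup.mem_inf.2 ⟨hkP, hk⟩
      exact mul_mem (Subgroup.mem_sup_left hkS) (Subgroup.mem_sup_right hc)
    · exact hTP
  -- `O(H₁) = 1`
  have hKH₁ : K ≤ H₁ := le_sup_left
  have hocH₁ : oc H₁ = ⊥ := by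
    rw [eq_bot_iff]
    intro a ha
    rw [Subgroup.mem_bot]
    have haC : a ∈ Subgroup.centralizer (K : Set Γ) := by
      rw [Subgroup.mem_centralizer_iff]
      intro k hk
      -- ⁅a, k⁆ ∈ oc H₁ ⊓ K, an odd normal subgroup of K
      have hN : oc H₁ ⊓ K ≤ oc K := by
        apply le_oc inf_le_right
        · intro k' hk'
          apply Subgroup.mem_normalizer_fintype
          intro b hb
          have hb := Subgroup.mem_inf.1 hb
          exact Subgroup.mem_inf.2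
            ⟨oc_normal_in H₁ (hKH₁ hk') hb.1, (inferInstance : K.Normal).conj_mem b hb.2 k'⟩
        · exact Odd.of_dvd_nat (odd_card_oc H₁) (Subgroup.card_dvd_of_le inf_le_left)
      have hcomm : ⁅a, k⁆ ∈ oc H₁ ⊓ K := by
        refine Subgroup.mem_inf.2 ⟨?_, ?_⟩
        · rw [commutatorElement_def]
          have h3 : k * a⁻¹ * k⁻¹ ∈ oc H₁ := oc_normal_in H₁ (hKH₁ hk) (inv_mem ha)
          have : a * k * a⁻¹ * k⁻¹ = a * (k * a⁻¹ * k⁻¹) := by group
          rw [this]; exact mul_mem ha h3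
        · rw [commutatorElement_def]
          have h3 : a * k * a⁻¹ ∈ K := (inferInstance : K.Normal).conj_mem k hk a
          exact mul_mem h3 (inv_mem hk)
      have h4 := hN hcomm
      rw [h1, Subgroup.mem_bot, commutatorElement_def] at h4
      calc k * a = (a * k * a⁻¹ * k⁻¹)⁻¹ * a * k := by group
        _ = a * k := by rw [h4]; group
    rw [hC, Subgroup.mem_bot] at haC
    exact haC
  -- `z` is central in `T` but does not centralize `K`
  have hzT : z ∈ T := Subgroup.mem_sup_right hzZ'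
  have hcentT : ∀ c ∈ Z', ∀ t ∈ T, t * c = c * t := by
    intro c hc t ht
    have hle : T ≤ Subgroup.centralizer ({c} : Set Γ) := by
      rw [hTdef]
      apply sup_le
      · intro s hs
        rw [Subgroup.mem_centralizer_singleton_iff]
        exact hSZ'comm s hs c hc
      · intro b hb
        rw [Subgroup.mem_centralizer_singleton_iff]
        exact hZ'ab b hb c hc
    have := hle ht
    rw [Subgroup.mem_centralizer_singleton_iff] at this
    exact this
  have hznotc : ∃ k ∈ K, k * z ≠ z * k := by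
    by_contra hcon
    push Not at hcon
    have : z ∈ Subgroup.centralizer (K : Set Γ) := by
      rw [Subgroup.mem_centralizer_iff]; exact hcon
    rw [hC, Subgroup.mem_bot] at this
    exact hz1 this
  -- `Z*`: `z` has another conjugate in `T`
  have hfus : ∃ h ∈ H₁, h * z * h⁻¹ ∈ T ∧ h * z * h⁻¹ ≠ z := by
    by_contra hcon
    push Not at hcon
    have := rel_zstar hT hocH₁ hz2 hzT hcon
    obtain ⟨k, hk, hkz⟩ := hznotc
    exact hkz (this k (hKH₁ hk))
  obtain ⟨h, hhH, hhT, hhne⟩ := hfus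
  -- Lemma F
  obtain ⟨V, m, hVT, hVcen, hVsyl, hmH, hmV, hmz⟩ :=
    rel_fusion hT hzT (hcentT z hzZ') hhH hhT hhne
  have hZ'V : Z' ≤ V := fun c hc => hVcen c (Subgroup.mem_sup_right hc) (hcentT c hc)
  -- `m = g q₀`
  obtain ⟨g, hgK, q₀, hq₀, rfl⟩ := hmemH₁ m hmH
  have hq₀V : q₀ ∈ Subgroup.normalizer (V : Set Γ) := Subgroup.le_normalizer (hZ'V hq₀)
  have hgV : g ∈ Subgroup.normalizer (V : Set Γ) := by
    have : g = g * q₀ * q₀⁻¹ := by group
    rw [this]; exact mul_mem hmV (inv_mem hq₀V)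
  have hgz : g * z * g⁻¹ ≠ z := by
    intro he
    apply hmz
    have hq₀z : q₀ * z * q₀⁻¹ = z := by
      rw [hZ'ab q₀ hq₀ z hzZ']; group
    calc g * q₀ * z * (g * q₀)⁻¹ = g * (q₀ * z * q₀⁻¹) * g⁻¹ := by group
      _ = g * z * g⁻¹ := by rw [hq₀z]
      _ = z := he
  -- the commutator `s₁ = ⁅z, g⁆`
  set s₁ : Γ := ⁅z, g⁆ with hs₁
  have hs₁ne : s₁ ≠ 1 := by
    intro he
    apply hgz
    rw [hs₁, commutatorElement_def] at he
    calc g * z * g⁻¹ = (z * g * z⁻¹ * g⁻¹)⁻¹ * z := by group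
      _ = z := by rw [he]; group
  have hzV : z ∈ V := hZ'V hzZ'
  have hs₁V : s₁ ∈ V := by
    rw [hs₁, commutatorElement_def]
    have hgV' := hgV
    rw [Subgroup.mem_normalizer_iff] at hgV'
    have h3 : g * z⁻¹ * g⁻¹ ∈ V := (hgV' z⁻¹).1 (V.inv_mem hzV)
    have : z * g * z⁻¹ * g⁻¹ = z * (g * z⁻¹ * g⁻¹) := by group
    rw [this]; exact V.mul_mem hzV h3
  have hs₁K : s₁ ∈ K := by
    rw [hs₁, commutatorElement_def]
    have h3 : z * g * z⁻¹ ∈ K := (inferInstance : K.Normal).conj_mem g hgK z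
    exact mul_mem h3 (inv_mem hgK)
  have hs₁S : s₁ ∈ S := by
    rw [← hTK]; exact Subgroup.mem_inf.2 ⟨hVT hs₁V, hs₁K⟩
  -- `Q` and `x` normalize `V`
  have hnormV : ∀ w : Γ, w ∈ Subgroup.centralizer (S : Set Γ) → w ∈ Subgroup.normalizer (Z' : Set Γ) →
      w ∈ Subgroup.normalizer (V : Set Γ) := by
    intro w hwS hwZ
    apply Subgroup.mem_normalizer_fintype
    intro v hv
    have hvT : v ∈ T := hVT hv
    rw [hTdef] at hvT
    obtain ⟨s, hsS, c, hcZ, rfl⟩ := (mem_sup_of_commute hSZ'comm).1 hvT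
    have hcV : c ∈ V := hZ'V hcZ
    have hsV : s ∈ V := by
      have : s = s * c * c⁻¹ := by group
      rw [this]; exact V.mul_mem hv (V.inv_mem hcV)
    rw [Subgroup.mem_centralizer_iff] at hwS
    have hws : w * s * w⁻¹ = s := by rw [← hwS s hsS]; group
    rw [Subgroup.mem_normalizer_iff] at hwZ
    have hwc : w * c * w⁻¹ ∈ Z' := (hwZ c).1 hcZ
    have e : w * (s * c) * w⁻¹ = (w * s * w⁻¹) * (w * c * w⁻¹) := by group
    rw [e, hws]
    exact V.mul_mem hsV (hZ'V hwc)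
  have hQV : Q ≤ Subgroup.normalizer (V : Set Γ) := fun w hw => hnormV w (hyp.hQS hw) (hQZ' hw)
  have hxV : x ∈ Subgroup.normalizer (V : Set Γ) := hnormV x hyp.hxS hxZ'
  -- the 2-local subgroup `N₀ = N_K(V)`
  set N₀ : Subgroup Γ := K ⊓ Subgroup.normalizer (V : Set Γ) with hN₀
  set S₀ : Subgroup Γ := S ⊓ Subgroup.normalizer (V : Set Γ) with hS₀
  have hnormN₀ : ∀ w : Γ, w ∈ Subgroup.normalizer (V : Set Γ) →
      w ∈ Subgroup.normalizer (N₀ : Set Γ) := by
    intro w hw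
    apply Subgroup.mem_normalizer_fintype
    intro b hb
    have hb := Subgroup.mem_inf.1 hb
    refine Subgroup.mem_inf.2 ⟨(inferInstance : K.Normal).conj_mem b hb.1 w, ?_⟩
    exact mul_mem (mul_mem hw hb.2) (inv_mem hw)
  have hS₀syl : SylMax S₀ N₀ := by
    have hle : N₀ ≤ H₁ ⊓ Subgroup.normalizer (V : Set Γ) := inf_le_inf_right _ hKH₁
    have hnorm : H₁ ⊓ Subgroup.normalizer (V : Set Γ) ≤ Subgroup.normalizer (N₀ : Set Γ) :=
      fun w hw => hnormN₀ w (Subgroup.mem_inf.1 hw).2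
    have := hVsyl.inf_normal hle hnorm
    have e : T ⊓ Subgroup.normalizer (V : Set Γ) ⊓ N₀ = S₀ := by
      rw [hS₀, hN₀, ← hTK]
      ext a
      simp only [Subgroup.mem_inf]
      tauto
    rwa [e] at this
  have hgN₀ : g ∈ N₀ := Subgroup.mem_inf.2 ⟨hgK, hgV⟩
  have hN₀lt : Nat.card ↥N₀ < n := by
    rw [← hn]
    have hle : N₀ ≤ K := inf_le_left
    rcases lt_or_eq_of_le (Subgroup.card_le_of_le hle) with hlt | heq
    · exact hlt
    · exfalso
      have hEq : N₀ = K := Subgroup.eq_of_le_of_card_ge hle (le_of_eq heq.symm)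
      have hKV : K ≤ Subgroup.normalizer (V : Set Γ) := by
        rw [← hEq]; exact inf_le_right
      have hVK : K ≤ Subgroup.normalizer ((V ⊓ K : Subgroup Γ) : Set Γ) := by
        intro k hk
        apply Subgroup.mem_normalizer_fintype
        intro b hb
        have hb := Subgroup.mem_inf.1 hb
        have hkV := hKV hk
        rw [Subgroup.mem_normalizer_iff] at hkV
        exact Subgroup.mem_inf.2 ⟨(hkV b).1 hb.1, (inferInstance : K.Normal).conj_mem b hb.2 k⟩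
      rcases hs (V ⊓ K) inf_le_right hVK with hbot | htop
      · have : s₁ ∈ V ⊓ K := Subgroup.mem_inf.2 ⟨hs₁V, hs₁K⟩
        rw [hbot, Subgroup.mem_bot] at this
        exact hs₁ne this
      · -- `K ≤ V ≤ T` is a 2-group, so `K = S` and `z` centralizes `K`
        have hKT : K ≤ T := by
          rw [← htop]; exact inf_le_left.trans hVT
        have hKS : K = S := by
          have : T ⊓ K = K := inf_eq_right.2 hKT
          rw [← this, hTK]
        have : z ∈ Subgroup.centralizer (K : Set Γ) := by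
          rw [hKS]; exact hZ'S hzZ'
        rw [hC, Subgroup.mem_bot] at this
        exact hz1 this
  have hhyp₀ : Hyp N₀ S₀ Q x :=
    ⟨hS₀syl, hyp.hQ2, hyp.hQS.trans (Subgroup.centralizer_le inf_le_left), hyp.hx,
      Subgroup.centralizer_le (show (S₀ : Set Γ) ⊆ S from inf_le_left) hyp.hxS, hyp.hxQ⟩
  have hQN₀ : Q ≤ Subgroup.normalizer (N₀ : Set Γ) := fun w hw => hnormN₀ w (hQV hw)
  have hxN₀ : x ∈ Subgroup.normalizer (N₀ : Set Γ) := hnormN₀ x hxV
  have hconcl : Concl N₀ Q x := ih.sub hQN₀ hxN₀ hN₀lt hhyp₀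
  have hcl := concl_closure hQN₀ hxN₀ hyp.hxQ hconcl z hzQ1 g hgN₀
  exact hs₁ne (eq_one_of_mem_oc hS2 hcl hs₁S)

end Cfsg.Agent.Lib.Helper8.GlAut
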