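import Mathlib
import Cfsg.Agent.Lib.Helper8.GlAutBasic
import Cfsg.Agent.Lib.Helper5.GlAutT
import Cfsg.Agent.Lib.Helper2.GlAut2
import Cfsg.Agent.Lib.Helper5.GlAut3
import Cfsg.Agent.Lib.Helper8.GlAutZ

/-!
# Theorem G (Glauberman 1966, the 2-nilpotent part), ambient relative form

Let `K` be a normal subgroup of the finite group `Γ`, `S` a Sylow 2-subgroup of `K`, `Q` a 2-subgroup and `x`
an element of odd order normalizing `Q`, both centralizing `S`.  Then every commutator `⁅q, x⁆` (`q ∈ Q`) acts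
trivially on `K / O(K)`.

Proof: induction on `|K|` (paper proof: notes/S1301_core_helper8.md).  Packages:
`Helper8.GlAutBasic` (API), `Helper6.GlAutF2` (Lemma F), `Lead.GlAutC` (cocycle lemma), `Helper5.GlAutT`
(transports, step 1), `Helper6.GlAutU` (lemma (U)), `Helper2.GlAut2` (step 2), `Helper5.GlAut3` (step 3),
`Helper8.GlAutRel` + `Helper8.GlAutZ` (the `Z*` step).
-/

set_option autoImplicit false
open scoped commutatorElement

namespace Cfsg.Agent.Lib.Helper8.GlAut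

universe u

theorem main_aux : ∀ (n : ℕ) (Γ : Type u) [Group Γ] [Finite Γ] (K : Subgroup Γ) [K.Normal]
    (S Q : Subgroup Γ) (x : Γ), Nat.card ↥K = n → Hyp K S Q x → Concl K Q x := by
  intro n
  induction n using Nat.strong_induction_on with
  | _ n ihn =>
    intro Γ _ _ K _ S Q x hn hyp
    have ih : IH.{u} n := fun Γ' _ _ K' _ S' Q' x' hlt hyp' =>
      ihn _ hlt Γ' K' S' Q' x' rfl hyp'
    by_cases h1 : oc K = ⊥
    · by_cases hs : ∀ E : Subgroup Γ, E ≤ K → K ≤ Subgroup.normalizer (E : Set Γ) → E = ⊥ ∨ E = K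
      · exact step3_of_step5
          (fun Γ' _ _ K' _ S' Q' x' hn' hyp' h1' hs' hC' => step5 ih hn' hyp' h1' hs' hC')
          hn hyp h1 hs
      · push Not at hs
        obtain ⟨E, hEK, hEn, hE, hEne⟩ := hs
        by_cases hmin : ∀ M : Subgroup Γ, M.Normal → M ≤ K → M = ⊥ ∨ M = K
        · exact step2B ih hn hyp h1 hmin E hEK hEn hE hEne
        · push Not at hmin
          obtain ⟨M, hMn, hMK, hM, hMne⟩ := hmin
          have := hMn
          exact step2A ih hn hyp h1 M hMK hM hMne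
    · exact step1 ih hn hyp h1

/-- **Theorem G** (Glauberman 1966, the 2-nilpotent part), ambient relative form. -/
theorem comm_mem_core {Γ : Type*} [Group Γ] [Finite Γ] (K : Subgroup Γ) [K.Normal]
    (S : Subgroup Γ) (hSK : S ≤ K) (hS2 : IsPGroup 2 ↥S)
    (hSyl : ∀ P : Subgroup Γ, IsPGroup 2 ↥P → S ≤ P → P ≤ K → P = S)
    (Q : Subgroup Γ) (hQ2 : IsPGroup 2 ↥Q) (hQS : Q ≤ Subgroup.centralizer (S : Set Γ))
    (x : Γ) (hx : Odd (orderOf x)) (hxS : x ∈ Subgroup.centralizer (S : Set Γ))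
    (hxQ : x ∈ Subgroup.normalizer (Q : Set Γ)) :
    ∀ q ∈ Q, ∀ k ∈ K, ⁅⁅q, x⁆, k⁆ ∈ (Cfsg.pPrimeCore 2 ↥K).map K.subtype :=
  main_aux _ Γ K S Q x rfl ⟨⟨hSK, hS2, hSyl⟩, hQ2, hQS, hx, hxS, hxQ⟩

end Cfsg.Agent.Lib.Helper8.GlAut
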