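import Mathlib
import Cfsg.Agent.Lib.Helper1.LW.Defs
import Cfsg.Agent.Lib.Helper1.LW.Basic

/-!
# Livingstone–Wagner (S0746), package B-IV: `false_of_common_fix`

If all double transpositions of every `(k-1)`-set `Γ` have a common fixed point `δ(Γ) ∉ Γ`, then
`Γ ↦ insert δ(Γ) Γ` is a surjection from the `(k-1)`-sets onto the `k`-sets, which is impossible
for `2k ≤ n`.
-/

set_option autoImplicit false

namespace Cfsg.Agent.Lib.Helper1.LW

variable {α : Type*} [Fintype α] [DecidableEq α] {G : Subgroup (Equiv.Perm α)} {k : ℕ}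

namespace BIV

omit [Fintype α] [DecidableEq α] in
theorem inv_app (t : Equiv.Perm α) (x : α) : t⁻¹ (t x) = x := t.symm_apply_apply x

omit [Fintype α] [DecidableEq α] in
theorem app_inv (t : Equiv.Perm α) (x : α) : t (t⁻¹ x) = x := t.apply_symm_apply x

/-- the points of `Γ` moved by `g` -/
def supp (Γ : Finset α) (g : Equiv.Perm α) : Finset α := Γ.filter (fun x => g x ≠ x)

omit [Fintype α] in
theorem mem_supp {Γ : Finset α} {g : Equiv.Perm α} {x : α} :
    x ∈ supp Γ g ↔ x ∈ Γ ∧ g x ≠ x := by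
  rw [supp, Finset.mem_filter]

/-- an element of type `(a b)(c d)` on `Γ` is a double transposition with support `{a,b,c,d}` -/
theorem isDT_of_type (h : Cfg G k) {Γ : Finset α} (hΓ : Γ.card + 1 = k) {a b c d : α}
    (ha : a ∈ Γ) (hb : b ∈ Γ) (hc : c ∈ Γ) (hd : d ∈ Γ)
    (hab : a ≠ b) (hac : a ≠ c) (had : a ≠ d) (hbc : b ≠ c) (hbd : b ≠ d) (hcd : c ≠ d)
    {g : Equiv.Perm α} (hg : g ∈ G) (hfix : FixOn g (Γ \ {a, b, c, d})) (h1 : Swaps g a b)
    (h2 : Swaps g c d) : IsDT G Γ g ∧ supp Γ g = {a, b, c, d} := by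
  have hval : ∀ x ∈ Γ, (x = a ∧ g x = b) ∨ (x = b ∧ g x = a) ∨ (x = c ∧ g x = d) ∨
      (x = d ∧ g x = c) ∨ (x ∉ ({a, b, c, d} : Finset α) ∧ g x = x) := by
    intro x hx
    by_cases hxa : x = a
    · exact Or.inl ⟨hxa, hxa ▸ h1.1⟩
    by_cases hxb : x = b
    · exact Or.inr (Or.inl ⟨hxb, hxb ▸ h1.2⟩)
    by_cases hxc : x = c
    · exact Or.inr (Or.inr (Or.inl ⟨hxc, hxc ▸ h2.1⟩))
    by_cases hxd : x = d
    · exact Or.inr (Or.inr (Or.inr (Or.inl ⟨hxd, hxd ▸ h2.2⟩)))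
    have hn : x ∉ ({a, b, c, d} : Finset α) := by
      simp only [Finset.mem_insert, Finset.mem_singleton, not_or]
      exact ⟨hxa, hxb, hxc, hxd⟩
    exact Or.inr (Or.inr (Or.inr (Or.inr ⟨hn, hfix x (Finset.mem_sdiff.mpr ⟨hx, hn⟩)⟩)))
  have hgg : g * g = 1 := by
    apply h.eq_one_of_fixOn (G.mul_mem hg hg) (S := Γ) (by omega)
    intro x hx
    rw [Equiv.Perm.mul_apply]
    rcases hval x hx with ⟨rfl, hx'⟩ | ⟨rfl, hx'⟩ | ⟨rfl, hx'⟩ | ⟨rfl, hx'⟩ | ⟨_, hx'⟩
    · rw [hx', h1.2]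
    · rw [hx', h1.1]
    · rw [hx', h2.2]
    · rw [hx', h2.1]
    · rw [hx', hx']
  have hstab : ∀ x ∈ Γ, g x ∈ Γ := by
    intro x hx
    rcases hval x hx with ⟨_, hx'⟩ | ⟨_, hx'⟩ | ⟨_, hx'⟩ | ⟨_, hx'⟩ | ⟨_, hx'⟩ <;> rw [hx'] <;>
      assumption
  have hsupp : supp Γ g = {a, b, c, d} := by
    ext x
    rw [mem_supp]
    constructor
    · rintro ⟨hx, hne⟩
      rcases hval x hx with ⟨rfl, _⟩ | ⟨rfl, _⟩ | ⟨rfl, _⟩ | ⟨rfl, _⟩ | ⟨_, hx'⟩
      · simp
      · simp
      · simp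
      · simp
      · exact absurd hx' hne
    · intro hx
      simp only [Finset.mem_insert, Finset.mem_singleton] at hx
      rcases hx with rfl | rfl | rfl | rfl
      · exact ⟨ha, by rw [h1.1]; exact hab.symm⟩
      · exact ⟨hb, by rw [h1.2]; exact hab⟩
      · exact ⟨hc, by rw [h2.1]; exact hcd.symm⟩
      · exact ⟨hd, by rw [h2.2]; exact hcd⟩
  refine ⟨⟨hg, hgg, hstab, ?_⟩, hsupp⟩
  have : Γ.filter (fun x => g x ≠ x) = {a, b, c, d} := hsupp
  rw [this]
  rw [Finset.card_insert_of_notMem, Finset.card_insert_of_notMem, Finset.card_insert_of_notMem,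
    Finset.card_singleton]
  · simp only [Finset.mem_singleton]; exact hcd
  · simp only [Finset.mem_insert, Finset.mem_singleton, not_or]; exact ⟨hbc, hbd⟩
  · simp only [Finset.mem_insert, Finset.mem_singleton, not_or]; exact ⟨hab, hac, had⟩

omit [Fintype α] in
/-- four distinct elements in a finset with at least four elements -/
theorem exists_four {Γ : Finset α} (h4 : 4 ≤ Γ.card) :
    ∃ a ∈ Γ, ∃ b ∈ Γ, ∃ c ∈ Γ, ∃ d ∈ Γ, a ≠ b ∧ a ≠ c ∧ a ≠ d ∧ b ≠ c ∧ b ≠ d ∧ c ≠ d := by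
  obtain ⟨S, hS, hc⟩ := Finset.exists_subset_card_eq h4
  obtain ⟨a, haS⟩ : S.Nonempty := by rw [← Finset.card_pos, hc]; norm_num
  have h3 : (S.erase a).card = 3 := by rw [Finset.card_erase_of_mem haS, hc]
  obtain ⟨b, c, d, hbc, hbd, hcd, hE⟩ := Finset.card_eq_three.mp h3
  have hb : b ∈ S.erase a := by rw [hE]; simp
  have hc' : c ∈ S.erase a := by rw [hE]; simp
  have hd : d ∈ S.erase a := by rw [hE]; simp
  rw [Finset.mem_erase] at hb hc' hd
  exact ⟨a, hS haS, b, hS hb.2, c, hS hc'.2, d, hS hd.2, hb.1.symm, hc'.1.symm, hd.1.symm,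
    hbc, hbd, hcd⟩

/-- `δ` is a common fixed point outside `Γ` of all double transpositions of `Γ` -/
def IsCF (G : Subgroup (Equiv.Perm α)) (Γ : Finset α) (δ : α) : Prop :=
  δ ∉ Γ ∧ ∀ g, IsDT G Γ g → g δ = δ

theorem IsCF.unique (h : Cfg G k) (bk : BK G k) (hk5 : 5 ≤ k) {Γ : Finset α}
    (hΓ : Γ.card + 1 = k) {δ₁ δ₂ : α} (h1 : IsCF G Γ δ₁) (h2 : IsCF G Γ δ₂) : δ₁ = δ₂ := by
  obtain ⟨a, ha, b, hb, c, hc, d, hd, hab, hac, had, hbc, hbd, hcd⟩ :=
    exists_four (Γ := Γ) (by omega)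
  obtain ⟨g, hg, hfix, hs1, hs2⟩ := bk.dt_exists Γ hΓ a ha b hb c hc d hd hab hac had hbc hbd hcd
  have hdt := (isDT_of_type h hΓ ha hb hc hd hab hac had hbc hbd hcd hg hfix hs1 hs2).1
  obtain ⟨δ, _, _, huniq⟩ := bk.dt_fix Γ hΓ g hdt
  rw [huniq δ₁ h1.1 (h1.2 g hdt), huniq δ₂ h2.1 (h2.2 g hdt)]

omit [Fintype α] in
theorem IsCF.image {Γ : Finset α} {δ : α} (hcf : IsCF G Γ δ) {t : Equiv.Perm α} (ht : t ∈ G) :
    IsCF G (Γ.image t) (t δ) := by
  refine ⟨?_, ?_⟩
  · intro hmem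
    rw [Finset.mem_image] at hmem
    obtain ⟨x, hx, hxe⟩ := hmem
    exact hcf.1 (t.injective hxe ▸ hx)
  · intro g' hg'
    obtain ⟨hg'G, hg'sq, hg'stab, hg'card⟩ := hg'
    have hdt : IsDT G Γ (t⁻¹ * g' * t) := by
      refine ⟨G.mul_mem (G.mul_mem (G.inv_mem ht) hg'G) ht, ?_, ?_, ?_⟩
      · calc t⁻¹ * g' * t * (t⁻¹ * g' * t) = t⁻¹ * (g' * g') * t := by group
          _ = 1 := by rw [hg'sq]; group
      · intro x hx
        have h1 : g' (t x) ∈ Γ.image t := hg'stab _ (Finset.mem_image_of_mem t hx)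
        rw [Finset.mem_image] at h1
        obtain ⟨y, hy, hye⟩ := h1
        have : (t⁻¹ * g' * t) x = y := by
          rw [Equiv.Perm.mul_apply, Equiv.Perm.mul_apply, ← hye, inv_app]
        rw [this]
        exact hy
      · rw [← hg'card]
        apply Finset.card_bij (fun x _ => t x)
        · intro x hx
          rw [Finset.mem_filter] at hx ⊢
          refine ⟨Finset.mem_image_of_mem t hx.1, ?_⟩
          intro he
          apply hx.2
          rw [Equiv.Perm.mul_apply, Equiv.Perm.mul_apply, he, inv_app]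
        · intro x _ y _ hxy
          exact t.injective hxy
        · intro y hy
          rw [Finset.mem_filter, Finset.mem_image] at hy
          obtain ⟨⟨x, hx, rfl⟩, hne⟩ := hy
          refine ⟨x, ?_, rfl⟩
          rw [Finset.mem_filter]
          refine ⟨hx, ?_⟩
          intro he
          apply hne
          rw [Equiv.Perm.mul_apply, Equiv.Perm.mul_apply, Equiv.Perm.inv_eq_iff_eq] at he
          exact he
    have := hcf.2 _ hdt
    rw [Equiv.Perm.mul_apply, Equiv.Perm.mul_apply, Equiv.Perm.inv_eq_iff_eq] at this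
    exact this

end BIV

open BIV in
theorem false_of_common_fix (h : Cfg G k) (w : WK G k) (bk : BK G k) (hk5 : 5 ≤ k)
    (hδ : ∀ Γ : Finset α, Γ.card + 1 = k → ∃ δ, δ ∉ Γ ∧ ∀ g, IsDT G Γ g → g δ = δ) : False := by
  classical
  have hkn := h.hkn
  let f : Finset α → Finset α := fun Γ =>
    if hΓ : Γ.card + 1 = k then insert (Classical.choose (hδ Γ hΓ)) Γ else Γ
  -- a reference `(k-1)`-set
  obtain ⟨Γ₀, _, hΓ₀c⟩ := Finset.exists_subset_card_eq (s := (Finset.univ : Finset α))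
    (n := k - 1) (by rw [Finset.card_univ]; omega)
  have hΓ₀ : Γ₀.card + 1 = k := by omega
  obtain ⟨δ₀, hδ₀⟩ := hδ Γ₀ hΓ₀
  have hcf₀ : IsCF G Γ₀ δ₀ := hδ₀
  have hΔ₀ : (insert δ₀ Γ₀).card = k := by
    rw [Finset.card_insert_of_notMem hδ₀.1]
    exact hΓ₀
  have hsurj : ∀ Δ ∈ Finset.powersetCard k (Finset.univ : Finset α),
      ∃ Γ ∈ Finset.powersetCard (k - 1) (Finset.univ : Finset α), f Γ = Δ := by
    intro Δ hΔ
    rw [Finset.mem_powersetCard] at hΔ
    obtain ⟨t, ht, htΔ⟩ := w.conj0 (insert δ₀ Γ₀) Δ hΔ₀ hΔ.2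
    have hcard : (Γ₀.image t).card + 1 = k := by
      rw [Finset.card_image_of_injective _ t.injective]
      exact hΓ₀
    refine ⟨Γ₀.image t, ?_, ?_⟩
    · rw [Finset.mem_powersetCard]
      exact ⟨Finset.subset_univ _, by omega⟩
    · have hcf : IsCF G (Γ₀.image t) (t δ₀) := hcf₀.image ht
      have hch : IsCF G (Γ₀.image t) (Classical.choose (hδ (Γ₀.image t) hcard)) :=
        Classical.choose_spec (hδ (Γ₀.image t) hcard)
      have heq : Classical.choose (hδ (Γ₀.image t) hcard) = t δ₀ :=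
        IsCF.unique h bk hk5 hcard hch hcf
      have hf : f (Γ₀.image t) = insert (t δ₀) (Γ₀.image t) := by
        simp only [f]
        rw [dif_pos hcard, heq]
      rw [hf]
      ext y
      constructor
      · intro hy
        rw [Finset.mem_insert, Finset.mem_image] at hy
        rcases hy with rfl | ⟨x, hx, rfl⟩
        · exact (htΔ δ₀).mp (Finset.mem_insert_self _ _)
        · exact (htΔ x).mp (Finset.mem_insert_of_mem hx)
      · intro hy
        have h1 : t⁻¹ y ∈ insert δ₀ Γ₀ := by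
          rw [htΔ, app_inv]
          exact hy
        rw [Finset.mem_insert] at h1
        rw [Finset.mem_insert, Finset.mem_image]
        rcases h1 with h1 | h1
        · left
          rw [← h1, app_inv]
        · right
          exact ⟨t⁻¹ y, h1, app_inv t y⟩
  have hle := Finset.card_le_card_of_surjOn f (by
    intro Δ hΔ
    obtain ⟨Γ, hΓ, hfΓ⟩ := hsurj Δ hΔ
    exact ⟨Γ, hΓ, hfΓ⟩)
  rw [Finset.card_powersetCard, Finset.card_powersetCard, Finset.card_univ] at hle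
  -- numerics
  have hch := Nat.choose_succ_right_eq (Fintype.card α) (k - 1)
  have hk1 : k - 1 + 1 = k := by omega
  rw [hk1] at hch
  have hpos : 0 < (Fintype.card α).choose (k - 1) := Nat.choose_pos (by omega)
  have h1 : (Fintype.card α).choose k * k ≤ (Fintype.card α).choose (k - 1) * k :=
    Nat.mul_le_mul_right k hle
  rw [hch] at h1
  have h2 : Fintype.card α - (k - 1) ≤ k := Nat.le_of_mul_le_mul_left h1 hpos
  omega

end Cfsg.Agent.Lib.Helper1.LW
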