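import Mathlib
import Cfsg.Agent.Lib.Helper1.LW.Defs2
import Cfsg.Agent.Lib.Helper2.LW_N
import Cfsg.Agent.Lib.Helper2.TupleConn

/-!
# Livingstone–Wagner, second statement (S0745): package N2

The numerical invariants `r`, `s` for a `Cfg2`, together with the orders of the set stabilisers
of `(k-1)`-sets and `k`-sets (`NK2.hE`, `NK2.hD`).  Copy of helper2's `LW_N` (whose `Cfg`-free
lemmas are reused) with `Cfg2` instead of `Cfg`.
-/

set_option autoImplicit false
open scoped Pointwise

namespace Cfsg.Agent.Lib.Helper1.LW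

variable {α : Type*} [Fintype α] [DecidableEq α] {G : Subgroup (Equiv.Perm α)} {k : ℕ}

/-- the pointwise stabiliser of `k-2` points acts freely on the other points -/
theorem nk_free2 (h : Cfg2 G k) (Γ : Finset α) (hΓ : Γ.card + 2 = k)
    (u : G) (hu : u ∈ fixingSubgroup G (Γ : Set α)) (x : α) (hx : x ∉ Γ)
    (hux : (u : Equiv.Perm α) x = x) : u = 1 := by
  have hfix : FixOn (u : Equiv.Perm α) (insert x Γ) := ((nk_mem_fix Γ u).mp hu).insert hux
  have hcard : (insert x Γ).card = k - 1 := by
    rw [Finset.card_insert_of_notMem hx]; omega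
  have := h.free _ u.2 _ hcard hfix
  exact Subtype.ext this

theorem nk_orbits2 (h : Cfg2 G k) (Γ : Finset α) (hΓ : Γ.card + 2 = k) :
    nkOrb G Γ * Nat.card (fixingSubgroup G (Γ : Set α)) = Fintype.card α + 2 - k := by
  have hstab : ∀ b : SubMulAction.ofFixingSubgroup G (Γ : Set α),
      MulAction.stabilizer (fixingSubgroup G (Γ : Set α)) b = ⊥ := by
    intro b
    rw [eq_bot_iff]
    intro u hu
    rw [Subgroup.mem_bot]
    have hb : (b : α) ∉ Γ := fun hmem => b.2 (Finset.mem_coe.mpr hmem)
    have hub : ((u : G) : Equiv.Perm α) (b : α) = (b : α) := by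
      have := congrArg Subtype.val (MulAction.mem_stabilizer_iff.mp hu)
      exact this
    have := nk_free2 h Γ hΓ (u : G) u.2 (b : α) hb hub
    exact Subtype.ext this
  have e := MulAction.selfEquivOrbitsQuotientProd hstab
  have hc := Nat.card_congr e
  rw [Nat.card_prod, nk_card_compl] at hc
  unfold nkOrb
  rw [← hc]
  omega

theorem nk_exists_set2 (h : Cfg2 G k) : ∃ Γ₀ : Finset α, Γ₀.card + 2 = k := by
  have hk := h.hk
  have hkn := h.hkn
  obtain ⟨Γ₀, -, hΓ₀⟩ := Finset.exists_subset_card_eq (s := (Finset.univ : Finset α))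
    (n := k - 2) (by rw [Finset.card_univ]; omega)
  exact ⟨Γ₀, by omega⟩

/-- the order of `G` -/
theorem nk_card_G2 (h : Cfg2 G k) (Γ : Finset α) (hΓ : Γ.card + 2 = k) :
    Nat.card G * (Fintype.card α + 2 - k).factorial =
      Nat.card (fixingSubgroup G (Γ : Set α)) * (Fintype.card α).factorial := by
  have hk := h.hk
  have htr : MulAction.IsMultiplyPretransitive G α (k - 2) := h.trans
  have hnc : (Γ : Set α).ncard = k - 2 := by rw [Set.ncard_coe_finset]; omega
  have h1 := htr.index_of_fixingSubgroup_mul hnc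
  rw [Nat.card_eq_fintype_card] at h1
  have h2 := Subgroup.card_mul_index (fixingSubgroup G (Γ : Set α))
  have h3 : Fintype.card α - (k - 2) = Fintype.card α + 2 - k := by omega
  rw [h3] at h1
  rw [← h2, mul_assoc, h1]

omit [Fintype α] in
/-- `g • S = S` in terms of membership -/
theorem nk_smul_eq_iff2 (g : G) (S : Finset α) :
    g • S = S ↔ ∀ x, x ∈ S ↔ (g : Equiv.Perm α) x ∈ S := by
  constructor
  · intro h1 x
    constructor
    · intro hx
      have : g • x ∈ g • S := Finset.smul_mem_smul_finset hx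
      rw [h1] at this
      exact this
    · intro hx
      rw [← h1, Finset.mem_smul_finset] at hx
      obtain ⟨y, hy, hyx⟩ := hx
      have : y = x := by
        have h2 : (g : Equiv.Perm α) y = (g : Equiv.Perm α) x := hyx
        exact (g : Equiv.Perm α).injective h2
      rw [← this]; exact hy
  · intro h1
    ext y
    rw [Finset.mem_smul_finset]
    constructor
    · rintro ⟨x, hx, rfl⟩
      exact (h1 x).mp hx
    · intro hy
      refine ⟨(g : Equiv.Perm α)⁻¹ y, ?_, ?_⟩
      · rw [h1]
        have : (g : Equiv.Perm α) ((g : Equiv.Perm α)⁻¹ y) = y := by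
          rw [← Equiv.Perm.mul_apply, mul_inv_cancel, Equiv.Perm.one_apply]
        rw [this]; exact hy
      · show (g : Equiv.Perm α) ((g : Equiv.Perm α)⁻¹ y) = y
        rw [← Equiv.Perm.mul_apply, mul_inv_cancel, Equiv.Perm.one_apply]

/-- orbit-stabiliser for homogeneous actions, with the set stabiliser `setStab` -/
theorem nk_card_setStab2 (G : Subgroup (Equiv.Perm α)) {j : ℕ}
    (hh : MulAction.IsPretransitive G (Set.powersetCard α j)) (S : Finset α) (hS : S.card = j) :
    Nat.card G = Nat.card (setStab G S) * (Fintype.card α).choose j := by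
  let S' : Set.powersetCard α j := ⟨S, Set.powersetCard.mem_iff.mpr hS⟩
  have h1 := MulAction.index_stabilizer_of_transitive G S'
  have h2 := Subgroup.card_mul_index (MulAction.stabilizer G S')
  rw [h1, Set.powersetCard.card] at h2
  rw [Nat.card_eq_fintype_card (α := α)] at h2
  have hmem : ∀ u : G, u ∈ MulAction.stabilizer G S' ↔
      ∀ x, x ∈ S ↔ (u : Equiv.Perm α) x ∈ S := by
    intro u
    rw [MulAction.mem_stabilizer_iff, ← nk_smul_eq_iff2 u S]
    constructor
    · intro hu
      exact congrArg Subtype.val hu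
    · intro hu
      exact Subtype.ext hu
  have h3 : Nat.card (MulAction.stabilizer G S') = Nat.card (setStab G S) := by
    refine Nat.card_congr
      { toFun := fun u => ⟨((u : G) : Equiv.Perm α), ⟨(u : G).2, (hmem (u : G)).mp u.2⟩⟩
        invFun := fun v => ⟨⟨(v : Equiv.Perm α), v.2.1⟩, (hmem _).mpr v.2.2⟩
        left_inv := fun u => rfl
        right_inv := fun v => rfl }
  rw [← h3, h2]

/-- arithmetic behind `hE` -/
theorem nk_arithE2 {n k r s N e : ℕ} (hk : 3 ≤ k) (hkn : k + 1 ≤ n) (hs : 0 < s)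
    (hrs : r * s = n + 2 - k)
    (hN : N * (n + 2 - k).factorial = s * n.factorial)
    (he : N = e * n.choose (k - 1)) :
    e * r = (k - 1).factorial := by
  obtain ⟨m, hm⟩ : ∃ m, n + 2 - k = m + 2 := ⟨n - k, by omega⟩
  have hm1 : n - (k - 1) = m + 1 := by omega
  have c1 := Nat.choose_mul_factorial_mul_factorial (n := n) (k := k - 1) (by omega)
  rw [hm1] at c1
  rw [hm] at hN hrs
  have f2 : (m + 2).factorial = (m + 2) * (m + 1).factorial := Nat.factorial_succ (m + 1)
  have hC1 : 0 < n.choose (k - 1) := Nat.choose_pos (by omega)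
  have hf1 : 0 < (m + 1).factorial := Nat.factorial_pos _
  have h1 : e * (m + 2) = s * (k - 1).factorial := by
    have : (e * (m + 2)) * (n.choose (k - 1) * (m + 1).factorial) =
        (s * (k - 1).factorial) * (n.choose (k - 1) * (m + 1).factorial) := by
      calc (e * (m + 2)) * (n.choose (k - 1) * (m + 1).factorial)
          = (e * n.choose (k - 1)) * ((m + 2) * (m + 1).factorial) := by ring
        _ = N * (m + 2).factorial := by rw [← he, ← f2]
        _ = s * n.factorial := hN
        _ = s * (n.choose (k - 1) * (k - 1).factorial * (m + 1).factorial) := by rw [c1]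
        _ = (s * (k - 1).factorial) * (n.choose (k - 1) * (m + 1).factorial) := by ring
    exact Nat.eq_of_mul_eq_mul_right (Nat.mul_pos hC1 hf1) this
  rw [← hrs] at h1
  have : (e * r) * s = (k - 1).factorial * s := by
    calc (e * r) * s = e * (r * s) := by ring
      _ = s * (k - 1).factorial := h1
      _ = (k - 1).factorial * s := by ring
  exact Nat.eq_of_mul_eq_mul_right hs this

/-- arithmetic behind `hD` -/
theorem nk_arithD2 {n k r s N d : ℕ} (hk : 3 ≤ k) (hkn : k + 1 ≤ n) (hs : 0 < s)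
    (hrs : r * s = n + 2 - k)
    (hN : N * (n + 2 - k).factorial = s * n.factorial)
    (hd : N = d * n.choose k) :
    d * r * (n + 1 - k) = k.factorial := by
  obtain ⟨m, hm⟩ : ∃ m, n + 2 - k = m + 2 := ⟨n - k, by omega⟩
  have hm2 : n - k = m := by omega
  have hm3 : n + 1 - k = m + 1 := by omega
  have c2 := Nat.choose_mul_factorial_mul_factorial (n := n) (k := k) (by omega)
  rw [hm2] at c2
  rw [hm] at hN hrs
  have f2 : (m + 2).factorial = (m + 2) * (m + 1).factorial := Nat.factorial_succ (m + 1)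
  have f1 : (m + 1).factorial = (m + 1) * m.factorial := Nat.factorial_succ m
  have hC2 : 0 < n.choose k := Nat.choose_pos (by omega)
  have hf0 : 0 < m.factorial := Nat.factorial_pos _
  have h1 : d * ((m + 2) * (m + 1)) = s * k.factorial := by
    have : (d * ((m + 2) * (m + 1))) * (n.choose k * m.factorial) =
        (s * k.factorial) * (n.choose k * m.factorial) := by
      calc (d * ((m + 2) * (m + 1))) * (n.choose k * m.factorial)
          = (d * n.choose k) * ((m + 2) * ((m + 1) * m.factorial)) := by ring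
        _ = N * (m + 2).factorial := by rw [← hd, ← f1, ← f2]
        _ = s * n.factorial := hN
        _ = s * (n.choose k * k.factorial * m.factorial) := by rw [c2]
        _ = (s * k.factorial) * (n.choose k * m.factorial) := by ring
    exact Nat.eq_of_mul_eq_mul_right (Nat.mul_pos hC2 hf0) this
  rw [← hrs] at h1
  rw [hm3]
  have : (d * r * (m + 1)) * s = k.factorial * s := by
    calc (d * r * (m + 1)) * s = d * ((r * s) * (m + 1)) := by ring
      _ = s * k.factorial := h1
      _ = k.factorial * s := by ring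
  exact Nat.eq_of_mul_eq_mul_right hs this

theorem nk2_of_cfg2 (h : Cfg2 G k) (w : WK G k) : ∃ r s : ℕ, NK2 G k r s := by
  have hk := h.hk
  have hkn := h.hkn
  obtain ⟨Γ₀, hΓ₀⟩ := nk_exists_set2 h
  obtain ⟨s, hs⟩ : ∃ s, s = Nat.card (fixingSubgroup G (Γ₀ : Set α)) := ⟨_, rfl⟩
  obtain ⟨r, hr⟩ : ∃ r, r = nkOrb G Γ₀ := ⟨_, rfl⟩
  have hs_all : ∀ Γ : Finset α, Γ.card + 2 = k →
      Nat.card (fixingSubgroup G (Γ : Set α)) = s := by
    intro Γ hΓ
    obtain ⟨g, hgG, hg⟩ := w.conj2 Γ Γ₀ hΓ hΓ₀
    rw [hs]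
    exact nk_card_fix_of_map G g hgG Γ Γ₀ hg
  have hspos : 0 < s := by rw [hs]; exact Nat.card_pos
  have hrs0 : r * s = Fintype.card α + 2 - k := by rw [hr, hs]; exact nk_orbits2 h Γ₀ hΓ₀
  have hN : Nat.card G * (Fintype.card α + 2 - k).factorial = s * (Fintype.card α).factorial := by
    rw [hs]; exact nk_card_G2 h Γ₀ hΓ₀
  refine ⟨r, s, ⟨hs_all, ?_, ?_, ?_, ?_, ?_, hN⟩⟩
  · -- hpow
    intro g hg Γ hΓ hfix
    have hmem : (⟨g, hg⟩ : G) ∈ fixingSubgroup G (Γ : Set α) := (nk_mem_fix Γ ⟨g, hg⟩).mpr hfix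
    have h1 : (⟨⟨g, hg⟩, hmem⟩ : fixingSubgroup G (Γ : Set α)) ^
        Nat.card (fixingSubgroup G (Γ : Set α)) = 1 := pow_card_eq_one'
    rw [hs_all Γ hΓ] at h1
    have h2 := congrArg (fun u : fixingSubgroup G (Γ : Set α) => ((u : G) : Equiv.Perm α)) h1
    simpa using h2
  · -- hrs
    have : s * r = Fintype.card α + 2 - k := by rw [mul_comm]; exact hrs0
    omega
  · -- hr
    by_contra hlt
    have hr1' : r = 1 := by
      have : r ≠ 0 := by
        intro h0
        rw [h0, zero_mul] at hrs0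
        omega
      omega
    -- every pointwise stabiliser of k-2 points is transitive on the complement
    have hall : ∀ Γ : Finset α, Γ.card + 2 = k → nkOrb G Γ = 1 := by
      intro Γ hΓ
      have h1 := nk_orbits2 h Γ hΓ
      rw [hs_all Γ hΓ, ← hrs0, hr1', one_mul] at h1
      have : nkOrb G Γ * s = 1 * s := by rw [h1, one_mul]
      exact Nat.eq_of_mul_eq_mul_right hspos this
    apply h.ntrans
    apply Cfsg.Agent.Lib.Helper2.TupleConn.isMultiplyPretransitive_of_step G (by omega)
    intro x i v hv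
    obtain ⟨Γ, hΓdef⟩ : ∃ Γ : Finset α, Γ = (Finset.univ.erase i).image x := ⟨_, rfl⟩
    have hΓcard : Γ.card + 2 = k := by
      rw [hΓdef, Finset.card_image_of_injective _ x.injective, Finset.card_erase_of_mem
        (Finset.mem_univ i), Finset.card_univ, Fintype.card_fin]
      omega
    have hxi : x i ∉ Γ := by
      rw [hΓdef, Finset.mem_image]
      rintro ⟨j, hj, hji⟩
      exact (Finset.mem_erase.mp hj).1 (x.injective hji)
    have hvΓ : v ∉ Γ := by
      rw [hΓdef, Finset.mem_image]
      rintro ⟨j, -, hjv⟩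
      exact hv ⟨j, hjv⟩
    obtain ⟨g, hgG, hfix, hgx⟩ := nk_trans_of_one Γ (hall Γ hΓcard) (x i) v hxi hvΓ
    refine ⟨g, hgG, hgx, fun j hj => hfix _ ?_⟩
    rw [hΓdef]
    exact Finset.mem_image.mpr ⟨j, Finset.mem_erase.mpr ⟨hj, Finset.mem_univ j⟩, rfl⟩
  · -- hE
    intro Γ hΓ
    have he := nk_card_setStab2 G h.homog1 Γ (by omega)
    exact nk_arithE2 hk hkn hspos hrs0 hN he
  · -- hD
    intro Δ hΔ
    have hd := nk_card_setStab2 G h.homog Δ hΔ
    exact nk_arithD2 hk hkn hspos hrs0 hN hd

theorem odd_s2 {r s : ℕ} (h : Cfg2 G k) (sk : SK G k) (nk : NK2 G k r s) : Odd s := by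
  by_contra hodd
  have heven : 2 ∣ s := by
    rcases Nat.even_or_odd s with he | ho
    · exact even_iff_two_dvd.mp he
    · exact absurd ho hodd
  obtain ⟨Γ₀, hΓ₀⟩ := nk_exists_set2 h
  have : Fact (Nat.Prime 2) := ⟨Nat.prime_two⟩
  rw [← nk.hs Γ₀ hΓ₀] at heven
  obtain ⟨u, hu⟩ := exists_prime_orderOf_dvd_card' 2 heven
  have hu2 : u ^ 2 = 1 := by rw [← hu]; exact pow_orderOf_eq_one u
  have hu1 : u ≠ 1 := by
    intro h1
    rw [h1, orderOf_one] at hu
    omega
  apply sk.noInv (((u : G) : Equiv.Perm α)) (u : G).2 ?_ ?_ Γ₀ hΓ₀ ((nk_mem_fix Γ₀ (u : G)).mp u.2)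
  · intro h1
    apply hu1
    apply Subtype.ext
    apply Subtype.ext
    exact h1
  · have := congrArg (fun v : fixingSubgroup G (Γ₀ : Set α) => ((v : G) : Equiv.Perm α)) hu2
    simpa [pow_two] using this

end Cfsg.Agent.Lib.Helper1.LW
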