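import Mathlib
import Cfsg.Prelude.Def_Solvable
import Cfsg.Agent.S4204

set_option autoImplicit false

namespace Cfsg.Agent.Lib.Helper8

/-- Fitting: the join of two normal nilpotent subgroups of a finite group is nilpotent. -/
theorem sup_isNilpotent {G : Type*} [Group G] [Finite G] (H K : Subgroup G) [H.Normal] [K.Normal]
    (hH : Group.IsNilpotent H) (hK : Group.IsNilpotent K) : Group.IsNilpotent (H ⊔ K : Subgroup G) := by
  rw [Subgroup.isNilpotent_iff_lowerCentralSeries] at hH hK ⊢
  obtain ⟨c, hc⟩ := hH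
  obtain ⟨d, hd⟩ := hK
  exact ⟨c + d, Cfsg.Agent.S4204.result H K c d hc hd⟩

/-- The Fitting subgroup of a finite group is normal and nilpotent. -/
theorem fittingSubgroup_normal_nilpotent (G : Type*) [Group G] [Finite G] :
    (Cfsg.fittingSubgroup G).Normal ∧ Group.IsNilpotent (Cfsg.fittingSubgroup G) := by
  have hsup : SupClosed {N : Subgroup G | N.Normal ∧ Group.IsNilpotent N} := by
    intro H hH K hK
    obtain ⟨hHn, hHnil⟩ := hH
    obtain ⟨hKn, hKnil⟩ := hK
    exact ⟨inferInstance, sup_isNilpotent H K hHnil hKnil⟩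
  have hbot : (⊥ : Subgroup G) ∈ {N : Subgroup G | N.Normal ∧ Group.IsNilpotent N} :=
    ⟨inferInstance, inferInstance⟩
  exact hsup.sSup_mem (Set.toFinite _) hbot le_rfl

instance fittingSubgroup_normal (G : Type*) [Group G] : (Cfsg.fittingSubgroup G).Normal :=
  Subgroup.sSup_normal _ (fun _ h => h.1)

theorem le_fittingSubgroup {G : Type*} [Group G] (N : Subgroup G) [N.Normal]
    (hN : Group.IsNilpotent N) : N ≤ Cfsg.fittingSubgroup G :=
  le_sSup ⟨inferInstance, hN⟩

/-- In a nilpotent group, every subgroup is subnormal. -/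
theorem isSubnormal_of_isNilpotent {G : Type*} [Group G] [hG : Group.IsNilpotent G]
    (S : Subgroup G) : S.IsSubnormal := by
  obtain ⟨c, hc⟩ := hG.nilpotent'
  rw [Subgroup.IsSubnormal.isSubnormal_iff]
  refine ⟨c, fun i => S ⊔ Subgroup.upperCentralSeries G i, ?_, ?_, ?_, ?_⟩
  · intro i j hij
    exact sup_le_sup_left (Subgroup.upperCentralSeries_mono G hij) S
  · intro i
    rw [Subgroup.normal_subgroupOf_iff_le_normalizer
      (sup_le_sup_left (Subgroup.upperCentralSeries_mono G (Nat.le_succ i)) S)]
    apply sup_le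
    · exact le_trans le_sup_left Subgroup.le_normalizer
    · -- Z_{i+1} normalizes any K ≥ Z_i
      set K := S ⊔ Subgroup.upperCentralSeries G i with hK
      have hZK : Subgroup.upperCentralSeries G i ≤ K := le_sup_right
      have key : ∀ z ∈ Subgroup.upperCentralSeries G (i + 1), ∀ k ∈ K, z * k * z⁻¹ ∈ K := by
        intro z hz k hk
        have h1 : z * k * z⁻¹ * k⁻¹ ∈ K := hZK (Subgroup.mem_upperCentralSeries_succ_iff.mp hz k)
        have : z * k * z⁻¹ = (z * k * z⁻¹ * k⁻¹) * k := by group
        rw [this]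
        exact K.mul_mem h1 hk
      intro z hz
      rw [Subgroup.mem_normalizer_iff]
      intro k
      constructor
      · exact key z hz k
      · intro hk
        have := key z⁻¹ (Subgroup.inv_mem _ hz) _ hk
        have e : z⁻¹ * (z * k * z⁻¹) * z⁻¹⁻¹ = k := by group
        rwa [e] at this
  · simp
  · simp [hc]

/-- Any subgroup of the Fitting subgroup of a finite group is subnormal. -/
theorem isSubnormal_of_le_fittingSubgroup {G : Type*} [Group G] [Finite G] (S : Subgroup G)
    (hS : S ≤ Cfsg.fittingSubgroup G) : S.IsSubnormal := by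
  obtain ⟨hn, hnil⟩ := fittingSubgroup_normal_nilpotent G
  have h1 : (S.subgroupOf (Cfsg.fittingSubgroup G)).IsSubnormal :=
    isSubnormal_of_isNilpotent _
  exact Subgroup.IsSubnormal.trans hS h1 hn.isSubnormal

end Cfsg.Agent.Lib.Helper8
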