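import Mathlib

set_option autoImplicit false

/-! S4409: "small" 2-groups (no abelian non-cyclic subgroup of order 8): definitions and the basic
constructions of bad subgroups. Everything lives inside one ambient group `G`. -/

namespace Cfsg.Agent.Lib.Helper8.SmTwo

universe u

variable {G : Type u} [Group G]

/-- A *bad* subgroup: abelian, non-cyclic, of order `8`. -/
def Bad (A : Subgroup G) : Prop :=
  IsMulCommutative A ∧ ¬ IsCyclic A ∧ Nat.card A = 8

/-- `Y` is *small* when it contains no bad subgroup. -/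
def Small (Y : Subgroup G) : Prop :=
  ∀ A : Subgroup G, A ≤ Y → ¬ Bad A

theorem Small.mono {Y₁ Y₂ : Subgroup G} (h : Y₁ ≤ Y₂) (hs : Small Y₂) : Small Y₁ :=
  fun A hA => hs A (hA.trans h)

/-- an abelian subgroup of order `8` and exponent dividing `4` is bad -/
theorem bad_of_exp_four (A : Subgroup G) (hc : ∀ a ∈ A, ∀ b ∈ A, a * b = b * a)
    (h8 : Nat.card A = 8) (h4 : ∀ a ∈ A, a ^ 4 = 1) : Bad A := by
  refine ⟨⟨⟨fun a b => Subtype.ext (hc a a.2 b b.2)⟩⟩, ?_, h8⟩
  intro hcyc
  obtain ⟨g, hg⟩ := hcyc.exists_generator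
  have h1 : orderOf g = 8 := by
    rw [orderOf_eq_card_of_forall_mem_zpowers hg, h8]
  have h2 : g ^ 4 = 1 := Subtype.ext (by simpa using h4 g g.2)
  have h3 := orderOf_dvd_of_pow_eq_one h2
  rw [h1] at h3
  omega

/-- `|K ⟨z⟩ : K| = 2` when `z ∉ K` normalizes `K` and `z ^ 2 ∈ K` -/
theorem card_sup_zpowers_of_sq_mem [Finite G] (K : Subgroup G) (z : G)
    (hzn : z ∈ Subgroup.normalizer (K : Set G)) (hz : z ∉ K) (hz2 : z ^ 2 ∈ K) :
    Nat.card (K ⊔ Subgroup.zpowers z : Subgroup G) = 2 * Nat.card K := by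
  obtain ⟨L, hLdef⟩ : ∃ L : Subgroup G, L = Subgroup.normalizer (K : Set G) := ⟨_, rfl⟩
  have hKL : K ≤ L := by rw [hLdef]; exact Subgroup.le_normalizer
  have hZL : Subgroup.zpowers z ≤ L := by rw [hLdef, Subgroup.zpowers_le]; exact hzn
  have : (K.subgroupOf L).Normal := by rw [hLdef]; exact Subgroup.normal_in_normalizer
  have h1 := Subgroup.relIndex_sup_right ((Subgroup.zpowers z).subgroupOf L) (K.subgroupOf L)
  rw [← Subgroup.subgroupOf_sup hZL hKL, Subgroup.relIndex_subgroupOf (sup_le hZL hKL),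
    Subgroup.relIndex_subgroupOf hZL] at h1
  -- K.relIndex (zpowers z) = 2
  have h2 : K.relIndex (Subgroup.zpowers z) = 2 := by
    have hdvd : K.relIndex (Subgroup.zpowers z) ∣ 2 := by
      rw [Subgroup.relIndex]
      have : ((K.subgroupOf (Subgroup.zpowers z))).Normal := inferInstance
      rw [Subgroup.index_eq_card]
      have hgen : ∀ q : (↥(Subgroup.zpowers z) ⧸ K.subgroupOf (Subgroup.zpowers z)),
          q ∈ Subgroup.zpowers (QuotientGroup.mk (s := K.subgroupOf (Subgroup.zpowers z))
            ⟨z, Subgroup.mem_zpowers z⟩) := by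
        intro q
        induction q using QuotientGroup.induction_on with
        | H w =>
          obtain ⟨k, hk⟩ := Subgroup.mem_zpowers_iff.mp w.2
          refine Subgroup.mem_zpowers_iff.mpr ⟨k, ?_⟩
          rw [← QuotientGroup.mk_zpow]
          congr 1
          exact Subtype.ext hk
      rw [← orderOf_eq_card_of_forall_mem_zpowers hgen]
      apply orderOf_dvd_of_pow_eq_one
      rw [← QuotientGroup.mk_pow, QuotientGroup.eq_one_iff, Subgroup.mem_subgroupOf]
      exact hz2
    have hne : K.relIndex (Subgroup.zpowers z) ≠ 1 := by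
      intro h
      rw [Subgroup.relIndex_eq_one] at h
      exact hz (h (Subgroup.mem_zpowers z))
    rcases (Nat.dvd_prime Nat.prime_two).mp hdvd with h | h
    · exact absurd h hne
    · exact h
  rw [h2] at h1
  have h3 := Subgroup.relIndex_mul_relIndex (⊥ : Subgroup G) K (Subgroup.zpowers z ⊔ K)
    bot_le le_sup_right
  rw [Subgroup.relIndex_bot_left, Subgroup.relIndex_bot_left, h1] at h3
  rw [sup_comm, ← h3, mul_comm]

/-- (E') an abelian `B` of order `4` and exponent dividing `4`, and `z ∉ B` commuting with `B`,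
`z ^ 2 ∈ B`, `z ^ 4 = 1`: then `B ⟨z⟩` is bad. -/
theorem bad_sup_zpowers [Finite G] (B : Subgroup G) (z : G)
    (hB4 : Nat.card B = 4) (hBc : ∀ a ∈ B, ∀ b ∈ B, a * b = b * a)
    (hBe : ∀ a ∈ B, a ^ 4 = 1) (hzc : ∀ a ∈ B, z * a = a * z) (hz : z ∉ B)
    (hz2 : z ^ 2 ∈ B) (hz4 : z ^ 4 = 1) : Bad (B ⊔ Subgroup.zpowers z) := by
  have hzn : z ∈ Subgroup.normalizer (B : Set G) := by
    rw [Subgroup.mem_normalizer_iff]
    intro a
    constructor
    · intro ha
      have : z * a * z⁻¹ = a := by rw [hzc a ha, mul_inv_cancel_right]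
      rw [this]; exact ha
    · intro ha
      have h1 : a = z⁻¹ * (z * a * z⁻¹) * z := by group
      have h2 : z⁻¹ * (z * a * z⁻¹) * z = z * a * z⁻¹ := by
        have := hzc _ ha
        calc z⁻¹ * (z * a * z⁻¹) * z = z⁻¹ * ((z * a * z⁻¹) * z) := by group
          _ = z⁻¹ * (z * (z * a * z⁻¹)) := by rw [this]
          _ = z * a * z⁻¹ := by group
      rw [h1, h2]; exact ha
  -- commutativity and exponent by closure induction
  have hgen : B ⊔ Subgroup.zpowers z = Subgroup.closure ((B : Set G) ∪ {z}) := by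
    rw [Subgroup.closure_union, Subgroup.closure_eq, Subgroup.zpowers_eq_closure]
  have hcomm_gen : ∀ x ∈ (B : Set G) ∪ {z}, ∀ y ∈ (B : Set G) ∪ {z}, x * y = y * x := by
    rintro x (hx | hx) y (hy | hy)
    · exact hBc x hx y hy
    · rw [Set.mem_singleton_iff] at hy; subst hy; exact (hzc x hx).symm
    · rw [Set.mem_singleton_iff] at hx; subst hx; exact hzc y hy
    · rw [Set.mem_singleton_iff] at hx hy; subst hx; subst hy; rfl
  have hcomm : ∀ a ∈ B ⊔ Subgroup.zpowers z, ∀ b ∈ B ⊔ Subgroup.zpowers z, a * b = b * a := by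
    intro a ha b hb
    rw [hgen] at ha hb
    have hle : Subgroup.closure ((B : Set G) ∪ {z}) ≤
        Subgroup.centralizer (Subgroup.closure ((B : Set G) ∪ {z}) : Set G) := by
      rw [Subgroup.closure_le]
      intro x hx
      rw [SetLike.mem_coe, Subgroup.mem_centralizer_iff]
      intro y hy
      have hle2 : Subgroup.closure ((B : Set G) ∪ {z}) ≤ Subgroup.centralizer ({x} : Set G) := by
        rw [Subgroup.closure_le]
        intro w hw
        rw [SetLike.mem_coe, Subgroup.mem_centralizer_iff]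
        intro v hv
        rw [Set.mem_singleton_iff] at hv; subst hv
        exact hcomm_gen v hx w hw
      have := Subgroup.mem_centralizer_iff.mp (hle2 hy) x (Set.mem_singleton x)
      exact this.symm
    exact (Subgroup.mem_centralizer_iff.mp (hle ha) b hb).symm
  have hexp : ∀ a ∈ B ⊔ Subgroup.zpowers z, a ^ 4 = 1 := by
    intro a ha
    rw [hgen] at ha
    induction ha using Subgroup.closure_induction with
    | mem x hx =>
      rcases hx with hx | hx
      · exact hBe x hx
      · rw [Set.mem_singleton_iff] at hx; subst hx; exact hz4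
    | one => exact one_pow 4
    | mul x y hx hy ihx ihy =>
      rw [← hgen] at hx hy
      have hc : Commute x y := hcomm x hx y hy
      rw [hc.mul_pow, ihx, ihy, one_mul]
    | inv x _ ihx => rw [inv_pow, ihx, inv_one]
  refine bad_of_exp_four _ hcomm ?_ hexp
  rw [card_sup_zpowers_of_sq_mem B z hzn hz hz2, hB4]

end Cfsg.Agent.Lib.Helper8.SmTwo
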