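import Mathlib
import Cfsg.Agent.Lib.Helper8.SmTwoDefs
import Cfsg.Agent.Lib.Helper3.S64n


set_option autoImplicit false

/-! S4409: four-groups and non-abelian groups of order 8 inside an ambient group; the (S3-trick). -/

namespace Cfsg.Agent.Lib.Helper8.SmTwo

universe u

/-- the facts about a non-abelian group of order `8` that we use -/
def NA8Facts (Y : Type u) [Group Y] : Prop :=
  ∃ z : Y, z ≠ 1 ∧ z ^ 2 = 1 ∧ (∀ y : Y, z * y = y * z) ∧ (∀ x : Y, x ^ 2 = 1 ∨ x ^ 2 = z) ∧
    (∀ x y : Y, x * y = y * x ∨ x * y = y * x * z) ∧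
    (∀ x : Y, (∀ y : Y, x * y = y * x) → x = 1 ∨ x = z) ∧ (∃ i : Y, i ^ 2 = z)

theorem na8Facts_of_mulEquiv {Y : Type u} {D : Type*} [Group Y] [Group D] (e : Y ≃* D)
    (h : NA8Facts D) : NA8Facts Y := by
  obtain ⟨z, hz1, hz2, hzc, hsq, hcomm, hcen, i, hi⟩ := h
  refine ⟨e.symm z, ?_, ?_, ?_, ?_, ?_, ?_, ⟨e.symm i, ?_⟩⟩
  · intro h
    apply hz1
    have := congrArg e h
    simpa using this
  · rw [← map_pow, hz2, map_one]
  · intro y
    apply e.injective
    simp [hzc (e y)]
  · intro x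
    rcases hsq (e x) with h | h
    · left; apply e.injective; simpa using h
    · right; apply e.injective; simpa using h
  · intro x y
    rcases hcomm (e x) (e y) with h | h
    · left; apply e.injective; simpa using h
    · right; apply e.injective; simpa using h
  · intro x hx
    rcases hcen (e x) (fun y => by
      have := hx (e.symm y)
      have h2 := congrArg e this
      simpa using h2) with h | h
    · left; apply e.injective; simpa using h
    · right; apply e.injective; simpa using h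
  · rw [← map_pow, hi]

theorem na8Facts_dihedral : NA8Facts (DihedralGroup 4) := by
  refine ⟨DihedralGroup.r 2, by decide, by decide, by decide, by decide, by decide, by decide,
    ⟨DihedralGroup.r 1, by decide⟩⟩

theorem na8Facts_quaternion : NA8Facts (QuaternionGroup 2) := by
  refine ⟨QuaternionGroup.a 2, by decide, by decide, by decide, by decide, by decide, by decide,
    ⟨QuaternionGroup.a 1, by decide⟩⟩

theorem na8Facts_of_card {Y : Type u} [Group Y] [Finite Y] (hcard : Nat.card Y = 8)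
    (hna : ∃ a b : Y, a * b ≠ b * a) : NA8Facts Y := by
  rcases Cfsg.Agent.Lib.Helper3.S64.order8_classify hcard hna with ⟨⟨e⟩⟩ | ⟨⟨e⟩⟩
  · exact na8Facts_of_mulEquiv e na8Facts_dihedral
  · exact na8Facts_of_mulEquiv e na8Facts_quaternion

variable {G : Type u} [Group G]

/-- an elementary abelian subgroup of order `4` -/
def IsV4 (W : Subgroup G) : Prop := Nat.card W = 4 ∧ ∀ w ∈ W, w ^ 2 = 1

/-- a non-abelian subgroup of order `8` -/
def IsNA8 (Y : Subgroup G) : Prop := Nat.card Y = 8 ∧ ∃ a ∈ Y, ∃ b ∈ Y, a * b ≠ b * a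

theorem IsV4.comm {W : Subgroup G} (h : IsV4 W) : ∀ a ∈ W, ∀ b ∈ W, a * b = b * a := by
  intro a ha b hb
  have h1 := h.2 a ha
  have h2 := h.2 b hb
  have h3 := h.2 (a * b) (W.mul_mem ha hb)
  have e1 : a⁻¹ = a := inv_eq_of_mul_eq_one_right (by rw [← pow_two]; exact h1)
  have e2 : b⁻¹ = b := inv_eq_of_mul_eq_one_right (by rw [← pow_two]; exact h2)
  have e3 : (a * b)⁻¹ = a * b := inv_eq_of_mul_eq_one_right (by rw [← pow_two]; exact h3)
  rw [mul_inv_rev, e1, e2] at e3
  exact e3.symm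

theorem IsV4.isPGroup {W : Subgroup G} (h : IsV4 W) : IsPGroup 2 W := by
  have : Fact (Nat.Prime 2) := ⟨Nat.prime_two⟩
  exact IsPGroup.of_card (n := 2) (by rw [h.1]; norm_num)

theorem IsV4.ne_bot {W : Subgroup G} (h : IsV4 W) : W ≠ ⊥ := by
  intro hb
  have := h.1
  rw [hb, Subgroup.card_bot] at this
  omega

/-- the facts about a non-abelian subgroup of order `8`, inside the ambient group -/
theorem IsNA8.facts [Finite G] {Y : Subgroup G} (h : IsNA8 Y) :
    ∃ z ∈ Y, z ≠ 1 ∧ z ^ 2 = 1 ∧ (∀ y ∈ Y, z * y = y * z) ∧ (∀ x ∈ Y, x ^ 2 = 1 ∨ x ^ 2 = z) ∧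
      (∀ x ∈ Y, ∀ y ∈ Y, x * y = y * x ∨ x * y = y * x * z) ∧
      (∀ x ∈ Y, (∀ y ∈ Y, x * y = y * x) → x = 1 ∨ x = z) ∧ (∃ i ∈ Y, i ^ 2 = z) := by
  obtain ⟨hc, a, ha, b, hb, hab⟩ := h
  have hna : ∃ a b : Y, a * b ≠ b * a :=
    ⟨⟨a, ha⟩, ⟨b, hb⟩, fun h => hab (congrArg Subtype.val h)⟩
  obtain ⟨z, hz1, hz2, hzc, hsq, hcomm, hcen, i, hi⟩ := na8Facts_of_card hc hna
  refine ⟨z, z.2, ?_, ?_, ?_, ?_, ?_, ?_, ⟨i, i.2, ?_⟩⟩
  · intro h; apply hz1; exact Subtype.ext h
  · have := congrArg Subtype.val hz2; simpa using this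
  · intro y hy
    have := congrArg Subtype.val (hzc ⟨y, hy⟩); simpa using this
  · intro x hx
    rcases hsq ⟨x, hx⟩ with h | h
    · left; have := congrArg Subtype.val h; simpa using this
    · right; have := congrArg Subtype.val h; simpa using this
  · intro x hx y hy
    rcases hcomm ⟨x, hx⟩ ⟨y, hy⟩ with h | h
    · left; have := congrArg Subtype.val h; simpa using this
    · right; have := congrArg Subtype.val h; simpa using this
  · intro x hx hxc
    rcases hcen ⟨x, hx⟩ (fun y => Subtype.ext (hxc y y.2)) with h | h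
    · left; have := congrArg Subtype.val h; simpa using this
    · right; have := congrArg Subtype.val h; simpa using this
  · have := congrArg Subtype.val hi; simpa using this

/-- a non-abelian subgroup of order `8` is quaternion, or it has exactly two elements of order `4`,
inverse to each other (the dihedral case) -/
theorem IsNA8.quaternion_or [Finite G] {Y : Subgroup G} (h : IsNA8 Y) :
    Nonempty (↥Y ≃* QuaternionGroup 2) ∨
      ∃ r ∈ Y, r ^ 2 ≠ 1 ∧ ∀ x ∈ Y, x ^ 2 ≠ 1 → x = r ∨ x = r⁻¹ := by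
  obtain ⟨hc, a, ha, b, hb, hab⟩ := h
  have hna : ∃ a b : Y, a * b ≠ b * a :=
    ⟨⟨a, ha⟩, ⟨b, hb⟩, fun h => hab (congrArg Subtype.val h)⟩
  rcases Cfsg.Agent.Lib.Helper3.S64.order8_classify hc hna with ⟨⟨e⟩⟩ | ⟨⟨e⟩⟩
  · right
    have hD : ∃ r : DihedralGroup 4, r ^ 2 ≠ 1 ∧
        ∀ x : DihedralGroup 4, x ^ 2 ≠ 1 → x = r ∨ x = r⁻¹ :=
      ⟨DihedralGroup.r 1, by decide, by decide⟩
    obtain ⟨r, hr, hall⟩ := hD
    refine ⟨(e.symm r : Y), (e.symm r).2, ?_, ?_⟩
    · intro h2
      apply hr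
      have h3 : (e.symm r) ^ 2 = 1 := Subtype.ext (by simpa using h2)
      have h4 := congrArg e h3
      simpa using h4
    · intro x hx hx2
      have h5 : (e ⟨x, hx⟩) ^ 2 ≠ 1 := by
        intro h6
        apply hx2
        have h7 : (⟨x, hx⟩ : Y) ^ 2 = 1 := by
          apply e.injective
          rw [map_pow, map_one]
          exact h6
        have h8 := congrArg Subtype.val h7
        simpa using h8
      rcases hall _ h5 with h9 | h9
      · left
        have h10 : (⟨x, hx⟩ : Y) = e.symm r := by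
          rw [← h9]; simp
        have h11 := congrArg Subtype.val h10
        simpa using h11
      · right
        have h10 : (⟨x, hx⟩ : Y) = (e.symm r)⁻¹ := by
          rw [← map_inv, ← h9]; simp
        have h11 := congrArg Subtype.val h10
        simpa using h11
  · left
    exact ⟨e⟩

/-- the subgroup generated by commutators and squares of `Y` (the Frattini subgroup of a
`2`-group `Y`), as a subgroup of the ambient group -/
def phi2 (Y : Subgroup G) : Subgroup G :=
  ⁅Y, Y⁆ ⊔ Subgroup.closure {g : G | ∃ x ∈ Y, g = x ^ 2}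

/-- `X` is abelian (elementwise form) -/
def IsAb (X : Subgroup G) : Prop := ∀ a ∈ X, ∀ b ∈ X, a * b = b * a

/-- internal form of "special with centre of order `n`": `X' = Z(X)`, all squares lie in `X'`,
and `|Z(X)| = n` -/
def SpecialData (X : Subgroup G) (n : ℕ) : Prop :=
  ⁅X, X⁆ = X ⊓ Subgroup.centralizer (X : Set G) ∧ (∀ x ∈ X, x ^ 2 ∈ ⁅X, X⁆) ∧
    Nat.card (X ⊓ Subgroup.centralizer (X : Set G) : Subgroup G) = n

end Cfsg.Agent.Lib.Helper8.SmTwo
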