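import Mathlib
import Cfsg.Prelude.Def_Characters
import Cfsg.Agent.Lib.Helper1.CharCenter
import Cfsg.Agent.Lib.Helper1.CharFound6
import Cfsg.Agent.Lib.Helper1.CharFound7
import Cfsg.Agent.Lib.Helper1.LinearChar

/-!
# Characters of a product with a commutative factor: multiplicity functions are characters
-/

set_option autoImplicit false
set_option linter.unusedSectionVars false

namespace Cfsg.Agent.Lib.Helper8

open Cfsg
open scoped ComplexConjugate
open Cfsg.Agent.Lib.Helper1 Cfsg.Agent.Lib.Helper4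

universe u

section Central

variable {P : Type u} [Group P] {A : Type u} [Group A]

/-- An irreducible character is multiplied by a linear character of `A` under translation by a
central image of `A`. -/
theorem exists_hom_central (ι : A →* P) (hι : ∀ a, ι a ∈ Subgroup.center P) {ψ : P → ℂ}
    (hψ : IsIrrCharacter P ψ) :
    ∃ μ : A →* ℂˣ, ∀ x a, ψ (x * ι a) = ψ x * ((μ a : ℂˣ) : ℂ) := by
  obtain ⟨n, ρ, hirr, rfl⟩ := hψ
  haveI := hirr
  refine ⟨((centralHom ρ).comp (ι.codRestrict (Subgroup.center P) hι)).toHomUnits, ?_⟩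
  intro x a
  have h1 : ρ (ι a) = centralHom ρ ⟨ι a, hι a⟩ • LinearMap.id := rho_central ρ ⟨ι a, hι a⟩
  unfold Representation.character
  rw [map_mul, h1]
  have h2 : ρ x * (centralHom ρ ⟨ι a, hι a⟩ • LinearMap.id) = centralHom ρ ⟨ι a, hι a⟩ • ρ x := by
    ext v
    simp
  rw [h2, map_smul, smul_eq_mul, mul_comm]
  rfl

end Central

section Product

variable {C Z : Type u} [Group C] [Group Z] [Fintype C] [Fintype Z]

/-- For a character `Ψ` of `C × Z` with `Z` commutative and an irreducible character `β` of `C`,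
the multiplicity function `z ↦ [Ψ(·, z), β]` is a character of `Z`. -/
theorem isCharacter_mult_fn (hZ : ∀ a b : Z, a * b = b * a) {Ψ : C × Z → ℂ}
    (hΨ : IsCharacter (C × Z) Ψ) {β : C → ℂ} (hβ : IsIrrCharacter C β) :
    IsCharacter Z (fun z => classInner (fun c => Ψ (c, z)) β) := by
  classical
  haveI : Fintype (IrrCharacter (C × Z)) := Fintype.ofFinite _
  have hcentral : ∀ z : Z, (MonoidHom.inr C Z) z ∈ Subgroup.center (C × Z) := by
    intro z
    rw [Subgroup.mem_center_iff]
    rintro ⟨c, z'⟩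
    simp [Prod.ext_iff, hZ z' z]
  choose μ hμ using fun ψ : IrrCharacter (C × Z) =>
    exists_hom_central (MonoidHom.inr C Z) hcentral ψ.2
  have hexp := class_function_expansion Ψ (isClassFunction_of_isCharacter hΨ)
  choose m hm using fun ψ : IrrCharacter (C × Z) => classInner_char_irr_nat hΨ ψ.2
  choose k hk using fun ψ : IrrCharacter (C × Z) =>
    classInner_char_irr_nat (isCharacter_comp_hom (isCharacter_of_irr ψ.2) (MonoidHom.inl C Z)) hβ
  have hΨcz : ∀ c z, Ψ (c, z) = ∑ ψ : IrrCharacter (C × Z),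
      (m ψ : ℂ) * ((ψ : C × Z → ℂ) (c, 1) * ((μ ψ z : ℂˣ) : ℂ)) := by
    intro c z
    conv_lhs => rw [hexp]
    rw [Finset.sum_apply]
    refine Finset.sum_congr rfl fun ψ _ => ?_
    rw [Pi.smul_apply, smul_eq_mul, hm ψ]
    congr 1
    have h1 := hμ ψ (c, 1) z
    rw [← h1]
    congr 1
    simp
  have hfun : (fun z => classInner (fun c => Ψ (c, z)) β) =
      ∑ ψ : IrrCharacter (C × Z), ((m ψ * k ψ : ℕ) : ℂ) • fun z => ((μ ψ z : ℂˣ) : ℂ) := by
    funext z
    rw [Finset.sum_apply]
    have h2 : (fun c => Ψ (c, z)) = ∑ ψ : IrrCharacter (C × Z),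
        ((m ψ : ℂ) * ((μ ψ z : ℂˣ) : ℂ)) • fun c => (ψ : C × Z → ℂ) (c, 1) := by
      funext c
      rw [hΨcz c z, Finset.sum_apply]
      refine Finset.sum_congr rfl fun ψ _ => ?_
      rw [Pi.smul_apply, smul_eq_mul]
      ring
    rw [h2, classInner_sum_left]
    refine Finset.sum_congr rfl fun ψ _ => ?_
    rw [classInner_smul_left, Pi.smul_apply, smul_eq_mul]
    have h3 := hk ψ
    simp only [MonoidHom.inl_apply] at h3
    rw [h3]
    push_cast
    ring
  rw [hfun]
  apply isCharacter_sum
  intro ψ _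
  exact isCharacter_nsmul (isCharacter_of_irr (isIrrCharacter_of_hom (μ ψ))) _

end Product

end Cfsg.Agent.Lib.Helper8
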