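import Mathlib
import Cfsg.Prelude
import Cfsg.Agent.Lib.Helper1.SUT.Defs
import Cfsg.Agent.Lib.Helper2.UT13
import Cfsg.Agent.Lib.Helper7.SURFrame

set_option autoImplicit false
set_option linter.unusedSectionVars false
set_option linter.unusedVariables false

/-! # S2412 package PK-FRAME0: even Witt frames from Gram relations, and a frame for `hermForm` -/

namespace Cfsg.Agent.Lib.Helper1.SUT

open Module Cfsg.Agent.Lib.Helper2 Cfsg.Agent.Lib.Helper2.IsomDecomp Cfsg.Agent.Lib.Helper2.UT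
  Cfsg.Agent.Lib.Helper5.PSLCoset Cfsg.Agent.Lib.Helper1.SUR

variable {F : Type*} [Field F] {σ : F ≃+* F} {V : Type*} [AddCommGroup V] [Module F V]
  {H : V → V → F}

theorem frame0_of_gram [FiniteDimensional F V] (h : IsHerm σ H)
    (hnd : ∀ v, (∀ w, H v w = 0) → v = 0) (m : ℕ) (hdim : finrank F V = 2 * m)
    (e f : ℕ → V)
    (ee : ∀ i j, i < m → j < m → H (e i) (e j) = 0)
    (ff : ∀ i j, i < m → j < m → H (f i) (f j) = 0)
    (ef : ∀ i j, i < m → j < m → H (e i) (f j) = if i = j then 1 else 0) :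
    Frame0 H m e f := by
  classical
  have fe : ∀ i j, i < m → j < m → H (f i) (e j) = if i = j then 1 else 0 := by
    intro i j hi hj
    rw [h.symm (e j) (f i), ef j i hj hi]
    by_cases hij : i = j
    · subst hij
      rw [if_pos rfl, map_one]
    · rw [if_neg hij, if_neg (Ne.symm hij), map_zero]
  refine ⟨ee, ff, ef, fe, ?_⟩
  -- the two maps
  obtain ⟨Ψ, hΨ⟩ : ∃ Ψ : ((Fin m → F) × (Fin m → F)) →ₗ[F] V,
      ∀ t, Ψ t = ∑ i : Fin m, t.1 i • e i + ∑ i : Fin m, t.2 i • f i := by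
    refine ⟨(Fintype.linearCombination F (fun i : Fin m => e i)).coprod
      (Fintype.linearCombination F (fun i : Fin m => f i)), ?_⟩
    intro t
    rw [LinearMap.coprod_apply, Fintype.linearCombination_apply,
      Fintype.linearCombination_apply]
  obtain ⟨Φ, hΦ⟩ : ∃ Φ : V →ₗ[F] ((Fin m → F) × (Fin m → F)),
      ∀ x, Φ x = (fun i : Fin m => H x (f i), fun i : Fin m => H x (e i)) := by
    refine ⟨(LinearMap.pi fun i : Fin m => h.toDual (f i)).prod
      (LinearMap.pi fun i : Fin m => h.toDual (e i)), ?_⟩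
    intro x
    rfl
  -- `H (Ψ t) w`
  have hHΨ : ∀ t w, H (Ψ t) w = ∑ i : Fin m, t.1 i * H (e i) w +
      ∑ i : Fin m, t.2 i * H (f i) w := by
    intro t w
    rw [hΨ]
    have := map_add (h.toDual w) (∑ i : Fin m, t.1 i • e i) (∑ i : Fin m, t.2 i • f i)
    rw [IsHerm.toDual_apply, IsHerm.toDual_apply, IsHerm.toDual_apply] at this
    rw [this]
    have h3 : ∀ (c : Fin m → F) (b : ℕ → V),
        H (∑ i : Fin m, c i • b i) w = ∑ i : Fin m, c i * H (b i) w := by
      intro c b
      have := map_sum (h.toDual w) (fun i : Fin m => c i • b i) Finset.univ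
      rw [IsHerm.toDual_apply] at this
      rw [this]
      apply Finset.sum_congr rfl
      intro i _
      rw [IsHerm.toDual_apply, h.smul_left]
    rw [h3, h3]
  have hleft : ∀ t, Φ (Ψ t) = t := by
    intro t
    rw [hΦ]
    obtain ⟨a, b⟩ := t
    refine Prod.ext ?_ ?_
    · funext j
      show H (Ψ (a, b)) (f j) = a j
      rw [hHΨ]
      simp only []
      rw [Finset.sum_eq_single j, ef j j j.isLt j.isLt,
        if_pos rfl, mul_one, Finset.sum_eq_zero, add_zero]
      · intro i _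
        rw [ff i j i.isLt j.isLt, mul_zero]
      · intro i _ hij
        rw [ef i j i.isLt j.isLt, if_neg (fun hh => hij (Fin.ext hh)), mul_zero]
      · intro hj
        exact absurd (Finset.mem_univ j) hj
    · funext j
      show H (Ψ (a, b)) (e j) = b j
      rw [hHΨ]
      simp only []
      rw [Finset.sum_eq_zero, zero_add,
        Finset.sum_eq_single j, fe j j j.isLt j.isLt, if_pos rfl, mul_one]
      · intro i _ hij
        rw [fe i j i.isLt j.isLt, if_neg (fun hh => hij (Fin.ext hh)), mul_zero]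
      · intro hj
        exact absurd (Finset.mem_univ j) hj
      · intro i _
        rw [ee i j i.isLt j.isLt, mul_zero]
  have hinj : Function.Injective Ψ := Function.LeftInverse.injective hleft
  have hfin : finrank F ((Fin m → F) × (Fin m → F)) = finrank F V := by
    rw [hdim, Module.finrank_prod, Module.finrank_fintype_fun_eq_card,
      Fintype.card_fin]
    omega
  have hsurj : Function.Surjective Ψ :=
    (LinearMap.injective_iff_surjective_of_finrank_eq_finrank hfin).mp hinj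
  intro x
  obtain ⟨t, rfl⟩ := hsurj x
  have h1 : Ψ (Φ (Ψ t)) = Ψ t := by rw [hleft]
  rw [hΨ (Φ (Ψ t)), hΦ] at h1
  simp only [] at h1
  rw [← Fin.sum_univ_eq_sum_range (fun i => H (Ψ t) (f i) • e i + H (Ψ t) (e i) • f i) m,
    Finset.sum_add_distrib]
  exact h1.symm

theorem exists_frame0 {F : Type*} [Field F] [Fintype F] {q : ℕ} (hF : Fintype.card F = q ^ 2)
    (m : ℕ) : ∃ (e f : ℕ → (Fin (2 * m) → F)),
      Frame0 (Cfsg.hermForm (2 * m) F q) m e f := by
  classical
  obtain ⟨σ, hσ, hσq⟩ := HermDecomp.exists_sigma hF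
  have hσ2 := WittHerm.sigma_sigma hσ
  have hq2 : 2 ≤ q := Cfsg.Agent.Lib.SU3Tr.two_le_q hF
  have hq0 : q ≠ 0 := by omega
  have h := GUIsom.isHerm_hermForm (2 * m) q σ hσ2 hσq
  have hnd : ∀ v : Fin (2 * m) → F,
      (∀ w, Cfsg.hermForm (2 * m) F q v w = 0) → v = 0 :=
    fun v hv => GUIsom.hermForm_nondeg (2 * m) q hq0 v hv
  obtain ⟨ω, ρ, hω, hρ, hρ1, hω0⟩ := Cfsg.Agent.Lib.SU3Tr.exists_two hF hσq
  have hωσ : ω * σ ω = -1 := by rw [hσq, ← pow_succ', hω]
  have hρσ : ρ * σ ρ = 1 := by rw [hσq, ← pow_succ', hρ]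
  have hσρ1 : σ ρ ≠ 1 := by
    intro hh
    apply hρ1
    have := congrArg σ hh
    rwa [hσ2, map_one] at this
  have hne : 1 - σ ρ ≠ 0 := sub_ne_zero.mpr (Ne.symm hσρ1)
  obtain ⟨l, hl⟩ : ∃ l : F, σ l * (1 - σ ρ) = 1 := by
    refine ⟨σ (1 - σ ρ)⁻¹, ?_⟩
    rw [hσ2, inv_mul_cancel₀ hne]
  refine ⟨fun i => (1 : F) • stdV (2 * m) (2 * i) + ω • stdV (2 * m) (2 * i + 1),
    fun i => l • stdV (2 * m) (2 * i) + (l * (ω * ρ)) • stdV (2 * m) (2 * i + 1), ?_⟩
  apply frame0_of_gram h hnd m (by rw [Module.finrank_fin_fun])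
  · intro i j hi hj
    rw [std_pair_form (2 * m) hq0 h i j (by omega)]
    split_ifs
    · rw [map_one]; linear_combination hωσ
    · rfl
  · intro i j hi hj
    rw [std_pair_form (2 * m) hq0 h i j (by omega)]
    split_ifs
    · rw [map_mul, map_mul]
      linear_combination (l * σ l * ρ * σ ρ) * hωσ - (l * σ l) * hρσ
    · rfl
  · intro i j hi hj
    rw [std_pair_form (2 * m) hq0 h i j (by omega)]
    split_ifs
    · rw [map_mul, map_mul]
      linear_combination hl + (σ l * σ ρ) * hωσ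
    · rfl

end Cfsg.Agent.Lib.Helper1.SUT
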