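import Mathlib
import Cfsg.Prelude
import Cfsg.Agent.Lib.Helper1.SUR.Defs
import Cfsg.Agent.Lib.Helper2.UT13

set_option autoImplicit false

/-!
# PK-WRAP for S2282: from linear isometries to `Cfsg.SU n F q`
-/

namespace Cfsg.Agent.Lib.Helper1.SUR

open Module Cfsg.Agent.Lib.Helper2 Cfsg.Agent.Lib.Helper2.IsomDecomp Cfsg.Agent.Lib.Helper2.UT
  Cfsg.Agent.Lib.Helper5.PSLCoset

/-- an isometry of determinant one comes from an element of `SU` -/
theorem wrap_exists_su {F : Type*} [Field F] [Fintype F] {q : ℕ} (n : ℕ)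
    (φ : (Fin n → F) ≃ₗ[F] (Fin n → F)) (hφ : φ ∈ isom (Cfsg.hermForm n F q))
    (dφ : LinearEquiv.det φ = 1) :
    ∃ A : ↥(Cfsg.SU n F q), suLin n F q A = φ ∧
      ((A : Matrix.SpecialLinearGroup (Fin n) F) : Matrix (Fin n) (Fin n) F) =
        LinearMap.toMatrix' (φ : (Fin n → F) →ₗ[F] (Fin n → F)) := by
  classical
  set M := LinearMap.toMatrix' (φ : (Fin n → F) →ₗ[F] (Fin n → F)) with hM
  have hMv : ∀ x, M.mulVec x = φ x := fun x => by
    rw [hM, LinearMap.toMatrix'_mulVec]; rfl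
  have hdet : M.det = 1 := by
    rw [hM, LinearMap.det_toMatrix']
    have := congrArg Units.val dφ
    rw [LinearEquiv.coe_det] at this
    simpa using this
  have hpres : ∀ x y, Cfsg.hermForm n F q (M.mulVec x) (M.mulVec y) = Cfsg.hermForm n F q x y := by
    intro x y; rw [hMv, hMv]; exact hφ x y
  refine ⟨UnitaryComm.mkSU M hdet hpres, ?_, UnitaryComm.mkSU_coe M hdet hpres⟩
  apply LinearEquiv.ext
  intro x
  rw [suLin_apply, UnitaryComm.mkSU_coe, hMv]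

theorem wrap {F : Type*} [Field F] [Fintype F] {q : ℕ} (hF : Fintype.card F = q ^ 2) (n : ℕ)
    (hn : 3 ≤ n) {σ : F ≃+* F} (hσq : ∀ a : F, σ a = a ^ q)
    (h : IsHerm σ (Cfsg.hermForm n F q))
    (hex : ∃ u g k : (Fin n → F) ≃ₗ[F] (Fin n → F),
      (u ∈ isom (Cfsg.hermForm n F q) ∧ g ∈ isom (Cfsg.hermForm n F q) ∧
        k ∈ isom (Cfsg.hermForm n F q)) ∧
      (LinearEquiv.det u = 1 ∧ LinearEquiv.det g = 1 ∧ LinearEquiv.det k = 1) ∧
      (IsNilpotent ((u : (Fin n → F) →ₗ[F] (Fin n → F)) - 1) ∧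
        ((u : (Fin n → F) →ₗ[F] (Fin n → F)) - 1) ^ (n - 1) ≠ 0) ∧
      T h ≤ Subgroup.closure {u, g * u * g⁻¹, k * u * k⁻¹}) (h32 : ¬ (n = 3 ∧ q = 2)) :
    ∃ u g k : ↥(Cfsg.SU n F q),
      (IsNilpotent (((u : Matrix.SpecialLinearGroup (Fin n) F) : Matrix (Fin n) (Fin n) F) - 1) ∧
        (((u : Matrix.SpecialLinearGroup (Fin n) F) : Matrix (Fin n) (Fin n) F) - 1) ^ (n - 1) ≠ 0) ∧
      Subgroup.closure {u, g * u * g⁻¹, k * u * k⁻¹} = ⊤ := by
  classical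
  obtain ⟨u, g, k, ⟨hu, hg, hk⟩, ⟨du, dg, dk⟩, ⟨hnil, hpow⟩, hT⟩ := hex
  obtain ⟨σ', hσ', hσ'q⟩ := HermDecomp.exists_sigma hF
  have hσσ' : σ = σ' := RingEquiv.ext (fun a => by rw [hσq, hσ'q])
  have hσ : orderOf σ = 2 := by rw [hσσ']; exact hσ'
  have hq2 : 2 ≤ q := Cfsg.Agent.Lib.Helper1.HermCount.two_le_q hF
  have hnd : ∀ v : Fin n → F, (∀ w, Cfsg.hermForm n F q v w = 0) → v = 0 :=
    fun v hv => GUIsom.hermForm_nondeg n q (by omega) v hv
  have hbig : n = 3 → ∃ c : F, σ c = c ∧ c ≠ 0 ∧ c ≠ 1 := by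
    intro h3
    have hq3 : 3 ≤ q := by
      by_contra hlt
      exact h32 ⟨h3, by omega⟩
    obtain ⟨c, hc, hc0, hc1⟩ := exists_fixed_ne hF hq3
    exact ⟨c, by rw [hσq, hc], hc0, hc1⟩
  have hdim : finrank F (Fin n → F) = n := by
    rw [Module.finrank_fin_fun]
  obtain ⟨U, hU, hUM⟩ := wrap_exists_su (q := q) n u hu du
  obtain ⟨G, hG, -⟩ := wrap_exists_su (q := q) n g hg dg
  obtain ⟨K, hK, -⟩ := wrap_exists_su (q := q) n k hk dk
  -- the algebra equivalence End ≃ Matrix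
  let Φ := LinearMap.toMatrixAlgEquiv' (R := F) (n := Fin n)
  have hΦ : ((U : Matrix.SpecialLinearGroup (Fin n) F) : Matrix (Fin n) (Fin n) F) - 1 =
      Φ ((u : (Fin n → F) →ₗ[F] (Fin n → F)) - 1) := by
    rw [map_sub, map_one, hUM]
    rfl
  refine ⟨U, G, K, ⟨?_, ?_⟩, ?_⟩
  · rw [hΦ]
    exact hnil.map Φ
  · rw [hΦ, ← map_pow]
    intro h0
    apply hpow
    exact (map_eq_zero_iff Φ Φ.injective).mp h0
  · -- the closure
    set S : Set ↥(Cfsg.SU n F q) := {U, G * U * G⁻¹, K * U * K⁻¹} with hS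
    have himg : (suLin n F q) '' S = {u, g * u * g⁻¹, k * u * k⁻¹} := by
      rw [hS, Set.image_insert_eq, Set.image_insert_eq, Set.image_singleton]
      simp only [map_mul, map_inv, hU, hG, hK]
    have hmap : (Subgroup.closure S).map (suLin n F q) =
        Subgroup.closure {u, g * u * g⁻¹, k * u * k⁻¹} := by
      rw [MonoidHom.map_closure, himg]
    rw [eq_top_iff]
    intro A _
    have hA := mem_T_main (F := F) hσ n (by omega) (Fin n → F) (Cfsg.hermForm n F q) h hnd hdim hbig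
      (suLin n F q A) (suLin_mem_isom A) (det_suLin A)
    have hA2 := hT hA
    rw [← hmap] at hA2
    obtain ⟨B, hB, hBA⟩ := hA2
    rw [← suLin_injective hBA]
    exact hB

end Cfsg.Agent.Lib.Helper1.SUR
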