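import Mathlib
import Cfsg.Prelude
import Cfsg.Agent.Lib.Helper1.SUT.Defs
import Cfsg.Agent.Lib.Helper2.UT13
import Cfsg.Agent.Lib.Lead.SUTN

set_option autoImplicit false
set_option linter.unusedSectionVars false
set_option linter.unusedVariables false

/-!
# S2412 package PK-COX: the Coxeter element `cox μ = sW (m-1) μ * coxP (m-1)`
-/

namespace Cfsg.Agent.Lib.Helper1.SUT

open Module Cfsg.Agent.Lib.Helper2 Cfsg.Agent.Lib.Helper2.IsomDecomp Cfsg.Agent.Lib.Helper2.UT
  Cfsg.Agent.Lib.Helper5.PSLCoset Cfsg.Agent.Lib.Helper1.SUR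

variable {F : Type*} [Field F] {σ : F ≃+* F} {V : Type*} [AddCommGroup V] [Module F V]
  {H : V → V → F}

section PKCOX
variable (h : IsHerm σ H) {m : ℕ} {e f : ℕ → V} (hp : HPairs H m e f)

theorem coxP_succ_apply (k : ℕ) (x : V) :
    coxP h hp (k + 1) x = nW h hp k 1 (coxP h hp k x) := rfl

theorem coxP_mem_isom (k : ℕ) : coxP h hp k ∈ isom H := by
  induction k with
  | zero => exact Subgroup.one_mem _
  | succ k ih => exact Subgroup.mul_mem _ (nW_mem_isom h hp k 1) ih

theorem det_coxP (k : ℕ) : LinearEquiv.det (coxP h hp k) = 1 := by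
  induction k with
  | zero => exact map_one _
  | succ k ih =>
    show LinearEquiv.det (nW h hp k 1 * coxP h hp k) = 1
    rw [map_mul, det_nW, ih, one_mul]

/-- vectors orthogonal to `e_i, f_i` (`i ≤ k`) are fixed by `coxP k` -/
theorem coxP_fix (k : ℕ) (x : V) (h1 : ∀ i, i ≤ k → H x (e i) = 0)
    (h2 : ∀ i, i ≤ k → H x (f i) = 0) : coxP h hp k x = x := by
  induction k with
  | zero => rfl
  | succ k ih =>
    rw [coxP_succ_apply, ih (fun i hi => h1 i (by omega)) (fun i hi => h2 i (by omega))]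
    exact nW_fix h hp k 1 x (h1 k (by omega)) (h1 (k + 1) le_rfl) (h2 k (by omega))
      (h2 (k + 1) le_rfl)

theorem coxP_e_gt (k j : ℕ) (hkj : k < j) (hj : j < m) : coxP h hp k (e j) = e j := by
  apply coxP_fix
  · intro i hi
    exact hp.ee j i hj (by omega)
  · intro i hi
    rw [hp.ef j i hj (by omega), if_neg (by omega)]

theorem coxP_f_gt (k j : ℕ) (hkj : k < j) (hj : j < m) : coxP h hp k (f j) = f j := by
  apply coxP_fix
  · intro i hi
    rw [hp.fe j i hj (by omega), if_neg (by omega)]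
  · intro i hi
    exact hp.ff j i hj (by omega)

theorem coxP_e_succ (k i : ℕ) (hk : k < m) (hi : i + 1 ≤ k) :
    coxP h hp k (e (i + 1)) = e i := by
  induction k with
  | zero => omega
  | succ k ih =>
    rw [coxP_succ_apply]
    rcases Nat.lt_or_ge i k with hik | hik
    · rw [ih (by omega) (by omega)]
      apply nW_fix
      · exact hp.ee i k (by omega) (by omega)
      · exact hp.ee i (k + 1) (by omega) hk
      · rw [hp.ef i k (by omega) (by omega), if_neg (by omega)]
      · rw [hp.ef i (k + 1) (by omega) hk, if_neg (by omega)]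
    · have hik' : i = k := by omega
      subst hik'
      rw [coxP_e_gt h hp i (i + 1) (by omega) hk, nW_e_succ h hp i hk one_ne_zero, map_one,
        one_smul]

theorem coxP_f_succ (k i : ℕ) (hk : k < m) (hi : i + 1 ≤ k) :
    coxP h hp k (f (i + 1)) = f i := by
  induction k with
  | zero => omega
  | succ k ih =>
    rw [coxP_succ_apply]
    rcases Nat.lt_or_ge i k with hik | hik
    · rw [ih (by omega) (by omega)]
      apply nW_fix
      · rw [hp.fe i k (by omega) (by omega), if_neg (by omega)]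
      · rw [hp.fe i (k + 1) (by omega) hk, if_neg (by omega)]
      · exact hp.ff i k (by omega) (by omega)
      · exact hp.ff i (k + 1) (by omega) hk
    · have hik' : i = k := by omega
      subst hik'
      rw [coxP_f_gt h hp i (i + 1) (by omega) hk, nW_f_succ h hp i hk one_ne_zero, inv_one,
        one_smul]

theorem coxP_e_zero (k : ℕ) (hk : k < m) : coxP h hp k (e 0) = ((-1 : F) ^ k) • e k := by
  induction k with
  | zero => rw [pow_zero, one_smul]; rfl
  | succ k ih =>
    rw [coxP_succ_apply, ih (by omega), map_smul, nW_e h hp k hk one_ne_zero, map_one, inv_one,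
      smul_smul, pow_succ]

theorem coxP_f_zero (k : ℕ) (hk : k < m) : coxP h hp k (f 0) = ((-1 : F) ^ k) • f k := by
  induction k with
  | zero => rw [pow_zero, one_smul]; rfl
  | succ k ih =>
    rw [coxP_succ_apply, ih (by omega), map_smul, nW_f h hp k hk one_ne_zero, smul_smul, pow_succ]

theorem cox_apply (μ : F) (x : V) :
    cox h hp μ x = sW h hp (m - 1) μ (coxP h hp (m - 1) x) := rfl

theorem cox_mem_isom {μ : F} (hμ : σ μ = -μ) : cox h hp μ ∈ isom H :=
  Subgroup.mul_mem _ (sW_mem_isom h hp (m - 1) hμ) (coxP_mem_isom h hp (m - 1))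

theorem det_cox (μ : F) : LinearEquiv.det (cox h hp μ) = 1 := by
  show LinearEquiv.det (sW h hp (m - 1) μ * coxP h hp (m - 1)) = 1
  rw [map_mul, det_sW, det_coxP, one_mul]

theorem cox_e_succ (hm : 1 ≤ m) (μ : F) (i : ℕ) (hi : i + 1 < m) :
    cox h hp μ (e (i + 1)) = e i := by
  rw [cox_apply, coxP_e_succ h hp (m - 1) i (by omega) (by omega)]
  apply sW_fix
  · exact hp.ee i (m - 1) (by omega) (by omega)
  · rw [hp.ef i (m - 1) (by omega) (by omega), if_neg (by omega)]

theorem cox_f_succ (hm : 1 ≤ m) (μ : F) (i : ℕ) (hi : i + 1 < m) :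
    cox h hp μ (f (i + 1)) = f i := by
  rw [cox_apply, coxP_f_succ h hp (m - 1) i (by omega) (by omega)]
  apply sW_fix
  · rw [hp.fe i (m - 1) (by omega) (by omega), if_neg (by omega)]
  · exact hp.ff i (m - 1) (by omega) (by omega)

theorem cox_e_zero (hm : 1 ≤ m) {μ : F} (hμ0 : μ ≠ 0) :
    cox h hp μ (e 0) = ((-1) ^ m * μ⁻¹) • f (m - 1) := by
  rw [cox_apply, coxP_e_zero h hp (m - 1) (by omega), map_smul,
    sW_e h hp (m - 1) (by omega) hμ0, smul_smul]
  congr 1
  obtain ⟨r, rfl⟩ : ∃ r, m = r + 1 := ⟨m - 1, by omega⟩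
  rw [Nat.add_sub_cancel, pow_succ]
  ring

theorem cox_f_zero (hm : 1 ≤ m) {μ : F} (hμ0 : μ ≠ 0) :
    cox h hp μ (f 0) = ((-1) ^ (m - 1) * μ) • e (m - 1) := by
  rw [cox_apply, coxP_f_zero h hp (m - 1) (by omega), map_smul,
    sW_f h hp (m - 1) (by omega) hμ0, smul_smul]

/-- vectors orthogonal to all `e_i, f_i` are fixed -/
theorem cox_fix (μ : F) (x : V) (h1 : ∀ i, i < m → H x (e i) = 0)
    (h2 : ∀ i, i < m → H x (f i) = 0) : cox h hp μ x = x := by
  rw [cox_apply]
  rcases Nat.eq_zero_or_pos m with hm | hm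
  · subst hm
    show sW h hp 0 μ (coxP h hp 0 x) = x
    unfold sW
    rw [dif_neg (by omega)]
    rfl
  · rw [coxP_fix h hp (m - 1) x (fun i hi => h1 i (by omega)) (fun i hi => h2 i (by omega))]
    exact sW_fix h hp (m - 1) μ x (h1 (m - 1) (by omega)) (h2 (m - 1) (by omega))

end PKCOX

end Cfsg.Agent.Lib.Helper1.SUT
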