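import Mathlib

set_option autoImplicit false

namespace Cfsg.Agent.Lib.Helper8

section
variable {G : Type*} [Group G]

/-- an extension of a solvable group by a solvable group is solvable -/
theorem isSolvable_of_normal_h8 (N : Subgroup G) [N.Normal] (hN : Group.IsSolvable N)
    (hQ : Group.IsSolvable (G ⧸ N)) : Group.IsSolvable G := by
  apply Group.isSolvable_of_ker_le_range N.subtype (QuotientGroup.mk' N)
  rw [QuotientGroup.ker_mk', Subgroup.range_subtype]

theorem isSolvable_of_prime_card [Finite G] {p : ℕ} [Fact p.Prime] (h : Nat.card G = p) :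
    Group.IsSolvable G := by
  have := isCyclic_of_prime_card h
  apply Group.isSolvable_of_comm
  intro a b
  exact (IsCyclic.commGroup (α := G)).mul_comm a b

/-- groups of order dividing `6` are solvable -/
theorem isSolvable_of_card_dvd_six [Finite G] (h : Nat.card G ∣ 6) : Group.IsSolvable G := by
  have hle : Nat.card G ≤ 6 := Nat.le_of_dvd (by norm_num) h
  have hpos : 0 < Nat.card G := Nat.card_pos
  have hcases : Nat.card G = 1 ∨ Nat.card G = 2 ∨ Nat.card G = 3 ∨ Nat.card G = 6 := by
    interval_cases hc : Nat.card G <;> simp_all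
  rcases hcases with h1 | h2 | h3 | h6
  · have : Subsingleton G := (Nat.card_eq_one_iff_unique.mp h1).1
    infer_instance
  · have : Fact (Nat.Prime 2) := ⟨Nat.prime_two⟩
    exact isSolvable_of_prime_card h2
  · have : Fact (Nat.Prime 3) := ⟨Nat.prime_three⟩
    exact isSolvable_of_prime_card h3
  · have : Fact (Nat.Prime 3) := ⟨Nat.prime_three⟩
    obtain ⟨P⟩ : Nonempty (Sylow 3 G) := inferInstance
    have hPcard : Nat.card P = 3 := by
      rw [Sylow.card_eq_multiplicity, h6]
      have : (6 : ℕ).factorization 3 = 1 := by
        have h6' : (6 : ℕ) = 2 * 3 := by norm_num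
        rw [h6', Nat.factorization_mul (by norm_num) (by norm_num)]
        simp [Nat.Prime.factorization_self Nat.prime_three, Nat.factorization_eq_zero_of_not_dvd]
      rw [this, pow_one]
    have hidx : (P : Subgroup G).index = 2 := by
      have := Subgroup.index_mul_card (P : Subgroup G)
      rw [hPcard, h6] at this
      omega
    have hPn : (P : Subgroup G).Normal := Subgroup.normal_of_index_eq_two hidx
    apply isSolvable_of_normal_h8 (P : Subgroup G)
    · exact isSolvable_of_prime_card hPcard
    · have : Fact (Nat.Prime 2) := ⟨Nat.prime_two⟩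
      apply isSolvable_of_prime_card (p := 2)
      rw [← Subgroup.index_eq_card, hidx]

/-- groups of order dividing `24` are solvable -/
theorem isSolvable_of_card_dvd_24 [Finite G] (h : Nat.card G ∣ 24) : Group.IsSolvable G := by
  have : Fact (Nat.Prime 2) := ⟨Nat.prime_two⟩
  obtain ⟨P⟩ : Nonempty (Sylow 2 G) := inferInstance
  have hnd := P.not_dvd_index
  have hidvd : (P : Subgroup G).index ∣ 3 := by
    have h1 : (P : Subgroup G).index ∣ 8 * 3 := dvd_trans (Subgroup.index_dvd_card _) h
    have hc : Nat.Coprime (P : Subgroup G).index 8 := by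
      have : Nat.Coprime (P : Subgroup G).index 2 :=
        (Nat.coprime_comm.mp ((Nat.Prime.coprime_iff_not_dvd Nat.prime_two).mpr hnd))
      have h8 : (8 : ℕ) = 2 ^ 3 := by norm_num
      rw [h8]
      exact Nat.Coprime.pow_right 3 this
    exact hc.dvd_of_dvd_mul_left h1
  rcases (Nat.dvd_prime Nat.prime_three).mp hidvd with h1 | h3
  · -- G is a 2-group
    have htop : (P : Subgroup G) = ⊤ := Subgroup.index_eq_one.mp h1
    have hG : IsPGroup 2 G := by
      have := P.isPGroup'
      rw [htop] at this
      exact this.of_equiv (Subgroup.topEquiv)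
    have := hG.isNilpotent
    infer_instance
  · -- action on the three cosets
    obtain ⟨f, hf⟩ : ∃ f : G →* Equiv.Perm (G ⧸ (P : Subgroup G)),
        f = MulAction.toPermHom G (G ⧸ (P : Subgroup G)) := ⟨_, rfl⟩
    have hker : f.ker ≤ (P : Subgroup G) := by
      rw [hf, ← Subgroup.normalCore_eq_ker]
      exact Subgroup.normalCore_le _
    have hkerp : IsPGroup 2 f.ker := P.isPGroup'.to_le hker
    have hkers : Group.IsSolvable f.ker := by
      have := hkerp.isNilpotent
      infer_instance
    have hcard : Nat.card (Equiv.Perm (G ⧸ (P : Subgroup G))) = 6 := by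
      rw [Nat.card_perm, ← Subgroup.index_eq_card, h3]
      rfl
    have hrange : Group.IsSolvable f.range := by
      apply isSolvable_of_card_dvd_six
      rw [← hcard]
      exact Subgroup.card_subgroup_dvd_card _
    exact Group.isSolvable_of_ker_le_range f.ker.subtype f.rangeRestrict (by
      rw [MonoidHom.ker_rangeRestrict, Subgroup.range_subtype])

end

/-- a group of permutations moving at most four points is solvable -/
theorem isSolvable_of_support_subset {α : Type*} [DecidableEq α] [Fintype α]
    (T : Finset α) (hT : T.card ≤ 4) (H : Subgroup (Equiv.Perm α))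
    (hH : ∀ σ ∈ H, ∀ x, x ∉ T → σ x = x) : Group.IsSolvable H := by
  -- the subgroup of all permutations fixing the complement of T
  let K : Subgroup (Equiv.Perm α) :=
    { carrier := {σ | ∀ x, x ∉ T → σ x = x}
      one_mem' := fun x _ => rfl
      mul_mem' := by
        intro σ τ hσ hτ x hx
        rw [Equiv.Perm.mul_apply, hτ x hx, hσ x hx]
      inv_mem' := by
        intro σ hσ x hx
        rw [Equiv.Perm.inv_eq_iff_eq, hσ x hx] }
  have hHK : H ≤ K := fun σ hσ => hH σ hσ
  have hKcard : Nat.card K = (T.card).factorial := by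
    have e := Equiv.Perm.subtypeEquivSubtypePerm (fun x : α => x ∈ T)
    have h1 : Nat.card K = Nat.card {f : Equiv.Perm α // ∀ a, ¬ a ∈ T → f a = a} := rfl
    rw [h1, ← Nat.card_congr e, Nat.card_perm, Nat.card_eq_fintype_card, Fintype.card_coe]
  apply isSolvable_of_card_dvd_24
  have h1 : Nat.card H ∣ Nat.card K := Subgroup.card_dvd_of_le hHK
  have h2 : (T.card).factorial ∣ Nat.factorial 4 := Nat.factorial_dvd_factorial hT
  rw [hKcard] at h1
  exact dvd_trans h1 h2

end Cfsg.Agent.Lib.Helper8
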