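import Mathlib
import Cfsg.Agent.S4207
import Cfsg.Agent.Lib.Lead.Frattini

set_option autoImplicit false

namespace Cfsg.Agent.Lib.Helper8

section L1

variable {P : Type*} [Group P] [Finite P]

/-- The automorphisms acting trivially modulo a (fixed) subgroup `N` that they preserve. -/
def autTrivMod (N : Subgroup P) : Subgroup (MulAut P) where
  carrier := {α | ∀ x : P, α x * x⁻¹ ∈ N}
  one_mem' := by
    intro x
    simp
  mul_mem' := by
    intro α β hα hβ x
    have h1 := hα (β x)
    have h2 := hβ x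
    have : (α * β) x * x⁻¹ = (α (β x) * (β x)⁻¹) * (β x * x⁻¹) := by
      rw [MulAut.mul_apply]; group
    rw [this]
    exact N.mul_mem h1 h2
  inv_mem' := by
    intro α hα x
    have h1 := hα (α⁻¹ x)
    rw [MulAut.apply_inv_self] at h1
    have : α⁻¹ x * x⁻¹ = (x * (α⁻¹ x)⁻¹)⁻¹ := by group
    rw [this]
    exact N.inv_mem h1

theorem mem_autTrivMod (N : Subgroup P) (α : MulAut P) :
    α ∈ autTrivMod N ↔ ∀ x : P, α x * x⁻¹ ∈ N := Iff.rfl

/-- A `p'`-automorphism of a `p`-group acting trivially on the Frattini quotient is trivial. -/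
theorem aut_eq_one_of_trivial_mod_frattini {p : ℕ} [Fact p.Prime] (hP : IsPGroup p P)
    (σ : MulAut P) (hcop : (orderOf σ).Coprime p) (h : ∀ x : P, σ x * x⁻¹ ∈ frattini P) :
    σ = 1 := by
  obtain ⟨n, hn⟩ := IsPGroup.iff_card.1 hP
  have hidx : (frattini P).index ∣ p ^ n := by
    rw [← hn]; exact Subgroup.index_dvd_card _
  obtain ⟨r, _, hr⟩ := (Nat.dvd_prime_pow Fact.out).1 hidx
  have hcard := Cfsg.Agent.S4207.result hn hr (autTrivMod (frattini P)) (fun α hα => hα)
  have hσ : σ ∈ autTrivMod (frattini P) := h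
  have h1 : orderOf σ ∣ Nat.card (autTrivMod (frattini P)) := by
    have := orderOf_dvd_natCard (⟨σ, hσ⟩ : autTrivMod (frattini P))
    rwa [Subgroup.orderOf_mk] at this
  have h2 : orderOf σ ∣ p ^ (r * (n - r)) := h1.trans hcard
  have h3 : orderOf σ = 1 := Nat.Coprime.eq_one_of_dvd (Nat.Coprime.pow_right _ hcop) h2
  exact orderOf_eq_one_iff.1 h3

theorem aut_eq_one_of_trivial_mod_commutator {p : ℕ} [Fact p.Prime] (hP : IsPGroup p P)
    (σ : MulAut P) (hcop : (orderOf σ).Coprime p) (h : ∀ x : P, σ x * x⁻¹ ∈ commutator P) :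
    σ = 1 :=
  aut_eq_one_of_trivial_mod_frattini hP σ hcop
    (fun x => Cfsg.Agent.Lib.Lead.commutator_le_frattini_of_isPGroup hP (h x))

end L1

section Four

variable {P : Type*} [Group P] [Finite P]

/-- An automorphism of a group of order four which fixes a non-identity element is an
involution. -/
theorem aut_sq_of_card_four {A : Type*} [Group A] [Finite A] (hA : Nat.card A = 4) (τ : A ≃* A)
    (a : A) (ha : a ≠ 1) (hτa : τ a = a) (x : A) : τ (τ x) = x := by
  classical
  let F : Subgroup A :=
    { carrier := {x | τ x = x}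
      one_mem' := map_one τ
      mul_mem' := by
        intro x y hx hy
        have hx' : τ x = x := hx
        have hy' : τ y = y := hy
        show τ (x * y) = x * y
        rw [map_mul, hx', hy']
      inv_mem' := by
        intro x hx
        have hx' : τ x = x := hx
        show τ x⁻¹ = x⁻¹
        rw [map_inv, hx'] }
  have hF : ∀ y : A, y ∈ F ↔ τ y = y := fun y => Iff.rfl
  have haF : a ∈ F := hτa
  have hdvd : Nat.card F ∣ 4 := hA ▸ Subgroup.card_subgroup_dvd_card F
  have hne1 : Nat.card F ≠ 1 := by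
    intro h1
    rw [Subgroup.card_eq_one] at h1
    rw [h1, Subgroup.mem_bot] at haF
    exact ha haF
  have hcases : Nat.card F = 2 ∨ Nat.card F = 4 := by
    have hle : Nat.card F ≤ 4 := Nat.le_of_dvd (by norm_num) hdvd
    have hpos : 0 < Nat.card F := Nat.card_pos
    interval_cases h : Nat.card F
    · exact absurd rfl hne1
    · left; rfl
    · norm_num at hdvd
    · right; rfl
  rcases hcases with h2 | h4
  · have hidx : F.index = 2 := by
      have := Subgroup.card_mul_index F
      rw [h2, hA] at this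
      omega
    by_cases hx : x ∈ F
    · have hx' : τ x = x := hx
      rw [hx', hx']
    · have hτx : τ x ∉ F := by
        intro h
        apply hx
        have h' : τ (τ x) = τ x := h
        exact τ.injective h'
      have hmem : τ x * x⁻¹ ∈ F := by
        rw [Subgroup.mul_mem_iff_of_index_two hidx]
        constructor
        · intro h; exact absurd h hτx
        · intro h; exact absurd (by simpa using F.inv_mem h) hx
      set f := τ x * x⁻¹ with hf
      have hfx : τ x = f * x := by rw [hf]; group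
      have hf2 : f * f = 1 := by
        have h1 : (⟨f, hmem⟩ : F) ^ Nat.card F = 1 := pow_card_eq_one'
        rw [h2, pow_two] at h1
        exact congrArg Subtype.val h1
      have hτf : τ f = f := hmem
      rw [hfx, map_mul, hτf, hfx, ← mul_assoc, hf2, one_mul]
  · have htop : F = ⊤ := Subgroup.eq_top_of_card_eq F (by rw [h4, hA])
    have hall : ∀ y : A, τ y = y := fun y => (hF y).1 (by rw [htop]; trivial)
    rw [hall, hall]

/-- Let `P` be a `2`-group with `|P : P'| = 4` and `σ ≠ 1` an automorphism of odd order. Then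
`σ` moves every non-trivial coset of `P'`. -/
theorem not_mem_commutator_of_odd (hP : IsPGroup 2 P) (h4 : (commutator P).index = 4)
    (σ : MulAut P) (hodd : Odd (orderOf σ)) (hσ : σ ≠ 1) (g : P) (hg : g ∉ commutator P) :
    σ g * g⁻¹ ∉ commutator P := by
  intro hcon
  have hchar : (commutator P).map ((σ : P ≃* P) : P →* P) = commutator P :=
    (Subgroup.characteristic_iff_map_eq.1 inferInstance) σ
  let τ := QuotientGroup.congr (commutator P) (commutator P) σ hchar
  have hτ : ∀ x : P, τ (QuotientGroup.mk x) = QuotientGroup.mk (σ x) :=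
    fun x => QuotientGroup.congr_mk _ _ _ _ x
  have hcardA : Nat.card (P ⧸ commutator P) = 4 := by
    rw [← Subgroup.index_eq_card]; exact h4
  have ha : (QuotientGroup.mk g : P ⧸ commutator P) ≠ 1 := by
    rw [Ne, QuotientGroup.eq_one_iff]; exact hg
  have hτa : τ (QuotientGroup.mk g) = QuotientGroup.mk g := by
    rw [hτ, QuotientGroup.eq]
    have : (σ g)⁻¹ * g = (σ g * g⁻¹)⁻¹ ^ (1 : ℕ) * ((σ g * g⁻¹) * ((σ g)⁻¹ * g)) := by group
    have h2 : (σ g)⁻¹ * g = (g⁻¹ * (σ g * g⁻¹) * g)⁻¹ := by group
    rw [h2]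
    apply Subgroup.inv_mem
    have := (inferInstance : (commutator P).Normal).conj_mem _ hcon g⁻¹
    simpa using this
  have hsq := aut_sq_of_card_four hcardA τ _ ha hτa
  -- `σ ^ 2` acts trivially modulo the commutator subgroup
  have h2 : ∀ x : P, (σ ^ 2) x * x⁻¹ ∈ commutator P := by
    intro x
    have := hsq (QuotientGroup.mk x)
    rw [hτ, hτ, QuotientGroup.eq] at this
    have h3 : (σ ^ 2) x * x⁻¹ = (σ (σ x)) * ((σ (σ x))⁻¹ * x)⁻¹ * (σ (σ x))⁻¹ := by
      rw [pow_two, MulAut.mul_apply]; group
    rw [h3]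
    exact (inferInstance : (commutator P).Normal).conj_mem _ (Subgroup.inv_mem _ this) _
  have hcop : (orderOf (σ ^ 2)).Coprime 2 := by
    have hdvd : orderOf (σ ^ 2) ∣ orderOf σ := orderOf_pow_dvd 2
    have : Odd (orderOf (σ ^ 2)) := Odd.of_dvd_nat hodd hdvd
    exact Nat.Coprime.symm (Nat.coprime_two_left.2 this)
  haveI : Fact (Nat.Prime 2) := ⟨Nat.prime_two⟩
  have hσ2 : σ ^ 2 = 1 := aut_eq_one_of_trivial_mod_commutator hP (σ ^ 2) hcop h2
  have hdvd2 : orderOf σ ∣ 2 := orderOf_dvd_of_pow_eq_one hσ2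
  have h1 : orderOf σ = 1 := by
    rcases (Nat.dvd_prime Nat.prime_two).1 hdvd2 with h | h
    · exact h
    · rw [h] at hodd; exact absurd hodd (by decide)
  exact hσ (orderOf_eq_one_iff.1 h1)

end Four

end Cfsg.Agent.Lib.Helper8
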