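import Mathlib

set_option autoImplicit false

namespace Cfsg.Agent.Lib.Helper8

open scoped Pointwise

/-- A finite group is not the union of the conjugates of a proper subgroup. -/
theorem exists_not_mem_conj_smul {G : Type*} [Group G] [Finite G] (M : Subgroup G) (hM : M ≠ ⊤) :
    ∃ x : G, ∀ g : G, x ∉ MulAut.conj g • M := by
  classical
  by_contra hcon
  push Not at hcon
  -- a surjection from `Option ((G ⧸ M) × {m : M // m ≠ 1})` onto `G`
  let f : Option ((G ⧸ M) × {m : M // m ≠ 1}) → G := fun o =>
    match o with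
    | none => 1
    | some (q, m) => q.out * (m.1 : G) * q.out⁻¹
  have hsurj : Function.Surjective f := by
    intro x
    by_cases hx : x = 1
    · exact ⟨none, hx.symm⟩
    · obtain ⟨g, hg⟩ := hcon x
      rw [Subgroup.mem_pointwise_smul_iff_inv_smul_mem] at hg
      simp only [MulAut.smul_def, MulAut.inv_apply, MulAut.conj_symm_apply] at hg
      -- g = out * m₀
      have hq : (QuotientGroup.mk g : G ⧸ M).out⁻¹ * g ∈ M := by
        rw [← QuotientGroup.eq]
        exact QuotientGroup.out_eq' _
      set t := (QuotientGroup.mk g : G ⧸ M).out with ht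
      have hm : t⁻¹ * x * t ∈ M := by
        have h1 : t⁻¹ * x * t = (t⁻¹ * g) * (g⁻¹ * x * g) * (t⁻¹ * g)⁻¹ := by group
        rw [h1]
        exact M.mul_mem (M.mul_mem hq hg) (M.inv_mem hq)
      have hm1 : (⟨t⁻¹ * x * t, hm⟩ : M) ≠ 1 := by
        intro h
        apply hx
        have h2 : t⁻¹ * x * t = 1 := congrArg Subtype.val h
        have h3 : x = t * (t⁻¹ * x * t) * t⁻¹ := by group
        rw [h3, h2]; group
      refine ⟨some (QuotientGroup.mk g, ⟨⟨t⁻¹ * x * t, hm⟩, hm1⟩), ?_⟩
      show t * (t⁻¹ * x * t) * t⁻¹ = x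
      group
  have hcard := Nat.card_le_card_of_surjective f hsurj
  rw [Finite.card_option, Nat.card_prod] at hcard
  have hM1 : Nat.card M = Nat.card {m : M // m ≠ 1} + 1 := by
    rw [← Finite.card_option]
    exact Nat.card_congr (Equiv.optionSubtypeNe (1 : M)).symm
  have hidx : Nat.card (G ⧸ M) = M.index := rfl
  have hmul := M.card_mul_index
  have hidx1 : M.index ≠ 1 := fun h => hM (Subgroup.index_eq_one.mp h)
  have hidx0 : M.index ≠ 0 := Subgroup.index_ne_zero_of_finite
  rw [hidx] at hcard
  -- |G| = |M| * idx ≤ idx * (|M| - 1) + 1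
  have : Nat.card M * M.index ≤ M.index * Nat.card {m : M // m ≠ 1} + 1 := by
    rw [hmul]; exact hcard
  rw [hM1] at this
  have h2 : 2 ≤ M.index := by omega
  nlinarith

end Cfsg.Agent.Lib.Helper8
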