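import Mathlib

/-!
# Idempotents in rings with a Fitting decomposition (abstract part of the local theory)

A subring `T` of a ring `Λ` together with a set `P ⊆ T` (playing the role of `𝔭T`) is a
*Fitting pair* when `P` is a two-sided ideal of `T` containing no nonzero idempotent and every
element `a ∈ T` has a Fitting decomposition: an idempotent `e` (in the bicommutant of `a`) such
that `a` is invertible on `e` and nilpotent modulo `P` on `1 - e`.
We derive: corner rings of primitive idempotents are local (elementwise formulation), Rosenberg's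
lemma, and the isomorphism criterion for primitive idempotents.
-/

set_option autoImplicit false

namespace Cfsg.Agent.Lib.Helper8.BPS

variable {Λ : Type*} [Ring Λ]

/-- `a` lies in the corner `jΛj`. -/
def Corner (j a : Λ) : Prop := j * a = a ∧ a * j = a

theorem Corner.mul {j a b : Λ} (ha : Corner j a) (hb : Corner j b) : Corner j (a * b) :=
  ⟨by rw [← mul_assoc, ha.1], by rw [mul_assoc, hb.2]⟩

theorem Corner.add {j a b : Λ} (ha : Corner j a) (hb : Corner j b) : Corner j (a + b) :=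
  ⟨by rw [mul_add, ha.1, hb.1], by rw [add_mul, ha.2, hb.2]⟩

theorem Corner.neg {j a : Λ} (ha : Corner j a) : Corner j (-a) :=
  ⟨by rw [mul_neg, ha.1], by rw [neg_mul, ha.2]⟩

theorem Corner.sub {j a b : Λ} (ha : Corner j a) (hb : Corner j b) : Corner j (a - b) := by
  rw [sub_eq_add_neg]; exact ha.add hb.neg

theorem Corner.zero (j : Λ) : Corner j 0 := ⟨mul_zero _, zero_mul _⟩

theorem Corner.self {j : Λ} (hj : j * j = j) : Corner j j := ⟨hj, hj⟩

theorem Corner.sandwich {j : Λ} (hj : j * j = j) (x : Λ) : Corner j (j * x * j) :=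
  ⟨by rw [← mul_assoc, ← mul_assoc, hj], by rw [mul_assoc, hj]⟩

theorem Corner.mul_left {j a : Λ} (ha : Corner j a) (hj : j * j = j) (x : Λ) :
    Corner j (a * x * j) :=
  ⟨by rw [← mul_assoc, ← mul_assoc, ha.1], by rw [mul_assoc, hj]⟩

theorem Corner.pow {j a : Λ} (ha : Corner j a) : ∀ n : ℕ, 0 < n → Corner j (a ^ n)
  | 0, h => absurd h (lt_irrefl 0)
  | 1, _ => by simpa using ha
  | (n + 2), _ => by
      rw [pow_succ]
      exact (Corner.pow ha (n + 1) (Nat.succ_pos n)).mul ha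

theorem Corner.sum {ι : Type*} {j : Λ} (s : Finset ι) (f : ι → Λ)
    (h : ∀ i ∈ s, Corner j (f i)) : Corner j (∑ i ∈ s, f i) := by
  classical
  induction s using Finset.induction_on with
  | empty => simpa using Corner.zero j
  | insert a s ha ih =>
    rw [Finset.sum_insert ha]
    exact (h a (Finset.mem_insert_self a s)).add
      (ih fun i hi => h i (Finset.mem_insert_of_mem hi))

/-- a sub-idempotent of a sub-idempotent -/
theorem Corner.trans {i j a : Λ} (hji : Corner i j) (ha : Corner j a) : Corner i a :=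
  ⟨by rw [← ha.1, ← mul_assoc, hji.1], by rw [← ha.2, mul_assoc, hji.2]⟩

/-- Fitting pair. -/
structure FitSub (T : Subring Λ) (P : Set Λ) : Prop where
  P_sub : P ⊆ T
  P_zero : (0 : Λ) ∈ P
  P_add : ∀ a ∈ P, ∀ b ∈ P, a + b ∈ P
  P_neg : ∀ a ∈ P, -a ∈ P
  P_mul_left : ∀ t ∈ T, ∀ a ∈ P, t * a ∈ P
  P_mul_right : ∀ t ∈ T, ∀ a ∈ P, a * t ∈ P
  idem_P : ∀ e ∈ P, e * e = e → e = 0
  fit : ∀ a ∈ T, ∃ e ∈ T, ∃ b ∈ T, e * e = e ∧ a * b = e ∧ b * a = e ∧ b * e = b ∧ e * b = b ∧
    (∀ c : Λ, c * a = a * c → c * e = e * c ∧ c * b = b * c) ∧ ∃ n : ℕ, 0 < n ∧ (a * (1 - e)) ^ n ∈ P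

variable {T : Subring Λ} {P : Set Λ}

theorem FitSub.P_sum (h : FitSub T P) {ι : Type*} (s : Finset ι) (f : ι → Λ)
    (hf : ∀ i ∈ s, f i ∈ P) : ∑ i ∈ s, f i ∈ P := by
  classical
  induction s using Finset.induction_on with
  | empty => simpa using h.P_zero
  | insert a s ha ih =>
    rw [Finset.sum_insert ha]
    exact h.P_add _ (hf a (Finset.mem_insert_self a s)) _
      (ih fun i hi => hf i (Finset.mem_insert_of_mem hi))

theorem FitSub.P_sub' (h : FitSub T P) {a b : Λ} (ha : a ∈ P) (hb : b ∈ P) : a - b ∈ P := by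
  rw [sub_eq_add_neg]; exact h.P_add _ ha _ (h.P_neg _ hb)

theorem FitSub.P_pow (h : FitSub T P) {a : Λ} {n : ℕ} (ha : a ^ n ∈ P) (haT : a ∈ T) (m : ℕ)
    (hm : n ≤ m) : a ^ m ∈ P := by
  obtain ⟨k, rfl⟩ := Nat.exists_eq_add_of_le hm
  rw [pow_add]
  exact h.P_mul_right _ (Subring.pow_mem T haT k) _ ha

/-- unit of the corner ring `jTj` -/
def CUnit (T : Subring Λ) (j a : Λ) : Prop :=
  ∃ b, b ∈ T ∧ Corner j b ∧ a * b = j ∧ b * a = j

/-- nilpotent modulo `P` -/
def IsNil (P : Set Λ) (a : Λ) : Prop := ∃ n : ℕ, 0 < n ∧ a ^ n ∈ P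

/-- primitive idempotent of `T` -/
def Prim (T : Subring Λ) (j : Λ) : Prop :=
  j ∈ T ∧ j * j = j ∧ j ≠ 0 ∧ ∀ e ∈ T, e * e = e → Corner j e → e = 0 ∨ e = j

/-- Fitting decomposition inside a corner. -/
theorem FitSub.corner_fit (h : FitSub T P) {j a : Λ} (ha : a ∈ T) (hc : Corner j a) :
    ∃ e ∈ T, e * e = e ∧ Corner j e ∧ a * e = e * a ∧
      (∃ b ∈ T, Corner e b ∧ a * b = e ∧ b * a = e) ∧ ∃ n : ℕ, 0 < n ∧ (a * (j - e)) ^ n ∈ P := by
  obtain ⟨e, heT, b, hbT, hee, hab, hba, hbe, heb, hcomm, n, hn, hnP⟩ := h.fit a ha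
  have hja : j * a = a * j := by rw [hc.1, hc.2]
  have hje := (hcomm j hja).1
  have hce : Corner j e := by
    constructor
    · rw [← hab, ← mul_assoc, hc.1]
    · rw [← hba, mul_assoc, hc.2]
  refine ⟨e, heT, hee, hce, ?_, ⟨b, hbT, ⟨heb, hbe⟩, hab, hba⟩, n, hn, ?_⟩
  · have := (hcomm a rfl).1
    exact this
  · have : a * (j - e) = a * (1 - e) := by
      rw [mul_sub, mul_sub, hc.2, mul_one]
    rw [this]; exact hnP


theorem idem_pow {j : Λ} (hjj : j * j = j) {n : ℕ} (hn : 0 < n) : j ^ n = j := by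
  obtain ⟨k, rfl⟩ := Nat.exists_eq_succ_of_ne_zero (Nat.pos_iff_ne_zero.1 hn)
  exact (show IsIdempotentElem j from hjj).pow_succ_eq k

theorem FitSub.not_cunit_and_nil (h : FitSub T P) {j a : Λ} (hj0 : j ≠ 0) (hjj : j * j = j)
    (hu : CUnit T j a) (hn : IsNil P a) : False := by
  obtain ⟨b, hbT, hbc, hab, hba⟩ := hu
  obtain ⟨n, hn0, hnP⟩ := hn
  have hcomm : Commute a b := by
    show a * b = b * a
    rw [hab, hba]
  have hpow : (a * b) ^ n = a ^ n * b ^ n := hcomm.mul_pow n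
  rw [hab, idem_pow hjj hn0] at hpow
  have hjP : j ∈ P := by
    rw [hpow]; exact h.P_mul_right _ (Subring.pow_mem T hbT n) _ hnP
  exact hj0 (h.idem_P j hjP hjj)

/-- dichotomy in the corner of a primitive idempotent -/
theorem FitSub.dichotomy (h : FitSub T P) {j a : Λ} (hj : Prim T j) (ha : a ∈ T)
    (hc : Corner j a) : CUnit T j a ∨ IsNil P a := by
  obtain ⟨e, heT, hee, hce, _, ⟨b, hbT, hbc, hab, hba⟩, n, hn, hnP⟩ := h.corner_fit ha hc
  rcases hj.2.2.2 e heT hee hce with h0 | h1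
  · right
    refine ⟨n, hn, ?_⟩
    rw [h0, sub_zero, hc.2] at hnP
    exact hnP
  · left
    subst h1
    exact ⟨b, hbT, hbc, hab, hba⟩

/-- the "radical" of the corner ring of `j` -/
def CRad (T : Subring Λ) (P : Set Λ) (j a : Λ) : Prop := a ∈ T ∧ Corner j a ∧ IsNil P a

theorem FitSub.crad_of_not_cunit (h : FitSub T P) {j a : Λ} (hj : Prim T j) (ha : a ∈ T)
    (hc : Corner j a) (hnu : ¬ CUnit T j a) : CRad T P j a :=
  ⟨ha, hc, (h.dichotomy hj ha hc).resolve_left hnu⟩

theorem FitSub.not_cunit_of_crad (h : FitSub T P) {j a : Λ} (hj : Prim T j)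
    (hr : CRad T P j a) : ¬ CUnit T j a :=
  fun hu => h.not_cunit_and_nil hj.2.2.1 hj.2.1 hu hr.2.2

theorem CUnit.mul {j a a' : Λ} (ha : CUnit T j a) (ha' : CUnit T j a') (hca : Corner j a)
    (hca' : Corner j a') : CUnit T j (a * a') := by
  obtain ⟨b, hbT, hbc, hab, hba⟩ := ha
  obtain ⟨b', hbT', hbc', hab', hba'⟩ := ha'
  refine ⟨b' * b, T.mul_mem hbT' hbT, hbc'.mul hbc, ?_, ?_⟩
  · calc a * a' * (b' * b) = a * (a' * b') * b := by noncomm_ring
      _ = a * j * b := by rw [hab']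
      _ = a * b := by rw [hca.2]
      _ = j := hab
  · calc b' * b * (a * a') = b' * (b * a) * a' := by noncomm_ring
      _ = b' * j * a' := by rw [hba]
      _ = b' * a' := by rw [hbc'.2]
      _ = j := hba'

/-- A one-sided inverse in a primitive corner is two-sided. -/
theorem FitSub.cunit_of_left_inv (h : FitSub T P) {j a c : Λ} (hj : Prim T j) (ha : a ∈ T)
    (hca : Corner j a) (hc : c ∈ T) (hcc : Corner j c) (hca1 : c * a = j) : CUnit T j a := by
  -- `a c` is an idempotent of the corner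
  have hid : (a * c) * (a * c) = a * c := by
    calc a * c * (a * c) = a * (c * a) * c := by noncomm_ring
      _ = a * j * c := by rw [hca1]
      _ = a * c := by rw [hca.2]
  rcases hj.2.2.2 (a * c) (T.mul_mem ha hc) hid (hca.mul hcc) with h0 | h1
  · exfalso
    have : j = 0 := by
      calc j = j * j := hj.2.1.symm
        _ = c * a * (c * a) := by rw [hca1]
        _ = c * (a * c) * a := by noncomm_ring
        _ = 0 := by rw [h0]; simp
    exact hj.2.2.1 this
  · exact ⟨c, hc, hcc, h1, hca1⟩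

theorem FitSub.cunit_of_right_inv (h : FitSub T P) {j a c : Λ} (hj : Prim T j) (ha : a ∈ T)
    (hca : Corner j a) (hc : c ∈ T) (hcc : Corner j c) (hca1 : a * c = j) : CUnit T j a := by
  have hid : (c * a) * (c * a) = c * a := by
    calc c * a * (c * a) = c * (a * c) * a := by noncomm_ring
      _ = c * j * a := by rw [hca1]
      _ = c * a := by rw [hcc.2]
  rcases hj.2.2.2 (c * a) (T.mul_mem hc ha) hid (hcc.mul hca) with h0 | h1
  · exfalso
    have : j = 0 := by
      calc j = j * j := hj.2.1.symm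
        _ = a * c * (a * c) := by rw [hca1]
        _ = a * (c * a) * c := by noncomm_ring
        _ = 0 := by rw [h0]; simp
    exact hj.2.2.1 this
  · exact ⟨c, hc, hcc, hca1, h1⟩

/-- the radical is closed under left multiplication by corner elements -/
theorem FitSub.crad_mul_left (h : FitSub T P) {j a c : Λ} (hj : Prim T j)
    (hr : CRad T P j a) (hc : c ∈ T) (hcc : Corner j c) : CRad T P j (c * a) := by
  refine h.crad_of_not_cunit hj (T.mul_mem hc hr.1) (hcc.mul hr.2.1) ?_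
  rintro ⟨b, hbT, hbc, hab, hba⟩
  -- `(b c) a = j`
  have : CUnit T j a :=
    h.cunit_of_left_inv hj hr.1 hr.2.1 (T.mul_mem hbT hc) (hbc.mul hcc) (by rw [mul_assoc]; exact hba)
  exact h.not_cunit_of_crad hj hr this

theorem FitSub.crad_mul_right (h : FitSub T P) {j a c : Λ} (hj : Prim T j)
    (hr : CRad T P j a) (hc : c ∈ T) (hcc : Corner j c) : CRad T P j (a * c) := by
  refine h.crad_of_not_cunit hj (T.mul_mem hr.1 hc) (hr.2.1.mul hcc) ?_
  rintro ⟨b, hbT, hbc, hab, hba⟩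
  have : CUnit T j a :=
    h.cunit_of_right_inv hj hr.1 hr.2.1 (T.mul_mem hc hbT) (hcc.mul hbc)
      (by rw [← mul_assoc]; exact hab)
  exact h.not_cunit_of_crad hj hr this

/-- `j - x` is a unit of the corner when `x` is in the radical -/
theorem FitSub.cunit_sub_of_crad (h : FitSub T P) {j x : Λ} (hj : Prim T j)
    (hr : CRad T P j x) : CUnit T j (j - x) := by
  have hjx : j - x ∈ T := T.sub_mem hj.1 hr.1
  have hcjx : Corner j (j - x) := (Corner.self hj.2.1).sub hr.2.1
  by_contra hnu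
  have hr' := h.crad_of_not_cunit hj hjx hcjx hnu
  obtain ⟨n, hn, hnP⟩ := hr.2.2
  obtain ⟨m, hm, hmP⟩ := hr'.2.2
  have hcomm : Commute x (j - x) := by
    show x * (j - x) = (j - x) * x
    rw [mul_sub, sub_mul, hr.2.1.2, hr.2.1.1]
  have hsum : (x + (j - x)) ^ (n + m) = j := by
    rw [add_sub_cancel]
    exact idem_pow hj.2.1 (by omega)
  rw [hcomm.add_pow] at hsum
  have hjP : j ∈ P := by
    rw [← hsum]
    apply h.P_sum
    intro k hk
    have hkT : x ^ k * (j - x) ^ (n + m - k) ∈ T :=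
      T.mul_mem (Subring.pow_mem T hr.1 k) (Subring.pow_mem T hjx _)
    have : x ^ k * (j - x) ^ (n + m - k) ∈ P := by
      by_cases hkn : n ≤ k
      · exact h.P_mul_right _ (Subring.pow_mem T hjx _) _ (h.P_pow hnP hr.1 k hkn)
      · have hle : m ≤ n + m - k := by omega
        exact h.P_mul_left _ (Subring.pow_mem T hr.1 k) _ (h.P_pow hmP hjx _ hle)
    have h2 : x ^ k * (j - x) ^ (n + m - k) * ((n + m).choose k : Λ)
        = ((n + m).choose k : Λ) * (x ^ k * (j - x) ^ (n + m - k)) := by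
      rw [Nat.cast_comm]
    rw [h2]
    exact h.P_mul_left _ (natCast_mem T _) _ this
  exact hj.2.2.1 (h.idem_P j hjP hj.2.1)

/-- the radical is closed under addition -/
theorem FitSub.crad_add (h : FitSub T P) {j a a' : Λ} (hj : Prim T j)
    (hr : CRad T P j a) (hr' : CRad T P j a') : CRad T P j (a + a') := by
  refine h.crad_of_not_cunit hj (T.add_mem hr.1 hr'.1) (hr.2.1.add hr'.2.1) ?_
  rintro ⟨w, hwT, hwc, hvw, hwv⟩
  -- `w a + w a' = j`
  have h1 : CRad T P j (w * a) := h.crad_mul_left hj hr hwT hwc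
  have h2 : CRad T P j (w * a') := h.crad_mul_left hj hr' hwT hwc
  have h3 : j - w * a = w * a' := by
    rw [← hwv, mul_add]; abel
  have h4 : CUnit T j (w * a') := by
    rw [← h3]; exact h.cunit_sub_of_crad hj h1
  exact h.not_cunit_of_crad hj h2 h4

theorem FitSub.crad_neg (h : FitSub T P) {j a : Λ} (hj : Prim T j)
    (hr : CRad T P j a) : CRad T P j (-a) := by
  have : -a = (-j) * a := by rw [neg_mul, hr.2.1.1]
  rw [this]
  exact h.crad_mul_left hj hr (T.neg_mem hj.1) (Corner.self hj.2.1).neg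

theorem FitSub.crad_zero (h : FitSub T P) {j : Λ} (hj : Prim T j) : CRad T P j 0 :=
  ⟨T.zero_mem, Corner.zero j, 1, one_pos, by simpa using h.P_zero⟩

theorem FitSub.crad_sum (h : FitSub T P) {j : Λ} (hj : Prim T j) {ι : Type*} (s : Finset ι)
    (f : ι → Λ) (hf : ∀ i ∈ s, CRad T P j (f i)) : CRad T P j (∑ i ∈ s, f i) := by
  classical
  induction s using Finset.induction_on with
  | empty => simpa using h.crad_zero hj
  | insert a s ha ih =>
    rw [Finset.sum_insert ha]
    exact h.crad_add hj (hf a (Finset.mem_insert_self a s))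
      (ih fun i hi => hf i (Finset.mem_insert_of_mem hi))

theorem FitSub.crad_of_mem_P (h : FitSub T P) {j a : Λ} (ha : a ∈ P) (hc : Corner j a) :
    CRad T P j a :=
  ⟨h.P_sub ha, hc, 1, one_pos, by simpa using ha⟩

theorem FitSub.not_crad_self (h : FitSub T P) {j : Λ} (hj : Prim T j) : ¬ CRad T P j j := by
  intro hr
  exact h.not_cunit_of_crad hj hr ⟨j, hj.1, Corner.self hj.2.1, hj.2.1, hj.2.1⟩

/-- If a finite sum of corner elements is a unit, one of them is. -/
theorem FitSub.exists_cunit_of_sum (h : FitSub T P) {j : Λ} (hj : Prim T j) {ι : Type*}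
    (s : Finset ι) (f : ι → Λ) (hfT : ∀ i ∈ s, f i ∈ T) (hfc : ∀ i ∈ s, Corner j (f i))
    (hu : CUnit T j (∑ i ∈ s, f i)) : ∃ i ∈ s, CUnit T j (f i) := by
  by_contra hne
  push Not at hne
  have : CRad T P j (∑ i ∈ s, f i) :=
    h.crad_sum hj s f fun i hi => h.crad_of_not_cunit hj (hfT i hi) (hfc i hi) (hne i hi)
  exact h.not_cunit_of_crad hj this hu

/-- A two-sided ideal of `T` (as a set). -/
structure IsIdealOf (T : Subring Λ) (I : Set Λ) : Prop where
  sub : I ⊆ T
  zero : (0 : Λ) ∈ I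
  add : ∀ a ∈ I, ∀ b ∈ I, a + b ∈ I
  mul_left : ∀ t ∈ T, ∀ a ∈ I, t * a ∈ I
  mul_right : ∀ t ∈ T, ∀ a ∈ I, a * t ∈ I

/-- Rosenberg's lemma. -/
theorem FitSub.rosenberg (h : FitSub T P) {j : Λ} (hj : Prim T j) {ι : Type*} (s : Finset ι)
    (I : ι → Set Λ) (hI : ∀ i ∈ s, IsIdealOf T (I i)) (x : ι → Λ) (hx : ∀ i ∈ s, x i ∈ I i)
    (hsum : j = ∑ i ∈ s, x i) : ∃ i ∈ s, j ∈ I i := by
  have h1 : j = ∑ i ∈ s, j * x i * j := by
    rw [← Finset.sum_mul, ← Finset.mul_sum, ← hsum, hj.2.1, hj.2.1]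
  have hu : CUnit T j (∑ i ∈ s, j * x i * j) := by
    rw [← h1]; exact ⟨j, hj.1, Corner.self hj.2.1, hj.2.1, hj.2.1⟩
  obtain ⟨i, hi, b, hbT, hbc, hab, hba⟩ := h.exists_cunit_of_sum hj s (fun i => j * x i * j)
    (fun i hi => T.mul_mem (T.mul_mem hj.1 ((hI i hi).sub (hx i hi))) hj.1)
    (fun i _ => Corner.sandwich hj.2.1 _) hu
  refine ⟨i, hi, ?_⟩
  rw [← hab]
  exact (hI i hi).mul_right _ hbT _
    ((hI i hi).mul_right _ hj.1 _ ((hI i hi).mul_left _ hj.1 _ (hx i hi)))

/-- isomorphism of idempotents inside `T` -/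
def IsoIdem (T : Subring Λ) (e e' : Λ) : Prop :=
  ∃ a b, a ∈ T ∧ b ∈ T ∧ e * a = a ∧ a * e' = a ∧ e' * b = b ∧ b * e = b ∧ a * b = e ∧ b * a = e'

theorem IsoIdem.refl {e : Λ} (he : e ∈ T) (hee : e * e = e) : IsoIdem T e e :=
  ⟨e, e, he, he, hee, hee, hee, hee, hee, hee⟩

theorem IsoIdem.symm {e e' : Λ} (h : IsoIdem T e e') : IsoIdem T e' e := by
  obtain ⟨a, b, ha, hb, h1, h2, h3, h4, h5, h6⟩ := h
  exact ⟨b, a, hb, ha, h3, h4, h1, h2, h6, h5⟩

theorem IsoIdem.trans {e e' e'' : Λ} (h : IsoIdem T e e') (h' : IsoIdem T e' e'') :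
    IsoIdem T e e'' := by
  obtain ⟨a, b, ha, hb, h1, h2, h3, h4, h5, h6⟩ := h
  obtain ⟨a', b', ha', hb', h1', h2', h3', h4', h5', h6'⟩ := h'
  refine ⟨a * a', b' * b, T.mul_mem ha ha', T.mul_mem hb' hb, ?_, ?_, ?_, ?_, ?_, ?_⟩
  · rw [← mul_assoc, h1]
  · rw [mul_assoc, h2']
  · rw [← mul_assoc, h3']
  · rw [mul_assoc, h4]
  · calc a * a' * (b' * b) = a * (a' * b') * b := by noncomm_ring
      _ = a * e' * b := by rw [h5']
      _ = a * b := by rw [h2]
      _ = e := h5
  · calc b' * b * (a * a') = b' * (b * a) * a' := by noncomm_ring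
      _ = b' * e' * a' := by rw [h6]
      _ = b' * a' := by rw [h4']
      _ = e'' := h6'

/-- Isomorphism criterion for primitive idempotents. -/
theorem FitSub.iso_of_cunit (h : FitSub T P) {e e' c c' : Λ} (he : Prim T e) (he' : Prim T e')
    (hc : c ∈ T) (hc' : c' ∈ T) (h1 : e * c = c) (h2 : c * e' = c) (h3 : e' * c' = c')
    (h4 : c' * e = c') (hu : CUnit T e (c * c')) : IsoIdem T e e' := by
  obtain ⟨w, hwT, hwc, hcw, hwc'⟩ := hu
  -- `a = c`, `b = c' w`
  have hab : c * (c' * w) = e := by rw [← mul_assoc]; exact hcw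
  have hid : (c' * w * c) * (c' * w * c) = c' * w * c := by
    calc c' * w * c * (c' * w * c) = c' * w * (c * (c' * w)) * c := by noncomm_ring
      _ = c' * w * e * c := by rw [hab]
      _ = c' * w * c := by rw [mul_assoc (c' * w), h1]
  have hcor : Corner e' (c' * w * c) := by
    constructor
    · rw [← mul_assoc, ← mul_assoc, h3]
    · rw [mul_assoc, h2]
  rcases he'.2.2.2 (c' * w * c) (T.mul_mem (T.mul_mem hc' hwT) hc) hid hcor with h0 | h1'
  · exfalso
    have : e = 0 := by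
      calc e = e * e := he.2.1.symm
        _ = c * (c' * w) * (c * (c' * w)) := by rw [hab]
        _ = c * (c' * w * c) * (c' * w) := by noncomm_ring
        _ = 0 := by rw [h0]; simp
    exact he.2.2.1 this
  · refine ⟨c, c' * w, hc, T.mul_mem hc' hwT, h1, h2, ?_, ?_, hab, ?_⟩
    · rw [← mul_assoc, h3]
    · rw [mul_assoc, hwc.2]
    · rw [← h1']

/-- If `e ≇ e'` then compositions through `e'` land in the radical of `e`. -/
theorem FitSub.crad_of_not_iso (h : FitSub T P) {e e' c c' : Λ} (he : Prim T e) (he' : Prim T e')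
    (hc : c ∈ T) (hc' : c' ∈ T) (h1 : e * c = c) (h2 : c * e' = c) (h3 : e' * c' = c')
    (h4 : c' * e = c') (hni : ¬ IsoIdem T e e') : CRad T P e (c * c') := by
  refine h.crad_of_not_cunit he (T.mul_mem hc hc') ⟨?_, ?_⟩ ?_
  · rw [← mul_assoc, h1]
  · rw [mul_assoc, h4]
  · intro hu
    exact hni (h.iso_of_cunit he he' hc hc' h1 h2 h3 h4 hu)

/-- Primitive idempotents in the corner of a primitive one: a sub-idempotent decomposition
`j = Σ x_i` with corner elements forces one summand to be a unit. -/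
theorem FitSub.prim_corner_sum (h : FitSub T P) {j : Λ} (hj : Prim T j) {ι : Type*}
    (s : Finset ι) (f : ι → Λ) (hfT : ∀ i ∈ s, f i ∈ T) (hfc : ∀ i ∈ s, Corner j (f i))
    (hsum : ∑ i ∈ s, f i = j) : ∃ i ∈ s, CUnit T j (f i) :=
  h.exists_cunit_of_sum hj s f hfT hfc
    (by rw [hsum]; exact ⟨j, hj.1, Corner.self hj.2.1, hj.2.1, hj.2.1⟩)

end Cfsg.Agent.Lib.Helper8.BPS
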