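import Mathlib
import Cfsg.Agent.Lib.Helper8.BPS1

/-!
# Rank of idempotents and primitive decompositions
-/

set_option autoImplicit false

namespace Cfsg.Agent.Lib.Helper8.BPS

variable {Λ : Type*} [Ring Λ] [Algebra ℂ Λ]

/-- the left ideal `Λ e` -/
noncomputable def lid (e : Λ) : Submodule ℂ Λ := LinearMap.range (LinearMap.mulRight ℂ e)

theorem mem_lid {e x : Λ} : x ∈ lid e ↔ ∃ y, y * e = x := by
  simp [lid, LinearMap.mem_range]

theorem mem_lid_of_idem {e x : Λ} (he : e * e = e) : x ∈ lid e ↔ x * e = x := by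
  rw [mem_lid]
  constructor
  · rintro ⟨y, rfl⟩; rw [mul_assoc, he]
  · intro h; exact ⟨x, h⟩

/-- the rank of an idempotent -/
noncomputable def rk (e : Λ) : ℕ := Module.finrank ℂ (lid e)

variable [FiniteDimensional ℂ Λ]

theorem eq_zero_of_rk_eq_zero {e : Λ} (he : e * e = e) (h : rk e = 0) : e = 0 := by
  have hbot : lid e = ⊥ := Submodule.finrank_eq_zero.1 h
  have : e ∈ lid e := (mem_lid_of_idem he).2 he
  rw [hbot] at this
  simpa using this

theorem rk_pos {e : Λ} (he : e * e = e) (h0 : e ≠ 0) : 0 < rk e :=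
  Nat.pos_of_ne_zero fun h => h0 (eq_zero_of_rk_eq_zero he h)

theorem lid_add_of_orth {e f : Λ} (he : e * e = e) (hf : f * f = f) (hef : e * f = 0)
    (hfe : f * e = 0) : lid (e + f) = lid e ⊔ lid f := by
  have hid : (e + f) * (e + f) = e + f := by
    rw [mul_add, add_mul, add_mul, he, hf, hef, hfe]; abel
  apply le_antisymm
  · intro x hx
    rw [mem_lid_of_idem hid] at hx
    rw [Submodule.mem_sup]
    refine ⟨x * e, mem_lid.2 ⟨x, rfl⟩, x * f, mem_lid.2 ⟨x, rfl⟩, ?_⟩
    rw [← mul_add, hx]
  · apply sup_le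
    · intro x hx
      rw [mem_lid_of_idem he] at hx
      rw [mem_lid_of_idem hid, mul_add, hx, ← hx, mul_assoc, hef, mul_zero, add_zero]
    · intro x hx
      rw [mem_lid_of_idem hf] at hx
      rw [mem_lid_of_idem hid, mul_add, hx, ← hx, mul_assoc, hfe, mul_zero, zero_add]

theorem lid_inf_of_orth {e f : Λ} (he : e * e = e) (hf : f * f = f) (hef : e * f = 0) :
    lid e ⊓ lid f = ⊥ := by
  rw [eq_bot_iff]
  intro x hx
  rw [Submodule.mem_inf, mem_lid_of_idem he, mem_lid_of_idem hf] at hx
  have : x = 0 := by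
    calc x = x * f := hx.2.symm
      _ = x * e * f := by rw [hx.1]
      _ = 0 := by rw [mul_assoc, hef, mul_zero]
  simp [this]

theorem rk_add_of_orth {e f : Λ} (he : e * e = e) (hf : f * f = f) (hef : e * f = 0)
    (hfe : f * e = 0) : rk (e + f) = rk e + rk f := by
  unfold rk
  rw [lid_add_of_orth he hf hef hfe]
  have := Submodule.finrank_sup_add_finrank_inf_eq (lid e) (lid f)
  rw [lid_inf_of_orth he hf hef] at this
  simpa using this

/-- isomorphic idempotents have equal rank -/
theorem rk_eq_of_iso {T : Subring Λ} {e e' : Λ} (h : IsoIdem T e e') : rk e = rk e' := by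
  obtain ⟨a, b, -, -, h1, h2, h3, h4, h5, h6⟩ := h
  have hee : e * e = e := by rw [← h5]; calc a * b * (a * b) = a * (b * a) * b := by noncomm_ring
    _ = a * e' * b := by rw [h6]
    _ = a * b := by rw [h2]
  have hee' : e' * e' = e' := by rw [← h6]; calc b * a * (b * a) = b * (a * b) * a := by noncomm_ring
    _ = b * e * a := by rw [h5]
    _ = b * a := by rw [h4]
  unfold rk
  refine LinearEquiv.finrank_eq (LinearEquiv.ofLinear
    (((LinearMap.mulRight ℂ a).comp (lid e).subtype).codRestrict (lid e') ?_)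
    (((LinearMap.mulRight ℂ b).comp (lid e').subtype).codRestrict (lid e) ?_) ?_ ?_)
  · rintro ⟨x, hx⟩
    simp only [LinearMap.coe_comp, Submodule.coe_subtype, Function.comp_apply,
      LinearMap.mulRight_apply]
    rw [mem_lid_of_idem hee', mul_assoc, h2]
  · rintro ⟨x, hx⟩
    simp only [LinearMap.coe_comp, Submodule.coe_subtype, Function.comp_apply,
      LinearMap.mulRight_apply]
    rw [mem_lid_of_idem hee, mul_assoc, h4]
  · ext ⟨x, hx⟩
    rw [mem_lid_of_idem hee'] at hx
    simp only [LinearMap.coe_comp, LinearMap.codRestrict_apply, Submodule.coe_subtype,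
      Function.comp_apply, LinearMap.mulRight_apply, LinearMap.id_coe, id_eq]
    rw [mul_assoc, h6, hx]
  · ext ⟨x, hx⟩
    rw [mem_lid_of_idem hee] at hx
    simp only [LinearMap.coe_comp, LinearMap.codRestrict_apply, Submodule.coe_subtype,
      Function.comp_apply, LinearMap.mulRight_apply, LinearMap.id_coe, id_eq]
    rw [mul_assoc, h5, hx]

/-- rank is invariant under conjugation by a unit -/
theorem rk_conj (u : Λˣ) {e : Λ} (he : e * e = e) : rk ((u : Λ) * e * (u⁻¹ : Λˣ)) = rk e := by
  symm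
  apply rk_eq_of_iso (T := ⊤)
  refine ⟨e * (u⁻¹ : Λˣ), u * e, Subring.mem_top _, Subring.mem_top _, ?_, ?_, ?_, ?_, ?_, ?_⟩
  · rw [← mul_assoc, he]
  · calc e * (u⁻¹ : Λˣ) * ((u : Λ) * e * (u⁻¹ : Λˣ)) = e * ((u⁻¹ : Λˣ) * (u : Λ)) * e * (u⁻¹ : Λˣ) := by
          noncomm_ring
      _ = e * (u⁻¹ : Λˣ) := by rw [Units.inv_mul, mul_one, he]
  · calc (u : Λ) * e * (u⁻¹ : Λˣ) * ((u : Λ) * e) = u * e * ((u⁻¹ : Λˣ) * (u : Λ)) * e := by noncomm_ring
      _ = u * e := by rw [Units.inv_mul, mul_one, mul_assoc, he]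
  · rw [mul_assoc, he]
  · calc e * (u⁻¹ : Λˣ) * ((u : Λ) * e) = e * ((u⁻¹ : Λˣ) * (u : Λ)) * e := by noncomm_ring
      _ = e := by rw [Units.inv_mul, mul_one, he]
  · calc (u : Λ) * e * (e * (u⁻¹ : Λˣ)) = u * (e * e) * (u⁻¹ : Λˣ) := by noncomm_ring
      _ = u * e * (u⁻¹ : Λˣ) := by rw [he]

theorem rk_sum_of_orth (s : Finset Λ) (hid : ∀ e ∈ s, e * e = e)
    (horth : ∀ e ∈ s, ∀ e' ∈ s, e ≠ e' → e * e' = 0) :
    rk (∑ e ∈ s, e) = ∑ e ∈ s, rk e ∧ (∑ e ∈ s, e) * (∑ e ∈ s, e) = ∑ e ∈ s, e := by
  classical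
  induction s using Finset.induction_on with
  | empty =>
    simp only [Finset.sum_empty, mul_zero, and_true]
    unfold rk
    have : lid (0 : Λ) = ⊥ := by
      rw [eq_bot_iff]; intro x hx; obtain ⟨y, rfl⟩ := mem_lid.1 hx; simp
    rw [this]; simp
  | insert a s ha ih =>
    have hs := ih (fun e he => hid e (Finset.mem_insert_of_mem he))
      (fun e he e' he' => horth e (Finset.mem_insert_of_mem he) e' (Finset.mem_insert_of_mem he'))
    have haa := hid a (Finset.mem_insert_self a s)
    have h1 : a * ∑ e ∈ s, e = 0 := by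
      rw [Finset.mul_sum]
      apply Finset.sum_eq_zero
      intro e he
      exact horth a (Finset.mem_insert_self a s) e (Finset.mem_insert_of_mem he)
        (fun h => ha (h ▸ he))
    have h2 : (∑ e ∈ s, e) * a = 0 := by
      rw [Finset.sum_mul]
      apply Finset.sum_eq_zero
      intro e he
      exact horth e (Finset.mem_insert_of_mem he) a (Finset.mem_insert_self a s)
        (fun h => ha (h ▸ he))
    rw [Finset.sum_insert ha, Finset.sum_insert ha, rk_add_of_orth haa hs.2 h1 h2, hs.1]
    refine ⟨rfl, ?_⟩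
    rw [mul_add, add_mul, add_mul, haa, hs.2, h1, h2]; abel

/-- existence of primitive decompositions -/
theorem exists_prim_decomp (T : Subring Λ) :
    ∀ (n : ℕ) (i : Λ), rk i = n → i ∈ T → i * i = i → ∃ s : Finset Λ,
      (∀ e ∈ s, Prim T e ∧ Corner i e) ∧ (∀ e ∈ s, ∀ e' ∈ s, e ≠ e' → e * e' = 0) ∧
        ∑ e ∈ s, e = i := by
  classical
  intro n
  induction n using Nat.strong_induction_on with
  | _ n ih =>
    intro i hrk hiT hii
    by_cases hi0 : i = 0
    · exact ⟨∅, by simp, by simp, by simp [hi0]⟩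
    by_cases hprim : Prim T i
    · refine ⟨{i}, ?_, ?_, by simp⟩
      · intro e he
        rw [Finset.mem_singleton] at he
        subst he
        exact ⟨hprim, Corner.self hii⟩
      · intro e he e' he' hne
        rw [Finset.mem_singleton] at he he'
        exact absurd (he.trans he'.symm) hne
    · -- split
      have : ∃ e ∈ T, e * e = e ∧ Corner i e ∧ e ≠ 0 ∧ e ≠ i := by
        by_contra hcon
        push Not at hcon
        apply hprim
        refine ⟨hiT, hii, hi0, fun e heT hee hce => ?_⟩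
        by_cases h0 : e = 0
        · exact Or.inl h0
        · exact Or.inr (hcon e heT hee hce h0)
      obtain ⟨e, heT, hee, hce, he0, hei⟩ := this
      set f := i - e with hf
      have hfT : f ∈ T := T.sub_mem hiT heT
      have hff : f * f = f := by
        rw [hf, mul_sub, sub_mul, sub_mul, hii, hce.1, hce.2, hee]; abel
      have hef : e * f = 0 := by rw [hf, mul_sub, hce.2, hee, sub_self]
      have hfe : f * e = 0 := by rw [hf, sub_mul, hce.1, hee, sub_self]
      have hcf : Corner i f := (Corner.self hii).sub hce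
      have hf0 : f ≠ 0 := fun h => hei (by rw [hf, sub_eq_zero] at h; exact h.symm)
      have hsum : rk i = rk e + rk f := by
        have : i = e + f := by rw [hf]; abel
        rw [this]; exact rk_add_of_orth hee hff hef hfe
      have hlt1 : rk e < n := by have := rk_pos hff hf0; omega
      have hlt2 : rk f < n := by have := rk_pos hee he0; omega
      obtain ⟨s1, hs1, ho1, hsum1⟩ := ih (rk e) hlt1 e rfl heT hee
      obtain ⟨s2, hs2, ho2, hsum2⟩ := ih (rk f) hlt2 f rfl hfT hff
      have hcross : ∀ a ∈ s1, ∀ b ∈ s2, a * b = 0 ∧ b * a = 0 := by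
        intro a ha b hb
        have h1 := (hs1 a ha).2
        have h2 := (hs2 b hb).2
        constructor
        · rw [← h1.2, ← h2.1, mul_assoc, ← mul_assoc e, hef]; simp
        · rw [← h2.2, ← h1.1, mul_assoc, ← mul_assoc f, hfe]; simp
      have hdisj : Disjoint s1 s2 := by
        rw [Finset.disjoint_left]
        intro a ha hb
        have := (hcross a ha a hb).1
        rw [(hs1 a ha).1.2.1] at this
        exact (hs1 a ha).1.2.2.1 this
      refine ⟨s1 ∪ s2, ?_, ?_, ?_⟩
      · intro a ha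
        rcases Finset.mem_union.1 ha with h | h
        · exact ⟨(hs1 a h).1, hce.trans (hs1 a h).2⟩
        · exact ⟨(hs2 a h).1, hcf.trans (hs2 a h).2⟩
      · intro a ha b hb hne
        rcases Finset.mem_union.1 ha with h | h <;> rcases Finset.mem_union.1 hb with h' | h'
        · exact ho1 a h b h' hne
        · exact (hcross a h b h').1
        · exact (hcross b h' a h).2
        · exact ho2 a h b h' hne
      · rw [Finset.sum_union hdisj, hsum1, hsum2, hf]; abel

end Cfsg.Agent.Lib.Helper8.BPS
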