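import Mathlib
import Cfsg.Agent.Lib.Helper8.BlockLocal

/-!
# The local ring `𝒪 = (AlgInt)_M` is integrally closed in `ℂ`; Fitting polynomials

* `memLocalRing_of_isIntegral_localRing` : an element of `ℂ` integral over `𝒪` lies in `𝒪`;
* `exists_roots_of_monic` : a monic polynomial over `𝒪` is a product of linear factors;
* `fitting_polys` : for a monic `f ∈ 𝒪[X]` there are polynomials `E, Bp, N` with
  `E² ≡ E`, `X Bp ≡ E`, `Bp E ≡ Bp`, `(X (1 - E))^(m+1) ≡ N` modulo `f`, and `N` has coefficients
  in the maximal ideal.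
-/

set_option autoImplicit false

namespace Cfsg.Agent.Lib.Helper8.BPS

open Cfsg Cfsg.Agent.Lib.Helper8 Polynomial

variable {M : Ideal AlgInt}

theorem exists_common_denom (hM : M.IsPrime) {ι : Type*} (s : Finset ι) (x : ι → ℂ)
    (hx : ∀ i ∈ s, MemLocalRing M (x i)) :
    ∃ b : AlgInt, b ∉ M ∧ ∀ i ∈ s, ∃ a : AlgInt, (a : ℂ) = (b : ℂ) * x i := by
  classical
  induction s using Finset.induction_on with
  | empty => exact ⟨1, fun h => hM.ne_top ((Ideal.eq_top_iff_one M).2 h), by simp⟩
  | insert i s hi ih =>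
    obtain ⟨b, hb, hbs⟩ := ih fun j hj => hx j (Finset.mem_insert_of_mem hj)
    obtain ⟨a₀, b₀, hb₀, hab⟩ := hx i (Finset.mem_insert_self i s)
    have hb₀' : (b₀ : ℂ) ≠ 0 := algInt_coe_ne_zero_of_not_mem hb₀
    refine ⟨b * b₀, fun h => (hM.mem_or_mem h).elim hb hb₀, ?_⟩
    intro j hj
    rw [Finset.mem_insert] at hj
    rcases hj with rfl | hj
    · refine ⟨b * a₀, ?_⟩
      rw [← hab]
      push_cast
      field_simp
    · obtain ⟨a, ha⟩ := hbs j hj
      refine ⟨a * b₀, ?_⟩
      push_cast
      rw [ha]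
      ring

/-- **`𝒪` is integrally closed in `ℂ`.** -/
theorem memLocalRing_of_isIntegral_localRing (hM : M.IsPrime) {z : ℂ}
    (hz : IsIntegral (localRing M hM) z) : MemLocalRing M z := by
  classical
  obtain ⟨f, hf, hroot⟩ := hz
  set n := f.natDegree with hn
  obtain ⟨b, hb, hbs⟩ := exists_common_denom hM (Finset.range n)
    (fun i => ((f.coeff i : localRing M hM) : ℂ))
    (fun i _ => (mem_localRing_iff hM _).1 (f.coeff i).2)
  have hb' : (b : ℂ) ≠ 0 := algInt_coe_ne_zero_of_not_mem hb
  choose! a ha using hbs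
  -- the polynomial for `b z`
  let g : Polynomial AlgInt := X ^ n + ∑ i ∈ Finset.range n, C (a i * b ^ (n - 1 - i)) * X ^ i
  have hg : g.Monic := by
    apply Polynomial.monic_X_pow_add
    refine (Polynomial.degree_sum_le _ _).trans_lt ?_
    refine (Finset.sup_lt_iff (WithBot.bot_lt_coe n)).2 fun i hi => ?_
    exact (Polynomial.degree_C_mul_X_pow_le i _).trans_lt
      (WithBot.coe_lt_coe.2 (Finset.mem_range.1 hi))
  have hfz : z ^ n + ∑ i ∈ Finset.range n, ((f.coeff i : localRing M hM) : ℂ) * z ^ i = 0 := by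
    rw [Polynomial.eval₂_eq_sum_range, ← hn, Finset.sum_range_succ] at hroot
    have h1 : f.coeff n = 1 := hf.coeff_natDegree
    rw [h1, map_one, one_mul] at hroot
    rw [add_comm]
    exact hroot
  have hgz : Polynomial.eval₂ (algebraMap AlgInt ℂ) ((b : ℂ) * z) g = 0 := by
    simp only [g, Polynomial.eval₂_add, Polynomial.eval₂_pow, Polynomial.eval₂_X,
      Polynomial.eval₂_finsetSum, Polynomial.eval₂_mul, Polynomial.eval₂_C]
    have h2 : ∀ i ∈ Finset.range n,
        (algebraMap AlgInt ℂ) (a i * b ^ (n - 1 - i)) * ((b : ℂ) * z) ^ i =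
          (b : ℂ) ^ n * (((f.coeff i : localRing M hM) : ℂ) * z ^ i) := by
      intro i hi
      have hi' := Finset.mem_range.1 hi
      have h3 : (algebraMap AlgInt ℂ) (a i * b ^ (n - 1 - i)) =
          (a i : ℂ) * (b : ℂ) ^ (n - 1 - i) := by
        simp [Subalgebra.algebraMap_eq]
      rw [h3, ha i hi, mul_pow]
      have h4 : n = (n - 1 - i) + 1 + i := by omega
      conv_rhs => rw [h4, pow_add, pow_succ]
      ring
    rw [Finset.sum_congr rfl h2, ← Finset.mul_sum, mul_pow, ← mul_add, hfz, mul_zero]
  have hint : IsIntegral AlgInt ((b : ℂ) * z) := ⟨g, hg, hgz⟩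
  have hint' : IsIntegral ℤ ((b : ℂ) * z) := isIntegral_trans _ hint
  refine ⟨⟨(b : ℂ) * z, hint'⟩, b, hb, ?_⟩
  show (b : ℂ) * z / (b : ℂ) = z
  field_simp

/-- a root in `ℂ` of a monic polynomial with coefficients in `𝒪` lies in `𝒪` -/
theorem memLocalRing_of_root (hM : M.IsPrime) (f : Polynomial (localRing M hM)) (hf : f.Monic)
    {z : ℂ} (hz : (f.map (localRing M hM).subtype).IsRoot z) : MemLocalRing M z := by
  apply memLocalRing_of_isIntegral_localRing hM
  refine ⟨f, hf, ?_⟩
  rw [Polynomial.IsRoot, Polynomial.eval_map] at hz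
  exact hz

/-- **Monic polynomials over `𝒪` split into linear factors over `𝒪`.** -/
theorem exists_roots_of_monic (hM : M.IsPrime) :
    ∀ (n : ℕ) (f : Polynomial (localRing M hM)), f.Monic → f.natDegree = n →
      ∃ s : Multiset (localRing M hM), f = (s.map fun r => X - C r).prod := by
  intro n
  induction n with
  | zero =>
    intro f hf hn
    refine ⟨0, ?_⟩
    rw [Multiset.map_zero, Multiset.prod_zero]
    exact hf.natDegree_eq_zero.1 hn
  | succ n ih =>
    intro f hf hn
    have hdeg : (f.map (localRing M hM).subtype).degree ≠ 0 := by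
      rw [Polynomial.degree_map_eq_of_injective (Subring.subtype_injective _),
        Polynomial.degree_eq_natDegree hf.ne_zero, hn]
      exact_mod_cast Nat.succ_ne_zero n
    obtain ⟨z, hz⟩ := IsAlgClosed.exists_root _ hdeg
    have hzO : z ∈ localRing M hM := (mem_localRing_iff hM z).2 (memLocalRing_of_root hM f hf hz)
    set r : localRing M hM := ⟨z, hzO⟩ with hr
    have hroot : f.IsRoot r := by
      rw [Polynomial.IsRoot, Polynomial.eval_map] at hz
      have h1 : Polynomial.eval₂ (localRing M hM).subtype ((localRing M hM).subtype r) f =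
          (localRing M hM).subtype (Polynomial.eval r f) := Polynomial.eval₂_at_apply _ _
      have h2 : (localRing M hM).subtype (Polynomial.eval r f) = 0 := by
        rw [← h1]
        exact hz
      exact (Subring.subtype_injective _) (by rw [h2, map_zero])
    have hfac := Polynomial.mul_divByMonic_eq_iff_isRoot.2 hroot
    set q := f /ₘ (X - C r) with hq
    have hqm : q.Monic := by
      apply Polynomial.Monic.of_mul_monic_left (Polynomial.monic_X_sub_C r)
      rw [hfac]
      exact hf
    have hqn : q.natDegree = n := by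
      rw [hq, Polynomial.natDegree_divByMonic _ (Polynomial.monic_X_sub_C r), hn,
        Polynomial.natDegree_X_sub_C]
      rfl
    obtain ⟨s, hs⟩ := ih q hqm hqn
    refine ⟨r ::ₘ s, ?_⟩
    rw [Multiset.map_cons, Multiset.prod_cons, ← hs, hfac]

section comm

variable {R : Type*} [CommRing R]

theorem isCoprime_prod_linear (s t : Multiset R) (h : ∀ a ∈ s, ∀ b ∈ t, IsUnit (a - b)) :
    IsCoprime (s.map fun r => (X : Polynomial R) - C r).prod
      (t.map fun r => (X : Polynomial R) - C r).prod := by
  induction s using Multiset.induction_on with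
  | empty => simp [isCoprime_one_left]
  | cons a s ih =>
    rw [Multiset.map_cons, Multiset.prod_cons]
    refine IsCoprime.mul_left ?_ (ih fun a' ha' => h a' (Multiset.mem_cons_of_mem ha'))
    have ha : ∀ b ∈ t, IsUnit (a - b) := h a (Multiset.mem_cons_self a s)
    clear ih h
    induction t using Multiset.induction_on with
    | empty => simp [isCoprime_one_right]
    | cons b t ih2 =>
      rw [Multiset.map_cons, Multiset.prod_cons]
      refine IsCoprime.mul_right ?_ (ih2 fun b' hb' => ha b' (Multiset.mem_cons_of_mem hb'))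
      exact Polynomial.isCoprime_X_sub_C_of_isUnit_sub (ha b (Multiset.mem_cons_self b t))

theorem prod_linear_sub_X_pow_mem (I : Ideal R) (t : Multiset R) (h : ∀ b ∈ t, b ∈ I) :
    (t.map fun r => (X : Polynomial R) - C r).prod - X ^ (Multiset.card t) ∈
      Ideal.map (C : R →+* Polynomial R) I := by
  induction t using Multiset.induction_on with
  | empty => simp
  | cons b t ih =>
    rw [Multiset.map_cons, Multiset.prod_cons, Multiset.card_cons]
    have hb : (C b : Polynomial R) ∈ Ideal.map (C : R →+* Polynomial R) I :=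
      Ideal.mem_map_of_mem _ (h b (Multiset.mem_cons_self b t))
    have ht := ih fun b' hb' => h b' (Multiset.mem_cons_of_mem hb')
    have h1 : (X - C b) * (t.map fun r => (X : Polynomial R) - C r).prod - X ^ (Multiset.card t + 1) =
        (X - C b) * ((t.map fun r => (X : Polynomial R) - C r).prod - X ^ (Multiset.card t)) -
          C b * X ^ (Multiset.card t) := by
      ring
    rw [h1]
    exact Ideal.sub_mem _ (Ideal.mul_mem_left _ _ ht) (Ideal.mul_mem_right _ _ hb)

theorem isUnit_coeff_zero_prod_linear (s : Multiset R) (h : ∀ a ∈ s, IsUnit a) :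
    IsUnit ((s.map fun r => (X : Polynomial R) - C r).prod.coeff 0) := by
  induction s using Multiset.induction_on with
  | empty => simp
  | cons a s ih =>
    rw [Multiset.map_cons, Multiset.prod_cons, Polynomial.mul_coeff_zero]
    refine IsUnit.mul ?_ (ih fun a' ha' => h a' (Multiset.mem_cons_of_mem ha'))
    have : ((X : Polynomial R) - C a).coeff 0 = -a := by simp
    rw [this]
    exact (h a (Multiset.mem_cons_self a s)).neg

end comm

theorem isUnit_of_not_mem_localIdeal (hM : M.IsPrime) (r : localRing M hM)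
    (h : r ∉ localIdeal M hM) : IsUnit r := by
  rw [mem_localIdeal_iff] at h
  have hr := (mem_localRing_iff hM _).1 r.2
  have hinv : ((r : ℂ))⁻¹ ∈ localRing M hM := (mem_localRing_iff hM _).2 (memLocalRing_inv hr h)
  have hne : (r : ℂ) ≠ 0 := by
    intro h0
    apply h
    rw [h0]
    exact memLocalIdeal_zero hM.ne_top
  refine ⟨⟨r, ⟨_, hinv⟩, ?_, ?_⟩, rfl⟩
  · apply Subtype.ext
    show (r : ℂ) * (r : ℂ)⁻¹ = 1
    exact mul_inv_cancel₀ hne
  · apply Subtype.ext
    show (r : ℂ)⁻¹ * (r : ℂ) = 1
    exact inv_mul_cancel₀ hne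

theorem isUnit_sub_of_not_mem_of_mem (hM : M.IsPrime) (a b : localRing M hM)
    (ha : a ∉ localIdeal M hM) (hb : b ∈ localIdeal M hM) : IsUnit (a - b) := by
  apply isUnit_of_not_mem_localIdeal hM
  intro h
  apply ha
  have := Ideal.add_mem _ h hb
  rwa [sub_add_cancel] at this

/-- **The Fitting polynomials of a monic polynomial over `𝒪`.** -/
theorem fitting_polys (hM : M.IsPrime) (f : Polynomial (localRing M hM)) (hf : f.Monic) :
    ∃ (E Bp N q1 q2 q3 q4 : Polynomial (localRing M hM)) (m : ℕ),
      E * E - E = f * q1 ∧ X * Bp - E = f * q2 ∧ Bp * E - Bp = f * q3 ∧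
        X ^ (m + 1) * (1 - E) - N = f * q4 ∧
          N ∈ Ideal.map (C : localRing M hM →+* Polynomial (localRing M hM)) (localIdeal M hM) := by
  classical
  obtain ⟨s, hs⟩ := exists_roots_of_monic hM f.natDegree f hf rfl
  set su := s.filter (fun r => r ∉ localIdeal M hM) with hsu
  set sn := s.filter (fun r => ¬ r ∉ localIdeal M hM) with hsn
  set g := (su.map fun r => (X : Polynomial (localRing M hM)) - C r).prod with hg
  set h := (sn.map fun r => (X : Polynomial (localRing M hM)) - C r).prod with hh
  have hfgh : f = g * h := by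
    rw [hs, hg, hh, ← Multiset.prod_add, ← Multiset.map_add, hsu, hsn, Multiset.filter_add_not]
  have hcop : IsCoprime g h := by
    apply isCoprime_prod_linear
    intro a ha b hb
    rw [hsu, Multiset.mem_filter] at ha
    rw [hsn, Multiset.mem_filter] at hb
    exact isUnit_sub_of_not_mem_of_mem hM a b ha.2 (not_not.1 hb.2)
  obtain ⟨s₁, t₁, hst⟩ := hcop
  have hN0 : h - X ^ (Multiset.card sn) ∈
      Ideal.map (C : localRing M hM →+* Polynomial (localRing M hM)) (localIdeal M hM) := by
    apply prod_linear_sub_X_pow_mem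
    intro b hb
    rw [hsn, Multiset.mem_filter] at hb
    exact not_not.1 hb.2
  have hg0 : IsUnit (g.coeff 0) := by
    apply isUnit_coeff_zero_prod_linear
    intro a ha
    rw [hsu, Multiset.mem_filter] at ha
    exact isUnit_of_not_mem_localIdeal hM a ha.2
  obtain ⟨v, hv⟩ := hg0.exists_left_inv
  have hgdiv : g.divX * X + C (g.coeff 0) = g := Polynomial.divX_mul_X_add g
  have hCv : (C v : Polynomial (localRing M hM)) * C (g.coeff 0) = 1 := by
    rw [← C_mul, hv, C_1]
  set N₀ := h - X ^ (Multiset.card sn) with hN₀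
  refine ⟨t₁ * h, -C v * g.divX * (t₁ * h), -(X * N₀ * (1 - t₁ * h)), -(s₁ * t₁), -(C v * t₁),
    -C v * g.divX * (-(s₁ * t₁)), X * s₁, Multiset.card sn, ?_, ?_, ?_, ?_, ?_⟩
  · rw [hfgh]
    linear_combination (t₁ * h) * hst
  · rw [hfgh]
    linear_combination (-(C v * t₁ * h)) * hgdiv + (t₁ * h) * hCv
  · rw [hfgh]
    linear_combination (-C v * g.divX * (t₁ * h)) * hst
  · rw [hfgh]
    have h1 : h = N₀ + X ^ (Multiset.card sn) := by rw [hN₀]; ring
    have h2 : (1 : Polynomial (localRing M hM)) - t₁ * h = s₁ * g := by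
      linear_combination -hst
    rw [h2]
    have h3 : X ^ (Multiset.card sn) = h - N₀ := by rw [hN₀]; ring
    rw [pow_succ, h3]
    ring
  · apply Ideal.neg_mem_iff _ |>.2
    exact Ideal.mul_mem_right _ _ (Ideal.mul_mem_left _ _ hN0)

end Cfsg.Agent.Lib.Helper8.BPS
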