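import Mathlib
import Cfsg.Agent.Lib.Helper8.BPS1
import Cfsg.Agent.Lib.Helper8.BPS3

/-!
# Orders over the local ring `𝒪` in a finite-dimensional `ℂ`-algebra are Fitting pairs

`Λ` is a `ℂ`-algebra with a finite basis `B` whose structure constants lie in `𝒪 = (AlgInt)_M`.
`ordA M B` is the `𝒪`-span of the basis (a subring), `ordP M B` the `𝔭`-span.  Every subring `T`
of `ordA` which is closed under multiplication by `𝒪` forms a Fitting pair with `T ∩ ordP`
(`fitScal_of_order`), and the residue rings of its primitive corners are the residue field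
(`FitScal.res`).
-/

set_option autoImplicit false
set_option linter.unusedSectionVars false

namespace Cfsg.Agent.Lib.Helper8.BPS

open Cfsg Cfsg.Agent.Lib.Helper8 Polynomial

variable {M : Ideal AlgInt} {Λ : Type*} [Ring Λ] [Algebra ℂ Λ] {ι : Type*} [Fintype ι]
  [DecidableEq ι]

/-- the basis `B` has structure constants in `𝒪` -/
structure IsOrdBasis (M : Ideal AlgInt) (B : Module.Basis ι ℂ Λ) : Prop where
  one_mem : ∀ i, MemLocalRing M (B.repr 1 i)
  mul_mem : ∀ i j k, MemLocalRing M (B.repr (B i * B j) k)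

/-- the `𝒪`-span of the basis -/
def ordA (M : Ideal AlgInt) (B : Module.Basis ι ℂ Λ) : Set Λ :=
  {x | ∀ i, MemLocalRing M (B.repr x i)}

/-- the `𝔭`-span of the basis -/
def ordP (M : Ideal AlgInt) (B : Module.Basis ι ℂ Λ) : Set Λ :=
  {x | ∀ i, MemLocalIdeal M (B.repr x i)}

variable {B : Module.Basis ι ℂ Λ}

theorem repr_mul (B : Module.Basis ι ℂ Λ) (x y : Λ) (k : ι) :
    B.repr (x * y) k = ∑ i, ∑ j, B.repr x i * B.repr y j * B.repr (B i * B j) k := by
  conv_lhs => rw [← B.sum_repr x, ← B.sum_repr y]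
  rw [Finset.sum_mul, map_sum, Finsupp.coe_finsetSum, Finset.sum_apply]
  refine Finset.sum_congr rfl fun i _ => ?_
  rw [Finset.mul_sum, map_sum, Finsupp.coe_finsetSum, Finset.sum_apply]
  refine Finset.sum_congr rfl fun j _ => ?_
  rw [smul_mul_smul_comm, map_smul, Finsupp.smul_apply, smul_eq_mul]

theorem ordP_sub_ordA : ordP M B ⊆ ordA M B :=
  fun _ hx i => memLocalRing_of_memLocalIdeal (hx i)

theorem ordA_zero (hM : M ≠ ⊤) : (0 : Λ) ∈ ordA M B := by
  intro i
  rw [map_zero, Finsupp.zero_apply]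
  exact memLocalRing_zero hM

theorem ordP_zero (hM : M ≠ ⊤) : (0 : Λ) ∈ ordP M B := by
  intro i
  rw [map_zero, Finsupp.zero_apply]
  exact memLocalIdeal_zero hM

theorem ordA_add (hM : M.IsPrime) {x y : Λ} (hx : x ∈ ordA M B) (hy : y ∈ ordA M B) :
    x + y ∈ ordA M B := by
  intro i
  rw [map_add, Finsupp.add_apply]
  exact memLocalRing_add hM (hx i) (hy i)

theorem ordP_add (hM : M.IsPrime) {x y : Λ} (hx : x ∈ ordP M B) (hy : y ∈ ordP M B) :
    x + y ∈ ordP M B := by
  intro i
  rw [map_add, Finsupp.add_apply]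
  exact memLocalIdeal_add hM (hx i) (hy i)

theorem ordA_neg {x : Λ} (hx : x ∈ ordA M B) : -x ∈ ordA M B := by
  intro i
  rw [map_neg, Finsupp.neg_apply]
  exact memLocalRing_neg (hx i)

theorem ordP_neg {x : Λ} (hx : x ∈ ordP M B) : -x ∈ ordP M B := by
  intro i
  rw [map_neg, Finsupp.neg_apply]
  exact memLocalIdeal_neg (hx i)

theorem ordA_smul (hM : M.IsPrime) {c : ℂ} (hc : MemLocalRing M c) {x : Λ} (hx : x ∈ ordA M B) :
    c • x ∈ ordA M B := by
  intro i
  rw [map_smul, Finsupp.smul_apply, smul_eq_mul]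
  exact memLocalRing_mul hM hc (hx i)

theorem ordP_smul (hM : M.IsPrime) {c : ℂ} (hc : MemLocalRing M c) {x : Λ} (hx : x ∈ ordP M B) :
    c • x ∈ ordP M B := by
  intro i
  rw [map_smul, Finsupp.smul_apply, smul_eq_mul]
  exact memLocalIdeal_mul_left hM hc (hx i)

theorem ordP_smul' (hM : M.IsPrime) {c : ℂ} (hc : MemLocalIdeal M c) {x : Λ} (hx : x ∈ ordA M B) :
    c • x ∈ ordP M B := by
  intro i
  rw [map_smul, Finsupp.smul_apply, smul_eq_mul]
  exact memLocalIdeal_mul_right hM hc (hx i)

theorem ordA_basis (hM : M ≠ ⊤) (j : ι) : B j ∈ ordA M B := by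
  intro i
  rw [B.repr_self, Finsupp.single_apply]
  split_ifs
  · exact memLocalRing_one hM
  · exact memLocalRing_zero hM

theorem IsOrdBasis.ordA_one (h : IsOrdBasis M B) : (1 : Λ) ∈ ordA M B := h.one_mem

theorem IsOrdBasis.ordA_mul (h : IsOrdBasis M B) (hM : M.IsPrime) {x y : Λ} (hx : x ∈ ordA M B)
    (hy : y ∈ ordA M B) : x * y ∈ ordA M B := by
  intro k
  rw [repr_mul]
  exact memLocalRing_sum hM _ _ fun i _ => memLocalRing_sum hM _ _ fun j _ =>
    memLocalRing_mul hM (memLocalRing_mul hM (hx i) (hy j)) (h.mul_mem i j k)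

theorem IsOrdBasis.ordP_mul_left (h : IsOrdBasis M B) (hM : M.IsPrime) {x y : Λ} (hx : x ∈ ordA M B)
    (hy : y ∈ ordP M B) : x * y ∈ ordP M B := by
  intro k
  rw [repr_mul]
  exact memLocalIdeal_sum hM _ _ fun i _ => memLocalIdeal_sum hM _ _ fun j _ =>
    memLocalIdeal_mul_right hM (memLocalIdeal_mul_left hM (hx i) (hy j)) (h.mul_mem i j k)

theorem IsOrdBasis.ordP_mul_right (h : IsOrdBasis M B) (hM : M.IsPrime) {x y : Λ} (hx : x ∈ ordP M B)
    (hy : y ∈ ordA M B) : x * y ∈ ordP M B := by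
  intro k
  rw [repr_mul]
  exact memLocalIdeal_sum hM _ _ fun i _ => memLocalIdeal_sum hM _ _ fun j _ =>
    memLocalIdeal_mul_right hM (memLocalIdeal_mul_right hM (hx i) (hy j)) (h.mul_mem i j k)

theorem IsOrdBasis.ordA_pow (h : IsOrdBasis M B) (hM : M.IsPrime) {x : Λ} (hx : x ∈ ordA M B) (n : ℕ) :
    x ^ n ∈ ordA M B := by
  induction n with
  | zero => rw [pow_zero]; exact h.ordA_one
  | succ n ih => rw [pow_succ]; exact h.ordA_mul hM ih hx

/-- the matrix of the left multiplication by an element of the order has entries in `𝒪` -/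
theorem IsOrdBasis.leftMulMatrix_mem (h : IsOrdBasis M B) (hM : M.IsPrime) {x : Λ}
    (hx : x ∈ ordA M B) (i j : ι) : MemLocalRing M (Algebra.leftMulMatrix B x i j) := by
  rw [Algebra.leftMulMatrix_eq_repr_mul]
  exact h.ordA_mul hM hx (ordA_basis hM.ne_top j) i

theorem IsOrdBasis.leftMulMatrix_mem_P (h : IsOrdBasis M B) (hM : M.IsPrime) {x : Λ}
    (hx : x ∈ ordP M B) (i j : ι) : MemLocalIdeal M (Algebra.leftMulMatrix B x i j) := by
  rw [Algebra.leftMulMatrix_eq_repr_mul]
  exact h.ordP_mul_right hM hx (ordA_basis hM.ne_top j) i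

/-- **An idempotent of `𝔭A` is zero.** -/
theorem IsOrdBasis.idem_eq_zero (h : IsOrdBasis M B) (hM : M.IsPrime) {e : Λ}
    (he : e ∈ ordP M B) (hee : e * e = e) : e = 0 := by
  set L := Algebra.leftMulMatrix B e with hL
  have hLL : L * L = L := by rw [hL, ← map_mul, hee]
  let N : Matrix ι ι (localRing M hM) := fun i j =>
    ⟨L i j, (mem_localRing_iff hM _).2
      (memLocalRing_of_memLocalIdeal (h.leftMulMatrix_mem_P hM he i j))⟩
  have hN : ∀ i j, N i j ∈ localIdeal M hM := fun i j =>
    (mem_localIdeal_iff hM _).2 (h.leftMulMatrix_mem_P hM he i j)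
  have hNL : N.map (localRing M hM).subtype = L := by
    ext i j
    rfl
  -- `det (1 - N)` is a unit modulo the maximal ideal
  have hdet : (1 - N).det ∉ localIdeal M hM := by
    intro hmem
    have h1 : (Ideal.Quotient.mk (localIdeal M hM)) (1 - N).det = 0 :=
      Ideal.Quotient.eq_zero_iff_mem.2 hmem
    rw [RingHom.map_det] at h1
    have h2 : (Ideal.Quotient.mk (localIdeal M hM)).mapMatrix (1 - N) = 1 := by
      ext i j
      rw [RingHom.mapMatrix_apply, Matrix.map_apply, Matrix.sub_apply, map_sub,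
        Ideal.Quotient.eq_zero_iff_mem.2 (hN i j), sub_zero]
      by_cases hij : i = j
      · subst hij
        simp
      · simp [Matrix.one_apply_ne hij]
    rw [h2, Matrix.det_one] at h1
    have h3 : (1 : localRing M hM) ∈ localIdeal M hM := by
      rw [← Ideal.Quotient.eq_zero_iff_mem, map_one]
      exact h1
    exact localIdeal_ne_top hM ((Ideal.eq_top_iff_one _).2 h3)
  have hdet' : (1 - L).det ≠ 0 := by
    have h1 : (1 - L) = (1 - N).map (localRing M hM).subtype := by
      rw [Matrix.map_sub _ (fun a b => map_sub (localRing M hM).subtype a b), hNL,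
        Matrix.map_one _ (map_zero _) (map_one _)]
    rw [h1, ← RingHom.mapMatrix_apply, ← RingHom.map_det]
    intro h0
    apply hdet
    have : (1 - N).det = 0 := (Subring.subtype_injective _) (by rw [h0, map_zero])
    rw [this]
    exact Ideal.zero_mem _
  have hunit : IsUnit (1 - L) := (Matrix.isUnit_iff_isUnit_det _).2 (IsUnit.mk0 _ hdet')
  have hz : (1 - L) * L = 0 := by rw [sub_mul, one_mul, hLL, sub_self]
  have hL0 : L = 0 := (hunit.mul_right_eq_zero).1 hz
  exact Algebra.leftMulMatrix_injective B (by rw [← hL, hL0, map_zero])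

/-- **Cayley–Hamilton over `𝒪`.** -/
theorem IsOrdBasis.exists_monic_aeval_eq_zero (h : IsOrdBasis M B) (hM : M.IsPrime) {a : Λ}
    (ha : a ∈ ordA M B) :
    ∃ f : Polynomial (localRing M hM), f.Monic ∧ Polynomial.aeval a f = 0 := by
  set L := Algebra.leftMulMatrix B a with hL
  let N : Matrix ι ι (localRing M hM) := fun i j =>
    ⟨L i j, (mem_localRing_iff hM _).2 (h.leftMulMatrix_mem hM ha i j)⟩
  have hNL : N.map (algebraMap (localRing M hM) ℂ) = L := by
    ext i j
    rfl
  refine ⟨N.charpoly, Matrix.charpoly_monic N, ?_⟩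
  rw [← Polynomial.aeval_map_algebraMap ℂ a N.charpoly, ← Matrix.charpoly_map, hNL]
  apply Algebra.leftMulMatrix_injective B
  rw [map_zero, ← Polynomial.aeval_algHom_apply, ← hL]
  exact Matrix.aeval_self_charpoly L

/-! ### Evaluating `𝒪`-polynomials -/

theorem aeval_mem (hM : M.IsPrime) {T : Subring Λ}
    (hsm : ∀ c : ℂ, MemLocalRing M c → ∀ t ∈ T, c • t ∈ T) {a : Λ} (ha : a ∈ T)
    (g : Polynomial (localRing M hM)) : Polynomial.aeval a g ∈ T := by
  rw [Polynomial.aeval_eq_sum_range]
  refine Subring.sum_mem _ fun i _ => ?_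
  exact hsm _ ((mem_localRing_iff hM _).1 (g.coeff i).2) _ (Subring.pow_mem _ ha i)

theorem aeval_mem_ordP (h : IsOrdBasis M B) (hM : M.IsPrime) {a : Λ} (ha : a ∈ ordA M B)
    {g : Polynomial (localRing M hM)}
    (hg : g ∈ Ideal.map (C : localRing M hM →+* Polynomial (localRing M hM)) (localIdeal M hM)) :
    Polynomial.aeval a g ∈ ordP M B := by
  rw [Polynomial.aeval_eq_sum_range]
  have hz : ∀ (s : Finset ℕ), ∑ i ∈ s, g.coeff i • a ^ i ∈ ordP M B := by
    intro s
    induction s using Finset.induction_on with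
    | empty => simpa using ordP_zero (B := B) hM.ne_top
    | insert i s hi ih =>
      rw [Finset.sum_insert hi]
      refine ordP_add hM ?_ ih
      exact ordP_smul' hM ((mem_localIdeal_iff hM _).1 (Ideal.mem_map_C_iff.1 hg i))
        (h.ordA_pow hM ha i)
  exact hz _

theorem commute_aeval (hM : M.IsPrime) {a c : Λ} (hc : c * a = a * c)
    (g : Polynomial (localRing M hM)) :
    c * Polynomial.aeval a g = Polynomial.aeval a g * c := by
  rw [Polynomial.aeval_eq_sum_range, Finset.mul_sum, Finset.sum_mul]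
  refine Finset.sum_congr rfl fun i _ => ?_
  have h1 : Commute c (a ^ i) := (show Commute c a from hc).pow_right i
  rw [mul_smul_comm, smul_mul_assoc, h1.eq]

/-- a Fitting pair over `𝒪`: scalars and residue field -/
structure FitScal (M : Ideal AlgInt) (T : Subring Λ) (P : Set Λ) : Prop where
  toFitSub : FitSub T P
  smul_mem : ∀ c : ℂ, MemLocalRing M c → ∀ t ∈ T, c • t ∈ T
  smul_mem_P : ∀ c : ℂ, MemLocalIdeal M c → ∀ t ∈ T, c • t ∈ P
  smul_P : ∀ c : ℂ, MemLocalRing M c → ∀ t ∈ P, c • t ∈ P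
  res : ∀ j, Prim T j → ∀ x ∈ T, Corner j x →
    ∃ c : ℂ, MemLocalRing M c ∧ CRad T P j (x - c • j)

theorem fitSub_of_order (h : IsOrdBasis M B) (hM : M.IsPrime) (T : Subring Λ)
    (hTA : ∀ t ∈ T, t ∈ ordA M B) (hsm : ∀ c : ℂ, MemLocalRing M c → ∀ t ∈ T, c • t ∈ T) :
    FitSub T {x | x ∈ T ∧ x ∈ ordP M B} := by
  refine ⟨fun x hx => hx.1, ⟨T.zero_mem, ordP_zero hM.ne_top⟩, ?_, ?_, ?_, ?_, ?_, ?_⟩
  · intro a ha b hb
    exact ⟨T.add_mem ha.1 hb.1, ordP_add hM ha.2 hb.2⟩
  · intro a ha
    exact ⟨T.neg_mem ha.1, ordP_neg ha.2⟩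
  · intro t ht a ha
    exact ⟨T.mul_mem ht ha.1, h.ordP_mul_left hM (hTA t ht) ha.2⟩
  · intro t ht a ha
    exact ⟨T.mul_mem ha.1 ht, h.ordP_mul_right hM ha.2 (hTA t ht)⟩
  · intro e he hee
    exact h.idem_eq_zero hM he.2 hee
  · intro a ha
    obtain ⟨f, hf, hfa⟩ := h.exists_monic_aeval_eq_zero hM (hTA a ha)
    obtain ⟨E, Bp, N, q1, q2, q3, q4, m, h1, h2, h3, h4, hN⟩ := fitting_polys hM f hf
    have ev : ∀ g : Polynomial (localRing M hM), Polynomial.aeval a (f * g) = 0 := by
      intro g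
      rw [map_mul, hfa, zero_mul]
    have e1 : Polynomial.aeval a E * Polynomial.aeval a E = Polynomial.aeval a E := by
      have := congrArg (Polynomial.aeval a) h1
      rw [ev, map_sub, map_mul, sub_eq_zero] at this
      exact this
    have e2 : a * Polynomial.aeval a Bp = Polynomial.aeval a E := by
      have := congrArg (Polynomial.aeval a) h2
      rw [ev, map_sub, map_mul, Polynomial.aeval_X, sub_eq_zero] at this
      exact this
    have e2' : Polynomial.aeval a Bp * a = Polynomial.aeval a E := by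
      rw [← e2]
      exact (commute_aeval hM rfl Bp).symm
    have e3 : Polynomial.aeval a Bp * Polynomial.aeval a E = Polynomial.aeval a Bp := by
      have := congrArg (Polynomial.aeval a) h3
      rw [ev, map_sub, map_mul, sub_eq_zero] at this
      exact this
    have e3' : Polynomial.aeval a E * Polynomial.aeval a Bp = Polynomial.aeval a Bp := by
      rw [← map_mul, mul_comm, map_mul]
      exact e3
    have e4 : a ^ (m + 1) * (1 - Polynomial.aeval a E) = Polynomial.aeval a N := by
      have := congrArg (Polynomial.aeval a) h4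
      rw [ev, map_sub, map_mul, map_sub, map_pow, Polynomial.aeval_X, map_one, sub_eq_zero] at this
      exact this
    refine ⟨Polynomial.aeval a E, aeval_mem hM hsm ha E, Polynomial.aeval a Bp,
      aeval_mem hM hsm ha Bp, e1, e2, e2', e3, e3', ?_, m + 1, Nat.succ_pos m, ?_⟩
    · intro c hc
      exact ⟨commute_aeval hM hc E, commute_aeval hM hc Bp⟩
    · have hcomm : Commute a (1 - Polynomial.aeval a E) := by
        have := commute_aeval hM (rfl : a * a = a * a) E
        show a * (1 - _) = (1 - _) * a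
        rw [mul_sub, sub_mul, mul_one, one_mul, this]
      have hid : (1 - Polynomial.aeval a E) * (1 - Polynomial.aeval a E) =
          1 - Polynomial.aeval a E := by
        rw [mul_sub, mul_one, sub_mul, one_mul, e1, sub_self, sub_zero]
      rw [hcomm.mul_pow, idem_pow hid (Nat.succ_pos m), e4]
      exact ⟨aeval_mem hM hsm ha N, aeval_mem_ordP h hM (hTA a ha) hN⟩

theorem not_cunit_zero {T : Subring Λ} {j : Λ} (hj : j ≠ 0) : ¬ CUnit T j 0 := by
  rintro ⟨b, -, -, h, -⟩
  rw [zero_mul] at h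
  exact hj h.symm

theorem fitScal_of_order (h : IsOrdBasis M B) (hM : M.IsPrime) (T : Subring Λ)
    (hTA : ∀ t ∈ T, t ∈ ordA M B) (hsm : ∀ c : ℂ, MemLocalRing M c → ∀ t ∈ T, c • t ∈ T) :
    FitScal M T {x | x ∈ T ∧ x ∈ ordP M B} := by
  have hfit := fitSub_of_order h hM T hTA hsm
  refine ⟨hfit, hsm, ?_, ?_, ?_⟩
  · intro c hc t ht
    exact ⟨hsm c (memLocalRing_of_memLocalIdeal hc) t ht, ordP_smul' hM hc (hTA t ht)⟩
  · intro c hc t ht
    exact ⟨hsm c hc t ht.1, ordP_smul hM hc ht.2⟩
  · intro j hj x hx hcx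
    obtain ⟨f, hf, hfx⟩ := h.exists_monic_aeval_eq_zero hM (hTA x hx)
    obtain ⟨s, hs⟩ := exists_roots_of_monic hM f.natDegree f hf rfl
    by_contra hcon
    push Not at hcon
    -- every `x - r j` is a corner unit
    have hunit : ∀ r : localRing M hM, CUnit T j (x - (r : ℂ) • j) := by
      intro r
      by_contra hnu
      have hmem : x - (r : ℂ) • j ∈ T :=
        T.sub_mem hx (hsm _ ((mem_localRing_iff hM _).1 r.2) j hj.1)
      have hcor : Corner j (x - (r : ℂ) • j) := by
        refine hcx.sub ⟨?_, ?_⟩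
        · rw [mul_smul_comm, hj.2.1]
        · rw [smul_mul_assoc, hj.2.1]
      exact hcon _ ((mem_localRing_iff hM _).1 r.2) (hfit.crad_of_not_cunit hj hmem hcor hnu)
    have hjx : j * x = x * j := by rw [hcx.1, hcx.2]
    have key : ∀ s : Multiset (localRing M hM),
        CUnit T j (j * Polynomial.aeval x (s.map fun r => X - C r).prod) := by
      intro s
      induction s using Multiset.induction_on with
      | empty =>
        rw [Multiset.map_zero, Multiset.prod_zero, map_one, mul_one]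
        exact ⟨j, hj.1, Corner.self hj.2.1, hj.2.1, hj.2.1⟩
      | cons r s ih =>
        rw [Multiset.map_cons, Multiset.prod_cons, map_mul, map_sub, Polynomial.aeval_X,
          Polynomial.aeval_C]
        have h1 : j * ((x - (algebraMap (localRing M hM) Λ) r) *
            Polynomial.aeval x (s.map fun r => X - C r).prod) =
            (x - (r : ℂ) • j) * (j * Polynomial.aeval x (s.map fun r => X - C r).prod) := by
          have h2 : (algebraMap (localRing M hM) Λ) r = (r : ℂ) • (1 : Λ) := by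
            rw [Algebra.algebraMap_eq_smul_one]
            rfl
          rw [h2, ← mul_assoc, ← mul_assoc]
          congr 1
          rw [mul_sub, sub_mul, mul_smul_comm, mul_one, smul_mul_assoc, hj.2.1, hcx.1, hcx.2]
        rw [h1]
        have hc2 : Corner j (j * Polynomial.aeval x (s.map fun r => X - C r).prod) := by
          refine ⟨by rw [← mul_assoc, hj.2.1], ?_⟩
          rw [mul_assoc, ← commute_aeval hM hjx, ← mul_assoc, hj.2.1]
        have hc1 : Corner j (x - (r : ℂ) • j) := by
          refine hcx.sub ⟨?_, ?_⟩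
          · rw [mul_smul_comm, hj.2.1]
          · rw [smul_mul_assoc, hj.2.1]
        exact (hunit r).mul ih hc1 hc2
    have := key s
    rw [← hs, hfx, mul_zero] at this
    exact not_cunit_zero hj.2.2.1 this

end Cfsg.Agent.Lib.Helper8.BPS
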