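import Mathlib
import Cfsg.Agent.Lib.Helper8.BPS2
import Cfsg.Agent.Lib.Helper8.BPS4

/-!
# Green's indecomposability theorem for a cyclic group of order `p` acting on an order, part 1

Conjugation by a unit, the context `GPCtx`, the trace `trS`, and the elementary consequences.
-/

set_option autoImplicit false
set_option linter.unusedSectionVars false

namespace Cfsg.Agent.Lib.Helper8.BPS

open Cfsg Cfsg.Agent.Lib.Helper8

variable {M : Ideal AlgInt} {p : ℕ} {Λ : Type*} [Ring Λ] [Algebra ℂ Λ]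

/-- conjugation by a unit -/
def cjU (x : Λˣ) (y : Λ) : Λ := (x : Λ) * y * ((x⁻¹ : Λˣ) : Λ)

theorem cjU_mul (x : Λˣ) (y z : Λ) : cjU x (y * z) = cjU x y * cjU x z := by
  unfold cjU
  calc (x : Λ) * (y * z) * ((x⁻¹ : Λˣ) : Λ)
      = (x : Λ) * y * (((x⁻¹ : Λˣ) : Λ) * (x : Λ)) * z * ((x⁻¹ : Λˣ) : Λ) := by
        rw [Units.inv_mul]; simp only [mul_assoc, one_mul]
    _ = _ := by simp only [mul_assoc]

theorem cjU_add (x : Λˣ) (y z : Λ) : cjU x (y + z) = cjU x y + cjU x z := by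
  unfold cjU
  rw [mul_add, add_mul]

theorem cjU_sub (x : Λˣ) (y z : Λ) : cjU x (y - z) = cjU x y - cjU x z := by
  unfold cjU
  rw [mul_sub, sub_mul]

theorem cjU_neg (x : Λˣ) (y : Λ) : cjU x (-y) = -cjU x y := by
  unfold cjU
  rw [mul_neg, neg_mul]

theorem cjU_zero (x : Λˣ) : cjU x (0 : Λ) = 0 := by
  unfold cjU
  rw [mul_zero, zero_mul]

theorem cjU_one (x : Λˣ) : cjU x (1 : Λ) = 1 := by
  unfold cjU
  rw [mul_one, Units.mul_inv]

theorem cjU_smul (x : Λˣ) (c : ℂ) (y : Λ) : cjU x (c • y) = c • cjU x y := by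
  unfold cjU
  rw [mul_smul_comm, smul_mul_assoc]

theorem cjU_sum (x : Λˣ) {ι : Type*} (s : Finset ι) (f : ι → Λ) :
    cjU x (∑ i ∈ s, f i) = ∑ i ∈ s, cjU x (f i) := by
  unfold cjU
  rw [Finset.mul_sum, Finset.sum_mul]

theorem cjU_cjU (x x' : Λˣ) (y : Λ) : cjU x (cjU x' y) = cjU (x * x') y := by
  unfold cjU
  rw [mul_inv_rev, Units.val_mul, Units.val_mul]
  simp only [mul_assoc]

theorem cjU_one' (y : Λ) : cjU (1 : Λˣ) y = y := by
  unfold cjU
  rw [inv_one, Units.val_one, one_mul, mul_one]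

theorem cjU_inv_cjU (x : Λˣ) (y : Λ) : cjU x⁻¹ (cjU x y) = y := by
  rw [cjU_cjU, inv_mul_cancel, cjU_one']

theorem cjU_cjU_inv (x : Λˣ) (y : Λ) : cjU x (cjU x⁻¹ y) = y := by
  rw [cjU_cjU, mul_inv_cancel, cjU_one']

theorem cjU_pow (x : Λˣ) (y : Λ) (n : ℕ) : cjU x (y ^ n) = cjU x y ^ n := by
  induction n with
  | zero => rw [pow_zero, pow_zero, cjU_one]
  | succ n ih => rw [pow_succ, pow_succ, cjU_mul, ih]

theorem cjU_injective (x : Λˣ) : Function.Injective (cjU x : Λ → Λ) := by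
  intro y z h
  have := congrArg (cjU x⁻¹) h
  rwa [cjU_inv_cjU, cjU_inv_cjU] at this

theorem cjU_idem (x : Λˣ) {e : Λ} (he : e * e = e) : cjU x e * cjU x e = cjU x e := by
  rw [← cjU_mul, he]

theorem Corner.cjU (x : Λˣ) {j y : Λ} (h : Corner j y) : Corner (cjU x j) (cjU x y) :=
  ⟨by rw [← cjU_mul, h.1], by rw [← cjU_mul, h.2]⟩

theorem cjU_eq_zero_iff (x : Λˣ) (y : Λ) : cjU x y = 0 ↔ y = 0 := by
  constructor
  · intro h
    apply cjU_injective x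
    rw [h, cjU_zero]
  · rintro rfl
    exact cjU_zero x

theorem rk_cjU [FiniteDimensional ℂ Λ] (x : Λˣ) {e : Λ} (he : e * e = e) : rk (cjU x e) = rk e :=
  rk_conj x he

/-- the context of Green's theorem: `T' = T^σ` where `σ` is the conjugation by the unit `x`,
`σ^p = 1` on `T`. -/
structure GPCtx (M : Ideal AlgInt) (p : ℕ) (T T' : Subring Λ) (P P' : Set Λ) (x : Λˣ) : Prop where
  fitT : FitScal M T P
  fitT' : FitScal M T' P'
  T'_iff : ∀ y, y ∈ T' ↔ y ∈ T ∧ cjU x y = y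
  P'_iff : ∀ y, y ∈ P' ↔ y ∈ P ∧ y ∈ T'
  conj_T : ∀ y ∈ T, cjU x y ∈ T
  conj_P : ∀ y ∈ P, cjU x y ∈ P
  pow_T : ∀ y ∈ T, cjU (x ^ p) y = y
  hp : p.Prime
  hpM : MemLocalIdeal M (p : ℂ)

section ctx

variable {T T' : Subring Λ} {P P' : Set Λ} {x : Λˣ}

theorem GPCtx.T'_le (h : GPCtx M p T T' P P' x) : T' ≤ T := fun y hy => ((h.T'_iff y).1 hy).1

theorem GPCtx.sig_T (h : GPCtx M p T T' P P' x) (k : ℕ) {y : Λ} (hy : y ∈ T) :
    cjU (x ^ k) y ∈ T := by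
  induction k with
  | zero => rw [pow_zero, cjU_one']; exact hy
  | succ k ih => rw [pow_succ', ← cjU_cjU]; exact h.conj_T _ ih

theorem GPCtx.sig_P (h : GPCtx M p T T' P P' x) (k : ℕ) {y : Λ} (hy : y ∈ P) :
    cjU (x ^ k) y ∈ P := by
  induction k with
  | zero => rw [pow_zero, cjU_one']; exact hy
  | succ k ih => rw [pow_succ', ← cjU_cjU]; exact h.conj_P _ ih

theorem GPCtx.sig_fixed (h : GPCtx M p T T' P P' x) (k : ℕ) {y : Λ} (hy : y ∈ T') :
    cjU (x ^ k) y = y := by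
  induction k with
  | zero => rw [pow_zero, cjU_one']
  | succ k ih => rw [pow_succ', ← cjU_cjU, ih, ((h.T'_iff y).1 hy).2]

theorem GPCtx.sig_add_p (h : GPCtx M p T T' P P' x) (k : ℕ) {y : Λ} (hy : y ∈ T) :
    cjU (x ^ (k + p)) y = cjU (x ^ k) y := by
  rw [pow_add, ← cjU_cjU, h.pow_T y hy]

theorem GPCtx.sig_mod (h : GPCtx M p T T' P P' x) (k : ℕ) {y : Λ} (hy : y ∈ T) :
    cjU (x ^ k) y = cjU (x ^ (k % p)) y := by
  induction k using Nat.strong_induction_on with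
  | _ k ih =>
    by_cases hk : k < p
    · rw [Nat.mod_eq_of_lt hk]
    · push Not at hk
      obtain ⟨m, rfl⟩ := Nat.exists_eq_add_of_le' hk
      rw [h.sig_add_p m hy, Nat.add_mod_right]
      exact ih m (by have := h.hp.pos; omega)

/-- the inverse of `σ^k` on `T` is `σ^(p - k % p)` -/
theorem GPCtx.sig_inv (h : GPCtx M p T T' P P' x) (k : ℕ) {y : Λ} (hy : y ∈ T) :
    cjU (x ^ (p - k % p)) (cjU (x ^ k) y) = y := by
  rw [h.sig_mod k hy, cjU_cjU, ← pow_add]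
  have hlt : k % p < p := Nat.mod_lt _ h.hp.pos
  have : p - k % p + k % p = p := by omega
  rw [this, h.pow_T y hy]

theorem GPCtx.sig_inv' (h : GPCtx M p T T' P P' x) (k : ℕ) {y : Λ} (hy : y ∈ T) :
    cjU (x ^ k) (cjU (x ^ (p - k % p)) y) = y := by
  rw [cjU_cjU, ← pow_add]
  have hlt : k % p < p := Nat.mod_lt _ h.hp.pos
  have h1 := h.sig_mod (k + (p - k % p)) hy
  have h2 : (k + (p - k % p)) % p = 0 := by
    have h3 : k + (p - k % p) = p * (k / p) + p := by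
      have := Nat.div_add_mod k p
      omega
    rw [h3, Nat.add_mod_right, Nat.mul_mod_right]
  rw [h1, h2, pow_zero, cjU_one']

theorem GPCtx.prim_sig (h : GPCtx M p T T' P P' x) (k : ℕ) {j : Λ} (hj : Prim T j) :
    Prim T (cjU (x ^ k) j) := by
  refine ⟨h.sig_T k hj.1, cjU_idem _ hj.2.1, fun h0 => hj.2.2.1 ((cjU_eq_zero_iff _ _).1 h0), ?_⟩
  intro e he hee hce
  -- pull back with the inverse
  have he' : cjU (x ^ (p - k % p)) e ∈ T := h.sig_T _ he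
  have hc' : Corner j (cjU (x ^ (p - k % p)) e) := by
    have := hce.cjU (x ^ (p - k % p))
    rwa [h.sig_inv k hj.1] at this
  rcases hj.2.2.2 _ he' (cjU_idem _ hee) hc' with h1 | h1
  · left
    exact (cjU_eq_zero_iff _ _).1 h1
  · right
    have := congrArg (cjU (x ^ k)) h1
    rwa [h.sig_inv' k he] at this

theorem GPCtx.iso_sig (h : GPCtx M p T T' P P' x) (k : ℕ) {e e' : Λ} (hi : IsoIdem T e e') :
    IsoIdem T (cjU (x ^ k) e) (cjU (x ^ k) e') := by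
  obtain ⟨a, b, ha, hb, h1, h2, h3, h4, h5, h6⟩ := hi
  refine ⟨cjU (x ^ k) a, cjU (x ^ k) b, h.sig_T k ha, h.sig_T k hb, ?_, ?_, ?_, ?_, ?_, ?_⟩ <;>
    rw [← cjU_mul]
  · rw [h1]
  · rw [h2]
  · rw [h3]
  · rw [h4]
  · rw [h5]
  · rw [h6]

/-- the trace of `σ` -/
def trS (x : Λˣ) (p : ℕ) (y : Λ) : Λ := ∑ k ∈ Finset.range p, cjU (x ^ k) y

theorem GPCtx.trS_mem_T (h : GPCtx M p T T' P P' x) {y : Λ} (hy : y ∈ T) : trS x p y ∈ T :=
  Subring.sum_mem _ fun k _ => h.sig_T k hy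

theorem GPCtx.trS_mem_T' (h : GPCtx M p T T' P P' x) {y : Λ} (hy : y ∈ T) : trS x p y ∈ T' := by
  rw [h.T'_iff]
  refine ⟨h.trS_mem_T hy, ?_⟩
  unfold trS
  rw [cjU_sum]
  have h1 : ∀ k, cjU x (cjU (x ^ k) y) = cjU (x ^ (k + 1)) y := by
    intro k
    rw [pow_succ', ← cjU_cjU]
  simp_rw [h1]
  have hp1 : p - 1 + 1 = p := Nat.sub_add_cancel h.hp.pos
  have hpT := h.pow_T y hy
  obtain ⟨q, hq⟩ : ∃ q, p = q + 1 := ⟨p - 1, hp1.symm⟩
  rw [hq] at hpT ⊢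
  rw [Finset.sum_range_succ (fun k => cjU (x ^ (k + 1)) y),
    Finset.sum_range_succ' (fun k => cjU (x ^ k) y), pow_zero, cjU_one', hpT]

theorem GPCtx.trS_mul_left (h : GPCtx M p T T' P P' x) {c : Λ} (hc : c ∈ T') (y : Λ) :
    trS x p (c * y) = c * trS x p y := by
  unfold trS
  rw [Finset.mul_sum]
  refine Finset.sum_congr rfl fun k _ => ?_
  rw [cjU_mul, h.sig_fixed k hc]

theorem GPCtx.trS_mul_right (h : GPCtx M p T T' P P' x) {c : Λ} (hc : c ∈ T') (y : Λ) :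
    trS x p (y * c) = trS x p y * c := by
  unfold trS
  rw [Finset.sum_mul]
  refine Finset.sum_congr rfl fun k _ => ?_
  rw [cjU_mul, h.sig_fixed k hc]

theorem trS_sum (x : Λˣ) (p : ℕ) {ι : Type*} (s : Finset ι) (f : ι → Λ) :
    trS x p (∑ i ∈ s, f i) = ∑ i ∈ s, trS x p (f i) := by
  unfold trS
  simp_rw [cjU_sum]
  exact Finset.sum_comm

end ctx

end Cfsg.Agent.Lib.Helper8.BPS
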