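import Mathlib
import Cfsg.Agent.Lib.Helper8.BPS8

/-!
# Green's indecomposability theorem, part 2: the trace argument

If all the conjugates `σ^k j₀` are isomorphic, the number of constituents of `i` is divisible by `p`.
-/

set_option autoImplicit false
set_option linter.unusedSectionVars false

namespace Cfsg.Agent.Lib.Helper8.BPS

open Cfsg Cfsg.Agent.Lib.Helper8

variable {M : Ideal AlgInt} {p : ℕ} {Λ : Type*} [Ring Λ] [Algebra ℂ Λ]
variable {T T' : Subring Λ} {P P' : Set Λ} {x : Λˣ}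

theorem corner_smul {j : Λ} (hj : j * j = j) (c : ℂ) : Corner j (c • j) :=
  ⟨by rw [mul_smul_comm, hj], by rw [smul_mul_assoc, hj]⟩

/-- the residue ring of a primitive corner is commutative -/
theorem FitScal.comm_crad (h : FitScal M T P) {j : Λ} (hj : Prim T j) {a b : Λ} (ha : a ∈ T)
    (hca : Corner j a) (hb : b ∈ T) (hcb : Corner j b) : CRad T P j (a * b - b * a) := by
  obtain ⟨c, hc, hr⟩ := h.res j hj a ha hca
  obtain ⟨c', hc', hr'⟩ := h.res j hj b hb hcb
  set r := a - c • j with hrdef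
  set r' := b - c' • j with hr'def
  have hfit := h.toFitSub
  have e1 : a * b - b * a = r * r' - r' * r := by
    have ha' : a = r + c • j := by rw [hrdef]; abel
    have hb' : b = r' + c' • j := by rw [hr'def]; abel
    have h1 : r * j = r := hr.2.1.2
    have h2 : j * r = r := hr.2.1.1
    have h3 : r' * j = r' := hr'.2.1.2
    have h4 : j * r' = r' := hr'.2.1.1
    rw [ha', hb']
    simp only [add_mul, mul_add, smul_mul_assoc, mul_smul_comm, h1, h2, h3, h4, hj.2.1, smul_add]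
    rw [smul_comm c' c j]
    abel
  rw [e1]
  have h5 : CRad T P j (r * r') := hfit.crad_mul_right hj hr hr'.1 hr'.2.1
  have h6 : CRad T P j (r' * r) := hfit.crad_mul_left hj hr hr'.1 hr'.2.1
  have := hfit.crad_add hj h5 (hfit.crad_neg hj h6)
  rwa [← sub_eq_add_neg] at this

theorem FitScal.crad_smul (h : FitScal M T P) {j : Λ} (hj : Prim T j) {c : ℂ}
    (hc : MemLocalRing M c) {r : Λ} (hr : CRad T P j r) : CRad T P j (c • r) := by
  have h1 : c • r = (c • j) * r := by rw [smul_mul_assoc, hr.2.1.1]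
  rw [h1]
  exact h.toFitSub.crad_mul_left hj hr (h.smul_mem c hc j hj.1) (corner_smul hj.2.1 c)

theorem FitScal.crad_sub (h : FitScal M T P) {j : Λ} (hj : Prim T j) {a b : Λ}
    (ha : CRad T P j a) (hb : CRad T P j b) : CRad T P j (a - b) := by
  rw [sub_eq_add_neg]
  exact h.toFitSub.crad_add hj ha (h.toFitSub.crad_neg hj hb)

/-- if `n • j` lies in the radical of the primitive corner `j` then `p ∣ n` -/
theorem FitScal.dvd_of_crad_natCast (h : FitScal M T P) (hM : IsPModular p M) {j : Λ}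
    (hj : Prim T j) {n : ℕ} (hr : CRad T P j ((n : ℂ) • j)) : p ∣ n := by
  by_contra hn
  have hinv := memLocalRing_inv_natCast hM hn
  have h1 := h.crad_smul hj hinv hr
  have hn0 : (n : ℂ) ≠ 0 := by
    intro h0
    apply hn
    have : n = 0 := by exact_mod_cast h0
    rw [this]
    exact dvd_zero p
  rw [smul_smul, inv_mul_cancel₀ hn0, one_smul] at h1
  exact h.toFitSub.not_crad_self hj h1

/-- **Comparison of two traces with values in a primitive corner.** -/
theorem FitScal.trace_compare (h : FitScal M T P) {j i : Λ} (hj : Prim T j) {ι ι' : Type*}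
    (s : Finset ι) (s' : Finset ι') (u v : ι → Λ) (U V : ι' → Λ)
    (hu : ∀ e ∈ s, u e ∈ T ∧ j * u e = u e) (hv : ∀ e ∈ s, v e ∈ T ∧ v e * j = v e)
    (hU : ∀ f ∈ s', U f ∈ T ∧ j * U f = U f) (hV : ∀ f ∈ s', V f ∈ T ∧ V f * j = V f)
    (hsum : ∑ e ∈ s, v e * u e = i) (hsum' : ∑ f ∈ s', V f * U f = i)
    {d : Λ} (hd : d ∈ T) (hid : i * d = d) (hdi : d * i = d) :
    CRad T P j (∑ f ∈ s', U f * d * V f - ∑ e ∈ s, u e * d * v e) := by
  have hfit := h.toFitSub
  have e1 : ∑ f ∈ s', U f * d * V f = ∑ f ∈ s', ∑ e ∈ s, (U f * v e) * (u e * d * V f) := by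
    refine Finset.sum_congr rfl fun f _ => ?_
    conv_lhs => rw [← hid, ← hsum]
    rw [Finset.sum_mul, Finset.mul_sum, Finset.sum_mul]
    refine Finset.sum_congr rfl fun e _ => ?_
    simp only [mul_assoc]
  have e2 : ∑ e ∈ s, u e * d * v e = ∑ f ∈ s', ∑ e ∈ s, (u e * d * V f) * (U f * v e) := by
    rw [Finset.sum_comm]
    refine Finset.sum_congr rfl fun e _ => ?_
    conv_lhs => rw [← hdi, ← hsum']
    rw [Finset.mul_sum, Finset.mul_sum, Finset.sum_mul]
    refine Finset.sum_congr rfl fun f _ => ?_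
    simp only [mul_assoc]
  rw [e1, e2, ← Finset.sum_sub_distrib]
  apply hfit.crad_sum hj
  intro f hf
  rw [← Finset.sum_sub_distrib]
  apply hfit.crad_sum hj
  intro e he
  apply h.comm_crad hj
  · exact T.mul_mem (hU f hf).1 (hv e he).1
  · exact ⟨by rw [← mul_assoc, (hU f hf).2], by rw [mul_assoc, (hv e he).2]⟩
  · exact T.mul_mem (T.mul_mem (hu e he).1 hd) (hV f hf).1
  · exact ⟨by rw [← mul_assoc, ← mul_assoc, (hu e he).2], by rw [mul_assoc, (hV f hf).2]⟩

/-! ### The trace is invariant under `σ` modulo the radical -/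

theorem GPCtx.inv_eq (h : GPCtx M p T T' P P' x) {y : Λ} (hy : y ∈ T) :
    cjU x⁻¹ y = cjU (x ^ (p - 1)) y := by
  have h1 : x⁻¹ * x ^ p = x ^ (p - 1) := by
    have hp1 : p = (p - 1) + 1 := (Nat.sub_add_cancel h.hp.pos).symm
    conv_lhs => rw [hp1, pow_succ', inv_mul_cancel_left]
  conv_lhs => rw [← h.pow_T y hy]
  rw [cjU_cjU, h1]

theorem GPCtx.inv_T (h : GPCtx M p T T' P P' x) {y : Λ} (hy : y ∈ T) : cjU x⁻¹ y ∈ T := by
  rw [h.inv_eq hy]
  exact h.sig_T _ hy

theorem GPCtx.inv_P (h : GPCtx M p T T' P P' x) {y : Λ} (hy : y ∈ P) : cjU x⁻¹ y ∈ P := by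
  rw [h.inv_eq (h.fitT.toFitSub.P_sub hy)]
  exact h.sig_P _ hy

theorem sandwich_pow {α β r j : Λ} (hab : α * β = j) (hjr : j * r = r) :
    ∀ n : ℕ, 0 < n → (β * r * α) ^ n = β * r ^ n * α
  | 0, h => absurd h (lt_irrefl 0)
  | 1, _ => by rw [pow_one, pow_one]
  | (n + 2), _ => by
      rw [pow_succ, sandwich_pow hab hjr (n + 1) (Nat.succ_pos n), pow_succ r (n + 1)]
      calc β * r ^ (n + 1) * α * (β * r * α) = β * r ^ (n + 1) * (α * β) * r * α := by
            simp only [mul_assoc]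
        _ = β * (r ^ (n + 1) * r) * α := by rw [hab]; simp only [mul_assoc, hjr]

theorem GPCtx.trace_step (h : GPCtx M p T T' P P' x) {j₀ i : Λ} (hj : Prim T j₀)
    (hiso : IsoIdem T j₀ (cjU x⁻¹ j₀)) (hi : cjU x i = i) {ι : Type*} (s : Finset ι)
    (u v : ι → Λ) (hu : ∀ e ∈ s, u e ∈ T ∧ j₀ * u e = u e)
    (hv : ∀ e ∈ s, v e ∈ T ∧ v e * j₀ = v e) (hsum : ∑ e ∈ s, v e * u e = i) {d : Λ}
    (hd : d ∈ T) (hid : i * d = d) (hdi : d * i = d) :
    CRad T P j₀ (∑ e ∈ s, u e * cjU x d * v e - ∑ e ∈ s, u e * d * v e) := by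
  have hfs := h.fitT
  have hfit := hfs.toFitSub
  obtain ⟨α, β, hα, hβ, a1, a2, a3, a4, a5, a6⟩ := hiso
  have hi' : cjU x⁻¹ i = i := by
    conv_lhs => rw [← hi]
    exact cjU_inv_cjU x i
  have hjj := hj.2.1
  -- the second family
  set U : ι → Λ := fun e => α * cjU x⁻¹ (u e) with hUdef
  set V : ι → Λ := fun e => cjU x⁻¹ (v e) * β with hVdef
  have hU : ∀ e ∈ s, U e ∈ T ∧ j₀ * U e = U e := fun e he =>
    ⟨T.mul_mem hα (h.inv_T (hu e he).1), by simp only [hUdef]; rw [← mul_assoc, a1]⟩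
  have hV : ∀ e ∈ s, V e ∈ T ∧ V e * j₀ = V e := fun e he =>
    ⟨T.mul_mem (h.inv_T (hv e he).1) hβ, by simp only [hVdef]; rw [mul_assoc, a4]⟩
  have hsum' : ∑ e ∈ s, V e * U e = i := by
    have h1 : ∀ e ∈ s, V e * U e = cjU x⁻¹ (v e * u e) := by
      intro e he
      simp only [hUdef, hVdef]
      calc cjU x⁻¹ (v e) * β * (α * cjU x⁻¹ (u e)) = cjU x⁻¹ (v e) * (β * α) * cjU x⁻¹ (u e) := by
            simp only [mul_assoc]
        _ = cjU x⁻¹ (v e * j₀ * u e) := by rw [a6, cjU_mul, cjU_mul]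
        _ = cjU x⁻¹ (v e * u e) := by rw [(hv e he).2]
    rw [Finset.sum_congr rfl h1, ← cjU_sum, hsum, hi']
  set lam := ∑ e ∈ s, U e * d * V e with hlam
  have hF1 := hfs.trace_compare hj s s u v U V hu hv hU hV hsum hsum' hd hid hdi
  have hlamT : lam ∈ T := Subring.sum_mem _ fun e he => T.mul_mem (T.mul_mem (hU e he).1 hd) (hV e he).1
  have hlamC : Corner j₀ lam := by
    refine Corner.sum s _ fun e he => ⟨?_, ?_⟩
    · calc j₀ * (U e * d * V e) = (j₀ * U e) * d * V e := by simp only [mul_assoc]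
        _ = U e * d * V e := by rw [(hU e he).2]
    · calc U e * d * V e * j₀ = U e * d * (V e * j₀) := by simp only [mul_assoc]
        _ = U e * d * V e := by rw [(hV e he).2]
  -- the key identity
  have hkey : ∑ e ∈ s, u e * cjU x d * v e = cjU x (β * lam * α) := by
    have h1 : β * lam * α = ∑ e ∈ s, cjU x⁻¹ (u e) * d * cjU x⁻¹ (v e) := by
      rw [hlam, Finset.mul_sum, Finset.sum_mul]
      refine Finset.sum_congr rfl fun e he => ?_
      simp only [hUdef, hVdef]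
      calc β * (α * cjU x⁻¹ (u e) * d * (cjU x⁻¹ (v e) * β)) * α
          = (β * α) * cjU x⁻¹ (u e) * d * (cjU x⁻¹ (v e) * (β * α)) := by simp only [mul_assoc]
        _ = cjU x⁻¹ (j₀ * u e) * d * cjU x⁻¹ (v e * j₀) := by rw [a6, cjU_mul, cjU_mul]
        _ = _ := by rw [(hu e he).2, (hv e he).2]
    rw [h1, cjU_sum]
    refine Finset.sum_congr rfl fun e _ => ?_
    rw [cjU_mul, cjU_mul, cjU_cjU_inv, cjU_cjU_inv]
  -- Claim B
  obtain ⟨c, hc, hr⟩ := hfs.res j₀ hj lam hlamT hlamC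
  set r := lam - c • j₀ with hrdef
  have hB : CRad T P j₀ (cjU x (β * lam * α) - lam) := by
    have e1 : cjU x (β * lam * α) - lam = cjU x (β * r * α) - r := by
      have hl : lam = r + c • j₀ := by rw [hrdef]; abel
      have h2 : β * (c • j₀) * α = c • cjU x⁻¹ j₀ := by
        rw [mul_smul_comm, smul_mul_assoc, a4, a6]
      conv_lhs => rw [hl]
      rw [mul_add, add_mul, cjU_add, h2, cjU_smul, cjU_cjU_inv]
      abel
    rw [e1]
    apply hfs.crad_sub hj _ hr
    refine ⟨h.conj_T _ (T.mul_mem (T.mul_mem hβ hr.1) hα), ⟨?_, ?_⟩, ?_⟩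
    · have : j₀ = cjU x (cjU x⁻¹ j₀) := (cjU_cjU_inv x j₀).symm
      conv_lhs => rw [this]
      rw [← cjU_mul, ← mul_assoc, ← mul_assoc, a3]
    · have : j₀ = cjU x (cjU x⁻¹ j₀) := (cjU_cjU_inv x j₀).symm
      conv_lhs => rw [this]
      rw [← cjU_mul, mul_assoc, a2]
    · obtain ⟨n, hn, hrn⟩ := hr.2.2
      refine ⟨n, hn, ?_⟩
      rw [← cjU_pow, sandwich_pow a5 hr.2.1.1 n hn]
      exact h.conj_P _ (hfit.P_mul_right α hα _ (hfit.P_mul_left β hβ _ hrn))
  rw [hkey]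
  have := hfit.crad_add hj hB hF1
  rwa [sub_add_sub_cancel] at this

theorem GPCtx.sig_fixed' (_h : GPCtx M p T T' P P' x) {i : Λ} (hi : cjU x i = i) (k : ℕ) :
    cjU (x ^ k) i = i := by
  induction k with
  | zero => rw [pow_zero, cjU_one']
  | succ k ih => rw [pow_succ', ← cjU_cjU, ih, hi]

theorem GPCtx.trace_pow (h : GPCtx M p T T' P P' x) {j₀ i : Λ} (hj : Prim T j₀)
    (hiso : IsoIdem T j₀ (cjU x⁻¹ j₀)) (hi : cjU x i = i) {ι : Type*} (s : Finset ι)
    (u v : ι → Λ) (hu : ∀ e ∈ s, u e ∈ T ∧ j₀ * u e = u e)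
    (hv : ∀ e ∈ s, v e ∈ T ∧ v e * j₀ = v e) (hsum : ∑ e ∈ s, v e * u e = i) {d : Λ}
    (hd : d ∈ T) (hid : i * d = d) (hdi : d * i = d) (k : ℕ) :
    CRad T P j₀ (∑ e ∈ s, u e * cjU (x ^ k) d * v e - ∑ e ∈ s, u e * d * v e) := by
  induction k with
  | zero =>
    rw [pow_zero, sub_eq_zero.2 (by simp only [cjU_one'])]
    exact h.fitT.toFitSub.crad_zero hj
  | succ k ih =>
    have h1 : cjU (x ^ (k + 1)) d = cjU x (cjU (x ^ k) d) := by rw [pow_succ', cjU_cjU]
    rw [h1]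
    have hdk : cjU (x ^ k) d ∈ T := h.sig_T k hd
    have hidk : i * cjU (x ^ k) d = cjU (x ^ k) d := by
      conv_lhs => rw [← h.sig_fixed' hi k]
      rw [← cjU_mul, hid]
    have hdik : cjU (x ^ k) d * i = cjU (x ^ k) d := by
      conv_lhs => rw [← h.sig_fixed' hi k]
      rw [← cjU_mul, hdi]
    have h2 := h.trace_step hj hiso hi s u v hu hv hsum hdk hidk hdik
    have := h.fitT.toFitSub.crad_add hj h2 ih
    rwa [sub_add_sub_cancel] at this

/-- **If all conjugates of `j₀` are isomorphic, the number of constituents is divisible by `p`.** -/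
theorem GPCtx.dvd_card (h : GPCtx M p T T' P P' x) (hM : IsPModular p M) {j₀ i : Λ}
    (hj : Prim T j₀) (hiso : IsoIdem T j₀ (cjU x⁻¹ j₀)) (hi : cjU x i = i) {ι : Type*}
    (s : Finset ι) (u v : ι → Λ) (hu : ∀ e ∈ s, u e ∈ T ∧ j₀ * u e = u e)
    (hv : ∀ e ∈ s, v e ∈ T ∧ v e * j₀ = v e) (huv : ∀ e ∈ s, u e * v e = j₀)
    (hui : ∀ e ∈ s, u e * i = u e) (hsum : ∑ e ∈ s, v e * u e = i) {a' : Λ} (ha' : a' ∈ T)
    (hia : i * a' = a') (hai : a' * i = a') (htr : trS x p a' = i) : p ∣ s.card := by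
  have hfs := h.fitT
  have hfit := hfs.toFitSub
  apply hfs.dvd_of_crad_natCast hM hj
  -- `tr i = card • j₀`
  have e1 : ∑ e ∈ s, u e * i * v e = (s.card : ℂ) • j₀ := by
    rw [Finset.sum_congr rfl (fun e he => by rw [hui e he, huv e he] : ∀ e ∈ s, u e * i * v e = j₀),
      Finset.sum_const, Nat.cast_smul_eq_nsmul]
  have e2 : ∑ e ∈ s, u e * i * v e =
      ∑ k ∈ Finset.range p, ∑ e ∈ s, u e * cjU (x ^ k) a' * v e := by
    rw [Finset.sum_comm]
    refine Finset.sum_congr rfl fun e _ => ?_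
    rw [← htr]
    unfold trS
    rw [Finset.mul_sum, Finset.sum_mul]
  set tr0 := ∑ e ∈ s, u e * a' * v e with htr0
  have htr0T : tr0 ∈ T :=
    Subring.sum_mem _ fun e he => T.mul_mem (T.mul_mem (hu e he).1 ha') (hv e he).1
  have htr0C : Corner j₀ tr0 := by
    refine Corner.sum s _ fun e he => ⟨?_, ?_⟩
    · rw [← mul_assoc, ← mul_assoc, (hu e he).2]
    · rw [mul_assoc, (hv e he).2]
  have e3 : CRad T P j₀ (∑ k ∈ Finset.range p, (∑ e ∈ s, u e * cjU (x ^ k) a' * v e - tr0)) :=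
    hfit.crad_sum hj _ _ fun k _ => h.trace_pow hj hiso hi s u v hu hv hsum ha' hia hai k
  have e4 : CRad T P j₀ ((p : ℂ) • tr0) := by
    refine hfit.crad_of_mem_P (hfs.smul_mem_P _ h.hpM _ htr0T) ⟨?_, ?_⟩
    · rw [mul_smul_comm, htr0C.1]
    · rw [smul_mul_assoc, htr0C.2]
  have := hfit.crad_add hj e3 e4
  rw [Finset.sum_sub_distrib, Finset.sum_const, Finset.card_range, ← Nat.cast_smul_eq_nsmul ℂ,
    sub_add_cancel, ← e2, e1] at this
  exact this

end Cfsg.Agent.Lib.Helper8.BPS
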