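import Mathlib
import Cfsg.Agent.Lib.Helper8.BPS9

/-!
# Green's indecomposability theorem, part 3
-/

set_option autoImplicit false
set_option linter.unusedSectionVars false

namespace Cfsg.Agent.Lib.Helper8.BPS

open Cfsg Cfsg.Agent.Lib.Helper8

variable {M : Ideal AlgInt} {p : ℕ} {Λ : Type*} [Ring Λ] [Algebra ℂ Λ]
variable {T T' : Subring Λ} {P P' : Set Λ} {x : Λˣ}

/-- normalisation: `i = Tr(a')` with `a' = a' j₀`, `j₀` a primitive idempotent of `T` below `i` -/
theorem GPCtx.normalize (h : GPCtx M p T T' P P' x) {i a : Λ} (hi : Prim T' i) (ha : a ∈ T)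
    (hca : Corner i a) (htr : trS x p a = i) (E : Finset Λ)
    (hE : ∀ e ∈ E, Prim T e ∧ Corner i e) (hsumE : ∑ e ∈ E, e = i) :
    ∃ j₀ ∈ E, ∃ a' ∈ T, a' * j₀ = a' ∧ i * a' = a' ∧ a' * i = a' ∧ trS x p a' = i := by
  have hiT' := hi.1
  have hfit' := h.fitT'.toFitSub
  have h1 : ∑ e ∈ E, trS x p (a * e) = i := by
    rw [← trS_sum, ← Finset.mul_sum, hsumE, hca.2, htr]
  obtain ⟨e₀, he₀, hu⟩ := hfit'.prim_corner_sum hi E (fun e => trS x p (a * e))
    (fun e he => h.trS_mem_T' (T.mul_mem ha (hE e he).1.1))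
    (fun e he => ⟨by rw [← h.trS_mul_left hiT', ← mul_assoc, hca.1],
      by rw [← h.trS_mul_right hiT', mul_assoc, (hE e he).2.2]⟩) h1
  obtain ⟨c', hc'T, hc'C, hcc', hc'c⟩ := hu
  have hj := (hE e₀ he₀).1
  have hjc := (hE e₀ he₀).2
  refine ⟨e₀, he₀, c' * (a * e₀), T.mul_mem (h.T'_le hc'T) (T.mul_mem ha hj.1), ?_, ?_, ?_, ?_⟩
  · rw [mul_assoc, mul_assoc, hj.2.1]
  · rw [← mul_assoc, hc'C.1]
  · rw [mul_assoc, mul_assoc, hjc.2]
  · rw [h.trS_mul_left hc'T, hc'c]

section main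

variable (h : GPCtx M p T T' P P' x) {i j₀ a' : Λ} (hi : Prim T' i) (hj : Prim T j₀)
  (hjc : Corner i j₀) (ha' : a' ∈ T) (haj : a' * j₀ = a') (hia : i * a' = a')
  (hai : a' * i = a') (htr : trS x p a' = i)

include h hi hj hjc

theorem GPCtx.corner_jk (k : ℕ) : Corner i (cjU (x ^ k) j₀) := by
  have hfix : cjU x i = i := ((h.T'_iff i).1 hi.1).2
  have := hjc.cjU (x ^ k)
  rwa [h.sig_fixed' hfix k] at this

include ha' haj hia hai htr

theorem GPCtx.sum_ak_jk : ∑ k ∈ Finset.range p, cjU (x ^ k) a' * cjU (x ^ k) j₀ = i := by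
  rw [← htr]
  unfold trS
  refine Finset.sum_congr rfl fun k _ => ?_
  rw [← cjU_mul, haj]

/-- every primitive idempotent of `T` below `i` is isomorphic to a conjugate of `j₀` -/
theorem GPCtx.iso_conj {e : Λ} (he : Prim T e) (hec : Corner i e) :
    ∃ k < p, IsoIdem T e (cjU (x ^ k) j₀) := by
  have hfit := h.fitT.toFitSub
  have hsum := h.sum_ak_jk hi hj hjc ha' haj hia hai htr
  have h1 : ∑ k ∈ Finset.range p, e * cjU (x ^ k) a' * cjU (x ^ k) j₀ * e = e := by
    have : ∀ k ∈ Finset.range p, e * cjU (x ^ k) a' * cjU (x ^ k) j₀ * e =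
        e * (cjU (x ^ k) a' * cjU (x ^ k) j₀) * e := fun k _ => by simp only [mul_assoc]
    rw [Finset.sum_congr rfl this, ← Finset.sum_mul, ← Finset.mul_sum, hsum, hec.2, he.2.1]
  obtain ⟨k, hk, hu⟩ := hfit.prim_corner_sum he (Finset.range p)
    (fun k => e * cjU (x ^ k) a' * cjU (x ^ k) j₀ * e)
    (fun k _ => T.mul_mem (T.mul_mem (T.mul_mem he.1 (h.sig_T k ha')) (h.sig_T k hj.1)) he.1)
    (fun k _ => ⟨by simp only [← mul_assoc, he.2.1], by simp only [mul_assoc, he.2.1]⟩) h1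
  refine ⟨k, Finset.mem_range.1 hk, ?_⟩
  have hjk := h.prim_sig k hj
  refine hfit.iso_of_cunit he hjk (c := e * cjU (x ^ k) a' * cjU (x ^ k) j₀)
    (c' := cjU (x ^ k) j₀ * e)
    (T.mul_mem (T.mul_mem he.1 (h.sig_T k ha')) (h.sig_T k hj.1)) (T.mul_mem hjk.1 he.1)
    (by simp only [← mul_assoc, he.2.1]) (by rw [mul_assoc, hjk.2.1])
    (by rw [← mul_assoc, hjk.2.1]) (by rw [mul_assoc, he.2.1]) ?_
  have : e * cjU (x ^ k) a' * cjU (x ^ k) j₀ * (cjU (x ^ k) j₀ * e) =
      e * cjU (x ^ k) a' * cjU (x ^ k) j₀ * e := by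
    calc _ = e * cjU (x ^ k) a' * (cjU (x ^ k) j₀ * cjU (x ^ k) j₀) * e := by simp only [mul_assoc]
      _ = _ := by rw [hjk.2.1]
  rw [this]
  exact hu

/-- every conjugate of `j₀` is isomorphic to a member of a primitive decomposition of `i` -/
theorem GPCtx.conj_iso_mem (E : Finset Λ) (hE : ∀ e ∈ E, Prim T e ∧ Corner i e)
    (hsumE : ∑ e ∈ E, e = i) (k : ℕ) : ∃ e ∈ E, IsoIdem T (cjU (x ^ k) j₀) e := by
  have hfit := h.fitT.toFitSub
  have hjk := h.prim_sig k hj
  have hjkc := h.corner_jk hi hj hjc k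
  have h1 : ∑ e ∈ E, cjU (x ^ k) j₀ * e * cjU (x ^ k) j₀ = cjU (x ^ k) j₀ := by
    rw [← Finset.sum_mul, ← Finset.mul_sum, hsumE, hjkc.2, hjk.2.1]
  obtain ⟨e, he, hu⟩ := hfit.prim_corner_sum hjk E (fun e => cjU (x ^ k) j₀ * e * cjU (x ^ k) j₀)
    (fun e he => T.mul_mem (T.mul_mem hjk.1 (hE e he).1.1) hjk.1)
    (fun e _ => ⟨by simp only [← mul_assoc, hjk.2.1], by simp only [mul_assoc, hjk.2.1]⟩) h1
  refine ⟨e, he, ?_⟩
  have hep := (hE e he).1
  refine hfit.iso_of_cunit hjk hep (c := cjU (x ^ k) j₀ * e) (c' := e * cjU (x ^ k) j₀)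
    (T.mul_mem hjk.1 hep.1) (T.mul_mem hep.1 hjk.1)
    (by rw [← mul_assoc, hjk.2.1]) (by rw [mul_assoc, hep.2.1])
    (by rw [← mul_assoc, hep.2.1]) (by rw [mul_assoc, hjk.2.1]) ?_
  have : cjU (x ^ k) j₀ * e * (e * cjU (x ^ k) j₀) = cjU (x ^ k) j₀ * e * cjU (x ^ k) j₀ := by
    calc _ = cjU (x ^ k) j₀ * (e * e) * cjU (x ^ k) j₀ := by simp only [mul_assoc]
      _ = _ := by rw [hep.2.1]
  rw [this]
  exact hu

end main

/-- if `j₀` is isomorphic to one nontrivial conjugate, it is isomorphic to all of them -/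
theorem GPCtx.iso_all (h : GPCtx M p T T' P P' x) {j₀ : Λ} (hj : Prim T j₀) {d : ℕ} (hd0 : 0 < d)
    (hdp : d < p) (hiso : IsoIdem T j₀ (cjU (x ^ d) j₀)) (k : ℕ) :
    IsoIdem T j₀ (cjU (x ^ k) j₀) := by
  have hA : ∀ m : ℕ, IsoIdem T j₀ (cjU (x ^ (m * d)) j₀) := by
    intro m
    induction m with
    | zero =>
      rw [Nat.zero_mul, pow_zero, cjU_one']
      exact IsoIdem.refl hj.1 hj.2.1
    | succ m ih =>
      have h1 : cjU (x ^ ((m + 1) * d)) j₀ = cjU (x ^ (m * d)) (cjU (x ^ d) j₀) := by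
        rw [cjU_cjU, ← pow_add, Nat.succ_mul]
      rw [h1]
      exact ih.trans (h.iso_sig (m * d) hiso)
  have hcop : Nat.Coprime d p :=
    Nat.Coprime.symm ((Nat.Prime.coprime_iff_not_dvd h.hp).2 (Nat.not_dvd_of_pos_of_lt hd0 hdp))
  obtain ⟨m, -, hm⟩ := Nat.exists_mul_mod_eq_of_coprime k hcop h.hp.ne_zero
  have := hA m
  rw [h.sig_mod _ hj.1, Nat.mul_comm m d, hm, ← h.sig_mod _ hj.1] at this
  exact this

section count

variable (h : GPCtx M p T T' P P' x) (hM : IsPModular p M) {i j₀ a' : Λ} (hi : Prim T' i)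
  (hj : Prim T j₀) (hjc : Corner i j₀) (ha' : a' ∈ T) (haj : a' * j₀ = a') (hia : i * a' = a')
  (hai : a' * i = a') (htr : trS x p a' = i)

include h hM hi hj hjc ha' haj hia hai htr

/-- **the number of constituents is at least `p`** -/
theorem GPCtx.le_card (E : Finset Λ) (hE : ∀ e ∈ E, Prim T e ∧ Corner i e)
    (hsumE : ∑ e ∈ E, e = i) : p ≤ E.card := by
  classical
  have hfit := h.fitT.toFitSub
  have hfix : cjU x i = i := ((h.T'_iff i).1 hi.1).2
  by_cases hcase : ∃ d, 0 < d ∧ d < p ∧ IsoIdem T j₀ (cjU (x ^ d) j₀)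
  · -- all conjugates are isomorphic
    obtain ⟨d, hd0, hdp, hisod⟩ := hcase
    have hall := h.iso_all hj hd0 hdp hisod
    have hEiso : ∀ e ∈ E, IsoIdem T j₀ e := by
      intro e he
      obtain ⟨k, -, hk⟩ := h.iso_conj hi hj hjc ha' haj hia hai htr (hE e he).1 (hE e he).2
      exact (hall k).trans hk.symm
    choose! u v hu using hEiso
    have hdvd : p ∣ E.card := by
      refine h.dvd_card hM hj ?_ hfix E u v (fun e he => ⟨(hu e he).1, (hu e he).2.2.1⟩)
        (fun e he => ⟨(hu e he).2.1, (hu e he).2.2.2.2.2.1⟩)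
        (fun e he => (hu e he).2.2.2.2.2.2.1) ?_ ?_ ha' hia hai htr
      · rw [h.inv_eq hj.1]
        exact hall (p - 1)
      · intro e he
        have h1 : u e * e = u e := (hu e he).2.2.2.1
        rw [← h1, mul_assoc, (hE e he).2.2]
      · rw [← hsumE]
        exact Finset.sum_congr rfl fun e he => (hu e he).2.2.2.2.2.2.2
    have hne : E.card ≠ 0 := by
      intro h0
      rw [Finset.card_eq_zero] at h0
      rw [h0, Finset.sum_empty] at hsumE
      exact hi.2.2.1 hsumE.symm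
    exact Nat.le_of_dvd (Nat.pos_of_ne_zero hne) hdvd
  · -- the conjugates are pairwise non-isomorphic
    push Not at hcase
    have hex : ∀ k : ℕ, ∃ e ∈ E, IsoIdem T (cjU (x ^ k) j₀) e :=
      fun k => h.conj_iso_mem hi hj hjc ha' haj hia hai htr E hE hsumE k
    choose g hgE hgiso using hex
    have hinj : Set.InjOn g (Finset.range p : Set ℕ) := by
      -- it suffices to treat `k < l`
      have key : ∀ k l : ℕ, k < l → l < p → g k ≠ g l := by
        intro k l hkl hlp hgl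
        have h1 : IsoIdem T (cjU (x ^ k) j₀) (cjU (x ^ l) j₀) := by
          have := hgiso l
          rw [← hgl] at this
          exact (hgiso k).trans this.symm
        have h2 := h.iso_sig (p - k) h1
        rw [cjU_cjU, cjU_cjU, ← pow_add, ← pow_add] at h2
        have e1 : p - k + k = p := by omega
        have e2 : p - k + l = (l - k) + p := by omega
        rw [e1, e2, h.pow_T _ hj.1, h.sig_add_p _ hj.1] at h2
        exact hcase (l - k) (by omega) (by omega) h2
      intro k hk l hl hkl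
      rw [Finset.mem_coe, Finset.mem_range] at hk hl
      by_contra hne
      rcases lt_or_gt_of_ne hne with hlt | hlt
      · exact key k l hlt hl hkl
      · exact key l k hlt hk hkl.symm
    have := Finset.card_le_card_of_injOn g (fun k _ => hgE k) hinj
    rwa [Finset.card_range] at this

end count

section dim

variable [FiniteDimensional ℂ Λ]

/-- **The dimension argument**: a split surjection between spaces of the same dimension is
injective. -/
theorem orth_of_rank {q : ℕ} (i : Λ) (hii : i * i = i) (J A : ℕ → Λ)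
    (hJ : ∀ k < q, J k * J k = J k)
    (hJi : ∀ k < q, J k * i = J k) (hAJ : ∀ k < q, A k * J k = A k)
    (hsum : ∑ k ∈ Finset.range q, A k = i) (hrk : ∑ k ∈ Finset.range q, rk (J k) ≤ rk i) :
    ∀ s < q, ∀ k < q, J s * A k = if k = s then J s else 0 := by
  classical
  let Φ : ((k : Fin q) → ↥(lid (J k))) →ₗ[ℂ] Λ :=
    ∑ k : Fin q, (lid (J k)).subtype ∘ₗ LinearMap.proj k
  have hΦ : ∀ w, Φ w = ∑ k : Fin q, ((w k : ↥(lid (J k))) : Λ) := by
    intro w
    simp only [Φ, LinearMap.sum_apply, LinearMap.comp_apply, LinearMap.proj_apply,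
      Submodule.subtype_apply]
  have hrange : lid i ≤ LinearMap.range Φ := by
    intro y hy
    obtain ⟨z, rfl⟩ := mem_lid.1 hy
    refine ⟨fun k => ⟨z * i * A k, mem_lid.2 ⟨z * i * A k, by rw [mul_assoc, hAJ k k.2]⟩⟩, ?_⟩
    rw [hΦ]
    simp only
    rw [← Finset.mul_sum, ← Finset.sum_range (fun k => A k), hsum, mul_assoc, hii]
  have hW : Module.finrank ℂ ((k : Fin q) → ↥(lid (J k))) = ∑ k ∈ Finset.range q, rk (J k) := by
    rw [Module.finrank_pi_fintype, Finset.sum_range (fun k => rk (J k))]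
    rfl
  have hrn := LinearMap.finrank_range_add_finrank_ker Φ
  have hle : rk i ≤ Module.finrank ℂ (LinearMap.range Φ) := Submodule.finrank_mono hrange
  have hker : Module.finrank ℂ (LinearMap.ker Φ) = 0 := by
    rw [hW] at hrn
    omega
  have hbot : LinearMap.ker Φ = ⊥ := Submodule.finrank_eq_zero.1 hker
  intro s hs
  -- the test vector
  let w : (k : Fin q) → ↥(lid (J k)) := fun k =>
    ⟨J s * A k - (if (k : ℕ) = s then J k else 0), by
      rw [mem_lid_of_idem (hJ k k.2), sub_mul, mul_assoc, hAJ k k.2]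
      split_ifs
      · rw [hJ k k.2]
      · rw [zero_mul]⟩
  have hw : Φ w = 0 := by
    rw [hΦ]
    simp only [w]
    rw [Finset.sum_sub_distrib, ← Finset.mul_sum, ← Finset.sum_range (fun k => A k), hsum, hJi s hs,
      Finset.sum_eq_single (⟨s, hs⟩ : Fin q)]
    · simp
    · intro k _ hk
      rw [if_neg]
      intro h
      apply hk
      exact Fin.ext h
    · intro h
      exact absurd (Finset.mem_univ _) h
  have hw0 : w = 0 := by
    have : w ∈ LinearMap.ker Φ := hw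
    rw [hbot] at this
    exact this
  intro k hk
  have h1 := congrFun hw0 ⟨k, hk⟩
  have h2 := congrArg Subtype.val h1
  simp only [w] at h2
  have h3 : J s * A k - (if k = s then J k else 0) = 0 := h2
  rw [sub_eq_zero] at h3
  rw [h3]
  split_ifs with hks
  · rw [hks]
  · rfl

end dim

/-- **Green's indecomposability theorem for an automorphism of order `p`.** -/
theorem GPCtx.green [FiniteDimensional ℂ Λ] (h : GPCtx M p T T' P P' x) (hM : IsPModular p M)
    {i a : Λ} (hi : Prim T' i) (ha : a ∈ T) (hca : Corner i a) (htr : trS x p a = i) :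
    ∃ f ∈ T, f * f = f ∧ Corner i f ∧
      (∀ k < p, ∀ l < p, k ≠ l → cjU (x ^ k) f * cjU (x ^ l) f = 0) ∧ trS x p f = i := by
  have hiT : i ∈ T := h.T'_le hi.1
  have hii := hi.2.1
  obtain ⟨E, hE, horth, hsumE⟩ := exists_prim_decomp T (rk i) i rfl hiT hii
  obtain ⟨j₀, hj₀E, a', ha', haj, hia, hai, htr'⟩ := h.normalize hi ha hca htr E hE hsumE
  have hj := (hE j₀ hj₀E).1
  have hjc := (hE j₀ hj₀E).2
  -- ranks
  have hrkE : ∀ e ∈ E, rk e = rk j₀ := by
    intro e he
    obtain ⟨k, -, hk⟩ := h.iso_conj hi hj hjc ha' haj hia hai htr' (hE e he).1 (hE e he).2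
    rw [rk_eq_of_iso hk, rk_cjU _ hj.2.1]
  have hrki : rk i = E.card * rk j₀ := by
    rw [← hsumE, (rk_sum_of_orth E (fun e he => (hE e he).1.2.1) horth).1,
      Finset.sum_congr rfl hrkE, Finset.sum_const, smul_eq_mul]
  have hcard := h.le_card hM hi hj hjc ha' haj hia hai htr' E hE hsumE
  have hrk : ∑ k ∈ Finset.range p, rk (cjU (x ^ k) j₀) ≤ rk i := by
    rw [Finset.sum_congr rfl (fun k _ => rk_cjU (x ^ k) hj.2.1), Finset.sum_const,
      Finset.card_range, smul_eq_mul, hrki]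
    exact Nat.mul_le_mul_right _ hcard
  have horth' := orth_of_rank i hii (fun k => cjU (x ^ k) j₀) (fun k => cjU (x ^ k) a')
    (fun k _ => cjU_idem _ hj.2.1) (fun k _ => (h.corner_jk hi hj hjc k).2)
    (fun k _ => by rw [← cjU_mul, haj]) htr' hrk
  have hmul : ∀ s < p, ∀ k < p, cjU (x ^ s) a' * cjU (x ^ k) a' =
      if k = s then cjU (x ^ s) a' else 0 := by
    intro s hs k hk
    have h1 : cjU (x ^ s) a' * cjU (x ^ k) a' =
        cjU (x ^ s) a' * (cjU (x ^ s) j₀ * cjU (x ^ k) a') := by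
      rw [← mul_assoc, ← cjU_mul, haj]
    rw [h1, horth' s hs k hk]
    split_ifs
    · rw [← cjU_mul, haj]
    · rw [mul_zero]
  refine ⟨a', ha', ?_, ⟨hia, hai⟩, ?_, htr'⟩
  · have := hmul 0 h.hp.pos 0 h.hp.pos
    rw [pow_zero, cjU_one', if_pos rfl] at this
    exact this
  · intro k hk l hl hkl
    rw [hmul k hk l hl, if_neg (Ne.symm hkl)]

end Cfsg.Agent.Lib.Helper8.BPS
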