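import Mathlib
import Cfsg.Agent.Lib.Helper8.BlockLocal

/-!
# Orbit sums modulo `𝔭` and sums over cosets

* `orbit_sum_congr` : for a `p`-group `H` acting on a finite set `Y` and an `H`-invariant function
  `φ` with values in `𝒪`, the sum of `φ` over `Y` is congruent modulo `𝔭` to the sum over the fixed
  points.
* `sum_eq_card_mul_sum_quotient` : the sum over `G` of a right-`H`-invariant function is `|H|` times
  the sum over representatives of `G ⧸ H`.
-/

set_option autoImplicit false

namespace Cfsg.Agent.Lib.Helper8.BPS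

open Cfsg Cfsg.Agent.Lib.Helper8

variable {M : Ideal AlgInt} {p : ℕ}

theorem orbit_sum_congr [hp : Fact p.Prime] (hM : IsPModular p M) {H : Type*} [Group H] [Fintype H]
    (hH : IsPGroup p H) {Y : Type*} [Fintype Y] [DecidableEq Y] (act : H → Y → Y)
    (h1 : ∀ y, act 1 y = y) (hmul : ∀ h h' y, act (h * h') y = act h (act h' y)) (φ : Y → ℂ)
    (hφ : ∀ h y, φ (act h y) = φ y) (hO : ∀ y, MemLocalRing M (φ y)) :
    MemLocalIdeal M (∑ y, φ y - ∑ y ∈ Finset.univ.filter (fun y => ∀ h, act h y = y), φ y) := by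
  classical
  have hMp := isPModular_isPrime hM
  let _ : MulAction H Y := { smul := act, one_smul := h1, mul_smul := hmul }
  have hsmul : ∀ (h : H) (y : Y), h • y = act h y := fun _ _ => rfl
  set ψ : Y → ℂ := fun y => if ∀ h, act h y = y then 0 else φ y with hψ
  have hψinv : ∀ (h : H) (y : Y), ψ (h • y) = ψ y := by
    intro h y
    have hiff : (∀ h', act h' (h • y) = h • y) ↔ ∀ h', act h' y = y := by
      constructor
      · intro hf h'
        have := hf (h * h' * h⁻¹)
        rw [hsmul, ← hmul, inv_mul_cancel_right, hmul] at this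
        have hinv : ∀ z, act h⁻¹ (act h z) = z := fun z => by rw [← hmul, inv_mul_cancel, h1]
        have h2 := congrArg (act h⁻¹) this
        rwa [hinv, hinv] at h2
      · intro hf h'
        rw [hsmul, hf h, hf h']
    simp only [hψ]
    rw [if_congr hiff rfl rfl, hsmul, hφ]
  have hsum : ∑ y, φ y - ∑ y ∈ Finset.univ.filter (fun y => ∀ h, act h y = y), φ y = ∑ y, ψ y := by
    rw [Finset.sum_filter, ← Finset.sum_sub_distrib]
    refine Finset.sum_congr rfl fun y _ => ?_
    simp only [hψ]
    split_ifs <;> simp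
  rw [hsum, ← Equiv.sum_comp (MulAction.selfEquivSigmaOrbits' H Y).symm, Fintype.sum_sigma]
  apply memLocalIdeal_sum hMp
  intro ω _
  -- `ψ` is constant on the orbit
  have hconst : ∀ y : ω.orbit, ψ ((MulAction.selfEquivSigmaOrbits' H Y).symm ⟨ω, y⟩) =
      ψ (Quotient.out ω) := by
    intro y
    have hy : (y : Y) ∈ MulAction.orbit H (Quotient.out ω) :=
      (Set.ext_iff.1 (MulAction.orbitRel.Quotient.orbit_eq_orbit_out ω Quotient.out_eq')
        (y : Y)).1 y.2
    obtain ⟨h, hh⟩ := hy
    have h3 : (MulAction.selfEquivSigmaOrbits' H Y).symm ⟨ω, y⟩ = (y : Y) := rfl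
    rw [h3, ← hh]
    exact hψinv h _
  rw [Finset.sum_congr rfl fun y _ => hconst y, Finset.sum_const, Finset.card_univ, nsmul_eq_mul]
  by_cases hfix : ∀ h, act h (Quotient.out ω) = Quotient.out ω
  · simp only [hψ]
    rw [if_pos hfix, mul_zero]
    exact memLocalIdeal_zero hMp.ne_top
  · simp only [hψ]
    rw [if_neg hfix]
    refine memLocalIdeal_mul_right hMp ?_ (hO _)
    -- the orbit has `p`-power size, not `1`
    have horb : ω.orbit = MulAction.orbit H (Quotient.out ω) :=
      MulAction.orbitRel.Quotient.orbit_eq_orbit_out ω Quotient.out_eq'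
    obtain ⟨n, hn⟩ := hH.card_orbit (Quotient.out ω)
    have hcard : Fintype.card ω.orbit = p ^ n := by
      rw [← Nat.card_eq_fintype_card, ← hn]
      exact Nat.card_congr (Equiv.setCongr horb)
    rw [hcard]
    have hn0 : n ≠ 0 := by
      intro h0
      apply hfix
      intro h
      have hone : Nat.card (MulAction.orbit H (Quotient.out ω)) = 1 := by rw [hn, h0, pow_zero]
      have hsub : Subsingleton (MulAction.orbit H (Quotient.out ω)) :=
        (Nat.card_eq_one_iff_unique.1 hone).1
      have h4 : (⟨h • Quotient.out ω, MulAction.mem_orbit _ h⟩ : MulAction.orbit H (Quotient.out ω)) =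
          ⟨Quotient.out ω, MulAction.mem_orbit_self _⟩ := Subsingleton.elim _ _
      exact congrArg Subtype.val h4
    obtain ⟨k, rfl⟩ := Nat.exists_eq_succ_of_ne_zero hn0
    rw [pow_succ]
    push_cast
    exact memLocalIdeal_mul_left hMp (memLocalRing_pow hMp (memLocalRing_natCast hMp.ne_top p) k)
      (memLocalIdeal_prime hM)

/-- the bijection `(G ⧸ H) × H ≃ G`, `(q, h) ↦ q.out * h` -/
noncomputable def quotProdEquiv {G : Type*} [Group G] (H : Subgroup G) : (G ⧸ H) × H ≃ G where
  toFun x := Quotient.out x.1 * (x.2 : G)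
  invFun g := ((g : G ⧸ H), ⟨(Quotient.out (g : G ⧸ H))⁻¹ * g,
    QuotientGroup.eq.1 (QuotientGroup.out_eq' _)⟩)
  left_inv := by
    rintro ⟨q, h⟩
    have h1 : ((Quotient.out q * (h : G) : G) : G ⧸ H) = q := by
      rw [QuotientGroup.mk_mul_of_mem _ h.2, QuotientGroup.out_eq']
    refine Prod.ext h1 (Subtype.ext ?_)
    show (Quotient.out ((Quotient.out q * (h : G) : G) : G ⧸ H))⁻¹ * (Quotient.out q * (h : G)) = h
    rw [h1, inv_mul_cancel_left]
  right_inv := by
    intro g
    show Quotient.out (g : G ⧸ H) * ((Quotient.out (g : G ⧸ H))⁻¹ * g) = g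
    rw [mul_inv_cancel_left]

/-- sums of right-invariant functions over a group -/
theorem sum_eq_card_mul_sum_quotient {G : Type*} [Group G] [Fintype G] (H : Subgroup G)
    [Fintype (G ⧸ H)] (f : G → ℂ) (hf : ∀ g : G, ∀ h ∈ H, f (g * h) = f g) :
    ∑ g, f g = (Nat.card H : ℂ) * ∑ q : G ⧸ H, f (Quotient.out q) := by
  classical
  have : Fintype H := Fintype.ofFinite _
  rw [← Equiv.sum_comp (quotProdEquiv H), Fintype.sum_prod_type]
  have h1 : ∀ (q : G ⧸ H) (h : H), f (quotProdEquiv H (q, h)) = f (Quotient.out q) := by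
    intro q h
    exact hf _ _ h.2
  simp_rw [h1]
  rw [Finset.mul_sum]
  refine Finset.sum_congr rfl fun q _ => ?_
  rw [Finset.sum_const, Finset.card_univ, nsmul_eq_mul, Nat.card_eq_fintype_card]

end Cfsg.Agent.Lib.Helper8.BPS
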