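import Mathlib
import Cfsg.Agent.Lib.Helper8.BPS4
import Cfsg.Agent.Lib.Helper8.BPS5

/-!
# The group algebra `ℂG`, the order `𝒪G`, fixed points of `p`-subgroups and the Brauer ideals

`GA G = MonoidAlgebra ℂ G`; `cj g x = g x g⁻¹`; `fixedRing M S = (𝒪G)^S`;
`PP M S = 𝔭 (𝒪G)^S`; `KBr M S` = the kernel of the Brauer map (the elements of `(𝒪G)^S` whose
coefficients on `C_G(S)` lie in `𝔭`).
-/

set_option autoImplicit false
set_option linter.unusedSectionVars false

namespace Cfsg.Agent.Lib.Helper8.BPS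

open Cfsg Cfsg.Agent.Lib.Helper8

variable {M : Ideal AlgInt} {p : ℕ} {G : Type*} [Group G] [Fintype G] [DecidableEq G]

/-- the complex group algebra -/
abbrev GA (G : Type*) [Group G] := MonoidAlgebra ℂ G

/-- group elements in the group algebra -/
noncomputable abbrev og (g : G) : GA G := MonoidAlgebra.of ℂ G g

theorem og_mul (g h : G) : og (g * h) = og g * og h := map_mul _ g h

theorem og_one : og (1 : G) = 1 := map_one _

theorem og_mul_inv (g : G) : og g * og g⁻¹ = 1 := by rw [← og_mul, mul_inv_cancel, og_one]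

theorem og_inv_mul (g : G) : og g⁻¹ * og g = 1 := by rw [← og_mul, inv_mul_cancel, og_one]

theorem coeff_og (g h : G) : (og g).coeff h = if g = h then 1 else 0 := by
  unfold og
  rw [MonoidAlgebra.of_apply, MonoidAlgebra.coeff_single, Finsupp.single_apply]

theorem coeff_og_mul (g : G) (x : GA G) (h : G) : (og g * x).coeff h = x.coeff (g⁻¹ * h) := by
  unfold og
  rw [MonoidAlgebra.of_apply, MonoidAlgebra.coeff_single_mul_apply, one_mul]

theorem coeff_mul_og (x : GA G) (g : G) (h : G) : (x * og g).coeff h = x.coeff (h * g⁻¹) := by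
  unfold og
  rw [MonoidAlgebra.of_apply, MonoidAlgebra.coeff_mul_single_apply, mul_one]

theorem coeff_mul (x y : GA G) (g : G) :
    (x * y).coeff g = ∑ h, x.coeff h * y.coeff (h⁻¹ * g) := by
  rw [MonoidAlgebra.coeff_mul_apply_left, Finsupp.sum_fintype]
  intro i
  rw [zero_mul]

theorem coeff_smul' (c : ℂ) (x : GA G) (g : G) : (c • x).coeff g = c * x.coeff g := by
  rw [MonoidAlgebra.coeff_smul_apply, smul_eq_mul]

theorem coeff_sum' {ι : Type*} (s : Finset ι) (f : ι → GA G) (g : G) :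
    (∑ i ∈ s, f i).coeff g = ∑ i ∈ s, (f i).coeff g := by
  rw [MonoidAlgebra.coeff_sum, Finsupp.coe_finsetSum, Finset.sum_apply]

theorem ga_ext {x y : GA G} (h : ∀ g, x.coeff g = y.coeff g) : x = y :=
  MonoidAlgebra.ext (Finsupp.ext h)

theorem eq_sum_coeff_og (x : GA G) : x = ∑ g, x.coeff g • og g := by
  apply ga_ext
  intro h
  rw [coeff_sum']
  simp_rw [coeff_smul', coeff_og]
  rw [Finset.sum_eq_single h]
  · rw [if_pos rfl, mul_one]
  · intro g _ hg
    rw [if_neg hg, mul_zero]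
  · intro hh
    exact absurd (Finset.mem_univ h) hh

/-! ### Conjugation -/

/-- conjugation by a group element -/
noncomputable def cj (g : G) (x : GA G) : GA G := og g * x * og g⁻¹

theorem cj_mul (g : G) (x y : GA G) : cj g (x * y) = cj g x * cj g y := by
  unfold cj
  calc og g * (x * y) * og g⁻¹ = og g * x * (og g⁻¹ * og g) * y * og g⁻¹ := by
        rw [og_inv_mul]; simp only [mul_assoc, mul_one]
    _ = og g * x * og g⁻¹ * (og g * y * og g⁻¹) := by simp only [mul_assoc]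

theorem cj_add (g : G) (x y : GA G) : cj g (x + y) = cj g x + cj g y := by
  unfold cj
  rw [mul_add, add_mul]

theorem cj_sub (g : G) (x y : GA G) : cj g (x - y) = cj g x - cj g y := by
  unfold cj
  rw [mul_sub, sub_mul]

theorem cj_neg (g : G) (x : GA G) : cj g (-x) = -cj g x := by
  unfold cj
  rw [mul_neg, neg_mul]

theorem cj_zero (g : G) : cj g (0 : GA G) = 0 := by
  unfold cj
  rw [mul_zero, zero_mul]

theorem cj_one (g : G) : cj g (1 : GA G) = 1 := by
  unfold cj
  rw [mul_one, og_mul_inv]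

theorem cj_smul (g : G) (c : ℂ) (x : GA G) : cj g (c • x) = c • cj g x := by
  unfold cj
  rw [mul_smul_comm, smul_mul_assoc]

theorem cj_sum (g : G) {ι : Type*} (s : Finset ι) (f : ι → GA G) :
    cj g (∑ i ∈ s, f i) = ∑ i ∈ s, cj g (f i) := by
  unfold cj
  rw [Finset.mul_sum, Finset.sum_mul]

theorem cj_cj (g h : G) (x : GA G) : cj g (cj h x) = cj (g * h) x := by
  unfold cj
  rw [og_mul, mul_inv_rev, og_mul]
  simp only [mul_assoc]

theorem cj_one' (x : GA G) : cj (1 : G) x = x := by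
  unfold cj
  rw [inv_one, og_one, one_mul, mul_one]

theorem cj_inv_cj (g : G) (x : GA G) : cj g⁻¹ (cj g x) = x := by
  rw [cj_cj, inv_mul_cancel, cj_one']

theorem cj_cj_inv (g : G) (x : GA G) : cj g (cj g⁻¹ x) = x := by
  rw [cj_cj, mul_inv_cancel, cj_one']

theorem cj_og (g h : G) : cj g (og h) = og (g * h * g⁻¹) := by
  unfold cj
  rw [og_mul, og_mul]

theorem cj_pow (g : G) (x : GA G) (n : ℕ) : cj g (x ^ n) = cj g x ^ n := by
  induction n with
  | zero => rw [pow_zero, pow_zero, cj_one]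
  | succ n ih => rw [pow_succ, pow_succ, cj_mul, ih]

theorem coeff_cj (g : G) (x : GA G) (h : G) : (cj g x).coeff h = x.coeff (g⁻¹ * h * g) := by
  unfold cj
  rw [coeff_mul_og, coeff_og_mul, inv_inv, mul_assoc]

theorem cj_eq_iff (g : G) (x : GA G) : cj g x = x ↔ og g * x = x * og g := by
  unfold cj
  constructor
  · intro h
    calc og g * x = og g * x * (og g⁻¹ * og g) := by rw [og_inv_mul, mul_one]
      _ = og g * x * og g⁻¹ * og g := by simp only [mul_assoc]
      _ = x * og g := by rw [h]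
  · intro h
    rw [h, mul_assoc, og_mul_inv, mul_one]

theorem cj_injective (g : G) : Function.Injective (cj g : GA G → GA G) := by
  intro x y h
  have := congrArg (cj g⁻¹) h
  rwa [cj_inv_cj, cj_inv_cj] at this

/-- the unit of the group algebra attached to a group element -/
noncomputable def ogUnit (g : G) : (GA G)ˣ := ⟨og g, og g⁻¹, og_mul_inv g, og_inv_mul g⟩

theorem cj_eq_unit (g : G) (x : GA G) :
    cj g x = ((ogUnit g : (GA G)ˣ) : GA G) * x * ((ogUnit g)⁻¹ : (GA G)ˣ) := rfl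

/-! ### The order `𝒪G` -/

theorem gaBasis_repr (x : GA G) (g : G) : (MonoidAlgebra.basis G ℂ).repr x g = x.coeff g := rfl

theorem isOrdBasis_ga (hM : M ≠ ⊤) : IsOrdBasis M (MonoidAlgebra.basis G ℂ) := by
  constructor
  · intro i
    rw [gaBasis_repr, ← og_one, coeff_og]
    split_ifs
    · exact memLocalRing_one hM
    · exact memLocalRing_zero hM
  · intro i j k
    rw [gaBasis_repr, MonoidAlgebra.basis_apply, MonoidAlgebra.basis_apply,
      MonoidAlgebra.single_mul_single, mul_one, MonoidAlgebra.coeff_single, Finsupp.single_apply]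
    split_ifs
    · exact memLocalRing_one hM
    · exact memLocalRing_zero hM

theorem mem_ordA_ga (x : GA G) :
    x ∈ ordA M (MonoidAlgebra.basis G ℂ) ↔ ∀ g, MemLocalRing M (x.coeff g) := Iff.rfl

theorem mem_ordP_ga (x : GA G) :
    x ∈ ordP M (MonoidAlgebra.basis G ℂ) ↔ ∀ g, MemLocalIdeal M (x.coeff g) := Iff.rfl

/-- `(𝒪G)^S` -/
def fixedRing (M : Ideal AlgInt) (hM : M.IsPrime) (S : Subgroup G) : Subring (GA G) where
  carrier := {x | (∀ g, MemLocalRing M (x.coeff g)) ∧ ∀ s ∈ S, cj s x = x}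
  mul_mem' := by
    intro a b ha hb
    refine ⟨(isOrdBasis_ga hM.ne_top).ordA_mul hM ha.1 hb.1, fun s hs => ?_⟩
    rw [cj_mul, ha.2 s hs, hb.2 s hs]
  one_mem' := ⟨(isOrdBasis_ga hM.ne_top).ordA_one, fun s _ => cj_one s⟩
  add_mem' := by
    intro a b ha hb
    refine ⟨ordA_add (B := MonoidAlgebra.basis G ℂ) hM ha.1 hb.1, fun s hs => ?_⟩
    rw [cj_add, ha.2 s hs, hb.2 s hs]
  zero_mem' := ⟨ordA_zero (B := MonoidAlgebra.basis G ℂ) hM.ne_top, fun s _ => cj_zero s⟩
  neg_mem' := by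
    intro a ha
    refine ⟨ordA_neg (B := MonoidAlgebra.basis G ℂ) ha.1, fun s hs => ?_⟩
    rw [cj_neg, ha.2 s hs]

theorem mem_fixedRing {hM : M.IsPrime} {S : Subgroup G} {x : GA G} :
    x ∈ fixedRing M hM S ↔ (∀ g, MemLocalRing M (x.coeff g)) ∧ ∀ s ∈ S, cj s x = x := Iff.rfl

theorem fixedRing_mono (hM : M.IsPrime) {S S' : Subgroup G} (h : S' ≤ S) :
    fixedRing M hM S ≤ fixedRing M hM S' :=
  fun _ hx => ⟨hx.1, fun s hs => hx.2 s (h hs)⟩

/-- `𝔭 (𝒪G)^S` -/
def PP (M : Ideal AlgInt) (hM : M.IsPrime) (S : Subgroup G) : Set (GA G) :=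
  {x | x ∈ fixedRing M hM S ∧ x ∈ ordP M (MonoidAlgebra.basis G ℂ)}

theorem mem_PP {hM : M.IsPrime} {S : Subgroup G} {x : GA G} :
    x ∈ PP M hM S ↔ x ∈ fixedRing M hM S ∧ ∀ g, MemLocalIdeal M (x.coeff g) := Iff.rfl

theorem smul_mem_fixedRing (hM : M.IsPrime) (S : Subgroup G) {c : ℂ} (hc : MemLocalRing M c)
    {x : GA G} (hx : x ∈ fixedRing M hM S) : c • x ∈ fixedRing M hM S :=
  ⟨ordA_smul (B := MonoidAlgebra.basis G ℂ) hM hc hx.1, fun s hs => by rw [cj_smul, hx.2 s hs]⟩

/-- **`((𝒪G)^S, 𝔭(𝒪G)^S)` is a Fitting pair over `𝒪`.** -/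
theorem fitScal_fixedRing (hM : M.IsPrime) (S : Subgroup G) :
    FitScal M (fixedRing M hM S) (PP M hM S) :=
  fitScal_of_order (isOrdBasis_ga hM.ne_top) hM (fixedRing M hM S) (fun _ ht => ht.1)
    (fun _ hc _ ht => smul_mem_fixedRing hM S hc ht)

theorem cj_mem_fixedRing (hM : M.IsPrime) {S : Subgroup G} (g : G) {x : GA G}
    (hx : x ∈ fixedRing M hM S) :
    cj g x ∈ fixedRing M hM (S.map (MulAut.conj g).toMonoidHom) := by
  refine ⟨fun h => ?_, ?_⟩
  · rw [coeff_cj]
    exact hx.1 _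
  · rintro _ ⟨s, hs, rfl⟩
    show cj (g * s * g⁻¹) (cj g x) = cj g x
    rw [cj_cj, inv_mul_cancel_right, ← cj_cj, hx.2 s hs]

/-- coefficients of a fixed element are constant on orbits -/
theorem coeff_conj_of_mem (hM : M.IsPrime) {S : Subgroup G} {x : GA G}
    (hx : x ∈ fixedRing M hM S) {s : G} (hs : s ∈ S) (g : G) :
    x.coeff (s * g * s⁻¹) = x.coeff g := by
  have h1 := hx.2 s⁻¹ (S.inv_mem hs)
  have h2 := congrArg (fun y => y.coeff g) h1
  simp only [coeff_cj, inv_inv] at h2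
  exact h2

end Cfsg.Agent.Lib.Helper8.BPS
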