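import Mathlib
import Cfsg.Agent.Lib.Helper8.BPS6

/-!
# The Brauer ideal `KBr S` and relative traces
-/

set_option autoImplicit false
set_option linter.unusedSectionVars false

namespace Cfsg.Agent.Lib.Helper8.BPS

open Cfsg Cfsg.Agent.Lib.Helper8

variable {M : Ideal AlgInt} {p : ℕ} {G : Type*} [Group G] [Fintype G] [DecidableEq G]

/-- the kernel of the Brauer map `(𝒪G)^S → k C_G(S)` -/
def KBr (M : Ideal AlgInt) (hM : M.IsPrime) (S : Subgroup G) : Set (GA G) :=
  {x | x ∈ fixedRing M hM S ∧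
    ∀ c ∈ Subgroup.centralizer (S : Set G), MemLocalIdeal M (x.coeff c)}

theorem PP_sub_KBr (hM : M.IsPrime) (S : Subgroup G) : PP M hM S ⊆ KBr M hM S :=
  fun _ hx => ⟨hx.1, fun c _ => hx.2 c⟩

theorem KBr_sub (hM : M.IsPrime) (S : Subgroup G) : KBr M hM S ⊆ fixedRing M hM S :=
  fun _ hx => hx.1

open Classical in
/-- **Multiplicativity of the Brauer map.** -/
theorem coeff_mul_congr [Fact p.Prime] (hM : IsPModular p M) (S : Subgroup G) (hS : IsPGroup p S)
    {x y : GA G} (hx : x ∈ fixedRing M (isPModular_isPrime hM) S)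
    (hy : y ∈ fixedRing M (isPModular_isPrime hM) S) {c : G}
    (hc : c ∈ Subgroup.centralizer (S : Set G)) :
    MemLocalIdeal M ((x * y).coeff c -
      ∑ g ∈ Finset.univ.filter (fun g => g ∈ Subgroup.centralizer (S : Set G)),
        x.coeff g * y.coeff (g⁻¹ * c)) := by
  have hMp := isPModular_isPrime hM
  have : Fintype S := Fintype.ofFinite _
  have key := orbit_sum_congr hM hS (fun (s : S) (g : G) => (s : G) * g * (s : G)⁻¹)
    (fun y => by simp) (fun h h' y => by simp only [Subgroup.coe_mul, mul_inv_rev, mul_assoc])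
    (fun g => x.coeff g * y.coeff (g⁻¹ * c))
    (by
      intro s g
      have h1 : ((s : G) * g * (s : G)⁻¹)⁻¹ * c = (s : G) * (g⁻¹ * c) * (s : G)⁻¹ := by
        have := (Subgroup.mem_centralizer_iff.1 hc) (s : G) s.2
        have h' : (s : G)⁻¹ * c = c * (s : G)⁻¹ := by
          rw [inv_mul_eq_iff_eq_mul, ← mul_assoc, this, mul_inv_cancel_right]
        simp only [mul_inv_rev, inv_inv, mul_assoc]
        rw [h']
      show x.coeff ((s : G) * g * (s : G)⁻¹) * y.coeff (((s : G) * g * (s : G)⁻¹)⁻¹ * c) = _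
      rw [h1, coeff_conj_of_mem hMp hx s.2, coeff_conj_of_mem hMp hy s.2])
    (fun g => memLocalRing_mul hMp (hx.1 _) (hy.1 _))
  rw [coeff_mul]
  have hfilter : (Finset.univ.filter fun g : G => ∀ s : S, (s : G) * g * (s : G)⁻¹ = g) =
      Finset.univ.filter fun g => g ∈ Subgroup.centralizer (S : Set G) := by
    ext g
    simp only [Finset.mem_filter, Finset.mem_univ, true_and, Subgroup.mem_centralizer_iff]
    constructor
    · intro h s hs
      have := h ⟨s, hs⟩
      simp only at this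
      rw [mul_inv_eq_iff_eq_mul] at this
      exact this
    · intro h s
      rw [mul_inv_eq_iff_eq_mul]
      exact h s s.2
  rw [hfilter] at key
  convert key using 3
  

/-- **The kernel of the Brauer map is an ideal.** -/
theorem KBr_isIdeal [Fact p.Prime] (hM : IsPModular p M) (S : Subgroup G) (hS : IsPGroup p S) :
    IsIdealOf (fixedRing M (isPModular_isPrime hM) S) (KBr M (isPModular_isPrime hM) S) := by
  classical
  have hMp := isPModular_isPrime hM
  refine ⟨KBr_sub hMp S, ⟨Subring.zero_mem _, fun c _ => ?_⟩, ?_, ?_, ?_⟩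
  · rw [MonoidAlgebra.coeff_zero, Finsupp.zero_apply]
    exact memLocalIdeal_zero hMp.ne_top
  · intro a ha b hb
    refine ⟨Subring.add_mem _ ha.1 hb.1, fun c hc => ?_⟩
    rw [MonoidAlgebra.coeff_add, Finsupp.add_apply]
    exact memLocalIdeal_add hMp (ha.2 c hc) (hb.2 c hc)
  · intro t ht a ha
    refine ⟨Subring.mul_mem _ ht ha.1, fun c hc => ?_⟩
    have h1 := coeff_mul_congr hM S hS ht ha.1 hc
    have h2 : MemLocalIdeal M (∑ g ∈ Finset.univ.filter
        (fun g => g ∈ Subgroup.centralizer (S : Set G)), t.coeff g * a.coeff (g⁻¹ * c)) := by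
      apply memLocalIdeal_sum hMp
      intro g hg
      rw [Finset.mem_filter] at hg
      exact memLocalIdeal_mul_left hMp (ht.1 g)
        (ha.2 _ (Subgroup.mul_mem _ (Subgroup.inv_mem _ hg.2) hc))
    have := memLocalIdeal_add hMp h1 h2
    rwa [sub_add_cancel] at this
  · intro t ht a ha
    refine ⟨Subring.mul_mem _ ha.1 ht, fun c hc => ?_⟩
    have h1 := coeff_mul_congr hM S hS ha.1 ht hc
    have h2 : MemLocalIdeal M (∑ g ∈ Finset.univ.filter
        (fun g => g ∈ Subgroup.centralizer (S : Set G)), a.coeff g * t.coeff (g⁻¹ * c)) := by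
      apply memLocalIdeal_sum hMp
      intro g hg
      rw [Finset.mem_filter] at hg
      exact memLocalIdeal_mul_right hMp (ha.2 _ hg.2) (ht.1 _)
    have := memLocalIdeal_add hMp h1 h2
    rwa [sub_add_cancel] at this

/-! ### Relative traces -/

open Classical in
/-- the sum over a subgroup -/
noncomputable def sgSum (S : Subgroup G) (F : G → GA G) : GA G := ∑ t : G, if t ∈ S then F t else 0

theorem sgSum_mul_left (S : Subgroup G) {s : G} (hs : s ∈ S) (F : G → GA G) :
    sgSum S (fun t => F (s * t)) = sgSum S F := by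
  classical
  unfold sgSum
  rw [← Equiv.sum_comp (Equiv.mulLeft s) (fun t => if t ∈ S then F t else 0)]
  refine Finset.sum_congr rfl fun t _ => ?_
  have : s * t ∈ S ↔ t ∈ S := Subgroup.mul_mem_cancel_left S hs
  show (if t ∈ S then F (s * t) else 0) = if (Equiv.mulLeft s) t ∈ S then F ((Equiv.mulLeft s) t) else 0
  by_cases ht : t ∈ S
  · rw [if_pos ht, if_pos (by exact this.2 ht)]
    rfl
  · rw [if_neg ht, if_neg (by exact mt this.1 ht)]

theorem sgSum_mul_right (S : Subgroup G) {s : G} (hs : s ∈ S) (F : G → GA G) :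
    sgSum S (fun t => F (t * s)) = sgSum S F := by
  classical
  unfold sgSum
  rw [← Equiv.sum_comp (Equiv.mulRight s) (fun t => if t ∈ S then F t else 0)]
  refine Finset.sum_congr rfl fun t _ => ?_
  have : t * s ∈ S ↔ t ∈ S := Subgroup.mul_mem_cancel_right S hs
  show (if t ∈ S then F (t * s) else 0) = if (Equiv.mulRight s) t ∈ S then F ((Equiv.mulRight s) t) else 0
  by_cases ht : t ∈ S
  · rw [if_pos ht, if_pos (by exact this.2 ht)]
    rfl
  · rw [if_neg ht, if_neg (by exact mt this.1 ht)]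

theorem sgSum_congr (S : Subgroup G) {F F' : G → GA G} (h : ∀ t ∈ S, F t = F' t) :
    sgSum S F = sgSum S F' := by
  classical
  unfold sgSum
  refine Finset.sum_congr rfl fun t _ => ?_
  split_ifs with ht
  · exact h t ht
  · rfl

theorem sgSum_const (S : Subgroup G) (x : GA G) : sgSum S (fun _ => x) = (Nat.card S : ℂ) • x := by
  classical
  unfold sgSum
  rw [← Finset.sum_filter, Finset.sum_const, Nat.card_eq_fintype_card, Fintype.card_subtype]
  rw [← Nat.cast_smul_eq_nsmul ℂ]

theorem sgSum_smul (S : Subgroup G) (c : ℂ) (F : G → GA G) :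
    sgSum S (fun t => c • F t) = c • sgSum S F := by
  classical
  unfold sgSum
  rw [Finset.smul_sum]
  refine Finset.sum_congr rfl fun t _ => ?_
  split_ifs
  · rfl
  · rw [smul_zero]

theorem mul_sgSum (S : Subgroup G) (y : GA G) (F : G → GA G) :
    y * sgSum S F = sgSum S (fun t => y * F t) := by
  classical
  unfold sgSum
  rw [Finset.mul_sum]
  refine Finset.sum_congr rfl fun t _ => ?_
  split_ifs
  · rfl
  · rw [mul_zero]

theorem sgSum_mul (S : Subgroup G) (y : GA G) (F : G → GA G) :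
    sgSum S F * y = sgSum S (fun t => F t * y) := by
  classical
  unfold sgSum
  rw [Finset.sum_mul]
  refine Finset.sum_congr rfl fun t _ => ?_
  split_ifs
  · rfl
  · rw [zero_mul]

theorem cj_sgSum (S : Subgroup G) (g : G) (F : G → GA G) :
    cj g (sgSum S F) = sgSum S (fun t => cj g (F t)) := by
  classical
  unfold sgSum
  rw [cj_sum]
  refine Finset.sum_congr rfl fun t _ => ?_
  split_ifs
  · rfl
  · rw [cj_zero]

theorem sgSum_sgSum_comm (S S' : Subgroup G) (F : G → G → GA G) :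
    sgSum S (fun t => sgSum S' (fun t' => F t t')) = sgSum S' (fun t' => sgSum S (fun t => F t t')) := by
  classical
  unfold sgSum
  have h1 : ∀ t : G, (if t ∈ S then ∑ t' : G, (if t' ∈ S' then F t t' else 0) else 0) =
      ∑ t' : G, if t ∈ S then (if t' ∈ S' then F t t' else 0) else 0 := by
    intro t
    split_ifs
    · rfl
    · rw [Finset.sum_const_zero]
  have h2 : ∀ t' : G, (if t' ∈ S' then ∑ t : G, (if t ∈ S then F t t' else 0) else 0) =
      ∑ t : G, if t ∈ S then (if t' ∈ S' then F t t' else 0) else 0 := by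
    intro t'
    split_ifs
    · rfl
    · simp
  simp_rw [h1, h2]
  exact Finset.sum_comm

open Classical in
theorem coeff_sgSum (S : Subgroup G) (F : G → GA G) (g : G) :
    (sgSum S F).coeff g = ∑ t : G, if t ∈ S then (F t).coeff g else 0 := by
  unfold sgSum
  rw [coeff_sum']
  refine Finset.sum_congr rfl fun t _ => ?_
  split_ifs
  · rfl
  · rw [MonoidAlgebra.coeff_zero, Finsupp.zero_apply]

/-- the relative trace `Tr_{S'}^S` (defined on all of `ℂG` by averaging) -/
noncomputable def rtr (S' S : Subgroup G) (x : GA G) : GA G :=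
  (Nat.card S' : ℂ)⁻¹ • sgSum S (fun t => cj t x)

theorem cj_rtr (S' S : Subgroup G) {s : G} (hs : s ∈ S) (x : GA G) :
    cj s (rtr S' S x) = rtr S' S x := by
  unfold rtr
  rw [cj_smul, cj_sgSum]
  congr 1
  have h1 : (fun t => cj s (cj t x)) = fun t => (fun t' => cj t' x) (s * t) := by
    funext t
    rw [cj_cj]
  rw [h1]
  exact sgSum_mul_left S hs (fun t' => cj t' x)

theorem mul_rtr (S' S : Subgroup G) {y : GA G} (hy : ∀ s ∈ S, cj s y = y) (x : GA G) :
    y * rtr S' S x = rtr S' S (y * x) := by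
  unfold rtr
  rw [mul_smul_comm, mul_sgSum]
  congr 1
  apply sgSum_congr
  intro t ht
  rw [cj_mul, hy t ht]

theorem rtr_mul (S' S : Subgroup G) {y : GA G} (hy : ∀ s ∈ S, cj s y = y) (x : GA G) :
    rtr S' S x * y = rtr S' S (x * y) := by
  unfold rtr
  rw [smul_mul_assoc, sgSum_mul]
  congr 1
  apply sgSum_congr
  intro t ht
  rw [cj_mul, hy t ht]

theorem rtr_add (S' S : Subgroup G) (x y : GA G) : rtr S' S (x + y) = rtr S' S x + rtr S' S y := by
  classical
  unfold rtr sgSum
  rw [← smul_add, ← Finset.sum_add_distrib]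
  congr 1
  refine Finset.sum_congr rfl fun t _ => ?_
  split_ifs
  · exact cj_add t x y
  · rw [add_zero]

theorem rtr_zero (S' S : Subgroup G) : rtr S' S (0 : GA G) = 0 := by
  classical
  unfold rtr sgSum
  simp [cj_zero]

theorem rtr_smul (S' S : Subgroup G) (c : ℂ) (x : GA G) : rtr S' S (c • x) = c • rtr S' S x := by
  unfold rtr
  rw [smul_comm]
  congr 1
  rw [← sgSum_smul]
  apply sgSum_congr
  intro t _
  rw [cj_smul]

theorem rtr_of_fixed (S' S : Subgroup G) {x : GA G} (hx : ∀ s ∈ S, cj s x = x) :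
    rtr S' S x = ((Nat.card S' : ℂ)⁻¹ * (Nat.card S : ℂ)) • x := by
  unfold rtr
  rw [sgSum_congr S (F' := fun _ => x) hx, sgSum_const, smul_smul]

/-- transitivity of relative traces -/
theorem rtr_rtr (S'' S' S : Subgroup G) (h : S' ≤ S) (x : GA G) :
    rtr S' S (rtr S'' S' x) = rtr S'' S x := by
  unfold rtr
  have hcard : (Nat.card S' : ℂ) ≠ 0 := by
    have : 0 < Nat.card S' := Nat.card_pos
    exact_mod_cast this.ne'
  have h1 : ∀ t : G, cj t ((Nat.card S'' : ℂ)⁻¹ • sgSum S' (fun t' => cj t' x)) =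
      (Nat.card S'' : ℂ)⁻¹ • sgSum S' (fun t' => cj (t * t') x) := by
    intro t
    rw [cj_smul, cj_sgSum]
    congr 1
    apply sgSum_congr
    intro t' _
    rw [cj_cj]
  simp_rw [h1]
  rw [sgSum_smul, sgSum_sgSum_comm]
  have h2 : ∀ t' ∈ S', sgSum S (fun t => cj (t * t') x) = sgSum S (fun t => cj t x) := by
    intro t' ht'
    exact sgSum_mul_right S (h ht') (fun t => cj t x)
  rw [sgSum_congr S' (F' := fun _ => sgSum S (fun t => cj t x)) h2, sgSum_const, smul_smul,
    smul_smul]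
  congr 1
  field_simp

open Classical in
theorem coeff_rtr (S' S : Subgroup G) (x : GA G) (g : G) :
    (rtr S' S x).coeff g =
      (Nat.card S' : ℂ)⁻¹ * ∑ t : G, if t ∈ S then x.coeff (t⁻¹ * g * t) else 0 := by
  unfold rtr
  rw [coeff_smul', coeff_sgSum]
  congr 1
  refine Finset.sum_congr rfl fun t _ => ?_
  split_ifs
  · rw [coeff_cj]
  · rfl

/-- **Integrality of the relative trace.** -/
theorem rtr_mem_fixedRing (hM : M.IsPrime) {S' S : Subgroup G} (h : S' ≤ S) {x : GA G}
    (hx : x ∈ fixedRing M hM S') : rtr S' S x ∈ fixedRing M hM S := by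
  classical
  refine ⟨fun g => ?_, fun s hs => cj_rtr S' S hs x⟩
  rw [coeff_rtr]
  have : Fintype (G ⧸ S') := Fintype.ofFinite _
  have h1 := sum_eq_card_mul_sum_quotient S'
    (fun t : G => if t ∈ S then x.coeff (t⁻¹ * g * t) else 0) (by
      intro t s hs
      have h2 : t * s ∈ S ↔ t ∈ S := Subgroup.mul_mem_cancel_right S (h hs)
      rw [if_congr h2 rfl rfl]
      have h3 : (t * s)⁻¹ * g * (t * s) = s⁻¹ * (t⁻¹ * g * t) * s⁻¹⁻¹ := by
        simp only [mul_inv_rev, inv_inv, mul_assoc]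
      rw [h3, coeff_conj_of_mem hM hx (S'.inv_mem hs)])
  have hcard : (Nat.card S' : ℂ) ≠ 0 := by
    have : 0 < Nat.card S' := Nat.card_pos
    exact_mod_cast this.ne'
  rw [h1, ← mul_assoc, inv_mul_cancel₀ hcard, one_mul]
  apply memLocalRing_sum hM
  intro q _
  split_ifs
  · exact hx.1 _
  · exact memLocalRing_zero hM.ne_top

/-- the trace ideal `Tr_{S'}^S((𝒪G)^{S'})` -/
def trIdeal (M : Ideal AlgInt) (hM : M.IsPrime) (S' S : Subgroup G) : Set (GA G) :=
  {y | ∃ x ∈ fixedRing M hM S', y = rtr S' S x}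

theorem trIdeal_isIdeal (hM : M.IsPrime) {S' S : Subgroup G} (h : S' ≤ S) :
    IsIdealOf (fixedRing M hM S) (trIdeal M hM S' S) := by
  refine ⟨?_, ⟨0, Subring.zero_mem _, (rtr_zero S' S).symm⟩, ?_, ?_, ?_⟩
  · rintro _ ⟨x, hx, rfl⟩
    exact rtr_mem_fixedRing hM h hx
  · rintro _ ⟨x, hx, rfl⟩ _ ⟨y, hy, rfl⟩
    exact ⟨x + y, Subring.add_mem _ hx hy, (rtr_add S' S x y).symm⟩
  · rintro t ht _ ⟨x, hx, rfl⟩
    exact ⟨t * x, Subring.mul_mem _ (fixedRing_mono hM h ht) hx, mul_rtr S' S ht.2 x⟩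
  · rintro t ht _ ⟨x, hx, rfl⟩
    exact ⟨x * t, Subring.mul_mem _ hx (fixedRing_mono hM h ht), rtr_mul S' S ht.2 x⟩

theorem trIdeal_mono (hM : M.IsPrime) {S'' S' S : Subgroup G} (h' : S'' ≤ S') (h : S' ≤ S) :
    trIdeal M hM S'' S ⊆ trIdeal M hM S' S := by
  rintro _ ⟨x, hx, rfl⟩
  exact ⟨rtr S'' S' x, rtr_mem_fixedRing hM h' hx, (rtr_rtr S'' S' S h x).symm⟩

/-- a proper trace ideal lies in the Brauer kernel -/
theorem trIdeal_sub_KBr [hp : Fact p.Prime] (hM : IsPModular p M) {S' S : Subgroup G}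
    (hS : IsPGroup p S) (h : S' ≤ S) (hne : S' ≠ S) :
    trIdeal M (isPModular_isPrime hM) S' S ⊆ KBr M (isPModular_isPrime hM) S := by
  classical
  have hMp := isPModular_isPrime hM
  rintro _ ⟨x, hx, rfl⟩
  refine ⟨rtr_mem_fixedRing hMp h hx, fun c hc => ?_⟩
  rw [coeff_rtr]
  have h1 : ∀ t : G, (if t ∈ S then x.coeff (t⁻¹ * c * t) else 0) =
      if t ∈ S then x.coeff c else 0 := by
    intro t
    split_ifs with ht
    · have := (Subgroup.mem_centralizer_iff.1 hc) t ht
      rw [mul_assoc, ← this, inv_mul_cancel_left]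
    · rfl
  simp_rw [h1]
  rw [← Finset.sum_filter, Finset.sum_const, nsmul_eq_mul, ← mul_assoc]
  have h2 : (Finset.univ.filter fun t : G => t ∈ S).card = Nat.card S := by
    rw [Nat.card_eq_fintype_card, Fintype.card_subtype]
  rw [h2]
  obtain ⟨d, hd⟩ := Subgroup.card_dvd_of_le h
  have hcard : (Nat.card S' : ℂ) ≠ 0 := by
    have : 0 < Nat.card S' := Nat.card_pos
    exact_mod_cast this.ne'
  rw [hd]
  push_cast
  rw [← mul_assoc, inv_mul_cancel₀ hcard, one_mul]
  refine memLocalIdeal_mul_right hMp ?_ (hx.1 c)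
  -- `d` is a nontrivial power of `p`
  obtain ⟨n, hn⟩ := IsPGroup.exists_card_eq hS
  have hdd : d ∣ p ^ n := ⟨Nat.card S', by rw [← hn, hd, mul_comm]⟩
  obtain ⟨k, -, hk⟩ := (Nat.dvd_prime_pow hp.out).1 hdd
  have hk0 : k ≠ 0 := by
    intro h0
    rw [h0, pow_zero] at hk
    rw [hk, mul_one] at hd
    exact hne (Subgroup.eq_of_le_of_card_ge h hd.le)
  obtain ⟨k', rfl⟩ := Nat.exists_eq_succ_of_ne_zero hk0
  rw [hk, pow_succ]
  push_cast
  exact memLocalIdeal_mul_left hMp (memLocalRing_pow hMp (memLocalRing_natCast hMp.ne_top p) k')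
    (memLocalIdeal_prime hM)

end Cfsg.Agent.Lib.Helper8.BPS
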