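import Mathlib
import Cfsg.Agent.Lib.Helper8.BPS7

/-!
# Sums over cosets modulo `𝔭`; the Brauer map of a relative trace
-/

set_option autoImplicit false
set_option linter.unusedSectionVars false

namespace Cfsg.Agent.Lib.Helper8.BPS

open Cfsg Cfsg.Agent.Lib.Helper8

variable {M : Ideal AlgInt} {p : ℕ} {G : Type*} [Group G] [Fintype G] [DecidableEq G]

/-- **Coset orbit sums.**  `f` is left `H`-invariant (`H` a `p`-group), right `R`-invariant and
vanishes at the `x` whose coset `xR` is `H`-stable: then `|R|⁻¹ ∑ f ∈ 𝔭`. -/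
theorem coset_orbit_sum [Fact p.Prime] (hM : IsPModular p M) (H R : Subgroup G) (hH : IsPGroup p H)
    (f : G → ℂ) (hO : ∀ x, MemLocalRing M (f x)) (hl : ∀ h ∈ H, ∀ x, f (h * x) = f x)
    (hr : ∀ x, ∀ r ∈ R, f (x * r) = f x)
    (hfix : ∀ x, (∀ h ∈ H, x⁻¹ * h * x ∈ R) → f x = 0) :
    MemLocalIdeal M ((Nat.card R : ℂ)⁻¹ * ∑ x, f x) := by
  classical
  have hMp := isPModular_isPrime hM
  have : Fintype (G ⧸ R) := Fintype.ofFinite _
  have : Fintype H := Fintype.ofFinite _
  have hcard : (Nat.card R : ℂ) ≠ 0 := by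
    have : 0 < Nat.card R := Nat.card_pos
    exact_mod_cast this.ne'
  rw [sum_eq_card_mul_sum_quotient R f hr, ← mul_assoc, inv_mul_cancel₀ hcard, one_mul]
  -- the function on the cosets
  have hout : ∀ (h : H) (q : G ⧸ R), f (Quotient.out ((h : G) • q)) = f (Quotient.out q) := by
    intro h q
    have h1 : ((Quotient.out ((h : G) • q) : G) : G ⧸ R) = (((h : G) * Quotient.out q : G) : G ⧸ R) := by
      rw [QuotientGroup.out_eq']
      conv_lhs => rw [← QuotientGroup.out_eq' q]
      rfl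
    have h2 := QuotientGroup.eq.1 h1.symm
    have h3 : Quotient.out ((h : G) • q) =
        (h : G) * Quotient.out q * (((h : G) * Quotient.out q)⁻¹ * Quotient.out ((h : G) • q)) := by
      rw [mul_inv_cancel_left]
    rw [h3, hr _ _ h2, hl _ h.2]
  have key := orbit_sum_congr hM hH (fun (h : H) (q : G ⧸ R) => (h : G) • q)
    (fun q => one_smul G q) (fun h h' q => by simp only [Subgroup.coe_mul, mul_smul])
    (fun q => f (Quotient.out q)) hout (fun q => hO _)
  have hzero : ∑ q ∈ Finset.univ.filter (fun q : G ⧸ R => ∀ h : H, (h : G) • q = q),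
      f (Quotient.out q) = 0 := by
    apply Finset.sum_eq_zero
    intro q hq
    rw [Finset.mem_filter] at hq
    apply hfix
    intro h hh
    have h1 := hq.2 ⟨h⁻¹, H.inv_mem hh⟩
    have h2 : ((h⁻¹ * Quotient.out q : G) : G ⧸ R) = ((Quotient.out q : G) : G ⧸ R) := by
      have e : ((h⁻¹ * Quotient.out q : G) : G ⧸ R) =
          (h⁻¹ : G) • ((Quotient.out q : G) : G ⧸ R) := rfl
      rw [e, QuotientGroup.out_eq']
      exact h1
    have h3 := QuotientGroup.eq.1 h2
    simp only [mul_inv_rev, inv_inv] at h3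
    exact h3
  rw [hzero, sub_zero] at key
  exact key

/-- **The Brauer map of a relative trace**: for `x ∈ (𝒪G)^S`, `S ≤ R'` and `c ∈ C_G(S)`, the
contribution of the `y ∈ R'` outside the normalizer of `S` to the coefficient at `c` of
`Tr_S^{R'}(x)` lies in `𝔭`. -/
theorem coeff_rtr_outside [Fact p.Prime] (hM : IsPModular p M) {S R' : Subgroup G}
    (hS : IsPGroup p S) (hSR : S ≤ R') {x : GA G}
    (hx : x ∈ fixedRing M (isPModular_isPrime hM) S)
    {c : G} (hc : c ∈ Subgroup.centralizer (S : Set G)) :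
    MemLocalIdeal M ((Nat.card S : ℂ)⁻¹ * ∑ y : G,
      (open Classical in if y ∈ R' ∧ y ∉ Subgroup.normalizer (S : Set G)
        then x.coeff (y⁻¹ * c * y) else 0)) := by
  classical
  have hMp := isPModular_isPrime hM
  have hSN : S ≤ Subgroup.normalizer (S : Set G) := Subgroup.le_normalizer
  apply coset_orbit_sum hM S S hS
  · intro y
    split_ifs
    · exact hx.1 _
    · exact memLocalRing_zero hMp.ne_top
  · intro s hs y
    have h1 : (s * y ∈ R' ∧ s * y ∉ Subgroup.normalizer (S : Set G)) ↔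
        (y ∈ R' ∧ y ∉ Subgroup.normalizer (S : Set G)) := by
      rw [Subgroup.mul_mem_cancel_left R' (hSR hs),
        Subgroup.mul_mem_cancel_left (Subgroup.normalizer (S : Set G)) (hSN hs)]
    rw [if_congr h1 rfl rfl]
    have h2 : (s * y)⁻¹ * c * (s * y) = y⁻¹ * c * y := by
      have := (Subgroup.mem_centralizer_iff.1 hc) s hs
      calc (s * y)⁻¹ * c * (s * y) = y⁻¹ * (s⁻¹ * (c * s)) * y := by
            simp only [mul_inv_rev, mul_assoc]
        _ = y⁻¹ * c * y := by rw [← this, inv_mul_cancel_left]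
    rw [h2]
  · intro y s hs
    have h1 : (y * s ∈ R' ∧ y * s ∉ Subgroup.normalizer (S : Set G)) ↔
        (y ∈ R' ∧ y ∉ Subgroup.normalizer (S : Set G)) := by
      rw [Subgroup.mul_mem_cancel_right R' (hSR hs),
        Subgroup.mul_mem_cancel_right (Subgroup.normalizer (S : Set G)) (hSN hs)]
    rw [if_congr h1 rfl rfl]
    have h2 : (y * s)⁻¹ * c * (y * s) = s⁻¹ * (y⁻¹ * c * y) * s⁻¹⁻¹ := by
      simp only [mul_inv_rev, inv_inv, mul_assoc]
    rw [h2, coeff_conj_of_mem hMp hx (S.inv_mem hs)]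
  · intro y hy
    have hyN : y⁻¹ ∈ Subgroup.normalizer (S : Set G) := by
      apply Subgroup.mem_normalizer_fintype
      intro n hn
      rw [inv_inv]
      exact hy n hn
    have hyN' : y ∈ Subgroup.normalizer (S : Set G) := by
      have := Subgroup.inv_mem _ hyN
      rwa [inv_inv] at this
    rw [if_neg]
    rintro ⟨-, h⟩
    exact h hyN'

end Cfsg.Agent.Lib.Helper8.BPS
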