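import Mathlib
import Cfsg.Agent.Lib.Helper8.BPS11

/-!
# Orbit sums: a primitive idempotent in the Brauer kernel is a proper relative trace
-/

set_option autoImplicit false
set_option linter.unusedSectionVars false

namespace Cfsg.Agent.Lib.Helper8.BPS

open Cfsg Cfsg.Agent.Lib.Helper8

variable {M : Ideal AlgInt} {p : ℕ} {G : Type*} [Group G] [Fintype G] [DecidableEq G]

/-- the stabilizer of `g` in `S` for the conjugation action -/
def cstab (S : Subgroup G) (g : G) : Subgroup G := S ⊓ Subgroup.centralizer {g}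

theorem mem_cstab {S : Subgroup G} {g s : G} : s ∈ cstab S g ↔ s ∈ S ∧ s * g = g * s := by
  unfold cstab
  rw [Subgroup.mem_inf, Subgroup.mem_centralizer_singleton_iff]

theorem cstab_le (S : Subgroup G) (g : G) : cstab S g ≤ S := inf_le_left

theorem cstab_eq_iff (S : Subgroup G) (g : G) :
    cstab S g = S ↔ g ∈ Subgroup.centralizer (S : Set G) := by
  constructor
  · intro h
    rw [Subgroup.mem_centralizer_iff]
    intro s hs
    have : s ∈ cstab S g := by rw [h]; exact hs
    exact (mem_cstab.1 this).2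
  · intro h
    apply le_antisymm (cstab_le S g)
    intro s hs
    exact mem_cstab.2 ⟨hs, (Subgroup.mem_centralizer_iff.1 h) s hs⟩

/-- the conjugacy relation under `S` -/
def conjRel (S : Subgroup G) : Setoid G where
  r g h := ∃ s ∈ S, s * g * s⁻¹ = h
  iseqv := by
    refine ⟨fun g => ⟨1, S.one_mem, by simp⟩, ?_, ?_⟩
    · rintro g h ⟨s, hs, rfl⟩
      exact ⟨s⁻¹, S.inv_mem hs, by group⟩
    · rintro g h k ⟨s, hs, rfl⟩ ⟨t, ht, rfl⟩
      exact ⟨t * s, S.mul_mem ht hs, by group⟩

/-- the chosen representative of the orbit of `g` -/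
noncomputable def orep (S : Subgroup G) (g : G) : G := (Quotient.mk (conjRel S) g).out

theorem orep_rel (S : Subgroup G) (g : G) : ∃ s ∈ S, s * orep S g * s⁻¹ = g :=
  Quotient.exact (Quotient.out_eq (Quotient.mk (conjRel S) g))

theorem orep_eq_of_rel (S : Subgroup G) {g h : G} (hr : ∃ s ∈ S, s * g * s⁻¹ = h) :
    orep S g = orep S h := by
  unfold orep
  have : Quotient.mk (conjRel S) g = Quotient.mk (conjRel S) h := Quotient.sound hr
  rw [this]

theorem orep_orep (S : Subgroup G) (g : G) : orep S (orep S g) = orep S g :=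
  orep_eq_of_rel S (orep_rel S g)

/-- the coefficients of the orbit sum `Tr_{C_S(g)}^S(g)` -/
theorem coeff_rtr_og (S : Subgroup G) (g h : G) :
    (rtr (cstab S g) S (og g)).coeff h =
      (open Classical in if ∃ s ∈ S, s * g * s⁻¹ = h then 1 else 0) := by
  classical
  rw [coeff_rtr]
  have h1 : ∀ t : G, (if t ∈ S then (og g).coeff (t⁻¹ * h * t) else 0) =
      if t ∈ S ∧ t * g * t⁻¹ = h then (1 : ℂ) else 0 := by
    intro t
    by_cases ht : t ∈ S
    · rw [if_pos ht, coeff_og]
      have : g = t⁻¹ * h * t ↔ (t ∈ S ∧ t * g * t⁻¹ = h) := by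
        constructor
        · intro hg
          refine ⟨ht, ?_⟩
          rw [hg]
          group
        · rintro ⟨-, rfl⟩
          group
      rw [if_congr this rfl rfl]
    · rw [if_neg ht, if_neg (fun hh => ht hh.1)]
  simp_rw [h1]
  rw [← Finset.sum_filter, Finset.sum_const, nsmul_eq_mul, mul_one]
  have hcard : (Nat.card (cstab S g) : ℂ) ≠ 0 := by
    have : 0 < Nat.card (cstab S g) := Nat.card_pos
    exact_mod_cast this.ne'
  split_ifs with hex
  · obtain ⟨s₀, hs₀, rfl⟩ := hex
    have h2 : (Finset.univ.filter fun t : G => t ∈ S ∧ t * g * t⁻¹ = s₀ * g * s₀⁻¹) =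
        (Finset.univ.filter fun c : G => c ∈ cstab S g).image (fun c => s₀ * c) := by
      ext t
      simp only [Finset.mem_filter, Finset.mem_univ, true_and, Finset.mem_image]
      constructor
      · rintro ⟨ht, hth⟩
        refine ⟨s₀⁻¹ * t, mem_cstab.2 ⟨S.mul_mem (S.inv_mem hs₀) ht, ?_⟩, by group⟩
        have : t * g = s₀ * g * s₀⁻¹ * t := by rw [← hth]; group
        calc s₀⁻¹ * t * g = s₀⁻¹ * (t * g) := by group
          _ = s₀⁻¹ * (s₀ * g * s₀⁻¹ * t) := by rw [this]
          _ = g * (s₀⁻¹ * t) := by group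
      · rintro ⟨c, hc, rfl⟩
        obtain ⟨hcS, hcg⟩ := mem_cstab.1 hc
        refine ⟨S.mul_mem hs₀ hcS, ?_⟩
        calc s₀ * c * g * (s₀ * c)⁻¹ = s₀ * (c * g) * c⁻¹ * s₀⁻¹ := by group
          _ = s₀ * (g * c) * c⁻¹ * s₀⁻¹ := by rw [hcg]
          _ = s₀ * g * s₀⁻¹ := by group
    rw [h2, Finset.card_image_of_injective _ (mul_right_injective s₀)]
    have h3 : (Finset.univ.filter fun c : G => c ∈ cstab S g).card = Nat.card (cstab S g) := by
      rw [Nat.card_eq_fintype_card, Fintype.card_subtype]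
    rw [h3, inv_mul_cancel₀ hcard]
  · have h2 : (Finset.univ.filter fun t : G => t ∈ S ∧ t * g * t⁻¹ = h) = ∅ := by
      rw [Finset.filter_eq_empty_iff]
      intro t _ hth
      exact hex ⟨t, hth.1, hth.2⟩
    rw [h2, Finset.card_empty, Nat.cast_zero, mul_zero]

open Classical in
/-- **Expansion into orbit sums.** -/
theorem eq_sum_orbit_sums (hM : M.IsPrime) {S : Subgroup G} {x : GA G}
    (hx : x ∈ fixedRing M hM S) :
    x = ∑ g ∈ Finset.univ.filter (fun g => orep S g = g),
      x.coeff g • rtr (cstab S g) S (og g) := by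
  apply ga_ext
  intro h
  rw [coeff_sum']
  simp_rw [coeff_smul', coeff_rtr_og]
  rw [Finset.sum_eq_single (orep S h)]
  · obtain ⟨s, hs, hsh⟩ := orep_rel S h
    have h1 : x.coeff h = x.coeff (orep S h) := by
      conv_lhs => rw [← hsh]
      exact coeff_conj_of_mem hM hx hs _
    rw [if_pos ⟨s, hs, hsh⟩, mul_one, h1]
  · intro g hg hne
    rw [Finset.mem_filter] at hg
    rw [if_neg, mul_zero]
    intro hex
    apply hne
    rw [← hg.2]
    exact orep_eq_of_rel S hex
  · intro hh
    exfalso
    apply hh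
    rw [Finset.mem_filter]
    exact ⟨Finset.mem_univ _, orep_orep S h⟩

theorem PP_isIdeal (hM : M.IsPrime) (S : Subgroup G) :
    IsIdealOf (fixedRing M hM S) (PP M hM S) := by
  have h := (fitScal_fixedRing hM S).toFitSub
  exact ⟨h.P_sub, h.P_zero, h.P_add, h.P_mul_left, h.P_mul_right⟩

theorem og_mem_fixedRing (hM : M.IsPrime) {S : Subgroup G} {g : G}
    (hg : ∀ s ∈ S, s * g = g * s) : og g ∈ fixedRing M hM S := by
  refine ⟨fun h => ?_, fun s hs => ?_⟩
  · rw [coeff_og]
    split_ifs
    · exact memLocalRing_one hM.ne_top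
    · exact memLocalRing_zero hM.ne_top
  · rw [cj_og, hg s hs, mul_inv_cancel_right]

/-- **A primitive idempotent in the Brauer kernel is a relative trace from a proper subgroup.** -/
theorem exists_trIdeal_of_prim_mem_KBr (hM : M.IsPrime) {S : Subgroup G} {i : GA G}
    (hi : Prim (fixedRing M hM S) i) (hK : i ∈ KBr M hM S) :
    ∃ S' : Subgroup G, S' ≤ S ∧ S' ≠ S ∧ i ∈ trIdeal M hM S' S := by
  classical
  have hfit := (fitScal_fixedRing hM S).toFitSub
  have hexp := eq_sum_orbit_sums hM hi.1
  set reps := Finset.univ.filter (fun g : G => orep S g = g) with hreps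
  obtain ⟨g, -, hg⟩ := hfit.rosenberg hi reps
    (fun g => if g ∈ Subgroup.centralizer (S : Set G) then PP M hM S
      else trIdeal M hM (cstab S g) S)
    (by
      intro g _
      split_ifs
      · exact PP_isIdeal hM S
      · exact trIdeal_isIdeal hM (cstab_le S g))
    (fun g => i.coeff g • rtr (cstab S g) S (og g))
    (by
      intro g _
      have hog : og g ∈ fixedRing M hM (cstab S g) :=
        og_mem_fixedRing hM fun s hs => (mem_cstab.1 hs).2
      split_ifs with hgc
      · have h1 : cstab S g = S := (cstab_eq_iff S g).2 hgc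
        have h2 : rtr (cstab S g) S (og g) = og g := by
          rw [h1] at hog ⊢
          rw [rtr_of_fixed S S hog.2]
          have hcard : (Nat.card S : ℂ) ≠ 0 := by
            have : 0 < Nat.card S := Nat.card_pos
            exact_mod_cast this.ne'
          rw [inv_mul_cancel₀ hcard, one_smul]
        rw [h2]
        rw [h1] at hog
        exact (fitScal_fixedRing hM S).smul_mem_P _ (hK.2 g hgc) _ hog
      · refine ⟨i.coeff g • og g, smul_mem_fixedRing hM _ (hi.1.1 g) hog, ?_⟩
        rw [rtr_smul])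
    hexp
  by_cases hgc : g ∈ Subgroup.centralizer (S : Set G)
  · rw [if_pos hgc] at hg
    exact absurd (hfit.idem_P i hg hi.2.1) hi.2.2.1
  · rw [if_neg hgc] at hg
    exact ⟨cstab S g, cstab_le S g, fun h => hgc ((cstab_eq_iff S g).1 h), hg⟩

end Cfsg.Agent.Lib.Helper8.BPS
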