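import Mathlib
import Cfsg.Agent.Lib.Helper8.BPS10
import Cfsg.Agent.Lib.Helper8.BPS12

/-!
# Green's indecomposability theorem for the group algebra: normal subgroups of index `p`
-/

set_option autoImplicit false
set_option linter.unusedSectionVars false

namespace Cfsg.Agent.Lib.Helper8.BPS

open Cfsg Cfsg.Agent.Lib.Helper8

variable {M : Ideal AlgInt} {p : ℕ} {G : Type*} [Group G] [Fintype G] [DecidableEq G]

/-- a proper subgroup of a `p`-group lies in a normal subgroup of index `p` -/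
theorem exists_normal_index_p [hp : Fact p.Prime] {S S'' : Subgroup G} (hS : IsPGroup p S)
    (hle : S'' ≤ S) (hne : S'' ≠ S) :
    ∃ R : Subgroup G, S'' ≤ R ∧ R ≤ S ∧ (∀ s ∈ S, ∀ r ∈ R, s * r * s⁻¹ ∈ R) ∧
      Nat.card S = p * Nat.card R := by
  obtain ⟨a, ha⟩ := IsPGroup.exists_card_eq hS
  have hS'' : IsPGroup p S'' := hS.to_le hle
  obtain ⟨n, hn⟩ := IsPGroup.exists_card_eq hS''
  have hlt : n < a := by
    have h1 : Nat.card S'' < Nat.card S := by
      rcases lt_or_eq_of_le (Subgroup.card_le_of_le hle) with h | h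
      · exact h
      · exact absurd (Subgroup.eq_of_le_of_card_ge hle h.ge) hne
    rw [hn, ha] at h1
    exact (Nat.pow_lt_pow_iff_right hp.out.one_lt).1 h1
  obtain ⟨a', rfl⟩ : ∃ a', a = a' + 1 := ⟨a - 1, by omega⟩
  have hH : Nat.card (S''.subgroupOf S) = p ^ n := by
    rw [← hn]
    exact Nat.card_congr (Subgroup.subgroupOfEquivOfLe hle).toEquiv
  obtain ⟨K, hK, hHK⟩ := Sylow.exists_subgroup_card_pow_prime_le p (m := a')
    (by rw [ha, pow_succ]; exact dvd_mul_right _ _) (S''.subgroupOf S) hH (by omega)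
  have hidx : K.index = p := by
    have h1 := Subgroup.card_mul_index K
    rw [hK, ha, pow_succ] at h1
    exact Nat.eq_of_mul_eq_mul_left (pow_pos hp.out.pos a') h1
  have hnormal : K.Normal := by
    apply Subgroup.normal_of_index_eq_minFac_card
    rw [hidx, ha, Nat.Prime.pow_minFac hp.out (Nat.succ_ne_zero a')]
  refine ⟨K.map S.subtype, ?_, ?_, ?_, ?_⟩
  · intro x hx
    exact ⟨⟨x, hle hx⟩, hHK (by rw [Subgroup.mem_subgroupOf]; exact hx), rfl⟩
  · rintro _ ⟨k, -, rfl⟩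
    exact k.2
  · rintro s hs _ ⟨k, hk, rfl⟩
    exact ⟨⟨s, hs⟩ * k * ⟨s, hs⟩⁻¹, hnormal.conj_mem k hk ⟨s, hs⟩, rfl⟩
  · rw [Subgroup.card_map_of_injective (Subgroup.subtype_injective S), hK, ha, pow_succ, mul_comm]

section indexp

variable {R S : Subgroup G} (hRS : R ≤ S) (hnorm : ∀ s ∈ S, ∀ r ∈ R, s * r * s⁻¹ ∈ R)
  (hcard : Nat.card S = p * Nat.card R) {t : G} (htS : t ∈ S) (htR : t ∉ R)

include hRS hnorm hcard htS htR

/-- if `t ^ d ∈ R` then `p ∣ d` -/
theorem dvd_of_pow_mem [hp : Fact p.Prime] {d : ℕ} (hd : t ^ d ∈ R) : p ∣ d := by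
  have hnormal : (R.subgroupOf S).Normal := by
    refine ⟨fun n hn g => ?_⟩
    rw [Subgroup.mem_subgroupOf] at hn ⊢
    exact hnorm g g.2 n hn
  have hidx : (R.subgroupOf S).index = p := by
    have h1 := Subgroup.card_mul_index (R.subgroupOf S)
    rw [Nat.card_congr (Subgroup.subgroupOfEquivOfLe hRS).toEquiv, hcard, mul_comm] at h1
    exact Nat.eq_of_mul_eq_mul_right Nat.card_pos h1
  set τ : ↥S ⧸ R.subgroupOf S := QuotientGroup.mk ⟨t, htS⟩ with hτ
  have hτp : τ ^ p = 1 := by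
    have := pow_card_eq_one' (G := ↥S ⧸ R.subgroupOf S) (x := τ)
    rwa [← Subgroup.index_eq_card, hidx] at this
  have hτ1 : τ ≠ 1 := by
    intro h1
    rw [hτ, QuotientGroup.eq_one_iff, Subgroup.mem_subgroupOf] at h1
    exact htR h1
  have hord : orderOf τ = p := orderOf_eq_prime hτp hτ1
  have hτd : τ ^ d = 1 := by
    rw [hτ, ← QuotientGroup.mk_pow, QuotientGroup.eq_one_iff, Subgroup.mem_subgroupOf]
    exact hd
  rw [← hord]
  exact orderOf_dvd_of_pow_eq_one hτd

theorem pow_p_mem [Fact p.Prime] : t ^ p ∈ R := by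
  have hnormal : (R.subgroupOf S).Normal := by
    refine ⟨fun n hn g => ?_⟩
    rw [Subgroup.mem_subgroupOf] at hn ⊢
    exact hnorm g g.2 n hn
  have hidx : (R.subgroupOf S).index = p := by
    have h1 := Subgroup.card_mul_index (R.subgroupOf S)
    rw [Nat.card_congr (Subgroup.subgroupOfEquivOfLe hRS).toEquiv, hcard, mul_comm] at h1
    exact Nat.eq_of_mul_eq_mul_right Nat.card_pos h1
  have hτp : (QuotientGroup.mk ⟨t, htS⟩ : ↥S ⧸ R.subgroupOf S) ^ p = 1 := by
    have := pow_card_eq_one' (G := ↥S ⧸ R.subgroupOf S)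
      (x := (QuotientGroup.mk ⟨t, htS⟩ : ↥S ⧸ R.subgroupOf S))
    rwa [← Subgroup.index_eq_card, hidx] at this
  rw [← QuotientGroup.mk_pow, QuotientGroup.eq_one_iff, Subgroup.mem_subgroupOf] at hτp
  exact hτp

/-- the coset decomposition `S = ⊔_{k<p} t^k R` as a bijection -/
theorem bijective_powMul [hp : Fact p.Prime] :
    Function.Bijective (fun x : Fin p × R => (⟨t ^ (x.1 : ℕ) * (x.2 : G),
      S.mul_mem (S.pow_mem htS _) (hRS x.2.2)⟩ : S)) := by
  classical
  have : Fintype R := Fintype.ofFinite _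
  have : Fintype S := Fintype.ofFinite _
  have hinj : Function.Injective (fun x : Fin p × R => (⟨t ^ (x.1 : ℕ) * (x.2 : G),
      S.mul_mem (S.pow_mem htS _) (hRS x.2.2)⟩ : S)) := by
    -- it suffices to treat `k ≤ l`
    have key : ∀ (k l : Fin p) (r r' : R), (k : ℕ) ≤ l → t ^ (k : ℕ) * (r : G) = t ^ (l : ℕ) * r' →
        k = l ∧ r = r' := by
      intro k l r r' hkl h
      have h1 : t ^ ((l : ℕ) - k) = (r : G) * (r' : G)⁻¹ := by
        have h2 : t ^ (l : ℕ) = t ^ (k : ℕ) * t ^ ((l : ℕ) - k) := by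
          rw [← pow_add, Nat.add_sub_cancel' hkl]
        rw [h2, mul_assoc] at h
        have h3 := mul_left_cancel h
        rw [h3, mul_inv_cancel_right]
      have h4 : t ^ ((l : ℕ) - k) ∈ R := by
        rw [h1]
        exact R.mul_mem r.2 (R.inv_mem r'.2)
      have h5 := dvd_of_pow_mem hRS hnorm hcard htS htR h4
      have h6 : (l : ℕ) - k = 0 := Nat.eq_zero_of_dvd_of_lt h5 (by have := l.2; omega)
      have h7 : (k : ℕ) = l := by omega
      have h8 : k = l := Fin.ext h7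
      refine ⟨h8, ?_⟩
      rw [h7] at h
      exact Subtype.ext (mul_left_cancel h)
    rintro ⟨k, r⟩ ⟨l, r'⟩ h
    have h' : t ^ (k : ℕ) * (r : G) = t ^ (l : ℕ) * r' := congrArg Subtype.val h
    rcases le_total (k : ℕ) l with hkl | hkl
    · obtain ⟨h1, h2⟩ := key k l r r' hkl h'
      rw [h1, h2]
    · obtain ⟨h1, h2⟩ := key l k r' r hkl h'.symm
      rw [h1, h2]
  rw [Fintype.bijective_iff_injective_and_card]
  refine ⟨hinj, ?_⟩
  rw [Fintype.card_prod, Fintype.card_fin, ← Nat.card_eq_fintype_card (α := R),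
    ← Nat.card_eq_fintype_card (α := S), hcard]

theorem exists_pow_mul [hp : Fact p.Prime] {s : G} (hs : s ∈ S) :
    ∃ k < p, ∃ r ∈ R, s = t ^ k * r := by
  obtain ⟨⟨k, r⟩, hkr⟩ := (bijective_powMul hRS hnorm hcard htS htR).2 ⟨s, hs⟩
  exact ⟨k, k.2, r, r.2, (congrArg Subtype.val hkr).symm⟩

theorem sgSum_eq_sum_pow [hp : Fact p.Prime] (F : G → GA G) :
    sgSum S F = ∑ k ∈ Finset.range p, sgSum R (fun r => F (t ^ k * r)) := by
  classical
  have : Fintype R := Fintype.ofFinite _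
  have : Fintype S := Fintype.ofFinite _
  have hS : sgSum S F = ∑ s : S, F (s : G) := by
    unfold sgSum
    rw [← Finset.sum_filter]
    exact Finset.sum_subtype (Finset.univ.filter fun t => t ∈ S) (by simp) F
  have hR : ∀ k : ℕ, sgSum R (fun r => F (t ^ k * r)) = ∑ r : R, F (t ^ k * (r : G)) := by
    intro k
    unfold sgSum
    rw [← Finset.sum_filter]
    exact Finset.sum_subtype (Finset.univ.filter fun t => t ∈ R) (by simp) (fun r => F (t ^ k * r))
  rw [hS, ← Equiv.sum_comp (Equiv.ofBijective _ (bijective_powMul hRS hnorm hcard htS htR))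
    (fun s : S => F (s : G)), Fintype.sum_prod_type, Finset.sum_range]
  refine Finset.sum_congr rfl fun k _ => ?_
  rw [hR]
  rfl

end indexp

theorem val_ogUnit_pow (t : G) (k : ℕ) : (((ogUnit t) ^ k : (GA G)ˣ) : GA G) = og (t ^ k) := by
  rw [Units.val_pow_eq_pow_val]
  show (og t) ^ k = og (t ^ k)
  exact (map_pow (MonoidAlgebra.of ℂ G) t k).symm

theorem val_ogUnit_pow_inv (t : G) (k : ℕ) :
    ((((ogUnit t) ^ k)⁻¹ : (GA G)ˣ) : GA G) = og (t ^ k)⁻¹ := by
  rw [← inv_pow, Units.val_pow_eq_pow_val, ← inv_pow]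
  show (og t⁻¹) ^ k = og (t⁻¹ ^ k)
  exact (map_pow (MonoidAlgebra.of ℂ G) t⁻¹ k).symm

theorem cjU_ogUnit_pow (t : G) (k : ℕ) (y : GA G) : cjU ((ogUnit t) ^ k) y = cj (t ^ k) y := by
  unfold cjU cj
  rw [val_ogUnit_pow, val_ogUnit_pow_inv]

theorem cjU_ogUnit (t : G) (y : GA G) : cjU (ogUnit t) y = cj t y := rfl

section indexp2

variable {R S : Subgroup G} (hRS : R ≤ S) (hnorm : ∀ s ∈ S, ∀ r ∈ R, s * r * s⁻¹ ∈ R)
  (hcard : Nat.card S = p * Nat.card R) {t : G} (htS : t ∈ S) (htR : t ∉ R)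

include hRS hnorm hcard htS htR

theorem rtr_eq_trS [Fact p.Prime] {a : GA G} (ha : ∀ r ∈ R, cj r a = a) :
    rtr R S a = trS (ogUnit t) p a := by
  unfold rtr trS
  rw [sgSum_eq_sum_pow hRS hnorm hcard htS htR, Finset.smul_sum]
  refine Finset.sum_congr rfl fun k _ => ?_
  have h1 : sgSum R (fun r => cj (t ^ k * r) a) = sgSum R (fun _ => cj (t ^ k) a) := by
    apply sgSum_congr
    intro r hr
    rw [← cj_cj, ha r hr]
  have hc : (Nat.card R : ℂ) ≠ 0 := by
    have : 0 < Nat.card R := Nat.card_pos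
    exact_mod_cast this.ne'
  rw [h1, sgSum_const, smul_smul, inv_mul_cancel₀ hc, one_smul, cjU_ogUnit_pow]

theorem cj_mem_fixedRing_of_normal (hMp : M.IsPrime) {s : G} (hs : s ∈ S) {y : GA G}
    (hy : y ∈ fixedRing M hMp R) : cj s y ∈ fixedRing M hMp R := by
  refine ⟨fun g => ?_, fun r hr => ?_⟩
  · rw [coeff_cj]
    exact hy.1 _
  · have h1 : s⁻¹ * r * s ∈ R := by
      have := hnorm s⁻¹ (S.inv_mem hs) r hr
      rwa [inv_inv] at this
    have h2 : r * s = s * (s⁻¹ * r * s) := by group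
    rw [cj_cj, h2, ← cj_cj, hy.2 _ h1]

theorem gpCtx_ga [hp : Fact p.Prime] (hM : IsPModular p M) :
    GPCtx M p (fixedRing M (isPModular_isPrime hM) R) (fixedRing M (isPModular_isPrime hM) S)
      (PP M (isPModular_isPrime hM) R) (PP M (isPModular_isPrime hM) S) (ogUnit t) := by
  have hMp := isPModular_isPrime hM
  refine ⟨fitScal_fixedRing hMp R, fitScal_fixedRing hMp S, ?_, ?_, ?_, ?_, ?_, hp.out,
    memLocalIdeal_prime hM⟩
  · intro y
    constructor
    · intro hy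
      exact ⟨fixedRing_mono hMp hRS hy, hy.2 t htS⟩
    · rintro ⟨hy, hty⟩
      refine ⟨hy.1, fun s hs => ?_⟩
      obtain ⟨k, -, r, hr, rfl⟩ := exists_pow_mul hRS hnorm hcard htS htR hs
      rw [← cj_cj, hy.2 r hr]
      have : ∀ k : ℕ, cj (t ^ k) y = y := by
        intro k
        induction k with
        | zero => rw [pow_zero, cj_one']
        | succ k ih => rw [pow_succ', ← cj_cj, ih]; exact hty
      exact this k
  · intro y
    constructor
    · intro hy
      exact ⟨⟨fixedRing_mono hMp hRS hy.1, hy.2⟩, hy.1⟩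
    · rintro ⟨hy, hy'⟩
      exact ⟨hy', hy.2⟩
  · intro y hy
    exact cj_mem_fixedRing_of_normal hRS hnorm hcard htS htR hMp htS hy
  · intro y hy
    refine ⟨cj_mem_fixedRing_of_normal hRS hnorm hcard htS htR hMp htS hy.1, fun g => ?_⟩
    show MemLocalIdeal M ((cj t y).coeff g)
    rw [coeff_cj]
    exact hy.2 _
  · intro y hy
    rw [cjU_ogUnit_pow]
    exact hy.2 _ (pow_p_mem hRS hnorm hcard htS htR)

/-- **Green's theorem for a normal subgroup of index `p`.** -/
theorem green_ga [hp : Fact p.Prime] (hM : IsPModular p M) {i : GA G}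
    (hi : Prim (fixedRing M (isPModular_isPrime hM) S) i)
    (hmem : i ∈ trIdeal M (isPModular_isPrime hM) R S) :
    ∃ f ∈ fixedRing M (isPModular_isPrime hM) R, f * f = f ∧ Corner i f ∧
      (∀ s ∈ S, s ∉ R → cj s f * f = 0) ∧ rtr R S f = i := by
  have hMp := isPModular_isPrime hM
  have hctx := gpCtx_ga hRS hnorm hcard htS htR hM
  obtain ⟨a₀, ha₀, hia₀⟩ := hmem
  have hiR : i ∈ fixedRing M hMp R := fixedRing_mono hMp hRS hi.1
  have haT : i * a₀ * i ∈ fixedRing M hMp R := Subring.mul_mem _ (Subring.mul_mem _ hiR ha₀) hiR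
  have hac : Corner i (i * a₀ * i) :=
    ⟨by simp only [← mul_assoc, hi.2.1], by simp only [mul_assoc, hi.2.1]⟩
  have htr : trS (ogUnit t) p (i * a₀ * i) = i := by
    rw [← rtr_eq_trS hRS hnorm hcard htS htR haT.2, ← rtr_mul R S hi.1.2, ← mul_rtr R S hi.1.2,
      ← hia₀, hi.2.1, hi.2.1]
  obtain ⟨f, hfT, hff, hfc, horth, hftr⟩ := hctx.green hM hi haT hac htr
  refine ⟨f, hfT, hff, hfc, ?_, ?_⟩
  · intro s hs hsR
    obtain ⟨k, hk, r, hr, rfl⟩ := exists_pow_mul hRS hnorm hcard htS htR hs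
    have hk0 : k ≠ 0 := by
      rintro rfl
      rw [pow_zero, one_mul] at hsR
      exact hsR hr
    have := horth k hk 0 hp.out.pos hk0
    rw [pow_zero, cjU_one', cjU_ogUnit_pow] at this
    rw [← cj_cj, hfT.2 r hr]
    exact this
  · rw [rtr_eq_trS hRS hnorm hcard htS htR hfT.2]
    exact hftr

end indexp2

end Cfsg.Agent.Lib.Helper8.BPS
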