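import Mathlib

/-!
# Carve-out K2 (project S2512): an endomorphism without proper nonzero invariant subspaces has an
irreducible minimal polynomial of degree `dim V`
-/

set_option autoImplicit false

namespace Cfsg.Agent.Lib.Carve

open Module Polynomial

section
variable {F : Type*} [Field F] {V : Type*} [AddCommGroup V] [Module F V]

/-- the kernel of a polynomial in `T` is `T`-invariant -/
theorem K2.ker_aeval_invariant (T : Module.End F V) (g : F[X]) :
    ∀ a ∈ LinearMap.ker (aeval T g), T a ∈ LinearMap.ker (aeval T g) := by
  intro a ha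
  rw [LinearMap.mem_ker] at ha ⊢
  have hc : aeval T g * T = T * aeval T g :=
    calc aeval T g * T = aeval T g * aeval T (X : F[X]) := by rw [aeval_X]
      _ = aeval T (g * X) := (map_mul _ _ _).symm
      _ = aeval T (X * g) := by rw [mul_comm]
      _ = T * aeval T g := by rw [map_mul, aeval_X]
  have h1 : (aeval T g) (T a) = T ((aeval T g) a) := by
    have := congrArg (fun f : Module.End F V => f a) hc
    simpa only [Module.End.mul_apply] using this
  rw [h1, ha, map_zero]

/-- the cyclic subspace generated by `a` -/
noncomputable def K2.cyc (T : Module.End F V) (a : V) : F[X] →ₗ[F] V :=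
  (LinearMap.applyₗ a).comp (aeval T).toLinearMap

theorem K2.cyc_apply (T : Module.End F V) (a : V) (P : F[X]) :
    K2.cyc T a P = aeval T P a := rfl

theorem K2.range_cyc_invariant (T : Module.End F V) (a : V) :
    ∀ v ∈ LinearMap.range (K2.cyc T a), T v ∈ LinearMap.range (K2.cyc T a) := by
  rintro _ ⟨P, rfl⟩
  refine ⟨X * P, ?_⟩
  rw [K2.cyc_apply, K2.cyc_apply, map_mul, aeval_X, Module.End.mul_apply]

end

/-- K2: no proper nonzero invariant subspace ⇒ minpoly irreducible of degree dim V. -/
theorem K2.irr_minpoly {F : Type*} [Field F] {V : Type*} [AddCommGroup V] [Module F V]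
    [FiniteDimensional F V] [Nontrivial V] (T : Module.End F V)
    (hirr : ∀ S : Submodule F V, (∀ a ∈ S, T a ∈ S) → S = ⊥ ∨ S = ⊤) :
    Irreducible (minpoly F T) ∧ (minpoly F T).natDegree = finrank F V := by
  have hint : IsIntegral F T := Algebra.IsIntegral.isIntegral T
  have hmon : (minpoly F T).Monic := minpoly.monic hint
  have hne0 : minpoly F T ≠ 0 := minpoly.ne_zero hint
  constructor
  · rw [irreducible_iff]
    refine ⟨minpoly.not_isUnit F T, ?_⟩
    intro g h hgh
    have hg0 : g ≠ 0 := fun e => hne0 (by rw [hgh, e, zero_mul])
    have hh0 : h ≠ 0 := fun e => hne0 (by rw [hgh, e, mul_zero])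
    have hprod : aeval T g * aeval T h = 0 := by
      rw [← map_mul, ← hgh, minpoly.aeval]
    rcases hirr _ (K2.ker_aeval_invariant T g) with hk | hk
    · -- `g(T)` injective, so `h(T) = 0`
      left
      have hh : aeval T h = 0 := by
        apply LinearMap.ext
        intro v
        have h1 : (aeval T g) ((aeval T h) v) = 0 := by
          have := congrArg (fun f : Module.End F V => f v) hprod
          simpa only [Module.End.mul_apply, LinearMap.zero_apply] using this
        have h2 : (aeval T h) v ∈ LinearMap.ker (aeval T g) := LinearMap.mem_ker.2 h1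
        rw [hk, Submodule.mem_bot] at h2
        rw [h2, LinearMap.zero_apply]
      obtain ⟨k, hk'⟩ := minpoly.dvd F T hh
      -- `h = g * h * k`
      have h3 : h * 1 = h * (g * k) := by
        rw [mul_one]
        nth_rewrite 1 [hk', hgh]
        ring
      have h4 := mul_left_cancel₀ hh0 h3
      exact IsUnit.of_mul_eq_one k h4.symm
    · -- `g(T) = 0`
      right
      have hg : aeval T g = 0 := by
        apply LinearMap.ext
        intro v
        have : v ∈ LinearMap.ker (aeval T g) := by rw [hk]; trivial
        rw [LinearMap.mem_ker.1 this, LinearMap.zero_apply]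
      obtain ⟨k, hk'⟩ := minpoly.dvd F T hg
      have h3 : g * 1 = g * (h * k) := by
        rw [mul_one]
        nth_rewrite 1 [hk', hgh]
        ring
      have h4 := mul_left_cancel₀ hg0 h3
      exact IsUnit.of_mul_eq_one k h4.symm
  · apply le_antisymm
    · have h1 := Polynomial.natDegree_le_of_dvd (LinearMap.minpoly_dvd_charpoly T)
        (LinearMap.charpoly_monic T).ne_zero
      rwa [LinearMap.charpoly_natDegree] at h1
    · obtain ⟨a, ha⟩ := exists_ne (0 : V)
      have htop : LinearMap.range (K2.cyc T a) = ⊤ := by
        rcases hirr _ (K2.range_cyc_invariant T a) with h | h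
        · exfalso
          apply ha
          have : a ∈ LinearMap.range (K2.cyc T a) := ⟨1, by rw [K2.cyc_apply, map_one]; rfl⟩
          rwa [h, Submodule.mem_bot] at this
        · exact h
      set d := (minpoly F T).natDegree with hd
      let Ψ : degreeLT F d →ₗ[F] V := (K2.cyc T a).comp (degreeLT F d).subtype
      have hsurj : Function.Surjective Ψ := by
        intro v
        have hv : v ∈ LinearMap.range (K2.cyc T a) := by rw [htop]; trivial
        obtain ⟨P, rfl⟩ := hv
        have hdeg : (P %ₘ minpoly F T).degree < (d : WithBot ℕ) := by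
          have := Polynomial.degree_modByMonic_lt P hmon
          rwa [Polynomial.degree_eq_natDegree hne0] at this
        refine ⟨⟨P %ₘ minpoly F T, Polynomial.mem_degreeLT.2 hdeg⟩, ?_⟩
        show K2.cyc T a (P %ₘ minpoly F T) = K2.cyc T a P
        rw [K2.cyc_apply, K2.cyc_apply]
        conv_rhs => rw [← Polynomial.modByMonic_add_div P (minpoly F T)]
        rw [map_add, map_mul, minpoly.aeval, zero_mul, add_zero]
      have h1 := LinearMap.finrank_le_finrank_of_surjective hsurj
      rwa [LinearEquiv.finrank_eq (Polynomial.degreeLTEquiv F d), Module.finrank_fin_fun] at h1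

end Cfsg.Agent.Lib.Carve
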