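import Mathlib
import Cfsg.Agent.Lib.Helper8.TB6

set_option autoImplicit false

/-! A `q`-group minimal among those invariant under a group `ℬ` and not centralized by a
`p`-element `g₀` commuting with `ℬ`: the centralizer of `g₀` is central. -/

namespace Cfsg.Agent.Lib.Helper8.QC

open scoped commutatorElement

section Grp

variable {Γ : Type*} [Group Γ]

theorem centralizer_le_center_of_minimalB (p q : ℕ) [Fact p.Prime] [Fact q.Prime] (hpq : p ≠ q)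
    (𝒬 : Subgroup Γ) [Finite 𝒬] (h𝒬 : IsPGroup q 𝒬) (ℬ : Subgroup Γ) (g₀ : Γ)
    (hB : ℬ ≤ Subgroup.normalizer (𝒬 : Set Γ)) (hgg₀ : ∀ g ∈ ℬ, g * g₀ = g₀ * g)
    (hg₀n : g₀ ∈ Subgroup.normalizer (𝒬 : Set Γ)) (hg₀ : ∃ e : ℕ, g₀ ^ p ^ e = 1)
    (hmin : ∀ 𝒬₁ : Subgroup Γ, 𝒬₁ ≤ 𝒬 → 𝒬₁ ≠ 𝒬 → ℬ ≤ Subgroup.normalizer (𝒬₁ : Set Γ) →
      ∀ a ∈ 𝒬₁, a * g₀ = g₀ * a)
    (hact : ∃ a ∈ 𝒬, a * g₀ ≠ g₀ * a) :
    ∀ a ∈ 𝒬, a * g₀ = g₀ * a → ∀ b ∈ 𝒬, a * b = b * a := by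
  -- the centralizer of g₀ in 𝒬
  set C : Subgroup Γ := 𝒬 ⊓ Subgroup.centralizer ({g₀} : Set Γ) with hC
  have hmemC : ∀ a, a ∈ C ↔ a ∈ 𝒬 ∧ a * g₀ = g₀ * a := by
    intro a
    rw [hC, Subgroup.mem_inf, Subgroup.mem_centralizer_iff]
    constructor
    · rintro ⟨h1, h2⟩
      exact ⟨h1, (h2 g₀ rfl).symm⟩
    · rintro ⟨h1, h2⟩
      refine ⟨h1, ?_⟩
      intro h hh
      rw [Set.mem_singleton_iff] at hh
      rw [hh]; exact h2.symm
  have hCle : C ≤ 𝒬 := inf_le_left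
  have hCne : C ≠ 𝒬 := by
    intro h
    obtain ⟨a, ha, hane⟩ := hact
    rw [← h] at ha
    exact hane ((hmemC a).mp ha).2
  have hgi : ∀ g ∈ ℬ, g⁻¹ * g₀ * g = g₀ := by
    intro g hg
    calc g⁻¹ * g₀ * g = g⁻¹ * (g₀ * g) := by group
      _ = g⁻¹ * (g * g₀) := by rw [hgg₀ g hg]
      _ = g₀ := by group
  have hgC : ℬ ≤ Subgroup.normalizer (C : Set Γ) := by
    intro g hgB
    have hg := hB hgB
    rw [Subgroup.mem_normalizer_iff]
    intro a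
    rw [hmemC, hmemC, ← (Subgroup.mem_normalizer_iff.mp hg) a]
    constructor
    · rintro ⟨h1, h2⟩
      refine ⟨h1, ?_⟩
      calc g * a * g⁻¹ * g₀ = g * (a * (g⁻¹ * g₀ * g)) * g⁻¹ := by group
        _ = g * (a * g₀) * g⁻¹ := by rw [hgi g hgB]
        _ = g * (g₀ * a) * g⁻¹ := by rw [h2]
        _ = g * ((g⁻¹ * g₀ * g) * a) * g⁻¹ := by rw [hgi g hgB]
        _ = g₀ * (g * a * g⁻¹) := by group
    · rintro ⟨h1, h2⟩
      refine ⟨h1, ?_⟩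
      have h3 : a = g⁻¹ * (g * a * g⁻¹) * g := by group
      calc a * g₀ = g⁻¹ * (g * a * g⁻¹) * g * g₀ := by rw [← h3]
        _ = g⁻¹ * (g * a * g⁻¹) * (g * g₀) := by group
        _ = g⁻¹ * ((g * a * g⁻¹) * g₀) * g := by rw [hgg₀ g hgB]; group
        _ = g⁻¹ * (g₀ * (g * a * g⁻¹)) * g := by rw [h2]
        _ = (g⁻¹ * g₀ * g) * a := by group
        _ = g₀ * a := by rw [hgi g hgB]
  have hminC : ∀ 𝒬₁ : Subgroup Γ, 𝒬₁ ≤ 𝒬 → 𝒬₁ ≠ 𝒬 → ℬ ≤ Subgroup.normalizer (𝒬₁ : Set Γ) →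
      𝒬₁ ≤ C := by
    intro 𝒬₁ h1 h2 h3 a ha
    exact (hmemC a).mpr ⟨h1 ha, hmin 𝒬₁ h1 h2 h3 a ha⟩
  -- 𝒬 normalizes C
  have hQC : 𝒬 ≤ Subgroup.normalizer (C : Set Γ) := by
    set N : Subgroup Γ := 𝒬 ⊓ Subgroup.normalizer (C : Set Γ) with hN
    have hgN : ℬ ≤ Subgroup.normalizer (N : Set Γ) := by
      intro g hgB
      have hg := hB hgB
      have hgC' := hgC hgB
      rw [Subgroup.mem_normalizer_iff]
      intro a
      rw [hN, Subgroup.mem_inf, Subgroup.mem_inf, ← (Subgroup.mem_normalizer_iff.mp hg) a]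
      have hconjN : ∀ b : Γ, b ∈ Subgroup.normalizer (C : Set Γ) →
          g * b * g⁻¹ ∈ Subgroup.normalizer (C : Set Γ) := by
        intro b hb
        exact Subgroup.mul_mem _ (Subgroup.mul_mem _ hgC' hb) (Subgroup.inv_mem _ hgC')
      constructor
      · rintro ⟨h1, h2⟩
        exact ⟨h1, hconjN a h2⟩
      · rintro ⟨h1, h2⟩
        refine ⟨h1, ?_⟩
        have h3 : a = g⁻¹ * (g * a * g⁻¹) * g := by group
        rw [h3]
        exact Subgroup.mul_mem _ (Subgroup.mul_mem _ (Subgroup.inv_mem _ hgC') h2) hgC'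
    have hCN : C ≤ N := le_inf hCle Subgroup.le_normalizer
    have hNQ : N = 𝒬 := by
      by_contra hne
      have h1 : N ≤ C := hminC N inf_le_left hne hgN
      have h2 : N = C := le_antisymm h1 hCN
      haveI : Group.IsNilpotent 𝒬 := h𝒬.isNilpotent
      have hnc : NormalizerCondition 𝒬 := Group.normalizerCondition_of_isNilpotent
      have h3 : C.subgroupOf 𝒬 < ⊤ := by
        rw [lt_top_iff_ne_top]
        intro h
        apply hCne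
        apply le_antisymm hCle
        intro a ha
        have : (⟨a, ha⟩ : 𝒬) ∈ C.subgroupOf 𝒬 := by rw [h]; trivial
        exact Subgroup.mem_subgroupOf.mp this
      have h4 := hnc _ h3
      rw [← Subgroup.subgroupOf_normalizer_eq hCle] at h4
      obtain ⟨b, hb1, hb2⟩ := SetLike.exists_of_lt h4
      apply hb2
      rw [Subgroup.mem_subgroupOf] at hb1 ⊢
      rw [← h2]
      exact ⟨b.2, hb1⟩
    rw [← hNQ]
    exact inf_le_right
  -- three subgroups lemma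
  have hCcent : C ≤ Subgroup.centralizer ((Subgroup.zpowers g₀ : Subgroup Γ) : Set Γ) := by
    intro a ha
    rw [Subgroup.mem_centralizer_iff]
    rintro _ ⟨k, rfl⟩
    have h1 : Commute a g₀ := ((hmemC a).mp ha).2
    exact (h1.zpow_right k).symm
  have h1 : ⁅⁅𝒬, C⁆, Subgroup.zpowers g₀⁆ = ⊥ := by
    rw [Subgroup.commutator_eq_bot_iff_le_centralizer]
    refine le_trans ?_ hCcent
    rw [Subgroup.commutator_le]
    intro b hb a ha
    have h2 : b * a * b⁻¹ ∈ C := (Subgroup.mem_normalizer_iff.mp (hQC hb) a).mp ha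
    rw [commutatorElement_def]
    exact C.mul_mem h2 (C.inv_mem ha)
  have h2 : ⁅⁅C, Subgroup.zpowers g₀⁆, 𝒬⁆ = ⊥ := by
    rw [Subgroup.commutator_eq_bot_iff_le_centralizer.mpr hCcent, Subgroup.commutator_bot_left]
  have h3 := Subgroup.commutator_commutator_eq_bot_of_rotate h1 h2
  rw [Subgroup.commutator_eq_bot_iff_le_centralizer] at h3
  -- the centralizer of C in 𝒬
  set Z₁ : Subgroup Γ := 𝒬 ⊓ Subgroup.centralizer (C : Set Γ) with hZ₁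
  have hgZ₁ : ℬ ≤ Subgroup.normalizer (Z₁ : Set Γ) := by
    intro g hgB
    have hg := hB hgB
    have hgC' := hgC hgB
    have hcentn : ∀ b : Γ, b ∈ Subgroup.normalizer (C : Set Γ) → ∀ a,
        a ∈ Subgroup.centralizer (C : Set Γ) → b * a * b⁻¹ ∈ Subgroup.centralizer (C : Set Γ) := by
      intro b hb a ha
      rw [Subgroup.mem_centralizer_iff] at ha ⊢
      intro c hc
      have h4 : b⁻¹ * c * b ∈ C := by
        have h5 := (Subgroup.mem_normalizer_iff.mp (Subgroup.inv_mem _ hb) c).mp hc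
        rwa [inv_inv] at h5
      have h6 := ha _ h4
      calc c * (b * a * b⁻¹) = b * ((b⁻¹ * c * b) * a) * b⁻¹ := by group
        _ = b * (a * (b⁻¹ * c * b)) * b⁻¹ := by rw [h6]
        _ = b * a * b⁻¹ * c := by group
    rw [Subgroup.mem_normalizer_iff]
    intro a
    rw [hZ₁, Subgroup.mem_inf, Subgroup.mem_inf, ← (Subgroup.mem_normalizer_iff.mp hg) a]
    constructor
    · rintro ⟨h4, h5⟩
      exact ⟨h4, hcentn g hgC' a h5⟩
    · rintro ⟨h4, h5⟩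
      refine ⟨h4, ?_⟩
      have h6 := hcentn g⁻¹ (Subgroup.inv_mem _ hgC') _ h5
      have h7 : g⁻¹ * (g * a * g⁻¹) * g⁻¹⁻¹ = a := by group
      rwa [h7] at h6
  have hDQ : ⁅Subgroup.zpowers g₀, 𝒬⁆ ≤ 𝒬 := by
    rw [Subgroup.commutator_le]
    rintro _ ⟨k, rfl⟩ a ha
    rw [commutatorElement_def]
    have h4 : g₀ ^ k ∈ Subgroup.normalizer (𝒬 : Set Γ) := Subgroup.zpow_mem _ hg₀n k
    have h5 : g₀ ^ k * a * (g₀ ^ k)⁻¹ ∈ 𝒬 := (Subgroup.mem_normalizer_iff.mp h4 a).mp ha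
    exact 𝒬.mul_mem h5 (𝒬.inv_mem ha)
  have hDZ₁ : ⁅Subgroup.zpowers g₀, 𝒬⁆ ≤ Z₁ := le_inf hDQ h3
  have hZ₁Q : Z₁ = 𝒬 := by
    by_contra hne
    have h4 : Z₁ ≤ C := hminC Z₁ inf_le_left hne hgZ₁
    obtain ⟨a, ha, hane⟩ := hact
    apply hane
    have h5 : ⁅g₀, a⁆ ∈ C :=
      h4 (hDZ₁ (Subgroup.commutator_mem_commutator (Subgroup.mem_zpowers g₀) ha))
    obtain ⟨h6, h7⟩ := (hmemC _).mp h5
    have h8 : g₀ * a * g₀⁻¹ = ⁅g₀, a⁆ * a := by rw [commutatorElement_def]; group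
    have hzq : ∃ b : ℕ, ⁅g₀, a⁆ ^ q ^ b = 1 := by
      obtain ⟨b, hb⟩ := h𝒬 ⟨⁅g₀, a⁆, h6⟩
      exact ⟨b, congrArg Subtype.val hb⟩
    exact (TB.comm_of_conj_eq_mul p q hpq g₀ a ⁅g₀, a⁆ h7.symm h8 hg₀ hzq).symm
  intro a ha hag₀ b hb
  have h4 : a ∈ C := (hmemC a).mpr ⟨ha, hag₀⟩
  have h5 : b ∈ Z₁ := by rw [hZ₁Q]; exact hb
  have h6 := Subgroup.mem_centralizer_iff.mp h5.2 a h4
  exact h6

end Grp

end Cfsg.Agent.Lib.Helper8.QC
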