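import Mathlib

set_option autoImplicit false

/-! General linear-algebra lemmas on internal direct sums of translates. -/

namespace Cfsg.Agent.Lib.Helper8.FF

open Module

section Internal

variable {k : Type*} [Field k] {U : Type*} [AddCommGroup U] [Module k U]
variable {ι : Type*} [Fintype ι] [DecidableEq ι]

theorem coeLinearMap_eq_sum (A : ι → Submodule k U) (x : DirectSum ι fun i => A i) :
    DirectSum.coeLinearMap A x = ∑ i, ((x i : A i) : U) := by
  classical
  rw [DirectSum.coeLinearMap_eq_dfinsuppSum]
  rw [DFinsupp.sum_eq_sum_fintype]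
  · rfl
  · intro i; rfl

theorem isInternal_of_forall (A : ι → Submodule k U)
    (hspan : ∀ u, ∃ f : ι → U, (∀ i, f i ∈ A i) ∧ ∑ i, f i = u)
    (hind : ∀ f : ι → U, (∀ i, f i ∈ A i) → ∑ i, f i = 0 → ∀ i, f i = 0) :
    DirectSum.IsInternal A := by
  have hbij : Function.Bijective (DirectSum.coeLinearMap A) := by
    constructor
    · rw [← LinearMap.ker_eq_bot, LinearMap.ker_eq_bot']
      intro x hx
      rw [coeLinearMap_eq_sum] at hx
      have h := hind (fun i => ((x i : A i) : U)) (fun i => (x i).2) hx
      apply DFinsupp.ext
      intro i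
      exact Subtype.ext (h i)
    · intro u
      obtain ⟨f, hf, hsum⟩ := hspan u
      refine ⟨DFinsupp.equivFunOnFintype.symm (fun i => (⟨f i, hf i⟩ : A i)), ?_⟩
      rw [coeLinearMap_eq_sum]
      rw [← hsum]
      apply Finset.sum_congr rfl
      intro i _
      rfl
  exact hbij

/-- internal direct sum from spanning plus a dimension count -/
theorem isInternal_of_iSup_of_finrank_le [FiniteDimensional k U] (A : ι → Submodule k U)
    (hspan : (⨆ i, A i) = ⊤) (hdim : ∑ i, finrank k (A i) ≤ finrank k U) :
    DirectSum.IsInternal A := by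
  have hsurj : Function.Surjective (DirectSum.coeLinearMap A) := by
    rw [← LinearMap.range_eq_top, DirectSum.range_coeLinearMap, hspan]
  have hfr : finrank k (DirectSum ι fun i => A i) = ∑ i, finrank k (A i) :=
    Module.finrank_directSum k (fun i => ↥(A i))
  have h1 : finrank k U ≤ finrank k (DirectSum ι fun i => A i) :=
    LinearMap.finrank_le_finrank_of_surjective hsurj
  have heq : finrank k (DirectSum ι fun i => A i) = finrank k U := by omega
  have hinj : Function.Injective (DirectSum.coeLinearMap A) :=
    (LinearMap.injective_iff_surjective_of_finrank_eq_finrank heq).mpr hsurj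
  exact ⟨hinj, hsurj⟩

/-- dimension formula for an internal direct sum -/
theorem finrank_eq_sum_of_isInternal [FiniteDimensional k U] (A : ι → Submodule k U)
    (h : DirectSum.IsInternal A) : finrank k U = ∑ i, finrank k (A i) := by
  have e : (DirectSum ι fun i => A i) ≃ₗ[k] U := LinearEquiv.ofBijective (DirectSum.coeLinearMap A) h
  rw [← e.finrank_eq, Module.finrank_directSum k (fun i => ↥(A i))]

end Internal


section Rep

variable {k : Type*} [Field k] {U : Type*} [AddCommGroup U] [Module k U]
variable {H : Type*} [Group H]

theorem rep_inv_apply (σ : Representation k H U) (h : H) (u : U) : σ h⁻¹ (σ h u) = u := by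
  have : σ h⁻¹ * σ h = 1 := by rw [← map_mul, inv_mul_cancel, map_one]
  have h2 := congrArg (fun f : Module.End k U => f u) this
  simpa using h2

theorem rep_apply_inv (σ : Representation k H U) (h : H) (u : U) : σ h (σ h⁻¹ u) = u := by
  have : σ h * σ h⁻¹ = 1 := by rw [← map_mul, mul_inv_cancel, map_one]
  have h2 := congrArg (fun f : Module.End k U => f u) this
  simpa using h2

theorem rep_mul_apply (σ : Representation k H U) (g h : H) (u : U) : σ (g * h) u = σ g (σ h u) := by
  rw [map_mul]; rfl

theorem rep_one_apply (σ : Representation k H U) (u : U) : σ 1 u = u := by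
  rw [map_one]; rfl

/-- the linear automorphism given by a group element -/
noncomputable def repEquiv (σ : Representation k H U) (h : H) : U ≃ₗ[k] U :=
  LinearEquiv.ofLinear (σ h) (σ h⁻¹)
    (by ext u; exact rep_apply_inv σ h u) (by ext u; exact rep_inv_apply σ h u)

@[simp] theorem repEquiv_apply (σ : Representation k H U) (h : H) (u : U) :
    repEquiv σ h u = σ h u := rfl

theorem rep_injective (σ : Representation k H U) (h : H) : Function.Injective (σ h) :=
  (repEquiv σ h).injective

theorem finrank_map_rep (σ : Representation k H U) (h : H) (W : Submodule k U) :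
    finrank k (W.map (σ h)) = finrank k W :=
  (repEquiv σ h).finrank_map_eq W

variable [Finite H] [DecidableEq H] [FiniteDimensional k U]

/-- freeness criterion: the translates span and the dimension count is right -/
theorem isInternal_translates (σ : Representation k H U) (W : Submodule k U)
    (hspan : (⨆ h : H, W.map (σ h)) = ⊤)
    (hdim : Nat.card H * finrank k W ≤ finrank k U) :
    DirectSum.IsInternal (fun h : H => W.map (σ h)) := by
  haveI := Fintype.ofFinite H
  refine isInternal_of_iSup_of_finrank_le _ hspan ?_
  simp only [finrank_map_rep]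
  rw [Finset.sum_const, Finset.card_univ, smul_eq_mul, ← Nat.card_eq_fintype_card]
  exact hdim

theorem finrank_of_isInternal_translates (σ : Representation k H U) (W : Submodule k U)
    (h : DirectSum.IsInternal (fun h : H => W.map (σ h))) :
    finrank k U = Nat.card H * finrank k W := by
  haveI := Fintype.ofFinite H
  rw [finrank_eq_sum_of_isInternal _ h]
  simp only [finrank_map_rep]
  rw [Finset.sum_const, Finset.card_univ, smul_eq_mul, ← Nat.card_eq_fintype_card]

end Rep


section Orth

variable {k : Type*} [Field k] {U : Type*} [AddCommGroup U] [Module k U] [FiniteDimensional k U]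

theorem finrank_range_add_orth (p q : Module.End k U) (hp : p * p = p) (hq : q * q = q)
    (hpq : p * q = 0) (hqp : q * p = 0) :
    finrank k (LinearMap.range (p + q)) =
      finrank k (LinearMap.range p) + finrank k (LinearMap.range q) := by
  have hsup : LinearMap.range (p + q) = LinearMap.range p ⊔ LinearMap.range q := by
    apply le_antisymm
    · rintro _ ⟨u, rfl⟩
      rw [LinearMap.add_apply]
      exact Submodule.add_mem_sup ⟨u, rfl⟩ ⟨u, rfl⟩
    · apply sup_le
      · rintro _ ⟨u, rfl⟩
        refine ⟨p u, ?_⟩
        have h1 : (p + q) (p u) = (p * p) u + (q * p) u := by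
          simp [LinearMap.add_apply]
        rw [h1, hp, hqp]; simp
      · rintro _ ⟨u, rfl⟩
        refine ⟨q u, ?_⟩
        have h1 : (p + q) (q u) = (p * q) u + (q * q) u := by
          simp [LinearMap.add_apply]
        rw [h1, hq, hpq]; simp
  have hinf : LinearMap.range p ⊓ LinearMap.range q = ⊥ := by
    rw [eq_bot_iff]
    rintro y ⟨⟨u, hu⟩, ⟨v, hv⟩⟩
    have h1 : p y = y := by
      rw [← hu]
      have : p (p u) = (p * p) u := rfl
      rw [this, hp]
    have h2 : p y = 0 := by
      rw [← hv]
      have : p (q v) = (p * q) v := rfl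
      rw [this, hpq]; rfl
    rw [Submodule.mem_bot, ← h1, h2]
  have h := Submodule.finrank_sup_add_finrank_inf_eq (LinearMap.range p) (LinearMap.range q)
  rw [hinf, finrank_bot, add_zero] at h
  rw [hsup, h]

open Classical in
theorem finrank_range_sum_orth (T : Finset (Module.End k U)) (hid : ∀ t ∈ T, t * t = t)
    (horth : ∀ t ∈ T, ∀ t' ∈ T, t ≠ t' → t * t' = 0) :
    (∑ t ∈ T, t) * (∑ t ∈ T, t) = ∑ t ∈ T, t ∧
    finrank k (LinearMap.range (∑ t ∈ T, t)) = ∑ t ∈ T, finrank k (LinearMap.range t) := by
  induction T using Finset.induction_on with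
  | empty =>
    refine ⟨by simp, ?_⟩
    rw [Finset.sum_empty, Finset.sum_empty, LinearMap.range_zero, finrank_bot]
  | insert a S ha ih =>
    have hidS : ∀ t ∈ S, t * t = t := fun t ht => hid t (Finset.mem_insert_of_mem ht)
    have horthS : ∀ t ∈ S, ∀ t' ∈ S, t ≠ t' → t * t' = 0 := fun t ht t' ht' hne =>
      horth t (Finset.mem_insert_of_mem ht) t' (Finset.mem_insert_of_mem ht') hne
    obtain ⟨ih1, ih2⟩ := ih hidS horthS
    have haa : a * a = a := hid a (Finset.mem_insert_self a S)
    have haS : a * (∑ t ∈ S, t) = 0 := by
      rw [Finset.mul_sum]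
      apply Finset.sum_eq_zero
      intro t ht
      exact horth a (Finset.mem_insert_self a S) t (Finset.mem_insert_of_mem ht)
        (fun h => ha (h ▸ ht))
    have hSa : (∑ t ∈ S, t) * a = 0 := by
      rw [Finset.sum_mul]
      apply Finset.sum_eq_zero
      intro t ht
      exact horth t (Finset.mem_insert_of_mem ht) a (Finset.mem_insert_self a S)
        (fun h => ha (h ▸ ht))
    rw [Finset.sum_insert ha, Finset.sum_insert ha]
    refine ⟨?_, ?_⟩
    · rw [mul_add, add_mul, add_mul, haa, haS, hSa, ih1]; simp
    · rw [finrank_range_add_orth a _ haa ih1 haS hSa, ih2]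

end Orth

end Cfsg.Agent.Lib.Helper8.FF
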