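import Mathlib
import Cfsg.Agent.Lib.Helper8.FF1

set_option autoImplicit false

/-! Maschke averaging: the algebra generated by a commuting coprime group action is reduced. -/

namespace Cfsg.Agent.Lib.Helper8.FF

open Module

section Maschke

variable {k : Type*} [Field k] {U : Type*} [AddCommGroup U] [Module k U]
variable {G : Type*} [Group G] [Fintype G]

/-- the averaged operator -/
noncomputable def avgOp (τ : Representation k G U) (π₀ : Module.End k U) : Module.End k U :=
  ((Fintype.card G : k)⁻¹) • ∑ z : G, τ z * π₀ * τ z⁻¹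

theorem avgOp_comm (τ : Representation k G U) (π₀ : Module.End k U) (y : G) :
    τ y * avgOp τ π₀ = avgOp τ π₀ * τ y := by
  unfold avgOp
  rw [mul_smul_comm, smul_mul_assoc, Finset.mul_sum, Finset.sum_mul]
  congr 1
  apply Fintype.sum_equiv (Equiv.mulLeft y)
  intro z
  show τ y * (τ z * π₀ * τ z⁻¹) = τ (y * z) * π₀ * τ (y * z)⁻¹ * τ y
  rw [mul_inv_rev, map_mul, map_mul]
  have h1 : τ y⁻¹ * τ y = 1 := by rw [← map_mul, inv_mul_cancel, map_one]
  simp only [mul_assoc, h1, mul_one]

theorem avgOp_apply_mem (τ : Representation k G U) (π₀ : Module.End k U) (S : Submodule k U)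
    (hS : ∀ (g : G) (u : U), u ∈ S → τ g u ∈ S) (hπ₀ : ∀ u, π₀ u ∈ S) (u : U) :
    avgOp τ π₀ u ∈ S := by
  unfold avgOp
  rw [LinearMap.smul_apply, LinearMap.sum_apply]
  apply S.smul_mem
  apply S.sum_mem
  intro z _
  exact hS z _ (hπ₀ _)

theorem avgOp_apply_of_mem (τ : Representation k G U) (hG : (Fintype.card G : k) ≠ 0)
    (π₀ : Module.End k U) (S : Submodule k U)
    (hS : ∀ (g : G) (u : U), u ∈ S → τ g u ∈ S) (hπ₀ : ∀ u ∈ S, π₀ u = u) (u : U) (hu : u ∈ S) :
    avgOp τ π₀ u = u := by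
  unfold avgOp
  rw [LinearMap.smul_apply, LinearMap.sum_apply]
  have h1 : ∀ z : G, (τ z * π₀ * τ z⁻¹) u = u := by
    intro z
    show τ z (π₀ (τ z⁻¹ u)) = u
    rw [hπ₀ _ (hS z⁻¹ u hu), rep_apply_inv]
  simp only [h1]
  rw [Finset.sum_const, Finset.card_univ, ← Nat.cast_smul_eq_nsmul k, smul_smul,
    inv_mul_cancel₀ hG, one_smul]

theorem eq_zero_of_sq_zero_of_adjoin (τ : Representation k G U) (hG : (Fintype.card G : k) ≠ 0)
    (a : Module.End k U) (ha : a ∈ Algebra.adjoin k (Set.range τ))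
    (hcomm : ∀ g, a * τ g = τ g * a) (hsq : a * a = 0) : a = 0 := by
  let S : Submodule k U := LinearMap.range a
  have hS : ∀ (g : G) (u : U), u ∈ S → τ g u ∈ S := by
    rintro g _ ⟨w, rfl⟩
    refine ⟨τ g w, ?_⟩
    have := congrArg (fun f : Module.End k U => f w) (hcomm g)
    exact this
  obtain ⟨g₀, hg₀⟩ := LinearMap.exists_leftInverse_of_injective S.subtype S.ker_subtype
  let π₀ : Module.End k U := S.subtype ∘ₗ g₀
  have hπ₀S : ∀ u, π₀ u ∈ S := fun u => (g₀ u).2
  have hπ₀id : ∀ u ∈ S, π₀ u = u := by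
    intro u hu
    have := congrArg (fun f : S →ₗ[k] S => (f ⟨u, hu⟩ : U)) hg₀
    exact this
  set π := avgOp τ π₀ with hπ
  have hπS : ∀ u, π u ∈ S := avgOp_apply_mem τ π₀ S hS hπ₀S
  have hπid : ∀ u ∈ S, π u = u := avgOp_apply_of_mem τ hG π₀ S hS hπ₀id
  have hπcomm : a * π = π * a := by
    have hle : Algebra.adjoin k (Set.range τ) ≤ Subalgebra.centralizer k {π} := by
      apply Algebra.adjoin_le
      rintro _ ⟨y, rfl⟩
      rw [SetLike.mem_coe, Subalgebra.mem_centralizer_iff]
      intro b hb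
      rw [Set.mem_singleton_iff] at hb
      rw [hb]
      exact (avgOp_comm τ π₀ y).symm
    have := hle ha
    rw [Subalgebra.mem_centralizer_iff] at this
    exact (this π (Set.mem_singleton π)).symm
  have h1 : a = π * a := by
    ext u
    exact (hπid (a u) ⟨u, rfl⟩).symm
  have h2 : a * π = 0 := by
    ext u
    obtain ⟨w, hw⟩ := hπS u
    show a (π u) = 0
    rw [← hw]
    have := congrArg (fun f : Module.End k U => f w) hsq
    exact this
  rw [h1, ← hπcomm, h2]

end Maschke

end Cfsg.Agent.Lib.Helper8.FF
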