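import Mathlib
import Cfsg.Agent.Lib.Helper8.FF1
import Cfsg.Agent.Lib.Helper8.FF4

set_option autoImplicit false

/-! The data of a coprime fixed-point-free configuration acting on a vector space. -/

namespace Cfsg.Agent.Lib.Helper8.FF

open Module
open scoped commutatorElement

universe u v

/-- `M` and `H` act on `U`, `H` acts on `M` fixed-point-freely, and `M` fixes no nonzero vector. -/
structure Dat (k : Type*) (M : Type*) [Field k] [Group M] (H : Type u) [Group H] (U : Type v)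
    [AddCommGroup U] [Module k U] where
  τ : Representation k M U
  σ : Representation k H U
  φ : H →* MulAut M
  compat : ∀ (h : H) (x : M), σ h * τ x = τ (φ h x) * σ h
  fpf : ∀ h : H, h ≠ 1 → ∀ x : M, φ h x = x → x = 1
  cfix : ∀ u : U, (∀ x : M, τ x u = u) → u = 0

namespace Dat

variable {k : Type*} {M : Type*} [Field k] [Group M] {H : Type u} [Group H] {U : Type v}
  [AddCommGroup U] [Module k U] (D : Dat k M H U)

/-- conjugation by `σ h` on endomorphisms -/
def cj (h : H) (a : Module.End k U) : Module.End k U := D.σ h * a * D.σ h⁻¹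

theorem σ_inv_mul (h : H) : D.σ h⁻¹ * D.σ h = 1 := by rw [← map_mul, inv_mul_cancel, map_one]

theorem σ_mul_inv (h : H) : D.σ h * D.σ h⁻¹ = 1 := by rw [← map_mul, mul_inv_cancel, map_one]

theorem cj_apply (h : H) (a : Module.End k U) (u : U) : D.cj h a u = D.σ h (a (D.σ h⁻¹ u)) := rfl

theorem cj_one_left (a : Module.End k U) : D.cj 1 a = a := by
  unfold cj; rw [inv_one, map_one, one_mul, mul_one]

theorem cj_mul_left (g h : H) (a : Module.End k U) : D.cj (g * h) a = D.cj g (D.cj h a) := by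
  unfold cj; rw [mul_inv_rev, map_mul, map_mul]; simp only [mul_assoc]

theorem cj_mul (h : H) (a b : Module.End k U) : D.cj h (a * b) = D.cj h a * D.cj h b := by
  unfold cj
  calc D.σ h * (a * b) * D.σ h⁻¹ = D.σ h * a * (1 * (b * D.σ h⁻¹)) := by
        rw [one_mul]; simp only [mul_assoc]
    _ = _ := by rw [← D.σ_inv_mul h]; simp only [mul_assoc]

theorem cj_add (h : H) (a b : Module.End k U) : D.cj h (a + b) = D.cj h a + D.cj h b := by
  unfold cj; rw [mul_add, add_mul]

theorem cj_zero (h : H) : D.cj h 0 = 0 := by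
  unfold cj; rw [mul_zero, zero_mul]

theorem cj_one (h : H) : D.cj h 1 = 1 := by
  unfold cj; rw [mul_one, D.σ_mul_inv]

theorem cj_sub (h : H) (a b : Module.End k U) : D.cj h (a - b) = D.cj h a - D.cj h b := by
  unfold cj; rw [mul_sub, sub_mul]

theorem cj_sum {ι : Type*} (h : H) (s : Finset ι) (f : ι → Module.End k U) :
    D.cj h (∑ i ∈ s, f i) = ∑ i ∈ s, D.cj h (f i) := by
  unfold cj; rw [Finset.mul_sum, Finset.sum_mul]

theorem cj_algebraMap (h : H) (c : k) :
    D.cj h (algebraMap k (Module.End k U) c) = algebraMap k (Module.End k U) c := by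
  unfold cj
  rw [← Algebra.commutes c (D.σ h), mul_assoc, D.σ_mul_inv, mul_one]

theorem cj_τ (h : H) (x : M) : D.cj h (D.τ x) = D.τ (D.φ h x) := by
  unfold cj
  rw [D.compat, mul_assoc, D.σ_mul_inv, mul_one]

theorem cj_inv_cj (h : H) (a : Module.End k U) : D.cj h⁻¹ (D.cj h a) = a := by
  rw [← cj_mul_left, inv_mul_cancel, cj_one_left]

theorem cj_cj_inv (h : H) (a : Module.End k U) : D.cj h (D.cj h⁻¹ a) = a := by
  rw [← cj_mul_left, mul_inv_cancel, cj_one_left]

theorem cj_injective (h : H) : Function.Injective (D.cj h) := by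
  intro a b hab
  rw [← D.cj_inv_cj h a, hab, D.cj_inv_cj]

theorem cj_eq_zero_iff (h : H) (a : Module.End k U) : D.cj h a = 0 ↔ a = 0 := by
  constructor
  · intro h0
    apply D.cj_injective h
    rw [h0, cj_zero]
  · rintro rfl; exact D.cj_zero h

theorem cj_eq_one_iff (h : H) (a : Module.End k U) : D.cj h a = 1 ↔ a = 1 := by
  constructor
  · intro h0
    apply D.cj_injective h
    rw [h0, cj_one]
  · rintro rfl; exact D.cj_one h

theorem range_cj (h : H) (a : Module.End k U) :
    LinearMap.range (D.cj h a) = (LinearMap.range a).map (D.σ h) := by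
  ext u
  constructor
  · rintro ⟨w, rfl⟩
    exact ⟨a (D.σ h⁻¹ w), ⟨_, rfl⟩, rfl⟩
  · rintro ⟨_, ⟨w, rfl⟩, rfl⟩
    refine ⟨D.σ h w, ?_⟩
    rw [cj_apply, rep_inv_apply]

theorem finrank_range_cj (h : H) (a : Module.End k U) :
    finrank k (LinearMap.range (D.cj h a)) = finrank k (LinearMap.range a) := by
  rw [range_cj, finrank_map_rep]

/-- elements of `M` whose image is central in the image of `M` -/
def Z : Subgroup M where
  carrier := {x | ∀ y, D.τ x * D.τ y = D.τ y * D.τ x}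
  mul_mem' := by
    intro a b ha hb y
    rw [map_mul, mul_assoc, hb y, ← mul_assoc, ha y, mul_assoc]
  one_mem' := by
    intro y; rw [map_one, one_mul, mul_one]
  inv_mem' := by
    intro a ha y
    have h1 : D.τ a⁻¹ * D.τ a = 1 := by rw [← map_mul, inv_mul_cancel, map_one]
    have h2 : D.τ a * D.τ a⁻¹ = 1 := by rw [← map_mul, mul_inv_cancel, map_one]
    calc D.τ a⁻¹ * D.τ y = D.τ a⁻¹ * D.τ y * (D.τ a * D.τ a⁻¹) := by rw [h2, mul_one]
      _ = D.τ a⁻¹ * (D.τ y * D.τ a) * D.τ a⁻¹ := by simp only [mul_assoc]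
      _ = D.τ a⁻¹ * (D.τ a * D.τ y) * D.τ a⁻¹ := by rw [ha y]
      _ = (D.τ a⁻¹ * D.τ a) * D.τ y * D.τ a⁻¹ := by simp only [mul_assoc]
      _ = D.τ y * D.τ a⁻¹ := by rw [h1, one_mul]

theorem mem_Z (x : M) : x ∈ D.Z ↔ ∀ y, D.τ x * D.τ y = D.τ y * D.τ x := Iff.rfl

theorem φ_mem_Z (h : H) (x : M) (hx : x ∈ D.Z) : D.φ h x ∈ D.Z := by
  intro y
  have hy : y = D.φ h ((D.φ h).symm y) := ((D.φ h).apply_symm_apply y).symm
  rw [hy, ← cj_τ, ← cj_τ, ← cj_mul, ← cj_mul, hx]

/-- the commutative algebra generated by the image of `Z` -/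
def RZ : Subalgebra k (Module.End k U) := Algebra.adjoin k (D.τ '' (D.Z : Set M))

theorem τ_mem_RZ (x : M) (hx : x ∈ D.Z) : D.τ x ∈ D.RZ :=
  Algebra.subset_adjoin ⟨x, hx, rfl⟩

theorem RZ_comm_τ (a : Module.End k U) (ha : a ∈ D.RZ) (y : M) : a * D.τ y = D.τ y * a := by
  have hle : D.RZ ≤ Subalgebra.centralizer k {D.τ y} := by
    apply Algebra.adjoin_le
    rintro _ ⟨x, hx, rfl⟩
    rw [SetLike.mem_coe, Subalgebra.mem_centralizer_iff]
    intro b hb
    rw [Set.mem_singleton_iff] at hb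
    rw [hb]
    exact (hx y).symm
  have := hle ha
  rw [Subalgebra.mem_centralizer_iff] at this
  exact (this _ (Set.mem_singleton _)).symm

theorem RZ_comm (a b : Module.End k U) (ha : a ∈ D.RZ) (hb : b ∈ D.RZ) : a * b = b * a := by
  have hle : D.RZ ≤ Subalgebra.centralizer k {a} := by
    apply Algebra.adjoin_le
    rintro _ ⟨x, hx, rfl⟩
    rw [SetLike.mem_coe, Subalgebra.mem_centralizer_iff]
    intro c hc
    rw [Set.mem_singleton_iff] at hc
    rw [hc]
    exact D.RZ_comm_τ a ha x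
  have := hle hb
  rw [Subalgebra.mem_centralizer_iff] at this
  exact this _ (Set.mem_singleton _)

theorem cj_mem_RZ (h : H) (a : Module.End k U) (ha : a ∈ D.RZ) : D.cj h a ∈ D.RZ := by
  unfold RZ at ha
  induction ha using Algebra.adjoin_induction with
  | mem x hx =>
    obtain ⟨z, hz, rfl⟩ := hx
    rw [cj_τ]
    exact D.τ_mem_RZ _ (D.φ_mem_Z h z hz)
  | algebraMap c =>
    rw [cj_algebraMap]
    exact Subalgebra.algebraMap_mem _ c
  | add x y _ _ hx hy =>
    rw [cj_add]
    exact Subalgebra.add_mem _ hx hy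
  | mul x y _ _ hx hy =>
    rw [cj_mul]
    exact Subalgebra.mul_mem _ hx hy


theorem RZ_red [Finite M] (hM : (Nat.card M : k) ≠ 0) (a : Module.End k U) (ha : a ∈ D.RZ)
    (hsq : a * a = 0) : a = 0 := by
  haveI := Fintype.ofFinite ↥D.Z
  have hZ : (Fintype.card ↥D.Z : k) ≠ 0 := by
    intro h0
    apply hM
    rw [← Subgroup.card_mul_index D.Z, Nat.cast_mul, Nat.card_eq_fintype_card, h0, zero_mul]
  let τ' : Representation k ↥D.Z U := D.τ.comp D.Z.subtype
  have hrange : Set.range τ' = D.τ '' (D.Z : Set M) := by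
    ext b
    constructor
    · rintro ⟨z, rfl⟩
      exact ⟨z, z.2, rfl⟩
    · rintro ⟨z, hz, rfl⟩
      exact ⟨⟨z, hz⟩, rfl⟩
  have ha' : a ∈ Algebra.adjoin k (Set.range τ') := by
    rw [hrange]; exact ha
  exact eq_zero_of_sq_zero_of_adjoin τ' hZ a ha' (fun g => D.RZ_comm_τ a ha g) hsq

theorem exists_τ_ne_one [Nontrivial U] : ∃ y : M, D.τ y ≠ 1 := by
  by_contra hcon
  push Not at hcon
  obtain ⟨u, hu⟩ := exists_ne (0 : U)
  apply hu
  apply D.cfix
  intro x
  rw [hcon x]; rfl

theorem exists_Z_ne_one [Nontrivial U] (hnil : Group.IsNilpotent M) :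
    ∃ z ∈ D.Z, D.τ z ≠ 1 := by
  by_contra hcon
  push Not at hcon
  obtain ⟨n, hn⟩ := Subgroup.nilpotent_iff_lowerCentralSeries.mp hnil
  have key : ∀ j : ℕ, j ≤ n → ∀ x ∈ (⊤ : Subgroup M).lowerCentralSeries (n - j), D.τ x = 1 := by
    intro j
    induction j with
    | zero =>
      intro _ x hx
      rw [Nat.sub_zero, hn, Subgroup.mem_bot] at hx
      rw [hx, map_one]
    | succ j ih =>
      intro hj x hx
      apply hcon
      intro y
      have h1 : n - j = (n - (j + 1)) + 1 := by omega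
      have h2 : ⁅x, y⁆ ∈ (⊤ : Subgroup M).lowerCentralSeries (n - j) := by
        rw [h1, Subgroup.mem_lowerCentralSeries_succ_iff]
        exact Subgroup.subset_closure ⟨x, hx, y, Subgroup.mem_top y, rfl⟩
      have h3 := ih (by omega) _ h2
      rw [commutatorElement_def, map_mul, map_mul, map_mul] at h3
      have hx1 : D.τ x⁻¹ * D.τ x = 1 := by rw [← map_mul, inv_mul_cancel, map_one]
      have hy1 : D.τ y⁻¹ * D.τ y = 1 := by rw [← map_mul, inv_mul_cancel, map_one]
      calc D.τ x * D.τ y = (D.τ x * D.τ y * D.τ x⁻¹ * D.τ y⁻¹) * D.τ y * D.τ x := by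
            simp only [mul_assoc]
            rw [← mul_assoc (D.τ y⁻¹), hy1, one_mul, hx1, mul_one]
        _ = D.τ y * D.τ x := by rw [h3, one_mul]
  obtain ⟨y, hy⟩ := D.exists_τ_ne_one
  apply hy
  apply key n le_rfl
  rw [Nat.sub_self, Subgroup.lowerCentralSeries_zero]
  exact Subgroup.mem_top y

end Dat

end Cfsg.Agent.Lib.Helper8.FF
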