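import Mathlib
import Cfsg.Agent.Lib.Helper8.FF6

set_option autoImplicit false

/-! Restriction of the configuration to invariant subspaces and subgroups. -/

namespace Cfsg.Agent.Lib.Helper8.FF

open Module

universe u v

section Restrict

variable {k : Type*} [Field k] {U : Type v} [AddCommGroup U] [Module k U]
variable {G : Type*} [Group G]

/-- restriction of a representation to an invariant subspace -/
def restrictRep (ρ : Representation k G U) (S : Submodule k U)
    (hS : ∀ (g : G), ∀ u ∈ S, ρ g u ∈ S) : Representation k G ↥S where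
  toFun g := (ρ g).restrict (hS g)
  map_one' := by
    ext u
    show ρ 1 (u : U) = u
    rw [map_one]; rfl
  map_mul' := by
    intro g h
    ext u
    show ρ (g * h) (u : U) = ρ g (ρ h u)
    rw [map_mul]; rfl

@[simp] theorem restrictRep_apply (ρ : Representation k G U) (S : Submodule k U)
    (hS : ∀ (g : G), ∀ u ∈ S, ρ g u ∈ S) (g : G) (u : ↥S) :
    ((restrictRep ρ S hS g u : ↥S) : U) = ρ g (u : U) := rfl

theorem map_restrictRep (ρ : Representation k G U) (S : Submodule k U)
    (hS : ∀ (g : G), ∀ u ∈ S, ρ g u ∈ S) (g : G) (W : Submodule k ↥S) :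
    (W.map (restrictRep ρ S hS g)).map S.subtype = (W.map S.subtype).map (ρ g) := by
  ext u
  constructor
  · rintro ⟨_, ⟨w, hw, rfl⟩, rfl⟩
    exact ⟨(w : U), ⟨w, hw, rfl⟩, rfl⟩
  · rintro ⟨_, ⟨w, hw, rfl⟩, rfl⟩
    exact ⟨restrictRep ρ S hS g w, ⟨w, hw, rfl⟩, rfl⟩

end Restrict

namespace Dat

variable {k : Type*} {M : Type*} [Field k] [Group M] {H : Type u} [Group H] {U : Type v}
  [AddCommGroup U] [Module k U] (D : Dat k M H U)

/-- restriction to an invariant subspace and a subgroup -/
def restrict (S : Submodule k U) (hτ : ∀ (x : M), ∀ u ∈ S, D.τ x u ∈ S) (K : Subgroup H)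
    (hσ : ∀ h ∈ K, ∀ u ∈ S, D.σ h u ∈ S) : Dat k M ↥K ↥S where
  τ := restrictRep D.τ S hτ
  σ := restrictRep (D.σ.comp K.subtype) S (fun h u hu => hσ h h.2 u hu)
  φ := D.φ.comp K.subtype
  compat := by
    intro h x
    ext u
    have := congrArg (fun f : Module.End k U => f (u : U)) (D.compat (h : H) x)
    exact this
  fpf := by
    intro h hh x hx
    exact D.fpf (h : H) (fun h1 => hh (Subtype.ext h1)) x hx
  cfix := by
    intro u hu
    apply Subtype.ext
    apply D.cfix
    intro x
    have := congrArg (fun w : ↥S => (w : U)) (hu x)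
    exact this

theorem restrict_σ_apply (S : Submodule k U) (hτ : ∀ (x : M), ∀ u ∈ S, D.τ x u ∈ S)
    (K : Subgroup H) (hσ : ∀ h ∈ K, ∀ u ∈ S, D.σ h u ∈ S) (h : ↥K) (u : ↥S) :
    (((D.restrict S hτ K hσ).σ h u : ↥S) : U) = D.σ (h : H) (u : U) := rfl

/-- a free generating subspace for the restriction gives one inside `S` -/
theorem restrict_free [FiniteDimensional k U] (S : Submodule k U)
    (hτ : ∀ (x : M), ∀ u ∈ S, D.τ x u ∈ S)
    (K : Subgroup H) [Finite ↥K] [DecidableEq ↥K] (hσ : ∀ h ∈ K, ∀ u ∈ S, D.σ h u ∈ S)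
    (W : Submodule k ↥S)
    (hW : DirectSum.IsInternal (fun h : ↥K => W.map ((D.restrict S hτ K hσ).σ h))) :
    ∃ W' : Submodule k U, W' ≤ S ∧ (⨆ h : ↥K, W'.map (D.σ (h : H))) = S ∧
      Nat.card ↥K * finrank k W' = finrank k S := by
  refine ⟨W.map S.subtype, ?_, ?_, ?_⟩
  · rintro _ ⟨w, _, rfl⟩
    exact w.2
  · have h1 := hW.submodule_iSup_eq_top
    have h2 := congrArg (Submodule.map S.subtype) h1
    rw [Submodule.map_iSup, Submodule.map_top, Submodule.range_subtype] at h2
    refine Eq.trans ?_ h2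
    apply iSup_congr
    intro h
    exact (map_restrictRep (D.σ.comp K.subtype) S (fun h u hu => hσ h h.2 u hu) h W).symm
  · rw [Submodule.finrank_map_subtype_eq]
    exact (finrank_of_isInternal_translates _ W hW).symm

end Dat

end Cfsg.Agent.Lib.Helper8.FF
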