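import Mathlib
import Cfsg.Agent.Lib.Helper8.FF7

set_option autoImplicit false

/-! Schur's lemma and the prime-power dimension of irreducible representations of `q`-groups
over an algebraically closed field. -/

namespace Cfsg.Agent.Lib.Helper8.HB

open Module

universe u v

section Schur

variable {K : Type*} [Field K] {V : Type*} [AddCommGroup V] [Module K V]
  {Q : Type*} [Group Q]

/-- irreducibility, in the form used by the statement -/
def Irr (ρ : Representation K Q V) : Prop :=
  ∀ W : Submodule K V, (∀ g, W.map (ρ g) ≤ W) → W = ⊥ ∨ W = ⊤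

theorem schur [IsAlgClosed K] [FiniteDimensional K V] [Nontrivial V]
    (ρ : Representation K Q V) (hirr : Irr ρ) (f : Module.End K V)
    (hf : ∀ g, f * ρ g = ρ g * f) : ∃ a : K, f = algebraMap K (Module.End K V) a := by
  obtain ⟨a, ha⟩ := Module.End.exists_eigenvalue f
  refine ⟨a, ?_⟩
  have hinv : ∀ g, (f.eigenspace a).map (ρ g) ≤ f.eigenspace a := by
    intro g
    rintro _ ⟨v, hv, rfl⟩
    rw [SetLike.mem_coe, Module.End.mem_eigenspace_iff] at hv
    rw [Module.End.mem_eigenspace_iff]
    have h1 := congrArg (fun e : Module.End K V => e v) (hf g)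
    simp only [Module.End.mul_apply] at h1
    rw [h1, hv, map_smul]
  have h1 : f.eigenspace a = ⊤ := by
    rcases hirr (f.eigenspace a) hinv with h | h
    · exact absurd h ha
    · exact h
  ext v
  have hv : v ∈ f.eigenspace a := by rw [h1]; trivial
  rw [Module.End.mem_eigenspace_iff] at hv
  rw [hv, Module.algebraMap_end_apply]

theorem rep_inv_mul (ρ : Representation K Q V) (g : Q) : ρ g⁻¹ * ρ g = 1 := by
  rw [← map_mul, inv_mul_cancel, map_one]

theorem rep_mul_inv (ρ : Representation K Q V) (g : Q) : ρ g * ρ g⁻¹ = 1 := by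
  rw [← map_mul, mul_inv_cancel, map_one]

/-- the action of the group on subspaces -/
@[reducible] def subAct (ρ : Representation K Q V) : MulAction Q (Submodule K V) where
  smul g W := W.map (ρ g)
  one_smul W := by
    show W.map (ρ 1) = W
    rw [map_one]; exact Submodule.map_id W
  mul_smul g h W := by
    show W.map (ρ (g * h)) = (W.map (ρ h)).map (ρ g)
    rw [map_mul]; exact Submodule.map_comp (ρ h) (ρ g) W

/-- if all group elements act by scalars an irreducible module is one-dimensional -/
theorem finrank_eq_one_of_scalar [Nontrivial V]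
    (ρ : Representation K Q V) (hirr : Irr ρ)
    (hs : ∀ g, ∃ a : K, ρ g = algebraMap K (Module.End K V) a) : finrank K V = 1 := by
  obtain ⟨v, hv⟩ := exists_ne (0 : V)
  have hinv : ∀ g, (Submodule.span K {v}).map (ρ g) ≤ Submodule.span K {v} := by
    intro g
    rintro _ ⟨w, hw, rfl⟩
    obtain ⟨a, ha⟩ := hs g
    rw [ha, Module.algebraMap_end_apply]
    exact Submodule.smul_mem _ _ hw
  have h1 : Submodule.span K {v} = ⊤ := by
    rcases hirr (Submodule.span K {v}) hinv with h | h
    · exfalso
      rw [Submodule.span_singleton_eq_bot] at h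
      exact hv h
    · exact h
  rw [← finrank_top K V, ← h1]
  exact finrank_span_singleton hv

end Schur


section Main

variable {K : Type*} [Field K]

/-- a non-scalar element all of whose commutators act as scalars -/
theorem exists_key {Q : Type*} [Group Q] [Finite Q] (q : ℕ) [Fact q.Prime] (hQ : IsPGroup q Q)
    {V : Type*} [AddCommGroup V] [Module K V]
    (ρ : Representation K Q V)
    (hns : ¬ ∀ g, ∃ a : K, ρ g = algebraMap K (Module.End K V) a) :
    ∃ u : Q, (¬ ∃ a : K, ρ u = algebraMap K (Module.End K V) a) ∧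
      ∀ g : Q, ∃ a : K, ρ u * ρ g = a • (ρ g * ρ u) := by
  classical
  push Not at hns
  obtain ⟨u₀, hu₀⟩ := hns
  haveI := hQ.isNilpotent
  obtain ⟨n, hn⟩ := Group.IsNilpotent.nilpotent Q
  have hex : ∃ i, ∃ g ∈ Subgroup.upperCentralSeries Q i,
      ¬ ∃ a : K, ρ g = algebraMap K (Module.End K V) a :=
    ⟨n, u₀, by rw [hn]; trivial, by push Not; exact hu₀⟩
  obtain ⟨u, hu, hus⟩ := Nat.find_spec hex
  have hmin := fun j (hj : j < Nat.find hex) => Nat.find_min hex hj
  refine ⟨u, hus, ?_⟩
  rcases Nat.eq_zero_or_eq_succ_pred (Nat.find hex) with hi | hi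
  · rw [hi, Subgroup.upperCentralSeries_zero, Subgroup.mem_bot] at hu
    exfalso; apply hus; exact ⟨1, by rw [hu, map_one, map_one]⟩
  · rw [hi, Subgroup.mem_upperCentralSeries_succ_iff] at hu
    intro g
    have h1 := hu g
    have h2 : ∃ a : K, ρ (u * g * u⁻¹ * g⁻¹) = algebraMap K (Module.End K V) a := by
      by_contra hcon
      exact hmin (Nat.find hex).pred (by omega) ⟨_, h1, hcon⟩
    obtain ⟨a, ha⟩ := h2
    refine ⟨a, ?_⟩
    have h3 : u * g = (u * g * u⁻¹ * g⁻¹) * (g * u) := by group
    rw [← map_mul, h3, map_mul, ha, map_mul, Algebra.algebraMap_eq_smul_one, smul_mul_assoc,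
      one_mul]


variable [IsAlgClosed K]

theorem finrank_eq_prime_pow (q : ℕ) [Fact q.Prime] :
    ∀ (n : ℕ) (Q : Type u) [Group Q] [Finite Q] (_ : IsPGroup q Q) (_ : Nat.card Q = n)
      (V : Type v) [AddCommGroup V] [Module K V] [FiniteDimensional K V] [Nontrivial V]
      (ρ : Representation K Q V) (_ : Irr ρ), ∃ b : ℕ, finrank K V = q ^ b := by
  intro n
  induction n using Nat.strong_induction_on with
  | _ n ih =>
  intro Q _ _ hQ hn V _ _ _ _ ρ hirr
  by_cases hs : ∀ g, ∃ a : K, ρ g = algebraMap K (Module.End K V) a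
  · exact ⟨0, by rw [pow_zero]; exact finrank_eq_one_of_scalar ρ hirr hs⟩
  obtain ⟨u, hus, hR⟩ := exists_key q hQ ρ hs
  obtain ⟨μ₀, hμ₀⟩ := Module.End.exists_eigenvalue (ρ u)
  set V₀ := Module.End.eigenspace (ρ u) μ₀ with hV₀
  have hV₀bot : V₀ ≠ ⊥ := hμ₀
  have hV₀top : V₀ ≠ ⊤ := by
    intro h
    apply hus
    refine ⟨μ₀, ?_⟩
    ext v
    have hv : v ∈ V₀ := by rw [h]; trivial
    rw [hV₀, Module.End.mem_eigenspace_iff] at hv
    rw [hv, Module.algebraMap_end_apply]
  -- translates are eigenspaces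
  have htr : ∀ g : Q, ∃ ν : K, V₀.map (ρ g) = Module.End.eigenspace (ρ u) ν := by
    intro g
    obtain ⟨a, ha⟩ := hR g
    have ha0 : a ≠ 0 := by
      intro h0
      rw [h0, zero_smul] at ha
      have h1 : (1 : Module.End K V) = 0 := by
        calc (1 : Module.End K V) = ρ (u * g)⁻¹ * (ρ u * ρ g) := by
              rw [← map_mul, ← map_mul, inv_mul_cancel, map_one]
          _ = 0 := by rw [ha, mul_zero]
      exact one_ne_zero h1
    refine ⟨a * μ₀, le_antisymm ?_ ?_⟩
    · rintro _ ⟨v, hv, rfl⟩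
      rw [SetLike.mem_coe, hV₀, Module.End.mem_eigenspace_iff] at hv
      rw [Module.End.mem_eigenspace_iff]
      have h1 := congrArg (fun e : Module.End K V => e v) ha
      simp only [Module.End.mul_apply, LinearMap.smul_apply] at h1
      rw [h1, hv, map_smul, smul_smul]
    · intro w hw
      rw [Module.End.mem_eigenspace_iff] at hw
      have h2 : ρ g⁻¹ * ρ u = a • (ρ u * ρ g⁻¹) := by
        calc ρ g⁻¹ * ρ u = ρ g⁻¹ * (ρ u * ρ g) * ρ g⁻¹ := by
              rw [mul_assoc, mul_assoc, rep_mul_inv, mul_one]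
          _ = ρ g⁻¹ * (a • (ρ g * ρ u)) * ρ g⁻¹ := by rw [ha]
          _ = a • (ρ u * ρ g⁻¹) := by
              rw [mul_smul_comm, smul_mul_assoc, ← mul_assoc, rep_inv_mul, one_mul]
      refine ⟨ρ g⁻¹ w, ?_, ?_⟩
      · rw [SetLike.mem_coe, hV₀, Module.End.mem_eigenspace_iff]
        have h3 := congrArg (fun e : Module.End K V => e w) h2
        simp only [Module.End.mul_apply, LinearMap.smul_apply] at h3
        rw [hw, map_smul, mul_smul] at h3
        exact (smul_right_injective V ha0 h3).symm
      · exact FF.rep_apply_inv ρ g w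
  letI : MulAction Q (Submodule K V) := subAct ρ
  haveI : Finite (MulAction.orbit Q V₀) := (Set.finite_range _).to_subtype
  obtain ⟨c, hc⟩ := hQ.card_orbit V₀
  have hν : ∀ o : MulAction.orbit Q V₀, ∃ ν : K, (o : Submodule K V) = Module.End.eigenspace (ρ u) ν := by
    rintro ⟨o, g, rfl⟩
    exact htr g
  choose ν hν using hν
  have hνinj : Function.Injective ν := by
    intro o o' h
    apply Subtype.ext
    rw [hν o, hν o', h]
  have hind : iSupIndep (fun o : MulAction.orbit Q V₀ => (o : Submodule K V)) := by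
    have h1 := (Module.End.eigenspaces_iSupIndep (ρ u)).comp hνinj
    have h2 : (fun o : MulAction.orbit Q V₀ => (o : Submodule K V)) = Module.End.eigenspace (ρ u) ∘ ν := by
      funext o; exact hν o
    rw [h2]; exact h1
  have hsupinv : ∀ g, (⨆ o : MulAction.orbit Q V₀, (o : Submodule K V)).map (ρ g) ≤
      ⨆ o : MulAction.orbit Q V₀, (o : Submodule K V) := by
    intro g
    rw [Submodule.map_iSup]
    apply iSup_le
    rintro ⟨o, k, rfl⟩
    have h1 : (g * k) • V₀ ∈ MulAction.orbit Q V₀ := MulAction.mem_orbit V₀ (g * k)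
    have h2 : (V₀.map (ρ k)).map (ρ g) = (g * k) • V₀ := (mul_smul g k V₀).symm
    show (V₀.map (ρ k)).map (ρ g) ≤ _
    rw [h2]
    exact le_iSup (fun o : MulAction.orbit Q V₀ => (o : Submodule K V)) ⟨(g * k) • V₀, h1⟩
  have hsup : (⨆ o : MulAction.orbit Q V₀, (o : Submodule K V)) = ⊤ := by
    rcases hirr _ hsupinv with h | h
    · exfalso
      apply hV₀bot
      rw [eq_bot_iff, ← h]
      exact le_iSup (fun o : MulAction.orbit Q V₀ => (o : Submodule K V))
        ⟨V₀, MulAction.mem_orbit_self V₀⟩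
    · exact h
  classical
  haveI : Fintype (MulAction.orbit Q V₀) := Fintype.ofFinite _
  have hint := DirectSum.isInternal_submodule_of_iSupIndep_of_iSup_eq_top hind hsup
  have hdim := FF.finrank_eq_sum_of_isInternal _ hint
  have hdim2 : ∀ o : MulAction.orbit Q V₀, finrank K (o : Submodule K V) = finrank K V₀ := by
    rintro ⟨o, g, rfl⟩
    exact FF.finrank_map_rep ρ g V₀
  rw [Finset.sum_congr rfl (fun o _ => hdim2 o), Finset.sum_const, Finset.card_univ, smul_eq_mul,
    ← Nat.card_eq_fintype_card, hc] at hdim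
  -- the stabilizer
  set T := MulAction.stabilizer Q V₀ with hT
  have hTtop : T ≠ ⊤ := by
    intro h
    have hinv : ∀ g, V₀.map (ρ g) ≤ V₀ := by
      intro g
      have h1 : g ∈ T := by rw [h]; trivial
      rw [hT, MulAction.mem_stabilizer_iff] at h1
      exact le_of_eq h1
    rcases hirr V₀ hinv with h' | h'
    · exact hV₀bot h'
    · exact hV₀top h'
  have hTcard : Nat.card T < n := by
    rw [← hn]
    exact lt_of_le_of_ne (Subgroup.card_le_card_group T)
      (fun h => hTtop ((Subgroup.card_eq_iff_eq_top T).mp h))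
  have hTmap : ∀ t : T, V₀.map (ρ (t : Q)) = V₀ := by
    intro t
    exact MulAction.mem_stabilizer_iff.mp t.2
  have hTinv : ∀ (t : T), ∀ v ∈ V₀, (ρ.comp T.subtype) t v ∈ V₀ := by
    intro t v hv
    have h1 : ρ (t : Q) v ∈ V₀.map (ρ (t : Q)) := ⟨v, hv, rfl⟩
    rw [hTmap t] at h1
    exact h1
  haveI : Nontrivial V₀ := (Submodule.nontrivial_iff_ne_bot).mpr hV₀bot
  have hirrT : Irr (FF.restrictRep (ρ.comp T.subtype) V₀ hTinv) := by
    intro W' hW'
    set V₁ := W'.map V₀.subtype with hV₁
    have hV₁le : V₁ ≤ V₀ := by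
      rintro _ ⟨w, _, rfl⟩
      exact w.2
    have hV₁inv : ∀ t : T, V₁.map (ρ (t : Q)) ≤ V₁ := by
      intro t
      have h1 := FF.map_restrictRep (ρ.comp T.subtype) V₀ hTinv t W'
      have h2 : (W'.map V₀.subtype).map (ρ (t : Q)) =
          (W'.map V₀.subtype).map ((ρ.comp T.subtype) t) := rfl
      rw [hV₁, h2, ← h1]
      exact Submodule.map_mono (hW' t)
    have hkey : V₁ = ⊥ ∨ V₁ = V₀ := by
      by_cases hb : V₁ = ⊥
      · exact Or.inl hb
      right
      refine le_antisymm hV₁le ?_
      -- the sum of all translates of V₁ is everything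
      have hX : (⨆ g : Q, V₁.map (ρ g)) = ⊤ := by
        have hXinv : ∀ k, (⨆ g : Q, V₁.map (ρ g)).map (ρ k) ≤ ⨆ g : Q, V₁.map (ρ g) := by
          intro k
          rw [Submodule.map_iSup]
          apply iSup_le
          intro g
          have h2 : (V₁.map (ρ g)).map (ρ k) = V₁.map (ρ (k * g)) := by
            rw [map_mul]; exact (Submodule.map_comp (ρ g) (ρ k) V₁).symm
          rw [h2]
          exact le_iSup (fun g : Q => V₁.map (ρ g)) (k * g)
        rcases hirr _ hXinv with h | h
        · exfalso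
          apply hb
          rw [eq_bot_iff, ← h]
          have h3 : V₁.map (ρ 1) = V₁ := by rw [map_one]; exact Submodule.map_id V₁
          calc V₁ = V₁.map (ρ 1) := h3.symm
            _ ≤ _ := le_iSup (fun g : Q => V₁.map (ρ g)) 1
        · exact h
      set o₀ : MulAction.orbit Q V₀ := ⟨V₀, MulAction.mem_orbit_self V₀⟩ with ho₀
      set Y := ⨆ (o : MulAction.orbit Q V₀) (_ : o ≠ o₀), (o : Submodule K V) with hY
      have hXle : (⨆ g : Q, V₁.map (ρ g)) ≤ V₁ ⊔ Y := by
        apply iSup_le
        intro g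
        by_cases hg : g ∈ T
        · exact le_trans (hV₁inv ⟨g, hg⟩) le_sup_left
        · refine le_trans ?_ le_sup_right
          have h1 : g • V₀ ∈ MulAction.orbit Q V₀ := MulAction.mem_orbit V₀ g
          have h2 : (⟨g • V₀, h1⟩ : MulAction.orbit Q V₀) ≠ o₀ := by
            intro h
            apply hg
            rw [hT, MulAction.mem_stabilizer_iff]
            exact congrArg Subtype.val h
          have h3 : V₁.map (ρ g) ≤ g • V₀ := Submodule.map_mono hV₁le
          refine le_trans h3 ?_
          rw [hY]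
          exact le_iSup₂ (f := fun (o : MulAction.orbit Q V₀) (_ : o ≠ o₀) => (o : Submodule K V))
            ⟨g • V₀, h1⟩ h2
      have hdisj : Disjoint V₀ Y := hind o₀
      refine le_of_eq ?_
      calc V₀ = (V₁ ⊔ Y) ⊓ V₀ := by
            rw [eq_comm, inf_eq_right]
            calc V₀ ≤ ⊤ := le_top
              _ = ⨆ g : Q, V₁.map (ρ g) := hX.symm
              _ ≤ V₁ ⊔ Y := hXle
        _ = V₁ ⊔ Y ⊓ V₀ := sup_inf_assoc_of_le Y hV₁le
        _ = V₁ := by rw [inf_comm, hdisj.eq_bot, sup_bot_eq]
    rcases hkey with h | h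
    · left
      rw [hV₁] at h
      have h4 : W'.map V₀.subtype = (⊥ : Submodule K V₀).map V₀.subtype := by
        rw [Submodule.map_bot]; exact h
      exact Submodule.map_injective_of_injective V₀.injective_subtype h4
    · right
      have h4 : W'.map V₀.subtype = (⊤ : Submodule K V₀).map V₀.subtype := by
        rw [Submodule.map_subtype_top]; exact h
      exact Submodule.map_injective_of_injective V₀.injective_subtype h4
  obtain ⟨b, hb⟩ := ih (Nat.card T) hTcard T (hQ.to_subgroup T) rfl V₀
    (FF.restrictRep (ρ.comp T.subtype) V₀ hTinv) hirrT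
  exact ⟨c + b, by rw [hdim, hb, pow_add]⟩

end Main

end Cfsg.Agent.Lib.Helper8.HB
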