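import Mathlib
import Cfsg.Agent.Lib.Helper8.FF1

set_option autoImplicit false

/-! A finite-dimensional commutative reduced algebra is a field or has a nontrivial idempotent. -/

namespace Cfsg.Agent.Lib.Helper8.FF

open Module

section FD

variable {k E : Type*} [Field k] [Ring E] [Algebra k E]

theorem eq_zero_of_pow_eq_zero_of_sq (R : Subalgebra k E)
    (hred : ∀ a ∈ R, a * a = 0 → a = 0) (a : E) (ha : a ∈ R) (n : ℕ) (hn : a ^ n = 0) : a = 0 := by
  have h1 : ∀ m : ℕ, a ^ (2 ^ m) = 0 → a = 0 := by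
    intro m
    induction m with
    | zero => intro h; simpa using h
    | succ m ih =>
      intro h
      apply ih
      apply hred _ (R.pow_mem ha _)
      rw [← pow_add, ← two_mul, ← pow_succ']
      exact h
  apply h1 n
  exact pow_eq_zero_of_le (Nat.lt_two_pow_self).le hn

theorem field_or_idem [FiniteDimensional k E] (R : Subalgebra k E)
    (hcomm : ∀ a ∈ R, ∀ b ∈ R, a * b = b * a) (hred : ∀ a ∈ R, a * a = 0 → a = 0) :
    (∀ a ∈ R, a ≠ 0 → ∃ b ∈ R, a * b = 1) ∨ ∃ e ∈ R, e * e = e ∧ e ≠ 0 ∧ e ≠ 1 := by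
  by_cases hid : ∃ e ∈ R, e * e = e ∧ e ≠ 0 ∧ e ≠ 1
  · exact Or.inr hid
  left
  intro a ha ha0
  let f : ↥R →ₗ[k] ↥R := LinearMap.mulLeft k (⟨a, ha⟩ : ↥R)
  have hfpow : ∀ (n : ℕ) (x : ↥R), ((f ^ n) x : E) = a ^ n * (x : E) := by
    intro n
    induction n with
    | zero => intro x; simp
    | succ n ih =>
      intro x
      rw [pow_succ', Module.End.mul_apply]
      show a * (((f ^ n) x : ↥R) : E) = _
      rw [ih, ← mul_assoc, ← pow_succ']
  obtain ⟨n, hn, hn1⟩ := ((f.eventually_isCompl_ker_pow_range_pow).and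
    (Filter.eventually_ge_atTop 1)).exists
  have h1 : (1 : ↥R) ∈ LinearMap.ker (f ^ n) ⊔ LinearMap.range (f ^ n) := by
    rw [hn.sup_eq_top]; trivial
  obtain ⟨u, hu, v, hv, huv⟩ := Submodule.mem_sup.mp h1
  obtain ⟨c, hc⟩ := hv
  have hu' : a ^ n * (u : E) = 0 := by
    have := LinearMap.mem_ker.mp hu
    rw [← hfpow n u, this]; rfl
  have hv' : (v : E) = a ^ n * (c : E) := by
    rw [← hc, hfpow]
  have huv' : (u : E) + (v : E) = 1 := by
    have := congrArg (Subtype.val) huv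
    simpa using this
  have hvu : (v : E) * (u : E) = 0 := by
    rw [hv', mul_assoc, hcomm _ c.2 _ u.2, ← mul_assoc, hu', zero_mul]
  have hvv : (v : E) * (v : E) = (v : E) := by
    have : (v : E) = (v : E) * ((u : E) + (v : E)) := by rw [huv', mul_one]
    rw [mul_add, hvu, zero_add] at this
    exact this.symm
  have hv01 : (v : E) = 0 ∨ (v : E) = 1 := by
    by_contra hcon
    push Not at hcon
    exact hid ⟨v, v.2, hvv, hcon.1, hcon.2⟩
  rcases hv01 with h0 | h1'
  · exfalso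
    rw [h0, add_zero] at huv'
    rw [huv', mul_one] at hu'
    exact ha0 (eq_zero_of_pow_eq_zero_of_sq R hred a ha n hu')
  · refine ⟨a ^ (n - 1) * (c : E), R.mul_mem (R.pow_mem ha _) c.2, ?_⟩
    rw [← mul_assoc, ← pow_succ', Nat.sub_add_cancel hn1, ← hv', h1']

end FD

end Cfsg.Agent.Lib.Helper8.FF
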