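import Mathlib
import Cfsg.Agent.Lib.Helper8.FF1

set_option autoImplicit false

/-! Galois descent with a normal basis: a semilinear action of a finite group acting faithfully
on a field makes the module free over the group. -/

namespace Cfsg.Agent.Lib.Helper8.FF

open Module

section Galois

variable {L Γ : Type*} [Field L] [Group Γ] [Finite Γ] [MulSemiringAction Γ L] [FaithfulSMul Γ L]

/-- normal basis element over the fixed field -/
theorem exists_normal_element (L Γ : Type*) [Field L] [Group Γ] [Finite Γ] [MulSemiringAction Γ L]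
    [FaithfulSMul Γ L] :
    ∃ θ : L, LinearIndependent (FixedPoints.subfield Γ L) (fun g : Γ => g • θ) := by
  obtain ⟨x, hx⟩ := exists_linearIndependent_algEquiv_apply (FixedPoints.subfield Γ L) L
  refine ⟨x, ?_⟩
  have h := hx.comp (FixedPoints.toAlgAutMulEquiv Γ L) (FixedPoints.toAlgAutMulEquiv Γ L).injective
  exact h

/-- Dedekind independence for the group action -/
theorem dedekind_smul (c : Γ → L) [Fintype Γ] (h : ∀ y : L, ∑ τ, c τ * (τ • y) = 0) : c = 0 := by
  have hli := (linearIndependent_monoidHom L L).comp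
    (fun τ : Γ => ((MulSemiringAction.toRingHom Γ L τ : L →+* L) : L →* L))
    (by
      intro a b hab
      apply toRingHom_injective Γ L
      ext y
      have := congrArg (fun f : L →* L => f y) hab
      exact this)
  rw [Fintype.linearIndependent_iff] at hli
  funext τ
  apply hli c
  funext y
  have := h y
  simp only [Function.comp_apply, Finset.sum_apply, Pi.smul_apply, smul_eq_mul, Pi.zero_apply]
  exact this

end Galois


section Mat

variable {L Γ : Type*} [Field L] [Group Γ] [Fintype Γ] [DecidableEq Γ] [MulSemiringAction Γ L]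
  [FaithfulSMul Γ L]

/-- the matrix `((τ γ) θ)` -/
noncomputable def nbMat (θ : L) : Matrix Γ Γ L := Matrix.of fun τ γ => (τ * γ) • θ

theorem span_normal_eq_top (θ : L)
    (hθ : LinearIndependent (FixedPoints.subfield Γ L) (fun g : Γ => g • θ)) :
    Submodule.span (FixedPoints.subfield Γ L) (Set.range fun g : Γ => g • θ) = ⊤ :=
  hθ.span_eq_top_of_card_eq_finrank' (FixedPoints.finrank_eq_card Γ L).symm

theorem isUnit_nbMat (θ : L)
    (hθ : LinearIndependent (FixedPoints.subfield Γ L) (fun g : Γ => g • θ)) :
    IsUnit (nbMat (Γ := Γ) θ) := by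
  rw [← Matrix.linearIndependent_rows_iff_isUnit, Fintype.linearIndependent_iff]
  intro c hc
  have hc' : ∀ γ : Γ, ∑ τ, c τ * ((τ * γ) • θ) = 0 := by
    intro γ
    have := congrFun hc γ
    simpa [nbMat, Matrix.row] using this
  have key : ∀ y : L, ∑ τ, c τ * (τ • y) = 0 := by
    intro y
    have hy : y ∈ Submodule.span (FixedPoints.subfield Γ L) (Set.range fun g : Γ => g • θ) := by
      rw [span_normal_eq_top θ hθ]; trivial
    induction hy using Submodule.span_induction with
    | mem x hx =>
      obtain ⟨γ, rfl⟩ := hx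
      simpa [mul_smul] using hc' γ
    | zero => simp
    | add x y _ _ hx hy =>
      simp only [smul_add, mul_add, Finset.sum_add_distrib, hx, hy, add_zero]
    | smul a x _ hx =>
      have h1 : ∀ τ : Γ, c τ * (τ • (a • x)) = (a : L) * (c τ * (τ • x)) := by
        intro τ
        have h2 : a • x = (a : L) * x := rfl
        rw [h2, smul_mul', a.2 τ]
        ring
      simp only [h1, ← Finset.mul_sum, hx, mul_zero]
  have := dedekind_smul c key
  intro τ
  rw [this]; rfl

end Mat


section SL

variable {k L U Γ : Type*} [Field k] [Field L] [Algebra k L] [AddCommGroup U] [Module k U]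
  [Module L U] [IsScalarTower k L U] [Group Γ]

/-- fixed points as a `k`-subspace -/
def fixedSub (σ : Representation k Γ U) : Submodule k U where
  carrier := {u | ∀ g, σ g u = u}
  add_mem' := by
    intro a b ha hb g
    rw [map_add, ha g, hb g]
  zero_mem' := by
    intro g
    rw [map_zero]
  smul_mem' := by
    intro c u hu g
    rw [map_smul, hu g]

theorem mem_fixedSub (σ : Representation k Γ U) (u : U) : u ∈ fixedSub σ ↔ ∀ g, σ g u = u :=
  Iff.rfl

/-- scaling by `a : L` as a `k`-linear map -/
def scal (k : Type*) {L U : Type*} [Field k] [Field L] [Algebra k L] [AddCommGroup U] [Module k U]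
    [Module L U] [IsScalarTower k L U] (a : L) : U →ₗ[k] U where
  toFun u := a • u
  map_add' := smul_add a
  map_smul' c u := smul_comm a c u

@[simp] theorem scal_apply (a : L) (u : U) : scal k a u = a • u := rfl

variable [Fintype Γ] [DecidableEq Γ] [MulSemiringAction Γ L] [FaithfulSMul Γ L]

theorem sum_rep_mem_fixedSub (σ : Representation k Γ U) (v : U) :
    (∑ τ : Γ, σ τ v) ∈ fixedSub σ := by
  intro g
  rw [map_sum]
  have : ∀ τ : Γ, σ g (σ τ v) = σ (g * τ) v := fun τ => (rep_mul_apply σ g τ v).symm
  simp only [this]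
  exact Fintype.sum_equiv (Equiv.mulLeft g) _ _ (fun τ => rfl)

theorem semilinear_free (σ : Representation k Γ U)
    (hσ : ∀ (g : Γ) (a : L) (u : U), σ g (a • u) = (g • a) • σ g u) :
    ∃ W : Submodule k U, DirectSum.IsInternal (fun g : Γ => W.map (σ g)) := by
  obtain ⟨θ, hθ⟩ := exists_normal_element L Γ
  have hM := isUnit_nbMat θ hθ
  have hdet : IsUnit (nbMat (Γ := Γ) θ).det := (Matrix.isUnit_iff_isUnit_det _).mp hM
  have hNM : (nbMat (Γ := Γ) θ)⁻¹ * nbMat θ = 1 := Matrix.nonsing_inv_mul _ hdet
  have hMN : nbMat θ * (nbMat (Γ := Γ) θ)⁻¹ = 1 := Matrix.mul_nonsing_inv _ hdet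
  set M : Matrix Γ Γ L := nbMat θ with hMdef
  set N : Matrix Γ Γ L := M⁻¹ with hNdef
  have hMapp : ∀ τ γ : Γ, M τ γ = (τ * γ) • θ := fun τ γ => rfl
  let U₀ : Submodule k U := fixedSub σ
  let W : Submodule k U := U₀.map (scal k θ)
  -- the fixed field acts on the fixed points
  have hU₀smul : ∀ (a : FixedPoints.subfield Γ L) (t : U), t ∈ U₀ → ((a : L) • t) ∈ U₀ := by
    intro a t ht g
    rw [hσ, ht g, a.2 g]
  have hmem : ∀ (g : Γ) (v : U), v ∈ W.map (σ g) ↔ ∃ t ∈ U₀, (g • θ) • t = v := by
    intro g v
    constructor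
    · rintro ⟨w, ⟨t, ht, rfl⟩, rfl⟩
      refine ⟨t, ht, ?_⟩
      rw [scal_apply, hσ, ht g]
    · rintro ⟨t, ht, rfl⟩
      refine ⟨θ • t, ⟨t, ht, rfl⟩, ?_⟩
      rw [hσ, ht g]
  refine ⟨W, isInternal_of_forall _ ?_ ?_⟩
  · -- spanning
    -- decomposable vectors
    let D : AddSubgroup U :=
      { carrier := {u | ∃ f : Γ → U, (∀ g, f g ∈ U₀) ∧ ∑ g, (g • θ) • f g = u}
        add_mem' := by
          rintro a b ⟨f, hf, rfl⟩ ⟨f', hf', rfl⟩
          refine ⟨f + f', fun g => U₀.add_mem (hf g) (hf' g), ?_⟩
          simp only [Pi.add_apply, smul_add, Finset.sum_add_distrib]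
        zero_mem' := ⟨0, fun g => U₀.zero_mem, by simp⟩
        neg_mem' := by
          rintro a ⟨f, hf, rfl⟩
          refine ⟨-f, fun g => U₀.neg_mem (hf g), ?_⟩
          simp only [Pi.neg_apply, smul_neg, Finset.sum_neg_distrib] }
    have hD1 : ∀ d : L, ∀ t ∈ U₀, d • t ∈ D := by
      intro d
      have hd : d ∈ Submodule.span (FixedPoints.subfield Γ L) (Set.range fun g : Γ => g • θ) := by
        rw [span_normal_eq_top θ hθ]; trivial
      induction hd using Submodule.span_induction with
      | mem x hx =>
        obtain ⟨γ, rfl⟩ := hx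
        intro t ht
        refine ⟨Pi.single γ t, ?_, ?_⟩
        · intro g
          by_cases hg : g = γ
          · subst hg; rw [Pi.single_eq_same]; exact ht
          · rw [Pi.single_eq_of_ne hg]; exact U₀.zero_mem
        · rw [Finset.sum_eq_single γ]
          · rw [Pi.single_eq_same]
          · intro b _ hb
            rw [Pi.single_eq_of_ne hb, smul_zero]
          · intro h; exact absurd (Finset.mem_univ γ) h
      | zero =>
        intro t _
        rw [zero_smul]; exact D.zero_mem
      | add x y _ _ hx hy =>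
        intro t ht
        rw [add_smul]
        exact D.add_mem (hx t ht) (hy t ht)
      | smul a x _ hx =>
        intro t ht
        have h2 : a • x = x * (a : L) := by
          have : a • x = (a : L) * x := rfl
          rw [this, mul_comm]
        rw [h2, mul_smul]
        exact hx _ (hU₀smul a t ht)
    intro u
    -- the coefficient vector
    let d : Γ → L := N.mulVec (Pi.single 1 1)
    have hMd : M.mulVec d = Pi.single 1 1 := by
      show M.mulVec (N.mulVec (Pi.single 1 1)) = _
      rw [Matrix.mulVec_mulVec, hMN, Matrix.one_mulVec]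
    let t : Γ → U := fun γ => ∑ τ : Γ, σ τ ((γ • θ) • u)
    have ht : ∀ γ, t γ ∈ U₀ := fun γ => sum_rep_mem_fixedSub σ _
    have ht' : ∀ γ, t γ = ∑ τ : Γ, M τ γ • σ τ u := by
      intro γ
      apply Finset.sum_congr rfl
      intro τ _
      rw [hσ, hMapp, mul_smul]
    have hu : u = ∑ γ, d γ • t γ := by
      have h1 : ∑ γ, d γ • t γ = ∑ τ, (M.mulVec d τ) • σ τ u := by
        simp only [ht', Finset.smul_sum, smul_smul]
        rw [Finset.sum_comm]
        apply Finset.sum_congr rfl
        intro τ _
        rw [Matrix.mulVec, dotProduct, Finset.sum_smul]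
        apply Finset.sum_congr rfl
        intro γ _
        rw [mul_comm]
      rw [h1, hMd, Finset.sum_eq_single 1]
      · rw [Pi.single_eq_same, one_smul, rep_one_apply]
      · intro b _ hb
        rw [Pi.single_eq_of_ne hb, zero_smul]
      · intro h; exact absurd (Finset.mem_univ _) h
    have huD : u ∈ D := by
      rw [hu]
      exact D.sum_mem (fun γ _ => hD1 (d γ) (t γ) (ht γ))
    obtain ⟨f, hf, hsum⟩ := huD
    exact ⟨fun g => (g • θ) • f g, fun g => (hmem g _).mpr ⟨f g, hf g, rfl⟩, hsum⟩
  · -- independence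
    intro f hf hsum
    choose t ht hft using fun g => (hmem g (f g)).mp (hf g)
    have h1 : ∀ τ : Γ, ∑ γ, M τ γ • t γ = 0 := by
      intro τ
      have h2 := congrArg (σ τ) hsum
      rw [map_sum, map_zero] at h2
      rw [← h2]
      apply Finset.sum_congr rfl
      intro γ _
      rw [← hft γ, hσ, ht γ τ, hMapp, mul_smul]
    have h3 : ∀ δ : Γ, t δ = 0 := by
      intro δ
      have h4 : t δ = ∑ γ, (N * M) δ γ • t γ := by
        rw [hNM, Finset.sum_eq_single δ]
        · rw [Matrix.one_apply_eq, one_smul]
        · intro b _ hb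
          rw [Matrix.one_apply_ne hb.symm, zero_smul]
        · intro h; exact absurd (Finset.mem_univ _) h
      rw [h4]
      have h5 : ∀ γ, (N * M) δ γ • t γ = ∑ τ, N δ τ • (M τ γ • t γ) := by
        intro γ
        rw [Matrix.mul_apply, Finset.sum_smul]
        apply Finset.sum_congr rfl
        intro τ _
        rw [mul_smul]
      simp only [h5]
      rw [Finset.sum_comm]
      apply Finset.sum_eq_zero
      intro τ _
      rw [← Finset.smul_sum, h1 τ, smul_zero]
    intro g
    rw [← hft g, h3 g, smul_zero]

end SL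

end Cfsg.Agent.Lib.Helper8.FF
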