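import Mathlib
import Cfsg.Agent.Lib.Helper8.FF2

set_option autoImplicit false

/-! The semilinear freeness lemma for a commutative subalgebra of `End U` that is a field. -/

namespace Cfsg.Agent.Lib.Helper8.FF

open Module

section SLsub

variable {k : Type*} [Field k] {U : Type*} [AddCommGroup U] [Module k U]
variable {Γ : Type*} [Group Γ] [Finite Γ] [DecidableEq Γ]

theorem free_of_field_subalgebra [Nontrivial U] (σ : Representation k Γ U)
    (R : Subalgebra k (Module.End k U))
    (hcomm : ∀ a ∈ R, ∀ b ∈ R, a * b = b * a)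
    (hinv : ∀ a ∈ R, a ≠ 0 → ∃ b ∈ R, a * b = 1)
    (hcj : ∀ (g : Γ), ∀ a ∈ R, σ g * a * σ g⁻¹ ∈ R)
    (hfaith : ∀ g : Γ, (∀ a ∈ R, σ g * a * σ g⁻¹ = a) → g = 1) :
    ∃ W : Submodule k U, DirectSum.IsInternal (fun g : Γ => W.map (σ g)) := by
  haveI := Fintype.ofFinite Γ
  have hF : IsField ↥R := by
    refine ⟨⟨0, 1, zero_ne_one⟩, ?_, ?_⟩
    · intro a b
      exact Subtype.ext (hcomm a a.2 b b.2)
    · intro a ha
      obtain ⟨b, hb, hab⟩ := hinv a a.2 (fun h => ha (Subtype.ext h))
      exact ⟨⟨b, hb⟩, Subtype.ext hab⟩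
  letI : Field ↥R := hF.toField
  letI : MulSemiringAction Γ ↥R :=
    { smul := fun g a => ⟨σ g * a * σ g⁻¹, hcj g a a.2⟩
      one_smul := by
        intro a
        apply Subtype.ext
        show σ 1 * (a : Module.End k U) * σ (1 : Γ)⁻¹ = a
        rw [inv_one, map_one, one_mul, mul_one]
      mul_smul := by
        intro g h a
        apply Subtype.ext
        show σ (g * h) * (a : Module.End k U) * σ (g * h)⁻¹ = σ g * (σ h * a * σ h⁻¹) * σ g⁻¹
        rw [mul_inv_rev, map_mul, map_mul]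
        simp only [mul_assoc]
      smul_zero := by
        intro g
        apply Subtype.ext
        show σ g * ((0 : ↥R) : Module.End k U) * σ g⁻¹ = ((0 : ↥R) : Module.End k U)
        rw [ZeroMemClass.coe_zero, mul_zero, zero_mul]
      smul_add := by
        intro g a b
        apply Subtype.ext
        show σ g * ((a + b : ↥R) : Module.End k U) * σ g⁻¹ =
          σ g * (a : Module.End k U) * σ g⁻¹ + σ g * (b : Module.End k U) * σ g⁻¹
        rw [AddMemClass.coe_add, mul_add, add_mul]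
      smul_one := by
        intro g
        apply Subtype.ext
        show σ g * ((1 : ↥R) : Module.End k U) * σ g⁻¹ = ((1 : ↥R) : Module.End k U)
        rw [OneMemClass.coe_one, mul_one, ← map_mul, mul_inv_cancel, map_one]
      smul_mul := by
        intro g a b
        apply Subtype.ext
        show σ g * ((a * b : ↥R) : Module.End k U) * σ g⁻¹ =
          (σ g * (a : Module.End k U) * σ g⁻¹) * (σ g * (b : Module.End k U) * σ g⁻¹)
        have h1 : σ g⁻¹ * σ g = 1 := by rw [← map_mul, inv_mul_cancel, map_one]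
        rw [MulMemClass.coe_mul]
        calc σ g * ((a : Module.End k U) * b) * σ g⁻¹
            = σ g * a * (1 * (b * σ g⁻¹)) := by rw [one_mul]; simp only [mul_assoc]
          _ = _ := by rw [← h1]; simp only [mul_assoc] }
  have hsmul : ∀ (g : Γ) (a : ↥R), ((g • a : ↥R) : Module.End k U) = σ g * a * σ g⁻¹ :=
    fun g a => rfl
  haveI : FaithfulSMul Γ ↥R := by
    refine ⟨?_⟩
    intro g₁ g₂ h
    have h1 : g₂⁻¹ * g₁ = 1 := by
      apply hfaith
      intro a ha
      have h2 := h ⟨a, ha⟩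
      have h3 := congrArg (fun x : ↥R => (x : Module.End k U)) h2
      simp only [hsmul] at h3
      rw [mul_inv_rev, inv_inv, map_mul, map_mul]
      have h4 : σ g₂⁻¹ * σ g₂ = 1 := by rw [← map_mul, inv_mul_cancel, map_one]
      calc σ g₂⁻¹ * σ g₁ * a * (σ g₁⁻¹ * σ g₂)
          = σ g₂⁻¹ * (σ g₁ * a * σ g₁⁻¹) * σ g₂ := by simp only [mul_assoc]
        _ = σ g₂⁻¹ * (σ g₂ * a * σ g₂⁻¹) * σ g₂ := by rw [h3]
        _ = (σ g₂⁻¹ * σ g₂) * a * (σ g₂⁻¹ * σ g₂) := by simp only [mul_assoc]
        _ = a := by rw [h4, one_mul, mul_one]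
    have : g₁ = g₂ * (g₂⁻¹ * g₁) := by group
    rw [this, h1, mul_one]
  have hσ : ∀ (g : Γ) (a : ↥R) (u : U), σ g (a • u) = (g • a) • σ g u := by
    intro g a u
    show σ g ((a : Module.End k U) u) = (σ g * (a : Module.End k U) * σ g⁻¹) (σ g u)
    show σ g ((a : Module.End k U) u) = σ g ((a : Module.End k U) (σ g⁻¹ (σ g u)))
    rw [rep_inv_apply]
  exact semilinear_free (L := ↥R) σ hσ

end SLsub

end Cfsg.Agent.Lib.Helper8.FF
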