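import Mathlib
import Cfsg.Agent.Lib.Helper8.FF7

set_option autoImplicit false

/-! Orbit of an endomorphism under conjugation, primitive idempotents. -/

namespace Cfsg.Agent.Lib.Helper8.FF

open Module

universe u v

namespace Dat

variable {k : Type*} {M : Type*} [Field k] [Group M] {H : Type u} [Group H] {U : Type v}
  [AddCommGroup U] [Module k U] (D : Dat k M H U)

/-- stabilizer of an endomorphism under conjugation -/
def stab (e : Module.End k U) : Subgroup H where
  carrier := {h | D.cj h e = e}
  mul_mem' := by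
    intro a b ha hb
    show D.cj (a * b) e = e
    rw [cj_mul_left, hb, ha]
  one_mem' := D.cj_one_left e
  inv_mem' := by
    intro a ha
    show D.cj a⁻¹ e = e
    have := D.cj_inv_cj a e
    rw [ha] at this
    exact this

theorem mem_stab (e : Module.End k U) (h : H) : h ∈ D.stab e ↔ D.cj h e = e := Iff.rfl

open Classical in
theorem card_orbit_mul_card_stab [Fintype H] (e : Module.End k U) :
    (Finset.univ.image (fun h : H => D.cj h e)).card * Nat.card ↥(D.stab e) = Nat.card H := by
  letI : MulAction H (Module.End k U) :=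
    { smul := D.cj
      one_smul := D.cj_one_left
      mul_smul := D.cj_mul_left }
  have h1 : MulAction.stabilizer H e = D.stab e := by
    ext h
    rfl
  have h2 : MulAction.orbit H e = ↑(Finset.univ.image (fun h : H => D.cj h e)) := by
    ext a
    simp only [Finset.coe_image, Finset.coe_univ, Set.image_univ]
    rfl
  have h3 := MulAction.index_stabilizer (G := H) (x := e)
  rw [h1, h2, Set.ncard_coe_finset] at h3
  rw [← h3, mul_comm]
  exact Subgroup.card_mul_index _


/-- nontrivial idempotents of `RZ` -/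
def Good (a : Module.End k U) : Prop := a ∈ D.RZ ∧ a * a = a ∧ a ≠ 0 ∧ a ≠ 1

theorem Good.cj {a : Module.End k U} (ha : D.Good a) (h : H) : D.Good (D.cj h a) := by
  obtain ⟨h1, h2, h3, h4⟩ := ha
  refine ⟨D.cj_mem_RZ h a h1, ?_, ?_, ?_⟩
  · rw [← cj_mul, h2]
  · rw [Ne, cj_eq_zero_iff]; exact h3
  · rw [Ne, cj_eq_one_iff]; exact h4

theorem idem_apply {a : Module.End k U} (ha : a * a = a) (u : U) : a (a u) = a u := by
  have := congrArg (fun f : Module.End k U => f u) ha
  exact this

theorem prim_aux [FiniteDimensional k U] (r : ℕ)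
    (hmin : ∀ b, D.Good b → r ≤ finrank k (LinearMap.range b)) {a b : Module.End k U}
    (ha : D.Good a) (har : finrank k (LinearMap.range a) = r) (hb : b ∈ D.RZ) (hbb : b * b = b)
    (hba : b * a = b) : b = 0 ∨ b = a := by
  by_cases hb0 : b = 0
  · exact Or.inl hb0
  right
  have hb1 : b ≠ 1 := by
    intro h1
    rw [h1, one_mul] at hba
    exact ha.2.2.2 hba
  have hgb : D.Good b := ⟨hb, hbb, hb0, hb1⟩
  have hab : a * b = b := by rw [D.RZ_comm a b ha.1 hb, hba]
  have hle : LinearMap.range b ≤ LinearMap.range a := by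
    rintro _ ⟨w, rfl⟩
    refine ⟨b w, ?_⟩
    have := congrArg (fun f : Module.End k U => f w) hab
    exact this
  have hfr : finrank k (LinearMap.range b) = finrank k (LinearMap.range a) := by
    have h1 := Submodule.finrank_mono hle
    have h2 := hmin b hgb
    omega
  have heq : LinearMap.range b = LinearMap.range a := Submodule.eq_of_le_of_finrank_eq hle hfr
  have h3 : b * a = a := by
    ext u
    have hu : a u ∈ LinearMap.range b := by rw [heq]; exact ⟨u, rfl⟩
    obtain ⟨w, hw⟩ := hu
    show b (a u) = a u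
    rw [← hw, idem_apply hbb]
  rw [← hba, h3]

theorem orth_aux [FiniteDimensional k U] (r : ℕ)
    (hmin : ∀ b, D.Good b → r ≤ finrank k (LinearMap.range b)) {a b : Module.End k U}
    (ha : D.Good a) (har : finrank k (LinearMap.range a) = r)
    (hb : D.Good b) (hbr : finrank k (LinearMap.range b) = r) : a * b = 0 ∨ a = b := by
  have hc : a * b ∈ D.RZ := D.RZ.mul_mem ha.1 hb.1
  have hba : b * a = a * b := D.RZ_comm b a hb.1 ha.1
  have hcc : (a * b) * (a * b) = a * b := by
    calc (a * b) * (a * b) = a * (b * a) * b := by simp only [mul_assoc]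
      _ = a * (a * b) * b := by rw [hba]
      _ = (a * a) * (b * b) := by simp only [mul_assoc]
      _ = a * b := by rw [ha.2.1, hb.2.1]
  have hca : (a * b) * a = a * b := by
    calc (a * b) * a = a * (b * a) := by rw [mul_assoc]
      _ = a * (a * b) := by rw [hba]
      _ = (a * a) * b := by rw [mul_assoc]
      _ = a * b := by rw [ha.2.1]
  have hcb : (a * b) * b = a * b := by
    rw [mul_assoc, hb.2.1]
  rcases D.prim_aux r hmin ha har hc hcc hca with h0 | h1
  · exact Or.inl h0
  rcases D.prim_aux r hmin hb hbr hc hcc hcb with h0 | h2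
  · exact Or.inl h0
  · right
    rw [← h1, h2]


/-- common kernel of all conjugates of `e` -/
def Yp (e : Module.End k U) : Submodule k U := ⨅ h : H, LinearMap.ker (D.cj h e)

theorem mem_Yp (e : Module.End k U) (u : U) : u ∈ D.Yp e ↔ ∀ h : H, D.cj h e u = 0 := by
  unfold Yp
  rw [Submodule.mem_iInf]
  exact Iff.rfl

theorem range_τ_inv {e : Module.End k U} (he : e ∈ D.RZ) (x : M) (u : U)
    (hu : u ∈ LinearMap.range e) : D.τ x u ∈ LinearMap.range e := by
  obtain ⟨w, rfl⟩ := hu
  refine ⟨D.τ x w, ?_⟩
  have := congrArg (fun f : Module.End k U => f w) (D.RZ_comm_τ e he x)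
  exact this

theorem cj_apply_σ (h : H) (a : Module.End k U) (u : U) : D.cj h a (D.σ h u) = D.σ h (a u) := by
  rw [cj_apply, rep_inv_apply]

theorem range_σ_inv {e : Module.End k U} (h : H) (hh : h ∈ D.stab e) (u : U)
    (hu : u ∈ LinearMap.range e) : D.σ h u ∈ LinearMap.range e := by
  obtain ⟨w, rfl⟩ := hu
  refine ⟨D.σ h w, ?_⟩
  have h1 : D.cj h e = e := hh
  rw [← D.cj_apply_σ h e w, h1]

theorem Yp_τ_inv {e : Module.End k U} (he : e ∈ D.RZ) (x : M) (u : U) (hu : u ∈ D.Yp e) :
    D.τ x u ∈ D.Yp e := by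
  rw [mem_Yp] at hu ⊢
  intro h
  have := congrArg (fun f : Module.End k U => f u) (D.RZ_comm_τ _ (D.cj_mem_RZ h e he) x)
  have h2 : D.cj h e (D.τ x u) = D.τ x (D.cj h e u) := this
  rw [h2, hu h, map_zero]

theorem Yp_σ_inv (e : Module.End k U) (g : H) (u : U) (hu : u ∈ D.Yp e) :
    D.σ g u ∈ D.Yp e := by
  rw [mem_Yp] at hu ⊢
  intro h
  have h1 : D.cj h e = D.cj g (D.cj (g⁻¹ * h) e) := by
    rw [← cj_mul_left, mul_inv_cancel_left]
  rw [h1, cj_apply_σ, hu, map_zero]

theorem finrank_range_lt [FiniteDimensional k U] {e : Module.End k U} (hee : e * e = e)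
    (he1 : e ≠ 1) : finrank k (LinearMap.range e) < finrank k U := by
  apply Submodule.finrank_lt
  intro htop
  apply he1
  ext u
  have hu : u ∈ LinearMap.range e := by rw [htop]; trivial
  obtain ⟨w, rfl⟩ := hu
  exact idem_apply hee w

theorem finrank_Yp_lt [FiniteDimensional k U] {e : Module.End k U} (he0 : e ≠ 0) :
    finrank k (D.Yp e) < finrank k U := by
  apply Submodule.finrank_lt
  intro htop
  apply he0
  ext u
  have hu : u ∈ D.Yp e := by rw [htop]; trivial
  rw [mem_Yp] at hu
  have := hu 1
  rw [cj_one_left] at this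
  exact this


open Classical in
/-- assembling a free generator in the imprimitive case -/
theorem caseA [Finite H] [DecidableEq H] [FiniteDimensional k U] (e : Module.End k U)
    (he : D.Good e)
    (hmin : ∀ b, D.Good b → finrank k (LinearMap.range e) ≤ finrank k (LinearMap.range b))
    (W₁ : Submodule k U)
    (hW₁span : (⨆ h : ↥(D.stab e), W₁.map (D.σ (h : H))) = LinearMap.range e)
    (hW₁dim : Nat.card ↥(D.stab e) * finrank k W₁ = finrank k (LinearMap.range e))
    (W₂ : Submodule k U)
    (hW₂span : D.Yp e ≤ ⨆ h : H, W₂.map (D.σ h))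
    (hW₂dim : Nat.card H * finrank k W₂ = finrank k (D.Yp e)) :
    DirectSum.IsInternal (fun h : H => (W₁ ⊔ W₂).map (D.σ h)) := by
  haveI := Fintype.ofFinite H
  set r := finrank k (LinearMap.range e) with hr
  set T : Finset (Module.End k U) := Finset.univ.image (fun h : H => D.cj h e) with hT
  have hTmem : ∀ t ∈ T, ∃ h : H, D.cj h e = t := by
    intro t ht
    obtain ⟨h, _, rfl⟩ := Finset.mem_image.mp ht
    exact ⟨h, rfl⟩
  have hmemT : ∀ h : H, D.cj h e ∈ T := fun h =>
    Finset.mem_image.mpr ⟨h, Finset.mem_univ h, rfl⟩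
  have hTgood : ∀ t ∈ T, D.Good t ∧ finrank k (LinearMap.range t) = r := by
    intro t ht
    obtain ⟨h, rfl⟩ := hTmem t ht
    exact ⟨Dat.Good.cj D he h, D.finrank_range_cj h e⟩
  have hid : ∀ t ∈ T, t * t = t := fun t ht => (hTgood t ht).1.2.1
  have horth : ∀ t ∈ T, ∀ t' ∈ T, t ≠ t' → t * t' = 0 := by
    intro t ht t' ht' hne
    rcases D.orth_aux r hmin (hTgood t ht).1 (hTgood t ht).2 (hTgood t' ht').1 (hTgood t' ht').2
      with h0 | h1
    · exact h0
    · exact absurd h1 hne
  obtain ⟨_, hε2⟩ := finrank_range_sum_orth T hid horth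
  set ε : Module.End k U := ∑ t ∈ T, t with hε
  have hε2' : finrank k (LinearMap.range ε) = T.card * r := by
    rw [hε2, Finset.sum_congr rfl (fun t ht => (hTgood t ht).2), Finset.sum_const, smul_eq_mul]
  have htε : ∀ t ∈ T, t * ε = t := by
    intro t ht
    rw [hε, Finset.mul_sum, Finset.sum_eq_single t (fun t' ht' hne => horth t ht t' ht' hne.symm)
      (fun h => absurd ht h), hid t ht]
  have hYker : D.Yp e ≤ LinearMap.ker ε := by
    intro u hu
    rw [LinearMap.mem_ker, hε, LinearMap.sum_apply]
    apply Finset.sum_eq_zero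
    intro t ht
    obtain ⟨h, rfl⟩ := hTmem t ht
    exact (D.mem_Yp e u).mp hu h
  apply isInternal_translates
  · -- spanning
    set B : Submodule k U := ⨆ h : H, (W₁ ⊔ W₂).map (D.σ h) with hB
    have hB1 : ∀ h : H, (LinearMap.range e).map (D.σ h) ≤ B := by
      intro h
      rw [← hW₁span, Submodule.map_iSup]
      apply iSup_le
      intro s
      have h1 : (W₁.map (D.σ (s : H))).map (D.σ h) = W₁.map (D.σ (h * s)) := by
        rw [map_mul, Module.End.mul_eq_comp, Submodule.map_comp]
      rw [h1]
      exact le_iSup_of_le (h * s) (Submodule.map_mono le_sup_left)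
    have hB2 : D.Yp e ≤ B :=
      hW₂span.trans (iSup_mono (fun h => Submodule.map_mono le_sup_right))
    rw [eq_top_iff]
    intro u _
    have hu : u = ε u + (u - ε u) := by abel
    rw [hu]
    apply B.add_mem
    · rw [hε, LinearMap.sum_apply]
      apply B.sum_mem
      intro t ht
      obtain ⟨h, rfl⟩ := hTmem t ht
      apply hB1 h
      rw [← range_cj]
      exact ⟨u, rfl⟩
    · apply hB2
      rw [mem_Yp]
      intro h
      rw [map_sub]
      have h1 : D.cj h e (ε u) = (D.cj h e * ε) u := rfl
      rw [h1, htε _ (hmemT h), sub_self]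
  · -- dimension
    have h1 : finrank k ↥(W₁ ⊔ W₂) ≤ finrank k W₁ + finrank k W₂ :=
      Submodule.finrank_add_le_finrank_add_finrank W₁ W₂
    have h2 : T.card * Nat.card ↥(D.stab e) = Nat.card H := D.card_orbit_mul_card_stab e
    have h3 : finrank k (LinearMap.range ε) + finrank k (LinearMap.ker ε) = finrank k U :=
      LinearMap.finrank_range_add_finrank_ker ε
    have h4 : finrank k (D.Yp e) ≤ finrank k (LinearMap.ker ε) := Submodule.finrank_mono hYker
    have h5 : Nat.card H * finrank k W₁ = T.card * r := by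
      rw [← h2, mul_assoc, hW₁dim]
    calc Nat.card H * finrank k ↥(W₁ ⊔ W₂)
        ≤ Nat.card H * (finrank k W₁ + finrank k W₂) := Nat.mul_le_mul_left _ h1
      _ = T.card * r + finrank k (D.Yp e) := by rw [mul_add, h5, hW₂dim]
      _ ≤ finrank k U := by omega

end Dat

end Cfsg.Agent.Lib.Helper8.FF
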