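import Mathlib
import Cfsg.Agent.Lib.Helper8.FF3
import Cfsg.Agent.Lib.Helper8.FF5
import Cfsg.Agent.Lib.Helper8.FF8

set_option autoImplicit false

/-! The coprime fixed-point-free freeness theorem. -/

namespace Cfsg.Agent.Lib.Helper8.FF

open Module

universe u v

theorem faithful_on_RZ {k : Type*} {M : Type*} [Field k] [Group M] [Finite M] {H : Type u} [Group H]
    {U : Type v} [AddCommGroup U] [Module k U] [Nontrivial U] (D : Dat k M H U)
    (hnil : Group.IsNilpotent M) (g : H)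
    (hg : ∀ a ∈ D.RZ, D.σ g * a * D.σ g⁻¹ = a) : g = 1 := by
  by_contra hg1
  obtain ⟨z, hz, hz1⟩ := D.exists_Z_ne_one hnil
  let ψ : ↥D.Z → ↥D.Z := fun z =>
    ⟨(z : M)⁻¹ * D.φ g z, D.Z.mul_mem (D.Z.inv_mem z.2) (D.φ_mem_Z g z z.2)⟩
  have hinj : Function.Injective ψ := by
    intro a b hab
    have h1 : (a : M)⁻¹ * D.φ g a = (b : M)⁻¹ * D.φ g b := congrArg Subtype.val hab
    have h2 : D.φ g ((b : M) * (a : M)⁻¹) = (b : M) * (a : M)⁻¹ := by
      rw [map_mul, map_inv]
      have : D.φ g b = (b : M) * ((a : M)⁻¹ * D.φ g a) := by rw [h1, mul_inv_cancel_left]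
      rw [this]
      group
    have h3 := D.fpf g hg1 _ h2
    apply Subtype.ext
    have : (b : M) = (b : M) * (a : M)⁻¹ * a := by group
    rw [this, h3, one_mul]
  have hsurj : Function.Surjective ψ := Finite.injective_iff_surjective.mp hinj
  obtain ⟨z', hz'⟩ := hsurj ⟨z, hz⟩
  have h4 : z = (z' : M)⁻¹ * D.φ g z' := (congrArg Subtype.val hz').symm
  apply hz1
  have h5 : D.τ (D.φ g z') = D.τ z' := by
    rw [← D.cj_τ]
    exact hg _ (D.τ_mem_RZ _ z'.2)
  rw [h4, map_mul, h5, ← map_mul, inv_mul_cancel, map_one]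

theorem coprime_free {k : Type*} [Field k] {M : Type*} [Group M] [Finite M]
    (hnil : Group.IsNilpotent M) (hM : (Nat.card M : k) ≠ 0) :
    ∀ (n : ℕ) (H : Type u) [Group H] [Finite H] [DecidableEq H] (U : Type v) [AddCommGroup U]
      [Module k U] [FiniteDimensional k U] (D : Dat k M H U), finrank k U = n →
      ∃ W : Submodule k U, DirectSum.IsInternal (fun h : H => W.map (D.σ h)) := by
  intro n
  induction n using Nat.strong_induction_on with
  | _ n ih =>
  intro H _ _ _ U _ _ _ D hn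
  by_cases hn0 : n = 0
  · rw [hn0] at hn
    haveI : Subsingleton U := Module.finrank_zero_iff.mp hn
    refine ⟨⊥, isInternal_translates D.σ ⊥ (Subsingleton.elim _ _) ?_⟩
    rw [finrank_bot, mul_zero]
    exact Nat.zero_le _
  haveI : Nontrivial U := Module.nontrivial_of_finrank_pos (R := k) (by omega)
  rcases field_or_idem D.RZ (fun a ha b hb => D.RZ_comm a b ha hb)
    (fun a ha h => D.RZ_red hM a ha h) with hinv | ⟨e₀, he₀⟩
  · -- the field case
    exact free_of_field_subalgebra D.σ D.RZ (fun a ha b hb => D.RZ_comm a b ha hb) hinv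
      (fun g a ha => D.cj_mem_RZ g a ha) (fun g hg => faithful_on_RZ D hnil g hg)
  · -- a nontrivial idempotent
    classical
    have hex : ∃ r : ℕ, ∃ e, D.Good e ∧ finrank k (LinearMap.range e) = r :=
      ⟨_, e₀, ⟨he₀.1, he₀.2.1, he₀.2.2.1, he₀.2.2.2⟩, rfl⟩
    obtain ⟨e, he, her⟩ := Nat.find_spec hex
    have hmin : ∀ b, D.Good b → finrank k (LinearMap.range e) ≤ finrank k (LinearMap.range b) := by
      intro b hb
      rw [her]
      exact Nat.find_min' hex ⟨b, hb, rfl⟩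
    -- the block `range e` under its stabilizer
    have hlt₁ : finrank k (LinearMap.range e) < n := by
      rw [← hn]; exact Dat.finrank_range_lt he.2.1 he.2.2.2
    obtain ⟨W₁₀, hW₁₀⟩ := ih _ hlt₁ ↥(D.stab e) ↥(LinearMap.range e)
      (D.restrict (LinearMap.range e) (fun x u hu => D.range_τ_inv he.1 x u hu) (D.stab e)
        (fun h hh u hu => D.range_σ_inv h hh u hu)) rfl
    obtain ⟨W₁, _, hW₁span, hW₁dim⟩ := D.restrict_free _ _ _ _ W₁₀ hW₁₀
    -- the common kernel under the whole group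
    have hlt₂ : finrank k (D.Yp e) < n := by
      rw [← hn]; exact D.finrank_Yp_lt he.2.2.1
    obtain ⟨W₂₀, hW₂₀⟩ := ih _ hlt₂ ↥(⊤ : Subgroup H) ↥(D.Yp e)
      (D.restrict (D.Yp e) (fun x u hu => D.Yp_τ_inv he.1 x u hu) ⊤
        (fun h _ u hu => D.Yp_σ_inv e h u hu)) rfl
    obtain ⟨W₂, _, hW₂span, hW₂dim⟩ := D.restrict_free _ _ _ _ W₂₀ hW₂₀
    refine ⟨W₁ ⊔ W₂, D.caseA e he hmin W₁ hW₁span hW₁dim W₂ ?_ ?_⟩
    · rw [← hW₂span]
      apply iSup_le
      intro h
      exact le_iSup (fun h : H => W₂.map (D.σ h)) (h : H)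
    · rw [← hW₂dim, Subgroup.card_top]

end Cfsg.Agent.Lib.Helper8.FF
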