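import Mathlib
import Cfsg.Agent.Lib.Helper8.FF9

set_option autoImplicit false

/-! The Hall–Higman critical configuration: a module without fixed points for the normal
`q`-subgroup is free over the cyclic `p`-group. -/

namespace Cfsg.Agent.Lib.Helper8.HB

open Module

universe u v

section Grp

variable {G : Type*} [Group G]

/-- commuting with a nontrivial element of `⟨x⟩` forces centrality -/
theorem mem_center_of_comm [Finite G] (p q : ℕ) [Fact p.Prime] [Fact q.Prime] (hpq : p ≠ q)
    (Q : Subgroup G) (hQ : IsPGroup q Q) (x : G) (hx : IsPGroup p (Subgroup.zpowers x))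
    (hC : ∀ y ∈ Subgroup.zpowers x, y ≠ 1 →
      Subgroup.centralizer ({y} : Set G) = Subgroup.zpowers x ⊔ Subgroup.center G)
    (y : G) (hy : y ∈ Subgroup.zpowers x) (hy1 : y ≠ 1) (u : G) (hu : u ∈ Q)
    (hcomm : u * y = y * u) : u ∈ Subgroup.center G := by
  have h1 : u ∈ Subgroup.centralizer ({y} : Set G) := by
    rw [Subgroup.mem_centralizer_iff]
    intro z hz
    rw [Set.mem_singleton_iff] at hz
    rw [hz]; exact hcomm.symm
  rw [hC y hy hy1, Subgroup.mem_sup_of_normal_right] at h1
  obtain ⟨a, ha, z, hz, rfl⟩ := h1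
  have haP : a ^ Nat.card (Subgroup.zpowers x) = 1 := by
    have h2 : (⟨a, ha⟩ : Subgroup.zpowers x) ^ Nat.card (Subgroup.zpowers x) = 1 := pow_card_eq_one'
    exact congrArg Subtype.val h2
  have hcomm' : Commute a z := Subgroup.mem_center_iff.mp hz a
  have h2 : (a * z) ^ Nat.card (Subgroup.zpowers x) = z ^ Nat.card (Subgroup.zpowers x) := by
    rw [hcomm'.mul_pow, haP, one_mul]
  have h3 : (a * z) ^ Nat.card (Subgroup.zpowers x) ∈ Subgroup.center G := by
    rw [h2]; exact pow_mem hz _
  obtain ⟨k, hk⟩ := (IsPGroup.iff_orderOf.mp hQ) ⟨a * z, hu⟩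
  rw [Subgroup.orderOf_mk] at hk
  obtain ⟨n, hn⟩ := IsPGroup.iff_card.mp hx
  have hcop : Nat.Coprime (Nat.card (Subgroup.zpowers x)) (orderOf (a * z)) := by
    rw [hn, hk]
    apply Nat.Coprime.pow
    exact (Nat.coprime_primes (Fact.out) (Fact.out)).mpr hpq
  obtain ⟨m, hm⟩ := exists_pow_eq_self_of_coprime hcop
  rw [← hm]; exact pow_mem h3 m

/-- if `h` of `p`-power order conjugates `u ∈ Q` to itself modulo the centre, it centralizes `u` -/
theorem comm_of_conj_mod_center (p q : ℕ) [Fact p.Prime] [Fact q.Prime] (hpq : p ≠ q)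
    (Q : Subgroup G) [Q.Normal] (hQ : IsPGroup q Q) (h u : G) (hu : u ∈ Q)
    (hh : ∃ a : ℕ, orderOf h = p ^ a)
    (hz : (h * u * h⁻¹)⁻¹ * u ∈ Subgroup.center G) : u * h = h * u := by
  set z := u⁻¹ * (h * u * h⁻¹) with hzdef
  have hzc : z ∈ Subgroup.center G := by
    have h1 : z = ((h * u * h⁻¹)⁻¹ * u)⁻¹ := by rw [hzdef]; group
    rw [h1]; exact inv_mem hz
  have hzQ : z ∈ Q := by
    rw [hzdef]
    exact Q.mul_mem (Q.inv_mem hu) (Subgroup.Normal.conj_mem inferInstance u hu h)
  have hconj : h * u * h⁻¹ = u * z := by rw [hzdef]; group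
  have hzcomm : ∀ g : G, g * z = z * g := fun g => Subgroup.mem_center_iff.mp hzc g
  have hpow : ∀ k : ℕ, h ^ k * u * (h ^ k)⁻¹ = u * z ^ k := by
    intro k
    induction k with
    | zero => simp
    | succ k ih =>
      have hzk : ∀ g : G, g * z ^ k = z ^ k * g :=
        fun g => Subgroup.mem_center_iff.mp (pow_mem hzc k) g
      calc h ^ (k + 1) * u * (h ^ (k + 1))⁻¹ = h * (h ^ k * u * (h ^ k)⁻¹) * h⁻¹ := by
            rw [pow_succ']; group
        _ = h * (u * z ^ k) * h⁻¹ := by rw [ih]
        _ = (h * u * h⁻¹) * (h * z ^ k * h⁻¹) := by group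
        _ = (u * z) * z ^ k := by rw [hconj, hzk h, mul_inv_cancel_right]
        _ = u * z ^ (k + 1) := by rw [pow_succ', mul_assoc]
  have h1 := hpow (orderOf h)
  rw [pow_orderOf_eq_one, one_mul, inv_one, mul_one] at h1
  have h2 : z ^ orderOf h = 1 := by
    have := h1.symm
    rwa [mul_eq_left] at this
  obtain ⟨a, ha⟩ := hh
  obtain ⟨b, hb⟩ := (IsPGroup.iff_orderOf.mp hQ) ⟨z, hzQ⟩
  rw [Subgroup.orderOf_mk] at hb
  have h3 : orderOf z ∣ p ^ a := by rw [← ha]; exact orderOf_dvd_of_pow_eq_one h2
  have h4 : orderOf z = 1 := by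
    have hcop : Nat.Coprime (q ^ b) (p ^ a) := by
      apply Nat.Coprime.pow
      exact (Nat.coprime_primes (Fact.out) (Fact.out)).mpr hpq.symm
    rw [hb] at h3 ⊢
    exact Nat.Coprime.eq_one_of_dvd hcop h3
  rw [orderOf_eq_one_iff] at h4
  rw [h4, mul_one] at hconj
  calc u * h = (h * u * h⁻¹) * h := by rw [hconj]
    _ = h * u := by group

end Grp


section Free

theorem free_of_fpf {G : Type u} [Group G] [Finite G] (p q : ℕ) [Fact p.Prime] [Fact q.Prime]
    (hpq : p ≠ q) (Q : Subgroup G) [Q.Normal] (hQ : IsPGroup q Q) (x : G)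
    (hx : IsPGroup p (Subgroup.zpowers x)) [DecidableEq (Subgroup.zpowers x)]
    (hA1 : ∀ y ∈ Subgroup.zpowers x, y ≠ 1 → ∀ u ∈ Q, u * y = y * u → u ∈ Subgroup.center G)
    {K : Type*} [Field K] (hqK : (q : K) ≠ 0)
    {U : Type v} [AddCommGroup U] [Module K U] [FiniteDimensional K U]
    (c : Representation K G U) (hZ : ∀ z ∈ Subgroup.center G, c z = 1)
    (hfix : ∀ f : U, (∀ u ∈ Q, c u f = f) → f = 0) :
    ∃ W : Submodule K U,
      DirectSum.IsInternal (fun h : Subgroup.zpowers x => W.map (c (h : G))) := by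
  classical
  set Qb : Subgroup (G ⧸ Subgroup.center G) := Q.map (QuotientGroup.mk' (Subgroup.center G))
    with hQb
  haveI : Qb.Normal :=
    Subgroup.Normal.map inferInstance _ (QuotientGroup.mk'_surjective (Subgroup.center G))
  let cb : Representation K (G ⧸ Subgroup.center G) U :=
    QuotientGroup.lift (Subgroup.center G) c (fun z hz => hZ z hz)
  have hcb : ∀ g : G, cb (QuotientGroup.mk g) = c g := fun g => rfl
  let D : FF.Dat K Qb (Subgroup.zpowers x) U :=
    { τ := cb.comp Qb.subtype
      σ := c.comp (Subgroup.zpowers x).subtype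
      φ := (MulAut.conjNormal (H := Qb)).comp
        ((QuotientGroup.mk' (Subgroup.center G)).comp (Subgroup.zpowers x).subtype)
      compat := by
        rintro h ⟨y, hy⟩
        obtain ⟨g, rfl⟩ := QuotientGroup.mk_surjective y
        show c (h : G) * cb (QuotientGroup.mk g) =
          cb (((MulAut.conjNormal (QuotientGroup.mk (h : G) : G ⧸ Subgroup.center G))
            (⟨QuotientGroup.mk g, hy⟩ : Qb) : Qb) : G ⧸ Subgroup.center G) * c (h : G)
        rw [MulAut.conjNormal_apply]
        have e : (QuotientGroup.mk (h : G) : G ⧸ Subgroup.center G) * QuotientGroup.mk g *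
            (QuotientGroup.mk (h : G))⁻¹ = QuotientGroup.mk ((h : G) * g * (h : G)⁻¹) := rfl
        show c (h : G) * cb (QuotientGroup.mk g) =
          cb ((QuotientGroup.mk (h : G) : G ⧸ Subgroup.center G) * QuotientGroup.mk g *
            (QuotientGroup.mk (h : G))⁻¹) * c (h : G)
        rw [e, hcb, hcb, ← map_mul, ← map_mul, inv_mul_cancel_right]
      fpf := by
        rintro h hh ⟨y, hy⟩ hfix'
        obtain ⟨u, hu, rfl⟩ := Subgroup.mem_map.mp hy
        have h1 : (QuotientGroup.mk ((h : G) * u * (h : G)⁻¹) : G ⧸ Subgroup.center G) =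
            QuotientGroup.mk u := by
          have h2 := congrArg Subtype.val hfix'
          rw [MonoidHom.comp_apply, MulAut.conjNormal_apply] at h2
          exact h2
        rw [QuotientGroup.eq] at h1
        have hord : ∃ a : ℕ, orderOf (h : G) = p ^ a := by
          obtain ⟨a, ha⟩ := (IsPGroup.iff_orderOf.mp hx) h
          exact ⟨a, by rw [← ha, Subgroup.orderOf_coe]⟩
        have h3 := comm_of_conj_mod_center p q hpq Q hQ (h : G) u hu hord h1
        have h4 : u ∈ Subgroup.center G :=
          hA1 (h : G) h.2 (fun h0 => hh (Subtype.ext h0)) u hu h3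
        apply Subtype.ext
        show (QuotientGroup.mk u : G ⧸ Subgroup.center G) = 1
        rw [QuotientGroup.eq_one_iff]
        exact h4
      cfix := by
        intro f hf
        apply hfix
        intro u hu
        exact hf ⟨QuotientGroup.mk u, Subgroup.mem_map_of_mem _ hu⟩ }
  have hnil : Group.IsNilpotent Qb := (hQ.map (QuotientGroup.mk' (Subgroup.center G))).isNilpotent
  have hcard : (Nat.card Qb : K) ≠ 0 := by
    obtain ⟨n, hn⟩ := IsPGroup.iff_card.mp (hQ.map (QuotientGroup.mk' (Subgroup.center G)))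
    rw [hn, Nat.cast_pow]; exact pow_ne_zero _ hqK
  exact FF.coprime_free hnil hcard _ (Subgroup.zpowers x) U D rfl

end Free

section Fixed

variable {k : Type*} [Field k] {H : Type*} [Group H] [Fintype H] [DecidableEq H]
  {U : Type*} [AddCommGroup U] [Module k U]

theorem internal_unique (A : H → Submodule k U) (hint : DirectSum.IsInternal A)
    (f f' : H → U) (hf : ∀ i, f i ∈ A i) (hf' : ∀ i, f' i ∈ A i)
    (hsum : ∑ i, f i = ∑ i, f' i) : f = f' := by
  set y : DirectSum H fun i => A i :=
    DFinsupp.equivFunOnFintype.symm (fun i => (⟨f i, hf i⟩ : A i)) with hy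
  set y' : DirectSum H fun i => A i :=
    DFinsupp.equivFunOnFintype.symm (fun i => (⟨f' i, hf' i⟩ : A i)) with hy'
  have h1 : DirectSum.coeLinearMap A y = DirectSum.coeLinearMap A y' := by
    rw [FF.coeLinearMap_eq_sum, FF.coeLinearMap_eq_sum]
    exact hsum
  have h2 : y = y' := hint.injective h1
  funext i
  have h3 : (y i : U) = (y' i : U) := by rw [h2]
  exact h3

theorem internal_exists (A : H → Submodule k U) (hint : DirectSum.IsInternal A) (u : U) :
    ∃ f : H → U, (∀ i, f i ∈ A i) ∧ ∑ i, f i = u := by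
  obtain ⟨y, hy⟩ := hint.surjective u
  refine ⟨fun i => ((y i : A i) : U), fun i => (y i).2, ?_⟩
  rw [← hy]
  exact (FF.coeLinearMap_eq_sum A y).symm

/-- fixed points of a free module are the traces of the generating subspace -/
theorem fixed_of_free (σ : Representation k H U) (W : Submodule k U)
    (hint : DirectSum.IsInternal (fun h : H => W.map (σ h))) :
    (∀ u, (∀ h, σ h u = u) → ∃ w ∈ W, u = ∑ h, σ h w) ∧
      (∀ w ∈ W, ∑ h, σ h w = 0 → w = 0) := by
  constructor
  · intro u hu
    obtain ⟨f, hf, hsum⟩ := internal_exists _ hint u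
    have hkey : ∀ g : H, f g = σ g (f 1) := by
      intro g
      have h1 : (fun h' => σ g (f (g⁻¹ * h'))) = f := by
        apply internal_unique _ hint
        · intro h'
          obtain ⟨w, hw, hw'⟩ := hf (g⁻¹ * h')
          refine ⟨w, hw, ?_⟩
          show σ h' w = σ g (f (g⁻¹ * h'))
          rw [← hw']
          show σ h' w = σ g (σ (g⁻¹ * h') w)
          rw [← FF.rep_mul_apply, mul_inv_cancel_left]
        · exact hf
        · rw [hsum]
          have h2 : ∑ h', σ g (f (g⁻¹ * h')) = ∑ h, σ g (f h) :=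
            Equiv.sum_comp (Equiv.mulLeft g⁻¹) (fun h => σ g (f h))
          rw [h2, ← map_sum, hsum, hu g]
      have h3 := congrFun h1 g
      simp only [inv_mul_cancel] at h3
      exact h3.symm
    have hf1 : f 1 ∈ W := by
      obtain ⟨w, hw, hw'⟩ := hf 1
      rw [← hw']
      show σ 1 w ∈ W
      rw [FF.rep_one_apply]
      exact hw
    refine ⟨f 1, hf1, ?_⟩
    rw [← hsum]
    exact Finset.sum_congr rfl (fun g _ => hkey g)
  · intro w hw hsum
    have h1 : (fun h => σ h w) = fun _ => (0 : U) := by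
      apply internal_unique _ hint
      · intro h; exact ⟨w, hw, rfl⟩
      · intro h; exact Submodule.zero_mem _
      · rw [hsum, Finset.sum_const_zero]
    have h2 := congrFun h1 1
    simp only [FF.rep_one_apply] at h2
    exact h2

end Fixed

end Cfsg.Agent.Lib.Helper8.HB
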