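import Mathlib
import Cfsg.Agent.Lib.Helper8.FF1

set_option autoImplicit false

/-! Linear algebra of a unipotent operator of `p`-power order. -/

namespace Cfsg.Agent.Lib.Helper8.HB

open Module

section Nil

variable {K : Type*} [Field K] {V : Type*} [AddCommGroup V] [Module K V]

theorem geom_sum_char (p : ℕ) [Fact p.Prime] [CharP K p] (N : Module.End K V) (n : ℕ) :
    ∑ i ∈ Finset.range (p ^ n), (1 + N) ^ i = N ^ (p ^ n - 1) := by
  have hpoly : ∑ i ∈ Finset.range (p ^ n), (1 + Polynomial.X : Polynomial K) ^ i =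
      Polynomial.X ^ (p ^ n - 1) := by
    have h1 : (∑ i ∈ Finset.range (p ^ n), (1 + Polynomial.X : Polynomial K) ^ i) * Polynomial.X =
        Polynomial.X ^ (p ^ n - 1) * Polynomial.X := by
      have h2 := geom_sum_mul (1 + Polynomial.X : Polynomial K) (p ^ n)
      rw [add_sub_cancel_left] at h2
      rw [h2, add_pow_char_pow, one_pow, add_sub_cancel_left, ← pow_succ,
        Nat.sub_add_cancel (Nat.one_le_pow _ _ (Nat.Prime.pos Fact.out))]
    exact mul_right_cancel₀ Polynomial.X_ne_zero h1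
  have h3 := congrArg (Polynomial.aeval N) hpoly
  simpa using h3

theorem sub_one_pow_char (p : ℕ) [Fact p.Prime] [CharP K p] (R : Module.End K V) (n : ℕ) :
    (R - 1) ^ (p ^ n) = R ^ (p ^ n) - 1 := by
  have hpoly : ((Polynomial.X : Polynomial K) - 1) ^ (p ^ n) = Polynomial.X ^ (p ^ n) - 1 := by
    rw [sub_pow_char_pow, one_pow]
  have h3 := congrArg (Polynomial.aeval R) hpoly
  simpa using h3

theorem pow_finrank_eq_zero [FiniteDimensional K V] (N : Module.End K V) (s : ℕ)
    (hs : N ^ s = 0) : N ^ finrank K V = 0 := by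
  have h1 : IsNilpotent N := ⟨s, hs⟩
  have h2 := IsNilpotent.charpoly_eq_X_pow_finrank h1
  have h3 := LinearMap.aeval_self_charpoly N
  rw [h2] at h3
  simpa using h3

/-- an explicit endomorphism commuting with a nilpotent operator -/
noncomputable def twist (N : Module.End K V) (s : ℕ) (l : Module.Dual K V) (v' : V) :
    Module.End K V :=
  ∑ j ∈ Finset.range s, (l.comp (N ^ j)).smulRight ((N ^ (s - 1 - j)) v')

theorem twist_apply (N : Module.End K V) (s : ℕ) (l : Module.Dual K V) (v' w : V) :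
    twist N s l v' w = ∑ j ∈ Finset.range s, l ((N ^ j) w) • (N ^ (s - 1 - j)) v' := by
  unfold twist
  rw [LinearMap.sum_apply]
  rfl

theorem twist_comm (N : Module.End K V) (s : ℕ) (hs : N ^ s = 0) (l : Module.Dual K V) (v' : V) :
    N * twist N s l v' = twist N s l v' * N := by
  ext w
  rw [Module.End.mul_apply, Module.End.mul_apply, twist_apply, twist_apply, map_sum]
  set a : ℕ → V := fun j => l ((N ^ j) w) • (N ^ (s - j)) v' with ha
  have h1 : ∑ j ∈ Finset.range s, N (l ((N ^ j) w) • (N ^ (s - 1 - j)) v') =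
      ∑ j ∈ Finset.range s, a j := by
    apply Finset.sum_congr rfl
    intro j hj
    rw [Finset.mem_range] at hj
    rw [map_smul, ha]
    have h2 : s - j = (s - 1 - j) + 1 := by omega
    show l ((N ^ j) w) • N ((N ^ (s - 1 - j)) v') = l ((N ^ j) w) • (N ^ (s - j)) v'
    rw [h2, pow_succ', Module.End.mul_apply]
  have h2 : ∑ j ∈ Finset.range s, l ((N ^ j) (N w)) • (N ^ (s - 1 - j)) v' =
      ∑ j ∈ Finset.range s, a (j + 1) := by
    apply Finset.sum_congr rfl
    intro j hj
    rw [ha]
    show l ((N ^ j) (N w)) • (N ^ (s - 1 - j)) v' = l ((N ^ (j + 1)) w) • (N ^ (s - (j + 1))) v'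
    rw [pow_succ, Module.End.mul_apply, Nat.sub_sub, add_comm 1 j]
  rw [h1, h2]
  have h3 := Finset.sum_range_succ a s
  have h4 := Finset.sum_range_succ' a s
  have h5 : a 0 = 0 := by
    rw [ha]
    show l ((N ^ 0) w) • (N ^ (s - 0)) v' = 0
    rw [Nat.sub_zero, hs, LinearMap.zero_apply, smul_zero]
  have h6 : a s = 0 := by
    rw [ha]
    show l ((N ^ s) w) • (N ^ (s - s)) v' = 0
    rw [hs, LinearMap.zero_apply, map_zero, zero_smul]
  rw [h5, add_zero] at h4
  rw [h6, add_zero] at h3
  rw [← h3, h4]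

theorem twist_mod (N : Module.End K V) (t : ℕ) (l : Module.Dual K V) (v' w : V) :
    twist N (t + 1) l v' w - l ((N ^ t) w) • v' ∈ LinearMap.range N := by
  rw [twist_apply, Finset.sum_range_succ]
  have h1 : t + 1 - 1 - t = 0 := by omega
  rw [h1, pow_zero, Module.End.one_apply, add_sub_cancel_right]
  apply Submodule.sum_mem
  intro j hj
  rw [Finset.mem_range] at hj
  apply Submodule.smul_mem
  have h2 : t + 1 - 1 - j = (t - 1 - j) + 1 := by omega
  rw [h2, pow_succ', Module.End.mul_apply]
  exact LinearMap.mem_range_self _ _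

/-- `V = K v₀ + N V` forces `V` to be cyclic -/
theorem span_of_cyclic (N : Module.End K V) (s : ℕ) (hs : N ^ s = 0) (v₀ : V)
    (hV : ∀ v, ∃ a : K, ∃ v', v = a • v₀ + N v') :
    Submodule.span K (Set.range (fun j : Fin s => (N ^ (j : ℕ)) v₀)) = ⊤ := by
  set S := Submodule.span K (Set.range (fun j : Fin s => (N ^ (j : ℕ)) v₀)) with hS
  have hstep : ∀ k, k ≤ s → ∀ v, ∃ y ∈ S, ∃ v', v = y + (N ^ k) v' := by
    intro k
    induction k with
    | zero =>
      intro _ v
      exact ⟨0, S.zero_mem, v, by rw [pow_zero, Module.End.one_apply, zero_add]⟩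
    | succ k ih =>
      intro hk v
      obtain ⟨y, hy, v', hv'⟩ := ih (by omega) v
      obtain ⟨a, v'', hv''⟩ := hV v'
      refine ⟨y + a • (N ^ k) v₀, ?_, v'', ?_⟩
      · apply S.add_mem hy
        apply S.smul_mem
        apply Submodule.subset_span
        exact ⟨⟨k, by omega⟩, rfl⟩
      · rw [hv', hv'', map_add, map_smul, pow_succ, Module.End.mul_apply, add_assoc]
  rw [eq_top_iff]
  intro v _
  obtain ⟨y, hy, v', hv'⟩ := hstep s le_rfl v
  rw [hs, LinearMap.zero_apply, add_zero] at hv'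
  rw [hv']; exact hy

/-- an operator commuting with `N` is determined by its value on a cyclic vector -/
theorem eq_zero_of_cyclic (N : Module.End K V) (s : ℕ) (v₀ : V)
    (hspan : Submodule.span K (Set.range (fun j : Fin s => (N ^ (j : ℕ)) v₀)) = ⊤)
    (g : Module.End K V) (hg : g * N = N * g) (h0 : g v₀ = 0) : g = 0 := by
  have hpow : ∀ j : ℕ, g * N ^ j = N ^ j * g := by
    intro j
    induction j with
    | zero => simp
    | succ j ih => rw [pow_succ, ← mul_assoc, ih, mul_assoc, hg, ← mul_assoc]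
  have h1 : Submodule.span K (Set.range (fun j : Fin s => (N ^ (j : ℕ)) v₀)) ≤ LinearMap.ker g := by
    rw [Submodule.span_le]
    rintro _ ⟨j, rfl⟩
    rw [SetLike.mem_coe, LinearMap.mem_ker]
    have h2 := congrArg (fun e : Module.End K V => e v₀) (hpow (j : ℕ))
    simp only [Module.End.mul_apply] at h2
    show g ((N ^ (j : ℕ)) v₀) = 0
    rw [h2, h0, map_zero]
  rw [hspan, top_le_iff] at h1
  exact LinearMap.ker_eq_top.mp h1

end Nil

end Cfsg.Agent.Lib.Helper8.HB
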