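import Mathlib
import Cfsg.Agent.Lib.Helper8.FF7

set_option autoImplicit false

/-! The conjugation representation on endomorphisms and traces over a cyclic subgroup. -/

namespace Cfsg.Agent.Lib.Helper8.HB

open Module

section Conj

variable {G : Type*} [Group G] {K : Type*} [Field K] {V : Type*} [AddCommGroup V] [Module K V]
  (ρ : Representation K G V)

/-- the conjugation representation on endomorphisms -/
noncomputable abbrev cj : Representation K G (V →ₗ[K] V) := Representation.linHom ρ ρ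

theorem cj_apply (g : G) (f : Module.End K V) : cj ρ g f = ρ g * f * ρ g⁻¹ := by
  rw [Representation.linHom_apply]; rfl

theorem ρ_inv_mul (g : G) : ρ g⁻¹ * ρ g = 1 := by
  rw [← map_mul, inv_mul_cancel, map_one]

theorem ρ_mul_inv (g : G) : ρ g * ρ g⁻¹ = 1 := by
  rw [← map_mul, mul_inv_cancel, map_one]

theorem trace_cj [FiniteDimensional K V] (g : G) (f : Module.End K V) :
    LinearMap.trace K V (cj ρ g f) = LinearMap.trace K V f := by
  rw [cj_apply, LinearMap.trace_mul_comm, ← mul_assoc, ρ_inv_mul, one_mul]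

/-- fixed by conjugation iff commuting -/
theorem cj_eq_self_iff (g : G) (f : Module.End K V) : cj ρ g f = f ↔ f * ρ g = ρ g * f := by
  rw [cj_apply]
  constructor
  · intro h
    calc f * ρ g = ρ g * f * ρ g⁻¹ * ρ g := by rw [h]
      _ = ρ g * f := by rw [mul_assoc, ρ_inv_mul, mul_one]
  · intro h
    rw [← h, mul_assoc, ρ_mul_inv, mul_one]

/-- the subgroup of elements commuting with a given endomorphism -/
def comSub (f : Module.End K V) : Subgroup G where
  carrier := {h | f * ρ h = ρ h * f}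
  mul_mem' := by
    intro a b ha hb
    show f * ρ (a * b) = ρ (a * b) * f
    have ha' : f * ρ a = ρ a * f := ha
    have hb' : f * ρ b = ρ b * f := hb
    rw [map_mul, ← mul_assoc, ha', mul_assoc, hb', mul_assoc]
  one_mem' := by
    show f * ρ 1 = ρ 1 * f
    rw [map_one, one_mul, mul_one]
  inv_mem' := by
    intro a ha
    show f * ρ a⁻¹ = ρ a⁻¹ * f
    have ha' : f * ρ a = ρ a * f := ha
    calc f * ρ a⁻¹ = ρ a⁻¹ * (ρ a * f) * ρ a⁻¹ := by
          rw [← mul_assoc, ρ_inv_mul, one_mul]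
      _ = ρ a⁻¹ * (f * ρ a) * ρ a⁻¹ := by rw [ha']
      _ = ρ a⁻¹ * f := by rw [mul_assoc, mul_assoc, ρ_mul_inv, mul_one]

theorem comm_of_mem_zpowers (x : G) (f : Module.End K V) (hf : f * ρ x = ρ x * f) (h : G)
    (hh : h ∈ Subgroup.zpowers x) : f * ρ h = ρ h * f := by
  have h1 : Subgroup.zpowers x ≤ comSub ρ f := by
    rw [Subgroup.zpowers_le]
    exact hf
  exact h1 hh

/-- elements acting trivially modulo the range of `ρ x - 1` -/
def modSub (x : G) : Subgroup G where
  carrier := {h | ∀ y : V, ρ h y - y ∈ LinearMap.range (ρ x - 1)}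
  mul_mem' := by
    intro a b ha hb y
    have h1 : ρ (a * b) y - y = (ρ a (ρ b y) - ρ b y) + (ρ b y - y) := by
      rw [map_mul, Module.End.mul_apply]; abel
    rw [h1]
    exact Submodule.add_mem _ (ha _) (hb _)
  one_mem' := by
    intro y
    rw [map_one, Module.End.one_apply, sub_self]
    exact Submodule.zero_mem _
  inv_mem' := by
    intro a ha y
    have h1 : ρ a⁻¹ y - y = -(ρ a (ρ a⁻¹ y) - ρ a⁻¹ y) := by
      rw [FF.rep_apply_inv]; abel
    rw [h1]
    exact Submodule.neg_mem _ (ha _)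

theorem sub_mem_range_of_mem_zpowers (x h : G) (hh : h ∈ Subgroup.zpowers x) (y : V) :
    ρ h y - y ∈ LinearMap.range (ρ x - 1) := by
  have h1 : Subgroup.zpowers x ≤ modSub ρ x := by
    rw [Subgroup.zpowers_le]
    intro y
    exact ⟨y, by rw [LinearMap.sub_apply, Module.End.one_apply]⟩
  exact h1 hh y

theorem sum_zpowers [Finite G] (x : G) [Fintype (Subgroup.zpowers x)] :
    ∑ h : Subgroup.zpowers x, ρ (h : G) = ∑ i ∈ Finset.range (orderOf x), (ρ x) ^ i := by
  have hx : IsOfFinOrder x := isOfFinOrder_of_finite x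
  rw [← Fin.sum_univ_eq_sum_range (fun i => (ρ x) ^ i) (orderOf x)]
  symm
  apply Fintype.sum_equiv (finEquivZPowers hx)
  intro i
  rw [finEquivZPowers_apply, map_pow]

/-- the trace over the cyclic group lands in the range of `ρ x - 1` when the norm vanishes -/
theorem trace_mem_range (x : G) [Fintype (Subgroup.zpowers x)]
    (hsum : ∑ h : Subgroup.zpowers x, ρ (h : G) = 0) (f : Module.End K V) (v : V) :
    (∑ h : Subgroup.zpowers x, cj ρ (h : G) f) v ∈ LinearMap.range (ρ x - 1) := by
  rw [LinearMap.sum_apply]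
  have h1 : ∑ h : Subgroup.zpowers x, (cj ρ (h : G) f) v =
      ∑ h : Subgroup.zpowers x, (ρ (h : G) (f (ρ (h : G)⁻¹ v)) - f (ρ (h : G)⁻¹ v)) +
        ∑ h : Subgroup.zpowers x, f (ρ (h : G)⁻¹ v) := by
    rw [← Finset.sum_add_distrib]
    apply Finset.sum_congr rfl
    intro h _
    rw [cj_apply, sub_add_cancel]
    rfl
  have h2 : ∑ h : Subgroup.zpowers x, f (ρ (h : G)⁻¹ v) = 0 := by
    rw [← map_sum]
    have h3 : ∑ h : Subgroup.zpowers x, ρ (h : G)⁻¹ v = (∑ h : Subgroup.zpowers x, ρ (h : G)) v := by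
      rw [LinearMap.sum_apply]
      exact Equiv.sum_comp (Equiv.inv (Subgroup.zpowers x)) (fun h => ρ (h : G) v)
    rw [h3, hsum, LinearMap.zero_apply, map_zero]
  rw [h1, h2, add_zero]
  apply Submodule.sum_mem
  intro h _
  exact sub_mem_range_of_mem_zpowers ρ x (h : G) h.2 _

/-- the trace over the cyclic group commutes with `ρ x` -/
theorem trace_comm (x : G) [Fintype (Subgroup.zpowers x)] (f : Module.End K V) :
    (∑ h : Subgroup.zpowers x, cj ρ (h : G) f) * ρ x = ρ x * (∑ h : Subgroup.zpowers x, cj ρ (h : G) f) := by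
  rw [← cj_eq_self_iff, map_sum]
  have h1 : ∀ h : Subgroup.zpowers x, cj ρ x (cj ρ (h : G) f) =
      cj ρ (((⟨x, Subgroup.mem_zpowers x⟩ : Subgroup.zpowers x) * h : Subgroup.zpowers x) : G) f := by
    intro h
    show cj ρ x (cj ρ (h : G) f) = cj ρ (x * (h : G)) f
    rw [map_mul, Module.End.mul_apply]
  rw [Finset.sum_congr rfl (fun h _ => h1 h)]
  exact Equiv.sum_comp (Equiv.mulLeft (⟨x, Subgroup.mem_zpowers x⟩ : Subgroup.zpowers x))
    (fun h => cj ρ (h : G) f)

end Conj

end Cfsg.Agent.Lib.Helper8.HB
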