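import Mathlib
import Cfsg.Agent.Lib.Helper8.HB1
import Cfsg.Agent.Lib.Helper8.HB2
import Cfsg.Agent.Lib.Helper8.HB3
import Cfsg.Agent.Lib.Helper8.HB4

set_option autoImplicit false

/-! The Hall–Higman critical case. -/

namespace Cfsg.Agent.Lib.Helper8.HB

open Module

universe u v

section Crit

variable {G : Type u} [Group G] [Finite G] {K : Type*} [Field K] [IsAlgClosed K]
  {V : Type v} [AddCommGroup V] [Module K V] [FiniteDimensional K V] [Nontrivial V]

/-- the centralizer of `ρ x` as a subspace of the endomorphisms -/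
def cent (ρ : Representation K G V) (x : G) : Submodule K (V →ₗ[K] V) where
  carrier := {g | g * ρ x = ρ x * g}
  add_mem' := by
    intro a b ha hb
    show (a + b) * ρ x = ρ x * (a + b)
    have ha' : a * ρ x = ρ x * a := ha
    have hb' : b * ρ x = ρ x * b := hb
    rw [add_mul, mul_add, ha', hb']
  zero_mem' := by
    show (0 : Module.End K V) * ρ x = ρ x * 0
    rw [zero_mul, mul_zero]
  smul_mem' := by
    intro c a ha
    show (c • a) * ρ x = ρ x * (c • a)
    have ha' : a * ρ x = ρ x * a := ha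
    rw [smul_mul_assoc, mul_smul_comm, ha']

theorem mem_cent (ρ : Representation K G V) (x : G) (g : Module.End K V) :
    g ∈ cent ρ x ↔ g * ρ x = ρ x * g := Iff.rfl


theorem critical' (p q : ℕ) [Fact p.Prime] [Fact q.Prime] (hpq : p ≠ q)
    (Q : Subgroup G) [Q.Normal] (hQ : IsPGroup q Q) (x : G)
    (hx : IsPGroup p (Subgroup.zpowers x))
    (hA1 : ∀ y ∈ Subgroup.zpowers x, y ≠ 1 → ∀ u ∈ Q, u * y = y * u → u ∈ Subgroup.center G)
    [CharP K p] (ρ : Representation K G V) (hfaith : Function.Injective ρ)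
    (hirr : ∀ W : Submodule K V, (∀ g ∈ Q, Submodule.map (ρ g) W ≤ W) → W = ⊥ ∨ W = ⊤)
    (s : ℕ) (hs : (ρ x - 1) ^ s = 0) (hmin : ∀ k < s, (ρ x - 1) ^ k ≠ 0)
    (hsP : s ≤ Nat.card (Subgroup.zpowers x) - 1) :
    s = Nat.card (Subgroup.zpowers x) - 1 ∧ finrank K V = Nat.card (Subgroup.zpowers x) - 1 ∧
      2 ≤ finrank K V := by
  classical
  haveI : Fintype (Subgroup.zpowers x) := Fintype.ofFinite _
  set N : Module.End K V := ρ x - 1 with hN
  set P := Nat.card (Subgroup.zpowers x) with hP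
  set d := finrank K V with hd
  obtain ⟨n, hn⟩ := IsPGroup.iff_card.mp hx
  have hs1 : 1 ≤ s := by
    rcases Nat.eq_zero_or_pos s with h0 | h0
    · exfalso
      rw [h0, pow_zero] at hs
      exact one_ne_zero hs
    · exact h0
  have hρx : ρ x = 1 + N := by rw [hN]; abel
  -- irreducibility in the type-level form
  have hirrQ : Irr (ρ.comp Q.subtype) := by
    intro W hW
    exact hirr W (fun g hg => hW ⟨g, hg⟩)
  obtain ⟨b, hb⟩ := finrank_eq_prime_pow (K := K) q _ Q hQ rfl V (ρ.comp Q.subtype) hirrQ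
  have hqK : (q : K) ≠ 0 := by
    intro h0
    rw [CharP.cast_eq_zero_iff K p q] at h0
    exact hpq ((Nat.prime_dvd_prime_iff_eq Fact.out Fact.out).mp h0)
  have hdK : (d : K) ≠ 0 := by
    rw [hd, hb, Nat.cast_pow]; exact pow_ne_zero _ hqK
  have hSchur : ∀ f : Module.End K V, (∀ u ∈ Q, f * ρ u = ρ u * f) →
      ∃ a : K, f = algebraMap K (Module.End K V) a := by
    intro f hf
    exact schur (ρ.comp Q.subtype) hirrQ f (fun g => hf g g.2)
  -- the trace-zero endomorphisms
  set U : Submodule K (V →ₗ[K] V) := LinearMap.ker (LinearMap.trace K V) with hU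
  have hUinv : ∀ (g : G), ∀ f ∈ U, cj ρ g f ∈ U := by
    intro g f hf
    rw [hU, LinearMap.mem_ker] at hf ⊢
    rw [trace_cj, hf]
  set cU : Representation K G U := FF.restrictRep (cj ρ) U hUinv with hcU
  have hcU_coe : ∀ (g : G) (f : U), ((cU g f : U) : V →ₗ[K] V) = cj ρ g (f : V →ₗ[K] V) :=
    fun g f => rfl
  have hZ : ∀ z ∈ Subgroup.center G, cU z = 1 := by
    intro z hz
    obtain ⟨a, ha⟩ := hSchur (ρ z) (fun u _ => by
      rw [← map_mul, ← map_mul, Subgroup.mem_center_iff.mp hz u])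
    ext f : 2
    rw [hcU_coe, cj_apply, Module.End.one_apply]
    have h1 : ρ z * (f : V →ₗ[K] V) = (f : V →ₗ[K] V) * ρ z := by
      rw [ha]; exact Algebra.commutes a _
    rw [h1, mul_assoc, ρ_mul_inv, mul_one]
  have hfix : ∀ f : U, (∀ u ∈ Q, cU u f = f) → f = 0 := by
    intro f hf
    have h1 : ∀ u ∈ Q, (f : V →ₗ[K] V) * ρ u = ρ u * (f : V →ₗ[K] V) := by
      intro u hu
      rw [← cj_eq_self_iff]
      have h2 := congrArg (fun w : U => (w : V →ₗ[K] V)) (hf u hu)
      exact h2
    obtain ⟨a, ha⟩ := hSchur (f : V →ₗ[K] V) h1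
    have h3 : LinearMap.trace K V (f : V →ₗ[K] V) = 0 := f.2
    rw [ha, Algebra.algebraMap_eq_smul_one, map_smul, LinearMap.trace_one, smul_eq_mul] at h3
    have ha0 : a = 0 := by
      rcases mul_eq_zero.mp h3 with h | h
      · exact h
      · exact absurd h hdK
    apply Subtype.ext
    rw [ha, ha0, map_zero]; rfl
  obtain ⟨W, hint⟩ := free_of_fpf p q hpq Q hQ x hx hA1 hqK cU hZ hfix
  -- dimensions
  have hdimE : finrank K (V →ₗ[K] V) = d * d := Module.finrank_linearMap K K V V
  have htrsurj : Function.Surjective (LinearMap.trace K V) := by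
    intro a
    refine ⟨(a / (d : K)) • (1 : Module.End K V), ?_⟩
    rw [map_smul, LinearMap.trace_one, smul_eq_mul, div_mul_cancel₀ a hdK]
  have hdimU : finrank K U + 1 = d * d := by
    have h1 := LinearMap.finrank_range_add_finrank_ker (LinearMap.trace K V)
    rw [LinearMap.range_eq_top.mpr htrsurj, finrank_top, Module.finrank_self, hdimE] at h1
    rw [← h1, add_comm]
  have hdimW : finrank K U = P * finrank K W :=
    FF.finrank_of_isInternal_translates (cU.comp (Subgroup.zpowers x).subtype) W hint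
  obtain ⟨hfix1, hfix2⟩ := fixed_of_free (cU.comp (Subgroup.zpowers x).subtype) W hint
  -- the trace over the cyclic group
  set Tr : (V →ₗ[K] V) →ₗ[K] (V →ₗ[K] V) := ∑ h : Subgroup.zpowers x, cj ρ (h : G) with hTr
  have hTr_apply : ∀ f, Tr f = ∑ h : Subgroup.zpowers x, cj ρ (h : G) f := by
    intro f; rw [hTr, LinearMap.sum_apply]
  have hTr_coe : ∀ w : U, Tr (w : V →ₗ[K] V) =
      ((∑ h : Subgroup.zpowers x, (cU.comp (Subgroup.zpowers x).subtype) h w : U) : V →ₗ[K] V) := by
    intro w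
    rw [hTr_apply, Submodule.coe_sum]
    rfl
  set Φ : (K × W) →ₗ[K] (V →ₗ[K] V) :=
    (LinearMap.toSpanSingleton K (V →ₗ[K] V) 1).coprod (Tr ∘ₗ U.subtype ∘ₗ W.subtype) with hΦ
  have hΦ_apply : ∀ (μ : K) (w : W), Φ (μ, w) = μ • (1 : Module.End K V) + Tr ((w : U) : V →ₗ[K] V) := by
    intro μ w
    rw [hΦ, LinearMap.coprod_apply]
    rfl
  have hΦinj : Function.Injective Φ := by
    rw [injective_iff_map_eq_zero]
    rintro ⟨μ, w⟩ h0
    rw [hΦ_apply] at h0
    have h1 := congrArg (LinearMap.trace K V) h0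
    rw [map_add, map_smul, LinearMap.trace_one, map_zero, hTr_coe] at h1
    have h2 : LinearMap.trace K V
        ((∑ h : Subgroup.zpowers x, (cU.comp (Subgroup.zpowers x).subtype) h (w : U) : U) :
          V →ₗ[K] V) = 0 :=
      (∑ h : Subgroup.zpowers x, (cU.comp (Subgroup.zpowers x).subtype) h (w : U) : U).2
    rw [h2, add_zero, smul_eq_mul] at h1
    have hμ : μ = 0 := by
      rcases mul_eq_zero.mp h1 with h | h
      · exact h
      · exact absurd h hdK
    rw [hμ, zero_smul, zero_add, hTr_coe] at h0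
    have h3 : (∑ h : Subgroup.zpowers x, (cU.comp (Subgroup.zpowers x).subtype) h (w : U) : U) = 0 :=
      Subtype.ext h0
    have h4 : (w : U) = 0 := hfix2 (w : U) w.2 h3
    have h5 : w = 0 := Subtype.ext h4
    rw [hμ, h5]
    rfl
  have hΦrange : LinearMap.range Φ = cent ρ x := by
    apply le_antisymm
    · rintro _ ⟨⟨μ, w⟩, rfl⟩
      rw [hΦ_apply, mem_cent, hTr_apply, add_mul, mul_add, trace_comm, smul_mul_assoc,
        mul_smul_comm, one_mul, mul_one]
    · intro g hg
      rw [mem_cent] at hg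
      set μ : K := LinearMap.trace K V g / (d : K) with hμ
      have hg'U : g - μ • (1 : Module.End K V) ∈ U := by
        rw [hU, LinearMap.mem_ker, map_sub, map_smul, LinearMap.trace_one, smul_eq_mul, hμ,
          div_mul_cancel₀ _ hdK, sub_self]
      have hg'fix : ∀ h : Subgroup.zpowers x,
          (cU.comp (Subgroup.zpowers x).subtype) h ⟨g - μ • (1 : Module.End K V), hg'U⟩ =
            ⟨g - μ • (1 : Module.End K V), hg'U⟩ := by
        intro h
        apply Subtype.ext
        show cj ρ (h : G) (g - μ • (1 : Module.End K V)) = g - μ • (1 : Module.End K V)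
        rw [cj_eq_self_iff]
        have h1 := comm_of_mem_zpowers ρ x g hg (h : G) h.2
        rw [sub_mul, mul_sub, h1, smul_mul_assoc, mul_smul_comm, one_mul, mul_one]
      obtain ⟨w, hw, hw'⟩ := hfix1 _ hg'fix
      refine ⟨(μ, ⟨w, hw⟩), ?_⟩
      rw [hΦ_apply, hTr_coe, ← hw']
      show μ • (1 : Module.End K V) + (g - μ • (1 : Module.End K V)) = g
      abel
  have hdimC : finrank K (cent ρ x) = 1 + finrank K W := by
    haveI : Module.Free K W := Module.Free.of_divisionRing K W
    rw [← hΦrange, LinearMap.finrank_range_of_inj hΦinj, Module.finrank_prod, Module.finrank_self]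
  -- the norm vanishes
  have hPord : orderOf x = P := (Nat.card_zpowers x).symm
  have hnorm : ∑ h : Subgroup.zpowers x, ρ (h : G) = 0 := by
    rw [sum_zpowers, hPord, hP, hn, hρx, geom_sum_char p N n, ← hn, ← hP]
    have h1 : P - 1 = s + (P - 1 - s) := by omega
    rw [h1, pow_add, hs, zero_mul]
  -- every element of the centralizer is a scalar modulo the range of N
  have hscal : ∀ g ∈ cent ρ x, ∃ μ : K, ∀ v : V, g v - μ • v ∈ LinearMap.range N := by
    intro g hg
    rw [← hΦrange] at hg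
    obtain ⟨⟨μ, w⟩, rfl⟩ := hg
    refine ⟨μ, fun v => ?_⟩
    rw [hΦ_apply, LinearMap.add_apply, LinearMap.smul_apply, Module.End.one_apply,
      add_sub_cancel_left, hTr_apply]
    exact trace_mem_range ρ x hnorm _ v
  -- a vector not killed by N^(s-1)
  obtain ⟨t, ht⟩ : ∃ t, s = t + 1 := ⟨s - 1, by omega⟩
  have hNt : N ^ t ≠ 0 := hmin t (by omega)
  obtain ⟨v₀, hv₀⟩ : ∃ v₀, (N ^ t) v₀ ≠ 0 := by
    by_contra hcon
    push Not at hcon
    exact hNt (LinearMap.ext hcon)
  obtain ⟨l, hl⟩ : ∃ l : Module.Dual K V, l ((N ^ t) v₀) = 1 := by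
    have h1 : ¬ ∀ φ : Module.Dual K V, φ ((N ^ t) v₀) = 0 :=
      fun h => hv₀ ((Module.forall_dual_apply_eq_zero_iff K _).mp h)
    push Not at h1
    obtain ⟨φ, hφ⟩ := h1
    refine ⟨(φ ((N ^ t) v₀))⁻¹ • φ, ?_⟩
    rw [LinearMap.smul_apply, smul_eq_mul, inv_mul_cancel₀ hφ]
  have hV : ∀ v', ∃ a : K, ∃ v'', v' = a • v₀ + N v'' := by
    intro v'
    have h1 : twist N s l v' ∈ cent ρ x := by
      rw [mem_cent, hρx, mul_add, add_mul, mul_one, one_mul, twist_comm N s hs l v']
    obtain ⟨μ, hμ⟩ := hscal _ h1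
    have h2 := hμ v₀
    have h3 := twist_mod N t l v' v₀
    rw [hl, one_smul, ← ht] at h3
    have h4 : v' - μ • v₀ ∈ LinearMap.range N := by
      have h5 : v' - μ • v₀ = (twist N s l v' v₀ - μ • v₀) - (twist N s l v' v₀ - v') := by abel
      rw [h5]
      exact Submodule.sub_mem _ h2 h3
    obtain ⟨v'', hv''⟩ := h4
    refine ⟨μ, v'', ?_⟩
    rw [hv'']; abel
  have hspan := span_of_cyclic N s hs v₀ hV
  have hds : d ≤ s := by
    have h1 := finrank_range_le_card (R := K) (fun j : Fin s => (N ^ (j : ℕ)) v₀)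
    rw [Fintype.card_fin] at h1
    rw [hd, ← finrank_top K V, ← hspan]
    exact h1
  have hsd : s ≤ d := by
    by_contra hcon
    push Not at hcon
    exact hmin d hcon (pow_finrank_eq_zero N s hs)
  have hsdeq : s = d := le_antisymm hsd hds
  -- evaluation at the cyclic vector
  set ev : cent ρ x →ₗ[K] V := (LinearMap.applyₗ v₀).comp (cent ρ x).subtype with hev
  have hev_apply : ∀ g : cent ρ x, ev g = (g : V →ₗ[K] V) v₀ := fun g => rfl
  have hNcomm : ∀ g : Module.End K V, g ∈ cent ρ x → g * N = N * g := by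
    intro g hg
    rw [mem_cent] at hg
    rw [hN, mul_sub, sub_mul, hg, mul_one, one_mul]
  have hevinj : Function.Injective ev := by
    rw [injective_iff_map_eq_zero]
    intro g hg
    rw [hev_apply] at hg
    apply Subtype.ext
    exact eq_zero_of_cyclic N s v₀ hspan (g : V →ₗ[K] V) (hNcomm _ g.2) hg
  have hevsurj : Function.Surjective ev := by
    rw [← LinearMap.range_eq_top, eq_top_iff, ← hspan, Submodule.span_le]
    rintro _ ⟨j, rfl⟩
    have h1 : N ^ (j : ℕ) ∈ cent ρ x := by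
      rw [mem_cent, hρx, mul_add, add_mul, mul_one, one_mul, ← pow_succ, ← pow_succ']
    exact ⟨⟨N ^ (j : ℕ), h1⟩, rfl⟩
  have hdimC2 : finrank K (cent ρ x) = d :=
    (LinearEquiv.ofBijective ev ⟨hevinj, hevsurj⟩).finrank_eq
  -- the count
  have hd1 : 1 ≤ d := by rw [← hsdeq]; exact hs1
  have hw : finrank K W = d - 1 := by omega
  have hcount : d * d = P * (d - 1) + 1 := by
    rw [← hdimU, hdimW, hw]
  have hd2 : d ≠ 1 := by
    intro h1
    have h2 : s = 1 := by rw [hsdeq, h1]
    rw [h2, pow_one] at hs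
    have h3 : ρ x = ρ 1 := by
      rw [map_one]
      exact sub_eq_zero.mp (hN ▸ hs)
    have h4 : x = 1 := hfaith h3
    have h5 : P = 1 := by
      rw [hP, h4, Subgroup.zpowers_one_eq_bot]
      exact Subgroup.card_bot
    omega
  have hPd : P = d + 1 := by
    obtain ⟨e, he⟩ : ∃ e, d = e + 2 := ⟨d - 2, by omega⟩
    rw [he] at hcount ⊢
    have h1 : (e + 2) * (e + 2) = (e + 1) * (e + 3) + 1 := by ring
    rw [h1, show e + 2 - 1 = e + 1 by omega, add_left_inj, mul_comm P] at hcount
    have h2 := Nat.eq_of_mul_eq_mul_left (by omega : 0 < e + 1) hcount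
    omega
  refine ⟨by omega, by omega, by omega⟩

theorem critical (p q : ℕ) [Fact p.Prime] [Fact q.Prime] (hpq : p ≠ q)
    (Q : Subgroup G) [Q.Normal] (hQ : IsPGroup q Q) (x : G)
    (hx : IsPGroup p (Subgroup.zpowers x))
    (hC : ∀ y ∈ Subgroup.zpowers x, y ≠ 1 →
      Subgroup.centralizer ({y} : Set G) = Subgroup.zpowers x ⊔ Subgroup.center G)
    [CharP K p] (ρ : Representation K G V) (hfaith : Function.Injective ρ)
    (hirr : ∀ W : Submodule K V, (∀ g ∈ Q, Submodule.map (ρ g) W ≤ W) → W = ⊥ ∨ W = ⊤)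
    (s : ℕ) (hs : (ρ x - 1) ^ s = 0) (hmin : ∀ k < s, (ρ x - 1) ^ k ≠ 0)
    (hsP : s ≤ Nat.card (Subgroup.zpowers x) - 1) :
    s = Nat.card (Subgroup.zpowers x) - 1 ∧ finrank K V = Nat.card (Subgroup.zpowers x) - 1 ∧
      2 ≤ finrank K V :=
  critical' p q hpq Q hQ x hx (mem_center_of_comm p q hpq Q hQ x hx hC) ρ hfaith hirr s hs hmin hsP

end Crit

end Cfsg.Agent.Lib.Helper8.HB
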