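import Mathlib
import Cfsg.Agent.Lib.Helper8.FF4

set_option autoImplicit false

/-! Invariant subspaces of a representation of a finite group of invertible order:
equivariant projections, irreducible invariant subspaces, and linked irreducibles. -/

namespace Cfsg.Agent.Lib.Helper8.TB

open Module

section Basic

variable {K : Type*} [Field K] {V : Type*} [AddCommGroup V] [Module K V]
  {Q : Type*} [Group Q]

/-- invariance of a subspace -/
def Inv (τ : Representation K Q V) (S : Submodule K V) : Prop := ∀ g, ∀ v ∈ S, τ g v ∈ S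

theorem Inv.bot (τ : Representation K Q V) : Inv τ ⊥ := by
  intro g v hv
  rw [Submodule.mem_bot] at hv
  rw [hv, map_zero]; exact Submodule.zero_mem _

theorem Inv.top (τ : Representation K Q V) : Inv τ ⊤ := fun _ _ _ => trivial

theorem Inv.inf {τ : Representation K Q V} {S T : Submodule K V} (hS : Inv τ S) (hT : Inv τ T) :
    Inv τ (S ⊓ T) := fun g v hv => ⟨hS g v hv.1, hT g v hv.2⟩

theorem Inv.iSup {τ : Representation K Q V} {ι : Sort*} {S : ι → Submodule K V}
    (hS : ∀ i, Inv τ (S i)) : Inv τ (⨆ i, S i) := by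
  intro g v hv
  have h1 : (⨆ i, S i) ≤ (⨆ i, S i).comap (τ g) := by
    apply iSup_le
    intro i w hw
    rw [Submodule.mem_comap]
    exact (le_iSup S i) (hS i g w hw)
  exact h1 hv

theorem Inv.sup {τ : Representation K Q V} {S T : Submodule K V} (hS : Inv τ S) (hT : Inv τ T) :
    Inv τ (S ⊔ T) := by
  intro g v hv
  have h1 : S ⊔ T ≤ (S ⊔ T).comap (τ g) := by
    apply sup_le
    · intro w hw; exact (le_sup_left : S ≤ S ⊔ T) (hS g w hw)
    · intro w hw; exact (le_sup_right : T ≤ S ⊔ T) (hT g w hw)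
  exact h1 hv

theorem Inv.ker {τ : Representation K Q V} {F : Module.End K V}
    (hF : ∀ g, F * τ g = τ g * F) : Inv τ (LinearMap.ker F) := by
  intro g v hv
  rw [LinearMap.mem_ker] at hv ⊢
  have h1 := congrArg (fun e : Module.End K V => e v) (hF g)
  simp only [Module.End.mul_apply] at h1
  rw [h1, hv, map_zero]

theorem Inv.map {τ : Representation K Q V} {F : Module.End K V}
    (hF : ∀ g, F * τ g = τ g * F) {S : Submodule K V} (hS : Inv τ S) : Inv τ (S.map F) := by
  rintro g _ ⟨v, hv, rfl⟩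
  have h1 := congrArg (fun e : Module.End K V => e v) (hF g)
  simp only [Module.End.mul_apply] at h1
  rw [← h1]
  exact ⟨τ g v, hS g v hv, rfl⟩

/-- irreducible invariant subspace -/
def IrrSub (τ : Representation K Q V) (S : Submodule K V) : Prop :=
  S ≠ ⊥ ∧ Inv τ S ∧ ∀ W : Submodule K V, W ≤ S → Inv τ W → W = ⊥ ∨ W = S

theorem exists_irrSub_le [FiniteDimensional K V] (τ : Representation K Q V) (S : Submodule K V)
    (hS : Inv τ S) (hne : S ≠ ⊥) : ∃ Z : Submodule K V, Z ≤ S ∧ IrrSub τ Z := by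
  have hwf : WellFounded ((· < ·) : Submodule K V → Submodule K V → Prop) := wellFounded_lt
  obtain ⟨Z, ⟨hZS, hZne, hZinv⟩, hZmin⟩ := hwf.has_min
    {W : Submodule K V | W ≤ S ∧ W ≠ ⊥ ∧ Inv τ W} ⟨S, le_rfl, hne, hS⟩
  refine ⟨Z, hZS, hZne, hZinv, ?_⟩
  intro W hWZ hWinv
  by_cases hW : W = ⊥
  · exact Or.inl hW
  right
  by_contra hne'
  exact hZmin W ⟨le_trans hWZ hZS, hW, hWinv⟩ (lt_of_le_of_ne hWZ hne')

end Basic

section Maschke

variable {K : Type*} [Field K] {V : Type*} [AddCommGroup V] [Module K V]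
  {Q : Type*} [Group Q] [Finite Q]

/-- Maschke: an equivariant projection onto an invariant subspace -/
theorem exists_equivariant_proj (τ : Representation K Q V) (hcard : (Nat.card Q : K) ≠ 0)
    (S : Submodule K V) (hS : Inv τ S) :
    ∃ π : Module.End K V, (∀ g, π * τ g = τ g * π) ∧ (∀ v, π v ∈ S) ∧ (∀ v ∈ S, π v = v) := by
  haveI := Fintype.ofFinite Q
  have hcard' : (Fintype.card Q : K) ≠ 0 := by rwa [← Nat.card_eq_fintype_card]
  obtain ⟨g₀, hg₀⟩ := LinearMap.exists_leftInverse_of_injective S.subtype S.ker_subtype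
  let π₀ : Module.End K V := S.subtype ∘ₗ g₀
  have hπ₀S : ∀ u, π₀ u ∈ S := fun u => (g₀ u).2
  have hπ₀id : ∀ u ∈ S, π₀ u = u := by
    intro u hu
    have := congrArg (fun f : S →ₗ[K] S => (f ⟨u, hu⟩ : V)) hg₀
    exact this
  refine ⟨FF.avgOp τ π₀, fun g => (FF.avgOp_comm τ π₀ g).symm, ?_, ?_⟩
  · exact FF.avgOp_apply_mem τ π₀ S (fun g u hu => hS g u hu) hπ₀S
  · exact FF.avgOp_apply_of_mem τ hcard' π₀ S (fun g u hu => hS g u hu) hπ₀id

/-- semisimplicity: the irreducible invariant subspaces span -/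
theorem iSup_irrSub_eq_top [FiniteDimensional K V] (τ : Representation K Q V)
    (hcard : (Nat.card Q : K) ≠ 0) :
    (⨆ Z : {Z : Submodule K V // IrrSub τ Z}, (Z : Submodule K V)) = ⊤ := by
  set S' := ⨆ Z : {Z : Submodule K V // IrrSub τ Z}, (Z : Submodule K V) with hS'
  have hS'inv : Inv τ S' := Inv.iSup (fun Z => Z.2.2.1)
  obtain ⟨π, hπc, hπS, hπid⟩ := exists_equivariant_proj τ hcard S' hS'inv
  have hker : LinearMap.ker π = ⊥ := by
    by_contra hne
    obtain ⟨Z, hZle, hZ⟩ := exists_irrSub_le τ (LinearMap.ker π) (Inv.ker hπc) hne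
    have h1 : Z ≤ S' := le_iSup (fun Z : {Z : Submodule K V // IrrSub τ Z} => (Z : Submodule K V))
      ⟨Z, hZ⟩
    apply hZ.1
    rw [eq_bot_iff]
    intro v hv
    have h2 : π v = 0 := LinearMap.mem_ker.mp (hZle hv)
    rw [hπid v (h1 hv)] at h2
    rw [h2]; exact Submodule.zero_mem _
  rw [eq_top_iff]
  intro v _
  have h1 : π (π v - v) = 0 := by rw [map_sub, hπid _ (hπS v), sub_self]
  have h2 : π v - v ∈ LinearMap.ker π := LinearMap.mem_ker.mpr h1
  rw [hker, Submodule.mem_bot, sub_eq_zero] at h2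
  rw [← h2]; exact hπS v

/-- two operators that agree on every irreducible invariant subspace agree -/
theorem exists_irrSub_ne [FiniteDimensional K V] (τ : Representation K Q V)
    (hcard : (Nat.card Q : K) ≠ 0) (A B : Module.End K V) (hAB : A ≠ B) :
    ∃ Y : Submodule K V, IrrSub τ Y ∧ ∃ y ∈ Y, A y ≠ B y := by
  by_contra hcon
  push Not at hcon
  apply hAB
  have h1 : (⨆ Z : {Z : Submodule K V // IrrSub τ Z}, (Z : Submodule K V)) ≤ LinearMap.ker (A - B) := by
    apply iSup_le
    rintro ⟨Z, hZ⟩ v hv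
    rw [LinearMap.mem_ker, LinearMap.sub_apply, hcon Z hZ v hv, sub_self]
  rw [iSup_irrSub_eq_top τ hcard, top_le_iff] at h1
  have h2 : A - B = 0 := LinearMap.ker_eq_top.mp h1
  exact sub_eq_zero.mp h2

end Maschke

end Cfsg.Agent.Lib.Helper8.TB
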