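import Mathlib
import Cfsg.Agent.Lib.Helper8.TB1

set_option autoImplicit false

/-! Linked irreducible invariant subspaces (isomorphic constituents). -/

namespace Cfsg.Agent.Lib.Helper8.TB

open Module

section Linked

variable {K : Type*} [Field K] {V : Type*} [AddCommGroup V] [Module K V]
  {Q : Type*} [Group Q]

/-- there is a nonzero equivariant map from `Y` to `Z` -/
def Linked (τ : Representation K Q V) (Y Z : Submodule K V) : Prop :=
  ∃ F : Module.End K V, (∀ g, F * τ g = τ g * F) ∧ Y.map F ≤ Z ∧ ¬ Y ≤ LinearMap.ker F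

theorem Linked.refl (τ : Representation K Q V) {Y : Submodule K V} (hY : Y ≠ ⊥) : Linked τ Y Y := by
  refine ⟨1, fun g => by rw [one_mul, mul_one], ?_, ?_⟩
  · rw [Module.End.one_eq_id, Submodule.map_id]
  · intro h
    apply hY
    rw [eq_bot_iff]
    intro v hv
    have := h hv
    rw [LinearMap.mem_ker, Module.End.one_apply] at this
    rw [this]; exact Submodule.zero_mem _

/-- a linking map is injective on an irreducible source -/
theorem Linked.inf_ker {τ : Representation K Q V} {Y : Submodule K V} (hY : IrrSub τ Y)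
    {F : Module.End K V} (hF : ∀ g, F * τ g = τ g * F) (hne : ¬ Y ≤ LinearMap.ker F) :
    Y ⊓ LinearMap.ker F = ⊥ := by
  rcases hY.2.2 (Y ⊓ LinearMap.ker F) inf_le_left (hY.2.1.inf (Inv.ker hF)) with h | h
  · exact h
  · exfalso
    apply hne
    rw [← h]; exact inf_le_right

/-- a linking map is onto an irreducible target -/
theorem Linked.map_eq {τ : Representation K Q V} {Y Z : Submodule K V} (hY : IrrSub τ Y)
    (hZ : IrrSub τ Z) {F : Module.End K V} (hF : ∀ g, F * τ g = τ g * F) (hle : Y.map F ≤ Z)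
    (hne : ¬ Y ≤ LinearMap.ker F) : Y.map F = Z := by
  rcases hZ.2.2 (Y.map F) hle (Inv.map hF hY.2.1) with h | h
  · exfalso
    apply hne
    intro v hv
    rw [LinearMap.mem_ker]
    have h1 : F v ∈ Y.map F := ⟨v, hv, rfl⟩
    rw [h, Submodule.mem_bot] at h1
    exact h1
  · exact h

theorem Linked.trans {τ : Representation K Q V} {Y Z W : Submodule K V} (hY : IrrSub τ Y)
    (hZ : IrrSub τ Z) (h1 : Linked τ Y Z) (h2 : Linked τ Z W) : Linked τ Y W := by
  obtain ⟨F, hF, hFle, hFne⟩ := h1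
  obtain ⟨G, hG, hGle, hGne⟩ := h2
  have hmap := Linked.map_eq hY hZ hF hFle hFne
  refine ⟨G * F, ?_, ?_, ?_⟩
  · intro g
    rw [mul_assoc, hF g, ← mul_assoc, hG g, mul_assoc]
  · rw [Module.End.mul_eq_comp, Submodule.map_comp, hmap]
    exact hGle
  · intro h
    apply hGne
    intro z hz
    rw [← hmap] at hz
    obtain ⟨y, hy, rfl⟩ := hz
    have := h hy
    rw [LinearMap.mem_ker, Module.End.mul_apply] at this
    exact LinearMap.mem_ker.mpr this

end Linked

section LinkedSymm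

variable {K : Type*} [Field K] {V : Type*} [AddCommGroup V] [Module K V]
  {Q : Type*} [Group Q] [Finite Q]

theorem Linked.symm {τ : Representation K Q V} (hcard : (Nat.card Q : K) ≠ 0)
    {Y Z : Submodule K V} (hY : IrrSub τ Y) (hZ : IrrSub τ Z) (h1 : Linked τ Y Z) :
    Linked τ Z Y := by
  haveI := Fintype.ofFinite Q
  have hcard' : (Fintype.card Q : K) ≠ 0 := by rwa [← Nat.card_eq_fintype_card]
  obtain ⟨F, hF, hFle, hFne⟩ := h1
  have hmap := Linked.map_eq hY hZ hF hFle hFne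
  have hinj := Linked.inf_ker hY hF hFne
  -- a linear left inverse of `F` on `Y`
  have hker : LinearMap.ker (F ∘ₗ Y.subtype) = ⊥ := by
    rw [LinearMap.ker_eq_bot']
    intro y hy
    have h2 : (y : V) ∈ Y ⊓ LinearMap.ker F := ⟨y.2, LinearMap.mem_ker.mpr hy⟩
    rw [hinj, Submodule.mem_bot] at h2
    exact Subtype.ext h2
  obtain ⟨g₀, hg₀⟩ := LinearMap.exists_leftInverse_of_injective (F ∘ₗ Y.subtype) hker
  let G₀ : Module.End K V := Y.subtype ∘ₗ g₀
  have hG₀ : ∀ y ∈ Y, G₀ (F y) = y := by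
    intro y hy
    have := congrArg (fun f : Y →ₗ[K] Y => (f ⟨y, hy⟩ : V)) hg₀
    exact this
  have hG₀Y : ∀ v, G₀ v ∈ Y := fun v => (g₀ v).2
  set G := FF.avgOp τ G₀ with hGdef
  have hGc : ∀ g, G * τ g = τ g * G := fun g => (FF.avgOp_comm τ G₀ g).symm
  have hGY : ∀ v, G v ∈ Y := FF.avgOp_apply_mem τ G₀ Y (fun g u hu => hY.2.1 g u hu) hG₀Y
  have hGF : ∀ y ∈ Y, G (F y) = y := by
    intro y hy
    rw [hGdef]
    unfold FF.avgOp
    rw [LinearMap.smul_apply, LinearMap.sum_apply]
    have h2 : ∀ z : Q, (τ z * G₀ * τ z⁻¹) (F y) = y := by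
      intro z
      show τ z (G₀ (τ z⁻¹ (F y))) = y
      have h3 := congrArg (fun e : Module.End K V => e y) (hF z⁻¹)
      simp only [Module.End.mul_apply] at h3
      rw [← h3, hG₀ _ (hY.2.1 z⁻¹ y hy), FF.rep_apply_inv]
    simp only [h2]
    rw [Finset.sum_const, Finset.card_univ, ← Nat.cast_smul_eq_nsmul K, smul_smul,
      inv_mul_cancel₀ hcard', one_smul]
  refine ⟨G, hGc, ?_, ?_⟩
  · rintro _ ⟨z, _, rfl⟩
    exact hGY z
  · intro h
    apply hY.1
    rw [eq_bot_iff]
    intro y hy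
    have h2 : F y ∈ Z := hFle ⟨y, hy, rfl⟩
    have h3 := h h2
    rw [LinearMap.mem_ker, hGF y hy] at h3
    rw [h3]; exact Submodule.zero_mem _

/-- an irreducible subspace of a sum of irreducibles is linked to one of them -/
theorem exists_linked_of_le_iSup {τ : Representation K Q V} (hcard : (Nat.card Q : K) ≠ 0)
    {ι : Sort*} (Y : ι → Submodule K V) {Z : Submodule K V} (hZ : IrrSub τ Z)
    (hle : Z ≤ ⨆ i, Y i) : ∃ i, Linked τ (Y i) Z := by
  obtain ⟨π, hπc, hπS, hπid⟩ := exists_equivariant_proj τ hcard Z hZ.2.1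
  by_contra hcon
  push Not at hcon
  have h1 : ∀ i, Y i ≤ LinearMap.ker π := by
    intro i
    by_contra hne
    apply hcon i
    refine ⟨π, hπc, ?_, hne⟩
    rintro _ ⟨v, _, rfl⟩
    exact hπS v
  have h2 : Z ≤ LinearMap.ker π := le_trans hle (iSup_le h1)
  apply hZ.1
  rw [eq_bot_iff]
  intro v hv
  have h3 := h2 hv
  rw [LinearMap.mem_ker, hπid v hv] at h3
  rw [h3]; exact Submodule.zero_mem _

end LinkedSymm

section Act

variable {K : Type*} [Field K] {V : Type*} [AddCommGroup V] [Module K V]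
  {Q : Type*} [Group Q]

/-- linked irreducibles see the same group elements acting differently -/
theorem Linked.ne_of_ne {τ : Representation K Q V} {Y Z : Submodule K V} (hY : IrrSub τ Y)
    (h1 : Linked τ Y Z) (u u' : Q) (hne : ∃ y ∈ Y, τ u' y ≠ τ u y) : ∃ z ∈ Z, τ u' z ≠ τ u z := by
  obtain ⟨F, hF, hFle, hFne⟩ := h1
  have hinj := Linked.inf_ker hY hF hFne
  obtain ⟨y, hy, hyne⟩ := hne
  refine ⟨F y, hFle ⟨y, hy, rfl⟩, ?_⟩
  intro h
  apply hyne
  have h2 := congrArg (fun e : Module.End K V => e y) (hF u')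
  have h3 := congrArg (fun e : Module.End K V => e y) (hF u)
  simp only [Module.End.mul_apply] at h2 h3
  rw [← h2, ← h3] at h
  have h4 : τ u' y - τ u y ∈ Y ⊓ LinearMap.ker F := by
    refine ⟨Y.sub_mem (hY.2.1 u' y hy) (hY.2.1 u y hy), ?_⟩
    show τ u' y - τ u y ∈ LinearMap.ker F
    rw [LinearMap.mem_ker, map_sub, h, sub_self]
  rw [hinj, Submodule.mem_bot, sub_eq_zero] at h4
  exact h4

end Act

end Cfsg.Agent.Lib.Helper8.TB
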