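import Mathlib
import Cfsg.Agent.Lib.Helper8.TB2

set_option autoImplicit false

/-! Transport of invariant subspaces by an operator normalizing the group. -/

namespace Cfsg.Agent.Lib.Helper8.TB

open Module

section Nrm

variable {K : Type*} [Field K] {V : Type*} [AddCommGroup V] [Module K V]
  {Q : Type*} [Group Q]

/-- `X` normalizes the image of the group -/
structure Nrm (τ : Representation K Q V) (X : Module.End K V) : Prop where
  fwd : ∀ u, ∃ u', X * τ u = τ u' * X
  bwd : ∀ u, ∃ u', τ u * X = X * τ u'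

theorem Nrm.one (τ : Representation K Q V) : Nrm τ 1 :=
  ⟨fun u => ⟨u, by rw [one_mul, mul_one]⟩, fun u => ⟨u, by rw [one_mul, mul_one]⟩⟩

theorem Nrm.mul {τ : Representation K Q V} {X Y : Module.End K V} (hX : Nrm τ X) (hY : Nrm τ Y) :
    Nrm τ (X * Y) := by
  constructor
  · intro u
    obtain ⟨u₁, h1⟩ := hY.fwd u
    obtain ⟨u₂, h2⟩ := hX.fwd u₁
    exact ⟨u₂, by rw [mul_assoc, h1, ← mul_assoc, h2, mul_assoc]⟩
  · intro u
    obtain ⟨u₁, h1⟩ := hX.bwd u
    obtain ⟨u₂, h2⟩ := hY.bwd u₁
    exact ⟨u₂, by rw [← mul_assoc, h1, mul_assoc, h2, mul_assoc]⟩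

theorem Nrm.pow {τ : Representation K Q V} {X : Module.End K V} (hX : Nrm τ X) (k : ℕ) :
    Nrm τ (X ^ k) := by
  induction k with
  | zero => rw [pow_zero]; exact Nrm.one τ
  | succ k ih => rw [pow_succ]; exact ih.mul hX

/-- forward normalization and finite order give two-sided normalization -/
theorem nrm_of_pow_eq_one {τ : Representation K Q V} {X : Module.End K V}
    (hnorm : ∀ u, ∃ u', X * τ u = τ u' * X) (P : ℕ) (hP : 0 < P) (hX : X ^ P = 1) : Nrm τ X := by
  refine ⟨hnorm, ?_⟩
  have hfwd : ∀ k : ℕ, ∀ u, ∃ u', X ^ k * τ u = τ u' * X ^ k := by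
    intro k
    induction k with
    | zero => intro u; exact ⟨u, by rw [pow_zero, one_mul, mul_one]⟩
    | succ k ih =>
      intro u
      obtain ⟨u₁, h1⟩ := hnorm u
      obtain ⟨u₂, h2⟩ := ih u₁
      exact ⟨u₂, by rw [pow_succ, mul_assoc, h1, ← mul_assoc, h2, mul_assoc]⟩
  intro u
  obtain ⟨u', hu'⟩ := hfwd (P - 1) u
  refine ⟨u', ?_⟩
  have h1 : X * X ^ (P - 1) = 1 := by rw [← pow_succ', Nat.sub_add_cancel hP, hX]
  have h2 : X ^ (P - 1) * X = 1 := by rw [← pow_succ, Nat.sub_add_cancel hP, hX]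
  calc τ u * X = (X * X ^ (P - 1)) * τ u * X := by rw [h1, one_mul]
    _ = X * (X ^ (P - 1) * τ u) * X := by rw [mul_assoc X]
    _ = X * (τ u' * X ^ (P - 1)) * X := by rw [hu']
    _ = X * τ u' * (X ^ (P - 1) * X) := by simp only [mul_assoc]
    _ = X * τ u' := by rw [h2, mul_one]

theorem Inv.mapX {τ : Representation K Q V} {X : Module.End K V} (hX : Nrm τ X)
    {S : Submodule K V} (hS : Inv τ S) : Inv τ (S.map X) := by
  rintro g _ ⟨s, hs, rfl⟩
  obtain ⟨g', hg'⟩ := hX.bwd g
  have h1 := congrArg (fun e : Module.End K V => e s) hg'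
  simp only [Module.End.mul_apply] at h1
  rw [h1]
  exact ⟨τ g' s, hS g' s hs, rfl⟩

theorem map_map_inv {X Xi : Module.End K V} (h : X * Xi = 1) (S : Submodule K V) :
    (S.map Xi).map X = S := by
  rw [← Submodule.map_comp, ← Module.End.mul_eq_comp, h, Module.End.one_eq_id, Submodule.map_id]

theorem IrrSub.mapX {τ : Representation K Q V} {X Xi : Module.End K V} (hX : Nrm τ X)
    (hXi : Nrm τ Xi) (h1 : X * Xi = 1) (h2 : Xi * X = 1) {Y : Submodule K V} (hY : IrrSub τ Y) :
    IrrSub τ (Y.map X) := by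
  refine ⟨?_, hY.2.1.mapX hX, ?_⟩
  · intro h
    apply hY.1
    have := congrArg (Submodule.map Xi) h
    rw [map_map_inv h2, Submodule.map_bot] at this
    exact this
  · intro W hW hWinv
    have h3 : W.map Xi ≤ Y := by
      have := Submodule.map_mono (f := Xi) hW
      rwa [map_map_inv h2] at this
    rcases hY.2.2 (W.map Xi) h3 (hWinv.mapX hXi) with h | h
    · left
      have := congrArg (Submodule.map X) h
      rw [map_map_inv h1, Submodule.map_bot] at this
      exact this
    · right
      have := congrArg (Submodule.map X) h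
      rw [map_map_inv h1] at this
      exact this

theorem Linked.mapX {τ : Representation K Q V} {X Xi : Module.End K V} (hX : Nrm τ X)
    (hXi : Nrm τ Xi) (h1 : X * Xi = 1) (h2 : Xi * X = 1) {Y Z : Submodule K V}
    (hl : Linked τ Y Z) : Linked τ (Y.map X) (Z.map X) := by
  obtain ⟨F, hF, hFle, hFne⟩ := hl
  refine ⟨X * F * Xi, ?_, ?_, ?_⟩
  · intro g
    obtain ⟨g', hg'⟩ := hXi.fwd g
    -- Xi * τ g = τ g' * Xi, hence τ g * X = X * τ g'
    have h3 : τ g * X = X * τ g' := by
      calc τ g * X = (X * Xi) * τ g * X := by rw [h1, one_mul]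
        _ = X * (Xi * τ g) * X := by rw [mul_assoc X]
        _ = X * (τ g' * Xi) * X := by rw [hg']
        _ = X * τ g' * (Xi * X) := by simp only [mul_assoc]
        _ = X * τ g' := by rw [h2, mul_one]
    calc X * F * Xi * τ g = X * F * (Xi * τ g) := by rw [mul_assoc]
      _ = X * F * (τ g' * Xi) := by rw [hg']
      _ = X * (F * τ g') * Xi := by simp only [mul_assoc]
      _ = X * (τ g' * F) * Xi := by rw [hF g']
      _ = (X * τ g') * F * Xi := by simp only [mul_assoc]
      _ = τ g * (X * F * Xi) := by rw [← h3]; simp only [mul_assoc]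
  · rintro _ ⟨_, ⟨y, hy, rfl⟩, rfl⟩
    have h3 : (X * F * Xi) (X y) = X (F y) := by
      have := congrArg (fun e : Module.End K V => e y) h2
      simp only [Module.End.mul_apply, Module.End.one_apply] at this
      simp only [Module.End.mul_apply]
      rw [this]
    rw [h3]
    exact ⟨F y, hFle ⟨y, hy, rfl⟩, rfl⟩
  · intro h
    apply hFne
    intro y hy
    have h3 : (X * F * Xi) (X y) = X (F y) := by
      have := congrArg (fun e : Module.End K V => e y) h2
      simp only [Module.End.mul_apply, Module.End.one_apply] at this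
      simp only [Module.End.mul_apply]
      rw [this]
    have h4 := h ⟨y, hy, rfl⟩
    rw [LinearMap.mem_ker, h3] at h4
    have h5 := congrArg Xi h4
    rw [map_zero] at h5
    have h6 := congrArg (fun e : Module.End K V => e (F y)) h2
    simp only [Module.End.mul_apply, Module.End.one_apply] at h6
    rw [h6] at h5
    exact LinearMap.mem_ker.mpr h5

end Nrm

end Cfsg.Agent.Lib.Helper8.TB
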