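import Mathlib
import Cfsg.Agent.Lib.Helper8.TB7

set_option autoImplicit false

/-! The endgame of Theorem B with the dimension of the module, under a direct hypothesis on
centralizers. -/

namespace Cfsg.Agent.Lib.Helper8.QC

open Module Cfsg.Agent.Lib.Helper8.TB

universe u v

section Endgame

variable {K : Type*} [Field K] [IsAlgClosed K] {Q : Type u} [Group Q] [Finite Q]
  {V : Type v} [AddCommGroup V] [Module K V] [FiniteDimensional K V]

theorem endgame_dim (p q : ℕ) [Fact p.Prime] [Fact q.Prime] (hpq : p ≠ q) [CharP K p]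
    (τ : Representation K Q V) (X : Module.End K V) (n : ℕ) (hQ : IsPGroup q Q) (hn : 1 ≤ n)
    (hX : X ^ p ^ n = 1) (hnorm : ∀ u, ∃ u', X * τ u = τ u' * X)
    (hact : ∃ u, X ^ p ^ (n - 1) * τ u ≠ τ u * X ^ p ^ (n - 1))
    (hirr : HB.Irr τ)
    (hcen : ∀ u : Q, τ u * X ^ p ^ (n - 1) = X ^ p ^ (n - 1) * τ u → ∀ v : Q, τ u * τ v = τ v * τ u)
    (r : ℕ) (hr : (X - 1) ^ r = 0) : p ^ n ≤ r ∨ (finrank K V = p ^ n - 1 ∧ p ^ n - 1 ≤ r) := by
  classical
  have hp : p.Prime := Fact.out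
  have hPpos : 0 < p ^ n := pow_pos hp.pos n
  haveI : Nontrivial V := by
    by_contra hcon
    rw [not_nontrivial_iff_subsingleton] at hcon
    obtain ⟨u, hu⟩ := hact
    exact hu (Subsingleton.elim _ _)
  have hN : Nrm τ X := nrm_of_pow_eq_one hnorm (p ^ n) hPpos hX
  -- the concrete group
  set τ' : Q →* (Module.End K V)ˣ := τ.toHomUnits with hτ'
  have hτ'v : ∀ u, ((τ' u : (Module.End K V)ˣ) : Module.End K V) = τ u :=
    fun u => MonoidHom.coe_toHomUnits τ u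
  set X' : (Module.End K V)ˣ := Units.ofPowEqOne X (p ^ n) hX hPpos.ne' with hX'
  have hX'v : ((X' : (Module.End K V)ˣ) : Module.End K V) = X := Units.val_ofPowEqOne X _ hX _
  have hX'pow : X' ^ p ^ n = 1 := by
    apply Units.ext
    rw [Units.val_pow_eq_pow_val, hX'v, hX, Units.val_one]
  set 𝒬 : Subgroup (Module.End K V)ˣ := τ'.range with h𝒬
  haveI : Finite 𝒬 := Finite.of_surjective τ'.rangeRestrict τ'.rangeRestrict_surjective
  have h𝒬p : IsPGroup q 𝒬 := hQ.of_surjective τ'.rangeRestrict τ'.rangeRestrict_surjective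
  -- X' normalizes 𝒬
  have hconj : ∀ u, ∃ u', X' * τ' u * X'⁻¹ = τ' u' := by
    intro u
    obtain ⟨u', hu'⟩ := hN.fwd u
    refine ⟨u', ?_⟩
    rw [mul_inv_eq_iff_eq_mul]
    apply Units.ext
    rw [Units.val_mul, Units.val_mul, hτ'v, hτ'v, hX'v]
    exact hu'
  have hconj' : ∀ u, ∃ u', X'⁻¹ * τ' u * X' = τ' u' := by
    intro u
    obtain ⟨u', hu'⟩ := hN.bwd u
    refine ⟨u', ?_⟩
    rw [mul_assoc, inv_mul_eq_iff_eq_mul]
    apply Units.ext
    rw [Units.val_mul, Units.val_mul, hτ'v, hτ'v, hX'v]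
    exact hu'
  have hX'n : X' ∈ Subgroup.normalizer (𝒬 : Set (Module.End K V)ˣ) := by
    rw [Subgroup.mem_normalizer_iff]
    intro a
    constructor
    · rintro ⟨u, rfl⟩
      obtain ⟨u', hu'⟩ := hconj u
      exact ⟨u', hu'.symm⟩
    · rintro ⟨u, hu⟩
      obtain ⟨u', hu'⟩ := hconj' u
      refine ⟨u', ?_⟩
      rw [← hu', hu]
      group
  have hX'zn : ∀ i : ℤ, X' ^ i ∈ Subgroup.normalizer (𝒬 : Set (Module.End K V)ˣ) :=
    fun i => Subgroup.zpow_mem _ hX'n i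
  let 𝒢 : Subgroup (Module.End K V)ˣ :=
    { carrier := {g | ∃ a ∈ 𝒬, ∃ i : ℤ, g = a * X' ^ i}
      one_mem' := ⟨1, 𝒬.one_mem, 0, by simp⟩
      mul_mem' := by
        rintro _ _ ⟨a, ha, i, rfl⟩ ⟨b, hb, j, rfl⟩
        have h1 : X' ^ i * b * (X' ^ i)⁻¹ ∈ 𝒬 := (Subgroup.mem_normalizer_iff.mp (hX'zn i) b).mp hb
        refine ⟨a * (X' ^ i * b * (X' ^ i)⁻¹), 𝒬.mul_mem ha h1, i + j, ?_⟩
        rw [zpow_add]; group
      inv_mem' := by
        rintro _ ⟨a, ha, i, rfl⟩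
        have h1 : X' ^ (-i) * a⁻¹ * (X' ^ (-i))⁻¹ ∈ 𝒬 :=
          (Subgroup.mem_normalizer_iff.mp (hX'zn (-i)) a⁻¹).mp (𝒬.inv_mem ha)
        refine ⟨X' ^ (-i) * a⁻¹ * (X' ^ (-i))⁻¹, h1, -i, ?_⟩
        group }
  have hmem𝒢 : ∀ g, g ∈ 𝒢 ↔ ∃ a ∈ 𝒬, ∃ i : ℤ, g = a * X' ^ i := fun g => Iff.rfl
  have h𝒬𝒢 : 𝒬 ≤ 𝒢 := fun a ha => ⟨a, ha, 0, by simp⟩
  have hX'𝒢 : X' ∈ 𝒢 := ⟨1, 𝒬.one_mem, 1, by simp⟩
  haveI : Finite 𝒢 := by
    have hfin : (𝒢 : Set (Module.End K V)ˣ).Finite := by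
      have h1 : (𝒢 : Set (Module.End K V)ˣ) ⊆
          Set.range (fun x : 𝒬 × Fin (p ^ n) => (x.1 : (Module.End K V)ˣ) * X' ^ (x.2 : ℕ)) := by
        rintro _ ⟨a, ha, i, rfl⟩
        have hxz : X' ^ ((p ^ n : ℕ) : ℤ) = 1 := by rw [zpow_natCast]; exact hX'pow
        have h2 : X' ^ i = X' ^ (i % ((p ^ n : ℕ) : ℤ)) := zpow_eq_zpow_emod i hxz
        have h3 : 0 ≤ i % ((p ^ n : ℕ) : ℤ) := Int.emod_nonneg _ (by exact_mod_cast hPpos.ne')
        obtain ⟨i', hi'⟩ := Int.eq_ofNat_of_zero_le h3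
        have hi'lt : i' < p ^ n := by
          have h4 : i % ((p ^ n : ℕ) : ℤ) < ((p ^ n : ℕ) : ℤ) :=
            Int.emod_lt_of_pos _ (by exact_mod_cast hPpos)
          rw [hi'] at h4
          exact_mod_cast h4
        refine ⟨(⟨a, ha⟩, ⟨i', hi'lt⟩), ?_⟩
        show a * X' ^ i' = a * X' ^ i
        rw [h2, hi', zpow_natCast]
      exact Set.Finite.subset (Set.finite_range _) h1
    exact hfin.to_subtype
  have h𝒢n : 𝒢 ≤ Subgroup.normalizer (𝒬 : Set (Module.End K V)ˣ) := by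
    rintro _ ⟨a, ha, i, rfl⟩
    exact Subgroup.mul_mem _ (Subgroup.le_normalizer ha) (hX'zn i)
  haveI hQGn : (𝒬.subgroupOf 𝒢).Normal := Subgroup.normal_subgroupOf_of_le_normalizer h𝒢n
  have hQGp : IsPGroup q (𝒬.subgroupOf 𝒢) := h𝒬p.comap_subtype
  set xG : 𝒢 := ⟨X', hX'𝒢⟩ with hxG
  set ρ : Representation K 𝒢 V := (Units.coeHom (Module.End K V)).comp 𝒢.subtype with hρ
  have hρv : ∀ g : 𝒢, ρ g = (((g : (Module.End K V)ˣ)) : Module.End K V) := fun g => rfl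
  have hρx : ρ xG = X := hX'v
  have hfaith : Function.Injective ρ := by
    intro g h hgh
    apply Subtype.ext
    apply Units.ext
    exact hgh
  have hirr' : ∀ W : Submodule K V, (∀ g ∈ 𝒬.subgroupOf 𝒢, Submodule.map (ρ g) W ≤ W) →
      W = ⊥ ∨ W = ⊤ := by
    intro W hW
    apply hirr W
    intro u
    have h1 : (⟨τ' u, h𝒬𝒢 ⟨u, rfl⟩⟩ : 𝒢) ∈ 𝒬.subgroupOf 𝒢 := by
      rw [Subgroup.mem_subgroupOf]
      exact ⟨u, rfl⟩
    have h2 := hW _ h1
    rw [hρv] at h2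
    rw [← hτ'v u]
    exact h2
  -- the order of xG
  have hX₀ne : X ^ p ^ (n - 1) ≠ 1 := by
    intro h
    obtain ⟨u, hu⟩ := hact
    apply hu
    rw [h, one_mul, mul_one]
  have hxGpow : xG ^ p ^ n = 1 := Subtype.ext hX'pow
  have hxGne : ¬ xG ^ p ^ (n - 1) = 1 := by
    intro h
    apply hX₀ne
    have h1 := congrArg (fun g : 𝒢 => (((g : (Module.End K V)ˣ)) : Module.End K V)) h
    simp only [Subgroup.coe_pow, Units.val_pow_eq_pow_val, Subgroup.coe_one, Units.val_one] at h1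
    rw [← hX'v]
    exact h1
  have hord : orderOf xG = p ^ n := by
    have h1 := orderOf_eq_prime_pow hxGne (by rw [Nat.sub_add_cancel hn]; exact hxGpow)
    rwa [Nat.sub_add_cancel hn] at h1
  have hcardz : Nat.card (Subgroup.zpowers xG) = p ^ n := by rw [Nat.card_zpowers, hord]
  have hx : IsPGroup p (Subgroup.zpowers xG) := IsPGroup.of_card hcardz
  -- Schur for τ
  have hSchur : ∀ f : Module.End K V, (∀ u, f * τ u = τ u * f) →
      ∃ a : K, f = algebraMap K (Module.End K V) a := fun f hf => HB.schur τ hirr f hf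
  -- the minimality hypothesis, transported
  set X₀' : (Module.End K V)ˣ := X' ^ p ^ (n - 1) with hX₀'
  have hX₀'v : ((X₀' : (Module.End K V)ˣ) : Module.End K V) = X ^ p ^ (n - 1) := by
    rw [hX₀', Units.val_pow_eq_pow_val, hX'v]
  have hact' : ∃ a ∈ 𝒬, a * X₀' ≠ X₀' * a := by
    obtain ⟨u, hu⟩ := hact
    refine ⟨τ' u, ⟨u, rfl⟩, ?_⟩
    intro h
    apply hu
    have h4 := congrArg (fun g : (Module.End K V)ˣ => (g : Module.End K V)) h
    simp only [Units.val_mul, hτ'v, hX₀'v] at h4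
    exact h4.symm
  have hkey : ∀ a ∈ 𝒬, a * X₀' = X₀' * a → ∀ b ∈ 𝒬, a * b = b * a := by
    rintro _ ⟨u, rfl⟩ hcomm _ ⟨v, rfl⟩
    have h1 : τ u * X ^ p ^ (n - 1) = X ^ p ^ (n - 1) * τ u := by
      have h4 := congrArg (fun g : (Module.End K V)ˣ => (g : Module.End K V)) hcomm
      simp only [Units.val_mul, hτ'v, hX₀'v] at h4
      exact h4
    have h2 := hcen u h1 v
    apply Units.ext
    rw [Units.val_mul, Units.val_mul, hτ'v, hτ'v]
    exact h2
  have hA1 : ∀ y ∈ Subgroup.zpowers xG, y ≠ 1 → ∀ u ∈ 𝒬.subgroupOf 𝒢, u * y = y * u →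
      u ∈ Subgroup.center 𝒢 := by
    rintro _ ⟨k, rfl⟩ hy1 u hu hcomm
    have huQ : (u : (Module.End K V)ˣ) ∈ 𝒬 := Subgroup.mem_subgroupOf.mp hu
    have hy1' : X' ^ k ≠ 1 := by
      intro h
      apply hy1
      apply Subtype.ext
      rw [Subgroup.coe_zpow]
      exact h
    have hcomm' : (u : (Module.End K V)ˣ) * X' ^ k = X' ^ k * (u : (Module.End K V)ˣ) := by
      have h1 := congrArg (fun g : 𝒢 => (g : (Module.End K V)ˣ)) hcomm
      simp only [Subgroup.coe_mul, Subgroup.coe_zpow] at h1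
      exact h1
    obtain ⟨m, hm⟩ := exists_pow_eq_socle p n hn X' hX'pow k hy1'
    have hcomm₀ : (u : (Module.End K V)ˣ) * X₀' = X₀' * (u : (Module.End K V)ˣ) := by
      rw [hX₀', ← hm]
      have h1 : Commute (u : (Module.End K V)ˣ) (X' ^ k) := hcomm'
      exact h1.pow_right m
    have hcen := hkey _ huQ hcomm₀
    -- u acts as a scalar
    obtain ⟨w, hw⟩ := huQ
    have hscal : ∃ a : K, τ w = algebraMap K (Module.End K V) a := by
      apply hSchur
      intro v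
      have h1 := hcen (τ' v) ⟨v, rfl⟩
      rw [← hw] at h1
      have h2 := congrArg (fun g : (Module.End K V)ˣ => (g : Module.End K V)) h1
      simp only [Units.val_mul, hτ'v] at h2
      exact h2
    obtain ⟨a, ha⟩ := hscal
    have hcommX : (u : (Module.End K V)ˣ) * X' = X' * (u : (Module.End K V)ˣ) := by
      apply Units.ext
      rw [Units.val_mul, Units.val_mul, ← hw, hτ'v, hX'v, ha]
      exact Algebra.commutes a X
    rw [Subgroup.mem_center_iff]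
    rintro ⟨_, b, hb, i, rfl⟩
    apply Subtype.ext
    show b * X' ^ i * (u : (Module.End K V)ˣ) = (u : (Module.End K V)ˣ) * (b * X' ^ i)
    have h3 : Commute (u : (Module.End K V)ˣ) (X' ^ i) := (show Commute _ X' from hcommX).zpow_right i
    have h4 : (u : (Module.End K V)ˣ) * b = b * (u : (Module.End K V)ˣ) := hcen b hb
    calc b * X' ^ i * (u : (Module.End K V)ˣ) = b * ((u : (Module.End K V)ˣ) * X' ^ i) := by
          rw [mul_assoc, h3.eq]
      _ = (u : (Module.End K V)ˣ) * (b * X' ^ i) := by rw [← mul_assoc, ← h4, mul_assoc]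
  -- the nilpotency index
  have hex : ∃ s, (X - 1) ^ s = 0 := ⟨r, hr⟩
  set s := Nat.find hex with hs
  have hs0 : (X - 1) ^ s = 0 := Nat.find_spec hex
  have hsmin : ∀ k < s, (X - 1) ^ k ≠ 0 := fun k hk => Nat.find_min hex hk
  have hsr : s ≤ r := Nat.find_le hr
  by_cases hsP : s ≤ p ^ n - 1
  · have hcrit := HB.critical' p q hpq (𝒬.subgroupOf 𝒢) hQGp xG hx hA1 ρ hfaith hirr' s
      (by rw [hρx]; exact hs0) (by rw [hρx]; exact hsmin) (by rw [hcardz]; exact hsP)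
    rw [hcardz] at hcrit
    obtain ⟨h1, h2, h3⟩ := hcrit
    right
    refine ⟨h2, ?_⟩
    rw [← h1]
    exact hsr
  · left
    omega

end Endgame

end Cfsg.Agent.Lib.Helper8.QC
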