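import Mathlib
import Cfsg.Agent.Lib.Helper8.TB3

set_option autoImplicit false

/-! Powers of a normalizing operator of finite order: translates of an irreducible subspace
and the residue-class decomposition. -/

namespace Cfsg.Agent.Lib.Helper8.TB

open Module

section Pow

variable {K : Type*} [Field K] {V : Type*} [AddCommGroup V] [Module K V]
  {Q : Type*} [Group Q]

theorem pow_mul_inv {X : Module.End K V} {P : ℕ} (hP : 0 < P) (hX : X ^ P = 1) (k : ℕ) :
    X ^ k * X ^ (P * k - k) = 1 := by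
  have h1 : k + (P * k - k) = P * k := by
    have : k ≤ P * k := Nat.le_mul_of_pos_left k hP
    omega
  rw [← pow_add, h1, pow_mul, hX, one_pow]

theorem inv_mul_pow {X : Module.End K V} {P : ℕ} (hP : 0 < P) (hX : X ^ P = 1) (k : ℕ) :
    X ^ (P * k - k) * X ^ k = 1 := by
  rw [← pow_add, add_comm, pow_add]
  exact pow_mul_inv hP hX k

theorem irr_pow {τ : Representation K Q V} {X : Module.End K V} (hN : Nrm τ X) {P : ℕ}
    (hP : 0 < P) (hX : X ^ P = 1) (k : ℕ) {Y : Submodule K V} (hY : IrrSub τ Y) :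
    IrrSub τ (Y.map (X ^ k)) :=
  hY.mapX (hN.pow k) (hN.pow _) (pow_mul_inv hP hX k) (inv_mul_pow hP hX k)

theorem linked_pow {τ : Representation K Q V} {X : Module.End K V} (hN : Nrm τ X) {P : ℕ}
    (hP : 0 < P) (hX : X ^ P = 1) (k : ℕ) {Y Z : Submodule K V} (hl : Linked τ Y Z) :
    Linked τ (Y.map (X ^ k)) (Z.map (X ^ k)) :=
  hl.mapX (hN.pow k) (hN.pow _) (pow_mul_inv hP hX k) (inv_mul_pow hP hX k)

theorem map_pow_map_pow (X : Module.End K V) (a b : ℕ) (Y : Submodule K V) :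
    (Y.map (X ^ a)).map (X ^ b) = Y.map (X ^ (b + a)) := by
  rw [pow_add, Module.End.mul_eq_comp, Submodule.map_comp]

theorem pow_mod_eq {X : Module.End K V} {P : ℕ} (hX : X ^ P = 1) (k : ℕ) :
    X ^ k = X ^ (k % P) := by
  conv_lhs => rw [← Nat.div_add_mod k P]
  rw [pow_add, pow_mul, hX, one_pow, one_mul]

end Pow

section Res

variable {K : Type*} [Field K] {V : Type*} [AddCommGroup V] [Module K V]
  {Q : Type*} [Group Q] [Finite Q]

/-- the translates linked to `Y` form an additively closed set of exponents -/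
theorem linked_pow_add {τ : Representation K Q V} {X : Module.End K V} (hN : Nrm τ X) {P : ℕ}
    (hP : 0 < P) (hX : X ^ P = 1) {Y : Submodule K V} (hY : IrrSub τ Y) (a b : ℕ)
    (ha : Linked τ (Y.map (X ^ a)) Y) (hb : Linked τ (Y.map (X ^ b)) Y) :
    Linked τ (Y.map (X ^ (a + b))) Y := by
  have h1 := linked_pow hN hP hX a hb
  rw [map_pow_map_pow] at h1
  exact Linked.trans (irr_pow hN hP hX _ hY) (irr_pow hN hP hX _ hY) h1 ha

theorem linked_pow_mul {τ : Representation K Q V} {X : Module.End K V} (hN : Nrm τ X) {P : ℕ}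
    (hP : 0 < P) (hX : X ^ P = 1) {Y : Submodule K V} (hY : IrrSub τ Y) (a : ℕ)
    (ha : Linked τ (Y.map (X ^ a)) Y) (j : ℕ) : Linked τ (Y.map (X ^ (a * j))) Y := by
  induction j with
  | zero =>
    rw [mul_zero, pow_zero, Module.End.one_eq_id, Submodule.map_id]
    exact Linked.refl τ hY.1
  | succ j ih =>
    rw [mul_add, mul_one]
    exact linked_pow_add hN hP hX hY _ _ ih ha

/-- if `X Y` is not linked to `Y`, neither is `X^k Y` for `k` prime to `p` -/
theorem not_linked_pow_of_not_dvd {τ : Representation K Q V} {X : Module.End K V}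
    (hN : Nrm τ X) (p n : ℕ) [Fact p.Prime] (hn : 1 ≤ n) (hX : X ^ (p ^ n) = 1)
    {Y : Submodule K V} (hY : IrrSub τ Y) (h1 : ¬ Linked τ (Y.map X) Y) (k : ℕ)
    (hk : ¬ p ∣ k) : ¬ Linked τ (Y.map (X ^ k)) Y := by
  intro hl
  apply h1
  have hp : p.Prime := Fact.out
  have hcop : Nat.Coprime k (p ^ n) :=
    Nat.Coprime.pow_right n ((Nat.Prime.coprime_iff_not_dvd hp).mpr hk).symm
  have hP1 : 1 < p ^ n := Nat.one_lt_pow (by omega) hp.one_lt
  have hPpos : 0 < p ^ n := by omega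
  obtain ⟨j, -, hj⟩ := Nat.exists_mul_mod_eq_one_of_coprime hcop hP1
  have h2 := linked_pow_mul hN (by omega) hX hY k hl j
  rw [pow_mod_eq hX (k * j), hj, pow_one] at h2
  exact h2

theorem not_linked_of_mod_ne {τ : Representation K Q V} (hcard : (Nat.card Q : K) ≠ 0)
    {X : Module.End K V}
    (hN : Nrm τ X) (p n : ℕ) [Fact p.Prime] (hn : 1 ≤ n) (hX : X ^ (p ^ n) = 1)
    {Y : Submodule K V} (hY : IrrSub τ Y) (h1 : ¬ Linked τ (Y.map X) Y) (a b : ℕ)
    (hab : a % p ≠ b % p) : ¬ Linked τ (Y.map (X ^ a)) (Y.map (X ^ b)) := by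
  intro hl
  have hPpos : 0 < p ^ n := pow_pos (Nat.Prime.pos Fact.out) n
  have h2 := linked_pow hN hPpos hX (p ^ n * a - a) hl
  rw [map_pow_map_pow, map_pow_map_pow] at h2
  have h3 : p ^ n * a - a + a = p ^ n * a := by
    have : a ≤ p ^ n * a := Nat.le_mul_of_pos_left a hPpos
    omega
  rw [h3, pow_mul, hX, one_pow, Module.End.one_eq_id, Submodule.map_id] at h2
  have h4 := Linked.symm hcard hY (irr_pow hN hPpos hX _ hY) h2
  refine not_linked_pow_of_not_dvd hN p n hn hX hY h1 _ ?_ h4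
  intro hdvd
  apply hab
  have h5 : (p ^ n * a - a + b) + a = p ^ n * a + b := by omega
  have h6 : ((p ^ n * a - a + b) + a) % p = a % p := by
    rw [Nat.add_mod, Nat.mod_eq_zero_of_dvd hdvd, zero_add, Nat.mod_mod]
  have h7 : (p ^ n * a + b) % p = b % p := by
    have : p ∣ p ^ n * a := Dvd.dvd.mul_right (dvd_pow_self p (by omega)) a
    rw [Nat.add_mod, Nat.mod_eq_zero_of_dvd this, zero_add, Nat.mod_mod]
  rw [← h6, h5, h7]

/-- the sum of the translates with exponent in a residue class -/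
def Ares (X : Module.End K V) (p : ℕ) (Y : Submodule K V) (i : ℕ) : Submodule K V :=
  ⨆ k : {k : ℕ // k % p = i}, Y.map (X ^ (k : ℕ))

theorem Ares_inv {τ : Representation K Q V} {X : Module.End K V} (hN : Nrm τ X) (p : ℕ)
    {Y : Submodule K V} (hY : Inv τ Y) (i : ℕ) : Inv τ (Ares X p Y i) :=
  Inv.iSup (fun k => hY.mapX (hN.pow _))

theorem le_Ares (X : Module.End K V) (p : ℕ) (Y : Submodule K V) (k : ℕ) :
    Y.map (X ^ k) ≤ Ares X p Y (k % p) :=
  le_iSup (fun k' : {k' : ℕ // k' % p = k % p} => Y.map (X ^ (k' : ℕ))) ⟨k, rfl⟩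

theorem Ares_map_pow (X : Module.End K V) (p : ℕ) (Y : Submodule K V) (i j : ℕ) :
    (Ares X p Y i).map (X ^ j) ≤ Ares X p Y ((i + j) % p) := by
  unfold Ares
  rw [Submodule.map_iSup]
  apply iSup_le
  rintro ⟨k, hk⟩
  rw [map_pow_map_pow]
  have h1 : (j + k) % p = (i + j) % p := by
    subst hk
    rw [Nat.mod_add_mod, add_comm]
  rw [← h1]
  exact le_Ares X p Y (j + k)

theorem Ares_indep {τ : Representation K Q V} [FiniteDimensional K V]
    (hcard : (Nat.card Q : K) ≠ 0) {X : Module.End K V}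
    (hN : Nrm τ X) (p n : ℕ) [Fact p.Prime] (hn : 1 ≤ n) (hX : X ^ (p ^ n) = 1)
    {Y : Submodule K V} (hY : IrrSub τ Y) (h1 : ¬ Linked τ (Y.map X) Y) :
    iSupIndep (fun i : Fin p => Ares X p Y (i : ℕ)) := by
  intro i
  rw [disjoint_iff]
  by_contra hne
  have hinv : Inv τ (Ares X p Y (i : ℕ) ⊓ ⨆ (j : Fin p) (_ : j ≠ i), Ares X p Y (j : ℕ)) :=
    (Ares_inv hN p hY.2.1 _).inf (Inv.iSup (fun j => Inv.iSup (fun _ => Ares_inv hN p hY.2.1 _)))
  obtain ⟨Z, hZle, hZ⟩ := exists_irrSub_le τ _ hinv hne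
  have hZ1 : Z ≤ Ares X p Y (i : ℕ) := le_trans hZle inf_le_left
  have hZ2 : Z ≤ ⨆ k : {k : ℕ // k % p ≠ (i : ℕ)}, Y.map (X ^ (k : ℕ)) := by
    refine le_trans (le_trans hZle inf_le_right) ?_
    apply iSup_le
    intro j
    apply iSup_le
    intro hj
    apply iSup_le
    rintro ⟨k, hk⟩
    have hk' : k % p ≠ (i : ℕ) := by
      rw [hk]
      intro h
      exact hj (Fin.ext h)
    exact le_iSup (fun k : {k : ℕ // k % p ≠ (i : ℕ)} => Y.map (X ^ (k : ℕ))) ⟨k, hk'⟩
  obtain ⟨⟨a, ha⟩, hla⟩ := exists_linked_of_le_iSup hcard _ hZ hZ1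
  obtain ⟨⟨b, hb⟩, hlb⟩ := exists_linked_of_le_iSup hcard _ hZ hZ2
  have hPpos : 0 < p ^ n := pow_pos (Nat.Prime.pos Fact.out) n
  have hYa := irr_pow hN hPpos hX a hY
  have hYb := irr_pow hN hPpos hX b hY
  have h2 : Linked τ (Y.map (X ^ a)) (Y.map (X ^ b)) :=
    Linked.trans hYa hZ hla (Linked.symm hcard hYb hZ hlb)
  refine not_linked_of_mod_ne hcard hN p n hn hX hY h1 a b ?_ h2
  rw [ha]; exact fun h => hb h.symm

end Res

end Cfsg.Agent.Lib.Helper8.TB
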