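import Mathlib
import Cfsg.Agent.Lib.Helper8.TB4

set_option autoImplicit false

/-! An operator of `p`-power order (`p` odd) normalizing the group and moving the isomorphism
class of an irreducible constituent `Y`: `(X - 1)^2` is injective on `Y`. -/

namespace Cfsg.Agent.Lib.Helper8.QC

open Module Cfsg.Agent.Lib.Helper8.TB

section Sq

variable {K : Type*} [Field K] {V : Type*} [AddCommGroup V] [Module K V]
  {Q : Type*} [Group Q] [Finite Q]

theorem eq_zero_of_sq {τ : Representation K Q V} [FiniteDimensional K V]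
    (hcard : (Nat.card Q : K) ≠ 0) {X : Module.End K V}
    (hN : Nrm τ X) (p n : ℕ) [Fact p.Prime] (hp2 : p ≠ 2) (hn : 1 ≤ n) (hX : X ^ (p ^ n) = 1)
    {Y : Submodule K V} (hY : IrrSub τ Y) (h1 : ¬ Linked τ (Y.map X) Y)
    (w : V) (hw : w ∈ Y) (hsq : ((X - 1) ^ 2 : Module.End K V) w = 0) : w = 0 := by
  have hp : p.Prime := Fact.out
  have hp3 : 3 ≤ p := by
    have := hp.two_le
    omega
  have hind := Ares_indep hcard hN p n hn hX hY h1
  have h0 : w ∈ Ares X p Y 0 := by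
    have h2 := le_Ares X p Y 0
    rw [pow_zero, Module.End.one_eq_id, Submodule.map_id, Nat.zero_mod] at h2
    exact h2 hw
  have hA1 : X w ∈ Ares X p Y 1 := by
    have h2 := le_Ares X p Y 1
    rw [pow_one, Nat.mod_eq_of_lt (by omega : 1 < p)] at h2
    exact h2 ⟨w, hw, rfl⟩
  have hA2 : X (X w) ∈ Ares X p Y 2 := by
    have h2 := le_Ares X p Y 2
    rw [Nat.mod_eq_of_lt (by omega : 2 < p)] at h2
    apply h2
    refine ⟨w, hw, ?_⟩
    rw [pow_two, Module.End.mul_apply]
  have hexp : w = X w + X w - X (X w) := by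
    have h2 : ((X - 1) ^ 2 : Module.End K V) w = X (X w) - X w - (X w - w) := by
      rw [pow_two, Module.End.mul_apply, LinearMap.sub_apply, Module.End.one_apply,
        LinearMap.sub_apply, Module.End.one_apply, map_sub]
    rw [h2] at hsq
    have h3 : X w + X w - X (X w) + (X (X w) - X w - (X w - w)) = w := by abel
    calc w = X w + X w - X (X w) + (X (X w) - X w - (X w - w)) := h3.symm
      _ = X w + X w - X (X w) := by rw [hsq, add_zero]
  set i₀ : Fin p := ⟨0, hp.pos⟩ with hi₀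
  set i₁ : Fin p := ⟨1, by omega⟩ with hi₁
  set i₂ : Fin p := ⟨2, by omega⟩ with hi₂
  have h10 : i₁ ≠ i₀ := by
    intro h; simp [hi₀, hi₁, Fin.ext_iff] at h
  have h20 : i₂ ≠ i₀ := by
    intro h; simp [hi₀, hi₂, Fin.ext_iff] at h
  have hsum : w ∈ ⨆ (j : Fin p) (_ : j ≠ i₀), Ares X p Y (j : ℕ) := by
    rw [hexp]
    have hm1 : X w ∈ ⨆ (j : Fin p) (_ : j ≠ i₀), Ares X p Y (j : ℕ) :=
      (le_iSup₂ (f := fun (j : Fin p) (_ : j ≠ i₀) => Ares X p Y (j : ℕ)) i₁ h10) hA1
    have hm2 : X (X w) ∈ ⨆ (j : Fin p) (_ : j ≠ i₀), Ares X p Y (j : ℕ) :=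
      (le_iSup₂ (f := fun (j : Fin p) (_ : j ≠ i₀) => Ares X p Y (j : ℕ)) i₂ h20) hA2
    exact Submodule.sub_mem _ (Submodule.add_mem _ hm1 hm1) hm2
  have h5 := (hind i₀).le_bot ⟨h0, hsum⟩
  exact (Submodule.mem_bot K).mp h5

/-- a quadratic normalizing operator of `p`-power order fixes every isomorphism class -/
theorem linked_of_quadratic {τ : Representation K Q V} [FiniteDimensional K V]
    (hcard : (Nat.card Q : K) ≠ 0) {X : Module.End K V}
    (hN : Nrm τ X) (p n : ℕ) [Fact p.Prime] (hp2 : p ≠ 2) (hn : 1 ≤ n) (hX : X ^ (p ^ n) = 1)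
    (hquad : (X - 1) ^ 2 = 0)
    {Y : Submodule K V} (hY : IrrSub τ Y) : Linked τ (Y.map X) Y := by
  by_contra h1
  apply hY.1
  rw [eq_bot_iff]
  intro w hw
  rw [Submodule.mem_bot]
  apply eq_zero_of_sq hcard hN p n hp2 hn hX hY h1 w hw
  rw [hquad, LinearMap.zero_apply]

/-- if `α` commutes with `X`, preserves `Y` and `α (X-1)^2 = 0`, while `X` moves the class of
`Y`, then `α` kills `Y` -/
theorem kills_of_rel {τ : Representation K Q V} [FiniteDimensional K V]
    (hcard : (Nat.card Q : K) ≠ 0) {X : Module.End K V}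
    (hN : Nrm τ X) (p n : ℕ) [Fact p.Prime] (hp2 : p ≠ 2) (hn : 1 ≤ n) (hX : X ^ (p ^ n) = 1)
    {Y : Submodule K V} (hY : IrrSub τ Y) (h1 : ¬ Linked τ (Y.map X) Y)
    (α : Module.End K V) (hαX : α * X = X * α) (hαY : ∀ y ∈ Y, α y ∈ Y)
    (hrel : α * (X - 1) * (X - 1) = 0) : ∀ y ∈ Y, α y = 0 := by
  intro y hy
  apply eq_zero_of_sq hcard hN p n hp2 hn hX hY h1 (α y) (hαY y hy)
  have hc : α * (X - 1) = (X - 1) * α := by
    rw [mul_sub, sub_mul, hαX, mul_one, one_mul]
  have h2 : (X - 1) ^ 2 * α = α * (X - 1) * (X - 1) := by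
    rw [pow_two, mul_assoc, ← hc, ← mul_assoc, ← hc]
  have h3 := congrArg (fun e : Module.End K V => e y) h2
  simp only [Module.End.mul_apply] at h3
  rw [h3]
  have h4 := congrArg (fun e : Module.End K V => e y) hrel
  simp only [Module.End.mul_apply, LinearMap.zero_apply] at h4
  exact h4

end Sq

end Cfsg.Agent.Lib.Helper8.QC
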