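import Mathlib
import Cfsg.Agent.Lib.Helper8.HB1

set_option autoImplicit false

/-! For an irreducible representation in which commutators act by scalars, representatives of
distinct cosets of the scalar subgroup are linearly independent. -/

namespace Cfsg.Agent.Lib.Helper8.QC

open Module Cfsg.Agent.Lib.Helper8

section Indep

variable {K : Type*} [Field K] [IsAlgClosed K] {V : Type*} [AddCommGroup V] [Module K V]
  [FiniteDimensional K V] [Nontrivial V] {Q : Type*} [Group Q]

omit [IsAlgClosed K] [FiniteDimensional K V] in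
theorem rep_ne_zero (τ : Representation K Q V) (u : Q) : τ u ≠ 0 := by
  intro h
  have h1 := HB.rep_mul_inv τ u
  rw [h, zero_mul] at h1
  exact zero_ne_one h1

theorem linearIndependent_of_cosets (τ : Representation K Q V) (hirr : HB.Irr τ)
    (hcl : ∀ u v : Q, ∃ c : K, τ u * τ v = c • (τ v * τ u))
    {ι : Type*} (f : ι → Q)
    (hf : ∀ i j, i ≠ j → ¬ ∃ c : K, τ ((f i)⁻¹ * f j) = c • (1 : Module.End K V)) :
    LinearIndependent K (fun i => τ (f i)) := by
  classical
  choose c hc using hcl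
  rw [linearIndependent_iff']
  intro s
  induction s using Finset.strongInduction with
  | H s ih =>
  intro g hg i₀ hi₀
  by_contra hne
  -- conjugating the relation
  have hconj : ∀ u : Q, ∑ i ∈ s, (g i * c u (f i)) • τ (f i) = 0 := by
    intro u
    have h1 : τ u * ∑ i ∈ s, g i • τ (f i) = (∑ i ∈ s, (g i * c u (f i)) • τ (f i)) * τ u := by
      rw [Finset.mul_sum, Finset.sum_mul]
      apply Finset.sum_congr rfl
      intro i _
      rw [mul_smul_comm, hc u (f i), smul_smul, smul_mul_assoc]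
    rw [hg, mul_zero] at h1
    have h2 := congrArg (fun e : Module.End K V => e * τ u⁻¹) h1
    simp only [zero_mul, mul_assoc, HB.rep_mul_inv, mul_one] at h2
    exact h2.symm
  have hothers : ∀ i ∈ s, i ≠ i₀ → g i = 0 := by
    intro i₁ hi₁ hne1
    by_contra hg1
    have heq : ∀ u : Q, c u (f i₁) = c u (f i₀) := by
      intro u
      have h1 : ∑ i ∈ s.erase i₀, (g i * (c u (f i) - c u (f i₀))) • τ (f i) = 0 := by
        rw [Finset.sum_erase]
        · have h2 : ∑ i ∈ s, (g i * (c u (f i) - c u (f i₀))) • τ (f i) =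
              ∑ i ∈ s, (g i * c u (f i)) • τ (f i) - c u (f i₀) • ∑ i ∈ s, g i • τ (f i) := by
            rw [Finset.smul_sum, ← Finset.sum_sub_distrib]
            apply Finset.sum_congr rfl
            intro i _
            rw [smul_smul, ← sub_smul]
            congr 1
            ring
          rw [h2, hconj u, hg, smul_zero, sub_zero]
        · rw [sub_self, mul_zero, zero_smul]
      have h3 := ih (s.erase i₀) (Finset.erase_ssubset hi₀) _ h1 i₁
        (Finset.mem_erase.mpr ⟨hne1, hi₁⟩)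
      rcases mul_eq_zero.mp h3 with h4 | h4
      · exact absurd h4 hg1
      · exact sub_eq_zero.mp h4
    -- τ ((f i₀)⁻¹ * f i₁) commutes with everything
    apply hf i₀ i₁ (Ne.symm hne1)
    have hcomm : ∀ u : Q, τ ((f i₀)⁻¹ * f i₁) * τ u = τ u * τ ((f i₀)⁻¹ * f i₁) := by
      intro u
      have hc0 : c u (f i₀) ≠ 0 := by
        intro h0
        have h1 := hc u (f i₀)
        rw [h0, zero_smul, ← map_mul] at h1
        exact rep_ne_zero τ _ h1
      have e0 := hc u (f i₀)
      have e1 := hc u (f i₁)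
      rw [heq u] at e1
      -- τ (f i₀)⁻¹ * τ u = c • τ u * τ (f i₀)⁻¹
      have e2 : τ (f i₀)⁻¹ * τ u = c u (f i₀) • (τ u * τ (f i₀)⁻¹) := by
        have h1 : τ (f i₀)⁻¹ * (τ u * τ (f i₀)) * τ (f i₀)⁻¹ =
            τ (f i₀)⁻¹ * (c u (f i₀) • (τ (f i₀) * τ u)) * τ (f i₀)⁻¹ := by rw [e0]
        have h2 : τ (f i₀)⁻¹ * (τ u * τ (f i₀)) * τ (f i₀)⁻¹ = τ (f i₀)⁻¹ * τ u := by
          rw [mul_assoc, mul_assoc, HB.rep_mul_inv, mul_one]
        have h3 : τ (f i₀)⁻¹ * (c u (f i₀) • (τ (f i₀) * τ u)) * τ (f i₀)⁻¹ =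
            c u (f i₀) • (τ u * τ (f i₀)⁻¹) := by
          rw [mul_smul_comm, smul_mul_assoc, ← mul_assoc (τ (f i₀)⁻¹), HB.rep_inv_mul, one_mul]
        rw [← h2, h1, h3]
      have e3 : c u (f i₀) • (τ ((f i₀)⁻¹ * f i₁) * τ u) =
          c u (f i₀) • (τ u * τ ((f i₀)⁻¹ * f i₁)) := by
        rw [map_mul]
        calc c u (f i₀) • (τ (f i₀)⁻¹ * τ (f i₁) * τ u)
            = τ (f i₀)⁻¹ * (c u (f i₀) • (τ (f i₁) * τ u)) := by
              rw [mul_smul_comm, mul_assoc]
          _ = τ (f i₀)⁻¹ * (τ u * τ (f i₁)) := by rw [← e1]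
          _ = (τ (f i₀)⁻¹ * τ u) * τ (f i₁) := by rw [mul_assoc]
          _ = c u (f i₀) • (τ u * τ (f i₀)⁻¹) * τ (f i₁) := by rw [e2]
          _ = c u (f i₀) • (τ u * (τ (f i₀)⁻¹ * τ (f i₁))) := by
              rw [smul_mul_assoc, mul_assoc]
      exact smul_right_injective _ hc0 e3
    obtain ⟨a, ha⟩ := HB.schur τ hirr _ hcomm
    refine ⟨a, ?_⟩
    rw [ha, Algebra.algebraMap_eq_smul_one]
  -- only the i₀ term survives
  have h1 : ∑ i ∈ s, g i • τ (f i) = g i₀ • τ (f i₀) := by
    apply Finset.sum_eq_single_of_mem i₀ hi₀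
    intro i hi hii
    rw [hothers i hi hii, zero_smul]
  rw [h1] at hg
  rcases smul_eq_zero.mp hg with h2 | h2
  · exact hne h2
  · exact rep_ne_zero τ _ h2

/-- the number of cosets is at most the square of the dimension -/
theorem card_le_of_cosets (τ : Representation K Q V) (hirr : HB.Irr τ)
    (hcl : ∀ u v : Q, ∃ c : K, τ u * τ v = c • (τ v * τ u))
    {ι : Type*} [Fintype ι] (f : ι → Q)
    (hf : ∀ i j, i ≠ j → ¬ ∃ c : K, τ ((f i)⁻¹ * f j) = c • (1 : Module.End K V)) :
    Fintype.card ι ≤ finrank K V * finrank K V := by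
  have h1 := linearIndependent_of_cosets τ hirr hcl f hf
  have h2 := h1.fintype_card_le_finrank
  rwa [Module.finrank_linearMap] at h2

end Indep

end Cfsg.Agent.Lib.Helper8.QC
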