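import Mathlib

set_option autoImplicit false

/-! A `3`-group acting by conjugation on a coset space with at most four points acts through an
abelian group, so its commutator subgroup acts trivially. -/

namespace Cfsg.Agent.Lib.Helper8.QC

open scoped commutatorElement

section Perm

variable {G : Type*} [Group G]

theorem comm_of_card_le_three {R : Type*} [Group R] [Finite R] (h : Nat.card R = 1 ∨ Nat.card R = 3)
    (x y : R) : x * y = y * x := by
  rcases h with h | h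
  · haveI : Subsingleton R := (Nat.card_eq_one_iff_unique.mp h).1
    exact Subsingleton.elim _ _
  · haveI : Fact (Nat.Prime 3) := ⟨Nat.prime_three⟩
    haveI := isCyclic_of_prime_card h
    exact (IsCyclic.commGroup (α := R)).mul_comm x y

theorem commutator_acts_trivially (T B : Subgroup G) [Finite T]
    (hBT : B ≤ Subgroup.normalizer (T : Set G)) (hB : IsPGroup 3 B)
    (C : Subgroup G)
    (hCB : ∀ b ∈ B, ∀ c ∈ C, b * c * b⁻¹ ∈ C)
    (hcard : Nat.card (↥T ⧸ C.subgroupOf T) ≤ 4)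
    (a : G) (ha : a ∈ ⁅B, B⁆) : ∀ t ∈ T, (a * t * a⁻¹)⁻¹ * t ∈ C := by
  classical
  have hconjT : ∀ b ∈ B, ∀ t ∈ T, b * t * b⁻¹ ∈ T := by
    intro b hb t ht
    exact (Subgroup.mem_normalizer_iff.mp (hBT hb) t).mp ht
  letI actBT : MulAction ↥B ↥T :=
    { smul := fun b t => ⟨(b : G) * t * (b : G)⁻¹, hconjT b b.2 t t.2⟩
      one_smul := by
        intro t
        apply Subtype.ext
        show ((1 : ↥B) : G) * t * ((1 : ↥B) : G)⁻¹ = t
        simp
      mul_smul := by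
        intro b b' t
        apply Subtype.ext
        show ((b * b' : ↥B) : G) * t * ((b * b' : ↥B) : G)⁻¹ =
          (b : G) * ((b' : G) * t * (b' : G)⁻¹) * (b : G)⁻¹
        rw [Subgroup.coe_mul]
        group }
  have hsmul : ∀ (b : ↥B) (t : ↥T), ((b • t : ↥T) : G) = (b : G) * t * (b : G)⁻¹ := fun b t => rfl
  haveI : MulAction.QuotientAction ↥B (C.subgroupOf T) := by
    constructor
    intro b t t' h
    rw [Subgroup.mem_subgroupOf] at h ⊢
    rw [Subgroup.coe_mul, Subgroup.coe_inv, hsmul, hsmul]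
    have h1 := hCB b b.2 _ h
    rw [Subgroup.coe_mul, Subgroup.coe_inv] at h1
    have h2 : ((b : G) * t * (b : G)⁻¹)⁻¹ * ((b : G) * t' * (b : G)⁻¹) =
        (b : G) * ((t : G)⁻¹ * t') * (b : G)⁻¹ := by group
    rw [h2]
    exact h1
  set φ : ↥B →* Equiv.Perm (↥T ⧸ C.subgroupOf T) :=
    MulAction.toPermHom ↥B (↥T ⧸ C.subgroupOf T) with hφ
  haveI : Finite (↥T ⧸ C.subgroupOf T) := Quotient.finite _
  haveI : Fintype (↥T ⧸ C.subgroupOf T) := Fintype.ofFinite _
  have hRp : IsPGroup 3 φ.range := hB.of_surjective φ.rangeRestrict φ.rangeRestrict_surjective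
  have hRcard : Nat.card φ.range = 1 ∨ Nat.card φ.range = 3 := by
    obtain ⟨k, hk⟩ := IsPGroup.iff_card.mp hRp
    have h1 : Nat.card φ.range ∣ Nat.card (Equiv.Perm (↥T ⧸ C.subgroupOf T)) :=
      Subgroup.card_subgroup_dvd_card _
    rw [Nat.card_eq_fintype_card (α := Equiv.Perm _), Fintype.card_perm,
      ← Nat.card_eq_fintype_card] at h1
    have h2 : (Nat.card (↥T ⧸ C.subgroupOf T)).factorial ∣ (4 : ℕ).factorial :=
      Nat.factorial_dvd_factorial hcard
    have h3 : 3 ^ k ∣ 24 := by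
      rw [← hk]
      exact h1.trans h2
    have hk1 : k ≤ 1 := by
      by_contra hcon
      have h4 : 3 ^ 2 ∣ 3 ^ k := pow_dvd_pow 3 (by omega)
      have h5 := h4.trans h3
      norm_num at h5
    rw [hk]
    interval_cases k
    · left; rfl
    · right; rfl
  -- commutators of B act trivially
  have hker : ⁅B, B⁆ ≤ φ.ker.map B.subtype := by
    rw [Subgroup.commutator_le]
    intro b₁ hb₁ b₂ hb₂
    refine ⟨⁅(⟨b₁, hb₁⟩ : ↥B), ⟨b₂, hb₂⟩⁆, ?_, rfl⟩
    rw [SetLike.mem_coe, MonoidHom.mem_ker, map_commutatorElement, commutatorElement_eq_one_iff_mul_comm]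
    have h1 := comm_of_card_le_three hRcard ⟨φ ⟨b₁, hb₁⟩, ⟨_, rfl⟩⟩ ⟨φ ⟨b₂, hb₂⟩, ⟨_, rfl⟩⟩
    exact congrArg Subtype.val h1
  obtain ⟨a', ha'ker, ha'⟩ := hker ha
  intro t ht
  have h1 : φ a' (QuotientGroup.mk (⟨t, ht⟩ : ↥T)) = QuotientGroup.mk (⟨t, ht⟩ : ↥T) := by
    rw [MonoidHom.mem_ker.mp ha'ker]
    rfl
  have h2 : φ a' (QuotientGroup.mk (⟨t, ht⟩ : ↥T)) =
      (QuotientGroup.mk (a' • (⟨t, ht⟩ : ↥T)) : ↥T ⧸ C.subgroupOf T) := rfl
  rw [h2, QuotientGroup.eq, Subgroup.mem_subgroupOf, Subgroup.coe_mul, Subgroup.coe_inv, hsmul] at h1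
  have h3 : (a' : G) = a := ha'
  rw [h3] at h1
  exact h1

end Perm

end Cfsg.Agent.Lib.Helper8.QC
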