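import Mathlib
import Cfsg.Agent.Lib.Helper8.TB4
import Cfsg.Agent.Lib.Helper8.FF7
import Cfsg.Agent.Lib.Helper8.HB3

set_option autoImplicit false

/-! Extension of an invariant irreducible constituent, and the induced-module estimate. -/

namespace Cfsg.Agent.Lib.Helper8.TB

open Module

section Ext

variable {K : Type*} [Field K] [IsAlgClosed K] {V : Type*} [AddCommGroup V] [Module K V]
  [FiniteDimensional K V] {Q : Type*} [Group Q]

/-- the equivariant maps from an invariant subspace -/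
def homSub (τ : Representation K Q V) (Y : Submodule K V) (hY : Inv τ Y) :
    Submodule K (Y →ₗ[K] V) where
  carrier := {f | ∀ g, f ∘ₗ (FF.restrictRep τ Y hY g) = τ g ∘ₗ f}
  add_mem' := by
    intro a b ha hb g
    rw [LinearMap.add_comp, LinearMap.comp_add, ha g, hb g]
  zero_mem' := by
    intro g
    rw [LinearMap.zero_comp, LinearMap.comp_zero]
  smul_mem' := by
    intro c a ha g
    rw [LinearMap.smul_comp, LinearMap.comp_smul, ha g]

theorem mem_homSub (τ : Representation K Q V) (Y : Submodule K V) (hY : Inv τ Y)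
    (f : Y →ₗ[K] V) : f ∈ homSub τ Y hY ↔ ∀ g (y : Y), f (FF.restrictRep τ Y hY g y) = τ g (f y) := by
  constructor
  · intro h g y
    exact congrArg (fun e : Y →ₗ[K] V => e y) (h g)
  · intro h g
    ext y
    exact h g y

theorem exists_invariant_irr {τ : Representation K Q V} {X : Module.End K V} (hN : Nrm τ X)
    (hXinj : Function.Injective X) {Y : Submodule K V} (hY : IrrSub τ Y)
    (hXY : IrrSub τ (Y.map X)) (hl : Linked τ (Y.map X) Y) :
    ∃ V' : Submodule K V, IrrSub τ V' ∧ (∀ v ∈ V', X v ∈ V') ∧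
      ∀ u u' : Q, (∃ y ∈ Y, τ u' y ≠ τ u y) → ∃ z ∈ V', τ u' z ≠ τ u z := by
  obtain ⟨F, hF, hFle, hFne⟩ := hl
  have hinf := Linked.inf_ker hXY hF hFne
  set T : Module.End K V := F * X with hT
  have hTY : ∀ y ∈ Y, T y ∈ Y := by
    intro y hy
    exact hFle ⟨X y, ⟨y, hy, rfl⟩, rfl⟩
  -- twisted equivariance of T
  have hTtw : ∀ g g' : Q, τ g * X = X * τ g' → T * τ g' = τ g * T := by
    intro g g' h
    rw [hT, mul_assoc, ← h, ← mul_assoc, hF g, mul_assoc]
  set TYlin : Y →ₗ[K] Y := T.restrict hTY with hTYlin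
  have hTYinj : Function.Injective TYlin := by
    rw [injective_iff_map_eq_zero]
    intro y hy
    have h1 : T (y : V) = 0 := congrArg Subtype.val hy
    have h2 : X (y : V) ∈ Y.map X ⊓ LinearMap.ker F := ⟨⟨y, y.2, rfl⟩, LinearMap.mem_ker.mpr h1⟩
    rw [hinf, Submodule.mem_bot] at h2
    have h3 : (y : V) = 0 := hXinj (by rw [h2, map_zero])
    exact Subtype.ext h3
  set TY : Y ≃ₗ[K] Y := LinearEquiv.ofInjectiveEndo TYlin hTYinj with hTYdef
  have hTYapp : ∀ y : Y, ((TY y : Y) : V) = T (y : V) := fun y => rfl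
  -- the operator on the space of equivariant maps
  let Ψ₀ : (Y →ₗ[K] V) →ₗ[K] (Y →ₗ[K] V) :=
    { toFun := fun f => X ∘ₗ f ∘ₗ TY.symm.toLinearMap
      map_add' := by intro a b; ext y; simp
      map_smul' := by intro c a; ext y; simp }
  have hΨ₀app : ∀ (f : Y →ₗ[K] V) (y : Y), Ψ₀ f y = X (f (TY.symm y)) := fun f y => rfl
  have hΨ : ∀ f ∈ homSub τ Y hY.2.1, Ψ₀ f ∈ homSub τ Y hY.2.1 := by
    intro f hf
    rw [mem_homSub] at hf ⊢
    intro g y
    obtain ⟨g', hg'⟩ := hN.bwd g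
    rw [hΨ₀app, hΨ₀app]
    -- TY.symm (τ g y) = τ g' (TY.symm y)
    have h1 : TY.symm (FF.restrictRep τ Y hY.2.1 g y) =
        FF.restrictRep τ Y hY.2.1 g' (TY.symm y) := by
      apply TY.injective
      rw [LinearEquiv.apply_symm_apply]
      apply Subtype.ext
      rw [hTYapp]
      show τ g (y : V) = T (τ g' ((TY.symm y : Y) : V))
      have h2 := congrArg (fun e : Module.End K V => e ((TY.symm y : Y) : V)) (hTtw g g' hg')
      simp only [Module.End.mul_apply] at h2
      rw [h2, ← hTYapp, LinearEquiv.apply_symm_apply]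
    rw [h1, hf g' (TY.symm y)]
    have h3 := congrArg (fun e : Module.End K V => e (f (TY.symm y))) hg'
    simp only [Module.End.mul_apply] at h3
    exact h3.symm
  set Ψ : Module.End K (homSub τ Y hY.2.1) := Ψ₀.restrict hΨ with hΨdef
  haveI : Nontrivial (homSub τ Y hY.2.1) := by
    refine ⟨⟨⟨Y.subtype, ?_⟩, 0, ?_⟩⟩
    · rw [mem_homSub]
      intro g y
      rfl
    · intro h
      apply hY.1
      rw [eq_bot_iff]
      intro y hy
      have h1 := congrArg (fun e : homSub τ Y hY.2.1 => (e : Y →ₗ[K] V) ⟨y, hy⟩) h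
      simp only [Submodule.coe_zero, LinearMap.zero_apply] at h1
      rw [Submodule.mem_bot]
      exact h1
  obtain ⟨c, hc⟩ := Module.End.exists_eigenvalue Ψ
  obtain ⟨f, hf⟩ := hc.exists_hasEigenvector
  have hfne : (f : Y →ₗ[K] V) ≠ 0 := by
    intro h
    exact hf.2 (Subtype.ext h)
  have hfeq : ∀ y : Y, X ((f : Y →ₗ[K] V) (TY.symm y)) = c • (f : Y →ₗ[K] V) y := by
    intro y
    have h1 := hf.apply_eq_smul
    have h2 := congrArg (fun e : homSub τ Y hY.2.1 => (e : Y →ₗ[K] V) y) h1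
    exact h2
  have hfmem := (mem_homSub τ Y hY.2.1 _).mp f.2
  -- f is injective
  have hfinj : Function.Injective (f : Y →ₗ[K] V) := by
    rw [← LinearMap.ker_eq_bot]
    have hkinv : Inv τ ((LinearMap.ker (f : Y →ₗ[K] V)).map Y.subtype) := by
      rintro g _ ⟨y, hy, rfl⟩
      refine ⟨FF.restrictRep τ Y hY.2.1 g y, ?_, rfl⟩
      rw [SetLike.mem_coe, LinearMap.mem_ker] at hy ⊢
      rw [hfmem g y, hy, map_zero]
    have hkle : (LinearMap.ker (f : Y →ₗ[K] V)).map Y.subtype ≤ Y := by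
      rintro _ ⟨y, _, rfl⟩
      exact y.2
    rcases hY.2.2 _ hkle hkinv with h | h
    · have h4 : (LinearMap.ker (f : Y →ₗ[K] V)).map Y.subtype = (⊥ : Submodule K Y).map Y.subtype := by
        rw [Submodule.map_bot]; exact h
      exact Submodule.map_injective_of_injective Y.injective_subtype h4
    · exfalso
      apply hfne
      ext y
      have h5 : (y : V) ∈ (LinearMap.ker (f : Y →ₗ[K] V)).map Y.subtype := by rw [h]; exact y.2
      obtain ⟨y', hy', hyy'⟩ := h5
      have h6 : y' = y := Subtype.ext hyy'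
      rw [← h6]
      exact LinearMap.mem_ker.mp hy'
  refine ⟨LinearMap.range (f : Y →ₗ[K] V), ⟨?_, ?_, ?_⟩, ?_, ?_⟩
  · intro h
    apply hfne
    exact LinearMap.range_eq_bot.mp h
  · rintro g _ ⟨y, rfl⟩
    exact ⟨FF.restrictRep τ Y hY.2.1 g y, hfmem g y⟩
  · intro W hW hWinv
    set W' : Submodule K V := (W.comap (f : Y →ₗ[K] V)).map Y.subtype with hW'
    have hW'le : W' ≤ Y := by
      rintro _ ⟨y, _, rfl⟩
      exact y.2
    have hW'inv : Inv τ W' := by
      rintro g _ ⟨y, hy, rfl⟩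
      refine ⟨FF.restrictRep τ Y hY.2.1 g y, ?_, rfl⟩
      rw [SetLike.mem_coe, Submodule.mem_comap] at hy ⊢
      rw [hfmem g y]
      exact hWinv g _ hy
    have hWeq : W = (W.comap (f : Y →ₗ[K] V)).map (f : Y →ₗ[K] V) := by
      rw [Submodule.map_comap_eq, inf_eq_right.mpr hW]
    rcases hY.2.2 W' hW'le hW'inv with h | h
    · left
      have h4 : (W.comap (f : Y →ₗ[K] V)).map Y.subtype = (⊥ : Submodule K Y).map Y.subtype := by
        rw [Submodule.map_bot]; exact h
      have h5 := Submodule.map_injective_of_injective Y.injective_subtype h4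
      rw [hWeq, h5, Submodule.map_bot]
    · right
      have h4 : (W.comap (f : Y →ₗ[K] V)).map Y.subtype = (⊤ : Submodule K Y).map Y.subtype := by
        rw [Submodule.map_subtype_top]; exact h
      have h5 := Submodule.map_injective_of_injective Y.injective_subtype h4
      rw [hWeq, h5, Submodule.map_top]
  · rintro _ ⟨y, rfl⟩
    have h1 := hfeq (TY y)
    rw [LinearEquiv.symm_apply_apply] at h1
    rw [h1]
    exact Submodule.smul_mem _ _ ⟨TY y, rfl⟩
  · rintro u u' ⟨y, hy, hne⟩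
    refine ⟨(f : Y →ₗ[K] V) ⟨y, hy⟩, ⟨⟨y, hy⟩, rfl⟩, ?_⟩
    intro h
    apply hne
    rw [← hfmem u' ⟨y, hy⟩, ← hfmem u ⟨y, hy⟩] at h
    have h2 := hfinj h
    exact congrArg Subtype.val h2

end Ext


section Induced

variable {K : Type*} [Field K] {V : Type*} [AddCommGroup V] [Module K V]

theorem pow_sub_one_mem {X : Module.End K V} (k : ℕ) (V₁ : Submodule K V)
    (hV₁ : ∀ v ∈ V₁, (X ^ k) v ∈ V₁) (m : ℕ) : ∀ v ∈ V₁, ((X ^ k - 1) ^ m) v ∈ V₁ := by
  induction m with
  | zero => intro v hv; rw [pow_zero, Module.End.one_apply]; exact hv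
  | succ m ih =>
    intro v hv
    rw [pow_succ', Module.End.mul_apply, LinearMap.sub_apply, Module.End.one_apply]
    exact V₁.sub_mem (hV₁ _ (ih v hv)) (ih v hv)

/-- the induced-module estimate -/
theorem restrict_nilp (p : ℕ) [Fact p.Prime] [CharP K p] {X : Module.End K V}
    (V₁ : Submodule K V) (hV₁ : ∀ v ∈ V₁, (X ^ p) v ∈ V₁)
    (hind : iSupIndep (fun i : Fin p => V₁.map (X ^ (i : ℕ))))
    (r : ℕ) (hr : (X - 1) ^ r = 0) : ∀ v ∈ V₁, ((X ^ p - 1) ^ (r / p)) v = 0 := by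
  have hp : p.Prime := Fact.out
  have h1 : (X - 1) ^ ((p - 1) + p * (r / p)) = 0 := by
    apply pow_eq_zero_of_le _ hr
    have h2 := Nat.div_add_mod r p
    have h3 := Nat.mod_lt r hp.pos
    omega
  have h2 : (X - 1) ^ (p * (r / p)) = (X ^ p - 1) ^ (r / p) := by
    have h3 := HB.sub_one_pow_char p X 1
    rw [pow_one] at h3
    rw [pow_mul, h3]
  have h3 : (X - 1) ^ (p - 1) = ∑ i ∈ Finset.range p, X ^ i := by
    have h4 := HB.geom_sum_char p (X - 1) 1
    rw [pow_one] at h4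
    have h5 : (1 : Module.End K V) + (X - 1) = X := by abel
    rw [h5] at h4
    exact h4.symm
  rw [pow_add, h2, h3] at h1
  intro v hv
  set w := ((X ^ p - 1) ^ (r / p)) v with hw
  have hwV : w ∈ V₁ := pow_sub_one_mem p V₁ hV₁ _ v hv
  have h4 : ∑ i : Fin p, (X ^ (i : ℕ)) w = 0 := by
    have h5 := congrArg (fun e : Module.End K V => e v) h1
    simp only [Module.End.mul_apply, LinearMap.zero_apply, LinearMap.sum_apply] at h5
    rw [← Finset.sum_range (fun i => (X ^ i) w)]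
    exact h5
  set i₀ : Fin p := ⟨0, hp.pos⟩ with hi₀
  have h5 := Finset.add_sum_erase Finset.univ (fun i : Fin p => (X ^ (i : ℕ)) w) (Finset.mem_univ i₀)
  rw [h4] at h5
  have h6 : (X ^ ((i₀ : Fin p) : ℕ)) w = w := by
    show (X ^ 0) w = w
    rw [pow_zero, Module.End.one_apply]
  have h7 : w = -∑ i ∈ Finset.univ.erase i₀, (X ^ (i : ℕ)) w := by
    rw [h6] at h5
    exact eq_neg_of_add_eq_zero_left h5
  have h8 : w ∈ V₁.map (X ^ ((i₀ : Fin p) : ℕ)) := ⟨w, hwV, h6⟩
  have h9 : w ∈ ⨆ (j : Fin p) (_ : j ≠ i₀), V₁.map (X ^ (j : ℕ)) := by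
    rw [h7]
    apply Submodule.neg_mem
    apply Submodule.sum_mem
    intro j hj
    have hj' : j ≠ i₀ := (Finset.mem_erase.mp hj).1
    exact (le_iSup₂ (f := fun (j : Fin p) (_ : j ≠ i₀) => V₁.map (X ^ (j : ℕ))) j hj')
      ⟨w, hwV, rfl⟩
  have h10 := (hind i₀).le_bot ⟨h8, h9⟩
  exact (Submodule.mem_bot K).mp h10

end Induced

end Cfsg.Agent.Lib.Helper8.TB
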