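import Mathlib
import Cfsg.Agent.Lib.Helper8.TB5
import Cfsg.Agent.Lib.Helper8.TB7

set_option autoImplicit false

/-! The core induction of Theorem B. -/

namespace Cfsg.Agent.Lib.Helper8.TB

open Module

universe u v

section Sub

variable {K : Type*} [Field K] {Q : Type*} [Group Q] {V : Type*} [AddCommGroup V] [Module K V]

theorem restrict_pow_apply (A : Module.End K V) (V₁ : Submodule K V)
    (hA : ∀ v ∈ V₁, A v ∈ V₁) (k : ℕ) (v : V₁) :
    ((((A.restrict hA : Module.End K V₁) ^ k) v : V₁) : V) = (A ^ k) (v : V) := by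
  induction k generalizing v with
  | zero => simp
  | succ k ih =>
    rw [pow_succ, pow_succ, Module.End.mul_apply, Module.End.mul_apply, ih]
    rfl

theorem restrict_sub_one_pow_apply (A : Module.End K V) (V₁ : Submodule K V)
    (hA : ∀ v ∈ V₁, A v ∈ V₁) (k : ℕ) (v : V₁) :
    (((((A.restrict hA : Module.End K V₁) - 1) ^ k) v : V₁) : V) = ((A - 1) ^ k) (v : V) := by
  induction k generalizing v with
  | zero => simp
  | succ k ih =>
    rw [pow_succ, pow_succ, Module.End.mul_apply, Module.End.mul_apply, ih]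
    rfl

/-- the hypotheses of the theorem pass to an invariant subspace containing a witness -/
theorem sub_hyps {τ : Representation K Q V} {X : Module.End K V} (hN : Nrm τ X)
    (V₁ : Submodule K V) (hV₁ : ∀ (g : Q), ∀ v ∈ V₁, τ g v ∈ V₁) (t : ℕ)
    (hX₁ : ∀ v ∈ V₁, (X ^ t) v ∈ V₁)
    (p n n' : ℕ) (hp : 0 < p) (hn : 1 ≤ n) (hn' : 1 ≤ n') (ht : t * p ^ (n' - 1) = p ^ (n - 1))
    (hX : X ^ p ^ n = 1)
    (u₀ u₀' : Q) (h0 : X ^ p ^ (n - 1) * τ u₀ = τ u₀' * X ^ p ^ (n - 1)) (z : V) (hz : z ∈ V₁)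
    (hzne : τ u₀' z ≠ τ u₀ z) :
    ((X ^ t).restrict hX₁ : Module.End K V₁) ^ p ^ n' = 1 ∧
    (∀ u, ∃ u', ((X ^ t).restrict hX₁ : Module.End K V₁) * FF.restrictRep τ V₁ hV₁ u =
      FF.restrictRep τ V₁ hV₁ u' * ((X ^ t).restrict hX₁ : Module.End K V₁)) ∧
    (∃ u, ((X ^ t).restrict hX₁ : Module.End K V₁) ^ p ^ (n' - 1) * FF.restrictRep τ V₁ hV₁ u ≠
      FF.restrictRep τ V₁ hV₁ u * ((X ^ t).restrict hX₁ : Module.End K V₁) ^ p ^ (n' - 1)) := by
  have htn : t * p ^ n' = p ^ n := by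
    have h1 : p ^ n' = p ^ (n' - 1) * p := by rw [← pow_succ, Nat.sub_add_cancel hn']
    have h2 : p ^ n = p ^ (n - 1) * p := by rw [← pow_succ, Nat.sub_add_cancel hn]
    rw [h1, h2, ← mul_assoc, ht]
  refine ⟨?_, ?_, ?_⟩
  · ext v
    rw [restrict_pow_apply, ← pow_mul, htn, hX]
    rfl
  · intro u
    obtain ⟨u', hu'⟩ := (hN.pow t).fwd u
    refine ⟨u', ?_⟩
    ext v
    have h1 := congrArg (fun e : Module.End K V => e (v : V)) hu'
    exact h1
  · refine ⟨u₀, ?_⟩
    intro h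
    apply hzne
    -- the vector v := X₀^(p-1) z
    have hX₀V₁ : ∀ k : ℕ, ∀ v ∈ V₁, ((X ^ p ^ (n - 1)) ^ k) v ∈ V₁ := by
      intro k v hv
      rw [← ht, pow_mul, ← pow_mul]
      have h1 := restrict_pow_apply (X ^ t) V₁ hX₁ (p ^ (n' - 1) * k) ⟨v, hv⟩
      rw [← h1]
      exact Subtype.property _
    have hX₀p : (X ^ p ^ (n - 1)) ^ p = 1 := by
      rw [← pow_mul, ← pow_succ, Nat.sub_add_cancel hn, hX]
    set v : V := ((X ^ p ^ (n - 1)) ^ (p - 1)) z with hv
    have hvV₁ : v ∈ V₁ := hX₀V₁ _ z hz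
    have hXv : (X ^ p ^ (n - 1)) v = z := by
      rw [hv, ← Module.End.mul_apply, ← pow_succ', Nat.sub_add_cancel hp, hX₀p,
        Module.End.one_apply]
    have h1 := congrArg (fun e : Module.End K V₁ => ((e ⟨v, hvV₁⟩ : V₁) : V)) h
    simp only [Module.End.mul_apply] at h1
    rw [restrict_pow_apply, FF.restrictRep_apply, FF.restrictRep_apply, restrict_pow_apply] at h1
    rw [← pow_mul, ht] at h1
    -- h1 : X₀ (τ u₀ v) = τ u₀ (X₀ v)
    have h2 := congrArg (fun e : Module.End K V => e v) h0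
    simp only [Module.End.mul_apply] at h2
    have h3 : (X ^ p ^ (n - 1)) (τ u₀ v) = τ u₀ ((X ^ p ^ (n - 1)) v) := h1
    rw [h2, hXv] at h3
    exact h3

end Sub


section Core

variable {K : Type*} [Field K] [IsAlgClosed K]

theorem concl_mono {p q n r r' : ℕ} {A : Prop} (h : Concl p q n r A) (hr : r ≤ r') :
    Concl p q n r' A := by
  rcases h with h | ⟨n₀, m', h1, h2, h3, h4, h5, h6⟩
  · exact Or.inl (le_trans h hr)
  · exact Or.inr ⟨n₀, m', h1, h2, h3, h4, h5, le_trans h6 hr⟩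

theorem concl_step {p q n r : ℕ} {A : Prop} (hn : 2 ≤ n) (h : Concl p q (n - 1) (r / p) A) :
    Concl p q n r A := by
  have hr : p * (r / p) ≤ r := Nat.mul_div_le r p
  rcases h with h | ⟨n₀, m', h1, h2, h3, h4, h5, h6⟩
  · left
    have h7 : p ^ n = p * p ^ (n - 1) := by rw [← pow_succ', Nat.sub_add_cancel (by omega)]
    rw [h7]
    exact le_trans (Nat.mul_le_mul_left p h) hr
  · right
    refine ⟨n₀, m', h1, by omega, h3, h4, h5, ?_⟩
    have h7 : n - n₀ = (n - 1 - n₀) + 1 := by omega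
    rw [h7, pow_succ', mul_assoc]
    exact le_trans (Nat.mul_le_mul_left p h6) hr

theorem core (p q : ℕ) [Fact p.Prime] [Fact q.Prime] (hpq : p ≠ q) [CharP K p] :
    ∀ (m : ℕ) (Q : Type u) [Group Q] [Finite Q] (V : Type v) [AddCommGroup V] [Module K V]
      [FiniteDimensional K V] (τ : Representation K Q V) (X : Module.End K V) (n : ℕ),
      Nat.card Q + finrank K V = m → IsPGroup q Q → 1 ≤ n → X ^ p ^ n = 1 →
      (∀ u, ∃ u', X * τ u = τ u' * X) →
      (∃ u, X ^ p ^ (n - 1) * τ u ≠ τ u * X ^ p ^ (n - 1)) →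
      ∀ r, (X - 1) ^ r = 0 → Concl p q n r (∀ a b : Q, a * b = b * a) := by
  intro m
  induction m using Nat.strong_induction_on with
  | _ m ih =>
  intro Q _ _ V _ _ _ τ X n hm hQ hn hX hnorm hact r hr
  have hp : p.Prime := Fact.out
  have hPpos : 0 < p ^ n := pow_pos hp.pos n
  have hN : Nrm τ X := nrm_of_pow_eq_one hnorm (p ^ n) hPpos hX
  have hcard : (Nat.card Q : K) ≠ 0 := by
    obtain ⟨e, he⟩ := IsPGroup.iff_card.mp hQ
    rw [he, Nat.cast_pow]
    apply pow_ne_zero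
    intro h0
    rw [CharP.cast_eq_zero_iff K p q] at h0
    exact hpq ((Nat.prime_dvd_prime_iff_eq Fact.out Fact.out).mp h0)
  have hXinj : Function.Injective X := by
    have h1 : X ^ (p ^ n - 1) * X = 1 := by rw [← pow_succ, Nat.sub_add_cancel hPpos, hX]
    intro a b hab
    have h2 := congrArg (X ^ (p ^ n - 1)) hab
    rw [← Module.End.mul_apply, ← Module.End.mul_apply, h1] at h2
    exact h2
  obtain ⟨u₀, hu₀⟩ := hact
  obtain ⟨u₀', hu₀'⟩ := (hN.pow (p ^ (n - 1))).fwd u₀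
  have hne : τ u₀' ≠ τ u₀ := by
    intro h
    apply hu₀
    rw [hu₀', h]
  obtain ⟨Y, hY, y, hyY, hyne⟩ := exists_irrSub_ne τ hcard (τ u₀') (τ u₀) hne
  have hXY : IrrSub τ (Y.map X) := by
    have h1 := irr_pow hN hPpos hX 1 hY
    rwa [pow_one] at h1
  by_cases hlink : Linked τ (Y.map X) Y
  · -- Case A
    obtain ⟨V', hV'irr, hV'X, hV'ne⟩ := exists_invariant_irr hN hXinj hY hXY hlink
    obtain ⟨z, hzV', hzne⟩ := hV'ne u₀ u₀' ⟨y, hyY, hyne⟩
    by_cases hV'top : V' = ⊤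
    · -- V is irreducible
      have hirr : HB.Irr τ := by
        intro W hW
        have hWinv : Inv τ W := fun g v hv => hW g ⟨v, hv, rfl⟩
        rcases hV'irr.2.2 W (by rw [hV'top]; exact le_top) hWinv with h | h
        · exact Or.inl h
        · exact Or.inr (by rw [h, hV'top])
      by_cases hmin : ∀ Q₁ : Subgroup Q, Q₁ ≠ ⊤ →
          (∀ u ∈ Q₁, ∃ u' ∈ Q₁, X * τ u = τ u' * X) →
          ∀ u ∈ Q₁, X ^ p ^ (n - 1) * τ u = τ u * X ^ p ^ (n - 1)
      · exact endgame p q hpq τ X n hQ hn hX hnorm ⟨u₀, hu₀⟩ hirr hmin r hr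
      · push Not at hmin
        obtain ⟨Q₁, hQ₁top, hQ₁inv, u₁, hu₁Q₁, hu₁⟩ := hmin
        have hlt : Nat.card Q₁ < Nat.card Q :=
          lt_of_le_of_ne (Subgroup.card_le_card_group Q₁)
            (fun h => hQ₁top ((Subgroup.card_eq_iff_eq_top Q₁).mp h))
        have h1 := ih (Nat.card Q₁ + finrank K V) (by omega) Q₁ V (τ.comp Q₁.subtype) X n rfl
          (hQ.to_subgroup Q₁) hn hX
          (fun u => by
            obtain ⟨u', hu'Q₁, hu'⟩ := hQ₁inv u u.2
            exact ⟨⟨u', hu'Q₁⟩, hu'⟩)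
          ⟨⟨u₁, hu₁Q₁⟩, hu₁⟩ r hr
        rcases h1 with h1 | ⟨n₀, m', h2, h3, h4, h5, h6, h7⟩
        · exact Or.inl h1
        · refine Or.inr ⟨n₀, m', h2, h3, h4, h5, ?_, h7⟩
          intro hcomm
          apply h6
          intro a b
          exact Subtype.ext (hcomm a b)
    · -- pass to V'
      have hdim : finrank K V' < finrank K V := Submodule.finrank_lt hV'top
      have hV'X1 : ∀ v ∈ V', (X ^ 1) v ∈ V' := by
        intro v hv; rw [pow_one]; exact hV'X v hv
      obtain ⟨h1, h2, h3⟩ := sub_hyps hN V' hV'irr.2.1 1 hV'X1 p n n hp.pos hn hn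
        (by rw [one_mul]) hX u₀ u₀' hu₀' z hzV' hzne
      refine ih (Nat.card Q + finrank K V') (by omega) Q V' (FF.restrictRep τ V' hV'irr.2.1)
        ((X ^ 1).restrict hV'X1) n rfl hQ hn h1 h2 h3 r ?_
      ext v
      rw [restrict_sub_one_pow_apply, pow_one, hr]
      rfl
  · -- Case B
    set V₁ := Ares X p Y 0 with hV₁
    have hV₁inv : Inv τ V₁ := Ares_inv hN p hY.2.1 0
    have hYV₁ : Y ≤ V₁ := by
      have h1 := le_Ares X p Y 0
      rw [pow_zero, Module.End.one_eq_id, Submodule.map_id, Nat.zero_mod] at h1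
      exact h1
    have hV₁X : ∀ v ∈ V₁, (X ^ p) v ∈ V₁ := by
      intro v hv
      have h1 := Ares_map_pow X p Y 0 p
      rw [zero_add, Nat.mod_self] at h1
      exact h1 ⟨v, hv, rfl⟩
    have hindA := Ares_indep hcard hN p n hn hX hY hlink
    have hind : iSupIndep (fun i : Fin p => V₁.map (X ^ (i : ℕ))) := by
      apply hindA.mono
      intro i
      have h1 := Ares_map_pow X p Y 0 (i : ℕ)
      rw [zero_add, Nat.mod_eq_of_lt i.2] at h1
      exact h1
    have hnil := restrict_nilp p V₁ hV₁X hind r hr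
    have hpr : p ≤ r := by
      by_contra hcon
      push Not at hcon
      apply hY.1
      rw [eq_bot_iff]
      intro v hv
      have h1 := hnil v (hYV₁ hv)
      rw [Nat.div_eq_of_lt hcon, pow_zero, Module.End.one_apply] at h1
      rw [h1]; exact Submodule.zero_mem _
    rcases Nat.lt_or_ge n 2 with hn2 | hn2
    · left
      have : n = 1 := by omega
      rw [this, pow_one]
      exact hpr
    · -- reduce to V₁ with X^p
      apply concl_step hn2
      have hV₁top : V₁ ≠ ⊤ := by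
        intro htop
        have h1 : (1 : ℕ) < p := hp.one_lt
        have h2 := hindA ⟨1, h1⟩
        have h3 : V₁ ≤ ⨆ (j : Fin p) (_ : j ≠ ⟨1, h1⟩), Ares X p Y (j : ℕ) := by
          have h4 : (⟨0, hp.pos⟩ : Fin p) ≠ ⟨1, h1⟩ := by
            intro h; simp [Fin.ext_iff] at h
          exact le_iSup₂ (f := fun (j : Fin p) (_ : j ≠ ⟨1, h1⟩) => Ares X p Y (j : ℕ))
            ⟨0, hp.pos⟩ h4
        have h5 : Y.map X ≤ Ares X p Y 1 := by
          have h6 := le_Ares X p Y 1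
          rw [pow_one, Nat.mod_eq_of_lt h1] at h6
          exact h6
        apply hXY.1
        rw [eq_bot_iff]
        intro v hv
        have h7 : v ∈ ⨆ (j : Fin p) (_ : j ≠ ⟨1, h1⟩), Ares X p Y (j : ℕ) := by
          apply h3
          rw [htop]; trivial
        exact h2.le_bot ⟨h5 hv, h7⟩
      have hdim : finrank K V₁ < finrank K V := Submodule.finrank_lt hV₁top
      obtain ⟨h1, h2, h3⟩ := sub_hyps hN V₁ hV₁inv p hV₁X p n (n - 1) hp.pos hn (by omega)
        (by rw [← pow_succ', show n - 1 - 1 + 1 = n - 1 by omega]) hX u₀ u₀' hu₀' y (hYV₁ hyY) hyne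
      refine ih (Nat.card Q + finrank K V₁) (by omega) Q V₁ (FF.restrictRep τ V₁ hV₁inv)
        ((X ^ p).restrict hV₁X) (n - 1) rfl hQ (by omega) h1 h2 h3 (r / p) ?_
      ext v
      rw [restrict_sub_one_pow_apply]
      exact hnil v v.2

end Core

end Cfsg.Agent.Lib.Helper8.TB
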