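import Mathlib
import Cfsg.Agent.Lib.Helper8.TB8
import Cfsg.Agent.Lib.Helper8.QC1
import Cfsg.Agent.Lib.Helper8.QC2
import Cfsg.Agent.Lib.Helper8.QC3
import Cfsg.Agent.Lib.Helper8.QC4
import Cfsg.Agent.Lib.Helper8.QC5

set_option autoImplicit false

/-! The quadratic commutator lemma: the minimal configuration is contradictory. -/

namespace Cfsg.Agent.Lib.Helper8.QC

open Module Cfsg.Agent.Lib.Helper8.TB Cfsg.Agent.Lib.Helper8
open scoped commutatorElement

universe u v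

section Aux

variable {K : Type*} [Field K] {Q : Type*} [Group Q] {V : Type*} [AddCommGroup V] [Module K V]

/-- an irreducible invariant subspace gives an irreducible restricted representation -/
theorem irr_restrict {τ : Representation K Q V} {Y : Submodule K V} (hY : IrrSub τ Y) :
    HB.Irr (FF.restrictRep τ Y hY.2.1) := by
  intro W hW
  have hle : W.map Y.subtype ≤ Y := by
    rintro _ ⟨w, _, rfl⟩
    exact w.2
  have hinv : Inv τ (W.map Y.subtype) := by
    rintro g _ ⟨w, hw, rfl⟩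
    refine ⟨FF.restrictRep τ Y hY.2.1 g w, ?_, rfl⟩
    exact hW g ⟨w, hw, rfl⟩
  rcases hY.2.2 _ hle hinv with h | h
  · left
    have h4 : W.map Y.subtype = (⊥ : Submodule K Y).map Y.subtype := by
      rw [Submodule.map_bot]; exact h
    exact Submodule.map_injective_of_injective Y.injective_subtype h4
  · right
    have h4 : W.map Y.subtype = (⊤ : Submodule K Y).map Y.subtype := by
      rw [Submodule.map_subtype_top]; exact h
    exact Submodule.map_injective_of_injective Y.injective_subtype h4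

/-- an element acting trivially on an irreducible subspace acts trivially on linked ones -/
theorem trivial_of_linked {τ : Representation K Q V} {Y Z : Submodule K V} (hZ : IrrSub τ Z)
    (hl : Linked τ Z Y) (t : Q) (ht : ∀ y ∈ Y, τ t y = y) : ∀ z ∈ Z, τ t z = z := by
  intro z hz
  by_contra hne
  obtain ⟨y, hy, hyne⟩ := Linked.ne_of_ne hZ hl 1 t ⟨z, hz, by rw [map_one]; exact hne⟩
  rw [map_one] at hyne
  exact hyne (ht y hy)

end Aux

section Main

variable {K : Type*} [Field K] [IsAlgClosed K] {G : Type u} [Group G] [Finite G]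
  {V : Type v} [AddCommGroup V] [Module K V] [FiniteDimensional K V]

theorem qc_min (p q : ℕ) [Fact p.Prime] [Fact q.Prime] (hpq : p ≠ q) (hp2 : p ≠ 2) [CharP K p]
    (ρ : Representation K G V) (hρ : Function.Injective ρ)
    (B : Subgroup G) (hB : IsPGroup p B) (a : G) (haB : a ∈ B) (hacen : ∀ b ∈ B, b * a = a * b)
    (haB' : a ∈ ⁅B, B⁆) (hap : a ^ p = 1)
    (hquad : (ρ a - 1) ^ 2 = 0) (hrel : ∀ b ∈ B, (ρ a - 1) * (ρ b - 1) * (ρ b - 1) = 0)
    (T : Subgroup G) (hT : IsPGroup q T) (hBT : B ≤ Subgroup.normalizer (T : Set G))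
    (hmin : ∀ T₁ : Subgroup G, T₁ ≤ T → T₁ ≠ T → B ≤ Subgroup.normalizer (T₁ : Set G) →
      ∀ t ∈ T₁, t * a = a * t)
    (hact : ∃ t ∈ T, t * a ≠ a * t) : False := by
  classical
  have hp : p.Prime := Fact.out
  have hapow : ∃ e : ℕ, a ^ p ^ e = 1 := ⟨1, by rw [pow_one]; exact hap⟩
  -- Step 1: the centralizer of `a` in `T` is central
  have hkey := centralizer_le_center_of_minimalB p q hpq T hT B a hBT hacen (hBT haB) hapow hmin hact
  -- the representation of `T`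
  obtain ⟨τ, hτdef⟩ : ∃ τ : Representation K ↥T V, τ = ρ.comp T.subtype := ⟨_, rfl⟩
  have hτapp : ∀ t : ↥T, τ t = ρ (t : G) := fun t => by rw [hτdef]; rfl
  have hcard : (Nat.card ↥T : K) ≠ 0 := by
    obtain ⟨e, he⟩ := IsPGroup.iff_card.mp hT
    rw [he, Nat.cast_pow]
    apply pow_ne_zero
    intro h0
    rw [CharP.cast_eq_zero_iff K p q] at h0
    exact hpq ((Nat.prime_dvd_prime_iff_eq Fact.out Fact.out).mp h0)
  have hconjT : ∀ b ∈ B, ∀ t ∈ T, b * t * b⁻¹ ∈ T := by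
    intro b hb t ht
    exact (Subgroup.mem_normalizer_iff.mp (hBT hb) t).mp ht
  have hconjT' : ∀ b ∈ B, ∀ t ∈ T, b⁻¹ * t * b ∈ T := by
    intro b hb t ht
    have := hconjT b⁻¹ (B.inv_mem hb) t ht
    rwa [inv_inv] at this
  have hNb : ∀ b ∈ B, Nrm τ (ρ b) := by
    intro b hb
    constructor
    · intro u
      refine ⟨⟨b * u * b⁻¹, hconjT b hb u u.2⟩, ?_⟩
      rw [hτapp, hτapp, ← map_mul, ← map_mul]
      congr 1
      show b * (u : G) = b * u * b⁻¹ * b
      group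
    · intro u
      refine ⟨⟨b⁻¹ * u * b, hconjT' b hb u u.2⟩, ?_⟩
      rw [hτapp, hτapp, ← map_mul, ← map_mul]
      congr 1
      show (u : G) * b = b * (b⁻¹ * u * b)
      group
  have hXpow : ∀ b ∈ B, ∃ n : ℕ, 1 ≤ n ∧ ρ b ^ p ^ n = 1 := by
    intro b hb
    obtain ⟨e, he⟩ := hB ⟨b, hb⟩
    have he' : b ^ p ^ e = 1 := by
      have := congrArg Subtype.val he
      simpa using this
    refine ⟨e + 1, by omega, ?_⟩
    rw [← map_pow, pow_succ, pow_mul, he', one_pow, map_one]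
  have hXa : ρ a ^ p ^ 1 = 1 := by rw [pow_one, ← map_pow, hap, map_one]
  have hNa := hNb a haB
  -- the witness
  obtain ⟨u₀, hu₀T, hu₀⟩ := hact
  have hu₀'T : a * u₀ * a⁻¹ ∈ T := hconjT a haB u₀ hu₀T
  have hne : τ ⟨a * u₀ * a⁻¹, hu₀'T⟩ ≠ τ ⟨u₀, hu₀T⟩ := by
    intro h
    rw [hτapp, hτapp] at h
    have h1 : a * u₀ * a⁻¹ = u₀ := hρ h
    apply hu₀
    calc u₀ * a = (a * u₀ * a⁻¹) * a := by rw [h1]
      _ = a * u₀ := by group
  obtain ⟨Y₀, hY₀, y₀, hy₀Y, hy₀ne⟩ := exists_irrSub_ne τ hcard _ _ hne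
  -- Step 3: `a` fixes the class of `Y₀`; pass to an `a`-invariant irreducible constituent
  have hlink₀ : Linked τ (Y₀.map (ρ a)) Y₀ :=
    linked_of_quadratic hcard hNa p 1 hp2 le_rfl hXa hquad hY₀
  have hXainj : Function.Injective (ρ a) := by
    intro x y hxy
    have h2 := congrArg (ρ a⁻¹) hxy
    rw [← Module.End.mul_apply, ← Module.End.mul_apply, HB.rep_inv_mul] at h2
    exact h2
  have hXY₀ : IrrSub τ (Y₀.map (ρ a)) := by
    have h1 := irr_pow hNa (pow_pos hp.pos 1) hXa 1 hY₀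
    rwa [pow_one] at h1
  obtain ⟨Y, hY, hYa, hYne⟩ := exists_invariant_irr hNa hXainj hY₀ hXY₀ hlink₀
  obtain ⟨z, hzY, hzne⟩ := hYne ⟨u₀, hu₀T⟩ ⟨a * u₀ * a⁻¹, hu₀'T⟩ ⟨y₀, hy₀Y, hy₀ne⟩
  have hYa1 : ∀ v ∈ Y, (ρ a ^ 1) v ∈ Y := by
    intro v hv; rw [pow_one]; exact hYa v hv
  have hYainv : ∀ v ∈ Y, ρ a⁻¹ v ∈ Y := by
    intro v hv
    have h1 : a⁻¹ = a ^ (p - 1) := by
      rw [inv_eq_iff_mul_eq_one, ← pow_succ', Nat.sub_add_cancel hp.pos, hap]
    rw [h1, map_pow]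
    have h2 : ∀ k : ℕ, ∀ v ∈ Y, (ρ a ^ k) v ∈ Y := by
      intro k
      induction k with
      | zero => intro v hv; rw [pow_zero]; exact hv
      | succ k ih => intro v hv; rw [pow_succ, Module.End.mul_apply]; exact ih _ (hYa v hv)
    exact h2 _ v hv
  have hmulinv : ∀ g : G, ∀ v : V, ρ g (ρ g⁻¹ v) = v := by
    intro g v
    rw [← Module.End.mul_apply, HB.rep_mul_inv, Module.End.one_apply]
  have hinvmul : ∀ g : G, ∀ v : V, ρ g⁻¹ (ρ g v) = v := by
    intro g v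
    rw [← Module.End.mul_apply, HB.rep_inv_mul, Module.End.one_apply]
  -- Step 6: every element of `B` fixes the class of `Y`
  have hlinkB : ∀ b ∈ B, Linked τ (Y.map (ρ b)) Y := by
    intro b hb
    by_contra h1
    obtain ⟨n, hn, hXn⟩ := hXpow b hb
    have hαX : (ρ a - 1) * ρ b = ρ b * (ρ a - 1) := by
      rw [sub_mul, mul_sub, one_mul, mul_one, ← map_mul, ← map_mul, hacen b hb]
    have hαY : ∀ y ∈ Y, (ρ a - 1) y ∈ Y := by
      intro y hy
      rw [LinearMap.sub_apply, Module.End.one_apply]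
      exact Y.sub_mem (hYa y hy) hy
    have hkill := kills_of_rel hcard (hNb b hb) p n hp2 hn hXn hY h1 (ρ a - 1) hαX hαY (hrel b hb)
    have hfix : ∀ y ∈ Y, ρ a y = y := by
      intro y hy
      have := hkill y hy
      rw [LinearMap.sub_apply, Module.End.one_apply, sub_eq_zero] at this
      exact this
    apply hzne
    rw [hτapp, hτapp]
    show ρ (a * u₀ * a⁻¹) z = ρ u₀ z
    rw [map_mul, map_mul, Module.End.mul_apply, Module.End.mul_apply]
    have h2 : ρ a⁻¹ z = z := by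
      have h3 := hfix z hzY
      calc ρ a⁻¹ z = ρ a⁻¹ (ρ a z) := by rw [h3]
        _ = z := hinvmul a z
    rw [h2]
    have h4 : ρ u₀ z ∈ Y := by
      have := hY.2.1 ⟨u₀, hu₀T⟩ z hzY
      rwa [hτapp] at this
    exact hfix _ h4
  -- Step 7: the kernel of `T` on `Y`
  let NY : Subgroup G :=
    { carrier := {t | t ∈ T ∧ ∀ y ∈ Y, ρ t y = y}
      one_mem' := ⟨T.one_mem, fun y _ => by rw [map_one, Module.End.one_apply]⟩
      mul_mem' := by
        rintro s t ⟨hs, hs'⟩ ⟨ht, ht'⟩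
        refine ⟨T.mul_mem hs ht, fun y hy => ?_⟩
        rw [map_mul, Module.End.mul_apply, ht' y hy, hs' y hy]
      inv_mem' := by
        rintro t ⟨ht, ht'⟩
        refine ⟨T.inv_mem ht, fun y hy => ?_⟩
        calc ρ t⁻¹ y = ρ t⁻¹ (ρ t y) := by rw [ht' y hy]
          _ = y := hinvmul t y }
  have hmemNY : ∀ t, t ∈ NY ↔ t ∈ T ∧ ∀ y ∈ Y, ρ t y = y := fun t => Iff.rfl
  have hNYT : NY ≤ T := fun t ht => ht.1
  have hNYne : NY ≠ T := by
    intro h
    have h1 : u₀ ∈ NY := by rw [h]; exact hu₀T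
    have h2 : a * u₀ * a⁻¹ ∈ NY := by rw [h]; exact hu₀'T
    apply hzne
    rw [hτapp, hτapp]
    show ρ (a * u₀ * a⁻¹) z = ρ u₀ z
    rw [h1.2 z hzY, h2.2 z hzY]
  have hNYB1 : ∀ b ∈ B, ∀ t ∈ NY, b * t * b⁻¹ ∈ NY := by
    intro b hb t ht
    refine ⟨hconjT b hb t ht.1, ?_⟩
    intro y hy
    have hbi : b⁻¹ ∈ B := B.inv_mem hb
    have hZ : IrrSub τ (Y.map (ρ b⁻¹)) := by
      apply hY.mapX (hNb b⁻¹ hbi) (hNb b hb)
      · exact HB.rep_inv_mul ρ b
      · exact HB.rep_mul_inv ρ b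
    have htriv := trivial_of_linked hZ (hlinkB b⁻¹ hbi) ⟨t, ht.1⟩
      (fun y hy => by rw [hτapp]; exact ht.2 y hy)
    have h1 := htriv (ρ b⁻¹ y) ⟨y, hy, rfl⟩
    rw [hτapp] at h1
    rw [map_mul, map_mul, Module.End.mul_apply, Module.End.mul_apply]
    show ρ b (ρ t (ρ b⁻¹ y)) = y
    rw [h1]
    exact hmulinv b y
  have hNYB : B ≤ Subgroup.normalizer (NY : Set G) := by
    intro b hb
    rw [Subgroup.mem_normalizer_iff]
    intro t
    constructor
    · exact hNYB1 b hb t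
    · intro h
      have h1 := hNYB1 b⁻¹ (B.inv_mem hb) _ h
      have h2 : b⁻¹ * (b * t * b⁻¹) * b⁻¹⁻¹ = t := by group
      rwa [h2] at h1
  have hNYa : ∀ t ∈ NY, t * a = a * t := hmin NY hNYT hNYne hNYB
  -- (★) commuting with `a` on `Y` implies commuting with `a`
  have hstar : ∀ u ∈ T, (∀ y ∈ Y, ρ u (ρ a y) = ρ a (ρ u y)) → u * a = a * u := by
    intro u hu hcomm
    have huY : ∀ g ∈ T, ∀ y ∈ Y, ρ g y ∈ Y := by
      intro g hg y hy
      have := hY.2.1 ⟨g, hg⟩ y hy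
      rwa [hτapp] at this
    have hw'T : (a⁻¹ * u * a) * u⁻¹ ∈ T := by
      have h1 := hconjT' a haB u hu
      exact T.mul_mem h1 (T.inv_mem hu)
    have hw' : (a⁻¹ * u * a) * u⁻¹ ∈ NY := by
      refine ⟨hw'T, ?_⟩
      intro y hy
      have hy' : ρ u⁻¹ y ∈ Y := huY _ (T.inv_mem hu) y hy
      rw [map_mul, map_mul, map_mul, Module.End.mul_apply, Module.End.mul_apply,
        Module.End.mul_apply]
      show ρ a⁻¹ (ρ u (ρ a (ρ u⁻¹ y))) = y
      rw [hcomm _ hy', hinvmul, hmulinv]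
    have h1 := hNYa _ hw'
    have hz : a⁻¹ * ((a⁻¹ * u * a) * u⁻¹) = ((a⁻¹ * u * a) * u⁻¹) * a⁻¹ := by
      have h2 : Commute ((a⁻¹ * u * a) * u⁻¹) a := h1
      exact (h2.inv_right).eq.symm
    have hconj : a⁻¹ * u * a⁻¹⁻¹ = ((a⁻¹ * u * a) * u⁻¹) * u := by group
    have hh : ∃ e : ℕ, a⁻¹ ^ p ^ e = 1 := ⟨1, by rw [pow_one, inv_pow, hap, inv_one]⟩
    have hzq : ∃ e : ℕ, ((a⁻¹ * u * a) * u⁻¹) ^ q ^ e = 1 := by
      obtain ⟨e, he⟩ := hT ⟨_, hw'T⟩
      exact ⟨e, by simpa using congrArg Subtype.val he⟩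
    have h3 := comm_of_conj_eq_mul p q hpq a⁻¹ u _ hz hconj hh hzq
    have h4 : Commute a⁻¹ u := h3
    have h5 : Commute a u := by
      have := h4.inv_left
      rwa [inv_inv] at this
    exact h5.eq.symm
  -- Step 8: the restricted configuration
  have hu₀' : ρ a ^ p ^ (1 - 1) * τ ⟨u₀, hu₀T⟩ = τ ⟨a * u₀ * a⁻¹, hu₀'T⟩ * ρ a ^ p ^ (1 - 1) := by
    rw [Nat.sub_self, pow_zero, pow_one, hτapp, hτapp, ← map_mul, ← map_mul]
    congr 1
    show a * u₀ = a * u₀ * a⁻¹ * a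
    group
  obtain ⟨h1, h2, h3⟩ := sub_hyps hNa Y hY.2.1 1 hYa1 p 1 1 hp.pos le_rfl le_rfl
    (by rw [one_mul]) hXa ⟨u₀, hu₀T⟩ ⟨a * u₀ * a⁻¹, hu₀'T⟩ hu₀' z hzY hzne
  obtain ⟨τY, hτYdef⟩ : ∃ τY : Representation K ↥T ↥Y, τY = FF.restrictRep τ Y hY.2.1 := ⟨_, rfl⟩
  obtain ⟨XY, hXYdef⟩ : ∃ XY : Module.End K ↥Y, XY = (ρ a ^ 1).restrict hYa1 := ⟨_, rfl⟩
  rw [← hXYdef] at h1
  rw [← hτYdef, ← hXYdef] at h2 h3
  have hτYapp : ∀ (t : ↥T) (y : ↥Y), ((τY t y : ↥Y) : V) = ρ (t : G) (y : V) := by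
    intro t y
    rw [hτYdef]
    show τ t (y : V) = ρ (t : G) (y : V)
    rw [hτapp]
  have hXYapp : ∀ y : ↥Y, ((XY y : ↥Y) : V) = ρ a (y : V) := by
    intro y
    rw [hXYdef]
    show (ρ a ^ 1) (y : V) = ρ a (y : V)
    rw [pow_one]
  have hirrY : HB.Irr τY := by rw [hτYdef]; exact irr_restrict hY
  have hcomm_of : ∀ u : ↥T, τY u * XY = XY * τY u → (u : G) * a = a * u := by
    intro u hcomm
    apply hstar u u.2
    intro y hy
    have h4 := congrArg (fun e : Module.End K ↥Y => ((e ⟨y, hy⟩ : ↥Y) : V)) hcomm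
    simp only [Module.End.mul_apply] at h4
    rw [hτYapp, hXYapp, hXYapp, hτYapp] at h4
    exact h4
  have hcenY : ∀ u : ↥T, τY u * XY ^ p ^ (1 - 1) = XY ^ p ^ (1 - 1) * τY u →
      ∀ v : ↥T, τY u * τY v = τY v * τY u := by
    intro u hcomm v
    rw [Nat.sub_self, pow_zero, pow_one] at hcomm
    have h4 := hcomm_of u hcomm
    have h5 := hkey u u.2 h4 v v.2
    rw [← map_mul, ← map_mul]
    congr 1
    exact Subtype.ext h5
  have hr2 : (XY - 1) ^ 2 = 0 := by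
    ext y
    rw [hXYdef, restrict_sub_one_pow_apply, pow_one, hquad]
    rfl
  have hdim := endgame_dim p q hpq τY XY 1 hT le_rfl h1 h2 h3 hirrY hcenY 2 hr2
  have hp3 : p = 3 ∧ finrank K ↥Y = 2 := by
    have hp2' := hp.two_le
    rcases hdim with h | ⟨h4, h5⟩
    · rw [pow_one] at h
      omega
    · rw [pow_one] at h4 h5
      constructor <;> omega
  obtain ⟨hp3, hfr⟩ := hp3
  haveI : Nontrivial ↥Y := by
    apply Module.nontrivial_of_finrank_pos (R := K)
    rw [hfr]; norm_num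
  -- Step 9: commutators act by scalars
  have hT'le : ⁅T, T⁆ ≤ T := Subgroup.commutator_le_self T
  have hT'ne : ⁅T, T⁆ ≠ T := by
    intro h
    haveI : Nontrivial ↥T := ⟨⟨⟨u₀, hu₀T⟩, 1, fun h1 => hu₀ (by
      have h2 : u₀ = 1 := congrArg Subtype.val h1
      rw [h2, one_mul, mul_one])⟩⟩
    haveI : Group.IsNilpotent ↥T := hT.isNilpotent
    have h1 := Group.IsSolvable.commutator_lt_top_of_nontrivial ↥T
    have h2 : (commutator ↥T).map T.subtype = ⁅T, T⁆ := by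
      rw [commutator_def, Subgroup.map_commutator, ← MonoidHom.range_eq_map, Subgroup.range_subtype]
    rw [h] at h2
    have h3 : commutator ↥T = ⊤ := by
      rw [eq_top_iff]
      intro t _
      have h4 : (t : G) ∈ (commutator ↥T).map T.subtype := by rw [h2]; exact t.2
      obtain ⟨t', ht', htt'⟩ := h4
      have : t' = t := Subtype.ext htt'
      rwa [this] at ht'
    exact h1.ne h3
  have hT'B : B ≤ Subgroup.normalizer ((⁅T, T⁆ : Subgroup G) : Set G) := by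
    intro b hb
    have h1 : ∀ b ∈ B, ∀ t ∈ ⁅T, T⁆, b * t * b⁻¹ ∈ ⁅T, T⁆ := by
      intro b hb t ht
      have h2 : (⁅T, T⁆ : Subgroup G).map (MulAut.conj b).toMonoidHom ≤ ⁅T, T⁆ := by
        rw [Subgroup.map_commutator]
        have h3 : T.map (MulAut.conj b).toMonoidHom ≤ T := by
          rintro _ ⟨s, hs, rfl⟩
          exact hconjT b hb s hs
        exact Subgroup.commutator_mono h3 h3
      exact h2 ⟨t, ht, rfl⟩
    rw [Subgroup.mem_normalizer_iff]
    intro t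
    constructor
    · exact h1 b hb t
    · intro h
      have h2 := h1 b⁻¹ (B.inv_mem hb) _ h
      have h3 : b⁻¹ * (b * t * b⁻¹) * b⁻¹⁻¹ = t := by group
      rwa [h3] at h2
  have hT'a : ∀ t ∈ ⁅T, T⁆, t * a = a * t := hmin _ hT'le hT'ne hT'B
  have hcl : ∀ u v : ↥T, ∃ c : K, τY u * τY v = c • (τY v * τY u) := by
    intro u v
    have hw : ⁅(u : G), (v : G)⁆ ∈ ⁅T, T⁆ := Subgroup.commutator_mem_commutator u.2 v.2
    have hwT : ⁅(u : G), (v : G)⁆ ∈ T := hT'le hw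
    have hwcen := hkey _ hwT (hT'a _ hw)
    have hcomm : ∀ g : ↥T, τY ⟨⁅(u : G), (v : G)⁆, hwT⟩ * τY g = τY g * τY ⟨⁅(u : G), (v : G)⁆, hwT⟩ := by
      intro g
      rw [← map_mul, ← map_mul]
      congr 1
      exact Subtype.ext (hwcen g g.2)
    obtain ⟨c, hc⟩ := HB.schur τY hirrY _ hcomm
    refine ⟨c, ?_⟩
    have h4 : u * v = ⟨⁅(u : G), (v : G)⁆, hwT⟩ * (v * u) := by
      apply Subtype.ext
      show (u : G) * v = ⁅(u : G), (v : G)⁆ * (v * u)
      rw [commutatorElement_def]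
      group
    rw [← map_mul, h4, map_mul, hc, map_mul, Algebra.algebraMap_eq_smul_one, smul_mul_assoc,
      one_mul]
  -- Step 10: the centralizer of `a` in `T` has index at most four
  obtain ⟨C, hCdef⟩ : ∃ C : Subgroup G, C = T ⊓ Subgroup.centralizer ({a} : Set G) := ⟨_, rfl⟩
  have hmemC : ∀ t, t ∈ C ↔ t ∈ T ∧ t * a = a * t := by
    intro t
    rw [hCdef, Subgroup.mem_inf, Subgroup.mem_centralizer_iff]
    constructor
    · rintro ⟨h4, h5⟩
      exact ⟨h4, (h5 a rfl).symm⟩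
    · rintro ⟨h4, h5⟩
      refine ⟨h4, ?_⟩
      intro h hh
      rw [Set.mem_singleton_iff] at hh
      rw [hh]; exact h5.symm
  have hCB : ∀ b ∈ B, ∀ c ∈ C, b * c * b⁻¹ ∈ C := by
    intro b hb c hc
    obtain ⟨hcT, hca⟩ := (hmemC c).mp hc
    rw [hmemC]
    refine ⟨hconjT b hb c hcT, ?_⟩
    have hba := hacen b hb
    have hbia : b⁻¹ * a = a * b⁻¹ := by
      have h4 : Commute b a := hba
      exact h4.inv_left.eq
    calc b * c * b⁻¹ * a = b * c * (b⁻¹ * a) := by group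
      _ = b * c * (a * b⁻¹) := by rw [hbia]
      _ = b * (c * a) * b⁻¹ := by group
      _ = b * (a * c) * b⁻¹ := by rw [hca]
      _ = (b * a) * c * b⁻¹ := by group
      _ = (a * b) * c * b⁻¹ := by rw [hba]
      _ = a * (b * c * b⁻¹) := by group
  haveI : Finite (↥T ⧸ C.subgroupOf T) := Quotient.finite _
  haveI : Fintype (↥T ⧸ C.subgroupOf T) := Fintype.ofFinite _
  have hcardC : Nat.card (↥T ⧸ C.subgroupOf T) ≤ 4 := by
    have hf : ∀ i j : ↥T ⧸ C.subgroupOf T, i ≠ j → ¬ ∃ c : K,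
        τY ((Quotient.out i : ↥T)⁻¹ * (Quotient.out j : ↥T)) = c • (1 : Module.End K ↥Y) := by
      rintro i j hij ⟨c, hc⟩
      apply hij
      have h5 : ((Quotient.out i : ↥T)⁻¹ * (Quotient.out j : ↥T) : ↥T) ∈ C.subgroupOf T := by
        rw [Subgroup.mem_subgroupOf, hmemC]
        refine ⟨Subtype.property _, ?_⟩
        apply hcomm_of
        rw [hc, smul_mul_assoc, mul_smul_comm, one_mul, mul_one]
      have h6 : (QuotientGroup.mk (Quotient.out i : ↥T) : ↥T ⧸ C.subgroupOf T) =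
          QuotientGroup.mk (Quotient.out j : ↥T) := QuotientGroup.eq.mpr h5
      rw [QuotientGroup.out_eq', QuotientGroup.out_eq'] at h6
      exact h6
    have h4 := card_le_of_cosets τY hirrY hcl
      (fun x : ↥T ⧸ C.subgroupOf T => (Quotient.out x : ↥T)) hf
    rw [hfr] at h4
    rw [Nat.card_eq_fintype_card]
    exact h4
  -- Step 11: the commutator subgroup of `B` acts trivially on the cosets
  subst hp3
  have hfin := commutator_acts_trivially T B hBT hB C hCB hcardC a haB' u₀ hu₀T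
  obtain ⟨hwT, hwa⟩ := (hmemC _).mp hfin
  apply hu₀
  have hconj : a * u₀⁻¹ * a⁻¹ = ((a * u₀ * a⁻¹)⁻¹ * u₀) * u₀⁻¹ := by group
  have hzq : ∃ e : ℕ, ((a * u₀ * a⁻¹)⁻¹ * u₀) ^ q ^ e = 1 := by
    obtain ⟨e, he⟩ := hT ⟨_, hwT⟩
    exact ⟨e, by simpa using congrArg Subtype.val he⟩
  have h5 := comm_of_conj_eq_mul 3 q hpq a u₀⁻¹ _ hwa.symm hconj hapow hzq
  have h6 : Commute a u₀⁻¹ := h5
  have h7 : Commute a u₀ := by
    have := h6.inv_right
    rwa [inv_inv] at this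
  exact h7.eq.symm

/-- the quadratic commutator lemma -/
theorem qc (p q : ℕ) [Fact p.Prime] [Fact q.Prime] (hpq : p ≠ q) (hp2 : p ≠ 2) [CharP K p]
    (ρ : Representation K G V) (hρ : Function.Injective ρ)
    (B : Subgroup G) (hB : IsPGroup p B) (a : G) (haB : a ∈ B) (hacen : ∀ b ∈ B, b * a = a * b)
    (haB' : a ∈ ⁅B, B⁆) (hap : a ^ p = 1)
    (hquad : (ρ a - 1) ^ 2 = 0) (hrel : ∀ b ∈ B, (ρ a - 1) * (ρ b - 1) * (ρ b - 1) = 0) :
    ∀ (T : Subgroup G), IsPGroup q T → B ≤ Subgroup.normalizer (T : Set G) →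
      ∀ t ∈ T, t * a = a * t := by
  have key : ∀ (m : ℕ) (T : Subgroup G), Nat.card T = m → IsPGroup q T →
      B ≤ Subgroup.normalizer (T : Set G) → ∀ t ∈ T, t * a = a * t := by
    intro m
    induction m using Nat.strong_induction_on with
    | _ m ih =>
    intro T hm hT hBT
    by_contra hcon
    push Not at hcon
    apply qc_min p q hpq hp2 ρ hρ B hB a haB hacen haB' hap hquad hrel T hT hBT ?_ hcon
    intro T₁ hle hne hBT₁
    have hlt : Nat.card T₁ < Nat.card T := by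
      apply lt_of_le_of_ne (Subgroup.card_le_of_le hle)
      intro h
      apply hne
      have h1 : T₁.subgroupOf T = ⊤ := by
        apply (Subgroup.card_eq_iff_eq_top _).mp
        rw [Nat.card_congr (Subgroup.subgroupOfEquivOfLe hle).toEquiv, h]
      rw [Subgroup.subgroupOf_eq_top] at h1
      exact le_antisymm hle h1
    exact ih (Nat.card T₁) (by omega) T₁ rfl (hT.to_le hle) hBT₁
  intro T
  exact key (Nat.card T) T rfl

end Main

end Cfsg.Agent.Lib.Helper8.QC
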