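import Mathlib
import Cfsg.Agent.Lib.Helper8.TB8
import Cfsg.Agent.Lib.Helper8.TB9
import Cfsg.Agent.Lib.Lead.CoprimeSylow3

set_option autoImplicit false
open Pointwise

/-! Hall–Higman Theorem B over an algebraically closed field, for an abstract finite group with a
faithful representation. -/

namespace Cfsg.Agent.Lib.Helper8.TB

open Cfsg Module

universe u v

/-- if `x₀` centralises a Sylow `q`-subgroup of `R` for every prime `q`, it centralises `R`. -/
theorem centralizes_of_sylows {G : Type u} [Group G] [Finite G] (R : Subgroup G) (x₀ : G)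
    (h : ∀ q : ℕ, q.Prime → ∃ S : Subgroup G, S ≤ R ∧ Nat.card S = q ^ (Nat.card R).factorization q ∧
      ∀ u ∈ S, u * x₀ = x₀ * u) :
    ∀ u ∈ R, u * x₀ = x₀ * u := by
  classical
  obtain ⟨C, hCdef⟩ : ∃ C : Subgroup G, C = R ⊓ Subgroup.centralizer {x₀} := ⟨_, rfl⟩
  have hCR : C ≤ R := by rw [hCdef]; exact inf_le_left
  have hdvd : Nat.card R ∣ Nat.card C := by
    rw [Nat.dvd_iff_prime_pow_dvd_dvd]
    intro q k hq hk
    obtain ⟨S, hSR, hScard, hS⟩ := h q hq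
    have hSC : S ≤ C := by
      intro u hu
      rw [hCdef, Subgroup.mem_inf, Subgroup.mem_centralizer_singleton_iff]
      exact ⟨hSR hu, hS u hu⟩
    have h1 : Nat.card S ∣ Nat.card C := Subgroup.card_dvd_of_le hSC
    have h2 : q ^ k ∣ q ^ (Nat.card R).factorization q := by
      apply pow_dvd_pow
      exact (hq.pow_dvd_iff_le_factorization Nat.card_pos.ne').mp hk
    rw [← hScard] at h2
    exact dvd_trans h2 h1
  have hle : Nat.card R ≤ Nat.card C := Nat.le_of_dvd Nat.card_pos hdvd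
  have hRC : C = R := Subgroup.eq_of_le_of_card_ge hCR hle
  intro u hu
  rw [← hRC, hCdef, Subgroup.mem_inf, Subgroup.mem_centralizer_singleton_iff] at hu
  exact hu.2


/-- a `q`-subgroup that is nonabelian forces every Sylow `q`-subgroup to be nonabelian. -/
theorem sylow_not_comm_of_subgroup {G : Type u} [Group G] [Finite G] (q : ℕ) [Fact q.Prime]
    (Qs : Subgroup G) (hQ : IsPGroup q Qs) (hnc : ¬ ∀ a b : Qs, a * b = b * a) :
    ∀ S : Sylow q G, ¬ IsMulCommutative S := by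
  intro S hS
  apply hnc
  obtain ⟨S', hS'⟩ := hQ.exists_le_sylow
  obtain ⟨g, hg⟩ := MulAction.exists_smul_eq G S S'
  have hmem : ∀ a ∈ Qs, g⁻¹ * a * g ∈ (S : Subgroup G) := by
    intro a ha
    have h1 : a ∈ (S' : Subgroup G) := hS' ha
    rw [← hg, Sylow.coe_subgroup_smul, Subgroup.mem_pointwise_smul_iff_inv_smul_mem] at h1
    simpa [MulAut.smul_def, MulAut.conj_apply] using h1
  intro a b
  have h1 := setLike_mul_comm (s := (S : Subgroup G)) (hmem a a.2) (hmem b b.2)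
  apply Subtype.ext
  rw [Subgroup.coe_mul, Subgroup.coe_mul]
  have h2 : g⁻¹ * (↑a * ↑b) * g = g⁻¹ * (↑b * ↑a) * g := by
    calc g⁻¹ * ((a : G) * ↑b) * g = (g⁻¹ * ↑a * g) * (g⁻¹ * ↑b * g) := by group
      _ = (g⁻¹ * ↑b * g) * (g⁻¹ * ↑a * g) := h1
      _ = g⁻¹ * ((b : G) * ↑a) * g := by group
  exact mul_left_cancel (mul_right_cancel h2)


theorem main_algClosed {K : Type*} [Field K] [IsAlgClosed K] (p : ℕ) [Fact p.Prime] [CharP K p]
    {G : Type u} [Group G] [Finite G] (hG : Cfsg.IsPSolvable p G) (hred : Cfsg.pCore p G = ⊥)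
    {V : Type v} [AddCommGroup V] [Module K V] [FiniteDimensional K V] [Nontrivial V]
    (ρ : Representation K G V) (hρ : Function.Injective ρ) (x : G) (n : ℕ)
    (hx : orderOf x = p ^ n) (r : ℕ) (hr : (ρ x - 1) ^ r = 0) :
    p ^ n ≤ r ∨ ∃ n₀ q m' : ℕ, 1 ≤ n₀ ∧ n₀ ≤ n ∧ q.Prime ∧ 1 ≤ m' ∧ p ^ n₀ - 1 = q ^ m' ∧
      (∀ S : Sylow q G, ¬ IsMulCommutative S) ∧ p ^ (n - n₀) * (p ^ n₀ - 1) ≤ r := by
  classical
  have hp : p.Prime := Fact.out
  rcases Nat.eq_zero_or_pos n with hn0 | hn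
  · left
    subst hn0
    rw [pow_zero]
    rcases Nat.eq_zero_or_pos r with hr0 | hr1
    · exfalso
      subst hr0
      rw [pow_zero] at hr
      exact one_ne_zero hr
    · exact hr1
  -- the element of order `p`
  obtain ⟨x₀, hx₀def⟩ : ∃ x₀ : G, x₀ = x ^ p ^ (n - 1) := ⟨_, rfl⟩
  have hx₀ord : orderOf x₀ = p := by
    rw [hx₀def, orderOf_pow' x (pow_ne_zero _ hp.ne_zero), hx]
    rw [Nat.gcd_eq_right (pow_dvd_pow p (Nat.sub_le n 1))]
    have : p ^ n = p ^ (n - 1) * p := by rw [← pow_succ, Nat.sub_add_cancel hn]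
    rw [this, Nat.mul_div_cancel_left _ (pow_pos hp.pos _)]
  have hx₀ne : x₀ ≠ 1 := by
    intro h
    rw [h, orderOf_one] at hx₀ord
    exact hp.one_lt.ne hx₀ord
  obtain ⟨R, hRdef⟩ : ∃ R : Subgroup G, R = Cfsg.pPrimeCore p G := ⟨_, rfl⟩
  have hRn : R.Normal := by rw [hRdef]; exact (Cfsg.Agent.Lib.Helper6.pPrimeCore_mem_set p).1
  have hRc : (Nat.card R).Coprime p := by
    rw [hRdef]; exact Cfsg.Agent.Lib.Helper6.pPrimeCore_coprime p
  have hx₀R : ¬ ∀ u ∈ R, u * x₀ = x₀ * u := by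
    intro hall
    have h1 : x₀ ∈ Subgroup.centralizer (R : Set G) := by
      rw [Subgroup.mem_centralizer_iff]
      intro u hu
      exact hall u hu
    have h2 : x₀ ∈ R := by
      rw [hRdef] at h1 ⊢
      exact centralizer_pPrimeCore_le_of_isPSolvable hG hred h1
    exact hx₀ne (Cfsg.Agent.Lib.Helper6.eq_one_of_pElement_of_coprime_card hRc h2
      ⟨1, by rw [hx₀ord, pow_one]⟩)
  -- the cyclic group `A = ⟨x⟩`
  obtain ⟨A, hAdef⟩ : ∃ A : Subgroup G, A = Subgroup.zpowers x := ⟨_, rfl⟩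
  have hAcard : Nat.card A = p ^ n := by rw [hAdef, Nat.card_zpowers, hx]
  have hAR : A ≤ Subgroup.normalizer (R : Set G) := by
    rw [Subgroup.normalizer_eq_top]; exact le_top
  have hcop : (Nat.card A).Coprime (Nat.card R) := by
    rw [hAcard]
    exact Nat.Coprime.pow_left n hRc.symm
  have hAsolv : Group.IsSolvable A := by
    rw [hAdef]
    apply Group.isSolvable_of_comm
    intro a b
    obtain ⟨i, hi⟩ := Subgroup.mem_zpowers_iff.mp a.2
    obtain ⟨j, hj⟩ := Subgroup.mem_zpowers_iff.mp b.2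
    apply Subtype.ext
    rw [Subgroup.coe_mul, Subgroup.coe_mul, ← hi, ← hj, ← zpow_add, ← zpow_add, add_comm]
  -- find the prime `q`
  have hex : ∃ q : ℕ, ∃ _ : Fact q.Prime, ∃ S : Sylow q R,
      A ≤ Subgroup.normalizer (((S : Subgroup R).map R.subtype : Subgroup G) : Set G) ∧
      ∃ u ∈ (S : Subgroup R).map R.subtype, u * x₀ ≠ x₀ * u := by
    by_contra hcon
    apply hx₀R
    apply centralizes_of_sylows R x₀
    intro q hq
    have : Fact q.Prime := ⟨hq⟩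
    obtain ⟨S, hS⟩ := Cfsg.Agent.Lib.Lead.coprime_invariant_sylow_exists A R hAR hcop
      (Or.inl hAsolv) q
    refine ⟨(S : Subgroup R).map R.subtype, Subgroup.map_subtype_le _,
      (Cfsg.Agent.Lib.Lead.sylow_card_facts R q S).1, ?_⟩
    intro u hu
    by_contra hne
    exact hcon ⟨q, ⟨hq⟩, S, hS, u, hu, hne⟩
  obtain ⟨q, hqF, S, hSA, u₀, hu₀S, hu₀⟩ := hex
  obtain ⟨Qs, hQsdef⟩ : ∃ Qs : Subgroup G, Qs = (S : Subgroup R).map R.subtype := ⟨_, rfl⟩
  rw [← hQsdef] at hSA hu₀S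
  have hQsR : Qs ≤ R := by rw [hQsdef]; exact Subgroup.map_subtype_le _
  have hQsP : IsPGroup q Qs := by
    rw [hQsdef]
    exact S.isPGroup'.map _
  have hpq : p ≠ q := by
    intro h
    apply hu₀
    have h1 : u₀ = 1 := by
      obtain ⟨k, hk⟩ := (IsPGroup.iff_orderOf.mp hQsP) ⟨u₀, hu₀S⟩
      rw [Subgroup.orderOf_mk] at hk
      exact Cfsg.Agent.Lib.Helper6.eq_one_of_pElement_of_coprime_card hRc (hQsR hu₀S)
        ⟨k, by rw [hk, h]⟩
    rw [h1, one_mul, mul_one]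
  -- apply the core theorem
  have hX : (ρ x) ^ p ^ n = 1 := by
    rw [← map_pow, ← hx, pow_orderOf_eq_one, map_one]
  have hxA : x ∈ A := by rw [hAdef]; exact Subgroup.mem_zpowers x
  have hxN := hSA hxA
  have hnorm : ∀ u : Qs, ∃ u' : Qs, ρ x * (ρ.comp Qs.subtype) u = (ρ.comp Qs.subtype) u' * ρ x := by
    intro u
    have hmem : x * (u : G) * x⁻¹ ∈ Qs := (Subgroup.mem_normalizer_iff.mp hxN (u : G)).mp u.2
    refine ⟨⟨_, hmem⟩, ?_⟩
    show ρ x * ρ (u : G) = ρ (x * (u : G) * x⁻¹) * ρ x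
    rw [← map_mul, ← map_mul]
    congr 1
    group
  have hact : ∃ u : Qs, (ρ x) ^ p ^ (n - 1) * (ρ.comp Qs.subtype) u ≠
      (ρ.comp Qs.subtype) u * (ρ x) ^ p ^ (n - 1) := by
    refine ⟨⟨u₀, hu₀S⟩, ?_⟩
    show (ρ x) ^ p ^ (n - 1) * ρ u₀ ≠ ρ u₀ * (ρ x) ^ p ^ (n - 1)
    rw [← map_pow, ← hx₀def, ← map_mul, ← map_mul]
    intro h
    exact hu₀ (hρ h).symm
  have hcore := core (K := K) p q hpq (Nat.card Qs + finrank K V) Qs V (ρ.comp Qs.subtype) (ρ x) n
    rfl hQsP hn hX hnorm hact r hr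
  rcases hcore with h | ⟨n₀, m', h1, h2, h3, h4, h5, h6⟩
  · exact Or.inl h
  · right
    exact ⟨n₀, q, m', h1, h2, hqF.out, h3, h4, sylow_not_comm_of_subgroup q Qs hQsP h5, h6⟩

end Cfsg.Agent.Lib.Helper8.TB
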