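import Mathlib
import Cfsg.Agent.Lib.Helper8.TB10

set_option autoImplicit false
open Pointwise TensorProduct

/-! Hall–Higman Theorem B over an arbitrary field of characteristic `p`, by base change to the
algebraic closure. -/

namespace Cfsg.Agent.Lib.Helper8.TB

open Cfsg Module

universe u v

theorem main_field {F : Type*} [Field F] (p : ℕ) [Fact p.Prime] [CharP F p]
    {G : Type u} [Group G] [Finite G] (hG : Cfsg.IsPSolvable p G) (hred : Cfsg.pCore p G = ⊥)
    {V : Type v} [AddCommGroup V] [Module F V] [FiniteDimensional F V] [Nontrivial V]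
    (ρ : Representation F G V) (hρ : Function.Injective ρ) (x : G) (n : ℕ)
    (hx : orderOf x = p ^ n) (r : ℕ) (hr : (ρ x - 1) ^ r = 0) :
    p ^ n ≤ r ∨ ∃ n₀ q m' : ℕ, 1 ≤ n₀ ∧ n₀ ≤ n ∧ q.Prime ∧ 1 ≤ m' ∧ p ^ n₀ - 1 = q ^ m' ∧
      (∀ S : Sylow q G, ¬ IsMulCommutative S) ∧ p ^ (n - n₀) * (p ^ n₀ - 1) ≤ r := by
  classical
  obtain ⟨K, hKdef⟩ : ∃ K : Type _, K = AlgebraicClosure F := ⟨_, rfl⟩
  subst hKdef
  have : CharP (AlgebraicClosure F) p :=
    charP_of_injective_algebraMap (algebraMap F (AlgebraicClosure F)).injective p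
  have hfr : finrank (AlgebraicClosure F) (AlgebraicClosure F ⊗[F] V) = finrank F V :=
    Module.finrank_baseChange
  have : Nontrivial (AlgebraicClosure F ⊗[F] V) := by
    apply Module.nontrivial_of_finrank_pos (R := AlgebraicClosure F)
    rw [hfr]
    exact Module.finrank_pos
  have hinj : Function.Injective (Module.End.baseChangeHom F (AlgebraicClosure F) V) :=
    LinearMap.baseChangeHom_injective F V (AlgebraicClosure F)
  obtain ⟨ρK, hρKdef⟩ : ∃ ρK : Representation (AlgebraicClosure F) G (AlgebraicClosure F ⊗[F] V),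
      ρK = ((Module.End.baseChangeHom F (AlgebraicClosure F) V : Module.End F V →ₐ[F] _) :
        Module.End F V →* _).comp ρ := ⟨_, rfl⟩
  have hρKapp : ∀ g, ρK g = Module.End.baseChangeHom F (AlgebraicClosure F) V (ρ g) := by
    intro g; rw [hρKdef]; rfl
  have hρK : Function.Injective ρK := by
    intro a b hab
    rw [hρKapp, hρKapp] at hab
    exact hρ (hinj hab)
  have hrK : (ρK x - 1) ^ r = 0 := by
    have h1 : ρK x - 1 = Module.End.baseChangeHom F (AlgebraicClosure F) V (ρ x - 1) := by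
      rw [map_sub, map_one, hρKapp]
    rw [h1, ← map_pow, hr, map_zero]
  exact main_algClosed p hG hred ρK hρK x n hx r hrK

end Cfsg.Agent.Lib.Helper8.TB
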