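import Mathlib
import Cfsg.Agent.Lib.Helper8.TB11
import Cfsg.Agent.Lib.Helper7.NormB5

set_option autoImplicit false

/-! Hall–Higman Theorem B for the action of `G / U` on an elementary abelian self-centralizing
`U = O_p(G)`, in the language of `AddMonoid.End (Additive U)`. -/

namespace Cfsg.Agent.Lib.Helper8.HW

open Cfsg Cfsg.Agent.Lib.Helper7.NormB
open scoped IsMulCommutative

universe u

/-- additive endomorphisms of a `ZMod p`-module are linear: the ring homomorphism -/
def linOf (p : ℕ) (A : Type*) [AddCommGroup A] [Module (ZMod p) A] :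
    AddMonoid.End A →+* Module.End (ZMod p) A where
  toFun f := AddMonoidHom.toZModLinearMap p f
  map_one' := rfl
  map_mul' _ _ := rfl
  map_zero' := rfl
  map_add' _ _ := rfl

theorem linOf_apply (p : ℕ) (A : Type*) [AddCommGroup A] [Module (ZMod p) A]
    (f : AddMonoid.End A) (a : A) : linOf p A f a = f a := rfl

theorem linOf_injective (p : ℕ) (A : Type*) [AddCommGroup A] [Module (ZMod p) A] :
    Function.Injective (linOf p A) := by
  intro f g h
  refine DFunLike.ext _ _ (fun a => ?_)
  have := congrArg (fun L : Module.End (ZMod p) A => L a) h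
  exact this

variable {G : Type u} [Group G]

/-- the `ZMod p`-module structure on an elementary abelian subgroup -/
@[reducible] def zmodInst {p : ℕ} (U : Subgroup G) [IsMulCommutative U] (hexp : ∀ a ∈ U, a ^ p = 1) :
    Module (ZMod p) (Additive U) :=
  AddCommGroup.zmodModule (n := p) (fun a => by
    apply Additive.toMul.injective
    rw [toMul_nsmul, toMul_zero]
    apply Subtype.ext
    rw [Subgroup.coe_pow, Subgroup.coe_one]
    exact hexp _ (Additive.toMul a).2)

theorem thmB_quot [Finite G] {p : ℕ} [hp : Fact p.Prime] (hG : IsPSolvable p G)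
    (U : Subgroup G) [hUn : U.Normal] [hUc : IsMulCommutative U] (hUdef : U = pCore p G)
    (hexp : ∀ a ∈ U, a ^ p = 1) (hCU : ∀ z : G, (∀ v ∈ U, z * v = v * z) → z ∈ U)
    (x : G) (n : ℕ) (hn : 1 ≤ n) (hx : orderOf (QuotientGroup.mk' U x) = p ^ n) (r : ℕ)
    (hr : (quotAct U (QuotientGroup.mk' U x) - 1) ^ r = 0) :
    p ^ n ≤ r ∨ ∃ n₀ q m' : ℕ, 1 ≤ n₀ ∧ n₀ ≤ n ∧ q.Prime ∧ 1 ≤ m' ∧ p ^ n₀ - 1 = q ^ m' ∧
      (∀ S : Sylow q (G ⧸ U), ¬ IsMulCommutative S) ∧ p ^ (n - n₀) * (p ^ n₀ - 1) ≤ r := by
  classical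
  have inst : Module (ZMod p) (Additive U) := zmodInst U hexp
  have hUpg : IsPGroup p U := by rw [hUdef]; exact Cfsg.Agent.Lib.Lead.pCore_isPGroup p
  have hOp : pCore p (G ⧸ U) = ⊥ := by
    rw [Cfsg.Agent.Lib.Helper6.pCore_quotient_of_isPGroup U hUpg, ← hUdef]
    exact QuotientGroup.map_mk'_self U
  have hGq : IsPSolvable p (G ⧸ U) := Cfsg.Agent.Lib.Helper7.isPSolvable_quotient hG U
  -- the representation
  obtain ⟨ρ, hρdef⟩ : ∃ ρ : Representation (ZMod p) (G ⧸ U) (Additive U),
      ρ = (linOf p (Additive U)).toMonoidHom.comp (quotAct U) := ⟨_, rfl⟩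
  have hρapp : ∀ γ, ρ γ = linOf p (Additive U) (quotAct U γ) := by
    intro γ; rw [hρdef]; rfl
  have hρinj : Function.Injective ρ := by
    rw [injective_iff_map_eq_one]
    intro γ hγ
    rw [hρapp] at hγ
    have h1 : quotAct U γ = 1 := by
      apply linOf_injective p (Additive U)
      rw [hγ, map_one]
    obtain ⟨g, rfl⟩ := QuotientGroup.mk'_surjective U γ
    apply (QuotientGroup.eq_one_iff g).mpr
    apply hCU
    intro v hv
    have h2 := congrArg (fun E : AddMonoid.End (Additive U) =>
      ((Additive.toMul (E (Additive.ofMul (⟨v, hv⟩ : U))) : U) : G)) h1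
    simp only [quotAct_mk_apply] at h2
    have h3 : g * v * g⁻¹ = v := h2
    calc g * v = (g * v * g⁻¹) * g := by group
      _ = v * g := by rw [h3]
  have hnt : Nontrivial (Additive U) := by
    by_contra hcon
    rw [not_nontrivial_iff_subsingleton] at hcon
    have hUbot : ∀ v ∈ U, v = 1 := by
      intro v hv
      have := Subsingleton.elim (Additive.ofMul (⟨v, hv⟩ : U)) (Additive.ofMul (1 : U))
      exact congrArg (fun a => ((Additive.toMul a : U) : G)) this
    have hxU : x ∈ U := by
      apply hCU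
      intro v hv
      rw [hUbot v hv, mul_one, one_mul]
    have h1 : (QuotientGroup.mk' U) x = 1 := (QuotientGroup.eq_one_iff x).mpr hxU
    rw [h1, orderOf_one] at hx
    have : 1 < p ^ n := Nat.one_lt_pow (by omega) hp.out.one_lt
    omega
  have hr' : (ρ (QuotientGroup.mk' U x) - 1) ^ r = 0 := by
    rw [hρapp, ← map_one (linOf p (Additive U)), ← map_sub, ← map_pow, hr, map_zero]
  exact Cfsg.Agent.Lib.Helper8.TB.main_field p hGq hOp ρ hρinj (QuotientGroup.mk' U x) n hx r hr'

end Cfsg.Agent.Lib.Helper8.HW
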