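import Mathlib
import Cfsg.Agent.Lib.Helper2.G2LDefs
import Cfsg.Agent.Lib.Helper8.HW2
import Cfsg.Agent.Lib.Helper7.FrattRed
import Cfsg.Agent.Lib.Lead.PStabQuot2
import Cfsg.Agent.Lib.Lead.SolvPSolv

set_option autoImplicit false

/-! S3801 package F3: Theorem B (S0633) on the Frattini quotient of `O_{2',2}(L)/O_{2'}(L)`. -/

namespace Cfsg.Agent.Lib.Helper8.G2LF3

open Cfsg Cfsg.Agent.Lib.Helper2.G2L Cfsg.Agent.Lib.Helper7 Cfsg.Agent.Lib.Helper7.NormB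
open scoped IsMulCommutative

universe u

/-- quadratic action in the language of `quotAct` -/
theorem quotAct_sub_one_sq {G : Type*} [Group G] (V : Subgroup G) [hVn : V.Normal]
    [hVc : IsMulCommutative V] (x : G)
    (hxv : ∀ v ∈ V, x * (x * v * x⁻¹ * v⁻¹) = (x * v * x⁻¹ * v⁻¹) * x) :
    (quotAct V (QuotientGroup.mk' V x) - 1) ^ 2 = 0 := by
  have key : ∀ a : Additive V,
      ((Additive.toMul ((quotAct V (QuotientGroup.mk' V x) - 1) a) : V) : G) =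
        x * ((Additive.toMul a : V) : G) * x⁻¹ * ((Additive.toMul a : V) : G)⁻¹ := by
    intro a
    have h0 : (quotAct V (QuotientGroup.mk' V x) - 1) a =
        quotAct V (QuotientGroup.mk' V x) a - a := rfl
    rw [h0, toMul_sub, Subgroup.coe_div, quotAct_mk_apply, div_eq_mul_inv]
  refine DFunLike.ext _ _ (fun a => ?_)
  rw [pow_two]
  apply Additive.toMul.injective
  apply Subtype.ext
  have h1 : ((quotAct V (QuotientGroup.mk' V x) - 1) * (quotAct V (QuotientGroup.mk' V x) - 1)) a =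
      (quotAct V (QuotientGroup.mk' V x) - 1) ((quotAct V (QuotientGroup.mk' V x) - 1) a) := rfl
  rw [h1, key, key, hxv _ (Additive.toMul a).2]
  show _ = (1 : G)
  group


/-- F3 : Theorem B (S0633) on the Frattini quotient of `O_{2',2}(L)/O_{2'}(L)` -/
theorem not_comm_comm_trivial (L : Type u) [Group L] [Finite L] (hL : Group.IsSolvable L) (g : L)
    (n : ℕ) (hn : 2 ≤ n) (hgo : g ^ 2 ^ n = 1) (ht : g ^ 2 ^ (n - 1) ∉ pPrimePCore 2 L)
    (T₀ : Subgroup L) (hT₀2 : IsPGroup 2 T₀) (hT₀ : pPrimeCore 2 L ⊔ T₀ = pPrimePCore 2 L) :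
    ¬ ∀ τ ∈ T₀, cm (cm τ g) g = 1 := by
  classical
  intro hcc
  have : Fact (Nat.Prime 2) := ⟨Nat.prime_two⟩
  obtain ⟨m, rfl⟩ : ∃ m, n = m + 1 := ⟨n - 1, by omega⟩
  rw [Nat.add_sub_cancel] at ht
  obtain ⟨N, hNdef⟩ : ∃ N : Subgroup L, N = pPrimeCore 2 L := ⟨_, rfl⟩
  have hNn : N.Normal := by
    rw [hNdef]; exact (Cfsg.Agent.Lib.Helper6.pPrimeCore_mem_set 2).1
  have hO : pPrimeCore 2 (L ⧸ N) = ⊥ := by
    subst hNdef
    exact Cfsg.Agent.Lib.Lead.PStabQuot.pPrimeCore_quotient_eq_bot 2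
  have hG1 : IsPSolvable 2 (L ⧸ N) :=
    Cfsg.Agent.Lib.Lead.SolvPSolv.isPSolvable_of_isSolvable' 2 (L ⧸ N)
  have hG2 : IsPSolvable 2 ((L ⧸ N) ⧸ FrattRed.phi 2 (L ⧸ N)) :=
    Cfsg.Agent.Lib.Lead.SolvPSolv.isPSolvable_of_isSolvable' 2 _
  -- `O_2(L/N)` is the image of `T₀`
  have hcore1 : pCore 2 (L ⧸ N) = T₀.map (QuotientGroup.mk' N) := by
    have h1 : (pPrimePCore 2 L).map (QuotientGroup.mk' N) = pCore 2 (L ⧸ N) := by
      unfold pPrimePCore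
      subst hNdef
      exact Subgroup.map_comap_eq_self_of_surjective (QuotientGroup.mk'_surjective _) _
    rw [← h1, ← hT₀, Subgroup.map_sup, ← hNdef, QuotientGroup.map_mk'_self, bot_sup_eq]
  obtain ⟨U, hUdef⟩ : ∃ U : Subgroup ((L ⧸ N) ⧸ FrattRed.phi 2 (L ⧸ N)),
      U = pCore 2 ((L ⧸ N) ⧸ FrattRed.phi 2 (L ⧸ N)) := ⟨_, rfl⟩
  have hUn : U.Normal := by rw [hUdef]; exact Cfsg.Agent.Lib.Lead.pCore_normal 2
  have hUc : ∀ a ∈ U, ∀ b ∈ U, a * b = b * a := by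
    rw [hUdef]; exact FrattRed.quot_comm
  have hUcomm : IsMulCommutative U := ⟨⟨fun a b => Subtype.ext (hUc a a.2 b b.2)⟩⟩
  have hexp : ∀ a ∈ U, a ^ 2 = 1 := by rw [hUdef]; exact FrattRed.quot_exp
  have hCU : ∀ z, (∀ v ∈ U, z * v = v * z) → z ∈ U := by
    rw [hUdef]; exact FrattRed.quot_selfcentralizing hG1 hO
  -- the elements of `U` are images of elements of `T₀`
  have hUT : ∀ v ∈ U, ∃ τ ∈ T₀, v = QuotientGroup.mk' (FrattRed.phi 2 (L ⧸ N))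
      (QuotientGroup.mk' N τ) := by
    intro v hv
    rw [hUdef, FrattRed.pCore_quot, hcore1] at hv
    obtain ⟨w, hw, rfl⟩ := Subgroup.mem_map.mp hv
    obtain ⟨τ, hτ, rfl⟩ := Subgroup.mem_map.mp hw
    exact ⟨τ, hτ, rfl⟩
  obtain ⟨x, hxdef⟩ : ∃ x : (L ⧸ N) ⧸ FrattRed.phi 2 (L ⧸ N),
      x = QuotientGroup.mk' (FrattRed.phi 2 (L ⧸ N)) (QuotientGroup.mk' N g) := ⟨_, rfl⟩
  -- `x` commutes with `x v x⁻¹ v⁻¹` for `v ∈ U`
  have hxv : ∀ v ∈ U, x * (x * v * x⁻¹ * v⁻¹) = (x * v * x⁻¹ * v⁻¹) * x := by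
    intro v hv
    have hv' : x * v⁻¹ * x⁻¹ ∈ U := hUn.conj_mem _ (U.inv_mem hv) x
    obtain ⟨τ, hτ, hτe⟩ := hUT _ hv'
    have h1 := hcc τ hτ
    have h2 := congrArg (fun y => QuotientGroup.mk' (FrattRed.phi 2 (L ⧸ N))
      (QuotientGroup.mk' N y)) h1
    simp only [cm, map_mul, map_inv, map_one] at h2
    rw [← hτe, ← hxdef] at h2
    have h3 : x * v * x⁻¹ * v⁻¹ = (x * v⁻¹ * x⁻¹)⁻¹ * x⁻¹ * (x * v⁻¹ * x⁻¹) * x := by group
    rw [h3]
    obtain ⟨c, hc⟩ : ∃ c, c = (x * v⁻¹ * x⁻¹)⁻¹ * x⁻¹ * (x * v⁻¹ * x⁻¹) * x := ⟨_, rfl⟩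
    rw [← hc] at h2 ⊢
    -- h2 : c⁻¹ * x⁻¹ * c * x = 1
    calc x * c = x * c * (c⁻¹ * x⁻¹ * c * x) := by rw [h2, mul_one]
      _ = c * x := by group
  -- the order of the image of `x`
  have hord : orderOf (QuotientGroup.mk' U x) = 2 ^ (m + 1) := by
    apply orderOf_eq_prime_pow
    · rw [← map_pow]
      intro h1
      have h2 : x ^ 2 ^ m ∈ U := (QuotientGroup.eq_one_iff _).mp h1
      apply ht
      rw [hUdef, hxdef, ← map_pow] at h2
      have h3 := FrattRed.mem_pCore_of_mk_mem 2 h2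
      unfold pPrimePCore
      rw [Subgroup.mem_comap]
      subst hNdef
      rw [map_pow]
      exact h3
    · rw [← map_pow, hxdef, ← map_pow, ← map_pow, hgo, map_one, map_one, map_one]
  have hr : (quotAct U (QuotientGroup.mk' U x) - 1) ^ 2 = 0 := quotAct_sub_one_sq U x hxv
  rcases Cfsg.Agent.Lib.Helper8.HW.thmB_quot hG2 U hUdef hexp hCU x (m + 1) (by omega) hord 2 hr
    with h | h
  · have : 2 ^ (m + 1) ≥ 2 ^ 2 := Nat.pow_le_pow_right (by norm_num) hn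
    omega
  · obtain ⟨n₀, q, m', h1, h2, hq, hm', h5, -, h7⟩ := h
    have h8 : 2 ≤ q ^ m' := by
      calc 2 ≤ q := hq.two_le
        _ = q ^ 1 := (pow_one q).symm
        _ ≤ q ^ m' := Nat.pow_le_pow_right hq.pos hm'
    have h9 : 2 ≤ n₀ := by
      by_contra hcon
      have : n₀ = 1 := by omega
      rw [this] at h5
      norm_num at h5
      omega
    have h10 : 2 ^ 2 ≤ 2 ^ n₀ := Nat.pow_le_pow_right (by norm_num) h9
    have h11 : 1 ≤ 2 ^ (m + 1 - n₀) := Nat.one_le_two_pow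
    have h12 : 3 ≤ 2 ^ n₀ - 1 := by omega
    have : 3 ≤ 2 ^ (m + 1 - n₀) * (2 ^ n₀ - 1) := by
      calc 3 = 1 * 3 := by norm_num
        _ ≤ 2 ^ (m + 1 - n₀) * (2 ^ n₀ - 1) := Nat.mul_le_mul h11 h12
    omega

end Cfsg.Agent.Lib.Helper8.G2LF3
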