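import Mathlib
import Cfsg.Agent.Lib.Helper2.G2LDefs

set_option autoImplicit false
open TensorProduct

/-! S3801 package GT: Theorem GT over an arbitrary field of characteristic `2` from Theorem R over
its algebraic closure (base change) and A5. -/

namespace Cfsg.Agent.Lib.Helper8.G2LGT

open Cfsg Cfsg.Agent.Lib.Helper2.G2L Module

universe u v w

theorem lowSub_congr {H : Type u} [Group H] (N : Subgroup H) [N.Normal] (hN : N = ⊥) :
    lowSub N = lowSub (⊥ : Subgroup H) := by
  subst hN
  rfl

/-- GT from Theorem R (over the algebraic closure) and A5 -/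
theorem thmGT_of {F : Type w} [Field F] [CharP F 2]
    (hR : ∀ d : ℕ, RStmt.{u, max w v} (AlgebraicClosure F) d)
    (H : Type u) [Group H] [Finite H]
    (hA5 : pCore 2 H = ⊥ → lowSub (⊥ : Subgroup H) ≤ pPrimePCore 2 H)
    (V : Type v)
    [AddCommGroup V] [Module F V] [FiniteDimensional F V] (ρ : Representation F H V)
    (hρ : Function.Injective ρ) (hH : Group.IsSolvable H) (hO2 : pCore 2 H = ⊥)
    (g : H) (n : ℕ) (hn : 1 ≤ n) (hg : Exc (ρ g) n) : g ^ 2 ^ (n - 1) ∈ pPrimePCore 2 H := by
  classical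
  have : CharP (AlgebraicClosure F) 2 :=
    charP_of_injective_algebraMap (algebraMap F (AlgebraicClosure F)).injective 2
  have hinj : Function.Injective (Module.End.baseChangeHom F (AlgebraicClosure F) V) :=
    LinearMap.baseChangeHom_injective F V (AlgebraicClosure F)
  obtain ⟨ρK, hρKdef⟩ : ∃ ρK : Representation (AlgebraicClosure F) H (AlgebraicClosure F ⊗[F] V),
      ρK = ((Module.End.baseChangeHom F (AlgebraicClosure F) V : Module.End F V →ₐ[F] _) :
        Module.End F V →* _).comp ρ := ⟨_, rfl⟩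
  have hρKapp : ∀ h, ρK h = Module.End.baseChangeHom F (AlgebraicClosure F) V (ρ h) := by
    intro h; rw [hρKdef]; rfl
  have hρK : Function.Injective ρK := by
    intro a b hab
    rw [hρKapp, hρKapp] at hab
    exact hρ (hinj hab)
  have hgK : Exc (ρK g) n := by
    obtain ⟨h1, h2⟩ := hg
    refine ⟨?_, ?_⟩
    · rw [hρKapp, ← map_pow, h1, map_one]
    · have h3 : ρK g - 1 = Module.End.baseChangeHom F (AlgebraicClosure F) V (ρ g - 1) := by
        rw [map_sub, map_one, hρKapp]
      rw [h3, ← map_pow, h2, map_zero]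
  have hker : MonoidHom.ker ρK = ⊥ := (MonoidHom.ker_eq_bot_iff ρK).mpr hρK
  have h4 := hR _ H (AlgebraicClosure F ⊗[F] V) ρK rfl hH g n hn hgK
  rw [lowSub_congr _ hker] at h4
  exact hA5 hO2 h4

end Cfsg.Agent.Lib.Helper8.G2LGT
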