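import Mathlib

/-!
# Ward's theorem, part E: metanilpotent subgroups
-/

set_option autoImplicit false
set_option linter.unusedSectionVars false
set_option linter.unusedVariables false

namespace Cfsg.Agent.Lib.Helper8.Ward

open scoped commutatorElement

universe w

section metanilp

variable {Γ : Type w} [Group Γ]

/-- a subgroup is metanilpotent when some term of its lower central series is nilpotent. -/
def MetaNilp (G : Subgroup Γ) : Prop :=
  ∃ n k : ℕ, (G.lowerCentralSeries n).lowerCentralSeries k = ⊥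

theorem lcs_mono {S S' : Subgroup Γ} (h : S ≤ S') (k : ℕ) :
    S.lowerCentralSeries k ≤ S'.lowerCentralSeries k := by
  induction k with
  | zero => simpa using h
  | succ k ih =>
    rw [Subgroup.lowerCentralSeries_succ, Subgroup.lowerCentralSeries_succ]
    exact Subgroup.commutator_mono ih h

theorem lcs_le_self (S : Subgroup Γ) (k : ℕ) : S.lowerCentralSeries k ≤ S := by
  have := S.lowerCentralSeries_antitone (Nat.zero_le k)
  simpa using this

theorem MetaNilp.map {Γ' : Type*} [Group Γ'] {G : Subgroup Γ} (h : MetaNilp G) (f : Γ →* Γ') :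
    MetaNilp (G.map f) := by
  obtain ⟨n, k, hnk⟩ := h
  refine ⟨n, k, ?_⟩
  rw [← Subgroup.map_lowerCentralSeries, ← Subgroup.map_lowerCentralSeries, hnk, Subgroup.map_bot]

theorem MetaNilp.of_map_injective {Γ' : Type*} [Group Γ'] {G : Subgroup Γ} (f : Γ →* Γ')
    (hf : Function.Injective f) (h : MetaNilp (G.map f)) : MetaNilp G := by
  obtain ⟨n, k, hnk⟩ := h
  refine ⟨n, k, ?_⟩
  rw [← Subgroup.map_lowerCentralSeries, ← Subgroup.map_lowerCentralSeries] at hnk
  exact (Subgroup.map_eq_bot_iff_of_injective _ hf).1 hnk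

/-- from a metanilpotent quotient. -/
theorem lcs_lcs_le_of_quot {V G : Subgroup Γ} [V.Normal]
    (hq : MetaNilp (G.map (QuotientGroup.mk' V))) :
    ∃ n k : ℕ, (G.lowerCentralSeries n).lowerCentralSeries k ≤ V := by
  obtain ⟨n, k, hnk⟩ := hq
  refine ⟨n, k, ?_⟩
  rw [← Subgroup.map_lowerCentralSeries, ← Subgroup.map_lowerCentralSeries,
    Subgroup.map_eq_bot_iff, QuotientGroup.ker_mk'] at hnk
  exact hnk

/-- the criterion: metanilpotent modulo an abelian normal subgroup centralised by a term of the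
lower central series. -/
theorem MetaNilp.of_quot {V G : Subgroup Γ}
    (hVc : V ≤ Subgroup.centralizer (V : Set Γ))
    (hq : ∃ n k : ℕ, (G.lowerCentralSeries n).lowerCentralSeries k ≤ V)
    (hc : ∃ c : ℕ, G.lowerCentralSeries c ≤ Subgroup.centralizer (V : Set Γ)) : MetaNilp G := by
  obtain ⟨n, k, hnk⟩ := hq
  obtain ⟨c, hc⟩ := hc
  refine ⟨max n c, k + 1, ?_⟩
  have h1 : G.lowerCentralSeries (max n c) ≤ G.lowerCentralSeries n :=
    G.lowerCentralSeries_antitone (le_max_left n c)
  have h2 : G.lowerCentralSeries (max n c) ≤ Subgroup.centralizer (V : Set Γ) :=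
    (G.lowerCentralSeries_antitone (le_max_right n c)).trans hc
  have h3 : (G.lowerCentralSeries (max n c)).lowerCentralSeries k ≤ V :=
    (lcs_mono h1 k).trans hnk
  rw [Subgroup.lowerCentralSeries_succ, eq_bot_iff]
  calc ⁅(G.lowerCentralSeries (max n c)).lowerCentralSeries k, G.lowerCentralSeries (max n c)⁆
      ≤ ⁅V, Subgroup.centralizer (V : Set Γ)⁆ := Subgroup.commutator_mono h3 h2
    _ = ⊥ := by
      rw [Subgroup.commutator_eq_bot_iff_le_centralizer, Subgroup.le_centralizer_iff]

/-- the chain form of the conclusion. -/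
theorem MetaNilp.chain {G : Type*} [Group G] (h : MetaNilp (⊤ : Subgroup G)) :
    ∃ F : Fin (2 + 1) → Subgroup G, F 0 = ⊥ ∧ F (Fin.last 2) = ⊤ ∧ Monotone F ∧
      (∀ i, (F i).Normal) ∧
      ∀ i : Fin 2, ∃ k : ℕ, (F i.succ).lowerCentralSeries k ≤ F i.castSucc := by
  obtain ⟨n, k, hnk⟩ := h
  refine ⟨![⊥, (⊤ : Subgroup G).lowerCentralSeries n, ⊤], rfl, rfl, ?_, ?_, ?_⟩
  · intro i j hij
    fin_cases i <;> fin_cases j <;> simp_all
  · intro i
    fin_cases i
    · show (⊥ : Subgroup G).Normal
      infer_instance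
    · show ((⊤ : Subgroup G).lowerCentralSeries n).Normal
      infer_instance
    · show (⊤ : Subgroup G).Normal
      infer_instance
  · intro i
    fin_cases i
    · refine ⟨k, ?_⟩
      show ((⊤ : Subgroup G).lowerCentralSeries n).lowerCentralSeries k ≤ ⊥
      rw [hnk]
    · refine ⟨n, ?_⟩
      show (⊤ : Subgroup G).lowerCentralSeries n ≤ (⊤ : Subgroup G).lowerCentralSeries n
      exact le_rfl

end metanilp

end Cfsg.Agent.Lib.Helper8.Ward
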