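import Mathlib
import Cfsg.Agent.Lib.Helper8.WardE
import Cfsg.Agent.Lib.Lead.CoprimeSylow3

/-!
# Ward's theorem, part G: a nilpotency criterion through Sylow subgroups
-/

set_option autoImplicit false
set_option linter.unusedSectionVars false
set_option linter.unusedVariables false

namespace Cfsg.Agent.Lib.Helper8.Ward

open scoped commutatorElement

universe w

section typelevel

variable {H : Type w} [Group H] [Finite H]

/-- a Sylow subgroup whose normaliser contains a term of the lower central series is normal. -/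
theorem sylow_normal_of_lcs_le {r : ℕ} [Fact r.Prime] (P : Sylow r H) (n : ℕ)
    (h : (⊤ : Subgroup H).lowerCentralSeries n ≤ Subgroup.normalizer ((P : Subgroup H) : Set H)) :
    (P : Subgroup H).Normal := by
  have key : ∀ j : ℕ, j ≤ n →
      (⊤ : Subgroup H).lowerCentralSeries (n - j) ≤
        Subgroup.normalizer ((P : Subgroup H) : Set H) := by
    intro j
    induction j with
    | zero => intro _; simpa using h
    | succ j ih =>
      intro hj
      have ih' := ih (by omega)
      have e : n - j = (n - (j + 1)) + 1 := by omega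
      rw [e, Subgroup.lowerCentralSeries_succ] at ih'
      have hnn : Subgroup.normalizer
          ((Subgroup.normalizer ((P : Subgroup H) : Set H) : Subgroup H) : Set H) =
          Subgroup.normalizer ((P : Subgroup H) : Set H) := P.normalizer_normalizer
      rw [← hnn]
      intro x hx
      rw [Subgroup.mem_normalizer_iff]
      intro y
      constructor
      · intro hy
        have h1 : ⁅x, y⁆ ∈ Subgroup.normalizer ((P : Subgroup H) : Set H) :=
          ih' (Subgroup.commutator_mem_commutator hx (Subgroup.mem_top y))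
        have e2 : x * y * x⁻¹ = ⁅x, y⁆ * y := by
          rw [commutatorElement_def]; group
        have := Subgroup.mul_mem _ h1 hy
        rw [e2]
        exact this
      · intro hy
        have hx' : x⁻¹ ∈ (⊤ : Subgroup H).lowerCentralSeries (n - (j + 1)) :=
          Subgroup.inv_mem _ hx
        have h1 : ⁅x⁻¹, x * y * x⁻¹⁆ ∈ Subgroup.normalizer ((P : Subgroup H) : Set H) :=
          ih' (Subgroup.commutator_mem_commutator hx' (Subgroup.mem_top _))
        have e2 : y = ⁅x⁻¹, x * y * x⁻¹⁆ * (x * y * x⁻¹) := by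
          rw [commutatorElement_def]; group
        have := Subgroup.mul_mem _ h1 hy
        rw [e2]
        exact this
  have h0 := key n le_rfl
  rw [Nat.sub_self, Subgroup.lowerCentralSeries_zero] at h0
  rw [← Subgroup.normalizer_eq_top_iff]
  exact top_le_iff.1 h0

/-- if for every prime some Sylow subgroup is normal, the group is nilpotent. -/
theorem nilpotent_of_sylow_normal
    (h : ∀ (r : ℕ) [Fact r.Prime], ∃ P : Sylow r H, (P : Subgroup H).Normal) :
    Group.IsNilpotent H := by
  apply (Group.isNilpotent_of_finite_tfae (G := H)).out 3 0 rfl rfl |>.mp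
  intro r hr P
  obtain ⟨P0, hP0⟩ := h r
  have := Sylow.unique_of_normal P0 hP0
  have e : P = P0 := Subsingleton.elim _ _
  rw [e]
  exact hP0

end typelevel

section sub

variable {T : Type w} [Group T] [Finite T]

/-- the Sylow subgroups of a nilpotent normal subgroup are normal in the whole group. -/
theorem exists_normal_sylow_of_nilpotent (N : Subgroup T) [hN : N.Normal] {k : ℕ}
    (hnil : N.lowerCentralSeries k = ⊥) (l : ℕ) [Fact l.Prime] :
    ∃ Q : Subgroup T, Q ≤ N ∧ Q.Normal ∧ IsPGroup l Q ∧
      Nat.card Q = l ^ (Nat.card N).factorization l := by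
  have hn : Group.IsNilpotent ↥N := Subgroup.isNilpotent_of_lowerCentralSeries_eq_bot hnil
  let P : Sylow l ↥N := default
  have hPn : (P : Subgroup N).Normal := inferInstance
  have hPc : (P : Subgroup N).Characteristic := Sylow.characteristic_of_normal P hPn
  refine ⟨(P : Subgroup N).map N.subtype, Subgroup.map_subtype_le _, ?_, ?_, ?_⟩
  · exact ConjAct.normal_of_characteristic_of_normal
  · exact P.2.map _
  · exact (Cfsg.Agent.Lib.Lead.sylow_card_facts N l P).1

/-- a subgroup is contained in every subgroup containing Sylow subgroups for all primes. -/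
theorem le_of_sylows_le (N X : Subgroup T)
    (h : ∀ l : ℕ, l.Prime → ∃ Q : Subgroup T, Q ≤ N ∧ Q ≤ X ∧
      Nat.card Q = l ^ (Nat.card N).factorization l) : N ≤ X := by
  have hdvd : Nat.card N ∣ Nat.card ↥(N ⊓ X) := by
    rw [← Nat.factorization_prime_le_iff_dvd Nat.card_pos.ne' Nat.card_pos.ne']
    intro l hl
    obtain ⟨Q, hQN, hQX, hQc⟩ := h l hl
    have h1 : Nat.card Q ∣ Nat.card ↥(N ⊓ X) := Subgroup.card_dvd_of_le (le_inf hQN hQX)
    rw [hQc] at h1
    exact (hl.pow_dvd_iff_le_factorization Nat.card_pos.ne').1 h1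
  have hle : Nat.card N ≤ Nat.card ↥(N ⊓ X) := Nat.le_of_dvd Nat.card_pos hdvd
  have heq : N ⊓ X = N := Subgroup.eq_of_le_of_card_ge inf_le_left hle
  rw [← heq]
  exact inf_le_right

/-- a normal `r`-subgroup lies in every Sylow `r`-subgroup. -/
theorem normal_pgroup_le_sylow {r : ℕ} [Fact r.Prime] (G : Subgroup T) (P : Sylow r ↥G)
    {Q : Subgroup T} (hQG : Q ≤ G) [hQn : Q.Normal] (hQ : IsPGroup r Q) :
    Q ≤ (P : Subgroup G).map G.subtype := by
  have h1 : (Q.subgroupOf G).Normal := hQn.subgroupOf G
  have h2 : IsPGroup r (Q.subgroupOf G) := hQ.comap_subtype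
  have h3 : Q.subgroupOf G ≤ P := h2.le_sylow_of_normal P
  have h4 := Subgroup.map_mono (f := G.subtype) h3
  rwa [Subgroup.map_subgroupOf_eq_of_le hQG] at h4

/-- Lemma N: a subgroup all of whose chosen Sylow subgroups are normalised by a term of its
lower central series is nilpotent. -/
theorem lcs_eq_bot_of_sylow (G : Subgroup T) (n : ℕ)
    (h : ∀ (r : ℕ) [Fact r.Prime], ∃ P : Sylow r ↥G,
      G.lowerCentralSeries n ≤
        Subgroup.normalizer (((P : Subgroup G).map G.subtype : Subgroup T) : Set T)) :
    ∃ c : ℕ, G.lowerCentralSeries c = ⊥ := by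
  rw [← Subgroup.isNilpotent_iff_lowerCentralSeries]
  apply nilpotent_of_sylow_normal
  intro r hr
  obtain ⟨P, hP⟩ := h r
  refine ⟨P, sylow_normal_of_lcs_le P n ?_⟩
  intro x hx
  have hx' : (x : T) ∈ G.lowerCentralSeries n := by
    rw [← Subgroup.top_subtype_lowerCentralSeries]
    exact Subgroup.mem_map_of_mem _ hx
  have h1 := hP hx'
  rw [Subgroup.mem_normalizer_iff] at h1 ⊢
  intro y
  have h2 := h1 (y : T)
  have e1 : ∀ z : G, (z : T) ∈ (P : Subgroup G).map G.subtype ↔ z ∈ (P : Subgroup G) := by
    intro z
    constructor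
    · rintro ⟨z', hz', hzz⟩
      have : z' = z := Subtype.ext hzz
      rwa [← this]
    · intro hz
      exact ⟨z, hz, rfl⟩
  rw [e1 y] at h2
  have e2 : (x : T) * (y : T) * (x : T)⁻¹ = ((x * y * x⁻¹ : G) : T) := by simp
  rw [e2, e1] at h2
  exact h2

end sub

end Cfsg.Agent.Lib.Helper8.Ward
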