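import Mathlib
import Cfsg.Agent.Lib.Helper4.PPDefs
import Cfsg.Agent.Lib.Lead.CoprimeSylow3
import Cfsg.Agent.Lib.Helper8.Fitting
import Cfsg.Agent.Lib.Helper8.WardG

set_option autoImplicit false

/-!
# S3793 (Shult–Gross), package G-C: the nilpotent-by-`r`-group step `kt_step`

`kt_step_of` proves the step from the coprimality of `⟨x⟩` and `G` and from the statement of package
G-B (`comm_centralizes`), both taken as hypotheses.
-/

namespace Cfsg.Agent.Lib.Helper8.PPGC

open Cfsg.Agent.Lib.Helper4.PP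

open scoped commutatorElement

universe u

section

variable {Γ : Type u} [Group Γ] [Finite Γ]

/-- an `r`-subgroup of `H` of index prime to `r` has the order of a Sylow `r`-subgroup. -/
theorem card_eq_of_not_dvd_relIndex {r : ℕ} (hr : r.Prime) {R H : Subgroup Γ} (hRH : R ≤ H)
    (hR : IsPGroup r R) (hnd : ¬ r ∣ R.relIndex H) :
    Nat.card R = r ^ (Nat.card H).factorization r := by
  have : Fact r.Prime := ⟨hr⟩
  obtain ⟨a, ha⟩ := hR.exists_card_eq
  have h1 : Nat.card R * R.relIndex H = Nat.card H := by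
    have := Subgroup.relIndex_mul_relIndex (⊥ : Subgroup Γ) R H bot_le hRH
    rwa [Subgroup.relIndex_bot_left, Subgroup.relIndex_bot_left] at this
  have hne : R.relIndex H ≠ 0 := by
    intro h0
    rw [h0, mul_zero] at h1
    exact Nat.card_pos.ne' h1.symm
  rw [ha] at h1 ⊢
  rw [← h1, Nat.factorization_mul (pow_ne_zero _ hr.ne_zero) hne]
  simp [hr.factorization_pow, Nat.factorization_eq_zero_of_not_dvd hnd]

/-- the nilpotent-by-`r`-group step, from coprimality and the statement of package G-B. -/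
theorem kt_step_of {G : Subgroup Γ} {x : Γ} (τ : Γ) (hτ : τ ∈ Subgroup.zpowers x)
    (hcop : (Nat.card (Subgroup.zpowers x)).Coprime (Nat.card G))
    (hGB : ∀ (R : Subgroup Γ) [R.Normal], R ≤ G → ∀ r : ℕ, r.Prime → IsPGroup r R →
      ∀ Q : Subgroup Γ, Q ≤ G → ∀ q : ℕ, q.Prime → q ≠ r → IsPGroup q Q →
      (∀ u ∈ Q, x * u * x⁻¹ ∈ Q) →
      ∀ u ∈ Q, ∀ v ∈ R, (u⁻¹ * τ * u * τ⁻¹) * v = v * (u⁻¹ * τ * u * τ⁻¹))
    (H M : Subgroup Γ) [hHn : H.Normal] [hMn : M.Normal] (hHG : H ≤ G) (hMH : M ≤ H)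
    (r : ℕ) (hr : r.Prime) (hM : IsPGroup r M)
    (hnil : Group.IsNilpotent (H.map (QuotientGroup.mk' M))) :
    ∃ D : Subgroup Γ, D ≤ H ∧ D.Normal ∧ Group.IsNilpotent D ∧
      ∀ g ∈ H, g⁻¹ * τ * g * τ⁻¹ ∈ D := by
  classical
  have : Fact r.Prime := ⟨hr⟩
  -- Step 1: the normal Sylow `r`-subgroup `R` of `H`
  set π := QuotientGroup.mk' M with hπ
  have hπs : Function.Surjective π := QuotientGroup.mk'_surjective M
  have hker : π.ker = M := QuotientGroup.ker_mk' M
  have hHbn : (H.map π).Normal := hHn.map π hπs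
  obtain ⟨k, hk⟩ := (Subgroup.isNilpotent_iff_lowerCentralSeries _).mp hnil
  obtain ⟨Rb, hRbH, hRbn, hRbp, hRbc⟩ :=
    Cfsg.Agent.Lib.Helper8.Ward.exists_normal_sylow_of_nilpotent (H.map π) hk r
  set R : Subgroup Γ := Rb.comap π with hRdef
  have hRn : R.Normal := hRbn.comap π
  have hMR : M ≤ R := by
    rw [← hker]; exact Subgroup.ker_le_comap π Rb
  have hRH : R ≤ H := by
    intro g hg
    have h1 : π g ∈ H.map π := hRbH hg
    obtain ⟨h', hh', he⟩ := h1
    have h2 : h'⁻¹ * g ∈ M := by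
      rw [← hker, MonoidHom.mem_ker, map_mul, map_inv, he, inv_mul_cancel]
    have : g = h' * (h'⁻¹ * g) := by group
    rw [this]
    exact H.mul_mem hh' (hMH h2)
  have hRp : IsPGroup r R := hRbp.comap_of_ker_isPGroup π (by rw [hker]; exact hM)
  have hRcard : Nat.card R = r ^ (Nat.card H).factorization r := by
    apply card_eq_of_not_dvd_relIndex hr hRH hRp
    rw [hRdef, Subgroup.relIndex_comap]
    have h1 : Nat.card Rb * Rb.relIndex (H.map π) = Nat.card (H.map π) := by
      have := Subgroup.relIndex_mul_relIndex (⊥ : Subgroup (Γ ⧸ M)) Rb (H.map π) bot_le hRbH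
      rwa [Subgroup.relIndex_bot_left, Subgroup.relIndex_bot_left] at this
    rw [hRbc] at h1
    intro hdvd
    have h2 : Nat.card (H.map π) / r ^ (Nat.card (H.map π)).factorization r =
        Rb.relIndex (H.map π) := Nat.div_eq_of_eq_mul_right (pow_pos hr.pos _) h1.symm
    rw [← h2] at hdvd
    exact Nat.not_dvd_ordCompl hr Nat.card_pos.ne' hdvd
  -- Step 2: `C = C_H(R)` is nilpotent
  set C : Subgroup Γ := H ⊓ Subgroup.centralizer (R : Set Γ) with hCdef
  have hCn : C.Normal := by
    have := hRn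
    infer_instance
  have hCnil : Group.IsNilpotent C := by
    rw [Subgroup.isNilpotent_iff_lowerCentralSeries]
    refine ⟨k + 1, ?_⟩
    have h1 : H.lowerCentralSeries k ≤ M := by
      have := Subgroup.map_lowerCentralSeries (S := H) π k
      rw [hk, Subgroup.map_eq_bot_iff, hker] at this
      exact this
    have h2 : C.lowerCentralSeries k ≤ R :=
      (Subgroup.lowerCentralSeries_mono k (inf_le_left : C ≤ H)).trans (h1.trans hMR)
    rw [Subgroup.lowerCentralSeries_succ, eq_bot_iff, Subgroup.commutator_le]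
    intro a ha b hb
    have hb' : b ∈ Subgroup.centralizer (R : Set Γ) := hb.2
    rw [Subgroup.mem_centralizer_iff] at hb'
    have := hb' a (h2 ha)
    rw [Subgroup.mem_bot, commutatorElement_eq_one_iff_mul_comm]
    exact this
  -- Step 3: `D = R C`
  have hRnil : Group.IsNilpotent R := hRp.isNilpotent
  refine ⟨R ⊔ C, sup_le hRH inf_le_left, ?_, ?_, ?_⟩
  · have := hRn; have := hCn; infer_instance
  · have := hRn; have := hCn
    exact Cfsg.Agent.Lib.Helper8.sup_isNilpotent R C hRnil hCnil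
  -- Step 4: the subgroup `S` of good elements
  have hDn : (R ⊔ C).Normal := by have := hRn; have := hCn; infer_instance
  set D := R ⊔ C with hD
  set πD := QuotientGroup.mk' D with hπD
  set S : Subgroup Γ := H ⊓ (Subgroup.centralizer ({πD τ} : Set (Γ ⧸ D))).comap πD with hS
  have hSmem : ∀ g, g ∈ S ↔ g ∈ H ∧ g⁻¹ * τ * g * τ⁻¹ ∈ D := by
    intro g
    rw [hS, Subgroup.mem_inf, Subgroup.mem_comap, Subgroup.mem_centralizer_iff]
    refine and_congr Iff.rfl ?_
    rw [← QuotientGroup.eq_one_iff (N := D)]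
    constructor
    · intro h
      have h1 := h (πD τ) rfl
      change πD (g⁻¹ * τ * g * τ⁻¹) = 1
      simp only [map_mul, map_inv]
      rw [mul_assoc (πD g)⁻¹, h1]
      group
    · intro h x' hx'
      rw [Set.mem_singleton_iff] at hx'
      subst hx'
      change πD (g⁻¹ * τ * g * τ⁻¹) = 1 at h
      simp only [map_mul, map_inv] at h
      have : πD τ * πD g = πD g * ((πD g)⁻¹ * πD τ * πD g * (πD τ)⁻¹) * πD τ := by group
      rw [this, h, mul_one]
  have hHS : H ≤ S := by
    apply Cfsg.Agent.Lib.Helper8.Ward.le_of_sylows_le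
    intro l hl
    by_cases hlr : l = r
    · subst hlr
      refine ⟨R, hRH, ?_, hRcard⟩
      intro g hg
      rw [hSmem]
      refine ⟨hRH hg, ?_⟩
      have h1 : τ * g * τ⁻¹ ∈ R := hRn.conj_mem g hg τ
      have h2 : g⁻¹ * τ * g * τ⁻¹ = g⁻¹ * (τ * g * τ⁻¹) := by group
      rw [h2]
      exact (le_sup_left : R ≤ D) (R.mul_mem (R.inv_mem hg) h1)
    · have : Fact l.Prime := ⟨hl⟩
      have hAK : Subgroup.zpowers x ≤ Subgroup.normalizer (H : Set Γ) := by
        rw [Subgroup.normalizer_eq_top]; exact le_top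
      have hcop' : (Nat.card (Subgroup.zpowers x)).Coprime (Nat.card H) :=
        Nat.Coprime.coprime_dvd_right (Subgroup.card_dvd_of_le hHG) hcop
      obtain ⟨P, hP⟩ := Cfsg.Agent.Lib.Lead.coprime_invariant_sylow_exists (Subgroup.zpowers x) H
        hAK hcop' (Or.inl inferInstance) l
      set Q : Subgroup Γ := (P : Subgroup H).map H.subtype with hQ
      have hQH : Q ≤ H := Subgroup.map_subtype_le _
      have hQp : IsPGroup l Q := P.2.map _
      have hxQ : ∀ u ∈ Q, x * u * x⁻¹ ∈ Q := by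
        intro u hu
        have hx : x ∈ Subgroup.normalizer (Q : Set Γ) := hP (Subgroup.mem_zpowers x)
        exact (Subgroup.mem_normalizer_iff.mp hx u).mp hu
      have hτQ : ∀ u ∈ Q, τ * u * τ⁻¹ ∈ Q := by
        intro u hu
        have hτn : τ ∈ Subgroup.normalizer (Q : Set Γ) := hP hτ
        exact (Subgroup.mem_normalizer_iff.mp hτn u).mp hu
      refine ⟨Q, hQH, ?_, (Cfsg.Agent.Lib.Lead.sylow_card_facts H l P).1⟩
      intro u hu
      rw [hSmem]
      refine ⟨hQH hu, ?_⟩
      apply (le_sup_right : C ≤ D)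
      rw [hCdef, Subgroup.mem_inf]
      constructor
      · have h1 : τ * u * τ⁻¹ ∈ H := hHn.conj_mem u (hQH hu) τ
        have h2 : u⁻¹ * τ * u * τ⁻¹ = u⁻¹ * (τ * u * τ⁻¹) := by group
        rw [h2]
        exact H.mul_mem (H.inv_mem (hQH hu)) h1
      · rw [Subgroup.mem_centralizer_iff]
        intro v hv
        have := hRn
        exact (hGB R (hRH.trans hHG) r hr hRp Q (hQH.trans hHG) l hl hlr hQp hxQ u hu v hv).symm
  intro g hg
  exact ((hSmem g).mp (hHS hg)).2

end

end Cfsg.Agent.Lib.Helper8.PPGC
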