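import Mathlib
import Cfsg.Agent.Lib.Helper3.GR2Defs
import Cfsg.Agent.Lib.Helper4.SecMod
import Cfsg.Agent.Lib.Helper5.PPGB
import Cfsg.Agent.Lib.Helper8.PPGC
import Cfsg.Agent.Lib.Helper8.Fitting
import Cfsg.Agent.Lib.Helper8.WardG
import Cfsg.Agent.Lib.Helper7.SylNorm1
import Cfsg.Agent.Lib.Lead.CoprimeFrattini
import Cfsg.Agent.Lib.Lead.Frattini

set_option autoImplicit false
set_option linter.unusedVariables false
set_option linter.unusedSectionVars false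
set_option linter.style.haveILetI false

/-!
# S3795 (Gross, `p = 2`), package G2-C: the two-layer step `kt2_step`

`kt2_step_of` proves the step of the skeleton (`notes/S3795_group_skeleton.lean.txt`) from the
statements of the packages G2-NN (`NNStatement`) and G2-GB (`GBStatement`), both taken as
hypotheses.
-/

namespace Cfsg.Agent.Lib.Helper8.GR2C

open Cfsg.Agent.Lib.Helper3.GR2 Cfsg.Agent.Lib.Helper4.SecMod

universe u

/-- the exact statement of package G2-NN (`nn_step`). -/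
def NNStatement : Prop :=
  ∀ {Γ : Type u} [Group Γ] [Finite Γ] {G : Subgroup Γ} {x : Γ}, PPS2 G x →
    ∀ (τ : Γ), τ ∈ Subgroup.zpowers x →
    ∀ (H₁ H : Subgroup Γ) [H₁.Normal] [H.Normal], H ≤ G → H₁ ≤ H →
    Group.IsNilpotent H₁ → (∃ k : ℕ, H.lowerCentralSeries k ≤ H₁) →
    (∀ t q : ℕ, t.Prime → q.Prime → q ≠ t →
      ∀ T : Subgroup Γ, T ≤ H → IsPGroup t T → (∀ a ∈ T, x * a * x⁻¹ ∈ T) →
      ∀ P : Subgroup Γ, P.Normal → P ≤ H₁ → IsPGroup q P →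
      ∀ a ∈ T, ∀ u ∈ P, (a⁻¹ * τ * a * τ⁻¹) * u = u * (a⁻¹ * τ * a * τ⁻¹)) →
    ∃ D : Subgroup Γ, D ≤ H ∧ D.Normal ∧ Group.IsNilpotent D ∧
      ∀ g ∈ H, g⁻¹ * τ * g * τ⁻¹ ∈ D

/-- the exact statement of package G2-GB (`cen_of_mt3`). -/
def GBStatement : Prop :=
  ∀ {Γ : Type u} [Group Γ] [Finite Γ], MT3Statement.{u} → ∀ {G : Subgroup Γ} {x : Γ}, PPS2 G x →
    ∀ (n : ℕ), (∀ g ∈ G, x ^ (2 ^ (n + 1)) * g = g * x ^ (2 ^ (n + 1))) →
    ∀ (R : Subgroup Γ) [R.Normal], R ≤ G → ∀ (r : ℕ), r.Prime → IsPGroup r R →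
    ∀ (D : Subgroup Γ) [D.Normal], D ≤ G →
    (∀ d ∈ D, ∀ v ∈ R, d * v * d⁻¹ * v⁻¹ ∈ (frattini ↥R).map R.subtype) →
    ∀ (q t : ℕ), q.Prime → t.Prime → q ≠ r → q ≠ t →
    ∀ (P T : Subgroup (Γ ⧸ D)), P ≤ G.map (QuotientGroup.mk' D) →
    T ≤ G.map (QuotientGroup.mk' D) → IsPGroup q P → IsPGroup t T →
    (∀ u ∈ P, (QuotientGroup.mk' D x) * u * (QuotientGroup.mk' D x)⁻¹ ∈ P) →
    (∀ a ∈ T, (QuotientGroup.mk' D x) * a * (QuotientGroup.mk' D x)⁻¹ ∈ T) →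
    (∀ a ∈ T, ∀ u ∈ P, a * u * a⁻¹ ∈ P) →
    ∀ a ∈ T, ∀ u ∈ P, ∀ w : Γ,
      QuotientGroup.mk' D w =
        (a⁻¹ * (QuotientGroup.mk' D x) ^ (2 ^ n) * a * ((QuotientGroup.mk' D x) ^ (2 ^ n))⁻¹) * u *
          (a⁻¹ * (QuotientGroup.mk' D x) ^ (2 ^ n) * a * ((QuotientGroup.mk' D x) ^ (2 ^ n))⁻¹)⁻¹ *
            u⁻¹ →
      ∀ v ∈ R, w * v * w⁻¹ * v⁻¹ ∈ (frattini ↥R).map R.subtype

section

variable {Γ : Type u} [Group Γ] [Finite Γ]

/-- the elements acting trivially on `R / Φ`, `Φ` normal. -/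
def trivSub (R Φ : Subgroup Γ) (hΦ : ∀ g : Γ, ∀ a ∈ Φ, g * a * g⁻¹ ∈ Φ) : Subgroup Γ where
  carrier := {d | ∀ v ∈ R, d * v * d⁻¹ * v⁻¹ ∈ Φ}
  one_mem' := by
    intro v hv
    have : (1 : Γ) * v * 1⁻¹ * v⁻¹ = 1 := by group
    rw [this]; exact Φ.one_mem
  mul_mem' := by
    intro d e hd he v hv
    have h1 := hΦ d _ (he v hv)
    have h2 := hd v hv
    have e1 : d * e * v * (d * e)⁻¹ * v⁻¹ =
        d * (e * v * e⁻¹ * v⁻¹) * d⁻¹ * (d * v * d⁻¹ * v⁻¹) := by group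
    rw [e1]
    exact Φ.mul_mem h1 h2
  inv_mem' := by
    intro d hd v hv
    have h1 := hΦ d⁻¹ _ (Φ.inv_mem (hd v hv))
    have e1 : d⁻¹ * v * d⁻¹⁻¹ * v⁻¹ = d⁻¹ * (d * v * d⁻¹ * v⁻¹)⁻¹ * d⁻¹⁻¹ := by group
    rw [e1]
    exact h1

theorem mem_trivSub (R Φ : Subgroup Γ) (hΦ : ∀ g : Γ, ∀ a ∈ Φ, g * a * g⁻¹ ∈ Φ) (d : Γ) :
    d ∈ trivSub R Φ hΦ ↔ ∀ v ∈ R, d * v * d⁻¹ * v⁻¹ ∈ Φ := Iff.rfl

/-- an `r`-element of `H` lies in a normal `r`-subgroup of the order of a Sylow `r`-subgroup. -/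
theorem mem_of_card_eq {r : ℕ} (hr : r.Prime) {R H : Subgroup Γ} [hRn : R.Normal] (hRH : R ≤ H)
    (hR : IsPGroup r R) (hc : Nat.card R = r ^ (Nat.card H).factorization r)
    (u : Γ) (hu : u ∈ H) (hur : ∃ j : ℕ, u ^ (r ^ j) = 1) : u ∈ R := by
  have : Fact r.Prime := ⟨hr⟩
  obtain ⟨j, hj⟩ := hur
  have hZ : IsPGroup r (Subgroup.zpowers u) := by
    rintro ⟨g, hg⟩
    obtain ⟨m, rfl⟩ := Subgroup.mem_zpowers_iff.mp hg
    refine ⟨j, ?_⟩
    apply Subtype.ext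
    rw [Subgroup.coe_pow, Subgroup.coe_one]
    show (u ^ m) ^ r ^ j = 1
    rw [← zpow_natCast, ← zpow_mul, mul_comm, zpow_mul, zpow_natCast, hj, one_zpow]
  have hQ : IsPGroup r (Subgroup.zpowers u ⊔ R : Subgroup Γ) := hZ.to_sup_of_normal_right hR
  have hQH : Subgroup.zpowers u ⊔ R ≤ H := sup_le (Subgroup.zpowers_le.mpr hu) hRH
  obtain ⟨a, ha⟩ := hQ.exists_card_eq
  have h1 : Nat.card (Subgroup.zpowers u ⊔ R : Subgroup Γ) ∣ Nat.card H :=
    Subgroup.card_dvd_of_le hQH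
  rw [ha] at h1
  have h2 : a ≤ (Nat.card H).factorization r :=
    (hr.pow_dvd_iff_le_factorization Nat.card_pos.ne').1 h1
  have h3 : Nat.card (Subgroup.zpowers u ⊔ R : Subgroup Γ) ≤ Nat.card R := by
    rw [ha, hc]; exact Nat.pow_le_pow_right hr.pos h2
  have h4 : R = Subgroup.zpowers u ⊔ R := Subgroup.eq_of_le_of_card_ge le_sup_right h3
  rw [h4]
  exact Subgroup.mem_sup_left (Subgroup.mem_zpowers u)

/-- the first layer: `R` the normal Sylow `r`-subgroup of `H₁`, `D₁ = R C_{H₁}(R)`. -/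
theorem layer_one (H₁ M : Subgroup Γ) [hHn : H₁.Normal] [hMn : M.Normal] (hM1 : M ≤ H₁)
    (r : ℕ) (hr : r.Prime) (hM : IsPGroup r M)
    (hnil : Group.IsNilpotent (H₁.map (QuotientGroup.mk' M))) :
    ∃ R D₁ : Subgroup Γ, R.Normal ∧ D₁.Normal ∧ R ≤ D₁ ∧ D₁ ≤ H₁ ∧ M ≤ R ∧ IsPGroup r R ∧
      Group.IsNilpotent D₁ ∧ (∀ u ∈ H₁, (∃ j : ℕ, u ^ (r ^ j) = 1) → u ∈ R) ∧
      H₁ ⊓ Subgroup.centralizer (R : Set Γ) ≤ D₁ ∧
      ∀ d ∈ D₁, ∀ v ∈ R, d * v * d⁻¹ * v⁻¹ ∈ (frattini ↥R).map R.subtype := by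
  classical
  have : Fact r.Prime := ⟨hr⟩
  -- Step 1: the normal Sylow `r`-subgroup `R` of `H₁`
  set π := QuotientGroup.mk' M with hπ
  have hπs : Function.Surjective π := QuotientGroup.mk'_surjective M
  have hker : π.ker = M := QuotientGroup.ker_mk' M
  have hHbn : (H₁.map π).Normal := hHn.map π hπs
  obtain ⟨k, hk⟩ := (Subgroup.isNilpotent_iff_lowerCentralSeries _).mp hnil
  obtain ⟨Rb, hRbH, hRbn, hRbp, hRbc⟩ :=
    Cfsg.Agent.Lib.Helper8.Ward.exists_normal_sylow_of_nilpotent (H₁.map π) hk r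
  set R : Subgroup Γ := Rb.comap π with hRdef
  have hRn : R.Normal := hRbn.comap π
  have hMR : M ≤ R := by
    rw [← hker]; exact Subgroup.ker_le_comap π Rb
  have hRH : R ≤ H₁ := by
    intro g hg
    have h1 : π g ∈ H₁.map π := hRbH hg
    obtain ⟨h', hh', he⟩ := h1
    have h2 : h'⁻¹ * g ∈ M := by
      rw [← hker, MonoidHom.mem_ker, map_mul, map_inv, he, inv_mul_cancel]
    have : g = h' * (h'⁻¹ * g) := by group
    rw [this]
    exact H₁.mul_mem hh' (hM1 h2)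
  have hRp : IsPGroup r R := hRbp.comap_of_ker_isPGroup π (by rw [hker]; exact hM)
  have hRcard : Nat.card R = r ^ (Nat.card H₁).factorization r := by
    apply Cfsg.Agent.Lib.Helper8.PPGC.card_eq_of_not_dvd_relIndex hr hRH hRp
    rw [hRdef, Subgroup.relIndex_comap]
    have h1 : Nat.card Rb * Rb.relIndex (H₁.map π) = Nat.card (H₁.map π) := by
      have := Subgroup.relIndex_mul_relIndex (⊥ : Subgroup (Γ ⧸ M)) Rb (H₁.map π) bot_le hRbH
      rwa [Subgroup.relIndex_bot_left, Subgroup.relIndex_bot_left] at this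
    rw [hRbc] at h1
    intro hdvd
    have h2 : Nat.card (H₁.map π) / r ^ (Nat.card (H₁.map π)).factorization r =
        Rb.relIndex (H₁.map π) := Nat.div_eq_of_eq_mul_right (pow_pos hr.pos _) h1.symm
    rw [← h2] at hdvd
    exact Nat.not_dvd_ordCompl hr Nat.card_pos.ne' hdvd
  -- Step 2: `C = C_{H₁}(R)` is nilpotent
  set C : Subgroup Γ := H₁ ⊓ Subgroup.centralizer (R : Set Γ) with hCdef
  have hCn : C.Normal := by
    have := hRn
    infer_instance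
  have hCnil : Group.IsNilpotent C := by
    rw [Subgroup.isNilpotent_iff_lowerCentralSeries]
    refine ⟨k + 1, ?_⟩
    have h1 : H₁.lowerCentralSeries k ≤ M := by
      have := Subgroup.map_lowerCentralSeries (S := H₁) π k
      rw [hk, Subgroup.map_eq_bot_iff, hker] at this
      exact this
    have h2 : C.lowerCentralSeries k ≤ R :=
      (Subgroup.lowerCentralSeries_mono k (inf_le_left : C ≤ H₁)).trans (h1.trans hMR)
    rw [Subgroup.lowerCentralSeries_succ, eq_bot_iff, Subgroup.commutator_le]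
    intro a ha b hb
    have hb' : b ∈ Subgroup.centralizer (R : Set Γ) := hb.2
    rw [Subgroup.mem_centralizer_iff] at hb'
    have := hb' a (h2 ha)
    rw [Subgroup.mem_bot, commutatorElement_eq_one_iff_mul_comm]
    exact this
  -- Step 3: `D₁ = R C`
  have hRnil : Group.IsNilpotent R := hRp.isNilpotent
  have hDn : (R ⊔ C).Normal := by have := hRn; have := hCn; infer_instance
  refine ⟨R, R ⊔ C, hRn, hDn, le_sup_left, sup_le hRH inf_le_left, hMR, hRp, ?_, ?_, le_sup_right, ?_⟩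
  · have := hRn; have := hCn
    exact Cfsg.Agent.Lib.Helper8.sup_isNilpotent R C hRnil hCnil
  · intro u hu hur
    have := hRn
    exact mem_of_card_eq hr hRH hRp hRcard u hu hur
  · intro d hd v hv
    have := hRn
    have hsec : Sec R ((frattini ↥R).map R.subtype) (⊤ : Subgroup Γ) :=
      Cfsg.Agent.Lib.Helper5.PPGB.ppgb_sec R r hRp
    have hd' : d ∈ ((R ⊔ C : Subgroup Γ) : Set Γ) := hd
    rw [Subgroup.mul_normal R C] at hd'
    obtain ⟨a, ha, c, hc, rfl⟩ := Set.mem_mul.mp hd'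
    have hc' : c ∈ Subgroup.centralizer (R : Set Γ) := hc.2
    rw [Subgroup.mem_centralizer_iff] at hc'
    have h1 : c * v * c⁻¹ = v := by
      rw [← hc' v hv]; group
    have e1 : a * c * v * (a * c)⁻¹ * v⁻¹ = a * (c * v * c⁻¹) * a⁻¹ * v⁻¹ := by group
    rw [e1, h1]
    exact hsec.comm a ha v hv

/-- lifting membership through a quotient map: `X ≥ D`. -/
theorem mem_of_mk_mem_map (D X : Subgroup Γ) [D.Normal] (hDX : D ≤ X) (g : Γ)
    (hg : QuotientGroup.mk' D g ∈ X.map (QuotientGroup.mk' D)) : g ∈ X := by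
  obtain ⟨h', hh', he⟩ := hg
  have h2 : h'⁻¹ * g ∈ D := by
    rw [← QuotientGroup.ker_mk' D, MonoidHom.mem_ker, map_mul, map_inv, he, inv_mul_cancel]
  have : g = h' * (h'⁻¹ * g) := by group
  rw [this]
  exact X.mul_mem hh' (hDX h2)

/-- an element of a `q`-subgroup has `q`-power order. -/
theorem orderOf_eq_pow_of_mem {T : Type*} [Group T] {q : ℕ} (hq : q.Prime) {P : Subgroup T}
    (hP : IsPGroup q P) (u : T) (hu : u ∈ P) : ∃ k : ℕ, orderOf u = q ^ k := by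
  obtain ⟨k, hk⟩ := hP ⟨u, hu⟩
  have h1 : u ^ q ^ k = 1 := by
    have := congrArg Subtype.val hk
    simpa using this
  obtain ⟨j, _, hj⟩ := (Nat.dvd_prime_pow hq).mp (orderOf_dvd_of_pow_eq_one h1)
  exact ⟨j, hj⟩

/-- the two-layer step, from the statements of packages G2-NN and G2-GB. -/
theorem kt2_step_of (hNN : NNStatement.{u}) (hGB : GBStatement.{u}) (hMT : MT3Statement.{u})
    {G : Subgroup Γ} {x : Γ} (h : PPS2 G x) (n : ℕ)
    (hx : ∀ g ∈ G, x ^ (2 ^ (n + 1)) * g = g * x ^ (2 ^ (n + 1)))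
    (H₁ H M : Subgroup Γ) [hH₁n : H₁.Normal] [hHn : H.Normal] [hMn : M.Normal] (hHG : H ≤ G)
    (h1H : H₁ ≤ H)
    (hM1 : M ≤ H₁) (r : ℕ) (hr : r.Prime) (hM : IsPGroup r M)
    (hnil : Group.IsNilpotent (H₁.map (QuotientGroup.mk' M)))
    (hk : ∃ k : ℕ, H.lowerCentralSeries k ≤ H₁) :
    ∃ D₁ D₂ : Subgroup Γ, D₁ ≤ D₂ ∧ D₂ ≤ H ∧ D₁.Normal ∧ D₂.Normal ∧ Group.IsNilpotent D₁ ∧
      (∃ k : ℕ, D₂.lowerCentralSeries k ≤ D₁) ∧
      ∀ g ∈ H, g⁻¹ * x ^ (2 ^ n) * g * (x ^ (2 ^ n))⁻¹ ∈ D₂ := by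
  classical
  have : Fact r.Prime := ⟨hr⟩
  obtain ⟨R, D₁, hRn, hD₁n, hRD, hD1H, hMR, hRp, hD₁nil, hrel, hCD, hDR⟩ :=
    layer_one H₁ M hM1 r hr hM hnil
  haveI := hRn
  haveI := hD₁n
  have hD₁H : D₁ ≤ H := hD1H.trans h1H
  have hD₁G : D₁ ≤ G := hD₁H.trans hHG
  have hRG : R ≤ G := hRD.trans hD₁G
  have hπ₁s : Function.Surjective (QuotientGroup.mk' D₁) := QuotientGroup.mk'_surjective D₁
  have hker₁ : (QuotientGroup.mk' D₁).ker = D₁ := QuotientGroup.ker_mk' D₁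
  have hq := PPS2.quot h D₁ hD₁G
  haveI hHtn : (H.map (QuotientGroup.mk' D₁)).Normal := hHn.map _ hπ₁s
  haveI hH1tn : (H₁.map (QuotientGroup.mk' D₁)).Normal := hH₁n.map _ hπ₁s
  -- nilpotency of the images
  have hnil₁ : Group.IsNilpotent (H₁.map (QuotientGroup.mk' D₁)) := by
    obtain ⟨k₁, hk₁⟩ := (Subgroup.isNilpotent_iff_lowerCentralSeries _).mp hnil
    rw [Subgroup.isNilpotent_iff_lowerCentralSeries]
    refine ⟨k₁, ?_⟩
    have h1 : H₁.lowerCentralSeries k₁ ≤ M := by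
      have := Subgroup.map_lowerCentralSeries (S := H₁) (QuotientGroup.mk' M) k₁
      rw [hk₁, Subgroup.map_eq_bot_iff, QuotientGroup.ker_mk'] at this
      exact this
    rw [← Subgroup.map_lowerCentralSeries, Subgroup.map_eq_bot_iff, hker₁]
    exact h1.trans (hMR.trans hRD)
  have hk' : ∃ k : ℕ, (H.map (QuotientGroup.mk' D₁)).lowerCentralSeries k ≤
      H₁.map (QuotientGroup.mk' D₁) := by
    obtain ⟨k, hk⟩ := hk
    refine ⟨k, ?_⟩
    rw [← Subgroup.map_lowerCentralSeries]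
    exact Subgroup.map_mono hk
  have hτmem : (QuotientGroup.mk' D₁ x) ^ (2 ^ n) ∈ Subgroup.zpowers (QuotientGroup.mk' D₁ x) :=
    Subgroup.pow_mem _ (Subgroup.mem_zpowers _) _
  -- the Frattini subgroup of `R` is normal
  have hsec : Sec R ((frattini ↥R).map R.subtype) (⊤ : Subgroup Γ) :=
    Cfsg.Agent.Lib.Helper5.PPGB.ppgb_sec R r hRp
  have hΦn : ∀ g : Γ, ∀ a ∈ (frattini ↥R).map R.subtype, g * a * g⁻¹ ∈ (frattini ↥R).map R.subtype :=
    fun g a ha => hsec.normU g (Subgroup.mem_top g) a ha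
  -- the hypothesis `hcen` of G2-NN in the quotient
  have hcen : ∀ t q : ℕ, t.Prime → q.Prime → q ≠ t →
      ∀ T : Subgroup (Γ ⧸ D₁), T ≤ H.map (QuotientGroup.mk' D₁) → IsPGroup t T →
      (∀ a ∈ T, (QuotientGroup.mk' D₁ x) * a * (QuotientGroup.mk' D₁ x)⁻¹ ∈ T) →
      ∀ P : Subgroup (Γ ⧸ D₁), P.Normal → P ≤ H₁.map (QuotientGroup.mk' D₁) → IsPGroup q P →
      ∀ a ∈ T, ∀ u ∈ P,
        (a⁻¹ * (QuotientGroup.mk' D₁ x) ^ (2 ^ n) * a * ((QuotientGroup.mk' D₁ x) ^ (2 ^ n))⁻¹) * u =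
          u * (a⁻¹ * (QuotientGroup.mk' D₁ x) ^ (2 ^ n) * a *
            ((QuotientGroup.mk' D₁ x) ^ (2 ^ n))⁻¹) := by
    intro t q ht hq' hqt T hTH hT hxT P hPn hPH hP a ha u hu
    haveI : Fact q.Prime := ⟨hq'⟩
    by_cases hqr : q = r
    · -- `u` is the image of an `r`-element of `H₁`, which lies in `R ≤ D₁`
      subst hqr
      obtain ⟨y, hy, k', hk'⟩ := Cfsg.Agent.Lib.Helper7.SylNorm.exists_lift_qElt D₁ u
        (orderOf_eq_pow_of_mem hq' hP u hu)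
      have hyH : y ∈ H₁ := mem_of_mk_mem_map D₁ H₁ hD1H y (by rw [hy]; exact hPH hu)
      have hyR : y ∈ R := hrel y hyH ⟨k', by rw [← hk']; exact pow_orderOf_eq_one y⟩
      have hu1 : u = 1 := by
        rw [← hy]
        exact (QuotientGroup.eq_one_iff y).mpr (hRD hyR)
      rw [hu1, mul_one, one_mul]
    · -- `q ≠ r`: G2-GB and Burnside
      set c := a⁻¹ * (QuotientGroup.mk' D₁ x) ^ (2 ^ n) * a * ((QuotientGroup.mk' D₁ x) ^ (2 ^ n))⁻¹
        with hc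
      have hwP : c * u * c⁻¹ * u⁻¹ ∈ P := P.mul_mem (hPn.conj_mem u hu c) (P.inv_mem hu)
      obtain ⟨w, hw, k', hk'⟩ := Cfsg.Agent.Lib.Helper7.SylNorm.exists_lift_qElt D₁
        (c * u * c⁻¹ * u⁻¹) (orderOf_eq_pow_of_mem hq' hP _ hwP)
      have hwH : w ∈ H₁ := mem_of_mk_mem_map D₁ H₁ hD1H w (by rw [hw]; exact hPH hwP)
      have hPG : P ≤ G.map (QuotientGroup.mk' D₁) :=
        hPH.trans (Subgroup.map_mono (h1H.trans hHG))
      have hTG : T ≤ G.map (QuotientGroup.mk' D₁) := hTH.trans (Subgroup.map_mono hHG)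
      have key := hGB hMT h n hx R hRG r hr hRp D₁ hD₁G hDR q t hq' ht hqr hqt P T hPG hTG hP hT
        (fun u hu => hPn.conj_mem u hu _) hxT (fun a _ u hu => hPn.conj_mem u hu a) a ha u hu w hw
      have hwK : w ∈ trivSub R ((frattini ↥R).map R.subtype) hΦn := key
      have hcent : Subgroup.zpowers w ≤ Subgroup.centralizer (R : Set Γ) := by
        apply Cfsg.Agent.Lib.Lead.coprime_trivial_on_frattini_quotient (Subgroup.zpowers w) R
        · rw [Subgroup.normalizer_eq_top]; exact le_top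
        · have h1 : IsPGroup q (Subgroup.zpowers w) := by
            apply IsPGroup.of_card (n := k')
            rw [Nat.card_zpowers, hk']
          have h2 : IsPGroup r (frattini ↥R) := hRp.to_subgroup _
          exact IsPGroup.coprime_card_of_ne q r hqr _ _ h1 h2
        · intro b hb v hv
          exact (Subgroup.zpowers_le.mpr hwK) hb v hv
      have hwC : w ∈ H₁ ⊓ Subgroup.centralizer (R : Set Γ) :=
        ⟨hwH, hcent (Subgroup.mem_zpowers w)⟩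
      have hw1 : c * u * c⁻¹ * u⁻¹ = 1 := by
        rw [← hw]
        exact (QuotientGroup.eq_one_iff w).mpr (hCD hwC)
      calc c * u = (c * u * c⁻¹ * u⁻¹) * u * c := by group
        _ = u * c := by rw [hw1, one_mul]
  obtain ⟨Dt, hDtH, hDtn, hDtnil, hDtτ⟩ := hNN hq ((QuotientGroup.mk' D₁ x) ^ (2 ^ n)) hτmem
    (H₁.map (QuotientGroup.mk' D₁)) (H.map (QuotientGroup.mk' D₁)) (Subgroup.map_mono hHG)
    (Subgroup.map_mono h1H) hnil₁ hk' hcen
  refine ⟨D₁, Dt.comap (QuotientGroup.mk' D₁), ?_, ?_, hD₁n, hDtn.comap _, hD₁nil, ?_, ?_⟩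
  · intro g hg
    rw [Subgroup.mem_comap]
    have h1 : QuotientGroup.mk' D₁ g = 1 := (QuotientGroup.eq_one_iff g).mpr hg
    rw [h1]
    exact Dt.one_mem
  · intro g hg
    exact mem_of_mk_mem_map D₁ H hD₁H g (hDtH hg)
  · obtain ⟨k₂, hk₂⟩ := (Subgroup.isNilpotent_iff_lowerCentralSeries _).mp hDtnil
    refine ⟨k₂, ?_⟩
    have := Subgroup.map_lowerCentralSeries (S := Dt.comap (QuotientGroup.mk' D₁))
      (QuotientGroup.mk' D₁) k₂
    rw [Subgroup.map_comap_eq_self_of_surjective hπ₁s, hk₂, Subgroup.map_eq_bot_iff, hker₁] at this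
    exact this
  · intro g hg
    rw [Subgroup.mem_comap]
    have := hDtτ (QuotientGroup.mk' D₁ g) (Subgroup.mem_map_of_mem _ hg)
    simpa only [map_mul, map_inv, map_pow] using this

end

end Cfsg.Agent.Lib.Helper8.GR2C
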