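import Mathlib
import Cfsg.Agent.Lib.Helper3.GR2Defs
import Cfsg.Agent.Lib.Helper3.GR2NN
import Cfsg.Agent.Lib.Helper3.GR2GB
import Cfsg.Agent.Lib.Helper8.GR2C

set_option autoImplicit false
set_option linter.unusedVariables false
set_option linter.unusedSectionVars false

/-!
# S3795 (Gross, `p = 2`), package G2-C, final form: `kt2_step`

Assembled from `kt2_step_of` (Helper8/GR2C) and the landed packages G2-NN (Helper3/GR2NN) and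
G2-GB (Helper3/GR2GB).
-/

namespace Cfsg.Agent.Lib.Helper8.GR2C

open Cfsg.Agent.Lib.Helper3.GR2 Cfsg.Agent.Lib.Helper4.SecMod

universe u

section

variable {Γ : Type u} [Group Γ] [Finite Γ]

/-- G2-C: the two-layer step. -/
theorem kt2_step (hMT : MT3Statement.{u}) {G : Subgroup Γ} {x : Γ} (h : PPS2 G x) (n : ℕ)
    (hx : ∀ g ∈ G, x ^ (2 ^ (n + 1)) * g = g * x ^ (2 ^ (n + 1)))
    (H₁ H M : Subgroup Γ) [H₁.Normal] [H.Normal] [M.Normal] (hHG : H ≤ G) (h1H : H₁ ≤ H)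
    (hM1 : M ≤ H₁) (r : ℕ) (hr : r.Prime) (hM : IsPGroup r M)
    (hnil : Group.IsNilpotent (H₁.map (QuotientGroup.mk' M)))
    (hk : ∃ k : ℕ, H.lowerCentralSeries k ≤ H₁) :
    ∃ D₁ D₂ : Subgroup Γ, D₁ ≤ D₂ ∧ D₂ ≤ H ∧ D₁.Normal ∧ D₂.Normal ∧ Group.IsNilpotent D₁ ∧
      (∃ k : ℕ, D₂.lowerCentralSeries k ≤ D₁) ∧
      ∀ g ∈ H, g⁻¹ * x ^ (2 ^ n) * g * (x ^ (2 ^ n))⁻¹ ∈ D₂ :=
  kt2_step_of
    (fun h τ hτ H₁ H _ _ hHG h1H hnil hk hcen =>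
      Cfsg.Agent.Lib.Helper3.GR2NN.nn_step h τ hτ H₁ H hHG h1H hnil hk hcen)
    (fun hMT _ _ h n hx R _ hRG r hr hR D _ hDG hDR q t hq ht hqr hqt P T hPG hTG hP hT hxP hxT hTP =>
      Cfsg.Agent.Lib.Helper3.GR2GB.cen_of_mt3 hMT h n hx R hRG r hr hR D hDG hDR q t hq ht hqr hqt
        P T hPG hTG hP hT hxP hxT hTP)
    hMT h n hx H₁ H M hHG h1H hM1 r hr hM hnil hk

end

end Cfsg.Agent.Lib.Helper8.GR2C
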