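import Mathlib
import Cfsg.Prelude.Def_Characters
import Cfsg.Agent.Lib.Helper2.OmMin.Defs
import Cfsg.Agent.Lib.Helper4.Characters
import Cfsg.Agent.Lib.Helper6.OmMin_H
import Cfsg.Agent.Lib.Helper6.OmMin_M
import Cfsg.Agent.Lib.Helper3.OmMin_CHAR
import Cfsg.Agent.Lib.Helper3.OmMin_ABS3
import Cfsg.Agent.Lib.Lead.OmMin_ABS1

set_option autoImplicit false
set_option linter.unusedSectionVars false

/-!
# S2346 PK-RAD : multiplicity one forces the Siegel radical of `Ω(W)` to act trivially (`rad_trivial`)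
-/

namespace Cfsg.Agent.Lib.Helper2.OmMin

open Matrix Cfsg Cfsg.Agent.Lib.Helper2.HypExt Cfsg.Agent.Lib.Helper2.Siegel
open Cfsg.Agent.Lib.Helper2.LongRoot Cfsg.Agent.Lib.Helper1.SUMin Cfsg.Agent.Lib.Helper4.SLMin
open Cfsg.Agent.Lib.Helper4.SLMin.PkA
open scoped ComplexConjugate

universe u

namespace PkRAD

section gen
variable {F : Type u} [Field F] {ι : Type} [Fintype ι] [DecidableEq ι]

/-- the additive automorphism of `ι → F` given by an invertible matrix -/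
noncomputable def glEquiv (g : Matrix.GeneralLinearGroup ι F) : (ι → F) ≃+ (ι → F) where
  toFun x := (g : Matrix ι ι F) *ᵥ x
  invFun x := ((g⁻¹ : Matrix.GeneralLinearGroup ι F) : Matrix ι ι F) *ᵥ x
  left_inv x := by
    show ((g⁻¹ : Matrix.GeneralLinearGroup ι F) : Matrix ι ι F) *ᵥ ((g : Matrix ι ι F) *ᵥ x) = x
    rw [Matrix.mulVec_mulVec, ← Units.val_mul, inv_mul_cancel, Units.val_one, Matrix.one_mulVec]
  right_inv x := by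
    show (g : Matrix ι ι F) *ᵥ (((g⁻¹ : Matrix.GeneralLinearGroup ι F) : Matrix ι ι F) *ᵥ x) = x
    rw [Matrix.mulVec_mulVec, ← Units.val_mul, mul_inv_cancel, Units.val_one, Matrix.one_mulVec]
  map_add' x y := Matrix.mulVec_add _ x y

theorem glEquiv_apply (g : Matrix.GeneralLinearGroup ι F) (x : ι → F) :
    glEquiv g x = (g : Matrix ι ι F) *ᵥ x := rfl

end gen

section S
variable {F : Type u} [Field F] [Fintype F] [DecidableEq F] {κ : Type} [Fintype κ] [DecidableEq κ]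
variable {W : QuadraticForm F (κ → F)} (hW : (QuadraticMap.polarBilin W).Nondegenerate)

/-- an element of `Ω(HQ W)` of the form `jO W g`, with `g` fixing `u`, lies in the inertia group of
`psiU u` on the opposite radical -/
theorem mem_invStab_of_fix (h3 : 3 ≤ Fintype.card κ) (ψ0 : AddChar F ℂ) (u : κ → F)
    (g : ↥(Cfsg.isometryGroup F ⇑W)) (n : ↥(Cfsg.Omega F ⇑(HQ W)))
    (hn : (n : ↥(Cfsg.isometryGroup F ⇑(HQ W))) = jO W g)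
    (hgu : ((g : Matrix.GeneralLinearGroup κ F) : Matrix κ κ F) *ᵥ u = u) :
    n ∈ invStab (qfΩ hW) (psiU ψ0 W u) := by
  refine ⟨glEquiv (g : Matrix.GeneralLinearGroup κ F), fun a => ?_, fun a => ?_⟩
  · rw [conj_qfΩ hW h3 g n hn a]
    rfl
  · rw [glEquiv_apply]
    conv_lhs => rw [← hgu]
    exact psiU_iso ψ0 g u a

theorem jO_fix_e (g : ↥(Cfsg.isometryGroup F ⇑W)) :
    ((jO W g : Matrix.GeneralLinearGroup (Fin 2 ⊕ κ) F) : Matrix (Fin 2 ⊕ κ) (Fin 2 ⊕ κ) F) *ᵥ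
      (mk3 1 0 0) = mk3 1 0 0 := by
  rw [jO_mulVec, tl_mk3, Matrix.mulVec_zero, mk3_zero, mk3_one]

theorem qe_fix_e (w : κ → F) :
    ((qe hW w : Matrix.GeneralLinearGroup (Fin 2 ⊕ κ) F) : Matrix (Fin 2 ⊕ κ) (Fin 2 ⊕ κ) F) *ᵥ
      (mk3 1 0 0) = mk3 1 0 0 := by
  rw [qe_mulVec, tl_mk3, mk3_zero, mk3_one, QuadraticMap.polar_zero_right, mul_zero, sub_zero,
    sub_zero, zero_smul, add_zero]

/-- conjugating the embedded Siegel radical `jΩ (qeΩ y)` by (the image in `Ω(HQ (HQ W))` of) an Eichler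
element of `O(W)` -/
theorem isoAvg_conj_eich (h3 : 3 ≤ Fintype.card κ) (ψ0 : AddChar F ℂ)
    {χ : ↥(Cfsg.Omega F ⇑(HQ (HQ W))) → ℂ} (hχ : IsCharacter ↥(Cfsg.Omega F ⇑(HQ (HQ W))) χ)
    (u y' : κ → F) (y : κ → F) :
    isoAvg (qfΩ (HQ_nondeg _ hW)) (psiU ψ0 (HQ W) (mk3 1 0 0)) χ
        (jΩ (HQ W) (qeΩ hW (((eich hW u y' : Matrix.GeneralLinearGroup κ F) : Matrix κ κ F) *ᵥ y))) =
      isoAvg (qfΩ (HQ_nondeg _ hW)) (psiU ψ0 (HQ W) (mk3 1 0 0)) χ (jΩ (HQ W) (qeΩ hW y)) := by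
  have h3b : 3 ≤ Fintype.card (Fin 2 ⊕ κ) := by
    rw [Fintype.card_sum, Fintype.card_fin]; omega
  have h5 : 5 ≤ Fintype.card (Fin 2 ⊕ (Fin 2 ⊕ κ)) := by
    rw [Fintype.card_sum, Fintype.card_sum, Fintype.card_fin]; omega
  have : Fintype ↥(Cfsg.Omega F ⇑(HQ (HQ W))) := Fintype.ofFinite _
  -- the conjugating element
  have hmem := eich_mem_Omega (HQ_nondeg _ (HQ_nondeg W hW)) h5 (mk3 0 0 (mk3 0 0 u))
    (mk3 0 0 (mk3 0 0 y'))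
  have hn : ((⟨_, hmem⟩ : ↥(Cfsg.Omega F ⇑(HQ (HQ W)))) : ↥(Cfsg.isometryGroup F ⇑(HQ (HQ W)))) =
      jO (HQ W) (jO W (eich hW u y')) := by
    rw [jO_eich, jO_eich]
  obtain ⟨n, hn'⟩ : ∃ n : ↥(Cfsg.Omega F ⇑(HQ (HQ W))),
      (n : ↥(Cfsg.isometryGroup F ⇑(HQ (HQ W)))) = jO (HQ W) (jO W (eich hW u y')) := ⟨_, hn⟩
  have hconj : n * jΩ (HQ W) (qeΩ hW y) * n⁻¹ =
      jΩ (HQ W) (qeΩ hW (((eich hW u y' : Matrix.GeneralLinearGroup κ F) : Matrix κ κ F) *ᵥ y)) := by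
    apply Subtype.ext
    rw [Subgroup.coe_mul, Subgroup.coe_mul, Subgroup.coe_inv, hn', jΩ_coe, jΩ_coe, qeΩ_coe hW h3,
      qeΩ_coe hW h3, ← map_inv, ← map_mul, ← map_mul, jO_conj_qe]
  rw [← hconj]
  exact isoAvg_conj_param (Cfsg.Agent.Lib.Helper4.isClassFunction_of_isCharacter hχ) _ _ n
    (glEquiv ((jO W (eich hW u y') : ↥(Cfsg.isometryGroup F ⇑(HQ W))) :
      Matrix.GeneralLinearGroup (Fin 2 ⊕ κ) F))
    (fun a => conj_qfΩ (HQ_nondeg _ hW) h3b _ n hn' a) _ _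
    (fun a => by
      rw [glEquiv_apply]
      have h := psiU_iso (Q := HQ W) ψ0 (jO W (eich hW u y')) (mk3 1 0 0) a
      rw [jO_fix_e] at h
      exact h) _

end S

end PkRAD

section S
variable {F : Type u} [Field F] [Fintype F] [DecidableEq F] {κ : Type} [Fintype κ] [DecidableEq κ]
variable {W₄ : QuadraticForm F (κ → F)} (hW₄ : (QuadraticMap.polarBilin W₄).Nondegenerate)

/-- PK-RAD: if the character `psiU h` (`h = mk3 1 0 0` the first hyperbolic vector of `W = HQ (HQ W₄)`) of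
the opposite radical `qfΩ` has multiplicity one in `χ`, then the Siegel radical of `Ω(W)` at `h`
acts trivially on its eigenline. -/
theorem rad_trivial (h1 : 1 ≤ Fintype.card κ) (ψ0 : AddChar F ℂ) (hψ0 : ψ0 ≠ 1)
    {χ : ↥(Cfsg.Omega F ⇑(HQ (HQ (HQ W₄)))) → ℂ}
    (hχ : IsCharacter ↥(Cfsg.Omega F ⇑(HQ (HQ (HQ W₄)))) χ)
    (hm : isoAvg (qfΩ (HQ_nondeg _ (HQ_nondeg W₄ hW₄))) (psiU ψ0 (HQ (HQ W₄)) (mk3 1 0 0)) χ 1 = 1)
    (y₂ : Fin 2 ⊕ κ → F) :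
    isoAvg (qfΩ (HQ_nondeg _ (HQ_nondeg W₄ hW₄))) (psiU ψ0 (HQ (HQ W₄)) (mk3 1 0 0)) χ
      (jΩ (HQ (HQ W₄)) (qeΩ (HQ_nondeg W₄ hW₄) y₂)) = 1 := by
  have : Fintype ↥(Cfsg.Omega F ⇑(HQ (HQ (HQ W₄)))) := Fintype.ofFinite _
  have h3a : 3 ≤ Fintype.card (Fin 2 ⊕ κ) := by
    rw [Fintype.card_sum, Fintype.card_fin]; omega
  have h3b : 3 ≤ Fintype.card (Fin 2 ⊕ (Fin 2 ⊕ κ)) := by
    rw [Fintype.card_sum, Fintype.card_sum, Fintype.card_fin]; omega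
  -- membership in the inertia group
  have hmem : ∀ y, jΩ (HQ (HQ W₄)) (qeΩ (HQ_nondeg W₄ hW₄) y) ∈
      invStab (qfΩ (HQ_nondeg _ (HQ_nondeg W₄ hW₄))) (psiU ψ0 (HQ (HQ W₄)) (mk3 1 0 0)) := fun y =>
    PkRAD.mem_invStab_of_fix (HQ_nondeg _ (HQ_nondeg W₄ hW₄)) h3b ψ0 (mk3 1 0 0)
      (qe (HQ_nondeg W₄ hW₄) y) _ (by rw [jΩ_coe, qeΩ_coe _ h3a]) (PkRAD.qe_fix_e _ y)
  have hq0 : qeΩ (HQ_nondeg W₄ hW₄) 0 = 1 := by
    have h := qeΩ_add (HQ_nondeg W₄ hW₄) h3a 0 0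
    rw [add_zero] at h
    exact mul_eq_left.1 h.symm
  -- the additive character
  obtain ⟨φ, hφ⟩ : ∃ φ : AddChar (Fin 2 ⊕ κ → F) ℂ, ∀ y, φ y =
      isoAvg (qfΩ (HQ_nondeg _ (HQ_nondeg W₄ hW₄))) (psiU ψ0 (HQ (HQ W₄)) (mk3 1 0 0)) χ
        (jΩ (HQ (HQ W₄)) (qeΩ (HQ_nondeg W₄ hW₄) y)) := by
    refine ⟨⟨fun y => isoAvg (qfΩ (HQ_nondeg _ (HQ_nondeg W₄ hW₄)))
      (psiU ψ0 (HQ (HQ W₄)) (mk3 1 0 0)) χ (jΩ (HQ (HQ W₄)) (qeΩ (HQ_nondeg W₄ hW₄) y)), ?_, ?_⟩,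
      fun y => rfl⟩
    · show isoAvg _ _ χ (jΩ (HQ (HQ W₄)) (qeΩ (HQ_nondeg W₄ hW₄) 0)) = 1
      rw [hq0, map_one]
      exact hm
    · intro a b
      show isoAvg _ _ χ (jΩ (HQ (HQ W₄)) (qeΩ (HQ_nondeg W₄ hW₄) (a + b))) = _
      rw [qeΩ_add _ h3a, map_mul]
      exact isoAvg_mul_of_mult_one hχ _ (qfΩ_add _ h3b) _ hm (hmem a) (hmem b)
  obtain ⟨v₀, hv₀⟩ := (psiU_bijective (HQ_nondeg W₄ hW₄) ψ0 hψ0).2 φ
  -- invariance under the Eichler elements of `O(HQ W₄)`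
  have hfix : ∀ u y' : Fin 2 ⊕ κ → F,
      ((eich (HQ_nondeg W₄ hW₄) u y' : Matrix.GeneralLinearGroup (Fin 2 ⊕ κ) F) :
        Matrix (Fin 2 ⊕ κ) (Fin 2 ⊕ κ) F) *ᵥ v₀ = v₀ := by
    intro u y'
    apply (psiU_bijective (HQ_nondeg W₄ hW₄) ψ0 hψ0).1
    apply DFunLike.ext
    intro z
    obtain ⟨y, rfl⟩ : ∃ y, ((eich (HQ_nondeg W₄ hW₄) u y' : Matrix.GeneralLinearGroup (Fin 2 ⊕ κ) F) :
        Matrix (Fin 2 ⊕ κ) (Fin 2 ⊕ κ) F) *ᵥ y = z :=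
      ⟨(PkRAD.glEquiv _).symm z, (PkRAD.glEquiv _).apply_symm_apply z⟩
    rw [psiU_iso, hv₀, hφ, hφ]
    exact (PkRAD.isoAvg_conj_eich (HQ_nondeg W₄ hW₄) h3a ψ0 hχ u y' y).symm
  have hv0 : v₀ = 0 := no_fixed_vector hW₄ h1 v₀ (fun y => hfix _ _) (fun y => hfix _ _)
  rw [← hφ, ← hv₀, hv0, psiU_zero]
  rfl

end S

end Cfsg.Agent.Lib.Helper2.OmMin
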