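import Mathlib
import Cfsg.Prelude
import Cfsg.Agent.Lib.Helper2.PGUMeoDefs

set_option autoImplicit false

namespace Cfsg.Agent.Lib.PGUMeo

theorem nn_le (q D : ℕ) : nn q D ≤ q ^ D + 1 := by
  unfold nn
  split_ifs <;> omega

theorem dvd_nn (q D : ℕ) (hD : 1 ≤ D) : (q + 1) ∣ nn q D := by
  unfold nn
  split_ifs with h
  · obtain ⟨k, rfl⟩ := h
    have h1 : q ^ 2 - 1 ∣ (q ^ 2) ^ k - 1 ^ k := Nat.sub_dvd_pow_sub_pow (q ^ 2) 1 k
    rw [one_pow, ← pow_mul, show 2 * k = k + k by ring] at h1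
    refine dvd_trans ?_ h1
    refine ⟨q - 1, ?_⟩
    rcases Nat.eq_zero_or_pos q with h0 | h0
    · subst h0; simp
    · obtain ⟨r, rfl⟩ : ∃ r, q = r + 1 := ⟨q - 1, by omega⟩
      have : (r + 1) ^ 2 = r * r + 2 * r + 1 := by ring
      rw [this, show r + 1 + 1 = r + 2 by ring, Nat.add_sub_cancel, Nat.add_sub_cancel]
      ring
  · have h' : Odd D := Nat.not_even_iff_odd.1 h
    have := Odd.nat_add_dvd_pow_add_pow q 1 h'
    rwa [one_pow] at this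

theorem NN_mul (q D : ℕ) (hD : 1 ≤ D) : NN q D * (q + 1) = nn q D :=
  Nat.div_mul_cancel (dvd_nn q D hD)

theorem nn_pos (q D : ℕ) (hq : 2 ≤ q) (hD : 1 ≤ D) : 0 < nn q D := by
  unfold nn
  have h1 : 2 ≤ q ^ D := by
    calc 2 ≤ q := hq
      _ = q ^ 1 := (pow_one q).symm
      _ ≤ q ^ D := Nat.pow_le_pow_right (by omega) hD
  split_ifs <;> omega

theorem NN_pos (q D : ℕ) (hq : 2 ≤ q) (hD : 1 ≤ D) : 0 < NN q D := by
  have h1 := NN_mul q D hD
  have h2 := nn_pos q D hq hD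
  rcases Nat.eq_zero_or_pos (NN q D) with h | h
  · rw [h, zero_mul] at h1; omega
  · exact h

theorem NN_le (q D : ℕ) (hq : 2 ≤ q) (hD : 1 ≤ D) : NN q D ≤ q ^ (D - 1) := by
  have h1 := NN_mul q D hD
  have h2 := nn_le q D
  have h3 : q ^ D = q ^ (D - 1) * q := by
    rw [← pow_succ]; congr 1; omega
  have h4 : 1 ≤ q ^ (D - 1) := Nat.one_le_pow _ _ (by omega)
  have h5 : NN q D * (q + 1) ≤ q ^ (D - 1) * (q + 1) := by
    rw [h1, mul_add, mul_one, ← h3]; omega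
  exact Nat.le_of_mul_le_mul_right h5 (by omega)

end Cfsg.Agent.Lib.PGUMeo
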