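import Mathlib
import Cfsg.Prelude
import Cfsg.Agent.Lib.Helper2.PGUMeoDefs
import Cfsg.Agent.Lib.Helper8.PGUMeoNum0
import Cfsg.Agent.Lib.Helper5.SingerModel
import Cfsg.Agent.Lib.Helper4.MeoF3

/-!
# S2263, package BLOCK: the block of an irreducible factor of a `dag`-stable polynomial
-/

set_option autoImplicit false

namespace Cfsg.Agent.Lib.PGUMeo

open Polynomial Cfsg.Agent.Lib.Helper5.SSOrder Cfsg.Agent.S0278 Cfsg.Agent.Lib.Helper5.PGUr
open Cfsg.Agent.Lib.Helper5.Pal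

/-- `dag` of a monic irreducible polynomial with nonzero constant
term is monic irreducible of the same degree with nonzero constant term -/
theorem dag_irreducible {K : Type*} [Field K] [Fintype K] {q : ℕ} (hK : Fintype.card K = q ^ 2)
    (π : K[X]) (hπ : Irreducible π) (hm : π.Monic) (h0 : π.coeff 0 ≠ 0) :
    Irreducible (dag hK π) ∧ (dag hK π).Monic ∧ (dag hK π).coeff 0 ≠ 0 ∧
      (dag hK π).natDegree = π.natDegree := by
  have h1 : Irreducible (π.map (powQ hK)) := irreducible_map_powQ hK hπ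
  have h2 : (π.map (powQ hK)).Monic := hm.map _
  have h3 : (π.map (powQ hK)).coeff 0 ≠ 0 := by
    rw [coeff_map]; exact (_root_.map_ne_zero _).2 h0
  refine ⟨irreducible_rc h1 h3, rc_monic h3, ?_, ?_⟩
  · rw [dag, coeff_zero_rc h2]; exact inv_ne_zero h3
  · rw [dag, rc_natDegree h3, natDegree_map]

/-- if `y ≠ 0` is a root of `f` then `(y^q)⁻¹` is a root of `dag f`. -/
theorem aeval_dag_inv {K : Type*} [Field K] [Fintype K] {q : ℕ} (hK : Fintype.card K = q ^ 2)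
    {L : Type*} [Field L] [Algebra K L] (f : K[X]) (y : L) (hy0 : y ≠ 0)
    (hy : aeval y f = 0) : aeval ((y ^ q)⁻¹) (dag hK f) = 0 := by
  obtain ⟨p, hp⟩ := CharP.exists K
  have : Fact p.Prime := ⟨CharP.char_is_prime K p⟩
  have hq0 : q ≠ 0 := by
    intro h
    rw [h] at hK
    simp at hK
  have h1 : aeval (y ^ q) (f.map (powQ hK)) = 0 := by
    rw [frobQ hK p f y, hy, zero_pow hq0]
  rw [dag, rc, map_mul]
  let _inst : Invertible (y ^ q) := invertibleOfNonzero (pow_ne_zero _ hy0)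
  have h2 : eval₂ (algebraMap K L) (⅟(y ^ q)) (reverse (f.map (powQ hK))) = 0 := by
    rw [Polynomial.eval₂_reverse_eq_zero_iff]
    exact h1
  rw [invOf_eq_inv] at h2
  rw [aeval_def (p := reverse _), h2, mul_zero]

theorem block {K : Type*} [Field K] [Fintype K] {q : ℕ} (hK : Fintype.card K = q ^ 2)
    (π : K[X]) (hπ : Irreducible π) (hm : π.Monic) (h0 : π.coeff 0 ≠ 0) :
    (dag hK π = π ∧ ∃ ζ : K, ζ ^ (q + 1) = 1 ∧ π ∣ X ^ (NN q π.natDegree) - C ζ) ∨
    (dag hK π ≠ π ∧ ∃ ζ : K, ζ ^ (q + 1) = 1 ∧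
      π * dag hK π ∣ X ^ (NN q (2 * π.natDegree)) - C ζ) := by
  classical
  obtain ⟨p, hp⟩ := CharP.exists K
  have : Fact p.Prime := ⟨CharP.char_is_prime K p⟩
  have : Fact (Irreducible π) := ⟨hπ⟩
  have hπ0 : π ≠ 0 := hπ.ne_zero
  set k := π.natDegree with hk
  have hk0 : 0 < k := hπ.natDegree_pos
  have : Module.Finite K (AdjoinRoot π) := (AdjoinRoot.powerBasis hπ0).finite
  have : Finite (AdjoinRoot π) := Module.finite_of_finite K
  have : Fintype (AdjoinRoot π) := Fintype.ofFinite _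
  have hcardL : Fintype.card (AdjoinRoot π) = (q ^ 2) ^ k := by
    rw [Module.card_eq_pow_finrank (K := K) (V := AdjoinRoot π), hK]
    congr 1
    exact finrank_quotient_span_eq_natDegree
  set x := AdjoinRoot.root π with hx
  have hx0 : x ≠ 0 := Cfsg.Agent.Lib.Helper5.SpReal.root_ne_zero π hm hπ h0
  have hroot : aeval x π = 0 := by
    rw [AdjoinRoot.aeval_eq, AdjoinRoot.mk_self]
  have hq0 : q ≠ 0 := by
    intro h
    rw [h] at hK
    simp at hK
  have hq2 : 2 ≤ q := by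
    have h1 : 1 < Fintype.card K := Fintype.one_lt_card
    rw [hK] at h1
    by_contra hcon
    have : q = 1 := by omega
    rw [this] at h1
    simp at h1
  -- x^(q^(2k)-1) = 1
  have hxL : x ^ (q ^ (2 * k) - 1) = 1 := by
    have := FiniteField.pow_card_sub_one_eq_one x hx0
    rwa [hcardL, ← pow_mul] at this
  have hxL' : ∀ y : AdjoinRoot π, y ^ ((q ^ 2) ^ k) = y := by
    intro y
    rw [← hcardL, FiniteField.pow_card]
  -- injectivity of `y ↦ y ^ (q^2)`
  have hinj : ∀ a b : AdjoinRoot π, a ^ (q ^ 2) = b ^ (q ^ 2) → a = b := by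
    intro a b hab
    have h1 : ∀ y : AdjoinRoot π, (y ^ (q ^ 2)) ^ ((q ^ 2) ^ (k - 1)) = y := by
      intro y
      rw [← pow_mul, ← pow_succ', show k - 1 + 1 = k by omega, hxL']
    rw [← h1 a, ← h1 b, hab]
  -- root of dag
  have hdagroot : aeval ((x ^ q)⁻¹) (dag hK π) = 0 := aeval_dag_inv hK π x hx0 hroot
  -- the general construction
  have key : ∀ N : ℕ, x ^ (N * (q + 1)) = 1 → ∃ ζ : K, ζ ^ (q + 1) = 1 ∧
      algebraMap K (AdjoinRoot π) ζ = x ^ N ∧ π ∣ X ^ N - C ζ := by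
    intro N hN
    have h1 : (x ^ N) ^ (Fintype.card K - 1) = 1 := by
      have h2 : Fintype.card K - 1 = (q + 1) * (q - 1) := by
        rw [hK]
        obtain ⟨r, rfl⟩ : ∃ r, q = r + 1 := ⟨q - 1, by omega⟩
        have : (r + 1) ^ 2 = r * r + 2 * r + 1 := by ring
        rw [this, Nat.add_sub_cancel, Nat.add_sub_cancel]
        ring
      rw [h2, ← pow_mul, ← mul_assoc, pow_mul, hN, one_pow]
    obtain ⟨ζ, hζ⟩ := Cfsg.Agent.Lib.Helper5.SingerModel.mem_range_of_pow_eq_one (F := K) (x ^ N) h1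
    refine ⟨ζ, ?_, hζ, ?_⟩
    · apply (algebraMap K (AdjoinRoot π)).injective
      rw [map_pow, hζ, ← pow_mul, hN, map_one]
    · rw [← AdjoinRoot.mk_eq_zero, map_sub, map_pow, AdjoinRoot.mk_X, AdjoinRoot.mk_C,
        ← AdjoinRoot.algebraMap_eq, hζ, sub_self]
  by_cases hd : dag hK π = π
  · left
    refine ⟨hd, ?_⟩
    rw [hd] at hdagroot
    have hrinv : π.eval₂ (Algebra.ofId K (AdjoinRoot π) : K →+* AdjoinRoot π) ((x ^ q)⁻¹) = 0 :=
      hdagroot
    let τ₀ : AdjoinRoot π →ₐ[K] AdjoinRoot π :=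
      AdjoinRoot.liftAlgHom π (Algebra.ofId K (AdjoinRoot π)) ((x ^ q)⁻¹) hrinv
    have hτ₀ : τ₀ x = (x ^ q)⁻¹ := AdjoinRoot.liftAlgHom_root π _ _ hrinv
    have hbij : Function.Bijective τ₀ :=
      (Finite.injective_iff_bijective).mp τ₀.toRingHom.injective
    let τ : AdjoinRoot π ≃ₐ[K] AdjoinRoot π := AlgEquiv.ofBijective τ₀ hbij
    obtain ⟨i, hi⟩ := FiniteField.exists_forall_apply_eq_pow K p (AdjoinRoot π) τ
    have hi' : (x ^ q)⁻¹ = x ^ ((q ^ 2) ^ i) := by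
      have := hi x
      rw [Nat.card_eq_fintype_card, hK] at this
      rw [← this, ← hτ₀]
      rfl
    -- reduce `i` to `1 ≤ i' ≤ k`
    obtain ⟨i', hi1, hi2, hi3⟩ : ∃ i' : ℕ, 1 ≤ i' ∧ i' ≤ k ∧ (x ^ q)⁻¹ = x ^ ((q ^ 2) ^ i') := by
      have hmod : x ^ ((q ^ 2) ^ i) = x ^ ((q ^ 2) ^ (i % k)) :=
        Cfsg.Agent.Lib.MeoF3.pow_card_pow_mod (q ^ 2) k hcardL x i
      by_cases hik : i % k = 0
      · refine ⟨k, hk0, le_refl _, ?_⟩
        rw [hi', hmod, hik, pow_zero, pow_one, hxL']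
      · exact ⟨i % k, by omega, (Nat.mod_lt _ hk0).le, by rw [hi', hmod]⟩
    -- x^(q^2) = x^((q^2)^(2i'))
    have h5 : x ^ (q ^ 2) = x ^ ((q ^ 2) ^ (2 * i')) := by
      have e1 : (((x ^ q)⁻¹) ^ q)⁻¹ = x ^ (q ^ 2) := by
        rw [inv_pow, inv_inv, ← pow_mul, sq]
      have e2 : (((x ^ q)⁻¹) ^ q)⁻¹ = x ^ ((q ^ 2) ^ (2 * i')) := by
        conv_lhs => rw [hi3]
        rw [← pow_mul, mul_comm, pow_mul, ← inv_pow, hi3, ← pow_mul, ← pow_add, two_mul]
      rw [← e1, e2]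
    have h6 : x ^ ((q ^ 2) ^ (2 * i' - 1)) = x := by
      apply hinj
      rw [← pow_mul, ← pow_succ, show 2 * i' - 1 + 1 = 2 * i' by omega, ← h5]
    have hdvd : π ∣ X ^ (Nat.card K) ^ (2 * i' - 1) - X := by
      rw [← AdjoinRoot.mk_eq_zero, map_sub, map_pow, AdjoinRoot.mk_X, Nat.card_eq_fintype_card, hK,
        h6, sub_self]
    have hd2 : k ∣ 2 * i' - 1 := hπ.natDegree_dvd_of_dvd_X_pow_card_pow_sub_X hdvd
    have hkeq : 2 * i' - 1 = k := by
      obtain ⟨c, hc⟩ := hd2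
      rcases c with _ | _ | c
      · omega
      · omega
      · exfalso
        have : 2 * k ≤ k * (c + 1 + 1) := by nlinarith
        omega
    have hodd : ¬ Even k := by
      rw [Nat.not_even_iff_odd]
      exact ⟨i' - 1, by omega⟩
    have h7 : x ^ (q ^ k + 1) = 1 := by
      have h8 : (x ^ (q ^ k) * x) ^ q = 1 := by
        rw [mul_pow, ← pow_mul, ← pow_succ, show k + 1 = 2 * i' by omega, pow_mul, ← hi3,
          inv_mul_cancel₀ (pow_ne_zero _ hx0)]
      have h9 : x ^ (q ^ k) * x = 1 := by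
        apply hinj
        rw [one_pow, sq, pow_mul, h8, one_pow]
      rw [pow_succ, h9]
    have h10 : NN q k * (q + 1) = q ^ k + 1 := by
      rw [NN_mul q k hk0, nn, if_neg hodd]
    obtain ⟨ζ, hζ1, -, hζ3⟩ := key (NN q k) (by rw [h10, h7])
    exact ⟨ζ, hζ1, hζ3⟩
  · right
    refine ⟨hd, ?_⟩
    obtain ⟨hdirr, hdm, hd0, hddeg⟩ := dag_irreducible hK π hπ hm h0
    have h10 : NN q (2 * k) * (q + 1) = q ^ (2 * k) - 1 := by
      rw [NN_mul q (2 * k) (by omega), nn, if_pos (even_two_mul k)]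
    obtain ⟨ζ, hζ1, hζ2, hζ3⟩ := key (NN q (2 * k)) (by rw [h10, hxL])
    refine ⟨ζ, hζ1, ?_⟩
    have hmin : dag hK π = minpoly K ((x ^ q)⁻¹) :=
      minpoly.eq_of_irreducible_of_monic hdirr hdagroot hdm
    have hdvd2 : dag hK π ∣ X ^ (NN q (2 * k)) - C ζ := by
      rw [hmin]
      apply minpoly.dvd
      rw [map_sub, map_pow, aeval_X, aeval_C, inv_pow, ← pow_mul, mul_comm, pow_mul, ← hζ2,
        ← map_pow, ← map_inv₀, ← map_sub]
      have : (ζ ^ q)⁻¹ = ζ := by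
        have hz : ζ ^ q * ζ = 1 := by rw [← pow_succ, hζ1]
        exact inv_eq_of_mul_eq_one_right hz
      rw [this, sub_self, map_zero]
    have hcop : IsCoprime π (dag hK π) := by
      rw [hπ.coprime_iff_not_dvd]
      intro hdv
      apply hd
      have h1 : Associated π (dag hK π) := hπ.associated_of_dvd hdirr hdv
      exact (eq_of_monic_of_associated hm hdm h1).symm
    exact hcop.mul_dvd hζ3 hdvd2

end Cfsg.Agent.Lib.PGUMeo
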