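import Mathlib
import Cfsg.Prelude
import Cfsg.Agent.Lib.Helper2.PGUMeoDefs
import Cfsg.Agent.Lib.Helper8.PGUMeoNum0

/-! # S2263, package NUM1: the numerical bound for one block -/

set_option autoImplicit false

namespace Cfsg.Agent.Lib.PGUMeo

/-- `q^(d-1) - 1` is a lower bound of `Mbound` -/
theorem Mbound_ge (p f d : ℕ) (hp : p.Prime) (hf : 1 ≤ f) (hd : 3 ≤ d) :
    (p ^ f) ^ (d - 1) - 1 ≤ Mbound p f d := by
  unfold Mbound
  split_ifs with h1 h2 h3
  · exact le_refl _
  · have hf1 : f = 1 := by omega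
    subst hf1
    rw [pow_one]
    have : p ^ (d - 1) = p ^ (d - 2) * p := by
      rw [← pow_succ]; congr 1; omega
    rw [this, add_mul]
    omega
  · omega
  · have hq1 : 1 ≤ p ^ f := Nat.one_le_pow _ _ hp.pos
    have hq2 : 2 ≤ p ^ f := by
      calc 2 ≤ p := hp.two_le
        _ = p ^ 1 := (pow_one p).symm
        _ ≤ p ^ f := Nat.pow_le_pow_right hp.pos hf
    have hq : p ^ f = 2 := by omega
    rw [hq]
    have : 2 ^ (d - 1) = 4 * 2 ^ (d - 3) := by
      rw [show d - 1 = 2 + (d - 3) by omega, pow_add]; norm_num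
    rw [this]
    omega

theorem NN_one (q : ℕ) : NN q 1 = 1 := by
  unfold NN nn
  rw [if_neg (by decide), pow_one]
  exact Nat.div_self (by omega)

theorem NN_lt (q D : ℕ) (hq : 2 ≤ q) (hD : 2 ≤ D) : NN q D < q ^ (D - 1) := by
  have h1 := NN_mul q D (by omega)
  have h2 := nn_le q D
  have h3 : q ^ D = q ^ (D - 1) * q := by
    rw [← pow_succ]; congr 1; omega
  have h4 : 2 ≤ q ^ (D - 1) := by
    calc 2 ≤ q := hq
      _ = q ^ 1 := (pow_one q).symm
      _ ≤ q ^ (D - 1) := Nat.pow_le_pow_right (by omega) (by omega)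
  have h5 : NN q D * (q + 1) < q ^ (D - 1) * (q + 1) := by
    rw [h1, mul_add, mul_one, ← h3]; omega
  exact Nat.lt_of_mul_lt_mul_right h5

theorem le_two_pow_sub_two (d : ℕ) (hd : 4 ≤ d) : d ≤ 2 ^ (d - 2) := by
  induction d, hd using Nat.le_induction with
  | base => norm_num
  | succ n hn ih =>
    have : 2 ^ (n + 1 - 2) = 2 * 2 ^ (n - 2) := by
      rw [show n + 1 - 2 = (n - 2) + 1 by omega, pow_succ]; ring
    rw [this]
    omega

theorem num_one (p f d : ℕ) (hp : p.Prime) (hf : 1 ≤ f) (hd : 3 ≤ d) (h32 : ¬ (d = 3 ∧ p ^ f = 2))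
    (D m : ℕ) (hD : 1 ≤ D) (hm : 1 ≤ m) (hDm : D * m ≤ d) :
    NN (p ^ f) D * p ^ Nat.clog p m ≤ Mbound p f d := by
  have hp2 : 2 ≤ p := hp.two_le
  have hpq : p ≤ p ^ f := by
    calc p = p ^ 1 := (pow_one p).symm
      _ ≤ p ^ f := Nat.pow_le_pow_right hp.pos hf
  have hq2 : 2 ≤ p ^ f := le_trans hp2 hpq
  set q := p ^ f with hq
  have hM := Mbound_ge p f d hp hf hd
  rw [← hq] at hM
  refine le_trans ?_ hM
  -- `q^(d-2) ≤ q^(d-1) - 1`
  have hstep : q ^ (d - 2) ≤ q ^ (d - 1) - 1 := by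
    have h1 : q ^ (d - 1) = q ^ (d - 2) * q := by
      rw [← pow_succ]; congr 1; omega
    have h2 : 1 ≤ q ^ (d - 2) := Nat.one_le_pow _ _ (by omega)
    have h3 : q ^ (d - 2) * 2 ≤ q ^ (d - 2) * q := Nat.mul_le_mul_left _ hq2
    omega
  rcases Nat.eq_or_lt_of_le hm with hm1 | hm2
  · -- m = 1
    subst hm1
    rw [Nat.clog_one_right, pow_zero, mul_one]
    rw [mul_one] at hDm
    rcases Nat.eq_or_lt_of_le hD with hD1 | hD2
    · subst hD1
      rw [NN_one]
      have h1 : 1 ≤ q ^ (d - 2) := Nat.one_le_pow _ _ (by omega)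
      omega
    · have h1 := NN_lt q D hq2 hD2
      have h2 : q ^ (D - 1) ≤ q ^ (d - 1) := Nat.pow_le_pow_right (by omega) (by omega)
      omega
  · -- m ≥ 2
    have hm2' : 2 ≤ m := hm2
    have hclog : Nat.clog p m ≤ m - 1 := by
      apply Nat.clog_le_of_le_pow
      have h1 : m - 1 < 2 ^ (m - 1) := Nat.lt_two_pow_self
      have h2 : 2 ^ (m - 1) ≤ p ^ (m - 1) := Nat.pow_le_pow_left hp2 _
      omega
    rcases Nat.eq_or_lt_of_le hD with hD1 | hD2
    · -- D = 1
      subst hD1
      rw [NN_one, one_mul]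
      rw [one_mul] at hDm
      by_cases hd4 : 4 ≤ d
      · have h1 : Nat.clog p m ≤ d - 2 := by
          apply Nat.clog_le_of_le_pow
          have h1 := le_two_pow_sub_two d hd4
          have h2 : 2 ^ (d - 2) ≤ p ^ (d - 2) := Nat.pow_le_pow_left hp2 _
          omega
        calc p ^ Nat.clog p m ≤ p ^ (d - 2) := Nat.pow_le_pow_right hp.pos h1
          _ ≤ q ^ (d - 2) := Nat.pow_le_pow_left hpq _
          _ ≤ q ^ (d - 1) - 1 := hstep
      · have hd3 : d = 3 := by omega
        subst hd3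
        by_cases hp3 : 3 ≤ p
        · have h1 : Nat.clog p m ≤ 1 := by
            apply Nat.clog_le_of_le_pow
            rw [pow_one]; omega
          calc p ^ Nat.clog p m ≤ p ^ 1 := Nat.pow_le_pow_right hp.pos h1
            _ = p := pow_one p
            _ ≤ q := hpq
            _ = q ^ (3 - 2) := by norm_num
            _ ≤ q ^ (3 - 1) - 1 := hstep
        · have hp2' : p = 2 := by omega
          have h1 : Nat.clog p m ≤ 2 := by
            apply Nat.clog_le_of_le_pow
            rw [hp2']; omega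
          have hq4 : 4 ≤ q := by
            have hf2 : 2 ≤ f := by
              by_contra hcon
              have : f = 1 := by omega
              apply h32
              refine ⟨rfl, ?_⟩
              rw [hq, this, hp2']; norm_num
            calc 4 = 2 ^ 2 := by norm_num
              _ ≤ 2 ^ f := Nat.pow_le_pow_right (by norm_num) hf2
              _ = q := by rw [hq, hp2']
          have h2 : p ^ Nat.clog p m ≤ 4 := by
            calc p ^ Nat.clog p m ≤ p ^ 2 := Nat.pow_le_pow_right hp.pos h1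
              _ = 4 := by rw [hp2']
          have h3 : q * 4 ≤ q * q := Nat.mul_le_mul_left _ hq4
          have h4 : q ^ (3 - 1) = q * q := by
            rw [show 3 - 1 = 2 by norm_num, sq]
          rw [h4]
          omega
    · -- D ≥ 2
      have h1 := NN_le q D (by omega) hD
      have h2 : p ^ Nat.clog p m ≤ q ^ (m - 1) := by
        calc p ^ Nat.clog p m ≤ p ^ (m - 1) := Nat.pow_le_pow_right hp.pos hclog
          _ ≤ q ^ (m - 1) := Nat.pow_le_pow_left hpq _
      have h3 : D + m ≤ D * m := by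
        obtain ⟨a, rfl⟩ : ∃ a, D = a + 2 := ⟨D - 2, by omega⟩
        obtain ⟨b, rfl⟩ : ∃ b, m = b + 2 := ⟨m - 2, by omega⟩
        nlinarith
      calc NN q D * p ^ Nat.clog p m ≤ q ^ (D - 1) * q ^ (m - 1) := Nat.mul_le_mul h1 h2
        _ = q ^ (D - 1 + (m - 1)) := (pow_add _ _ _).symm
        _ ≤ q ^ (d - 2) := Nat.pow_le_pow_right (by omega) (by omega)
        _ ≤ q ^ (d - 1) - 1 := hstep

end Cfsg.Agent.Lib.PGUMeo
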