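import Mathlib

/-!
# Trace operators for a group acting on a finite abelian group
-/

set_option autoImplicit false
set_option linter.unusedSectionVars false

namespace Cfsg.Agent.Lib.Helper8.SBS

universe u w

section ops

variable {V : Type u} [AddCommGroup V] {T : Type w} [Group T] [DistribMulAction T V]

/-- the fixed points of a subgroup. -/
def fixedPts (K : Subgroup T) : AddSubgroup V where
  carrier := {v | ∀ k ∈ K, k • v = v}
  zero_mem' := fun k _ => smul_zero k
  add_mem' := by
    intro a b ha hb k hk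
    rw [smul_add, ha k hk, hb k hk]
  neg_mem' := by
    intro a ha k hk
    rw [smul_neg, ha k hk]

theorem mem_fixedPts {K : Subgroup T} {v : V} : v ∈ fixedPts (V := V) K ↔ ∀ k ∈ K, k • v = v :=
  Iff.rfl

theorem fixedPts_anti {K L : Subgroup T} (h : K ≤ L) : fixedPts (V := V) L ≤ fixedPts K :=
  fun _ hv k hk => hv k (h hk)

theorem mem_fixedPts_iff_le_stabilizer {K : Subgroup T} {v : V} :
    v ∈ fixedPts (V := V) K ↔ K ≤ MulAction.stabilizer T v :=
  Iff.rfl

theorem fixedPts_sup (K L : Subgroup T) :
    fixedPts (V := V) (K ⊔ L) = fixedPts K ⊓ fixedPts L := by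
  apply le_antisymm
  · exact le_inf (fixedPts_anti le_sup_left) (fixedPts_anti le_sup_right)
  · rintro v ⟨hK, hL⟩
    have hK' : K ≤ MulAction.stabilizer T v := hK
    have hL' : L ≤ MulAction.stabilizer T v := hL
    exact (sup_le hK' hL' : K ⊔ L ≤ MulAction.stabilizer T v)

/-- the image of the fixed points under a group element. -/
theorem smul_mem_fixedPts_conj {K : Subgroup T} {v : V} (hv : v ∈ fixedPts (V := V) K) (t : T) :
    t • v ∈ fixedPts (V := V) (K.map (MulAut.conj t).toMonoidHom) := by
  rintro _ ⟨k, hk, rfl⟩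
  show (t * k * t⁻¹) • t • v = t • v
  rw [← mul_smul, inv_mul_cancel_right, mul_smul, hv k hk]

variable [Finite T]

/-- the trace operator of a subgroup. -/
noncomputable def nu (K : Subgroup T) (v : V) : V := ∑ᶠ k : K, (k : T) • v

theorem nu_add (K : Subgroup T) (u v : V) : nu K (u + v) = nu K u + nu K v := by
  unfold nu
  rw [← finsum_add_distrib (Set.toFinite _) (Set.toFinite _)]
  exact finsum_congr fun k => smul_add _ _ _

theorem nu_zero (K : Subgroup T) : nu K (0 : V) = 0 := by
  unfold nu
  simp

/-- `nu K` as an additive homomorphism. -/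
noncomputable def nuHom (K : Subgroup T) : V →+ V where
  toFun := nu K
  map_zero' := nu_zero K
  map_add' := nu_add K

theorem nuHom_apply (K : Subgroup T) (v : V) : nuHom K v = nu K v := rfl

theorem nu_nsmul (K : Subgroup T) (n : ℕ) (v : V) : nu K (n • v) = n • nu K v :=
  map_nsmul (nuHom K) n v

theorem nu_sum {ι : Type*} (K : Subgroup T) (s : Finset ι) (f : ι → V) :
    nu K (∑ i ∈ s, f i) = ∑ i ∈ s, nu K (f i) :=
  map_sum (nuHom K) f s

/-- a general element moves the trace to the trace of the conjugate. -/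
theorem smul_nu (K : Subgroup T) (t : T) (v : V) :
    t • nu K v = nu (K.map (MulAut.conj t).toMonoidHom) (t • v) := by
  unfold nu
  have h1 : t • ∑ᶠ k : K, (k : T) • v = ∑ᶠ k : K, t • (k : T) • v :=
    (DistribSMul.toAddMonoidHom V t).map_finsum (Set.toFinite _)
  rw [h1]
  let e : K ≃ K.map (MulAut.conj t).toMonoidHom :=
    (K.equivMapOfInjective (MulAut.conj t).toMonoidHom (MulAut.conj t).injective).toEquiv
  have h2 := finsum_comp_equiv e
    (f := fun k' : K.map (MulAut.conj t).toMonoidHom => (k' : T) • t • v)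
  rw [← h2]
  apply finsum_congr
  intro k
  show t • (k : T) • v = (t * (k : T) * t⁻¹) • t • v
  rw [← mul_smul, ← mul_smul, inv_mul_cancel_right]

/-- elements of `K` fix the trace. -/
theorem smul_nu_of_mem {K : Subgroup T} {k : T} (hk : k ∈ K) (v : V) : k • nu K v = nu K v := by
  unfold nu
  have h1 : k • ∑ᶠ k' : K, (k' : T) • v = ∑ᶠ k' : K, k • (k' : T) • v :=
    (DistribSMul.toAddMonoidHom V k).map_finsum (Set.toFinite _)
  rw [h1]
  have h2 := finsum_comp_equiv (Equiv.mulLeft (⟨k, hk⟩ : K)) (f := fun k' : K => (k' : T) • v)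
  rw [← h2]
  apply finsum_congr
  intro k'
  show k • (k' : T) • v = ((⟨k, hk⟩ * k' : K) : T) • v
  rw [Subgroup.coe_mul, mul_smul]

theorem nu_mem_fixedPts (K : Subgroup T) (v : V) : nu K v ∈ fixedPts (V := V) K :=
  fun _ hk => smul_nu_of_mem hk v

/-- on fixed points the trace is multiplication by the order. -/
theorem nu_of_mem_fixedPts {K : Subgroup T} {v : V} (hv : v ∈ fixedPts (V := V) K) :
    nu K v = Nat.card K • v := by
  unfold nu
  have : ∀ k : K, (k : T) • v = v := fun k => hv k k.2
  rw [finsum_congr this]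
  have : Fintype K := Fintype.ofFinite K
  rw [finsum_eq_sum_of_fintype, Finset.sum_const, Finset.card_univ, Nat.card_eq_fintype_card]

/-- an element commuting with `K` commutes with the trace. -/
theorem smul_nu_of_commute {K : Subgroup T} {x : T} (hx : ∀ k ∈ K, x * k = k * x) (v : V) :
    x • nu K v = nu K (x • v) := by
  unfold nu
  have h1 : x • ∑ᶠ k : K, (k : T) • v = ∑ᶠ k : K, x • (k : T) • v :=
    (DistribSMul.toAddMonoidHom V x).map_finsum (Set.toFinite _)
  rw [h1]
  apply finsum_congr
  intro k
  rw [← mul_smul, ← mul_smul, hx k k.2]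

end ops

end Cfsg.Agent.Lib.Helper8.SBS
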