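import Mathlib
import Cfsg.Agent.Lib.Helper8.SBS2
import Cfsg.Agent.Lib.Helper5.C320.A1

/-!
# Cyclic traces, the rank two identity, and spanning by fixed points of hyperplanes
-/

set_option autoImplicit false
set_option linter.unusedSectionVars false

namespace Cfsg.Agent.Lib.Helper8.SBS

universe u w

section cancel

variable {V : Type u} [AddCommGroup V] [Finite V]

/-- division by an integer prime to the order. -/
theorem mem_of_nsmul_mem {n : ℕ} (hn : (Nat.card V).Coprime n) (S : AddSubgroup V) {v : V}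
    (h : n • v ∈ S) : v ∈ S := by
  rcases Nat.lt_or_ge 1 (Nat.card V) with h1 | h1
  · obtain ⟨m, -, hm⟩ := Nat.exists_mul_mod_eq_one_of_coprime hn.symm h1
    have h2 : (n * m) • v = v := by
      conv_lhs => rw [← Nat.mod_add_div (n * m) (Nat.card V), hm, add_nsmul, one_nsmul,
        mul_nsmul, card_nsmul_eq_zero', smul_zero, add_zero]
    rw [← h2, mul_nsmul]
    exact S.nsmul_mem h m
  · have : Subsingleton V := (Finite.card_le_one_iff_subsingleton).1 h1
    rw [Subsingleton.elim v 0]
    exact S.zero_mem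

theorem eq_zero_of_nsmul_eq_zero {n : ℕ} (hn : (Nat.card V).Coprime n) {v : V}
    (h : n • v = 0) : v = 0 := by
  have := mem_of_nsmul_mem hn ⊥ (v := v) (by rw [h]; exact (⊥ : AddSubgroup V).zero_mem)
  exact this

end cancel

section mu

variable {V : Type u} [AddCommGroup V] {T : Type w} [Group T] [DistribMulAction T V]

/-- the cyclic trace `∑_{k<p} g^k`. -/
def mu (p : ℕ) (g : T) (v : V) : V := ∑ k ∈ Finset.range p, g ^ k • v

theorem mu_add (p : ℕ) (g : T) (u v : V) : mu p g (u + v) = mu p g u + mu p g v := by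
  unfold mu
  rw [← Finset.sum_add_distrib]
  exact Finset.sum_congr rfl fun k _ => smul_add _ _ _

theorem smul_mu_of_commute (p : ℕ) {g x : T} (hx : x * g = g * x) (v : V) :
    x • mu p g v = mu p g (x • v) := by
  unfold mu
  rw [Finset.smul_sum]
  refine Finset.sum_congr rfl fun k _ => ?_
  have h : Commute x (g ^ k) := (show Commute x g from hx).pow_right k
  rw [← mul_smul, ← mul_smul, h.eq]

theorem smul_mu_self {p : ℕ} {g : T} (hg : g ^ p = 1) (v : V) : g • mu p g v = mu p g v := by
  unfold mu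
  rw [Finset.smul_sum]
  have h1 : ∀ k, g • g ^ k • v = g ^ (k + 1) • v := fun k => by rw [← mul_smul, ← pow_succ']
  rw [Finset.sum_congr rfl fun k _ => h1 k]
  have h2 := Finset.sum_range_succ' (fun k => g ^ k • v) p
  have h3 := Finset.sum_range_succ (fun k => g ^ k • v) p
  rw [h3] at h2
  simp only [pow_zero, one_smul, hg] at h2
  exact (add_right_cancel h2).symm

theorem mu_of_fixed {p : ℕ} {g : T} {v : V} (hv : g • v = v) : mu p g v = p • v := by
  unfold mu
  have : ∀ k : ℕ, g ^ k • v = v := by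
    intro k
    induction k with
    | zero => simp
    | succ k ih => rw [pow_succ, mul_smul, hv, ih]
  rw [Finset.sum_congr rfl fun k _ => this k, Finset.sum_const, Finset.card_range]

/-- the cyclic trace of a vector fixed by `D` is fixed by `D ⊔ ⟨g⟩`. -/
theorem mu_mem_fixedPts {p : ℕ} {g : T} (hg : g ^ p = 1) {D : Subgroup T}
    (hD : ∀ d ∈ D, d * g = g * d) {v : V} (hv : v ∈ fixedPts (V := V) D) :
    mu p g v ∈ fixedPts (V := V) (D ⊔ Subgroup.zpowers g) := by
  rw [fixedPts_sup]
  constructor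
  · intro d hd
    rw [smul_mu_of_commute p (hD d hd), hv d hd]
  · have h1 : Subgroup.zpowers g ≤ MulAction.stabilizer T (mu p g v) := by
      rw [Subgroup.zpowers_le]
      exact smul_mu_self hg v
    exact h1

/-- reindexing the powers of an element of order dividing `p`. -/
theorem sum_pow_mul {p : ℕ} [hp : Fact p.Prime] {x : T} (hx : x ^ p = 1) {k : ℕ} (hk0 : 0 < k)
    (hkp : k < p) (v : V) :
    ∑ i ∈ Finset.range p, x ^ (i * k) • v = ∑ j ∈ Finset.range p, x ^ j • v := by
  have hcop : Nat.Coprime p k := by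
    rw [Nat.Prime.coprime_iff_not_dvd hp.out]
    intro hdvd
    exact absurd (Nat.le_of_dvd hk0 hdvd) (not_le.2 hkp)
  have hmod : ∀ i, x ^ (i * k) • v = x ^ (i * k % p) • v := fun i => by
    rw [pow_eq_pow_mod (i * k) hx]
  rw [Finset.sum_congr rfl fun i _ => hmod i]
  apply Finset.sum_nbij (fun i => i * k % p)
  · intro i _
    exact Finset.mem_range.2 (Nat.mod_lt _ hp.out.pos)
  · intro i hi i' hi' h
    have hi := Finset.mem_range.1 hi
    have hi' := Finset.mem_range.1 hi'
    have h1 : i * k ≡ i' * k [MOD p] := h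
    have h2 : i ≡ i' [MOD p] := Nat.ModEq.cancel_right_of_coprime hcop h1
    exact Nat.ModEq.eq_of_lt_of_lt h2 hi hi'
  · apply Finset.surjOn_of_injOn_of_card_le
    · intro i _
      exact Finset.mem_coe.2 (Finset.mem_range.2 (Nat.mod_lt _ hp.out.pos))
    · intro i hi i' hi' h
      have hi := Finset.mem_range.1 hi
      have hi' := Finset.mem_range.1 hi'
      have h1 : i * k ≡ i' * k [MOD p] := h
      have h2 : i ≡ i' [MOD p] := Nat.ModEq.cancel_right_of_coprime hcop h1
      exact Nat.ModEq.eq_of_lt_of_lt h2 hi hi'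
    · exact le_refl _
  · intro i _
    rfl

/-- the rank two identity: for commuting `x`, `y` with `x ^ p = 1`,
`μ_x + ∑_i μ_{y x^i} = p + μ_y μ_x`. -/
theorem rank_two_identity {p : ℕ} [hp : Fact p.Prime] {x y : T} (hxy : x * y = y * x)
    (hx : x ^ p = 1) (v : V) :
    mu p x v + ∑ i ∈ Finset.range p, mu p (y * x ^ i) v = p • v + mu p y (mu p x v) := by
  have h1 : ∀ i k : ℕ, (y * x ^ i) ^ k • v = y ^ k • x ^ (i * k) • v := by
    intro i k
    have hc : Commute y (x ^ i) := (show Commute y x from hxy.symm).pow_right i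
    rw [hc.mul_pow, ← pow_mul, mul_smul]
  have h2 : ∑ i ∈ Finset.range p, mu p (y * x ^ i) v =
      ∑ k ∈ Finset.range p, y ^ k • ∑ i ∈ Finset.range p, x ^ (i * k) • v := by
    unfold mu
    rw [Finset.sum_comm]
    refine Finset.sum_congr rfl fun k _ => ?_
    rw [Finset.smul_sum]
    exact Finset.sum_congr rfl fun i _ => h1 i k
  rw [h2, Finset.range_eq_Ico, Finset.sum_eq_sum_Ico_succ_bot hp.out.pos]
  have h3 : ∀ k ∈ Finset.Ico (0 + 1) p, y ^ k • ∑ i ∈ Finset.Ico 0 p, x ^ (i * k) • v =
      y ^ k • mu p x v := by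
    intro k hk
    rw [Finset.mem_Ico] at hk
    rw [← Finset.range_eq_Ico, sum_pow_mul hx (by omega) hk.2 v]
    rfl
  rw [Finset.sum_congr rfl h3]
  have h4 : mu p y (mu p x v) = mu p x v + ∑ k ∈ Finset.Ico (0 + 1) p, y ^ k • mu p x v := by
    unfold mu
    rw [Finset.range_eq_Ico, Finset.sum_eq_sum_Ico_succ_bot hp.out.pos, pow_zero, one_smul]
  have h5 : y ^ 0 • ∑ i ∈ Finset.Ico 0 p, x ^ (i * 0) • v = p • v := by
    simp
  rw [h4, h5]
  abel


end mu

section span

variable {V : Type u} [AddCommGroup V] [Finite V] {T : Type w} [Group T] [Finite T]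
  [DistribMulAction T V]

open Cfsg.Agent.Lib.Helper5.C320 in
theorem span_hyperplanes_aux {p : ℕ} [hp : Fact p.Prime] (hcop : (Nat.card V).Coprime p)
    (E : Subgroup T) (hEc : ∀ x ∈ E, ∀ y ∈ E, x * y = y * x) (hEp : ∀ x ∈ E, x ^ p = 1)
    (S : AddSubgroup V) :
    ∀ (n : ℕ) (D : Subgroup T), D ≤ E → Nat.card E - Nat.card D = n →
      (∀ K : Subgroup T, D ≤ K → K ≤ E → (K = E ∨ Nat.card K * p = Nat.card E) →
        fixedPts (V := V) K ≤ S) →
      fixedPts (V := V) D ≤ S := by
  intro n
  induction n using Nat.strong_induction_on with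
  | _ n ih =>
  intro D hDE hn hS
  by_cases h1 : D = E ∨ Nat.card D * p = Nat.card E
  · exact hS D le_rfl hDE h1
  push Not at h1
  obtain ⟨hne, hcard⟩ := h1
  obtain ⟨x, hxE, hxD⟩ : ∃ x ∈ E, x ∉ D := by
    by_contra hcon
    push Not at hcon
    exact hne (le_antisymm hDE hcon)
  have hxn : x ∈ Subgroup.normalizer (D : Set T) := by
    rw [Subgroup.mem_normalizer_iff]
    intro d
    constructor
    · intro hd
      have : x * d * x⁻¹ = d := by rw [hEc x hxE d (hDE hd), mul_inv_cancel_right]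
      rw [this]; exact hd
    · intro hd
      have h2 := hEc x hxE _ (hDE hd)
      have h3 : d = x * d * x⁻¹ := by
        have : x * d = x * (x * d * x⁻¹) := by
          rw [h2]; group
        exact mul_left_cancel this
      rw [h3]; exact hd
  have hcardD₁ := (card_sup_zpowers_le D x p hp.out.pos hxn
    (by rw [hEp x hxE]; exact D.one_mem)).2
  have hD₁E : D ⊔ Subgroup.zpowers x ≤ E := sup_le hDE ((Subgroup.zpowers_le).2 hxE)
  -- cardinalities
  have hEpg : IsPGroup p E := fun g => ⟨1, by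
    apply Subtype.ext
    rw [pow_one, Subgroup.coe_pow, hEp g g.2, Subgroup.coe_one]⟩
  obtain ⟨a, ha⟩ := IsPGroup.iff_card.1 hEpg
  obtain ⟨b, hba, hb⟩ := (Nat.dvd_prime_pow hp.out).1
    (ha ▸ Subgroup.card_dvd_of_le hDE : Nat.card D ∣ p ^ a)
  have hba' : b ≠ a := by
    rintro rfl
    exact hne (Subgroup.eq_of_le_of_card_ge hDE (by rw [ha, hb]))
  have hlt : Nat.card D < Nat.card E := by
    rw [ha, hb]
    exact Nat.pow_lt_pow_right hp.out.one_lt (lt_of_le_of_ne hba hba')
  obtain ⟨y, hyE, hyD₁⟩ : ∃ y ∈ E, y ∉ D ⊔ Subgroup.zpowers x := by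
    by_contra hcon
    push Not at hcon
    have heq : D ⊔ Subgroup.zpowers x = E := le_antisymm hD₁E hcon
    rw [heq] at hcardD₁
    apply hcard
    have h5 : p ^ (b + 1) ≤ p ^ a :=
      Nat.pow_le_pow_right hp.out.pos (by omega)
    rw [ha, hb] at hcardD₁ ⊢
    rw [pow_succ] at h5
    rw [mul_comm] at hcardD₁
    exact le_antisymm h5 hcardD₁
  -- the key property of the induction
  have hkey : ∀ g ∈ E, g ∉ D → ∀ v ∈ fixedPts (V := V) D, mu p g v ∈ S := by
    intro g hgE hgD v hv
    have hmem := mu_mem_fixedPts (hEp g hgE) (fun d hd => hEc d (hDE hd) g hgE) hv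
    have hD'E : D ⊔ Subgroup.zpowers g ≤ E := sup_le hDE ((Subgroup.zpowers_le).2 hgE)
    have hlt' : Nat.card D < Nat.card (D ⊔ Subgroup.zpowers g : Subgroup T) := by
      apply lt_of_le_of_ne (Subgroup.card_le_of_le le_sup_left)
      intro heq
      apply hgD
      have : D = D ⊔ Subgroup.zpowers g :=
        Subgroup.eq_of_le_of_card_ge le_sup_left (by rw [heq])
      rw [this]
      exact Subgroup.mem_sup_right (Subgroup.mem_zpowers g)
    have hle' : Nat.card (D ⊔ Subgroup.zpowers g : Subgroup T) ≤ Nat.card E :=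
      Subgroup.card_le_of_le hD'E
    refine ih _ ?_ (D ⊔ Subgroup.zpowers g) hD'E rfl ?_ hmem
    · omega
    · intro K hK hKE hKc
      exact hS K (le_trans le_sup_left hK) hKE hKc
  intro v hv
  apply mem_of_nsmul_mem hcop S
  have hid := rank_two_identity (hEc x hxE y hyE) (hEp x hxE) v
  have hA : mu p x v ∈ S := hkey x hxE hxD v hv
  have hB : ∑ i ∈ Finset.range p, mu p (y * x ^ i) v ∈ S := by
    apply S.sum_mem
    intro i _
    apply hkey _ (E.mul_mem hyE (E.pow_mem hxE i)) _ v hv
    intro hcon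
    apply hyD₁
    have : y = (y * x ^ i) * (x ^ i)⁻¹ := by group
    rw [this]
    exact (D ⊔ Subgroup.zpowers x).mul_mem (Subgroup.mem_sup_left hcon)
      ((D ⊔ Subgroup.zpowers x).inv_mem
        ((D ⊔ Subgroup.zpowers x).pow_mem (Subgroup.mem_sup_right (Subgroup.mem_zpowers x)) i))
  have hC : mu p y (mu p x v) ∈ S := by
    -- `mu p x v` is fixed by `D' = D ⊔ ⟨x⟩`; apply the key property to `D'`-fixed vectors
    have hw := mu_mem_fixedPts (hEp x hxE) (fun d hd => hEc d (hDE hd) x hxE) hv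
    have hD'c : ∀ d ∈ D ⊔ Subgroup.zpowers x, d * y = y * d :=
      fun d hd => hEc d (hD₁E hd) y hyE
    have hmem := mu_mem_fixedPts (hEp y hyE) hD'c hw
    -- fixed by `D`, and by `y ∉ D`
    have hlt' : Nat.card D < Nat.card (D ⊔ Subgroup.zpowers x : Subgroup T) := by
      apply lt_of_le_of_ne (Subgroup.card_le_of_le le_sup_left)
      intro heq
      apply hxD
      have : D = D ⊔ Subgroup.zpowers x :=
        Subgroup.eq_of_le_of_card_ge le_sup_left (by rw [heq])
      rw [this]
      exact Subgroup.mem_sup_right (Subgroup.mem_zpowers x)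
    have hle' : Nat.card (D ⊔ Subgroup.zpowers x : Subgroup T) ≤ Nat.card E :=
      Subgroup.card_le_of_le hD₁E
    have hfix : fixedPts (V := V) (D ⊔ Subgroup.zpowers x) ≤ S := by
      refine ih _ ?_ (D ⊔ Subgroup.zpowers x) hD₁E rfl ?_
      · omega
      · intro K hK hKE hKc
        exact hS K (le_trans le_sup_left hK) hKE hKc
    exact hfix (fixedPts_anti le_sup_left hmem)
  have : p • v = mu p x v + ∑ i ∈ Finset.range p, mu p (y * x ^ i) v - mu p y (mu p x v) := by
    rw [hid]; abel
  rw [this]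
  exact S.sub_mem (S.add_mem hA hB) hC

/-- **Spanning.**  If every vector fixed by a subgroup of index `1` or `p` of the elementary
abelian group `E` lies in `S`, then `S = V`. -/
theorem span_hyperplanes {p : ℕ} [hp : Fact p.Prime] (hcop : (Nat.card V).Coprime p)
    (E : Subgroup T) (hEc : ∀ x ∈ E, ∀ y ∈ E, x * y = y * x) (hEp : ∀ x ∈ E, x ^ p = 1)
    (S : AddSubgroup V)
    (hS : ∀ K : Subgroup T, K ≤ E → (K = E ∨ Nat.card K * p = Nat.card E) →
      fixedPts (V := V) K ≤ S) (v : V) : v ∈ S := by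
  have := span_hyperplanes_aux hcop E hEc hEp S _ ⊥ bot_le rfl (fun K _ hKE hK => hS K hKE hK)
  apply this
  intro k hk
  rw [Subgroup.mem_bot] at hk
  rw [hk, one_smul]

end span

end Cfsg.Agent.Lib.Helper8.SBS
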