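import Mathlib
import Cfsg.Agent.Lib.Helper8.SBS3

/-!
# The hyperplanes of a normal elementary abelian subgroup and the components of the module
-/

set_option autoImplicit false
set_option linter.unusedSectionVars false

namespace Cfsg.Agent.Lib.Helper8.SBS

universe u w

section hyp

variable {V : Type u} [AddCommGroup V] [Finite V] {T : Type w} [Group T] [Finite T]
  [DistribMulAction T V]

/-- the conjugate of a subgroup. -/
def conjSub (t : T) (K : Subgroup T) : Subgroup T := K.map (MulAut.conj t).toMonoidHom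

theorem mem_conjSub {t : T} {K : Subgroup T} {x : T} : x ∈ conjSub t K ↔ t⁻¹ * x * t ∈ K := by
  unfold conjSub
  constructor
  · rintro ⟨k, hk, rfl⟩
    show t⁻¹ * (t * k * t⁻¹) * t ∈ K
    have : t⁻¹ * (t * k * t⁻¹) * t = k := by group
    rw [this]; exact hk
  · intro h
    refine ⟨t⁻¹ * x * t, h, ?_⟩
    show t * (t⁻¹ * x * t) * t⁻¹ = x
    group

theorem conjSub_one (K : Subgroup T) : conjSub 1 K = K := by
  ext x
  rw [mem_conjSub]
  simp

theorem conjSub_mul (s t : T) (K : Subgroup T) : conjSub (s * t) K = conjSub s (conjSub t K) := by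
  ext x
  rw [mem_conjSub, mem_conjSub, mem_conjSub]
  have : (s * t)⁻¹ * x * (s * t) = t⁻¹ * (s⁻¹ * x * s) * t := by group
  rw [this]

theorem card_conjSub (t : T) (K : Subgroup T) : Nat.card (conjSub t K) = Nat.card K :=
  Subgroup.card_map_of_injective (MulAut.conj t).injective

theorem conjSub_of_normal (t : T) (E : Subgroup T) [hE : E.Normal] : conjSub t E = E := by
  ext x
  rw [mem_conjSub]
  constructor
  · intro h
    have := hE.conj_mem _ h t
    have h2 : t * (t⁻¹ * x * t) * t⁻¹ = x := by group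
    rwa [h2] at this
  · intro h
    have := hE.conj_mem _ h t⁻¹
    rwa [inv_inv] at this

theorem conjSub_le {t : T} {K L : Subgroup T} (h : K ≤ L) : conjSub t K ≤ conjSub t L :=
  Subgroup.map_mono h

theorem smul_mem_fixedPts_conjSub {K : Subgroup T} {v : V} (hv : v ∈ fixedPts (V := V) K) (t : T) :
    t • v ∈ fixedPts (V := V) (conjSub t K) :=
  smul_mem_fixedPts_conj hv t

theorem smul_nu_conjSub (K : Subgroup T) (t : T) (v : V) :
    t • nu K v = nu (conjSub t K) (t • v) :=
  smul_nu K t v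

/-- hyperplanes of `E` with nonzero fixed points. -/
def IsHyp (p : ℕ) (E K : Subgroup T) : Prop :=
  K ≤ E ∧ Nat.card K * p = Nat.card E ∧ fixedPts (V := V) K ≠ ⊥

theorem isHyp_conjSub {p : ℕ} {E K : Subgroup T} [hE : E.Normal] (h : IsHyp (V := V) p E K)
    (t : T) : IsHyp (V := V) p E (conjSub t K) := by
  obtain ⟨h1, h2, h3⟩ := h
  refine ⟨?_, ?_, ?_⟩
  · have := conjSub_le (t := t) h1
    rwa [conjSub_of_normal t E] at this
  · rw [card_conjSub, h2]
  · intro h0
    apply h3
    rw [eq_bot_iff]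
    intro v hv
    have h4 := smul_mem_fixedPts_conjSub hv t
    rw [h0, AddSubgroup.mem_bot] at h4
    rw [AddSubgroup.mem_bot]
    have : t⁻¹ • t • v = t⁻¹ • (0 : V) := by rw [h4]
    rwa [inv_smul_smul, smul_zero] at this

/-- two distinct hyperplanes generate `E`. -/
theorem sup_eq_of_isHyp {p : ℕ} [hp : Fact p.Prime] {E K K' : Subgroup T}
    (hK : IsHyp (V := V) p E K) (hK' : IsHyp (V := V) p E K') (hne : K ≠ K') : K ⊔ K' = E := by
  have hle : K ⊔ K' ≤ E := sup_le hK.1 hK'.1
  apply Subgroup.eq_of_le_of_card_ge hle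
  obtain ⟨m, hm⟩ := Subgroup.card_dvd_of_le (le_sup_left : K ≤ K ⊔ K')
  have hKpos : 0 < Nat.card K := Nat.card_pos
  have hdvd : Nat.card (K ⊔ K' : Subgroup T) ∣ Nat.card E := Subgroup.card_dvd_of_le hle
  rw [hm, ← hK.2.1] at hdvd
  have hmp : m ∣ p := Nat.dvd_of_mul_dvd_mul_left hKpos hdvd
  rcases (Nat.dvd_prime hp.out).1 hmp with h1 | h1
  · exfalso
    rw [h1, mul_one] at hm
    have h2 : K = K ⊔ K' := Subgroup.eq_of_le_of_card_ge le_sup_left (by rw [hm])
    have h3 : K' ≤ K := by rw [h2]; exact le_sup_right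
    apply hne
    symm
    apply Subgroup.eq_of_le_of_card_ge h3
    have := hK.2.1
    rw [← hK'.2.1] at this
    exact le_of_eq (Nat.eq_of_mul_eq_mul_right hp.out.pos this)
  · rw [hm, h1, ← hK.2.1]

/-- **Directness**: the trace of one hyperplane kills the fixed points of another. -/
theorem nu_eq_zero_of_ne {p : ℕ} [hp : Fact p.Prime] {E K K' : Subgroup T}
    (hEc : ∀ x ∈ E, ∀ y ∈ E, x * y = y * x) (hE0 : fixedPts (V := V) E = ⊥)
    (hK : IsHyp (V := V) p E K) (hK' : IsHyp (V := V) p E K') (hne : K ≠ K') {u : V}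
    (hu : u ∈ fixedPts (V := V) K') : nu K u = 0 := by
  have h1 : nu K u ∈ fixedPts (V := V) K := nu_mem_fixedPts K u
  have h2 : nu K u ∈ fixedPts (V := V) K' := by
    intro k' hk'
    rw [smul_nu_of_commute (fun k hk => hEc k' (hK'.1 hk') k (hK.1 hk)), hu k' hk']
  have h3 : nu K u ∈ fixedPts (V := V) (K ⊔ K') := by
    rw [fixedPts_sup]; exact ⟨h1, h2⟩
  rw [sup_eq_of_isHyp hK hK' hne, hE0, AddSubgroup.mem_bot] at h3
  exact h3

end hyp

end Cfsg.Agent.Lib.Helper8.SBS
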