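import Mathlib

/-!
# Ward's theorem, part A: elementary group-theoretic lemmas
-/

set_option autoImplicit false
set_option linter.unusedSectionVars false
set_option linter.unusedVariables false

namespace Cfsg.Agent.Lib.Helper8.Ward

universe w

section basic

variable {T : Type w} [Group T]

/-- in a finite group the inverse is a power. -/
theorem inv_eq_pow_pred [Finite T] (t : T) : t⁻¹ = t ^ (orderOf t - 1) := by
  have h1 : 0 < orderOf t := orderOf_pos t
  have h2 : t * t ^ (orderOf t - 1) = 1 := by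
    rw [← pow_succ', Nat.sub_add_cancel h1, pow_orderOf_eq_one]
  exact inv_eq_of_mul_eq_one_right h2

/-- the elements acting trivially on `Z / Y`. -/
def trivMod [Finite T] (Z Y : Subgroup T) (hYZ : Y ≤ Z) : Subgroup T where
  carrier := {t | ∀ z ∈ Z, t * z * t⁻¹ * z⁻¹ ∈ Y}
  one_mem' := by
    intro z hz
    simp
  mul_mem' := by
    intro s t hs ht z hz
    have h1 := ht z hz
    have hz' : t * z * t⁻¹ ∈ Z := by
      have : t * z * t⁻¹ = (t * z * t⁻¹ * z⁻¹) * z := by group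
      rw [this]
      exact Z.mul_mem (hYZ h1) hz
    have h2 := hs _ hz'
    have : s * t * z * (s * t)⁻¹ * z⁻¹ =
        (s * (t * z * t⁻¹) * s⁻¹ * (t * z * t⁻¹)⁻¹) * (t * z * t⁻¹ * z⁻¹) := by group
    rw [this]
    exact Y.mul_mem h2 h1
  inv_mem' := by
    intro t ht
    have hpow : ∀ n : ℕ, ∀ z ∈ Z, t ^ n * z * (t ^ n)⁻¹ * z⁻¹ ∈ Y := by
      intro n
      induction n with
      | zero => intro z hz; simp
      | succ n ih =>
        intro z hz
        have h1 := ht z hz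
        have hz' : t * z * t⁻¹ ∈ Z := by
          have : t * z * t⁻¹ = (t * z * t⁻¹ * z⁻¹) * z := by group
          rw [this]
          exact Z.mul_mem (hYZ h1) hz
        have h2 := ih _ hz'
        have : t ^ (n + 1) * z * (t ^ (n + 1))⁻¹ * z⁻¹ =
            (t ^ n * (t * z * t⁻¹) * (t ^ n)⁻¹ * (t * z * t⁻¹)⁻¹) * (t * z * t⁻¹ * z⁻¹) := by
          rw [pow_succ]; group
        rw [this]
        exact Y.mul_mem h2 h1
    intro z hz
    have := hpow (orderOf t - 1) z hz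
    rwa [← inv_eq_pow_pred] at this

theorem mem_trivMod [Finite T] {Z Y : Subgroup T} {hYZ : Y ≤ Z} {t : T} :
    t ∈ trivMod Z Y hYZ ↔ ∀ z ∈ Z, t * z * t⁻¹ * z⁻¹ ∈ Y := Iff.rfl

/-- elements of `trivMod` normalise `Z`. -/
theorem conj_mem_of_mem_trivMod [Finite T] {Z Y : Subgroup T} {hYZ : Y ≤ Z} {t : T}
    (ht : t ∈ trivMod Z Y hYZ) {z : T} (hz : z ∈ Z) : t * z * t⁻¹ ∈ Z := by
  have h1 := ht z hz
  have : t * z * t⁻¹ = (t * z * t⁻¹ * z⁻¹) * z := by group
  rw [this]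
  exact Z.mul_mem (hYZ h1) hz

/-- elements of `trivMod` normalise `Y`. -/
theorem conj_mem_Y_of_mem_trivMod [Finite T] {Z Y : Subgroup T} {hYZ : Y ≤ Z} {t : T}
    (ht : t ∈ trivMod Z Y hYZ) {y : T} (hy : y ∈ Y) : t * y * t⁻¹ ∈ Y := by
  have h1 := ht y (hYZ hy)
  have : t * y * t⁻¹ = (t * y * t⁻¹ * y⁻¹) * y := by group
  rw [this]
  exact Y.mul_mem h1 hy

/-- commuting with a generator-power of a prime-order element. -/
theorem commute_of_commute_pow {p : ℕ} (hp : p.Prime) {b x : T} (hb : b ^ p = 1) {j : ℕ}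
    (hj0 : 0 < j) (hjp : j < p) (h : x * b ^ j = b ^ j * x) : x * b = b * x := by
  have hcop : Nat.Coprime j p := by
    rw [Nat.coprime_comm]
    exact (Nat.Prime.coprime_iff_not_dvd hp).2 (Nat.not_dvd_of_pos_of_lt hj0 hjp)
  obtain ⟨m, -, hm⟩ := Nat.exists_mul_mod_eq_one_of_coprime hcop hp.one_lt
  have h1 : b ^ (j * m) = b := by
    conv_lhs => rw [← Nat.mod_add_div (j * m) p, hm, pow_add, pow_one, pow_mul, hb, one_pow,
      mul_one]
  have h2 : x * (b ^ j) ^ m = (b ^ j) ^ m * x := by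
    have : Commute x (b ^ j) := h
    exact (this.pow_right m)
  rwa [← pow_mul, h1] at h2


/-- if the commutator `z⁻¹ (b z b⁻¹)` is fixed by `b` then it is trivial (coprime orders). -/
theorem comm_fix_trivial {p : ℕ} {Z : Subgroup T}
    {b : T} (hbZ : ∀ z ∈ Z, b * z * b⁻¹ ∈ Z) (hbp : b ^ p = 1)
    (hcop : ∀ z ∈ Z, z ^ p = 1 → z = 1) {z : T} (hz : z ∈ Z)
    (hw : b * (z⁻¹ * (b * z * b⁻¹)) = (z⁻¹ * (b * z * b⁻¹)) * b) :
    z⁻¹ * (b * z * b⁻¹) = 1 := by
  obtain ⟨w, hwdef⟩ : ∃ w, w = z⁻¹ * (b * z * b⁻¹) := ⟨_, rfl⟩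
  rw [← hwdef] at hw ⊢
  have hwZ : w ∈ Z := by rw [hwdef]; exact Z.mul_mem (Z.inv_mem hz) (hbZ z hz)
  have hbw : b * w * b⁻¹ = w := by rw [hw]; group
  have hbz : b * z * b⁻¹ = z * w := by rw [hwdef]; group
  have key : ∀ j : ℕ, b ^ j * z * (b ^ j)⁻¹ = z * w ^ j := by
    intro j
    induction j with
    | zero => simp
    | succ j ih =>
      have h1 : b ^ (j + 1) * z * (b ^ (j + 1))⁻¹ = b * (b ^ j * z * (b ^ j)⁻¹) * b⁻¹ := by
        rw [pow_succ']; group
      rw [h1, ih]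
      have h2 : b * (z * w ^ j) * b⁻¹ = (b * z * b⁻¹) * (b * w * b⁻¹) ^ j := by
        rw [conj_pow]; group
      rw [h2, hbz, hbw, pow_succ', mul_assoc]
  have h3 := key p
  rw [hbp] at h3
  have h4 : w ^ p = 1 := by
    have : z * 1 = z * w ^ p := by
      rw [mul_one]
      simpa using h3
    exact (mul_left_cancel this).symm
  exact hcop w hwZ h4

/-- a hyperplane is maximal. -/
theorem sup_eq_of_hyp [Finite T] {l : ℕ} (hl : l.Prime) {Z Y Z1 : Subgroup T} (hYZ : Y ≤ Z)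
    (hcard : Nat.card Y * l = Nat.card Z) (hZ1 : Z1 ≤ Z) (hn : ¬ Z1 ≤ Y) : Y ⊔ Z1 = Z := by
  have hle : Y ⊔ Z1 ≤ Z := sup_le hYZ hZ1
  apply Subgroup.eq_of_le_of_card_ge hle
  obtain ⟨m, hm⟩ := Subgroup.card_dvd_of_le (le_sup_left : Y ≤ Y ⊔ Z1)
  have hYpos : 0 < Nat.card Y := Nat.card_pos
  have hdvd : Nat.card (Y ⊔ Z1 : Subgroup T) ∣ Nat.card Z := Subgroup.card_dvd_of_le hle
  rw [hm, ← hcard] at hdvd
  have hmp : m ∣ l := Nat.dvd_of_mul_dvd_mul_left hYpos hdvd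
  rcases (Nat.dvd_prime hl).1 hmp with h1 | h1
  · exfalso
    rw [h1, mul_one] at hm
    have h2 : Y = Y ⊔ Z1 := Subgroup.eq_of_le_of_card_ge le_sup_left (by rw [hm])
    apply hn
    rw [h2]; exact le_sup_right
  · rw [hm, h1, ← hcard]

/-- elements of the join of two commuting cyclic groups. -/
theorem mem_sup_zpowers_of_commute {a b : T} (hab : a * b = b * a) {x : T}
    (hx : x ∈ Subgroup.zpowers a ⊔ Subgroup.zpowers b) : ∃ m n : ℤ, x = a ^ m * b ^ n := by
  have hc : Commute a b := hab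
  let S : Subgroup T :=
    { carrier := {x | ∃ m n : ℤ, x = a ^ m * b ^ n}
      one_mem' := ⟨0, 0, by simp⟩
      mul_mem' := by
        rintro _ _ ⟨m, n, rfl⟩ ⟨m', n', rfl⟩
        refine ⟨m + m', n + n', ?_⟩
        have h1 : Commute (b ^ n) (a ^ m') := ((hc.zpow_zpow m' n).symm)
        rw [zpow_add, zpow_add]
        calc a ^ m * b ^ n * (a ^ m' * b ^ n') = a ^ m * (b ^ n * a ^ m') * b ^ n' := by group
          _ = a ^ m * (a ^ m' * b ^ n) * b ^ n' := by rw [h1.eq]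
          _ = a ^ m * a ^ m' * (b ^ n * b ^ n') := by group
      inv_mem' := by
        rintro _ ⟨m, n, rfl⟩
        refine ⟨-m, -n, ?_⟩
        have h1 : Commute (a ^ m) (b ^ n) := hc.zpow_zpow m n
        rw [mul_inv_rev, zpow_neg, zpow_neg]
        have := (h1.inv_inv).eq
        exact this.symm }
  have h1 : Subgroup.zpowers a ≤ S := by
    rw [Subgroup.zpowers_le]
    exact ⟨1, 0, by simp⟩
  have h2 : Subgroup.zpowers b ≤ S := by
    rw [Subgroup.zpowers_le]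
    exact ⟨0, 1, by simp⟩
  exact (sup_le h1 h2) hx

/-- a fixed-point-free element acts "bijectively by commutators". -/
theorem exists_comm_eq [Finite T] {R : Subgroup T} {b : T} (hbR : ∀ x ∈ R, b⁻¹ * x * b ∈ R)
    (hfix : ∀ x ∈ R, b * x = x * b → x = 1) {y : T} (hy : y ∈ R) :
    ∃ x ∈ R, y = b⁻¹ * x⁻¹ * b * x := by
  let f : R → R := fun x => ⟨b⁻¹ * (x : T)⁻¹ * b * x, by
    have h1 : b⁻¹ * (x : T)⁻¹ * b ∈ R := hbR _ (R.inv_mem x.2)
    exact R.mul_mem h1 x.2⟩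
  have hinj : Function.Injective f := by
    intro x x' h
    have h1 : b⁻¹ * (x : T)⁻¹ * b * x = b⁻¹ * (x' : T)⁻¹ * b * x' := congrArg Subtype.val h
    have h3 : (x : T)⁻¹ * b * x = (x' : T)⁻¹ * b * x' := by
      have := congrArg (fun t => b * t) h1
      simpa [mul_assoc] using this
    have h5 : ((x' : T) * (x : T)⁻¹) * b * ((x' : T) * (x : T)⁻¹)⁻¹ = b := by
      calc ((x' : T) * (x : T)⁻¹) * b * ((x' : T) * (x : T)⁻¹)⁻¹
          = (x' : T) * ((x : T)⁻¹ * b * x) * (x' : T)⁻¹ := by group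
        _ = b := by rw [h3]; group
    have h6 : b * ((x' : T) * (x : T)⁻¹) = ((x' : T) * (x : T)⁻¹) * b := by
      conv_lhs => rw [← h5]
      group
    have h7 := hfix _ (R.mul_mem x'.2 (R.inv_mem x.2)) h6
    have h8 : (x' : T) = x := by
      rw [mul_inv_eq_one] at h7
      exact h7
    exact (Subtype.ext h8).symm
  obtain ⟨x, hx⟩ := (Finite.injective_iff_surjective.1 hinj) ⟨y, hy⟩
  exact ⟨x, x.2, (congrArg Subtype.val hx).symm⟩


open scoped commutatorElement in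
/-- for an abelian group `Q = [Q, R]` under coprime action there are no fixed points. -/
theorem cent_eq_one_of_abelian [Finite T] {Q R : Subgroup T}
    (hQc : ∀ x ∈ Q, ∀ y ∈ Q, x * y = y * x)
    (hRQ : ∀ x ∈ R, ∀ q ∈ Q, x * q * x⁻¹ ∈ Q) (hcop : (Nat.card Q).Coprime (Nat.card R))
    (hcomm : Q ≤ ⁅Q, R⁆) {d : T} (hdQ : d ∈ Q) (hdR : ∀ x ∈ R, x * d = d * x) : d = 1 := by
  classical
  let _ : CommGroup Q :=
    { (inferInstance : Group Q) with mul_comm := fun a b => Subtype.ext (hQc a a.2 b b.2) }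
  have : Fintype R := Fintype.ofFinite R
  let φ : R → (Q →* Q) := fun x =>
    { toFun := fun q => ⟨x * q * (x : T)⁻¹, hRQ x x.2 q q.2⟩
      map_one' := by
        apply Subtype.ext
        simp
      map_mul' := by
        intro a c
        apply Subtype.ext
        show (x : T) * ((a : T) * (c : T)) * (x : T)⁻¹ =
          ((x : T) * a * (x : T)⁻¹) * ((x : T) * c * (x : T)⁻¹)
        group }
  let N : Q →* Q := ∏ x : R, φ x
  have hN : ∀ q : Q, N q = ∏ x : R, φ x q := by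
    intro q
    exact MonoidHom.finsetProd_apply _ _ _
  have hNφ : ∀ (y : R) (q : Q), N (φ y q) = N q := by
    intro y q
    rw [hN, hN]
    apply Fintype.prod_equiv (Equiv.mulRight y)
    intro x
    apply Subtype.ext
    show (x : T) * ((y : T) * q * (y : T)⁻¹) * (x : T)⁻¹ =
      ((x * y : R) : T) * q * ((x * y : R) : T)⁻¹
    rw [Subgroup.coe_mul]
    group
  have hker : ⁅Q, R⁆ ≤ (N.ker).map Q.subtype := by
    rw [Subgroup.commutator_le]
    intro q hq x hx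
    refine ⟨(⟨q, hq⟩ : Q) * φ ⟨x, hx⟩ (⟨q, hq⟩ : Q)⁻¹, ?_, ?_⟩
    · show N _ = 1
      rw [map_mul, hNφ, map_inv, mul_inv_cancel]
    · show q * (x * q⁻¹ * x⁻¹) = ⁅q, x⁆
      rw [commutatorElement_def]; group
  obtain ⟨d', hd', hdd⟩ := hker (hcomm hdQ)
  have hd1 : N d' = 1 := hd'
  have hd2 : (d' : T) = d := hdd
  have hd3 : ∀ x : R, φ x d' = d' := by
    intro x
    apply Subtype.ext
    show (x : T) * d' * (x : T)⁻¹ = d'
    rw [hd2, hdR x x.2]; group
  rw [hN, Finset.prod_congr rfl (fun x _ => hd3 x), Finset.prod_const, Finset.card_univ,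
    ← Nat.card_eq_fintype_card] at hd1
  have h1 : d ^ Nat.card R = 1 := by
    have := congrArg Subtype.val hd1
    rwa [Subgroup.coe_pow, hd2, Subgroup.coe_one] at this
  have h2 : d ^ Nat.card Q = 1 := by
    have := pow_card_eq_one' (G := Q) (x := ⟨d, hdQ⟩)
    have := congrArg Subtype.val this
    rwa [Subgroup.coe_pow, Subgroup.coe_one] at this
  have h3 : orderOf d ∣ Nat.gcd (Nat.card Q) (Nat.card R) :=
    Nat.dvd_gcd (orderOf_dvd_of_pow_eq_one h2) (orderOf_dvd_of_pow_eq_one h1)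
  rw [hcop.gcd_eq_one, Nat.dvd_one] at h3
  exact orderOf_eq_one_iff.1 h3


/-- in `A ≅ Z_p × Z_p = ⟨b0⟩ × ⟨b1⟩` every subgroup of order `p` other than `⟨b0⟩` contains
an element `b0 ^ i * b1`. -/
theorem exists_zpow_mul_mem [Finite T] {p : ℕ} (hp : p.Prime) {A B' : Subgroup T}
    (hAc : ∀ x ∈ A, ∀ y ∈ A, x * y = y * x) (hAp : ∀ x ∈ A, x ^ p = 1)
    (hAcard : Nat.card A = p ^ 2) {b0 b1 : T} (hb0 : b0 ∈ A) (hb1 : b1 ∈ A)
    (hc0 : Nat.card (Subgroup.zpowers b0) = p) (hc1 : Nat.card (Subgroup.zpowers b1) = p)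
    (hne : Subgroup.zpowers b0 ≠ Subgroup.zpowers b1)
    (hB'A : B' ≤ A) (hB'c : Nat.card B' = p) (hB'ne : B' ≠ Subgroup.zpowers b0) :
    ∃ i : ℤ, b0 ^ i * b1 ∈ B' := by
  have hB0A : Subgroup.zpowers b0 ≤ A := Subgroup.zpowers_le.2 hb0
  have hB1A : Subgroup.zpowers b1 ≤ A := Subgroup.zpowers_le.2 hb1
  have hsup : Subgroup.zpowers b0 ⊔ Subgroup.zpowers b1 = A := by
    apply sup_eq_of_hyp hp hB0A (by rw [hc0, hAcard, sq]) hB1A
    intro hle
    apply hne
    symm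
    exact Subgroup.eq_of_le_of_card_ge hle (by rw [hc0, hc1])
  -- a nonidentity element of B'
  have hB'nt : Nontrivial B' := by
    rw [← Finite.one_lt_card_iff_nontrivial, hB'c]
    exact hp.one_lt
  obtain ⟨⟨b', hb'⟩, hb'1⟩ := exists_ne (1 : B')
  have hb'ne : b' ≠ 1 := fun h => hb'1 (Subtype.ext h)
  have hzb' : Subgroup.zpowers b' = B' := by
    apply Subgroup.eq_of_le_of_card_ge (Subgroup.zpowers_le.2 hb')
    have h1 : Nat.card (Subgroup.zpowers b') ∣ p := by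
      rw [← hB'c]; exact Subgroup.card_dvd_of_le (Subgroup.zpowers_le.2 hb')
    rcases (Nat.dvd_prime hp).1 h1 with h2 | h2
    · exfalso
      rw [Nat.card_zpowers, orderOf_eq_one_iff] at h2
      exact hb'ne h2
    · rw [h2, hB'c]
  have hb'A : b' ∈ Subgroup.zpowers b0 ⊔ Subgroup.zpowers b1 := by rw [hsup]; exact hB'A hb'
  obtain ⟨m, n, hmn⟩ := mem_sup_zpowers_of_commute (hAc b0 hb0 b1 hb1) hb'A
  have hb1p : b1 ^ p = 1 := hAp b1 hb1
  have hnd : ¬ (p : ℤ) ∣ n := by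
    rintro ⟨k, hk⟩
    have h1 : b1 ^ n = 1 := by
      rw [hk, zpow_mul, zpow_natCast, hb1p, one_zpow]
    rw [h1, mul_one] at hmn
    apply hB'ne
    have h2 : B' ≤ Subgroup.zpowers b0 := by
      rw [← hzb', Subgroup.zpowers_le, hmn]
      exact Subgroup.zpow_mem_zpowers b0 m
    exact Subgroup.eq_of_le_of_card_ge h2 (by rw [hc0, hB'c])
  have hcop : IsCoprime n (p : ℤ) := by
    have h1 : Nat.Coprime p n.natAbs := by
      rw [Nat.Prime.coprime_iff_not_dvd hp]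
      intro h
      exact hnd (Int.natCast_dvd.2 h)
    have h2 : IsCoprime (p : ℤ) n := by
      rw [Int.isCoprime_iff_gcd_eq_one, Int.gcd, Int.natAbs_natCast]
      exact h1
    exact h2.symm
  obtain ⟨u, v, huv⟩ := hcop
  -- u * n + v * p = 1
  refine ⟨m * u, ?_⟩
  have hc01 : Commute b0 b1 := hAc b0 hb0 b1 hb1
  have hcomm : Commute (b0 ^ m) (b1 ^ n) := hc01.zpow_zpow m n
  have h3 : b' ^ u = b0 ^ (m * u) * b1 := by
    rw [hmn, hcomm.mul_zpow, ← zpow_mul, ← zpow_mul]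
    congr 1
    have h4 : n * u = 1 - v * p := by linarith
    rw [h4, zpow_sub, zpow_one, zpow_mul', zpow_natCast, hb1p, one_zpow, inv_one, mul_one]
  rw [← h3]
  exact B'.zpow_mem hb' u

end basic

end Cfsg.Agent.Lib.Helper8.Ward
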