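import Mathlib
import Cfsg.Agent.Lib.Helper8.SBS4
import Cfsg.Agent.Lib.Helper8.WardA

/-!
# Ward's theorem, part B: the trace lemma
-/

set_option autoImplicit false
set_option linter.unusedSectionVars false
set_option linter.unusedVariables false

namespace Cfsg.Agent.Lib.Helper8.Ward

open Cfsg.Agent.Lib.Helper8.SBS

universe u w

section trace

variable {V : Type u} [AddCommGroup V] [Finite V] {T : Type w} [Group T] [Finite T]
  [DistribMulAction T V]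

theorem nu_eq_sum (K : Subgroup T) [Fintype K] (v : V) : nu K v = ∑ k : K, (k : T) • v := by
  unfold nu
  rw [finsum_eq_sum_of_fintype]

/-- **Trace lemma** (replaces the character theory of the Frobenius group `Z1 ⋊ ⟨b⟩`). -/
theorem frob_trace {p : ℕ} (Z1 : Subgroup T) (b : T)
    (hbZ1 : ∀ z ∈ Z1, b * z * b⁻¹ ∈ Z1)
    (hfix : ∀ j, 0 < j → j < p → ∀ z ∈ Z1, b ^ j * z = z * b ^ j → z = 1)
    (n : V) (h1 : ∀ k ∈ Z1, mu p b (k • n) = 0)
    (h2 : ∀ j, 0 < j → j < p → nu Z1 (b ^ j • n) = 0) (hp : 0 < p) :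
    Nat.card Z1 • n = 0 := by
  classical
  have : Fintype Z1 := Fintype.ofFinite Z1
  have hbj : ∀ j : ℕ, ∀ z ∈ Z1, b ^ j * z * (b ^ j)⁻¹ ∈ Z1 := by
    intro j
    induction j with
    | zero => intro z hz; simpa using hz
    | succ j ih =>
      intro z hz
      have : b ^ (j + 1) * z * (b ^ (j + 1))⁻¹ = b * (b ^ j * z * (b ^ j)⁻¹) * b⁻¹ := by
        rw [pow_succ']; group
      rw [this]
      exact hbZ1 _ (ih z hz)
  have h0 : ∑ k : Z1, ((k : T)⁻¹) • mu p b ((k : T) • n) = 0 := by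
    apply Finset.sum_eq_zero
    intro k _
    rw [h1 k k.2, smul_zero]
  have hexp : ∑ k : Z1, ((k : T)⁻¹) • mu p b ((k : T) • n) =
      ∑ j ∈ Finset.range p, ∑ k : Z1, ((k : T)⁻¹ * b ^ j * k) • n := by
    unfold mu
    rw [Finset.sum_comm]
    refine Finset.sum_congr rfl fun k _ => ?_
    rw [Finset.smul_sum]
    refine Finset.sum_congr rfl fun j _ => ?_
    rw [← mul_smul, ← mul_smul, mul_assoc]
  rw [hexp] at h0
  have hj : ∀ j ∈ Finset.range p, j ≠ 0 → ∑ k : Z1, ((k : T)⁻¹ * b ^ j * k) • n = 0 := by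
    intro j hj hj0
    have hjp : j < p := Finset.mem_range.1 hj
    have hj0' : 0 < j := Nat.pos_of_ne_zero hj0
    let ψ : Z1 → Z1 := fun k => ⟨(k : T)⁻¹ * (b ^ j * k * (b ^ j)⁻¹),
      Z1.mul_mem (Z1.inv_mem k.2) (hbj j k k.2)⟩
    have hinj : Function.Injective ψ := by
      intro k k' h
      have e1 : (k : T)⁻¹ * (b ^ j * k * (b ^ j)⁻¹) = (k' : T)⁻¹ * (b ^ j * k' * (b ^ j)⁻¹) :=
        congrArg Subtype.val h
      have e2 : b ^ j * ((k' : T) * (k : T)⁻¹) = ((k' : T) * (k : T)⁻¹) * b ^ j := by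
        have e3 : (k' : T) * (k : T)⁻¹ * (b ^ j * k * (b ^ j)⁻¹) = b ^ j * k' * (b ^ j)⁻¹ := by
          rw [mul_assoc, e1]; group
        have e4 : (k' : T) * (k : T)⁻¹ = b ^ j * ((k' : T) * (k : T)⁻¹) * (b ^ j)⁻¹ := by
          calc (k' : T) * (k : T)⁻¹
              = ((k' : T) * (k : T)⁻¹ * (b ^ j * k * (b ^ j)⁻¹)) * (b ^ j * k * (b ^ j)⁻¹)⁻¹ := by
                group
            _ = (b ^ j * k' * (b ^ j)⁻¹) * (b ^ j * k * (b ^ j)⁻¹)⁻¹ := by rw [e3]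
            _ = b ^ j * ((k' : T) * (k : T)⁻¹) * (b ^ j)⁻¹ := by group
        conv_rhs => rw [e4]
        group
      have e5 := hfix j hj0' hjp _ (Z1.mul_mem k'.2 (Z1.inv_mem k.2)) e2
      rw [mul_inv_eq_one] at e5
      exact (Subtype.ext e5).symm
    have hbij : Function.Bijective ψ := ⟨hinj, Finite.injective_iff_surjective.1 hinj⟩
    have e6 : ∑ k : Z1, ((k : T)⁻¹ * b ^ j * k) • n = ∑ k : Z1, ((ψ k : Z1) : T) • (b ^ j • n) := by
      refine Finset.sum_congr rfl fun k _ => ?_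
      rw [← mul_smul]
      congr 1
      show (k : T)⁻¹ * b ^ j * k = (k : T)⁻¹ * (b ^ j * k * (b ^ j)⁻¹) * b ^ j
      group
    rw [e6]
    have e7 : ∑ k : Z1, ((ψ k : Z1) : T) • (b ^ j • n) = ∑ z : Z1, (z : T) • (b ^ j • n) :=
      Fintype.sum_bijective ψ hbij _ _ (fun _ => rfl)
    rw [e7, ← nu_eq_sum]
    exact h2 j hj0' hjp
  rw [Finset.sum_eq_single_of_mem 0 (Finset.mem_range.2 hp) hj] at h0
  simpa [Finset.sum_const, Finset.card_univ, Nat.card_eq_fintype_card] using h0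

end trace


section comp

variable {V : Type u} [AddCommGroup V] [Finite V] {T : Type w} [Group T] [Finite T]
  [DistribMulAction T V]

theorem nu_smul_of_mem {K : Subgroup T} {k : T} (hk : k ∈ K) (v : V) : nu K (k • v) = nu K v := by
  classical
  have : Fintype K := Fintype.ofFinite K
  rw [nu_eq_sum, nu_eq_sum]
  apply Fintype.sum_equiv (Equiv.mulRight (⟨k, hk⟩ : K))
  intro k'
  show (k' : T) • k • v = ((k' * ⟨k, hk⟩ : K) : T) • v
  rw [Subgroup.coe_mul, mul_smul]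

theorem nu_neg (K : Subgroup T) (v : V) : nu K (-v) = - nu K v := map_neg (nuHom K) v

theorem nu_sub (K : Subgroup T) (u v : V) : nu K (u - v) = nu K u - nu K v :=
  map_sub (nuHom K) u v

theorem mu_sub (p : ℕ) (g : T) (u v : V) : mu p g (u - v) = mu p g u - mu p g v := by
  unfold mu
  rw [← Finset.sum_sub_distrib]
  exact Finset.sum_congr rfl fun k _ => smul_sub _ _ _

theorem conjSub_eq_self {t : T} {K : Subgroup T} (h : ∀ z ∈ K, t * z * t⁻¹ ∈ K) :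
    conjSub t K = K := by
  apply Subgroup.eq_of_le_of_card_ge
  · rintro _ ⟨z, hz, rfl⟩
    exact h z hz
  · rw [card_conjSub]

theorem coprime_card_of_isPGroup {l : ℕ} [Fact l.Prime] (hVl : (Nat.card V).Coprime l)
    {K : Subgroup T} (hK : IsPGroup l K) : (Nat.card V).Coprime (Nat.card K) := by
  obtain ⟨n, hn⟩ := IsPGroup.iff_card.1 hK
  rw [hn]
  exact Nat.Coprime.pow_right n hVl

/-- the component of the hyperplane `Y` of `Z` inside the part of `V` without `Z`-fixed points. -/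
noncomputable def FY (Z Y : Subgroup T) : AddSubgroup V := fixedPts Y ⊓ (nuHom Z).ker

theorem mem_FY {Z Y : Subgroup T} {v : V} :
    v ∈ FY (V := V) Z Y ↔ (∀ y ∈ Y, y • v = v) ∧ nu Z v = 0 := by
  unfold FY
  rw [AddSubgroup.mem_inf, AddMonoidHom.mem_ker, nuHom_apply]
  rfl

/-- an element normalising `Z` and `Y` maps `FY` to itself. -/
theorem smul_mem_FY {Z Y : Subgroup T} {t : T} (hZ : ∀ z ∈ Z, t * z * t⁻¹ ∈ Z)
    (hY : ∀ y ∈ Y, t * y * t⁻¹ ∈ Y) {v : V} (hv : v ∈ FY (V := V) Z Y) :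
    t • v ∈ FY (V := V) Z Y := by
  rw [mem_FY] at hv ⊢
  constructor
  · have h1 := smul_mem_fixedPts_conjSub (K := Y) (v := v) hv.1 t
    rw [conjSub_eq_self hY] at h1
    exact h1
  · have h1 := smul_nu_conjSub Z t v
    rw [conjSub_eq_self hZ, hv.2, smul_zero] at h1
    exact h1.symm

/-- conjugating the hyperplane moves the component. -/
theorem smul_mem_FY_conj {Z Y : Subgroup T} {t : T} (hZ : ∀ z ∈ Z, t * z * t⁻¹ ∈ Z)
    {v : V} (hv : v ∈ FY (V := V) Z Y) : t • v ∈ FY (V := V) Z (conjSub t Y) := by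
  rw [mem_FY] at hv ⊢
  constructor
  · exact smul_mem_fixedPts_conjSub (K := Y) (v := v) hv.1 t
  · have h1 := smul_nu_conjSub Z t v
    rw [conjSub_eq_self hZ, hv.2, smul_zero] at h1
    exact h1.symm

/-- **U1.** -/
theorem U1 {p l : ℕ} (hp : p.Prime) [hl : Fact l.Prime] (hpl : p ≠ l)
    (hVl : (Nat.card V).Coprime l) {Q Z Y : Subgroup T}
    (hYZ : Y ≤ Z) (hYcard : Nat.card Y * l = Nat.card Z) (hZl : IsPGroup l Z)
    (hZc : ∀ x ∈ Z, ∀ y ∈ Z, x * y = y * x) (hZQ : ∀ z ∈ Z, ∀ q ∈ Q, z * q = q * z)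
    {b : T} (hbp : b ^ p = 1) (hbZ : ∀ z ∈ Z, b * z * b⁻¹ ∈ Z)
    {z1 : T} (hz1 : z1 ∈ Z) (hz1Y : z1⁻¹ * (b * z1 * b⁻¹) ∉ Y)
    {g : T} (hgQ : g ∈ Q) (hgb : g * b = b * g)
    (hgfix : ∀ v : V, b • v = v → g • v = v) :
    ∀ v ∈ FY (V := V) Z Y, g • v = v := by
  classical
  -- the hom δ
  let δ : Z →* T :=
    { toFun := fun z => (z : T)⁻¹ * (b * z * b⁻¹)
      map_one' := by simp
      map_mul' := by
        intro x y
        have hx' : b * (x : T) * b⁻¹ ∈ Z := hbZ x x.2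
        have hy' : b * (y : T) * b⁻¹ ∈ Z := hbZ y y.2
        have c1 : (y : T)⁻¹ * (x : T)⁻¹ = (x : T)⁻¹ * (y : T)⁻¹ :=
          (hZc _ (Z.inv_mem y.2) _ (Z.inv_mem x.2))
        have c2 : (y : T)⁻¹ * (b * x * b⁻¹) = (b * x * b⁻¹) * (y : T)⁻¹ :=
          hZc _ (Z.inv_mem y.2) _ hx'
        show ((x : T) * (y : T))⁻¹ * (b * ((x : T) * (y : T)) * b⁻¹) =
          ((x : T)⁻¹ * (b * x * b⁻¹)) * ((y : T)⁻¹ * (b * y * b⁻¹))
        calc ((x : T) * (y : T))⁻¹ * (b * ((x : T) * (y : T)) * b⁻¹)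
            = ((y : T)⁻¹ * (x : T)⁻¹) * ((b * x * b⁻¹) * (b * y * b⁻¹)) := by group
          _ = (x : T)⁻¹ * ((y : T)⁻¹ * (b * x * b⁻¹)) * (b * y * b⁻¹) := by rw [c1]; group
          _ = (x : T)⁻¹ * ((b * x * b⁻¹) * (y : T)⁻¹) * (b * y * b⁻¹) := by rw [c2]
          _ = ((x : T)⁻¹ * (b * x * b⁻¹)) * ((y : T)⁻¹ * (b * y * b⁻¹)) := by group }
  have hδ : ∀ z : Z, δ z = (z : T)⁻¹ * (b * z * b⁻¹) := fun z => rfl
  let Z1 : Subgroup T := δ.range
  have hZ1Z : Z1 ≤ Z := by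
    rintro _ ⟨z, rfl⟩
    rw [hδ]
    exact Z.mul_mem (Z.inv_mem z.2) (hbZ z z.2)
  have hbZ1 : ∀ z ∈ Z1, b * z * b⁻¹ ∈ Z1 := by
    rintro _ ⟨z, rfl⟩
    refine ⟨⟨b * z * b⁻¹, hbZ z z.2⟩, ?_⟩
    rw [hδ, hδ]
    show (b * (z : T) * b⁻¹)⁻¹ * (b * (b * (z : T) * b⁻¹) * b⁻¹) =
      b * ((z : T)⁻¹ * (b * z * b⁻¹)) * b⁻¹
    group
  have hcopZ : ∀ z ∈ Z, z ^ p = 1 → z = 1 := by
    intro z hz hzp
    obtain ⟨k, hk⟩ := hZl ⟨z, hz⟩
    have hk' : z ^ l ^ k = 1 := by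
      have := congrArg Subtype.val hk
      rwa [Subgroup.coe_pow, Subgroup.coe_one] at this
    have h3 : orderOf z ∣ Nat.gcd p (l ^ k) :=
      Nat.dvd_gcd (orderOf_dvd_of_pow_eq_one hzp) (orderOf_dvd_of_pow_eq_one hk')
    have h4 : Nat.Coprime p (l ^ k) :=
      Nat.Coprime.pow_right k ((Nat.coprime_primes hp hl.out).2 hpl)
    rw [h4.gcd_eq_one, Nat.dvd_one] at h3
    exact orderOf_eq_one_iff.1 h3
  have hfix : ∀ j, 0 < j → j < p → ∀ z ∈ Z1, b ^ j * z = z * b ^ j → z = 1 := by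
    rintro j hj0 hjp _ ⟨z, rfl⟩ hcomm
    rw [hδ] at hcomm ⊢
    have h1 : (z : T)⁻¹ * (b * z * b⁻¹) * b = b * ((z : T)⁻¹ * (b * z * b⁻¹)) :=
      commute_of_commute_pow hp hbp hj0 hjp hcomm.symm
    exact comm_fix_trivial hbZ hbp hcopZ z.2 h1.symm
  have hZ1Y : ¬ Z1 ≤ Y := fun h => hz1Y (h ⟨⟨z1, hz1⟩, rfl⟩)
  have hsup : Y ⊔ Z1 = Z := sup_eq_of_hyp hl.out hYZ hYcard hZ1Z hZ1Y
  have hcV : (Nat.card V).Coprime (Nat.card Z) := coprime_card_of_isPGroup hVl hZl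
  have hcV1 : (Nat.card V).Coprime (Nat.card Z1) :=
    Nat.Coprime.coprime_dvd_right (Subgroup.card_dvd_of_le hZ1Z) hcV
  -- the trace over Z1 vanishes on FY
  have hnuZ1 : ∀ v ∈ FY (V := V) Z Y, nu Z1 v = 0 := by
    intro v hv
    rw [mem_FY] at hv
    have hw1 : nu Z1 v ∈ fixedPts (V := V) Z1 := nu_mem_fixedPts Z1 v
    have hw2 : nu Z1 v ∈ fixedPts (V := V) Y := by
      intro y hy
      rw [smul_nu_of_commute (fun k hk => hZc y (hYZ hy) k (hZ1Z hk)), hv.1 y hy]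
    have hw3 : nu Z1 v ∈ fixedPts (V := V) Z := by
      rw [← hsup, fixedPts_sup]; exact ⟨hw2, hw1⟩
    have hw4 : nu Z (nu Z1 v) = Nat.card Z • nu Z1 v := nu_of_mem_fixedPts hw3
    have hw5 : nu Z (nu Z1 v) = 0 := by
      have : Fintype Z1 := Fintype.ofFinite Z1
      rw [nu_eq_sum Z1, nu_sum]
      apply Finset.sum_eq_zero
      intro k _
      rw [nu_smul_of_mem (hZ1Z k.2), hv.2]
    rw [hw5] at hw4
    exact eq_zero_of_nsmul_eq_zero hcV hw4.symm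
  intro v hv
  have hgZ : ∀ k ∈ Z, g * k = k * g := fun k hk => (hZQ k hk g hgQ).symm
  have key : Nat.card Z1 • (g • v - v) = 0 := by
    apply frob_trace (p := p) Z1 b hbZ1 hfix (g • v - v) _ _ hp.pos
    · intro k hk
      have e1 : k • (g • v - v) = g • (k • v) - k • v := by
        rw [smul_sub, ← mul_smul, ← mul_smul, hgZ k (hZ1Z hk)]
      rw [e1, mu_sub, ← smul_mu_of_commute p hgb, hgfix _ (smul_mu_self hbp _), sub_self]
    · intro j hj0 hjp
      have hbj : ∀ z ∈ Z1, b ^ j * z * (b ^ j)⁻¹ ∈ Z1 := by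
        have : ∀ j : ℕ, ∀ z ∈ Z1, b ^ j * z * (b ^ j)⁻¹ ∈ Z1 := by
          intro j
          induction j with
          | zero => intro z hz; simpa using hz
          | succ j ih =>
            intro z hz
            have : b ^ (j + 1) * z * (b ^ (j + 1))⁻¹ = b * (b ^ j * z * (b ^ j)⁻¹) * b⁻¹ := by
              rw [pow_succ']; group
            rw [this]
            exact hbZ1 _ (ih z hz)
        exact this j
      have e2 := smul_nu_conjSub Z1 (b ^ j) (g • v - v)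
      rw [conjSub_eq_self hbj] at e2
      rw [← e2, nu_sub, ← smul_nu_of_commute (fun k hk => hgZ k (hZ1Z hk)), hnuZ1 v hv,
        smul_zero, sub_self, smul_zero]
  have := eq_zero_of_nsmul_eq_zero hcV1 key
  exact sub_eq_zero.1 this

end comp

end Cfsg.Agent.Lib.Helper8.Ward
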