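import Mathlib

/-!
# Regular subsets for `p`-groups of permutations, `p` odd

A finite `p`-group (`p` odd) acting on a finite set `I` has a subset `J ⊆ I` whose setwise
stabilizer is the kernel of the action.
-/

set_option autoImplicit false
set_option linter.unusedSectionVars false

namespace Cfsg.Agent.Lib.Helper8.SBS

universe v

section regsub

variable {P : Type*} [Group P] [Finite P] (p : ℕ) [hp : Fact p.Prime]

/-- existence of an element acting as a central permutation of order `p`. -/
theorem exists_central_perm (hP : IsPGroup p P) {I : Type v} [Finite I] [MulAction P I]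
    (hnt : ∃ (g : P) (i : I), g • i ≠ i) :
    ∃ x : P, (∃ i : I, x • i ≠ i) ∧ (∀ i : I, x ^ p • i = i) ∧
      ∀ (g : P) (i : I), x • g • i = g • x • i := by
  classical
  let σ : P →* Equiv.Perm I := MulAction.toPermHom P I
  have hR : IsPGroup p σ.range := hP.of_surjective σ.rangeRestrict σ.rangeRestrict_surjective
  have hnt' : Nontrivial σ.range := by
    obtain ⟨g, i, hgi⟩ := hnt
    refine ⟨⟨⟨σ g, g, rfl⟩, 1, ?_⟩⟩
    intro h
    apply hgi
    have h1 : σ g = 1 := congrArg Subtype.val h
    have := Equiv.Perm.ext_iff.1 h1 i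
    simpa [σ] using this
  have hcn : Nontrivial (Subgroup.center σ.range) := hR.center_nontrivial
  have hcp : IsPGroup p (Subgroup.center σ.range) := hR.to_subgroup _
  obtain ⟨k, hk⟩ := IsPGroup.iff_card.1 hcp
  have hk0 : k ≠ 0 := by
    rintro rfl
    rw [pow_zero] at hk
    have := Finite.one_lt_card_iff_nontrivial.2 hcn
    omega
  have hdvd : p ∣ Nat.card (Subgroup.center σ.range) := by
    rw [hk]
    exact dvd_pow_self p hk0
  obtain ⟨c, hc⟩ := exists_prime_orderOf_dvd_card' p hdvd
  obtain ⟨x, hx⟩ := c.1.2
  have hxs : σ x = (c.1 : Equiv.Perm I) := hx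
  have hord : orderOf (c.1 : Equiv.Perm I) = p := by
    rw [Subgroup.orderOf_coe, Subgroup.orderOf_coe]
    exact hc
  refine ⟨x, ?_, ?_, ?_⟩
  · by_contra hcon
    push Not at hcon
    have h1 : σ x = 1 := by
      ext i
      simpa [σ] using hcon i
    rw [hxs] at h1
    rw [h1, orderOf_one] at hord
    exact hp.out.one_lt.ne hord
  · intro i
    have h1 : σ (x ^ p) = 1 := by
      rw [map_pow, hxs, ← hord, pow_orderOf_eq_one]
    have := Equiv.Perm.ext_iff.1 h1 i
    simpa [σ] using this
  · intro g i
    have h1 : (c.1 : σ.range) * ⟨σ g, g, rfl⟩ = ⟨σ g, g, rfl⟩ * c.1 :=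
      (Subgroup.mem_center_iff.1 c.2 ⟨σ g, g, rfl⟩).symm
    have h2 : σ x * σ g = σ g * σ x := by
      rw [hxs]
      exact congrArg Subtype.val h1
    have := Equiv.Perm.ext_iff.1 h2 i
    simpa [σ] using this

end regsub

section quot

variable {P : Type*} [Group P] {I : Type v} [MulAction P I] (x : P)
  (hcomm : ∀ (g : P) (i : I), x • g • i = g • x • i)

/-- the relation "same orbit under `x`". -/
def xRel : Setoid I where
  r i j := ∃ k : ℤ, x ^ k • i = j
  iseqv :=
    { refl := fun i => ⟨0, by rw [zpow_zero, one_smul]⟩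
      symm := by
        rintro i j ⟨k, rfl⟩
        exact ⟨-k, by rw [← mul_smul, ← zpow_add, neg_add_cancel, zpow_zero, one_smul]⟩
      trans := by
        rintro i j l ⟨k, rfl⟩ ⟨m, rfl⟩
        exact ⟨m + k, by rw [zpow_add, mul_smul]⟩ }

include hcomm in
theorem zpow_comm (g : P) (k : ℤ) (i : I) : x ^ k • g • i = g • x ^ k • i := by
  have hnat : ∀ n : ℕ, ∀ i : I, x ^ n • g • i = g • x ^ n • i := by
    intro n
    induction n with
    | zero => intro i; simp
    | succ n ih =>
      intro i
      rw [pow_succ, mul_smul, mul_smul, hcomm, ih]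
  have hinv : ∀ i : I, x⁻¹ • g • i = g • x⁻¹ • i := by
    intro i
    have := hcomm g (x⁻¹ • i)
    rw [smul_inv_smul] at this
    rw [← this, inv_smul_smul]
  have hnat' : ∀ n : ℕ, ∀ i : I, (x⁻¹) ^ n • g • i = g • (x⁻¹) ^ n • i := by
    intro n
    induction n with
    | zero => intro i; simp
    | succ n ih =>
      intro i
      rw [pow_succ, mul_smul, mul_smul, hinv, ih]
  cases k with
  | ofNat n => simpa using hnat n i
  | negSucc n =>
    rw [zpow_negSucc, ← inv_pow]
    exact hnat' (n + 1) i

/-- the induced action on the set of `x`-orbits. -/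
@[reducible] def quotAction : MulAction P (Quotient (xRel (I := I) x)) where
  smul g := Quotient.map' (fun i => g • i) (by
    rintro i j ⟨k, rfl⟩
    exact ⟨k, zpow_comm x hcomm g k i⟩)
  one_smul := by
    intro q
    induction q using Quotient.inductionOn' with
    | h i =>
      show Quotient.mk'' ((1 : P) • i) = Quotient.mk'' i
      rw [one_smul]
  mul_smul := by
    intro g h q
    induction q using Quotient.inductionOn' with
    | h i =>
      show Quotient.mk'' ((g * h) • i) = Quotient.mk'' (g • h • i)
      rw [mul_smul]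

theorem quotAction_mk (g : P) (i : I) :
    (quotAction x hcomm).smul g (Quotient.mk'' i) = Quotient.mk'' (g • i) := rfl

end quot

section main

variable {P : Type*} [Group P] [Finite P] (p : ℕ) [hp : Fact p.Prime]

theorem exists_regular_subset_aux (hp2 : p ≠ 2) (hP : IsPGroup p P) :
    ∀ (n : ℕ) (I : Type v) [Finite I] [MulAction P I], Nat.card I = n →
      ∃ J : Set I, ∀ g : P, (∀ i, i ∈ J ↔ g • i ∈ J) → ∀ i : I, g • i = i := by
  intro n
  induction n using Nat.strong_induction_on with
  | _ n ih =>
  intro I _ _ hn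
  classical
  by_cases htriv : ∀ (g : P) (i : I), g • i = i
  · exact ⟨∅, fun g _ => htriv g⟩
  push Not at htriv
  obtain ⟨x, ⟨i₀, hi₀⟩, hxp, hcomm⟩ := exists_central_perm p hP htriv
  -- the quotient
  let _ : MulAction P (Quotient (xRel (I := I) x)) := quotAction x hcomm
  have hsm : ∀ (g : P) (i : I),
      g • (Quotient.mk'' i : Quotient (xRel (I := I) x)) = Quotient.mk'' (g • i) :=
    fun g i => rfl
  have hlt : Nat.card (Quotient (xRel (I := I) x)) < n := by
    rw [← hn]
    have : Fintype I := Fintype.ofFinite I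
    have : Fintype (Quotient (xRel (I := I) x)) := Fintype.ofFinite _
    rw [Nat.card_eq_fintype_card, Nat.card_eq_fintype_card]
    apply Fintype.card_lt_of_surjective_not_injective
      (Quotient.mk'' : I → Quotient (xRel (I := I) x)) Quotient.mk''_surjective
    intro hinj
    apply hi₀
    apply hinj
    apply Quotient.sound'
    exact ⟨-1, by rw [zpow_neg, zpow_one, inv_smul_smul]⟩
  obtain ⟨Jb, hJb⟩ := ih _ hlt (Quotient (xRel (I := I) x)) rfl
  -- notation
  set cls : I → Quotient (xRel (I := I) x) := Quotient.mk'' with hcls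
  set rep : Quotient (xRel (I := I) x) → I := Quotient.out with hrep
  have hcr : ∀ c, cls (rep c) = c := fun c => Quotient.out_eq' c
  have hcx : ∀ i, cls (x • i) = cls i := by
    intro i
    apply Quotient.sound'
    exact ⟨-1, by rw [zpow_neg, zpow_one, inv_smul_smul]⟩
  have hrel : ∀ i j, cls i = cls j → ∃ k : ℤ, x ^ k • i = j := fun i j h => Quotient.exact' h
  -- a class with a fixed point is a singleton
  have hA : ∀ r j : I, x • r = r → cls j = cls r → j = r := by
    intro r j hr hj
    obtain ⟨k, hk⟩ := hrel r j hj.symm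
    have hfix : ∀ k : ℤ, x ^ k • r = r := by
      intro k
      have hnat : ∀ m : ℕ, x ^ m • r = r := by
        intro m
        induction m with
        | zero => simp
        | succ m ihm => rw [pow_succ, mul_smul, hr, ihm]
      cases k with
      | ofNat m => simpa using hnat m
      | negSucc m =>
        rw [zpow_negSucc]
        have := hnat (m + 1)
        rw [← this, inv_smul_smul, this]
    rw [← hk, hfix]
  -- the set J
  let J : Set I := {i | (i = rep (cls i) ∧ (x • i ≠ i ∨ cls i ∈ Jb)) ∨
    (cls i ∈ Jb ∧ x • rep (cls i) ≠ rep (cls i) ∧ i = x • rep (cls i))}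
  have hJmem : ∀ i, i ∈ J ↔ (i = rep (cls i) ∧ (x • i ≠ i ∨ cls i ∈ Jb)) ∨
    (cls i ∈ Jb ∧ x • rep (cls i) ≠ rep (cls i) ∧ i = x • rep (cls i)) := fun i => Iff.rfl
  -- elements of J in a class
  have hB : ∀ j, j ∈ J → j = rep (cls j) ∨ j = x • rep (cls j) := by
    intro j hj
    rcases (hJmem j).1 hj with h | h
    · exact Or.inl h.1
    · exact Or.inr h.2.2
  -- triviality of a class
  let T' : Quotient (xRel (I := I) x) → Prop := fun c => ∀ i, cls i = c → x • i = i
  have hT'rep : ∀ c, T' c ↔ x • rep c = rep c := by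
    intro c
    constructor
    · intro h
      exact h _ (hcr c)
    · intro h i hi
      have := hA (rep c) i h (by rw [hi, hcr])
      rw [this, h]
  -- the characterization of `Jb`
  let Φ : Quotient (xRel (I := I) x) → Prop := fun c =>
    (T' c ∧ ∃ i ∈ J, cls i = c) ∨ (¬ T' c ∧ ∃ i ∈ J, cls i = c ∧ x • i ∈ J)
  have hchar : ∀ c, c ∈ Jb ↔ Φ c := by
    intro c
    constructor
    · intro hc
      by_cases hT : x • rep c = rep c
      · left
        refine ⟨(hT'rep c).2 hT, rep c, ?_, hcr c⟩
        rw [hJmem]
        left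
        rw [hcr]
        exact ⟨rfl, Or.inr hc⟩
      · right
        refine ⟨fun h => hT ((hT'rep c).1 h), rep c, ?_, hcr c, ?_⟩
        · rw [hJmem]
          left
          rw [hcr]
          exact ⟨rfl, Or.inl hT⟩
        · rw [hJmem]
          right
          rw [hcx, hcr]
          exact ⟨hc, hT, rfl⟩
    · rintro (⟨hT, i, hiJ, hic⟩ | ⟨hT, i, hiJ, hic, hxi⟩)
      · rcases (hJmem i).1 hiJ with h | h
        · rcases h.2 with h2 | h2
          · exact absurd (hT i hic) h2
          · rw [← hic]; exact h2
        · rw [← hic]; exact h.1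
      · rcases (hJmem i).1 hiJ with h | h
        · -- i = rep c
          have hir : i = rep c := by rw [← hic]; exact h.1
          rcases (hJmem (x • i)).1 hxi with h' | h'
          · exfalso
            apply hT
            rw [hT'rep]
            have : x • i = rep (cls (x • i)) := h'.1
            rw [hcx, hic] at this
            rw [← hir]
            rw [this, ← hir]
          · rw [← hic, ← hcx]; exact h'.1
        · rw [← hic]; exact h.1
  refine ⟨J, ?_⟩
  intro g hg
  -- `g⁻¹` also stabilizes `J`
  have hg' : ∀ i, i ∈ J ↔ g⁻¹ • i ∈ J := by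
    intro i
    rw [hg (g⁻¹ • i), smul_inv_smul]
  -- equivariance
  have hcg : ∀ (h : P) (i : I), cls (h • i) = h • cls i := fun h i => (hsm h i).symm
  have hΦ : ∀ (h : P), (∀ i, i ∈ J ↔ h • i ∈ J) → ∀ c, Φ c → Φ (h • c) := by
    intro h hh c hc
    have hT'eq : T' c ↔ T' (h • c) := by
      constructor
      · intro hT i hi
        have h1 : cls (h⁻¹ • i) = c := by rw [hcg, hi, inv_smul_smul]
        have h2 := hT _ h1
        have h3 := hcomm h⁻¹ i
        rw [h2] at h3
        have h4 : h • h⁻¹ • i = h • h⁻¹ • x • i := by rw [← h3]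
        rw [smul_inv_smul, smul_inv_smul] at h4
        exact h4.symm
      · intro hT i hi
        have h1 : cls (h • i) = h • c := by rw [hcg, hi]
        have h2 := hT _ h1
        rw [hcomm] at h2
        exact smul_left_cancel h h2
    rcases hc with ⟨hT, i, hiJ, hic⟩ | ⟨hT, i, hiJ, hic, hxi⟩
    · left
      exact ⟨hT'eq.1 hT, h • i, (hh i).1 hiJ, by rw [hcg, hic]⟩
    · right
      refine ⟨fun h' => hT (hT'eq.2 h'), h • i, (hh i).1 hiJ, by rw [hcg, hic], ?_⟩
      rw [hcomm]
      exact (hh _).1 hxi
  have hJbg : ∀ c, c ∈ Jb ↔ g • c ∈ Jb := by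
    intro c
    constructor
    · intro hc
      exact (hchar _).2 (hΦ g hg c ((hchar c).1 hc))
    · intro hc
      have := (hchar _).2 (hΦ g⁻¹ hg' (g • c) ((hchar _).1 hc))
      rwa [inv_smul_smul] at this
  have hgc : ∀ c : Quotient (xRel (I := I) x), g • c = c := hJb g hJbg
  -- now `g` acts trivially
  intro i
  set r := rep (cls i) with hr
  have hgr : cls (g • r) = cls r := by rw [hcg, hgc]
  by_cases hT : x • r = r
  · have hir : i = r := hA r i hT (by rw [hr, hcr])
    have hgr' : g • r = r := hA r (g • r) hT hgr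
    rw [hir, hgr']
  · have hcr' : cls r = cls i := by rw [hr, hcr]
    have hrJ : r ∈ J := by
      rw [hJmem]
      left
      rw [hcr', ← hr]
      exact ⟨rfl, Or.inl hT⟩
    have hgrJ : g • r ∈ J := (hg r).1 hrJ
    have hrep' : rep (cls (g • r)) = r := by rw [hgr, hcr', ← hr]
    have hgr_eq : g • r = r := by
      rcases hB _ hgrJ with h | h
      · rw [hrep'] at h
        exact h
      · exfalso
        rw [hrep'] at h
        have hxrJ : x • r ∈ J := by rw [← h]; exact hgrJ
        have h2 : x • x • r ∈ J := by
          have := (hg (x • r)).1 hxrJ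
          rw [← hcomm, h] at this
          exact this
        have hc2 : cls (x • x • r) = cls r := by rw [hcx, hcx]
        have hrep2 : rep (cls (x • x • r)) = r := by rw [hc2, hcr', ← hr]
        rcases hB _ h2 with h3 | h3
        · rw [hrep2] at h3
          obtain ⟨m, hm⟩ : ∃ m, p = 2 * m + 1 := by
            rcases hp.out.eq_two_or_odd' with h | ⟨m, hm⟩
            · exact absurd h hp2
            · exact ⟨m, hm⟩
          have hpow : ∀ m : ℕ, (x ^ 2) ^ m • r = r := by
            intro m
            induction m with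
            | zero => simp
            | succ m ihm =>
              rw [pow_succ, mul_smul]
              have h5 : x ^ 2 • r = r := by rw [pow_two, mul_smul, h3]
              rw [h5, ihm]
          have h4 := hxp r
          rw [hm, pow_succ', mul_smul, pow_mul, hpow] at h4
          exact hT h4
        · rw [hrep2] at h3
          exact hT (smul_left_cancel x h3)
    obtain ⟨k, hk⟩ := hrel r i hcr'
    rw [← hk, ← zpow_comm x hcomm, hgr_eq]

/-- **Regular subsets.**  A finite `p`-group, `p` odd, acting on a finite set has a subset whose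
setwise stabilizer acts trivially. -/
theorem exists_regular_subset (hp2 : p ≠ 2) (hP : IsPGroup p P) (I : Type v) [Finite I]
    [MulAction P I] :
    ∃ J : Set I, ∀ g : P, (∀ i, i ∈ J ↔ g • i ∈ J) → ∀ i : I, g • i = i :=
  exists_regular_subset_aux p hp2 hP _ I rfl

end main

end Cfsg.Agent.Lib.Helper8.SBS
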