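import Mathlib
import Cfsg.Agent.Lib.Helper8.SBS4

/-!
# The module claim: statement, passage to the faithful image, and descent to submodules
-/

set_option autoImplicit false
set_option linter.unusedSectionVars false

namespace Cfsg.Agent.Lib.Helper8.SBS

universe u w

/-- The module claim for modules of a given size: a faithful group `T` acting on the finite
abelian group `V` of order `n` prime to `p`, `Q` a normal `p`-subgroup, `a ∈ Q` nontrivial:
some vector is fixed by no conjugate of `a`. -/
def ClaimAt (p : ℕ) (n : ℕ) : Prop :=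
  ∀ (V : Type u) [AddCommGroup V] [Finite V] (T : Type u) [Group T] [Finite T]
    [DistribMulAction T V],
    Nat.card V = n → (Nat.card V).Coprime p → (∀ t : T, (∀ v : V, t • v = v) → t = 1) →
    ∀ (Q : Subgroup T), Q.Normal → IsPGroup p Q → ∀ a ∈ Q, a ≠ 1 →
      ∃ v : V, ∀ t : T, (t * a * t⁻¹) • v ≠ v

section general

variable {V : Type u} [AddCommGroup V] [Finite V] {T : Type w} [Group T] [Finite T]
  [DistribMulAction T V]

/-- the action as a homomorphism to the units of the endomorphism ring. -/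
def actHom (V : Type u) [AddCommGroup V] (T : Type w) [Group T] [DistribMulAction T V] :
    T →* (AddMonoid.End V)ˣ :=
  (DistribMulAction.toAddMonoidEnd T V).toHomUnits

theorem actHom_smul (t : T) (v : V) : actHom V T t • v = t • v := rfl

theorem finite_end (V : Type u) [AddCommGroup V] [Finite V] : Finite (AddMonoid.End V) :=
  Finite.of_injective (fun f : AddMonoid.End V => (f : V → V)) DFunLike.coe_injective

/-- the claim for arbitrary (not necessarily faithful) actions. -/
theorem claim_general {p n : ℕ} (h : ClaimAt.{u} p n) (hn : Nat.card V = n)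
    (hcop : (Nat.card V).Coprime p) (Q : Subgroup T) (hQn : Q.Normal) (hQ : IsPGroup p Q)
    (a : T) (ha : a ∈ Q) (hact : ∃ v : V, a • v ≠ v) :
    ∃ v : V, ∀ t : T, (t * a * t⁻¹) • v ≠ v := by
  have := finite_end V
  set φ := actHom V T with hφ
  have hfin : Finite φ.range := Finite.of_surjective φ.rangeRestrict φ.rangeRestrict_surjective
  have hfaith : ∀ t : φ.range, (∀ v : V, t • v = v) → t = 1 := by
    rintro ⟨t, ht⟩ hv
    apply Subtype.ext
    apply Units.ext
    apply AddMonoidHom.ext
    intro v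
    exact hv v
  have hQn' : (Q.map φ.rangeRestrict).Normal := hQn.map _ φ.rangeRestrict_surjective
  have hQ' : IsPGroup p (Q.map φ.rangeRestrict) := hQ.map _
  have ha' : φ.rangeRestrict a ∈ Q.map φ.rangeRestrict := Subgroup.mem_map_of_mem _ ha
  have ha1 : φ.rangeRestrict a ≠ 1 := by
    intro h1
    obtain ⟨v, hv⟩ := hact
    apply hv
    have h2 : φ.rangeRestrict a • v = (1 : φ.range) • v := by rw [h1]
    rw [one_smul] at h2
    exact h2
  obtain ⟨v, hv⟩ := h V φ.range hn hcop hfaith _ hQn' hQ' _ ha' ha1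
  refine ⟨v, fun t => ?_⟩
  have := hv (φ.rangeRestrict t)
  rw [← map_inv, ← map_mul, ← map_mul] at this
  exact this

/-- the action of a subgroup on an invariant additive subgroup. -/
@[reducible] def subAction (S : Subgroup T) (U : AddSubgroup V)
    (hS : ∀ s ∈ S, ∀ u ∈ U, s • u ∈ U) : DistribMulAction S U where
  smul s u := ⟨(s : T) • (u : V), hS s s.2 u u.2⟩
  one_smul u := Subtype.ext (one_smul T (u : V))
  mul_smul s t u := Subtype.ext (mul_smul (s : T) (t : T) (u : V))
  smul_zero s := Subtype.ext (smul_zero (s : T))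
  smul_add s u v := Subtype.ext (smul_add (s : T) (u : V) (v : V))

/-- **Descent** to a proper invariant subgroup. -/
theorem descend {p n : ℕ} (hlt : ∀ m < n, ClaimAt.{u} p m) (hn : Nat.card V = n)
    (hcop : (Nat.card V).Coprime p) (U : AddSubgroup V) (hU : U ≠ ⊤) (S : Subgroup T)
    (hS : ∀ s ∈ S, ∀ u ∈ U, s • u ∈ U) (Q : Subgroup T)
    (hQS : ∀ s ∈ S, ∀ q ∈ Q, s * q * s⁻¹ ∈ Q) (hQ : IsPGroup p Q) (a : T) (haQ : a ∈ Q)
    (haS : a ∈ S) (hact : ∃ u ∈ U, a • u ≠ u) :
    ∃ v ∈ U, ∀ s ∈ S, (s * a * s⁻¹) • v ≠ v := by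
  let _ := subAction S U hS
  have hcard : Nat.card U < n := by
    rw [← hn]
    apply lt_of_le_of_ne (AddSubgroup.card_le_card_addGroup U)
    intro h
    exact hU ((AddSubgroup.card_eq_iff_eq_top U).1 h)
  have hcopU : (Nat.card U).Coprime p :=
    Nat.Coprime.coprime_dvd_left (AddSubgroup.card_addSubgroup_dvd_card U) hcop
  have hQn : (Q.subgroupOf S).Normal := by
    constructor
    intro q hq s
    exact hQS s s.2 q hq
  have hQ' : IsPGroup p (Q.subgroupOf S) := hQ.comap_subtype
  have hact' : ∃ v : U, (⟨a, haS⟩ : S) • v ≠ v := by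
    obtain ⟨u, hu, hau⟩ := hact
    refine ⟨⟨u, hu⟩, fun h => hau ?_⟩
    exact congrArg Subtype.val h
  obtain ⟨v, hv⟩ := claim_general (hlt _ hcard) rfl hcopU (Q.subgroupOf S) hQn hQ' ⟨a, haS⟩
    (by exact haQ) hact'
  refine ⟨v, v.2, fun s hs h => hv ⟨s, hs⟩ ?_⟩
  exact Subtype.ext h

end general

end Cfsg.Agent.Lib.Helper8.SBS
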