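import Mathlib
import Cfsg.Agent.Lib.Helper8.SBS5
import Cfsg.Agent.Lib.Helper8.SBS1

/-!
# The module claim: the decomposable case and the imprimitive case
-/

set_option autoImplicit false
set_option linter.unusedSectionVars false

namespace Cfsg.Agent.Lib.Helper8.SBS

universe u w

section caseA

variable {V : Type u} [AddCommGroup V] [Finite V] {T : Type w} [Group T] [Finite T]
  [DistribMulAction T V]

theorem card_coprime_of_isPGroup {p : ℕ} [hp : Fact p.Prime] (hcop : (Nat.card V).Coprime p)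
    {K : Subgroup T} (hK : IsPGroup p K) : (Nat.card V).Coprime (Nat.card K) := by
  obtain ⟨k, hk⟩ := IsPGroup.iff_card.1 hK
  rw [hk]
  exact Nat.Coprime.pow_right k hcop

/-- **Decomposition.**  If a nontrivial normal `p`-subgroup has nonzero fixed points, descend. -/
theorem decomp_step {p n : ℕ} [hp : Fact p.Prime] (hlt : ∀ m < n, ClaimAt.{u} p m)
    (hn : Nat.card V = n) (hcop : (Nat.card V).Coprime p)
    (hfaith : ∀ t : T, (∀ v : V, t • v = v) → t = 1)
    (E : Subgroup T) [hEn : E.Normal] (hEp : IsPGroup p E) (hE1 : E ≠ ⊥)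
    (hE0 : fixedPts (V := V) E ≠ ⊥) (Q : Subgroup T) [hQn : Q.Normal] (hQ : IsPGroup p Q)
    (a : T) (ha : a ∈ Q) (ha1 : a ≠ 1) :
    ∃ v : V, ∀ t : T, (t * a * t⁻¹) • v ≠ v := by
  have hcE := card_coprime_of_isPGroup hcop hEp
  -- the two summands
  set U₁ : AddSubgroup V := fixedPts E with hU₁
  set U₂ : AddSubgroup V := (nuHom (V := V) E).ker with hU₂
  have hU₁top : U₁ ≠ ⊤ := by
    intro h
    apply hE1
    rw [eq_bot_iff]
    intro e he
    rw [Subgroup.mem_bot]
    apply hfaith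
    intro v
    have : v ∈ U₁ := by rw [h]; exact AddSubgroup.mem_top v
    exact this e he
  have hU₂top : U₂ ≠ ⊤ := by
    intro h
    apply hE0
    rw [eq_bot_iff]
    intro u hu
    rw [AddSubgroup.mem_bot]
    have h1 : u ∈ U₂ := by rw [h]; exact AddSubgroup.mem_top u
    have h2 : nu E u = 0 := h1
    rw [nu_of_mem_fixedPts hu] at h2
    exact eq_zero_of_nsmul_eq_zero hcE h2
  have hU₁inv : ∀ s ∈ (⊤ : Subgroup T), ∀ u ∈ U₁, s • u ∈ U₁ := by
    intro s _ u hu
    have := smul_mem_fixedPts_conjSub hu s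
    rwa [conjSub_of_normal s E] at this
  have hU₂inv : ∀ s ∈ (⊤ : Subgroup T), ∀ u ∈ U₂, s • u ∈ U₂ := by
    intro s _ u hu
    have h1 : nu E u = 0 := hu
    show nu E (s • u) = 0
    have := smul_nu_conjSub E s u
    rw [conjSub_of_normal s E, h1, smul_zero] at this
    exact this.symm
  have hQS : ∀ s ∈ (⊤ : Subgroup T), ∀ q ∈ Q, s * q * s⁻¹ ∈ Q := fun s _ q hq => hQn.conj_mem q hq s
  have hdec : ∀ v : V, ∃ x₁ ∈ U₁, ∃ x₂ ∈ U₂, Nat.card E • v = x₁ + x₂ := by
    intro v
    refine ⟨nu E v, nu_mem_fixedPts E v, Nat.card E • v - nu E v, ?_, by abel⟩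
    show nu E (Nat.card E • v - nu E v) = 0
    have h1 : nu E (Nat.card E • v - nu E v) = nu E (Nat.card E • v) - nu E (nu E v) :=
      map_sub (nuHom E) _ _
    rw [h1, nu_nsmul, nu_of_mem_fixedPts (nu_mem_fixedPts E v), sub_self]
  have hact : (∃ u ∈ U₁, a • u ≠ u) ∨ (∃ u ∈ U₂, a • u ≠ u) := by
    by_contra hcon
    push Not at hcon
    apply ha1
    apply hfaith
    intro v
    obtain ⟨x₁, hx₁, x₂, hx₂, hv⟩ := hdec v
    have h1 : a • (Nat.card E • v) = Nat.card E • v := by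
      rw [hv, smul_add, hcon.1 x₁ hx₁, hcon.2 x₂ hx₂]
    have h2 : Nat.card E • (a • v - v) = 0 := by
      rw [smul_sub, ← h1, smul_comm, sub_self]
    exact sub_eq_zero.1 (eq_zero_of_nsmul_eq_zero hcE h2)
  rcases hact with h | h
  · obtain ⟨v, -, hv⟩ := descend hlt hn hcop U₁ hU₁top ⊤ hU₁inv Q hQS hQ a ha
      (Subgroup.mem_top a) h
    exact ⟨v, fun t => hv t (Subgroup.mem_top t)⟩
  · obtain ⟨v, -, hv⟩ := descend hlt hn hcop U₂ hU₂top ⊤ hU₂inv Q hQS hQ a ha
      (Subgroup.mem_top a) h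
    exact ⟨v, fun t => hv t (Subgroup.mem_top t)⟩

end caseA

section comps

variable {V : Type u} [AddCommGroup V] [Finite V] {T : Type w} [Group T] [Finite T]
  [DistribMulAction T V]

/-- the action of `T` on the hyperplanes of a normal subgroup `E`. -/
@[reducible] def hypAction (p : ℕ) (E : Subgroup T) [E.Normal] :
    MulAction T {K : Subgroup T // IsHyp (V := V) p E K} where
  smul t K := ⟨conjSub t K.1, isHyp_conjSub K.2 t⟩
  one_smul K := Subtype.ext (conjSub_one K.1)
  mul_smul s t K := Subtype.ext (conjSub_mul s t K.1)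

/-- the trace of a hyperplane applied to a sum of component vectors. -/
theorem nu_sum_components {p : ℕ} [hp : Fact p.Prime] {E : Subgroup T}
    (hEc : ∀ x ∈ E, ∀ y ∈ E, x * y = y * x) (hE0 : fixedPts (V := V) E = ⊥)
    [Fintype {K : Subgroup T // IsHyp (V := V) p E K}]
    (f : {K : Subgroup T // IsHyp (V := V) p E K} → V)
    (hf : ∀ K, f K ∈ fixedPts (V := V) K.1) (K₀ : {K : Subgroup T // IsHyp (V := V) p E K}) :
    nu K₀.1 (∑ K, f K) = Nat.card K₀.1 • f K₀ := by
  classical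
  rw [nu_sum, Finset.sum_eq_single K₀]
  · exact nu_of_mem_fixedPts (hf K₀)
  · intro K _ hne
    exact nu_eq_zero_of_ne hEc hE0 K₀.2 K.2 (fun h => hne (Subtype.ext h.symm)) (hf K)
  · intro h
    exact absurd (Finset.mem_univ _) h

end comps

section caseii

variable {V : Type u} [AddCommGroup V] [Finite V] {T : Type w} [Group T] [Finite T]
  [DistribMulAction T V]

/-- **The imprimitive case (ii)**: `a` moves some component. -/
theorem caseA_ii {p : ℕ} [hp : Fact p.Prime] (hp2 : p ≠ 2) (hcop : (Nat.card V).Coprime p)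
    (E : Subgroup T) [hEn : E.Normal] (hEp : IsPGroup p E)
    (hEc : ∀ x ∈ E, ∀ y ∈ E, x * y = y * x) (hE0 : fixedPts (V := V) E = ⊥)
    (Q : Subgroup T) [hQn : Q.Normal] (hQ : IsPGroup p Q) (a : T) (ha : a ∈ Q)
    (hmove : ∃ K : Subgroup T, IsHyp (V := V) p E K ∧ conjSub a K ≠ K) :
    ∃ v : V, ∀ t : T, (t * a * t⁻¹) • v ≠ v := by
  classical
  let _ := hypAction (V := V) p E
  have : Fintype {K : Subgroup T // IsHyp (V := V) p E K} := Fintype.ofFinite _
  have hsm : ∀ (t : T) (K : {K : Subgroup T // IsHyp (V := V) p E K}),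
      (t • K).1 = conjSub t K.1 := fun t K => rfl
  obtain ⟨J, hJ⟩ := exists_regular_subset p hp2 hQ {K : Subgroup T // IsHyp (V := V) p E K}
  have hw : ∀ K : {K : Subgroup T // IsHyp (V := V) p E K}, ∃ u ∈ fixedPts (V := V) K.1, u ≠ 0 :=
    fun K => (AddSubgroup.ne_bot_iff_exists_ne_zero).1 K.2.2.2 |>.elim
      (fun u hu => ⟨u.1, u.2, fun h => hu (Subtype.ext h)⟩)
  choose w hwfix hw0 using hw
  set f : {K : Subgroup T // IsHyp (V := V) p E K} → V := fun K => if K ∈ J then w K else 0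
    with hf
  have hffix : ∀ K, f K ∈ fixedPts (V := V) K.1 := by
    intro K
    rw [hf]
    by_cases hK : K ∈ J
    · simp only [hK, if_true]; exact hwfix K
    · simp only [hK, if_false]; exact (fixedPts K.1).zero_mem
  set v : V := ∑ K, f K with hv
  have hnu : ∀ K₀ : {K : Subgroup T // IsHyp (V := V) p E K},
      nu K₀.1 v = Nat.card K₀.1 • f K₀ := fun K₀ => nu_sum_components hEc hE0 f hffix K₀
  have hcK : ∀ K : {K : Subgroup T // IsHyp (V := V) p E K},
      (Nat.card V).Coprime (Nat.card K.1) :=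
    fun K => card_coprime_of_isPGroup hcop (hEp.to_le K.2.1)
  have hmem : ∀ K : {K : Subgroup T // IsHyp (V := V) p E K}, K ∈ J ↔ nu K.1 v ≠ 0 := by
    intro K
    rw [hnu K, hf]
    by_cases hK : K ∈ J
    · simp only [hK, if_true, true_iff]
      intro h0
      exact hw0 K (eq_zero_of_nsmul_eq_zero (hcK K) h0)
    · simp only [hK, if_false, smul_zero, ne_eq, not_true_eq_false]
  refine ⟨v, ?_⟩
  intro t hfix
  set b := t * a * t⁻¹ with hb
  have hbQ : b ∈ Q := hQn.conj_mem a ha t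
  have hJb : ∀ K : {K : Subgroup T // IsHyp (V := V) p E K},
      K ∈ J ↔ (⟨b, hbQ⟩ : Q) • K ∈ J := by
    intro K
    have h1 : ((⟨b, hbQ⟩ : Q) • K) = b • K := rfl
    rw [h1, hmem K, hmem (b • K), hsm]
    have h2 : nu (conjSub b K.1) v = b • nu K.1 v := by
      rw [smul_nu_conjSub, hfix]
    rw [h2]
    constructor
    · intro h h0
      apply h
      have : b⁻¹ • b • nu K.1 v = b⁻¹ • (0 : V) := by rw [h0]
      rwa [inv_smul_smul, smul_zero] at this
    · intro h h0
      apply h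
      rw [h0, smul_zero]
  have hbtriv := hJ ⟨b, hbQ⟩ hJb
  obtain ⟨K, hK, hKa⟩ := hmove
  apply hKa
  have h3 : (⟨b, hbQ⟩ : Q) • (t • (⟨K, hK⟩ : {K : Subgroup T // IsHyp (V := V) p E K})) =
      t • ⟨K, hK⟩ := hbtriv _
  have h4 : b • (t • (⟨K, hK⟩ : {K : Subgroup T // IsHyp (V := V) p E K})) = t • ⟨K, hK⟩ := h3
  have h5 : a • (⟨K, hK⟩ : {K : Subgroup T // IsHyp (V := V) p E K}) = ⟨K, hK⟩ := by
    have : a = t⁻¹ * b * t := by rw [hb]; group
    rw [this, mul_smul, mul_smul, h4, inv_smul_smul]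
  exact congrArg Subtype.val h5

end caseii

section casei

variable {V : Type u} [AddCommGroup V] [Finite V] {T : Type w} [Group T] [Finite T]
  [DistribMulAction T V]

theorem mem_fixedPts_zpowers {a : T} {v : V} :
    v ∈ fixedPts (V := V) (Subgroup.zpowers a) ↔ a • v = v := by
  constructor
  · intro h
    exact h a (Subgroup.mem_zpowers a)
  · intro h
    have h1 : Subgroup.zpowers a ≤ MulAction.stabilizer T v := by
      rw [Subgroup.zpowers_le]
      exact h
    exact h1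

/-- **The imprimitive case (i)**: `a` fixes every component. -/
theorem caseA_i {p n : ℕ} [hp : Fact p.Prime] (hlt : ∀ m < n, ClaimAt.{u} p m)
    (hn : Nat.card V = n) (hcop : (Nat.card V).Coprime p)
    (hfaith : ∀ t : T, (∀ v : V, t • v = v) → t = 1)
    (E : Subgroup T) [hEn : E.Normal] (hEp : IsPGroup p E)
    (hEc : ∀ x ∈ E, ∀ y ∈ E, x * y = y * x) (hEexp : ∀ x ∈ E, x ^ p = 1)
    (hE0 : fixedPts (V := V) E = ⊥) (hEcard : p < Nat.card E)
    (Q : Subgroup T) [hQn : Q.Normal] (hQ : IsPGroup p Q) (a : T) (ha : a ∈ Q) (ha1 : a ≠ 1)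
    (hfixall : ∀ K : Subgroup T, IsHyp (V := V) p E K → conjSub a K = K) :
    ∃ v : V, ∀ t : T, (t * a * t⁻¹) • v ≠ v := by
  classical
  let _ := hypAction (V := V) p E
  have : Fintype {K : Subgroup T // IsHyp (V := V) p E K} := Fintype.ofFinite _
  have hsm : ∀ (t : T) (K : {K : Subgroup T // IsHyp (V := V) p E K}),
      (t • K).1 = conjSub t K.1 := fun t K => rfl
  -- a component on which `a` acts nontrivially
  obtain ⟨K₁, hK₁, u₁, hu₁, hau₁⟩ : ∃ K₁ : Subgroup T, IsHyp (V := V) p E K₁ ∧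
      ∃ u ∈ fixedPts (V := V) K₁, a • u ≠ u := by
    by_contra hcon
    push Not at hcon
    apply ha1
    apply hfaith
    intro v
    rw [← mem_fixedPts_zpowers]
    apply span_hyperplanes hcop E hEc hEexp
    intro K hKE hK
    rcases hK with rfl | hK
    · rw [hE0]; exact bot_le
    · by_cases h0 : fixedPts (V := V) K = ⊥
      · rw [h0]; exact bot_le
      · intro u hu
        rw [mem_fixedPts_zpowers]
        exact hcon K ⟨hKE, hK, h0⟩ u hu
  set K₁' : {K : Subgroup T // IsHyp (V := V) p E K} := ⟨K₁, hK₁⟩ with hK₁'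
  set T₁ : Subgroup T := MulAction.stabilizer T K₁' with hT₁
  have hT₁mem : ∀ s : T, s ∈ T₁ ↔ conjSub s K₁ = K₁ := by
    intro s
    rw [hT₁, MulAction.mem_stabilizer_iff]
    constructor
    · intro h
      exact congrArg Subtype.val h
    · intro h
      exact Subtype.ext h
  set U₁ : AddSubgroup V := fixedPts K₁ with hU₁
  have hU₁top : U₁ ≠ ⊤ := by
    intro h
    have h1 : K₁ = ⊥ := by
      rw [eq_bot_iff]
      intro k hk
      rw [Subgroup.mem_bot]
      apply hfaith
      intro v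
      have : v ∈ U₁ := by rw [h]; exact AddSubgroup.mem_top v
      exact this k hk
    have h2 := hK₁.2.1
    rw [h1, Subgroup.card_bot, one_mul] at h2
    omega
  have hU₁inv : ∀ s ∈ T₁, ∀ u ∈ U₁, s • u ∈ U₁ := by
    intro s hs u hu
    have := smul_mem_fixedPts_conjSub hu s
    rwa [(hT₁mem s).1 hs] at this
  have haT₁ : a ∈ T₁ := (hT₁mem a).2 (hfixall K₁ hK₁)
  have hQS : ∀ s ∈ T₁, ∀ q ∈ Q, s * q * s⁻¹ ∈ Q := fun s _ q hq => hQn.conj_mem q hq s
  obtain ⟨v₁, hv₁U, hv₁⟩ := descend hlt hn hcop U₁ hU₁top T₁ hU₁inv Q hQS hQ a ha haT₁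
    ⟨u₁, hu₁, hau₁⟩
  -- the sum over the orbit
  set f : {K : Subgroup T // IsHyp (V := V) p E K} → V := fun K =>
    if h : ∃ t : T, t • K₁' = K then (Classical.choose h) • v₁ else 0 with hf
  have hffix : ∀ K, f K ∈ fixedPts (V := V) K.1 := by
    intro K
    rw [hf]
    by_cases h : ∃ t : T, t • K₁' = K
    · simp only [h, dif_pos]
      have h1 := Classical.choose_spec h
      have h2 := smul_mem_fixedPts_conjSub hv₁U (Classical.choose h)
      have h3 : conjSub (Classical.choose h) K₁ = K.1 := congrArg Subtype.val h1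
      rwa [h3] at h2
    · simp only [h, dif_neg, not_false_eq_true]
      exact (fixedPts K.1).zero_mem
  set v : V := ∑ K, f K with hv
  have hnu : ∀ K₀ : {K : Subgroup T // IsHyp (V := V) p E K},
      nu K₀.1 v = Nat.card K₀.1 • f K₀ := fun K₀ => nu_sum_components hEc hE0 f hffix K₀
  have hcK : ∀ K : {K : Subgroup T // IsHyp (V := V) p E K},
      (Nat.card V).Coprime (Nat.card K.1) :=
    fun K => card_coprime_of_isPGroup hcop (hEp.to_le K.2.1)
  refine ⟨v, ?_⟩
  intro t hfix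
  set b := t * a * t⁻¹ with hb
  -- `b` fixes all hyperplanes
  have hbfix : ∀ K : Subgroup T, IsHyp (V := V) p E K → conjSub b K = K := by
    intro K hK
    have h1 := hfixall (conjSub t⁻¹ K) (isHyp_conjSub hK t⁻¹)
    rw [hb, conjSub_mul, conjSub_mul, h1, ← conjSub_mul, mul_inv_cancel, conjSub_one]
  set K : {K : Subgroup T // IsHyp (V := V) p E K} := t • K₁' with hK
  have hex : ∃ t' : T, t' • K₁' = K := ⟨t, rfl⟩
  set τ := Classical.choose hex with hτ
  have hτK : τ • K₁' = K := Classical.choose_spec hex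
  have hfK : f K = τ • v₁ := by
    rw [hf]
    simp only [hex, dif_pos]
    rfl
  have h1 : nu K.1 v = b • nu K.1 v := by
    have := smul_nu_conjSub K.1 b v
    rw [hbfix K.1 K.2, hfix] at this
    exact this.symm
  rw [hnu K, hfK] at h1
  have h1' : b • (Nat.card K.1 • (τ • v₁)) = Nat.card K.1 • (b • τ • v₁) :=
    map_nsmul (DistribSMul.toAddMonoidHom V b) _ _
  rw [h1'] at h1
  have h2 : Nat.card K.1 • (b • τ • v₁ - τ • v₁) = 0 := by
    rw [smul_sub, ← h1, sub_self]
  have h3 : b • τ • v₁ = τ • v₁ := sub_eq_zero.1 (eq_zero_of_nsmul_eq_zero (hcK K) h2)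
  have hs : τ⁻¹ * t ∈ T₁ := by
    rw [hT₁, MulAction.mem_stabilizer_iff, mul_smul]
    show τ⁻¹ • K = K₁'
    rw [← hτK, inv_smul_smul]
  apply hv₁ (τ⁻¹ * t) hs
  have h4 : τ⁻¹ * t * a * (τ⁻¹ * t)⁻¹ = τ⁻¹ * b * τ := by rw [hb]; group
  rw [h4, mul_smul, mul_smul, h3, inv_smul_smul]

end casei

end Cfsg.Agent.Lib.Helper8.SBS
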