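import Mathlib
import Cfsg.Prelude.Def_Characters
import Cfsg.Agent.S4475

/-!
# The Frobenius–Schur indicator takes the values `0`, `1`, `-1`
-/

set_option autoImplicit false

namespace Cfsg.Agent.Lib.Helper8

open Cfsg
open scoped ComplexConjugate
open Matrix Cfsg.Agent.Lib.Helper1 Cfsg.Agent.Lib.Helper4 Cfsg.Agent.S4475

universe u

section

variable {G : Type u} [Group G] [Fintype G]

/-- The Frobenius–Schur indicator of an irreducible character is `0`, `1` or `-1`; when it is not
zero the character is real-valued. -/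
theorem fs_indicator_cases {χ : G → ℂ} (hχ : IsIrrCharacter G χ) :
    (Nat.card G : ℂ)⁻¹ * ∑ g : G, χ (g * g) = 0 ∨
    ((∀ g : G, conj (χ g) = χ g) ∧ ((Nat.card G : ℂ)⁻¹ * ∑ g : G, χ (g * g) = 1 ∨
      (Nat.card G : ℂ)⁻¹ * ∑ g : G, χ (g * g) = -1)) := by
  obtain ⟨n, ρ, hirr, rfl⟩ := hχ
  haveI := hirr
  by_cases hex : ∃ i j, avgForm ρ (Matrix.single i j 1) ≠ 0
  · right
    obtain ⟨i₀, j₀, h₀⟩ := hex
    set M₀ := avgForm ρ (Matrix.single i₀ j₀ 1) with hM₀
    have hM₀inv : ∀ g : G, (repMat ρ g)ᵀ * M₀ * repMat ρ g = M₀ :=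
      fun g => avgForm_invariant ρ _ g
    have hM₀unit : IsUnit M₀ := isUnit_of_invariant ρ M₀ h₀ hM₀inv
    have hdet : IsUnit M₀.det := (Matrix.isUnit_iff_isUnit_det M₀).mp hM₀unit
    have hχc : IsCharacter G ρ.character := ⟨n, ρ, rfl⟩
    have hreal : ∀ g : G, conj (ρ.character g) = ρ.character g := by
      intro g
      rw [← isCharacter_inv hχc g, character_eq_trace_repMat, character_eq_trace_repMat]
      have h1 := invariant_comm ρ M₀ hM₀inv g
      have h2 : repMat ρ g = M₀⁻¹ * ((repMat ρ g⁻¹)ᵀ * M₀) := by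
        rw [← h1, ← Matrix.mul_assoc, Matrix.nonsing_inv_mul M₀ hdet, Matrix.one_mul]
      conv_rhs => rw [h2]
      rw [Matrix.trace_mul_comm, Matrix.mul_assoc, Matrix.mul_nonsing_inv M₀ hdet, Matrix.mul_one,
        Matrix.trace_transpose]
    refine ⟨hreal, ?_⟩
    have hreal' : ∀ g : G, (ρ.character g).im = 0 := fun g => Complex.conj_eq_iff_im.mp (hreal g)
    obtain ⟨-, hsym⟩ := Cfsg.Agent.S4475.result n ρ hirr hreal'
    set ν := (Nat.card G : ℂ)⁻¹ * ∑ s : G, ρ.character (s * s) with hν
    have h1 := hsym M₀ hM₀inv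
    have h2 : M₀ = (ν * ν) • M₀ := by
      have := congrArg Matrix.transpose h1
      rw [Matrix.transpose_transpose, Matrix.transpose_smul, h1, smul_smul] at this
      exact this
    have h3 : (1 - ν * ν) • M₀ = 0 := by
      rw [sub_smul, one_smul, ← h2, sub_self]
    have h4 : 1 - ν * ν = 0 := by
      rcases smul_eq_zero.1 h3 with h | h
      · exact h
      · exact absurd h h₀
    have h5 : (ν - 1) * (ν + 1) = 0 := by linear_combination -h4
    rcases mul_eq_zero.1 h5 with h | h
    · left; linear_combination h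
    · right; linear_combination h
  · left
    push Not at hex
    have h2 := sum_avgForm_swap ρ
    rw [← h2]
    have : ∑ i, ∑ j, avgForm ρ (Matrix.single i j 1) j i = 0 := by
      apply Finset.sum_eq_zero
      intro i _
      apply Finset.sum_eq_zero
      intro j _
      rw [hex i j]
      rfl
    rw [this, mul_zero]

end

end Cfsg.Agent.Lib.Helper8
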