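import Mathlib
import Cfsg.Agent.Lib.Helper8.SmTwoDefs
import Cfsg.Agent.Lib.Helper8.SmTwoB
import Cfsg.Agent.Lib.Helper4.ZP19

set_option autoImplicit false

/-! S4409: the (S3-trick). -/

namespace Cfsg.Agent.Lib.Helper8.SmTwo

universe u

variable {G : Type u} [Group G]

/-- an element of odd order commuting with `w` up to its square commutes with `w` -/
theorem commute_of_sq_commute {a w : G} {n : ℕ} (hn : Odd n) (han : a ^ n = 1)
    (h : Commute (a ^ 2) w) : Commute a w := by
  obtain ⟨k, hk⟩ := hn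
  have h1 : a = (a ^ 2) ^ (k + 1) := by
    rw [← pow_mul]
    have : 2 * (k + 1) = n + 1 := by omega
    rw [this, pow_succ, han, one_mul]
  rw [h1]
  exact h.pow_left _

/-- (S3-trick) a `2`-group `Y` and an odd-order group `A` normalizing `Y` both act on a
four-group `W`; if `A` acts non-trivially then `Y` acts trivially. -/
theorem v4_le_centralizer [Finite G] (W Y A : Subgroup G) (hW : IsV4 W) (hY : IsPGroup 2 Y)
    (hYW : Y ≤ Subgroup.normalizer (W : Set G)) (hAW : A ≤ Subgroup.normalizer (W : Set G))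
    (hAY : A ≤ Subgroup.normalizer (Y : Set G)) (hodd : Odd (Nat.card A))
    (hnc : ¬ A ≤ Subgroup.centralizer (W : Set G)) : Y ≤ Subgroup.centralizer (W : Set G) := by
  have : Fact (Nat.Prime 2) := ⟨Nat.prime_two⟩
  by_contra hYc
  obtain ⟨C, hCdef⟩ : ∃ C : Subgroup G, C = W ⊓ Subgroup.centralizer (Y : Set G) := ⟨_, rfl⟩
  have hCW : C ≤ W := by rw [hCdef]; exact inf_le_left
  have hC1 : C ≠ ⊥ := by
    rw [hCdef]
    exact Cfsg.Agent.Lib.Helper4.ZP.pgroup_fixed_ne_bot 2 W Y hW.isPGroup hY hYW hW.ne_bot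
  have hCne : C ≠ W := by
    intro h
    apply hYc
    intro y hy
    rw [Subgroup.mem_centralizer_iff]
    intro w hw
    have hwC : w ∈ C := by rw [h]; exact hw
    rw [hCdef] at hwC
    exact (Subgroup.mem_centralizer_iff.mp hwC.2 y hy).symm
  -- |C| = 2
  have hcard : Nat.card C = 2 := by
    have hdvd : Nat.card C ∣ 4 := by
      rw [← hW.1]; exact Subgroup.card_dvd_of_le hCW
    have hne1 : Nat.card C ≠ 1 := fun h => hC1 (Subgroup.card_eq_one.mp h)
    have hne4 : Nat.card C ≠ 4 := by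
      intro h
      apply hCne
      exact Subgroup.eq_of_le_of_card_ge hCW (by rw [h, hW.1])
    have hle : Nat.card C ≤ 4 := Nat.le_of_dvd (by norm_num) hdvd
    interval_cases h : Nat.card C <;> simp_all
  have hidx : C.relIndex W = 2 := by
    have h3 := Subgroup.relIndex_mul_relIndex (⊥ : Subgroup G) C W bot_le hCW
    rw [Subgroup.relIndex_bot_left, Subgroup.relIndex_bot_left, hcard, hW.1] at h3
    omega
  -- a generator `w₀`
  obtain ⟨w₀, hw₀C, hw₀1⟩ : ∃ w₀ ∈ C, w₀ ≠ 1 := by
    by_contra hno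
    push Not at hno
    apply hC1
    rw [Subgroup.eq_bot_iff_forall]
    exact hno
  have hCelts : ∀ c ∈ C, c = 1 ∨ c = w₀ := by
    intro c hc
    by_contra hcon
    push Not at hcon
    have h3 : 3 ≤ Nat.card C := by
      have hinj : Function.Injective (fun i : Fin 3 => (![⟨1, C.one_mem⟩, ⟨w₀, hw₀C⟩, ⟨c, hc⟩] i : C)) := by
        intro i j hij
        fin_cases i <;> fin_cases j <;> simp_all [Subtype.ext_iff]
      have := Nat.card_le_card_of_injective _ hinj
      simpa using this
    omega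
  -- `A` normalizes `C`
  have hAC : ∀ a ∈ A, ∀ c ∈ C, a * c * a⁻¹ ∈ C := by
    intro a ha c hc
    rw [hCdef] at hc ⊢
    refine Subgroup.mem_inf.mpr ⟨(Subgroup.mem_normalizer_iff.mp (hAW ha) c).mp hc.1, ?_⟩
    rw [Subgroup.mem_centralizer_iff]
    intro y hy
    have hy' : a⁻¹ * y * a ∈ Y := by
      have := (Subgroup.mem_normalizer_iff.mp (hAY (A.inv_mem ha)) y).mp hy
      simpa using this
    have hcy := Subgroup.mem_centralizer_iff.mp hc.2 _ hy'
    calc y * (a * c * a⁻¹) = a * ((a⁻¹ * y * a) * c) * a⁻¹ := by group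
      _ = a * (c * (a⁻¹ * y * a)) * a⁻¹ := by rw [hcy]
      _ = a * c * a⁻¹ * y := by group
  have hAw₀ : ∀ a ∈ A, a * w₀ * a⁻¹ = w₀ := by
    intro a ha
    rcases hCelts _ (hAC a ha w₀ hw₀C) with h | h
    · exfalso
      apply hw₀1
      have : w₀ = a⁻¹ * (a * w₀ * a⁻¹) * a := by group
      rw [this, h]; group
    · exact h
  apply hnc
  intro a ha
  rw [Subgroup.mem_centralizer_iff]
  intro w hw
  by_cases hwC : w ∈ C
  · rcases hCelts w hwC with h | h
    · rw [h, mul_one, one_mul]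
    · rw [h]
      have := hAw₀ a ha
      calc w₀ * a = (a * w₀ * a⁻¹) * a := by rw [this]
        _ = a * w₀ := by group
  · -- `w ∉ C`
    have hv : a * w * a⁻¹ ∈ W := (Subgroup.mem_normalizer_iff.mp (hAW ha) w).mp hw
    have hvC : a * w * a⁻¹ ∉ C := by
      intro h
      apply hwC
      have := hAC a⁻¹ (A.inv_mem ha) _ h
      have e : a⁻¹ * (a * w * a⁻¹) * a⁻¹⁻¹ = w := by group
      rw [e] at this
      exact this
    -- product lies in `C`
    have hprod : a * w * a⁻¹ * w ∈ C := by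
      have h2 : (C.subgroupOf W).index = 2 := hidx
      have := Subgroup.mul_mem_iff_of_index_two h2 (a := ⟨a * w * a⁻¹, hv⟩) (b := ⟨w, hw⟩)
      rw [Subgroup.mem_subgroupOf, Subgroup.mem_subgroupOf, Subgroup.mem_subgroupOf] at this
      exact this.mpr ⟨fun h => absurd h hvC, fun h => absurd h hwC⟩
    have hw2 : w * w = 1 := by rw [← pow_two]; exact hW.2 w hw
    have hw₀2 : w₀ * w₀ = 1 := by rw [← pow_two]; exact hW.2 w₀ (hCW hw₀C)
    rcases hCelts _ hprod with h | h
    · -- `a w a⁻¹ = w`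
      have h1 : a * w * a⁻¹ = w := by
        calc a * w * a⁻¹ = a * w * a⁻¹ * (w * w) := by rw [hw2, mul_one]
          _ = (a * w * a⁻¹ * w) * w := by group
          _ = w := by rw [h, one_mul]
      calc w * a = (a * w * a⁻¹) * a := by rw [h1]
        _ = a * w := by group
    · -- `a w a⁻¹ = w₀ w`; then `a²` centralizes `w`
      have h1 : a * w * a⁻¹ = w₀ * w := by
        calc a * w * a⁻¹ = a * w * a⁻¹ * (w * w) := by rw [hw2, mul_one]
          _ = (a * w * a⁻¹ * w) * w := by group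
          _ = w₀ * w := by rw [h]
      have h2 : a ^ 2 * w * (a ^ 2)⁻¹ = w := by
        calc a ^ 2 * w * (a ^ 2)⁻¹ = a * (a * w * a⁻¹) * a⁻¹ := by
              rw [pow_two, mul_inv_rev]; simp only [mul_assoc]
          _ = a * (w₀ * w) * a⁻¹ := by rw [h1]
          _ = (a * w₀ * a⁻¹) * (a * w * a⁻¹) := by group
          _ = w₀ * (w₀ * w) := by rw [hAw₀ a ha, h1]
          _ = (w₀ * w₀) * w := by group
          _ = w := by rw [hw₀2, one_mul]
      have hc2 : Commute (a ^ 2) w := by
        show a ^ 2 * w = w * a ^ 2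
        calc a ^ 2 * w = (a ^ 2 * w * (a ^ 2)⁻¹) * a ^ 2 := by group
          _ = w * a ^ 2 := by rw [h2]
      have hpow : a ^ Nat.card A = 1 := by
        have h3 : (⟨a, ha⟩ : A) ^ Nat.card A = 1 := pow_card_eq_one'
        have h4 := congrArg Subtype.val h3
        rw [Subgroup.coe_pow, Subgroup.coe_one] at h4
        exact h4
      exact (commute_of_sq_commute hodd hpow hc2).eq.symm

end Cfsg.Agent.Lib.Helper8.SmTwo
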