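import Mathlib
import Cfsg.Agent.Lib.Helper7.CM1

namespace Cfsg.Helper8.VLR

open Subgroup
open scoped commutatorElement

variable {G : Type*} [Group G]

/-- index of the centralizer of an element (`p ^ breadth`). -/
noncomputable def cidx (u : G) : ℕ := (Subgroup.centralizer ({u} : Set G)).index

theorem mem_cent_iff {u x : G} :
    x ∈ Subgroup.centralizer ({u} : Set G) ↔ u * x = x * u := by
  simp [Subgroup.mem_centralizer_iff]

/-- the preimage in `G` of the centralizer of the image of `u` in `G ⧸ N`. -/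
def centMod (N : Subgroup G) [N.Normal] (u : G) : Subgroup G :=
  (Subgroup.centralizer ({(QuotientGroup.mk u : G ⧸ N)} : Set (G ⧸ N))).comap (QuotientGroup.mk' N)

theorem mem_centMod_iff (N : Subgroup G) [N.Normal] {u x : G} :
    x ∈ centMod N u ↔ ⁅x, u⁆ ∈ N := by
  unfold centMod
  rw [Subgroup.mem_comap, mem_cent_iff]
  simp only [QuotientGroup.mk'_apply]
  rw [← QuotientGroup.mk_mul, ← QuotientGroup.mk_mul, QuotientGroup.eq]
  have : (u * x)⁻¹ * (x * u) = (u * x)⁻¹ * (⁅x, u⁆) * (u * x) := by
    simp [commutatorElement_def]; group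
  rw [this]
  constructor
  · intro h
    have := (inferInstance : N.Normal).conj_mem _ h (u * x)
    simpa [mul_assoc] using this
  · intro h
    have := (inferInstance : N.Normal).conj_mem _ h (u * x)⁻¹
    simpa [mul_assoc] using this

theorem cent_le_centMod (N : Subgroup G) [N.Normal] (u : G) :
    Subgroup.centralizer ({u} : Set G) ≤ centMod N u := by
  intro x hx
  rw [mem_centMod_iff]
  rw [mem_cent_iff] at hx
  have : ⁅x, u⁆ = 1 := by
    rw [commutatorElement_eq_one_iff_mul_comm]; exact hx.symm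
  rw [this]; exact N.one_mem

theorem index_centMod (N : Subgroup G) [N.Normal] (u : G) :
    (centMod N u).index = cidx (QuotientGroup.mk u : G ⧸ N) := by
  unfold centMod cidx
  rw [Subgroup.index_comap_of_surjective _ (QuotientGroup.mk'_surjective N)]

theorem cidx_quotient_dvd (N : Subgroup G) [N.Normal] (u : G) :
    cidx (QuotientGroup.mk u : G ⧸ N) ∣ cidx u := by
  rw [← index_centMod]
  exact Subgroup.index_dvd_of_le (cent_le_centMod N u)

theorem cidx_pos [Finite G] (u : G) : 0 < cidx u := by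
  unfold cidx
  exact Nat.pos_of_ne_zero (Subgroup.index_ne_zero_of_finite)

theorem cidx_quotient_le [Finite G] (N : Subgroup G) [N.Normal] (u : G) :
    cidx (QuotientGroup.mk u : G ⧸ N) ≤ cidx u :=
  Nat.le_of_dvd (cidx_pos u) (cidx_quotient_dvd N u)


/-- exact drop: if some commutator `⁅y,u⁆ ≠ 1` lies in `N`, the centralizer index of `u` drops
by a factor `p` at least in `G ⧸ N` (for `p`-groups). -/
theorem cidx_quotient_mul_le [Finite G] {p : ℕ} [hp : Fact p.Prime] (hG : IsPGroup p G)
    (N : Subgroup G) [N.Normal] (u y : G) (h1 : ⁅y, u⁆ ∈ N) (h2 : ⁅y, u⁆ ≠ 1) :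
    cidx (QuotientGroup.mk u : G ⧸ N) * p ≤ cidx u := by
  set C := Subgroup.centralizer ({u} : Set G) with hC
  set D := centMod N u with hD
  have hCD : C ≤ D := cent_le_centMod N u
  have hyD : y ∈ D := (mem_centMod_iff N).mpr h1
  have hyC : y ∉ C := by
    intro hy
    rw [hC, mem_cent_iff] at hy
    apply h2
    rw [commutatorElement_eq_one_iff_mul_comm]; exact hy.symm
  have hrel : C.relIndex D * D.index = C.index := Subgroup.relIndex_mul_index hCD
  have hne1 : C.relIndex D ≠ 1 := by
    intro h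
    exact hyC (Subgroup.relIndex_eq_one.mp h hyD)
  have hDp : IsPGroup p D := hG.to_subgroup D
  obtain ⟨k, hk⟩ := hDp.index (C.subgroupOf D)
  have hk' : C.relIndex D = p ^ k := hk
  have hk0 : k ≠ 0 := by
    rintro rfl
    rw [pow_zero] at hk'
    exact hne1 hk'
  have hple : p ≤ C.relIndex D := by
    rw [hk']
    calc p = p ^ 1 := (pow_one p).symm
      _ ≤ p ^ k := Nat.pow_le_pow_right hp.out.pos (Nat.one_le_iff_ne_zero.mpr hk0)
  rw [← index_centMod]
  show D.index * p ≤ C.index
  rw [← hrel, mul_comm]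
  exact Nat.mul_le_mul_right _ hple

/-- translation by a central element does not change the centralizer. -/
theorem centralizer_central_mul {z : G} (hz : z ∈ Subgroup.center G) (v : G) :
    Subgroup.centralizer ({z * v} : Set G) = Subgroup.centralizer ({v} : Set G) := by
  ext x
  rw [mem_cent_iff, mem_cent_iff]
  have hzx : z * x = x * z := (Subgroup.mem_center_iff.mp hz x).symm
  constructor
  · intro h
    have : z * (v * x) = z * (x * v) := by
      calc z * (v * x) = z * v * x := (mul_assoc _ _ _).symm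
        _ = x * (z * v) := h
        _ = x * z * v := (mul_assoc _ _ _).symm
        _ = z * x * v := by rw [hzx]
        _ = z * (x * v) := mul_assoc _ _ _
    exact mul_left_cancel this
  · intro h
    calc z * v * x = z * (v * x) := mul_assoc _ _ _
      _ = z * (x * v) := by rw [h]
      _ = z * x * v := (mul_assoc _ _ _).symm
      _ = x * z * v := by rw [hzx]
      _ = x * (z * v) := mul_assoc _ _ _

theorem cidx_central_mul {z : G} (hz : z ∈ Subgroup.center G) (v : G) :
    cidx (z * v) = cidx v := by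
  unfold cidx; rw [centralizer_central_mul hz]

/-- in a finite `p`-group every proper subgroup lies in a normal subgroup of index `p`. -/
theorem exists_maximal_ge [Finite G] {p : ℕ} [hp : Fact p.Prime] (hG : IsPGroup p G)
    {X : Subgroup G} (hX : X ≠ ⊤) : ∃ M : Subgroup G, X ≤ M ∧ M.Normal ∧ M.index = p := by
  obtain h | ⟨M, hM, hXM⟩ := IsCoatomic.eq_top_or_exists_le_coatom X
  · exact absurd h hX
  · have hnil : Group.IsNilpotent G := hG.isNilpotent
    have hn : M.Normal :=
      ((Group.isNilpotent_of_finite_tfae (G := G)).out 0 2 rfl rfl).mp hnil M hM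
    have := hn
    refine ⟨M, hXM, hn, ?_⟩
    have hpr : M.index.Prime := Cfsg.Agent.Lib.Helper7.CM.index_prime_of_normal_coatom hM
    obtain ⟨k, hk⟩ := hG.index M
    rw [hk] at hpr ⊢
    have hk1 : k = 1 := by
      by_contra hne
      rcases Nat.lt_or_gt_of_ne hne with h | h
      · have : k = 0 := by omega
        rw [this, pow_zero] at hpr
        exact Nat.not_prime_one hpr
      · exact (Nat.Prime.not_prime_pow (by omega)) hpr
    rw [hk1, pow_one]


/-- `[G,g]`: the normal closure of the commutators `⁅x,g⁆`. -/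
def Rg (g : G) : Subgroup G := Subgroup.normalClosure (Set.range fun x : G => ⁅x, g⁆)

instance Rg_normal (g : G) : (Rg g).Normal := Subgroup.normalClosure_normal

theorem comm_mem_Rg (x g : G) : ⁅x, g⁆ ∈ Rg g := Subgroup.subset_normalClosure ⟨x, rfl⟩

theorem comm_mem_Rg' (x g : G) : ⁅g, x⁆ ∈ Rg g := by
  have h := (Rg g).inv_mem (comm_mem_Rg x g)
  rwa [commutatorElement_inv] at h

theorem Rg_le_commutator (g : G) : Rg g ≤ commutator G := by
  apply Subgroup.normalClosure_le_normal
  rintro _ ⟨x, rfl⟩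
  rw [commutator_def]
  exact Subgroup.commutator_mem_commutator (Subgroup.mem_top x) (Subgroup.mem_top g)

/-- `g` is central modulo `[G,g]`. -/
theorem mk_mem_center (g : G) :
    (QuotientGroup.mk g : G ⧸ Rg g) ∈ Subgroup.center (G ⧸ Rg g) := by
  rw [Subgroup.mem_center_iff]
  intro q
  obtain ⟨x, rfl⟩ := QuotientGroup.mk_surjective q
  have hx : x ∈ centMod (Rg g) g := (mem_centMod_iff (Rg g)).mpr (comm_mem_Rg x g)
  unfold centMod at hx
  rw [Subgroup.mem_comap, mem_cent_iff] at hx
  exact hx.symm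

/-- the commutator subgroup lies in every normal subgroup of prime index. -/
theorem commutator_le_of_index_prime {p : ℕ} [hp : Fact p.Prime] (M : Subgroup G) [M.Normal]
    (hMi : M.index = p) : commutator G ≤ M := by
  have hcard : Nat.card (G ⧸ M) = p := hMi
  have : IsCyclic (G ⧸ M) := isCyclic_of_prime_card hcard
  rw [commutator_def, Subgroup.commutator_le]
  intro x _ y _
  rw [← QuotientGroup.eq_one_iff]
  have h := map_commutatorElement (QuotientGroup.mk' M) x y
  show (QuotientGroup.mk' M) ⁅x, y⁆ = 1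
  rw [h, commutatorElement_eq_one_iff_mul_comm]
  have : IsMulCommutative (G ⧸ M) := IsCyclic.isMulCommutative
  exact mul_comm' _ _

theorem one_le_of_noncentral [Finite G] {p : ℕ} {b : ℕ} {g : G}
    (hgc : g ∉ Subgroup.center G) (hb : cidx g ≤ p ^ b) : 1 ≤ b := by
  by_contra h
  have hb0 : b = 0 := by omega
  rw [hb0, pow_zero] at hb
  have h1 : cidx g = 1 := le_antisymm hb (cidx_pos g)
  unfold cidx at h1
  rw [Subgroup.index_eq_one] at h1
  apply hgc
  rw [Subgroup.mem_center_iff]
  intro x
  have hx : x ∈ Subgroup.centralizer ({g} : Set G) := by rw [h1]; exact Subgroup.mem_top x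
  rw [mem_cent_iff] at hx
  exact hx.symm

/-- **Tool R.**  If all elements outside the maximal subgroup `M` have centralizer index
`≤ p ^ b` and `g ∉ M` is non-central, then `G ⧸ [G,g]` has a maximal subgroup outside of which all
centralizer indices are `≤ p ^ (b - 1)`. -/
theorem toolR [Finite G] {p : ℕ} [hp : Fact p.Prime] (hG : IsPGroup p G) (b : ℕ)
    (M : Subgroup G) (hb : ∀ u, u ∉ M → cidx u ≤ p ^ b)
    (g : G) (hgM : g ∉ M) (hgc : g ∉ Subgroup.center G) :
    ∃ M' : Subgroup (G ⧸ Rg g), M'.Normal ∧ M'.index = p ∧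
      ∀ q, q ∉ M' → cidx q ≤ p ^ (b - 1) := by
  have hb1 : 1 ≤ b := one_le_of_noncentral hgc (hb g hgM)
  have hCtop : Subgroup.centralizer ({g} : Set G) ≠ ⊤ := by
    intro h
    apply hgc
    rw [Subgroup.mem_center_iff]
    intro x
    have hx : x ∈ Subgroup.centralizer ({g} : Set G) := by rw [h]; exact Subgroup.mem_top x
    rw [mem_cent_iff] at hx
    exact hx.symm
  obtain ⟨T, hCT, hTn, hTi⟩ := exists_maximal_ge hG hCtop
  have := hTn
  have hRT : Rg g ≤ T := (Rg_le_commutator g).trans (commutator_le_of_index_prime T hTi)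
  have hsurj : Function.Surjective (QuotientGroup.mk' (Rg g)) := QuotientGroup.mk'_surjective _
  have hker : (QuotientGroup.mk' (Rg g)).ker ≤ T := by rw [QuotientGroup.ker_mk']; exact hRT
  refine ⟨T.map (QuotientGroup.mk' (Rg g)), hTn.map _ hsurj, ?_, ?_⟩
  · rw [Subgroup.index_map_eq T hsurj hker, hTi]
  · intro q hq
    obtain ⟨u, rfl⟩ := QuotientGroup.mk_surjective q
    have huT : u ∉ T := fun h => hq (Subgroup.mem_map_of_mem _ h)
    have hgT : g ∈ T := hCT (by rw [mem_cent_iff])
    have hgu : ⁅g, u⁆ ≠ 1 := by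
      intro h
      rw [commutatorElement_eq_one_iff_mul_comm] at h
      exact huT (hCT (by rw [mem_cent_iff]; exact h))
    have key : ∀ v : G, v ∉ M → ⁅g, v⁆ ≠ 1 →
        cidx (QuotientGroup.mk v : G ⧸ Rg g) ≤ p ^ (b - 1) := by
      intro v hvM hgv
      have h1 := cidx_quotient_mul_le hG (Rg g) v g (comm_mem_Rg' v g) hgv
      have h2 := hb v hvM
      have h3 : cidx (QuotientGroup.mk v : G ⧸ Rg g) * p ≤ p ^ (b - 1) * p := by
        rw [← pow_succ, Nat.sub_add_cancel hb1]
        exact h1.trans h2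
      exact Nat.le_of_mul_le_mul_right h3 hp.out.pos
    by_cases huM : u ∈ M
    · have hguM : g * u ∉ M := by
        intro h
        apply hgM
        have := M.mul_mem h (M.inv_mem huM)
        simpa using this
      have hcomm : ⁅g, g * u⁆ ≠ 1 := by
        intro h
        apply hgu
        rw [commutatorElement_eq_one_iff_mul_comm] at h ⊢
        have : g * (g * u) = g * (u * g) := by rw [h]; group
        exact mul_left_cancel this
      have h1 := key (g * u) hguM hcomm
      have h2 : cidx (QuotientGroup.mk (g * u) : G ⧸ Rg g) =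
          cidx (QuotientGroup.mk u : G ⧸ Rg g) := by
        rw [QuotientGroup.mk_mul]
        exact cidx_central_mul (mk_mem_center g) _
      rw [← h2]; exact h1
    · exact key u huM hgu


/-- centralizer indices do not grow in subgroups. -/
theorem centralizer_subgroup_eq (H : Subgroup G) (u : H) :
    Subgroup.centralizer ({u} : Set H) =
      (Subgroup.centralizer ({(u : G)} : Set G)).subgroupOf H := by
  ext x
  rw [mem_cent_iff, Subgroup.mem_subgroupOf, mem_cent_iff]
  constructor
  · intro h; exact congrArg Subtype.val h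
  · intro h; exact Subtype.ext h

theorem cidx_subgroup_le [Finite G] (H : Subgroup G) (u : H) : cidx u ≤ cidx (u : G) := by
  unfold cidx
  rw [centralizer_subgroup_eq]
  show (Subgroup.centralizer ({(u : G)} : Set G)).relIndex H ≤ _
  have h := Subgroup.relIndex_le_of_le_right (H := Subgroup.centralizer ({(u : G)} : Set G))
    (le_top : H ≤ ⊤) (by rw [Subgroup.relIndex_top_right]; exact Subgroup.index_ne_zero_of_finite)
  rwa [Subgroup.relIndex_top_right] at h

/-- decomposition `G = ⟨z⟩ M` for `M` of prime index and `z ∉ M`. -/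
theorem exists_zpow_mul_mem {p : ℕ} [hp : Fact p.Prime] (M : Subgroup G) [M.Normal]
    (hMi : M.index = p) {z : G} (hzM : z ∉ M) (x : G) : ∃ i : ℤ, ∃ m ∈ M, x = z ^ i * m := by
  have hcard : Nat.card (G ⧸ M) = p := hMi
  have hz1 : (QuotientGroup.mk z : G ⧸ M) ≠ 1 := by
    intro h; exact hzM ((QuotientGroup.eq_one_iff z).mp h)
  have htop : Subgroup.zpowers (QuotientGroup.mk z : G ⧸ M) = ⊤ :=
    zpowers_eq_top_of_prime_card hcard hz1
  have hx : (QuotientGroup.mk x : G ⧸ M) ∈ Subgroup.zpowers (QuotientGroup.mk z : G ⧸ M) := by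
    rw [htop]; exact Subgroup.mem_top _
  obtain ⟨i, hi⟩ := Subgroup.mem_zpowers_iff.mp hx
  refine ⟨i, (z ^ i)⁻¹ * x, ?_, by group⟩
  rw [← QuotientGroup.eq_one_iff, QuotientGroup.mk_mul, QuotientGroup.mk_inv,
    QuotientGroup.mk_zpow, hi]
  group

/-- **central case**: a central element outside `M` transfers the hypothesis to all of `M` and
`G' = M'`. -/
theorem central_case [Finite G] {p : ℕ} [hp : Fact p.Prime] (b : ℕ) (M : Subgroup G) [M.Normal]
    (hMi : M.index = p) (hb : ∀ u, u ∉ M → cidx u ≤ p ^ b) (z : G)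
    (hz : z ∈ Subgroup.center G) (hzM : z ∉ M) :
    (∀ m : M, cidx m ≤ p ^ b) ∧ commutator G = (commutator M).map M.subtype := by
  constructor
  · intro m
    have h1 : z * (m : G) ∉ M := by
      intro h
      apply hzM
      have := M.mul_mem h (M.inv_mem m.2)
      simpa using this
    calc cidx m ≤ cidx (m : G) := cidx_subgroup_le M m
      _ = cidx (z * (m : G)) := (cidx_central_mul hz _).symm
      _ ≤ p ^ b := hb _ h1
  · apply le_antisymm
    · rw [commutator_eq_closure, Subgroup.closure_le]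
      rintro _ ⟨x, y, rfl⟩
      obtain ⟨i, m, hm, rfl⟩ := exists_zpow_mul_mem M hMi hzM x
      obtain ⟨j, m', hm', rfl⟩ := exists_zpow_mul_mem M hMi hzM y
      have hzi : z ^ i ∈ Subgroup.center G := Subgroup.zpow_mem _ hz i
      have hzj : z ^ j ∈ Subgroup.center G := Subgroup.zpow_mem _ hz j
      have hci : ∀ w : G, w * z ^ i = z ^ i * w := Subgroup.mem_center_iff.mp hzi
      have hcj : ∀ w : G, w * z ^ j = z ^ j * w := Subgroup.mem_center_iff.mp hzj
      have e : ⁅z ^ i * m, z ^ j * m'⁆ = ⁅m, m'⁆ := by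
        rw [commutatorElement_def, commutatorElement_def]
        have h1 : (z ^ i * m)⁻¹ = (z ^ i)⁻¹ * m⁻¹ := by
          rw [mul_inv_rev]; exact (Subgroup.mem_center_iff.mp (Subgroup.inv_mem _ hzi) _)
        have h2 : (z ^ j * m')⁻¹ = (z ^ j)⁻¹ * m'⁻¹ := by
          rw [mul_inv_rev]; exact (Subgroup.mem_center_iff.mp (Subgroup.inv_mem _ hzj) _)
        rw [h1, h2]
        calc z ^ i * m * (z ^ j * m') * ((z ^ i)⁻¹ * m⁻¹) * ((z ^ j)⁻¹ * m'⁻¹)
            = z ^ i * (m * z ^ j) * m' * ((z ^ i)⁻¹ * m⁻¹) * ((z ^ j)⁻¹ * m'⁻¹) := by group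
          _ = z ^ i * (z ^ j * m) * m' * ((z ^ i)⁻¹ * m⁻¹) * ((z ^ j)⁻¹ * m'⁻¹) := by rw [hcj m]
          _ = z ^ i * z ^ j * (m * m' * (z ^ i)⁻¹) * m⁻¹ * ((z ^ j)⁻¹ * m'⁻¹) := by group
          _ = z ^ i * z ^ j * ((z ^ i)⁻¹ * (m * m')) * m⁻¹ * ((z ^ j)⁻¹ * m'⁻¹) := by
              rw [Subgroup.mem_center_iff.mp (Subgroup.inv_mem _ hzi) (m * m')]
          _ = z ^ i * (z ^ j * (z ^ i)⁻¹) * (m * m' * m⁻¹ * (z ^ j)⁻¹) * m'⁻¹ := by group
          _ = z ^ i * ((z ^ i)⁻¹ * z ^ j) * ((z ^ j)⁻¹ * (m * m' * m⁻¹)) * m'⁻¹ := by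
              rw [Subgroup.mem_center_iff.mp (Subgroup.inv_mem _ hzi) (z ^ j),
                Subgroup.mem_center_iff.mp (Subgroup.inv_mem _ hzj) (m * m' * m⁻¹)]
          _ = m * m' * m⁻¹ * m'⁻¹ := by group
      rw [e]
      refine ⟨⁅(⟨m, hm⟩ : M), ⟨m', hm'⟩⁆, ?_, ?_⟩
      · rw [SetLike.mem_coe, commutator_def]
        exact Subgroup.commutator_mem_commutator (Subgroup.mem_top _) (Subgroup.mem_top _)
      · simp [commutatorElement_def]
    · rw [commutator_def, commutator_def, Subgroup.map_commutator]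
      exact Subgroup.commutator_mono le_top le_top

/-- size bound through a quotient. -/
theorem card_le_card_mul_card_map [Finite G] (N : Subgroup G) [N.Normal] (H : Subgroup G) :
    Nat.card H ≤ Nat.card N * Nat.card (H.map (QuotientGroup.mk' N)) := by
  set φ : H →* G ⧸ N := (QuotientGroup.mk' N).comp H.subtype with hφ
  have h1 : Nat.card φ.ker * φ.ker.index = Nat.card H := Subgroup.card_mul_index φ.ker
  have h2 : φ.ker.index = Nat.card φ.range := Subgroup.index_ker φ
  have h3 : φ.range = H.map (QuotientGroup.mk' N) := by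
    rw [hφ, MonoidHom.range_comp, Subgroup.range_subtype]
  have h4 : Nat.card φ.ker ≤ Nat.card N := by
    apply Nat.card_le_card_of_injective (fun x : φ.ker => (⟨(x : H), by
      have hx := x.2
      rw [MonoidHom.mem_ker] at hx
      have hx' : (QuotientGroup.mk' N) ((x : H) : G) = 1 := hx
      exact (QuotientGroup.eq_one_iff _).mp hx'⟩ : N))
    intro x y hxy
    have : ((x : H) : G) = ((y : H) : G) := by
      have h5 := congrArg (fun t : N => (t : G)) hxy
      exact h5
    exact Subtype.ext (Subtype.ext this)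
  rw [← h1, h2, h3]
  exact Nat.mul_le_mul_right _ h4

/-- **R-route**: a bound for the commutator subgroup of `G ⧸ [G,g]` gives one for `G`. -/
theorem card_commutator_le_of_quotient [Finite G] (g : G) (B : ℕ)
    (h : Nat.card (commutator (G ⧸ Rg g)) ≤ B) :
    Nat.card (commutator G) ≤ Nat.card (Rg g) * B := by
  have h1 := card_le_card_mul_card_map (Rg g) (commutator G)
  have h2 : (commutator G).map (QuotientGroup.mk' (Rg g)) = commutator (G ⧸ Rg g) := by
    rw [commutator_def, commutator_def, Subgroup.map_commutator,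
      Subgroup.map_top_of_surjective _ (QuotientGroup.mk'_surjective _)]
  rw [h2] at h1
  exact h1.trans (Nat.mul_le_mul_left _ h)


/-- **Tool R, weighted form** (Step 1 of the (SPADE) scheme): if `T ≥ C_G(g)` is maximal and every
`u` outside `T ∪ M` loses at least `p ^ e` in `G ⧸ [G,g]`, then all elements of `G ⧸ [G,g]` outside
the image of `T` have centralizer index `≤ p ^ (b - e)`. -/
theorem toolR_weighted [Finite G] {p : ℕ} (b e : ℕ)
    (M : Subgroup G) (hb : ∀ u, u ∉ M → cidx u ≤ p ^ b)
    (g : G) (hgM : g ∉ M) (T : Subgroup G) (hCT : Subgroup.centralizer ({g} : Set G) ≤ T)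
    (he : ∀ u, u ∉ T → u ∉ M → cidx (QuotientGroup.mk u : G ⧸ Rg g) * p ^ e ≤ cidx u) :
    ∀ q, q ∉ T.map (QuotientGroup.mk' (Rg g)) → cidx q * p ^ e ≤ p ^ b := by
  intro q hq
  obtain ⟨u, rfl⟩ := QuotientGroup.mk_surjective q
  have huT : u ∉ T := fun h => hq (Subgroup.mem_map_of_mem _ h)
  have hgT : g ∈ T := hCT (by rw [mem_cent_iff])
  by_cases huM : u ∈ M
  · have hguM : g * u ∉ M := by
      intro h
      apply hgM
      have := M.mul_mem h (M.inv_mem huM)
      simpa using this
    have hguT : g * u ∉ T := by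
      intro h
      apply huT
      have := T.mul_mem (T.inv_mem hgT) h
      simpa using this
    have h1 := he (g * u) hguT hguM
    have h2 : cidx (QuotientGroup.mk (g * u) : G ⧸ Rg g) =
        cidx (QuotientGroup.mk u : G ⧸ Rg g) := by
      rw [QuotientGroup.mk_mul]
      exact cidx_central_mul (mk_mem_center g) _
    rw [h2] at h1
    exact h1.trans (hb _ hguM)
  · exact (he u huT huM).trans (hb u huM)

/-- from `c * p ^ e ≤ p ^ b` to `c ≤ p ^ (b - e)` (and `e ≤ b` when `0 < c`). -/
theorem le_pow_sub_of_mul_le {p : ℕ} (hp : p.Prime) {c b e : ℕ} (hc : 0 < c)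
    (h : c * p ^ e ≤ p ^ b) : e ≤ b ∧ c ≤ p ^ (b - e) := by
  have heb : e ≤ b := by
    by_contra hlt
    push Not at hlt
    have h1 : p ^ b < p ^ e := Nat.pow_lt_pow_right hp.one_lt hlt
    have h2 : p ^ e ≤ c * p ^ e := Nat.le_mul_of_pos_left _ hc
    omega
  refine ⟨heb, ?_⟩
  have h3 : c * p ^ e ≤ p ^ (b - e) * p ^ e := by
    rw [← pow_add, Nat.sub_add_cancel heb]; exact h
  exact Nat.le_of_mul_le_mul_right h3 (pow_pos hp.pos e)

end Cfsg.Helper8.VLR
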