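import Mathlib
import Cfsg.Agent.Lib.Helper9.VLTools
import Cfsg.Agent.Lib.Helper4.VLBasic

/-!
# S3777 (Vaughan-Lee), Step 5 of helper2's proof: the "Frattini count"

Standalone group-theoretic lemmas:
* `commImg A hA s` : the subgroup `{⁅a,s⁆ : a ∈ A}` for an abelian normal subgroup `A`;
* `module_count` : `|[A,G]| ≤ ∏ |A : C_A(x i)|` when `G` is generated by `C_G(A)` and the `x i`
  and `G' ≤ C_G(A)`;
* `card_commutator_top_le` : the same pushed through the quotient by `Ω = [P,P]`, `P = Φ⟨x₁⟩`;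
* `index_split` : `|G : C_G(u)| = |G : C_G(u)Φ| * |Φ : C_Φ(u)|`.
-/

namespace Cfsg.Helper8.VL5

open Subgroup
open scoped commutatorElement

variable {G : Type*} [Group G]

/-- the subgroup `{⁅a,s⁆ : a ∈ A}` for an abelian normal subgroup `A` -/
noncomputable def commImg (A : Subgroup G) [A.Normal]
    (hA : ∀ a ∈ A, ∀ b ∈ A, a * b = b * a) (s : G) : Subgroup G :=
  ((Cfsg.Agent.Lib.Helper9.VL.commHom A hA s).range).map A.subtype

theorem mem_commImg (A : Subgroup G) [A.Normal]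
    (hA : ∀ a ∈ A, ∀ b ∈ A, a * b = b * a) (s x : G) :
    x ∈ commImg A hA s ↔ ∃ a ∈ A, ⁅a, s⁆ = x := by
  unfold commImg
  rw [Subgroup.mem_map]
  constructor
  · rintro ⟨y, ⟨a, rfl⟩, rfl⟩
    exact ⟨(a : G), a.2, rfl⟩
  · rintro ⟨a, ha, rfl⟩
    exact ⟨_, ⟨⟨a, ha⟩, rfl⟩, rfl⟩

theorem commImg_le (A : Subgroup G) [A.Normal]
    (hA : ∀ a ∈ A, ∀ b ∈ A, a * b = b * a) (s : G) : commImg A hA s ≤ A := by
  unfold commImg
  intro x hx
  rw [Subgroup.mem_map] at hx
  obtain ⟨y, -, rfl⟩ := hx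
  exact y.2

theorem comm_mem_commImg (A : Subgroup G) [A.Normal]
    (hA : ∀ a ∈ A, ∀ b ∈ A, a * b = b * a) (s : G) {a : G} (ha : a ∈ A) :
    ⁅a, s⁆ ∈ commImg A hA s := (mem_commImg A hA s _).mpr ⟨a, ha, rfl⟩

theorem card_commImg [Finite G] (A : Subgroup G) [A.Normal]
    (hA : ∀ a ∈ A, ∀ b ∈ A, a * b = b * a) (s : G) :
    Nat.card (commImg A hA s) = (centralizer ({s} : Set G)).relIndex A := by
  unfold commImg
  rw [Subgroup.card_map_of_injective (Subgroup.subtype_injective A), ← Subgroup.index_ker]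
  unfold Subgroup.relIndex
  congr 1
  ext a
  rw [MonoidHom.mem_ker, Subgroup.mem_subgroupOf, Subgroup.mem_centralizer_singleton_iff]
  constructor
  · intro h
    have h1 : ⁅(a : G), s⁆ = 1 := by
      have := congrArg (fun z : A => (z : G)) h
      simpa [Cfsg.Agent.Lib.Helper9.VL.commHom_apply] using this
    rw [commutatorElement_eq_one_iff_mul_comm] at h1
    exact h1
  · intro h
    apply Subtype.ext
    rw [Cfsg.Agent.Lib.Helper9.VL.commHom_apply]
    simp only [OneMemClass.coe_one]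
    rw [commutatorElement_eq_one_iff_mul_comm]
    exact h

/-- `commImg` is a normal subgroup as soon as `G'` centralises `A`. -/
theorem commImg_normal (A : Subgroup G) [hAn : A.Normal]
    (hA : ∀ a ∈ A, ∀ b ∈ A, a * b = b * a) (s : G)
    (hcomm : ∀ y t : G, ∀ a ∈ A, ⁅y, t⁆ * a = a * ⁅y, t⁆) : (commImg A hA s).Normal := by
  constructor
  intro n hn y
  obtain ⟨a, ha, rfl⟩ := (mem_commImg A hA s n).mp hn
  rw [mem_commImg]
  refine ⟨y * a * y⁻¹, hAn.conj_mem a ha y, ?_⟩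
  -- `y s y⁻¹ = ⁅y,s⁆ s`
  have ha' : y * a * y⁻¹ ∈ A := hAn.conj_mem a ha y
  have hb' : s * (y * a * y⁻¹)⁻¹ * s⁻¹ ∈ A := hAn.conj_mem _ (A.inv_mem ha') s
  have h1 := hcomm y s _ ha'
  have h2 := hcomm y s _ hb'
  have hc : ⁅y * a * y⁻¹, s⁆ ∈ A := by
    rw [commutatorElement_def]
    have : y * a * y⁻¹ * s * (y * a * y⁻¹)⁻¹ * s⁻¹ = (y * a * y⁻¹) * (s * (y * a * y⁻¹)⁻¹ * s⁻¹) := by
      group
    rw [this]
    exact A.mul_mem ha' hb'
  have h3 := hcomm y s _ hc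
  -- y ⁅a,s⁆ y⁻¹ = ⁅yay⁻¹, y s y⁻¹⁆ = ⁅a', c s⁆ with c = ⁅y,s⁆
  have e1 : y * ⁅a, s⁆ * y⁻¹ = ⁅y, s⁆ * ⁅y * a * y⁻¹, s⁆ * ⁅y, s⁆⁻¹ := by
    have : y * ⁅a, s⁆ * y⁻¹ = (y * a * y⁻¹) * ⁅y, s⁆ * (s * (y * a * y⁻¹)⁻¹ * s⁻¹) * ⁅y, s⁆⁻¹ := by
      simp only [commutatorElement_def]; group
    rw [this, ← h1]
    have : ⁅y, s⁆ * (y * a * y⁻¹) * (s * (y * a * y⁻¹)⁻¹ * s⁻¹) * ⁅y, s⁆⁻¹
        = ⁅y, s⁆ * ((y * a * y⁻¹) * (s * (y * a * y⁻¹)⁻¹ * s⁻¹)) * ⁅y, s⁆⁻¹ := by group
    rw [this]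
    congr 2
    rw [commutatorElement_def]; group
  rw [e1, h3]
  group

/-- `|H ⊔ K| ≤ |H| * |K|` for `K` normal. -/
theorem card_sup_le_mul [Finite G] (H K : Subgroup G) [K.Normal] :
    Nat.card (H ⊔ K : Subgroup G) ≤ Nat.card H * Nat.card K := by
  have h1 : (⊥ : Subgroup G).relIndex K * K.relIndex (H ⊔ K) = (⊥ : Subgroup G).relIndex (H ⊔ K) :=
    Subgroup.relIndex_mul_relIndex _ _ _ bot_le le_sup_right
  rw [Subgroup.relIndex_bot_left, Subgroup.relIndex_bot_left, Subgroup.relIndex_sup_right] at h1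
  rw [← h1, mul_comm]
  apply Nat.mul_le_mul_right
  exact Nat.le_of_dvd Nat.card_pos (Subgroup.relIndex_dvd_card K H)

theorem card_biSup_le_prod [Finite G] {ι : Type*} [DecidableEq ι] (S : Finset ι) (N : ι → Subgroup G)
    (hN : ∀ i, (N i).Normal) :
    Nat.card (⨆ i ∈ S, N i : Subgroup G) ≤ ∏ i ∈ S, Nat.card (N i) := by
  induction S using Finset.induction_on with
  | empty => simp
  | insert i S hi ih =>
    rw [Finset.prod_insert hi, Finset.iSup_insert]
    have : (⨆ j ∈ S, N j : Subgroup G).Normal := by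
      apply Subgroup.biSup_normal
      intro j _; exact hN j
    exact (card_sup_le_mul (N i) _).trans (Nat.mul_le_mul_left _ ih)

/-- **Module count.** `A` abelian normal, `G' ≤ C_G(A)`, `G = C_G(A)⟨x i : i ∈ S⟩`.  Then
`|[A,G]| ≤ ∏ |A : C_A(x i)|`. -/
theorem module_count [Finite G] {ι : Type*} [DecidableEq ι] (A : Subgroup G) [hAn : A.Normal]
    (hA : ∀ a ∈ A, ∀ b ∈ A, a * b = b * a)
    (hcomm : ∀ y t : G, ∀ a ∈ A, ⁅y, t⁆ * a = a * ⁅y, t⁆)
    (S : Finset ι) (x : ι → G)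
    (hgen : centralizer (A : Set G) ⊔ closure (x '' (S : Set ι)) = ⊤) :
    Nat.card (⁅A, (⊤ : Subgroup G)⁆ : Subgroup G) ≤
      ∏ i ∈ S, (centralizer ({x i} : Set G)).relIndex A := by
  set N : Subgroup G := ⨆ i ∈ S, commImg A hA (x i) with hNdef
  have hNi : ∀ i, (commImg A hA (x i)).Normal := fun i => commImg_normal A hA (x i) hcomm
  have hNn : N.Normal := by
    apply Subgroup.biSup_normal
    intro j _; exact hNi j
  -- the set of `g` with `⁅a,g⁆ ∈ N` for all `a ∈ A` is a subgroup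
  let T : Subgroup G :=
    { carrier := {g | ∀ a ∈ A, ⁅a, g⁆ ∈ N}
      one_mem' := by
        intro a _
        simp
      mul_mem' := by
        intro g h hg hh a ha
        have e : ⁅a, g * h⁆ = ⁅a, g⁆ * (g * ⁅a, h⁆ * g⁻¹) := by
          simp only [commutatorElement_def]; group
        rw [e]
        exact N.mul_mem (hg a ha) (hNn.conj_mem _ (hh a ha) g)
      inv_mem' := by
        intro g hg a ha
        have e : ⁅a, g⁻¹⁆ = g⁻¹ * (⁅a, g⁆)⁻¹ * g⁻¹⁻¹ := by
          simp only [commutatorElement_def]; group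
        rw [e]
        exact hNn.conj_mem _ (N.inv_mem (hg a ha)) g⁻¹ }
  have hT : T = ⊤ := by
    rw [eq_top_iff, ← hgen, sup_le_iff]
    constructor
    · intro g hg a ha
      have h1 : a * g = g * a := by
        rw [Subgroup.mem_centralizer_iff] at hg
        exact hg a ha
      have : ⁅a, g⁆ = 1 := by
        rw [commutatorElement_eq_one_iff_mul_comm]; exact h1
      rw [this]; exact N.one_mem
    · rw [Subgroup.closure_le]
      rintro _ ⟨i, hi, rfl⟩
      intro a ha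
      have h1 : ⁅a, x i⁆ ∈ commImg A hA (x i) := comm_mem_commImg A hA (x i) ha
      have h2 : commImg A hA (x i) ≤ N := by
        rw [hNdef]
        exact le_biSup (fun j => commImg A hA (x j)) (Finset.mem_coe.mp hi)
      exact h2 h1
  have hle : (⁅A, (⊤ : Subgroup G)⁆ : Subgroup G) ≤ N := by
    rw [Subgroup.commutator_le]
    intro a ha g _
    have : g ∈ T := by rw [hT]; trivial
    exact this a ha
  calc Nat.card (⁅A, (⊤ : Subgroup G)⁆ : Subgroup G) ≤ Nat.card N :=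
        Subgroup.card_le_of_le hle
    _ ≤ ∏ i ∈ S, Nat.card (commImg A hA (x i)) := card_biSup_le_prod S _ hNi
    _ = ∏ i ∈ S, (centralizer ({x i} : Set G)).relIndex A := by
        apply Finset.prod_congr rfl
        intro i _
        exact card_commImg A hA (x i)

/-- `|H| ≤ |N| * |HN/N|`. -/
theorem card_le_card_mul_card_map [Finite G] (N : Subgroup G) [N.Normal] (H : Subgroup G) :
    Nat.card H ≤ Nat.card N * Nat.card (H.map (QuotientGroup.mk' N)) := by
  set φ : H →* G ⧸ N := (QuotientGroup.mk' N).comp H.subtype with hφ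
  have h1 : Nat.card φ.ker * φ.ker.index = Nat.card H := Subgroup.card_mul_index φ.ker
  have h2 : φ.ker.index = Nat.card φ.range := Subgroup.index_ker φ
  have h3 : φ.range = H.map (QuotientGroup.mk' N) := by
    rw [hφ, MonoidHom.range_comp, Subgroup.range_subtype]
  have h4 : Nat.card φ.ker ≤ Nat.card N := by
    apply Nat.card_le_card_of_injective (fun x : φ.ker => (⟨(x : H), by
      have hx := x.2
      rw [MonoidHom.mem_ker] at hx
      have hx' : (QuotientGroup.mk' N) ((x : H) : G) = 1 := hx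
      exact (QuotientGroup.eq_one_iff _).mp hx'⟩ : N))
    intro x y hxy
    have : ((x : H) : G) = ((y : H) : G) := by
      have h5 := congrArg (fun t : N => (t : G)) hxy
      exact h5
    exact Subtype.ext (Subtype.ext this)
  rw [← h1, h2, h3]
  exact Nat.mul_le_mul_right _ h4

/-- the centraliser index relative to `Φ` does not grow in a quotient -/
theorem relIndex_map_le [Finite G] (N : Subgroup G) [N.Normal] (Φ : Subgroup G) (s : G) :
    (centralizer ({(QuotientGroup.mk' N s : G ⧸ N)} : Set (G ⧸ N))).relIndex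
        (Φ.map (QuotientGroup.mk' N)) ≤ (centralizer ({s} : Set G)).relIndex Φ := by
  rw [← Subgroup.relIndex_comap]
  have hle : centralizer ({s} : Set G) ≤
      (centralizer ({(QuotientGroup.mk' N s : G ⧸ N)} : Set (G ⧸ N))).comap (QuotientGroup.mk' N) := by
    intro g hg
    rw [Subgroup.mem_comap, Subgroup.mem_centralizer_singleton_iff]
    rw [Subgroup.mem_centralizer_singleton_iff] at hg
    rw [← map_mul, ← map_mul, hg]
  have hdvd := Subgroup.relIndex_dvd_of_le_left Φ hle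
  have hpos : 0 < (centralizer ({s} : Set G)).relIndex Φ :=
    Nat.pos_of_dvd_of_pos (Subgroup.relIndex_dvd_card _ _) Nat.card_pos
  exact Nat.le_of_dvd hpos hdvd

/-- **Frattini count (Step 5c).**  `Φ` normal with `G' ≤ Φ`, `P := Φ⟨x₁⟩`, `G = P⟨x i : i ∈ S⟩`.  Then
`|[Φ,G]| ≤ |P'| * ∏ |Φ : C_Φ(x i)|`. -/
theorem card_commutator_top_le [Finite G] {ι : Type*} [DecidableEq ι] (Φ : Subgroup G)
    [hΦn : Φ.Normal] (hΦ : _root_.commutator G ≤ Φ) (x₁ : G) (S : Finset ι) (x : ι → G)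
    (hgen : Φ ⊔ zpowers x₁ ⊔ closure (x '' (S : Set ι)) = ⊤) :
    Nat.card (⁅Φ, (⊤ : Subgroup G)⁆ : Subgroup G) ≤
      Nat.card (⁅Φ ⊔ zpowers x₁, Φ ⊔ zpowers x₁⁆ : Subgroup G) *
        ∏ i ∈ S, (centralizer ({x i} : Set G)).relIndex Φ := by
  set P : Subgroup G := Φ ⊔ zpowers x₁ with hP
  have hΦP : Φ ≤ P := le_sup_left
  have hPn : P.Normal := Subgroup.Normal.of_commutator_le G (hΦ.trans hΦP)
  set Ω : Subgroup G := ⁅P, P⁆ with hΩ
  have hΩn : Ω.Normal := by rw [hΩ]; infer_instance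
  set f : G →* G ⧸ Ω := QuotientGroup.mk' Ω with hf
  have hfs : Function.Surjective f := QuotientGroup.mk'_surjective Ω
  set A : Subgroup (G ⧸ Ω) := Φ.map f with hAdef
  have hAn : A.Normal := hΦn.map f hfs
  -- elements of `P` commute modulo `Ω`
  have hcommP : ∀ q ∈ P, ∀ r ∈ P, f q * f r = f r * f q := by
    intro q hq r hr
    have h1 : ⁅q, r⁆ ∈ Ω := Subgroup.commutator_mem_commutator hq hr
    have h2 : f ⁅q, r⁆ = 1 := (QuotientGroup.eq_one_iff _).mpr h1
    rw [map_commutatorElement, commutatorElement_eq_one_iff_mul_comm] at h2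
    exact h2
  have hA : ∀ a ∈ A, ∀ b ∈ A, a * b = b * a := by
    rintro _ ⟨q, hq, rfl⟩ _ ⟨r, hr, rfl⟩
    exact hcommP q (hΦP hq) r (hΦP hr)
  have hcomm : ∀ y t : G ⧸ Ω, ∀ a ∈ A, ⁅y, t⁆ * a = a * ⁅y, t⁆ := by
    intro y t a ha
    obtain ⟨y', rfl⟩ := hfs y
    obtain ⟨t', rfl⟩ := hfs t
    obtain ⟨q, hq, rfl⟩ := ha
    rw [← map_commutatorElement]
    have h1 : ⁅y', t'⁆ ∈ P := hΦP (hΦ (Subgroup.commutator_mem_commutator (Subgroup.mem_top y') (Subgroup.mem_top t')))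
    exact hcommP _ h1 q (hΦP hq)
  have hgen' : centralizer (A : Set (G ⧸ Ω)) ⊔ closure ((fun i => f (x i)) '' (S : Set ι)) = ⊤ := by
    have h1 : P.map f ≤ centralizer (A : Set (G ⧸ Ω)) := by
      rintro _ ⟨q, hq, rfl⟩
      rw [Subgroup.mem_centralizer_iff]
      rintro _ ⟨r, hr, rfl⟩
      exact hcommP r (hΦP hr) q hq
    have h2 : (closure (x '' (S : Set ι))).map f = closure ((fun i => f (x i)) '' (S : Set ι)) := by
      rw [MonoidHom.map_closure, ← Set.image_comp]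
      rfl
    have h3 : (P ⊔ closure (x '' (S : Set ι))).map f = ⊤ := by
      rw [hgen]; exact Subgroup.map_top_of_surjective f hfs
    rw [Subgroup.map_sup, h2] at h3
    rw [eq_top_iff, ← h3]
    exact sup_le_sup_right h1 _
  have hmc := module_count A hA hcomm S (fun i => f (x i)) hgen'
  have hmap : (⁅Φ, (⊤ : Subgroup G)⁆ : Subgroup G).map f = ⁅A, (⊤ : Subgroup (G ⧸ Ω))⁆ := by
    rw [Subgroup.map_commutator, Subgroup.map_top_of_surjective f hfs]
  have h1 := card_le_card_mul_card_map Ω (⁅Φ, (⊤ : Subgroup G)⁆ : Subgroup G)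
  rw [← hf, hmap] at h1
  refine h1.trans (Nat.mul_le_mul_left _ (hmc.trans ?_))
  apply Finset.prod_le_prod'
  intro i _
  exact relIndex_map_le Ω Φ (x i)

/-- **Index split (Step 5a).** `|G : C_G(u)| = |G : C_G(u)Φ| * |Φ : C_Φ(u)|` for `Φ` normal. -/
theorem index_split [Finite G] (Φ : Subgroup G) [Φ.Normal] (C : Subgroup G) :
    C.index = (C ⊔ Φ).index * C.relIndex Φ := by
  have h0 : C.relIndex (C ⊔ Φ) * (C ⊔ Φ).index = C.index :=
    Subgroup.relIndex_mul_index le_sup_left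
  -- `|CΦ : C| = |Φ : C ∩ Φ|` by counting
  have e1 : Nat.card C * C.relIndex (C ⊔ Φ) = Nat.card (C ⊔ Φ : Subgroup G) := by
    have := Subgroup.relIndex_mul_relIndex (⊥ : Subgroup G) C (C ⊔ Φ) bot_le le_sup_left
    rwa [Subgroup.relIndex_bot_left, Subgroup.relIndex_bot_left] at this
  have e2 : Nat.card Φ * Φ.relIndex C = Nat.card (C ⊔ Φ : Subgroup G) := by
    have := Subgroup.relIndex_mul_relIndex (⊥ : Subgroup G) Φ (C ⊔ Φ) bot_le le_sup_right
    rwa [Subgroup.relIndex_bot_left, Subgroup.relIndex_bot_left, Subgroup.relIndex_sup_right] at this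
  have e3 : Nat.card (C ⊓ Φ : Subgroup G) * Φ.relIndex C = Nat.card C := by
    have := Subgroup.relIndex_mul_relIndex (⊥ : Subgroup G) (C ⊓ Φ) C bot_le inf_le_left
    rwa [Subgroup.relIndex_bot_left, Subgroup.relIndex_bot_left,
      Subgroup.inf_relIndex_left] at this
  have e4 : Nat.card (C ⊓ Φ : Subgroup G) * C.relIndex Φ = Nat.card Φ := by
    have := Subgroup.relIndex_mul_relIndex (⊥ : Subgroup G) (C ⊓ Φ) Φ bot_le inf_le_right
    rwa [Subgroup.relIndex_bot_left, Subgroup.relIndex_bot_left,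
      Subgroup.inf_relIndex_right] at this
  have hpos : 0 < Nat.card C := Nat.card_pos
  have hpos2 : 0 < Nat.card (C ⊓ Φ : Subgroup G) := Nat.card_pos
  have key : C.relIndex (C ⊔ Φ) = C.relIndex Φ := by
    apply Nat.eq_of_mul_eq_mul_left hpos
    rw [e1, ← e2, ← e4, ← e3]
    ring
  rw [← h0, key, mul_comm]

/-- from `c * p^k ≤ p^b` (`c ≥ 1`) get `k ≤ b` and `c ≤ p^(b-k)` -/
theorem le_pow_sub_of_mul_le {p : ℕ} (hp : 1 < p) {c k b : ℕ} (hc : 0 < c) (h : c * p ^ k ≤ p ^ b) :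
    k ≤ b ∧ c ≤ p ^ (b - k) := by
  have hk : k ≤ b := by
    have h1 : p ^ k ≤ p ^ b := le_trans (Nat.le_mul_of_pos_left _ hc) h
    exact (Nat.pow_le_pow_iff_right hp).mp h1
  refine ⟨hk, ?_⟩
  have h2 : p ^ b = p ^ (b - k) * p ^ k := by rw [← pow_add, Nat.sub_add_cancel hk]
  rw [h2] at h
  exact Nat.le_of_mul_le_mul_right h (Nat.pow_pos (by omega))

/-- **Step 5b.**  `Φ ≤ P`, `|P : Φ| = p`, `|G : P| = p^k`; if every `v ∈ P ∖ Φ` has `C_G(v) ≤ P` and
`|G : C_G(v)| ≤ p^b`, then `k ≤ b` and `(P, Φ)` satisfies `Hyp p (b - k)`. -/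
theorem hyp_of_free [Finite G] {p : ℕ} [hp : Fact p.Prime] (Φ P : Subgroup G) [Φ.Normal]
    (hidx : Φ.relIndex P = p) (k b : ℕ) (hPidx : P.index = p ^ k)
    (hfree : ∀ v ∈ P, v ∉ Φ → centralizer ({v} : Set G) ≤ P)
    (hb : ∀ v ∈ P, v ∉ Φ → (centralizer ({v} : Set G)).index ≤ p ^ b) :
    k ≤ b ∧ Cfsg.Agent.Lib.Helper4.VL.Hyp p (b - k) (Φ.subgroupOf P) := by
  have hp1 : 1 < p := hp.out.one_lt
  have hkey : ∀ u : P, u ∉ Φ.subgroupOf P →
      k ≤ b ∧ (centralizer ({u} : Set P)).index ≤ p ^ (b - k) := by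
    intro u hu
    have huΦ : (u : G) ∉ Φ := fun h => hu (Subgroup.mem_subgroupOf.mpr h)
    have h1 := Cfsg.Agent.Lib.Helper4.VL.index_centralizer_subgroup_mul P u (hfree u u.2 huΦ)
    have h2 := hb u u.2 huΦ
    rw [← h1, hPidx] at h2
    have hpos : 0 < (centralizer ({u} : Set P)).index := by
      have : (centralizer ({u} : Set P)).index ≠ 0 := Subgroup.index_ne_zero_of_finite
      omega
    exact le_pow_sub_of_mul_le hp1 hpos h2
  -- there is an element of `P` outside `Φ`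
  have hex : ∃ u : P, u ∉ Φ.subgroupOf P := by
    by_contra hcon
    push Not at hcon
    have : Φ.subgroupOf P = ⊤ := by
      rw [eq_top_iff]; intro u _; exact hcon u
    have h1 : Φ.relIndex P = 1 := by
      unfold Subgroup.relIndex; rw [this, Subgroup.index_top]
    omega
  obtain ⟨u₀, hu₀⟩ := hex
  refine ⟨(hkey u₀ hu₀).1, ?_, ?_, ?_⟩
  · infer_instance
  · exact hidx
  · intro u hu
    exact (hkey u hu).2

/-- triangular numbers: `C(a+c,2) = C(a,2) + C(c,2) + a c`. -/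
theorem tri_add (a c : ℕ) :
    (a + c) * (a + c - 1) / 2 = a * (a - 1) / 2 + (c * (c - 1) / 2 + a * c) := by
  induction a with
  | zero => simp
  | succ a ih =>
    have e1 : a + 1 + c = (a + c) + 1 := by ring
    rw [e1, Nat.triangle_succ (a + c), Nat.triangle_succ a, ih]
    ring

/-- the arithmetic of Step 5d, in the form `b (b+1)/2` with `b = b₁ + (d - 1)`:
`C(d-1,2) + C(b₁+1,2) + (d-1) b₁ + (d-1) = C(b+1,2)`. -/
theorem step5_arith (a b₁ : ℕ) :
    a * (a - 1) / 2 + (b₁ * (b₁ + 1) / 2 + (a * b₁ + a)) = (b₁ + a) * (b₁ + a + 1) / 2 := by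
  have h := tri_add a (b₁ + 1)
  have e1 : a + (b₁ + 1) - 1 = b₁ + a := by omega
  have e2 : b₁ + 1 - 1 = b₁ := by omega
  rw [e1, e2] at h
  have e3 : (b₁ + a) * (b₁ + a + 1) = (a + (b₁ + 1)) * (b₁ + a) := by ring
  have e4 : (b₁ + 1) * b₁ = b₁ * (b₁ + 1) := by ring
  rw [e3, h, e4]
  ring

end Cfsg.Helper8.VL5
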