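import Mathlib
import Cfsg.Agent.Lib.Helper6.VLStep4
import Cfsg.Agent.Lib.Helper9.VLChain
import Cfsg.Agent.Lib.Helper9.VLTools

/-!
# S3777 (Vaughan-Lee), Step 4B of helper2's proof: the extraction (reserve copy)

`extraction` has exactly the signature of helper2's skeleton.  The integer core `arith_core` is
helper6's (notes/S3777_arith_core_helper6.lean.txt).
-/

namespace Cfsg.Helper8.VLX

open Subgroup

/-- helper6's integer core. -/
theorem arith_core (p P x y n : ℤ) (hp : 2 ≤ p) (hP : p ≤ P) (hn : 0 < n)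
    (hx0 : 0 ≤ x) (hxy : x ≤ y) (hyn : y ≤ n)
    (hstar : (P - p) * (n * p * (p - 1)) ≤
      n * P + y * (P * (p - 1)) + x * (P * p * (p - 1)) - p ^ 3 * n) :
    1 ≤ x ∧ ¬ (x * p ^ 2 ≤ n ∧ y * p ≤ n) := by
  have hp0 : 0 < p := by linarith
  have hP0 : 0 < P := by linarith
  have hp1 : 0 ≤ p - 1 := by linarith
  have hPp1 : 0 ≤ P * (p - 1) := mul_nonneg hP0.le hp1
  have hPpp1 : 0 ≤ P * p * (p - 1) := mul_nonneg (mul_nonneg hP0.le hp0.le) hp1
  constructor
  · by_contra hx
    have hx' : x = 0 := by linarith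
    subst hx'
    have h1 : y * (P * (p - 1)) ≤ n * (P * (p - 1)) := mul_le_mul_of_nonneg_right hyn hPp1
    have h2 : n * (p * (P * (p - 2) + p)) ≤ 0 := by nlinarith
    have h3 : 0 < p * (P * (p - 2) + p) := by
      apply mul_pos hp0
      have : 0 ≤ P * (p - 2) := mul_nonneg hP0.le (by linarith)
      linarith
    have h4 : 0 < n * (p * (P * (p - 2) + p)) := mul_pos hn h3
    linarith
  · rintro ⟨h1, h2⟩
    have e1 : x * p ^ 2 * (P * p * (p - 1)) ≤ n * (P * p * (p - 1)) :=
      mul_le_mul_of_nonneg_right h1 hPpp1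
    have e2 : y * p * (p * (P * (p - 1))) ≤ n * (p * (P * (p - 1))) :=
      mul_le_mul_of_nonneg_right h2 (mul_nonneg hp0.le hPp1)
    have e3 : p ^ 2 * ((P - p) * (n * p * (p - 1))) ≤
        p ^ 2 * (n * P + y * (P * (p - 1)) + x * (P * p * (p - 1)) - p ^ 3 * n) :=
      mul_le_mul_of_nonneg_left hstar (by positivity)
    have e4 : n * (P * p * ((p - 2) * (p ^ 2 + p - 1)) + p ^ 4) ≤ 0 := by nlinarith
    have e5 : 0 < P * p * ((p - 2) * (p ^ 2 + p - 1)) + p ^ 4 := by
      have : 0 ≤ P * p * ((p - 2) * (p ^ 2 + p - 1)) := by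
        apply mul_nonneg (mul_nonneg hP0.le hp0.le)
        apply mul_nonneg (by linarith)
        nlinarith
      have : 0 < p ^ 4 := by positivity
      linarith
    have e6 := mul_pos hn e5
    linarith

/-- pointwise bound, in terms of the exponent `j < d` of the index -/
theorem pointwise (p d j : ℕ) (hp : 2 ≤ p) (hj : j < d) :
    p ^ 3 * p ^ j ≤ p ^ d + (if p ^ d ∣ p ^ j * p ^ 2 then p ^ d * (p - 1) else 0)
      + (if p ^ j * p = p ^ d then p ^ d * p * (p - 1) else 0) := by
  obtain ⟨q, rfl⟩ : ∃ q, p = q + 1 := ⟨p - 1, by omega⟩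
  simp only [Nat.add_sub_cancel]
  have hP : ∀ e : ℕ, (q + 1) ^ e + (q + 1) ^ e * q = (q + 1) ^ e * (q + 1) := by
    intro e
    ring
  by_cases h1 : j + 1 = d
  · subst h1
    have c1 : (q + 1) ^ (j + 1) ∣ (q + 1) ^ j * (q + 1) ^ 2 := ⟨q + 1, by ring⟩
    have c2 : (q + 1) ^ j * (q + 1) = (q + 1) ^ (j + 1) := by ring
    rw [if_pos c1, if_pos c2]
    apply le_of_eq; ring
  · by_cases h2 : j + 2 = d
    · subst h2
      have c1 : (q + 1) ^ (j + 2) ∣ (q + 1) ^ j * (q + 1) ^ 2 := ⟨1, by ring⟩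
      rw [if_pos c1, hP]
      have : (q + 1) ^ 3 * (q + 1) ^ j = (q + 1) ^ (j + 2) * (q + 1) := by ring
      rw [this]
      exact Nat.le_add_right _ _
    · have h3 : j + 3 ≤ d := by omega
      have : (q + 1) ^ 3 * (q + 1) ^ j ≤ (q + 1) ^ d := by
        rw [← pow_add]
        exact Nat.pow_le_pow_right (by omega) (by omega)
      exact this.trans ((Nat.le_add_right _ _).trans (Nat.le_add_right _ _))

section Group

open Classical

variable {G : Type*} [Group G] [Fintype G] {p : ℕ} [Fact p.Prime]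

omit [Fintype G] in
/-- the index of a subgroup strictly above `Φ` is `p ^ j` with `j < d` -/
theorem index_eq_pow_lt (Φ Ku : Subgroup G) (d : ℕ) (hd : Φ.index = p ^ d) (hΦK : Φ ≤ Ku)
    (u : G) (hu : u ∈ Ku) (huΦ : u ∉ Φ) : ∃ j, j < d ∧ Ku.index = p ^ j := by
  have hpp : p.Prime := Fact.out
  have h1 := Subgroup.relIndex_mul_index hΦK
  rw [hd] at h1
  have h2 : Ku.index ∣ p ^ d := Dvd.intro_left _ h1
  obtain ⟨j, hj, hj'⟩ := (Nat.dvd_prime_pow hpp).1 h2
  refine ⟨j, ?_, hj'⟩
  rcases Nat.lt_or_ge j d with h | h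
  · exact h
  · exfalso
    have hjd : j = d := le_antisymm hj h
    rw [hj', hjd] at h1
    have h3 : Φ.relIndex Ku = 1 := by
      have hpos : 0 < p ^ d := Nat.pow_pos hpp.pos
      exact Nat.eq_of_mul_eq_mul_right hpos (by rw [h1, one_mul])
    exact huΦ (Subgroup.relIndex_eq_one.1 h3 hu)

/-- the numerical consequence of the counting inequality -/
theorem numeric (M Φ : Subgroup G) [M.Normal] (hM : M.index = p) (hΦM : Φ ≤ M)
    (d : ℕ) (hd : Φ.index = p ^ d) (hd2 : 2 ≤ d)
    (K : G → Subgroup G) (hK : ∀ u, Φ ≤ K u) (huK : ∀ u, u ∈ K u)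
    (hineq : (p ^ d - p) * (Nat.card G * (p - 1) ^ 2) ≤
      p ^ 3 * ∑ u ∈ Finset.univ.filter (fun u : G => u ∉ M), ((K u).index - 1)) :
    1 ≤ (Finset.univ.filter (fun u : G => u ∉ M ∧ (K u).index * p = p ^ d)).card ∧
    ¬ ((Finset.univ.filter (fun u : G => u ∉ M ∧ (K u).index * p = p ^ d)).card * p ^ 2 ≤
          (Finset.univ.filter (fun u : G => u ∉ M)).card ∧
        (Finset.univ.filter (fun u : G => u ∉ M ∧ p ^ d ∣ (K u).index * p ^ 2)).card * p ≤
          (Finset.univ.filter (fun u : G => u ∉ M)).card) := by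
  have hpp : p.Prime := Fact.out
  have hp2 : 2 ≤ p := hpp.two_le
  set A := Finset.univ.filter (fun u : G => u ∉ M) with hA
  set F1 := Finset.univ.filter (fun u : G => u ∉ M ∧ (K u).index * p = p ^ d) with hF1
  set F2 := Finset.univ.filter (fun u : G => u ∉ M ∧ p ^ d ∣ (K u).index * p ^ 2) with hF2
  -- sizes
  have hnp : A.card * p = Nat.card G * (p - 1) := by
    have hMtop : ¬ (⊤ : Subgroup G) ≤ M := by
      intro h
      have : M = ⊤ := top_le_iff.1 h
      rw [this, Subgroup.index_top] at hM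
      omega
    have h1 := Cfsg.Agent.Lib.Helper6.VL4.card_filter_mem_not_mem M hM ⊤ hMtop
    have h2 : Finset.univ.filter (fun u : G => u ∈ (⊤ : Subgroup G) ∧ u ∉ M) = A := by
      rw [hA]; congr 1; ext u; simp
    rw [h2] at h1
    rw [h1]
    congr 1
    exact Subgroup.card_top
  have hF12 : F1 ⊆ F2 := by
    intro u hu
    rw [hF1, Finset.mem_filter] at hu
    rw [hF2, Finset.mem_filter]
    refine ⟨hu.1, hu.2.1, ?_⟩
    have : (K u).index * p ^ 2 = p ^ d * p := by rw [pow_two, ← mul_assoc, hu.2.2]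
    rw [this]
    exact Dvd.intro _ rfl
  have hF2A : F2 ⊆ A := by
    intro u hu
    rw [hF2, Finset.mem_filter] at hu
    rw [hA, Finset.mem_filter]
    exact ⟨hu.1, hu.2.1⟩
  -- pointwise bound and its sum
  have hpt : ∀ u ∈ A, p ^ 3 * (K u).index ≤ p ^ d
      + (if p ^ d ∣ (K u).index * p ^ 2 then p ^ d * (p - 1) else 0)
      + (if (K u).index * p = p ^ d then p ^ d * p * (p - 1) else 0) := by
    intro u hu
    rw [hA, Finset.mem_filter] at hu
    have huΦ : u ∉ Φ := fun h => hu.2 (hΦM h)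
    obtain ⟨j, hj, hj'⟩ := index_eq_pow_lt Φ (K u) d hd (hK u) u (huK u) huΦ
    rw [hj']
    exact pointwise p d j hp2 hj
  have hsum : p ^ 3 * ∑ u ∈ A, (K u).index ≤
      A.card * p ^ d + F2.card * (p ^ d * (p - 1)) + F1.card * (p ^ d * p * (p - 1)) := by
    rw [Finset.mul_sum]
    refine (Finset.sum_le_sum hpt).trans ?_
    rw [Finset.sum_add_distrib, Finset.sum_add_distrib, Finset.sum_const, smul_eq_mul,
      Finset.sum_ite, Finset.sum_ite, Finset.sum_const_zero, Finset.sum_const_zero,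
      Finset.sum_const, Finset.sum_const, smul_eq_mul, smul_eq_mul, add_zero, add_zero]
    have e1 : A.filter (fun u => p ^ d ∣ (K u).index * p ^ 2) = F2 := by
      rw [hA, hF2, Finset.filter_filter]
    have e2 : A.filter (fun u => (K u).index * p = p ^ d) = F1 := by
      rw [hA, hF1, Finset.filter_filter]
    rw [e1, e2]
  have hsub : ∑ u ∈ A, ((K u).index - 1) + A.card = ∑ u ∈ A, (K u).index := by
    have h1 : ∀ u ∈ A, (K u).index - 1 + 1 = (K u).index := by
      intro u _
      have : (K u).index ≠ 0 := Subgroup.index_ne_zero_of_finite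
      omega
    calc ∑ u ∈ A, ((K u).index - 1) + A.card
        = ∑ u ∈ A, ((K u).index - 1 + 1) := by
          rw [Finset.sum_add_distrib, Finset.sum_const, smul_eq_mul, mul_one]
      _ = ∑ u ∈ A, (K u).index := Finset.sum_congr rfl h1
  -- to integers
  have hP : p ≤ p ^ d := by
    calc p = p ^ 1 := (pow_one p).symm
      _ ≤ p ^ d := Nat.pow_le_pow_right hpp.pos (by omega)
  have hnpos : 0 < A.card := by
    rcases Nat.eq_zero_or_pos A.card with h | h
    · rw [h, zero_mul] at hnp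
      have h1 : 0 < Nat.card G := Nat.card_pos
      have h2 : 0 < p - 1 := by omega
      have := Nat.mul_pos h1 h2
      omega
    · exact h
  have hcore := arith_core (p : ℤ) ((p : ℤ) ^ d) (F1.card : ℤ) (F2.card : ℤ) (A.card : ℤ)
    (by exact_mod_cast hp2) (by exact_mod_cast hP) (by exact_mod_cast hnpos)
    (by positivity) (by exact_mod_cast Finset.card_le_card hF12)
    (by exact_mod_cast Finset.card_le_card hF2A)
    (by
      have hp1 : 1 ≤ p := by omega
      have h1 : ((p : ℤ) ^ d - p) * ((Nat.card G : ℤ) * ((p : ℤ) - 1) ^ 2) ≤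
          (p : ℤ) ^ 3 * ∑ u ∈ A, (((K u).index : ℤ) - 1) := by
        have := hineq
        zify [hP, hp1] at this
        refine this.trans (le_of_eq ?_)
        congr 1
        apply Finset.sum_congr rfl
        intro u _
        have : 1 ≤ (K u).index := by
          have : (K u).index ≠ 0 := Subgroup.index_ne_zero_of_finite
          omega
        push_cast [this]
        ring
      have h2 : ((A.card : ℤ)) * p = (Nat.card G : ℤ) * ((p : ℤ) - 1) := by
        have := hnp
        zify [hp1] at this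
        exact this
      have h3 : (p : ℤ) ^ 3 * ∑ u ∈ A, ((K u).index : ℤ) ≤
          (A.card : ℤ) * (p : ℤ) ^ d + (F2.card : ℤ) * ((p : ℤ) ^ d * ((p : ℤ) - 1))
            + (F1.card : ℤ) * ((p : ℤ) ^ d * p * ((p : ℤ) - 1)) := by
        have := hsum
        zify [hp1] at this
        exact this
      have h4 : ∑ u ∈ A, (((K u).index : ℤ) - 1) = ∑ u ∈ A, ((K u).index : ℤ) - A.card := by
        rw [Finset.sum_sub_distrib, Finset.sum_const, nsmul_eq_mul, mul_one]
      rw [h4] at h1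
      have e : (Nat.card G : ℤ) * ((p : ℤ) - 1) ^ 2 = (A.card : ℤ) * p * ((p : ℤ) - 1) := by
        rw [h2]; ring
      rw [e] at h1
      have : (p : ℤ) ^ 3 * (∑ u ∈ A, ((K u).index : ℤ) - A.card)
          = (p : ℤ) ^ 3 * ∑ u ∈ A, ((K u).index : ℤ) - (p : ℤ) ^ 3 * A.card := by ring
      rw [this] at h1
      linarith)
  obtain ⟨c1, c2⟩ := hcore
  refine ⟨by exact_mod_cast c1, ?_⟩
  rintro ⟨h1, h2⟩
  apply c2
  exact ⟨by exact_mod_cast h1, by exact_mod_cast h2⟩

/-- a finite set of elements of `T ∖ M`, where `p ^ k ∣ |G : T|`, is small -/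
theorem card_mul_pow_le (M : Subgroup G) [M.Normal] (hM : M.index = p) (T : Subgroup G) (k : ℕ)
    (hk : p ^ k ∣ T.index) (F : Finset G) (hF : ∀ u ∈ F, u ∈ T ∧ u ∉ M) :
    F.card * p ^ k ≤ (Finset.univ.filter (fun u : G => u ∉ M)).card := by
  have hpp : p.Prime := Fact.out
  by_cases hTM : T ≤ M
  · have : F = ∅ := by
      apply Finset.eq_empty_of_forall_notMem
      intro u hu
      exact (hF u hu).2 (hTM (hF u hu).1)
    rw [this]; simp
  · have hMtop : ¬ (⊤ : Subgroup G) ≤ M := fun h => hTM (le_top.trans h)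
    have h1 := Cfsg.Agent.Lib.Helper6.VL4.card_filter_mem_not_mem M hM ⊤ hMtop
    have h2 : Finset.univ.filter (fun u : G => u ∈ (⊤ : Subgroup G) ∧ u ∉ M)
        = Finset.univ.filter (fun u : G => u ∉ M) := by
      congr 1; ext u; simp
    rw [h2, Subgroup.card_top] at h1
    have h3 := Cfsg.Agent.Lib.Helper6.VL4.card_filter_mem_not_mem M hM T hTM
    have h4 : F.card ≤ (Finset.univ.filter (fun u : G => u ∈ T ∧ u ∉ M)).card := by
      apply Finset.card_le_card
      intro u hu
      rw [Finset.mem_filter]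
      exact ⟨Finset.mem_univ _, hF u hu⟩
    have h5 : Nat.card T * p ^ k ≤ Nat.card G := by
      rw [← Subgroup.card_mul_index T]
      apply Nat.mul_le_mul_left
      exact Nat.le_of_dvd (Nat.pos_of_ne_zero Subgroup.index_ne_zero_of_finite) hk
    set n := (Finset.univ.filter (fun u : G => u ∉ M)).card
    set m := (Finset.univ.filter (fun u : G => u ∈ T ∧ u ∉ M)).card
    have h6 : F.card * p ^ k * p ≤ n * p := by
      calc F.card * p ^ k * p ≤ m * p ^ k * p := by
            apply Nat.mul_le_mul_right; apply Nat.mul_le_mul_right; exact h4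
        _ = (m * p) * p ^ k := by ring
        _ = Nat.card T * (p - 1) * p ^ k := by rw [h3]
        _ = (Nat.card T * p ^ k) * (p - 1) := by ring
        _ ≤ Nat.card G * (p - 1) := Nat.mul_le_mul_right _ h5
        _ = n * p := h1.symm
    exact Nat.le_of_mul_le_mul_right h6 hpp.pos

omit [Fintype G] [Fact p.Prime] in
/-- a group is not the union of two proper subgroups -/
theorem exists_notMem_two (A B : Subgroup G) (hA : A ≠ ⊤) (hB : B ≠ ⊤) :
    ∃ y : G, y ∉ A ∧ y ∉ B := by
  obtain ⟨a, ha⟩ : ∃ a, a ∉ A := by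
    by_contra h; push Not at h
    exact hA (eq_top_iff.2 fun x _ => h x)
  obtain ⟨b, hb⟩ : ∃ b, b ∉ B := by
    by_contra h; push Not at h
    exact hB (eq_top_iff.2 fun x _ => h x)
  by_cases haB : a ∈ B
  · by_cases hbA : b ∈ A
    · refine ⟨a * b, ?_, ?_⟩
      · intro h
        apply ha
        have := A.mul_mem h (A.inv_mem hbA)
        simpa using this
      · intro h
        apply hb
        have := B.mul_mem (B.inv_mem haB) h
        simpa using this
    · exact ⟨b, hbA, hb⟩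
  · exact ⟨a, ha, haB⟩

/-- **Step 4B: extraction** (helper2's skeleton signature). -/
theorem extraction (M Φ : Subgroup G) [M.Normal] [Φ.Normal]
    (hM : M.index = p) (hΦM : Φ ≤ M) (hcomm : commutator G ≤ Φ) (hpow : ∀ x : G, x ^ p ∈ Φ)
    (d : ℕ) (hd : Φ.index = p ^ d) (hd2 : 2 ≤ d)
    (K : G → Subgroup G) (hK : ∀ u, Φ ≤ K u) (huK : ∀ u, u ∈ K u)
    (hineq : (p ^ d - p) * (Nat.card G * (p - 1) ^ 2) ≤
      p ^ 3 * ∑ u ∈ Finset.univ.filter (fun u : G => u ∉ M), ((K u).index - 1)) :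
    ∃ (x₁ : G) (S : Finset G), x₁ ∉ M ∧ (∀ s ∈ S, s ∉ M) ∧
      Φ ⊔ zpowers x₁ ⊔ Subgroup.closure (S : Set G) = ⊤ ∧ (K x₁).index * p = p ^ d ∧ S.card = d - 1 ∧
      p ^ ((d - 1) * (d - 2)) ≤ ∏ s ∈ S, (K s).index := by
  have hpp : p.Prime := Fact.out
  have hp2 : 2 ≤ p := hpp.two_le
  obtain ⟨hx1, hnot⟩ := numeric M Φ hM hΦM d hd hd2 K hK huK hineq
  set F1 := Finset.univ.filter (fun u : G => u ∉ M ∧ (K u).index * p = p ^ d) with hF1
  set F2 := Finset.univ.filter (fun u : G => u ∉ M ∧ p ^ d ∣ (K u).index * p ^ 2) with hF2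
  set T1 : Subgroup G := Φ ⊔ Subgroup.closure {u : G | u ∉ M ∧ (K u).index * p = p ^ d} with hT1
  set T2 : Subgroup G := Φ ⊔ Subgroup.closure {u : G | u ∉ M ∧ p ^ d ∣ (K u).index * p ^ 2} with hT2
  -- index of a proper subgroup above Φ is divisible by p
  have hdvd : ∀ T : Subgroup G, Φ ≤ T → ∃ j, j ≤ d ∧ T.index = p ^ j := by
    intro T hT
    have h1 := Subgroup.relIndex_mul_index hT
    rw [hd] at h1
    exact (Nat.dvd_prime_pow hpp).1 (Dvd.intro_left _ h1)
  have hF1T1 : ∀ u ∈ F1, u ∈ T1 ∧ u ∉ M := by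
    intro u hu
    rw [hF1, Finset.mem_filter] at hu
    exact ⟨(le_sup_right : Subgroup.closure _ ≤ T1) (Subgroup.subset_closure hu.2), hu.2.1⟩
  have hF2T2 : ∀ u ∈ F2, u ∈ T2 ∧ u ∉ M := by
    intro u hu
    rw [hF2, Finset.mem_filter] at hu
    exact ⟨(le_sup_right : Subgroup.closure _ ≤ T2) (Subgroup.subset_closure hu.2), hu.2.1⟩
  obtain ⟨x₀, hx₀⟩ : ∃ x₀, x₀ ∈ F1 := Finset.card_pos.1 hx1
  by_cases hT2top : T2 = ⊤
  · -- Case A
    have hx₀' := hx₀
    rw [hF1, Finset.mem_filter] at hx₀'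
    have hx₀M : x₀ ∉ M := hx₀'.2.1
    have hx₀Φ : x₀ ∉ Φ := fun h => hx₀M (hΦM h)
    set D : Subgroup G := Φ ⊔ zpowers x₀ with hD
    have hDidx : D.index = p ^ (d - 1) := by
      have h1 := Cfsg.Agent.Lib.Helper6.VL4.index_sup_zpowers_mul Φ hcomm hpow x₀ hx₀Φ
      rw [hd] at h1
      have h2 : p ^ d = p ^ (d - 1) * p := by
        rw [← pow_succ]; congr 1; omega
      rw [h2] at h1
      exact Nat.eq_of_mul_eq_mul_right hpp.pos h1
    have hDc : commutator G ≤ D := hcomm.trans le_sup_left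
    have hDp : ∀ x : G, x ^ p ∈ D := fun x => (le_sup_left : Φ ≤ D) (hpow x)
    have hgen : D ⊔ Subgroup.closure {u : G | u ∉ M ∧ p ^ d ∣ (K u).index * p ^ 2} = ⊤ := by
      rw [eq_top_iff, ← hT2top, hT2]
      exact sup_le_sup_right le_sup_left _
    obtain ⟨S, hS1, hS2, -, hS4⟩ :=
      Cfsg.Agent.Lib.Helper9.VL.exists_finset_generating_top D hDc hDp (d - 1) hDidx _ hgen
    refine ⟨x₀, S, hx₀M, fun s hs => (hS2 hs).1, hS4, hx₀'.2.2, hS1, ?_⟩
    have hle : ∀ s ∈ S, p ^ (d - 2) ≤ (K s).index := by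
      intro s hs
      have h1 := (hS2 hs).2
      have h2 : p ^ d = p ^ (d - 2) * p ^ 2 := by
        rw [← pow_add]; congr 1; omega
      have h3 : p ^ (d - 2) * p ^ 2 ≤ (K s).index * p ^ 2 := by
        rw [← h2]
        apply Nat.le_of_dvd _ h1
        apply Nat.mul_pos (Nat.pos_of_ne_zero Subgroup.index_ne_zero_of_finite)
        exact Nat.pow_pos hpp.pos
      exact Nat.le_of_mul_le_mul_right h3 (Nat.pow_pos hpp.pos)
    calc p ^ ((d - 1) * (d - 2)) = (p ^ (d - 2)) ^ (d - 1) := by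
          rw [← pow_mul, mul_comm]
      _ = ∏ _s ∈ S, p ^ (d - 2) := by rw [Finset.prod_const, hS1]
      _ ≤ ∏ s ∈ S, (K s).index := Finset.prod_le_prod (fun _ _ => Nat.zero_le _) hle
  · -- Case B
    have hΦT2 : Φ ≤ T2 := le_sup_left
    have hΦT1 : Φ ≤ T1 := le_sup_left
    have hT12 : T1 ≤ T2 := by
      rw [hT1, hT2]
      apply sup_le_sup_left
      apply Subgroup.closure_mono
      intro u hu
      refine ⟨hu.1, ?_⟩
      have : (K u).index * p ^ 2 = p ^ d * p := by rw [pow_two, ← mul_assoc, hu.2]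
      rw [this]
      exact Dvd.intro _ rfl
    have hpT2 : p ^ 1 ∣ T2.index := by
      obtain ⟨j, -, hj⟩ := hdvd T2 hΦT2
      rw [hj]
      apply pow_dvd_pow
      rcases Nat.eq_zero_or_pos j with h | h
      · exfalso
        rw [h, pow_zero] at hj
        exact hT2top (Subgroup.index_eq_one.1 hj)
      · exact h
    have hc2 := card_mul_pow_le M hM T2 1 hpT2 F2 hF2T2
    rw [pow_one] at hc2
    have hc1 : ¬ F1.card * p ^ 2 ≤ (Finset.univ.filter (fun u : G => u ∉ M)).card :=
      fun h => hnot ⟨h, hc2⟩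
    have hT1idx : T1.index = p := by
      obtain ⟨j, -, hj⟩ := hdvd T1 hΦT1
      have hj1 : j ≠ 0 := by
        intro h
        rw [h, pow_zero] at hj
        have h1 : T1 = ⊤ := Subgroup.index_eq_one.1 hj
        exact hT2top (top_le_iff.1 (h1 ▸ hT12))
      have hj2 : j < 2 := by
        by_contra h
        push Not at h
        apply hc1
        apply card_mul_pow_le M hM T1 2 _ F1 hF1T1
        rw [hj]
        exact pow_dvd_pow p h
      have : j = 1 := by omega
      rw [hj, this, pow_one]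
    have hrel : Φ.relIndex T1 = p ^ (d - 1) := by
      have h1 := Subgroup.relIndex_mul_index hΦT1
      rw [hT1idx, hd] at h1
      have h2 : p ^ d = p ^ (d - 1) * p := by
        rw [← pow_succ]; congr 1; omega
      rw [h2] at h1
      exact Nat.eq_of_mul_eq_mul_right hpp.pos h1
    obtain ⟨S₁, hS1, hS2, -, hS4⟩ :=
      Cfsg.Agent.Lib.Helper9.VL.exists_finset_subset_generating Φ hcomm hpow T1 hΦT1 (d - 1) hrel
        {u : G | u ∉ M ∧ (K u).index * p = p ^ d} rfl
    obtain ⟨x₁, hx₁⟩ : ∃ x₁, x₁ ∈ S₁ := by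
      apply Finset.card_pos.1
      rw [hS1]; omega
    have hMtop : M ≠ ⊤ := by
      intro h
      rw [h, Subgroup.index_top] at hM
      omega
    have hT1top : T1 ≠ ⊤ := by
      intro h
      rw [h, Subgroup.index_top] at hT1idx
      omega
    obtain ⟨y, hyM, hyT⟩ := exists_notMem_two M T1 hMtop hT1top
    have hS₁T : ∀ s ∈ S₁, s ∈ T1 := by
      intro s hs
      rw [← hS4]
      exact (le_sup_right : Subgroup.closure _ ≤ _) (Subgroup.subset_closure hs)
    have hyS : y ∉ S₁.erase x₁ := fun h => hyT (hS₁T y (Finset.mem_of_mem_erase h))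
    refine ⟨x₁, insert y (S₁.erase x₁), (hS2 hx₁).1, ?_, ?_, (hS2 hx₁).2, ?_, ?_⟩
    · intro s hs
      rcases Finset.mem_insert.1 hs with h | h
      · rw [h]; exact hyM
      · exact (hS2 (Finset.mem_of_mem_erase h)).1
    · -- generation
      have h1 : T1 ≤ Φ ⊔ zpowers x₁ ⊔ Subgroup.closure ((insert y (S₁.erase x₁) : Finset G) : Set G) := by
        rw [← hS4, sup_le_iff]
        refine ⟨le_sup_left.trans le_sup_left, ?_⟩
        rw [Subgroup.closure_le]
        intro s hs
        by_cases hsx : s = x₁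
        · rw [hsx]
          exact (le_sup_left : _ ≤ Φ ⊔ zpowers x₁ ⊔ _)
            ((le_sup_right : zpowers x₁ ≤ Φ ⊔ zpowers x₁) (mem_zpowers x₁))
        · apply (le_sup_right : Subgroup.closure _ ≤ Φ ⊔ zpowers x₁ ⊔ _)
          apply Subgroup.subset_closure
          rw [Finset.mem_coe, Finset.mem_insert]
          right
          exact Finset.mem_erase.2 ⟨hsx, hs⟩
      have h2 : zpowers y ≤ Φ ⊔ zpowers x₁ ⊔ Subgroup.closure ((insert y (S₁.erase x₁) : Finset G) : Set G) := by
        rw [zpowers_le]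
        apply (le_sup_right : Subgroup.closure _ ≤ Φ ⊔ zpowers x₁ ⊔ _)
        apply Subgroup.subset_closure
        rw [Finset.mem_coe, Finset.mem_insert]
        left; rfl
      have h3 := Cfsg.Agent.Lib.Helper9.VL.sup_zpowers_eq_top_of_index_prime T1 hT1idx y hyT
      rw [eq_top_iff, ← h3]
      exact sup_le h1 h2
    · rw [Finset.card_insert_of_notMem hyS, Finset.card_erase_of_mem hx₁, hS1]
      omega
    · rw [Finset.prod_insert hyS]
      have hidx : ∀ s ∈ S₁.erase x₁, (K s).index = p ^ (d - 1) := by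
        intro s hs
        have h1 := (hS2 (Finset.mem_of_mem_erase hs)).2
        have h2 : p ^ d = p ^ (d - 1) * p := by
          rw [← pow_succ]; congr 1; omega
        rw [h2] at h1
        exact Nat.eq_of_mul_eq_mul_right hpp.pos h1
      rw [Finset.prod_congr rfl hidx, Finset.prod_const, Finset.card_erase_of_mem hx₁, hS1]
      have h1 : 1 ≤ (K y).index :=
        Nat.pos_of_ne_zero Subgroup.index_ne_zero_of_finite
      calc p ^ ((d - 1) * (d - 2)) = 1 * (p ^ (d - 1)) ^ (d - 1 - 1) := by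
            rw [one_mul, ← pow_mul]; rfl
        _ ≤ (K y).index * (p ^ (d - 1)) ^ (d - 1 - 1) := Nat.mul_le_mul_right _ h1

end Group

end Cfsg.Helper8.VLX
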