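import Mathlib
import Cfsg.Agent.Lib.Helper8.VLStep5

/-!
# S3777 (Vaughan-Lee), Step 5 of helper2's proof: consumer-side bounds

* `relIndex_mul_index_le` : `|Φ : C_Φ(u)| * |G : K| ≤ |G : C_G(u)|` whenever `C_G(u)Φ ≤ K`;
* `prod_relIndex_mul_le` : the product bound over the chosen generators;
* `final_bound` : the arithmetic of Step 5d applied to cardinalities.
-/

namespace Cfsg.Helper8.VL5

open Subgroup
open scoped commutatorElement

variable {G : Type*} [Group G]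

/-- **Step 5a, consumer form.**  If `C Φ ≤ K` then `|Φ : C ∩ Φ| * |G : K| ≤ |G : C|`. -/
theorem relIndex_mul_index_le [Finite G] (Φ : Subgroup G) [Φ.Normal] (C K : Subgroup G)
    (h : C ⊔ Φ ≤ K) : C.relIndex Φ * K.index ≤ C.index := by
  rw [index_split Φ C, mul_comm]
  apply Nat.mul_le_mul_right
  exact Nat.le_of_dvd (Nat.pos_of_ne_zero Subgroup.index_ne_zero_of_finite)
    (Subgroup.index_dvd_of_le h)

/-- **Product bound.**  If every `s ∈ S` has `|G : C_G(s)| ≤ p^b` and `C_G(s)Φ ≤ K s`, then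
`(∏ |Φ : C_Φ(s)|) * ∏ |G : K s| ≤ p^(b * |S|)`. -/
theorem prod_relIndex_mul_le [Finite G] {p : ℕ} (Φ : Subgroup G) [Φ.Normal] (S : Finset G)
    (K : G → Subgroup G) (hK : ∀ s ∈ S, centralizer ({s} : Set G) ⊔ Φ ≤ K s) (b : ℕ)
    (hb : ∀ s ∈ S, (centralizer ({s} : Set G)).index ≤ p ^ b) :
    (∏ s ∈ S, (centralizer ({s} : Set G)).relIndex Φ) * (∏ s ∈ S, (K s).index) ≤
      p ^ (b * S.card) := by
  rw [← Finset.prod_mul_distrib]
  calc ∏ s ∈ S, (centralizer ({s} : Set G)).relIndex Φ * (K s).index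
      ≤ ∏ _s ∈ S, p ^ b := by
        apply Finset.prod_le_prod'
        intro s hs
        exact (relIndex_mul_index_le Φ _ _ (hK s hs)).trans (hb s hs)
    _ = p ^ (b * S.card) := by
        rw [Finset.prod_const, ← pow_mul]

/-- **Product bound, exponent form.**  With `S.card = a` and `p^(a(a-1)) ≤ ∏ |G : K s|`
(helper6/helper5's extraction: cost `≤ d - 1` with `a = d - 1`), one gets
`a ≤ b + 1` and `∏ |Φ : C_Φ(s)| ≤ p^(a * (b - a + 1))`. -/
theorem prod_relIndex_le [Finite G] {p : ℕ} (hp : 1 < p) (Φ : Subgroup G) [Φ.Normal]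
    (S : Finset G) (K : G → Subgroup G)
    (hK : ∀ s ∈ S, centralizer ({s} : Set G) ⊔ Φ ≤ K s) (b a : ℕ)
    (hb : ∀ s ∈ S, (centralizer ({s} : Set G)).index ≤ p ^ b) (hcard : S.card = a)
    (hprod : p ^ (a * (a - 1)) ≤ ∏ s ∈ S, (K s).index) :
    a * (a - 1) ≤ b * a ∧
      ∏ s ∈ S, (centralizer ({s} : Set G)).relIndex Φ ≤ p ^ (b * a - a * (a - 1)) := by
  have h1 := prod_relIndex_mul_le (p := p) Φ S K hK b hb
  rw [hcard] at h1
  have hpos : 0 < ∏ s ∈ S, (centralizer ({s} : Set G)).relIndex Φ := by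
    apply Finset.prod_pos
    intro s _
    exact Nat.pos_of_dvd_of_pos (Subgroup.relIndex_dvd_card _ _) Nat.card_pos
  have h2 : (∏ s ∈ S, (centralizer ({s} : Set G)).relIndex Φ) * p ^ (a * (a - 1)) ≤ p ^ (b * a) :=
    (Nat.mul_le_mul_left _ hprod).trans h1
  exact le_pow_sub_of_mul_le hp hpos h2

/-- **Final arithmetic (Step 5d).**  `a = d - 1`, `b₁ = b - a`:
`|G'| ≤ |Γ| p^C(a,2)`, `|Γ| ≤ |P'| R`, `|P'| ≤ p^C(b₁+1,2)`, `R ≤ p^(b a - a(a-1))`, `a ≤ b`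
give `|G'| ≤ p^C(b+1,2)`. -/
theorem final_bound {p : ℕ} (cG cΓ cP R a b : ℕ) (hab : a ≤ b)
    (h1 : cG ≤ cΓ * p ^ (a * (a - 1) / 2)) (h2 : cΓ ≤ cP * R)
    (h3 : cP ≤ p ^ ((b - a) * (b - a + 1) / 2)) (h4 : R ≤ p ^ (b * a - a * (a - 1))) :
    cG ≤ p ^ (b * (b + 1) / 2) := by
  obtain ⟨b₁, rfl⟩ : ∃ b₁, b = b₁ + a := ⟨b - a, by omega⟩
  have e0 : b₁ + a - a = b₁ := by omega
  rw [e0] at h3
  have e1 : (b₁ + a) * a - a * (a - 1) = a * b₁ + a := by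
    rcases a with _ | a
    · simp
    · have : (b₁ + (a + 1)) * (a + 1) = (a + 1) * (a + 1 - 1) + ((a + 1) * b₁ + (a + 1)) := by
        simp only [Nat.add_sub_cancel]; ring
      rw [this, Nat.add_sub_cancel_left]
  rw [e1] at h4
  have h5 : cΓ ≤ p ^ (b₁ * (b₁ + 1) / 2) * p ^ (a * b₁ + a) :=
    h2.trans (Nat.mul_le_mul h3 h4)
  have h6 : cG ≤ p ^ (b₁ * (b₁ + 1) / 2) * p ^ (a * b₁ + a) * p ^ (a * (a - 1) / 2) :=
    h1.trans (Nat.mul_le_mul_right _ h5)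
  rw [← pow_add, ← pow_add] at h6
  have e2 : b₁ * (b₁ + 1) / 2 + (a * b₁ + a) + a * (a - 1) / 2 = (b₁ + a) * (b₁ + a + 1) / 2 := by
    rw [← step5_arith a b₁]; ring
  rw [e2] at h6
  exact h6

end Cfsg.Helper8.VL5
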