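import Mathlib
import Cfsg.Prelude
import Cfsg.Agent.Lib.Helper2.WG.Defs3
import Cfsg.Agent.Lib.Lead.WG_G5
import Cfsg.Agent.Lib.Helper1.WG_K1
import Cfsg.Agent.Lib.Helper1.WG_F0
import Cfsg.Agent.Lib.Helper5.WG_R4
import Cfsg.Agent.Lib.Lead.BPK
import Cfsg.Agent.Lib.Helper1.CharFound8

set_option autoImplicit false

namespace Cfsg.Agent.Lib.Helper2.WG

open Matrix Cfsg Cfsg.Agent.H9SpF Cfsg.Agent.Lib.Helper6.Siegel Cfsg.Agent.Lib.Helper1.SUMin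
open scoped ComplexConjugate

universe u

variable {F : Type u} [Field F] [Fintype F] {m : ℕ}

namespace PkPB5

open PkF2 PkK1 PkF3

theorem ηE_zero_zero (t : F) : (ηE (0 : Fin m → F) 0 t : Sp (m + 1) F) = zE t := by
  rw [r3_ηE_eq, xE_zero, one_mul]
  rfl

theorem ηE_zero : (ηE (0 : Fin m → F) 0 0 : Sp (m + 1) F) = 1 := by
  rw [ηE_zero_zero, zE_zero]

theorem zE_mul_ηE (r : F) (x v : Fin m → F) (t : F) :
    zE r * ηE x v t = ηE x v (r + t) := by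
  rw [← ηE_zero_zero, ηE_mul]
  congr 1
  · rw [zero_add]
  · rw [zero_add]
  · simp

theorem ηE_inv (x v : Fin m → F) (t : F) :
    (ηE x v t)⁻¹ = ηE (-x) (-v) (-t - 2 * (x ⬝ᵥ v)) := by
  rw [inv_eq_iff_mul_eq_one, ηE_mul, ← ηE_zero (F := F) (m := m)]
  congr 1
  · rw [add_neg_cancel]
  · rw [add_neg_cancel]
  · simp
    ring

/-- the long root group as a subgroup -/
def Zs (m : ℕ) (F : Type u) [Field F] [Fintype F] : Subgroup (Sp (m + 1) F) where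
  carrier := {g | ∃ t : F, zE t = g}
  one_mem' := ⟨0, zE_zero⟩
  mul_mem' := by
    rintro _ _ ⟨t, rfl⟩ ⟨t', rfl⟩
    exact ⟨t + t', zE_add t t'⟩
  inv_mem' := by
    rintro _ ⟨t, rfl⟩
    refine ⟨-t, ?_⟩
    rw [eq_inv_iff_mul_eq_one, ← zE_add, neg_add_cancel, zE_zero]

/-- the Heisenberg group `H₁` as a subgroup -/
def H1s (m : ℕ) (F : Type u) [Field F] [Fintype F] : Subgroup (Sp (m + 1) F) where
  carrier := {g | ∃ (x v : Fin m → F) (t : F), ηE x v t = g}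
  one_mem' := ⟨0, 0, 0, ηE_zero⟩
  mul_mem' := by
    rintro _ _ ⟨x, v, t, rfl⟩ ⟨x', v', t', rfl⟩
    exact ⟨_, _, _, (ηE_mul x v x' v' t t').symm⟩
  inv_mem' := by
    rintro _ ⟨x, v, t, rfl⟩
    exact ⟨_, _, _, (ηE_inv x v t).symm⟩

theorem mem_Zs {g : Sp (m + 1) F} : g ∈ Zs m F ↔ ∃ t : F, zE t = g := Iff.rfl

theorem mem_H1s {g : Sp (m + 1) F} :
    g ∈ H1s m F ↔ ∃ (x v : Fin m → F) (t : F), ηE x v t = g := Iff.rfl

/-- `J = H₁ ⋊ ιG (Sp m)` -/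
def Js (m : ℕ) (F : Type u) [Field F] [Fintype F] : Subgroup (Sp (m + 1) F) where
  carrier := {g | ∃ (x v : Fin m → F) (t : F) (h : Sp m F), ηE x v t * ιG h = g}
  one_mem' := ⟨0, 0, 0, 1, by rw [ηE_zero, map_one, one_mul]⟩
  mul_mem' := by
    rintro _ _ ⟨x, v, t, h, rfl⟩ ⟨x', v', t', h', rfl⟩
    obtain ⟨x'', v'', t'', he, -⟩ := ιG_conj_ηE h x' v' t'
    refine ⟨x + x'', v + v'', t + t'' - 2 * (x'' ⬝ᵥ v), h * h', ?_⟩
    rw [map_mul, ← ηE_mul x v x'' v'' t t'', ← he]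
    group
  inv_mem' := by
    rintro _ ⟨x, v, t, h, rfl⟩
    obtain ⟨x'', v'', t'', he, -⟩ := ιG_conj_ηE h⁻¹ (-x) (-v) (-t - 2 * (x ⬝ᵥ v))
    refine ⟨x'', v'', t'', h⁻¹, ?_⟩
    rw [← he, _root_.mul_inv_rev, ηE_inv, map_inv]
    group

theorem mem_Js {g : Sp (m + 1) F} :
    g ∈ Js m F ↔ ∃ (x v : Fin m → F) (t : F) (h : Sp m F), ηE x v t * ιG h = g := Iff.rfl

theorem Zs_le_H1s : Zs m F ≤ H1s m F := by
  rintro _ ⟨t, rfl⟩
  exact ⟨0, 0, t, ηE_zero_zero t⟩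

theorem H1s_le_Js : H1s m F ≤ Js m F := by
  rintro _ ⟨x, v, t, rfl⟩
  exact ⟨x, v, t, 1, by rw [map_one, mul_one]⟩

theorem range_le_Js : (ιG (m := m) (F := F)).range ≤ Js m F := by
  rintro _ ⟨h, rfl⟩
  exact ⟨0, 0, 0, h, by rw [ηE_zero, one_mul]⟩

theorem Js_norm : ∀ j ∈ Js m F, ∀ n ∈ H1s m F, j * n * j⁻¹ ∈ H1s m F := by
  rintro _ ⟨x, v, t, h, rfl⟩ _ ⟨x', v', t', rfl⟩
  obtain ⟨x'', v'', t'', he, -⟩ := ιG_conj_ηE h x' v' t'
  have e : ηE x v t * ιG h * ηE x' v' t' * (ηE x v t * ιG h)⁻¹ =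
      ηE x v t * (ιG h * ηE x' v' t' * (ιG h)⁻¹) * (ηE x v t)⁻¹ := by group
  rw [e, he]
  exact (H1s m F).mul_mem ((H1s m F).mul_mem ⟨_, _, _, rfl⟩ ⟨_, _, _, rfl⟩)
    ((H1s m F).inv_mem ⟨_, _, _, rfl⟩)

theorem Zs_central : ∀ z ∈ Zs m F, ∀ j ∈ Js m F, z * j = j * z := by
  rintro _ ⟨r, rfl⟩ _ ⟨x, v, t, h, rfl⟩
  rw [← mul_assoc, zE_comm_ηE, mul_assoc, mul_assoc, ιG_comm_zE]

theorem Js_factor : ∀ j ∈ Js m F, ∃ n ∈ H1s m F, ∃ c ∈ (ιG (m := m) (F := F)).range,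
    j = n * c := by
  rintro _ ⟨x, v, t, h, rfl⟩
  exact ⟨_, ⟨x, v, t, rfl⟩, _, ⟨h, rfl⟩, rfl⟩

theorem ηE_mul_comm (x v x' v' : Fin m → F) (t t' : F) :
    ηE x v t * ηE x' v' t' =
      zE (2 * (x ⬝ᵥ v') - 2 * (x' ⬝ᵥ v)) * (ηE x' v' t' * ηE x v t) := by
  rw [ηE_mul, ηE_mul, zE_mul_ηE]
  congr 1
  · rw [add_comm]
  · rw [add_comm]
  · ring

theorem H1s_comm : ∀ n ∈ H1s m F, ∀ n' ∈ H1s m F, n * n' * n⁻¹ * n'⁻¹ ∈ Zs m F := by
  rintro _ ⟨x, v, t, rfl⟩ _ ⟨x', v', t', rfl⟩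
  refine ⟨2 * (x ⬝ᵥ v') - 2 * (x' ⬝ᵥ v), ?_⟩
  rw [ηE_mul_comm x v x' v' t t']
  group

theorem H1s_trans : ∀ n ∈ H1s m F, n ∉ Zs m F → ∀ n' ∈ H1s m F, n' ∉ Zs m F →
    ∃ c ∈ (ιG (m := m) (F := F)).range, ∃ z ∈ Zs m F, c * n * c⁻¹ = n' * z := by
  rintro _ ⟨x, v, t, rfl⟩ hn _ ⟨x', v', t', rfl⟩ hn'
  have hxv : ¬ (x = 0 ∧ v = 0) := by
    rintro ⟨rfl, rfl⟩
    exact hn ⟨t, (ηE_zero_zero t).symm⟩
  have hxv' : ¬ (x' = 0 ∧ v' = 0) := by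
    rintro ⟨rfl, rfl⟩
    exact hn' ⟨t', (ηE_zero_zero t').symm⟩
  obtain ⟨g, t'', hg⟩ := ιG_transitive x v x' v' hxv hxv'
  refine ⟨ιG g, ⟨g, rfl⟩, zE (t'' + t - t'), ⟨_, rfl⟩, ?_⟩
  have e1 : ηE x v t = zE t * ηE x v 0 := by rw [zE_mul_ηE, add_zero]
  have e2 : ιG g * (zE t * ηE x v 0) * (ιG g)⁻¹ = zE t * (ιG g * ηE x v 0 * (ιG g)⁻¹) := by
    rw [← mul_assoc, ιG_comm_zE]
    group
  rw [e1, e2, hg, zE_mul_ηE, ← zE_comm_ηE, zE_mul_ηE]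
  congr 1
  ring

/-- the parametrisation of `J` -/
def jpar (a : (Fin m → F) × (Fin m → F) × F × Sp m F) : Sp (m + 1) F :=
  ηE a.1 a.2.1 a.2.2.1 * ιG a.2.2.2

theorem jpar_injective : Function.Injective (jpar (m := m) (F := F)) := by
  intro a a' h
  have hp : jpar a ∈ P1 m F := by
    have := PkR4.prod_mem_P1 a.1 a.2.1 a.2.2.1 1 a.2.2.2
    rwa [hT_one, mul_one] at this
  obtain ⟨q, -, hq⟩ := P1_factor (jpar a) hp
  have h1 := hq (a.1, a.2.1, a.2.2.1, 1, a.2.2.2) (by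
    show jpar a = _
    rw [hT_one, mul_one]; rfl)
  have h2 := hq (a'.1, a'.2.1, a'.2.2.1, 1, a'.2.2.2) (by
    show jpar a = _
    rw [hT_one, mul_one, h]; rfl)
  have h3 := h1.trans h2.symm
  simp only [Prod.mk.injEq] at h3
  obtain ⟨e1, e2, e3, -, e4⟩ := h3
  exact Prod.ext e1 (Prod.ext e2 (Prod.ext e3 e4))

theorem mem_Js_iff_jpar (g : Sp (m + 1) F) : g ∈ Js m F ↔ ∃ a, jpar a = g := by
  constructor
  · rintro ⟨x, v, t, h, rfl⟩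
    exact ⟨(x, v, t, h), rfl⟩
  · rintro ⟨a, rfl⟩
    exact ⟨a.1, a.2.1, a.2.2.1, a.2.2.2, rfl⟩

theorem zE_injective : Function.Injective (zE (m := m) (F := F)) := by
  intro t t' h
  have := ηE_injective (m := m) (F := F) (a₁ := (0, 0, t)) (a₂ := (0, 0, t')) (by
    show ηE 0 0 t = ηE 0 0 t'
    rw [ηE_zero_zero, ηE_zero_zero, h])
  simpa using this

theorem card_Zs : Nat.card (Zs m F) = Fintype.card F := by
  rw [← Nat.card_eq_fintype_card]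
  symm
  apply Nat.card_congr
  exact Equiv.ofBijective (fun t : F => (⟨zE t, ⟨t, rfl⟩⟩ : Zs m F))
    ⟨fun t t' h => zE_injective (Subtype.ext_iff.1 h), fun ⟨_, t, rfl⟩ => ⟨t, rfl⟩⟩

theorem card_H1s : Nat.card (H1s m F) = Fintype.card F ^ (2 * m + 1) := by
  have e : ((Fin m → F) × (Fin m → F) × F) ≃ H1s m F :=
    Equiv.ofBijective (fun p => (⟨ηE p.1 p.2.1 p.2.2, ⟨_, _, _, rfl⟩⟩ : H1s m F))
      ⟨fun p p' h => ηE_injective (Subtype.ext_iff.1 h), fun ⟨_, x, v, t, rfl⟩ => ⟨(x, v, t), rfl⟩⟩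
  rw [← Nat.card_congr e, Nat.card_eq_fintype_card, Fintype.card_prod, Fintype.card_prod,
    Fintype.card_fun, Fintype.card_fin]
  ring

theorem card_quot : Nat.card (H1s m F) / Nat.card (Zs m F) = Fintype.card F ^ (2 * m) := by
  rw [card_H1s, card_Zs, pow_succ]
  exact Nat.mul_div_cancel _ Fintype.card_pos

/-! ### the `ψ (s ·)`-part of a class function along `Z` -/

theorem zproj_conj_of_comm (ψ : AddChar F ℂ) (s : F) {χ : Sp (m + 1) F → ℂ}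
    (hχ : IsClassFunction (Sp (m + 1) F) χ) (c : Sp (m + 1) F)
    (hc : ∀ t, c * zE t = zE t * c) (g : Sp (m + 1) F) :
    zproj ψ s χ (c * g * c⁻¹) = zproj ψ s χ g := by
  rw [zproj_apply, zproj_apply]
  congr 1
  refine Finset.sum_congr rfl fun t _ => ?_
  congr 1
  have e : zE t * (c * g * c⁻¹) = c * (zE t * g) * c⁻¹ := by
    rw [← mul_assoc, ← mul_assoc, ← hc t]
    group
  rw [e, hχ]

omit [Fintype F] in
theorem exists_partner (h2 : (2 : F) ≠ 0) (x v : Fin m → F) (h : ¬ (x = 0 ∧ v = 0)) (r : F) :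
    ∃ x' v' : Fin m → F, 2 * (x' ⬝ᵥ v) - 2 * (x ⬝ᵥ v') = r := by
  by_cases hx : x = 0
  · have hv : v ≠ 0 := fun hv => h ⟨hx, hv⟩
    obtain ⟨i, hi⟩ : ∃ i, v i ≠ 0 := by
      by_contra hne
      push Not at hne
      exact hv (funext hne)
    refine ⟨Pi.single i (r / (2 * v i)), 0, ?_⟩
    rw [single_dotProduct, dotProduct_zero, mul_zero, sub_zero]
    field_simp
  · obtain ⟨i, hi⟩ : ∃ i, x i ≠ 0 := by
      by_contra hne
      push Not at hne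
      exact hx (funext hne)
    refine ⟨0, Pi.single i (-r / (2 * x i)), ?_⟩
    rw [zero_dotProduct, mul_zero, zero_sub, dotProduct_single]
    field_simp

theorem zproj_ηE_eq_zero (h2 : (2 : F) ≠ 0) (ψ : AddChar F ℂ) (hψ : ψ ≠ 1) {χ : Sp (m + 1) F → ℂ}
    (hχ : IsClassFunction (Sp (m + 1) F) χ) (s : F) (hs0 : s ≠ 0) (x v : Fin m → F) (t : F)
    (h : ¬ (x = 0 ∧ v = 0)) : zproj ψ s χ (ηE x v t) = 0 := by
  obtain ⟨a, ha⟩ : ∃ a, ψ a ≠ 1 := by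
    by_contra hne
    push Not at hne
    exact hψ (DFunLike.ext _ _ fun a => by rw [hne a]; rfl)
  obtain ⟨x', v', hr⟩ := exists_partner h2 x v h (a / s)
  have e1 : ηE x' v' 0 * ηE x v t * (ηE x' v' 0)⁻¹ = zE (a / s) * ηE x v t := by
    rw [ηE_mul_comm x' v' x v 0 t, hr]
    group
  have e2 := zproj_conj_of_comm ψ s hχ (ηE x' v' 0) (fun r => (zE_comm_ηE r x' v' 0).symm)
    (ηE x v t)
  rw [e1, zproj_zE_mul] at e2
  have e3 : s * (a / s) = a := by field_simp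
  rw [e3] at e2
  have e4 : (ψ a - 1) * zproj ψ s χ (ηE x v t) = 0 := by
    rw [sub_mul, e2, one_mul, sub_self]
  rcases mul_eq_zero.1 e4 with h0 | h0
  · exact absurd (sub_eq_zero.1 h0) ha
  · exact h0

theorem zproj_one_eq (h2 : (2 : F) ≠ 0) (ψ : AddChar F ℂ) (hψ : ψ ≠ 1) {χ : Sp (m + 1) F → ℂ}
    (hχ : IsClassFunction (Sp (m + 1) F) χ) (hs : QSmall ψ χ) (s : F) (hs0 : s ≠ 0) :
    zproj ψ s χ 1 = (Fintype.card F : ℂ) ^ m * bpar ψ χ s := by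
  have h1 : zproj ψ s χ 1 = chis ψ s χ 1 := by
    unfold chis
    rw [map_one]
  rw [h1, degree_eq_sum_qmult h2 ψ hψ (chis ψ s χ)]
  simp_rw [qmult_chis h2 ψ hψ χ s]
  rw [Finset.sum_comm]
  have key : ∀ v : Fin m → F, ∑ M' : symAdd m F, qmult ψ χ (bsym s v M'.1) = bpar ψ χ s := by
    intro v
    have hsym : (s⁻¹ • vecMulVec v v) ∈ symAdd m F := mem_symAdd.2 (isSymm_rank_one s⁻¹ v)
    rw [Finset.sum_eq_single ⟨s⁻¹ • vecMulVec v v, hsym⟩]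
    · show qmult ψ χ (bsym s v (s⁻¹ • vecMulVec v v)) = _
      rw [bsym_cons s hs0 v, qmult_eq_bpar ψ hχ _ _ (cons_ne_zero hs0 v)]
      have hsq := bpar_sq ψ hχ s s⁻¹ (inv_ne_zero hs0)
      rw [← hsq]
      congr 1
      field_simp
    · intro M' _ hne
      by_contra hq
      obtain ⟨c, w, hcw⟩ := hs _ (bsym_isSymm s v (mem_symAdd.1 M'.2)) hq
      exact hne (Subtype.ext (bsym_rank_one_ne hs0 hcw))
    · intro h
      exact absurd (Finset.mem_univ _) h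
  simp_rw [key]
  rw [Finset.sum_const, Finset.card_univ, nsmul_eq_mul, Fintype.card_fun, Fintype.card_fin]
  push_cast
  rfl

/-! ### the character `Φ = Ξ · conj Ξ'` of `J` -/

/-- `Φ = Ξ · conj Ξ'` with `Ξ = zproj ψ s χ`, `Ξ' = zproj ψ s χ'` -/
noncomputable def Phi (ψ : AddChar F ℂ) (s : F) (χ χ' : Sp (m + 1) F → ℂ) : Sp (m + 1) F → ℂ :=
  fun g => zproj ψ s χ g * conj (zproj ψ s χ' g)

theorem isCharacter_Phi (ψ : AddChar F ℂ) (s : F) {χ χ' : Sp (m + 1) F → ℂ}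
    (hχ : IsCharacter (Sp (m + 1) F) χ) (hχ' : IsCharacter (Sp (m + 1) F) χ') :
    IsCharacter (Js m F) (fun j : Js m F => Phi ψ s χ χ' (j : Sp (m + 1) F)) := by
  have : Fintype (Js m F) := Fintype.ofFinite _
  have hc : ∀ c ∈ Js m F, ∀ t, c * zE t = zE t * c :=
    fun c hc t => (Zs_central _ ⟨t, rfl⟩ c hc).symm
  have h1 := isCharacter_zproj_centralizer ψ s hχ (Js m F) hc
  have h2 := isCharacter_zproj_centralizer ψ s hχ' (Js m F) hc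
  have h3 := Cfsg.Agent.Lib.Helper1.isCharacter_inv_comp h2
  have h4 : (fun j : Js m F => zproj ψ s χ' ((j⁻¹ : Js m F) : Sp (m + 1) F)) =
      fun j : Js m F => conj (zproj ψ s χ' (j : Sp (m + 1) F)) := by
    funext j
    exact Cfsg.Agent.Lib.Helper4.isCharacter_inv h2 j
  rw [h4] at h3
  exact Cfsg.Agent.Lib.Lead.isCharacter_mul_pointwise h1 h3

theorem Phi_zE_mul (ψ : AddChar F ℂ) (s : F) (χ χ' : Sp (m + 1) F → ℂ) (t : F)
    (g : Sp (m + 1) F) : Phi ψ s χ χ' (zE t * g) = Phi ψ s χ χ' g := by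
  unfold Phi
  rw [zproj_zE_mul, zproj_zE_mul, (starRingEnd ℂ).map_mul]
  have := conj_psi_mul_psi ψ (s * t)
  calc ψ (s * t) * zproj ψ s χ g * (conj (ψ (s * t)) * conj (zproj ψ s χ' g))
      = (conj (ψ (s * t)) * ψ (s * t)) * (zproj ψ s χ g * conj (zproj ψ s χ' g)) := by ring
    _ = _ := by rw [this, one_mul]

theorem Phi_H1s (h2 : (2 : F) ≠ 0) (ψ : AddChar F ℂ) (hψ : ψ ≠ 1) {χ : Sp (m + 1) F → ℂ}
    (hχ : IsClassFunction (Sp (m + 1) F) χ) (χ' : Sp (m + 1) F → ℂ) (s : F) (hs0 : s ≠ 0) :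
    ∀ n ∈ H1s m F, n ∉ Zs m F → Phi ψ s χ χ' n = 0 := by
  rintro _ ⟨x, v, t, rfl⟩ hn
  have hxv : ¬ (x = 0 ∧ v = 0) := by
    rintro ⟨rfl, rfl⟩
    exact hn ⟨t, (ηE_zero_zero t).symm⟩
  unfold Phi
  rw [zproj_ηE_eq_zero h2 ψ hψ hχ s hs0 x v t hxv, zero_mul]

noncomputable instance rangeFintype : Fintype (ιG (m := m) (F := F)).range := Fintype.ofFinite _

noncomputable instance jsFintype : Fintype (Js m F) := Fintype.ofFinite _

theorem fixdim_range (Φ : Sp (m + 1) F → ℂ) :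
    fixdim (ιG (m := m) (F := F)).range Φ =
      (Nat.card (Sp m F) : ℂ)⁻¹ * ∑ g : Sp m F, Φ (ιG g) := by
  rw [fixdim_eq_of_param _ (fun g : Sp m F => (ιG g : Sp (m + 1) F)) ιG_injective
    (fun g => Iff.rfl) Φ, Nat.card_eq_fintype_card]

theorem fixdim_Js (Φ : Sp (m + 1) F → ℂ)
    (hΦ : ∀ (t : F) (g : Sp (m + 1) F), g ∈ Js m F → Φ (zE t * g) = Φ g) :
    fixdim (Js m F) Φ =
      ((Fintype.card F : ℂ) ^ (2 * m) * (Nat.card (Sp m F) : ℂ))⁻¹ *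
        ∑ x : Fin m → F, ∑ v : Fin m → F, ∑ g : Sp m F, Φ (ηE x v 0 * ιG g) := by
  rw [fixdim_eq_of_param _ jpar jpar_injective mem_Js_iff_jpar Φ]
  rw [Fintype.sum_prod_type]
  simp_rw [Fintype.sum_prod_type]
  have h1 : ∀ (x v : Fin m → F) (t : F) (g : Sp m F),
      Φ (jpar (x, v, t, g)) = Φ (ηE x v 0 * ιG g) := by
    intro x v t g
    show Φ (ηE x v t * ιG g) = _
    have e : ηE x v t = zE t * ηE x v 0 := by rw [zE_mul_ηE, add_zero]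
    rw [e, mul_assoc, hΦ t _ ⟨x, v, 0, g, rfl⟩]
  simp_rw [h1]
  simp_rw [Finset.sum_const, Finset.card_univ, nsmul_eq_mul]
  simp_rw [← Finset.mul_sum]
  rw [Fintype.card_prod, Fintype.card_prod, Fintype.card_prod, Fintype.card_fun, Fintype.card_fin,
    Nat.card_eq_fintype_card]
  have hq : (Fintype.card F : ℂ) ≠ 0 := Nat.cast_ne_zero.2 Fintype.card_ne_zero
  have hS : (Fintype.card (Sp m F) : ℂ) ≠ 0 := Nat.cast_ne_zero.2 Fintype.card_ne_zero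
  push_cast
  field_simp
  ring

/-- **PB5**: the `Z`-parts of two small characters, compared on `Sp m` and on `J = H₁ ⋊ Sp m`. -/
theorem chis_inner_le (h2 : (2 : F) ≠ 0) (ψ : AddChar F ℂ) (hψ : ψ ≠ 1)
    {χ χ' : Sp (m + 1) F → ℂ} (hχ : IsCharacter (Sp (m + 1) F) χ)
    (hχ' : IsCharacter (Sp (m + 1) F) χ') (hs : QSmall ψ χ) (hs' : QSmall ψ χ')
    (s : F) (hs0 : s ≠ 0) (b b' : ℕ) (hb : bpar ψ χ s = b) (hb' : bpar ψ χ' s = b') :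
    (classInner (chis ψ s χ) (chis ψ s χ')).re ≤
      (((Fintype.card F : ℂ) ^ (2 * m) * (Nat.card (Sp m F) : ℂ))⁻¹ *
        ∑ x : Fin m → F, ∑ v : Fin m → F, ∑ g : Sp m F,
          zproj ψ s χ (ηE x v 0 * ιG g) * conj (zproj ψ s χ' (ηE x v 0 * ιG g))).re +
        ((b * b' : ℕ) : ℝ) := by
  have hcf : IsClassFunction (Sp (m + 1) F) χ :=
    Cfsg.Agent.Lib.Helper4.isClassFunction_of_isCharacter hχ
  have hcf' : IsClassFunction (Sp (m + 1) F) χ' :=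
    Cfsg.Agent.Lib.Helper4.isClassFunction_of_isCharacter hχ'
  have h1 : Phi ψ s χ χ' 1 = ((b * b' : ℕ) : ℂ) *
      ((Nat.card (H1s m F) / Nat.card (Zs m F) : ℕ) : ℂ) := by
    unfold Phi
    rw [zproj_one_eq h2 ψ hψ hcf hs s hs0, zproj_one_eq h2 ψ hψ hcf' hs' s hs0, hb, hb', card_quot]
    rw [map_mul, map_pow, Complex.conj_natCast, Complex.conj_natCast]
    push_cast
    ring
  have key := fixdim_complement_le (Js m F) (H1s m F) (Zs m F) (ιG (m := m) (F := F)).range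
    H1s_le_Js range_le_Js Zs_le_H1s Js_norm Zs_central Js_factor H1s_comm H1s_trans
    (Φ := Phi ψ s χ χ') (isCharacter_Phi ψ s hχ hχ')
    (by
      rintro _ ⟨t, rfl⟩ j _
      exact Phi_zE_mul ψ s χ χ' t j)
    (Phi_H1s h2 ψ hψ hcf χ' s hs0) (b * b') h1
  rw [fixdim_range, fixdim_Js _ (fun t g _ => Phi_zE_mul ψ s χ χ' t g)] at key
  have e1 : classInner (chis ψ s χ) (chis ψ s χ') =
      (Nat.card (Sp m F) : ℂ)⁻¹ * ∑ g : Sp m F, Phi ψ s χ χ' (ιG g) := rfl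
  rw [e1]
  exact key

end PkPB5

end Cfsg.Agent.Lib.Helper2.WG
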