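import Mathlib
import Cfsg.Agent.Lib.Helper2.WG.Defs4
import Cfsg.Agent.Lib.Helper2.WG.PBZ
import Cfsg.Agent.Lib.Helper8.WG_PB5

set_option autoImplicit false

/-!
S2524, packages PB-H and PB-J with the exact statements of `notes/S2524_PB_packages.lean.txt`
(the proofs are in `Cfsg.Agent.Lib.Helper8.WG_PB5`, namespace `PkPB5`).
-/

namespace Cfsg.Agent.Lib.Helper2.WG

open Matrix Cfsg Cfsg.Agent.H9SpF Cfsg.Agent.Lib.Helper6.Siegel Cfsg.Agent.Lib.Helper1.SUMin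
open scoped ComplexConjugate

universe u

variable {F : Type u} [Field F] [Fintype F] [DecidableEq F] {m : ℕ}

/-! ## PB-H -/

theorem zproj_ηE_vanish (h2 : (2 : F) ≠ 0) (ψ : AddChar F ℂ) (hψ : ψ ≠ 1) {χ : Sp (m + 1) F → ℂ}
    (hχ : IsClassFunction (Sp (m + 1) F) χ) (s : F) (hs0 : s ≠ 0) (x v : Fin m → F)
    (hxv : ¬ (x = 0 ∧ v = 0)) (t : F) : zproj ψ s χ (ηE x v t) = 0 :=
  PkPB5.zproj_ηE_eq_zero h2 ψ hψ hχ s hs0 x v t hxv

theorem zproj_one_eq (h2 : (2 : F) ≠ 0) (ψ : AddChar F ℂ) (hψ : ψ ≠ 1) {χ : Sp (m + 1) F → ℂ}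
    (hχ : IsClassFunction (Sp (m + 1) F) χ) (hs : QSmall ψ χ) (s : F) (hs0 : s ≠ 0) :
    zproj ψ s χ 1 = (Fintype.card F : ℂ) ^ m * bpar ψ χ s :=
  PkPB5.zproj_one_eq h2 ψ hψ hχ hs s hs0

/-! ## PB-J -/

theorem chis_inner_le (h2 : (2 : F) ≠ 0) (ψ : AddChar F ℂ) (hψ : ψ ≠ 1) (hm : 1 ≤ m)
    {χ χ' : Sp (m + 1) F → ℂ} (hχ : IsCharacter (Sp (m + 1) F) χ)
    (hχ' : IsCharacter (Sp (m + 1) F) χ') (s : F) (hs0 : s ≠ 0) (b c : ℕ)
    (hb : zproj ψ s χ 1 = (Fintype.card F : ℂ) ^ m * b)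
    (hc : zproj ψ s χ' 1 = (Fintype.card F : ℂ) ^ m * c) :
    (classInner (chis ψ s χ) (chis ψ s χ')).re ≤
      (((Fintype.card F : ℂ) ^ (2 * m) * (Nat.card (Sp m F) : ℂ))⁻¹ *
        ∑ x : Fin m → F, ∑ v : Fin m → F, ∑ g : Sp m F, Dz ψ s χ χ' (ηE x v 0 * ιG g)).re +
        ((b * c : ℕ) : ℝ) := by
  have hcf : IsClassFunction (Sp (m + 1) F) χ :=
    Cfsg.Agent.Lib.Helper4.isClassFunction_of_isCharacter hχ
  have h1 : PkPB5.Phi ψ s χ χ' 1 = ((b * c : ℕ) : ℂ) *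
      ((Nat.card (PkPB5.H1s m F) / Nat.card (PkPB5.Zs m F) : ℕ) : ℂ) := by
    unfold PkPB5.Phi
    rw [hb, hc, PkPB5.card_quot]
    rw [map_mul, map_pow, Complex.conj_natCast, Complex.conj_natCast]
    push_cast
    ring
  have key := fixdim_complement_le (PkPB5.Js m F) (PkPB5.H1s m F) (PkPB5.Zs m F)
    (ιG (m := m) (F := F)).range
    PkPB5.H1s_le_Js PkPB5.range_le_Js PkPB5.Zs_le_H1s PkPB5.Js_norm PkPB5.Zs_central
    PkPB5.Js_factor PkPB5.H1s_comm PkPB5.H1s_trans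
    (Φ := PkPB5.Phi ψ s χ χ') (PkPB5.isCharacter_Phi ψ s hχ hχ')
    (by
      rintro _ ⟨t, rfl⟩ j _
      exact PkPB5.Phi_zE_mul ψ s χ χ' t j)
    (PkPB5.Phi_H1s h2 ψ hψ hcf χ' s hs0) (b * c) h1
  rw [PkPB5.fixdim_range, PkPB5.fixdim_Js _ (fun t g _ => PkPB5.Phi_zE_mul ψ s χ χ' t g)] at key
  exact key

/-- the form of `chis_inner_le` with the parameters `bpar` of two small characters -/
theorem chis_inner_le_bpar (hodd : Odd (Fintype.card F)) (ψ : AddChar F ℂ) (hψ : ψ ≠ 1)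
    (hm : 1 ≤ m) {χ χ' : Sp (m + 1) F → ℂ} (hχ : IsCharacter (Sp (m + 1) F) χ)
    (hχ' : IsCharacter (Sp (m + 1) F) χ') (hs : QSmall ψ χ) (hs' : QSmall ψ χ') (s : F)
    (hs0 : s ≠ 0) (b c : ℕ) (hb : bpar ψ χ s = b) (hc : bpar ψ χ' s = c) :
    (classInner (chis ψ s χ) (chis ψ s χ')).re ≤
      (((Fintype.card F : ℂ) ^ (2 * m) * (Nat.card (Sp m F) : ℂ))⁻¹ *
        ∑ x : Fin m → F, ∑ v : Fin m → F, ∑ g : Sp m F, Dz ψ s χ χ' (ηE x v 0 * ιG g)).re +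
        ((b * c : ℕ) : ℝ) := by
  have h2 : (2 : F) ≠ 0 := by
    intro h
    have h3 : ringChar F ∣ 2 := (ringChar.spec F 2).1 (by exact_mod_cast h)
    have h4 : ringChar F ∣ Fintype.card F := by
      obtain ⟨n, hp, hn⟩ := FiniteField.card F (ringChar F)
      rw [hn]
      exact dvd_pow_self _ n.ne_zero
    have hp : (ringChar F).Prime := CharP.char_is_prime F (ringChar F)
    have h5 : ringChar F = 2 := (Nat.prime_dvd_prime_iff_eq hp Nat.prime_two).1 h3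
    rw [h5] at h4
    exact (Nat.not_even_iff_odd.2 hodd) (even_iff_two_dvd.2 h4)
  refine chis_inner_le h2 ψ hψ hm hχ hχ' s hs0 b c ?_ ?_
  · rw [← hb]
    exact zproj_one_eq h2 ψ hψ (Cfsg.Agent.Lib.Helper4.isClassFunction_of_isCharacter hχ) hs s hs0
  · rw [← hc]
    exact zproj_one_eq h2 ψ hψ (Cfsg.Agent.Lib.Helper4.isClassFunction_of_isCharacter hχ') hs' s hs0

end Cfsg.Agent.Lib.Helper2.WG
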