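import Mathlib
import Cfsg.Agent.Lib.Helper2.WG.Defs4
import Cfsg.Agent.Lib.Helper2.WG.PBZ
import Cfsg.Agent.Lib.Helper9.WG_R1
import Cfsg.Agent.Lib.Helper7.WG_R3
import Cfsg.Agent.Lib.Helper1.WG_F2

set_option autoImplicit false

/-!
S2524, package PB-T: the `Z`-parts on `J · T₁` (`T₁ = {hT u}` the torus of the first hyperbolic
plane).
-/

namespace Cfsg.Agent.Lib.Helper2.WG

open Matrix Cfsg Cfsg.Agent.H9SpF Cfsg.Agent.Lib.Helper6.Siegel Cfsg.Agent.Lib.Helper1.SUMin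
open scoped ComplexConjugate

universe u

variable {F : Type u} [Field F] [Fintype F] [DecidableEq F] {m : ℕ}

namespace PkPBT

open PkF2

omit [DecidableEq F] in
theorem hT_mul_zE (u : Fˣ) (r : F) :
    (hT u : Sp (m + 1) F) * zE r = zE ((u : F) ^ 2 * r) * hT u := by
  have h := hT_conj_qE (m := m) u r 0 0
  rw [smul_zero] at h
  have h' : (zE ((u : F) ^ 2 * r) : Sp (m + 1) F) = hT u * zE r * (hT u)⁻¹ := h.symm
  rw [h']
  group

omit [DecidableEq F] in
theorem zE_conj_prod (r : F) (x v : Fin m → F) (t : F) (u : Fˣ) (g : Sp m F) :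
    zE r * (ηE x v t * hT u * ιG g) * (zE r)⁻¹ =
      zE ((1 - (u : F) ^ 2) * r) * (ηE x v t * hT u * ιG g) := by
  have hinv : (zE r : Sp (m + 1) F)⁻¹ = zE (-r) := by
    rw [inv_eq_iff_mul_eq_one, ← zE_add, add_neg_cancel, zE_zero]
  rw [hinv]
  have e1 : ηE x v t * hT u * ιG g * zE (-r) =
      zE ((u : F) ^ 2 * (-r)) * (ηE x v t * hT u * ιG g) := by
    rw [mul_assoc (ηE x v t * hT u), ιG_comm_zE, ← mul_assoc, mul_assoc (ηE x v t), hT_mul_zE,
      ← mul_assoc, ← zE_comm_ηE]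
    simp only [mul_assoc]
  rw [mul_assoc, e1, ← mul_assoc, ← zE_add]
  congr 2
  ring

omit [DecidableEq F] in
theorem zproj_negS (ψ : AddChar F ℂ) {χ : Sp (m + 1) F → ℂ} {εχ : ℂ}
    (hχn : ∀ g, χ (negS g) = εχ * χ g) (s : F) (y : Sp (m + 1) F) :
    zproj ψ s χ (negS y) = εχ * zproj ψ s χ y := by
  have e : ∀ t : F, χ (zE t * negS y) = εχ * χ (zE t * y) := by
    intro t
    have e' : zE t * negS y = negS (zE t * y) := by
      rw [negS_eq_mul y, negS_eq_mul (zE t * y), ← mul_assoc, ← negS_one_comm, mul_assoc]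
    rw [e', hχn]
  rw [zproj_apply ψ s χ (negS y), zproj_apply ψ s χ y]
  simp_rw [e]
  rw [Finset.mul_sum, Finset.mul_sum, Finset.mul_sum]
  refine Finset.sum_congr rfl fun t _ => ?_
  ring

omit [DecidableEq F] in
theorem hT_neg_one_mul_ιG (g : Sp m F) :
    (hT (-1) : Sp (m + 1) F) * ιG g = negS 1 * ιG (negS g) := by
  have h1 : (negS 1 : Sp (m + 1) F) * ιG (negS g) = ιK ((negS 1, negS 1) * (1, negS g)) := by
    rw [map_mul, ← negS_one_eq_ιK, ιG_apply]
  rw [h1, hT_neg_one, ιG_apply, ← map_mul]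
  congr 1
  refine Prod.ext ?_ ?_
  · show negS 1 * 1 = negS 1 * 1
    rfl
  · show 1 * g = negS 1 * negS g
    rw [negS_eq_mul g, ← mul_assoc, negS_one_mul_self]

omit [DecidableEq F] in
theorem negS_negS {n : ℕ} (g : Sp n F) : negS (negS g) = g := by
  rw [negS_eq_mul (negS g), negS_eq_mul g, ← mul_assoc, negS_one_mul_self, one_mul]

end PkPBT

open PkPBT PkF2

theorem zproj_hT_vanish (ψ : AddChar F ℂ) (hψ : ψ ≠ 1) {χ : Sp (m + 1) F → ℂ}
    (hχ : IsClassFunction (Sp (m + 1) F) χ) (s : F) (hs0 : s ≠ 0) (u : Fˣ) (hu : (u : F) ^ 2 ≠ 1)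
    (x v : Fin m → F) (t : F) (g : Sp m F) : zproj ψ s χ (ηE x v t * hT u * ιG g) = 0 := by
  obtain ⟨a, ha⟩ : ∃ a, ψ a ≠ 1 := by
    by_contra hne
    push Not at hne
    exact hψ (DFunLike.ext _ _ fun a => by rw [hne a]; rfl)
  have hu' : (1 - (u : F) ^ 2) ≠ 0 := fun h => hu (sub_eq_zero.1 h).symm
  set p := ηE x v t * hT u * ιG g with hp
  set r : F := a / (s * (1 - (u : F) ^ 2)) with hr
  have e2 := zproj_conj_of_comm ψ s hχ (zE r) (fun t' => by rw [← zE_add, ← zE_add, add_comm r t']) p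
  rw [hp, zE_conj_prod, ← hp, zproj_zE_mul] at e2
  have e3 : s * ((1 - (u : F) ^ 2) * r) = a := by
    rw [hr]
    field_simp
  rw [e3] at e2
  have e4 : (ψ a - 1) * zproj ψ s χ p = 0 := by
    rw [sub_mul, e2, one_mul, sub_self]
  rcases mul_eq_zero.1 e4 with h0 | h0
  · exact absurd (sub_eq_zero.1 h0) ha
  · exact h0

theorem zproj_hT_neg_one (ψ : AddChar F ℂ) {χ : Sp (m + 1) F → ℂ} {εχ : ℂ}
    (hχn : ∀ g, χ (negS g) = εχ * χ g) (s : F) (x v : Fin m → F) (t : F) (g : Sp m F) :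
    zproj ψ s χ (ηE x v t * hT (-1) * ιG g) = εχ * zproj ψ s χ (ηE x v t * ιG (negS g)) := by
  have e : ηE x v t * hT (-1) * ιG g = negS (ηE x v t * ιG (negS g)) := by
    rw [mul_assoc, hT_neg_one_mul_ιG, negS_eq_mul (ηE x v t * ιG (negS g)), ← mul_assoc,
      ← negS_one_comm, mul_assoc]
  rw [e, zproj_negS ψ hχn]

theorem sum_units_Dz (hodd : Odd (Fintype.card F)) (ψ : AddChar F ℂ) (hψ : ψ ≠ 1)
    {χ χ' : Sp (m + 1) F → ℂ} (hχ : IsClassFunction (Sp (m + 1) F) χ)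
    (hχ' : IsClassFunction (Sp (m + 1) F) χ') {εχ εχ' : ℂ} (hε : εχ = 1 ∨ εχ = -1)
    (hε' : εχ' = 1 ∨ εχ' = -1) (hχn : ∀ g, χ (negS g) = εχ * χ g)
    (hχn' : ∀ g, χ' (negS g) = εχ' * χ' g) (s : F) (hs0 : s ≠ 0) (x v : Fin m → F) (t : F) :
    ∑ u : Fˣ, ∑ g : Sp m F, Dz ψ s χ χ' (ηE x v t * hT u * ιG g) =
      (1 + εχ * εχ') * ∑ g : Sp m F, Dz ψ s χ χ' (ηE x v t * ιG g) := by
  have h2 : (2 : F) ≠ 0 := by
    intro h
    have h3 : ringChar F ∣ 2 := (ringChar.spec F 2).1 (by exact_mod_cast h)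
    have h4 : ringChar F ∣ Fintype.card F := by
      obtain ⟨n, hp, hn⟩ := FiniteField.card F (ringChar F)
      rw [hn]
      exact dvd_pow_self _ n.ne_zero
    have hp : (ringChar F).Prime := CharP.char_is_prime F (ringChar F)
    have h5 : ringChar F = 2 := (Nat.prime_dvd_prime_iff_eq hp Nat.prime_two).1 h3
    rw [h5] at h4
    exact (Nat.not_even_iff_odd.2 hodd) (even_iff_two_dvd.2 h4)
  have hne : (1 : Fˣ) ≠ -1 := by
    intro h
    have h' : ((1 : Fˣ) : F) = ((-1 : Fˣ) : F) := congrArg _ h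
    rw [Units.val_one, Units.val_neg, Units.val_one] at h'
    apply h2
    linear_combination h'
  -- the terms with `u ≠ ±1` vanish
  have hvan : ∀ u : Fˣ, u ≠ 1 → u ≠ -1 →
      ∑ g : Sp m F, Dz ψ s χ χ' (ηE x v t * hT u * ιG g) = 0 := by
    intro u h1 h1'
    have hu : (u : F) ^ 2 ≠ 1 := by
      intro hsq
      have : ((u : F) - 1) * ((u : F) + 1) = 0 := by linear_combination hsq
      rcases mul_eq_zero.1 this with h0 | h0
      · apply h1
        apply Units.ext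
        rw [Units.val_one]
        linear_combination h0
      · apply h1'
        apply Units.ext
        rw [Units.val_neg, Units.val_one]
        linear_combination h0
    refine Finset.sum_eq_zero fun g _ => ?_
    rw [Dz_apply, zproj_hT_vanish ψ hψ hχ s hs0 u hu, zero_mul]
  have hconj : conj εχ' = εχ' := by
    rcases hε' with h | h <;> rw [h] <;> simp
  -- the term `u = -1`
  have hneg : ∑ g : Sp m F, Dz ψ s χ χ' (ηE x v t * hT (-1) * ιG g) =
      εχ * εχ' * ∑ g : Sp m F, Dz ψ s χ χ' (ηE x v t * ιG g) := by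
    have e1 : ∀ g : Sp m F, Dz ψ s χ χ' (ηE x v t * hT (-1) * ιG g) =
        εχ * εχ' * Dz ψ s χ χ' (ηE x v t * ιG (negS g)) := by
      intro g
      rw [Dz_apply, Dz_apply, zproj_hT_neg_one ψ hχn, zproj_hT_neg_one ψ hχn',
        (starRingEnd ℂ).map_mul, hconj]
      ring
    rw [Finset.sum_congr rfl (fun g _ => e1 g), ← Finset.mul_sum]
    have e2 := Equiv.sum_comp (Function.Involutive.toPerm (negS (n := m) (F := F)) negS_negS)
      (fun g => Dz ψ s χ χ' (ηE x v t * ιG g))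
    rw [← e2]
    rfl
  have hone : ∑ g : Sp m F, Dz ψ s χ χ' (ηE x v t * hT 1 * ιG g) =
      ∑ g : Sp m F, Dz ψ s χ χ' (ηE x v t * ιG g) := by
    refine Finset.sum_congr rfl fun g _ => ?_
    rw [hT_one, mul_one]
  rw [← Finset.sum_subset (Finset.subset_univ ({1, -1} : Finset Fˣ))]
  · rw [Finset.sum_pair hne, hone, hneg]
    ring
  · intro u _ hu
    rw [Finset.mem_insert, Finset.mem_singleton, not_or] at hu
    exact hvan u hu.1 hu.2

end Cfsg.Agent.Lib.Helper2.WG
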