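import Mathlib
import Cfsg.Agent.Lib.Helper2.WG.Defs3
import Cfsg.Agent.Lib.Helper4.Characters
import Cfsg.Agent.S0188

set_option autoImplicit false

namespace Cfsg.Agent.Lib.Helper2.WG

open Matrix Cfsg Cfsg.Agent.H9SpF Cfsg.Agent.Lib.Helper6.Siegel Cfsg.Agent.Lib.Helper1.SUMin
open scoped ComplexConjugate

universe u

variable {F : Type u} [Field F] [Fintype F]

namespace PkKA

open Cfsg.Agent.Lib.Helper4

variable {n : ℕ}

theorem weil_E_ne_O {ψ : AddChar F ℂ} {c : F} {E O : Sp n F → ℂ} {ε : ℂ}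
    (w : IsWeilPair ψ c E O ε) : E ≠ O := by
  intro h
  have h1 := w.qE_one 0
  rw [vecMulVec_zero, smul_zero, h, w.qO_origin] at h1
  exact zero_ne_one h1

/-- Weil characters of different square classes are different (`n ≥ 1`) -/
theorem weil_ne_of_class {ψ : AddChar F ℂ} {ν : F} (hν : ¬ IsSquare ν) (hn : 1 ≤ n)
    {A B : Sp n F → ℂ}
    (hA : ∀ w : Fin n → F, w ≠ 0 → qmult ψ A ((1 : F) • vecMulVec w w) = 1)
    (hB : ∀ M : Matrix (Fin n) (Fin n) F, M.IsSymm →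
      (¬ ∃ w : Fin n → F, M = ν • vecMulVec w w) → qmult ψ B M = 0) : A ≠ B := by
  intro h
  obtain ⟨i₀⟩ : Nonempty (Fin n) := ⟨⟨0, by omega⟩⟩
  have hw0 : (Pi.single i₀ (1 : F) : Fin n → F) ≠ 0 := by
    intro h0
    have := congr_fun h0 i₀
    simp at this
  have h1 := hA _ hw0
  have hsymm : ((1 : F) • vecMulVec (Pi.single i₀ (1 : F)) (Pi.single i₀ (1 : F)) :
      Matrix (Fin n) (Fin n) F).IsSymm := by
    ext i j
    simp [vecMulVec_apply, mul_comm]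
  have h2 := hB _ hsymm (by
    rintro ⟨w', hw'⟩
    have h3 := congr_fun (congr_fun hw' i₀) i₀
    simp only [Matrix.smul_apply, vecMulVec_apply, Pi.single_eq_same, mul_one, smul_eq_mul] at h3
    apply hν
    have hw0' : w' i₀ ≠ 0 := by
      intro h0
      rw [h0, mul_zero, mul_zero] at h3
      exact one_ne_zero h3
    refine ⟨(w' i₀)⁻¹, ?_⟩
    field_simp
    rw [h3]
    ring)
  rw [h, h2] at h1
  exact zero_ne_one h1

variable {m : ℕ}

theorem Tfun_true (E O : Sp 1 F → ℂ) (E' O' : Sp m F → ℂ) :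
    Tfun true E O E' O' =
      (fun p : Sp 1 F × Sp m F => E p.1 * E' p.2) + (fun p => O p.1 * O' p.2) := by
  funext p
  simp [Tfun]

theorem Tfun_false (E O : Sp 1 F → ℂ) (E' O' : Sp m F → ℂ) :
    Tfun false E O E' O' =
      (fun p : Sp 1 F × Sp m F => E p.1 * O' p.2) + (fun p => O p.1 * E' p.2) := by
  funext p
  simp [Tfun]

theorem T_inner_same (E O : Sp 1 F → ℂ) (E' O' : Sp m F → ℂ)
    (hEE : classInner E E = 1) (hOO : classInner O O = 1) (hEO : classInner E O = 0)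
    (hOE : classInner O E = 0) (hEE' : classInner E' E' = 1) (hOO' : classInner O' O' = 1)
    (hEO' : classInner E' O' = 0) (hOE' : classInner O' E' = 0) (t s : Bool) :
    classInner (Tfun t E O E' O') (Tfun s E O E' O') = if t = s then 2 else 0 := by
  cases t <;> cases s <;>
    simp only [Tfun_true, Tfun_false, classInner_add_left, classInner_add_right,
      Cfsg.Agent.S0188.classInner_prod, hEE, hOO, hEO, hOE, hEE', hOO', hEO', hOE'] <;>
    norm_num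

theorem T_inner_cross (E O A B : Sp 1 F → ℂ) (E' O' A' B' : Sp m F → ℂ)
    (hEA : classInner E A = 0) (hEB : classInner E B = 0) (hOA : classInner O A = 0)
    (hOB : classInner O B = 0) (t s : Bool) :
    classInner (Tfun t E O E' O') (Tfun s A B A' B') = 0 := by
  cases t <;> cases s <;>
    simp only [Tfun_true, Tfun_false, classInner_add_left, classInner_add_right,
      Cfsg.Agent.S0188.classInner_prod, hEA, hEB, hOA, hOB] <;>
    norm_num

end PkKA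

open PkKA Cfsg.Agent.Lib.Helper4 in
/-- PK-KA : the inner product over `Sp 1 × Sp m` -/
theorem inner_K {m : ℕ} (ψ : AddChar F ℂ) (ν : F) (hν : ¬ IsSquare ν)
    {E₁ O₁ Eν Oν : Sp 1 F → ℂ} {ε₁ εν : ℂ}
    (w1 : IsWeilPair ψ 1 E₁ O₁ ε₁) (wν : IsWeilPair ψ ν Eν Oν εν)
    {E₁' O₁' Eν' Oν' : Sp m F → ℂ} {ε₁' εν' : ℂ}
    (w1' : IsWeilPair ψ 1 E₁' O₁' ε₁') (wν' : IsWeilPair ψ ν Eν' Oν' εν')
    (b₁ bν c₁ cν : ℕ) (t₁ tν s₁ sν : Bool) :
    classInner
      (fun p : Sp 1 F × Sp m F =>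
        (b₁ : ℂ) * Tfun t₁ E₁ O₁ E₁' O₁' p + (bν : ℂ) * Tfun tν Eν Oν Eν' Oν' p)
      (fun p : Sp 1 F × Sp m F =>
        (c₁ : ℂ) * Tfun s₁ E₁ O₁ E₁' O₁' p + (cν : ℂ) * Tfun sν Eν Oν Eν' Oν' p) =
      2 * (((if t₁ = s₁ then b₁ * c₁ else 0 : ℕ) : ℂ) + ((if tν = sν then bν * cν else 0 : ℕ) : ℂ)) := by
  -- orthonormality on the `Sp 1` side
  have hEO₁ := weil_E_ne_O w1
  have hEOν := weil_E_ne_O wν
  have hEO₁' := weil_E_ne_O w1'
  have hEOν' := weil_E_ne_O wν'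
  have hE1Eν : E₁ ≠ Eν := weil_ne_of_class hν le_rfl (fun w _ => w1.qE_one w) wν.qE_zero
  have hE1Oν : E₁ ≠ Oν := weil_ne_of_class hν le_rfl (fun w _ => w1.qE_one w) wν.qO_zero
  have hO1Eν : O₁ ≠ Eν := weil_ne_of_class hν le_rfl w1.qO_one wν.qE_zero
  have hO1Oν : O₁ ≠ Oν := weil_ne_of_class hν le_rfl w1.qO_one wν.qO_zero
  have e1 : (fun p : Sp 1 F × Sp m F =>
        (b₁ : ℂ) * Tfun t₁ E₁ O₁ E₁' O₁' p + (bν : ℂ) * Tfun tν Eν Oν Eν' Oν' p) =
      (b₁ : ℂ) • Tfun t₁ E₁ O₁ E₁' O₁' + (bν : ℂ) • Tfun tν Eν Oν Eν' Oν' := by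
    funext p
    simp [Pi.add_apply, Pi.smul_apply, smul_eq_mul]
  have e2 : (fun p : Sp 1 F × Sp m F =>
        (c₁ : ℂ) * Tfun s₁ E₁ O₁ E₁' O₁' p + (cν : ℂ) * Tfun sν Eν Oν Eν' Oν' p) =
      (c₁ : ℂ) • Tfun s₁ E₁ O₁ E₁' O₁' + (cν : ℂ) • Tfun sν Eν Oν Eν' Oν' := by
    funext p
    simp [Pi.add_apply, Pi.smul_apply, smul_eq_mul]
  rw [e1, e2]
  simp only [classInner_add_left, classInner_add_right, classInner_smul_left,
    classInner_smul_right, Complex.conj_natCast]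
  rw [T_inner_same E₁ O₁ E₁' O₁' (classInner_irr_self w1.irrE) (classInner_irr_self w1.irrO)
      (classInner_irr_ne w1.irrE w1.irrO hEO₁) (classInner_irr_ne w1.irrO w1.irrE hEO₁.symm)
      (classInner_irr_self w1'.irrE) (classInner_irr_self w1'.irrO)
      (classInner_irr_ne w1'.irrE w1'.irrO hEO₁') (classInner_irr_ne w1'.irrO w1'.irrE hEO₁'.symm),
    T_inner_same Eν Oν Eν' Oν' (classInner_irr_self wν.irrE) (classInner_irr_self wν.irrO)
      (classInner_irr_ne wν.irrE wν.irrO hEOν) (classInner_irr_ne wν.irrO wν.irrE hEOν.symm)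
      (classInner_irr_self wν'.irrE) (classInner_irr_self wν'.irrO)
      (classInner_irr_ne wν'.irrE wν'.irrO hEOν') (classInner_irr_ne wν'.irrO wν'.irrE hEOν'.symm),
    T_inner_cross E₁ O₁ Eν Oν E₁' O₁' Eν' Oν' (classInner_irr_ne w1.irrE wν.irrE hE1Eν)
      (classInner_irr_ne w1.irrE wν.irrO hE1Oν) (classInner_irr_ne w1.irrO wν.irrE hO1Eν)
      (classInner_irr_ne w1.irrO wν.irrO hO1Oν),
    T_inner_cross Eν Oν E₁ O₁ Eν' Oν' E₁' O₁' (classInner_irr_ne wν.irrE w1.irrE hE1Eν.symm)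
      (classInner_irr_ne wν.irrE w1.irrO hO1Eν.symm) (classInner_irr_ne wν.irrO w1.irrE hE1Oν.symm)
      (classInner_irr_ne wν.irrO w1.irrO hO1Oν.symm)]
  split_ifs <;> push_cast <;> ring

end Cfsg.Agent.Lib.Helper2.WG
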