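import Mathlib
import Cfsg.Prelude.Def_Blocks
import Cfsg.Agent.Lib.Helper8.BlockLocal

set_option autoImplicit false

namespace Cfsg.Agent.Lib.Helper8.PIdem

open Cfsg Polynomial

universe u

/-- Abstract polynomial lemma: in a local-like ring `O` (every element outside the ideal `I` is a unit),
for a finite set `S` of elements containing `0` and `1`, there is a polynomial `g`, divisible by `X`,
with `g(1) = 1` and `g^2 - g` divisible by `∏_{a ∈ S} (X - a)^d`. -/
theorem exists_poly {O : Type*} [CommRing O] (I : Ideal O) (hI : ∀ x : O, x ∉ I → IsUnit x)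
    (h1I : (1 : O) ∉ I) (S : Finset O) (d : ℕ) (hd : 1 ≤ d) (h0 : (0 : O) ∈ S) (h1 : (1 : O) ∈ S) :
    ∃ g : O[X], X ∣ g ∧ g.eval 1 = 1 ∧ (∏ a ∈ S, (X - C a) ^ d) ∣ g * g - g := by
  classical
  set Pu : O[X] := ∏ a ∈ S.filter (fun a => a ∉ I), (X - C a) ^ d with hPu
  set Pn : O[X] := ∏ a ∈ S.filter (fun a => ¬ (a ∉ I)), (X - C a) ^ d with hPn
  have hcop : IsCoprime Pu Pn := by
    refine IsCoprime.prod_left fun a ha => ?_
    refine IsCoprime.prod_right fun b hb => ?_
    refine IsCoprime.pow ?_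
    apply isCoprime_X_sub_C_of_isUnit_sub
    apply hI
    rw [Finset.mem_filter] at ha hb
    intro hab
    have hb' : b ∈ I := not_not.1 hb.2
    apply ha.2
    have : a = (a - b) + b := by ring
    rw [this]
    exact I.add_mem hab hb'
  obtain ⟨A', B', hAB⟩ := hcop
  refine ⟨B' * Pn, ?_, ?_, ?_⟩
  · have h0' : (0 : O) ∈ S.filter (fun a => ¬ (a ∉ I)) := by
      rw [Finset.mem_filter]
      exact ⟨h0, not_not.2 I.zero_mem⟩
    have hX : X ∣ Pn := by
      have := Finset.dvd_prod_of_mem (fun a => (X - C a) ^ d) h0'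
      refine dvd_trans ?_ this
      simp only [map_zero, sub_zero]
      exact dvd_pow_self X (by omega)
    exact Dvd.dvd.mul_left hX B'
  · have h1' : (1 : O) ∈ S.filter (fun a => a ∉ I) := by
      rw [Finset.mem_filter]
      exact ⟨h1, h1I⟩
    have hPu1 : Pu.eval 1 = 0 := by
      rw [hPu, eval_prod]
      apply Finset.prod_eq_zero h1'
      simp only [eval_pow, eval_sub, eval_X, eval_C, sub_self]
      exact zero_pow (by omega)
    have : (B' * Pn).eval 1 = (1 - A' * Pu).eval 1 := by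
      congr 1
      rw [← hAB]; ring
    rw [this, eval_sub, eval_one, eval_mul, hPu1, mul_zero, sub_zero]
  · have hprod : (∏ a ∈ S, (X - C a) ^ d) = Pu * Pn := by
      rw [hPu, hPn, Finset.prod_filter_mul_prod_filter_not]
    rw [hprod]
    refine ⟨-(A' * B'), ?_⟩
    have : B' * Pn = 1 - A' * Pu := by rw [← hAB]; ring
    have e1 : B' * Pn * (B' * Pn) - B' * Pn = (B' * Pn) * (B' * Pn - 1) := by ring
    rw [e1]
    nth_rewrite 2 [this]
    ring


variable {G : Type u} [Group G] [Fintype G]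

open Classical in
/-- The sum of the elements of a subgroup, in the complex group algebra. -/
noncomputable def sumH (H : Subgroup G) : MonoidAlgebra ℂ G :=
  ∑ g : G, if g ∈ H then MonoidAlgebra.single g (1 : ℂ) else 0

/-- The averaging idempotent of a subgroup. -/
noncomputable def eH (H : Subgroup G) : MonoidAlgebra ℂ G := (Nat.card H : ℂ)⁻¹ • sumH H

theorem single_mul_sumH (H : Subgroup G) {h : G} (hh : h ∈ H) :
    MonoidAlgebra.single h (1 : ℂ) * sumH H = sumH H := by
  classical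
  unfold sumH
  rw [Finset.mul_sum]
  rw [← Equiv.sum_comp (Equiv.mulLeft h) (fun g => if g ∈ H then MonoidAlgebra.single g (1 : ℂ) else 0)]
  refine Finset.sum_congr rfl fun y _ => ?_
  have : h * y ∈ H ↔ y ∈ H := Subgroup.mul_mem_cancel_left H hh
  by_cases hy : y ∈ H
  · simp [hy, this.2 hy, MonoidAlgebra.single_mul_single]
  · simp [hy, this]

theorem sumH_mul_sumH_of_le {H K : Subgroup G} (hHK : H ≤ K) :
    sumH H * sumH K = (Nat.card H : ℂ) • sumH K := by
  classical
  have h1 : sumH H * sumH K = ∑ g : G, (if g ∈ H then MonoidAlgebra.single g (1 : ℂ) else 0) * sumH K := by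
    conv_lhs => rw [sumH, Finset.sum_mul]
  rw [h1]
  have : ∀ g ∈ (Finset.univ : Finset G),
      (if g ∈ H then MonoidAlgebra.single g (1 : ℂ) else 0) * sumH K
        = if g ∈ H then sumH K else 0 := by
    intro g _
    by_cases hg : g ∈ H
    · rw [if_pos hg, if_pos hg, single_mul_sumH K (hHK hg)]
    · rw [if_neg hg, if_neg hg, zero_mul]
  rw [Finset.sum_congr rfl this]
  rw [← Finset.sum_filter, Finset.sum_const]
  have hc : (Finset.univ.filter fun g : G => g ∈ H).card = Nat.card H := by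
    rw [Nat.card_eq_fintype_card, Fintype.card_subtype]
  rw [hc, ← Nat.cast_smul_eq_nsmul ℂ]

theorem sumH_mul_sumH (H : Subgroup G) : sumH H * sumH H = (Nat.card H : ℂ) • sumH H :=
  sumH_mul_sumH_of_le le_rfl

theorem eH_mul_sumH_top (H : Subgroup G) : eH H * sumH (⊤ : Subgroup G) = sumH ⊤ := by
  unfold eH
  rw [smul_mul_assoc, sumH_mul_sumH_of_le le_top, smul_smul]
  have : (Nat.card H : ℂ) ≠ 0 := Nat.cast_ne_zero.2 Nat.card_pos.ne'
  rw [inv_mul_cancel₀ this, one_smul]

theorem sumH_top_ne_zero : sumH (⊤ : Subgroup G) ≠ 0 := by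
  classical
  intro h
  have h1 := congrArg (fun x => x.coeff 1) h
  simp only [sumH, Subgroup.mem_top, if_true, MonoidAlgebra.coeff_sum, MonoidAlgebra.coeff_single,
    Finsupp.coe_finsetSum, Finset.sum_apply, Finsupp.single_apply, Finset.sum_ite_eq',
    Finset.mem_univ, MonoidAlgebra.coeff_zero, Finsupp.coe_zero, Pi.zero_apply] at h1
  exact one_ne_zero h1

theorem eH_mul_eH (H : Subgroup G) : eH H * eH H = eH H := by
  unfold eH
  rw [smul_mul_smul_comm, sumH_mul_sumH, smul_smul]
  congr 1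
  have : (Nat.card H : ℂ) ≠ 0 := Nat.cast_ne_zero.2 Nat.card_pos.ne'
  field_simp


section Loc

variable {M : Ideal AlgInt}

/-- An element of the complex group algebra all of whose coefficients are local integers at `M`. -/
def IsLoc (M : Ideal AlgInt) (x : MonoidAlgebra ℂ G) : Prop := ∀ w, MemLocalRing M (x.coeff w)

set_option linter.unusedSectionVars false

theorem isLoc_zero (hM : M.IsPrime) : IsLoc M (0 : MonoidAlgebra ℂ G) := by
  intro w
  simpa using memLocalRing_zero hM.ne_top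

theorem isLoc_single (hM : M.IsPrime) (g : G) {r : ℂ} (hr : MemLocalRing M r) :
    IsLoc M (MonoidAlgebra.single g r) := by
  classical
  intro w
  rw [MonoidAlgebra.coeff_single, Finsupp.single_apply]
  split_ifs
  · exact hr
  · exact memLocalRing_zero hM.ne_top

theorem isLoc_add (hM : M.IsPrime) {x y : MonoidAlgebra ℂ G} (hx : IsLoc M x) (hy : IsLoc M y) :
    IsLoc M (x + y) := by
  intro w
  rw [MonoidAlgebra.coeff_add, Finsupp.add_apply]
  exact memLocalRing_add hM (hx w) (hy w)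

theorem isLoc_sum (hM : M.IsPrime) {ι : Type*} (s : Finset ι) (f : ι → MonoidAlgebra ℂ G)
    (h : ∀ i ∈ s, IsLoc M (f i)) : IsLoc M (∑ i ∈ s, f i) := by
  classical
  induction s using Finset.induction_on with
  | empty => simpa using isLoc_zero hM
  | insert a s ha ih =>
    rw [Finset.sum_insert ha]
    exact isLoc_add hM (h a (Finset.mem_insert_self a s))
      (ih fun i hi => h i (Finset.mem_insert_of_mem hi))

theorem isLoc_smul (hM : M.IsPrime) {x : MonoidAlgebra ℂ G} {c : ℂ} (hc : MemLocalRing M c)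
    (hx : IsLoc M x) : IsLoc M (c • x) := by
  intro w
  rw [MonoidAlgebra.coeff_smul_apply, smul_eq_mul]
  exact memLocalRing_mul hM hc (hx w)

theorem isLoc_mul (hM : M.IsPrime) {x y : MonoidAlgebra ℂ G} (hx : IsLoc M x) (hy : IsLoc M y) :
    IsLoc M (x * y) := by
  intro w
  rw [MonoidAlgebra.coeff_mul_apply_left, Finsupp.sum]
  exact memLocalRing_sum hM _ _ fun h _ => memLocalRing_mul hM (hx h) (hy _)

theorem isLoc_one (hM : M.IsPrime) : IsLoc M (1 : MonoidAlgebra ℂ G) := by
  rw [MonoidAlgebra.one_def]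
  exact isLoc_single hM 1 (memLocalRing_one hM.ne_top)

theorem isLoc_pow (hM : M.IsPrime) {x : MonoidAlgebra ℂ G} (hx : IsLoc M x) (n : ℕ) :
    IsLoc M (x ^ n) := by
  induction n with
  | zero => rw [pow_zero]; exact isLoc_one hM
  | succ n ih => rw [pow_succ]; exact isLoc_mul hM ih hx

end Loc


section Eigen

set_option linter.unusedSectionVars false

theorem isIntegral_of_mem_range (x : MonoidAlgebra ℂ G)
    (hx : x ∈ (MonoidAlgebra.mapRingHom G (Int.castRingHom ℂ)).range) : IsIntegral ℤ x := by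
  obtain ⟨x', rfl⟩ := hx
  have h : IsIntegral ℤ x' := IsIntegral.of_finite ℤ x'
  exact IsIntegral.map (MonoidAlgebra.mapRingHom G (Int.castRingHom ℂ)).toIntAlgHom h

theorem eigen_integral (s : MonoidAlgebra ℂ G) (hs : IsIntegral ℤ s) (μ : ℂ)
    (hμ : Module.End.HasEigenvalue (LinearMap.mulLeft ℂ s) μ) : IsIntegral ℤ μ := by
  obtain ⟨P, hP, hPs⟩ := hs
  obtain ⟨x, hx⟩ := hμ.exists_hasEigenvector
  refine ⟨P, hP, ?_⟩
  have h1 := Module.End.aeval_apply_of_hasEigenvector (p := P.map (algebraMap ℤ ℂ)) hx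
  have h2 : aeval (LinearMap.mulLeft ℂ s) (P.map (algebraMap ℤ ℂ))
      = LinearMap.mulLeft ℂ (aeval s (P.map (algebraMap ℤ ℂ))) := by
    have := Polynomial.aeval_algHom_apply (Algebra.lmul ℂ (MonoidAlgebra ℂ G)) s (P.map (algebraMap ℤ ℂ))
    exact this
  have h3 : aeval s (P.map (algebraMap ℤ ℂ)) = 0 := by
    rw [Polynomial.aeval_map_algebraMap]
    exact hPs
  rw [h2, h3] at h1
  simp only [LinearMap.mulLeft_zero_eq_zero, LinearMap.zero_apply] at h1
  have hx0 : x ≠ 0 := hx.2
  have h4 : eval μ (P.map (algebraMap ℤ ℂ)) = 0 := by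
    by_contra hne
    exact hx0 ((smul_eq_zero.1 h1.symm).resolve_left hne)
  rw [eval_map] at h4
  exact h4

theorem sumH_mem_range (H : Subgroup G) :
    sumH H ∈ (MonoidAlgebra.mapRingHom G (Int.castRingHom ℂ)).range := by
  classical
  unfold sumH
  refine Subring.sum_mem _ fun g _ => ?_
  split_ifs
  · refine ⟨MonoidAlgebra.single g 1, ?_⟩
    simp
  · exact Subring.zero_mem _

variable {p : ℕ} {M : Ideal AlgInt}

theorem isLoc_sumH (hM : M.IsPrime) (H : Subgroup G) : IsLoc M (sumH H) := by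
  classical
  unfold sumH
  refine isLoc_sum hM _ _ fun g _ => ?_
  split_ifs
  · exact isLoc_single hM g (memLocalRing_one hM.ne_top)
  · exact isLoc_zero hM

theorem isLoc_eH (hM : IsPModular p M) (H : Subgroup G) (hH : ¬ p ∣ Nat.card H) : IsLoc M (eH H) :=
  isLoc_smul (isPModular_isPrime hM) (memLocalRing_inv_natCast hM hH) (isLoc_sumH (isPModular_isPrime hM) H)

/-- Every eigenvalue of left multiplication by `e_Q e_R` is a local integer. -/
theorem eigen_memLocalRing (hM : IsPModular p M) (Q R : Subgroup G) (hQ : ¬ p ∣ Nat.card Q)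
    (hR : ¬ p ∣ Nat.card R) (μ : ℂ)
    (hμ : Module.End.HasEigenvalue (LinearMap.mulLeft ℂ (eH Q * eH R)) μ) : MemLocalRing M μ := by
  have hMp := isPModular_isPrime hM
  obtain ⟨x, hx⟩ := hμ.exists_hasEigenvector
  have hQ0 : (Nat.card Q : ℂ) ≠ 0 := Nat.cast_ne_zero.2 Nat.card_pos.ne'
  have hR0 : (Nat.card R : ℂ) ≠ 0 := Nat.cast_ne_zero.2 Nat.card_pos.ne'
  have ht : eH Q * eH R = ((Nat.card Q : ℂ)⁻¹ * (Nat.card R : ℂ)⁻¹) • (sumH Q * sumH R) := by
    unfold eH
    rw [smul_mul_smul_comm]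
  have hx1 : (eH Q * eH R) * x = μ • x := by
    have := hx.apply_eq_smul
    rw [LinearMap.mulLeft_apply] at this
    exact this
  have hx2 : (sumH Q * sumH R) * x = (((Nat.card Q : ℂ) * (Nat.card R : ℂ)) * μ) • x := by
    rw [ht, smul_mul_assoc] at hx1
    have := congrArg (fun y => ((Nat.card Q : ℂ) * (Nat.card R : ℂ)) • y) hx1
    simp only [smul_smul] at this
    rw [show (Nat.card Q : ℂ) * (Nat.card R : ℂ) * ((Nat.card Q : ℂ)⁻¹ * (Nat.card R : ℂ)⁻¹) = 1 by
      field_simp, one_smul] at this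
    exact this
  have hs : IsIntegral ℤ (sumH Q * sumH R) :=
    isIntegral_of_mem_range _ (Subring.mul_mem _ (sumH_mem_range Q) (sumH_mem_range R))
  have hev : Module.End.HasEigenvalue (LinearMap.mulLeft ℂ (sumH Q * sumH R))
      (((Nat.card Q : ℂ) * (Nat.card R : ℂ)) * μ) := by
    apply Module.End.hasEigenvalue_of_hasEigenvector (x := x)
    refine ⟨?_, hx.2⟩
    rw [Module.End.mem_eigenspace_iff, LinearMap.mulLeft_apply]
    exact hx2
  have hint := eigen_integral _ hs _ hev
  have h1 : MemLocalRing M (((Nat.card Q : ℂ) * (Nat.card R : ℂ)) * μ) :=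
    memLocalRing_of_isIntegral hMp.ne_top hint
  have h2 : μ = ((Nat.card Q : ℂ)⁻¹ * (Nat.card R : ℂ)⁻¹) * (((Nat.card Q : ℂ) * (Nat.card R : ℂ)) * μ) := by
    field_simp
  rw [h2]
  exact memLocalRing_mul hMp (memLocalRing_mul hMp (memLocalRing_inv_natCast hM hQ)
    (memLocalRing_inv_natCast hM hR)) h1

end Eigen


section Main

set_option linter.unusedSectionVars false

variable {p : ℕ} {M : Ideal AlgInt}

theorem aeval_charpoly_mulLeft (t : MonoidAlgebra ℂ G) :
    aeval t (LinearMap.mulLeft ℂ t).charpoly = 0 := by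
  have h := LinearMap.aeval_self_charpoly (Algebra.lmul ℂ (MonoidAlgebra ℂ G) t)
  rw [Polynomial.aeval_algHom_apply] at h
  have h3 := Algebra.lmul_injective (R := ℂ) (A := MonoidAlgebra ℂ G)
  apply h3
  rw [map_zero]
  exact h

/-- The augmentation of the group algebra. -/
noncomputable def aug : MonoidAlgebra ℂ G →ₐ[ℂ] ℂ := MonoidAlgebra.lift ℂ ℂ G 1

theorem aug_apply (x : MonoidAlgebra ℂ G) : aug x = ∑ w : G, x.coeff w := by
  unfold aug
  rw [MonoidAlgebra.lift_apply, Finsupp.sum_fintype]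
  · simp
  · intro i; simp

theorem aug_single (g : G) (r : ℂ) : aug (MonoidAlgebra.single g r) = r := by
  unfold aug
  simp

theorem aug_sumH (H : Subgroup G) : aug (sumH H) = (Nat.card H : ℂ) := by
  classical
  unfold sumH
  rw [map_sum]
  have : ∀ g ∈ (Finset.univ : Finset G),
      aug (if g ∈ H then MonoidAlgebra.single g (1 : ℂ) else 0) = if g ∈ H then (1 : ℂ) else 0 := by
    intro g _
    split_ifs
    · exact aug_single g 1
    · exact map_zero _
  rw [Finset.sum_congr rfl this, ← Finset.sum_filter, Finset.sum_const]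
  have hc : (Finset.univ.filter fun g : G => g ∈ H).card = Nat.card H := by
    rw [Nat.card_eq_fintype_card, Fintype.card_subtype]
  rw [hc]
  simp

theorem aug_eH (H : Subgroup G) : aug (eH H) = 1 := by
  unfold eH
  rw [map_smul, aug_sumH, smul_eq_mul]
  have : (Nat.card H : ℂ) ≠ 0 := Nat.cast_ne_zero.2 Nat.card_pos.ne'
  exact inv_mul_cancel₀ this

theorem one_eigen (Q R : Subgroup G) :
    Module.End.HasEigenvalue (LinearMap.mulLeft ℂ (eH Q * eH R)) 1 := by
  apply Module.End.hasEigenvalue_of_hasEigenvector (x := sumH (⊤ : Subgroup G))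
  refine ⟨?_, sumH_top_ne_zero⟩
  rw [Module.End.mem_eigenspace_iff, LinearMap.mulLeft_apply, one_smul, mul_assoc,
    eH_mul_sumH_top, eH_mul_sumH_top]

/-- The key idempotent: a `p`-locally integral idempotent of the group algebra, of augmentation `1`,
which is a right multiple of `e_Q e_R`. -/
theorem exists_idem (hM : IsPModular p M) (Q R : Subgroup G) (hQ : ¬ p ∣ Nat.card Q)
    (hR : ¬ p ∣ Nat.card R) :
    ∃ f c : MonoidAlgebra ℂ G, f * f = f ∧ f = eH Q * eH R * c ∧ IsLoc M f ∧ aug f = 1 := by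
  classical
  have hMp := isPModular_isPrime hM
  set t := eH Q * eH R with ht
  set χ := (LinearMap.mulLeft ℂ t).charpoly with hχ
  have hχm : χ.Monic := LinearMap.charpoly_monic _
  have hχ0 : χ ≠ 0 := hχm.ne_zero
  have hroot1 : (1 : ℂ) ∈ χ.roots := by
    rw [mem_roots hχ0]
    exact (Module.End.hasEigenvalue_iff_isRoot_charpoly _ _).1 (one_eigen Q R)
  have hrootO : ∀ μ ∈ χ.roots, MemLocalRing M μ := fun μ hμ =>
    eigen_memLocalRing hM Q R hQ hR μ
      ((Module.End.hasEigenvalue_iff_isRoot_charpoly _ _).2 ((mem_roots hχ0).1 hμ))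
  set d := χ.natDegree with hd
  have hcard : Multiset.card χ.roots ≤ d := Polynomial.card_roots' χ
  have hd1 : 1 ≤ d := by
    have hpos : 0 < Multiset.card χ.roots := Multiset.card_pos_iff_exists_mem.2 ⟨1, hroot1⟩
    omega
  set Sℂ : Finset ℂ := insert 0 χ.roots.toFinset with hSℂ
  have hSO : ∀ μ ∈ Sℂ, μ ∈ localRing M hMp := by
    intro μ hμ
    rw [hSℂ, Finset.mem_insert] at hμ
    rcases hμ with rfl | hμ
    · exact memLocalRing_zero hMp.ne_top
    · exact hrootO μ (Multiset.mem_toFinset.1 hμ)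
  set S : Finset (localRing M hMp) := Sℂ.subtype (· ∈ localRing M hMp) with hS
  have hSmap : S.map (Function.Embedding.subtype _) = Sℂ := Finset.subtype_map_of_mem hSO
  have hI : ∀ x : localRing M hMp, x ∉ localIdeal M hMp → IsUnit x := by
    intro x hx
    have hx' : ¬ MemLocalIdeal M (x : ℂ) := fun h => hx ((mem_localIdeal_iff hMp x).2 h)
    have hx0 : (x : ℂ) ≠ 0 := by
      intro h0
      apply hx'
      rw [h0]
      exact memLocalIdeal_zero hMp.ne_top
    rw [isUnit_iff_exists_inv]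
    refine ⟨⟨(x : ℂ)⁻¹, memLocalRing_inv x.2 hx'⟩, ?_⟩
    apply Subtype.ext
    simp only [Subring.coe_mul, Subring.coe_one]
    exact mul_inv_cancel₀ hx0
  have h1I : (1 : localRing M hMp) ∉ localIdeal M hMp := by
    intro h
    exact not_memLocalIdeal_one hMp ((mem_localIdeal_iff hMp 1).1 h)
  have h0S : (0 : localRing M hMp) ∈ S := by
    rw [hS, Finset.mem_subtype]
    simp [hSℂ]
  have h1S : (1 : localRing M hMp) ∈ S := by
    rw [hS, Finset.mem_subtype]
    simp only [Subring.coe_one, hSℂ, Finset.mem_insert, Multiset.mem_toFinset]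
    exact Or.inr hroot1
  obtain ⟨g, hXg, hg1, hgdvd⟩ := exists_poly (localIdeal M hMp) hI h1I S d hd1 h0S h1S
  obtain ⟨g₁, hg₁⟩ := hXg
  set φ : (localRing M hMp) →+* ℂ := (localRing M hMp).subtype with hφ
  -- the annihilating product
  have hprod : (∏ a ∈ S, (X - C a) ^ d : (localRing M hMp)[X]).map φ = ∏ μ ∈ Sℂ, (X - C μ) ^ d := by
    rw [Polynomial.map_prod, ← hSmap, Finset.prod_map]
    refine Finset.prod_congr rfl fun a _ => ?_
    simp [hφ]
  have hχdvd : χ ∣ ∏ μ ∈ Sℂ, (X - C μ) ^ d := by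
    have h1 : χ = ∏ μ ∈ χ.roots.toFinset, (X - C μ) ^ (Multiset.count μ χ.roots) := by
      conv_lhs => rw [(IsAlgClosed.splits χ).eq_prod_roots_of_monic hχm]
      exact Finset.prod_multiset_map_count χ.roots (fun x => X - C x)
    have h2 : (∏ μ ∈ χ.roots.toFinset, (X - C μ) ^ (Multiset.count μ χ.roots))
        ∣ ∏ μ ∈ χ.roots.toFinset, (X - C μ) ^ d :=
      Finset.prod_dvd_prod_of_dvd _ _ fun μ _ =>
        pow_dvd_pow _ ((Multiset.count_le_card μ χ.roots).trans hcard)
    have h3 : (∏ μ ∈ χ.roots.toFinset, (X - C μ) ^ d) ∣ ∏ μ ∈ Sℂ, (X - C μ) ^ d :=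
      Finset.prod_dvd_prod_of_subset _ _ _ (Finset.subset_insert _ _)
    rw [← h1] at h2
    exact h2.trans h3
  have hann : aeval t (∏ μ ∈ Sℂ, (X - C μ) ^ d) = 0 := by
    obtain ⟨q, hq⟩ := hχdvd
    rw [hq, map_mul, aeval_charpoly_mulLeft, zero_mul]
  set gℂ : ℂ[X] := g.map φ with hgℂ
  have hidem : aeval t gℂ * aeval t gℂ = aeval t gℂ := by
    obtain ⟨q, hq⟩ := hgdvd
    have h1 : gℂ * gℂ - gℂ = (∏ μ ∈ Sℂ, (X - C μ) ^ d) * q.map φ := by
      have := congrArg (Polynomial.map φ) hq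
      rw [Polynomial.map_sub, Polynomial.map_mul, Polynomial.map_mul, hprod] at this
      exact this
    have h2 : aeval t (gℂ * gℂ - gℂ) = 0 := by
      rw [h1, map_mul, hann, zero_mul]
    rw [map_sub, map_mul, sub_eq_zero] at h2
    exact h2
  refine ⟨aeval t gℂ, aeval t (g₁.map φ), hidem, ?_, ?_, ?_⟩
  · rw [hgℂ, hg₁, Polynomial.map_mul, Polynomial.map_X, map_mul, aeval_X]
  · rw [Polynomial.aeval_eq_sum_range]
    refine isLoc_sum hMp _ _ fun k _ => ?_
    refine isLoc_smul hMp ?_ (isLoc_pow hMp (isLoc_mul hMp (isLoc_eH hM Q hQ) (isLoc_eH hM R hR)) k)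
    rw [hgℂ, Polynomial.coeff_map]
    exact (g.coeff k).2
  · have h1 : aug (aeval t gℂ) = aeval (aug t) gℂ := (Polynomial.aeval_algHom_apply aug t gℂ).symm
    rw [h1, ht, map_mul, aug_eH, aug_eH, mul_one]
    rw [Polynomial.coe_aeval_eq_eval, hgℂ, Polynomial.eval_one_map, hg1]
    simp [hφ]

end Main

end Cfsg.Agent.Lib.Helper8.PIdem
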