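import Mathlib
import Cfsg.Agent.Lib.Helper1.CliffordCorr
import Cfsg.Agent.Lib.Helper2.DetChar

set_option autoImplicit false

/-! Basic machinery for the action of `G` on the characters of a normal subgroup `N`: subgroups of
coprime index, the action on linear characters, orbits and inertia groups, fixed point free
permutations of an orbit, and the free action of linear characters of order `p` on characters of
degree prime to `p`. -/

namespace Cfsg.Agent.Lib.Helper8.RDG

open Cfsg Cfsg.Agent.Lib.Helper1 Cfsg.Agent.Lib.Helper4 Cfsg.Agent.S0193 Cfsg.Agent.S0194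

universe u

section Coprime

variable {G : Type u} [Group G] [Finite G]

/-- coprime indices: the index of the intersection is the product. -/
theorem index_inf_of_coprime (A B : Subgroup G)
    (hcop : A.index.Coprime B.index) : (A ⊓ B).index = A.index * B.index := by
  apply le_antisymm Subgroup.index_inf_le
  have h0 : (A ⊓ B).index ≠ 0 := Subgroup.index_ne_zero_of_finite
  apply Nat.le_of_dvd (Nat.pos_of_ne_zero h0)
  exact hcop.mul_dvd_of_dvd_of_dvd (Subgroup.index_dvd_of_le inf_le_left)
    (Subgroup.index_dvd_of_le inf_le_right)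

/-- coprime indices: the group is the product of the two subgroups. -/
theorem exists_mul_of_coprime_index (A B : Subgroup G)
    (hcop : A.index.Coprime B.index) (x : G) : ∃ a ∈ A, ∃ b ∈ B, x = a * b := by
  have h1 := index_inf_of_coprime A B hcop
  have h2 : (A ⊓ B).relIndex A * A.index = (A ⊓ B).index := Subgroup.relIndex_mul_index inf_le_left
  rw [Subgroup.inf_relIndex_left, h1, mul_comm] at h2
  have hApos : 0 < A.index := Nat.pos_of_ne_zero Subgroup.index_ne_zero_of_finite
  have h3 : B.relIndex A = B.index := Nat.eq_of_mul_eq_mul_left hApos h2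
  have hinj : Function.Injective (fun q : A ⧸ B.subgroupOf A =>
      Quotient.liftOn' q (fun a : A => ((a : G) : G ⧸ B)) (by
        intro a b hab
        rw [QuotientGroup.leftRel_apply, Subgroup.mem_subgroupOf] at hab
        exact QuotientGroup.eq.mpr (by simpa using hab))) := by
    intro q1 q2
    induction q1 using Quotient.inductionOn' with | _ a => ?_
    induction q2 using Quotient.inductionOn' with | _ b => ?_
    intro h
    have h' : ((a : G) : G ⧸ B) = ((b : G) : G ⧸ B) := h
    apply Quotient.sound'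
    rw [QuotientGroup.leftRel_apply, Subgroup.mem_subgroupOf]
    have := QuotientGroup.eq.mp h'
    simpa using this
  have hcard : Nat.card (G ⧸ B) ≤ Nat.card (A ⧸ B.subgroupOf A) := by
    have e1 : Nat.card (G ⧸ B) = B.index := (Subgroup.index_eq_card B).symm
    have e2 : Nat.card (A ⧸ B.subgroupOf A) = B.relIndex A := by
      rw [Subgroup.relIndex, Subgroup.index_eq_card]
    rw [e1, e2, h3]
  have hbij := Function.Injective.bijective_of_nat_card_le hinj hcard
  obtain ⟨q, hq⟩ := hbij.2 (x : G ⧸ B)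
  induction q using Quotient.inductionOn' with | _ a => ?_
  have hq' : ((a : G) : G ⧸ B) = (x : G ⧸ B) := hq
  have := QuotientGroup.eq.mp hq'
  refine ⟨a, a.2, (a : G)⁻¹ * x, this, ?_⟩
  group

end Coprime

section FreePerm

/-- A map of prime order `p` without fixed points on a finite set: `p` divides the size. -/
theorem prime_dvd_card_of_free_end {α : Type*} [Finite α] (p : ℕ) [hp : Fact p.Prime] (f : α → α)
    (hf : ∀ a, f^[p] a = a) (hfree : ∀ a, f a ≠ a) : p ∣ Nat.card α := by
  classical
  haveI : Fintype α := Fintype.ofFinite α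
  let F : Function.End α := f
  have h1 : F ^ p ^ 1 = 1 := by
    rw [pow_one]
    funext a
    have : ∀ (k : ℕ) (a : α), (F ^ k) a = f^[k] a := by
      intro k
      induction k with
      | zero => intro a; rfl
      | succ n ih =>
        intro a
        rw [pow_succ, Function.iterate_succ_apply]
        show (F ^ n) (f a) = _
        exact ih (f a)
    rw [this, hf a]
    rfl
  have h2 := Equiv.Perm.card_fixedPoints_modEq (f := F) (p := p) (n := 1) h1
  have h3 : Fintype.card (Function.fixedPoints F) = 0 := by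
    rw [Fintype.card_eq_zero_iff]
    exact ⟨fun a => hfree a.1 a.2⟩
  rw [h3] at h2
  rw [Nat.card_eq_fintype_card]
  exact (Nat.modEq_zero_iff_dvd).1 h2

end FreePerm

section Action

variable {G : Type u} [Group G] (N : Subgroup G) [hN : N.Normal]

/-- The conjugate of a linear character of a normal subgroup. -/
def conjHom (μ : N →* ℂˣ) (g : G) : N →* ℂˣ :=
  μ.comp (MulAut.conjNormal g : N ≃* N).toMonoidHom

theorem conjHom_apply (μ : N →* ℂˣ) (g : G) (n : N) :
    conjHom N μ g n = μ ⟨g * n * g⁻¹, hN.conj_mem n n.2 g⟩ := by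
  unfold conjHom
  simp only [MonoidHom.coe_comp, MulEquiv.coe_toMonoidHom, Function.comp_apply]
  congr 1

/-- The function attached to a linear character. -/
def lin (μ : N →* ℂˣ) : N → ℂ := fun n => ((μ n : ℂˣ) : ℂ)

omit hN in
theorem lin_apply (μ : N →* ℂˣ) (n : N) : lin N μ n = ((μ n : ℂˣ) : ℂ) := rfl

omit hN in
theorem lin_injective : Function.Injective (lin N) := by
  intro μ κ h
  ext n
  have := congrFun h n
  simpa [lin] using this

theorem conjFun_lin (μ : N →* ℂˣ) (g : G) : conjFun N (lin N μ) g = lin N (conjHom N μ g) := by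
  funext n
  show ((μ _ : ℂˣ) : ℂ) = ((conjHom N μ g n : ℂˣ) : ℂ)
  rw [conjHom_apply]

theorem conjHom_mul' (μ : N →* ℂˣ) (a b : G) :
    conjHom N (conjHom N μ a) b = conjHom N μ (a * b) := by
  apply lin_injective N
  rw [← conjFun_lin, ← conjFun_lin, conjFun_mul, conjFun_lin]

theorem conjHom_one (μ : N →* ℂˣ) : conjHom N μ 1 = μ := by
  apply lin_injective N
  rw [← conjFun_lin, conjFun_one]

theorem conjHom_mul_hom (μ κ : N →* ℂˣ) (g : G) :
    conjHom N (μ * κ) g = conjHom N μ g * conjHom N κ g := rfl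

theorem conjHom_inv_hom (μ : N →* ℂˣ) (g : G) :
    conjHom N μ⁻¹ g = (conjHom N μ g)⁻¹ := rfl

theorem conjHom_pow_hom (μ : N →* ℂˣ) (k : ℕ) (g : G) :
    conjHom N (μ ^ k) g = (conjHom N μ g) ^ k := rfl

theorem conjHom_one_hom (g : G) : conjHom N (1 : N →* ℂˣ) g = 1 := rfl

/-- Pointwise product of a function with a linear character. -/
def mulF (θ : N → ℂ) (μ : N →* ℂˣ) : N → ℂ := fun n => θ n * ((μ n : ℂˣ) : ℂ)

omit hN in
theorem mulF_apply (θ : N → ℂ) (μ : N →* ℂˣ) (n : N) : mulF N θ μ n = θ n * ((μ n : ℂˣ) : ℂ) := rfl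

omit hN in
theorem mulF_one (θ : N → ℂ) : mulF N θ 1 = θ := by
  funext n; simp [mulF]

omit hN in
theorem mulF_mulF (θ : N → ℂ) (μ κ : N →* ℂˣ) : mulF N (mulF N θ μ) κ = mulF N θ (μ * κ) := by
  funext n; simp [mulF, mul_assoc]

theorem conjFun_mulF (θ : N → ℂ) (μ : N →* ℂˣ) (g : G) :
    conjFun N (mulF N θ μ) g = mulF N (conjFun N θ g) (conjHom N μ g) := by
  funext n
  show θ _ * ((μ _ : ℂˣ) : ℂ) = conjFun N θ g n * ((conjHom N μ g n : ℂˣ) : ℂ)
  rw [conjHom_apply]
  rfl

omit hN in
theorem lin_eq_mulF (μ : N →* ℂˣ) : lin N μ = mulF N (fun _ => 1) μ := by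
  funext n; simp [lin, mulF]

/-- The left action of `G` on functions on `N`. -/
@[instance_reducible] def conjAct : MulAction G (N → ℂ) where
  smul g θ := conjFun N θ g⁻¹
  one_smul θ := by
    show conjFun N θ 1⁻¹ = θ
    rw [inv_one, conjFun_one]
  mul_smul a b θ := by
    show conjFun N θ (a * b)⁻¹ = conjFun N (conjFun N θ b⁻¹) a⁻¹
    rw [conjFun_mul, mul_inv_rev]

theorem index_inertia (θ : N → ℂ) :
    (inertia N θ).index = Nat.card (Set.range (conjFun N θ)) := by
  letI : MulAction G (N → ℂ) := conjAct N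
  have hsmul : ∀ (g : G) (ψ : N → ℂ), g • ψ = conjFun N ψ g⁻¹ := fun _ _ => rfl
  have h1 : MulAction.stabilizer G θ = inertia N θ := by
    ext g
    rw [MulAction.mem_stabilizer_iff, hsmul, ← mem_inertia, inv_mem_iff]
  have h2 : MulAction.orbit G θ = Set.range (conjFun N θ) := by
    ext ψ
    rw [MulAction.mem_orbit_iff]
    constructor
    · rintro ⟨g, rfl⟩
      exact ⟨g⁻¹, (hsmul g θ).symm⟩
    · rintro ⟨g, rfl⟩
      exact ⟨g⁻¹, by rw [hsmul, inv_inv]⟩
  rw [← h1, MulAction.index_stabilizer, h2, Nat.card_coe_set_eq]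

/-- A fixed point free map of prime order on the orbit of `θ`: the prime divides the index of the
inertia group. -/
theorem prime_dvd_index_of_free_perm [Finite G] (p : ℕ) [Fact p.Prime] (θ : N → ℂ)
    (σ : (N → ℂ) → (N → ℂ))
    (hmap : ∀ g : G, ∃ h : G, σ (conjFun N θ g) = conjFun N θ h)
    (hpow : ∀ g : G, σ^[p] (conjFun N θ g) = conjFun N θ g)
    (hfree : ∀ g : G, σ (conjFun N θ g) ≠ conjFun N θ g) : p ∣ (inertia N θ).index := by
  rw [index_inertia]
  let f : Set.range (conjFun N θ) → Set.range (conjFun N θ) := fun x =>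
    ⟨σ x.1, by
      obtain ⟨g, hg⟩ := x.2
      obtain ⟨h, hh⟩ := hmap g
      exact ⟨h, by rw [← hg, hh]⟩⟩
  have hiter : ∀ (k : ℕ) (x : Set.range (conjFun N θ)), ((f^[k] x : Set.range (conjFun N θ)) : N → ℂ)
      = σ^[k] x.1 := by
    intro k
    induction k with
    | zero => intro x; rfl
    | succ n ih =>
      intro x
      rw [Function.iterate_succ_apply, Function.iterate_succ_apply, ih (f x)]
  apply prime_dvd_card_of_free_end p f
  · intro x
    apply Subtype.ext
    rw [hiter]
    obtain ⟨g, hg⟩ := x.2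
    rw [← hg]
    exact hpow g
  · intro x hx
    obtain ⟨g, hg⟩ := x.2
    have := congrArg Subtype.val hx
    simp only [f] at this
    rw [← hg] at this
    exact hfree g this

end Action

section Free

variable {X : Type u} [Group X] [Finite X]

/-- A linear character `κ` of order dividing `p` fixing (by multiplication) a character of degree
prime to `p` is trivial. -/
theorem hom_eq_one_of_mul_eq (p : ℕ) (hp : p.Prime) {θ : X → ℂ} (hθ : Cfsg.IsCharacter X θ)
    (e : ℕ) (he : θ 1 = e) (hpe : ¬ p ∣ e) (κ : X →* ℂˣ) (hκp : κ ^ p = 1)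
    (hfix : ∀ x, θ x * ((κ x : ℂˣ) : ℂ) = θ x) : κ = 1 := by
  obtain ⟨m, σ, rfl⟩ := hθ
  have hm : m = e := by
    rw [Representation.char_one] at he
    have : (m : ℂ) = (e : ℂ) := by simpa using he
    exact_mod_cast this
  subst hm
  have h1 := Cfsg.Agent.Lib.Helper2.DetChar.detChar_twist κ σ
  have h2 : (fun g => ((κ g : ℂˣ) : ℂ) * σ.character g) = σ.character := by
    funext g
    rw [mul_comm]
    exact hfix g
  rw [h2] at h1
  obtain ⟨δ, hδ⟩ := Cfsg.Agent.Lib.Helper2.DetChar.exists_detHom (χ := σ.character) ⟨m, σ, rfl⟩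
  have h3 : ∀ g, ((κ g : ℂˣ) : ℂ) ^ m = 1 := by
    intro g
    have h4 := congrFun h1 g
    rw [hδ, Cfsg.Agent.Lib.Helper2.LinExt.coeHom_apply] at h4
    have h5 : ((δ g : ℂˣ) : ℂ) ≠ 0 := Units.ne_zero _
    have h6 : (1 : ℂ) * ((δ g : ℂˣ) : ℂ) = ((κ g : ℂˣ) : ℂ) ^ m * ((δ g : ℂˣ) : ℂ) := by
      rw [one_mul]; exact h4
    exact (mul_right_cancel₀ h5 h6).symm
  have h7 : κ ^ m = 1 := by
    ext g
    have := h3 g
    simp [this]
  have h8 : orderOf κ ∣ Nat.gcd m p :=
    Nat.dvd_gcd (orderOf_dvd_of_pow_eq_one h7) (orderOf_dvd_of_pow_eq_one hκp)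
  have h9 : Nat.Coprime m p := ((Nat.Prime.coprime_iff_not_dvd hp).2 hpe).symm
  rw [h9] at h8
  exact orderOf_eq_one_iff.1 (Nat.dvd_one.1 h8)

end Free

end Cfsg.Agent.Lib.Helper8.RDG
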