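import Mathlib
import Cfsg.Agent.Lib.Helper8.RDG3
import Cfsg.Agent.Lib.Helper4.Gallagher
import Cfsg.Agent.S0174

set_option autoImplicit false

/-! Clifford theory in a convenient form: the restriction of an irreducible character to a normal
subgroup as a multiple of the sum over the (finite) orbit; degrees; conjugacy of constituents;
constituents of a product with a character lying over a linear character. -/

namespace Cfsg.Agent.Lib.Helper8.RDG

open Cfsg Cfsg.Agent.Lib.Helper1 Cfsg.Agent.Lib.Helper4 Cfsg.Agent.S0193 Cfsg.Agent.S0194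
open scoped ComplexConjugate

universe u

variable {G : Type u} [Group G] [Finite G] (N : Subgroup G) [hN : N.Normal]

/-- The orbit of a function on `N` under conjugation, as a finset. -/
noncomputable def orbitFinset (θ : N → ℂ) : Finset (N → ℂ) :=
  (Set.finite_range (conjFun N θ)).toFinset

theorem mem_orbitFinset {θ ψ : N → ℂ} : ψ ∈ orbitFinset N θ ↔ ∃ g : G, conjFun N θ g = ψ := by
  unfold orbitFinset
  rw [Set.Finite.mem_toFinset]
  rfl

theorem conjFun_mem_orbitFinset (θ : N → ℂ) (g : G) : conjFun N θ g ∈ orbitFinset N θ :=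
  (mem_orbitFinset N).2 ⟨g, rfl⟩

theorem self_mem_orbitFinset (θ : N → ℂ) : θ ∈ orbitFinset N θ :=
  (mem_orbitFinset N).2 ⟨1, conjFun_one N θ⟩

theorem card_orbitFinset (θ : N → ℂ) : (orbitFinset N θ).card = (inertia N θ).index := by
  rw [index_inertia]
  unfold orbitFinset
  rw [← Set.ncard_eq_toFinset_card (Set.range (conjFun N θ)) (Set.finite_range _),
    Nat.card_coe_set_eq]

omit [Finite G] hN in
theorem isIrr_mulF [Fintype N] {θ : N → ℂ} (hθ : Cfsg.IsIrrCharacter N θ) (μ : N →* ℂˣ) :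
    Cfsg.IsIrrCharacter N (mulF N θ μ) := by
  have := isIrrCharacter_hom_mul μ hθ
  convert this using 2
  rename_i n
  rw [mulF_apply, mul_comm]

omit [Finite G] hN in
theorem isIrr_lin (μ : N →* ℂˣ) : Cfsg.IsIrrCharacter N (lin N μ) := isIrrCharacter_of_hom μ

omit [Finite G] hN in
theorem lin_one_apply (μ : N →* ℂˣ) : lin N μ 1 = 1 := by
  rw [lin_apply, map_one, Units.val_one]

/-- Clifford's theorem with a finset sum. -/
theorem clifford_sum [Fintype N] {χ : G → ℂ} (hχ : Cfsg.IsIrrCharacter G χ) {θ : N → ℂ}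
    (hθ : Cfsg.IsIrrCharacter N θ) (hover : Cfsg.classInner (fun n : N => χ n) θ ≠ 0) :
    (fun n : N => χ n) = Cfsg.classInner (fun n : N => χ n) θ • ∑ ψ ∈ orbitFinset N θ, ψ := by
  classical
  haveI : Fintype G := Fintype.ofFinite G
  have h := Cfsg.Agent.S0174.result N hN χ hχ θ hθ hover
  have hset : {ψ : N → ℂ | ∃ g : G, ψ = fun n : N => θ ⟨g * n * g⁻¹, hN.conj_mem n n.2 g⟩}
      = Set.range (conjFun N θ) := by
    ext ψ
    constructor
    · rintro ⟨g, rfl⟩; exact ⟨g, rfl⟩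
    · rintro ⟨g, rfl⟩; exact ⟨g, rfl⟩
  rw [hset, finsum_mem_eq_finite_toFinset_sum _ (Set.finite_range (conjFun N θ))] at h
  exact h

omit [Finite G] in
theorem conjFun_apply_one (θ : N → ℂ) (g : G) : conjFun N θ g 1 = θ 1 := by
  show θ _ = θ 1
  congr 1
  apply Subtype.ext
  simp

/-- Degrees in Clifford's theorem. -/
theorem clifford_degree [Fintype N] {χ : G → ℂ} (hχ : Cfsg.IsIrrCharacter G χ) {θ : N → ℂ}
    (hθ : Cfsg.IsIrrCharacter N θ) (hover : Cfsg.classInner (fun n : N => χ n) θ ≠ 0)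
    (c d : ℕ) (hc : χ 1 = c) (hd : θ 1 = d) :
    ∃ e : ℕ, 0 < e ∧ Cfsg.classInner (fun n : N => χ n) θ = e ∧
      c = e * ((inertia N θ).index * d) := by
  classical
  haveI : Fintype G := Fintype.ofFinite G
  have hres : Cfsg.IsCharacter N (fun n : N => χ n) :=
    Cfsg.Agent.S0148.isCharacter_restrict N (isCharacter_of_irr hχ)
  obtain ⟨e, he⟩ := classInner_char_irr_nat hres hθ
  have he0 : 0 < e := by
    rcases Nat.eq_zero_or_pos e with h | h
    · exfalso; apply hover; rw [he, h]; simp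
    · exact h
  refine ⟨e, he0, he, ?_⟩
  have h1 := congrFun (clifford_sum N hχ hθ hover) 1
  simp only [Pi.smul_apply, Finset.sum_apply, smul_eq_mul] at h1
  have h2 : ∀ ψ ∈ orbitFinset N θ, ψ 1 = (d : ℂ) := by
    intro ψ hψ
    obtain ⟨g, rfl⟩ := (mem_orbitFinset N).1 hψ
    rw [conjFun_apply_one, hd]
  rw [Finset.sum_congr rfl h2, Finset.sum_const, card_orbitFinset, he] at h1
  have h3 : χ ((1 : N) : G) = (c : ℂ) := by rw [Subgroup.coe_one, hc]
  rw [h3] at h1
  have : (c : ℂ) = ((e * ((inertia N θ).index * d) : ℕ) : ℂ) := by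
    rw [h1]; push_cast; simp
  exact_mod_cast this

/-- The irreducible constituents of the restriction are conjugate. -/
theorem exists_conj_of_over [Fintype N] {χ : G → ℂ} (hχ : Cfsg.IsIrrCharacter G χ) {θ ω : N → ℂ}
    (hθ : Cfsg.IsIrrCharacter N θ) (hω : Cfsg.IsIrrCharacter N ω)
    (hover : Cfsg.classInner (fun n : N => χ n) θ ≠ 0)
    (hover' : Cfsg.classInner (fun n : N => χ n) ω ≠ 0) : ∃ g : G, conjFun N θ g = ω := by
  classical
  have h1 := clifford_sum N hχ hθ hover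
  rw [h1, classInner_smul_left, classInner_sum_left] at hover'
  have h2 : ∑ ψ ∈ orbitFinset N θ, Cfsg.classInner ψ ω ≠ 0 := by
    intro h
    apply hover'
    rw [h, mul_zero]
  obtain ⟨ψ, hψ, hne⟩ := Finset.exists_ne_zero_of_sum_ne_zero h2
  obtain ⟨g, rfl⟩ := (mem_orbitFinset N).1 hψ
  refine ⟨g, ?_⟩
  by_contra hcon
  exact hne (classInner_irr_ne (conjFun_irr N θ hθ g) hω hcon)

omit [Finite G] in
/-- Conjugate constituents have the same multiplicity. -/
theorem classInner_conjFun [Fintype N] {χ : G → ℂ} (hχ : Cfsg.IsClassFunction G χ) (ν : N → ℂ)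
    (g : G) :
    Cfsg.classInner (fun n : N => χ n) (conjFun N ν g) = Cfsg.classInner (fun n : N => χ n) ν := by
  unfold Cfsg.classInner
  congr 1
  let e : N ≃ N := (MulAut.conjNormal g : N ≃* N).toEquiv
  rw [← Equiv.sum_comp e (fun n : N => χ n * conj (ν n))]
  refine Finset.sum_congr rfl fun n _ => ?_
  have h1 : ((e n : N) : G) = g * n * g⁻¹ := by
    simp [e, MulAut.conjNormal_apply]
  have h2 : e n = ⟨g * n * g⁻¹, hN.conj_mem n n.2 g⟩ := Subtype.ext h1
  show χ n * conj (ν ⟨g * n * g⁻¹, _⟩) = χ (e n) * conj (ν (e n))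
  rw [h2]
  congr 1
  exact (hχ n g).symm

/-- Constituents of a product `χ ψ` where `ψ` lies over a linear character `μ`. -/
theorem product_over [Fintype G] [Fintype N] {χ ψ ξ : G → ℂ} (hχ : Cfsg.IsIrrCharacter G χ)
    (hψ : Cfsg.IsIrrCharacter G ψ) (hξ : Cfsg.IsIrrCharacter G ξ)
    {θ : N → ℂ} (hθ : Cfsg.IsIrrCharacter N θ) (μ : N →* ℂˣ)
    (hoverχ : Cfsg.classInner (fun n : N => χ n) θ ≠ 0)
    (hoverψ : Cfsg.classInner (fun n : N => ψ n) (lin N μ) ≠ 0)
    (hcon : Cfsg.classInner (χ * ψ) ξ ≠ 0) :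
    ∃ g h : G, Cfsg.classInner (fun n : N => ξ n) (mulF N (conjFun N θ g) (conjHom N μ h)) ≠ 0 := by
  classical
  have hprod : Cfsg.IsCharacter G (χ * ψ) :=
    Cfsg.Agent.S4996.isCharacter_mul (isCharacter_of_irr hχ) (isCharacter_of_irr hψ)
  obtain ⟨m, hm⟩ := classInner_char_irr_nat hprod hξ
  have hm0 : 0 < m := by
    rcases Nat.eq_zero_or_pos m with h | h
    · exfalso; apply hcon; rw [hm, h]; simp
    · exact h
  have hσ := isCharacter_sub_irr hprod hξ hm0 hm
  -- an irreducible constituent of ξ_N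
  have hresξ : Cfsg.IsCharacter N (fun n : N => ξ n) :=
    Cfsg.Agent.S0148.isCharacter_restrict N (isCharacter_of_irr hξ)
  have hξ1 : (fun n : N => ξ n) 1 ≠ 0 := by
    show ξ ((1 : N) : G) ≠ 0
    rw [Subgroup.coe_one]
    exact irr_apply_one_ne_zero hξ
  obtain ⟨ω, hω, k, hk0, hk⟩ := exists_constituent hresξ hξ1
  -- it is a constituent of (χψ)_N
  have hresσ : Cfsg.IsCharacter N (fun n : N => (χ * ψ - ξ) n) :=
    Cfsg.Agent.S0148.isCharacter_restrict N hσ
  obtain ⟨k', hk'⟩ := classInner_char_irr_nat hresσ hω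
  have hsplit : (fun n : N => (χ * ψ) n) = (fun n : N => ξ n) + (fun n : N => (χ * ψ - ξ) n) := by
    funext n
    simp
  have h1 : Cfsg.classInner (fun n : N => (χ * ψ) n) ω ≠ 0 := by
    rw [hsplit, classInner_add_left, hk, hk']
    have : ((k : ℂ) + (k' : ℂ)) = ((k + k' : ℕ) : ℂ) := by push_cast; rfl
    rw [this]
    exact Nat.cast_ne_zero.2 (by omega)
  -- expand ψ_N
  have hψsum := clifford_sum N hψ (isIrr_lin N μ) hoverψ
  have h2 : (fun n : N => (χ * ψ) n)
      = Cfsg.classInner (fun n : N => ψ n) (lin N μ) •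
        ∑ φ ∈ orbitFinset N (lin N μ), (fun n : N => χ n * φ n) := by
    funext n
    have := congrFun hψsum n
    simp only [Pi.smul_apply, Finset.sum_apply, smul_eq_mul] at this ⊢
    rw [Pi.mul_apply, this, ← Finset.mul_sum]
    ring
  rw [h2, classInner_smul_left, classInner_sum_left] at h1
  have h3 : ∑ φ ∈ orbitFinset N (lin N μ), Cfsg.classInner (fun n : N => χ n * φ n) ω ≠ 0 := by
    intro h
    apply h1
    rw [h, mul_zero]
  obtain ⟨φ, hφ, hne⟩ := Finset.exists_ne_zero_of_sum_ne_zero h3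
  obtain ⟨h, rfl⟩ := (mem_orbitFinset N).1 hφ
  rw [conjFun_lin] at hne
  set μ' := conjHom N μ h with hμ'
  -- move μ' to the other side
  have h4 : Cfsg.classInner (fun n : N => χ n * lin N μ' n) ω
      = Cfsg.classInner (fun n : N => χ n) (mulF N ω μ'⁻¹) := by
    unfold Cfsg.classInner
    congr 1
    refine Finset.sum_congr rfl fun n _ => ?_
    show χ n * lin N μ' n * conj (ω n) = χ n * conj (mulF N ω μ'⁻¹ n)
    rw [mulF_apply, lin_apply, map_mul, MonoidHom.inv_apply, Units.val_inv_eq_inv_val, map_inv₀]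
    have hn : conj ((μ' n : ℂˣ) : ℂ) = (((μ' n : ℂˣ) : ℂ))⁻¹ := by
      have h5 : ((μ' n : ℂˣ) : ℂ) * conj ((μ' n : ℂˣ) : ℂ) = 1 := by
        rw [Complex.mul_conj, Complex.normSq_eq_norm_sq, norm_hom_apply]
        simp
      exact (eq_inv_of_mul_eq_one_right h5)
    rw [hn, inv_inv]
    ring
  rw [h4] at hne
  have hω' : Cfsg.IsIrrCharacter N (mulF N ω μ'⁻¹) := isIrr_mulF N hω _
  obtain ⟨g, hg⟩ := exists_conj_of_over N hχ hθ hω' hoverχ hne
  refine ⟨g, h, ?_⟩
  have h6 : mulF N (conjFun N θ g) μ' = ω := by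
    rw [hg, mulF_mulF]
    have : μ'⁻¹ * μ' = 1 := by
      ext n
      simp
    rw [this, mulF_one]
  rw [h6, hk]
  exact Nat.cast_ne_zero.2 hk0.ne'

end Cfsg.Agent.Lib.Helper8.RDG
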