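import Mathlib
import Cfsg.Agent.Lib.Helper8.RDG5

set_option autoImplicit false

/-! Shared definitions for S4751 (faithful irreducible character whose values at the `p`-singular
elements are roots of unity, `O_p(G) ≠ 1`). -/

namespace Cfsg.Agent.Lib.Helper8.Chr8

open Cfsg Cfsg.Agent.Lib.Helper8.RDG

universe u

/-- the hypotheses of S4751 on the class function `χ`, in normalized form. -/
structure Hyp {G : Type u} [Group G] (p : ℕ) (χ : G → ℂ) : Prop where
  irr : IsIrrCharacter G χ
  faith : ∀ g : G, χ g = χ 1 → g = 1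
  nl : χ 1 ≠ 1
  unit : ∀ g : G, p ∣ orderOf g → ‖χ g‖ = 1

/-- the outcome of the Clifford analysis on the normal `p`-subgroup `P`: `χ` restricted to `P` is the
sum of all the non-principal linear characters of `P`, each once, they form one `G`-orbit, and `P` is
abelian. -/
structure Spec {G : Type u} [Group G] (χ : G → ℂ) (P : Subgroup G) [P.Normal]
    (L : Finset (↥P →* ℂˣ)) : Prop where
  res : ∀ x : P, χ x = ∑ l ∈ L, ((l x : ℂˣ) : ℂ)
  one_notMem : (1 : ↥P →* ℂˣ) ∉ L
  all_mem : ∀ l : ↥P →* ℂˣ, l ≠ 1 → l ∈ L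
  card : L.card + 1 = Nat.card P
  deg : χ 1 = (L.card : ℂ)
  two_le : 2 ≤ L.card
  trans : ∀ l ∈ L, ∀ m ∈ L, ∃ g : G, m = conjHom P l g
  comm : ∀ x y : P, x * y = y * x

open Classical in
/-- the members of `L` fixed by `g`. -/
noncomputable def fixSet {G : Type u} [Group G] (P : Subgroup G) [P.Normal]
    (L : Finset (↥P →* ℂˣ)) (g : G) : Finset (↥P →* ℂˣ) :=
  L.filter (fun l => conjHom P l g = l)

theorem mem_fixSet {G : Type u} [Group G] (P : Subgroup G) [P.Normal]
    (L : Finset (↥P →* ℂˣ)) (g : G) (l : ↥P →* ℂˣ) :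
    l ∈ fixSet P L g ↔ l ∈ L ∧ conjHom P l g = l := by
  classical
  unfold fixSet
  rw [Finset.mem_filter]

end Cfsg.Agent.Lib.Helper8.Chr8
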