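import Mathlib
import Cfsg.Prelude.Def_Solvable

set_option autoImplicit false
open Pointwise

namespace Cfsg.Agent.Lib.Helper8

section
variable {N H : Type*} [Group N] [Group H]

theorem mem_conj_smul_iff_h8 {G : Type*} [Group G] {K : Subgroup G} {g x : G} :
    x ∈ MulAut.conj g • K ↔ g⁻¹ * x * g ∈ K := by
  rw [Subgroup.mem_pointwise_smul_iff_inv_smul_mem]
  simp [MulAut.smul_def]

/-- A fixed-point-free action gives a Frobenius complement in the semidirect product. -/
theorem isFrobeniusComplement_inr_range [Nontrivial N] [Nontrivial H] (φ : H →* MulAut N)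
    (hfpf : ∀ h : H, h ≠ 1 → ∀ n : N, φ h n = n → n = 1) :
    Cfsg.IsFrobeniusComplement (SemidirectProduct.inr : H →* N ⋊[φ] H).range := by
  refine ⟨?_, ?_, ?_⟩
  · intro hbot
    obtain ⟨h, hh⟩ := exists_ne (1 : H)
    have : (SemidirectProduct.inr h : N ⋊[φ] H) ∈ (SemidirectProduct.inr : H →* N ⋊[φ] H).range :=
      ⟨h, rfl⟩
    rw [hbot, Subgroup.mem_bot] at this
    apply hh
    have := congrArg SemidirectProduct.right this
    simpa using this
  · intro htop
    obtain ⟨n, hn⟩ := exists_ne (1 : N)
    have : (SemidirectProduct.inl n : N ⋊[φ] H) ∈ (SemidirectProduct.inr : H →* N ⋊[φ] H).range := by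
      rw [htop]; trivial
    obtain ⟨h, hh⟩ := this
    apply hn
    have := congrArg SemidirectProduct.left hh
    simpa using this.symm
  · intro g hg
    rw [eq_bot_iff]
    intro z hz
    rw [Subgroup.mem_bot]
    obtain ⟨⟨v, rfl⟩, hz2⟩ := Subgroup.mem_inf.mp hz
    rw [mem_conj_smul_iff_h8] at hz2
    obtain ⟨w, hw⟩ := hz2
    have hleft := congrArg SemidirectProduct.left hw
    simp only [SemidirectProduct.left_inr, SemidirectProduct.mul_left, SemidirectProduct.inv_left,
      SemidirectProduct.mul_right, SemidirectProduct.inv_right, SemidirectProduct.right_inr,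
      map_one, mul_one] at hleft
    -- hleft : 1 = φ g.right⁻¹ g.left⁻¹ * φ (g.right⁻¹ * v) g.left
    have ha : g.left ≠ 1 := by
      intro h1
      apply hg
      refine ⟨g.right, ?_⟩
      ext
      · simp [h1]
      · simp
    have h2 : φ v g.left = g.left := by
      have h3 := congrArg (φ g.right) hleft
      rw [map_one, map_mul, ← MulAut.mul_apply, ← map_mul, mul_inv_cancel, map_one, MulAut.one_apply,
        ← MulAut.mul_apply, ← map_mul, mul_inv_cancel_left] at h3
      -- h3 : 1 = g.left⁻¹ * φ v g.left
      calc φ v g.left = g.left * (g.left⁻¹ * φ v g.left) := by group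
        _ = g.left := by rw [← h3, mul_one]
    by_contra hz1
    apply ha
    apply hfpf v _ _ h2
    intro hv
    apply hz1
    rw [hv, map_one]

/-- The complement is isomorphic to the acting group. -/
noncomputable def inrRangeEquiv (φ : H →* MulAut N) :
    H ≃* (SemidirectProduct.inr : H →* N ⋊[φ] H).range :=
  MonoidHom.ofInjective (f := (SemidirectProduct.inr : H →* N ⋊[φ] H)) (by
    intro a b hab
    have := congrArg SemidirectProduct.right hab
    simpa using this)

instance semidirectProduct_finite [Finite N] [Finite H] (φ : H →* MulAut N) : Finite (N ⋊[φ] H) :=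
  Finite.of_equiv _ (SemidirectProduct.equivProd (φ := φ)).symm

end

section distrib

/-- the hom into `MulAut (Multiplicative V)` attached to a distributive action -/
noncomputable def phiD (H V : Type*) [Group H] [AddGroup V] [DistribMulAction H V] :
    H →* MulAut (Multiplicative V) :=
  (MulAutMultiplicative V).symm.toMonoidHom.comp (DistribMulAction.toAddAut H V)

theorem phiD_apply {H V : Type*} [Group H] [AddGroup V] [DistribMulAction H V] (h : H)
    (v : Multiplicative V) :
    phiD H V h v = Multiplicative.ofAdd (h • Multiplicative.toAdd v) := rfl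

/-- A finite group acting fixed-point-freely on a finite nontrivial additive group is a
Frobenius complement in some finite group. -/
theorem exists_frobenius_of_fpf_distrib {H V : Type} [Group H] [Finite H] [Nontrivial H]
    [AddGroup V] [Finite V] [Nontrivial V] [DistribMulAction H V]
    (hfpf : ∀ h : H, h ≠ 1 → ∀ v : V, h • v = v → v = 0) :
    ∃ (L : Type) (_ : Group L) (_ : Finite L) (K : Subgroup L),
      Cfsg.IsFrobeniusComplement K ∧ Nonempty (K ≃* H) := by
  have hNnt : Nontrivial (Multiplicative V) := ‹Nontrivial V›
  have hNfin : Finite (Multiplicative V) := ‹Finite V›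
  have hf : ∀ h : H, h ≠ 1 → ∀ a : Multiplicative V, phiD H V h a = a → a = 1 := by
    intro h hh a ha
    rw [phiD_apply] at ha
    have h1 : h • Multiplicative.toAdd a = Multiplicative.toAdd a := congrArg Multiplicative.toAdd ha
    have h2 := hfpf h hh _ h1
    have : a = Multiplicative.ofAdd (Multiplicative.toAdd a) := rfl
    rw [this, h2]; rfl
  exact ⟨Multiplicative V ⋊[phiD H V] H, inferInstance, inferInstance,
    (SemidirectProduct.inr : H →* Multiplicative V ⋊[phiD H V] H).range,
    isFrobeniusComplement_inr_range (phiD H V) hf, ⟨(inrRangeEquiv (phiD H V)).symm⟩⟩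

end distrib

section matrix

/-- the distributive action on column vectors attached to a matrix representation -/
@[reducible] def matAct {G n R : Type*} [Monoid G] [Fintype n] [DecidableEq n] [CommRing R]
    (ψ : G →* Matrix n n R) : DistribMulAction G (n → R) where
  smul g v := (ψ g).mulVec v
  one_smul v := by
    show (ψ 1).mulVec v = v
    rw [map_one, Matrix.one_mulVec]
  mul_smul g h v := by
    show (ψ (g * h)).mulVec v = (ψ g).mulVec ((ψ h).mulVec v)
    rw [map_mul, Matrix.mulVec_mulVec]
  smul_zero g := Matrix.mulVec_zero _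
  smul_add g v w := Matrix.mulVec_add _ v w

/-- A finite group with a fixed-point-free matrix representation over a finite ring is a
Frobenius complement in some finite group. -/
theorem exists_frobenius_of_fpf_matrix {H n R : Type} [Group H] [Finite H] [Nontrivial H]
    [Fintype n] [DecidableEq n] [Nonempty n] [CommRing R] [Finite R] [Nontrivial R]
    (ψ : H →* Matrix n n R)
    (hfpf : ∀ h : H, h ≠ 1 → ∀ v : n → R, (ψ h).mulVec v = v → v = 0) :
    ∃ (L : Type) (_ : Group L) (_ : Finite L) (K : Subgroup L),
      Cfsg.IsFrobeniusComplement K ∧ Nonempty (K ≃* H) := by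
  letI := matAct ψ
  exact exists_frobenius_of_fpf_distrib (H := H) (V := n → R) hfpf

end matrix

end Cfsg.Agent.Lib.Helper8
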