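import Mathlib
import Cfsg.Agent.Lib.Lead.S3Basic
import Cfsg.Agent.Lib.Lead.S3F2
import Cfsg.Agent.Lib.Helper8.SBS4

/-!
# S4305, case (b): the family of hyperplanes with non-zero fixed points
-/

set_option autoImplicit false
set_option linter.unusedSectionVars false
set_option linter.unusedVariables false

namespace Cfsg.Agent.Lib.Helper8.S3BFam

open Cfsg.Agent.Lib.Lead.S3
open Cfsg.Agent.Lib.Helper8.SBS

universe u w

variable {V : Type u} [AddCommGroup V] [Finite V] {T : Type w} [Group T] [Finite T]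
  [DistribMulAction T V] {p : ℕ} {H : Subgroup T} {s t : T}

/-- the hyperplanes `Q₀` of the normal elementary abelian `q`-subgroup `Q` with `C_V(Q₀) ≠ 0`:
a non-empty family of proper subgroups of `Q`, stable under conjugation, each of them containing
`[Q, a]` for some `a ≠ 1` of `⟨s, t⟩`. -/
theorem exists_family (h : Crit V p H s t) {q : ℕ} (hq : q.Prime) (hqp : q ≠ p)
    {Q : Subgroup T} (hQn : Q.Normal) (hQH : Q ≤ H) (hQq : IsPGroup q Q)
    (hQc : ∀ x ∈ Q, ∀ y ∈ Q, x * y = y * x) (hQ1 : Q ≠ ⊥) (hQe : ∀ y ∈ Q, y ^ q = 1) :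
    ∃ 𝓗 : Set (Subgroup T), 𝓗.Nonempty ∧ (∀ Q0 ∈ 𝓗, Q0 < Q) ∧
      (∀ Q0 ∈ 𝓗, ∀ g : T, Q0.map (MulAut.conj g).toMonoidHom ∈ 𝓗) ∧
      (∀ Q0 ∈ 𝓗, ∃ a ∈ Subgroup.closure ({s, t} : Set T), a ≠ 1 ∧
        ∀ y ∈ Q, a * y * a⁻¹ * y⁻¹ ∈ Q0) := by
  have : Fact q.Prime := ⟨hq⟩
  have hQ0 : fixedPts (V := V) Q = ⊥ := h.fixedPts_eq_bot_of_normal hQn hQH hQ1
  have hcopQ : (Nat.card V).Coprime (Nat.card Q) := h.coprime_V_of_isPGroup hq hqp hQq
  have hcopq : (Nat.card V).Coprime q :=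
    h.coprime_V ((Nat.coprime_primes h.hp hq).2 (Ne.symm hqp))
  refine ⟨{K | IsHyp (V := V) q Q K}, ?_, ?_, ?_, ?_⟩
  · -- non-empty
    by_contra hemp
    rw [Set.not_nonempty_iff_eq_empty] at hemp
    obtain ⟨v, hv⟩ := h.hV
    apply hv
    have key := span_hyperplanes (V := V) hcopq Q hQc hQe ⊥ ?_ v
    · exact (AddSubgroup.mem_bot).1 key
    · intro K hKQ hK
      rcases hK with rfl | hK
      · rw [hQ0]
      · by_contra hne
        have hKh : IsHyp (V := V) q Q K := ⟨hKQ, hK, fun e => hne (by rw [e])⟩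
        have : K ∈ ({K | IsHyp (V := V) q Q K} : Set (Subgroup T)) := hKh
        rw [hemp] at this
        exact this
  · -- proper
    intro Q0 hQ0'
    obtain ⟨h1, h2, _⟩ := hQ0'
    refine lt_of_le_of_ne h1 ?_
    intro e
    rw [e] at h2
    have hpos : 0 < Nat.card Q := Nat.card_pos
    have : Nat.card Q * q = Nat.card Q * 1 := by rw [h2, mul_one]
    have := Nat.eq_of_mul_eq_mul_left hpos this
    exact hq.one_lt.ne' this
  · -- conjugation
    intro Q0 hQ0' g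
    exact isHyp_conjSub hQ0' g
  · -- (L-star)
    intro Q0 hQ0'
    obtain ⟨a, ha, ha1, _, ha2⟩ := Cfsg.Agent.Lib.Lead.S3F2.exists_trivial_mod_hyp (V := V)
      (A := Subgroup.closure ({s, t} : Set T)) hQc hQ0 hcopQ h.coprime_V_closure
      h.fixedPts_closure hQ0'
    exact ⟨a, ha, ha1, ha2⟩

end Cfsg.Agent.Lib.Helper8.S3BFam
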