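import Mathlib
import Cfsg.Agent.Lib.Helper7.SameOrd1

set_option autoImplicit false

/-!
# Groups with the same order type: passing to the quotient by a normal Sylow subgroup
-/

namespace Cfsg.Agent.Lib.Helper8.SameOrdSS

open Cfsg.Agent.Lib.Helper7.SameOrd

universe u v

/-- `G` and `H` have the same number of elements of each order. -/
def SameType (G : Type u) (H : Type v) [Group G] [Group H] : Prop :=
  ∀ m : ℕ, s G m = s H m

section basic

variable {G : Type u} {H : Type v} [Group G] [Finite G] [Group H] [Finite H]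

theorem dvdSet (d : ℕ) (hd : 0 < d) : ∀ m, m ∣ d ↔ m ∈ Nat.divisors d := by
  intro m
  rw [Nat.mem_divisors]
  exact ⟨fun h => ⟨h, hd.ne'⟩, fun h => h.1⟩

theorem SameType.card_pow (hT : SameType G H) (d : ℕ) (hd : 0 < d) :
    Nat.card {g : G // g ^ d = 1} = Nat.card {h : H // h ^ d = 1} := by
  rw [card_pow_eq_one (G := G) d hd (Nat.divisors d) (dvdSet d hd),
    card_pow_eq_one (G := H) d hd (Nat.divisors d) (dvdSet d hd)]
  exact Finset.sum_congr rfl (fun m _ => hT m)

theorem card_pow_card_mul (X : Type*) [Group X] [Finite X] (k : ℕ) :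
    Nat.card {g : X // g ^ (Nat.card X * k) = 1} = Nat.card X := by
  apply Nat.card_congr
  exact Equiv.subtypeUnivEquiv (fun g => by rw [pow_mul, pow_card_eq_one', one_pow])

theorem SameType.card_eq (hT : SameType G H) : Nat.card G = Nat.card H := by
  have hpos : 0 < Nat.card G * Nat.card H := Nat.mul_pos Nat.card_pos Nat.card_pos
  have h1 := hT.card_pow (Nat.card G * Nat.card H) hpos
  rw [card_pow_card_mul G (Nat.card H)] at h1
  rw [mul_comm, card_pow_card_mul H (Nat.card G)] at h1
  exact h1

end basic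

section normalSylow

variable {X : Type u} [Group X] [Finite X]

/-- if the number of solutions of `x ^ (q ^ a) = 1` is the order `q ^ a` of a Sylow subgroup,
the Sylow subgroup is normal. -/
theorem exists_normal_of_card_pow {q : ℕ} (hq : q.Prime)
    (hcount : Nat.card {x : X // x ^ (q ^ (Nat.card X).factorization q) = 1} =
      q ^ (Nat.card X).factorization q) :
    ∃ R : Subgroup X, R.Normal ∧ Nat.card R = q ^ (Nat.card X).factorization q := by
  have : Fact q.Prime := ⟨hq⟩
  obtain ⟨R₀⟩ : Nonempty (Sylow q X) := inferInstance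
  have hcard : Nat.card (R₀ : Subgroup X) = q ^ (Nat.card X).factorization q :=
    R₀.card_eq_multiplicity
  let ι : ↥(R₀ : Subgroup X) → {x : X // x ^ (q ^ (Nat.card X).factorization q) = 1} :=
    fun r => ⟨r.1, by
      have h2 : (r ^ Nat.card (R₀ : Subgroup X) : ↥(R₀ : Subgroup X)) = 1 := pow_card_eq_one'
      have h3 := congrArg Subtype.val h2
      rw [SubgroupClass.coe_pow, OneMemClass.coe_one, hcard] at h3
      exact h3⟩
  have hinj : Function.Injective ι := by
    intro r1 r2 h
    have h' : (ι r1).1 = (ι r2).1 := congrArg Subtype.val h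
    exact Subtype.ext h'
  have hbij := hinj.bijective_of_nat_card_le (by rw [hcount, hcard])
  refine ⟨(R₀ : Subgroup X), ⟨?_⟩, hcard⟩
  intro n hn g
  have h1 : (g * n * g⁻¹) ^ (q ^ (Nat.card X).factorization q) = 1 := by
    rw [conj_pow]
    have := (ι ⟨n, hn⟩).2
    change n ^ (q ^ (Nat.card X).factorization q) = 1 at this
    rw [this, mul_one, mul_inv_cancel]
  obtain ⟨r, hr⟩ := hbij.2 ⟨g * n * g⁻¹, h1⟩
  have : (r : X) = g * n * g⁻¹ := congrArg Subtype.val hr
  rw [← this]
  exact r.2

/-- a normal Sylow `q`-subgroup is the set of solutions of `x ^ (q ^ a) = 1`. -/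
theorem card_pow_of_normal {q : ℕ} (hq : q.Prime) (Q : Subgroup X) [Q.Normal]
    (hQ : Nat.card Q = q ^ (Nat.card X).factorization q) :
    Nat.card {x : X // x ^ (q ^ (Nat.card X).factorization q) = 1} =
      q ^ (Nat.card X).factorization q := by
  refine (Nat.card_congr ?_).trans hQ
  apply Equiv.subtypeEquivRight
  intro x
  constructor
  · intro hx
    have hcop : (q ^ (Nat.card X).factorization q).Coprime (Nat.card (X ⧸ Q)) := by
      have h1 : Nat.card X = Nat.card (X ⧸ Q) * Nat.card Q :=
        Subgroup.card_eq_card_quotient_mul_card_subgroup Q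
      have h2 : Nat.card (X ⧸ Q) = Nat.card X / q ^ (Nat.card X).factorization q :=
        (Nat.div_eq_of_eq_mul_left (pow_pos hq.pos _) (h1.trans (by rw [hQ]))).symm
      rw [h2]
      exact Nat.Coprime.pow_left _ (Nat.coprime_ordCompl hq Nat.card_pos.ne')
    have h3 : (QuotientGroup.mk x : X ⧸ Q) ^ (q ^ (Nat.card X).factorization q) = 1 := by
      rw [← QuotientGroup.mk_pow, hx, QuotientGroup.mk_one]
    have h4 : (QuotientGroup.mk x : X ⧸ Q) ^ Nat.card (X ⧸ Q) = 1 := pow_card_eq_one'
    have h5 : orderOf (QuotientGroup.mk x : X ⧸ Q) ∣ 1 := by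
      have := Nat.dvd_gcd (orderOf_dvd_of_pow_eq_one h3) (orderOf_dvd_of_pow_eq_one h4)
      rwa [hcop] at this
    have h6 : (QuotientGroup.mk x : X ⧸ Q) = 1 := orderOf_eq_one_iff.mp (Nat.dvd_one.mp h5)
    exact (QuotientGroup.eq_one_iff x).mp h6
  · intro hx
    have h2 : ((⟨x, hx⟩ : Q) ^ Nat.card Q : Q) = 1 := pow_card_eq_one'
    have h3 := congrArg Subtype.val h2
    rw [SubgroupClass.coe_pow, OneMemClass.coe_one, hQ] at h3
    exact h3

end normalSylow

end Cfsg.Agent.Lib.Helper8.SameOrdSS
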