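import Mathlib
import Cfsg.Agent.Lib.Helper8.SameOrdSS1
import Cfsg.Agent.Lib.Helper2.SupersolvableTower

set_option autoImplicit false

/-!
# A group with the same order type as a supersolvable group is solvable
-/

namespace Cfsg.Agent.Lib.Helper8.SameOrdSS

open Cfsg.Agent.Lib.Helper7.SameOrd

universe u v

section quotient

variable {X : Type u} [Group X] [Finite X]

/-- the order of the image of `x` modulo a normal Sylow `q`-subgroup. -/
theorem orderOf_mk_eq_iff {q a m : ℕ} (hq : q.Prime) (Q : Subgroup X) [Q.Normal]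
    (hQ : Nat.card Q = q ^ a) (hcop : q.Coprime (Nat.card (X ⧸ Q))) (hm : 0 < m)
    (hqm : q.Coprime m) (x : X) :
    orderOf (QuotientGroup.mk x : X ⧸ Q) = m ↔ ∃ j ∈ Finset.range (a + 1), orderOf x = m * q ^ j := by
  have hpowQ : ∀ k : ℕ, (QuotientGroup.mk x : X ⧸ Q) ^ k = 1 → x ^ (k * q ^ a) = 1 := by
    intro k hk
    rw [← QuotientGroup.mk_pow] at hk
    have hmem : x ^ k ∈ Q := (QuotientGroup.eq_one_iff _).mp hk
    have h2 : ((⟨x ^ k, hmem⟩ : Q) ^ Nat.card Q : Q) = 1 := pow_card_eq_one'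
    have h3 := congrArg Subtype.val h2
    rw [SubgroupClass.coe_pow, OneMemClass.coe_one, hQ] at h3
    rw [pow_mul]
    exact h3
  have hdvd1 : orderOf (QuotientGroup.mk x : X ⧸ Q) ∣ orderOf x :=
    orderOf_map_dvd (QuotientGroup.mk' Q) x
  have hdcop : (orderOf (QuotientGroup.mk x : X ⧸ Q)).Coprime q :=
    (Nat.Coprime.coprime_dvd_right (orderOf_dvd_natCard _) hcop).symm
  constructor
  · intro hd
    have h1 : m ∣ orderOf x := hd ▸ hdvd1
    obtain ⟨t, ht⟩ := h1
    have h2 : orderOf x ∣ m * q ^ a :=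
      orderOf_dvd_of_pow_eq_one (hpowQ m (by rw [← hd]; exact pow_orderOf_eq_one _))
    rw [ht] at h2
    have h3 : t ∣ q ^ a := (Nat.mul_dvd_mul_iff_left hm).mp h2
    obtain ⟨j, hj, rfl⟩ := (Nat.dvd_prime_pow hq).mp h3
    exact ⟨j, Finset.mem_range.mpr (by omega), ht⟩
  · rintro ⟨j, -, hj⟩
    set d := orderOf (QuotientGroup.mk x : X ⧸ Q) with hd
    have h1 : d ∣ m := by
      have : d ∣ m * q ^ j := hj ▸ hdvd1
      exact (Nat.Coprime.pow_right j hdcop).dvd_of_dvd_mul_right this
    have h2 : m ∣ d := by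
      have h3 : orderOf x ∣ d * q ^ a :=
        orderOf_dvd_of_pow_eq_one (hpowQ d (pow_orderOf_eq_one _))
      rw [hj] at h3
      have h4 : m ∣ d * q ^ a := (Dvd.intro _ rfl).trans h3
      exact (Nat.Coprime.pow_right a hqm.symm).dvd_of_dvd_mul_right h4
    exact Nat.dvd_antisymm h1 h2

open Classical in
/-- counting the elements of `X` whose image has order `m`. -/
theorem card_mul_s_quotient {q a m : ℕ} (hq : q.Prime) (Q : Subgroup X) [Q.Normal]
    (hQ : Nat.card Q = q ^ a) (hcop : q.Coprime (Nat.card (X ⧸ Q))) (hm : 0 < m)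
    (hqm : q.Coprime m) :
    q ^ a * s (X ⧸ Q) m = ∑ j ∈ Finset.range (a + 1), s X (m * q ^ j) := by
  haveI : Fintype X := Fintype.ofFinite X
  have h1 := QuotientGroup.card_preimage_mk Q {y : X ⧸ Q | orderOf y = m}
  have h2 : Nat.card ↥{y : X ⧸ Q | orderOf y = m} = s (X ⧸ Q) m := rfl
  rw [h2, hQ] at h1
  rw [← h1]
  have h3 : Nat.card ↥((QuotientGroup.mk : X → X ⧸ Q) ⁻¹' {y : X ⧸ Q | orderOf y = m}) =
      (Finset.univ.filter (fun x : X => orderOf (QuotientGroup.mk x : X ⧸ Q) = m)).card := by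
    have h5 : Nat.card ↥((QuotientGroup.mk : X → X ⧸ Q) ⁻¹' {y : X ⧸ Q | orderOf y = m}) =
        Nat.card {x : X // orderOf (QuotientGroup.mk x : X ⧸ Q) = m} := rfl
    rw [h5, Nat.card_eq_fintype_card, Fintype.card_subtype]
  rw [h3]
  have h4 : Finset.univ.filter (fun x : X => orderOf (QuotientGroup.mk x : X ⧸ Q) = m) =
      (Finset.range (a + 1)).biUnion
        (fun j => Finset.univ.filter (fun x : X => orderOf x = m * q ^ j)) := by
    ext x
    simp only [Finset.mem_filter, Finset.mem_univ, true_and, Finset.mem_biUnion]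
    exact orderOf_mk_eq_iff hq Q hQ hcop hm hqm x
  rw [h4, Finset.card_biUnion]
  · apply Finset.sum_congr rfl
    intro j _
    unfold s
    rw [Nat.card_eq_fintype_card, Fintype.card_subtype]
  · intro j _ j' _ hjj'
    rw [Function.onFun, Finset.disjoint_filter]
    intro x _ hx hx'
    rw [hx] at hx'
    have h5 : q ^ j = q ^ j' := Nat.eq_of_mul_eq_mul_left hm hx'
    exact hjj' (Nat.pow_right_injective hq.two_le h5)

end quotient

section main

variable {G : Type u} {H : Type v} [Group G] [Finite G] [Group H] [Finite H]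

theorem s_zero (X : Type*) [Group X] [Finite X] : s X 0 = 0 := by
  rw [s_eq_zero_iff]
  rintro ⟨x, hx⟩
  exact (orderOf_pos x).ne' hx

theorem s_eq_zero_of_dvd {Y : Type*} [Group Y] [Finite Y] {q m : ℕ} (hq : q.Prime)
    (hqdvd : q ∣ m) (hY : q.Coprime (Nat.card Y)) : s Y m = 0 := by
  by_contra hne
  have := dvd_card_of_s_pos (G := Y) (Nat.pos_of_ne_zero hne)
  exact (Nat.Prime.dvd_iff_not_coprime hq).mp (hqdvd.trans this) hY

theorem SameType.quotient (hT : SameType G H) {q a : ℕ} (hq : q.Prime)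
    (Q : Subgroup G) [Q.Normal] (R : Subgroup H) [R.Normal] (hQ : Nat.card Q = q ^ a)
    (hR : Nat.card R = q ^ a) (hcopG : q.Coprime (Nat.card (G ⧸ Q)))
    (hcopH : q.Coprime (Nat.card (H ⧸ R))) : SameType (G ⧸ Q) (H ⧸ R) := by
  intro m
  rcases Nat.eq_zero_or_pos m with rfl | hm
  · rw [s_zero, s_zero]
  by_cases hqm : q.Coprime m
  · have h1 := card_mul_s_quotient hq Q hQ hcopG hm hqm
    have h2 := card_mul_s_quotient hq R hR hcopH hm hqm
    have h3 : ∑ j ∈ Finset.range (a + 1), s G (m * q ^ j) =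
        ∑ j ∈ Finset.range (a + 1), s H (m * q ^ j) :=
      Finset.sum_congr rfl (fun j _ => hT _)
    rw [← h1, ← h2] at h3
    exact Nat.eq_of_mul_eq_mul_left (pow_pos hq.pos a) h3
  · have hqdvd : q ∣ m := (Nat.Prime.dvd_iff_not_coprime hq).mpr hqm
    rw [s_eq_zero_of_dvd hq hqdvd hcopG, s_eq_zero_of_dvd hq hqdvd hcopH]

theorem solvable_of_sameType_aux : ∀ (n : ℕ) (G : Type u) (H : Type v) [Group G] [Finite G]
    [Group H] [Finite H], Nat.card G = n → Cfsg.IsSupersolvable G → SameType G H →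
    Group.IsSolvable H := by
  intro n
  induction n using Nat.strong_induction_on with
  | _ n ih =>
    intro G H _ _ _ _ hn hG hT
    have hcard : Nat.card H = n := by rw [← hT.card_eq, hn]
    by_cases hn1 : n = 1
    · haveI : Subsingleton H := by
        rw [← Finite.card_le_one_iff_subsingleton, hcard, hn1]
      exact Group.isSolvable_of_comm (fun a b => by rw [Subsingleton.elim a b])
    have hnpos : 0 < n := by rw [← hn]; exact Nat.card_pos
    have hn2 : 1 < n := by omega
    have hne : n.primeFactors.Nonempty := Nat.nonempty_primeFactors.mpr hn2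
    set q := n.primeFactors.max' hne with hqdef
    have hqmem : q ∈ n.primeFactors := Finset.max'_mem _ hne
    obtain ⟨hq, hqn, -⟩ := Nat.mem_primeFactors.mp hqmem
    have hmax : ∀ r : ℕ, r.Prime → r ∣ Nat.card G → r ≤ q := by
      intro r hr hrG
      rw [hn] at hrG
      exact Finset.le_max' _ r (Nat.mem_primeFactors.mpr ⟨hr, hrG, hnpos.ne'⟩)
    obtain ⟨Q, hQn, hQc⟩ := Cfsg.Agent.Lib.Helper2.exists_normal_sylow_largest_prime hG q hq hmax
    haveI := hQn
    -- count q-elements
    have h1 := card_pow_of_normal hq Q hQc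
    have hpos : 0 < q ^ (Nat.card G).factorization q := pow_pos hq.pos _
    rw [hT.card_pow _ hpos] at h1
    have hfac : (Nat.card G).factorization q = (Nat.card H).factorization q := by
      rw [hn, hcard]
    rw [hfac] at h1
    obtain ⟨R, hRn, hRc⟩ := exists_normal_of_card_pow hq h1
    haveI := hRn
    rw [← hfac] at hRc
    -- coprimality of the quotients
    have hcopG : q.Coprime (Nat.card (G ⧸ Q)) := by
      have h2 : Nat.card G = Nat.card (G ⧸ Q) * Nat.card Q :=
        Subgroup.card_eq_card_quotient_mul_card_subgroup Q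
      have h3 : Nat.card (G ⧸ Q) = Nat.card G / q ^ (Nat.card G).factorization q :=
        (Nat.div_eq_of_eq_mul_left hpos (h2.trans (by rw [hQc]))).symm
      rw [h3]
      exact Nat.coprime_ordCompl hq Nat.card_pos.ne'
    have hcardquot : Nat.card (G ⧸ Q) = Nat.card (H ⧸ R) := by
      have h2 : Nat.card G = Nat.card (G ⧸ Q) * Nat.card Q :=
        Subgroup.card_eq_card_quotient_mul_card_subgroup Q
      have h2' : Nat.card H = Nat.card (H ⧸ R) * Nat.card R :=
        Subgroup.card_eq_card_quotient_mul_card_subgroup R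
      rw [hQc] at h2
      rw [hRc] at h2'
      have : Nat.card (G ⧸ Q) * q ^ (Nat.card G).factorization q =
          Nat.card (H ⧸ R) * q ^ (Nat.card G).factorization q :=
        h2.symm.trans (hT.card_eq.trans h2')
      exact Nat.eq_of_mul_eq_mul_right hpos this
    have hcopH : q.Coprime (Nat.card (H ⧸ R)) := hcardquot ▸ hcopG
    have hTq : SameType (G ⧸ Q) (H ⧸ R) := hT.quotient hq Q R hQc hRc hcopG hcopH
    have hlt : Nat.card (G ⧸ Q) < n := by
      have h2 : Nat.card G = Nat.card (G ⧸ Q) * Nat.card Q :=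
        Subgroup.card_eq_card_quotient_mul_card_subgroup Q
      have hQ2 : 2 ≤ Nat.card Q := by
        rw [hQc]
        have hfpos : 0 < (Nat.card G).factorization q := by
          rw [hn]
          exact hq.factorization_pos_of_dvd hnpos.ne' hqn
        calc 2 ≤ q := hq.two_le
          _ = q ^ 1 := (pow_one q).symm
          _ ≤ q ^ (Nat.card G).factorization q := Nat.pow_le_pow_right hq.pos hfpos
      have hqpos : 0 < Nat.card (G ⧸ Q) := Nat.card_pos
      rw [← hn, h2]
      nlinarith
    have hSS : Cfsg.IsSupersolvable (G ⧸ Q) :=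
      Cfsg.Agent.Lib.Helper2.isSupersolvable_of_surjective (QuotientGroup.mk' Q)
        (QuotientGroup.mk'_surjective Q) hG
    haveI : Group.IsSolvable (H ⧸ R) := ih _ hlt (G ⧸ Q) (H ⧸ R) rfl hSS hTq
    haveI : Fact q.Prime := ⟨hq⟩
    haveI : Group.IsSolvable R := by
      have hp : IsPGroup q R := IsPGroup.of_card hRc
      exact @IsNilpotent.to_isSolvable _ _ hp.isNilpotent
    exact Group.isSolvable_of_ker_le_range R.subtype (QuotientGroup.mk' R) (by simp)

theorem solvable_of_sameType (hT : ∀ m : ℕ, Nat.card {g : G // orderOf g = m} =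
    Nat.card {h : H // orderOf h = m}) (hG : Cfsg.IsSupersolvable G) : Group.IsSolvable H :=
  solvable_of_sameType_aux (Nat.card G) G H rfl hG hT

end main

end Cfsg.Agent.Lib.Helper8.SameOrdSS
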