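import Cfsg.Agent.Lib.Helper8.SchBound
import Cfsg.Agent.Lib.Helper7.SchLA1
import Cfsg.Agent.Lib.Helper7.SchLA2

/-!
# S4395: `bound` (exact stub signature)
-/

set_option autoImplicit false
universe u

namespace Cfsg.Agent.Lib.Lead.Sch

/-! ### BOUND -/
theorem bound {X : Type u} [Group X] [Finite X] (p q : ℕ) [Fact p.Prime] [Fact q.Prime] (hpq : p ≠ q)
    (sd : SD p q X) : Nat.card sd.P ≤ p ^ a0 p q :=
  bound_of hpq sd (irr_card p q hpq sd.T (sd.irrMod hpq)) (alt_count p q hpq sd.T (sd.irrMod hpq))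

end Cfsg.Agent.Lib.Lead.Sch
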