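import Cfsg.Agent.Lib.Helper3.TN5

/-!
# Carve-out Z1 (project S2099): an endomorphism of the natural module commuting with all short
root elements is a scalar
-/

set_option autoImplicit false
set_option linter.unusedSectionVars false

namespace Cfsg.Agent.Lib.Carve.Z1

open Cfsg.Agent.Lib.Helper3.DN Cfsg.Agent.Lib.Helper3.TN Cfsg.Agent.Lib.Helper3.TW

section
variable {J K K' G : Type*} [Field K] [Field K'] [Algebra K K'] [Group G]
  [DecidableEq J] {ν : J → J} {τ : Tw K K'} {B : TData J K K' G ν τ}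
  {φ : G →* Module.End K (Mod J K K')} (hφ : IsRepT B φ)
  (M : Module.End K (Mod J K K'))
  (hM : ∀ k w, M * φ (B.Y k w) = φ (B.Y k w) * M)

include hM in
theorem comm_apply (k : J) (w : K') (x : Mod J K K') :
    M (φ (B.Y k w) x) = φ (B.Y k w) (M x) := by
  have h := congrArg (fun f : Module.End K (Mod J K K') => f x) (hM k w)
  simpa only [Module.End.mul_apply] using h

include hφ hM in
theorem eJ_form (k : J) (u w : K') (h : τ.P w u = 1) :
    ∃ a b : K, M (eJ k : Mod J K K') = a • (eJ k : Mod J K K') - eW (b • u) := by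
  have h1 := comm_apply M hM k u (eW w : Mod J K K')
  rw [repY_W hφ, h, one_smul, map_add, hφ.short k u, add_sub_assoc] at h1
  exact ⟨_, _, add_left_cancel h1⟩

include hφ hM in
theorem eJ_eigen (k : J) : ∃ c : K, M (eJ k : Mod J K K') = c • (eJ k : Mod J K K') := by
  have hδ0 : τ.δ ≠ 0 := by
    intro h
    apply τ.hδ
    rw [h, map_zero]
  have hσδ : τ.σ τ.δ ≠ 0 := fun h => hδ0 (τ.σ_eq_zero.1 h)
  obtain ⟨a, b, h1⟩ := eJ_form hφ M hM k 1 τ.θ τ.P_θ_one
  obtain ⟨a', b', h2⟩ := eJ_form hφ M hM k τ.δ (τ.θ * (τ.σ τ.δ)⁻¹) (by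
    unfold Tw.P
    rw [mul_assoc, inv_mul_cancel₀ hσδ, mul_one, τ.hθ])
  have e1 : (M (eJ k : Mod J K K')).2 = -(b • (1 : K')) := by
    rw [h1]; simp
  have e2 : (M (eJ k : Mod J K K')).2 = -(b' • τ.δ) := by
    rw [h2]; simp
  have hb' : b' = 0 := by
    by_contra hb'
    apply τ.hδ
    rw [τ.fix_iff]
    refine ⟨b'⁻¹ * b, ?_⟩
    have e3 : b' • τ.δ = b • (1 : K') := by
      have := e1.symm.trans e2
      exact (neg_injective this).symm
    have e4 : τ.δ = b'⁻¹ • (b • (1 : K')) := by
      rw [← e3, smul_smul, inv_mul_cancel₀ hb', one_smul]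
    rw [e4, smul_smul, Algebra.algebraMap_eq_smul_one]
  refine ⟨a', ?_⟩
  rw [h2, hb', zero_smul, eW_zero, sub_zero]

include hφ hM in
theorem eW_form (c : J → K) (hc : ∀ k, M (eJ k : Mod J K K') = c k • (eJ k : Mod J K K'))
    (k : J) (w : K') :
    M (eW w : Mod J K K') = c (ν k) • (eW w : Mod J K K') +
      ((c (ν k) - c k) * τ.N w) • (eJ k : Mod J K K') := by
  have h1 := comm_apply M hM k w (eJ (ν k) : Mod J K K')
  rw [hc (ν k), map_smul, repY_nk hφ, map_sub, map_sub, map_smul, hc k, hc (ν k)] at h1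
  have h2 : M (eW w : Mod J K K') = c (ν k) • (eJ (ν k) : Mod J K K') - τ.N w • c k • eJ k -
      c (ν k) • ((eJ (ν k) : Mod J K K') - τ.N w • eJ k - eW w) := by
    rw [← h1]; abel
  rw [h2]
  module

include hφ hM in
theorem c_nu (c : J → K) (hc : ∀ k, M (eJ k : Mod J K K') = c k • (eJ k : Mod J K K'))
    (k : J) : c (ν k) = c k := by
  have h1 := eW_form hφ M hM c hc k 1
  have h2 := eW_form hφ M hM c hc (ν k) 1
  rw [B.D.nu_nu] at h2
  have h3 := congrArg Prod.snd (h1.symm.trans h2)
  simp only [Prod.snd_add, Prod.smul_snd, eW_snd, eJ_snd, smul_zero, add_zero] at h3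
  have h4 : algebraMap K K' (c (ν k)) = algebraMap K K' (c k) := by
    rw [Algebra.algebraMap_eq_smul_one, Algebra.algebraMap_eq_smul_one]; exact h3
  exact (algebraMap K K').injective h4

include hφ hM in
theorem eW_eigen (c : J → K) (hc : ∀ k, M (eJ k : Mod J K K') = c k • (eJ k : Mod J K K'))
    (k : J) (w : K') : M (eW w : Mod J K K') = c k • (eW w : Mod J K K') := by
  rw [eW_form hφ M hM c hc k w, c_nu hφ M hM c hc k, sub_self, zero_mul, zero_smul, add_zero]

include hφ hM in
theorem c_const (c : J → K) (hc : ∀ k, M (eJ k : Mod J K K') = c k • (eJ k : Mod J K K'))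
    (k l : J) : c k = c l := by
  have h1 := eW_eigen hφ M hM c hc k 1
  have h2 := eW_eigen hφ M hM c hc l 1
  have h3 := congrArg Prod.snd (h1.symm.trans h2)
  simp only [Prod.smul_snd, eW_snd] at h3
  have h4 : algebraMap K K' (c k) = algebraMap K K' (c l) := by
    rw [Algebra.algebraMap_eq_smul_one, Algebra.algebraMap_eq_smul_one]; exact h3
  exact (algebraMap K K').injective h4

end

/-- an endomorphism of the natural module commuting with all short root elements is a scalar -/
theorem scalar_of_commT {J K K' G : Type*} [Field K] [Field K'] [Algebra K K'] [Group G]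
    [Fintype J] [DecidableEq J] [Nonempty J] {ν : J → J} {τ : Tw K K'} {B : TData J K K' G ν τ}
    {φ : G →* Module.End K (Mod J K K')} (hφ : IsRepT B φ)
    (M : Module.End K (Mod J K K'))
    (hM : ∀ k w, M * φ (B.Y k w) = φ (B.Y k w) * M) :
    ∃ c : K, M = c • (1 : Module.End K (Mod J K K')) := by
  choose c hc using eJ_eigen hφ M hM
  obtain ⟨k₀⟩ := ‹Nonempty J›
  refine ⟨c k₀, ?_⟩
  have hJ : ∀ l, M (eJ l : Mod J K K') = c k₀ • (eJ l : Mod J K K') := fun l => by
    rw [hc l, c_const hφ M hM c hc l k₀]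
  have hW : ∀ w, M (eW w : Mod J K K') = c k₀ • (eW w : Mod J K K') := fun w =>
    eW_eigen hφ M hM c hc k₀ w
  apply LinearMap.prod_ext
  · apply LinearMap.pi_ext'
    intro l
    apply LinearMap.ext_ring
    exact hJ l
  · apply LinearMap.ext
    intro w
    exact hW w

end Cfsg.Agent.Lib.Carve.Z1
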