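import Mathlib
import Cfsg.Prelude.Def_Characters
import Cfsg.Agent.Lib.Helper8.BPS7

/-!
# Evaluating class functions on the group algebra
-/

set_option autoImplicit false
set_option linter.unusedSectionVars false

namespace Cfsg.Agent.Lib.Helper8.BPS

open Cfsg Cfsg.Agent.Lib.Helper8

variable {G : Type*} [Group G] [Fintype G] [DecidableEq G]

/-- the linear extension of a function on `G` to the group algebra -/
noncomputable def ev (χ : G → ℂ) (x : GA G) : ℂ := ∑ g, x.coeff g * χ g

theorem ev_add (χ : G → ℂ) (x y : GA G) : ev χ (x + y) = ev χ x + ev χ y := by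
  unfold ev
  rw [← Finset.sum_add_distrib]
  refine Finset.sum_congr rfl fun g _ => ?_
  rw [MonoidAlgebra.coeff_add, Finsupp.add_apply, add_mul]

theorem ev_zero (χ : G → ℂ) : ev χ (0 : GA G) = 0 := by
  unfold ev
  simp

theorem ev_neg (χ : G → ℂ) (x : GA G) : ev χ (-x) = -ev χ x := by
  have := ev_add χ x (-x)
  rw [add_neg_cancel, ev_zero] at this
  exact eq_neg_of_add_eq_zero_right this.symm

theorem ev_sub (χ : G → ℂ) (x y : GA G) : ev χ (x - y) = ev χ x - ev χ y := by
  rw [sub_eq_add_neg, ev_add, ev_neg, sub_eq_add_neg]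

theorem ev_smul (χ : G → ℂ) (c : ℂ) (x : GA G) : ev χ (c • x) = c * ev χ x := by
  unfold ev
  rw [Finset.mul_sum]
  refine Finset.sum_congr rfl fun g _ => ?_
  rw [coeff_smul', mul_assoc]

theorem ev_sum (χ : G → ℂ) {ι : Type*} (s : Finset ι) (f : ι → GA G) :
    ev χ (∑ i ∈ s, f i) = ∑ i ∈ s, ev χ (f i) := by
  classical
  induction s using Finset.induction_on with
  | empty => simp [ev_zero]
  | insert a s ha ih => rw [Finset.sum_insert ha, Finset.sum_insert ha, ev_add, ih]

theorem ev_og (χ : G → ℂ) (g : G) : ev χ (og g) = χ g := by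
  unfold ev
  simp_rw [coeff_og]
  rw [Finset.sum_eq_single g]
  · rw [if_pos rfl, one_mul]
  · intro h _ hh
    rw [if_neg (Ne.symm hh), zero_mul]
  · intro h
    exact absurd (Finset.mem_univ g) h

theorem ev_og_mul (χ : G → ℂ) (g : G) (x : GA G) : ev χ (og g * x) = ∑ h, x.coeff h * χ (g * h) := by
  unfold ev
  simp_rw [coeff_og_mul]
  rw [← Equiv.sum_comp (Equiv.mulLeft g)]
  refine Finset.sum_congr rfl fun h _ => ?_
  simp

/-- the trace property -/
theorem ev_mul_comm {χ : G → ℂ} (hχ : IsClassFunction G χ) (x y : GA G) :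
    ev χ (x * y) = ev χ (y * x) := by
  unfold ev
  simp_rw [coeff_mul, Finset.sum_mul]
  rw [Finset.sum_comm]
  conv_rhs => rw [Finset.sum_comm]
  -- both sides are sums over pairs `(h, k)` of `x(h) y(k) χ(hk)`
  have h1 : ∀ h : G, ∑ g : G, x.coeff h * y.coeff (h⁻¹ * g) * χ g =
      ∑ k : G, x.coeff h * y.coeff k * χ (h * k) := by
    intro h
    rw [← Equiv.sum_comp (Equiv.mulLeft h)]
    refine Finset.sum_congr rfl fun k _ => ?_
    simp
  have h2 : ∀ k : G, ∑ g : G, y.coeff k * x.coeff (k⁻¹ * g) * χ g =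
      ∑ h : G, x.coeff h * y.coeff k * χ (h * k) := by
    intro k
    rw [← Equiv.sum_comp (Equiv.mulLeft k)]
    refine Finset.sum_congr rfl fun h _ => ?_
    have : χ (k * h) = χ (h * k) := by
      have := hχ (h * k) k
      rw [← this]
      congr 1
      group
    simp only [Equiv.coe_mulLeft, inv_mul_cancel_left]
    rw [this]
    ring
  simp_rw [h1, h2]
  exact Finset.sum_comm

theorem ev_cj {χ : G → ℂ} (hχ : IsClassFunction G χ) (g : G) (x : GA G) :
    ev χ (cj g x) = ev χ x := by
  unfold cj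
  rw [ev_mul_comm hχ, ← mul_assoc, og_inv_mul, one_mul]

end Cfsg.Agent.Lib.Helper8.BPS
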