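import Mathlib
import Cfsg.Prelude.Def_Blocks
import Cfsg.Prelude.Def_BrauerPairs
import Cfsg.Agent.Lib.Helper8.PairConj3

/-!
# Brauer pairs of a subgroup `X` versus Brauer pairs of `G`: the lifting map

For a subgroup `X` of `G` and a subgroup `R'` of `X` with `C_G(R') ≤ X` the centralizers of `R'`
in `X` and in `G` coincide; this file sets up the resulting dictionary on Brauer pairs.
-/

set_option autoImplicit false
set_option linter.unusedSectionVars false

namespace Cfsg.Agent.Lib.Helper8

open Cfsg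
open scoped ComplexConjugate
open Cfsg.Agent.Lib.Helper1 Cfsg.Agent.Lib.Helper4

universe u

section

variable {G : Type u} [Group G] (X : Subgroup G)

theorem mem_centralizer_map_subtype (R' : Subgroup X) (c : X) :
    (c : G) ∈ Subgroup.centralizer ((R'.map X.subtype : Subgroup G) : Set G) ↔
      c ∈ Subgroup.centralizer (R' : Set X) := by
  rw [Subgroup.mem_centralizer_iff, Subgroup.mem_centralizer_iff]
  constructor
  · intro h r hr
    apply Subtype.ext
    exact h (r : G) ⟨r, hr, rfl⟩
  · rintro h _ ⟨r, hr, rfl⟩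
    have := congrArg (Subtype.val) (h r hr)
    exact this

/-- `C_X(R') ≃* C_G(R')` when `C_G(R') ≤ X`. -/
def centSub (R' : Subgroup X)
    (hCX : Subgroup.centralizer ((R'.map X.subtype : Subgroup G) : Set G) ≤ X) :
    Subgroup.centralizer (R' : Set X) ≃*
      Subgroup.centralizer ((R'.map X.subtype : Subgroup G) : Set G) where
  toFun c := ⟨((c : X) : G), (mem_centralizer_map_subtype X R' c).2 c.2⟩
  invFun c := ⟨⟨(c : G), hCX c.2⟩, (mem_centralizer_map_subtype X R' ⟨c, hCX c.2⟩).1 c.2⟩
  left_inv _ := rfl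
  right_inv _ := rfl
  map_mul' _ _ := rfl

@[simp] theorem centSub_apply_coe (R' : Subgroup X)
    (hCX : Subgroup.centralizer ((R'.map X.subtype : Subgroup G) : Set G) ≤ X)
    (c : Subgroup.centralizer (R' : Set X)) : ((centSub X R' hCX c : _) : G) = ((c : X) : G) := rfl

@[simp] theorem centSub_symm_apply_coe (R' : Subgroup X)
    (hCX : Subgroup.centralizer ((R'.map X.subtype : Subgroup G) : Set G) ≤ X)
    (c : Subgroup.centralizer ((R'.map X.subtype : Subgroup G) : Set G)) :
    ((((centSub X R' hCX).symm c : _) : X) : G) = (c : G) := rfl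

/-- The lift of a set of irreducible characters of `C_X(R')` to `C_G(R')`. -/
def liftBlock (R' : Subgroup X) (g' : Set (IrrCharacter (Subgroup.centralizer (R' : Set X)))) :
    Set (IrrCharacter (Subgroup.centralizer ((R'.map X.subtype : Subgroup G) : Set G))) :=
  {ξ | ∃ ξ' ∈ g', ∀ (c : Subgroup.centralizer (R' : Set X))
      (c' : Subgroup.centralizer ((R'.map X.subtype : Subgroup G) : Set G)),
      (c' : G) = ((c : X) : G) →
        (ξ : _ → ℂ) c' = (ξ' : Subgroup.centralizer (R' : Set X) → ℂ) c}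

theorem liftBlock_eq_image (R' : Subgroup X)
    (hCX : Subgroup.centralizer ((R'.map X.subtype : Subgroup G) : Set G) ≤ X)
    (g' : Set (IrrCharacter (Subgroup.centralizer (R' : Set X)))) :
    liftBlock X R' g' = irrMap (centSub X R' hCX) '' g' := by
  ext ξ
  constructor
  · rintro ⟨ξ', hξ', h⟩
    refine ⟨ξ', hξ', ?_⟩
    apply Subtype.ext
    funext c'
    rw [irrMap_apply]
    symm
    apply h
    rfl
  · rintro ⟨ξ', hξ', rfl⟩
    refine ⟨ξ', hξ', ?_⟩
    intro c c' hc
    have : c' = centSub X R' hCX c := Subtype.ext hc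
    rw [this, irrMap_apply_map]

/-- The lift of a Brauer pair of `X` to `G`. -/
def liftPair (a : BrauerPairIdx X) : BrauerPairIdx G :=
  ⟨a.1.map X.subtype, liftBlock X a.1 a.2⟩

theorem liftPair_fst (a : BrauerPairIdx X) : (liftPair X a).1 = a.1.map X.subtype := rfl

theorem liftPair_fst_le (a : BrauerPairIdx X) : (liftPair X a).1 ≤ X := by
  rintro _ ⟨x, _, rfl⟩
  exact x.2

/-- The lifting map is injective on pairs whose centralizer lies in `X`. -/
theorem liftPair_injective {a b : BrauerPairIdx X}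
    (hCX : Subgroup.centralizer (((liftPair X a).1 : Subgroup G) : Set G) ≤ X)
    (h : liftPair X a = liftPair X b) : a = b := by
  obtain ⟨R, g⟩ := a
  obtain ⟨R₂, g₂⟩ := b
  have h1 : R.map X.subtype = R₂.map X.subtype := congrArg Sigma.fst h
  have h2 : R = R₂ := Subgroup.map_injective X.subtype_injective h1
  subst h2
  have h3 : liftBlock X R g = liftBlock X R g₂ := by
    have := (Sigma.mk.inj_iff.1 h).2
    exact eq_of_heq this
  rw [liftBlock_eq_image X R hCX, liftBlock_eq_image X R hCX] at h3
  have : g = g₂ := (Set.image_injective.2 (irrMap_injective _)) h3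
  rw [this]

/-- Every pair of `G` over a subgroup `R ≤ X` with `C_G(R) ≤ X` is a lift. -/
theorem exists_liftPair_eq (b : BrauerPairIdx G) (hRX : b.1 ≤ X)
    (hCX : Subgroup.centralizer ((b.1 : Subgroup G) : Set G) ≤ X) :
    ∃ a : BrauerPairIdx X, liftPair X a = b := by
  obtain ⟨R, g⟩ := b
  obtain ⟨R', rfl⟩ : ∃ R' : Subgroup X, R = R'.map X.subtype :=
    ⟨R.subgroupOf X, (Subgroup.map_subgroupOf_eq_of_le hRX).symm⟩
  refine ⟨⟨R', irrMap (centSub X R' hCX).symm '' g⟩, ?_⟩
  show (⟨R'.map X.subtype, liftBlock X R' (irrMap (centSub X R' hCX).symm '' g)⟩ :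
    BrauerPairIdx G) = ⟨R'.map X.subtype, g⟩
  rw [liftBlock_eq_image X R' hCX, irrMap_image_symm_image]

end

end Cfsg.Agent.Lib.Helper8
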