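import Mathlib
import Cfsg.Prelude.Def_Blocks
import Cfsg.Prelude.Def_BrauerPairs
import Cfsg.Agent.Lib.Helper8.LP1

/-!
# Normal inclusion of Brauer pairs in a subgroup `X` versus in `G`
-/

set_option autoImplicit false
set_option linter.unusedSectionVars false

namespace Cfsg.Agent.Lib.Helper8

open Cfsg
open scoped ComplexConjugate
open Cfsg.Agent.Lib.Helper1 Cfsg.Agent.Lib.Helper4

universe u

section

variable {G : Type u} [Group G] [Fintype G] {M : Ideal AlgInt} {p : ℕ} (X : Subgroup G)

theorem isPBlock_liftBlock_iff (R' : Subgroup X)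
    (hCX : Subgroup.centralizer ((R'.map X.subtype : Subgroup G) : Set G) ≤ X)
    (g' : Set (IrrCharacter (Subgroup.centralizer (R' : Set X)))) :
    IsPBlock M (liftBlock X R' g') ↔ IsPBlock M g' := by
  classical
  have : Fintype X := Fintype.ofFinite _
  have : Fintype (Subgroup.centralizer (R' : Set X)) := Fintype.ofFinite _
  have : Fintype (Subgroup.centralizer ((R'.map X.subtype : Subgroup G) : Set G)) :=
    Fintype.ofFinite _
  rw [liftBlock_eq_image X R' hCX]
  constructor
  · intro h
    have := isPBlock_image_irrMap (M := M) (centSub X R' hCX).symm h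
    rwa [irrMap_image_image_symm] at this
  · intro h
    exact isPBlock_image_irrMap _ h

theorem isPGroup_map_subtype_iff (R' : Subgroup X) :
    IsPGroup p (R'.map X.subtype) ↔ IsPGroup p R' := by
  constructor
  · intro h
    exact h.of_equiv (R'.equivMapOfInjective X.subtype X.subtype_injective).symm
  · intro h
    exact h.map _

theorem isBrauerPair_lift_iff (R' : Subgroup X)
    (hCX : Subgroup.centralizer ((R'.map X.subtype : Subgroup G) : Set G) ≤ X)
    (g' : Set (IrrCharacter (Subgroup.centralizer (R' : Set X)))) :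
    IsBrauerPair p M (R'.map X.subtype) (liftBlock X R' g') ↔ IsBrauerPair p M R' g' := by
  unfold IsBrauerPair
  rw [isPBlock_liftBlock_iff X R' hCX, isPGroup_map_subtype_iff]

omit [Fintype G] in
theorem mem_normalizer_map_subtype_iff (R' : Subgroup X) (x : X) :
    (x : G) ∈ Subgroup.normalizer ((R'.map X.subtype : Subgroup G) : Set G) ↔
      x ∈ Subgroup.normalizer (R' : Set X) := by
  rw [Subgroup.mem_normalizer_iff, Subgroup.mem_normalizer_iff]
  constructor
  · intro h r
    have := h (r : G)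
    constructor
    · intro hr
      obtain ⟨y, hy, hyr⟩ := this.1 ⟨r, hr, rfl⟩
      have : y = x * r * x⁻¹ := Subtype.ext hyr
      rwa [← this]
    · intro hr
      obtain ⟨y, hy, hyr⟩ := this.2 ⟨x * r * x⁻¹, hr, rfl⟩
      have : y = r := Subtype.ext hyr
      rwa [← this]
  · intro h g
    constructor
    · rintro ⟨r, hr, rfl⟩
      exact ⟨x * r * x⁻¹, (h r).1 hr, rfl⟩
    · rintro ⟨y, hy, hyg⟩
      have hg : g = ((x⁻¹ * y * x : X) : G) := by
        simp only [Subgroup.coe_mul, Subgroup.coe_inv, Subgroup.subtype_apply] at hyg ⊢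
        rw [hyg]
        group
      rw [hg]
      refine ⟨x⁻¹ * y * x, (h _).2 ?_, rfl⟩
      have : x * (x⁻¹ * y * x) * x⁻¹ = y := by group
      rwa [this]

theorem subgroupBlockCoeff_liftBlock (R' : Subgroup X)
    (hCX : Subgroup.centralizer ((R'.map X.subtype : Subgroup G) : Set G) ≤ X)
    (g' : Set (IrrCharacter (Subgroup.centralizer (R' : Set X)))) (x : X) :
    subgroupBlockCoeff (Subgroup.centralizer ((R'.map X.subtype : Subgroup G) : Set G))
      (liftBlock X R' g') (x : G) =
    subgroupBlockCoeff (Subgroup.centralizer (R' : Set X)) g' x := by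
  classical
  have : Fintype X := Fintype.ofFinite _
  have : Fintype (Subgroup.centralizer (R' : Set X)) := Fintype.ofFinite _
  have : Fintype (Subgroup.centralizer ((R'.map X.subtype : Subgroup G) : Set G)) :=
    Fintype.ofFinite _
  by_cases hx : x ∈ Subgroup.centralizer (R' : Set X)
  · rw [subgroupBlockCoeff_of_mem _ _ ((mem_centralizer_map_subtype X R' x).2 hx),
      subgroupBlockCoeff_of_mem _ _ hx, liftBlock_eq_image X R' hCX, blockCoeff_image_irrMap]
    rfl
  · rw [subgroupBlockCoeff_of_not_mem _ _ (fun h => hx ((mem_centralizer_map_subtype X R' x).1 h)),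
      subgroupBlockCoeff_of_not_mem _ _ hx]

theorem subgroupBlockCoeff_liftBlock_of_not_mem (R' : Subgroup X)
    (hCX : Subgroup.centralizer ((R'.map X.subtype : Subgroup G) : Set G) ≤ X)
    (g' : Set (IrrCharacter (Subgroup.centralizer (R' : Set X)))) {y : G} (hy : y ∉ X) :
    subgroupBlockCoeff (Subgroup.centralizer ((R'.map X.subtype : Subgroup G) : Set G))
      (liftBlock X R' g') y = 0 :=
  subgroupBlockCoeff_of_not_mem _ _ (fun h => hy (hCX h))

/-- The Brauer functional of a lifted character. -/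
theorem brauerOmega_lift (R₁' R₂' : Subgroup X)
    (hCX₁ : Subgroup.centralizer ((R₁'.map X.subtype : Subgroup G) : Set G) ≤ X)
    (hCX₂ : Subgroup.centralizer ((R₂'.map X.subtype : Subgroup G) : Set G) ≤ X)
    (g₁' : Set (IrrCharacter (Subgroup.centralizer (R₁' : Set X))))
    (ξ' : IrrCharacter (Subgroup.centralizer (R₂' : Set X))) :
    brauerOmega (R₂'.map X.subtype)
      (subgroupBlockCoeff (Subgroup.centralizer ((R₁'.map X.subtype : Subgroup G) : Set G))
        (liftBlock X R₁' g₁'))
      (irrMap (centSub X R₂' hCX₂) ξ' : _ → ℂ) =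
    brauerOmega R₂' (subgroupBlockCoeff (Subgroup.centralizer (R₁' : Set X)) g₁')
      (ξ' : Subgroup.centralizer (R₂' : Set X) → ℂ) := by
  classical
  have : Fintype X := Fintype.ofFinite _
  have : Fintype (Subgroup.centralizer (R₂' : Set X)) := Fintype.ofFinite _
  have : Fintype (Subgroup.centralizer ((R₂'.map X.subtype : Subgroup G) : Set G)) :=
    Fintype.ofFinite _
  rw [brauerOmega_eq_omega, brauerOmega_eq_omega, omega_irrMap]
  congr 1
  funext c
  exact subgroupBlockCoeff_liftBlock X R₁' hCX₁ g₁' (c : X)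

theorem stabilizesBlock_lift_iff (R' : Subgroup X)
    (hCX : Subgroup.centralizer ((R'.map X.subtype : Subgroup G) : Set G) ≤ X)
    (g' : Set (IrrCharacter (Subgroup.centralizer (R' : Set X)))) (x : X) :
    StabilizesBlock (Subgroup.centralizer ((R'.map X.subtype : Subgroup G) : Set G))
      (liftBlock X R' g') (x : G) ↔
    StabilizesBlock (Subgroup.centralizer (R' : Set X)) g' x := by
  have hmap : (Subgroup.centralizer (R' : Set X)).map X.subtype =
      Subgroup.centralizer ((R'.map X.subtype : Subgroup G) : Set G) := by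
    ext c
    constructor
    · rintro ⟨c', hc', rfl⟩
      exact (mem_centralizer_map_subtype X R' c').2 hc'
    · intro hc
      exact ⟨⟨c, hCX hc⟩, (mem_centralizer_map_subtype X R' ⟨c, hCX hc⟩).1 hc, rfl⟩
  have hnorm : (x : G) ∈ Subgroup.normalizer
      ((Subgroup.centralizer ((R'.map X.subtype : Subgroup G) : Set G) : Subgroup G) : Set G) ↔
      x ∈ Subgroup.normalizer ((Subgroup.centralizer (R' : Set X) : Subgroup X) : Set X) := by
    rw [← hmap]
    exact mem_normalizer_map_subtype_iff X _ x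
  rw [liftBlock_eq_image X R' hCX]
  unfold StabilizesBlock
  rw [hnorm]
  apply and_congr_right
  intro _
  constructor
  · intro h χ hχ
    obtain ⟨_, ⟨χ', hχ', rfl⟩, hc⟩ := h _ ⟨χ, hχ, rfl⟩
    refine ⟨χ', hχ', ?_⟩
    intro k k' hk
    have := hc (centSub X R' hCX k) (centSub X R' hCX k') (by
      rw [centSub_apply_coe, centSub_apply_coe, hk]
      rfl)
    rwa [irrMap_apply_map, irrMap_apply_map] at this
  · rintro h _ ⟨χ, hχ, rfl⟩
    obtain ⟨χ', hχ', hc⟩ := h χ hχ
    refine ⟨_, ⟨χ', hχ', rfl⟩, ?_⟩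
    intro k k' hk
    rw [irrMap_apply, irrMap_apply]
    apply hc
    apply Subtype.ext
    rw [centSub_symm_apply_coe, hk]
    rfl

/-- **Normal inclusion of pairs of `X` agrees with normal inclusion of the lifted pairs.** -/
theorem isNormalSubpair_lift_iff (R₁' R₂' : Subgroup X)
    (hCX₁ : Subgroup.centralizer ((R₁'.map X.subtype : Subgroup G) : Set G) ≤ X)
    (g₁' : Set (IrrCharacter (Subgroup.centralizer (R₁' : Set X))))
    (g₂' : Set (IrrCharacter (Subgroup.centralizer (R₂' : Set X)))) :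
    IsNormalSubpair p M (R₁'.map X.subtype) (liftBlock X R₁' g₁') (R₂'.map X.subtype)
      (liftBlock X R₂' g₂') ↔ IsNormalSubpair p M R₁' g₁' R₂' g₂' := by
  have key : R₁' ≤ R₂' →
      Subgroup.centralizer ((R₂'.map X.subtype : Subgroup G) : Set G) ≤ X := by
    intro h
    refine le_trans (Subgroup.centralizer_le ?_) hCX₁
    exact_mod_cast Subgroup.map_mono h
  have hle : R₁'.map X.subtype ≤ R₂'.map X.subtype ↔ R₁' ≤ R₂' :=
    Subgroup.map_le_map_iff_of_injective X.subtype_injective
  have hnorm : R₂'.map X.subtype ≤ Subgroup.normalizer ((R₁'.map X.subtype : Subgroup G) : Set G) ↔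
      R₂' ≤ Subgroup.normalizer (R₁' : Set X) := by
    constructor
    · intro h x hx
      exact (mem_normalizer_map_subtype_iff X R₁' x).1 (h ⟨x, hx, rfl⟩)
    · rintro h _ ⟨x, hx, rfl⟩
      exact (mem_normalizer_map_subtype_iff X R₁' x).2 (h hx)
  have hstab : (∀ x ∈ R₂'.map X.subtype, StabilizesBlock
      (Subgroup.centralizer ((R₁'.map X.subtype : Subgroup G) : Set G)) (liftBlock X R₁' g₁') x) ↔
      ∀ x ∈ R₂', StabilizesBlock (Subgroup.centralizer (R₁' : Set X)) g₁' x := by
    constructor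
    · intro h x hx
      exact (stabilizesBlock_lift_iff X R₁' hCX₁ g₁' x).1 (h _ ⟨x, hx, rfl⟩)
    · rintro h _ ⟨x, hx, rfl⟩
      exact (stabilizesBlock_lift_iff X R₁' hCX₁ g₁' x).2 (h x hx)
  unfold IsNormalSubpair
  constructor
  · rintro ⟨h1, h2, h3, h4, h5, h6⟩
    have h3' := hle.1 h3
    have hCX₂ := key h3'
    refine ⟨(isBrauerPair_lift_iff X R₁' hCX₁ g₁').1 h1, (isBrauerPair_lift_iff X R₂' hCX₂ g₂').1 h2,
      h3', hnorm.1 h4, hstab.1 h5, ?_⟩
    intro ξ' hξ'
    have := h6 (irrMap (centSub X R₂' hCX₂) ξ') (by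
      rw [liftBlock_eq_image X R₂' hCX₂]
      exact ⟨ξ', hξ', rfl⟩)
    rwa [brauerOmega_lift X R₁' R₂' hCX₁ hCX₂] at this
  · rintro ⟨h1, h2, h3, h4, h5, h6⟩
    have hCX₂ := key h3
    refine ⟨(isBrauerPair_lift_iff X R₁' hCX₁ g₁').2 h1, (isBrauerPair_lift_iff X R₂' hCX₂ g₂').2 h2,
      hle.2 h3, hnorm.2 h4, hstab.2 h5, ?_⟩
    intro ξ hξ
    rw [liftBlock_eq_image X R₂' hCX₂] at hξ
    obtain ⟨ξ', hξ', rfl⟩ := hξ
    rw [brauerOmega_lift X R₁' R₂' hCX₁ hCX₂]
    exact h6 ξ' hξ'

end

end Cfsg.Agent.Lib.Helper8
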