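import Mathlib
import Cfsg.Prelude.Def_Blocks
import Cfsg.Prelude.Def_BrauerPairs
import Cfsg.Agent.Lib.Helper8.LP2

/-!
# Centralizer transport: `C_X(R') = C_G(U)`

For a subgroup `X` of `G`, a subgroup `R'` of `X` and a subgroup `U` of `G` such that the centralizer
of `R'` in `X` is the centralizer of `U` in `G` (for example `X = C_G(Q)` and `U = Q R'`), this file
transports blocks, the Brauer functional and stabilizers.
-/

set_option autoImplicit false
set_option linter.unusedSectionVars false

namespace Cfsg.Agent.Lib.Helper8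

open Cfsg
open scoped ComplexConjugate
open Cfsg.Agent.Lib.Helper1 Cfsg.Agent.Lib.Helper4

universe u

section

variable {G : Type u} [Group G] (X : Subgroup G)

theorem centIso_le (R' : Subgroup X) (U : Subgroup G)
    (hU : (Subgroup.centralizer (R' : Set X)).map X.subtype = Subgroup.centralizer (U : Set G)) :
    Subgroup.centralizer (U : Set G) ≤ X := by
  rw [← hU]
  rintro _ ⟨c, _, rfl⟩
  exact c.2

theorem centIso_mem_iff (R' : Subgroup X) (U : Subgroup G)
    (hU : (Subgroup.centralizer (R' : Set X)).map X.subtype = Subgroup.centralizer (U : Set G))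
    (c : X) : (c : G) ∈ Subgroup.centralizer (U : Set G) ↔ c ∈ Subgroup.centralizer (R' : Set X) := by
  rw [← hU]
  exact Subgroup.mem_map_iff_mem X.subtype_injective

/-- `C_X(R') ≃* C_G(U)`. -/
def centIso (R' : Subgroup X) (U : Subgroup G)
    (hU : (Subgroup.centralizer (R' : Set X)).map X.subtype = Subgroup.centralizer (U : Set G)) :
    Subgroup.centralizer (R' : Set X) ≃* Subgroup.centralizer (U : Set G) where
  toFun c := ⟨((c : X) : G), (centIso_mem_iff X R' U hU c).2 c.2⟩
  invFun c := ⟨⟨(c : G), centIso_le X R' U hU c.2⟩,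
    (centIso_mem_iff X R' U hU ⟨c, centIso_le X R' U hU c.2⟩).1 c.2⟩
  left_inv _ := rfl
  right_inv _ := rfl
  map_mul' _ _ := rfl

@[simp] theorem centIso_apply_coe (R' : Subgroup X) (U : Subgroup G)
    (hU : (Subgroup.centralizer (R' : Set X)).map X.subtype = Subgroup.centralizer (U : Set G))
    (c : Subgroup.centralizer (R' : Set X)) : ((centIso X R' U hU c : _) : G) = ((c : X) : G) := rfl

@[simp] theorem centIso_symm_apply_coe (R' : Subgroup X) (U : Subgroup G)
    (hU : (Subgroup.centralizer (R' : Set X)).map X.subtype = Subgroup.centralizer (U : Set G))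
    (c : Subgroup.centralizer (U : Set G)) :
    ((((centIso X R' U hU).symm c : _) : X) : G) = (c : G) := rfl

end

section

variable {G : Type u} [Group G] [Fintype G] {M : Ideal AlgInt} {p : ℕ} (X : Subgroup G)

/-- The Brauer functional of a transported character. -/
theorem brauerOmega_centIso (R' : Subgroup X) (U : Subgroup G)
    (hU : (Subgroup.centralizer (R' : Set X)).map X.subtype = Subgroup.centralizer (U : Set G))
    (β : G → ℂ) (ξ' : IrrCharacter (Subgroup.centralizer (R' : Set X))) :
    brauerOmega U β (irrMap (centIso X R' U hU) ξ' : _ → ℂ) =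
    brauerOmega R' (fun x : X => β (x : G)) (ξ' : Subgroup.centralizer (R' : Set X) → ℂ) := by
  classical
  have : Fintype X := Fintype.ofFinite _
  have : Fintype (Subgroup.centralizer (R' : Set X)) := Fintype.ofFinite _
  have : Fintype (Subgroup.centralizer (U : Set G)) := Fintype.ofFinite _
  rw [brauerOmega_eq_omega, brauerOmega_eq_omega, omega_irrMap]
  rfl

theorem stabilizesBlock_centIso_iff (R' : Subgroup X) (U : Subgroup G)
    (hU : (Subgroup.centralizer (R' : Set X)).map X.subtype = Subgroup.centralizer (U : Set G))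
    (g' : Set (IrrCharacter (Subgroup.centralizer (R' : Set X)))) (x : X) :
    StabilizesBlock (Subgroup.centralizer (U : Set G)) (irrMap (centIso X R' U hU) '' g') (x : G) ↔
    StabilizesBlock (Subgroup.centralizer (R' : Set X)) g' x := by
  have hnorm : (x : G) ∈ Subgroup.normalizer
      ((Subgroup.centralizer (U : Set G) : Subgroup G) : Set G) ↔
      x ∈ Subgroup.normalizer ((Subgroup.centralizer (R' : Set X) : Subgroup X) : Set X) := by
    rw [← hU]
    exact mem_normalizer_map_subtype_iff X _ x
  unfold StabilizesBlock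
  rw [hnorm]
  apply and_congr_right
  intro _
  constructor
  · intro h χ hχ
    obtain ⟨_, ⟨χ', hχ', rfl⟩, hc⟩ := h _ ⟨χ, hχ, rfl⟩
    refine ⟨χ', hχ', ?_⟩
    intro k k' hk
    have := hc (centIso X R' U hU k) (centIso X R' U hU k') (by
      rw [centIso_apply_coe, centIso_apply_coe, hk]
      rfl)
    rwa [irrMap_apply_map, irrMap_apply_map] at this
  · rintro h _ ⟨χ, hχ, rfl⟩
    obtain ⟨χ', hχ', hc⟩ := h χ hχ
    refine ⟨_, ⟨χ', hχ', rfl⟩, ?_⟩
    intro k k' hk
    rw [irrMap_apply, irrMap_apply]
    apply hc
    apply Subtype.ext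
    rw [centIso_symm_apply_coe, hk]
    rfl

end

end Cfsg.Agent.Lib.Helper8
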