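import Mathlib
import Cfsg.Prelude.Def_Blocks
import Cfsg.Prelude.Def_BrauerPairs
import Cfsg.Agent.Lib.Helper8.CT1
import Cfsg.Agent.Lib.Helper8.BlockPairMax
import Cfsg.Agent.S4658

/-!
# Brauer pairs of `C_G(Q)` versus Brauer pairs of `G` containing `Q`
-/

set_option autoImplicit false
set_option linter.unusedSectionVars false

namespace Cfsg.Agent.Lib.Helper8

open Cfsg
open scoped ComplexConjugate
open Cfsg.Agent.Lib.Helper1 Cfsg.Agent.Lib.Helper4

universe u

section

variable {G : Type u} [Group G]

/-- `C_{C_G(Q)}(R') = C_G(Q R')`. -/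
theorem centralizer_sup_map (Q : Subgroup G) (R' : Subgroup (Subgroup.centralizer (Q : Set G))) :
    (Subgroup.centralizer (R' : Set (Subgroup.centralizer (Q : Set G)))).map
      (Subgroup.centralizer (Q : Set G)).subtype =
    Subgroup.centralizer
      ((Q ⊔ R'.map (Subgroup.centralizer (Q : Set G)).subtype : Subgroup G) : Set G) := by
  ext y
  constructor
  · rintro ⟨c, hc, rfl⟩
    have h1 : Q ⊔ R'.map (Subgroup.centralizer (Q : Set G)).subtype ≤
        Subgroup.centralizer ({((c : Subgroup.centralizer (Q : Set G)) : G)} : Set G) := by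
      apply sup_le
      · intro q hq
        rw [Subgroup.mem_centralizer_iff]
        intro h hh
        rw [Set.mem_singleton_iff] at hh
        subst hh
        exact (Subgroup.mem_centralizer_iff.1 c.2 q hq).symm
      · rintro _ ⟨r, hr, rfl⟩
        rw [Subgroup.mem_centralizer_iff]
        intro h hh
        rw [Set.mem_singleton_iff] at hh
        subst hh
        have := Subgroup.mem_centralizer_iff.1 hc r hr
        exact (congrArg Subtype.val this).symm
    rw [Subgroup.mem_centralizer_iff]
    intro h hh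
    have := Subgroup.mem_centralizer_iff.1 (h1 hh) _ (Set.mem_singleton _)
    exact this.symm
  · intro hy
    have hyQ : y ∈ Subgroup.centralizer (Q : Set G) :=
      Subgroup.centralizer_le (by exact_mod_cast (le_sup_left : Q ≤ Q ⊔ _)) hy
    have hyR : y ∈ Subgroup.centralizer
        ((R'.map (Subgroup.centralizer (Q : Set G)).subtype : Subgroup G) : Set G) :=
      Subgroup.centralizer_le (by exact_mod_cast (le_sup_right : _ ≤ Q ⊔ _)) hy
    exact ⟨⟨y, hyQ⟩, (mem_centralizer_map_subtype _ R' ⟨y, hyQ⟩).1 hyR, rfl⟩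

end

section

variable {G : Type u} [Group G] [Fintype G] {M : Ideal AlgInt} {p : ℕ} [Fact p.Prime]

/-- A Brauer pair `(R', g')` of the block `f` of `C_G(Q)` gives the Brauer pair `(Q R', g')` of `G`
above `(Q, f)`. -/
theorem isNormalSubpair_of_centralizer_pair (hM : IsPModular p M) {Q : Subgroup G}
    {f : Set (IrrCharacter (Subgroup.centralizer (Q : Set G)))} (hQ : IsPGroup p Q)
    (R' : Subgroup (Subgroup.centralizer (Q : Set G)))
    (g' : Set (IrrCharacter (Subgroup.centralizer (R' : Set (Subgroup.centralizer (Q : Set G))))))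
    (h : IsBrauerPairOf p M f R' g') :
    IsNormalSubpair p M Q f (Q ⊔ R'.map (Subgroup.centralizer (Q : Set G)).subtype)
      (irrMap (centIso _ R' _ (centralizer_sup_map Q R')) '' g') := by
  classical
  have : Fintype (Subgroup.centralizer (Q : Set G)) := Fintype.ofFinite _
  have hRN : R'.map (Subgroup.centralizer (Q : Set G)).subtype ≤ Subgroup.normalizer (Q : Set G) := by
    rintro _ ⟨r, _, rfl⟩
    exact Subgroup.centralizer_le_normalizer _ r.2
  have hUp : IsPGroup p (Q ⊔ R'.map (Subgroup.centralizer (Q : Set G)).subtype : Subgroup G) :=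
    IsPGroup.to_sup_of_normal_left' hQ (h.1.1.map _) hRN
  refine ⟨⟨hQ, h.2.1⟩, ⟨hUp, isPBlock_image_irrMap _ h.1.2⟩, le_sup_left,
    sup_le Subgroup.le_normalizer hRN, ?_, ?_⟩
  · have hle : Q ⊔ R'.map (Subgroup.centralizer (Q : Set G)).subtype ≤
        pairStab ⊤ (Subgroup.centralizer (Q : Set G)) f := by
      apply sup_le
      · intro q hq
        refine ⟨Subgroup.mem_top _, stabilizesBlock_of_centralizes _ f ?_⟩
        intro k hk
        exact Subgroup.mem_centralizer_iff.1 hk q hq
      · rintro _ ⟨r, _, rfl⟩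
        exact ⟨Subgroup.mem_top _, stabilizesBlock_of_mem _ f r.2⟩
    intro x hx
    exact (hle hx).2
  · rintro _ ⟨ξ', hξ', rfl⟩
    rw [brauerOmega_centIso]
    have := h.2.2 ξ' hξ'
    convert this using 3
    funext x
    exact subgroupBlockCoeff_of_mem _ _ x.2

/-- **Local blocks of a nilpotent block are nilpotent.** -/
theorem nilpotent_local (hM : IsPModular p M) {B : Set (IrrCharacter G)}
    (hnil : IsNilpotentBlock p M B) {Q : Subgroup G}
    {f : Set (IrrCharacter (Subgroup.centralizer (Q : Set G)))}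
    (hQf : IsBrauerPairOf p M B Q f) : IsNilpotentBlock p M f := by
  classical
  refine ⟨hQf.1.2, ?_⟩
  intro R' g' hR'g' x hxN hxst hxreg
  have hn := isNormalSubpair_of_centralizer_pair hM hQf.1.1 R' g' hR'g'
  have hU := centralizer_sup_map Q R'
  have hB : IsBrauerPairOf p M B _ _ :=
    (Cfsg.Agent.S4658.result p M hM _ Q _ f hn.2.1 hQf.1 (Relation.ReflTransGen.single hn) B
      hQf.2.1).2 hQf
  have hxNU : (x : G) ∈ Subgroup.normalizer
      ((Q ⊔ R'.map (Subgroup.centralizer (Q : Set G)).subtype : Subgroup G) : Set G) := by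
    have h1 : (x : G) ∈ Subgroup.normalizer (Q : Set G) :=
      Subgroup.centralizer_le_normalizer _ x.2
    have h2 : (x : G) ∈ Subgroup.normalizer
        ((R'.map (Subgroup.centralizer (Q : Set G)).subtype : Subgroup G) : Set G) :=
      (mem_normalizer_map_subtype_iff _ R' x).2 hxN
    rw [Subgroup.mem_normalizer_iff_map_conj_eq] at h1 h2 ⊢
    rw [Subgroup.map_sup, h1, h2]
  have hst := (stabilizesBlock_centIso_iff _ R' _ hU g' x).2 hxst
  have hreg : IsPRegular p (x : G) := by
    unfold IsPRegular at hxreg ⊢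
    rwa [Subgroup.orderOf_coe]
  have := hnil.2 _ _ hB (x : G) hxNU hst hreg
  exact (centIso_mem_iff _ R' _ hU x).1 this

end

end Cfsg.Agent.Lib.Helper8
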