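import Mathlib
import Cfsg.Prelude.Def_Blocks
import Cfsg.Prelude.Def_BrauerPairs
import Cfsg.Agent.Lib.Helper8.BlockFirstMain5
import Cfsg.Agent.Lib.Helper8.BlockIso
import Cfsg.Agent.Lib.Helper8.BlockPairMax

/-!
# The Brauer correspondence over a subgroup containing the normalizer
-/

set_option autoImplicit false
set_option maxHeartbeats 800000

namespace Cfsg.Agent.Lib.Helper8

open Cfsg
open scoped ComplexConjugate
open Cfsg.Agent.Lib.Helper1 Cfsg.Agent.Lib.Helper4

universe u

section

variable {G : Type u} [Group G] [Finite G] {M : Ideal AlgInt} {p : ℕ} [Fact p.Prime]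

omit [Fact p.Prime] in
/-- Blocks with pointwise congruent idempotents coincide. -/
theorem eq_of_blockCoeff_cong (hM : M.IsPrime) {β₁ β₂ : Set (IrrCharacter G)}
    (h₁ : IsPBlock M β₁) (h₂ : IsPBlock M β₂)
    (h : ∀ x, MemLocalIdeal M (blockCoeff β₁ x - blockCoeff β₂ x)) : β₁ = β₂ := by
  classical
  have : Fintype G := Fintype.ofFinite G
  obtain ⟨χ, hχ⟩ := isPBlock_nonempty hM h₁
  obtain ⟨hcf₁, -, hω₁⟩ := blockCoeff_spec hM h₁
  obtain ⟨hcf₂, -, hω₂⟩ := blockCoeff_spec hM h₂
  have h3 := omega_cong hM χ.2 hcf₁ hcf₂ h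
  rw [hω₁ χ, hω₂ χ, if_pos hχ] at h3
  have hχ₂ : χ ∈ β₂ := by
    by_contra hcon
    rw [if_neg hcon, sub_zero] at h3
    exact not_memLocalIdeal_one hM h3
  rw [eq_blockOf_of_mem hM h₁ hχ, eq_blockOf_of_mem hM h₂ hχ₂]

/-- Blocks with the same defect group `P` whose idempotents are congruent on `C_G(P)` coincide. -/
theorem eq_of_blockCoeff_cong_centralizer (hM : IsPModular p M) {P : Subgroup G}
    {B₁ B₂ : Set (IrrCharacter G)} (hB₁ : IsPBlock M B₁) (hB₂ : IsPBlock M B₂)
    (hP₁ : IsDefectGroup p M B₁ P) (hP₂ : IsDefectGroup p M B₂ P)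
    (h : ∀ x ∈ Subgroup.centralizer (P : Set G),
      MemLocalIdeal M (blockCoeff B₁ x - blockCoeff B₂ x)) : B₁ = B₂ := by
  classical
  have : Fintype G := Fintype.ofFinite G
  have hMp := isPModular_isPrime hM
  have hP := isPGroup_of_isDefectGroup hP₁
  obtain ⟨β₁, hβ₁, hβ₁P, hi₁⟩ := firstMain_exists hM P hP hB₁ hP₁
  obtain ⟨β₂, hβ₂, hβ₂P, hi₂⟩ := firstMain_exists hM P hP hB₂ hP₂
  have hβ : β₁ = β₂ := by
    apply eq_of_blockCoeff_cong hMp hβ₁ hβ₂
    intro n
    have e1 := brauer_image_cong_normalizer hM hB₁ hP₁ hβ₁ hβ₁P hi₁ n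
    have e2 := brauer_image_cong_normalizer hM hB₂ hP₂ hβ₂ hβ₂P hi₂ n
    have e3 : MemLocalIdeal M
        (truncTo (Subgroup.centralizer (P : Set G) : Set G) (blockCoeff B₁) (n : G) -
          truncTo (Subgroup.centralizer (P : Set G) : Set G) (blockCoeff B₂) (n : G)) := by
      by_cases hn : (n : G) ∈ (Subgroup.centralizer (P : Set G) : Set G)
      · rw [truncTo_of_mem _ hn, truncTo_of_mem _ hn]
        exact h _ hn
      · rw [truncTo_of_not_mem _ hn, truncTo_of_not_mem _ hn, sub_zero]
        exact memLocalIdeal_zero hMp.ne_top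
    exact cong_trans hMp (cong_trans hMp (cong_symm e1) e3) e2
  rw [hβ] at hi₁
  exact isInducedBlock_unique hMp _ hi₁ hi₂

end

section

variable {G : Type u} [Group G]

/-- The isomorphism between a subgroup `K` of `H` equal to `L.subgroupOf H` and `L`. -/
noncomputable def subEquiv {H L : Subgroup G} (hLH : L ≤ H) {K : Subgroup H}
    (hK : K = L.subgroupOf H) : K ≃* L :=
  (MulEquiv.subgroupCongr hK).trans (Subgroup.subgroupOfEquivOfLe hLH)

theorem subEquiv_coe {H L : Subgroup G} (hLH : L ≤ H) {K : Subgroup H}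
    (hK : K = L.subgroupOf H) (k : K) : ((subEquiv hLH hK k : L) : G) = ((k : H) : G) := rfl

theorem subEquiv_symm_coe {H L : Subgroup G} (hLH : L ≤ H) {K : Subgroup H}
    (hK : K = L.subgroupOf H) (l : L) : ((((subEquiv hLH hK).symm l : K) : H) : G) = (l : G) := by
  rw [← subEquiv_coe hLH hK, MulEquiv.apply_symm_apply]

theorem map_subEquiv_subgroupOf {H L : Subgroup G} (hLH : L ≤ H) {K : Subgroup H}
    (hK : K = L.subgroupOf H) (P : Subgroup G) :
    ((P.subgroupOf H).subgroupOf K).map (subEquiv hLH hK).toMonoidHom = P.subgroupOf L := by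
  ext l
  constructor
  · rintro ⟨k, hk, rfl⟩
    exact hk
  · intro hl
    refine ⟨(subEquiv hLH hK).symm l, ?_, ?_⟩
    · show ((((subEquiv hLH hK).symm l : K) : H) : G) ∈ P
      rw [subEquiv_symm_coe]
      exact hl
    · exact (subEquiv hLH hK).apply_symm_apply l

theorem mem_centralizer_subgroupOf {H P : Subgroup G} (hPH : P ≤ H) (h : H) :
    h ∈ Subgroup.centralizer ((P.subgroupOf H : Subgroup H) : Set H) ↔
      (h : G) ∈ Subgroup.centralizer (P : Set G) := by
  rw [Subgroup.mem_centralizer_iff, Subgroup.mem_centralizer_iff]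
  constructor
  · intro hh u hu
    have := hh ⟨u, hPH hu⟩ hu
    exact congrArg Subtype.val this
  · intro hh u hu
    apply Subtype.ext
    exact hh (u : G) hu

end

section

variable {G : Type u} [Group G] [Fintype G] {M : Ideal AlgInt} {p : ℕ} [Fact p.Prime]

/-- Blocks of `N_G(P)` and `N_H(P)` that correspond under the identification of these groups
induce blocks of `G` and `H` whose idempotents agree on `C_G(P)`. -/
theorem blockCoeff_cong_of_corr (hM : IsPModular p M) {P H : Subgroup G}
    (hH : Subgroup.normalizer (P : Set G) ≤ H)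
    (hK : Subgroup.normalizer ((P.subgroupOf H : Subgroup H) : Set H) =
      (Subgroup.normalizer (P : Set G)).subgroupOf H)
    {B : Set (IrrCharacter G)} (hB : IsPBlock M B) (hBP : IsDefectGroup p M B P)
    {c : Set (IrrCharacter H)} (hc : IsPBlock M c) (hcP : IsDefectGroup p M c (P.subgroupOf H))
    {β : Set (IrrCharacter (Subgroup.normalizer (P : Set G)))} (hβ : IsPBlock M β)
    (hβP : IsDefectGroup p M β (P.subgroupOf (Subgroup.normalizer (P : Set G))))
    (hi : IsInducedBlock M (Subgroup.normalizer (P : Set G)) β B)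
    {β' : Set (IrrCharacter (Subgroup.normalizer ((P.subgroupOf H : Subgroup H) : Set H)))}
    (hβ' : IsPBlock M β')
    (hβ'P : IsDefectGroup p M β' ((P.subgroupOf H).subgroupOf
      (Subgroup.normalizer ((P.subgroupOf H : Subgroup H) : Set H))))
    (hi' : IsInducedBlock M (Subgroup.normalizer ((P.subgroupOf H : Subgroup H) : Set H)) β' c)
    (hββ' : β = irrMap (subEquiv hH hK) '' β')
    (x : G) (hx : x ∈ Subgroup.centralizer (P : Set G)) :
    MemLocalIdeal M (blockCoeff B x - subgroupBlockCoeff H c x) := by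
  classical
  have hMp := isPModular_isPrime hM
  have hPN : P ≤ Subgroup.normalizer (P : Set G) := Subgroup.le_normalizer
  have hPH : P ≤ H := hPN.trans hH
  have hxN : x ∈ Subgroup.normalizer (P : Set G) := Subgroup.centralizer_le_normalizer _ hx
  have hxH : x ∈ H := hH hxN
  set n : Subgroup.normalizer (P : Set G) := ⟨x, hxN⟩ with hn
  set n' := (subEquiv hH hK).symm n with hn'
  have hn'x : ((n' : H) : G) = x := subEquiv_symm_coe hH hK n
  have e1 := brauer_image_cong_normalizer hM hB hBP hβ hβP hi n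
  rw [truncTo_of_mem _ (show ((n : G)) ∈ (Subgroup.centralizer (P : Set G) : Set G) from hx)] at e1
  have e2 := brauer_image_cong_normalizer hM hc hcP hβ' hβ'P hi' n'
  have hn'C : ((n' : H)) ∈
      (Subgroup.centralizer ((P.subgroupOf H : Subgroup H) : Set H) : Set H) := by
    show (n' : H) ∈ Subgroup.centralizer ((P.subgroupOf H : Subgroup H) : Set H)
    rw [mem_centralizer_subgroupOf hPH, hn'x]
    exact hx
  rw [truncTo_of_mem _ hn'C] at e2
  have e3 : blockCoeff β n = blockCoeff β' n' := by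
    rw [hββ', blockCoeff_image_irrMap]
  have e4 : subgroupBlockCoeff H c x = blockCoeff c (n' : H) := by
    unfold subgroupBlockCoeff
    rw [dif_pos hxH]
    congr 1
  rw [e4]
  rw [e3] at e1
  exact cong_trans hMp e1 (cong_symm e2)

end

end Cfsg.Agent.Lib.Helper8
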