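import Mathlib
import Cfsg.Prelude.Def_Blocks
import Cfsg.Prelude.Def_BlockLocal
import Cfsg.Agent.Lib.Helper8.FR7
import Cfsg.Agent.Lib.Helper8.InducedOmega2
import Cfsg.Agent.Lib.Helper8.BlockInducedDefect
import Cfsg.Agent.Lib.Helper8.BlockFirstMain3

/-!
# Fong–Reynolds, part 8: heights and defect groups
-/

set_option autoImplicit false

namespace Cfsg.Agent.Lib.Helper8

open Cfsg
open scoped ComplexConjugate
open Cfsg.Agent.Lib.Helper1 Cfsg.Agent.Lib.Helper4

universe u

section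

theorem sInf_image_add_left {S : Set ℕ} (hS : S.Nonempty) (a : ℕ) :
    sInf ((fun x => a + x) '' S) = a + sInf S := by
  apply le_antisymm
  · apply Nat.sInf_le
    exact ⟨sInf S, Nat.sInf_mem hS, rfl⟩
  · have hne : ((fun x => a + x) '' S).Nonempty := hS.image _
    obtain ⟨x, hx, hxe⟩ := Nat.sInf_mem hne
    rw [← hxe]
    exact Nat.add_le_add_left (Nat.sInf_le hx) a

variable {G : Type u} [Group G] [Fintype G] {M : Ideal AlgInt} {p : ℕ} [Fact p.Prime]
  (T : Subgroup G) [Fintype T]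

theorem charDegree_indFun_eq {ψ : T → ℂ} (hψ : IsIrrCharacter T ψ) :
    charDegree (indFun T ψ) = T.index * charDegree ψ := by
  have h1 := (charDegree_indFun T hψ).1
  rw [Cfsg.Agent.S0170.indFun_one, (irr_apply_one_eq_charDegree hψ).1] at h1
  have hT0 : (Nat.card T : ℂ) ≠ 0 := Nat.cast_ne_zero.2 Nat.card_pos.ne'
  have h2 : (Nat.card G : ℂ) = (Nat.card T : ℂ) * (T.index : ℂ) := by
    rw [← Nat.cast_mul, Subgroup.card_mul_index]
  rw [h2] at h1
  have h3 : ((T.index * charDegree ψ : ℕ) : ℂ) = (charDegree (indFun T ψ) : ℂ) := by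
    rw [← h1]
    push_cast
    field_simp
  exact (Nat.cast_injective h3).symm

omit [Fact p.Prime] in
/-- Under a degree-scaling bijection, the sets of `p`-valuations of degrees correspond. -/
theorem image_factorization_eq {B' : Set (IrrCharacter T)} {B : Set (IrrCharacter G)}
    (hirr : ∀ ψ ∈ B', IsIrrCharacter G (indFun T (ψ : T → ℂ)))
    (hmem : ∀ χ : IrrCharacter G, χ ∈ B ↔ ∃ ψ ∈ B', (χ : G → ℂ) = indFun T (ψ : T → ℂ)) :
    (fun χ : IrrCharacter G => (charDegree (χ : G → ℂ)).factorization p) '' B =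
      (fun x => T.index.factorization p + x) ''
        ((fun ψ : IrrCharacter T => (charDegree (ψ : T → ℂ)).factorization p) '' B') := by
  have hidx : T.index ≠ 0 := Subgroup.index_ne_zero_of_finite
  have key : ∀ ψ : IrrCharacter T, (charDegree (indFun T (ψ : T → ℂ))).factorization p =
      T.index.factorization p + (charDegree (ψ : T → ℂ)).factorization p := by
    intro ψ
    rw [charDegree_indFun_eq T ψ.2,
      Nat.factorization_mul hidx (irr_apply_one_eq_charDegree ψ.2).2.ne']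
    rfl
  ext n
  constructor
  · rintro ⟨χ, hχ, rfl⟩
    obtain ⟨ψ, hψ, hχψ⟩ := (hmem χ).1 hχ
    refine ⟨_, ⟨ψ, hψ, rfl⟩, ?_⟩
    simp only
    rw [hχψ, key]
  · rintro ⟨_, ⟨ψ, hψ, rfl⟩, rfl⟩
    refine ⟨⟨_, hirr ψ hψ⟩, (hmem _).2 ⟨ψ, hψ, rfl⟩, ?_⟩
    simp only
    rw [key]

theorem blockHeight_indFun_eq {B' : Set (IrrCharacter T)} {B : Set (IrrCharacter G)}
    (hirr : ∀ ψ ∈ B', IsIrrCharacter G (indFun T (ψ : T → ℂ)))
    (hmem : ∀ χ : IrrCharacter G, χ ∈ B ↔ ∃ ψ ∈ B', (χ : G → ℂ) = indFun T (ψ : T → ℂ))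
    {ψ : IrrCharacter T} (hψ : ψ ∈ B') :
    blockHeight p B (indFun T (ψ : T → ℂ)) = blockHeight p B' (ψ : T → ℂ) := by
  have hidx : T.index ≠ 0 := Subgroup.index_ne_zero_of_finite
  unfold blockHeight
  rw [image_factorization_eq (p := p) T hirr hmem,
    sInf_image_add_left (Set.Nonempty.image _ ⟨ψ, hψ⟩), charDegree_indFun_eq T ψ.2,
    Nat.factorization_mul hidx (irr_apply_one_eq_charDegree ψ.2).2.ne']
  simp only [Finsupp.coe_add, Pi.add_apply]
  omega

theorem blockDefect_indFun_eq {B' : Set (IrrCharacter T)} {B : Set (IrrCharacter G)}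
    (hirr : ∀ ψ ∈ B', IsIrrCharacter G (indFun T (ψ : T → ℂ)))
    (hmem : ∀ χ : IrrCharacter G, χ ∈ B ↔ ∃ ψ ∈ B', (χ : G → ℂ) = indFun T (ψ : T → ℂ))
    (hne : B'.Nonempty) :
    blockDefect p B = blockDefect p B' := by
  have hidx : T.index ≠ 0 := Subgroup.index_ne_zero_of_finite
  unfold blockDefect
  rw [image_factorization_eq (p := p) T hirr hmem,
    sInf_image_add_left (Set.Nonempty.image _ hne), ← Subgroup.card_mul_index T,
    Nat.factorization_mul Nat.card_pos.ne' hidx]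
  simp only [Finsupp.coe_add, Pi.add_apply]
  omega

end

section

variable {G : Type u} [Group G] [Fintype G] (N : Subgroup G) [hN : N.Normal] [Fintype N]
  {M : Ideal AlgInt} {p : ℕ} [Fact p.Prime] (T : Subgroup G) [Fintype T] (hNT : N ≤ T)

include hNT

/-- **Fong–Reynolds: defect groups and heights.** -/
theorem fongReynolds_defect_height (hM : IsPModular p M) {b : Set (IrrCharacter N)}
    (hb : IsPBlock M b) (hT : ∀ g : G, g ∈ T ↔ StabilizesBlock N b g)
    {B' : Set (IrrCharacter T)} (hB' : IsPBlock M B')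
    (hcov : ∃ ψ ∈ B', ∃ θ ∈ b,
      classInner (fun n : N => (ψ : T → ℂ) ⟨(n : G), hNT n.2⟩) (θ : N → ℂ) ≠ 0)
    {B : Set (IrrCharacter G)} (hind : IsInducedBlock M T B' B) :
    (∀ D : Subgroup T, IsDefectGroup p M B' D → IsDefectGroup p M B (D.map T.subtype)) ∧
      ∀ ψ ∈ B', ∃ χ ∈ B, (χ : G → ℂ) = indFun T (ψ : T → ℂ) ∧
        blockHeight p B (χ : G → ℂ) = blockHeight p B' (ψ : T → ℂ) := by
  have hMp := isPModular_isPrime hM
  obtain ⟨B₀, hind₀, _, hirr, hmem⟩ := fongReynolds_induce N T hNT hM hb hT hB' hcov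
  have hBB : B₀ = B := isInducedBlock_unique hMp T hind₀ hind
  subst hBB
  have hne : B'.Nonempty := isPBlock_nonempty hMp hB'
  constructor
  · intro D hD
    obtain ⟨E, hE, hDE⟩ := exists_defectGroup_ge_of_induced hM T hind hD
    have h1 : Nat.card E = p ^ blockDefect p B₀ := card_of_isDefectGroup hM hind.2.1 hE
    have h2 : Nat.card D = p ^ blockDefect p B' := card_of_isDefectGroup hM hB' hD
    have h3 : Nat.card (D.map T.subtype) = Nat.card D :=
      Subgroup.card_map_of_injective T.subtype_injective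
    have h4 : D.map T.subtype = E := by
      apply Subgroup.eq_of_le_of_card_ge hDE
      rw [h1, h3, h2, blockDefect_indFun_eq T hirr hmem hne]
    rw [h4]
    exact hE
  · intro ψ hψ
    refine ⟨⟨_, hirr ψ hψ⟩, (hmem _).2 ⟨ψ, hψ, rfl⟩, rfl, ?_⟩
    exact blockHeight_indFun_eq T hirr hmem hψ

end

end Cfsg.Agent.Lib.Helper8
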