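import Mathlib
import Cfsg.Prelude.Def_Blocks
import Cfsg.Agent.Lib.Helper8.CA6
import Cfsg.Agent.Lib.Helper8.BlockBrauer
import Cfsg.Agent.Lib.Helper8.BlockFirstMain4
import Cfsg.Agent.Lib.Helper8.PairFull

/-!
# Knörr's theorem, invariant case

If `B` covers the `G`-invariant block `b` of the normal subgroup `N`, some defect group `P` of `B`
satisfies: `P ⊓ N` is a defect group of `b`.
-/

set_option autoImplicit false
set_option linter.unusedSectionVars false

namespace Cfsg.Agent.Lib.Helper8

open Cfsg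
open scoped ComplexConjugate
open Cfsg.Agent.Lib.Helper1 Cfsg.Agent.Lib.Helper4

universe u

section

variable {G : Type u} [Group G] [Fintype G] (N : Subgroup G) [hN : N.Normal] [Fintype N]
  {M : Ideal AlgInt} {p : ℕ} [Fact p.Prime]

/-- If a convolution of local-ring valued functions has a unit value, so does the first factor. -/
theorem exists_unit_of_conv_unit (hM : M.IsPrime) {F H : G → ℂ}
    (hH : ∀ g, MemLocalRing M (H g)) {z : G} (hz : ¬ MemLocalIdeal M (conv F H z)) :
    ∃ y : G, ¬ MemLocalIdeal M (F y) ∧ H (y⁻¹ * z) ≠ 0 := by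
  by_contra hcon
  push Not at hcon
  apply hz
  rw [conv_apply]
  refine memLocalIdeal_sum hM _ _ fun y _ => ?_
  by_cases hy : MemLocalIdeal M (F y)
  · exact memLocalIdeal_mul_right hM hy (hH _)
  · rw [hcon y hy, mul_zero]
    exact memLocalIdeal_zero hM.ne_top

/-- **K2.**  A defect group of the invariant covered block is contained, up to conjugacy, in a
defect group of the covering block. -/
theorem exists_conj_le_of_covers_invariant (hM : IsPModular p M) {b : Set (IrrCharacter N)}
    (hb : IsPBlock M b) (hinv : ∀ g : G, StabilizesBlock N b g) {B : Set (IrrCharacter G)}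
    (hB : IsPBlock M B) (hcov : Covers N B b) {Qn : Subgroup N} (hQ : IsDefectGroup p M b Qn)
    {D : Subgroup G} (hD : IsDefectGroup p M B D) :
    ∃ x : G, (Qn.map N.subtype).map (MulAut.conj x).toMonoidHom ≤ D := by
  classical
  have hMp := isPModular_isPrime hM
  set Q : Subgroup G := Qn.map N.subtype with hQdef
  have hQp : IsPGroup p Q := (isPGroup_of_isDefectGroup hQ).map _
  obtain ⟨hcfB, hSB, -⟩ := blockCoeff_spec hMp hB
  refine (exists_unit_coeff_iff hM hB hD Q hQp).1 ?_
  by_contra hcon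
  have hall : ∀ g ∈ Subgroup.centralizer (Q : Set G), MemLocalIdeal M (blockCoeff B g) := by
    intro g hg
    by_contra hgJ
    exact hcon ⟨g, hSB g, hgJ, g, IsConj.refl g, hg⟩
  obtain ⟨q, d, hd, hj⟩ := exists_unit_component_block N hMp hb hinv hB hcov
  have hc := cosetPart_mem_Cq N hMp hb hinv hB hcov q
  set F : G → ℂ := cosetPart N q (blockCoeff B) with hF
  set C : Subgroup G := Subgroup.centralizer (Q : Set G) with hC
  have hQN : Q ≤ N := by
    rintro _ ⟨y, -, rfl⟩
    exact y.2
  have hbr := brauer_conv' hM Q hQp (F := F) (H := d.fn)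
    (fun u hu x => hc.2.2.1 u (hQN hu) x) (fun u hu x => hd.2.2.1 u (hQN hu) x)
    hc.2.1 hd.2.1
  -- the truncation of `F` has values in the local ideal
  have hFJ : ∀ g, MemLocalIdeal M (truncTo (C : Set G) F g) := by
    intro g
    by_cases hg : g ∈ (C : Set G)
    · rw [truncTo_of_mem _ hg]
      by_cases hgq : (g : G ⧸ N) = q
      · rw [hF, cosetPart_of_eq N _ hgq]
        exact hall g hg
      · rw [hF, cosetPart_of_ne N _ hgq]
        exact memLocalIdeal_zero hMp.ne_top
    · rw [truncTo_of_not_mem _ hg]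
      exact memLocalIdeal_zero hMp.ne_top
  have hdS : ∀ g, MemLocalRing M (truncTo (C : Set G) d.fn g) :=
    fun g => memLocalRing_truncTo hMp.ne_top _ hd.2.1 g
  -- the defect class of `b`
  obtain ⟨g₁, hg₁, P₁, hP₁⟩ := hQ
  have hg₁C : (g₁ : G) ∈ (C : Set G) := by
    rw [hC, SetLike.mem_coe, Subgroup.mem_centralizer_iff]
    rintro _ ⟨y, hy, rfl⟩
    rw [hP₁] at hy
    obtain ⟨w, -, rfl⟩ := hy
    have := Subgroup.mem_centralizer_singleton_iff.1 w.2
    have h2 := congrArg (fun n : N => (n : G)) this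
    simp only [Subgroup.coe_mul] at h2
    exact h2
  have h1 := hbr (g₁ : G)
  rw [truncTo_of_mem _ hg₁C] at h1
  have h2 : MemLocalIdeal M (conv F d.fn (g₁ : G)) := by
    have h3 := memLocalIdeal_conv_left hMp hFJ hdS (g₁ : G)
    have := memLocalIdeal_add hMp h1 h3
    rwa [sub_add_cancel] at this
  have h4 := hj (g₁ : G)
  have h5 : (CAlg.of (eb N b) - CAlg.of F * d) (g₁ : G) = eb N b (g₁ : G) - conv F d.fn (g₁ : G) :=
    rfl
  rw [h5] at h4
  have h6 := memLocalIdeal_add hMp h4 h2
  rw [sub_add_cancel] at h6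
  apply hg₁.2.1
  have : eb N b (g₁ : G) = blockCoeff b g₁ := by
    unfold eb
    rw [extZ_of_mem N _ g₁.2]
  rwa [this] at h6

/-- **K1.**  The intersection with `N` of a defect group of the covering block is contained, up
to `N`-conjugacy, in a defect group of the invariant covered block. -/
theorem exists_conj_inf_le_of_covers_invariant (hM : IsPModular p M) {b : Set (IrrCharacter N)}
    (hb : IsPBlock M b) (hinv : ∀ g : G, StabilizesBlock N b g) {B : Set (IrrCharacter G)}
    (hB : IsPBlock M B) (hcov : Covers N B b) {Qn : Subgroup N} (hQ : IsDefectGroup p M b Qn)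
    {D : Subgroup G} (hD : IsDefectGroup p M B D) :
    ∃ n : N, ((D ⊓ N).subgroupOf N).map (MulAut.conj n).toMonoidHom ≤ Qn := by
  classical
  have hMp := isPModular_isPrime hM
  have hDp : IsPGroup p D := isPGroup_of_isDefectGroup hD
  obtain ⟨hcfB, hSB, -⟩ := blockCoeff_spec hMp hB
  obtain ⟨g, hgS, hgJ, c, hgc, hcD⟩ := (exists_unit_coeff_iff hM hB hD D hDp).2
    ⟨1, by
      rintro _ ⟨y, hy, rfl⟩
      simpa using hy⟩
  have hcf : blockCoeff B c = blockCoeff B g := by
    obtain ⟨t, ht⟩ := isConj_iff.1 hgc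
    rw [← ht]
    exact hcfB g t
  set C : Subgroup G := Subgroup.centralizer (D : Set G) with hC
  have hcl := isClassFunction_eb_of_invariant N hinv
  have hbr := brauer_conv' hM D hDp (F := eb N b) (H := blockCoeff B)
    (fun u _ x => hcl x u) (fun u _ x => hcfB x u)
    (memLocalRing_eb N hMp hb) hSB c
  rw [eb_mul_blockCoeff N hMp hb hinv hB hcov, truncTo_of_mem _ hcD] at hbr
  have h1 : ¬ MemLocalIdeal M (conv (truncTo (C : Set G) (eb N b))
      (truncTo (C : Set G) (blockCoeff B)) c) := by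
    intro h
    have := memLocalIdeal_add hMp hbr h
    rw [sub_add_cancel, hcf] at this
    exact hgJ this
  obtain ⟨y, hy, -⟩ := exists_unit_of_conv_unit hMp
    (fun g => memLocalRing_truncTo hMp.ne_top _ hSB g) h1
  have hyC : y ∈ (C : Set G) := by
    by_contra h
    rw [truncTo_of_not_mem _ h] at hy
    exact hy (memLocalIdeal_zero hMp.ne_top)
  rw [truncTo_of_mem _ hyC] at hy
  have hyN : y ∈ N := by
    by_contra h
    rw [eb_of_not_mem N b h] at hy
    exact hy (memLocalIdeal_zero hMp.ne_top)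
  have hyb : eb N b y = blockCoeff b ⟨y, hyN⟩ := by
    unfold eb
    rw [extZ_of_mem N _ hyN]
  rw [hyb] at hy
  have hP' : IsPGroup p ((D ⊓ N).subgroupOf N) :=
    (hDp.to_le inf_le_left).comap_of_injective N.subtype N.subtype_injective
  refine (exists_unit_coeff_iff hM hb hQ ((D ⊓ N).subgroupOf N) hP').1
    ⟨⟨y, hyN⟩, blockCoeff_memLocalRing hMp hb _, hy, ⟨y, hyN⟩, IsConj.refl _, ?_⟩
  rw [Subgroup.mem_centralizer_iff]
  intro w hw
  have hwD : (w : G) ∈ D := (Subgroup.mem_subgroupOf.1 hw).1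
  have := Subgroup.mem_centralizer_iff.1 hyC (w : G) hwD
  apply Subtype.ext
  simpa using this

/-- **Knörr's theorem, invariant case.** -/
theorem knorr_invariant (hM : IsPModular p M) {b : Set (IrrCharacter N)}
    (hb : IsPBlock M b) (hinv : ∀ g : G, StabilizesBlock N b g) {B : Set (IrrCharacter G)}
    (hB : IsPBlock M B) (hcov : Covers N B b) {Qn : Subgroup N} (hQ : IsDefectGroup p M b Qn) :
    ∃ P : Subgroup G, IsDefectGroup p M B P ∧ P ⊓ N = Qn.map N.subtype := by
  classical
  have hMp := isPModular_isPrime hM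
  obtain ⟨D, hD⟩ := exists_isDefectGroup (p := p) hMp hB
  obtain ⟨x, hx⟩ := exists_conj_le_of_covers_invariant N hM hb hinv hB hcov hQ hD
  obtain ⟨n, hn⟩ := exists_conj_inf_le_of_covers_invariant N hM hb hinv hB hcov hQ hD
  set P' : Subgroup N := (D ⊓ N).subgroupOf N with hP'
  have hxN : (Qn.map N.subtype).map (MulAut.conj x).toMonoidHom ≤ D ⊓ N := by
    refine le_inf hx ?_
    rintro _ ⟨_, ⟨y, -, rfl⟩, rfl⟩
    exact hN.conj_mem _ y.2 x
  have hc1 : Nat.card Qn ≤ Nat.card (D ⊓ N : Subgroup G) := by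
    have h1 : Nat.card ((Qn.map N.subtype).map (MulAut.conj x).toMonoidHom) = Nat.card Qn := by
      rw [Subgroup.card_map_of_injective (MulAut.conj x).injective,
        Subgroup.card_map_of_injective N.subtype_injective]
    rw [← h1]
    exact Subgroup.card_le_of_le hxN
  have hc2 : Nat.card P' = Nat.card (D ⊓ N : Subgroup G) :=
    Nat.card_congr (Subgroup.subgroupOfEquivOfLe inf_le_right).toEquiv
  have hc3 : Nat.card (P'.map (MulAut.conj n).toMonoidHom) = Nat.card P' :=
    Subgroup.card_map_of_injective (MulAut.conj n).injective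
  have heq : P'.map (MulAut.conj n).toMonoidHom = Qn := by
    apply Subgroup.eq_of_le_of_card_ge hn
    rw [hc3, hc2]
    exact hc1
  refine ⟨D.map (MulAut.conj (n : G)).toMonoidHom, isDefectGroup_map_conj hD _, ?_⟩
  ext g
  constructor
  · rintro ⟨⟨d, hd, rfl⟩, hgN⟩
    have hdN : d ∈ N := by
      have h1 : d = (n : G)⁻¹ * ((MulAut.conj (n : G)).toMonoidHom d) * (n : G) := by
        simp [MulAut.conj_apply]
        group
      rw [h1]
      exact N.mul_mem (N.mul_mem (N.inv_mem n.2) hgN) n.2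
    have hdP : (⟨d, hdN⟩ : N) ∈ P' := Subgroup.mem_subgroupOf.2 ⟨hd, hdN⟩
    have : (MulAut.conj n).toMonoidHom ⟨d, hdN⟩ ∈ Qn := by
      rw [← heq]
      exact ⟨_, hdP, rfl⟩
    refine ⟨_, this, ?_⟩
    simp [MulAut.conj_apply]
  · rintro ⟨w, hw, rfl⟩
    rw [← heq] at hw
    obtain ⟨w', hw', rfl⟩ := hw
    refine ⟨⟨(w' : G), (Subgroup.mem_subgroupOf.1 hw').1, ?_⟩, Subtype.property _⟩
    simp [MulAut.conj_apply]

end

end Cfsg.Agent.Lib.Helper8
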