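import Mathlib
import Cfsg.Prelude.Def_Blocks
import Cfsg.Agent.Lib.Helper8.KN1
import Cfsg.Agent.Lib.Helper8.CA8
import Cfsg.Agent.Lib.Helper8.FR8

/-!
# Knörr's theorem

If `B` covers the block `b` of the normal subgroup `N` and `Q` is a defect group of `b`, some defect
group `P` of `B` satisfies `P ⊓ N = Q`; moreover `P` stabilizes `b`.
-/

set_option autoImplicit false
set_option linter.unusedSectionVars false

namespace Cfsg.Agent.Lib.Helper8

open Cfsg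
open scoped ComplexConjugate
open Cfsg.Agent.Lib.Helper1 Cfsg.Agent.Lib.Helper4

universe u

section

variable {G : Type u} [Group G] [Fintype G] (N : Subgroup G) [hN : N.Normal] [Fintype N]
  {M : Ideal AlgInt} {p : ℕ} [Fact p.Prime]

/-- **Knörr's theorem.** -/
theorem knorr (hM : IsPModular p M) {b : Set (IrrCharacter N)}
    (hb : IsPBlock M b) {B : Set (IrrCharacter G)}
    (hB : IsPBlock M B) (hcov : Covers N B b) {Qn : Subgroup N} (hQ : IsDefectGroup p M b Qn) :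
    ∃ P : Subgroup G, IsDefectGroup p M B P ∧ P ⊓ N = Qn.map N.subtype ∧
      ∀ x ∈ P, StabilizesBlock N b x := by
  classical
  have hMp := isPModular_isPrime hM
  set S := pairStab (⊤ : Subgroup G) N b with hS
  have : Fintype S := Fintype.ofFinite _
  have hST : ∀ g : G, g ∈ S ↔ StabilizesBlock N b g := fun g => by
    rw [hS, mem_pairStab]
    exact ⟨fun h => h.2, fun h => ⟨Subgroup.mem_top g, h⟩⟩
  have hNS : N ≤ S := fun n hn => (hST n).2 (stabilizesBlock_of_mem N b hn)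
  obtain ⟨χ₀, hχ₀, θ₀, hθ₀, h0⟩ := hcov
  obtain ⟨ψ₀, hψ₀θ, hχψ, hind⟩ :=
    exists_isInducedBlock_of_covers N S hNS hM hb hST hB hχ₀ hθ₀ h0
  set B' := blockOf M (ψ₀ : S → ℂ) with hB'
  have hB'block : IsPBlock M B' := ⟨ψ₀, rfl⟩
  have hψ₀B' : ψ₀ ∈ B' := sameBlock_refl hMp.ne_top _
  have hcov' : ∃ ψ ∈ B', ∃ θ ∈ b,
      classInner (fun n : N => (ψ : S → ℂ) ⟨(n : G), hNS n.2⟩) (θ : N → ℂ) ≠ 0 :=
    ⟨ψ₀, hψ₀B', θ₀, hθ₀, hψ₀θ⟩
  have hdef := (fongReynolds_defect_height N S hNS hM hb hST hB'block hcov' hind).1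
  -- transport to the ambient group `S`
  have : Fintype (N.subgroupOf S) := Fintype.ofFinite _
  set φ := Subgroup.subgroupOfEquivOfLe hNS with hφ
  set bT : Set (IrrCharacter (N.subgroupOf S)) := irrMap φ.symm '' b with hbT
  have hbTblock : IsPBlock M bT := isPBlock_image_irrMap φ.symm hb
  have hinv : ∀ t : S, StabilizesBlock (N.subgroupOf S) bT t := by
    intro t
    refine ⟨?_, ?_⟩
    · rw [Subgroup.normalizer_eq_top]
      trivial
    · rintro _ ⟨θ₁, hθ₁, rfl⟩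
      obtain ⟨-, h2⟩ := (hST t).1 t.2
      obtain ⟨θ₂, hθ₂, hc⟩ := h2 θ₁ hθ₁
      refine ⟨irrMap φ.symm θ₂, ⟨θ₂, hθ₂, rfl⟩, ?_⟩
      intro k k' hk
      rw [irrMap_apply, irrMap_apply]
      change (θ₂ : N → ℂ) (φ k') = (θ₁ : N → ℂ) (φ k)
      apply hc
      have := congrArg (fun x : S => (x : G)) hk
      simp only [Subgroup.coe_mul, Subgroup.coe_inv] at this
      exact this
  have hcovT : Covers (N.subgroupOf S) B' bT := by
    refine ⟨ψ₀, hψ₀B', irrMap φ.symm θ₀, ⟨θ₀, hθ₀, rfl⟩, ?_⟩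
    have := classInner_subgroupOf N S hNS (ψ₀ : S → ℂ) (θ₀ : N → ℂ)
    change classInner (fun m : N.subgroupOf S => (ψ₀ : S → ℂ) (m : S))
        (irrMap φ.symm θ₀ : N.subgroupOf S → ℂ) ≠ 0
    rw [show (irrMap φ.symm θ₀ : N.subgroupOf S → ℂ) =
      fun m : N.subgroupOf S => (θ₀ : N → ℂ) (φ m) from rfl, this]
    exact hψ₀θ
  have hQT : IsDefectGroup p M bT (Qn.map φ.symm.toMonoidHom) :=
    isDefectGroup_image_irrMap φ.symm hQ
  obtain ⟨PT, hPT, hPTN⟩ := knorr_invariant (N.subgroupOf S) hM hbTblock hinv hB'block hcovT hQT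
  refine ⟨PT.map S.subtype, hdef PT hPT, ?_, ?_⟩
  · ext g
    constructor
    · rintro ⟨⟨t, ht, rfl⟩, hgN⟩
      have h1 : t ∈ PT ⊓ N.subgroupOf S := ⟨ht, Subgroup.mem_subgroupOf.2 hgN⟩
      rw [hPTN] at h1
      obtain ⟨m, ⟨w, hw, rfl⟩, rfl⟩ := h1
      refine ⟨w, hw, ?_⟩
      rfl
    · rintro ⟨w, hw, rfl⟩
      have h1 : ((φ.symm w : N.subgroupOf S) : S) ∈ PT ⊓ N.subgroupOf S := by
        rw [hPTN]
        exact ⟨φ.symm w, ⟨w, hw, rfl⟩, rfl⟩
      exact ⟨⟨_, h1.1, rfl⟩, w.2⟩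
  · rintro _ ⟨t, -, rfl⟩
    exact (hST t).1 t.2

end

end Cfsg.Agent.Lib.Helper8
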