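import Mathlib
import Cfsg.Prelude.Def_Blocks
import Cfsg.Agent.Lib.Helper8.KN2
import Cfsg.Agent.Lib.Helper8.PairConj3
import Cfsg.Agent.Lib.Helper8.Cover4

/-!
# Knörr's theorem for a given defect group
-/

set_option autoImplicit false
set_option linter.unusedSectionVars false

namespace Cfsg.Agent.Lib.Helper8

open Cfsg
open scoped ComplexConjugate
open Cfsg.Agent.Lib.Helper1 Cfsg.Agent.Lib.Helper4

universe u

section

variable {G : Type u} [Group G] [Fintype G] (N : Subgroup G) [hN : N.Normal] [Fintype N]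
  {M : Ideal AlgInt} {p : ℕ} [Fact p.Prime]

theorem conjIrr_congr (K : Subgroup G) {x y : G} (h : x = y)
    (hx : x ∈ Subgroup.normalizer (K : Set G)) (hy : y ∈ Subgroup.normalizer (K : Set G))
    (χ : IrrCharacter K) : conjIrr K x hx χ = conjIrr K y hy χ := by
  subst h
  rfl

/-- Covering is invariant under conjugation of the covered block. -/
theorem covers_image_conjIrr (x : G) (hx : x ∈ Subgroup.normalizer (N : Set G))
    {B : Set (IrrCharacter G)} {b : Set (IrrCharacter N)} (hcov : Covers N B b) :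
    Covers N B (conjIrr N x hx '' b) := by
  obtain ⟨χ, hχ, θ, hθ, h⟩ := hcov
  refine ⟨χ, hχ, conjIrr N x hx θ, ⟨θ, hθ, rfl⟩, ?_⟩
  have h2 : (conjIrr N x hx θ : N → ℂ) = conjFn N (θ : N → ℂ) x⁻¹ := by
    funext n
    rw [conjIrr_apply, conjFn_apply]
    exact congrArg _ (Subtype.ext (by simp))
  rw [h2, classInner_restrict_conjFn N (isClassFunction_irr χ.2)]
  exact h

/-- Every block covers some block of the normal subgroup. -/
theorem exists_covered (hM : M.IsPrime) {B : Set (IrrCharacter G)} (hB : IsPBlock M B) :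
    ∃ b : Set (IrrCharacter N), IsPBlock M b ∧ Covers N B b := by
  obtain ⟨χ, hχ⟩ := isPBlock_nonempty hM hB
  have hres : IsCharacter N (fun n : N => (χ : G → ℂ) n) :=
    Cfsg.Agent.S0148.isCharacter_restrict N (isCharacter_of_irr χ.2)
  obtain ⟨ψ, hψ⟩ := exists_irr_constituent hres (irr_apply_one_ne_zero χ.2)
  exact ⟨blockOf M (ψ : N → ℂ), ⟨ψ, rfl⟩, χ, hχ, ψ, sameBlock_refl hM.ne_top _, hψ⟩

/-- **Knörr's theorem for a given defect group** `P` of `B`: some `P`-stable block `c` of `N`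
covered by `B` has defect group `P ⊓ N`. -/
theorem knorr_given (hM : IsPModular p M) {B : Set (IrrCharacter G)} (hB : IsPBlock M B)
    {P : Subgroup G} (hP : IsDefectGroup p M B P) :
    ∃ c : Set (IrrCharacter N), IsPBlock M c ∧ (∀ x ∈ P, StabilizesBlock N c x) ∧ Covers N B c ∧
      IsDefectGroup p M c ((P ⊓ N).subgroupOf N) := by
  classical
  have hMp := isPModular_isPrime hM
  obtain ⟨b₀, hb₀, hcov₀⟩ := exists_covered N hMp hB
  obtain ⟨Qn, hQ⟩ := exists_isDefectGroup (p := p) hMp hb₀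
  obtain ⟨P₀, hP₀, hP₀N, hstab⟩ := knorr N hM hb₀ hB hcov₀ hQ
  obtain ⟨x, hxP⟩ := exists_conj_eq_of_isDefectGroup hM hB hP hP₀
  have hnorm : ∀ y : G, y ∈ Subgroup.normalizer (N : Set G) := fun y => by
    rw [Subgroup.normalizer_eq_top]
    exact Subgroup.mem_top _
  have hx := hnorm x
  refine ⟨conjIrr N x hx '' b₀, isPBlock_image_conjIrr N x hx hb₀, ?_,
    covers_image_conjIrr N x hx hcov₀, ?_⟩
  · intro y hy
    rw [← hxP] at hy
    obtain ⟨y₀, hy₀, rfl⟩ := hy
    rw [stabilizesBlock_iff]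
    refine ⟨hnorm _, ?_⟩
    rintro _ ⟨θ, hθ, rfl⟩
    obtain ⟨hy₀n, hy₀s⟩ := (stabilizesBlock_iff N b₀ y₀).1 (hstab y₀ hy₀)
    refine ⟨conjIrr N y₀ hy₀n θ, hy₀s θ hθ, ?_⟩
    rw [← conjIrr_mul, ← conjIrr_mul]
    apply conjIrr_congr
    simp [MulAut.conj_apply]
  · have h1 := isDefectGroup_image_irrMap (conjAutOn N x hx) hQ
    have h2 : Qn.map (conjAutOn N x hx).toMonoidHom = (P ⊓ N).subgroupOf N := by
      ext n
      rw [Subgroup.mem_subgroupOf]
      constructor
      · rintro ⟨w, hw, rfl⟩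
        have hw' : (w : G) ∈ P₀ ⊓ N := by
          rw [hP₀N]
          exact ⟨w, hw, rfl⟩
        refine ⟨?_, Subtype.property _⟩
        rw [← hxP]
        exact ⟨(w : G), hw'.1, rfl⟩
      · rintro ⟨hnP, -⟩
        rw [← hxP] at hnP
        obtain ⟨d, hd, hdn⟩ := hnP
        have hdN : d ∈ N := by
          have h3 : d = x⁻¹ * (n : G) * x := by
            rw [← hdn]
            simp [MulAut.conj_apply]
            group
          rw [h3]
          have := hN.conj_mem (n : G) n.2 x⁻¹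
          simpa using this
        have hd' : d ∈ P₀ ⊓ N := ⟨hd, hdN⟩
        rw [hP₀N] at hd'
        obtain ⟨w, hw, rfl⟩ := hd'
        refine ⟨w, hw, ?_⟩
        apply Subtype.ext
        exact hdn
    rw [← h2]
    exact h1

end

end Cfsg.Agent.Lib.Helper8
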