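import Mathlib
import Cfsg.Prelude.Def_Blocks
import Cfsg.Prelude.Def_BlockLocal
import Cfsg.Agent.Lib.Helper8.Fong1
import Cfsg.Agent.S0932
import Cfsg.Agent.S0161

/-!
# Fong's theorem, part 2: splitting a `G`-class inside `N` into `N`-classes
-/

set_option autoImplicit false

namespace Cfsg.Agent.Lib.Helper8

open Cfsg
open scoped ComplexConjugate
open Cfsg.Agent.Lib.Helper1 Cfsg.Agent.Lib.Helper4

universe u

section

variable {G : Type u} [Group G] [Fintype G] (N : Subgroup G) [hN : N.Normal] [Fintype N]
  {M : Ideal AlgInt} {p : ℕ}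

/-- The number of `N`-classes into which the `G`-class of `y` splits (when `y ∈ N`). -/
noncomputable def splitCount (y : G) : ℕ :=
  Nat.card {c : ConjClasses N // IsConj y ((Quotient.out c : N) : G)}

omit hN [Fintype N] in
theorem sum_classIndicator_out [Fintype (ConjClasses N)] (y : G) :
    ∑ c : ConjClasses N, classIndicator y ((Quotient.out c : N) : G) = (splitCount N y : ℂ) := by
  classical
  unfold splitCount classIndicator
  rw [Finset.sum_boole, Nat.card_eq_fintype_card, Fintype.card_subtype]

omit hN in
theorem inducedCentralChar_eq_sum_classes [Fintype (ConjClasses N)] [DecidableEq G]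
    {ξ : N → ℂ} (hξ : IsIrrCharacter N ξ) (y : G) :
    inducedCentralChar N ξ y = ∑ c : ConjClasses N,
      classIndicator y ((Quotient.out c : N) : G) * centralChar ξ (Quotient.out c) := by
  rw [inducedCentralChar_eq_omega,
    omega_eq_sum_classes hξ (isClassFunction_restrict N (classIndicator_isClassFunction y))]

omit [Fintype N] in
/-- The central character at a conjugate element. -/
theorem centralChar_conj_eq (g : G) (θ : IrrCharacter N) (y' : N) :
    centralChar (θ : N → ℂ) (conjAutOn N g (mem_normalizer_of_normal N g) y') =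
      centralChar (conjIrr N g⁻¹ (mem_normalizer_of_normal N g⁻¹) θ : N → ℂ) y' := by
  have h1 := centralChar_conjIrr N g (mem_normalizer_of_normal N g)
    (conjIrr N g⁻¹ (mem_normalizer_of_normal N g⁻¹) θ) y'
  rw [← h1]
  congr 2
  exact (conjIrr_conjIrr_inv N g (mem_normalizer_of_normal N g) θ).symm

/-- For `θ` in an invariant block, the induced central character at `y ∈ N` is congruent to the
number of `N`-classes in the `G`-class of `y` times the central character of `θ` at `y`. -/
theorem memLocalIdeal_inducedCentralChar_sub (hM : M.IsPrime) {b : Set (IrrCharacter N)}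
    (hb : IsPBlock M b) (hinv : ∀ g : G, StabilizesBlock N b g) {θ : IrrCharacter N} (hθ : θ ∈ b)
    (y' : N) :
    MemLocalIdeal M (inducedCentralChar N (θ : N → ℂ) (y' : G) -
      (splitCount N (y' : G) : ℂ) * centralChar (θ : N → ℂ) y') := by
  classical
  have : Fintype (ConjClasses N) := Fintype.ofFinite _
  rw [inducedCentralChar_eq_sum_classes N θ.2]
  have h1 : (splitCount N (y' : G) : ℂ) * centralChar (θ : N → ℂ) y' = ∑ c : ConjClasses N,
      classIndicator (y' : G) ((Quotient.out c : N) : G) * centralChar (θ : N → ℂ) y' := by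
    rw [← Finset.sum_mul, sum_classIndicator_out]
  rw [h1, ← Finset.sum_sub_distrib]
  apply memLocalIdeal_sum hM
  intro c _
  rw [← mul_sub]
  unfold classIndicator
  by_cases hc : IsConj (y' : G) ((Quotient.out c : N) : G)
  · rw [if_pos hc, one_mul]
    obtain ⟨g, hg⟩ := isConj_iff.1 hc
    have e1 : (Quotient.out c : N) = conjAutOn N g (mem_normalizer_of_normal N g) y' :=
      Subtype.ext hg.symm
    rw [e1, centralChar_conj_eq]
    obtain ⟨hx, hst⟩ := (stabilizesBlock_iff N b g⁻¹).1 (hinv g⁻¹)
    have h2 : conjIrr N g⁻¹ (mem_normalizer_of_normal N g⁻¹) θ ∈ b := hst θ hθ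
    have h3 : SameBlock M (conjIrr N g⁻¹ (mem_normalizer_of_normal N g⁻¹) θ : N → ℂ)
        (θ : N → ℂ) := by
      have := eq_blockOf_of_mem hM hb h2
      rw [this] at hθ
      exact hθ
    exact h3 y'
  · rw [if_neg hc, zero_mul]
    exact memLocalIdeal_zero hM.ne_top

/-- The index of the centralizer of `y ∈ N` in `G` is the number of `N`-classes in its `G`-class
times the index of its centralizer in `N`. -/
theorem index_centralizer_eq_splitCount_mul (y' : N) :
    (Subgroup.centralizer ({(y' : G)} : Set G)).index =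
      splitCount N (y' : G) * (Subgroup.centralizer ({y'} : Set N)).index := by
  classical
  have : Fintype (ConjClasses N) := Fintype.ofFinite _
  have hone : IsIrrCharacter N (fun _ : N => (1 : ℂ)) := Cfsg.Agent.S0161.isIrrCharacter_one
  have h1 := inducedCentralChar_eq_sum_classes N hone (y' : G)
  rw [Cfsg.Agent.S0932.result N _ (isCharacter_of_irr hone)] at h1
  have hG0 : (Nat.card G : ℂ) ≠ 0 := Nat.cast_ne_zero.2 Nat.card_pos.ne'
  have hN0 : (Nat.card N : ℂ) ≠ 0 := Nat.cast_ne_zero.2 Nat.card_pos.ne'
  have h2 : indFun N (fun _ : N => (1 : ℂ)) (y' : G) = (Nat.card N : ℂ)⁻¹ * (Nat.card G : ℂ) := by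
    rw [indFun_normal_apply]
    simp [conjFn, Nat.card_eq_fintype_card]
  have h3 : indFun N (fun _ : N => (1 : ℂ)) 1 = (Nat.card N : ℂ)⁻¹ * (Nat.card G : ℂ) := by
    rw [Cfsg.Agent.S0170.indFun_one, mul_one]
  have h4 : centralChar (indFun N (fun _ : N => (1 : ℂ))) (y' : G) =
      ((Subgroup.centralizer ({(y' : G)} : Set G)).index : ℂ) := by
    unfold centralChar
    rw [h2, h3, mul_div_assoc, div_self (mul_ne_zero (inv_ne_zero hN0) hG0), mul_one]
  rw [h4] at h1
  have h5 : ∀ c : ConjClasses N,
      classIndicator (y' : G) ((Quotient.out c : N) : G) *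
        centralChar (fun _ : N => (1 : ℂ)) (Quotient.out c) =
      classIndicator (y' : G) ((Quotient.out c : N) : G) *
        ((Subgroup.centralizer ({y'} : Set N)).index : ℂ) := by
    intro c
    unfold classIndicator
    by_cases hc : IsConj (y' : G) ((Quotient.out c : N) : G)
    · rw [if_pos hc, one_mul, one_mul]
      obtain ⟨g, hg⟩ := isConj_iff.1 hc
      have e1 : (Quotient.out c : N) = conjAutOn N g (mem_normalizer_of_normal N g) y' :=
        Subtype.ext hg.symm
      unfold centralChar
      rw [e1, index_centralizer_conjAutOn]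
      simp
    · rw [if_neg hc, zero_mul, zero_mul]
  rw [Finset.sum_congr rfl fun c _ => h5 c, ← Finset.sum_mul] at h1
  rw [sum_classIndicator_out] at h1
  exact_mod_cast h1

end

end Cfsg.Agent.Lib.Helper8
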