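import Mathlib
import Cfsg.Prelude.Def_Blocks
import Cfsg.Prelude.Def_BlockLocal
import Cfsg.Agent.Lib.Helper8.Fong2
import Cfsg.Agent.Lib.Helper8.BlockDefectBounds
import Cfsg.Agent.Lib.Helper8.BlockFirstMain4

/-!
# Fong's theorem, part 3: the defect class
-/

set_option autoImplicit false

namespace Cfsg.Agent.Lib.Helper8

open Cfsg
open scoped ComplexConjugate
open Cfsg.Agent.Lib.Helper1 Cfsg.Agent.Lib.Helper4

universe u

section

variable {G : Type u} [Group G] [Fintype G] (N : Subgroup G) [hN : N.Normal] [Fintype N]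
  {M : Ideal AlgInt} {p : ℕ} [Fact p.Prime]

omit [Fintype G] hN [Fintype N] [Fact p.Prime] in
theorem inducedCentralChar_of_isConj (ξ : N → ℂ) {x y : G} (h : IsConj x y) :
    inducedCentralChar N ξ x = inducedCentralChar N ξ y := by
  unfold inducedCentralChar
  have : {h' : N | IsConj x (h' : G)} = {h' : N | IsConj y (h' : G)} := by
    ext h'
    simp only [Set.mem_ofPred_eq]
    exact ⟨fun h1 => h.symm.trans h1, fun h1 => h.trans h1⟩
  rw [this]

/-- **Fong's theorem, core.**  For a block `B` of maximal defect covering the invariant block `b`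
and a defect group `P` of `B`, there is `y ∈ N` whose `N`-class is a defect class of `b`, with
`P` a Sylow `p`-subgroup of `C_G(y)` and the `G`-class of `y` splitting into a number of
`N`-classes prime to `p`. -/
theorem fong_core (hM : IsPModular p M) {b : Set (IrrCharacter N)} (hb : IsPBlock M b)
    (hinv : ∀ g : G, StabilizesBlock N b g) {B : Set (IrrCharacter G)} (hB : IsPBlock M B)
    (hcov : Covers N B b)
    (hmax : ∀ B' : Set (IrrCharacter G), IsPBlock M B' → Covers N B' b →
      blockDefect p B' ≤ blockDefect p B)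
    {P : Subgroup G} (hP : IsDefectGroup p M B P) :
    ∃ y' : N, IsDefectClass M b y' ∧ P ≤ Subgroup.centralizer ({(y' : G)} : Set G) ∧
      blockDefect p B = (Nat.card (Subgroup.centralizer ({(y' : G)} : Set G))).factorization p ∧
      ¬ p ∣ splitCount N (y' : G) := by
  classical
  have hMp := isPModular_isPrime hM
  have hcl := isClassFunction_eb_of_invariant N hinv
  obtain ⟨θ, hθ⟩ := isPBlock_nonempty hMp hb
  obtain ⟨x, hxN, hfx, hιx⟩ := exists_unit_eb_inducedCentralChar N hMp hb hcl hθ
  -- central characters of covering blocks are units at `x`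
  have hstep2 : ∀ B' : Set (IrrCharacter G), IsPBlock M B' → Covers N B' b → ∀ χ ∈ B',
      ¬ MemLocalIdeal M (centralChar (χ : G → ℂ) x) := by
    intro B' hB' hcov' χ hχ hmem
    apply hιx
    have h1 := covers_cong N hMp hB' hb hcov' hχ hθ ⟨x, hxN⟩
    have := memLocalIdeal_sub hMp hmem h1
    rwa [sub_sub_cancel] at this
  have hle : ∀ B' : Set (IrrCharacter G), IsPBlock M B' → Covers N B' b →
      blockDefect p B' ≤ (Nat.card (Subgroup.centralizer ({x} : Set G))).factorization p := by
    intro B' hB' hcov'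
    obtain ⟨χ, hχ⟩ := isPBlock_nonempty hMp hB'
    exact le_factorization_of_not_memLocalIdeal_centralChar hM hB'
      ⟨χ, hχ, hstep2 B' hB' hcov' χ hχ⟩
  -- some covering block has a unit idempotent coefficient at `x`
  have hstep3 : ∃ B₀ : Set (IrrCharacter G), IsPBlock M B₀ ∧ Covers N B₀ b ∧
      ¬ MemLocalIdeal M (blockCoeff B₀ x) := by
    by_contra hcon
    push Not at hcon
    apply hfx
    rw [eb_eq_blockCoeff_over N hcl]
    apply blockCoeff_union_induction hMp (MemLocalIdeal M) (memLocalIdeal_zero hMp.ne_top)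
      (fun a b ha hb => memLocalIdeal_add hMp ha hb) x
    · intro χ hχ ψ hψ
      exact omega_eb_G_eq_one_of_sameBlock N hMp hb hcl χ.2 ψ.2 hψ hχ
    · intro χ hχ
      apply hcon _ ⟨χ, rfl⟩
      obtain ⟨θ', hθ', h⟩ := (omega_eb_G_eq_one_iff N hcl χ.2).1 hχ
      exact ⟨χ, sameBlock_refl hMp.ne_top _, θ', hθ', h⟩
  obtain ⟨B₀, hB₀, hcov₀, ha₀⟩ := hstep3
  have hge : (Nat.card (Subgroup.centralizer ({x} : Set G))).factorization p ≤ blockDefect p B₀ :=
    factorization_le_of_not_memLocalIdeal_blockCoeff hM hB₀ ha₀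
  have hdB : blockDefect p B = (Nat.card (Subgroup.centralizer ({x} : Set G))).factorization p :=
    le_antisymm (hle B hB hcov) (hge.trans (hmax B₀ hB₀ hcov₀))
  -- move to a conjugate centralized by `P`
  have hPp : IsPGroup p P := isPGroup_of_isDefectGroup hP
  obtain ⟨g, hg, S, hS⟩ := hP
  have hPg : P ≤ Subgroup.centralizer ({g} : Set G) := by
    rw [hS]
    exact Subgroup.map_subtype_le _
  obtain ⟨χ, hχ⟩ := isPBlock_nonempty hMp hB
  obtain ⟨y, hxy, hPy⟩ := exists_isConj_le_centralizer hM hB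
    ⟨χ, hχ, hstep2 B hB hcov χ hχ⟩ hg.2.1 P hPp hPg
  obtain ⟨t, ht⟩ := isConj_iff.1 hxy
  have hyN : y ∈ N := by
    rw [← ht]
    exact hN.conj_mem x hxN t
  have hfy : ¬ MemLocalIdeal M (eb N b y) := by
    rw [← ht, hcl x t]
    exact hfx
  have hιy : ¬ MemLocalIdeal M (inducedCentralChar N (θ : N → ℂ) y) := by
    rw [← inducedCentralChar_of_isConj N _ hxy]
    exact hιx
  have hcard : Nat.card (Subgroup.centralizer ({y} : Set G)) =
      Nat.card (Subgroup.centralizer ({x} : Set G)) := by
    rw [← ht]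
    exact card_centralizer_conj x t
  -- the splitting number is prime to `p` and the central character of `θ` is a unit at `y`
  have hF1 := memLocalIdeal_inducedCentralChar_sub N hMp hb hinv hθ ⟨y, hyN⟩
  have hωloc : MemLocalRing M (centralChar (θ : N → ℂ) ⟨y, hyN⟩) :=
    memLocalRing_centralChar hMp.ne_top θ.2 _
  have hm : ¬ p ∣ splitCount N y := by
    intro hdvd
    apply hιy
    have h1 : MemLocalIdeal M ((splitCount N y : ℂ) * centralChar (θ : N → ℂ) ⟨y, hyN⟩) :=
      memLocalIdeal_mul_right hMp ((memLocalIdeal_natCast_iff hM _).2 hdvd) hωloc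
    have := memLocalIdeal_add hMp hF1 h1
    rwa [sub_add_cancel] at this
  have hω : ¬ MemLocalIdeal M (centralChar (θ : N → ℂ) ⟨y, hyN⟩) := by
    intro hmem
    apply hιy
    have h1 : MemLocalIdeal M ((splitCount N y : ℂ) * centralChar (θ : N → ℂ) ⟨y, hyN⟩) :=
      memLocalIdeal_mul_left hMp (memLocalRing_natCast hMp.ne_top _) hmem
    have := memLocalIdeal_add hMp hF1 h1
    rwa [sub_add_cancel] at this
  refine ⟨⟨y, hyN⟩, ⟨?_, ?_, ?_⟩, hPy, ?_, hm⟩
  · exact blockCoeff_memLocalRing hMp hb _
  · have : blockCoeff b ⟨y, hyN⟩ = eb N b y := by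
      unfold eb
      rw [extZ_of_mem N _ hyN]
    rw [this]
    exact hfy
  · intro θ' hθ' hmem
    apply hω
    have hs : SameBlock M (θ : N → ℂ) (θ' : N → ℂ) := by
      have := eq_blockOf_of_mem hMp hb hθ
      rw [this] at hθ'
      exact hθ'
    have := memLocalIdeal_add hMp (hs ⟨y, hyN⟩) hmem
    rwa [sub_add_cancel] at this
  · rw [hdB, hcard]

end

end Cfsg.Agent.Lib.Helper8
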