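import Mathlib
import Cfsg.Prelude.Def_Blocks
import Cfsg.Prelude.Def_BlockLocal
import Cfsg.Agent.Lib.Helper8.Fong3
import Cfsg.Agent.Lib.Helper8.BlockFirstMain3

/-!
# Fong's theorem, part 4: the defect groups
-/

set_option autoImplicit false

namespace Cfsg.Agent.Lib.Helper8

open Cfsg
open scoped ComplexConjugate
open Cfsg.Agent.Lib.Helper1 Cfsg.Agent.Lib.Helper4

universe u

section

variable {G : Type u} [Group G] [Finite G]

omit [Finite G] in
theorem card_sup_mul_card_inf_of_normal (P N : Subgroup G) [N.Normal] :
    Nat.card (P ⊔ N : Subgroup G) * Nat.card (P ⊓ N : Subgroup G) = Nat.card P * Nat.card N := by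
  have h1 : Nat.card N * N.relIndex (P ⊔ N) = Nat.card (P ⊔ N : Subgroup G) := by
    have := Subgroup.card_mul_index (N.subgroupOf (P ⊔ N))
    rw [Nat.card_congr (Subgroup.subgroupOfEquivOfLe (le_sup_right : N ≤ P ⊔ N)).toEquiv] at this
    exact this
  have h2 : Nat.card (P ⊓ N : Subgroup G) * (P ⊓ N).relIndex P = Nat.card P := by
    have := Subgroup.card_mul_index ((P ⊓ N).subgroupOf P)
    rw [Nat.card_congr (Subgroup.subgroupOfEquivOfLe (inf_le_left : P ⊓ N ≤ P)).toEquiv] at this
    exact this
  rw [Subgroup.relIndex_sup_right] at h1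
  rw [Subgroup.inf_relIndex_left] at h2
  rw [← h1, ← h2]
  ring

end

section

variable {G : Type u} [Group G] [Fintype G] (N : Subgroup G) [hN : N.Normal] [Fintype N]
  {M : Ideal AlgInt} {p : ℕ} [Fact p.Prime]

/-- **Fong's theorem** on blocks of maximal defect covering an invariant block. -/
theorem fong_maximal_defect (hM : IsPModular p M) {b : Set (IrrCharacter N)} (hb : IsPBlock M b)
    (hinv : ∀ g : G, StabilizesBlock N b g) {B : Set (IrrCharacter G)} (hB : IsPBlock M B)
    (hcov : Covers N B b)
    (hmax : ∀ B' : Set (IrrCharacter G), IsPBlock M B' → Covers N B' b →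
      blockDefect p B' ≤ blockDefect p B)
    {P : Subgroup G} (hP : IsDefectGroup p M B P) :
    ¬ p ∣ (P ⊔ N).index ∧ IsDefectGroup p M b ((P ⊓ N).subgroupOf N) ∧
      blockDefect p B = blockDefect p b + N.index.factorization p := by
  classical
  have hp : p.Prime := hM.1
  obtain ⟨y', hy', hPy, hdB, hm⟩ := fong_core N hM hb hinv hB hcov hmax hP
  have hdb := factorization_card_centralizer_of_isDefectClass hM hb hy'
  have hsplit := index_centralizer_eq_splitCount_mul N y'
  have hPcard : Nat.card P = p ^ blockDefect p B := card_of_isDefectGroup hM hB hP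
  have hPp : IsPGroup p P := isPGroup_of_isDefectGroup hP
  set CG := Subgroup.centralizer ({(y' : G)} : Set G) with hCG
  set CN := Subgroup.centralizer ({y'} : Set N) with hCN
  have e1 : Nat.card CG * CG.index = Nat.card G := Subgroup.card_mul_index CG
  have e2 : Nat.card CN * CN.index = Nat.card N := Subgroup.card_mul_index CN
  have e3 : Nat.card N * N.index = Nat.card G := Subgroup.card_mul_index N
  have hi0 : CN.index ≠ 0 := Subgroup.index_ne_zero_of_finite
  have hNi0 : N.index ≠ 0 := Subgroup.index_ne_zero_of_finite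
  have hm0 : splitCount N (y' : G) ≠ 0 := by
    intro h
    rw [h] at hm
    exact hm (dvd_zero p)
  have ha0 : Nat.card CG ≠ 0 := Nat.card_pos.ne'
  have hn0 : Nat.card CN ≠ 0 := Nat.card_pos.ne'
  -- `|C_G(y)| * m = |C_N(y)| * |G : N|`
  have e4 : Nat.card CG * splitCount N (y' : G) = Nat.card CN * N.index := by
    have : Nat.card CG * splitCount N (y' : G) * CN.index = Nat.card CN * N.index * CN.index := by
      calc Nat.card CG * splitCount N (y' : G) * CN.index
          = Nat.card CG * CG.index := by rw [hsplit]; ring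
        _ = Nat.card N * N.index := by rw [e1, e3]
        _ = Nat.card CN * N.index * CN.index := by rw [← e2]; ring
    exact Nat.eq_of_mul_eq_mul_right (Nat.pos_of_ne_zero hi0) this
  have hm' : (splitCount N (y' : G)).factorization p = 0 :=
    Nat.factorization_eq_zero_of_not_dvd hm
  have hc : blockDefect p B = blockDefect p b + N.index.factorization p := by
    have := congrArg (fun k => k.factorization p) e4
    simp only [Nat.factorization_mul ha0 hm0, Nat.factorization_mul hn0 hNi0, Finsupp.coe_add,
      Pi.add_apply] at this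
    rw [hdB, ← hdb]
    omega
  -- the intersection `P ⊓ N`
  have hXp : IsPGroup p (P ⊓ N : Subgroup G) := hPp.to_le inf_le_left
  obtain ⟨k, hk⟩ := IsPGroup.iff_card.1 hXp
  have hXCN : (P ⊓ N).subgroupOf N ≤ CN := by
    intro n hn
    rw [Subgroup.mem_subgroupOf] at hn
    have h1 := hPy hn.1
    rw [Subgroup.mem_centralizer_singleton_iff] at h1
    rw [hCN, Subgroup.mem_centralizer_singleton_iff]
    exact Subtype.ext h1
  have hXcard : Nat.card ((P ⊓ N).subgroupOf N) = p ^ k := by
    rw [← hk]
    exact Nat.card_congr (Subgroup.subgroupOfEquivOfLe (inf_le_right : P ⊓ N ≤ N)).toEquiv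
  have hk_le : k ≤ blockDefect p b := by
    have h1 : p ^ k ∣ Nat.card CN := by
      rw [← hXcard]
      exact Subgroup.card_dvd_of_le hXCN
    rw [← hdb]
    exact (hp.pow_dvd_iff_le_factorization hn0).1 h1
  have e5 := card_sup_mul_card_inf_of_normal P N
  have hsup0 : Nat.card (P ⊔ N : Subgroup G) ≠ 0 := Nat.card_pos.ne'
  have hN0 : Nat.card N ≠ 0 := Nat.card_pos.ne'
  have e6 : (Nat.card (P ⊔ N : Subgroup G)).factorization p + k =
      blockDefect p B + (Nat.card N).factorization p := by
    have := congrArg (fun k => k.factorization p) e5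
    simp only [Nat.factorization_mul hsup0 Nat.card_pos.ne',
      Nat.factorization_mul Nat.card_pos.ne' hN0, Finsupp.coe_add, Pi.add_apply] at this
    rw [hk, hPcard, hp.factorization_pow, hp.factorization_pow] at this
    simpa using this
  have e7 : Nat.card (P ⊔ N : Subgroup G) * (P ⊔ N).index = Nat.card G :=
    Subgroup.card_mul_index _
  have hsi0 : (P ⊔ N).index ≠ 0 := Subgroup.index_ne_zero_of_finite
  have e8 : (Nat.card (P ⊔ N : Subgroup G)).factorization p + ((P ⊔ N).index).factorization p =
      (Nat.card N).factorization p + N.index.factorization p := by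
    have := congrArg (fun k => k.factorization p) (e7.trans e3.symm)
    simpa only [Nat.factorization_mul hsup0 hsi0, Nat.factorization_mul hN0 hNi0, Finsupp.coe_add,
      Pi.add_apply] using this
  have hk_eq : k = blockDefect p b := by omega
  have hidx : ((P ⊔ N).index).factorization p = 0 := by omega
  refine ⟨?_, ?_, hc⟩
  · intro hdvd
    have := (hp.dvd_iff_one_le_factorization hsi0).1 hdvd
    omega
  · -- the Sylow subgroup
    have hcard' : Nat.card (((P ⊓ N).subgroupOf N).subgroupOf CN) =
        p ^ (Nat.card CN).factorization p := by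
      rw [Nat.card_congr (Subgroup.subgroupOfEquivOfLe hXCN).toEquiv, hXcard, hdb, hk_eq]
    refine ⟨y', hy', Sylow.ofCard _ hcard', ?_⟩
    rw [Sylow.coe_ofCard, subgroupOf_map_subtype_of_le hXCN]

end

end Cfsg.Agent.Lib.Helper8
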