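import Mathlib
import Cfsg.Prelude.Def_Blocks
import Cfsg.Prelude.Def_BrauerPairs
import Cfsg.Agent.Lib.Helper8.Fong4
import Cfsg.Agent.Lib.Helper8.Cover3

/-!
# Invariant blocks of normal subgroups of `p`-power index
-/

set_option autoImplicit false
set_option linter.unusedSectionVars false

namespace Cfsg.Agent.Lib.Helper8

open Cfsg
open scoped ComplexConjugate
open Cfsg.Agent.Lib.Helper1 Cfsg.Agent.Lib.Helper4

universe u

section

variable {G : Type u} [Group G] [Fintype G] (N : Subgroup G) [hN : N.Normal] [Fintype N]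
  {M : Ideal AlgInt} {p : ℕ} [Fact p.Prime]

/-- For an invariant block `c` of a normal subgroup of `p`-power index, the characters over `c`
form the unique block covering `c`. -/
theorem over_eq_of_covers_pIndex (hM : IsPModular p M) (hidx : ∃ k : ℕ, N.index = p ^ k)
    {c : Set (IrrCharacter N)} (hc : IsPBlock M c) (hst : ∀ x : G, StabilizesBlock N c x)
    {B : Set (IrrCharacter G)} (hB : IsPBlock M B) (hcov : Covers N B c) :
    {χ : IrrCharacter G | omega (χ : G → ℂ) (eb N c) = 1} = B := by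
  have hMp := isPModular_isPrime hM
  have hcl := isClassFunction_eb_of_invariant N hst
  obtain ⟨χ₀, hχ₀, θ₀, hθ₀, h0⟩ := hcov
  have h1 : omega (χ₀ : G → ℂ) (eb N c) = 1 :=
    (omega_eb_G_eq_one_iff N hcl χ₀.2).2 ⟨θ₀, hθ₀, h0⟩
  ext χ
  constructor
  · intro hχ
    obtain ⟨θ, hθ, hχθ⟩ := (omega_eb_G_eq_one_iff N hcl χ.2).1 hχ
    have hB' : IsPBlock M (blockOf M (χ : G → ℂ)) := ⟨χ, rfl⟩
    have hcov' : Covers N (blockOf M (χ : G → ℂ)) c :=
      ⟨χ, sameBlock_refl hMp.ne_top _, θ, hθ, hχθ⟩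
    have := covers_unique_of_index N hM hidx hB hB' hc ⟨χ₀, hχ₀, θ₀, hθ₀, h0⟩ hcov'
    rw [this]
    exact sameBlock_refl hMp.ne_top _
  · intro hχ
    have hs : SameBlock M (χ₀ : G → ℂ) (χ : G → ℂ) := by
      rw [eq_blockOf_of_mem hMp hB hχ₀] at hχ
      exact hχ
    exact omega_eb_G_eq_one_of_sameBlock N hMp hc hcl χ₀.2 χ.2 hs h1

theorem block_of_pIndex_invariant (hM : IsPModular p M) (hidx : ∃ k : ℕ, N.index = p ^ k)
    {c : Set (IrrCharacter N)} (hc : IsPBlock M c) (hst : ∀ x : G, StabilizesBlock N c x) :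
    (∃ B : Set (IrrCharacter G), IsPBlock M B ∧ ∀ g : G, blockCoeff B g = eb N c g) ∧
    ∀ B : Set (IrrCharacter G), IsPBlock M B → (∀ g : G, blockCoeff B g = eb N c g) →
      ∀ P : Subgroup G, IsDefectGroup p M B P →
        N ⊔ P = ⊤ ∧ IsDefectGroup p M c ((P ⊓ N).subgroupOf N) := by
  classical
  have hMp := isPModular_isPrime hM
  have hcl := isClassFunction_eb_of_invariant N hst
  obtain ⟨B₁, hB₁, hcov₁⟩ := exists_covers (G := G) N hMp hc
  have hover := over_eq_of_covers_pIndex N hM hidx hc hst hB₁ hcov₁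
  have heb : eb N c = blockCoeff B₁ := by
    rw [eb_eq_blockCoeff_over N hcl, hover]
  refine ⟨⟨B₁, hB₁, fun g => by rw [heb]⟩, ?_⟩
  intro B hB hBc P hP
  have hBB : B = B₁ := by
    obtain ⟨χ, hχ⟩ := isPBlock_nonempty hMp hB₁
    have h1 := (blockCoeff_spec hMp hB).2.2 χ
    have h2 := (blockCoeff_spec hMp hB₁).2.2 χ
    have h3 : blockCoeff B = blockCoeff B₁ := by
      funext g
      rw [hBc g, heb]
    rw [h3, h2, if_pos hχ] at h1
    by_cases hχB : χ ∈ B
    · rw [eq_blockOf_of_mem hMp hB hχB, eq_blockOf_of_mem hMp hB₁ hχ]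
    · rw [if_neg hχB] at h1
      exact absurd h1 one_ne_zero
  subst hBB
  have hmax : ∀ B' : Set (IrrCharacter G), IsPBlock M B' → Covers N B' c →
      blockDefect p B' ≤ blockDefect p B := by
    intro B' hB' hcov'
    rw [covers_unique_of_index N hM hidx hB' hB hc hcov' hcov₁]
  obtain ⟨h1, h2, -⟩ := fong_maximal_defect N hM hc hst hB hcov₁ hmax hP
  refine ⟨?_, h2⟩
  obtain ⟨k, hk⟩ := hidx
  have hdvd : (P ⊔ N).index ∣ N.index := Subgroup.index_dvd_of_le le_sup_right
  rw [hk] at hdvd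
  obtain ⟨j, -, hj⟩ := (Nat.dvd_prime_pow hM.1).1 hdvd
  have hj0 : j = 0 := by
    by_contra hj0
    apply h1
    rw [hj]
    exact dvd_pow_self p hj0
  rw [hj0, pow_zero, Subgroup.index_eq_one] at hj
  rw [sup_comm]
  exact hj

end

end Cfsg.Agent.Lib.Helper8
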