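import Mathlib
import Cfsg.Prelude.Def_Blocks
import Cfsg.Prelude.Def_BlockLocal
import Cfsg.Agent.Lib.Helper8.BlockIso
import Cfsg.Agent.Lib.Helper8.CA8

/-!
# Relative block theory: transport between `K ≤ H ≤ G` and the ambient group `↥H`

For subgroups `K ≤ H` of `G`, blocks of `K` correspond to blocks of the subgroup `K.subgroupOf H`
of the group `↥H`, via the isomorphism `K.subgroupOf H ≃* K`.
-/

set_option autoImplicit false
set_option linter.unusedSectionVars false

namespace Cfsg.Agent.Lib.Helper8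

open Cfsg
open scoped ComplexConjugate
open Cfsg.Agent.Lib.Helper1 Cfsg.Agent.Lib.Helper4

universe u

section

variable {G : Type u} [Group G] {M : Ideal AlgInt} {p : ℕ} (H K : Subgroup G) (hKH : K ≤ H)

/-- Transport of a set of irreducible characters of `K` to the subgroup `K.subgroupOf H` of `↥H`. -/
noncomputable def trB (e : Set (IrrCharacter K)) : Set (IrrCharacter (K.subgroupOf H)) :=
  irrMap (Subgroup.subgroupOfEquivOfLe hKH).symm '' e

/-- Transport back. -/
noncomputable def trB' (e : Set (IrrCharacter (K.subgroupOf H))) : Set (IrrCharacter K) :=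
  irrMap (Subgroup.subgroupOfEquivOfLe hKH) '' e

theorem trB'_trB (e : Set (IrrCharacter K)) : trB' H K hKH (trB H K hKH e) = e := by
  unfold trB trB'
  exact irrMap_image_symm_image (Subgroup.subgroupOfEquivOfLe hKH) e

theorem trB_trB' (e : Set (IrrCharacter (K.subgroupOf H))) : trB H K hKH (trB' H K hKH e) = e := by
  unfold trB trB'
  exact irrMap_image_image_symm (Subgroup.subgroupOfEquivOfLe hKH) e

theorem mem_trB {e : Set (IrrCharacter K)} {ξ : IrrCharacter K} (hξ : ξ ∈ e) :
    irrMap (Subgroup.subgroupOfEquivOfLe hKH).symm ξ ∈ trB H K hKH e := ⟨ξ, hξ, rfl⟩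

theorem isPBlock_trB {e : Set (IrrCharacter K)} (he : IsPBlock M e) :
    IsPBlock M (trB H K hKH e) := isPBlock_image_irrMap _ he

theorem isPBlock_trB_iff {e : Set (IrrCharacter K)} :
    IsPBlock M (trB H K hKH e) ↔ IsPBlock M e := by
  constructor
  · intro h
    have := isPBlock_image_irrMap (Subgroup.subgroupOfEquivOfLe hKH) h
    rw [← trB'_trB H K hKH e]
    exact this
  · exact isPBlock_trB H K hKH

theorem irrMap_relEquiv_symm_apply (ξ : IrrCharacter K) (k' : K.subgroupOf H) :
    (irrMap (Subgroup.subgroupOfEquivOfLe hKH).symm ξ : K.subgroupOf H → ℂ) k' =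
      (ξ : K → ℂ) ⟨((k' : H) : G), k'.2⟩ := rfl

/-- The induced central character in the ambient group `↥H` is the relative one. -/
theorem inducedCentralChar_subgroupOf (ξ : K → ℂ) (h : H) :
    inducedCentralChar (K.subgroupOf H)
      (fun k' : K.subgroupOf H => ξ (Subgroup.subgroupOfEquivOfLe hKH k')) h
      = inducedCentralCharIn H K ξ (h : G) := by
  unfold inducedCentralChar inducedCentralCharIn
  set φ := Subgroup.subgroupOfEquivOfLe hKH with hφ
  have himg : φ '' {k' : K.subgroupOf H | IsConj h (k' : H)} =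
      {k : K | ∃ x : H, (x : G) * (k : G) * (x : G)⁻¹ = (h : G)} := by
    ext k
    constructor
    · rintro ⟨k', hk', rfl⟩
      obtain ⟨c, hc⟩ := isConj_iff.1 hk'
      refine ⟨c⁻¹, ?_⟩
      have h1 := congrArg (fun y : H => (y : G)) hc
      simp only [Subgroup.coe_mul, Subgroup.coe_inv] at h1
      change ((c⁻¹ : H) : G) * ((k' : H) : G) * ((c⁻¹ : H) : G)⁻¹ = (h : G)
      rw [← h1]
      simp only [Subgroup.coe_inv]
      group
    · rintro ⟨x, hx⟩
      refine ⟨φ.symm k, ?_, φ.apply_symm_apply k⟩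
      rw [Set.mem_setOf_eq, isConj_iff]
      refine ⟨x⁻¹, ?_⟩
      apply Subtype.ext
      change ((x⁻¹ : H) : G) * (h : G) * ((x⁻¹ : H) : G)⁻¹ = (k : G)
      rw [← hx]
      simp only [Subgroup.coe_inv]
      group
  rw [← himg, finsum_mem_image φ.injective.injOn]
  have h1 : φ 1 = 1 := map_one φ
  simp only [h1]

theorem inducedCentralChar_irrMap_symm (ξ : IrrCharacter K) (h : H) :
    inducedCentralChar (K.subgroupOf H)
      (irrMap (Subgroup.subgroupOfEquivOfLe hKH).symm ξ : K.subgroupOf H → ℂ) h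
      = inducedCentralCharIn H K (ξ : K → ℂ) (h : G) :=
  inducedCentralChar_subgroupOf H K hKH (ξ : K → ℂ) h

/-- **Relative induction is induction in the ambient group `↥H`.** -/
theorem isInducedBlockIn_iff (e : Set (IrrCharacter K)) (f : Set (IrrCharacter H)) :
    IsInducedBlockIn M H K e f ↔ IsInducedBlock M (K.subgroupOf H) (trB H K hKH e) f := by
  constructor
  · rintro ⟨he, hf, h⟩
    refine ⟨isPBlock_trB H K hKH he, hf, ?_⟩
    rintro _ ⟨ξ, hξ, rfl⟩ χ hχ g
    rw [inducedCentralChar_irrMap_symm]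
    exact h ξ hξ χ hχ g
  · rintro ⟨he, hf, h⟩
    refine ⟨(isPBlock_trB_iff H K hKH).1 he, hf, ?_⟩
    intro ξ hξ χ hχ g
    rw [← inducedCentralChar_irrMap_symm H K hKH]
    exact h _ (mem_trB H K hKH hξ) χ hχ g

end

end Cfsg.Agent.Lib.Helper8
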