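import Mathlib
import Cfsg.Prelude.Def_Blocks
import Cfsg.Prelude.Def_BlockLocal
import Cfsg.Agent.Lib.Helper8.REL1
import Cfsg.Agent.Lib.Helper8.InducedOmega
import Cfsg.Agent.Lib.Helper8.BlockPairMax

/-!
# Transitivity of block induction
-/

set_option autoImplicit false
set_option linter.unusedSectionVars false

namespace Cfsg.Agent.Lib.Helper8

open Cfsg
open scoped ComplexConjugate
open Cfsg.Agent.Lib.Helper1 Cfsg.Agent.Lib.Helper4

universe u

section

theorem omega_comp_mulEquiv {A B : Type*} [Group A] [Group B] [Fintype A] [Fintype B]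
    (e : A ≃* B) (χ f : B → ℂ) :
    omega (fun a => χ (e a)) (fun a => f (e a)) = omega χ f := by
  unfold omega
  beta_reduce
  rw [map_one]
  congr 1
  exact Equiv.sum_comp e.toEquiv (fun x => f x * χ x)

variable {G : Type u} [Group G] [Fintype G] {M : Ideal AlgInt} {p : ℕ} (H K : Subgroup G)
  (hKH : K ≤ H) [Fintype H] [Fintype K]

include hKH in
/-- **Transitivity of block induction.** -/
theorem isInducedBlock_trans (hM : M.IsPrime) {e : Set (IrrCharacter K)}
    {f : Set (IrrCharacter H)} {B : Set (IrrCharacter G)}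
    (h1 : IsInducedBlockIn M H K e f) (h2 : IsInducedBlock M H f B) :
    IsInducedBlock M K e B := by
  classical
  have : Fintype (K.subgroupOf H) := Fintype.ofFinite _
  refine ⟨h1.1, h2.2.1, ?_⟩
  intro ξ hξ χ' hχ' g
  obtain ⟨χ, hχ⟩ := isPBlock_nonempty hM h1.2.1
  have a := h2.2.2 χ hχ χ' hχ' g
  have h1' := (isInducedBlockIn_iff H K hKH e f).1 h1
  have hF : IsClassFunction H (fun h : H => classIndicator g (h : G)) :=
    isClassFunction_restrict H (classIndicator_isClassFunction g)
  have b := omega_restrict_cong_of_induced hM (K.subgroupOf H) h1' (mem_trB H K hKH hξ) hχ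
    hF (fun h => memLocalRing_classIndicator hM.ne_top g _)
  have c : omega (irrMap (Subgroup.subgroupOfEquivOfLe hKH).symm ξ : K.subgroupOf H → ℂ)
      (fun k' : K.subgroupOf H => classIndicator g ((k' : H) : G)) =
      omega (ξ : K → ℂ) (fun k : K => classIndicator g (k : G)) :=
    omega_comp_mulEquiv (Subgroup.subgroupOfEquivOfLe hKH) (ξ : K → ℂ)
      (fun k : K => classIndicator g (k : G))
  rw [c] at b
  rw [inducedCentralChar_eq_omega] at a ⊢
  have := memLocalIdeal_add hM b a
  rwa [sub_add_sub_cancel] at this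

end

end Cfsg.Agent.Lib.Helper8
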