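import Mathlib
import Cfsg.Prelude.Def_Blocks
import Cfsg.Prelude.Def_BlockLocal
import Cfsg.Agent.Lib.Helper8.REL2

/-!
# Relative block theory: covering, stabilizers, defect groups
-/

set_option autoImplicit false
set_option linter.unusedSectionVars false

namespace Cfsg.Agent.Lib.Helper8

open Cfsg
open scoped ComplexConjugate
open Cfsg.Agent.Lib.Helper1 Cfsg.Agent.Lib.Helper4

universe u

section

variable {G : Type u} [Group G] {M : Ideal AlgInt} {p : ℕ} (H K : Subgroup G) (hKH : K ≤ H)

/-- Relative covering: the block `f` of `H` covers the block `e` of `K ≤ H`. -/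
def CoversIn [Fintype K] (f : Set (IrrCharacter H)) (e : Set (IrrCharacter K)) : Prop :=
  ∃ χ ∈ f, ∃ θ ∈ e, classInner (fun k : K => (χ : H → ℂ) ⟨(k : G), hKH k.2⟩) (θ : K → ℂ) ≠ 0

theorem classInner_subgroupOf' [Fintype H] [Fintype K] [Fintype (K.subgroupOf H)]
    (f : H → ℂ) (θ : K → ℂ) :
    classInner (fun m : K.subgroupOf H => f (m : H))
      (fun m : K.subgroupOf H => θ (Subgroup.subgroupOfEquivOfLe hKH m))
    = classInner (fun k : K => f ⟨(k : G), hKH k.2⟩) θ := by
  classical
  have := classInner_comp_mulEquiv_aux (Subgroup.subgroupOfEquivOfLe hKH)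
    (fun k : K => f ⟨(k : G), hKH k.2⟩) θ
  rw [← this]
  congr 1

theorem coversIn_iff [Fintype G] [Fintype H] [Fintype K] [Fintype (K.subgroupOf H)]
    [(K.subgroupOf H).Normal]
    (f : Set (IrrCharacter H)) (e : Set (IrrCharacter K)) :
    CoversIn H K hKH f e ↔ Covers (K.subgroupOf H) f (trB H K hKH e) := by
  have key : ∀ (χ : IrrCharacter H) (θ : IrrCharacter K),
      classInner (fun m : K.subgroupOf H => (χ : H → ℂ) (m : H))
        (irrMap (Subgroup.subgroupOfEquivOfLe hKH).symm θ : K.subgroupOf H → ℂ)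
      = classInner (fun k : K => (χ : H → ℂ) ⟨(k : G), hKH k.2⟩) (θ : K → ℂ) :=
    fun χ θ => classInner_subgroupOf' H K hKH (χ : H → ℂ) (θ : K → ℂ)
  constructor
  · rintro ⟨χ, hχ, θ, hθ, h⟩
    refine ⟨χ, hχ, _, mem_trB H K hKH hθ, ?_⟩
    rw [key]
    exact h
  · rintro ⟨χ, hχ, _, ⟨θ, hθ, rfl⟩, h⟩
    refine ⟨χ, hχ, θ, hθ, ?_⟩
    rw [← key]
    exact h

include hKH in
/-- An element of `H` normalizes `K.subgroupOf H` iff it normalizes `K`. -/
theorem mem_normalizer_subgroupOf_iff (t : H) :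
    t ∈ Subgroup.normalizer ((K.subgroupOf H : Subgroup H) : Set H) ↔
      (t : G) ∈ Subgroup.normalizer (K : Set G) := by
  rw [Subgroup.mem_normalizer_iff, Subgroup.mem_normalizer_iff]
  constructor
  · intro h g
    constructor
    · intro hg
      have := (h ⟨g, hKH hg⟩).1 (Subgroup.mem_subgroupOf.2 hg)
      exact Subgroup.mem_subgroupOf.1 this
    · intro hg
      have hgH : g ∈ H := by
        have h1 : g = (t : G)⁻¹ * ((t : G) * g * (t : G)⁻¹) * (t : G) := by group
        rw [h1]
        exact H.mul_mem (H.mul_mem (H.inv_mem t.2) (hKH hg)) t.2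
      have := (h ⟨g, hgH⟩).2 (Subgroup.mem_subgroupOf.2 hg)
      exact Subgroup.mem_subgroupOf.1 this
  · intro h g
    rw [Subgroup.mem_subgroupOf, Subgroup.mem_subgroupOf]
    exact h (g : G)

/-- Stabilizers are compatible with transport. -/
theorem stabilizesBlock_trB (e : Set (IrrCharacter K)) (t : H) :
    StabilizesBlock (K.subgroupOf H) (trB H K hKH e) t ↔ StabilizesBlock K e (t : G) := by
  constructor
  · rintro ⟨hn, h⟩
    refine ⟨(mem_normalizer_subgroupOf_iff H K hKH t).1 hn, ?_⟩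
    intro χ hχ
    obtain ⟨_, ⟨χ', hχ', rfl⟩, hc⟩ := h _ (mem_trB H K hKH hχ)
    refine ⟨χ', hχ', ?_⟩
    intro k k' hk
    have := hc ((Subgroup.subgroupOfEquivOfLe hKH).symm k)
      ((Subgroup.subgroupOfEquivOfLe hKH).symm k') (by
        apply Subtype.ext
        exact hk)
    exact this
  · rintro ⟨hn, h⟩
    refine ⟨(mem_normalizer_subgroupOf_iff H K hKH t).2 hn, ?_⟩
    rintro _ ⟨χ, hχ, rfl⟩
    obtain ⟨χ', hχ', hc⟩ := h χ hχ
    refine ⟨_, mem_trB H K hKH hχ', ?_⟩
    intro k k' hk
    rw [irrMap_relEquiv_symm_apply, irrMap_relEquiv_symm_apply]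
    apply hc
    have := congrArg (fun x : H => (x : G)) hk
    simpa using this

theorem map_relEquiv_symm (D : Subgroup G) :
    (D.subgroupOf K).map (Subgroup.subgroupOfEquivOfLe hKH).symm.toMonoidHom =
      (D.subgroupOf H).subgroupOf (K.subgroupOf H) := by
  ext x
  constructor
  · rintro ⟨k, hk, rfl⟩
    exact hk
  · intro hx
    exact ⟨Subgroup.subgroupOfEquivOfLe hKH x, hx, (Subgroup.subgroupOfEquivOfLe hKH).symm_apply_apply x⟩

theorem map_relEquiv (D' : Subgroup (K.subgroupOf H)) :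
    D'.map (Subgroup.subgroupOfEquivOfLe hKH).toMonoidHom =
      ((D'.map (K.subgroupOf H).subtype).map H.subtype).subgroupOf K := by
  ext x
  constructor
  · rintro ⟨k', hk', rfl⟩
    exact ⟨(k' : H), ⟨k', hk', rfl⟩, rfl⟩
  · rintro ⟨_, ⟨k', hk', rfl⟩, hx⟩
    refine ⟨k', hk', ?_⟩
    apply Subtype.ext
    exact hx

/-- Defect groups are compatible with transport. -/
theorem isDefectGroup_trB [Fact p.Prime] [Finite K] (e : Set (IrrCharacter K)) (D : Subgroup G) :
    IsDefectGroup p M (trB H K hKH e) ((D.subgroupOf H).subgroupOf (K.subgroupOf H)) ↔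
      IsDefectGroup p M e (D.subgroupOf K) := by
  constructor
  · intro h
    have : Finite (K.subgroupOf H) := Finite.of_equiv K (Subgroup.subgroupOfEquivOfLe hKH).symm.toEquiv
    have h1 := isDefectGroup_image_irrMap (Subgroup.subgroupOfEquivOfLe hKH) h
    have h2 : irrMap (Subgroup.subgroupOfEquivOfLe hKH) '' trB H K hKH e = e := trB'_trB H K hKH e
    rw [h2, ← map_relEquiv_symm H K hKH D, Subgroup.map_map] at h1
    have h3 : ((Subgroup.subgroupOfEquivOfLe hKH).toMonoidHom.comp
        (Subgroup.subgroupOfEquivOfLe hKH).symm.toMonoidHom) = MonoidHom.id _ := by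
      ext x
      simp
    rw [h3, Subgroup.map_id] at h1
    exact h1
  · intro h
    have h1 := isDefectGroup_image_irrMap (Subgroup.subgroupOfEquivOfLe hKH).symm h
    rw [map_relEquiv_symm H K hKH D] at h1
    exact h1

theorem isDefectGroup_trB' [Fact p.Prime] [Finite K] (e : Set (IrrCharacter K)) (D' : Subgroup (K.subgroupOf H)) :
    IsDefectGroup p M (trB H K hKH e) D' ↔
      IsDefectGroup p M e (((D'.map (K.subgroupOf H).subtype).map H.subtype).subgroupOf K) := by
  rw [← isDefectGroup_trB H K hKH]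
  have : ((((D'.map (K.subgroupOf H).subtype).map H.subtype).subgroupOf H).subgroupOf
      (K.subgroupOf H)) = D' := by
    ext x
    rw [Subgroup.mem_subgroupOf, Subgroup.mem_subgroupOf]
    constructor
    · rintro ⟨_, ⟨k', hk', rfl⟩, hx⟩
      have : k' = x := by
        apply Subtype.ext
        apply Subtype.ext
        exact hx
      rwa [← this]
    · intro hx
      exact ⟨(x : H), ⟨x, hx, rfl⟩, rfl⟩
  rw [this]

end

end Cfsg.Agent.Lib.Helper8
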