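import Mathlib
import Cfsg.Prelude.Def_Blocks
import Cfsg.Prelude.Def_BlockLocal
import Cfsg.Agent.Lib.Helper8.REL3
import Cfsg.Agent.Lib.Helper8.KN3
import Cfsg.Agent.Lib.Helper8.KN4

/-!
# Relative versions of Knörr's theorem and of the `p`-power index theorem
-/

set_option autoImplicit false
set_option linter.unusedSectionVars false

namespace Cfsg.Agent.Lib.Helper8

open Cfsg
open scoped ComplexConjugate
open Cfsg.Agent.Lib.Helper1 Cfsg.Agent.Lib.Helper4

universe u

section

variable {G : Type u} [Group G] [Fintype G] {M : Ideal AlgInt} {p : ℕ} [Fact p.Prime]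
  (H N : Subgroup G) (hNH : N ≤ H) [Fintype H] [Fintype N]

theorem subgroupOf_map_subtype_self (P' : Subgroup H) : (P'.map H.subtype).subgroupOf H = P' := by
  ext x
  rw [Subgroup.mem_subgroupOf]
  constructor
  · rintro ⟨y, hy, hyx⟩
    have : y = x := Subtype.ext hyx
    rwa [← this]
  · intro hx
    exact ⟨x, hx, rfl⟩

include hNH in
/-- **Relative Knörr theorem.** -/
theorem rel_knorr (hnorm : H ≤ Subgroup.normalizer (N : Set G)) (hM : IsPModular p M)
    {b : Set (IrrCharacter N)} (hb : IsPBlock M b) {B : Set (IrrCharacter H)} (hB : IsPBlock M B)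
    (hcov : CoversIn H N hNH B b) {Q : Subgroup G} (hQN : Q ≤ N)
    (hQ : IsDefectGroup p M b (Q.subgroupOf N)) :
    ∃ P : Subgroup G, P ≤ H ∧ IsDefectGroup p M B (P.subgroupOf H) ∧ P ⊓ N = Q ∧
      ∀ x ∈ P, StabilizesBlock N b x := by
  classical
  have : Fintype (N.subgroupOf H) := Fintype.ofFinite _
  have hN' : (N.subgroupOf H).Normal := (Subgroup.normal_subgroupOf_iff_le_normalizer hNH).2 hnorm
  have hcov' := (coversIn_iff H N hNH B b).1 hcov
  have hQ' := (isDefectGroup_trB (p := p) (M := M) H N hNH b Q).2 hQ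
  obtain ⟨P', hP', hP'N, hstab⟩ := knorr (N.subgroupOf H) hM (isPBlock_trB H N hNH hb) hB hcov' hQ'
  refine ⟨P'.map H.subtype, ?_, ?_, ?_, ?_⟩
  · rintro _ ⟨t, -, rfl⟩
    exact t.2
  · rw [subgroupOf_map_subtype_self]
    exact hP'
  · ext g
    constructor
    · rintro ⟨⟨t, ht, rfl⟩, hgN⟩
      have h1 : t ∈ P' ⊓ N.subgroupOf H := ⟨ht, Subgroup.mem_subgroupOf.2 hgN⟩
      rw [hP'N] at h1
      obtain ⟨w, hw, rfl⟩ := h1
      exact hw
    · intro hg
      have hgN : g ∈ N := hQN hg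
      have h1 : (⟨g, hNH hgN⟩ : H) ∈ P' ⊓ N.subgroupOf H := by
        rw [hP'N]
        exact ⟨⟨⟨g, hNH hgN⟩, hgN⟩, hg, rfl⟩
      exact ⟨⟨_, h1.1, rfl⟩, hgN⟩
  · rintro _ ⟨t, ht, rfl⟩
    exact (stabilizesBlock_trB H N hNH b t).1 (hstab t ht)

include hNH in
/-- **Relative `p`-power index theorem**: if `N` is normal of `p`-power index in `H`, `c` is an
`H`-invariant block of `N` and the block `B` of `H` covers `c`, every defect group `P` of `B`
satisfies `N ⊔ P = H`. -/
theorem rel_sup_eq_of_pIndex (hnorm : H ≤ Subgroup.normalizer (N : Set G)) (hM : IsPModular p M)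
    (hidx : ∃ k : ℕ, N.relIndex H = p ^ k)
    {c : Set (IrrCharacter N)} (hc : IsPBlock M c) (hst : ∀ x ∈ H, StabilizesBlock N c x)
    {B : Set (IrrCharacter H)} (hB : IsPBlock M B) (hcov : CoversIn H N hNH B c)
    {P : Subgroup G} (hPH : P ≤ H) (hP : IsDefectGroup p M B (P.subgroupOf H)) :
    N ⊔ P = H ∧ IsDefectGroup p M c ((P ⊓ N).subgroupOf N) := by
  classical
  have hMp := isPModular_isPrime hM
  have : Fintype (N.subgroupOf H) := Fintype.ofFinite _
  have hN' : (N.subgroupOf H).Normal := (Subgroup.normal_subgroupOf_iff_le_normalizer hNH).2 hnorm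
  have hcov' := (coversIn_iff H N hNH B c).1 hcov
  have hc' := isPBlock_trB (M := M) H N hNH hc
  have hst' : ∀ t : H, StabilizesBlock (N.subgroupOf H) (trB H N hNH c) t :=
    fun t => (stabilizesBlock_trB H N hNH c t).2 (hst t t.2)
  obtain ⟨⟨B₁, hB₁, hB₁c⟩, huniq⟩ := block_of_pIndex_invariant (N.subgroupOf H) hM hidx hc' hst'
  -- `B₁ = B` since both cover
  have hover := over_eq_of_covers_pIndex (N.subgroupOf H) hM hidx hc' hst' hB hcov'
  have hcl := isClassFunction_eb_of_invariant (N.subgroupOf H) hst'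
  have heb : ∀ g : H, blockCoeff B g = eb (N.subgroupOf H) (trB H N hNH c) g := by
    intro g
    rw [eb_eq_blockCoeff_over (N.subgroupOf H) hcl, hover]
  obtain ⟨h1, h2⟩ := huniq B hB heb (P.subgroupOf H) hP
  constructor
  · apply le_antisymm (sup_le hNH hPH)
    intro g hg
    have h3 : (⟨g, hg⟩ : H) ∈ N.subgroupOf H ⊔ P.subgroupOf H := by
      rw [h1]
      exact Subgroup.mem_top _
    have h4 : N.subgroupOf H ⊔ P.subgroupOf H ≤ (N ⊔ P).subgroupOf H :=
      sup_le (Subgroup.subgroupOf_mono H le_sup_left) (Subgroup.subgroupOf_mono H le_sup_right)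
    exact Subgroup.mem_subgroupOf.1 (h4 h3)
  · have h5 : ((P.subgroupOf H ⊓ N.subgroupOf H).subgroupOf (N.subgroupOf H)) =
        (((P ⊓ N).subgroupOf H).subgroupOf (N.subgroupOf H)) := by
      ext x
      simp only [Subgroup.mem_subgroupOf, Subgroup.mem_inf]
    rw [h5] at h2
    exact (isDefectGroup_trB (p := p) (M := M) H N hNH c (P ⊓ N)).1 h2

end

end Cfsg.Agent.Lib.Helper8
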