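import Mathlib
import Cfsg.Prelude.Def_Blocks
import Cfsg.Prelude.Def_BlockLocal
import Cfsg.Agent.Lib.Helper8.REL4

/-!
# Relative versions of Fong–Reynolds, of Navarro 9.20 and of Fong's theorem
-/

set_option autoImplicit false
set_option linter.unusedSectionVars false

namespace Cfsg.Agent.Lib.Helper8

open Cfsg
open scoped ComplexConjugate
open Cfsg.Agent.Lib.Helper1 Cfsg.Agent.Lib.Helper4

universe u

section

variable {G : Type u} [Group G] [Fintype G] {M : Ideal AlgInt} {p : ℕ} [Fact p.Prime]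
  (A N T : Subgroup G) (hNT : N ≤ T) (hTA : T ≤ A) [Fintype A] [Fintype N] [Fintype T]

/-- Double transport of a restriction multiplicity. -/
theorem classInner_double [Fintype (N.subgroupOf A)] (ψ : T → ℂ) (θ : N → ℂ) :
    classInner (fun n : N.subgroupOf A =>
        ψ (Subgroup.subgroupOfEquivOfLe hTA
          ⟨(n : A), (Subgroup.subgroupOf_mono A hNT) n.2⟩))
      (fun n : N.subgroupOf A => θ (Subgroup.subgroupOfEquivOfLe (hNT.trans hTA) n))
    = classInner (fun n : N => ψ ⟨(n : G), hNT n.2⟩) θ := by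
  have := classInner_comp_mulEquiv_aux (Subgroup.subgroupOfEquivOfLe (hNT.trans hTA))
    (fun n : N => ψ ⟨(n : G), hNT n.2⟩) θ
  rw [← this]
  congr 1

include hNT hTA in
/-- **Relative Fong–Reynolds.** -/
theorem rel_fongReynolds (hnorm : A ≤ Subgroup.normalizer (N : Set G)) (hM : IsPModular p M)
    {b : Set (IrrCharacter N)} (hb : IsPBlock M b)
    (hT : ∀ g : G, g ∈ T ↔ g ∈ A ∧ StabilizesBlock N b g)
    {B' : Set (IrrCharacter T)} (hB' : IsPBlock M B') (hcov : CoversIn T N hNT B' b) :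
    ∃ β : Set (IrrCharacter A), IsInducedBlockIn M A T B' β ∧
      CoversIn A N (hNT.trans hTA) β b ∧
      ∀ D : Subgroup G, D ≤ T → IsDefectGroup p M B' (D.subgroupOf T) →
        IsDefectGroup p M β (D.subgroupOf A) := by
  classical
  have hNA := hNT.trans hTA
  have : Fintype (N.subgroupOf A) := Fintype.ofFinite _
  have : Fintype (T.subgroupOf A) := Fintype.ofFinite _
  have hN' : (N.subgroupOf A).Normal := (Subgroup.normal_subgroupOf_iff_le_normalizer hNA).2 hnorm
  have hNT' : N.subgroupOf A ≤ T.subgroupOf A := Subgroup.subgroupOf_mono A hNT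
  have hb' := isPBlock_trB (M := M) A N hNA hb
  have hB'' := isPBlock_trB (M := M) A T hTA hB'
  have hT' : ∀ a : A, a ∈ T.subgroupOf A ↔ StabilizesBlock (N.subgroupOf A) (trB A N hNA b) a := by
    intro a
    rw [Subgroup.mem_subgroupOf, hT, stabilizesBlock_trB A N hNA b a]
    exact ⟨fun h => h.2, fun h => ⟨a.2, h⟩⟩
  have hcov' : ∃ ψ ∈ trB A T hTA B', ∃ θ ∈ trB A N hNA b,
      classInner (fun n : N.subgroupOf A => (ψ : T.subgroupOf A → ℂ) ⟨(n : A), hNT' n.2⟩)
        (θ : N.subgroupOf A → ℂ) ≠ 0 := by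
    obtain ⟨ψ, hψ, θ, hθ, h⟩ := hcov
    refine ⟨_, mem_trB A T hTA hψ, _, mem_trB A N hNA hθ, ?_⟩
    have := classInner_double A N T hNT hTA (ψ : T → ℂ) (θ : N → ℂ)
    rw [← this] at h
    exact h
  obtain ⟨β, hind, hcovβ, -, -⟩ :=
    fongReynolds_induce (N.subgroupOf A) (T.subgroupOf A) hNT' hM hb' hT' hB'' hcov'
  have hdef := (fongReynolds_defect_height (N.subgroupOf A) (T.subgroupOf A) hNT' hM hb' hT' hB''
    hcov' hind).1
  refine ⟨β, (isInducedBlockIn_iff A T hTA B' β).2 hind, (coversIn_iff A N hNA β b).2 hcovβ, ?_⟩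
  intro D hDT hD
  have h1 := (isDefectGroup_trB (p := p) (M := M) A T hTA B' D).2 hD
  have h2 := hdef _ h1
  rwa [subgroupOf_map_subtype_of_le (Subgroup.subgroupOf_mono A hDT)] at h2

end

section

variable {G : Type u} [Group G] [Fintype G] {M : Ideal AlgInt} {p : ℕ} [Fact p.Prime]
  (A N : Subgroup G) (hNA : N ≤ A) [Fintype A] [Fintype N]

include hNA in
/-- **Relative Navarro 9.20.** -/
theorem rel_isInducedBlockIn_of_covers (hnorm : A ≤ Subgroup.normalizer (N : Set G))
    (hM : IsPModular p M) (Q : Subgroup G) (hQA : Q ≤ A)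
    (hnormQ : A ≤ Subgroup.normalizer (Q : Set G)) (hQ : IsPGroup p Q)
    (hCN : Subgroup.centralizer (Q : Set G) ⊓ A ≤ N)
    {B : Set (IrrCharacter A)} (hB : IsPBlock M B) {b : Set (IrrCharacter N)} (hb : IsPBlock M b)
    (hcov : CoversIn A N hNA B b) : IsInducedBlockIn M A N b B := by
  classical
  have : Fintype (N.subgroupOf A) := Fintype.ofFinite _
  have hN' : (N.subgroupOf A).Normal := (Subgroup.normal_subgroupOf_iff_le_normalizer hNA).2 hnorm
  have hQ' : (Q.subgroupOf A).Normal := (Subgroup.normal_subgroupOf_iff_le_normalizer hQA).2 hnormQ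
  have hQp : IsPGroup p (Q.subgroupOf A) := hQ.comap_subtype
  have hCN' : Subgroup.centralizer ((Q.subgroupOf A : Subgroup A) : Set A) ≤ N.subgroupOf A := by
    intro a ha
    rw [Subgroup.mem_subgroupOf]
    apply hCN
    refine ⟨?_, a.2⟩
    change (a : G) ∈ Subgroup.centralizer (Q : Set G)
    rw [Subgroup.mem_centralizer_iff]
    intro q hq
    have := Subgroup.mem_centralizer_iff.1 ha ⟨q, hQA hq⟩ (Subgroup.mem_subgroupOf.2 hq)
    exact congrArg Subtype.val this
  have hcov' := (coversIn_iff A N hNA B b).1 hcov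
  have := isInducedBlock_of_covers (N.subgroupOf A) hM (Q.subgroupOf A) hQp hCN' hB
    (isPBlock_trB A N hNA hb) hcov'
  exact (isInducedBlockIn_iff A N hNA b B).2 this

include hNA in
/-- Existence of a covering block, relative version. -/
theorem rel_exists_covers (hnorm : A ≤ Subgroup.normalizer (N : Set G)) (hM : M.IsPrime)
    {b : Set (IrrCharacter N)} (hb : IsPBlock M b) :
    ∃ B : Set (IrrCharacter A), IsPBlock M B ∧ CoversIn A N hNA B b := by
  classical
  have : Fintype (N.subgroupOf A) := Fintype.ofFinite _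
  have hN' : (N.subgroupOf A).Normal := (Subgroup.normal_subgroupOf_iff_le_normalizer hNA).2 hnorm
  obtain ⟨B, hB, hcov⟩ := exists_covers (G := A) (N.subgroupOf A) hM (isPBlock_trB A N hNA hb)
  exact ⟨B, hB, (coversIn_iff A N hNA B b).2 hcov⟩

include hNA in
/-- **Relative Fong theorem.** -/
theorem rel_fong_maximal_defect (hnorm : A ≤ Subgroup.normalizer (N : Set G))
    (hM : IsPModular p M) {b : Set (IrrCharacter N)} (hb : IsPBlock M b)
    (hinv : ∀ a ∈ A, StabilizesBlock N b a) {B : Set (IrrCharacter A)} (hB : IsPBlock M B)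
    (hcov : CoversIn A N hNA B b)
    (hmax : ∀ B' : Set (IrrCharacter A), IsPBlock M B' → CoversIn A N hNA B' b →
      blockDefect p B' ≤ blockDefect p B)
    {P : Subgroup G} (hPA : P ≤ A) (hP : IsDefectGroup p M B (P.subgroupOf A)) :
    ¬ p ∣ (P ⊔ N).relIndex A ∧ IsDefectGroup p M b ((P ⊓ N).subgroupOf N) := by
  classical
  have : Fintype (N.subgroupOf A) := Fintype.ofFinite _
  have hN' : (N.subgroupOf A).Normal := (Subgroup.normal_subgroupOf_iff_le_normalizer hNA).2 hnorm
  have hcov' := (coversIn_iff A N hNA B b).1 hcov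
  have hinv' : ∀ a : A, StabilizesBlock (N.subgroupOf A) (trB A N hNA b) a :=
    fun a => (stabilizesBlock_trB A N hNA b a).2 (hinv a a.2)
  have hmax' : ∀ B' : Set (IrrCharacter A), IsPBlock M B' →
      Covers (N.subgroupOf A) B' (trB A N hNA b) → blockDefect p B' ≤ blockDefect p B :=
    fun B' hB' hc => hmax B' hB' ((coversIn_iff A N hNA B' b).2 hc)
  obtain ⟨h1, h2, -⟩ := fong_maximal_defect (N.subgroupOf A) hM (isPBlock_trB A N hNA hb) hinv' hB
    hcov' hmax' hP
  constructor
  · unfold Subgroup.relIndex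
    rw [Subgroup.subgroupOf_sup hPA hNA]
    exact h1
  · have h5 : ((P.subgroupOf A ⊓ N.subgroupOf A).subgroupOf (N.subgroupOf A)) =
        (((P ⊓ N).subgroupOf A).subgroupOf (N.subgroupOf A)) := by
      ext x
      simp only [Subgroup.mem_subgroupOf, Subgroup.mem_inf]
    rw [h5] at h2
    exact (isDefectGroup_trB (p := p) (M := M) A N hNA b (P ⊓ N)).1 h2

end

end Cfsg.Agent.Lib.Helper8
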