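import Mathlib
import Cfsg.Prelude.Def_Blocks
import Cfsg.Prelude.Def_BlockLocal
import Cfsg.Agent.Lib.Helper8.REL5

/-!
# Relative `p`-power index theorem: the idempotent, uniqueness
-/

set_option autoImplicit false
set_option linter.unusedSectionVars false

namespace Cfsg.Agent.Lib.Helper8

open Cfsg
open scoped ComplexConjugate
open Cfsg.Agent.Lib.Helper1 Cfsg.Agent.Lib.Helper4

universe u

section

variable {G : Type u} [Group G] [Fintype G] {M : Ideal AlgInt} {p : ℕ} [Fact p.Prime]
  (H N : Subgroup G) (hNH : N ≤ H) [Fintype H] [Fintype N]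

theorem blockCoeff_trB (c : Set (IrrCharacter N)) (x : N.subgroupOf H) :
    blockCoeff (trB H N hNH c) x = blockCoeff c ⟨((x : H) : G), x.2⟩ := by
  unfold trB
  rw [blockCoeff_image_irrMap]
  rfl

theorem extZ_blockCoeff_trB (c : Set (IrrCharacter N)) (h : H) :
    extZ (N.subgroupOf H) (blockCoeff (trB H N hNH c)) h = extZ N (blockCoeff c) (h : G) := by
  by_cases hh : (h : G) ∈ N
  · rw [extZ_of_mem N _ hh, extZ_of_mem (N.subgroupOf H) _ (Subgroup.mem_subgroupOf.2 hh),
      blockCoeff_trB]
  · rw [extZ_of_not_mem N _ hh,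
      extZ_of_not_mem (N.subgroupOf H) _ (fun h' => hh (Subgroup.mem_subgroupOf.1 h'))]

include hNH in
/-- In the relative `p`-power index situation, the covering block has the idempotent of the
covered block. -/
theorem rel_blockCoeff_of_pIndex (hnorm : H ≤ Subgroup.normalizer (N : Set G))
    (hM : IsPModular p M) (hidx : ∃ k : ℕ, N.relIndex H = p ^ k)
    {c : Set (IrrCharacter N)} (hc : IsPBlock M c) (hst : ∀ x ∈ H, StabilizesBlock N c x)
    {B : Set (IrrCharacter H)} (hB : IsPBlock M B) (hcov : CoversIn H N hNH B c) (h : H) :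
    blockCoeff B h = extZ N (blockCoeff c) (h : G) := by
  classical
  have hMp := isPModular_isPrime hM
  have : Fintype (N.subgroupOf H) := Fintype.ofFinite _
  have hN' : (N.subgroupOf H).Normal := (Subgroup.normal_subgroupOf_iff_le_normalizer hNH).2 hnorm
  have hcov' := (coversIn_iff H N hNH B c).1 hcov
  have hc' := isPBlock_trB (M := M) H N hNH hc
  have hst' : ∀ t : H, StabilizesBlock (N.subgroupOf H) (trB H N hNH c) t :=
    fun t => (stabilizesBlock_trB H N hNH c t).2 (hst t t.2)
  have hover := over_eq_of_covers_pIndex (N.subgroupOf H) hM hidx hc' hst' hB hcov'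
  have hcl := isClassFunction_eb_of_invariant (N.subgroupOf H) hst'
  have heb : blockCoeff B h = eb (N.subgroupOf H) (trB H N hNH c) h := by
    rw [eb_eq_blockCoeff_over (N.subgroupOf H) hcl, hover]
  rw [heb]
  exact extZ_blockCoeff_trB H N hNH c h

include hNH in
/-- Uniqueness of the covering block in the relative `p`-power index situation. -/
theorem rel_covers_unique_of_pIndex (hnorm : H ≤ Subgroup.normalizer (N : Set G))
    (hM : IsPModular p M) (hidx : ∃ k : ℕ, N.relIndex H = p ^ k)
    {c : Set (IrrCharacter N)} (hc : IsPBlock M c)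
    {B B' : Set (IrrCharacter H)} (hB : IsPBlock M B) (hB' : IsPBlock M B')
    (hcov : CoversIn H N hNH B c) (hcov' : CoversIn H N hNH B' c) : B = B' := by
  classical
  have : Fintype (N.subgroupOf H) := Fintype.ofFinite _
  have hN' : (N.subgroupOf H).Normal := (Subgroup.normal_subgroupOf_iff_le_normalizer hNH).2 hnorm
  exact covers_unique_of_index (N.subgroupOf H) hM hidx hB hB' (isPBlock_trB H N hNH hc)
    ((coversIn_iff H N hNH B c).1 hcov) ((coversIn_iff H N hNH B' c).1 hcov')

end

end Cfsg.Agent.Lib.Helper8
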