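import Mathlib
import Cfsg.Prelude.Def_Blocks
import Cfsg.Prelude.Def_BlockLocal
import Cfsg.Prelude.Def_BrauerPairs
import Cfsg.Agent.Lib.Helper8.REL6
import Cfsg.Agent.Lib.Helper8.BC1
import Cfsg.Agent.Lib.Helper8.SylowIndex
import Cfsg.Agent.Lib.Helper8.BlockPairs2

/-!
# Blocks of `Q C_G(Q)` and blocks of `C_G(Q)`
-/

set_option autoImplicit false
set_option linter.unusedSectionVars false

namespace Cfsg.Agent.Lib.Helper8

open Cfsg
open scoped ComplexConjugate
open Cfsg.Agent.Lib.Helper1 Cfsg.Agent.Lib.Helper4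

universe u

section

variable {G : Type u} [Group G]

/-- The set of products `q c` with `q ∈ Q`, `c ∈ C_G(Q)` as a subgroup. -/
def mulCentralizer (Q : Subgroup G) : Subgroup G where
  carrier := {x | ∃ q ∈ Q, ∃ c ∈ Subgroup.centralizer (Q : Set G), x = q * c}
  mul_mem' := by
    rintro _ _ ⟨q, hq, c, hc, rfl⟩ ⟨q', hq', c', hc', rfl⟩
    refine ⟨q * q', Q.mul_mem hq hq', c * c', Subgroup.mul_mem _ hc hc', ?_⟩
    have := Subgroup.mem_centralizer_iff.1 hc q' hq'
    calc q * c * (q' * c') = q * (c * q') * c' := by group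
      _ = q * (q' * c) * c' := by rw [this]
      _ = q * q' * (c * c') := by group
  one_mem' := ⟨1, Q.one_mem, 1, Subgroup.one_mem _, by simp⟩
  inv_mem' := by
    rintro _ ⟨q, hq, c, hc, rfl⟩
    refine ⟨q⁻¹, Q.inv_mem hq, c⁻¹, Subgroup.inv_mem _ hc, ?_⟩
    have := Subgroup.mem_centralizer_iff.1 hc q hq
    have h2 : c⁻¹ * q⁻¹ = q⁻¹ * c⁻¹ := by
      rw [← mul_inv_rev, ← mul_inv_rev, this]
    rw [mul_inv_rev, h2]

theorem exists_mul_of_mem_sup_centralizer (Q : Subgroup G) {x : G}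
    (hx : x ∈ Q ⊔ Subgroup.centralizer (Q : Set G)) :
    ∃ q ∈ Q, ∃ c ∈ Subgroup.centralizer (Q : Set G), x = q * c := by
  have h : Q ⊔ Subgroup.centralizer (Q : Set G) ≤ mulCentralizer Q := by
    apply sup_le
    · intro q hq
      exact ⟨q, hq, 1, Subgroup.one_mem _, by simp⟩
    · intro c hc
      exact ⟨1, Q.one_mem, c, hc, by simp⟩
  exact h hx

theorem relIndex_centralizer_sup [Finite G] {p : ℕ} [Fact p.Prime] (Q : Subgroup G)
    (hQ : IsPGroup p Q) :
    ∃ k : ℕ, (Subgroup.centralizer (Q : Set G)).relIndex (Q ⊔ Subgroup.centralizer (Q : Set G))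
      = p ^ k := by
  rw [relIndex_sup_of_le_normalizer _ _ (Subgroup.centralizer_le_normalizer _)]
  obtain ⟨n, hn⟩ := hQ.exists_card_eq
  have h1 : (Subgroup.centralizer (Q : Set G)).relIndex Q ∣ p ^ n := by
    rw [← hn]
    exact Subgroup.index_dvd_card _
  obtain ⟨k, -, hk⟩ := (Nat.dvd_prime_pow Fact.out).1 h1
  exact ⟨k, hk⟩

variable {M : Ideal AlgInt} {p : ℕ}

/-- Stabilizing a block is invariance of its idempotent. -/
theorem stabilizesBlock_iff_blockCoeff [Finite G] (hM : M.IsPrime) (K : Subgroup G)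
    {f : Set (IrrCharacter K)} (hf : IsPBlock M f) (x : G) :
    StabilizesBlock K f x ↔ x ∈ Subgroup.normalizer (K : Set G) ∧
      ∀ y : G, subgroupBlockCoeff K f (x * y * x⁻¹) = subgroupBlockCoeff K f y := by
  classical
  have : Finite K := inferInstance
  constructor
  · intro h
    exact ⟨h.1, fun y => subgroupBlockCoeff_conj_of_stabilizes K f h y⟩
  · rintro ⟨hx, h⟩
    rw [stabilizesBlock_iff_image]
    refine ⟨hx, ?_⟩
    apply eq_of_blockCoeff_cong hM (isPBlock_image_conjIrr K x hx hf) hf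
    intro k
    rw [blockCoeff_image_conjIrr]
    have h1 := h (x⁻¹ * (k : G) * x)
    have h2 : x * (x⁻¹ * (k : G) * x) * x⁻¹ = (k : G) := by group
    rw [h2, subgroupBlockCoeff_coe] at h1
    have h3 : subgroupBlockCoeff K f (x⁻¹ * (k : G) * x) =
        blockCoeff f ((conjAutOn K x hx).symm k) := by
      rw [← subgroupBlockCoeff_coe]
      rfl
    rw [← h3, ← h1, sub_self]
    exact memLocalIdeal_zero hM.ne_top

/-- If the block `b` of `H` has the idempotent of the block `f` of `K ≤ H`, an element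
normalizing both stabilizes `f` iff it stabilizes `b`. -/
theorem stabilizesBlock_iff_of_blockCoeff_eq [Finite G] (hM : M.IsPrime) (H K : Subgroup G)
    (hKH : K ≤ H) {f : Set (IrrCharacter K)} (hf : IsPBlock M f) {b : Set (IrrCharacter H)}
    (hb : IsPBlock M b) (hbf : ∀ h : H, blockCoeff b h = extZ K (blockCoeff f) (h : G))
    {x : G} (hxK : x ∈ Subgroup.normalizer (K : Set G))
    (hxH : x ∈ Subgroup.normalizer (H : Set G)) :
    StabilizesBlock K f x ↔ StabilizesBlock H b x := by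
  have heq : subgroupBlockCoeff H b = subgroupBlockCoeff K f := by
    funext y
    by_cases hy : y ∈ H
    · rw [subgroupBlockCoeff_of_mem H b hy, hbf, subgroupBlockCoeff_eq_extZ]
    · rw [subgroupBlockCoeff_of_not_mem H b hy,
        subgroupBlockCoeff_of_not_mem K f (fun h => hy (hKH h))]
  rw [stabilizesBlock_iff_blockCoeff hM K hf, stabilizesBlock_iff_blockCoeff hM H hb, heq]
  exact ⟨fun h => ⟨hxH, h.2⟩, fun h => ⟨hxK, h.2⟩⟩

end

end Cfsg.Agent.Lib.Helper8
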