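import Mathlib
import Cfsg.Prelude.Def_Blocks
import Cfsg.Prelude.Def_BlockLocal
import Cfsg.Agent.Lib.Helper8.REL5
import Cfsg.Agent.Lib.Helper8.BlockFirstMain5
import Cfsg.Agent.Lib.Helper8.BlockInduced

/-!
# Navarro 9.22: a block induced from `P C_G(P)` has defect group `P` iff the stabilizer has
`p'`-index
-/

set_option autoImplicit false
set_option linter.unusedSectionVars false

namespace Cfsg.Agent.Lib.Helper8

open Cfsg
open scoped ComplexConjugate
open Cfsg.Agent.Lib.Helper1 Cfsg.Agent.Lib.Helper4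

universe u

section

/-- A `p`-subgroup lies in every normal subgroup of index prime to `p`. -/
theorem le_of_isPGroup_of_not_dvd_index {G' : Type*} [Group G'] [Finite G'] {p : ℕ}
    [Fact p.Prime] (N : Subgroup G') [N.Normal] (hidx : ¬ p ∣ N.index) {D : Subgroup G'}
    (hD : IsPGroup p D) : D ≤ N := by
  have h1 : IsPGroup p (D.map (QuotientGroup.mk' N)) := hD.map _
  obtain ⟨k, hk⟩ := h1.exists_card_eq
  have h2 : Nat.card (D.map (QuotientGroup.mk' N)) ∣ Nat.card (G' ⧸ N) :=
    Subgroup.card_subgroup_dvd_card _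
  rw [hk, ← Subgroup.index_eq_card] at h2
  have hk0 : k = 0 := by
    by_contra hk0
    exact hidx ((dvd_pow_self p hk0).trans h2)
  rw [hk0, pow_zero, Subgroup.card_eq_one] at hk
  have := (Subgroup.map_eq_bot_iff _).1 hk
  rwa [QuotientGroup.ker_mk'] at this

variable {G : Type u} [Group G] [Fintype G] {M : Ideal AlgInt} {p : ℕ} [Fact p.Prime]

theorem defect_iff_stab_index (hM : IsPModular p M) (P H : Subgroup G) [Fintype H]
    (hP : IsPGroup p P) (hPH : P ≤ H) (hCH : Subgroup.centralizer (P : Set G) ≤ H)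
    (hHN : H ≤ Subgroup.normalizer (P : Set G))
    (hNH : Subgroup.normalizer (P : Set G) ≤ Subgroup.normalizer (H : Set G))
    {b : Set (IrrCharacter H)} (hb : IsPBlock M b) (hbP : IsDefectGroup p M b (P.subgroupOf H))
    {B : Set (IrrCharacter G)} (hind : IsInducedBlock M H b B) (T : Subgroup G)
    (hT : ∀ g : G, g ∈ T ↔ g ∈ Subgroup.normalizer (P : Set G) ∧ StabilizesBlock H b g) :
    IsDefectGroup p M B P ↔ ¬ p ∣ H.relIndex T := by
  classical
  have hMp := isPModular_isPrime hM
  have : Fintype T := Fintype.ofFinite _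
  have : Fintype (Subgroup.normalizer (P : Set G)) := Fintype.ofFinite _
  have hHT : H ≤ T := fun h hh => (hT h).2 ⟨hHN hh, stabilizesBlock_of_mem H b hh⟩
  have hTN : T ≤ Subgroup.normalizer (P : Set G) := fun t ht => ((hT t).1 ht).1
  have hPT : P ≤ T := hPH.trans hHT
  have hCT := hCH.trans hHT
  have hnormHT : T ≤ Subgroup.normalizer (H : Set G) := hTN.trans hNH
  have hstabT : ∀ t ∈ T, StabilizesBlock H b t := fun t ht => ((hT t).1 ht).2
  -- the unique block of `T` covering `b`
  obtain ⟨b₁, hb₁, hcov₁⟩ := rel_exists_covers T H hHT hnormHT hMp hb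
  have hcent : Subgroup.centralizer (P : Set G) ⊓ T ≤ H := inf_le_left.trans hCH
  have h920 : ∀ B' : Set (IrrCharacter T), IsPBlock M B' → CoversIn T H hHT B' b →
      IsInducedBlockIn M T H b B' :=
    fun B' hB' hc => rel_isInducedBlockIn_of_covers T H hHT hnormHT hM P hPT hTN hP hcent hB' hb hc
  have hind1 := h920 b₁ hb₁ hcov₁
  have huniq : ∀ B' : Set (IrrCharacter T), IsPBlock M B' → CoversIn T H hHT B' b → B' = b₁ := by
    intro B' hB' hc
    have h1 := (isInducedBlockIn_iff T H hHT b B').1 (h920 B' hB' hc)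
    have h2 := (isInducedBlockIn_iff T H hHT b b₁).1 hind1
    exact isInducedBlock_unique hMp _ h1 h2
  obtain ⟨B', hB'⟩ := inducedBlockDefined_of_le hM P T hP hPT hCT hTN hb₁
  have hBB : B' = B :=
    isInducedBlock_unique hMp H (isInducedBlock_trans T H hHT hMp hind1 hB') hind
  subst hBB
  have hmax : ∀ B'' : Set (IrrCharacter T), IsPBlock M B'' → CoversIn T H hHT B'' b →
      blockDefect p B'' ≤ blockDefect p b₁ := by
    intro B'' h1 h2
    rw [huniq B'' h1 h2]
  constructor
  · intro hBP
    have hd := isDefectGroup_of_induced hM P T hPT hTN hBP hB'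
    have := (rel_fong_maximal_defect T H hHT hnormHT hM hb hstabT hb₁ hcov₁ hmax hPT hd).1
    rwa [sup_eq_right.2 hPH] at this
  · intro hidx
    obtain ⟨D₁, hD₁⟩ := exists_isDefectGroup (p := p) hMp hb₁
    set D : Subgroup G := D₁.map T.subtype with hD
    have hDT : D ≤ T := by
      rintro _ ⟨t, -, rfl⟩
      exact t.2
    have hDsub : D.subgroupOf T = D₁ := subgroupOf_map_subtype_self T D₁
    have hfong := (rel_fong_maximal_defect T H hHT hnormHT hM hb hstabT hb₁ hcov₁ hmax hDT
      (by rw [hDsub]; exact hD₁)).2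
    have hD₁p : IsPGroup p D₁ := isPGroup_of_isDefectGroup hD₁
    have hDH : D ≤ H := by
      have hHn : (H.subgroupOf T).Normal :=
        (Subgroup.normal_subgroupOf_iff_le_normalizer hHT).2 hnormHT
      have h1 : D₁ ≤ H.subgroupOf T := le_of_isPGroup_of_not_dvd_index _ hidx hD₁p
      rintro _ ⟨t, ht, rfl⟩
      exact Subgroup.mem_subgroupOf.1 (h1 ht)
    rw [inf_eq_left.2 hDH] at hfong
    have hDP : D = P := by
      obtain ⟨x, hx⟩ := exists_conj_eq_of_isDefectGroup hM hb hfong hbP
      have hPn : (P.subgroupOf H).Normal :=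
        (Subgroup.normal_subgroupOf_iff_le_normalizer hPH).2 hHN
      have hxn : x ∈ Subgroup.normalizer ((P.subgroupOf H : Subgroup H) : Set H) := by
        rw [Subgroup.normalizer_eq_top]
        exact Subgroup.mem_top _
      have hx2 : (P.subgroupOf H).map (MulAut.conj x).toMonoidHom = P.subgroupOf H :=
        Subgroup.mem_normalizer_iff_map_conj_eq.1 hxn
      rw [hx2] at hx
      rw [← subgroupOf_map_subtype_of_le hDH, ← hx, subgroupOf_map_subtype_of_le hPH]
    have hb₁P : IsDefectGroup p M b₁ (P.subgroupOf T) := by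
      rw [← hDP, hDsub]
      exact hD₁
    obtain ⟨β, hβind, -, hβdef⟩ := rel_fongReynolds (Subgroup.normalizer (P : Set G)) H T hHT hTN
      hNH hM hb hT hb₁ hcov₁
    have hβP := hβdef P hPT hb₁P
    obtain ⟨B'', hB''block, hB''P, hB''ind⟩ := firstMain_induce hM P hP hβind.2.1 hβP
    have : B'' = B' := isInducedBlock_unique hMp T
      (isInducedBlock_trans (Subgroup.normalizer (P : Set G)) T hTN hMp hβind hB''ind) hB'
    rw [← this]
    exact hB''P

end

end Cfsg.Agent.Lib.Helper8
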