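import Mathlib
import Cfsg.Prelude.Def_Blocks
import Cfsg.Prelude.Def_BlockLocal
import Cfsg.Prelude.Def_BrauerPairs
import Cfsg.Agent.Lib.Helper8.BP1
import Cfsg.Agent.Lib.Helper8.KN6
import Cfsg.Agent.Lib.Helper8.BlockPairInduce
import Cfsg.Agent.Lib.Helper8.BlockExtFirstMain
import Cfsg.Agent.Lib.Helper8.BlockPairs3

/-!
# The block of `Q C_G(Q)` attached to a Brauer pair `(Q, e)`
-/

set_option autoImplicit false
set_option linter.unusedSectionVars false

namespace Cfsg.Agent.Lib.Helper8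

open Cfsg
open scoped ComplexConjugate
open Cfsg.Agent.Lib.Helper1 Cfsg.Agent.Lib.Helper4

universe u

section

variable {G : Type u} [Group G] [Fintype G] {M : Ideal AlgInt} {p : ℕ} [Fact p.Prime]
  (Q C H : Subgroup G) (hC : C = Subgroup.centralizer (Q : Set G)) (hH : H = Q ⊔ C)
  [Fintype C] [Fintype H]

include hC hH in
theorem pair_basic :
    Q ≤ H ∧ C ≤ H ∧ H ≤ Subgroup.normalizer (Q : Set G) ∧ H ≤ Subgroup.normalizer (C : Set G) ∧
      Subgroup.normalizer (Q : Set G) ≤ Subgroup.normalizer (H : Set G) ∧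
      Subgroup.normalizer (Q : Set G) ≤ Subgroup.normalizer (C : Set G) := by
  subst hC
  subst hH
  have h3 : Q ⊔ Subgroup.centralizer (Q : Set G) ≤ Subgroup.normalizer (Q : Set G) :=
    sup_le Subgroup.le_normalizer (Subgroup.centralizer_le_normalizer _)
  exact ⟨le_sup_left, le_sup_right, h3, h3.trans (normalizer_le_normalizer_centralizer Q),
    normalizer_le_normalizer_sup_centralizer Q, normalizer_le_normalizer_centralizer Q⟩

include hC hH in
theorem pair_stabilizes (e : Set (IrrCharacter C)) : ∀ h ∈ H, StabilizesBlock C e h := by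
  have h1 : Q ≤ pairStab ⊤ C e := by
    intro q hq
    refine ⟨Subgroup.mem_top _, stabilizesBlock_of_centralizes C e ?_⟩
    intro k hk
    rw [hC] at hk
    exact Subgroup.mem_centralizer_iff.1 hk q hq
  have h2 : C ≤ pairStab ⊤ C e := fun c hc => ⟨Subgroup.mem_top _, stabilizesBlock_of_mem C e hc⟩
  intro h hh
  rw [hH] at hh
  exact ((sup_le h1 h2) hh).2

theorem orbitUnionOf_eq_of_stabilizes (e : Set (IrrCharacter C))
    (hst : ∀ h ∈ H, StabilizesBlock C e h) : orbitUnionOf H C e = e := by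
  apply Set.Subset.antisymm
  · rintro ψ ⟨x, hxH, hx, hψ⟩
    obtain ⟨hx', himg⟩ := (stabilizesBlock_iff_image C e x).1 (hst x hxH)
    rw [← himg]
    exact hψ
  · exact subset_orbitUnionOf H C e

include hC hH in
/-- The block of `H = Q C_G(Q)` attached to the block `e` of `C = C_G(Q)`. -/
theorem pair_block_context (hM : IsPModular p M) (hQ : IsPGroup p Q)
    {e : Set (IrrCharacter C)} (he : IsPBlock M e) (hCH : C ≤ H) :
    ∃ b : Set (IrrCharacter H), IsPBlock M b ∧ CoversIn H C hCH b e ∧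
      (∀ h : H, blockCoeff b h = extZ C (blockCoeff e) (h : G)) ∧
      (∀ g ∈ Subgroup.normalizer (Q : Set G), StabilizesBlock C e g ↔ StabilizesBlock H b g) ∧
      (∀ Pb : Subgroup G, Pb ≤ H → IsDefectGroup p M b (Pb.subgroupOf H) →
        C ⊔ Pb = H ∧ IsDefectGroup p M e ((Pb ⊓ C).subgroupOf C)) := by
  classical
  have hMp := isPModular_isPrime hM
  obtain ⟨hQH, -, hHN, hHC, hNH, hNC⟩ := pair_basic Q C H hC hH
  have hst := pair_stabilizes Q C H hC hH e
  have hidx : ∃ k : ℕ, C.relIndex H = p ^ k := by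
    rw [hH, hC]
    exact relIndex_centralizer_sup Q hQ
  obtain ⟨b, hb, hcov⟩ := rel_exists_covers H C hCH hHC hMp he
  have hbe := rel_blockCoeff_of_pIndex H C hCH hHC hM hidx he hst hb hcov
  refine ⟨b, hb, hcov, hbe, ?_, ?_⟩
  · intro g hg
    exact stabilizesBlock_iff_of_blockCoeff_eq hMp H C hCH he hb hbe (hNC hg) (hNH hg)
  · intro Pb hPb hPbd
    exact rel_sup_eq_of_pIndex H C hCH hHC hM hidx he hst hb hcov hPb hPbd

end

end Cfsg.Agent.Lib.Helper8
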