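import Mathlib
import Cfsg.Prelude.Def_Blocks
import Cfsg.Prelude.Def_BrauerPairs
import Cfsg.Agent.Lib.Helper8.PairConj3
import Cfsg.Agent.Lib.Helper8.Sub7
import Cfsg.Agent.Lib.Helper8.Sub12
import Cfsg.Agent.Lib.Helper8.BlockFirstMain
import Cfsg.Agent.Lib.Helper8.BlockPairs

/-!
# Existence of maximal Brauer pairs on a defect group
-/

set_option autoImplicit false
set_option maxHeartbeats 800000

namespace Cfsg.Agent.Lib.Helper8

open Cfsg
open scoped ComplexConjugate
open Cfsg.Agent.Lib.Helper1 Cfsg.Agent.Lib.Helper4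

universe u

section

variable {G : Type u} [Group G] [Fintype G] {M : Ideal AlgInt} {p : ℕ}

/-- If the Brauer functional of `ξ ∈ Irr(C_G(P))` is congruent to the central character of
`χ ∈ B`, then `(P, block of ξ)` is a Brauer pair of `B`. -/
theorem isBrauerPairOf_of_brauerLam (hM : IsPModular p M) (P : Subgroup G) (hP : IsPGroup p P)
    {B : Set (IrrCharacter G)} (hB : IsPBlock M B)
    (ξ₀ : IrrCharacter (Subgroup.centralizer (P : Set G))) {χ : IrrCharacter G} (hχ : χ ∈ B)
    [Fintype (Subgroup.centralizer (P : Set G))]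
    (h : ∀ F : G → ℂ, IsClassFunction G F → (∀ g, MemLocalRing M (F g)) →
        MemLocalIdeal M (brauerLam P (Subgroup.centralizer (P : Set G))
          (ξ₀ : Subgroup.centralizer (P : Set G) → ℂ) F - omega (χ : G → ℂ) F)) :
    IsBrauerPairOf p M B P (blockOf M (ξ₀ : Subgroup.centralizer (P : Set G) → ℂ)) := by
  classical
  have hMp := isPModular_isPrime hM
  obtain ⟨hcf, hS, hω⟩ := blockCoeff_spec hMp hB
  refine ⟨⟨hP, ξ₀, rfl⟩, hB, ?_⟩
  intro ξ hξ
  have h1 : MemLocalIdeal M (brauerOmega P (blockCoeff B) (ξ : Subgroup.centralizer (P : Set G) → ℂ) -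
        brauerOmega P (blockCoeff B) (ξ₀ : Subgroup.centralizer (P : Set G) → ℂ)) := by
    rw [brauerOmega_eq_omega, brauerOmega_eq_omega]
    exact cong_symm (memLocalIdeal_omega_sub hMp ξ₀.2 ξ.2 hξ
      (isClassFunction_restrict (Subgroup.centralizer (P : Set G)) hcf) (fun x => hS x))
  have h2 := h (blockCoeff B) hcf hS
  rw [hω χ, ← brauerOmega_eq_brauerLam, if_pos hχ] at h2
  exact cong_trans hMp h1 h2

/-- **A defect group carries a Brauer pair of its block.** -/
theorem exists_isBrauerPairOf_defectGroup [Fact p.Prime] (hM : IsPModular p M)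
    {B : Set (IrrCharacter G)} (hB : IsPBlock M B) {D : Subgroup G}
    (hD : IsDefectGroup p M B D) :
    ∃ e : Set (IrrCharacter (Subgroup.centralizer (D : Set G))), IsBrauerPairOf p M B D e := by
  classical
  have : Fintype (Subgroup.centralizer (D : Set G)) := Fintype.ofFinite _
  have hDp := isPGroup_of_isDefectGroup hD
  obtain ⟨g, hg, hgc⟩ := exists_isDefectClass_mem_centralizer hD
  obtain ⟨ξ, χ, hχ, h⟩ := exists_brauer_correspondent hM D (Subgroup.centralizer (D : Set G)) hDp
    le_rfl (Subgroup.centralizer_le_normalizer _) hB hgc hg.2.1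
  exact ⟨_, isBrauerPairOf_of_brauerLam hM D hDp hB ξ hχ (fun F hF hS => by convert h F hF hS)⟩

/-- **A defect group carries a maximal Brauer pair of its block.** -/
theorem exists_isMaximalBrauerPair_defectGroup [Fact p.Prime] (hM : IsPModular p M)
    {B : Set (IrrCharacter G)} (hB : IsPBlock M B) {D : Subgroup G}
    (hD : IsDefectGroup p M B D) :
    ∃ e : Set (IrrCharacter (Subgroup.centralizer (D : Set G))),
      IsMaximalBrauerPair p M B D e := by
  classical
  obtain ⟨e, he⟩ := exists_isBrauerPairOf_defectGroup hM hB hD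
  obtain ⟨P, e', hmax, hle⟩ := exists_isMaximalBrauerPair_ge B _ D e he le_rfl
  have hDP : D ≤ P := subpairLE_le hle
  have hPD := isDefectGroup_of_isMaximalBrauerPair hM hmax
  have hc : Nat.card P ≤ Nat.card D := by
    rw [card_of_isDefectGroup hM hB hD, card_of_isDefectGroup hM hB hPD]
  have : D = P := Subgroup.eq_of_le_of_card_ge hDP hc
  subst this
  exact ⟨e', hmax⟩

end

end Cfsg.Agent.Lib.Helper8
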