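import Mathlib
import Cfsg.Prelude.Def_Blocks
import Cfsg.Agent.Lib.Helper8.CentralDefect
import Cfsg.Agent.Lib.Helper8.Deflation
import Cfsg.Agent.S4425

/-!
# Characters of central `p`-defect: the counting argument
-/

set_option autoImplicit false

namespace Cfsg.Agent.Lib.Helper8

open Cfsg
open scoped ComplexConjugate
open Cfsg.Agent.Lib.Helper1 Cfsg.Agent.Lib.Helper4

universe u

section

variable {G : Type u} [Group G] [Fintype G] {p : ℕ} [Fact p.Prime]

theorem card_eq_pow_of_central_defect (D : Subgroup G) (hD : IsPGroup p D) {χ : G → ℂ}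
    (hdeg : (charDegree χ).factorization p = D.index.factorization p) :
    Nat.card D = p ^ ((Nat.card G).factorization p - (charDegree χ).factorization p) := by
  have hp : p.Prime := Fact.out
  obtain ⟨k, hk⟩ := IsPGroup.iff_card.1 hD
  have h1 := Subgroup.card_mul_index D
  have hidx : D.index ≠ 0 := Subgroup.index_ne_zero_of_finite
  have h2 := congrArg (fun n => n.factorization p) h1
  simp only [Nat.factorization_mul Nat.card_pos.ne' hidx, Finsupp.coe_add, Pi.add_apply] at h2
  rw [hk, hp.factorization_pow] at h2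
  simp only [Finsupp.single_eq_same] at h2
  rw [hk, hdeg, ← h2, Nat.add_sub_cancel]

/-- **Characters of central defect.**  If `D` is a central `p`-subgroup and the `p`-part of
`χ(1)` is the `p`-part of `|G : D|`, then `χ` vanishes at every element that is not the product
of an element of `D` and a `p`-regular element, and the sum of `|χ|²` over the `p`-regular
elements is `|G| / |D|`. -/
theorem central_defect_count (D : Subgroup G) (hD : IsPGroup p D)
    (hDZ : D ≤ Subgroup.center G) {χ : G → ℂ} (hχ : IsIrrCharacter G χ)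
    (hdeg : (charDegree χ).factorization p = D.index.factorization p) :
    (Nat.card D : ℝ) * (∑ h : G, if p ∣ orderOf h then 0 else Complex.normSq (χ h)) = Nat.card G ∧
      ∀ g : G, (∀ d ∈ D, p ∣ orderOf (d⁻¹ * g)) → χ g = 0 := by
  classical
  have hp : p.Prime := Fact.out
  have : Fintype D := Fintype.ofFinite _
  set r : G → ℝ := fun g => Complex.normSq (χ g) with hr
  set Rr : ℝ := ∑ h : G, if p ∣ orderOf h then 0 else r h with hRr
  set c : G → ℕ := fun g =>
    (Finset.univ.filter (fun d : D => ¬ p ∣ orderOf ((d : G)⁻¹ * g))).card with hc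
  have hG0 : (Nat.card G : ℝ) ≠ 0 := Nat.cast_ne_zero.2 Nat.card_pos.ne'
  have hGpos : (0 : ℝ) < Nat.card G := Nat.cast_pos.2 Nat.card_pos
  have hr0 : ∀ g, 0 ≤ r g := fun g => Complex.normSq_nonneg _
  -- (I1)
  have hI1 : (Nat.card D : ℝ) * Rr = ∑ g : G, (c g : ℝ) * r g := by
    have e1 : ∑ d : D, ∑ h : G, (if p ∣ orderOf h then 0 else r ((d : G) * h)) =
        (Nat.card D : ℝ) * Rr := by
      have : ∀ d : D, ∑ h : G, (if p ∣ orderOf h then 0 else r ((d : G) * h)) = Rr := by
        intro d
        refine Finset.sum_congr rfl fun h _ => ?_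
        rw [hr]
        simp only
        rw [irr_central_mul_normSq hχ (hDZ d.2)]
      rw [Finset.sum_congr rfl fun d _ => this d, Finset.sum_const, Finset.card_univ,
        nsmul_eq_mul, Nat.card_eq_fintype_card]
    have e2 : ∑ d : D, ∑ h : G, (if p ∣ orderOf h then 0 else r ((d : G) * h)) =
        ∑ g : G, (c g : ℝ) * r g := by
      have : ∀ d : D, ∑ h : G, (if p ∣ orderOf h then 0 else r ((d : G) * h)) =
          ∑ g : G, (if p ∣ orderOf ((d : G)⁻¹ * g) then 0 else r g) := by
        intro d
        rw [← Equiv.sum_comp (Equiv.mulLeft (d : G)⁻¹)]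
        refine Finset.sum_congr rfl fun g _ => ?_
        simp
      rw [Finset.sum_congr rfl fun d _ => this d, Finset.sum_comm]
      refine Finset.sum_congr rfl fun g _ => ?_
      rw [hc]
      simp only
      rw [Finset.card_filter]
      push_cast
      rw [Finset.sum_mul]
      refine Finset.sum_congr rfl fun d _ => ?_
      split_ifs <;> simp
    rw [← e1, e2]
  -- (I2)
  have hI2 : ∑ g : G, r g = Nat.card G := by
    have h1 := classInner_irr_self hχ
    rw [classInner_def] at h1
    have h2 : ∑ g : G, χ g * conj (χ g) = ((∑ g : G, r g : ℝ) : ℂ) := by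
      push_cast
      refine Finset.sum_congr rfl fun g _ => ?_
      rw [hr, Complex.mul_conj]
    rw [h2] at h1
    have hG0' : (Nat.card G : ℂ) ≠ 0 := Nat.cast_ne_zero.2 Nat.card_pos.ne'
    have h3 : ((∑ g : G, r g : ℝ) : ℂ) = ((Nat.card G : ℝ) : ℂ) := by
      field_simp at h1
      rw [h1]
      simp
    exact_mod_cast h3
  -- (I3)
  obtain ⟨m, hm⟩ : ∃ m : ℤ, (Nat.card D : ℝ) * Rr = m * Nat.card G := by
    have hgen := (Cfsg.Agent.S4425.result p ⟨χ, hχ⟩).1
    obtain ⟨m, hm⟩ := classInner_genChar_int hgen (isGenChar_of_irr hχ)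
    refine ⟨m, ?_⟩
    rw [classInner_def, ← card_eq_pow_of_central_defect D hD hdeg] at hm
    have h2 : ∑ g : G, (if p ∣ orderOf g then (0 : ℂ) else (Nat.card D : ℂ) * χ g) * conj (χ g) =
        (((Nat.card D : ℝ) * Rr : ℝ) : ℂ) := by
      rw [hRr, Finset.mul_sum]
      push_cast
      refine Finset.sum_congr rfl fun g _ => ?_
      split_ifs
      · simp
      · rw [hr]
        simp only
        rw [mul_assoc, Complex.mul_conj]
    simp only at hm
    rw [h2] at hm
    have hG0' : (Nat.card G : ℂ) ≠ 0 := Nat.cast_ne_zero.2 Nat.card_pos.ne'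
    have h3 : (((Nat.card D : ℝ) * Rr : ℝ) : ℂ) = ((m * Nat.card G : ℝ) : ℂ) := by
      field_simp at hm
      rw [hm]
      push_cast
      ring
    exact_mod_cast h3
  -- bounds on `c`
  have hc1 : ∀ g, c g ≤ 1 := by
    intro g
    rw [hc]
    simp only
    rw [Finset.card_le_one]
    intro d hd d' hd'
    rw [Finset.mem_filter] at hd hd'
    exact Subtype.ext (central_pPart_unique hp hD hDZ d.2 d'.2 hd.2 hd'.2)
  have hc_one : 1 ≤ c 1 := by
    rw [hc]
    simp only
    rw [Nat.one_le_iff_ne_zero, Ne, Finset.card_eq_zero, ← Ne, ← Finset.nonempty_iff_ne_empty]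
    refine ⟨1, ?_⟩
    rw [Finset.mem_filter]
    refine ⟨Finset.mem_univ _, ?_⟩
    simp only [OneMemClass.coe_one, inv_one, mul_one, orderOf_one]
    exact hp.one_lt.ne' ∘ Nat.dvd_one.1
  have hr1 : 0 < r 1 := by
    rw [hr]
    simp only
    rw [Complex.normSq_pos]
    exact irr_apply_one_ne_zero hχ
  -- `m = 1`
  have hle : ∑ g : G, (c g : ℝ) * r g ≤ ∑ g : G, r g := by
    apply Finset.sum_le_sum
    intro g _
    have : (c g : ℝ) ≤ 1 := by exact_mod_cast hc1 g
    calc (c g : ℝ) * r g ≤ 1 * r g := mul_le_mul_of_nonneg_right this (hr0 g)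
      _ = r g := one_mul _
  have hpos : 0 < ∑ g : G, (c g : ℝ) * r g := by
    have h1 : (c 1 : ℝ) * r 1 ≤ ∑ g : G, (c g : ℝ) * r g :=
      Finset.single_le_sum (f := fun g => (c g : ℝ) * r g)
        (fun g _ => mul_nonneg (Nat.cast_nonneg _) (hr0 g)) (Finset.mem_univ 1)
    have h2 : 0 < (c 1 : ℝ) * r 1 := by
      apply mul_pos _ hr1
      exact_mod_cast hc_one
    linarith
  have hm1 : m = 1 := by
    rw [← hI1, hm] at hle hpos
    rw [hI2] at hle
    have h1 : (m : ℝ) ≤ 1 := by
      by_contra h
      push Not at h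
      have := mul_lt_mul_of_pos_right h hGpos
      linarith
    have h2 : (0 : ℝ) < m := by
      by_contra h
      push Not at h
      have := mul_nonpos_of_nonpos_of_nonneg h hGpos.le
      linarith
    have h3 : m ≤ 1 := by exact_mod_cast h1
    have h4 : 0 < m := by exact_mod_cast h2
    omega
  rw [hm1] at hm
  refine ⟨by rw [hm]; simp, ?_⟩
  -- vanishing
  have hzero : ∑ g : G, (1 - (c g : ℝ)) * r g = 0 := by
    have : ∑ g : G, (1 - (c g : ℝ)) * r g = ∑ g : G, r g - ∑ g : G, (c g : ℝ) * r g := by
      rw [← Finset.sum_sub_distrib]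
      refine Finset.sum_congr rfl fun g _ => ?_
      ring
    rw [this, hI2, ← hI1, hm]
    simp
  have hterm := (Finset.sum_eq_zero_iff_of_nonneg (fun g _ => by
    have : (c g : ℝ) ≤ 1 := by exact_mod_cast hc1 g
    exact mul_nonneg (by linarith) (hr0 g))).1 hzero
  intro g hg
  have h1 := hterm g (Finset.mem_univ _)
  have hcg : c g = 0 := by
    rw [hc]
    simp only
    rw [Finset.card_eq_zero, Finset.filter_eq_empty_iff]
    intro d _
    rw [not_not]
    exact hg d d.2
  rw [hcg] at h1
  simp only [Nat.cast_zero, sub_zero, one_mul] at h1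
  rw [hr] at h1
  exact Complex.normSq_eq_zero.1 h1

end

end Cfsg.Agent.Lib.Helper8
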