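import Mathlib
import Cfsg.Prelude.Def_Blocks
import Cfsg.Prelude.Def_BlockLocal
import Cfsg.Prelude.Def_BrauerPairs
import Cfsg.Agent.Lib.Helper8.BP2
import Cfsg.Agent.Lib.Helper8.DC1
import Cfsg.Agent.S0968
import Cfsg.Agent.S0969

/-!
# Characterization of maximal Brauer pairs
-/

set_option autoImplicit false
set_option linter.unusedSectionVars false

namespace Cfsg.Agent.Lib.Helper8

open Cfsg
open scoped ComplexConjugate
open Cfsg.Agent.Lib.Helper1 Cfsg.Agent.Lib.Helper4

universe u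

section

variable {G : Type u} [Group G] [Fintype G] {M : Ideal AlgInt} {p : ℕ} [Fact p.Prime]

/-- The central subgroup `Q ∩ C_G(Q)` of `C_G(Q)`. -/
theorem inf_centralizer_le_center (Q : Subgroup G) :
    (Q ⊓ Subgroup.centralizer (Q : Set G)).subgroupOf (Subgroup.centralizer (Q : Set G)) ≤
      Subgroup.center (Subgroup.centralizer (Q : Set G)) := by
  intro z hz
  rw [Subgroup.mem_center_iff]
  intro c
  apply Subtype.ext
  have hzQ : (z : G) ∈ Q := (Subgroup.mem_subgroupOf.1 hz).1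
  have := Subgroup.mem_centralizer_iff.1 c.2 (z : G) hzQ
  simpa using this.symm

theorem card_inf_centralizer (Q : Subgroup G) :
    Nat.card ((Q ⊓ Subgroup.centralizer (Q : Set G)).subgroupOf (Subgroup.centralizer (Q : Set G)))
      = Nat.card ↥(Q ⊓ Subgroup.centralizer (Q : Set G)) :=
  Nat.card_congr (Subgroup.subgroupOfEquivOfLe inf_le_right).toEquiv

/-- the `p`-adic valuation identity for `C_G(Q)` -/
theorem factorization_card_centralizer_split (Q : Subgroup G) :
    (Nat.card (Subgroup.centralizer (Q : Set G))).factorization p =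
      (Nat.card ↥(Q ⊓ Subgroup.centralizer (Q : Set G))).factorization p +
      ((Q ⊓ Subgroup.centralizer (Q : Set G)).subgroupOf
        (Subgroup.centralizer (Q : Set G))).index.factorization p := by
  rw [← card_inf_centralizer, ← Subgroup.card_mul_index ((Q ⊓ Subgroup.centralizer (Q : Set G)).subgroupOf
    (Subgroup.centralizer (Q : Set G))), Nat.factorization_mul Nat.card_pos.ne'
    (Subgroup.index_ne_zero_of_finite)]
  rfl

theorem maxPair_imp (hM : IsPModular p M) (Q : Subgroup G)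
    (e : Set (IrrCharacter (Subgroup.centralizer (Q : Set G))))
    {B : Set (IrrCharacter G)} (hmax : IsMaximalBrauerPair p M B Q e) :
    ∃ θ ∈ e, (∀ z : Subgroup.centralizer (Q : Set G), (z : G) ∈ Q →
        (θ : Subgroup.centralizer (Q : Set G) → ℂ) z = (θ : Subgroup.centralizer (Q : Set G) → ℂ) 1) ∧
      (charDegree (θ : Subgroup.centralizer (Q : Set G) → ℂ)).factorization p +
        (Nat.card ↥(Q ⊓ Subgroup.centralizer (Q : Set G))).factorization p =
        (Nat.card (Subgroup.centralizer (Q : Set G))).factorization p ∧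
      (∀ g : G, g ∈ Subgroup.normalizer (Q : Set G) →
        StabilizesBlock (Subgroup.centralizer (Q : Set G)) e g → (∃ k : ℕ, orderOf g = p ^ k) →
        g ∈ Q ⊔ Subgroup.centralizer (Q : Set G)) := by
  classical
  have hMp := isPModular_isPrime hM
  have : Fintype (Subgroup.centralizer (Q : Set G)) := Fintype.ofFinite _
  have : Fintype ↥(Q ⊔ Subgroup.centralizer (Q : Set G)) := Fintype.ofFinite _
  obtain ⟨⟨hQ, he⟩, hB, hocc⟩ := hmax.1
  obtain ⟨hQH, hCH, hHN, hHC, hNH, hNC⟩ := pair_basic Q _ _ rfl rfl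
  obtain ⟨b, hb, hcov, hbe, hstab, hdef⟩ := pair_block_context Q _ _ rfl rfl hM hQ he hCH
  have hst := pair_stabilizes Q _ _ rfl rfl e
  have hind : IsInducedBlock M (Q ⊔ Subgroup.centralizer (Q : Set G)) b B := by
    apply isInducedBlock_of_cover hM Q _ hQH hCH hHN hmax.1 hb
    rw [orbitUnionOf_eq_of_stabilizes _ _ e hst]
    exact hbe
  have hQB := isDefectGroup_of_isMaximalBrauerPair hM hmax
  have hbQ := isDefectGroup_of_induced hM Q _ hQH hHN hQB hind
  set T := pairStab (Subgroup.normalizer (Q : Set G)) (Q ⊔ Subgroup.centralizer (Q : Set G)) b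
    with hTdef
  have hT : ∀ g : G, g ∈ T ↔ g ∈ Subgroup.normalizer (Q : Set G) ∧
      StabilizesBlock (Q ⊔ Subgroup.centralizer (Q : Set G)) b g := fun g => Iff.rfl
  have hidx := (defect_iff_stab_index hM Q _ hQ hQH hCH hHN hNH hb hbQ hind T hT).1 hQB
  have hd := (hdef Q hQH hbQ).2
  set P' := (Q ⊓ Subgroup.centralizer (Q : Set G)).subgroupOf (Subgroup.centralizer (Q : Set G))
    with hP'
  have hP'p : IsPGroup p P' := (hQ.to_le inf_le_left).comap_subtype
  have hP'Z := inf_centralizer_le_center Q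
  have hG : P' ⊔ Subgroup.centralizer (P' : Set (Subgroup.centralizer (Q : Set G))) = ⊤ := by
    rw [eq_top_iff]
    refine le_trans ?_ le_sup_right
    intro c _
    rw [Subgroup.mem_centralizer_iff]
    intro z hz
    exact ((Subgroup.mem_center_iff.1 (hP'Z hz)) c).symm
  obtain ⟨⟨θ, ⟨hθe, hθk⟩, -⟩, hdeg, -⟩ := Cfsg.Agent.S0968.result p M hM P' hP'p hG e he hd
  refine ⟨θ, hθe, ?_, ?_, ?_⟩
  · intro z hz
    exact hθk z (Subgroup.mem_subgroupOf.2 ⟨hz, z.2⟩)
  · rw [factorization_card_centralizer_split (p := p) Q, hdeg θ hθe hθk, add_comm]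
  · intro g hg hge ⟨k, hk⟩
    have hgT : g ∈ T := (hT g).2 ⟨hg, (hstab g hg).1 hge⟩
    have hTN : T ≤ Subgroup.normalizer (Q : Set G) := fun t ht => ((hT t).1 ht).1
    have hHT : Q ⊔ Subgroup.centralizer (Q : Set G) ≤ T := fun h hh =>
      (hT h).2 ⟨hHN hh, stabilizesBlock_of_mem _ b hh⟩
    have hHn : ((Q ⊔ Subgroup.centralizer (Q : Set G)).subgroupOf T).Normal :=
      (Subgroup.normal_subgroupOf_iff_le_normalizer hHT).2 (hTN.trans hNH)
    have hzp : IsPGroup p (Subgroup.zpowers (⟨g, hgT⟩ : T)) := by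
      apply IsPGroup.of_card (n := k)
      rw [Nat.card_zpowers, ← hk]
      exact Subgroup.orderOf_mk g hgT
    have := le_of_isPGroup_of_not_dvd_index _ hidx hzp (Subgroup.mem_zpowers _)
    exact Subgroup.mem_subgroupOf.1 this

theorem maxPair_of (hM : IsPModular p M) (Q : Subgroup G) (hQ : IsPGroup p Q)
    (e : Set (IrrCharacter (Subgroup.centralizer (Q : Set G)))) (he : IsPBlock M e)
    (θ : IrrCharacter (Subgroup.centralizer (Q : Set G))) (hθ : θ ∈ e)
    (h1 : ∀ z : Subgroup.centralizer (Q : Set G), (z : G) ∈ Q →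
        (θ : Subgroup.centralizer (Q : Set G) → ℂ) z = (θ : Subgroup.centralizer (Q : Set G) → ℂ) 1)
    (h2 : (charDegree (θ : Subgroup.centralizer (Q : Set G) → ℂ)).factorization p +
        (Nat.card ↥(Q ⊓ Subgroup.centralizer (Q : Set G))).factorization p =
        (Nat.card (Subgroup.centralizer (Q : Set G))).factorization p)
    (h3 : ∀ g : G, g ∈ Subgroup.normalizer (Q : Set G) →
        StabilizesBlock (Subgroup.centralizer (Q : Set G)) e g → (∃ k : ℕ, orderOf g = p ^ k) →
        g ∈ Q ⊔ Subgroup.centralizer (Q : Set G)) :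
    ∃ B : Set (IrrCharacter G), IsMaximalBrauerPair p M B Q e := by
  classical
  have hMp := isPModular_isPrime hM
  have : Fintype (Subgroup.centralizer (Q : Set G)) := Fintype.ofFinite _
  have : Fintype ↥(Q ⊔ Subgroup.centralizer (Q : Set G)) := Fintype.ofFinite _
  obtain ⟨hQH, hCH, hHN, hHC, hNH, hNC⟩ := pair_basic Q _ _ rfl rfl
  obtain ⟨b, hb, hcov, hbe, hstab, hdef⟩ := pair_block_context Q _ _ rfl rfl hM hQ he hCH
  have hst := pair_stabilizes Q _ _ rfl rfl e
  set P' := (Q ⊓ Subgroup.centralizer (Q : Set G)).subgroupOf (Subgroup.centralizer (Q : Set G))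
    with hP'
  have hP'p : IsPGroup p P' := (hQ.to_le inf_le_left).comap_subtype
  have hP'Z := inf_centralizer_le_center Q
  -- `P'` is a defect group of `e`
  have hdeg : (charDegree (θ : Subgroup.centralizer (Q : Set G) → ℂ)).factorization p =
      P'.index.factorization p := by
    have := factorization_card_centralizer_split (p := p) Q
    rw [← hP'] at this
    omega
  have hd : IsDefectGroup p M e P' := by
    have := (Cfsg.Agent.S0969.result p M hM P' hP'p hP'Z θ hdeg).1
    rwa [← eq_blockOf_of_mem hMp he hθ] at this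
  -- a defect group of `b`
  obtain ⟨Pb', hPb'⟩ := exists_isDefectGroup (p := p) hMp hb
  set Pb : Subgroup G := Pb'.map (Q ⊔ Subgroup.centralizer (Q : Set G)).subtype with hPbdef
  have hPbH : Pb ≤ Q ⊔ Subgroup.centralizer (Q : Set G) := by
    rintro _ ⟨t, -, rfl⟩
    exact t.2
  have hPbsub : Pb.subgroupOf (Q ⊔ Subgroup.centralizer (Q : Set G)) = Pb' :=
    subgroupOf_map_subtype_self _ Pb'
  have hPbd : IsDefectGroup p M b (Pb.subgroupOf (Q ⊔ Subgroup.centralizer (Q : Set G))) := by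
    rw [hPbsub]; exact hPb'
  obtain ⟨-, hd2⟩ := hdef Pb hPbH hPbd
  have hinf : Pb ⊓ Subgroup.centralizer (Q : Set G) = Q ⊓ Subgroup.centralizer (Q : Set G) := by
    obtain ⟨x, hx⟩ := exists_conj_eq_of_isDefectGroup hM he hd2 hd
    have hP'n : P'.Normal := by
      constructor
      intro n hn g
      have := (Subgroup.mem_center_iff.1 (hP'Z hn)) g
      rw [this, mul_inv_cancel_right]
      exact hn
    have hxn : x ∈ Subgroup.normalizer ((P' : Subgroup (Subgroup.centralizer (Q : Set G))) :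
        Set (Subgroup.centralizer (Q : Set G))) := by
      rw [Subgroup.normalizer_eq_top]
      exact Subgroup.mem_top _
    have hx2 : P'.map (MulAut.conj x).toMonoidHom = P' :=
      Subgroup.mem_normalizer_iff_map_conj_eq.1 hxn
    rw [hx2] at hx
    rw [← subgroupOf_map_subtype_of_le (inf_le_right : Pb ⊓ Subgroup.centralizer (Q : Set G) ≤ _),
      ← hx, subgroupOf_map_subtype_of_le inf_le_right]
  have hQPb : Q ≤ Pb := by
    have hQn : (Q.subgroupOf (Q ⊔ Subgroup.centralizer (Q : Set G))).Normal :=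
      (Subgroup.normal_subgroupOf_iff_le_normalizer hQH).2 hHN
    have := normal_le_of_isDefectGroup hM hb hPb'
      (Q.subgroupOf (Q ⊔ Subgroup.centralizer (Q : Set G))) (hQn := hQn) (hQ.comap_subtype
      (K := Q ⊔ Subgroup.centralizer (Q : Set G)))
    intro q hq
    exact ⟨⟨q, hQH hq⟩, this (Subgroup.mem_subgroupOf.2 hq), rfl⟩
  have hPbQ : Pb = Q := by
    apply le_antisymm _ hQPb
    intro x hx
    obtain ⟨q, hq, c, hc, rfl⟩ := exists_mul_of_mem_sup_centralizer Q (hPbH hx)
    have hcPb : c ∈ Pb := by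
      have : c = q⁻¹ * (q * c) := by group
      rw [this]
      exact Pb.mul_mem (Pb.inv_mem (hQPb hq)) hx
    have hcQ : c ∈ Q ⊓ Subgroup.centralizer (Q : Set G) := by
      rw [← hinf]
      exact ⟨hcPb, hc⟩
    exact Q.mul_mem hq hcQ.1
  have hbQ : IsDefectGroup p M b (Q.subgroupOf (Q ⊔ Subgroup.centralizer (Q : Set G))) := by
    have h := hPbd
    rw [hPbQ] at h
    exact h
  obtain ⟨B, hind⟩ := inducedBlockDefined_of_le hM Q _ hQ hQH hCH hHN hb
  set T := pairStab (Subgroup.normalizer (Q : Set G)) (Q ⊔ Subgroup.centralizer (Q : Set G)) b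
    with hTdef
  have hT : ∀ g : G, g ∈ T ↔ g ∈ Subgroup.normalizer (Q : Set G) ∧
      StabilizesBlock (Q ⊔ Subgroup.centralizer (Q : Set G)) b g := fun g => Iff.rfl
  have hTN : T ≤ Subgroup.normalizer (Q : Set G) := fun t ht => ((hT t).1 ht).1
  have hHT : Q ⊔ Subgroup.centralizer (Q : Set G) ≤ T := fun h hh =>
    (hT h).2 ⟨hHN hh, stabilizesBlock_of_mem _ b hh⟩
  have hidx : ¬ p ∣ (Q ⊔ Subgroup.centralizer (Q : Set G)).relIndex T := by
    intro hdvd
    obtain ⟨S⟩ : Nonempty (Sylow p T) := inferInstance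
    have hSH : ¬ (S : Subgroup T) ≤ (Q ⊔ Subgroup.centralizer (Q : Set G)).subgroupOf T := by
      intro hle
      exact S.not_dvd_index (hdvd.trans (Subgroup.index_dvd_of_le hle))
    obtain ⟨s, hsS, hsH⟩ := SetLike.not_le_iff_exists.1 hSH
    apply hsH
    rw [Subgroup.mem_subgroupOf]
    have hsT := (hT (s : G)).1 s.2
    apply h3 (s : G) hsT.1 ((hstab (s : G) hsT.1).2 hsT.2)
    obtain ⟨k, hk⟩ := (IsPGroup.iff_orderOf.1 S.isPGroup') ⟨s, hsS⟩
    refine ⟨k, ?_⟩
    rw [← hk, Subgroup.orderOf_mk, Subgroup.orderOf_coe]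
  have hBQ := (defect_iff_stab_index hM Q _ hQ hQH hCH hHN hNH hb hbQ hind T hT).2 hidx
  -- `(Q, e)` is a Brauer pair of `B`
  obtain ⟨B₀, hB₀, -⟩ := existsUnique_isBrauerPairOf hM Q e ⟨hQ, he⟩
  have hind₀ : IsInducedBlock M (Q ⊔ Subgroup.centralizer (Q : Set G)) b B₀ := by
    apply isInducedBlock_of_cover hM Q _ hQH hCH hHN hB₀ hb
    rw [orbitUnionOf_eq_of_stabilizes _ _ e hst]
    exact hbe
  have hBB : B₀ = B := isInducedBlock_unique hMp _ hind₀ hind
  subst hBB
  refine ⟨B₀, hB₀, ?_⟩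
  intro R g hRg hle
  obtain ⟨P₁, e₁, hmax₁, hle₁⟩ := exists_isMaximalBrauerPair_ge B₀ _ R g hRg le_rfl
  have hP₁D := isDefectGroup_of_isMaximalBrauerPair hM hmax₁
  have hQR : Q ≤ R := subpairLE_le hle
  have hRP₁ : R ≤ P₁ := subpairLE_le hle₁
  have hc : Nat.card P₁ ≤ Nat.card Q := by
    rw [card_of_isDefectGroup hM hind.2.1 hBQ, card_of_isDefectGroup hM hind.2.1 hP₁D]
  have hQP₁ : Q = P₁ := Subgroup.eq_of_le_of_card_ge (hQR.trans hRP₁) hc
  apply le_antisymm _ hQR
  rw [hQP₁]
  exact hRP₁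

end

end Cfsg.Agent.Lib.Helper8
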