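import Mathlib
import Cfsg.Prelude.Def_Blocks
import Cfsg.Prelude.Def_BrauerPairs
import Cfsg.Agent.Lib.Helper8.LP2

/-!
# Chains of Brauer pairs and conjugation: subgroup `X` versus `G`
-/

set_option autoImplicit false
set_option linter.unusedSectionVars false

namespace Cfsg.Agent.Lib.Helper8

open Cfsg
open scoped ComplexConjugate
open Cfsg.Agent.Lib.Helper1 Cfsg.Agent.Lib.Helper4

universe u

section

variable {G : Type u} [Group G] [Fintype G] {M : Ideal AlgInt} {p : ℕ} (X : Subgroup G)

theorem normalSubpairRel_liftPair_iff (a₁ a₂ : BrauerPairIdx X)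
    (hCX : Subgroup.centralizer (((liftPair X a₁).1 : Subgroup G) : Set G) ≤ X) :
    NormalSubpairRel p M (liftPair X a₁) (liftPair X a₂) ↔ NormalSubpairRel p M a₁ a₂ :=
  isNormalSubpair_lift_iff X a₁.1 a₂.1 hCX a₁.2 a₂.2

omit [Fintype G] in
theorem centralizer_liftPair_le_of_le {a c : BrauerPairIdx X} (hac : a.1 ≤ c.1)
    (hCX : Subgroup.centralizer (((liftPair X a).1 : Subgroup G) : Set G) ≤ X) :
    Subgroup.centralizer (((liftPair X c).1 : Subgroup G) : Set G) ≤ X := by
  refine le_trans (Subgroup.centralizer_le ?_) hCX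
  show ((a.1.map X.subtype : Subgroup G) : Set G) ⊆ ((c.1.map X.subtype : Subgroup G) : Set G)
  exact_mod_cast Subgroup.map_mono hac

/-- Chains of pairs of `X` lift to chains of pairs of `G`. -/
theorem subpairRel_liftPair {a a' : BrauerPairIdx X}
    (h : Relation.ReflTransGen (NormalSubpairRel p M) a a')
    (hCX : Subgroup.centralizer (((liftPair X a).1 : Subgroup G) : Set G) ≤ X) :
    Relation.ReflTransGen (NormalSubpairRel p M) (liftPair X a) (liftPair X a') := by
  induction h using Relation.ReflTransGen.head_induction_on with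
  | refl => exact Relation.ReflTransGen.refl
  | @head a₀ c hstep _ ih =>
    have hac : a₀.1 ≤ c.1 := hstep.2.2.1
    exact Relation.ReflTransGen.head ((normalSubpairRel_liftPair_iff X a₀ c hCX).2 hstep)
      (ih (centralizer_liftPair_le_of_le X hac hCX))

/-- Chains between lifted pairs descend to chains of pairs of `X`. -/
theorem subpairRel_of_liftPair {a a' : BrauerPairIdx X}
    (h : Relation.ReflTransGen (NormalSubpairRel p M) (liftPair X a) (liftPair X a'))
    (hCX : Subgroup.centralizer (((liftPair X a).1 : Subgroup G) : Set G) ≤ X) :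
    Relation.ReflTransGen (NormalSubpairRel p M) a a' := by
  have key : ∀ b : BrauerPairIdx G,
      Relation.ReflTransGen (NormalSubpairRel p M) b (liftPair X a') →
      ∀ a₀ : BrauerPairIdx X, liftPair X a₀ = b →
        Subgroup.centralizer ((b.1 : Subgroup G) : Set G) ≤ X →
        Relation.ReflTransGen (NormalSubpairRel p M) a₀ a' := by
    intro b hb
    induction hb using Relation.ReflTransGen.head_induction_on with
    | refl =>
      intro a₀ ha₀ hC
      have : a₀ = a' := liftPair_injective X (by rw [ha₀]; exact hC) ha₀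
      rw [this]
    | @head b₀ c hstep hrest ih =>
      intro a₀ ha₀ hC
      have hbc : b₀.1 ≤ c.1 := hstep.2.2.1
      have hcX : c.1 ≤ X := (subpairRel_le hrest).trans (liftPair_fst_le X a')
      have hcC : Subgroup.centralizer ((c.1 : Subgroup G) : Set G) ≤ X :=
        le_trans (Subgroup.centralizer_le (by exact_mod_cast hbc)) hC
      obtain ⟨a_c, hac⟩ := exists_liftPair_eq X c hcX hcC
      have h1 : NormalSubpairRel p M (liftPair X a₀) (liftPair X a_c) := by
        rw [ha₀, hac]
        exact hstep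
      have h2 := (normalSubpairRel_liftPair_iff X a₀ a_c (by rw [ha₀]; exact hC)).1 h1
      exact Relation.ReflTransGen.head h2 (ih a_c hac hcC)
  exact key _ h a rfl hCX

omit [Fintype G] in
theorem map_conj_map_subtype (R' : Subgroup X) (x : X) :
    (R'.map (MulAut.conj x).toMonoidHom).map X.subtype =
      (R'.map X.subtype).map (MulAut.conj (x : G)).toMonoidHom := by
  rw [Subgroup.map_map, Subgroup.map_map]
  congr 1

omit [Fintype G] in
theorem centralizer_conj_le {R' : Subgroup X}
    (hCX : Subgroup.centralizer ((R'.map X.subtype : Subgroup G) : Set G) ≤ X) (x : X) :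
    Subgroup.centralizer
      (((R'.map (MulAut.conj x).toMonoidHom).map X.subtype : Subgroup G) : Set G) ≤ X := by
  rw [map_conj_map_subtype]
  intro c hc
  rw [mem_centralizer_map_conj] at hc
  have h1 := hCX hc
  have h2 : c = (x : G) * ((x : G)⁻¹ * c * (x : G)) * (x : G)⁻¹ := by group
  rw [h2]
  exact X.mul_mem (X.mul_mem x.2 h1) (X.inv_mem x.2)

omit [Fintype G] in
/-- Lifting commutes with conjugation by elements of `X`. -/
theorem liftPair_pairConj (x : X) (a : BrauerPairIdx X)
    (hCX : Subgroup.centralizer (((liftPair X a).1 : Subgroup G) : Set G) ≤ X) :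
    liftPair X (pairConj x a) = pairConj (x : G) (liftPair X a) := by
  obtain ⟨R', g'⟩ := a
  have hCX' := centralizer_conj_le X hCX x
  show (⟨(R'.map (MulAut.conj x).toMonoidHom).map X.subtype,
      liftBlock X (R'.map (MulAut.conj x).toMonoidHom) (conjBlock R' x g')⟩ : BrauerPairIdx G) =
    ⟨(R'.map X.subtype).map (MulAut.conj (x : G)).toMonoidHom,
      conjBlock (R'.map X.subtype) (x : G) (liftBlock X R' g')⟩
  apply pairIdx_mk_ext
  · exact map_conj_map_subtype X R' x
  · intro ξ hξ
    rw [liftBlock_eq_image X _ hCX', conjBlock_eq_image] at hξ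
    obtain ⟨_, ⟨ξ₀, hξ₀, rfl⟩, rfl⟩ := hξ
    refine ⟨irrMap (centConj (R'.map X.subtype) (x : G)) (irrMap (centSub X R' hCX) ξ₀), ?_, ?_⟩
    · rw [conjBlock_eq_image, liftBlock_eq_image X R' hCX]
      exact ⟨_, ⟨ξ₀, hξ₀, rfl⟩, rfl⟩
    · intro g hg hg'
      rw [irrMap_apply, irrMap_apply, irrMap_apply, irrMap_apply]
      apply congrArg
      apply Subtype.ext
      apply Subtype.ext
      rfl
  · intro ξ' hξ'
    rw [conjBlock_eq_image, liftBlock_eq_image X R' hCX] at hξ'
    obtain ⟨_, ⟨ξ₀, hξ₀, rfl⟩, rfl⟩ := hξ'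
    refine ⟨irrMap (centSub X _ hCX') (irrMap (centConj R' x) ξ₀), ?_, ?_⟩
    · rw [liftBlock_eq_image X _ hCX', conjBlock_eq_image]
      exact ⟨_, ⟨ξ₀, hξ₀, rfl⟩, rfl⟩
    · intro g hg hg'
      rw [irrMap_apply, irrMap_apply, irrMap_apply, irrMap_apply]
      apply congrArg
      apply Subtype.ext
      apply Subtype.ext
      rfl

end

end Cfsg.Agent.Lib.Helper8
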