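import Mathlib
import Cfsg.Prelude.Def_Blocks
import Cfsg.Prelude.Def_BrauerPairs
import Cfsg.Agent.Lib.Helper8.LP3
import Cfsg.Agent.S4658

/-!
# Local conjugacy of Brauer pairs

Inside a subgroup `X ≥ Q C_G(Q)`, the Brauer pairs above `(Q, f)` whose subgroup lies in `X` are
`X`-conjugate into any `X`-maximal one.
-/

set_option autoImplicit false
set_option linter.unusedSectionVars false

namespace Cfsg.Agent.Lib.Helper8

open Cfsg
open scoped ComplexConjugate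
open Cfsg.Agent.Lib.Helper1 Cfsg.Agent.Lib.Helper4

universe u

section

variable {G : Type u} [Group G] [Fintype G] {M : Ideal AlgInt} {p : ℕ} [Fact p.Prime]

/-- **Local conjugacy.** -/
theorem local_conj (hM : IsPModular p M) (X : Subgroup G) {b₀ b₁ b₂ : BrauerPairIdx G}
    (hb₀ : IsBrauerPair p M b₀.1 b₀.2) (hb₁ : IsBrauerPair p M b₁.1 b₁.2)
    (hb₂ : IsBrauerPair p M b₂.1 b₂.2)
    (h0X : b₀.1 ≤ X) (hCX : Subgroup.centralizer ((b₀.1 : Subgroup G) : Set G) ≤ X)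
    (h1 : Relation.ReflTransGen (NormalSubpairRel p M) b₀ b₁)
    (h2 : Relation.ReflTransGen (NormalSubpairRel p M) b₀ b₂)
    (h1X : b₁.1 ≤ X) (h2X : b₂.1 ≤ X)
    (hmax : ∀ b₃ : BrauerPairIdx G, IsBrauerPair p M b₃.1 b₃.2 →
      Relation.ReflTransGen (NormalSubpairRel p M) b₂ b₃ → b₃.1 ≤ X → b₃.1 = b₂.1) :
    ∃ x ∈ X, Relation.ReflTransGen (NormalSubpairRel p M) (pairConj x b₁) b₂ := by
  classical
  have : Fintype X := Fintype.ofFinite _
  have hC₁ : Subgroup.centralizer ((b₁.1 : Subgroup G) : Set G) ≤ X :=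
    le_trans (Subgroup.centralizer_le (by exact_mod_cast subpairRel_le h1)) hCX
  have hC₂ : Subgroup.centralizer ((b₂.1 : Subgroup G) : Set G) ≤ X :=
    le_trans (Subgroup.centralizer_le (by exact_mod_cast subpairRel_le h2)) hCX
  obtain ⟨a₀, ha₀⟩ := exists_liftPair_eq X b₀ h0X hCX
  obtain ⟨a₁, ha₁⟩ := exists_liftPair_eq X b₁ h1X hC₁
  obtain ⟨a₂, ha₂⟩ := exists_liftPair_eq X b₂ h2X hC₂
  have hCa₀ : Subgroup.centralizer (((liftPair X a₀).1 : Subgroup G) : Set G) ≤ X := by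
    rw [ha₀]; exact hCX
  have hCa₁ : Subgroup.centralizer (((liftPair X a₁).1 : Subgroup G) : Set G) ≤ X := by
    rw [ha₁]; exact hC₁
  have hCa₂ : Subgroup.centralizer (((liftPair X a₂).1 : Subgroup G) : Set G) ≤ X := by
    rw [ha₂]; exact hC₂
  have h1' : Relation.ReflTransGen (NormalSubpairRel p M) a₀ a₁ :=
    subpairRel_of_liftPair X (by rw [ha₀, ha₁]; exact h1) hCa₀
  have h2' : Relation.ReflTransGen (NormalSubpairRel p M) a₀ a₂ :=
    subpairRel_of_liftPair X (by rw [ha₀, ha₂]; exact h2) hCa₀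
  have hBP₀ : IsBrauerPair p M a₀.1 a₀.2 :=
    (isBrauerPair_lift_iff X a₀.1 hCa₀ a₀.2).1 (by
      have : IsBrauerPair p M (liftPair X a₀).1 (liftPair X a₀).2 := by rw [ha₀]; exact hb₀
      exact this)
  have hBP₁ : IsBrauerPair p M a₁.1 a₁.2 :=
    (isBrauerPair_lift_iff X a₁.1 hCa₁ a₁.2).1 (by
      have : IsBrauerPair p M (liftPair X a₁).1 (liftPair X a₁).2 := by rw [ha₁]; exact hb₁
      exact this)
  have hBP₂ : IsBrauerPair p M a₂.1 a₂.2 :=
    (isBrauerPair_lift_iff X a₂.1 hCa₂ a₂.2).1 (by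
      have : IsBrauerPair p M (liftPair X a₂).1 (liftPair X a₂).2 := by rw [ha₂]; exact hb₂
      exact this)
  obtain ⟨BX, hBX, -⟩ := existsUnique_isBrauerPairOf hM a₀.1 a₀.2 hBP₀
  have hBXb : IsPBlock M BX := hBX.2.1
  have hB₁ : IsBrauerPairOf p M BX a₁.1 a₁.2 :=
    (Cfsg.Agent.S4658.result p M hM a₁.1 a₀.1 a₁.2 a₀.2 hBP₁ hBP₀ h1' BX hBXb).2 hBX
  have hB₂ : IsBrauerPairOf p M BX a₂.1 a₂.2 :=
    (Cfsg.Agent.S4658.result p M hM a₂.1 a₀.1 a₂.2 a₀.2 hBP₂ hBP₀ h2' BX hBXb).2 hBX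
  have hmaxX : IsMaximalBrauerPair p M BX a₂.1 a₂.2 := by
    refine ⟨hB₂, ?_⟩
    intro R g hRg hle
    have hle' : Relation.ReflTransGen (NormalSubpairRel p M) a₂ ⟨R, g⟩ := hle
    have hCR : Subgroup.centralizer (((liftPair X ⟨R, g⟩).1 : Subgroup G) : Set G) ≤ X :=
      centralizer_liftPair_le_of_le X (subpairRel_le hle') hCa₂
    have h3 := subpairRel_liftPair X hle' hCa₂
    rw [ha₂] at h3
    have hBP₃ : IsBrauerPair p M (liftPair X ⟨R, g⟩).1 (liftPair X ⟨R, g⟩).2 :=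
      (isBrauerPair_lift_iff X R hCR g).2 hRg.1
    have h4 := hmax _ hBP₃ h3 (liftPair_fst_le X _)
    rw [← ha₂] at h4
    exact Subgroup.map_injective X.subtype_injective h4
  obtain ⟨x, hx⟩ := exists_conj_subpairLE hM hmaxX hB₁
  have hx' : Relation.ReflTransGen (NormalSubpairRel p M) (pairConj x a₁) a₂ := hx
  refine ⟨(x : G), x.2, ?_⟩
  have h5 := subpairRel_liftPair X hx' (centralizer_conj_le X hCa₁ x)
  rw [liftPair_pairConj X x a₁ hCa₁, ha₁, ha₂] at h5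
  exact h5

end

end Cfsg.Agent.Lib.Helper8
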