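import Mathlib
import Cfsg.Prelude.Def_Blocks
import Cfsg.Prelude.Def_BrauerPairs
import Cfsg.Prelude.Def_BlockFusion
import Cfsg.Agent.Lib.Helper8.LP4
import Cfsg.Agent.Lib.Helper8.PairFusion
import Cfsg.Agent.Lib.Helper8.PairFull
import Cfsg.Agent.Lib.Helper8.PairStabConj

/-!
# The fusion system of a block: construction
-/

set_option autoImplicit false
set_option linter.unusedSectionVars false

namespace Cfsg.Agent.Lib.Helper8

open Cfsg
open scoped ComplexConjugate
open Cfsg.Agent.Lib.Helper1 Cfsg.Agent.Lib.Helper4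

universe u

section

variable {G : Type u} [Group G] [Fintype G] {M : Ideal AlgInt} {p : ℕ} [Fact p.Prime]

/-- Pairs below a common pair are comparable as soon as their subgroups are. -/
theorem subpairRel_of_le (hM : IsPModular p M) {b : BrauerPairIdx G}
    (hb : IsBrauerPair p M b.1 b.2) {a c : BrauerPairIdx G}
    (ha : Relation.ReflTransGen (NormalSubpairRel p M) a b)
    (hc : Relation.ReflTransGen (NormalSubpairRel p M) c b) (hac : a.1 ≤ c.1) :
    Relation.ReflTransGen (NormalSubpairRel p M) a c := by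
  have hc' : IsBrauerPair p M c.1 c.2 := subpairRel_isBrauerPair hc hb
  obtain ⟨f, _, hf⟩ := exists_subpairLE hM _ c.1 a.1 c.2 hc' hac le_rfl
  have hf' : Relation.ReflTransGen (NormalSubpairRel p M) ⟨a.1, f⟩ c := hf
  have h1 : Relation.ReflTransGen (NormalSubpairRel p M) ⟨a.1, f⟩ b := hf'.trans hc
  have h2 : Relation.ReflTransGen (NormalSubpairRel p M) ⟨a.1, a.2⟩ b := ha
  have : f = a.2 := subpairLE_unique hM _ b hb le_rfl a.1 f a.2 h1 h2
  rw [this] at hf'
  exact hf'

omit [Fintype G] [Fact p.Prime] in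
/-- Conjugation by an element of `P` fixes every pair on `P`. -/
theorem pairConj_eq_self_of_mem (P : Subgroup G)
    (e : Set (IrrCharacter (Subgroup.centralizer (P : Set G)))) {g : G} (hg : g ∈ P) :
    pairConj g ⟨P, e⟩ = ⟨P, e⟩ := by
  show (⟨P.map (MulAut.conj g).toMonoidHom, conjBlock P g e⟩ : BrauerPairIdx G) = ⟨P, e⟩
  have hcomm : ∀ c : G, c ∈ Subgroup.centralizer (P : Set G) → g⁻¹ * c * g = c := by
    intro c hc
    have := Subgroup.mem_centralizer_iff.1 hc g hg
    rw [mul_assoc, ← this]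
    group
  apply pairIdx_mk_ext
  · exact Subgroup.mem_normalizer_iff_map_conj_eq.1 (Subgroup.le_normalizer hg)
  · intro ξ hξ
    rw [conjBlock_eq_image] at hξ
    obtain ⟨ξ₀, hξ₀, rfl⟩ := hξ
    refine ⟨ξ₀, hξ₀, ?_⟩
    intro c hc hc'
    rw [irrMap_apply]
    apply congrArg
    apply Subtype.ext
    rw [centConj_symm_apply_coe]
    exact hcomm c hc'
  · intro ξ₀ hξ₀
    refine ⟨irrMap (centConj P g) ξ₀, ?_, ?_⟩
    · rw [conjBlock_eq_image]
      exact ⟨ξ₀, hξ₀, rfl⟩
    · intro c hc hc'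
      rw [irrMap_apply]
      apply congrArg
      apply Subtype.ext
      rw [centConj_symm_apply_coe]
      exact hcomm c hc'

/-- The maps of the fusion system of a block with source `Q`. -/
def blockFusionHom (p : ℕ) (M : Ideal AlgInt) (P : Subgroup G)
    (e : Set (IrrCharacter (Subgroup.centralizer (P : Set G)))) (Q : Subgroup G) : Set (Q →* G) :=
  {φ | Q ≤ P ∧ ∃ g : G, (∀ u : Q, φ u = g * (u : G) * g⁻¹) ∧
      Q.map (MulAut.conj g).toMonoidHom ≤ P ∧
      ∃ f : Set (IrrCharacter (Subgroup.centralizer (Q : Set G))),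
        SubpairLE p M Q f P e ∧
          SubpairLE p M (Q.map (MulAut.conj g).toMonoidHom) (conjBlock Q g f) P e}

theorem conjHom_mem_blockFusionHom_of_eq (P : Subgroup G)
    (e : Set (IrrCharacter (Subgroup.centralizer (P : Set G)))) {Q : Subgroup G}
    {f : Set (IrrCharacter (Subgroup.centralizer (Q : Set G)))} {g : G}
    (hle : SubpairLE p M Q f P e)
    (hleg : SubpairLE p M (Q.map (MulAut.conj g).toMonoidHom) (conjBlock Q g f) P e)
    (R : Subgroup G) (hR : R = Q.map (MulAut.conj g).toMonoidHom) :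
    conjHom R g⁻¹ ∈ blockFusionHom p M P e R := by
  subst hR
  refine ⟨subpairLE_le hleg, g⁻¹, fun u => rfl, ?_, conjBlock Q g f, hleg, ?_⟩
  · rw [map_conj_map_conj, inv_mul_cancel]
    intro x hx
    obtain ⟨y, hy, rfl⟩ := hx
    simpa using subpairLE_le hle hy
  · show Relation.ReflTransGen (NormalSubpairRel p M) (pairConj g⁻¹ (pairConj g ⟨Q, f⟩)) ⟨P, e⟩
    rw [← pairConj_mul, inv_mul_cancel, pairConj_one]
    exact hle

/-- **The fusion system of a block on a Brauer pair `(P, e)`.** -/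
def blockFusionSystem (hM : IsPModular p M) (P : Subgroup G)
    (e : Set (IrrCharacter (Subgroup.centralizer (P : Set G)))) (hPe : IsBrauerPair p M P e) :
    FusionSystem P where
  Hom Q := blockFusionHom p M P e Q
  le_of_mem := by
    rintro Q φ ⟨hQP, g, hφ, hQg, -⟩
    refine ⟨hQP, fun x => hQg ?_⟩
    rw [hφ]
    exact ⟨(x : G), x.2, rfl⟩
  injective_of_mem := by
    rintro Q φ ⟨-, g, hg, -⟩ a b hab
    have h : g * (a : G) * g⁻¹ = g * (b : G) * g⁻¹ := ((hg a).symm.trans hab).trans (hg b)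
    exact Subtype.ext (mul_left_cancel (mul_right_cancel h))
  conj_mem := by
    intro Q g hQP hg
    obtain ⟨f, _, hf⟩ := exists_subpairLE hM _ P Q e hPe hQP le_rfl
    have hf' : Relation.ReflTransGen (NormalSubpairRel p M) ⟨Q, f⟩ ⟨P, e⟩ := hf
    have h1 := subpairRel_pairConj g hf'
    rw [pairConj_eq_self_of_mem P e hg] at h1
    refine ⟨hQP, g, fun u => rfl, ?_, f, hf, h1⟩
    exact subpairRel_le h1
  comp_mem := by
    rintro Q R φ ψ ⟨hQP, g, hφ, hQg, f, hf, hfg⟩ ⟨hRP, k, hψ, hRk, fR, hfR, hfRk⟩ h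
    have hQgR : Q.map (MulAut.conj g).toMonoidHom ≤ R := by
      rintro _ ⟨u, hu, rfl⟩
      have := h ⟨u, hu⟩
      rw [hφ] at this
      exact this
    have hfg' : Relation.ReflTransGen (NormalSubpairRel p M) (pairConj g ⟨Q, f⟩) ⟨P, e⟩ := hfg
    have hfR' : Relation.ReflTransGen (NormalSubpairRel p M) ⟨R, fR⟩ ⟨P, e⟩ := hfR
    have hfRk' : Relation.ReflTransGen (NormalSubpairRel p M) (pairConj k ⟨R, fR⟩) ⟨P, e⟩ := hfRk
    have h1 : Relation.ReflTransGen (NormalSubpairRel p M) (pairConj g ⟨Q, f⟩) ⟨R, fR⟩ :=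
      subpairRel_of_le hM (b := ⟨P, e⟩) hPe hfg' hfR' hQgR
    have h2 := (subpairRel_pairConj k h1).trans hfRk'
    rw [← pairConj_mul] at h2
    refine ⟨hQP, k * g, fun u => ?_, subpairRel_le h2, f, hf, h2⟩
    show ψ (φ.codRestrict R h u) = k * g * (u : G) * (k * g)⁻¹
    rw [hψ]
    show k * φ u * k⁻¹ = _
    rw [hφ, mul_inv_rev]
    simp only [mul_assoc]
  inv_mem := by
    rintro Q φ ⟨hQP, g, hφ, hQg, f, hf, hfg⟩
    have hrange : φ.range = Q.map (MulAut.conj g).toMonoidHom := by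
      ext y
      constructor
      · rintro ⟨u, rfl⟩
        rw [hφ]
        exact ⟨(u : G), u.2, rfl⟩
      · rintro ⟨u, hu, rfl⟩
        exact ⟨⟨u, hu⟩, hφ _⟩
    refine ⟨conjHom φ.range g⁻¹, conjHom_mem_blockFusionHom_of_eq P e hf hfg _ hrange, ?_⟩
    intro x
    show g⁻¹ * φ x * g⁻¹⁻¹ = x
    rw [hφ, inv_inv]
    simp only [mul_assoc, inv_mul_cancel, mul_one, inv_mul_cancel_left]

theorem isBlockFusionSystemOn_blockFusionSystem (hM : IsPModular p M)
    {B : Set (IrrCharacter G)} {P : Subgroup G}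
    {e : Set (IrrCharacter (Subgroup.centralizer (P : Set G)))}
    (hmax : IsMaximalBrauerPair p M B P e) :
    IsBlockFusionSystemOn p M B P e (blockFusionSystem hM P e hmax.1.1) :=
  ⟨hmax, fun _ _ => Iff.rfl⟩

end

end Cfsg.Agent.Lib.Helper8
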