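import Mathlib
import Cfsg.Prelude.Def_Blocks
import Cfsg.Prelude.Def_BlockLocal
import Cfsg.Agent.Lib.Helper8.REL6

/-!
# Converse transitivity of block induction; existence of covered blocks (relative)
-/

set_option autoImplicit false
set_option linter.unusedSectionVars false

namespace Cfsg.Agent.Lib.Helper8

open Cfsg
open scoped ComplexConjugate
open Cfsg.Agent.Lib.Helper1 Cfsg.Agent.Lib.Helper4

universe u

section

variable {G : Type u} [Group G] [Fintype G] {M : Ideal AlgInt} {p : ℕ} (H K : Subgroup G)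
  (hKH : K ≤ H) [Fintype H] [Fintype K]

include hKH in
/-- If `e` induces `f` inside `H`, the induced central characters of `e` and `f` in `G` are
congruent. -/
theorem inducedCentralChar_cong_of_inducedIn (hM : M.IsPrime) {e : Set (IrrCharacter K)}
    {f : Set (IrrCharacter H)} (h1 : IsInducedBlockIn M H K e f) {ξ : IrrCharacter K} (hξ : ξ ∈ e)
    {χ : IrrCharacter H} (hχ : χ ∈ f) (g : G) :
    MemLocalIdeal M (inducedCentralChar K (ξ : K → ℂ) g - inducedCentralChar H (χ : H → ℂ) g) := by
  classical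
  have : Fintype (K.subgroupOf H) := Fintype.ofFinite _
  have h1' := (isInducedBlockIn_iff H K hKH e f).1 h1
  have hF : IsClassFunction H (fun h : H => classIndicator g (h : G)) :=
    isClassFunction_restrict H (classIndicator_isClassFunction g)
  have b := omega_restrict_cong_of_induced hM (K.subgroupOf H) h1' (mem_trB H K hKH hξ) hχ
    hF (fun h => memLocalRing_classIndicator hM.ne_top g _)
  have c : omega (irrMap (Subgroup.subgroupOfEquivOfLe hKH).symm ξ : K.subgroupOf H → ℂ)
      (fun k' : K.subgroupOf H => classIndicator g ((k' : H) : G)) =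
      omega (ξ : K → ℂ) (fun k : K => classIndicator g (k : G)) :=
    omega_comp_mulEquiv (Subgroup.subgroupOfEquivOfLe hKH) (ξ : K → ℂ)
      (fun k : K => classIndicator g (k : G))
  rw [c] at b
  rw [inducedCentralChar_eq_omega, inducedCentralChar_eq_omega]
  exact b

include hKH in
/-- **Converse transitivity**: if `e^H = f` and `e^G = B` then `f^G = B`. -/
theorem isInducedBlock_trans' (hM : M.IsPrime) {e : Set (IrrCharacter K)}
    {f : Set (IrrCharacter H)} {B : Set (IrrCharacter G)}
    (h1 : IsInducedBlockIn M H K e f) (h2 : IsInducedBlock M K e B) :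
    IsInducedBlock M H f B := by
  refine ⟨h1.2.1, h2.2.1, ?_⟩
  intro χ hχ χ' hχ' g
  obtain ⟨ξ, hξ⟩ := isPBlock_nonempty hM h1.1
  have a := inducedCentralChar_cong_of_inducedIn H K hKH hM h1 hξ hχ g
  have b := h2.2.2 ξ hξ χ' hχ' g
  have := memLocalIdeal_add hM (memLocalIdeal_neg a) b
  have e1 : -(inducedCentralChar K (ξ : K → ℂ) g - inducedCentralChar H (χ : H → ℂ) g) +
      (inducedCentralChar K (ξ : K → ℂ) g - centralChar (χ' : G → ℂ) g) =
      inducedCentralChar H (χ : H → ℂ) g - centralChar (χ' : G → ℂ) g := by ring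
  rwa [e1] at this

include hKH in
/-- Every block of `H` covers some block of `K` (relative version). -/
theorem rel_exists_covered (hM : M.IsPrime) {f : Set (IrrCharacter H)} (hf : IsPBlock M f) :
    ∃ e : Set (IrrCharacter K), IsPBlock M e ∧ CoversIn H K hKH f e := by
  obtain ⟨χ, hχ⟩ := isPBlock_nonempty hM hf
  have hres : IsCharacter K (fun k : K => (χ : H → ℂ) ⟨(k : G), hKH k.2⟩) :=
    isCharacter_comp_hom (isCharacter_of_irr χ.2) (Subgroup.inclusion hKH)
  have h1 : (fun k : K => (χ : H → ℂ) ⟨(k : G), hKH k.2⟩) 1 ≠ 0 := irr_apply_one_ne_zero χ.2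
  obtain ⟨ψ, hψ⟩ := exists_irr_constituent hres h1
  exact ⟨blockOf M (ψ : K → ℂ), ⟨ψ, rfl⟩, χ, hχ, ψ, sameBlock_refl hM.ne_top _, hψ⟩

end

end Cfsg.Agent.Lib.Helper8
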