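import Mathlib
import Cfsg.Prelude.Def_Blocks
import Cfsg.Prelude.Def_BlockLocal
import Cfsg.Agent.Lib.Helper8.REL7
import Cfsg.Agent.Lib.Helper8.BlockFirstMain3

/-!
# Relative first main theorem
-/

set_option autoImplicit false
set_option linter.unusedSectionVars false

namespace Cfsg.Agent.Lib.Helper8

open Cfsg
open scoped ComplexConjugate
open Cfsg.Agent.Lib.Helper1 Cfsg.Agent.Lib.Helper4

universe u

section

variable {G : Type u} [Group G] [Finite G] {M : Ideal AlgInt} {p : ℕ} [Fact p.Prime]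

theorem firstMain_induce_gen (hM : IsPModular p M) (D : Subgroup G) (hD : IsPGroup p D)
    (K : Subgroup G) (hK : K = Subgroup.normalizer (D : Set G))
    {b : Set (IrrCharacter K)} (hb : IsPBlock M b)
    (hbD : IsDefectGroup p M b (D.subgroupOf K)) :
    ∃ B : Set (IrrCharacter G), IsPBlock M B ∧ IsDefectGroup p M B D ∧ IsInducedBlock M K b B := by
  subst hK
  exact firstMain_induce hM D hD hb hbD

theorem firstMain_exists_gen (hM : IsPModular p M) (D : Subgroup G) (hD : IsPGroup p D)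
    (K : Subgroup G) (hK : K = Subgroup.normalizer (D : Set G))
    {B : Set (IrrCharacter G)} (hB : IsPBlock M B) (hBD : IsDefectGroup p M B D) :
    ∃ b : Set (IrrCharacter K), IsPBlock M b ∧ IsDefectGroup p M b (D.subgroupOf K) ∧
      IsInducedBlock M K b B := by
  subst hK
  exact firstMain_exists hM D hD hB hBD

theorem firstMain_unique_gen (hM : IsPModular p M) (D : Subgroup G) (hD : IsPGroup p D)
    (K : Subgroup G) (hK : K = Subgroup.normalizer (D : Set G))
    {B : Set (IrrCharacter G)} {b₁ b₂ : Set (IrrCharacter K)}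
    (hb₁ : IsPBlock M b₁) (hb₂ : IsPBlock M b₂)
    (hD₁ : IsDefectGroup p M b₁ (D.subgroupOf K)) (hD₂ : IsDefectGroup p M b₂ (D.subgroupOf K))
    (hi₁ : IsInducedBlock M K b₁ B) (hi₂ : IsInducedBlock M K b₂ B) : b₁ = b₂ := by
  subst hK
  exact firstMain_unique hM D hD hb₁ hb₂ hD₁ hD₂ hi₁ hi₂

end

section

variable {G : Type u} [Group G] [Fintype G] {M : Ideal AlgInt} {p : ℕ} [Fact p.Prime]
  (A P L : Subgroup G) (hPA : P ≤ A) (hL : L = Subgroup.normalizer (P : Set G) ⊓ A)
  [Fintype A] [Fintype L]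

include hPA hL in
theorem subgroupOf_eq_normalizer_subgroupOf :
    L.subgroupOf A = Subgroup.normalizer ((P.subgroupOf A : Subgroup A) : Set A) := by
  rw [← Subgroup.subgroupOf_normalizer_eq hPA, hL, Subgroup.inf_subgroupOf_right]


include hPA hL in
/-- **Relative first main theorem, induction.** -/
theorem rel_firstMain_induce (hM : IsPModular p M) (hP : IsPGroup p P) (hLA : L ≤ A)
    {β : Set (IrrCharacter L)} (hβ : IsPBlock M β)
    (hβP : IsDefectGroup p M β (P.subgroupOf L)) :
    ∃ c : Set (IrrCharacter A), IsPBlock M c ∧ IsDefectGroup p M c (P.subgroupOf A) ∧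
      IsInducedBlockIn M A L β c := by
  have hK := subgroupOf_eq_normalizer_subgroupOf A P L hPA hL
  have h1 := (isDefectGroup_trB (p := p) (M := M) A L hLA β P).2 hβP
  obtain ⟨c, hc, hcP, hind⟩ := firstMain_induce_gen hM (P.subgroupOf A) hP.comap_subtype
    (L.subgroupOf A) hK (isPBlock_trB A L hLA hβ) h1
  exact ⟨c, hc, hcP, (isInducedBlockIn_iff A L hLA β c).2 hind⟩

include hPA hL in
/-- **Relative first main theorem, existence of the correspondent.** -/
theorem rel_firstMain_exists (hM : IsPModular p M) (hP : IsPGroup p P) (hLA : L ≤ A)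
    {c : Set (IrrCharacter A)} (hc : IsPBlock M c) (hcP : IsDefectGroup p M c (P.subgroupOf A)) :
    ∃ β : Set (IrrCharacter L), IsPBlock M β ∧ IsDefectGroup p M β (P.subgroupOf L) ∧
      IsInducedBlockIn M A L β c := by
  have hK := subgroupOf_eq_normalizer_subgroupOf A P L hPA hL
  obtain ⟨β', hβ', hβ'P, hind⟩ := firstMain_exists_gen hM (P.subgroupOf A) hP.comap_subtype
    (L.subgroupOf A) hK hc hcP
  refine ⟨trB' A L hLA β', ?_, ?_, ?_⟩
  · rw [← isPBlock_trB_iff A L hLA, trB_trB']
    exact hβ'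
  · rw [← isDefectGroup_trB A L hLA, trB_trB']
    exact hβ'P
  · rw [isInducedBlockIn_iff A L hLA, trB_trB']
    exact hind

include hPA hL in
/-- **Relative first main theorem, uniqueness.** -/
theorem rel_firstMain_unique (hM : IsPModular p M) (hP : IsPGroup p P) (hLA : L ≤ A)
    {c : Set (IrrCharacter A)} {β₁ β₂ : Set (IrrCharacter L)}
    (hβ₁ : IsPBlock M β₁) (hβ₂ : IsPBlock M β₂)
    (hD₁ : IsDefectGroup p M β₁ (P.subgroupOf L)) (hD₂ : IsDefectGroup p M β₂ (P.subgroupOf L))
    (hi₁ : IsInducedBlockIn M A L β₁ c) (hi₂ : IsInducedBlockIn M A L β₂ c) : β₁ = β₂ := by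
  have hK := subgroupOf_eq_normalizer_subgroupOf A P L hPA hL
  have h := firstMain_unique_gen hM (P.subgroupOf A) hP.comap_subtype (L.subgroupOf A) hK
    (isPBlock_trB A L hLA hβ₁) (isPBlock_trB A L hLA hβ₂)
    ((isDefectGroup_trB (p := p) (M := M) A L hLA β₁ P).2 hD₁)
    ((isDefectGroup_trB (p := p) (M := M) A L hLA β₂ P).2 hD₂)
    ((isInducedBlockIn_iff A L hLA β₁ c).1 hi₁) ((isInducedBlockIn_iff A L hLA β₂ c).1 hi₂)
  rw [← trB'_trB A L hLA β₁, ← trB'_trB A L hLA β₂, h]

end

end Cfsg.Agent.Lib.Helper8
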