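import Mathlib
import Cfsg.Prelude.Def_Blocks
import Cfsg.Prelude.Def_BrauerPairs
import Cfsg.Prelude.Def_BlockFusion
import Cfsg.Agent.Lib.Helper8.FS1
import Cfsg.Agent.Lib.Helper8.REL8

/-!
# The fusion system of a block: blocks with a prescribed idempotent cover, and Sylow condition
-/

set_option autoImplicit false
set_option linter.unusedSectionVars false

namespace Cfsg.Agent.Lib.Helper8

open Cfsg
open scoped ComplexConjugate
open Cfsg.Agent.Lib.Helper1 Cfsg.Agent.Lib.Helper4

universe u

section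

variable {G : Type u} [Group G] [Fintype G] {M : Ideal AlgInt} {p : ℕ}
  (T C : Subgroup G) (hCT : C ≤ T) [Fintype T] [Fintype C]

include hCT in
/-- A block of `T` whose idempotent is that of the block `f` of the normal subgroup `C` is the
unique block of `T` covering `f`. -/
theorem coversIn_iff_eq_of_blockCoeff (hnorm : T ≤ Subgroup.normalizer (C : Set G))
    (hM : M.IsPrime) {f : Set (IrrCharacter C)} (hf : IsPBlock M f)
    {F' : Set (IrrCharacter T)} (hF' : IsPBlock M F')
    (hFe : ∀ t : T, blockCoeff F' t = extZ C (blockCoeff f) (t : G))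
    {B' : Set (IrrCharacter T)} (hB' : IsPBlock M B') :
    CoversIn T C hCT B' f ↔ B' = F' := by
  classical
  have : Fintype (C.subgroupOf T) := Fintype.ofFinite _
  have hN' : (C.subgroupOf T).Normal := (Subgroup.normal_subgroupOf_iff_le_normalizer hCT).2 hnorm
  have heb : eb (C.subgroupOf T) (trB T C hCT f) = blockCoeff F' := by
    funext t
    unfold eb
    rw [extZ_blockCoeff_trB, hFe]
  have hcl : IsClassFunction T (eb (C.subgroupOf T) (trB T C hCT f)) := by
    rw [heb]
    exact isClassFunction_blockCoeff F'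
  have key : ∀ χ : IrrCharacter T, χ ∈ F' ↔
      ∃ θ ∈ trB T C hCT f, classInner (fun n : C.subgroupOf T => (χ : T → ℂ) n)
        (θ : C.subgroupOf T → ℂ) ≠ 0 := by
    intro χ
    rw [← omega_eb_G_eq_one_iff (C.subgroupOf T) hcl χ.2, heb, omega_blockCoeff]
    constructor
    · intro h
      rw [if_pos h]
    · intro h
      by_contra hne
      rw [if_neg hne] at h
      exact zero_ne_one h
  rw [coversIn_iff T C hCT]
  constructor
  · rintro ⟨χ, hχ, θ, hθ, h0⟩
    have hχF : χ ∈ F' := (key χ).2 ⟨θ, hθ, h0⟩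
    rw [eq_blockOf_of_mem hM hB' hχ, eq_blockOf_of_mem hM hF' hχF]
  · rintro rfl
    obtain ⟨χ, hχ⟩ := isPBlock_nonempty hM hB'
    obtain ⟨θ, hθ, h0⟩ := (key χ).1 hχ
    exact ⟨χ, hχ, θ, hθ, h0⟩

end

section

variable {G : Type u} [Group G]

/-- Conjugation by elements of `T ≤ N_G(Q)`, as a homomorphism into `Aut(Q)`. -/
def conjAutHom (Q T : Subgroup G) (hTN : T ≤ Subgroup.normalizer (Q : Set G)) : T →* MulAut Q where
  toFun t := conjAutOn Q (t : G) (hTN t.2)
  map_one' := by
    ext k
    simp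
  map_mul' a b := by
    ext k
    simp [mul_assoc]

theorem conjAutHom_apply_coe (Q T : Subgroup G) (hTN : T ≤ Subgroup.normalizer (Q : Set G))
    (t : T) (k : Q) : ((conjAutHom Q T hTN t k : Q) : G) = (t : G) * k * (t : G)⁻¹ := rfl

theorem mem_ker_conjAutHom (Q T : Subgroup G) (hTN : T ≤ Subgroup.normalizer (Q : Set G))
    {t : T} (ht : (t : G) ∈ Subgroup.centralizer (Q : Set G)) : t ∈ (conjAutHom Q T hTN).ker := by
  rw [MonoidHom.mem_ker]
  ext k
  rw [conjAutHom_apply_coe]
  have := Subgroup.mem_centralizer_iff.1 ht k k.2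
  rw [← this]
  simp

/-- An element inducing an automorphism of `Q` by conjugation normalizes `Q`. -/
theorem mem_normalizer_of_aut (Q : Subgroup G) (α : MulAut Q) {g : G}
    (h : ∀ u : Q, ((α u : Q) : G) = g * (u : G) * g⁻¹) : g ∈ Subgroup.normalizer (Q : Set G) := by
  rw [Subgroup.mem_normalizer_iff_map_conj_eq]
  apply le_antisymm
  · rintro _ ⟨q, hq, rfl⟩
    have := h ⟨q, hq⟩
    show g * q * g⁻¹ ∈ Q
    rw [← this]
    exact (α ⟨q, hq⟩).2
  · intro q hq
    refine ⟨((α.symm ⟨q, hq⟩ : Q) : G), (α.symm ⟨q, hq⟩).2, ?_⟩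
    have := h (α.symm ⟨q, hq⟩)
    show g * ((α.symm ⟨q, hq⟩ : Q) : G) * g⁻¹ = q
    rw [← this, MulEquiv.apply_symm_apply]

end

section

variable {G : Type u} [Group G] [Fintype G] {M : Ideal AlgInt} {p : ℕ} [Fact p.Prime]

/-- For `g ∈ N_G(Q)` and `(Q, f) ≤ (P, e)`: the conjugate pair lies below `(P, e)` iff `g` stabilizes
`f`. -/
theorem subpairLE_conj_iff_stabilizes (hM : IsPModular p M) {P Q : Subgroup G}
    {e : Set (IrrCharacter (Subgroup.centralizer (P : Set G)))}
    {f : Set (IrrCharacter (Subgroup.centralizer (Q : Set G)))}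
    (hPe : IsBrauerPair p M P e) (hle : SubpairLE p M Q f P e) {g : G}
    (hg : g ∈ Subgroup.normalizer (Q : Set G)) :
    SubpairLE p M (Q.map (MulAut.conj g).toMonoidHom) (conjBlock Q g f) P e ↔
      StabilizesBlock (Subgroup.centralizer (Q : Set G)) f g := by
  have hg' := normalizer_le_normalizer_centralizer Q hg
  have h1 := pairConj_of_mem_normalizer g Q f hg hg'
  have hle' : Relation.ReflTransGen (NormalSubpairRel p M) ⟨Q, f⟩ ⟨P, e⟩ := hle
  constructor
  · intro h
    have h' : Relation.ReflTransGen (NormalSubpairRel p M) (pairConj g ⟨Q, f⟩) ⟨P, e⟩ := h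
    rw [h1] at h'
    have := subpairLE_unique hM _ ⟨P, e⟩ hPe le_rfl Q _ f h' hle'
    rw [stabilizesBlock_iff_image]
    exact ⟨hg', this⟩
  · intro h
    rw [stabilizesBlock_iff_image] at h
    obtain ⟨hx, himg⟩ := h
    show Relation.ReflTransGen (NormalSubpairRel p M) (pairConj g ⟨Q, f⟩) ⟨P, e⟩
    rw [h1, himg]
    exact hle'

/-- If `N_P(Q)` is a defect group of the block of the stabilizer `T` of `(Q, f)` with the idempotent
of `f`, then `N_P(Q) C_G(Q)` has index prime to `p` in `T`. -/
theorem not_dvd_relIndex_stab (hM : IsPModular p M)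
    {P : Subgroup G} {e : Set (IrrCharacter (Subgroup.centralizer (P : Set G)))}
    (hPe : IsBrauerPair p M P e) {Q : Subgroup G}
    {f : Set (IrrCharacter (Subgroup.centralizer (Q : Set G)))} (hQP : Q ≤ P)
    (hle : SubpairLE p M Q f P e) (T : Subgroup G)
    (hT : ∀ y : G, y ∈ T ↔ y ∈ Subgroup.normalizer (Q : Set G) ∧
      StabilizesBlock (Subgroup.centralizer (Q : Set G)) f y)
    {F' : Set (IrrCharacter T)} (hF' : IsPBlock M F')
    (hFe : ∀ t : T, blockCoeff F' t =
      subgroupBlockCoeff (Subgroup.centralizer (Q : Set G)) f (t : G))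
    (hD : IsDefectGroup p M F' ((P ⊓ Subgroup.normalizer (Q : Set G)).subgroupOf T)) :
    ¬ p ∣ ((P ⊓ Subgroup.normalizer (Q : Set G)) ⊔ Subgroup.centralizer (Q : Set G)).relIndex T := by
  classical
  have hMp := isPModular_isPrime hM
  have hle' : Relation.ReflTransGen (NormalSubpairRel p M) ⟨Q, f⟩ ⟨P, e⟩ := hle
  have hQf : IsBrauerPair p M Q f := subpairRel_isBrauerPair hle' hPe
  have hTN : T ≤ Subgroup.normalizer (Q : Set G) := fun x hx => ((hT x).1 hx).1
  have hTst : ∀ x ∈ T, StabilizesBlock (Subgroup.centralizer (Q : Set G)) f x :=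
    fun x hx => ((hT x).1 hx).2
  have hCT : Subgroup.centralizer (Q : Set G) ≤ T :=
    fun x hx => (hT x).2 ⟨Subgroup.centralizer_le_normalizer _ hx, stabilizesBlock_of_mem _ f hx⟩
  have hTC : T ≤ Subgroup.normalizer ((Subgroup.centralizer (Q : Set G) : Subgroup G) : Set G) :=
    hTN.trans (normalizer_le_normalizer_centralizer Q)
  obtain ⟨hRT, -⟩ := exists_defectGroup_ge_normalizer hM hPe hQP hle T hT hF' hFe
  have : Fintype T := Fintype.ofFinite _
  have : Fintype (Subgroup.centralizer (Q : Set G)) := Fintype.ofFinite _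
  have hFe' : ∀ t : T, blockCoeff F' t =
      extZ (Subgroup.centralizer (Q : Set G)) (blockCoeff f) (t : G) := by
    intro t
    rw [hFe]
    rfl
  have hcovF : CoversIn T (Subgroup.centralizer (Q : Set G)) hCT F' f :=
    (coversIn_iff_eq_of_blockCoeff T _ hCT hTC hMp hQf.2 hF' hFe' hF').2 rfl
  obtain ⟨hidx, -⟩ := rel_fong_maximal_defect T (Subgroup.centralizer (Q : Set G)) hCT hTC hM
    hQf.2 hTst hF' hcovF (by
      intro B' hB' hcov'
      rw [(coversIn_iff_eq_of_blockCoeff T _ hCT hTC hMp hQf.2 hF' hFe' hB').1 hcov']) hRT hD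
  exact hidx

/-- **Sylow condition.** If `N_P(Q)` is a defect group of the block of the stabilizer `T` of
`(Q, f)` with the idempotent of `f`, then `Q` is fully automized in the fusion system of the
block. -/
theorem isFullyAutomized_of_defectGroup (hM : IsPModular p M) {B : Set (IrrCharacter G)}
    {P : Subgroup G} {e : Set (IrrCharacter (Subgroup.centralizer (P : Set G)))}
    (hmax : IsMaximalBrauerPair p M B P e) {F : FusionSystem P}
    (hF : IsBlockFusionSystemOn p M B P e F) {Q : Subgroup G}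
    {f : Set (IrrCharacter (Subgroup.centralizer (Q : Set G)))} (hQP : Q ≤ P)
    (hle : SubpairLE p M Q f P e) (T : Subgroup G)
    (hT : ∀ y : G, y ∈ T ↔ y ∈ Subgroup.normalizer (Q : Set G) ∧
      StabilizesBlock (Subgroup.centralizer (Q : Set G)) f y)
    {F' : Set (IrrCharacter T)} (hF' : IsPBlock M F')
    (hFe : ∀ t : T, blockCoeff F' t =
      subgroupBlockCoeff (Subgroup.centralizer (Q : Set G)) f (t : G))
    (hD : IsDefectGroup p M F' ((P ⊓ Subgroup.normalizer (Q : Set G)).subgroupOf T)) :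
    F.IsFullyAutomized p Q := by
  classical
  have hMp := isPModular_isPrime hM
  have hPe : IsBrauerPair p M P e := hmax.1.1
  have hle' : Relation.ReflTransGen (NormalSubpairRel p M) ⟨Q, f⟩ ⟨P, e⟩ := hle
  have hQf : IsBrauerPair p M Q f := subpairRel_isBrauerPair hle' hPe
  have hTN : T ≤ Subgroup.normalizer (Q : Set G) := fun x hx => ((hT x).1 hx).1
  have hTst : ∀ x ∈ T, StabilizesBlock (Subgroup.centralizer (Q : Set G)) f x :=
    fun x hx => ((hT x).1 hx).2
  have hCT : Subgroup.centralizer (Q : Set G) ≤ T :=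
    fun x hx => (hT x).2 ⟨Subgroup.centralizer_le_normalizer _ hx, stabilizesBlock_of_mem _ f hx⟩
  have hTC : T ≤ Subgroup.normalizer ((Subgroup.centralizer (Q : Set G) : Subgroup G) : Set G) :=
    hTN.trans (normalizer_le_normalizer_centralizer Q)
  obtain ⟨hRT, -⟩ := exists_defectGroup_ge_normalizer hM hPe hQP hle T hT hF' hFe
  have : Fintype T := Fintype.ofFinite _
  have : Fintype (Subgroup.centralizer (Q : Set G)) := Fintype.ofFinite _
  set κ := conjAutHom Q T hTN with hκ
  -- (1) the automorphism group of the system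
  have hA : F.autGroup Q = κ.range := by
    unfold FusionSystem.autGroup
    have hset : {α : MulAut Q | Q.subtype.comp α.toMonoidHom ∈ F.Hom Q} =
        (κ.range : Set (MulAut Q)) := by
      ext α
      simp only [Set.mem_ofPred_eq, SetLike.mem_coe, MonoidHom.mem_range]
      rw [hF.2]
      constructor
      · rintro ⟨-, g, hg, -, f₁, hf₁, hf₁g⟩
        have hgα : ∀ u : Q, ((α u : Q) : G) = g * (u : G) * g⁻¹ := fun u => hg u
        have hgN := mem_normalizer_of_aut Q α hgα
        have hff : f₁ = f := subpairLE_unique hM _ ⟨P, e⟩ hPe le_rfl Q f₁ f hf₁ hle'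
        subst hff
        have hst := (subpairLE_conj_iff_stabilizes hM hPe hle hgN).1 hf₁g
        refine ⟨⟨g, (hT g).2 ⟨hgN, hst⟩⟩, ?_⟩
        ext u
        rw [hκ, conjAutHom_apply_coe, hgα]
      · rintro ⟨t, rfl⟩
        have htN := hTN t.2
        refine ⟨hQP, (t : G), fun u => rfl, ?_, f, hle,
          (subpairLE_conj_iff_stabilizes hM hPe hle htN).2 (hTst _ t.2)⟩
        have := Subgroup.mem_normalizer_iff_map_conj_eq.1 htN
        exact this.le.trans hQP
    rw [hset, Subgroup.closure_eq]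
  -- (2) the automorphisms induced by `P`
  have hS : autInducedBy P Q =
      ((P ⊓ Subgroup.normalizer (Q : Set G)).subgroupOf T).map κ := by
    unfold autInducedBy
    have hset : {α : MulAut Q | ∃ g ∈ P, ∀ x : Q, ((α x : Q) : G) = g * (x : G) * g⁻¹} =
        ((((P ⊓ Subgroup.normalizer (Q : Set G)).subgroupOf T).map κ : Subgroup (MulAut Q)) :
          Set (MulAut Q)) := by
      ext α
      simp only [Set.mem_ofPred_eq, SetLike.mem_coe, Subgroup.mem_map]
      constructor
      · rintro ⟨g, hgP, hg⟩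
        have hgN := mem_normalizer_of_aut Q α hg
        have hgR : g ∈ P ⊓ Subgroup.normalizer (Q : Set G) := ⟨hgP, hgN⟩
        refine ⟨⟨g, hRT hgR⟩, Subgroup.mem_subgroupOf.2 hgR, ?_⟩
        ext u
        rw [hκ, conjAutHom_apply_coe, hg]
      · rintro ⟨t, ht, rfl⟩
        exact ⟨(t : G), (Subgroup.mem_subgroupOf.1 ht).1, fun x => rfl⟩
    rw [hset, Subgroup.closure_eq]
  -- (3) Fong
  have hFe' : ∀ t : T, blockCoeff F' t =
      extZ (Subgroup.centralizer (Q : Set G)) (blockCoeff f) (t : G) := by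
    intro t
    rw [hFe]
    rfl
  have hcovF : CoversIn T (Subgroup.centralizer (Q : Set G)) hCT F' f :=
    (coversIn_iff_eq_of_blockCoeff T _ hCT hTC hMp hQf.2 hF' hFe' hF').2 rfl
  obtain ⟨hidx, -⟩ := rel_fong_maximal_defect T (Subgroup.centralizer (Q : Set G)) hCT hTC hM
    hQf.2 hTst hF' hcovF (by
      intro B' hB' hcov'
      rw [(coversIn_iff_eq_of_blockCoeff T _ hCT hTC hMp hQf.2 hF' hFe' hB').1 hcov']) hRT hD
  have hDp : IsPGroup p ((P ⊓ Subgroup.normalizer (Q : Set G)).subgroupOf T) :=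
    (hPe.1.to_le inf_le_left).comap_subtype
  have h1 : IsPGroup p ((autInducedBy P Q).subgroupOf (F.autGroup Q)) := by
    rw [hS]
    exact (hDp.map κ).comap_subtype
  have h2 : ¬ p ∣ ((autInducedBy P Q).subgroupOf (F.autGroup Q)).index := by
    rw [hS, hA]
    change ¬ p ∣ (((P ⊓ Subgroup.normalizer (Q : Set G)).subgroupOf T).map κ).relIndex κ.range
    rw [MonoidHom.range_eq_map, Subgroup.relIndex_map_map, top_sup_eq, Subgroup.relIndex_top_right]
    intro hdvd
    apply hidx
    unfold Subgroup.relIndex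
    rw [Subgroup.subgroupOf_sup hRT hCT]
    refine hdvd.trans (Subgroup.index_dvd_of_le (sup_le_sup_left ?_ _))
    intro t ht
    exact mem_ker_conjAutHom Q T hTN (Subgroup.mem_subgroupOf.1 ht)
  exact ⟨hQP, h1.toSylow h2, IsPGroup.toSylow_coe h1 h2⟩

end

end Cfsg.Agent.Lib.Helper8
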