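import Mathlib
import Cfsg.Prelude.Def_Blocks
import Cfsg.Prelude.Def_BrauerPairs
import Cfsg.Prelude.Def_BlockFusion
import Cfsg.Agent.Lib.Helper8.FS2

/-!
# The fusion system of a block: the extension condition
-/

set_option autoImplicit false
set_option linter.unusedSectionVars false

namespace Cfsg.Agent.Lib.Helper8

open Cfsg
open scoped ComplexConjugate
open Cfsg.Agent.Lib.Helper1 Cfsg.Agent.Lib.Helper4

universe u

section

variable {G : Type u} [Group G]

/-- If `H` normalizes `K`, every element of `H ⊔ K` is a product. -/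
theorem exists_mul_of_mem_sup_of_le_normalizer {H K : Subgroup G}
    (h : H ≤ Subgroup.normalizer (K : Set G)) {x : G} (hx : x ∈ H ⊔ K) :
    ∃ d ∈ H, ∃ c ∈ K, x = d * c := by
  let S : Subgroup G :=
    { carrier := {x | ∃ d ∈ H, ∃ c ∈ K, x = d * c}
      mul_mem' := by
        rintro _ _ ⟨d, hd, c, hc, rfl⟩ ⟨d', hd', c', hc', rfl⟩
        refine ⟨d * d', H.mul_mem hd hd', d'⁻¹ * c * d' * c', K.mul_mem ?_ hc', by group⟩
        have := (Subgroup.mem_normalizer_iff.1 (Subgroup.inv_mem _ (h hd')) c).1 hc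
        simpa using this
      one_mem' := ⟨1, H.one_mem, 1, K.one_mem, by simp⟩
      inv_mem' := by
        rintro _ ⟨d, hd, c, hc, rfl⟩
        refine ⟨d⁻¹, H.inv_mem hd, d * c⁻¹ * d⁻¹, ?_, by group⟩
        exact (Subgroup.mem_normalizer_iff.1 (h hd) c⁻¹).1 (K.inv_mem hc) }
  have hle : H ⊔ K ≤ S := by
    apply sup_le
    · intro d hd
      exact ⟨d, hd, 1, K.one_mem, by simp⟩
    · intro c hc
      exact ⟨1, H.one_mem, c, hc, by simp⟩
  exact hle hx

end

section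

variable {G : Type u} [Group G] [Fintype G] {M : Ideal AlgInt} {p : ℕ} [Fact p.Prime]

/-- **Extension condition.** If `N_P(Q)` is a defect group of the block of the stabilizer `T` of
`(Q, f)` with the idempotent of `f`, then `Q` is receptive in the fusion system of the block. -/
theorem isReceptive_of_defectGroup (hM : IsPModular p M) {B : Set (IrrCharacter G)}
    {P : Subgroup G} {e : Set (IrrCharacter (Subgroup.centralizer (P : Set G)))}
    (hmax : IsMaximalBrauerPair p M B P e) {F : FusionSystem P}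
    (hF : IsBlockFusionSystemOn p M B P e F) {Q : Subgroup G}
    {f : Set (IrrCharacter (Subgroup.centralizer (Q : Set G)))} (hQP : Q ≤ P)
    (hle : SubpairLE p M Q f P e) (T : Subgroup G)
    (hT : ∀ y : G, y ∈ T ↔ y ∈ Subgroup.normalizer (Q : Set G) ∧
      StabilizesBlock (Subgroup.centralizer (Q : Set G)) f y)
    {F' : Set (IrrCharacter T)} (hF' : IsPBlock M F')
    (hFe : ∀ t : T, blockCoeff F' t =
      subgroupBlockCoeff (Subgroup.centralizer (Q : Set G)) f (t : G))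
    (hD : IsDefectGroup p M F' ((P ⊓ Subgroup.normalizer (Q : Set G)).subgroupOf T)) :
    F.IsReceptive Q := by
  classical
  have hMp := isPModular_isPrime hM
  have hPe : IsBrauerPair p M P e := hmax.1.1
  have hle' : Relation.ReflTransGen (NormalSubpairRel p M) ⟨Q, f⟩ ⟨P, e⟩ := hle
  have hQf : IsBrauerPair p M Q f := subpairRel_isBrauerPair hle' hPe
  have hTN : T ≤ Subgroup.normalizer (Q : Set G) := fun x hx => ((hT x).1 hx).1
  have hCT : Subgroup.centralizer (Q : Set G) ≤ T :=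
    fun x hx => (hT x).2 ⟨Subgroup.centralizer_le_normalizer _ hx, stabilizesBlock_of_mem _ f hx⟩
  obtain ⟨hRT, -⟩ := exists_defectGroup_ge_normalizer hM hPe hQP hle T hT hF' hFe
  have : Fintype T := Fintype.ofFinite _
  refine ⟨hQP, ?_⟩
  intro R φ hφ hrange
  rw [hF.2] at hφ
  obtain ⟨hRP, g, hg, hRgP, fR, hfR, hfRg⟩ := hφ
  have hfR' : Relation.ReflTransGen (NormalSubpairRel p M) ⟨R, fR⟩ ⟨P, e⟩ := hfR
  have hfRg' : Relation.ReflTransGen (NormalSubpairRel p M) (pairConj g ⟨R, fR⟩) ⟨P, e⟩ := hfRg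
  -- the image of `R` is `Q`
  have hRgQ : R.map (MulAut.conj g).toMonoidHom = Q := by
    rw [← hrange]
    ext y
    constructor
    · rintro ⟨u, hu, rfl⟩
      exact ⟨⟨u, hu⟩, hg _⟩
    · rintro ⟨u, rfl⟩
      rw [hg]
      exact ⟨(u : G), u.2, rfl⟩
  have hpair : pairConj g ⟨R, fR⟩ = ⟨Q, f⟩ := by
    obtain ⟨f₂, hf₂⟩ := eq_mk_of_fst_eq (pairConj g ⟨R, fR⟩) hRgQ
    rw [hf₂] at hfRg'
    have := subpairLE_unique hM _ ⟨P, e⟩ hPe le_rfl Q f₂ f hfRg' hle'
    rw [hf₂, this]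
  have hgQ : ∀ x ∈ R, g * x * g⁻¹ ∈ Q := by
    intro x hx
    rw [← hRgQ]
    exact ⟨x, hx, rfl⟩
  -- notation
  obtain ⟨D₀, hD₀⟩ : ∃ D₀ : Subgroup G, D₀ = P ⊓ Subgroup.normalizer (Q : Set G) := ⟨_, rfl⟩
  obtain ⟨C, hC⟩ : ∃ C : Subgroup G, C = Subgroup.centralizer (Q : Set G) := ⟨_, rfl⟩
  obtain ⟨N, hN⟩ : ∃ N : Subgroup G, N = FusionSystem.extender P R φ := ⟨_, rfl⟩
  have hD₀C : D₀ ≤ Subgroup.normalizer (C : Set G) := by
    rw [hD₀, hC]
    exact inf_le_right.trans (normalizer_le_normalizer_centralizer Q)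
  -- Step 1-3: basic facts on the extender
  have hNP : N ≤ P ⊓ Subgroup.normalizer (R : Set G) := by
    rw [hN]
    unfold FusionSystem.extender
    rw [Subgroup.closure_le]
    rintro y ⟨hyP, hyR, -⟩
    exact ⟨hyP, hyR⟩
  have hRN : R ≤ N := by
    intro y hy
    rw [hN]
    apply Subgroup.subset_closure
    refine ⟨hRP hy, Subgroup.le_normalizer hy, g * y * g⁻¹, hQP (hgQ y hy), ?_⟩
    intro x hx
    rw [hg, hg]
    simp only [mul_inv_rev, inv_inv]
    group
  have hNgX : N.map (MulAut.conj g).toMonoidHom ≤ D₀ ⊔ C := by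
    rw [Subgroup.map_le_iff_le_comap, hN]
    unfold FusionSystem.extender
    rw [Subgroup.closure_le]
    rintro y ⟨hyP, hyR, h, hhP, hh⟩
    show g * y * g⁻¹ ∈ D₀ ⊔ C
    have hyR' : ∀ x ∈ R, y * x * y⁻¹ ∈ R := fun x hx =>
      (Subgroup.mem_normalizer_iff.1 hyR x).1 hx
    have hrel : ∀ x (hx : x ∈ R), g * (y * x * y⁻¹) * g⁻¹ = h * (g * x * g⁻¹) * h⁻¹ := by
      intro x hx
      have := hh ⟨x, hx⟩ (hyR' x hx)
      rw [hg, hg] at this
      exact this
    -- c := h⁻¹ * (g y g⁻¹) centralizes Q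
    have hcC : h⁻¹ * (g * y * g⁻¹) ∈ C := by
      rw [hC, Subgroup.mem_centralizer_iff]
      intro q hq
      rw [← hRgQ] at hq
      obtain ⟨x, hx, rfl⟩ := hq
      have := hrel x hx
      show g * x * g⁻¹ * (h⁻¹ * (g * y * g⁻¹)) = h⁻¹ * (g * y * g⁻¹) * (g * x * g⁻¹)
      have e1 : h⁻¹ * (g * y * g⁻¹) * (g * x * g⁻¹) =
          h⁻¹ * (g * (y * x * y⁻¹) * g⁻¹) * (g * y * g⁻¹) := by group
      rw [e1, this]
      group
    have hgyN : g * y * g⁻¹ ∈ Subgroup.normalizer (Q : Set G) := by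
      rw [← hRgQ]
      exact Subgroup.le_normalizer_map _ ⟨y, hyR, rfl⟩
    have hhN : h ∈ Subgroup.normalizer (Q : Set G) := by
      have e1 : h = g * y * g⁻¹ * (h⁻¹ * (g * y * g⁻¹))⁻¹ := by group
      rw [e1]
      refine Subgroup.mul_mem _ hgyN (Subgroup.inv_mem _ ?_)
      rw [hC] at hcC
      exact Subgroup.centralizer_le_normalizer _ hcC
    have e2 : g * y * g⁻¹ = h * (h⁻¹ * (g * y * g⁻¹)) := by group
    rw [e2]
    exact Subgroup.mul_mem _ (Subgroup.mem_sup_left (by rw [hD₀]; exact ⟨hhP, hhN⟩))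
      (Subgroup.mem_sup_right hcC)
  -- Step 4: the pairs
  obtain ⟨eN, hnormN, hleN⟩ := exists_isNormalSubpair_of_subpairLE hM hPe hfR hRN
    (hNP.trans inf_le_left) (hNP.trans inf_le_right)
  have hleN' : Relation.ReflTransGen (NormalSubpairRel p M) ⟨N, eN⟩ ⟨P, e⟩ := hleN
  obtain ⟨eD, hnormD, hleD⟩ := exists_isNormalSubpair_of_subpairLE hM hPe hle
    (show Q ≤ D₀ by rw [hD₀]; exact le_inf hQP Subgroup.le_normalizer)
    (show D₀ ≤ P by rw [hD₀]; exact inf_le_left)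
    (show D₀ ≤ Subgroup.normalizer (Q : Set G) by rw [hD₀]; exact inf_le_right)
  have hleD' : Relation.ReflTransGen (NormalSubpairRel p M) ⟨D₀, eD⟩ ⟨P, e⟩ := hleD
  have h1 : Relation.ReflTransGen (NormalSubpairRel p M) ⟨Q, f⟩ (pairConj g ⟨N, eN⟩) := by
    have := normalSubpairRel_pairConj g (show NormalSubpairRel p M ⟨R, fR⟩ ⟨N, eN⟩ from hnormN)
    rw [hpair] at this
    exact Relation.ReflTransGen.single this
  have h2 : Relation.ReflTransGen (NormalSubpairRel p M) ⟨Q, f⟩ ⟨D₀, eD⟩ :=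
    Relation.ReflTransGen.single hnormD
  have hXT : D₀ ⊔ C ≤ T := by
    apply sup_le
    · rw [hD₀]; exact hRT
    · rw [hC]; exact hCT
  -- Step 5: local conjugacy
  have hmaxX : ∀ b₃ : BrauerPairIdx G, IsBrauerPair p M b₃.1 b₃.2 →
      Relation.ReflTransGen (NormalSubpairRel p M) ⟨D₀, eD⟩ b₃ → b₃.1 ≤ D₀ ⊔ C → b₃.1 = D₀ := by
    rintro ⟨R₃, g₃⟩ hb₃ hch hR₃X
    have hD₀R₃ : D₀ ≤ R₃ := subpairRel_le hch
    have hQR₃ : Q ≤ R₃ := (subpairRel_le h2).trans hD₀R₃
    have hR₃N : R₃ ≤ Subgroup.normalizer (Q : Set G) := (hR₃X.trans hXT).trans hTN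
    obtain ⟨-, Dst, hDst, hDle⟩ := exists_defectGroup_ge_normalizer hM hb₃ hQR₃
      (show SubpairLE p M Q f R₃ g₃ from h2.trans hch) T hT hF' hFe
    have hinf : R₃ ⊓ Subgroup.normalizer (Q : Set G) = R₃ := inf_eq_left.2 hR₃N
    rw [hinf] at hDle
    have hc1 : Nat.card (R₃.subgroupOf T) = Nat.card R₃ :=
      Nat.card_congr (Subgroup.subgroupOfEquivOfLe (hR₃X.trans hXT)).toEquiv
    have hc2 : Nat.card ((P ⊓ Subgroup.normalizer (Q : Set G)).subgroupOf T) =
        Nat.card (P ⊓ Subgroup.normalizer (Q : Set G) : Subgroup G) :=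
      Nat.card_congr (Subgroup.subgroupOfEquivOfLe hRT).toEquiv
    have hc3 := Subgroup.card_le_of_le hDle
    rw [card_of_isDefectGroup hM hF' hDst, ← card_of_isDefectGroup hM hF' hD, hc1, hc2,
      ← hD₀] at hc3
    exact (Subgroup.eq_of_le_of_card_ge hD₀R₃ hc3).symm
  obtain ⟨x, hxX, hx⟩ := local_conj hM (D₀ ⊔ C) (b₀ := ⟨Q, f⟩) (b₁ := pairConj g ⟨N, eN⟩)
    (b₂ := ⟨D₀, eD⟩) hQf (isBrauerPair_conj g hnormN.2.1) hnormD.2.1
    ((show Q ≤ D₀ by rw [hD₀]; exact le_inf hQP Subgroup.le_normalizer).trans le_sup_left)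
    (by rw [hC]; exact le_sup_right) h1 h2 hNgX le_sup_left hmaxX
  -- Step 6: adjust by an element of `D₀`
  obtain ⟨d, hd, c, hc, rfl⟩ := exists_mul_of_mem_sup_of_le_normalizer hD₀C hxX
  rw [pairConj_mul] at hx
  have hx2 := subpairRel_pairConj d⁻¹ hx
  rw [← pairConj_mul, inv_mul_cancel, pairConj_one,
    pairConj_eq_self_of_mem D₀ eD (D₀.inv_mem hd), ← pairConj_mul] at hx2
  have hx3 : Relation.ReflTransGen (NormalSubpairRel p M) (pairConj (c * g) ⟨N, eN⟩) ⟨P, e⟩ :=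
    hx2.trans hleD'
  -- Step 7: the extension
  refine ⟨conjHom _ (c * g), ?_, ?_⟩
  · rw [hF.2, ← hN]
    exact ⟨hNP.trans inf_le_left, c * g, fun u => rfl, subpairRel_le hx3, eN, hleN, hx3⟩
  · intro y hyR hyN
    show c * g * y * (c * g)⁻¹ = φ ⟨y, hyR⟩
    rw [hg]
    have hcq := Subgroup.mem_centralizer_iff.1 (show c ∈ Subgroup.centralizer (Q : Set G) by
      rw [← hC]; exact hc) (g * y * g⁻¹) (hgQ y hyR)
    show c * g * y * (c * g)⁻¹ = g * y * g⁻¹
    calc c * g * y * (c * g)⁻¹ = c * (g * y * g⁻¹) * c⁻¹ := by group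
      _ = (g * y * g⁻¹) * c * c⁻¹ := by rw [hcq]
      _ = g * y * g⁻¹ := by group

end

section

variable {G : Type u} [Group G] [Fintype G] {M : Ideal AlgInt} {p : ℕ} [Fact p.Prime]

/-- **The fusion system of a block is saturated** (Alperin–Broué). -/
theorem isSaturated_of_isBlockFusionSystemOn (hM : IsPModular p M) {B : Set (IrrCharacter G)}
    {P : Subgroup G} {e : Set (IrrCharacter (Subgroup.centralizer (P : Set G)))}
    (hmax : IsMaximalBrauerPair p M B P e) {F : FusionSystem P}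
    (hF : IsBlockFusionSystemOn p M B P e F) : F.IsSaturated p := by
  classical
  have hPe : IsBrauerPair p M P e := hmax.1.1
  intro Q hQP
  obtain ⟨f, hQf, hle⟩ := exists_subpairLE hM _ P Q e hPe hQP le_rfl
  obtain ⟨-, x, hlex, hx⟩ := normalizer_defectGroup_of_subpairLE hM hmax hQP hQf.2 hle
    (pairStab (Subgroup.normalizer (Q : Set G)) (Subgroup.centralizer (Q : Set G)) f)
    (fun y => mem_pairStab _ _ f y)
  obtain ⟨F', hF', hFe, hD⟩ := hx
    (pairStab (Subgroup.normalizer ((Q.map (MulAut.conj x).toMonoidHom : Subgroup G) : Set G))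
      (Subgroup.centralizer ((Q.map (MulAut.conj x).toMonoidHom : Subgroup G) : Set G))
      (conjBlock Q x f))
    (fun y => mem_pairStab _ _ _ y)
  have hQ'P : Q.map (MulAut.conj x).toMonoidHom ≤ P := subpairLE_le hlex
  exact ⟨Q.map (MulAut.conj x).toMonoidHom, isConj_of_subpairLE hF hle hlex,
    isFullyAutomized_of_defectGroup hM hmax hF hQ'P hlex _ (fun y => mem_pairStab _ _ _ y)
      hF' hFe hD,
    isReceptive_of_defectGroup hM hmax hF hQ'P hlex _ (fun y => mem_pairStab _ _ _ y)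
      hF' hFe hD⟩

end

end Cfsg.Agent.Lib.Helper8
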