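import Mathlib
import Cfsg.Prelude.Def_Blocks
import Cfsg.Prelude.Def_BrauerPairs
import Cfsg.Prelude.Def_BlockFusion
import Cfsg.Agent.Lib.Helper8.FS3
import Cfsg.Agent.Lib.Helper8.BP3

/-!
# Blocks with abelian defect groups: stabilizers of subpairs
-/

set_option autoImplicit false
set_option linter.unusedSectionVars false

namespace Cfsg.Agent.Lib.Helper8

open Cfsg
open scoped ComplexConjugate
open Cfsg.Agent.Lib.Helper1 Cfsg.Agent.Lib.Helper4

universe u

section

variable {G : Type u} [Group G]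

/-- `[T ⊔ R : R] = [T : T ⊓ R]` when `T` normalizes `R`. -/
theorem relIndex_sup_of_le_normalizer' (R T : Subgroup G)
    (h : T ≤ Subgroup.normalizer (R : Set G)) : R.relIndex (T ⊔ R) = R.relIndex T := by
  obtain ⟨X, hX⟩ : ∃ X, X = T ⊔ R := ⟨_, rfl⟩
  rw [← hX]
  have hTX : T ≤ X := hX ▸ le_sup_left
  have hRX : R ≤ X := hX ▸ le_sup_right
  have hXn : X ≤ Subgroup.normalizer (R : Set G) := hX ▸ sup_le h Subgroup.le_normalizer
  have : (R.subgroupOf X).Normal := (Subgroup.normal_subgroupOf_iff_le_normalizer hRX).mpr hXn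
  have h1 : (R.subgroupOf X).relIndex (T.subgroupOf X ⊔ R.subgroupOf X)
      = (R.subgroupOf X).relIndex (T.subgroupOf X) := Subgroup.relIndex_sup_right _ _
  have h2 : T.subgroupOf X ⊔ R.subgroupOf X = ⊤ := by
    rw [← Subgroup.subgroupOf_sup hTX hRX, ← hX, Subgroup.subgroupOf_self]
  rw [h2, Subgroup.relIndex_top_right] at h1
  have h3 : (R.subgroupOf X).relIndex (T.subgroupOf X) = R.relIndex T :=
    Subgroup.relIndex_subgroupOf hTX
  rw [h3] at h1
  exact h1

end

section

variable {G : Type u} [Group G] [Fintype G] {M : Ideal AlgInt} {p : ℕ} [Fact p.Prime]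

/-- **Abelian defect groups**: the stabilizer of a subpair `(Q, f) ≤ (P, e)` is covered by the
stabilizer of `(P, e)` and `C_G(Q)`. -/
theorem abelian_stab_factor (hM : IsPModular p M) {B : Set (IrrCharacter G)}
    {P : Subgroup G} {e : Set (IrrCharacter (Subgroup.centralizer (P : Set G)))}
    (hmax : IsMaximalBrauerPair p M B P e) (hab : ∀ x ∈ P, ∀ y ∈ P, x * y = y * x)
    {Q : Subgroup G} {f : Set (IrrCharacter (Subgroup.centralizer (Q : Set G)))} (hQP : Q ≤ P)
    (hle : SubpairLE p M Q f P e) {x : G} (hxN : x ∈ Subgroup.normalizer (Q : Set G))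
    (hxst : StabilizesBlock (Subgroup.centralizer (Q : Set G)) f x) :
    ∃ y : G, y ∈ Subgroup.normalizer (P : Set G) ∧
      StabilizesBlock (Subgroup.centralizer (P : Set G)) e y ∧
      ∃ c ∈ Subgroup.centralizer (Q : Set G), x = y * c := by
  classical
  have hPe : IsBrauerPair p M P e := hmax.1.1
  have hB : IsPBlock M B := hmax.1.2.1
  have hle' : Relation.ReflTransGen (NormalSubpairRel p M) ⟨Q, f⟩ ⟨P, e⟩ := hle
  have hQf : IsBrauerPair p M Q f := subpairRel_isBrauerPair hle' hPe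
  have hPX : P ≤ Subgroup.centralizer (Q : Set G) := by
    intro u hu
    rw [Subgroup.mem_centralizer_iff]
    intro q hq
    exact hab q (hQP hq) u hu
  have hQX : Q ≤ Subgroup.centralizer (Q : Set G) := hQP.trans hPX
  have hxC := normalizer_le_normalizer_centralizer Q hxN
  have hpQ : pairConj x ⟨Q, f⟩ = ⟨Q, f⟩ := by
    rw [pairConj_of_mem_normalizer x Q f hxN hxC]
    obtain ⟨_, himg⟩ := (stabilizesBlock_iff_image _ f x).1 hxst
    rw [himg]
  have h1 : Relation.ReflTransGen (NormalSubpairRel p M) ⟨Q, f⟩ (pairConj x ⟨P, e⟩) := by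
    have := subpairRel_pairConj x hle'
    rwa [hpQ] at this
  have hPxX : (pairConj x ⟨P, e⟩).1 ≤ Subgroup.centralizer (Q : Set G) := by
    rintro _ ⟨u, hu, rfl⟩
    exact (Subgroup.mem_normalizer_iff.1 hxC u).1 (hPX hu)
  have hmaxX : ∀ b₃ : BrauerPairIdx G, IsBrauerPair p M b₃.1 b₃.2 →
      Relation.ReflTransGen (NormalSubpairRel p M) ⟨P, e⟩ b₃ →
      b₃.1 ≤ Subgroup.centralizer (Q : Set G) → b₃.1 = P := by
    rintro ⟨R₃, g₃⟩ hb₃ hch -
    have hBR : IsBrauerPairOf p M B R₃ g₃ :=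
      (Cfsg.Agent.S4658.result p M hM R₃ P g₃ e hb₃ hPe hch B hB).2 hmax.1
    exact hmax.2 R₃ g₃ hBR hch
  obtain ⟨c, hcX, hc⟩ := local_conj hM (Subgroup.centralizer (Q : Set G)) (b₀ := ⟨Q, f⟩)
    (b₁ := pairConj x ⟨P, e⟩) (b₂ := ⟨P, e⟩) hQf (isBrauerPair_conj x hPe) hPe hQX le_rfl h1 hle'
    hPxX hPX hmaxX
  rw [← pairConj_mul] at hc
  have hle1 : P.map (MulAut.conj (c * x)).toMonoidHom ≤ P := subpairRel_le hc
  have heq : P.map (MulAut.conj (c * x)).toMonoidHom = P :=
    Subgroup.eq_of_le_of_card_ge hle1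
      (by rw [Subgroup.card_map_of_injective (MulAut.conj (c * x)).injective])
  have hyN : c * x ∈ Subgroup.normalizer (P : Set G) :=
    Subgroup.mem_normalizer_iff_map_conj_eq.2 heq
  have hyst := (subpairLE_conj_iff_stabilizes hM hPe
    (show SubpairLE p M P e P e from Relation.ReflTransGen.refl) hyN).1 hc
  have hyQ : c * x ∈ Subgroup.normalizer (Q : Set G) :=
    Subgroup.mul_mem _ (Subgroup.centralizer_le_normalizer _ hcX) hxN
  have hyC := normalizer_le_normalizer_centralizer Q hyQ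
  refine ⟨c * x, hyN, hyst, (c * x)⁻¹ * c⁻¹ * (c * x), ?_, by group⟩
  have := (Subgroup.mem_normalizer_iff.1 (Subgroup.inv_mem _ hyC) c⁻¹).1 (Subgroup.inv_mem _ hcX)
  simpa using this

end

end Cfsg.Agent.Lib.Helper8
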