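import Mathlib
import Cfsg.Prelude.Def_BlockFusion
import Cfsg.Agent.Lib.Helper8.FS4
import Cfsg.Agent.Lib.Helper6.PRes
import Cfsg.Agent.Lib.Helper9.FusionAG1
import Cfsg.Agent.Lib.Helper9.FusionSat2
import Cfsg.Agent.Lib.Helper9.FusionAut2
import Cfsg.Agent.Lib.Helper9.FusionInner
import Cfsg.Agent.Lib.Helper9.FusionAut

set_option autoImplicit false

namespace Cfsg.Agent.Lib.Helper8

open Cfsg Cfsg.Agent.Lib.Helper1 Cfsg.Agent.Lib.Helper4

universe u

section

variable {G : Type u} [Group G]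

/-- Conjugates of normalizing elements normalize the conjugate subgroup. -/
theorem conj_mem_normalizer_map_conj (Q : Subgroup G) (z : G) {x : G}
    (hx : x ∈ Subgroup.normalizer (Q : Set G)) :
    z * x * z⁻¹ ∈ Subgroup.normalizer ((Q.map (MulAut.conj z).toMonoidHom : Subgroup G) : Set G) := by
  rw [Subgroup.mem_normalizer_iff_map_conj_eq]
  have h := Subgroup.mem_normalizer_iff_map_conj_eq.1 hx
  ext y
  constructor
  · rintro ⟨_, ⟨q, hq, rfl⟩, rfl⟩
    refine ⟨x * q * x⁻¹, ?_, ?_⟩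
    · rw [← h]
      exact ⟨q, hq, rfl⟩
    · simp [mul_assoc]
  · rintro ⟨q, hq, rfl⟩
    rw [← h] at hq
    obtain ⟨q', hq', rfl⟩ := hq
    refine ⟨z * q' * z⁻¹, ⟨q', hq', rfl⟩, ?_⟩
    simp [mul_assoc]

/-- An element of `N_G(Q)` of order prime to `p` inducing on `Q` the same automorphism as a `p`-element
centralizes `Q`. -/
theorem mem_centralizer_of_pRegular_of_eq_conj (p : ℕ) [Fact p.Prime] (Q : Subgroup G) {x u : G}
    (hx : x ∈ Subgroup.normalizer (Q : Set G)) (hreg : ¬ p ∣ orderOf x) {k : ℕ}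
    (hu : u ^ (p ^ k) = 1) (h : ∀ y : Q, x * (y : G) * x⁻¹ = u * (y : G) * u⁻¹) :
    x ∈ Subgroup.centralizer (Q : Set G) := by
  set κ := conjAutHom Q (Subgroup.normalizer (Q : Set G)) le_rfl with hκ
  set α := κ ⟨x, hx⟩ with hα
  have hαu : ∀ y : Q, ((α y : Q) : G) = u * (y : G) * u⁻¹ := by
    intro y
    rw [hα, hκ, conjAutHom_apply_coe]
    exact h y
  have huN : u ∈ Subgroup.normalizer (Q : Set G) := mem_normalizer_of_aut Q α hαu
  have hαu' : α = κ ⟨u, huN⟩ := by
    ext y
    rw [hαu, hκ, conjAutHom_apply_coe]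
  have h1 : α ^ (p ^ k) = 1 := by
    rw [hαu', ← map_pow]
    have : (⟨u, huN⟩ : Subgroup.normalizer (Q : Set G)) ^ (p ^ k) = 1 := by
      apply Subtype.ext
      simpa using hu
    rw [this, map_one]
  have h2 : α ^ (orderOf x) = 1 := by
    rw [hα, ← map_pow]
    have : (⟨x, hx⟩ : Subgroup.normalizer (Q : Set G)) ^ (orderOf x) = 1 := by
      apply Subtype.ext
      simp [pow_orderOf_eq_one]
    rw [this, map_one]
  have h3 : orderOf α ∣ p ^ k := orderOf_dvd_of_pow_eq_one h1
  have h4 : orderOf α ∣ orderOf x := orderOf_dvd_of_pow_eq_one h2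
  have hcop : Nat.Coprime (orderOf x) (p ^ k) :=
    Nat.Coprime.pow_right k ((Nat.Prime.coprime_iff_not_dvd Fact.out).2 hreg).symm
  have h5 : orderOf α = 1 := Nat.eq_one_of_dvd_coprimes hcop h4 h3
  have h6 : α = 1 := orderOf_eq_one_iff.1 h5
  rw [Subgroup.mem_centralizer_iff]
  intro y hy
  have := congrArg (fun β : MulAut Q => ((β ⟨y, hy⟩ : Q) : G)) h6
  simp only [MulAut.one_apply] at this
  rw [hα, hκ, conjAutHom_apply_coe] at this
  simp only at this
  calc y * x = (x * y * x⁻¹) * x := by rw [this]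
    _ = x * y := by group

end

section

variable {G : Type u} [Group G] [Fintype G] {M : Ideal AlgInt} {p : ℕ} [Fact p.Prime]

/-- If every map of the block fusion system is conjugation by an element of the defect group,
the block is nilpotent. -/
theorem nilpotent_of_inner (hM : IsPModular p M) {B : Set (IrrCharacter G)}
    {P : Subgroup G} {e : Set (IrrCharacter (Subgroup.centralizer (P : Set G)))}
    (hmax : IsMaximalBrauerPair p M B P e) {F : FusionSystem P}
    (hF : IsBlockFusionSystemOn p M B P e F)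
    (h : ∀ Q : Subgroup G, F.Hom Q ⊆ (innerFusionSystem P).Hom Q) : IsNilpotentBlock p M B := by
  refine ⟨hmax.1.2.1, ?_⟩
  intro Q f' hQf x hxN hxst hxreg
  obtain ⟨z, hz⟩ := exists_conj_subpairLE hM hmax hQf
  have hPe := hmax.1.1
  have hQ₁P := subpairLE_le hz
  have hx₁st := stabilizesBlock_conj z hxst
  have hx₁N := conj_mem_normalizer_map_conj Q z hxN
  have hmem : conjHom (Q.map (MulAut.conj z).toMonoidHom) (z * x * z⁻¹) ∈
      F.Hom (Q.map (MulAut.conj z).toMonoidHom) := by
    rw [hF.2]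
    refine ⟨hQ₁P, z * x * z⁻¹, fun u => rfl, ?_, _, hz,
      (subpairLE_conj_iff_stabilizes hM hPe hz hx₁N).2 hx₁st⟩
    have := Subgroup.mem_normalizer_iff_map_conj_eq.1 hx₁N
    exact this.le.trans hQ₁P
  obtain ⟨-, u, huP, hu⟩ := h _ hmem
  obtain ⟨k, hk⟩ := (hPe.1) ⟨u, huP⟩
  have hk' : u ^ (p ^ k) = 1 := by
    have := congrArg Subtype.val hk
    simpa using this
  have hreg' : ¬ p ∣ orderOf (z * x * z⁻¹) := by
    have : orderOf (z * x * z⁻¹) = orderOf x := by
      have := orderOf_injective (MulAut.conj z).toMonoidHom (MulAut.conj z).injective x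
      simpa using this
    rw [this]
    exact hxreg
  have hc := mem_centralizer_of_pRegular_of_eq_conj p _ hx₁N hreg' hk' (fun y => hu y)
  rw [mem_centralizer_map_conj] at hc
  have : z⁻¹ * (z * x * z⁻¹) * z = x := by group
  rwa [this] at hc

/-- The automorphism group of `Q` in the block fusion system is the image of the stabilizer of the
subpair on `Q`. -/
theorem autGroup_blockFusion_eq_range (hM : IsPModular p M) {B : Set (IrrCharacter G)}
    {P : Subgroup G} {e : Set (IrrCharacter (Subgroup.centralizer (P : Set G)))}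
    (hPe : IsBrauerPair p M P e) {F : FusionSystem P}
    (hF : IsBlockFusionSystemOn p M B P e F) {Q : Subgroup G}
    {f : Set (IrrCharacter (Subgroup.centralizer (Q : Set G)))} (hQP : Q ≤ P)
    (hle : SubpairLE p M Q f P e) (T : Subgroup G)
    (hT : ∀ y : G, y ∈ T ↔ y ∈ Subgroup.normalizer (Q : Set G) ∧
      StabilizesBlock (Subgroup.centralizer (Q : Set G)) f y)
    (hTN : T ≤ Subgroup.normalizer (Q : Set G)) :
    F.autGroup Q = (conjAutHom Q T hTN).range := by
  have hle' : Relation.ReflTransGen (NormalSubpairRel p M) ⟨Q, f⟩ ⟨P, e⟩ := hle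
  have hTst : ∀ x ∈ T, StabilizesBlock (Subgroup.centralizer (Q : Set G)) f x :=
    fun x hx => ((hT x).1 hx).2
  unfold FusionSystem.autGroup
  have hset : {α : MulAut Q | Q.subtype.comp α.toMonoidHom ∈ F.Hom Q} =
      ((conjAutHom Q T hTN).range : Set (MulAut Q)) := by
    ext α
    simp only [Set.mem_ofPred_eq, SetLike.mem_coe, MonoidHom.mem_range]
    rw [hF.2]
    constructor
    · rintro ⟨-, g, hg, -, f₁, hf₁, hf₁g⟩
      have hgα : ∀ u : Q, ((α u : Q) : G) = g * (u : G) * g⁻¹ := fun u => hg u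
      have hgN := mem_normalizer_of_aut Q α hgα
      have hff : f₁ = f := subpairLE_unique hM _ ⟨P, e⟩ hPe le_rfl Q f₁ f hf₁ hle'
      subst hff
      have hst := (subpairLE_conj_iff_stabilizes hM hPe hle hgN).1 hf₁g
      refine ⟨⟨g, (hT g).2 ⟨hgN, hst⟩⟩, ?_⟩
      ext u
      rw [conjAutHom_apply_coe, hgα]
    · rintro ⟨t, rfl⟩
      have htN := hTN t.2
      refine ⟨hQP, (t : G), fun u => rfl, ?_, f, hle,
        (subpairLE_conj_iff_stabilizes hM hPe hle htN).2 (hTst _ t.2)⟩
      have := Subgroup.mem_normalizer_iff_map_conj_eq.1 htN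
      exact this.le.trans hQP
  rw [hset, Subgroup.closure_eq]

/-- In a nilpotent block, the automorphism groups of the block fusion system are `p`-groups. -/
theorem isPGroup_autGroup_of_nilpotent (hM : IsPModular p M) {B : Set (IrrCharacter G)}
    {P : Subgroup G} {e : Set (IrrCharacter (Subgroup.centralizer (P : Set G)))}
    (hmax : IsMaximalBrauerPair p M B P e) {F : FusionSystem P}
    (hF : IsBlockFusionSystemOn p M B P e F) (hnil : IsNilpotentBlock p M B)
    {Q : Subgroup G} (hQP : Q ≤ P) : IsPGroup p (F.autGroup Q) := by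
  have hPe := hmax.1.1
  obtain ⟨f, hQf, hle⟩ := exists_subpairLE hM _ P Q e hPe hQP le_rfl
  have hQfB : IsBrauerPairOf p M B Q f :=
    (Cfsg.Agent.S4658.result p M hM P Q e f hPe hQf hle B hmax.1.2.1).1 hmax.1
  set T := pairStab (Subgroup.normalizer (Q : Set G)) (Subgroup.centralizer (Q : Set G)) f with hTdef
  have hT : ∀ y : G, y ∈ T ↔ y ∈ Subgroup.normalizer (Q : Set G) ∧
      StabilizesBlock (Subgroup.centralizer (Q : Set G)) f y := fun y => Iff.rfl
  have hTN : T ≤ Subgroup.normalizer (Q : Set G) := fun x hx => ((hT x).1 hx).1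
  have hA := autGroup_blockFusion_eq_range hM hPe hF hQP hle T hT hTN
  rw [hA]
  rintro ⟨α, t, rfl⟩
  obtain ⟨u, v, hu, hv, huv, ⟨k, hk⟩, hcop⟩ := Cfsg.Agent.Lib.Helper6.exists_pPart_decomp_zpowers p (t : G)
  have hzT : Subgroup.zpowers (t : G) ≤ T := Subgroup.zpowers_le.2 t.2
  have huT : u ∈ T := hzT hu
  have hvT : v ∈ T := hzT hv
  have hvC : v ∈ Subgroup.centralizer (Q : Set G) :=
    hnil.2 Q f hQfB v (hTN hvT) ((hT v).1 hvT).2
      ((Nat.Prime.coprime_iff_not_dvd Fact.out).1 hcop.symm)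
  have hvker := mem_ker_conjAutHom Q T hTN (t := ⟨v, hvT⟩) hvC
  have ht : t = ⟨u, huT⟩ * ⟨v, hvT⟩ := Subtype.ext huv
  refine ⟨k, ?_⟩
  apply Subtype.ext
  show (conjAutHom Q T hTN t) ^ (p ^ k) = 1
  rw [ht, map_mul, MonoidHom.mem_ker.1 hvker, mul_one, ← map_pow]
  have : (⟨u, huT⟩ : T) ^ (p ^ k) = 1 := by
    apply Subtype.ext
    simpa using hk
  rw [this, map_one]

/-- In a nilpotent block, every map of the block fusion system is conjugation by an element of
the defect group. -/
theorem inner_of_nilpotent (hM : IsPModular p M) {B : Set (IrrCharacter G)}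
    {P : Subgroup G} {e : Set (IrrCharacter (Subgroup.centralizer (P : Set G)))}
    (hmax : IsMaximalBrauerPair p M B P e) {F : FusionSystem P}
    (hF : IsBlockFusionSystemOn p M B P e F) (hnil : IsNilpotentBlock p M B)
    (Q : Subgroup G) : F.Hom Q ⊆ (innerFusionSystem P).Hom Q := by
  have hS : IsPGroup p P := hmax.1.1.1
  have hFsat := isSaturated_of_isBlockFusionSystemOn hM hmax hF
  intro φ hφ
  refine Cfsg.Agent.Lib.Helper9.fs_le_of_autGroup_le p hS F (innerFusionSystem P) hFsat ?_ _ Q φ hφ rfl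
  intro R hRn _
  have hRP : R ≤ P := hRn.1
  have hRa := (Cfsg.Agent.Lib.Helper9.fs_sylow_axiom p hS F hFsat hRn).2
  have hpg := isPGroup_autGroup_of_nilpotent hM hmax hF hnil hRP
  have h1 := Cfsg.Agent.Lib.Helper9.fs_autGroup_le_autInducedBy_of_isPGroup p F hRa hpg
  refine h1.trans ?_
  intro α hα
  rw [Cfsg.Agent.Lib.Helper9.mem_autInducedBy_iff] at hα
  obtain ⟨g, hgP, hg⟩ := hα
  rw [Cfsg.Agent.Lib.Helper9.mem_autGroup_iff _ hRP]
  exact ⟨hRP, g, hgP, fun x => hg x⟩

end

end Cfsg.Agent.Lib.Helper8
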