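import Mathlib
import Cfsg.Prelude.Def_Blocks
import Cfsg.Prelude.Def_BrauerPairs
import Cfsg.Prelude.Def_BlockFusion
import Cfsg.Agent.Lib.Helper8.CT2
import Cfsg.Agent.Lib.Helper8.FS5
import Cfsg.Agent.S4678

/-!
# Nilpotent blocks: the defect groups of the local blocks
-/

set_option autoImplicit false
set_option linter.unusedSectionVars false

namespace Cfsg.Agent.Lib.Helper8

open Cfsg
open scoped ComplexConjugate
open Cfsg.Agent.Lib.Helper1 Cfsg.Agent.Lib.Helper4

universe u

section

variable {G : Type u} [Group G] [Fintype G] {M : Ideal AlgInt} {p : ℕ} [Fact p.Prime]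

/-- In the inner fusion system every subgroup is fully centralized. -/
theorem isFullyCentralized_of_inner {P : Subgroup G} (F : FusionSystem P)
    (h : ∀ Q : Subgroup G, F.Hom Q ⊆ (innerFusionSystem P).Hom Q) {Q : Subgroup G} (hQP : Q ≤ P) :
    F.IsFullyCentralized Q := by
  refine ⟨hQP, ?_⟩
  rintro Q' ⟨φ, hφ, rfl⟩
  obtain ⟨-, u, huP, hu⟩ := h Q hφ
  have hrange : φ.range = Q.map (MulAut.conj u).toMonoidHom := by
    ext y
    constructor
    · rintro ⟨x, rfl⟩
      exact ⟨(x : G), x.2, (hu x).symm⟩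
    · rintro ⟨q, hq, rfl⟩
      exact ⟨⟨q, hq⟩, hu ⟨q, hq⟩⟩
  rw [hrange]
  have hsub : (FusionSystem.centralizerIn P (Q.map (MulAut.conj u).toMonoidHom)).map
      (MulAut.conj u⁻¹).toMonoidHom ≤ FusionSystem.centralizerIn P Q := by
    rintro _ ⟨y, ⟨hyP, hyC⟩, rfl⟩
    refine ⟨?_, ?_⟩
    · show u⁻¹ * y * u⁻¹⁻¹ ∈ P
      exact P.mul_mem (P.mul_mem (P.inv_mem huP) hyP) (P.inv_mem (P.inv_mem huP))
    · have := (mem_centralizer_map_conj Q u y).1 hyC
      show u⁻¹ * y * u⁻¹⁻¹ ∈ _
      rwa [inv_inv]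
  calc Nat.card (FusionSystem.centralizerIn P (Q.map (MulAut.conj u).toMonoidHom))
      = Nat.card ((FusionSystem.centralizerIn P (Q.map (MulAut.conj u).toMonoidHom)).map
          (MulAut.conj u⁻¹).toMonoidHom) :=
        (Subgroup.card_map_of_injective (MulAut.conj u⁻¹).injective).symm
    _ ≤ _ := Subgroup.card_le_of_le hsub

/-- **S4688, second part**: in a nilpotent block, `C_P(Q)` is a defect group of `f` for
`(Q, f) ≤ (P, e)`. -/
theorem nilpotent_centralizer_defect (hM : IsPModular p M) {B : Set (IrrCharacter G)}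
    {P : Subgroup G} {e : Set (IrrCharacter (Subgroup.centralizer (P : Set G)))}
    (hmax : IsMaximalBrauerPair p M B P e) (hnil : IsNilpotentBlock p M B) {Q : Subgroup G}
    {f : Set (IrrCharacter (Subgroup.centralizer (Q : Set G)))} (hf : IsPBlock M f)
    (hle : SubpairLE p M Q f P e) :
    IsDefectGroup p M f
      ((P ⊓ Subgroup.centralizer (Q : Set G)).subgroupOf (Subgroup.centralizer (Q : Set G))) := by
  have hQP := subpairLE_le hle
  have hF := isBlockFusionSystemOn_blockFusionSystem hM hmax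
  have hin := inner_of_nilpotent hM hmax hF hnil
  exact (Cfsg.Agent.S4678.result p M hM B P e hmax _ hF Q f hQP hf hle).1
    (isFullyCentralized_of_inner _ hin hQP)

end

end Cfsg.Agent.Lib.Helper8
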