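import Mathlib
import Cfsg.Prelude.Def_Blocks
import Cfsg.Prelude.Def_BrauerPairs
import Cfsg.Agent.Lib.Helper8.CT3
import Cfsg.Agent.Lib.Helper8.FS5
import Cfsg.Agent.Lib.Helper8.DC1
import Cfsg.Agent.Lib.Helper8.REL8

/-!
# Abelian defect groups: free action of the inertial quotient and local nilpotent blocks
-/

set_option autoImplicit false
set_option linter.unusedSectionVars false

namespace Cfsg.Agent.Lib.Helper8.AF

open Cfsg
open scoped ComplexConjugate
open Cfsg.Agent.Lib.Helper1 Cfsg.Agent.Lib.Helper4 Cfsg.Agent.Lib.Helper8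

universe u

section

variable {G : Type u} [Group G] [Fintype G] {M : Ideal AlgInt} {p : ℕ} [Fact p.Prime]

/-- A block of `C_G(P)` inducing `B` gives a Brauer pair of `B` (for `P ≤ C_G(P)`). -/
theorem pair_of_induced (hM : IsPModular p M) (P : Subgroup G) (hP : IsPGroup p P)
    (hPC : P ≤ Subgroup.centralizer (P : Set G)) {B : Set (IrrCharacter G)}
    {c : Set (IrrCharacter (Subgroup.centralizer (P : Set G)))}
    (hc : IsInducedBlock M (Subgroup.centralizer (P : Set G)) c B) :
    IsBrauerPairOf p M B P c := by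
  classical
  have hMp := isPModular_isPrime hM
  obtain ⟨B₁, hB₁, -⟩ := existsUnique_isBrauerPairOf hM P c ⟨hP, hc.1⟩
  have h1 := isInducedBlock_of_isBrauerPairOf hM P hPC hB₁
  have : B₁ = B := isInducedBlock_unique hMp _ h1 hc
  rw [← this]
  exact hB₁

/-- A Brauer pair of `B` on a defect group is maximal. -/
theorem maxPair_of_defect (hM : IsPModular p M) {B : Set (IrrCharacter G)} {P : Subgroup G}
    (hPD : IsDefectGroup p M B P)
    {c : Set (IrrCharacter (Subgroup.centralizer (P : Set G)))}
    (hpair : IsBrauerPairOf p M B P c) : IsMaximalBrauerPair p M B P c := by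
  classical
  have hB : IsPBlock M B := hpair.2.1
  refine ⟨hpair, fun R g hRg hle => ?_⟩
  obtain ⟨P₂, e₂, hmax₂, hle₂⟩ := exists_isMaximalBrauerPair_ge B _ R g hRg le_rfl
  have h1 : P ≤ R := subpairLE_le hle
  have h2 : R ≤ P₂ := subpairLE_le hle₂
  have hP₂D := isDefectGroup_of_isMaximalBrauerPair hM hmax₂
  have hcard : Nat.card P₂ = Nat.card P := by
    rw [card_of_isDefectGroup hM hB hPD, card_of_isDefectGroup hM hB hP₂D]
  have h3 : Nat.card R ≤ Nat.card P := by
    rw [← hcard]
    exact Subgroup.card_le_of_le h2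
  exact (Subgroup.eq_of_le_of_card_ge h1 h3).symm

end

section

variable {G : Type u} [Group G] [Fintype G] {M : Ideal AlgInt} {p : ℕ} [Fact p.Prime]

/-- If the block `c` of `C_G(P) ≤ X` induces the block `f` of `X` inside `X`, the Brauer functional
of any `ξ ∈ c` takes the value `1` (modulo the ideal) at the idempotent of `f`. -/
theorem brauerOmega_of_inducedIn (hM : IsPModular p M) (P X : Subgroup G)
    (hKX : Subgroup.centralizer (P : Set G) ≤ X)
    {c : Set (IrrCharacter (Subgroup.centralizer (P : Set G)))} {f : Set (IrrCharacter X)}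
    (h : IsInducedBlockIn M X (Subgroup.centralizer (P : Set G)) c f)
    {ξ : IrrCharacter (Subgroup.centralizer (P : Set G))} (hξ : ξ ∈ c) :
    MemLocalIdeal M (brauerOmega P (subgroupBlockCoeff X f)
      (ξ : Subgroup.centralizer (P : Set G) → ℂ) - 1) := by
  classical
  have hMp := isPModular_isPrime hM
  have : Fintype X := Fintype.ofFinite _
  have : Fintype (Subgroup.centralizer (P : Set G)) := Fintype.ofFinite _
  have : Fintype ((Subgroup.centralizer (P : Set G)).subgroupOf X) := Fintype.ofFinite _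
  have h' := (isInducedBlockIn_iff X _ hKX c f).1 h
  obtain ⟨χ, hχ⟩ := isPBlock_nonempty hMp h.2.1
  obtain ⟨hcf, hS, hω⟩ := blockCoeff_spec hMp h.2.1
  have b := omega_restrict_cong_of_induced hMp ((Subgroup.centralizer (P : Set G)).subgroupOf X) h'
    (mem_trB X _ hKX hξ) hχ hcf hS
  rw [hω χ, if_pos hχ] at b
  have e1 : omega (irrMap (Subgroup.subgroupOfEquivOfLe hKX).symm ξ :
      (Subgroup.centralizer (P : Set G)).subgroupOf X → ℂ)
      (fun k' : (Subgroup.centralizer (P : Set G)).subgroupOf X => blockCoeff f (k' : X)) =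
      omega (ξ : Subgroup.centralizer (P : Set G) → ℂ)
        (fun k : Subgroup.centralizer (P : Set G) => subgroupBlockCoeff X f (k : G)) := by
    rw [← omega_comp_mulEquiv (Subgroup.subgroupOfEquivOfLe hKX)
      (ξ : Subgroup.centralizer (P : Set G) → ℂ)
      (fun k : Subgroup.centralizer (P : Set G) => subgroupBlockCoeff X f (k : G))]
    congr 1
    funext k'
    rw [subgroupBlockCoeff_of_mem X f (show (((Subgroup.subgroupOfEquivOfLe hKX) k' :
      Subgroup.centralizer (P : Set G)) : G) ∈ X from k'.1.2)]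
    rfl
  rw [e1] at b
  rw [brauerOmega_eq_omega]
  exact b

end

section

variable {G : Type u} [Group G]

theorem centralizer_subgroupOf_map (P X : Subgroup G) (hPX : P ≤ X)
    (hKX : Subgroup.centralizer (P : Set G) ≤ X) :
    (Subgroup.centralizer ((P.subgroupOf X : Subgroup X) : Set X)).map X.subtype =
      Subgroup.centralizer (P : Set G) := by
  ext y
  constructor
  · rintro ⟨c, hc, rfl⟩
    rw [Subgroup.mem_centralizer_iff]
    intro u hu
    have := Subgroup.mem_centralizer_iff.1 hc ⟨u, hPX hu⟩ (Subgroup.mem_subgroupOf.2 hu)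
    exact congrArg Subtype.val this
  · intro hy
    refine ⟨⟨y, hKX hy⟩, Subgroup.mem_centralizer_iff.2 ?_, rfl⟩
    intro u hu
    apply Subtype.ext
    exact Subgroup.mem_centralizer_iff.1 hy (u : G) (Subgroup.mem_subgroupOf.1 hu)

end

section

variable {G : Type u} [Group G] [Fintype G] {M : Ideal AlgInt} {p : ℕ} [Fact p.Prime]

/-- The pair `(P, c)` read inside `X ≥ C_G(P)` is a Brauer pair of the block induced by `c`
inside `X`. -/
theorem local_pair (hM : IsPModular p M) (P X : Subgroup G) (hP : IsPGroup p P) (hPX : P ≤ X)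
    (hKX : Subgroup.centralizer (P : Set G) ≤ X)
    {c : Set (IrrCharacter (Subgroup.centralizer (P : Set G)))} {f : Set (IrrCharacter X)}
    (h : IsInducedBlockIn M X (Subgroup.centralizer (P : Set G)) c f) :
    IsBrauerPairOf p M f (P.subgroupOf X)
      (irrMap (centIso X (P.subgroupOf X) P (centralizer_subgroupOf_map P X hPX hKX)).symm '' c) := by
  classical
  have hMp := isPModular_isPrime hM
  have : Fintype X := Fintype.ofFinite _
  refine ⟨⟨hP.comap_subtype, isPBlock_image_irrMap _ h.1⟩, h.2.1, ?_⟩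
  rintro _ ⟨ξ, hξ, rfl⟩
  have h1 := brauerOmega_of_inducedIn hM P X hKX h hξ
  have h2 := brauerOmega_centIso X (P.subgroupOf X) P (centralizer_subgroupOf_map P X hPX hKX)
    (subgroupBlockCoeff X f)
    (irrMap (centIso X (P.subgroupOf X) P (centralizer_subgroupOf_map P X hPX hKX)).symm ξ)
  rw [irrMap_irrMap_symm] at h2
  rw [h2] at h1
  convert h1 using 3
  funext x
  exact (subgroupBlockCoeff_of_mem X f x.2).symm

end

end Cfsg.Agent.Lib.Helper8.AF
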