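import Mathlib
import Cfsg.Prelude.Def_Blocks
import Cfsg.Prelude.Def_BrauerPairs
import Cfsg.Agent.Lib.Helper8.FS4
import Cfsg.Agent.Lib.Helper8.PairStabConj

/-!
# Blocks with abelian defect groups: fusion of subpairs is controlled by the inertial group
-/

set_option autoImplicit false
set_option linter.unusedSectionVars false
set_option maxHeartbeats 1600000

namespace Cfsg.Agent.Lib.Helper8.VK

open Cfsg Cfsg.Agent.Lib.Helper8
open scoped ComplexConjugate
open Cfsg.Agent.Lib.Helper1 Cfsg.Agent.Lib.Helper4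

universe u

section

variable {G : Type u} [Group G] [Fintype G] {M : Ideal AlgInt} {p : ℕ} [Fact p.Prime]

/-- **Abelian defect groups**: if `(Q, f)` and its conjugate under `g` both lie below the maximal
pair `(P, e)` then `g = t c` with `t` in the stabilizer of `(P, e)` and `c ∈ C_G(Q)`. -/
theorem abelian_fusion_factor (hM : IsPModular p M) {B : Set (IrrCharacter G)}
    {P : Subgroup G} {e : Set (IrrCharacter (Subgroup.centralizer (P : Set G)))}
    (hmax : IsMaximalBrauerPair p M B P e) (hab : ∀ x ∈ P, ∀ y ∈ P, x * y = y * x)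
    {Q : Subgroup G} {f : Set (IrrCharacter (Subgroup.centralizer (Q : Set G)))} (hQP : Q ≤ P)
    (hle : SubpairLE p M Q f P e) {g : G}
    (hleg : SubpairLE p M (Q.map (MulAut.conj g).toMonoidHom) (conjBlock Q g f) P e) :
    ∃ t : G, t ∈ Subgroup.normalizer (P : Set G) ∧
      StabilizesBlock (Subgroup.centralizer (P : Set G)) e t ∧
      ∃ c ∈ Subgroup.centralizer (Q : Set G), g = t * c := by
  classical
  have hPe : IsBrauerPair p M P e := hmax.1.1
  have hB : IsPBlock M B := hmax.1.2.1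
  have hle' : Relation.ReflTransGen (NormalSubpairRel p M) ⟨Q, f⟩ ⟨P, e⟩ := hle
  have hQf : IsBrauerPair p M Q f := subpairRel_isBrauerPair hle' hPe
  have hQ'P : Q.map (MulAut.conj g).toMonoidHom ≤ P := subpairLE_le hleg
  have hPX : P ≤ Subgroup.centralizer ((Q.map (MulAut.conj g).toMonoidHom : Subgroup G) : Set G) := by
    intro u hu
    rw [Subgroup.mem_centralizer_iff]
    intro q hq
    exact hab q (hQ'P hq) u hu
  have hQ'X : Q.map (MulAut.conj g).toMonoidHom ≤
      Subgroup.centralizer ((Q.map (MulAut.conj g).toMonoidHom : Subgroup G) : Set G) :=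
    hQ'P.trans hPX
  have h1 : Relation.ReflTransGen (NormalSubpairRel p M) (pairConj g ⟨Q, f⟩)
      (pairConj g ⟨P, e⟩) := subpairRel_pairConj g hle'
  have h2 : Relation.ReflTransGen (NormalSubpairRel p M) (pairConj g ⟨Q, f⟩) ⟨P, e⟩ := hleg
  have hPgX : (pairConj g ⟨P, e⟩).1 ≤
      Subgroup.centralizer ((Q.map (MulAut.conj g).toMonoidHom : Subgroup G) : Set G) := by
    rintro _ ⟨u, hu, rfl⟩
    rw [Subgroup.mem_centralizer_iff]
    rintro _ ⟨q, hq, rfl⟩
    have hc := hab q (hQP hq) u hu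
    simp only [MulEquiv.coe_toMonoidHom, MulAut.conj_apply]
    calc g * q * g⁻¹ * (g * u * g⁻¹) = g * (q * u) * g⁻¹ := by group
      _ = g * (u * q) * g⁻¹ := by rw [hc]
      _ = g * u * g⁻¹ * (g * q * g⁻¹) := by group
  have hmaxX : ∀ b₃ : BrauerPairIdx G, IsBrauerPair p M b₃.1 b₃.2 →
      Relation.ReflTransGen (NormalSubpairRel p M) ⟨P, e⟩ b₃ →
      b₃.1 ≤ Subgroup.centralizer ((Q.map (MulAut.conj g).toMonoidHom : Subgroup G) : Set G) →
        b₃.1 = P := by
    rintro ⟨R₃, g₃⟩ hb₃ hch -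
    have hBR : IsBrauerPairOf p M B R₃ g₃ :=
      (Cfsg.Agent.S4658.result p M hM R₃ P g₃ e hb₃ hPe hch B hB).2 hmax.1
    exact hmax.2 R₃ g₃ hBR hch
  obtain ⟨c, hcX, hc⟩ := local_conj hM
    (Subgroup.centralizer ((Q.map (MulAut.conj g).toMonoidHom : Subgroup G) : Set G))
    (b₀ := pairConj g ⟨Q, f⟩) (b₁ := pairConj g ⟨P, e⟩) (b₂ := ⟨P, e⟩)
    (isBrauerPair_conj g hQf) (isBrauerPair_conj g hPe) hPe hQ'X le_rfl h1 h2 hPgX hPX hmaxX
  rw [← pairConj_mul] at hc
  have hle1 : P.map (MulAut.conj (c * g)).toMonoidHom ≤ P := subpairRel_le hc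
  have heq : P.map (MulAut.conj (c * g)).toMonoidHom = P :=
    Subgroup.eq_of_le_of_card_ge hle1
      (by rw [Subgroup.card_map_of_injective (MulAut.conj (c * g)).injective])
  have hyN : c * g ∈ Subgroup.normalizer (P : Set G) :=
    Subgroup.mem_normalizer_iff_map_conj_eq.2 heq
  have hyst := (subpairLE_conj_iff_stabilizes hM hPe
    (show SubpairLE p M P e P e from Relation.ReflTransGen.refl) hyN).1 hc
  refine ⟨c * g, hyN, hyst, g⁻¹ * c⁻¹ * g, ?_, by group⟩
  exact (mem_centralizer_map_conj Q g c⁻¹).1 (Subgroup.inv_mem _ hcX)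

/-- The stabilizer of `(P, e)` fixes the pair under conjugation. -/
theorem pairConj_eq_self_of_stab (P : Subgroup G)
    (e : Set (IrrCharacter (Subgroup.centralizer (P : Set G)))) {t : G}
    (htN : t ∈ Subgroup.normalizer (P : Set G))
    (htst : StabilizesBlock (Subgroup.centralizer (P : Set G)) e t) :
    pairConj t ⟨P, e⟩ = ⟨P, e⟩ := by
  have htC := normalizer_le_normalizer_centralizer P htN
  rw [pairConj_of_mem_normalizer t P e htN htC]
  obtain ⟨_, himg⟩ := (stabilizesBlock_iff_image _ e t).1 htst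
  rw [himg]

/-- Elements of `C_G(Q)` fix every pair on `Q`. -/
theorem pairConj_eq_self_of_mem_centralizer (Q : Subgroup G)
    (f : Set (IrrCharacter (Subgroup.centralizer (Q : Set G)))) {h : G}
    (hh : h ∈ Subgroup.centralizer (Q : Set G)) : pairConj h ⟨Q, f⟩ = ⟨Q, f⟩ :=
  pairConj_eq_self_of_stab Q f (Subgroup.centralizer_le_normalizer _ hh)
    (stabilizesBlock_of_mem _ f hh)

end

end Cfsg.Agent.Lib.Helper8.VK
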