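import Mathlib
import Cfsg.Prelude.Def_Blocks
import Cfsg.Prelude.Def_BrauerPairs
import Cfsg.Agent.Lib.Helper8.VK11
import Cfsg.Agent.Lib.Helper8.AF1
import Cfsg.Agent.Lib.Helper8.Sub7
import Cfsg.Agent.Lib.Helper8.PairConj3
import Cfsg.Agent.Lib.Helper8.D1

/-!
# Subsections of a block with abelian defect group as Brauer pairs on cyclic subgroups
-/

set_option autoImplicit false
set_option linter.unusedSectionVars false
set_option maxHeartbeats 1600000

namespace Cfsg.Agent.Lib.Helper8.VK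

open Cfsg Cfsg.Agent.Lib.Helper8
open scoped ComplexConjugate
open Cfsg.Agent.Lib.Helper1 Cfsg.Agent.Lib.Helper4

universe u

section

variable {G : Type u} [Group G]

theorem zpowers_le_centralizer_zpowers (x : G) :
    Subgroup.zpowers x ≤ Subgroup.centralizer ((Subgroup.zpowers x : Subgroup G) : Set G) := by
  intro a ha
  rw [Subgroup.mem_centralizer_iff]
  intro b hb
  obtain ⟨i, rfl⟩ := Subgroup.mem_zpowers_iff.1 ha
  obtain ⟨j, rfl⟩ := Subgroup.mem_zpowers_iff.1 hb
  rw [← zpow_add, ← zpow_add, add_comm]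

theorem map_conj_zpowers (g x : G) :
    (Subgroup.zpowers x).map (MulAut.conj g).toMonoidHom = Subgroup.zpowers (g * x * g⁻¹) := by
  rw [MonoidHom.map_zpowers]
  rfl

theorem isPGroup_zpowers_of_orderOf {p : ℕ} [Fact p.Prime] {x : G}
    (hx : ∃ k : ℕ, orderOf x = p ^ k) : IsPGroup p (Subgroup.zpowers x) := by
  obtain ⟨k, hk⟩ := hx
  apply IsPGroup.of_card (n := k)
  rw [Nat.card_zpowers, hk]

theorem mem_centralizer_zpowers_iff (x t : G) :
    t ∈ Subgroup.centralizer ((Subgroup.zpowers x : Subgroup G) : Set G) ↔ t * x = x * t := by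
  rw [Subgroup.zpowers_eq_closure, Subgroup.centralizer_closure,
    Subgroup.mem_centralizer_singleton_iff]

end

section

variable {G : Type u} [Group G] [Fintype G] {M : Ideal AlgInt} {p : ℕ} [Fact p.Prime]

/-- Subsections are Brauer pairs on cyclic subgroups. -/
theorem pair_of_induced_zpowers (hM : IsPModular p M) {B : Set (IrrCharacter G)} {x : G}
    (hx : ∃ k : ℕ, orderOf x = p ^ k)
    {f : Set (IrrCharacter (Subgroup.centralizer ((Subgroup.zpowers x : Subgroup G) : Set G)))}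
    (hf : IsInducedBlock M (Subgroup.centralizer ((Subgroup.zpowers x : Subgroup G) : Set G)) f B) :
    IsBrauerPairOf p M B (Subgroup.zpowers x) f :=
  AF.pair_of_induced hM (Subgroup.zpowers x) (isPGroup_zpowers_of_orderOf hx)
    (zpowers_le_centralizer_zpowers x) hf

theorem induced_of_pair_zpowers (hM : IsPModular p M) {B : Set (IrrCharacter G)} {x : G}
    {f : Set (IrrCharacter (Subgroup.centralizer ((Subgroup.zpowers x : Subgroup G) : Set G)))}
    (hf : IsBrauerPairOf p M B (Subgroup.zpowers x) f) :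
    IsInducedBlock M (Subgroup.centralizer ((Subgroup.zpowers x : Subgroup G) : Set G)) f B :=
  isInducedBlock_of_isBrauerPairOf hM (Subgroup.zpowers x) (zpowers_le_centralizer_zpowers x) hf

/-- The subpair of a maximal pair on a cyclic subgroup. -/
theorem exists_subpair_zpowers (hM : IsPModular p M) {B : Set (IrrCharacter G)} {P : Subgroup G}
    {c : Set (IrrCharacter (Subgroup.centralizer (P : Set G)))}
    (hmax : IsMaximalBrauerPair p M B P c) {y : G} (hy : y ∈ P) :
    ∃ f : Set (IrrCharacter (Subgroup.centralizer ((Subgroup.zpowers y : Subgroup G) : Set G))),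
      SubpairLE p M (Subgroup.zpowers y) f P c ∧ IsBrauerPairOf p M B (Subgroup.zpowers y) f := by
  have hPe : IsBrauerPair p M P c := hmax.1.1
  have hB : IsPBlock M B := hmax.1.2.1
  have hQP : Subgroup.zpowers y ≤ P := (Subgroup.zpowers_le).2 hy
  obtain ⟨f, hf, hle⟩ := exists_subpairLE hM _ P (Subgroup.zpowers y) c hPe hQP le_rfl
  exact ⟨f, hle, (Cfsg.Agent.S4658.result p M hM P (Subgroup.zpowers y) c f hPe hf hle B hB).1
    hmax.1⟩

/-- Every subsection is conjugate to one below the maximal pair. -/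
theorem exists_conj_into (hM : IsPModular p M) {B : Set (IrrCharacter G)} {P : Subgroup G}
    {c : Set (IrrCharacter (Subgroup.centralizer (P : Set G)))}
    (hmax : IsMaximalBrauerPair p M B P c) {x : G}
    {f : Set (IrrCharacter (Subgroup.centralizer ((Subgroup.zpowers x : Subgroup G) : Set G)))}
    (hf : IsBrauerPairOf p M B (Subgroup.zpowers x) f) :
    ∃ g : G, g * x * g⁻¹ ∈ P ∧
      Relation.ReflTransGen (NormalSubpairRel p M) (pairConj g ⟨Subgroup.zpowers x, f⟩) ⟨P, c⟩ := by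
  obtain ⟨g, hg⟩ := exists_conj_subpairLE hM hmax hf
  refine ⟨g, ?_, hg⟩
  have h1 := subpairLE_le hg
  apply h1
  exact ⟨x, Subgroup.mem_zpowers x, rfl⟩

/-- The subsection with element in the set of representatives attached to an element of `P`. -/
theorem exists_subsection_of_mem (hM : IsPModular p M) {B : Set (IrrCharacter G)}
    {P : Subgroup G} {c : Set (IrrCharacter (Subgroup.centralizer (P : Set G)))}
    (hmax : IsMaximalBrauerPair p M B P c) (X : Finset G)
    (hXrep : ∀ g : G, (∃ k : ℕ, orderOf g = p ^ k) → ∃! x, x ∈ X ∧ IsConj g x)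
    {y : G} (hyP : y ∈ P) (hy1 : y ≠ 1) (hyo : ∃ k : ℕ, orderOf y = p ^ k) :
    ∃ (x g : G)
      (f : Set (IrrCharacter (Subgroup.centralizer ((Subgroup.zpowers y : Subgroup G) : Set G))))
      (f' : Set (IrrCharacter (Subgroup.centralizer ((Subgroup.zpowers x : Subgroup G) : Set G)))),
      x ∈ X ∧ x ≠ 1 ∧ g * y * g⁻¹ = x ∧ SubpairLE p M (Subgroup.zpowers y) f P c ∧
      pairConj g ⟨Subgroup.zpowers y, f⟩ = ⟨Subgroup.zpowers x, f'⟩ ∧
      IsInducedBlock M (Subgroup.centralizer ((Subgroup.zpowers x : Subgroup G) : Set G)) f' B := by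
  obtain ⟨f, hle, hf⟩ := exists_subpair_zpowers hM hmax hyP
  obtain ⟨x, ⟨hxX, hyx⟩, -⟩ := hXrep y hyo
  obtain ⟨g, hg⟩ := isConj_iff.1 hyx
  have hx1 : x ≠ 1 := by
    intro h
    apply hy1
    rw [h] at hg
    have : y = g⁻¹ * (g * y * g⁻¹) * g := by group
    rw [this, hg]
    group
  have hfst : (pairConj g ⟨Subgroup.zpowers y, f⟩).1 = Subgroup.zpowers x := by
    show (Subgroup.zpowers y).map (MulAut.conj g).toMonoidHom = Subgroup.zpowers x
    rw [map_conj_zpowers, hg]
  obtain ⟨f', hf'⟩ := eq_mk_of_fst_eq (pairConj g ⟨Subgroup.zpowers y, f⟩) hfst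
  have h1 : IsBrauerPairOf p M B (pairConj g ⟨Subgroup.zpowers y, f⟩).1
      (pairConj g ⟨Subgroup.zpowers y, f⟩).2 := isBrauerPairOf_conj g hf
  rw [hf'] at h1
  exact ⟨x, g, f, f', hxX, hx1, hg, hle, hf', induced_of_pair_zpowers hM h1⟩

/-- **Control of fusion**: conjugate subsections below the maximal pair are conjugate under the
inertial group. -/
theorem exists_stab_of_pairConj_eq (hM : IsPModular p M) {B : Set (IrrCharacter G)}
    {P : Subgroup G} {c : Set (IrrCharacter (Subgroup.centralizer (P : Set G)))}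
    (hmax : IsMaximalBrauerPair p M B P c) (hab : ∀ x ∈ P, ∀ y ∈ P, x * y = y * x)
    {y y' : G} (hyP : y ∈ P)
    {f : Set (IrrCharacter (Subgroup.centralizer ((Subgroup.zpowers y : Subgroup G) : Set G)))}
    {f' : Set (IrrCharacter (Subgroup.centralizer ((Subgroup.zpowers y' : Subgroup G) : Set G)))}
    (hle : SubpairLE p M (Subgroup.zpowers y) f P c)
    (hle' : SubpairLE p M (Subgroup.zpowers y') f' P c) {g g' : G}
    (h : pairConj g ⟨Subgroup.zpowers y, f⟩ = pairConj g' ⟨Subgroup.zpowers y', f'⟩) :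
    ∃ t : G, t ∈ Subgroup.normalizer (P : Set G) ∧
      StabilizesBlock (Subgroup.centralizer (P : Set G)) c t ∧
      t * y * t⁻¹ = g'⁻¹ * g * y * (g'⁻¹ * g)⁻¹ := by
  have h1 : pairConj (g'⁻¹ * g) ⟨Subgroup.zpowers y, f⟩ = ⟨Subgroup.zpowers y', f'⟩ := by
    rw [pairConj_mul, h, ← pairConj_mul, inv_mul_cancel, pairConj_one]
  have h2 : Relation.ReflTransGen (NormalSubpairRel p M)
      (pairConj (g'⁻¹ * g) ⟨Subgroup.zpowers y, f⟩) ⟨P, c⟩ := by
    rw [h1]
    exact hle'
  have hQP : Subgroup.zpowers y ≤ P := (Subgroup.zpowers_le).2 hyP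
  obtain ⟨t, htN, htst, c₀, hc₀, hgt⟩ := abelian_fusion_factor hM hmax hab hQP hle h2
  refine ⟨t, htN, htst, ?_⟩
  have hc₀y : c₀ * y = y * c₀ := (mem_centralizer_zpowers_iff y c₀).1 hc₀
  rw [hgt]
  calc t * y * t⁻¹ = t * (y * c₀) * c₀⁻¹ * t⁻¹ := by group
    _ = t * (c₀ * y) * c₀⁻¹ * t⁻¹ := by rw [hc₀y]
    _ = t * c₀ * y * (t * c₀)⁻¹ := by group

end

end Cfsg.Agent.Lib.Helper8.VK
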