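import Mathlib
import Cfsg.Prelude.Def_Blocks
import Cfsg.Prelude.Def_BrauerPairs
import Cfsg.Agent.Lib.Helper8.BPS14
import Cfsg.Agent.Lib.Helper8.BPS12
import Cfsg.Agent.Lib.Helper8.SM4
import Cfsg.Agent.Lib.Helper8.VK12

/-!
# Congruences modulo an ideal, units `1 - n`, and the rigidity of `χ(u f)` modulo `ker Br_u`
-/

set_option autoImplicit false
set_option linter.unusedSectionVars false

namespace Cfsg.Agent.Lib.Helper8.BPS

open Cfsg Cfsg.Agent.Lib.Helper8

section abstract

variable {Λ : Type*} [Ring Λ] {T : Subring Λ} {P K : Set Λ}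

/-- congruence modulo a set `K` (meant: an ideal of a subring) -/
def Cong (K : Set Λ) (x y : Λ) : Prop := x - y ∈ K

theorem IsIdealOf.neg (hK : IsIdealOf T K) {a : Λ} (ha : a ∈ K) : -a ∈ K := by
  have := hK.mul_left (-1) (T.neg_mem T.one_mem) a ha
  simpa using this

theorem IsIdealOf.sub' (hK : IsIdealOf T K) {a b : Λ} (ha : a ∈ K) (hb : b ∈ K) : a - b ∈ K := by
  rw [sub_eq_add_neg]
  exact hK.add a ha _ (hK.neg hb)

theorem IsIdealOf.cong_refl (hK : IsIdealOf T K) (x : Λ) : Cong K x x := by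
  unfold Cong
  rw [sub_self]
  exact hK.zero

theorem IsIdealOf.cong_symm (hK : IsIdealOf T K) {x y : Λ} (h : Cong K x y) : Cong K y x := by
  unfold Cong at *
  have := hK.neg h
  rwa [neg_sub] at this

theorem IsIdealOf.cong_trans (hK : IsIdealOf T K) {x y z : Λ} (h : Cong K x y) (h' : Cong K y z) :
    Cong K x z := by
  unfold Cong at *
  have := hK.add _ h _ h'
  rwa [sub_add_sub_cancel] at this

theorem IsIdealOf.cong_add (hK : IsIdealOf T K) {x y x' y' : Λ} (h : Cong K x x')
    (h' : Cong K y y') : Cong K (x + y) (x' + y') := by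
  unfold Cong at *
  have := hK.add _ h _ h'
  rwa [show x - x' + (y - y') = x + y - (x' + y') by abel] at this

theorem IsIdealOf.cong_sub (hK : IsIdealOf T K) {x y x' y' : Λ} (h : Cong K x x')
    (h' : Cong K y y') : Cong K (x - y) (x' - y') := by
  unfold Cong at *
  have := hK.sub' h h'
  rwa [show x - x' - (y - y') = x - y - (x' - y') by abel] at this

theorem IsIdealOf.cong_mul (hK : IsIdealOf T K) {x y x' y' : Λ} (hy : y ∈ T) (hx' : x' ∈ T)
    (h : Cong K x x') (h' : Cong K y y') : Cong K (x * y) (x' * y') := by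
  unfold Cong at *
  have h1 := hK.mul_right y hy _ h
  have h2 := hK.mul_left x' hx' _ h'
  have := hK.add _ h1 _ h2
  rwa [show (x - x') * y + x' * (y - y') = x * y - x' * y' by noncomm_ring] at this

theorem IsIdealOf.cong_mul_left (hK : IsIdealOf T K) {y y' : Λ} (x : Λ) (hx : x ∈ T)
    (h' : Cong K y y') : Cong K (x * y) (x * y') := by
  unfold Cong at *
  have h2 := hK.mul_left x hx _ h'
  rwa [mul_sub] at h2

theorem IsIdealOf.cong_mul_right (hK : IsIdealOf T K) {x x' : Λ} (y : Λ) (hy : y ∈ T)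
    (h : Cong K x x') : Cong K (x * y) (x' * y) := by
  unfold Cong at *
  have h2 := hK.mul_right y hy _ h
  rwa [sub_mul] at h2

theorem IsIdealOf.cong_pow (hK : IsIdealOf T K) {x x' : Λ} (hx : x ∈ T) (hx' : x' ∈ T)
    (h : Cong K x x') (n : ℕ) : Cong K (x ^ n) (x' ^ n) := by
  induction n with
  | zero => simpa using hK.cong_refl 1
  | succ n ih =>
    rw [pow_succ, pow_succ]
    exact hK.cong_mul hx (T.pow_mem hx' n) ih h

theorem IsIdealOf.mem_of_cong (hK : IsIdealOf T K) {x y : Λ} (h : Cong K x y) (hy : y ∈ K) :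
    x ∈ K := by
  unfold Cong at h
  have := hK.add _ h _ hy
  rwa [sub_add_cancel] at this

theorem cong_zero_iff {x : Λ} : Cong K x 0 ↔ x ∈ K := by
  unfold Cong
  rw [sub_zero]

/-- `1 - n` is a unit of `T` for `n ∈ P` -/
theorem FitSub.exists_inv_one_sub (h : FitSub T P) {n : Λ} (hn : n ∈ P) :
    ∃ b ∈ T, b * (1 - n) = 1 ∧ (1 - n) * b = 1 := by
  have hnT : n ∈ T := h.P_sub hn
  have haT : (1 - n) ∈ T := T.sub_mem T.one_mem hnT
  obtain ⟨e, heT, b, hbT, hee, hab, hba, -, -, hcomm, k, -, hkP⟩ := h.fit (1 - n) haT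
  have hpow : ∀ m : ℕ, 1 - (1 - n) ^ m ∈ P := by
    intro m
    induction m with
    | zero => simpa using h.P_zero
    | succ m ih =>
      have h1 : 1 - (1 - n) ^ (m + 1) = (1 - (1 - n) ^ m) + (1 - n) ^ m * n := by
        rw [pow_succ]
        noncomm_ring
      rw [h1]
      exact h.P_add _ ih _ (h.P_mul_left _ (T.pow_mem haT m) _ hn)
  have hae : (1 - n) * e = e * (1 - n) := (hcomm (1 - n) rfl).1
  have h1e : (1 - e) * (1 - e) = 1 - e := by
    have : (1 - e) * (1 - e) = 1 - e - e + e * e := by noncomm_ring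
    rw [this, hee]
    abel
  have hcm : Commute (1 - n) (1 - e) := by
    have : Commute (1 - n) e := hae
    exact (Commute.one_right _).sub_right this
  have h2 : ((1 - n) * (1 - e)) ^ k = (1 - n) ^ k * (1 - e) ^ k := hcm.mul_pow k
  have h3 : ∀ m : ℕ, 0 < m → (1 - e) ^ m = 1 - e := fun m hm => idem_pow h1e hm
  have hk0 : 0 < k ∨ k = 0 := by omega
  have h1eT : (1 - e) ∈ T := T.sub_mem T.one_mem heT
  have h1eP : (1 - e) ∈ P := by
    rcases hk0 with hk | hk
    · rw [h2, h3 k hk] at hkP
      have h4 : (1 - e) = (1 - n) ^ k * (1 - e) + (1 - (1 - n) ^ k) * (1 - e) := by noncomm_ring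
      rw [h4]
      exact h.P_add _ hkP _ (h.P_mul_right _ h1eT _ (hpow k))
    · subst hk
      -- `1 ∈ P`
      rw [pow_zero] at hkP
      have := h.P_mul_left _ h1eT _ hkP
      rwa [mul_one] at this
  have he1 : 1 - e = 0 := h.idem_P _ h1eP h1e
  have he : e = 1 := (sub_eq_zero.1 he1).symm
  rw [he] at hab hba
  exact ⟨b, hbT, hba, hab⟩

end abstract

section bridge

variable {M : Ideal AlgInt} {p : ℕ} {G : Type*} [Group G] [Fintype G] [DecidableEq G]

/-- the element of the group algebra with a given coefficient function -/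
noncomputable def ofFun (F : G → ℂ) : GA G := ∑ g, F g • og g

theorem coeff_ofFun (F : G → ℂ) (g : G) : (ofFun F).coeff g = F g := by
  unfold ofFun
  rw [coeff_sum']
  simp_rw [coeff_smul', coeff_og]
  rw [Finset.sum_eq_single g]
  · rw [if_pos rfl, mul_one]
  · intro h _ hh
    rw [if_neg hh, mul_zero]
  · intro h
    exact absurd (Finset.mem_univ g) h

theorem ofFun_coeff (x : GA G) : ofFun (fun g => x.coeff g) = x := (eq_sum_coeff_og x).symm

theorem coeff_mul_eq_conv (x y : GA G) :
    (fun g => (x * y).coeff g) = conv (fun g => x.coeff g) (fun g => y.coeff g) := by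
  funext g
  rw [coeff_mul]
  rfl

theorem coeff_one_eq_deltaOne : (fun g => (1 : GA G).coeff g) = deltaOne := by
  funext g
  rw [← og_one, coeff_og]
  unfold deltaOne
  by_cases h : g = 1
  · rw [if_pos h.symm, if_pos h]
  · rw [if_neg (Ne.symm h), if_neg h]

theorem coeff_sub' (x y : GA G) (g : G) : (x - y).coeff g = x.coeff g - y.coeff g := by
  have h : x = (x - y) + y := by abel
  have h2 : x.coeff g = ((x - y) + y).coeff g := by rw [← h]
  rw [MonoidAlgebra.coeff_add, Finsupp.add_apply] at h2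
  rw [h2]
  ring

theorem ofFun_mul (F H : G → ℂ) : ofFun F * ofFun H = ofFun (conv F H) := by
  apply ga_ext
  intro g
  rw [coeff_ofFun, coeff_mul]
  simp_rw [coeff_ofFun]
  rfl

theorem ofFun_deltaOne : ofFun (deltaOne : G → ℂ) = 1 := by
  apply ga_ext
  intro g
  rw [coeff_ofFun]
  exact (congrFun coeff_one_eq_deltaOne g).symm

theorem ofFun_add (F H : G → ℂ) : ofFun (F + H) = ofFun F + ofFun H := by
  apply ga_ext
  intro g
  rw [coeff_ofFun, MonoidAlgebra.coeff_add, Finsupp.add_apply, coeff_ofFun, coeff_ofFun]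
  rfl

theorem ofFun_sub (F H : G → ℂ) : ofFun (F - H) = ofFun F - ofFun H := by
  apply ga_ext
  intro g
  rw [coeff_ofFun, coeff_sub', coeff_ofFun, coeff_ofFun]
  rfl

theorem ofFun_injective : Function.Injective (ofFun : (G → ℂ) → GA G) := by
  intro F H h
  funext g
  rw [← coeff_ofFun F g, h, coeff_ofFun]

theorem isPPart_self {u : G} (hu : ∃ k : ℕ, orderOf u = p ^ k) (hp : p.Prime) : IsPPart p u u := by
  refine ⟨1, mul_one u, Commute.one_right u, hu, ?_⟩
  rw [orderOf_one]
  exact hp.one_lt.ne' ∘ Nat.dvd_one.1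

theorem mem_centralizer_zpowers_of_comm {u g : G} (h : g * u = u * g) :
    g ∈ Subgroup.centralizer (Subgroup.zpowers u : Set G) := by
  rw [Subgroup.mem_centralizer_iff]
  intro x hx
  obtain ⟨n, rfl⟩ := Subgroup.mem_zpowers_iff.1 hx
  have hc : Commute g u := h
  exact (hc.zpow_right n).eq.symm

/-- **(V0)** an idempotent of `ker Br_u` is killed by `χ(u ·)` -/
theorem ev_og_mul_eq_zero_of_mem_KBr (hM : IsPModular p M) {u : G}
    (hu : ∃ k : ℕ, orderOf u = p ^ k) {f : GA G}
    (hf : f ∈ KBr M (isPModular_isPrime hM) (Subgroup.zpowers u)) (hff : f * f = f)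
    {χ : G → ℂ} (hχ : IsClassFunction G χ) : ev χ (og u * f) = 0 := by
  classical
  have hMp := isPModular_isPrime hM
  set H : Subgroup G := Subgroup.centralizer ({u} : Set G) with hH
  set j : G → ℂ := fun g => f.coeff g with hj
  set n : GA G := ofFun (truncTo (H : Set G) j) with hn
  have hfit : FitSub (fixedRing M hMp (⊥ : Subgroup G)) (PP M hMp ⊥) :=
    (fitScal_fixedRing hMp ⊥).toFitSub
  have hfT := hf.1
  have hnP : n ∈ PP M hMp (⊥ : Subgroup G) := by
    have hcoef : ∀ g, MemLocalIdeal M (n.coeff g) := by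
      intro g
      rw [hn, coeff_ofFun]
      by_cases hg : g ∈ (H : Set G)
      · rw [truncTo_of_mem _ hg]
        apply hf.2
        have : g ∈ H := hg
        rw [hH, Subgroup.mem_centralizer_singleton_iff] at this
        exact mem_centralizer_zpowers_of_comm this
      · rw [truncTo_of_not_mem _ hg]
        exact memLocalIdeal_zero hMp.ne_top
    refine ⟨⟨fun g => memLocalRing_of_memLocalIdeal (hcoef g), ?_⟩, hcoef⟩
    intro s hs
    rw [Subgroup.mem_bot] at hs
    rw [hs, cj_one']
  obtain ⟨b, hbT, hb1, -⟩ := hfit.exists_inv_one_sub hnP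
  have hw : conv (fun g => b.coeff g) (deltaOne - truncTo (H : Set G) j) = deltaOne := by
    have h1 : (1 : GA G) - n = ofFun (deltaOne - truncTo (H : Set G) j) := by
      rw [ofFun_sub, ofFun_deltaOne]
    have h2 := coeff_mul_eq_conv b (1 - n)
    rw [hb1, coeff_one_eq_deltaOne] at h2
    have h3 : (fun g => ((1 : GA G) - n).coeff g) = deltaOne - truncTo (H : Set G) j := by
      funext g
      rw [h1, coeff_ofFun]
    rw [h3] at h2
    exact h2.symm
  have huH : u ∈ H := by
    rw [hH, Subgroup.mem_centralizer_singleton_iff]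
  have hja : ∀ x, j (u * x * u⁻¹) = j x := by
    intro x
    have h1 : cj u f = f := hfT.2 u (Subgroup.mem_zpowers u)
    have h2 := coeff_cj u f (u * x * u⁻¹)
    rw [h1] at h2
    rw [hj]
    show f.coeff (u * x * u⁻¹) = f.coeff x
    rw [h2]
    congr 1
    group
  have hjj : conv j j = j := by
    have := coeff_mul_eq_conv f f
    rw [hff] at this
    exact this.symm
  have key := sum_idem_mul_classFunction_eq_zero hM H (j := j) (fun x => hfT.1 x) hjj huH
    (isPPart_self hu hM.1) (le_refl _) hja (fun g => b.coeff g) (fun x => hbT.1 x) hw hχ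
  rw [ev_og_mul]
  exact key

/-- **Rigidity**: two idempotents of `A^u` which are congruent modulo `ker Br_u` give the same
value `χ(u f)`. -/
theorem ev_og_mul_congr (hM : IsPModular p M) {u : G}
    (hu : ∃ k : ℕ, orderOf u = p ^ k) {f f' : GA G}
    (hf : f ∈ fixedRing M (isPModular_isPrime hM) (Subgroup.zpowers u))
    (hf' : f' ∈ fixedRing M (isPModular_isPrime hM) (Subgroup.zpowers u))
    (hff : f * f = f) (hff' : f' * f' = f')
    (hK : f - f' ∈ KBr M (isPModular_isPrime hM) (Subgroup.zpowers u))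
    {χ : G → ℂ} (hχ : IsClassFunction G χ) : ev χ (og u * f) = ev χ (og u * f') := by
  classical
  have hMp := isPModular_isPrime hM
  have : Fact p.Prime := ⟨hM.1⟩
  set S : Subgroup G := Subgroup.zpowers u with hS
  have hSp : IsPGroup p S := VK.isPGroup_zpowers_of_orderOf hu
  set T := fixedRing M hMp S with hT
  have hfit : FitSub T (PP M hMp S) := (fitScal_fixedRing hMp S).toFitSub
  have hKi : IsIdealOf T (KBr M hMp S) := KBr_isIdeal hM S hSp
  have hPK := PP_sub_KBr hMp S
  -- congruence `f ≡ f'`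
  have c0 : Cong (KBr M hMp S) f f' := hK
  set h := f * f' * f with hh
  have hhT : h ∈ T := T.mul_mem (T.mul_mem hf hf') hf
  have hch : Corner f h := by
    constructor
    · rw [hh, ← mul_assoc, ← mul_assoc, hff]
    · rw [hh, mul_assoc, hff]
  have c1 : Cong (KBr M hMp S) h f := by
    have h1 : Cong (KBr M hMp S) (f * f' * f) (f * f * f) :=
      hKi.cong_mul_right f hf (hKi.cong_mul_left f hf (hKi.cong_symm c0))
    rwa [hff, hff] at h1
  obtain ⟨e, heT, hee, hce, hhe, ⟨b, hbT, hcb, hhb, hbh⟩, n, hn, hnP⟩ := hfit.corner_fit hhT hch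
  -- `f - e` is an idempotent in `K`
  have hfe : (f - e) * (f - e) = f - e := by
    have : (f - e) * (f - e) = f * f - f * e - e * f + e * e := by noncomm_ring
    rw [this, hff, hce.1, hce.2, hee]
    abel
  have hfeT : f - e ∈ T := T.sub_mem hf heT
  have c2 : Cong (KBr M hMp S) ((h * (f - e)) ^ n) ((f * (f - e)) ^ n) :=
    hKi.cong_pow (T.mul_mem hhT hfeT) (T.mul_mem hf hfeT) (hKi.cong_mul_right _ hfeT c1) n
  have h3 : f * (f - e) = f - e := by rw [mul_sub, hff, hce.1]
  rw [h3, idem_pow hfe hn] at c2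
  have hfeK : f - e ∈ KBr M hMp S := hKi.mem_of_cong (hKi.cong_symm c2) (hPK hnP)
  have v1 : ev χ (og u * (f - e)) = 0 := ev_og_mul_eq_zero_of_mem_KBr hM hu hfeK hfe hχ
  have e1 : ev χ (og u * f) = ev χ (og u * e) := by
    rw [mul_sub, ev_sub] at v1
    exact sub_eq_zero.1 v1
  -- `b ≡ f`
  have hcfb : Corner f b := Corner.trans hce hcb
  have c3 : Cong (KBr M hMp S) e f := hKi.cong_symm hfeK
  have c4 : Cong (KBr M hMp S) b f := by
    have h1 : Cong (KBr M hMp S) (h * b) (f * b) := hKi.cong_mul_right b hbT c1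
    rw [hhb, hcfb.1] at h1
    exact hKi.cong_trans (hKi.cong_symm h1) c3
  -- the idempotent `f'' = f' b f'`
  have hbf'f : b * f' * f = e := by
    have : b * h = b * f' * f := by
      rw [hh, ← mul_assoc, ← mul_assoc, hcfb.2]
    rw [← this, hbh]
  have hbf'b : b * f' * b = b := by
    calc b * f' * b = b * f' * (f * b) := by rw [hcfb.1]
      _ = (b * f' * f) * b := by noncomm_ring
      _ = b := by rw [hbf'f, hcb.1]
  set f'' := f' * b * f' with hf''
  have hf''T : f'' ∈ T := T.mul_mem (T.mul_mem hf' hbT) hf'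
  have hf''i : f'' * f'' = f'' := by
    calc f'' * f'' = f' * (b * (f' * f') * b) * f' := by rw [hf'']; noncomm_ring
      _ = f' * (b * f' * b) * f' := by rw [hff']
      _ = f'' := by rw [hbf'b]
  have c5 : Cong (KBr M hMp S) f'' f' := by
    have h1 : Cong (KBr M hMp S) (f' * b * f') (f' * f * f') :=
      hKi.cong_mul_right f' hf' (hKi.cong_mul_left f' hf' c4)
    have h2 : Cong (KBr M hMp S) (f' * f * f') (f' * f' * f') :=
      hKi.cong_mul_right f' hf' (hKi.cong_mul_left f' hf' c0)
    rw [hff', hff'] at h2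
    exact hKi.cong_trans h1 h2
  have hd : (f' - f'') * (f' - f'') = f' - f'' := by
    have h1 : f' * f'' = f'' := by rw [hf'', ← mul_assoc, ← mul_assoc, hff']
    have h2 : f'' * f' = f'' := by rw [hf'', mul_assoc, hff']
    have : (f' - f'') * (f' - f'') = f' * f' - f' * f'' - f'' * f' + f'' * f'' := by noncomm_ring
    rw [this, hff', h1, h2, hf''i]
    abel
  have v2 : ev χ (og u * (f' - f'')) = 0 :=
    ev_og_mul_eq_zero_of_mem_KBr hM hu (hKi.cong_symm c5) hd hχ
  have e2 : ev χ (og u * f') = ev χ (og u * f'') := by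
    rw [mul_sub, ev_sub] at v2
    exact sub_eq_zero.1 v2
  -- trace property
  set α := b * f' with hα
  set β := f' * e with hβ
  have hαβ : α * β = e := by
    calc α * β = b * (f' * f') * e := by rw [hα, hβ]; noncomm_ring
      _ = b * f' * (f * e) := by rw [hff', hce.1]
      _ = (b * f' * f) * e := by noncomm_ring
      _ = e := by rw [hbf'f, hee]
  have hβα : β * α = f'' := by
    calc β * α = f' * (e * b) * f' := by rw [hα, hβ]; noncomm_ring
      _ = f'' := by rw [hcb.1]
  have hβT : β ∈ T := T.mul_mem hf' heT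
  have hβu : og u * β = β * og u := (cj_eq_iff u β).1 (hβT.2 u (Subgroup.mem_zpowers u))
  have e3 : ev χ (og u * e) = ev χ (og u * f'') := by
    rw [← hαβ, ← hβα, ← mul_assoc, ev_mul_comm hχ, ← mul_assoc, ← hβu, mul_assoc]
  rw [e1, e3, ← e2]

end bridge

end Cfsg.Agent.Lib.Helper8.BPS
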