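import Mathlib
import Cfsg.Prelude.Def_Blocks
import Cfsg.Prelude.Def_BrauerPairs
import Cfsg.Agent.Lib.Helper8.VK12

/-!
# Fusion of central subpairs is controlled by the inertial group
-/

set_option autoImplicit false
set_option linter.unusedSectionVars false
set_option maxHeartbeats 1600000

namespace Cfsg.Agent.Lib.Helper8.BHI

open Cfsg Cfsg.Agent.Lib.Helper8 Cfsg.Agent.Lib.Helper8.VK
open scoped ComplexConjugate
open Cfsg.Agent.Lib.Helper1 Cfsg.Agent.Lib.Helper4

universe u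

section

variable {G : Type u} [Group G] [Fintype G] {M : Ideal AlgInt} {p : ℕ} [Fact p.Prime]

/-- **Central subpairs**: if `(Q, f)` and its conjugate under `g` both lie below the maximal
pair `(P, e)`, with both `Q` and its conjugate central in `P`, then `g = t c` with `t` in the
stabilizer of `(P, e)` and `c ∈ C_G(Q)`. -/
theorem central_fusion_factor (hM : IsPModular p M) {B : Set (IrrCharacter G)}
    {P : Subgroup G} {e : Set (IrrCharacter (Subgroup.centralizer (P : Set G)))}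
    (hmax : IsMaximalBrauerPair p M B P e)
    {Q : Subgroup G} {f : Set (IrrCharacter (Subgroup.centralizer (Q : Set G)))}
    (hQZ : ∀ q ∈ Q, ∀ u ∈ P, q * u = u * q)
    (hle : SubpairLE p M Q f P e) {g : G}
    (hQ'Z : ∀ q ∈ Q.map (MulAut.conj g).toMonoidHom, ∀ u ∈ P, q * u = u * q)
    (hleg : SubpairLE p M (Q.map (MulAut.conj g).toMonoidHom) (conjBlock Q g f) P e) :
    ∃ t : G, t ∈ Subgroup.normalizer (P : Set G) ∧
      StabilizesBlock (Subgroup.centralizer (P : Set G)) e t ∧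
      ∃ c ∈ Subgroup.centralizer (Q : Set G), g = t * c := by
  classical
  have hPe : IsBrauerPair p M P e := hmax.1.1
  have hB : IsPBlock M B := hmax.1.2.1
  have hle' : Relation.ReflTransGen (NormalSubpairRel p M) ⟨Q, f⟩ ⟨P, e⟩ := hle
  have hQf : IsBrauerPair p M Q f := subpairRel_isBrauerPair hle' hPe
  have hQ'P : Q.map (MulAut.conj g).toMonoidHom ≤ P := subpairLE_le hleg
  have hPX : P ≤ Subgroup.centralizer ((Q.map (MulAut.conj g).toMonoidHom : Subgroup G) : Set G) := by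
    intro u hu
    rw [Subgroup.mem_centralizer_iff]
    intro q hq
    exact hQ'Z q hq u hu
  have hQ'X : Q.map (MulAut.conj g).toMonoidHom ≤
      Subgroup.centralizer ((Q.map (MulAut.conj g).toMonoidHom : Subgroup G) : Set G) :=
    hQ'P.trans hPX
  have h1 : Relation.ReflTransGen (NormalSubpairRel p M) (pairConj g ⟨Q, f⟩)
      (pairConj g ⟨P, e⟩) := subpairRel_pairConj g hle'
  have h2 : Relation.ReflTransGen (NormalSubpairRel p M) (pairConj g ⟨Q, f⟩) ⟨P, e⟩ := hleg
  have hPgX : (pairConj g ⟨P, e⟩).1 ≤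
      Subgroup.centralizer ((Q.map (MulAut.conj g).toMonoidHom : Subgroup G) : Set G) := by
    rintro _ ⟨u, hu, rfl⟩
    rw [Subgroup.mem_centralizer_iff]
    rintro _ ⟨q, hq, rfl⟩
    have hc := hQZ q hq u hu
    simp only [MulEquiv.coe_toMonoidHom, MulAut.conj_apply]
    calc g * q * g⁻¹ * (g * u * g⁻¹) = g * (q * u) * g⁻¹ := by group
      _ = g * (u * q) * g⁻¹ := by rw [hc]
      _ = g * u * g⁻¹ * (g * q * g⁻¹) := by group
  have hmaxX : ∀ b₃ : BrauerPairIdx G, IsBrauerPair p M b₃.1 b₃.2 →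
      Relation.ReflTransGen (NormalSubpairRel p M) ⟨P, e⟩ b₃ →
      b₃.1 ≤ Subgroup.centralizer ((Q.map (MulAut.conj g).toMonoidHom : Subgroup G) : Set G) →
        b₃.1 = P := by
    rintro ⟨R₃, g₃⟩ hb₃ hch -
    have hBR : IsBrauerPairOf p M B R₃ g₃ :=
      (Cfsg.Agent.S4658.result p M hM R₃ P g₃ e hb₃ hPe hch B hB).2 hmax.1
    exact hmax.2 R₃ g₃ hBR hch
  obtain ⟨c, hcX, hc⟩ := local_conj hM
    (Subgroup.centralizer ((Q.map (MulAut.conj g).toMonoidHom : Subgroup G) : Set G))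
    (b₀ := pairConj g ⟨Q, f⟩) (b₁ := pairConj g ⟨P, e⟩) (b₂ := ⟨P, e⟩)
    (isBrauerPair_conj g hQf) (isBrauerPair_conj g hPe) hPe hQ'X le_rfl h1 h2 hPgX hPX hmaxX
  rw [← pairConj_mul] at hc
  have hle1 : P.map (MulAut.conj (c * g)).toMonoidHom ≤ P := subpairRel_le hc
  have heq : P.map (MulAut.conj (c * g)).toMonoidHom = P :=
    Subgroup.eq_of_le_of_card_ge hle1
      (by rw [Subgroup.card_map_of_injective (MulAut.conj (c * g)).injective])
  have hyN : c * g ∈ Subgroup.normalizer (P : Set G) :=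
    Subgroup.mem_normalizer_iff_map_conj_eq.2 heq
  have hyst := (subpairLE_conj_iff_stabilizes hM hPe
    (show SubpairLE p M P e P e from Relation.ReflTransGen.refl) hyN).1 hc
  refine ⟨c * g, hyN, hyst, g⁻¹ * c⁻¹ * g, ?_, by group⟩
  exact (mem_centralizer_map_conj Q g c⁻¹).1 (Subgroup.inv_mem _ hcX)

/-- **Control of fusion for central elements**: conjugate subsections below the maximal pair whose
elements are central in the defect group are conjugate under the inertial group. -/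
theorem exists_stab_of_pairConj_eq_central (hM : IsPModular p M) {B : Set (IrrCharacter G)}
    {P : Subgroup G} {c : Set (IrrCharacter (Subgroup.centralizer (P : Set G)))}
    (hmax : IsMaximalBrauerPair p M B P c)
    {y y' : G} (hyZ : ∀ u ∈ P, y * u = u * y) (hy'Z : ∀ u ∈ P, y' * u = u * y')
    {f : Set (IrrCharacter (Subgroup.centralizer ((Subgroup.zpowers y : Subgroup G) : Set G)))}
    {f' : Set (IrrCharacter (Subgroup.centralizer ((Subgroup.zpowers y' : Subgroup G) : Set G)))}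
    (hle : SubpairLE p M (Subgroup.zpowers y) f P c)
    (hle' : SubpairLE p M (Subgroup.zpowers y') f' P c) {g g' : G}
    (h : pairConj g ⟨Subgroup.zpowers y, f⟩ = pairConj g' ⟨Subgroup.zpowers y', f'⟩) :
    ∃ t : G, t ∈ Subgroup.normalizer (P : Set G) ∧
      StabilizesBlock (Subgroup.centralizer (P : Set G)) c t ∧
      t * y * t⁻¹ = g'⁻¹ * g * y * (g'⁻¹ * g)⁻¹ := by
  have h1 : pairConj (g'⁻¹ * g) ⟨Subgroup.zpowers y, f⟩ = ⟨Subgroup.zpowers y', f'⟩ := by
    rw [pairConj_mul, h, ← pairConj_mul, inv_mul_cancel, pairConj_one]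
  have h2 : Relation.ReflTransGen (NormalSubpairRel p M)
      (pairConj (g'⁻¹ * g) ⟨Subgroup.zpowers y, f⟩) ⟨P, c⟩ := by
    rw [h1]
    exact hle'
  have hzc : ∀ z : G, (∀ u ∈ P, z * u = u * z) → ∀ q ∈ Subgroup.zpowers z, ∀ u ∈ P,
      q * u = u * q := by
    intro z hz q hq u hu
    obtain ⟨k, rfl⟩ := Subgroup.mem_zpowers_iff.1 hq
    exact (Commute.zpow_left (hz u hu) k).eq
  have hfst : (Subgroup.zpowers y).map (MulAut.conj (g'⁻¹ * g)).toMonoidHom =
      Subgroup.zpowers y' := congrArg Sigma.fst h1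
  have hQ'Z : ∀ q ∈ (Subgroup.zpowers y).map (MulAut.conj (g'⁻¹ * g)).toMonoidHom, ∀ u ∈ P,
      q * u = u * q := by
    rw [hfst]
    exact hzc y' hy'Z
  obtain ⟨t, htN, htst, c₀, hc₀, hgt⟩ :=
    central_fusion_factor hM hmax (hzc y hyZ) hle hQ'Z h2
  refine ⟨t, htN, htst, ?_⟩
  have hc₀y : c₀ * y = y * c₀ := (mem_centralizer_zpowers_iff y c₀).1 hc₀
  rw [hgt]
  calc t * y * t⁻¹ = t * (y * c₀) * c₀⁻¹ * t⁻¹ := by group
    _ = t * (c₀ * y) * c₀⁻¹ * t⁻¹ := by rw [hc₀y]
    _ = t * c₀ * y * (t * c₀)⁻¹ := by group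

end

end Cfsg.Agent.Lib.Helper8.BHI
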