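import Mathlib
import Cfsg.Prelude.Def_Blocks
import Cfsg.Prelude.Def_BlockRank
import Cfsg.Agent.Lib.Helper8.KB9
import Cfsg.Agent.Lib.Helper8.BlockIso
import Cfsg.Agent.Lib.Helper8.CA8
import Cfsg.Agent.Lib.Helper8.PairConj

/-!
# Transport of the contributions of a subsection along a conjugation
-/

set_option autoImplicit false
set_option linter.unusedSectionVars false

namespace Cfsg.Agent.Lib.Helper8.BHI

open Cfsg Cfsg.Agent.Lib.Helper8
open scoped ComplexConjugate
open Cfsg.Agent.Lib.Helper1 Cfsg.Agent.Lib.Helper4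

universe u

section

variable {G₁ G₂ : Type u} [Group G₁] [Group G₂]

/-- The bijection between the irreducible characters of isomorphic groups. -/
noncomputable def irrEquiv (φ : G₁ ≃* G₂) : IrrCharacter G₁ ≃ IrrCharacter G₂ where
  toFun := irrMap φ
  invFun := irrMap φ.symm
  left_inv := irrMap_symm_irrMap φ
  right_inv := irrMap_irrMap_symm φ

theorem irrEquiv_apply (φ : G₁ ≃* G₂) (χ : IrrCharacter G₁) : irrEquiv φ χ = irrMap φ χ := rfl

theorem blockPart_image_irrMap [Fintype G₁] [Fintype G₂] (φ : G₁ ≃* G₂)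
    (b : Set (IrrCharacter G₁)) (F : G₂ → ℂ) (g : G₁) :
    blockPart (irrMap φ '' b) F (φ g) = blockPart b (fun a => F (φ a)) g := by
  classical
  have : Fintype (IrrCharacter G₁) := Fintype.ofFinite _
  have : Fintype (IrrCharacter G₂) := Fintype.ofFinite _
  rw [blockPart_eq_sum, blockPart_eq_sum, ← Equiv.sum_comp (irrEquiv φ)]
  refine Finset.sum_congr rfl fun χ _ => ?_
  rw [irrEquiv_apply, irrMap_apply_map]
  have h1 : (irrMap φ χ ∈ irrMap φ '' b) ↔ χ ∈ b := (irrMap_injective φ).mem_set_image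
  have h2 : classInner F (irrMap φ χ : G₂ → ℂ) = classInner (fun a => F (φ a)) (χ : G₁ → ℂ) := by
    rw [← classInner_comp_mulEquiv_aux φ F (irrMap φ χ : G₂ → ℂ)]
    congr 1
    funext a
    exact irrMap_apply_map φ χ a
  rw [h2]
  by_cases hχ : χ ∈ b
  · rw [if_pos hχ, if_pos (h1.2 hχ)]
  · rw [if_neg hχ, if_neg (fun h => hχ (h1.1 h))]

theorem pRegularPart_comp_mulEquiv (p : ℕ) (φ : G₁ ≃* G₂) (F : G₂ → ℂ) (g : G₁) :
    pRegularPart p F (φ g) = pRegularPart p (fun a => F (φ a)) g := by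
  classical
  unfold pRegularPart IsPRegular
  rw [MulEquiv.orderOf_eq]

end

section

variable {G : Type u} [Group G] [Fintype G] {p : ℕ}

/-- The section part transported along a conjugation. -/
theorem secPart_conj (C C' : Subgroup G) [Fintype C] [Fintype C'] (φ : C ≃* C') (g : G)
    (hφ : ∀ c : C, ((φ c : C') : G) = g * (c : G) * g⁻¹) (b : Set (IrrCharacter C)) (u : G)
    {ζ : G → ℂ} (hζ : IsClassFunction G ζ) (c : C) :
    secPart p C' (irrMap φ '' b) (g * u * g⁻¹) ζ (φ c) = secPart p C b u ζ c := by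
  unfold secPart
  rw [pRegularPart_comp_mulEquiv]
  congr 1
  funext a
  rw [blockPart_image_irrMap]
  congr 1
  funext a'
  show ζ (g * u * g⁻¹ * ((φ a' : C') : G)) = ζ (u * (a' : G))
  rw [hφ, ← hζ (u * (a' : G)) g]
  congr 1
  group

/-- **Transport of the contributions.** -/
theorem contrib_conj (C C' : Subgroup G) [Fintype C] [Fintype C'] (φ : C ≃* C') (g : G)
    (hφ : ∀ c : C, ((φ c : C') : G) = g * (c : G) * g⁻¹) (b : Set (IrrCharacter C)) (u : G)
    {ζ ξ : G → ℂ} (hζ : IsClassFunction G ζ) (hξ : IsClassFunction G ξ) :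
    contrib p C' (irrMap φ '' b) (g * u * g⁻¹) ζ ξ = contrib p C b u ζ ξ := by
  unfold contrib
  rw [Nat.card_congr φ.toEquiv.symm]
  congr 1
  rw [← Equiv.sum_comp φ.toEquiv]
  refine Finset.sum_congr rfl fun c _ => ?_
  show secPart p C' (irrMap φ '' b) (g * u * g⁻¹) ζ (φ c) *
    conj (ξ (g * u * g⁻¹ * ((φ c : C') : G))) = _
  rw [secPart_conj C C' φ g hφ b u hζ, hφ]
  congr 2
  rw [← hξ (u * (c : G)) g]
  congr 1
  group

/-- Transport of the contributions along the conjugation of a Brauer pair. -/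
theorem contrib_centConj (Q : Subgroup G) (g : G)
    [Fintype (Subgroup.centralizer (Q : Set G))]
    [Fintype (Subgroup.centralizer ((Q.map (MulAut.conj g).toMonoidHom : Subgroup G) : Set G))]
    (f : Set (IrrCharacter (Subgroup.centralizer (Q : Set G)))) (u : G)
    {ζ ξ : G → ℂ} (hζ : IsClassFunction G ζ) (hξ : IsClassFunction G ξ) :
    contrib p (Subgroup.centralizer ((Q.map (MulAut.conj g).toMonoidHom : Subgroup G) : Set G))
      (conjBlock Q g f) (g * u * g⁻¹) ζ ξ =
    contrib p (Subgroup.centralizer (Q : Set G)) f u ζ ξ := by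
  rw [conjBlock_eq_image]
  exact contrib_conj _ _ (centConj Q g) g (fun c => centConj_apply_coe Q g c) f u hζ hξ

end

end Cfsg.Agent.Lib.Helper8.BHI
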