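import Mathlib
import Cfsg.Prelude.Def_Blocks
import Cfsg.Agent.Lib.Helper8.KB2
import Cfsg.Agent.Lib.Helper8.BF5

/-!
# A weighted norm inequality for tracked families of conjugates
-/

set_option autoImplicit false
set_option linter.unusedSectionVars false

namespace Cfsg.Agent.Lib.Helper8.BHI

open Cfsg Cfsg.Agent.Lib.Helper8
open scoped ComplexConjugate
open Cfsg.Agent.Lib.Helper1 Cfsg.Agent.Lib.Helper4

/-- AM–GM in the form: nonnegative reals whose product is at least `c ^ card` (with `0 < c`)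
have sum at least `card * c`. -/
theorem card_mul_le_sum_of_pow_le_prod {ι : Type*} (s : Finset ι) (z : ι → ℝ)
    (hz : ∀ i ∈ s, 0 ≤ z i) (c : ℝ) (hc : 0 < c) (hprod : c ^ s.card ≤ ∏ i ∈ s, z i) :
    (s.card : ℝ) * c ≤ ∑ i ∈ s, z i := by
  have h1 : (1 : ℝ) ≤ ∏ i ∈ s, (z i / c) := by
    rw [Finset.prod_div_distrib, Finset.prod_const, le_div_iff₀ (pow_pos hc _), one_mul]
    exact hprod
  have h2 := card_le_sum_of_one_le_prod s (fun i => z i / c)
    (fun i hi => div_nonneg (hz i hi) hc.le) h1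
  rw [← Finset.sum_div, le_div_iff₀ hc] at h2
  exact h2

section

variable (n : ℕ) [NeZero n] {K : Type*} [Field K] [CharZero K] [IsCyclotomicExtension {n} ℚ K]
  (ι : K →+* ℂ)

include n in
/-- If all the conjugates of a nonzero algebraic integer are divisible by `p ^ h` in the local
ring, then the sum of their absolute values is at least `p ^ h` times their number. -/
theorem card_mul_pow_le_sum_norm_of_tracked [Fintype (K ≃ₐ[ℚ] K)] {M : Ideal AlgInt} {p : ℕ}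
    (hM : IsPModular p M) {f : (K ≃ₐ[ℚ] K) → ℂ}
    (hf : Tracked ι f) (hint : IsIntegral ℤ (f 1)) (h0 : f 1 ≠ 0) (h : ℕ)
    (hdiv : ∀ σ, MemLocalRing M (f σ / (p : ℂ) ^ h)) :
    (Fintype.card (K ≃ₐ[ℚ] K) : ℝ) * (p : ℝ) ^ h ≤ ∑ σ : K ≃ₐ[ℚ] K, ‖f σ‖ := by
  have hMp := isPModular_isPrime hM
  have hp0 : (p : ℂ) ≠ 0 := Nat.cast_ne_zero.2 hM.1.ne_zero
  have hppos : (0 : ℝ) < (p : ℝ) := by exact_mod_cast hM.1.pos
  obtain ⟨x, hx⟩ := hf
  have hx1 : ι x = f 1 := by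
    have := hx 1
    simpa using this
  have hx0 : x ≠ 0 := by
    intro h
    rw [h, map_zero] at hx1
    exact h0 hx1.symm
  have hxint : IsIntegral ℤ x := by
    rw [← hx1] at hint
    exact (isIntegral_algHom_iff (ι.toIntAlgHom) ι.injective).1 hint
  have hfd : FiniteDimensional ℚ K := IsCyclotomicExtension.finiteDimensional {n} ℚ K
  have hgal : IsGalois ℚ K := IsCyclotomicExtension.isGalois {n} ℚ K
  have h1 := Algebra.norm_eq_prod_automorphisms ℚ x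
  have h2 : IsIntegral ℤ (Algebra.norm ℚ x) := Algebra.isIntegral_norm ℚ hxint
  obtain ⟨m, hm⟩ := IsIntegrallyClosed.isIntegral_iff.1 h2
  have hm0 : m ≠ 0 := by
    rintro rfl
    have : Algebra.norm ℚ x = 0 := by rw [← hm]; simp
    exact hx0 (Algebra.norm_eq_zero_iff.1 this)
  have h3 : ι (algebraMap ℚ K (Algebra.norm ℚ x)) = ∏ σ : K ≃ₐ[ℚ] K, ι (σ x) := by
    rw [h1, map_prod]
    refine Finset.prod_congr ?_ fun σ _ => rfl
    ext σ; simp
  have h4 : ι (algebraMap ℚ K (Algebra.norm ℚ x)) = (m : ℂ) := by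
    rw [← hm]
    simp
  rw [h4] at h3
  have h5 : (m : ℂ) = ∏ σ : K ≃ₐ[ℚ] K, f σ := by
    rw [h3]
    exact Finset.prod_congr rfl fun σ _ => hx σ
  -- divisibility
  have h6 : MemLocalRing M ((m : ℂ) / (p : ℂ) ^ (h * Fintype.card (K ≃ₐ[ℚ] K))) := by
    have : (m : ℂ) / (p : ℂ) ^ (h * Fintype.card (K ≃ₐ[ℚ] K)) =
        ∏ σ : K ≃ₐ[ℚ] K, (f σ / (p : ℂ) ^ h) := by
      rw [Finset.prod_div_distrib, Finset.prod_const, Finset.card_univ, ← pow_mul, h5]
    rw [this]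
    exact memLocalRing_prod hMp _ _ (fun σ _ => hdiv σ)
  have h7 := int_pow_dvd_of_memLocalRing hM m _ h6
  have h8 : ((p : ℤ) ^ (h * Fintype.card (K ≃ₐ[ℚ] K))) ≤ |m| := by
    have := Int.le_of_dvd (abs_pos.2 hm0) ((dvd_abs _ _).2 h7)
    exact this
  have h9 : ((p : ℝ) ^ h) ^ Fintype.card (K ≃ₐ[ℚ] K) ≤ ∏ σ : K ≃ₐ[ℚ] K, ‖f σ‖ := by
    rw [← norm_prod, ← h5, ← pow_mul]
    have : ((((p : ℤ) ^ (h * Fintype.card (K ≃ₐ[ℚ] K)) : ℤ)) : ℝ) ≤ ((|m| : ℤ) : ℝ) := by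
      exact_mod_cast h8
    have h10 : ‖(m : ℂ)‖ = ((|m| : ℤ) : ℝ) := by
      rw [Complex.norm_intCast]
      push_cast
      rfl
    rw [h10]
    push_cast at this ⊢
    exact this
  have h11 := card_mul_le_sum_of_pow_le_prod Finset.univ (fun σ : K ≃ₐ[ℚ] K => ‖f σ‖)
    (fun σ _ => norm_nonneg _) ((p : ℝ) ^ h) (pow_pos hppos h)
    (by rw [Finset.card_univ]; exact h9)
  rw [Finset.card_univ] at h11
  exact h11

end

end Cfsg.Agent.Lib.Helper8.BHI
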