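import Mathlib
import Cfsg.Prelude.Def_Blocks
import Cfsg.Prelude.Def_BlockRank
import Cfsg.Agent.Lib.Helper8.MJ16

/-!
# Diagonal contributions of a major subsection: divisibility, reality and positivity
-/

set_option autoImplicit false
set_option linter.unusedSectionVars false

namespace Cfsg.Agent.Lib.Helper8.BHI

open Cfsg Cfsg.Agent.Lib.Helper8 Cfsg.Agent.Lib.Helper8.MJ
open scoped ComplexConjugate
open Cfsg.Agent.Lib.Helper1 Cfsg.Agent.Lib.Helper4

universe u

section

variable {G : Type u} [Group G] [Fintype G] {M : Ideal AlgInt} {p : ℕ} [Fact p.Prime]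

/-- The scaled contributions to a character of height `h` are divisible by `p ^ h`. -/
theorem memLocalRing_pow_mul_contrib_div (hM : IsPModular p M) (C : Subgroup G)
    [Fintype C] {u : G} (hC : ∀ t, t ∈ C ↔ t * u = u * t) (hu : ∃ k : ℕ, orderOf u = p ^ k)
    (b : Set (IrrCharacter C)) {B : Set (IrrCharacter G)}
    {ζ : G → ℂ} (hζ : IsCharacter G ζ) {ξ : IrrCharacter G} (hξ : ξ ∈ B) :
    MemLocalRing M ((p : ℂ) ^ (blockDefect p B) * contrib p C b u ζ (ξ : G → ℂ) /
      (p : ℂ) ^ (blockHeight p B (ξ : G → ℂ))) := by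
  have hMp := isPModular_isPrime hM
  have hp0 : (p : ℂ) ≠ 0 := Nat.cast_ne_zero.2 hM.1.ne_zero
  obtain ⟨U, hUS, hU⟩ := pow_defect_mul_deg_div hM hξ
  have hω : MemLocalRing M (omega (ξ : G → ℂ) (bigTheta p C b ((hC u).2 rfl) ζ)) :=
    memLocalRing_omega hMp ξ.2 (isClassFunction_bigTheta C b _ ζ)
      (memLocalRing_bigTheta hMp.ne_top C hC hu b hζ)
  rw [contrib_eq_omega C b ((hC u).2 rfl) ζ ξ.2, ← mul_assoc, hU, mul_assoc,
    mul_div_cancel_left₀ _ (pow_ne_zero _ hp0)]
  exact memLocalRing_mul hMp hUS hω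

omit [Fact p.Prime] in
/-- The diagonal contribution is a nonnegative real number. -/
theorem contrib_self_eq_ofReal (hM : IsPModular p M) (C : Subgroup G) [Fintype C]
    {u : G} (hC : ∀ t, t ∈ C ↔ t * u = u * t)
    {b : Set (IrrCharacter C)} (hb : IsPBlock M b) {ζ : G → ℂ} (hζ : IsClassFunction G ζ) :
    contrib p C b u ζ ζ =
      (((Nat.card C : ℝ)⁻¹ * ∑ c : C, Complex.normSq (secPart p C b u ζ c) : ℝ) : ℂ) := by
  rw [contrib_self_eq hM C hC hb hζ, classInner_def]
  push_cast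
  congr 1
  refine Finset.sum_congr rfl fun c _ => ?_
  rw [Complex.mul_conj]

omit [Fact p.Prime] in
theorem contrib_self_eq_re (hM : IsPModular p M) (C : Subgroup G) [Fintype C]
    {u : G} (hC : ∀ t, t ∈ C ↔ t * u = u * t)
    {b : Set (IrrCharacter C)} (hb : IsPBlock M b) {ζ : G → ℂ} (hζ : IsClassFunction G ζ) :
    contrib p C b u ζ ζ = (((contrib p C b u ζ ζ).re : ℝ) : ℂ) := by
  conv_rhs => rw [contrib_self_eq_ofReal hM C hC hb hζ, Complex.ofReal_re]
  exact contrib_self_eq_ofReal hM C hC hb hζ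

omit [Fact p.Prime] in
theorem contrib_self_re_eq (hM : IsPModular p M) (C : Subgroup G) [Fintype C]
    {u : G} (hC : ∀ t, t ∈ C ↔ t * u = u * t)
    {b : Set (IrrCharacter C)} (hb : IsPBlock M b) {ζ : G → ℂ} (hζ : IsClassFunction G ζ) :
    (contrib p C b u ζ ζ).re =
      (Nat.card C : ℝ)⁻¹ * ∑ c : C, Complex.normSq (secPart p C b u ζ c) := by
  rw [contrib_self_eq_ofReal hM C hC hb hζ, Complex.ofReal_re]

omit [Fact p.Prime] in
theorem contrib_self_re_nonneg (hM : IsPModular p M) (C : Subgroup G) [Fintype C]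
    {u : G} (hC : ∀ t, t ∈ C ↔ t * u = u * t)
    {b : Set (IrrCharacter C)} (hb : IsPBlock M b) {ζ : G → ℂ} (hζ : IsClassFunction G ζ) :
    0 ≤ (contrib p C b u ζ ζ).re := by
  rw [contrib_self_re_eq hM C hC hb hζ]
  exact mul_nonneg (inv_nonneg.2 (Nat.cast_nonneg _))
    (Finset.sum_nonneg fun c _ => Complex.normSq_nonneg _)

/-- The diagonal contributions of a major subsection at the characters of the block are
positive. -/
theorem contrib_self_re_pos (hM : IsPModular p M) (C : Subgroup G)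
    [Fintype C] {u : G} (hC : ∀ t, t ∈ C ↔ t * u = u * t) (hu : ∃ k : ℕ, orderOf u = p ^ k)
    {b : Set (IrrCharacter C)} {B : Set (IrrCharacter G)} (hind : IsInducedBlock M C b B)
    (hdef : blockDefect p b = blockDefect p B) {ψ : IrrCharacter G} (hψ : ψ ∈ B) :
    0 < (contrib p C b u (ψ : G → ℂ) (ψ : G → ℂ)).re := by
  have hMp := isPModular_isPrime hM
  have hψcf := isClassFunction_irr ψ.2
  obtain ⟨χ₀, hχ₀, h0⟩ := exists_height_zero (p := p) hMp hind.2.1
  have h2 := contrib_ne_zero_of_height_zero hM C hC hu hind hdef hχ₀ h0 hψ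
  rw [contrib_eq_classInner hM C hC hind.1 (isClassFunction_irr χ₀.2) hψcf] at h2
  have hne : secPart p C b u (ψ : G → ℂ) ≠ 0 := by
    intro h
    apply h2
    rw [h, classInner_def]
    simp
  obtain ⟨c, hc⟩ : ∃ c, secPart p C b u (ψ : G → ℂ) c ≠ 0 := by
    by_contra hcon
    push Not at hcon
    exact hne (funext hcon)
  rw [contrib_self_re_eq hM C hC hind.1 hψcf]
  apply mul_pos (inv_pos.2 (by exact_mod_cast Nat.card_pos))
  apply Finset.sum_pos' (fun c _ => Complex.normSq_nonneg _)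
  exact ⟨c, Finset.mem_univ _, Complex.normSq_pos.2 hc⟩

end

end Cfsg.Agent.Lib.Helper8.BHI
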