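import Mathlib
import Cfsg.Prelude.Def_Blocks
import Cfsg.Prelude.Def_BlockRank
import Cfsg.Agent.Lib.Helper8.KB8
import Cfsg.Agent.Lib.Helper8.BHI3
import Cfsg.Agent.Lib.Helper8.BHI4

/-!
# The Galois lower bound for the diagonal contributions of a major subsection
-/

set_option autoImplicit false
set_option linter.unusedSectionVars false

namespace Cfsg.Agent.Lib.Helper8.BHI

open Cfsg Cfsg.Agent.Lib.Helper8 Cfsg.Agent.Lib.Helper8.MJ
open scoped ComplexConjugate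
open Cfsg.Agent.Lib.Helper1 Cfsg.Agent.Lib.Helper4

universe u

section

variable {G : Type u} [Group G] [Fintype G] {M : Ideal AlgInt} {p : ℕ} [Fact p.Prime]

/-- **Galois lower bound**: the scaled diagonal contributions of a major subsection at a
character of height `h`, summed over the Galois conjugates of the element, are at least `p ^ h`
times their number. -/
theorem sum_galois_contrib_ge (N : ℕ) [NeZero N] {K : Type*} [Field K] [CharZero K]
    [IsCyclotomicExtension {N} ℚ K] (ι : K →+* ℂ) (k : (K ≃ₐ[ℚ] K) → ℕ)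
    (hk : ∀ (σ : K ≃ₐ[ℚ] K) (z : K), z ^ N = 1 → σ z = z ^ k σ) [Fintype (K ≃ₐ[ℚ] K)]
    (hn : ∀ g : G, g ^ N = 1) (hcop : ∀ σ, (Nat.card G).Coprime (k σ))
    (hM : IsPModular p M) (C : Subgroup G) [Fintype C] {u : G}
    (hC : ∀ t, t ∈ C ↔ t * u = u * t) (hu : ∃ j : ℕ, orderOf u = p ^ j)
    {b : Set (IrrCharacter C)} {B : Set (IrrCharacter G)} (hind : IsInducedBlock M C b B)
    (hdef : blockDefect p b = blockDefect p B) {ψ : IrrCharacter G} (hψ : ψ ∈ B) :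
    (Fintype.card (K ≃ₐ[ℚ] K) : ℝ) * (p : ℝ) ^ (blockHeight p B (ψ : G → ℂ)) ≤
      ∑ σ : K ≃ₐ[ℚ] K, (p : ℝ) ^ (blockDefect p B) *
        (contrib p C b (u ^ k σ) (ψ : G → ℂ) (ψ : G → ℂ)).re := by
  classical
  have hMp := isPModular_isPrime hM
  have hp : p.Prime := Fact.out
  have hb := hind.1
  have hψc := isCharacter_of_irr ψ.2
  have hψcf := isClassFunction_irr ψ.2
  have hkord : ∀ σ, (k σ).Coprime (orderOf u) :=
    fun σ => Nat.Coprime.coprime_dvd_right (orderOf_dvd_natCard u) (hcop σ).symm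
  have hCσ : ∀ σ, ∀ t, t ∈ C ↔ t * u ^ k σ = u ^ k σ * t :=
    fun σ => centralizer_pow_iff C hC (hkord σ)
  have huσ : ∀ σ, ∃ j : ℕ, orderOf (u ^ k σ) = p ^ j := by
    intro σ
    obtain ⟨j, hj⟩ := hu
    exact ⟨j, by rw [(hkord σ).symm.orderOf_pow, hj]⟩
  set d := blockDefect p B with hd
  have htr : Tracked ι (fun σ => ((p ^ d : ℕ) : ℂ) *
      contrib p C b (u ^ k σ) (ψ : G → ℂ) (ψ : G → ℂ)) :=
    (tracked_natCast _).mul (tracked_contrib N ι k hk hn hcop p C hC b hψc hψc)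
  have hint : IsIntegral ℤ (((p ^ d : ℕ) : ℂ) *
      contrib p C b (u ^ k 1) (ψ : G → ℂ) (ψ : G → ℂ)) := by
    have := isIntegral_pow_mul_contrib hM C (hCσ 1) hb hψc hψc
    rw [hdef] at this
    push_cast
    exact this
  have hre : ∀ σ, contrib p C b (u ^ k σ) (ψ : G → ℂ) (ψ : G → ℂ) =
      (((contrib p C b (u ^ k σ) (ψ : G → ℂ) (ψ : G → ℂ)).re : ℝ) : ℂ) :=
    fun σ => contrib_self_eq_re hM C (hCσ σ) hb hψcf
  have hpos : ∀ σ, 0 < (contrib p C b (u ^ k σ) (ψ : G → ℂ) (ψ : G → ℂ)).re :=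
    fun σ => contrib_self_re_pos hM C (hCσ σ) (huσ σ) hind hdef hψ
  have hne : ((p ^ d : ℕ) : ℂ) * contrib p C b (u ^ k 1) (ψ : G → ℂ) (ψ : G → ℂ) ≠ 0 := by
    apply mul_ne_zero (Nat.cast_ne_zero.2 (pow_ne_zero _ hp.ne_zero))
    rw [hre 1]
    exact_mod_cast (hpos 1).ne'
  have hdiv : ∀ σ, MemLocalRing M (((p ^ d : ℕ) : ℂ) *
      contrib p C b (u ^ k σ) (ψ : G → ℂ) (ψ : G → ℂ) /
        (p : ℂ) ^ (blockHeight p B (ψ : G → ℂ))) := by
    intro σ
    have := memLocalRing_pow_mul_contrib_div hM C (hCσ σ) (huσ σ) b hψc hψ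
    push_cast
    exact this
  have h1 := card_mul_pow_le_sum_norm_of_tracked N ι hM htr hint hne _ hdiv
  refine h1.trans (le_of_eq ?_)
  refine Finset.sum_congr rfl fun σ _ => ?_
  rw [hre σ, norm_mul, Complex.norm_natCast, Complex.norm_real, Real.norm_eq_abs,
    abs_of_pos (hpos σ)]
  push_cast
  rfl

end

end Cfsg.Agent.Lib.Helper8.BHI
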