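import Mathlib
import Cfsg.Prelude.Def_Blocks
import Cfsg.Prelude.Def_BrauerPairs
import Cfsg.Agent.Lib.Helper8.DC1
import Cfsg.Agent.Lib.Helper8.BlockInducedDefect
import Cfsg.Agent.Lib.Helper8.BlockPairs6
import Cfsg.Agent.Lib.Helper8.PairFullC
import Cfsg.Agent.S0936
import Cfsg.Agent.S4658

/-!
# Deficiency classes
-/

set_option autoImplicit false
set_option maxHeartbeats 800000

namespace Cfsg.Agent.Lib.Helper8

open Cfsg
open scoped ComplexConjugate
open Cfsg.Agent.Lib.Helper1 Cfsg.Agent.Lib.Helper4

universe u

section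

variable {G : Type u} [Group G] [Fintype G] {M : Ideal AlgInt} {p : ℕ}

/-- If `b` induces `B` then the defect of `b` is at most that of `B`. -/
theorem blockDefect_le_of_induced [Fact p.Prime] (hM : IsPModular p M) (H : Subgroup G)
    {b : Set (IrrCharacter H)} {B : Set (IrrCharacter G)} (hind : IsInducedBlock M H b B) :
    blockDefect p b ≤ blockDefect p B := by
  classical
  have hMp := isPModular_isPrime hM
  obtain ⟨Db, hDb⟩ := exists_isDefectGroup (p := p) hMp hind.1
  obtain ⟨E, hE, hle⟩ := exists_defectGroup_ge_of_induced hM H hind hDb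
  have h1 := card_of_isDefectGroup hM hind.1 hDb
  have h2 := card_of_isDefectGroup hM hind.2.1 hE
  have h3 : Nat.card (Db.map H.subtype) = Nat.card Db :=
    Subgroup.card_map_of_injective (Subgroup.subtype_injective _)
  have h4 := Subgroup.card_le_of_le hle
  rw [h3, h1, h2] at h4
  exact (Nat.pow_le_pow_iff_right (Fact.out : p.Prime).one_lt).1 h4

/-- Deficiency class passes to centralizers of `p`-elements. -/
theorem deficiency_down [Fact p.Prime] (hM : IsPModular p M) (r : ℕ)
    (hG : ∀ B' : Set (IrrCharacter G), IsPBlock M B' → B' ≠ principalBlock M G →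
      blockDefect p B' < r) (y : G) (hy : ∃ k : ℕ, orderOf y = p ^ k)
    (b : Set (IrrCharacter (Subgroup.centralizer ({y} : Set G)))) (hb : IsPBlock M b)
    (hne : b ≠ principalBlock M (Subgroup.centralizer ({y} : Set G))) :
    blockDefect p b < r := by
  classical
  obtain ⟨B, hind⟩ := inducedBlockDefined_centralizer hM hy hb
  have hBne : B ≠ principalBlock M G := by
    intro h
    apply hne
    rw [h] at hind
    exact (Cfsg.Agent.S0936.result p M hM _ b ⟨_, hind⟩).1 hind
  exact lt_of_le_of_lt (blockDefect_le_of_induced hM _ hind) (hG B hind.2.1 hBne)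

/-- The key step for the converse: a non-principal block of positive defect `d` yields a
non-principal block of defect at least `d` in the centralizer of an element of order `p`. -/
theorem exists_nonprincipal_centralizer [Fact p.Prime] (hM : IsPModular p M)
    {B : Set (IrrCharacter G)} (hB : IsPBlock M B) (hBne : B ≠ principalBlock M G)
    (hd : 0 < blockDefect p B) :
    ∃ y : G, orderOf y = p ∧
      ∃ f : Set (IrrCharacter (Subgroup.centralizer ((Subgroup.zpowers y : Subgroup G) : Set G))),
        IsPBlock M f ∧
        f ≠ principalBlock M (Subgroup.centralizer ((Subgroup.zpowers y : Subgroup G) : Set G)) ∧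
        blockDefect p B ≤ blockDefect p f := by
  classical
  have hMp := isPModular_isPrime hM
  have hp : p.Prime := Fact.out
  obtain ⟨D, hD⟩ := exists_isDefectGroup (p := p) hMp hB
  have hDp := isPGroup_of_isDefectGroup hD
  have hDcard := card_of_isDefectGroup hM hB hD
  obtain ⟨e, hmax⟩ := exists_isMaximalBrauerPair_defectGroup hM hB hD
  -- an element of order p in the centre of D
  have hDnt : Nontrivial D := by
    rw [← Finite.one_lt_card_iff_nontrivial, hDcard]
    exact Nat.one_lt_pow hd.ne' hp.one_lt
  have hZnt : Nontrivial (Subgroup.center D) := hDp.center_nontrivial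
  have hZp : IsPGroup p (Subgroup.center D) := hDp.to_subgroup _
  obtain ⟨n, hn⟩ := IsPGroup.iff_card.1 hZp
  have hpdvd : p ∣ Nat.card (Subgroup.center D) := by
    rw [hn]
    apply dvd_pow_self
    rintro rfl
    rw [pow_zero] at hn
    have := Finite.one_lt_card_iff_nontrivial.2 hZnt
    omega
  obtain ⟨z, hz⟩ := exists_prime_orderOf_dvd_card' p hpdvd
  set y : G := ((z : D) : G) with hy
  have hyo : orderOf y = p := by
    rw [hy, Subgroup.orderOf_coe, Subgroup.orderOf_coe, hz]
  have hyD : y ∈ D := (z : D).2
  have hycomm : ∀ d ∈ D, d * y = y * d := by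
    intro d hd
    have := Subgroup.mem_center_iff.1 z.2 ⟨d, hd⟩
    exact congrArg Subtype.val this
  set Q : Subgroup G := Subgroup.zpowers y with hQ
  have hQD : Q ≤ D := by
    rw [hQ, Subgroup.zpowers_le]
    exact hyD
  have hDC : D ≤ Subgroup.centralizer (Q : Set G) := by
    intro d hd
    rw [Subgroup.mem_centralizer_iff]
    intro q hq
    obtain ⟨k, rfl⟩ := Subgroup.mem_zpowers_iff.1 hq
    exact ((Commute.zpow_right (hycomm d hd) k).eq).symm
  have hQC : Q ≤ Subgroup.centralizer (Q : Set G) := hQD.trans hDC
  obtain ⟨f, hQf, hle⟩ := exists_subpairLE hM _ D Q e hmax.1.1 hQD le_rfl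
  have hBf : IsBrauerPairOf p M B Q f :=
    (Cfsg.Agent.S4658.result p M hM D Q e f hmax.1.1 hQf hle B hB).1 hmax.1
  have hind := isInducedBlock_of_isBrauerPairOf hM Q hQC hBf
  obtain ⟨⟨Df, hDf, hDle⟩, -⟩ := centralizer_defectGroup_of_subpairLE hM hmax hQD hQf.2 hle
  refine ⟨y, hyo, f, hQf.2, ?_, ?_⟩
  · intro h
    apply hBne
    have h1 := (Cfsg.Agent.S0936.result p M hM _ f ⟨_, hind⟩).2 h
    exact isInducedBlock_unique hMp _ hind h1
  · have h1 := card_of_isDefectGroup hM hQf.2 hDf
    have h2 := Subgroup.card_le_of_le hDle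
    have h3 : Nat.card ((D ⊓ Subgroup.centralizer (Q : Set G)).subgroupOf
        (Subgroup.centralizer (Q : Set G))) = Nat.card D := by
      rw [inf_eq_left.2 hDC]
      exact Nat.card_congr (Subgroup.subgroupOfEquivOfLe hDC).toEquiv
    rw [h3, h1, hDcard] at h2
    exact (Nat.pow_le_pow_iff_right hp.one_lt).1 h2

/-- Transport of the deficiency hypothesis along an equality of subgroups. -/
theorem deficiency_transport (r : ℕ) {K K' : Subgroup G} (hK : K' = K)
    (h : ∀ B' : Set (IrrCharacter K), IsPBlock M B' → B' ≠ principalBlock M K →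
      blockDefect p B' < r) :
    ∀ B' : Set (IrrCharacter K'), IsPBlock M B' → B' ≠ principalBlock M K' →
      blockDefect p B' < r := by
  subst hK
  exact h

/-- Deficiency class passes up from centralizers of elements of order `p`. -/
theorem deficiency_up [Fact p.Prime] (hM : IsPModular p M) (r : ℕ) (hr : 0 < r)
    (hC : ∀ y : G, orderOf y = p →
      ∀ B' : Set (IrrCharacter (Subgroup.centralizer ({y} : Set G))), IsPBlock M B' →
        B' ≠ principalBlock M (Subgroup.centralizer ({y} : Set G)) → blockDefect p B' < r)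
    (B : Set (IrrCharacter G)) (hB : IsPBlock M B) (hBne : B ≠ principalBlock M G) :
    blockDefect p B < r := by
  by_contra hcon
  push Not at hcon
  obtain ⟨y, hy, f, hf, hfne, hdf⟩ := exists_nonprincipal_centralizer hM hB hBne
    (lt_of_lt_of_le hr hcon)
  have hcent : Subgroup.centralizer ((Subgroup.zpowers y : Subgroup G) : Set G) =
      Subgroup.centralizer ({y} : Set G) := by
    rw [Subgroup.zpowers_eq_closure, Subgroup.centralizer_closure]
  have := deficiency_transport (p := p) (M := M) r hcent (hC y hy) f hf hfne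
  omega

end

end Cfsg.Agent.Lib.Helper8
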