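import Mathlib
import Cfsg.Prelude.Def_Blocks
import Cfsg.Prelude.Def_BrauerPairs
import Cfsg.Agent.Lib.Helper8.DC2
import Cfsg.Agent.Lib.Helper8.VK12

/-!
# The subsections attached to the central elements of a defect group
-/

set_option autoImplicit false
set_option linter.unusedSectionVars false
set_option maxHeartbeats 800000

namespace Cfsg.Agent.Lib.Helper8.BHI

open Cfsg Cfsg.Agent.Lib.Helper8 Cfsg.Agent.Lib.Helper8.VK
open scoped ComplexConjugate
open Cfsg.Agent.Lib.Helper1 Cfsg.Agent.Lib.Helper4

universe u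

section

variable {G : Type u} [Group G] [Fintype G] {M : Ideal AlgInt} {p : ℕ} [Fact p.Prime]

/-- The block of `C_G(Q)` lying below the pair `(D, e)`. -/
noncomputable def subB (p : ℕ) (M : Ideal AlgInt) (D : Subgroup G)
    (e : Set (IrrCharacter (Subgroup.centralizer (D : Set G)))) (Q : Subgroup G) :
    Set (IrrCharacter (Subgroup.centralizer (Q : Set G))) :=
  by classical exact if h : ∃ f, SubpairLE p M Q f D e then h.choose else ∅

omit [Fintype G] [Fact p.Prime] in
theorem subB_spec {D : Subgroup G} {e : Set (IrrCharacter (Subgroup.centralizer (D : Set G)))}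
    {Q : Subgroup G} (h : ∃ f, SubpairLE p M Q f D e) : SubpairLE p M Q (subB p M D e Q) D e := by
  classical
  unfold subB
  rw [dif_pos h]
  exact h.choose_spec

theorem subB_eq (hM : IsPModular p M) {D : Subgroup G}
    {e : Set (IrrCharacter (Subgroup.centralizer (D : Set G)))} (hDe : IsBrauerPair p M D e)
    {Q : Subgroup G} {f : Set (IrrCharacter (Subgroup.centralizer (Q : Set G)))}
    (h : SubpairLE p M Q f D e) : subB p M D e Q = f :=
  subpairLE_unique hM _ ⟨D, e⟩ hDe le_rfl Q _ _ (subB_spec ⟨f, h⟩) h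

/-- The subsection attached to a central element of the defect group is major. -/
theorem central_subsection (hM : IsPModular p M) {B : Set (IrrCharacter G)} {D : Subgroup G}
    {e : Set (IrrCharacter (Subgroup.centralizer (D : Set G)))}
    (hmax : IsMaximalBrauerPair p M B D e) {y : G} (hyD : y ∈ D)
    (hycomm : ∀ d ∈ D, d * y = y * d) :
    SubpairLE p M (Subgroup.zpowers y) (subB p M D e (Subgroup.zpowers y)) D e ∧
    IsBrauerPairOf p M B (Subgroup.zpowers y) (subB p M D e (Subgroup.zpowers y)) ∧
    IsInducedBlock M (Subgroup.centralizer ((Subgroup.zpowers y : Subgroup G) : Set G))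
      (subB p M D e (Subgroup.zpowers y)) B ∧
    blockDefect p (subB p M D e (Subgroup.zpowers y)) = blockDefect p B := by
  classical
  have hp : p.Prime := Fact.out
  have hB : IsPBlock M B := hmax.1.2.1
  have hD : IsDefectGroup p M B D := isDefectGroup_of_isMaximalBrauerPair hM hmax
  have hDcard := card_of_isDefectGroup hM hB hD
  obtain ⟨f, hle, hBf⟩ := exists_subpair_zpowers hM hmax hyD
  have hfeq : subB p M D e (Subgroup.zpowers y) = f := subB_eq hM hmax.1.1 hle
  rw [hfeq]
  have hind := induced_of_pair_zpowers hM hBf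
  refine ⟨hle, hBf, hind, le_antisymm (blockDefect_le_of_induced hM _ hind) ?_⟩
  set Q : Subgroup G := Subgroup.zpowers y with hQ
  have hQD : Q ≤ D := by
    rw [hQ, Subgroup.zpowers_le]
    exact hyD
  have hDC : D ≤ Subgroup.centralizer (Q : Set G) := by
    intro d hd
    rw [Subgroup.mem_centralizer_iff]
    intro q hq
    obtain ⟨k, rfl⟩ := Subgroup.mem_zpowers_iff.1 hq
    exact ((Commute.zpow_right (hycomm d hd) k).eq).symm
  obtain ⟨⟨Df, hDf, hDle⟩, -⟩ := centralizer_defectGroup_of_subpairLE hM hmax hQD hBf.1.2 hle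
  have h1 := card_of_isDefectGroup hM hBf.1.2 hDf
  have h2 := Subgroup.card_le_of_le hDle
  have h3 : Nat.card ((D ⊓ Subgroup.centralizer (Q : Set G)).subgroupOf
      (Subgroup.centralizer (Q : Set G))) = Nat.card D := by
    rw [inf_eq_left.2 hDC]
    exact Nat.card_congr (Subgroup.subgroupOfEquivOfLe hDC).toEquiv
  rw [h3, h1, hDcard] at h2
  exact (Nat.pow_le_pow_iff_right hp.one_lt).1 h2

end

end Cfsg.Agent.Lib.Helper8.BHI
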