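import Mathlib
import Cfsg.Prelude.Def_Blocks
import Cfsg.Prelude.Def_BrauerPairs
import Cfsg.Agent.Lib.Helper8.BHI5
import Cfsg.Agent.Lib.Helper8.BHI6

/-!
# The lower bound for the sum of the diagonal contributions over the centre of a defect group
-/

set_option autoImplicit false
set_option linter.unusedSectionVars false
set_option maxHeartbeats 800000

namespace Cfsg.Agent.Lib.Helper8.BHI

open Cfsg Cfsg.Agent.Lib.Helper8 Cfsg.Agent.Lib.Helper8.VK
open scoped ComplexConjugate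
open Cfsg.Agent.Lib.Helper1 Cfsg.Agent.Lib.Helper4

universe u

section

variable {G : Type u} [Group G] [Fintype G] {M : Ideal AlgInt} {p : ℕ} [Fact p.Prime]

/-- The diagonal contribution at `ψ` of the subsection `(y, b)` with `b` the block of `C_G(Q)`
below `(D, e)`. -/
noncomputable def mQ (p : ℕ) (M : Ideal AlgInt) (D : Subgroup G)
    (e : Set (IrrCharacter (Subgroup.centralizer (D : Set G)))) (ψ : G → ℂ) (Q : Subgroup G)
    (y : G) : ℝ :=
  haveI : Fintype (Subgroup.centralizer (Q : Set G)) := Fintype.ofFinite _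
  (contrib p (Subgroup.centralizer (Q : Set G)) (subB p M D e Q) y ψ ψ).re

omit [Fintype G] [Fact p.Prime] in
theorem zpowers_pow_eq_of_coprime {H : Type*} [Group H] (g : H) {k : ℕ}
    (hk : k.Coprime (orderOf g)) : Subgroup.zpowers (g ^ k) = Subgroup.zpowers g :=
  le_antisymm (Subgroup.zpowers_le.2 (Subgroup.pow_mem _ (Subgroup.mem_zpowers g) k))
    (Subgroup.zpowers_le.2 (mem_zpowers_pow_iff.2 hk))

/-- **Lower bound**: the scaled diagonal contributions summed over the centre of the defect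
group. -/
theorem sum_center_ge (hM : IsPModular p M) {B : Set (IrrCharacter G)} {D : Subgroup G}
    {e : Set (IrrCharacter (Subgroup.centralizer (D : Set G)))}
    (hmax : IsMaximalBrauerPair p M B D e) {ψ : IrrCharacter G} (hψ : ψ ∈ B)
    [Fintype (Subgroup.center D)] :
    (Nat.card (Subgroup.center D) : ℝ) * (p : ℝ) ^ (blockHeight p B (ψ : G → ℂ)) ≤
      ∑ z : Subgroup.center D, (p : ℝ) ^ (blockDefect p B) *
        mQ p M D e (ψ : G → ℂ) (Subgroup.zpowers (((z : D) : G))) (((z : D) : G)) := by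
  classical
  have hp : p.Prime := Fact.out
  have hDp : IsPGroup p D := hmax.1.1.1
  obtain ⟨N, hN⟩ : ∃ N, N = Nat.card G := ⟨_, rfl⟩
  have hN0 : NeZero N := ⟨hN ▸ Nat.card_pos.ne'⟩
  let K := CyclotomicField N ℚ
  have hcyc : IsCyclotomicExtension {N} ℚ K :=
    CyclotomicField.instIsCyclotomicExtensionSingletonNatSetOfCharZero N ℚ
  let ι : K →+* ℂ := ((IsAlgClosed.lift : K →ₐ[ℚ] ℂ) : K →+* ℂ)
  have hfd : FiniteDimensional ℚ K := IsCyclotomicExtension.finiteDimensional {N} ℚ K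
  have hk : ∀ σ : K ≃ₐ[ℚ] K, ∃ k : ℕ, k.Coprime N ∧ ∀ z : K, z ^ N = 1 → σ z = z ^ k :=
    fun σ => aut_pow N σ
  choose k hk1 hk2 using hk
  have hfin : Finite (K ≃ₐ[ℚ] K) := inferInstance
  have : Fintype (K ≃ₐ[ℚ] K) := Fintype.ofFinite _
  have hn : ∀ g : G, g ^ N = 1 := fun g => hN ▸ pow_card_eq_one'
  have hcop : ∀ σ, (Nat.card G).Coprime (k σ) := fun σ => (hN ▸ hk1 σ).symm
  have hcardpos : (0 : ℝ) < Fintype.card (K ≃ₐ[ℚ] K) := by
    exact_mod_cast Fintype.card_pos
  set h := blockHeight p B (ψ : G → ℂ) with hh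
  set d := blockDefect p B with hd
  -- the facts about a central element
  have hzD : ∀ z : Subgroup.center D, (((z : D) : G)) ∈ D := fun z => (z : D).2
  have hzcomm : ∀ z : Subgroup.center D, ∀ x ∈ D, x * (((z : D) : G)) = (((z : D) : G)) * x := by
    intro z x hx
    have := Subgroup.mem_center_iff.1 z.2 ⟨x, hx⟩
    exact congrArg Subtype.val this
  have hzord : ∀ z : Subgroup.center D, ∃ j : ℕ, orderOf (((z : D) : G)) = p ^ j := by
    intro z
    obtain ⟨j, hj⟩ := hDp (z : D)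
    obtain ⟨i, -, hi⟩ := (Nat.dvd_prime_pow hp).1 (orderOf_dvd_of_pow_eq_one hj)
    exact ⟨i, by rw [← hi, Subgroup.orderOf_coe]⟩
  -- each central element
  have hone : ∀ z : Subgroup.center D, (Fintype.card (K ≃ₐ[ℚ] K) : ℝ) * (p : ℝ) ^ h ≤
      ∑ σ : K ≃ₐ[ℚ] K, (p : ℝ) ^ d *
        mQ p M D e (ψ : G → ℂ) (Subgroup.zpowers (((z : D) : G))) ((((z : D) : G)) ^ k σ) := by
    intro z
    obtain ⟨-, -, hind, hdef⟩ := central_subsection hM hmax (hzD z) (hzcomm z)
    have hC := mem_centralizer_zpowers_iff (((z : D) : G))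
    have := sum_galois_contrib_ge N ι k hk2 hn hcop hM
      (Subgroup.centralizer ((Subgroup.zpowers (((z : D) : G)) : Subgroup G) : Set G))
      hC (hzord z) hind hdef hψ
    refine this.trans (le_of_eq ?_)
    refine Finset.sum_congr rfl fun σ _ => ?_
    unfold mQ
    congr 3
    exact Subsingleton.elim _ _
  -- the power maps permute the centre
  have hcopZ : ∀ σ, (Nat.card (Subgroup.center D)).Coprime (k σ) := by
    intro σ
    apply Nat.Coprime.coprime_dvd_left _ (hcop σ)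
    exact (Subgroup.card_subgroup_dvd_card _).trans (Subgroup.card_subgroup_dvd_card D)
  have hperm : ∀ σ : K ≃ₐ[ℚ] K, ∑ z : Subgroup.center D, (p : ℝ) ^ d *
        mQ p M D e (ψ : G → ℂ) (Subgroup.zpowers (((z : D) : G))) ((((z : D) : G)) ^ k σ) =
      ∑ z : Subgroup.center D, (p : ℝ) ^ d *
        mQ p M D e (ψ : G → ℂ) (Subgroup.zpowers (((z : D) : G))) (((z : D) : G)) := by
    intro σ
    rw [← (powCoprime (hcopZ σ)).sum_comp (fun z : Subgroup.center D => (p : ℝ) ^ d *
        mQ p M D e (ψ : G → ℂ) (Subgroup.zpowers (((z : D) : G))) (((z : D) : G)))]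
    refine Finset.sum_congr rfl fun z _ => ?_
    have h1 : ((((powCoprime (hcopZ σ) z : Subgroup.center D) : D) : G)) =
        (((z : D) : G)) ^ k σ := by
      rw [powCoprime_apply]
      push_cast
      rfl
    have hkord : (k σ).Coprime (orderOf (((z : D) : G))) :=
      Nat.Coprime.coprime_dvd_right (orderOf_dvd_natCard _) (hcop σ).symm
    rw [h1, zpowers_pow_eq_of_coprime _ hkord]
  have hsum : (Nat.card (Subgroup.center D) : ℝ) * ((Fintype.card (K ≃ₐ[ℚ] K) : ℝ) * (p : ℝ) ^ h) ≤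
      (Fintype.card (K ≃ₐ[ℚ] K) : ℝ) * ∑ z : Subgroup.center D, (p : ℝ) ^ d *
        mQ p M D e (ψ : G → ℂ) (Subgroup.zpowers (((z : D) : G))) (((z : D) : G)) := by
    have h1 := Finset.sum_le_sum (fun (z : Subgroup.center D) (_ : z ∈ Finset.univ) => hone z)
    rw [Finset.sum_const, nsmul_eq_mul, Finset.card_univ, Finset.sum_comm,
      Finset.sum_congr rfl (fun σ _ => hperm σ), Finset.sum_const, nsmul_eq_mul,
      Finset.card_univ] at h1
    rw [Nat.card_eq_fintype_card]
    exact h1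
  have h3 : (Fintype.card (K ≃ₐ[ℚ] K) : ℝ) *
      ((Nat.card (Subgroup.center D) : ℝ) * (p : ℝ) ^ h) ≤
      (Fintype.card (K ≃ₐ[ℚ] K) : ℝ) * ∑ z : Subgroup.center D, (p : ℝ) ^ d *
        mQ p M D e (ψ : G → ℂ) (Subgroup.zpowers (((z : D) : G))) (((z : D) : G)) := by
    calc (Fintype.card (K ≃ₐ[ℚ] K) : ℝ) * ((Nat.card (Subgroup.center D) : ℝ) * (p : ℝ) ^ h)
        = (Nat.card (Subgroup.center D) : ℝ) * ((Fintype.card (K ≃ₐ[ℚ] K) : ℝ) * (p : ℝ) ^ h) := by
          ring
      _ ≤ _ := hsum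
  exact le_of_mul_le_mul_left h3 hcardpos

end

end Cfsg.Agent.Lib.Helper8.BHI
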