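import Mathlib
import Cfsg.Prelude.Def_Blocks
import Cfsg.Prelude.Def_BlockRank
import Cfsg.Agent.Lib.Helper8.Sub11
import Cfsg.Agent.Lib.Helper8.Sub10
import Cfsg.Agent.Lib.Helper8.BHI4

/-!
# The norm of an irreducible character distributed over the subsections
-/

set_option autoImplicit false
set_option linter.unusedSectionVars false

namespace Cfsg.Agent.Lib.Helper8.BHI

open Cfsg Cfsg.Agent.Lib.Helper8
open scoped ComplexConjugate
open Cfsg.Agent.Lib.Helper1 Cfsg.Agent.Lib.Helper4

universe u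

section

variable {G : Type u} [Group G] [Fintype G] {M : Ideal AlgInt} {p : ℕ}

/-- The norm of an irreducible character over the sections, for an arbitrary family of
centralizers. -/
theorem one_eq_sum_sections_gen (hp : p.Prime) (X : Finset G)
    (hX : ∀ x ∈ X, ∃ k : ℕ, orderOf x = p ^ k)
    (hXrep : ∀ g : G, (∃ k : ℕ, orderOf g = p ^ k) → ∃! x, x ∈ X ∧ IsConj g x)
    (C : G → Subgroup G) (hC : ∀ x t, t ∈ C x ↔ t * x = x * t) [∀ x : G, Fintype (C x)]
    (χ : IrrCharacter G) :
    (1 : ℝ) = ∑ x ∈ X, (Nat.card (C x) : ℝ)⁻¹ *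
      ∑ c : C x, Complex.normSq (pRegularPart p (secFun (C x) x (χ : G → ℂ)) c) := by
  classical
  have hG0 : (Nat.card G : ℂ) ≠ 0 := Nat.cast_ne_zero.2 Nat.card_pos.ne'
  have h1 := classInner_irr_self χ.2
  rw [classInner_def] at h1
  have hF : IsClassFunction G (fun g => (χ : G → ℂ) g * conj ((χ : G → ℂ) g)) := by
    intro g h
    show (χ : G → ℂ) (h * g * h⁻¹) * conj ((χ : G → ℂ) (h * g * h⁻¹)) = _
    rw [isClassFunction_irr χ.2 g h]
  rw [sum_eq_sum_sections hp X hXrep _ hF, Finset.mul_sum] at h1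
  have h2 : ((1 : ℝ) : ℂ) = ((∑ x ∈ X, (Nat.card (C x) : ℝ)⁻¹ *
      ∑ c : C x, Complex.normSq (pRegularPart p (secFun (C x) x (χ : G → ℂ)) c) : ℝ) : ℂ) := by
    rw [Complex.ofReal_one, ← h1, Complex.ofReal_sum]
    refine Finset.sum_congr rfl fun x hx => ?_
    have hCeq : C x = Subgroup.centralizer ({x} : Set G) := by
      ext t
      rw [hC, Subgroup.mem_centralizer_singleton_iff]
    have hcard : Nat.card (Subgroup.centralizer ({x} : Set G)) = Nat.card (C x) := by
      rw [hCeq]
    rw [sum_isPPart_eq_sum_centralizer x (hX x hx) (C x) (hC x), hcard, ← mul_assoc, ← mul_assoc,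
      inv_mul_cancel₀ hG0, one_mul, Complex.ofReal_mul, Complex.ofReal_inv, Complex.ofReal_natCast,
      Complex.ofReal_sum]
    congr 1
    refine Finset.sum_congr rfl fun c _ => ?_
    by_cases hc : p ∣ orderOf c
    · rw [if_pos hc, pRegularPart_of_dvd _ hc]; simp
    · rw [if_neg hc, pRegularPart_of_not_dvd _ hc, Complex.mul_conj]
      rfl
  exact_mod_cast h2

/-- The diagonal contributions of the subsections with a fixed element add up to the norm of the
section. -/
theorem sum_blocks_contrib_re (hM : IsPModular p M) (C : Subgroup G) [Fintype C] {x : G}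
    (hC : ∀ t, t ∈ C ↔ t * x = x * t) {ζ : G → ℂ} (hζ : IsClassFunction G ζ) :
    ∑ b ∈ blocksFinset M C, (contrib p C b x ζ ζ).re =
      (Nat.card C : ℝ)⁻¹ * ∑ c : C, Complex.normSq (pRegularPart p (secFun C x ζ) c) := by
  have hcf : IsClassFunction C (secFun C x ζ) := isClassFunction_section C hC hζ
  rw [← sum_blocks_normSq hM hcf, Finset.mul_sum]
  refine Finset.sum_congr rfl fun b hb => ?_
  rw [mem_blocksFinset] at hb
  rw [contrib_self_re_eq hM C hC hb hζ]
  rfl

/-- **The norm of an irreducible character over the subsections.** -/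
theorem one_eq_sum_subsections (hM : IsPModular p M) (X : Finset G)
    (hX : ∀ x ∈ X, ∃ k : ℕ, orderOf x = p ^ k)
    (hXrep : ∀ g : G, (∃ k : ℕ, orderOf g = p ^ k) → ∃! x, x ∈ X ∧ IsConj g x)
    (C : G → Subgroup G) (hC : ∀ x t, t ∈ C x ↔ t * x = x * t) [∀ x : G, Fintype (C x)]
    (χ : IrrCharacter G) :
    (1 : ℝ) = ∑ x ∈ X, ∑ b ∈ blocksFinset M (C x),
      (contrib p (C x) b x (χ : G → ℂ) (χ : G → ℂ)).re := by
  rw [one_eq_sum_sections_gen hM.1 X hX hXrep C hC χ]
  refine Finset.sum_congr rfl fun x _ => ?_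
  rw [sum_blocks_contrib_re hM (C x) (hC x) (isClassFunction_irr χ.2)]

end

end Cfsg.Agent.Lib.Helper8.BHI
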