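import Mathlib
import Cfsg.Prelude.Def_Blocks
import Cfsg.Prelude.Def_BlockRank
import Cfsg.Agent.Lib.Helper8.BlockIso
import Cfsg.Agent.Lib.Helper8.BlockInduced
import Cfsg.Agent.Lib.Helper8.PairConj
import Cfsg.Agent.Lib.Helper8.KF5

/-!
# The rank sum of the blocks of a subgroup inducing a given block, and its invariance
-/

set_option autoImplicit false

namespace Cfsg.Agent.Lib.Helper8.KR

open Cfsg Cfsg.Agent.Lib.Helper8
open scoped ComplexConjugate
open Cfsg.Agent.Lib.Helper1 Cfsg.Agent.Lib.Helper4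

universe u

section

variable {G : Type u} [Group G] {M : Ideal AlgInt} {p : ℕ}

/-- The sum of the ranks of the blocks of `K` inducing `B`. -/
noncomputable def lam (M : Ideal AlgInt) (p : ℕ) (K : Subgroup G) (B : Set (IrrCharacter G)) : ℕ :=
  ∑ᶠ γ ∈ {γ : Set (IrrCharacter K) | IsInducedBlock M K γ B}, blockRank p γ

theorem lam_congr {K K' : Subgroup G} (h : K = K') (B : Set (IrrCharacter G)) :
    lam M p K B = lam M p K' B := by
  subst h
  rfl

variable [Fintype G]

theorem inducedCentralChar_irrMap_of_conj {K K' : Subgroup G} [Fintype K] [Fintype K']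
    (e : K ≃* K') (he : ∀ k : K, IsConj ((e k : K') : G) (k : G)) (ξ : IrrCharacter K) (g : G) :
    inducedCentralChar K' (irrMap e ξ : K' → ℂ) g = inducedCentralChar K (ξ : K → ℂ) g := by
  rw [inducedCentralChar_eq_omega, inducedCentralChar_eq_omega, omega_irrMap]
  congr 1
  funext k
  unfold classIndicator
  have : IsConj g ((e k : K') : G) ↔ IsConj g (k : G) :=
    ⟨fun h => h.trans (he k), fun h => h.trans (he k).symm⟩
  by_cases hc : IsConj g (k : G)
  · rw [if_pos hc, if_pos (this.2 hc)]
  · rw [if_neg hc, if_neg (fun h => hc (this.1 h))]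

theorem isInducedBlock_image_irrMap {K K' : Subgroup G}
    (e : K ≃* K') (he : ∀ k : K, IsConj ((e k : K') : G) (k : G))
    {γ : Set (IrrCharacter K)} {B : Set (IrrCharacter G)} (h : IsInducedBlock M K γ B) :
    IsInducedBlock M K' (irrMap e '' γ) B := by
  classical
  have : Fintype K := Fintype.ofFinite _
  have : Fintype K' := Fintype.ofFinite _
  refine ⟨isPBlock_image_irrMap e h.1, h.2.1, ?_⟩
  rintro _ ⟨ξ, hξ, rfl⟩ χ hχ g
  rw [inducedCentralChar_irrMap_of_conj e he]
  exact h.2.2 ξ hξ χ hχ g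

theorem lam_eq_of_conj {K K' : Subgroup G}
    (e : K ≃* K') (he : ∀ k : K, IsConj ((e k : K') : G) (k : G)) (B : Set (IrrCharacter G)) :
    lam M p K' B = lam M p K B := by
  have he' : ∀ k' : K', IsConj ((e.symm k' : K) : G) (k' : G) := by
    intro k'
    have := he (e.symm k')
    rw [MulEquiv.apply_symm_apply] at this
    exact this.symm
  have himg : {γ : Set (IrrCharacter K') | IsInducedBlock M K' γ B} =
      (fun γ : Set (IrrCharacter K) => irrMap e '' γ) ''
        {γ : Set (IrrCharacter K) | IsInducedBlock M K γ B} := by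
    ext γ'
    constructor
    · intro h
      refine ⟨irrMap e.symm '' γ', isInducedBlock_image_irrMap e.symm he' h, ?_⟩
      exact irrMap_image_symm_image e γ'
    · rintro ⟨γ, hγ, rfl⟩
      exact isInducedBlock_image_irrMap e he hγ
  unfold lam
  rw [himg, finsum_mem_image]
  · exact finsum_mem_congr rfl fun γ _ => blockRank_image_irrMap e γ
  · intro γ₁ _ γ₂ _ h
    exact (Set.image_injective.2 (irrMap_injective e)) h

/-- Conjugation between centralizers of conjugate elements. -/
def centSingConj (y g : G) :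
    Subgroup.centralizer ({y} : Set G) ≃* Subgroup.centralizer ({g * y * g⁻¹} : Set G) where
  toFun k := ⟨g * (k : G) * g⁻¹, by
    have hk := Subgroup.mem_centralizer_singleton_iff.1 k.2
    rw [Subgroup.mem_centralizer_singleton_iff]
    calc g * (k : G) * g⁻¹ * (g * y * g⁻¹) = g * ((k : G) * y) * g⁻¹ := by group
      _ = g * (y * (k : G)) * g⁻¹ := by rw [hk]
      _ = g * y * g⁻¹ * (g * (k : G) * g⁻¹) := by group⟩
  invFun k := ⟨g⁻¹ * (k : G) * g, by
    have hk := Subgroup.mem_centralizer_singleton_iff.1 k.2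
    rw [Subgroup.mem_centralizer_singleton_iff]
    have h2 : g⁻¹ * ((k : G) * (g * y * g⁻¹)) * g = g⁻¹ * ((g * y * g⁻¹) * (k : G)) * g := by
      rw [hk]
    calc g⁻¹ * (k : G) * g * y = g⁻¹ * ((k : G) * (g * y * g⁻¹)) * g := by group
      _ = g⁻¹ * ((g * y * g⁻¹) * (k : G)) * g := h2
      _ = y * (g⁻¹ * (k : G) * g) := by group⟩
  left_inv k := by
    apply Subtype.ext
    show g⁻¹ * (g * (k : G) * g⁻¹) * g = (k : G)
    group
  right_inv k := by
    apply Subtype.ext
    show g * (g⁻¹ * (k : G) * g) * g⁻¹ = (k : G)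
    group
  map_mul' a b := by
    apply Subtype.ext
    show g * ((a : G) * (b : G)) * g⁻¹ = g * (a : G) * g⁻¹ * (g * (b : G) * g⁻¹)
    group

omit [Fintype G] in
theorem centSingConj_isConj (y g : G) (k : Subgroup.centralizer ({y} : Set G)) :
    IsConj ((centSingConj y g k : Subgroup.centralizer ({g * y * g⁻¹} : Set G)) : G) (k : G) := by
  rw [isConj_iff]
  refine ⟨g⁻¹, ?_⟩
  show g⁻¹ * (g * (k : G) * g⁻¹) * g⁻¹⁻¹ = (k : G)
  group

theorem lam_centralizer_conj (y g : G) (B : Set (IrrCharacter G)) :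
    lam M p (Subgroup.centralizer ({g * y * g⁻¹} : Set G)) B =
      lam M p (Subgroup.centralizer ({y} : Set G)) B :=
  lam_eq_of_conj (centSingConj y g) (centSingConj_isConj y g) B

end

end Cfsg.Agent.Lib.Helper8.KR
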