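import Mathlib
import Cfsg.Prelude.Def_Blocks
import Cfsg.Prelude.Def_BlockRank
import Cfsg.Agent.Lib.Helper8.Sub13
import Cfsg.Agent.Lib.Helper8.BlockInduced
import Cfsg.Agent.Lib.Helper8.PairConj
import Cfsg.Agent.Lib.Helper8.KF5

/-!
# The subsection formula with the trivial section split off
-/

set_option autoImplicit false
set_option maxHeartbeats 1600000

namespace Cfsg.Agent.Lib.Helper8.VK

open Cfsg Cfsg.Agent.Lib.Helper8
open scoped ComplexConjugate
open Cfsg.Agent.Lib.Helper1 Cfsg.Agent.Lib.Helper4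

universe u

section

variable {G : Type u} [Group G] [Fintype G] {M : Ideal AlgInt} {p : ℕ}

theorem inducedCentralChar_top (ξ : IrrCharacter (⊤ : Subgroup G)) (g : G) :
    inducedCentralChar ⊤ (ξ : (⊤ : Subgroup G) → ℂ) g =
      centralChar (irrMap Subgroup.topEquiv ξ : G → ℂ) g := by
  classical
  rw [inducedCentralChar_eq_omega,
    ← omega_classIndicator (isClassFunction_irr (irrMap Subgroup.topEquiv ξ).2), omega_irrMap]
  rfl

theorem isInducedBlock_top_iff (hM : M.IsPrime) {B : Set (IrrCharacter G)} (hB : IsPBlock M B)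
    (b : Set (IrrCharacter (⊤ : Subgroup G))) :
    IsInducedBlock M ⊤ b B ↔ b = irrMap Subgroup.topEquiv.symm '' B := by
  constructor
  · rintro ⟨hb, -, hc⟩
    obtain ⟨ξ, hξ⟩ := isPBlock_nonempty hM hb
    obtain ⟨χ, hχ⟩ := isPBlock_nonempty hM hB
    have h1 : SameBlock M (irrMap Subgroup.topEquiv ξ : G → ℂ) (χ : G → ℂ) := by
      intro g
      rw [← inducedCentralChar_top]
      exact hc ξ hξ χ hχ g
    have hBχ := eq_blockOf_of_mem hM hB hχ
    have h2 : irrMap Subgroup.topEquiv ξ ∈ B := by
      rw [hBχ]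
      exact sameBlock_symm h1
    have himg : IsPBlock M (irrMap Subgroup.topEquiv '' b) := isPBlock_image_irrMap _ hb
    have h3 : irrMap Subgroup.topEquiv '' b = B := by
      rw [eq_blockOf_of_mem hM himg ⟨ξ, hξ, rfl⟩, eq_blockOf_of_mem hM hB h2]
    rw [← h3, irrMap_image_image_symm]
  · rintro rfl
    refine ⟨isPBlock_image_irrMap _ hB, hB, ?_⟩
    rintro _ ⟨χ₀, hχ₀, rfl⟩ χ hχ g
    rw [inducedCentralChar_top, irrMap_irrMap_symm]
    have hBχ := eq_blockOf_of_mem hM hB hχ₀
    rw [hBχ] at hχ
    exact hχ g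

/-- The subsections at an element with centralizer `⊤` contribute the rank of the block. -/
theorem finsum_induced_top (hM : M.IsPrime) {B : Set (IrrCharacter G)} (hB : IsPBlock M B)
    (H : Subgroup G) (hH : H = ⊤) :
    ∑ᶠ b ∈ {b : Set (IrrCharacter H) | IsInducedBlock M H b B}, blockRank p b =
      blockRank p B := by
  subst hH
  have hset : {b : Set (IrrCharacter (⊤ : Subgroup G)) | IsInducedBlock M ⊤ b B} =
      {irrMap Subgroup.topEquiv.symm '' B} := by
    ext b
    rw [Set.mem_ofPred_eq, Set.mem_singleton_iff]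
    exact isInducedBlock_top_iff hM hB b
  rw [hset, finsum_mem_singleton, blockRank_image_irrMap]

omit [Fintype G] in
theorem finsum_induced_congr {B : Set (IrrCharacter G)} (H H' : Subgroup G) (h : H = H') :
    ∑ᶠ b ∈ {b : Set (IrrCharacter H) | IsInducedBlock M H b B}, blockRank p b =
      ∑ᶠ b ∈ {b : Set (IrrCharacter H') | IsInducedBlock M H' b B}, blockRank p b := by
  subst h
  rfl

/-- **The subsection formula** with the trivial section split off, for a block all of whose
nontrivial subsections have rank one. -/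
theorem card_block_eq_rank_add [DecidableEq G] (hM : IsPModular p M) {B : Set (IrrCharacter G)}
    (hB : IsPBlock M B) (X : Finset G) (hX : ∀ x ∈ X, ∃ k : ℕ, orderOf x = p ^ k)
    (hXrep : ∀ g : G, (∃ k : ℕ, orderOf g = p ^ k) → ∃! x, x ∈ X ∧ IsConj g x)
    (hrank : ∀ x ∈ X, x ≠ 1 → ∀ f : Set (IrrCharacter
      (Subgroup.centralizer ((Subgroup.zpowers x : Subgroup G) : Set G))),
      IsInducedBlock M (Subgroup.centralizer ((Subgroup.zpowers x : Subgroup G) : Set G)) f B →
        blockRank p f = 1) :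
    Nat.card B = blockRank p B + ∑ x ∈ X.erase 1,
      Nat.card {f : Set (IrrCharacter
        (Subgroup.centralizer ((Subgroup.zpowers x : Subgroup G) : Set G))) //
        IsInducedBlock M (Subgroup.centralizer ((Subgroup.zpowers x : Subgroup G) : Set G)) f B} := by
  classical
  have hMp := isPModular_isPrime hM
  have hkey := card_block_eq_sum_blockRank hM hB X hX hXrep
  have h1X : (1 : G) ∈ X := by
    obtain ⟨x, ⟨hxX, hx⟩, -⟩ := hXrep 1 ⟨0, by rw [orderOf_one, pow_zero]⟩
    have hx1 : x = 1 := isConj_one_right.1 hx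
    rw [hx1] at hxX
    exact hxX
  rw [← Finset.add_sum_erase X _ h1X] at hkey
  have hcent : ∀ x : G, Subgroup.centralizer ({x} : Set G) =
      Subgroup.centralizer ((Subgroup.zpowers x : Subgroup G) : Set G) := by
    intro x
    rw [Subgroup.zpowers_eq_closure, Subgroup.centralizer_closure]
  have htop : Subgroup.centralizer ({(1 : G)} : Set G) = ⊤ := by
    rw [Subgroup.centralizer_eq_top_iff_subset]
    intro z hz
    rw [Set.mem_singleton_iff] at hz
    rw [hz]
    exact Subgroup.one_mem _
  rw [finsum_induced_top hMp hB _ htop] at hkey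
  rw [hkey]
  congr 1
  refine Finset.sum_congr rfl fun x hx => ?_
  obtain ⟨hx1, hxX⟩ := Finset.mem_erase.1 hx
  rw [finsum_induced_congr _ _ (hcent x)]
  set s := {f : Set (IrrCharacter
      (Subgroup.centralizer ((Subgroup.zpowers x : Subgroup G) : Set G))) |
      IsInducedBlock M (Subgroup.centralizer ((Subgroup.zpowers x : Subgroup G) : Set G)) f B}
    with hs
  have hfin : s.Finite := (finite_setOf_isPBlock (M := M)).subset (fun b hb => hb.1)
  have h1 : ∑ᶠ b ∈ s, blockRank p b = ∑ᶠ b ∈ s, 1 :=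
    finsum_mem_congr rfl fun b hb => hrank x hxX hx1 b hb
  rw [h1, finsum_mem_eq_finite_toFinset_sum _ hfin, Finset.sum_const, smul_eq_mul, mul_one,
    ← Set.ncard_eq_toFinset_card s hfin]
  exact (Nat.card_coe_set_eq s).symm

end

end Cfsg.Agent.Lib.Helper8.VK
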