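import Mathlib
import Cfsg.Prelude.Def_Blocks
import Cfsg.Prelude.Def_BlockRank
import Cfsg.Agent.Lib.Helper8.KR7
import Cfsg.Agent.Lib.Helper8.Sub13
import Cfsg.Agent.Lib.Helper8.VK10

/-!
# The subsection formula as a sum over all `p`-elements
-/

set_option autoImplicit false

namespace Cfsg.Agent.Lib.Helper8.KR

open Cfsg Cfsg.Agent.Lib.Helper8
open scoped ComplexConjugate
open Cfsg.Agent.Lib.Helper1 Cfsg.Agent.Lib.Helper4

universe u

section

variable {G : Type u} [Group G]

theorem orderOf_conj_eq (g x : G) : orderOf (g * x * g⁻¹) = orderOf x := by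
  have := orderOf_injective (MulAut.conj g).toMonoidHom (MulAut.conj g).injective x
  simpa using this

variable [Fintype G] {p : ℕ}

/-- Representatives of the classes of `p`-elements. -/
theorem exists_pReps (p : ℕ) : ∃ X : Finset G, (∀ x ∈ X, ∃ k : ℕ, orderOf x = p ^ k) ∧
    ∀ g : G, (∃ k : ℕ, orderOf g = p ^ k) → ∃! x, x ∈ X ∧ IsConj g x := by
  classical
  have hr : ∀ c : ConjClasses G, ∃ x : G, ConjClasses.mk x = c := ConjClasses.exists_rep
  choose r hr using hr
  refine ⟨(Finset.univ.image r).filter (fun x => ∃ k : ℕ, orderOf x = p ^ k),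
    fun x hx => (Finset.mem_filter.1 hx).2, ?_⟩
  intro g hg
  have hconj : IsConj g (r (ConjClasses.mk g)) :=
    (ConjClasses.mk_eq_mk_iff_isConj.1 (hr (ConjClasses.mk g))).symm
  refine ⟨r (ConjClasses.mk g), ⟨Finset.mem_filter.2
    ⟨Finset.mem_image.2 ⟨_, Finset.mem_univ _, rfl⟩, ?_⟩, hconj⟩, ?_⟩
  · obtain ⟨k, hk⟩ := hg
    obtain ⟨c, hc⟩ := isConj_iff.1 hconj
    exact ⟨k, by rw [← hc, orderOf_conj_eq, hk]⟩
  · rintro x' ⟨hx', hc'⟩
    obtain ⟨c', -, rfl⟩ := Finset.mem_image.1 (Finset.mem_filter.1 hx').1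
    have h1 : ConjClasses.mk (r c') = ConjClasses.mk g :=
      ConjClasses.mk_eq_mk_iff_isConj.2 hc'.symm
    rw [hr c'] at h1
    rw [h1]

open Classical in
/-- The number of conjugators of a `p`-element into the set of representatives. -/
theorem card_conjugators [DecidableEq G] (X : Finset G)
    (hXrep : ∀ g : G, (∃ k : ℕ, orderOf g = p ^ k) → ∃! x, x ∈ X ∧ IsConj g x)
    {y : G} (hy : ∃ k : ℕ, orderOf y = p ^ k) :
    (Finset.univ.filter (fun g : G => g⁻¹ * y * g ∈ X)).card =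
      Nat.card (Subgroup.centralizer ({y} : Set G)) := by
  classical
  obtain ⟨x₀, ⟨hx₀, hc⟩, huniq⟩ := hXrep y hy
  obtain ⟨c, hc⟩ := isConj_iff.1 hc
  have hmem : ∀ g : G, g⁻¹ * y * g ∈ X ↔ g * c ∈ Subgroup.centralizer ({y} : Set G) := by
    intro g
    rw [Subgroup.mem_centralizer_singleton_iff]
    constructor
    · intro h
      have h1 : g⁻¹ * y * g = x₀ := by
        apply huniq _ ⟨h, ?_⟩
        rw [isConj_iff]
        exact ⟨g⁻¹, by rw [inv_inv]⟩
      rw [← hc] at h1
      calc g * c * y = g * (c * y * c⁻¹) * c := by group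
        _ = g * (g⁻¹ * y * g) * c := by rw [h1]
        _ = y * (g * c) := by group
    · intro h
      have h1 : g⁻¹ * y * g = c * y * c⁻¹ := by
        calc g⁻¹ * y * g = g⁻¹ * (y * (g * c)) * c⁻¹ := by group
          _ = g⁻¹ * (g * c * y) * c⁻¹ := by rw [h]
          _ = c * y * c⁻¹ := by group
      rw [h1, hc]
      exact hx₀
  rw [Nat.card_eq_fintype_card, ← Fintype.card_subtype]
  apply Fintype.card_congr
  refine ⟨fun g => ⟨g.1 * c, (hmem g.1).1 g.2⟩, fun z => ⟨z.1 * c⁻¹, (hmem _).2 ?_⟩, ?_, ?_⟩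
  · have : (z : G) * c⁻¹ * c = z := by group
    rw [this]
    exact z.2
  · intro g
    apply Subtype.ext
    show (g : G) * c * c⁻¹ = g
    group
  · intro z
    apply Subtype.ext
    show (z : G) * c⁻¹ * c = z
    group

open Classical in
/-- From a sum over representatives of the classes of `p`-elements to a sum over all
`p`-elements. -/
theorem card_mul_sum_reps [DecidableEq G] (X : Finset G)
    (hX : ∀ x ∈ X, ∃ k : ℕ, orderOf x = p ^ k)
    (hXrep : ∀ g : G, (∃ k : ℕ, orderOf g = p ^ k) → ∃! x, x ∈ X ∧ IsConj g x)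
    (F : G → ℤ) (hF : ∀ y g : G, F (g * y * g⁻¹) = F y) :
    (Nat.card G : ℤ) * ∑ x ∈ X, F x =
      ∑ y ∈ Finset.univ.filter (fun y : G => ∃ k : ℕ, orderOf y = p ^ k),
        (Nat.card (Subgroup.centralizer ({y} : Set G)) : ℤ) * F y := by
  classical
  have hL : (Nat.card G : ℤ) * ∑ x ∈ X, F x =
      ∑ a ∈ X ×ˢ (Finset.univ : Finset G), F (a.2 * a.1 * a.2⁻¹) := by
    rw [Finset.sum_product, Finset.mul_sum]
    refine Finset.sum_congr rfl fun x _ => ?_
    simp only [hF]
    rw [Finset.sum_const, Finset.card_univ, Nat.card_eq_fintype_card, nsmul_eq_mul]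
  have hR : ∑ y ∈ Finset.univ.filter (fun y : G => ∃ k : ℕ, orderOf y = p ^ k),
      (Nat.card (Subgroup.centralizer ({y} : Set G)) : ℤ) * F y =
      ∑ a ∈ ((Finset.univ.filter (fun y : G => ∃ k : ℕ, orderOf y = p ^ k)) ×ˢ
        (Finset.univ : Finset G)).filter (fun a => a.2⁻¹ * a.1 * a.2 ∈ X), F a.1 := by
    symm
    rw [Finset.sum_filter, Finset.sum_product]
    refine Finset.sum_congr rfl fun y hy => ?_
    show ∑ g : G, (if g⁻¹ * y * g ∈ X then F y else 0) = _
    rw [← Finset.sum_filter, Finset.sum_const, nsmul_eq_mul,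
      card_conjugators X hXrep (Finset.mem_filter.1 hy).2]
  rw [hL, hR]
  refine Finset.sum_nbij' (fun a => (a.2 * a.1 * a.2⁻¹, a.2)) (fun a => (a.2⁻¹ * a.1 * a.2, a.2))
    ?_ ?_ ?_ ?_ ?_
  · intro a ha
    obtain ⟨ha1, -⟩ := Finset.mem_product.1 ha
    refine Finset.mem_filter.2 ⟨Finset.mem_product.2 ⟨Finset.mem_filter.2
      ⟨Finset.mem_univ _, ?_⟩, Finset.mem_univ _⟩, ?_⟩
    · obtain ⟨k, hk⟩ := hX _ ha1
      exact ⟨k, by rw [orderOf_conj_eq, hk]⟩
    · show a.2⁻¹ * (a.2 * a.1 * a.2⁻¹) * a.2 ∈ X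
      have : a.2⁻¹ * (a.2 * a.1 * a.2⁻¹) * a.2 = a.1 := by group
      rw [this]
      exact ha1
  · intro a ha
    obtain ⟨-, ha2⟩ := Finset.mem_filter.1 ha
    exact Finset.mem_product.2 ⟨ha2, Finset.mem_univ _⟩
  · intro a _
    apply Prod.ext
    · show a.2⁻¹ * (a.2 * a.1 * a.2⁻¹) * a.2 = a.1
      group
    · rfl
  · intro a _
    apply Prod.ext
    · show a.2 * (a.2⁻¹ * a.1 * a.2) * a.2⁻¹ = a.1
      group
    · rfl
  · intro a _
    rfl

end

section

variable {G : Type u} [Group G] [Fintype G] {M : Ideal AlgInt} {p : ℕ}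

open Classical in
/-- **The subsection formula**, summed over all nontrivial `p`-elements. -/
theorem card_mul_card_sub_rank [DecidableEq G] (hM : IsPModular p M) {B : Set (IrrCharacter G)}
    (hB : IsPBlock M B) :
    (Nat.card G : ℤ) * ((Nat.card B : ℤ) - (blockRank p B : ℤ)) =
      ∑ y ∈ Finset.univ.filter (fun y : G => y ≠ 1 ∧ ∃ k : ℕ, orderOf y = p ^ k),
        (Nat.card (Subgroup.centralizer ({y} : Set G)) : ℤ) *
          (lam M p (Subgroup.centralizer ({y} : Set G)) B : ℤ) := by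
  classical
  have hMp := isPModular_isPrime hM
  obtain ⟨X, hX, hXrep⟩ := exists_pReps (G := G) p
  have hkey := card_block_eq_sum_blockRank hM hB X hX hXrep
  have hkey' : (Nat.card B : ℤ) =
      ∑ x ∈ X, (lam M p (Subgroup.centralizer ({x} : Set G)) B : ℤ) := by
    rw [hkey, Nat.cast_sum]
    rfl
  have hconv := card_mul_sum_reps X hX hXrep
    (fun y => (lam M p (Subgroup.centralizer ({y} : Set G)) B : ℤ))
    (fun y g => by
      show ((lam M p (Subgroup.centralizer ({g * y * g⁻¹} : Set G)) B : ℕ) : ℤ) = _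
      rw [lam_centralizer_conj])
  rw [← hkey'] at hconv
  have hsplit : Finset.univ.filter (fun y : G => ∃ k : ℕ, orderOf y = p ^ k) =
      insert 1 (Finset.univ.filter (fun y : G => y ≠ 1 ∧ ∃ k : ℕ, orderOf y = p ^ k)) := by
    ext y
    rw [Finset.mem_insert, Finset.mem_filter, Finset.mem_filter]
    simp only [Finset.mem_univ, true_and]
    constructor
    · intro h
      by_cases h1 : y = 1
      · exact Or.inl h1
      · exact Or.inr ⟨h1, h⟩
    · rintro (rfl | h)
      · exact ⟨0, by rw [orderOf_one, pow_zero]⟩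
      · exact h.2
  have hnot : (1 : G) ∉ Finset.univ.filter (fun y : G => y ≠ 1 ∧ ∃ k : ℕ, orderOf y = p ^ k) := by
    intro h
    exact (Finset.mem_filter.1 h).2.1 rfl
  rw [hsplit, Finset.sum_insert hnot] at hconv
  have htop : Subgroup.centralizer ({(1 : G)} : Set G) = ⊤ := by
    rw [Subgroup.centralizer_eq_top_iff_subset]
    intro z hz
    rw [Set.mem_singleton_iff] at hz
    rw [hz]
    exact Subgroup.one_mem _
  have h1 : lam M p (Subgroup.centralizer ({(1 : G)} : Set G)) B = blockRank p B :=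
    VK.finsum_induced_top hMp hB _ htop
  have h2 : Nat.card (Subgroup.centralizer ({(1 : G)} : Set G)) = Nat.card G := by
    rw [htop, Subgroup.card_top]
  rw [h1, h2] at hconv
  rw [mul_sub, hconv]
  ring

end

end Cfsg.Agent.Lib.Helper8.KR
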