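import Mathlib
import Cfsg.Prelude.Def_Blocks
import Cfsg.Prelude.Def_BrauerPairs
import Cfsg.Agent.Lib.Helper8.BHI1
import Cfsg.Agent.Lib.Helper8.BHI2
import Cfsg.Agent.Lib.Helper8.BHI7
import Cfsg.Agent.Lib.Helper8.BHI8
import Cfsg.Agent.Lib.Helper8.KR8

/-!
# The upper bound for the sum of the diagonal contributions over the centre of a defect group
-/

set_option autoImplicit false
set_option linter.unusedSectionVars false
set_option maxHeartbeats 1600000

namespace Cfsg.Agent.Lib.Helper8.BHI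

open Cfsg Cfsg.Agent.Lib.Helper8 Cfsg.Agent.Lib.Helper8.VK
open scoped ComplexConjugate
open Cfsg.Agent.Lib.Helper1 Cfsg.Agent.Lib.Helper4

universe u

section

/-- Counting through the fibres of a map. -/
theorem sum_le_mul_of_fiber_card_le {α β : Type*} [Fintype α] [DecidableEq β] (Φ : α → β)
    (S : Finset β) (w : β → ℝ) (hw : ∀ s ∈ S, 0 ≤ w s) (hΦ : ∀ a, Φ a ∈ S) (e : ℕ)
    (hfib : ∀ s ∈ S, (Finset.univ.filter (fun a => Φ a = s)).card ≤ e) :
    ∑ a, w (Φ a) ≤ (e : ℝ) * ∑ s ∈ S, w s := by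
  classical
  rw [← Finset.sum_fiberwise_of_maps_to (s := Finset.univ) (t := S) (g := Φ)
    (fun a _ => hΦ a), Finset.mul_sum]
  apply Finset.sum_le_sum
  intro s hs
  have h1 : ∑ a ∈ Finset.univ.filter (fun a => Φ a = s), w (Φ a) =
      ((Finset.univ.filter (fun a => Φ a = s)).card : ℝ) * w s := by
    rw [Finset.sum_congr rfl (fun a ha => by rw [(Finset.mem_filter.1 ha).2]),
      Finset.sum_const, nsmul_eq_mul]
  rw [h1]
  exact mul_le_mul_of_nonneg_right (by exact_mod_cast hfib s hs) (hw s hs)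

variable {G : Type u} [Group G]

/-- The number of conjugates of `y` under `T` is at most `[T : T ∩ H]` when `H` centralizes `y`. -/
theorem card_le_relIndex_of_conj [Finite G] (T H : Subgroup G) (y : G)
    (hH : ∀ h ∈ H, h * y = y * h) (S : Finset G) (hS : ∀ s ∈ S, ∃ t ∈ T, t * y * t⁻¹ = s) :
    S.card ≤ H.relIndex T := by
  classical
  choose! t htT ht using hS
  let f : S → T ⧸ H.subgroupOf T := fun s => QuotientGroup.mk ⟨t s, htT s s.2⟩
  have hf : Function.Injective f := by
    intro s s' hss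
    have h1 : (⟨t s, htT s s.2⟩ : T)⁻¹ * ⟨t s', htT s' s'.2⟩ ∈ H.subgroupOf T :=
      QuotientGroup.eq.1 hss
    rw [Subgroup.mem_subgroupOf] at h1
    have h2 : (t s)⁻¹ * t s' ∈ H := h1
    have h3 := hH _ h2
    apply Subtype.ext
    rw [← ht s s.2, ← ht s' s'.2]
    have h4 : t s' = t s * ((t s)⁻¹ * t s') := by group
    rw [h4]
    calc t s * y * (t s)⁻¹ = t s * (y * ((t s)⁻¹ * t s')) * ((t s)⁻¹ * t s')⁻¹ * (t s)⁻¹ := by
          group
      _ = t s * (((t s)⁻¹ * t s') * y) * ((t s)⁻¹ * t s')⁻¹ * (t s)⁻¹ := by rw [h3]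
      _ = t s * ((t s)⁻¹ * t s') * y * (t s * ((t s)⁻¹ * t s'))⁻¹ := by group
  have h5 := Nat.card_le_card_of_injective f hf
  rw [Nat.card_eq_fintype_card, Fintype.card_coe] at h5
  exact h5

end

section

variable {G : Type u} [Group G] [Fintype G] {M : Ideal AlgInt} {p : ℕ} [Fact p.Prime]

noncomputable local instance subFtX9 (H : Subgroup G) : Fintype H := Fintype.ofFinite H

/-- The contribution computed with the canonical finiteness instance. -/
noncomputable def contribF (p : ℕ) (C : Subgroup G) (b : Set (IrrCharacter C)) (u : G)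
    (ζ ξ : G → ℂ) : ℂ :=
  haveI : Fintype C := Fintype.ofFinite _
  contrib p C b u ζ ξ

omit [Fact p.Prime] in
theorem contribF_eq (C : Subgroup G) [inst : Fintype C] (b : Set (IrrCharacter C)) (u : G)
    (ζ ξ : G → ℂ) : contribF p C b u ζ ξ = contrib p C b u ζ ξ := by
  unfold contribF
  congr
  exact Subsingleton.elim _ _

omit [Fact p.Prime] in
theorem mQ_eq_contribF (D : Subgroup G)
    (e : Set (IrrCharacter (Subgroup.centralizer (D : Set G)))) (ψ : G → ℂ) (Q : Subgroup G)
    (y : G) : mQ p M D e ψ Q y =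
      (contribF p (Subgroup.centralizer (Q : Set G)) (subB p M D e Q) y ψ ψ).re := rfl

omit [Fact p.Prime] in
/-- Transport of the contributions along an equality of conjugate Brauer pairs. -/
theorem contribF_pairConj {a a' : BrauerPairIdx G} (g : G) (h : pairConj g a = a') (y : G)
    {ζ : G → ℂ} (hζ : IsClassFunction G ζ) :
    contribF p (Subgroup.centralizer ((a'.1 : Subgroup G) : Set G)) a'.2 (g * y * g⁻¹) ζ ζ =
    contribF p (Subgroup.centralizer ((a.1 : Subgroup G) : Set G)) a.2 y ζ ζ := by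
  subst h
  obtain ⟨Q, f⟩ := a
  show contribF p (Subgroup.centralizer ((Q.map (MulAut.conj g).toMonoidHom : Subgroup G) : Set G))
      (conjBlock Q g f) (g * y * g⁻¹) ζ ζ = _
  unfold contribF
  exact contrib_centConj Q g f y hζ hζ

/-- The type of the subsections. -/
abbrev SubSecIdx (G : Type u) [Group G] : Type u :=
  Σ x : G, Set (IrrCharacter (Subgroup.centralizer ((Subgroup.zpowers x : Subgroup G) : Set G)))

/-- The Brauer pair of a subsection. -/
def SubSecIdx.toPair (s : SubSecIdx G) : BrauerPairIdx G := ⟨Subgroup.zpowers s.1, s.2⟩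

/-- The diagonal contribution of a subsection. -/
noncomputable def wSec (p : ℕ) (ψ : G → ℂ) (s : SubSecIdx G) : ℝ :=
  (contribF p (Subgroup.centralizer ((Subgroup.zpowers s.1 : Subgroup G) : Set G)) s.2 s.1 ψ ψ).re

/-- The finite set of the subsections with element in `X`. -/
noncomputable def subSecFinset (M : Ideal AlgInt) (X : Finset G) : Finset (SubSecIdx G) :=
  X.sigma (fun x => blocksFinset M
    (Subgroup.centralizer ((Subgroup.zpowers x : Subgroup G) : Set G)))

omit [Fact p.Prime] in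
theorem mem_subSecFinset (X : Finset G) (s : SubSecIdx G) :
    s ∈ subSecFinset M X ↔ s.1 ∈ X ∧ IsPBlock M s.2 := by
  unfold subSecFinset
  rw [Finset.mem_sigma, mem_blocksFinset]

omit [Fact p.Prime] in
/-- The diagonal contributions of all subsections add up to one. -/
theorem sum_wSec_eq_one (hM : IsPModular p M) (X : Finset G)
    (hX : ∀ x ∈ X, ∃ k : ℕ, orderOf x = p ^ k)
    (hXrep : ∀ g : G, (∃ k : ℕ, orderOf g = p ^ k) → ∃! x, x ∈ X ∧ IsConj g x)
    (χ : IrrCharacter G) : ∑ s ∈ subSecFinset M X, wSec p (χ : G → ℂ) s = 1 := by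
  unfold subSecFinset
  rw [Finset.sum_sigma]
  have := @one_eq_sum_subsections G _ _ M p hM X hX hXrep
    (fun x => Subgroup.centralizer ((Subgroup.zpowers x : Subgroup G) : Set G))
    (fun x t => mem_centralizer_zpowers_iff x t) (fun x => Fintype.ofFinite _) χ
  rw [this]
  rfl

omit [Fact p.Prime] in
theorem wSec_nonneg (hM : IsPModular p M) {ψ : G → ℂ} (hψ : IsClassFunction G ψ)
    {s : SubSecIdx G} (hs : IsPBlock M s.2) : 0 ≤ wSec p ψ s := by
  unfold wSec contribF
  exact contrib_self_re_nonneg hM _ (mem_centralizer_zpowers_iff s.1) hs hψ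

end

end Cfsg.Agent.Lib.Helper8.BHI
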