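import Mathlib
import Cfsg.Agent.Lib.Helper8.BPS11
import Cfsg.Agent.Lib.Helper8.BPS12
import Cfsg.Agent.Lib.Helper8.BPS15

/-!
# The good part of a relative trace, local pointed groups, and Puig's lemma (BCP)
-/

set_option autoImplicit false
set_option linter.unusedSectionVars false

namespace Cfsg.Agent.Lib.Helper8.BPS

open Cfsg Cfsg.Agent.Lib.Helper8

variable {M : Ideal AlgInt} {p : ℕ} {G : Type*} [Group G] [Fintype G] [DecidableEq G]

/-- sums of right-`R`-invariant functions with values in the group algebra -/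
theorem smul_sum_eq_sum_quotient (R : Subgroup G) [Fintype (G ⧸ R)] (t : G → GA G)
    (ht : ∀ y : G, ∀ r ∈ R, t (y * r) = t y) :
    (Nat.card R : ℂ)⁻¹ • ∑ y : G, t y = ∑ q : G ⧸ R, t (Quotient.out q) := by
  apply ga_ext
  intro g
  rw [coeff_smul', coeff_sum', coeff_sum']
  have h1 := sum_eq_card_mul_sum_quotient R (fun y => (t y).coeff g)
    (fun y r hr => by rw [ht y r hr])
  rw [h1, ← mul_assoc, inv_mul_cancel₀, one_mul]
  have : 0 < Nat.card R := Nat.card_pos
  exact_mod_cast this.ne'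

/-- `y` carries `H` into `R'`: `y⁻¹ H y ≤ R'` -/
def Carries (H R' : Subgroup G) (y : G) : Prop := ∀ h ∈ H, y⁻¹ * h * y ∈ R'

theorem carries_mul_left {H R' : Subgroup G} {h : G} (hh : h ∈ H) (y : G) :
    Carries H R' (h * y) ↔ Carries H R' y := by
  constructor
  · intro hc h' hh'
    have := hc (h * h' * h⁻¹) (H.mul_mem (H.mul_mem hh hh') (H.inv_mem hh))
    have e : (h * y)⁻¹ * (h * h' * h⁻¹) * (h * y) = y⁻¹ * h' * y := by group
    rwa [e] at this
  · intro hc h' hh'
    have := hc (h⁻¹ * h' * h) (H.mul_mem (H.mul_mem (H.inv_mem hh) hh') hh)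
    have e : (h * y)⁻¹ * h' * (h * y) = y⁻¹ * (h⁻¹ * h' * h) * y := by group
    rwa [e]

theorem carries_mul_right {H R' : Subgroup G} {r : G} (hr : r ∈ R') (y : G) :
    Carries H R' (y * r) ↔ Carries H R' y := by
  constructor
  · intro hc h' hh'
    have := R'.mul_mem (R'.mul_mem hr (hc h' hh')) (R'.inv_mem hr)
    have e : r * ((y * r)⁻¹ * h' * (y * r)) * r⁻¹ = y⁻¹ * h' * y := by group
    rwa [e] at this
  · intro hc h' hh'
    have := R'.mul_mem (R'.mul_mem (R'.inv_mem hr) (hc h' hh')) hr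
    have e : (y * r)⁻¹ * h' * (y * r) = r⁻¹ * (y⁻¹ * h' * y) * r := by group
    rwa [e]

theorem carries_self_iff {S : Subgroup G} (y : G) :
    Carries S S y ↔ y ∈ Subgroup.normalizer (S : Set G) := by
  constructor
  · intro hy
    have hyN : y⁻¹ ∈ Subgroup.normalizer (S : Set G) := by
      apply Subgroup.mem_normalizer_fintype
      intro n hn
      rw [inv_inv]
      exact hy n hn
    have := Subgroup.inv_mem _ hyN
    rwa [inv_inv] at this
  · intro hy h hh
    have hy' := Subgroup.inv_mem _ hy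
    rw [Subgroup.mem_normalizer_iff] at hy'
    have := (hy' h).1 hh
    rwa [inv_inv] at this

open Classical in
/-- the good part of the relative trace `Tr_{R'}^Q(x)` as seen from `H`: the sum over the `y ∈ Q`
with `y⁻¹ H y ≤ R'` -/
noncomputable def gtr (H R' Q : Subgroup G) (x : GA G) : GA G :=
  (Nat.card R' : ℂ)⁻¹ • ∑ y : G, if y ∈ Q ∧ Carries H R' y then cj y x else 0

open Classical in
theorem coeff_gtr (H R' Q : Subgroup G) (x : GA G) (g : G) :
    (gtr H R' Q x).coeff g = (Nat.card R' : ℂ)⁻¹ *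
      ∑ y : G, if y ∈ Q ∧ Carries H R' y then x.coeff (y⁻¹ * g * y) else 0 := by
  unfold gtr
  rw [coeff_smul', coeff_sum']
  congr 1
  refine Finset.sum_congr rfl fun y _ => ?_
  split_ifs
  · rw [coeff_cj]
  · simp

open Classical in
/-- **BT3**: the bad part of a relative trace has coefficients in `𝔭` on `C_G(H)`. -/
theorem coeff_rtr_bad [Fact p.Prime] (hM : IsPModular p M) {H R' Q : Subgroup G}
    (hH : IsPGroup p H) (hHQ : H ≤ Q) (hRQ : R' ≤ Q) {x : GA G}
    (hx : x ∈ fixedRing M (isPModular_isPrime hM) R')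
    {c : G} (hc : c ∈ Subgroup.centralizer (H : Set G)) :
    MemLocalIdeal M ((Nat.card R' : ℂ)⁻¹ * ∑ y : G,
      (if y ∈ Q ∧ ¬ Carries H R' y then x.coeff (y⁻¹ * c * y) else 0)) := by
  have hMp := isPModular_isPrime hM
  apply coset_orbit_sum hM H R' hH
  · intro y
    split_ifs
    · exact hx.1 _
    · exact memLocalRing_zero hMp.ne_top
  · intro s hs y
    have h1 : (s * y ∈ Q ∧ ¬ Carries H R' (s * y)) ↔ (y ∈ Q ∧ ¬ Carries H R' y) := by
      rw [Subgroup.mul_mem_cancel_left Q (hHQ hs), carries_mul_left hs]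
    rw [if_congr h1 rfl rfl]
    have h2 : (s * y)⁻¹ * c * (s * y) = y⁻¹ * c * y := by
      have := (Subgroup.mem_centralizer_iff.1 hc) s hs
      calc (s * y)⁻¹ * c * (s * y) = y⁻¹ * (s⁻¹ * (c * s)) * y := by
            simp only [mul_inv_rev, mul_assoc]
        _ = y⁻¹ * c * y := by rw [← this, inv_mul_cancel_left]
    rw [h2]
  · intro y s hs
    have h1 : (y * s ∈ Q ∧ ¬ Carries H R' (y * s)) ↔ (y ∈ Q ∧ ¬ Carries H R' y) := by
      rw [Subgroup.mul_mem_cancel_right Q (hRQ hs), carries_mul_right hs]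
    rw [if_congr h1 rfl rfl]
    have h2 : (y * s)⁻¹ * c * (y * s) = s⁻¹ * (y⁻¹ * c * y) * s⁻¹⁻¹ := by
      simp only [mul_inv_rev, inv_inv, mul_assoc]
    rw [h2, coeff_conj_of_mem hMp hx (R'.inv_mem hs)]
  · intro y hy
    rw [if_neg]
    rintro ⟨-, h⟩
    exact h hy

open Classical in
theorem gtr_eq_sum_quotient (H : Subgroup G) {R' Q : Subgroup G} (hRQ : R' ≤ Q)
    [Fintype (G ⧸ R')] {x : GA G}
    (hx : ∀ r ∈ R', cj r x = x) :
    gtr H R' Q x = ∑ q : G ⧸ R',
      if Quotient.out q ∈ Q ∧ Carries H R' (Quotient.out q) then cj (Quotient.out q) x else 0 := by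
  unfold gtr
  apply smul_sum_eq_sum_quotient R'
    (fun y => if y ∈ Q ∧ Carries H R' y then cj y x else 0)
  intro y r hr
  have h1 : (y * r ∈ Q ∧ Carries H R' (y * r)) ↔ (y ∈ Q ∧ Carries H R' y) := by
    rw [Subgroup.mul_mem_cancel_right Q (hRQ hr), carries_mul_right hr]
  rw [if_congr h1 rfl rfl, ← cj_cj, hx r hr]

theorem cj_mem_coeff {x : GA G} (hx : ∀ g, MemLocalRing M (x.coeff g)) (y : G) :
    ∀ g, MemLocalRing M ((cj y x).coeff g) := by
  intro g
  rw [coeff_cj]
  exact hx _

theorem gtr_mem_fixedRing (hM : M.IsPrime) {H R' Q : Subgroup G} (hHQ : H ≤ Q) (hRQ : R' ≤ Q)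
    {x : GA G} (hx : x ∈ fixedRing M hM R') : gtr H R' Q x ∈ fixedRing M hM H := by
  classical
  have : Fintype (G ⧸ R') := Fintype.ofFinite _
  constructor
  · intro g
    rw [gtr_eq_sum_quotient H hRQ hx.2, coeff_sum']
    apply memLocalRing_sum hM
    intro q _
    split_ifs
    · exact cj_mem_coeff hx.1 _ g
    · simpa using memLocalRing_zero hM.ne_top
  · intro h hh
    unfold gtr
    rw [cj_smul, cj_sum]
    congr 1
    conv_rhs => rw [← Equiv.sum_comp (Equiv.mulLeft h)]
    refine Finset.sum_congr rfl fun y _ => ?_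
    have h1 : ((Equiv.mulLeft h) y ∈ Q ∧ Carries H R' ((Equiv.mulLeft h) y)) ↔
        (y ∈ Q ∧ Carries H R' y) := by
      rw [Equiv.coe_mulLeft, Subgroup.mul_mem_cancel_left Q (hHQ hh), carries_mul_left hh]
    rw [if_congr h1 rfl rfl]
    split_ifs
    · rw [cj_cj]
      rfl
    · rw [cj_zero]

/-- the relative trace and its good part are congruent modulo `ker Br_H` -/
theorem rtr_sub_gtr_mem_KBr [Fact p.Prime] (hM : IsPModular p M) {H R' Q : Subgroup G}
    (hH : IsPGroup p H) (hHQ : H ≤ Q) (hRQ : R' ≤ Q) {x : GA G}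
    (hx : x ∈ fixedRing M (isPModular_isPrime hM) R') :
    rtr R' Q x - gtr H R' Q x ∈ KBr M (isPModular_isPrime hM) H := by
  classical
  have hMp := isPModular_isPrime hM
  refine ⟨Subring.sub_mem _ (fixedRing_mono hMp hHQ (rtr_mem_fixedRing hMp hRQ hx))
    (gtr_mem_fixedRing hMp hHQ hRQ hx), fun c hc => ?_⟩
  have key := coeff_rtr_bad hM hH hHQ hRQ hx hc
  rw [coeff_sub', coeff_rtr, coeff_gtr, ← mul_sub, ← Finset.sum_sub_distrib]
  convert key using 3
  rename_i y _
  by_cases h1 : y ∈ Q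
  · by_cases h2 : Carries H R' y
    · rw [if_pos h1, if_pos ⟨h1, h2⟩, if_neg (by tauto), sub_self]
    · rw [if_pos h1, if_neg (by tauto), if_pos ⟨h1, h2⟩, sub_zero]
  · rw [if_neg h1, if_neg (by tauto), if_neg (by tauto), sub_zero]

/-! ### Local pointed groups -/

/-- `(S, i)` is a local pointed group: `i` is a primitive idempotent of `A^S` outside `ker Br_S` -/
def IsLPG (M : Ideal AlgInt) (hM : M.IsPrime) (S : Subgroup G) (i : GA G) : Prop :=
  Prim (fixedRing M hM S) i ∧ i ∉ KBr M hM S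

theorem IsLPG.crad_of_mem_KBr [Fact p.Prime] (hM : IsPModular p M) {S : Subgroup G}
    (hS : IsPGroup p S) {i x : GA G} (hi : IsLPG M (isPModular_isPrime hM) S i)
    (hx : x ∈ KBr M (isPModular_isPrime hM) S) (hc : Corner i x) :
    CRad (fixedRing M (isPModular_isPrime hM) S) (PP M (isPModular_isPrime hM) S) i x := by
  have hMp := isPModular_isPrime hM
  have hfit : FitSub (fixedRing M hMp S) (PP M hMp S) := (fitScal_fixedRing hMp S).toFitSub
  have hKi := KBr_isIdeal hM S hS
  rcases hfit.dichotomy hi.1 hx.1 hc with hu | hn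
  · exfalso
    obtain ⟨b, hbT, -, hxb, -⟩ := hu
    apply hi.2
    rw [← hxb]
    exact hKi.mul_right b hbT x hx
  · exact ⟨hx.1, hc, hn⟩

theorem PP_mono (hM : M.IsPrime) {S S' : Subgroup G} (h : S' ≤ S) :
    PP M hM S ⊆ PP M hM S' := fun _ hx => ⟨fixedRing_mono hM h hx.1, hx.2⟩

/-- **Puig's lemma (BCP)**. -/
theorem bcp [Fact p.Prime] (hM : IsPModular p M) {S R : Subgroup G} (hR : IsPGroup p R)
    (hSR : S ≤ R) {j j' : GA G} (hj : Prim (fixedRing M (isPModular_isPrime hM) R) j)
    (hj' : IsLPG M (isPModular_isPrime hM) S j') (hc : Corner j j')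
    (horth : ∀ y ∈ R, y ∈ Subgroup.normalizer (S : Set G) → y ∉ S → cj y j' * j' = 0) :
    j ∈ trIdeal M (isPModular_isPrime hM) S R := by
  classical
  have hMp := isPModular_isPrime hM
  have hS : IsPGroup p S := hR.to_le hSR
  set TR := fixedRing M hMp R with hTR
  set TS := fixedRing M hMp S with hTS
  have hfitR : FitSub TR (PP M hMp R) := (fitScal_fixedRing hMp R).toFitSub
  have hfitS : FitSub TS (PP M hMp S) := (fitScal_fixedRing hMp S).toFitSub
  have hKS := KBr_isIdeal hM S hS
  have hj'T : j' ∈ TS := hj'.1.1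
  have hj'j' : j' * j' = j' := hj'.1.2.1
  have hjT : j ∈ TR := hj.1
  have hjR : ∀ s ∈ R, cj s j = j := hjT.2
  set a := rtr S R j' with ha
  have haT : a ∈ TR := rtr_mem_fixedRing hMp hSR hj'T
  have hca : Corner j a := by
    constructor
    · rw [ha, mul_rtr S R hjR, hc.1]
    · rw [ha, rtr_mul S R hjR, hc.2]
  -- the key congruence
  have key : ∀ d ∈ TR, CRad TS (PP M hMp S) j' (j' * (a * d) * j' - j' * d * j') := by
    intro d hd
    have hdR : ∀ s ∈ R, cj s d = d := hd.2
    have hx : j' * d ∈ TS := TS.mul_mem hj'T (fixedRing_mono hMp hSR hd)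
    have h1 : a * d = rtr S R (j' * d) := by rw [ha, rtr_mul S R hdR]
    have hbad := rtr_sub_gtr_mem_KBr hM hS hSR hSR hx
    -- the good part
    have hgood : j' * gtr S S R (j' * d) * j' = j' * d * j' := by
      unfold gtr
      rw [Finset.smul_sum, Finset.mul_sum, Finset.sum_mul]
      have h2 : ∀ y : G, j' * ((Nat.card S : ℂ)⁻¹ •
          (if y ∈ R ∧ Carries S S y then cj y (j' * d) else 0)) * j' =
          if y ∈ S then (Nat.card S : ℂ)⁻¹ • (j' * d * j') else 0 := by
        intro y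
        by_cases hyS : y ∈ S
        · rw [if_pos hyS, if_pos ⟨hSR hyS, (carries_self_iff y).2 (Subgroup.le_normalizer hyS)⟩,
            hx.2 y hyS, mul_smul_comm, smul_mul_assoc, ← mul_assoc, hj'j']
        · rw [if_neg hyS]
          by_cases hy : y ∈ R ∧ Carries S S y
          · rw [if_pos hy]
            have hyN : y ∈ Subgroup.normalizer (S : Set G) := (carries_self_iff y).1 hy.2
            have h3 : cj y⁻¹ j' * j' = 0 :=
              horth y⁻¹ (R.inv_mem hy.1) (Subgroup.inv_mem _ hyN)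
                (fun h => hyS (by simpa using S.inv_mem h))
            have h4 : j' * cj y j' = 0 := by
              have := congrArg (cj y) h3
              rwa [cj_mul, cj_cj_inv, cj_zero] at this
            rw [cj_mul, mul_smul_comm, ← mul_assoc, h4, zero_mul, smul_zero, zero_mul]
          · rw [if_neg hy, smul_zero, mul_zero, zero_mul]
      simp_rw [h2]
      rw [← Finset.sum_filter, Finset.sum_const]
      have h5 : (Finset.univ.filter fun t : G => t ∈ S).card = Nat.card S := by
        rw [Nat.card_eq_fintype_card, Fintype.card_subtype]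
      rw [h5, ← Nat.cast_smul_eq_nsmul ℂ, smul_smul, mul_inv_cancel₀, one_smul]
      have : 0 < Nat.card S := Nat.card_pos
      exact_mod_cast this.ne'
    have h6 : j' * (a * d) * j' - j' * d * j' =
        j' * (rtr S R (j' * d) - gtr S S R (j' * d)) * j' := by
      rw [h1, mul_sub, sub_mul, hgood]
    rw [h6]
    apply hj'.crad_of_mem_KBr hM hS
    · exact hKS.mul_right j' hj'T _ (hKS.mul_left j' hj'T _ hbad)
    · constructor
      · rw [← mul_assoc, ← mul_assoc, hj'j']
      · rw [mul_assoc, hj'j']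
  -- dichotomy for `a`
  rcases hfitR.dichotomy hj haT hca with hu | hn
  · obtain ⟨b, hbT, -, hab, -⟩ := hu
    refine ⟨j' * b, TS.mul_mem hj'T (fixedRing_mono hMp hSR hbT), ?_⟩
    rw [← hab, ha, rtr_mul S R hbT.2]
  · exfalso
    obtain ⟨n, hn0, hnP⟩ := hn
    -- `ρ(a^k j) ≡ j'`
    have hind : ∀ k : ℕ, CRad TS (PP M hMp S) j' (j' * (a ^ k * j) * j' - j') := by
      intro k
      induction k with
      | zero =>
        rw [pow_zero, one_mul, hc.2, hj'j', sub_self]
        exact hfitS.crad_zero hj'.1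
      | succ k ih =>
        have h7 : a ^ (k + 1) * j = a * (a ^ k * j) := by rw [pow_succ', mul_assoc]
        have h8 := key (a ^ k * j) (TR.mul_mem (TR.pow_mem haT k) hjT)
        have h9 := hfitS.crad_add hj'.1 h8 ih
        rw [h7]
        convert h9 using 1
        abel
    have h10 := hind n
    have h11 : a ^ n * j = a ^ n := by
      obtain ⟨m, rfl⟩ := Nat.exists_eq_succ_of_ne_zero hn0.ne'
      rw [pow_succ, mul_assoc, hca.2]
    rw [h11] at h10
    have h12 : CRad TS (PP M hMp S) j' (j' * a ^ n * j') := by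
      apply hfitS.crad_of_mem_P
      · exact hfitS.P_mul_right j' hj'T _ (hfitS.P_mul_left j' hj'T _ (PP_mono hMp hSR hnP))
      · constructor
        · rw [← mul_assoc, ← mul_assoc, hj'j']
        · rw [mul_assoc, hj'j']
    have h13 := hfitS.crad_add hj'.1 h12 (hfitS.crad_neg hj'.1 h10)
    have h14 : j' * a ^ n * j' + -(j' * a ^ n * j' - j') = j' := by abel
    rw [h14] at h13
    exact hfitS.not_crad_self hj'.1 h13

end Cfsg.Agent.Lib.Helper8.BPS
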