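import Mathlib
import Cfsg.Agent.Lib.Helper8.BPS16
import Cfsg.Agent.Lib.Helper8.ExtZero
import Cfsg.Agent.Lib.Helper8.BlockExactIdem
import Cfsg.Agent.Lib.Helper8.BlockPairs5
import Cfsg.Agent.Lib.Helper8.PairConj2
import Cfsg.Agent.Lib.Helper8.SM5

/-!
# Block idempotents inside the group algebra; the block to which a local point belongs
-/

set_option autoImplicit false
set_option linter.unusedSectionVars false

namespace Cfsg.Agent.Lib.Helper8.BPS

open Cfsg Cfsg.Agent.Lib.Helper8

section abstract

variable {Λ : Type*} [Ring Λ] {T : Subring Λ} {K : Set Λ}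

theorem cong_of_cunit_sandwich (hK : IsIdealOf T K) {i e : Λ} (hiT : i ∈ T) (hii : i * i = i)
    (heT : e ∈ T) (hee : e * e = e) (hcomm : Cong K (i * e) (e * i))
    (hu : CUnit T i (i * e * i)) : Cong K i (i * e) := by
  obtain ⟨c, hcT, hcc, -, hcy⟩ := hu
  have hyT : i * e * i ∈ T := T.mul_mem (T.mul_mem hiT heT) hiT
  -- `y² ≡ y`
  have c2 : Cong K ((i * e * i) * (i * e * i)) (i * e * i) := by
    have h1 : (i * e * i) * (i * e * i) = i * (e * i) * (e * i) := by
      calc (i * e * i) * (i * e * i) = i * e * (i * i) * e * i := by noncomm_ring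
        _ = i * (e * i) * (e * i) := by rw [hii]; noncomm_ring
    have h2 : Cong K (i * (e * i) * (e * i)) (i * (i * e) * (e * i)) :=
      hK.cong_mul_right _ (T.mul_mem heT hiT) (hK.cong_mul_left i hiT (hK.cong_symm hcomm))
    have h3 : i * (i * e) * (e * i) = i * e * i := by
      calc i * (i * e) * (e * i) = (i * i) * (e * e) * i := by noncomm_ring
        _ = i * e * i := by rw [hii, hee]
    rw [h1]
    rw [h3] at h2
    exact h2
  -- `y ≡ i`
  have c3 : Cong K (i * e * i) i := by
    have h1 : Cong K (c * ((i * e * i) * (i * e * i))) (c * (i * e * i)) :=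
      hK.cong_mul_left c hcT c2
    rw [← mul_assoc, hcy] at h1
    have h2 : i * (i * e * i) = i * e * i := by rw [← mul_assoc, ← mul_assoc, hii]
    rwa [h2] at h1
  -- `i e ≡ i e i`
  have c4 : Cong K (i * e) (i * e * i) := by
    have h1 : Cong K (i * (i * e)) (i * (e * i)) := hK.cong_mul_left i hiT hcomm
    rw [← mul_assoc, hii, ← mul_assoc] at h1
    exact h1
  exact hK.cong_symm (hK.cong_trans c4 c3)

theorem cong_mul_of_orth (hK : IsIdealOf T K) {i e e' : Λ} (he'T : e' ∈ T)
    (horth : e * e' = 0) (h : Cong K i (i * e)) : i * e' ∈ K := by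
  have c3 : Cong K (i * e') (i * e * e') := hK.cong_mul_right _ he'T h
  rw [mul_assoc, horth, mul_zero] at c3
  exact cong_zero_iff.1 c3

theorem cong_of_iso (hK : IsIdealOf T K) {i i' e a c : Λ} (haT : a ∈ T) (hcT : c ∈ T)
    (h1 : i * a = a) (h5 : a * c = i) (h6 : c * a = i') (hcomm : Cong K (a * e) (e * a))
    (h : Cong K i (i * e)) : Cong K i' (i' * e) := by
  have hiT : i ∈ T := by rw [← h5]; exact T.mul_mem haT hcT
  have e1 : i' = c * i * a := by rw [mul_assoc, h1, h6]
  have c3 : Cong K (c * i * (a * e)) (c * i * (e * a)) :=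
    hK.cong_mul_left _ (T.mul_mem hcT hiT) hcomm
  have c4 : Cong K (c * (i * e) * a) (c * i * a) :=
    hK.cong_mul_right a haT (hK.cong_mul_left c hcT (hK.cong_symm h))
  have e2 : i' * e = c * i * (a * e) := by rw [e1]; noncomm_ring
  have e3 : c * i * (e * a) = c * (i * e) * a := by noncomm_ring
  apply hK.cong_symm
  rw [e2]
  rw [e3] at c3
  rw [← e1] at c4
  exact hK.cong_trans c3 c4

end abstract

universe u

variable {M : Ideal AlgInt} {p : ℕ} {G : Type u} [Group G] [Fintype G] [DecidableEq G]

/-- the block idempotent of the set `f` of irreducible characters of the subgroup `K`, inside the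
group algebra of `G` -/
noncomputable def bidem (K : Subgroup G) (f : Set (IrrCharacter K)) : GA G :=
  ofFun (subgroupBlockCoeff K f)

theorem coeff_bidem (K : Subgroup G) (f : Set (IrrCharacter K)) (g : G) :
    (bidem K f).coeff g = subgroupBlockCoeff K f g := coeff_ofFun _ g

theorem bidem_mul_bidem (K : Subgroup G) (f f' : Set (IrrCharacter K)) :
    bidem K f * bidem K f' = bidem K (f ∩ f') := by
  classical
  have : Fintype K := Fintype.ofFinite _
  unfold bidem
  rw [ofFun_mul, subgroupBlockCoeff_eq_extZ, subgroupBlockCoeff_eq_extZ, conv_extZ,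
    conv_blockCoeff_blockCoeff, ← subgroupBlockCoeff_eq_extZ]

theorem bidem_idem (K : Subgroup G) (f : Set (IrrCharacter K)) :
    bidem K f * bidem K f = bidem K f := by
  rw [bidem_mul_bidem, Set.inter_self]

theorem bidem_empty (K : Subgroup G) : bidem K (∅ : Set (IrrCharacter K)) = 0 := by
  apply ga_ext
  intro g
  rw [coeff_bidem, subgroupBlockCoeff_eq_extZ, blockCoeff_empty_eq_zero]
  by_cases hg : g ∈ K
  · rw [extZ_of_mem K _ hg]
    simp
  · rw [extZ_of_not_mem K _ hg]
    simp

theorem isPBlock_inter_eq_empty (hM : M.IsPrime) {K : Type u} [Group K] [Finite K]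
    {f f' : Set (IrrCharacter K)} (hf : IsPBlock M f) (hf' : IsPBlock M f') (hne : f ≠ f') :
    f ∩ f' = ∅ := by
  have := Fintype.ofFinite K
  by_contra h
  obtain ⟨χ, hχ, hχ'⟩ := Set.nonempty_iff_ne_empty.2 h
  exact hne ((isPBlock_eq_blockOf hM hf hχ).trans (isPBlock_eq_blockOf hM hf' hχ').symm)

theorem bidem_mul_bidem_of_ne (hM : M.IsPrime) (K : Subgroup G) {f f' : Set (IrrCharacter K)}
    (hf : IsPBlock M f) (hf' : IsPBlock M f') (hne : f ≠ f') : bidem K f * bidem K f' = 0 := by
  rw [bidem_mul_bidem, isPBlock_inter_eq_empty hM hf hf' hne, bidem_empty]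

theorem coeff_bidem_mem (hM : M.IsPrime) (K : Subgroup G) {f : Set (IrrCharacter K)}
    (hf : IsPBlock M f) (g : G) : MemLocalRing M ((bidem K f).coeff g) := by
  rw [coeff_bidem]
  by_cases hg : g ∈ K
  · rw [subgroupBlockCoeff_of_mem K f hg]
    exact blockCoeff_memLocalRing hM hf _
  · rw [subgroupBlockCoeff_of_not_mem K f hg]
    exact memLocalRing_zero hM.ne_top

open Classical in
/-- the block idempotents of `K` sum to `1` -/
theorem sum_bidem (hM : M.IsPrime) (K : Subgroup G) [Fintype (Set (IrrCharacter K))] :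
    ∑ f : Set (IrrCharacter K), (if IsPBlock M f then bidem K f else 0) = 1 := by
  have : Fintype K := Fintype.ofFinite _
  apply ga_ext
  intro g
  rw [coeff_sum']
  have h1 : ∀ f : Set (IrrCharacter K), (if IsPBlock M f then bidem K f else 0).coeff g =
      if IsPBlock M f then subgroupBlockCoeff K f g else 0 := by
    intro f
    split_ifs
    · rw [coeff_bidem]
    · simp
  simp_rw [h1]
  have h2 : (1 : GA G).coeff g = deltaOne g := congrFun (coeff_one_eq_deltaOne (G := G)) g
  rw [h2]
  by_cases hg : g ∈ K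
  · have h3 := sum_blocks_blockCoeff (M := M) hM (G := K) ⟨g, hg⟩
    simp_rw [subgroupBlockCoeff_of_mem K _ hg]
    rw [h3]
    unfold deltaOne
    by_cases h1 : g = 1
    · rw [if_pos h1, if_pos (Subtype.ext h1)]
    · rw [if_neg h1, if_neg (fun h => h1 (congrArg Subtype.val h))]
  · simp_rw [subgroupBlockCoeff_of_not_mem K _ hg]
    have : g ≠ 1 := fun h => hg (h ▸ K.one_mem)
    unfold deltaOne
    rw [if_neg this]
    simp

/-- a block idempotent of `C_G(S)` lies in `A^S` -/
theorem bidem_mem_fixedRing (hM : M.IsPrime) (S : Subgroup G)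
    {f : Set (IrrCharacter (Subgroup.centralizer (S : Set G)))} (hf : IsPBlock M f) :
    bidem (Subgroup.centralizer (S : Set G)) f ∈ fixedRing M hM S := by
  refine ⟨coeff_bidem_mem hM _ hf, fun s hs => ?_⟩
  apply ga_ext
  intro g
  rw [coeff_cj, coeff_bidem, coeff_bidem]
  by_cases hg : g ∈ Subgroup.centralizer (S : Set G)
  · have : s⁻¹ * g * s = g := by
      have := (Subgroup.mem_centralizer_iff.1 hg) s hs
      rw [mul_assoc, ← this, inv_mul_cancel_left]
    rw [this]
  · have hg' : s⁻¹ * g * s ∉ Subgroup.centralizer (S : Set G) := by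
      intro h
      apply hg
      rw [Subgroup.mem_centralizer_iff] at h ⊢
      intro t ht
      have h1 := h (s⁻¹ * t * s) (S.mul_mem (S.mul_mem (S.inv_mem hs) ht) hs)
      have h2 : s * (s⁻¹ * t * s * (s⁻¹ * g * s)) * s⁻¹ = t * g := by group
      have h3 : s * (s⁻¹ * g * s * (s⁻¹ * t * s)) * s⁻¹ = g * t := by group
      rw [← h2, ← h3, h1]
    rw [subgroupBlockCoeff_of_not_mem _ _ hg, subgroupBlockCoeff_of_not_mem _ _ hg']

/-- elements of `A^S` whose restriction to `C_G(S)` is a class function are central modulo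
`ker Br_S` -/
theorem mul_comm_mod_KBr [Fact p.Prime] (hM : IsPModular p M) {S : Subgroup G}
    (hS : IsPGroup p S) {x e : GA G}
    (hx : x ∈ fixedRing M (isPModular_isPrime hM) S)
    (he : e ∈ fixedRing M (isPModular_isPrime hM) S)
    (hcf : ∀ c ∈ Subgroup.centralizer (S : Set G), ∀ t ∈ Subgroup.centralizer (S : Set G),
      e.coeff (t * c * t⁻¹) = e.coeff c) :
    x * e - e * x ∈ KBr M (isPModular_isPrime hM) S := by
  classical
  have hMp := isPModular_isPrime hM
  set T := fixedRing M hMp S
  refine ⟨T.sub_mem (T.mul_mem hx he) (T.mul_mem he hx), fun c hc => ?_⟩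
  have h1 := coeff_mul_congr hM S hS hx he hc
  have h2 := coeff_mul_congr hM S hS he hx hc
  have h3 : ∑ g ∈ Finset.univ.filter (fun g => g ∈ Subgroup.centralizer (S : Set G)),
      x.coeff g * e.coeff (g⁻¹ * c) =
      ∑ g ∈ Finset.univ.filter (fun g => g ∈ Subgroup.centralizer (S : Set G)),
      e.coeff g * x.coeff (g⁻¹ * c) := by
    symm
    apply Finset.sum_bij (fun g _ => g⁻¹ * c)
    · intro g hg
      rw [Finset.mem_filter] at hg ⊢
      exact ⟨Finset.mem_univ _, Subgroup.mul_mem _ (Subgroup.inv_mem _ hg.2) hc⟩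
    · intro g _ g' _ h
      have := mul_right_cancel h
      exact inv_injective this
    · intro h hh
      rw [Finset.mem_filter] at hh
      refine ⟨c * h⁻¹, ?_, by group⟩
      rw [Finset.mem_filter]
      exact ⟨Finset.mem_univ _, Subgroup.mul_mem _ hc (Subgroup.inv_mem _ hh.2)⟩
    · intro g hg
      rw [Finset.mem_filter] at hg
      have h4 : (g⁻¹ * c)⁻¹ * c = c⁻¹ * (g) * c := by group
      have h5 : e.coeff ((g⁻¹ * c)⁻¹ * c) = e.coeff g := by
        rw [h4]
        have := hcf g hg.2 c⁻¹ (Subgroup.inv_mem _ hc)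
        rwa [inv_inv] at this
      rw [h5, mul_comm]
  rw [coeff_sub']
  have h6 := memLocalIdeal_sub hMp h1 h2
  rw [h3] at h6
  convert h6 using 1
  ring

theorem bidem_classFunction (S : Subgroup G)
    (f : Set (IrrCharacter (Subgroup.centralizer (S : Set G)))) :
    ∀ c ∈ Subgroup.centralizer (S : Set G), ∀ t ∈ Subgroup.centralizer (S : Set G),
      (bidem (Subgroup.centralizer (S : Set G)) f).coeff (t * c * t⁻¹) =
        (bidem (Subgroup.centralizer (S : Set G)) f).coeff c := by
  intro c hc t ht
  have : Fintype (Subgroup.centralizer (S : Set G)) := Fintype.ofFinite _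
  rw [coeff_bidem, coeff_bidem, subgroupBlockCoeff_eq_extZ]
  have hcf : IsClassFunction _ (blockCoeff f) := by
    intro a b
    unfold blockCoeff
    congr 1
    refine finsum_congr fun χ => ?_
    refine finsum_congr fun _ => ?_
    rw [Cfsg.Agent.Lib.Helper1.isClassFunction_irr χ.2]
  exact extZ_conj_of_mem _ hcf ht c

theorem bidem_comm_mod_KBr [Fact p.Prime] (hM : IsPModular p M) {S : Subgroup G}
    (hS : IsPGroup p S) {x : GA G} (hx : x ∈ fixedRing M (isPModular_isPrime hM) S)
    {f : Set (IrrCharacter (Subgroup.centralizer (S : Set G)))} (hf : IsPBlock M f) :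
    x * bidem (Subgroup.centralizer (S : Set G)) f - bidem (Subgroup.centralizer (S : Set G)) f * x
      ∈ KBr M (isPModular_isPrime hM) S :=
  mul_comm_mod_KBr hM hS hx (bidem_mem_fixedRing (isPModular_isPrime hM) S hf)
    (bidem_classFunction S f)

/-! ### the block of a local point -/

/-- the idempotent `i ∈ A^S` belongs to the block `b` of `C_G(S)`: `i ≡ i e_b` modulo `ker Br_S` -/
def Bel (M : Ideal AlgInt) (hM : M.IsPrime) (S : Subgroup G)
    (b : Set (IrrCharacter (Subgroup.centralizer (S : Set G)))) (i : GA G) : Prop :=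
  Cong (KBr M hM S) i (i * bidem (Subgroup.centralizer (S : Set G)) b)

section bel

variable [Fact p.Prime] (hM : IsPModular p M) {S : Subgroup G} (hS : IsPGroup p S)

include hS

/-- existence of the block of a local point -/
theorem IsLPG.exists_bel {i : GA G} (hi : IsLPG M (isPModular_isPrime hM) S i) :
    ∃ b : Set (IrrCharacter (Subgroup.centralizer (S : Set G))), IsPBlock M b ∧
      Bel M (isPModular_isPrime hM) S b i := by
  classical
  have hMp := isPModular_isPrime hM
  have : Fintype (Set (IrrCharacter (Subgroup.centralizer (S : Set G)))) := Fintype.ofFinite _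
  have hfit : FitSub (fixedRing M hMp S) (PP M hMp S) := (fitScal_fixedRing hMp S).toFitSub
  have hKi := KBr_isIdeal hM S hS
  have hiT : i ∈ fixedRing M hMp S := hi.1.1
  have hii : i * i = i := hi.1.2.1
  have hsum : ∑ f : Set (IrrCharacter (Subgroup.centralizer (S : Set G))),
      i * (if IsPBlock M f then bidem (Subgroup.centralizer (S : Set G)) f else 0) * i = i := by
    rw [← Finset.sum_mul, ← Finset.mul_sum, sum_bidem hMp _, mul_one, hii]
  obtain ⟨b, -, hb⟩ := hfit.prim_corner_sum hi.1 Finset.univ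
    (fun f => i * (if IsPBlock M f then bidem (Subgroup.centralizer (S : Set G)) f else 0) * i)
    (fun f _ => by
      split_ifs with hf
      · exact Subring.mul_mem _ (Subring.mul_mem _ hiT (bidem_mem_fixedRing hMp S hf)) hiT
      · rw [mul_zero, zero_mul]; exact Subring.zero_mem _)
    (fun f _ => Corner.sandwich hii _) hsum
  have hbB : IsPBlock M b := by
    by_contra hnb
    rw [if_neg hnb, mul_zero, zero_mul] at hb
    exact not_cunit_zero hi.1.2.2.1 hb
  rw [if_pos hbB] at hb
  exact ⟨b, hbB, cong_of_cunit_sandwich hKi hiT hii (bidem_mem_fixedRing hMp S hbB)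
    (bidem_idem _ b) (bidem_comm_mod_KBr hM hS hiT hbB) hb⟩

/-- uniqueness of the block of an idempotent outside `ker Br_S` -/
theorem Bel.unique {i : GA G}
    (hi : i ∉ KBr M (isPModular_isPrime hM) S)
    {b b' : Set (IrrCharacter (Subgroup.centralizer (S : Set G)))} (hb : IsPBlock M b)
    (hb' : IsPBlock M b') (h : Bel M (isPModular_isPrime hM) S b i)
    (h' : Bel M (isPModular_isPrime hM) S b' i) : b = b' := by
  have hMp := isPModular_isPrime hM
  by_contra hne
  apply hi
  have hKi := KBr_isIdeal hM S hS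
  have h1 := cong_mul_of_orth hKi (bidem_mem_fixedRing hMp S hb)
    (bidem_mul_bidem_of_ne hMp _ hb' hb (Ne.symm hne)) h'
  exact hKi.mem_of_cong h h1

/-- the other blocks kill the idempotent modulo `ker Br_S` -/
theorem Bel.mul_bidem_mem {i : GA G}
    {b b' : Set (IrrCharacter (Subgroup.centralizer (S : Set G)))} (hb : IsPBlock M b)
    (hb' : IsPBlock M b') (hne : b ≠ b') (h : Bel M (isPModular_isPrime hM) S b i) :
    i * bidem (Subgroup.centralizer (S : Set G)) b' ∈ KBr M (isPModular_isPrime hM) S := by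
  have hMp := isPModular_isPrime hM
  have hKi := KBr_isIdeal hM S hS
  exact cong_mul_of_orth hKi (bidem_mem_fixedRing hMp S hb')
    (bidem_mul_bidem_of_ne hMp _ hb hb' hne) h

/-- isomorphic idempotents belong to the same block -/
theorem Bel.of_iso {i i' : GA G}
    {b : Set (IrrCharacter (Subgroup.centralizer (S : Set G)))} (hb : IsPBlock M b)
    (hiso : IsoIdem (fixedRing M (isPModular_isPrime hM) S) i i')
    (h : Bel M (isPModular_isPrime hM) S b i) : Bel M (isPModular_isPrime hM) S b i' := by
  have hMp := isPModular_isPrime hM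
  have hKi := KBr_isIdeal hM S hS
  obtain ⟨a, c, haT, hcT, h1, h2, h3, h4, h5, h6⟩ := hiso
  exact cong_of_iso hKi haT hcT h1 h5 h6 (bidem_comm_mod_KBr hM hS haT hb) h

end bel

end Cfsg.Agent.Lib.Helper8.BPS
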