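import Mathlib
import Cfsg.Agent.Lib.Helper8.BPS17
import Cfsg.Agent.Lib.Helper8.BlockIdem2
import Cfsg.Agent.Lib.Helper8.BlockPairs4
import Cfsg.Agent.Lib.Helper8.BlockBrauer2
import Cfsg.Agent.Lib.Helper8.CA1

/-!
# Conjugation of local points; the normal step from local points to Brauer pairs
-/

set_option autoImplicit false
set_option linter.unusedSectionVars false

namespace Cfsg.Agent.Lib.Helper8.BPS

open Cfsg Cfsg.Agent.Lib.Helper8

section abstract

variable {Λ : Type*} [Ring Λ] {T : Subring Λ} {K : Set Λ}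

/-- if `x, e` are idempotents commuting modulo `K` and a power of `x - x e x` lies in `K`, then
`x - x e ∈ K` -/
theorem mem_of_pow_sandwich (hK : IsIdealOf T K) {x e : Λ} (hxT : x ∈ T) (heT : e ∈ T)
    (hxx : x * x = x) (hee : e * e = e) (hcomm : Cong K (x * e) (e * x)) {n : ℕ} (hn : 0 < n)
    (hpow : (x - x * e * x) ^ n ∈ K) : x - x * e ∈ K := by
  have hzT : x - x * e ∈ T := T.sub_mem hxT (T.mul_mem hxT heT)
  have hyT : x - x * e * x ∈ T := T.sub_mem hxT (T.mul_mem (T.mul_mem hxT heT) hxT)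
  -- `x e x ≡ x e`
  have c1 : Cong K (x * e * x) (x * e) := by
    have h1 : Cong K (x * (e * x)) (x * (x * e)) := hK.cong_mul_left x hxT (hK.cong_symm hcomm)
    rwa [← mul_assoc, ← mul_assoc, hxx] at h1
  have c2 : Cong K (x - x * e * x) (x - x * e) := hK.cong_sub (hK.cong_refl x) c1
  -- `z² ≡ z`
  have c3 : Cong K ((x - x * e) * (x - x * e)) (x - x * e) := by
    have h1 : (x - x * e) * (x - x * e) = x - x * e - (x * e * x - x * e * (x * e)) := by
      calc (x - x * e) * (x - x * e) = x * x - x * x * e - (x * e * x - x * e * (x * e)) := by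
            noncomm_ring
        _ = _ := by rw [hxx]
    have h2 : Cong K (x * e * (x * e)) (x * e) := by
      have h3 : Cong K (x * (e * x) * e) (x * (x * e) * e) :=
        hK.cong_mul_right e heT (hK.cong_mul_left x hxT (hK.cong_symm hcomm))
      have h4 : x * (x * e) * e = x * e := by
        rw [← mul_assoc, hxx, mul_assoc, hee]
      rw [h4] at h3
      have h5 : x * (e * x) * e = x * e * (x * e) := by noncomm_ring
      rwa [h5] at h3
    have h6 : Cong K (x * e * x - x * e * (x * e)) 0 := by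
      have := hK.cong_sub c1 h2
      rwa [sub_self] at this
    rw [h1]
    have := hK.cong_sub (hK.cong_refl (x - x * e)) h6
    rwa [sub_zero] at this
  have c4 : ∀ m : ℕ, 0 < m → Cong K ((x - x * e) ^ m) (x - x * e) := by
    intro m hm
    induction m with
    | zero => exact absurd hm (lt_irrefl 0)
    | succ m ih =>
      rcases Nat.eq_zero_or_pos m with h0 | h0
      · subst h0
        rw [zero_add, pow_one]
        exact hK.cong_refl _
      · rw [pow_succ]
        exact hK.cong_trans (hK.cong_mul_right _ hzT (ih h0)) c3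
  have c5 : Cong K ((x - x * e * x) ^ n) ((x - x * e) ^ n) := hK.cong_pow hyT hzT c2 n
  have c6 := hK.cong_trans (hK.cong_symm (c4 n hn)) (hK.cong_symm c5)
  exact hK.mem_of_cong c6 hpow

end abstract

universe u

variable {M : Ideal AlgInt} {p : ℕ} {G : Type u} [Group G] [Fintype G] [DecidableEq G]

open Classical in
theorem sum_ite_mem_eq (C : Subgroup G) [Fintype C] (f : G → ℂ) :
    ∑ a : G, (if a ∈ C then f a else 0) = ∑ k : C, f k := by
  rw [← Finset.sum_filter]
  exact Finset.sum_subtype (Finset.univ.filter fun a => a ∈ C) (by intro x; simp) f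

/-! ### conjugation -/

theorem cj_inv_mem_fixedRing (hM : M.IsPrime) {S : Subgroup G} (y : G) {x : GA G}
    (hx : x ∈ fixedRing M hM (S.map (MulAut.conj y).toMonoidHom)) :
    cj y⁻¹ x ∈ fixedRing M hM S := by
  refine ⟨cj_mem_coeff hx.1 _, fun s hs => ?_⟩
  have h1 : y * s * y⁻¹ ∈ S.map (MulAut.conj y).toMonoidHom := ⟨s, hs, by simp⟩
  have h2 := hx.2 _ h1
  rw [cj_cj]
  have h3 : s * y⁻¹ = y⁻¹ * (y * s * y⁻¹) := by group
  rw [h3, ← cj_cj, h2]

theorem mem_centralizer_of_map_conj {S : Subgroup G} {y c : G}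
    (hc : c ∈ Subgroup.centralizer ((S.map (MulAut.conj y).toMonoidHom : Subgroup G) : Set G)) :
    y⁻¹ * c * y ∈ Subgroup.centralizer (S : Set G) := (mem_centralizer_map_conj S y c).1 hc

theorem map_conj_centralizer {S : Subgroup G} {y c : G}
    (hc : c ∈ Subgroup.centralizer (S : Set G)) :
    y * c * y⁻¹ ∈ Subgroup.centralizer ((S.map (MulAut.conj y).toMonoidHom : Subgroup G) : Set G) := by
  rw [mem_centralizer_map_conj]
  have : y⁻¹ * (y * c * y⁻¹) * y = c := by group
  rwa [this]

theorem cj_mem_KBr (hM : M.IsPrime) {S : Subgroup G} (y : G) {x : GA G}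
    (hx : x ∈ KBr M hM S) : cj y x ∈ KBr M hM (S.map (MulAut.conj y).toMonoidHom) := by
  refine ⟨cj_mem_fixedRing hM y hx.1, fun c hc => ?_⟩
  rw [coeff_cj]
  exact hx.2 _ (mem_centralizer_of_map_conj hc)

theorem cj_inv_mem_KBr (hM : M.IsPrime) {S : Subgroup G} (y : G) {x : GA G}
    (hx : x ∈ KBr M hM (S.map (MulAut.conj y).toMonoidHom)) : cj y⁻¹ x ∈ KBr M hM S := by
  refine ⟨cj_inv_mem_fixedRing hM y hx.1, fun c hc => ?_⟩
  rw [coeff_cj, inv_inv]
  exact hx.2 _ (map_conj_centralizer hc)

theorem Corner.conj {i a : GA G} (y : G) (h : Corner i a) : Corner (cj y i) (cj y a) := by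
  constructor
  · rw [← cj_mul, h.1]
  · rw [← cj_mul, h.2]

theorem cj_eq_zero_iff (y : G) (x : GA G) : cj y x = 0 ↔ x = 0 := by
  constructor
  · intro h
    have := congrArg (cj y⁻¹) h
    rwa [cj_inv_cj, cj_zero] at this
  · rintro rfl
    exact cj_zero y

theorem Prim.conj (hM : M.IsPrime) {S : Subgroup G} (y : G) {i : GA G}
    (hi : Prim (fixedRing M hM S) i) :
    Prim (fixedRing M hM (S.map (MulAut.conj y).toMonoidHom)) (cj y i) := by
  obtain ⟨hiT, hii, hi0, hprim⟩ := hi
  refine ⟨cj_mem_fixedRing hM y hiT, by rw [← cj_mul, hii], fun h => hi0 ((cj_eq_zero_iff y i).1 h),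
    fun e heT hee hce => ?_⟩
  have h1 := hprim (cj y⁻¹ e) (cj_inv_mem_fixedRing hM y heT) (by rw [← cj_mul, hee])
    (by have := hce.conj y⁻¹; rwa [cj_inv_cj] at this)
  rcases h1 with h | h
  · left
    exact (cj_eq_zero_iff y⁻¹ e).1 h
  · right
    have := congrArg (cj y) h
    rwa [cj_cj_inv] at this

theorem IsLPG.conj (hM : M.IsPrime) {S : Subgroup G} (y : G) {i : GA G} (hi : IsLPG M hM S i) :
    IsLPG M hM (S.map (MulAut.conj y).toMonoidHom) (cj y i) := by
  refine ⟨hi.1.conj hM y, fun h => hi.2 ?_⟩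
  have := cj_inv_mem_KBr hM y h
  rwa [cj_inv_cj] at this

theorem cj_bidem (S : Subgroup G) (y : G)
    (b : Set (IrrCharacter (Subgroup.centralizer (S : Set G)))) :
    cj y (bidem (Subgroup.centralizer (S : Set G)) b) =
      bidem (Subgroup.centralizer ((S.map (MulAut.conj y).toMonoidHom : Subgroup G) : Set G))
        (conjBlock S y b) := by
  apply ga_ext
  intro g
  rw [coeff_cj, coeff_bidem, coeff_bidem]
  have := subgroupBlockCoeff_conjBlock y S b (y⁻¹ * g * y)
  rw [← this]
  congr 1
  group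

theorem Bel.conj (hM : M.IsPrime) {S : Subgroup G} (y : G)
    {b : Set (IrrCharacter (Subgroup.centralizer (S : Set G)))} {i : GA G}
    (h : Bel M hM S b i) :
    Bel M hM (S.map (MulAut.conj y).toMonoidHom) (conjBlock S y b) (cj y i) := by
  unfold Bel Cong at *
  have := cj_mem_KBr hM y h
  rwa [cj_sub, cj_mul, cj_bidem] at this

/-! ### the normal step -/

section ns

variable [Fact p.Prime] (hM : IsPModular p M)

/-- the block idempotent of the lower pair of a normal inclusion is fixed by the upper group -/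
theorem bidem_mem_fixedRing_of_isNormalSubpair {S N : Subgroup G}
    {b₀ : Set (IrrCharacter (Subgroup.centralizer (S : Set G)))}
    {e' : Set (IrrCharacter (Subgroup.centralizer (N : Set G)))}
    (h : IsNormalSubpair p M S b₀ N e') :
    bidem (Subgroup.centralizer (S : Set G)) b₀ ∈ fixedRing M (isPModular_isPrime hM) N := by
  have hMp := isPModular_isPrime hM
  obtain ⟨⟨-, hb₀⟩, -, -, -, hst, -⟩ := h
  refine ⟨coeff_bidem_mem hMp _ hb₀, fun x hx => ?_⟩
  apply ga_ext
  intro g
  rw [coeff_cj, coeff_bidem, coeff_bidem]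
  have := subgroupBlockCoeff_conj_of_stabilizes _ b₀ (hst x⁻¹ (N.inv_mem hx)) g
  rwa [inv_inv] at this

/-- **Claim A**: the block idempotent of the upper pair is absorbed by the idempotent of the lower
pair, modulo `ker Br_N`. -/
theorem bidem_cong_of_isNormalSubpair {S N : Subgroup G}
    {b₀ : Set (IrrCharacter (Subgroup.centralizer (S : Set G)))}
    {e' : Set (IrrCharacter (Subgroup.centralizer (N : Set G)))}
    (h : IsNormalSubpair p M S b₀ N e') :
    Cong (KBr M (isPModular_isPrime hM) N) (bidem (Subgroup.centralizer (N : Set G)) e')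
      (bidem (Subgroup.centralizer (N : Set G)) e' * bidem (Subgroup.centralizer (S : Set G)) b₀) := by
  classical
  have hMp := isPModular_isPrime hM
  have he₀N := bidem_mem_fixedRing_of_isNormalSubpair hM h
  obtain ⟨⟨hSp, hb₀⟩, ⟨hNp, he'⟩, hSN, hNS, hst, hocc⟩ := h
  have : Fintype (Subgroup.centralizer (S : Set G)) := Fintype.ofFinite _
  have : Fintype (Subgroup.centralizer (N : Set G)) := Fintype.ofFinite _
  have hCK : Subgroup.centralizer (N : Set G) ≤ Subgroup.centralizer (S : Set G) :=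
    Subgroup.centralizer_le (by exact_mod_cast hSN)
  have hee'N := bidem_mem_fixedRing hMp N he'
  set F : G → ℂ := subgroupBlockCoeff (Subgroup.centralizer (S : Set G)) b₀ with hF
  set β : Subgroup.centralizer (N : Set G) → ℂ := fun k => F k with hβ
  have hFS : ∀ g, MemLocalRing M (F g) := fun g => by
    have := coeff_bidem_mem hMp _ hb₀ g
    rwa [coeff_bidem] at this
  have hFinv : ∀ u ∈ N, ∀ x : G, F (u * x * u⁻¹) = F x := fun u hu x =>
    subgroupBlockCoeff_conj_of_stabilizes _ b₀ (hst u hu) x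
  have hFF : conv F F = F := by
    rw [hF, subgroupBlockCoeff_eq_extZ, conv_extZ, conv_blockCoeff_blockCoeff, Set.inter_self]
  have hβcf : IsClassFunction _ β := by
    rw [hβ, hF, subgroupBlockCoeff_eq_extZ]
    exact isClassFunction_extZ_restrict hCK (isClassFunction_blockCoeff b₀)
  have hβS : ∀ k, MemLocalRing M (β k) := fun k => hFS _
  -- `β` is idempotent modulo `𝔭`
  have hβid : ∀ k, MemLocalIdeal M (conv β β k - β k) := by
    intro k
    have h1 := brauer_conv' hM N hNp hFinv hFinv hFS hFS (k : G)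
    rw [hFF, truncTo_of_mem _ (show (k : G) ∈ _ from k.2)] at h1
    have h2 := conv_restrict (Subgroup.centralizer (N : Set G))
      (A := truncTo (Subgroup.centralizer (N : Set G) : Set G) F)
      (B := truncTo (Subgroup.centralizer (N : Set G) : Set G) F)
      (fun g hg => truncTo_of_not_mem _ hg) k
    have h3 : (fun k : Subgroup.centralizer (N : Set G) =>
        truncTo (Subgroup.centralizer (N : Set G) : Set G) F k) = β := by
      funext k
      rw [truncTo_of_mem _ (show (k : G) ∈ _ from k.2)]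
    rw [h3] at h2
    rw [h2] at h1
    have := memLocalIdeal_neg h1
    rwa [neg_sub] at this
  set A : Set (IrrCharacter (Subgroup.centralizer (N : Set G))) :=
    {ψ | MemLocalIdeal M (omega (ψ : _ → ℂ) β - 1)} with hA
  obtain ⟨-, -, -, hAS, hcong⟩ := cong_blockCoeff_of_idempotent hMp hβcf hβS hβid A (fun ψ => Iff.rfl)
  have he'A : e' ⊆ A := by
    intro ξ hξ
    have := hocc ξ hξ
    rw [brauerOmega_eq_omega] at this
    exact this
  have hinter : e' ∩ A = e' := Set.inter_eq_left.2 he'A
  have he'S := (blockCoeff_spec hMp he').2.1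
  -- `conv (blockCoeff e') β ≡ blockCoeff e'`
  have hkey : ∀ k, MemLocalIdeal M (conv (blockCoeff e') β k - blockCoeff e' k) := by
    intro k
    have h1 : β = (β - blockCoeff A) + blockCoeff A := by
      funext x
      simp
    have h2 : conv (blockCoeff e') β = conv (blockCoeff e') (β - blockCoeff A) + blockCoeff e' := by
      conv_lhs => rw [h1]
      rw [CAlg.conv_add_right, conv_blockCoeff_blockCoeff, hinter]
    rw [h2]
    simp only [Pi.add_apply, add_sub_cancel_right]
    exact memLocalIdeal_conv_right hMp he'S (fun g => hcong g) k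
  -- conclusion
  refine ⟨Subring.sub_mem _ hee'N (Subring.mul_mem _ hee'N he₀N), fun c hc => ?_⟩
  have h1 := coeff_mul_congr hM N hNp hee'N he₀N hc
  have h2 : ∑ g ∈ Finset.univ.filter (fun g => g ∈ Subgroup.centralizer (N : Set G)),
      (bidem (Subgroup.centralizer (N : Set G)) e').coeff g *
        (bidem (Subgroup.centralizer (S : Set G)) b₀).coeff (g⁻¹ * c) =
      conv (blockCoeff e') β ⟨c, hc⟩ := by
    rw [conv_apply, Finset.sum_filter, sum_ite_mem_eq]
    refine Finset.sum_congr rfl fun k _ => ?_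
    rw [coeff_bidem, coeff_bidem, subgroupBlockCoeff_coe]
    rfl
  rw [h2] at h1
  have h3 := hkey ⟨c, hc⟩
  have h4 := memLocalIdeal_add hMp h1 h3
  rw [coeff_sub', coeff_bidem, subgroupBlockCoeff_of_mem _ _ hc]
  have := memLocalIdeal_neg h4
  convert this using 1
  ring

/-- **The normal step.**  A local point of `S` contained in a local point of `N` (with
`S ≤ N ≤ N_G(S)`): the Brauer pairs form a normal inclusion. -/
theorem normal_step_lpg {S N : Subgroup G} (hN : IsPGroup p N) (hSN : S ≤ N)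
    (hNS : N ≤ Subgroup.normalizer (S : Set G)) {j' i : GA G}
    {e' : Set (IrrCharacter (Subgroup.centralizer (N : Set G)))}
    {b : Set (IrrCharacter (Subgroup.centralizer (S : Set G)))}
    (hj' : IsLPG M (isPModular_isPrime hM) N j') (he' : IsPBlock M e')
    (hje' : Bel M (isPModular_isPrime hM) N e' j')
    (hi : IsLPG M (isPModular_isPrime hM) S i) (hb : IsPBlock M b)
    (hib : Bel M (isPModular_isPrime hM) S b i) (hc : Corner j' i) :
    IsNormalSubpair p M S b N e' := by
  have hMp := isPModular_isPrime hM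
  have hSp : IsPGroup p S := hN.to_le hSN
  obtain ⟨b₀, hb₀⟩ := exists_isNormalSubpair hM N S ⟨hN, he'⟩ hSN hNS
  have hb₀B : IsPBlock M b₀ := hb₀.1.2
  have hKN := KBr_isIdeal hM N hN
  have hKS := KBr_isIdeal hM S hSp
  have hfitN : FitSub (fixedRing M hMp N) (PP M hMp N) := (fitScal_fixedRing hMp N).toFitSub
  have hj'T : j' ∈ fixedRing M hMp N := hj'.1.1
  have hj'TS : j' ∈ fixedRing M hMp S := fixedRing_mono hMp hSN hj'T
  have hj'j' : j' * j' = j' := hj'.1.2.1
  have he₀N := bidem_mem_fixedRing_of_isNormalSubpair hM hb₀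
  have he₀S := bidem_mem_fixedRing hMp S hb₀B
  have hee'N := bidem_mem_fixedRing hMp N he'
  have hee := bidem_idem (Subgroup.centralizer (S : Set G)) b₀
  -- `j' ≡ j' e₀` modulo `K_N`
  have c1 : Cong (KBr M hMp N) j' (j' * bidem (Subgroup.centralizer (S : Set G)) b₀) := by
    have h1 : Cong (KBr M hMp N) j' (j' * bidem (Subgroup.centralizer (N : Set G)) e') := hje'
    have h2 := hKN.cong_mul_left j' hj'T (bidem_cong_of_isNormalSubpair hM hb₀)
    have h3 := hKN.cong_mul_right _ he₀N (hKN.cong_symm h1)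
    rw [← mul_assoc] at h2
    exact hKN.cong_trans h1 (hKN.cong_trans h2 h3)
  -- `e₀` commutes with `j'` modulo `K_N`
  have hCK : Subgroup.centralizer (N : Set G) ≤ Subgroup.centralizer (S : Set G) :=
    Subgroup.centralizer_le (by exact_mod_cast hSN)
  have c2 : Cong (KBr M hMp N) (j' * bidem (Subgroup.centralizer (S : Set G)) b₀)
      (bidem (Subgroup.centralizer (S : Set G)) b₀ * j') :=
    mul_comm_mod_KBr hM hN hj'T he₀N
      (fun c hc t ht => bidem_classFunction S b₀ c (hCK hc) t (hCK ht))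
  -- `y₀ = j' - j' e₀ j' ∈ K_N`
  have hy₀ : j' - j' * bidem (Subgroup.centralizer (S : Set G)) b₀ * j' ∈ KBr M hMp N := by
    have h1 : Cong (KBr M hMp N) (j' * (bidem (Subgroup.centralizer (S : Set G)) b₀ * j'))
        (j' * (j' * bidem (Subgroup.centralizer (S : Set G)) b₀)) :=
      hKN.cong_mul_left j' hj'T (hKN.cong_symm c2)
    rw [← mul_assoc, ← mul_assoc, hj'j'] at h1
    exact hKN.cong_trans c1 (hKN.cong_symm h1)
  have hy₀c : Corner j' (j' - j' * bidem (Subgroup.centralizer (S : Set G)) b₀ * j') := by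
    constructor
    · rw [mul_sub, hj'j', ← mul_assoc, ← mul_assoc, hj'j']
    · rw [sub_mul, hj'j', mul_assoc, hj'j']
  obtain ⟨-, -, n, hn, hnP⟩ := hj'.crad_of_mem_KBr hM hN hy₀ hy₀c
  have hnK : (j' - j' * bidem (Subgroup.centralizer (S : Set G)) b₀ * j') ^ n ∈ KBr M hMp S :=
    PP_sub_KBr hMp S (PP_mono hMp hSN hnP)
  -- `j' - j' e₀ ∈ K_S`
  have hz : j' - j' * bidem (Subgroup.centralizer (S : Set G)) b₀ ∈ KBr M hMp S :=
    mem_of_pow_sandwich hKS hj'TS he₀S hj'j' hee (bidem_comm_mod_KBr hM hSp hj'TS hb₀B) hn hnK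
  -- `i ≡ i e₀`
  have hib₀ : Bel M hMp S b₀ i := by
    unfold Bel Cong
    have h1 := hKS.mul_left i hi.1.1 _ hz
    rwa [mul_sub, ← mul_assoc, hc.2] at h1
  have hbb : b = b₀ := Bel.unique hM hSp hi.2 hb hb₀B hib hib₀
  rw [hbb]
  exact hb₀

end ns

end Cfsg.Agent.Lib.Helper8.BPS
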