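import Mathlib
import Cfsg.Agent.Lib.Helper8.BPS0
import Cfsg.Agent.Lib.Helper8.BPS17
import Cfsg.Agent.Lib.Helper8.Sub10

/-!
# The local statement of the Broué–Puig theorem and the idempotent of a linear character
-/

set_option autoImplicit false
set_option linter.unusedSectionVars false

namespace Cfsg.Agent.Lib.Helper8.BPS

open Cfsg Cfsg.Agent.Lib.Helper8
open scoped ComplexConjugate

universe u

variable {G : Type u} [Group G] [Fintype G] [DecidableEq G]

/-- the idempotent `|A|⁻¹ ∑_{s ∈ A} conj (λ s) s` of the linear character `λ` of the subgroup `A` -/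
noncomputable def linIdem (A : Subgroup G) [Fintype A] (lam : A →* ℂˣ) : GA G :=
  (Nat.card A : ℂ)⁻¹ • ∑ s : A, conj ((lam s : ℂˣ) : ℂ) • og (s : G)

/-- the local function: `u ↦ ∑_b w(u,b) χ(u ε e_b)` on the `p`-subgroup `Q` -/
noncomputable def thetaLoc (M : Ideal AlgInt) (w : StarWeight G) (χ : G → ℂ) (Q : Subgroup G)
    (ε : GA G) : Q → ℂ :=
  fun u => ∑ b ∈ blocksFinset M ↥(cent (u : G)),
    w (u : G) b * ev χ (og (u : G) * ε * bidem (cent (u : G)) b)

/-- **The local statement**: for a `p`-subgroup `Q` and an idempotent `ε ∈ (𝒪G)^Q` supported on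
`p`-regular elements of `C_G(Q)`, the local function has multiplicities in `S`. -/
def LocalStatement (p : ℕ) (M : Ideal AlgInt) (hMp : M.IsPrime) (G : Type u) [Group G] [Fintype G]
    [DecidableEq G] : Prop :=
  ∀ (B : Set (IrrCharacter G)) (D : Subgroup G)
    (eD : Set (IrrCharacter ↥(Subgroup.centralizer (D : Set G)))),
    IsMaximalBrauerPair p M B D eD → ∀ [Fintype D] (S : AddSubgroup ℂ) (η : D → ℂ),
    IsClassFunction D η →
    (∀ ψ : IrrCharacter D, classInner η (ψ : D → ℂ) ∈ S) →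
    ∀ w : StarWeight G, IsStarWeight p M B D eD η w → ∀ χ : IrrCharacter G, χ ∈ B →
    ∀ (Q : Subgroup G) [Fintype Q], IsPGroup p Q → ∀ ε : GA G, ε * ε = ε →
      ε ∈ fixedRing M hMp Q →
      (∀ g, ε.coeff g ≠ 0 → g ∈ Subgroup.centralizer (Q : Set G) ∧ ¬ p ∣ orderOf g) →
      ∀ lam : Q → ℂ, IsCharacter Q lam →
        classInner (thetaLoc M w (χ : G → ℂ) Q ε) lam ∈ S

end Cfsg.Agent.Lib.Helper8.BPS
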