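import Mathlib
import Cfsg.Agent.Lib.Helper8.BPS19

/-!
# The idempotent of a linear character of a `p'`-subgroup
-/

set_option autoImplicit false
set_option linter.unusedSectionVars false

namespace Cfsg.Agent.Lib.Helper8.BPS

open Cfsg Cfsg.Agent.Lib.Helper8
open scoped ComplexConjugate

universe u

variable {M : Ideal AlgInt} {p : ℕ} {G : Type u} [Group G] [Fintype G] [DecidableEq G]

theorem card_ne_zero_aux (A : Subgroup G) : (Nat.card A : ℂ) ≠ 0 := by
  have : 0 < Nat.card A := Nat.card_pos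
  exact_mod_cast this.ne'

theorem linIdem_mul_self (A : Subgroup G) [Fintype A] (lam : A →* ℂˣ) :
    linIdem A lam * linIdem A lam = linIdem A lam := by
  unfold linIdem
  rw [smul_mul_smul_comm, Finset.sum_mul]
  have h1 : ∀ s : A, conj ((lam s : ℂˣ) : ℂ) • og (s : G) *
      ∑ t : A, conj ((lam t : ℂˣ) : ℂ) • og (t : G) =
      ∑ r : A, conj ((lam r : ℂˣ) : ℂ) • og (r : G) := by
    intro s
    rw [Finset.mul_sum]
    conv_rhs => rw [← Equiv.sum_comp (Equiv.mulLeft s)]
    refine Finset.sum_congr rfl fun t _ => ?_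
    rw [smul_mul_smul_comm, ← og_mul, Equiv.coe_mulLeft, map_mul, Units.val_mul, map_mul]
    rfl
  rw [Finset.sum_congr rfl fun s _ => h1 s, Finset.sum_const, Finset.card_univ,
    ← Nat.card_eq_fintype_card, ← Nat.cast_smul_eq_nsmul ℂ, smul_smul, mul_assoc,
    inv_mul_cancel₀ (card_ne_zero_aux A), mul_one]

open Classical in
theorem coeff_linIdem (A : Subgroup G) [Fintype A] (lam : A →* ℂˣ) (g : G) :
    (linIdem A lam).coeff g =
      if h : g ∈ A then (Nat.card A : ℂ)⁻¹ * conj ((lam ⟨g, h⟩ : ℂˣ) : ℂ) else 0 := by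
  unfold linIdem
  rw [coeff_smul', coeff_sum']
  simp_rw [coeff_smul', coeff_og]
  split_ifs with h
  · rw [Finset.sum_eq_single ⟨g, h⟩]
    · rw [if_pos rfl, mul_one]
    · intro s _ hs
      rw [if_neg, mul_zero]
      intro hh
      exact hs (Subtype.ext hh)
    · intro hh
      exact absurd (Finset.mem_univ _) hh
  · rw [Finset.sum_eq_zero, mul_zero]
    intro s _
    rw [if_neg, mul_zero]
    intro hh
    exact h (hh ▸ s.2)

theorem linIdem_support (A : Subgroup G) [Fintype A] (lam : A →* ℂˣ) (g : G)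
    (hg : (linIdem A lam).coeff g ≠ 0) : g ∈ A := by
  by_contra h
  rw [coeff_linIdem, dif_neg h] at hg
  exact hg rfl

theorem isIntegral_lam (A : Subgroup G) [Fintype A] (lam : A →* ℂˣ) (s : A) :
    IsIntegral ℤ ((lam s : ℂˣ) : ℂ) := by
  have h1 : ((lam s : ℂˣ) : ℂ) ^ orderOf s = 1 := by
    rw [← Units.val_pow_eq_pow_val, ← map_pow, pow_orderOf_eq_one, map_one, Units.val_one]
  refine ⟨Polynomial.X ^ orderOf s - 1, ?_, ?_⟩
  · exact Polynomial.monic_X_pow_sub_C 1 (orderOf_pos s).ne'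
  · simp [h1]

theorem linIdem_coeff_mem (hM : IsPModular p M) (A : Subgroup G) [Fintype A] (lam : A →* ℂˣ)
    (hA : ¬ p ∣ Nat.card A) (g : G) : MemLocalRing M ((linIdem A lam).coeff g) := by
  have hMp := isPModular_isPrime hM
  rw [coeff_linIdem]
  split_ifs with h
  · apply memLocalRing_mul hMp (memLocalRing_inv_natCast hM hA)
    apply memLocalRing_of_isIntegral hMp.ne_top
    have h1 := isIntegral_lam A lam ⟨g, h⟩
    have h2 : conj ((lam ⟨g, h⟩ : ℂˣ) : ℂ) = (starRingEnd ℂ) ((lam ⟨g, h⟩ : ℂˣ) : ℂ) := rfl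
    rw [h2]
    exact h1.map (Complex.conjAe.toAlgHom.restrictScalars ℤ)
  · exact memLocalRing_zero hMp.ne_top

theorem cj_linIdem (A : Subgroup G) [Fintype A] (lam : A →* ℂˣ) (q : G)
    (hq : ∀ s ∈ A, q * s = s * q) : cj q (linIdem A lam) = linIdem A lam := by
  unfold linIdem
  rw [cj_smul, cj_sum]
  congr 1
  refine Finset.sum_congr rfl fun s _ => ?_
  rw [cj_smul, cj_og, hq s s.2, mul_inv_cancel_right]

theorem ev_mul_linIdem_mul (A : Subgroup G) [Fintype A] (lam : A →* ℂˣ) (θ : G → ℂ) (x y : GA G) :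
    ev θ (x * linIdem A lam * y) =
      (Nat.card A : ℂ)⁻¹ * ∑ s : A, conj ((lam s : ℂˣ) : ℂ) * ev θ (x * og (s : G) * y) := by
  unfold linIdem
  rw [mul_smul_comm, smul_mul_assoc, ev_smul, Finset.mul_sum, Finset.sum_mul, ev_sum]
  congr 1
  refine Finset.sum_congr rfl fun s _ => ?_
  rw [mul_smul_comm, smul_mul_assoc, ev_smul]

end Cfsg.Agent.Lib.Helper8.BPS
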