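import Mathlib
import Cfsg.Agent.Lib.Helper4.Deg11_Defs
import Cfsg.Agent.Lib.Helper4.Deg11_Tables

/-! S0679 swarm, package P5 (helper8): local analysis at the prime 5
(`notes/S0679_PROOF_helper4.md`, step 5). -/

set_option autoImplicit false
set_option linter.unusedVariables false

open Equiv MulAction


namespace Cfsg.Agent.Lib.Helper8.Deg11P5

open Cfsg.Agent.Lib.Deg11

theorem d_pow_five : d11d ^ 5 = 1 := by decide

theorem d_ne_one : d11d ≠ 1 := by decide

theorem orderOf_d : orderOf d11d = 5 := by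
  have : Fact (Nat.Prime 5) := ⟨by norm_num⟩
  exact orderOf_eq_prime d_pow_five d_ne_one

theorem d_pow_mod (k : ℕ) : d11d ^ k = d11d ^ (k % 5) :=
  pow_eq_pow_mod k d_pow_five

theorem fix_dec : ∀ r : Fin 5, r ≠ 0 → ∀ x : Fin 11, (d11d ^ r.val) x = x → x = 0 := by decide

theorem orb_dec : ∀ v : Fin 11, v ≠ 0 →
    (∃ j : Fin 5, (d11d ^ j.val) v = 1) ∨ (∃ j : Fin 5, (d11d ^ j.val) v = 2) := by decide

theorem inj_dec : ∀ i j : Fin 5, (d11d ^ i.val) 1 = (d11d ^ j.val) 1 → i = j := by decide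

set_option maxRecDepth 4000 in
theorem pow4_dec : ∀ y ∈ ([1, d11g26, d11g2a, d11g36, d11g37, d11g48, d11g4a] :
    List (Perm (Fin 11))), y ^ 4 = 1 := by
  intro y hy
  simp only [List.mem_cons, List.not_mem_nil, or_false] at hy
  rcases hy with rfl | rfl | rfl | rfl | rfl | rfl | rfl <;> decide

/-- an element normalizing `⟨d⟩` fixes `0` -/
theorem fix_zero (y : Perm (Fin 11)) (k : ℕ) (hk : y * d11d = d11d ^ k * y) : y 0 = 0 := by
  have hk5 : k % 5 ≠ 0 := by
    intro h0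
    rw [d_pow_mod, h0, pow_zero, one_mul] at hk
    exact d_ne_one (mul_left_cancel (a := y) (by rw [hk, mul_one]))
  have hlt : k % 5 < 5 := Nat.mod_lt _ (by norm_num)
  have h1 := congrArg (fun f : Perm (Fin 11) => f 0) hk
  simp only [Perm.mul_apply] at h1
  have hd0 : d11d 0 = 0 := by decide
  rw [hd0, d_pow_mod] at h1
  exact fix_dec ⟨k % 5, hlt⟩ (fun h => hk5 (congrArg Fin.val h)) (y 0) h1.symm

/-- the dichotomy for the image of `1` -/
theorem orb_dich (y : Perm (Fin 11)) (h0 : y 0 = 0) :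
    (∃ j : Fin 5, (d11d ^ j.val) (y 1) = 1) ∨ (∃ j : Fin 5, (d11d ^ j.val) (y 1) = 2) := by
  apply orb_dec
  intro h
  have : (1 : Fin 11) = 0 := y.injective (by rw [h, h0])
  exact absurd this (by decide)

/-- elements of the normalizer of `⟨d⟩` in `G` satisfy the table relation -/
theorem rel_of_mem_normalizer (G : Subgroup (Perm (Fin 11))) (hd : d11d ∈ G) (y : ↥G)
    (hy : y ∈ Subgroup.normalizer ((Subgroup.zpowers (⟨d11d, hd⟩ : ↥G) : Subgroup ↥G) : Set ↥G)) :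
    ∃ k : ℕ, (y : Perm (Fin 11)) * d11d = d11d ^ k * (y : Perm (Fin 11)) := by
  have h1 := (Subgroup.mem_normalizer_iff.1 hy (⟨d11d, hd⟩ : ↥G)).1
    (Subgroup.mem_zpowers (⟨d11d, hd⟩ : ↥G))
  rw [← mem_powers_iff_mem_zpowers] at h1
  obtain ⟨k, hk⟩ := (Submonoid.mem_powers_iff _ _).1 h1
  refine ⟨k, ?_⟩
  have h2 : (⟨d11d, hd⟩ : ↥G) ^ k * y = y * (⟨d11d, hd⟩ : ↥G) := by
    rw [hk]
    group
  have h3 := congrArg (Subtype.val : ↥G → Perm (Fin 11)) h2
  simp only [Subgroup.coe_mul, Subgroup.coe_pow] at h3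
  exact h3.symm

end Cfsg.Agent.Lib.Helper8.Deg11P5

namespace Cfsg.Agent.Lib.Helper8.Deg11P5

open Cfsg.Agent.Lib.Deg11

theorem inv_inj_dec : ∀ i j : Fin 5, (d11d ^ i.val)⁻¹ 1 = (d11d ^ j.val)⁻¹ 1 → i = j := by decide

theorem z_comm_d : d11z * d11d = d11d * d11z := by decide

theorem g36_mul_g2a : d11g36 * d11g2a = 1 := by decide

theorem g37_mul_g26 : d11g37 * d11g26 = 1 := by decide

theorem z_one : d11z 1 = 2 := by decide

end Cfsg.Agent.Lib.Helper8.Deg11P5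

namespace Cfsg.Agent.Lib.Deg11

open Cfsg.Agent.Lib.Helper8.Deg11P5

/-- P5 LOCAL ANALYSIS AT 5. -/
theorem d11_local5 (G : Subgroup (Perm (Fin 11))) (hc : d11c ∈ G) (hd : d11d ∈ G)
    (hJ : NoSmallCycle G) (h25 : ¬ 5 ^ 2 ∣ Nat.card G)
    (hB : ∀ Q : Sylow 5 G, ¬ (Subgroup.normalizer ((Q : Subgroup G) : Set G) ≤
        Subgroup.centralizer ((Q : Subgroup G) : Set G))) :
    d11z ∉ G ∧ ∃ n5 s : ℕ, n5 * (5 * s) = Nat.card G ∧ n5 % 5 = 1 ∧ 2 ≤ s ∧ s ≤ 7 ∧ s ≠ 3 ∧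
      (4 ≤ s → d11g26 ∈ G ∨ d11g2a ∈ G) := by
  classical
  have hp5 : Nat.Prime 5 := by norm_num
  have : Fact (Nat.Prime 5) := ⟨hp5⟩
  have : Fact (Nat.Prime 3) := ⟨by norm_num⟩
  set dG : ↥G := ⟨d11d, hd⟩ with hdG
  set Q0 : Subgroup ↥G := Subgroup.zpowers dG with hQ0
  set N : Subgroup ↥G := Subgroup.normalizer (Q0 : Set ↥G) with hN
  have hdGo : orderOf dG = 5 := by
    rw [← orderOf_d]
    exact Subgroup.orderOf_mk d11d hd
  have hQ0card : Nat.card Q0 = 5 := by rw [hQ0, Nat.card_zpowers, hdGo]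
  have h5dvd : 5 ∣ Nat.card G := hdGo ▸ orderOf_dvd_natCard dG
  have hG0 : Nat.card G ≠ 0 := Nat.card_pos.ne'
  have hfact : (Nat.card G).factorization 5 = 1 := by
    have h1 : 1 ≤ (Nat.card G).factorization 5 :=
      (hp5.pow_dvd_iff_le_factorization hG0).1 (by rw [pow_one]; exact h5dvd)
    have h2 : ¬ 2 ≤ (Nat.card G).factorization 5 := fun h =>
      h25 ((hp5.pow_dvd_iff_le_factorization hG0).2 h)
    omega
  let Q : Sylow 5 ↥G := Sylow.ofCard Q0 (by rw [hQ0card, hfact, pow_one])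
  have hQ : (Q : Subgroup ↥G) = Q0 := Sylow.coe_ofCard _ _
  have hdN : dG ∈ N := Subgroup.le_normalizer (Subgroup.mem_zpowers dG)
  have hrel : ∀ y ∈ N, ∃ k : ℕ, (y : Perm (Fin 11)) * d11d = d11d ^ k * (y : Perm (Fin 11)) :=
    fun y hy => rel_of_mem_normalizer G hd y hy
  have hpowN : ∀ (j : ℕ) (y : ↥G), y ∈ N → dG ^ j * y ∈ N :=
    fun j y hy => N.mul_mem (N.pow_mem hdN j) hy
  have hval : ∀ (j : ℕ) (y : ↥G) (x : Fin 11),
      ((dG ^ j * y : ↥G) : Perm (Fin 11)) x = (d11d ^ j) ((y : Perm (Fin 11)) x) := by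
    intro j y x
    rw [Subgroup.coe_mul, Subgroup.coe_pow, Perm.mul_apply]
  have hcent : ∀ y : ↥G, Commute y dG → y ∈ Subgroup.centralizer (Q0 : Set ↥G) := by
    intro y hy
    rw [Subgroup.mem_centralizer_iff]
    intro h hh
    obtain ⟨m, rfl⟩ := Subgroup.mem_zpowers_iff.1 hh
    exact ((hy.zpow_right m).eq).symm
  -- reduction of commutation to a translate
  have hcomm : ∀ (j : ℕ) (w : ↥G), Commute (dG ^ j * w) dG → Commute w dG := by
    intro j w h
    have h1 : w = (dG ^ j)⁻¹ * (dG ^ j * w) := by group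
    rw [h1]
    exact (((Commute.refl dG).pow_left j).inv_left).mul_left h
  -- no element of `N` maps `1` into the orbit of `2`
  have hNZ : ∀ y ∈ N, ∀ j : Fin 5, (d11d ^ j.val) ((y : Perm (Fin 11)) 1) ≠ 2 := by
    intro y hy j hj
    have hy'N : dG ^ j.val * y ∈ N := hpowN _ _ hy
    obtain ⟨k, hk⟩ := hrel _ hy'N
    have hy'1 : ((dG ^ j.val * y : ↥G) : Perm (Fin 11)) 1 = 2 := by rw [hval]; exact hj
    have hy'z : ((dG ^ j.val * y : ↥G) : Perm (Fin 11)) = d11z :=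
      d11_table_Z G hc hd hJ _ (dG ^ j.val * y).2 k hk hy'1
    have hzG : d11z ∈ G := hy'z ▸ (dG ^ j.val * y).2
    have hzeq : dG ^ j.val * y = (⟨d11z, hzG⟩ : ↥G) := Subtype.ext hy'z
    have hzN : (⟨d11z, hzG⟩ : ↥G) ∈ N := hzeq ▸ hy'N
    have hzd : Commute (⟨d11z, hzG⟩ : ↥G) dG := Subtype.ext z_comm_d
    apply hB Q
    rw [hQ]
    intro w hw
    apply hcent
    obtain ⟨kw, hkw⟩ := hrel w hw
    have hw0 := fix_zero _ kw hkw
    rcases orb_dich _ hw0 with ⟨i, hi⟩ | ⟨i, hi⟩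
    · have hw'N : dG ^ i.val * w ∈ N := hpowN _ _ hw
      have hzw : (⟨d11z, hzG⟩ : ↥G) * (dG ^ i.val * w) ∈ N := N.mul_mem hzN hw'N
      obtain ⟨k2, hk2⟩ := hrel _ hzw
      have h1 : (((⟨d11z, hzG⟩ : ↥G) * (dG ^ i.val * w) : ↥G) : Perm (Fin 11)) 1 = 2 := by
        rw [Subgroup.coe_mul, Perm.mul_apply, hval, hi]
        exact z_one
      have h2 := d11_table_Z G hc hd hJ _ ((⟨d11z, hzG⟩ : ↥G) * (dG ^ i.val * w)).2 k2 hk2 h1
      have h3 : (⟨d11z, hzG⟩ : ↥G) * (dG ^ i.val * w) = (⟨d11z, hzG⟩ : ↥G) := Subtype.ext h2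
      have hw'1 : dG ^ i.val * w = 1 := by
        apply mul_left_cancel (a := (⟨d11z, hzG⟩ : ↥G))
        rw [h3, mul_one]
      apply hcomm i.val w
      rw [hw'1]
      exact Commute.one_left dG
    · have hw'N : dG ^ i.val * w ∈ N := hpowN _ _ hw
      obtain ⟨k2, hk2⟩ := hrel _ hw'N
      have h1 : ((dG ^ i.val * w : ↥G) : Perm (Fin 11)) 1 = 2 := by rw [hval]; exact hi
      have h2 := d11_table_Z G hc hd hJ _ (dG ^ i.val * w).2 k2 hk2 h1
      have h3 : dG ^ i.val * w = (⟨d11z, hzG⟩ : ↥G) := Subtype.ext h2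
      apply hcomm i.val w
      rw [h3]
      exact hzd
  -- `z ∉ G`
  have hz : d11z ∉ G := by
    intro hzG
    have hzd : Commute (⟨d11z, hzG⟩ : ↥G) dG := Subtype.ext z_comm_d
    have hzN : (⟨d11z, hzG⟩ : ↥G) ∈ N :=
      Subgroup.centralizer_le_normalizer _ (hcent _ hzd)
    refine hNZ _ hzN 0 ?_
    show (d11d ^ 0) (d11z 1) = 2
    rw [pow_zero]
    exact z_one
  have hA1 : ∀ y ∈ N, ∃ j : Fin 5, (d11d ^ j.val) ((y : Perm (Fin 11)) 1) = 1 := by
    intro y hy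
    obtain ⟨k, hk⟩ := hrel y hy
    rcases orb_dich _ (fix_zero _ k hk) with h | ⟨j, hj⟩
    · exact h
    · exact absurd hj (hNZ y hy j)
  -- the stabilizer of `1` in `N`
  set S1 : Subgroup ↥G := N ⊓ MulAction.stabilizer ↥G (1 : Fin 11) with hS1
  have hS1mem : ∀ y : ↥G, y ∈ S1 ↔ y ∈ N ∧ (y : Perm (Fin 11)) 1 = 1 := by
    intro y
    rw [hS1, Subgroup.mem_inf, MulAction.mem_stabilizer_iff]
    rfl
  have hcardN : Nat.card N = 5 * Nat.card S1 := by
    let f : Fin 5 × ↥S1 → ↥N := fun a =>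
      ⟨(dG ^ a.1.val)⁻¹ * (a.2 : ↥G),
        N.mul_mem (N.inv_mem (N.pow_mem hdN _)) ((hS1mem _).1 a.2.2).1⟩
    have hf : Function.Bijective f := by
      constructor
      · rintro ⟨i, u⟩ ⟨j, v⟩ h
        have h1 : (dG ^ i.val)⁻¹ * (u : ↥G) = (dG ^ j.val)⁻¹ * (v : ↥G) := congrArg Subtype.val h
        have h2 := congrArg (fun w : ↥G => (w : Perm (Fin 11)) 1) h1
        simp only [Subgroup.coe_mul, Subgroup.coe_inv, Subgroup.coe_pow, Perm.mul_apply] at h2
        rw [((hS1mem _).1 u.2).2, ((hS1mem _).1 v.2).2] at h2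
        have hij := inv_inj_dec i j h2
        subst hij
        have h3 : (u : ↥G) = v := mul_left_cancel h1
        exact Prod.ext rfl (Subtype.ext h3)
      · rintro ⟨y, hy⟩
        obtain ⟨j, hj⟩ := hA1 y hy
        have hu : dG ^ j.val * y ∈ S1 := by
          rw [hS1mem]
          exact ⟨hpowN _ _ hy, by rw [hval]; exact hj⟩
        refine ⟨(j, ⟨dG ^ j.val * y, hu⟩), ?_⟩
        apply Subtype.ext
        show (dG ^ j.val)⁻¹ * (dG ^ j.val * y) = y
        group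
    have h1 := Nat.card_congr (Equiv.ofBijective f hf)
    rw [Nat.card_prod, Nat.card_fin] at h1
    exact h1.symm
  -- the list of table S
  have hS1L : ∀ u ∈ S1, (u : Perm (Fin 11)) ∈
      ([1, d11g26, d11g2a, d11g36, d11g37, d11g48, d11g4a] : List (Perm (Fin 11))) := by
    intro u hu
    obtain ⟨huN, hu1⟩ := (hS1mem u).1 hu
    obtain ⟨k, hk⟩ := hrel u huN
    have h := d11_table_S G hc hd hJ _ u.2 k hk hu1
    simp only [List.mem_cons, List.not_mem_nil, or_false]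
    exact h
  have hcardle : ∀ L : List (Perm (Fin 11)), (∀ u ∈ S1, (u : Perm (Fin 11)) ∈ L) →
      Nat.card S1 ≤ L.length := by
    intro L hL
    let φ : ↥S1 → {x // x ∈ L.toFinset} := fun u =>
      ⟨((u : ↥G) : Perm (Fin 11)), List.mem_toFinset.2 (hL _ u.2)⟩
    have hφ : Function.Injective φ := by
      intro u v h
      have h1 : ((u : ↥G) : Perm (Fin 11)) = ((v : ↥G) : Perm (Fin 11)) :=
        congrArg (fun a : {x // x ∈ L.toFinset} => (a : Perm (Fin 11))) h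
      exact Subtype.ext (Subtype.ext h1)
    calc Nat.card S1 ≤ Nat.card {x // x ∈ L.toFinset} := Nat.card_le_card_of_injective φ hφ
      _ = L.toFinset.card := by rw [Nat.card_eq_fintype_card, Fintype.card_coe]
      _ ≤ L.length := List.toFinset_card_le L
  have hle7 : Nat.card S1 ≤ 7 := hcardle _ hS1L
  have hge2 : 2 ≤ Nat.card S1 := by
    by_contra hlt
    have hle1 : Nat.card S1 ≤ 1 := by omega
    have hbot : S1 = ⊥ := (Subgroup.card_le_one_iff_eq_bot S1).1 hle1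
    apply hB Q
    rw [hQ]
    intro w hw
    apply hcent
    obtain ⟨j, hj⟩ := hA1 w hw
    have hu : dG ^ j.val * w ∈ S1 := by
      rw [hS1mem]
      exact ⟨hpowN _ _ hw, by rw [hval]; exact hj⟩
    rw [hbot, Subgroup.mem_bot] at hu
    apply hcomm j.val w
    rw [hu]
    exact Commute.one_left dG
  have hne3 : Nat.card S1 ≠ 3 := by
    intro h3
    obtain ⟨x, hx⟩ := exists_prime_orderOf_dvd_card' (G := ↥S1) 3 (by rw [h3])
    have h4 : ((x : ↥G) : Perm (Fin 11)) ^ 4 = 1 := pow4_dec _ (hS1L _ x.2)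
    have h5 : x ^ 4 = 1 := by
      apply Subtype.ext
      apply Subtype.ext
      simpa using h4
    have h6 := orderOf_dvd_of_pow_eq_one h5
    rw [hx] at h6
    omega
  have h4 : 4 ≤ Nat.card S1 → d11g26 ∈ G ∨ d11g2a ∈ G := by
    intro hs4
    by_contra hcon
    push Not at hcon
    obtain ⟨h26, h2a⟩ := hcon
    have h36 : d11g36 ∉ G := by
      intro h
      apply h2a
      have h1 : d11g36⁻¹ = d11g2a := inv_eq_of_mul_eq_one_right g36_mul_g2a
      rw [← h1]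
      exact G.inv_mem h
    have h37 : d11g37 ∉ G := by
      intro h
      apply h26
      have h1 : d11g37⁻¹ = d11g26 := inv_eq_of_mul_eq_one_right g37_mul_g26
      rw [← h1]
      exact G.inv_mem h
    have hL3 : ∀ u ∈ S1, (u : Perm (Fin 11)) ∈ ([1, d11g48, d11g4a] : List (Perm (Fin 11))) := by
      intro u hu
      have h := hS1L u hu
      simp only [List.mem_cons, List.not_mem_nil, or_false] at h ⊢
      rcases h with h | h | h | h | h | h | h
      · exact Or.inl h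
      · exact absurd (h ▸ u.2) h26
      · exact absurd (h ▸ u.2) h2a
      · exact absurd (h ▸ u.2) h36
      · exact absurd (h ▸ u.2) h37
      · exact Or.inr (Or.inl h)
      · exact Or.inr (Or.inr h)
    have := hcardle _ hL3
    simp only [List.length_cons, List.length_nil] at this
    omega
  refine ⟨hz, Nat.card (Sylow 5 ↥G), Nat.card S1, ?_, ?_, hge2, hle7, hne3, h4⟩
  · have h1 := Sylow.card_eq_index_normalizer Q
    have hQs : ((Q : Sylow 5 ↥G) : Set ↥G) = (Q0 : Set ↥G) := by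
      rw [← hQ]
      rfl
    rw [hQs] at h1
    rw [h1, ← hcardN]
    exact Subgroup.index_mul_card N
  · have h1 := card_sylow_modEq_one 5 ↥G
    exact h1

end Cfsg.Agent.Lib.Deg11
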