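import Mathlib

/-!
# Weighted orbit counting for `p`-groups
-/

set_option autoImplicit false

namespace Cfsg.Agent.Lib.Helper8

open MulAction

/-- A `p`-group acting on a finite set: the sum of an invariant integer function is congruent
mod `p` to its sum over the fixed points. -/
theorem sum_modEq_sum_fixedPoints {P : Type*} [Group P] {p : ℕ} [Fact p.Prime]
    (hP : IsPGroup p P) {α : Type*} [Fintype α] [MulAction P α] (Fix : α → Prop)
    [DecidablePred Fix] (hFix : ∀ a, Fix a ↔ ∀ x : P, x • a = a)
    (F : α → ℤ) (hF : ∀ (x : P) (a : α), F (x • a) = F a) :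
    ∑ a, F a ≡ ∑ a ∈ Finset.univ.filter Fix, F a [ZMOD p] := by
  classical
  let π : α → Quotient (orbitRel P α) := Quotient.mk''
  rw [← Finset.sum_fiberwise Finset.univ π F, ← Finset.sum_fiberwise (Finset.univ.filter Fix) π F]
  rw [Int.modEq_iff_dvd, ← Finset.sum_sub_distrib]
  apply Finset.dvd_sum
  intro ω _
  induction ω using Quotient.inductionOn' with
  | h b =>
  have hmem : ∀ a : α, π a = Quotient.mk'' b ↔ a ∈ orbit P b := by
    intro a
    exact Quotient.eq''
  have hconst : ∀ a : α, π a = Quotient.mk'' b → F a = F b := by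
    intro a ha
    obtain ⟨x, hx⟩ := (hmem a).1 ha
    rw [← hx]
    exact hF x b
  by_cases hb : Fix b
  · have hall : ∀ a : α, π a = Quotient.mk'' b → a = b := by
      intro a ha
      obtain ⟨x, hx⟩ := (hmem a).1 ha
      rw [← hx]
      exact (hFix b).1 hb x
    have e1 : (Finset.univ.filter (fun a => π a = Quotient.mk'' b)) = {b} := by
      ext a
      simp only [Finset.mem_filter, Finset.mem_univ, true_and, Finset.mem_singleton]
      exact ⟨hall a, fun h => by rw [h]⟩
    have e2 : ((Finset.univ.filter Fix).filter (fun a => π a = Quotient.mk'' b)) = {b} := by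
      ext a
      simp only [Finset.mem_filter, Finset.mem_univ, true_and, Finset.mem_singleton]
      exact ⟨fun h => hall a h.2, fun h => by rw [h]; exact ⟨hb, rfl⟩⟩
    rw [e1, e2, sub_self]
    exact dvd_zero _
  · have e2 : ((Finset.univ.filter Fix).filter (fun a => π a = Quotient.mk'' b)) = ∅ := by
      ext a
      simp only [Finset.mem_filter, Finset.mem_univ, true_and, Finset.notMem_empty, iff_false]
      rintro ⟨ha, hab⟩
      apply hb
      obtain ⟨x, hx⟩ := (hmem a).1 hab
      have : a = b := by
        have h1 : x⁻¹ • a = b := by rw [← hx, inv_smul_smul]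
        rw [← h1]
        exact ((hFix a).1 ha x⁻¹).symm
      rw [← this]
      exact ha
    rw [e2, Finset.sum_empty, zero_sub, dvd_neg]
    have e1 : ∑ a ∈ Finset.univ.filter (fun a => π a = Quotient.mk'' b), F a =
        ((Finset.univ.filter (fun a => π a = Quotient.mk'' b)).card : ℤ) * F b := by
      rw [Finset.sum_congr rfl (fun a ha => hconst a (Finset.mem_filter.1 ha).2),
        Finset.sum_const, nsmul_eq_mul]
    rw [e1]
    apply Dvd.dvd.mul_right
    have hcard : (Finset.univ.filter (fun a => π a = Quotient.mk'' b)).card =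
        Nat.card (orbit P b) := by
      rw [Nat.card_eq_fintype_card, ← Set.toFinset_card]
      congr 1
      ext a
      simp only [Finset.mem_filter, Finset.mem_univ, true_and, Set.mem_toFinset]
      exact hmem a
    obtain ⟨k, hk⟩ := hP.card_orbit b
    rw [hcard, hk]
    have hk0 : k ≠ 0 := by
      intro h0
      rw [h0, pow_zero] at hk
      apply hb
      rw [hFix]
      intro x
      have hsub : Subsingleton (orbit P b) := (Nat.card_eq_one_iff_unique.1 hk).1
      have := Subsingleton.elim (⟨x • b, mem_orbit b x⟩ : orbit P b) ⟨b, mem_orbit_self b⟩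
      exact congrArg Subtype.val this
    obtain ⟨j, rfl⟩ := Nat.exists_eq_succ_of_ne_zero hk0
    rw [pow_succ]
    push_cast
    exact Dvd.intro_left _ rfl

end Cfsg.Agent.Lib.Helper8
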