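import Mathlib
import Cfsg.Agent.Lib.Helper4.LWB_Defs

set_option autoImplicit false

namespace Cfsg.Agent.Lib.Helper4.LWB

open MulAction

variable {α : Type*} [Fintype α] [DecidableEq α]

theorem lwbC_mem_fx (G : Subgroup (Equiv.Perm α)) (S : Finset α) (g : G) :
    g ∈ fx G S ↔ ∀ z ∈ S, (g : Equiv.Perm α) z = z := by
  unfold fx
  rw [mem_fixingSubgroup_iff]
  constructor
  · intro h z hz
    exact h z (by exact_mod_cast hz)
  · intro h z hz
    exact h z (by exact_mod_cast hz)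

theorem lwbC_map_stab (G : Subgroup (Equiv.Perm α)) (S : Finset α) (a : α) :
    (stabilizer ↥(fx G S) a).map (fx G S).subtype = fx G (insert a S) := by
  ext g
  rw [lwbC_mem_fx]
  constructor
  · rintro ⟨h, hh, rfl⟩
    intro z hz
    rcases Finset.mem_insert.1 hz with rfl | hz
    · exact (mem_stabilizer_iff.1 hh)
    · exact (lwbC_mem_fx G S h.1).1 h.2 z hz
  · intro hg
    have hgS : g ∈ fx G S := (lwbC_mem_fx G S g).2 (fun z hz => hg z (Finset.mem_insert_of_mem hz))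
    refine ⟨⟨g, hgS⟩, ?_, rfl⟩
    rw [SetLike.mem_coe, mem_stabilizer_iff]
    exact hg a (Finset.mem_insert_self a S)

theorem lwbC_map_stab2 (G : Subgroup (Equiv.Perm α)) (S : Finset α) (a b : α) :
    (stabilizer ↥(fx G S) a ⊓ stabilizer ↥(fx G S) b).map (fx G S).subtype =
      fx G (insert a (insert b S)) := by
  ext g
  rw [lwbC_mem_fx]
  constructor
  · rintro ⟨h, hh, rfl⟩
    have hh' : h ∈ stabilizer ↥(fx G S) a ∧ h ∈ stabilizer ↥(fx G S) b := hh
    intro z hz
    rcases Finset.mem_insert.1 hz with rfl | hz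
    · exact (mem_stabilizer_iff.1 hh'.1)
    · rcases Finset.mem_insert.1 hz with rfl | hz
      · exact (mem_stabilizer_iff.1 hh'.2)
      · exact (lwbC_mem_fx G S h.1).1 h.2 z hz
  · intro hg
    have hgS : g ∈ fx G S := (lwbC_mem_fx G S g).2
      (fun z hz => hg z (Finset.mem_insert_of_mem (Finset.mem_insert_of_mem hz)))
    refine ⟨⟨g, hgS⟩, ?_, rfl⟩
    have h1 : (⟨g, hgS⟩ : ↥(fx G S)) ∈ stabilizer ↥(fx G S) a := by
      rw [mem_stabilizer_iff]
      exact hg a (Finset.mem_insert_self a _)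
    have h2 : (⟨g, hgS⟩ : ↥(fx G S)) ∈ stabilizer ↥(fx G S) b := by
      rw [mem_stabilizer_iff]
      exact hg b (Finset.mem_insert_of_mem (Finset.mem_insert_self b _))
    exact ⟨h1, h2⟩

theorem lwbC_card_stab (G : Subgroup (Equiv.Perm α)) (S : Finset α) (a : α) :
    Nat.card ↥(stabilizer ↥(fx G S) a) = Nat.card ↥(fx G (insert a S)) := by
  rw [← lwbC_map_stab]
  exact (Subgroup.card_map_of_injective (Subgroup.subtype_injective _)).symm

theorem lwbC_card_stab2 (G : Subgroup (Equiv.Perm α)) (S : Finset α) (a b : α) :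
    Nat.card ↥(stabilizer ↥(fx G S) a ⊓ stabilizer ↥(fx G S) b) =
      Nat.card ↥(fx G (insert a (insert b S))) := by
  rw [← lwbC_map_stab2]
  exact (Subgroup.card_map_of_injective (Subgroup.subtype_injective _)).symm

/-! ## Package C : swap lemma applied to pointwise stabilisers (core, with the swap lemma as a hypothesis) -/

theorem swappable_of_v2_aux (G : Subgroup (Equiv.Perm α)) (Θ : Finset α)
    (hA : ∀ (S : Finset α) (T : Set α), (∀ (h : ↥(fx G S)) (z : α), z ∈ T → h • z ∈ T) →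
      ∀ (x y : α), x ∈ T → y ∈ T → x ≠ y →
      v2 (Nat.card ↥(stabilizer ↥(fx G S) x ⊓ stabilizer ↥(fx G S) y)) <
        v2 (Nat.card ↥(stabilizer ↥(fx G S) x)) →
      v2 (Nat.card ↥(stabilizer ↥(fx G S) x ⊓ stabilizer ↥(fx G S) y)) <
        v2 (Nat.card ↥(stabilizer ↥(fx G S) y)) →
      (∀ z ∈ T, z ≠ x → v2 (Nat.card ↥(stabilizer ↥(fx G S) x ⊓ stabilizer ↥(fx G S) z)) ≤
        v2 (Nat.card ↥(stabilizer ↥(fx G S) x ⊓ stabilizer ↥(fx G S) y))) →
      (∀ z ∈ T, z ≠ y → v2 (Nat.card ↥(stabilizer ↥(fx G S) y ⊓ stabilizer ↥(fx G S) z)) ≤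
        v2 (Nat.card ↥(stabilizer ↥(fx G S) x ⊓ stabilizer ↥(fx G S) y))) →
      ∃ h : ↥(fx G S), h • x = y ∧ h • y = x)
    (hlt : ∀ x ∈ Θ, v2 (Nat.card (fx G Θ)) < v2 (Nat.card (fx G (Θ.erase x))))
    (hmax : ∀ Θ' : Finset α, Θ'.card = Θ.card →
      v2 (Nat.card (fx G Θ')) ≤ v2 (Nat.card (fx G Θ))) :
    Swappable G Θ := by
  intro x hx y hy hxy
  set S : Finset α := (Θ.erase x).erase y with hS
  have hxS : x ∉ S := by
    rw [hS]; intro h
    exact (Finset.mem_erase.1 (Finset.mem_erase.1 h).2).1 rfl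
  have hyS : y ∉ S := by
    rw [hS]; intro h
    exact (Finset.mem_erase.1 h).1 rfl
  have eΘ : insert x (insert y S) = Θ := by
    rw [hS, Finset.insert_erase (Finset.mem_erase.2 ⟨fun h => hxy h.symm, hy⟩), Finset.insert_erase hx]
  have eΘx : insert y S = Θ.erase x := by
    rw [hS, Finset.insert_erase (Finset.mem_erase.2 ⟨fun h => hxy h.symm, hy⟩)]
  have eΘy : insert x S = Θ.erase y := by
    rw [hS, Finset.erase_right_comm, Finset.insert_erase (Finset.mem_erase.2 ⟨hxy, hx⟩)]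
  have hcardS : S.card + 2 = Θ.card := by
    rw [← eΘ, Finset.card_insert_of_notMem, Finset.card_insert_of_notMem hyS]
    rw [Finset.mem_insert]; push Not; exact ⟨hxy, hxS⟩
  set T : Set α := {z | z ∉ S} with hTdef
  have hT : ∀ (h : ↥(fx G S)) (z : α), z ∈ T → h • z ∈ T := by
    intro h z hz hmem
    apply hz
    have h1 := (lwbC_mem_fx G S h.1).1 h.2 _ hmem
    have h2 : ((h.1 : G) : Equiv.Perm α) z = ((h.1 : G) : Equiv.Perm α) (h • z) := by
      rw [h1]; rfl
    have h3 := (Equiv.injective _) h2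
    rw [h3]; exact hmem
  have key := hA S T hT x y hxS hyS hxy
    (by rw [lwbC_card_stab2, lwbC_card_stab, eΘ, eΘy]; exact hlt y hy)
    (by rw [lwbC_card_stab2, lwbC_card_stab, eΘ, eΘx]; exact hlt x hx)
    (by
      intro z hz hzx
      rw [lwbC_card_stab2, lwbC_card_stab2, eΘ]
      apply hmax
      rw [← hcardS, Finset.card_insert_of_notMem, Finset.card_insert_of_notMem hz]
      rw [Finset.mem_insert]; push Not; exact ⟨fun h => hzx h.symm, hxS⟩)
    (by
      intro z hz hzy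
      rw [lwbC_card_stab2, lwbC_card_stab2, eΘ]
      apply hmax
      rw [← hcardS, Finset.card_insert_of_notMem, Finset.card_insert_of_notMem hz]
      rw [Finset.mem_insert]; push Not; exact ⟨fun h => hzy h.symm, hyS⟩)
  obtain ⟨h, h1, h2⟩ := key
  refine ⟨((h.1 : G) : Equiv.Perm α), (h.1 : G).2, h1, h2, ?_⟩
  intro z hz hzx hzy
  have hzS : z ∈ S := by
    rw [hS]
    exact Finset.mem_erase.2 ⟨hzy, Finset.mem_erase.2 ⟨hzx, hz⟩⟩
  exact (lwbC_mem_fx G S h.1).1 h.2 z hzS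

end Cfsg.Agent.Lib.Helper4.LWB
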