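import Mathlib
import Cfsg.Agent.Lib.Helper4.LWB_Defs
import Cfsg.Agent.Lib.Helper4.LWB_A
import Cfsg.Agent.Lib.Helper8.LWB_C0

set_option autoImplicit false

namespace Cfsg.Agent.Lib.Helper4.LWB

open MulAction

variable {α : Type*} [Fintype α] [DecidableEq α]

/-! ## Package C : swap lemma applied to pointwise stabilisers -/

theorem swappable_of_v2 (G : Subgroup (Equiv.Perm α)) (Θ : Finset α)
    (hlt : ∀ x ∈ Θ, v2 (Nat.card (fx G Θ)) < v2 (Nat.card (fx G (Θ.erase x))))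
    (hmax : ∀ Θ' : Finset α, Θ'.card = Θ.card →
      v2 (Nat.card (fx G Θ')) ≤ v2 (Nat.card (fx G Θ))) :
    Swappable G Θ :=
  swappable_of_v2_aux G Θ
    (fun _S T hT _x _y hx hy hxy h1 h2 h3 h4 => swap_lemma T hT hx hy hxy h1 h2 h3 h4) hlt hmax

end Cfsg.Agent.Lib.Helper4.LWB
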