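import Mathlib
import Cfsg.Prelude.Def_Blocks
import Cfsg.Prelude.Def_Solvable
import Cfsg.Agent.Lib.Helper8.BlockNormalP2
import Cfsg.Agent.Lib.Lead.Core

set_option autoImplicit false

namespace Cfsg.Agent.Lib.Helper8

open Cfsg
open scoped ComplexConjugate
open Cfsg.Agent.Lib.Helper1 Cfsg.Agent.Lib.Helper4

universe u

section

variable {G : Type u} [Group G] [Fintype G] {M : Ideal AlgInt} {p : ℕ}

/-- If `C_G(O_p(G)) ≤ O_p(G)` then `G` has a single `p`-block. -/
theorem sameBlock_of_centralizer_pCore_le (hM : IsPModular p M)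
    (hconstr : Subgroup.centralizer ((pCore p G) : Set G) ≤ pCore p G) (χ ψ : IrrCharacter G) :
    SameBlock M (χ : G → ℂ) (ψ : G → ℂ) := by
  classical
  have : Fintype (IrrCharacter G) := Fintype.ofFinite _
  have hMp := isPModular_isPrime hM
  have : Fact p.Prime := ⟨hM.1⟩
  have hPn : (pCore p G).Normal := Cfsg.Agent.Lib.Lead.pCore_normal p
  have hPp : IsPGroup p (pCore p G) := Cfsg.Agent.Lib.Lead.pCore_isPGroup p
  set B := blockOf M (χ : G → ℂ) with hBdef
  have hB : IsPBlock M B := ⟨χ, rfl⟩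
  have hχB : χ ∈ B := sameBlock_refl hMp.ne_top _
  obtain ⟨hcf, hS, hω⟩ := blockCoeff_spec hMp hB
  have hsupp : ∀ g : G, g ≠ 1 → blockCoeff B g = 0 := by
    intro g hg1
    by_cases hgC : g ∈ Subgroup.centralizer ((pCore p G) : Set G)
    · have hgP : g ∈ pCore p G := hconstr hgC
      apply blockCoeff_eq_zero_of_dvd_orderOf hM hB
      have h1 : (⟨g, hgP⟩ : pCore p G) ≠ 1 := fun h => hg1 (congrArg Subtype.val h)
      have := hPp.dvd_orderOf h1
      rwa [← Subgroup.orderOf_coe] at this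
    · exact blockCoeff_eq_zero_of_not_mem_centralizer hM (pCore p G) hPp hB hgC
  have hom : ∀ φ : IrrCharacter G, omega (φ : G → ℂ) (blockCoeff B) = blockCoeff B 1 := by
    intro φ
    unfold omega
    rw [← Finset.add_sum_erase _ _ (Finset.mem_univ (1 : G)), Finset.sum_eq_zero, add_zero]
    · rw [mul_div_assoc, div_self (irr_apply_one_ne_zero φ.2), mul_one]
    · intro g hg
      rw [hsupp g (Finset.mem_erase.1 hg).1, zero_mul]
  have h1 : blockCoeff B 1 = 1 := by
    rw [← hom χ, hω χ, if_pos hχB]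
  have h2 := hω ψ
  rw [hom ψ, h1] at h2
  by_contra hcon
  have : ψ ∉ B := hcon
  rw [if_neg this] at h2
  exact one_ne_zero h2

end

end Cfsg.Agent.Lib.Helper8
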