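import Mathlib
import Cfsg.Prelude.Def_Blocks
import Cfsg.Agent.Lib.Helper8.BlockFirstMain4
import Cfsg.Agent.Lib.Helper8.PairFull
import Cfsg.Agent.Lib.Helper8.BlockPairMax
import Cfsg.Agent.Lib.Helper8.BlockOne

/-!
# A local criterion for a finite group to have a single `p`-block
-/

set_option autoImplicit false
set_option linter.unusedSectionVars false

namespace Cfsg.Agent.Lib.Helper8.OB

open Cfsg Cfsg.Agent.Lib.Helper8 Cfsg.Agent.Lib.Helper1 Cfsg.Agent.Lib.Helper4
open scoped ComplexConjugate Pointwise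

universe u

variable {G : Type u} [Group G] [Finite G] {M : Ideal AlgInt} {p : ℕ} [hp : Fact p.Prime]

/-- Defect classes consist of `p`-regular elements. -/
theorem not_dvd_orderOf_of_isDefectClass (hM : IsPModular p M) {B : Set (IrrCharacter G)}
    (hB : IsPBlock M B) {g : G} (hg : IsDefectClass M B g) : ¬ p ∣ orderOf g := by
  classical
  have : Fintype G := Fintype.ofFinite G
  intro hd
  apply hg.2.1
  rw [blockCoeff_eq_zero_of_dvd_orderOf hM hB hd]
  exact memLocalIdeal_zero (isPModular_ne_top hM)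

/-- Two blocks are equal as soon as all irreducible characters lie in one block. -/
theorem isPBlock_unique_of_sameBlock (hM : IsPModular p M)
    (h : ∀ χ ψ : IrrCharacter G, SameBlock M (χ : G → ℂ) (ψ : G → ℂ))
    {b₁ b₂ : Set (IrrCharacter G)} (hb₁ : IsPBlock M b₁) (hb₂ : IsPBlock M b₂) : b₁ = b₂ := by
  obtain ⟨χ₁, rfl⟩ := hb₁
  obtain ⟨χ₂, rfl⟩ := hb₂
  have hMp := isPModular_isPrime hM
  ext ψ
  constructor
  · intro _
    exact h χ₂ ψ
  · intro _
    exact h χ₁ ψ

/-- A `p`-group has a single `p`-block. -/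
theorem sameBlock_of_isPGroup (hM : IsPModular p M) (hG : IsPGroup p G) (χ ψ : IrrCharacter G) :
    SameBlock M (χ : G → ℂ) (ψ : G → ℂ) := by
  classical
  have : Fintype G := Fintype.ofFinite G
  apply sameBlock_of_centralizer_pCore_le hM
  have htop : pCore p G = ⊤ := by
    rw [eq_top_iff]
    exact Cfsg.Agent.Lib.Lead.le_pCore (inferInstance : (⊤ : Subgroup G).Normal)
      (hG.to_subgroup ⊤)
  rw [htop]
  exact le_top

/-- No block of defect zero, from the degrees. -/
theorem ne_bot_of_degrees (hM : IsPModular p M)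
    (hdeg : ∀ χ : IrrCharacter G,
      ¬ p ^ (Nat.card G).factorization p ∣ charDegree (χ : G → ℂ))
    {B : Set (IrrCharacter G)} (hB : IsPBlock M B) {D : Subgroup G}
    (hD : IsDefectGroup p M B D) : D ≠ ⊥ := by
  intro hbot
  have hcard := card_of_isDefectGroup hM hB hD
  rw [hbot, Subgroup.card_bot] at hcard
  have hd0 : blockDefect p B = 0 := by
    rcases Nat.eq_zero_or_pos (blockDefect p B) with h | h
    · exact h
    · exfalso
      have := Nat.one_lt_pow h.ne' hp.out.one_lt
      omega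
  obtain ⟨χ₀, hχ₀⟩ := isPBlock_nonempty (isPModular_isPrime hM) hB
  -- the infimum is attained
  set T : Set ℕ := (fun χ : IrrCharacter G => (charDegree (χ : G → ℂ)).factorization p) '' B
    with hT
  have hTne : T.Nonempty := ⟨_, χ₀, hχ₀, rfl⟩
  obtain ⟨χ, hχB, hχ⟩ := Nat.sInf_mem hTne
  have hd0' : (Nat.card G).factorization p - sInf T = 0 := hd0
  have hχ' : (charDegree (χ : G → ℂ)).factorization p = sInf T := hχ
  have hle : (Nat.card G).factorization p ≤ (charDegree (χ : G → ℂ)).factorization p := by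
    omega
  apply hdeg χ
  have hdeg0 : charDegree (χ : G → ℂ) ≠ 0 := by
    obtain ⟨m, hm, hm1⟩ := irr_apply_one_pos χ.2
    unfold charDegree
    rw [hm1]
    simp
    exact hm.ne'
  exact (pow_dvd_pow p hle).trans (Nat.ordProj_dvd _ p)


/-- A `p`-subgroup of `N_G(D)` normalized by `N_G(D)` lies in the defect group `D`. -/
theorem le_of_normalized_pSubgroup (hM : IsPModular p M) {B : Set (IrrCharacter G)}
    (hB : IsPBlock M B) {D : Subgroup G} (hD : IsDefectGroup p M B D) {R : Subgroup G}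
    (hR : IsPGroup p R) (hRN : R ≤ Subgroup.normalizer (D : Set G))
    (hnorm : ∀ n ∈ Subgroup.normalizer (D : Set G), ∀ r ∈ R, n * r * n⁻¹ ∈ R) : R ≤ D := by
  have h1 := pCore_normalizer_of_isDefectGroup hM hB hD
  have hRn : (R.subgroupOf (Subgroup.normalizer (D : Set G))).Normal :=
    ⟨fun r hr n => hnorm n n.2 r hr⟩
  have hRp : IsPGroup p (R.subgroupOf (Subgroup.normalizer (D : Set G))) := hR.comap_subtype
  have h2 := Cfsg.Agent.Lib.Lead.le_pCore hRn hRp
  intro r hr
  rw [← h1]
  exact Subgroup.mem_map.2 ⟨⟨r, hRN hr⟩, h2 hr, rfl⟩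

omit [Finite G] hp in
theorem conj_mem_centralizer_of_mem_normalizer {D : Subgroup G} {n c : G}
    (hn : n ∈ Subgroup.normalizer (D : Set G)) (hc : c ∈ Subgroup.centralizer (D : Set G)) :
    n * c * n⁻¹ ∈ Subgroup.centralizer (D : Set G) := by
  rw [Subgroup.mem_centralizer_iff] at hc ⊢
  intro d hd
  have hd' : n⁻¹ * d * n ∈ D := by
    have := (Subgroup.mem_normalizer_iff.1 (Subgroup.inv_mem _ hn) d).1 hd
    rwa [inv_inv] at this
  have h1 := hc _ hd'
  calc d * (n * c * n⁻¹) = n * ((n⁻¹ * d * n) * c) * n⁻¹ := by group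
    _ = n * (c * (n⁻¹ * d * n)) * n⁻¹ := by rw [h1]
    _ = n * c * n⁻¹ * d := by group

/-- A normal `p`-subgroup of `C_G(D)` lies in the defect group `D`. -/
theorem le_of_normal_pSubgroup_centralizer (hM : IsPModular p M) {B : Set (IrrCharacter G)}
    (hB : IsPBlock M B) {D : Subgroup G} (hD : IsDefectGroup p M B D) {R : Subgroup G}
    (hR : IsPGroup p R) (hRC : R ≤ Subgroup.centralizer (D : Set G))
    (hnorm : ∀ c ∈ Subgroup.centralizer (D : Set G), ∀ r ∈ R, c * r * c⁻¹ ∈ R) : R ≤ D := by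
  set Nm := Subgroup.normalizer (D : Set G) with hNm
  set C := Subgroup.centralizer (D : Set G) with hC
  have hCN : C ≤ Nm := Subgroup.centralizer_le_normalizer _
  -- the conjugates of `R` under the normalizer
  let F : Nm → Subgroup G := fun n => R.map (MulAut.conj (n : G)).toMonoidHom
  have hmemF : ∀ (n : Nm) (x : G), x ∈ F n ↔ ∃ r ∈ R, x = (n : G) * r * (n : G)⁻¹ := by
    intro n x
    constructor
    · intro hx
      obtain ⟨r, hr, rfl⟩ := Subgroup.mem_map.1 hx
      exact ⟨r, hr, by simp [MulAut.conj_apply]⟩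
    · rintro ⟨r, hr, rfl⟩
      exact Subgroup.mem_map.2 ⟨r, hr, by simp [MulAut.conj_apply]⟩
  set R₂ : Subgroup G := ⨆ n : Nm, F n with hR₂
  have hFC : ∀ n : Nm, F n ≤ C := by
    intro n x hx
    obtain ⟨r, hr, rfl⟩ := (hmemF n x).1 hx
    exact conj_mem_centralizer_of_mem_normalizer n.2 (hRC hr)
  -- each conjugate is a normal `p`-subgroup of the centralizer
  have hFle : ∀ n : Nm, F n ≤ (pCore p C).map C.subtype := by
    intro n
    have hn1 : ((F n).subgroupOf C).Normal := by
      constructor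
      intro x hx c
      obtain ⟨r, hr, hxr⟩ := (hmemF n x).1 hx
      have hc' : (n : G)⁻¹ * (c : G) * ((n : G)⁻¹)⁻¹ ∈ C :=
        conj_mem_centralizer_of_mem_normalizer (Nm.inv_mem n.2) c.2
      rw [inv_inv] at hc'
      have h2 := hnorm _ hc' r hr
      refine (hmemF n _).2 ⟨_, h2, ?_⟩
      show (c : G) * (x : G) * (c : G)⁻¹ = _
      rw [hxr]
      group
    have hn2 : IsPGroup p ((F n).subgroupOf C) := (hR.map _).comap_subtype
    have h3 := Cfsg.Agent.Lib.Lead.le_pCore hn1 hn2
    intro x hx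
    exact Subgroup.mem_map.2 ⟨⟨x, hFC n hx⟩, h3 hx, rfl⟩
  have hR₂le : R₂ ≤ (pCore p C).map C.subtype := iSup_le hFle
  have hR₂p : IsPGroup p R₂ :=
    ((Cfsg.Agent.Lib.Lead.pCore_isPGroup p).map _).to_le hR₂le
  have hR₂N : R₂ ≤ Nm := hR₂le.trans ((Subgroup.map_subtype_le _).trans hCN)
  have hR₂n : ∀ n ∈ Nm, ∀ r ∈ R₂, n * r * n⁻¹ ∈ R₂ := by
    intro n hn r hr
    -- conjugation by `n` maps `R₂` into itself
    have hle : R₂ ≤ R₂.comap (MulAut.conj n).toMonoidHom := by
      refine iSup_le fun m => ?_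
      intro x hx
      obtain ⟨r', hr', rfl⟩ := (hmemF m x).1 hx
      rw [Subgroup.mem_comap]
      have h1 : (MulAut.conj n).toMonoidHom ((m : G) * r' * (m : G)⁻¹)
          = (n * (m : G)) * r' * (n * (m : G))⁻¹ := by
        simp [MulAut.conj_apply]
        group
      rw [h1]
      have hnm : n * (m : G) ∈ Nm := Nm.mul_mem hn m.2
      exact (le_iSup F ⟨n * (m : G), hnm⟩) ((hmemF ⟨n * (m : G), hnm⟩ _).2 ⟨r', hr', rfl⟩)
    have := hle hr
    rw [Subgroup.mem_comap] at this
    simpa [MulAut.conj_apply] using this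
  have h4 := le_of_normalized_pSubgroup hM hB hD hR₂p hR₂N hR₂n
  refine le_trans ?_ h4
  intro r hr
  have h1 : (1 : G) ∈ Nm := Nm.one_mem
  exact (le_iSup F ⟨1, h1⟩) ((hmemF ⟨1, h1⟩ r).2 ⟨r, hr, by simp⟩)

/-- `O_p(C_G(D)) ≤ D` for a defect group `D`. -/
theorem pCore_centralizer_le (hM : IsPModular p M) {B : Set (IrrCharacter G)}
    (hB : IsPBlock M B) {D : Subgroup G} (hD : IsDefectGroup p M B D) :
    (pCore p (Subgroup.centralizer (D : Set G))).map (Subgroup.centralizer (D : Set G)).subtype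
      ≤ D := by
  refine le_of_normal_pSubgroup_centralizer hM hB hD
    ((Cfsg.Agent.Lib.Lead.pCore_isPGroup p).map _) (Subgroup.map_subtype_le _) ?_
  intro c hc r hr
  obtain ⟨r₀, hr₀, rfl⟩ := Subgroup.mem_map.1 hr
  have hn : (pCore p (Subgroup.centralizer (D : Set G))).Normal :=
    Cfsg.Agent.Lib.Lead.pCore_normal p
  exact Subgroup.mem_map.2 ⟨⟨c, hc⟩ * r₀ * ⟨c, hc⟩⁻¹, hn.conj_mem r₀ hr₀ ⟨c, hc⟩, rfl⟩


/-- If every defect group has the order of a Sylow `p`-subgroup, then every Sylow `p`-subgroup is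
a defect group of every block. -/
theorem isDefectGroup_sylow (hM : IsPModular p M)
    (hsyl : ∀ (B : Set (IrrCharacter G)) (D : Subgroup G), IsPBlock M B →
      IsDefectGroup p M B D → Nat.card D = p ^ (Nat.card G).factorization p)
    (S : Sylow p G) {B : Set (IrrCharacter G)} (hB : IsPBlock M B) :
    IsDefectGroup p M B (S : Subgroup G) := by
  classical
  have : Fintype G := Fintype.ofFinite G
  have hMp := isPModular_isPrime hM
  obtain ⟨D, hD⟩ := exists_isDefectGroup (p := p) hMp hB
  have hcard := hsyl B D hB hD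
  let S' : Sylow p G := Sylow.ofCard D hcard
  obtain ⟨x, hx⟩ := MulAction.exists_smul_eq G S' S
  have h1 := isDefectGroup_map_conj hD x
  have h2 : D.map (MulAut.conj x).toMonoidHom = (S : Subgroup G) := by
    rw [← hx, Sylow.coe_subgroup_smul]
    ext z
    rw [Subgroup.mem_map, Subgroup.mem_smul_pointwise_iff_exists]
    rfl
  rwa [h2] at h1

/-- **One block criterion, core form.** If every defect group of every block is a Sylow
`p`-subgroup and the normalizer of some Sylow `p`-subgroup has a single block, then `G` has a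
single `p`-block. -/
theorem sameBlock_of_defect_sylow (hM : IsPModular p M)
    (hsyl : ∀ (B : Set (IrrCharacter G)) (D : Subgroup G), IsPBlock M B →
      IsDefectGroup p M B D → Nat.card D = p ^ (Nat.card G).factorization p)
    (S : Sylow p G)
    (hc : ∀ ξ ξ' : IrrCharacter (Subgroup.normalizer ((S : Subgroup G) : Set G)),
      SameBlock M (ξ : ↥(Subgroup.normalizer ((S : Subgroup G) : Set G)) → ℂ)
        (ξ' : ↥(Subgroup.normalizer ((S : Subgroup G) : Set G)) → ℂ))
    (χ ψ : IrrCharacter G) : SameBlock M (χ : G → ℂ) (ψ : G → ℂ) := by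
  classical
  have : Fintype G := Fintype.ofFinite G
  have hMp := isPModular_isPrime hM
  have hB₁ : IsPBlock M (blockOf M (χ : G → ℂ)) := ⟨χ, rfl⟩
  have hB₂ : IsPBlock M (blockOf M (ψ : G → ℂ)) := ⟨ψ, rfl⟩
  have hD₁ := isDefectGroup_sylow hM hsyl S hB₁
  have hD₂ := isDefectGroup_sylow hM hsyl S hB₂
  obtain ⟨b₁, hb₁, -, hi₁⟩ := firstMain_exists hM (S : Subgroup G) S.isPGroup' hB₁ hD₁
  obtain ⟨b₂, hb₂, -, hi₂⟩ := firstMain_exists hM (S : Subgroup G) S.isPGroup' hB₂ hD₂
  have hbb : b₁ = b₂ := isPBlock_unique_of_sameBlock hM hc hb₁ hb₂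
  subst hbb
  have hBB := isInducedBlock_unique hMp _ hi₁ hi₂
  have hmem : ψ ∈ blockOf M (ψ : G → ℂ) := sameBlock_refl hMp.ne_top _
  rw [← hBB] at hmem
  exact hmem

/-- Defect groups are Sylow subgroups, from: (a) no defect-zero character; (b) no `p`-subgroup
`D ≠ 1`, not of Sylow order, that is a Sylow `p`-subgroup of the centralizer of a `p`-regular
element satisfies `O_p(N_G(D)) = D`. -/
theorem card_defectGroup_of_pCore (hM : IsPModular p M)
    (ha : ∀ χ : IrrCharacter G,
      ¬ p ^ (Nat.card G).factorization p ∣ charDegree (χ : G → ℂ))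
    (hb : ∀ (y : G), ¬ p ∣ orderOf y →
      ∀ (P : Sylow p (Subgroup.centralizer ({y} : Set G))) (D : Subgroup G),
        D = (P : Subgroup (Subgroup.centralizer ({y} : Set G))).map
          (Subgroup.centralizer ({y} : Set G)).subtype → D ≠ ⊥ →
        Nat.card D ≠ p ^ (Nat.card G).factorization p →
        (pCore p (Subgroup.normalizer (D : Set G))).map
          (Subgroup.normalizer (D : Set G)).subtype ≠ D)
    (B : Set (IrrCharacter G)) (D : Subgroup G) (hB : IsPBlock M B)
    (hD : IsDefectGroup p M B D) : Nat.card D = p ^ (Nat.card G).factorization p := by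
  obtain ⟨y, hy, P, hDP⟩ := id hD
  have hyreg := not_dvd_orderOf_of_isDefectClass hM hB hy
  have hne := ne_bot_of_degrees hM ha hB hD
  have hcore := pCore_normalizer_of_isDefectGroup hM hB hD
  by_contra hcon
  exact hb y hyreg P D hDP hne hcon hcore

/-- Defect groups are Sylow subgroups, from: (a) no defect-zero character; (b') every `p`-subgroup
`D ≠ 1`, not of Sylow order, that is a Sylow `p`-subgroup of the centralizer of a `p`-regular
element has a normal `p`-subgroup of `C_G(D)` not contained in `D`. -/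
theorem card_defectGroup_of_centralizer (hM : IsPModular p M)
    (ha : ∀ χ : IrrCharacter G,
      ¬ p ^ (Nat.card G).factorization p ∣ charDegree (χ : G → ℂ))
    (hb' : ∀ (y : G), ¬ p ∣ orderOf y →
      ∀ (P : Sylow p (Subgroup.centralizer ({y} : Set G))) (D : Subgroup G),
        D = (P : Subgroup (Subgroup.centralizer ({y} : Set G))).map
          (Subgroup.centralizer ({y} : Set G)).subtype → D ≠ ⊥ →
        Nat.card D ≠ p ^ (Nat.card G).factorization p →
        ∃ R : Subgroup G, IsPGroup p R ∧ R ≤ Subgroup.centralizer (D : Set G) ∧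
          (∀ c ∈ Subgroup.centralizer (D : Set G), ∀ r ∈ R, c * r * c⁻¹ ∈ R) ∧ ¬ R ≤ D)
    (B : Set (IrrCharacter G)) (D : Subgroup G) (hB : IsPBlock M B)
    (hD : IsDefectGroup p M B D) : Nat.card D = p ^ (Nat.card G).factorization p := by
  obtain ⟨y, hy, P, hDP⟩ := id hD
  have hyreg := not_dvd_orderOf_of_isDefectClass hM hB hy
  have hne := ne_bot_of_degrees hM ha hB hD
  by_contra hcon
  obtain ⟨R, hR, hRC, hRn, hRD⟩ := hb' y hyreg P D hDP hne hcon
  exact hRD (le_of_normal_pSubgroup_centralizer hM hB hD hR hRC hRn)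

/-- If the normalizer of a Sylow `p`-subgroup is a `p`-group (for instance `N_G(S) = S`), it has a
single block. -/
theorem sameBlock_normalizer_of_isPGroup (hM : IsPModular p M) (S : Sylow p G)
    (hN : IsPGroup p (Subgroup.normalizer ((S : Subgroup G) : Set G)))
    (ξ ξ' : IrrCharacter (Subgroup.normalizer ((S : Subgroup G) : Set G))) :
    SameBlock M (ξ : ↥(Subgroup.normalizer ((S : Subgroup G) : Set G)) → ℂ)
      (ξ' : ↥(Subgroup.normalizer ((S : Subgroup G) : Set G)) → ℂ) :=
  sameBlock_of_isPGroup hM hN ξ ξ'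

end Cfsg.Agent.Lib.Helper8.OB
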