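import Mathlib
import Cfsg.Agent.Lib.Lead.MinIdxDefs

/-!
# (W0) permutation multiplicities of a finite abelian group (project S2140)
-/

set_option autoImplicit false

namespace Cfsg.Agent.Lib.Lead.MinIdx

section W0
variable {R : Type*} [CommGroup R] {Ω : Type*} [MulAction R Ω]

theorem w0_stabilizer_smul_eq (r : R) (ω : Ω) :
    MulAction.stabilizer R (r • ω) = MulAction.stabilizer R ω := by
  ext s
  rw [MulAction.mem_stabilizer_iff, MulAction.mem_stabilizer_iff, smul_comm s r ω]
  exact ⟨fun h => smul_left_cancel r h, fun h => by rw [h]⟩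

/-- (W0f) `pset χ` is a union of orbits -/
theorem smul_mem_pset {χ : R →* ℂˣ} {ω : Ω} (hω : ω ∈ pset χ) (r : R) : r • ω ∈ pset χ := by
  intro s hs
  rw [w0_stabilizer_smul_eq] at hs
  exact hω s hs

theorem w0_orbit_subset_pset_iff (χ : R →* ℂˣ) (ω : Ω) :
    MulAction.orbitRel.Quotient.orbit (Quotient.mk'' ω : MulAction.orbitRel.Quotient R Ω) ⊆ pset χ ↔ ω ∈ pset χ := by
  rw [MulAction.orbitRel.Quotient.orbit_mk]
  constructor
  · intro h
    exact h (MulAction.mem_orbit_self ω)
  · rintro h _ ⟨r, rfl⟩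
    exact smul_mem_pset h r

theorem w0_mem_pset_iff (χ : R →* ℂˣ) (ω : Ω) :
    ω ∈ pset χ ↔ MulAction.stabilizer R ω ≤ χ.ker := by
  constructor
  · intro h r hr
    exact MonoidHom.mem_ker.2 (h r hr)
  · intro h r hr
    exact MonoidHom.mem_ker.1 (h hr)

variable [Finite R] [Finite Ω]

/-- (W0c) the trivial character counts the orbits -/
theorem pmult_one : pmult Ω (1 : R →* ℂˣ) = Nat.card (MulAction.orbitRel.Quotient R Ω) := by
  unfold pmult
  apply Nat.card_congr
  refine (Equiv.subtypeUnivEquiv ?_)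
  intro o ω _ r _
  rfl

/-- (W0d) multiplicity zero -/
theorem pmult_eq_zero_iff (χ : R →* ℂˣ) : pmult Ω χ = 0 ↔ pset (Ω := Ω) χ = ∅ := by
  unfold pmult
  rw [Nat.card_eq_zero]
  constructor
  · rintro (h | h)
    · rw [Set.eq_empty_iff_forall_notMem]
      intro ω hω
      exact h.false ⟨Quotient.mk'' ω, (w0_orbit_subset_pset_iff χ ω).2 hω⟩
    · exact absurd (Subtype.finite) (not_finite_iff_infinite.2 h)
  · intro h
    left
    constructor
    rintro ⟨o, ho⟩
    induction o using Quotient.inductionOn' with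
    | _ ω =>
      have := (w0_orbit_subset_pset_iff χ ω).1 ho
      rw [h] at this
      exact this

/-- (W0e) multiplicity one: `pset χ` is a single orbit -/
theorem exists_smul_eq_of_pmult_eq_one {χ : R →* ℂˣ} (h : pmult Ω χ = 1) {ω ω' : Ω}
    (hω : ω ∈ pset χ) (hω' : ω' ∈ pset χ) : ∃ r : R, r • ω = ω' := by
  unfold pmult at h
  have hsub := (Nat.card_eq_one_iff_unique.1 h).1
  have heq := hsub.elim
    (⟨Quotient.mk'' ω, (w0_orbit_subset_pset_iff χ ω).2 hω⟩ :
      {o : MulAction.orbitRel.Quotient R Ω // o.orbit ⊆ pset χ})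
    ⟨Quotient.mk'' ω', (w0_orbit_subset_pset_iff χ ω').2 hω'⟩
  have h1 : (Quotient.mk'' ω : MulAction.orbitRel.Quotient R Ω) = Quotient.mk'' ω' :=
    congrArg Subtype.val heq
  have h2 := Quotient.exact' h1
  have h3 : ω ∈ MulAction.orbit R ω' := h2
  obtain ⟨r, hr⟩ := h3
  refine ⟨r⁻¹, ?_⟩
  rw [← hr, inv_smul_smul]

/-- (W0b) invariance under a compatible pair of symmetries -/
theorem pmult_comp (σ : R ≃* R) (τ : Ω ≃ Ω) (hστ : ∀ r ω, τ (r • ω) = σ r • τ ω) (χ : R →* ℂˣ) :
    pmult Ω (χ.comp σ.toMonoidHom) = pmult Ω χ := by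
  have hτinv : ∀ r ω, τ.symm (r • ω) = σ.symm r • τ.symm ω := by
    intro r ω
    apply τ.injective
    rw [hστ, Equiv.apply_symm_apply, MulEquiv.apply_symm_apply, Equiv.apply_symm_apply]
  have hstab : ∀ ω : Ω, ∀ r : R, r ∈ MulAction.stabilizer R ω ↔
      σ r ∈ MulAction.stabilizer R (τ ω) := by
    intro ω r
    rw [MulAction.mem_stabilizer_iff, MulAction.mem_stabilizer_iff, ← hστ]
    exact ⟨fun h => by rw [h], fun h => τ.injective h⟩
  have hpset : ∀ ω : Ω, ω ∈ pset (χ.comp σ.toMonoidHom) ↔ τ ω ∈ pset χ := by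
    intro ω
    constructor
    · intro h s hs
      have h1 : σ.symm s ∈ MulAction.stabilizer R ω := by
        rw [hstab, MulEquiv.apply_symm_apply]
        exact hs
      have := h _ h1
      simpa using this
    · intro h r hr
      have := h (σ r) ((hstab ω r).1 hr)
      simpa using this
  -- the map on orbits
  let f : MulAction.orbitRel.Quotient R Ω → MulAction.orbitRel.Quotient R Ω :=
    Quotient.map' τ (by
      rintro a b ⟨r, rfl⟩
      exact ⟨σ r, (hστ r b).symm⟩)
  let g : MulAction.orbitRel.Quotient R Ω → MulAction.orbitRel.Quotient R Ω :=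
    Quotient.map' τ.symm (by
      rintro a b ⟨r, rfl⟩
      exact ⟨σ.symm r, (hτinv r b).symm⟩)
  have hfg : ∀ o, f (g o) = o := by
    intro o
    induction o using Quotient.inductionOn' with
    | _ ω =>
      show (Quotient.mk'' (τ (τ.symm ω)) : MulAction.orbitRel.Quotient R Ω) = Quotient.mk'' ω
      rw [Equiv.apply_symm_apply]
  have hgf : ∀ o, g (f o) = o := by
    intro o
    induction o using Quotient.inductionOn' with
    | _ ω =>
      show (Quotient.mk'' (τ.symm (τ ω)) : MulAction.orbitRel.Quotient R Ω) = Quotient.mk'' ω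
      rw [Equiv.symm_apply_apply]
  have hf : ∀ o : MulAction.orbitRel.Quotient R Ω,
      o.orbit ⊆ pset (χ.comp σ.toMonoidHom) ↔ (f o).orbit ⊆ pset χ := by
    intro o
    induction o using Quotient.inductionOn' with
    | _ ω =>
      show MulAction.orbitRel.Quotient.orbit (Quotient.mk'' ω : MulAction.orbitRel.Quotient R Ω) ⊆ _ ↔
        MulAction.orbitRel.Quotient.orbit (Quotient.mk'' (τ ω) : MulAction.orbitRel.Quotient R Ω) ⊆ _
      rw [w0_orbit_subset_pset_iff, w0_orbit_subset_pset_iff, hpset]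
  unfold pmult
  apply Nat.card_congr
  exact
    { toFun := fun o => ⟨f o.1, (hf o.1).1 o.2⟩
      invFun := fun o => ⟨g o.1, (hf (g o.1)).2 (by rw [hfg]; exact o.2)⟩
      left_inv := fun o => Subtype.ext (hgf o.1)
      right_inv := fun o => Subtype.ext (hfg o.1) }

/-- the number of characters trivial on a subgroup is its index -/
theorem w0_card_char_trivial_on (S : Subgroup R) :
    Nat.card {χ : R →* ℂˣ // S ≤ χ.ker} = S.index := by
  have hne : NeZero (Monoid.exponent (R ⧸ S)) := ⟨Monoid.exponent_ne_zero_of_finite⟩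
  have h1 : Nat.card ((R ⧸ S) →* ℂˣ) = Nat.card (R ⧸ S) :=
    CommGroup.card_monoidHom_of_hasEnoughRootsOfUnity (R ⧸ S) ℂ
  rw [Subgroup.index, ← h1]
  apply Nat.card_congr
  exact
    { toFun := fun χ => QuotientGroup.lift S χ.1 (fun r hr => MonoidHom.mem_ker.1 (χ.2 hr))
      invFun := fun f => ⟨f.comp (QuotientGroup.mk' S), fun r hr => by
        rw [MonoidHom.mem_ker, MonoidHom.comp_apply, QuotientGroup.mk'_apply,
          (QuotientGroup.eq_one_iff r).2 hr, map_one]⟩
      left_inv := fun χ => by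
        apply Subtype.ext
        ext r
        rfl
      right_inv := fun f => by
        ext x
        rfl }

/-- (W0a) the multiplicities add up to the degree -/
theorem sum_pmult [Fintype (R →* ℂˣ)] : ∑ χ : R →* ℂˣ, pmult Ω χ = Nat.card Ω := by
  classical
  have : Fintype (MulAction.orbitRel.Quotient R Ω) := Fintype.ofFinite _
  have h1 : ∀ χ : R →* ℂˣ, pmult Ω χ =
      ∑ o : MulAction.orbitRel.Quotient R Ω, if o.orbit ⊆ pset χ then 1 else 0 := by
    intro χ
    unfold pmult
    rw [Finset.sum_boole, Nat.card_eq_fintype_card, Fintype.card_subtype]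
    simp
  rw [Finset.sum_congr rfl fun χ _ => h1 χ, Finset.sum_comm]
  have h2 : ∀ o : MulAction.orbitRel.Quotient R Ω,
      (∑ χ : R →* ℂˣ, if o.orbit ⊆ pset χ then 1 else 0) = Nat.card o.orbit := by
    intro o
    induction o using Quotient.inductionOn' with
    | _ ω =>
      rw [Finset.sum_boole]
      have h3 : Nat.card {χ : R →* ℂˣ // MulAction.stabilizer R ω ≤ χ.ker} =
          (MulAction.stabilizer R ω).index := w0_card_char_trivial_on _
      have h4 : (Finset.univ.filter fun χ : R →* ℂˣ =>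
          MulAction.orbitRel.Quotient.orbit (Quotient.mk'' ω : MulAction.orbitRel.Quotient R Ω) ⊆ pset χ).card =
          Nat.card {χ : R →* ℂˣ // MulAction.stabilizer R ω ≤ χ.ker} := by
        rw [Nat.card_eq_fintype_card, Fintype.card_subtype]
        congr 1
        ext χ
        simp only [Finset.mem_filter, Finset.mem_univ, true_and]
        rw [w0_orbit_subset_pset_iff, w0_mem_pset_iff]
      rw [Nat.cast_id, h4, h3, MulAction.orbitRel.Quotient.orbit_mk,
        MulAction.index_stabilizer, _root_.Nat.card_coe_set_eq]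
  rw [Finset.sum_congr rfl fun o _ => h2 o]
  rw [Nat.card_congr (MulAction.selfEquivSigmaOrbits R Ω), Nat.card_sigma]
  apply Finset.sum_congr rfl
  intro o _
  rw [MulAction.orbitRel.Quotient.orbit_eq_orbit_out o Quotient.out_eq']

end W0

end Cfsg.Agent.Lib.Lead.MinIdx
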