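import Mathlib
import Cfsg.Prelude.Def_Characters
import Cfsg.Agent.Lib.Helper4.Characters
import Cfsg.Agent.Lib.Helper1.CharFound6
import Cfsg.Agent.Lib.Helper1.CharFound7
import Cfsg.Agent.S0148

/-!
# The Glauberman correspondence for `p`-groups: definitions and bookkeeping
-/

set_option autoImplicit false
set_option linter.unusedSectionVars false

namespace Cfsg.Agent.Lib.Helper8

open Cfsg
open scoped ComplexConjugate
open Cfsg.Agent.Lib.Helper1 Cfsg.Agent.Lib.Helper4

universe u

theorem classInner_mulEquiv {A B : Type*} [Group A] [Group B] [Fintype A] [Fintype B]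
    (e : A ≃* B) (f h : B → ℂ) :
    classInner (fun a => f (e a)) (fun a => h (e a)) = classInner f h := by
  rw [classInner_def, classInner_def, Nat.card_congr e.toEquiv]
  congr 1
  exact Equiv.sum_comp e.toEquiv (fun x => f x * conj (h x))

section

variable {Γ : Type u} [Group Γ]

/-- `x` normalises `H` (in both directions). -/
def Normalizes (x : Γ) (H : Subgroup Γ) : Prop := ∀ g : Γ, g ∈ H ↔ x * g * x⁻¹ ∈ H

theorem Normalizes.inv {x : Γ} {H : Subgroup Γ} (h : Normalizes x H) : Normalizes x⁻¹ H := by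
  intro g
  rw [h (x⁻¹ * g * x⁻¹⁻¹)]
  have : x * (x⁻¹ * g * x⁻¹⁻¹) * x⁻¹ = g := by group
  rw [this]

theorem Normalizes.mul {x y : Γ} {H : Subgroup Γ} (hx : Normalizes x H) (hy : Normalizes y H) :
    Normalizes (x * y) H := by
  intro g
  rw [hy g, hx (y * g * y⁻¹)]
  have : x * (y * g * y⁻¹) * x⁻¹ = x * y * g * (x * y)⁻¹ := by group
  rw [this]

theorem Normalizes.one (H : Subgroup Γ) : Normalizes (1 : Γ) H := by
  intro g
  simp

theorem normalizes_of_forall [Finite Γ] {S H : Subgroup Γ}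
    (hnorm : ∀ s ∈ S, ∀ g ∈ H, s * g * s⁻¹ ∈ H) {s : Γ} (hs : s ∈ S) : Normalizes s H := by
  intro g
  constructor
  · exact hnorm s hs g
  · intro h1
    have := hnorm s⁻¹ (S.inv_mem hs) _ h1
    simpa [mul_assoc] using this

theorem normalizes_of_mem {H : Subgroup Γ} {x : Γ} (hx : x ∈ H) : Normalizes x H := by
  intro g
  constructor
  · intro hg
    exact H.mul_mem (H.mul_mem hx hg) (H.inv_mem hx)
  · intro h1
    have := H.mul_mem (H.mul_mem (H.inv_mem hx) h1) hx
    have e : x⁻¹ * (x * g * x⁻¹) * x = g := by group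
    rwa [e] at this

/-- Conjugation by a normalising element, as an automorphism of `H`. -/
def conjE {x : Γ} {H : Subgroup Γ} (hx : Normalizes x H) : H ≃* H where
  toFun g := ⟨x * g * x⁻¹, (hx g).1 g.2⟩
  invFun g := ⟨x⁻¹ * g * x, by
    have := (hx.inv g).1 g.2
    simpa using this⟩
  left_inv g := by
    apply Subtype.ext
    show x⁻¹ * (x * (g : Γ) * x⁻¹) * x = g
    group
  right_inv g := by
    apply Subtype.ext
    show x * (x⁻¹ * (g : Γ) * x) * x⁻¹ = g
    group
  map_mul' a b := by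
    apply Subtype.ext
    show x * ((a : Γ) * b) * x⁻¹ = (x * a * x⁻¹) * (x * b * x⁻¹)
    group

theorem conjE_coe {x : Γ} {H : Subgroup Γ} (hx : Normalizes x H) (g : H) :
    ((conjE hx g : H) : Γ) = x * g * x⁻¹ := rfl

/-- Invariance of a function on `H` under conjugation by the elements of `S` (in the form used
in the statements). -/
def InvS (S H : Subgroup Γ) (χ : H → ℂ) : Prop :=
  ∀ s ∈ S, ∀ g g' : H, (g' : Γ) = s * g * s⁻¹ → χ g' = χ g

/-- Invariance under a single element. -/
def InvElt (s : Γ) (H : Subgroup Γ) (χ : H → ℂ) : Prop :=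
  ∀ g g' : H, (g' : Γ) = s * g * s⁻¹ → χ g' = χ g

theorem invElt_iff {s : Γ} {H : Subgroup Γ} (hs : Normalizes s H) (χ : H → ℂ) :
    InvElt s H χ ↔ ∀ g : H, χ (conjE hs g) = χ g := by
  constructor
  · intro h g
    exact h g _ rfl
  · intro h g g' hg
    have : g' = conjE hs g := Subtype.ext hg
    rw [this]
    exact h g

theorem InvElt.inv {s : Γ} {H : Subgroup Γ} (hs : Normalizes s H) {χ : H → ℂ}
    (h : InvElt s H χ) : InvElt s⁻¹ H χ := by
  intro g g' hg
  symm
  apply h g' g
  rw [hg]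
  group

theorem InvElt.mul {s t : Γ} {H : Subgroup Γ} (ht : Normalizes t H) {χ : H → ℂ}
    (h1 : InvElt s H χ) (h2 : InvElt t H χ) : InvElt (s * t) H χ := by
  intro g g' hg
  rw [h1 (conjE ht g) g' (by rw [hg, conjE_coe]; group)]
  exact h2 g _ rfl

theorem InvElt.one (H : Subgroup Γ) (χ : H → ℂ) : InvElt (1 : Γ) H χ := by
  intro g g' hg
  have : g' = g := Subtype.ext (by rw [hg]; group)
  rw [this]

theorem InvElt.zpow {s : Γ} {H : Subgroup Γ} (hs : Normalizes s H) {χ : H → ℂ}
    (h : InvElt s H χ) (i : ℤ) : InvElt (s ^ i) H χ := by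
  induction i using Int.induction_on with
  | zero => rw [zpow_zero]; exact InvElt.one H χ
  | succ n ih =>
    rw [zpow_add_one]
    exact InvElt.mul hs ih h
  | pred n ih =>
    rw [zpow_sub_one]
    exact InvElt.mul hs.inv ih (h.inv hs)

theorem invS_iff (S H : Subgroup Γ) (χ : H → ℂ) : InvS S H χ ↔ ∀ s ∈ S, InvElt s H χ := Iff.rfl

/-- The conjugate of a function on `H` by a normalising element: `(χ^x)(g) = χ(x g x⁻¹)`. -/
def conjChar {x : Γ} {H : Subgroup Γ} (hx : Normalizes x H) (χ : H → ℂ) : H → ℂ :=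
  fun g => χ (conjE hx g)

theorem isIrrCharacter_conjChar {x : Γ} {H : Subgroup Γ} (hx : Normalizes x H) {χ : H → ℂ}
    (hχ : IsIrrCharacter H χ) : IsIrrCharacter H (conjChar hx χ) :=
  isIrrCharacter_comp_mulEquiv hχ (conjE hx)

/-- Conjugating both a function on `H` and a function on `B ≤ H` leaves the multiplicity
unchanged. -/
theorem classInner_conjChar {x : Γ} {H B : Subgroup Γ} [Fintype B] (hBH : B ≤ H)
    (hxH : Normalizes x H) (hxB : Normalizes x B) (χ : H → ℂ) (ψ : B → ℂ) :
    classInner (fun b : B => conjChar hxH χ ⟨b, hBH b.2⟩) (conjChar hxB ψ)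
      = classInner (fun b : B => χ ⟨b, hBH b.2⟩) ψ := by
  have := classInner_mulEquiv (conjE hxB) (fun b : B => χ ⟨b, hBH b.2⟩) ψ
  rw [← this]
  rfl

end

end Cfsg.Agent.Lib.Helper8
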