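import Mathlib
import Cfsg.Prelude.Def_Characters
import Cfsg.Agent.Lib.Helper8.GL13
import Cfsg.Agent.Lib.Helper1.CharFound3

/-!
# The Glauberman correspondence for `p`-groups: composition of two steps
-/

set_option autoImplicit false
set_option linter.unusedSectionVars false

namespace Cfsg.Agent.Lib.Helper8

open Cfsg
open scoped ComplexConjugate
open Cfsg.Agent.Lib.Helper1 Cfsg.Agent.Lib.Helper4

universe u

section

variable {Γ : Type u} [Group Γ]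

/-- The package of properties of the correspondence `Irr_Inv(H) → Irr(C)` determined by
multiplicities prime to `p`. -/
structure GlauProp (p : ℕ) (H C : Subgroup Γ) [Fintype H] [Fintype C] (hCH : C ≤ H)
    (Inv : IrrCharacter H → Prop) : Prop where
  corr : ∀ χ : IrrCharacter H, Inv χ → ∃ β : IrrCharacter C, ∃ ε : ℤ, (ε = 1 ∨ ε = -1) ∧
    ∀ γ : IrrCharacter C, ∃ m : ℕ,
      classInner (fun c : C => (χ : H → ℂ) ⟨c, hCH c.2⟩) (γ : C → ℂ) = m ∧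
      (m : ℤ) ≡ (if γ = β then ε else 0) [ZMOD p]
  inj : ∀ χ χ' : IrrCharacter H, Inv χ → Inv χ' → ∀ β : IrrCharacter C, ∀ m m' : ℕ,
    classInner (fun c : C => (χ : H → ℂ) ⟨c, hCH c.2⟩) (β : C → ℂ) = m → ¬ p ∣ m →
    classInner (fun c : C => (χ' : H → ℂ) ⟨c, hCH c.2⟩) (β : C → ℂ) = m' → ¬ p ∣ m' → χ = χ'
  surj : ∀ β : IrrCharacter C, ∃ χ : IrrCharacter H, Inv χ ∧ ∃ m : ℕ,
    classInner (fun c : C => (χ : H → ℂ) ⟨c, hCH c.2⟩) (β : C → ℂ) = m ∧ ¬ p ∣ m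

theorem not_dvd_of_modEq_pm {p : ℕ} (hp : p.Prime) {m : ℕ} {ε : ℤ} (hε : ε = 1 ∨ ε = -1)
    (h : (m : ℤ) ≡ ε [ZMOD p]) : ¬ p ∣ m := by
  intro hd
  have h1 : (p : ℤ) ∣ (m : ℤ) := Int.natCast_dvd_natCast.2 hd
  have h2 : (p : ℤ) ∣ ε - m := Int.modEq_iff_dvd.1 h
  have h3 : (p : ℤ) ∣ ε := by
    have := dvd_add h2 h1
    simpa using this
  have h4 : (p : ℤ) ∣ 1 := by
    rcases hε with h5 | h5
    · rwa [h5] at h3
    · rw [h5] at h3
      exact (dvd_neg.1 h3)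
  have h5 : p ∣ 1 := by exact_mod_cast h4
  exact hp.one_lt.ne' (Nat.dvd_one.1 h5)

theorem dvd_of_modEq_zero {p : ℕ} {m : ℕ} (h : (m : ℤ) ≡ 0 [ZMOD p]) : p ∣ m := by
  have h2 : (p : ℤ) ∣ (m : ℤ) := (Int.modEq_zero_iff_dvd).1 h
  exact_mod_cast h2

/-- Restriction in stages. -/
theorem classInner_restrict_stages {H B C : Subgroup Γ} [Fintype B] [Fintype C]
    [Fintype (IrrCharacter B)] (hBH : B ≤ H) (hCB : C ≤ B) {χ : H → ℂ} (hχ : IsCharacter H χ)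
    (γ : C → ℂ) :
    classInner (fun c : C => χ ⟨c, (hCB.trans hBH) c.2⟩) γ
      = ∑ ψ : IrrCharacter B, classInner (fun b : B => χ ⟨b, hBH b.2⟩) (ψ : B → ℂ) *
        classInner (fun c : C => (ψ : B → ℂ) ⟨c, hCB c.2⟩) γ := by
  have hχB : IsCharacter B (fun b : B => χ ⟨b, hBH b.2⟩) :=
    isCharacter_comp_hom hχ (Subgroup.inclusion hBH)
  have hexp := class_function_expansion _ (isClassFunction_of_isCharacter hχB)
  have h1 : (fun c : C => χ ⟨c, (hCB.trans hBH) c.2⟩)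
      = ∑ ψ : IrrCharacter B, classInner (fun b : B => χ ⟨b, hBH b.2⟩) (ψ : B → ℂ) •
        fun c : C => (ψ : B → ℂ) ⟨c, hCB c.2⟩ := by
    funext c
    have h2 := congrFun hexp ⟨c, hCB c.2⟩
    rw [Finset.sum_apply] at h2 ⊢
    exact h2
  rw [h1, classInner_sum_left]
  refine Finset.sum_congr rfl fun ψ _ => ?_
  rw [classInner_smul_left]

theorem pm_mul_pm {a b : ℤ} (ha : a = 1 ∨ a = -1) (hb : b = 1 ∨ b = -1) :
    a * b = 1 ∨ a * b = -1 := by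
  rcases ha with h | h <;> rcases hb with h' | h' <;> rw [h, h'] <;> simp

/-- The key computation for composing two steps. -/
theorem glau_key {p : ℕ} (hp : p.Prime) {H B C : Subgroup Γ} [Fintype H] [Fintype B]
    [Fintype C] (hBH : B ≤ H) (hCB : C ≤ B) {S : Subgroup Γ}
    (hSH : ∀ s ∈ S, Normalizes s H) (hSB : ∀ s ∈ S, Normalizes s B)
    (χ : IrrCharacter H) (hχ : InvS S H (χ : H → ℂ)) (ψ : IrrCharacter B) (ε₁ : ℤ)
    (hε₁ : ε₁ = 1 ∨ ε₁ = -1)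
    (hc₁ : ∀ γ : IrrCharacter B, ∃ m : ℕ,
      classInner (fun b : B => (χ : H → ℂ) ⟨b, hBH b.2⟩) (γ : B → ℂ) = m ∧
      (m : ℤ) ≡ (if γ = ψ then ε₁ else 0) [ZMOD p]) :
    InvS S B (ψ : B → ℂ) ∧ ∀ β : IrrCharacter C, ∀ ε₂ : ℤ,
      (∀ γ : IrrCharacter C, ∃ m : ℕ,
        classInner (fun c : C => (ψ : B → ℂ) ⟨c, hCB c.2⟩) (γ : C → ℂ) = m ∧
        (m : ℤ) ≡ (if γ = β then ε₂ else 0) [ZMOD p]) →
      ∀ γ : IrrCharacter C, ∃ m : ℕ,
        classInner (fun c : C => (χ : H → ℂ) ⟨c, (hCB.trans hBH) c.2⟩) (γ : C → ℂ) = m ∧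
        (m : ℤ) ≡ (if γ = β then ε₁ * ε₂ else 0) [ZMOD p] := by
  classical
  haveI : Fintype (IrrCharacter B) := Fintype.ofFinite _
  constructor
  · intro s hs
    show InvElt s B (ψ : B → ℂ)
    rw [invElt_iff (hSB s hs)]
    set ψ' : IrrCharacter B := ⟨conjChar (hSB s hs) (ψ : B → ℂ),
      isIrrCharacter_conjChar (hSB s hs) ψ.2⟩ with hψ'
    have hχs : conjChar (hSH s hs) (χ : H → ℂ) = (χ : H → ℂ) := by
      funext g
      exact (invElt_iff (hSH s hs) _).1 (hχ s hs) g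
    have heq : classInner (fun b : B => (χ : H → ℂ) ⟨b, hBH b.2⟩) (ψ' : B → ℂ)
        = classInner (fun b : B => (χ : H → ℂ) ⟨b, hBH b.2⟩) (ψ : B → ℂ) := by
      have := classInner_conjChar hBH (hSH s hs) (hSB s hs) (χ : H → ℂ) (ψ : B → ℂ)
      rw [hχs] at this
      exact this
    obtain ⟨m, hm, hmc⟩ := hc₁ ψ
    obtain ⟨m', hm', hmc'⟩ := hc₁ ψ'
    rw [if_pos rfl] at hmc
    have hmm : m' = m := by
      have : (m' : ℂ) = m := by rw [← hm', ← hm, heq]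
      exact_mod_cast this
    have hψψ : ψ' = ψ := by
      by_contra hne
      rw [if_neg hne, hmm] at hmc'
      exact not_dvd_of_modEq_pm hp hε₁ hmc (dvd_of_modEq_zero hmc')
    intro g
    have := congrArg (fun z : IrrCharacter B => (z : B → ℂ) g) hψψ
    exact this
  · intro β ε₂ hc₂ γ
    choose a ha hac using hc₁
    choose b hb using fun ψ' : IrrCharacter B => classInner_char_irr_nat
      (isCharacter_comp_hom (isCharacter_of_irr ψ'.2) (Subgroup.inclusion hCB)) γ.2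
    refine ⟨∑ ψ' : IrrCharacter B, a ψ' * b ψ', ?_, ?_⟩
    · rw [classInner_restrict_stages hBH hCB (isCharacter_of_irr χ.2)]
      push_cast
      refine Finset.sum_congr rfl fun ψ' _ => ?_
      rw [ha ψ', ← hb ψ']
      rfl
    · obtain ⟨m₂, hm₂, hmc₂⟩ := hc₂ γ
      have hbψ : b ψ = m₂ := by
        have : (b ψ : ℂ) = m₂ := by rw [← hb ψ, ← hm₂]; rfl
        exact_mod_cast this
      push_cast
      have hsum : (∑ ψ' : IrrCharacter B, (a ψ' : ℤ) * (b ψ' : ℤ)) ≡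
          ∑ ψ' : IrrCharacter B, (if ψ' = ψ then ε₁ else 0) * (b ψ' : ℤ) [ZMOD p] := by
        rw [Int.modEq_iff_dvd, ← Finset.sum_sub_distrib]
        apply Finset.dvd_sum
        intro ψ' _
        rw [← sub_mul]
        exact Dvd.dvd.mul_right (Int.modEq_iff_dvd.1 (hac ψ')) _
      refine hsum.trans ?_
      rw [Finset.sum_eq_single ψ (fun ψ' _ hne => by rw [if_neg hne, zero_mul])
        (fun h => absurd (Finset.mem_univ _) h), if_pos rfl, hbψ]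
      split_ifs with hγ
      · rw [if_pos hγ] at hmc₂
        exact Int.ModEq.mul_left ε₁ hmc₂
      · rw [if_neg hγ] at hmc₂
        have := Int.ModEq.mul_left ε₁ hmc₂
        rwa [mul_zero] at this

theorem GlauProp.eq_of_not_dvd {p : ℕ} {H C : Subgroup Γ} [Fintype H] [Fintype C]
    {hCH : C ≤ H} {χ : IrrCharacter H} {β : IrrCharacter C} {ε : ℤ}
    (hc : ∀ γ : IrrCharacter C, ∃ m : ℕ,
      classInner (fun c : C => (χ : H → ℂ) ⟨c, hCH c.2⟩) (γ : C → ℂ) = m ∧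
      (m : ℤ) ≡ (if γ = β then ε else 0) [ZMOD p])
    {γ : IrrCharacter C} {m : ℕ}
    (hm : classInner (fun c : C => (χ : H → ℂ) ⟨c, hCH c.2⟩) (γ : C → ℂ) = m) (hpm : ¬ p ∣ m) :
    γ = β := by
  by_contra hne
  obtain ⟨m', hm', hmc'⟩ := hc γ
  rw [if_neg hne] at hmc'
  have : m' = m := by
    have : (m' : ℂ) = m := by rw [← hm', ← hm]
    exact_mod_cast this
  rw [this] at hmc'
  exact hpm (dvd_of_modEq_zero hmc')

theorem GlauProp.not_dvd_self {p : ℕ} (hp : p.Prime) {H C : Subgroup Γ} [Fintype H] [Fintype C]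
    {hCH : C ≤ H} {χ : IrrCharacter H} {β : IrrCharacter C} {ε : ℤ} (hε : ε = 1 ∨ ε = -1)
    (hc : ∀ γ : IrrCharacter C, ∃ m : ℕ,
      classInner (fun c : C => (χ : H → ℂ) ⟨c, hCH c.2⟩) (γ : C → ℂ) = m ∧
      (m : ℤ) ≡ (if γ = β then ε else 0) [ZMOD p]) :
    ∃ m : ℕ, classInner (fun c : C => (χ : H → ℂ) ⟨c, hCH c.2⟩) (β : C → ℂ) = m ∧ ¬ p ∣ m := by
  obtain ⟨m, hm, hmc⟩ := hc β
  rw [if_pos rfl] at hmc
  exact ⟨m, hm, not_dvd_of_modEq_pm hp hε hmc⟩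

/-- Composition of two steps of the correspondence. -/
theorem GlauProp.comp {p : ℕ} (hp : p.Prime) {H B C : Subgroup Γ} [Fintype H] [Fintype B]
    [Fintype C] (hBH : B ≤ H) (hCB : C ≤ B) {S T : Subgroup Γ} (hTS : T ≤ S)
    (hSH : ∀ s ∈ S, Normalizes s H) (hSB : ∀ s ∈ S, Normalizes s B)
    (hTn : ∀ s ∈ S, ∀ t ∈ T, s * t * s⁻¹ ∈ T)
    (h1 : GlauProp p H B hBH (fun χ => InvS T H (χ : H → ℂ)))
    (h2 : GlauProp p B C hCB (fun ψ => InvS S B (ψ : B → ℂ))) :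
    GlauProp p H C (hCB.trans hBH) (fun χ => InvS S H (χ : H → ℂ)) := by
  classical
  have hST : ∀ {χ : H → ℂ}, InvS S H χ → InvS T H χ := fun h t ht => h t (hTS ht)
  refine ⟨?_, ?_, ?_⟩
  · intro χ hχ
    obtain ⟨ψ, ε₁, hε₁, hc₁⟩ := h1.corr χ (hST hχ)
    obtain ⟨hψS, hkey⟩ := glau_key hp hBH hCB hSH hSB χ hχ ψ ε₁ hε₁ hc₁
    obtain ⟨β, ε₂, hε₂, hc₂⟩ := h2.corr ψ hψS
    exact ⟨β, ε₁ * ε₂, pm_mul_pm hε₁ hε₂, hkey β ε₂ hc₂⟩
  · intro χ χ' hχ hχ' β m m' hm hpm hm' hpm'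
    obtain ⟨ψ, ε₁, hε₁, hc₁⟩ := h1.corr χ (hST hχ)
    obtain ⟨hψS, hkey⟩ := glau_key hp hBH hCB hSH hSB χ hχ ψ ε₁ hε₁ hc₁
    obtain ⟨β₀, ε₂, hε₂, hc₂⟩ := h2.corr ψ hψS
    obtain ⟨ψ', ε₁', hε₁', hc₁'⟩ := h1.corr χ' (hST hχ')
    obtain ⟨hψS', hkey'⟩ := glau_key hp hBH hCB hSH hSB χ' hχ' ψ' ε₁' hε₁' hc₁'
    obtain ⟨β₀', ε₂', hε₂', hc₂'⟩ := h2.corr ψ' hψS'
    have e1 : β = β₀ := GlauProp.eq_of_not_dvd (hkey β₀ ε₂ hc₂) hm hpm
    have e2 : β = β₀' := GlauProp.eq_of_not_dvd (hkey' β₀' ε₂' hc₂') hm' hpm'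
    obtain ⟨n, hn, hpn⟩ := GlauProp.not_dvd_self hp hε₂ hc₂
    obtain ⟨n', hn', hpn'⟩ := GlauProp.not_dvd_self hp hε₂' hc₂'
    rw [← e1] at hn
    rw [← e2] at hn'
    have hψψ : ψ = ψ' := h2.inj ψ ψ' hψS hψS' β n n' hn hpn hn' hpn'
    obtain ⟨a, ha, hpa⟩ := GlauProp.not_dvd_self hp hε₁ hc₁
    obtain ⟨a', ha', hpa'⟩ := GlauProp.not_dvd_self hp hε₁' hc₁'
    rw [← hψψ] at ha'
    exact h1.inj χ χ' (hST hχ) (hST hχ') ψ a a' ha hpa ha' hpa'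
  · intro β
    obtain ⟨ψ, hψS, n, hn, hpn⟩ := h2.surj β
    obtain ⟨χ, hχT, a, ha, hpa⟩ := h1.surj ψ
    have hχS : InvS S H (χ : H → ℂ) := by
      intro s hs
      show InvElt s H (χ : H → ℂ)
      rw [invElt_iff (hSH s hs)]
      set χ' : IrrCharacter H := ⟨conjChar (hSH s hs) (χ : H → ℂ),
        isIrrCharacter_conjChar (hSH s hs) χ.2⟩ with hχ'
      have hχ'T : InvS T H (χ' : H → ℂ) := by
        intro t ht g g' hg
        show (χ : H → ℂ) (conjE (hSH s hs) g') = (χ : H → ℂ) (conjE (hSH s hs) g)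
        apply hχT (s * t * s⁻¹) (hTn s hs t ht)
        rw [conjE_coe, conjE_coe, hg]
        group
      have hψs : conjChar (hSB s hs) (ψ : B → ℂ) = (ψ : B → ℂ) := by
        funext g
        exact (invElt_iff (hSB s hs) _).1 (hψS s hs) g
      have heq : classInner (fun b : B => (χ' : H → ℂ) ⟨b, hBH b.2⟩) (ψ : B → ℂ) = a := by
        have := classInner_conjChar hBH (hSH s hs) (hSB s hs) (χ : H → ℂ) (ψ : B → ℂ)
        rw [hψs] at this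
        rw [← ha, ← this]
      have hχχ : χ' = χ := h1.inj χ' χ hχ'T hχT ψ a a heq hpa ha hpa
      intro g
      have := congrArg (fun z : IrrCharacter H => (z : H → ℂ) g) hχχ
      exact this
    refine ⟨χ, hχS, ?_⟩
    obtain ⟨ψ₀, ε₁, hε₁, hc₁⟩ := h1.corr χ hχT
    have e1 : ψ = ψ₀ := GlauProp.eq_of_not_dvd hc₁ ha hpa
    obtain ⟨hψS₀, hkey⟩ := glau_key hp hBH hCB hSH hSB χ hχS ψ₀ ε₁ hε₁ hc₁
    obtain ⟨β₀, ε₂, hε₂, hc₂⟩ := h2.corr ψ₀ hψS₀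
    rw [e1] at hn
    have e2 : β = β₀ := GlauProp.eq_of_not_dvd hc₂ hn hpn
    rw [e2]
    exact GlauProp.not_dvd_self hp (pm_mul_pm hε₁ hε₂) (hkey β₀ ε₂ hc₂)

end

end Cfsg.Agent.Lib.Helper8
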