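import Mathlib
import Cfsg.Agent.Lib.Helper8.GA1
import Cfsg.Agent.Lib.Helper8.GL14

/-!
# The Glauberman correspondence of a `p`-group preserves "lying over"
-/

set_option autoImplicit false
set_option linter.unusedSectionVars false

namespace Cfsg.Agent.Lib.Helper8

open Cfsg Cfsg.Agent.Lib.Helper1 Cfsg.Agent.Lib.Helper4
open scoped ComplexConjugate

universe u

section

variable {Γ : Type u} [Group Γ]

/-- The action of a normalising subgroup on the irreducible characters. -/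
@[instance_reducible]
noncomputable def irrAct (P₀ N : Subgroup Γ) (h : ∀ x ∈ P₀, Normalizes x N) :
    MulAction P₀ (IrrCharacter N) where
  smul x φ := ⟨conjChar (h (x : Γ)⁻¹ (P₀.inv_mem x.2)) (φ : N → ℂ),
    isIrrCharacter_conjChar _ φ.2⟩
  one_smul φ := by
    apply Subtype.ext
    funext g
    show (φ : N → ℂ) (conjE _ g) = (φ : N → ℂ) g
    refine congrArg (φ : N → ℂ) (Subtype.ext ?_)
    simp [conjE_coe]
  mul_smul x y φ := by
    apply Subtype.ext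
    funext g
    show (φ : N → ℂ) (conjE _ g) = (φ : N → ℂ) (conjE _ (conjE _ g))
    refine congrArg (φ : N → ℂ) (Subtype.ext ?_)
    simp only [conjE_coe, Subgroup.coe_mul]
    group

theorem irrAct_smul_coe (P₀ N : Subgroup Γ) (h : ∀ x ∈ P₀, Normalizes x N) (x : P₀)
    (φ : IrrCharacter N) :
    ((irrAct P₀ N h).smul x φ : IrrCharacter N) =
      ⟨conjChar (h (x : Γ)⁻¹ (P₀.inv_mem x.2)) (φ : N → ℂ), isIrrCharacter_conjChar _ φ.2⟩ := rfl

theorem irrAct_fixed_iff (P₀ N : Subgroup Γ) (h : ∀ x ∈ P₀, Normalizes x N) (φ : IrrCharacter N) :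
    InvS P₀ N (φ : N → ℂ) ↔ ∀ x : P₀, (irrAct P₀ N h).smul x φ = φ := by
  constructor
  · intro hinv x
    rw [irrAct_smul_coe]
    apply Subtype.ext
    funext g
    show (φ : N → ℂ) (conjE _ g) = (φ : N → ℂ) g
    exact hinv (x : Γ)⁻¹ (P₀.inv_mem x.2) g _ rfl
  · intro hfix s hs g g' hgg
    have h1 := hfix ⟨s⁻¹, P₀.inv_mem hs⟩
    rw [irrAct_smul_coe] at h1
    have h2 := congrArg (fun z : IrrCharacter N => (z : N → ℂ) g) h1
    simp only at h2
    rw [← h2]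
    show (φ : N → ℂ) g' = (φ : N → ℂ) (conjE _ g)
    refine congrArg (φ : N → ℂ) (Subtype.ext ?_)
    rw [hgg, conjE_coe]
    simp

/-- **Lying over is preserved by the `p`-group correspondence.** -/
theorem glau_lying_over {p n : ℕ} [Fact p.Prime] {P₀ G N C D : Subgroup Γ} [Fintype G] [Fintype N]
    [Fintype C] [Fintype D] (hP : Nat.card P₀ = p ^ n)
    (hNG : N ≤ G) (hCG : C ≤ G) (hDN : D ≤ N) (hDC : D ≤ C)
    (hPG : ∀ x ∈ P₀, Normalizes x G) (hPN : ∀ x ∈ P₀, Normalizes x N)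
    (hPD : ∀ x ∈ P₀, ∀ d ∈ D, x * d = d * x)
    (gG : GlauProp p G C hCG (fun χ => InvS P₀ G (χ : G → ℂ)))
    (gN : GlauProp p N D hDN (fun φ => InvS P₀ N (φ : N → ℂ)))
    (χ : IrrCharacter G) (hχ : InvS P₀ G (χ : G → ℂ))
    (θ : IrrCharacter N) (hθ : InvS P₀ N (θ : N → ℂ))
    (ψ : IrrCharacter C) {m : ℕ}
    (hm : classInner (fun c : C => (χ : G → ℂ) ⟨c, hCG c.2⟩) (ψ : C → ℂ) = m) (hpm : ¬ p ∣ m)
    (η : IrrCharacter D) {m' : ℕ}
    (hm' : classInner (fun d : D => (θ : N → ℂ) ⟨d, hDN d.2⟩) (η : D → ℂ) = m') (hpm' : ¬ p ∣ m')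
    {n₁ : ℕ} (hn₁ : classInner (fun d : D => (ψ : C → ℂ) ⟨d, hDC d.2⟩) (η : D → ℂ) = n₁)
    (hpn₁ : ¬ p ∣ n₁) :
    classInner (fun x : N => (χ : G → ℂ) ⟨x, hNG x.2⟩) (θ : N → ℂ) ≠ 0 := by
  classical
  have hp : p.Prime := Fact.out
  haveI : Fintype (IrrCharacter C) := Fintype.ofFinite _
  haveI : Fintype (IrrCharacter N) := Fintype.ofFinite _
  -- the multiplicity `a = [χ_D, η]` through `C`
  obtain ⟨β₀, ε, hε, hc⟩ := gG.corr χ hχ
  have hψβ : ψ = β₀ := GlauProp.eq_of_not_dvd hc hm hpm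
  subst hψβ
  choose mγ hmγ hmγc using hc
  choose bγ hbγ using fun γ : IrrCharacter C => classInner_char_irr_nat
    (isCharacter_comp_hom (isCharacter_of_irr γ.2) (Subgroup.inclusion hDC)) η.2
  have hbψ : bγ ψ = n₁ := by
    have : (bγ ψ : ℂ) = n₁ := by rw [← hbγ ψ, ← hn₁]; rfl
    exact_mod_cast this
  have hI := classInner_restrict_stages hCG hDC (isCharacter_of_irr χ.2) (η : D → ℂ)
  have hI' : classInner (fun c : D => (χ : G → ℂ) ⟨c, (hDC.trans hCG) c.2⟩) (η : D → ℂ) =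
      ((∑ γ : IrrCharacter C, (mγ γ : ℤ) * (bγ γ : ℤ) : ℤ) : ℂ) := by
    rw [hI]
    push_cast
    refine Finset.sum_congr rfl fun γ _ => ?_
    rw [hmγ γ, ← hbγ γ]
    rfl
  have hIc : (∑ γ : IrrCharacter C, (mγ γ : ℤ) * (bγ γ : ℤ)) ≡ ε * n₁ [ZMOD p] := by
    have hsum : (∑ γ : IrrCharacter C, (mγ γ : ℤ) * (bγ γ : ℤ)) ≡
        ∑ γ : IrrCharacter C, (if γ = ψ then ε else 0) * (bγ γ : ℤ) [ZMOD p] := by
      rw [Int.modEq_iff_dvd, ← Finset.sum_sub_distrib]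
      apply Finset.dvd_sum
      intro γ _
      rw [← sub_mul]
      exact Dvd.dvd.mul_right (Int.modEq_iff_dvd.1 (hmγc γ)) _
    refine hsum.trans ?_
    rw [Finset.sum_eq_single ψ (fun γ _ hne => by rw [if_neg hne, zero_mul])
      (fun h => absurd (Finset.mem_univ _) h), if_pos rfl, hbψ]
  -- the multiplicity through `N`
  choose kφ hkφ using fun φ : IrrCharacter N => classInner_char_irr_nat
    (isCharacter_comp_hom (isCharacter_of_irr χ.2) (Subgroup.inclusion hNG)) φ.2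
  choose cφ hcφ using fun φ : IrrCharacter N => classInner_char_irr_nat
    (isCharacter_comp_hom (isCharacter_of_irr φ.2) (Subgroup.inclusion hDN)) η.2
  have hII := classInner_restrict_stages hNG hDN (isCharacter_of_irr χ.2) (η : D → ℂ)
  have hII' : classInner (fun c : D => (χ : G → ℂ) ⟨c, (hDN.trans hNG) c.2⟩) (η : D → ℂ) =
      ((∑ φ : IrrCharacter N, (kφ φ : ℤ) * (cφ φ : ℤ) : ℤ) : ℂ) := by
    rw [hII]
    push_cast
    refine Finset.sum_congr rfl fun φ _ => ?_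
    rw [← hkφ φ, ← hcφ φ]
    rfl
  have heq : (∑ γ : IrrCharacter C, (mγ γ : ℤ) * (bγ γ : ℤ)) =
      ∑ φ : IrrCharacter N, (kφ φ : ℤ) * (cφ φ : ℤ) := by
    have : ((∑ γ : IrrCharacter C, (mγ γ : ℤ) * (bγ γ : ℤ) : ℤ) : ℂ) =
        ((∑ φ : IrrCharacter N, (kφ φ : ℤ) * (cφ φ : ℤ) : ℤ) : ℂ) := by
      rw [← hI', ← hII']
    exact_mod_cast this
  -- the action of `P₀`
  letI act : MulAction P₀ (IrrCharacter N) := irrAct P₀ N hPN
  have hPg : IsPGroup p P₀ := IsPGroup.of_card hP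
  have hinvF : ∀ (x : P₀) (φ : IrrCharacter N),
      (kφ (x • φ) : ℤ) * (cφ (x • φ) : ℤ) = (kφ φ : ℤ) * (cφ φ : ℤ) := by
    intro x φ
    have hx := hPN (x : Γ)⁻¹ (P₀.inv_mem x.2)
    have hxG := hPG (x : Γ)⁻¹ (P₀.inv_mem x.2)
    have e0 : ((x • φ : IrrCharacter N) : N → ℂ) = conjChar hx (φ : N → ℂ) := rfl
    have e1 : kφ (x • φ) = kφ φ := by
      have : (kφ (x • φ) : ℂ) = kφ φ := by
        rw [← hkφ, ← hkφ, e0]
        have h1 := classInner_conjChar hNG hxG hx (χ : G → ℂ) (φ : N → ℂ)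
        have h2 : conjChar hxG (χ : G → ℂ) = (χ : G → ℂ) := by
          funext g
          exact (invElt_iff hxG _).1 (hχ _ (P₀.inv_mem x.2)) g
        rw [h2] at h1
        exact h1
      exact_mod_cast this
    have e2 : cφ (x • φ) = cφ φ := by
      have : (cφ (x • φ) : ℂ) = cφ φ := by
        rw [← hcφ, ← hcφ, e0]
        congr 1
        funext d
        show (φ : N → ℂ) (conjE hx ((Subgroup.inclusion hDN) d)) = (φ : N → ℂ) ((Subgroup.inclusion hDN) d)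
        refine congrArg (φ : N → ℂ) (Subtype.ext ?_)
        rw [conjE_coe]
        show (x : Γ)⁻¹ * (d : Γ) * ((x : Γ)⁻¹)⁻¹ = (d : Γ)
        rw [hPD _ (P₀.inv_mem x.2) d d.2]
        group
      exact_mod_cast this
    rw [e1, e2]
  have hfix : ∀ φ : IrrCharacter N, InvS P₀ N (φ : N → ℂ) ↔ ∀ x : P₀, x • φ = φ :=
    fun φ => irrAct_fixed_iff P₀ N hPN φ
  have hsumfix := sum_modEq_sum_fixedPoints hPg (fun φ : IrrCharacter N => InvS P₀ N (φ : N → ℂ))
    hfix (fun φ => (kφ φ : ℤ) * (cφ φ : ℤ)) hinvF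
  -- the fixed points other than `θ` contribute `0`
  have hother : ∀ φ : IrrCharacter N, InvS P₀ N (φ : N → ℂ) → φ ≠ θ → (cφ φ : ℤ) ≡ 0 [ZMOD p] := by
    intro φ hφ hne
    obtain ⟨βφ, εφ, hεφ, hcφ'⟩ := gN.corr φ hφ
    obtain ⟨mm, hmm, hmmc⟩ := hcφ' η
    have hmmeq : mm = cφ φ := by
      have : (mm : ℂ) = cφ φ := by rw [← hmm, ← hcφ]; rfl
      exact_mod_cast this
    rw [hmmeq] at hmmc
    by_cases hβ : η = βφ
    · exfalso
      rw [if_pos hβ] at hmmc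
      have hnd : ¬ p ∣ cφ φ := not_dvd_of_modEq_pm hp hεφ hmmc
      apply hne
      refine gN.inj φ θ hφ hθ η (cφ φ) m' ?_ hnd hm' hpm'
      rw [← hcφ]
      rfl
    · rw [if_neg hβ] at hmmc
      exact hmmc
  have hcθ : cφ θ = m' := by
    have : (cφ θ : ℂ) = m' := by rw [← hcφ, ← hm']; rfl
    exact_mod_cast this
  have hfixsum : (∑ φ ∈ Finset.univ.filter (fun φ : IrrCharacter N => InvS P₀ N (φ : N → ℂ)),
      (kφ φ : ℤ) * (cφ φ : ℤ)) ≡ (kφ θ : ℤ) * (m' : ℤ) [ZMOD p] := by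
    have h1 : (∑ φ ∈ Finset.univ.filter (fun φ : IrrCharacter N => InvS P₀ N (φ : N → ℂ)),
        (kφ φ : ℤ) * (cφ φ : ℤ)) ≡
        ∑ φ ∈ Finset.univ.filter (fun φ : IrrCharacter N => InvS P₀ N (φ : N → ℂ)),
          (if φ = θ then (kφ θ : ℤ) * (m' : ℤ) else 0) [ZMOD p] := by
      rw [Int.modEq_iff_dvd, ← Finset.sum_sub_distrib]
      apply Finset.dvd_sum
      intro φ hφ
      by_cases hφθ : φ = θ
      · rw [if_pos hφθ, hφθ, hcθ, sub_self]
        exact dvd_zero _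
      · rw [if_neg hφθ, zero_sub, dvd_neg]
        apply Dvd.dvd.mul_left
        exact (Int.modEq_zero_iff_dvd).1 (hother φ (Finset.mem_filter.1 hφ).2 hφθ)
    refine h1.trans ?_
    have hmem : θ ∈ Finset.univ.filter (fun φ : IrrCharacter N => InvS P₀ N (φ : N → ℂ)) :=
      Finset.mem_filter.2 ⟨Finset.mem_univ _, hθ⟩
    rw [Finset.sum_ite_eq', if_pos hmem]
  -- conclusion
  have hfinal : ε * n₁ ≡ (kφ θ : ℤ) * (m' : ℤ) [ZMOD p] := by
    refine hIc.symm.trans ?_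
    rw [heq]
    exact hsumfix.trans hfixsum
  intro h0
  have hk0 : kφ θ = 0 := by
    have : (kφ θ : ℂ) = 0 := by rw [← hkφ, ← h0]; rfl
    exact_mod_cast this
  rw [hk0, Nat.cast_zero, zero_mul] at hfinal
  have hd : (p : ℤ) ∣ ε * n₁ := (Int.modEq_zero_iff_dvd).1 hfinal
  have hd' : (p : ℤ) ∣ (n₁ : ℤ) := by
    rcases hε with h | h
    · rwa [h, one_mul] at hd
    · rw [h, neg_one_mul, dvd_neg] at hd
      exact hd
  exact hpn₁ (by exact_mod_cast hd')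

end

end Cfsg.Agent.Lib.Helper8
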