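import Mathlib
import Cfsg.Prelude.Def_Characters
import Cfsg.Agent.Lib.Helper8.GL1

/-!
# Summing a class function over a generating coset of a coprime cyclic extension
-/

set_option autoImplicit false

namespace Cfsg.Agent.Lib.Helper8

open Cfsg

universe u

section

variable {Γ : Type u} [Group Γ] [Fintype Γ] {G : Subgroup Γ} {s : Γ}

open Classical in
theorem sum_subgroup_eq_sum_ite (H : Subgroup Γ) [Fintype H] (F : Γ → ℂ) :
    ∑ y : H, F (y : Γ) = ∑ x : Γ, if x ∈ H then F x else 0 := by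
  rw [← Finset.sum_filter]
  symm
  convert Finset.sum_subtype (Finset.univ.filter (· ∈ H)) (p := (· ∈ H)) (by simp) F

open Classical in
theorem CycSetup.card_filter_conj_into [G.Normal] (h : CycSetup G s) {x : Γ}
    (hx : x * s⁻¹ ∈ G) :
    (Finset.univ.filter (fun g : Γ => g ∈ G ∧ g⁻¹ * x * g * s⁻¹ ∈ fixC G s)).card
      = Nat.card (fixC G s) := by
  rw [← h.card_conj_into hx, ← Fintype.card_subtype, ← Nat.card_eq_fintype_card]
  exact Nat.card_congr (Equiv.subtypeSubtypeEquivSubtypeInter (fun g : Γ => g ∈ G)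
    (fun g : Γ => g⁻¹ * x * g * s⁻¹ ∈ fixC G s)).symm

open Classical in
/-- Summing a class function over the coset `G s`: only the elements `c s` with `c ∈ C_G(s)`
matter, each with weight `|G| / |C_G(s)|`. -/
theorem CycSetup.coset_sum_ite [G.Normal] (h : CycSetup G s) {f : Γ → ℂ}
    (hf : IsClassFunction Γ f) :
    (Nat.card (fixC G s) : ℂ) * ∑ x : Γ, (if x * s⁻¹ ∈ G then f x else 0)
      = (Nat.card G : ℂ) * ∑ x : Γ, (if x * s⁻¹ ∈ fixC G s then f x else 0) := by
  have hnorm : ∀ {g y : Γ}, g ∈ G → (g⁻¹ * y * g * s⁻¹ ∈ G ↔ y * s⁻¹ ∈ G) := by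
    intro g y hg
    have h1 : g⁻¹ * y * g * s⁻¹ = g⁻¹ * (y * s⁻¹) * (s * g * s⁻¹) := by group
    have h2 : s * g * s⁻¹ ∈ G := (inferInstance : G.Normal).conj_mem g hg s
    rw [h1]
    constructor
    · intro h3
      have h4 := G.mul_mem (G.mul_mem hg h3) (G.inv_mem h2)
      have : g * (g⁻¹ * (y * s⁻¹) * (s * g * s⁻¹)) * (s * g * s⁻¹)⁻¹ = y * s⁻¹ := by group
      rwa [this] at h4
    · intro h3
      exact G.mul_mem (G.mul_mem (G.inv_mem hg) h3) h2
  -- step 1
  have e1 : (Nat.card (fixC G s) : ℂ) * ∑ x : Γ, (if x * s⁻¹ ∈ G then f x else 0)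
      = ∑ x : Γ, ∑ g : Γ, (if g ∈ G ∧ g⁻¹ * x * g * s⁻¹ ∈ fixC G s then f x else 0) := by
    rw [Finset.mul_sum]
    refine Finset.sum_congr rfl fun x _ => ?_
    by_cases hx : x * s⁻¹ ∈ G
    · rw [if_pos hx, ← Finset.sum_filter, Finset.sum_const, h.card_filter_conj_into hx,
        nsmul_eq_mul]
    · rw [if_neg hx, mul_zero]
      symm
      apply Finset.sum_eq_zero
      intro g _
      rw [if_neg]
      rintro ⟨hg, hgc⟩
      exact hx ((hnorm hg).1 (mem_fixC_iff.1 hgc).1)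
  rw [e1, Finset.sum_comm]
  have e2 : ∀ g : Γ, ∑ x : Γ, (if g ∈ G ∧ g⁻¹ * x * g * s⁻¹ ∈ fixC G s then f x else 0)
      = if g ∈ G then ∑ x : Γ, (if x * s⁻¹ ∈ fixC G s then f x else 0) else 0 := by
    intro g
    by_cases hg : g ∈ G
    · rw [if_pos hg]
      have h3 := Equiv.sum_comp (MulAut.conj g⁻¹).toEquiv
        (fun x : Γ => if x * s⁻¹ ∈ fixC G s then f x else 0)
      rw [← h3]
      refine Finset.sum_congr rfl fun x _ => ?_
      simp only [MulEquiv.toEquiv_eq_coe, MulEquiv.coe_toEquiv, MulAut.conj_apply, inv_inv]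
      have h5 : f (g⁻¹ * x * g) = f x := by
        have := hf x g⁻¹
        rwa [inv_inv] at this
      rw [h5]
      simp [hg]
    · rw [if_neg hg]
      apply Finset.sum_eq_zero
      intro x _
      rw [if_neg]
      exact fun h4 => hg h4.1
  rw [Finset.sum_congr rfl fun g _ => e2 g, ← Finset.sum_filter, Finset.sum_const,
    nsmul_eq_mul]
  congr 2
  rw [← Fintype.card_subtype, ← Nat.card_eq_fintype_card]

open Classical in
theorem sum_coset_eq_sum_ite (H : Subgroup Γ) [Fintype H] (s : Γ) (f : Γ → ℂ) :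
    ∑ y : H, f ((y : Γ) * s) = ∑ x : Γ, (if x * s⁻¹ ∈ H then f x else 0) := by
  rw [sum_subgroup_eq_sum_ite H (fun x => f (x * s))]
  have h3 := Equiv.sum_comp (Equiv.mulRight s) (fun x : Γ => if x * s⁻¹ ∈ H then f x else 0)
  rw [← h3]
  refine Finset.sum_congr rfl fun x _ => ?_
  simp

/-- Summing a class function over the coset `G s`, subtype form. -/
theorem CycSetup.coset_sum [G.Normal] (h : CycSetup G s) [Fintype G] [Fintype (fixC G s)]
    {f : Γ → ℂ} (hf : IsClassFunction Γ f) :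
    (Nat.card (fixC G s) : ℂ) * ∑ y : G, f ((y : Γ) * s)
      = (Nat.card G : ℂ) * ∑ c : fixC G s, f ((c : Γ) * s) := by
  rw [sum_coset_eq_sum_ite G s f, sum_coset_eq_sum_ite (fixC G s) s f]
  exact h.coset_sum_ite hf

end

end Cfsg.Agent.Lib.Helper8
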