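import Mathlib
import Cfsg.Prelude.Def_Characters
import Cfsg.Agent.Lib.Helper8.GL2
import Cfsg.Agent.Lib.Helper4.Characters
import Cfsg.Agent.S0868

/-!
# Orthogonality of the coset functions `c ↦ χ̂ (c s)` on `C_G(s)`
-/

set_option autoImplicit false
set_option linter.unusedSectionVars false

namespace Cfsg.Agent.Lib.Helper8

open Cfsg
open scoped ComplexConjugate
open Cfsg.Agent.Lib.Helper1 Cfsg.Agent.Lib.Helper4

universe u

section

variable {Γ : Type u} [Group Γ] [Fintype Γ] {G : Subgroup Γ} {s : Γ}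

/-- The function `c ↦ ψ (c s)` on `C_G(s)`. -/
def cosetFn (G : Subgroup Γ) (s : Γ) (ψ : Γ → ℂ) : fixC G s → ℂ := fun c => ψ ((c : Γ) * s)

theorem cosetFn_apply (ψ : Γ → ℂ) (c : fixC G s) : cosetFn G s ψ c = ψ ((c : Γ) * s) := rfl

theorem isClassFunction_mul_conj {ψ χ : Γ → ℂ} (hψ : IsClassFunction Γ ψ)
    (hχ : IsClassFunction Γ χ) : IsClassFunction Γ (fun x => ψ x * conj (χ x)) := by
  intro g h
  simp only
  rw [hψ g h, hχ g h]

theorem CycSetup.classInner_cosetFn [G.Normal] (h : CycSetup G s) [Fintype G]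
    [Fintype (fixC G s)] {ψ χ : Γ → ℂ} (hψ : IsClassFunction Γ ψ) (hχ : IsClassFunction Γ χ) :
    classInner (cosetFn G s ψ) (cosetFn G s χ)
      = (Nat.card G : ℂ)⁻¹ * ∑ y : G, ψ ((y : Γ) * s) * conj (χ ((y : Γ) * s)) := by
  have h1 := h.coset_sum (isClassFunction_mul_conj hψ hχ)
  have hG0 : (Nat.card G : ℂ) ≠ 0 := Nat.cast_ne_zero.2 Nat.card_pos.ne'
  have hC0 : (Nat.card (fixC G s) : ℂ) ≠ 0 := Nat.cast_ne_zero.2 Nat.card_pos.ne'
  unfold classInner
  simp only [cosetFn_apply]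
  generalize (∑ y : G, ψ ((y : Γ) * s) * conj (χ ((y : Γ) * s))) = A at h1 ⊢
  generalize (∑ c : fixC G s, ψ ((c : Γ) * s) * conj (χ ((c : Γ) * s))) = B at h1 ⊢
  field_simp
  linear_combination (-1 : ℂ) * h1

theorem CycSetup.classInner_cosetFn_self [G.Normal] (h : CycSetup G s) [Fintype G]
    [Fintype (fixC G s)] {χ : Γ → ℂ} (hχ : IsIrrCharacter Γ χ)
    (hres : IsIrrCharacter G (fun g : G => χ g)) :
    classInner (cosetFn G s χ) (cosetFn G s χ) = 1 := by
  rw [h.classInner_cosetFn (isClassFunction_irr hχ) (isClassFunction_irr hχ)]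
  have h1 := (Cfsg.Agent.S0868.result G χ hχ hres χ hχ _ rfl).2.2 rfl
  exact congrFun h1 s

theorem CycSetup.classInner_cosetFn_of_orth [G.Normal] (h : CycSetup G s) [Fintype G]
    [Fintype (fixC G s)] {ψ χ : Γ → ℂ} (hψ : IsIrrCharacter Γ ψ) (hχ : IsIrrCharacter Γ χ)
    (hres : IsIrrCharacter G (fun g : G => χ g))
    (horth : classInner (fun g : G => ψ g) (fun g : G => χ g) = 0) :
    classInner (cosetFn G s ψ) (cosetFn G s χ) = 0 := by
  rw [h.classInner_cosetFn (isClassFunction_irr hψ) (isClassFunction_irr hχ)]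
  have h1 := (Cfsg.Agent.S0868.result G χ hχ hres ψ hψ _ rfl).2.1 horth
  exact congrFun h1 s

end

end Cfsg.Agent.Lib.Helper8
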