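import Mathlib
import Cfsg.Prelude.Def_Characters
import Cfsg.Agent.Lib.Helper1.CharFound6
import Cfsg.Agent.Lib.Helper1.LinearChar
import Cfsg.Agent.Lib.Helper8.GL2
import Cfsg.Agent.Lib.Helper8.BlockUnion
import Cfsg.Agent.S0148

/-!
# Galois-stable characters are integer valued
-/

set_option autoImplicit false
set_option linter.unusedSectionVars false

namespace Cfsg.Agent.Lib.Helper8

open Cfsg
open scoped ComplexConjugate
open Cfsg.Agent.Lib.Helper1 Cfsg.Agent.Lib.Helper4

universe u

/-- The rational numbers inside `ℂ`. -/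
noncomputable def ratC : Subfield ℂ := (algebraMap ℚ ℂ).fieldRange

theorem natCast_mem_ratC (n : ℕ) : (n : ℂ) ∈ ratC := natCast_mem ratC n

theorem isTrivIrr (A : Type u) [Group A] : IsIrrCharacter A (fun _ : A => (1 : ℂ)) := by
  have := isIrrCharacter_of_hom (1 : A →* ℂˣ)
  simpa using this

theorem rat_of_galois_stable_aux (n : ℕ) : ∀ (A : Type u) [Group A] [Fintype A] (f : A → ℂ),
    IsCharacter A f → ∀ x : A, orderOf x = n →
    (∀ y ∈ Subgroup.zpowers x, ∀ t : ℕ, t.Coprime (orderOf y) → f (y ^ t) = f y) →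
    f x ∈ ratC := by
  induction n using Nat.strong_induction_on with
  | _ n ih =>
  intro A _ _ f hf x hx hstab
  classical
  haveI : Fintype (Subgroup.zpowers x) := Fintype.ofFinite _
  have hn0 : 0 < n := by rw [← hx]; exact orderOf_pos x
  -- the sum over the cyclic group
  have hfZ : IsCharacter (Subgroup.zpowers x) (fun z : Subgroup.zpowers x => f z) :=
    Cfsg.Agent.S0148.isCharacter_restrict _ hf
  obtain ⟨m, hm⟩ := classInner_char_irr_nat hfZ (isTrivIrr (Subgroup.zpowers x))
  have hsum : ∑ z : Subgroup.zpowers x, f z = (n : ℂ) * m := by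
    rw [← hm]
    unfold classInner
    have hc : (Nat.card (Subgroup.zpowers x) : ℂ) = n := by rw [Nat.card_zpowers, hx]
    have hn0' : (n : ℂ) ≠ 0 := Nat.cast_ne_zero.2 hn0.ne'
    rw [hc]
    simp only [map_one, mul_one]
    field_simp
  rw [sum_subgroup_eq_sum_ite (Subgroup.zpowers x) f] at hsum
  -- split
  have hsplit : ∑ y : A, (if y ∈ Subgroup.zpowers x then f y else 0)
      = ∑ y : A, (if y ∈ Subgroup.zpowers x ∧ orderOf y = n then f x else 0)
        + ∑ y : A, (if y ∈ Subgroup.zpowers x ∧ orderOf y ≠ n then f y else 0) := by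
    rw [← Finset.sum_add_distrib]
    refine Finset.sum_congr rfl fun y _ => ?_
    by_cases hy : y ∈ Subgroup.zpowers x
    · by_cases ho : orderOf y = n
      · rw [if_pos hy, if_pos ⟨hy, ho⟩, if_neg (fun h => h.2 ho), add_zero]
        -- f y = f x
        obtain ⟨i, rfl⟩ := Subgroup.mem_zpowers_iff.1 hy
        have h1 : x ^ i = x ^ (i % (n : ℤ)).toNat := by
          have h2 : (0 : ℤ) ≤ i % (n : ℤ) := Int.emod_nonneg _ (by exact_mod_cast hn0.ne')
          rw [← zpow_natCast, Int.toNat_of_nonneg h2, ← hx, zpow_mod_orderOf]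
        rw [h1] at ho ⊢
        apply hstab x (Subgroup.mem_zpowers x)
        rw [orderOf_pow, hx] at ho
        rw [hx]
        have h3 : n.gcd (i % (n : ℤ)).toNat ∣ n := Nat.gcd_dvd_left _ _
        have h4 := Nat.div_mul_cancel h3
        rw [ho] at h4
        have h5 : n.gcd (i % (n : ℤ)).toNat = 1 := by
          have : n * n.gcd (i % (n : ℤ)).toNat = n * 1 := by rw [h4, mul_one]
          exact Nat.eq_of_mul_eq_mul_left hn0 this
        exact (Nat.coprime_comm.1 h5)
      · rw [if_pos hy, if_neg (fun h => ho h.2), if_pos ⟨hy, ho⟩, zero_add]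
    · rw [if_neg hy, if_neg (fun h => hy h.1), if_neg (fun h => hy h.1), add_zero]
  rw [hsplit] at hsum
  -- the second sum is rational
  have hsecond : ∑ y : A, (if y ∈ Subgroup.zpowers x ∧ orderOf y ≠ n then f y else 0) ∈ ratC := by
    apply sum_mem
    intro y _
    split_ifs with hy
    · have hdvd : orderOf y ∣ n := by
        rw [← hx]
        obtain ⟨i, rfl⟩ := Subgroup.mem_zpowers_iff.1 hy.1
        exact orderOf_dvd_of_pow_eq_one (by rw [← zpow_natCast, ← zpow_mul, mul_comm, zpow_mul,
          zpow_natCast, pow_orderOf_eq_one, one_zpow])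
      have hlt : orderOf y < n := lt_of_le_of_ne (Nat.le_of_dvd hn0 hdvd) hy.2
      apply ih (orderOf y) hlt A f hf y rfl
      intro y' hy' t ht
      apply hstab y' _ t ht
      exact (Subgroup.zpowers_le.2 hy.1) hy'
    · exact zero_mem _
  -- the first sum
  have hfirst : ∑ y : A, (if y ∈ Subgroup.zpowers x ∧ orderOf y = n then f x else 0)
      = ((Finset.univ.filter (fun y : A => y ∈ Subgroup.zpowers x ∧ orderOf y = n)).card : ℂ)
        * f x := by
    rw [← Finset.sum_filter, Finset.sum_const, nsmul_eq_mul]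
  rw [hfirst] at hsum
  have hg : ((Finset.univ.filter (fun y : A => y ∈ Subgroup.zpowers x ∧ orderOf y = n)).card : ℂ)
      ≠ 0 := by
    apply Nat.cast_ne_zero.2
    apply Finset.card_ne_zero.2
    exact ⟨x, by simp [hx]⟩
  have h6 : f x = ((n : ℂ) * m -
      ∑ y : A, (if y ∈ Subgroup.zpowers x ∧ orderOf y ≠ n then f y else 0)) /
      ((Finset.univ.filter (fun y : A => y ∈ Subgroup.zpowers x ∧ orderOf y = n)).card : ℂ) := by
    rw [← hsum]
    field_simp
    ring
  rw [h6]
  apply div_mem
  · exact sub_mem (mul_mem (natCast_mem_ratC n) (natCast_mem_ratC m)) hsecond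
  · exact natCast_mem_ratC _

/-- A character all of whose values are stable under the Galois action is integer valued. -/
theorem int_of_galois_stable {A : Type u} [Group A] [Fintype A] {f : A → ℂ}
    (hf : IsCharacter A f)
    (hstab : ∀ y : A, ∀ t : ℕ, t.Coprime (orderOf y) → f (y ^ t) = f y) (x : A) :
    ∃ a : ℤ, f x = a := by
  have h1 := rat_of_galois_stable_aux (orderOf x) A f hf x rfl (fun y _ t ht => hstab y t ht)
  obtain ⟨q, hq⟩ := h1
  have h2 : IsIntegral ℤ (f x) := isIntegral_char_apply hf x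
  rw [← hq, isIntegral_algebraMap_iff (algebraMap ℚ ℂ).injective] at h2
  obtain ⟨a, ha⟩ := IsIntegrallyClosed.isIntegral_iff.1 h2
  refine ⟨a, ?_⟩
  rw [← hq, ← ha]
  simp

end Cfsg.Agent.Lib.Helper8
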