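import Mathlib
import Cfsg.Prelude.Def_Characters
import Cfsg.Prelude.Def_CharExt
import Cfsg.Agent.Lib.Helper8.GL3
import Cfsg.Agent.Lib.Helper8.GL4
import Cfsg.Agent.Lib.Helper8.GL5
import Cfsg.Agent.Lib.Helper8.GL6
import Cfsg.Agent.Lib.Helper4.VirtualChar

/-!
# The cyclic case of the Glauberman correspondence: `χ̂ (c s) = ε β (c)`
-/

set_option autoImplicit false
set_option linter.unusedSectionVars false

namespace Cfsg.Agent.Lib.Helper8

open Cfsg
open scoped ComplexConjugate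
open Cfsg.Agent.Lib.Helper1 Cfsg.Agent.Lib.Helper4

universe u

theorem exists_galois_exp {m n d t : ℕ} (hmn : m.Coprime n) (hd : d ∣ n) (hn : 0 < n)
    (ht : t.Coprime d) : ∃ k, k ≡ 1 [MOD m] ∧ k ≡ t [MOD d] ∧ k.Coprime (m * n) := by
  haveI : NeZero n := ⟨hn.ne'⟩
  obtain ⟨u', hu'⟩ := ZMod.unitsMap_surjective hd (ZMod.unitOfCoprime t ht)
  have ht'cop : ((u' : ZMod n).val).Coprime n := ZMod.val_coe_unit_coprime u'
  have ht'mod : (u' : ZMod n).val ≡ t [MOD d] := by
    rw [← ZMod.natCast_eq_natCast_iff]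
    have h1 := congrArg Units.val hu'
    rw [ZMod.unitsMap_val, ZMod.coe_unitOfCoprime] at h1
    rw [← h1, ZMod.natCast_val]
  obtain ⟨k, hk1, hk2⟩ := Nat.chineseRemainder hmn 1 (u' : ZMod n).val
  refine ⟨k, hk1, (hk2.of_dvd hd).trans ht'mod, ?_⟩
  apply Nat.Coprime.mul_right
  · have := hk1.gcd_eq
    rw [Nat.gcd_one_left] at this
    exact this
  · have := hk2.gcd_eq
    rw [ht'cop] at this
    exact this

section PM

variable {C : Type u} [Group C] [Fintype C]

/-- A class function of norm one with integral multiplicities is `±` an irreducible character. -/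
theorem pm_irr_of_int_mult {f : C → ℂ} (hf : IsClassFunction C f)
    (hint : ∀ β : IrrCharacter C, ∃ a : ℤ, classInner f (β : C → ℂ) = a)
    (h1 : classInner f f = 1) :
    ∃ β : IrrCharacter C, ∃ ε : ℤ, (ε = 1 ∨ ε = -1) ∧ (f = fun c => (ε : ℂ) * (β : C → ℂ) c) ∧
      ∀ γ : IrrCharacter C, classInner f (γ : C → ℂ) = if γ = β then (ε : ℂ) else 0 := by
  classical
  haveI : Fintype (IrrCharacter C) := Fintype.ofFinite _
  choose m hm using hint
  have hn : classInner f f = ((∑ χ : IrrCharacter C, m χ * m χ : ℤ) : ℂ) := by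
    rw [classInner_eq_sum_mult f f hf]
    push_cast
    refine Finset.sum_congr rfl fun χ _ => ?_
    rw [classInner_int_symm (hm χ), hm χ]
  rw [h1] at hn
  have hsum : ∑ χ : IrrCharacter C, m χ * m χ = 1 := by exact_mod_cast hn.symm
  obtain ⟨β, h0, hrest⟩ := int_sq_sum_one m hsum
  have hexp := class_function_expansion f hf
  rw [Finset.sum_eq_single β (fun χ _ hne => by rw [hm χ, hrest χ hne]; simp)
    (fun h => absurd (Finset.mem_univ _) h)] at hexp
  refine ⟨β, m β, h0, ?_, ?_⟩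
  · conv_lhs => rw [hexp]
    funext c
    rw [Pi.smul_apply, smul_eq_mul, hm β]
  · intro γ
    split_ifs with hγ
    · rw [hγ, hm β]
    · rw [hm γ, hrest γ hγ]
      simp

end PM

section

variable {Γ : Type u} [Group Γ] [Fintype Γ] {G : Subgroup Γ} {s : Γ}

theorem commute_fixC_zpowers (c : fixC G s) (z : Subgroup.zpowers s) :
    Commute (c : Γ) (z : Γ) := by
  obtain ⟨i, hi⟩ := Subgroup.mem_zpowers_iff.1 z.2
  rw [← hi]
  apply Commute.zpow_right
  exact (mem_fixC_iff.1 c.2).2.symm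

/-- The product map `C_G(s) × ⟨s⟩ → Γ`. -/
noncomputable def prodHom (G : Subgroup Γ) (s : Γ) :
    (fixC G s) × (Subgroup.zpowers s) →* Γ :=
  MonoidHom.noncommCoprod (fixC G s).subtype (Subgroup.zpowers s).subtype
    (fun c z => commute_fixC_zpowers c z)

theorem prodHom_apply (c : fixC G s) (z : Subgroup.zpowers s) :
    prodHom G s (c, z) = (c : Γ) * (z : Γ) := rfl

/-- The multiplicity function on `⟨s⟩`. -/
noncomputable def multFn (G : Subgroup Γ) (s : Γ) [Fintype (fixC G s)] (χ : Γ → ℂ)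
    (β : fixC G s → ℂ) : Subgroup.zpowers s → ℂ :=
  fun z => classInner (fun c : fixC G s => χ ((c : Γ) * (z : Γ))) β

theorem multFn_gen [Fintype (fixC G s)] (χ : Γ → ℂ) (β : fixC G s → ℂ) :
    multFn G s χ β ⟨s, Subgroup.mem_zpowers s⟩ = classInner (cosetFn G s χ) β := rfl

theorem isCharacter_multFn [Fintype (fixC G s)] {χ : Γ → ℂ} (hχ : IsCharacter Γ χ)
    {β : fixC G s → ℂ} (hβ : IsIrrCharacter (fixC G s) β) :
    IsCharacter (Subgroup.zpowers s) (multFn G s χ β) := by
  haveI : Fintype (Subgroup.zpowers s) := Fintype.ofFinite _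
  exact isCharacter_mult_fn (fun a b => mul_comm' a b)
    (Ψ := fun p => χ (prodHom G s p)) (isCharacter_comp_hom hχ (prodHom G s)) hβ

theorem multFn_stable [G.Normal] (h : CycSetup G s) [Fintype (fixC G s)] {χh : Γ → ℂ}
    (hχh : IsIrrCharacter Γ χh) (hres : IsIrrCharacter G (fun g : G => χh g))
    (hdet : (detOrder χh).Coprime (orderOf s)) (β : fixC G s → ℂ)
    (z : Subgroup.zpowers s) (t : ℕ) (ht : t.Coprime (orderOf z)) :
    multFn G s χh β (z ^ t) = multFn G s χh β z := by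
  unfold multFn
  congr 1
  funext c
  have hzd : orderOf (z : Γ) ∣ orderOf s := orderOf_dvd_of_mem_zpowers z.2
  rw [← Subgroup.orderOf_coe] at ht
  obtain ⟨k, hk1, hk2, hk3⟩ := exists_galois_exp h.cop hzd (orderOf_pos s) ht
  rw [h.card_eq] at hk3
  have hcop' : (Nat.card G).Coprime G.index := by rw [h.index_eq]; exact h.cop
  have hdet' : (detOrder χh).Coprime G.index := by rw [h.index_eq]; exact hdet
  have hpow := canonical_powFn_eq G hχh hres hcop' hdet' hk3 hk1
  have h1 : χh ((c : Γ) * (z : Γ)) = χh (((c : Γ) * (z : Γ)) ^ k) := by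
    conv_lhs => rw [← hpow]
    rfl
  rw [h1, (commute_fixC_zpowers c z).mul_pow]
  have h2 : (c : Γ) ^ k = c := by
    apply pow_eq_self_of_modEq
    apply Nat.ModEq.of_dvd _ hk1
    have hcG : (c : Γ) ∈ G := (mem_fixC_iff.1 c.2).1
    have : orderOf (⟨(c : Γ), hcG⟩ : G) ∣ Nat.card G := orderOf_dvd_natCard _
    rwa [← Subgroup.orderOf_coe] at this
  have h3 : (z : Γ) ^ k = (z : Γ) ^ t := pow_eq_pow_iff_modEq.2 hk2
  rw [h2, h3]
  rfl

theorem isClassFunction_cosetFn {χ : Γ → ℂ} (hχ : IsClassFunction Γ χ) :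
    IsClassFunction (fixC G s) (cosetFn G s χ) := by
  intro c c'
  rw [cosetFn_apply, cosetFn_apply]
  have h1 : ((c' * c * c'⁻¹ : fixC G s) : Γ) * s = (c' : Γ) * ((c : Γ) * s) * (c' : Γ)⁻¹ := by
    have h2 : s * (c' : Γ)⁻¹ = (c' : Γ)⁻¹ * s := by
      have := (mem_fixC_iff.1 (Subgroup.inv_mem _ c'.2)).2
      exact this
    push_cast
    calc (c' : Γ) * c * (c' : Γ)⁻¹ * s = (c' : Γ) * c * ((c' : Γ)⁻¹ * s) := by group
      _ = (c' : Γ) * c * (s * (c' : Γ)⁻¹) := by rw [h2]
      _ = _ := by group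
  rw [h1, hχ]

/-- Isaacs, Theorem 13.6 (main part): on `C_G(s) s` the canonical extension is `±` an irreducible
character of `C_G(s)`. -/
theorem cyc_main [G.Normal] (h : CycSetup G s) [Fintype G] [Fintype (fixC G s)] {χh : Γ → ℂ}
    (hχh : IsIrrCharacter Γ χh) (hres : IsIrrCharacter G (fun g : G => χh g))
    (hdet : (detOrder χh).Coprime (orderOf s)) :
    ∃ β : IrrCharacter (fixC G s), ∃ ε : ℤ, (ε = 1 ∨ ε = -1) ∧
      (cosetFn G s χh = fun c => (ε : ℂ) * (β : fixC G s → ℂ) c) ∧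
      ∀ γ : IrrCharacter (fixC G s), classInner (cosetFn G s χh) (γ : fixC G s → ℂ) =
        if γ = β then (ε : ℂ) else 0 := by
  haveI : Fintype (Subgroup.zpowers s) := Fintype.ofFinite _
  apply pm_irr_of_int_mult (isClassFunction_cosetFn (isClassFunction_irr hχh))
  · intro β
    rw [← multFn_gen]
    exact int_of_galois_stable (isCharacter_multFn (isCharacter_of_irr hχh) β.2)
      (fun z t ht => multFn_stable h hχh hres hdet _ z t ht) _
  · exact h.classInner_cosetFn_self hχh hres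

end

end Cfsg.Agent.Lib.Helper8
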