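import Mathlib
import Cfsg.Prelude.Def_Characters
import Cfsg.Prelude.Def_CharExt
import Cfsg.Prelude.Def_Blocks
import Cfsg.Agent.Lib.Helper8.GL7
import Cfsg.Agent.Lib.Helper8.CharPPart
import Cfsg.Agent.Lib.Helper8.TildeBlock
import Cfsg.Agent.Lib.Helper4.CharBound

/-!
# The cyclic case of the Glauberman correspondence: multiplicities in the restriction
-/

set_option autoImplicit false
set_option linter.unusedSectionVars false

namespace Cfsg.Agent.Lib.Helper8

open Cfsg
open scoped ComplexConjugate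
open Cfsg.Agent.Lib.Helper1 Cfsg.Agent.Lib.Helper4

universe u

section

variable {Γ : Type u} [Group Γ] [Fintype Γ] {G : Subgroup Γ} {s : Γ}

theorem multFn_one [Fintype (fixC G s)] (χ : Γ → ℂ) (β : fixC G s → ℂ) :
    multFn G s χ β 1 = classInner (fun c : fixC G s => χ (c : Γ)) β := by
  unfold multFn
  congr 1
  funext c
  rw [Subgroup.coe_one, mul_one]

/-- If the coset function of `χ` involves `β`, then `β` is a constituent of the restriction. -/
theorem restrict_mult_ne_zero [Fintype (fixC G s)] {χ : Γ → ℂ} (hχ : IsCharacter Γ χ)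
    {β : fixC G s → ℂ} (hβ : IsIrrCharacter (fixC G s) β)
    (hne : classInner (cosetFn G s χ) β ≠ 0) :
    classInner (fun c : fixC G s => χ (c : Γ)) β ≠ 0 := by
  intro h0
  rw [← multFn_one] at h0
  rw [← multFn_gen] at hne
  have hΦ := isCharacter_multFn (G := G) (s := s) hχ hβ
  have h1 := isCharacter_norm_le hΦ ⟨s, Subgroup.mem_zpowers s⟩
  rw [h0, Complex.zero_re] at h1
  exact hne (norm_le_zero_iff.1 h1)

/-- When `s` has `p`-power order, the multiplicity of `γ` in the restriction is congruent modulo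
`p` to the (integral) multiplicity of `γ` in the coset function. -/
theorem restrict_mult_congr [Fintype (fixC G s)] {p j : ℕ} (hp : p.Prime)
    (hs : orderOf s = p ^ j) {χ : Γ → ℂ} (hχ : IsCharacter Γ χ)
    {γ : fixC G s → ℂ} (hγ : IsIrrCharacter (fixC G s) γ) {a : ℤ}
    (ha : classInner (cosetFn G s χ) γ = a) :
    ∃ m : ℕ, classInner (fun c : fixC G s => χ (c : Γ)) γ = m ∧ (m : ℤ) ≡ a [ZMOD p] := by
  haveI : Fact p.Prime := ⟨hp⟩
  obtain ⟨M, hM⟩ := exists_isPModular p
  have hΦ := isCharacter_multFn (G := G) (s := s) hχ hγ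
  obtain ⟨m, hm⟩ := isCharacter_apply_one hΦ
  refine ⟨m, by rw [← multFn_one, hm], ?_⟩
  have hpow : (⟨s, Subgroup.mem_zpowers s⟩ : Subgroup.zpowers s) ^ (p ^ j) = 1 := by
    apply Subtype.ext
    rw [Subgroup.coe_pow, Subgroup.coe_one, ← hs]
    exact pow_orderOf_eq_one s
  have h1 := memLocalIdeal_char_mul_sub hM hΦ ⟨s, Subgroup.mem_zpowers s⟩ 1 j hpow
    (by rw [mul_one, one_mul])
  rw [mul_one, multFn_gen, ha, hm] at h1
  have h2 : ((a : ℂ) - (m : ℂ)) = ((a - (m : ℤ) : ℤ) : ℂ) := by push_cast; ring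
  rw [h2, memLocalIdeal_intCast_iff hM] at h1
  exact (Int.modEq_iff_dvd.2 h1)

end

end Cfsg.Agent.Lib.Helper8
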