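import Mathlib
import Cfsg.Prelude.Def_Characters
import Cfsg.Agent.Lib.Helper8.GL2
import Cfsg.Agent.Lib.Helper4.Gallagher
import Cfsg.Agent.Lib.Helper1.CharFound6
import Cfsg.Agent.S0856
import Cfsg.Agent.S0146
import Cfsg.Agent.S0148

/-!
# Irreducible characters of a cyclic extension: restriction and extensions
-/

set_option autoImplicit false
set_option linter.unusedSectionVars false

namespace Cfsg.Agent.Lib.Helper8

open Cfsg
open scoped ComplexConjugate
open Cfsg.Agent.Lib.Helper1 Cfsg.Agent.Lib.Helper4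

universe u

section Ext

variable {Γ : Type u} [Group Γ] [Fintype Γ]

/-- Two irreducible extensions of the same irreducible character of a normal subgroup differ by a
linear character of the quotient (Gallagher). -/
theorem exists_hom_mul_of_extend (N : Subgroup Γ) [hNn : N.Normal] {θ : N → ℂ}
    (hθ : IsIrrCharacter N θ) {η η' : Γ → ℂ} (hη : IsIrrCharacter Γ η)
    (hη' : IsIrrCharacter Γ η') (hηN : ∀ n : N, η n = θ n) (hη'N : ∀ n : N, η' n = θ n) :
    ∃ φ : Γ →* ℂˣ, (∀ n : N, φ (n : Γ) = 1) ∧ η' = fun g => ((φ g : ℂˣ) : ℂ) * η g := by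
  classical
  haveI : Fintype N := Fintype.ofFinite N
  have h1irr : IsIrrCharacter N (fun _ : N => (1:ℂ)) := by
    have := isIrrCharacter_of_hom (1 : N →* ℂˣ)
    simpa using this
  have hθinv : ∀ (g : Γ) (n : N), θ ⟨g * n * g⁻¹, hNn.conj_mem (n : Γ) n.2 g⟩ = θ n := by
    intro g n
    rw [← hηN, ← hηN]
    exact isClassFunction_irr hη _ _
  have hone : ((fun _ : N => (1:ℂ)) * θ) = θ := by
    funext n; simp
  have hprod : IsIrrCharacter N ((fun _ : N => (1:ℂ)) * θ) := by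
    rw [hone]; exact hθ
  have hbij := Cfsg.Agent.S0856.result N (fun _ => 1) θ h1irr hθ (fun _ _ => rfl)
    hθinv hprod η hη hηN
  have hmem : η' ∈ {ψ : Γ → ℂ | IsIrrCharacter Γ ψ ∧
      classInner (indFun N ((fun _ : N => (1:ℂ)) * θ)) ψ ≠ 0} := by
    refine ⟨hη', ?_⟩
    rw [hone, Cfsg.Agent.S0146.result N θ _ (isClassFunction_irr hη')]
    have h2 : (fun h : N => η' h) = θ := by
      funext n
      rw [hη'N]
    rw [h2, classInner_irr_self hθ]
    exact one_ne_zero
  obtain ⟨β, ⟨hβirr, hβN⟩, hβeq⟩ := hbij.surjOn hmem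
  have hβeq' : ∀ g, β g * η g = η' g := fun g => congrFun hβeq g
  obtain ⟨d, hd0, hd⟩ := irr_apply_one_pos hη
  have hη'1 : η' 1 = d := by
    have h3 := hη'N 1
    have h4 := hηN 1
    rw [Subgroup.coe_one] at h3 h4
    rw [h3, ← h4, hd]
  have hβ1 : β 1 = 1 := by
    have h := hβeq' 1
    rw [hd, hη'1] at h
    have hd' : (d : ℂ) ≠ 0 := Nat.cast_ne_zero.2 hd0.ne'
    exact mul_right_cancel₀ hd' (by rw [h, one_mul])
  obtain ⟨φ, hφ⟩ := exists_hom_of_isIrrCharacter hβirr hβ1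
  refine ⟨φ, ?_, ?_⟩
  · rw [Cfsg.Agent.S0146.result N _ β (isClassFunction_irr hβirr)] at hβN
    have hres : IsIrrCharacter N (fun n : N => β n) := by
      rw [hφ]
      exact isIrrCharacter_of_hom (φ.comp N.subtype)
    have heq : (fun _ : N => (1:ℂ)) = (fun n : N => β n) := by
      by_contra hne
      exact hβN (classInner_irr_ne h1irr hres hne)
    intro n
    have h3 := congrFun heq n
    rw [hφ] at h3
    exact Units.ext h3.symm
  · funext g
    rw [← hβeq' g, hφ]

end Ext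

section Restrict

variable {Γ : Type u} [Group Γ] [Fintype Γ] {G : Subgroup Γ} {s : Γ}

theorem CycSetup.comm_quot [G.Normal] (h : CycSetup G s) (a b : Γ ⧸ G) : a * b = b * a := by
  induction a using QuotientGroup.induction_on with
  | H x =>
  induction b using QuotientGroup.induction_on with
  | H y =>
  obtain ⟨g, hg, z, hz, rfl⟩ := h.exists_mul x
  obtain ⟨g', hg', z', hz', rfl⟩ := h.exists_mul y
  have e1 : ((g * z : Γ) : Γ ⧸ G) = ((z : Γ) : Γ ⧸ G) := by
    rw [QuotientGroup.mk_mul, (QuotientGroup.eq_one_iff g).2 hg, one_mul]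
  have e2 : ((g' * z' : Γ) : Γ ⧸ G) = ((z' : Γ) : Γ ⧸ G) := by
    rw [QuotientGroup.mk_mul, (QuotientGroup.eq_one_iff g').2 hg', one_mul]
  rw [e1, e2, ← QuotientGroup.mk_mul, ← QuotientGroup.mk_mul]
  congr 1
  have := mul_comm' (⟨z, hz⟩ : Subgroup.zpowers s) ⟨z', hz'⟩
  exact congrArg Subtype.val this

/-- A homomorphism of `Γ ⧸ G` which is trivial at the image of `s` is trivial. -/
theorem CycSetup.hom_eq_one [G.Normal] (h : CycSetup G s) {M : Type*} [Group M]
    (f : (Γ ⧸ G) →* M) (hf : f (s : Γ ⧸ G) = 1) : f = 1 := by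
  refine MonoidHom.ext fun a => ?_
  induction a using QuotientGroup.induction_on with
  | H x =>
  obtain ⟨g, hg, z, hz, rfl⟩ := h.exists_mul x
  obtain ⟨i, rfl⟩ := Subgroup.mem_zpowers_iff.1 hz
  rw [QuotientGroup.mk_mul, (QuotientGroup.eq_one_iff g).2 hg, one_mul, QuotientGroup.mk_zpow,
    map_zpow, hf, one_zpow, MonoidHom.one_apply]

/-- An irreducible character of `Γ` that does not vanish on the coset `G s` restricts irreducibly
to `G`. -/
theorem CycSetup.irr_restrict_of_ne_zero [G.Normal] (h : CycSetup G s) [Fintype G] {ψ : Γ → ℂ}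
    (hψ : IsIrrCharacter Γ ψ) {x : Γ} (hx : x * s⁻¹ ∈ G) (hne : ψ x ≠ 0) :
    IsIrrCharacter G (fun g : G => ψ g) := by
  classical
  let instQ : CommGroup (Γ ⧸ G) :=
    { (inferInstance : Group (Γ ⧸ G)) with mul_comm := h.comm_quot }
  haveI : Fintype ((Γ ⧸ G) →* ℂˣ) := Fintype.ofFinite _
  apply isIrrCharacter_of_norm_one (Cfsg.Agent.S0148.isCharacter_restrict G (isCharacter_of_irr hψ))
  have hxs : (x : Γ ⧸ G) = (s : Γ ⧸ G) := by
    rw [QuotientGroup.eq]
    have h1 := G.inv_mem hx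
    have h2 : (x * s⁻¹)⁻¹ = s * x⁻¹ := by group
    rw [h2] at h1
    have h3 := (inferInstance : G.Normal).conj_mem _ h1 x⁻¹
    have h4 : x⁻¹ * (s * x⁻¹) * x⁻¹⁻¹ = x⁻¹ * s := by group
    rwa [h4] at h3
  -- the terms
  have hterm : ∀ f : (Γ ⧸ G) →* ℂˣ,
      classInner (fun y : Γ => (((f.comp (QuotientGroup.mk' G)) y : ℂˣ) : ℂ) * ψ y) ψ
        = if f = 1 then 1 else 0 := by
    intro f
    split_ifs with hf
    · rw [hf]
      have : (fun y : Γ => ((((1 : (Γ ⧸ G) →* ℂˣ).comp (QuotientGroup.mk' G)) y : ℂˣ) : ℂ) * ψ y)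
          = ψ := by
        funext y
        simp
      rw [this, classInner_irr_self hψ]
    · apply classInner_irr_ne (isIrrCharacter_hom_mul _ hψ) hψ
      intro heq
      have h1 := congrFun heq x
      simp only [MonoidHom.coe_comp, QuotientGroup.coe_mk', Function.comp_apply] at h1
      have h2 : ((f (x : Γ ⧸ G) : ℂˣ) : ℂ) = 1 := by
        have h3 : (((f (x : Γ ⧸ G) : ℂˣ) : ℂ) - 1) * ψ x = 0 := by linear_combination h1
        rcases mul_eq_zero.1 h3 with h4 | h4
        · linear_combination h4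
        · exact absurd h4 hne
      apply hf
      apply h.hom_eq_one
      rw [← hxs]
      exact Units.ext h2
  have hsum : ∑ f : (Γ ⧸ G) →* ℂˣ,
      classInner (fun y : Γ => (((f.comp (QuotientGroup.mk' G)) y : ℂˣ) : ℂ) * ψ y) ψ = 1 := by
    rw [Finset.sum_congr rfl fun f _ => hterm f]
    simp
  rw [← hsum]
  unfold classInner
  rw [← Finset.mul_sum, Finset.sum_comm]
  have hinner : ∀ y : Γ, ∑ f : (Γ ⧸ G) →* ℂˣ,
      (((f.comp (QuotientGroup.mk' G)) y : ℂˣ) : ℂ) * ψ y * conj (ψ y)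
      = if y ∈ G then (Nat.card (Γ ⧸ G) : ℂ) * (ψ y * conj (ψ y)) else 0 := by
    intro y
    simp only [MonoidHom.coe_comp, QuotientGroup.coe_mk', Function.comp_apply]
    simp_rw [mul_assoc]
    rw [← Finset.sum_mul]
    split_ifs with hy
    · have h1 : (QuotientGroup.mk y : Γ ⧸ G) = 1 := (QuotientGroup.eq_one_iff y).2 hy
      rw [h1, sum_hom_apply_one]
    · have h1 : (QuotientGroup.mk y : Γ ⧸ G) ≠ 1 := fun h' => hy ((QuotientGroup.eq_one_iff y).1 h')
      rw [sum_hom_apply_ne _ h1, zero_mul]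
  rw [Finset.sum_congr rfl fun y _ => hinner y,
    sum_subgroup_eq_sum_ite G (fun y => ψ y * conj (ψ y))]
  have hcard : (Nat.card Γ : ℂ) = (Nat.card (Γ ⧸ G) : ℂ) * (Nat.card G : ℂ) := by
    rw [← Nat.cast_mul, ← Subgroup.card_eq_card_quotient_mul_card_subgroup]
  have hG0 : (Nat.card G : ℂ) ≠ 0 := Nat.cast_ne_zero.2 Nat.card_pos.ne'
  have hQ0 : (Nat.card (Γ ⧸ G) : ℂ) ≠ 0 := Nat.cast_ne_zero.2 Nat.card_pos.ne'
  rw [hcard, Finset.mul_sum, Finset.mul_sum]
  refine Finset.sum_congr rfl fun y _ => ?_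
  split_ifs
  · field_simp
  · simp

end Restrict

end Cfsg.Agent.Lib.Helper8
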