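import Mathlib
import Cfsg.Prelude.Def_Characters
import Cfsg.Prelude.Def_CharExt
import Cfsg.Agent.Lib.Helper8.GL8
import Cfsg.Agent.Lib.Helper8.GL9
import Cfsg.Agent.Lib.Helper1.CharFound5

/-!
# The cyclic case of the Glauberman correspondence: injectivity and surjectivity
-/

set_option autoImplicit false
set_option linter.unusedSectionVars false

namespace Cfsg.Agent.Lib.Helper8

open Cfsg
open scoped ComplexConjugate
open Cfsg.Agent.Lib.Helper1 Cfsg.Agent.Lib.Helper4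

universe u

section

variable {Γ : Type u} [Group Γ] [Fintype Γ] {G : Subgroup Γ} {s : Γ}

/-- If `c s` is conjugate to `s` (with `c ∈ C_G(s)`) then `c = 1`. -/
theorem CycSetup.eq_one_of_isConj (h : CycSetup G s) {c : Γ} (hc : c ∈ fixC G s)
    (hconj : IsConj s (c * s)) : c = 1 := by
  obtain ⟨y, hy⟩ := isConj_iff.1 hconj
  obtain ⟨k, hk1, hk0⟩ := Nat.chineseRemainder h.cop 1 0
  obtain ⟨hcG, hcs⟩ := mem_fixC_iff.1 hc
  have hcomm : Commute c s := hcs.symm
  have h1 : (y * s * y⁻¹) ^ k = (c * s) ^ k := by rw [hy]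
  have hsk : s ^ k = 1 := orderOf_dvd_iff_pow_eq_one.1 ((Nat.modEq_zero_iff_dvd).1 hk0)
  have hck : c ^ k = c := by
    apply pow_eq_self_of_modEq
    apply Nat.ModEq.of_dvd _ hk1
    have : orderOf (⟨c, hcG⟩ : G) ∣ Nat.card G := orderOf_dvd_natCard _
    rwa [← Subgroup.orderOf_coe] at this
  rw [conj_pow, hsk, hcomm.mul_pow, hsk, hck] at h1
  simpa using h1.symm

theorem cosetFn_eq_zero_of_forall {ψ : Γ → ℂ} (h0 : ∀ x : Γ, x * s⁻¹ ∈ G → ψ x = 0) :
    cosetFn G s ψ = 0 := by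
  funext c
  rw [cosetFn_apply]
  apply h0
  have : (c : Γ) * s * s⁻¹ = c := by group
  rw [this]
  exact (mem_fixC_iff.1 c.2).1

/-- Every irreducible character of `C_G(s)` occurs in the coset function of some irreducible
character of `Γ`. -/
theorem CycSetup.exists_irr_coset_ne_zero (h : CycSetup G s) [Fintype (fixC G s)]
    (β₀ : IrrCharacter (fixC G s)) :
    ∃ ψ : IrrCharacter Γ, classInner (cosetFn G s (ψ : Γ → ℂ)) (β₀ : fixC G s → ℂ) ≠ 0 := by
  classical
  haveI : Fintype (IrrCharacter Γ) := Fintype.ofFinite _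
  by_contra hall
  push Not at hall
  have hT : ∑ ψ : IrrCharacter Γ, conj ((ψ : Γ → ℂ) s) *
      classInner (cosetFn G s (ψ : Γ → ℂ)) (β₀ : fixC G s → ℂ) = 0 := by
    apply Finset.sum_eq_zero
    intro ψ _
    rw [hall ψ, mul_zero]
  have hC0 : (Nat.card (fixC G s) : ℂ) ≠ 0 := Nat.cast_ne_zero.2 Nat.card_pos.ne'
  have hT2 : ∑ ψ : IrrCharacter Γ, conj ((ψ : Γ → ℂ) s) *
      classInner (cosetFn G s (ψ : Γ → ℂ)) (β₀ : fixC G s → ℂ)
      = (Nat.card (fixC G s) : ℂ)⁻¹ * ∑ c : fixC G s, conj ((β₀ : fixC G s → ℂ) c) *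
        ∑ ψ : IrrCharacter Γ, (ψ : Γ → ℂ) ((c : Γ) * s) * conj ((ψ : Γ → ℂ) s) := by
    unfold classInner
    simp only [cosetFn_apply]
    simp_rw [Finset.mul_sum]
    rw [Finset.sum_comm]
    refine Finset.sum_congr rfl fun c _ => ?_
    refine Finset.sum_congr rfl fun ψ _ => ?_
    ring
  rw [hT2] at hT
  have hcol : ∀ c : fixC G s, ∑ ψ : IrrCharacter Γ, (ψ : Γ → ℂ) ((c : Γ) * s) *
      conj ((ψ : Γ → ℂ) s) = if c = 1 then
        (Nat.card (Subgroup.centralizer ({s} : Set Γ)) : ℂ) else 0 := by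
    intro c
    rw [column_orthogonality]
    unfold classIndicator
    split_ifs with h1 h2 h2
    · rw [mul_one]
    · exfalso
      apply h2
      apply Subtype.ext
      exact h.eq_one_of_isConj c.2 h1
    · exfalso
      apply h1
      rw [h2, Subgroup.coe_one, one_mul]
    · rw [mul_zero]
  rw [Finset.sum_congr rfl fun c _ => by rw [hcol c]] at hT
  rw [Finset.sum_eq_single (1 : fixC G s) (fun c _ hc => by rw [if_neg hc, mul_zero])
    (fun h' => absurd (Finset.mem_univ _) h'), if_pos rfl] at hT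
  have h3 : (β₀ : fixC G s → ℂ) 1 ≠ 0 := irr_apply_one_ne_zero β₀.2
  have h4 : (Nat.card (Subgroup.centralizer ({s} : Set Γ)) : ℂ) ≠ 0 :=
    Nat.cast_ne_zero.2 Nat.card_pos.ne'
  rcases mul_eq_zero.1 hT with h5 | h5
  · exact (inv_ne_zero hC0) h5
  · rcases mul_eq_zero.1 h5 with h6 | h6
    · exact h3 ((map_eq_zero _).1 h6)
    · exact h4 h6

/-- Surjectivity in Isaacs' Theorem 13.6. -/
theorem CycSetup.cyc_surj [hGn : G.Normal] (h : CycSetup G s) [Fintype G] [Fintype (fixC G s)]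
    (β₀ : IrrCharacter (fixC G s)) :
    ∃ χh : Γ → ℂ, IsIrrCharacter Γ χh ∧ IsIrrCharacter G (fun g : G => χh g) ∧
      (detOrder χh).Coprime (orderOf s) ∧
      classInner (cosetFn G s χh) (β₀ : fixC G s → ℂ) ≠ 0 := by
  obtain ⟨ψ, hψ⟩ := h.exists_irr_coset_ne_zero β₀
  have hne : ∃ x : Γ, x * s⁻¹ ∈ G ∧ (ψ : Γ → ℂ) x ≠ 0 := by
    by_contra hcon
    push Not at hcon
    rw [cosetFn_eq_zero_of_forall hcon, classInner_zero_left] at hψ
    exact hψ rfl
  obtain ⟨x, hx, hx0⟩ := hne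
  have hres := h.irr_restrict_of_ne_zero ψ.2 hx hx0
  have hcop' : (Nat.card G).Coprime G.index := by rw [h.index_eq]; exact h.cop
  obtain ⟨χ₀, hχ₀, hext, hdet⟩ := exists_canonical_ext G hcop' hres
    (fun g n => isClassFunction_irr ψ.2 _ _)
  rw [h.index_eq] at hdet
  have hres₀ : IsIrrCharacter G (fun g : G => χ₀ g) := by
    have : (fun g : G => χ₀ g) = fun g : G => (ψ : Γ → ℂ) g := by
      funext g; exact hext g
    rw [this]; exact hres
  obtain ⟨φ, hφ1, hφ⟩ := exists_hom_mul_of_extend G hres hχ₀ ψ.2 hext (fun _ => rfl)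
  refine ⟨χ₀, hχ₀, hres₀, hdet, ?_⟩
  intro h0
  apply hψ
  have hfn : cosetFn G s (ψ : Γ → ℂ) = (((φ s : ℂˣ) : ℂ)) • cosetFn G s χ₀ := by
    funext c
    rw [Pi.smul_apply, smul_eq_mul, cosetFn_apply, cosetFn_apply, hφ]
    simp only
    rw [map_mul, hφ1 ⟨c, (mem_fixC_iff.1 c.2).1⟩, one_mul]
  rw [hfn, classInner_smul_left, h0, mul_zero]

/-- Injectivity in Isaacs' Theorem 13.6: canonical extensions of distinct characters have
orthogonal coset functions. -/
theorem CycSetup.cyc_inj [G.Normal] (h : CycSetup G s) [Fintype G] [Fintype (fixC G s)]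
    {χh χh' : Γ → ℂ} (hχh : IsIrrCharacter Γ χh) (hχh' : IsIrrCharacter Γ χh')
    (hres : IsIrrCharacter G (fun g : G => χh g)) (hres' : IsIrrCharacter G (fun g : G => χh' g))
    {β : fixC G s → ℂ} (hβ : IsIrrCharacter (fixC G s) β) {ε ε' : ℂ} (hε : ε ≠ 0) (hε' : ε' ≠ 0)
    (h1 : cosetFn G s χh = fun c => ε * β c) (h2 : cosetFn G s χh' = fun c => ε' * β c) :
    (fun g : G => χh g) = fun g : G => χh' g := by
  by_contra hne
  have horth := h.classInner_cosetFn_of_orth hχh' hχh hres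
    (classInner_irr_ne hres' hres (fun h' => hne h'.symm))
  rw [h1, h2] at horth
  have e1 : (fun c => ε' * β c) = ε' • β := rfl
  have e2 : (fun c => ε * β c) = ε • β := rfl
  rw [e1, e2, classInner_smul_left, classInner_smul_right, classInner_irr_self hβ, mul_one] at horth
  rcases mul_eq_zero.1 horth with h3 | h3
  · exact hε' h3
  · exact hε ((map_eq_zero _).1 h3)

end

end Cfsg.Agent.Lib.Helper8
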