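import Mathlib
import Cfsg.Prelude.Def_Characters
import Cfsg.Prelude.Def_CharExt
import Cfsg.Agent.Lib.Helper8.GL10

/-!
# The cyclic case of the Glauberman correspondence: packaged statement
-/

set_option autoImplicit false
set_option linter.unusedSectionVars false

namespace Cfsg.Agent.Lib.Helper8

open Cfsg
open scoped ComplexConjugate
open Cfsg.Agent.Lib.Helper1 Cfsg.Agent.Lib.Helper4

universe u

section

variable {Γ : Type u} [Group Γ] [Fintype Γ] {G : Subgroup Γ} {s : Γ}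

/-- Another generator of a finite cyclic group is a power with exponent prime to the order. -/
theorem exists_pow_of_zpowers_eq {x y : Γ} (h : Subgroup.zpowers y = Subgroup.zpowers x) :
    ∃ t : ℕ, t.Coprime (orderOf x) ∧ y = x ^ t := by
  have hn0 : 0 < orderOf x := orderOf_pos x
  have hy : y ∈ Subgroup.zpowers x := by rw [← h]; exact Subgroup.mem_zpowers y
  obtain ⟨i, hi⟩ := Subgroup.mem_zpowers_iff.1 hy
  have h1 : x ^ i = x ^ (i % (orderOf x : ℤ)).toNat := by
    have h2 : (0 : ℤ) ≤ i % (orderOf x : ℤ) := Int.emod_nonneg _ (by exact_mod_cast hn0.ne')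
    rw [← zpow_natCast, Int.toNat_of_nonneg h2, zpow_mod_orderOf]
  refine ⟨(i % (orderOf x : ℤ)).toNat, ?_, by rw [← hi, h1]⟩
  have ho : orderOf y = orderOf x := by
    rw [← Nat.card_zpowers, ← Nat.card_zpowers, h]
  rw [← hi, h1, orderOf_pow] at ho
  have h3 : (orderOf x).gcd (i % (orderOf x : ℤ)).toNat ∣ orderOf x := Nat.gcd_dvd_left _ _
  have h4 := Nat.div_mul_cancel h3
  rw [ho] at h4
  have h5 : (orderOf x).gcd (i % (orderOf x : ℤ)).toNat = 1 := by
    have : orderOf x * (orderOf x).gcd (i % (orderOf x : ℤ)).toNat = orderOf x * 1 := by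
      rw [h4, mul_one]
    exact Nat.eq_of_mul_eq_mul_left hn0 this
  exact (Nat.coprime_comm.1 h5)

/-- Pointwise Galois stability of the canonical extension on `C_G(s) ⟨s⟩`. -/
theorem coset_value_stable [G.Normal] (h : CycSetup G s) {χh : Γ → ℂ}
    (hχh : IsIrrCharacter Γ χh) (hres : IsIrrCharacter G (fun g : G => χh g))
    (hdet : (detOrder χh).Coprime (orderOf s)) {c : Γ} (hc : c ∈ fixC G s) {z : Γ}
    (hz : z ∈ Subgroup.zpowers s) (t : ℕ) (ht : t.Coprime (orderOf z)) :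
    χh (c * z ^ t) = χh (c * z) := by
  have hzd : orderOf z ∣ orderOf s := orderOf_dvd_of_mem_zpowers hz
  obtain ⟨k, hk1, hk2, hk3⟩ := exists_galois_exp h.cop hzd (orderOf_pos s) ht
  rw [h.card_eq] at hk3
  have hcop' : (Nat.card G).Coprime G.index := by rw [h.index_eq]; exact h.cop
  have hdet' : (detOrder χh).Coprime G.index := by rw [h.index_eq]; exact hdet
  have hpow := canonical_powFn_eq G hχh hres hcop' hdet' hk3 hk1
  have h1 : χh (c * z) = χh ((c * z) ^ k) := by
    conv_lhs => rw [← hpow]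
    rfl
  have hcz : Commute c z := commute_fixC_zpowers (⟨c, hc⟩ : fixC G s) ⟨z, hz⟩
  rw [h1, hcz.mul_pow]
  have h2 : c ^ k = c := by
    apply pow_eq_self_of_modEq
    apply Nat.ModEq.of_dvd _ hk1
    have hcG : c ∈ G := (mem_fixC_iff.1 hc).1
    have : orderOf (⟨c, hcG⟩ : G) ∣ Nat.card G := orderOf_dvd_natCard _
    rwa [← Subgroup.orderOf_coe] at this
  have h3 : z ^ k = z ^ t := pow_eq_pow_iff_modEq.2 hk2
  rw [h2, h3]

/-- Isaacs' Theorem 13.6, packaged for an arbitrary name `C` of the fixed-point subgroup. -/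
theorem cyc_package [G.Normal] (h : CycSetup G s) (C : Subgroup Γ) [Fintype C]
    (hC : C = fixC G s) [Fintype G] {χh : Γ → ℂ} (hχh : IsIrrCharacter Γ χh)
    (hres : IsIrrCharacter G (fun g : G => χh g)) (hdet : (detOrder χh).Coprime (orderOf s)) :
    ∃ β : IrrCharacter C, ∃ ε : ℤ, (ε = 1 ∨ ε = -1) ∧
      (∀ c : C, ∀ s' : Γ, Subgroup.zpowers s' = Subgroup.zpowers s →
        χh ((c : Γ) * s') = (ε : ℂ) * (β : C → ℂ) c) ∧
      (∀ γ : IrrCharacter C, classInner (fun c : C => χh ((c : Γ) * s)) (γ : C → ℂ) =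
        if γ = β then (ε : ℂ) else 0) ∧
      classInner (fun c : C => χh (c : Γ)) (β : C → ℂ) ≠ 0 ∧
      (∀ p j : ℕ, p.Prime → orderOf s = p ^ j → ∀ γ : IrrCharacter C,
        ∃ m : ℕ, classInner (fun c : C => χh (c : Γ)) (γ : C → ℂ) = m ∧
          (m : ℤ) ≡ (if γ = β then ε else 0) [ZMOD p]) := by
  subst hC
  obtain ⟨β, ε, hε, hfn, hmult⟩ := cyc_main h hχh hres hdet
  have hε0 : (ε : ℂ) ≠ 0 := by
    rcases hε with h1 | h1 <;> rw [h1] <;> norm_num
  refine ⟨β, ε, hε, ?_, hmult, ?_, ?_⟩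
  · intro c s' hs'
    obtain ⟨t, ht, rfl⟩ := exists_pow_of_zpowers_eq hs'
    rw [coset_value_stable h hχh hres hdet c.2 (Subgroup.mem_zpowers s) t ht]
    exact congrFun hfn c
  · apply restrict_mult_ne_zero (isCharacter_of_irr hχh) β.2
    rw [hmult β, if_pos rfl]
    exact hε0
  · intro p j hp hs γ
    have ha : classInner (cosetFn G s χh) (γ : fixC G s → ℂ) =
        ((if γ = β then ε else 0 : ℤ) : ℂ) := by
      rw [hmult γ]
      split_ifs <;> simp
    exact restrict_mult_congr hp hs (isCharacter_of_irr hχh) γ.2 ha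

/-- Surjectivity, packaged. -/
theorem cyc_surj_package [G.Normal] (h : CycSetup G s) (C : Subgroup Γ) [Fintype C]
    (hC : C = fixC G s) [Fintype G] (β₀ : IrrCharacter C) :
    ∃ χh : Γ → ℂ, IsIrrCharacter Γ χh ∧ IsIrrCharacter G (fun g : G => χh g) ∧
      (detOrder χh).Coprime (orderOf s) ∧
      classInner (fun c : C => χh ((c : Γ) * s)) (β₀ : C → ℂ) ≠ 0 := by
  subst hC
  exact h.cyc_surj β₀

/-- Injectivity, packaged. -/
theorem cyc_inj_package [G.Normal] (h : CycSetup G s) (C : Subgroup Γ) [Fintype C]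
    (hC : C = fixC G s) [Fintype G]
    {χh χh' : Γ → ℂ} (hχh : IsIrrCharacter Γ χh) (hχh' : IsIrrCharacter Γ χh')
    (hres : IsIrrCharacter G (fun g : G => χh g)) (hres' : IsIrrCharacter G (fun g : G => χh' g))
    {β : C → ℂ} (hβ : IsIrrCharacter C β) {ε ε' : ℂ} (hε : ε ≠ 0) (hε' : ε' ≠ 0)
    (h1 : ∀ c : C, χh ((c : Γ) * s) = ε * β c) (h2 : ∀ c : C, χh' ((c : Γ) * s) = ε' * β c) :
    (fun g : G => χh g) = fun g : G => χh' g := by
  subst hC
  exact h.cyc_inj hχh hχh' hres hres' hβ hε hε' (funext h1) (funext h2)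

end

end Cfsg.Agent.Lib.Helper8
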