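import Mathlib
import Cfsg.Prelude.Def_Characters
import Cfsg.Agent.Lib.Helper8.GL11
import Cfsg.Agent.Lib.Helper8.GL14

/-!
# The Glauberman correspondence for a single `p`-element normalising `B`: transfer to `B ⟨s⟩`
-/

set_option autoImplicit false
set_option linter.unusedSectionVars false

namespace Cfsg.Agent.Lib.Helper8

open Cfsg
open scoped ComplexConjugate
open Cfsg.Agent.Lib.Helper1 Cfsg.Agent.Lib.Helper4

universe u

section

variable {Γ : Type u} [Group Γ] [Fintype Γ] (B : Subgroup Γ) (s : Γ)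

/-- The subgroup `B ⟨s⟩`. -/
abbrev amb : Subgroup Γ := B ⊔ Subgroup.zpowers s

theorem le_amb : B ≤ amb B s := le_sup_left

theorem mem_amb : s ∈ amb B s := (le_sup_right : Subgroup.zpowers s ≤ amb B s) (Subgroup.mem_zpowers s)

/-- `B` inside `B ⟨s⟩`. -/
abbrev G₀ : Subgroup (amb B s) := B.subgroupOf (amb B s)

/-- `s` inside `B ⟨s⟩`. -/
abbrev s₀ : amb B s := ⟨s, mem_amb B s⟩

variable {B s}

theorem normalizes_iff_mem_normalizer {x : Γ} {H : Subgroup Γ} :
    Normalizes x H ↔ x ∈ Subgroup.normalizer (H : Set Γ) := by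
  rw [Subgroup.mem_normalizer_iff]
  rfl

theorem normal_G₀ (hs : Normalizes s B) : (G₀ B s).Normal := by
  rw [Subgroup.normal_subgroupOf_iff_le_normalizer (le_amb B s)]
  apply sup_le Subgroup.le_normalizer
  rw [Subgroup.zpowers_le]
  exact normalizes_iff_mem_normalizer.1 hs

theorem orderOf_s₀ : orderOf (s₀ B s) = orderOf s := Subgroup.orderOf_mk s (mem_amb B s)

theorem card_G₀ : Nat.card (G₀ B s) = Nat.card B :=
  Nat.card_congr (Subgroup.subgroupOfEquivOfLe (le_amb B s)).toEquiv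

theorem setup₀ (hcop : (Nat.card B).Coprime (orderOf s)) : CycSetup (G₀ B s) (s₀ B s) := by
  refine ⟨by rw [card_G₀, orderOf_s₀]; exact hcop, ?_⟩
  apply Subgroup.map_injective (amb B s).subtype_injective
  rw [Subgroup.map_sup, Subgroup.subgroupOf_map_subtype, MonoidHom.map_zpowers,
    ← MonoidHom.range_eq_map, Subgroup.range_subtype]
  show B ⊓ amb B s ⊔ Subgroup.zpowers s = amb B s
  rw [inf_eq_left.2 (le_amb B s)]

/-- The image of `C_{G₀}(s₀)` in `Γ` is `C_B(s)`. -/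
theorem map_fixC₀ : (fixC (G₀ B s) (s₀ B s)).map (amb B s).subtype = fixC B s := by
  ext c
  rw [Subgroup.mem_map, mem_fixC_iff]
  constructor
  · rintro ⟨c₀, hc₀, rfl⟩
    obtain ⟨h1, h2⟩ := mem_fixC_iff.1 hc₀
    refine ⟨Subgroup.mem_subgroupOf.1 h1, ?_⟩
    have := congrArg Subtype.val h2
    exact this
  · rintro ⟨h1, h2⟩
    refine ⟨⟨c, le_amb B s h1⟩, ?_, rfl⟩
    rw [mem_fixC_iff]
    refine ⟨Subgroup.mem_subgroupOf.2 h1, ?_⟩
    apply Subtype.ext
    exact h2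

end

section Inv

variable {Γ : Type u} [Group Γ]

/-- The elements of `Γ` normalising `B` and fixing `χ` form a subgroup. -/
def invSubgroup (B : Subgroup Γ) (χ : B → ℂ) : Subgroup Γ where
  carrier := {g | Normalizes g B ∧ InvElt g B χ}
  mul_mem' := fun ha hb => ⟨ha.1.mul hb.1, InvElt.mul hb.1 ha.2 hb.2⟩
  one_mem' := ⟨Normalizes.one B, InvElt.one B χ⟩
  inv_mem' := fun ha => ⟨ha.1.inv, ha.2.inv ha.1⟩

theorem mem_invSubgroup {B : Subgroup Γ} {χ : B → ℂ} {g : Γ} :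
    g ∈ invSubgroup B χ ↔ Normalizes g B ∧ InvElt g B χ := Iff.rfl

theorem le_invSubgroup {B : Subgroup Γ} {χ : B → ℂ} (hχ : IsClassFunction B χ) :
    B ≤ invSubgroup B χ := by
  intro b hb
  refine ⟨normalizes_of_mem hb, ?_⟩
  intro g g' hg
  have : g' = ⟨b, hb⟩ * g * ⟨b, hb⟩⁻¹ := Subtype.ext (by rw [hg]; rfl)
  rw [this]
  exact hχ g ⟨b, hb⟩

theorem amb_le_invSubgroup {B : Subgroup Γ} {s : Γ} {χ : B → ℂ} (hs : Normalizes s B)
    (hχ : IsClassFunction B χ) (hinv : InvElt s B χ) : amb B s ≤ invSubgroup B χ := by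
  apply sup_le (le_invSubgroup hχ)
  rw [Subgroup.zpowers_le]
  exact ⟨hs, hinv⟩

end Inv

section Main

variable {Γ : Type u} [Group Γ] [Fintype Γ] (B : Subgroup Γ) (s : Γ)

/-- The isomorphism `G₀ ≃* B`. -/
noncomputable abbrev eB : G₀ B s ≃* B := Subgroup.subgroupOfEquivOfLe (le_amb B s)

/-- The fixed points inside `B ⟨s⟩`. -/
abbrev C₀ : Subgroup (amb B s) := fixC (G₀ B s) (s₀ B s)

/-- The fixed points, as the image in `Γ`. -/
abbrev C₁ : Subgroup Γ := (C₀ B s).map (amb B s).subtype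

/-- The isomorphism `C₀ ≃* C₁`. -/
noncomputable abbrev eC : C₀ B s ≃* C₁ B s :=
  Subgroup.equivMapOfInjective _ _ (amb B s).subtype_injective

variable {B s}

theorem C₁_le : C₁ B s ≤ B := by
  rw [C₁, map_fixC₀]
  exact inf_le_left

theorem restrict_transfer [Fintype (C₀ B s)] [Fintype (C₁ B s)] (χ : B → ℂ)
    (χh : amb B s → ℂ) (hext : ∀ n : G₀ B s, χh n = χ (eB B s n)) (γ : C₁ B s → ℂ) :
    classInner (fun c : C₁ B s => χ ⟨c, C₁_le c.2⟩) γ
      = classInner (fun c₀ : C₀ B s => χh (c₀ : amb B s)) (fun c₀ => γ (eC B s c₀)) := by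
  rw [← classInner_mulEquiv (eC B s) (fun c : C₁ B s => χ ⟨c, C₁_le c.2⟩) γ]
  congr 1
  funext c₀
  have hmem : (c₀ : amb B s) ∈ G₀ B s := (mem_fixC_iff.1 c₀.2).1
  rw [hext ⟨c₀, hmem⟩]
  congr 1

end Main

section Elt

variable {Γ : Type u} [Group Γ] [Fintype Γ] {B : Subgroup Γ} {s : Γ}

theorem pm_ne_zero {ε : ℤ} (hε : ε = 1 ∨ ε = -1) : (ε : ℂ) ≠ 0 := by
  rcases hε with h1 | h1 <;> rw [h1] <;> norm_num

/-- Existence of the canonical extension to `B ⟨s⟩` of an `s`-invariant character of `B`. -/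
theorem exists_canonical₀ (hs : Normalizes s B) (hcop : (Nat.card B).Coprime (orderOf s))
    (χ : IrrCharacter B) (hχ : InvElt s B (χ : B → ℂ)) :
    haveI := normal_G₀ hs
    ∃ χh : amb B s → ℂ, IsIrrCharacter (amb B s) χh ∧
      (∀ n : G₀ B s, χh n = (χ : B → ℂ) (eB B s n)) ∧
      IsIrrCharacter (G₀ B s) (fun g : G₀ B s => χh g) ∧
      (detOrder χh).Coprime (orderOf (s₀ B s)) := by
  classical
  haveI := normal_G₀ hs
  have hsetup := setup₀ hcop
  have hcop' : (Nat.card (G₀ B s)).Coprime (G₀ B s).index := by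
    rw [hsetup.index_eq]; exact hsetup.cop
  have hχ₀ : IsIrrCharacter (G₀ B s) (fun x : G₀ B s => (χ : B → ℂ) (eB B s x)) :=
    isIrrCharacter_comp_mulEquiv χ.2 (eB B s)
  have hle := amb_le_invSubgroup hs (isClassFunction_irr χ.2) hχ
  obtain ⟨χh, h1, h2, h3⟩ := exists_canonical_ext (G₀ B s) hcop' hχ₀ (by
    intro g n
    have hg := (mem_invSubgroup.1 (hle g.2)).2
    exact hg (eB B s n) _ rfl)
  rw [hsetup.index_eq] at h3
  refine ⟨χh, h1, h2, ?_, h3⟩
  have : (fun g : G₀ B s => χh g) = fun x : G₀ B s => (χ : B → ℂ) (eB B s x) := funext h2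
  rw [this]
  exact hχ₀

/-- The Glauberman correspondence for a single normalising `p`-element, with the fixed points
named as the image of the fixed points in `B ⟨s⟩`. -/
theorem glauProp_elt₁ {p j : ℕ} (hp : p.Prime) (hs : Normalizes s B) (hord : orderOf s = p ^ j)
    (hcop : (Nat.card B).Coprime (orderOf s)) [Fintype B] [Fintype (C₁ B s)] :
    GlauProp p B (C₁ B s) C₁_le (fun χ => InvElt s B (χ : B → ℂ)) := by
  classical
  haveI := normal_G₀ hs
  have hsetup := setup₀ hcop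
  haveI : Fintype (G₀ B s) := Fintype.ofFinite _
  haveI : Fintype (C₀ B s) := Fintype.ofFinite _
  have hord₀ : orderOf (s₀ B s) = p ^ j := by rw [orderOf_s₀, hord]
  let toC₀ : IrrCharacter (C₁ B s) → IrrCharacter (C₀ B s) := fun γ =>
    ⟨fun c₀ => (γ : C₁ B s → ℂ) (eC B s c₀), isIrrCharacter_comp_mulEquiv γ.2 (eC B s)⟩
  let toC₁ : IrrCharacter (C₀ B s) → IrrCharacter (C₁ B s) := fun γ₀ =>
    ⟨fun c => (γ₀ : C₀ B s → ℂ) ((eC B s).symm c),
      isIrrCharacter_comp_mulEquiv γ₀.2 (eC B s).symm⟩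
  have h01 : ∀ γ₀, toC₀ (toC₁ γ₀) = γ₀ := by
    intro γ₀
    apply Subtype.ext
    funext c₀
    show (γ₀ : C₀ B s → ℂ) ((eC B s).symm (eC B s c₀)) = _
    rw [MulEquiv.symm_apply_apply]
  have h10 : ∀ γ, toC₁ (toC₀ γ) = γ := by
    intro γ
    apply Subtype.ext
    funext c
    show (γ : C₁ B s → ℂ) (eC B s ((eC B s).symm c)) = _
    rw [MulEquiv.apply_symm_apply]
  have hiff : ∀ γ β₀, toC₀ γ = β₀ ↔ γ = toC₁ β₀ := by
    intro γ β₀
    constructor
    · intro h; rw [← h, h10]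
    · intro h; rw [h, h01]
  -- the package for an invariant character
  have hpack : ∀ (χ : IrrCharacter B) (χh : amb B s → ℂ), IsIrrCharacter (amb B s) χh →
      (∀ n : G₀ B s, χh n = (χ : B → ℂ) (eB B s n)) →
      IsIrrCharacter (G₀ B s) (fun g : G₀ B s => χh g) →
      (detOrder χh).Coprime (orderOf (s₀ B s)) →
      ∃ β₀ : IrrCharacter (C₀ B s), ∃ ε : ℤ, (ε = 1 ∨ ε = -1) ∧
        (∀ c : C₀ B s, χh ((c : amb B s) * s₀ B s) = (ε : ℂ) * (β₀ : C₀ B s → ℂ) c) ∧
        (∀ γ₀ : IrrCharacter (C₀ B s),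
          classInner (fun c : C₀ B s => χh ((c : amb B s) * s₀ B s)) (γ₀ : C₀ B s → ℂ) =
          if γ₀ = β₀ then (ε : ℂ) else 0) ∧
        ∀ γ : IrrCharacter (C₁ B s), ∃ m : ℕ,
          classInner (fun c : C₁ B s => (χ : B → ℂ) ⟨c, C₁_le c.2⟩) (γ : C₁ B s → ℂ) = m ∧
          (m : ℤ) ≡ (if γ = toC₁ β₀ then ε else 0) [ZMOD p] := by
    intro χ χh hχh hext hres hdet
    obtain ⟨β₀, ε, hε, hval, hmult, -, hcong⟩ :=
      cyc_package hsetup (C₀ B s) rfl hχh hres hdet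
    refine ⟨β₀, ε, hε, fun c => hval c _ rfl, hmult, ?_⟩
    intro γ
    obtain ⟨m, hm, hmc⟩ := hcong p j hp hord₀ (toC₀ γ)
    refine ⟨m, ?_, ?_⟩
    · rw [restrict_transfer (χ : B → ℂ) χh hext]
      exact hm
    · by_cases hγ : γ = toC₁ β₀
      · rw [if_pos hγ]
        rw [if_pos ((hiff γ β₀).2 hγ)] at hmc
        exact hmc
      · rw [if_neg hγ]
        rw [if_neg (fun h => hγ ((hiff γ β₀).1 h))] at hmc
        exact hmc
  refine ⟨?_, ?_, ?_⟩
  · intro χ hχ
    obtain ⟨χh, hχh, hext, hres, hdet⟩ := exists_canonical₀ hs hcop χ hχ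
    obtain ⟨β₀, ε, hε, -, -, hc⟩ := hpack χ χh hχh hext hres hdet
    exact ⟨toC₁ β₀, ε, hε, hc⟩
  · intro χ χ' hχ hχ' β m m' hm hpm hm' hpm'
    obtain ⟨χh, hχh, hext, hres, hdet⟩ := exists_canonical₀ hs hcop χ hχ
    obtain ⟨β₀, ε, hε, hval, -, hc⟩ := hpack χ χh hχh hext hres hdet
    obtain ⟨χh', hχh', hext', hres', hdet'⟩ := exists_canonical₀ hs hcop χ' hχ'
    obtain ⟨β₀', ε', hε', hval', -, hc'⟩ := hpack χ' χh' hχh' hext' hres' hdet'
    have e1 : β = toC₁ β₀ := GlauProp.eq_of_not_dvd hc hm hpm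
    have e2 : β = toC₁ β₀' := GlauProp.eq_of_not_dvd hc' hm' hpm'
    have e3 : β₀' = β₀ := by
      rw [← h01 β₀', ← h01 β₀, ← e1, ← e2]
    rw [e3] at hval'
    have h1 := cyc_inj_package hsetup (C₀ B s) rfl hχh hχh' hres hres' β₀.2
      (pm_ne_zero hε) (pm_ne_zero hε') hval hval'
    apply Subtype.ext
    funext b
    have h2 : χh (((eB B s).symm b : G₀ B s) : amb B s) =
        χh' (((eB B s).symm b : G₀ B s) : amb B s) := congrFun h1 ((eB B s).symm b)
    rw [hext, hext', MulEquiv.apply_symm_apply] at h2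
    exact h2
  · intro β
    obtain ⟨χh, hχh, hres, hdet, hne⟩ := cyc_surj_package hsetup (C₀ B s) rfl (toC₀ β)
    set χ : IrrCharacter B := ⟨fun b => χh (((eB B s).symm b : G₀ B s) : amb B s),
      isIrrCharacter_comp_mulEquiv hres (eB B s).symm⟩ with hχdef
    have hext : ∀ n : G₀ B s, χh n = (χ : B → ℂ) (eB B s n) := by
      intro n
      show χh n = χh (((eB B s).symm (eB B s n) : G₀ B s) : amb B s)
      rw [MulEquiv.symm_apply_apply]
    have hχinv : InvElt s B (χ : B → ℂ) := by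
      intro g g' hg
      show χh (((eB B s).symm g' : G₀ B s) : amb B s) = χh (((eB B s).symm g : G₀ B s) : amb B s)
      have h3 : (((eB B s).symm g' : G₀ B s) : amb B s) =
          s₀ B s * (((eB B s).symm g : G₀ B s) : amb B s) * (s₀ B s)⁻¹ := by
        apply Subtype.ext
        exact hg
      rw [h3]
      exact isClassFunction_irr hχh _ _
    obtain ⟨β₀, ε, hε, -, hmult, hc⟩ := hpack χ χh hχh hext hres hdet
    have e1 : toC₀ β = β₀ := by
      by_contra hne'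
      rw [hmult (toC₀ β), if_neg hne'] at hne
      exact hne rfl
    refine ⟨χ, hχinv, ?_⟩
    have e2 : β = toC₁ β₀ := (hiff β β₀).1 e1
    rw [e2]
    exact GlauProp.not_dvd_self hp hε hc

end Elt

section EltFinal

variable {Γ : Type u} [Group Γ] [Fintype Γ] {B : Subgroup Γ} {s : Γ}

/-- The Glauberman correspondence for a single normalising `p`-element. -/
theorem glauProp_elt {p j : ℕ} (hp : p.Prime) (hs : Normalizes s B) (hord : orderOf s = p ^ j)
    (hcop : (Nat.card B).Coprime (orderOf s)) [Fintype B] (C : Subgroup Γ) [Fintype C]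
    (hC : C = fixC B s) (hCB : C ≤ B) :
    GlauProp p B C hCB (fun χ => InvElt s B (χ : B → ℂ)) := by
  have h : C = C₁ B s := hC.trans map_fixC₀.symm
  subst h
  exact glauProp_elt₁ hp hs hord hcop

end EltFinal

end Cfsg.Agent.Lib.Helper8
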