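import Mathlib
import Cfsg.Prelude.Def_Characters
import Cfsg.Agent.Lib.Helper8.GL15

/-!
# The Glauberman correspondence for `p`-groups of operators
-/

set_option autoImplicit false
set_option linter.unusedSectionVars false

namespace Cfsg.Agent.Lib.Helper8

open Cfsg
open scoped ComplexConjugate
open Cfsg.Agent.Lib.Helper1 Cfsg.Agent.Lib.Helper4

universe u

section

variable {Γ : Type u} [Group Γ]

theorem GlauProp.congr_inv {p : ℕ} {H C : Subgroup Γ} [Fintype H] [Fintype C] {hCH : C ≤ H}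
    {Inv Inv' : IrrCharacter H → Prop} (h : ∀ χ, Inv χ ↔ Inv' χ)
    (hg : GlauProp p H C hCH Inv) : GlauProp p H C hCH Inv' := by
  refine ⟨?_, ?_, ?_⟩
  · intro χ hχ
    exact hg.corr χ ((h χ).2 hχ)
  · intro χ χ' hχ hχ'
    exact hg.inj χ χ' ((h χ).2 hχ) ((h χ').2 hχ')
  · intro β
    obtain ⟨χ, hχ, hm⟩ := hg.surj β
    exact ⟨χ, (h χ).1 hχ, hm⟩

variable [Fintype Γ]

/-- The base step: `S = ⟨s⟩ T` with `T` centralising `B`. -/
theorem glauProp_base {p : ℕ} (hp : p.Prime) {B S T : Subgroup Γ} [Fintype B] (hTS : T ≤ S)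
    (hS : IsPGroup p S) (hcent : ∀ t ∈ T, ∀ b ∈ B, t * b = b * t)
    (hSB : ∀ x ∈ S, Normalizes x B) (hcop : (Nat.card B).Coprime (Nat.card S)) {s : Γ}
    (hsS : s ∈ S) (hgen : ∀ x ∈ S, ∃ i : ℤ, ∃ t ∈ T, x = s ^ i * t) (C : Subgroup Γ)
    [Fintype C] (hC : C = B ⊓ Subgroup.centralizer (S : Set Γ)) (hCB : C ≤ B) :
    GlauProp p B C hCB (fun χ => InvS S B (χ : B → ℂ)) := by
  have hord : ∃ j, orderOf s = p ^ j := by
    obtain ⟨k, hk⟩ := hS ⟨s, hsS⟩
    have h1 : s ^ (p ^ k) = 1 := by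
      have := congrArg Subtype.val hk
      simpa using this
    exact (Nat.dvd_prime_pow hp).1 (orderOf_dvd_of_pow_eq_one h1) |>.imp fun j hj => hj.2
  obtain ⟨j, hj⟩ := hord
  have hdvd : orderOf s ∣ Nat.card S := by
    have : orderOf (⟨s, hsS⟩ : S) ∣ Nat.card S := orderOf_dvd_natCard _
    rwa [← Subgroup.orderOf_coe] at this
  have hcop' : (Nat.card B).Coprime (orderOf s) := Nat.Coprime.coprime_dvd_right hdvd hcop
  have hCs : C = fixC B s := by
    rw [hC]
    ext c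
    rw [mem_fixC_iff, Subgroup.mem_inf, Subgroup.mem_centralizer_iff]
    constructor
    · rintro ⟨h1, h2⟩
      exact ⟨h1, h2 s hsS⟩
    · rintro ⟨h1, h2⟩
      refine ⟨h1, ?_⟩
      intro x hx
      obtain ⟨i, t, ht, rfl⟩ := hgen x hx
      have hc1 : Commute (s ^ i) c := Commute.zpow_left h2 i
      have hc2 : Commute t c := hcent t ht c h1
      exact (hc1.mul_left hc2).eq
  have hinv : ∀ χ : IrrCharacter B, InvElt s B (χ : B → ℂ) ↔ InvS S B (χ : B → ℂ) := by
    intro χ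
    constructor
    · intro h x hx
      obtain ⟨i, t, ht, rfl⟩ := hgen x hx
      apply InvElt.mul (hSB t (hTS ht)) (h.zpow (hSB s hsS) i)
      intro g g' hg
      have : g' = g := by
        apply Subtype.ext
        rw [hg, hcent t ht g g.2]
        group
      rw [this]
    · intro h
      exact h s hsS
  exact (glauProp_elt hp (hSB s hsS) hj hcop' C hCs hCB).congr_inv hinv

/-- The trivial step: `S` centralises `H`. -/
theorem glauProp_trivial {p : ℕ} (hp : p.Prime) {H : Subgroup Γ} [Fintype H]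
    (Inv : IrrCharacter H → Prop) (hInv : ∀ χ, Inv χ) :
    GlauProp p H H (le_refl H) Inv := by
  classical
  have hval : ∀ χ γ : IrrCharacter H,
      classInner (fun c : H => (χ : H → ℂ) ⟨c, (le_refl H) c.2⟩) (γ : H → ℂ) =
        ((if γ = χ then 1 else 0 : ℕ) : ℂ) := by
    intro χ γ
    have : (fun c : H => (χ : H → ℂ) ⟨c, (le_refl H) c.2⟩) = (χ : H → ℂ) := rfl
    rw [this]
    split_ifs with h
    · rw [h, classInner_irr_self χ.2]; simp
    · rw [classInner_irr_ne χ.2 γ.2 (fun h' => h (Subtype.ext h'.symm))]; simp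
  have hnat : ∀ {χ γ : IrrCharacter H} {m : ℕ},
      classInner (fun c : H => (χ : H → ℂ) ⟨c, (le_refl H) c.2⟩) (γ : H → ℂ) = m → ¬ p ∣ m →
      γ = χ := by
    intro χ γ m hm hpm
    by_contra hne
    rw [hval χ γ, if_neg hne] at hm
    have : m = 0 := by exact_mod_cast hm.symm
    rw [this] at hpm
    exact hpm (dvd_zero p)
  refine ⟨?_, ?_, ?_⟩
  · intro χ _
    refine ⟨χ, 1, Or.inl rfl, ?_⟩
    intro γ
    refine ⟨if γ = χ then 1 else 0, hval χ γ, ?_⟩
    split_ifs <;> simp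
  · intro χ χ' _ _ β m m' hm hpm hm' hpm'
    rw [← hnat hm hpm, ← hnat hm' hpm']
  · intro β
    refine ⟨β, hInv β, 1, ?_, ?_⟩
    · rw [hval β β, if_pos rfl]
    · intro h
      exact hp.one_lt.ne' (Nat.dvd_one.1 h)

end

end Cfsg.Agent.Lib.Helper8
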