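import Mathlib
import Cfsg.Prelude.Def_Characters
import Cfsg.Agent.Lib.Helper8.GL16

/-!
# The Glauberman correspondence for `p`-groups of operators: the induction
-/

set_option autoImplicit false
set_option linter.unusedSectionVars false

namespace Cfsg.Agent.Lib.Helper8

open Cfsg
open scoped ComplexConjugate
open Cfsg.Agent.Lib.Helper1 Cfsg.Agent.Lib.Helper4

universe u

section

variable {Γ : Type u} [Group Γ] [Fintype Γ]

/-- A `p`-group of order `p^(n+1)` has a normal subgroup of order `p^n`, and an element which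
together with it generates the group. -/
theorem exists_max_normal {p n : ℕ} (hp : p.Prime) {S : Subgroup Γ}
    (hS : Nat.card S = p ^ (n + 1)) :
    ∃ T : Subgroup Γ, T ≤ S ∧ Nat.card T = p ^ n ∧ (∀ x ∈ S, ∀ t ∈ T, x * t * x⁻¹ ∈ T) ∧
      ∃ s ∈ S, ∀ x ∈ S, ∃ i : ℤ, ∃ t ∈ T, x = s ^ i * t := by
  haveI : Fact p.Prime := ⟨hp⟩
  obtain ⟨K, hK⟩ := Sylow.exists_subgroup_card_pow_prime (G := S) p (n := n)
    (by rw [hS]; exact pow_dvd_pow p (Nat.le_succ n))
  have hidx : K.index = p := by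
    have h1 := K.card_mul_index
    rw [hK, hS, pow_succ] at h1
    exact Nat.eq_of_mul_eq_mul_left (pow_pos hp.pos n) h1
  haveI hKn : K.Normal := by
    apply Subgroup.normal_of_index_eq_minFac_card
    rw [hidx, hS, Nat.Prime.pow_minFac hp (Nat.succ_ne_zero n)]
  have hcardQ : Nat.card (S ⧸ K) = p := by rw [← Subgroup.index_eq_card, hidx]
  -- an element outside K
  have hne : ∃ s' : S, s' ∉ K := by
    by_contra hcon
    push Not at hcon
    have : K = ⊤ := by rw [eq_top_iff]; intro x _; exact hcon x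
    rw [this, Subgroup.index_top] at hidx
    exact hp.one_lt.ne' hidx.symm
  obtain ⟨s', hs'⟩ := hne
  have hq : (QuotientGroup.mk s' : S ⧸ K) ≠ 1 := by
    intro h
    exact hs' ((QuotientGroup.eq_one_iff s').1 h)
  have hztop := zpowers_eq_top_of_prime_card hcardQ hq
  refine ⟨K.map S.subtype, Subgroup.map_subtype_le K, ?_, ?_, (s' : Γ), s'.2, ?_⟩
  · rw [← hK]
    exact (Nat.card_congr (Subgroup.equivMapOfInjective K S.subtype S.subtype_injective).toEquiv).symm
  · rintro x hx t ⟨k, hk, rfl⟩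
    refine ⟨⟨x, hx⟩ * k * ⟨x, hx⟩⁻¹, hKn.conj_mem k hk ⟨x, hx⟩, rfl⟩
  · intro x hx
    have hmem : (QuotientGroup.mk (⟨x, hx⟩ : S) : S ⧸ K) ∈ Subgroup.zpowers (QuotientGroup.mk s' : S ⧸ K) := by
      rw [hztop]; trivial
    obtain ⟨i, hi⟩ := Subgroup.mem_zpowers_iff.1 hmem
    rw [← QuotientGroup.mk_zpow, QuotientGroup.eq] at hi
    refine ⟨i, (((s' ^ i)⁻¹ * ⟨x, hx⟩ : S) : Γ), ⟨_, hi, rfl⟩, ?_⟩
    push_cast
    group

theorem centralizer_bot_inf (H : Subgroup Γ) :
    H ⊓ Subgroup.centralizer (((⊥ : Subgroup Γ) : Subgroup Γ) : Set Γ) = H := by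
  apply le_antisymm inf_le_left
  intro x hx
  refine Subgroup.mem_inf.2 ⟨hx, ?_⟩
  rw [Subgroup.mem_centralizer_iff]
  intro y hy
  have : y = 1 := Subgroup.mem_bot.1 hy
  rw [this, one_mul, mul_one]

theorem glauProp_trivial' {p : ℕ} (hp : p.Prime) {H : Subgroup Γ} [i1 : Fintype H]
    (Inv : IrrCharacter H → Prop) (hInv : ∀ χ, Inv χ) (C : Subgroup Γ) [i2 : Fintype C]
    (hC : C = H) (hCH : C ≤ H) : GlauProp p H C hCH Inv := by
  subst hC
  have : i1 = i2 := Subsingleton.elim _ _
  subst this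
  exact glauProp_trivial hp Inv hInv

/-- The Glauberman correspondence for a `p`-group `S` normalising a `p'`-group `H`. -/
theorem glauProp_pgroup {p : ℕ} (hp : p.Prime) : ∀ (n : ℕ) (H S : Subgroup Γ) [Fintype H],
    Nat.card S = p ^ n → (∀ x ∈ S, Normalizes x H) → (Nat.card H).Coprime p →
    ∀ (C : Subgroup Γ) [Fintype C] (_ : C = H ⊓ Subgroup.centralizer (S : Set Γ))
      (hCH : C ≤ H), GlauProp p H C hCH (fun χ => InvS S H (χ : H → ℂ)) := by
  intro n
  induction n with
  | zero =>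
    intro H S _ hS hSH hcop C _ hC hCH
    rw [pow_zero, Subgroup.card_eq_one] at hS
    subst hS
    rw [centralizer_bot_inf] at hC
    apply glauProp_trivial' hp _ _ C hC
    intro χ s hs
    rw [Subgroup.mem_bot.1 hs]
    exact InvElt.one H _
  | succ n ih =>
    intro H S _ hS hSH hcop C _ hC hCH
    classical
    obtain ⟨T, hTS, hT, hTn, s, hsS, hgen⟩ := exists_max_normal hp hS
    set B : Subgroup Γ := H ⊓ Subgroup.centralizer (T : Set Γ) with hB
    have hBH : B ≤ H := inf_le_left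
    haveI : Fintype B := Fintype.ofFinite _
    have h1 := ih H T hT (fun x hx => hSH x (hTS hx)) hcop B rfl hBH
    have hconjB : ∀ x ∈ S, ∀ g ∈ B, x * g * x⁻¹ ∈ B := by
      intro x hx g hg
      have hg' := Subgroup.mem_inf.1 hg
      refine Subgroup.mem_inf.2 ⟨(hSH x hx g).1 hg'.1, ?_⟩
      rw [Subgroup.mem_centralizer_iff]
      intro t ht
      have ht' : x⁻¹ * t * x ∈ T := by
        have := hTn x⁻¹ (S.inv_mem hx) t ht
        simpa using this
      have hc := (Subgroup.mem_centralizer_iff.1 hg'.2) _ ht'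
      calc t * (x * g * x⁻¹) = x * ((x⁻¹ * t * x) * g) * x⁻¹ := by group
        _ = x * (g * (x⁻¹ * t * x)) * x⁻¹ := by rw [hc]
        _ = x * g * x⁻¹ * t := by group
    have hSB : ∀ x ∈ S, Normalizes x B := fun x hx => normalizes_of_forall hconjB hx
    have hCB : C ≤ B := by
      rw [hC]
      exact le_inf inf_le_left (inf_le_right.trans (Subgroup.centralizer_le hTS))
    have hC' : C = B ⊓ Subgroup.centralizer (S : Set Γ) := by
      rw [hC, hB, inf_assoc, inf_eq_right.2 (Subgroup.centralizer_le hTS)]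
    have hcopB : (Nat.card B).Coprime (Nat.card S) := by
      rw [hS]
      apply Nat.Coprime.pow_right
      exact Nat.Coprime.coprime_dvd_left (Subgroup.card_dvd_of_le hBH) hcop
    have hcent : ∀ t ∈ T, ∀ b ∈ B, t * b = b * t := by
      intro t ht b hb
      exact (Subgroup.mem_centralizer_iff.1 (Subgroup.mem_inf.1 hb).2) t ht
    have h2 := glauProp_base hp hTS (IsPGroup.of_card hS) hcent hSB hcopB hsS hgen C hC' hCB
    exact GlauProp.comp hp hBH hCB hTS hSH hSB hTn h1 h2

end

end Cfsg.Agent.Lib.Helper8
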