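import Mathlib
import Cfsg.Prelude.Def_Characters
import Cfsg.Agent.Lib.Helper8.GL17
import Cfsg.Agent.Lib.Helper2.Schmidt2

/-!
# `O^p(S)` and the reduction of a solvable group of operators to a `p`-group of operators
-/

set_option autoImplicit false
set_option linter.unusedSectionVars false

namespace Cfsg.Agent.Lib.Helper8

open Cfsg
open scoped ComplexConjugate
open Cfsg.Agent.Lib.Helper1 Cfsg.Agent.Lib.Helper4

universe u

section

variable {Γ : Type u} [Group Γ]

/-- `O^p(S)`: the subgroup generated by the `p'`-elements of `S`. -/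
def opS (p : ℕ) (S : Subgroup Γ) : Subgroup Γ :=
  Subgroup.closure {x | x ∈ S ∧ (orderOf x).Coprime p}

theorem opS_le (p : ℕ) (S : Subgroup Γ) : opS p S ≤ S := by
  rw [opS, Subgroup.closure_le]
  intro x hx
  exact hx.1

theorem opS_conj_mem {p : ℕ} {S : Subgroup Γ} {g : Γ} (hg : Normalizes g S) {t : Γ}
    (ht : t ∈ opS p S) : g * t * g⁻¹ ∈ opS p S := by
  unfold opS at ht ⊢
  induction ht using Subgroup.closure_induction with
  | mem x hx =>
    apply Subgroup.subset_closure
    refine ⟨(hg x).1 hx.1, ?_⟩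
    have h1 : orderOf (g * x * g⁻¹) = orderOf x := by
      have := (MulAut.conj g).orderOf_eq x
      rwa [MulAut.conj_apply] at this
    rw [h1]
    exact hx.2
  | one => simp
  | mul x y _ _ hx hy =>
    have : g * (x * y) * g⁻¹ = (g * x * g⁻¹) * (g * y * g⁻¹) := by group
    rw [this]
    exact mul_mem hx hy
  | inv x _ hx =>
    have : g * x⁻¹ * g⁻¹ = (g * x * g⁻¹)⁻¹ := by group
    rw [this]
    exact inv_mem hx

theorem opS_normalizes {p : ℕ} {S : Subgroup Γ} {g : Γ} (hg : Normalizes g S) :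
    Normalizes g (opS p S) := by
  intro t
  refine ⟨opS_conj_mem hg, fun h => ?_⟩
  have := opS_conj_mem hg.inv h
  simpa [mul_assoc] using this

theorem exists_opS_ne [Finite Γ] {S : Subgroup Γ} (hS : S ≠ ⊥) (hsolv : Group.IsSolvable S) :
    ∃ p : ℕ, p.Prime ∧ p ∣ Nat.card S ∧ opS p S ≠ S := by
  haveI : Nontrivial S := (Subgroup.nontrivial_iff_ne_bot S).2 hS
  obtain ⟨M, hMn, hMp⟩ := Cfsg.Agent.Lib.Helper2.Schmidt.exists_normal_prime_index (G := S)
  refine ⟨M.index, hMp, Subgroup.index_dvd_card M, ?_⟩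
  intro heq
  have h1 : opS M.index S ≤ M.map S.subtype := by
    rw [opS, Subgroup.closure_le]
    rintro x ⟨hxS, hxc⟩
    refine ⟨⟨x, hxS⟩, ?_, rfl⟩
    have h2 : orderOf (QuotientGroup.mk' M ⟨x, hxS⟩) ∣ orderOf x := by
      rw [← Subgroup.orderOf_mk x hxS]
      exact orderOf_map_dvd (QuotientGroup.mk' M) _
    have h3 : orderOf (QuotientGroup.mk' M ⟨x, hxS⟩) ∣ M.index := by
      rw [Subgroup.index_eq_card]
      exact orderOf_dvd_natCard _
    have h4 : orderOf (QuotientGroup.mk' M ⟨x, hxS⟩) = 1 :=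
      Nat.eq_one_of_dvd_coprimes hxc h2 h3
    rw [orderOf_eq_one_iff] at h4
    exact (QuotientGroup.eq_one_iff _).1 h4
  have h2 : M = ⊤ := by
    rw [eq_top_iff]
    intro x _
    have hx' : (x : Γ) ∈ opS M.index S := by rw [heq]; exact x.2
    have : (x : Γ) ∈ M.map S.subtype := h1 hx'
    obtain ⟨y, hy, hxy⟩ := this
    have : y = x := Subtype.ext hxy
    rwa [this] at hy
  rw [h2, Subgroup.index_top] at hMp
  exact Nat.not_prime_one hMp

theorem opS_sup_sylow [Finite Γ] {p : ℕ} [hp : Fact p.Prime] (S : Subgroup Γ) (P : Sylow p S) :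
    opS p S ⊔ (P : Subgroup S).map S.subtype = S := by
  set T' : Subgroup S := (opS p S).subgroupOf S with hT'
  haveI hTn : T'.Normal := by
    constructor
    intro n hn g
    rw [hT', Subgroup.mem_subgroupOf] at hn ⊢
    exact opS_conj_mem (normalizes_of_mem g.2) hn
  -- the quotient is a p-group
  have hpg : IsPGroup p (S ⧸ T') := by
    intro q
    induction q using QuotientGroup.induction_on with
    | H x =>
      obtain ⟨a, m, hm, hxm⟩ := Nat.exists_eq_pow_mul_and_not_dvd (orderOf_pos (x : Γ)).ne' p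
        hp.out.ne_one
      refine ⟨a, ?_⟩
      rw [← QuotientGroup.mk_pow, QuotientGroup.eq_one_iff, hT', Subgroup.mem_subgroupOf]
      apply Subgroup.subset_closure
      refine ⟨S.pow_mem x.2 _, ?_⟩
      have h1 : ((x : Γ) ^ p ^ a) ^ m = 1 := by
        rw [← pow_mul, ← hxm]
        exact pow_orderOf_eq_one _
      have h2 := orderOf_dvd_of_pow_eq_one h1
      apply Nat.Coprime.coprime_dvd_left h2
      exact ((Nat.Prime.coprime_iff_not_dvd hp.out).2 hm).symm
  obtain ⟨k, hk⟩ := IsPGroup.iff_card.1 hpg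
  have hidx : T'.index = p ^ k := by rw [Subgroup.index_eq_card, hk]
  have htop : T' ⊔ (P : Subgroup S) = ⊤ := by
    rw [← Subgroup.index_eq_one]
    have h1 : (T' ⊔ (P : Subgroup S)).index ∣ p ^ k := hidx ▸ Subgroup.index_dvd_of_le le_sup_left
    have h2 : (T' ⊔ (P : Subgroup S)).index ∣ (P : Subgroup S).index :=
      Subgroup.index_dvd_of_le le_sup_right
    obtain ⟨j, _, hj⟩ := (Nat.dvd_prime_pow hp.out).1 h1
    rcases Nat.eq_zero_or_pos j with h0 | h0
    · rw [hj, h0, pow_zero]
    · exfalso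
      apply P.not_dvd_index
      apply dvd_trans _ h2
      rw [hj]
      exact dvd_pow_self p h0.ne'
  have := congrArg (Subgroup.map S.subtype) htop
  rw [Subgroup.map_sup, hT', Subgroup.subgroupOf_map_subtype, inf_eq_left.2 (opS_le p S),
    ← MonoidHom.range_eq_map, Subgroup.range_subtype] at this
  exact this

end

end Cfsg.Agent.Lib.Helper8
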