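import Mathlib
import Cfsg.Prelude.Def_Characters
import Cfsg.Agent.Lib.Helper8.GL18

/-!
# Counting invariant characters under a solvable group of operators
-/

set_option autoImplicit false
set_option linter.unusedSectionVars false

namespace Cfsg.Agent.Lib.Helper8

open Cfsg
open scoped ComplexConjugate
open Cfsg.Agent.Lib.Helper1 Cfsg.Agent.Lib.Helper4

universe u

theorem card_eq_of_rel {X Y : Type*} (R : X → Y → Prop) (h1 : ∀ x, ∃ y, R x y)
    (h2 : ∀ y, ∃ x, R x y) (h3 : ∀ x y y', R x y → R x y' → y = y')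
    (h4 : ∀ x x' y, R x y → R x' y → x = x') : Nat.card X = Nat.card Y := by
  choose f hf using h1
  apply Nat.card_congr (Equiv.ofBijective f ⟨?_, ?_⟩)
  · intro x x' hxx
    exact h4 x x' (f x) (hf x) (hxx ▸ hf x')
  · intro y
    obtain ⟨x, hx⟩ := h2 y
    exact ⟨x, h3 x _ _ (hf x) hx⟩

section

variable {Γ : Type u} [Group Γ]

theorem invS_sup {B N S : Subgroup Γ} {χ : B → ℂ} (hN : ∀ x ∈ N, Normalizes x B)
    (hS : ∀ x ∈ S, Normalizes x B) :
    InvS (N ⊔ S) B χ ↔ InvS N B χ ∧ InvS S B χ := by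
  constructor
  · intro h
    exact ⟨fun x hx => h x (le_sup_left (a := N) hx), fun x hx => h x (le_sup_right (b := S) hx)⟩
  · rintro ⟨h1, h2⟩
    have : N ⊔ S ≤ invSubgroup B χ := by
      apply sup_le
      · intro x hx
        exact ⟨hN x hx, h1 x hx⟩
      · intro x hx
        exact ⟨hS x hx, h2 x hx⟩
    intro x hx
    exact (this hx).2

theorem invS_of_central {B T : Subgroup Γ} (hT : ∀ t ∈ T, ∀ b ∈ B, t * b = b * t) (χ : B → ℂ) :
    InvS T B χ := by
  intro t ht g g' hg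
  have : g' = g := by
    apply Subtype.ext
    rw [hg, hT t ht g g.2]
    group
  rw [this]

theorem normalizes_of_central {B T : Subgroup Γ} (hT : ∀ t ∈ T, ∀ b ∈ B, t * b = b * t) :
    ∀ t ∈ T, Normalizes t B := by
  intro t ht g
  constructor
  · intro hg
    have : t * g * t⁻¹ = g := by rw [hT t ht g hg]; group
    rw [this]; exact hg
  · intro hg
    have h1 := hT t ht _ hg
    have : g = t * g * t⁻¹ := by
      have h2 : t * g = (t * g * t⁻¹) * t := by group
      have h3 : t * (t * g * t⁻¹) = t * g := by rw [h1, ← h2]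
      exact (mul_left_cancel h3).symm
    rw [this]; exact hg

variable [Fintype Γ]

theorem normalizes_sup {B N S : Subgroup Γ} (hN : ∀ x ∈ N, Normalizes x B)
    (hS : ∀ x ∈ S, Normalizes x B) : ∀ x ∈ N ⊔ S, Normalizes x B := by
  have : N ⊔ S ≤ Subgroup.normalizer (B : Set Γ) := by
    apply sup_le
    · intro x hx
      exact normalizes_iff_mem_normalizer.1 (hN x hx)
    · intro x hx
      exact normalizes_iff_mem_normalizer.1 (hS x hx)
  intro x hx
  exact normalizes_iff_mem_normalizer.2 (this hx)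

/-- The `p`-group correspondence when `S` acts through a `p`-group quotient. -/
theorem glauProp_quot {p : ℕ} (hp : p.Prime) {B S T P : Subgroup Γ} [Fintype B]
    (hSB : ∀ x ∈ S, Normalizes x B) (hT : ∀ t ∈ T, ∀ b ∈ B, t * b = b * t)
    (hP : ∃ n, Nat.card P = p ^ n) (hsup : T ⊔ P = S) (hcop : (Nat.card B).Coprime p)
    (C : Subgroup Γ) [Fintype C] (hC : C = B ⊓ Subgroup.centralizer (S : Set Γ)) (hCB : C ≤ B) :
    GlauProp p B C hCB (fun ψ => InvS S B (ψ : B → ℂ)) := by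
  obtain ⟨n, hn⟩ := hP
  have hPS : P ≤ S := hsup ▸ le_sup_right
  have hTS : T ≤ S := hsup ▸ le_sup_left
  have hPB : ∀ x ∈ P, Normalizes x B := fun x hx => hSB x (hPS hx)
  have hC' : C = B ⊓ Subgroup.centralizer (P : Set Γ) := by
    rw [hC]
    apply le_antisymm
    · exact inf_le_inf_left _ (Subgroup.centralizer_le hPS)
    · intro x hx
      obtain ⟨hxB, hxP⟩ := Subgroup.mem_inf.1 hx
      refine Subgroup.mem_inf.2 ⟨hxB, ?_⟩
      have hle : S ≤ Subgroup.centralizer ({x} : Set Γ) := by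
        rw [← hsup]
        apply sup_le
        · intro t ht
          rw [Subgroup.mem_centralizer_iff]
          intro y hy
          rw [Set.mem_singleton_iff.1 hy]
          exact (hT t ht x hxB).symm
        · intro y hy
          rw [Subgroup.mem_centralizer_iff]
          intro z hz
          rw [Set.mem_singleton_iff.1 hz]
          exact ((Subgroup.mem_centralizer_iff.1 hxP) y hy).symm
      rw [Subgroup.mem_centralizer_iff]
      intro s hs
      exact ((Subgroup.mem_centralizer_iff.1 (hle hs)) x rfl).symm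
  have h1 := glauProp_pgroup hp n B P hn hPB hcop C hC' hCB
  refine GlauProp.congr_inv ?_ h1
  intro ψ
  constructor
  · intro h
    rw [← hsup]
    exact (invS_sup (normalizes_of_central hT) hPB).2 ⟨invS_of_central hT _, h⟩
  · intro h x hx
    exact h x (hPS hx)

/-- Equivariance of the correspondence, in counting form. -/
theorem GlauProp.card_inv {p : ℕ} (hp : p.Prime) {B C S N : Subgroup Γ} [Fintype B] [Fintype C]
    {hCB : C ≤ B} (hg : GlauProp p B C hCB (fun ψ => InvS S B (ψ : B → ℂ)))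
    (hNB : ∀ x ∈ N, Normalizes x B) (hNC : ∀ x ∈ N, Normalizes x C)
    (hNS : ∀ x ∈ N, Normalizes x S) :
    Nat.card {ψ : IrrCharacter B // InvS S B (ψ : B → ℂ) ∧ InvS N B (ψ : B → ℂ)}
      = Nat.card {β : IrrCharacter C // InvS N C (β : C → ℂ)} := by
  classical
  apply card_eq_of_rel
    (X := {ψ : IrrCharacter B // InvS S B (ψ : B → ℂ) ∧ InvS N B (ψ : B → ℂ)})
    (Y := {β : IrrCharacter C // InvS N C (β : C → ℂ)}) (fun ψ β => ∃ m : ℕ,
    classInner (fun c : C => ((ψ.1 : IrrCharacter B) : B → ℂ) ⟨c, hCB c.2⟩)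
      ((β.1 : IrrCharacter C) : C → ℂ) = m ∧ ¬ p ∣ m)
  · rintro ⟨ψ, hψS, hψN⟩
    obtain ⟨β, ε, hε, hc⟩ := hg.corr ψ hψS
    obtain ⟨m, hm, hpm⟩ := GlauProp.not_dvd_self hp hε hc
    refine ⟨⟨β, ?_⟩, m, hm, hpm⟩
    intro x hx
    show InvElt x C (β : C → ℂ)
    rw [invElt_iff (hNC x hx)]
    set β' : IrrCharacter C := ⟨conjChar (hNC x hx) (β : C → ℂ), isIrrCharacter_conjChar _ β.2⟩
      with hβ'
    have h1 := classInner_conjChar hCB (hNB x hx) (hNC x hx) (ψ : B → ℂ) (β : C → ℂ)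
    have h2 : conjChar (hNB x hx) (ψ : B → ℂ) = (ψ : B → ℂ) := by
      funext g
      exact (invElt_iff (hNB x hx) _).1 (hψN x hx) g
    rw [h2, hm] at h1
    have h3 : β' = β := GlauProp.eq_of_not_dvd hc (γ := β') h1 hpm
    intro g
    have := congrArg (fun b : IrrCharacter C => (b : C → ℂ) g) h3
    exact this
  · rintro ⟨β, hβN⟩
    obtain ⟨ψ, hψS, m, hm, hpm⟩ := hg.surj β
    refine ⟨⟨ψ, hψS, ?_⟩, m, hm, hpm⟩
    intro x hx
    show InvElt x B (ψ : B → ℂ)
    rw [invElt_iff (hNB x hx)]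
    set ψ' : IrrCharacter B := ⟨conjChar (hNB x hx) (ψ : B → ℂ), isIrrCharacter_conjChar _ ψ.2⟩
      with hψ'
    have hψ'S : InvS S B (ψ' : B → ℂ) := by
      intro s hs g g' hgg
      show (ψ : B → ℂ) (conjE (hNB x hx) g') = (ψ : B → ℂ) (conjE (hNB x hx) g)
      apply hψS (x * s * x⁻¹) ((hNS x hx s).1 hs)
      rw [conjE_coe, conjE_coe, hgg]
      group
    have h1 := classInner_conjChar hCB (hNB x hx) (hNC x hx) (ψ : B → ℂ) (β : C → ℂ)
    have h2 : conjChar (hNC x hx) (β : C → ℂ) = (β : C → ℂ) := by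
      funext g
      exact (invElt_iff (hNC x hx) _).1 (hβN x hx) g
    rw [h2, hm] at h1
    have h3 : ψ' = ψ := hg.inj ψ' ψ hψ'S hψS β m m h1 hpm hm hpm
    intro g
    have := congrArg (fun b : IrrCharacter B => (b : B → ℂ) g) h3
    exact this
  · rintro ⟨ψ, hψS, hψN⟩ ⟨β, hβ⟩ ⟨β', hβ'⟩ ⟨m, hm, hpm⟩ ⟨m', hm', hpm'⟩
    obtain ⟨β₀, ε, hε, hc⟩ := hg.corr ψ hψS
    have e1 : β = β₀ := GlauProp.eq_of_not_dvd hc hm hpm
    have e2 : β' = β₀ := GlauProp.eq_of_not_dvd hc hm' hpm'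
    apply Subtype.ext
    show β = β'
    rw [e1, e2]
  · rintro ⟨ψ, hψS, hψN⟩ ⟨ψ', hψ'S, hψ'N⟩ ⟨β, hβ⟩ ⟨m, hm, hpm⟩ ⟨m', hm', hpm'⟩
    apply Subtype.ext
    exact hg.inj ψ ψ' hψS hψ'S β m m' hm hpm hm' hpm'

end

end Cfsg.Agent.Lib.Helper8
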