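import Mathlib
import Cfsg.Prelude.Def_Characters
import Cfsg.Agent.Lib.Helper8.GL19
import Cfsg.Agent.Lib.Lead.CoprimeAction

/-!
# Counting invariant characters under a solvable group of operators: the induction
-/

set_option autoImplicit false
set_option linter.unusedSectionVars false

namespace Cfsg.Agent.Lib.Helper8

open Cfsg
open scoped ComplexConjugate
open Cfsg.Agent.Lib.Helper1 Cfsg.Agent.Lib.Helper4

universe u

section

variable {Γ : Type u} [Group Γ]

theorem conj_mem_inf_centralizer {x : Γ} {H T : Subgroup Γ} (hH : Normalizes x H)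
    (hT : Normalizes x T) {g : Γ} (hg : g ∈ H ⊓ Subgroup.centralizer (T : Set Γ)) :
    x * g * x⁻¹ ∈ H ⊓ Subgroup.centralizer (T : Set Γ) := by
  have hg' := Subgroup.mem_inf.1 hg
  refine Subgroup.mem_inf.2 ⟨(hH g).1 hg'.1, ?_⟩
  rw [Subgroup.mem_centralizer_iff]
  intro t ht
  have ht' : x⁻¹ * t * x ∈ T := by
    have := (hT.inv t).1 ht
    simpa using this
  have hc := (Subgroup.mem_centralizer_iff.1 hg'.2) _ ht'
  calc t * (x * g * x⁻¹) = x * ((x⁻¹ * t * x) * g) * x⁻¹ := by group
    _ = x * (g * (x⁻¹ * t * x)) * x⁻¹ := by rw [hc]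
    _ = x * g * x⁻¹ * t := by group

theorem normalizes_inf_centralizer {x : Γ} {H T : Subgroup Γ} (hH : Normalizes x H)
    (hT : Normalizes x T) : Normalizes x (H ⊓ Subgroup.centralizer (T : Set Γ)) := by
  intro g
  refine ⟨conj_mem_inf_centralizer hH hT, fun h => ?_⟩
  have := conj_mem_inf_centralizer hH.inv hT.inv h
  simpa [mul_assoc] using this

theorem invS_bot (H : Subgroup Γ) (χ : H → ℂ) : InvS (⊥ : Subgroup Γ) H χ := by
  intro s hs
  rw [Subgroup.mem_bot.1 hs]
  exact InvElt.one H χ

variable [Fintype Γ]

/-- The number of characters of `H` invariant under `S` and `N` equals the number of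
`N`-invariant characters of `C_H(S)`, for `S` solvable of order prime to `|H|` normalised
by `N`. -/
theorem glau_count : ∀ (k : ℕ) (H S N : Subgroup Γ) [Fintype H], Nat.card S ≤ k →
    Group.IsSolvable S → (∀ x ∈ S, Normalizes x H) → (∀ x ∈ N, Normalizes x H) →
    (∀ x ∈ N, Normalizes x S) → (Nat.card H).Coprime (Nat.card S) →
    ∀ (C : Subgroup Γ) [Fintype C] (_ : C = H ⊓ Subgroup.centralizer (S : Set Γ)),
    Nat.card {χ : IrrCharacter H // InvS S H (χ : H → ℂ) ∧ InvS N H (χ : H → ℂ)}
      = Nat.card {β : IrrCharacter C // InvS N C (β : C → ℂ)} := by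
  intro k
  induction k with
  | zero =>
    intro H S N _ hk
    exfalso
    have : 0 < Nat.card S := Nat.card_pos
    omega
  | succ k ih =>
    intro H S N _ hk hsolv hSH hNH hNS hcop C _ hC
    by_cases hS : S = ⊥
    · subst hS
      rw [centralizer_bot_inf] at hC
      subst hC
      apply Nat.card_congr (Equiv.subtypeEquivRight ?_)
      intro χ
      constructor
      · rintro ⟨_, h⟩
        exact h
      · intro h
        exact ⟨invS_bot _ _, h⟩
    · obtain ⟨p, hp, hpS, hne⟩ := exists_opS_ne hS hsolv
      haveI : Fact p.Prime := ⟨hp⟩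
      set T : Subgroup Γ := opS p S with hT
      have hTS : T ≤ S := opS_le p S
      obtain P : Sylow p S := default
      set P' : Subgroup Γ := (P : Subgroup S).map S.subtype with hP'
      have hsup : T ⊔ P' = S := opS_sup_sylow S P
      have hcardT : Nat.card T ≤ k := by
        have h1 : Nat.card T ≤ Nat.card S := Subgroup.card_le_of_le hTS
        have h2 : Nat.card T ≠ Nat.card S := by
          intro h
          exact hne (Subgroup.eq_of_le_of_card_ge hTS h.ge)
        omega
      set N' : Subgroup Γ := N ⊔ S with hN'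
      set B : Subgroup Γ := H ⊓ Subgroup.centralizer (T : Set Γ) with hB
      haveI : Fintype B := Fintype.ofFinite _
      have hN'H : ∀ x ∈ N', Normalizes x H := normalizes_sup hNH hSH
      have hNT : ∀ x ∈ N, Normalizes x T := fun x hx => opS_normalizes (hNS x hx)
      have hST : ∀ x ∈ S, Normalizes x T := fun x hx => opS_normalizes (normalizes_of_mem hx)
      have hN'T : ∀ x ∈ N', Normalizes x T := normalizes_sup hNT hST
      have hsolvT : Group.IsSolvable T := by
        haveI := hsolv
        exact Cfsg.Agent.Lib.Lead.isSolvable_of_le hTS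
      have hcopT : (Nat.card H).Coprime (Nat.card T) :=
        Nat.Coprime.coprime_dvd_right (Subgroup.card_dvd_of_le hTS) hcop
      have h1 := ih H T N' hcardT hsolvT (fun x hx => hSH x (hTS hx)) hN'H hN'T hcopT B rfl
      have e1 : Nat.card {χ : IrrCharacter H // InvS S H (χ : H → ℂ) ∧ InvS N H (χ : H → ℂ)}
          = Nat.card {χ : IrrCharacter H // InvS T H (χ : H → ℂ) ∧ InvS N' H (χ : H → ℂ)} := by
        apply Nat.card_congr (Equiv.subtypeEquivRight ?_)
        intro χ
        rw [invS_sup hNH hSH]
        constructor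
        · rintro ⟨h1, h2⟩
          exact ⟨fun x hx => h1 x (hTS hx), h2, h1⟩
        · rintro ⟨_, h2, h3⟩
          exact ⟨h3, h2⟩
      have hNB : ∀ x ∈ N, Normalizes x B := fun x hx =>
        normalizes_inf_centralizer (hNH x hx) (hNT x hx)
      have hSB : ∀ x ∈ S, Normalizes x B := fun x hx =>
        normalizes_inf_centralizer (hSH x hx) (hST x hx)
      have e2 : Nat.card {ψ : IrrCharacter B // InvS N' B (ψ : B → ℂ)}
          = Nat.card {ψ : IrrCharacter B // InvS S B (ψ : B → ℂ) ∧ InvS N B (ψ : B → ℂ)} := by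
        apply Nat.card_congr (Equiv.subtypeEquivRight ?_)
        intro ψ
        rw [invS_sup hNB hSB]
        exact and_comm
      have hcent : ∀ t ∈ T, ∀ b ∈ B, t * b = b * t := fun t ht b hb =>
        (Subgroup.mem_centralizer_iff.1 (Subgroup.mem_inf.1 hb).2) t ht
      have hCB : C ≤ B := by
        rw [hC]
        exact inf_le_inf_left _ (Subgroup.centralizer_le hTS)
      have hC' : C = B ⊓ Subgroup.centralizer (S : Set Γ) := by
        rw [hC, hB, inf_assoc, inf_eq_right.2 (Subgroup.centralizer_le hTS)]
      have hcopB : (Nat.card B).Coprime p := by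
        have h3 : (Nat.card H).Coprime p := Nat.Coprime.coprime_dvd_right hpS hcop
        exact Nat.Coprime.coprime_dvd_left (Subgroup.card_dvd_of_le inf_le_left) h3
      have hP'card : ∃ n, Nat.card P' = p ^ n :=
        IsPGroup.iff_card.1 (P.isPGroup'.map S.subtype)
      have hg := glauProp_quot hp hSB hcent hP'card hsup hcopB C hC' hCB
      have hNC : ∀ x ∈ N, Normalizes x C := by
        intro x hx
        rw [hC]
        exact normalizes_inf_centralizer (hNH x hx) (hNS x hx)
      have h2 := GlauProp.card_inv hp hg hNB hNC hNS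
      rw [e1, h1, e2, h2]

end

end Cfsg.Agent.Lib.Helper8
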