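import Mathlib
import Cfsg.Prelude.Def_Characters
import Cfsg.Agent.Lib.Helper8.GL20
import Cfsg.Agent.Lib.Lead.Glauberman

/-!
# Counting invariant conjugacy classes under a solvable group of operators of coprime order
-/

set_option autoImplicit false
set_option linter.unusedSectionVars false

namespace Cfsg.Agent.Lib.Helper8

open Cfsg
open scoped ComplexConjugate
open Cfsg.Agent.Lib.Helper1 Cfsg.Agent.Lib.Helper4

universe u

section

variable {Γ : Type u} [Group Γ]

theorem mk_eq_mk_iff_sub {G : Subgroup Γ} (x y : G) :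
    ConjClasses.mk x = ConjClasses.mk y ↔ ∃ a ∈ G, a * x * a⁻¹ = y := by
  rw [ConjClasses.mk_eq_mk_iff_isConj, isConj_iff]
  constructor
  · rintro ⟨a, ha⟩
    exact ⟨a, a.2, congrArg Subtype.val ha⟩
  · rintro ⟨a, haG, ha⟩
    exact ⟨⟨a, haG⟩, Subtype.ext ha⟩

/-- The conjugation action on `G` of a subgroup `L` normalising it. -/
def conjHom {L G : Subgroup Γ} (h : ∀ l ∈ L, Normalizes l G) : L →* MulAut G where
  toFun l := conjE (h l l.2)
  map_one' := by
    ext g
    rw [conjE_coe]
    simp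
  map_mul' a b := by
    ext g
    rw [MulAut.mul_apply, conjE_coe, conjE_coe, conjE_coe]
    push_cast
    group

/-- The conjugation action on `G` of a subgroup `L` normalising it. -/
@[reducible] def conjMulAction {L G : Subgroup Γ} (h : ∀ l ∈ L, Normalizes l G) :
    MulAction L G := MulAction.compHom G (conjHom h)

theorem conjMulAction_smul_coe {L G : Subgroup Γ} (h : ∀ l ∈ L, Normalizes l G) (l : L) (g : G) :
    letI := conjMulAction h
    ((l • g : G) : Γ) = l * g * (l : Γ)⁻¹ := rfl

variable [Fintype Γ]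

theorem normal_subgroupOf_sup {G S : Subgroup Γ} (hnorm : ∀ s ∈ S, Normalizes s G) :
    (G.subgroupOf (G ⊔ S)).Normal := by
  rw [Subgroup.normal_subgroupOf_iff_le_normalizer le_sup_left]
  apply sup_le Subgroup.le_normalizer
  intro s hs
  exact normalizes_iff_mem_normalizer.1 (hnorm s hs)

theorem card_subgroupOf_of_le {A L : Subgroup Γ} (h : A ≤ L) :
    Nat.card (A.subgroupOf L) = Nat.card A :=
  Nat.card_congr (Subgroup.subgroupOfEquivOfLe h).toEquiv

theorem isComplement'_sup {G S : Subgroup Γ} (hnorm : ∀ s ∈ S, Normalizes s G)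
    (hcop : (Nat.card G).Coprime (Nat.card S)) :
    Subgroup.IsComplement' (G.subgroupOf (G ⊔ S)) (S.subgroupOf (G ⊔ S)) := by
  haveI := normal_subgroupOf_sup hnorm
  apply Subgroup.isComplement'_of_disjoint_and_mul_eq_univ
  · apply Subgroup.disjoint_of_coprime_natCard
    rw [card_subgroupOf_of_le le_sup_left, card_subgroupOf_of_le le_sup_right]
    exact hcop
  · rw [← Subgroup.normal_mul, ← Subgroup.subgroupOf_sup le_sup_left le_sup_right,
      Subgroup.subgroupOf_self]
    rfl

theorem index_subgroupOf_sup {G S : Subgroup Γ} (hnorm : ∀ s ∈ S, Normalizes s G)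
    (hcop : (Nat.card G).Coprime (Nat.card S)) :
    (G.subgroupOf (G ⊔ S)).index = Nat.card S := by
  have h1 := (isComplement'_sup hnorm hcop).card_mul_card
  rw [← (G.subgroupOf (G ⊔ S)).card_mul_index, card_subgroupOf_of_le le_sup_right] at h1
  exact (Nat.eq_of_mul_eq_mul_left Nat.card_pos h1).symm

theorem isSolvable_quot_sup {G S : Subgroup Γ} (hnorm : ∀ s ∈ S, Normalizes s G)
    (hcop : (Nat.card G).Coprime (Nat.card S)) (hsolv : Group.IsSolvable S) :
    haveI := normal_subgroupOf_sup hnorm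
    Group.IsSolvable ((G ⊔ S : Subgroup Γ) ⧸ G.subgroupOf (G ⊔ S)) := by
  haveI hn := normal_subgroupOf_sup hnorm
  have hsurj : Function.Surjective ((QuotientGroup.mk' (G.subgroupOf (G ⊔ S))).comp
      (Subgroup.inclusion (le_sup_right : S ≤ G ⊔ S))) := by
    intro y
    induction y using QuotientGroup.induction_on with
    | H x =>
      obtain ⟨⟨k, h⟩, hkh, _⟩ := (isComplement'_sup hnorm hcop).existsUnique x
      refine ⟨⟨((h : (G ⊔ S : Subgroup Γ)) : Γ), Subgroup.mem_subgroupOf.1 h.2⟩, ?_⟩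
      rw [MonoidHom.comp_apply, QuotientGroup.mk'_apply]
      symm
      rw [QuotientGroup.eq]
      have e1 : Subgroup.inclusion (le_sup_right : S ≤ G ⊔ S)
          ⟨((h : (G ⊔ S : Subgroup Γ)) : Γ), Subgroup.mem_subgroupOf.1 h.2⟩
          = (h : (G ⊔ S : Subgroup Γ)) := Subtype.ext rfl
      rw [e1]
      simp only at hkh
      rw [← hkh]
      have e2 : ((k : (G ⊔ S : Subgroup Γ)) * (h : (G ⊔ S : Subgroup Γ)))⁻¹ *
          (h : (G ⊔ S : Subgroup Γ)) =
          (h : (G ⊔ S : Subgroup Γ))⁻¹ * (k : (G ⊔ S : Subgroup Γ))⁻¹ *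
            (h : (G ⊔ S : Subgroup Γ))⁻¹⁻¹ := by group
      rw [e2]
      exact hn.conj_mem _ (inv_mem k.2) _
  haveI := hsolv
  exact Group.isSolvable_of_surjective hsurj

end

end Cfsg.Agent.Lib.Helper8
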