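import Mathlib
import Cfsg.Prelude.Def_Characters
import Cfsg.Agent.Lib.Helper8.GL21

/-!
# Counting invariant conjugacy classes under a solvable group of operators of coprime order
-/

set_option autoImplicit false
set_option linter.unusedSectionVars false

namespace Cfsg.Agent.Lib.Helper8

open Cfsg
open scoped ComplexConjugate
open Cfsg.Agent.Lib.Helper1 Cfsg.Agent.Lib.Helper4

universe u

section

variable {Γ : Type u} [Group Γ] [Fintype Γ]

/-- The invariance of a class under `S`, in the form used in the statements. -/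
def InvClass (S G : Subgroup Γ) (K : ConjClasses G) : Prop :=
  ∀ s ∈ S, ∀ g g' : G, (g' : Γ) = s * g * s⁻¹ → ConjClasses.mk g = K → ConjClasses.mk g' = K

/-- Glauberman's lemma applied to an invariant class. -/
theorem invClass_fixed {G S : Subgroup Γ} (hnorm : ∀ s ∈ S, Normalizes s G)
    (hcop : (Nat.card G).Coprime (Nat.card S)) (hsolv : Group.IsSolvable S)
    (K : ConjClasses G) (hK : InvClass S G K) :
    (∃ x : G, ConjClasses.mk x = K ∧ (x : Γ) ∈ Subgroup.centralizer (S : Set Γ)) ∧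
    ∀ x y : G, ConjClasses.mk x = K → ConjClasses.mk y = K →
      (x : Γ) ∈ Subgroup.centralizer (S : Set Γ) → (y : Γ) ∈ Subgroup.centralizer (S : Set Γ) →
      ∃ k ∈ G ⊓ Subgroup.centralizer (S : Set Γ), k * x * k⁻¹ = y := by
  classical
  have hLG : ∀ l ∈ G ⊔ S, Normalizes l G :=
    normalizes_sup (fun x hx => normalizes_of_mem hx) hnorm
  haveI hKn := normal_subgroupOf_sup hnorm
  have hc := isComplement'_sup hnorm hcop
  have hidx := index_subgroupOf_sup hnorm hcop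
  have hsq := isSolvable_quot_sup hnorm hcop hsolv
  letI := conjMulAction hLG
  have hkey : ∀ (g : G) (l : (G ⊔ S : Subgroup Γ)), ConjClasses.mk g = K →
      ConjClasses.mk (l • g) = K := by
    intro g l hg
    obtain ⟨⟨k, h⟩, hkh, _⟩ := hc.existsUnique l
    have hh : (((h : (G ⊔ S : Subgroup Γ))) : Γ) ∈ S := Subgroup.mem_subgroupOf.1 h.2
    have hk : (((k : (G ⊔ S : Subgroup Γ))) : Γ) ∈ G := Subgroup.mem_subgroupOf.1 k.2
    have h1 : ConjClasses.mk ((h : (G ⊔ S : Subgroup Γ)) • g) = K := hK _ hh g _ rfl hg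
    rw [← h1]
    symm
    rw [mk_eq_mk_iff_sub]
    refine ⟨_, hk, ?_⟩
    simp only at hkh
    rw [conjMulAction_smul_coe, conjMulAction_smul_coe, ← hkh]
    push_cast
    group
  obtain ⟨g₀, hg₀⟩ := ConjClasses.exists_rep K
  haveI : Nonempty (MulAction.orbit (G ⊔ S : Subgroup Γ) g₀) :=
    ⟨⟨g₀, MulAction.mem_orbit_self g₀⟩⟩
  have hmk : ∀ x : MulAction.orbit (G ⊔ S : Subgroup Γ) g₀, ConjClasses.mk (x : G) = K := by
    rintro ⟨x, l, rfl⟩
    exact hkey g₀ l hg₀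
  have hmem : ∀ x : G, ConjClasses.mk x = K → x ∈ MulAction.orbit (G ⊔ S : Subgroup Γ) g₀ := by
    intro x hx
    rw [← hg₀] at hx
    obtain ⟨a, haG, ha⟩ := (mk_eq_mk_iff_sub _ _).1 hx.symm
    refine ⟨⟨a, le_sup_left (a := G) haG⟩, ?_⟩
    apply Subtype.ext
    exact ha
  have htrans : MulAction.IsPretransitive (G.subgroupOf (G ⊔ S))
      (MulAction.orbit (G ⊔ S : Subgroup Γ) g₀) := by
    constructor
    intro x y
    have h1 : ConjClasses.mk (x : G) = ConjClasses.mk (y : G) := by rw [hmk x, hmk y]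
    obtain ⟨a, haG, ha⟩ := (mk_eq_mk_iff_sub _ _).1 h1
    refine ⟨⟨⟨a, le_sup_left (a := G) haG⟩, Subgroup.mem_subgroupOf.2 haG⟩, ?_⟩
    apply Subtype.ext
    apply Subtype.ext
    exact ha
  have hcop' : (Nat.card (G.subgroupOf (G ⊔ S))).Coprime (G.subgroupOf (G ⊔ S)).index := by
    rw [card_subgroupOf_of_le le_sup_left, hidx]
    exact hcop
  obtain ⟨⟨x, hxfix⟩, hconj⟩ := Cfsg.Agent.Lib.Lead.glauberman_lemma
    (X := MulAction.orbit (G ⊔ S : Subgroup Γ) g₀) (G.subgroupOf (G ⊔ S))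
    (S.subgroupOf (G ⊔ S)) hc hcop' (Or.inr hsq) htrans
  -- fixed under `S.subgroupOf L` iff centralised by `S`
  have hfix_iff : ∀ x : MulAction.orbit (G ⊔ S : Subgroup Γ) g₀,
      (∀ h ∈ S.subgroupOf (G ⊔ S), h • x = x) ↔
        (((x : G) : Γ)) ∈ Subgroup.centralizer (S : Set Γ) := by
    intro x
    rw [Subgroup.mem_centralizer_iff]
    constructor
    · intro h s hs
      have h1 := h ⟨s, le_sup_right (b := S) hs⟩ (Subgroup.mem_subgroupOf.2 hs)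
      have h2 : (s : Γ) * ((x : G) : Γ) * s⁻¹ = ((x : G) : Γ) :=
        congrArg (fun z : MulAction.orbit (G ⊔ S : Subgroup Γ) g₀ => ((z : G) : Γ)) h1
      calc s * ((x : G) : Γ) = (s * ((x : G) : Γ) * s⁻¹) * s := by group
        _ = ((x : G) : Γ) * s := by rw [h2]
    · intro h l hl
      apply Subtype.ext
      apply Subtype.ext
      show (l : Γ) * ((x : G) : Γ) * (l : Γ)⁻¹ = ((x : G) : Γ)
      rw [h _ (Subgroup.mem_subgroupOf.1 hl)]
      group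
  refine ⟨⟨(x : G), hmk x, (hfix_iff x).1 hxfix⟩, ?_⟩
  intro x y hx hy hxc hyc
  obtain ⟨k, hk, hkxy⟩ := hconj ⟨x, hmem x hx⟩ ⟨y, hmem y hy⟩
    ((hfix_iff ⟨x, hmem x hx⟩).2 hxc) ((hfix_iff ⟨y, hmem y hy⟩).2 hyc)
  obtain ⟨hk1, hk2⟩ := Subgroup.mem_inf.1 hk
  refine ⟨((k : (G ⊔ S : Subgroup Γ)) : Γ), Subgroup.mem_inf.2
    ⟨Subgroup.mem_subgroupOf.1 hk1, ?_⟩, ?_⟩
  · rw [Subgroup.mem_centralizer_iff]
    intro s hs
    have h1 := (Subgroup.mem_centralizer_iff.1 hk2) ⟨s, le_sup_right (b := S) hs⟩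
      (Subgroup.mem_subgroupOf.2 hs)
    exact congrArg Subtype.val h1
  · exact congrArg (fun z : MulAction.orbit (G ⊔ S : Subgroup Γ) g₀ => ((z : G) : Γ)) hkxy

/-- The number of `S`-invariant classes of `G` is the class number of `C_G(S)`. -/
theorem class_count {G S : Subgroup Γ} (hnorm : ∀ s ∈ S, Normalizes s G)
    (hcop : (Nat.card G).Coprime (Nat.card S)) (hsolv : Group.IsSolvable S)
    (C : Subgroup Γ) (hC : C = G ⊓ Subgroup.centralizer (S : Set Γ)) :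
    Nat.card {K : ConjClasses G // InvClass S G K} = Nat.card (ConjClasses C) := by
  have hCG : C ≤ G := hC ▸ inf_le_left
  have hCS : ∀ c ∈ C, c ∈ Subgroup.centralizer (S : Set Γ) := fun c hc =>
    (Subgroup.mem_inf.1 (hC ▸ hc)).2
  apply card_eq_of_rel (X := {K : ConjClasses G // InvClass S G K}) (Y := ConjClasses C)
    (fun K κ => ∃ c : C, ConjClasses.mk c = κ ∧ ConjClasses.mk (⟨c, hCG c.2⟩ : G) = K.1)
  · rintro ⟨K, hK⟩
    obtain ⟨⟨x, hx, hxc⟩, _⟩ := invClass_fixed hnorm hcop hsolv K hK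
    have hxC : (x : Γ) ∈ C := by
      rw [hC]
      exact Subgroup.mem_inf.2 ⟨x.2, hxc⟩
    exact ⟨ConjClasses.mk ⟨x, hxC⟩, ⟨x, hxC⟩, rfl, hx⟩
  · intro κ
    obtain ⟨c, hc⟩ := ConjClasses.exists_rep κ
    refine ⟨⟨ConjClasses.mk ⟨c, hCG c.2⟩, ?_⟩, c, hc, rfl⟩
    intro s hs g g' hgg hg
    obtain ⟨a, haG, ha⟩ := (mk_eq_mk_iff_sub _ _).1 hg
    rw [mk_eq_mk_iff_sub]
    refine ⟨s * a * s⁻¹, (hnorm s hs a).1 haG, ?_⟩
    have h1 := (Subgroup.mem_centralizer_iff.1 (hCS c c.2)) s hs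
    show s * a * s⁻¹ * (g' : Γ) * (s * a * s⁻¹)⁻¹ = (c : Γ)
    have ha' : a * (g : Γ) * a⁻¹ = (c : Γ) := ha
    rw [hgg]
    calc s * a * s⁻¹ * (s * (g : Γ) * s⁻¹) * (s * a * s⁻¹)⁻¹
        = s * (a * (g : Γ) * a⁻¹) * s⁻¹ := by group
      _ = s * (c : Γ) * s⁻¹ := by rw [ha']
      _ = (c : Γ) * s * s⁻¹ := by rw [h1]
      _ = (c : Γ) := by group
  · rintro ⟨K, hK⟩ κ κ' ⟨c, hc, hcK⟩ ⟨c', hc', hcK'⟩
    obtain ⟨_, huniq⟩ := invClass_fixed hnorm hcop hsolv K hK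
    obtain ⟨k, hk, hkc⟩ := huniq ⟨c, hCG c.2⟩ ⟨c', hCG c'.2⟩ hcK hcK' (hCS c c.2) (hCS c' c'.2)
    rw [← hc, ← hc', mk_eq_mk_iff_sub]
    exact ⟨k, hC ▸ hk, hkc⟩
  · rintro ⟨K, hK⟩ ⟨K', hK'⟩ κ ⟨c, hc, hcK⟩ ⟨c', hc', hcK'⟩
    apply Subtype.ext
    show K = K'
    simp only at hcK hcK'
    rw [← hcK, ← hcK']
    rw [← hc'] at hc
    obtain ⟨a, haC, ha⟩ := (mk_eq_mk_iff_sub _ _).1 hc
    rw [mk_eq_mk_iff_sub]
    exact ⟨a, hCG haC, ha⟩

end

end Cfsg.Agent.Lib.Helper8
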