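import Mathlib
import Cfsg.Prelude.Def_Characters
import Cfsg.Prelude.Def_Blocks
import Cfsg.Agent.Lib.Helper8.GL22
import Cfsg.Agent.Lib.Helper8.Cover1
import Cfsg.Agent.S0887

/-!
# Characters of degree prime to the index of a normal subgroup of coprime index
-/

set_option autoImplicit false
set_option linter.unusedSectionVars false

namespace Cfsg.Agent.Lib.Helper8

open Cfsg
open scoped ComplexConjugate
open Cfsg.Agent.Lib.Helper1 Cfsg.Agent.Lib.Helper4 Cfsg.Agent.Lib.Helper2.DetChar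
  Cfsg.Agent.Lib.Helper2.LinExt

universe u

/-- A character containing an irreducible character of the same degree equals it. -/
theorem char_eq_irr_of_degree_eq {K : Type u} [Group K] [Fintype K] {ψ : K → ℂ}
    (hψ : IsCharacter K ψ) (θ : IrrCharacter K) (hne : classInner ψ (θ : K → ℂ) ≠ 0)
    (hdeg : ψ 1 = (θ : K → ℂ) 1) : ψ = (θ : K → ℂ) := by
  classical
  haveI : Fintype (IrrCharacter K) := Fintype.ofFinite _
  have hexp := class_function_expansion ψ (isClassFunction_of_isCharacter hψ)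
  have hm : ∀ φ : IrrCharacter K, ∃ m : ℕ, classInner ψ (φ : K → ℂ) = m := fun φ =>
    classInner_char_irr_nat hψ φ.2
  have hd : ∀ φ : IrrCharacter K, ∃ d : ℕ, 0 < d ∧ (φ : K → ℂ) 1 = d := fun φ =>
    irr_apply_one_pos φ.2
  choose m hm using hm
  choose d hd0 hd using hd
  have h1 : (d θ : ℂ) = ((∑ φ : IrrCharacter K, m φ * d φ : ℕ) : ℂ) := by
    rw [← hd θ, ← hdeg]
    conv_lhs => rw [hexp]
    rw [Finset.sum_apply]
    push_cast
    refine Finset.sum_congr rfl fun φ _ => ?_
    rw [Pi.smul_apply, smul_eq_mul, hm φ, hd φ]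
  have h2 : d θ = ∑ φ : IrrCharacter K, m φ * d φ := by exact_mod_cast h1
  have hmθ : 0 < m θ := by
    rcases Nat.eq_zero_or_pos (m θ) with h | h
    · exfalso
      apply hne
      rw [hm θ, h]
      simp
    · exact h
  rw [← Finset.add_sum_erase Finset.univ (fun φ => m φ * d φ) (Finset.mem_univ θ)] at h2
  have h3 : m θ * d θ ≤ d θ := by omega
  have h4 : m θ = 1 := by
    have : m θ ≤ 1 := by
      by_contra hcon
      push Not at hcon
      have : 2 * d θ ≤ m θ * d θ := Nat.mul_le_mul_right _ hcon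
      have := hd0 θ
      omega
    omega
  have h5 : ∑ φ ∈ Finset.univ.erase θ, m φ * d φ = 0 := by
    rw [h4] at h2
    omega
  have h6 : ∀ φ : IrrCharacter K, φ ≠ θ → m φ = 0 := by
    intro φ hφ
    have := (Finset.sum_eq_zero_iff.1 h5) φ (Finset.mem_erase.2 ⟨hφ, Finset.mem_univ φ⟩)
    rcases Nat.mul_eq_zero.1 this with h | h
    · exact h
    · exact absurd h (hd0 φ).ne'
  rw [hexp]
  rw [Finset.sum_eq_single θ]
  · rw [hm θ, h4]
    simp
  · intro φ _ hφ
    rw [hm φ, h6 φ hφ]
    simp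
  · intro h
    exact absurd (Finset.mem_univ θ) h

section

variable {Γ : Type u} [Group Γ] [Fintype Γ]

/-- An irreducible character of degree prime to the index of a normal subgroup restricts
irreducibly. -/
theorem restrict_irr_of_coprime (K : Subgroup Γ) [hK : K.Normal] [Fintype K] {χ : Γ → ℂ}
    (hχ : IsIrrCharacter Γ χ) (hcop : (charDegree χ).Coprime K.index) :
    IsIrrCharacter K (fun n : K => χ n) := by
  classical
  obtain ⟨c, hc0, hc⟩ := irr_apply_one_pos hχ
  have hres : IsCharacter K (fun n : K => χ n) :=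
    Cfsg.Agent.S0148.isCharacter_restrict K (isCharacter_of_irr hχ)
  obtain ⟨θ, hθ⟩ := exists_irr_constituent hres (by
    rw [OneMemClass.coe_one]; exact irr_apply_one_ne_zero hχ)
  obtain ⟨d, hd0, hd⟩ := irr_apply_one_pos θ.2
  obtain ⟨h1, h2⟩ := Cfsg.Agent.S0887.result K χ hχ (θ : K → ℂ) θ.2 hθ c d hc hd
  rw [charDegree_of_apply_one hc] at hcop
  have h3 : c / d ∣ c := Nat.div_dvd_of_dvd h1
  have h4 : c / d = 1 := Nat.eq_one_of_dvd_coprimes hcop h3 h2
  have h5 : c = d := by
    have := Nat.div_mul_cancel h1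
    rw [h4, one_mul] at this
    exact this.symm
  have h6 : (fun n : K => χ n) = (θ : K → ℂ) := by
    apply char_eq_irr_of_degree_eq hres θ hθ
    rw [OneMemClass.coe_one, hc, hd, h5]
  rw [h6]
  exact θ.2

/-- A linear character trivial on `K` fixing (by multiplication) an irreducible character of
degree prime to the index of `K` is trivial. -/
theorem hom_eq_one_of_mul_eq (K : Subgroup Γ) [hK : K.Normal] {η : Γ → ℂ}
    (hη : IsIrrCharacter Γ η) (hcop : (charDegree η).Coprime K.index) (μ : Γ →* ℂˣ)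
    (hμK : ∀ n : K, μ (n : Γ) = 1) (hfix : ∀ g, ((μ g : ℂˣ) : ℂ) * η g = η g) : μ = 1 := by
  obtain ⟨m, σ, hirr, rfl⟩ := hη
  have hm : charDegree σ.character = m := by
    apply charDegree_of_apply_one
    rw [Representation.char_one]
    simp
  rw [hm] at hcop
  have h1 := detChar_twist μ σ
  have h2 : (fun g => ((μ g : ℂˣ) : ℂ) * σ.character g) = σ.character := funext hfix
  rw [h2, detChar_eq] at h1
  refine MonoidHom.ext fun g => ?_
  have h3 := congrFun h1 g
  rw [coeHom_apply] at h3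
  have h4 : ((μ g : ℂˣ) : ℂ) ^ m = 1 := by
    have hne : ((detHom σ g : ℂˣ) : ℂ) ≠ 0 := Units.ne_zero _
    have h5 : ((μ g : ℂˣ) : ℂ) ^ m * ((detHom σ g : ℂˣ) : ℂ) = 1 * ((detHom σ g : ℂˣ) : ℂ) := by
      rw [one_mul]; exact h3.symm
    exact mul_right_cancel₀ hne h5
  have h6 : μ g ^ m = 1 := by
    apply Units.ext
    rw [Units.val_pow_eq_pow_val, h4]
    rfl
  have h7 : μ g ^ K.index = 1 := by
    rw [← map_pow]
    exact hμK ⟨g ^ K.index, Subgroup.pow_index_mem K g⟩
  have h8 := pow_gcd_eq_one.2 ⟨h6, h7⟩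
  rw [Nat.Coprime.gcd_eq_one hcop, pow_one] at h8
  rw [h8]
  rfl

end

end Cfsg.Agent.Lib.Helper8
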