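import Mathlib
import Cfsg.Prelude.Def_Blocks
import Cfsg.Agent.S0169
import Cfsg.Agent.S0187
import Cfsg.Agent.Lib.Helper2.CliffordDeg
import Cfsg.Agent.Lib.Helper8.Deflation
import Cfsg.Agent.Lib.Helper8.GL3

/-!
# The Itô–Michler theorem for solvable groups
-/

set_option autoImplicit false

namespace Cfsg.Agent.Lib.Helper8

open Cfsg Cfsg.Agent.Lib.Helper1 Cfsg.Agent.Lib.Helper4
open scoped ComplexConjugate commutatorElement

universe u

section

variable {G : Type u} [Group G]

/-- A nontrivial solvable group has a nontrivial abelian normal subgroup. -/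
theorem exists_abelian_normal_IM [Group.IsSolvable G] [Nontrivial G] :
    ∃ A : Subgroup G, A.Normal ∧ A ≠ ⊥ ∧ ∀ a ∈ A, ∀ b ∈ A, a * b = b * a := by
  classical
  have hex : ∃ n, derivedSeries G n = ⊥ := (Group.isSolvable_def G).mp inferInstance
  have hk := Nat.find_spec hex
  have hk0 : Nat.find hex ≠ 0 := by
    intro h0
    rw [h0, derivedSeries_zero] at hk
    exact top_ne_bot hk
  obtain ⟨j, hj⟩ := Nat.exists_eq_succ_of_ne_zero hk0
  refine ⟨derivedSeries G j, inferInstance, ?_, ?_⟩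
  · exact Nat.find_min hex (by omega)
  · intro a ha b hb
    rw [hj, derivedSeries_succ] at hk
    have : ⁅a, b⁆ ∈ (⊥ : Subgroup G) := by
      rw [← hk]
      exact Subgroup.commutator_mem_commutator ha hb
    rw [Subgroup.mem_bot] at this
    exact (commutatorElement_eq_one_iff_mul_comm.mp this)

/-- Itô's theorem for irreducible characters. -/
theorem charDegree_dvd_index_of_abelian [Finite G] (A : Subgroup G) [A.Normal]
    (hA : ∀ a ∈ A, ∀ b ∈ A, a * b = b * a) (θ : IrrCharacter G) :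
    charDegree (θ : G → ℂ) ∣ A.index := by
  obtain ⟨n, ρ, hirr, hχ⟩ := θ.2
  haveI := hirr
  have h1 := Cfsg.Agent.S0169.result ρ A hA
  have h2 : charDegree (θ : G → ℂ) = n := by
    apply charDegree_of_apply_one
    rw [← hχ, Representation.char_one]
    simp
  rw [h2]
  simpa using h1

/-- The subgroup of `p`-elements of an abelian normal subgroup. -/
def pPartSubgroup (p : ℕ) (K : Subgroup G) (hK : ∀ a ∈ K, ∀ b ∈ K, a * b = b * a) : Subgroup G where
  carrier := {g | g ∈ K ∧ ∃ n : ℕ, g ^ (p ^ n) = 1}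
  one_mem' := ⟨K.one_mem, 0, one_pow _⟩
  mul_mem' := by
    rintro a b ⟨ha, n, hn⟩ ⟨hb, m, hm⟩
    refine ⟨K.mul_mem ha hb, n + m, ?_⟩
    have hc : Commute a b := hK a ha b hb
    rw [hc.mul_pow, pow_add, pow_mul, hn, one_pow, one_mul, mul_comm (p ^ n), pow_mul, hm, one_pow]
  inv_mem' := by
    rintro a ⟨ha, n, hn⟩
    exact ⟨K.inv_mem ha, n, by rw [inv_pow, hn, inv_one]⟩

theorem mem_pPartSubgroup {p : ℕ} {K : Subgroup G} {hK : ∀ a ∈ K, ∀ b ∈ K, a * b = b * a} {g : G} :
    g ∈ pPartSubgroup p K hK ↔ g ∈ K ∧ ∃ n : ℕ, g ^ (p ^ n) = 1 := Iff.rfl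

theorem pPartSubgroup_spec [Finite G] {p : ℕ} [hp : Fact p.Prime] (K : Subgroup G) [hKn : K.Normal]
    (hK : ∀ a ∈ K, ∀ b ∈ K, a * b = b * a) (hidx : ¬ p ∣ K.index) :
    (pPartSubgroup p K hK).Normal ∧
      (∀ x ∈ pPartSubgroup p K hK, ∀ y ∈ pPartSubgroup p K hK, x * y = y * x) ∧
      IsPGroup p (pPartSubgroup p K hK) ∧ ¬ p ∣ (pPartSubgroup p K hK).index := by
  refine ⟨⟨?_⟩, ?_, ?_, ?_⟩
  · rintro a ⟨ha, n, hn⟩ g
    refine ⟨hKn.conj_mem a ha g, n, ?_⟩
    rw [conj_pow, hn, mul_one, mul_inv_cancel]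
  · intro x hx y hy
    exact hK x hx.1 y hy.1
  · rintro ⟨g, hg, n, hn⟩
    exact ⟨n, Subtype.ext hn⟩
  · let S : Sylow p G := default
    have hle : (S : Subgroup G) ≤ pPartSubgroup p K hK := by
      intro s hs
      obtain ⟨k, hk⟩ := S.isPGroup' ⟨s, hs⟩
      have hk' : s ^ (p ^ k) = 1 := congrArg Subtype.val hk
      refine ⟨?_, k, hk'⟩
      have h1 : s ^ K.index ∈ K := Subgroup.pow_index_mem K s
      have hcop : Nat.Coprime K.index (p ^ k) :=
        Nat.Coprime.pow_right _ (Nat.Coprime.symm ((Nat.Prime.coprime_iff_not_dvd hp.1).2 hidx))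
      have hb := Nat.gcd_eq_gcd_ab K.index (p ^ k)
      rw [hcop.gcd_eq_one] at hb
      have h2 : s = (s ^ K.index) ^ (Nat.gcdA K.index (p ^ k)) := by
        calc s = s ^ ((1 : ℕ) : ℤ) := by simp
          _ = s ^ ((K.index : ℤ) * Nat.gcdA K.index (p ^ k) +
              ((p ^ k : ℕ) : ℤ) * Nat.gcdB K.index (p ^ k)) := by rw [hb]
          _ = (s ^ K.index) ^ (Nat.gcdA K.index (p ^ k)) := by
              rw [zpow_add, zpow_mul, zpow_mul, zpow_natCast, zpow_natCast, hk', one_zpow, mul_one]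
      rw [h2]
      exact K.zpow_mem h1 _
    intro hdvd
    exact S.not_dvd_index (hdvd.trans (Subgroup.index_dvd_of_le hle))

end

/-- Solvable case of the Itô–Michler theorem: if no irreducible character degree is divisible by
`p` then there is a normal abelian Sylow `p`-subgroup. -/
theorem exists_normal_abelian_sylow_of_solvable (p : ℕ) [hp : Fact p.Prime] :
    ∀ (n : ℕ) (G : Type u) [Group G] [Finite G], Nat.card G = n → Group.IsSolvable G →
      (∀ χ : IrrCharacter G, ¬ p ∣ charDegree (χ : G → ℂ)) →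
      ∃ P : Subgroup G, P.Normal ∧ (∀ x ∈ P, ∀ y ∈ P, x * y = y * x) ∧ IsPGroup p P ∧
        ¬ p ∣ P.index := by
  intro n
  induction n using Nat.strong_induction_on with
  | _ n ih =>
  intro G _ _ hn hsolv hdeg
  classical
  haveI := hsolv
  rcases subsingleton_or_nontrivial G with hsub | hnt
  · refine ⟨⊥, inferInstance, ?_, IsPGroup.of_bot, ?_⟩
    · intro x _ y _
      rw [Subsingleton.elim x y]
    · rw [Subgroup.index_bot, Nat.card_eq_one_iff_unique.2 ⟨hsub, ⟨1⟩⟩]
      exact hp.1.one_lt.ne' ∘ Nat.dvd_one.1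
  obtain ⟨A, hAn, hA1, hAc⟩ := exists_abelian_normal_IM (G := G)
  haveI := hAn
  -- the quotient
  have hcard : Nat.card (G ⧸ A) < n := by
    rw [← hn, Subgroup.card_eq_card_quotient_mul_card_subgroup A]
    have h1 : 1 < Nat.card A := by
      rw [Subgroup.one_lt_card_iff_ne_bot]
      exact hA1
    have h2 : 0 < Nat.card (G ⧸ A) := Nat.card_pos
    nlinarith
  have hdegQ : ∀ χ : IrrCharacter (G ⧸ A), ¬ p ∣ charDegree (χ : G ⧸ A → ℂ) := by
    intro χ
    have := hdeg ⟨_, isIrrCharacter_inflation A χ.2⟩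
    have h2 : charDegree (fun g : G => (χ : G ⧸ A → ℂ) (QuotientGroup.mk g)) =
        charDegree (χ : G ⧸ A → ℂ) := by
      unfold charDegree
      simp only [QuotientGroup.mk_one]
    rw [← h2]
    exact this
  obtain ⟨Pbar, hPn, hPc, hPp, hPidx⟩ := ih _ hcard (G ⧸ A) rfl
    inferInstance hdegQ
  haveI := hPn
  set K := Pbar.comap (QuotientGroup.mk' A) with hK
  haveI hKn : K.Normal := Subgroup.Normal.comap hPn _
  have hAK : A ≤ K := by
    intro a ha
    rw [hK, Subgroup.mem_comap, QuotientGroup.mk'_apply, (QuotientGroup.eq_one_iff a).2 ha]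
    exact Pbar.one_mem
  have hKidx : ¬ p ∣ K.index := by
    rw [hK, Subgroup.index_comap_of_surjective _ (QuotientGroup.mk'_surjective A)]
    exact hPidx
  -- the index of `A` in `K` is a power of `p`
  obtain ⟨k, hk⟩ := IsPGroup.iff_card.1 hPp
  have hAKidx : (A.subgroupOf K).index = p ^ k := by
    have h1 := Subgroup.card_mul_index (A.subgroupOf K)
    have h2 : Nat.card (A.subgroupOf K) = Nat.card A :=
      Nat.card_congr (Subgroup.subgroupOfEquivOfLe hAK).toEquiv
    have h3 : Nat.card K = Nat.card Pbar * Nat.card A := by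
      have h4 := Subgroup.card_mul_index K
      have h5 := Subgroup.card_mul_index Pbar
      have h6 := Subgroup.index_comap_of_surjective Pbar (QuotientGroup.mk'_surjective A)
      have h7 := Subgroup.card_eq_card_quotient_mul_card_subgroup A
      rw [← hK] at h6
      have h8 : K.index ≠ 0 := Subgroup.index_ne_zero_of_finite
      apply Nat.eq_of_mul_eq_mul_right (Nat.pos_of_ne_zero h8)
      rw [h4, h7, ← h5, h6]
      ring
    rw [h2, h3, hk] at h1
    have hA0 : 0 < Nat.card A := Nat.card_pos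
    apply Nat.eq_of_mul_eq_mul_left hA0
    rw [h1]; ring
  -- every irreducible character of `K` is linear
  haveI : Fintype G := Fintype.ofFinite G
  haveI : Fintype K := Fintype.ofFinite K
  have hlin : ∀ θ : IrrCharacter K, (θ : K → ℂ) 1 = 1 := by
    intro θ
    haveI : (A.subgroupOf K).Normal := inferInstance
    have h1 : charDegree (θ : K → ℂ) ∣ p ^ k := by
      rw [← hAKidx]
      apply charDegree_dvd_index_of_abelian (A.subgroupOf K) _ θ
      intro a ha b hb
      apply Subtype.ext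
      exact hAc a ha b hb
    obtain ⟨χ, hχ, hc⟩ := Cfsg.Agent.Lib.Helper2.CliffordDeg.exists_irr_over K θ.2
    obtain ⟨a, ha⟩ := isCharacter_apply_one (isCharacter_of_irr θ.2)
    obtain ⟨b, hb⟩ := isCharacter_apply_one (isCharacter_of_irr hχ)
    have h2 : a ∣ b := Cfsg.Agent.Lib.Helper2.CliffordDeg.degree_dvd_of_constituent K hχ θ.2 hc ha hb
    have h3 : charDegree (θ : K → ℂ) = a := charDegree_of_apply_one ha
    have h4 : charDegree χ = b := charDegree_of_apply_one hb
    have h5 : ¬ p ∣ a := by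
      intro h
      apply hdeg ⟨χ, hχ⟩
      rw [h4]
      exact h.trans h2
    rw [h3] at h1
    obtain ⟨j, _, hj⟩ := (Nat.dvd_prime_pow hp.1).1 h1
    have hj0 : j = 0 := by
      by_contra hne
      apply h5
      rw [hj]
      exact dvd_pow_self p hne
    rw [ha, hj, hj0, pow_zero, Nat.cast_one]
  have hKc : ∀ a b : K, a * b = b * a := (Cfsg.Agent.S0187.result).2 hlin
  have hKc' : ∀ a ∈ K, ∀ b ∈ K, a * b = b * a := by
    intro a ha b hb
    exact congrArg Subtype.val (hKc ⟨a, ha⟩ ⟨b, hb⟩)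
  exact ⟨pPartSubgroup p K hKc', pPartSubgroup_spec K hKc' hKidx⟩

end Cfsg.Agent.Lib.Helper8
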