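import Mathlib
import Cfsg.Prelude.Def_Blocks
import Cfsg.Prelude.Def_Local
import Cfsg.Agent.S0136
import Cfsg.Agent.S0887
import Cfsg.Agent.Lib.Helper8.IM1
import Cfsg.Agent.Lib.Helper8.ConjCover
import Cfsg.Agent.Lib.Helper7.PSolvable

/-!
# The Itô–Michler theorem for `p`-solvable groups: class-preserving coprime actions
-/

set_option autoImplicit false

namespace Cfsg.Agent.Lib.Helper8

open Cfsg Cfsg.Agent.Lib.Helper1 Cfsg.Agent.Lib.Helper4
open scoped ComplexConjugate commutatorElement Pointwise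

universe u

section

variable {G : Type u} [Group G]

/-- If an irreducible character `χ` of `G` lies over an irreducible character `ψ` of `N` of the
same degree then `χ` restricts to `ψ`. -/
theorem restrict_eq_of_degree_eq [Fintype G] (N : Subgroup G) [Fintype N] {χ : G → ℂ}
    (hχ : IsIrrCharacter G χ) {ψ : N → ℂ} (hψ : IsIrrCharacter N ψ)
    (hc : classInner (fun n : N => χ n) ψ ≠ 0) (hdeg : χ 1 = ψ 1) (n : N) : χ n = ψ n := by
  classical
  haveI : Fintype (IrrCharacter N) := Fintype.ofFinite _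
  have hres : IsCharacter N (fun n : N => χ n) :=
    Cfsg.Agent.S0148.isCharacter_restrict N (isCharacter_of_irr hχ)
  have hexp := class_function_expansion _ (isClassFunction_of_isCharacter hres)
  have hm : ∀ φ : IrrCharacter N, ∃ m : ℕ, classInner (fun n : N => χ n) φ = m := fun φ =>
    classInner_char_irr_nat hres φ.2
  choose m hm using hm
  have hd : ∀ φ : IrrCharacter N, ∃ d : ℕ, (φ : N → ℂ) 1 = d := fun φ =>
    isCharacter_apply_one (isCharacter_of_irr φ.2)
  choose d hd using hd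
  have hdpos : ∀ φ : IrrCharacter N, 0 < d φ := by
    intro φ
    rcases Nat.eq_zero_or_pos (d φ) with h | h
    · exfalso
      apply irr_apply_one_ne_zero φ.2
      rw [hd, h, Nat.cast_zero]
    · exact h
  set ψ₀ : IrrCharacter N := ⟨ψ, hψ⟩ with hψ₀
  have h1 := congrFun hexp 1
  rw [Finset.sum_apply] at h1
  have hnat : d ψ₀ = ∑ φ : IrrCharacter N, m φ * d φ := by
    have : (d ψ₀ : ℂ) = ((∑ φ : IrrCharacter N, m φ * d φ : ℕ) : ℂ) := by
      rw [← hd ψ₀]
      change ψ 1 = _
      rw [← hdeg]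
      change χ ((1 : N) : G) = _
      rw [h1]
      push_cast
      refine Finset.sum_congr rfl fun φ _ => ?_
      rw [Pi.smul_apply, smul_eq_mul, hm, hd]
    exact_mod_cast this
  have hmpos : 0 < m ψ₀ := by
    rcases Nat.eq_zero_or_pos (m ψ₀) with h | h
    · exfalso
      apply hc
      have := hm ψ₀
      rw [h, Nat.cast_zero] at this
      exact this
    · exact h
  rw [← Finset.add_sum_erase _ _ (Finset.mem_univ ψ₀)] at hnat
  have hge : d ψ₀ ≤ m ψ₀ * d ψ₀ := Nat.le_mul_of_pos_left _ hmpos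
  have hrest : ∑ φ ∈ Finset.univ.erase ψ₀, m φ * d φ = 0 := by omega
  have hm1 : m ψ₀ = 1 := by
    have h2 : m ψ₀ * d ψ₀ = 1 * d ψ₀ := by omega
    exact Nat.eq_of_mul_eq_mul_right (hdpos ψ₀) h2
  have hm0 : ∀ φ : IrrCharacter N, φ ≠ ψ₀ → m φ = 0 := by
    intro φ hφ
    have h2 := (Finset.sum_eq_zero_iff.1 hrest) φ (Finset.mem_erase.2 ⟨hφ, Finset.mem_univ _⟩)
    rcases Nat.mul_eq_zero.1 h2 with h | h
    · exact h
    · exact absurd h (hdpos φ).ne'
  have h3 := congrFun hexp n
  rw [Finset.sum_apply, Finset.sum_eq_single ψ₀] at h3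
  · rw [h3, Pi.smul_apply, hm, hm1, Nat.cast_one, one_smul]
  · intro φ _ hφ
    rw [Pi.smul_apply, hm, hm0 φ hφ, Nat.cast_zero, zero_smul]
  · intro h
    exact absurd (Finset.mem_univ _) h

/-- If `N` is normal in `G` of `p`-power index and all irreducible characters of `G` have degree
prime to `p`, then conjugation by any element of `G` preserves each conjugacy class of `N`. -/
theorem isConj_conj_of_pprime [Finite G] (p : ℕ) [hp : Fact p.Prime] (N : Subgroup G)
    [hN : N.Normal] (k : ℕ) (hidx : N.index = p ^ k)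
    (hdeg : ∀ ψ : IrrCharacter G, ¬ p ∣ charDegree (ψ : G → ℂ)) (g : G) (n : N) :
    IsConj n (⟨g * n * g⁻¹, hN.conj_mem n n.2 g⟩ : N) := by
  classical
  haveI : Fintype G := Fintype.ofFinite G
  haveI : Fintype N := Fintype.ofFinite N
  rw [Cfsg.Agent.S0136.result]
  intro μ
  obtain ⟨χ, hχ, hc⟩ := Cfsg.Agent.Lib.Helper2.CliffordDeg.exists_irr_over N μ.2
  obtain ⟨d, hd⟩ := isCharacter_apply_one (isCharacter_of_irr μ.2)
  obtain ⟨c, hcc⟩ := isCharacter_apply_one (isCharacter_of_irr hχ)
  obtain ⟨h1, h2⟩ := Cfsg.Agent.S0887.result N χ hχ (μ : N → ℂ) μ.2 hc c d hcc hd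
  have h3 : charDegree χ = c := charDegree_of_apply_one hcc
  have h4 : ¬ p ∣ c := by
    rw [← h3]
    exact hdeg ⟨χ, hχ⟩
  have h5 : c / d = 1 := by
    rw [hidx] at h2
    obtain ⟨j, _, hj⟩ := (Nat.dvd_prime_pow hp.1).1 h2
    rcases Nat.eq_zero_or_pos j with h | h
    · rw [hj, h, pow_zero]
    · exfalso
      apply h4
      have h6 : c / d ∣ c := Nat.div_dvd_of_dvd h1
      rw [hj] at h6
      exact (dvd_pow_self p h.ne').trans h6
  have h6 : d = c := Nat.eq_of_dvd_of_div_eq_one h1 h5
  have h7 : χ 1 = (μ : N → ℂ) 1 := by rw [hcc, hd, h6]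
  have h8 := restrict_eq_of_degree_eq N hχ μ.2 hc h7
  rw [← h8, ← h8]
  have hcf := isClassFunction_of_isCharacter (isCharacter_of_irr hχ)
  exact (hcf n g).symm

/-- The conjugation action of a subgroup `P` on a class of `N` that it preserves. -/
@[reducible] def classAction (N : Subgroup G) [hN : N.Normal] (P : Subgroup G)
    (hcl : ∀ x ∈ P, ∀ n : N, IsConj n (⟨x * n * x⁻¹, hN.conj_mem n n.2 x⟩ : N)) (n : N) :
    MulAction P (MulAction.orbit (ConjAct N) n) where
  smul x m := ⟨⟨(x : G) * (m : N) * (x : G)⁻¹, hN.conj_mem _ (m : N).2 _⟩, by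
    have h1 := ConjAct.mem_orbit_conjAct.1 m.2
    have h2 := hcl x x.2 (m : N)
    exact ConjAct.mem_orbit_conjAct.2 (h2.symm.trans h1)⟩
  one_smul m := by
    apply Subtype.ext
    apply Subtype.ext
    show ((1 : P) : G) * ((m : N) : G) * ((1 : P) : G)⁻¹ = _
    rw [Subgroup.coe_one, one_mul, inv_one, mul_one]
  mul_smul x y m := by
    apply Subtype.ext
    apply Subtype.ext
    show ((x * y : P) : G) * ((m : N) : G) * ((x * y : P) : G)⁻¹ =
      (x : G) * ((y : G) * ((m : N) : G) * (y : G)⁻¹) * (x : G)⁻¹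
    rw [Subgroup.coe_mul, mul_inv_rev]
    group

/-- A `p`-group preserving the classes of a normal `p'`-subgroup fixes an element in each
class. -/
theorem exists_fixed_conj [Finite G] (p : ℕ) [hp : Fact p.Prime] (N : Subgroup G)
    [hN : N.Normal] (hNp : (Nat.card N).Coprime p) (P : Subgroup G) (hP : IsPGroup p P)
    (hcl : ∀ x ∈ P, ∀ n : N, IsConj n (⟨x * n * x⁻¹, hN.conj_mem n n.2 x⟩ : N)) (n : N) :
    ∃ m : N, IsConj n m ∧ ∀ x ∈ P, x * (m : G) = (m : G) * x := by
  classical
  letI := classAction N P hcl n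
  have hcard : ¬ p ∣ Nat.card (MulAction.orbit (ConjAct N) n) := by
    intro hdvd
    rw [Nat.card_coe_set_eq, ← MulAction.index_stabilizer] at hdvd
    have h1 : (MulAction.stabilizer (ConjAct N) n).index ∣ Nat.card (ConjAct N) :=
      Subgroup.index_dvd_card _
    have h2 : Nat.card (ConjAct N) = Nat.card N := rfl
    rw [h2] at h1
    have h3 : p ∣ Nat.card N := hdvd.trans h1
    have h4 : p ∣ Nat.gcd (Nat.card N) p := Nat.dvd_gcd h3 dvd_rfl
    rw [hNp] at h4
    exact hp.1.one_lt.ne' (Nat.dvd_one.1 h4)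
  obtain ⟨m, hm⟩ := hP.nonempty_fixed_point_of_prime_not_dvd_card
    (MulAction.orbit (ConjAct N) n) hcard
  refine ⟨(m : N), (ConjAct.mem_orbit_conjAct.1 m.2).symm, ?_⟩
  intro x hx
  have h1 := MulAction.mem_fixedPoints.1 hm ⟨x, hx⟩
  have h2 : x * ((m : N) : G) * x⁻¹ = ((m : N) : G) :=
    congrArg (fun z : MulAction.orbit (ConjAct N) n => ((z : N) : G)) h1
  calc x * ((m : N) : G) = x * ((m : N) : G) * x⁻¹ * x := by group
    _ = ((m : N) : G) * x := by rw [h2]

/-- A `p`-group preserving the classes of a normal `p'`-subgroup centralizes it. -/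
theorem centralizes_of_class_preserving [Finite G] (p : ℕ) [hp : Fact p.Prime] (N : Subgroup G)
    [hN : N.Normal] (hNp : (Nat.card N).Coprime p) (P : Subgroup G) (hP : IsPGroup p P)
    (hcl : ∀ x ∈ P, ∀ n : N, IsConj n (⟨x * n * x⁻¹, hN.conj_mem n n.2 x⟩ : N)) :
    ∀ x ∈ P, ∀ n ∈ N, x * n = n * x := by
  classical
  set C₀ : Subgroup N := (Subgroup.centralizer (P : Set G)).subgroupOf N with hC₀
  have htop : C₀ = ⊤ := by
    by_contra hne
    obtain ⟨x, hx⟩ := exists_not_mem_conj_smul C₀ hne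
    obtain ⟨m, hm1, hm2⟩ := exists_fixed_conj p N hNp P hP hcl x
    obtain ⟨c, hc⟩ := isConj_iff.1 hm1
    apply hx c⁻¹
    have h1 : m ∈ C₀ := by
      rw [hC₀, Subgroup.mem_subgroupOf, Subgroup.mem_centralizer_iff]
      intro h hh
      exact hm2 h hh
    have h2 := Subgroup.smul_mem_pointwise_smul m (MulAut.conj c⁻¹) C₀ h1
    have h3 : MulAut.conj c⁻¹ • m = x := by
      rw [MulAut.smul_def, MulAut.conj_apply, ← hc]
      group
    rw [← h3]
    exact h2
  intro x hx n hn
  have h1 : (⟨n, hn⟩ : N) ∈ C₀ := by rw [htop]; exact Subgroup.mem_top _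
  rw [hC₀, Subgroup.mem_subgroupOf, Subgroup.mem_centralizer_iff] at h1
  exact h1 x hx

/-- A finite group with a normal `p'`-subgroup of `p`-power index and abelian quotient, all of
whose irreducible characters have degree prime to `p`, has a normal abelian Sylow
`p`-subgroup. -/
theorem sylow_normal_of_pprime_degrees [Finite G] (p : ℕ) [hp : Fact p.Prime] (N : Subgroup G)
    [hN : N.Normal] (hNp : (Nat.card N).Coprime p) (k : ℕ) (hidx : N.index = p ^ k)
    (hab : ∀ a b : G, ⁅a, b⁆ ∈ N)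
    (hdeg : ∀ ψ : IrrCharacter G, ¬ p ∣ charDegree (ψ : G → ℂ)) (Q : Sylow p G) :
    (Q : Subgroup G).Normal ∧ ∀ a ∈ (Q : Subgroup G), ∀ b ∈ (Q : Subgroup G), a * b = b * a := by
  classical
  have hcl : ∀ x ∈ (Q : Subgroup G), ∀ n : N,
      IsConj n (⟨x * n * x⁻¹, hN.conj_mem n n.2 x⟩ : N) := by
    intro x _ n
    exact isConj_conj_of_pprime p N k hidx hdeg x n
  have hcen := centralizes_of_class_preserving p N hNp (Q : Subgroup G) Q.isPGroup' hcl
  have hcop : (Nat.card N).Coprime (Nat.card (Q : Subgroup G)) := by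
    obtain ⟨j, hj⟩ := IsPGroup.iff_card.1 Q.isPGroup'
    rw [hj]
    exact Nat.Coprime.pow_right _ hNp
  constructor
  · rw [← Subgroup.normalizer_eq_top_iff]
    have h1 : N ≤ Subgroup.normalizer ((Q : Subgroup G) : Set G) := by
      intro n hn
      rw [Subgroup.mem_normalizer_iff]
      intro h
      constructor
      · intro hh
        have h2 := hcen h hh n hn
        have h3 : n * h * n⁻¹ = h := by rw [← h2]; group
        rw [h3]; exact hh
      · intro hh
        have h2 := hcen _ hh n hn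
        have h3 : h = n * h * n⁻¹ := by
          have h4 : n * h * n⁻¹ * n = n * (n * h * n⁻¹) := h2
          have h5 : n * h = n * (n * h * n⁻¹) := by rw [← h4]; group
          exact mul_left_cancel h5
        rw [h3]; exact hh
    have h2 : (Q : Subgroup G) ≤ Subgroup.normalizer ((Q : Subgroup G) : Set G) :=
      Subgroup.le_normalizer
    have h3 : N ⊔ (Q : Subgroup G) = ⊤ := by
      rw [← Subgroup.index_eq_one]
      have h4 : (N ⊔ (Q : Subgroup G)).index ∣ N.index := Subgroup.index_dvd_of_le le_sup_left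
      have h5 : (N ⊔ (Q : Subgroup G)).index ∣ (Q : Subgroup G).index :=
        Subgroup.index_dvd_of_le le_sup_right
      rw [hidx] at h4
      obtain ⟨j, _, hj⟩ := (Nat.dvd_prime_pow hp.1).1 h4
      rcases Nat.eq_zero_or_pos j with h | h
      · rw [hj, h, pow_zero]
      · exfalso
        apply Q.not_dvd_index
        rw [hj] at h5
        exact (dvd_pow_self p h.ne').trans h5
    rw [eq_top_iff, ← h3]
    exact sup_le h1 h2
  · intro a ha b hb
    have h1 : ⁅a, b⁆ ∈ N ⊓ (Q : Subgroup G) :=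
      ⟨hab a b, Subgroup.commutator_mem_commutator ha hb |> fun h =>
        (Subgroup.commutator_le_self (Q : Subgroup G)) h⟩
    rw [(Subgroup.disjoint_of_coprime_natCard hcop).eq_bot, Subgroup.mem_bot] at h1
    exact commutatorElement_eq_one_iff_mul_comm.1 h1

end

/-- The Itô–Michler theorem for `p`-solvable groups: if no irreducible character degree is
divisible by `p` then there is a normal abelian Sylow `p`-subgroup. -/
theorem exists_normal_abelian_sylow_of_pSolvable (p : ℕ) [hp : Fact p.Prime] :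
    ∀ (n : ℕ) (G : Type u) [Group G] [Finite G], Nat.card G = n → Cfsg.IsPSolvable p G →
      (∀ χ : IrrCharacter G, ¬ p ∣ charDegree (χ : G → ℂ)) →
      ∃ P : Subgroup G, P.Normal ∧ (∀ x ∈ P, ∀ y ∈ P, x * y = y * x) ∧ IsPGroup p P ∧
        ¬ p ∣ P.index := by
  intro n
  induction n using Nat.strong_induction_on with
  | _ n ih =>
  intro G _ _ hn hsolv hdeg
  classical
  rcases subsingleton_or_nontrivial G with hsub | hnt
  · refine ⟨⊥, inferInstance, ?_, IsPGroup.of_bot, ?_⟩
    · intro x _ y _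
      rw [Subsingleton.elim x y]
    · rw [Subgroup.index_bot, Nat.card_eq_one_iff_unique.2 ⟨hsub, ⟨1⟩⟩]
      exact hp.1.one_lt.ne' ∘ Nat.dvd_one.1
  obtain ⟨A, hAn, hA1, hAcase⟩ := Cfsg.Agent.Lib.Helper7.exists_normal_of_isPSolvable hsolv
  haveI := hAn
  -- the quotient
  have hcard : Nat.card (G ⧸ A) < n := by
    rw [← hn, Subgroup.card_eq_card_quotient_mul_card_subgroup A]
    have h1 : 1 < Nat.card A := by
      rw [Subgroup.one_lt_card_iff_ne_bot]
      exact hA1
    have h2 : 0 < Nat.card (G ⧸ A) := Nat.card_pos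
    nlinarith
  have hdegQ : ∀ χ : IrrCharacter (G ⧸ A), ¬ p ∣ charDegree (χ : G ⧸ A → ℂ) := by
    intro χ
    have := hdeg ⟨_, isIrrCharacter_inflation A χ.2⟩
    have h2 : charDegree (fun g : G => (χ : G ⧸ A → ℂ) (QuotientGroup.mk g)) =
        charDegree (χ : G ⧸ A → ℂ) := by
      unfold charDegree
      simp only [QuotientGroup.mk_one]
    rw [← h2]
    exact this
  obtain ⟨Pbar, hPn, hPc, hPp, hPidx⟩ := ih _ hcard (G ⧸ A) rfl
    (Cfsg.Agent.Lib.Helper7.isPSolvable_quotient hsolv A) hdegQ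
  haveI := hPn
  set K := Pbar.comap (QuotientGroup.mk' A) with hK
  haveI hKn : K.Normal := Subgroup.Normal.comap hPn _
  have hAK : A ≤ K := by
    intro a ha
    rw [hK, Subgroup.mem_comap, QuotientGroup.mk'_apply, (QuotientGroup.eq_one_iff a).2 ha]
    exact Pbar.one_mem
  have hKidx : ¬ p ∣ K.index := by
    rw [hK, Subgroup.index_comap_of_surjective _ (QuotientGroup.mk'_surjective A)]
    exact hPidx
  -- the index of `A` in `K` is a power of `p`
  obtain ⟨k, hk⟩ := IsPGroup.iff_card.1 hPp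
  have hKcard : Nat.card K = Nat.card Pbar * Nat.card A := by
    have h4 := Subgroup.card_mul_index K
    have h5 := Subgroup.card_mul_index Pbar
    have h6 := Subgroup.index_comap_of_surjective Pbar (QuotientGroup.mk'_surjective A)
    have h7 := Subgroup.card_eq_card_quotient_mul_card_subgroup A
    rw [← hK] at h6
    have h8 : K.index ≠ 0 := Subgroup.index_ne_zero_of_finite
    apply Nat.eq_of_mul_eq_mul_right (Nat.pos_of_ne_zero h8)
    rw [h4, h7, ← h5, h6]
    ring
  have hAKcard : Nat.card (A.subgroupOf K) = Nat.card A :=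
    Nat.card_congr (Subgroup.subgroupOfEquivOfLe hAK).toEquiv
  have hAKidx : (A.subgroupOf K).index = p ^ k := by
    have h1 := Subgroup.card_mul_index (A.subgroupOf K)
    rw [hAKcard, hKcard, hk] at h1
    have hA0 : 0 < Nat.card A := Nat.card_pos
    apply Nat.eq_of_mul_eq_mul_left hA0
    rw [h1]; ring
  haveI : Fintype G := Fintype.ofFinite G
  haveI : Fintype K := Fintype.ofFinite K
  -- every irreducible character of `K` has degree prime to `p`
  have hdegK : ∀ θ : IrrCharacter K, ¬ p ∣ charDegree (θ : K → ℂ) := by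
    intro θ
    obtain ⟨χ, hχ, hc⟩ := Cfsg.Agent.Lib.Helper2.CliffordDeg.exists_irr_over K θ.2
    obtain ⟨a, ha⟩ := isCharacter_apply_one (isCharacter_of_irr θ.2)
    obtain ⟨b, hb⟩ := isCharacter_apply_one (isCharacter_of_irr hχ)
    have h2 : a ∣ b := Cfsg.Agent.Lib.Helper2.CliffordDeg.degree_dvd_of_constituent K hχ θ.2 hc ha hb
    have h3 : charDegree (θ : K → ℂ) = a := charDegree_of_apply_one ha
    have h4 : charDegree χ = b := charDegree_of_apply_one hb
    intro h
    apply hdeg ⟨χ, hχ⟩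
    rw [h4]
    rw [h3] at h
    exact h.trans h2
  rcases hAcase with ⟨m, hm⟩ | hcop
  · -- `A` is a `p`-group, so `K` is a normal Sylow `p`-subgroup
    have hKp : Nat.card K = p ^ (k + m) := by rw [hKcard, hk, hm, pow_add]
    have hlin : ∀ θ : IrrCharacter K, (θ : K → ℂ) 1 = 1 := by
      intro θ
      have h1 : charDegree (θ : K → ℂ) ∣ p ^ (k + m) := by
        rw [← hKp]
        exact charDegree_dvd_card θ.2
      obtain ⟨a, ha⟩ := isCharacter_apply_one (isCharacter_of_irr θ.2)
      have h3 : charDegree (θ : K → ℂ) = a := charDegree_of_apply_one ha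
      obtain ⟨j, _, hj⟩ := (Nat.dvd_prime_pow hp.1).1 h1
      have hj0 : j = 0 := by
        by_contra hne
        apply hdegK θ
        rw [hj]
        exact dvd_pow_self p hne
      rw [ha, ← h3, hj, hj0, pow_zero, Nat.cast_one]
    have hKc : ∀ a b : K, a * b = b * a := (Cfsg.Agent.S0187.result).2 hlin
    refine ⟨K, hKn, ?_, IsPGroup.of_card hKp, hKidx⟩
    intro a ha b hb
    exact congrArg Subtype.val (hKc ⟨a, ha⟩ ⟨b, hb⟩)
  · -- `A` is a `p'`-group
    have hab : ∀ a b : K, ⁅a, b⁆ ∈ A.subgroupOf K := by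
      intro a b
      rw [Subgroup.mem_subgroupOf, ← QuotientGroup.eq_one_iff]
      have ha : (QuotientGroup.mk' A) (a : G) ∈ Pbar := a.2
      have hb : (QuotientGroup.mk' A) (b : G) ∈ Pbar := b.2
      have h1 := hPc _ ha _ hb
      have h2 : ((⁅a, b⁆ : K) : G) = ⁅(a : G), (b : G)⁆ := rfl
      rw [h2]
      have h3 : ((⁅(a : G), (b : G)⁆ : G) : G ⧸ A) =
          ⁅(QuotientGroup.mk' A) (a : G), (QuotientGroup.mk' A) (b : G)⁆ :=
        map_commutatorElement (QuotientGroup.mk' A) _ _
      rw [h3]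
      exact commutatorElement_eq_one_iff_mul_comm.2 h1
    have hcop' : (Nat.card (A.subgroupOf K)).Coprime p := by rw [hAKcard]; exact hcop
    let Q : Sylow p K := default
    obtain ⟨hQn, hQc⟩ := sylow_normal_of_pprime_degrees p (A.subgroupOf K) hcop' k hAKidx hab
      hdegK Q
    haveI := Sylow.characteristic_of_normal Q hQn
    refine ⟨(Q : Subgroup K).map K.subtype, ConjAct.normal_of_characteristic_of_normal, ?_,
      Q.isPGroup'.map _, ?_⟩
    · rintro x ⟨a, ha, rfl⟩ y ⟨b, hb, rfl⟩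
      rw [← map_mul, ← map_mul, hQc a ha b hb]
    · rw [Subgroup.index_map_subtype]
      intro hdvd
      rcases (Nat.Prime.dvd_mul hp.1).1 hdvd with h | h
      · exact Q.not_dvd_index h
      · exact hKidx h

end Cfsg.Agent.Lib.Helper8
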