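import Mathlib
import Cfsg.Prelude.Def_Characters
import Cfsg.Agent.Lib.Helper8.GP1
import Cfsg.Agent.Lib.Helper2.ChiefRestrict

/-!
# Clifford theory and power maps
-/

set_option autoImplicit false
set_option linter.unusedSectionVars false

namespace Cfsg.Agent.Lib.Helper8

open Cfsg
open scoped ComplexConjugate
open Cfsg.Agent.Lib.Helper1 Cfsg.Agent.Lib.Helper4 Cfsg.Agent.S0193 Cfsg.Agent.S0194

universe u

section

variable {G : Type u} [Group G] (N : Subgroup G) [hN : N.Normal]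

theorem conjFun_powFn (k : ℕ) (ψ : N → ℂ) (g : G) :
    Cfsg.Agent.S0193.conjFun N (powFn k ψ) g = powFn k (Cfsg.Agent.S0193.conjFun N ψ g) := by
  funext n
  show ψ (⟨g * n * g⁻¹, _⟩ ^ k) = ψ ⟨g * ((n ^ k : N) : G) * g⁻¹, _⟩
  congr 1
  apply Subtype.ext
  show (g * (n : G) * g⁻¹) ^ k = g * ((n ^ k : N) : G) * g⁻¹
  rw [Subgroup.coe_pow, conj_pow]

end

section

variable {G : Type u} [Group G] [Fintype G] (N : Subgroup G) [hN : N.Normal] [Fintype N]

/-- Clifford's theorem: the finite set of constituents, with membership characterised. -/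
theorem clifford_set {χ : G → ℂ} (hχ : IsIrrCharacter G χ) {θ : N → ℂ}
    (hθ : IsIrrCharacter N θ) (hcon : classInner (fun n : N => χ n) θ ≠ 0) :
    ∃ F : Finset (N → ℂ), (∀ ψ ∈ F, IsIrrCharacter N ψ) ∧ θ ∈ F ∧
      (∀ ψ ∈ F, ∃ g : G, ψ = Cfsg.Agent.S0193.conjFun N θ g) ∧ F.card ∣ N.index ∧
      (∀ ψ : N → ℂ, IsIrrCharacter N ψ → (classInner (fun n : N => χ n) ψ ≠ 0 ↔ ψ ∈ F)) := by
  classical
  obtain ⟨F, hFirr, hθF, hFconj, hFcard, hres⟩ :=
    Cfsg.Agent.Lib.Helper2.ChiefRestrict.clifford_finset N hχ hθ hcon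
  refine ⟨F, hFirr, hθF, hFconj, ?_, ?_⟩
  · have hNle : N ≤ inertia N θ := by
      intro n hn
      show Cfsg.Agent.S0193.conjFun N θ n = θ
      funext x
      have := isClassFunction_irr hθ x ⟨n, hn⟩
      exact this
    obtain ⟨m, hm⟩ := Subgroup.card_dvd_of_le hNle
    have h1 : Nat.card N * N.index = Nat.card G := Subgroup.card_mul_index N
    rw [hm, ← h1] at hFcard
    have h2 : Nat.card N * (F.card * m) = Nat.card N * N.index := by
      rw [← hFcard]; ring
    have h3 := Nat.eq_of_mul_eq_mul_left Nat.card_pos h2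
    exact ⟨m, h3.symm⟩
  · intro ψ hψ
    constructor
    · intro h
      by_contra hψF
      apply h
      rw [hres, classInner_smul_left, classInner_sum_left, Finset.sum_eq_zero, mul_zero]
      intro ψ' hψ'
      exact classInner_irr_ne (hFirr ψ' hψ') hψ (fun h => hψF (h ▸ hψ'))
    · intro hψF
      rw [hres, classInner_smul_left, classInner_sum_left, Finset.sum_eq_single ψ]
      · rw [classInner_irr_self hψ, mul_one]
        exact hcon
      · intro ψ' hψ' hne
        exact classInner_irr_ne (hFirr ψ' hψ') hψ hne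
      · intro h
        exact absurd hψF h

/-- **S4518**: constituents of a Galois-fixed character on a normal subgroup of index prime to `p`
are fixed by a Galois automorphism of `p`-power order. -/
theorem powFn_constituent_of_coprime_index (p : ℕ) [Fact p.Prime] (hidx : ¬ p ∣ N.index)
    (k e : ℕ) (hk : k.Coprime (Nat.card G)) (hke : k ^ (p ^ e) ≡ 1 [MOD Nat.card G])
    {χ : G → ℂ} (hχ : IsIrrCharacter G χ) (hχk : powFn k χ = χ) {θ : N → ℂ}
    (hθ : IsIrrCharacter N θ) (hcon : classInner (fun n : N => χ n) θ ≠ 0) :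
    powFn k θ = θ := by
  classical
  obtain ⟨F, hFirr, hθF, hFconj, hFcard, hFmem⟩ := clifford_set N hχ hθ hcon
  have hNG : Nat.card N ∣ Nat.card G := Subgroup.card_subgroup_dvd_card N
  have hkN : k.Coprime (Nat.card N) := Nat.Coprime.coprime_dvd_right hNG hk
  have hkeN : k ^ (p ^ e) ≡ 1 [MOD Nat.card N] := hke.of_dvd hNG
  have hpow : ∀ ψ ∈ F, powFn k ψ ∈ F := by
    intro ψ hψ
    apply (hFmem _ (isIrrCharacter_powFn hkN (hFirr ψ hψ))).1
    have h1 : (fun n : N => χ n) = powFn k (fun n : N => χ n) := by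
      rw [← powFn_restrict, hχk]
    rw [h1, classInner_powFn hkN]
    exact (hFmem ψ (hFirr ψ hψ)).2 hψ
  let f : Function.End {ψ // ψ ∈ F} := fun ψ => ⟨powFn k ψ.1, hpow ψ.1 ψ.2⟩
  have hiter : ∀ (j : ℕ) (ψ : {ψ // ψ ∈ F}), ((f ^ j) ψ).1 = (powFn k)^[j] ψ.1 := by
    intro j
    induction j with
    | zero => intro ψ; rfl
    | succ j ih =>
      intro ψ
      rw [pow_succ', Function.iterate_succ_apply']
      show powFn k ((f ^ j) ψ).1 = _
      rw [ih]
  have hf : f ^ p ^ e = 1 := by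
    funext ψ
    apply Subtype.ext
    rw [hiter, powFn_iterate, powFn_congr hkeN, powFn_one]
    rfl
  have hmod := Equiv.Perm.card_fixedPoints_modEq (p := p) (n := e) hf
  rw [Fintype.card_coe] at hmod
  have hne : Nonempty (Function.fixedPoints f) := by
    by_contra hcon'
    rw [not_nonempty_iff] at hcon'
    rw [Fintype.card_eq_zero] at hmod
    have h2 : p ∣ F.card := (Nat.modEq_zero_iff_dvd).1 hmod
    exact hidx (h2.trans hFcard)
  obtain ⟨⟨ψ₀, hψ₀⟩⟩ := hne
  have hfix : powFn k ψ₀.1 = ψ₀.1 := congrArg Subtype.val hψ₀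
  obtain ⟨g, hg⟩ := hFconj ψ₀.1 ψ₀.2
  have hθg : θ = Cfsg.Agent.S0193.conjFun N ψ₀.1 g⁻¹ := by
    rw [hg, Cfsg.Agent.S0194.conjFun_mul, mul_inv_cancel, Cfsg.Agent.S0194.conjFun_one]
  rw [hθg, ← conjFun_powFn, hfix]

end

end Cfsg.Agent.Lib.Helper8
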