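import Mathlib
import Cfsg.Agent.Lib.Helper8.SmTwoDefs

set_option autoImplicit false

/-! S4409: the hypotheses of section 3 (structure of the normal Sylow `2`-subgroup). -/

namespace Cfsg.Agent.Lib.Helper8.SmTwo

universe u

variable {G : Type u} [Group G]

/-- the hypotheses of section 3: `X` a `2`-group that is not small, `H` of odd order acting
faithfully on `X`, and every proper `H`-invariant subgroup of `X` is small -/
structure Sec3 (X H : Subgroup G) : Prop where
  hX : IsPGroup 2 X
  hodd : Odd (Nat.card H)
  hHX : H ≤ Subgroup.normalizer (X : Set G)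
  hfaith : H ⊓ Subgroup.centralizer (X : Set G) = ⊥
  hbad : ¬ Small X
  hmin : ∀ Y : Subgroup G, Y ≤ X → Y ≠ X → H ≤ Subgroup.normalizer (Y : Set G) → Small Y

end Cfsg.Agent.Lib.Helper8.SmTwo
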