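import Mathlib
import Cfsg.Agent.Lib.Helper8.SmTwoDefs
import Cfsg.Agent.Lib.Helper8.SmTwoB
import Cfsg.Agent.Lib.Helper2.SmTwoPT

set_option autoImplicit false

/-! S4409: the "not small" lemmas (N3'), (N4), (N5). -/

namespace Cfsg.Agent.Lib.Helper8.SmTwo

universe u

variable {G : Type u} [Group G]

theorem pn2_exists_not_mem [Finite G] {K Y : Subgroup G} (hlt : Nat.card K < Nat.card Y) :
    ∃ y ∈ Y, y ∉ K := by
  by_contra hno
  push Not at hno
  have hle : Y ≤ K := fun y hy => hno y hy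
  have := Subgroup.card_le_of_le hle
  omega

theorem pn2_card_zpowers_two {z : G} (hz1 : z ≠ 1) (hz2 : z ^ 2 = 1) :
    Nat.card (Subgroup.zpowers z) = 2 := by
  have : Fact (Nat.Prime 2) := ⟨Nat.prime_two⟩
  rw [Nat.card_zpowers]
  exact orderOf_eq_prime hz2 hz1

theorem pn2_pow_four {z x : G} (hz2 : z ^ 2 = 1) (h : x ^ 2 = 1 ∨ x ^ 2 = z) : x ^ 4 = 1 := by
  have e : x ^ 4 = (x ^ 2) ^ 2 := by rw [← pow_mul]
  rcases h with h | h
  · rw [e, h, one_pow]
  · rw [e, h, hz2]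

/-- the common core of (N3') and (N5) -/
theorem pn2_core [Finite G] (Y C : Subgroup G) (hCY : C ≤ Y) (z : G) (hz1 : z ≠ 1)
    (hz2 : z ^ 2 = 1) (hsq : ∀ x ∈ Y, x ^ 2 = 1 ∨ x ^ 2 = z) (hzC : z ∈ C)
    (hzc : ∀ g ∈ C, z * g = g * z) (c : G) (hcC : c ∈ C) (hcc : ∀ g ∈ C, c * g = g * c)
    (hc1 : c ≠ 1) (hcz : c ≠ z) (y : G) (hyC : y ∈ C)
    (hyB : y ∉ Subgroup.zpowers z ⊔ Subgroup.zpowers c) : ¬ Small Y := by
  obtain ⟨B, hBdef⟩ : ∃ B : Subgroup G, B = Subgroup.zpowers z ⊔ Subgroup.zpowers c := ⟨_, rfl⟩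
  rw [← hBdef] at hyB
  have hcard : Nat.card B = 4 := by
    rw [hBdef, card_sup_zpowers_of_sq_mem (Subgroup.zpowers z) c ?_ ?_ ?_,
      pn2_card_zpowers_two hz1 hz2]
    · apply Subgroup.centralizer_le_normalizer
      rw [Subgroup.mem_centralizer_iff]
      intro g hg
      rcases (pt_mem_zpowers_of_sq hz2).mp hg with h | h
      · rw [h, one_mul, mul_one]
      · rw [h]; exact hzc c hcC
    · intro hmem
      rcases (pt_mem_zpowers_of_sq hz2).mp hmem with h | h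
      · exact hc1 h
      · exact hcz h
    · rw [pt_mem_zpowers_of_sq hz2]
      exact hsq c (hCY hcC)
  have hBC : B ≤ C ⊓ Subgroup.centralizer (C : Set G) := by
    rw [hBdef]
    apply sup_le
    · rw [Subgroup.zpowers_le]
      refine Subgroup.mem_inf.mpr ⟨hzC, ?_⟩
      rw [Subgroup.mem_centralizer_iff]
      intro g hg
      exact (hzc g hg).symm
    · rw [Subgroup.zpowers_le]
      refine Subgroup.mem_inf.mpr ⟨hcC, ?_⟩
      rw [Subgroup.mem_centralizer_iff]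
      intro g hg
      exact (hcc g hg).symm
  have hzB : z ∈ B := by
    rw [hBdef]
    exact (le_sup_left : Subgroup.zpowers z ≤ _) (Subgroup.mem_zpowers z)
  have hbad : Bad (B ⊔ Subgroup.zpowers y) := by
    apply bad_sup_zpowers B y hcard
    · intro a ha b hb
      exact (Subgroup.mem_centralizer_iff.mp (hBC hb).2 a (hBC ha).1)
    · intro a ha
      exact pn2_pow_four hz2 (hsq a (hCY (hBC ha).1))
    · intro a ha
      exact (Subgroup.mem_centralizer_iff.mp (hBC ha).2 y hyC)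
    · exact hyB
    · rcases hsq y (hCY hyC) with h | h
      · rw [h]; exact B.one_mem
      · rw [h]; exact hzB
    · exact pn2_pow_four hz2 (hsq y (hCY hyC))
  intro hs
  apply hs _ ?_ hbad
  apply sup_le
  · exact fun g hg => hCY (hBC hg).1
  · rw [Subgroup.zpowers_le]; exact hCY hyC

/-- (N5) -/
theorem not_small_of_big_center [Finite G] (Y : Subgroup G) (z : G) (hz : z ∈ Y)
    (hz1 : z ≠ 1) (hz2 : z ^ 2 = 1) (hzc : ∀ y ∈ Y, z * y = y * z)
    (hsq : ∀ x ∈ Y, x ^ 2 = 1 ∨ x ^ 2 = z) (hna : ∃ a ∈ Y, ∃ b ∈ Y, a * b ≠ b * a)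
    (c : G) (hcY : c ∈ Y) (hcc : ∀ y ∈ Y, c * y = y * c) (hc1 : c ≠ 1) (hcz : c ≠ z) :
    ¬ Small Y := by
  obtain ⟨a, ha, b, hb, hab⟩ := hna
  apply pn2_core Y Y le_rfl z hz1 hz2 hsq hz hzc c hcY hcc hc1 hcz a ha
  intro haB
  apply hab
  -- `a` is central
  have hle : Subgroup.zpowers z ⊔ Subgroup.zpowers c ≤ Subgroup.centralizer (Y : Set G) := by
    apply sup_le
    · rw [Subgroup.zpowers_le, Subgroup.mem_centralizer_iff]
      intro g hg
      exact (hzc g hg).symm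
    · rw [Subgroup.zpowers_le, Subgroup.mem_centralizer_iff]
      intro g hg
      exact (hcc g hg).symm
  exact (Subgroup.mem_centralizer_iff.mp (hle haB) b hb).symm

/-- (N3') -/
theorem not_small_of_center_eq_commutator [Finite G] (Y : Subgroup G) (z : G) (hz : z ∈ Y)
    (hz1 : z ≠ 1) (hz2 : z ^ 2 = 1) (hzc : ∀ y ∈ Y, z * y = y * z)
    (hcomm : ∀ x ∈ Y, ∀ y ∈ Y, x * y = y * x ∨ x * y = y * x * z)
    (hsq : ∀ x ∈ Y, x ^ 2 = 1 ∨ x ^ 2 = z)
    (hcen : ∀ x ∈ Y, (∀ y ∈ Y, x * y = y * x) → x = 1 ∨ x = z)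
    (hcard : 16 ≤ Nat.card Y) : ¬ Small Y := by
  -- a non-central element
  obtain ⟨x, hxY, hxz⟩ : ∃ x ∈ Y, x ∉ Subgroup.zpowers z := by
    apply pn2_exists_not_mem
    rw [pn2_card_zpowers_two hz1 hz2]
    omega
  rw [pt_mem_zpowers_of_sq hz2] at hxz
  push Not at hxz
  have hxnc : ¬ ∀ y ∈ Y, x * y = y * x := by
    intro h
    rcases hcen x hxY h with h1 | h1
    · exact hxz.1 h1
    · exact hxz.2 h1
  obtain ⟨C, hCdef⟩ : ∃ C : Subgroup G, C = Y ⊓ Subgroup.centralizer ({x} : Set G) := ⟨_, rfl⟩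
  have hCY : C ≤ Y := by rw [hCdef]; exact inf_le_left
  have hmemC : ∀ g, g ∈ C ↔ g ∈ Y ∧ x * g = g * x := by
    intro g
    rw [hCdef, Subgroup.mem_inf, Subgroup.mem_centralizer_singleton_iff]
    exact ⟨fun h => ⟨h.1, h.2.symm⟩, fun h => ⟨h.1, h.2.symm⟩⟩
  have hCne : C ≠ Y := by
    intro h
    apply hxnc
    intro y hy
    have : y ∈ C := by rw [h]; exact hy
    exact ((hmemC y).mp this).2
  have hidx : C.relIndex Y = 2 := by
    apply pt_relIndex_two hCY hCne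
    intro y₁ hy₁ y₂ hy₂ h1 h2
    rw [hmemC]
    refine ⟨Y.mul_mem hy₁ hy₂, ?_⟩
    have e1 : x * y₁ = y₁ * x * z := by
      rcases hcomm x hxY y₁ hy₁ with h | h
      · exact absurd ((hmemC y₁).mpr ⟨hy₁, h⟩) h1
      · exact h
    have e2 : x * y₂ = y₂ * x * z := by
      rcases hcomm x hxY y₂ hy₂ with h | h
      · exact absurd ((hmemC y₂).mpr ⟨hy₂, h⟩) h2
      · exact h
    have hzz : z * z = 1 := by rw [← pow_two]; exact hz2
    calc x * (y₁ * y₂) = (x * y₁) * y₂ := by group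
      _ = y₁ * x * z * y₂ := by rw [e1]
      _ = y₁ * x * (z * y₂) := by group
      _ = y₁ * x * (y₂ * z) := by rw [hzc y₂ hy₂]
      _ = y₁ * (x * y₂) * z := by group
      _ = y₁ * (y₂ * x * z) * z := by rw [e2]
      _ = y₁ * y₂ * x * (z * z) := by group
      _ = y₁ * y₂ * x := by rw [hzz, mul_one]
  have hcardC : 8 ≤ Nat.card C := by
    have := pt_relIndex_mul_card hCY
    rw [hidx] at this
    omega
  have hzC : z ∈ C := (hmemC z).mpr ⟨hz, (hzc x hxY).symm⟩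
  have hxC : x ∈ C := (hmemC x).mpr ⟨hxY, rfl⟩
  have hcardB : Nat.card (Subgroup.zpowers z ⊔ Subgroup.zpowers x : Subgroup G) = 4 := by
    rw [card_sup_zpowers_of_sq_mem (Subgroup.zpowers z) x ?_ ?_ ?_, pn2_card_zpowers_two hz1 hz2]
    · apply Subgroup.centralizer_le_normalizer
      rw [Subgroup.mem_centralizer_iff]
      intro g hg
      rcases (pt_mem_zpowers_of_sq hz2).mp hg with h | h
      · rw [h, one_mul, mul_one]
      · rw [h]; exact hzc x hxY
    · intro hmem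
      rcases (pt_mem_zpowers_of_sq hz2).mp hmem with h | h
      · exact hxz.1 h
      · exact hxz.2 h
    · rw [pt_mem_zpowers_of_sq hz2]
      exact hsq x hxY
  obtain ⟨y, hyC, hyB⟩ : ∃ y ∈ C, y ∉ (Subgroup.zpowers z ⊔ Subgroup.zpowers x : Subgroup G) := by
    apply pn2_exists_not_mem
    rw [hcardB]
    omega
  exact pn2_core Y C hCY z hz1 hz2 hsq hzC (fun g hg => hzc g (hCY hg)) x hxC
    (fun g hg => ((hmemC g).mp hg).2) hxz.1 hxz.2 y hyC hyB

/-- (N4) -/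
theorem not_small_of_exp_two [Finite G] (Y : Subgroup G) (hexp : ∀ y ∈ Y, y ^ 2 = 1)
    (hcard : 8 ≤ Nat.card Y) : ¬ Small Y := by
  have hab : ∀ a ∈ Y, ∀ b ∈ Y, a * b = b * a := by
    intro a ha b hb
    have h1 := hexp a ha
    have h2 := hexp b hb
    have h3 := hexp (a * b) (Y.mul_mem ha hb)
    have e1 : a⁻¹ = a := inv_eq_of_mul_eq_one_right (by rw [← pow_two]; exact h1)
    have e2 : b⁻¹ = b := inv_eq_of_mul_eq_one_right (by rw [← pow_two]; exact h2)
    have e3 : (a * b)⁻¹ = a * b := inv_eq_of_mul_eq_one_right (by rw [← pow_two]; exact h3)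
    rw [mul_inv_rev, e1, e2] at e3
    exact e3.symm
  obtain ⟨a, haY, ha1⟩ : ∃ a ∈ Y, a ∉ (⊥ : Subgroup G) := by
    apply pn2_exists_not_mem
    rw [Subgroup.card_bot]; omega
  rw [Subgroup.mem_bot] at ha1
  obtain ⟨b, hbY, hbA⟩ : ∃ b ∈ Y, b ∉ Subgroup.zpowers a := by
    apply pn2_exists_not_mem
    rw [pn2_card_zpowers_two ha1 (hexp a haY)]; omega
  have hbA' := hbA
  rw [pt_mem_zpowers_of_sq (hexp a haY)] at hbA'
  push Not at hbA'
  have hsq : ∀ x ∈ Y, x ^ 2 = 1 ∨ x ^ 2 = a := fun x hx => Or.inl (hexp x hx)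
  have hcardB : Nat.card (Subgroup.zpowers a ⊔ Subgroup.zpowers b : Subgroup G) = 4 := by
    rw [card_sup_zpowers_of_sq_mem (Subgroup.zpowers a) b ?_ hbA ?_,
      pn2_card_zpowers_two ha1 (hexp a haY)]
    · apply Subgroup.centralizer_le_normalizer
      rw [Subgroup.mem_centralizer_iff]
      intro g hg
      rcases (pt_mem_zpowers_of_sq (hexp a haY)).mp hg with h | h
      · rw [h, one_mul, mul_one]
      · rw [h]; exact hab a haY b hbY
    · rw [hexp b hbY]; exact Subgroup.one_mem _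
  obtain ⟨c, hcY, hcB⟩ : ∃ c ∈ Y, c ∉ (Subgroup.zpowers a ⊔ Subgroup.zpowers b : Subgroup G) := by
    apply pn2_exists_not_mem
    rw [hcardB]; omega
  exact pn2_core Y Y le_rfl a ha1 (hexp a haY) hsq haY (fun g hg => hab a haY g hg) b hbY
    (fun g hg => hab b hbY g hg) hbA'.1 hbA'.2 c hcY hcB

end Cfsg.Agent.Lib.Helper8.SmTwo
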