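import Mathlib
import Cfsg.Agent.Lib.Helper8.SmTwoDefs
import Cfsg.Agent.Lib.Helper8.SmTwoB
import Cfsg.Agent.Lib.Helper8.SmTwoC
import Cfsg.Agent.Lib.Helper8.SmTwoPN2
import Cfsg.Agent.Lib.Helper4.SmTwoPN4
import Cfsg.Agent.Lib.Helper7.SmTwoPN3
import Cfsg.Agent.Lib.Helper2.SmTwoPT
import Cfsg.Agent.Lib.Helper2.SmTwoPT2
import Cfsg.Agent.Lib.Helper3.SmTwoPF
import Cfsg.Agent.Lib.Lead.CoprimeAction2

set_option autoImplicit false

/-! S4409: Lemma SM (small 2-groups with a non-trivial odd-order group of automorphisms). -/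

namespace Cfsg.Agent.Lib.Helper8.SmTwo

universe u

variable {G : Type u} [Group G]

/-- a subgroup of order `2` is `{1, z}` -/
theorem ps_elts_of_card_two (C : Subgroup G) (hc : Nat.card C = 2) :
    ∃ z ∈ C, z ≠ 1 ∧ ∀ c ∈ C, c = 1 ∨ c = z := by
  have hfin : Finite C := Nat.finite_of_card_ne_zero (by rw [hc]; norm_num)
  have hC1 : C ≠ ⊥ := by
    intro h
    rw [h, Subgroup.card_bot] at hc
    omega
  obtain ⟨z, hzC, hz1⟩ : ∃ z ∈ C, z ≠ 1 := by
    by_contra hno
    push Not at hno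
    apply hC1
    rw [Subgroup.eq_bot_iff_forall]
    exact hno
  refine ⟨z, hzC, hz1, ?_⟩
  intro c hcC
  by_contra hcon
  push Not at hcon
  have h3 : 3 ≤ Nat.card C := by
    have hinj : Function.Injective
        (fun i : Fin 3 => (![⟨1, C.one_mem⟩, ⟨z, hzC⟩, ⟨c, hcC⟩] i : C)) := by
      intro i j hij
      fin_cases i <;> fin_cases j <;> simp_all [Subtype.ext_iff]
    have := Nat.card_le_card_of_injective _ hinj
    simpa using this
  omega

/-- a normal, `A`-invariant, proper subgroup of a small `2`-group `Y` which is a four-group or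
non-abelian of order `8` with `⁅Y₀, A⁆ = Y₀`: impossible -/
theorem ps_kill [Finite G] (Y₀ Y A : Subgroup G) (hY : IsPGroup 2 Y) (hs : Small Y) (hle : Y₀ ≤ Y)
    (hne : Y₀ ≠ Y) (hYn : Y ≤ Subgroup.normalizer (Y₀ : Set G))
    (hAn : A ≤ Subgroup.normalizer (Y₀ : Set G)) (hAY : A ≤ Subgroup.normalizer (Y : Set G))
    (hodd : Odd (Nat.card A)) (h0 : IsV4 Y₀ ∨ IsNA8 Y₀) (hcomm : ⁅Y₀, A⁆ = Y₀) : False := by
  rcases h0 with h0 | h0
  · have hnc : ¬ A ≤ Subgroup.centralizer (Y₀ : Set G) := by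
      intro h
      have h1 : ⁅Y₀, A⁆ = ⊥ := by
        rw [Subgroup.commutator_comm, Subgroup.commutator_eq_bot_iff_le_centralizer]
        exact h
      rw [hcomm] at h1
      exact h0.ne_bot h1
    have h2 := v4_le_centralizer Y₀ Y A h0 hY hYn hAn hAY hodd hnc
    exact not_small_of_central_v4 Y₀ Y hY h0 hle hne h2 hs
  · have h1 := na8_sup_centralizer Y₀ Y A h0 hY hle hYn hAn hAY hodd hcomm
    have h2 : ¬ (Y ⊓ Subgroup.centralizer (Y₀ : Set G) ≤ Y₀) := by
      intro h
      apply hne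
      rw [← h1]
      exact (sup_eq_left.mpr h).symm
    exact not_small_of_na8_centralizer Y₀ Y hY h0 hle h2 hs

theorem ps_card_lt [Finite G] {K Y : Subgroup G} (hle : K ≤ Y) (hne : K ≠ Y) :
    Nat.card K < Nat.card Y := by
  by_contra h
  push Not at h
  exact hne (Subgroup.eq_of_le_of_card_ge hle h)

theorem ps_sm_aux [Finite G] (A : Subgroup G) (hodd : Odd (Nat.card A)) :
    ∀ n : ℕ, ∀ Y : Subgroup G, Nat.card Y = n → IsPGroup 2 Y → Small Y →
      A ≤ Subgroup.normalizer (Y : Set G) → ¬ A ≤ Subgroup.centralizer (Y : Set G) →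
      (IsV4 Y ∨ IsNA8 Y) ∧ ⁅Y, A⁆ = Y := by
  have hp2 : Fact (Nat.Prime 2) := ⟨Nat.prime_two⟩
  intro n
  induction n using Nat.strong_induction_on with
  | _ n ih =>
  intro Y hn hY hs hAY hnc
  have hcop : (Nat.card A).Coprime (Nat.card Y) := by
    obtain ⟨k, hk⟩ := IsPGroup.iff_card.mp hY
    rw [hk]
    exact Nat.Coprime.pow_right _ (Nat.coprime_two_right.mpr hodd)
  have hsolv : Group.IsSolvable A ∨ Group.IsSolvable Y := by
    right
    have : Group.IsNilpotent Y := hY.isNilpotent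
    infer_instance
  have hstab := Cfsg.Agent.Lib.Lead.coprime_commutator_stable A Y hAY hcop hsolv
  have hYA_le : ⁅Y, A⁆ ≤ Y := Cfsg.Agent.Lib.Lead.commutator_le_left_of_le_normalizer Y A hAY
  have hYA_ne : ⁅Y, A⁆ ≠ ⊥ := by
    intro h
    apply hnc
    rw [Subgroup.commutator_comm, Subgroup.commutator_eq_bot_iff_le_centralizer] at h
    exact h
  -- Step 1
  have hstep1 : ⁅Y, A⁆ = Y := by
    by_contra hne
    have hlt : Nat.card (⁅Y, A⁆ : Subgroup G) < n := by rw [← hn]; exact ps_card_lt hYA_le hne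
    have hA0 : A ≤ Subgroup.normalizer ((⁅Y, A⁆ : Subgroup G) : Set G) :=
      Cfsg.Agent.Lib.Lead.le_normalizer_commutator_right Y A hAY
    have hY0 : Y ≤ Subgroup.normalizer ((⁅Y, A⁆ : Subgroup G) : Set G) :=
      Cfsg.Agent.Lib.Lead.le_normalizer_commutator_left Y A
    have hnc0 : ¬ A ≤ Subgroup.centralizer ((⁅Y, A⁆ : Subgroup G) : Set G) := by
      intro h
      have h1 : ⁅⁅Y, A⁆, A⁆ = ⊥ := by
        rw [Subgroup.commutator_comm, Subgroup.commutator_eq_bot_iff_le_centralizer]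
        exact h
      rw [hstab] at h1
      exact hYA_ne h1
    obtain ⟨h0, hc0⟩ := ih _ hlt ⁅Y, A⁆ rfl (hY.to_le hYA_le) (hs.mono hYA_le) hA0 hnc0
    exact ps_kill ⁅Y, A⁆ Y A hY hs hYA_le hne hY0 hA0 hAY hodd h0 hc0
  refine ⟨?_, hstep1⟩
  -- Step 2
  have hYne : Y ≠ ⊥ := by
    intro h
    apply hYA_ne
    rw [eq_bot_iff]
    calc ⁅Y, A⁆ ≤ Y := hYA_le
      _ = ⊥ := h
  obtain ⟨Φ, hΦdef⟩ : ∃ Φ : Subgroup G, Φ = phi2 Y := ⟨_, rfl⟩
  have hΦle : Φ ≤ Y := by rw [hΦdef]; exact phi2_le Y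
  have hΦne : Φ ≠ Y := by rw [hΦdef]; exact phi2_ne Y hY hYne
  have hAΦ : A ≤ Subgroup.normalizer (Φ : Set G) := by
    rw [hΦdef]; exact hAY.trans (normalizer_le_normalizer_phi2 Y)
  have hYΦ : Y ≤ Subgroup.normalizer (Φ : Set G) := by
    rw [hΦdef]; exact Subgroup.le_normalizer.trans (normalizer_le_normalizer_phi2 Y)
  by_cases hcΦ : A ≤ Subgroup.centralizer (Φ : Set G)
  swap
  · exfalso
    have hlt : Nat.card Φ < n := by rw [← hn]; exact ps_card_lt hΦle hΦne
    obtain ⟨h0, hc0⟩ := ih _ hlt Φ rfl (hY.to_le hΦle) (hs.mono hΦle) hAΦ hcΦ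
    exact ps_kill Φ Y A hY hs hΦle hΦne hYΦ hAΦ hAY hodd h0 hc0
  -- (2b)
  rw [hΦdef] at hcΦ
  obtain ⟨hΦZ, hsq, hexp⟩ := lemma_2b Y A hAY hstep1 hcΦ
  obtain ⟨D, hDdef⟩ : ∃ D : Subgroup G, D = ⁅Y, Y⁆ := ⟨_, rfl⟩
  rw [← hDdef] at hsq hexp
  have hDΦ : D ≤ phi2 Y := by rw [hDdef]; exact commutator_le_phi2 Y
  have hDY : D ≤ Y := hDΦ.trans (phi2_le Y)
  have hDne : D ≠ Y := by
    intro h
    apply hΦne
    rw [hΦdef]
    exact le_antisymm (phi2_le Y) (h ▸ hDΦ)
  -- `D` is central in `Y`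
  have hDc : ∀ d ∈ D, ∀ y ∈ Y, y * d = d * y := by
    intro d hd y hy
    exact Subgroup.mem_centralizer_iff.mp (hΦZ (hDΦ hd)) y hy
  have hDcard : Nat.card D < 8 := by
    by_contra h
    push Not at h
    exact not_small_of_exp_two D hexp h (hs.mono hDY)
  obtain ⟨j, hj⟩ := IsPGroup.iff_card.mp (hY.to_le hDY)
  obtain ⟨k, hk⟩ := IsPGroup.iff_card.mp hY
  have hj3 : j < 3 := by
    by_contra h
    push Not at h
    have : 2 ^ 3 ≤ 2 ^ j := Nat.pow_le_pow_right (by norm_num) h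
    omega
  have hcommel : ∀ x ∈ Y, ∀ y ∈ Y, x * y * x⁻¹ * y⁻¹ ∈ D := by
    intro x hx y hy
    rw [hDdef, ← commutatorElement_def]
    exact Subgroup.commutator_mem_commutator hx hy
  interval_cases j
  · -- `D = ⊥`: `Y` is elementary abelian
    have hD1 : ∀ d ∈ D, d = 1 := by
      intro d hd
      have : D = ⊥ := Subgroup.card_eq_one.mp (by rw [hj]; norm_num)
      rw [this] at hd
      exact hd
    have hexpY : ∀ y ∈ Y, y ^ 2 = 1 := fun y hy => hD1 _ (hsq y hy)
    have hYcard : Nat.card Y < 8 := by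
      by_contra h
      push Not at h
      exact not_small_of_exp_two Y hexpY h hs
    have hk3 : k < 3 := by
      by_contra h
      push Not at h
      have : 2 ^ 3 ≤ 2 ^ k := Nat.pow_le_pow_right (by norm_num) h
      omega
    left
    interval_cases k
    · exfalso
      apply hYne
      exact Subgroup.card_eq_one.mp (by rw [hk]; norm_num)
    · exfalso
      -- order 2: `A` acts trivially
      have h1 : ⁅Y, A⁆ ≤ (⊥ : Subgroup G) := by
        apply commutator_le_of_relIndex_two Y A ⊥ bot_le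
        · rw [Subgroup.relIndex_bot_left, hk]; norm_num
        · exact hAY
        · intro a _
          rw [Subgroup.mem_normalizer_iff]
          intro g
          simp
      rw [hstep1] at h1
      exact hYne (eq_bot_iff.mpr h1)
    · exact ⟨by rw [hk]; norm_num, hexpY⟩
  · -- `|D| = 2`
    right
    obtain ⟨z, hzD, hz1, hDelts⟩ := ps_elts_of_card_two D (by rw [hj]; norm_num)
    have hzY : z ∈ Y := hDY hzD
    have hz2 : z ^ 2 = 1 := hexp z hzD
    have hzc : ∀ y ∈ Y, z * y = y * z := fun y hy => (hDc z hzD y hy).symm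
    have hcomm : ∀ x ∈ Y, ∀ y ∈ Y, x * y = y * x ∨ x * y = y * x * z := by
      intro x hx y hy
      rcases hDelts _ (hcommel x hx y hy) with h | h
      · left
        calc x * y = (x * y * x⁻¹ * y⁻¹) * (y * x) := by group
          _ = y * x := by rw [h, one_mul]
      · right
        calc x * y = (x * y * x⁻¹ * y⁻¹) * (y * x) := by group
          _ = z * (y * x) := by rw [h]
          _ = y * x * z := hzc _ (Y.mul_mem hy hx)
    have hsq' : ∀ x ∈ Y, x ^ 2 = 1 ∨ x ^ 2 = z := fun x hx => hDelts _ (hsq x hx)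
    have hna : ∃ a ∈ Y, ∃ b ∈ Y, a * b ≠ b * a := by
      by_contra hno
      push Not at hno
      apply hz1
      have : D = ⊥ := by
        rw [hDdef, Subgroup.commutator_eq_bot_iff_le_centralizer]
        intro x hx
        rw [Subgroup.mem_centralizer_iff]
        intro y hy
        exact hno y hy x hx
      rw [this] at hzD
      exact hzD
    have hcen : ∀ x ∈ Y, (∀ y ∈ Y, x * y = y * x) → x = 1 ∨ x = z := by
      intro x hx hxc
      by_contra hcon
      push Not at hcon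
      exact not_small_of_big_center Y z hzY hz1 hz2 hzc hsq' hna x hx hxc hcon.1 hcon.2 hs
    have hYcard : Nat.card Y < 16 := by
      by_contra h
      push Not at h
      exact not_small_of_center_eq_commutator Y z hzY hz1 hz2 hzc hcomm hsq' hcen h hs
    have hk4 : k < 4 := by
      by_contra h
      push Not at h
      have : 2 ^ 4 ≤ 2 ^ k := Nat.pow_le_pow_right (by norm_num) h
      omega
    obtain ⟨a, ha, b, hb, hab⟩ := hna
    -- at least 3 elements: `1, z, a`
    have h3 : 3 ≤ Nat.card Y := by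
      have ha1 : a ≠ 1 := by
        intro h; apply hab; rw [h, one_mul, mul_one]
      have haz : a ≠ z := by
        intro h; apply hab; rw [h]; exact hzc b hb
      have hinj : Function.Injective
          (fun i : Fin 3 => (![⟨1, Y.one_mem⟩, ⟨z, hzY⟩, ⟨a, ha⟩] i : Y)) := by
        intro i j hij
        fin_cases i <;> fin_cases j <;> simp_all [Subtype.ext_iff]
      have := Nat.card_le_card_of_injective _ hinj
      simpa using this
    interval_cases k
    · exfalso; rw [hk] at h3; norm_num at h3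
    · exfalso; rw [hk] at h3; norm_num at h3
    · exfalso
      have hc := IsPGroup.isMulCommutative_of_card_eq_prime_sq (p := 2) (G := Y) (by rw [hk])
      exact hab (congrArg Subtype.val (hc.is_comm.comm ⟨a, ha⟩ ⟨b, hb⟩))
    · exact ⟨by rw [hk]; norm_num, a, ha, b, hb, hab⟩
  · -- `|D| = 4`: (N1)
    exfalso
    have hV : IsV4 D := ⟨by rw [hj]; norm_num, hexp⟩
    have hYc : Y ≤ Subgroup.centralizer (D : Set G) := by
      intro y hy
      rw [Subgroup.mem_centralizer_iff]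
      intro d hd
      exact (hDc d hd y hy).symm
    exact not_small_of_central_v4 D Y hY hV hDY hDne hYc hs

/-- **Lemma SM**. -/
theorem sm [Finite G] (Y A : Subgroup G) (hY : IsPGroup 2 Y) (hs : Small Y)
    (hAY : A ≤ Subgroup.normalizer (Y : Set G)) (hodd : Odd (Nat.card A))
    (hnc : ¬ A ≤ Subgroup.centralizer (Y : Set G)) : (IsV4 Y ∨ IsNA8 Y) ∧ ⁅Y, A⁆ = Y :=
  ps_sm_aux A hodd _ Y rfl hY hs hAY hnc

end Cfsg.Agent.Lib.Helper8.SmTwo
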