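import Mathlib

set_option autoImplicit false

/-!
# S3782 (Alperin), package B-mod: the Nakayama step in module form
-/

namespace Cfsg.Agent.Lib.Helper8.AlpBmod

section

variable {A : Type*} [AddCommGroup A]

theorem mul_app (f g : AddMonoid.End A) (a : A) : (f * g) a = f (g a) := rfl

theorem one_app (a : A) : (1 : AddMonoid.End A) a = a := rfl

theorem sub_app (f g : AddMonoid.End A) (a : A) : (f - g) a = f a - g a := rfl

theorem sum_app {ι : Type*} (s : Finset ι) (f : ι → AddMonoid.End A) (a : A) :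
    (∑ i ∈ s, f i) a = ∑ i ∈ s, f i a := by
  classical
  induction s using Finset.induction_on with
  | empty => simp
  | insert i s hi ih =>
    rw [Finset.sum_insert hi, Finset.sum_insert hi, ← ih]; rfl

/-- binomial expansion of `u ^ n - 1` in powers of `u - 1`. -/
theorem pow_sub_one_apply (u : AddMonoid.End A) (n : ℕ) (a : A) :
    (u ^ n - 1) a = ∑ k ∈ Finset.Ico 1 (n + 1), (n.choose k) • ((u - 1) ^ k) a := by
  have hc : Commute (u - 1) (1 : AddMonoid.End A) := Commute.one_right _
  have h1 : u ^ n = ∑ m ∈ Finset.range (n + 1), (u - 1) ^ m * 1 ^ (n - m) * (n.choose m : AddMonoid.End A) := by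
    have := hc.add_pow n
    rwa [sub_add_cancel] at this
  rw [sub_app, h1, sum_app, Finset.range_eq_Ico, Finset.sum_eq_sum_Ico_succ_bot (by omega)]
  simp only [one_pow, mul_one, pow_zero, Nat.choose_zero_right, Nat.cast_one, one_app]
  rw [add_sub_cancel_left]
  apply Finset.sum_congr rfl
  intro k _
  rw [mul_app, AddMonoid.End.natCast_apply, map_nsmul]

end

/-- (B-mod) the Nakayama step, module form. -/
theorem nakayama_mod {A : Type*} [AddCommGroup A] {p : ℕ} [Fact p.Prime] (M : AddSubgroup A)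
    (N B s : ℕ) (U : Set (AddMonoid.End A))
    (hA : ∀ a : A, p ^ N • a ∈ M) (hM : ∀ a ∈ M, p ^ N • a = 0)
    (hU1 : ∀ u ∈ U, ∀ a : A, ((u - 1) ^ B) a ∈ M)
    (hU2 : ∀ u ∈ U, ∀ a ∈ M, ((u - 1) ^ B) a = 0)
    (hgen : M ≤ AddSubgroup.closure {x | ∃ u ∈ U, ∃ a : A, x = (u ^ (p ^ s) - 1) a})
    (hs1 : 2 * B ≤ p ^ s) (hs2 : ∀ t, p ^ t < B → t + N + 1 ≤ s) : M = ⊥ := by
  have hp : p.Prime := Fact.out
  -- the subgroup `pM`
  set pM : AddSubgroup A := M.map (nsmulAddMonoidHom p) with hpM
  have hmem : ∀ x, x ∈ pM ↔ ∃ m ∈ M, p • m = x := by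
    intro x
    rw [hpM, AddSubgroup.mem_map]
    rfl
  -- every generator lies in `pM`
  have hgen' : ∀ u ∈ U, ∀ a : A, (u ^ (p ^ s) - 1) a ∈ pM := by
    intro u hu a
    rw [pow_sub_one_apply]
    apply AddSubgroup.sum_mem
    intro k hk
    rw [Finset.mem_Ico] at hk
    obtain ⟨hk1, hk2⟩ := hk
    have hk0 : k ≠ 0 := by omega
    have hkle : k ≤ p ^ s := by omega
    rcases lt_or_ge k B with hkB | hkB
    · -- small `k`
      set t := k.factorization p with ht
      have h1 : p ^ t ∣ k := Nat.ordProj_dvd k p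
      have h2 : p ^ t < B := lt_of_le_of_lt (Nat.le_of_dvd (by omega) h1) hkB
      have h3 := hs2 t h2
      have h4 : ((p ^ s).choose k).factorization p = s - t :=
        Nat.factorization_choose_prime_pow hp hkle hk0
      have hC0 : (p ^ s).choose k ≠ 0 := (Nat.choose_pos hkle).ne'
      have h5 : p ^ (N + 1) ∣ (p ^ s).choose k := by
        rw [hp.pow_dvd_iff_le_factorization hC0, h4]; omega
      obtain ⟨c, hc⟩ := h5
      rw [hmem]
      refine ⟨p ^ N • (c • ((u - 1) ^ k) a), hA _, ?_⟩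
      rw [hc, pow_succ, ← mul_smul, ← mul_smul]
      congr 1
      ring
    · rcases lt_or_ge k (2 * B) with hk2B | hk2B
      · -- middle `k`
        have hkne : k ≠ p ^ s := by omega
        obtain ⟨c, hc⟩ := hp.dvd_choose_pow hk0 hkne
        have h1 : ((u - 1) ^ k) a ∈ M := by
          have : k = B + (k - B) := by omega
          rw [this, pow_add, mul_app]
          exact hU1 u hu _
        rw [hmem]
        refine ⟨c • ((u - 1) ^ k) a, M.nsmul_mem h1 c, ?_⟩
        rw [hc, mul_smul]
      · -- large `k`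
        have : ((u - 1) ^ k) a = 0 := by
          have hk' : k = (k - 2 * B) + (B + B) := by omega
          rw [hk', pow_add, pow_add, mul_app, mul_app, hU2 u hu _ (hU1 u hu a), map_zero]
        rw [this, smul_zero]
        exact pM.zero_mem
  have hMpM : M ≤ pM := by
    refine hgen.trans ?_
    rw [AddSubgroup.closure_le]
    rintro x ⟨u, hu, a, rfl⟩
    exact hgen' u hu a
  -- iterate
  have hiter : ∀ j : ℕ, ∀ m ∈ M, ∃ m' ∈ M, m = p ^ j • m' := by
    intro j
    induction j with
    | zero => intro m hm; exact ⟨m, hm, by simp⟩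
    | succ j ih =>
      intro m hm
      obtain ⟨m', hm', he⟩ := ih m hm
      obtain ⟨m'', hm'', he'⟩ := (hmem m').mp (hMpM hm')
      refine ⟨m'', hm'', ?_⟩
      rw [he, ← he', pow_succ, mul_smul]
  rw [eq_bot_iff]
  intro m hm
  obtain ⟨m', hm', he⟩ := hiter N m hm
  rw [AddSubgroup.mem_bot, he]
  exact hM m' hm'

end Cfsg.Agent.Lib.Helper8.AlpBmod
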