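import Mathlib
import Cfsg.Prelude.Def_PLocal

set_option autoImplicit false

open Cfsg

namespace Cfsg.Agent.Lib.Helper8

open scoped commutatorElement

section Transfer

variable {G : Type*} [Group G]

theorem powerClosure_map {G' : Type*} [Group G'] (f : G →* G') (p n : ℕ) (L : Subgroup G) :
    (powerClosure p n L).map f = powerClosure p n (L.map f) := by
  unfold powerClosure
  rw [MonoidHom.map_closure]
  congr 1
  ext y
  constructor
  · rintro ⟨_, ⟨x, hx, rfl⟩, rfl⟩
    exact ⟨f x, Subgroup.mem_map_of_mem f hx, map_pow f x _⟩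
  · rintro ⟨_, ⟨x, hx, rfl⟩, rfl⟩
    exact ⟨x ^ p ^ n, ⟨x, hx, rfl⟩, map_pow f x _⟩

theorem isRegularPGroup_subgroup {p : ℕ} (hG : IsRegularPGroup p G) (K : Subgroup G) :
    IsRegularPGroup p ↥K := by
  refine ⟨hG.1.to_subgroup K, ?_⟩
  intro a b n
  obtain ⟨c, hc, hcab⟩ := hG.2 (a : G) (b : G) n
  have hmap : (powerClosure p n ⁅Subgroup.closure ({a, b} : Set ↥K),
      Subgroup.closure ({a, b} : Set ↥K)⁆).map K.subtype =
      powerClosure p n ⁅Subgroup.closure ({(a : G), (b : G)} : Set G),
        Subgroup.closure ({(a : G), (b : G)} : Set G)⁆ := by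
    rw [powerClosure_map, Subgroup.map_commutator, MonoidHom.map_closure, Set.image_pair]
    rfl
  rw [← hmap] at hc
  obtain ⟨c', hc', rfl⟩ := hc
  refine ⟨c', hc', ?_⟩
  apply Subtype.ext
  simpa using hcab

/-- If every element of `L` has trivial `p^n`-th power, `powerClosure p n L` is trivial. -/
theorem powerClosure_eq_bot (p n : ℕ) (L : Subgroup G) (h : ∀ x ∈ L, x ^ p ^ n = 1) :
    powerClosure p n L = ⊥ := by
  unfold powerClosure
  rw [Subgroup.closure_eq_bot_iff]
  rintro y ⟨x, hx, rfl⟩
  exact h x hx

/-- If a normal subgroup contains the commutator of two generators, it contains the commutator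
subgroup. -/
theorem commutator_le_of_gens (Ω : Subgroup G) [Ω.Normal] (a b : G)
    (hgen : Subgroup.closure ({a, b} : Set G) = ⊤) (hab : ⁅a, b⁆ ∈ Ω) : commutator G ≤ Ω := by
  set π := QuotientGroup.mk' Ω with hπ
  have hcomm : π a * π b = π b * π a := by
    have h1 : π ⁅a, b⁆ = 1 := (QuotientGroup.eq_one_iff _).2 hab
    rw [map_commutatorElement, commutatorElement_eq_one_iff_mul_comm] at h1
    exact h1
  have hgen' : Subgroup.closure ({π a, π b} : Set (G ⧸ Ω)) = ⊤ := by
    have : Subgroup.map π (Subgroup.closure ({a, b} : Set G)) = ⊤ := by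
      rw [hgen, ← MonoidHom.range_eq_map, MonoidHom.range_eq_top]
      exact QuotientGroup.mk'_surjective Ω
    rw [MonoidHom.map_closure, Set.image_pair] at this
    exact this
  have hcent : ∀ t : G ⧸ Ω, t = π a ∨ t = π b → t ∈ Subgroup.center (G ⧸ Ω) := by
    intro t ht
    have hle : Subgroup.closure ({π a, π b} : Set (G ⧸ Ω)) ≤ Subgroup.centralizer {t} := by
      rw [Subgroup.closure_le]
      intro s hs
      rw [SetLike.mem_coe, Subgroup.mem_centralizer_iff]
      intro u hu
      rw [Set.mem_singleton_iff] at hu
      subst hu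
      rcases hs with rfl | hs
      · rcases ht with rfl | rfl
        · rfl
        · exact hcomm.symm
      · rw [Set.mem_singleton_iff] at hs
        subst hs
        rcases ht with rfl | rfl
        · exact hcomm
        · rfl
    rw [hgen'] at hle
    rw [Subgroup.mem_center_iff]
    intro g
    have := hle (Subgroup.mem_top g)
    rw [Subgroup.mem_centralizer_iff] at this
    exact (this t rfl).symm
  have hcenter : Subgroup.center (G ⧸ Ω) = ⊤ := by
    rw [eq_top_iff, ← hgen', Subgroup.closure_le]
    intro s hs
    rcases hs with rfl | hs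
    · exact hcent _ (Or.inl rfl)
    · rw [Set.mem_singleton_iff] at hs
      subst hs
      exact hcent _ (Or.inr rfl)
  rw [commutator_def, Subgroup.commutator_le]
  intro g₁ _ g₂ _
  rw [← QuotientGroup.eq_one_iff, ← QuotientGroup.mk'_apply, map_commutatorElement,
    commutatorElement_eq_one_iff_mul_comm]
  have : QuotientGroup.mk' Ω g₁ ∈ Subgroup.center (G ⧸ Ω) := by rw [hcenter]; trivial
  exact (Subgroup.mem_center_iff.1 this _).symm

end Transfer

section Main

universe u

/-- In a finite `p`-group every element that does not generate the group lies in a proper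
normal subgroup. -/
theorem exists_normal_ne_top_mem {G : Type*} [Group G] [Finite G] {p : ℕ} [Fact p.Prime]
    (hG : IsPGroup p G) (x : G) (hx : Subgroup.zpowers x ≠ ⊤) :
    ∃ M : Subgroup G, M.Normal ∧ M ≠ ⊤ ∧ x ∈ M := by
  have hnil : Group.IsNilpotent G := hG.isNilpotent
  rcases eq_top_or_exists_le_coatom (Subgroup.zpowers x) with h | ⟨M, hM, hle⟩
  · exact absurd h hx
  · refine ⟨M, ?_, hM.1, hle (Subgroup.mem_zpowers x)⟩
    exact Subgroup.NormalizerCondition.normal_of_coatom M Group.normalizerCondition_of_isNilpotent hM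

theorem closure_pair_inv_left {G : Type*} [Group G] (a b : G) :
    Subgroup.closure ({a⁻¹, b} : Set G) = Subgroup.closure ({a, b} : Set G) := by
  apply le_antisymm
  · rw [Subgroup.closure_le]
    rintro x (rfl | hx)
    · exact Subgroup.inv_mem _ (Subgroup.subset_closure (Set.mem_insert _ _))
    · rw [Set.mem_singleton_iff] at hx
      subst hx
      exact Subgroup.subset_closure (Set.mem_insert_of_mem _ rfl)
  · rw [Subgroup.closure_le]
    rintro x (rfl | hx)
    · have : x⁻¹ ∈ Subgroup.closure ({x⁻¹, b} : Set G) :=
        Subgroup.subset_closure (Set.mem_insert _ _)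
      simpa using Subgroup.inv_mem _ this
    · rw [Set.mem_singleton_iff] at hx
      subst hx
      exact Subgroup.subset_closure (Set.mem_insert_of_mem _ rfl)

theorem regular_aux (p : ℕ) [Fact p.Prime] (k : ℕ) : ∀ n : ℕ, ∀ (G : Type u) [Group G] [Finite G],
    Nat.card G ≤ n → IsRegularPGroup p G →
    ∀ a b : G, a ^ p ^ k = b ^ p ^ k ↔ (a * b⁻¹) ^ p ^ k = 1 := by
  intro n
  induction n with
  | zero =>
    intro G _ _ hcard
    exact absurd hcard (by have := Nat.card_pos (α := G); omega)
  | succ n ih =>
    intro G _ _ hcard hG a b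
    by_cases hcomm : a * b = b * a
    · have hc : Commute a b⁻¹ := (Commute.inv_right (show Commute a b from hcomm))
      rw [hc.mul_pow, inv_pow, mul_inv_eq_one]
    -- the non-commuting case
    have hsub : ∀ K : Subgroup G, K ≠ ⊤ → ∀ x y : G, x ∈ K → y ∈ K →
        (x ^ p ^ k = y ^ p ^ k ↔ (x * y⁻¹) ^ p ^ k = 1) := by
      intro K hK x y hx hy
      have hlt : Nat.card K < Nat.card G := by
        have hle : Nat.card K ≤ Nat.card G := Subgroup.card_le_card_group K
        rcases Nat.lt_or_ge (Nat.card K) (Nat.card G) with h | h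
        · exact h
        · exact absurd (Subgroup.eq_top_of_le_card K h) hK
      have := ih ↥K (by omega) (isRegularPGroup_subgroup hG K) ⟨x, hx⟩ ⟨y, hy⟩
      constructor
      · intro h
        have h1 := this.1 (Subtype.ext (by simpa using h))
        simpa using congrArg Subtype.val h1
      · intro h
        have h1 := this.2 (Subtype.ext (by simpa using h))
        simpa using congrArg Subtype.val h1
    by_cases hH : Subgroup.closure ({a, b} : Set G) = ⊤
    swap
    · exact hsub _ hH a b (Subgroup.subset_closure (Set.mem_insert _ _))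
        (Subgroup.subset_closure (Set.mem_insert_of_mem _ rfl))
    -- `G` is generated by `a` and `b`
    have hnt : Nontrivial G := by
      refine ⟨⟨a, 1, ?_⟩⟩
      rintro rfl
      exact hcomm (by rw [one_mul, mul_one])
    have hnil : Group.IsNilpotent G := hG.1.isNilpotent
    have hDlt : commutator G < ⊤ := Group.IsSolvable.commutator_lt_top_of_nontrivial G
    have hDne : commutator G ≠ ⊤ := hDlt.ne
    -- key: if the commutator of two generators has trivial `q`-th power, so has the derived subgroup
    have key : ∀ x y : G, Subgroup.closure ({x, y} : Set G) = ⊤ → ⁅x, y⁆ ^ p ^ k = 1 →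
        ∀ d ∈ commutator G, d ^ p ^ k = 1 := by
      intro x y hxy hpow
      let Ω : Subgroup G :=
        { carrier := {d | d ∈ commutator G ∧ d ^ p ^ k = 1}
          one_mem' := ⟨Subgroup.one_mem _, one_pow _⟩
          mul_mem' := by
            rintro d₁ d₂ ⟨h1, h1'⟩ ⟨h2, h2'⟩
            refine ⟨Subgroup.mul_mem _ h1 h2, ?_⟩
            have := (hsub _ hDne d₁ d₂⁻¹ h1 (Subgroup.inv_mem _ h2)).1
              (by rw [h1', inv_pow, h2', inv_one])
            simpa using this
          inv_mem' := by
            rintro d ⟨h1, h1'⟩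
            exact ⟨Subgroup.inv_mem _ h1, by rw [inv_pow, h1', inv_one]⟩ }
      have hΩn : Ω.Normal := by
        constructor
        rintro d ⟨h1, h1'⟩ g
        refine ⟨(inferInstance : (commutator G).Normal).conj_mem d h1 g, ?_⟩
        rw [conj_pow, h1', mul_one, mul_inv_cancel]
      have hmem : ⁅x, y⁆ ∈ Ω :=
        ⟨Subgroup.commutator_mem_commutator (Subgroup.mem_top x) (Subgroup.mem_top y), hpow⟩
      have hle := commutator_le_of_gens Ω x y hxy hmem
      intro d hd
      exact (hle hd).2
    -- consequence: the regularity correction term is trivial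
    have hreg : ∀ x y : G, (∀ d ∈ commutator G, d ^ p ^ k = 1) →
        (x * y) ^ p ^ k = x ^ p ^ k * y ^ p ^ k := by
      intro x y hexp
      obtain ⟨c, hc, hxy⟩ := hG.2 x y k
      have hbot : powerClosure p k ⁅Subgroup.closure ({x, y} : Set G),
          Subgroup.closure ({x, y} : Set G)⁆ = ⊥ := by
        apply powerClosure_eq_bot
        intro d hd
        apply hexp
        rw [commutator_def]
        exact Subgroup.commutator_mono le_top le_top hd
      rw [hbot, Subgroup.mem_bot] at hc
      rw [hxy, hc, mul_one]
    have hgen' : ∀ u : G, Subgroup.closure ({u, b} : Set G) = ⊤ →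
        Subgroup.closure ({b⁻¹, u} : Set G) = ⊤ := by
      intro u hu
      rw [closure_pair_inv_left, Set.pair_comm]
      exact hu
    -- common step: for `u` generating `G` together with `b`, with `(b⁻¹ u b)^q = u^q`
    have step : ∀ u : G, Subgroup.closure ({u, b} : Set G) = ⊤ → u * b ≠ b * u →
        (b⁻¹ * u * b) ^ p ^ k = u ^ p ^ k → ∀ d ∈ commutator G, d ^ p ^ k = 1 := by
      intro u hu hub hpow
      have hzu : Subgroup.zpowers u ≠ ⊤ := by
        intro htop
        apply hub
        have hb : b ∈ Subgroup.zpowers u := by rw [htop]; trivial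
        obtain ⟨j, rfl⟩ := Subgroup.mem_zpowers_iff.1 hb
        exact ((Commute.refl u).zpow_right j).eq
      obtain ⟨M, hMn, hMtop, huM⟩ := exists_normal_ne_top_mem hG.1 u hzu
      have hu'M : b⁻¹ * u * b ∈ M := by
        have := hMn.conj_mem u huM b⁻¹
        simpa using this
      have h1 := (hsub M hMtop _ _ hu'M huM).1 hpow
      apply key b⁻¹ u (hgen' u hu)
      rw [commutatorElement_def, inv_inv]
      exact h1
    constructor
    · intro hab
      have hconj : ∀ (v : G) (m : ℕ), (b⁻¹ * v * b) ^ m = b⁻¹ * v ^ m * b := by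
        intro v m
        have := conj_pow (i := m) (a := b⁻¹) (b := v)
        simpa using this
      have hexp := step a hH hcomm (by
        rw [hconj, hab]
        group)
      have hgen2 : Subgroup.closure ({a, b⁻¹} : Set G) = ⊤ := by
        rw [Set.pair_comm, closure_pair_inv_left, Set.pair_comm]
        exact hH
      rw [hreg a b⁻¹ hexp, inv_pow, hab, mul_inv_cancel]
    · intro hab
      set u := a * b⁻¹ with hu
      have hau : a = u * b := by rw [hu]; group
      have hgenu : Subgroup.closure ({u, b} : Set G) = ⊤ := by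
        rw [eq_top_iff, ← hH, Subgroup.closure_le]
        rintro x (rfl | hx)
        · rw [hau]
          exact Subgroup.mul_mem _ (Subgroup.subset_closure (Set.mem_insert _ _))
            (Subgroup.subset_closure (Set.mem_insert_of_mem _ rfl))
        · rw [Set.mem_singleton_iff] at hx
          subst hx
          exact Subgroup.subset_closure (Set.mem_insert_of_mem _ rfl)
      have hub : u * b ≠ b * u := by
        intro h
        apply hcomm
        rw [hau, ← mul_assoc b u b, ← h]
      have hconj : ∀ (v : G) (m : ℕ), (b⁻¹ * v * b) ^ m = b⁻¹ * v ^ m * b := by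
        intro v m
        have := conj_pow (i := m) (a := b⁻¹) (b := v)
        simpa using this
      have hexp := step u hgenu hub (by
        rw [hconj, hab]
        group)
      rw [hau, hreg u b hexp, hab, one_mul]

/-- In a regular `p`-group: `a^q = b^q ↔ (a b⁻¹)^q = 1` for `q = p^k`. -/
theorem regular_pow_eq_pow_iff {G : Type u} [Group G] [Finite G] {p : ℕ} [Fact p.Prime]
    (hG : IsRegularPGroup p G) (a b : G) (k : ℕ) :
    a ^ p ^ k = b ^ p ^ k ↔ (a * b⁻¹) ^ p ^ k = 1 :=
  regular_aux p k (Nat.card G) G le_rfl hG a b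

/-- In a regular `p`-group the elements of order dividing `p^k` form a subgroup. -/
def regularOmega {G : Type u} [Group G] [Finite G] {p : ℕ} [Fact p.Prime]
    (hG : IsRegularPGroup p G) (k : ℕ) : Subgroup G where
  carrier := {x | x ^ p ^ k = 1}
  one_mem' := one_pow _
  mul_mem' := by
    intro x y hx hy
    have hx' : x ^ p ^ k = 1 := hx
    have hy' : y ^ p ^ k = 1 := hy
    have := (regular_pow_eq_pow_iff hG x y⁻¹ k).1
      (by rw [hx', inv_pow, hy', inv_one])
    simpa using this
  inv_mem' := by
    intro x hx
    have hx' : x ^ p ^ k = 1 := hx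
    show x⁻¹ ^ p ^ k = 1
    rw [inv_pow, hx', inv_one]

theorem coe_regularOmega {G : Type u} [Group G] [Finite G] {p : ℕ} [Fact p.Prime]
    (hG : IsRegularPGroup p G) (k : ℕ) :
    (regularOmega hG k : Set G) = {x | x ^ p ^ k = 1} := rfl

end Main

end Cfsg.Agent.Lib.Helper8
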