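import Mathlib

/-!
# Carve-out K3 (project S2512): `k` odd, `k ∣ q^i + 1`, `k ∣ q^(2n) - 1` ⇒ `k ∣ q^n ∓ 1`
-/

set_option autoImplicit false

namespace Cfsg.Agent.Lib.Carve

/-- in a finite cyclic group there are at most two square roots of `1` -/
theorem K3.sq_eq_one_cyclic {H : Type*} [Group H] [Finite H] [IsCyclic H] {a b : H}
    (ha : a ^ 2 = 1) (hb : b ^ 2 = 1) (hb1 : b ≠ 1) : a = 1 ∨ a = b := by
  classical
  have : Fintype H := Fintype.ofFinite H
  by_contra hcon
  push Not at hcon
  have hle : (Finset.univ.filter fun x : H => x ^ 2 = 1).card ≤ 2 :=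
    IsCyclic.card_pow_eq_one_le (by norm_num)
  have hlt : 2 < (Finset.univ.filter fun x : H => x ^ 2 = 1).card := by
    rw [Finset.two_lt_card_iff]
    refine ⟨1, b, a, ?_, ?_, ?_, hb1.symm, hcon.1.symm, hcon.2.symm⟩
    · simp
    · simp [hb]
    · simp [ha]
  omega

/-- K3 (pure number theory; true with no positivity hyps, ℕ-subtraction). -/
theorem K3.dvd_pm_of_dvd {k q n i : ℕ} (hk : Odd k) (h1 : k ∣ q ^ i + 1)
    (h2 : k ∣ q ^ (2 * n) - 1) : k ∣ q ^ n - 1 ∨ k ∣ q ^ n + 1 := by
  classical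
  rcases eq_or_ne k 1 with rfl | hk1
  · left; exact one_dvd _
  have hk3 : 2 < k := by
    rcases hk with ⟨m, rfl⟩
    omega
  rcases Nat.eq_zero_or_pos n with rfl | hn
  · left; simp
  have hi : i ≠ 0 := by
    rintro rfl
    have : k ≤ 2 := Nat.le_of_dvd (by norm_num) (by simpa using h1)
    omega
  have hq : 1 ≤ q := by
    by_contra h
    have h0 : q = 0 := by omega
    subst h0
    rw [zero_pow hi] at h1
    have : k ≤ 1 := Nat.le_of_dvd (by norm_num) (by simpa using h1)
    omega
  have : NeZero k := ⟨by omega⟩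
  have e1 : (q : ZMod k) ^ i = -1 := by
    have := (ZMod.natCast_eq_zero_iff (q ^ i + 1) k).2 h1
    push_cast at this
    exact eq_neg_of_add_eq_zero_left this
  have e2 : (q : ZMod k) ^ (2 * n) = 1 := by
    have := (ZMod.natCast_eq_zero_iff (q ^ (2 * n) - 1) k).2 h2
    rw [Nat.cast_sub (Nat.one_le_pow _ _ hq)] at this
    push_cast at this
    exact sub_eq_zero.1 this
  have hne : (-1 : ZMod k) ≠ 1 := by
    intro h
    have h2' : ((2 : ℕ) : ZMod k) = 0 := by
      have : (1 : ZMod k) + 1 = 0 := by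
        nth_rewrite 1 [← h]
        simp
      push_cast
      rw [← this]
      norm_num
    have := (ZMod.natCast_eq_zero_iff 2 k).1 h2'
    have : k ≤ 2 := Nat.le_of_dvd (by norm_num) this
    omega
  set u : (ZMod k)ˣ := Units.ofPowEqOne (q : ZMod k) (2 * n) e2 (by omega) with hu
  have hucoe : (u : ZMod k) = q := rfl
  let H := Subgroup.zpowers u
  have hmem : ∀ j : ℕ, u ^ j ∈ H := fun j => Subgroup.npow_mem_zpowers u j
  have key := K3.sq_eq_one_cyclic (H := H) (a := ⟨u ^ n, hmem n⟩) (b := ⟨u ^ i, hmem i⟩)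
    (by
      apply Subtype.ext
      apply Units.ext
      simp only [Subgroup.coe_pow, Units.val_pow_eq_pow_val, Subgroup.coe_one, Units.val_one, hucoe]
      rw [← pow_mul, mul_comm, e2])
    (by
      apply Subtype.ext
      apply Units.ext
      simp only [Subgroup.coe_pow, Units.val_pow_eq_pow_val, Subgroup.coe_one, Units.val_one, hucoe]
      rw [e1]
      norm_num)
    (by
      intro h
      have h' := congrArg (fun x : H => ((x : (ZMod k)ˣ) : ZMod k)) h
      simp only [Units.val_pow_eq_pow_val, Subgroup.coe_one, Units.val_one, hucoe] at h'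
      rw [e1] at h'
      exact hne h')
  rcases key with h | h
  · left
    have h' := congrArg (fun x : H => ((x : (ZMod k)ˣ) : ZMod k)) h
    simp only [Units.val_pow_eq_pow_val, Subgroup.coe_one, Units.val_one, hucoe] at h'
    rw [← (ZMod.natCast_eq_zero_iff (q ^ n - 1) k), Nat.cast_sub (Nat.one_le_pow _ _ hq)]
    push_cast
    rw [h', sub_self]
  · right
    have h' := congrArg (fun x : H => ((x : (ZMod k)ˣ) : ZMod k)) h
    simp only [Units.val_pow_eq_pow_val, hucoe] at h'
    rw [← (ZMod.natCast_eq_zero_iff (q ^ n + 1) k)]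
    push_cast
    rw [h', e1]
    norm_num

end Cfsg.Agent.Lib.Carve
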