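import Mathlib
import Cfsg.Agent.Lib.Helper5.FlvDefs
import Cfsg.Agent.Lib.Helper5.FlvF
import Cfsg.Agent.Lib.Helper5.FlvM
import Cfsg.Agent.Lib.Helper5.FlvR1
import Cfsg.Agent.Lib.Helper4.FlvR2

/-! S3816 package C1: in the central case there is a unique minimal normal subgroup `⟨z⟩`. -/

set_option autoImplicit false

namespace Cfsg.Agent.Lib.Helper8.FlvC1

open scoped Pointwise commutatorElement
open Cfsg.Agent.Lib.Helper5.FlvDefs
open Cfsg.Agent.Lib.Helper5.FlvF
open Cfsg.Agent.Lib.Helper5.FlvM
open Cfsg.Agent.Lib.Helper5.FlvR1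
open Cfsg.Agent.Lib.Helper4.FlvR2

universe u

section
variable {G : Type u} [Group G] [Finite G] {p : ℕ} {P H : Subgroup G}

omit [Finite G] in
/-- subgroups centralised by `H` and `P` are normalised by them -/
theorem normBy_of_le_centralizer {X : Subgroup G} (hH : H ≤ Subgroup.centralizer (X : Set G))
    (hP : X ≤ Subgroup.centralizer (P : Set G)) : NormBy P H X :=
  ⟨hH.trans (Subgroup.centralizer_le_normalizer _),
    (Subgroup.le_centralizer_iff.mp hP).trans (Subgroup.centralizer_le_normalizer _)⟩

/-- in the central case a minimal normal subgroup is centralised by `P` -/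
theorem minNormal_le_centralizer (h : MinCE p P H)
    (hcen : ∀ V, MinNormal P H V → H ≤ Subgroup.centralizer (V : Set G))
    {V : Subgroup G} (hV : MinNormal P H V) : V ≤ Subgroup.centralizer (P : Set G) := by
  have hne : V ⊓ Subgroup.centralizer (P : Set G) ≠ ⊥ := by
    intro hbot
    apply R3 h hV.1 hV.2.1 hV.2.2.1
    rw [hbot]
    exact bot_le
  have hnb : NormBy P H (V ⊓ Subgroup.centralizer (P : Set G)) := by
    apply normBy_of_le_centralizer
    · exact (hcen V hV).trans (Subgroup.centralizer_le (by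
        intro x hx; exact hx.1))
    · exact inf_le_right
  have := hV.2.2.2 _ inf_le_left hne hnb
  rw [← this]
  exact inf_le_right

/-- in the central case a minimal normal subgroup has no proper nontrivial subgroup -/
theorem minNormal_simple (h : MinCE p P H)
    (hcen : ∀ V, MinNormal P H V → H ≤ Subgroup.centralizer (V : Set G))
    {V : Subgroup G} (hV : MinNormal P H V) {X : Subgroup G} (hX : X ≤ V) (hne : X ≠ ⊥) :
    X = V := by
  apply hV.2.2.2 X hX hne
  apply normBy_of_le_centralizer
  · exact (hcen V hV).trans (Subgroup.centralizer_le (by intro x hx; exact hX hx))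
  · exact hX.trans (minNormal_le_centralizer h hcen hV)

/-- in the central case a minimal normal subgroup is generated by any of its nontrivial elements -/
theorem minNormal_eq_zpowers (h : MinCE p P H)
    (hcen : ∀ V, MinNormal P H V → H ≤ Subgroup.centralizer (V : Set G))
    {V : Subgroup G} (hV : MinNormal P H V) {z : G} (hz : z ∈ V) (hz1 : z ≠ 1) :
    Subgroup.zpowers z = V := by
  apply minNormal_simple h hcen hV
  · rw [Subgroup.zpowers_le]; exact hz
  · intro hbot
    apply hz1
    have : z ∈ Subgroup.zpowers z := Subgroup.mem_zpowers z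
    rw [hbot] at this
    exact Subgroup.mem_bot.mp this

/-- PKG-C1 : uniqueness of the minimal normal subgroup -/
theorem C1 (h : MinCE p P H)
    (hcen : ∀ V, MinNormal P H V → H ≤ Subgroup.centralizer (V : Set G)) :
    ∃ z q, CData P H z q := by
  classical
  have hHne := H_ne_bot h
  have hHn : NormBy P H H := ⟨Subgroup.le_normalizer, h.ctx.norm⟩
  obtain ⟨V, hV, -⟩ := exists_minNormal_le (le_refl H) hHne hHn
  obtain ⟨z, hzV, hz1⟩ : ∃ z ∈ V, z ≠ 1 := by
    by_contra hcon
    push Not at hcon
    apply hV.2.1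
    rw [eq_bot_iff]
    intro x hx
    exact Subgroup.mem_bot.mpr (hcon x hx)
  have hVz : Subgroup.zpowers z = V := minNormal_eq_zpowers h hcen hV hzV hz1
  obtain ⟨q, hq, -, -, -, hexp⟩ := minNormal_elem h.ctx hV
  have hzq : orderOf z = q := by
    have h1 : orderOf z ∣ q := orderOf_dvd_of_pow_eq_one (hexp z hzV)
    rcases (Nat.dvd_prime hq).mp h1 with h2 | h2
    · exact absurd (orderOf_eq_one_iff.mp h2) hz1
    · exact h2
  have hVP : V ≤ Subgroup.centralizer (P : Set G) := minNormal_le_centralizer h hcen hV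
  have hVH : V ≤ Subgroup.centralizer (H : Set G) := Subgroup.le_centralizer_iff.mp (hcen V hV)
  have hKH : KK P H ≤ H :=
    (KK_le h.ctx.norm).trans (inf_le_left.trans
      (Cfsg.Agent.Lib.Lead.commutator_le_left_of_le_normalizer H P h.ctx.norm))
  refine ⟨z, q, hq, hV.1 hzV, hzq, hVH hzV, hVP hzV, ?_, ?_⟩
  · intro hzK
    apply R3 h hV.1 hV.2.1 hV.2.2.1
    refine inf_le_left.trans ?_
    rw [← hVz, Subgroup.zpowers_le]
    exact hzK
  · intro N hN hNne hNn
    obtain ⟨V', hV', hV'N⟩ := exists_minNormal_le hN hNne hNn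
    apply hV'N
    by_contra hzV'
    obtain ⟨z', hz'V, hz'1⟩ : ∃ z' ∈ V', z' ≠ 1 := by
      by_contra hcon
      push Not at hcon
      apply hV'.2.1
      rw [eq_bot_iff]
      intro x hx
      exact Subgroup.mem_bot.mpr (hcon x hx)
    have hV'z : Subgroup.zpowers z' = V' := minNormal_eq_zpowers h hcen hV' hz'V hz'1
    have hV'P : V' ≤ Subgroup.centralizer (P : Set G) := minNormal_le_centralizer h hcen hV'
    have hV'H : V' ≤ Subgroup.centralizer (H : Set G) :=
      Subgroup.le_centralizer_iff.mp (hcen V' hV')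
    have hz'mem : z' ∈ H ⊓ Subgroup.centralizer (P : Set G) := ⟨hV'.1 hz'V, hV'P hz'V⟩
    have h2 := R2 h hV.1 hV.2.1 hV.2.2.1 hz'mem
    have hnorm : (V ⊓ Subgroup.centralizer (P : Set G)) ≤ Subgroup.normalizer (KK P H : Set G) :=
      (inf_le_inf_right _ hV.1).trans KK_norm
    have h3 : z' ∈ ((KK P H ⊔ (V ⊓ Subgroup.centralizer (P : Set G)) : Subgroup G) : Set G) := h2
    rw [Subgroup.coe_mul_of_right_le_normalizer_left _ _ hnorm] at h3
    obtain ⟨k, hk, v, hv, hkv⟩ := h3
    have hkv' : k * v = z' := hkv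
    by_cases hk1 : k = 1
    · -- `z' = v ∈ V`
      rw [hk1, one_mul] at hkv'
      have h4 : V' ≤ V := by
        rw [← hV'z, Subgroup.zpowers_le, ← hkv']
        exact hv.1
      have h5 : V' = V := minNormal_simple h hcen hV h4 hV'.2.1
      exact hzV' (h5 ▸ hzV)
    · -- `⟨k⟩` is a normal subgroup inside `K`
      have hkeq : k = z' * v⁻¹ := by rw [← hkv']; group
      have hkH : k ∈ Subgroup.centralizer (H : Set G) := by
        rw [hkeq]
        exact Subgroup.mul_mem _ (hV'H hz'V) (Subgroup.inv_mem _ (hVH hv.1))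
      have hkP : k ∈ Subgroup.centralizer (P : Set G) := by
        rw [hkeq]
        exact Subgroup.mul_mem _ (hV'P hz'V) (Subgroup.inv_mem _ hv.2)
      have hW : NormBy P H (Subgroup.zpowers k) := by
        apply normBy_of_le_centralizer
        · apply Subgroup.le_centralizer_iff.mp
          rw [Subgroup.zpowers_le]; exact hkH
        · rw [Subgroup.zpowers_le]; exact hkP
      have hWne : Subgroup.zpowers k ≠ ⊥ := by
        intro hbot
        apply hk1
        have : k ∈ Subgroup.zpowers k := Subgroup.mem_zpowers k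
        rw [hbot] at this
        exact Subgroup.mem_bot.mp this
      have hWH : Subgroup.zpowers k ≤ H := by
        rw [Subgroup.zpowers_le]; exact hKH hk
      apply R3 h hWH hWne hW
      refine inf_le_left.trans ?_
      rw [Subgroup.zpowers_le]
      exact hk

end

end Cfsg.Agent.Lib.Helper8.FlvC1
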