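import Mathlib
import Cfsg.Agent.Lib.Helper7.Sims3_11

/-! S4385 (Glauberman: `H / O₂(H)` dihedral, outer normaliser of a Sylow 2-subgroup): shared
definitions.  `TSn` is helper7's Tutte sequence `TS` (Helper7/Sims3_5) with the vertex stabiliser
`⟨x 0, …, x k⟩` of order `n * 2 ^ k` instead of `3 * 2 ^ k`. -/

set_option autoImplicit false

namespace Cfsg.Agent.Lib.Helper8.GDih

open Cfsg.Agent.Lib.Helper7 Cfsg.Agent.Lib.Helper7.Sims3

variable {G : Type*} [Group G]

/-- a generalised Tutte sequence: involutions `x i`, shifted by `h`, windows of length `≤ k` have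
order `2 ^ length`, the window `⟨x 0, …, x k⟩` has order `n * 2 ^ k`, and no nontrivial subgroup of
`⟨x 1, …, x k⟩` is normalised by `x 0, …, x (k+1)`. -/
structure TSn (x : ℤ → G) (h : G) (k n : ℕ) : Prop where
  sq : ∀ i, x i * x i = 1
  ne : ∀ i, x i ≠ 1
  shift : IsShift x h
  card : ∀ p q : ℤ, p ≤ q + 1 → q + 1 - p ≤ k → Nat.card (Y x p q) = 2 ^ (q + 1 - p).toNat
  cardP : Nat.card (Y x 0 k) = n * 2 ^ k
  nn : ∀ N : Subgroup G, N ≤ Y x 1 k →
    (∀ i : ℤ, 0 ≤ i → i ≤ k + 1 → x i ∈ Subgroup.normalizer (N : Set G)) → N = ⊥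

end Cfsg.Agent.Lib.Helper8.GDih
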