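import Mathlib
import Cfsg.Agent.Lib.Helper8.GDihDefs

/-! S4385, package T1: the Sims/Tutte bound `k ≤ 4` for a generalised Tutte sequence `TSn`
(valency `n` instead of 3).  This is a copy of Helper7/Sims3_7 … Sims3_11 (helper7's proof for
valency 3, which never uses the order of the vertex stabiliser), with `TS` replaced by `TSn`. -/

set_option autoImplicit false

namespace Cfsg.Agent.Lib.Helper8.GDih

open Cfsg.Agent.Lib.Helper7 Cfsg.Agent.Lib.Helper7.Sims3

variable {G : Type*} [Group G] [Finite G] {x : ℤ → G} {h : G} {k n : ℕ}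

namespace TSn

/-! ### from Sims3_7.lean -/

theorem inv_eq (T : TSn x h k n) (i : ℤ) : (x i)⁻¹ = x i :=
  inv_eq_of_mul_eq_one_left (T.sq i)

theorem not_mem_left (T : TSn x h k n) {p q : ℤ} (h1 : p ≤ q) (h2 : q + 1 - p ≤ k) :
    x p ∉ Y x (p + 1) q := by
  intro h3
  have h4 : Y x p q ≤ Y x (p + 1) q := by
    apply Y_le
    intro i hi1 hi2
    rcases eq_or_lt_of_le hi1 with h5 | h5
    · rw [← h5]; exact h3
    · exact x_mem_Y x (by omega) hi2
  have h5 := Subgroup.card_le_of_le h4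
  rw [T.card p q (by omega) h2, T.card (p + 1) q (by omega) (by omega)] at h5
  have h6 : (q + 1 - p).toNat = (q + 1 - (p + 1)).toNat + 1 := by omega
  rw [h6, pow_succ] at h5
  have := Nat.one_le_two_pow (n := (q + 1 - (p + 1)).toNat)
  omega

theorem not_mem_right (T : TSn x h k n) {p q : ℤ} (h1 : p ≤ q) (h2 : q + 1 - p ≤ k) :
    x q ∉ Y x p (q - 1) := by
  intro h3
  have h4 : Y x p q ≤ Y x p (q - 1) := by
    apply Y_le
    intro i hi1 hi2
    rcases eq_or_lt_of_le hi2 with h5 | h5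
    · rw [h5]; exact h3
    · exact x_mem_Y x hi1 (by omega)
  have h5 := Subgroup.card_le_of_le h4
  rw [T.card p q (by omega) h2, T.card p (q - 1) (by omega) (by omega)] at h5
  have h6 : (q + 1 - p).toNat = (q - 1 + 1 - p).toNat + 1 := by omega
  rw [h6, pow_succ] at h5
  have := Nat.one_le_two_pow (n := (q - 1 + 1 - p).toNat)
  omega

theorem relIndex_left (T : TSn x h k n) {p q : ℤ} (h1 : p ≤ q) (h2 : q + 1 - p ≤ k) :
    (Y x (p + 1) q).relIndex (Y x p q) = 2 := by
  have h3 := card_eq_relIndex_mul (Y_mono x (by omega : p ≤ p + 1) (le_refl q))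
  rw [T.card p q (by omega) h2, T.card (p + 1) q (by omega) (by omega)] at h3
  have h6 : (q + 1 - p).toNat = (q + 1 - (p + 1)).toNat + 1 := by omega
  rw [h6, pow_succ] at h3
  have := Nat.one_le_two_pow (n := (q + 1 - (p + 1)).toNat)
  nlinarith

theorem relIndex_right (T : TSn x h k n) {p q : ℤ} (h1 : p ≤ q) (h2 : q + 1 - p ≤ k) :
    (Y x p (q - 1)).relIndex (Y x p q) = 2 := by
  have h3 := card_eq_relIndex_mul (Y_mono x (le_refl p) (by omega : q - 1 ≤ q))
  rw [T.card p q (by omega) h2, T.card p (q - 1) (by omega) (by omega)] at h3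
  have h6 : (q + 1 - p).toNat = (q - 1 + 1 - p).toNat + 1 := by omega
  rw [h6, pow_succ] at h3
  have := Nat.one_le_two_pow (n := (q - 1 + 1 - p).toNat)
  nlinarith

/-- left coset decomposition of a window -/
theorem mem_left_cases (T : TSn x h k n) {p q : ℤ} (h1 : p ≤ q) (h2 : q + 1 - p ≤ k) {g : G}
    (hg : g ∈ Y x p q) : g ∈ Y x (p + 1) q ∨ ∃ g' ∈ Y x (p + 1) q, g = x p * g' := by
  by_cases hg' : g ∈ Y x (p + 1) q
  · exact Or.inl hg'
  · right
    refine ⟨x p * g, ?_, ?_⟩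
    · exact mul_mem_of_relIndex_two (Y_mono x (by omega) le_rfl) (T.relIndex_left h1 h2)
        (x_mem_Y x le_rfl h1) hg (T.not_mem_left h1 h2) hg'
    · rw [← mul_assoc, T.sq, one_mul]

/-- right coset decomposition of a window -/
theorem mem_right_cases (T : TSn x h k n) {p q : ℤ} (h1 : p ≤ q) (h2 : q + 1 - p ≤ k) {g : G}
    (hg : g ∈ Y x p q) : g ∈ Y x p (q - 1) ∨ ∃ g' ∈ Y x p (q - 1), g = g' * x q := by
  by_cases hg' : g ∈ Y x p (q - 1)
  · exact Or.inl hg'
  · right
    refine ⟨g * x q, ?_, ?_⟩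
    · exact mul_mem_of_relIndex_two (Y_mono x le_rfl (by omega)) (T.relIndex_right h1 h2)
        hg (x_mem_Y x h1 le_rfl) hg' (T.not_mem_right h1 h2)
    · rw [mul_assoc, T.sq, mul_one]

theorem inf_eq (T : TSn x h k n) {p q : ℤ} (h1 : p < q) (h2 : q + 1 - p ≤ k) :
    Y x p (q - 1) ⊓ Y x (p + 1) q = Y x (p + 1) (q - 1) := by
  symm
  apply Subgroup.eq_of_le_of_card_ge
    (le_inf (Y_mono x (by omega) le_rfl) (Y_mono x le_rfl (by omega)))
  have h3 : (Y x p (q - 1) ⊓ Y x (p + 1) q).relIndex (Y x p (q - 1)) = 2 := by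
    rw [Subgroup.inf_relIndex_left]
    have h4 : (Y x (p + 1) q).relIndex (Y x p (q - 1)) ≤ (Y x (p + 1) q).relIndex (Y x p q) :=
      Subgroup.relIndex_le_of_le_right (Y_mono x le_rfl (by omega)) (relIndex_ne_zero' _ _)
    rw [T.relIndex_left h1.le h2] at h4
    have h5 : (Y x (p + 1) q).relIndex (Y x p (q - 1)) ≠ 1 := by
      rw [Ne, Subgroup.relIndex_eq_one]
      intro h6
      exact T.not_mem_left h1.le h2 (h6 (x_mem_Y x le_rfl (by omega)))
    have h6 := relIndex_ne_zero' (Y x (p + 1) q) (Y x p (q - 1))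
    omega
  have h4 := card_eq_relIndex_mul (inf_le_left : Y x p (q - 1) ⊓ Y x (p + 1) q ≤ Y x p (q - 1))
  rw [h3, T.card p (q - 1) (by omega) (by omega)] at h4
  rw [T.card (p + 1) (q - 1) (by omega) (by omega)]
  have h6 : (q - 1 + 1 - p).toNat = (q - 1 + 1 - (p + 1)).toNat + 1 := by omega
  rw [h6, pow_succ] at h4
  omega

/-- the commutator of the end points lies in the inner window -/
theorem comm_mem (T : TSn x h k n) {p q : ℤ} (h1 : p < q) (h2 : q + 1 - p ≤ k) :
    x p * x q * (x p)⁻¹ * (x q)⁻¹ ∈ Y x (p + 1) (q - 1) := by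
  rw [← T.inf_eq h1 h2]
  refine Subgroup.mem_inf.2 ⟨?_, ?_⟩
  · have h3 : x q * (x p)⁻¹ * (x q)⁻¹ ∈ Y x p (q - 1) :=
      conj_mem_of_relIndex_two (Y_mono x le_rfl (by omega)) (T.relIndex_right h1.le h2)
        (x_mem_Y x h1.le le_rfl) (Subgroup.inv_mem _ (x_mem_Y x le_rfl (by omega)))
    have h4 : x p * x q * (x p)⁻¹ * (x q)⁻¹ = x p * (x q * (x p)⁻¹ * (x q)⁻¹) := by group
    rw [h4]
    exact Subgroup.mul_mem _ (x_mem_Y x le_rfl (by omega)) h3
  · have h3 : x p * x q * (x p)⁻¹ ∈ Y x (p + 1) q :=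
      conj_mem_of_relIndex_two (Y_mono x (by omega) le_rfl) (T.relIndex_left h1.le h2)
        (x_mem_Y x le_rfl h1.le) (x_mem_Y x (by omega) le_rfl)
    exact Subgroup.mul_mem _ h3 (Subgroup.inv_mem _ (x_mem_Y x (by omega) le_rfl))

theorem commute_succ (T : TSn x h k n) (hk : 2 ≤ k) (i : ℤ) : Commute (x i) (x (i + 1)) := by
  have h1 := T.comm_mem (p := i) (q := i + 1) (by omega) (by omega)
  rw [Y_empty x (by omega), Subgroup.mem_bot] at h1
  show x i * x (i + 1) = x (i + 1) * x i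
  have h2 : x i * x (i + 1) = (x i * x (i + 1) * (x i)⁻¹ * (x (i + 1))⁻¹) * x (i + 1) * x i := by
    group
  rw [h2, h1, one_mul]


/-! ### from Sims3_8.lean -/

theorem comm_dist (T : TSn x h k n) {ℓ : ℕ} (hab : Ab x ℓ) (i j : ℤ) (h1 : i - j ≤ (ℓ : ℤ) - 1)
    (h2 : j - i ≤ (ℓ : ℤ) - 1) : Commute (x i) (x j) := by
  rcases lt_trichotomy i j with h3 | h3 | h3
  · have := (T.shift.commute_iff i 0 (j - i)).2 (hab (j - i) (by omega) h2)
    rwa [zero_add, sub_add_cancel] at this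
  · rw [h3]
  · have := (T.shift.commute_iff j 0 (i - j)).2 (hab (i - j) (by omega) h1)
    rw [zero_add, sub_add_cancel] at this
    exact this.symm

/-- the abelian case: `k ≤ 2` -/
theorem le_two_of_ab (T : TSn x h k n) (hab : Ab x k) : k ≤ 2 := by
  by_contra hcon
  have hk : 3 ≤ k := by omega
  have h1 : Y x 2 ((k : ℤ) - 1) = ⊥ := by
    apply T.nn _ (Y_mono x (by omega) (by omega))
    intro i hi1 hi2
    apply TS.mem_normalizer_of_commute
    intro j hj1 hj2
    exact T.comm_dist hab i j (by omega) (by omega)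
  have h2 : x 2 ∈ Y x 2 ((k : ℤ) - 1) := x_mem_Y x le_rfl (by omega)
  rw [h1, Subgroup.mem_bot] at h2
  exact T.ne 2 h2

section nonab

variable {ℓ : ℕ}

end nonab


/-! ### from Sims3_9.lean -/

variable {ℓ : ℕ}

theorem cm_mem (T : TSn x h k n) (N : NA x k ℓ) : cm x ℓ ∈ Y x 1 ((ℓ : ℤ) - 1) := by
  have := T.comm_mem (p := 0) (q := ℓ) (by have := N.two; omega) (by have := N.lt; omega)
  rwa [zero_add] at this

theorem cm_ne (T : TSn x h k n) (N : NA x k ℓ) : cm x ℓ ≠ 1 := by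
  intro h1
  apply N.nc
  show x 0 * x ℓ = x ℓ * x 0
  have h2 : x 0 * x ℓ = cm x ℓ * x ℓ * x 0 := by unfold cm; group
  rw [h2, h1, one_mul]

theorem nc_shift (T : TSn x h k n) (N : NA x k ℓ) (m : ℤ) : ¬ Commute (x m) (x (m + ℓ)) := by
  intro h1
  apply N.nc
  have := (T.shift.commute_iff m 0 ℓ).1
  rw [zero_add, add_comm] at this
  exact this h1

theorem stepL (T : TSn x h k n) (N : NA x k ℓ) (m : ℤ) (h1 : 1 ≤ m) (h2 : m + ℓ ≤ (k : ℤ) - 1)
    (hc : cm x ℓ ∈ Y x m ((ℓ : ℤ) - 1)) : cm x ℓ ∈ Y x (m + 1) ((ℓ : ℤ) - 1) := by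
  have hℓk := N.lt
  have hm : m ≤ (ℓ : ℤ) - 1 := by
    by_contra hcon
    rw [Y_empty x (by omega), Subgroup.mem_bot] at hc
    exact T.cm_ne N hc
  rcases T.mem_left_cases hm (by omega) hc with h3 | ⟨c', hc', hcc'⟩
  · exact h3
  · exfalso
    set y := x (m + ℓ) with hy
    have hyc' : Commute y c' := by
      apply commute_of_forall x _ hc'
      intro i hi1 hi2
      exact T.comm_dist N.ab _ _ (by omega) (by omega)
    have hyb : Commute y (x ℓ) := T.comm_dist N.ab _ _ (by omega) (by omega)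
    have hd : y * x 0 * y⁻¹ * (x 0)⁻¹ ∈ Y x 1 (m + ℓ - 1) := by
      have h4 := T.comm_mem (p := 0) (q := m + ℓ) (by omega) (by omega)
      rw [zero_add] at h4
      have h5 : y * x 0 * y⁻¹ * (x 0)⁻¹ = (x 0 * x (m + ℓ) * (x 0)⁻¹ * (x (m + ℓ))⁻¹)⁻¹ := by
        rw [hy]; group
      rw [h5]
      exact Subgroup.inv_mem _ h4
    have hdb : Commute (y * x 0 * y⁻¹ * (x 0)⁻¹) (x ℓ) := by
      apply Commute.symm
      apply commute_of_forall x _ hd
      intro j hj1 hj2
      exact T.comm_dist N.ab _ _ (by omega) (by omega)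
    have hdc : Commute (y * x 0 * y⁻¹ * (x 0)⁻¹) (x 0 * x ℓ * (x 0)⁻¹ * (x ℓ)⁻¹) := by
      apply commute_of_forall₂ x _ hd hc
      intro i j hi1 hi2 hj1 hj2
      exact T.comm_dist N.ab _ _ (by omega) (by omega)
    have hyc : Commute y (cm x ℓ) := TS.conj_comm_left hyb hdb hdc
    have hym : Commute y (x m) := by
      have h6 : x m = cm x ℓ * c'⁻¹ := by rw [hcc']; group
      rw [h6]
      exact hyc.mul_right hyc'.inv_right
    exact T.nc_shift N m hym.symm

theorem stepR (T : TSn x h k n) (N : NA x k ℓ) (a m : ℤ) (h1 : 1 ≤ a)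
    (h2 : 2 * (ℓ : ℤ) - m ≤ (k : ℤ) - 1) (h3 : m ≤ (ℓ : ℤ) - 1)
    (hc : cm x ℓ ∈ Y x a m) : cm x ℓ ∈ Y x a (m - 1) := by
  have hℓk := N.lt
  have hm : a ≤ m := by
    by_contra hcon
    rw [Y_empty x (by omega), Subgroup.mem_bot] at hc
    exact T.cm_ne N hc
  rcases T.mem_right_cases hm (by omega) hc with h3 | ⟨c', hc', hcc'⟩
  · exact h3
  · exfalso
    set y := x (m - ℓ) with hy
    have hyc' : Commute y c' := by
      apply commute_of_forall x _ hc'
      intro i hi1 hi2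
      exact T.comm_dist N.ab _ _ (by omega) (by omega)
    have hya : Commute y (x 0) := T.comm_dist N.ab _ _ (by omega) (by omega)
    have hd : y * x ℓ * y⁻¹ * (x ℓ)⁻¹ ∈ Y x (m - ℓ + 1) ((ℓ : ℤ) - 1) := by
      exact T.comm_mem (p := m - ℓ) (q := ℓ) (by omega) (by omega)
    have hda : Commute (y * x ℓ * y⁻¹ * (x ℓ)⁻¹) (x 0) := by
      apply Commute.symm
      apply commute_of_forall x _ hd
      intro j hj1 hj2
      exact T.comm_dist N.ab _ _ (by omega) (by omega)
    have hdc : Commute (y * x ℓ * y⁻¹ * (x ℓ)⁻¹) (x 0 * x ℓ * (x 0)⁻¹ * (x ℓ)⁻¹) := by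
      apply commute_of_forall₂ x _ hd hc
      intro i j hi1 hi2 hj1 hj2
      exact T.comm_dist N.ab _ _ (by omega) (by omega)
    have hyc : Commute y (cm x ℓ) := TS.conj_comm_right hya hda hdc
    have hym : Commute y (x m) := by
      have h6 : x m = c'⁻¹ * cm x ℓ := by rw [hcc']; group
      rw [h6]
      exact hyc'.inv_right.mul_right hyc
    have := T.nc_shift N (m - ℓ)
    rw [sub_add_cancel] at this
    exact this hym

theorem cm_mem_L (T : TSn x h k n) (N : NA x k ℓ) (n : ℕ) (hn : (1 : ℤ) + n ≤ (k : ℤ) - ℓ) :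
    cm x ℓ ∈ Y x (1 + n) ((ℓ : ℤ) - 1) := by
  induction n with
  | zero => simpa using T.cm_mem N
  | succ n ih =>
    have h1 := T.stepL N (1 + n) (by omega) (by push_cast at hn; omega) (ih (by push_cast at hn ⊢; omega))
    have h2 : (1 : ℤ) + (n + 1 : ℕ) = 1 + n + 1 := by push_cast; ring
    rw [h2]; exact h1

theorem cm_mem_LR (T : TSn x h k n) (N : NA x k ℓ) (n : ℕ)
    (hn : 2 * (ℓ : ℤ) - k ≤ (ℓ : ℤ) - 1 - n) :
    cm x ℓ ∈ Y x ((k : ℤ) - ℓ) ((ℓ : ℤ) - 1 - n) := by
  have hℓk := N.lt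
  induction n with
  | zero =>
    have := T.cm_mem_L N (k - ℓ - 1) (by omega)
    have h1 : (1 : ℤ) + ((k - ℓ - 1 : ℕ) : ℤ) = (k : ℤ) - ℓ := by omega
    rw [h1] at this
    simpa using this
  | succ n ih =>
    have h1 := T.stepR N ((k : ℤ) - ℓ) ((ℓ : ℤ) - 1 - n) (by omega)
      (by push_cast at hn; omega) (by omega) (ih (by push_cast at hn ⊢; omega))
    have h2 : (ℓ : ℤ) - 1 - (n + 1 : ℕ) = (ℓ : ℤ) - 1 - n - 1 := by push_cast; ring
    rw [h2]; exact h1

/-- the commutator lies in `⟨x (k-ℓ), …, x (2ℓ-k)⟩` -/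
theorem cm_mem_window (T : TSn x h k n) (N : NA x k ℓ) :
    cm x ℓ ∈ Y x ((k : ℤ) - ℓ) (2 * (ℓ : ℤ) - k) := by
  have hℓk := N.lt
  by_cases h1 : 2 * (ℓ : ℤ) - k ≤ (ℓ : ℤ) - 1
  · have := T.cm_mem_LR N ((ℓ : ℤ) - 1 - (2 * (ℓ : ℤ) - k)).toNat (by omega)
    have h2 : (ℓ : ℤ) - 1 - (((ℓ : ℤ) - 1 - (2 * (ℓ : ℤ) - k)).toNat : ℤ) = 2 * (ℓ : ℤ) - k := by
      omega
    rwa [h2] at this
  · omega

theorem window_ineq (T : TSn x h k n) (N : NA x k ℓ) : (k : ℤ) - ℓ ≤ 2 * (ℓ : ℤ) - k := by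
  by_contra hcon
  have := T.cm_mem_window N
  rw [Y_empty x (by omega), Subgroup.mem_bot] at this
  exact T.cm_ne N this

theorem window_le_two (T : TSn x h k n) (N : NA x k ℓ) : 2 * (ℓ : ℤ) - k ≤ 2 := by
  have hℓk := N.lt
  by_contra hcon
  have h1 : Y x ((k : ℤ) - ℓ + 2) ((ℓ : ℤ) - 1) = ⊥ := by
    apply T.nn _ (Y_mono x (by omega) (by omega))
    intro i hi1 hi2
    apply TS.mem_normalizer_of_commute
    intro j hj1 hj2
    exact T.comm_dist N.ab i j (by omega) (by omega)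
  have h2 : x ((k : ℤ) - ℓ + 2) ∈ Y x ((k : ℤ) - ℓ + 2) ((ℓ : ℤ) - 1) :=
    x_mem_Y x le_rfl (by omega)
  rw [h1, Subgroup.mem_bot] at h2
  exact T.ne _ h2

/-- the possible parameters -/
theorem params (T : TSn x h k n) (N : NA x k ℓ) :
    (k = 3 ∧ ℓ = 2) ∨ (k = 4 ∧ ℓ = 3) ∨ (k = 6 ∧ ℓ = 4) := by
  have h1 := T.window_ineq N
  have h2 := T.window_le_two N
  have h3 := N.lt
  omega


/-! ### from Sims3_10.lean -/

variable {ℓ : ℕ}

/-- windows inside the abelian range consist of involutions -/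
theorem sq_of_mem (T : TSn x h k n) (hab : Ab x ℓ) {p q : ℤ} (hpq : q - p ≤ (ℓ : ℤ) - 1) {g : G}
    (hg : g ∈ Y x p q) : g * g = 1 := by
  unfold Y at hg
  induction hg using Subgroup.closure_induction with
  | mem y hy =>
    obtain ⟨i, _, rfl⟩ := hy
    exact T.sq i
  | one => simp
  | mul a b ha hb iha ihb =>
    have hc : Commute a b := by
      apply commute_of_forall₂ x _ ha hb
      intro i j hi1 hi2 hj1 hj2
      exact T.comm_dist hab i j (by omega) (by omega)
    calc a * b * (a * b) = a * (b * a) * b := by group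
      _ = a * (a * b) * b := by rw [hc.eq]
      _ = (a * a) * (b * b) := by group
      _ = 1 := by rw [iha, ihb, one_mul]
  | inv a ha iha =>
    have : a⁻¹ = a := inv_eq_of_mul_eq_one_left iha
    rw [this, iha]

theorem cm_shift (T : TSn x h k n) (m : ℤ) :
    x m * x (m + ℓ) * (x m)⁻¹ * (x (m + ℓ))⁻¹ = h ^ m * cm x ℓ * (h ^ m)⁻¹ := by
  unfold cm
  have h1 := T.shift.zpow m 0
  have h2 := T.shift.zpow m ℓ
  rw [zero_add] at h1
  rw [add_comm] at h2
  rw [← h1, ← h2]
  group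

/-- the parameters `(6, 4)` do not occur -/
theorem not_six (T : TSn x h 6 n) (N : NA x 6 4) : False := by
  have hab := N.ab
  -- the commutator is `x 2`
  have hc2 : cm x 4 = x 2 := by
    have h1 := T.cm_mem_window N
    norm_num at h1
    rw [Y_self] at h1
    rcases TS.mem_zpowers_cases (T.sq 2) h1 with h2 | h2
    · exact absurd h2 (T.cm_ne N)
    · exact h2
  have hcm : ∀ m : ℤ, x m * x (m + 4) * (x m)⁻¹ * (x (m + 4))⁻¹ = x (m + 2) := by
    intro m
    have h1 := T.cm_shift (ℓ := 4) m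
    rw [hc2, T.shift.zpow, add_comm 2 m] at h1
    exact_mod_cast h1
  have hcomm : ∀ i j : ℤ, i - j ≤ 3 → j - i ≤ 3 → Commute (x i) (x j) := fun i j h1 h2 =>
    T.comm_dist hab i j (by norm_num; omega) (by norm_num; omega)
  have hA : Y x 2 5 = ⊥ := by
    apply T.nn _ (Y_mono x (by norm_num) (by norm_num))
    intro i hi1 hi2
    have hi2' : i ≤ 7 := by norm_num at hi2; omega
    by_cases hi : 2 ≤ i ∧ i ≤ 5
    · exact Subgroup.le_normalizer (x_mem_Y x hi.1 hi.2)
    · apply mem_normalizer_of_conj_mem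
      intro j hj1 hj2
      by_cases hd : i - j ≤ 3 ∧ j - i ≤ 3
      · have := (hcomm i j hd.1 hd.2).eq
        rw [this, mul_inv_cancel_right]
        exact x_mem_Y x hj1 hj2
      · -- the far pairs
        have hcases : (i = 1 ∧ j = 5) ∨ (i = 6 ∧ j = 2) ∨ (i = 0 ∧ j = 4) ∨ (i = 0 ∧ j = 5) ∨
            (i = 7 ∧ j = 3) ∨ (i = 7 ∧ j = 2) := by omega
        rcases hcases with ⟨rfl, rfl⟩ | ⟨rfl, rfl⟩ | ⟨rfl, rfl⟩ | ⟨rfl, rfl⟩ | ⟨rfl, rfl⟩ | ⟨rfl, rfl⟩
        · have h1 := hcm 1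
          norm_num at h1
          have h2 : x 1 * x 5 * (x 1)⁻¹ = x 3 * x 5 := by rw [← h1]; group
          rw [h2]
          exact Subgroup.mul_mem _ (x_mem_Y x (by norm_num) (by norm_num))
            (x_mem_Y x (by norm_num) (by norm_num))
        · have h1 := hcm 2
          norm_num at h1
          have h2 : x 6 * x 2 * (x 6)⁻¹ = (x 4)⁻¹ * x 2 := by rw [← h1]; group
          rw [h2]
          exact Subgroup.mul_mem _ (Subgroup.inv_mem _ (x_mem_Y x (by norm_num) (by norm_num)))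
            (x_mem_Y x (by norm_num) (by norm_num))
        · have h1 := hcm 0
          norm_num at h1
          have h2 : x 0 * x 4 * (x 0)⁻¹ = x 2 * x 4 := by rw [← h1]; group
          rw [h2]
          exact Subgroup.mul_mem _ (x_mem_Y x (by norm_num) (by norm_num))
            (x_mem_Y x (by norm_num) (by norm_num))
        · -- `e = [x 0, x 5] ∈ ⟨x 2, x 3, x 4⟩`
          have he := T.comm_mem (p := 0) (q := 5) (by norm_num) (by norm_num)
          norm_num at he
          have hesq := T.sq_of_mem hab (p := 1) (q := 4) (by norm_num) he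
          have hec := TS.comm_commute_of_sq (T.sq 5) hesq
          have he24 : x 0 * x 5 * (x 0)⁻¹ * (x 5)⁻¹ ∈ Y x 2 4 := by
            rcases T.mem_left_cases (p := 1) (q := 4) (by norm_num) (by norm_num) he with
              h3 | ⟨e', he', hee'⟩
            · exact h3
            · exfalso
              have h4 : Commute e' (x 5) := by
                apply Commute.symm
                apply commute_of_forall x _ he'
                intro j hj1 hj2
                exact hcomm 5 j (by omega) (by omega)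
              have h5 : x 1 = (x 0 * x 5 * (x 0)⁻¹ * (x 5)⁻¹) * e'⁻¹ := by rw [hee']; group
              have h6 : Commute (x 1) (x 5) := by
                rw [h5]; exact hec.mul_left h4.inv_left
              have := T.nc_shift N 1
              norm_num at this
              exact this h6
          have h2 : x 0 * x 5 * (x 0)⁻¹ = (x 0 * x 5 * (x 0)⁻¹ * (x 5)⁻¹) * x 5 := by group
          rw [h2]
          exact Subgroup.mul_mem _ (Y_mono x (by norm_num) (by norm_num) he24)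
            (x_mem_Y x (by norm_num) (by norm_num))
        · have h1 := hcm 3
          norm_num at h1
          have h2 : x 7 * x 3 * (x 7)⁻¹ = (x 5)⁻¹ * x 3 := by rw [← h1]; group
          rw [h2]
          exact Subgroup.mul_mem _ (Subgroup.inv_mem _ (x_mem_Y x (by norm_num) (by norm_num)))
            (x_mem_Y x (by norm_num) (by norm_num))
        · -- `e = [x 7, x 2] ∈ ⟨x 3, x 4, x 5⟩`
          have he0 := T.comm_mem (p := 2) (q := 7) (by norm_num) (by norm_num)
          norm_num at he0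
          have he : x 7 * x 2 * (x 7)⁻¹ * (x 2)⁻¹ ∈ Y x 3 6 := by
            have : x 7 * x 2 * (x 7)⁻¹ * (x 2)⁻¹ = (x 2 * x 7 * (x 2)⁻¹ * (x 7)⁻¹)⁻¹ := by group
            rw [this]; exact Subgroup.inv_mem _ he0
          have hesq := T.sq_of_mem hab (p := 3) (q := 6) (by norm_num) he
          have hec := TS.comm_commute_of_sq (T.sq 2) hesq
          have he35 : x 7 * x 2 * (x 7)⁻¹ * (x 2)⁻¹ ∈ Y x 3 5 := by
            rcases T.mem_right_cases (p := 3) (q := 6) (by norm_num) (by norm_num) he with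
              h3 | ⟨e', he', hee'⟩
            · exact h3
            · exfalso
              norm_num at he'
              have h4 : Commute e' (x 2) := by
                apply Commute.symm
                apply commute_of_forall x _ he'
                intro j hj1 hj2
                exact hcomm 2 j (by omega) (by omega)
              have h5 : x 6 = e'⁻¹ * (x 7 * x 2 * (x 7)⁻¹ * (x 2)⁻¹) := by rw [hee']; group
              have h6 : Commute (x 6) (x 2) := by
                rw [h5]; exact h4.inv_left.mul_left hec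
              have := T.nc_shift N 2
              norm_num at this
              exact this h6.symm
          have h2 : x 7 * x 2 * (x 7)⁻¹ = (x 7 * x 2 * (x 7)⁻¹ * (x 2)⁻¹) * x 2 := by group
          rw [h2]
          exact Subgroup.mul_mem _ (Y_mono x (by norm_num) (by norm_num) he35)
            (x_mem_Y x (by norm_num) (by norm_num))
  have h2 : x 2 ∈ Y x 2 5 := x_mem_Y x le_rfl (by norm_num)
  rw [hA, Subgroup.mem_bot] at h2
  exact T.ne 2 h2


/-! ### from Sims3_11.lean -/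

theorem ab_two (T : TSn x h k n) (hk : 2 ≤ k) : Ab x 2 := by
  intro j h1 h2
  norm_num at h2
  have : j = 0 + 1 := by omega
  rw [this]
  exact T.commute_succ hk 0

/-- either the window `⟨x 1, …, x k⟩` is abelian, or there is a non-abelian range -/
theorem ab_or_na (T : TSn x h k n) (hk : 1 ≤ k) : Ab x k ∨ ∃ ℓ, NA x k ℓ := by
  classical
  set ℓ := Nat.findGreatest (Ab x) k with hℓ
  have h1 : Ab x ℓ := Nat.findGreatest_spec hk (TS.ab_one x)
  have h2 : ℓ ≤ k := Nat.findGreatest_le k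
  rcases eq_or_lt_of_le h2 with h3 | h3
  · left; rw [← h3]; exact h1
  · right
    have hk2 : 2 ≤ k := by
      have : 1 ≤ ℓ := Nat.le_findGreatest hk (TS.ab_one x)
      omega
    have h4 : 2 ≤ ℓ := Nat.le_findGreatest hk2 (T.ab_two hk2)
    have h5 : ¬ Ab x (ℓ + 1) := Nat.findGreatest_is_greatest (Nat.lt_succ_self ℓ) h3
    refine ⟨ℓ, h1, h3, h4, ?_⟩
    intro h6
    apply h5
    intro j hj1 hj2
    by_cases hj : j ≤ (ℓ : ℤ) - 1
    · exact h1 j hj1 hj
    · have : j = ℓ := by push_cast at hj2; omega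
      rw [this]; exact h6

/-- the three cases -/
theorem cases (T : TSn x h k n) (hk : 1 ≤ k) :
    (k ≤ 2 ∧ Ab x k) ∨ (k = 3 ∧ NA x 3 2) ∨ (k = 4 ∧ NA x 4 3) := by
  rcases T.ab_or_na hk with h1 | ⟨ℓ, hN⟩
  · exact Or.inl ⟨T.le_two_of_ab h1, h1⟩
  · rcases T.params hN with ⟨rfl, rfl⟩ | ⟨rfl, rfl⟩ | ⟨rfl, rfl⟩
    · exact Or.inr (Or.inl ⟨rfl, hN⟩)
    · exact Or.inr (Or.inr ⟨rfl, hN⟩)
    · exact absurd (T.not_six hN) id

theorem k_le_four (T : TSn x h k n) (hk : 1 ≤ k) : k ≤ 4 := by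
  rcases T.cases hk with ⟨h1, _⟩ | ⟨h1, _⟩ | ⟨h1, _⟩ <;> omega


end TSn

end Cfsg.Agent.Lib.Helper8.GDih
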