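import Mathlib
import Cfsg.Prelude.Def_Blocks
import Cfsg.Prelude.Def_BlockRank
import Cfsg.Agent.Lib.Helper8.BF8

/-!
# The diagonal contributions; the quadratic relation for an arbitrary row
-/

set_option autoImplicit false

namespace Cfsg.Agent.Lib.Helper8

open Cfsg
open scoped ComplexConjugate
open Cfsg.Agent.Lib.Helper1 Cfsg.Agent.Lib.Helper4

universe u

section

variable {G : Type u} [Group G] [Fintype G] {M : Ideal AlgInt} {p : ℕ}

/-- The diagonal contribution is a real number in `(0, 1]`, equal to `1` only if the character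
vanishes on the `p`-singular elements. -/
theorem mreg_self (hp : p.Prime) (χ : IrrCharacter G) :
    ∃ r : ℝ, 0 < r ∧ r ≤ 1 ∧ mreg p (χ : G → ℂ) (χ : G → ℂ) = (r : ℂ) ∧
      (r = 1 → ∀ g : G, p ∣ orderOf g → (χ : G → ℂ) g = 0) := by
  classical
  have hG0 : (0 : ℝ) < (Nat.card G : ℝ) := Nat.cast_pos.2 Nat.card_pos
  set R : ℝ := ∑ s : G, if p ∣ orderOf s then 0 else Complex.normSq ((χ : G → ℂ) s) with hR
  set T : ℝ := ∑ s : G, if p ∣ orderOf s then Complex.normSq ((χ : G → ℂ) s) else 0 with hT
  have hRT : R + T = (Nat.card G : ℝ) := by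
    have h1 := classInner_irr_self χ.2
    rw [classInner_def] at h1
    have h2 : ∑ g : G, (χ : G → ℂ) g * conj ((χ : G → ℂ) g) = (Nat.card G : ℂ) := by
      have hG0' : (Nat.card G : ℂ) ≠ 0 := Nat.cast_ne_zero.2 Nat.card_pos.ne'
      field_simp at h1
      exact h1
    have h3 : ((R + T : ℝ) : ℂ) = ((Nat.card G : ℝ) : ℂ) := by
      rw [hR, hT, ← Finset.sum_add_distrib]
      push_cast
      rw [← h2]
      refine Finset.sum_congr rfl fun s _ => ?_
      rw [Complex.mul_conj]
      split_ifs <;> simp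
    exact_mod_cast h3
  have hT0 : 0 ≤ T := Finset.sum_nonneg fun s _ => by
    split_ifs
    · exact Complex.normSq_nonneg _
    · exact le_rfl
  have hRpos : 0 < R := by
    have h1 : Complex.normSq ((χ : G → ℂ) 1) ≤ R := by
      rw [hR]
      have h2 : (if p ∣ orderOf (1 : G) then (0 : ℝ) else Complex.normSq ((χ : G → ℂ) 1)) ≤
          ∑ s : G, if p ∣ orderOf s then 0 else Complex.normSq ((χ : G → ℂ) s) :=
        Finset.single_le_sum (f := fun s : G => if p ∣ orderOf s then (0 : ℝ) else
          Complex.normSq ((χ : G → ℂ) s)) (fun s _ => by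
            show (0 : ℝ) ≤ if p ∣ orderOf s then (0 : ℝ) else Complex.normSq ((χ : G → ℂ) s)
            split_ifs
            · exact le_rfl
            · exact Complex.normSq_nonneg _) (Finset.mem_univ (1 : G))
      have hp1 : ¬ p ∣ orderOf (1 : G) := by
        rw [orderOf_one]
        intro h
        exact hp.one_lt.ne' (Nat.dvd_one.1 h)
      rw [if_neg hp1] at h2
      exact h2
    have h3 : 0 < Complex.normSq ((χ : G → ℂ) 1) :=
      Complex.normSq_pos.2 (irr_apply_one_ne_zero χ.2)
    linarith
  refine ⟨R / (Nat.card G : ℝ), div_pos hRpos hG0, ?_, ?_, ?_⟩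
  · rw [div_le_one hG0]
    linarith
  · rw [mreg_eq_sum_ite]
    push_cast
    rw [hR]
    push_cast
    rw [div_eq_inv_mul]
    congr 1
    refine Finset.sum_congr rfl fun s _ => ?_
    rw [Complex.mul_conj]
    split_ifs <;> simp
  · intro hr g hg
    have hT0' : T = 0 := by
      rw [div_eq_one_iff_eq hG0.ne'] at hr
      linarith
    have h4 := (Finset.sum_eq_zero_iff_of_nonneg (fun s _ => by
      show (0 : ℝ) ≤ if p ∣ orderOf s then Complex.normSq ((χ : G → ℂ) s) else 0
      split_ifs
      · exact Complex.normSq_nonneg _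
      · exact le_rfl)).1 hT0' g (Finset.mem_univ g)
    rw [if_pos hg] at h4
    exact Complex.normSq_eq_zero.1 h4

end

end Cfsg.Agent.Lib.Helper8
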