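import Mathlib
import Cfsg.Prelude.Def_Blocks
import Cfsg.Prelude.Def_BlockRank
import Cfsg.Agent.Lib.Helper8.BF9

/-!
# Brauer–Feit: heights are at most `d - 2`, and blocks with characters of positive height
-/

set_option autoImplicit false

namespace Cfsg.Agent.Lib.Helper8

open Cfsg
open scoped ComplexConjugate
open Cfsg.Agent.Lib.Helper1 Cfsg.Agent.Lib.Helper4

universe u

section

variable {G : Type u} [Group G] [Fintype G] {M : Ideal AlgInt} {p : ℕ}

/-- The row of integers `p ^ d m(ψ, χ₁)`, `ψ ∈ B`, with its quadratic relation. -/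
theorem exists_row (hM : IsPModular p M) {B : Set (IrrCharacter G)} (hB : IsPBlock M B)
    {χ₁ : IrrCharacter G} (hχ₁ : χ₁ ∈ B) :
    ∃ N : IrrCharacter G → ℤ,
      (∀ ψ ∈ B, (N ψ : ℂ) = (p : ℂ) ^ (blockDefect p B) * mreg p (ψ : G → ℂ) (χ₁ : G → ℂ) ∧
        (p : ℤ) ^ (blockHeight p B (ψ : G → ℂ)) ∣ N ψ) ∧
      ∑ ψ ∈ (Set.toFinite B).toFinset, N ψ ^ 2 = (p : ℤ) ^ (blockDefect p B) * N χ₁ := by
  classical
  have : Fintype (IrrCharacter G) := Fintype.ofFinite _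
  have hMp := isPModular_isPrime hM
  set d := blockDefect p B with hd
  have hex : ∀ ψ : IrrCharacter G, ∃ N : ℤ, ψ ∈ B →
      ((N : ℂ) = (p : ℂ) ^ d * mreg p (ψ : G → ℂ) (χ₁ : G → ℂ) ∧
        (p : ℤ) ^ (blockHeight p B (ψ : G → ℂ)) ∣ N) := by
    intro ψ
    by_cases hψ : ψ ∈ B
    · obtain ⟨N, hN⟩ := exists_int_contrib_general hM hψ (χ' := χ₁) (B := B)
      exact ⟨N, fun _ => hN⟩
    · exact ⟨0, fun h => absurd h hψ⟩
  choose N hN using hex
  refine ⟨N, hN, ?_⟩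
  have hmemBf : ∀ χ, χ ∈ (Set.toFinite B).toFinset ↔ χ ∈ B := fun χ => Set.Finite.mem_toFinset _
  have hc : ((∑ χ ∈ (Set.toFinite B).toFinset, N χ ^ 2 : ℤ) : ℂ) = (((p : ℤ) ^ d * N χ₁ : ℤ) : ℂ) := by
    push_cast
    rw [(hN χ₁ hχ₁).1]
    have h1 := sum_mreg_mul_mreg (p := p) (χ := (χ₁ : G → ℂ)) (χ' := (χ₁ : G → ℂ))
      (isClassFunction_irr χ₁.2)
    rw [← h1, Finset.mul_sum, Finset.mul_sum]
    rw [← Finset.sum_subset (Finset.subset_univ (Set.toFinite B).toFinset)]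
    · refine Finset.sum_congr rfl fun χ hχ => ?_
      rw [(hN χ ((hmemBf χ).1 hχ)).1,
        mreg_symm (isCharacter_of_irr χ₁.2) (isCharacter_of_irr χ.2)]
      ring
    · intro χ _ hχ
      have hχB : χ ∉ B := fun h => hχ ((hmemBf χ).2 h)
      have hns : ¬ SameBlock M (χ₁ : G → ℂ) (χ : G → ℂ) := by
        intro hs
        apply hχB
        rw [eq_blockOf_of_mem hMp hB hχ₁]
        exact hs
      have : mreg p (χ₁ : G → ℂ) (χ : G → ℂ) = 0 := classInner_pRegularPart_eq_zero hM hns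
      rw [this, zero_mul, mul_zero, mul_zero]
  exact_mod_cast hc

/-- **Heights are at most `d - 2`**: a character of positive height `h` in a block of defect `d`
has `h + 2 ≤ d`. -/
theorem height_add_two_le (hM : IsPModular p M) {B : Set (IrrCharacter G)} (hB : IsPBlock M B)
    {χ₁ : IrrCharacter G} (hχ₁ : χ₁ ∈ B) (h1 : 0 < blockHeight p B (χ₁ : G → ℂ)) :
    blockHeight p B (χ₁ : G → ℂ) + 2 ≤ blockDefect p B := by
  classical
  have hp := hM.1
  obtain ⟨N, hN, hdvd⟩ := exists_int_contrib_self_of_pos_height hM hB hχ₁ h1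
  obtain ⟨r, hr0, hr1, hr, hvan⟩ := mreg_self (p := p) hp χ₁
  set d := blockDefect p B with hd
  set h := blockHeight p B (χ₁ : G → ℂ) with hh
  rw [hr] at hN
  have hNr : (N : ℝ) = (p : ℝ) ^ d * r := by exact_mod_cast hN
  have hp0 : (0 : ℝ) < (p : ℝ) ^ d := pow_pos (Nat.cast_pos.2 hp.pos) d
  have hNpos : 0 < N := by
    have : (0 : ℝ) < (N : ℝ) := by rw [hNr]; exact mul_pos hp0 hr0
    exact_mod_cast this
  have hNle : N ≤ (p : ℤ) ^ d := by
    have : (N : ℝ) ≤ (p : ℝ) ^ d := by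
      rw [hNr]
      calc (p : ℝ) ^ d * r ≤ (p : ℝ) ^ d * 1 := by gcongr
        _ = (p : ℝ) ^ d := mul_one _
    exact_mod_cast this
  have hle : (p : ℤ) ^ (h + 1) ≤ N := Int.le_of_dvd hNpos hdvd
  have hpow : (p : ℤ) ^ (h + 1) ≤ (p : ℤ) ^ d := hle.trans hNle
  have hp1 : (1 : ℤ) < (p : ℤ) := by exact_mod_cast hp.one_lt
  have hhd : h + 1 ≤ d := (pow_le_pow_iff_right₀ hp1).1 hpow
  by_contra hcon
  have heq : h + 1 = d := by omega
  -- then `N = p ^ d`, `r = 1`, and `χ₁` has defect zero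
  have hNeq : N = (p : ℤ) ^ d := le_antisymm hNle (by rw [← heq]; exact hle)
  have hr1' : r = 1 := by
    have : (p : ℝ) ^ d * r = (p : ℝ) ^ d * 1 := by
      rw [← hNr, hNeq, mul_one]
      push_cast
      rfl
    exact mul_left_cancel₀ hp0.ne' this
  have hv := pow_dvd_charDegree_of_vanish hp χ₁ (hvan hr1')
  obtain ⟨hdeg, hdegpos⟩ := irr_apply_one_eq_charDegree χ₁.2
  have h2 := (hp.pow_dvd_iff_le_factorization hdegpos.ne').1 hv
  obtain ⟨hval, hda⟩ := block_valuations (p := p) hχ₁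
  have hdvd' := charDegree_dvd_card χ₁.2
  have hdle : (charDegree (χ₁ : G → ℂ)).factorization p ≤ (Nat.card G).factorization p :=
    (Nat.factorization_le_iff_dvd hdegpos.ne' Nat.card_pos.ne').2 hdvd' p
  omega

end

end Cfsg.Agent.Lib.Helper8
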