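import Mathlib
import Cfsg.Prelude.Def_Blocks
import Cfsg.Prelude.Def_BlockRank
import Cfsg.Agent.Lib.Helper8.MJ6

/-!
# S4588 swarm: the shared definition

`HasSmallBasicSet p M K` : the principal `p`-block of `K` has a basic set `u 0, …, u (e-1)`
(integral combinations of the `p`-regular parts of its members, spanning all of them over `ℤ`)
whose Gram matrix is `I - (t / |K|_p) J` with `e t + 1 = |K|_p`, i.e. whose Cartan matrix is
`I + t J` (the Cartan matrix of a star with `e` edges and exceptional multiplicity `t`).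
-/

set_option autoImplicit false

namespace Cfsg.Agent.Lib.Helper8.HKS

open Cfsg
open scoped ComplexConjugate
open Cfsg.Agent.Lib.Helper8.MJ

universe u

/-- the common conclusion of the packages PK-Dn / PK-Do -/
def HasSmallBasicSet (p : ℕ) (M : Ideal AlgInt) (K : Type u) [Group K] [Fintype K] : Prop :=
  ∃ (e t : ℕ) (u : Fin e → K → ℂ), 1 ≤ e ∧
    e * t + 1 = p ^ (Nat.card K).factorization p ∧
    e + t ≤ p ^ (Nat.card K).factorization p ∧
    (∀ i, u i ∈ lat p (principalBlock M K)) ∧
    (∀ ψ ∈ principalBlock M K,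
      pRegularPart p (ψ : K → ℂ) ∈ AddSubgroup.closure (Set.range u)) ∧
    ∀ i j, classInner (u i) (u j) =
      (if i = j then (1 : ℂ) else 0) - (t : ℂ) / ((p ^ (Nat.card K).factorization p : ℕ) : ℂ)

end Cfsg.Agent.Lib.Helper8.HKS
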