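import Mathlib

/-! Hall subgroups of symmetric groups: the arithmetic lemma on binomial coefficients. -/

namespace Cfsg.Agent.Lib.Helper8.HS

/-- all prime factors of `N` exceed `b` -/
def Rough (b N : ℕ) : Prop := ∀ p : ℕ, p.Prime → p ∣ N → b < p

theorem Rough.coprime {b N m : ℕ} (h : Rough b N)
    (hm : ∀ p : ℕ, p.Prime → p ∣ m → p ≤ b) : Nat.Coprime m N := by
  apply Nat.coprime_of_dvd
  intro k hk hkm hkN
  exact absurd (h k hk hkN) (not_lt.mpr (hm k hk hkm))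

theorem Rough.dvd_of_dvd_mul {b N m t : ℕ} (h : Rough b N)
    (hm : ∀ p : ℕ, p.Prime → p ∣ m → p ≤ b) (hd : m ∣ N * t) : m ∣ t :=
  (h.coprime hm).dvd_of_dvd_mul_left hd

theorem smooth_of_not_prime {b m : ℕ} (hm0 : m ≠ 0) (hnp : ¬ m.Prime) (hle : m ≤ 2 * b + 1) :
    ∀ p : ℕ, p.Prime → p ∣ m → p ≤ b := by
  intro p hp hpm
  obtain ⟨k, rfl⟩ := hpm
  have hk0 : k ≠ 0 := by rintro rfl; simp at hm0
  have hk1 : k ≠ 1 := by rintro rfl; rw [mul_one] at hnp; exact hnp hp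
  have hk2 : 2 ≤ k := by omega
  have : p * 2 ≤ p * k := Nat.mul_le_mul_left p hk2
  omega

theorem smooth_of_le {b m : ℕ} (hm0 : m ≠ 0) (hle : m ≤ b) :
    ∀ p : ℕ, p.Prime → p ∣ m → p ≤ b := fun _ _ hpm =>
  (Nat.le_of_dvd (Nat.pos_of_ne_zero hm0) hpm).trans hle

/-- the final arithmetic (`a = s + 3`, `b = c * (s + 4)`) -/
theorem lemmaB_arith {s c : ℕ} (hc : 1 ≤ c)
    (h1 : (c * (s + 4) + 2) ∣ (s + 3) * (s + 2))
    (h2 : (s + 2 + c * (s + 4)) ∣ (s + 3) * (s + 2)) :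
    (s = 0 ∧ c = 1) ∨ (s = 6 ∧ c = 1) := by
  obtain ⟨e, he⟩ := h1
  have hpos : 0 < (s + 3) * (s + 2) := by positivity
  have he0 : e ≠ 0 := by rintro rfl; simp at he
  -- (s+4) ∣ 2 e - 2
  have hmod : (s + 4) ∣ 2 * e - 2 := by
    have h3 : ((s:ℤ) + 4) ∣ 2 * (e:ℤ) - 2 := by
      have he' : (((s:ℤ) + 3) * (s + 2)) = (c * (s + 4) + 2) * e := by exact_mod_cast he
      refine ⟨(s:ℤ) + 1 - c * e, ?_⟩
      linear_combination (-1 : ℤ) * he'
    have h4 : ((2 * e - 2 : ℕ) : ℤ) = 2 * (e:ℤ) - 2 := by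
      have : 2 ≤ 2 * e := by omega
      push_cast [Nat.cast_sub this]; ring
    rw [← h4] at h3
    exact_mod_cast h3
  rcases Nat.lt_or_ge e 2 with he1 | he2
  · -- e = 1
    have he1' : e = 1 := by omega
    subst he1'
    have hc' : c * (s + 4) = (s + 1) * (s + 4) := by nlinarith
    have hc2 : c = s + 1 := Nat.eq_of_mul_eq_mul_right (by omega) hc'
    subst hc2
    have hle := Nat.le_of_dvd hpos h2
    left
    have : s = 0 := by nlinarith
    subst this; simp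
  · -- e ≥ 2
    have hle : s + 4 ≤ 2 * e - 2 := Nat.le_of_dvd (by omega) hmod
    have hc1 : c = 1 := by
      by_contra hne
      have hc2 : 2 ≤ c := by omega
      have h5 : (2 * (s + 4) + 2) * e ≤ (c * (s + 4) + 2) * e := by
        apply Nat.mul_le_mul_right; nlinarith
      have h6 : s + 6 ≤ 2 * e := by omega
      nlinarith
    subst hc1
    have h12 : (s + 6) ∣ 12 := by
      have h5 : (s + 6) ∣ (s + 3) * (s + 2) := ⟨e, by rw [he]; ring⟩
      have h6 : (s + 3) * (s + 2) + (s + 6) * 1 = (s + 6) * s + 12 := by ring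
      have h7 : (s + 6) ∣ (s + 6) * s + 12 := by
        rw [← h6]; exact Dvd.dvd.add h5 (Dvd.intro _ rfl)
      exact (Nat.dvd_add_right (Dvd.intro _ rfl)).mp h7
    have hs6 : s + 6 ≤ 12 := Nat.le_of_dvd (by norm_num) h12
    have hs : s ≤ 6 := by omega
    interval_cases s <;> simp_all <;> omega

end Cfsg.Agent.Lib.Helper8.HS
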