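import Mathlib
import Cfsg.Agent.Lib.Helper8.HS1

namespace Cfsg.Agent.Lib.Helper8.HS

theorem choose_19_9_even : 2 ∣ Nat.choose 19 9 := by decide

/-- **Lemma B**: if `2 ≤ a ≤ b` and every prime factor of `C(a+b, a)` exceeds `b`,
then `a = 3`, `b = 4`. -/
theorem lemmaB {a b : ℕ} (ha : 2 ≤ a) (hab : a ≤ b) (h : Rough b ((a + b).choose a)) :
    a = 3 ∧ b = 4 := by
  obtain ⟨k, rfl⟩ : ∃ k, a = k + 2 := ⟨a - 2, by omega⟩
  set N := (k + 2 + b).choose (k + 2) with hN
  -- identity 1
  have id1 : N * (k + 2) = (k + 2 + b).choose (k + 1) * (b + 1) := by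
    have := Nat.choose_succ_right_eq (k + 2 + b) (k + 1)
    have e : k + 2 + b - (k + 1) = b + 1 := by omega
    rw [e] at this; exact this
  have hb1 : (b + 1).Prime := by
    by_contra hnp
    have hs := smooth_of_not_prime (b := b) (by omega) hnp (by omega)
    have hd : (b + 1) ∣ N * (k + 2) := by rw [id1]; exact dvd_mul_left _ _
    have := Nat.le_of_dvd (by omega) (h.dvd_of_dvd_mul hs hd)
    omega
  -- identity 2
  have id2 : N * (k + 2) = (k + 1 + b).choose (k + 1) * (k + 2 + b) := by
    have := Nat.add_one_mul_choose_eq (k + 1 + b) (k + 1)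
    have e : k + 1 + b + 1 = k + 2 + b := by omega
    rw [e] at this
    rw [hN, ← this]; ring
  have hn : (k + 2 + b).Prime := by
    by_contra hnp
    have hs := smooth_of_not_prime (b := b) (by omega) hnp (by omega)
    have hd : (k + 2 + b) ∣ N * (k + 2) := by rw [id2]; exact dvd_mul_left _ _
    have := Nat.le_of_dvd (by omega) (h.dvd_of_dvd_mul hs hd)
    omega
  -- parities
  have hbe : b % 2 = 0 := by
    rcases hb1.eq_two_or_odd with h2 | h2 <;> omega
  have hko : k % 2 = 1 := by
    rcases hn.eq_two_or_odd with h2 | h2 <;> omega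
  have hlt : k + 3 ≤ b := by omega
  -- identity 3
  have id3 : (k + 2 + b).choose (k + 3) * (k + 3) = N * b := by
    have := Nat.choose_succ_right_eq (k + 2 + b) (k + 2)
    have e : k + 2 + b - (k + 2) = b := by omega
    rw [e] at this; exact this
  have hdvd : (k + 3) ∣ b := by
    have hs := smooth_of_le (b := b) (m := k + 3) (by omega) hlt
    exact h.dvd_of_dvd_mul hs (by rw [← id3]; exact dvd_mul_left _ _)
  obtain ⟨c, hc⟩ := hdvd
  -- identity 4a
  have id4a : N * ((k + 2) * (k + 1)) = (k + 2 + b).choose k * ((b + 2) * (b + 1)) := by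
    have := Nat.choose_succ_right_eq (k + 2 + b) k
    have e : k + 2 + b - k = b + 2 := by omega
    rw [e] at this
    calc N * ((k + 2) * (k + 1)) = (N * (k + 2)) * (k + 1) := by ring
      _ = ((k + 2 + b).choose (k + 1) * (k + 1)) * (b + 1) := by rw [id1]; ring
      _ = _ := by rw [this]; ring
  -- identity 4b
  have id4b : N * ((k + 2) * (k + 1)) = (k + b).choose k * ((k + 1 + b) * (k + 2 + b)) := by
    have := Nat.add_one_mul_choose_eq (k + b) k
    have e : k + b + 1 = k + 1 + b := by omega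
    rw [e] at this
    calc N * ((k + 2) * (k + 1)) = (N * (k + 2)) * (k + 1) := by ring
      _ = ((k + 1 + b).choose (k + 1) * (k + 1)) * (k + 2 + b) := by rw [id2]; ring
      _ = _ := by rw [← this]; ring
  have hd1 : (b + 2) ∣ (k + 2) * (k + 1) := by
    have hnp : ¬ (b + 2).Prime := by
      intro hp
      rcases hp.eq_two_or_odd with h2 | h2 <;> omega
    have hs := smooth_of_not_prime (b := b) (by omega) hnp (by omega)
    exact h.dvd_of_dvd_mul hs (by rw [id4a]; exact Dvd.dvd.mul_left (dvd_mul_right _ _) _)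
  have hd2 : (k + 1 + b) ∣ (k + 2) * (k + 1) := by
    have hnp : ¬ (k + 1 + b).Prime := by
      intro hp
      rcases hp.eq_two_or_odd with h2 | h2 <;> omega
    have hs := smooth_of_not_prime (b := b) (by omega) hnp (by omega)
    exact h.dvd_of_dvd_mul hs (by rw [id4b]; exact Dvd.dvd.mul_left (dvd_mul_right _ _) _)
  -- now the arithmetic, with s = k - 1
  obtain ⟨s, rfl⟩ : ∃ s, k = s + 1 := ⟨k - 1, by omega⟩
  have hc1 : 1 ≤ c := by
    rcases Nat.eq_zero_or_pos c with h0 | h0
    · subst h0; omega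
    · exact h0
  have h1' : (c * (s + 4) + 2) ∣ (s + 3) * (s + 2) := by
    have e : c * (s + 4) + 2 = b + 2 := by rw [hc]; ring
    rw [e]; exact hd1
  have h2' : (s + 2 + c * (s + 4)) ∣ (s + 3) * (s + 2) := by
    have e : s + 2 + c * (s + 4) = s + 1 + 1 + b := by rw [hc]; ring
    rw [e]; exact hd2
  rcases lemmaB_arith hc1 h1' h2' with ⟨rfl, rfl⟩ | ⟨rfl, rfl⟩
  · constructor
    · rfl
    · rw [hc]
  · exfalso
    have hb : b = 10 := by rw [hc]
    subst hb
    have := h 2 Nat.prime_two choose_19_9_even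
    omega

end Cfsg.Agent.Lib.Helper8.HS
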