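import Mathlib
import Cfsg.Agent.Lib.Helper8.HS2

/-! Hall subgroups of symmetric groups: further facts on binomial coefficients. -/

namespace Cfsg.Agent.Lib.Helper8.HS

open Nat

/-- a prime `p > a` does not divide `C(a+p, a)` -/
theorem prime_not_dvd_choose_add {p a : ℕ} (hp : p.Prime) (ha : a < p) :
    ¬ p ∣ (a + p).choose a := by
  haveI := Fact.mk hp
  intro hd
  have h := Choose.choose_modEq_choose_mod_mul_choose_div_nat (p := p) (n := a + p) (k := a)
  have e1 : (a + p) % p = a := by rw [Nat.add_mod_right, Nat.mod_eq_of_lt ha]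
  have e2 : a % p = a := Nat.mod_eq_of_lt ha
  have e3 : (a + p) / p = 1 := by
    rw [Nat.add_div_right _ hp.pos, Nat.div_eq_of_lt ha]
  have e4 : a / p = 0 := Nat.div_eq_of_lt ha
  rw [e1, e2, e3, e4] at h
  simp only [Nat.choose_self, Nat.choose_zero_right, mul_one] at h
  have h0 : (a + p).choose a ≡ 0 [MOD p] := (Nat.modEq_zero_iff_dvd).mpr hd
  have h1 : 1 ≡ 0 [MOD p] := h.symm.trans h0
  have := (Nat.modEq_zero_iff_dvd).mp h1
  exact hp.one_lt.ne' (Nat.dvd_one.mp this)

/-- an odd prime `p` does not divide `C(2p, p)` -/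
theorem prime_not_dvd_choose_two_mul {p : ℕ} (hp : p.Prime) (hp2 : p ≠ 2) :
    ¬ p ∣ (p + p).choose p := by
  haveI := Fact.mk hp
  intro hd
  have h := Choose.choose_modEq_choose_mod_mul_choose_div_nat (p := p) (n := p + p) (k := p)
  have e1 : (p + p) % p = 0 := by simp
  have e2 : p % p = 0 := Nat.mod_self p
  have e3 : (p + p) / p = 2 := by
    rw [← two_mul, Nat.mul_div_cancel _ hp.pos]
  have e4 : p / p = 1 := Nat.div_self hp.pos
  rw [e1, e2, e3, e4] at h
  simp only [Nat.choose_self, one_mul] at h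
  have h2 : Nat.choose 2 1 = 2 := by decide
  rw [h2] at h
  have h0 : (p + p).choose p ≡ 0 [MOD p] := (Nat.modEq_zero_iff_dvd).mpr hd
  have h1 : 2 ≡ 0 [MOD p] := h.symm.trans h0
  have := (Nat.modEq_zero_iff_dvd).mp h1
  exact hp2 ((Nat.prime_dvd_prime_iff_eq hp Nat.prime_two).mp this)

/-- an odd prime `b` does not divide `C(a+b, a)` for `a ≤ b` -/
theorem prime_not_dvd_choose_of_le {a b : ℕ} (hb : b.Prime) (hb2 : b ≠ 2) (hab : a ≤ b) :
    ¬ b ∣ (a + b).choose a := by
  rcases hab.lt_or_eq with h | h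
  · exact prime_not_dvd_choose_add hb h
  · subst h; exact prime_not_dvd_choose_two_mul hb hb2

/-- a prime `p` with `a, b < p ≤ a + b` divides `C(a+b, a)` -/
theorem prime_dvd_choose_of_gt {a b p : ℕ} (hp : p.Prime) (ha : a < p) (hb : b < p)
    (hle : p ≤ a + b) : p ∣ (a + b).choose a := by
  have h := Nat.add_choose_mul_factorial_mul_factorial b a
  have hd : p ∣ (b + a)! := (hp.dvd_factorial).mpr (by omega)
  rw [← h] at hd
  rcases (hp.dvd_mul).mp hd with h1 | h1
  · rcases (hp.dvd_mul).mp h1 with h2 | h2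
    · rw [add_comm]; exact h2
    · exact absurd ((hp.dvd_factorial).mp h2) (by omega)
  · exact absurd ((hp.dvd_factorial).mp h1) (by omega)

/-- `C(mk+m, m) = (k+1) * C(mk+m-1, m-1)` -/
theorem choose_block (m k : ℕ) (hm : 0 < m) :
    (m * k + m).choose m = (k + 1) * (m * k + m - 1).choose (m - 1) := by
  obtain ⟨j, rfl⟩ : ∃ j, m = j + 1 := ⟨m - 1, by omega⟩
  have h := Nat.add_one_mul_choose_eq ((j + 1) * k + j) j
  have e : (j + 1) * k + j + 1 = (j + 1) * k + (j + 1) := by ring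
  rw [e] at h
  have e2 : (j + 1) * k + (j + 1) - 1 = (j + 1) * k + j := by omega
  have e3 : j + 1 - 1 = j := by omega
  rw [e2, e3]
  apply Nat.eq_of_mul_eq_mul_right (show 0 < j + 1 by omega)
  rw [← h]; ring

/-- the factorial identity `(mk)! = (m!)^k * k! * ∏_{i<k} C((i+1)m - 1, m - 1)` -/
theorem factorial_mul_eq (m k : ℕ) (hm : 0 < m) :
    (m * k)! = (m !) ^ k * k ! * ∏ i ∈ Finset.range k, ((i + 1) * m - 1).choose (m - 1) := by
  induction k with
  | zero => simp
  | succ k ih =>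
    have h := Nat.add_choose_mul_factorial_mul_factorial (m * k) m
    rw [Finset.prod_range_succ, Nat.mul_succ, ← h, choose_block m k hm, ih, pow_succ,
      Nat.factorial_succ]
    have e : (k + 1) * m - 1 = m * k + m - 1 := by
      congr 1; ring
    rw [e]; ring

/-- each `C(im - 1, m - 1)`, `1 ≤ i ≤ k`, divides `(mk)! / ((m!)^k k!)` -/
theorem choose_dvd_of_factorial_mul {m k i : ℕ} (hm : 0 < m) (hi : i < k) :
    (m !) ^ k * k ! * ((i + 1) * m - 1).choose (m - 1) ∣ (m * k)! := by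
  rw [factorial_mul_eq m k hm]
  exact Nat.mul_dvd_mul_left _ (Finset.dvd_prod_of_mem _ (Finset.mem_range.mpr hi))

theorem small7 : ∀ a : ℕ, 2 ≤ a → a ≤ 7 → 2 ∣ (a + 7).choose a ∨ 3 ∣ (a + 7).choose a := by
  intro a h1 h2
  interval_cases a <;> decide

theorem small8 : ∀ a : ℕ, 2 ≤ a → a ≤ 8 → 2 ∣ (a + 8).choose a ∨ 3 ∣ (a + 8).choose a := by
  intro a h1 h2
  interval_cases a <;> decide

theorem three_dvd_choose_11_3 : 3 ∣ Nat.choose 11 3 := by decide
theorem two_dvd_choose_13_6 : 2 ∣ Nat.choose 13 6 := by decide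
theorem three_dvd_choose_15_7 : 3 ∣ Nat.choose 15 7 := by decide
theorem choose_7_3 : Nat.choose 7 3 = 35 := by decide

end Cfsg.Agent.Lib.Helper8.HS
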