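import Mathlib
import Cfsg.Agent.Lib.Helper8.HS3

/-! Hall subgroups of symmetric groups: the arithmetic lemmas in the explicit forms used by the
main induction. -/

namespace Cfsg.Agent.Lib.Helper8.HS

/-- Lemma B, explicit form. -/
theorem lemmaB_explicit (a b : ℕ) (ha : 2 ≤ a) (hab : a ≤ b)
    (h : ∀ p : ℕ, p.Prime → p ∣ (a + b).choose a → b < p) : a = 3 ∧ b = 4 :=
  lemmaB ha hab h

/-- the factorial identity, explicit form. -/
theorem factorial_mul_eq_explicit (m k : ℕ) (hm : 1 ≤ m) :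
    (m * k).factorial = m.factorial ^ k * k.factorial *
      ∏ i ∈ Finset.range k, ((i + 1) * m - 1).choose (m - 1) :=
  factorial_mul_eq m k hm

/-- an odd prime `b` does not divide `C(a+b, a)` for `1 ≤ a ≤ b`. -/
theorem prime_not_dvd_choose (a b : ℕ) (hb : b.Prime) (_ha : 1 ≤ a) (hab : a ≤ b) (hb2 : b ≠ 2) :
    ¬ b ∣ (a + b).choose a :=
  prime_not_dvd_choose_of_le hb hb2 hab

end Cfsg.Agent.Lib.Helper8.HS
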