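import Mathlib
import Cfsg.Agent.Lib.Helper5.HigDefs

/-!
# S3050 swarm, package M1a: matrix relations in `SL₂(K)` (characteristic two)
-/

set_option autoImplicit false
set_option linter.unusedSimpArgs false
set_option linter.unnecessarySeqFocus false

namespace Cfsg.Agent.Lib.Helper5.Hig

open Matrix

section M1a
variable {K : Type*} [Field K]

namespace MatA

/-- extensionality for `SL₂` by the four entries -/
theorem ext4 {g h : SL K} (h00 : g 0 0 = h 0 0) (h01 : g 0 1 = h 0 1) (h10 : g 1 0 = h 1 0)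
    (h11 : g 1 1 = h 1 1) : g = h := by
  apply Matrix.SpecialLinearGroup.ext
  intro i j
  fin_cases i <;> fin_cases j <;> assumption

theorem neg_one_eq [CharP K 2] : (-1 : K) = 1 := CharTwo.neg_eq 1

theorem add_self [CharP K 2] (x : K) : x + x = 0 := CharTwo.add_self_eq_zero x

theorem coe_mul (g h : SL K) :
    ((g * h : SL K) : Matrix (Fin 2) (Fin 2) K) = (g : Matrix (Fin 2) (Fin 2) K) * h := rfl

/-- an element `≠ 1` with cube `1` has order three -/
theorem orderOf_three_of {g : SL K} (h3 : g * g * g = 1) (h1 : g ≠ 1) : orderOf g = 3 := by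
  have : Fact (Nat.Prime 3) := ⟨Nat.prime_three⟩
  apply orderOf_eq_prime
  · rw [pow_succ, pow_two]; exact h3
  · exact h1

end MatA

open MatA

theorem uu_mul (b c : K) : uu b * uu c = uu (b + c) := by
  apply ext4 <;> simp [coe_mul, uu_val, Matrix.mul_apply, Fin.sum_univ_two] <;> ring

theorem uu_zero : uu (0 : K) = 1 := by
  apply ext4 <;> simp [uu_val]

theorem uu_sq [CharP K 2] (b : K) : uu b * uu b = 1 := by
  rw [uu_mul, add_self, uu_zero]

theorem uu_inv [CharP K 2] (b : K) : (uu b)⁻¹ = uu b :=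
  inv_eq_of_mul_eq_one_right (uu_sq b)

theorem uu_injective : Function.Injective (uu : K → SL K) := by
  intro b c h
  have := congrArg (fun g : SL K => g 0 1) h
  simpa [uu_val] using this

theorem ww_sq [CharP K 2] : (ww : SL K) * ww = 1 := by
  apply ext4 <;> simp [coe_mul, ww_val, Matrix.mul_apply, Fin.sum_univ_two, neg_one_eq]

theorem ww_inv [CharP K 2] : (ww : SL K)⁻¹ = ww :=
  inv_eq_of_mul_eq_one_right ww_sq

theorem hh_one : hh (1 : K) = 1 := by
  apply ext4 <;> simp [hh_val (one_ne_zero : (1 : K) ≠ 0)]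

theorem hh_mul {a b : K} (ha : a ≠ 0) (hb : b ≠ 0) : hh a * hh b = hh (a * b) := by
  have hab : a * b ≠ 0 := mul_ne_zero ha hb
  apply ext4 <;>
    simp [coe_mul, hh_val ha, hh_val hb, hh_val hab, Matrix.mul_apply, Fin.sum_univ_two, mul_comm]

theorem hh_inv {a : K} (ha : a ≠ 0) : (hh a)⁻¹ = hh a⁻¹ := by
  apply inv_eq_of_mul_eq_one_right
  rw [hh_mul ha (inv_ne_zero ha), mul_inv_cancel₀ ha, hh_one]

theorem hh_uu {a : K} (ha : a ≠ 0) (b : K) : hh a * uu b = uu (a ^ 2 * b) * hh a := by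
  apply ext4 <;>
    simp [coe_mul, hh_val ha, uu_val, Matrix.mul_apply, Fin.sum_univ_two]
  field_simp

theorem hh_uu_inv {a : K} (ha : a ≠ 0) (b : K) : hh a * uu b * (hh a)⁻¹ = uu (a ^ 2 * b) := by
  rw [hh_uu ha, mul_inv_cancel_right]

theorem ww_hh [CharP K 2] {a : K} (ha : a ≠ 0) : ww * hh a = hh a⁻¹ * ww := by
  apply ext4 <;>
    simp [coe_mul, hh_val ha, hh_val (inv_ne_zero ha), ww_val, Matrix.mul_apply, Fin.sum_univ_two]

theorem ww_uu_ww [CharP K 2] (b : K) : ww * uu b * ww = ll b := by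
  apply ext4 <;>
    simp [coe_mul, uu_val, ll_val, ww_val, Matrix.mul_apply, Fin.sum_univ_two, neg_one_eq]

/-- the matrix of `d_c` -/
def MatA.dmat [CharP K 2] (c : K) (hc : c ≠ 0) : SL K :=
  ⟨!![1, c; c⁻¹, 0], by simp [Matrix.det_fin_two, hc, MatA.neg_one_eq]⟩

theorem MatA.dmat_val [CharP K 2] (c : K) (hc : c ≠ 0) :
    (MatA.dmat c hc : Matrix (Fin 2) (Fin 2) K) = !![1, c; c⁻¹, 0] := rfl

theorem MatA.dd_eq [CharP K 2] {c : K} (hc : c ≠ 0) : uu c * hh c * ww = MatA.dmat c hc := by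
  apply ext4 <;>
    simp [MatA.dmat_val, uu_val, hh_val hc, ww_val, Matrix.mul_apply, Fin.sum_univ_two,
      neg_one_eq, hc]

/-- `d_c = u(c) h(c) w` has order three -/
theorem orderOf_dd [CharP K 2] {c : K} (hc : c ≠ 0) : orderOf (uu c * hh c * ww) = 3 := by
  rw [MatA.dd_eq hc]
  apply orderOf_three_of
  · apply ext4 <;>
      simp [MatA.dmat_val, Matrix.mul_apply, Fin.sum_univ_two, hc, add_self]
  · intro h
    have := congrArg (fun g : SL K => g 0 1) h
    simp [MatA.dmat_val] at this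
    exact hc this

theorem dd_inv [CharP K 2] {c : K} (hc : c ≠ 0) :
    (uu c * hh c * ww)⁻¹ = hh c * ww * uu c := by
  rw [_root_.mul_inv_rev, _root_.mul_inv_rev, ww_inv, uu_inv, hh_inv hc, ← mul_assoc, ww_hh (inv_ne_zero hc),
    inv_inv]

theorem orderOf_uu_ll [CharP K 2] {c : K} (hc : c ≠ 0) : orderOf (uu c * ll c⁻¹) = 3 := by
  apply orderOf_three_of
  · apply ext4 <;>
      simp [coe_mul, uu_val, ll_val, Matrix.mul_apply, Fin.sum_univ_two, hc, add_self]
  · intro h
    have := congrArg (fun g : SL K => g 0 1) h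
    simp [coe_mul, uu_val, ll_val, Matrix.mul_apply, Fin.sum_univ_two] at this
    exact hc this

theorem orderOf_hh_three [CharP K 2] {a : K} (h : a ^ 2 + a + 1 = 0) : orderOf (hh a) = 3 := by
  have ha : a ≠ 0 := by
    intro h0
    rw [h0] at h
    simp at h
  have ha3 : a * a * a = 1 := by
    have e : a * a * a + 1 = (a + 1) * (a ^ 2 + a + 1) - (a ^ 2 + a ^ 2) - (a + a) := by ring
    rw [h, mul_zero, add_self, add_self, sub_zero, sub_zero] at e
    calc a * a * a = a * a * a + (1 + 1) := by rw [add_self, add_zero]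
      _ = (a * a * a + 1) + 1 := by rw [add_assoc]
      _ = 1 := by rw [e, zero_add]
  apply orderOf_three_of
  · rw [hh_mul ha ha, hh_mul (mul_ne_zero ha ha) ha, ha3, hh_one]
  · intro h1
    have := congrArg (fun g : SL K => g 0 0) h1
    simp [hh_val ha] at this
    rw [this] at h
    have h3 : (1 : K) ^ 2 + 1 + 1 = 1 := by rw [one_pow, add_assoc, add_self, add_zero]
    rw [h3] at h
    exact one_ne_zero h

-- action on vectors
theorem uu_smul (b : K) (n : Fin 2 → K) : uu b • n = ![n 0 + b * n 1, n 1] := by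
  rw [smul_eq]; simp [uu_val]

theorem ll_smul (c : K) (n : Fin 2 → K) : ll c • n = ![n 0, c * n 0 + n 1] := by
  rw [smul_eq]; simp [ll_val]

theorem ww_smul [CharP K 2] (n : Fin 2 → K) : (ww : SL K) • n = ![n 1, n 0] := by
  rw [smul_eq]; simp [ww_val, neg_one_eq]

theorem hh_smul {a : K} (ha : a ≠ 0) (n : Fin 2 → K) : hh a • n = ![a * n 0, a⁻¹ * n 1] := by
  rw [smul_eq]; simp [hh_val ha]

end M1a

end Cfsg.Agent.Lib.Helper5.Hig
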