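import Mathlib
import Cfsg.Agent.Lib.Helper5.HigDefs
import Cfsg.Agent.Lib.Helper8.HigMatA

/-!
# S3050 swarm, package M2: fixed points of involutions whose product has order three
-/

set_option autoImplicit false
set_option linter.unusedSectionVars false

namespace Cfsg.Agent.Lib.Helper5.Hig

open Matrix

namespace HFix

variable {K : Type*} [Field K] {V : Type*} [AddCommGroup V] (ρ : SL K →* AddMonoid.End V)

theorem invol_apply {t : SL K} (ht : t * t = 1) (v : V) : ρ t (ρ t v) = v := by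
  rw [← rep_mul_apply, ht, rep_one_apply]

/-- `1 + d + d⁻¹ = 0` for `d = t t'` -/
theorem key (hρ : C3 ρ) {t t' : SL K} (ht : t * t = 1) (ht' : t' * t' = 1)
    (hd : orderOf (t * t') = 3) (v : V) : v + ρ t (ρ t' v) + ρ t' (ρ t v) = 0 := by
  have h := hρ (t * t') hd v
  have hd3 : (t * t') * (t * t') * (t * t') = 1 := by
    have := pow_orderOf_eq_one (t * t')
    rw [hd, pow_succ, pow_two] at this
    exact this
  have hdd : (t * t') * (t * t') = t' * t := by
    have h1 : (t * t') * (t * t') = (t * t')⁻¹ := eq_inv_of_mul_eq_one_left hd3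
    rw [h1, _root_.mul_inv_rev, inv_eq_of_mul_eq_one_right ht, inv_eq_of_mul_eq_one_right ht']
  rw [← rep_mul_apply ρ (t * t') (t * t'), hdd, rep_mul_apply, rep_mul_apply] at h
  exact h

/-- conjugation: `t' = d t d⁻¹` with `d = t t'` -/
theorem conj_eq {t t' : SL K} (ht : t * t = 1) (ht' : t' * t' = 1)
    (hd : orderOf (t * t') = 3) : t' * (t * t') = (t * t') * t := by
  have hd3 : (t * t') * (t * t') * (t * t') = 1 := by
    have := pow_orderOf_eq_one (t * t')
    rw [hd, pow_succ, pow_two] at this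
    exact this
  -- t t' t t' t t' = 1 ⇒ t' t t' = t t' t
  have h1 : t' * t * t' = t * t' * t := by
    have e : t * t' * t * (t' * t * t') = 1 := by
      rw [← hd3]; group
    have e2 : (t * t' * t) * (t * t' * t) = 1 := by
      calc (t * t' * t) * (t * t' * t) = t * t' * (t * t) * t' * t := by group
        _ = t * (t' * t') * t := by rw [ht]; group
        _ = 1 := by rw [ht', mul_one, ht]
    exact (mul_left_cancel (e.trans e2.symm))
  calc t' * (t * t') = t' * t * t' := by rw [mul_assoc]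
    _ = t * t' * t := h1

end HFix

section M2
variable {K : Type*} [Field K] {V : Type*} [AddCommGroup V] (ρ : SL K →* AddMonoid.End V)

open HFix

theorem fix_decomp (hρ : C3 ρ) (h4 : ∀ v : V, (4 : ℕ) • v = 0) {t t' : SL K} (ht : t * t = 1)
    (ht' : t' * t' = 1) (hd : orderOf (t * t') = 3) :
    (∀ v : V, ∃ y y' : V, ρ t y = y ∧ ρ t' y' = y' ∧ v = y + y') ∧
      ∀ y : V, ρ t y = y → ρ t' y = y → y = 0 := by
  constructor
  · intro v
    obtain ⟨a, ha⟩ : ∃ a : V, a = ρ t v + ρ t' v - (v + v) := ⟨_, rfl⟩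
    refine ⟨a + ρ t a, a + ρ t' a, ?_, ?_, ?_⟩
    · rw [map_add, invol_apply ρ ht, add_comm]
    · rw [map_add, invol_apply ρ ht', add_comm]
    · have hk := key ρ hρ ht ht' hd v
      have hta : ρ t a = v + ρ t (ρ t' v) - (ρ t v + ρ t v) := by
        rw [ha, map_sub, map_add, map_add, invol_apply ρ ht]
      have hta' : ρ t' a = ρ t' (ρ t v) + v - (ρ t' v + ρ t' v) := by
        rw [ha, map_sub, map_add, map_add, invol_apply ρ ht']
      rw [hta, hta', ha]
      have h4v := h4 v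
      calc v = (4 : ℕ) • v - (v + ρ t (ρ t' v) + ρ t' (ρ t v)) +
            (ρ t v + ρ t' v - (v + v) + (v + ρ t (ρ t' v) - (ρ t v + ρ t v)) +
            (ρ t v + ρ t' v - (v + v) + (ρ t' (ρ t v) + v - (ρ t' v + ρ t' v)))) := by abel
        _ = _ := by rw [h4v, hk, sub_zero, zero_add]
  · intro y hy hy'
    have hk := key ρ hρ ht ht' hd y
    simp only [hy, hy'] at hk
    have : y = (4 : ℕ) • y - (y + y + y) := by abel
    rw [this, h4 y, hk, sub_zero]

theorem card_fix_sq [Finite V] (hρ : C3 ρ) (h4 : ∀ v : V, (4 : ℕ) • v = 0) {t t' : SL K}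
    (ht : t * t = 1) (ht' : t' * t' = 1) (hd : orderOf (t * t') = 3) :
    Nat.card {v : V // ρ t v = v} ^ 2 = Nat.card V := by
  obtain ⟨hsum, hint⟩ := fix_decomp ρ hρ h4 ht ht' hd
  -- C(t) ≃ C(t') via d = t t'
  have hconj := conj_eq ht ht' hd
  have e1 : {v : V // ρ t v = v} ≃ {v : V // ρ t' v = v} :=
    { toFun := fun y => ⟨ρ (t * t') y.1, by
        rw [← rep_mul_apply, hconj, rep_mul_apply, y.2]⟩
      invFun := fun y => ⟨ρ (t * t')⁻¹ y.1, by
        have h1 : t * (t * t')⁻¹ = (t * t')⁻¹ * t' := by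
          rw [mul_inv_eq_iff_eq_mul, mul_assoc, hconj]; group
        rw [← rep_mul_apply, h1, rep_mul_apply, y.2]⟩
      left_inv := fun y => Subtype.ext (rep_inv_apply ρ _ _)
      right_inv := fun y => Subtype.ext (rep_apply_inv ρ _ _) }
  have e2 : {v : V // ρ t v = v} × {v : V // ρ t' v = v} ≃ V :=
    Equiv.ofBijective (fun p => p.1.1 + p.2.1) (by
      constructor
      · rintro ⟨⟨y1, h1⟩, ⟨y1', h1'⟩⟩ ⟨⟨y2, h2⟩, ⟨y2', h2'⟩⟩ h
        have h : y1 + y1' = y2 + y2' := h
        have hz : y1 - y2 = y2' - y1' := by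
          rw [sub_eq_sub_iff_add_eq_add]
          rw [add_comm y2', ← h]
        have h0 : y1 - y2 = 0 := by
          apply hint
          · rw [map_sub, h1, h2]
          · rw [hz, map_sub, h2', h1']
        have h0' : y2' - y1' = 0 := by rw [← hz, h0]
        have ha : y1 = y2 := sub_eq_zero.mp h0
        have hb : y1' = y2' := (sub_eq_zero.mp h0').symm
        subst ha hb
        rfl
      · intro v
        obtain ⟨y, y', hy, hy', hv⟩ := hsum v
        exact ⟨⟨⟨y, hy⟩, ⟨y', hy'⟩⟩, hv.symm⟩)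
  rw [← Nat.card_congr e2, Nat.card_prod, ← Nat.card_congr e1, pow_two]

theorem card_fix_uu_sq [CharP K 2] [Finite V] (hρ : C3 ρ) (h4 : ∀ v : V, (4 : ℕ) • v = 0) {b : K}
    (hb : b ≠ 0) : Nat.card {v : V // ρ (uu b) v = v} ^ 2 = Nat.card V := by
  apply card_fix_sq ρ hρ h4 (t := uu b) (t' := hh b * ww) (uu_sq b)
  · calc hh b * ww * (hh b * ww) = hh b * (ww * hh b) * ww := by group
      _ = hh b * (hh b⁻¹ * ww) * ww := by rw [ww_hh hb]
      _ = (hh b * hh b⁻¹) * (ww * ww) := by group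
      _ = 1 := by rw [hh_mul hb (inv_ne_zero hb), mul_inv_cancel₀ hb, hh_one, ww_sq, mul_one]
  · rw [← mul_assoc]
    exact orderOf_dd hb

namespace HFix

theorem ll_one_sq [CharP K 2] : (ll (1 : K)) * ll 1 = 1 := by
  rw [← ww_uu_ww]
  calc ww * uu 1 * ww * (ww * uu 1 * ww) = ww * uu (1 : K) * (ww * ww) * uu 1 * ww := by group
    _ = ww * (uu (1 : K) * uu 1) * ww := by rw [ww_sq]; group
    _ = 1 := by rw [uu_sq, mul_one, ww_sq]

theorem orderOf_uu_ll_one [CharP K 2] : orderOf (uu (1 : K) * ll 1) = 3 := by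
  have := orderOf_uu_ll (one_ne_zero : (1 : K) ≠ 0)
  rw [inv_one] at this
  exact this

/-- `w` exchanges the fixed points of `u(1)` and `l(1)` -/
theorem ll_fix_iff [CharP K 2] (y : V) : ρ (ll 1) (ρ ww y) = ρ ww y ↔ ρ (uu 1) y = y := by
  have h1 : (ll (1 : K)) * ww = ww * uu 1 := by
    rw [← ww_uu_ww, mul_assoc, ww_sq, mul_one]
  rw [← rep_mul_apply, h1, rep_mul_apply]
  constructor
  · intro h
    exact rep_injective ρ ww h
  · intro h
    rw [h]

end HFix

/-- `A = C_A(u(1)) ⊕ w C_A(u(1))` -/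
theorem decomp_uu_ww [CharP K 2] (hρ : C3 ρ) (h4 : ∀ v : V, (4 : ℕ) • v = 0) :
    (∀ v : V, ∃ y y' : V, ρ (uu 1) y = y ∧ ρ (uu 1) y' = y' ∧ v = y + ρ ww y') ∧
      ∀ y y' : V, ρ (uu 1) y = y → ρ (uu 1) y' = y' → y + ρ ww y' = 0 → y = 0 ∧ y' = 0 := by
  obtain ⟨hsum, hint⟩ := fix_decomp ρ hρ h4 (uu_sq (1 : K)) ll_one_sq orderOf_uu_ll_one
  have hww : ∀ v : V, ρ ww (ρ ww v) = v := fun v => invol_apply ρ ww_sq v
  constructor
  · intro v
    obtain ⟨y, y'', hy, hy'', hv⟩ := hsum v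
    refine ⟨y, ρ ww y'', hy, ?_, ?_⟩
    · rw [← ll_fix_iff ρ, hww]; exact hy''
    · rw [hww]; exact hv
  · intro y y' hy hy' h0
    have hyeq : y = -ρ ww y' := eq_neg_of_add_eq_zero_left h0
    have h1 : ρ (ll 1) y = y := by
      rw [hyeq, map_neg, (ll_fix_iff ρ y').mpr hy']
    have hy0 : y = 0 := hint y hy h1
    refine ⟨hy0, ?_⟩
    rw [hy0, zero_add] at h0
    apply rep_injective ρ ww
    rw [h0, map_zero]

/-- the relation `t (w y) = - w y - y` for `y` fixed by `t = u(1)` -/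
theorem uu_ww_fix [CharP K 2] (hρ : C3 ρ) {y : V} (hy : ρ (uu 1) y = y) :
    ρ (uu 1) (ρ ww y) = - ρ ww y - y := by
  have hord : orderOf (ww * uu (1 : K)) = 3 := by
    have h1 := orderOf_dd (one_ne_zero : (1 : K) ≠ 0)
    have h2 := dd_inv (one_ne_zero : (1 : K) ≠ 0)
    rw [hh_one, mul_one, one_mul] at h2
    rw [hh_one, mul_one] at h1
    rw [← h2, orderOf_inv]
    exact h1
  have h := hρ (ww * uu 1) hord y
  rw [rep_mul_apply, hy, rep_mul_apply] at h
  -- h : y + W y + W (U (W y)) = 0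
  have hww : ∀ v : V, ρ ww (ρ ww v) = v := fun v => invol_apply ρ ww_sq v
  have h2 := congrArg (ρ ww) h
  rw [map_add, map_add, hww, hww, map_zero] at h2
  -- h2 : W y + y + U (W y) = 0
  have : ρ (uu 1) (ρ ww y) = 0 - (ρ ww y + y) := by
    rw [← h2]; abel
  rw [this]; abel

end M2

end Cfsg.Agent.Lib.Helper5.Hig
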