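import Mathlib
import Cfsg.Agent.Lib.Helper5.HigDefs
import Cfsg.Agent.Lib.Helper8.HigMatA

/-!
# S3050 swarm, package M1b: elements of order three, Bruhat decomposition, transitivity, small
field facts for `SL₂(K)`, `K` a finite field of characteristic two
-/

set_option autoImplicit false
set_option linter.unusedSectionVars false
set_option linter.unusedSimpArgs false
set_option linter.unnecessarySeqFocus false

namespace Cfsg.Agent.Lib.Helper5.Hig

open Matrix

namespace MatB

variable {K : Type*} [Field K]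

theorem det_eq (g : SL K) : g 0 0 * g 1 1 - g 0 1 * g 1 0 = 1 := by
  have := g.2
  rw [Matrix.det_fin_two] at this
  exact this

/-- Cayley–Hamilton for `g³`, entrywise -/
theorem cube_entry (g : SL K) (i j : Fin 2) :
    ((g * g * g : SL K) : Matrix (Fin 2) (Fin 2) K) i j =
      ((g 0 0 + g 1 1) ^ 2 - 1) * g i j -
        (g 0 0 + g 1 1) * (1 : Matrix (Fin 2) (Fin 2) K) i j := by
  have hdet := det_eq g
  fin_cases i <;> fin_cases j
  · simp [Matrix.mul_apply, Fin.sum_univ_two]
    linear_combination (-(g 0 0 + (g 0 0 + g 1 1))) * hdet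
  · simp [Matrix.mul_apply, Fin.sum_univ_two]
    linear_combination (-(g 0 1)) * hdet
  · simp [Matrix.mul_apply, Fin.sum_univ_two]
    linear_combination (-(g 1 0)) * hdet
  · simp [Matrix.mul_apply, Fin.sum_univ_two]
    linear_combination (-(g 1 1 + (g 0 0 + g 1 1))) * hdet

/-- the hub matrix `!![0, -1; 1, 1]` of trace one -/
def cgen : SL K := ⟨!![0, -1; 1, 1], by simp [Matrix.det_fin_two]⟩

theorem cgen_val : ((cgen : SL K) : Matrix (Fin 2) (Fin 2) K) = !![0, -1; 1, 1] := rfl

/-- the matrix `s • [v | g v]`, `v = (x, y)` -/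
def pmat (g : SL K) (x y s : K)
    (hs : s ^ 2 * (g 1 0 * x ^ 2 + (g 1 1 - g 0 0) * x * y - g 0 1 * y ^ 2) = 1) : SL K :=
  ⟨!![s * x, s * (g 0 0 * x + g 0 1 * y); s * y, s * (g 1 0 * x + g 1 1 * y)], by
    rw [Matrix.det_fin_two]
    simp
    linear_combination hs⟩

theorem pmat_val (g : SL K) (x y s : K)
    (hs : s ^ 2 * (g 1 0 * x ^ 2 + (g 1 1 - g 0 0) * x * y - g 0 1 * y ^ 2) = 1) :
    (pmat g x y s hs : Matrix (Fin 2) (Fin 2) K) =
      !![s * x, s * (g 0 0 * x + g 0 1 * y); s * y, s * (g 1 0 * x + g 1 1 * y)] := rfl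

theorem conj_aux (g : SL K) (htr : g 0 0 + g 1 1 = 1) (x y s : K)
    (hs : s ^ 2 * (g 1 0 * x ^ 2 + (g 1 1 - g 0 0) * x * y - g 0 1 * y ^ 2) = 1) :
    g * pmat g x y s hs = pmat g x y s hs * cgen := by
  have hdet := det_eq g
  apply MatA.ext4
  · simp [pmat_val, cgen_val, Matrix.mul_apply, Fin.sum_univ_two]
    ring
  · simp [pmat_val, cgen_val, Matrix.mul_apply, Fin.sum_univ_two]
    linear_combination (s * (g 0 0 * x + g 0 1 * y)) * htr - (s * x) * hdet
  · simp [pmat_val, cgen_val, Matrix.mul_apply, Fin.sum_univ_two]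
    ring
  · simp [pmat_val, cgen_val, Matrix.mul_apply, Fin.sum_univ_two]
    linear_combination (s * (g 1 0 * x + g 1 1 * y)) * htr - (s * y) * hdet

end MatB

section M1b
variable {K : Type*} [Field K] [Fintype K] [CharP K 2]

open MatA MatB

theorem isSquare_all (a : K) : ∃ s : K, s ^ 2 = a := by
  obtain ⟨r, hr⟩ := FiniteField.isSquare_of_char_two (ringChar.eq K 2) a
  exact ⟨r, by rw [hr, pow_two]⟩

theorem orderOf_three_iff (g : SL K) : orderOf g = 3 ↔ g 0 0 + g 1 1 = 1 := by
  constructor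
  · intro ho
    have h3 : g * g * g = 1 := by
      have := pow_orderOf_eq_one g
      rw [ho, pow_succ, pow_two] at this
      exact this
    have h1 : g ≠ 1 := by
      intro h
      rw [h, orderOf_one] at ho
      omega
    by_contra htr
    have E : ∀ i j : Fin 2, (1 : Matrix (Fin 2) (Fin 2) K) i j =
        ((g 0 0 + g 1 1) ^ 2 - 1) * g i j -
          (g 0 0 + g 1 1) * (1 : Matrix (Fin 2) (Fin 2) K) i j := by
      intro i j
      rw [← cube_entry g i j, h3]
      rfl
    obtain ⟨t, ht⟩ : ∃ t, t = g 0 0 + g 1 1 := ⟨_, rfl⟩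
    rw [← ht] at E htr
    have hw : t ^ 2 - 1 ≠ 0 := by
      have e : t ^ 2 - 1 = (t - 1) * (t + 1) := by ring
      rw [e]
      apply mul_ne_zero
      · exact sub_ne_zero.mpr htr
      · intro h
        apply htr
        have : t = -1 := eq_neg_of_add_eq_zero_left h
        rw [this, neg_one_eq]
    have e01 := E 0 1
    have e10 := E 1 0
    have e00 := E 0 0
    have e11 := E 1 1
    simp at e01 e10 e00 e11
    have hb : g 0 1 = 0 := by
      rcases e01 with h | h
      · exact absurd h hw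
      · exact h
    have hc : g 1 0 = 0 := by
      rcases e10 with h | h
      · exact absurd h hw
      · exact h
    have had : g 0 0 = g 1 1 := by
      have : (t ^ 2 - 1) * (g 0 0 - g 1 1) = 0 := by linear_combination e11 - e00
      rcases mul_eq_zero.mp this with h | h
      · exact absurd h hw
      · exact sub_eq_zero.mp h
    have ht0 : t = 0 := by rw [ht, had, add_self]
    rw [ht0] at e00 e11
    have ha : g 0 0 = 1 := by
      have : g 0 0 = -1 := by linear_combination e00
      rw [this, neg_one_eq]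
    apply h1
    apply ext4
    · rw [ha]; rfl
    · rw [hb]; rfl
    · rw [hc]; rfl
    · rw [← had, ha]; rfl
  · intro htr
    apply orderOf_three_of
    · apply ext4
      · rw [cube_entry, htr]; simp [neg_one_eq]
      · rw [cube_entry, htr]; simp
      · rw [cube_entry, htr]; simp
      · rw [cube_entry, htr]; simp [neg_one_eq]
    · intro h
      rw [h] at htr
      have : (1 : K) + 1 = 1 := htr
      rw [add_self] at this
      exact zero_ne_one this

namespace MatB

/-- every element of order three is conjugate to the hub matrix -/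
theorem conj_cgen {g : SL K} (hg : orderOf g = 3) : ∃ c : SL K, g = c * cgen * c⁻¹ := by
  have htr := (orderOf_three_iff g).mp hg
  have key : ∃ x y : K, g 1 0 * x ^ 2 + (g 1 1 - g 0 0) * x * y - g 0 1 * y ^ 2 ≠ 0 := by
    by_cases hc : g 1 0 = 0
    · by_cases hb : g 0 1 = 0
      · refine ⟨1, 1, ?_⟩
        rw [hc, hb]
        simp only [zero_mul, mul_one, one_pow, zero_add, sub_zero]
        intro h
        have had : g 1 1 = g 0 0 := sub_eq_zero.mp h
        rw [had, add_self] at htr
        exact zero_ne_one htr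
      · refine ⟨0, 1, ?_⟩
        simp only [ne_eq, OfNat.ofNat_ne_zero, not_false_eq_true, zero_pow, mul_zero, zero_mul,
          add_zero, one_pow, mul_one, zero_sub, neg_eq_zero]
        exact hb
    · refine ⟨1, 0, ?_⟩
      simp only [one_pow, mul_one, mul_zero, add_zero, ne_eq, OfNat.ofNat_ne_zero,
        not_false_eq_true, zero_pow, sub_zero]
      exact hc
  obtain ⟨x, y, hQ⟩ := key
  obtain ⟨s, hs⟩ := isSquare_all
    (g 1 0 * x ^ 2 + (g 1 1 - g 0 0) * x * y - g 0 1 * y ^ 2)⁻¹
  have hs' : s ^ 2 * (g 1 0 * x ^ 2 + (g 1 1 - g 0 0) * x * y - g 0 1 * y ^ 2) = 1 := by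
    rw [hs, inv_mul_cancel₀ hQ]
  exact ⟨pmat g x y s hs', eq_mul_inv_of_mul_eq (conj_aux g htr x y s hs')⟩

end MatB

theorem conj_of_orderOf_three {g g' : SL K} (hg : orderOf g = 3) (hg' : orderOf g' = 3) :
    ∃ c : SL K, g' = c * g * c⁻¹ := by
  obtain ⟨c, hc⟩ := conj_cgen hg
  obtain ⟨c', hc'⟩ := conj_cgen hg'
  refine ⟨c' * c⁻¹, ?_⟩
  rw [hc', hc]
  group

theorem bruhat (g : SL K) :
    (∃ a b : K, a ≠ 0 ∧ g = hh a * uu b) ∨
      (∃ p r s : K, r ≠ 0 ∧ g = uu p * ww * hh r * uu s) := by
  have hdet := det_eq g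
  by_cases hr : g 1 0 = 0
  · left
    rw [hr, mul_zero, sub_zero] at hdet
    have ha : g 0 0 ≠ 0 := left_ne_zero_of_mul_eq_one hdet
    refine ⟨g 0 0, g 0 1 / g 0 0, ha, ?_⟩
    apply ext4
    · simp [hh_val ha, uu_val, Matrix.mul_apply, Fin.sum_univ_two]
    · simp [hh_val ha, uu_val, Matrix.mul_apply, Fin.sum_univ_two]
      field_simp
    · simp [hh_val ha, uu_val, Matrix.mul_apply, Fin.sum_univ_two, hr]
    · simp [hh_val ha, uu_val, Matrix.mul_apply, Fin.sum_univ_two]
      exact eq_inv_of_mul_eq_one_right hdet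
  · right
    refine ⟨g 0 0 / g 1 0, g 1 0, g 1 1 / g 1 0, hr, ?_⟩
    apply ext4
    · simp [hh_val hr, uu_val, ww_val, Matrix.mul_apply, Fin.sum_univ_two, neg_one_eq]
      field_simp
    · simp [hh_val hr, uu_val, ww_val, Matrix.mul_apply, Fin.sum_univ_two, neg_one_eq]
      field_simp
      have h2 : (2 : K) = 0 := CharTwo.two_eq_zero
      linear_combination -hdet - h2
    · simp [hh_val hr, uu_val, ww_val, Matrix.mul_apply, Fin.sum_univ_two, neg_one_eq]
    · simp [hh_val hr, uu_val, ww_val, Matrix.mul_apply, Fin.sum_univ_two, neg_one_eq]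
      field_simp

namespace MatB

/-- a matrix with first column `(0, b)` -/
def col0 (b : K) (hb : b ≠ 0) : SL K := ⟨!![0, -b⁻¹; b, 0], by simp [Matrix.det_fin_two, hb]⟩

theorem col0_val (b : K) (hb : b ≠ 0) :
    (col0 b hb : Matrix (Fin 2) (Fin 2) K) = !![0, -b⁻¹; b, 0] := rfl

/-- a matrix with first column `(a, b)`, `a ≠ 0` -/
def col1 (a b : K) (ha : a ≠ 0) : SL K := ⟨!![a, 0; b, a⁻¹], by simp [Matrix.det_fin_two, ha]⟩

theorem col1_val (a b : K) (ha : a ≠ 0) :
    (col1 a b ha : Matrix (Fin 2) (Fin 2) K) = !![a, 0; b, a⁻¹] := rfl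

end MatB

theorem exists_smul_e1 {n : Fin 2 → K} (hn : n ≠ 0) : ∃ g : SL K, g • e1 (1 : K) = n := by
  by_cases h0 : n 0 = 0
  · have h1 : n 1 ≠ 0 := by
      intro h1
      apply hn
      funext i
      fin_cases i
      · exact h0
      · exact h1
    refine ⟨col0 (n 1) h1, ?_⟩
    rw [smul_eq]
    funext i
    fin_cases i
    · simp [e1, h0, col0_val]
    · simp [e1, col0_val]
  · refine ⟨col1 (n 0) (n 1) h0, ?_⟩
    rw [smul_eq]
    funext i
    fin_cases i
    · simp [e1, col1_val]
    · simp [e1, col1_val]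

theorem exists_good (h8 : 8 ≤ Fintype.card K) : ∃ c : K, c ≠ 0 ∧ c ≠ 1 ∧ c ^ 2 + c + 1 ≠ 0 := by
  classical
  by_cases hroot : ∃ ω : K, ω ^ 2 + ω + 1 = 0
  · obtain ⟨ω, hω⟩ := hroot
    have hcard : ({0, 1, ω, ω + 1} : Finset K).card < (Finset.univ : Finset K).card := by
      rw [Finset.card_univ]
      exact lt_of_le_of_lt Finset.card_le_four (by omega)
    obtain ⟨c, -, hc⟩ := Finset.exists_mem_notMem_of_card_lt_card hcard
    simp only [Finset.mem_insert, Finset.mem_singleton, not_or] at hc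
    obtain ⟨hc0, hc1, hcω, hcω1⟩ := hc
    refine ⟨c, hc0, hc1, ?_⟩
    intro h
    have : (c - ω) * (c - (ω + 1)) = 0 := by
      have h2 : (2 : K) = 0 := CharTwo.two_eq_zero
      linear_combination h - hω + (-c * ω + ω ^ 2 - c + ω) * h2
    rcases mul_eq_zero.mp this with h' | h'
    · exact hcω (sub_eq_zero.mp h')
    · exact hcω1 (sub_eq_zero.mp h')
  · have hcard : ({0, 1} : Finset K).card < (Finset.univ : Finset K).card := by
      rw [Finset.card_univ]
      exact lt_of_le_of_lt Finset.card_le_two (by omega)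
    obtain ⟨c, -, hc⟩ := Finset.exists_mem_notMem_of_card_lt_card hcard
    simp only [Finset.mem_insert, Finset.mem_singleton, not_or] at hc
    exact ⟨c, hc.1, hc.2, fun h => hroot ⟨c, h⟩⟩

theorem exists_omega (h4 : Fintype.card K = 4) : ∃ ω : K, ω ≠ 0 ∧ ω ≠ 1 ∧ ω ^ 2 + ω + 1 = 0 ∧
    ∀ a : K, a = 0 ∨ a = 1 ∨ a = ω ∨ a = ω ^ 2 := by
  classical
  have hcard : ({0, 1} : Finset K).card < (Finset.univ : Finset K).card := by
    rw [Finset.card_univ]
    exact lt_of_le_of_lt Finset.card_le_two (by omega)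
  obtain ⟨ω, -, hω⟩ := Finset.exists_mem_notMem_of_card_lt_card hcard
  simp only [Finset.mem_insert, Finset.mem_singleton, not_or] at hω
  obtain ⟨hω0, hω1⟩ := hω
  have hpow : ω ^ 4 = ω := by
    have := FiniteField.pow_card ω
    rw [h4] at this
    exact this
  have hrel : ω ^ 2 + ω + 1 = 0 := by
    have h2 : (2 : K) = 0 := CharTwo.two_eq_zero
    have : ω * (ω - 1) * (ω ^ 2 + ω + 1) = 0 := by linear_combination hpow
    rcases mul_eq_zero.mp this with h | h
    · rcases mul_eq_zero.mp h with h | h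
      · exact absurd h hω0
      · exact absurd (sub_eq_zero.mp h) hω1
    · exact h
  have hsq : ω ^ 2 = ω + 1 := by
    have h2 : (2 : K) = 0 := CharTwo.two_eq_zero
    linear_combination hrel - (ω + 1) * h2
  refine ⟨ω, hω0, hω1, hrel, ?_⟩
  have hS : ({0, 1, ω, ω ^ 2} : Finset K) = Finset.univ := by
    apply Finset.eq_univ_of_card
    rw [h4, Finset.card_insert_of_notMem, Finset.card_insert_of_notMem,
      Finset.card_insert_of_notMem, Finset.card_singleton]
    · rw [Finset.mem_singleton, hsq]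
      intro h
      exact one_ne_zero (by linear_combination -h : (1 : K) = 0)
    · rw [Finset.mem_insert, Finset.mem_singleton, hsq]
      rintro (h | h)
      · exact hω1 h.symm
      · apply hω0
        linear_combination -h
    · simp only [Finset.mem_insert, Finset.mem_singleton, hsq]
      rintro (h | h | h)
      · exact one_ne_zero h.symm
      · exact hω0 h.symm
      · apply hω1
        have h2 : (2 : K) = 0 := CharTwo.two_eq_zero
        linear_combination -h - h2
  intro a
  have : a ∈ ({0, 1, ω, ω ^ 2} : Finset K) := by rw [hS]; exact Finset.mem_univ a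
  simpa only [Finset.mem_insert, Finset.mem_singleton] using this

theorem exists_card_pow : ∃ m : ℕ, Fintype.card K = 2 ^ m := by
  obtain ⟨n, -, hn⟩ := FiniteField.card K 2
  exact ⟨n, hn⟩

theorem card_four_or (h4 : 4 ≤ Fintype.card K) : Fintype.card K = 4 ∨ 8 ≤ Fintype.card K := by
  obtain ⟨m, hm⟩ := exists_card_pow (K := K)
  rw [hm] at h4 ⊢
  rcases Nat.lt_or_ge m 3 with h | h
  · left
    interval_cases m <;> simp_all
  · right
    calc 8 = 2 ^ 3 := by norm_num
      _ ≤ 2 ^ m := Nat.pow_le_pow_right (by norm_num) h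

theorem pow_card_eq (a : K) : a ^ Fintype.card K = a := FiniteField.pow_card a

end M1b

end Cfsg.Agent.Lib.Helper5.Hig
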