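import Mathlib
import Cfsg.Agent.Lib.Helper5.HigDefs
import Cfsg.Agent.Lib.Helper8.HigMatA
import Cfsg.Agent.Lib.Helper8.HigMatB

/-!
# S3050 swarm, package M7: a nonzero vector fixed by the unipotent group
-/

set_option autoImplicit false
set_option linter.unusedSectionVars false

namespace Cfsg.Agent.Lib.Helper5.Hig

open Matrix

namespace FixVec

variable {K : Type*} [Field K] {V : Type*} [AddCommGroup V]

/-- the action of `(K, +)` on `V` through `b ↦ ρ (u b)` -/
@[reducible] def uAct (ρ : SL K →* AddMonoid.End V) : MulAction (Multiplicative K) V where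
  smul b v := ρ (uu (Multiplicative.toAdd b)) v
  one_smul v := by
    show ρ (uu (0 : K)) v = v
    rw [uu_zero, map_one]; rfl
  mul_smul a b v := by
    show ρ (uu (Multiplicative.toAdd a + Multiplicative.toAdd b)) v =
      ρ (uu (Multiplicative.toAdd a)) (ρ (uu (Multiplicative.toAdd b)) v)
    rw [← uu_mul, map_mul]; rfl

end FixVec

section M7
variable {K : Type*} [Field K] [Fintype K] [CharP K 2] {V : Type*} [AddCommGroup V] [Finite V]
  (ρ : SL K →* AddMonoid.End V)

theorem exists_sfix_ne_zero (h2 : ∀ v : V, v + v = 0) (hV : Nontrivial V) :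
    ∃ x : V, SFix ρ x ∧ x ≠ 0 := by
  classical
  let _ := FixVec.uAct ρ
  have : Fact (Nat.Prime 2) := ⟨Nat.prime_two⟩
  have hG : IsPGroup 2 (Multiplicative K) := by
    obtain ⟨m, hm⟩ := exists_card_pow (K := K)
    apply IsPGroup.of_card (n := m)
    rw [Nat.card_eq_fintype_card, Fintype.card_multiplicative]
    exact hm
  have hdvd : 2 ∣ Nat.card V := by
    obtain ⟨v, hv⟩ := exists_ne (0 : V)
    have h1 : addOrderOf v = 2 := by
      apply addOrderOf_eq_prime
      · rw [two_nsmul]; exact h2 v
      · exact hv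
    rw [← h1]
    exact addOrderOf_dvd_natCard v
  have h0 : (0 : V) ∈ MulAction.fixedPoints (Multiplicative K) V := by
    intro b
    show ρ (uu (Multiplicative.toAdd b)) 0 = 0
    exact map_zero _
  obtain ⟨x, hx, hx0⟩ := hG.exists_fixed_point_of_prime_dvd_card_of_fixed_point V hdvd h0
  refine ⟨x, ?_, fun h => hx0 h.symm⟩
  intro b
  exact hx (Multiplicative.ofAdd b)

end M7

end Cfsg.Agent.Lib.Helper5.Hig
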