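import Mathlib
import Cfsg.Agent.Lib.Helper5.HigDefs
import Cfsg.Agent.Lib.Helper8.HigMatA
import Cfsg.Agent.Lib.Helper8.HigMatB

/-!
# S3050 swarm, package M5: the natural module is simple; uniqueness of equivariant maps
-/

set_option autoImplicit false
set_option linter.unusedSectionVars false

namespace Cfsg.Agent.Lib.Helper5.Hig

open Matrix

section M5
variable {K : Type*} [Field K] [Fintype K] [CharP K 2] {V : Type*} [AddCommGroup V]
  (ρ : SL K →* AddMonoid.End V)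

theorem nat_not_mem {f : (Fin 2 → K) →+ V} (hf : IsNat ρ f) {U : AddSubgroup V} (hU : Invt ρ U)
    (h : f (e1 1) ∉ U) {n : Fin 2 → K} (hn : n ≠ 0) : f n ∉ U := by
  obtain ⟨g, hg⟩ := exists_smul_e1 hn
  intro hmem
  apply h
  have h1 : f n = ρ g (f (e1 1)) := by rw [← hg, hf g (e1 1)]
  have h2 := hU g⁻¹ (f n) hmem
  rw [h1, rep_inv_apply] at h2
  exact h2

theorem nat_injective {f : (Fin 2 → K) →+ V} (hf : IsNat ρ f) (h : f (e1 1) ≠ 0) :
    Function.Injective f := by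
  rw [injective_iff_map_eq_zero]
  intro n hn0
  by_contra hn
  have hU : Invt ρ (⊥ : AddSubgroup V) := by
    intro g v hv
    rw [AddSubgroup.mem_bot] at hv ⊢
    rw [hv, map_zero]
  have h1 : f (e1 1) ∉ (⊥ : AddSubgroup V) := by
    rw [AddSubgroup.mem_bot]; exact h
  have h2 := nat_not_mem ρ hf hU h1 hn
  rw [AddSubgroup.mem_bot] at h2
  exact h2 hn0

theorem equivariant_unique {F F' : (Fin 2 → K) → V} (hF : ∀ (g : SL K) n, F (g • n) = ρ g (F n))
    (hF' : ∀ (g : SL K) n, F' (g • n) = ρ g (F' n)) (h0 : F 0 = F' 0)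
    (h1 : F (e1 1) = F' (e1 1)) : F = F' := by
  funext n
  by_cases hn : n = 0
  · rw [hn, h0]
  · obtain ⟨g, hg⟩ := exists_smul_e1 hn
    rw [← hg, hF g (e1 1), hF' g (e1 1), h1]

theorem nat_sfix {f : (Fin 2 → K) →+ V} (hf : IsNat ρ f) (α : K) : SFix ρ (f (e1 α)) := by
  intro b
  rw [← hf (uu b) (e1 α), uu_smul]
  congr 1
  simp [e1]

end M5

end Cfsg.Agent.Lib.Helper5.Hig
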