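import Mathlib
import Cfsg.Agent.Lib.Helper5.HigDefs
import Cfsg.Agent.Lib.Helper8.HigMatA
import Cfsg.Agent.Lib.Helper8.HigMatB
import Cfsg.Agent.Lib.Helper8.HigFix
import Cfsg.Agent.Lib.Helper5.HigDag
import Cfsg.Agent.Lib.Helper5.HigSum

/-!
# S3050 swarm, package E4: the extension lemma for `q = 4`
-/

set_option autoImplicit false
set_option linter.unusedSectionVars false

namespace Cfsg.Agent.Lib.Helper5.Hig

open Matrix

namespace Ext4

variable {K : Type*} [Field K] [Fintype K] [CharP K 2] {V : Type*} [AddCommGroup V]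
  (ρ : SL K →* AddMonoid.End V)

/-- the norm of the unipotent group vanishes when `q = 4` -/
theorem norm_zero (hρ : CMod ρ) {ω : K} (hω0 : ω ≠ 0) (hrel : ω ^ 2 + ω + 1 = 0) (v : V) :
    v + ρ (uu 1) v + ρ (uu ω) v + ρ (uu (ω ^ 2)) v = 0 := by
  have h2 : (2 : K) = 0 := CharTwo.two_eq_zero
  have hsq : ω ^ 2 = ω + 1 := by linear_combination hrel - (ω + 1) * h2
  have h1ω : (1 : K) + ω = ω ^ 2 := by rw [hsq, add_comm]
  have h1ω2 : (1 : K) + ω ^ 2 = ω := by linear_combination hrel - ω * h2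
  have hcube : ω * ω ^ 2 = 1 := by linear_combination (ω - 1) * hrel
  have hinv : ω⁻¹ = ω ^ 2 := inv_eq_of_mul_eq_one_right hcube
  have hinv2 : (ω ^ 2)⁻¹ = ω := inv_eq_of_mul_eq_one_left hcube
  have hω2 : ω ^ 2 ≠ 0 := pow_ne_zero 2 hω0
  have hhω2 : hh (ω ^ 2) = hh ω * hh ω := by rw [hh_mul hω0 hω0, pow_two]
  -- (‡) with c = 1, c' = ω
  have E1 : ρ (uu ω) v + ρ (hh ω) (ρ (uu 1) v) + ρ (hh ω) (ρ (hh ω) v) = 0 := by
    have h := ddagger ρ hρ (c := 1) (c' := ω) one_ne_zero hω0 (by rw [h1ω]; exact hω2) v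
    have hγ : (1 : K)⁻¹ + ω⁻¹ + (1 + ω)⁻¹ = 0 := by
      rw [h1ω, hinv, hinv2, inv_one]; linear_combination hrel
    rw [hγ, uu_zero, rep_one_apply, hρ.two, map_zero, map_zero, hh_one, rep_one_apply, inv_one,
      h1ω, hhω2, rep_mul_apply] at h
    exact h.symm
  -- (‡) with c = 1, c' = ω²
  have E2 : ρ (uu (ω ^ 2)) v + ρ (hh ω) (ρ (hh ω) (ρ (uu 1) v)) + ρ (hh ω) v = 0 := by
    have h := ddagger ρ hρ (c := 1) (c' := ω ^ 2) one_ne_zero hω2 (by rw [h1ω2]; exact hω0) v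
    have hγ : (1 : K)⁻¹ + (ω ^ 2)⁻¹ + (1 + ω ^ 2)⁻¹ = 0 := by
      rw [h1ω2, hinv, hinv2, inv_one]; linear_combination hrel
    rw [hγ, uu_zero, rep_one_apply, hρ.two, map_zero, map_zero, hh_one, rep_one_apply, inv_one,
      h1ω2, hhω2, rep_mul_apply] at h
    exact h.symm
  have hord : orderOf (hh ω) = 3 := orderOf_hh_three hrel
  have C1 := hρ.c3 (hh ω) hord v
  have C2 := hρ.c3 (hh ω) hord (ρ (uu 1) v)
  calc v + ρ (uu 1) v + ρ (uu ω) v + ρ (uu (ω ^ 2)) v
      = (ρ (uu ω) v + ρ (hh ω) (ρ (uu 1) v) + ρ (hh ω) (ρ (hh ω) v)) +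
        (ρ (uu (ω ^ 2)) v + ρ (hh ω) (ρ (hh ω) (ρ (uu 1) v)) + ρ (hh ω) v) +
        (v + ρ (hh ω) v + ρ (hh ω) (ρ (hh ω) v)) +
        (ρ (uu 1) v + ρ (hh ω) (ρ (uu 1) v) + ρ (hh ω) (ρ (hh ω) (ρ (uu 1) v))) -
        ((ρ (hh ω) (ρ (uu 1) v) + ρ (hh ω) (ρ (hh ω) v) + ρ (hh ω) (ρ (hh ω) (ρ (uu 1) v)) +
            ρ (hh ω) v) +
          (ρ (hh ω) (ρ (uu 1) v) + ρ (hh ω) (ρ (hh ω) v) + ρ (hh ω) (ρ (hh ω) (ρ (uu 1) v)) +
            ρ (hh ω) v)) := by abel
    _ = 0 := by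
      rw [E1, E2, C1, C2, hρ.two (ρ (hh ω) (ρ (uu 1) v) + ρ (hh ω) (ρ (hh ω) v) +
        ρ (hh ω) (ρ (hh ω) (ρ (uu 1) v)) + ρ (hh ω) v)]
      simp

end Ext4

section E
variable {K : Type*} [Field K] [Fintype K] [CharP K 2] {V : Type*} [AddCommGroup V] [Finite V]
  (ρ : SL K →* AddMonoid.End V) {k : ℕ} (f : Fin k → ((Fin 2 → K) →+ V))

/-- quadratic action when `q = 4` -/
theorem quadratic_four (hρ : CMod ρ) (h4 : Fintype.card K = 4) (b b' : K) (v : V) :
    v + ρ (uu b) v + ρ (uu b') v + ρ (uu b) (ρ (uu b') v) = 0 := by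
  obtain ⟨ω, hω0, hω1, hrel, hall⟩ := exists_omega h4
  have hN := Ext4.norm_zero ρ hρ hω0 hrel v
  have h2 : (2 : K) = 0 := CharTwo.two_eq_zero
  have hsq : ω ^ 2 = ω + 1 := by linear_combination hrel - (ω + 1) * h2
  have s1 : (1 : K) + ω = ω ^ 2 := by rw [hsq, add_comm]
  have s2 : ω + 1 = ω ^ 2 := hsq.symm
  have s3 : (1 : K) + ω ^ 2 = ω := by linear_combination hrel - ω * h2
  have s4 : ω ^ 2 + 1 = ω := by rw [add_comm]; exact s3
  have s5 : ω + ω ^ 2 = 1 := by rw [hsq, ← add_assoc, CharTwo.add_self_eq_zero, zero_add]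
  have s6 : ω ^ 2 + ω = 1 := by rw [add_comm]; exact s5
  have s7 : ∀ x : K, x + x = 0 := CharTwo.add_self_eq_zero
  have htwo := hρ.two
  have t1 : ∀ a x : V, a + a + x + x = 0 := fun a x => by rw [htwo a, zero_add, htwo x]
  have t2 : ∀ a x : V, a + x + a + x = 0 := fun a x => by
    have : a + x + a + x = (a + a) + (x + x) := by abel
    rw [this, htwo a, htwo x, add_zero]
  have t3 : ∀ a x : V, a + x + x + a = 0 := fun a x => by
    have : a + x + x + a = (a + a) + (x + x) := by abel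
    rw [this, htwo a, htwo x, add_zero]
  rw [← rep_mul_apply, uu_mul]
  rcases hall b with rfl | rfl | rfl | rfl <;> rcases hall b' with rfl | rfl | rfl | rfl <;>
    simp only [zero_add, add_zero, s1, s2, s3, s4, s5, s6, s7, uu_zero, rep_one_apply] <;>
    first
    | exact hN
    | (rw [← hN]; abel1)
    | exact t1 _ _
    | exact t2 _ _
    | exact t3 _ _

theorem ext_four (hρ : CMod ρ) (h4 : Fintype.card K = 4) (hf : ∀ i, IsNat ρ (f i))
    (hinj : Function.Injective (sumMap f)) (hne : (sumMap f).range ≠ ⊤) :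
    ∃ x : V, SFix ρ x ∧ x ∉ (sumMap f).range := by
  by_contra hcon
  push Not at hcon
  obtain ⟨E1, hE1⟩ : ∃ E1 : V →+ V, ∀ v, E1 v = v + ρ (uu 1) v :=
    ⟨(1 + ρ (uu 1) : AddMonoid.End V), fun v => rfl⟩
  have htwo := hρ.two
  -- the image of `E1` consists of `S`-fixed vectors, hence lies in the plus part
  have hsub : E1.range ≤ plusPart f := by
    rintro x ⟨v, rfl⟩
    have hfix : SFix ρ (E1 v) := by
      intro b
      have hq := quadratic_four ρ hρ h4 b 1 v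
      rw [hE1, map_add]
      apply Dag.eq_of_add_eq_zero htwo
      rw [← hq]; abel
    exact (fix_range_iff ρ f hf hinj one_ne_zero (hcon _ hfix)).mp (hfix 1)
  have hker : Nat.card E1.ker = Nat.card {v : V // ρ (uu 1) v = v} := by
    apply Nat.card_congr
    apply Equiv.subtypeEquivRight
    intro v
    rw [AddMonoidHom.mem_ker, hE1]
    constructor
    · intro h
      exact (Dag.eq_of_add_eq_zero htwo h).symm
    · intro h
      rw [h]; exact htwo v
  have h4v : ∀ v : V, (4 : ℕ) • v = 0 := by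
    intro v
    have : (4 : ℕ) • v = (v + v) + (v + v) := by abel
    rw [this, htwo v, add_zero]
  have hsq := card_fix_uu_sq ρ hρ.toC3 h4v (one_ne_zero : (1 : K) ≠ 0)
  rw [← hker] at hsq
  have hmul := AddSubgroup.card_mul_index E1.ker
  rw [AddSubgroup.index_ker] at hmul
  have hpos : 0 < Nat.card E1.ker := Nat.card_pos
  have hrk : Nat.card E1.range = Nat.card E1.ker := by
    have : Nat.card E1.ker * Nat.card E1.range = Nat.card E1.ker * Nat.card E1.ker := by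
      rw [hmul, ← hsq, pow_two]
    exact Nat.eq_of_mul_eq_mul_left hpos this
  have hle : Nat.card E1.range ≤ Nat.card (plusPart f) := AddSubgroup.card_le_of_le hsub
  have hps := card_plusPart_sq f hinj
  have hlt : Nat.card (sumMap f).range < Nat.card V := by
    apply lt_of_le_of_ne (AddSubgroup.card_le_card_addGroup _)
    intro h
    exact hne ((AddSubgroup.card_eq_iff_eq_top _).mp h)
  have : Nat.card V ≤ Nat.card (sumMap f).range := by
    rw [← hsq, ← hps, ← hrk]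
    exact Nat.pow_le_pow_left hle 2
  omega

end E

end Cfsg.Agent.Lib.Helper5.Hig
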