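import Mathlib
import Cfsg.Prelude.Def_Blocks
import Cfsg.Prelude.Def_BrauerPairs
import Cfsg.Agent.Lib.Helper8.VK12

/-!
# Counting the nontrivial subsections of a block with abelian defect groups of exponent two
-/

set_option autoImplicit false
set_option linter.unusedSectionVars false
set_option maxHeartbeats 1600000

namespace Cfsg.Agent.Lib.Helper8.VK

open Cfsg Cfsg.Agent.Lib.Helper8
open scoped ComplexConjugate
open Cfsg.Agent.Lib.Helper1 Cfsg.Agent.Lib.Helper4

universe u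

section

theorem card_sigma_finset {α : Type u} (s : Finset α) (β : α → Type u) [∀ a, Finite (β a)] :
    Nat.card (Σ x : {x : α // x ∈ s}, β (x : α)) = ∑ x ∈ s, Nat.card (β x) := by
  classical
  rw [Nat.card_sigma]
  exact Finset.sum_coe_sort s (fun x => Nat.card (β x))

end

section

variable {G : Type u} [Group G] [Fintype G] {M : Ideal AlgInt}

/-- The type of the nontrivial subsections of `B` with element in the set `X` of
representatives. -/
abbrev SubSec [DecidableEq G] (M : Ideal AlgInt) (B : Set (IrrCharacter G)) (X : Finset G) :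
    Type u :=
  Σ x : {x : G // x ∈ X.erase 1},
    {f : Set (IrrCharacter (Subgroup.centralizer ((Subgroup.zpowers (x : G) : Subgroup G) : Set G))) //
      IsInducedBlock M (Subgroup.centralizer ((Subgroup.zpowers (x : G) : Subgroup G) : Set G)) f B}

/-- The Brauer pair of a subsection. -/
def SubSec.toPair [DecidableEq G] {B : Set (IrrCharacter G)} {X : Finset G}
    (σ : SubSec M B X) : BrauerPairIdx G := ⟨Subgroup.zpowers (σ.1 : G), σ.2.1⟩

instance [DecidableEq G] (B : Set (IrrCharacter G)) (X : Finset G) : Finite (SubSec M B X) := by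
  unfold SubSec
  infer_instance

variable [DecidableEq G]

/-- **Trivial inertial quotient**: at least three subsections. -/
theorem three_le_card_subSec (hM : IsPModular 2 M) {B : Set (IrrCharacter G)}
    {P : Subgroup G} {c : Set (IrrCharacter (Subgroup.centralizer (P : Set G)))}
    (hmax : IsMaximalBrauerPair 2 M B P c) (hab : ∀ x ∈ P, ∀ y ∈ P, x * y = y * x)
    (hcard : Nat.card P = 4) (hexp : ∀ g ∈ P, g * g = 1) (X : Finset G)
    (hXrep : ∀ g : G, (∃ k : ℕ, orderOf g = 2 ^ k) → ∃! x, x ∈ X ∧ IsConj g x)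
    (hT1 : ∀ t : G, t ∈ Subgroup.normalizer (P : Set G) →
      StabilizesBlock (Subgroup.centralizer (P : Set G)) c t →
        t ∈ Subgroup.centralizer (P : Set G)) :
    3 ≤ Nat.card (SubSec M B X) := by
  have : Fact (Nat.Prime 2) := ⟨Nat.prime_two⟩
  have hord : ∀ y : G, y ∈ P → y ≠ 1 → ∃ k : ℕ, orderOf y = 2 ^ k := by
    intro y hy hy1
    exact ⟨1, by rw [pow_one]; exact orderOf_eq_prime (by rw [pow_two]; exact hexp y hy) hy1⟩
  have hex : ∀ y : {y : G // y ∈ P ∧ y ≠ 1}, ∃ (x g : G)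
      (f : Set (IrrCharacter (Subgroup.centralizer
        ((Subgroup.zpowers (y : G) : Subgroup G) : Set G))))
      (f' : Set (IrrCharacter (Subgroup.centralizer ((Subgroup.zpowers x : Subgroup G) : Set G)))),
      x ∈ X ∧ x ≠ 1 ∧ g * (y : G) * g⁻¹ = x ∧ SubpairLE 2 M (Subgroup.zpowers (y : G)) f P c ∧
      pairConj g ⟨Subgroup.zpowers (y : G), f⟩ = ⟨Subgroup.zpowers x, f'⟩ ∧
      IsInducedBlock M (Subgroup.centralizer ((Subgroup.zpowers x : Subgroup G) : Set G)) f' B :=
    fun y => exists_subsection_of_mem hM hmax X hXrep y.2.1 y.2.2 (hord y y.2.1 y.2.2)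
  choose x g f f' hxX hx1 hg hle hf' hind using hex
  set j : {y : G // y ∈ P ∧ y ≠ 1} → SubSec M B X := fun y =>
    ⟨⟨x y, Finset.mem_erase.2 ⟨hx1 y, hxX y⟩⟩, ⟨f' y, hind y⟩⟩ with hj
  have hjinj : Function.Injective j := by
    intro y y' h
    have h1 : (j y).toPair = (j y').toPair := by rw [h]
    have h2 : x y = x y' := by
      have := congrArg (fun σ : SubSec M B X => (σ.1 : G)) h
      exact this
    have h3 : pairConj (g y) ⟨Subgroup.zpowers (y : G), f y⟩ =
        pairConj (g y') ⟨Subgroup.zpowers (y' : G), f y'⟩ := by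
      rw [hf' y, hf' y']
      exact h1
    obtain ⟨t, htN, htst, ht⟩ := exists_stab_of_pairConj_eq hM hmax hab y.2.1 (hle y) (hle y') h3
    have htC := hT1 t htN htst
    have h4 : t * (y : G) * t⁻¹ = y := by
      have := Subgroup.mem_centralizer_iff.1 htC y y.2.1
      rw [← this]
      group
    rw [h4] at ht
    have h5 : (g y')⁻¹ * g y * (y : G) * ((g y')⁻¹ * g y)⁻¹ = y' := by
      have e1 : (g y')⁻¹ * g y * (y : G) * ((g y')⁻¹ * g y)⁻¹ =
          (g y')⁻¹ * (g y * (y : G) * (g y)⁻¹) * g y' := by group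
      rw [e1, hg y, h2, ← hg y']
      group
    apply Subtype.ext
    rw [ht, h5]
  have hcardY : Nat.card {y : G // y ∈ P ∧ y ≠ 1} = 3 := by
    classical
    have : Fintype P := Fintype.ofFinite _
    have e : {y : G // y ∈ P ∧ y ≠ 1} ≃ {y : P // ¬ y = 1} :=
      { toFun := fun y => ⟨⟨y, y.2.1⟩, fun h => y.2.2 (congrArg Subtype.val h)⟩
        invFun := fun y => ⟨y, (y : P).2, fun h => y.2 (Subtype.ext h)⟩
        left_inv := fun _ => rfl
        right_inv := fun _ => rfl }
    rw [Nat.card_congr e, Nat.card_eq_fintype_card, Fintype.card_subtype_compl,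
      Fintype.card_subtype_eq, ← Nat.card_eq_fintype_card, hcard]
  rw [← hcardY]
  exact Nat.card_le_card_of_injective j hjinj

/-- **Transitive inertial quotient**: exactly one subsection. -/
theorem card_subSec_eq_one (hM : IsPModular 2 M) {B : Set (IrrCharacter G)}
    {P : Subgroup G} {c : Set (IrrCharacter (Subgroup.centralizer (P : Set G)))}
    (hmax : IsMaximalBrauerPair 2 M B P c)
    (hexp : ∀ g ∈ P, g * g = 1) (X : Finset G)
    (hX : ∀ x ∈ X, ∃ k : ℕ, orderOf x = 2 ^ k)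
    (hXrep : ∀ g : G, (∃ k : ℕ, orderOf g = 2 ^ k) → ∃! x, x ∈ X ∧ IsConj g x)
    (hne : ∃ y ∈ P, y ≠ 1)
    (htrans : ∀ y ∈ P, y ≠ 1 → ∀ y' ∈ P, y' ≠ 1 → ∃ t : G,
      t ∈ Subgroup.normalizer (P : Set G) ∧
      StabilizesBlock (Subgroup.centralizer (P : Set G)) c t ∧ t * y * t⁻¹ = y') :
    Nat.card (SubSec M B X) = 1 := by
  have : Fact (Nat.Prime 2) := ⟨Nat.prime_two⟩
  have hPe : IsBrauerPair 2 M P c := hmax.1.1
  have hord : ∀ y : G, y ∈ P → y ≠ 1 → ∃ k : ℕ, orderOf y = 2 ^ k := by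
    intro y hy hy1
    exact ⟨1, by rw [pow_one]; exact orderOf_eq_prime (by rw [pow_two]; exact hexp y hy) hy1⟩
  have hconj1 : ∀ s z : G, z ≠ 1 → s * z * s⁻¹ ≠ 1 := by
    intro s z hz h
    apply hz
    have : z = s⁻¹ * (s * z * s⁻¹) * s := by group
    rw [this, h]
    group
  rw [Nat.card_eq_one_iff_unique]
  constructor
  · constructor
    rintro ⟨⟨x, hx⟩, ⟨f, hf⟩⟩ ⟨⟨x', hx'⟩, ⟨f', hf'⟩⟩
    obtain ⟨hx1, hxX⟩ := Finset.mem_erase.1 hx
    obtain ⟨hx'1, hx'X⟩ := Finset.mem_erase.1 hx'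
    have hfB := pair_of_induced_zpowers hM (hX x hxX) hf
    have hf'B := pair_of_induced_zpowers hM (hX x' hx'X) hf'
    obtain ⟨g, hgP, hgle⟩ := exists_conj_into hM hmax hfB
    obtain ⟨g', hg'P, hg'le⟩ := exists_conj_into hM hmax hf'B
    obtain ⟨t, htN, htst, ht⟩ := htrans _ hgP (hconj1 g x hx1) _ hg'P (hconj1 g' x' hx'1)
    -- the elements agree
    have hxx' : x' = x := by
      have hc : IsConj x x' := by
        rw [isConj_iff]
        refine ⟨g'⁻¹ * t * g, ?_⟩
        have e1 : g'⁻¹ * t * g * x * (g'⁻¹ * t * g)⁻¹ = g'⁻¹ * (t * (g * x * g⁻¹) * t⁻¹) * g' := by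
          group
        rw [e1, ht]
        group
      obtain ⟨x₀, -, huniq⟩ := hXrep x (hX x hxX)
      rw [huniq x' ⟨hx'X, hc⟩, huniq x ⟨hxX, IsConj.refl x⟩]
    subst hxx'
    -- the two conjugates below the maximal pair
    have hle₁ : Relation.ReflTransGen (NormalSubpairRel 2 M)
        (pairConj (t * g) ⟨Subgroup.zpowers x', f⟩) ⟨P, c⟩ := by
      rw [pairConj_mul]
      have := subpairRel_pairConj t hgle
      rwa [pairConj_eq_self_of_stab P c htN htst] at this
    have hfst₁ : (pairConj (t * g) ⟨Subgroup.zpowers x', f⟩).1 =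
        Subgroup.zpowers (g' * x' * g'⁻¹) := by
      show (Subgroup.zpowers x').map (MulAut.conj (t * g)).toMonoidHom = _
      rw [map_conj_zpowers, ← ht]
      congr 1
      group
    have hfst₂ : (pairConj g' ⟨Subgroup.zpowers x', f'⟩).1 =
        Subgroup.zpowers (g' * x' * g'⁻¹) := by
      show (Subgroup.zpowers x').map (MulAut.conj g').toMonoidHom = _
      rw [map_conj_zpowers]
    obtain ⟨f₁, hf₁⟩ := eq_mk_of_fst_eq _ hfst₁
    obtain ⟨f₂, hf₂⟩ := eq_mk_of_fst_eq _ hfst₂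
    have hle₁' := hle₁
    have hle₂' := hg'le
    rw [hf₁] at hle₁'
    rw [hf₂] at hle₂'
    have hf₁₂ : f₁ = f₂ := subpairLE_unique hM _ ⟨P, c⟩ hPe le_rfl _ f₁ f₂ hle₁' hle₂'
    have h12 : pairConj (t * g) ⟨Subgroup.zpowers x', f⟩ =
        pairConj g' ⟨Subgroup.zpowers x', f'⟩ := by
      rw [hf₁, hf₂, hf₁₂]
    have h3 : pairConj (g'⁻¹ * (t * g)) ⟨Subgroup.zpowers x', f⟩ =
        ⟨Subgroup.zpowers x', f'⟩ := by
      rw [pairConj_mul, h12, ← pairConj_mul, inv_mul_cancel, pairConj_one]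
    have hcen : g'⁻¹ * (t * g) ∈
        Subgroup.centralizer ((Subgroup.zpowers x' : Subgroup G) : Set G) := by
      rw [mem_centralizer_zpowers_iff]
      have e1 : t * g * x' = g' * x' * g'⁻¹ * (t * g) := by
        rw [← ht]
        group
      calc g'⁻¹ * (t * g) * x' = g'⁻¹ * (t * g * x') := by group
        _ = g'⁻¹ * (g' * x' * g'⁻¹ * (t * g)) := by rw [e1]
        _ = x' * (g'⁻¹ * (t * g)) := by group
    rw [pairConj_eq_self_of_mem_centralizer _ f hcen] at h3
    have hff' : f = f' := eq_of_heq (Sigma.mk.inj_iff.1 h3).2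
    subst hff'
    rfl
  · obtain ⟨y, hyP, hy1⟩ := hne
    obtain ⟨x, g, f, f', hxX, hx1, -, -, -, hind⟩ :=
      exists_subsection_of_mem hM hmax X hXrep hyP hy1 (hord y hyP hy1)
    exact ⟨⟨⟨x, Finset.mem_erase.2 ⟨hx1, hxX⟩⟩, ⟨f', hind⟩⟩⟩

end

end Cfsg.Agent.Lib.Helper8.VK
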