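import Mathlib
import Cfsg.Prelude.Def_Blocks
import Cfsg.Prelude.Def_BlockRank
import Cfsg.Agent.Lib.Helper8.BlockRank
import Cfsg.Agent.Lib.Helper8.BlockFirstMain3

/-!
# A nonempty set of irreducible characters has positive rank
-/

set_option autoImplicit false

namespace Cfsg.Agent.Lib.Helper8.VK

open Cfsg Cfsg.Agent.Lib.Helper8
open scoped ComplexConjugate
open Cfsg.Agent.Lib.Helper1 Cfsg.Agent.Lib.Helper4

universe u

section

variable {G : Type u} [Group G] [Finite G] {p : ℕ} [Fact p.Prime]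

theorem one_le_blockRank {B : Set (IrrCharacter G)} {χ₀ : IrrCharacter G} (h0 : χ₀ ∈ B) :
    1 ≤ blockRank p B := by
  classical
  have hp : p.Prime := Fact.out
  unfold blockRank
  have hne : pRegularPart p (χ₀ : G → ℂ) ≠ 0 := by
    intro h1
    have h2 := congrFun h1 1
    rw [pRegularPart_of_not_dvd _ (by rw [orderOf_one]; exact hp.not_dvd_one)] at h2
    exact irr_apply_one_ne_zero χ₀.2 h2
  have hmem : pRegularPart p (χ₀ : G → ℂ) ∈
      Submodule.span ℂ ((fun χ : IrrCharacter G => pRegularPart p (χ : G → ℂ)) '' B) :=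
    Submodule.subset_span ⟨χ₀, h0, rfl⟩
  have : Fintype G := Fintype.ofFinite G
  rw [Nat.one_le_iff_ne_zero, ← Nat.pos_iff_ne_zero, Module.finrank_pos_iff_exists_ne_zero]
  exact ⟨⟨_, hmem⟩, fun h => hne (congrArg Subtype.val h)⟩

end

end Cfsg.Agent.Lib.Helper8.VK
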