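import Mathlib
import Cfsg.Prelude.Def_Blocks
import Cfsg.Prelude.Def_BlockRank
import Cfsg.Agent.Lib.Helper8.PC1
import Cfsg.Agent.Lib.Helper8.SM7
import Cfsg.Agent.Lib.Helper8.Cover4

/-!
# Block sums in `G = Q C_G(Q)`: the characters trivial on `Q`
-/

set_option autoImplicit false
set_option maxHeartbeats 800000

namespace Cfsg.Agent.Lib.Helper8

open Cfsg
open scoped ComplexConjugate
open Cfsg.Agent.Lib.Helper1 Cfsg.Agent.Lib.Helper4

universe u

section

variable {G : Type u} [Group G] [Fintype G] {M : Ideal AlgInt} {p : ℕ}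

/-- In `G = Q C_G(Q)`, for a `p`-regular element `x` the block sum of `|χ(x)|²` is `|Q|` times the
sum over the characters of the block that are trivial on `Q`. -/
theorem sum_block_normSq_eq (hM : IsPModular p M) (Q : Subgroup G) [Q.Normal] (hQ : IsPGroup p Q)
    (hG : Q ⊔ Subgroup.centralizer (Q : Set G) = ⊤) {B : Set (IrrCharacter G)}
    (hB : IsPBlock M B) [Fintype (IrrCharacter G)] {x : G} (hx : ¬ p ∣ orderOf x)
    [DecidablePred (fun χ : IrrCharacter G => χ ∈ B)]
    [DecidablePred (fun χ : IrrCharacter G => ∀ n ∈ Q, (χ : G → ℂ) n = (χ : G → ℂ) 1)] :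
    ∑ χ : IrrCharacter G, (if χ ∈ B then (1 : ℂ) else 0) *
        ((χ : G → ℂ) x * conj ((χ : G → ℂ) x)) =
      (Nat.card Q : ℂ) * ∑ χ : IrrCharacter G, (if χ ∈ B then (1 : ℂ) else 0) *
        ((if ∀ n ∈ Q, (χ : G → ℂ) n = (χ : G → ℂ) 1 then (1 : ℂ) else 0) *
          ((χ : G → ℂ) x * conj ((χ : G → ℂ) x))) := by
  have hp : p.Prime := hM.1
  have : Fact p.Prime := ⟨hp⟩
  have : Fintype Q := Fintype.ofFinite _
  have hxC : x ∈ Subgroup.centralizer (Q : Set G) := mem_centralizer_of_pRegular hp hQ hG hx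
  -- block orthogonality for `y ≠ 1`
  have hT : ∀ y : Q, y ≠ 1 → ∑ χ : IrrCharacter G, (if χ ∈ B then (1 : ℂ) else 0) *
      ((χ : G → ℂ) ((y : G) * x) * conj ((χ : G → ℂ) x)) = 0 := by
    intro y hy
    have hyx : IsPPart p ((y : G) * x) (y : G) := by
      refine ⟨x, rfl, ?_, ?_, hx⟩
      · exact commute_of_mem_centralizer y.2 hxC
      · obtain ⟨k, hk⟩ := (IsPGroup.iff_orderOf.1 hQ) y
        exact ⟨k, by rw [Subgroup.orderOf_coe, hk]⟩
    have hx1 : IsPPart p x 1 := ⟨x, one_mul x, Commute.one_left x, ⟨0, by simp⟩, hx⟩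
    have hne : ¬ IsConj (y : G) 1 := by
      rw [isConj_one_left]
      intro h
      apply hy
      exact Subtype.ext h
    have := block_orthogonality hM hB hyx hx1 hne
    rw [finsum_mem_eq_sum_indicator] at this
    refine Eq.trans ?_ this
    refine Finset.sum_congr rfl fun χ _ => ?_
    rw [isCharacter_inv (isCharacter_of_irr χ.2)]
    congr 2
  -- sum over `y ∈ Q`
  have h1 : ∑ y : Q, ∑ χ : IrrCharacter G, (if χ ∈ B then (1 : ℂ) else 0) *
      ((χ : G → ℂ) ((y : G) * x) * conj ((χ : G → ℂ) x)) =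
      ∑ χ : IrrCharacter G, (if χ ∈ B then (1 : ℂ) else 0) *
        ((χ : G → ℂ) x * conj ((χ : G → ℂ) x)) := by
    rw [Finset.sum_eq_single (1 : Q)]
    · refine Finset.sum_congr rfl fun χ _ => ?_
      rw [Subgroup.coe_one, one_mul]
    · intro y _ hy
      exact hT y hy
    · intro h
      exact absurd (Finset.mem_univ _) h
  rw [← h1, Finset.sum_comm, Finset.mul_sum]
  refine Finset.sum_congr rfl fun χ _ => ?_
  rw [← Finset.mul_sum]
  by_cases hχ : χ ∈ B
  swap
  · simp only [hχ, if_false, zero_mul, mul_zero]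
  simp only [hχ, if_true, one_mul]
  have hχ1 := irr_apply_one_ne_zero χ.2
  have h2 : ∀ y : Q, (χ : G → ℂ) ((y : G) * x) * conj ((χ : G → ℂ) x) =
      (χ : G → ℂ) (y : G) * ((χ : G → ℂ) x * conj ((χ : G → ℂ) x) / (χ : G → ℂ) 1) := by
    intro y
    rw [irr_mul_of_sup_centralizer hG χ.2 y.2 hxC]
    ring
  rw [Finset.sum_congr rfl (fun y _ => h2 y), ← Finset.sum_mul]
  -- the sum of `χ` over `Q`
  have h3 : ∑ y : Q, (χ : G → ℂ) (y : G) =
      (Nat.card Q : ℂ) * classInner (fun n : Q => (χ : G → ℂ) n) (fun _ : Q => (1 : ℂ)) := by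
    rw [classInner_def]
    have hQ0 : (Nat.card Q : ℂ) ≠ 0 := Nat.cast_ne_zero.2 Nat.card_pos.ne'
    rw [← mul_assoc, mul_inv_cancel₀ hQ0, one_mul]
    refine Finset.sum_congr rfl fun y _ => ?_
    rw [map_one, mul_one]
  rw [h3]
  by_cases hker : ∀ n ∈ Q, (χ : G → ℂ) n = (χ : G → ℂ) 1
  · rw [if_pos hker, one_mul]
    have h4 : classInner (fun n : Q => (χ : G → ℂ) n) (fun _ : Q => (1 : ℂ)) = (χ : G → ℂ) 1 := by
      have h5 : (fun n : Q => (χ : G → ℂ) n) = (χ : G → ℂ) 1 • (fun _ : Q => (1 : ℂ)) := by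
        funext n
        rw [Pi.smul_apply, smul_eq_mul, mul_one]
        exact hker n n.2
      rw [h5, classInner_smul_left, classInner_irr_self Cfsg.Agent.S0161.isIrrCharacter_one,
        mul_one]
    rw [h4]
    field_simp
  · rw [if_neg hker, zero_mul, mul_zero]
    have h4 : classInner (fun n : Q => (χ : G → ℂ) n) (fun _ : Q => (1 : ℂ)) = 0 := by
      by_contra hne
      exact hker ((constituent_one_iff Q χ.2).1 hne)
    rw [h4, mul_zero, zero_mul]

end

end Cfsg.Agent.Lib.Helper8
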