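import Mathlib
import Cfsg.Prelude.Def_Blocks
import Cfsg.Prelude.Def_BlockRank
import Cfsg.Agent.Lib.Helper8.QR1
import Cfsg.Agent.Lib.Helper8.PC5
import Cfsg.Agent.Lib.Helper8.Inf5

/-!
# The principal blocks of `G = Q C_G(Q)` and `G ⧸ Q` have the same rank
-/

set_option autoImplicit false
set_option maxHeartbeats 1600000

namespace Cfsg.Agent.Lib.Helper8

open Cfsg
open scoped ComplexConjugate
open Cfsg.Agent.Lib.Helper1 Cfsg.Agent.Lib.Helper4

universe u

section

variable {G : Type u} [Group G] [Fintype G] {M : Ideal AlgInt} {p : ℕ} [Fact p.Prime]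

/-- `p`-regular elements of `G = Q C_G(Q)` with the same image in `G ⧸ Q` are equal. -/
theorem regular_eq_of_mk_eq (Q : Subgroup G) [Q.Normal] (hQ : IsPGroup p Q)
    (hG : Q ⊔ Subgroup.centralizer (Q : Set G) = ⊤) {x x' : G} (hx : ¬ p ∣ orderOf x)
    (hx' : ¬ p ∣ orderOf x') (h : (QuotientGroup.mk x : G ⧸ Q) = QuotientGroup.mk x') :
    x = x' := by
  have hp : p.Prime := Fact.out
  have hxC := mem_centralizer_of_pRegular hp hQ hG hx
  have hy : x⁻¹ * x' ∈ Q := by
    rw [← QuotientGroup.eq]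
    exact h
  set y := x⁻¹ * x' with hydef
  have hx'y : x' = x * y := by rw [hydef]; group
  have hcomm : Commute x y := (commute_of_mem_centralizer hy hxC).symm
  obtain ⟨j, hj⟩ := (IsPGroup.iff_orderOf.1 hQ) ⟨y, hy⟩
  have hj' : orderOf y = p ^ j := by rw [← hj, Subgroup.orderOf_mk]
  have hcop : (orderOf x).Coprime (orderOf y) := by
    rw [hj']
    exact Nat.Coprime.pow_right _ ((Nat.Prime.coprime_iff_not_dvd hp).2 hx).symm
  have ho := hcomm.orderOf_mul_eq_mul_orderOf_of_coprime hcop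
  rw [← hx'y, hj'] at ho
  have hj0 : j = 0 := by
    by_contra hj0
    apply hx'
    rw [ho]
    exact (dvd_pow_self p hj0).mul_left _
  rw [hj0, pow_zero, orderOf_eq_one_iff] at hj'
  rw [hx'y, hj', mul_one]

/-- Sums over the `p`-regular elements of `G = Q C_G(Q)` and of `G ⧸ Q`. -/
theorem sum_regular_mk (Q : Subgroup G) [Q.Normal] (hQ : IsPGroup p Q)
    (hG : Q ⊔ Subgroup.centralizer (Q : Set G) = ⊤) [Fintype (G ⧸ Q)] (Φ : G ⧸ Q → ℂ) :
    ∑ s : G, (if p ∣ orderOf s then 0 else Φ (QuotientGroup.mk s)) =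
      ∑ q : G ⧸ Q, (if p ∣ orderOf q then 0 else Φ q) := by
  classical
  have e1 : ∀ (X : Type u) [Group X] [Fintype X] (F : X → ℂ),
      ∑ s : X, (if p ∣ orderOf s then 0 else F s) =
        ∑ s ∈ Finset.univ.filter (fun s : X => ¬ p ∣ orderOf s), F s := by
    intro X _ _ F
    rw [Finset.sum_filter]
    refine Finset.sum_congr rfl fun s _ => ?_
    by_cases hs : p ∣ orderOf s
    · rw [if_pos hs, if_neg (not_not.2 hs)]
    · rw [if_neg hs, if_pos hs]
  rw [e1 G (fun s => Φ (QuotientGroup.mk s)), e1 (G ⧸ Q) Φ]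
  apply Finset.sum_bij (fun s _ => (QuotientGroup.mk s : G ⧸ Q))
  · intro s hs
    rw [Finset.mem_filter] at hs ⊢
    refine ⟨Finset.mem_univ _, fun h => hs.2 (h.trans ?_)⟩
    exact orderOf_map_dvd (QuotientGroup.mk' Q) s
  · intro s hs s' hs' h
    rw [Finset.mem_filter] at hs hs'
    exact regular_eq_of_mk_eq Q hQ hG hs.2 hs'.2 h
  · intro q hq
    rw [Finset.mem_filter] at hq
    obtain ⟨g, hg, hgr⟩ := exists_regular_lift Q q hq.2
    exact ⟨g, Finset.mem_filter.2 ⟨Finset.mem_univ _, hgr⟩, hg⟩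
  · intro s _
    rfl

/-- The index of `C_G(Q)` in `G = Q C_G(Q)` is a power of `p`. -/
theorem index_centralizer_of_sup (Q : Subgroup G) [Q.Normal] (hQ : IsPGroup p Q)
    (hG : Q ⊔ Subgroup.centralizer (Q : Set G) = ⊤) :
    ∃ k : ℕ, (Subgroup.centralizer (Q : Set G)).index = p ^ k := by
  have hp : p.Prime := Fact.out
  have h1 : (Subgroup.centralizer (Q : Set G)).relIndex (Q ⊔ Subgroup.centralizer (Q : Set G)) =
      (Subgroup.centralizer (Q : Set G)).relIndex Q := Subgroup.relIndex_sup_right _ _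
  rw [hG, Subgroup.relIndex_top_right] at h1
  obtain ⟨n, hn⟩ := IsPGroup.iff_card.1 hQ
  have h2 : (Subgroup.centralizer (Q : Set G)).relIndex Q ∣ Nat.card Q :=
    Subgroup.relIndex_dvd_card _ _
  rw [hn] at h2
  obtain ⟨k, -, hk⟩ := (Nat.dvd_prime_pow hp).1 h2
  exact ⟨k, by rw [h1, hk]⟩

end

end Cfsg.Agent.Lib.Helper8
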