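import Mathlib
import Cfsg.Prelude.Def_Blocks
import Cfsg.Prelude.Def_BlockRank
import Cfsg.Agent.Lib.Helper8.QR2

/-!
# The principal blocks of `G = Q C_G(Q)` and `G ⧸ Q` have the same rank (main theorem)
-/

set_option autoImplicit false
set_option maxHeartbeats 1600000

namespace Cfsg.Agent.Lib.Helper8

open Cfsg
open scoped ComplexConjugate
open Cfsg.Agent.Lib.Helper1 Cfsg.Agent.Lib.Helper4

universe u

section

variable {G : Type u} [Group G] [Fintype G] {M : Ideal AlgInt} {p : ℕ} [Fact p.Prime]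

/-- The rank of a block as a sum over the `p`-regular elements. -/
theorem blockRank_eq_sum_regular [Fintype (IrrCharacter G)] (hM : IsPModular p M)
    {B : Set (IrrCharacter G)} (hB : IsPBlock M B)
    [DecidablePred (fun χ : IrrCharacter G => χ ∈ B)] :
    (blockRank p B : ℂ) = (Nat.card G : ℂ)⁻¹ * ∑ s : G, (if p ∣ orderOf s then 0 else
      ∑ χ : IrrCharacter G, (if χ ∈ B then (1 : ℂ) else 0) *
        ((χ : G → ℂ) s * conj ((χ : G → ℂ) s))) := by
  classical
  rw [← sum_mreg_self_eq_blockRank hM hB]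
  simp_rw [mreg_eq_sum_ite, Finset.mul_sum]
  rw [Finset.sum_comm]
  refine Finset.sum_congr rfl fun s _ => ?_
  by_cases hs : p ∣ orderOf s
  · simp only [hs, if_true, mul_zero, Finset.sum_const_zero]
  · simp only [hs, if_false]
    rw [Finset.mul_sum]
    refine Finset.sum_congr rfl fun χ _ => ?_
    rw [mul_left_comm]
    congr 2
    by_cases hχ : χ ∈ B
    · simp only [hχ, if_true]
    · simp only [hχ, if_false]

theorem blockRank_principal_quotient (hM : IsPModular p M) (Q : Subgroup G) [Q.Normal]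
    (hQ : IsPGroup p Q) (hG : Q ⊔ Subgroup.centralizer (Q : Set G) = ⊤) :
    blockRank p (principalBlock M G) = blockRank p (principalBlock M (G ⧸ Q)) := by
  classical
  have hMp := isPModular_isPrime hM
  have : Fintype (G ⧸ Q) := Fintype.ofFinite _
  have : Fintype (IrrCharacter G) := Fintype.ofFinite _
  have : Fintype (IrrCharacter (G ⧸ Q)) := Fintype.ofFinite _
  have hB : IsPBlock M (principalBlock M G) := ⟨trivIrr G, rfl⟩
  have hBbar : IsPBlock M (principalBlock M (G ⧸ Q)) := ⟨trivIrr (G ⧸ Q), rfl⟩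
  have hidx := index_centralizer_of_sup Q hQ hG
  obtain ⟨hblocks, -⟩ := blocks_quotient_normal_p hM Q hQ hidx
  -- membership in the principal blocks
  have hmem : ∀ χ : IrrCharacter (G ⧸ Q),
      χ ∈ principalBlock M (G ⧸ Q) ↔ inflIrr Q χ ∈ principalBlock M G := by
    intro χ
    have := hblocks (trivIrr (G ⧸ Q)) χ
    have e1 : ((trivIrr (G ⧸ Q) : IrrCharacter (G ⧸ Q)) : G ⧸ Q → ℂ) ∘ QuotientGroup.mk =
        (fun _ : G => (1 : ℂ)) := by
      funext g
      simp [trivIrr_apply]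
    rw [e1] at this
    exact this
  -- the function `Φ`
  set Φ : G ⧸ Q → ℂ := fun q => ∑ χ : IrrCharacter (G ⧸ Q),
    (if χ ∈ principalBlock M (G ⧸ Q) then (1 : ℂ) else 0) *
      ((χ : G ⧸ Q → ℂ) q * conj ((χ : G ⧸ Q → ℂ) q)) with hΦ
  have hinj : Function.Injective (inflIrr Q) := by
    intro χ ψ h
    apply Subtype.ext
    funext q
    obtain ⟨g, rfl⟩ := QuotientGroup.mk_surjective q
    have := congrArg (fun φ : IrrCharacter G => (φ : G → ℂ) g) h
    exact this
  have hΦeq : ∀ s : G, ∑ χ : IrrCharacter G, (if χ ∈ principalBlock M G then (1 : ℂ) else 0) *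
      ((if ∀ n ∈ Q, (χ : G → ℂ) n = (χ : G → ℂ) 1 then (1 : ℂ) else 0) *
        ((χ : G → ℂ) s * conj ((χ : G → ℂ) s))) = Φ (QuotientGroup.mk s) := by
    intro s
    rw [hΦ]
    beta_reduce
    have h1 : ∑ χ : IrrCharacter (G ⧸ Q),
        (if χ ∈ principalBlock M (G ⧸ Q) then (1 : ℂ) else 0) *
          ((χ : G ⧸ Q → ℂ) (QuotientGroup.mk s) * conj ((χ : G ⧸ Q → ℂ) (QuotientGroup.mk s))) =
        ∑ χ ∈ Finset.univ.image (inflIrr Q), (if χ ∈ principalBlock M G then (1 : ℂ) else 0) *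
          ((χ : G → ℂ) s * conj ((χ : G → ℂ) s)) := by
      rw [Finset.sum_image (fun a _ b _ h => hinj h)]
      refine Finset.sum_congr rfl fun χ _ => ?_
      rw [inflIrr_apply]
      by_cases hχ : χ ∈ principalBlock M (G ⧸ Q)
      · rw [if_pos hχ, if_pos ((hmem χ).1 hχ)]
      · rw [if_neg hχ, if_neg (fun h => hχ ((hmem χ).2 h))]
    rw [h1]
    symm
    rw [← Finset.sum_subset (Finset.subset_univ _)]
    · refine Finset.sum_congr rfl fun χ hχ => ?_
      obtain ⟨χb, -, rfl⟩ := Finset.mem_image.1 hχ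
      have hk : ∀ n ∈ Q, (inflIrr Q χb : G → ℂ) n = (inflIrr Q χb : G → ℂ) 1 := by
        intro n hn
        rw [inflIrr_apply, inflIrr_apply, (QuotientGroup.eq_one_iff n).2 hn, QuotientGroup.mk_one]
      rw [if_pos hk, one_mul]
    · intro χ _ hχ
      have hk : ¬ ∀ n ∈ Q, (χ : G → ℂ) n = (χ : G → ℂ) 1 := by
        intro hk
        apply hχ
        obtain ⟨ψ, hψ, hψχ⟩ := exists_deflation Q χ.2 hk
        rw [Finset.mem_image]
        refine ⟨⟨ψ, hψ⟩, Finset.mem_univ _, ?_⟩
        apply Subtype.ext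
        funext g
        exact hψχ g
      rw [if_neg hk, zero_mul, mul_zero]
  have hcard : (Nat.card G : ℂ) = (Nat.card (G ⧸ Q) : ℂ) * (Nat.card Q : ℂ) := by
    rw [Subgroup.card_eq_card_quotient_mul_card_subgroup Q]
    push_cast
    rfl
  have hQ0 : (Nat.card Q : ℂ) ≠ 0 := Nat.cast_ne_zero.2 Nat.card_pos.ne'
  have hGQ0 : (Nat.card (G ⧸ Q) : ℂ) ≠ 0 := Nat.cast_ne_zero.2 Nat.card_pos.ne'
  have key : (blockRank p (principalBlock M G) : ℂ) =
      (blockRank p (principalBlock M (G ⧸ Q)) : ℂ) := by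
    rw [blockRank_eq_sum_regular hM hB, blockRank_eq_sum_regular hM hBbar]
    have h2 : ∀ s : G, (if p ∣ orderOf s then (0 : ℂ) else
        ∑ χ : IrrCharacter G, (if χ ∈ principalBlock M G then (1 : ℂ) else 0) *
          ((χ : G → ℂ) s * conj ((χ : G → ℂ) s))) =
        (Nat.card Q : ℂ) * (if p ∣ orderOf s then 0 else Φ (QuotientGroup.mk s)) := by
      intro s
      by_cases hs : p ∣ orderOf s
      · rw [if_pos hs, if_pos hs, mul_zero]
      · rw [if_neg hs, if_neg hs, sum_block_normSq_eq hM Q hQ hG hB hs, hΦeq]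
    rw [Finset.sum_congr rfl (fun s _ => h2 s), ← Finset.mul_sum, sum_regular_mk Q hQ hG Φ,
      hcard]
    have hgen : ∀ a b S T : ℂ, a ≠ 0 → b ≠ 0 → S = T → (a * b)⁻¹ * (b * S) = a⁻¹ * T := by
      intro a b S T ha hb hST
      subst hST
      field_simp
    exact hgen _ _ _ _ hGQ0 hQ0 rfl
  exact_mod_cast key

end

end Cfsg.Agent.Lib.Helper8
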