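import Mathlib
import Cfsg.Prelude.Def_Blocks
import Cfsg.Prelude.Def_BlockRank
import Cfsg.Agent.Lib.Helper8.QR3
import Cfsg.Agent.Lib.Helper8.BlockMinMax

/-!
# Blocks of `G = Q C_G(Q)` and of `G ⧸ Q`: the dominated block, its rank and defect groups
-/

set_option autoImplicit false
set_option maxHeartbeats 1600000

namespace Cfsg.Agent.Lib.Helper8.VK

open Cfsg Cfsg.Agent.Lib.Helper8
open scoped ComplexConjugate
open Cfsg.Agent.Lib.Helper1 Cfsg.Agent.Lib.Helper4

universe u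

section

variable {G : Type u} [Group G] [Fintype G] {M : Ideal AlgInt} {p : ℕ} [Fact p.Prime]

/-- The set of characters of `G ⧸ Q` whose inflations lie in `B`. -/
def domBlock (Q : Subgroup G) [Q.Normal] (B : Set (IrrCharacter G)) :
    Set (IrrCharacter (G ⧸ Q)) := {χ | inflIrr Q χ ∈ B}

omit [Fintype G] [Fact p.Prime] in
theorem mem_domBlock (Q : Subgroup G) [Q.Normal] (B : Set (IrrCharacter G))
    (χ : IrrCharacter (G ⧸ Q)) : χ ∈ domBlock Q B ↔ inflIrr Q χ ∈ B := Iff.rfl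

/-- For `G = Q C_G(Q)` the characters of `G ⧸ Q` inflating into a block form a block. -/
theorem isPBlock_domBlock (hM : IsPModular p M) (Q : Subgroup G) [Q.Normal] (hQ : IsPGroup p Q)
    (hG : Q ⊔ Subgroup.centralizer (Q : Set G) = ⊤) {B : Set (IrrCharacter G)}
    (hB : IsPBlock M B) : IsPBlock M (domBlock Q B) := by
  classical
  have hMp := isPModular_isPrime hM
  have hidx := index_centralizer_of_sup Q hQ hG
  obtain ⟨hblocks, hex⟩ := blocks_quotient_normal_p hM Q hQ hidx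
  obtain ⟨χb, θ, hθB, hθ⟩ := hex B hB
  refine ⟨χb, ?_⟩
  have hBθ := eq_blockOf_of_mem hMp hB hθB
  ext ψ
  rw [mem_domBlock]
  constructor
  · intro h
    rw [hBθ] at h
    have h1 : SameBlock M (θ : G → ℂ) (inflIrr Q ψ : G → ℂ) := h
    rw [hθ] at h1
    exact (hblocks χb ψ).2 h1
  · intro h
    have h1 : SameBlock M (χb : G ⧸ Q → ℂ) (ψ : G ⧸ Q → ℂ) := h
    have h2 := (hblocks χb ψ).1 h1
    rw [← hθ] at h2
    rw [hBθ]
    exact h2

/-- The defect groups of the dominated block. -/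
theorem isDefectGroup_domBlock (hM : IsPModular p M) (Q : Subgroup G) [Q.Normal]
    (hQ : IsPGroup p Q) (hG : Q ⊔ Subgroup.centralizer (Q : Set G) = ⊤)
    {B : Set (IrrCharacter G)} (hB : IsPBlock M B) {D : Subgroup G}
    (hD : IsDefectGroup p M B D) :
    IsDefectGroup p M (domBlock Q B) (D.map (QuotientGroup.mk' Q)) := by
  classical
  have hMp := isPModular_isPrime hM
  obtain ⟨Bbar, hBbar, hsub, hdef⟩ := exists_dominated_block_defect Q hM hQ hB
  have hdom := isPBlock_domBlock hM Q hQ hG hB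
  have heq : Bbar = domBlock Q B := by
    obtain ⟨χ, hχ⟩ := isPBlock_nonempty hMp hBbar
    have h1 : χ ∈ domBlock Q B := hsub χ hχ (inflIrr Q χ) rfl
    rw [eq_blockOf_of_mem hMp hBbar hχ, eq_blockOf_of_mem hMp hdom h1]
  rw [← heq]
  exact (hdef _).2 ⟨D, hD, rfl⟩

/-- The dominated block has the same rank. -/
theorem blockRank_domBlock (hM : IsPModular p M) (Q : Subgroup G) [Q.Normal]
    (hQ : IsPGroup p Q) (hG : Q ⊔ Subgroup.centralizer (Q : Set G) = ⊤)
    {B : Set (IrrCharacter G)} (hB : IsPBlock M B) :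
    blockRank p B = blockRank p (domBlock Q B) := by
  classical
  have hMp := isPModular_isPrime hM
  have : Fintype (G ⧸ Q) := Fintype.ofFinite _
  have : Fintype (IrrCharacter G) := Fintype.ofFinite _
  have : Fintype (IrrCharacter (G ⧸ Q)) := Fintype.ofFinite _
  have hBbar : IsPBlock M (domBlock Q B) := isPBlock_domBlock hM Q hQ hG hB
  have hmem : ∀ χ : IrrCharacter (G ⧸ Q), χ ∈ domBlock Q B ↔ inflIrr Q χ ∈ B := fun χ => Iff.rfl
  -- the function `Φ`
  set Φ : G ⧸ Q → ℂ := fun q => ∑ χ : IrrCharacter (G ⧸ Q),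
    (if χ ∈ domBlock Q B then (1 : ℂ) else 0) *
      ((χ : G ⧸ Q → ℂ) q * conj ((χ : G ⧸ Q → ℂ) q)) with hΦ
  have hinj : Function.Injective (inflIrr Q) := by
    intro χ ψ h
    apply Subtype.ext
    funext q
    obtain ⟨g, rfl⟩ := QuotientGroup.mk_surjective q
    have := congrArg (fun φ : IrrCharacter G => (φ : G → ℂ) g) h
    exact this
  have hΦeq : ∀ s : G, ∑ χ : IrrCharacter G, (if χ ∈ B then (1 : ℂ) else 0) *
      ((if ∀ n ∈ Q, (χ : G → ℂ) n = (χ : G → ℂ) 1 then (1 : ℂ) else 0) *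
        ((χ : G → ℂ) s * conj ((χ : G → ℂ) s))) = Φ (QuotientGroup.mk s) := by
    intro s
    rw [hΦ]
    beta_reduce
    have h1 : ∑ χ : IrrCharacter (G ⧸ Q),
        (if χ ∈ domBlock Q B then (1 : ℂ) else 0) *
          ((χ : G ⧸ Q → ℂ) (QuotientGroup.mk s) * conj ((χ : G ⧸ Q → ℂ) (QuotientGroup.mk s))) =
        ∑ χ ∈ Finset.univ.image (inflIrr Q), (if χ ∈ B then (1 : ℂ) else 0) *
          ((χ : G → ℂ) s * conj ((χ : G → ℂ) s)) := by
      rw [Finset.sum_image (fun a _ b _ h => hinj h)]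
      refine Finset.sum_congr rfl fun χ _ => ?_
      rw [inflIrr_apply]
      by_cases hχ : χ ∈ domBlock Q B
      · rw [if_pos hχ, if_pos ((hmem χ).1 hχ)]
      · rw [if_neg hχ, if_neg (fun h => hχ ((hmem χ).2 h))]
    rw [h1]
    symm
    rw [← Finset.sum_subset (Finset.subset_univ _)]
    · refine Finset.sum_congr rfl fun χ hχ => ?_
      obtain ⟨χb, -, rfl⟩ := Finset.mem_image.1 hχ
      have hk : ∀ n ∈ Q, (inflIrr Q χb : G → ℂ) n = (inflIrr Q χb : G → ℂ) 1 := by
        intro n hn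
        rw [inflIrr_apply, inflIrr_apply, (QuotientGroup.eq_one_iff n).2 hn, QuotientGroup.mk_one]
      rw [if_pos hk, one_mul]
    · intro χ _ hχ
      have hk : ¬ ∀ n ∈ Q, (χ : G → ℂ) n = (χ : G → ℂ) 1 := by
        intro hk
        apply hχ
        obtain ⟨ψ, hψ, hψχ⟩ := exists_deflation Q χ.2 hk
        rw [Finset.mem_image]
        refine ⟨⟨ψ, hψ⟩, Finset.mem_univ _, ?_⟩
        apply Subtype.ext
        funext g
        exact hψχ g
      rw [if_neg hk, zero_mul, mul_zero]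
  have hcard : (Nat.card G : ℂ) = (Nat.card (G ⧸ Q) : ℂ) * (Nat.card Q : ℂ) := by
    rw [Subgroup.card_eq_card_quotient_mul_card_subgroup Q]
    push_cast
    rfl
  have hQ0 : (Nat.card Q : ℂ) ≠ 0 := Nat.cast_ne_zero.2 Nat.card_pos.ne'
  have hGQ0 : (Nat.card (G ⧸ Q) : ℂ) ≠ 0 := Nat.cast_ne_zero.2 Nat.card_pos.ne'
  have key : (blockRank p B : ℂ) = (blockRank p (domBlock Q B) : ℂ) := by
    rw [blockRank_eq_sum_regular hM hB, blockRank_eq_sum_regular hM hBbar]
    have h2 : ∀ s : G, (if p ∣ orderOf s then (0 : ℂ) else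
        ∑ χ : IrrCharacter G, (if χ ∈ B then (1 : ℂ) else 0) *
          ((χ : G → ℂ) s * conj ((χ : G → ℂ) s))) =
        (Nat.card Q : ℂ) * (if p ∣ orderOf s then 0 else Φ (QuotientGroup.mk s)) := by
      intro s
      by_cases hs : p ∣ orderOf s
      · rw [if_pos hs, if_pos hs, mul_zero]
      · rw [if_neg hs, if_neg hs, sum_block_normSq_eq hM Q hQ hG hB hs, hΦeq]
    rw [Finset.sum_congr rfl (fun s _ => h2 s), ← Finset.mul_sum, sum_regular_mk Q hQ hG Φ,
      hcard]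
    have hgen : ∀ a b S T : ℂ, a ≠ 0 → b ≠ 0 → S = T → (a * b)⁻¹ * (b * S) = a⁻¹ * T := by
      intro a b S T ha hb hST
      subst hST
      field_simp
    exact hgen _ _ _ _ hGQ0 hQ0 rfl
  exact_mod_cast key

end

end Cfsg.Agent.Lib.Helper8.VK
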