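import Mathlib
import Cfsg.Prelude.Def_Blocks
import Cfsg.Prelude.Def_BlockRank
import Cfsg.Agent.Lib.Helper8.D3
import Cfsg.Agent.Lib.Helper8.BlockExtFirstMain
import Cfsg.Agent.Lib.Helper8.BlockNormalP

/-!
# A `2`-block with defect group of order two has rank one
-/

set_option autoImplicit false

namespace Cfsg.Agent.Lib.Helper8.VK

open Cfsg Cfsg.Agent.Lib.Helper8
open scoped ComplexConjugate
open Cfsg.Agent.Lib.Helper1 Cfsg.Agent.Lib.Helper4

universe u

section

variable {G : Type u} [Group G] {p : ℕ} [Fact p.Prime]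

/-- If all members of `B` agree on the `p`-regular elements, `B` has rank one. -/
theorem blockRank_eq_one_of_agree {B : Set (IrrCharacter G)} {χ₀ : IrrCharacter G} (h0 : χ₀ ∈ B)
    (h : ∀ χ ∈ B, ∀ x : G, ¬ p ∣ orderOf x → (χ : G → ℂ) x = (χ₀ : G → ℂ) x) :
    blockRank p B = 1 := by
  classical
  have hp : p.Prime := Fact.out
  unfold blockRank
  have hne : pRegularPart p (χ₀ : G → ℂ) ≠ 0 := by
    intro h1
    have h2 := congrFun h1 1
    rw [pRegularPart_of_not_dvd _ (by rw [orderOf_one]; exact hp.not_dvd_one)] at h2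
    exact irr_apply_one_ne_zero χ₀.2 h2
  have hspan : Submodule.span ℂ ((fun χ : IrrCharacter G => pRegularPart p (χ : G → ℂ)) '' B) =
      Submodule.span ℂ {pRegularPart p (χ₀ : G → ℂ)} := by
    congr 1
    ext f
    constructor
    · rintro ⟨χ, hχ, rfl⟩
      rw [Set.mem_singleton_iff]
      funext g
      show pRegularPart p (χ : G → ℂ) g = pRegularPart p (χ₀ : G → ℂ) g
      by_cases hg : p ∣ orderOf g
      · rw [pRegularPart_of_dvd _ hg, pRegularPart_of_dvd _ hg]
      · rw [pRegularPart_of_not_dvd _ hg, pRegularPart_of_not_dvd _ hg, h χ hχ g hg]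
    · intro hf
      rw [Set.mem_singleton_iff] at hf
      exact ⟨χ₀, h0, hf.symm⟩
  rw [hspan]
  exact finrank_span_singleton hne

end

section

variable {G : Type u} [Group G] [Fintype G] {M : Ideal AlgInt}

/-- **A `2`-block with defect groups of order two has rank one.** -/
theorem blockRank_eq_one_of_card_defect_two (hM : IsPModular 2 M) {B : Set (IrrCharacter G)}
    (hB : IsPBlock M B) {D : Subgroup G} (hD : IsDefectGroup 2 M B D) (hcard : Nat.card D = 2) :
    blockRank 2 B = 1 := by
  classical
  have : Fact (Nat.Prime 2) := ⟨Nat.prime_two⟩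
  have hMp := isPModular_isPrime hM
  -- a generator
  obtain ⟨u, huD, hu1⟩ : ∃ u ∈ D, u ≠ 1 := by
    by_contra hcon
    push Not at hcon
    have : D = ⊥ := (Subgroup.eq_bot_iff_forall D).2 hcon
    rw [this, Subgroup.card_bot] at hcard
    omega
  have hord : orderOf u = 2 := by
    have h1 : orderOf (⟨u, huD⟩ : D) ∣ 2 := hcard ▸ orderOf_dvd_natCard _
    have h2 : orderOf (⟨u, huD⟩ : D) = orderOf u := Subgroup.orderOf_mk u huD
    rw [h2] at h1
    rcases (Nat.dvd_prime Nat.prime_two).1 h1 with h | h
    · exact absurd (orderOf_eq_one_iff.1 h) hu1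
    · exact h
  have hDz : Subgroup.zpowers u = D := by
    apply Subgroup.eq_of_le_of_card_ge ((Subgroup.zpowers_le).2 huD)
    rw [Nat.card_zpowers, hord, hcard]
  rw [← hDz] at hD
  -- the block of the centralizer
  have hcent : Subgroup.centralizer ((Subgroup.zpowers u : Subgroup G) : Set G) =
      Subgroup.centralizer ({u} : Set G) := by
    rw [Subgroup.zpowers_eq_closure, Subgroup.centralizer_closure]
  have hCH : Subgroup.centralizer ((Subgroup.zpowers u : Subgroup G) : Set G) ≤
      Subgroup.centralizer ({u} : Set G) := hcent.le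
  have hHN : Subgroup.centralizer ({u} : Set G) ≤
      Subgroup.normalizer ((Subgroup.zpowers u : Subgroup G) : Set G) := by
    rw [← hcent]
    exact Subgroup.centralizer_le_normalizer _
  obtain ⟨b, hbD, hind⟩ := extFirstMain_exists hM hB hD (Subgroup.centralizer ({u} : Set G))
    (zpowers_le_centralizer_singleton u) hCH hHN
  have hb := hind.1
  have hnorm : ((Subgroup.zpowers u).subgroupOf (Subgroup.centralizer ({u} : Set G))).Normal := by
    constructor
    intro v hv c
    rw [Subgroup.mem_subgroupOf] at hv ⊢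
    have hc : (c : G) * u = u * (c : G) := Subgroup.mem_centralizer_singleton_iff.1 c.2
    rcases mem_zpowers_of_orderOf_two hord hv with h | h
    · have : ((c * v * c⁻¹ : ↥(Subgroup.centralizer ({u} : Set G))) : G) = 1 := by
        push_cast
        rw [h]
        group
      rw [this]
      exact Subgroup.one_mem _
    · have : ((c * v * c⁻¹ : ↥(Subgroup.centralizer ({u} : Set G))) : G) = u := by
        push_cast
        rw [h, hc]
        group
      rw [this]
      exact Subgroup.mem_zpowers u
  have hPz : IsPGroup 2 (Subgroup.zpowers u) := isPGroup_of_isDefectGroup hD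
  obtain ⟨θ, hθ, hker⟩ := exists_mem_block_ker hM
    ((Subgroup.zpowers u).subgroupOf (Subgroup.centralizer ({u} : Set G))) hPz.comap_subtype hb
  have hθx : ∀ z : ↥(Subgroup.centralizer ({u} : Set G)), (z : G) = u →
      (θ : ↥(Subgroup.centralizer ({u} : Set G)) → ℂ) z =
        (θ : ↥(Subgroup.centralizer ({u} : Set G)) → ℂ) 1 := by
    intro z hz
    apply hker
    rw [Subgroup.mem_subgroupOf, hz]
    exact Subgroup.mem_zpowers u
  obtain ⟨-, hagree, -⟩ := defect_one_two_block hM hord hB hD hind hθ hθx
  obtain ⟨χ₀, hχ₀⟩ := isPBlock_nonempty hMp hB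
  exact blockRank_eq_one_of_agree hχ₀ (fun χ hχ x hx => hagree χ hχ χ₀ hχ₀ x hx)

end

end Cfsg.Agent.Lib.Helper8.VK
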