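import Mathlib
import Cfsg.Prelude.Def_Blocks
import Cfsg.Prelude.Def_BlockRank
import Cfsg.Agent.Lib.Helper8.VK3
import Cfsg.Agent.Lib.Helper8.VK4
import Cfsg.Agent.Lib.Helper8.PairConj3
import Cfsg.Agent.S4669
import Cfsg.Agent.S0917
import Cfsg.Agent.S0912

/-!
# Subsections of a `2`-block with Klein four defect groups have rank one
-/

set_option autoImplicit false
set_option maxHeartbeats 1600000

namespace Cfsg.Agent.Lib.Helper8.VK

open Cfsg Cfsg.Agent.Lib.Helper8
open scoped ComplexConjugate
open Cfsg.Agent.Lib.Helper1 Cfsg.Agent.Lib.Helper4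

universe u

section

variable {G : Type u} [Group G] [Fintype G] {M : Ideal AlgInt}

/-- **Nontrivial subsections of a block with Klein four defect groups**: the element is an
involution conjugate into the defect group, the block of its centralizer has rank one and defect
at most two. -/
theorem subsection_rank_one (hM : IsPModular 2 M) {B : Set (IrrCharacter G)} (hB : IsPBlock M B)
    {P : Subgroup G} (hPD : IsDefectGroup 2 M B P) (hcard : Nat.card P = 4)
    (hexp : ∀ g ∈ P, g * g = 1) {x : G} (hx1 : x ≠ 1) (hx : ∃ k : ℕ, orderOf x = 2 ^ k)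
    (C : Subgroup G) (hC : ∀ t, t ∈ C ↔ t * x = x * t) {b : Set (IrrCharacter C)}
    (hind : IsInducedBlock M C b B) :
    orderOf x = 2 ∧ (∃ g : G, g * x * g⁻¹ ∈ P) ∧ blockRank 2 b = 1 ∧ blockDefect 2 b ≤ 2 := by
  classical
  have : Fact (Nat.Prime 2) := ⟨Nat.prime_two⟩
  have : Fintype C := Fintype.ofFinite _
  have hMp := isPModular_isPrime hM
  have hb := hind.1
  obtain ⟨D, hD⟩ := exists_isDefectGroup (p := 2) hMp hb
  have hxC : x ∈ C := (hC x).2 rfl
  set x' : C := ⟨x, hxC⟩ with hx'
  have hzc : ∀ c : C, x' * c = c * x' := by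
    intro c
    apply Subtype.ext
    exact ((hC c).1 c.2).symm
  have hG := zpowers_sup_centralizer_of_central hzc
  have hnorm : (Subgroup.zpowers x').Normal := normal_of_sup_centralizer hG
  have hordx' : orderOf x' = orderOf x := Subgroup.orderOf_mk x hxC
  have hQ : IsPGroup 2 (Subgroup.zpowers x') := by
    obtain ⟨k, hk⟩ := hx
    apply IsPGroup.of_card (n := k)
    rw [Nat.card_zpowers, hordx', hk]
  have hQD : Subgroup.zpowers x' ≤ D := by
    have h1 : Subgroup.zpowers x' ≤ pCore 2 C := le_sSup ⟨hnorm, hQ⟩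
    exact h1.trans (Cfsg.Agent.S0912.result 2 M hM b hb D hD)
  have hx'D : x' ∈ D := hQD (Subgroup.mem_zpowers x')
  obtain ⟨E, hE, hDE⟩ := Cfsg.Agent.S0917.result 2 M hM C b hb B hB hind D hD
  obtain ⟨g, hg⟩ := exists_conj_eq_of_isDefectGroup hM hB hPD hE
  have hxE : x ∈ E := hDE ⟨x', hx'D, rfl⟩
  have hgx : g * x * g⁻¹ ∈ P := by
    rw [← hg]
    exact ⟨x, hxE, rfl⟩
  have hxx : x * x = 1 := by
    have h1 := hexp _ hgx
    have h2 : x * x = g⁻¹ * ((g * x * g⁻¹) * (g * x * g⁻¹)) * g := by group
    rw [h2, h1]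
    group
  have hord : orderOf x = 2 := orderOf_eq_prime (by rw [pow_two]; exact hxx) hx1
  have hcardE : Nat.card E = 4 := by
    rw [card_of_isDefectGroup hM hB hE, ← card_of_isDefectGroup hM hB hPD, hcard]
  have hcardD4 : Nat.card D ∣ 4 := by
    rw [← hcardE, ← Subgroup.card_map_of_injective (Subgroup.subtype_injective C)]
    exact Subgroup.card_dvd_of_le hDE
  have hcardD := card_of_isDefectGroup hM hb hD
  have h2D : 2 ∣ Nat.card D := by
    have h1 : orderOf (⟨x', hx'D⟩ : D) ∣ Nat.card D := orderOf_dvd_natCard _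
    rw [Subgroup.orderOf_mk, hordx', hord] at h1
    exact h1
  have hcardQ : Nat.card (Subgroup.zpowers x') = 2 := by
    rw [Nat.card_zpowers, hordx', hord]
  -- the possible defects
  have hd : blockDefect 2 b = 1 ∨ blockDefect 2 b = 2 := by
    rw [hcardD] at hcardD4 h2D
    have h4 : (4 : ℕ) = 2 ^ 2 := by norm_num
    rw [h4] at hcardD4
    have h1 : blockDefect 2 b ≤ 2 := (Nat.pow_dvd_pow_iff_le_right (by norm_num)).1 hcardD4
    have h0 : blockDefect 2 b ≠ 0 := by
      intro h0
      rw [h0, pow_zero] at h2D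
      omega
    omega
  refine ⟨hord, ⟨g, hgx⟩, ?_, by omega⟩
  rcases hd with hd | hd
  · -- the defect group is central
    have hDQ : Subgroup.zpowers x' = D := by
      apply Subgroup.eq_of_le_of_card_ge hQD
      rw [hcardQ, hcardD, hd, pow_one]
    have hPZ : D ≤ Subgroup.center C := by
      rw [← hDQ, Subgroup.zpowers_le, Subgroup.mem_center_iff]
      intro c
      exact (hzc c).symm
    exact Cfsg.Agent.S4669.result 2 M hM b hb D hD hPZ
  · -- domination
    have : Fintype (C ⧸ Subgroup.zpowers x') := Fintype.ofFinite _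
    rw [blockRank_domBlock hM (Subgroup.zpowers x') hQ hG hb]
    have hdom := isPBlock_domBlock hM (Subgroup.zpowers x') hQ hG hb
    have hdomD := isDefectGroup_domBlock hM (Subgroup.zpowers x') hQ hG hb hD
    apply blockRank_eq_one_of_card_defect_two hM hdom hdomD
    have h1 := card_comap_mk (Subgroup.zpowers x') (D.map (QuotientGroup.mk' (Subgroup.zpowers x')))
    rw [Subgroup.comap_map_eq, QuotientGroup.ker_mk', sup_eq_left.2 hQD, hcardD, hd, hcardQ] at h1
    omega

end

end Cfsg.Agent.Lib.Helper8.VK
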