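import Mathlib
import Cfsg.Prelude.Def_Blocks
import Cfsg.Prelude.Def_BlockRank
import Cfsg.Agent.Lib.Helper8.KB8

/-!
# Rank one subsections at an involution: only four height zero characters contribute
-/

set_option autoImplicit false
set_option maxHeartbeats 1600000

namespace Cfsg.Agent.Lib.Helper8.VK

open Cfsg Cfsg.Agent.Lib.Helper8
open scoped ComplexConjugate
open Cfsg.Agent.Lib.Helper1 Cfsg.Agent.Lib.Helper4

universe u

section

variable {G : Type u} [Group G] [Fintype G] {M : Ideal AlgInt}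

/-- Each pair of height zero characters contributes at least `1/16` at a rank one subsection of
defect at most two at an involution. -/
theorem one_le_normSq_contrib (hM : IsPModular 2 M) {B : Set (IrrCharacter G)}
    (C : Subgroup G) [Fintype C] {u : G}
    (hC : ∀ t, t ∈ C ↔ t * u = u * t) (hu : orderOf u = 2)
    {b : Set (IrrCharacter C)} (hind : IsInducedBlock M C b B) (hq : blockDefect 2 b ≤ 2)
    {ζ ξ : IrrCharacter G} (hζ : ζ ∈ B) (hξ : ξ ∈ B)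
    (h0ζ : blockHeight 2 B (ζ : G → ℂ) = 0) (h0ξ : blockHeight 2 B (ξ : G → ℂ) = 0) :
    (1 : ℝ) ≤ 16 * Complex.normSq (contrib 2 C b u (ζ : G → ℂ) (ξ : G → ℂ)) := by
  classical
  have : Fact (Nat.Prime 2) := ⟨Nat.prime_two⟩
  have hMp := isPModular_isPrime hM
  have hb := hind.1
  have hu' : ∃ k : ℕ, orderOf u = 2 ^ k := ⟨1, by rw [hu, pow_one]⟩
  obtain ⟨N, hN⟩ : ∃ N, N = Nat.card G := ⟨_, rfl⟩
  have hN0 : NeZero N := ⟨hN ▸ Nat.card_pos.ne'⟩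
  let K := CyclotomicField N ℚ
  have hcyc : IsCyclotomicExtension {N} ℚ K :=
    CyclotomicField.instIsCyclotomicExtensionSingletonNatSetOfCharZero N ℚ
  let ι : K →+* ℂ := ((IsAlgClosed.lift : K →ₐ[ℚ] ℂ) : K →+* ℂ)
  have hfd : FiniteDimensional ℚ K := IsCyclotomicExtension.finiteDimensional {N} ℚ K
  have hk : ∀ σ : K ≃ₐ[ℚ] K, ∃ k : ℕ, k.Coprime N ∧ ∀ z : K, z ^ N = 1 → σ z = z ^ k :=
    fun σ => aut_pow N σ
  choose k hk1 hk2 using hk
  have hfin : Finite (K ≃ₐ[ℚ] K) := inferInstance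
  have : Fintype (K ≃ₐ[ℚ] K) := Fintype.ofFinite _
  have hn : ∀ g : G, g ^ N = 1 := fun g => hN ▸ pow_card_eq_one'
  have hcop : ∀ σ, (Nat.card G).Coprime (k σ) := fun σ => (hN ▸ hk1 σ).symm
  set q := blockDefect 2 b with hqdef
  have hcardpos : (0 : ℝ) < Fintype.card (K ≃ₐ[ℚ] K) := by
    exact_mod_cast Fintype.card_pos
  -- the powers of `u` are `u`
  have hupow : ∀ σ, u ^ k σ = u := by
    intro σ
    have h2 : 2 ∣ Nat.card G := hu ▸ orderOf_dvd_natCard u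
    have hodd : ¬ 2 ∣ k σ := by
      intro h
      have := Nat.dvd_gcd h2 h
      rw [(hcop σ)] at this
      omega
    have hmod : k σ % 2 = 1 := by omega
    rw [← pow_mod_orderOf, hu, hmod, pow_one]
  have hζc := isCharacter_of_irr ζ.2
  have hξc := isCharacter_of_irr ξ.2
  have htr : Tracked ι (fun σ => ((2 ^ q : ℕ) : ℂ) *
      contrib 2 C b (u ^ k σ) (ζ : G → ℂ) (ξ : G → ℂ)) :=
    (tracked_natCast _).mul (tracked_contrib N ι k hk2 hn hcop 2 C hC b hζc hξc)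
  have hint : IsIntegral ℤ (((2 ^ q : ℕ) : ℂ) *
      contrib 2 C b (u ^ k 1) (ζ : G → ℂ) (ξ : G → ℂ)) := by
    rw [hupow]
    have := isIntegral_pow_mul_contrib hM C hC hb hζc hξc
    push_cast
    exact this
  have hne : ((2 ^ q : ℕ) : ℂ) * contrib 2 C b (u ^ k 1) (ζ : G → ℂ) (ξ : G → ℂ) ≠ 0 := by
    intro h0
    rw [hupow] at h0
    have := not_memLocalIdeal_pow_mul_contrib hM C hC hu' hind hζ hξ h0ζ h0ξ
    apply this
    have e : ((2 : ℕ) : ℂ) ^ blockDefect 2 b * contrib 2 C b u (ζ : G → ℂ) (ξ : G → ℂ) = 0 := by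
      rw [← hqdef]
      push_cast at h0 ⊢
      exact h0
    rw [e]
    exact memLocalIdeal_zero hMp.ne_top
  have h1 := card_le_sum_normSq_of_tracked N ι htr hint hne
  have h2 : ∀ σ : K ≃ₐ[ℚ] K, Complex.normSq (((2 ^ q : ℕ) : ℂ) *
      contrib 2 C b (u ^ k σ) (ζ : G → ℂ) (ξ : G → ℂ)) =
      (2 : ℝ) ^ (2 * q) * Complex.normSq (contrib 2 C b u (ζ : G → ℂ) (ξ : G → ℂ)) := by
    intro σ
    rw [hupow, Complex.normSq_mul, Complex.normSq_natCast]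
    push_cast
    ring
  rw [Finset.sum_congr rfl (fun σ _ => h2 σ), Finset.sum_const, Finset.card_univ,
    nsmul_eq_mul] at h1
  have h3 : (1 : ℝ) ≤ (2 : ℝ) ^ (2 * q) *
      Complex.normSq (contrib 2 C b u (ζ : G → ℂ) (ξ : G → ℂ)) := by
    have h4 : (Fintype.card (K ≃ₐ[ℚ] K) : ℝ) * 1 ≤ (Fintype.card (K ≃ₐ[ℚ] K) : ℝ) *
        ((2 : ℝ) ^ (2 * q) * Complex.normSq (contrib 2 C b u (ζ : G → ℂ) (ξ : G → ℂ))) := by
      rw [mul_one]
      exact h1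
    exact le_of_mul_le_mul_left h4 hcardpos
  have h5 : (2 : ℝ) ^ (2 * q) ≤ 16 := by
    have h6 : (2 : ℝ) ^ (2 * q) ≤ (2 : ℝ) ^ 4 :=
      pow_le_pow_right₀ (by norm_num) (by omega)
    norm_num at h6
    exact h6
  calc (1 : ℝ) ≤ (2 : ℝ) ^ (2 * q) *
      Complex.normSq (contrib 2 C b u (ζ : G → ℂ) (ξ : G → ℂ)) := h3
    _ ≤ 16 * Complex.normSq (contrib 2 C b u (ζ : G → ℂ) (ξ : G → ℂ)) :=
      mul_le_mul_of_nonneg_right h5 (Complex.normSq_nonneg _)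

/-- **Only the height zero characters contribute**: for a rank one subsection of defect at most two
at an involution and a set of at least four height zero characters, there are exactly four of them
and the contributions of all other characters vanish. -/
theorem secPart_eq_zero_of_not_mem (hM : IsPModular 2 M) {B : Set (IrrCharacter G)}
    (C : Subgroup G) [Fintype C] {u : G}
    (hC : ∀ t, t ∈ C ↔ t * u = u * t) (hu : orderOf u = 2)
    {b : Set (IrrCharacter C)} (hind : IsInducedBlock M C b B) (hq : blockDefect 2 b ≤ 2)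
    (hl : blockRank 2 b = 1) [Fintype (IrrCharacter G)] (S : Finset (IrrCharacter G))
    (hS : ∀ ζ ∈ S, ζ ∈ B ∧ blockHeight 2 B (ζ : G → ℂ) = 0) (hS4 : 4 ≤ S.card) :
    S.card = 4 ∧ ∀ ξ : IrrCharacter G, ξ ∉ S → ∀ c : C, secPart 2 C b u (ξ : G → ℂ) c = 0 := by
  classical
  have : Fact (Nat.Prime 2) := ⟨Nat.prime_two⟩
  have hb := hind.1
  have hu' : ∃ k : ℕ, orderOf u = 2 ^ k := ⟨1, by rw [hu, pow_one]⟩
  set t : IrrCharacter G → IrrCharacter G → ℝ := fun ζ ξ =>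
    Complex.normSq (contrib 2 C b u (ζ : G → ℂ) (ξ : G → ℂ)) with ht
  have htnn : ∀ ζ ξ, 0 ≤ t ζ ξ := fun ζ ξ => Complex.normSq_nonneg _
  have htot : ∑ ζ : IrrCharacter G, ∑ ξ : IrrCharacter G, t ζ ξ = 1 := by
    have := sum_sum_normSq_contrib hM C hC hu' hb
    rw [hl] at this
    simpa using this
  have hpair : ∀ ζ ∈ S, ∀ ξ ∈ S, (1 : ℝ) ≤ 16 * t ζ ξ := fun ζ hζ ξ hξ =>
    one_le_normSq_contrib hM C hC hu hind hq (hS ζ hζ).1 (hS ξ hξ).1 (hS ζ hζ).2 (hS ξ hξ).2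
  have hSS : (S.card : ℝ) ^ 2 ≤ 16 * ∑ ζ ∈ S, ∑ ξ ∈ S, t ζ ξ := by
    have h1 : ∑ ζ ∈ S, ∑ ξ ∈ S, (1 : ℝ) ≤ ∑ ζ ∈ S, ∑ ξ ∈ S, 16 * t ζ ξ :=
      Finset.sum_le_sum fun ζ hζ => Finset.sum_le_sum fun ξ hξ => hpair ζ hζ ξ hξ
    have h2 : ∑ ζ ∈ S, ∑ ξ ∈ S, (1 : ℝ) = (S.card : ℝ) ^ 2 := by
      simp only [Finset.sum_const, nsmul_eq_mul, mul_one]
      ring
    have h3 : ∑ ζ ∈ S, ∑ ξ ∈ S, 16 * t ζ ξ = 16 * ∑ ζ ∈ S, ∑ ξ ∈ S, t ζ ξ := by
      simp only [Finset.mul_sum]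
    rw [h2, h3] at h1
    exact h1
  have hSle : ∑ ζ ∈ S, ∑ ξ ∈ S, t ζ ξ ≤ ∑ ζ ∈ S, ∑ ξ : IrrCharacter G, t ζ ξ :=
    Finset.sum_le_sum fun ζ _ => Finset.sum_le_sum_of_subset_of_nonneg (Finset.subset_univ S)
      (fun ξ _ _ => htnn ζ ξ)
  have hsplit : ∑ ζ : IrrCharacter G, ∑ ξ : IrrCharacter G, t ζ ξ =
      ∑ ζ ∈ S, ∑ ξ : IrrCharacter G, t ζ ξ + ∑ ζ ∈ Sᶜ, ∑ ξ : IrrCharacter G, t ζ ξ := by
    rw [← Finset.sum_add_sum_compl S]
  have hcompl_nn : 0 ≤ ∑ ζ ∈ Sᶜ, ∑ ξ : IrrCharacter G, t ζ ξ :=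
    Finset.sum_nonneg fun ζ _ => Finset.sum_nonneg fun ξ _ => htnn ζ ξ
  have hS4' : (4 : ℝ) ≤ S.card := by exact_mod_cast hS4
  have hsq : (16 : ℝ) ≤ (S.card : ℝ) ^ 2 := by nlinarith
  have hcompl0 : ∑ ζ ∈ Sᶜ, ∑ ξ : IrrCharacter G, t ζ ξ ≤ 0 := by
    nlinarith
  constructor
  · have h1 : (S.card : ℝ) ^ 2 ≤ 16 := by nlinarith
    have h2 : (S.card : ℝ) ≤ 4 := by nlinarith
    have h3 : S.card ≤ 4 := by exact_mod_cast h2
    omega
  · intro ξ hξ c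
    have hξc : ξ ∈ Sᶜ := Finset.mem_compl.2 hξ
    have h1 : ∑ ξ' : IrrCharacter G, t ξ ξ' ≤ ∑ ζ ∈ Sᶜ, ∑ ξ' : IrrCharacter G, t ζ ξ' :=
      Finset.single_le_sum (f := fun ζ => ∑ ξ' : IrrCharacter G, t ζ ξ')
        (fun ζ _ => Finset.sum_nonneg fun ξ' _ => htnn ζ ξ') hξc
    have h2 : ∑ ξ' : IrrCharacter G, t ξ ξ' = 0 :=
      le_antisymm (h1.trans hcompl0) (Finset.sum_nonneg fun ξ' _ => htnn ξ ξ')
    have h3 := sum_normSq_contrib (p := 2) Nat.prime_two C hC hu' b (ξ : G → ℂ)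
    rw [ht] at h2
    beta_reduce at h2
    rw [h2] at h3
    have hC0 : (Nat.card C : ℝ)⁻¹ ≠ 0 := inv_ne_zero (Nat.cast_ne_zero.2 Nat.card_pos.ne')
    have h4 : ∑ c : C, Complex.normSq (secPart 2 C b u (ξ : G → ℂ) c) = 0 := by
      rcases mul_eq_zero.1 h3.symm with h | h
      · exact absurd h hC0
      · exact h
    have h5 := (Finset.sum_eq_zero_iff_of_nonneg (fun c _ => Complex.normSq_nonneg _)).1 h4 c
      (Finset.mem_univ c)
    exact Complex.normSq_eq_zero.1 h5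

end

end Cfsg.Agent.Lib.Helper8.VK
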