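import Mathlib
import Cfsg.Prelude.Def_Blocks
import Cfsg.Prelude.Def_BlockRank
import Cfsg.Agent.Lib.Helper8.BF10

/-!
# Brauer–Feit: blocks containing characters of positive height
-/

set_option autoImplicit false

namespace Cfsg.Agent.Lib.Helper8

open Cfsg
open scoped ComplexConjugate
open Cfsg.Agent.Lib.Helper1 Cfsg.Agent.Lib.Helper4

universe u

section

variable {G : Type u} [Group G] [Fintype G] {M : Ideal AlgInt} {p : ℕ}

/-- The number of characters of height zero, when there is a character of positive height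
`h₁`: `4 k₀ p ^ (2 h₁) ≤ p ^ (2 d)`. -/
theorem four_mul_card_height_zero_le (hM : IsPModular p M) {B : Set (IrrCharacter G)}
    (hB : IsPBlock M B) {χ₁ : IrrCharacter G} (hχ₁ : χ₁ ∈ B)
    (h1 : 0 < blockHeight p B (χ₁ : G → ℂ)) :
    4 * (((Set.toFinite B).toFinset.filter
      (fun χ : IrrCharacter G => blockHeight p B (χ : G → ℂ) = 0)).card) *
        p ^ (2 * blockHeight p B (χ₁ : G → ℂ)) ≤ p ^ (2 * blockDefect p B) := by
  classical
  have hp := hM.1
  obtain ⟨N, hN, hquad⟩ := exists_row hM hB hχ₁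
  set Bf := (Set.toFinite B).toFinset with hBf
  have hmemBf : ∀ χ, χ ∈ Bf ↔ χ ∈ B := fun χ => Set.Finite.mem_toFinset _
  set B₀ := Bf.filter (fun χ : IrrCharacter G => blockHeight p B (χ : G → ℂ) = 0) with hB₀
  set d := blockDefect p B with hd
  set h₁ := blockHeight p B (χ₁ : G → ℂ) with hh₁
  -- lower bounds for the height zero entries
  have hlow : ∀ ψ ∈ B₀, (p : ℤ) ^ (2 * h₁) ≤ N ψ ^ 2 := by
    intro ψ hψ
    rw [hB₀, Finset.mem_filter] at hψ
    have hψB : ψ ∈ B := (hmemBf ψ).1 hψ.1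
    obtain ⟨N', hN', hne, hdvd⟩ := exists_int_contrib hM hB hψB hψ.2 hχ₁
    have heq : N ψ = N' := by
      have : ((N ψ : ℤ) : ℂ) = ((N' : ℤ) : ℂ) := by
        rw [(hN ψ hψB).1, hN', mreg_symm (isCharacter_of_irr ψ.2) (isCharacter_of_irr χ₁.2)]
      exact_mod_cast this
    rw [heq]
    have h2 : (p : ℤ) ^ h₁ ≤ |N'| := by
      apply Int.le_of_dvd (abs_pos.2 hne)
      exact (dvd_abs _ _).2 hdvd
    have h3 : (0 : ℤ) ≤ (p : ℤ) ^ h₁ := by positivity
    calc (p : ℤ) ^ (2 * h₁) = ((p : ℤ) ^ h₁) ^ 2 := by rw [← pow_mul, mul_comm]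
      _ ≤ |N'| ^ 2 := by gcongr
      _ = N' ^ 2 := sq_abs _
  -- the sum over `B₀` and `χ₁`
  have hχ₁f : χ₁ ∈ Bf := (hmemBf χ₁).2 hχ₁
  have hχ₁0 : χ₁ ∉ B₀ := by
    rw [hB₀, Finset.mem_filter]
    intro h
    omega
  have hsub : insert χ₁ B₀ ⊆ Bf := by
    intro ψ hψ
    rw [Finset.mem_insert] at hψ
    rcases hψ with rfl | hψ
    · exact hχ₁f
    · exact (Finset.mem_filter.1 hψ).1
  have h4 : ∑ ψ ∈ insert χ₁ B₀, N ψ ^ 2 ≤ ∑ ψ ∈ Bf, N ψ ^ 2 :=
    Finset.sum_le_sum_of_subset_of_nonneg hsub (fun ψ _ _ => sq_nonneg _)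
  rw [Finset.sum_insert hχ₁0, hquad] at h4
  have h5 : (B₀.card : ℤ) * (p : ℤ) ^ (2 * h₁) ≤ ∑ ψ ∈ B₀, N ψ ^ 2 := by
    have := Finset.sum_le_sum hlow
    rw [Finset.sum_const, nsmul_eq_mul] at this
    exact this
  have h6 : 4 * ((B₀.card : ℤ) * (p : ℤ) ^ (2 * h₁)) ≤ (p : ℤ) ^ (2 * d) := by
    have : (p : ℤ) ^ (2 * d) = ((p : ℤ) ^ d) ^ 2 := by rw [← pow_mul, mul_comm]
    rw [this]
    nlinarith [sq_nonneg ((p : ℤ) ^ d - 2 * N χ₁)]
  have h7 : ((4 * B₀.card * p ^ (2 * h₁) : ℕ) : ℤ) ≤ ((p ^ (2 * d) : ℕ) : ℤ) := by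
    push_cast
    linarith
  exact_mod_cast h7

/-- **Brauer–Feit**: a block containing a character of positive height has at most
`p ^ (2 d - 2) / 2` characters. -/
theorem two_mul_card_le_of_pos_height (hM : IsPModular p M) {B : Set (IrrCharacter G)}
    (hB : IsPBlock M B) (hex : ∃ χ ∈ B, 0 < blockHeight p B (χ : G → ℂ)) :
    2 * Nat.card B ≤ p ^ (2 * blockDefect p B - 2) := by
  classical
  have hMp := isPModular_isPrime hM
  have hp := hM.1
  obtain ⟨χ₁, hχ₁, h1⟩ := hex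
  have hd2 := height_add_two_le hM hB hχ₁ h1
  have h2 := four_mul_card_height_zero_le hM hB hχ₁ h1
  have h3 := sum_pow_height_le hM hB
  set Bf := (Set.toFinite B).toFinset with hBf
  have hmemBf : ∀ χ, χ ∈ Bf ↔ χ ∈ B := fun χ => Set.Finite.mem_toFinset _
  set B₀ := Bf.filter (fun χ : IrrCharacter G => blockHeight p B (χ : G → ℂ) = 0) with hB₀
  set B₁ := Bf.filter (fun χ : IrrCharacter G => ¬ blockHeight p B (χ : G → ℂ) = 0) with hB₁
  set d := blockDefect p B with hd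
  set h₁ := blockHeight p B (χ₁ : G → ℂ) with hh₁
  have hcard : Nat.card B = B₀.card + B₁.card := by
    rw [Nat.card_eq_card_finite_toFinset (Set.toFinite B), hB₀, hB₁,
      Finset.card_filter_add_card_filter_not]
  -- a character of height zero exists
  obtain ⟨χ₀, hχ₀, h0⟩ := exists_height_zero (p := p) hMp hB
  have hK₀ : 1 ≤ B₀.card := by
    apply Finset.card_pos.2
    exact ⟨χ₀, Finset.mem_filter.2 ⟨(hmemBf χ₀).2 hχ₀, h0⟩⟩
  -- the sum of `p ^ (2 h)`
  rw [finsum_mem_eq_finite_toFinset_sum _ (Set.toFinite B)] at h3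
  have h4 : B₀.card + p ^ 2 * B₁.card ≤ ∑ χ ∈ Bf, p ^ (2 * blockHeight p B (χ : G → ℂ)) := by
    rw [← Finset.sum_filter_add_sum_filter_not Bf
      (fun χ : IrrCharacter G => blockHeight p B (χ : G → ℂ) = 0)]
    apply add_le_add
    · rw [Finset.card_eq_sum_ones]
      apply Finset.sum_le_sum
      intro χ _
      exact Nat.one_le_pow _ _ hp.pos
    · rw [mul_comm, ← smul_eq_mul, ← Finset.sum_const]
      apply Finset.sum_le_sum
      intro χ hχ
      have hpos : 1 ≤ blockHeight p B (χ : G → ℂ) :=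
        Nat.one_le_iff_ne_zero.2 (Finset.mem_filter.1 hχ).2
      exact Nat.pow_le_pow_right hp.pos (by omega)
  -- arithmetic
  set q := p ^ 2 with hq
  set P2 := p ^ (2 * d - 2) with hP2
  have hqP : p ^ (2 * d) = q * P2 := by
    rw [hq, hP2, ← pow_add]
    congr 1
    omega
  have hqpos : 0 < q := pow_pos hp.pos 2
  have hpow : q ≤ p ^ (2 * h₁) := Nat.pow_le_pow_right hp.pos (by omega)
  have h5 : 4 * B₀.card * q ≤ q * P2 := by
    rw [← hqP]
    exact (Nat.mul_le_mul_left _ hpow).trans h2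
  have h6 : 4 * B₀.card ≤ P2 := by
    have : q * (4 * B₀.card) ≤ q * P2 := by rw [mul_comm]; exact h5
    exact Nat.le_of_mul_le_mul_left this hqpos
  have h7 : 4 * (B₀.card + q * B₁.card) ≤ q * P2 + 4 := by
    have h8 := Nat.div_mul_le_self (p ^ (2 * d)) 4
    rw [hqP] at h8 h3
    have := h4.trans h3
    omega
  have h9 : q * (4 * B₁.card) ≤ q * P2 := by
    have : 4 * (q * B₁.card) = q * (4 * B₁.card) := by ring
    omega
  have h10 : 4 * B₁.card ≤ P2 := Nat.le_of_mul_le_mul_left h9 hqpos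
  rw [hcard]
  omega

end

end Cfsg.Agent.Lib.Helper8
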