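import Mathlib
import Cfsg.Prelude.Def_Blocks
import Cfsg.Prelude.Def_BlockRank
import Cfsg.Agent.Lib.Helper8.BF11
import Cfsg.Agent.Lib.Helper8.TildeBlock2
import Cfsg.Agent.Lib.Helper8.BlockOrth2

/-!
# The `p`-part of the sum of squares of the degrees in a block (Brauer)
-/

set_option autoImplicit false

namespace Cfsg.Agent.Lib.Helper8.DS

open Cfsg
open scoped ComplexConjugate
open Cfsg.Agent.Lib.Helper1 Cfsg.Agent.Lib.Helper4 Cfsg.Agent.Lib.Helper8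

universe u

/-- Arithmetic core. -/
theorem arith_core (p d : ℕ) (hp : p.Prime) (u₀ N₀ T W : ℤ) (hu : ¬ (p : ℤ) ∣ u₀)
    (hN : ¬ (p : ℤ) ∣ N₀) (hW : (p : ℤ) ^ d ∣ W)
    (h : u₀ ^ 2 * (p : ℤ) ^ d = N₀ * T + p * W) :
    (p : ℤ) ^ d ∣ T ∧ ¬ (p : ℤ) ^ (d + 1) ∣ T := by
  have hpp : Prime (p : ℤ) := Nat.prime_iff_prime_int.mp hp
  constructor
  · apply hpp.pow_dvd_of_dvd_mul_left d hN
    have h1 : N₀ * T = u₀ ^ 2 * (p : ℤ) ^ d - p * W := by rw [h]; ring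
    rw [h1]
    exact dvd_sub (Dvd.intro_left _ rfl) (Dvd.dvd.mul_left hW _)
  · intro hT
    have h1 : (p : ℤ) ^ (d + 1) ∣ u₀ ^ 2 * (p : ℤ) ^ d := by
      rw [h]
      apply dvd_add (Dvd.dvd.mul_left hT _)
      rw [pow_succ, mul_comm ((p : ℤ) ^ d) (p : ℤ)]
      exact mul_dvd_mul_left _ hW
    rw [pow_succ, mul_comm ((p : ℤ) ^ d) (p : ℤ), mul_comm (u₀ ^ 2) _] at h1
    have h2 : (p : ℤ) ∣ u₀ ^ 2 := by
      have hpd : ((p : ℤ) ^ d) ≠ 0 := pow_ne_zero _ (by exact_mod_cast hp.ne_zero)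
      rw [mul_comm (p : ℤ) _] at h1
      exact (mul_dvd_mul_iff_left hpd).mp h1
    exact hu (hpp.dvd_of_dvd_pow h2)


section

variable {G : Type u} [Group G] [Fintype G] {M : Ideal AlgInt} {p : ℕ}

/-- Restricting the expansion of the `p`-regular part of `χ₀` to its block. -/
theorem sum_block_mreg_mul (hM : IsPModular p M) {B : Set (IrrCharacter G)} (hB : IsPBlock M B)
    {χ₀ : IrrCharacter G} (hχ₀ : χ₀ ∈ B) (x : G) :
    ∑ ψ ∈ (Set.toFinite B).toFinset, mreg p (ψ : G → ℂ) (χ₀ : G → ℂ) * (ψ : G → ℂ) x =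
      pRegularPart p (χ₀ : G → ℂ) x := by
  classical
  have : Fintype (IrrCharacter G) := Fintype.ofFinite _
  have hMp := isPModular_isPrime hM
  have hmemBf : ∀ χ, χ ∈ (Set.toFinite B).toFinset ↔ χ ∈ B := fun χ => Set.Finite.mem_toFinset _
  have h1 := congrFun (pRegularPart_expansion (p := p) (isClassFunction_irr χ₀.2)) x
  rw [h1, Finset.sum_apply]
  rw [← Finset.sum_subset (Finset.subset_univ (Set.toFinite B).toFinset)]
  · refine Finset.sum_congr rfl fun χ _ => ?_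
    rw [mreg_symm (isCharacter_of_irr χ.2) (isCharacter_of_irr χ₀.2)]
    rfl
  · intro χ _ hχ
    have hχB : χ ∉ B := fun h => hχ ((hmemBf χ).2 h)
    have hns : ¬ SameBlock M (χ₀ : G → ℂ) (χ : G → ℂ) := by
      intro hs
      apply hχB
      rw [eq_blockOf_of_mem hMp hB hχ₀]
      exact hs
    have : mreg p (χ₀ : G → ℂ) (χ : G → ℂ) = 0 := classInner_pRegularPart_eq_zero hM hns
    show (mreg p (χ₀ : G → ℂ) (χ : G → ℂ) • (χ : G → ℂ)) x = 0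
    rw [this, zero_smul]; rfl

/-- The block part of the regular character vanishes on `p`-singular elements. -/
theorem sum_block_degree_mul (hM : IsPModular p M) {B : Set (IrrCharacter G)} (hB : IsPBlock M B)
    {x : G} (hx : p ∣ orderOf x) :
    ∑ ψ ∈ (Set.toFinite B).toFinset, (ψ : G → ℂ) 1 * (ψ : G → ℂ) x = 0 := by
  classical
  have : Fintype (IrrCharacter G) := Fintype.ofFinite _
  have hmemBf : ∀ χ, χ ∈ (Set.toFinite B).toFinset ↔ χ ∈ B := fun χ => Set.Finite.mem_toFinset _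
  have hx' : p ∣ orderOf x⁻¹ := by rw [orderOf_inv]; exact hx
  have h1 := blockCoeff_eq_zero_of_dvd_orderOf hM hB hx'
  rw [blockCoeff_eq_sum] at h1
  have hG0 : (Nat.card G : ℂ) ≠ 0 := Nat.cast_ne_zero.2 Nat.card_pos.ne'
  rcases mul_eq_zero.mp h1 with h2 | h2
  · exact absurd (inv_eq_zero.mp h2) hG0
  rw [← h2, ← Finset.sum_subset (Finset.subset_univ (Set.toFinite B).toFinset)]
  · refine Finset.sum_congr rfl fun χ hχ => ?_
    rw [if_pos ((hmemBf χ).1 hχ), one_mul, isCharacter_inv (isCharacter_of_irr χ.2),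
      Complex.conj_conj]
  · intro χ _ hχ
    have hχB : χ ∉ B := fun h => hχ ((hmemBf χ).2 h)
    rw [if_neg hχB, zero_mul, zero_mul]

end


section

variable {G : Type u} [Group G] [Fintype G] {M : Ideal AlgInt} {p : ℕ}

/-- **Brauer**: the exact power of `p` dividing `∑_{χ ∈ B} χ(1)²` is `p ^ (2a - d)`. -/
theorem sum_sq_factorization (hM : IsPModular p M) {B : Set (IrrCharacter G)}
    (hB : IsPBlock M B) :
    (∑ ψ ∈ (Set.toFinite B).toFinset, charDegree (ψ : G → ℂ) ^ 2).factorization p =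
      2 * (Nat.card G).factorization p - blockDefect p B := by
  classical
  have : Fintype (IrrCharacter G) := Fintype.ofFinite _
  have hMp := isPModular_isPrime hM
  have hp := hM.1
  haveI : Fact p.Prime := ⟨hp⟩
  have hp0 : (p : ℂ) ≠ 0 := Nat.cast_ne_zero.2 hp.ne_zero
  set Bf := (Set.toFinite B).toFinset with hBf
  have hmemBf : ∀ χ, χ ∈ Bf ↔ χ ∈ B := fun χ => Set.Finite.mem_toFinset _
  obtain ⟨χ₀, hχ₀, h0⟩ := exists_height_zero (p := p) hMp hB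
  obtain ⟨N, hN, -⟩ := exists_row hM hB hχ₀
  set a := (Nat.card G).factorization p with ha
  set d := blockDefect p B with hd
  have hda : d ≤ a := (block_valuations (p := p) hχ₀).2
  set e := a - d with he
  have hade : a = d + e := by omega
  -- degrees
  set D : IrrCharacter G → ℕ := fun ψ => charDegree (ψ : G → ℂ) with hD
  have hDpos : ∀ ψ : IrrCharacter G, 0 < D ψ := fun ψ => (irr_apply_one_eq_charDegree ψ.2).2
  have hD1 : ∀ ψ : IrrCharacter G, (ψ : G → ℂ) 1 = (D ψ : ℂ) :=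
    fun ψ => (irr_apply_one_eq_charDegree ψ.2).1
  have hval : ∀ ψ ∈ B, (D ψ).factorization p = e + blockHeight p B (ψ : G → ℂ) := by
    intro ψ hψ
    have h1 := (block_valuations (p := p) hψ).1
    have h2 : (D ψ).factorization p + d = a + blockHeight p B (ψ : G → ℂ) := h1
    omega
  have hdvd : ∀ ψ ∈ B, p ^ e ∣ D ψ := by
    intro ψ hψ
    rw [hp.pow_dvd_iff_le_factorization (hDpos ψ).ne', hval ψ hψ]; omega
  set u : IrrCharacter G → ℕ := fun ψ => D ψ / p ^ e with hu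
  have hDu : ∀ ψ ∈ B, D ψ = p ^ e * u ψ :=
    fun ψ hψ => (Nat.mul_div_cancel' (hdvd ψ hψ)).symm
  have hu0 : ¬ p ∣ u χ₀ := by
    intro h
    have h1 : p ^ (e + 1) ∣ D χ₀ := by
      rw [hDu χ₀ hχ₀, pow_succ]; exact Nat.mul_dvd_mul_left _ h
    rw [hp.pow_dvd_iff_le_factorization (hDpos χ₀).ne', hval χ₀ hχ₀, h0] at h1
    omega
  have hupos : ∀ ψ ∈ B, 0 < u ψ := by
    intro ψ hψ
    rcases Nat.eq_zero_or_pos (u ψ) with h | h
    · have h1 := hDu ψ hψ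
      rw [h, mul_zero] at h1
      have h2 := hDpos ψ
      omega
    · exact h
  -- group order
  obtain ⟨g', hg'⟩ : p ^ a ∣ Nat.card G := Nat.ordProj_dvd _ _
  have hg'p : ¬ p ∣ g' := by
    intro h
    have h1 : p ^ (a + 1) ∣ Nat.card G := by
      rw [hg', pow_succ]; exact Nat.mul_dvd_mul_left _ h
    rw [hp.pow_dvd_iff_le_factorization Nat.card_pos.ne'] at h1
    omega
  -- normalized contributions
  have hE : ∀ ψ ∈ B, ((Nat.card G : ℂ) * mreg p (ψ : G → ℂ) (χ₀ : G → ℂ) / (ψ : G → ℂ) 1) *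
      (u ψ : ℂ) = (g' : ℂ) * (N ψ : ℂ) := by
    intro ψ hψ
    have hu0' : (u ψ : ℂ) ≠ 0 := Nat.cast_ne_zero.2 (hupos ψ hψ).ne'
    rw [hD1 ψ, hDu ψ hψ, (hN ψ hψ).1, hg', hade]
    push_cast
    field_simp
    ring
  have hR2 : ∀ ψ ∈ B, ∃ c : ℤ, N ψ * (u χ₀ : ℤ) - N χ₀ * (u ψ : ℤ) = (p : ℤ) * c := by
    intro ψ hψ
    have hsb : SameBlock M (ψ : G → ℂ) (χ₀ : G → ℂ) := by
      have h1 : ψ ∈ blockOf M (χ₀ : G → ℂ) := by
        rw [← eq_blockOf_of_mem hMp hB hχ₀]; exact hψ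
      exact sameBlock_symm h1
    have h1 := memLocalIdeal_contrib_sub (p := p) hMp χ₀ hsb
    have h2 := memLocalIdeal_mul_right hMp h1 (memLocalRing_natCast hMp.ne_top (u ψ * u χ₀))
    have h3 : ((Nat.card G : ℂ) * mreg p (ψ : G → ℂ) (χ₀ : G → ℂ) / (ψ : G → ℂ) 1 -
        (Nat.card G : ℂ) * mreg p (χ₀ : G → ℂ) (χ₀ : G → ℂ) / (χ₀ : G → ℂ) 1) *
        ((u ψ * u χ₀ : ℕ) : ℂ) =
        (((g' : ℤ) * (N ψ * (u χ₀ : ℤ) - N χ₀ * (u ψ : ℤ)) : ℤ) : ℂ) := by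
      push_cast
      have e1 := hE ψ hψ
      have e2 := hE χ₀ hχ₀
      linear_combination (u χ₀ : ℂ) * e1 - (u ψ : ℂ) * e2
    rw [h3, memLocalIdeal_intCast_iff hM] at h2
    rcases (Nat.prime_iff_prime_int.mp hp).dvd_or_dvd h2 with h | h
    · exact absurd (Int.natCast_dvd_natCast.mp h) hg'p
    · exact h
  have hN0 : ¬ (p : ℤ) ∣ N χ₀ := by
    intro h
    have h1 := contrib_not_memLocalIdeal hM hB hχ₀ h0 hχ₀
    apply h1
    have hu0' : (u χ₀ : ℂ) ≠ 0 := Nat.cast_ne_zero.2 (hupos χ₀ hχ₀).ne'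
    have h2 : (Nat.card G : ℂ) * mreg p (χ₀ : G → ℂ) (χ₀ : G → ℂ) / (χ₀ : G → ℂ) 1 =
        (((g' : ℤ) * N χ₀ : ℤ) : ℂ) * ((u χ₀ : ℕ) : ℂ)⁻¹ := by
      rw [eq_mul_inv_iff_mul_eq₀ hu0']
      push_cast
      exact hE χ₀ hχ₀
    rw [h2]
    exact memLocalIdeal_mul_right hMp ((memLocalIdeal_intCast_iff hM _).2 (Dvd.dvd.mul_left h _))
      (memLocalRing_inv_natCast hM hu0)
  have hR1 : ∑ ψ ∈ Bf, N ψ * (u ψ : ℤ) = (p : ℤ) ^ d * (u χ₀ : ℤ) := by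
    have hc : ((∑ ψ ∈ Bf, N ψ * (u ψ : ℤ) : ℤ) : ℂ) * (p : ℂ) ^ e =
        (((p : ℤ) ^ d * (u χ₀ : ℤ) : ℤ) : ℂ) * (p : ℂ) ^ e := by
      push_cast
      rw [Finset.sum_mul]
      have h1 := sum_block_mreg_mul hM hB hχ₀ (1 : G)
      have hone : ¬ p ∣ orderOf (1 : G) := by
        rw [orderOf_one]; exact hp.one_lt.ne' ∘ Nat.dvd_one.1
      rw [pRegularPart_of_not_dvd _ hone] at h1
      have h2 : ∑ ψ ∈ Bf, (N ψ : ℂ) * (u ψ : ℂ) * (p : ℂ) ^ e =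
          (p : ℂ) ^ d * ∑ ψ ∈ Bf, mreg p (ψ : G → ℂ) (χ₀ : G → ℂ) * (ψ : G → ℂ) 1 := by
        rw [Finset.mul_sum]
        refine Finset.sum_congr rfl fun ψ hψ => ?_
        have hψB := (hmemBf ψ).1 hψ
        rw [(hN ψ hψB).1, hD1 ψ, hDu ψ hψB]; push_cast; ring
      rw [h2, h1, hD1 χ₀, hDu χ₀ hχ₀]; push_cast; ring
    have hpe : ((p : ℂ) ^ e) ≠ 0 := pow_ne_zero _ hp0
    exact_mod_cast mul_right_cancel₀ hpe hc
  choose! w hw using hR2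
  have hθ : IsGeneralizedCharacter G (∑ ψ ∈ Bf, (w ψ : ℂ) • (ψ : G → ℂ)) :=
    isGenChar_sum _ _ (fun ψ _ => isGenChar_intCast_smul (isGenChar_of_irr ψ.2) (w ψ))
  have hvan : ∀ x : G, p ∣ orderOf x → (∑ ψ ∈ Bf, (w ψ : ℂ) • (ψ : G → ℂ)) x = 0 := by
    intro x hx
    rw [Finset.sum_apply]
    have h1 : (p : ℂ) * ∑ ψ ∈ Bf, ((w ψ : ℂ) • (ψ : G → ℂ)) x = 0 := by
      rw [Finset.mul_sum]
      have h2 : ∀ ψ ∈ Bf, (p : ℂ) * ((w ψ : ℂ) • (ψ : G → ℂ)) x =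
          (u χ₀ : ℂ) * ((N ψ : ℂ) * (ψ : G → ℂ) x) - (N χ₀ : ℂ) * ((u ψ : ℂ) * (ψ : G → ℂ) x) := by
        intro ψ hψ
        have h3 := hw ψ ((hmemBf ψ).1 hψ)
        have hc : ((N ψ * (u χ₀ : ℤ) - N χ₀ * (u ψ : ℤ) : ℤ) : ℂ) = (((p : ℤ) * w ψ : ℤ) : ℂ) := by
          rw [h3]
        push_cast at hc
        show (p : ℂ) * ((w ψ : ℂ) * (ψ : G → ℂ) x) = _
        linear_combination (-((ψ : G → ℂ) x)) * hc
      rw [Finset.sum_congr rfl h2, Finset.sum_sub_distrib, ← Finset.mul_sum, ← Finset.mul_sum]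
      have h3 : ∑ ψ ∈ Bf, (N ψ : ℂ) * (ψ : G → ℂ) x = 0 := by
        have h4 := sum_block_mreg_mul hM hB hχ₀ x
        rw [pRegularPart_of_dvd _ hx] at h4
        have h5 : ∑ ψ ∈ Bf, (N ψ : ℂ) * (ψ : G → ℂ) x =
            (p : ℂ) ^ d * ∑ ψ ∈ Bf, mreg p (ψ : G → ℂ) (χ₀ : G → ℂ) * (ψ : G → ℂ) x := by
          rw [Finset.mul_sum]; refine Finset.sum_congr rfl fun ψ hψ => ?_
          rw [(hN ψ ((hmemBf ψ).1 hψ)).1]; ring
        rw [h5, h4, mul_zero]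
      have h5 : ∑ ψ ∈ Bf, (u ψ : ℂ) * (ψ : G → ℂ) x = 0 := by
        have h6 := sum_block_degree_mul hM hB hx
        have h7 : (p : ℂ) ^ e * ∑ ψ ∈ Bf, (u ψ : ℂ) * (ψ : G → ℂ) x =
            ∑ ψ ∈ Bf, (ψ : G → ℂ) 1 * (ψ : G → ℂ) x := by
          rw [Finset.mul_sum]; refine Finset.sum_congr rfl fun ψ hψ => ?_
          rw [hD1 ψ, hDu ψ ((hmemBf ψ).1 hψ)]; push_cast; ring
        rw [h6] at h7
        exact (mul_eq_zero.mp h7).resolve_left (pow_ne_zero _ hp0)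
      rw [h3, h5]; ring
    exact (mul_eq_zero.mp h1).resolve_left hp0
  obtain ⟨m, hm⟩ := genChar_pReg_apply_one p hθ hvan
  have hW : (p : ℤ) ^ d ∣ ∑ ψ ∈ Bf, w ψ * (u ψ : ℤ) := by
    refine ⟨m, ?_⟩
    have hc : ((∑ ψ ∈ Bf, w ψ * (u ψ : ℤ) : ℤ) : ℂ) * (p : ℂ) ^ e =
        (((p : ℤ) ^ d * m : ℤ) : ℂ) * (p : ℂ) ^ e := by
      rw [Finset.sum_apply] at hm
      push_cast
      have h1 : ∑ ψ ∈ Bf, ((w ψ : ℂ) • (ψ : G → ℂ)) 1 =
          (∑ ψ ∈ Bf, (w ψ : ℂ) * (u ψ : ℂ)) * (p : ℂ) ^ e := by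
        rw [Finset.sum_mul]; refine Finset.sum_congr rfl fun ψ hψ => ?_
        show (w ψ : ℂ) * (ψ : G → ℂ) 1 = _
        rw [hD1 ψ, hDu ψ ((hmemBf ψ).1 hψ)]; push_cast; ring
      rw [← h1, hm, ← ha, hade]; push_cast; ring
    exact_mod_cast mul_right_cancel₀ (pow_ne_zero _ hp0) hc
  have hfin : (u χ₀ : ℤ) ^ 2 * (p : ℤ) ^ d =
      N χ₀ * (∑ ψ ∈ Bf, (u ψ : ℤ) ^ 2) + p * ∑ ψ ∈ Bf, w ψ * (u ψ : ℤ) := by
    have h1 : ∑ ψ ∈ Bf, (N ψ * (u χ₀ : ℤ) - N χ₀ * (u ψ : ℤ)) * (u ψ : ℤ) =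
        ∑ ψ ∈ Bf, ((p : ℤ) * w ψ) * (u ψ : ℤ) :=
      Finset.sum_congr rfl fun ψ hψ => by rw [hw ψ ((hmemBf ψ).1 hψ)]
    have h2 : ∑ ψ ∈ Bf, (N ψ * (u χ₀ : ℤ) - N χ₀ * (u ψ : ℤ)) * (u ψ : ℤ) =
        (u χ₀ : ℤ) * ∑ ψ ∈ Bf, N ψ * (u ψ : ℤ) - N χ₀ * ∑ ψ ∈ Bf, (u ψ : ℤ) ^ 2 := by
      rw [Finset.mul_sum, Finset.mul_sum, ← Finset.sum_sub_distrib]
      refine Finset.sum_congr rfl fun ψ _ => by ring
    have h3 : ∑ ψ ∈ Bf, ((p : ℤ) * w ψ) * (u ψ : ℤ) = p * ∑ ψ ∈ Bf, w ψ * (u ψ : ℤ) := by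
      rw [Finset.mul_sum]; refine Finset.sum_congr rfl fun ψ _ => by ring
    rw [h2, hR1, h3] at h1
    linarith
  have hu0' : ¬ (p : ℤ) ∣ (u χ₀ : ℤ) := fun h => hu0 (Int.natCast_dvd_natCast.mp h)
  obtain ⟨hT1, hT2⟩ := arith_core p d hp (u χ₀) (N χ₀) _ _ hu0' hN0 hW hfin
  set T : ℕ := ∑ ψ ∈ Bf, u ψ ^ 2 with hT
  have hTc : ((T : ℕ) : ℤ) = ∑ ψ ∈ Bf, (u ψ : ℤ) ^ 2 := by rw [hT]; push_cast; rfl
  rw [← hTc] at hT1 hT2
  have hT1' : p ^ d ∣ T := by exact_mod_cast hT1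
  have hT2' : ¬ p ^ (d + 1) ∣ T := by
    intro h; apply hT2; exact_mod_cast h
  have hT0 : T ≠ 0 := by
    rintro h; apply hT2'; rw [h]; exact dvd_zero _
  have hTval : T.factorization p = d := by
    have h1 := (hp.pow_dvd_iff_le_factorization hT0).1 hT1'
    have h2 : ¬ d + 1 ≤ T.factorization p := fun h =>
      hT2' ((hp.pow_dvd_iff_le_factorization hT0).2 h)
    omega
  have hsum : ∑ ψ ∈ Bf, D ψ ^ 2 = p ^ (2 * e) * T := by
    rw [hT, Finset.mul_sum]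
    refine Finset.sum_congr rfl fun ψ hψ => ?_
    rw [hDu ψ ((hmemBf ψ).1 hψ)]; ring
  show (∑ ψ ∈ Bf, D ψ ^ 2).factorization p = 2 * a - d
  rw [hsum, factorization_pow_mul hp (2 * e) hT0, hTval]
  omega

end

end Cfsg.Agent.Lib.Helper8.DS
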