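import Mathlib
import Cfsg.Prelude.Def_Blocks
import Cfsg.Prelude.Def_BlockRank
import Cfsg.Agent.Lib.Helper8.KB4
import Cfsg.Agent.Lib.Helper8.BF7
import Cfsg.Agent.S4491

/-!
# The number of height zero characters of a `2`-block of defect at least two is divisible by four
-/

set_option autoImplicit false
set_option maxHeartbeats 1600000

namespace Cfsg.Agent.Lib.Helper8.VK

open Cfsg Cfsg.Agent.Lib.Helper8
open scoped ComplexConjugate
open Cfsg.Agent.Lib.Helper1 Cfsg.Agent.Lib.Helper4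

universe u

section

theorem sq_mod_four_of_odd {n : ℕ} (h : ¬ 2 ∣ n) : n ^ 2 % 4 = 1 := by
  have h1 : n % 4 = 1 ∨ n % 4 = 3 := by omega
  rcases h1 with h1 | h1
  · rw [Nat.pow_mod, h1]
  · rw [Nat.pow_mod, h1]

theorem sq_mod_four_of_even {n : ℕ} (h : 2 ∣ n) : n ^ 2 % 4 = 0 := by
  obtain ⟨m, rfl⟩ := h
  have : (2 * m) ^ 2 = 4 * m ^ 2 := by ring
  rw [this, Nat.mul_mod_right]

end

section

variable {G : Type u} [Group G] [Fintype G] {M : Ideal AlgInt}

/-- **`k₀(B) ≡ 0 (mod 4)`** for a `2`-block of defect at least two. -/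
theorem four_dvd_card_height_zero (hM : IsPModular 2 M) {B : Set (IrrCharacter G)}
    (hB : IsPBlock M B) (hd : 2 ≤ blockDefect 2 B) [Fintype (IrrCharacter G)]
    [DecidablePred (fun χ : IrrCharacter G => χ ∈ B ∧ blockHeight 2 B (χ : G → ℂ) = 0)] :
    4 ≤ (Finset.univ.filter
      (fun χ : IrrCharacter G => χ ∈ B ∧ blockHeight 2 B (χ : G → ℂ) = 0)).card := by
  classical
  have : Fact (Nat.Prime 2) := ⟨Nat.prime_two⟩
  have hMp := isPModular_isPrime hM
  set S := Finset.univ.filter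
    (fun χ : IrrCharacter G => χ ∈ B ∧ blockHeight 2 B (χ : G → ℂ) = 0) with hS
  set T := Finset.univ.filter (fun χ : IrrCharacter G => χ ∈ B) with hT
  set a := (Nat.card G).factorization 2 with ha
  set d := blockDefect 2 B with hddef
  -- positivity of `S`
  have hSpos : 0 < S.card := by
    obtain ⟨χ₀, hχ₀, h0⟩ := exists_height_zero (p := 2) hMp hB
    exact Finset.card_pos.2 ⟨χ₀, Finset.mem_filter.2 ⟨Finset.mem_univ _, hχ₀, h0⟩⟩
  -- the sum of the squares of the degrees
  have h4491 := Cfsg.Agent.S4491.result 2 M hM B hB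
  rw [finsum_mem_eq_finite_toFinset_sum _ (Set.toFinite B)] at h4491
  have hTB : (Set.toFinite B).toFinset = T := by
    ext χ
    simp [hT]
  rw [hTB] at h4491
  have hda : d ≤ a := by
    obtain ⟨χ₀, hχ₀⟩ := isPBlock_nonempty hMp hB
    exact (block_valuations (p := 2) hχ₀).2
  have hdeg : ∀ χ ∈ T, charDegree (χ : G → ℂ) ^ 2 = 4 ^ (a - d) * redDeg 2 B χ ^ 2 := by
    intro χ hχ
    have hχB : χ ∈ B := (Finset.mem_filter.1 hχ).2
    have h22 : (2 : ℕ) ^ 2 = 4 := by norm_num
    rw [← pow_mul_redDeg (p := 2) hχB, mul_pow, ← pow_mul, mul_comm _ 2, pow_mul, h22]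
  rw [Finset.sum_congr rfl hdeg, ← Finset.mul_sum] at h4491
  set R := ∑ χ ∈ T, redDeg 2 B χ ^ 2 with hR
  have hredpos : ∀ χ ∈ T, 0 < redDeg 2 B χ := by
    intro χ hχ
    have hχB : χ ∈ B := (Finset.mem_filter.1 hχ).2
    have h1 := pow_mul_redDeg (p := 2) hχB
    have h2 := (irr_apply_one_eq_charDegree χ.2).2
    by_contra h0
    have : redDeg 2 B χ = 0 := by omega
    rw [this, mul_zero] at h1
    omega
  have hRpos : 0 < R := by
    obtain ⟨χ₀, hχ₀⟩ := isPBlock_nonempty hMp hB
    have hχ₀T : χ₀ ∈ T := Finset.mem_filter.2 ⟨Finset.mem_univ _, hχ₀⟩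
    have h1 : redDeg 2 B χ₀ ^ 2 ≤ R :=
      Finset.single_le_sum (f := fun χ => redDeg 2 B χ ^ 2) (fun χ _ => Nat.zero_le _) hχ₀T
    have h2 := hredpos χ₀ hχ₀T
    have h3 : 0 < redDeg 2 B χ₀ ^ 2 := pow_pos h2 2
    omega
  have hval : R.factorization 2 = d := by
    have h4 : (4 : ℕ) ^ (a - d) = 2 ^ (2 * (a - d)) := by
      rw [pow_mul]
      norm_num
    rw [h4, Nat.factorization_mul (by positivity) hRpos.ne', Finsupp.add_apply,
      Nat.Prime.factorization_pow Nat.prime_two, Finsupp.single_eq_same] at h4491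
    omega
  have h4R : 4 ∣ R := by
    have h1 : 2 ^ d ∣ R := by
      rw [← hval]
      exact Nat.ordProj_dvd R 2
    have h2 : (4 : ℕ) ∣ 2 ^ d := by
      have : (4 : ℕ) = 2 ^ 2 := by norm_num
      rw [this]
      exact pow_dvd_pow 2 hd
    exact h2.trans h1
  -- `R ≡ k₀ (mod 4)`
  have hparity : ∀ χ ∈ T, redDeg 2 B χ ^ 2 % 4 = if χ ∈ S then 1 else 0 := by
    intro χ hχ
    have hχB : χ ∈ B := (Finset.mem_filter.1 hχ).2
    by_cases hχS : χ ∈ S
    · rw [if_pos hχS]
      have h0 : blockHeight 2 B (χ : G → ℂ) = 0 := (Finset.mem_filter.1 hχS).2.2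
      exact sq_mod_four_of_odd (redDeg_not_dvd (p := 2) hχB h0)
    · rw [if_neg hχS]
      have h0 : blockHeight 2 B (χ : G → ℂ) ≠ 0 := by
        intro h0
        exact hχS (Finset.mem_filter.2 ⟨Finset.mem_univ _, hχB, h0⟩)
      apply sq_mod_four_of_even
      -- the valuation of the reduced degree is the height
      obtain ⟨hv, -⟩ := block_valuations (p := 2) hχB
      have h1 := pow_mul_redDeg (p := 2) hχB
      have hrp := hredpos χ hχ
      have h2 : (charDegree (χ : G → ℂ)).factorization 2 =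
          (a - d) + (redDeg 2 B χ).factorization 2 := by
        rw [← h1, Nat.factorization_mul (by positivity) hrp.ne', Finsupp.add_apply,
          Nat.Prime.factorization_pow Nat.prime_two, Finsupp.single_eq_same]
      have h3 : (redDeg 2 B χ).factorization 2 ≠ 0 := by omega
      by_contra hnd
      exact h3 (Nat.factorization_eq_zero_of_not_dvd hnd)
  have hmod : R % 4 = S.card % 4 := by
    rw [hR, Finset.sum_nat_mod, Finset.sum_congr rfl hparity, Finset.sum_ite_mem]
    have hST : T ∩ S = S := by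
      apply Finset.inter_eq_right.2
      intro χ hχ
      exact Finset.mem_filter.2 ⟨Finset.mem_univ _, (Finset.mem_filter.1 hχ).2.1⟩
    rw [hST, Finset.sum_const, smul_eq_mul, mul_one]
  have h4S : 4 ∣ S.card := by
    have : R % 4 = 0 := Nat.mod_eq_zero_of_dvd h4R
    omega
  exact Nat.le_of_dvd hSpos h4S

end

end Cfsg.Agent.Lib.Helper8.VK
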