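import Mathlib
import Cfsg.Prelude.Def_Blocks
import Cfsg.Prelude.Def_BlockRank
import Cfsg.Agent.Lib.Helper8.VK5
import Cfsg.Agent.Lib.Helper8.VK6
import Cfsg.Agent.Lib.Helper8.VK7
import Cfsg.Agent.Lib.Helper8.Sub13
import Cfsg.Agent.Lib.Helper8.BlockUnion

/-!
# A `2`-block with Klein four defect groups has exactly four characters
-/

set_option autoImplicit false
set_option maxHeartbeats 1600000

namespace Cfsg.Agent.Lib.Helper8.VK

open Cfsg Cfsg.Agent.Lib.Helper8
open scoped ComplexConjugate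
open Cfsg.Agent.Lib.Helper1 Cfsg.Agent.Lib.Helper4

universe u

section

variable {G : Type u} [Group G] [Fintype G] {M : Ideal AlgInt}

/-- The centralizer of the identity is the whole group. -/
def centOneEquiv (G : Type u) [Group G] :
    Subgroup.centralizer ({(1 : G)} : Set G) ≃* G where
  toFun := Subtype.val
  invFun := fun g => ⟨g, by rw [Subgroup.mem_centralizer_singleton_iff, mul_one, one_mul]⟩
  left_inv := fun _ => rfl
  right_inv := fun _ => rfl
  map_mul' := fun _ _ => rfl

/-- A character of the block outside a set of four height zero characters vanishes on the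
`2`-singular elements. -/
theorem eq_zero_on_singular (hM : IsPModular 2 M) {B : Set (IrrCharacter G)} (hB : IsPBlock M B)
    {P : Subgroup G} (hPD : IsDefectGroup 2 M B P) (hcard : Nat.card P = 4)
    (hexp : ∀ g ∈ P, g * g = 1) (X : Finset G) (hX : ∀ x ∈ X, ∃ k : ℕ, orderOf x = 2 ^ k)
    (hXrep : ∀ g : G, (∃ k : ℕ, orderOf g = 2 ^ k) → ∃! x, x ∈ X ∧ IsConj g x)
    [Fintype (IrrCharacter G)] (S : Finset (IrrCharacter G))
    (hS : ∀ ζ ∈ S, ζ ∈ B ∧ blockHeight 2 B (ζ : G → ℂ) = 0) (hS4 : 4 ≤ S.card)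
    {ξ : IrrCharacter G} (hξB : ξ ∈ B) (hξS : ξ ∉ S) :
    ∀ g : G, 2 ∣ orderOf g → (ξ : G → ℂ) g = 0 := by
  classical
  have : Fact (Nat.Prime 2) := ⟨Nat.prime_two⟩
  have : ∀ x : G, Fintype (Subgroup.centralizer ({x} : Set G)) := fun x => Fintype.ofFinite _
  have hMp := isPModular_isPrime hM
  have h1 := one_eq_sum_sections hM.1 X hX hXrep ξ
  have hterm : ∀ x ∈ X, x ≠ 1 →
      ∑ c : Subgroup.centralizer ({x} : Set G), Complex.normSq (pRegularPart 2
        (fun c : Subgroup.centralizer ({x} : Set G) => (ξ : G → ℂ) (x * (c : G))) c) = 0 := by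
    intro x hx hx1
    have hC : ∀ t, t ∈ Subgroup.centralizer ({x} : Set G) ↔ t * x = x * t := by
      intro t
      rw [Subgroup.mem_centralizer_singleton_iff]
    rw [← sum_blocks_normSq hM (isClassFunction_section _ hC (isClassFunction_irr ξ.2))]
    apply Finset.sum_eq_zero
    intro b hb
    rw [mem_blocksFinset] at hb
    by_cases hind : IsInducedBlock M (Subgroup.centralizer ({x} : Set G)) b B
    · obtain ⟨hord, -, hl, hq⟩ := subsection_rank_one hM hB hPD hcard hexp hx1 (hX x hx) _ hC hind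
      obtain ⟨-, hz⟩ := secPart_eq_zero_of_not_mem hM _ hC hord hind hq hl S hS hS4
      apply Finset.sum_eq_zero
      intro c _
      have h2 := hz ξ hξS c
      unfold secPart secFun at h2
      rw [h2, map_zero]
    · have h2 := sum_block_ind_section hM x (hX x hx) hb hB
      rw [if_neg hind] at h2
      have h3 := (Finset.sum_eq_zero_iff_of_nonneg (fun χ _ => by
        apply mul_nonneg
        · split_ifs <;> norm_num
        · exact Finset.sum_nonneg fun c _ => Complex.normSq_nonneg _)).1 h2 ξ (Finset.mem_univ ξ)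
      rw [if_pos hξB, one_mul] at h3
      exact h3
  have h1X : (1 : G) ∈ X := by
    obtain ⟨x, ⟨hxX, hx⟩, -⟩ := hXrep 1 ⟨0, by rw [orderOf_one, pow_zero]⟩
    have hx1 : x = 1 := isConj_one_right.1 hx
    rw [hx1] at hxX
    exact hxX
  rw [Finset.sum_eq_single_of_mem 1 h1X (fun x hx hne => by rw [hterm x hx hne, mul_zero])] at h1
  -- transport to `G`
  have htr : ∑ c : Subgroup.centralizer ({(1 : G)} : Set G), Complex.normSq (pRegularPart 2
      (fun c : Subgroup.centralizer ({(1 : G)} : Set G) => (ξ : G → ℂ) (1 * (c : G))) c) =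
      ∑ g : G, Complex.normSq (pRegularPart 2 (ξ : G → ℂ) g) := by
    rw [← Equiv.sum_comp (centOneEquiv G).toEquiv]
    refine Finset.sum_congr rfl fun c _ => ?_
    have hcoe : (centOneEquiv G).toEquiv c = (c : G) := rfl
    rw [hcoe]
    by_cases hc : 2 ∣ orderOf c
    · rw [pRegularPart_of_dvd _ hc, pRegularPart_of_dvd _ (by rwa [Subgroup.orderOf_coe])]
    · rw [pRegularPart_of_not_dvd _ hc, pRegularPart_of_not_dvd _ (by rwa [Subgroup.orderOf_coe]),
        one_mul]
  have hcardC : Nat.card (Subgroup.centralizer ({(1 : G)} : Set G)) = Nat.card G :=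
    Nat.card_congr (centOneEquiv G).toEquiv
  rw [htr, hcardC] at h1
  have hG0 : (Nat.card G : ℝ) ≠ 0 := Nat.cast_ne_zero.2 Nat.card_pos.ne'
  have h2 : ∑ g : G, Complex.normSq (pRegularPart 2 (ξ : G → ℂ) g) = (Nat.card G : ℝ) := by
    field_simp at h1
    linarith
  have h3 : ∑ g : G, Complex.normSq ((ξ : G → ℂ) g) = (Nat.card G : ℝ) := by
    have h4 := classInner_irr_self ξ.2
    rw [classInner_def] at h4
    have hG0' : (Nat.card G : ℂ) ≠ 0 := Nat.cast_ne_zero.2 Nat.card_pos.ne'
    have h5 : ∑ g : G, (ξ : G → ℂ) g * conj ((ξ : G → ℂ) g) = (Nat.card G : ℂ) := by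
      field_simp at h4
      exact h4
    have h6 : ∑ g : G, (ξ : G → ℂ) g * conj ((ξ : G → ℂ) g) =
        ((∑ g : G, Complex.normSq ((ξ : G → ℂ) g) : ℝ) : ℂ) := by
      rw [Complex.ofReal_sum]
      refine Finset.sum_congr rfl fun g _ => ?_
      rw [Complex.mul_conj]
    rw [h6] at h5
    exact_mod_cast h5
  have hle : ∀ g : G, Complex.normSq (pRegularPart 2 (ξ : G → ℂ) g) ≤
      Complex.normSq ((ξ : G → ℂ) g) := by
    intro g
    by_cases hg : 2 ∣ orderOf g
    · rw [pRegularPart_of_dvd _ hg, map_zero]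
      exact Complex.normSq_nonneg _
    · rw [pRegularPart_of_not_dvd _ hg]
  have hdiff : ∑ g : G, (Complex.normSq ((ξ : G → ℂ) g) -
      Complex.normSq (pRegularPart 2 (ξ : G → ℂ) g)) = 0 := by
    rw [Finset.sum_sub_distrib, h2, h3, sub_self]
  intro g hg
  have h4 := (Finset.sum_eq_zero_iff_of_nonneg (fun g _ => sub_nonneg.2 (hle g))).1 hdiff g
    (Finset.mem_univ g)
  rw [pRegularPart_of_dvd _ hg, map_zero, sub_zero] at h4
  exact Complex.normSq_eq_zero.1 h4

end

end Cfsg.Agent.Lib.Helper8.VK
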