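import Mathlib
import Cfsg.Prelude.Def_Blocks
import Cfsg.Prelude.Def_BlockRank
import Cfsg.Agent.Lib.Helper8.VK8

/-!
# A `2`-block with Klein four defect groups has exactly four characters (conclusion) and
representatives of the classes of `p`-elements
-/

set_option autoImplicit false
set_option maxHeartbeats 1600000

namespace Cfsg.Agent.Lib.Helper8.VK

open Cfsg Cfsg.Agent.Lib.Helper8
open scoped ComplexConjugate
open Cfsg.Agent.Lib.Helper1 Cfsg.Agent.Lib.Helper4

universe u

section

variable {G : Type u} [Group G] [Fintype G]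

/-- Representatives of the conjugacy classes of `p`-elements. -/
theorem exists_pElement_reps (p : ℕ) : ∃ X : Finset G,
    (∀ x ∈ X, ∃ k : ℕ, orderOf x = p ^ k) ∧
    (∀ g : G, (∃ k : ℕ, orderOf g = p ^ k) → ∃! x, x ∈ X ∧ IsConj g x) := by
  classical
  set r : G → G := fun g => Quotient.out (ConjClasses.mk g) with hr
  have hrc : ∀ g, IsConj g (r g) := by
    intro g
    have h1 : ConjClasses.mk (r g) = ConjClasses.mk g := Quotient.out_eq _
    exact (ConjClasses.mk_eq_mk_iff_isConj.1 h1).symm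
  have hreq : ∀ g h, IsConj g h → r g = r h := by
    intro g h hgh
    rw [hr]
    beta_reduce
    rw [ConjClasses.mk_eq_mk_iff_isConj.2 hgh]
  refine ⟨(Finset.univ.filter (fun g : G => ∃ k : ℕ, orderOf g = p ^ k)).image r, ?_, ?_⟩
  · intro x hx
    obtain ⟨g, hg, rfl⟩ := Finset.mem_image.1 hx
    obtain ⟨k, hk⟩ := (Finset.mem_filter.1 hg).2
    obtain ⟨c, hc⟩ := isConj_iff.1 (hrc g)
    refine ⟨k, ?_⟩
    rw [← hc, ← hk, ← MulAut.conj_apply]
    exact MulEquiv.orderOf_eq _ g
  · intro g hg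
    refine ⟨r g, ⟨Finset.mem_image.2 ⟨g, Finset.mem_filter.2 ⟨Finset.mem_univ _, hg⟩, rfl⟩,
      hrc g⟩, ?_⟩
    rintro y ⟨hy, hgy⟩
    obtain ⟨g', -, rfl⟩ := Finset.mem_image.1 hy
    have h1 : IsConj g g' := hgy.trans (hrc g').symm
    exact (hreq g g' h1).symm

end

section

variable {G : Type u} [Group G] [Fintype G] {M : Ideal AlgInt}

/-- **`k(B) = 4`** for a `2`-block with Klein four defect groups, given one nontrivial
subsection. -/
theorem card_block_eq_four (hM : IsPModular 2 M) {B : Set (IrrCharacter G)} (hB : IsPBlock M B)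
    {P : Subgroup G} (hPD : IsDefectGroup 2 M B P) (hcard : Nat.card P = 4)
    (hexp : ∀ g ∈ P, g * g = 1) {u : G} (hu1 : u ≠ 1) (hu : ∃ k : ℕ, orderOf u = 2 ^ k)
    (C : Subgroup G) (hC : ∀ t, t ∈ C ↔ t * u = u * t) {b : Set (IrrCharacter C)}
    (hind : IsInducedBlock M C b B) : Nat.card B = 4 := by
  classical
  have : Fact (Nat.Prime 2) := ⟨Nat.prime_two⟩
  have : Fintype (IrrCharacter G) := Fintype.ofFinite _
  have : Fintype C := Fintype.ofFinite _
  have hMp := isPModular_isPrime hM
  obtain ⟨X, hX, hXrep⟩ := exists_pElement_reps (G := G) 2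
  have hd : blockDefect 2 B = 2 := by
    have h1 := card_of_isDefectGroup hM hB hPD
    rw [hcard] at h1
    have h4 : (4 : ℕ) = 2 ^ 2 := by norm_num
    rw [h4] at h1
    exact (Nat.pow_right_injective (le_refl 2) h1).symm
  set S := Finset.univ.filter
    (fun χ : IrrCharacter G => χ ∈ B ∧ blockHeight 2 B (χ : G → ℂ) = 0) with hSdef
  have hS : ∀ ζ ∈ S, ζ ∈ B ∧ blockHeight 2 B (ζ : G → ℂ) = 0 :=
    fun ζ hζ => (Finset.mem_filter.1 hζ).2
  have hS4 : 4 ≤ S.card := four_dvd_card_height_zero hM hB (by omega)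
  obtain ⟨hord, -, hl, hq⟩ := subsection_rank_one hM hB hPD hcard hexp hu1 hu C hC hind
  obtain ⟨hS4', -⟩ := secPart_eq_zero_of_not_mem hM C hC hord hind hq hl S hS hS4
  -- every member of the block has height zero
  have hall : ∀ ξ : IrrCharacter G, ξ ∈ B → ξ ∈ S := by
    intro ξ hξB
    by_contra hξS
    have hvan := eq_zero_on_singular hM hB hPD hcard hexp X hX hXrep S hS hS4 hξB hξS
    have h1 := pow_dvd_charDegree_of_vanish Nat.prime_two ξ hvan
    obtain ⟨h2, h3⟩ := irr_apply_one_eq_charDegree ξ.2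
    obtain ⟨k, hk⟩ := charDegree_dvd_card ξ.2
    have hk' : Nat.card G / charDegree (ξ : G → ℂ) = k := by
      rw [hk]
      exact Nat.mul_div_cancel_left k h3
    have hnd : ¬ 2 ∣ Nat.card G / charDegree (ξ : G → ℂ) := by
      rw [hk']
      intro hpk
      have h4 : 2 ^ ((Nat.card G).factorization 2 + 1) ∣ Nat.card G := by
        rw [pow_succ]
        conv_rhs => rw [hk]
        exact Nat.mul_dvd_mul h1 hpk
      have := (Nat.prime_two.pow_dvd_iff_le_factorization Nat.card_pos.ne').1 h4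
      omega
    have hsing := blockOf_eq_singleton_of_not_dvd hM ξ hnd
    have hBξ := eq_blockOf_of_mem hMp hB hξB
    rw [hsing] at hBξ
    obtain ⟨ζ, hζ⟩ : S.Nonempty := Finset.card_pos.1 (by omega)
    have hζB := (hS ζ hζ).1
    rw [hBξ, Set.mem_singleton_iff] at hζB
    rw [hζB] at hζ
    exact hξS hζ
  have hcardB : Nat.card B = S.card := by
    rw [Nat.card_eq_fintype_card]
    apply Fintype.card_of_subtype S
    intro χ
    constructor
    · intro h
      exact (hS χ h).1
    · intro h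
      exact hall χ h
  rw [hcardB, hS4']

end

end Cfsg.Agent.Lib.Helper8.VK
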