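import Mathlib

/-!
# A `p'`-group of automorphisms of a cyclic `p`-group
-/

set_option autoImplicit false

namespace Cfsg.Agent.Lib.Helper8

section

variable {G : Type*} [Group G] [Finite G] {p : ℕ} [hp : Fact p.Prime]

/-- An automorphism of a cyclic `p`-group whose order is prime to `p` and which fixes a
non-identity element is trivial. -/
theorem aut_eq_one_of_fix {P : Type*} [Group P] [Finite P] [IsCyclic P] (hPp : IsPGroup p P)
    (α : MulAut P) {e : ℕ} (he : α ^ e = 1) (hep : ¬ p ∣ e) {y : P} (hy : y ≠ 1)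
    (hfix : α y = y) : α = 1 := by
  obtain ⟨x₀, hx₀⟩ := IsCyclic.exists_generator (α := P)
  have hfin : IsOfFinOrder x₀ := isOfFinOrder_of_finite x₀
  -- `α` is a power map
  obtain ⟨m, hm⟩ : ∃ m : ℕ, α x₀ = x₀ ^ m := by
    have := hx₀ (α x₀)
    rw [← hfin.mem_powers_iff_mem_zpowers] at this
    obtain ⟨m, hm⟩ := this
    exact ⟨m, hm.symm⟩
  have hpowmap : ∀ z : P, α z = z ^ m := by
    intro z
    obtain ⟨i, rfl⟩ := Subgroup.mem_zpowers_iff.1 (hx₀ z)
    rw [map_zpow, hm, ← zpow_natCast, ← zpow_natCast, ← zpow_mul, ← zpow_mul, mul_comm]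
  have hiter : ∀ (r : ℕ) (z : P), (α ^ r) z = z ^ (m ^ r) := by
    intro r
    induction r with
    | zero => intro z; simp
    | succ r ih =>
      intro z
      rw [pow_succ, MulAut.mul_apply, hpowmap, ih, ← pow_mul, pow_succ, mul_comm]
  -- the order of the generator
  obtain ⟨a, ha⟩ := (IsPGroup.iff_orderOf.1 hPp) x₀
  have h1 : m ^ e ≡ 1 [MOD p ^ a] := by
    have := hiter e x₀
    rw [he, MulAut.one_apply] at this
    have h2 : x₀ ^ (m ^ e) = x₀ ^ 1 := by rw [← this, pow_one]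
    rw [pow_eq_pow_iff_modEq, ha] at h2
    exact h2
  -- `m ≡ 1 mod p`
  obtain ⟨b, hb⟩ := (IsPGroup.iff_orderOf.1 hPp) y
  have hb0 : b ≠ 0 := by
    rintro rfl
    rw [pow_zero, orderOf_eq_one_iff] at hb
    exact hy hb
  have h3 : m ≡ 1 [MOD p] := by
    have h4 : y ^ m = y ^ 1 := by rw [← hpowmap, hfix, pow_one]
    rw [pow_eq_pow_iff_modEq, hb] at h4
    exact h4.of_dvd (dvd_pow_self p hb0)
  -- `m ^ (p ^ (a - 1)) ≡ 1 mod p ^ a`
  have ha0 : a ≠ 0 := by
    rintro rfl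
    rw [pow_zero, orderOf_eq_one_iff] at ha
    apply hy
    obtain ⟨i, rfl⟩ := Subgroup.mem_zpowers_iff.1 (hx₀ y)
    rw [ha, one_zpow]
  have h5 : ((m : ZMod (p ^ a))) ^ (p ^ (a - 1)) = 1 := by
    have h6 : ((p : ℤ)) ∣ (m : ℤ) - 1 := by
      have := (Nat.modEq_iff_dvd.1 h3.symm)
      simpa using this
    have h7 := dvd_sub_pow_of_dvd_sub (R := ℤ) (p := p) h6 (a - 1)
    rw [Nat.sub_add_cancel (Nat.one_le_iff_ne_zero.2 ha0), one_pow] at h7
    have h8 : (((m : ℤ) ^ p ^ (a - 1) - 1 : ℤ) : ZMod (p ^ a)) = 0 := by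
      rw [ZMod.intCast_zmod_eq_zero_iff_dvd]
      exact_mod_cast h7
    push_cast at h8
    exact sub_eq_zero.1 h8
  have h9 : ((m : ZMod (p ^ a))) ^ e = 1 := by
    have := (ZMod.natCast_eq_natCast_iff _ _ _).2 h1
    push_cast at this
    exact this
  have h10 : orderOf ((m : ZMod (p ^ a))) = 1 := by
    have hd1 := orderOf_dvd_of_pow_eq_one h5
    have hd2 := orderOf_dvd_of_pow_eq_one h9
    have hcop : Nat.Coprime (p ^ (a - 1)) e :=
      Nat.Coprime.pow_left _ ((Nat.Prime.coprime_iff_not_dvd hp.1).2 hep)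
    exact Nat.eq_one_of_dvd_coprimes hcop hd1 hd2
  rw [orderOf_eq_one_iff] at h10
  have h11 : m ≡ 1 [MOD p ^ a] := by
    rw [← ZMod.natCast_eq_natCast_iff]
    push_cast
    exact h10
  ext z
  rw [MulAut.one_apply, hpowmap]
  obtain ⟨i, rfl⟩ := Subgroup.mem_zpowers_iff.1 (hx₀ z)
  have h12 : x₀ ^ m = x₀ ^ 1 := by
    rw [pow_eq_pow_iff_modEq, ha]
    exact h11
  rw [pow_one] at h12
  rw [← zpow_natCast, ← zpow_mul, mul_comm, zpow_mul, zpow_natCast, h12]

end

end Cfsg.Agent.Lib.Helper8
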