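import Mathlib
import Cfsg.Agent.Lib.Helper8.CY1

/-!
# A `p'`-group acting on a cyclic `p`-subgroup
-/

set_option autoImplicit false

namespace Cfsg.Agent.Lib.Helper8

section

variable {G : Type*} [Group G] [Finite G] {p : ℕ} [hp : Fact p.Prime]

/-- The conjugation homomorphism `T → Aut P` for `T ≤ N_G(P)`. -/
noncomputable def conjHomCY (P T : Subgroup G) (hTN : T ≤ Subgroup.normalizer (P : Set G)) :
    T →* MulAut P :=
  P.normalizerMonoidHom.comp (Subgroup.inclusion hTN)

omit [Finite G] in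
theorem conjHomCY_apply (P T : Subgroup G) (hTN : T ≤ Subgroup.normalizer (P : Set G))
    (g : T) (x : P) : ((conjHomCY P T hTN g) x : G) = (g : G) * x * (g : G)⁻¹ := rfl

omit [Finite G] in
theorem conjHomCY_ker (P T : Subgroup G) (hTN : T ≤ Subgroup.normalizer (P : Set G)) :
    (conjHomCY P T hTN).ker = (Subgroup.centralizer (P : Set G)).subgroupOf T := by
  ext g
  rw [MonoidHom.mem_ker, Subgroup.mem_subgroupOf, Subgroup.mem_centralizer_iff]
  constructor
  · intro h x hx
    have h1 := conjHomCY_apply P T hTN g ⟨x, hx⟩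
    rw [h, MulAut.one_apply] at h1
    simp only at h1
    have h2 : (g : G) * x * (g : G)⁻¹ * (g : G) = (g : G) * x := by group
    rw [← h2, ← h1]
  · intro h
    ext x
    rw [conjHomCY_apply, MulAut.one_apply, ← h x x.2]; group

theorem cyclic_pgroup_pprime_action (P T : Subgroup G) (hP : IsPGroup p P) (hcyc : IsCyclic P)
    (hTN : T ≤ Subgroup.normalizer (P : Set G))
    (hidx : ¬ p ∣ (Subgroup.centralizer (P : Set G)).relIndex T)
    [hn : ((Subgroup.centralizer (P : Set G)).subgroupOf T).Normal] :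
    IsCyclic (T ⧸ (Subgroup.centralizer (P : Set G)).subgroupOf T) ∧
      (Subgroup.centralizer (P : Set G)).relIndex T ∣ p - 1 ∧
      ∀ g ∈ T, ∀ x ∈ P, x ≠ 1 → g * x * g⁻¹ = x → g ∈ Subgroup.centralizer (P : Set G) := by
  classical
  set Φ := conjHomCY P T hTN with hΦ
  have hker : Φ.ker = (Subgroup.centralizer (P : Set G)).subgroupOf T := conjHomCY_ker P T hTN
  set e := (Subgroup.centralizer (P : Set G)).relIndex T with he
  -- the quotient is isomorphic to the range
  have hiso : (T ⧸ (Subgroup.centralizer (P : Set G)).subgroupOf T) ≃* Φ.range :=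
    (QuotientGroup.quotientMulEquivOfEq hker.symm).trans (QuotientGroup.quotientKerEquivRange Φ)
  have hcard : Nat.card Φ.range = e := by
    rw [← Nat.card_congr hiso.toEquiv, he, Subgroup.relIndex, Subgroup.index]
  -- the order of `Aut P`
  obtain ⟨a, ha⟩ := (IsPGroup.iff_card.1 hP)
  have hdvd : e ∣ Nat.totient (p ^ a) := by
    rw [← ha, ← IsCyclic.card_mulAut, ← hcard]
    exact Subgroup.card_subgroup_dvd_card _
  have hep : e ∣ p - 1 := by
    rcases Nat.eq_zero_or_pos a with h0 | h0
    · rw [h0, pow_zero, Nat.totient_one] at hdvd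
      rw [Nat.dvd_one.1 hdvd]; exact one_dvd _
    · rw [Nat.totient_prime_pow hp.1 h0] at hdvd
      have hcop : Nat.Coprime e (p ^ (a - 1)) :=
        Nat.Coprime.pow_right _ ((Nat.coprime_comm.1 ((Nat.Prime.coprime_iff_not_dvd hp.1).2 hidx)))
      exact hcop.dvd_of_dvd_mul_left hdvd
  refine ⟨?_, hep, ?_⟩
  · -- cyclicity
    by_cases hp2 : p = 2
    · have he1 : e = 1 := by
        rw [hp2] at hep
        exact Nat.dvd_one.1 hep
      have : Nat.card (T ⧸ (Subgroup.centralizer (P : Set G)).subgroupOf T) = 1 := by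
        rw [Nat.card_congr hiso.toEquiv, hcard, he1]
      have hsub : Subsingleton (T ⧸ (Subgroup.centralizer (P : Set G)).subgroupOf T) :=
        (Nat.card_eq_one_iff_unique.1 this).1
      exact isCyclic_of_subsingleton
    · have hcycU : IsCyclic (ZMod (Nat.card P))ˣ := by
        rw [ha]
        exact ZMod.isCyclic_units_of_prime_pow p hp.1 hp2 a
      have hcycA : IsCyclic (MulAut P) :=
        isCyclic_of_surjective (IsCyclic.mulAutMulEquiv P).symm.toMonoidHom
          (IsCyclic.mulAutMulEquiv P).symm.surjective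
      have hcycR : IsCyclic Φ.range := Subgroup.isCyclic _
      exact isCyclic_of_surjective hiso.symm.toMonoidHom hiso.symm.surjective
  · intro g hg x hx hx1 hfix
    have hα : (Φ ⟨g, hg⟩) ^ e = 1 := by
      have h1 : (⟨Φ ⟨g, hg⟩, ⟨_, rfl⟩⟩ : Φ.range) ^ e = 1 := by
        rw [← hcard]; exact pow_card_eq_one'
      have := congrArg Subtype.val h1
      simpa using this
    have hy : (⟨x, hx⟩ : P) ≠ 1 := by
      intro h; apply hx1; exact congrArg Subtype.val h
    have hfix' : (Φ ⟨g, hg⟩) ⟨x, hx⟩ = ⟨x, hx⟩ := by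
      apply Subtype.ext
      rw [hΦ, conjHomCY_apply]
      exact hfix
    have h1 := aut_eq_one_of_fix (p := p) hP (Φ ⟨g, hg⟩) hα hidx hy hfix'
    have h2 : (⟨g, hg⟩ : T) ∈ Φ.ker := h1
    rw [hker, Subgroup.mem_subgroupOf] at h2
    exact h2

end

end Cfsg.Agent.Lib.Helper8
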