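import Mathlib
import Cfsg.Agent.Lib.Helper8.FS2
import Cfsg.Agent.Lib.Helper8.BlockPairs3

/-!
# Klein four groups: the action of an odd-index overgroup of the centralizer
-/

set_option autoImplicit false

namespace Cfsg.Agent.Lib.Helper8.VK

open Cfsg Cfsg.Agent.Lib.Helper8

universe u

section

variable {G : Type u} [Group G]

/-- The kernel of the conjugation action of `T` on `P`. -/
theorem ker_conjAutHom (P T : Subgroup G) (hTN : T ≤ Subgroup.normalizer (P : Set G)) :
    (conjAutHom P T hTN).ker = (Subgroup.centralizer (P : Set G)).subgroupOf T := by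
  ext t
  constructor
  · intro ht
    rw [Subgroup.mem_subgroupOf, Subgroup.mem_centralizer_iff]
    intro k hk
    rw [MonoidHom.mem_ker] at ht
    have h1 := congrArg (fun α : MulAut P => ((α ⟨k, hk⟩ : P) : G)) ht
    simp only [conjAutHom_apply_coe, MulAut.one_apply] at h1
    calc k * (t : G) = ((t : G) * k * (t : G)⁻¹) * (t : G) := by rw [h1]
      _ = (t : G) * k := by group
  · intro ht
    exact mem_ker_conjAutHom P T hTN (Subgroup.mem_subgroupOf.1 ht)

/-- The index of the centralizer in a subgroup of the normalizer divides `(#P)!`. -/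
theorem relIndex_dvd_factorial [Finite G] (P T : Subgroup G) (hTN : T ≤ Subgroup.normalizer (P : Set G)) :
    (Subgroup.centralizer (P : Set G)).relIndex T ∣ (Nat.card P).factorial := by
  classical
  have : Fintype P := Fintype.ofFinite _
  set ψ : T →* Equiv.Perm P := (MulAut.toPerm P).comp (conjAutHom P T hTN) with hψ
  have hker : ψ.ker = (Subgroup.centralizer (P : Set G)).subgroupOf T := by
    rw [← ker_conjAutHom P T hTN]
    ext t
    rw [MonoidHom.mem_ker, MonoidHom.mem_ker, hψ, MonoidHom.comp_apply]
    constructor
    · intro h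
      apply MulEquiv.ext
      intro k
      have := congrArg (fun σ : Equiv.Perm P => σ k) h
      exact this
    · intro h
      rw [h, map_one]
  have h1 : (Subgroup.centralizer (P : Set G)).relIndex T = Nat.card ψ.range := by
    unfold Subgroup.relIndex
    rw [← hker]
    exact Subgroup.index_ker ψ
  rw [h1]
  have h2 := Subgroup.card_subgroup_dvd_card ψ.range
  rw [Nat.card_perm] at h2
  exact h2

theorem relIndex_one_or_three [Finite G] (P T : Subgroup G) (hV : Nat.card P = 4)
    (hTN : T ≤ Subgroup.normalizer (P : Set G))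
    (hodd : ¬ 2 ∣ (Subgroup.centralizer (P : Set G)).relIndex T) :
    (Subgroup.centralizer (P : Set G)).relIndex T = 1 ∨
      (Subgroup.centralizer (P : Set G)).relIndex T = 3 := by
  have h1 := relIndex_dvd_factorial P T hTN
  rw [hV] at h1
  set e := (Subgroup.centralizer (P : Set G)).relIndex T with he
  have h24 : (4 : ℕ).factorial = 8 * 3 := by decide
  rw [h24] at h1
  have hcop : Nat.Coprime e 8 := by
    have : Nat.Coprime e 2 := by
      rw [Nat.coprime_comm, Nat.Prime.coprime_iff_not_dvd Nat.prime_two]
      exact hodd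
    have h8 : (8 : ℕ) = 2 ^ 3 := by norm_num
    rw [h8]
    exact Nat.Coprime.pow_right 3 this
  have h3 : e ∣ 3 := hcop.dvd_of_dvd_mul_left h1
  have h4 : e ≤ 3 := Nat.le_of_dvd (by norm_num) h3
  have h0 : e ≠ 0 := by
    rintro h
    rw [h] at h3
    omega
  have h2 : e ≠ 2 := by
    intro h
    apply hodd
    rw [h]
  omega

end

end Cfsg.Agent.Lib.Helper8.VK
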