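import Mathlib
import Cfsg.Agent.Lib.Helper8.VK1

/-!
# Klein four groups: an overgroup of index three of the centralizer permutes the involutions
transitively
-/

set_option autoImplicit false

namespace Cfsg.Agent.Lib.Helper8.VK

open Cfsg Cfsg.Agent.Lib.Helper8

universe u

section

/-- An automorphism of a Klein four group of order dividing three with a nontrivial fixed point is
trivial. -/
theorem aut_eq_one_of_fixed {K : Type u} [Group K] [IsKleinFour K] (α : MulAut K)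
    (h3 : α ^ 3 = 1) {y : K} (hy1 : y ≠ 1) (hy : α y = y) : α = 1 := by
  classical
  apply MulEquiv.ext
  intro z
  rw [MulAut.one_apply]
  by_cases hz1 : z = 1
  · rw [hz1, map_one]
  by_cases hzy : z = y
  · rw [hzy, hy]
  have hαz1 : α z ≠ 1 := by
    intro h
    apply hz1
    have := congrArg α.symm h
    rwa [MulEquiv.symm_apply_apply, map_one] at this
  have hαzy : α z ≠ y := by
    intro h
    apply hzy
    have h' : α z = α y := h.trans hy.symm
    exact α.injective h'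
  by_contra hne
  have h4 : α z = y * z := IsKleinFour.eq_mul_of_ne_all hy1 hz1 (Ne.symm hzy) hαz1 hαzy hne
  have h5 : α (α z) = z := by
    rw [h4, map_mul, hy, h4, ← mul_assoc, IsKleinFour.mul_self, one_mul]
  have h6 : (α ^ 3) z = α z := by
    show (α * α * α) z = α z
    rw [MulAut.mul_apply, MulAut.mul_apply, h5]
  rw [h3, MulAut.one_apply] at h6
  exact hne h6.symm

end

section

variable {G : Type u} [Group G] [Finite G]

theorem pow_three_mem_centralizer (P T : Subgroup G)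
    (hTN : T ≤ Subgroup.normalizer (P : Set G)) (hCT : Subgroup.centralizer (P : Set G) ≤ T)
    (h3 : (Subgroup.centralizer (P : Set G)).relIndex T = 3) {s : G} (hs : s ∈ T) :
    s ^ 3 ∈ Subgroup.centralizer (P : Set G) := by
  classical
  have : Fintype G := Fintype.ofFinite G
  have hN : ((Subgroup.centralizer (P : Set G)).subgroupOf T).Normal :=
    (Subgroup.normal_subgroupOf_iff_le_normalizer hCT).2
      (hTN.trans (normalizer_le_normalizer_centralizer P))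
  have h1 := Subgroup.pow_index_mem ((Subgroup.centralizer (P : Set G)).subgroupOf T) (⟨s, hs⟩ : T)
  have h2 : ((Subgroup.centralizer (P : Set G)).subgroupOf T).index = 3 := h3
  rw [h2, Subgroup.mem_subgroupOf] at h1
  exact h1

/-- An element of `T` fixing an involution of `P` centralizes `P`. -/
theorem mem_centralizer_of_fixed (P T : Subgroup G) [IsKleinFour P]
    (hTN : T ≤ Subgroup.normalizer (P : Set G)) (hCT : Subgroup.centralizer (P : Set G) ≤ T)
    (h3 : (Subgroup.centralizer (P : Set G)).relIndex T = 3) {s : G} (hs : s ∈ T)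
    {y : G} (hyP : y ∈ P) (hy1 : y ≠ 1) (hsy : s * y * s⁻¹ = y) :
    s ∈ Subgroup.centralizer (P : Set G) := by
  set α := conjAutHom P T hTN ⟨s, hs⟩ with hα
  have hα3 : α ^ 3 = 1 := by
    rw [hα, ← map_pow]
    have h1 : (⟨s, hs⟩ : T) ^ 3 ∈ (conjAutHom P T hTN).ker := by
      apply mem_ker_conjAutHom
      rw [Subgroup.coe_pow]
      exact pow_three_mem_centralizer P T hTN hCT h3 hs
    exact h1
  have hy1' : (⟨y, hyP⟩ : P) ≠ 1 := fun h => hy1 (congrArg Subtype.val h)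
  have hfix : α ⟨y, hyP⟩ = ⟨y, hyP⟩ := by
    apply Subtype.ext
    rw [hα, conjAutHom_apply_coe]
    exact hsy
  have h1 := aut_eq_one_of_fixed α hα3 hy1' hfix
  have h2 : (⟨s, hs⟩ : T) ∈ (conjAutHom P T hTN).ker := h1
  rw [ker_conjAutHom, Subgroup.mem_subgroupOf] at h2
  exact h2

/-- If `[T : C_G(P)] = 3` then `T` is transitive on the involutions of the four group `P`. -/
theorem exists_conj_of_relIndex_three (P T : Subgroup G) [IsKleinFour P]
    (hTN : T ≤ Subgroup.normalizer (P : Set G)) (hCT : Subgroup.centralizer (P : Set G) ≤ T)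
    (h3 : (Subgroup.centralizer (P : Set G)).relIndex T = 3) {y y' : G} (hyP : y ∈ P)
    (hy1 : y ≠ 1) (hy'P : y' ∈ P) (hy'1 : y' ≠ 1) : ∃ t ∈ T, t * y * t⁻¹ = y' := by
  -- an element outside the centralizer
  obtain ⟨t₀, ht₀, ht₀C⟩ : ∃ t₀ ∈ T, t₀ ∉ Subgroup.centralizer (P : Set G) := by
    by_contra hcon
    push Not at hcon
    have : T ≤ Subgroup.centralizer (P : Set G) := hcon
    have h1 := Subgroup.relIndex_eq_one.2 this
    rw [h3] at h1
    omega
  have ht₀2 : t₀ ^ 2 ∈ T := T.pow_mem ht₀ 2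
  have ht₀2C : t₀ ^ 2 ∉ Subgroup.centralizer (P : Set G) := by
    intro h
    apply ht₀C
    have h1 := pow_three_mem_centralizer P T hTN hCT h3 ht₀
    have h2 : t₀ = t₀ ^ 3 * (t₀ ^ 2)⁻¹ := by group
    rw [h2]
    exact Subgroup.mul_mem _ h1 (Subgroup.inv_mem _ h)
  have hconjP : ∀ s ∈ T, ∀ z ∈ P, s * z * s⁻¹ ∈ P := by
    intro s hs z hz
    exact (Subgroup.mem_normalizer_iff.1 (hTN hs) z).1 hz
  have hconj1 : ∀ s z : G, z ≠ 1 → s * z * s⁻¹ ≠ 1 := by
    intro s z hz h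
    apply hz
    have : z = s⁻¹ * (s * z * s⁻¹) * s := by group
    rw [this, h]
    group
  set y₁ := t₀ * y * t₀⁻¹ with hy₁
  set y₂ := t₀ ^ 2 * y * (t₀ ^ 2)⁻¹ with hy₂
  have hy₁P : y₁ ∈ P := hconjP t₀ ht₀ y hyP
  have hy₂P : y₂ ∈ P := hconjP _ ht₀2 y hyP
  have hy₁1 : y₁ ≠ 1 := hconj1 _ _ hy1
  have hy₂1 : y₂ ≠ 1 := hconj1 _ _ hy1
  have h01 : y₁ ≠ y := fun h => ht₀C (mem_centralizer_of_fixed P T hTN hCT h3 ht₀ hyP hy1 h)
  have h02 : y₂ ≠ y := fun h => ht₀2C (mem_centralizer_of_fixed P T hTN hCT h3 ht₀2 hyP hy1 h)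
  have h12 : y₂ ≠ y₁ := by
    intro h
    apply h01
    have e1 : y₂ = t₀ * y₁ * t₀⁻¹ := by rw [hy₂, hy₁, pow_two]; group
    rw [e1] at h
    have e2 : y₁ = t₀⁻¹ * (t₀ * y₁ * t₀⁻¹) * t₀ := by group
    rw [e2, h, hy₁]
    group
  by_cases hc0 : y' = y
  · exact ⟨1, T.one_mem, by rw [hc0]; group⟩
  by_cases hc1 : y' = y₁
  · exact ⟨t₀, ht₀, hc1.symm⟩
  refine ⟨t₀ ^ 2, ht₀2, ?_⟩
  -- both `y'` and `y₂` are the product `y * y₁`
  have ne' : ∀ {a b : G} (ha : a ∈ P) (hb : b ∈ P), a ≠ b → (⟨a, ha⟩ : P) ≠ ⟨b, hb⟩ :=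
    fun _ _ h h' => h (congrArg Subtype.val h')
  have ne1 : ∀ {a : G} (ha : a ∈ P), a ≠ 1 → (⟨a, ha⟩ : P) ≠ 1 :=
    fun _ h h' => h (congrArg Subtype.val h')
  have e1 : (⟨y', hy'P⟩ : P) = ⟨y, hyP⟩ * ⟨y₁, hy₁P⟩ :=
    IsKleinFour.eq_mul_of_ne_all (ne1 hyP hy1) (ne1 hy₁P hy₁1) (ne' hyP hy₁P (Ne.symm h01))
      (ne1 hy'P hy'1) (ne' hy'P hyP hc0) (ne' hy'P hy₁P hc1)
  have e2 : (⟨y₂, hy₂P⟩ : P) = ⟨y, hyP⟩ * ⟨y₁, hy₁P⟩ :=
    IsKleinFour.eq_mul_of_ne_all (ne1 hyP hy1) (ne1 hy₁P hy₁1) (ne' hyP hy₁P (Ne.symm h01))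
      (ne1 hy₂P hy₂1) (ne' hy₂P hyP h02) (ne' hy₂P hy₁P h12)
  have := congrArg Subtype.val (e2.trans e1.symm)
  exact this

end

end Cfsg.Agent.Lib.Helper8.VK
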