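import Mathlib
import Cfsg.Agent.Lib.Helper5.OBN.EichPlus
import Cfsg.Agent.Lib.Helper5.OBN.NodeL
import Cfsg.Agent.Lib.Helper1.SLn

/-!
# S2413 package LEVIG: the Levi embedding `GL_m → O(Σ x_i y_i + Q₀)`
-/

set_option autoImplicit false

namespace Cfsg.Agent.Lib.Helper5.OrthGen

open Matrix Cfsg.Agent.H9Sieg Cfsg.Agent.Lib.Helper5.OBN

variable {m : ℕ} {κ : Type} [Fintype κ] [DecidableEq κ] {F : Type*} [Field F]

/-- the block matrix `diag(A, Bᵀ, 1)` -/
def leviM (A B : Matrix (Fin m) (Fin m) F) : Matrix (Idx m κ) (Idx m κ) F :=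
  Matrix.fromBlocks (Matrix.fromBlocks A 0 0 Bᵀ) 0 0 1

theorem leviM_mul (A B A' B' : Matrix (Fin m) (Fin m) F) :
    (leviM A B : Matrix (Idx m κ) (Idx m κ) F) * leviM A' B' = leviM (A * A') (B' * B) := by
  unfold leviM
  rw [Matrix.fromBlocks_multiply, Matrix.fromBlocks_multiply]
  simp only [Matrix.mul_zero, Matrix.zero_mul, add_zero, zero_add, Matrix.mul_one,
    Matrix.transpose_mul]

theorem leviM_one : (leviM 1 1 : Matrix (Idx m κ) (Idx m κ) F) = 1 := by
  unfold leviM
  rw [Matrix.transpose_one, Matrix.fromBlocks_one, Matrix.fromBlocks_one]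

theorem leviM_mulVec_iE (A B : Matrix (Fin m) (Fin m) F) (x : Idx m κ → F) (i : Fin m) :
    ((leviM A B : Matrix (Idx m κ) (Idx m κ) F) *ᵥ x) (iE i) = ∑ k, A i k * x (iE k) := by
  simp [leviM, Matrix.mulVec, dotProduct, Fintype.sum_sum_type]

theorem leviM_mulVec_iF (A B : Matrix (Fin m) (Fin m) F) (x : Idx m κ → F) (i : Fin m) :
    ((leviM A B : Matrix (Idx m κ) (Idx m κ) F) *ᵥ x) (iF i) = ∑ k, B k i * x (iF k) := by
  simp [leviM, Matrix.mulVec, dotProduct, Fintype.sum_sum_type]

theorem leviM_mulVec_iK (A B : Matrix (Fin m) (Fin m) F) (x : Idx m κ → F) (z : κ) :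
    ((leviM A B : Matrix (Idx m κ) (Idx m κ) F) *ᵥ x) (iK z) = x (iK z) := by
  simp [leviM, Matrix.mulVec, dotProduct, Fintype.sum_sum_type, Matrix.one_apply]

variable (Q₀ : QuadraticForm F (κ → F))

theorem Qg_leviM (A B : Matrix (Fin m) (Fin m) F) (hBA : B * A = 1) (x : Idx m κ → F) :
    Qg m Q₀ ((leviM A B : Matrix (Idx m κ) (Idx m κ) F) *ᵥ x) = Qg m Q₀ x := by
  rw [Qg_apply, Qg_apply]
  congr 1
  · have h1 : ∀ i, ((leviM A B : Matrix (Idx m κ) (Idx m κ) F) *ᵥ x) (iE i)
        = (A *ᵥ (fun k => x (iE k))) i := by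
      intro i; rw [leviM_mulVec_iE]; rfl
    have h2 : ∀ i, ((leviM A B : Matrix (Idx m κ) (Idx m κ) F) *ᵥ x) (iF i)
        = (Bᵀ *ᵥ (fun k => x (iF k))) i := by
      intro i; rw [leviM_mulVec_iF]; rfl
    simp only [h1, h2]
    show (A *ᵥ (fun k => x (iE k))) ⬝ᵥ (Bᵀ *ᵥ (fun k => x (iF k))) =
      (fun k => x (iE k)) ⬝ᵥ (fun k => x (iF k))
    rw [Matrix.mulVec_transpose, dotProduct_comm, ← Matrix.dotProduct_mulVec,
      Matrix.mulVec_mulVec, hBA, Matrix.one_mulVec, dotProduct_comm]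
  · congr 1
    funext z
    exact leviM_mulVec_iK A B x z

/-- the Levi embedding at the level of `GL` -/
noncomputable def leviGLg (A : GL (Fin m) F) : GL (Idx m κ) F :=
  ⟨leviM (A : Matrix (Fin m) (Fin m) F) ((A⁻¹ : GL (Fin m) F) : Matrix (Fin m) (Fin m) F),
    leviM ((A⁻¹ : GL (Fin m) F) : Matrix (Fin m) (Fin m) F) (A : Matrix (Fin m) (Fin m) F),
    by rw [leviM_mul, ← Units.val_mul, mul_inv_cancel, Units.val_one, leviM_one],
    by rw [leviM_mul, ← Units.val_mul, inv_mul_cancel, Units.val_one, leviM_one]⟩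

/-- the Levi embedding `A ↦ diag(A, A⁻ᵀ, 1)` of `GL_m` into the isometry group of
`Σ x_i y_i + Q₀` -/
noncomputable def leviG : GL (Fin m) F →* OG m Q₀ where
  toFun A := ⟨leviGLg A, fun u _ => Qg_leviM Q₀ _ _ (by
    rw [← Units.val_mul, inv_mul_cancel, Units.val_one]) u⟩
  map_one' := by
    apply Subtype.ext
    apply Units.ext
    show leviM ((1 : GL (Fin m) F) : Matrix (Fin m) (Fin m) F)
      (((1 : GL (Fin m) F)⁻¹ : GL (Fin m) F) : Matrix (Fin m) (Fin m) F) = 1
    rw [inv_one, Units.val_one, leviM_one]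
  map_mul' A B := by
    apply Subtype.ext
    apply Units.ext
    show leviM ((A * B : GL (Fin m) F) : Matrix (Fin m) (Fin m) F)
        (((A * B)⁻¹ : GL (Fin m) F) : Matrix (Fin m) (Fin m) F) =
      leviM (A : Matrix (Fin m) (Fin m) F) ((A⁻¹ : GL (Fin m) F) : Matrix (Fin m) (Fin m) F) *
      leviM (B : Matrix (Fin m) (Fin m) F) ((B⁻¹ : GL (Fin m) F) : Matrix (Fin m) (Fin m) F)
    rw [leviM_mul, _root_.mul_inv_rev, Units.val_mul, Units.val_mul]

theorem mat_leviG (A : GL (Fin m) F) :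
    mat (leviG Q₀ A) =
      leviM (A : Matrix (Fin m) (Fin m) F) ((A⁻¹ : GL (Fin m) F) : Matrix (Fin m) (Fin m) F) := rfl

theorem leviG_apply_iE (A : GL (Fin m) F) (x : Idx m κ → F) (i : Fin m) :
    (mat (leviG Q₀ A) *ᵥ x) (iE i) = ∑ k, (A : Matrix (Fin m) (Fin m) F) i k * x (iE k) := by
  rw [mat_leviG, leviM_mulVec_iE]

theorem leviG_apply_iF (A : GL (Fin m) F) (x : Idx m κ → F) (i : Fin m) :
    (mat (leviG Q₀ A) *ᵥ x) (iF i) =
      ∑ k, ((A⁻¹ : GL (Fin m) F) : Matrix (Fin m) (Fin m) F) k i * x (iF k) := by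
  rw [mat_leviG, leviM_mulVec_iF]

theorem leviG_apply_iK (A : GL (Fin m) F) (x : Idx m κ → F) (z : κ) :
    (mat (leviG Q₀ A) *ᵥ x) (iK z) = x (iK z) := by
  rw [mat_leviG, leviM_mulVec_iK]

theorem leviG_mulVec_iE (A : GL (Fin m) F) (k : Fin m) :
    mat (leviG Q₀ A) *ᵥ (ev (iE k) : Idx m κ → F) =
      ∑ i, (A : Matrix (Fin m) (Fin m) F) i k • (ev (iE i) : Idx m κ → F) := by
  funext a
  rw [Finset.sum_apply]
  rcases a with (a | a) | z
  · rw [leviG_apply_iE, Finset.sum_eq_single k, Finset.sum_eq_single a]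
    · simp
    · intro b _ hb
      rw [Pi.smul_apply, ev_ne (by simpa using hb.symm), smul_zero]
    · intro h; exact absurd (Finset.mem_univ a) h
    · intro b _ hb
      rw [ev_ne (by simpa using hb), mul_zero]
    · intro h; exact absurd (Finset.mem_univ k) h
  · rw [leviG_apply_iF]
    rw [Finset.sum_eq_zero, Finset.sum_eq_zero]
    · intro b _
      rw [Pi.smul_apply, ev_ne (by simp), smul_zero]
    · intro b _
      rw [ev_ne (by simp), mul_zero]
  · rw [leviG_apply_iK, ev_ne (by simp), Finset.sum_eq_zero]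
    intro b _
    rw [Pi.smul_apply, ev_ne (by simp), smul_zero]

theorem leviG_mulVec_iF (A : GL (Fin m) F) (k : Fin m) :
    mat (leviG Q₀ A) *ᵥ (ev (iF k) : Idx m κ → F) =
      ∑ i, ((A⁻¹ : GL (Fin m) F) : Matrix (Fin m) (Fin m) F) k i • (ev (iF i) : Idx m κ → F) := by
  funext a
  rw [Finset.sum_apply]
  rcases a with (a | a) | z
  · rw [leviG_apply_iE]
    rw [Finset.sum_eq_zero, Finset.sum_eq_zero]
    · intro b _
      rw [Pi.smul_apply, ev_ne (by simp), smul_zero]
    · intro b _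
      rw [ev_ne (by simp), mul_zero]
  · rw [leviG_apply_iF, Finset.sum_eq_single k, Finset.sum_eq_single a]
    · simp
    · intro b _ hb
      rw [Pi.smul_apply, ev_ne (by simpa using hb.symm), smul_zero]
    · intro h; exact absurd (Finset.mem_univ a) h
    · intro b _ hb
      rw [ev_ne (by simpa using hb), mul_zero]
    · intro h; exact absurd (Finset.mem_univ k) h
  · rw [leviG_apply_iK, ev_ne (by simp), Finset.sum_eq_zero]
    intro b _
    rw [Pi.smul_apply, ev_ne (by simp), smul_zero]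

theorem leviG_mulVec_kvec (A : GL (Fin m) F) (v : κ → F) :
    mat (leviG Q₀ A) *ᵥ (kvec v : Idx m κ → F) = kvec v := by
  funext a
  rcases a with (a | a) | z
  · rw [leviG_apply_iE, Finset.sum_eq_zero]
    · rfl
    · intro b _
      rw [kvec_iso v (isIso_iE b), mul_zero]
  · rw [leviG_apply_iF, Finset.sum_eq_zero]
    · rfl
    · intro b _
      rw [kvec_iso v (isIso_iF b), mul_zero]
  · rw [leviG_apply_iK]

/-- the Levi image of a transvection is an Eichler (Siegel) element -/
theorem leviG_transvection {i j : Fin m} (hij : i ≠ j) (c : F) :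
    leviG Q₀ (Matrix.SpecialLinearGroup.toGL (Matrix.SpecialLinearGroup.transvection hij c)) =
      eich (Qg m Q₀) (ev (iE i)) ((-c) • ev (iF j)) := by
  apply iso_ext
  intro x
  have hne : (iF j : Idx m κ) ≠ th (iE i) := by
    rw [th_iE]
    intro h
    apply hij
    have := Sum.inl_injective h
    exact (Sum.inr_injective this).symm
  rw [eich_ev_ev_mulVec (Q₀ := Q₀) (isIso_iE i) (isIso_iF j) hne]
  have hinv : ((Matrix.SpecialLinearGroup.toGL
      (Matrix.SpecialLinearGroup.transvection hij c))⁻¹ : GL (Fin m) F) =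
      Matrix.SpecialLinearGroup.toGL (Matrix.SpecialLinearGroup.transvection hij (-c)) := by
    rw [← map_inv, Matrix.SpecialLinearGroup.transvection_inv]
  funext a
  rcases a with (a | a) | z
  · rw [leviG_apply_iE]
    show ∑ k, (Matrix.SpecialLinearGroup.transvection hij c :
      Matrix (Fin m) (Fin m) F) a k * x (iE k) = _
    rw [Matrix.SpecialLinearGroup.transvection_coe]
    simp only [Matrix.add_apply, add_mul, Finset.sum_add_distrib, Matrix.one_apply, ite_mul,
      one_mul, zero_mul, Finset.sum_ite_eq, Finset.mem_univ, if_true, Matrix.single_apply,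
      Pi.add_apply, Pi.sub_apply, Pi.smul_apply, smul_eq_mul, th_iE, th_iF]
    by_cases hai : a = i
    · subst hai
      rw [ev_ne (by simp), ev_same]
      simp
    · rw [ev_ne (by simp), ev_ne (by simpa using hai)]
      simp [Ne.symm hai]
  · rw [leviG_apply_iF, hinv]
    show ∑ k, (Matrix.SpecialLinearGroup.transvection hij (-c) :
      Matrix (Fin m) (Fin m) F) k a * x (iF k) = _
    rw [Matrix.SpecialLinearGroup.transvection_coe]
    simp only [Matrix.add_apply, add_mul, Finset.sum_add_distrib, Matrix.one_apply, ite_mul,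
      one_mul, zero_mul, Finset.sum_ite_eq', Finset.mem_univ, if_true, Matrix.single_apply,
      Pi.add_apply, Pi.sub_apply, Pi.smul_apply, smul_eq_mul, th_iE, th_iF]
    by_cases haj : a = j
    · subst haj
      rw [ev_same, ev_ne (by simp)]
      simp
    · rw [ev_ne (by simpa using haj), ev_ne (by simp)]
      simp [Ne.symm haj]
  · rw [leviG_apply_iK]
    simp only [Pi.add_apply, Pi.sub_apply, Pi.smul_apply, smul_eq_mul]
    rw [ev_ne (by simp), ev_ne (by simp)]
    ring

/-- the image of `SL_m` lies in `Ω` (anisotropic nonzero kernel) -/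
theorem leviG_SL_mem_commutator
    (hnd : ∀ y : Idx m κ → F, (∀ w, bp (Qg m Q₀) w y = 0) → y = 0)
    (hQ₀ : ∀ v : κ → F, Q₀ v = 0 → v = 0) (z₀ : κ)
    (S : Matrix.SpecialLinearGroup (Fin m) F) :
    leviG Q₀ (Matrix.SpecialLinearGroup.toGL S) ∈ commutator (OG m Q₀) := by
  rcases Nat.lt_or_ge m 2 with hm2 | hm2
  · have : S = 1 := by
      apply Subtype.ext
      ext i j
      have hm1 : m = 1 := by
        have := i.2
        omega
      subst hm1
      have hi : i = 0 := Subsingleton.elim _ _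
      have hj : j = 0 := Subsingleton.elim _ _
      have hdet := S.2
      rw [Matrix.det_fin_one] at hdet
      rw [hi, hj, hdet]
      rfl
    rw [this, map_one, map_one]
    exact Subgroup.one_mem _
  · have : Nontrivial (Fin m) := Fin.nontrivial_iff_two_le.2 hm2
    refine Cfsg.Agent.Lib.Helper1.transvection_induction_n
      (fun S => leviG Q₀ (Matrix.SpecialLinearGroup.toGL S) ∈ commutator (OG m Q₀)) ?_ ?_ S
    · intro i j hij c
      show leviG Q₀ (Matrix.SpecialLinearGroup.toGL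
        (Matrix.SpecialLinearGroup.transvection hij c)) ∈ _
      rw [leviG_transvection Q₀ hij c]
      refine eich_mem_commutator (Q₀ := Q₀) hnd hQ₀ z₀ (isIso_iE i) ?_
      apply epair_ev (Q₀ := Q₀) (isIso_iE i)
      rw [th_iE, Pi.smul_apply, ev_ne, smul_zero]
      intro h
      apply hij
      have := Sum.inl_injective h
      exact Sum.inr_injective this
    · intro A B hA hB
      show leviG Q₀ (Matrix.SpecialLinearGroup.toGL (A * B)) ∈ _
      rw [map_mul, map_mul]
      exact Subgroup.mul_mem _ hA hB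

end Cfsg.Agent.Lib.Helper5.OrthGen
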