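import Mathlib
import Cfsg.Prelude.Def_Quasithin
import Cfsg.Prelude.Def_QuasithinSetup
import Cfsg.Agent.Lib.Helper3.CharP5

/-!
# S1851 swarm, package PB: subnormal subgroups of a characteristic-2 group are in `ℋ^e`.
-/

set_option autoImplicit false

namespace Cfsg.Agent.Lib.QtkeUp

open Cfsg Cfsg.Agent.Lib.Helper3 Cfsg.Agent.Lib.Lead

variable {G : Type*} [Group G] [Finite G]

/-- `C_H(O_2(H)) ≤ O_2(H)` gives `F*(H)` a 2-group (copy of the S1850 lemma). -/
theorem qtkeB_isPGroup_gfs_of_char2 {H : Type*} [Group H] [Finite H]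
    (h : Cfsg.IsOfCharacteristicTwo H) :
    IsPGroup 2 (Cfsg.generalizedFittingSubgroup H) := by
  haveI : Fact (Nat.Prime 2) := ⟨Nat.prime_two⟩
  have hF : IsPGroup 2 (Cfsg.generalizedFittingSubgroup ↥(Cfsg.pCore 2 H)) :=
    (pCore_isPGroup (G := H) 2).to_subgroup _
  rw [generalizedFittingSubgroup_eq_pCore_of_centralizer_le (Cfsg.pCore 2 H) h hF]
  exact pCore_isPGroup 2

/-- **PB**: subnormal subgroups of a characteristic-2 group are in `ℋ^e`. -/
theorem mem_calHe_of_subnormal (H K : Subgroup G) (hH : IsOfCharacteristicTwo ↥H) (hKH : K ≤ H)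
    (hsn : (K.subgroupOf H).IsSubnormal) : K ∈ calHe G := by
  haveI : Fact (Nat.Prime 2) := ⟨Nat.prime_two⟩
  have hF : IsPGroup 2 (Cfsg.generalizedFittingSubgroup ↥H) := qtkeB_isPGroup_gfs_of_char2 hH
  have hM : IsPGroup 2 (Cfsg.generalizedFittingSubgroup ↥(K.subgroupOf H)) :=
    isPGroup_generalizedFittingSubgroup_of_isSubnormal hsn hF
  have hK : IsPGroup 2 (Cfsg.generalizedFittingSubgroup ↥K) :=
    isPGroup_generalizedFittingSubgroup_of_mulEquiv (Subgroup.subgroupOfEquivOfLe hKH) hM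
  show Cfsg.generalizedFittingSubgroup ↥K = Cfsg.pCore 2 ↥K
  exact generalizedFittingSubgroup_eq_pCore_of_isPGroup hK

end Cfsg.Agent.Lib.QtkeUp
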