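import Mathlib
import Cfsg.Prelude
import Cfsg.Agent.Lib.Helper9.OrthNM9
import Cfsg.Agent.Lib.Helper9.OrthMax2

set_option autoImplicit false

/-! # S5693 (orthogonal plus decomposition stabilizers that are not maximal): shared base

`K = stabilizing S ⊓ Ω` with `S = {v | Q v = d ∧ ∃ i, v ∈ D i}`; a sub-case only has to supply two
witnesses.  Also: hyperbolic bases of the members of a decomposition into plus-type planes, and
Eichler transformations as elements of `omegaGL` with their formula. -/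

namespace Cfsg.Agent.S5693Pk

open Matrix Cfsg.Agent.H9Orth

variable {F : Type*} [Field F] {ι : Type} [Fintype ι] [DecidableEq ι]
variable {Q : QuadraticForm F (ι → F)}

/-- the two-witness criterion: `g₁ ∈ Ω` maps the norm-`d` vectors of the members into members but
does not permute the members; `g₂ ∈ Ω` moves some norm-`d` vector of a member out of all members -/
theorem notmax_of_witnesses [Finite F] {t : ℕ} (D : Fin t → Submodule F (ι → F)) (d : F)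
    (g₁ g₂ : Matrix.GeneralLinearGroup ι F)
    (h₁Ω : g₁ ∈ Cfsg.Geo.omegaGL ⇑Q)
    (h₁S : ∀ v, Q v = d → (∃ i, v ∈ D i) → ∃ i, (g₁ : Matrix ι ι F) *ᵥ v ∈ D i)
    (h₁D : g₁ ∉ Cfsg.Geo.decompositionStabilizer D)
    (h₂Ω : g₂ ∈ Cfsg.Geo.omegaGL ⇑Q)
    (h₂ : ∃ v, Q v = d ∧ (∃ i, v ∈ D i) ∧ ¬ ∃ i, (g₂ : Matrix ι ι F) *ᵥ v ∈ D i) :
    ∃ K : Subgroup (Matrix.GeneralLinearGroup ι F),
      Cfsg.Geo.decompositionStabilizer D ⊓ Cfsg.Geo.omegaGL ⇑Q < K ∧
        K < Cfsg.Geo.omegaGL ⇑Q := by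
  set S : Set (ι → F) := {v | Q v = d ∧ ∃ i, v ∈ D i} with hS
  refine ⟨Cfsg.stabilizing (Cfsg.glToMat ι F) S ⊓ Cfsg.Geo.omegaGL ⇑Q, ?_, ?_⟩
  · apply lt_of_le_of_ne
    · intro g hg
      obtain ⟨hgD, hgΩ⟩ := Subgroup.mem_inf.1 hg
      refine Subgroup.mem_inf.2 ⟨?_, hgΩ⟩
      apply mem_stabilizing_of_mapsTo
      rintro v ⟨hv, i, hi⟩
      obtain ⟨σ, hσ⟩ := hgD
      refine ⟨by rw [omegaGL_Q hgΩ, hv], σ i, ?_⟩
      rw [← hσ i]
      exact ⟨v, hi, by rw [Matrix.toLin'_apply]⟩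
    · intro heq
      have hgK : g₁ ∈ Cfsg.stabilizing (Cfsg.glToMat ι F) S ⊓ Cfsg.Geo.omegaGL ⇑Q := by
        refine Subgroup.mem_inf.2 ⟨?_, h₁Ω⟩
        apply mem_stabilizing_of_mapsTo
        rintro v ⟨hv, hi⟩
        exact ⟨by rw [omegaGL_Q h₁Ω, hv], h₁S v hv hi⟩
      rw [← heq] at hgK
      exact h₁D (Subgroup.mem_inf.1 hgK).1
  · apply lt_of_le_of_ne inf_le_right
    intro heq
    obtain ⟨v, hv, hi, hno⟩ := h₂
    rw [← heq] at h₂Ω
    have hgS := (Subgroup.mem_inf.1 h₂Ω).1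
    have : (g₂ : Matrix ι ι F) *ᵥ v ∈ S := (hgS v).1 ⟨hv, hi⟩
    exact hno this.2

/-- an element of the decomposition stabilizer maps members to members -/
theorem stab_maps {t : ℕ} {D : Fin t → Submodule F (ι → F)} {g : Matrix.GeneralLinearGroup ι F}
    (hg : g ∈ Cfsg.Geo.decompositionStabilizer D) :
    ∃ σ : Equiv.Perm (Fin t), ∀ i, ∀ v ∈ D i, (g : Matrix ι ι F) *ᵥ v ∈ D (σ i) := by
  obtain ⟨σ, hσ⟩ := hg
  refine ⟨σ, fun i v hv => ?_⟩
  rw [← hσ i]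
  exact ⟨v, hv, by rw [Matrix.toLin'_apply]⟩

/-- Eichler transformations as elements of `omegaGL`, with their formula -/
theorem exists_eich [Finite F] (hQ : (QuadraticMap.polarBilin Q).Nondegenerate)
    (hn : 7 ≤ Fintype.card ι) (u v : ι → F) (hu : Q u = 0)
    (huv : QuadraticMap.polar (⇑Q) u v = 0) :
    ∃ g : Matrix.GeneralLinearGroup ι F, g ∈ Cfsg.Geo.omegaGL ⇑Q ∧
      ∀ x, (g : Matrix ι ι F) *ᵥ x =
        x + QuadraticMap.polar (⇑Q) u x • v - QuadraticMap.polar (⇑Q) v x • u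
          - (Q v * QuadraticMap.polar (⇑Q) u x) • u :=
  ⟨_, eich_mem_omegaGL hQ hn u v hu huv, fun x => eich_mulVec hQ u v hu huv x⟩

/-- hyperbolic bases of the members of a decomposition into planes of plus type -/
theorem exists_hyp_bases {t : ℕ} (D : Fin t → Submodule F (ι → F))
    (hD : Cfsg.Geo.IsOrthogonalMDecomposition ⇑Q 2 D)
    (hplus : ∀ i, Cfsg.Geo.IsPlusTypeOn ⇑Q (D i)) :
    ∃ e f : Fin t → (ι → F), (∀ i, e i ∈ D i) ∧ (∀ i, f i ∈ D i) ∧ (∀ i, Q (e i) = 0) ∧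
      (∀ i, Q (f i) = 0) ∧ (∀ i, QuadraticMap.polar (⇑Q) (e i) (f i) = 1) ∧
      (∀ i, ∀ w ∈ D i, ∃ s r : F, w = s • e i + r • f i) := by
  have h := fun i => exists_hyp_of_plane (Q := Q) (D i) (hD.decomp.decomp.finrank_eq i)
    (hD.decomp.nondegenerate i) (hplus i)
  choose e f he hf hQe hQf hef hsp using h
  exact ⟨e, f, he, hf, hQe, hQf, hef, hsp⟩

/-- members are pairwise orthogonal (convenient form) -/
theorem orth_of_ne {t k : ℕ} {D : Fin t → Submodule F (ι → F)}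
    (hD : Cfsg.Geo.IsOrthogonalMDecomposition ⇑Q k D) {i j : Fin t} (hij : i ≠ j)
    {x y : ι → F} (hx : x ∈ D i) (hy : y ∈ D j) : QuadraticMap.polar (⇑Q) x y = 0 :=
  hD.decomp.orthogonal i j hij x hx y hy

/-- if `x ∈ D i` pairs nontrivially with some `y ∈ D j` then `i = j` -/
theorem idx_eq_of_polar_ne {t k : ℕ} {D : Fin t → Submodule F (ι → F)}
    (hD : Cfsg.Geo.IsOrthogonalMDecomposition ⇑Q k D) {i j : Fin t}
    {x y : ι → F} (hx : x ∈ D i) (hy : y ∈ D j) (h : QuadraticMap.polar (⇑Q) x y ≠ 0) : i = j := by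
  by_contra hij
  exact h (orth_of_ne hD hij hx hy)

end Cfsg.Agent.S5693Pk
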