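import Mathlib
import Cfsg.Prelude
import Cfsg.Agent.Lib.Helper8.S5693_Base

set_option autoImplicit false

/-! # S5693: pairing table of hyperbolic bases of pairwise orthogonal planes -/

namespace Cfsg.Agent.S5693Pk

open Matrix Cfsg.Agent.H9Orth

variable {F : Type*} [Field F] {ι : Type} [Fintype ι] [DecidableEq ι]
variable {Q : QuadraticForm F (ι → F)}

/-- pairing table of a family of hyperbolic bases of pairwise orthogonal planes -/
theorem hyp_table {t : ℕ} {D : Fin t → Submodule F (ι → F)}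
    (hD : Cfsg.Geo.IsOrthogonalMDecomposition ⇑Q 2 D) (e f : Fin t → (ι → F))
    (he : ∀ i, e i ∈ D i) (hf : ∀ i, f i ∈ D i) (hQe : ∀ i, Q (e i) = 0)
    (hQf : ∀ i, Q (f i) = 0) (hef : ∀ i, QuadraticMap.polar (⇑Q) (e i) (f i) = 1) :
    (∀ i j, QuadraticMap.polar (⇑Q) (e i) (e j) = 0) ∧
    (∀ i j, QuadraticMap.polar (⇑Q) (f i) (f j) = 0) ∧
    (∀ i j, QuadraticMap.polar (⇑Q) (e i) (f j) = if i = j then 1 else 0) ∧
    (∀ i j, QuadraticMap.polar (⇑Q) (f i) (e j) = if i = j then 1 else 0) := by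
  refine ⟨fun i j => ?_, fun i j => ?_, fun i j => ?_, fun i j => ?_⟩
  · by_cases hij : i = j
    · subst hij; rw [QuadraticMap.polar_self, hQe]; simp
    · exact orth_of_ne hD hij (he i) (he j)
  · by_cases hij : i = j
    · subst hij; rw [QuadraticMap.polar_self, hQf]; simp
    · exact orth_of_ne hD hij (hf i) (hf j)
  · by_cases hij : i = j
    · subst hij; rw [hef, if_pos rfl]
    · rw [if_neg hij]; exact orth_of_ne hD hij (he i) (hf j)
  · by_cases hij : i = j
    · subst hij; rw [QuadraticMap.polar_comm, hef, if_pos rfl]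
    · rw [if_neg hij]; exact orth_of_ne hD hij (hf i) (he j)

end Cfsg.Agent.S5693Pk
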