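import Mathlib
import Cfsg.Prelude
import Cfsg.Agent.Lib.Helper8.S5693_Base
import Cfsg.Agent.Lib.Helper8.S5693_Tab
import Cfsg.Agent.Lib.Helper9.TensF2a

set_option autoImplicit false

/-! # S5693, sub-case `k = 2`, plus type, `q = 2`: `O₂⁺(2) ≀ S_t` is not maximal in `Ω` -/

namespace Cfsg.Agent.S5693Pk

open Matrix Cfsg.Agent.H9Orth

variable {F : Type*} [Field F] {ι : Type} [Fintype ι] [DecidableEq ι]
variable {Q : QuadraticForm F (ι → F)}

theorem notmax_c [Fintype F] (hQ : (QuadraticMap.polarBilin Q).Nondegenerate)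
    (hq : Fintype.card F = 2) {t : ℕ} (ht : 7 ≤ t) (D : Fin t → Submodule F (ι → F))
    (hD : Cfsg.Geo.IsOrthogonalMDecomposition ⇑Q 2 D)
    (hplus : ∀ i, Cfsg.Geo.IsPlusTypeOn ⇑Q (D i)) :
    ∃ K : Subgroup (Matrix.GeneralLinearGroup ι F),
      Cfsg.Geo.decompositionStabilizer D ⊓ Cfsg.Geo.omegaGL ⇑Q < K ∧
        K < Cfsg.Geo.omegaGL ⇑Q := by
  classical
  have hcard : 7 ≤ Fintype.card ι := by
    have := decomp_card D hD.decomp.decomp
    omega
  obtain ⟨e, f, he, hf, hQe, hQf, hef, hsp⟩ := exists_hyp_bases D hD hplus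
  obtain ⟨hee, hff, hef', hfe'⟩ := hyp_table hD e f he hf hQe hQf hef
  have h2 : (1 : F) + 1 = 0 := H9TF2.two_eq_zero hq
  have hneg : ∀ x : F, -x = x := fun x => by linear_combination (-x) * h2
  obtain ⟨i0, i1, i2, h01, h02, h12⟩ : ∃ i0 i1 i2 : Fin t, i0 ≠ i1 ∧ i0 ≠ i2 ∧ i1 ≠ i2 :=
    ⟨⟨0, by omega⟩, ⟨1, by omega⟩, ⟨2, by omega⟩,
      by intro h; simpa using congrArg Fin.val h, by intro h; simpa using congrArg Fin.val h,
      by intro h; simpa using congrArg Fin.val h⟩
  have h10 := h01.symm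
  have h20 := h02.symm
  have h21 := h12.symm
  set a : Fin t → (ι → F) := fun i => e i + f i with ha_def
  have ha : ∀ i, a i ∈ D i := fun i => (D i).add_mem (he i) (hf i)
  have hQa : ∀ i, Q (a i) = 1 := by
    intro i
    simp only [ha_def]
    rw [QuadraticMap.map_add Q, hQe, hQf, hef]; ring
  -- pairings with `a`
  have hae : ∀ i j, QuadraticMap.polar (⇑Q) (a i) (e j) = if i = j then 1 else 0 := by
    intro i j
    simp only [ha_def]
    rw [QuadraticMap.polar_add_left, hee, hfe', zero_add]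
  have haf : ∀ i j, QuadraticMap.polar (⇑Q) (a i) (f j) = if i = j then 1 else 0 := by
    intro i j
    simp only [ha_def]
    rw [QuadraticMap.polar_add_left, hff, hef', add_zero]
  have haa : ∀ i j, QuadraticMap.polar (⇑Q) (a i) (a j) = 0 := by
    intro i j
    have : a j = e j + f j := rfl
    rw [this, QuadraticMap.polar_add_right, hae, haf]
    split_ifs
    · exact h2
    · simp
  -- the unique nonsingular vector of a member
  have huniq : ∀ i s, s ∈ D i → Q s = 1 → s = a i := by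
    intro i s hs hQs
    obtain ⟨x, y, rfl⟩ := hsp i s hs
    have hxy : Q (x • e i + y • f i) = x * y := by
      rw [QuadraticMap.map_add Q, QuadraticMap.map_smul, QuadraticMap.map_smul, hQe, hQf,
        QuadraticMap.polar_smul_left, QuadraticMap.polar_smul_right, hef]
      simp
    rw [hxy] at hQs
    rcases H9TF2.eq_zero_or_one hq x with rfl | rfl
    · simp at hQs
    rcases H9TF2.eq_zero_or_one hq y with rfl | rfl
    · simp at hQs
    simp [ha_def]
  -- first witness
  have hQu : Q (a i0 + a i1) = 0 := by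
    rw [QuadraticMap.map_add Q, hQa, hQa, haa]; linear_combination h2
  have huv : QuadraticMap.polar (⇑Q) (a i0 + a i1) (a i2) = 0 := by
    rw [QuadraticMap.polar_add_left, haa, haa, add_zero]
  obtain ⟨g₁, hg₁Ω, hg₁⟩ := exists_eich hQ hcard (a i0 + a i1) (a i2) hQu huv
  have hg₁a : ∀ i, (g₁ : Matrix ι ι F) *ᵥ a i = a i := by
    intro i
    rw [hg₁, QuadraticMap.polar_add_left, haa, haa, haa]
    simp
  -- second witness
  obtain ⟨g₂, hg₂Ω, hg₂⟩ := exists_eich hQ hcard (e i0) (e i1) (hQe i0) (hee i0 i1)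
  refine notmax_of_witnesses D 1 g₁ g₂ hg₁Ω ?_ ?_ hg₂Ω ?_
  · rintro v hv ⟨i, hi⟩
    rw [huniq i v hi hv, hg₁a]
    exact ⟨i, ha i⟩
  · intro hmem
    obtain ⟨σ, hσ⟩ := stab_maps hmem
    have h1 : (g₁ : Matrix ι ι F) *ᵥ a i0 ∈ D (σ i0) := hσ i0 _ (ha i0)
    rw [hg₁a] at h1
    have hσ0 : σ i0 = i0 := by
      apply idx_eq_of_polar_ne hD h1 (he i0)
      rw [hae, if_pos rfl]; exact one_ne_zero
    have h3 : (g₁ : Matrix ι ι F) *ᵥ f i0 ∈ D (σ i0) := hσ i0 _ (hf i0)
    rw [hσ0] at h3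
    have h4 : i0 = i1 := by
      apply idx_eq_of_polar_ne hD h3 (he i1)
      rw [hg₁, QuadraticMap.polar_add_left Q (a i0) (a i1) (f i0), haf, haf, haf, if_pos rfl,
        if_neg h10, if_neg h20, hQa]
      simp only [add_zero, one_smul, zero_smul, sub_zero, mul_one]
      rw [QuadraticMap.polar_sub_left, QuadraticMap.polar_add_left, hfe', if_neg h01, hae,
        if_neg h21, QuadraticMap.polar_add_left, hae, hae, if_neg h01, if_pos rfl]
      simp
    exact h01 h4
  · refine ⟨a i0, hQa i0, ⟨i0, ha i0⟩, ?_⟩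
    rintro ⟨i, hi⟩
    have hval : (g₂ : Matrix ι ι F) *ᵥ a i0 = a i0 + e i1 := by
      rw [hg₂, QuadraticMap.polar_comm (⇑Q) (e i0) (a i0), QuadraticMap.polar_comm (⇑Q) (e i1) (a i0),
        hae, hae, if_pos rfl, if_neg h01, hQe]
      simp
    rw [hval] at hi
    have k0 : i = i0 := by
      apply idx_eq_of_polar_ne hD hi (he i0)
      rw [QuadraticMap.polar_add_left, hae, if_pos rfl, hee, add_zero]; exact one_ne_zero
    have k1 : i = i1 := by
      apply idx_eq_of_polar_ne hD hi (hf i1)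
      rw [QuadraticMap.polar_add_left, haf, if_neg h01, hef', if_pos rfl, zero_add]
      exact one_ne_zero
    exact h01 (k0.symm.trans k1)

end Cfsg.Agent.S5693Pk
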