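import Mathlib
import Cfsg.Prelude
import Cfsg.Agent.Lib.Helper8.S5693_Base
import Cfsg.Agent.Lib.Helper8.S5693_Tab
import Cfsg.Agent.Lib.Helper9.OrthNM10

set_option autoImplicit false

/-! # S5693, sub-case `k = 2`, plus type, `q = 4`: `O₂⁺(4) ≀ S_t` is not maximal in `Ω`
(it preserves the `𝔽₂`-form `V₀ = {Σ xᵢ eᵢ + xᵢ² fᵢ}`) -/

namespace Cfsg.Agent.S5693Pk

open Matrix Cfsg.Agent.H9Orth

variable {F : Type*} [Field F] {ι : Type} [Fintype ι] [DecidableEq ι]
variable {Q : QuadraticForm F (ι → F)}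

theorem f4_pow4 [Fintype F] (hq : Fintype.card F = 4) (x : F) : x ^ 4 = x := by
  have := FiniteField.pow_card x
  rwa [hq] at this

theorem f4_char2 [Fintype F] (hq : Fintype.card F = 4) : (1 : F) + 1 = 0 := by
  obtain ⟨n, hp, hc⟩ := FiniteField.card F (ringChar F)
  rw [hq] at hc
  have hdvd : ringChar F ∣ 4 := by
    rw [hc]; exact dvd_pow_self _ n.ne_zero
  have hp2 : ringChar F = 2 := by
    have h1 : ringChar F ∣ 2 ^ 2 := by simpa using hdvd
    exact (Nat.prime_dvd_prime_iff_eq hp Nat.prime_two).1 (hp.dvd_of_dvd_pow h1)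
  have : ((ringChar F : ℕ) : F) = 0 := ringChar.Nat.cast_ringChar
  rw [hp2] at this
  have h2 : ((2 : ℕ) : F) = 1 + 1 := by norm_num
  rw [← h2]; exact this

theorem f4_cube [Fintype F] (hq : Fintype.card F = 4) {x : F} (hx : x ≠ 0) : x ^ 3 = 1 := by
  have h := f4_pow4 hq x
  have : x * (x ^ 3 - 1) = 0 := by linear_combination h
  rcases mul_eq_zero.1 this with h0 | h0
  · exact absurd h0 hx
  · linear_combination h0

theorem f4_exists_omega [Fintype F] (hq : Fintype.card F = 4) : ∃ w : F, w ≠ 0 ∧ w ≠ 1 := by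
  classical
  by_contra hno
  push Not at hno
  have : (Finset.univ : Finset F) ⊆ {0, 1} := by
    intro x _
    by_cases hx : x = 0
    · simp [hx]
    · simp [hno x hx]
  have h1 := Finset.card_le_card this
  rw [Finset.card_univ, hq] at h1
  have h2 : ({0, 1} : Finset F).card ≤ 2 := Finset.card_le_two
  omega

/-- hyperbolic pairs of a hyperbolic plane -/
theorem hyp_pair_cases (e f p r : ι → F) (hQe : Q e = 0) (hQf : Q f = 0)
    (hef : QuadraticMap.polar (⇑Q) e f = 1) (hp : ∃ s u : F, p = s • e + u • f)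
    (hr : ∃ s u : F, r = s • e + u • f) (hQp : Q p = 0) (hQr : Q r = 0)
    (hpr : QuadraticMap.polar (⇑Q) p r = 1) :
    (∃ l : F, l ≠ 0 ∧ p = l • e ∧ r = l⁻¹ • f) ∨ (∃ l : F, l ≠ 0 ∧ p = l • f ∧ r = l⁻¹ • e) := by
  obtain ⟨x, y, rfl⟩ := hp
  obtain ⟨x', y', rfl⟩ := hr
  have hee : QuadraticMap.polar (⇑Q) e e = 0 := by rw [QuadraticMap.polar_self, hQe]; simp
  have hff : QuadraticMap.polar (⇑Q) f f = 0 := by rw [QuadraticMap.polar_self, hQf]; simp
  have hfe : QuadraticMap.polar (⇑Q) f e = 1 := by rw [QuadraticMap.polar_comm]; exact hef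
  have hq1 : ∀ a b : F, Q (a • e + b • f) = a * b := by
    intro a b
    rw [QuadraticMap.map_add Q, QuadraticMap.map_smul, QuadraticMap.map_smul, hQe, hQf,
      QuadraticMap.polar_smul_left, QuadraticMap.polar_smul_right, hef]
    simp
  rw [hq1] at hQp hQr
  have hpol : x * y' + y * x' = 1 := by
    have := hpr
    simp only [QuadraticMap.polar_add_left, QuadraticMap.polar_add_right,
      QuadraticMap.polar_smul_left, QuadraticMap.polar_smul_right, hee, hff, hef, hfe,
      smul_eq_mul] at this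
    linear_combination this
  rcases mul_eq_zero.1 hQp with rfl | rfl
  · -- p = y f
    right
    have hy : y * x' = 1 := by linear_combination hpol
    have hy0 : y ≠ 0 := by rintro rfl; simp at hy
    have hx'0 : x' ≠ 0 := by rintro rfl; simp at hy
    have hy'0 : y' = 0 := by
      rcases mul_eq_zero.1 hQr with h | h
      · exact absurd h hx'0
      · exact h
    refine ⟨y, hy0, by simp, ?_⟩
    have : x' = y⁻¹ := by field_simp; linear_combination hy
    rw [hy'0, this]; simp
  · left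
    have hx : x * y' = 1 := by linear_combination hpol
    have hx0 : x ≠ 0 := by rintro rfl; simp at hx
    have hy'0 : y' ≠ 0 := by rintro rfl; simp at hx
    have hx'0 : x' = 0 := by
      rcases mul_eq_zero.1 hQr with h | h
      · exact h
      · exact absurd h hy'0
    refine ⟨x, hx0, by simp, ?_⟩
    have : y' = x⁻¹ := by field_simp; linear_combination hx
    rw [hx'0, this]; simp

theorem notmax_d [Fintype F] (hQ : (QuadraticMap.polarBilin Q).Nondegenerate)
    (hq : Fintype.card F = 4) {t : ℕ} (ht : 7 ≤ t) (D : Fin t → Submodule F (ι → F))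
    (hD : Cfsg.Geo.IsOrthogonalMDecomposition ⇑Q 2 D)
    (hplus : ∀ i, Cfsg.Geo.IsPlusTypeOn ⇑Q (D i)) :
    ∃ K : Subgroup (Matrix.GeneralLinearGroup ι F),
      Cfsg.Geo.decompositionStabilizer D ⊓ Cfsg.Geo.omegaGL ⇑Q < K ∧
        K < Cfsg.Geo.omegaGL ⇑Q := by
  classical
  have hcard : 7 ≤ Fintype.card ι := by
    have := decomp_card D hD.decomp.decomp
    omega
  obtain ⟨e, f, he, hf, hQe, hQf, hef, hsp⟩ := exists_hyp_bases D hD hplus
  obtain ⟨hee, hff, hef', hfe'⟩ := hyp_table hD e f he hf hQe hQf hef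
  have h2 : (1 : F) + 1 = 0 := f4_char2 hq
  have hneg : ∀ x : F, -x = x := fun x => by linear_combination (-x) * h2
  have hnegv : ∀ x : ι → F, -x = x := fun x => by
    have : x + x = 0 := by
      rw [← one_smul F x, ← add_smul, h2, zero_smul]
    exact neg_eq_of_add_eq_zero_left this
  have hsq_add : ∀ x y : F, (x + y) ^ 2 = x ^ 2 + y ^ 2 := fun x y => by
    linear_combination (x * y) * h2
  obtain ⟨w, hw0, hw1⟩ := f4_exists_omega hq
  obtain ⟨i0, i1, i2, h01, h02, h12⟩ : ∃ i0 i1 i2 : Fin t, i0 ≠ i1 ∧ i0 ≠ i2 ∧ i1 ≠ i2 :=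
    ⟨⟨0, by omega⟩, ⟨1, by omega⟩, ⟨2, by omega⟩,
      by intro h; simpa using congrArg Fin.val h, by intro h; simpa using congrArg Fin.val h,
      by intro h; simpa using congrArg Fin.val h⟩
  have h10 := h01.symm
  have h20 := h02.symm
  have h21 := h12.symm
  obtain ⟨a, ha_def⟩ : ∃ a : Fin t → (ι → F), a = fun i => e i + f i := ⟨_, rfl⟩
  have ha : ∀ i, a i ∈ D i := fun i => by rw [ha_def]; exact (D i).add_mem (he i) (hf i)
  have hQa : ∀ i, Q (a i) = 1 := by
    intro i
    simp only [ha_def]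
    rw [QuadraticMap.map_add Q, hQe, hQf, hef]; ring
  have hae : ∀ i j, QuadraticMap.polar (⇑Q) (a i) (e j) = if i = j then 1 else 0 := by
    intro i j
    simp only [ha_def]
    rw [QuadraticMap.polar_add_left, hee, hfe', zero_add]
  have haf : ∀ i j, QuadraticMap.polar (⇑Q) (a i) (f j) = if i = j then 1 else 0 := by
    intro i j
    simp only [ha_def]
    rw [QuadraticMap.polar_add_left, hff, hef', add_zero]
  have haa : ∀ i j, QuadraticMap.polar (⇑Q) (a i) (a j) = 0 := by
    intro i j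
    have : a j = e j + f j := by rw [ha_def]
    rw [this, QuadraticMap.polar_add_right, hae, haf]
    split_ifs
    · exact h2
    · simp
  -- the `𝔽₂`-form
  set V₀ : Set (ι → F) := {v | ∀ i, QuadraticMap.polar (⇑Q) v (e i) =
    (QuadraticMap.polar (⇑Q) v (f i)) ^ 2} with hV₀
  have hV_add : ∀ x y, x ∈ V₀ → y ∈ V₀ → x + y ∈ V₀ := by
    intro x y hx hy i
    rw [QuadraticMap.polar_add_left, QuadraticMap.polar_add_left, hsq_add, hx i, hy i]
  have hV_smul : ∀ (c : F) x, c ^ 2 = c → x ∈ V₀ → c • x ∈ V₀ := by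
    intro c x hc hx i
    rw [QuadraticMap.polar_smul_left, QuadraticMap.polar_smul_left, hx i, smul_eq_mul,
      smul_eq_mul, mul_pow, hc]
  have hV_a : ∀ i, a i ∈ V₀ := by
    intro i j
    rw [hae, haf]
    split_ifs <;> simp
  -- pairing of `a i` with elements of `V₀` lies in `𝔽₂`
  have hV_pair : ∀ i x, x ∈ V₀ → (QuadraticMap.polar (⇑Q) (a i) x) ^ 2 =
      QuadraticMap.polar (⇑Q) (a i) x := by
    intro i x hx
    have h1 : QuadraticMap.polar (⇑Q) (a i) x =
        QuadraticMap.polar (⇑Q) x (e i) + QuadraticMap.polar (⇑Q) x (f i) := by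
      rw [QuadraticMap.polar_comm, ha_def, QuadraticMap.polar_add_right]
    rw [h1, hx i, hsq_add, ← pow_mul, f4_pow4 hq]
    ring
  -- witnesses
  have hQu : Q (a i0 + a i1) = 0 := by
    rw [QuadraticMap.map_add Q, hQa, hQa, haa]; linear_combination h2
  have huv : QuadraticMap.polar (⇑Q) (a i0 + a i1) (a i2) = 0 := by
    rw [QuadraticMap.polar_add_left, haa, haa, add_zero]
  have huv' : QuadraticMap.polar (⇑Q) (a i0 + a i1) (w • a i2) = 0 := by
    rw [QuadraticMap.polar_smul_right, huv, smul_zero]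
  obtain ⟨g₁, hg₁Ω, hg₁⟩ := exists_eich hQ hcard (a i0 + a i1) (a i2) hQu huv
  obtain ⟨g₂, hg₂Ω, hg₂⟩ := exists_eich hQ hcard (a i0 + a i1) (w • a i2) hQu huv'
  refine ⟨Cfsg.stabilizing (Cfsg.glToMat ι F) V₀ ⊓ Cfsg.Geo.omegaGL ⇑Q, ?_, ?_⟩
  · apply lt_of_le_of_ne
    · -- the decomposition stabilizer preserves the `𝔽₂`-form
      intro g hg
      obtain ⟨hgD, hgΩ⟩ := Subgroup.mem_inf.1 hg
      refine Subgroup.mem_inf.2 ⟨?_, hgΩ⟩
      apply mem_stabilizing_of_mapsTo
      intro v hv j
      have hg'D : g⁻¹ ∈ Cfsg.Geo.decompositionStabilizer D := Subgroup.inv_mem _ hgD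
      have hg'Ω : g⁻¹ ∈ Cfsg.Geo.omegaGL ⇑Q := Subgroup.inv_mem _ hgΩ
      obtain ⟨σ, hσ⟩ := stab_maps hg'D
      set p := ((g⁻¹ : Matrix.GeneralLinearGroup ι F) : Matrix ι ι F) *ᵥ e j with hp
      set r := ((g⁻¹ : Matrix.GeneralLinearGroup ι F) : Matrix ι ι F) *ᵥ f j with hr
      have hgg : ∀ x, (g : Matrix ι ι F) *ᵥ
          (((g⁻¹ : Matrix.GeneralLinearGroup ι F) : Matrix ι ι F) *ᵥ x) = x := by
        intro x
        rw [Matrix.mulVec_mulVec, ← Units.val_mul, mul_inv_cancel, Units.val_one,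
          Matrix.one_mulVec]
      have e1 : QuadraticMap.polar (⇑Q) ((g : Matrix ι ι F) *ᵥ v) (e j) =
          QuadraticMap.polar (⇑Q) v p := by
        conv_lhs => rw [← hgg (e j)]
        rw [omegaGL_polar hgΩ]
      have e2 : QuadraticMap.polar (⇑Q) ((g : Matrix ι ι F) *ᵥ v) (f j) =
          QuadraticMap.polar (⇑Q) v r := by
        conv_lhs => rw [← hgg (f j)]
        rw [omegaGL_polar hgΩ]
      rw [e1, e2]
      have hpD : p ∈ D (σ j) := hσ j _ (he j)
      have hrD : r ∈ D (σ j) := hσ j _ (hf j)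
      have hQp : Q p = 0 := by rw [hp, omegaGL_Q hg'Ω, hQe]
      have hQr : Q r = 0 := by rw [hr, omegaGL_Q hg'Ω, hQf]
      have hpr : QuadraticMap.polar (⇑Q) p r = 1 := by rw [hp, hr, omegaGL_polar hg'Ω, hef]
      rcases hyp_pair_cases (e (σ j)) (f (σ j)) p r (hQe _) (hQf _) (hef _) (hsp _ p hpD)
        (hsp _ r hrD) hQp hQr hpr with ⟨l, hl, h1, h2'⟩ | ⟨l, hl, h1, h2'⟩
      · rw [h1, h2', QuadraticMap.polar_smul_right, QuadraticMap.polar_smul_right, hv (σ j),
          smul_eq_mul, smul_eq_mul, mul_pow]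
        have hl3 := f4_cube hq hl
        have : (l⁻¹) ^ 2 = l := by
          field_simp
          linear_combination -hl3
        rw [this]
      · rw [h1, h2', QuadraticMap.polar_smul_right, QuadraticMap.polar_smul_right, hv (σ j),
          smul_eq_mul, smul_eq_mul, mul_pow, ← pow_mul, f4_pow4 hq]
        have hl3 := f4_cube hq hl
        have : (l⁻¹) ^ 2 = l := by
          field_simp
          linear_combination -hl3
        rw [this]
    · intro heq
      have hgK : g₁ ∈ Cfsg.stabilizing (Cfsg.glToMat ι F) V₀ ⊓ Cfsg.Geo.omegaGL ⇑Q := by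
        refine Subgroup.mem_inf.2 ⟨?_, hg₁Ω⟩
        apply mem_stabilizing_of_mapsTo
        intro x hx
        rw [hg₁, hQa, one_mul]
        have c1 : (QuadraticMap.polar (⇑Q) (a i0 + a i1) x) ^ 2 =
            QuadraticMap.polar (⇑Q) (a i0 + a i1) x := by
          rw [QuadraticMap.polar_add_left, hsq_add, hV_pair _ _ hx, hV_pair _ _ hx]
        have c2 := hV_pair i2 x hx
        have hu_mem : a i0 + a i1 ∈ V₀ := hV_add _ _ (hV_a i0) (hV_a i1)
        rw [sub_eq_add_neg, sub_eq_add_neg, hnegv, hnegv]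
        exact hV_add _ _ (hV_add _ _ (hV_add _ _ hx (hV_smul _ _ c1 (hV_a i2)))
          (hV_smul _ _ c2 hu_mem)) (hV_smul _ _ c1 hu_mem)
      rw [← heq] at hgK
      obtain ⟨σ, hσ⟩ := stab_maps (Subgroup.mem_inf.1 hgK).1
      have hg₁a : (g₁ : Matrix ι ι F) *ᵥ a i0 = a i0 := by
        rw [hg₁, QuadraticMap.polar_add_left, haa, haa, haa]
        simp
      have m1 : (g₁ : Matrix ι ι F) *ᵥ a i0 ∈ D (σ i0) := hσ i0 _ (ha i0)
      rw [hg₁a] at m1
      have hσ0 : σ i0 = i0 := by
        apply idx_eq_of_polar_ne hD m1 (he i0)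
        rw [hae, if_pos rfl]; exact one_ne_zero
      have m3 : (g₁ : Matrix ι ι F) *ᵥ f i0 ∈ D (σ i0) := hσ i0 _ (hf i0)
      rw [hσ0] at m3
      have h4 : i0 = i1 := by
        apply idx_eq_of_polar_ne hD m3 (he i1)
        rw [hg₁, QuadraticMap.polar_add_left Q (a i0) (a i1) (f i0), haf, haf, haf, if_pos rfl,
          if_neg h10, if_neg h20, hQa]
        simp only [add_zero, one_smul, zero_smul, sub_zero, mul_one]
        rw [QuadraticMap.polar_sub_left, QuadraticMap.polar_add_left, hfe', if_neg h01, hae,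
          if_neg h21, QuadraticMap.polar_add_left, hae, hae, if_neg h01, if_pos rfl]
        simp
      exact h01 h4
  · apply lt_of_le_of_ne inf_le_right
    intro heq
    rw [← heq] at hg₂Ω
    have hgS := (Subgroup.mem_inf.1 hg₂Ω).1
    -- the vector `b = w e₀ + w² f₀` of the `𝔽₂`-form
    set b := w • e i0 + (w ^ 2) • f i0 with hb
    have hbe : ∀ j, QuadraticMap.polar (⇑Q) b (e j) = if i0 = j then w ^ 2 else 0 := by
      intro j
      rw [hb, QuadraticMap.polar_add_left, QuadraticMap.polar_smul_left,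
        QuadraticMap.polar_smul_left, hee, hfe']
      split_ifs <;> simp
    have hbf : ∀ j, QuadraticMap.polar (⇑Q) b (f j) = if i0 = j then w else 0 := by
      intro j
      rw [hb, QuadraticMap.polar_add_left, QuadraticMap.polar_smul_left,
        QuadraticMap.polar_smul_left, hff, hef']
      split_ifs <;> simp
    have hbV : b ∈ V₀ := by
      intro j
      rw [hbe, hbf]
      split_ifs <;> simp
    have hw2 : w ^ 2 + w = 1 := by
      have h3 := f4_cube hq hw0
      have : (w - 1) * (w ^ 2 + w + 1) = 0 := by linear_combination h3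
      rcases mul_eq_zero.1 this with h | h
      · exact absurd (by linear_combination h) hw1
      · linear_combination h - h2
    have hab : ∀ i, QuadraticMap.polar (⇑Q) (a i) b = if i = i0 then 1 else 0 := by
      intro i
      rw [QuadraticMap.polar_comm, ha_def]
      simp only
      rw [QuadraticMap.polar_add_right, hbe, hbf]
      by_cases hi : i = i0
      · subst hi; rw [if_pos rfl, if_pos rfl, if_pos rfl]; exact hw2
      · rw [if_neg (Ne.symm hi), if_neg (Ne.symm hi), if_neg hi]; simp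
    have hout : (g₂ : Matrix ι ι F) *ᵥ b ∈ V₀ := (hgS b).1 hbV
    have hval : (g₂ : Matrix ι ι F) *ᵥ b = b + w • a i2 - (w ^ 2) • (a i0 + a i1) := by
      rw [hg₂, QuadraticMap.polar_add_left, hab, hab, if_pos rfl, if_neg h10,
        QuadraticMap.polar_smul_left, hab, if_neg h20, QuadraticMap.map_smul, hQa]
      simp only [add_zero, one_smul, zero_smul, sub_zero, mul_one, mul_zero, smul_eq_mul]
      rw [pow_two]
    rw [hval] at hout
    have h5 := hout i2
    simp only [QuadraticMap.polar_sub_left, QuadraticMap.polar_add_left,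
      QuadraticMap.polar_smul_left, hbe, hbf, hae, haf, if_neg h02, if_neg h12, if_true,
      smul_eq_mul, zero_add, add_zero, mul_one, mul_zero, sub_zero] at h5
    -- h5 : w = w ^ 2
    have : w * (w - 1) = 0 := by linear_combination -h5
    rcases mul_eq_zero.1 this with h | h
    · exact hw0 h
    · exact hw1 (by linear_combination h)

end Cfsg.Agent.S5693Pk
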