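import Mathlib

/-! # S2480 PK-PB: Burnside for a central quotient -/

set_option autoImplicit false

namespace Cfsg.Agent.Lib.Helper5.SLClass

namespace PB

variable {S : Type*} [Group S]

/-- multiplication by a central element on conjugacy classes -/
def smulCl (Z : Subgroup S) (hZ : Z ≤ Subgroup.center S) (z : Z) : ConjClasses S → ConjClasses S :=
  Quotient.map (fun x => (z : S) * x) (by
    intro x y h
    obtain ⟨c, hc⟩ := isConj_iff.mp h
    refine isConj_iff.mpr ⟨c, ?_⟩
    have hz := Subgroup.mem_center_iff.mp (hZ z.2) c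
    calc c * ((z : S) * x) * c⁻¹ = (c * (z : S)) * x * c⁻¹ := by group
      _ = (z : S) * (c * x * c⁻¹) := by rw [hz]; group
      _ = (z : S) * y := by rw [hc])

theorem smulCl_mk (Z : Subgroup S) (hZ : Z ≤ Subgroup.center S) (z : Z) (x : S) :
    smulCl Z hZ z (ConjClasses.mk x) = ConjClasses.mk ((z : S) * x) := rfl

/-- the action of a central subgroup on the conjugacy classes -/
@[instance_reducible]
def action (Z : Subgroup S) (hZ : Z ≤ Subgroup.center S) : MulAction Z (ConjClasses S) where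
  smul z C := smulCl Z hZ z C
  one_smul C := by
    obtain ⟨x, rfl⟩ := ConjClasses.exists_rep C
    show smulCl Z hZ 1 (ConjClasses.mk x) = _
    rw [smulCl_mk]; simp
  mul_smul z₁ z₂ C := by
    obtain ⟨x, rfl⟩ := ConjClasses.exists_rep C
    show smulCl Z hZ (z₁ * z₂) (ConjClasses.mk x) = smulCl Z hZ z₁ (smulCl Z hZ z₂ (ConjClasses.mk x))
    rw [smulCl_mk, smulCl_mk, smulCl_mk]
    simp [mul_assoc]

theorem map_eq_iff (Z : Subgroup S) [Z.Normal] (hZ : Z ≤ Subgroup.center S) (x y : S) :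
    ConjClasses.map (QuotientGroup.mk' Z) (ConjClasses.mk x) =
      ConjClasses.map (QuotientGroup.mk' Z) (ConjClasses.mk y) ↔
    ∃ z : Z, smulCl Z hZ z (ConjClasses.mk x) = ConjClasses.mk y := by
  simp only [ConjClasses.map, smulCl_mk]
  show ConjClasses.mk (QuotientGroup.mk' Z x) = ConjClasses.mk (QuotientGroup.mk' Z y) ↔ _
  rw [ConjClasses.mk_eq_mk_iff_isConj, isConj_iff]
  constructor
  · rintro ⟨c, hc⟩
    obtain ⟨g, rfl⟩ := QuotientGroup.mk'_surjective Z c
    have h1 : QuotientGroup.mk' Z (g * x * g⁻¹) = QuotientGroup.mk' Z y := by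
      simpa using hc
    have h2 : (g * x * g⁻¹)⁻¹ * y ∈ Z := by
      rw [← QuotientGroup.eq]
      exact h1
    refine ⟨⟨(g * x * g⁻¹)⁻¹ * y, h2⟩, ?_⟩
    rw [ConjClasses.mk_eq_mk_iff_isConj, isConj_iff]
    refine ⟨g, ?_⟩
    have hz := Subgroup.mem_center_iff.mp (hZ h2) g
    have hz' := Subgroup.mem_center_iff.mp (hZ h2) (g * x * g⁻¹)
    calc g * ((g * x * g⁻¹)⁻¹ * y * x) * g⁻¹
        = (g * ((g * x * g⁻¹)⁻¹ * y)) * x * g⁻¹ := by group
      _ = ((g * x * g⁻¹)⁻¹ * y) * g * x * g⁻¹ := by rw [hz]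
      _ = ((g * x * g⁻¹)⁻¹ * y) * (g * x * g⁻¹) := by group
      _ = (g * x * g⁻¹) * ((g * x * g⁻¹)⁻¹ * y) := by rw [hz']
      _ = y := by group
  · rintro ⟨z, hz⟩
    rw [ConjClasses.mk_eq_mk_iff_isConj, isConj_iff] at hz
    obtain ⟨g, hg⟩ := hz
    refine ⟨QuotientGroup.mk' Z g, ?_⟩
    rw [← hg]
    have : QuotientGroup.mk' Z (z : S) = 1 := by
      rw [QuotientGroup.mk'_apply, QuotientGroup.eq_one_iff]; exact z.2
    simp only [map_mul, map_inv, this, one_mul]

end PB

open PB in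
theorem card_mul_card_conjClasses_quot {S : Type*} [Group S] [Finite S] (Z : Subgroup S)
    [Z.Normal] [Fintype Z] (hZ : Z ≤ Subgroup.center S) :
    Nat.card Z * Nat.card (ConjClasses (S ⧸ Z)) =
      ∑ z : Z, Nat.card {C : ConjClasses S // ∃ x : S, ConjClasses.mk x = C ∧
        IsConj x ((z : S) * x)} := by
  classical
  let _ : MulAction Z (ConjClasses S) := action Z hZ
  have hsm : ∀ (z : Z) (C : ConjClasses S), z • C = smulCl Z hZ z C := fun _ _ => rfl
  have : Fintype (ConjClasses S) := Fintype.ofFinite _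
  have : Fintype (Quotient (MulAction.orbitRel Z (ConjClasses S))) := Fintype.ofFinite _
  have hB := MulAction.sum_card_fixedBy_eq_card_orbits_mul_card_group Z (ConjClasses S)
  -- orbits ≃ classes of the quotient
  have hequiv : Nat.card (Quotient (MulAction.orbitRel Z (ConjClasses S))) =
      Nat.card (ConjClasses (S ⧸ Z)) := by
    apply Nat.card_congr
    refine Equiv.ofBijective (Quotient.lift (ConjClasses.map (QuotientGroup.mk' Z)) ?_) ⟨?_, ?_⟩
    · intro C D h
      -- h : C ∈ orbit Z D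
      obtain ⟨z, hz⟩ := h
      obtain ⟨x, rfl⟩ := ConjClasses.exists_rep C
      obtain ⟨y, rfl⟩ := ConjClasses.exists_rep D
      exact ((map_eq_iff Z hZ y x).mpr ⟨z, by rw [← hsm]; exact hz⟩).symm
    · intro a b
      induction a using Quotient.inductionOn with | _ C =>
      induction b using Quotient.inductionOn with | _ D =>
      intro h
      simp only [Quotient.lift_mk] at h
      obtain ⟨x, rfl⟩ := ConjClasses.exists_rep C
      obtain ⟨y, rfl⟩ := ConjClasses.exists_rep D
      obtain ⟨z, hz⟩ := (map_eq_iff Z hZ x y).mp h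
      apply Quotient.sound
      -- mk x ∈ orbit of mk y : mk y = z • mk x ⇒ mk x = z⁻¹ • mk y
      refine ⟨z⁻¹, ?_⟩
      show z⁻¹ • ConjClasses.mk y = ConjClasses.mk x
      rw [← hz, ← hsm, inv_smul_smul]
    · intro c
      obtain ⟨C, rfl⟩ := ConjClasses.map_surjective (QuotientGroup.mk'_surjective Z) c
      exact ⟨Quotient.mk _ C, rfl⟩
  rw [Nat.card_eq_fintype_card (α := Z), mul_comm, ← hequiv, Nat.card_eq_fintype_card, ← hB]
  apply Finset.sum_congr rfl
  intro z _
  rw [← Nat.card_eq_fintype_card]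
  apply Nat.card_congr
  refine Equiv.subtypeEquivRight ?_
  intro C
  rw [MulAction.mem_fixedBy, hsm]
  constructor
  · intro h
    obtain ⟨x, rfl⟩ := ConjClasses.exists_rep C
    refine ⟨x, rfl, ?_⟩
    rw [smulCl_mk, ConjClasses.mk_eq_mk_iff_isConj] at h
    exact h.symm
  · rintro ⟨x, rfl, h⟩
    rw [smulCl_mk, ConjClasses.mk_eq_mk_iff_isConj]
    exact h.symm

end Cfsg.Agent.Lib.Helper5.SLClass
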