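import Mathlib
import Cfsg.Agent.Lib.Helper5.SUf.Defs2
import Cfsg.Agent.Lib.Helper5.Subf_F
import Cfsg.Agent.Lib.Helper5.SUf.Geo2

set_option autoImplicit false

/-!
# S5658 PK-ODD2: a vector with rational "products" is a multiple of a rational vector (`proj_rat`)
-/

namespace Cfsg.Agent.Lib.Helper5.SUf

open Matrix Cfsg.Agent.Lib.Helper7.Subf

variable {F : Type*} [Field F] {n : ℕ} {F₀ : Subfield F} {σ : F ≃+* F}
  {J : Matrix (Fin n) (Fin n) F}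

namespace PkOdd2

/-- additive closure: `l * bf w y ∈ F₀` for all rational `y ⊥ a, b` as soon as this holds for the
rational isotropic ones -/
theorem mem_of_iso [Finite F] (hn : 13 ≤ n) (hU : USet F₀ σ J) {w a b : Fin n → F} {l : F}
    (ha : Rat F₀ a) (hb : Rat F₀ b)
    (h : ∀ v, Rat F₀ v → bf σ J v v = 0 → bf σ J v a = 0 → bf σ J v b = 0 → l * bf σ J w v ∈ F₀)
    {y : Fin n → F} (hy : Rat F₀ y) (hya : bf σ J y a = 0) (hyb : bf σ J y b = 0) :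
    l * bf σ J w y ∈ F₀ := by
  obtain ⟨z, hz, rfl⟩ := iso_span hn hU hy ha hb hya hyb
  rw [bf_add_right, bf_add_right, mul_add, mul_add]
  exact F₀.add_mem (F₀.add_mem (h _ (hz 0).1 (hz 0).2.1 (hz 0).2.2.1 (hz 0).2.2.2)
    (h _ (hz 1).1 (hz 1).2.1 (hz 1).2.2.1 (hz 1).2.2.2))
    (h _ (hz 2).1 (hz 2).2.1 (hz 2).2.2.1 (hz 2).2.2.2)

/-- the same with `l = 1` and value zero: a functional `bf w ·` vanishing on the rational isotropic vectors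
`⊥ a, b` vanishes on all rational vectors `⊥ a, b` -/
theorem zero_of_iso [Finite F] (hn : 13 ≤ n) (hU : USet F₀ σ J) {w a b : Fin n → F}
    (ha : Rat F₀ a) (hb : Rat F₀ b)
    (h : ∀ v, Rat F₀ v → bf σ J v v = 0 → bf σ J v a = 0 → bf σ J v b = 0 → bf σ J w v = 0)
    {y : Fin n → F} (hy : Rat F₀ y) (hya : bf σ J y a = 0) (hyb : bf σ J y b = 0) :
    bf σ J w y = 0 := by
  obtain ⟨z, hz, rfl⟩ := iso_span hn hU hy ha hb hya hyb
  rw [bf_add_right, bf_add_right, h _ (hz 0).1 (hz 0).2.1 (hz 0).2.2.1 (hz 0).2.2.2,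
    h _ (hz 1).1 (hz 1).2.1 (hz 1).2.2.1 (hz 1).2.2.2,
    h _ (hz 2).1 (hz 2).2.1 (hz 2).2.2.1 (hz 2).2.2.2]
  simp

end PkOdd2

open PkOdd2

theorem proj_rat [Finite F] (hn : 13 ≤ n) (hU : USet F₀ σ J) {w : Fin n → F} (hw : w ≠ 0)
    (h : ∀ v₁ v₂, Rat F₀ v₁ → Rat F₀ v₂ → bf σ J v₁ v₁ = 0 → bf σ J v₂ v₂ = 0 → bf σ J v₁ v₂ = 0 →
      bf σ J w v₁ * σ (bf σ J w v₂) ∈ F₀) :
    ∃ l : F, l ≠ 0 ∧ Rat F₀ (l • w) := by
  obtain ⟨v₁, hv₁, hv₁v₁, hΦ⟩ := exists_iso_bf_ne hn hU hw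
  have hv₁0 : v₁ ≠ 0 := by
    rintro rfl
    exact hΦ (bf_zero_right _)
  obtain ⟨f₁, hf₁, hf₁f₁, hvf⟩ := exists_partner hU hv₁ hv₁0 hv₁v₁
  have hfv : bf σ J f₁ v₁ = 1 := by rw [hU.bf_symm v₁ f₁, hvf, map_one]
  obtain ⟨l, hl⟩ : ∃ l : F, l = σ (bf σ J w v₁) := ⟨_, rfl⟩
  have hσl : σ l = bf σ J w v₁ := by rw [hl, hU.invol]
  have hl0 : l ≠ 0 := by
    rw [hl]
    exact (map_ne_zero σ).2 hΦ
  have hσl0 : σ l ≠ 0 := (map_ne_zero σ).2 hl0
  refine ⟨l, hl0, rat_of_forall_bf_mem hU ?_⟩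
  -- step 1: `l * Φ v ∈ F₀` for rational isotropic `v ⊥ v₁`
  have h1 : ∀ v, Rat F₀ v → bf σ J v v = 0 → bf σ J v v₁ = 0 → l * bf σ J w v ∈ F₀ := by
    intro v hv hvv hvv₁
    have := h v v₁ hv hv₁ hvv hv₁v₁ hvv₁
    rwa [← hl, mul_comm] at this
  -- step 2: for all rational `y ⊥ v₁`
  have h2 : ∀ y, Rat F₀ y → bf σ J y v₁ = 0 → l * bf σ J w y ∈ F₀ := fun y hy hyv =>
    mem_of_iso hn hU hv₁ hv₁ (fun v hv hvv hva _ => h1 v hv hvv hva) hy hyv hyv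
  have hll : l * σ l ∈ F₀ := by
    have := h v₁ v₁ hv₁ hv₁ hv₁v₁ hv₁v₁ hv₁v₁
    rwa [← hl, ← hσl, mul_comm] at this
  -- key: `l * Φ f₁ ∈ F₀`
  have hkey : l * bf σ J w f₁ ∈ F₀ := by
    by_cases hB : ∀ v, Rat F₀ v → bf σ J v v = 0 → bf σ J v v₁ = 0 → bf σ J v f₁ = 0 →
        bf σ J w v = 0
    · -- case B
      obtain ⟨z', z, hz', hz, hz'z', hzz, hz'z, hperp⟩ :=
        exists_hyp_perp hn hU ![v₁, f₁, 0, 0, 0] (by
          intro i
          fin_cases i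
          · exact hv₁
          · exact hf₁
          · exact Rat.zero F₀
          · exact Rat.zero F₀
          · exact Rat.zero F₀)
      have p0 := hperp 0
      have p1 := hperp 1
      simp only [Matrix.cons_val_zero, Matrix.cons_val_one] at p0 p1
      have hΦz' : bf σ J w z' = 0 := hB z' hz' hz'z' p0.1 p1.1
      have hΦz : bf σ J w z = 0 := hB z hz hzz p0.2 p1.2
      have e1 : bf σ J v₁ z' = 0 := hU.bf_eq_zero_symm p0.1
      have e2 : bf σ J v₁ z = 0 := hU.bf_eq_zero_symm p0.2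
      have e3 : bf σ J f₁ z' = 0 := hU.bf_eq_zero_symm p1.1
      have e4 : bf σ J f₁ z = 0 := hU.bf_eq_zero_symm p1.2
      have q1 : bf σ J (v₁ - z') (v₁ - z') = 0 := by
        rw [bf_sub_left, bf_sub_right, bf_sub_right, hv₁v₁, e1, p0.1, hz'z']
        ring
      have q2 : bf σ J (f₁ + z) (f₁ + z) = 0 := by
        rw [bf_add_left, bf_add_right, bf_add_right, hf₁f₁, e4, p1.2, hzz]
        ring
      have q3 : bf σ J (v₁ - z') (f₁ + z) = 0 := by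
        rw [bf_sub_left, bf_add_right, bf_add_right, hvf, e2, p1.1, hz'z]
        ring
      have := h (v₁ - z') (f₁ + z) (hv₁.sub hz') (hf₁.add hz) q1 q2 q3
      rw [bf_sub_right, bf_add_right, hΦz', hΦz, sub_zero, add_zero] at this
      have h3 := hU.stable _ this
      rwa [map_mul, hU.invol, ← hl] at h3
    · -- case A
      push Not at hB
      obtain ⟨v₂, hv₂, hv₂v₂, hv₂v₁, hv₂f₁, hΦ₂⟩ := hB
      have hA := h f₁ v₂ hf₁ hv₂ hf₁f₁ hv₂v₂ (hU.bf_eq_zero_symm hv₂f₁)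
      have hB' := hU.stable _ (h1 v₂ hv₂ hv₂v₂ hv₂v₁)
      have hσΦ₂ : σ (bf σ J w v₂) ≠ 0 := (map_ne_zero σ).2 hΦ₂
      have e : l * bf σ J w f₁ =
          (l * σ l) * (bf σ J w f₁ * σ (bf σ J w v₂)) * (σ (l * bf σ J w v₂))⁻¹ := by
        rw [map_mul]
        field_simp
      rw [e]
      exact F₀.mul_mem (F₀.mul_mem hll hA) (F₀.inv_mem hB')
  -- conclusion
  intro y hy
  have hc : bf σ J y v₁ ∈ F₀ := hU.bf_rat hy hv₁
  have hy' : bf σ J (y - bf σ J y v₁ • f₁) v₁ = 0 := by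
    rw [bf_sub_left, bf_smul_left, hfv, mul_one, sub_self]
  have h4 := h2 _ (hy.sub (Rat.smul hc hf₁)) hy'
  have e : bf σ J (l • w) y =
      l * bf σ J w (y - bf σ J y v₁ • f₁) + σ (bf σ J y v₁) * (l * bf σ J w f₁) := by
    rw [bf_smul_left, bf_sub_right, bf_smul_right]
    ring
  rw [e]
  exact F₀.add_mem h4 (F₀.mul_mem (hU.stable _ hc) hkey)

end Cfsg.Agent.Lib.Helper5.SUf
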