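import Mathlib
import Cfsg.Agent.Lib.Helper5.SUf.Defs2
import Cfsg.Agent.Lib.Helper5.Subf_F
import Cfsg.Agent.Lib.Lead.SUf_Field
import Cfsg.Agent.Lib.Helper5.SUf.Geo2

set_option autoImplicit false
set_option linter.unusedSectionVars false
set_option linter.unusedVariables false

/-!
# S5658 PK-SL3a: the stabiliser of a rational isotropic point preserves the rational points of
its orthogonal complement (up to a scalar)
-/

namespace Cfsg.Agent.Lib.Helper5.SUf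

open Matrix Cfsg.Agent.Lib.Helper7.Subf

variable {F : Type*} [Field F] {n : ℕ} {F₀ : Subfield F} {σ : F ≃+* F}
  {J : Matrix (Fin n) (Fin n) F}

namespace PkSL3a

variable {M : Subgroup (GL (Fin n) F)}

/-- splitting off the `v`-component of the second vector of a short root element. -/
theorem eu_split (hinv : ∀ a, σ (σ a) = a) {v u₀ : Fin n → F} (hvv : bf σ J v v = 0)
    (hvu : bf σ J v u₀ = 0) (ξ : F) :
    eu σ J 1 v (u₀ + ξ • v) = eu σ J 1 v u₀ * tu σ J (σ ξ - ξ) v := by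
  rw [Matrix.ext_iff_mulVec]
  intro x
  rw [← mulVec_mulVec, tu_mulVec, eu_mulVec, eu_mulVec]
  simp only [bf_add_left, bf_smul_left, bf_add_right, bf_smul_right, hvv, hvu, map_one, one_mul,
    mul_zero, add_zero, smul_add, smul_smul]
  funext i
  simp only [Pi.add_apply, Pi.sub_apply, Pi.smul_apply, smul_eq_mul]
  ring

/-- images under the stabilising element. -/
theorem bf_v_m (hM : MIso σ J M) (m : GL (Fin n) F) (hm : m ∈ M) {v : Fin n → F} {l : F}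
    (hl : l ≠ 0) (hmv : (m : Matrix (Fin n) (Fin n) F) *ᵥ v = l • v) {y : Fin n → F}
    (hvy : bf σ J v y = 0) : bf σ J v ((m : Matrix (Fin n) (Fin n) F) *ᵥ y) = 0 := by
  have h1 := (hM m hm).1 v y
  rw [hmv, bf_smul_left, hvy] at h1
  rcases mul_eq_zero.1 h1 with h | h
  · exact absurd h hl
  · exact h

theorem bf_m_v (hU : USet F₀ σ J) (hM : MIso σ J M) (m : GL (Fin n) F) (hm : m ∈ M)
    {v : Fin n → F} {l : F} (hl : l ≠ 0)
    (hmv : (m : Matrix (Fin n) (Fin n) F) *ᵥ v = l • v) {y : Fin n → F}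
    (hyv : bf σ J y v = 0) : bf σ J ((m : Matrix (Fin n) (Fin n) F) *ᵥ y) v = 0 :=
  hU.bf_eq_zero_symm (bf_v_m hM m hm hl hmv (hU.bf_eq_zero_symm hyv))

/-- step (a) for isotropic vectors. -/
theorem step_a [Finite F] (hU : USet F₀ σ J) (hM : MIso σ J M)
    (hN : HasNIso F₀ σ J M) (hL : LRat F₀ σ J M) (m : GL (Fin n) F) (hm : m ∈ M)
    {v : Fin n → F} (hv : Rat F₀ v) (hv0 : v ≠ 0) (hvv : bf σ J v v = 0) {l : F} (hl : l ≠ 0)
    (hmv : (m : Matrix (Fin n) (Fin n) F) *ᵥ v = l • v)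
    {u u' : Fin n → F} (hu : Rat F₀ u) (huu : bf σ J u u = 0) (huv : bf σ J u v = 0)
    (hu' : Rat F₀ u') (hu'u' : bf σ J u' u' = 0) (hu'v : bf σ J u' v = 0) :
    σ l * bf σ J ((m : Matrix (Fin n) (Fin n) F) *ᵥ u) u' ∈ F₀ := by
  have hmi : IsoU σ J (m : Matrix (Fin n) (Fin n) F) := (hM m hm).1
  have hRI := hN.hasRatIso
  have hvu : bf σ J v u = 0 := hU.bf_eq_zero_symm huv
  have hvu' : bf σ J v u' = 0 := hU.bf_eq_zero_symm hu'v
  have E1 : Mm M (eu σ J 1 v u) := HasRatIso.mm_eu hU hRI F₀.one_mem hv hu hvv huu hvu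
  have E2 := mm_conj_eu hm hmi E1
  rw [hmv, eu_smul_left] at E2
  apply trace_lemma_sub hU
  intro c hc
  have E3 : Mm M (eu σ J c v u') := HasRatIso.mm_eu hU hRI hc hv hu' hvv hu'u' hvu'
  have hmumu : bf σ J ((m : Matrix (Fin n) (Fin n) F) *ᵥ u)
      ((m : Matrix (Fin n) (Fin n) F) *ᵥ u) = 0 := by rw [hmi, huu]
  have hvmu : bf σ J v ((m : Matrix (Fin n) (Fin n) F) *ᵥ u) = 0 := bf_v_m hM m hm hl hmv hvu
  have C2 := mm_comm_ee_long hU.invol hU.herm hvv hu'u' hvu' hmumu hvmu E3 E2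
  have hneg : σ (1 * l * σ c * σ (bf σ J ((m : Matrix (Fin n) (Fin n) F) *ᵥ u) u') -
      c * σ (1 * l) * bf σ J ((m : Matrix (Fin n) (Fin n) F) *ᵥ u) u') =
      -(1 * l * σ c * σ (bf σ J ((m : Matrix (Fin n) (Fin n) F) *ᵥ u) u') -
      c * σ (1 * l) * bf σ J ((m : Matrix (Fin n) (Fin n) F) *ᵥ u) u') := by
    simp only [map_sub, map_mul, map_one, hU.invol]
    ring
  have h3 := hL _ v hneg hv hv0 hvv C2
  have e : σ (c * (σ l * bf σ J ((m : Matrix (Fin n) (Fin n) F) *ᵥ u) u')) -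
      c * (σ l * bf σ J ((m : Matrix (Fin n) (Fin n) F) *ᵥ u) u') =
      1 * l * σ c * σ (bf σ J ((m : Matrix (Fin n) (Fin n) F) *ᵥ u) u') -
      c * σ (1 * l) * bf σ J ((m : Matrix (Fin n) (Fin n) F) *ᵥ u) u' := by
    simp only [map_mul, map_one, hU.invol]
    ring
  rw [e]
  exact h3

/-- step (a) for all rational vectors orthogonal to `v`. -/
theorem step_a2 [Finite F] (hn : 13 ≤ n) (hU : USet F₀ σ J) (hM : MIso σ J M)
    (hN : HasNIso F₀ σ J M) (hL : LRat F₀ σ J M) (m : GL (Fin n) F) (hm : m ∈ M)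
    {v : Fin n → F} (hv : Rat F₀ v) (hv0 : v ≠ 0) (hvv : bf σ J v v = 0) {l : F} (hl : l ≠ 0)
    (hmv : (m : Matrix (Fin n) (Fin n) F) *ᵥ v = l • v)
    {y y' : Fin n → F} (hy : Rat F₀ y) (hyv : bf σ J y v = 0)
    (hy' : Rat F₀ y') (hy'v : bf σ J y' v = 0) :
    σ l * bf σ J ((m : Matrix (Fin n) (Fin n) F) *ᵥ y) y' ∈ F₀ := by
  -- first: `y'` isotropic
  have h1 : ∀ u' : Fin n → F, Rat F₀ u' → bf σ J u' u' = 0 → bf σ J u' v = 0 →
      σ l * bf σ J ((m : Matrix (Fin n) (Fin n) F) *ᵥ y) u' ∈ F₀ := by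
    intro u' hu' hu'u' hu'v
    obtain ⟨w, hw, rfl⟩ := iso_span hn hU hy hv hv hyv hyv
    rw [mulVec_add, mulVec_add, bf_add_left, bf_add_left, mul_add, mul_add]
    exact F₀.add_mem (F₀.add_mem
      (step_a hU hM hN hL m hm hv hv0 hvv hl hmv (hw 0).1 (hw 0).2.1 (hw 0).2.2.1 hu' hu'u' hu'v)
      (step_a hU hM hN hL m hm hv hv0 hvv hl hmv (hw 1).1 (hw 1).2.1 (hw 1).2.2.1 hu' hu'u' hu'v))
      (step_a hU hM hN hL m hm hv hv0 hvv hl hmv (hw 2).1 (hw 2).2.1 (hw 2).2.2.1 hu' hu'u' hu'v)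
  obtain ⟨w', hw', rfl⟩ := iso_span hn hU hy' hv hv hy'v hy'v
  rw [bf_add_right, bf_add_right, mul_add, mul_add]
  exact F₀.add_mem (F₀.add_mem (h1 _ (hw' 0).1 (hw' 0).2.1 (hw' 0).2.2.1)
    (h1 _ (hw' 1).1 (hw' 1).2.1 (hw' 1).2.2.1)) (h1 _ (hw' 2).1 (hw' 2).2.1 (hw' 2).2.2.1)

/-- step (b1): the component orthogonal to `f` is rational. -/
theorem step_b1 [Finite F] (hn : 13 ≤ n) (hU : USet F₀ σ J) (hM : MIso σ J M)
    (hN : HasNIso F₀ σ J M) (hL : LRat F₀ σ J M) (m : GL (Fin n) F) (hm : m ∈ M)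
    {v : Fin n → F} (hv : Rat F₀ v) (hv0 : v ≠ 0) (hvv : bf σ J v v = 0) {l : F} (hl : l ≠ 0)
    (hmv : (m : Matrix (Fin n) (Fin n) F) *ᵥ v = l • v)
    {f : Fin n → F} (hf : Rat F₀ f) (hvf : bf σ J v f = 1)
    {y : Fin n → F} (hy : Rat F₀ y) (hyv : bf σ J y v = 0) :
    Rat F₀ (σ l • ((m : Matrix (Fin n) (Fin n) F) *ᵥ y) -
      bf σ J (σ l • ((m : Matrix (Fin n) (Fin n) F) *ᵥ y)) f • v) := by
  apply rat_of_forall_bf_mem hU
  intro y'' hy''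
  have hfv : bf σ J f v = 1 := by rw [hU.bf_symm v f, hvf, map_one]
  set c' := bf σ J y'' v with hc'
  have hc'm : c' ∈ F₀ := hU.bf_rat hy'' hv
  have hy' : Rat F₀ (y'' - c' • f) := hy''.sub (Rat.smul hc'm hf)
  have hy'v : bf σ J (y'' - c' • f) v = 0 := by
    rw [bf_sub_left, bf_smul_left, hfv, mul_one, sub_self]
  have hvy' : bf σ J v (y'' - c' • f) = 0 := hU.bf_eq_zero_symm hy'v
  have key := step_a2 hn hU hM hN hL m hm hv hv0 hvv hl hmv hy hyv hy' hy'v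
  have e : y'' = (y'' - c' • f) + c' • f := by abel
  have e2 : bf σ J (σ l • ((m : Matrix (Fin n) (Fin n) F) *ᵥ y) -
      bf σ J (σ l • ((m : Matrix (Fin n) (Fin n) F) *ᵥ y)) f • v) y'' =
      σ l * bf σ J ((m : Matrix (Fin n) (Fin n) F) *ᵥ y) (y'' - c' • f) := by
    conv_lhs => rw [e]
    rw [bf_add_right, bf_smul_right, bf_sub_left, bf_sub_left, bf_smul_left, bf_smul_left,
      bf_smul_left, bf_smul_left, hvy', hvf]
    ring
  rw [e2]
  exact key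

/-- the short root element with the scaled image. -/
theorem mm_eu_image (hU : USet F₀ σ J) (hM : MIso σ J M)
    (hN : HasNIso F₀ σ J M) (m : GL (Fin n) F) (hm : m ∈ M)
    {v : Fin n → F} (hv : Rat F₀ v) (hvv : bf σ J v v = 0) {l : F}
    (hmv : (m : Matrix (Fin n) (Fin n) F) *ᵥ v = l • v)
    {u : Fin n → F} (hu : Rat F₀ u) (huu : bf σ J u u = 0) (huv : bf σ J u v = 0) :
    Mm M (eu σ J 1 v (σ l • ((m : Matrix (Fin n) (Fin n) F) *ᵥ u))) := by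
  have hmi : IsoU σ J (m : Matrix (Fin n) (Fin n) F) := (hM m hm).1
  have hvu : bf σ J v u = 0 := hU.bf_eq_zero_symm huv
  have E1 : Mm M (eu σ J 1 v u) :=
    HasRatIso.mm_eu hU hN.hasRatIso F₀.one_mem hv hu hvv huu hvu
  have E2 := mm_conj_eu hm hmi E1
  rw [hmv, eu_smul_left] at E2
  rw [eu_smul_right hU.invol, hU.invol]
  exact E2

/-- abstract form of the `v`-coefficient computation. -/
theorem xi_sub_mem_aux (hU : USet F₀ σ J) (hN : HasNIso F₀ σ J M) (hL : LRat F₀ σ J M)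
    {v : Fin n → F} (hv : Rat F₀ v) (hv0 : v ≠ 0) (hvv : bf σ J v v = 0)
    {x : Fin n → F} {ξ : F} (hu₀ : Rat F₀ (x - ξ • v)) (hxv : bf σ J x v = 0)
    (hxx : bf σ J x x = 0) (E : Mm M (eu σ J 1 v x)) : σ ξ - ξ ∈ F₀ := by
  have hvx : bf σ J v x = 0 := hU.bf_eq_zero_symm hxv
  have hvu₀ : bf σ J v (x - ξ • v) = 0 := by
    rw [bf_sub_right, bf_smul_right, hvx, hvv, mul_zero, sub_zero]
  have hu₀u₀ : bf σ J (x - ξ • v) (x - ξ • v) = 0 := by
    rw [bf_sub_left, bf_sub_right, bf_sub_right, bf_smul_left, bf_smul_left, bf_smul_right,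
      bf_smul_right, hxx, hxv, hvx, hvv]
    ring
  have e : x = (x - ξ • v) + ξ • v := by abel
  rw [e, eu_split hU.invol hvv hvu₀] at E
  have E0 : Mm M (eu σ J (-1) v (x - ξ • v)) :=
    HasRatIso.mm_eu hU hN.hasRatIso (F₀.neg_mem F₀.one_mem) hv hu₀ hvv hu₀u₀ hvu₀
  have E3 := E0.mul E
  rw [← Matrix.mul_assoc, eu_mul_eu hU.invol hU.herm _ _ _ _ hvv hu₀u₀ hvu₀, neg_add_cancel,
    eu_zero, Matrix.one_mul] at E3
  have hneg : σ (σ ξ - ξ) = -(σ ξ - ξ) := by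
    rw [map_sub, hU.invol]; ring
  exact hL _ v hneg hv hv0 hvv E3

/-- the `v`-coefficient has rational "imaginary part". -/
theorem xi_sub_mem [Finite F] (hn : 13 ≤ n) (hU : USet F₀ σ J) (hM : MIso σ J M)
    (hN : HasNIso F₀ σ J M) (hL : LRat F₀ σ J M) (m : GL (Fin n) F) (hm : m ∈ M)
    {v : Fin n → F} (hv : Rat F₀ v) (hv0 : v ≠ 0) (hvv : bf σ J v v = 0) {l : F} (hl : l ≠ 0)
    (hmv : (m : Matrix (Fin n) (Fin n) F) *ᵥ v = l • v)
    {f : Fin n → F} (hf : Rat F₀ f) (hvf : bf σ J v f = 1)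
    {u : Fin n → F} (hu : Rat F₀ u) (huu : bf σ J u u = 0) (huv : bf σ J u v = 0) :
    σ (bf σ J (σ l • ((m : Matrix (Fin n) (Fin n) F) *ᵥ u)) f) -
      bf σ J (σ l • ((m : Matrix (Fin n) (Fin n) F) *ᵥ u)) f ∈ F₀ := by
  have hmi : IsoU σ J (m : Matrix (Fin n) (Fin n) F) := (hM m hm).1
  have hu₀ := step_b1 hn hU hM hN hL m hm hv hv0 hvv hl hmv hf hvf hu huv
  have hxv : bf σ J (σ l • ((m : Matrix (Fin n) (Fin n) F) *ᵥ u)) v = 0 := by
    rw [bf_smul_left, bf_m_v hU hM m hm hl hmv huv, mul_zero]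
  have hxx : bf σ J (σ l • ((m : Matrix (Fin n) (Fin n) F) *ᵥ u))
      (σ l • ((m : Matrix (Fin n) (Fin n) F) *ᵥ u)) = 0 := by
    rw [bf_smul_left, bf_smul_right, hmi, huu, mul_zero, mul_zero]
  have E := mm_eu_image hU hM hN m hm hv hvv hmv hu huu huv
  exact xi_sub_mem_aux hU hN hL hv hv0 hvv hu₀ hxv hxx E

/-- step (b2): the `v`-coefficient is rational. -/
theorem xi_mem [Finite F] (hn : 13 ≤ n) (hU : USet F₀ σ J) (hM : MIso σ J M)
    (hN : HasNIso F₀ σ J M) (hL : LRat F₀ σ J M) (m : GL (Fin n) F) (hm : m ∈ M)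
    {v : Fin n → F} (hv : Rat F₀ v) (hv0 : v ≠ 0) (hvv : bf σ J v v = 0) {l : F} (hl : l ≠ 0)
    (hmv : (m : Matrix (Fin n) (Fin n) F) *ᵥ v = l • v)
    {f : Fin n → F} (hf : Rat F₀ f) (hvf : bf σ J v f = 1)
    {u : Fin n → F} (hu : Rat F₀ u) (huu : bf σ J u u = 0) (huv : bf σ J u v = 0) :
    bf σ J (σ l • ((m : Matrix (Fin n) (Fin n) F) *ᵥ u)) f ∈ F₀ := by
  apply trace_lemma_sub hU
  intro c hc
  have hcu : Rat F₀ (c • u) := Rat.smul hc hu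
  have hcucu : bf σ J (c • u) (c • u) = 0 := by
    rw [bf_smul_left, bf_smul_right, huu, mul_zero, mul_zero]
  have hcuv : bf σ J (c • u) v = 0 := by rw [bf_smul_left, huv, mul_zero]
  have h := xi_sub_mem hn hU hM hN hL m hm hv hv0 hvv hl hmv hf hvf hcu hcucu hcuv
  rw [mulVec_smul, smul_comm, bf_smul_left] at h
  exact h

end PkSL3a

variable {M : Subgroup (GL (Fin n) F)}

open PkSL3a in
theorem stab_perp_rat [Finite F] (hn : 13 ≤ n) (hU : USet F₀ σ J)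
    (hM : MIso σ J M)
    (hN : HasNIso F₀ σ J M) (hL : LRat F₀ σ J M) (m : GL (Fin n) F) (hm : m ∈ M)
    {v : Fin n → F} (hv : Rat F₀ v) (hv0 : v ≠ 0) (hvv : bf σ J v v = 0) {l : F} (hl : l ≠ 0)
    (hmv : (m : Matrix (Fin n) (Fin n) F) *ᵥ v = l • v) :
    ∀ y : Fin n → F, Rat F₀ y → bf σ J y v = 0 →
      Rat F₀ (σ l • ((m : Matrix (Fin n) (Fin n) F) *ᵥ y)) := by
  obtain ⟨f, hf, hff, hvf⟩ := exists_partner hU hv hv0 hvv
  have hiso : ∀ u : Fin n → F, Rat F₀ u → bf σ J u u = 0 → bf σ J u v = 0 →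
      Rat F₀ (σ l • ((m : Matrix (Fin n) (Fin n) F) *ᵥ u)) := by
    intro u hu huu huv
    have h1 := step_b1 hn hU hM hN hL m hm hv hv0 hvv hl hmv hf hvf hu huv
    have h2 := xi_mem hn hU hM hN hL m hm hv hv0 hvv hl hmv hf hvf hu huu huv
    have e : σ l • ((m : Matrix (Fin n) (Fin n) F) *ᵥ u) =
        (σ l • ((m : Matrix (Fin n) (Fin n) F) *ᵥ u) -
          bf σ J (σ l • ((m : Matrix (Fin n) (Fin n) F) *ᵥ u)) f • v) +
          bf σ J (σ l • ((m : Matrix (Fin n) (Fin n) F) *ᵥ u)) f • v := by abel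
    rw [e]
    exact h1.add (Rat.smul h2 hv)
  intro y hy hyv
  obtain ⟨w, hw, rfl⟩ := iso_span hn hU hy hv hv hyv hyv
  rw [mulVec_add, mulVec_add, smul_add, smul_add]
  exact ((hiso _ (hw 0).1 (hw 0).2.1 (hw 0).2.2.1).add (hiso _ (hw 1).1 (hw 1).2.1 (hw 1).2.2.1)).add
    (hiso _ (hw 2).1 (hw 2).2.1 (hw 2).2.2.1)

end Cfsg.Agent.Lib.Helper5.SUf
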