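import Mathlib
import Cfsg.Agent.Lib.Helper5.SUf.Defs2
import Cfsg.Agent.Lib.Helper5.Subf_F
import Cfsg.Agent.Lib.Lead.SUf_Field
import Cfsg.Agent.Lib.Helper5.SUf.Geo2
import Cfsg.Agent.Lib.Helper8.SUf_SL3a

set_option autoImplicit false
set_option linter.unusedSectionVars false
set_option linter.unusedVariables false

/-!
# S5658 PK-SL3b: the stabiliser lemma
-/

namespace Cfsg.Agent.Lib.Helper5.SUf

open Matrix Cfsg.Agent.Lib.Helper7.Subf

variable {F : Type*} [Field F] {n : ℕ} {F₀ : Subfield F} {σ : F ≃+* F}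
  {J : Matrix (Fin n) (Fin n) F}

namespace PkSL3b

variable {M : Subgroup (GL (Fin n) F)}

theorem ratMat_of_mulVec {A : Matrix (Fin n) (Fin n) F}
    (h : ∀ y : Fin n → F, Rat F₀ y → Rat F₀ (A *ᵥ y)) : RatMat F₀ A := by
  intro i j
  have h1 := h (Pi.single j 1) (Rat.single F₀ j F₀.one_mem) i
  rw [Matrix.mulVec_single_one] at h1
  exact h1

/-- a vector with rational products against `v^⊥` is rational modulo `v`. -/
theorem rat_mod_v (hU : USet F₀ σ J) {v f : Fin n → F} (hv : Rat F₀ v) (hvv : bf σ J v v = 0)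
    (hf : Rat F₀ f) (hvf : bf σ J v f = 1) {x : Fin n → F}
    (h : ∀ y' : Fin n → F, Rat F₀ y' → bf σ J y' v = 0 → bf σ J x y' ∈ F₀) :
    Rat F₀ (x - bf σ J x f • v) := by
  apply rat_of_forall_bf_mem hU
  intro y'' hy''
  have hfv : bf σ J f v = 1 := by rw [hU.bf_symm v f, hvf, map_one]
  set c' := bf σ J y'' v with hc'
  have hc'm : c' ∈ F₀ := hU.bf_rat hy'' hv
  have hy' : Rat F₀ (y'' - c' • f) := hy''.sub (Rat.smul hc'm hf)
  have hy'v : bf σ J (y'' - c' • f) v = 0 := by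
    rw [bf_sub_left, bf_smul_left, hfv, mul_one, sub_self]
  have hvy' : bf σ J v (y'' - c' • f) = 0 := hU.bf_eq_zero_symm hy'v
  have key := h _ hy' hy'v
  have e : y'' = (y'' - c' • f) + c' • f := by abel
  have e2 : bf σ J (x - bf σ J x f • v) y'' = bf σ J x (y'' - c' • f) := by
    conv_lhs => rw [e]
    rw [bf_add_right, bf_smul_right, bf_sub_left, bf_sub_left, bf_smul_left, bf_smul_left,
      hvy', hvf]
    ring
  rw [e2]
  exact key

theorem inv_fix (m : GL (Fin n) F) {v : Fin n → F} {l : F} (hl : l ≠ 0)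
    (hmv : (m : Matrix (Fin n) (Fin n) F) *ᵥ v = l • v) :
    ((m⁻¹ : GL (Fin n) F) : Matrix (Fin n) (Fin n) F) *ᵥ v = l⁻¹ • v := by
  have h1 : ((m⁻¹ : GL (Fin n) F) : Matrix (Fin n) (Fin n) F) *ᵥ
      ((m : Matrix (Fin n) (Fin n) F) *ᵥ v) = v := by
    rw [mulVec_mulVec, ← Units.val_mul, inv_mul_cancel, Units.val_one, one_mulVec]
  rw [hmv, mulVec_smul] at h1
  have h2 := congrArg (fun w => l⁻¹ • w) h1
  simp only [smul_smul, inv_mul_cancel₀ hl, one_smul] at h2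
  exact h2

theorem mul_inv_mulVec (m : GL (Fin n) F) (y : Fin n → F) :
    (m : Matrix (Fin n) (Fin n) F) *ᵥ
      (((m⁻¹ : GL (Fin n) F) : Matrix (Fin n) (Fin n) F) *ᵥ y) = y := by
  rw [mulVec_mulVec, ← Units.val_mul, mul_inv_cancel, Units.val_one, one_mulVec]

/-- the norm of the eigenvalue is rational. -/
theorem norm_mem [Finite F] (hn : 13 ≤ n) (hU : USet F₀ σ J) (hM : MIso σ J M)
    (hN : HasNIso F₀ σ J M) (hL : LRat F₀ σ J M) (m : GL (Fin n) F) (hm : m ∈ M)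
    {v : Fin n → F} (hv : Rat F₀ v) (hv0 : v ≠ 0) (hvv : bf σ J v v = 0) {l : F} (hl : l ≠ 0)
    (hmv : (m : Matrix (Fin n) (Fin n) F) *ᵥ v = l • v) : σ l * l ∈ F₀ := by
  have h1 := stab_perp_rat hn hU hM hN hL m hm hv hv0 hvv hl hmv v hv hvv
  rw [hmv, smul_smul] at h1
  have hex : ∃ i, v i ≠ 0 := by
    by_contra hcon
    push Not at hcon
    exact hv0 (funext hcon)
  obtain ⟨i, hi⟩ := hex
  have h2 := h1 i
  rw [Pi.smul_apply, smul_eq_mul] at h2
  have e : σ l * l = (σ l * l * v i) * (v i)⁻¹ := by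
    field_simp
  rw [e]
  exact F₀.mul_mem h2 (F₀.inv_mem (hv i))

/-- the stabiliser lemma when the point is fixed. -/
theorem stab_fix [Finite F] (hn : 13 ≤ n) (hU : USet F₀ σ J) (hM : MIso σ J M)
    (hN : HasNIso F₀ σ J M) (hL : LRat F₀ σ J M) (m : GL (Fin n) F) (hm : m ∈ M)
    {v : Fin n → F} (hv : Rat F₀ v) (hv0 : v ≠ 0) (hvv : bf σ J v v = 0) {l : F} (hl : l ≠ 0)
    (hmv : (m : Matrix (Fin n) (Fin n) F) *ᵥ v = l • v) :
    InN F₀ (m : Matrix (Fin n) (Fin n) F) := by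
  have hmi : IsoU σ J (m : Matrix (Fin n) (Fin n) F) := (hM m hm).1
  have hσl : σ l ≠ 0 := by
    intro h
    apply hl
    have := congrArg σ h
    rwa [hU.invol, map_zero] at this
  obtain ⟨f, hf, hff, hvf⟩ := exists_partner hU hv hv0 hvv
  have hfv : bf σ J f v = 1 := by rw [hU.bf_symm v f, hvf, map_one]
  have hnorm := norm_mem hn hU hM hN hL m hm hv hv0 hvv hl hmv
  have hm' := stab_perp_rat hn hU hM hN hL m hm hv hv0 hvv hl hmv
  have hinv := inv_fix m hl hmv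
  have hminv := stab_perp_rat hn hU hM hN hL m⁻¹ (M.inv_mem hm) hv hv0 hvv (inv_ne_zero hl) hinv
  -- products of `h = σ l • m f` against rational vectors of `v^⊥`
  have hprod : ∀ y' : Fin n → F, Rat F₀ y' → bf σ J y' v = 0 →
      bf σ J (σ l • ((m : Matrix (Fin n) (Fin n) F) *ᵥ f)) y' ∈ F₀ := by
    intro y' hy' hy'v
    have hy := hminv y' hy' hy'v
    have e : y' = σ l • ((m : Matrix (Fin n) (Fin n) F) *ᵥ
        (σ l⁻¹ • (((m⁻¹ : GL (Fin n) F) : Matrix (Fin n) (Fin n) F) *ᵥ y'))) := by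
      rw [mulVec_smul, mul_inv_mulVec, smul_smul, ← map_mul, mul_inv_cancel₀ hl, map_one, one_smul]
    have e2 : bf σ J (σ l • ((m : Matrix (Fin n) (Fin n) F) *ᵥ f)) y' =
        σ l * l * bf σ J f (σ l⁻¹ • (((m⁻¹ : GL (Fin n) F) : Matrix (Fin n) (Fin n) F) *ᵥ y')) := by
      conv_lhs => rw [e]
      rw [bf_smul_left, bf_smul_right, hmi, hU.invol]
      ring
    rw [e2]
    exact F₀.mul_mem hnorm (hU.bf_rat hf hy)
  set h := σ l • ((m : Matrix (Fin n) (Fin n) F) *ᵥ f) with hh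
  have hx₀ : Rat F₀ (h - bf σ J h f • v) := rat_mod_v hU hv hvv hf hvf hprod
  have hhv : bf σ J h v = 1 := by
    have h1 := hmi f v
    rw [hmv, bf_smul_right] at h1
    rw [hh, bf_smul_left]
    have h2 : bf σ J ((m : Matrix (Fin n) (Fin n) F) *ᵥ f) v = (σ l)⁻¹ := by
      rw [hfv] at h1
      field_simp
      rw [mul_comm]
      exact h1
    rw [h2, mul_inv_cancel₀ hσl]
  have hvh : bf σ J v h = 1 := by rw [hU.bf_symm h v, hhv, map_one]
  have hhh : bf σ J h h = 0 := by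
    rw [hh, bf_smul_left, bf_smul_right, hmi, hff, mul_zero, mul_zero]
  clear_value h
  set ξ := bf σ J h f with hξ
  -- the trace of ξ is rational
  have htr : ξ + σ ξ = - bf σ J (h - ξ • v) (h - ξ • v) := by
    rw [bf_sub_left, bf_sub_right, bf_sub_right, bf_smul_left, bf_smul_left, bf_smul_right,
      bf_smul_right, hhh, hhv, hvh, hvv]
    ring
  have hc : ξ + σ ξ ∈ F₀ := by
    rw [htr]
    exact F₀.neg_mem (hU.bf_rat hx₀ hx₀)
  have hcσ : σ (ξ + σ ξ) = ξ + σ ξ := by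
    rw [map_add, hU.invol]; ring
  obtain ⟨t, ht, htt⟩ := exists_trace_rat hU hc hcσ
  set a := ξ - t with ha
  have haσ : σ a = -a := by
    have : σ t = ξ + σ ξ - t := by rw [← htt]; ring
    rw [ha, map_sub, this]; ring
  have hx₁ : Rat F₀ (h - a • v) := by
    have e : h - a • v = (h - ξ • v) + t • v := by
      rw [ha, sub_smul]; abel
    rw [e]
    exact hx₀.add (Rat.smul ht hv)
  -- the corrected element
  have hnegσ : σ (-a) = -(-a) := by rw [map_neg, haσ]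
  obtain ⟨g₁, hg₁⟩ := exists_gl_tu (σ := σ) (J := J) (-a) hvv
  have hg₁i : IsoU σ J (g₁ : Matrix (Fin n) (Fin n) F) := by
    rw [hg₁]; exact isoU_tu hU.invol hU.herm hnegσ hvv
  have hg₁d : (g₁ : Matrix (Fin n) (Fin n) F).det = 1 := by rw [hg₁]; exact det_tu _ hvv
  have hkcoe : ((g₁ * m : GL (Fin n) F) : Matrix (Fin n) (Fin n) F) =
      tu σ J (-a) v * (m : Matrix (Fin n) (Fin n) F) := by
    rw [Units.val_mul, hg₁]
  have hki : IsoU σ J ((g₁ * m : GL (Fin n) F) : Matrix (Fin n) (Fin n) F) := by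
    rw [Units.val_mul]; exact hg₁i.mul hmi
  have hkd : ((g₁ * m : GL (Fin n) F) : Matrix (Fin n) (Fin n) F).det = 1 := by
    rw [Units.val_mul, Matrix.det_mul, hg₁d, (hM m hm).2, mul_one]
  -- `σ l • k` is rational
  have hkperp : ∀ y : Fin n → F, Rat F₀ y → bf σ J y v = 0 →
      Rat F₀ ((σ l • (tu σ J (-a) v * (m : Matrix (Fin n) (Fin n) F))) *ᵥ y) := by
    intro y hy hyv
    have h1 := hm' y hy hyv
    have h2 : bf σ J ((m : Matrix (Fin n) (Fin n) F) *ᵥ y) v = 0 :=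
      PkSL3a.bf_m_v hU hM m hm hl hmv hyv
    rw [smul_mulVec, ← mulVec_mulVec, tu_mulVec, h2, mul_zero, zero_smul, add_zero]
    exact h1
  have hkf : Rat F₀ ((σ l • (tu σ J (-a) v * (m : Matrix (Fin n) (Fin n) F))) *ᵥ f) := by
    have e : (σ l • (tu σ J (-a) v * (m : Matrix (Fin n) (Fin n) F))) *ᵥ f = h - a • v := by
      rw [smul_mulVec, ← mulVec_mulVec, tu_mulVec, smul_add, ← hh, smul_smul]
      have h3 : σ l * (-a * bf σ J ((m : Matrix (Fin n) (Fin n) F) *ᵥ f) v) = -a := by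
        have h4 : bf σ J h v = σ l * bf σ J ((m : Matrix (Fin n) (Fin n) F) *ᵥ f) v := by
          rw [hh, bf_smul_left]
        have : σ l * (-a * bf σ J ((m : Matrix (Fin n) (Fin n) F) *ᵥ f) v) =
            -a * (σ l * bf σ J ((m : Matrix (Fin n) (Fin n) F) *ᵥ f) v) := by ring
        rw [this, ← h4, hhv, mul_one]
      rw [h3, neg_smul, sub_eq_add_neg]
    rw [e]
    exact hx₁
  have hkrat : RatMat F₀ (σ l • (tu σ J (-a) v * (m : Matrix (Fin n) (Fin n) F))) := by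
    apply ratMat_of_mulVec
    intro y hy
    set c' := bf σ J y v with hc'
    have hc'm : c' ∈ F₀ := hU.bf_rat hy hv
    have hy' : Rat F₀ (y - c' • f) := hy.sub (Rat.smul hc'm hf)
    have hy'v : bf σ J (y - c' • f) v = 0 := by
      rw [bf_sub_left, bf_smul_left, hfv, mul_one, sub_self]
    have e : y = (y - c' • f) + c' • f := by abel
    rw [e, mulVec_add, mulVec_smul]
    exact (hkperp _ hy' hy'v).add (Rat.smul hc'm hkf)
  have hkN : InN F₀ ((g₁ * m : GL (Fin n) F) : Matrix (Fin n) (Fin n) F) := by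
    rw [hkcoe]
    exact ⟨σ l, hσl, hkrat⟩
  have hkM : g₁ * m ∈ M := hN _ hkN hki hkd
  have hg₁M : g₁ ∈ M := by
    have : g₁ = (g₁ * m) * m⁻¹ := by group
    rw [this]
    exact M.mul_mem hkM (M.inv_mem hm)
  have hMm : Mm M (tu σ J (-a) v) := ⟨g₁, hg₁M, hg₁⟩
  have haF : -a ∈ F₀ := hL _ v hnegσ hv hv0 hvv hMm
  have hg₁N : InN F₀ (g₁ : Matrix (Fin n) (Fin n) F) := by
    rw [hg₁]
    exact ⟨1, one_ne_zero, by rw [one_smul]; exact hU.ratMat_tu haF hv⟩
  have hfin : (m : Matrix (Fin n) (Fin n) F) =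
      ((g₁⁻¹ : GL (Fin n) F) : Matrix (Fin n) (Fin n) F) *
        ((g₁ * m : GL (Fin n) F) : Matrix (Fin n) (Fin n) F) := by
    rw [← Units.val_mul]
    congr 1
    group
  rw [hfin]
  exact (inN_inv F₀ g₁ hg₁N).mul hkN

end PkSL3b

variable {M : Subgroup (GL (Fin n) F)}

open PkSL3b in
theorem stab_inN [Finite F] (hn : 13 ≤ n) (hU : USet F₀ σ J)
    (hM : MIso σ J M)
    (hN : HasNIso F₀ σ J M) (hL : LRat F₀ σ J M) (m : GL (Fin n) F) (hm : m ∈ M)
    {v₁ v₂ : Fin n → F} (hv₁ : Rat F₀ v₁) (hv₂ : Rat F₀ v₂) (h0 : v₁ ≠ 0) (h11 : bf σ J v₁ v₁ = 0)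
    {l : F} (hl : l ≠ 0) (hmv : (m : Matrix (Fin n) (Fin n) F) *ᵥ v₁ = l • v₂) :
    InN F₀ (m : Matrix (Fin n) (Fin n) F) := by
  have hmi : IsoU σ J (m : Matrix (Fin n) (Fin n) F) := (hM m hm).1
  have hv₂0 : v₂ ≠ 0 := by
    intro h
    rw [h, smul_zero] at hmv
    apply h0
    have h1 := congrArg (fun w => ((m⁻¹ : GL (Fin n) F) : Matrix (Fin n) (Fin n) F) *ᵥ w) hmv
    simp only [mulVec_mulVec, mulVec_zero] at h1
    rwa [← Units.val_mul, inv_mul_cancel, Units.val_one, one_mulVec] at h1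
  have hσl : σ l ≠ 0 := by
    intro h
    apply hl
    have := congrArg σ h
    rwa [hU.invol, map_zero] at this
  have h22 : bf σ J v₂ v₂ = 0 := by
    have h1 := hmi v₁ v₁
    rw [hmv, bf_smul_left, bf_smul_right, h11] at h1
    rcases mul_eq_zero.1 h1 with h | h
    · exact absurd h hl
    · rcases mul_eq_zero.1 h with h' | h'
      · exact absurd h' hσl
      · exact h'
  obtain ⟨g, hgr, hgi, hgd, hgv⟩ := iso_trans hn hU hv₂ hv₂0 h22 hv₁ h0 h11
  have hgM : g ∈ M := hN.hasRatIso g hgr hgi hgd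
  have hgm : ((g * m : GL (Fin n) F) : Matrix (Fin n) (Fin n) F) *ᵥ v₁ = l • v₁ := by
    rw [Units.val_mul, ← mulVec_mulVec, hmv, mulVec_smul, hgv]
  have h1 := stab_fix hn hU hM hN hL (g * m) (M.mul_mem hgM hm) hv₁ h0 h11 hl hgm
  have hgN : InN F₀ (g : Matrix (Fin n) (Fin n) F) := ⟨1, one_ne_zero, by rw [one_smul]; exact hgr⟩
  have hfin : (m : Matrix (Fin n) (Fin n) F) =
      ((g⁻¹ : GL (Fin n) F) : Matrix (Fin n) (Fin n) F) *
        ((g * m : GL (Fin n) F) : Matrix (Fin n) (Fin n) F) := by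
    rw [← Units.val_mul]
    congr 1
    group
  rw [hfin]
  exact (inN_inv F₀ g hgN).mul h1

end Cfsg.Agent.Lib.Helper5.SUf
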