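import Mathlib

set_option autoImplicit false

/-!
# PK5 (GAMMA) for S2281: an `SL`-stable additive subgroup of matrices containing a symmetric
matrix with a nonzero diagonal entry contains all `c • E_ii`.
-/

namespace Cfsg.Agent.Lib.Helper5.SpRU

open Matrix

section core

variable {F : Type*} [Field F] {n : Type*} [Fintype n] [DecidableEq n]

/-- conjugation-type action of a transvection -/
theorem gamma_tv_conj (i j : n) (a : F) (M : Matrix n n F) :
    (1 + single i j a) * M * (1 + single i j a)ᵀ =
      M + single i j a * M + M * single j i a + single i i (a * M j j * a) := by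
  rw [transpose_add, transpose_one, transpose_single]
  have h : (1 + single i j a) * M * (1 + single j i a) =
      M + single i j a * M + M * single j i a + single i j a * M * single j i a := by
    noncomm_ring
  rw [h, single_mul_mul_single]

/-- for a matrix whose `j`-th row and column are `c₀ e_j`, the transvection difference -/
theorem gamma_clean_diff (i j : n) (hij : i ≠ j) (a c₀ : F) (M : Matrix n n F)
    (hjj : M j j = c₀) (hrow : ∀ s, s ≠ j → M j s = 0) (hcol : ∀ s, s ≠ j → M s j = 0) :
    (1 + single i j a) * M * (1 + single i j a)ᵀ - M =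
      single i j (a * c₀) + single j i (c₀ * a) + single i i (a * c₀ * a) := by
  rw [gamma_tv_conj, hjj]
  have h1 : single i j a * M = single i j (a * c₀) := by
    ext r s
    by_cases hr : r = i
    · subst hr
      rw [single_mul_apply_same]
      by_cases hs : s = j
      · subst hs; simp [hjj]
      · rw [hrow s hs]; simp [Ne.symm hs]
    · rw [single_mul_apply_of_ne a i j r s hr M]
      simp [Ne.symm hr]
  have h2 : M * single j i a = single j i (c₀ * a) := by
    ext r s
    by_cases hs : s = i
    · subst hs
      rw [mul_single_apply_same]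
      by_cases hr : r = j
      · subst hr; simp [hjj]
      · rw [hcol r hr]; simp [Ne.symm hr]
    · rw [mul_single_apply_of_ne a j i r s hs M]
      simp [Ne.symm hs]
  rw [h1, h2]
  abel

omit [Fintype n] in
theorem gamma_single_sub (i j : n) (a b : F) :
    (single i j a - single i j b : Matrix n n F) = single i j (a - b) := by
  ext r s; simp [single_apply]; split_ifs <;> simp

theorem gamma_det_tv (i j : n) (hij : i ≠ j) (a : F) : (1 + single i j a : Matrix n n F).det = 1 :=
  det_transvection_of_ne i j hij a

/-- the torus element -/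
def gammaTorus (i j : n) (t : F) : Matrix n n F :=
  diagonal (fun r => if r = i then t else if r = j then t⁻¹ else 1)

theorem gammaTorus_det (i j : n) (hij : i ≠ j) (t : F) (ht : t ≠ 0) :
    (gammaTorus i j t).det = 1 := by
  unfold gammaTorus
  rw [det_diagonal, Finset.prod_eq_mul i j hij]
  · simp [hij.symm, ht]
  · intro c _ hc
    simp [hc.1, hc.2]
  · intro h; exact absurd (Finset.mem_univ i) h
  · intro h; exact absurd (Finset.mem_univ j) h

theorem gammaTorus_conj_single (i j : n) (t : F) (r s : n) (x : F) :
    gammaTorus i j t * single r s x * (gammaTorus i j t)ᵀ =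
      single r s ((if r = i then t else if r = j then t⁻¹ else 1) * x *
        (if s = i then t else if s = j then t⁻¹ else 1)) := by
  unfold gammaTorus
  rw [diagonal_transpose]
  ext u v
  rw [mul_diagonal, diagonal_mul]
  by_cases h : r = u ∧ s = v
  · obtain ⟨rfl, rfl⟩ := h
    simp
  · rw [single_apply_of_ne r s x u v h, single_apply_of_ne r s _ u v h]
    simp

variable (N : AddSubgroup (Matrix n n F))

/-- the core: from a clean matrix at `j` get all multiples of `E_ii`, `i ≠ j` -/
theorem gamma_core [Fintype F] (hq : 4 ≤ Fintype.card F)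
    (hstab : ∀ k : Matrix n n F, k.det = 1 → ∀ S ∈ N, k * S * kᵀ ∈ N)
    (M : Matrix n n F) (hM : M ∈ N) (j : n) (c₀ : F) (hc₀ : c₀ ≠ 0)
    (hjj : M j j = c₀) (hrow : ∀ s, s ≠ j → M j s = 0) (hcol : ∀ s, s ≠ j → M s j = 0)
    (i : n) (hij : i ≠ j) (c : F) : single i i c ∈ N := by
  -- f a ∈ N
  have hf : ∀ a : F, single i j (a * c₀) + single j i (c₀ * a) + single i i (a * c₀ * a) ∈ N := by
    intro a
    rw [← gamma_clean_diff i j hij a c₀ M hjj hrow hcol]
    exact N.sub_mem (hstab _ (gamma_det_tv i j hij a) M hM) hM
  by_cases h2 : (2 : F) = 0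
  · -- characteristic 2: torus
    obtain ⟨t, ht0, ht1⟩ : ∃ t : F, t ≠ 0 ∧ t ≠ 1 := by
      classical
      by_contra hcon
      push Not at hcon
      have hsub : (Finset.univ : Finset F) ⊆ {0, 1} := by
        intro x _
        by_cases hx : x = 0
        · simp [hx]
        · simp [hcon x hx]
      have := Finset.card_le_card hsub
      have h3 : ({0, 1} : Finset F).card ≤ 2 := Finset.card_insert_le _ _
      rw [Finset.card_univ] at this
      omega
    have hP : ∀ b : F, single i j b + single j i b ∈ N := by
      intro b
      have h1t : (1 - t) ≠ 0 := sub_ne_zero.mpr (Ne.symm ht1)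
      set a := b / (c₀ * (1 - t)) with ha
      have hb : a * c₀ * (1 - t) = b := by
        rw [ha]; field_simp
      have e1 := hstab _ (gammaTorus_det i j hij t ht0) _ (hf a)
      have e2 := hf (a * t)
      have e3 := N.sub_mem e1 e2
      have key : gammaTorus i j t * (single i j (a * c₀) + single j i (c₀ * a) +
          single i i (a * c₀ * a)) * (gammaTorus i j t)ᵀ -
          (single i j (a * t * c₀) + single j i (c₀ * (a * t)) +
            single i i (a * t * c₀ * (a * t))) = single i j b + single j i b := by
        rw [Matrix.mul_add, Matrix.mul_add, Matrix.add_mul, Matrix.add_mul,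
          gammaTorus_conj_single, gammaTorus_conj_single, gammaTorus_conj_single]
        simp only [if_true, if_neg hij.symm, if_neg hij]
        have x1 : t * (a * c₀) * t⁻¹ = a * c₀ := by field_simp
        have x2 : t⁻¹ * (c₀ * a) * t = c₀ * a := by field_simp
        have x3 : t * (a * c₀ * a) * t = a * t * c₀ * (a * t) := by ring
        rw [x1, x2, x3]
        have y1 : single i j (a * c₀) - single i j (a * t * c₀) = single i j b := by
          rw [gamma_single_sub]; congr 1; rw [← hb]; ring
        have y2 : single j i (c₀ * a) - single j i (c₀ * (a * t)) = single j i b := by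
          rw [gamma_single_sub]; congr 1; rw [← hb]; ring
        rw [← y1, ← y2]
        abel
      rw [key] at e3
      exact e3
    -- squares
    have hchar : ringChar F = 2 := by
      have : CharP F 2 := by
        apply CharTwo.of_one_ne_zero_of_two_eq_zero one_ne_zero h2
      exact ringChar.eq F 2
    obtain ⟨a, ha⟩ := FiniteField.isSquare_of_char_two hchar (c / c₀)
    have h3 := N.sub_mem (hf a) (hP (a * c₀))
    have h4 : single i j (a * c₀) + single j i (c₀ * a) + single i i (a * c₀ * a) -
        (single i j (a * c₀) + single j i (a * c₀)) = single i i c := by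
      have : a * c₀ * a = c := by
        have : a * a * c₀ = c := by rw [← ha]; field_simp
        rw [← this]; ring
      rw [this, mul_comm c₀ a]
      abel
    rw [h4] at h3
    exact h3
  · -- odd characteristic: polarization
    set a := c / (2 * c₀) with ha
    have e := N.sub_mem (N.sub_mem (hf (a + 1)) (hf a)) (hf 1)
    have key : single i j ((a + 1) * c₀) + single j i (c₀ * (a + 1)) +
        single i i ((a + 1) * c₀ * (a + 1)) -
        (single i j (a * c₀) + single j i (c₀ * a) + single i i (a * c₀ * a)) -
        (single i j (1 * c₀) + single j i (c₀ * 1) + single i i (1 * c₀ * 1)) =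
        single i i c := by
      have z1 : single i j ((a + 1) * c₀) = single i j (a * c₀) + single i j (1 * c₀) := by
        rw [← single_add]; congr 1; ring
      have z2 : single j i (c₀ * (a + 1)) = single j i (c₀ * a) + single j i (c₀ * 1) := by
        rw [← single_add]; congr 1; ring
      have z3 : single i i ((a + 1) * c₀ * (a + 1)) =
          single i i (a * c₀ * a) + single i i (1 * c₀ * 1) + single i i c := by
        rw [← single_add, ← single_add]; congr 1
        rw [ha]; field_simp; ring
      rw [z1, z2, z3]
      abel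
    rw [key] at e
    exact e

end core

variable {F : Type*} [Field F] {m : ℕ}

theorem gamma_diag [Fintype F] (hq : 4 ≤ Fintype.card F) (hm : 1 ≤ m)
    (N : AddSubgroup (Matrix (Fin (m + 1)) (Fin (m + 1)) F))
    (hstab : ∀ k : Matrix (Fin (m + 1)) (Fin (m + 1)) F, k.det = 1 → ∀ S ∈ N, k * S * kᵀ ∈ N)
    (S₀ : Matrix (Fin (m + 1)) (Fin (m + 1)) F) (hS₀ : S₀ ∈ N) (hsymm : S₀ᵀ = S₀)
    (j : Fin (m + 1)) (hj : S₀ j j ≠ 0) :
    ∀ (i : Fin (m + 1)) (c : F), c • Matrix.single i i (1 : F) ∈ N := by
  set c₀ := S₀ j j with hc₀
  have hsym : ∀ r s, S₀ r s = S₀ s r := fun r s => by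
    have := congrFun (congrFun hsymm s) r
    simpa [transpose_apply] using this
  -- the cleaning matrix
  let v : Fin (m + 1) → F := fun r => if r = j then 0 else -(S₀ r j) / c₀
  let K : Matrix (Fin (m + 1)) (Fin (m + 1)) F := 1 + vecMulVec v (Pi.single j 1)
  have hKdet : K.det = 1 := by
    show (1 + vecMulVec v (Pi.single j 1)).det = 1
    rw [vecMulVec_eq (Fin 1), det_one_add_replicateCol_mul_replicateRow]
    simp [v]
  have hKrow : ∀ a, K j a = if a = j then 1 else 0 := by
    intro a
    simp [K, v, vecMulVec_apply, Matrix.one_apply, eq_comm]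
  have hKent : ∀ s a, K s a = (if s = a then 1 else 0) + v s * (if a = j then 1 else 0) := by
    intro s a
    simp [K, vecMulVec_apply, Matrix.one_apply, Pi.single_apply]
  set M := K * S₀ * Kᵀ with hMdef
  have hM : M ∈ N := hstab K hKdet S₀ hS₀
  have hKS : ∀ b, (K * S₀) j b = S₀ j b := by
    intro b
    rw [Matrix.mul_apply]
    simp [hKrow]
  have hMrow : ∀ s, M j s = S₀ j s + v s * c₀ := by
    intro s
    rw [hMdef, Matrix.mul_apply]
    simp only [transpose_apply, hKS, hKent]
    simp [mul_add, Finset.sum_add_distrib, mul_comm (v s)]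
    exact Or.inl hc₀.symm
  have hMcol : ∀ s, M s j = S₀ s j + v s * c₀ := by
    intro s
    rw [hMdef, Matrix.mul_apply]
    simp only [transpose_apply, hKrow]
    simp only [mul_ite, mul_one, mul_zero, Finset.sum_ite_eq', Finset.mem_univ, if_true]
    rw [Matrix.mul_apply]
    simp only [hKent]
    simp [add_mul, Finset.sum_add_distrib]
    exact Or.inl hc₀.symm
  have hMjj : M j j = c₀ := by
    rw [hMrow j]; simp [v]
    exact hc₀.symm
  have hrow : ∀ s, s ≠ j → M j s = 0 := by
    intro s hs
    rw [hMrow s]
    simp only [v, if_neg hs]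
    rw [hsym j s]; field_simp; ring
  have hcol : ∀ s, s ≠ j → M s j = 0 := by
    intro s hs
    rw [hMcol s]
    simp only [v, if_neg hs]
    field_simp; ring
  -- all i ≠ j
  have h1 : ∀ i, i ≠ j → ∀ c : F, single i i c ∈ N := fun i hij c =>
    gamma_core N hq hstab M hM j c₀ hj hMjj hrow hcol i hij c
  -- some index different from j
  obtain ⟨i₀, hi₀⟩ : ∃ i₀ : Fin (m + 1), i₀ ≠ j := by
    by_cases h0 : j = 0
    · refine ⟨Fin.last m, ?_⟩
      rw [h0]
      intro h
      have := congrArg Fin.val h
      simp at this
      omega
    · exact ⟨0, fun h => h0 h.symm⟩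
  have h2 : ∀ c : F, single j j c ∈ N := by
    intro c
    refine gamma_core N hq hstab (single i₀ i₀ 1) (h1 i₀ hi₀ 1) i₀ 1 one_ne_zero ?_ ?_ ?_ j
      hi₀.symm c
    · simp
    · intro s hs; simp [Ne.symm hs]
    · intro s hs; simp [Ne.symm hs]
  intro i c
  rw [smul_single, smul_eq_mul, mul_one]
  by_cases hij : i = j
  · rw [hij]; exact h2 c
  · exact h1 i hij c

end Cfsg.Agent.Lib.Helper5.SpRU
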