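import Mathlib
import Cfsg.Prelude.Def_CaseTheorems

/-!
# S2928: tetrads (definitions)

`IsTet H Q`: `Q` is a 4-set all of whose three double transpositions lie in `H`.
`NoThree H`: `H` contains no 3-cycle.
`planes`: the 14 planes of AG(3,2) on `Fin 8` (binary coordinates), `tr k`: the translations.
-/

set_option autoImplicit false

namespace Cfsg.Agent.Lib.Helper8.Tet

open Equiv Equiv.Perm

variable {Ω : Type*} [Fintype Ω] [DecidableEq Ω]

/-- `Q` is a tetrad for `H`: four points, and every double transposition on `Q` lies in `H`. -/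
def IsTet (H : Subgroup (Perm Ω)) (Q : Finset Ω) : Prop :=
  Q.card = 4 ∧ ∀ a ∈ Q, ∀ b ∈ Q, ∀ c ∈ Q, ∀ d ∈ Q,
    a ≠ b → a ≠ c → a ≠ d → b ≠ c → b ≠ d → c ≠ d → swap a b * swap c d ∈ H

/-- `H` contains no 3-cycle. -/
def NoThree (H : Subgroup (Perm Ω)) : Prop := ∀ t ∈ H, ¬ t.IsThreeCycle

/-- the 14 planes of AG(3,2); the point `i : Fin 8` has coordinates the binary digits of `i`. -/
def planes : Finset (Finset (Fin 8)) :=
  {{0, 1, 2, 3}, {4, 5, 6, 7}, {0, 1, 4, 5}, {2, 3, 6, 7}, {0, 2, 4, 6}, {1, 3, 5, 7},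
   {0, 1, 6, 7}, {2, 3, 4, 5}, {0, 2, 5, 7}, {1, 3, 4, 6}, {0, 3, 4, 7}, {1, 2, 5, 6},
   {0, 3, 5, 6}, {1, 2, 4, 7}}

/-- translation by `001`. -/
def tr1 : Perm (Fin 8) := swap 0 1 * swap 2 3 * swap 4 5 * swap 6 7
/-- translation by `010`. -/
def tr2 : Perm (Fin 8) := swap 0 2 * swap 1 3 * swap 4 6 * swap 5 7
/-- translation by `100`. -/
def tr4 : Perm (Fin 8) := swap 0 4 * swap 1 5 * swap 2 6 * swap 3 7

end Cfsg.Agent.Lib.Helper8.Tet
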