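import Cfsg.Agent.Lib.Helper6.Th24Defs

set_option autoImplicit false

/-! # S1632 PK-SUM: summability of Gaussian lattice sums -/

namespace Cfsg.Agent.Lib.Helper6.Theta24

open Matrix Complex Real

namespace PkSum

/-- one-dimensional shifted Gaussian sums converge -/
theorem summable_one (t : ℝ) (ht : 0 < t) (u : ℝ) :
    Summable (fun k : ℤ => rexp (-t * ((k : ℝ) - u) ^ 2)) := by
  have hτ : 0 < (((t / π : ℝ) : ℂ) * I).im := by
    rw [Complex.mul_I_im, Complex.ofReal_re]; positivity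
  have h := ((summable_jacobiTheta₂_term_iff (((-(t * u / π) : ℝ) : ℂ) * I)
    (((t / π : ℝ) : ℂ) * I)).mpr hτ).norm
  simp only [norm_jacobiTheta₂_term] at h
  have h2 := h.mul_left (rexp (-t * u ^ 2))
  refine h2.congr fun k => ?_
  rw [← Real.exp_add]
  congr 1
  rw [Complex.mul_I_im, Complex.ofReal_re, Complex.mul_I_im, Complex.ofReal_re]
  have hpi : π ≠ 0 := Real.pi_ne_zero
  field_simp
  ring

/-- products of nonnegative summable families are summable over `Fin n → ℤ` -/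
theorem summable_prod_fin {n : ℕ} (g : Fin n → ℤ → ℝ) (hg0 : ∀ i k, 0 ≤ g i k)
    (hg : ∀ i, Summable (g i)) : Summable (fun x : Fin n → ℤ => ∏ i, g i (x i)) := by
  classical
  refine summable_of_sum_le (c := ∏ i, ∑' k, g i k)
    (fun x => Finset.prod_nonneg fun i _ => hg0 i (x i)) fun T => ?_
  have hsub : T ⊆ Fintype.piFinset (fun i => T.image (fun x => x i)) := by
    intro x hx
    rw [Fintype.mem_piFinset]
    intro i
    exact Finset.mem_image_of_mem _ hx
  calc ∑ x ∈ T, ∏ i, g i (x i)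
      ≤ ∑ x ∈ Fintype.piFinset (fun i => T.image (fun x => x i)), ∏ i, g i (x i) :=
        Finset.sum_le_sum_of_subset_of_nonneg hsub
          fun x _ _ => Finset.prod_nonneg fun i _ => hg0 i (x i)
    _ = ∏ i, ∑ k ∈ T.image (fun x => x i), g i k := by
        rw [Finset.prod_univ_sum]
    _ ≤ ∏ i, ∑' k, g i k := by
        refine Finset.prod_le_prod (fun i _ => Finset.sum_nonneg fun k _ => hg0 i k) fun i _ => ?_
        exact (hg i).sum_le_tsum _ fun k _ => hg0 i k

theorem qf_eq_sum {n : ℕ} (A : Matrix (Fin n) (Fin n) ℝ) (x : Fin n → ℝ) :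
    qf A x = ∑ i, x i * ∑ j, A i j * x j := rfl

theorem continuous_qf {n : ℕ} (A : Matrix (Fin n) (Fin n) ℝ) : Continuous (qf A) := by
  show Continuous (fun x : Fin n → ℝ => ∑ i, x i * ∑ j, A i j * x j)
  fun_prop

theorem qf_smul {n : ℕ} (A : Matrix (Fin n) (Fin n) ℝ) (r : ℝ) (x : Fin n → ℝ) :
    qf A (r • x) = r ^ 2 * qf A x := by
  unfold qf
  rw [mulVec_smul, dotProduct_smul, smul_dotProduct]
  simp only [smul_eq_mul]
  ring

/-- a positive definite form dominates a multiple of the sum of squares -/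
theorem exists_lower_bound {n : ℕ} (A : Matrix (Fin n) (Fin n) ℝ) (hA : PD A) :
    ∃ c : ℝ, 0 < c ∧ ∀ x : Fin n → ℝ, c * ∑ i, x i ^ 2 ≤ qf A x := by
  rcases n with _ | n
  · refine ⟨1, one_pos, fun x => ?_⟩
    simp [qf_eq_sum]
  · have hcomp : IsCompact (Metric.sphere (0 : Fin (n+1) → ℝ) 1) := isCompact_sphere _ _
    have hne : (Metric.sphere (0 : Fin (n+1) → ℝ) 1).Nonempty :=
      (NormedSpace.sphere_nonempty).mpr zero_le_one
    obtain ⟨x0, hx0, hmin⟩ := hcomp.exists_isMinOn hne (continuous_qf A).continuousOn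
    have hx0n : ‖x0‖ = 1 := by simpa using hx0
    have hx0ne : x0 ≠ 0 := by
      intro h; rw [h, norm_zero] at hx0n; exact zero_ne_one hx0n
    have hm : 0 < qf A x0 := hA x0 hx0ne
    have hbound : ∀ x : Fin (n+1) → ℝ, qf A x0 * ‖x‖ ^ 2 ≤ qf A x := by
      intro x
      by_cases hx : x = 0
      · subst hx
        simp [qf_eq_sum]
      · have hnx : 0 < ‖x‖ := norm_pos_iff.mpr hx
        have hmem : ‖x‖⁻¹ • x ∈ Metric.sphere (0 : Fin (n+1) → ℝ) 1 := by
          rw [mem_sphere_zero_iff_norm, norm_smul, norm_inv, norm_norm, inv_mul_cancel₀ hnx.ne']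
        have h1 := hmin hmem
        have h2 : qf A x = ‖x‖ ^ 2 * qf A (‖x‖⁻¹ • x) := by
          rw [qf_smul]
          field_simp
        rw [h2]
        have h3 : qf A x0 ≤ qf A (‖x‖⁻¹ • x) := h1
        nlinarith [sq_nonneg ‖x‖]
    refine ⟨qf A x0 / (n + 1), by positivity, fun x => ?_⟩
    have hsum : ∑ i, x i ^ 2 ≤ (n + 1 : ℝ) * ‖x‖ ^ 2 := by
      have : ∀ i ∈ (Finset.univ : Finset (Fin (n+1))), x i ^ 2 ≤ ‖x‖ ^ 2 := by
        intro i _
        have h := norm_le_pi_norm x i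
        rw [Real.norm_eq_abs] at h
        rw [← sq_abs (x i)]
        exact pow_le_pow_left₀ (abs_nonneg _) h 2
      have := Finset.sum_le_card_nsmul _ _ _ this
      simpa using this
    calc qf A x0 / (n + 1) * ∑ i, x i ^ 2
        ≤ qf A x0 / (n + 1) * ((n + 1 : ℝ) * ‖x‖ ^ 2) :=
          mul_le_mul_of_nonneg_left hsum (by positivity)
      _ = qf A x0 * ‖x‖ ^ 2 := by field_simp
      _ ≤ qf A x := hbound x

end PkSum

/-! ## PK-SUM -/
theorem summable_gauss {n : ℕ} (A : Matrix (Fin n) (Fin n) ℝ) (hA : PD A) (s : ℝ) (hs : 0 < s)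
    (u : Fin n → ℝ) :
    Summable (fun x : Fin n → ℤ => rexp (-s * qf A (fun i => (x i : ℝ) - u i))) := by
  obtain ⟨c, hc, hbound⟩ := PkSum.exists_lower_bound A hA
  have hprod := PkSum.summable_prod_fin (fun i k => rexp (-(s * c) * ((k : ℝ) - u i) ^ 2))
    (fun i k => (Real.exp_pos _).le) (fun i => PkSum.summable_one (s * c) (by positivity) (u i))
  refine Summable.of_nonneg_of_le (fun x => (Real.exp_pos _).le) (fun x => ?_) hprod
  rw [← Real.exp_sum, Real.exp_le_exp]
  have h := hbound (fun i => (x i : ℝ) - u i)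
  have h2 : ∑ i, -(s * c) * ((x i : ℝ) - u i) ^ 2 = -s * (c * ∑ i, ((x i : ℝ) - u i) ^ 2) := by
    rw [Finset.mul_sum, Finset.mul_sum]
    refine Finset.sum_congr rfl fun i _ => ?_
    ring
  rw [h2]
  nlinarith

end Cfsg.Agent.Lib.Helper6.Theta24
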