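import Mathlib
import Cfsg.Agent.S0153
import Cfsg.Agent.Lib.Helper4.GaloisTwist

/-!
# Determinants of characters
-/

set_option autoImplicit false
set_option linter.unusedSectionVars false
set_option linter.unusedVariables false

namespace Cfsg.Agent.Lib.Helper8.BZ

open Cfsg
open Cfsg.Agent.Lib.Helper1 Cfsg.Agent.Lib.Helper4

universe u

section

variable {G : Type u} [Group G]

/-- `δ` is the determinant of a matrix representation affording `χ`. -/
def HasDet (χ δ : G → ℂ) : Prop :=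
  ∃ (n : ℕ) (ρ : Representation ℂ G (Fin n → ℂ)), ρ.character = χ ∧ ∀ g, LinearMap.det (ρ g) = δ g

theorem exists_hasDet {χ : G → ℂ} (hχ : IsCharacter G χ) : ∃ δ : G → ℂ, HasDet χ δ := by
  obtain ⟨n, ρ, h⟩ := hχ
  exact ⟨fun g => LinearMap.det (ρ g), n, ρ, h, fun _ => rfl⟩

theorem HasDet.isCharacter {χ δ : G → ℂ} (h : HasDet χ δ) : IsCharacter G χ := by
  obtain ⟨n, ρ, h1, _⟩ := h
  exact ⟨n, ρ, h1⟩

theorem HasDet.map_mul {χ δ : G → ℂ} (h : HasDet χ δ) (g k : G) : δ (g * k) = δ g * δ k := by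
  obtain ⟨n, ρ, _, h2⟩ := h
  rw [← h2, ← h2, ← h2, _root_.map_mul, Module.End.mul_eq_comp, LinearMap.det_comp]

theorem HasDet.map_one {χ δ : G → ℂ} (h : HasDet χ δ) : δ 1 = 1 := by
  obtain ⟨n, ρ, _, h2⟩ := h
  rw [← h2, _root_.map_one, Module.End.one_eq_id, LinearMap.det_id]

theorem HasDet.map_pow {χ δ : G → ℂ} (h : HasDet χ δ) (g : G) (m : ℕ) : δ (g ^ m) = δ g ^ m := by
  induction m with
  | zero => rw [pow_zero, pow_zero, h.map_one]
  | succ m ih => rw [pow_succ, pow_succ, h.map_mul, ih]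

/-- The determinant is determined by the character. -/
theorem HasDet.unique [Finite G] {χ δ δ' : G → ℂ} (h : HasDet χ δ) (h' : HasDet χ δ') : δ = δ' := by
  obtain ⟨n, ρ, h1, h2⟩ := h
  obtain ⟨n', ρ', h1', h2'⟩ := h'
  obtain ⟨ε⟩ := Cfsg.Agent.S0153.result ρ ρ' (h1.trans h1'.symm)
  funext g
  rw [← h2, ← h2']
  set e : (Fin n → ℂ) ≃ₗ[ℂ] (Fin n' → ℂ) := ε.toLinearEquiv with he
  have hi : e.toLinearMap ∘ₗ ρ g = ρ' g ∘ₗ e.toLinearMap := ε.toIntertwiningMap.isIntertwining' g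
  have h3 : ρ' g = (e : (Fin n → ℂ) →ₗ[ℂ] (Fin n' → ℂ)) ∘ₗ ρ g ∘ₗ
      (e.symm : (Fin n' → ℂ) →ₗ[ℂ] (Fin n → ℂ)) := by
    refine LinearMap.ext fun v => ?_
    have := LinearMap.congr_fun hi (e.symm v)
    simp only [LinearMap.comp_apply, LinearEquiv.coe_coe, LinearEquiv.apply_symm_apply] at this ⊢
    exact this.symm
  rw [h3, LinearMap.det_conj]

/-- The determinant of the product with a linear character. -/
theorem HasDet.hom_mul {χ δ : G → ℂ} (h : HasDet χ δ) (f : G →* ℂˣ) {d : ℕ} (hd : χ 1 = d) :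
    HasDet (fun g => ((f g : ℂˣ) : ℂ) * χ g) (fun g => ((f g : ℂˣ) : ℂ) ^ d * δ g) := by
  obtain ⟨n, ρ, h1, h2⟩ := h
  have hn : n = d := by
    have : (n : ℂ) = d := by
      rw [← hd, ← h1, Representation.char_one]
      simp
    exact_mod_cast this
  subst hn
  let σ : Representation ℂ G (Fin n → ℂ) :=
    { toFun := fun g => ((f g : ℂˣ) : ℂ) • ρ g
      map_one' := by
        simp
      map_mul' := by
        intro a b
        rw [_root_.map_mul, _root_.map_mul, Units.val_mul, smul_mul_smul_comm] }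
  refine ⟨n, σ, ?_, ?_⟩
  · funext g
    rw [← h1]
    unfold Representation.character
    show LinearMap.trace ℂ _ (((f g : ℂˣ) : ℂ) • ρ g) = _
    rw [_root_.map_smul, smul_eq_mul]
  · intro g
    show LinearMap.det (((f g : ℂˣ) : ℂ) • ρ g) = _
    rw [LinearMap.det_smul, h2]
    simp

/-- The determinant of a Galois twist. -/
theorem HasDet.twist {χ δ : G → ℂ} (h : HasDet χ δ) (τ : ℂ →+* ℂ) :
    HasDet (fun g => τ (χ g)) (fun g => τ (δ g)) := by
  obtain ⟨n, ρ, h1, h2⟩ := h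
  refine ⟨n, twistRep τ ρ, ?_, ?_⟩
  · funext g
    rw [twistRep_character, h1]
  · intro g
    show LinearMap.det (Matrix.toLin' ((LinearMap.toMatrix' (ρ g)).map τ)) = τ (δ g)
    rw [← h2]
    rw [LinearMap.det_toLin']
    have e1 : LinearMap.det (ρ g) = (LinearMap.toMatrix' (ρ g)).det := by
      conv_lhs => rw [← Matrix.toLin'_toMatrix' (ρ g)]
      rw [LinearMap.det_toLin']
    rw [e1]
    exact (RingHom.map_det τ _).symm

/-- The determinant of a restriction. -/
theorem HasDet.restrict {χ δ : G → ℂ} (h : HasDet χ δ) (H : Subgroup G) :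
    HasDet (fun x : H => χ x) (fun x : H => δ x) := by
  obtain ⟨n, ρ, h1, h2⟩ := h
  refine ⟨n, ρ.comp H.subtype, ?_, ?_⟩
  · funext x
    rw [← h1]
    rfl
  · intro x
    exact h2 x

end

end Cfsg.Agent.Lib.Helper8.BZ
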