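import Mathlib
import Cfsg.Agent.Lib.Helper4.TD4

set_option autoImplicit false

/-! Isaacs, Lemma 12.3 (group-theoretic part): a solvable non-abelian group all of whose proper
quotients are abelian is a `p`-group, or its commutator subgroup is an abelian `p`-group on which
every outside element acts without fixed points. -/

namespace Cfsg.Agent.Lib.Helper8.DG

open Cfsg.Agent.Lib.Helper4.TD

universe u

section LemmaX

variable {X : Type u} [Group X] [Finite X]

omit [Finite X] in
theorem comm_mem_commutator (x y : X) : x * y * x⁻¹ * y⁻¹ ∈ commutator X := by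
  rw [commutator_def]
  have := Subgroup.commutator_mem_commutator (Subgroup.mem_top x) (Subgroup.mem_top y)
  simpa [commutatorElement_def] using this

omit [Finite X] in
/-- Every subgroup containing the commutator subgroup is normal. -/
theorem normal_of_commutator_le (H : Subgroup X) (h : commutator X ≤ H) : H.Normal := by
  constructor
  intro y hy x
  have h1 := comm_mem_commutator x y
  have h2 : x * y * x⁻¹ = (x * y * x⁻¹ * y⁻¹) * y := by group
  rw [h2]
  exact H.mul_mem (h h1) hy

theorem pgroup_or_frobenius (hsolv : Group.IsSolvable X)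
    (hnab : ∃ a b : X, a * b ≠ b * a)
    (hmin : ∀ L : Subgroup X, L.Normal → L ≠ ⊥ → commutator X ≤ L) :
    ∃ p : ℕ, p.Prime ∧ (IsPGroup p X ∨
      (IsPGroup p (commutator X) ∧ (∀ a ∈ commutator X, ∀ b ∈ commutator X, a * b = b * a) ∧
        ∀ x : X, x ∉ commutator X → ∀ v ∈ commutator X, x * v = v * x → v = 1)) := by
  classical
  set V : Subgroup X := commutator X with hV
  have hVn : V.Normal := inferInstance
  have hVb : V ≠ ⊥ := by
    intro h
    obtain ⟨a, b, hab⟩ := hnab
    apply hab
    have h1 := comm_mem_commutator a b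
    rw [← hV, h, Subgroup.mem_bot] at h1
    have : a * b = (a * b * a⁻¹ * b⁻¹) * (b * a) := by group
    rw [this, h1, one_mul]
  have hminV : ∀ L : Subgroup X, L.Normal → L ≤ V → L ≠ ⊥ → L = V :=
    fun L hL hLV hLb => le_antisymm hLV (hmin L hL hLb)
  have hVab := abelian_of_minimal_normal hsolv V hVb hminV
  -- a prime dividing the order of V
  have hc : Nat.card V ≠ 1 := by
    intro h
    exact hVb (Subgroup.card_eq_one.1 h)
  obtain ⟨p, hp, hpd⟩ := Nat.exists_prime_and_dvd hc
  have := Fact.mk hp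
  obtain ⟨v₀, hv₀⟩ := exists_prime_orderOf_dvd_card' p hpd
  refine ⟨p, hp, ?_⟩
  -- V has exponent p
  let L : Subgroup X :=
    { carrier := {x | x ∈ V ∧ x ^ p = 1}
      one_mem' := ⟨V.one_mem, one_pow p⟩
      mul_mem' := by
        rintro a b ⟨ha, ha'⟩ ⟨hb, hb'⟩
        refine ⟨V.mul_mem ha hb, ?_⟩
        have hcomm : Commute a b := hVab a ha b hb
        rw [hcomm.mul_pow, ha', hb', one_mul]
      inv_mem' := by
        rintro a ⟨ha, ha'⟩
        exact ⟨V.inv_mem ha, by rw [inv_pow, ha', inv_one]⟩ }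
  have hLn : L.Normal := by
    constructor
    rintro y ⟨hy, hy'⟩ x
    exact ⟨hVn.conj_mem y hy x, by rw [conj_pow, hy', mul_one, mul_inv_cancel]⟩
  have hLV : L ≤ V := fun x hx => hx.1
  have hLb : L ≠ ⊥ := by
    intro h
    have h1 : (v₀ : X) ∈ L := by
      refine ⟨v₀.2, ?_⟩
      have : v₀ ^ p = 1 := by rw [← hv₀]; exact pow_orderOf_eq_one v₀
      have := congrArg Subtype.val this
      simpa using this
    rw [h, Subgroup.mem_bot] at h1
    have h2 : v₀ = 1 := Subtype.ext h1
    rw [h2, orderOf_one] at hv₀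
    exact hp.one_lt.ne hv₀
  have hLeq : L = V := hminV L hLn hLV hLb
  have hexp : ∀ v ∈ V, v ^ p = 1 := by
    intro v hv
    have : v ∈ L := by rw [hLeq]; exact hv
    exact this.2
  have hVp : IsPGroup p V := by
    intro g
    refine ⟨1, ?_⟩
    rw [pow_one]
    apply Subtype.ext
    have := hexp g g.2
    simpa using this
  by_cases hX : IsPGroup p X
  · exact Or.inl hX
  right
  refine ⟨hVp, hVab, ?_⟩
  -- another prime
  have hq : ∃ q : ℕ, q.Prime ∧ q ≠ p ∧ q ∣ Nat.card X := by
    by_contra hcon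
    push Not at hcon
    apply hX
    rw [IsPGroup.iff_card]
    refine ⟨_, Nat.eq_prime_pow_of_unique_prime_dvd (Nat.card_pos.ne') ?_⟩
    intro q hq hqd
    by_contra hne
    exact hcon q hq hne hqd
  obtain ⟨q, hq, hqp, hqd⟩ := hq
  have := Fact.mk hq
  obtain ⟨Q⟩ := (inferInstance : Nonempty (Sylow q X))
  have hQb : (Q : Subgroup X) ≠ ⊥ := Q.ne_bot_of_dvd_card hqd
  set W : Subgroup X := (Q : Subgroup X) ⊔ V with hW
  have hWn : W.Normal := normal_of_commutator_le W le_sup_right
  set H : Subgroup X := Subgroup.normalizer (Q : Subgroup X) with hH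
  have hQH : (Q : Subgroup X) ≤ H := Subgroup.le_normalizer
  have hHV : H ⊔ V = ⊤ := by
    have h1 := Sylow.normalizer_sup_eq_top (Q.subtype (le_sup_left : (Q : Subgroup X) ≤ W))
    have h2 : ((Q.subtype (le_sup_left : (Q : Subgroup X) ≤ W) : Sylow q W) :
        Subgroup W).map W.subtype = (Q : Subgroup X) := by
      rw [Sylow.coe_subtype, Subgroup.subgroupOf_map_subtype]
      exact inf_eq_left.2 le_sup_left
    rw [h2] at h1
    rw [eq_top_iff, ← h1, ← sup_assoc]
    apply sup_le_sup_right
    exact sup_le le_rfl hQH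
  -- H ⊓ V is normal, hence trivial
  have hdisj : Disjoint (V : Subgroup X) (Q : Subgroup X) :=
    IsPGroup.disjoint_of_ne p q (Ne.symm hqp) V Q hVp Q.isPGroup'
  have hHVn : (H ⊓ V).Normal := by
    apply normal_of_sup_eq_top H V (H ⊓ V) hHV
    · intro a ha y hy
      exact ⟨H.mul_mem (H.mul_mem ha hy.1) (H.inv_mem ha), hVn.conj_mem y hy.2 a⟩
    · intro v hv y hy
      have : v * y * v⁻¹ = y := by
        rw [hVab v hv y hy.2, mul_assoc, mul_inv_cancel, mul_one]
      rw [this]
      exact hy
  have hHVbot : H ⊓ V = ⊥ := by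
    by_contra hne
    have h1 : V ≤ H ⊓ V := hmin _ hHVn hne
    have hVH : V ≤ H := h1.trans inf_le_left
    -- V centralizes Q
    have hcent : ∀ v ∈ V, ∀ y ∈ (Q : Subgroup X), v * y * v⁻¹ = y := by
      intro v hv y hy
      have h2 : v * y * v⁻¹ * y⁻¹ ∈ (V : Subgroup X) ⊓ (Q : Subgroup X) := by
        constructor
        · have : v * y * v⁻¹ * y⁻¹ = v * (y * v⁻¹ * y⁻¹) := by group
          rw [this]
          exact V.mul_mem hv (hVn.conj_mem _ (V.inv_mem hv) y)
        · have h3 := hVH hv
          rw [hH, Subgroup.mem_normalizer_iff] at h3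
          exact (Q : Subgroup X).mul_mem ((h3 y).1 hy) ((Q : Subgroup X).inv_mem hy)
      rw [hdisj.eq_bot, Subgroup.mem_bot] at h2
      have : v * y * v⁻¹ = (v * y * v⁻¹ * y⁻¹) * y := by group
      rw [this, h2, one_mul]
    -- Q is normal
    have hQn : (Q : Subgroup X).Normal := by
      apply normal_of_sup_eq_top H V (Q : Subgroup X) hHV
      · intro a ha y hy
        rw [hH, Subgroup.mem_normalizer_iff] at ha
        exact (ha y).1 hy
      · intro v hv y hy
        rw [hcent v hv y hy]
        exact hy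
    have h4 : V ≤ (Q : Subgroup X) := hmin _ hQn hQb
    have h5 : V ≤ (V : Subgroup X) ⊓ (Q : Subgroup X) := le_inf le_rfl h4
    rw [hdisj.eq_bot] at h5
    exact hVb (le_bot_iff.1 h5)
  -- H is abelian
  have hHab : ∀ a ∈ H, ∀ b ∈ H, a * b = b * a := by
    intro a ha b hb
    have h1 : a * b * a⁻¹ * b⁻¹ ∈ H ⊓ V :=
      ⟨H.mul_mem (H.mul_mem (H.mul_mem ha hb) (H.inv_mem ha)) (H.inv_mem hb),
        comm_mem_commutator a b⟩
    rw [hHVbot, Subgroup.mem_bot] at h1
    have : a * b = (a * b * a⁻¹ * b⁻¹) * (b * a) := by group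
    rw [this, h1, one_mul]
  -- the centralizer of V in H is trivial
  let C : Subgroup X :=
    { carrier := {h | h ∈ H ∧ ∀ v ∈ V, h * v = v * h}
      one_mem' := ⟨H.one_mem, fun v _ => by rw [one_mul, mul_one]⟩
      mul_mem' := by
        rintro a b ⟨ha, ha'⟩ ⟨hb, hb'⟩
        refine ⟨H.mul_mem ha hb, fun v hv => ?_⟩
        rw [mul_assoc, hb' v hv, ← mul_assoc, ha' v hv, mul_assoc]
      inv_mem' := by
        rintro a ⟨ha, ha'⟩
        refine ⟨H.inv_mem ha, fun v hv => ?_⟩
        have := ha' v hv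
        have h2 : a⁻¹ * v = a⁻¹ * (v * a) * a⁻¹ := by group
        rw [h2, ← this]
        group }
  have hCn : C.Normal := by
    apply normal_of_sup_eq_top H V C hHV
    · intro a ha y hy
      have : a * y * a⁻¹ = y := by
        rw [hHab a ha y hy.1, mul_assoc, mul_inv_cancel, mul_one]
      rw [this]
      exact hy
    · intro v hv y hy
      have : v * y * v⁻¹ = y := by
        rw [← hy.2 v hv, mul_assoc, mul_inv_cancel, mul_one]
      rw [this]
      exact hy
  have hCbot : C = ⊥ := by
    by_contra hne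
    have h1 : V ≤ C := hmin _ hCn hne
    have h2 : V ≤ H ⊓ V := le_inf (fun v hv => (h1 hv).1) le_rfl
    rw [hHVbot] at h2
    exact hVb (le_bot_iff.1 h2)
  -- fixed points
  intro x hx v hv hxv
  by_contra hv1
  have hxm : x ∈ (↑(H ⊔ V) : Set X) := by rw [hHV]; trivial
  rw [Subgroup.mul_normal] at hxm
  obtain ⟨h, hh, v₁, hv₁, rfl⟩ := Set.mem_mul.1 hxm
  -- h commutes with v
  have hhv : h * v = v * h := by
    have h1 : h * v₁ * v = v * (h * v₁) := hxv
    have h2 : v₁ * v = v * v₁ := hVab v₁ hv₁ v hv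
    have h3 : h * v * v₁ = v * h * v₁ := by
      calc h * v * v₁ = h * (v * v₁) := by group
        _ = h * (v₁ * v) := by rw [h2]
        _ = h * v₁ * v := by group
        _ = v * (h * v₁) := h1
        _ = v * h * v₁ := by group
    exact mul_right_cancel h3
  -- the centralizer of h in V is normal
  let Lh : Subgroup X :=
    { carrier := {w | w ∈ V ∧ h * w = w * h}
      one_mem' := ⟨V.one_mem, by rw [one_mul, mul_one]⟩
      mul_mem' := by
        rintro a b ⟨ha, ha'⟩ ⟨hb, hb'⟩
        refine ⟨V.mul_mem ha hb, ?_⟩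
        rw [← mul_assoc, ha', mul_assoc, hb', mul_assoc]
      inv_mem' := by
        rintro a ⟨ha, ha'⟩
        refine ⟨V.inv_mem ha, ?_⟩
        have h2 : h * a⁻¹ = a⁻¹ * (a * h) * a⁻¹ := by group
        rw [h2, ← ha']
        group }
  have hLhn : Lh.Normal := by
    apply normal_of_sup_eq_top H V Lh hHV
    · intro a ha y hy
      refine ⟨hVn.conj_mem y hy.1 a, ?_⟩
      have h1 : h * a = a * h := hHab h hh a ha
      have h1' : h * a⁻¹ = a⁻¹ * h := by
        have : h * a⁻¹ = a⁻¹ * (a * h) * a⁻¹ := by group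
        rw [this, ← h1]
        group
      calc h * (a * y * a⁻¹) = (h * a) * y * a⁻¹ := by group
        _ = a * (h * y) * a⁻¹ := by rw [h1]; group
        _ = a * (y * h) * a⁻¹ := by rw [hy.2]
        _ = a * y * (h * a⁻¹) := by group
        _ = a * y * (a⁻¹ * h) := by rw [h1']
        _ = a * y * a⁻¹ * h := by group
    · intro w hw y hy
      have : w * y * w⁻¹ = y := by
        rw [hVab w hw y hy.1, mul_assoc, mul_inv_cancel, mul_one]
      rw [this]
      exact hy
  have hLhb : Lh ≠ ⊥ := by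
    intro hb
    have : v ∈ Lh := ⟨hv, hhv⟩
    rw [hb, Subgroup.mem_bot] at this
    exact hv1 this
  have hVLh : V ≤ Lh := hmin _ hLhn hLhb
  have hhC : h ∈ C := ⟨hh, fun w hw => (hVLh hw).2⟩
  rw [hCbot, Subgroup.mem_bot] at hhC
  apply hx
  rw [hhC, one_mul]
  exact hv₁

end LemmaX

end Cfsg.Agent.Lib.Helper8.DG
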