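import Mathlib
import Cfsg.Agent.Lib.Helper8.DG1

set_option autoImplicit false

/-! Isaacs, Lemma 12.3, pulled back to the group: a solvable non-abelian group has a non-abelian
quotient that is a `p`-group, or a quotient `G / K` with an abelian normal `p`-subgroup `N / K`
on which every element outside `N` acts without fixed points, `G / N` being abelian. -/

namespace Cfsg.Agent.Lib.Helper8.DG

universe u

variable {G : Type u} [Group G] [Finite G]

theorem exists_quotient_dichotomy (hsolv : Group.IsSolvable G)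
    (hnab : ∃ a b : G, a * b ≠ b * a) :
    ∃ (p : ℕ) (K N : Subgroup G), p.Prime ∧ K.Normal ∧ N.Normal ∧ K ≤ N ∧
      (∃ a b : G, a * b * a⁻¹ * b⁻¹ ∉ K) ∧
      ((N = ⊤ ∧ ∃ k, K.index = p ^ k) ∨
        (N ≠ ⊤ ∧ K ≠ N ∧ commutator G ≤ N ∧ (∀ a ∈ N, ∀ b ∈ N, a * b * a⁻¹ * b⁻¹ ∈ K) ∧
          (∃ k, K.relIndex N = p ^ k) ∧
          ∀ g : G, g ∉ N → ∀ n ∈ N, g * n * g⁻¹ * n⁻¹ ∈ K → n ∈ K)) := by
  classical
  obtain ⟨K, hK⟩ := exists_maximal_of_wellFoundedGT
    (fun K : Subgroup G => K.Normal ∧ ∃ a b : G, a * b * a⁻¹ * b⁻¹ ∉ K) ⟨⊥, inferInstance, by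
      obtain ⟨a, b, hab⟩ := hnab
      refine ⟨a, b, fun h => hab ?_⟩
      rw [Subgroup.mem_bot] at h
      have : a * b = (a * b * a⁻¹ * b⁻¹) * (b * a) := by group
      rw [this, h, one_mul]⟩
  obtain ⟨hKn, a₀, b₀, hab₀⟩ := hK.1
  have := hKn
  have hXs : Group.IsSolvable (G ⧸ K) := inferInstance
  have hmk : ∀ x : G, (QuotientGroup.mk' K) x = 1 ↔ x ∈ K := fun x => QuotientGroup.eq_one_iff x
  have hXnab : ∃ a b : G ⧸ K, a * b ≠ b * a := by
    refine ⟨QuotientGroup.mk' K a₀, QuotientGroup.mk' K b₀, fun h => hab₀ ?_⟩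
    rw [← hmk]
    simp only [map_mul, map_inv]
    rw [h]
    group
  have hXmin : ∀ L : Subgroup (G ⧸ K), L.Normal → L ≠ ⊥ → commutator (G ⧸ K) ≤ L := by
    intro L hLn hLb
    set K₁ : Subgroup G := L.comap (QuotientGroup.mk' K) with hK₁
    have hK₁n : K₁.Normal := hLn.comap _
    have hKK₁ : K ≤ K₁ := by
      intro x hx
      rw [hK₁, Subgroup.mem_comap, (hmk x).2 hx]
      exact L.one_mem
    have hne : ¬ (K₁.Normal ∧ ∃ a b : G, a * b * a⁻¹ * b⁻¹ ∉ K₁) := by
      intro hcon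
      have h1 := hK.2 hcon hKK₁
      apply hLb
      rw [eq_bot_iff]
      intro y hy
      obtain ⟨x, rfl⟩ := QuotientGroup.mk_surjective y
      have hx : x ∈ K₁ := hy
      rw [Subgroup.mem_bot]
      exact (QuotientGroup.eq_one_iff x).2 (h1 hx)
    have hall : ∀ a b : G, a * b * a⁻¹ * b⁻¹ ∈ K₁ := by
      intro a b
      by_contra h
      exact hne ⟨hK₁n, a, b, h⟩
    rw [commutator_def, Subgroup.commutator_le]
    intro y₁ _ y₂ _
    obtain ⟨x₁, rfl⟩ := QuotientGroup.mk_surjective y₁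
    obtain ⟨x₂, rfl⟩ := QuotientGroup.mk_surjective y₂
    have := hall x₁ x₂
    rw [hK₁, Subgroup.mem_comap] at this
    simpa [commutatorElement_def] using this
  obtain ⟨p, hp, halt⟩ := pgroup_or_frobenius hXs hXnab hXmin
  have := Fact.mk hp
  rcases halt with hA | ⟨hVp, hVab, hfpf⟩
  · refine ⟨p, K, ⊤, hp, hKn, inferInstance, le_top, ⟨a₀, b₀, hab₀⟩, Or.inl ⟨rfl, ?_⟩⟩
    obtain ⟨k, hk⟩ := IsPGroup.iff_card.1 hA
    exact ⟨k, by rw [Subgroup.index_eq_card, hk]⟩
  · set V : Subgroup (G ⧸ K) := commutator (G ⧸ K) with hV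
    set N : Subgroup G := V.comap (QuotientGroup.mk' K) with hN
    have hNn : N.Normal := (inferInstance : V.Normal).comap _
    have hKN : K ≤ N := by
      intro x hx
      rw [hN, Subgroup.mem_comap, (hmk x).2 hx]
      exact V.one_mem
    have hmemN : ∀ x : G, x ∈ N ↔ (QuotientGroup.mk' K) x ∈ V := fun x => Iff.rfl
    refine ⟨p, K, N, hp, hKn, hNn, hKN, ⟨a₀, b₀, hab₀⟩, Or.inr ⟨?_, ?_, ?_, ?_, ?_, ?_⟩⟩
    · intro htop
      obtain ⟨a, b, hab⟩ := hXnab
      apply hab
      obtain ⟨x, rfl⟩ := QuotientGroup.mk_surjective a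
      obtain ⟨y, rfl⟩ := QuotientGroup.mk_surjective b
      have hx : x ∈ N := by rw [htop]; trivial
      have hy : y ∈ N := by rw [htop]; trivial
      exact hVab _ hx _ hy
    · intro hKeq
      obtain ⟨a, b, hab⟩ := hXnab
      apply hab
      have h1 := comm_mem_commutator a b
      obtain ⟨x, hx⟩ := QuotientGroup.mk_surjective (a * b * a⁻¹ * b⁻¹)
      have hxN : x ∈ N := by
        rw [hmemN]
        show QuotientGroup.mk x ∈ V
        rw [hx]; exact h1
      rw [← hKeq] at hxN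
      have h2 : (QuotientGroup.mk x : G ⧸ K) = 1 := (QuotientGroup.eq_one_iff x).2 hxN
      rw [hx] at h2
      have : a * b = (a * b * a⁻¹ * b⁻¹) * (b * a) := by group
      rw [this, h2, one_mul]
    · rw [commutator_def, Subgroup.commutator_le]
      intro x _ y _
      rw [hmemN]
      have := comm_mem_commutator ((QuotientGroup.mk' K) x) ((QuotientGroup.mk' K) y)
      simpa [commutatorElement_def] using this
    · intro a ha b hb
      rw [← hmk]
      simp only [map_mul, map_inv]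
      rw [hVab _ ha _ hb]
      group
    · obtain ⟨k, hk⟩ := IsPGroup.iff_card.1 hVp
      refine ⟨k, ?_⟩
      have h1 : K = (⊥ : Subgroup (G ⧸ K)).comap (QuotientGroup.mk' K) := by
        rw [MonoidHom.comap_bot, QuotientGroup.ker_mk']
      have h2 : N.map (QuotientGroup.mk' K) = V := by
        rw [hN]
        exact Subgroup.map_comap_eq_self_of_surjective (QuotientGroup.mk'_surjective K) V
      calc K.relIndex N = ((⊥ : Subgroup (G ⧸ K)).comap (QuotientGroup.mk' K)).relIndex N := by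
            rw [← h1]
        _ = (⊥ : Subgroup (G ⧸ K)).relIndex (N.map (QuotientGroup.mk' K)) :=
            Subgroup.relIndex_comap _ _ _
        _ = Nat.card V := by rw [h2, Subgroup.relIndex_bot_left]
        _ = p ^ k := hk
    · intro g hg n hn hgn
      rw [← hmk]
      apply hfpf _ hg _ hn
      have h1 := (hmk _).2 hgn
      simp only [map_mul, map_inv] at h1
      have : (QuotientGroup.mk' K) g * (QuotientGroup.mk' K) n =
          ((QuotientGroup.mk' K) g * (QuotientGroup.mk' K) n * ((QuotientGroup.mk' K) g)⁻¹ *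
            ((QuotientGroup.mk' K) n)⁻¹) * ((QuotientGroup.mk' K) n * (QuotientGroup.mk' K) g) := by
        group
      rw [this, h1, one_mul]

end Cfsg.Agent.Lib.Helper8.DG
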