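import Mathlib
import Cfsg.Agent.Lib.Helper4.TD3

set_option autoImplicit false

/-! A form of Isaacs, Theorem 12.4: if `G / K` has an abelian normal subgroup `N / K` on which
every element outside `N` acts without fixed points, then an irreducible character of `N` whose
restriction to `K` is irreducible has a twist inducing irreducibly to `G`. -/

namespace Cfsg.Agent.Lib.Helper8.DG

open Cfsg Cfsg.Agent.Lib.Helper1 Cfsg.Agent.Lib.Helper4 Cfsg.Agent.Lib.Helper4.TD

universe u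

section Restrict

variable {T : Type u} [Group T] [Finite T]

/-- An irreducible character of degree prime to `p` restricts irreducibly to a normal subgroup of
`p`-power index. -/
theorem restrict_irr_of_not_dvd (p k : ℕ) (hp : p.Prime) (Y : Subgroup T) [hY : Y.Normal]
    (hidx : Y.index = p ^ k) {ψ : T → ℂ} (hψ : Cfsg.IsIrrCharacter T ψ) (e : ℕ) (he : ψ 1 = e)
    (hpe : ¬ p ∣ e) : Cfsg.IsIrrCharacter Y (fun y : Y => ψ y) := by
  classical
  haveI : Fintype T := Fintype.ofFinite T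
  haveI : Fintype Y := Fintype.ofFinite Y
  obtain ⟨e', he', he0, -⟩ := irr_degree hψ
  have hee : e' = e := by
    have : (e' : ℂ) = (e : ℂ) := by rw [← he', he]
    exact_mod_cast this
  subst hee
  have hresc : Cfsg.IsCharacter Y (fun y : Y => ψ y) :=
    Cfsg.Agent.S0148.isCharacter_restrict Y (isCharacter_of_irr hψ)
  have h1 : (fun y : Y => ψ y) 1 ≠ 0 := by
    show ψ ((1 : Y) : T) ≠ 0
    rw [Subgroup.coe_one, he]
    exact Nat.cast_ne_zero.2 he0.ne'
  obtain ⟨φ, hφ, j, hj0, hj⟩ := exists_constituent hresc h1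
  have hcon : Cfsg.classInner (fun y : Y => ψ y) φ ≠ 0 := by
    rw [hj]; exact Nat.cast_ne_zero.2 hj0.ne'
  obtain ⟨f, hf, hf0, -⟩ := irr_degree hφ
  obtain ⟨h3, h4⟩ := Cfsg.Agent.S0887.result Y ψ hψ φ hφ hcon e' f he hf
  have h5 : e' / f ∣ e' := Nat.div_dvd_of_dvd h3
  have h6 : e' / f = 1 := by
    rw [hidx] at h4
    have hcop : Nat.Coprime e' (p ^ k) := Nat.Coprime.pow_right k
      ((Nat.Prime.coprime_iff_not_dvd hp).2 hpe).symm
    have : e' / f ∣ Nat.gcd e' (p ^ k) := Nat.dvd_gcd h5 h4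
    rw [hcop] at this
    exact Nat.dvd_one.1 this
  have h7 : e' = f := (Nat.eq_of_dvd_of_div_eq_one h3 h6).symm
  have h8 := eq_of_constituent_of_degree_eq hresc hφ hcon (by
    show ψ ((1 : Y) : T) = φ 1
    rw [Subgroup.coe_one, he, hf, h7])
  rw [h8]
  exact hφ

end Restrict

section Main

variable {G : Type u} [Group G] [Finite G] (N K : Subgroup G) [hN : N.Normal] [hK : K.Normal]

/-- Some twist of `ψ` by a linear character of `N / K` induces irreducibly to `G`. -/
theorem exists_induced_irr (hKN : K ≤ N) (hne : K ≠ N)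
    (hab : ∀ a ∈ N, ∀ b ∈ N, a * b * a⁻¹ * b⁻¹ ∈ K)
    (hfpf : ∀ g : G, g ∉ N → ∀ n ∈ N, g * n * g⁻¹ * n⁻¹ ∈ K → n ∈ K)
    {ψ : N → ℂ} (hψ : Cfsg.IsIrrCharacter N ψ)
    (hres : Cfsg.IsIrrCharacter (K.subgroupOf N) (fun y : K.subgroupOf N => ψ y))
    (e : ℕ) (he : ψ 1 = e) :
    ∃ χ : G → ℂ, Cfsg.IsIrrCharacter G χ ∧ χ 1 = (N.index : ℂ) * (e : ℂ) := by
  classical
  haveI : Fintype G := Fintype.ofFinite G
  haveI : Fintype N := Fintype.ofFinite N
  set Y : Subgroup N := K.subgroupOf N with hY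
  haveI hYn : Y.Normal := Subgroup.normal_subgroupOf
  haveI : Fintype Y := Fintype.ofFinite Y
  set m : ℕ := N.index with hidx
  have hm0 : 0 < m := Nat.pos_of_ne_zero Subgroup.index_ne_zero_of_finite
  have hab' : ∀ a b : N, a * b * a⁻¹ * b⁻¹ ∈ Y := by
    intro a b
    rw [hY, Subgroup.mem_subgroupOf]
    exact hab a a.2 b b.2
  -- the twists
  let tw : ((N ⧸ Y) →* ℂˣ) → N → ℂ := fun f n => ((f (n : N ⧸ Y) : ℂˣ) : ℂ) * ψ n
  have htw : ∀ f, Cfsg.IsIrrCharacter N (tw f) := fun f =>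
    isIrrCharacter_hom_mul (f.comp (QuotientGroup.mk' Y)) hψ
  have htw1 : ∀ f, tw f 1 = (e : ℂ) := by
    intro f
    show ((f ((1 : N) : N ⧸ Y) : ℂˣ) : ℂ) * ψ 1 = e
    rw [QuotientGroup.mk_one, map_one, Units.val_one, one_mul, he]
  -- the bad sets
  let S : ((N ⧸ Y) →* ℂˣ) → Set G := fun f =>
    {g | g ∉ N ∧ ∀ n : N, tw f ⟨g * n * g⁻¹, hN.conj_mem n n.2 g⟩ = tw f n}
  have hSmul : ∀ f g, g ∈ S f → ∀ n ∈ N, g * n ∈ S f := by
    intro f g hg n hn
    refine ⟨fun h => hg.1 ?_, ?_⟩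
    · have := N.mul_mem h (N.inv_mem hn)
      simpa using this
    · intro x
      have h1 := hg.2 ⟨n * x * n⁻¹, hN.conj_mem x x.2 n⟩
      have h3 : tw f ⟨n * x * n⁻¹, hN.conj_mem x x.2 n⟩ = tw f x :=
        isClassFunction_irr (htw f) x ⟨n, hn⟩
      rw [← h3, ← h1]
      congr 1
      apply Subtype.ext
      show g * n * x * (g * n)⁻¹ = g * (n * x * n⁻¹) * g⁻¹
      group
  have hSdisj : ∀ f f' g, g ∈ S f → g ∈ S f' → f = f' := by
    intro f f' g hg hg'
    refine fixed_unique Y hab' (MulAut.conjNormal g : N ≃* N) ?_ ?_ hψ hres f f' ?_ ?_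
    · intro y
      rw [hY, Subgroup.mem_subgroupOf, Subgroup.mem_subgroupOf, MulAut.conjNormal_apply]
      constructor
      · intro h
        have := hK.conj_mem _ h g⁻¹
        simpa [mul_assoc] using this
      · intro h
        exact hK.conj_mem _ h g
    · intro x hx
      rw [hY, Subgroup.mem_subgroupOf] at hx ⊢
      apply hfpf g hg.1 x x.2
      simpa [MulAut.conjNormal_apply] using hx
    · intro x
      have h1 := hg.2 x
      have h3 : (MulAut.conjNormal g : N ≃* N) x = ⟨g * x * g⁻¹, hN.conj_mem x x.2 g⟩ :=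
        Subtype.ext (by rw [MulAut.conjNormal_apply])
      rw [h3]
      exact h1
    · intro x
      have h1 := hg'.2 x
      have h3 : (MulAut.conjNormal g : N ≃* N) x = ⟨g * x * g⁻¹, hN.conj_mem x x.2 g⟩ :=
        Subtype.ext (by rw [MulAut.conjNormal_apply])
      rw [h3]
      exact h1
  -- some twist has inertia group N
  have hex : ∃ f, S f = ∅ := by
    by_contra hcon
    push Not at hcon
    have hne' : ∀ f, ∃ g, g ∈ S f := fun f => hcon f
    choose γ hγ using hne'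
    let Φ : ((N ⧸ Y) →* ℂˣ) → {q : G ⧸ N // q ≠ 1} := fun f =>
      ⟨(γ f : G ⧸ N), fun h => (hγ f).1 ((QuotientGroup.eq_one_iff _).1 h)⟩
    have hΦ : Function.Injective Φ := by
      intro f f' hff
      have h1 : ((γ f : G) : G ⧸ N) = ((γ f' : G) : G ⧸ N) := congrArg Subtype.val hff
      rw [QuotientGroup.eq] at h1
      have h3 := hSmul f (γ f) (hγ f) _ h1
      rw [mul_inv_cancel_left] at h3
      exact hSdisj f f' (γ f') h3 (hγ f')
    let instQ : CommGroup (N ⧸ Y) :=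
      { (inferInstance : Group (N ⧸ Y)) with
        mul_comm := by
          intro a b
          induction a using QuotientGroup.induction_on with
          | H x =>
          induction b using QuotientGroup.induction_on with
          | H y =>
          rw [← QuotientGroup.mk_mul, ← QuotientGroup.mk_mul, QuotientGroup.eq]
          have := hab' y⁻¹ x⁻¹
          simpa [mul_assoc] using this }
    have hne0 : NeZero (Monoid.exponent (N ⧸ Y)) := ⟨Monoid.exponent_ne_zero_of_finite⟩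
    have hdual : Nat.card ((N ⧸ Y) →* ℂˣ) = K.relIndex N := by
      rw [CommGroup.card_monoidHom_of_hasEnoughRootsOfUnity (N ⧸ Y) ℂ]
      exact (Subgroup.index_eq_card Y).symm
    have hle1 : K.relIndex N ≤ m - 1 := by
      rw [← hdual, hidx, Subgroup.index_eq_card N, ← card_subtype_ne' (G ⧸ N) 1]
      exact Nat.card_le_card_of_injective Φ hΦ
    obtain ⟨n₁, hn₁N, hn₁K⟩ : ∃ n₁ ∈ N, n₁ ∉ K := by
      by_contra hcon2
      push Not at hcon2
      exact hne (le_antisymm hKN hcon2)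
    let Ψ : G ⧸ N → {a : N ⧸ Y // a ≠ 1} := fun q =>
      ⟨((⟨q.out * n₁ * q.out⁻¹, hN.conj_mem n₁ hn₁N _⟩ : N) : N ⧸ Y), by
        intro h
        rw [QuotientGroup.eq_one_iff, hY, Subgroup.mem_subgroupOf] at h
        apply hn₁K
        have := hK.conj_mem _ h q.out⁻¹
        simpa [mul_assoc] using this⟩
    have hΨ : Function.Injective Ψ := by
      intro q q' hqq
      have h1 : ((⟨q.out * n₁ * q.out⁻¹, hN.conj_mem n₁ hn₁N _⟩ : N) : N ⧸ Y)
          = ((⟨q'.out * n₁ * q'.out⁻¹, hN.conj_mem n₁ hn₁N _⟩ : N) : N ⧸ Y) :=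
        congrArg Subtype.val hqq
      rw [QuotientGroup.eq, hY, Subgroup.mem_subgroupOf] at h1
      have h3 : (q.out * n₁ * q.out⁻¹)⁻¹ * (q'.out * n₁ * q'.out⁻¹) ∈ K := h1
      set x := q.out⁻¹ * q'.out with hx
      have h4 : x * n₁ * x⁻¹ * n₁⁻¹ ∈ K := by
        have h5 := hK.conj_mem _ h3 q.out⁻¹
        have h6 : q.out⁻¹ * ((q.out * n₁ * q.out⁻¹)⁻¹ * (q'.out * n₁ * q'.out⁻¹)) * q.out⁻¹⁻¹
            = n₁⁻¹ * (x * n₁ * x⁻¹) := by
          rw [hx]; group
        rw [h6] at h5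
        have h7 := hK.conj_mem _ h5 n₁
        have h8 : n₁ * (n₁⁻¹ * (x * n₁ * x⁻¹)) * n₁⁻¹ = x * n₁ * x⁻¹ * n₁⁻¹ := by group
        rw [h8] at h7
        exact h7
      have hxN : x ∈ N := by
        by_contra hxN
        exact hn₁K (hfpf x hxN n₁ hn₁N h4)
      rw [← QuotientGroup.out_eq' q, ← QuotientGroup.out_eq' q', QuotientGroup.eq]
      exact hxN
    have hle2 : m ≤ K.relIndex N - 1 := by
      have h1 : Nat.card (N ⧸ Y) = K.relIndex N := (Subgroup.index_eq_card Y).symm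
      rw [hidx, Subgroup.index_eq_card N, ← h1, ← card_subtype_ne' (N ⧸ Y) 1]
      exact Nat.card_le_card_of_injective Ψ hΨ
    omega
  obtain ⟨f, hf⟩ := hex
  -- induce
  have hind : Cfsg.IsCharacter G (Cfsg.indFun N (tw f)) :=
    Cfsg.Agent.S0148.result N (tw f) (isCharacter_of_irr (htw f))
  have hN0 : (Nat.card N : ℂ) ≠ 0 := Nat.cast_ne_zero.2 Nat.card_pos.ne'
  have hnorm : Cfsg.classInner (Cfsg.indFun N (tw f)) (Cfsg.indFun N (tw f)) = 1 := by
    have h1 := Cfsg.Agent.S0193.result N (tw f) (htw f)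
    have h3 : Nat.card {g : G // ∀ h : N, tw f ⟨g * h * g⁻¹, hN.conj_mem h h.2 g⟩ = tw f h}
        = Nat.card N := by
      apply Nat.card_congr
      refine Equiv.subtypeEquivRight ?_
      intro g
      constructor
      · intro h
        by_contra hgN
        have : g ∈ S f := ⟨hgN, h⟩
        rw [hf] at this
        exact this
      · intro hg x
        exact isClassFunction_irr (htw f) x ⟨g, hg⟩
    rw [h3] at h1
    exact mul_left_cancel₀ hN0 (by rw [h1, mul_one])
  have hirr := isIrrCharacter_of_norm_one hind hnorm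
  have hdeg : Cfsg.indFun N (tw f) 1 = (m : ℂ) * (e : ℂ) := by
    rw [Cfsg.Agent.S0170.indFun_one, htw1, hidx, ← Subgroup.card_mul_index N]
    push_cast
    field_simp
  exact ⟨_, hirr, hdeg⟩

/-- Isaacs 12.4, in the form used for the degree graph: an irreducible character of `N` of degree
prime to `p` gives an irreducible character of `G` of degree `|G : N|` times its degree. -/
theorem exists_degree_of_not_dvd (p k : ℕ) (hp : p.Prime) (hKN : K ≤ N) (hne : K ≠ N)
    (hab : ∀ a ∈ N, ∀ b ∈ N, a * b * a⁻¹ * b⁻¹ ∈ K)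
    (hrel : K.relIndex N = p ^ k)
    (hfpf : ∀ g : G, g ∉ N → ∀ n ∈ N, g * n * g⁻¹ * n⁻¹ ∈ K → n ∈ K)
    {ψ : N → ℂ} (hψ : Cfsg.IsIrrCharacter N ψ) (e : ℕ) (he : ψ 1 = e) (hpe : ¬ p ∣ e) :
    ∃ χ : G → ℂ, Cfsg.IsIrrCharacter G χ ∧ χ 1 = (N.index : ℂ) * (e : ℂ) := by
  haveI hYn : (K.subgroupOf N).Normal := Subgroup.normal_subgroupOf
  have hres := restrict_irr_of_not_dvd p k hp (K.subgroupOf N) hrel hψ e he hpe
  exact exists_induced_irr N K hKN hne hab hfpf hψ hres e he

end Main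

end Cfsg.Agent.Lib.Helper8.DG
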