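import Mathlib
import Cfsg.Agent.Lib.Helper8.Deflation
import Cfsg.Agent.Lib.Helper8.GL19
import Cfsg.Agent.Lib.Helper4.Gallagher

/-!
# General helper lemmas for the reduction to the central case
-/

set_option autoImplicit false
set_option linter.unusedSectionVars false

namespace Cfsg.Agent.Lib.Helper8.CX

open Cfsg Cfsg.Agent.Lib.Helper1 Cfsg.Agent.Lib.Helper4 Cfsg.Agent.Lib.Helper8
open scoped ComplexConjugate

universe u

/-- Split a positive number into a part involving only primes dividing `m` and a part coprime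
to `m`. -/
theorem exists_pi_split (m : ℕ) : ∀ n : ℕ, 0 < n →
    ∃ a b : ℕ, n = a * b ∧ (∀ q : ℕ, q.Prime → q ∣ a → q ∣ m) ∧ b.Coprime m := by
  intro n
  induction n using Nat.strong_induction_on with
  | _ n ih =>
    intro hn
    by_cases hc : n.Coprime m
    · exact ⟨1, n, (one_mul n).symm, fun q hq h1 => absurd (Nat.dvd_one.1 h1) hq.one_lt.ne', hc⟩
    · obtain ⟨p, hp, hpn, hpm⟩ := Nat.Prime.not_coprime_iff_dvd.1 hc
      obtain ⟨n', rfl⟩ := hpn
      have hn' : 0 < n' := Nat.pos_of_ne_zero (fun h => by rw [h] at hn; simp at hn)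
      have hlt : n' < p * n' := by
        have := hp.one_lt
        nlinarith
      obtain ⟨a, b, hab, ha, hb⟩ := ih n' hlt hn'
      refine ⟨p * a, b, by rw [hab, mul_assoc], ?_, hb⟩
      intro q hq hqa
      rcases (Nat.Prime.dvd_mul hq).1 hqa with h | h
      · rw [(Nat.prime_dvd_prime_iff_eq hq hp).1 h]
        exact hpm
      · exact ha q hq h

section

variable {Γ : Type u} [Group Γ]

/-- An element whose order is prime to the index of a normal subgroup lies in it. -/
theorem mem_of_pow_eq_one_of_coprime {K : Subgroup Γ} [K.Normal] [K.FiniteIndex] {x : Γ} {k : ℕ}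
    (hx : x ^ k = 1) (hk : k.Coprime K.index) : x ∈ K := by
  have h1 : orderOf (QuotientGroup.mk' K x) ∣ k := by
    apply orderOf_dvd_of_pow_eq_one
    rw [← map_pow, hx, map_one]
  have h2 : orderOf (QuotientGroup.mk' K x) ∣ K.index := by
    rw [Subgroup.index_eq_card]
    haveI : Finite (Γ ⧸ K) := Subgroup.finite_quotient_of_finiteIndex
    exact orderOf_dvd_natCard _
  have h3 : orderOf (QuotientGroup.mk' K x) = 1 := Nat.eq_one_of_dvd_coprimes hk h1 h2
  rw [orderOf_eq_one_iff] at h3
  exact (QuotientGroup.eq_one_iff x).1 h3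

end

section

variable {A B : Type u} [Group A] [Group B] [Finite A]

/-- Deflation of an irreducible character along a surjective homomorphism. -/
theorem exists_deflation_along (f : A →* B) (hf : Function.Surjective f) {χ : A → ℂ}
    (hχ : IsIrrCharacter A χ) (hk : ∀ a ∈ f.ker, χ a = χ 1) :
    ∃ ψ : B → ℂ, IsIrrCharacter B ψ ∧ ∀ a : A, ψ (f a) = χ a := by
  obtain ⟨ψ', hψ', hψ'χ⟩ := exists_deflation f.ker hχ hk
  let e : A ⧸ f.ker ≃* B := QuotientGroup.quotientKerEquivOfSurjective f hf
  refine ⟨fun b => ψ' (e.symm b), isIrrCharacter_comp_mulEquiv hψ' e.symm, ?_⟩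
  intro a
  have : e.symm (f a) = QuotientGroup.mk a := by
    rw [MulEquiv.symm_apply_eq]
    rfl
  show ψ' (e.symm (f a)) = χ a
  rw [this, hψ'χ]

end

section

variable {Γ : Type u} [Group Γ]

/-- The restriction of an irreducible character to a normal subgroup, lying over an invariant
irreducible character, is a multiple of it (ambient form). -/
theorem restrict_of_invS {G N : Subgroup Γ} [Fintype G] [Fintype N] (hNG : N ≤ G)
    (hGN : ∀ g ∈ G, Normalizes g N) {θ : N → ℂ} (hθ : IsIrrCharacter N θ) (hinv : InvS G N θ)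
    {χ : G → ℂ} (hχ : IsIrrCharacter G χ)
    (hc : classInner (fun n : N => χ ⟨n, hNG n.2⟩) θ ≠ 0) (n : N) :
    χ ⟨n, hNG n.2⟩ = classInner (fun n : N => χ ⟨n, hNG n.2⟩) θ * θ n := by
  classical
  set N' : Subgroup G := N.subgroupOf G with hN'
  haveI hN'n : N'.Normal := by
    constructor
    intro n hn g
    rw [hN', Subgroup.mem_subgroupOf] at hn ⊢
    exact (hGN g g.2 n).1 hn
  haveI : Fintype N' := Fintype.ofFinite _
  let e : N' ≃* N := Subgroup.subgroupOfEquivOfLe hNG
  have hθ' : IsIrrCharacter N' (fun x => θ (e x)) := isIrrCharacter_comp_mulEquiv hθ e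
  have hθ'inv : ∀ (g : G) (n : N'),
      (fun x : N' => θ (e x)) ⟨g * n * g⁻¹, hN'n.conj_mem n n.2 g⟩ = (fun x : N' => θ (e x)) n := by
    intro g n
    exact hinv g g.2 (e n) _ rfl
  have h1 : classInner (fun n : N' => χ n) (fun x => θ (e x))
      = classInner (fun n : N => χ ⟨n, hNG n.2⟩) θ :=
    classInner_mulEquiv e (fun d : N => χ ⟨d, hNG d.2⟩) θ
  have h2 := restrict_of_invariant N' _ hθ' hθ'inv χ hχ (by rw [h1]; exact hc) (e.symm n)
  rw [h1] at h2
  have h3 : e (e.symm n) = n := e.apply_symm_apply n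
  have h4 : ((e.symm n : N') : G) = ⟨n, hNG n.2⟩ := by
    apply Subtype.ext
    have : ((e (e.symm n) : N) : Γ) = (((e.symm n : N') : G) : Γ) := rfl
    rw [← this, h3]
  rw [h4] at h2
  simp only [h3] at h2
  exact h2

/-- The multiplicity of an invariant irreducible character in a restriction is the degree
quotient, when the character below is linear. -/
theorem restrict_linear_of_invS {G N : Subgroup Γ} [Fintype G] [Fintype N] (hNG : N ≤ G)
    (hGN : ∀ g ∈ G, Normalizes g N) (lam : N →* ℂˣ)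
    (hinv : InvS G N (fun n => ((lam n : ℂˣ) : ℂ)))
    {χ : G → ℂ} (hχ : IsIrrCharacter G χ)
    (hc : classInner (fun n : N => χ ⟨n, hNG n.2⟩) (fun n => ((lam n : ℂˣ) : ℂ)) ≠ 0) (n : N) :
    χ ⟨n, hNG n.2⟩ = χ 1 * ((lam n : ℂˣ) : ℂ) := by
  have h := restrict_of_invS hNG hGN (isIrrCharacter_of_hom lam) hinv hχ hc
  have h1 := h 1
  simp only [map_one, Units.val_one, mul_one] at h1
  have h2 : (⟨((1 : N) : Γ), hNG (1 : N).2⟩ : G) = 1 := rfl
  rw [h2] at h1
  rw [h n, ← h1]

end

end Cfsg.Agent.Lib.Helper8.CX
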