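import Mathlib
import Cfsg.Prelude.Def_Characters
import Cfsg.Agent.Lib.Helper8.GL13
import Cfsg.Agent.Lib.Helper8.GL14
import Cfsg.Agent.Lib.Helper1.IndFun
import Cfsg.Agent.S0146
import Cfsg.Agent.S0148
import Cfsg.Agent.S0170
import Cfsg.Agent.Lib.Helper1.CliffordCorr

/-!
# Relative induction between subgroups of an ambient group
-/

set_option autoImplicit false
set_option linter.unusedSectionVars false

namespace Cfsg.Agent.Lib.Helper8.RV

open Cfsg
open scoped ComplexConjugate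
open Cfsg.Agent.Lib.Helper1 Cfsg.Agent.Lib.Helper4 Cfsg.Agent.Lib.Helper8

universe u

noncomputable local instance subFt {G : Type u} [Group G] [Finite G] (H : Subgroup G) : Fintype H :=
  Fintype.ofFinite H

variable {Γ : Type u} [Group Γ] [Finite Γ]

/-- Restriction of a function to a smaller subgroup. -/
abbrev res {H L : Subgroup Γ} (h : H ≤ L) (χ : L → ℂ) : H → ℂ := fun x => χ ⟨x, h x.2⟩

theorem res_apply {H L : Subgroup Γ} (h : H ≤ L) (χ : L → ℂ) (x : H) :
    res h χ x = χ ⟨x, h x.2⟩ := rfl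

/-- The comparison isomorphism. -/
abbrev eSub {H L : Subgroup Γ} (h : H ≤ L) : ↥(H.subgroupOf L) ≃* ↥H :=
  Subgroup.subgroupOfEquivOfLe h

theorem eSub_coe {H L : Subgroup Γ} (h : H ≤ L) (x : H.subgroupOf L) :
    ((eSub h x : H) : Γ) = ((x : L) : Γ) := rfl

theorem isCharacter_res {H L : Subgroup Γ} (h : H ≤ L) {χ : L → ℂ} (hχ : IsCharacter L χ) :
    IsCharacter H (res h χ) :=
  isCharacter_comp_hom hχ (Subgroup.inclusion h)

theorem res_comp_eSub {H L : Subgroup Γ} (h : H ≤ L) (χ : L → ℂ) :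
    (fun a : H.subgroupOf L => res h χ (eSub h a)) = fun a : H.subgroupOf L => χ a := by
  funext a
  rfl

/-- Relative induction from `H` to `L`. -/
noncomputable def rInd (H L : Subgroup Γ) (φ : H → ℂ) : L → ℂ :=
  fun l => (Nat.card H : ℂ)⁻¹ * ∑ y : L, extendByZero H φ ((y : Γ)⁻¹ * l * y)

theorem rInd_apply (H L : Subgroup Γ) (φ : H → ℂ) (l : L) :
    rInd H L φ l = (Nat.card H : ℂ)⁻¹ * ∑ y : L, extendByZero H φ ((y : Γ)⁻¹ * l * y) := rfl

theorem rInd_eq_indFun {H L : Subgroup Γ} (h : H ≤ L) (φ : H → ℂ) :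
    rInd H L φ = indFun (H.subgroupOf L) (fun x => φ (eSub h x)) := by
  funext l
  rw [indFun_apply, rInd_apply]
  have hc : Nat.card (H.subgroupOf L) = Nat.card H := Nat.card_congr (eSub h).toEquiv
  rw [hc]
  congr 1
  refine Finset.sum_congr rfl fun y _ => ?_
  by_cases hm : (y : Γ)⁻¹ * l * y ∈ H
  · rw [extendByZero_of_mem _ _ hm]
    have hm' : y⁻¹ * l * y ∈ H.subgroupOf L := Subgroup.mem_subgroupOf.2 hm
    rw [extendByZero_of_mem _ _ hm']
    rfl
  · rw [extendByZero_of_notMem _ _ hm]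
    have hm' : y⁻¹ * l * y ∉ H.subgroupOf L := fun h' => hm (Subgroup.mem_subgroupOf.1 h')
    rw [extendByZero_of_notMem _ _ hm']

theorem isCharacter_rInd {H L : Subgroup Γ} (h : H ≤ L) {φ : H → ℂ} (hφ : IsCharacter H φ) :
    IsCharacter L (rInd H L φ) := by
  rw [rInd_eq_indFun h]
  exact Cfsg.Agent.S0148.result _ _ (isCharacter_comp_hom hφ (eSub h).toMonoidHom)

theorem isClassFunction_rInd {H L : Subgroup Γ} (h : H ≤ L) (φ : H → ℂ) :
    IsClassFunction L (rInd H L φ) := by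
  rw [rInd_eq_indFun h]
  exact indFun_isClassFunction _ _

/-- Frobenius reciprocity, relative form. -/
theorem frobenius {H L : Subgroup Γ} (h : H ≤ L) (φ : H → ℂ) (χ : L → ℂ)
    (hχ : IsClassFunction L χ) :
    classInner (rInd H L φ) χ = classInner φ (res h χ) := by
  rw [rInd_eq_indFun h, Cfsg.Agent.S0146.result (H.subgroupOf L) _ χ hχ]
  rw [← res_comp_eSub h χ]
  exact classInner_mulEquiv (eSub h) φ (res h χ)

theorem frobenius' {H L : Subgroup Γ} (h : H ≤ L) (φ : H → ℂ) (χ : L → ℂ)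
    (hχ : IsClassFunction L χ) :
    classInner χ (rInd H L φ) = classInner (res h χ) φ := by
  rw [← classInner_conj_symm, frobenius h φ χ hχ, classInner_conj_symm]

theorem card_eq_card_mul_relIndex {H L : Subgroup Γ} (h : H ≤ L) :
    Nat.card L = Nat.card H * H.relIndex L := by
  have h1 := Subgroup.card_mul_index (H.subgroupOf L)
  rw [Nat.card_congr (eSub h).toEquiv] at h1
  exact h1.symm

theorem rInd_one {H L : Subgroup Γ} (h : H ≤ L) (φ : H → ℂ) :
    rInd H L φ 1 = (H.relIndex L : ℂ) * φ 1 := by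
  rw [rInd_apply]
  have h1 : ∀ y : L, extendByZero H φ ((y : Γ)⁻¹ * ((1 : L) : Γ) * y) = φ 1 := by
    intro y
    have : (y : Γ)⁻¹ * ((1 : L) : Γ) * y = 1 := by
      rw [Subgroup.coe_one]; group
    rw [this, extendByZero_of_mem _ _ H.one_mem]
    rfl
  rw [Finset.sum_congr rfl fun y _ => h1 y, Finset.sum_const, Finset.card_univ,
    ← Nat.card_eq_fintype_card, nsmul_eq_mul]
  have h2 : Nat.card L = Nat.card H * H.relIndex L := card_eq_card_mul_relIndex h
  have hH0 : (Nat.card H : ℂ) ≠ 0 := Nat.cast_ne_zero.2 Nat.card_pos.ne'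
  rw [h2]
  push_cast
  field_simp

theorem rInd_add (H L : Subgroup Γ) (φ₁ φ₂ : H → ℂ) :
    rInd H L (φ₁ + φ₂) = rInd H L φ₁ + rInd H L φ₂ := by
  funext l
  rw [Pi.add_apply, rInd_apply, rInd_apply, rInd_apply, ← mul_add, ← Finset.sum_add_distrib]
  congr 1
  exact Finset.sum_congr rfl fun x _ => extendByZero_add H φ₁ φ₂ _

theorem rInd_smul (H L : Subgroup Γ) (c : ℂ) (φ : H → ℂ) :
    rInd H L (c • φ) = c • rInd H L φ := by
  funext l
  rw [Pi.smul_apply, rInd_apply, rInd_apply, smul_eq_mul, mul_left_comm]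
  congr 1
  rw [Finset.mul_sum]
  exact Finset.sum_congr rfl fun x _ => extendByZero_smul H c φ _

/-- Extension by zero and conjugation by a normalising element. -/
theorem extendByZero_conjChar {x : Γ} {H : Subgroup Γ} (hx : Normalizes x H) (φ : H → ℂ) (g : Γ) :
    extendByZero H φ (x * g * x⁻¹) = extendByZero H (conjChar hx φ) g := by
  by_cases hg : g ∈ H
  · rw [extendByZero_of_mem _ _ hg, extendByZero_of_mem _ _ ((hx g).1 hg)]
    rfl
  · rw [extendByZero_of_notMem _ _ hg, extendByZero_of_notMem _ _ (fun h' => hg ((hx g).2 h'))]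

/-- Induction commutes with conjugation by an element normalising both subgroups. -/
theorem rInd_conjChar {x : Γ} {H L : Subgroup Γ} (hxH : Normalizes x H) (hxL : Normalizes x L)
    (φ : H → ℂ) :
    conjChar hxL (rInd H L φ) = rInd H L (conjChar hxH φ) := by
  funext l
  show rInd H L φ (conjE hxL l) = _
  rw [rInd_apply, rInd_apply]
  congr 1
  rw [← Equiv.sum_comp (conjE hxL).toEquiv]
  refine Finset.sum_congr rfl fun y _ => ?_
  rw [← extendByZero_conjChar hxH]
  congr 1
  show (x * (y : Γ) * x⁻¹)⁻¹ * (x * (l : Γ) * x⁻¹) * (x * (y : Γ) * x⁻¹) = _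
  group

end Cfsg.Agent.Lib.Helper8.RV
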