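import Mathlib
import Cfsg.Prelude.Def_Characters
import Cfsg.Agent.Lib.Helper8.RV1
import Cfsg.Agent.S1489

/-!
# The Clifford correspondence, relative form
-/

set_option autoImplicit false
set_option linter.unusedSectionVars false

namespace Cfsg.Agent.Lib.Helper8.RV

open Cfsg
open scoped ComplexConjugate
open Cfsg.Agent.Lib.Helper1 Cfsg.Agent.Lib.Helper4 Cfsg.Agent.Lib.Helper8

universe u

noncomputable local instance subFt2 {G : Type u} [Group G] [Finite G] (H : Subgroup G) : Fintype H :=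
  Fintype.ofFinite H

/-- The Clifford correspondence with the hypothesis `ψ` lies over `θ` phrased by restriction. -/
theorem abs_clifford {G : Type u} [Group G] [Fintype G] (H T : Subgroup G) [hN : H.Normal]
    (θ : H → ℂ) (hθ : IsIrrCharacter H θ)
    (hT : ∀ g : G, g ∈ T ↔ ∀ h : H, θ ⟨g * h * g⁻¹, hN.conj_mem h h.2 g⟩ = θ h) (hHT : H ≤ T)
    (ψ ψ' : T → ℂ) (hψ : IsIrrCharacter T ψ) (hψ' : IsIrrCharacter T ψ')
    (hc : classInner (fun h : H => ψ ⟨h, hHT h.2⟩) θ ≠ 0)
    (hc' : classInner (fun h : H => ψ' ⟨h, hHT h.2⟩) θ ≠ 0) :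
    IsIrrCharacter G (indFun T ψ) ∧ (indFun T ψ = indFun T ψ' → ψ = ψ') := by
  haveI : Finite G := Finite.of_fintype G
  have key : ∀ φ : T → ℂ, IsIrrCharacter T φ →
      classInner (fun h : H => φ ⟨h, hHT h.2⟩) θ ≠ 0 →
      classInner (indFun (H.subgroupOf T)
        (fun x => θ ⟨(x : T), Subgroup.mem_subgroupOf.mp x.2⟩)) φ ≠ 0 := by
    intro φ hφ h1
    rw [Cfsg.Agent.S0146.result (H.subgroupOf T) _ φ (isClassFunction_irr hφ)]
    have h2 := classInner_mulEquiv (Subgroup.subgroupOfEquivOfLe hHT) θ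
      (fun h : H => φ ⟨h, hHT h.2⟩)
    have h3 : classInner (fun x : H.subgroupOf T => θ ⟨(x : T), Subgroup.mem_subgroupOf.mp x.2⟩)
        (fun h : H.subgroupOf T => φ h) = classInner θ (fun h : H => φ ⟨h, hHT h.2⟩) := h2
    rw [h3, ← classInner_conj_symm]
    intro h4
    apply h1
    have := congrArg conj h4
    simpa using this
  exact Cfsg.Agent.S1489.result H T θ hθ hT hHT ψ ψ' hψ hψ' (key ψ hψ hc) (key ψ' hψ' hc')

variable {Γ : Type u} [Group Γ] [Finite Γ]

/-- The stabiliser in `L` of a function on `N`. -/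
def stab (L N : Subgroup Γ) (hLN : ∀ l ∈ L, Normalizes l N) (θ : N → ℂ) : Subgroup Γ where
  carrier := {g | g ∈ L ∧ InvElt g N θ}
  mul_mem' := fun {a b} ha hb => ⟨L.mul_mem ha.1 hb.1, InvElt.mul (hLN b hb.1) ha.2 hb.2⟩
  one_mem' := ⟨L.one_mem, InvElt.one N θ⟩
  inv_mem' := fun {a} ha => by exact ⟨L.inv_mem ha.1, InvElt.inv (hLN a ha.1) ha.2⟩

theorem mem_stab {L N : Subgroup Γ} {hLN : ∀ l ∈ L, Normalizes l N} {θ : N → ℂ} {g : Γ} :
    g ∈ stab L N hLN θ ↔ g ∈ L ∧ InvElt g N θ := Iff.rfl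

theorem normal_subgroupOf_of_normalizes {N L : Subgroup Γ} (hLN : ∀ l ∈ L, Normalizes l N) :
    (N.subgroupOf L).Normal := by
  constructor
  intro n hn g
  rw [Subgroup.mem_subgroupOf] at hn ⊢
  exact (hLN g g.2 n).1 hn

section

variable {N T L : Subgroup Γ} (hNL : N ≤ L) (hLN : ∀ l ∈ L, Normalizes l N)
  {θ : N → ℂ} (hθ : IsIrrCharacter N θ)
  (hT : ∀ g : Γ, g ∈ T ↔ g ∈ L ∧ InvElt g N θ) (hNT : N ≤ T) (hTL : T ≤ L)

include hNL hLN hT in
theorem stab_transport (g : L) :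
    haveI := normal_subgroupOf_of_normalizes hLN
    g ∈ T.subgroupOf L ↔ ∀ h : N.subgroupOf L,
      (fun x : N.subgroupOf L => θ (eSub hNL x))
        ⟨g * h * g⁻¹, (normal_subgroupOf_of_normalizes hLN).conj_mem h h.2 g⟩
        = (fun x : N.subgroupOf L => θ (eSub hNL x)) h := by
  rw [Subgroup.mem_subgroupOf, hT]
  constructor
  · rintro ⟨_, h1⟩ h
    exact h1 (eSub hNL h) _ rfl
  · intro h1
    refine ⟨g.2, ?_⟩
    intro n n' hn
    have h2 := h1 ((eSub hNL).symm n)
    have e1 : (eSub hNL) ((eSub hNL).symm n) = n := (eSub hNL).apply_symm_apply n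
    simp only [e1] at h2
    rw [← h2]
    congr 1
    apply Subtype.ext
    rw [hn]
    rfl

include hNL hLN hθ hT hNT hTL in
/-- Clifford correspondence, relative form: irreducibility and injectivity. -/
theorem clifford_rel {ψ ψ' : T → ℂ} (hψ : IsIrrCharacter T ψ) (hψ' : IsIrrCharacter T ψ')
    (hc : classInner (res hNT ψ) θ ≠ 0) (hc' : classInner (res hNT ψ') θ ≠ 0) :
    IsIrrCharacter L (rInd T L ψ) ∧ (rInd T L ψ = rInd T L ψ' → ψ = ψ') := by
  haveI hHn : (N.subgroupOf L).Normal := normal_subgroupOf_of_normalizes hLN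
  have hHT' : N.subgroupOf L ≤ T.subgroupOf L := by
    intro x hx
    rw [Subgroup.mem_subgroupOf] at hx ⊢
    exact hNT hx
  have hθ' : IsIrrCharacter (N.subgroupOf L) (fun x => θ (eSub hNL x)) :=
    isIrrCharacter_comp_mulEquiv hθ (eSub hNL)
  have key : ∀ φ : T → ℂ, classInner (res hNT φ) θ ≠ 0 →
      classInner (fun h : N.subgroupOf L => (fun t : T.subgroupOf L => φ (eSub hTL t))
        ⟨h, hHT' h.2⟩) (fun x => θ (eSub hNL x)) ≠ 0 := by
    intro φ h1
    have h2 := classInner_mulEquiv (eSub hNL) (res hNT φ) θ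
    have h3 : classInner (fun h : N.subgroupOf L => (fun t : T.subgroupOf L => φ (eSub hTL t))
        ⟨h, hHT' h.2⟩) (fun x => θ (eSub hNL x)) = classInner (res hNT φ) θ := h2
    rw [h3]
    exact h1
  have h := abs_clifford (N.subgroupOf L) (T.subgroupOf L) (fun x => θ (eSub hNL x)) hθ'
    (stab_transport hNL hLN hT) hHT'
    (fun t => ψ (eSub hTL t)) (fun t => ψ' (eSub hTL t))
    (isIrrCharacter_comp_mulEquiv hψ (eSub hTL)) (isIrrCharacter_comp_mulEquiv hψ' (eSub hTL))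
    (key ψ hc) (key ψ' hc')
  rw [rInd_eq_indFun hTL, rInd_eq_indFun hTL]
  refine ⟨h.1, fun h1 => ?_⟩
  have h2 := h.2 h1
  funext t
  have h3 := congrFun h2 ((eSub hTL).symm t)
  simpa using h3

include hNL hLN hθ hT hNT hTL in
/-- Clifford correspondence, relative form: surjectivity. -/
theorem clifford_rel_surj {χ : L → ℂ} (hχ : IsIrrCharacter L χ)
    (hc : classInner (res hNL χ) θ ≠ 0) :
    ∃ ψ : T → ℂ, IsIrrCharacter T ψ ∧ classInner (res hNT ψ) θ ≠ 0 ∧ χ = rInd T L ψ := by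
  haveI hHn : (N.subgroupOf L).Normal := normal_subgroupOf_of_normalizes hLN
  have hHT' : N.subgroupOf L ≤ T.subgroupOf L := by
    intro x hx
    rw [Subgroup.mem_subgroupOf] at hx ⊢
    exact hNT hx
  have hθ' : IsIrrCharacter (N.subgroupOf L) (fun x => θ (eSub hNL x)) :=
    isIrrCharacter_comp_mulEquiv hθ (eSub hNL)
  have hconst : classInner (fun n : N.subgroupOf L => χ n) (fun x => θ (eSub hNL x)) ≠ 0 := by
    rw [← res_comp_eSub hNL χ]
    have h2 := classInner_mulEquiv (eSub hNL) (res hNL χ) θ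
    rw [h2]
    exact hc
  have hTeq : T.subgroupOf L = inertia (N.subgroupOf L) (fun x => θ (eSub hNL x)) := by
    ext g
    rw [stab_transport hNL hLN hT g, mem_inertia]
    constructor
    · intro h1
      funext h
      exact h1 h
    · intro h1 h
      exact congrFun h1 h
  obtain ⟨ψ₁, hψ₁, hχψ, c, hcψ⟩ := clifford_correspondence (N.subgroupOf L)
    (fun x => θ (eSub hNL x)) hθ' χ hχ hconst (T.subgroupOf L) hTeq hHT'
  refine ⟨fun t => ψ₁ ((eSub hTL).symm t), isIrrCharacter_comp_mulEquiv hψ₁ (eSub hTL).symm, ?_, ?_⟩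
  · have h1 : res hNT (fun t => ψ₁ ((eSub hTL).symm t)) = c • θ := by
      funext n
      have h2 := hcψ ((eSub hNL).symm n)
      have e1 : (eSub hNL) ((eSub hNL).symm n) = n := (eSub hNL).apply_symm_apply n
      simp only [e1] at h2
      rw [Pi.smul_apply, smul_eq_mul, ← h2]
      rfl
    rw [h1, classInner_smul_left, classInner_irr_self hθ, mul_one]
    intro hc0
    have h3 := congrFun h1 1
    rw [hc0] at h3
    simp only [Pi.smul_apply, zero_smul] at h3
    have h4 : IsIrrCharacter T (fun t => ψ₁ ((eSub hTL).symm t)) :=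
      isIrrCharacter_comp_mulEquiv hψ₁ (eSub hTL).symm
    exact irr_apply_one_ne_zero h4 h3
  · rw [rInd_eq_indFun hTL, hχψ]
    congr 1

end

end Cfsg.Agent.Lib.Helper8.RV
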