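import Mathlib
import Cfsg.Prelude.Def_Characters
import Cfsg.Agent.Lib.Helper8.RV2
import Cfsg.Agent.Lib.Helper8.CX2
import Cfsg.Agent.Lib.Helper1.LinearChar
import Cfsg.Agent.S0856

/-!
# Gallagher's theorem, relative form
-/

set_option autoImplicit false
set_option linter.unusedSectionVars false

namespace Cfsg.Agent.Lib.Helper8.RV

open Cfsg
open scoped ComplexConjugate
open Cfsg.Agent.Lib.Helper1 Cfsg.Agent.Lib.Helper4 Cfsg.Agent.Lib.Helper8
open Cfsg.Agent.Lib.Helper8.CX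

universe u

noncomputable local instance subFt3 {G : Type u} [Group G] [Finite G] (H : Subgroup G) : Fintype H :=
  Fintype.ofFinite H

variable {Γ : Type u} [Group Γ] [Finite Γ]

/-- A function on `T` is trivial on `N`. -/
def TrivOn (N T : Subgroup Γ) (β : T → ℂ) : Prop := ∀ t : T, (t : Γ) ∈ N → β t = β 1

theorem isIrrCharacter_one (H : Subgroup Γ) : IsIrrCharacter H (fun _ => (1 : ℂ)) := by
  have := isIrrCharacter_of_hom (1 : H →* ℂˣ)
  simpa using this

/-- Restriction in stages, nonvanishing form. -/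
theorem over_trans {H B C : Subgroup Γ} (hBH : B ≤ H) (hCB : C ≤ B) {χ : H → ℂ}
    (hχ : IsCharacter H χ) {ψ : B → ℂ} (hψ : IsIrrCharacter B ψ) {θ : C → ℂ}
    (hθ : IsIrrCharacter C θ) (h1 : classInner (res hBH χ) ψ ≠ 0)
    (h2 : classInner (res hCB ψ) θ ≠ 0) :
    classInner (res (hCB.trans hBH) χ) θ ≠ 0 := by
  classical
  haveI : Fintype (IrrCharacter B) := Fintype.ofFinite _
  have hst := classInner_restrict_stages hBH hCB hχ θ
  have hχB : IsCharacter B (res hBH χ) := isCharacter_res hBH hχ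
  have ha : ∀ ζ : IrrCharacter B, ∃ m : ℕ, classInner (res hBH χ) (ζ : B → ℂ) = m :=
    fun ζ => classInner_char_irr_nat hχB ζ.2
  choose a ha using ha
  have hb : ∀ ζ : IrrCharacter B, ∃ m : ℕ, classInner (res hCB (ζ : B → ℂ)) θ = m :=
    fun ζ => classInner_char_irr_nat (isCharacter_res hCB (isCharacter_of_irr ζ.2)) hθ
  choose b hb using hb
  have hsum : classInner (res (hCB.trans hBH) χ) θ = ((∑ ζ : IrrCharacter B, a ζ * b ζ : ℕ) : ℂ) := by
    show classInner (fun c : C => χ ⟨c, (hCB.trans hBH) c.2⟩) θ = _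
    rw [hst]
    push_cast
    refine Finset.sum_congr rfl fun ζ _ => ?_
    rw [← ha ζ, ← hb ζ]
  rw [hsum]
  have h3 : a ⟨ψ, hψ⟩ ≠ 0 := by
    intro h0
    apply h1
    have := ha ⟨ψ, hψ⟩
    rw [h0] at this
    simpa using this
  have h4 : b ⟨ψ, hψ⟩ ≠ 0 := by
    intro h0
    apply h2
    have := hb ⟨ψ, hψ⟩
    rw [h0] at this
    simpa using this
  have h5 : a ⟨ψ, hψ⟩ * b ⟨ψ, hψ⟩ ≤ ∑ ζ : IrrCharacter B, a ζ * b ζ :=
    Finset.single_le_sum (f := fun ζ => a ζ * b ζ) (fun _ _ => Nat.zero_le _) (Finset.mem_univ _)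
  have h6 : 0 < a ⟨ψ, hψ⟩ * b ⟨ψ, hψ⟩ :=
    Nat.mul_pos (Nat.pos_of_ne_zero h3) (Nat.pos_of_ne_zero h4)
  exact_mod_cast (by omega : (∑ ζ : IrrCharacter B, a ζ * b ζ) ≠ 0)

section

variable {N T : Subgroup Γ} (hNT : N ≤ T) (hTN : ∀ t ∈ T, Normalizes t N)

include hNT hTN in
/-- Triviality on `N` in terms of the permutation character. -/
theorem trivOn_iff {β : T → ℂ} (hβ : IsIrrCharacter T β) :
    TrivOn N T β ↔ classInner (rInd N T (fun _ => (1 : ℂ))) β ≠ 0 := by
  rw [frobenius hNT _ β (isClassFunction_irr hβ)]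
  constructor
  · intro h
    have h1 : res hNT β = (β 1) • (fun _ : N => (1 : ℂ)) := by
      funext n
      rw [Pi.smul_apply, smul_eq_mul, mul_one]
      exact h ⟨n, hNT n.2⟩ n.2
    rw [h1, classInner_smul_right, classInner_irr_self (isIrrCharacter_one N), mul_one]
    intro h2
    apply irr_apply_one_ne_zero hβ
    have := congrArg conj h2
    simpa using this
  · intro h t ht
    have hinv : InvS T N (fun _ : N => (1 : ℂ)) := fun _ _ _ _ _ => rfl
    have hc : classInner (fun n : N => β ⟨n, hNT n.2⟩) (fun _ : N => (1 : ℂ)) ≠ 0 := by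
      intro h2
      apply h
      rw [← classInner_conj_symm]
      show conj (classInner (fun n : N => β ⟨n, hNT n.2⟩) (fun _ : N => (1 : ℂ))) = 0
      rw [h2, map_zero]
    have h3 := restrict_of_invS hNT hTN (isIrrCharacter_one N) hinv hβ hc
    have h4 := h3 ⟨t, ht⟩
    have h5 := h3 1
    rw [mul_one] at h4 h5
    have e1 : (⟨((⟨(t : Γ), ht⟩ : N) : Γ), hNT ht⟩ : T) = t := Subtype.ext rfl
    have e2 : (⟨((1 : N) : Γ), hNT (1 : N).2⟩ : T) = 1 := rfl
    rw [e1] at h4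
    rw [e2] at h5
    rw [h4, h5]

variable {θ : N → ℂ} (hθ : IsIrrCharacter N θ) (hinv : InvS T N θ)
  {η : T → ℂ} (hη : IsIrrCharacter T η) (hηθ : res hNT η = θ)

include hNT hTN hθ hinv hη hηθ in
/-- Gallagher's theorem, relative form. -/
theorem gallagher_rel :
    (∀ β : T → ℂ, IsIrrCharacter T β → TrivOn N T β →
      IsIrrCharacter T (η * β) ∧ classInner (res hNT (η * β)) θ ≠ 0) ∧
    (∀ β β' : T → ℂ, IsIrrCharacter T β → TrivOn N T β → IsIrrCharacter T β' → TrivOn N T β' →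
      η * β = η * β' → β = β') ∧
    (∀ ψ : T → ℂ, IsIrrCharacter T ψ → classInner (res hNT ψ) θ ≠ 0 →
      ∃ β : T → ℂ, IsIrrCharacter T β ∧ TrivOn N T β ∧ ψ = η * β) := by
  haveI hHn : (N.subgroupOf T).Normal := normal_subgroupOf_of_normalizes hTN
  have hθ' : IsIrrCharacter (N.subgroupOf T) (fun x => θ (eSub hNT x)) :=
    isIrrCharacter_comp_mulEquiv hθ (eSub hNT)
  have h1' : IsIrrCharacter (N.subgroupOf T) (fun _ => (1 : ℂ)) := by
    have := isIrrCharacter_of_hom (1 : (N.subgroupOf T) →* ℂˣ)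
    simpa using this
  have hone : ((fun _ => (1 : ℂ)) * fun x : N.subgroupOf T => θ (eSub hNT x))
      = fun x : N.subgroupOf T => θ (eSub hNT x) := by
    funext x
    simp
  have hbij := Cfsg.Agent.S0856.result (N.subgroupOf T) (fun _ => (1 : ℂ))
    (fun x => θ (eSub hNT x)) h1' hθ' (fun _ _ => rfl)
    (fun g n => hinv g g.2 (eSub hNT n) _ rfl)
    (by rw [hone]; exact hθ') η hη
    (fun n => by
      have := congrFun hηθ (eSub hNT n)
      exact this)
  rw [hone] at hbij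
  have e1 : indFun (N.subgroupOf T) (fun _ => (1 : ℂ)) = rInd N T (fun _ => (1 : ℂ)) :=
    (rInd_eq_indFun hNT (fun _ => (1 : ℂ))).symm
  have e2 : indFun (N.subgroupOf T) (fun x => θ (eSub hNT x)) = rInd N T θ :=
    (rInd_eq_indFun hNT θ).symm
  rw [e1, e2] at hbij
  have hover : ∀ ψ : T → ℂ, IsIrrCharacter T ψ →
      (classInner (rInd N T θ) ψ ≠ 0 ↔ classInner (res hNT ψ) θ ≠ 0) := by
    intro ψ hψ
    rw [frobenius hNT θ ψ (isClassFunction_irr hψ), ← classInner_conj_symm]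
    constructor
    · intro h2 h3
      apply h2
      rw [h3, map_zero]
    · intro h2 h3
      apply h2
      have := congrArg conj h3
      simpa using this
  refine ⟨?_, ?_, ?_⟩
  · intro β hβ hβN
    have hmem := hbij.mapsTo (show β ∈ _ from ⟨hβ, (trivOn_iff hNT hTN hβ).1 hβN⟩)
    have hmem' : IsIrrCharacter T (β * η) ∧ classInner (rInd N T θ) (β * η) ≠ 0 := hmem
    rw [mul_comm] at hmem'
    exact ⟨hmem'.1, (hover _ hmem'.1).1 hmem'.2⟩
  · intro β β' hβ hβN hβ' hβ'N heq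
    apply hbij.injOn (show β ∈ _ from ⟨hβ, (trivOn_iff hNT hTN hβ).1 hβN⟩)
      (show β' ∈ _ from ⟨hβ', (trivOn_iff hNT hTN hβ').1 hβ'N⟩)
    show β * η = β' * η
    rw [mul_comm, heq, mul_comm]
  · intro ψ hψ hc
    obtain ⟨β, hβmem, hβψ⟩ := hbij.surjOn (show ψ ∈ _ from ⟨hψ, (hover ψ hψ).2 hc⟩)
    have hβmem' : IsIrrCharacter T β ∧ classInner (rInd N T (fun _ => (1 : ℂ))) β ≠ 0 := hβmem
    refine ⟨β, hβmem'.1, (trivOn_iff hNT hTN hβmem'.1).2 hβmem'.2, ?_⟩
    rw [← hβψ]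
    exact mul_comm _ _

end

end Cfsg.Agent.Lib.Helper8.RV
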