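import Mathlib
import Cfsg.Agent.Lib.Helper8.DG3
import Cfsg.Agent.Lib.Helper8.RV3
import Cfsg.Agent.S0146
import Cfsg.Agent.S0856

set_option autoImplicit false

/-! The `p`-group case of the degree-graph argument: if `G / K` is a non-abelian `p`-group then
an irreducible character of `G` of degree prime to `p` can be multiplied by a non-linear
irreducible character of `G / K`. -/

namespace Cfsg.Agent.Lib.Helper8.DG

open Cfsg Cfsg.Agent.Lib.Helper1 Cfsg.Agent.Lib.Helper4 Cfsg.Agent.Lib.Helper4.TD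
open scoped ComplexConjugate

universe u

variable {G : Type u} [Group G] [Finite G]

theorem exists_degree_of_pgroup_quotient (p k : ℕ) (hp : p.Prime) (K : Subgroup G)
    [hK : K.Normal] (hidx : K.index = p ^ k) (hnab : ∃ a b : G, a * b * a⁻¹ * b⁻¹ ∉ K)
    {χ : G → ℂ} (hχ : Cfsg.IsIrrCharacter G χ) (e : ℕ) (he : χ 1 = e) (hpe : ¬ p ∣ e) :
    ∃ (ψ : G → ℂ) (b : ℕ), Cfsg.IsIrrCharacter G ψ ∧ p ∣ b ∧ ψ 1 = (b : ℂ) * (e : ℂ) := by
  classical
  haveI : Fintype G := Fintype.ofFinite G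
  haveI : Fintype K := Fintype.ofFinite K
  -- a non-linear irreducible character of the quotient
  have hQnab : ¬ ∀ a b : G ⧸ K, a * b = b * a := by
    intro h
    obtain ⟨a, b, hab⟩ := hnab
    apply hab
    rw [← QuotientGroup.eq_one_iff]
    have h1 := h (a : G ⧸ K) (b : G ⧸ K)
    simp only [QuotientGroup.mk_mul, QuotientGroup.mk_inv]
    rw [h1]
    group
  obtain ⟨β', hβ', hβ'1⟩ := exists_nonlinear hQnab
  obtain ⟨b, hb, hb0, hbd⟩ := irr_degree hβ'
  have hpb : p ∣ b := by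
    rw [← Subgroup.index_eq_card, hidx] at hbd
    obtain ⟨j, -, hj⟩ := (Nat.dvd_prime_pow hp).1 hbd
    rcases Nat.eq_zero_or_pos j with h0 | h0
    · exfalso
      apply hβ'1
      rw [hb, hj, h0, pow_zero, Nat.cast_one]
    · rw [hj]
      exact dvd_pow_self p h0.ne'
  set β : G → ℂ := fun g => β' (QuotientGroup.mk' K g) with hβdef
  have hβ : Cfsg.IsIrrCharacter G β :=
    Cfsg.Agent.Lib.Helper2.PiSection.isIrrCharacter_comp_surjective hβ' (QuotientGroup.mk' K)
      (QuotientGroup.mk'_surjective K)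
  have hβK : ∀ n : K, β n = (b : ℂ) := by
    intro n
    show β' (QuotientGroup.mk' K (n : G)) = b
    have : (QuotientGroup.mk' K) (n : G) = 1 := (QuotientGroup.eq_one_iff _).2 n.2
    rw [this, hb]
  -- the restriction of χ to K
  have hϑ : Cfsg.IsIrrCharacter K (fun n : K => χ n) :=
    restrict_irr_of_not_dvd p k hp K hidx hχ e he hpe
  have hone : ((fun _ : K => (1 : ℂ)) * fun n : K => χ n) = fun n : K => χ n := by
    funext n
    simp
  have hbij := Cfsg.Agent.S0856.result K (fun _ : K => (1 : ℂ)) (fun n : K => χ n)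
    (Cfsg.Agent.Lib.Helper8.RV.isIrrCharacter_one K) hϑ (fun _ _ => rfl)
    (fun g n => isClassFunction_irr hχ (n : G) g)
    (by rw [hone]; exact hϑ) χ hχ (fun _ => rfl)
  have hsrc : β ∈ {β : G → ℂ | Cfsg.IsIrrCharacter G β ∧
      Cfsg.classInner (Cfsg.indFun K (fun _ : K => (1 : ℂ))) β ≠ 0} := by
    refine ⟨hβ, ?_⟩
    rw [Cfsg.Agent.S0146.result K (fun _ : K => (1 : ℂ)) β (isClassFunction_irr hβ)]
    unfold Cfsg.classInner
    have h1 : ∑ g : K, (fun _ : K => (1 : ℂ)) g * conj ((fun h : K => β h) g)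
        = (Nat.card K : ℂ) * (b : ℂ) := by
      simp only [hβK, one_mul, Complex.conj_natCast, Finset.sum_const, Finset.card_univ,
        nsmul_eq_mul]
      rw [Nat.card_eq_fintype_card]
    rw [h1]
    have hK0 : (Nat.card K : ℂ) ≠ 0 := Nat.cast_ne_zero.2 Nat.card_pos.ne'
    rw [inv_mul_cancel_left₀ hK0]
    exact Nat.cast_ne_zero.2 hb0.ne'
  have htgt := hbij.mapsTo hsrc
  refine ⟨β * χ, b, htgt.1, hpb, ?_⟩
  have hβ1 : β 1 = (b : ℂ) := by
    show β' (QuotientGroup.mk' K 1) = b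
    rw [map_one, hb]
  show β 1 * χ 1 = _
  rw [he, hβ1]

end Cfsg.Agent.Lib.Helper8.DG
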