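import Mathlib
import Cfsg.Agent.Lib.Helper4.TD7

set_option autoImplicit false

/-! Three character degrees: basic definitions and derived-series bookkeeping. -/

namespace Cfsg.Agent.Lib.Helper8.DH

open Cfsg Cfsg.Agent.Lib.Helper1 Cfsg.Agent.Lib.Helper4 Cfsg.Agent.Lib.Helper4.TD

universe u

/-- Every irreducible character has degree `1`, `m` or `n`. -/
def H3 (G : Type u) [Group G] (m n : ℕ) : Prop :=
  ∀ χ : G → ℂ, Cfsg.IsIrrCharacter G χ → χ 1 = 1 ∨ χ 1 = (m : ℂ) ∨ χ 1 = (n : ℂ)

theorem H3.symm {G : Type u} [Group G] {m n : ℕ} (h : H3 G m n) : H3 G n m := by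
  intro χ hχ
  rcases h χ hχ with h1 | h1 | h1
  · exact Or.inl h1
  · exact Or.inr (Or.inr h1)
  · exact Or.inr (Or.inl h1)

theorem H3.of_surjective {G H : Type u} [Group G] [Group H] {m n : ℕ} (h : H3 G m n)
    (f : G →* H) (hf : Function.Surjective f) : H3 H m n := by
  intro χ hχ
  have h1 := h _ (Cfsg.Agent.Lib.Helper2.PiSection.isIrrCharacter_comp_surjective hχ f hf)
  simpa using h1

theorem H3.quotient {G : Type u} [Group G] {m n : ℕ} (h : H3 G m n) (N : Subgroup G)
    [N.Normal] : H3 (G ⧸ N) m n :=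
  h.of_surjective (QuotientGroup.mk' N) (QuotientGroup.mk'_surjective N)

theorem H3.H2_right {G : Type u} [Group G] {m n : ℕ} (h : H3 G m n)
    (hm : ¬ ∃ χ : G → ℂ, Cfsg.IsIrrCharacter G χ ∧ χ 1 = (m : ℂ)) : H2 G n := by
  intro χ hχ
  rcases h χ hχ with h1 | h1 | h1
  · exact Or.inl h1
  · exact absurd ⟨χ, hχ, h1⟩ hm
  · exact Or.inr h1

theorem H3.H2_left {G : Type u} [Group G] {m n : ℕ} (h : H3 G m n)
    (hn : ¬ ∃ χ : G → ℂ, Cfsg.IsIrrCharacter G χ ∧ χ 1 = (n : ℂ)) : H2 G m :=
  h.symm.H2_right hn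

theorem H2.H3 {G : Type u} [Group G] {m : ℕ} (h : H2 G m) (n : ℕ) : H3 G m n := by
  intro χ hχ
  rcases h χ hχ with h1 | h1
  · exact Or.inl h1
  · exact Or.inr (Or.inl h1)

/-- The hypothesis on the number of degrees gives `H3`. -/
theorem exists_H3_of_card {G : Type u} [Group G] [Finite G]
    (hcd : Nat.card {n : ℕ // ∃ χ : Cfsg.IrrCharacter G, Cfsg.charDegree (χ : G → ℂ) = n} = 3) :
    ∃ m n : ℕ, H3 G m n := by
  classical
  set S : Set ℕ := {n : ℕ | ∃ χ : Cfsg.IrrCharacter G, Cfsg.charDegree (χ : G → ℂ) = n} with hS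
  have hfin : S.Finite := by
    apply Set.finite_of_ncard_ne_zero
    rw [← Nat.card_coe_set_eq]
    show Nat.card {n : ℕ // ∃ χ : Cfsg.IrrCharacter G, Cfsg.charDegree (χ : G → ℂ) = n} ≠ 0
    rw [hcd]; norm_num
  have hcard : hfin.toFinset.card = 3 := by
    rw [← Set.ncard_eq_toFinset_card S hfin, ← Nat.card_coe_set_eq]
    exact hcd
  have h1 : 1 ∈ hfin.toFinset := by
    rw [Set.Finite.mem_toFinset]
    have htriv : Cfsg.IsIrrCharacter G (fun _ => (1 : ℂ)) := by
      have := isIrrCharacter_of_hom (1 : G →* ℂˣ)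
      simpa using this
    refine ⟨⟨_, htriv⟩, ?_⟩
    simp [Cfsg.charDegree]
  have h2 : (hfin.toFinset.erase 1).card = 2 := by
    rw [Finset.card_erase_of_mem h1, hcard]
  obtain ⟨a, b, -, hab⟩ := Finset.card_eq_two.1 h2
  refine ⟨a, b, ?_⟩
  intro χ hχ
  obtain ⟨h3, -⟩ := Cfsg.Agent.Lib.Helper8.irr_apply_one_eq_charDegree hχ
  have h4 : Cfsg.charDegree χ ∈ hfin.toFinset := by
    rw [Set.Finite.mem_toFinset]
    exact ⟨⟨χ, hχ⟩, rfl⟩
  by_cases h5 : Cfsg.charDegree χ = 1
  · left
    rw [h3, h5, Nat.cast_one]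
  · right
    have h6 : Cfsg.charDegree χ ∈ hfin.toFinset.erase 1 := Finset.mem_erase.2 ⟨h5, h4⟩
    rw [hab] at h6
    rcases Finset.mem_insert.1 h6 with h7 | h7
    · left; rw [h3, h7]
    · right; rw [h3, Finset.mem_singleton.1 h7]

section Derived

variable {G : Type u} [Group G]

/-- If the third derived subgroup of a quotient is trivial, the third derived subgroup lies in
the kernel. -/
theorem derived_le_of_quotient (L : Subgroup G) [L.Normal] (k : ℕ)
    (h : derivedSeries (G ⧸ L) k = ⊥) : derivedSeries G k ≤ L := by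
  have h1 := map_derivedSeries_eq (QuotientGroup.mk'_surjective L) k
  rw [h] at h1
  intro x hx
  have h2 : QuotientGroup.mk' L x ∈ (derivedSeries G k).map (QuotientGroup.mk' L) :=
    Subgroup.mem_map_of_mem _ hx
  rw [h1, Subgroup.mem_bot] at h2
  exact (QuotientGroup.eq_one_iff x).1 h2

theorem commutator_subgroup_eq_bot_of_comm (A : Subgroup G)
    (h : ∀ a ∈ A, ∀ b ∈ A, a * b = b * a) : ⁅A, A⁆ = ⊥ := by
  rw [Subgroup.commutator_eq_bot_iff_le_centralizer]
  intro a ha
  rw [Subgroup.mem_centralizer_iff]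
  intro b hb
  exact h b hb a ha

/-- If `G' ≤ N` and `N' ` is abelian then `G''' = 1`. -/
theorem derived_three_of_le (N : Subgroup G) (hN : commutator G ≤ N)
    (hmet : ∀ a ∈ commutator N, ∀ b ∈ commutator N, a * b = b * a) :
    derivedSeries G 3 = ⊥ := by
  have h1 : derivedSeries G 1 ≤ N := by
    rw [derivedSeries_one]; exact hN
  have h2 : derivedSeries G 2 ≤ ⁅N, N⁆ := by
    rw [derivedSeries_succ]
    exact Subgroup.commutator_mono h1 h1
  have h3 : derivedSeries G 3 ≤ ⁅⁅N, N⁆, ⁅N, N⁆⁆ := by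
    rw [derivedSeries_succ]
    exact Subgroup.commutator_mono h2 h2
  have h4 : ⁅N, N⁆ = (commutator N).map N.subtype := by
    rw [commutator_def, Subgroup.map_commutator, ← MonoidHom.range_eq_map, Subgroup.range_subtype]
  have h5 : ⁅⁅N, N⁆, ⁅N, N⁆⁆ = ⊥ := by
    apply commutator_subgroup_eq_bot_of_comm
    intro a ha b hb
    rw [h4] at ha hb
    obtain ⟨a', ha', rfl⟩ := ha
    obtain ⟨b', hb', rfl⟩ := hb
    have := hmet a' ha' b' hb'
    exact congrArg Subtype.val this
  rw [eq_bot_iff, ← h5]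
  exact h3

/-- A metabelian group has trivial third derived subgroup. -/
theorem derived_three_of_metabelian
    (hmet : ∀ a ∈ commutator G, ∀ b ∈ commutator G, a * b = b * a) :
    derivedSeries G 3 = ⊥ := by
  have h2 : derivedSeries G 2 = ⊥ := by
    rw [derivedSeries_succ, derivedSeries_one]
    exact commutator_subgroup_eq_bot_of_comm _ hmet
  rw [derivedSeries_succ, h2]
  simp

end Derived

/-- Two character degrees: third derived subgroup trivial. -/
theorem derived_three_of_H2 {G : Type u} [Group G] [Finite G] (m : ℕ) (h2 : H2 G m) :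
    derivedSeries G 3 = ⊥ := by
  apply derived_three_of_metabelian
  by_cases hex : ∃ χ : G → ℂ, Cfsg.IsIrrCharacter G χ ∧ χ 1 = (m : ℂ)
  · by_cases hm1 : m = 1
    · have hc : ∀ a b : G, a * b = b * a := by
        apply comm_of_all_linear
        intro χ hχ
        rcases h2 χ hχ with h | h
        · exact h
        · rw [h, hm1, Nat.cast_one]
      intro a _ b _
      exact hc a b
    · exact metabelian_of_two_degrees m h2 hex hm1
  · have hc : ∀ a b : G, a * b = b * a := by
      apply comm_of_all_linear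
      intro χ hχ
      rcases h2 χ hχ with h | h
      · exact h
      · exact absurd ⟨χ, hχ, h⟩ hex
    intro a _ b _
    exact hc a b

end Cfsg.Agent.Lib.Helper8.DH
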