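import Mathlib
import Cfsg.Agent.Lib.Helper8.DG4
import Cfsg.Agent.Lib.Helper8.DG2
import Cfsg.Agent.Lib.Helper8.DH1

set_option autoImplicit false

/-! The quotient dichotomy above a normal subgroup with solvable quotient, and the basic
consequences of the Frobenius-type configuration. -/

namespace Cfsg.Agent.Lib.Helper8.DH

open Cfsg Cfsg.Agent.Lib.Helper1 Cfsg.Agent.Lib.Helper4 Cfsg.Agent.Lib.Helper4.TD
open Cfsg.Agent.Lib.Helper8.DG

universe u

variable {G : Type u} [Group G] [Finite G]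

theorem exists_quotient_dichotomy_over (M : Subgroup G) [hMn : M.Normal]
    (hsolv : Group.IsSolvable (G ⧸ M))
    (hnab : ∃ a b : G, a * b * a⁻¹ * b⁻¹ ∉ M) :
    ∃ (p : ℕ) (K N : Subgroup G), p.Prime ∧ K.Normal ∧ N.Normal ∧ M ≤ K ∧ K ≤ N ∧
      (∃ a b : G, a * b * a⁻¹ * b⁻¹ ∉ K) ∧
      ((N = ⊤ ∧ ∃ k, K.index = p ^ k) ∨
        (N ≠ ⊤ ∧ K ≠ N ∧ commutator G ≤ N ∧ (∀ a ∈ N, ∀ b ∈ N, a * b * a⁻¹ * b⁻¹ ∈ K) ∧
          (∃ k, K.relIndex N = p ^ k) ∧
          ∀ g : G, g ∉ N → ∀ n ∈ N, g * n * g⁻¹ * n⁻¹ ∈ K → n ∈ K)) := by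
  classical
  obtain ⟨K, hK⟩ := exists_maximal_of_wellFoundedGT
    (fun K : Subgroup G => K.Normal ∧ M ≤ K ∧ ∃ a b : G, a * b * a⁻¹ * b⁻¹ ∉ K)
    ⟨M, hMn, le_refl M, hnab⟩
  obtain ⟨hKn, hMK, a₀, b₀, hab₀⟩ := hK.1
  have := hKn
  have hXs : Group.IsSolvable (G ⧸ K) := by
    have hsurj : Function.Surjective (QuotientGroup.map M K (MonoidHom.id G) hMK) := by
      intro y
      obtain ⟨x, rfl⟩ := QuotientGroup.mk_surjective y
      exact ⟨(x : G ⧸ M), rfl⟩
    exact Group.isSolvable_of_surjective hsurj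
  have hmk : ∀ x : G, (QuotientGroup.mk' K) x = 1 ↔ x ∈ K := fun x => QuotientGroup.eq_one_iff x
  have hXnab : ∃ a b : G ⧸ K, a * b ≠ b * a := by
    refine ⟨QuotientGroup.mk' K a₀, QuotientGroup.mk' K b₀, fun h => hab₀ ?_⟩
    rw [← hmk]
    simp only [map_mul, map_inv]
    rw [h]
    group
  have hXmin : ∀ L : Subgroup (G ⧸ K), L.Normal → L ≠ ⊥ → commutator (G ⧸ K) ≤ L := by
    intro L hLn hLb
    set K₁ : Subgroup G := L.comap (QuotientGroup.mk' K) with hK₁
    have hK₁n : K₁.Normal := hLn.comap _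
    have hKK₁ : K ≤ K₁ := by
      intro x hx
      rw [hK₁, Subgroup.mem_comap, (hmk x).2 hx]
      exact L.one_mem
    have hne : ¬ (K₁.Normal ∧ M ≤ K₁ ∧ ∃ a b : G, a * b * a⁻¹ * b⁻¹ ∉ K₁) := by
      intro hcon
      have h1 := hK.2 hcon hKK₁
      apply hLb
      rw [eq_bot_iff]
      intro y hy
      obtain ⟨x, rfl⟩ := QuotientGroup.mk_surjective y
      have hx : x ∈ K₁ := hy
      rw [Subgroup.mem_bot]
      exact (QuotientGroup.eq_one_iff x).2 (h1 hx)
    have hall : ∀ a b : G, a * b * a⁻¹ * b⁻¹ ∈ K₁ := by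
      intro a b
      by_contra h
      exact hne ⟨hK₁n, hMK.trans hKK₁, a, b, h⟩
    rw [commutator_def, Subgroup.commutator_le]
    intro y₁ _ y₂ _
    obtain ⟨x₁, rfl⟩ := QuotientGroup.mk_surjective y₁
    obtain ⟨x₂, rfl⟩ := QuotientGroup.mk_surjective y₂
    have := hall x₁ x₂
    rw [hK₁, Subgroup.mem_comap] at this
    simpa [commutatorElement_def] using this
  obtain ⟨p, hp, halt⟩ := pgroup_or_frobenius hXs hXnab hXmin
  have := Fact.mk hp
  rcases halt with hA | ⟨hVp, hVab, hfpf⟩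
  · refine ⟨p, K, ⊤, hp, hKn, inferInstance, hMK, le_top, ⟨a₀, b₀, hab₀⟩, Or.inl ⟨rfl, ?_⟩⟩
    obtain ⟨k, hk⟩ := IsPGroup.iff_card.1 hA
    exact ⟨k, by rw [Subgroup.index_eq_card, hk]⟩
  · set V : Subgroup (G ⧸ K) := commutator (G ⧸ K) with hV
    set N : Subgroup G := V.comap (QuotientGroup.mk' K) with hN
    have hNn : N.Normal := (inferInstance : V.Normal).comap _
    have hKN : K ≤ N := by
      intro x hx
      rw [hN, Subgroup.mem_comap, (hmk x).2 hx]
      exact V.one_mem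
    have hmemN : ∀ x : G, x ∈ N ↔ (QuotientGroup.mk' K) x ∈ V := fun x => Iff.rfl
    refine ⟨p, K, N, hp, hKn, hNn, hMK, hKN, ⟨a₀, b₀, hab₀⟩, Or.inr ⟨?_, ?_, ?_, ?_, ?_, ?_⟩⟩
    · intro htop
      obtain ⟨a, b, hab⟩ := hXnab
      apply hab
      obtain ⟨x, rfl⟩ := QuotientGroup.mk_surjective a
      obtain ⟨y, rfl⟩ := QuotientGroup.mk_surjective b
      have hx : x ∈ N := by rw [htop]; trivial
      have hy : y ∈ N := by rw [htop]; trivial
      exact hVab _ hx _ hy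
    · intro hKeq
      obtain ⟨a, b, hab⟩ := hXnab
      apply hab
      have h1 := comm_mem_commutator a b
      obtain ⟨x, hx⟩ := QuotientGroup.mk_surjective (a * b * a⁻¹ * b⁻¹)
      have hxN : x ∈ N := by
        rw [hmemN]
        show QuotientGroup.mk x ∈ V
        rw [hx]; exact h1
      rw [← hKeq] at hxN
      have h2 : (QuotientGroup.mk x : G ⧸ K) = 1 := (QuotientGroup.eq_one_iff x).2 hxN
      rw [hx] at h2
      have : a * b = (a * b * a⁻¹ * b⁻¹) * (b * a) := by group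
      rw [this, h2, one_mul]
    · rw [commutator_def, Subgroup.commutator_le]
      intro x _ y _
      rw [hmemN]
      have := comm_mem_commutator ((QuotientGroup.mk' K) x) ((QuotientGroup.mk' K) y)
      simpa [commutatorElement_def] using this
    · intro a ha b hb
      rw [← hmk]
      simp only [map_mul, map_inv]
      rw [hVab _ ha _ hb]
      group
    · obtain ⟨k, hk⟩ := IsPGroup.iff_card.1 hVp
      refine ⟨k, ?_⟩
      have h1 : K = (⊥ : Subgroup (G ⧸ K)).comap (QuotientGroup.mk' K) := by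
        rw [MonoidHom.comap_bot, QuotientGroup.ker_mk']
      have h2 : N.map (QuotientGroup.mk' K) = V := by
        rw [hN]
        exact Subgroup.map_comap_eq_self_of_surjective (QuotientGroup.mk'_surjective K) V
      calc K.relIndex N = ((⊥ : Subgroup (G ⧸ K)).comap (QuotientGroup.mk' K)).relIndex N := by
            rw [← h1]
        _ = (⊥ : Subgroup (G ⧸ K)).relIndex (N.map (QuotientGroup.mk' K)) :=
            Subgroup.relIndex_comap _ _ _
        _ = Nat.card V := by rw [h2, Subgroup.relIndex_bot_left]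
        _ = p ^ k := hk
    · intro g hg n hn hgn
      rw [← hmk]
      apply hfpf _ hg _ hn
      have h1 := (hmk _).2 hgn
      simp only [map_mul, map_inv] at h1
      have : (QuotientGroup.mk' K) g * (QuotientGroup.mk' K) n =
          ((QuotientGroup.mk' K) g * (QuotientGroup.mk' K) n * ((QuotientGroup.mk' K) g)⁻¹ *
            ((QuotientGroup.mk' K) n)⁻¹) * ((QuotientGroup.mk' K) n * (QuotientGroup.mk' K) g) := by
        group
      rw [this, h1, one_mul]


/-- The Frobenius-type configuration: `G / K` has the abelian normal `p`-subgroup `N / K`, with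
`G / N` abelian and every element outside `N` acting without fixed points on `N / K`. -/
structure Frob (N K : Subgroup G) (p : ℕ) : Prop where
  hp : p.Prime
  hNn : N.Normal
  hKn : K.Normal
  hKN : K ≤ N
  hne : K ≠ N
  hNtop : N ≠ ⊤
  hcomm : commutator G ≤ N
  hab : ∀ a ∈ N, ∀ b ∈ N, a * b * a⁻¹ * b⁻¹ ∈ K
  hrel : ∃ k, K.relIndex N = p ^ k
  hfpf : ∀ g : G, g ∉ N → ∀ n ∈ N, g * n * g⁻¹ * n⁻¹ ∈ K → n ∈ K

namespace Frob

variable {N K : Subgroup G} {p : ℕ}

omit [Finite G] in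
theorem exists_mem_not_mem (h : Frob N K p) : ∃ n₁ ∈ N, n₁ ∉ K := by
  by_contra hcon
  push Not at hcon
  exact h.hne (le_antisymm h.hKN hcon)

/-- The index of `N` is smaller than the order of `N / K`. -/
theorem index_lt (h : Frob N K p) : N.index < K.relIndex N := by
  classical
  have hN := h.hNn
  have hK := h.hKn
  set Y : Subgroup N := K.subgroupOf N with hY
  have hYn : Y.Normal := Subgroup.normal_subgroupOf
  obtain ⟨n₁, hn₁N, hn₁K⟩ := h.exists_mem_not_mem
  let Ψ : G ⧸ N → {a : N ⧸ Y // a ≠ 1} := fun q =>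
    ⟨((⟨q.out * n₁ * q.out⁻¹, hN.conj_mem n₁ hn₁N _⟩ : N) : N ⧸ Y), by
      intro h'
      rw [QuotientGroup.eq_one_iff, hY, Subgroup.mem_subgroupOf] at h'
      apply hn₁K
      have := hK.conj_mem _ h' q.out⁻¹
      simpa [mul_assoc] using this⟩
  have hΨ : Function.Injective Ψ := by
    intro q q' hqq
    have h1 : ((⟨q.out * n₁ * q.out⁻¹, hN.conj_mem n₁ hn₁N _⟩ : N) : N ⧸ Y)
        = ((⟨q'.out * n₁ * q'.out⁻¹, hN.conj_mem n₁ hn₁N _⟩ : N) : N ⧸ Y) :=
      congrArg Subtype.val hqq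
    rw [QuotientGroup.eq, hY, Subgroup.mem_subgroupOf] at h1
    have h3 : (q.out * n₁ * q.out⁻¹)⁻¹ * (q'.out * n₁ * q'.out⁻¹) ∈ K := h1
    set x := q.out⁻¹ * q'.out with hx
    have h4 : x * n₁ * x⁻¹ * n₁⁻¹ ∈ K := by
      have h5 := hK.conj_mem _ h3 q.out⁻¹
      have h6 : q.out⁻¹ * ((q.out * n₁ * q.out⁻¹)⁻¹ * (q'.out * n₁ * q'.out⁻¹)) * q.out⁻¹⁻¹
          = n₁⁻¹ * (x * n₁ * x⁻¹) := by
        rw [hx]; group
      rw [h6] at h5
      have h7 := hK.conj_mem _ h5 n₁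
      have h8 : n₁ * (n₁⁻¹ * (x * n₁ * x⁻¹)) * n₁⁻¹ = x * n₁ * x⁻¹ * n₁⁻¹ := by group
      rw [h8] at h7
      exact h7
    have hxN : x ∈ N := by
      by_contra hxN
      exact hn₁K (h.hfpf x hxN n₁ hn₁N h4)
    rw [← QuotientGroup.out_eq' q, ← QuotientGroup.out_eq' q', QuotientGroup.eq]
    exact hxN
  have h1 : Nat.card (N ⧸ Y) = K.relIndex N := (Subgroup.index_eq_card Y).symm
  have h2 : N.index ≤ K.relIndex N - 1 := by
    rw [Subgroup.index_eq_card N, ← h1, ← card_subtype_ne' (N ⧸ Y) 1]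
    exact Nat.card_le_card_of_injective Ψ hΨ
  have h3 : 0 < N.index := Nat.pos_of_ne_zero Subgroup.index_ne_zero_of_finite
  omega

theorem one_lt_index (h : Frob N K p) : 1 < N.index := by
  have h3 : 0 < N.index := Nat.pos_of_ne_zero Subgroup.index_ne_zero_of_finite
  have h4 : N.index ≠ 1 := fun h1 => h.hNtop (Subgroup.index_eq_one.1 h1)
  omega

/-- `p` does not divide the index of `N`. -/
theorem not_dvd_index (h : Frob N K p) : ¬ p ∣ N.index := by
  classical
  intro hdvd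
  have hN := h.hNn
  have hK := h.hKn
  haveI : Fact p.Prime := ⟨h.hp⟩
  set Y : Subgroup N := K.subgroupOf N with hY
  have hYn : Y.Normal := Subgroup.normal_subgroupOf
  rw [Subgroup.index_eq_card] at hdvd
  obtain ⟨q, hq⟩ := exists_prime_orderOf_dvd_card' p hdvd
  obtain ⟨g, rfl⟩ := QuotientGroup.mk_surjective q
  have hgN : g ∉ N := by
    intro hg
    have h1 : (QuotientGroup.mk g : G ⧸ N) = 1 := (QuotientGroup.eq_one_iff g).2 hg
    rw [h1, orderOf_one] at hq
    exact h.hp.one_lt.ne hq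
  have hgp : g ^ p ∈ N := by
    rw [← QuotientGroup.eq_one_iff, QuotientGroup.mk_pow, ← hq, pow_orderOf_eq_one]
  -- the conjugation map on N / K
  let e : N ≃* N := MulAut.conjNormal g
  have he : ∀ x : N, ((e x : N) : G) = g * x * g⁻¹ := fun x => by
    simp [e, MulAut.conjNormal_apply]
  have hle : Y ≤ Y.comap e.toMonoidHom := by
    intro y hy
    rw [Subgroup.mem_comap, hY, Subgroup.mem_subgroupOf]
    show ((e y : N) : G) ∈ K
    rw [he]
    exact hK.conj_mem _ (Subgroup.mem_subgroupOf.1 hy) g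
  let τ : N ⧸ Y →* N ⧸ Y := QuotientGroup.map Y Y e.toMonoidHom hle
  have hτ : ∀ x : N, τ (x : N ⧸ Y) = ((e x : N) : N ⧸ Y) := fun x => rfl
  have hiter : ∀ j : ℕ, ∀ x : N, ∃ y : N, τ^[j] (x : N ⧸ Y) = (y : N ⧸ Y) ∧
      (y : G) = g ^ j * x * (g ^ j)⁻¹ := by
    intro j
    induction j with
    | zero => intro x; exact ⟨x, rfl, by simp⟩
    | succ j ih =>
      intro x
      obtain ⟨y, hy1, hy2⟩ := ih x
      refine ⟨e y, ?_, ?_⟩
      · rw [Function.iterate_succ_apply', hy1, hτ]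
      · rw [he, hy2, pow_succ']
        group
  let f : Function.End (N ⧸ Y) := fun w => τ w
  have hf : f ^ p ^ 1 = 1 := by
    rw [pow_one]
    funext w
    obtain ⟨x, rfl⟩ := QuotientGroup.mk_surjective w
    show τ^[p] (x : N ⧸ Y) = (x : N ⧸ Y)
    obtain ⟨y, hy1, hy2⟩ := hiter p x
    rw [hy1, QuotientGroup.eq, hY, Subgroup.mem_subgroupOf]
    show ((y⁻¹ * x : N) : G) ∈ K
    rw [Subgroup.coe_mul, Subgroup.coe_inv, hy2]
    have h1 := h.hab (g ^ p) hgp (x : G)⁻¹ (N.inv_mem x.2)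
    have h2 : (g ^ p * (x : G) * (g ^ p)⁻¹)⁻¹ * (x : G)
        = g ^ p * (x : G)⁻¹ * (g ^ p)⁻¹ * ((x : G)⁻¹)⁻¹ := by group
    rw [h2]
    exact h1
  haveI : Fintype (N ⧸ Y) := Fintype.ofFinite _
  have hmod := Equiv.Perm.card_fixedPoints_modEq (f := f) hf
  have hfix : Function.fixedPoints f = {1} := by
    ext w
    rw [Function.mem_fixedPoints, Set.mem_singleton_iff]
    constructor
    · intro hw
      obtain ⟨x, rfl⟩ := QuotientGroup.mk_surjective w
      have h1 : ((e x : N) : N ⧸ Y) = (x : N ⧸ Y) := hw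
      rw [QuotientGroup.eq, hY, Subgroup.mem_subgroupOf] at h1
      have h2 : ((e x : N) : G)⁻¹ * (x : G) ∈ K := h1
      rw [he] at h2
      rw [QuotientGroup.eq_one_iff, hY, Subgroup.mem_subgroupOf]
      apply h.hfpf g hgN x x.2
      have h3 : g * (x : G) * g⁻¹ * (x : G)⁻¹
          = (x : G) * ((g * (x : G) * g⁻¹)⁻¹ * (x : G))⁻¹ * (x : G)⁻¹ := by group
      rw [h3]
      exact hK.conj_mem _ (K.inv_mem h2) _
    · intro hw
      rw [hw]
      exact map_one τ
  have hcardfix : Fintype.card (Function.fixedPoints f) = 1 := by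
    rw [← Nat.card_eq_fintype_card, hfix]
    simp
  rw [hcardfix, ← Nat.card_eq_fintype_card, ← Subgroup.index_eq_card] at hmod
  obtain ⟨k, hk⟩ := h.hrel
  have hrel : Y.index = K.relIndex N := rfl
  rw [hrel, hk] at hmod
  have hk0 : k ≠ 0 := by
    intro h0
    rw [h0, pow_zero] at hk
    apply h.hne
    apply le_antisymm h.hKN
    have h1 : K.relIndex N = 1 := hk
    rw [Subgroup.relIndex_eq_one] at h1
    exact h1
  have h1 : p ∣ p ^ k := dvd_pow_self p hk0
  have h2 : p ^ k % p = 0 := Nat.mod_eq_zero_of_dvd h1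
  have h3 : 1 % p = 1 := Nat.mod_eq_of_lt h.hp.one_lt
  have h4 : p ^ k % p = 1 % p := hmod
  omega

/-- The index of `N` is a character degree of `G`. -/
theorem exists_index (h : Frob N K p) :
    ∃ χ : G → ℂ, Cfsg.IsIrrCharacter G χ ∧ χ 1 = (N.index : ℂ) := by
  have hN := h.hNn
  have hK := h.hKn
  have htriv : Cfsg.IsIrrCharacter N (fun _ => (1 : ℂ)) := by
    have := isIrrCharacter_of_hom (1 : N →* ℂˣ)
    simpa using this
  have htriv' : Cfsg.IsIrrCharacter (K.subgroupOf N) (fun _ => (1 : ℂ)) := by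
    have := isIrrCharacter_of_hom (1 : K.subgroupOf N →* ℂˣ)
    simpa using this
  obtain ⟨χ, hχ, hχ1⟩ := exists_induced_irr N K h.hKN h.hne h.hab h.hfpf htriv htriv' 1
    (by simp)
  exact ⟨χ, hχ, by rw [hχ1]; simp⟩

/-- Characters of `N` of degree prime to `p` give degrees of `G`. -/
theorem exists_mul (h : Frob N K p) {ψ : N → ℂ} (hψ : Cfsg.IsIrrCharacter N ψ) (e : ℕ)
    (he : ψ 1 = e) (hpe : ¬ p ∣ e) :
    ∃ χ : G → ℂ, Cfsg.IsIrrCharacter G χ ∧ χ 1 = ((N.index * e : ℕ) : ℂ) := by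
  have hN := h.hNn
  have hK := h.hKn
  obtain ⟨k, hk⟩ := h.hrel
  obtain ⟨χ, hχ, hχ1⟩ := exists_degree_of_not_dvd N K p k h.hp h.hKN h.hne h.hab hk h.hfpf hψ e
    he hpe
  exact ⟨χ, hχ, by rw [hχ1]; push_cast; ring⟩

end Frob

end Cfsg.Agent.Lib.Helper8.DH
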