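import Mathlib
import Cfsg.Agent.Lib.Helper8.DH2

set_option autoImplicit false

/-! The `p`-group quotient case: both nontrivial degrees are divisible by `p`. -/

namespace Cfsg.Agent.Lib.Helper8.DH

open Cfsg Cfsg.Agent.Lib.Helper1 Cfsg.Agent.Lib.Helper4 Cfsg.Agent.Lib.Helper4.TD
open Cfsg.Agent.Lib.Helper8.DG
open scoped ComplexConjugate

universe u

variable {G : Type u} [Group G]

theorem H3.nat {m n : ℕ} (h3 : H3 G m n) {χ : G → ℂ} (hχ : Cfsg.IsIrrCharacter G χ) {d : ℕ}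
    (hd : χ 1 = d) : d = 1 ∨ d = m ∨ d = n := by
  rcases h3 χ hχ with h | h | h
  · left
    rw [hd] at h
    exact_mod_cast h
  · right; left
    rw [hd] at h
    exact_mod_cast h
  · right; right
    rw [hd] at h
    exact_mod_cast h

variable [Finite G]

/-- A uniform version of the `p`-group quotient lemma: one non-linear character of `G / K` of
`p`-power degree `b` multiplies every irreducible character of degree prime to `p`. -/
theorem exists_pgroup_factor (p k : ℕ) (hp : p.Prime) (K : Subgroup G)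
    [hK : K.Normal] (hidx : K.index = p ^ k) (hnab : ∃ a b : G, a * b * a⁻¹ * b⁻¹ ∉ K) :
    ∃ b : ℕ, p ∣ b ∧ b ∣ p ^ k ∧ (∃ β : G → ℂ, Cfsg.IsIrrCharacter G β ∧ β 1 = (b : ℂ)) ∧
      ∀ χ : G → ℂ, Cfsg.IsIrrCharacter G χ → ∀ e : ℕ, χ 1 = e → ¬ p ∣ e →
        ∃ ψ : G → ℂ, Cfsg.IsIrrCharacter G ψ ∧ ψ 1 = ((b * e : ℕ) : ℂ) := by
  classical
  haveI : Fintype G := Fintype.ofFinite G
  haveI : Fintype K := Fintype.ofFinite K
  have hQnab : ¬ ∀ a b : G ⧸ K, a * b = b * a := by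
    intro h
    obtain ⟨a, b, hab⟩ := hnab
    apply hab
    rw [← QuotientGroup.eq_one_iff]
    have h1 := h (a : G ⧸ K) (b : G ⧸ K)
    simp only [QuotientGroup.mk_mul, QuotientGroup.mk_inv]
    rw [h1]
    group
  obtain ⟨β', hβ', hβ'1⟩ := exists_nonlinear hQnab
  obtain ⟨b, hb, hb0, hbd⟩ := irr_degree hβ'
  rw [← Subgroup.index_eq_card, hidx] at hbd
  have hpb : p ∣ b := by
    obtain ⟨j, -, hj⟩ := (Nat.dvd_prime_pow hp).1 hbd
    rcases Nat.eq_zero_or_pos j with h0 | h0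
    · exfalso
      apply hβ'1
      rw [hb, hj, h0, pow_zero, Nat.cast_one]
    · rw [hj]
      exact dvd_pow_self p h0.ne'
  set β : G → ℂ := fun g => β' (QuotientGroup.mk' K g) with hβdef
  have hβ : Cfsg.IsIrrCharacter G β :=
    Cfsg.Agent.Lib.Helper2.PiSection.isIrrCharacter_comp_surjective hβ' (QuotientGroup.mk' K)
      (QuotientGroup.mk'_surjective K)
  have hβK : ∀ n : K, β n = (b : ℂ) := by
    intro n
    show β' (QuotientGroup.mk' K (n : G)) = b
    have : (QuotientGroup.mk' K) (n : G) = 1 := (QuotientGroup.eq_one_iff _).2 n.2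
    rw [this, hb]
  have hβ1 : β 1 = (b : ℂ) := by
    show β' (QuotientGroup.mk' K 1) = b
    rw [map_one, hb]
  refine ⟨b, hpb, hbd, ⟨β, hβ, hβ1⟩, ?_⟩
  intro χ hχ e he hpe
  have hϑ : Cfsg.IsIrrCharacter K (fun n : K => χ n) :=
    restrict_irr_of_not_dvd p k hp K hidx hχ e he hpe
  have hone : ((fun _ : K => (1 : ℂ)) * fun n : K => χ n) = fun n : K => χ n := by
    funext n
    simp
  have hbij := Cfsg.Agent.S0856.result K (fun _ : K => (1 : ℂ)) (fun n : K => χ n)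
    (Cfsg.Agent.Lib.Helper8.RV.isIrrCharacter_one K) hϑ (fun _ _ => rfl)
    (fun g n => isClassFunction_irr hχ (n : G) g)
    (by rw [hone]; exact hϑ) χ hχ (fun _ => rfl)
  have hsrc : β ∈ {β : G → ℂ | Cfsg.IsIrrCharacter G β ∧
      Cfsg.classInner (Cfsg.indFun K (fun _ : K => (1 : ℂ))) β ≠ 0} := by
    refine ⟨hβ, ?_⟩
    rw [Cfsg.Agent.S0146.result K (fun _ : K => (1 : ℂ)) β (isClassFunction_irr hβ)]
    unfold Cfsg.classInner
    have h1 : ∑ g : K, (fun _ : K => (1 : ℂ)) g * conj ((fun h : K => β h) g)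
        = (Nat.card K : ℂ) * (b : ℂ) := by
      simp only [hβK, one_mul, Complex.conj_natCast, Finset.sum_const, Finset.card_univ,
        nsmul_eq_mul]
      rw [Nat.card_eq_fintype_card]
    rw [h1]
    have hK0 : (Nat.card K : ℂ) ≠ 0 := Nat.cast_ne_zero.2 Nat.card_pos.ne'
    rw [inv_mul_cancel_left₀ hK0]
    exact Nat.cast_ne_zero.2 hb0.ne'
  have htgt := hbij.mapsTo hsrc
  refine ⟨β * χ, htgt.1, ?_⟩
  show β 1 * χ 1 = _
  rw [he, hβ1]
  push_cast
  ring

/-- In the `p`-group quotient case both nontrivial degrees are divisible by `p` and one of them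
is a power of `p`. -/
theorem caseA_dvd (p k : ℕ) (hp : p.Prime) (K : Subgroup G) [hK : K.Normal]
    (hidx : K.index = p ^ k) (hnab : ∃ a b : G, a * b * a⁻¹ * b⁻¹ ∉ K)
    (m n : ℕ) (h3 : H3 G m n) (hm1 : 1 < m) (hmn : m < n)
    (hexm : ∃ χ : G → ℂ, Cfsg.IsIrrCharacter G χ ∧ χ 1 = (m : ℂ))
    (hexn : ∃ χ : G → ℂ, Cfsg.IsIrrCharacter G χ ∧ χ 1 = (n : ℂ)) :
    p ∣ m ∧ p ∣ n ∧ (m ∣ p ^ k ∨ n ∣ p ^ k) := by
  obtain ⟨b, hpb, hbk, ⟨β, hβ, hβ1⟩, hmul⟩ := exists_pgroup_factor p k hp K hidx hnab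
  have hb1 : b ≠ 1 := by
    rintro rfl
    exact hp.one_lt.ne' (Nat.dvd_one.1 hpb)
  have hb0 : 0 < b := by
    rcases Nat.eq_zero_or_pos b with h | h
    · rw [h] at hbk
      have := pow_ne_zero k hp.ne_zero
      exact absurd (Nat.eq_zero_of_zero_dvd hbk) this
    · exact h
  have hbmn : b = m ∨ b = n := (h3.nat hβ hβ1).resolve_left hb1
  have hpm : p ∣ m := by
    by_contra hpm
    obtain ⟨χ, hχ, hχ1⟩ := hexm
    obtain ⟨ψ, hψ, hψ1⟩ := hmul χ hχ m hχ1 hpm
    rcases h3.nat hψ hψ1 with h | h | h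
    · have : b = 1 := Nat.eq_one_of_mul_eq_one_right h
      exact hb1 this
    · have : b * m = 1 * m := by rw [h, one_mul]
      exact hb1 (Nat.eq_of_mul_eq_mul_right (by omega) this)
    · rcases hbmn with h' | h'
      · exact hpm (h' ▸ hpb)
      · rw [h'] at h
        have : n * m = n * 1 := by rw [h, mul_one]
        have := Nat.eq_of_mul_eq_mul_left (by omega) this
        omega
  have hpn : p ∣ n := by
    by_contra hpn
    obtain ⟨χ, hχ, hχ1⟩ := hexn
    obtain ⟨ψ, hψ, hψ1⟩ := hmul χ hχ n hχ1 hpn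
    have hlt : n < b * n := by
      have : 2 ≤ b := by omega
      nlinarith
    rcases h3.nat hψ hψ1 with h | h | h <;> omega
  refine ⟨hpm, hpn, ?_⟩
  rcases hbmn with h | h
  · left; rw [← h]; exact hbk
  · right; rw [← h]; exact hbk

end Cfsg.Agent.Lib.Helper8.DH
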