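import Mathlib
import Cfsg.Agent.Lib.Helper8.DH3
import Cfsg.Agent.S0175
import Cfsg.Agent.S0855

set_option autoImplicit false

/-! Taketa's argument with three degrees, and groups with an abelian normal `p`-complement. -/

namespace Cfsg.Agent.Lib.Helper8.DH

open Cfsg Cfsg.Agent.Lib.Helper1 Cfsg.Agent.Lib.Helper4 Cfsg.Agent.Lib.Helper4.TD
open Cfsg.Agent.Lib.Helper2.MGroup Cfsg.Agent.S0175 Cfsg.Agent.S0176
open scoped ComplexConjugate

universe u

/-- `H` has an abelian normal subgroup of order prime to `p` and of `p`-power index. -/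
def AEType (p : ℕ) (H : Type u) [Group H] : Prop :=
  ∃ C : Subgroup H, C.Normal ∧ (∀ a ∈ C, ∀ b ∈ C, a * b = b * a) ∧
    Nat.Coprime (Nat.card C) p ∧ ∃ k : ℕ, C.index = p ^ k

theorem aeType_mclass (p : ℕ) (hp : p.Prime) : MClass (fun H [Group H] => AEType p H) := by
  haveI : Fact p.Prime := ⟨hp⟩
  refine ⟨?_, ?_, ?_⟩
  · intro H _ hH K
    obtain ⟨C, hCn, hCc, hcop, k, hk⟩ := hH
    haveI := hCn
    let f : C.subgroupOf K →* C := K.subtype.subgroupComap C
    have hf : Function.Injective f := by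
      intro a b hab
      apply Subtype.ext
      apply Subtype.ext
      exact congrArg (fun x : C => (x : H)) hab
    refine ⟨C.subgroupOf K, Subgroup.normal_subgroupOf, ?_,
      Nat.Coprime.coprime_dvd_left (Subgroup.card_dvd_of_injective f hf) hcop, ?_⟩
    · intro a ha b hb
      apply Subtype.ext
      exact hCc a (Subgroup.mem_subgroupOf.1 ha) b (Subgroup.mem_subgroupOf.1 hb)
    · have h1 : (C.subgroupOf K).index ∣ C.index := Subgroup.relIndex_dvd_index_of_normal C K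
      rw [hk] at h1
      obtain ⟨j, -, hj⟩ := (Nat.dvd_prime_pow hp).1 h1
      exact ⟨j, hj⟩
  · intro H _ hH K _
    obtain ⟨C, hCn, hCc, hcop, k, hk⟩ := hH
    have hsurj : Function.Surjective (QuotientGroup.mk' K) := QuotientGroup.mk'_surjective K
    let f : C →* C.map (QuotientGroup.mk' K) := (QuotientGroup.mk' K).subgroupMap C
    have hf : Function.Surjective f := MonoidHom.subgroupMap_surjective _ _
    refine ⟨C.map (QuotientGroup.mk' K), hCn.map _ hsurj, ?_,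
      Nat.Coprime.coprime_dvd_left (Subgroup.card_dvd_of_surjective f hf) hcop, ?_⟩
    · rintro _ ⟨a, ha, rfl⟩ _ ⟨b, hb, rfl⟩
      rw [← map_mul, ← map_mul, hCc a ha b hb]
    · have h1 : (C.map (QuotientGroup.mk' K)).index ∣ C.index := Subgroup.index_map_dvd C hsurj
      rw [hk] at h1
      obtain ⟨j, -, hj⟩ := (Nat.dvd_prime_pow hp).1 h1
      exact ⟨j, hj⟩
  · intro H _ _ hH hnc
    obtain ⟨C, hCn, hCc, hcop, k, hk⟩ := hH
    haveI := hCn
    by_cases hCZ : C ≤ Subgroup.center H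
    · haveI : Group.IsNilpotent (H ⧸ C) := by
        apply IsPGroup.isNilpotent (p := p)
        apply IsPGroup.of_card (n := k)
        rw [← hk]
        exact (Subgroup.index_eq_card C).symm
      haveI : Group.IsNilpotent H := by
        apply Subgroup.isNilpotent_of_ker_le_center (QuotientGroup.mk' C)
        rw [QuotientGroup.ker_mk']
        exact hCZ
      exact exists_abelian_normal_noncentral hnc
    · exact ⟨C, hCn, hCc, hCZ⟩

section Taketa

variable {G : Type u} [Group G] [Fintype G]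

/-- One step of Taketa's argument. -/
theorem taketa_level (hM : ∀ χ : G → ℂ, Cfsg.IsIrrCharacter G χ → ∃ (H : Subgroup G)
      (lam : H →* ℂˣ), χ = Cfsg.indFun H (fun h => (lam h : ℂ)))
    (k d d' : ℕ)
    (hk : ∀ ξ : G → ℂ, Cfsg.IsIrrCharacter G ξ → ∀ n : ℕ, ξ 1 = n → n ≤ d →
      ∀ g ∈ derivedSeries G k, ξ g = ξ 1)
    (hgap : ∀ ξ : G → ℂ, Cfsg.IsIrrCharacter G ξ → ∀ n : ℕ, ξ 1 = n → n < d' → n ≤ d)
    (χ : G → ℂ) (hχ : Cfsg.IsIrrCharacter G χ) (hn : χ 1 = d') :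
    ∀ g ∈ derivedSeries G (k + 1), χ g = χ 1 := by
  classical
  have : Fintype (Cfsg.IrrCharacter G) := Fintype.ofFinite _
  intro g hg
  obtain ⟨H, lam, hχH⟩ := hM χ hχ
  have : Fintype H := Fintype.ofFinite H
  have h1H : Cfsg.IsIrrCharacter H (fun _ => (1 : ℂ)) := Cfsg.Agent.S0161.isIrrCharacter_one
  have h1G : Cfsg.IsIrrCharacter G (fun _ => (1 : ℂ)) := Cfsg.Agent.S0161.isIrrCharacter_one
  set π : G → ℂ := Cfsg.indFun H (fun _ => (1 : ℂ)) with hπ
  have hπc : Cfsg.IsCharacter G π := Cfsg.Agent.S0148.result H _ (isCharacter_of_irr h1H)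
  have hπ1 : π 1 = ((d' : ℕ) : ℂ) := by
    have h1 : π 1 = (Nat.card H : ℂ)⁻¹ * (Nat.card G : ℂ) := by
      rw [hπ, Cfsg.Agent.S0170.indFun_one]; simp
    rw [h1, ← indFun_hom_one H lam, ← hχH, hn]
  have hm : ∀ ξ : Cfsg.IrrCharacter G, ∃ m : ℕ, Cfsg.classInner π (ξ : G → ℂ) = m :=
    fun ξ => classInner_char_irr_nat hπc ξ.2
  choose m hm using hm
  have hdeg : ∀ ξ : Cfsg.IrrCharacter G, ∃ e : ℕ, 0 < e ∧ (ξ : G → ℂ) 1 = e :=
    fun ξ => irr_apply_one_pos ξ.2
  choose e he0 he using hdeg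
  have hexp : π = ∑ ξ : Cfsg.IrrCharacter G, (m ξ : ℂ) • (ξ : G → ℂ) := by
    have := class_function_expansion π (isClassFunction_of_isCharacter hπc)
    rw [Finset.sum_congr rfl (fun ξ _ => by rw [hm ξ])] at this
    exact this
  let ξ₁ : Cfsg.IrrCharacter G := ⟨fun _ => 1, h1G⟩
  have hm1 : m ξ₁ = 1 := by
    have h1 : Cfsg.classInner π (fun _ : G => (1 : ℂ)) = 1 := by
      rw [hπ, Cfsg.Agent.S0146.result H _ _ (isClassFunction_irr h1G)]
      exact classInner_irr_self h1H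
    have h2 := hm ξ₁
    simp only [ξ₁] at h2
    rw [h1] at h2
    exact_mod_cast h2.symm
  have he1 : e ξ₁ = 1 := by
    have h2 := he ξ₁
    simp only [ξ₁] at h2
    exact_mod_cast h2.symm
  have hsum : ∑ ξ : Cfsg.IrrCharacter G, m ξ * e ξ = d' := by
    have h1 := congrFun hexp 1
    rw [hπ1, Finset.sum_apply] at h1
    simp only [Pi.smul_apply, smul_eq_mul, he] at h1
    exact_mod_cast h1.symm
  have hsmall : ∀ ξ : Cfsg.IrrCharacter G, ξ ≠ ξ₁ → m ξ ≠ 0 → e ξ ≤ d := by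
    intro ξ hξ hmξ
    rw [← Finset.add_sum_erase Finset.univ _ (Finset.mem_univ ξ₁), hm1, he1] at hsum
    have h1 : m ξ * e ξ ≤ ∑ x ∈ Finset.univ.erase ξ₁, m x * e x :=
      Finset.single_le_sum (f := fun x => m x * e x) (fun _ _ => Nat.zero_le _)
        (Finset.mem_erase.2 ⟨hξ, Finset.mem_univ _⟩)
    have h2 : e ξ ≤ m ξ * e ξ := Nat.le_mul_of_pos_left _ (Nat.pos_of_ne_zero hmξ)
    apply hgap ξ ξ.2 (e ξ) (he ξ)
    omega
  have hDH : ∀ x ∈ derivedSeries G k, x ∈ H := by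
    intro x hx
    apply mem_of_indFun_one_eq H x
    change π x = _
    have h1 : π x = π 1 := by
      rw [hexp, Finset.sum_apply, Finset.sum_apply]
      refine Finset.sum_congr rfl fun ξ _ => ?_
      simp only [Pi.smul_apply, smul_eq_mul]
      by_cases hmξ : m ξ = 0
      · rw [hmξ]; simp
      · by_cases hξ : ξ = ξ₁
        · rw [hξ]
        · rw [hk ξ ξ.2 (e ξ) (he ξ) (hsmall ξ hξ hmξ) x hx]
    rw [h1, hπ, Cfsg.Agent.S0170.indFun_one]; simp
  have hDker : derivedSeries G (k + 1) ≤ (MonoidHom.ker lam).map H.subtype := by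
    rw [derivedSeries_succ, Subgroup.commutator_le]
    intro a ha b hb
    refine ⟨⟨a, hDH a ha⟩ * ⟨b, hDH b hb⟩ * ⟨a, hDH a ha⟩⁻¹ * ⟨b, hDH b hb⟩⁻¹, ?_, rfl⟩
    rw [SetLike.mem_coe, MonoidHom.mem_ker]
    simp only [map_mul, map_inv]
    rw [mul_comm (lam ⟨a, hDH a ha⟩) (lam ⟨b, hDH b hb⟩)]
    group
  have hnorm : (derivedSeries G (k + 1)).Normal := derivedSeries_normal G (k + 1)
  rw [hχH, indFun_hom_one]
  apply indFun_hom_of_forall
  intro x
  have hx : x⁻¹ * g * x ∈ derivedSeries G (k + 1) := by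
    have := hnorm.conj_mem g hg x⁻¹
    simpa using this
  obtain ⟨y, hy, hyx⟩ := hDker hx
  have hmem : x⁻¹ * g * x ∈ H := by rw [← hyx]; exact y.2
  refine ⟨hmem, ?_⟩
  have : (⟨x⁻¹ * g * x, hmem⟩ : H) = y := Subtype.ext hyx.symm
  rw [this]
  exact hy

/-- An M-group with three degrees has trivial third derived subgroup. -/
theorem derived_three_of_mgroup (hM : ∀ χ : G → ℂ, Cfsg.IsIrrCharacter G χ → ∃ (H : Subgroup G)
      (lam : H →* ℂˣ), χ = Cfsg.indFun H (fun h => (lam h : ℂ)))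
    (m n : ℕ) (h3 : H3 G m n) (hm1 : 1 < m) (hmn : m < n) : derivedSeries G 3 = ⊥ := by
  classical
  have : Fintype (Cfsg.IrrCharacter G) := Fintype.ofFinite _
  -- level 1
  have hl1 : ∀ ξ : G → ℂ, Cfsg.IsIrrCharacter G ξ → ∀ j : ℕ, ξ 1 = j → j ≤ 1 →
      ∀ g ∈ derivedSeries G 1, ξ g = ξ 1 := by
    intro ξ hξ j hj hj1
    obtain ⟨e, he0, he⟩ := irr_apply_one_pos hξ
    have hje : j = e := by
      have : (j : ℂ) = (e : ℂ) := by rw [← hj, he]
      exact_mod_cast this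
    have hj1' : j = 1 := by omega
    apply taketa_level hM 0 0 1 _ _ ξ hξ (by rw [hj, hj1', Nat.cast_one])
    · intro ξ' hξ' j' hj' hj0
      exfalso
      obtain ⟨e', he0', he'⟩ := irr_apply_one_pos hξ'
      have : (j' : ℂ) = (e' : ℂ) := by rw [← hj', he']
      have : j' = e' := by exact_mod_cast this
      omega
    · intro ξ' hξ' j' hj' hj0
      omega
  -- level 2
  have hl2 : ∀ ξ : G → ℂ, Cfsg.IsIrrCharacter G ξ → ∀ j : ℕ, ξ 1 = j → j ≤ m →
      ∀ g ∈ derivedSeries G 2, ξ g = ξ 1 := by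
    intro ξ hξ j hj hjm g hg
    rcases h3.nat hξ hj with h | h | h
    · exact hl1 ξ hξ j hj (by omega) g (derivedSeries_antitone G (by norm_num) hg)
    · apply taketa_level hM 1 1 m hl1 _ ξ hξ (by rw [hj, h]) g hg
      intro ξ' hξ' j' hj' hjm'
      rcases h3.nat hξ' hj' with h' | h' | h' <;> omega
    · omega
  -- level 3
  have hl3 : ∀ ξ : G → ℂ, Cfsg.IsIrrCharacter G ξ → ∀ g ∈ derivedSeries G 3, ξ g = ξ 1 := by
    intro ξ hξ g hg
    obtain ⟨j, hj0, hj⟩ := irr_apply_one_pos hξ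
    rcases h3.nat hξ hj with h | h | h
    · exact hl2 ξ hξ j hj (by omega) g (derivedSeries_antitone G (by norm_num) hg)
    · exact hl2 ξ hξ j hj (by omega) g (derivedSeries_antitone G (by norm_num) hg)
    · apply taketa_level hM 2 m n hl2 _ ξ hξ (by rw [hj, h]) g hg
      intro ξ' hξ' j' hj' hjm'
      rcases h3.nat hξ' hj' with h' | h' | h' <;> omega
  rw [eq_bot_iff]
  intro g hg
  rw [Subgroup.mem_bot]
  have hall : ∀ χ : Cfsg.IrrCharacter G, (χ : G → ℂ) g = (χ : G → ℂ) 1 :=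
    fun χ => hl3 χ χ.2 g hg
  exact isConj_one_left.1 (Cfsg.Agent.Lib.Helper8.isConj_of_forall_irr_eq hall)

end Taketa

/-- If all irreducible degrees are powers of `p` (three of them), the third derived subgroup is
trivial. -/
theorem derived_three_of_ppower {G : Type u} [Group G] [Finite G] (p : ℕ) (hp : p.Prime)
    (m n : ℕ) (h3 : H3 G m n) (hm1 : 1 < m) (hmn : m < n)
    (hm : ∃ i, m = p ^ i) (hn : ∃ i, n = p ^ i) : derivedSeries G 3 = ⊥ := by
  classical
  haveI : Fintype G := Fintype.ofFinite G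
  have hall : ∀ χ : Cfsg.IrrCharacter G, ∃ k : ℕ, (χ : G → ℂ) 1 = (p : ℂ) ^ k := by
    intro χ
    obtain ⟨i, hi⟩ := hm
    obtain ⟨j, hj⟩ := hn
    rcases h3 χ χ.2 with h | h | h
    · exact ⟨0, by rw [h, pow_zero]⟩
    · exact ⟨i, by rw [h, hi]; push_cast; rfl⟩
    · exact ⟨j, by rw [h, hj]; push_cast; rfl⟩
  obtain ⟨A, hAn, hAab, hAcop, k, hk⟩ := (Cfsg.Agent.S0855.result (G := G) p hp).1 hall
  have hae : AEType p G := ⟨A, hAn, hAab, hAcop, k, hk⟩
  have hM := Cfsg.Agent.Lib.Helper2.MGroup.main (aeType_mclass p hp) (Nat.card G) G hae rfl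
  exact derived_three_of_mgroup hM m n h3 hm1 hmn

end Cfsg.Agent.Lib.Helper8.DH
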