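import Mathlib
import Cfsg.Agent.Lib.Helper8.DH4
import Cfsg.Agent.S0169

set_option autoImplicit false

/-! The `p`-group quotient case of the three-degree theorem. -/

namespace Cfsg.Agent.Lib.Helper8.DH

open Cfsg Cfsg.Agent.Lib.Helper1 Cfsg.Agent.Lib.Helper4 Cfsg.Agent.Lib.Helper4.TD
open scoped ComplexConjugate

universe u

variable {G : Type u} [Group G] [Finite G]

/-- Two degrees force a metabelian group (no side conditions). -/
theorem metabelian_of_H2 (m : ℕ) (h2 : H2 G m) :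
    ∀ a ∈ commutator G, ∀ b ∈ commutator G, a * b = b * a := by
  by_cases hex : ∃ χ : G → ℂ, Cfsg.IsIrrCharacter G χ ∧ χ 1 = (m : ℂ)
  · by_cases hm1 : m = 1
    · have hc : ∀ a b : G, a * b = b * a := by
        apply comm_of_all_linear
        intro χ hχ
        rcases h2 χ hχ with h | h
        · exact h
        · rw [h, hm1, Nat.cast_one]
      intro a _ b _
      exact hc a b
    · exact metabelian_of_two_degrees m h2 hex hm1
  · have hc : ∀ a b : G, a * b = b * a := by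
      apply comm_of_all_linear
      intro χ hχ
      rcases h2 χ hχ with h | h
      · exact h
      · exact absurd ⟨χ, hχ, h⟩ hex
    intro a _ b _
    exact hc a b

/-- Itô's theorem in character form. -/
theorem ito_dvd (A : Subgroup G) [A.Normal] (hA : ∀ a ∈ A, ∀ b ∈ A, a * b = b * a)
    {χ : G → ℂ} (hχ : Cfsg.IsIrrCharacter G χ) (d : ℕ) (hd : χ 1 = d) : d ∣ A.index := by
  obtain ⟨e, ρ, hirr, hρ⟩ := hχ
  have := hirr
  have h1 := Cfsg.Agent.S0169.result ρ A hA
  rw [Module.finrank_fin_fun] at h1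
  have h2 : χ 1 = (e : ℂ) := by
    rw [← hρ, Representation.char_one, Module.finrank_fin_fun]
  have : d = e := by
    have : (d : ℂ) = (e : ℂ) := by rw [← hd, h2]
    exact_mod_cast this
  rw [this]
  exact h1

/-- Degrees of a normal `p`-complement are the `p'`-parts of the degrees above. -/
theorem degree_pcomplement (p j : ℕ) (hp : p.Prime) (Q : Subgroup G) [hQ : Q.Normal]
    [Fintype Q] (hcop : Nat.Coprime (Nat.card Q) p) (hidx : Q.index = p ^ j)
    {θ : Q → ℂ} (hθ : Cfsg.IsIrrCharacter Q θ) {χ : G → ℂ} (hχ : Cfsg.IsIrrCharacter G χ)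
    (hover : Cfsg.classInner (fun n : Q => χ n) θ ≠ 0) (c d : ℕ) (hc : χ 1 = c) (hd : θ 1 = d) :
    d = ordCompl[p] c := by
  classical
  haveI : Fintype G := Fintype.ofFinite G
  obtain ⟨h1, h2⟩ := Cfsg.Agent.S0887.result Q χ hχ θ hθ hover c d hc hd
  rw [hidx] at h2
  obtain ⟨i, -, hi⟩ := (Nat.dvd_prime_pow hp).1 h2
  have hc' : c = p ^ i * d := by
    rw [← hi]
    exact (Nat.div_mul_cancel h1).symm
  obtain ⟨d', hd', hd0, hdd⟩ := irr_degree hθ
  have hdd' : d = d' := by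
    have : (d : ℂ) = (d' : ℂ) := by rw [← hd, hd']
    exact_mod_cast this
  have hpd : ¬ p ∣ d := by
    intro h
    rw [hdd'] at h
    have h3 := h.trans hdd
    have h4 := Nat.Coprime.eq_one_of_dvd hcop.symm h3
    exact hp.one_lt.ne' h4
  rw [hc', Nat.ordCompl_pow_mul_of_not_dvd i hp hpd]

/-- The `p`-group quotient case. -/
theorem caseA (p k : ℕ) (hp : p.Prime) (K : Subgroup G) [hK : K.Normal]
    (hidx : K.index = p ^ k) (hnab : ∃ a b : G, a * b * a⁻¹ * b⁻¹ ∉ K)
    (m n : ℕ) (h3 : H3 G m n) (hm1 : 1 < m) (hmn : m < n)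
    (hexm : ∃ χ : G → ℂ, Cfsg.IsIrrCharacter G χ ∧ χ 1 = (m : ℂ))
    (hexn : ∃ χ : G → ℂ, Cfsg.IsIrrCharacter G χ ∧ χ 1 = (n : ℂ)) :
    derivedSeries G 3 = ⊥ := by
  classical
  haveI : Fintype G := Fintype.ofFinite G
  obtain ⟨hpm, hpn, hpow⟩ := caseA_dvd p k hp K hidx hnab m n h3 hm1 hmn hexm hexn
  -- Thompson: a normal p-complement
  have hdeg : ∀ χ : Cfsg.IrrCharacter G, Cfsg.charDegree (χ : G → ℂ) ≠ 1 →
      p ∣ Cfsg.charDegree (χ : G → ℂ) := by
    intro χ hχ1
    obtain ⟨h1, -⟩ := Cfsg.Agent.Lib.Helper8.irr_apply_one_eq_charDegree χ.2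
    rcases h3.nat χ.2 h1 with h | h | h
    · exact absurd h hχ1
    · rw [h]; exact hpm
    · rw [h]; exact hpn
  obtain ⟨Q, hQn, hQcop, j, hQidx⟩ := Cfsg.Agent.S4456.result (G := G) p hp hdeg
  haveI := hQn
  haveI : Fintype Q := Fintype.ofFinite Q
  -- degrees of Q
  have hQdeg : ∀ θ : Q → ℂ, Cfsg.IsIrrCharacter Q θ → ∀ d : ℕ, θ 1 = d →
      d = 1 ∨ d = ordCompl[p] m ∨ d = ordCompl[p] n := by
    intro θ hθ d hd
    obtain ⟨χ, hχ, hover⟩ := Cfsg.Agent.Lib.Helper2.CliffordDeg.exists_irr_over Q hθ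
    obtain ⟨c, hc, -, -⟩ := irr_degree hχ
    have h1 := degree_pcomplement p j hp Q hQcop hQidx hθ hχ hover c d hc hd
    rcases h3.nat hχ hc with h | h | h
    · left; rw [h1, h]; simp
    · right; left; rw [h1, h]
    · right; right; rw [h1, h]
  have hpowcompl : ∀ x : ℕ, x ∣ p ^ k → ordCompl[p] x = 1 := by
    intro x hx
    obtain ⟨i, -, hi⟩ := (Nat.dvd_prime_pow hp).1 hx
    rw [hi, Nat.ordCompl_self_pow hp]
  -- Q is metabelian
  have hQ2 : ∃ g' : ℕ, H2 Q g' := by
    rcases hpow with h | h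
    · refine ⟨ordCompl[p] n, ?_⟩
      intro θ hθ
      obtain ⟨d, hd, -, -⟩ := irr_degree hθ
      rcases hQdeg θ hθ d hd with h' | h' | h'
      · left; rw [hd, h', Nat.cast_one]
      · left; rw [hd, h', hpowcompl m h, Nat.cast_one]
      · right; rw [hd, h']
    · refine ⟨ordCompl[p] m, ?_⟩
      intro θ hθ
      obtain ⟨d, hd, -, -⟩ := irr_degree hθ
      rcases hQdeg θ hθ d hd with h' | h' | h'
      · left; rw [hd, h', Nat.cast_one]
      · right; rw [hd, h']
      · left; rw [hd, h', hpowcompl n h, Nat.cast_one]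
  obtain ⟨g', hg'⟩ := hQ2
  have hQmet := metabelian_of_H2 g' hg'
  -- the subgroup Q' of G
  set Q' : Subgroup G := ⁅Q, Q⁆ with hQ'
  haveI hQ'n : Q'.Normal := Subgroup.commutator_normal Q Q
  have hQ'map : Q' = (commutator Q).map Q.subtype := by
    rw [hQ', commutator_def, Subgroup.map_commutator, ← MonoidHom.range_eq_map,
      Subgroup.range_subtype]
  have hQ'' : ⁅Q', Q'⁆ = ⊥ := by
    apply commutator_subgroup_eq_bot_of_comm
    intro a ha b hb
    rw [hQ'map] at ha hb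
    obtain ⟨a', ha', rfl⟩ := ha
    obtain ⟨b', hb', rfl⟩ := hb
    exact congrArg Subtype.val (hQmet a' ha' b' hb')
  by_cases hboth : (∃ i, m = p ^ i) ∧ (∃ i, n = p ^ i)
  · exact derived_three_of_ppower p hp m n h3 hm1 hmn hboth.1 hboth.2
  -- the quotient G / Q' has an abelian normal subgroup of p-power index
  set A : Subgroup (G ⧸ Q') := Q.map (QuotientGroup.mk' Q') with hA
  haveI hAn : A.Normal := hQn.map _ (QuotientGroup.mk'_surjective Q')
  have hAab : ∀ a ∈ A, ∀ b ∈ A, a * b = b * a := by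
    rintro _ ⟨a, ha, rfl⟩ _ ⟨b, hb, rfl⟩
    rw [← map_mul, ← map_mul]
    have h1 : a * b * a⁻¹ * b⁻¹ ∈ Q' := by
      have := Subgroup.commutator_mem_commutator ha hb
      rwa [commutatorElement_def] at this
    have h2 : (QuotientGroup.mk' Q') (a * b * a⁻¹ * b⁻¹) = 1 := (QuotientGroup.eq_one_iff _).2 h1
    have h3 : a * b = (a * b * a⁻¹ * b⁻¹) * (b * a) := by group
    rw [h3, map_mul, h2, one_mul]
  have hAidx : A.index ∣ p ^ j := by
    rw [← hQidx]
    exact Subgroup.index_map_dvd Q (QuotientGroup.mk'_surjective Q')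
  have h3q : H3 (G ⧸ Q') m n := h3.quotient Q'
  have hqdeg : ∀ χ : G ⧸ Q' → ℂ, Cfsg.IsIrrCharacter (G ⧸ Q') χ → ∀ d : ℕ, χ 1 = d →
      ∃ i, d = p ^ i := by
    intro χ hχ d hd
    have h1 := (ito_dvd A hAab hχ d hd).trans hAidx
    obtain ⟨i, -, hi⟩ := (Nat.dvd_prime_pow hp).1 h1
    exact ⟨i, hi⟩
  have hq2 : ∃ g : ℕ, H2 (G ⧸ Q') g := by
    by_cases hmp : ∃ i, m = p ^ i
    · have hnp : ¬ ∃ i, n = p ^ i := fun h => hboth ⟨hmp, h⟩
      refine ⟨m, ?_⟩
      intro χ hχ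
      obtain ⟨d, hd, -, -⟩ := irr_degree hχ
      rcases h3q.nat hχ hd with h | h | h
      · left; rw [hd, h, Nat.cast_one]
      · right; rw [hd, h]
      · exfalso
        apply hnp
        rw [← h]
        exact hqdeg χ hχ d hd
    · refine ⟨n, ?_⟩
      intro χ hχ
      obtain ⟨d, hd, -, -⟩ := irr_degree hχ
      rcases h3q.nat hχ hd with h | h | h
      · left; rw [hd, h, Nat.cast_one]
      · exfalso
        apply hmp
        rw [← h]
        exact hqdeg χ hχ d hd
      · right; rw [hd, h]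
  obtain ⟨g, hg⟩ := hq2
  have hqmet := metabelian_of_H2 g hg
  have hq2' : derivedSeries (G ⧸ Q') 2 = ⊥ := by
    rw [derivedSeries_succ, derivedSeries_one]
    exact commutator_subgroup_eq_bot_of_comm _ hqmet
  have h2le : derivedSeries G 2 ≤ Q' := derived_le_of_quotient Q' 2 hq2'
  rw [eq_bot_iff, ← hQ'', derivedSeries_succ]
  exact Subgroup.commutator_mono h2le h2le

end Cfsg.Agent.Lib.Helper8.DH
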