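import Mathlib
import Cfsg.Agent.Lib.Helper8.RDG3

set_option autoImplicit false

/-! Two orbit lemmas for the product of a character `θ` of `N` with a linear character `μ` of
order `p`, when the orbit sizes of `θ` and `μ` are coprime. -/

namespace Cfsg.Agent.Lib.Helper8.RDG

open Cfsg Cfsg.Agent.Lib.Helper1 Cfsg.Agent.Lib.Helper4 Cfsg.Agent.S0193 Cfsg.Agent.S0194

universe u

variable {G : Type u} [Group G] [Finite G] (N : Subgroup G) [hN : N.Normal]

omit [Finite G] hN in
theorem eq_mulF_of_mulF_eq {a b : N → ℂ} {κ lam : N →* ℂˣ} (h : mulF N a κ = mulF N b lam) :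
    a = mulF N b (lam * κ⁻¹) := by
  funext n
  have h1 := congrFun h n
  simp only [mulF_apply] at h1
  rw [mulF_apply, MonoidHom.mul_apply, MonoidHom.inv_apply, Units.val_mul, ← mul_assoc, ← h1,
    mul_assoc, ← Units.val_mul, mul_inv_cancel, Units.val_one, mul_one]

omit [Finite G] in
theorem conjHom_eq_of_mem_inertia {μ : N →* ℂˣ} {u : G} (hu : u ∈ inertia N (lin N μ)) :
    conjHom N μ u = μ := by
  apply lin_injective N
  rw [← conjFun_lin]
  exact hu

omit [Finite G] in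
theorem conjHom_pow_eq_one {μ : N →* ℂˣ} {p : ℕ} (hμp : μ ^ p = 1) (g : G) :
    (conjHom N μ g) ^ p = 1 := by
  rw [← conjHom_pow_hom, hμp, conjHom_one_hom]

omit [Finite G] hN in
theorem iterate_mulF (κ : N →* ℂˣ) (k : ℕ) (ψ : N → ℂ) :
    (fun ψ : N → ℂ => mulF N ψ κ)^[k] ψ = mulF N ψ (κ ^ k) := by
  induction k generalizing ψ with
  | zero =>
    rw [Function.iterate_zero, id_eq]
    exact ((congrArg (mulF N ψ) (pow_zero κ)).trans (mulF_one N ψ)).symm
  | succ n ih =>
    rw [Function.iterate_succ_apply, ih, mulF_mulF]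
    exact congrArg (mulF N ψ) (pow_succ' κ n).symm

omit [Finite G] hN in
theorem hom_pow_apply {a : N →* ℂˣ} {p : ℕ} (ha : a ^ p = 1) (n : N) : a n ^ p = 1 := by
  have := DFunLike.congr_fun ha n
  rwa [MonoidHom.pow_apply, MonoidHom.one_apply] at this

omit [Finite G] hN in
theorem mul_inv_pow_eq_one {a b : N →* ℂˣ} {p : ℕ} (ha : a ^ p = 1) (hb : b ^ p = 1) :
    (a * b⁻¹) ^ p = 1 := by
  ext n
  rw [MonoidHom.pow_apply, MonoidHom.mul_apply, MonoidHom.inv_apply, mul_pow, inv_pow,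
    hom_pow_apply N ha, hom_pow_apply N hb]
  simp

omit [Finite G] hN in
theorem inv_pow_eq_one {a : N →* ℂˣ} {p : ℕ} (ha : a ^ p = 1) : a⁻¹ ^ p = 1 := by
  ext n
  rw [MonoidHom.pow_apply, MonoidHom.inv_apply, inv_pow, hom_pow_apply N ha]
  simp

omit [Finite G] hN in
theorem mul_pow_eq_one {a b : N →* ℂˣ} {p : ℕ} (ha : a ^ p = 1) (hb : b ^ p = 1) :
    (a * b) ^ p = 1 := by
  ext n
  rw [MonoidHom.pow_apply, MonoidHom.mul_apply, mul_pow, hom_pow_apply N ha, hom_pow_apply N hb]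
  simp

/-- Case A: if the orbit size of `θ μ` is coprime to that of `μ`, then `μ` is invariant. -/
theorem invariant_of_coprime_A (p : ℕ) [Fact p.Prime] (θ : N → ℂ) (μ : N →* ℂˣ) (hμp : μ ^ p = 1)
    (hfree : ∀ (g : G) (κ : N →* ℂˣ), κ ^ p = 1 → mulF N (conjFun N θ g) κ = conjFun N θ g → κ = 1)
    (hp : ¬ p ∣ (inertia N θ).index)
    (h21 : (inertia N (lin N μ)).index.Coprime (inertia N θ).index)
    (h23 : (inertia N (lin N μ)).index.Coprime (inertia N (mulF N θ μ)).index) (g : G) :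
    conjHom N μ g = μ := by
  -- Step 1
  have step1 : ∀ g : G, ∃ t : G, conjFun N θ t = mulF N θ (μ * (conjHom N μ g)⁻¹) := by
    intro g
    obtain ⟨u, hu, t, ht, rfl⟩ := exists_mul_of_coprime_index _ _ h23 g
    refine ⟨t, ?_⟩
    rw [← conjHom_mul', conjHom_eq_of_mem_inertia N hu]
    have h1 : conjFun N (mulF N θ μ) t = mulF N θ μ := ht
    rw [conjFun_mulF] at h1
    exact eq_mulF_of_mulF_eq N h1
  -- Step 2
  have step2 : ∀ g₁ g₂ : G, ∃ t : G,
      conjFun N θ t = mulF N θ (conjHom N μ g₁ * (conjHom N μ g₂)⁻¹) := by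
    intro g₁ g₂
    obtain ⟨u, hu, s, hs, rfl⟩ := exists_mul_of_coprime_index _ _ h21 g₁
    obtain ⟨t, ht⟩ := step1 (g₂ * s⁻¹)
    refine ⟨t * s, ?_⟩
    rw [← conjFun_mul, ht, conjFun_mulF]
    have hs' : conjFun N θ s = θ := hs
    rw [hs', conjHom_mul_hom, conjHom_inv_hom, conjHom_mul', ← conjHom_mul' N μ u s,
      conjHom_eq_of_mem_inertia N hu]
    congr 4
    group
  -- Step 3
  have step3 : ∀ g₁ g₂ : G, conjHom N μ g₁ * (conjHom N μ g₂)⁻¹ = 1 := by
    intro g₁ g₂
    set κ := conjHom N μ g₁ * (conjHom N μ g₂)⁻¹ with hκ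
    have hκp : κ ^ p = 1 :=
      mul_inv_pow_eq_one N (conjHom_pow_eq_one N hμp g₁) (conjHom_pow_eq_one N hμp g₂)
    by_contra hne
    apply hp
    apply prime_dvd_index_of_free_perm N p θ (fun ψ => mulF N ψ κ)
    · intro h
      have e1 : conjHom N κ h⁻¹ = conjHom N μ (g₁ * h⁻¹) * (conjHom N μ (g₂ * h⁻¹))⁻¹ := by
        rw [hκ, conjHom_mul_hom, conjHom_inv_hom, conjHom_mul', conjHom_mul']
      obtain ⟨t, ht⟩ := step2 (g₁ * h⁻¹) (g₂ * h⁻¹)
      refine ⟨t * h, ?_⟩
      show mulF N (conjFun N θ h) κ = _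
      rw [← conjFun_mul, ht, ← e1, conjFun_mulF, conjHom_mul']
      simp [conjHom_one]
    · intro h
      rw [iterate_mulF, hκp, mulF_one]
    · intro h hfix
      exact hne (hfree h κ hκp hfix)
  have := step3 g 1
  rw [conjHom_one] at this
  exact mul_inv_eq_one.1 this

/-- Case B: if the orbit size of `θ μ` is coprime to that of `θ`, then `θ` is invariant. -/
theorem invariant_of_coprime_B (p : ℕ) [Fact p.Prime] (θ : N → ℂ) (μ : N →* ℂˣ) (hμp : μ ^ p = 1)
    (hfree : ∀ κ : N →* ℂˣ, κ ^ p = 1 → mulF N θ κ = θ → κ = 1)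
    (hp : ¬ p ∣ (inertia N (lin N μ)).index)
    (h21 : (inertia N (lin N μ)).index.Coprime (inertia N θ).index)
    (h13 : (inertia N θ).index.Coprime (inertia N (mulF N θ μ)).index) (g : G) :
    conjFun N θ g = θ := by
  -- Step 1
  have step1 : ∀ g : G, ∃ t ∈ inertia N (mulF N θ μ), conjFun N θ g = conjFun N θ t := by
    intro g
    obtain ⟨s, hs, t, ht, rfl⟩ := exists_mul_of_coprime_index _ _ h13 g
    refine ⟨t, ht, ?_⟩
    have hs' : conjFun N θ s = θ := hs
    rw [← conjFun_mul, hs']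
  have hκ : ∀ t ∈ inertia N (mulF N θ μ), conjFun N θ t = mulF N θ (μ * (conjHom N μ t)⁻¹) := by
    intro t ht
    have h1 : conjFun N (mulF N θ μ) t = mulF N θ μ := ht
    rw [conjFun_mulF] at h1
    exact eq_mulF_of_mulF_eq N h1
  -- Step 2 and 3
  have step3 : ∀ t ∈ inertia N (mulF N θ μ), μ * (conjHom N μ t)⁻¹ = 1 := by
    intro t ht
    set κ := μ * (conjHom N μ t)⁻¹ with hκdef
    have hκp : κ ^ p = 1 := mul_inv_pow_eq_one N hμp (conjHom_pow_eq_one N hμp t)
    by_contra hne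
    apply hp
    apply prime_dvd_index_of_free_perm N p (lin N μ) (fun ψ => mulF N ψ κ⁻¹)
    · intro g
      obtain ⟨s', hs', u, hu, rfl⟩ := exists_mul_of_coprime_index _ _ h21 g
      have hu' : conjFun N θ u = θ := hu
      have hu'' : conjFun N θ u⁻¹ = θ := (inertia N θ).inv_mem hu
      set μ'' := conjHom N μ u with hμ''
      have e0 : conjHom N μ (s' * u) = μ'' := by
        rw [← conjHom_mul', conjHom_eq_of_mem_inertia N hs']
      obtain ⟨t₁, ht₁, ht₁'⟩ := step1 (t * u⁻¹)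
      set t' := u⁻¹ * t₁ * u with ht'
      have e1 : conjFun N (mulF N θ μ'') t' = mulF N θ μ'' := by
        have h1 : mulF N θ μ'' = conjFun N (mulF N θ μ) u := by
          rw [conjFun_mulF, hu']
        rw [h1, conjFun_mul, ht']
        have h2 : u * (u⁻¹ * t₁ * u) = t₁ * u := by group
        rw [h2, ← conjFun_mul]
        have h3 : conjFun N (mulF N θ μ) t₁ = mulF N θ μ := ht₁
        rw [h3]
      have e2 : conjFun N θ t' = mulF N θ κ := by
        rw [ht', ← conjFun_mul, ← conjFun_mul, hu'', ← ht₁', conjFun_mul]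
        have h2 : t * u⁻¹ * u = t := by group
        rw [h2]
        exact hκ t ht
      rw [conjFun_mulF, e2, mulF_mulF] at e1
      have e3 := eq_mulF_of_mulF_eq N e1
      have e4 : (μ'' * (κ * conjHom N μ'' t')⁻¹) = 1 := by
        apply hfree
        · exact mul_inv_pow_eq_one N (conjHom_pow_eq_one N hμp u)
            (mul_pow_eq_one N hκp (conjHom_pow_eq_one N (conjHom_pow_eq_one N hμp u) t'))
        · exact e3.symm
      refine ⟨s' * u * t', ?_⟩
      show mulF N (conjFun N (lin N μ) (s' * u)) κ⁻¹ = _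
      rw [conjFun_lin, conjFun_lin, e0, ← conjHom_mul' N μ (s' * u) t', e0, lin_eq_mulF, mulF_mulF,
        lin_eq_mulF]
      congr 1
      have e5 : μ'' = κ * conjHom N μ'' t' := mul_inv_eq_one.1 e4
      ext n
      have h6 := DFunLike.congr_fun e5 n
      rw [MonoidHom.mul_apply] at h6
      rw [MonoidHom.mul_apply, MonoidHom.inv_apply, h6, mul_inv_cancel_comm]
    · intro h
      rw [iterate_mulF, inv_pow_eq_one N hκp, mulF_one]
    · intro h hfix
      apply hne
      rw [conjFun_lin, lin_eq_mulF, mulF_mulF] at hfix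
      have h1 := lin_injective N (by rw [lin_eq_mulF, lin_eq_mulF]; exact hfix :
        lin N (conjHom N μ h * κ⁻¹) = lin N (conjHom N μ h))
      ext n
      have h6 := DFunLike.congr_fun h1 n
      rw [MonoidHom.mul_apply, MonoidHom.inv_apply] at h6
      have h7 : (κ n)⁻¹ = 1 := mul_left_cancel (a := conjHom N μ h n) (by rw [h6, mul_one])
      rw [MonoidHom.one_apply, inv_eq_one.1 h7]
  obtain ⟨t, ht, hgt⟩ := step1 g
  rw [hgt, hκ t ht, step3 t ht, mulF_one]

end Cfsg.Agent.Lib.Helper8.RDG
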