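import Mathlib
import Cfsg.Agent.Lib.Helper8.RDG5
import Cfsg.Agent.Lib.Helper4.TD2
import Cfsg.Agent.S0887
import Cfsg.Agent.S0170

set_option autoImplicit false

/-! Characters of degree prime to `p`: constituents of degree prime to `p`, extension of a
conjugate of the underlying character of `N` to `N P`, and characters of degree prime to `p` over
a linear character that extends to `N P`. -/

namespace Cfsg.Agent.Lib.Helper8.RDG

open Cfsg Cfsg.Agent.Lib.Helper1 Cfsg.Agent.Lib.Helper4 Cfsg.Agent.Lib.Helper4.TD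
open Cfsg.Agent.S0193 Cfsg.Agent.S0194
open scoped ComplexConjugate

universe u

section General

variable {X : Type u} [Group X] [Finite X]

/-- A character of degree prime to `p` has an irreducible constituent of degree prime to `p`. -/
theorem exists_constituent_not_dvd [Fintype X] (p : ℕ) {ρ : X → ℂ} (hρ : Cfsg.IsCharacter X ρ)
    (d : ℕ) (hd : ρ 1 = d) (hpd : ¬ p ∣ d) :
    ∃ κ : X → ℂ, Cfsg.IsIrrCharacter X κ ∧ (∃ m : ℕ, 0 < m ∧ Cfsg.classInner ρ κ = m) ∧
      ∃ k : ℕ, κ 1 = k ∧ ¬ p ∣ k := by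
  classical
  haveI : Fintype (Cfsg.IrrCharacter X) := Fintype.ofFinite _
  by_contra hcon
  push Not at hcon
  apply hpd
  have hexp := class_function_expansion _ (isClassFunction_of_isCharacter hρ)
  have h1 := congrFun hexp 1
  simp only [Finset.sum_apply, Pi.smul_apply, smul_eq_mul] at h1
  have hterm : ∀ μ : Cfsg.IrrCharacter X, ∃ k : ℕ,
      Cfsg.classInner ρ (μ : X → ℂ) * (μ : X → ℂ) 1 = ((p * k : ℕ) : ℂ) := by
    intro μ
    obtain ⟨m, hm⟩ := classInner_char_irr_nat hρ μ.2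
    obtain ⟨e, he, he0, -⟩ := irr_degree μ.2
    rcases Nat.eq_zero_or_pos m with rfl | hm0
    · refine ⟨0, ?_⟩
      rw [hm]
      simp
    · obtain ⟨j, hj⟩ := hcon μ μ.2 ⟨m, hm0, hm⟩ e he
      refine ⟨m * j, ?_⟩
      rw [hm, he, hj]
      push_cast
      ring
  choose kf hkf using hterm
  have h2 : (d : ℂ) = ((p * ∑ μ : Cfsg.IrrCharacter X, kf μ : ℕ) : ℂ) := by
    rw [← hd, h1, Finset.mul_sum]
    push_cast
    apply Finset.sum_congr rfl
    intro μ _
    rw [hkf μ]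
    push_cast
    ring
  have h3 : d = p * ∑ μ : Cfsg.IrrCharacter X, kf μ := by exact_mod_cast h2
  exact ⟨_, h3⟩

omit [Finite X] in
theorem classInner_comp_equiv {A B : Type*} [Group A] [Group B] [Fintype A] [Fintype B]
    (e : A ≃* B) (f g : B → ℂ) :
    Cfsg.classInner (fun a => f (e a)) (fun a => g (e a)) = Cfsg.classInner f g := by
  unfold Cfsg.classInner
  rw [Nat.card_congr e.toEquiv]
  congr 1
  exact Equiv.sum_comp e.toEquiv (fun b => f b * conj (g b))

end General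

variable {G : Type u} [Group G] [Finite G] (N : Subgroup G) [hN : N.Normal]

omit [Finite G] hN in
/-- Transitivity of "lying over". -/
theorem over_of_over_of_le {H : Subgroup G} (hNH : N ≤ H) [Fintype N] [Fintype H] {χ : G → ℂ}
    (hχ : Cfsg.IsCharacter G χ) {κ : H → ℂ} (hκ : Cfsg.IsIrrCharacter H κ)
    (hm : Cfsg.classInner (fun h : H => χ h) κ ≠ 0)
    {ω : N → ℂ} (hω : Cfsg.IsIrrCharacter N ω)
    (hover : Cfsg.classInner (fun n : N => κ ⟨n, hNH n.2⟩) ω ≠ 0) :
    Cfsg.classInner (fun n : N => χ n) ω ≠ 0 := by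
  classical
  have hres : Cfsg.IsCharacter H (fun h : H => χ h) := Cfsg.Agent.S0148.isCharacter_restrict H hχ
  obtain ⟨m, hm'⟩ := classInner_char_irr_nat hres hκ
  have hm0 : 0 < m := by
    rcases Nat.eq_zero_or_pos m with h | h
    · exfalso; apply hm; rw [hm', h]; simp
    · exact h
  have hσ := isCharacter_sub_irr hres hκ hm0 hm'
  have hσN : Cfsg.IsCharacter N (fun n : N => ((fun h : H => χ h) - κ) (Subgroup.inclusion hNH n)) :=
    isCharacter_comp_hom hσ (Subgroup.inclusion hNH)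
  have hκN : Cfsg.IsCharacter N (fun n : N => κ (Subgroup.inclusion hNH n)) :=
    isCharacter_comp_hom (isCharacter_of_irr hκ) (Subgroup.inclusion hNH)
  obtain ⟨k, hk⟩ := classInner_char_irr_nat hκN hω
  obtain ⟨k', hk'⟩ := classInner_char_irr_nat hσN hω
  have hk0 : 0 < k := by
    rcases Nat.eq_zero_or_pos k with h | h
    · exfalso; apply hover
      have : (fun n : N => κ ⟨n, hNH n.2⟩) = (fun n : N => κ (Subgroup.inclusion hNH n)) := rfl
      rw [this, hk, h]; simp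
    · exact h
  have hsplit : (fun n : N => χ n) = (fun n : N => κ (Subgroup.inclusion hNH n))
      + (fun n : N => ((fun h : H => χ h) - κ) (Subgroup.inclusion hNH n)) := by
    funext n
    simp [Subgroup.inclusion]
  rw [hsplit, classInner_add_left, hk, hk']
  have : ((k : ℂ) + (k' : ℂ)) = ((k + k' : ℕ) : ℂ) := by push_cast; rfl
  rw [this]
  exact Nat.cast_ne_zero.2 (by omega)

theorem relIndex_sup_sylow (p : ℕ) [hp : Fact p.Prime] (P : Sylow p G) :
    ∃ n : ℕ, N.relIndex (N ⊔ (P : Subgroup G)) = p ^ n := by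
  rw [Subgroup.relIndex_sup_left]
  have h6 : N.relIndex (P : Subgroup G) ∣ Nat.card (P : Subgroup G) := Subgroup.relIndex_dvd_card _ _
  obtain ⟨n, hn⟩ := (IsPGroup.iff_card (p := p) (G := (P : Subgroup G))).1 P.2
  rw [hn] at h6
  obtain ⟨i, -, hi⟩ := (Nat.dvd_prime_pow hp.out).1 h6
  exact ⟨i, hi⟩

omit hN in
theorem not_dvd_index_sup_sylow (p : ℕ) [hp : Fact p.Prime] (P : Sylow p G) :
    ¬ p ∣ (N ⊔ (P : Subgroup G)).index := by
  intro h
  haveI : (P : Subgroup G).FiniteIndex := Subgroup.finiteIndex_of_finite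
  exact P.not_dvd_index (h.trans (Subgroup.index_dvd_of_le le_sup_right))

/-- If `χ` has degree prime to `p` and lies over `θ`, then some conjugate of `θ` extends to
any `H ≥ N` with `|H : N|` a power of `p`. -/
theorem exists_extension_of_le (p : ℕ) [hp : Fact p.Prime] [Fintype N] (H : Subgroup G)
    (hNH : N ≤ H) (hidx : ∃ n : ℕ, N.relIndex H = p ^ n)
    {χ : G → ℂ} (hχ : Cfsg.IsIrrCharacter G χ) {θ : N → ℂ} (hθ : Cfsg.IsIrrCharacter N θ)
    (hover : Cfsg.classInner (fun n : N => χ n) θ ≠ 0) (c : ℕ) (hc : χ 1 = c) (hpc : ¬ p ∣ c) :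
    ∃ g : G, ∃ κ : H → ℂ, Cfsg.IsIrrCharacter H κ ∧
      ∀ n : N, κ ⟨n, hNH n.2⟩ = Cfsg.Agent.S0193.conjFun N θ g n := by
  classical
  haveI : Fintype G := Fintype.ofFinite G
  haveI : Fintype H := Fintype.ofFinite H
  have hresH : Cfsg.IsCharacter H (fun h : H => χ h) :=
    Cfsg.Agent.S0148.isCharacter_restrict H (isCharacter_of_irr hχ)
  have hd : (fun h : H => χ h) 1 = (c : ℂ) := by
    show χ ((1 : H) : G) = c
    rw [Subgroup.coe_one, hc]
  obtain ⟨κ, hκ, ⟨m, hm0, hm⟩, k, hk, hpk⟩ := exists_constituent_not_dvd p hresH c hd hpc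
  have hκN : Cfsg.IsCharacter N (fun n : N => κ (Subgroup.inclusion hNH n)) :=
    isCharacter_comp_hom (isCharacter_of_irr hκ) (Subgroup.inclusion hNH)
  have hκN1 : (fun n : N => κ (Subgroup.inclusion hNH n)) 1 ≠ 0 := by
    show κ (Subgroup.inclusion hNH 1) ≠ 0
    rw [map_one]
    exact irr_apply_one_ne_zero hκ
  obtain ⟨ω, hω, j, hj0, hj⟩ := exists_constituent hκN hκN1
  have hjne : Cfsg.classInner (fun n : N => κ ⟨n, hNH n.2⟩) ω ≠ 0 := by
    have : (fun n : N => κ ⟨n, hNH n.2⟩) = (fun n : N => κ (Subgroup.inclusion hNH n)) := rfl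
    rw [this, hj]
    exact Nat.cast_ne_zero.2 hj0.ne'
  have hmne : Cfsg.classInner (fun h : H => χ h) κ ≠ 0 := by
    rw [hm]; exact Nat.cast_ne_zero.2 hm0.ne'
  have hoverω := over_of_over_of_le N hNH (isCharacter_of_irr hχ) hκ hmne hω hjne
  obtain ⟨g, hg⟩ := exists_conj_of_over N hχ hθ hω hover hoverω
  -- degrees
  set N' : Subgroup H := N.subgroupOf H with hN'
  haveI : N'.Normal := Subgroup.normal_subgroupOf
  haveI : Fintype N' := Fintype.ofFinite N'
  let e : N' ≃* N := Subgroup.subgroupOfEquivOfLe hNH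
  set ϑ : N' → ℂ := fun x => ω (e x) with hϑ
  have hϑirr : Cfsg.IsIrrCharacter N' ϑ := isIrrCharacter_comp_mulEquiv hω e
  have hcon' : Cfsg.classInner (fun x : N' => κ x) ϑ ≠ 0 := by
    have h1 := classInner_comp_equiv e (fun n : N => κ ⟨n, hNH n.2⟩) ω
    have h2 : (fun x : N' => (fun n : N => κ ⟨n, hNH n.2⟩) (e x)) = (fun x : N' => κ x) := by
      funext x
      rfl
    rw [h2] at h1
    rw [hϑ, h1]
    exact hjne
  obtain ⟨f, hf, hf0, -⟩ := irr_degree hω
  have hϑ1 : ϑ 1 = (f : ℂ) := by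
    show ω (e 1) = f
    rw [map_one, hf]
  obtain ⟨h3, h4⟩ := Cfsg.Agent.S0887.result N' κ hκ ϑ hϑirr hcon' k f hk hϑ1
  obtain ⟨n, hn⟩ := hidx
  have hn' : N'.index = p ^ n := hn
  have h6 : k / f = 1 := by
    rw [hn'] at h4
    have h5 : k / f ∣ k := Nat.div_dvd_of_dvd h3
    have hcop : Nat.Coprime k (p ^ n) := Nat.Coprime.pow_right n
      ((Nat.Prime.coprime_iff_not_dvd hp.out).2 hpk).symm
    have : k / f ∣ Nat.gcd k (p ^ n) := Nat.dvd_gcd h5 h4
    rw [hcop] at this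
    exact Nat.dvd_one.1 this
  have h7 : k = f := (Nat.eq_of_dvd_of_div_eq_one h3 h6).symm
  have h8 : (fun n : N => κ (Subgroup.inclusion hNH n)) = ω := by
    apply eq_of_constituent_of_degree_eq hκN hω
    · rw [hj]; exact Nat.cast_ne_zero.2 hj0.ne'
    · show κ (Subgroup.inclusion hNH 1) = ω 1
      rw [map_one, hk, hf, h7]
  refine ⟨g, κ, hκ, fun n => ?_⟩
  rw [hg, ← h8]
  rfl

omit hN in
/-- If a linear character `μ` of `N` extends to `H ≥ N` of index prime to `p`, then some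
irreducible character of `G` of degree prime to `p` lies over `μ`. -/
theorem exists_over_not_dvd_of_extends (p : ℕ) [Fintype N] (H : Subgroup G)
    (hNH : N ≤ H) (hpidx : ¬ p ∣ H.index)
    (μ : N →* ℂˣ) (ε : H →* ℂˣ) (hε : ∀ n : N, ε ⟨n, hNH n.2⟩ = μ n) :
    ∃ ω : G → ℂ, Cfsg.IsIrrCharacter G ω ∧ Cfsg.classInner (fun n : N => ω n) (lin N μ) ≠ 0 ∧
      ∃ k : ℕ, ω 1 = k ∧ ¬ p ∣ k := by
  classical
  haveI : Fintype G := Fintype.ofFinite G
  haveI : Fintype H := Fintype.ofFinite H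
  set εf : H → ℂ := fun h => ((ε h : ℂˣ) : ℂ) with hεf
  have hεirr : Cfsg.IsIrrCharacter H εf := isIrrCharacter_of_hom ε
  have hΘ : Cfsg.IsCharacter G (Cfsg.indFun H εf) :=
    Cfsg.Agent.S0148.result H εf (isCharacter_of_irr hεirr)
  have hΘ1 : Cfsg.indFun H εf 1 = (H.index : ℂ) := by
    rw [Cfsg.Agent.S0170.indFun_one, ← Subgroup.card_mul_index H]
    have h1 : εf 1 = 1 := by
      show ((ε 1 : ℂˣ) : ℂ) = 1
      rw [map_one, Units.val_one]
    have hH0 : (Nat.card H : ℂ) ≠ 0 := Nat.cast_ne_zero.2 Nat.card_pos.ne'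
    rw [h1]
    push_cast
    field_simp
  obtain ⟨ω, hω, ⟨m, hm0, hm⟩, k, hk, hpk⟩ := exists_constituent_not_dvd p hΘ H.index hΘ1 hpidx
  refine ⟨ω, hω, ?_, k, hk, hpk⟩
  have hfr := Cfsg.Agent.S0146.result H εf ω (isClassFunction_irr hω)
  rw [hm] at hfr
  have h1 : Cfsg.classInner (fun h : H => ω h) εf ≠ 0 := by
    intro h0
    have := classInner_eq_zero_symm h0
    rw [← hfr] at this
    exact (Nat.cast_ne_zero.2 hm0.ne') this
  apply over_of_over_of_le N hNH (isCharacter_of_irr hω) hεirr h1 (isIrr_lin N μ)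
  have h2 : (fun n : N => εf ⟨n, hNH n.2⟩) = lin N μ := by
    funext n
    show ((ε ⟨n, hNH n.2⟩ : ℂˣ) : ℂ) = ((μ n : ℂˣ) : ℂ)
    rw [hε n]
  rw [h2, classInner_irr_self (isIrr_lin N μ)]
  exact one_ne_zero

end Cfsg.Agent.Lib.Helper8.RDG
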