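import Mathlib
import Cfsg.Agent.Lib.Helper8.DH5
import Cfsg.Agent.Lib.Helper8.RDG6
import Cfsg.Agent.Lib.Helper8.RDG4

set_option autoImplicit false

/-! Isaacs, Lemma 12.4 (second alternative): in the Frobenius-type configuration, a character
of `N` none of whose twists has inertia group `N` vanishes off `K`. -/

namespace Cfsg.Agent.Lib.Helper8.DH

open Cfsg Cfsg.Agent.Lib.Helper1 Cfsg.Agent.Lib.Helper4 Cfsg.Agent.Lib.Helper4.TD
open Cfsg.Agent.S0193 Cfsg.Agent.S0194 Cfsg.Agent.Lib.Helper8.RDG Cfsg.Agent.Lib.Helper8.DG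
open scoped ComplexConjugate

universe u

section Twist

variable {X : Type u} [Group X] [Finite X] (Y : Subgroup X) [hY : Y.Normal]

/-- If an automorphism acting without fixed points on the abelian group `X / Y` fixes both `ψ`
and a twist of `ψ` by a linear character of `X / Y`, the twist equals `ψ`. -/
theorem twist_fixed (hab : ∀ a b : X, a * b * a⁻¹ * b⁻¹ ∈ Y) (σ : X ≃* X)
    (hσY : ∀ y, σ y ∈ Y ↔ y ∈ Y) (hfpf : ∀ x, σ x * x⁻¹ ∈ Y → x ∈ Y)
    (ψ : X → ℂ) (hψσ : ∀ x, ψ (σ x) = ψ x) (f : (X ⧸ Y) →* ℂˣ)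
    (h1 : ∀ x : X, ((f ((σ x : X) : X ⧸ Y) : ℂˣ) : ℂ) * ψ (σ x)
      = ((f (x : X ⧸ Y) : ℂˣ) : ℂ) * ψ x) :
    ∀ x : X, ((f (x : X ⧸ Y) : ℂˣ) : ℂ) * ψ x = ψ x := by
  classical
  let instQ : CommGroup (X ⧸ Y) :=
    { (inferInstance : Group (X ⧸ Y)) with
      mul_comm := by
        intro a b
        induction a using QuotientGroup.induction_on with
        | H x =>
        induction b using QuotientGroup.induction_on with
        | H y =>
        rw [← QuotientGroup.mk_mul, ← QuotientGroup.mk_mul, QuotientGroup.eq]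
        have := hab y⁻¹ x⁻¹
        simpa [mul_assoc] using this }
  -- the commutator map
  let F : X →* X ⧸ Y := ((QuotientGroup.mk' Y).comp σ.toMonoidHom) / (QuotientGroup.mk' Y)
  have hF : ∀ x, F x = ((σ x * x⁻¹ : X) : X ⧸ Y) := by
    intro x
    show ((σ x : X) : X ⧸ Y) / (x : X ⧸ Y) = _
    rw [div_eq_mul_inv, QuotientGroup.mk_mul, QuotientGroup.mk_inv]
  have hker : Y ≤ F.ker := by
    intro y hy
    rw [MonoidHom.mem_ker, hF, QuotientGroup.eq_one_iff]
    exact Y.mul_mem ((hσY y).2 hy) (Y.inv_mem hy)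
  let Fb : X ⧸ Y →* X ⧸ Y := QuotientGroup.lift Y F hker
  have hFb : ∀ x : X, Fb (x : X ⧸ Y) = ((σ x : X) : X ⧸ Y) * ((x : X) : X ⧸ Y)⁻¹ := by
    intro x
    show F x = _
    rw [hF, QuotientGroup.mk_mul, QuotientGroup.mk_inv]
  have hinj : Function.Injective Fb := by
    rw [injective_iff_map_eq_one]
    intro a ha
    obtain ⟨x, rfl⟩ := QuotientGroup.mk_surjective a
    have h3 : F x = 1 := ha
    rw [hF, QuotientGroup.eq_one_iff] at h3
    exact (QuotientGroup.eq_one_iff x).2 (hfpf x h3)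
  -- the support of ψ
  set S : Set (X ⧸ Y) := (fun x : X => (x : X ⧸ Y)) '' {x : X | ψ x ≠ 0} with hS
  set B : Subgroup (X ⧸ Y) := Subgroup.closure S with hB
  have hfS : ∀ x : X, ψ x ≠ 0 → f ((σ x : X) : X ⧸ Y) = f (x : X ⧸ Y) := by
    intro x hx
    have h2 := h1 x
    rw [hψσ x] at h2
    exact Units.ext (mul_right_cancel₀ hx h2)
  -- f ∘ Fb is trivial on B
  have hc1 : B ≤ (f.comp Fb).ker := by
    rw [hB, Subgroup.closure_le]
    rintro _ ⟨x, hx, rfl⟩
    rw [SetLike.mem_coe, MonoidHom.mem_ker, MonoidHom.comp_apply, hFb, map_mul, map_inv,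
      hfS x hx, mul_inv_cancel]
  -- Fb maps B into B
  have hc2 : B ≤ B.comap Fb := by
    rw [hB, Subgroup.closure_le]
    rintro _ ⟨x, hx, rfl⟩
    rw [SetLike.mem_coe, Subgroup.mem_comap, hFb]
    apply Subgroup.mul_mem
    · apply Subgroup.subset_closure
      refine ⟨σ x, ?_, rfl⟩
      show ψ (σ x) ≠ 0
      rw [hψσ]; exact hx
    · apply Subgroup.inv_mem
      exact Subgroup.subset_closure ⟨x, hx, rfl⟩
  -- surjectivity on B
  let r : B → B := fun b => ⟨Fb b, hc2 b.2⟩
  have hrinj : Function.Injective r := by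
    intro a b hab'
    apply Subtype.ext
    apply hinj
    exact congrArg Subtype.val hab'
  have hrsurj : Function.Surjective r := Finite.surjective_of_injective hrinj
  intro x
  by_cases hx : ψ x = 0
  · rw [hx, mul_zero]
  · have hxB : (x : X ⧸ Y) ∈ B := Subgroup.subset_closure ⟨x, hx, rfl⟩
    obtain ⟨c, hc⟩ := hrsurj ⟨_, hxB⟩
    have h2 : Fb (c : X ⧸ Y) = (x : X ⧸ Y) := congrArg Subtype.val hc
    have h3 : f (Fb (c : X ⧸ Y)) = 1 := hc1 c.2
    rw [h2] at h3
    rw [h3, Units.val_one, one_mul]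

end Twist

section Main

variable {G : Type u} [Group G] [Finite G] {N K : Subgroup G} {p : ℕ} [hN : N.Normal]

/-- The uniqueness statement in the group: an element outside `N` fixing `ψ` and a twist of `ψ`
by a character of `N / K`. -/
theorem Frob.twist_unique (h : Frob N K p) (g : G) (hg : g ∉ N) (ψ : N → ℂ)
    (μ : N →* ℂˣ) (hμ : ∀ x : N, (x : G) ∈ K → μ x = 1)
    (h1 : S0193.conjFun N ψ g = ψ) (h2 : S0193.conjFun N (mulF N ψ μ) g = mulF N ψ μ) :
    mulF N ψ μ = ψ := by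
  have hK := h.hKn
  set Y : Subgroup N := K.subgroupOf N with hY
  haveI hYn : Y.Normal := Subgroup.normal_subgroupOf
  have hker : Y ≤ μ.ker := by
    intro y hy
    rw [MonoidHom.mem_ker]
    exact hμ y (Subgroup.mem_subgroupOf.1 hy)
  let f : (N ⧸ Y) →* ℂˣ := QuotientGroup.lift Y μ hker
  have hf : ∀ x : N, f (x : N ⧸ Y) = μ x := fun x => rfl
  let σ : N ≃* N := MulAut.conjNormal g
  have hσ : ∀ x : N, σ x = ⟨g * x * g⁻¹, hN.conj_mem x x.2 g⟩ := fun x =>
    Subtype.ext (by simp [σ, MulAut.conjNormal_apply])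
  have hmain := twist_fixed Y (fun a b => by
      rw [hY, Subgroup.mem_subgroupOf]
      exact h.hab a a.2 b b.2) σ (by
      intro y
      rw [hY, Subgroup.mem_subgroupOf, Subgroup.mem_subgroupOf, hσ]
      constructor
      · intro h'
        have := hK.conj_mem _ h' g⁻¹
        simpa [mul_assoc] using this
      · intro h'
        exact hK.conj_mem _ h' g) (by
      intro x hx
      rw [hY, Subgroup.mem_subgroupOf] at hx ⊢
      apply h.hfpf g hg x x.2
      rw [hσ] at hx
      exact hx) ψ (by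
      intro x
      rw [hσ]
      exact congrFun h1 x) f (by
      intro x
      rw [hf, hf, hσ]
      have := congrFun h2 x
      simp only [mulF_apply] at this
      rw [mul_comm, mul_comm ((μ x : ℂˣ) : ℂ)]
      exact this)
  funext x
  rw [mulF_apply, mul_comm, ← hf]
  exact hmain x

/-- Isaacs 12.4: if every twist of `ψ` by a character of `N / K` is fixed by some element outside
`N`, then `ψ` vanishes off `K`. -/
theorem Frob.vanish_of_twists_fixed (h : Frob N K p) (ψ : N → ℂ)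
    (hψ : Cfsg.IsIrrCharacter N ψ)
    (hfix : ∀ μ : N →* ℂˣ, (∀ x : N, (x : G) ∈ K → μ x = 1) →
      ∃ g, g ∉ N ∧ S0193.conjFun N (mulF N ψ μ) g = mulF N ψ μ) :
    ∀ x : N, (x : G) ∉ K → ψ x = 0 := by
  classical
  have hK := h.hKn
  have hall : ∀ μ : N →* ℂˣ, (∀ x : N, (x : G) ∈ K → μ x = 1) → mulF N ψ μ = ψ := by
    intro μ hμ
    obtain ⟨g, hgN, hg⟩ := hfix 1 (fun _ _ => rfl)
    rw [mulF_one] at hg
    obtain ⟨h', hh'N, hh'⟩ := hfix μ hμ
    set ν : N →* ℂˣ := μ * (RDG.conjHom N μ h')⁻¹ with hν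
    have hνK : ∀ x : N, (x : G) ∈ K → ν x = 1 := by
      intro x hx
      rw [hν, MonoidHom.mul_apply, MonoidHom.inv_apply, hμ x hx, conjHom_apply,
        hμ ⟨h' * x * h'⁻¹, hN.conj_mem x x.2 h'⟩ (hK.conj_mem _ hx h')]
      simp
    have hconj : S0193.conjFun N ψ h' = mulF N ψ ν := by
      rw [conjFun_mulF] at hh'
      exact eq_mulF_of_mulF_eq N hh'
    have hcl : Cfsg.IsClassFunction N (S0193.conjFun N ψ h') :=
      isClassFunction_irr (conjFun_irr N ψ hψ h')
    have hgfix : S0193.conjFun N (mulF N ψ ν) g = mulF N ψ ν := by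
      rw [← hconj, conjFun_mul]
      obtain ⟨c, hcN, h3⟩ : ∃ c ∈ N, h' * g = g * h' * c := by
        refine ⟨(g * h')⁻¹ * (h' * g), ?_, by group⟩
        apply h.hcomm
        have : (g * h')⁻¹ * (h' * g) = h'⁻¹ * g⁻¹ * (h'⁻¹)⁻¹ * (g⁻¹)⁻¹ := by group
        rw [this]
        exact comm_mem_commutator _ _
      rw [h3, ← conjFun_mul, ← conjFun_mul, hg]
      have := le_inertia N hcl hcN
      exact this
    have h4 : mulF N ψ ν = ψ := h.twist_unique g hgN ψ ν hνK hg hgfix
    have h5 : S0193.conjFun N ψ h' = ψ := by rw [hconj, h4]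
    exact h.twist_unique h' hh'N ψ μ hμ h5 hh'
  intro x hx
  set Y : Subgroup N := K.subgroupOf N with hY
  haveI hYn : Y.Normal := Subgroup.normal_subgroupOf
  let instQ : CommGroup (N ⧸ Y) :=
    { (inferInstance : Group (N ⧸ Y)) with
      mul_comm := by
        intro a b
        induction a using QuotientGroup.induction_on with
        | H x =>
        induction b using QuotientGroup.induction_on with
        | H y =>
        rw [← QuotientGroup.mk_mul, ← QuotientGroup.mk_mul, QuotientGroup.eq, hY,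
          Subgroup.mem_subgroupOf]
        have := h.hab y⁻¹ (N.inv_mem y.2) x⁻¹ (N.inv_mem x.2)
        simpa [mul_assoc] using this }
  have hne0 : NeZero (Monoid.exponent (N ⧸ Y)) := ⟨Monoid.exponent_ne_zero_of_finite⟩
  have hx1 : (x : N ⧸ Y) ≠ 1 := by
    intro h1
    rw [QuotientGroup.eq_one_iff, hY, Subgroup.mem_subgroupOf] at h1
    exact hx h1
  obtain ⟨φ, hφ⟩ := CommGroup.exists_apply_ne_one_of_hasEnoughRootsOfUnity (N ⧸ Y) ℂ hx1
  set μ : N →* ℂˣ := φ.comp (QuotientGroup.mk' Y) with hμ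
  have hμK : ∀ y : N, (y : G) ∈ K → μ y = 1 := by
    intro y hy
    show φ (y : N ⧸ Y) = 1
    rw [(QuotientGroup.eq_one_iff y).2 (Subgroup.mem_subgroupOf.2 hy), map_one]
  have h1 := congrFun (hall μ hμK) x
  rw [mulF_apply] at h1
  have h2 : ((μ x : ℂˣ) : ℂ) ≠ 1 := by
    intro h3
    apply hφ
    exact Units.ext h3
  have h3 : ψ x * (((μ x : ℂˣ) : ℂ) - 1) = 0 := by rw [mul_sub, h1, mul_one, sub_self]
  rcases mul_eq_zero.1 h3 with h4 | h4
  · exact h4
  · exact absurd (sub_eq_zero.1 h4) h2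

end Main

end Cfsg.Agent.Lib.Helper8.DH
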