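import Mathlib
import Cfsg.Prelude.Def_Characters
import Cfsg.Agent.Lib.Helper8.CD4
import Cfsg.Agent.Lib.Helper1.LinearChar

/-!
# Characters with irreducible restriction, and a piece of Gallagher's theorem
-/

set_option autoImplicit false

namespace Cfsg.Agent.Lib.Helper8

open Cfsg
open scoped ComplexConjugate
open Cfsg.Agent.Lib.Helper1 Cfsg.Agent.Lib.Helper4

universe u

section

variable {K : Type u} [Group K] [Fintype K]

/-- A character whose restriction to a subgroup is irreducible is irreducible. -/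
theorem isIrrCharacter_of_restrict_irr (H : Subgroup K) {η : K → ℂ} (hη : IsCharacter K η)
    (hres : IsIrrCharacter H (fun h : H => η h)) : IsIrrCharacter K η := by
  classical
  haveI : Fintype H := Fintype.ofFinite _
  haveI : Fintype (IrrCharacter K) := Fintype.ofFinite _
  obtain ⟨m, hm, hdec⟩ := exists_nat_mult hη
  -- restriction decomposes
  have hresdec : (fun h : H => η h)
      = ∑ ζ : IrrCharacter K, (m ζ : ℂ) • (fun h : H => (ζ : K → ℂ) h) := by
    funext h
    conv_lhs => rw [hdec]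
    rw [Finset.sum_apply, Finset.sum_apply]
    rfl
  have hnorm := classInner_irr_self hres
  conv at hnorm =>
    lhs
    arg 1
    rw [hresdec]
  rw [classInner_sum_left] at hnorm
  -- some constituent restricts nontrivially onto the restriction
  have hex : ∃ ζ₀ : IrrCharacter K, m ζ₀ ≠ 0 ∧
      classInner (fun h : H => (ζ₀ : K → ℂ) h) (fun h : H => η h) ≠ 0 := by
    by_contra hcon
    push Not at hcon
    have : ∑ ζ : IrrCharacter K, classInner ((m ζ : ℂ) • (fun h : H => (ζ : K → ℂ) h))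
        (fun h : H => η h) = 0 := by
      apply Finset.sum_eq_zero
      intro ζ _
      rw [classInner_smul_left]
      by_cases hz : m ζ = 0
      · rw [hz]; simp
      · rw [hcon ζ hz, mul_zero]
    rw [this] at hnorm
    exact zero_ne_one hnorm
  obtain ⟨ζ₀, hm0, hne⟩ := hex
  -- degrees
  have hdeg := apply_one_eq_sum_mult m hdec
  obtain ⟨hζ1, hζ0⟩ := irr_apply_one_eq_charDegree ζ₀.2
  have hle : charDegree (ζ₀ : K → ℂ) ≤ ∑ ζ : IrrCharacter K, m ζ * charDegree (ζ : K → ℂ) := by
    calc charDegree (ζ₀ : K → ℂ) ≤ m ζ₀ * charDegree (ζ₀ : K → ℂ) :=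
          Nat.le_mul_of_pos_left _ (Nat.pos_of_ne_zero hm0)
      _ ≤ _ := Finset.single_le_sum (f := fun ζ => m ζ * charDegree (ζ : K → ℂ))
          (fun _ _ => Nat.zero_le _) (Finset.mem_univ ζ₀)
  set D := ∑ ζ : IrrCharacter K, m ζ * charDegree (ζ : K → ℂ) with hD
  -- in H
  have hresχ : charDegree (fun h : H => η h) = D := by
    unfold charDegree
    show ⌊(η 1).re⌋₊ = D
    rw [hdeg]
    simp
  have hζH : IsCharacter H (fun h : H => (ζ₀ : K → ℂ) h) :=
    isCharacter_comp_hom (isCharacter_of_irr ζ₀.2) H.subtype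
  have h1 := eq_irr_of_degree_le hζH ⟨fun h : H => η h, hres⟩ hne (charDegree (ζ₀ : K → ℂ))
    hζ1 (by rw [hresχ]; exact hle)
  -- so the degrees agree
  have h2 : (ζ₀ : K → ℂ) 1 = η 1 := congrFun h1 1
  rw [hζ1, hdeg] at h2
  have h3 : charDegree (ζ₀ : K → ℂ) = D := by exact_mod_cast h2
  have hmζ : classInner η (ζ₀ : K → ℂ) ≠ 0 := by
    rw [hm ζ₀]
    exact_mod_cast hm0
  have h4 := eq_irr_of_degree_le hη ζ₀ hmζ D hdeg (by rw [h3])
  rw [h4]
  exact ζ₀.2

end

end Cfsg.Agent.Lib.Helper8
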