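import Mathlib
import Cfsg.Prelude.Def_Characters
import Cfsg.Agent.Lib.Helper8.RV3

/-!
# Clifford correspondence combined with Gallagher's theorem, relative form
-/

set_option autoImplicit false
set_option linter.unusedSectionVars false

namespace Cfsg.Agent.Lib.Helper8.RV

open Cfsg
open scoped ComplexConjugate
open Cfsg.Agent.Lib.Helper1 Cfsg.Agent.Lib.Helper4 Cfsg.Agent.Lib.Helper8

universe u

noncomputable local instance subFt4 {G : Type u} [Group G] [Finite G] (H : Subgroup G) : Fintype H :=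
  Fintype.ofFinite H

variable {Γ : Type u} [Group Γ] [Finite Γ]

theorem invS_iff_conjChar {P H : Subgroup Γ} (hPH : ∀ x ∈ P, Normalizes x H) (χ : H → ℂ) :
    InvS P H χ ↔ ∀ (x : Γ) (hx : x ∈ P), conjChar (hPH x hx) χ = χ := by
  constructor
  · intro h x hx
    funext g
    exact (invElt_iff (hPH x hx) χ).1 (h x hx) g
  · intro h x hx
    apply (invElt_iff (hPH x hx) χ).2
    intro g
    exact congrFun (h x hx) g

theorem conjChar_mul {x : Γ} {H : Subgroup Γ} (hx : Normalizes x H) (a b : H → ℂ) :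
    conjChar hx (a * b) = conjChar hx a * conjChar hx b := rfl

theorem conjChar_one_apply {x : Γ} {H : Subgroup Γ} (hx : Normalizes x H) (a : H → ℂ) :
    conjChar hx a 1 = a 1 := by
  show a (conjE hx 1) = a 1
  rw [map_one]

theorem trivOn_conjChar {x : Γ} {N T : Subgroup Γ} (hxN : Normalizes x N) (hxT : Normalizes x T)
    {β : T → ℂ} (hβ : TrivOn N T β) : TrivOn N T (conjChar hxT β) := by
  intro t ht
  rw [conjChar_one_apply]
  exact hβ (conjE hxT t) ((hxN t).1 ht)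

theorem invS_mul {P H : Subgroup Γ} {a b : H → ℂ} (ha : InvS P H a) (hb : InvS P H b) :
    InvS P H (a * b) := by
  intro s hs g g' hg
  rw [Pi.mul_apply, Pi.mul_apply, ha s hs g g' hg, hb s hs g g' hg]

theorem invS_res {P H L : Subgroup Γ} (h : H ≤ L) {χ : L → ℂ} (hχ : InvS P L χ) :
    InvS P H (res h χ) := by
  intro s hs g g' hg
  exact hχ s hs ⟨g, h g.2⟩ ⟨g', h g'.2⟩ hg

theorem invS_rInd {P H L : Subgroup Γ} (hPH : ∀ x ∈ P, Normalizes x H)
    (hPL : ∀ x ∈ P, Normalizes x L) {φ : H → ℂ} (hφ : InvS P H φ) :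
    InvS P L (rInd H L φ) := by
  rw [invS_iff_conjChar hPL]
  intro x hx
  rw [rInd_conjChar (hPH x hx) (hPL x hx), (invS_iff_conjChar hPH φ).1 hφ x hx]

section

variable {N T L : Subgroup Γ} (hNL : N ≤ L) (hLN : ∀ l ∈ L, Normalizes l N)
  {θ : N → ℂ} (hθ : IsIrrCharacter N θ)
  (hT : ∀ g : Γ, g ∈ T ↔ g ∈ L ∧ InvElt g N θ) (hNT : N ≤ T) (hTL : T ≤ L)
  {η : T → ℂ} (hη : IsIrrCharacter T η) (hηθ : res hNT η = θ)

include hLN hTL in
theorem cg_hTN : ∀ t ∈ T, Normalizes t N := fun t ht => hLN t (hTL ht)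

include hT in
theorem cg_hinv : InvS T N θ := fun t ht => ((hT t).1 ht).2

include hNL hLN hθ hT hNT hTL hη hηθ in
/-- Irreducibility of `(η β)^L`, lying over `θ`. -/
theorem cg_irr {β : T → ℂ} (hβ : IsIrrCharacter T β) (hβN : TrivOn N T β) :
    IsIrrCharacter L (rInd T L (η * β)) ∧ classInner (res hNL (rInd T L (η * β))) θ ≠ 0 := by
  obtain ⟨hg1, -, -⟩ := gallagher_rel hNT (cg_hTN hLN hTL) hθ (cg_hinv hT) hη hηθ
  obtain ⟨hirr, hover⟩ := hg1 β hβ hβN
  have hcl := (clifford_rel hNL hLN hθ hT hNT hTL hirr hirr hover hover).1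
  refine ⟨hcl, ?_⟩
  apply over_trans hTL hNT (isCharacter_of_irr hcl) hirr hθ _ hover
  rw [← frobenius' hTL (η * β) _ (isClassFunction_irr hcl), classInner_irr_self hcl]
  exact one_ne_zero

include hNL hLN hθ hT hNT hTL hη hηθ in
/-- Injectivity of `β ↦ (η β)^L`. -/
theorem cg_inj {β β' : T → ℂ} (hβ : IsIrrCharacter T β) (hβN : TrivOn N T β)
    (hβ' : IsIrrCharacter T β') (hβ'N : TrivOn N T β')
    (h : rInd T L (η * β) = rInd T L (η * β')) : β = β' := by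
  obtain ⟨hg1, hg2, -⟩ := gallagher_rel hNT (cg_hTN hLN hTL) hθ (cg_hinv hT) hη hηθ
  obtain ⟨hirr, hover⟩ := hg1 β hβ hβN
  obtain ⟨hirr', hover'⟩ := hg1 β' hβ' hβ'N
  have hcl := (clifford_rel hNL hLN hθ hT hNT hTL hirr hirr' hover hover').2 h
  exact hg2 β β' hβ hβN hβ' hβ'N hcl

include hNL hLN hθ hT hNT hTL hη hηθ in
/-- Surjectivity of `β ↦ (η β)^L` onto the characters over `θ`. -/
theorem cg_surj {χ : L → ℂ} (hχ : IsIrrCharacter L χ) (hc : classInner (res hNL χ) θ ≠ 0) :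
    ∃ β : T → ℂ, IsIrrCharacter T β ∧ TrivOn N T β ∧ χ = rInd T L (η * β) := by
  obtain ⟨-, -, hg3⟩ := gallagher_rel hNT (cg_hTN hLN hTL) hθ (cg_hinv hT) hη hηθ
  obtain ⟨ψ, hψ, hψθ, hχψ⟩ := clifford_rel_surj hNL hLN hθ hT hNT hTL hχ hc
  obtain ⟨β, hβ, hβN, hψβ⟩ := hg3 ψ hψ hψθ
  exact ⟨β, hβ, hβN, by rw [hχψ, hψβ]⟩

variable {P : Subgroup Γ} (hPN : ∀ x ∈ P, Normalizes x N) (hPT : ∀ x ∈ P, Normalizes x T)
  (hPL : ∀ x ∈ P, Normalizes x L) (hηP : InvS P T η)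

include hPT hPL hηP in
theorem cg_inv {β : T → ℂ} (hβP : InvS P T β) : InvS P L (rInd T L (η * β)) :=
  invS_rInd hPT hPL (invS_mul hηP hβP)

include hNL hLN hθ hT hNT hTL hη hηθ hPN hPT hPL hηP in
/-- If `(η β)^L` is `P`-invariant then so is `β`. -/
theorem cg_inv_of {β : T → ℂ} (hβ : IsIrrCharacter T β) (hβN : TrivOn N T β)
    (hχP : InvS P L (rInd T L (η * β))) : InvS P T β := by
  rw [invS_iff_conjChar hPT]
  intro x hx
  have h1 : rInd T L (η * conjChar (hPT x hx) β) = rInd T L (η * β) := by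
    have h2 := (invS_iff_conjChar hPL _).1 hχP x hx
    rw [rInd_conjChar (hPT x hx) (hPL x hx), conjChar_mul,
      (invS_iff_conjChar hPT η).1 hηP x hx] at h2
    exact h2
  exact cg_inj hNL hLN hθ hT hNT hTL hη hηθ (isIrrCharacter_conjChar (hPT x hx) hβ)
    (trivOn_conjChar (hPN x hx) (hPT x hx) hβN) hβ hβN h1

end

end Cfsg.Agent.Lib.Helper8.RV
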