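import Mathlib
import Cfsg.Prelude.Def_Characters
import Cfsg.Prelude.Def_CharExt
import Cfsg.Agent.Lib.Helper8.RV4
import Cfsg.Agent.Lib.Helper8.GL3
import Cfsg.Agent.Lib.Helper8.GH1
import Cfsg.Agent.Lib.Helper8.Deflation
import Cfsg.Agent.Lib.Helper2.DetChar
import Cfsg.Agent.S0867

/-!
# An invariant extension in the coprime situation, relative form
-/

set_option autoImplicit false
set_option linter.unusedSectionVars false

namespace Cfsg.Agent.Lib.Helper8.RV

open Cfsg
open scoped ComplexConjugate
open Cfsg.Agent.Lib.Helper1 Cfsg.Agent.Lib.Helper4 Cfsg.Agent.Lib.Helper8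

universe u

noncomputable local instance subFt5 {G : Type u} [Group G] [Finite G] (H : Subgroup G) : Fintype H :=
  Fintype.ofFinite H

/-- The determinantal order is unchanged by an automorphism. -/
theorem detOrder_comp_mulEquiv {H : Type u} [Group H] [Finite H] (e : H ≃* H) {χ : H → ℂ}
    (hχ : IsCharacter H χ) : detOrder (fun h => χ (e h)) = detOrder χ := by
  unfold detOrder
  have h0 := Cfsg.Agent.Lib.Helper2.DetChar.detChar_comp_hom e.toMonoidHom hχ
  have h0' : detChar (fun h => χ (e h)) = fun h : H => detChar χ (e h) := h0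
  rw [h0']
  rw [orderOf_eq_orderOf_iff]
  intro n
  constructor
  · intro h
    funext x
    have := congrFun h (e.symm x)
    simpa using this
  · intro h
    funext x
    have := congrFun h (e x)
    simpa using this

variable {Γ : Type u} [Group Γ] [Finite Γ]

/-- A character whose restriction is irreducible is irreducible, relative form. -/
theorem isIrrCharacter_of_res_irr {N D : Subgroup Γ} (hND : N ≤ D) {η : D → ℂ}
    (hη : IsCharacter D η) (h : IsIrrCharacter N (res hND η)) : IsIrrCharacter D η := by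
  apply isIrrCharacter_of_restrict_irr (N.subgroupOf D) hη
  rw [← res_comp_eSub hND η]
  exact isIrrCharacter_comp_mulEquiv h (eSub hND)

/-- The canonical extension, in an invariant form. -/
theorem exists_inv_extension {N T P : Subgroup Γ} (hNT : N ≤ T) (hTN : ∀ t ∈ T, Normalizes t N)
    {θ : N → ℂ} (hθ : IsIrrCharacter N θ) (hinv : InvS T N θ)
    (hcop : (N.relIndex T).Coprime (Nat.card N))
    (hPN : ∀ x ∈ P, Normalizes x N) (hPT : ∀ x ∈ P, Normalizes x T) (hθP : InvS P N θ) :
    ∃ η : T → ℂ, IsIrrCharacter T η ∧ res hNT η = θ ∧ InvS P T η := by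
  haveI hHn : (N.subgroupOf T).Normal := normal_subgroupOf_of_normalizes hTN
  have hθ' : IsIrrCharacter (N.subgroupOf T) (fun x => θ (eSub hNT x)) :=
    isIrrCharacter_comp_mulEquiv hθ (eSub hNT)
  obtain ⟨hd1, -⟩ := irr_apply_one_eq_charDegree hθ'
  have hcard : Nat.card (N.subgroupOf T) = Nat.card N := Nat.card_congr (eSub hNT).toEquiv
  have hdvd1 : detOrder (fun x : N.subgroupOf T => θ (eSub hNT x)) ∣ Nat.card N := by
    rw [← hcard]
    exact detOrder_dvd_card (isCharacter_of_irr hθ')
  have hdvd2 : charDegree (fun x : N.subgroupOf T => θ (eSub hNT x)) ∣ Nat.card N := by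
    rw [← hcard]
    exact charDegree_dvd_card hθ'
  have hcop' : Nat.Coprime (N.subgroupOf T).index
      (detOrder (fun x : N.subgroupOf T => θ (eSub hNT x))
        * charDegree (fun x : N.subgroupOf T => θ (eSub hNT x))) := by
    apply Nat.Coprime.mul_right
    · exact Nat.Coprime.coprime_dvd_right hdvd1 hcop
    · exact Nat.Coprime.coprime_dvd_right hdvd2 hcop
  obtain ⟨η, ⟨hη, hηθ, hηdet⟩, huniq⟩ := Cfsg.Agent.S0867.result (N.subgroupOf T)
    (fun x => θ (eSub hNT x)) hθ' (fun g n => hinv g g.2 (eSub hNT n) _ rfl) _ hd1 hcop'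
  have hres : res hNT η = θ := by
    funext n
    have h1 := hηθ ((eSub hNT).symm n)
    have e1 : (eSub hNT) ((eSub hNT).symm n) = n := (eSub hNT).apply_symm_apply n
    simp only [e1] at h1
    rw [← h1]
    rfl
  refine ⟨η, hη, hres, ?_⟩
  rw [invS_iff_conjChar hPT]
  intro x hx
  apply huniq _ (isIrrCharacter_conjChar (hPT x hx) hη)
  · intro n
    show η (conjE (hPT x hx) n) = θ (eSub hNT n)
    have h1 : η (conjE (hPT x hx) n) = θ (conjE (hPN x hx) (eSub hNT n)) := by
      rw [← hres]
      rfl
    rw [h1]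
    exact hθP x hx (eSub hNT n) _ rfl
  · have h2 : detOrder (conjChar (hPT x hx) η) = detOrder η :=
      detOrder_comp_mulEquiv (conjE (hPT x hx)) (isCharacter_of_irr hη)
    rw [h2, hηdet]
    exact Nat.Coprime.coprime_dvd_right hdvd1 hcop

end Cfsg.Agent.Lib.Helper8.RV
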