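import Mathlib
import Cfsg.Agent.Lib.Helper8.DH6
import Cfsg.Agent.Lib.Helper8.RV5

set_option autoImplicit false

/-! The case `f = n`: characters of `N` vanishing off `K` and of small degree force a central
normal `p`-complement. -/

namespace Cfsg.Agent.Lib.Helper8.DH

open Cfsg Cfsg.Agent.Lib.Helper1 Cfsg.Agent.Lib.Helper4 Cfsg.Agent.Lib.Helper4.TD
open Cfsg.Agent.S0193 Cfsg.Agent.S0194 Cfsg.Agent.Lib.Helper8.RDG Cfsg.Agent.Lib.Helper8.RV
open Cfsg.Agent.Lib.Helper8
open scoped ComplexConjugate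

universe u

variable {X : Type u} [Group X] [Finite X]

/-- Every irreducible character of a subgroup lies under an irreducible character of the group
(no normality needed). -/
theorem exists_irr_over' [Fintype X] (T : Subgroup X) [Fintype T] {η : T → ℂ}
    (hη : IsIrrCharacter T η) :
    ∃ χ : X → ℂ, IsIrrCharacter X χ ∧ classInner (fun t : T => χ t) η ≠ 0 := by
  classical
  haveI : Fintype (IrrCharacter X) := Fintype.ofFinite _
  by_contra hcon
  push Not at hcon
  have hI : IsCharacter X (indFun T η) := Cfsg.Agent.S0148.result T η (isCharacter_of_irr hη)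
  have hexp := class_function_expansion _ (isClassFunction_of_isCharacter hI)
  have hzero : indFun T η = 0 := by
    rw [hexp]
    apply Finset.sum_eq_zero
    intro χ _
    have h1 := Cfsg.Agent.S0146.result T η (χ : X → ℂ) (isClassFunction_irr χ.2)
    rw [h1, ← classInner_conj_symm, hcon χ χ.2, map_zero, zero_smul]
  have h1 := congrFun hzero 1
  rw [Cfsg.Agent.S0170.indFun_one] at h1
  have hN0 : (Nat.card T : ℂ) ≠ 0 := Nat.cast_ne_zero.2 Nat.card_pos.ne'
  have hG0 : (Nat.card X : ℂ) ≠ 0 := Nat.cast_ne_zero.2 Nat.card_pos.ne'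
  have := irr_apply_one_ne_zero hη
  simp only [Pi.zero_apply, mul_eq_zero, inv_eq_zero] at h1
  rcases h1 with h | h | h
  · exact hN0 h
  · exact hG0 h
  · exact this h

noncomputable local instance subFtDH7 (H : Subgroup X) : Fintype H := Fintype.ofFinite H

/-- Multiplicities multiply (at least) along restrictions. -/
theorem mult_restrict_ge {Q D : Subgroup X} (hQD : Q ≤ D) {ψ : D → ℂ} (hψ : IsCharacter D ψ)
    {ξ : D → ℂ} (hξ : IsIrrCharacter D ξ) {θ : Q → ℂ} (hθ : IsIrrCharacter Q θ)
    (a k e : ℕ) (ha : classInner ψ ξ = a) (hk : classInner (res hQD ξ) θ = k)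
    (he : classInner (res hQD ψ) θ = e) : a * k ≤ e := by
  classical
  haveI : Fintype (IrrCharacter D) := Fintype.ofFinite _
  have hm : ∀ χ : IrrCharacter D, ∃ m : ℕ, classInner ψ (χ : D → ℂ) = m :=
    fun χ => classInner_char_irr_nat hψ χ.2
  choose m hm using hm
  have hj : ∀ χ : IrrCharacter D, ∃ j : ℕ, classInner (res hQD (χ : D → ℂ)) θ = j :=
    fun χ => classInner_char_irr_nat (isCharacter_res hQD (isCharacter_of_irr χ.2)) hθ
  choose j hj using hj
  have hexp : ψ = ∑ χ : IrrCharacter D, (m χ : ℂ) • (χ : D → ℂ) := by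
    have := class_function_expansion ψ (isClassFunction_of_isCharacter hψ)
    rw [Finset.sum_congr rfl (fun χ _ => by rw [hm χ])] at this
    exact this
  have hres : res hQD ψ = ∑ χ : IrrCharacter D, (m χ : ℂ) • res hQD (χ : D → ℂ) := by
    funext q
    have := congrFun hexp ⟨q, hQD q.2⟩
    rw [Finset.sum_apply] at this
    rw [Finset.sum_apply]
    exact this
  have hsum : (e : ℂ) = ∑ χ : IrrCharacter D, ((m χ * j χ : ℕ) : ℂ) := by
    rw [← he, hres, classInner_sum_left]
    refine Finset.sum_congr rfl fun χ _ => ?_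
    rw [classInner_smul_left, hj χ]
    push_cast
    ring
  have hsum' : e = ∑ χ : IrrCharacter D, m χ * j χ := by
    have : (e : ℂ) = ((∑ χ : IrrCharacter D, m χ * j χ : ℕ) : ℂ) := by
      rw [hsum]; push_cast; rfl
    exact_mod_cast this
  have h1 : m ⟨ξ, hξ⟩ = a := by
    have : (m ⟨ξ, hξ⟩ : ℂ) = (a : ℂ) := by rw [← hm ⟨ξ, hξ⟩, ha]
    exact_mod_cast this
  have h2 : j ⟨ξ, hξ⟩ = k := by
    have : (j ⟨ξ, hξ⟩ : ℂ) = (k : ℂ) := by rw [← hj ⟨ξ, hξ⟩, hk]
    exact_mod_cast this
  rw [hsum', ← h1, ← h2]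
  exact Finset.single_le_sum (f := fun χ => m χ * j χ) (fun _ _ => Nat.zero_le _)
    (Finset.mem_univ (⟨ξ, hξ⟩ : IrrCharacter D))

/-- A character vanishing off `Y` and lying over an extension of `θ` to its inertia group has
degree at least `|X : Y|`. -/
theorem degree_ge_of_vanish (Y Q T : Subgroup X) [hQ : Q.Normal]
    (hQT : Q ≤ T) (hQY : Q ≤ Y) {θ : Q → ℂ} (hθ : IsIrrCharacter Q θ) (hT : T = inertia Q θ)
    {η : T → ℂ} (hη : IsIrrCharacter T η) (hres : res hQT η = θ)
    {ψ : X → ℂ} (hψ : IsIrrCharacter X ψ) (hover : classInner (fun t : T => ψ t) η ≠ 0)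
    (hvan : ∀ x : X, x ∉ Y → ψ x = 0) (c : ℕ) (hc : ψ 1 = c) : Y.index ≤ c := by
  classical
  haveI : Fintype X := Fintype.ofFinite X
  set D : Subgroup X := T ⊓ Y with hD
  have hDT : D ≤ T := inf_le_left
  have hDY : D ≤ Y := inf_le_right
  have hQD : Q ≤ D := le_inf hQT hQY
  -- restrictions
  have hψT : IsCharacter T (fun t : T => ψ t) :=
    Cfsg.Agent.S0148.isCharacter_restrict T (isCharacter_of_irr hψ)
  have hψD : IsCharacter D (fun t : D => ψ t) :=
    Cfsg.Agent.S0148.isCharacter_restrict D (isCharacter_of_irr hψ)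
  set ξ : D → ℂ := res hDT η with hξdef
  have hξQ : res hQD ξ = θ := by
    rw [← hres]
  have hξ : IsIrrCharacter D ξ := by
    apply isIrrCharacter_of_res_irr hQD (isCharacter_res hDT (isCharacter_of_irr hη))
    rw [hξQ]
    exact hθ
  obtain ⟨c₀, hc₀⟩ := classInner_char_irr_nat hψT hη
  have hc₀pos : 0 < c₀ := by
    rcases Nat.eq_zero_or_pos c₀ with h | h
    · exfalso; apply hover; rw [hc₀, h]; simp
    · exact h
  obtain ⟨a, ha⟩ := classInner_char_irr_nat hψD hξ
  -- the sums
  have hsum : ∑ t : T, ψ t * conj (η t) = ∑ s : D, ψ s * conj (ξ s) := by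
    symm
    apply Finset.sum_of_injOn (fun s : D => (⟨(s : X), hDT s.2⟩ : T))
    · intro s _ s' _ hss
      apply Subtype.ext
      exact congrArg (fun t : T => (t : X)) hss
    · intro s _
      exact Finset.mem_coe.2 (Finset.mem_univ _)
    · intro t _ ht
      have htY : (t : X) ∉ Y := by
        intro htY
        apply ht
        exact ⟨⟨(t : X), ⟨t.2, htY⟩⟩, Finset.mem_coe.2 (Finset.mem_univ _), rfl⟩
      rw [hvan _ htY, zero_mul]
    · intro s _
      rfl
  have hrel : (a : ℂ) * (Nat.card D : ℂ) = (c₀ : ℂ) * (Nat.card T : ℂ) := by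
    have hT0 : (Nat.card T : ℂ) ≠ 0 := Nat.cast_ne_zero.2 Nat.card_pos.ne'
    have hD0 : (Nat.card D : ℂ) ≠ 0 := Nat.cast_ne_zero.2 Nat.card_pos.ne'
    rw [← ha, ← hc₀, classInner_def, classInner_def, hsum]
    field_simp
  have hrel' : a * Nat.card D = c₀ * Nat.card T := by exact_mod_cast hrel
  -- multiplicity over Q
  have hψQ : IsCharacter Q (fun q : Q => ψ q) :=
    Cfsg.Agent.S0148.isCharacter_restrict Q (isCharacter_of_irr hψ)
  obtain ⟨e, he⟩ := classInner_char_irr_nat hψQ hθ
  have hk : classInner (res hQD ξ) θ = ((1 : ℕ) : ℂ) := by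
    rw [hξQ, Nat.cast_one]
    exact classInner_irr_self hθ
  have hge := mult_restrict_ge hQD hψD hξ hθ a 1 e ha hk he
  rw [mul_one] at hge
  have hapos : 0 < a := by
    rcases Nat.eq_zero_or_pos a with h | h
    · rw [h, zero_mul] at hrel'
      have : 0 < c₀ * Nat.card T := Nat.mul_pos hc₀pos Nat.card_pos
      omega
    · exact h
  have hover' : classInner (fun q : Q => ψ q) θ ≠ 0 := by
    rw [he]
    exact Nat.cast_ne_zero.2 (by omega)
  obtain ⟨d, hd, hd0, -⟩ := irr_degree hθ
  obtain ⟨e', he'0, he', hcl⟩ := clifford_degree Q hψ hθ hover' c d hc hd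
  have hee' : e = e' := by
    have : (e : ℂ) = (e' : ℂ) := by rw [← he, he']
    exact_mod_cast this
  rw [← hT] at hcl
  -- indices
  have h1 : Nat.card D * D.index = Nat.card X := Subgroup.card_mul_index D
  have h2 : Nat.card T * T.index = Nat.card X := Subgroup.card_mul_index T
  have h3 : Y.index ∣ D.index := Subgroup.index_dvd_of_le hDY
  have hDpos : 0 < D.index := Nat.pos_of_ne_zero Subgroup.index_ne_zero_of_finite
  have h4 : Y.index ≤ D.index := Nat.le_of_dvd hDpos h3
  -- D.index ≤ a * T.index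
  have h5 : D.index ≤ a * T.index := by
    have hcD : 0 < Nat.card D := Nat.card_pos
    have h6 : Nat.card D * D.index ≤ Nat.card D * (a * T.index) := by
      calc Nat.card D * D.index = Nat.card T * T.index := by rw [h1, h2]
        _ ≤ c₀ * (Nat.card T * T.index) := Nat.le_mul_of_pos_left _ hc₀pos
        _ = (c₀ * Nat.card T) * T.index := by ring
        _ = (a * Nat.card D) * T.index := by rw [hrel']
        _ = Nat.card D * (a * T.index) := by ring
    exact Nat.le_of_mul_le_mul_left h6 hcD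
  calc Y.index ≤ D.index := h4
    _ ≤ a * T.index := h5
    _ ≤ e' * T.index := Nat.mul_le_mul_right _ (hee' ▸ hge)
    _ ≤ e' * (T.index * d) := Nat.mul_le_mul_left _ (Nat.le_mul_of_pos_right _ hd0)
    _ = c := hcl.symm

/-- If all non-linear irreducible characters vanish off a normal subgroup `Y` of `p`-power index
and have degree divisible by `p` and smaller than the index of `Y`, then all irreducible degrees
are powers of `p`. -/
theorem ppower_degrees_of_vanish (p k : ℕ) (hp : p.Prime) (Y : Subgroup X) [hY : Y.Normal]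
    (hidx : Y.index = p ^ k)
    (hall : ∀ ψ : X → ℂ, IsIrrCharacter X ψ → ψ 1 ≠ 1 →
      (∀ x : X, x ∉ Y → ψ x = 0) ∧ ∃ e : ℕ, ψ 1 = e ∧ p ∣ e ∧ e < p ^ k) :
    ∀ ψ : X → ℂ, IsIrrCharacter X ψ → ∀ e : ℕ, ψ 1 = e → ∃ i, e = p ^ i := by
  classical
  haveI : Fintype X := Fintype.ofFinite X
  -- Thompson
  have hdeg : ∀ χ : IrrCharacter X, charDegree (χ : X → ℂ) ≠ 1 →
      p ∣ charDegree (χ : X → ℂ) := by
    intro χ hχ1
    obtain ⟨h1, -⟩ := irr_apply_one_eq_charDegree χ.2
    have h2 : (χ : X → ℂ) 1 ≠ 1 := by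
      intro h
      apply hχ1
      rw [h1] at h
      exact_mod_cast h
    obtain ⟨-, e, he, hpe, -⟩ := hall χ χ.2 h2
    have : charDegree (χ : X → ℂ) = e := by
      have : ((charDegree (χ : X → ℂ) : ℕ) : ℂ) = (e : ℂ) := by rw [← h1, he]
      exact_mod_cast this
    rw [this]; exact hpe
  obtain ⟨Q, hQn, hQcop, j, hQidx⟩ := Cfsg.Agent.S4456.result (G := X) p hp hdeg
  haveI := hQn
  -- Q ≤ Y
  have hQY : Q ≤ Y := by
    intro x hx
    rw [← QuotientGroup.eq_one_iff]
    have h1 : (x : X ⧸ Y) ^ (p ^ k) = 1 := by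
      rw [← hidx, Subgroup.index_eq_card]
      exact pow_card_eq_one'
    have h2 : (x : X ⧸ Y) ^ Nat.card Q = 1 := by
      have h3 : (⟨x, hx⟩ : Q) ^ Nat.card Q = 1 := pow_card_eq_one'
      have h4 : x ^ Nat.card Q = 1 := by
        have h3' := congrArg (fun q : Q => (q : X)) h3
        simp only [Subgroup.coe_pow, Subgroup.coe_one] at h3'
        exact h3'
      rw [← QuotientGroup.mk_pow, h4, QuotientGroup.mk_one]
    have h5 : orderOf (x : X ⧸ Y) ∣ Nat.gcd (Nat.card Q) (p ^ k) :=
      Nat.dvd_gcd (orderOf_dvd_of_pow_eq_one h2) (orderOf_dvd_of_pow_eq_one h1)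
    have h6 : Nat.gcd (Nat.card Q) (p ^ k) = 1 := Nat.Coprime.pow_right k hQcop
    rw [h6, Nat.dvd_one, orderOf_eq_one_iff] at h5
    exact h5
  -- every irreducible character of Q is linear
  have hlin : ∀ θ : Q → ℂ, IsIrrCharacter Q θ → θ 1 = 1 := by
    intro θ hθ
    set T : Subgroup X := inertia Q θ with hT
    have hQT : Q ≤ T := le_inertia Q (isClassFunction_irr hθ)
    have hnormQ : ∀ t : X, Normalizes t Q := by
      intro t g
      constructor
      · intro hg
        exact hQn.conj_mem g hg t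
      · intro hg
        have := hQn.conj_mem _ hg t⁻¹
        simpa [mul_assoc] using this
    have hinv : InvS T Q θ := by
      intro s hs g g' hgg
      rw [hT, mem_inertia] at hs
      have := congrFun hs g
      rw [← this]
      show θ g' = θ ⟨s * g * s⁻¹, _⟩
      congr 1
      exact Subtype.ext hgg
    have hcop : (Q.relIndex T).Coprime (Nat.card Q) := by
      have h1 : Q.relIndex T ∣ p ^ j := by
        rw [← hQidx]
        exact Subgroup.relIndex_dvd_index_of_normal Q T
      obtain ⟨i, -, hi⟩ := (Nat.dvd_prime_pow hp).1 h1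
      rw [hi]
      exact (Nat.Coprime.pow_right i hQcop).symm
    obtain ⟨η, hη, hres, -⟩ := exists_inv_extension (P := ⊥) hQT (fun t _ => hnormQ t) hθ hinv
      hcop (fun x _ => hnormQ x) (fun x hx => by
        rw [Subgroup.mem_bot] at hx
        rw [hx]
        exact Normalizes.one T) (by
        intro s hs g g' hgg
        rw [Subgroup.mem_bot] at hs
        rw [hs] at hgg
        have : g' = g := Subtype.ext (by simpa using hgg)
        rw [this])
    obtain ⟨ψ, hψ, hover⟩ := exists_irr_over' T hη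
    have hψ1 : ψ 1 = 1 := by
      by_contra hne
      obtain ⟨hvan, e, he, -, helt⟩ := hall ψ hψ hne
      have := degree_ge_of_vanish Y Q T hQT hQY hθ hT hη hres hψ hover hvan e he
      rw [hidx] at this
      omega
    obtain ⟨φ, hφ⟩ := exists_hom_of_isIrrCharacter hψ hψ1
    have hψT : IsIrrCharacter T (fun t : T => ψ t) := by
      have := isIrrCharacter_of_hom (φ.comp T.subtype)
      rw [hφ]
      exact this
    have heq : (fun t : T => ψ t) = η := by
      by_contra hne
      exact hover (classInner_irr_ne hψT hη hne)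
    have h1 : η 1 = 1 := by
      rw [← heq]
      exact hψ1
    rw [← hres]
    exact h1
  have hQab : ∀ a ∈ Q, ∀ b ∈ Q, a * b = b * a := by
    have hc := comm_of_all_linear hlin
    intro a ha b hb
    exact congrArg Subtype.val (hc ⟨a, ha⟩ ⟨b, hb⟩)
  intro ψ hψ e he
  have h1 := ito_dvd Q hQab hψ e he
  rw [hQidx] at h1
  obtain ⟨i, -, hi⟩ := (Nat.dvd_prime_pow hp).1 h1
  exact ⟨i, hi⟩

end Cfsg.Agent.Lib.Helper8.DH
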