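import Mathlib
import Cfsg.Agent.Lib.Helper8.DH7

set_option autoImplicit false

/-! The Frobenius-type case with `|G : N|` equal to the larger degree. -/

namespace Cfsg.Agent.Lib.Helper8.DH

open Cfsg Cfsg.Agent.Lib.Helper1 Cfsg.Agent.Lib.Helper4 Cfsg.Agent.Lib.Helper4.TD
open Cfsg.Agent.S0193 Cfsg.Agent.S0194 Cfsg.Agent.Lib.Helper8.RDG Cfsg.Agent.Lib.Helper8.RV
open Cfsg.Agent.Lib.Helper8
open scoped ComplexConjugate

universe u

variable {G : Type u} [Group G] [Finite G]

/-- An irreducible character of a normal subgroup with inertia group `N` induces irreducibly. -/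
theorem induced_irr_of_inertia (N : Subgroup G) [hN : N.Normal] {ψ : N → ℂ}
    (hψ : IsIrrCharacter N ψ) (e : ℕ) (he : ψ 1 = e)
    (hin : ∀ g : G, S0193.conjFun N ψ g = ψ → g ∈ N) :
    ∃ χ : G → ℂ, IsIrrCharacter G χ ∧ χ 1 = ((N.index * e : ℕ) : ℂ) := by
  classical
  haveI : Fintype G := Fintype.ofFinite G
  haveI : Fintype N := Fintype.ofFinite N
  have hind : IsCharacter G (indFun N ψ) :=
    Cfsg.Agent.S0148.result N ψ (isCharacter_of_irr hψ)
  have hN0 : (Nat.card N : ℂ) ≠ 0 := Nat.cast_ne_zero.2 Nat.card_pos.ne'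
  have hnorm : classInner (indFun N ψ) (indFun N ψ) = 1 := by
    have h1 := Cfsg.Agent.S0193.result N ψ hψ
    have h3 : Nat.card {g : G // ∀ h : N, ψ ⟨g * h * g⁻¹, hN.conj_mem h h.2 g⟩ = ψ h}
        = Nat.card N := by
      apply Nat.card_congr
      refine Equiv.subtypeEquivRight ?_
      intro g
      constructor
      · intro h
        apply hin g
        funext x
        exact h x
      · intro hg x
        exact isClassFunction_irr hψ x ⟨g, hg⟩
    rw [h3] at h1
    exact mul_left_cancel₀ hN0 (by rw [h1, mul_one])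
  have hirr := isIrrCharacter_of_norm_one hind hnorm
  refine ⟨_, hirr, ?_⟩
  rw [Cfsg.Agent.S0170.indFun_one, he, ← Subgroup.card_mul_index N]
  push_cast
  field_simp

variable {N K : Subgroup G} {p : ℕ} [hN : N.Normal]

/-- The case `|G : N| = n`. -/
theorem caseB1 (h : Frob N K p) (m n : ℕ) (h3 : H3 G m n) (hm1 : 1 < m) (hmn : m < n)
    (hidx : N.index = n) : derivedSeries G 3 = ⊥ := by
  classical
  haveI : Fintype G := Fintype.ofFinite G
  haveI : Fintype N := Fintype.ofFinite N
  have hK := h.hKn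
  have hp := h.hp
  obtain ⟨k, hk⟩ := h.hrel
  set Y : Subgroup N := K.subgroupOf N with hY
  haveI hYn : Y.Normal := Subgroup.normal_subgroupOf
  have hYidx : Y.index = p ^ k := hk
  have hpn : ¬ p ∣ n := hidx ▸ h.not_dvd_index
  have hnpk : n < p ^ k := by
    have := h.index_lt
    rw [hidx, hk] at this
    exact this
  -- the degree above a non-linear character of N
  have hdegN : ∀ ψ : N → ℂ, IsIrrCharacter N ψ → ∀ e : ℕ, ψ 1 = e → e ≠ 1 →
      p ∣ e ∧ e ∣ m ∧ (m / e) ∣ n := by
    intro ψ hψ e he he1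
    have hpe : p ∣ e := by
      by_contra hpe
      obtain ⟨χ, hχ, hχ1⟩ := h.exists_mul hψ e he hpe
      rw [hidx] at hχ1
      have he0 : 0 < e := by
        obtain ⟨e', he', he'0, -⟩ := irr_degree hψ
        have : (e : ℂ) = (e' : ℂ) := by rw [← he, he']
        have : e = e' := by exact_mod_cast this
        omega
      rcases h3.nat hχ hχ1 with h' | h' | h'
      · have := Nat.eq_one_of_mul_eq_one_left h'
        exact he1 this
      · have : n ≤ n * e := Nat.le_mul_of_pos_right n he0
        omega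
      · have : n * e = n * 1 := by rw [h', mul_one]
        exact he1 (Nat.eq_of_mul_eq_mul_left (by omega) this)
    obtain ⟨χ, hχ, hover⟩ := Cfsg.Agent.Lib.Helper2.CliffordDeg.exists_irr_over N hψ
    obtain ⟨c, hc, -, -⟩ := irr_degree hχ
    obtain ⟨h1, h2⟩ := Cfsg.Agent.S0887.result N χ hχ ψ hψ hover c e hc he
    rw [hidx] at h2
    rcases h3.nat hχ hc with h' | h' | h'
    · rw [h'] at h1
      exact absurd (Nat.dvd_one.1 h1) he1
    · rw [h'] at h1 h2
      exact ⟨hpe, h1, h2⟩
    · rw [h'] at h1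
      exact absurd (hpe.trans h1) hpn
  have hall : ∀ ψ : N → ℂ, IsIrrCharacter N ψ → ψ 1 ≠ 1 →
      (∀ x : N, x ∉ Y → ψ x = 0) ∧ ∃ e : ℕ, ψ 1 = e ∧ p ∣ e ∧ e < p ^ k := by
    intro ψ hψ hψ1
    obtain ⟨e, he, he0, -⟩ := irr_degree hψ
    have he1 : e ≠ 1 := by
      intro h'
      apply hψ1
      rw [he, h', Nat.cast_one]
    obtain ⟨hpe, hem, -⟩ := hdegN ψ hψ e he he1
    refine ⟨?_, e, he, hpe, ?_⟩
    · have hfix : ∀ μ : N →* ℂˣ, (∀ x : N, (x : G) ∈ K → μ x = 1) →
          ∃ g, g ∉ N ∧ S0193.conjFun N (mulF N ψ μ) g = mulF N ψ μ := by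
        intro μ _
        by_contra hcon
        push Not at hcon
        have hin : ∀ g : G, S0193.conjFun N (mulF N ψ μ) g = mulF N ψ μ → g ∈ N := by
          intro g hg
          by_contra hgN
          exact hcon g hgN hg
        have hirr : IsIrrCharacter N (mulF N ψ μ) := isIrr_mulF N hψ μ
        have h1 : mulF N ψ μ 1 = e := by
          rw [mulF_apply, map_one, Units.val_one, mul_one, he]
        obtain ⟨χ, hχ, hχ1⟩ := induced_irr_of_inertia N hirr e h1 hin
        rw [hidx] at hχ1
        rcases h3.nat hχ hχ1 with h' | h' | h'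
        · exact he1 (Nat.eq_one_of_mul_eq_one_left h')
        · have : n ≤ n * e := Nat.le_mul_of_pos_right n he0
          omega
        · have : n * e = n * 1 := by rw [h', mul_one]
          exact he1 (Nat.eq_of_mul_eq_mul_left (by omega) this)
      have hv := h.vanish_of_twists_fixed ψ hψ hfix
      intro x hx
      apply hv x
      intro hxK
      exact hx (Subgroup.mem_subgroupOf.2 hxK)
    · have : e ≤ m := Nat.le_of_dvd (by omega) hem
      omega
  have hpow := ppower_degrees_of_vanish p k hp Y hYidx hall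
  -- two degrees for N
  have h2N : H2 N (ordProj[p] m) := by
    intro ψ hψ
    obtain ⟨e, he, he0, -⟩ := irr_degree hψ
    by_cases he1 : e = 1
    · left; rw [he, he1, Nat.cast_one]
    · right
      obtain ⟨hpe, hem, hmen⟩ := hdegN ψ hψ e he he1
      obtain ⟨i, hi⟩ := hpow ψ hψ e he
      have hr : ¬ p ∣ m / e := fun h' => hpn (h'.trans hmen)
      have hm : m = p ^ i * (m / e) := by
        rw [← hi]
        exact (Nat.mul_div_cancel' hem).symm
      have h1 : ordCompl[p] m = m / e := by
        conv_lhs => rw [hm]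
        exact Nat.ordCompl_pow_mul_of_not_dvd i hp hr
      have h2 := Nat.ordProj_mul_ordCompl_eq_self m p
      rw [h1] at h2
      have h4 : 0 < m / e := Nat.div_pos (Nat.le_of_dvd (by omega) hem) he0
      have h5 : ordProj[p] m * (m / e) = e * (m / e) := by
        rw [h2]
        exact (Nat.mul_div_cancel' hem).symm
      have h6 := Nat.eq_of_mul_eq_mul_right h4 h5
      rw [he, h6]
  exact derived_three_of_le N h.hcomm (metabelian_of_H2 _ h2N)

end Cfsg.Agent.Lib.Helper8.DH
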