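import Mathlib
import Cfsg.Agent.Lib.Helper8.DH8

set_option autoImplicit false

/-! The Frobenius-type case with `|G : N|` equal to the smaller degree: degree analysis. -/

namespace Cfsg.Agent.Lib.Helper8.DH

open Cfsg Cfsg.Agent.Lib.Helper1 Cfsg.Agent.Lib.Helper4 Cfsg.Agent.Lib.Helper4.TD
open Cfsg.Agent.S0193 Cfsg.Agent.S0194 Cfsg.Agent.Lib.Helper8.RDG Cfsg.Agent.Lib.Helper8.RV
open Cfsg.Agent.Lib.Helper8
open scoped ComplexConjugate

universe u

variable {G : Type u} [Group G] [Finite G] {N K : Subgroup G} {p : ℕ} [hN : N.Normal]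

/-- Degree analysis when `|G : N| = m`. -/
theorem Frob.degrees_of_index_eq_m (h : Frob N K p) (m n : ℕ) (h3 : H3 G m n) (hm1 : 1 < m)
    (hidx : N.index = m) :
    H2 N (n / m) ∨
    (p ∣ n ∧ ∀ ψ : N → ℂ, IsIrrCharacter N ψ → ∀ e : ℕ, ψ 1 = e → e ≠ 1 →
      p ∣ e ∧ e ∣ n ∧ (n / e) ∣ m) := by
  classical
  haveI : Fintype G := Fintype.ofFinite G
  haveI : Fintype N := Fintype.ofFinite N
  have hp := h.hp
  have hpm : ¬ p ∣ m := hidx ▸ h.not_dvd_index
  by_cases hall : ∀ ψ : N → ℂ, IsIrrCharacter N ψ → ∀ e : ℕ, ψ 1 = e →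
      ∃ χ : G → ℂ, IsIrrCharacter G χ ∧ χ 1 = ((m * e : ℕ) : ℂ)
  · left
    intro ψ hψ
    obtain ⟨e, he, he0, -⟩ := irr_degree hψ
    obtain ⟨χ, hχ, hχ1⟩ := hall ψ hψ e he
    rcases h3.nat hχ hχ1 with h' | h' | h'
    · left
      have := Nat.eq_one_of_mul_eq_one_left h'
      rw [he, this, Nat.cast_one]
    · left
      have h1 : m * e = m * 1 := by rw [h', mul_one]
      have := Nat.eq_of_mul_eq_mul_left (by omega) h1
      rw [he, this, Nat.cast_one]
    · right
      rw [he, ← h', Nat.mul_div_cancel_left e (by omega)]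
  · right
    push Not at hall
    obtain ⟨ψ₀, hψ₀, e₀, he₀, hno⟩ := hall
    have hpe₀ : p ∣ e₀ := by
      by_contra hpe
      obtain ⟨χ, hχ, hχ1⟩ := h.exists_mul hψ₀ e₀ he₀ hpe
      rw [hidx] at hχ1
      exact hno χ hχ hχ1
    have hpn : p ∣ n := by
      obtain ⟨χ, hχ, hover⟩ := Cfsg.Agent.Lib.Helper2.CliffordDeg.exists_irr_over N hψ₀
      obtain ⟨c, hc, -, -⟩ := irr_degree hχ
      obtain ⟨h1, -⟩ := Cfsg.Agent.S0887.result N χ hχ ψ₀ hψ₀ hover c e₀ hc he₀
      have hpc : p ∣ c := hpe₀.trans h1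
      rcases h3.nat hχ hc with h' | h' | h'
      · rw [h'] at hpc
        exact absurd (Nat.dvd_one.1 hpc) hp.one_lt.ne'
      · rw [h'] at hpc
        exact absurd hpc hpm
      · rw [h'] at hpc
        exact hpc
    refine ⟨hpn, ?_⟩
    intro ψ hψ e he he1
    have he0 : 0 < e := by
      obtain ⟨e', he', he'0, -⟩ := irr_degree hψ
      have : (e : ℂ) = (e' : ℂ) := by rw [← he, he']
      have : e = e' := by exact_mod_cast this
      omega
    have hpe : p ∣ e := by
      by_contra hpe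
      obtain ⟨χ, hχ, hχ1⟩ := h.exists_mul hψ e he hpe
      rw [hidx] at hχ1
      rcases h3.nat hχ hχ1 with h' | h' | h'
      · exact he1 (Nat.eq_one_of_mul_eq_one_left h')
      · have h1 : m * e = m * 1 := by rw [h', mul_one]
        exact he1 (Nat.eq_of_mul_eq_mul_left (by omega) h1)
      · rw [← h'] at hpn
        rcases (Nat.Prime.dvd_mul hp).1 hpn with h'' | h''
        · exact hpm h''
        · exact hpe h''
    obtain ⟨χ, hχ, hover⟩ := Cfsg.Agent.Lib.Helper2.CliffordDeg.exists_irr_over N hψ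
    obtain ⟨c, hc, -, -⟩ := irr_degree hχ
    obtain ⟨h1, h2⟩ := Cfsg.Agent.S0887.result N χ hχ ψ hψ hover c e hc he
    rw [hidx] at h2
    have hpc : p ∣ c := hpe.trans h1
    rcases h3.nat hχ hc with h' | h' | h'
    · rw [h'] at hpc
      exact absurd (Nat.dvd_one.1 hpc) hp.one_lt.ne'
    · rw [h'] at hpc
      exact absurd hpc hpm
    · rw [h'] at h1 h2
      exact ⟨hpe, h1, h2⟩

/-- If all non-linear irreducible characters of the normal subgroup `N` have degree divisible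
by `p`, then an irreducible character of `G` of degree prime to `p` is trivial on `N'`. -/
theorem apply_commutator_of_not_dvd (p : ℕ) (N : Subgroup G) [hN : N.Normal]
    (hnl : ∀ ψ : N → ℂ, IsIrrCharacter N ψ → ∀ e : ℕ, ψ 1 = e → e ≠ 1 → p ∣ e)
    {χ : G → ℂ} (hχ : IsIrrCharacter G χ) (c : ℕ) (hc : χ 1 = c) (hpc : ¬ p ∣ c)
    (y : N) (hy : y ∈ commutator N) : χ y = χ 1 := by
  classical
  haveI : Fintype G := Fintype.ofFinite G
  haveI : Fintype N := Fintype.ofFinite N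
  have hres : IsCharacter N (fun n : N => χ n) :=
    Cfsg.Agent.S0148.isCharacter_restrict N (isCharacter_of_irr hχ)
  have h1 : (fun n : N => χ n) 1 ≠ 0 := by
    show χ ((1 : N) : G) ≠ 0
    rw [Subgroup.coe_one]
    exact irr_apply_one_ne_zero hχ
  obtain ⟨ψ, hψ, k, hk0, hk⟩ := exists_constituent hres h1
  have hover : classInner (fun n : N => χ n) ψ ≠ 0 := by
    rw [hk]
    exact Nat.cast_ne_zero.2 hk0.ne'
  obtain ⟨e, he, he0, -⟩ := irr_degree hψ
  obtain ⟨h2, -⟩ := Cfsg.Agent.S0887.result N χ hχ ψ hψ hover c e hc he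
  have he1 : e = 1 := by
    by_contra hne
    exact hpc ((hnl ψ hψ e he hne).trans h2)
  have hsum := clifford_sum N hχ hψ hover
  have hval : ∀ ψ' ∈ orbitFinset N ψ, ψ' y = ψ' 1 := by
    intro ψ' hψ'
    obtain ⟨g, rfl⟩ := (mem_orbitFinset N).1 hψ'
    have hirr : IsIrrCharacter N (S0193.conjFun N ψ g) := conjFun_irr N ψ hψ g
    have h11 : S0193.conjFun N ψ g 1 = 1 := by
      rw [conjFun_apply_one, he, he1, Nat.cast_one]
    rw [linear_commutator hirr h11 y hy, h11]
  have e1 := congrFun hsum y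
  have e2 := congrFun hsum 1
  simp only [Pi.smul_apply, Finset.sum_apply, smul_eq_mul] at e1 e2
  have e3 : χ ((1 : N) : G) = χ 1 := by rw [Subgroup.coe_one]
  rw [← e3, e1, e2]
  congr 1
  exact Finset.sum_congr rfl hval

end Cfsg.Agent.Lib.Helper8.DH
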