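import Mathlib
import Cfsg.Agent.Lib.Helper8.DH9
import Cfsg.Agent.Lib.Lead.Core

set_option autoImplicit false
set_option linter.unusedSectionVars false
set_option linter.unusedVariables false

/-! Normal Hall subgroups, the Fitting subgroup of a minimal counterexample, and their position
relative to the Frobenius-type configuration. -/

namespace Cfsg.Agent.Lib.Helper8.DH

open Cfsg Cfsg.Agent.Lib.Helper1 Cfsg.Agent.Lib.Helper4 Cfsg.Agent.Lib.Helper4.TD
open Cfsg.Agent.Lib.Lead

universe u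

section Hall

variable {X : Type u} [Group X] [Finite X]

/-- An element of a group whose order is prime to the index of a normal subgroup lies in it. -/
theorem mem_of_coprime_orderOf (Q : Subgroup X) [Q.Normal] (x : X) (a : ℕ) (hxa : x ^ a = 1)
    (hcop : Nat.Coprime a Q.index) : x ∈ Q := by
  rw [← QuotientGroup.eq_one_iff]
  have h1 : (x : X ⧸ Q) ^ Q.index = 1 := by
    rw [Subgroup.index_eq_card]
    exact pow_card_eq_one'
  have h2 : (x : X ⧸ Q) ^ a = 1 := by
    rw [← QuotientGroup.mk_pow, hxa, QuotientGroup.mk_one]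
  have h5 : orderOf (x : X ⧸ Q) ∣ Nat.gcd a Q.index :=
    Nat.dvd_gcd (orderOf_dvd_of_pow_eq_one h2) (orderOf_dvd_of_pow_eq_one h1)
  rw [hcop, Nat.dvd_one, orderOf_eq_one_iff] at h5
  exact h5

/-- A normal Hall subgroup is characteristic. -/
theorem characteristic_of_normal_hall (Q : Subgroup X) [Q.Normal]
    (hcop : Nat.Coprime (Nat.card Q) Q.index) : Q.Characteristic := by
  rw [Subgroup.characteristic_iff_map_le]
  intro φ
  rintro _ ⟨x, hx, rfl⟩
  apply mem_of_coprime_orderOf Q _ (Nat.card Q) _ hcop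
  have h3 : (⟨x, hx⟩ : Q) ^ Nat.card Q = 1 := pow_card_eq_one'
  have h4 : x ^ Nat.card Q = 1 := by
    have h3' := congrArg (fun q : Q => (q : X)) h3
    simp only [Subgroup.coe_pow, Subgroup.coe_one] at h3'
    exact h3'
  show φ x ^ Nat.card Q = 1
  rw [← map_pow, h4, map_one]

end Hall

variable {G : Type u} [Group G] [Finite G]

/-- The image in `G` of a normal Hall subgroup of a normal subgroup is normal. -/
theorem normal_map_of_hall (N : Subgroup G) [hN : N.Normal] (Q₀ : Subgroup N) [Q₀.Normal]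
    (hcop : Nat.Coprime (Nat.card Q₀) Q₀.index) : (Q₀.map N.subtype).Normal := by
  haveI := characteristic_of_normal_hall Q₀ hcop
  exact ConjAct.normal_of_characteristic_of_normal

/-- Derived series of `G` inside a subgroup containing `G'`. -/
theorem derivedSeries_succ_le_map (N : Subgroup G) (hN : commutator G ≤ N) (k : ℕ) :
    derivedSeries G (k + 1) ≤ (derivedSeries N k).map N.subtype := by
  induction k with
  | zero =>
    rw [derivedSeries_one, derivedSeries_zero, ← MonoidHom.range_eq_map, Subgroup.range_subtype]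
    exact hN
  | succ k ih =>
    rw [derivedSeries_succ, derivedSeries_succ (G := N), Subgroup.map_commutator]
    exact Subgroup.commutator_mono ih ih

/-- If `G' ≤ N` and `N / Q₀` is metabelian then `G''' ≤ Q₀`. -/
theorem derived_three_le_of_quotient_metabelian (N : Subgroup G) (hN : commutator G ≤ N)
    (Q₀ : Subgroup N) [Q₀.Normal]
    (hmet : ∀ a ∈ commutator (N ⧸ Q₀), ∀ b ∈ commutator (N ⧸ Q₀), a * b = b * a) :
    derivedSeries G 3 ≤ Q₀.map N.subtype := by
  have h2 : derivedSeries (N ⧸ Q₀) 2 = ⊥ := by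
    rw [derivedSeries_succ, derivedSeries_one]
    exact commutator_subgroup_eq_bot_of_comm _ hmet
  have h3 : derivedSeries N 2 ≤ Q₀ := derived_le_of_quotient Q₀ 2 h2
  exact (derivedSeries_succ_le_map N hN 2).trans (Subgroup.map_mono h3)

/-- In a minimal counterexample the Fitting subgroup is an `r`-group. -/
theorem fitting_isPGroup (V : Subgroup G) (hV : V ≠ ⊥)
    (hmin : ∀ L : Subgroup G, L.Normal → L ≠ ⊥ → V ≤ L) (r : ℕ) (hr : r.Prime)
    (hrV : r ∣ Nat.card V) : IsPGroup r (Cfsg.fittingSubgroup G) := by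
  haveI : Fact r.Prime := ⟨hr⟩
  have hle : Cfsg.fittingSubgroup G ≤ Cfsg.pCore r G := by
    rw [fittingSubgroup_eq_iSup_pCore]
    apply iSup_le
    intro s
    by_cases hsr : (s : ℕ) = r
    · rw [hsr]
    · have hbot : Cfsg.pCore (s : ℕ) G = ⊥ := by
        by_contra hne
        have h1 := hmin _ (Cfsg.Agent.Lib.Lead.pCore_normal (G := G) (s : ℕ)) hne
        have h2 : IsPGroup (s : ℕ) V := (pCore_isPGroup (G := G) (s : ℕ)).to_le h1
        haveI : Fact (s : ℕ).Prime := ⟨s.2⟩
        obtain ⟨i, hi⟩ := IsPGroup.iff_card.1 h2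
        rw [hi] at hrV
        have := (Nat.prime_dvd_prime_iff_eq hr s.2).1 (hr.dvd_of_dvd_pow hrV)
        exact hsr this.symm
      rw [hbot]
      exact bot_le
  exact (pCore_isPGroup (G := G) r).to_le hle

variable {N K : Subgroup G} {p : ℕ}

/-- A normal `r`-subgroup with `r ≠ p` lies in `K`. -/
theorem Frob.le_of_pgroup_normal (h : Frob N K p) (F : Subgroup G) [hF : F.Normal] (r : ℕ)
    (hr : r.Prime) (hrp : r ≠ p) (hFr : IsPGroup r F) : F ≤ K := by
  have hN := h.hNn
  have hK := h.hKn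
  obtain ⟨k, hk⟩ := h.hrel
  haveI hYn : (K.subgroupOf N).Normal := Subgroup.normal_subgroupOf
  -- F ⊓ N ≤ K
  have h1 : ∀ x ∈ F, x ∈ N → x ∈ K := by
    intro x hxF hxN
    obtain ⟨i, hi⟩ := hFr ⟨x, hxF⟩
    have hi' : x ^ r ^ i = 1 := by
      have := congrArg (fun q : F => (q : G)) hi
      simp only [Subgroup.coe_pow, Subgroup.coe_one] at this
      exact this
    have h2 : (⟨x, hxN⟩ : N) ∈ K.subgroupOf N := by
      apply mem_of_coprime_orderOf (K.subgroupOf N) _ (r ^ i)
      · apply Subtype.ext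
        simp only [Subgroup.coe_pow, Subgroup.coe_one]
        exact hi'
      · have : (K.subgroupOf N).index = p ^ k := hk
        rw [this]
        apply Nat.Coprime.pow
        exact (Nat.coprime_primes hr h.hp).2 hrp
    exact Subgroup.mem_subgroupOf.1 h2
  -- F ≤ N
  have h2 : F ≤ N := by
    intro g hg
    by_contra hgN
    obtain ⟨n₁, hn₁N, hn₁K⟩ := h.exists_mem_not_mem
    apply hn₁K
    apply h.hfpf g hgN n₁ hn₁N
    apply h1
    · have h3 : n₁ * g⁻¹ * n₁⁻¹ ∈ F := hF.conj_mem _ (F.inv_mem hg) n₁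
      have h4 : g * n₁ * g⁻¹ * n₁⁻¹ = g * (n₁ * g⁻¹ * n₁⁻¹) := by group
      rw [h4]
      exact F.mul_mem hg h3
    · exact N.mul_mem (hN.conj_mem _ hn₁N g) (N.inv_mem hn₁N)
  intro x hx
  exact h1 x hx (h2 hx)

/-- A normal `r`-subgroup of `G` inside `N`, with `r ≠ p`, lies in the normal `p`-complement. -/
theorem le_map_of_pgroup (N : Subgroup G) (Q₀ : Subgroup N) [Q₀.Normal] (p j : ℕ) (hp : p.Prime)
    (hidx : Q₀.index = p ^ j) (F : Subgroup G) (hFN : F ≤ N) (r : ℕ) (hr : r.Prime)
    (hrp : r ≠ p) (hFr : IsPGroup r F) : F ≤ Q₀.map N.subtype := by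
  intro x hx
  obtain ⟨i, hi⟩ := hFr ⟨x, hx⟩
  have hi' : x ^ r ^ i = 1 := by
    have := congrArg (fun q : F => (q : G)) hi
    simp only [Subgroup.coe_pow, Subgroup.coe_one] at this
    exact this
  refine ⟨⟨x, hFN hx⟩, ?_, rfl⟩
  apply mem_of_coprime_orderOf Q₀ _ (r ^ i)
  · apply Subtype.ext
    simp only [Subgroup.coe_pow, Subgroup.coe_one]
    exact hi'
  · rw [hidx]
    apply Nat.Coprime.pow
    exact (Nat.coprime_primes hr hp).2 hrp

end Cfsg.Agent.Lib.Helper8.DH
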