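import Mathlib
import Cfsg.Agent.Lib.Helper8.DH10
import Cfsg.Agent.Lib.Helper4.TD19

set_option autoImplicit false
set_option linter.unusedSectionVars false
set_option linter.unusedVariables false

/-! In the Frobenius-type case with `|G : N| = m` and Fitting subgroup inside `K`, the quotient
`N / F(G)` is abelian. -/

namespace Cfsg.Agent.Lib.Helper8.DH

open Cfsg Cfsg.Agent.Lib.Helper1 Cfsg.Agent.Lib.Helper4 Cfsg.Agent.Lib.Helper4.TD
open Cfsg.Agent.Lib.Lead

universe u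

variable {G : Type u} [Group G] [Finite G] {N K : Subgroup G} {p : ℕ}

/-- The quotient `G / K` is not nilpotent. -/
theorem Frob.not_nilpotent (h : Frob N K p) [hK : K.Normal] :
    ¬ Group.IsNilpotent (G ⧸ K) := by
  intro hnil
  obtain ⟨n₁, hn₁N, hn₁K⟩ := h.exists_mem_not_mem
  haveI : Nontrivial (G ⧸ K) := by
    refine ⟨(n₁ : G ⧸ K), 1, ?_⟩
    intro h1
    exact hn₁K ((QuotientGroup.eq_one_iff n₁).1 h1)
  have hc := Group.IsNilpotent.center_ne_bot (G := G ⧸ K)
  obtain ⟨⟨z, hz⟩, hz1⟩ := (Subgroup.ne_bot_iff_exists_ne_one).1 hc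
  obtain ⟨x, rfl⟩ := QuotientGroup.mk_surjective z
  have hx1 : x ∉ K := by
    intro hxK
    apply hz1
    apply Subtype.ext
    exact (QuotientGroup.eq_one_iff x).2 hxK
  rw [Subgroup.mem_center_iff] at hz
  have hcomm : ∀ g : G, g * x * g⁻¹ * x⁻¹ ∈ K := by
    intro g
    rw [← QuotientGroup.eq_one_iff]
    simp only [QuotientGroup.mk_mul, QuotientGroup.mk_inv]
    rw [hz (g : G ⧸ K)]
    group
  by_cases hxN : x ∈ N
  · obtain ⟨g, hg⟩ : ∃ g : G, g ∉ N := by
      by_contra hcon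
      push Not at hcon
      exact h.hNtop (eq_top_iff.2 fun g _ => hcon g)
    exact hx1 (h.hfpf g hg x hxN (hcomm g))
  · apply hn₁K
    apply h.hfpf x hxN n₁ hn₁N
    have h1 := hcomm n₁
    have h2 : x * n₁ * x⁻¹ * n₁⁻¹ = (n₁ * x * n₁⁻¹ * x⁻¹)⁻¹ := by group
    rw [h2]
    exact K.inv_mem h1

/-- `G / K` has a non-linear irreducible character whose degree divides `|G : N|`. -/
theorem Frob.exists_degree_quotient (h : Frob N K p) [hK : K.Normal] :
    ∃ χ : G ⧸ K → ℂ, Cfsg.IsIrrCharacter (G ⧸ K) χ ∧ ∃ d : ℕ, χ 1 = d ∧ d ≠ 1 ∧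
      d ∣ N.index := by
  have hN := h.hNn
  obtain ⟨n₁, hn₁N, hn₁K⟩ := h.exists_mem_not_mem
  have hnab : ¬ ∀ a b : G ⧸ K, a * b = b * a := by
    intro hab
    obtain ⟨g, hg⟩ : ∃ g : G, g ∉ N := by
      by_contra hcon
      push Not at hcon
      exact h.hNtop (eq_top_iff.2 fun g _ => hcon g)
    apply hn₁K
    apply h.hfpf g hg n₁ hn₁N
    rw [← QuotientGroup.eq_one_iff]
    simp only [QuotientGroup.mk_mul, QuotientGroup.mk_inv]
    rw [hab (g : G ⧸ K) (n₁ : G ⧸ K)]
    group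
  obtain ⟨χ, hχ, hχ1⟩ := exists_nonlinear hnab
  obtain ⟨d, hd, hd0, -⟩ := irr_degree hχ
  refine ⟨χ, hχ, d, hd, ?_, ?_⟩
  · intro h1
    apply hχ1
    rw [hd, h1, Nat.cast_one]
  · set A : Subgroup (G ⧸ K) := N.map (QuotientGroup.mk' K) with hA
    haveI hAn : A.Normal := hN.map _ (QuotientGroup.mk'_surjective K)
    have hAab : ∀ a ∈ A, ∀ b ∈ A, a * b = b * a := by
      rintro _ ⟨a, ha, rfl⟩ _ ⟨b, hb, rfl⟩
      rw [← map_mul, ← map_mul]
      have h1 : a * b * a⁻¹ * b⁻¹ ∈ K := h.hab a ha b hb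
      have h2 : (QuotientGroup.mk' K) (a * b * a⁻¹ * b⁻¹) = 1 := (QuotientGroup.eq_one_iff _).2 h1
      have h3 : a * b = (a * b * a⁻¹ * b⁻¹) * (b * a) := by group
      rw [h3, map_mul, h2, one_mul]
    exact (ito_dvd A hAab hχ d hd).trans
      (Subgroup.index_map_dvd N (QuotientGroup.mk'_surjective K))

/-- With the Fitting subgroup inside `K` and `|G : N| = m`, the group `N / F(G)` is abelian. -/
theorem Frob.commutator_mem_fitting (h : Frob N K p) (hsolv : Group.IsSolvable G) (m n : ℕ)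
    (h3 : H3 G m n) (hm1 : 1 < m) (hmn : m < n) (hidx : N.index = m)
    (hFK : Cfsg.fittingSubgroup G ≤ K) :
    ∀ a ∈ N, ∀ b ∈ N, a * b * a⁻¹ * b⁻¹ ∈ Cfsg.fittingSubgroup G := by
  classical
  have hN := h.hNn
  have hK := h.hKn
  haveI hFn : (Cfsg.fittingSubgroup G).Normal := fittingSubgroup_normal
  set F := Cfsg.fittingSubgroup G with hFdef
  have hFtop : F ≠ ⊤ := by
    intro htop
    apply h.hNtop
    rw [eq_top_iff, ← htop]
    exact hFK.trans h.hKN
  have hss := degSet_fitting_quotient_ssubset hsolv hFtop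
  have h3q : H3 (G ⧸ F) m n := h3.quotient F
  -- m is a degree of G / F
  have hmdeg : m ∈ degSet (G ⧸ F) := by
    obtain ⟨χ, hχ, d, hd, hd1, hdm⟩ := h.exists_degree_quotient
    rw [hidx] at hdm
    have h3k : H3 (G ⧸ K) m n := h3.quotient K
    have hdm' : d = m := by
      have hle : d ≤ m := Nat.le_of_dvd (by omega) hdm
      rcases h3k.nat hχ hd with h' | h' | h'
      · exact absurd h' hd1
      · exact h'
      · omega
    let f : G ⧸ F →* G ⧸ K := QuotientGroup.map F K (MonoidHom.id G) hFK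
    have hf : Function.Surjective f := by
      intro y
      obtain ⟨x, rfl⟩ := QuotientGroup.mk_surjective y
      exact ⟨(x : G ⧸ F), rfl⟩
    have hχ' := Cfsg.Agent.Lib.Helper2.PiSection.isIrrCharacter_comp_surjective hχ f hf
    refine ⟨⟨_, hχ'⟩, ?_⟩
    obtain ⟨h1, -⟩ := Cfsg.Agent.Lib.Helper8.irr_apply_one_eq_charDegree hχ'
    have h2 : χ (f 1) = (m : ℂ) := by
      rw [map_one, hd, hdm']
    have : ((Cfsg.charDegree (fun g => χ (f g)) : ℕ) : ℂ) = (m : ℂ) := by
      rw [← h2]; exact h1.symm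
    exact_mod_cast this
  -- n is not a degree of G / F
  have hndeg : n ∉ degSet (G ⧸ F) := by
    intro hn
    apply hss.2
    rintro d ⟨χ, hχd⟩
    obtain ⟨h1, -⟩ := Cfsg.Agent.Lib.Helper8.irr_apply_one_eq_charDegree χ.2
    rcases h3.nat χ.2 h1 with h' | h' | h'
    · rw [← hχd, h']; exact one_mem_degSet
    · rw [← hχd, h']; exact hmdeg
    · rw [← hχd, h']; exact hn
  have h2 : H2 (G ⧸ F) m := by
    intro χ hχ
    obtain ⟨h1, -⟩ := Cfsg.Agent.Lib.Helper8.irr_apply_one_eq_charDegree hχ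
    rcases h3q.nat hχ h1 with h' | h' | h'
    · left; rw [h1, h', Nat.cast_one]
    · right; rw [h1, h']
    · exfalso
      apply hndeg
      exact ⟨⟨χ, hχ⟩, h'⟩
  have hnn : ¬ Group.IsNilpotent (G ⧸ F) := by
    intro hnil
    let f : G ⧸ F →* G ⧸ K := QuotientGroup.map F K (MonoidHom.id G) hFK
    have hf : Function.Surjective f := by
      intro y
      obtain ⟨x, rfl⟩ := QuotientGroup.mk_surjective y
      exact ⟨(x : G ⧸ F), rfl⟩
    exact h.not_nilpotent (Group.nilpotent_of_surjective f hf)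
  obtain ⟨Ab, hAbn, hAbab, hAbidx⟩ := abelian_normal_of_not_nilpotent m h2 hnn
  set A : Subgroup G := Ab.comap (QuotientGroup.mk' F) with hA
  have hAn : A.Normal := hAbn.comap _
  have hAidx : A.index = m := by
    rw [hA, Subgroup.index_comap_of_surjective Ab (QuotientGroup.mk'_surjective F), hAbidx]
  have hAcomm : ∀ a ∈ A, ∀ b ∈ A, a * b * a⁻¹ * b⁻¹ ∈ F := by
    intro a ha b hb
    rw [← QuotientGroup.eq_one_iff]
    simp only [QuotientGroup.mk_mul, QuotientGroup.mk_inv]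
    have := hAbab _ ha _ hb
    simp only [QuotientGroup.mk'_apply] at this
    rw [this]
    group
  have hAN : A ≤ N := by
    intro a ha
    by_contra haN
    have hc1 : ∀ n' ∈ N, n' ∈ A → n' ∈ K := by
      intro n' hn'N hn'A
      exact h.hfpf a haN n' hn'N (hFK (hAcomm a ha n' hn'A))
    obtain ⟨n₁, hn₁N, hn₁K⟩ := h.exists_mem_not_mem
    apply hn₁K
    apply h.hfpf a haN n₁ hn₁N
    apply hc1
    · exact N.mul_mem (hN.conj_mem _ hn₁N a) (N.inv_mem hn₁N)
    · have h4 : a * n₁ * a⁻¹ * n₁⁻¹ = a * (n₁ * a⁻¹ * n₁⁻¹) := by group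
      rw [h4]
      exact A.mul_mem ha (hAn.conj_mem _ (A.inv_mem ha) n₁)
  have hNA : N ≤ A := by
    have h1 := Subgroup.relIndex_mul_index hAN
    rw [hAidx, hidx] at h1
    have h2' : A.relIndex N = 1 := by
      have : A.relIndex N * m = 1 * m := by rw [h1, one_mul]
      exact Nat.eq_of_mul_eq_mul_right (by omega) this
    exact Subgroup.relIndex_eq_one.1 h2'
  intro a ha b hb
  exact hAcomm a (hNA ha) b (hNA hb)

end Cfsg.Agent.Lib.Helper8.DH
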