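import Mathlib
import Cfsg.Agent.S0174
import Cfsg.Agent.Lib.Helper2.CliffordDeg
import Cfsg.Agent.Lib.Helper8.GL13
import Cfsg.Agent.Lib.Helper8.Deflation

/-!
# The multiplicity of a constituent on a normal subgroup divides the degree
-/

set_option autoImplicit false
set_option linter.unusedSectionVars false

namespace Cfsg.Agent.Lib.Helper8

open Cfsg Cfsg.Agent.Lib.Helper1 Cfsg.Agent.Lib.Helper4 Cfsg.Agent.S0193
open scoped ComplexConjugate

universe u

section

variable {G : Type u} [Group G] [Fintype G] (N : Subgroup G) [Fintype N] [hN : N.Normal]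

/-- The multiplicity of an irreducible constituent of the restriction of an irreducible character
to a normal subgroup divides the degree. -/
theorem mult_dvd_degree {χ : G → ℂ} (hχ : IsIrrCharacter G χ) {ψ : N → ℂ}
    (hψ : IsIrrCharacter N ψ) {m b : ℕ} (hm : classInner (fun n : N => χ n) ψ = m)
    (hm0 : m ≠ 0) (hb : χ 1 = b) : m ∣ b := by
  classical
  haveI : Fintype (IrrCharacter N) := Fintype.ofFinite _
  have hc : classInner (fun n : N => χ n) ψ ≠ 0 := by
    rw [hm]
    exact Nat.cast_ne_zero.2 hm0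
  have hres : IsCharacter N (fun n : N => χ n) :=
    Cfsg.Agent.S0148.isCharacter_restrict N (isCharacter_of_irr hχ)
  have hexp := class_function_expansion _ (isClassFunction_of_isCharacter hres)
  have hmφ : ∀ φ : IrrCharacter N, ∃ k : ℕ, classInner (fun n : N => χ n) φ = k := fun φ =>
    classInner_char_irr_nat hres φ.2
  choose mφ hmφ using hmφ
  have hd : ∀ φ : IrrCharacter N, ∃ d : ℕ, (φ : N → ℂ) 1 = d := fun φ =>
    isCharacter_apply_one (isCharacter_of_irr φ.2)
  choose d hd using hd
  have h1 := congrFun hexp 1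
  rw [Finset.sum_apply] at h1
  have hnat : b = ∑ φ : IrrCharacter N, mφ φ * d φ := by
    have : (b : ℂ) = ((∑ φ : IrrCharacter N, mφ φ * d φ : ℕ) : ℂ) := by
      rw [← hb]
      change χ ((1 : N) : G) = _
      rw [h1]
      push_cast
      refine Finset.sum_congr rfl fun φ _ => ?_
      rw [Pi.smul_apply, smul_eq_mul, hmφ, hd]
    exact_mod_cast this
  rw [hnat]
  apply Finset.dvd_sum
  intro φ _
  by_cases hconj : ∃ g : G, conjFun N (φ : N → ℂ) g = ψ
  · obtain ⟨g, hg⟩ := hconj
    have : mφ φ = m := by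
      have h2 : (mφ φ : ℂ) = m := by
        rw [← hmφ, ← hm, ← hg,
          Cfsg.Agent.S0174.classInner_restrict_conjFun N χ (isClassFunction_irr hχ)]
      exact_mod_cast h2
    rw [this]
    exact Dvd.intro _ rfl
  · push Not at hconj
    have h0 := Cfsg.Agent.S0174.classInner_restrict_eq_zero N χ hχ ψ φ hψ φ.2 hc hconj
    have : mφ φ = 0 := by
      have : (mφ φ : ℂ) = 0 := by rw [← hmφ, h0]
      exact_mod_cast this
    rw [this, zero_mul]
    exact dvd_zero _

end

section

variable {Γ : Type u} [Group Γ]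

/-- The same for subgroups of an ambient group. -/
theorem mult_dvd_degree' {C D : Subgroup Γ} [Fintype C] [Fintype D] (hDC : D ≤ C)
    (hnorm : ∀ c ∈ C, Normalizes c D) (ψ : IrrCharacter C) (η : IrrCharacter D) {m : ℕ}
    (hm : classInner (fun d : D => (ψ : C → ℂ) ⟨d, hDC d.2⟩) (η : D → ℂ) = m) (hm0 : m ≠ 0) :
    m ∣ charDegree (ψ : C → ℂ) := by
  classical
  set D' : Subgroup C := D.subgroupOf C with hD'
  haveI : D'.Normal := by
    constructor
    intro n hn g
    rw [hD', Subgroup.mem_subgroupOf] at hn ⊢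
    exact (hnorm g g.2 n).1 hn
  haveI : Fintype D' := Fintype.ofFinite _
  let e : D' ≃* D := Subgroup.subgroupOfEquivOfLe hDC
  have hη' : IsIrrCharacter D' (fun x => (η : D → ℂ) (e x)) := isIrrCharacter_comp_mulEquiv η.2 e
  have h1 := classInner_mulEquiv e (fun d : D => (ψ : C → ℂ) ⟨d, hDC d.2⟩) (η : D → ℂ)
  rw [hm] at h1
  have h2 : (fun x : D' => (fun d : D => (ψ : C → ℂ) ⟨d, hDC d.2⟩) (e x)) =
      fun n : D' => (ψ : C → ℂ) n := by
    funext x
    exact congrArg _ (Subtype.ext rfl)
  rw [h2] at h1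
  exact mult_dvd_degree D' ψ.2 hη' h1 hm0 (irr_apply_one_eq_charDegree ψ.2).1

end

end Cfsg.Agent.Lib.Helper8
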