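import Mathlib
import Cfsg.Agent.Lib.Helper8.GL13
import Cfsg.Agent.Lib.Lead.SolvPSolv

/-!
# A normal `p`-section above a normal subgroup of a solvable group
-/

set_option autoImplicit false
set_option linter.unusedSectionVars false

namespace Cfsg.Agent.Lib.Helper8

universe u

section

variable {Γ : Type u} [Group Γ]

theorem exists_normal_psection [Finite Γ] {K S : Subgroup Γ} (hKS : K ≤ S)
    (hK : ∀ s ∈ S, Normalizes s K) (hne : K ≠ S) (hsolv : Group.IsSolvable S) :
    ∃ (p : ℕ) (P P₀ : Subgroup Γ) (n j : ℕ), p.Prime ∧ K ≤ P ∧ P ≤ S ∧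
      (∀ s ∈ S, Normalizes s P) ∧ 0 < n ∧ K.relIndex P = p ^ n ∧ Nat.card P₀ = p ^ j ∧
      K ⊔ P₀ = P := by
  classical
  set K' : Subgroup S := K.subgroupOf S with hK'
  haveI hKn : K'.Normal := by
    constructor
    intro n hn g
    rw [hK', Subgroup.mem_subgroupOf] at hn ⊢
    exact (hK g g.2 n).1 hn
  haveI : Nontrivial (S ⧸ K') := by
    by_contra hnt
    rw [not_nontrivial_iff_subsingleton] at hnt
    apply hne
    apply le_antisymm hKS
    intro s hs
    have : (QuotientGroup.mk (⟨s, hs⟩ : S) : S ⧸ K') = 1 := Subsingleton.elim _ _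
    rw [QuotientGroup.eq_one_iff, hK', Subgroup.mem_subgroupOf] at this
    exact this
  haveI : Group.IsSolvable (S ⧸ K') :=
    Group.isSolvable_of_surjective (QuotientGroup.mk'_surjective K')
  obtain ⟨A, q, hAn, hA1, hq, hAq⟩ :=
    Cfsg.Agent.Lib.Lead.SolvPSolv.exists_normal_prime_power (G := S ⧸ K')
  haveI := hAn
  haveI : Fact q.Prime := ⟨hq⟩
  set P' : Subgroup S := A.comap (QuotientGroup.mk' K') with hP'
  haveI hP'n : P'.Normal := by rw [hP']; infer_instance
  set P : Subgroup Γ := P'.map S.subtype with hP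
  have hApg : IsPGroup q A := by
    intro x
    refine ⟨1, ?_⟩
    apply Subtype.ext
    rw [pow_one, Subgroup.coe_pow, Subgroup.coe_one]
    exact hAq x x.2
  obtain ⟨n, hn⟩ := IsPGroup.iff_card.1 hApg
  have hn0 : 0 < n := by
    rcases Nat.eq_zero_or_pos n with h0 | h0
    · exfalso
      rw [h0, pow_zero, Subgroup.card_eq_one] at hn
      exact hA1 hn
    · exact h0
  have hKP' : K' ≤ P' := by
    intro x hx
    rw [hP', Subgroup.mem_comap]
    have : (QuotientGroup.mk' K') x = 1 := (QuotientGroup.eq_one_iff x).2 hx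
    rw [this]
    exact A.one_mem
  have hKmap : K'.map S.subtype = K := by
    rw [hK', Subgroup.subgroupOf_map_subtype, inf_eq_left.2 hKS]
  have hKP : K ≤ P := by
    rw [← hKmap, hP]
    exact Subgroup.map_mono hKP'
  have hPS : P ≤ S := by
    rw [hP]
    exact Subgroup.map_subtype_le P'
  have hSP : ∀ s ∈ S, Normalizes s P := by
    intro s hs
    apply normalizes_of_forall (S := S) _ hs
    intro t ht g hg
    rw [hP] at hg ⊢
    obtain ⟨y, hy, rfl⟩ := hg
    refine ⟨⟨t, ht⟩ * y * ⟨t, ht⟩⁻¹, hP'n.conj_mem y hy ⟨t, ht⟩, ?_⟩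
    simp
  have hrel : K.relIndex P = q ^ n := by
    rw [← hKmap, hP, Subgroup.relIndex_map_map_of_injective _ _ S.subtype_injective]
    have h := Subgroup.relIndex_ker (QuotientGroup.mk' K') (K := P')
    rw [QuotientGroup.ker_mk', hP',
      Subgroup.map_comap_eq_self_of_surjective (QuotientGroup.mk'_surjective _)] at h
    rw [h, hn]
  -- the Sylow subgroup
  obtain ⟨P₀'⟩ : Nonempty (Sylow q P) := inferInstance
  obtain ⟨j, hj⟩ := IsPGroup.iff_card.1 P₀'.isPGroup'
  refine ⟨q, P, (P₀' : Subgroup P).map P.subtype, n, j, hq, hKP, hPS, hSP, hn0, hrel, ?_, ?_⟩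
  · rw [Subgroup.card_map_of_injective P.subtype_injective]
    exact hj
  · set KP : Subgroup P := K.subgroupOf P with hKPd
    have hidx : KP.index = q ^ n := hrel
    have htop : KP ⊔ (P₀' : Subgroup P) = ⊤ := by
      rw [← Subgroup.index_eq_one]
      have h1 : (KP ⊔ (P₀' : Subgroup P)).index ∣ q ^ n :=
        hidx ▸ Subgroup.index_dvd_of_le le_sup_left
      have h2 : (KP ⊔ (P₀' : Subgroup P)).index ∣ (P₀' : Subgroup P).index :=
        Subgroup.index_dvd_of_le le_sup_right
      obtain ⟨i, _, hi⟩ := (Nat.dvd_prime_pow hq).1 h1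
      rcases Nat.eq_zero_or_pos i with h0 | h0
      · rw [hi, h0, pow_zero]
      · exfalso
        apply P₀'.not_dvd_index
        apply dvd_trans _ h2
        rw [hi]
        exact dvd_pow_self q h0.ne'
    have := congrArg (Subgroup.map P.subtype) htop
    rw [Subgroup.map_sup, hKPd, Subgroup.subgroupOf_map_subtype, inf_eq_left.2 hKP,
      ← MonoidHom.range_eq_map, Subgroup.range_subtype] at this
    exact this

end

end Cfsg.Agent.Lib.Helper8
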