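import Mathlib
import Cfsg.Agent.Lib.Helper8.GA2
import Cfsg.Agent.Lib.Helper8.GA3
import Cfsg.Agent.Lib.Helper8.GA4
import Cfsg.Agent.Lib.Helper8.GL19
import Cfsg.Agent.Lib.Helper8.GL20

/-!
# Invariant constituents of induced characters under coprime solvable action
-/

set_option autoImplicit false
set_option linter.unusedSectionVars false
set_option maxHeartbeats 800000

namespace Cfsg.Agent.Lib.Helper8

open Cfsg Cfsg.Agent.Lib.Helper1 Cfsg.Agent.Lib.Helper4
open scoped ComplexConjugate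

universe u

section

variable {Γ : Type u} [Group Γ]

theorem Normalizes.inf {x : Γ} {A B : Subgroup Γ} (hA : Normalizes x A) (hB : Normalizes x B) :
    Normalizes x (A ⊓ B) := by
  intro g
  rw [Subgroup.mem_inf, Subgroup.mem_inf, ← hA g, ← hB g]

/-- Some irreducible character lies over a given one. -/
theorem exists_over_of_le {G N : Subgroup Γ} [Fintype G] [Fintype N] (hNG : N ≤ G)
    (hnorm : ∀ g ∈ G, Normalizes g N) (θ : IrrCharacter N) :
    ∃ χ : IrrCharacter G,
      classInner (fun n : N => (χ : G → ℂ) ⟨n, hNG n.2⟩) (θ : N → ℂ) ≠ 0 := by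
  classical
  set N' : Subgroup G := N.subgroupOf G with hN'
  haveI : N'.Normal := by
    constructor
    intro n hn g
    rw [hN', Subgroup.mem_subgroupOf] at hn ⊢
    exact (hnorm g g.2 n).1 hn
  haveI : Fintype N' := Fintype.ofFinite _
  let e : N' ≃* N := Subgroup.subgroupOfEquivOfLe hNG
  have hθ' : IsIrrCharacter N' (fun x => (θ : N → ℂ) (e x)) := isIrrCharacter_comp_mulEquiv θ.2 e
  obtain ⟨χ, hχ, hne⟩ := Cfsg.Agent.Lib.Helper2.CliffordDeg.exists_irr_over N' hθ'
  refine ⟨⟨χ, hχ⟩, ?_⟩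
  have h1 := classInner_mulEquiv e (fun d : N => χ ⟨d, hNG d.2⟩) (θ : N → ℂ)
  rw [← h1]
  exact hne

variable [Fintype Γ]

/-- **Isaacs 13.31**, in a form suited to induction: `K ≤ S` acts trivially. -/
theorem exists_inv_over : ∀ (k : ℕ) (G S K N : Subgroup Γ) [Fintype G] [Fintype N],
    K ≤ S → (∀ s ∈ S, Normalizes s K) → K.relIndex S ≤ k → Group.IsSolvable S →
    (∀ s ∈ S, Normalizes s G) → (∀ s ∈ S, Normalizes s N) → ∀ (hNG : N ≤ G),
    (∀ g ∈ G, Normalizes g N) → (∀ t ∈ K, ∀ g ∈ G, t * g = g * t) →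
    (Nat.card G).Coprime (K.relIndex S) →
    ∀ θ : IrrCharacter N, InvS S N (θ : N → ℂ) →
    ∃ χ : IrrCharacter G,
      classInner (fun n : N => (χ : G → ℂ) ⟨n, hNG n.2⟩) (θ : N → ℂ) ≠ 0 ∧
      InvS S G (χ : G → ℂ) := by
  intro k
  induction k with
  | zero =>
    intro G S K N _ _ hKS _ hk
    exfalso
    have : K.relIndex S ≠ 0 := (Subgroup.index_ne_zero_of_finite (H := K.subgroupOf S))
    omega
  | succ k ih =>
    intro G S K N _ _ hKS hSK hk hsolv hSG hSN hNG hGN hKG hcop θ hθ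
    classical
    by_cases hKeq : K = S
    · obtain ⟨χ, hχ⟩ := exists_over_of_le hNG hGN θ
      refine ⟨χ, hχ, ?_⟩
      rw [← hKeq]
      exact invS_of_central hKG _
    obtain ⟨p, P, P₀, n, j, hp, hKP, hPS, hSP, hn0, hrel, hj, hsup⟩ :=
      exists_normal_psection hKS hSK hKeq hsolv
    haveI : Fact p.Prime := ⟨hp⟩
    have hmul : K.relIndex P * P.relIndex S = K.relIndex S := Subgroup.relIndex_mul_relIndex K P S hKP hPS
    have hpdvd : p ∣ K.relIndex S := by
      rw [← hmul, hrel]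
      exact Dvd.dvd.mul_right (dvd_pow_self p hn0.ne') _
    have hcopGp : (Nat.card G).Coprime p := Nat.Coprime.coprime_dvd_right hpdvd hcop
    have hP₀P : P₀ ≤ P := hsup ▸ le_sup_right
    set C : Subgroup Γ := G ⊓ Subgroup.centralizer (P : Set Γ) with hC
    set D : Subgroup Γ := N ⊓ Subgroup.centralizer (P : Set Γ) with hD
    haveI : Fintype C := Fintype.ofFinite _
    haveI : Fintype D := Fintype.ofFinite _
    have hCG : C ≤ G := inf_le_left
    have hDN : D ≤ N := inf_le_left
    have hDC : D ≤ C := inf_le_inf_right _ hNG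
    have hPG : ∀ x ∈ P, Normalizes x G := fun x hx => hSG x (hPS hx)
    have hPN : ∀ x ∈ P, Normalizes x N := fun x hx => hSN x (hPS hx)
    have hKN : ∀ t ∈ K, ∀ b ∈ N, t * b = b * t := fun t ht b hb => hKG t ht b (hNG hb)
    have hcopNp : (Nat.card N).Coprime p :=
      Nat.Coprime.coprime_dvd_left (Subgroup.card_dvd_of_le hNG) hcopGp
    have gG := glauProp_quot hp hPG hKG ⟨j, hj⟩ hsup hcopGp C hC hCG
    have gN := glauProp_quot hp hPN hKN ⟨j, hj⟩ hsup hcopNp D hD hDN
    have hθP : InvS P N (θ : N → ℂ) := fun x hx => hθ x (hPS hx)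
    obtain ⟨η, ε, hε, hc⟩ := gN.corr θ hθP
    obtain ⟨m', hm', hpm'⟩ := GlauProp.not_dvd_self hp hε hc
    -- normalisation facts
    have hSC : ∀ s ∈ S, Normalizes s C := fun s hs =>
      normalizes_inf_centralizer (hSG s hs) (hSP s hs)
    have hSD : ∀ s ∈ S, Normalizes s D := fun s hs =>
      normalizes_inf_centralizer (hSN s hs) (hSP s hs)
    have hCD : ∀ c ∈ C, Normalizes c D := by
      intro c hc'
      have h1 := Subgroup.mem_inf.1 hc'
      exact Normalizes.inf (hGN c h1.1) (normalizes_of_mem h1.2)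
    have hPC : ∀ t ∈ P, ∀ g ∈ C, t * g = g * t := by
      intro t ht g hg
      exact ((Subgroup.mem_centralizer_iff.1 (Subgroup.mem_inf.1 hg).2) t ht)
    -- `η` is `S`-invariant
    have hηS : InvS S D (η : D → ℂ) := by
      intro x hx
      show InvElt x D (η : D → ℂ)
      rw [invElt_iff (hSD x hx)]
      set η' : IrrCharacter D := ⟨conjChar (hSD x hx) (η : D → ℂ), isIrrCharacter_conjChar _ η.2⟩
        with hη'
      have h1 := classInner_conjChar hDN (hSN x hx) (hSD x hx) (θ : N → ℂ) (η : D → ℂ)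
      have h2 : conjChar (hSN x hx) (θ : N → ℂ) = (θ : N → ℂ) := by
        funext g
        exact (invElt_iff (hSN x hx) _).1 (hθ x hx) g
      rw [h2, hm'] at h1
      have h3 : η' = η := GlauProp.eq_of_not_dvd hc (γ := η') h1 hpm'
      intro g
      have := congrArg (fun b : IrrCharacter D => (b : D → ℂ) g) h3
      exact this
    -- the inductive step
    have hrelpos : P.relIndex S ≠ 0 := (Subgroup.index_ne_zero_of_finite (H := P.subgroupOf S))
    have hlt : P.relIndex S ≤ k := by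
      have h2 : 2 ≤ K.relIndex P := by
        rw [hrel]
        calc 2 ≤ p := hp.two_le
          _ = p ^ 1 := (pow_one p).symm
          _ ≤ p ^ n := Nat.pow_le_pow_right hp.pos hn0
      have h3 : 2 * P.relIndex S ≤ K.relIndex S := by
        rw [← hmul]
        exact Nat.mul_le_mul_right _ h2
      omega
    have hcopC : (Nat.card C).Coprime (P.relIndex S) := by
      apply Nat.Coprime.coprime_dvd_left (Subgroup.card_dvd_of_le hCG)
      exact Nat.Coprime.coprime_dvd_right (Dvd.intro_left _ hmul) hcop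
    obtain ⟨ψ, hψη, hψS⟩ := ih C S P D hPS hSP hlt hsolv hSC hSD hDC hCD hPC hcopC η hηS
    obtain ⟨χ, hχP, m, hm, hpm⟩ := gG.surj ψ
    -- `χ` is `S`-invariant
    have hχS : InvS S G (χ : G → ℂ) := by
      intro x hx
      show InvElt x G (χ : G → ℂ)
      rw [invElt_iff (hSG x hx)]
      set χ' : IrrCharacter G := ⟨conjChar (hSG x hx) (χ : G → ℂ), isIrrCharacter_conjChar _ χ.2⟩
        with hχ'
      have hχ'P : InvS P G (χ' : G → ℂ) := by
        intro s hs g g' hgg
        show (χ : G → ℂ) (conjE (hSG x hx) g') = (χ : G → ℂ) (conjE (hSG x hx) g)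
        apply hχP (x * s * x⁻¹) ((hSP x hx s).1 hs)
        rw [conjE_coe, conjE_coe, hgg]
        group
      have h1 := classInner_conjChar hCG (hSG x hx) (hSC x hx) (χ : G → ℂ) (ψ : C → ℂ)
      have h2 : conjChar (hSC x hx) (ψ : C → ℂ) = (ψ : C → ℂ) := by
        funext g
        exact (invElt_iff (hSC x hx) _).1 (hψS x hx) g
      rw [h2, hm] at h1
      have h3 : χ' = χ := gG.inj χ' χ hχ'P hχP ψ m m h1 hpm hm hpm
      intro g
      have := congrArg (fun b : IrrCharacter G => (b : G → ℂ) g) h3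
      exact this
    refine ⟨χ, ?_, hχS⟩
    -- `χ` lies over `θ`
    have hP₀G : ∀ x ∈ P₀, Normalizes x G := fun x hx => hPG x (hP₀P hx)
    have hP₀N : ∀ x ∈ P₀, Normalizes x N := fun x hx => hPN x (hP₀P hx)
    have hP₀D : ∀ x ∈ P₀, ∀ d ∈ D, x * d = d * x := by
      intro x hx d hd
      exact ((Subgroup.mem_centralizer_iff.1 (Subgroup.mem_inf.1 hd).2) x (hP₀P hx))
    have hiffG : ∀ χ : IrrCharacter G, InvS P G (χ : G → ℂ) ↔ InvS P₀ G (χ : G → ℂ) := by
      intro χ
      constructor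
      · intro h x hx
        exact h x (hP₀P hx)
      · intro h
        rw [← hsup]
        exact (invS_sup (normalizes_of_central hKG) hP₀G).2 ⟨invS_of_central hKG _, h⟩
    have hiffN : ∀ φ : IrrCharacter N, InvS P N (φ : N → ℂ) ↔ InvS P₀ N (φ : N → ℂ) := by
      intro φ
      constructor
      · intro h x hx
        exact h x (hP₀P hx)
      · intro h
        rw [← hsup]
        exact (invS_sup (normalizes_of_central hKN) hP₀N).2 ⟨invS_of_central hKN _, h⟩
    have gG₀ := GlauProp.congr_inv hiffG gG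
    have gN₀ := GlauProp.congr_inv hiffN gN
    obtain ⟨n₁, hn₁⟩ := classInner_char_irr_nat
      (isCharacter_comp_hom (isCharacter_of_irr ψ.2) (Subgroup.inclusion hDC)) η.2
    have hn₁' : classInner (fun d : D => (ψ : C → ℂ) ⟨d, hDC d.2⟩) (η : D → ℂ) = n₁ := hn₁
    have hn₁0 : n₁ ≠ 0 := by
      intro h0
      apply hψη
      rw [hn₁', h0, Nat.cast_zero]
    have hpn₁ : ¬ p ∣ n₁ := by
      intro hd
      have h1 := mult_dvd_degree' hDC hCD ψ η hn₁' hn₁0
      have h2 := charDegree_dvd_card ψ.2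
      have h3 : p ∣ Nat.card G :=
        hd.trans (h1.trans (h2.trans (Subgroup.card_dvd_of_le hCG)))
      have := Nat.Coprime.eq_one_of_dvd hcopGp.symm h3
      exact hp.one_lt.ne' this
    exact glau_lying_over hj hNG hCG hDN hDC hP₀G hP₀N hP₀D gG₀ gN₀ χ ((hiffG χ).1 hχP)
      θ ((hiffN θ).1 hθP) ψ hm hpm η hm' hpm' hn₁' hpn₁

end

end Cfsg.Agent.Lib.Helper8
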