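import Mathlib
import Cfsg.Agent.Lib.Helper8.DH11
import Cfsg.Agent.Lib.Helper8.RV5
import Cfsg.Agent.Lib.Helper8.RV3
import Cfsg.Agent.S4449
import Cfsg.Agent.S4445

set_option autoImplicit false
set_option linter.unusedSectionVars false
set_option linter.unusedVariables false

/-! Coprime action tools for the last case of the three degrees theorem. -/

namespace Cfsg.Agent.Lib.Helper8.DH

open Cfsg Cfsg.Agent.Lib.Helper1 Cfsg.Agent.Lib.Helper4 Cfsg.Agent.Lib.Helper4.TD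
open Cfsg.Agent.Lib.Helper8 Cfsg.Agent.Lib.Helper8.RV

universe u

noncomputable local instance subFtDH {G : Type u} [Group G] [Finite G] (H : Subgroup G) :
    Fintype H := Fintype.ofFinite H

variable {G : Type u} [Group G] [Finite G]

/-- An invariant irreducible character of `Y` is trivial, when all non-linear irreducible
characters of `N = Q P` have degree divisible by `p`. -/
theorem trivial_of_invariant (p : ℕ) (hp : p.Prime) (N Q Y P : Subgroup G)
    (hQN : Q ≤ N) (hYQ : Y ≤ Q) (hPN : P ≤ N)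
    (hNQ : ∀ t ∈ N, ∀ g ∈ Q, t * g * t⁻¹ ∈ Q)
    (hQY : ∀ g ∈ Q, ∀ y ∈ Y, g * y * g⁻¹ ∈ Y)
    (hPY : ∀ s ∈ P, ∀ y ∈ Y, s * y * s⁻¹ ∈ Y)
    (hprod : ∀ t ∈ N, ∃ q ∈ Q, ∃ x ∈ P, t = q * x)
    (hcopQ : (Nat.card Q).Coprime p) (hP : IsPGroup p P)
    (hrel : ∃ j : ℕ, Q.relIndex N = p ^ j)
    (hnl : ∀ ψ : N → ℂ, IsIrrCharacter N ψ → ∀ e : ℕ, ψ 1 = e → e ≠ 1 → p ∣ e)
    (hYc : ∀ y : Y, (⟨y, hQN (hYQ y.2)⟩ : N) ∈ commutator N)
    (θ : Y → ℂ) (hθ : IsIrrCharacter Y θ) (hinv : InvS P Y θ) : θ = fun _ => 1 := by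
  classical
  haveI : Fact p.Prime := ⟨hp⟩
  letI : Fintype G := Fintype.ofFinite G
  have hPsolv : Group.IsSolvable P := by
    haveI := hP.isNilpotent
    infer_instance
  have hcopQP : (Nat.card Q).Coprime (Nat.card P) := by
    obtain ⟨k, hk⟩ := hP.exists_card_eq
    rw [hk]
    exact Nat.Coprime.pow_right k hcopQ
  obtain ⟨χ, hχne, hχinv⟩ := Cfsg.Agent.S4449.result (Γ := G) Q P Y
    (fun s hs g hg => hNQ s (hPN hs) g hg) hYQ hQY hPY hcopQP hPsolv ⟨θ, hθ⟩ hinv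
  -- χ is N-invariant
  have hχN : InvS N Q (χ : Q → ℂ) := by
    intro t ht
    obtain ⟨q, hq, x, hx, rfl⟩ := hprod t ht
    have hxn : Normalizes x Q := normalizes_of_forall hNQ (hPN hx)
    have h1 : InvElt q Q (χ : Q → ℂ) := by
      intro g g' hgg'
      have : g' = ⟨q, hq⟩ * g * (⟨q, hq⟩ : Q)⁻¹ := Subtype.ext hgg'
      rw [this]
      exact isClassFunction_irr χ.2 _ _
    exact InvElt.mul hxn h1 (hχinv x hx)
  -- extend χ to N
  have hcopN : (Q.relIndex N).Coprime (Nat.card Q) := by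
    obtain ⟨j, hj⟩ := hrel
    rw [hj]
    exact (Nat.Coprime.pow_right j hcopQ).symm
  obtain ⟨η, hη, hηres, -⟩ := exists_inv_extension (N := Q) (T := N) (P := ⊥) hQN
    (fun t ht => normalizes_of_forall hNQ ht) χ.2 hχN hcopN
    (fun x hx => by rw [Subgroup.mem_bot.1 hx]; exact Normalizes.one Q)
    (fun x hx => by rw [Subgroup.mem_bot.1 hx]; exact Normalizes.one N)
    (invS_bot Q _)
  -- η is linear
  obtain ⟨hd1, -⟩ := irr_apply_one_eq_charDegree χ.2
  have hdvd := charDegree_dvd_card χ.2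
  have hη1 : η 1 = ((Cfsg.charDegree (χ : Q → ℂ) : ℕ) : ℂ) := by
    rw [← hd1, ← hηres]
    rfl
  have hlin : Cfsg.charDegree (χ : Q → ℂ) = 1 := by
    by_contra hne
    have h1 := hnl η hη _ hη1 hne
    have h2 : p ∣ Nat.card Q := h1.trans hdvd
    have h3 := Nat.Coprime.eq_one_of_dvd hcopQ.symm h2
    exact hp.one_lt.ne' h3
  rw [hlin, Nat.cast_one] at hη1
  have hone : ∀ y : Y, (χ : Q → ℂ) ⟨y, hYQ y.2⟩ = 1 := by
    intro y
    have h1 := linear_commutator hη hη1 _ (hYc y)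
    rw [← h1, ← hηres]
  have hres : (fun n : Y => (χ : Q → ℂ) ⟨n, hYQ n.2⟩) = fun _ => 1 := funext hone
  rw [hres] at hχne
  by_contra hne
  apply hχne
  exact classInner_irr_ne (isIrrCharacter_one Y) hθ (fun h => hne h.symm)

/-- If the only invariant irreducible character of `Y` is the trivial one, the fixed points of
`P` on `Y` are trivial. -/
theorem centralizer_trivial (Y P : Subgroup G) (hPY : ∀ s ∈ P, ∀ y ∈ Y, s * y * s⁻¹ ∈ Y)
    (hcop : (Nat.card Y).Coprime (Nat.card P)) (hsolv : Group.IsSolvable P)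
    (htriv : ∀ θ : Y → ℂ, IsIrrCharacter Y θ → InvS P Y θ → θ = fun _ => 1)
    (y : G) (hy : y ∈ Y) (hc : ∀ s ∈ P, s * y * s⁻¹ = y) : y = 1 := by
  classical
  letI : Fintype G := Fintype.ofFinite G
  have hcount := Cfsg.Agent.S4445.result (Γ := G) Y P hPY hcop hsolv
  have hsub : Subsingleton {χ : Cfsg.IrrCharacter Y // (∀ s ∈ P, ∀ g g' : Y,
      (g' : G) = s * g * s⁻¹ → (χ : Y → ℂ) g' = (χ : Y → ℂ) g)} := by
    constructor
    rintro ⟨⟨a, ha⟩, hainv⟩ ⟨⟨b, hb⟩, hbinv⟩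
    apply Subtype.ext
    apply Subtype.ext
    show a = b
    rw [htriv a ha hainv, htriv b hb hbinv]
  have hle : Nat.card {K : ConjClasses Y // ∀ s ∈ P, ∀ g g' : Y, (g' : G) = s * g * s⁻¹ →
      ConjClasses.mk g = K → ConjClasses.mk g' = K} ≤ 1 := by
    rw [← hcount]
    exact Finite.card_le_one_iff_subsingleton.2 hsub
  have hsub2 := Finite.card_le_one_iff_subsingleton.1 hle
  have h1 : ∀ s ∈ P, ∀ g g' : Y, (g' : G) = s * g * s⁻¹ →
      ConjClasses.mk g = ConjClasses.mk (1 : Y) → ConjClasses.mk g' = ConjClasses.mk (1 : Y) := by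
    intro s hs g g' hgg' hg
    rw [ConjClasses.mk_eq_mk_iff_isConj, isConj_one_left] at hg
    have : g' = 1 := by
      apply Subtype.ext
      rw [hgg', hg]
      simp
    rw [this]
  have h2 : ∀ s ∈ P, ∀ g g' : Y, (g' : G) = s * g * s⁻¹ →
      ConjClasses.mk g = ConjClasses.mk (⟨y, hy⟩ : Y) →
      ConjClasses.mk g' = ConjClasses.mk (⟨y, hy⟩ : Y) := by
    intro s hs g g' hgg' hg
    rw [ConjClasses.mk_eq_mk_iff_isConj, isConj_iff] at hg ⊢
    obtain ⟨c, hc'⟩ := hg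
    refine ⟨⟨s * c * s⁻¹, hPY s hs c c.2⟩, ?_⟩
    apply Subtype.ext
    have h3 : (c : G) * g * (c : G)⁻¹ = y := by
      have := congrArg Subtype.val hc'
      simpa using this
    show ((s * c * s⁻¹ : G) * (g' : G) * ((s * c * s⁻¹ : G))⁻¹) = y
    rw [hgg']
    have h4 : (s * c * s⁻¹ * (s * g * s⁻¹) * (s * c * s⁻¹)⁻¹ : G) = s * (c * g * (c : G)⁻¹) * s⁻¹ := by
      group
    rw [h4, h3, hc s hs]
  have heq := @Subsingleton.elim _ hsub2 ⟨ConjClasses.mk (1 : Y), h1⟩ ⟨ConjClasses.mk (⟨y, hy⟩ : Y), h2⟩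
  have heq' : ConjClasses.mk (1 : Y) = ConjClasses.mk (⟨y, hy⟩ : Y) := congrArg Subtype.val heq
  rw [ConjClasses.mk_eq_mk_iff_isConj, isConj_comm, isConj_one_left] at heq'
  exact congrArg Subtype.val heq'

end Cfsg.Agent.Lib.Helper8.DH
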