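import Mathlib
import Cfsg.Agent.Lib.Helper8.DH12
import Cfsg.Agent.Lib.Helper4.TD5

set_option autoImplicit false
set_option linter.unusedSectionVars false
set_option linter.unusedVariables false

/-! Linear characters of a complemented normal subgroup: the induced character from the inertia
group. -/

namespace Cfsg.Agent.Lib.Helper8.DH

open Cfsg Cfsg.Agent.Lib.Helper1 Cfsg.Agent.Lib.Helper4 Cfsg.Agent.Lib.Helper4.TD
open Cfsg.Agent.Lib.Helper8

universe u

variable {X : Type u} [Group X] [Finite X] (V M : Subgroup X) [hVn : V.Normal]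

/-- The canonical extension of an invariant linear character of a complemented normal
subgroup to its inertia group. -/
theorem exists_canonical_extension' (hVM : V ⊓ M = ⊥) (hMV : M ⊔ V = ⊤) (lam : V →* ℂˣ)
    (T : Subgroup X) (hT : T = inertia V (fun v => ((lam v : ℂˣ) : ℂ))) :
    ∃ μ : T →* ℂˣ, ∀ (t : T) (ht : (t : X) ∈ V), μ t = lam ⟨t, ht⟩ := by
  classical
  have hdec := split_exists V M hMV
  choose r hr c hc hrc using hdec
  have hrV : ∀ v ∈ V, r v = v := by
    intro v hv
    have := split_unique V M hVM (hr v) hv (hc v) M.one_mem (by rw [← hrc v, mul_one])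
    exact this.1
  have hVT : V ≤ T := by
    rw [hT]
    apply le_inertia
    exact isClassFunction_irr (isIrrCharacter_of_hom lam)
  have hcT : ∀ t ∈ T, c t ∈ T := by
    intro t ht
    have h1 : c t = (r t)⁻¹ * t := by
      have h0 : c t = (r t)⁻¹ * (r t * c t) := by group
      rw [h0, ← hrc t]
    rw [h1]
    exact T.mul_mem (T.inv_mem (hVT (hr t))) ht
  have hinv : ∀ a ∈ T, ∀ (v : X) (hv : v ∈ V),
      lam ⟨a * v * a⁻¹, hVn.conj_mem v hv a⟩ = lam ⟨v, hv⟩ := by
    intro a ha v hv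
    rw [hT, mem_inertia] at ha
    have := congrFun ha ⟨v, hv⟩
    exact Units.ext this
  have hmul : ∀ t ∈ T, ∀ t' : X, r (t * t') = r t * (c t * r t' * (c t)⁻¹) := by
    intro t ht t'
    have h1 : t * t' = (r t * (c t * r t' * (c t)⁻¹)) * (c t * c t') := by
      have h0 : (r t * (c t * r t' * (c t)⁻¹)) * (c t * c t') = (r t * c t) * (r t' * c t') := by
        group
      rw [h0, ← hrc t, ← hrc t']
    have := split_unique V M hVM (hr (t * t'))
      (V.mul_mem (hr t) (hVn.conj_mem _ (hr t') (c t))) (hc (t * t'))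
      (M.mul_mem (hc t) (hc t')) (by rw [← hrc (t * t'), h1])
    exact this.1
  refine ⟨MonoidHom.mk' (fun t : T => lam ⟨r t, hr t⟩) ?_, ?_⟩
  · intro t t'
    have h1 := hmul t t.2 t'
    have h2 : (⟨r ((t : X) * (t' : X)), hr _⟩ : V)
        = ⟨r t, hr t⟩ * ⟨c t * r t' * (c t)⁻¹, hVn.conj_mem _ (hr t') (c t)⟩ := by
      apply Subtype.ext
      exact h1
    show lam ⟨r ((t : X) * (t' : X)), hr _⟩ = _
    rw [h2, map_mul, hinv (c t) (hcT t t.2) (r t') (hr t')]
  · intro t ht
    show lam ⟨r t, hr t⟩ = lam ⟨t, ht⟩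
    congr 1
    apply Subtype.ext
    exact hrV t ht

/-- A non-trivial linear character of a complemented normal subgroup `V` gives an irreducible
character of the whole group whose degree is the index of the inertia group, and which is not
trivial on `V`. -/
theorem exists_irr_index_inertia (hVM : V ⊓ M = ⊥) (hMV : M ⊔ V = ⊤) (lam : V →* ℂˣ)
    (hlam : lam ≠ 1) :
    ∃ χ : X → ℂ, IsIrrCharacter X χ ∧
      χ 1 = ((inertia V (fun v => ((lam v : ℂˣ) : ℂ))).index : ℂ) ∧ ∑ᶠ v : V, χ v = 0 := by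
  classical
  haveI : Fintype X := Fintype.ofFinite X
  haveI : Fintype V := Fintype.ofFinite V
  set lc : V → ℂ := fun v => ((lam v : ℂˣ) : ℂ) with hlc
  have hlirr : Cfsg.IsIrrCharacter V lc := isIrrCharacter_of_hom lam
  set T : Subgroup X := inertia V lc with hT
  haveI : Fintype T := Fintype.ofFinite T
  have hVT : V ≤ T := le_inertia V (isClassFunction_irr hlirr)
  obtain ⟨μ, hμ⟩ := exists_canonical_extension' V M hVM hMV lam T hT
  set V' : Subgroup T := V.subgroupOf T with hV'
  haveI : Fintype V' := Fintype.ofFinite V'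
  let lam' : V' →* ℂˣ := lam.comp (Subgroup.subgroupOfEquivOfLe hVT).toMonoidHom
  have hl'irr : Cfsg.IsIrrCharacter V' (fun x => ((lam' x : ℂˣ) : ℂ)) := isIrrCharacter_of_hom lam'
  have hX0 : (Nat.card X : ℂ) ≠ 0 := Nat.cast_ne_zero.2 Nat.card_pos.ne'
  have hT0 : (Nat.card T : ℂ) ≠ 0 := Nat.cast_ne_zero.2 Nat.card_pos.ne'
  set ψ : T → ℂ := fun t => ((μ t : ℂˣ) : ℂ) with hψ
  have hψirr : Cfsg.IsIrrCharacter T ψ := isIrrCharacter_of_hom μ
  have hcon : Cfsg.classInner (Cfsg.indFun (V.subgroupOf T)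
      (fun x => lc ⟨((x : T) : X), Subgroup.mem_subgroupOf.mp x.2⟩)) ψ ≠ 0 := by
    rw [Cfsg.Agent.S0146.result _ _ ψ (isClassFunction_irr hψirr)]
    have h1 : (fun h : V.subgroupOf T => ψ h)
        = (fun x : V.subgroupOf T => lc ⟨((x : T) : X), Subgroup.mem_subgroupOf.mp x.2⟩) := by
      funext h
      have hh : ((h : T) : X) ∈ V := Subgroup.mem_subgroupOf.mp h.2
      show ((μ (h : T) : ℂˣ) : ℂ) = ((lam ⟨((h : T) : X), hh⟩ : ℂˣ) : ℂ)
      rw [hμ (h : T) hh]
    rw [h1]
    have h3 : Cfsg.classInner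
        (fun x : V.subgroupOf T => lc ⟨((x : T) : X), Subgroup.mem_subgroupOf.mp x.2⟩)
        (fun x : V.subgroupOf T => lc ⟨((x : T) : X), Subgroup.mem_subgroupOf.mp x.2⟩) = 1 :=
      classInner_irr_self hl'irr
    rw [h3]
    exact one_ne_zero
  have hirr := (clifford_induction V lc hlirr T hT hVT).1 ψ hψirr hcon
  have hdeg : Cfsg.indFun T ψ 1 = (T.index : ℂ) := by
    rw [Cfsg.Agent.S0170.indFun_one, ← Subgroup.card_mul_index T]
    have : ψ 1 = 1 := by
      show ((μ 1 : ℂˣ) : ℂ) = 1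
      rw [map_one, Units.val_one]
    rw [this]
    push_cast
    field_simp
  refine ⟨_, hirr, hdeg, ?_⟩
  rw [finsum_eq_sum_of_fintype]
  -- the sum over V
  have hval : ∀ (v : V) (x : X), Cfsg.extendByZero T ψ (x⁻¹ * (v : X) * x)
      = lc ⟨x⁻¹ * (v : X) * x, by
          have := hVn.conj_mem v v.2 x⁻¹
          simpa using this⟩ := by
    intro v x
    have hmem : x⁻¹ * (v : X) * x ∈ V := by
      have := hVn.conj_mem v v.2 x⁻¹
      simpa using this
    rw [extendByZero_of_mem T ψ (hVT hmem)]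
    show ((μ ⟨x⁻¹ * (v : X) * x, hVT hmem⟩ : ℂˣ) : ℂ) = _
    rw [hμ ⟨x⁻¹ * (v : X) * x, hVT hmem⟩ hmem]
  have hsum0 : ∑ v : V, lc v = 0 := by
    have h1 : ((Units.coeHom ℂ).comp lam) ≠ 1 := by
      intro h
      apply hlam
      ext v
      have := DFunLike.congr_fun h v
      simpa using this
    have := sum_hom_units_eq_zero ((Units.coeHom ℂ).comp lam) h1
    simpa using this
  have hinner : ∀ x : X, ∑ v : V, Cfsg.extendByZero T ψ (x⁻¹ * (v : X) * x) = 0 := by
    intro x
    rw [← hsum0]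
    let e : V ≃ V :=
      { toFun := fun v => ⟨x⁻¹ * (v : X) * x, by
          have := hVn.conj_mem v v.2 x⁻¹
          simpa using this⟩
        invFun := fun v => ⟨x * (v : X) * x⁻¹, hVn.conj_mem v v.2 x⟩
        left_inv := fun v => by apply Subtype.ext; simp; group
        right_inv := fun v => by apply Subtype.ext; simp; group }
    rw [← Equiv.sum_comp e lc]
    apply Finset.sum_congr rfl
    intro v _
    rw [hval v x]
    rfl
  unfold Cfsg.indFun
  rw [← Finset.mul_sum, Finset.sum_comm]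
  rw [Finset.sum_eq_zero (fun x _ => hinner x), mul_zero]

end Cfsg.Agent.Lib.Helper8.DH
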