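import Mathlib
import Cfsg.Agent.Lib.Helper8.DH13

set_option autoImplicit false
set_option linter.unusedSectionVars false
set_option linter.unusedVariables false

/-! A complement to `Y = N'` from a Sylow normalizer. -/

namespace Cfsg.Agent.Lib.Helper8.DH

open Cfsg

universe u

variable {G : Type u} [Group G] [Finite G]

/-- The subgroup `Y P` is normal, for `P` a Sylow subgroup inside `N` and `N / Y` abelian. -/
theorem sup_sylow_normal (p : ℕ) [hp : Fact p.Prime] (N Y : Subgroup G) [hN : N.Normal]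
    [hY : Y.Normal] (hYN : Y ≤ N) (hcomm : ∀ a ∈ N, ∀ b ∈ N, a * b * a⁻¹ * b⁻¹ ∈ Y)
    (PG : Sylow p G) (hPN : (PG : Subgroup G) ≤ N) : (Y ⊔ (PG : Subgroup G)).Normal := by
  classical
  set P : Subgroup G := (PG : Subgroup G) with hP
  have key : ∀ g : G, ∀ s ∈ P, g * s * g⁻¹ ∈ Y ⊔ P := by
    intro g s hs
    set P₁ : Sylow p N := PG.subtype hPN with hP₁
    obtain ⟨u, hu⟩ := MulAction.exists_smul_eq N ((MulAut.conjNormal g : MulAut N) • P₁) P₁
    have hx1 : (⟨s, hPN hs⟩ : N) ∈ (P₁ : Subgroup N) := by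
      rw [hP₁, Sylow.coe_subtype, Subgroup.mem_subgroupOf]
      exact hs
    have hx2 : (MulAut.conjNormal g : MulAut N) • (⟨s, hPN hs⟩ : N) ∈
        (((MulAut.conjNormal g : MulAut N) • P₁ : Sylow p N) : Subgroup N) := by
      rw [Sylow.pointwise_smul_def]
      exact Subgroup.smul_mem_pointwise_smul _ _ _ hx1
    have hx3 : MulAut.conj u • ((MulAut.conjNormal g : MulAut N) • (⟨s, hPN hs⟩ : N)) ∈
        ((u • ((MulAut.conjNormal g : MulAut N) • P₁) : Sylow p N) : Subgroup N) := by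
      rw [Sylow.smul_def, Sylow.pointwise_smul_def]
      exact Subgroup.smul_mem_pointwise_smul _ _ _ hx2
    rw [hu, hP₁, Sylow.coe_subtype, Subgroup.mem_subgroupOf] at hx3
    have hval : ((MulAut.conj u • ((MulAut.conjNormal g : MulAut N) • (⟨s, hPN hs⟩ : N)) : N) : G)
        = (u : G) * (g * s * g⁻¹) * (u : G)⁻¹ := by
      simp [MulAut.smul_def, MulAut.conjNormal_apply]
    rw [hval] at hx3
    set s' : G := (u : G) * (g * s * g⁻¹) * (u : G)⁻¹ with hs'
    have h1 : g * s * g⁻¹ = ((u : G)⁻¹ * s' * ((u : G)⁻¹)⁻¹ * s'⁻¹) * s' := by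
      rw [hs']; group
    rw [h1]
    apply Subgroup.mul_mem
    · exact (le_sup_left : Y ≤ Y ⊔ P) (hcomm _ (N.inv_mem u.2) _ (hPN hx3))
    · exact (le_sup_right : P ≤ Y ⊔ P) hx3
  constructor
  intro x hx g
  have hx' : x ∈ (↑(Y ⊔ P) : Set G) := hx
  rw [Subgroup.normal_mul] at hx'
  obtain ⟨y, hy, s, hs, rfl⟩ := Set.mem_mul.1 hx'
  have h2 : g * (y * s) * g⁻¹ = (g * y * g⁻¹) * (g * s * g⁻¹) := by group
  rw [h2]
  exact Subgroup.mul_mem _ ((le_sup_left : Y ≤ Y ⊔ P) (hY.conj_mem y hy g)) (key g s hs)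

/-- A complement to `Y` from the normalizer of a Sylow subgroup acting without fixed points. -/
theorem exists_complement_of_sylow (p : ℕ) [hp : Fact p.Prime] (N Y : Subgroup G) [hN : N.Normal]
    [hY : Y.Normal] (hYN : Y ≤ N) (hcomm : ∀ a ∈ N, ∀ b ∈ N, a * b * a⁻¹ * b⁻¹ ∈ Y)
    (PG : Sylow p G) (hPN : (PG : Subgroup G) ≤ N)
    (hYP : ∀ y ∈ Y, y ∈ (PG : Subgroup G) → y = 1)
    (hcent : ∀ y ∈ Y, (∀ s ∈ (PG : Subgroup G), s * y * s⁻¹ = y) → y = 1) :
    ∃ H : Subgroup G, Y ⊓ H = ⊥ ∧ H ⊔ Y = ⊤ := by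
  classical
  set P : Subgroup G := (PG : Subgroup G) with hP
  haveI hTn : (Y ⊔ P).Normal := sup_sylow_normal p N Y hYN hcomm PG hPN
  have hfr := Sylow.normalizer_sup_eq_top' (N := Y ⊔ P) PG le_sup_right
  refine ⟨Subgroup.normalizer (P : Set G), ?_, ?_⟩
  · rw [Subgroup.eq_bot_iff_forall]
    rintro y ⟨hyY, hyH⟩
    apply hcent y hyY
    intro s hs
    have hyH' : y ∈ Subgroup.normalizer (P : Set G) := hyH
    rw [Subgroup.mem_normalizer_iff] at hyH'
    have h1 : y * s⁻¹ * y⁻¹ ∈ P := (hyH' s⁻¹).1 (P.inv_mem hs)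
    have h2 : s * y * s⁻¹ * y⁻¹ ∈ P := by
      have : s * y * s⁻¹ * y⁻¹ = s * (y * s⁻¹ * y⁻¹) := by group
      rw [this]
      exact P.mul_mem hs h1
    have h3 : s * y * s⁻¹ * y⁻¹ ∈ Y := Y.mul_mem (hY.conj_mem y hyY s) (Y.inv_mem hyY)
    have h4 := hYP _ h3 h2
    calc s * y * s⁻¹ = (s * y * s⁻¹ * y⁻¹) * y := by group
      _ = y := by rw [h4, one_mul]
  · rw [eq_top_iff, ← hfr]
    apply sup_le
    · exact le_sup_left
    · apply sup_le
      · exact le_sup_right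
      · exact le_trans Subgroup.le_normalizer le_sup_left

end Cfsg.Agent.Lib.Helper8.DH
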