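import Mathlib
import Cfsg.Agent.Lib.Helper8.DH14
import Cfsg.Agent.Lib.Helper8.RDG5
import Cfsg.Agent.Lib.Helper2.CliffordDeg
import Cfsg.Agent.S0887

set_option autoImplicit false
set_option linter.unusedSectionVars false
set_option linter.unusedVariables false

/-! The end of the last case: `Y = N'` is abelian. -/

namespace Cfsg.Agent.Lib.Helper8.DH

open Cfsg Cfsg.Agent.Lib.Helper1 Cfsg.Agent.Lib.Helper4 Cfsg.Agent.Lib.Helper4.TD
open Cfsg.Agent.Lib.Helper8 Cfsg.Agent.Lib.Helper8.RDG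

universe u

variable {G : Type u} [Group G] [Finite G]

/-- Orbits are equivalence classes. -/
theorem orbitFinset_eq_of_mem (Y : Subgroup G) [hY : Y.Normal] {a a₀ : Y → ℂ}
    (h : a ∈ orbitFinset Y a₀) : orbitFinset Y a = orbitFinset Y a₀ := by
  obtain ⟨g, rfl⟩ := (mem_orbitFinset Y).1 h
  ext ψ
  rw [mem_orbitFinset, mem_orbitFinset]
  constructor
  · rintro ⟨k, rfl⟩
    exact ⟨g * k, (Cfsg.Agent.S0194.conjFun_mul Y a₀ g k).symm⟩
  · rintro ⟨k, rfl⟩
    refine ⟨g⁻¹ * k, ?_⟩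
    rw [Cfsg.Agent.S0194.conjFun_mul Y a₀ g (g⁻¹ * k)]
    congr 1
    group

/-- If every non-trivial linear character of `Y` has an orbit of size `n`, then `n` divides
`|Hom(Y, ℂˣ)| - 1`. -/
theorem dvd_card_hom_sub_one (Y : Subgroup G) [hY : Y.Normal] (n : ℕ)
    (hidx : ∀ ν : Y →* ℂˣ, ν ≠ 1 → (inertia Y (lin Y ν)).index = n) :
    n ∣ Nat.card (Y →* ℂˣ) - 1 := by
  classical
  haveI : Fintype (Y →* ℂˣ) := Fintype.ofFinite _
  set S : Finset (Y → ℂ) := Finset.univ.image (lin Y) with hS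
  set S' : Finset (Y → ℂ) := S.erase (lin Y 1) with hS'
  have hScard : S.card = Nat.card (Y →* ℂˣ) := by
    rw [hS, Finset.card_image_of_injective _ (lin_injective Y), Finset.card_univ,
      Nat.card_eq_fintype_card]
  have h1S : lin Y 1 ∈ S := Finset.mem_image_of_mem _ (Finset.mem_univ _)
  have hS'card : S'.card = Nat.card (Y →* ℂˣ) - 1 := by
    rw [hS', Finset.card_erase_of_mem h1S, hScard]
  rw [← hS'card]
  have hmemS' : ∀ a, a ∈ S' ↔ ∃ ν : Y →* ℂˣ, ν ≠ 1 ∧ a = lin Y ν := by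
    intro a
    rw [hS', Finset.mem_erase, hS, Finset.mem_image]
    constructor
    · rintro ⟨hne, ν, -, rfl⟩
      refine ⟨ν, ?_, rfl⟩
      intro h
      apply hne
      rw [h]
    · rintro ⟨ν, hν, rfl⟩
      refine ⟨?_, ν, Finset.mem_univ _, rfl⟩
      intro h
      exact hν (lin_injective Y h)
  have horb : ∀ a₀ ∈ S', orbitFinset Y a₀ ⊆ S' := by
    intro a₀ ha₀ a ha
    obtain ⟨ν, hν, rfl⟩ := (hmemS' a₀).1 ha₀
    obtain ⟨g, rfl⟩ := (mem_orbitFinset Y).1 ha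
    rw [conjFun_lin, hmemS']
    refine ⟨RDG.conjHom Y ν g, ?_, rfl⟩
    intro h
    apply hν
    have h2 : RDG.conjHom Y (RDG.conjHom Y ν g) g⁻¹ = RDG.conjHom Y 1 g⁻¹ := by rw [h]
    rw [conjHom_mul', mul_inv_cancel, conjHom_one, conjHom_one_hom] at h2
    exact h2
  rw [Finset.card_eq_sum_card_fiberwise (f := orbitFinset Y) (s := S')
    (t := S'.image (orbitFinset Y)) (fun x hx => Finset.mem_image_of_mem _ hx)]
  apply Finset.dvd_sum
  intro b hb
  obtain ⟨a₀, ha₀, rfl⟩ := Finset.mem_image.1 hb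
  have hfib : (S'.filter fun a => orbitFinset Y a = orbitFinset Y a₀) = orbitFinset Y a₀ := by
    ext a
    rw [Finset.mem_filter]
    constructor
    · rintro ⟨-, h⟩
      rw [← h]
      exact self_mem_orbitFinset Y a
    · intro h
      exact ⟨horb a₀ ha₀ h, orbitFinset_eq_of_mem Y h⟩
  rw [hfib, card_orbitFinset]
  obtain ⟨ν, hν, rfl⟩ := (hmemS' a₀).1 ha₀
  rw [hidx ν hν]

/-- The group of linear characters of an `r`-group has `r`-power order. -/
theorem card_hom_pgroup (r : ℕ) (hr : r.Prime) (Y : Type u) [Group Y] [Finite Y]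
    (hYr : IsPGroup r Y) : ∃ k : ℕ, Nat.card (Y →* ℂˣ) = r ^ k := by
  haveI : Fact r.Prime := ⟨hr⟩
  obtain ⟨a, ha⟩ := hYr.exists_card_eq
  have hP : IsPGroup r (Y →* ℂˣ) := by
    intro ν
    refine ⟨a, ?_⟩
    ext y
    rw [MonoidHom.pow_apply, ← map_pow, ← ha, pow_card_eq_one', map_one, MonoidHom.one_apply]
  exact IsPGroup.iff_card.1 hP

/-- A non-trivial solvable group has a non-trivial linear character. -/
theorem exists_hom_ne_one (Y : Type u) [Group Y] [Finite Y] [Nontrivial Y]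
    [hs : Group.IsSolvable Y] : ∃ ν : Y →* ℂˣ, ν ≠ 1 := by
  have hlt := Group.IsSolvable.commutator_lt_top_of_nontrivial Y
  obtain ⟨y, -, hy⟩ := SetLike.exists_of_lt hlt
  have hy1 : Abelianization.of y ≠ 1 := by
    intro h
    apply hy
    exact (QuotientGroup.eq_one_iff y).1 h
  have hne0 : NeZero (Monoid.exponent (Abelianization Y)) := ⟨Monoid.exponent_ne_zero_of_finite⟩
  obtain ⟨φ, hφ⟩ := CommGroup.exists_apply_ne_one_of_hasEnoughRootsOfUnity (Abelianization Y) ℂ hy1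
  refine ⟨φ.comp Abelianization.of, ?_⟩
  intro h
  apply hφ
  have := DFunLike.congr_fun h y
  simpa using this

/-- The end of the last case: `Y` is abelian. -/
theorem abelian_of_split (p r : ℕ) (hp : p.Prime) (hr : r.Prime) (N : Subgroup G) [hN : N.Normal]
    (m n : ℕ) (h3 : H3 G m n) (hpm : ¬ p ∣ m)
    (hnl : ∀ ψ : N → ℂ, IsIrrCharacter N ψ → ∀ e : ℕ, ψ 1 = e → e ≠ 1 → p ∣ e)
    (Y : Subgroup G) [hY : Y.Normal] (hYN : Y ≤ N)
    (hYc : ∀ y : Y, (⟨y, hYN y.2⟩ : N) ∈ commutator N)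
    (hYr : IsPGroup r Y) (H : Subgroup G) (hYH : Y ⊓ H = ⊥) (hHY : H ⊔ Y = ⊤) :
    ∀ a ∈ Y, ∀ b ∈ Y, a * b = b * a := by
  classical
  haveI : Fintype G := Fintype.ofFinite G
  haveI : Fintype Y := Fintype.ofFinite Y
  haveI : Fact r.Prime := ⟨hr⟩
  -- characters of degree prime to p are trivial on Y
  have htrivY : ∀ χ : G → ℂ, IsIrrCharacter G χ → ∀ c : ℕ, χ 1 = c → ¬ p ∣ c →
      ∀ v : Y, χ v = χ 1 := by
    intro χ hχ c hc hpc v
    exact apply_commutator_of_not_dvd p N hnl hχ c hc hpc ⟨v, hYN v.2⟩ (hYc v)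
  have hp1 : ¬ p ∣ 1 := fun h => hp.one_lt.ne' (Nat.dvd_one.1 h)
  -- orbit sizes
  have hidx : ∀ ν : Y →* ℂˣ, ν ≠ 1 → (inertia Y (lin Y ν)).index = n := by
    intro ν hν
    obtain ⟨χ, hχ, hχ1, hsum⟩ := exists_irr_index_inertia Y H hYH hHY ν hν
    have hcase := h3.nat hχ hχ1
    by_contra hne
    have hpc : ¬ p ∣ (inertia Y (lin Y ν)).index := by
      rcases hcase with h | h | h
      · rw [show (inertia Y (lin Y ν)).index = 1 from h]; exact hp1
      · rw [show (inertia Y (lin Y ν)).index = m from h]; exact hpm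
      · exact absurd h hne
    have hall := htrivY χ hχ _ hχ1 hpc
    rw [finsum_eq_sum_of_fintype, Finset.sum_congr rfl (fun v _ => hall v), Finset.sum_const,
      Finset.card_univ, nsmul_eq_mul] at hsum
    have h0 : χ 1 ≠ 0 := irr_apply_one_ne_zero hχ
    have hc0 : (Fintype.card Y : ℂ) ≠ 0 := Nat.cast_ne_zero.2 Fintype.card_ne_zero
    exact (mul_ne_zero hc0 h0) hsum
  have hdvd := dvd_card_hom_sub_one Y n hidx
  obtain ⟨k, hk⟩ := card_hom_pgroup r hr Y hYr
  by_contra hnab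
  push Not at hnab
  obtain ⟨a, ha, b, hb, hab⟩ := hnab
  -- Y is non-trivial, so there is a non-trivial linear character
  haveI : Nontrivial Y := ⟨⟨⟨a, ha⟩, ⟨b, hb⟩, fun h => hab (by
    have h' : a = b := Subtype.ext_iff.1 h
    rw [h'])⟩⟩
  haveI : Group.IsNilpotent Y := hYr.isNilpotent
  obtain ⟨ν₀, hν₀⟩ := exists_hom_ne_one Y
  have hk1 : k ≠ 0 := by
    intro h0
    rw [h0, pow_zero] at hk
    haveI : Subsingleton (Y →* ℂˣ) := (Nat.card_eq_one_iff_unique.1 hk).1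
    exact hν₀ (Subsingleton.elim _ _)
  have hrn : ¬ r ∣ n := by
    intro hrn
    have h1 : r ∣ r ^ k - 1 := hrn.trans (hk ▸ hdvd)
    have h2 : r ∣ r ^ k := dvd_pow_self r hk1
    have h3' : 1 ≤ r ^ k := Nat.one_le_pow _ _ hr.pos
    have h4 : r ∣ 1 := by
      have := (Nat.dvd_sub h2 h1)
      rwa [Nat.sub_sub_self h3'] at this
    exact hr.one_lt.ne' (Nat.dvd_one.1 h4)
  -- a non-linear irreducible character of Y
  have hnabY : ¬ ∀ x y : Y, x * y = y * x := by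
    intro h
    apply hab
    have := h ⟨a, ha⟩ ⟨b, hb⟩
    exact Subtype.ext_iff.1 this
  obtain ⟨μ, hμ, hμ1⟩ := exists_nonlinear hnabY
  obtain ⟨d, hd, hd0, hddvd⟩ := irr_degree hμ
  have hd1 : d ≠ 1 := by
    intro h
    apply hμ1
    rw [hd, h, Nat.cast_one]
  have hrd : r ∣ d := by
    obtain ⟨a', ha'⟩ := hYr.exists_card_eq
    rw [ha'] at hddvd
    obtain ⟨i, -, hi⟩ := (Nat.dvd_prime_pow hr).1 hddvd
    rw [hi]
    apply dvd_pow_self
    intro h0
    apply hd1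
    rw [hi, h0, pow_zero]
  obtain ⟨χ, hχ, hcon⟩ := Cfsg.Agent.Lib.Helper2.CliffordDeg.exists_irr_over Y hμ
  obtain ⟨c, hc, hc0, -⟩ := irr_degree hχ
  obtain ⟨hdc, -⟩ := Cfsg.Agent.S0887.result Y χ hχ μ hμ hcon c d hc hd
  have hcn : c ≠ n := by
    intro h
    apply hrn
    rw [← h]
    exact hrd.trans hdc
  have hpc : ¬ p ∣ c := by
    rcases h3.nat hχ hc with h | h | h
    · rw [h]; exact hp1
    · rw [h]; exact hpm
    · exact absurd h hcn
  have hall := htrivY χ hχ c hc hpc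
  apply hcon
  have hres : (fun v : Y => χ v) = χ 1 • (fun _ : Y => (1 : ℂ)) := by
    funext v
    rw [hall v]
    simp
  rw [hres, classInner_smul_left]
  have hne : (fun _ : Y => (1 : ℂ)) ≠ μ := by
    intro h
    apply hμ1
    rw [← h]
  rw [classInner_irr_ne Cfsg.Agent.S0161.isIrrCharacter_one hμ hne, mul_zero]

end Cfsg.Agent.Lib.Helper8.DH
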