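import Mathlib
import Cfsg.Agent.Lib.Helper8.DH15
import Cfsg.Agent.S4456

set_option autoImplicit false
set_option linter.unusedSectionVars false
set_option linter.unusedVariables false
set_option maxHeartbeats 1000000

/-! The Frobenius-type case with `|G : N| = m`. -/

namespace Cfsg.Agent.Lib.Helper8.DH

open Cfsg Cfsg.Agent.Lib.Helper1 Cfsg.Agent.Lib.Helper4 Cfsg.Agent.Lib.Helper4.TD
open Cfsg.Agent.Lib.Helper8 Cfsg.Agent.Lib.Lead

universe u

variable {G : Type u} [Group G] [Finite G]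

/-- The `p`-group quotient of `N` has two character degrees. -/
theorem quotient_H2_of_degrees (p j : ℕ) (hp : p.Prime) (N : Subgroup G) (Q₀ : Subgroup N)
    [hQ₀ : Q₀.Normal] (hidx : Q₀.index = p ^ j) (m n : ℕ) (hm0 : 0 < m) (hpm : ¬ p ∣ m)
    (hdeg : ∀ ψ : N → ℂ, IsIrrCharacter N ψ → ∀ e : ℕ, ψ 1 = e → e ≠ 1 →
      p ∣ e ∧ e ∣ n ∧ (n / e) ∣ m) (hn0 : 0 < n) :
    H2 (N ⧸ Q₀) (ordProj[p] n) := by
  intro ψ hψ
  obtain ⟨e, he, he0, hedvd⟩ := irr_degree hψ
  by_cases he1 : e = 1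
  · left; rw [he, he1, Nat.cast_one]
  · right
    have hinf := isIrrCharacter_inflation Q₀ hψ
    have hinf1 : (fun g : N => ψ (g : N ⧸ Q₀)) 1 = (e : ℂ) := by
      show ψ ((1 : N) : N ⧸ Q₀) = e
      rw [QuotientGroup.mk_one, he]
    obtain ⟨hpe, hen, hnem⟩ := hdeg _ hinf e hinf1 he1
    have hcard : Nat.card (N ⧸ Q₀) = p ^ j := by
      rw [← Subgroup.index_eq_card, hidx]
    rw [hcard] at hedvd
    obtain ⟨i, -, hi⟩ := (Nat.dvd_prime_pow hp).1 hedvd
    have hr : ¬ p ∣ n / e := fun h' => hpm (h'.trans hnem)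
    have hn : n = p ^ i * (n / e) := by
      rw [← hi]
      exact (Nat.mul_div_cancel' hen).symm
    have h1 : ordCompl[p] n = n / e := by
      conv_lhs => rw [hn]
      exact Nat.ordCompl_pow_mul_of_not_dvd i hp hr
    have h2 := Nat.ordProj_mul_ordCompl_eq_self n p
    rw [h1] at h2
    have h4 : 0 < n / e := Nat.div_pos (Nat.le_of_dvd hn0 hen) he0
    have h5 : ordProj[p] n * (n / e) = e * (n / e) := by
      rw [h2]
      exact (Nat.mul_div_cancel' hen).symm
    have h6 := Nat.eq_of_mul_eq_mul_right h4 h5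
    rw [he, h6]

/-- A normal `p`-complement and a Sylow `p`-subgroup generate. -/
theorem sup_sylow_eq_top (p j : ℕ) [hp : Fact p.Prime] {X : Type u} [Group X] [Finite X]
    (Q₀ : Subgroup X) [hQ₀ : Q₀.Normal] (hcop : (Nat.card Q₀).Coprime p) (hidx : Q₀.index = p ^ j)
    (P₁ : Sylow p X) : ∀ t : X, ∃ q ∈ Q₀, ∃ x ∈ (P₁ : Subgroup X), t = q * x := by
  have hcard : Nat.card X = Nat.card Q₀ * p ^ j := by
    rw [← hidx, Subgroup.card_mul_index]
  have hQ0 : Nat.card Q₀ ≠ 0 := Nat.card_pos.ne'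
  have hfac : (Nat.card X).factorization p = j := by
    rw [hcard, Nat.factorization_mul hQ0 (pow_ne_zero _ hp.out.ne_zero),
      Nat.Prime.factorization_pow hp.out]
    have h0 : (Nat.card Q₀).factorization p = 0 := by
      apply Nat.factorization_eq_zero_of_not_dvd
      intro hdvd
      have := Nat.Coprime.eq_one_of_dvd hcop.symm hdvd
      exact hp.out.one_lt.ne' this
    simp [h0]
  have hP1 : Nat.card (P₁ : Subgroup X) = p ^ j := by
    rw [Sylow.card_eq_multiplicity, hfac]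
  have hcompl : Subgroup.IsComplement' Q₀ (P₁ : Subgroup X) := by
    apply Subgroup.isComplement'_of_coprime
    · rw [hP1, hcard]
    · rw [hP1]
      exact Nat.Coprime.pow_right j hcop
  have hsup := hcompl.sup_eq_top
  intro t
  have ht : t ∈ (↑(Q₀ ⊔ (P₁ : Subgroup X)) : Set X) := by rw [hsup]; trivial
  rw [Subgroup.normal_mul] at ht
  obtain ⟨q, hq, x, hx, rfl⟩ := Set.mem_mul.1 ht
  exact ⟨q, hq, x, hx, rfl⟩

variable {N K : Subgroup G} {p : ℕ}

/-- The Frobenius-type case with `|G : N| = m`, for a minimal counterexample. -/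
theorem caseB2 (h : Frob N K p) (hsolv : Group.IsSolvable G) (m n : ℕ) (h3 : H3 G m n)
    (hm1 : 1 < m) (hmn : m < n) (hidx : N.index = m)
    (hmin : ∀ L : Subgroup G, L.Normal → L ≠ ⊥ → derivedSeries G 3 ≤ L) :
    derivedSeries G 3 = ⊥ := by
  classical
  have hN := h.hNn
  have hK := h.hKn
  have hp := h.hp
  haveI : Fact p.Prime := ⟨hp⟩
  have hpm : ¬ p ∣ m := hidx ▸ h.not_dvd_index
  rcases h.degrees_of_index_eq_m m n h3 hm1 hidx with h2 | ⟨hpn, hdeg⟩
  · exact derived_three_of_le N h.hcomm (metabelian_of_H2 _ h2)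
  by_contra hV
  set V : Subgroup G := derivedSeries G 3 with hVdef
  have hnl : ∀ ψ : N → ℂ, IsIrrCharacter N ψ → ∀ e : ℕ, ψ 1 = e → e ≠ 1 → p ∣ e :=
    fun ψ hψ e he he1 => (hdeg ψ hψ e he he1).1
  -- Thompson: a normal p-complement of N
  obtain ⟨Q₀, hQ₀n, hQ₀cop, j, hQ₀idx⟩ := Cfsg.Agent.S4456.result (G := N) p hp (by
    intro χ hχ1
    obtain ⟨h1, -⟩ := irr_apply_one_eq_charDegree χ.2
    exact hnl _ χ.2 _ h1 hχ1)
  have hcopidx : Nat.Coprime (Nat.card Q₀) Q₀.index := by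
    rw [hQ₀idx]; exact Nat.Coprime.pow_right j hQ₀cop
  set Q : Subgroup G := Q₀.map N.subtype with hQdef
  haveI hQn : Q.Normal := normal_map_of_hall N Q₀ hcopidx
  have hQN : Q ≤ N := by
    rintro _ ⟨x, -, rfl⟩
    exact x.2
  have hQcard : Nat.card Q = Nat.card Q₀ :=
    (Nat.card_congr (Q₀.equivMapOfInjective N.subtype N.subtype_injective).toEquiv).symm
  have hQcop : (Nat.card Q).Coprime p := by rw [hQcard]; exact hQ₀cop
  have hn0 : 0 < n := by omega
  -- V ≤ Q
  have hVQ : V ≤ Q := by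
    apply derived_three_le_of_quotient_metabelian N h.hcomm Q₀
    exact metabelian_of_H2 _ (quotient_H2_of_degrees p j hp N Q₀ hQ₀idx m n (by omega) hpm hdeg hn0)
  -- the prime r
  have hVcard : Nat.card V ≠ 1 := by
    intro h1
    apply hV
    exact Subgroup.card_eq_one.1 h1
  obtain ⟨r, hr, hrV⟩ := Nat.exists_prime_and_dvd hVcard
  haveI : Fact r.Prime := ⟨hr⟩
  have hrp : r ≠ p := by
    intro hrp
    have h1 : p ∣ Nat.card Q := (hrp ▸ hrV).trans (Subgroup.card_dvd_of_le hVQ)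
    have := Nat.Coprime.eq_one_of_dvd hQcop.symm h1
    exact hp.one_lt.ne' this
  haveI hFn : (Cfsg.fittingSubgroup G).Normal := fittingSubgroup_normal
  have hFr : IsPGroup r (Cfsg.fittingSubgroup G) := fitting_isPGroup V hV hmin r hr hrV
  have hFK : Cfsg.fittingSubgroup G ≤ K := h.le_of_pgroup_normal _ r hr hrp hFr
  have hFQ : Cfsg.fittingSubgroup G ≤ Q :=
    le_map_of_pgroup N Q₀ p j hp hQ₀idx _ (hFK.trans h.hKN) r hr hrp hFr
  have hcommF := h.commutator_mem_fitting hsolv m n h3 hm1 hmn hidx hFK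
  -- Y = N'
  set Y : Subgroup G := (commutator N).map N.subtype with hYdef
  haveI hYn : Y.Normal := by
    haveI : (commutator N).Characteristic := Subgroup.commutator_characteristic _ _
    exact ConjAct.normal_of_characteristic_of_normal
  have hYN : Y ≤ N := by
    rintro _ ⟨x, -, rfl⟩
    exact x.2
  have hYc : ∀ y : Y, (⟨y, hYN y.2⟩ : N) ∈ commutator N := by
    rintro ⟨_, ⟨c, hc, rfl⟩⟩
    exact hc
  have hYF : Y ≤ Cfsg.fittingSubgroup G := by
    rw [hYdef, Subgroup.map_le_iff_le_comap, commutator_def, Subgroup.commutator_le]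
    intro a _ b _
    rw [Subgroup.mem_comap, commutatorElement_def]
    exact hcommF a a.2 b b.2
  have hYQ : Y ≤ Q := hYF.trans hFQ
  have hYr : IsPGroup r Y := hFr.to_le hYF
  have hcommY : ∀ a ∈ N, ∀ b ∈ N, a * b * a⁻¹ * b⁻¹ ∈ Y := by
    intro a ha b hb
    refine ⟨(⟨a, ha⟩ : N) * ⟨b, hb⟩ * (⟨a, ha⟩ : N)⁻¹ * (⟨b, hb⟩ : N)⁻¹, ?_, rfl⟩
    rw [commutator_def, ← commutatorElement_def]
    exact Subgroup.commutator_mem_commutator (Subgroup.mem_top _) (Subgroup.mem_top _)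
  -- the Sylow p-subgroup
  obtain ⟨PG⟩ : Nonempty (Sylow p G) := inferInstance
  set P : Subgroup G := (PG : Subgroup G) with hPdef
  have hPp : IsPGroup p P := PG.isPGroup'
  have hPN : P ≤ N := by
    intro x hx
    obtain ⟨k, hk⟩ := hPp ⟨x, hx⟩
    have hk' : x ^ p ^ k = 1 := by
      have := congrArg (fun q : P => (q : G)) hk
      simpa using this
    apply mem_of_coprime_orderOf N x (p ^ k) hk'
    rw [hidx]
    exact Nat.Coprime.pow_left k ((Nat.Prime.coprime_iff_not_dvd hp).2 hpm)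
  have hprod : ∀ t ∈ N, ∃ q ∈ Q, ∃ x ∈ P, t = q * x := by
    intro t ht
    obtain ⟨q, hq, x, hx, hqx⟩ := sup_sylow_eq_top p j Q₀ hQ₀cop hQ₀idx (PG.subtype hPN) ⟨t, ht⟩
    refine ⟨q, ⟨q, hq, rfl⟩, x, ?_, ?_⟩
    · rw [Sylow.coe_subtype, Subgroup.mem_subgroupOf] at hx
      exact hx
    · have := congrArg (fun q : N => (q : G)) hqx
      simpa using this
  have hrel : ∃ j : ℕ, Q.relIndex N = p ^ j := by
    refine ⟨j, ?_⟩
    rw [← hQ₀idx]
    unfold Subgroup.relIndex
    congr 1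
    rw [hQdef]
    exact Subgroup.comap_map_eq_self_of_injective N.subtype_injective Q₀
  have hPY : ∀ s ∈ P, ∀ y ∈ Y, s * y * s⁻¹ ∈ Y := fun s _ y hy => hYn.conj_mem y hy s
  have htriv := trivial_of_invariant p hp N Q Y P hQN hYQ hPN
    (fun t _ g hg => hQn.conj_mem g hg t) (fun g _ y hy => hYn.conj_mem y hy g) hPY hprod
    hQcop hPp hrel hnl hYc
  have hcopYP : (Nat.card Y).Coprime (Nat.card P) :=
    IsPGroup.coprime_card_of_ne r p hrp Y P hYr hPp
  have hPsolv : Group.IsSolvable P := by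
    haveI := hPp.isNilpotent
    infer_instance
  have hcent : ∀ y ∈ Y, (∀ s ∈ P, s * y * s⁻¹ = y) → y = 1 := fun y hy hc =>
    centralizer_trivial Y P hPY hcopYP hPsolv htriv y hy hc
  have hYP : ∀ y ∈ Y, y ∈ P → y = 1 := by
    intro y hyY hyP
    have hdis := IsPGroup.disjoint_of_ne r p hrp Y P hYr hPp
    have := Subgroup.disjoint_def.1 hdis hyY hyP
    exact this
  obtain ⟨H, hYH, hHY⟩ := exists_complement_of_sylow p N Y hYN hcommY PG hPN hYP hcent
  have hab := abelian_of_split p r hp hr N m n h3 hpm hnl Y hYN hYc hYr H hYH hHY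
  apply hV
  apply derived_three_of_le N h.hcomm
  intro a ha b hb
  apply Subtype.ext
  exact hab a ⟨a, ha, rfl⟩ b ⟨b, hb, rfl⟩

end Cfsg.Agent.Lib.Helper8.DH
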