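import Mathlib
import Cfsg.Agent.Lib.Helper8.DH16
import Cfsg.Agent.Lib.Helper8.DG2

set_option autoImplicit false
set_option linter.unusedSectionVars false
set_option linter.unusedVariables false

/-! Solvable groups with at most three character degrees have derived length at most three. -/

namespace Cfsg.Agent.Lib.Helper8.DH

open Cfsg Cfsg.Agent.Lib.Helper1 Cfsg.Agent.Lib.Helper4 Cfsg.Agent.Lib.Helper4.TD
open Cfsg.Agent.Lib.Helper8

universe u

/-- The ordered case, by induction on the order. -/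
theorem derived_three_aux : ∀ (c : ℕ) (G : Type u) [Group G] [Finite G], Nat.card G = c →
    Group.IsSolvable G → ∀ m n : ℕ, H3 G m n → 1 < m → m < n →
    (∃ χ : G → ℂ, Cfsg.IsIrrCharacter G χ ∧ χ 1 = (m : ℂ)) →
    (∃ χ : G → ℂ, Cfsg.IsIrrCharacter G χ ∧ χ 1 = (n : ℂ)) →
    (∀ (c' : ℕ), c' < c → ∀ (G' : Type u) [Group G'] [Finite G'], Nat.card G' = c' →
      Group.IsSolvable G' → ∀ m' n' : ℕ, H3 G' m' n' → derivedSeries G' 3 = ⊥) →
    derivedSeries G 3 = ⊥ := by
  intro c G _ _ hc hsolv m n h3 hm1 hmn hexm hexn ih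
  classical
  have hmin : ∀ L : Subgroup G, L.Normal → L ≠ ⊥ → derivedSeries G 3 ≤ L := by
    intro L hL hLb
    haveI := hL
    apply derived_le_of_quotient L 3
    have hlt : Nat.card (G ⧸ L) < c := by
      rw [← hc, ← Subgroup.index_eq_card, ← Subgroup.card_mul_index L]
      have h1 : 1 < Nat.card L := by
        rw [Subgroup.one_lt_card_iff_ne_bot]
        exact hLb
      have h2 : 0 < L.index := Nat.pos_of_ne_zero Subgroup.index_ne_zero_of_finite
      nlinarith
    have hqs : Group.IsSolvable (G ⧸ L) :=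
      Group.isSolvable_of_surjective (QuotientGroup.mk'_surjective L)
    exact ih _ hlt (G ⧸ L) rfl hqs m n (h3.quotient L)
  have hnab : ∃ a b : G, a * b ≠ b * a := by
    by_contra hcon
    push Not at hcon
    obtain ⟨χ, hχ, hχ1⟩ := hexm
    have hdvd := ito_dvd (⊤ : Subgroup G) (fun a _ b _ => hcon a b) hχ m hχ1
    rw [Subgroup.index_top] at hdvd
    have : m = 1 := Nat.dvd_one.1 hdvd
    omega
  obtain ⟨p, K, N, hp, hKn, hNn, hKN, hnabK, hcase⟩ :=
    Cfsg.Agent.Lib.Helper8.DG.exists_quotient_dichotomy hsolv hnab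
  rcases hcase with ⟨-, k, hk⟩ | ⟨hNtop, hne, hcomm, hab, hrel, hfpf⟩
  · haveI := hKn
    exact caseA p k hp K hk hnabK m n h3 hm1 hmn hexm hexn
  · have hF : Frob N K p := ⟨hp, hNn, hKn, hKN, hne, hNtop, hcomm, hab, hrel, hfpf⟩
    obtain ⟨χ, hχ, hχ1⟩ := hF.exists_index
    rcases h3.nat hχ hχ1 with h' | h' | h'
    · have := hF.one_lt_index
      omega
    · exact caseB2 hF hsolv m n h3 hm1 hmn h' hmin
    · exact caseB1 hF m n h3 hm1 hmn h'

/-- Solvable groups with at most three character degrees have derived length at most three. -/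
theorem derived_three_of_H3_solvable : ∀ (c : ℕ) (G : Type u) [Group G] [Finite G],
    Nat.card G = c → Group.IsSolvable G → ∀ m n : ℕ, H3 G m n → derivedSeries G 3 = ⊥ := by
  intro c
  induction c using Nat.strong_induction_on with
  | _ c ih =>
  intro G _ _ hc hsolv m n h3
  by_cases hexm : ∃ χ : G → ℂ, Cfsg.IsIrrCharacter G χ ∧ χ 1 = (m : ℂ)
  swap
  · exact derived_three_of_H2 n (h3.H2_right hexm)
  by_cases hexn : ∃ χ : G → ℂ, Cfsg.IsIrrCharacter G χ ∧ χ 1 = (n : ℂ)
  swap
  · exact derived_three_of_H2 m (h3.H2_left hexn)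
  have hm0 : m ≠ 0 := by
    intro h0
    obtain ⟨χ, hχ, hχ1⟩ := hexm
    rw [h0, Nat.cast_zero] at hχ1
    exact irr_apply_one_ne_zero hχ hχ1
  have hn0 : n ≠ 0 := by
    intro h0
    obtain ⟨χ, hχ, hχ1⟩ := hexn
    rw [h0, Nat.cast_zero] at hχ1
    exact irr_apply_one_ne_zero hχ hχ1
  by_cases hm1 : m = 1
  · apply derived_three_of_H2 n
    intro χ hχ
    rcases h3 χ hχ with h | h | h
    · exact Or.inl h
    · left; rw [h, hm1, Nat.cast_one]
    · exact Or.inr h
  by_cases hn1 : n = 1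
  · apply derived_three_of_H2 m
    intro χ hχ
    rcases h3 χ hχ with h | h | h
    · exact Or.inl h
    · exact Or.inr h
    · left; rw [h, hn1, Nat.cast_one]
  by_cases hmn : m = n
  · apply derived_three_of_H2 m
    intro χ hχ
    rcases h3 χ hχ with h | h | h
    · exact Or.inl h
    · exact Or.inr h
    · right; rw [h, hmn]
  have ih' : ∀ (c' : ℕ), c' < c → ∀ (G' : Type u) [Group G'] [Finite G'], Nat.card G' = c' →
      Group.IsSolvable G' → ∀ m' n' : ℕ, H3 G' m' n' → derivedSeries G' 3 = ⊥ := by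
    intro c' hc' G' _ _ hG' hs' m' n' h3'
    exact ih c' hc' G' hG' hs' m' n' h3'
  rcases Nat.lt_or_gt_of_ne hmn with hlt | hgt
  · exact derived_three_aux c G hc hsolv m n h3 (by omega) hlt hexm hexn ih'
  · exact derived_three_aux c G hc hsolv n m h3.symm (by omega) hgt hexn hexm ih'

end Cfsg.Agent.Lib.Helper8.DH
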