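import Mathlib
import Cfsg.Agent.Lib.Helper8.DH17
import Cfsg.Agent.Lib.Helper1.CharFound6
import Cfsg.Agent.Lib.Helper1.CharFound8
import Cfsg.Agent.S4996

set_option autoImplicit false
set_option linter.unusedSectionVars false
set_option linter.unusedVariables false

/-! Decomposition of a character by degrees, for a group with three character degrees. -/

namespace Cfsg.Agent.Lib.Helper8.DH

open Cfsg Cfsg.Agent.Lib.Helper1 Cfsg.Agent.Lib.Helper4 Cfsg.Agent.Lib.Helper4.TD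
open Cfsg.Agent.Lib.Helper8
open scoped ComplexConjugate

universe u

variable {G : Type u} [Group G] [Fintype G]

/-- Decomposition of a character by degrees. -/
theorem H3.decomp {m n : ℕ} (h3 : H3 G m n) (hm1 : m ≠ 1) (hn1 : n ≠ 1) (hmn : m ≠ n)
    [Fintype (Cfsg.IrrCharacter G)] [DecidableEq (Cfsg.IrrCharacter G)]
    {Θ : G → ℂ} (hΘ : IsCharacter G Θ) :
    ∃ (k : Cfsg.IrrCharacter G → ℕ) (SA SB SC : Finset (Cfsg.IrrCharacter G)),
      (∀ χ : Cfsg.IrrCharacter G, classInner Θ (χ : G → ℂ) = k χ) ∧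
      (∀ x, Θ x = ∑ χ : Cfsg.IrrCharacter G, (k χ : ℂ) * (χ : G → ℂ) x) ∧
      (∀ χ : Cfsg.IrrCharacter G, χ ∈ SA ↔ (χ : G → ℂ) 1 = 1) ∧
      (∀ χ : Cfsg.IrrCharacter G, χ ∈ SB ↔ (χ : G → ℂ) 1 = m) ∧
      (∀ χ : Cfsg.IrrCharacter G, χ ∈ SC ↔ (χ : G → ℂ) 1 = n) ∧
      Θ 1 = ((∑ χ ∈ SA, k χ + m * ∑ χ ∈ SB, k χ + n * ∑ χ ∈ SC, k χ : ℕ) : ℂ) := by
  classical
  have hk : ∀ χ : Cfsg.IrrCharacter G, ∃ k : ℕ, classInner Θ (χ : G → ℂ) = k :=
    fun χ => classInner_char_irr_nat hΘ χ.2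
  choose k hk using hk
  have hexp : ∀ x, Θ x = ∑ χ : Cfsg.IrrCharacter G, (k χ : ℂ) * (χ : G → ℂ) x := by
    intro x
    have h := class_function_expansion Θ (isClassFunction_of_isCharacter hΘ)
    have h' := congrFun h x
    rw [Finset.sum_apply] at h'
    rw [h']
    apply Finset.sum_congr rfl
    intro χ _
    rw [Pi.smul_apply, smul_eq_mul, hk χ]
  set SA : Finset (Cfsg.IrrCharacter G) := Finset.univ.filter (fun χ => (χ : G → ℂ) 1 = 1)
    with hSA
  set SB : Finset (Cfsg.IrrCharacter G) := Finset.univ.filter (fun χ => (χ : G → ℂ) 1 = m)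
    with hSB
  set SC : Finset (Cfsg.IrrCharacter G) := Finset.univ.filter (fun χ => (χ : G → ℂ) 1 = n)
    with hSC
  refine ⟨k, SA, SB, SC, hk, hexp, ?_, ?_, ?_, ?_⟩
  · intro χ; rw [hSA, Finset.mem_filter]; simp
  · intro χ; rw [hSB, Finset.mem_filter]; simp
  · intro χ; rw [hSC, Finset.mem_filter]; simp
  · have h1m : (1 : ℂ) ≠ (m : ℂ) := by
      intro h; apply hm1; exact_mod_cast h.symm
    have h1n : (1 : ℂ) ≠ (n : ℂ) := by
      intro h; apply hn1; exact_mod_cast h.symm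
    have hmn' : (m : ℂ) ≠ (n : ℂ) := by
      intro h; apply hmn; exact_mod_cast h
    have hAB : Disjoint SA SB := by
      rw [Finset.disjoint_left]
      intro χ hA hB
      rw [hSA, Finset.mem_filter] at hA
      rw [hSB, Finset.mem_filter] at hB
      exact h1m (hA.2.symm.trans hB.2)
    have hABC : Disjoint (SA ∪ SB) SC := by
      rw [Finset.disjoint_left]
      intro χ hAB' hC
      rw [hSC, Finset.mem_filter] at hC
      rcases Finset.mem_union.1 hAB' with hA | hB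
      · rw [hSA, Finset.mem_filter] at hA
        exact h1n (hA.2.symm.trans hC.2)
      · rw [hSB, Finset.mem_filter] at hB
        exact hmn' (hB.2.symm.trans hC.2)
    have huniv : (Finset.univ : Finset (Cfsg.IrrCharacter G)) = (SA ∪ SB) ∪ SC := by
      ext χ
      simp only [Finset.mem_univ, Finset.mem_union, true_iff]
      rcases h3 _ χ.2 with h | h | h
      · left; left; rw [hSA, Finset.mem_filter]; exact ⟨Finset.mem_univ _, h⟩
      · left; right; rw [hSB, Finset.mem_filter]; exact ⟨Finset.mem_univ _, h⟩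
      · right; rw [hSC, Finset.mem_filter]; exact ⟨Finset.mem_univ _, h⟩
    rw [hexp 1, huniv, Finset.sum_union hABC, Finset.sum_union hAB]
    have hA : ∑ χ ∈ SA, (k χ : ℂ) * (χ : G → ℂ) 1 = ((∑ χ ∈ SA, k χ : ℕ) : ℂ) := by
      rw [Nat.cast_sum]
      apply Finset.sum_congr rfl
      intro χ hχ
      rw [hSA, Finset.mem_filter] at hχ
      rw [hχ.2, mul_one]
    have hB : ∑ χ ∈ SB, (k χ : ℂ) * (χ : G → ℂ) 1 = ((m * ∑ χ ∈ SB, k χ : ℕ) : ℂ) := by
      rw [Nat.cast_mul, Nat.cast_sum, Finset.mul_sum]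
      apply Finset.sum_congr rfl
      intro χ hχ
      rw [hSB, Finset.mem_filter] at hχ
      rw [hχ.2, mul_comm]
    have hC : ∑ χ ∈ SC, (k χ : ℂ) * (χ : G → ℂ) 1 = ((n * ∑ χ ∈ SC, k χ : ℕ) : ℂ) := by
      rw [Nat.cast_mul, Nat.cast_sum, Finset.mul_sum]
      apply Finset.sum_congr rfl
      intro χ hχ
      rw [hSC, Finset.mem_filter] at hχ
      rw [hχ.2, mul_comm]
    rw [hA, hB, hC]
    push_cast
    ring

end Cfsg.Agent.Lib.Helper8.DH
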