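import Mathlib
import Cfsg.Agent.Lib.Helper8.DH18
import Cfsg.Agent.Lib.Helper4.Gallagher
import Cfsg.Agent.Lib.Helper8.RDG5
import Cfsg.Agent.S0168

set_option autoImplicit false
set_option linter.unusedSectionVars false
set_option linter.unusedVariables false

/-! Products of characters in a group with three coprime character degrees all of whose
non-linear irreducible characters are faithful. -/

namespace Cfsg.Agent.Lib.Helper8.DH

open Cfsg Cfsg.Agent.Lib.Helper1 Cfsg.Agent.Lib.Helper4 Cfsg.Agent.Lib.Helper4.TD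
open Cfsg.Agent.Lib.Helper8
open scoped ComplexConjugate

universe u

variable {G : Type u} [Group G] [Fintype G]

theorem classInner_mul_left_eq (a b c : G → ℂ) :
    classInner (fun g => a g * b g) c = classInner b (fun g => c g * conj (a g)) := by
  rw [classInner_def, classInner_def]
  congr 1
  apply Finset.sum_congr rfl
  intro g _
  rw [map_mul, Complex.conj_conj]
  ring

theorem classInner_mul_left_conj (a b c : G → ℂ) :
    classInner (fun g => a g * b g) c = conj (classInner (fun g => conj (a g) * c g) b) := by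
  rw [classInner_def, classInner_def, map_mul, map_inv₀, Complex.conj_natCast, map_sum]
  congr 1
  apply Finset.sum_congr rfl
  intro g _
  rw [map_mul, map_mul, Complex.conj_conj, Complex.conj_conj]
  ring

/-- The product of two characters of degree `m`, not twists of duals of each other, has no
constituent of degree `n`. -/
theorem mul_no_large_of_not_twist {m n : ℕ} (h3 : H3 G m n) (hm1 : 1 < m) (hmn : m < n)
    (hcop : Nat.Coprime m n) {α β : G → ℂ} (hα : IsIrrCharacter G α) (hα1 : α 1 = m)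
    (hβ : IsIrrCharacter G β) (hβ1 : β 1 = m)
    (hnt : ∀ lam : G →* ℂˣ, β ≠ fun g => ((lam g : ℂˣ) : ℂ) * conj (α g))
    {ψ : G → ℂ} (hψ : IsIrrCharacter G ψ) (hψ1 : ψ 1 = n) :
    classInner (fun g => α g * β g) ψ = 0 := by
  classical
  haveI : Fintype (Cfsg.IrrCharacter G) := Fintype.ofFinite _
  have hΘ : IsCharacter G (fun g => α g * β g) :=
    Cfsg.Agent.S4996.isCharacter_mul (isCharacter_of_irr hα) (isCharacter_of_irr hβ)
  obtain ⟨k, SA, SB, SC, hk, hexp, hSA, hSB, hSC, hdeg⟩ :=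
    h3.decomp (by omega) (by omega) (by omega) hΘ
  have hA : ∑ χ ∈ SA, k χ = 0 := by
    apply Finset.sum_eq_zero
    intro χ hχ
    have hχ1 := (hSA χ).1 hχ
    obtain ⟨lam, hlam⟩ := exists_hom_of_isIrrCharacter χ.2 hχ1
    have h1 : classInner (fun g => α g * β g) (χ : G → ℂ) = 0 := by
      rw [classInner_mul_left_eq, hlam]
      exact classInner_irr_ne hβ (isIrrCharacter_hom_mul lam (isIrrCharacter_conj hα)) (hnt lam)
    rw [hk χ] at h1
    exact_mod_cast h1
  set B := ∑ χ ∈ SB, k χ with hB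
  set C := ∑ χ ∈ SC, k χ with hC
  have hdeg' : m * m = m * B + n * C := by
    have h1 : ((m * m : ℕ) : ℂ) = ((∑ χ ∈ SA, k χ + m * B + n * C : ℕ) : ℂ) := by
      rw [← hdeg]
      show _ = α 1 * β 1
      rw [hα1, hβ1]
      push_cast
      ring
    rw [hA, zero_add] at h1
    exact_mod_cast h1
  have hC0 : C = 0 := by
    have h1 : m ∣ n * C := by
      have h2 : m ∣ m * B + n * C := hdeg' ▸ dvd_mul_right m m
      exact (Nat.dvd_add_right (dvd_mul_right m B)).1 h2
    have h2 : m ∣ C := hcop.dvd_of_dvd_mul_left h1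
    by_contra hC0
    have h3' : m ≤ C := Nat.le_of_dvd (Nat.pos_of_ne_zero hC0) h2
    have h4 : m * m < n * C := by nlinarith
    omega
  have hkψ : k ⟨ψ, hψ⟩ = 0 :=
    (Finset.sum_eq_zero_iff.1 hC0) ⟨ψ, hψ⟩ ((hSC ⟨ψ, hψ⟩).2 hψ1)
  have := hk ⟨ψ, hψ⟩
  rw [hkψ, Nat.cast_zero] at this
  exact this

/-- A normal subgroup on which an irreducible character has the trivial character as a
constituent lies in the kernel. -/
theorem apply_eq_of_trivial_constituent (N : Subgroup G) [hN : N.Normal] [Fintype N] {χ : G → ℂ}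
    (hχ : IsIrrCharacter G χ)
    (hover : classInner (fun n : N => χ n) (fun _ => (1 : ℂ)) ≠ 0) (x : G) (hx : x ∈ N) :
    χ x = χ 1 := by
  classical
  have h := Cfsg.Agent.Lib.Helper8.RDG.clifford_sum N hχ (Cfsg.Agent.S0161.isIrrCharacter_one) hover
  have hx' := congrFun h ⟨x, hx⟩
  have h1' := congrFun h 1
  simp only [Pi.smul_apply, Finset.sum_apply, smul_eq_mul] at hx' h1'
  have hconst : ∀ ψ ∈ Cfsg.Agent.Lib.Helper8.RDG.orbitFinset N (fun _ : N => (1 : ℂ)),
      ∀ y : N, ψ y = 1 := by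
    intro ψ hψ y
    obtain ⟨g, rfl⟩ := (Cfsg.Agent.Lib.Helper8.RDG.mem_orbitFinset N).1 hψ
    rfl
  rw [Finset.sum_congr rfl (fun ψ hψ => hconst ψ hψ ⟨x, hx⟩)] at hx'
  rw [Finset.sum_congr rfl (fun ψ hψ => hconst ψ hψ 1)] at h1'
  have h2 : χ ((1 : N) : G) = χ 1 := by rw [Subgroup.coe_one]
  rw [← h2, h1', ← hx']

/-- For `α` of degree `m` and `ψ` of degree `n`, the product `α ψ` does not contain `α`. -/
theorem mul_large_no_self {m n : ℕ} (h3 : H3 G m n) (hm1 : 1 < m) (hmn : m < n)
    (hcop : Nat.Coprime m n)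
    (hfaith : ∀ χ : G → ℂ, IsIrrCharacter G χ → χ 1 ≠ 1 → ∀ g, χ g = χ 1 → g = 1)
    (hG' : commutator G ≠ ⊥) {α ψ : G → ℂ} (hα : IsIrrCharacter G α) (hα1 : α 1 = m)
    (hψ : IsIrrCharacter G ψ) (hψ1 : ψ 1 = n) :
    classInner (fun g => α g * ψ g) α = 0 := by
  classical
  haveI : Fintype (Cfsg.IrrCharacter G) := Fintype.ofFinite _
  have hΘ : IsCharacter G (fun g => α g * ψ g) :=
    Cfsg.Agent.S4996.isCharacter_mul (isCharacter_of_irr hα) (isCharacter_of_irr hψ)
  obtain ⟨k, SA, SB, SC, hk, hexp, hSA, hSB, hSC, hdeg⟩ :=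
    h3.decomp (by omega) (by omega) (by omega) hΘ
  have hmnC : (m : ℂ) ≠ (n : ℂ) := by
    intro h
    have : m = n := by exact_mod_cast h
    omega
  have hA : ∀ χ ∈ SA, k χ = 0 := by
    intro χ hχ
    have hχ1 := (hSA χ).1 hχ
    obtain ⟨lam, hlam⟩ := exists_hom_of_isIrrCharacter χ.2 hχ1
    have hirr := isIrrCharacter_hom_mul lam (isIrrCharacter_conj hα)
    have hne : ψ ≠ fun g => ((lam g : ℂˣ) : ℂ) * conj (α g) := by
      intro h
      have h1 := congrFun h 1
      simp only [map_one, Units.val_one, one_mul] at h1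
      rw [hψ1, hα1, Complex.conj_natCast] at h1
      exact hmnC h1.symm
    have h1 : classInner (fun g => α g * ψ g) (χ : G → ℂ) = 0 := by
      rw [classInner_mul_left_eq, hlam]
      exact classInner_irr_ne hψ hirr hne
    rw [hk χ] at h1
    exact_mod_cast h1
  have hAsum : ∑ χ ∈ SA, k χ = 0 := Finset.sum_eq_zero hA
  set B := ∑ χ ∈ SB, k χ with hB
  set C := ∑ χ ∈ SC, k χ with hC
  have hdeg' : m * n = m * B + n * C := by
    have h1 : ((m * n : ℕ) : ℂ) = ((∑ χ ∈ SA, k χ + m * B + n * C : ℕ) : ℂ) := by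
      rw [← hdeg]
      show _ = α 1 * ψ 1
      rw [hα1, hψ1]
      push_cast
      ring
    rw [hAsum, zero_add] at h1
    exact_mod_cast h1
  have hαSB : (⟨α, hα⟩ : Cfsg.IrrCharacter G) ∈ SB := (hSB ⟨α, hα⟩).2 hα1
  by_cases hB0 : B = 0
  · have hkα : k ⟨α, hα⟩ = 0 := (Finset.sum_eq_zero_iff.1 hB0) ⟨α, hα⟩ hαSB
    have := hk ⟨α, hα⟩
    rw [hkα, Nat.cast_zero] at this
    exact this
  exfalso
  have hnB : n ∣ B := by
    have h1 : n ∣ m * B := by
      have h2 : n ∣ m * B + n * C := hdeg' ▸ dvd_mul_left n m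
      exact (Nat.dvd_add_left (dvd_mul_right n C)).1 h2
    exact hcop.symm.dvd_of_dvd_mul_left h1
  have hBn : B = n ∧ C = 0 := by
    have h1 : n ≤ B := Nat.le_of_dvd (Nat.pos_of_ne_zero hB0) hnB
    have h2 : m * n ≤ m * B := Nat.mul_le_mul_left m h1
    have h3' : n * C = 0 := by omega
    have h4 : C = 0 := by
      rcases Nat.mul_eq_zero.1 h3' with h | h
      · omega
      · exact h
    refine ⟨?_, h4⟩
    rw [h4, mul_zero, add_zero] at hdeg'
    exact (Nat.eq_of_mul_eq_mul_left (by omega) hdeg').symm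
  obtain ⟨hBn', hC0⟩ := hBn
  have hCz : ∀ χ ∈ SC, k χ = 0 := Finset.sum_eq_zero_iff.1 hC0
  -- constituents are twists of α
  have hconjirr : IsIrrCharacter G (fun g => conj (α g)) := isIrrCharacter_conj hα
  have hconj1 : (fun g => conj (α g)) 1 = (m : ℂ) := by
    show conj (α 1) = m
    rw [hα1, Complex.conj_natCast]
  have htwist : ∀ χ ∈ SB, k χ ≠ 0 → ∃ lam : G →* ℂˣ,
      (χ : G → ℂ) = fun g => ((lam g : ℂˣ) : ℂ) * α g := by
    intro χ hχ hkχ
    by_contra hcon
    push Not at hcon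
    apply hkχ
    have h1 := mul_no_large_of_not_twist h3 hm1 hmn hcop hconjirr hconj1 χ.2 ((hSB χ).1 hχ)
      (fun lam => by
        have := hcon lam
        simpa [Complex.conj_conj] using this) hψ hψ1
    have h2 : classInner (fun g => α g * ψ g) (χ : G → ℂ) = 0 := by
      rw [classInner_mul_left_conj, h1, map_zero]
    rw [hk χ] at h2
    exact_mod_cast h2
  -- evaluation on the commutator subgroup
  have heval : ∀ x ∈ commutator G, α x * ψ x = (n : ℂ) * α x := by
    intro x hx
    have h1 := hexp x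
    rw [h1]
    have hout : ∀ χ ∈ (Finset.univ : Finset (Cfsg.IrrCharacter G)), χ ∉ SB →
        (k χ : ℂ) * (χ : G → ℂ) x = 0 := by
      intro χ _ hχ
      have hk0 : k χ = 0 := by
        rcases h3 _ χ.2 with h | h | h
        · exact hA χ ((hSA χ).2 h)
        · exact absurd ((hSB χ).2 h) hχ
        · exact hCz χ ((hSC χ).2 h)
      rw [hk0, Nat.cast_zero, zero_mul]
    rw [← Finset.sum_subset (Finset.subset_univ SB) hout]
    have hterm : ∀ χ ∈ SB, (k χ : ℂ) * (χ : G → ℂ) x = (k χ : ℂ) * α x := by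
      intro χ hχ
      by_cases hkχ : k χ = 0
      · rw [hkχ, Nat.cast_zero, zero_mul, zero_mul]
      · obtain ⟨lam, hlam⟩ := htwist χ hχ hkχ
        rw [hlam]
        have hlx : lam x = 1 := by
          have h2 : commutator G ≤ lam.ker := by
            rw [commutator_def, Subgroup.commutator_le]
            intro a _ b _
            rw [MonoidHom.mem_ker, map_commutatorElement]
            exact commutatorElement_eq_one_iff_commute.2 (Commute.all _ _)
          exact h2 hx
        simp only [hlx, Units.val_one, one_mul]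
    rw [Finset.sum_congr rfl hterm, ← Finset.sum_mul, ← Nat.cast_sum, ← hB, hBn']
  have hψne1 : ψ 1 ≠ 1 := by
    rw [hψ1]
    intro h
    have : n = 1 := by exact_mod_cast h
    omega
  have hα1ne : α 1 ≠ 1 := by
    rw [hα1]
    intro h
    have : m = 1 := by exact_mod_cast h
    omega
  have hvan : ∀ x ∈ commutator G, x ≠ 1 → α x = 0 := by
    intro x hx hx1
    have h1 := heval x hx
    by_contra hne
    have h2 : ψ x = ψ 1 := by
      rw [hψ1]
      have h4 : α x * ψ x = α x * (n : ℂ) := by rw [h1, mul_comm]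
      exact mul_left_cancel₀ hne h4
    exact hx1 (hfaith ψ hψ hψne1 x h2)
  -- the trivial character is a constituent of the restriction of α
  haveI : Fintype (commutator G) := Fintype.ofFinite _
  have hover : classInner (fun y : commutator G => α y) (fun _ => (1 : ℂ)) ≠ 0 := by
    rw [classInner_def]
    have hsum : ∑ y : commutator G, α y * conj (1 : ℂ) = α 1 := by
      rw [Finset.sum_eq_single (1 : commutator G)]
      · simp
      · intro y _ hy
        have hy1 : (y : G) ≠ 1 := by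
          intro h
          apply hy
          exact Subtype.ext h
        rw [hvan y y.2 hy1, zero_mul]
      · intro h
        exact absurd (Finset.mem_univ _) h
    rw [hsum, hα1]
    apply mul_ne_zero
    · apply inv_ne_zero
      exact Nat.cast_ne_zero.2 Nat.card_pos.ne'
    · exact Nat.cast_ne_zero.2 (by omega)
  apply hG'
  rw [Subgroup.eq_bot_iff_forall]
  intro x hx
  exact hfaith α hα hα1ne x (apply_eq_of_trivial_constituent (commutator G) hα hover x hx)

/-- The product of two characters of degree `m` has no constituent of degree `n`. -/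
theorem mul_no_large {m n : ℕ} (h3 : H3 G m n) (hm1 : 1 < m) (hmn : m < n)
    (hcop : Nat.Coprime m n)
    (hfaith : ∀ χ : G → ℂ, IsIrrCharacter G χ → χ 1 ≠ 1 → ∀ g, χ g = χ 1 → g = 1)
    (hG' : commutator G ≠ ⊥) {α β ψ : G → ℂ} (hα : IsIrrCharacter G α) (hα1 : α 1 = m)
    (hβ : IsIrrCharacter G β) (hβ1 : β 1 = m) (hψ : IsIrrCharacter G ψ) (hψ1 : ψ 1 = n) :
    classInner (fun g => α g * β g) ψ = 0 := by
  by_cases h : ∃ lam : G →* ℂˣ, β = fun g => ((lam g : ℂˣ) : ℂ) * conj (α g)
  · obtain ⟨lam, rfl⟩ := h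
    set ψ'' : G → ℂ := fun g => ((lam g : ℂˣ) : ℂ) * conj (ψ g) with hψ''def
    have hψ'' : IsIrrCharacter G ψ'' := isIrrCharacter_hom_mul lam (isIrrCharacter_conj hψ)
    have hψ''1 : ψ'' 1 = n := by
      show ((lam 1 : ℂˣ) : ℂ) * conj (ψ 1) = n
      rw [map_one, Units.val_one, one_mul, hψ1, Complex.conj_natCast]
    have h0 := mul_large_no_self h3 hm1 hmn hcop hfaith hG' hα hα1 hψ'' hψ''1
    rw [← h0, classInner_def, classInner_def]
    congr 1
    apply Finset.sum_congr rfl
    intro g _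
    rw [hψ''def]
    ring
  · push Not at h
    exact mul_no_large_of_not_twist h3 hm1 hmn hcop hα hα1 hβ hβ1 h hψ hψ1

theorem isCharacter_pow_fn {α : G → ℂ} (hα : IsCharacter G α) (i : ℕ) :
    IsCharacter G (fun g => α g ^ i) := by
  induction i with
  | zero =>
    simp only [pow_zero]
    exact isCharacter_of_irr Cfsg.Agent.S0161.isIrrCharacter_one
  | succ i ih =>
    have := Cfsg.Agent.S4996.isCharacter_mul ih hα
    simpa [pow_succ] using this

/-- Powers of a character of degree `m` have no constituent of degree `n`. -/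
theorem pow_no_large {m n : ℕ} (h3 : H3 G m n) (hm1 : 1 < m) (hmn : m < n)
    (hcop : Nat.Coprime m n)
    (hfaith : ∀ χ : G → ℂ, IsIrrCharacter G χ → χ 1 ≠ 1 → ∀ g, χ g = χ 1 → g = 1)
    (hG' : commutator G ≠ ⊥) {α : G → ℂ} (hα : IsIrrCharacter G α) (hα1 : α 1 = m) :
    ∀ i : ℕ, ∀ ψ : G → ℂ, IsIrrCharacter G ψ → ψ 1 = n →
      classInner (fun g => α g ^ i) ψ = 0 := by
  classical
  haveI : Fintype (Cfsg.IrrCharacter G) := Fintype.ofFinite _
  intro i
  induction i with
  | zero =>
    intro ψ hψ hψ1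
    simp only [pow_zero]
    apply classInner_irr_ne Cfsg.Agent.S0161.isIrrCharacter_one hψ
    intro h
    have h1 := congrFun h 1
    rw [hψ1] at h1
    have : n = 1 := by exact_mod_cast h1.symm
    omega
  | succ i ih =>
    intro ψ hψ hψ1
    have hΘ := isCharacter_pow_fn (isCharacter_of_irr hα) i
    obtain ⟨k, SA, SB, SC, hk, hexp, hSA, hSB, hSC, hdeg⟩ :=
      h3.decomp (by omega) (by omega) (by omega) hΘ
    have hfun : (fun g => α g ^ (i + 1))
        = ∑ χ : Cfsg.IrrCharacter G, (k χ : ℂ) • (fun g => (χ : G → ℂ) g * α g) := by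
      funext g
      rw [Finset.sum_apply, pow_succ, hexp g, Finset.sum_mul]
      apply Finset.sum_congr rfl
      intro χ _
      rw [Pi.smul_apply, smul_eq_mul, mul_assoc]
    rw [hfun, classInner_sum_left]
    apply Finset.sum_eq_zero
    intro χ _
    rw [classInner_smul_left]
    rcases h3 _ χ.2 with h | h | h
    · obtain ⟨lam, hlam⟩ := exists_hom_of_isIrrCharacter χ.2 h
      have hirr := isIrrCharacter_hom_mul lam hα
      have hne : (fun g => ((lam g : ℂˣ) : ℂ) * α g) ≠ ψ := by
        intro h'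
        have h1 := congrFun h' 1
        simp only [map_one, Units.val_one, one_mul] at h1
        rw [hψ1, hα1] at h1
        have : m = n := by exact_mod_cast h1
        omega
      rw [hlam, classInner_irr_ne hirr hψ hne, mul_zero]
    · rw [mul_no_large h3 hm1 hmn hcop hfaith hG' χ.2 h hα hα1 hψ hψ1, mul_zero]
    · have h0 := ih _ χ.2 h
      rw [hk χ] at h0
      rw [h0, zero_mul]

/-- The final contradiction from Burnside-Brauer. -/
theorem false_of_faithful {m n : ℕ} (h3 : H3 G m n) (hm1 : 1 < m) (hmn : m < n)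
    (hcop : Nat.Coprime m n)
    (hfaith : ∀ χ : G → ℂ, IsIrrCharacter G χ → χ 1 ≠ 1 → ∀ g, χ g = χ 1 → g = 1)
    (hG' : commutator G ≠ ⊥)
    (hexm : ∃ χ : G → ℂ, IsIrrCharacter G χ ∧ χ 1 = (m : ℂ))
    (hexn : ∃ χ : G → ℂ, IsIrrCharacter G χ ∧ χ 1 = (n : ℂ)) : False := by
  obtain ⟨α, hα, hα1⟩ := hexm
  obtain ⟨ψ, hψ, hψ1⟩ := hexn
  have hpow := pow_no_large h3 hm1 hmn hcop hfaith hG' hα hα1
  have hα1ne : α 1 ≠ 1 := by
    rw [hα1]
    intro h
    have : m = 1 := by exact_mod_cast h
    omega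
  have hα' := hα
  obtain ⟨d, ρ, hirr, hρ⟩ := hα'
  have hinj : Function.Injective ρ := by
    rw [injective_iff_map_eq_one]
    intro g hg
    apply hfaith α hα hα1ne g
    rw [← hρ]
    show LinearMap.trace ℂ _ (ρ g) = LinearMap.trace ℂ _ (ρ 1)
    have h1 : ρ 1 = 1 := map_one ρ
    rw [hg, h1]
  obtain ⟨i, -, hi⟩ := Cfsg.Agent.S0168.result ρ hinj ψ hψ
  apply hi
  rw [hρ]
  exact hpow i ψ hψ hψ1

end Cfsg.Agent.Lib.Helper8.DH
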