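import Mathlib
import Cfsg.Agent.Lib.Helper8.GP2

set_option autoImplicit false
set_option linter.unusedSectionVars false
set_option linter.unusedVariables false

/-! A Galois automorphism of 2-power order inverting odd-order roots of unity, realised as a
power map `g ↦ g ^ k`: basic consequences for a normal subgroup of odd index. -/

namespace Cfsg.Agent.Lib.Helper8.GF

open Cfsg Cfsg.Agent.Lib.Helper1 Cfsg.Agent.Lib.Helper4 Cfsg.Agent.Lib.Helper8

universe u

/-- The hypotheses on the exponent `k`. -/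
structure GalInv (H : Type u) [Group H] (k e : ℕ) : Prop where
  hk : k.Coprime (Nat.card H)
  hke : k ^ (2 ^ e) ≡ 1 [MOD Nat.card H]
  hk₂ : ∀ g : H, Odd (orderOf g) → g ^ k = g⁻¹

variable {H : Type u} [Group H] [Finite H] {k e : ℕ}

theorem GalInv.subgroup (h : GalInv H k e) (P : Subgroup H) : GalInv P k e := by
  have hdvd : Nat.card P ∣ Nat.card H := Subgroup.card_subgroup_dvd_card P
  refine ⟨Nat.Coprime.coprime_dvd_right hdvd h.hk, Nat.ModEq.of_dvd hdvd h.hke, ?_⟩
  intro g hg
  apply Subtype.ext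
  rw [Subgroup.coe_pow, Subgroup.coe_inv]
  apply h.hk₂
  rwa [Subgroup.orderOf_coe]

/-- Modulo a normal subgroup of odd index, the `k`-th power map is inversion. -/
theorem GalInv.pow_succ_mem (h : GalInv H k e) (N : Subgroup H) [N.Normal] (hodd : Odd N.index)
    (x : H) : x ^ (k + 1) ∈ N := by
  set o := orderOf x with ho
  set s := o.factorization 2 with hs
  have ho0 : 0 < o := orderOf_pos x
  have hdvd : 2 ^ s ∣ o := Nat.ordProj_dvd o 2
  have hord : orderOf (x ^ (2 ^ s)) = o / 2 ^ s := by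
    rw [orderOf_pow' x (pow_ne_zero _ two_ne_zero), Nat.gcd_eq_right hdvd]
  have hoddx : Odd (orderOf (x ^ (2 ^ s))) := by
    rw [hord, Nat.odd_iff, ← Nat.two_dvd_ne_zero]
    exact Nat.not_dvd_ordCompl Nat.prime_two ho0.ne'
  have h1 := h.hk₂ _ hoddx
  have h2 : x ^ (2 ^ s * (k + 1)) = 1 := by
    rw [pow_mul, pow_succ, h1, inv_mul_cancel]
  rw [← QuotientGroup.eq_one_iff]
  have h3 : (x : H ⧸ N) ^ (2 ^ s * (k + 1)) = 1 := by
    rw [← QuotientGroup.mk_pow, h2, QuotientGroup.mk_one]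
  have h4 : orderOf (x : H ⧸ N) ∣ 2 ^ s * (k + 1) := orderOf_dvd_of_pow_eq_one h3
  have h5 : orderOf (x : H ⧸ N) ∣ N.index := by
    rw [Subgroup.index_eq_card]
    exact orderOf_dvd_natCard _
  have h6 : Nat.Coprime (orderOf (x : H ⧸ N)) (2 ^ s) := by
    apply Nat.Coprime.pow_right
    apply Nat.Coprime.coprime_dvd_left h5
    exact hodd.coprime_two_right
  have h7 : orderOf (x : H ⧸ N) ∣ k + 1 := h6.dvd_of_dvd_mul_left h4
  rw [QuotientGroup.mk_pow]
  exact orderOf_dvd_iff_pow_eq_one.1 h7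

/-- A linear character trivial on `N` is inverted by the power map. -/
theorem GalInv.hom_pow (h : GalInv H k e) (N : Subgroup H) [N.Normal] (hodd : Odd N.index)
    (μ : H →* ℂˣ) (hμ : ∀ n ∈ N, μ n = 1) (x : H) : μ (x ^ k) = (μ x)⁻¹ := by
  have h1 := hμ _ (h.pow_succ_mem N hodd x)
  rw [pow_succ, map_mul] at h1
  exact eq_inv_of_mul_eq_one_left h1

/-- A linear character trivial on `N` has order dividing the index. -/
theorem hom_pow_index (N : Subgroup H) [N.Normal] (μ : H →* ℂˣ) (hμ : ∀ n ∈ N, μ n = 1)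
    (x : H) : μ x ^ N.index = 1 := by
  rw [← map_pow]
  apply hμ
  rw [← QuotientGroup.eq_one_iff, QuotientGroup.mk_pow, Subgroup.index_eq_card]
  exact pow_card_eq_one'

end Cfsg.Agent.Lib.Helper8.GF
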