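import Mathlib
import Cfsg.Agent.Lib.Helper8.GF1
import Cfsg.Agent.Lib.Helper8.DH19
import Cfsg.Agent.S0856
import Cfsg.Agent.S0146

set_option autoImplicit false
set_option linter.unusedSectionVars false
set_option linter.unusedVariables false

/-! Gallagher's correspondence, in absolute form. -/

namespace Cfsg.Agent.Lib.Helper8.GF

open Cfsg Cfsg.Agent.Lib.Helper1 Cfsg.Agent.Lib.Helper4 Cfsg.Agent.Lib.Helper8
open scoped ComplexConjugate

universe u

variable {H : Type u} [Group H] [Fintype H] (N : Subgroup H) [hN : N.Normal] [Fintype N]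

/-- Being a constituent of the induced character, by Frobenius reciprocity. -/
theorem over_iff (θ : N → ℂ) {ψ : H → ℂ} (hψ : IsIrrCharacter H ψ) :
    classInner (indFun N θ) ψ ≠ 0 ↔ classInner (fun n : N => ψ n) θ ≠ 0 := by
  rw [Cfsg.Agent.S0146.result N θ ψ (isClassFunction_irr hψ), ← classInner_conj_symm]
  constructor
  · intro h2 h3
    apply h2
    rw [h3, map_zero]
  · intro h2 h3
    apply h2
    have := congrArg conj h3
    simpa using this

/-- Triviality on `N` in terms of the permutation character. -/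
theorem triv_iff {β : H → ℂ} (hβ : IsIrrCharacter H β) :
    (∀ n ∈ N, β n = β 1) ↔ classInner (indFun N (fun _ => (1 : ℂ))) β ≠ 0 := by
  rw [over_iff N _ hβ]
  constructor
  · intro h
    have h1 : (fun n : N => β n) = (β 1) • (fun _ : N => (1 : ℂ)) := by
      funext n
      rw [Pi.smul_apply, smul_eq_mul, mul_one]
      exact h n n.2
    rw [h1, classInner_smul_left, classInner_irr_self Cfsg.Agent.S0161.isIrrCharacter_one, mul_one]
    exact irr_apply_one_ne_zero hβ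
  · intro h n hn
    exact Cfsg.Agent.Lib.Helper8.DH.apply_eq_of_trivial_constituent N hβ h n hn

/-- Gallagher's correspondence. -/
theorem gallagher_abs {θ : N → ℂ} (hθ : IsIrrCharacter N θ)
    (hinv : ∀ (g : H) (n : N), θ ⟨g * n * g⁻¹, hN.conj_mem (n : H) n.2 g⟩ = θ n)
    {η : H → ℂ} (hη : IsIrrCharacter H η) (hηθ : ∀ n : N, η n = θ n) :
    (∀ β : H → ℂ, IsIrrCharacter H β → (∀ n ∈ N, β n = β 1) →
      IsIrrCharacter H (β * η) ∧ classInner (fun n : N => (β * η) n) θ ≠ 0) ∧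
    (∀ β β' : H → ℂ, IsIrrCharacter H β → (∀ n ∈ N, β n = β 1) → IsIrrCharacter H β' →
      (∀ n ∈ N, β' n = β' 1) → β * η = β' * η → β = β') ∧
    (∀ ψ : H → ℂ, IsIrrCharacter H ψ → classInner (fun n : N => ψ n) θ ≠ 0 →
      ∃ β : H → ℂ, IsIrrCharacter H β ∧ (∀ n ∈ N, β n = β 1) ∧ ψ = β * η) := by
  have h1' : IsIrrCharacter N (fun _ => (1 : ℂ)) := Cfsg.Agent.S0161.isIrrCharacter_one
  have hone : ((fun _ => (1 : ℂ)) * θ) = θ := by
    funext x
    simp
  have hbij := Cfsg.Agent.S0856.result N (fun _ => (1 : ℂ)) θ h1' hθ (fun _ _ => rfl) hinv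
    (by rw [hone]; exact hθ) η hη hηθ
  rw [hone] at hbij
  refine ⟨?_, ?_, ?_⟩
  · intro β hβ hβN
    have hmem := hbij.mapsTo (show β ∈ _ from ⟨hβ, (triv_iff N hβ).1 hβN⟩)
    have hmem' : IsIrrCharacter H (β * η) ∧ classInner (indFun N θ) (β * η) ≠ 0 := hmem
    exact ⟨hmem'.1, (over_iff N θ hmem'.1).1 hmem'.2⟩
  · intro β β' hβ hβN hβ' hβ'N heq
    exact hbij.injOn (show β ∈ _ from ⟨hβ, (triv_iff N hβ).1 hβN⟩)
      (show β' ∈ _ from ⟨hβ', (triv_iff N hβ').1 hβ'N⟩) heq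
  · intro ψ hψ hc
    obtain ⟨β, hβmem, hβψ⟩ := hbij.surjOn (show ψ ∈ _ from ⟨hψ, (over_iff N θ hψ).2 hc⟩)
    have hβmem' : IsIrrCharacter H β ∧ classInner (indFun N (fun _ => (1 : ℂ))) β ≠ 0 := hβmem
    exact ⟨β, hβmem'.1, (triv_iff N hβmem'.1).2 hβmem'.2, hβψ.symm⟩

end Cfsg.Agent.Lib.Helper8.GF
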