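import Mathlib
import Cfsg.Agent.Lib.Helper8.BZ3
import Cfsg.Agent.Lib.Helper8.GF2
import Cfsg.Agent.Lib.Helper4.Gallagher
import Cfsg.Agent.Lib.Helper1.LinearChar

/-!
# A Galois-fixed extension of an invariant character of `p'`-degree over a `p`-power index
-/

set_option autoImplicit false
set_option linter.unusedSectionVars false
set_option linter.unusedVariables false

namespace Cfsg.Agent.Lib.Helper8.BZ

open Cfsg
open scoped ComplexConjugate
open Cfsg.Agent.Lib.Helper1 Cfsg.Agent.Lib.Helper4 Cfsg.Agent.Lib.Helper8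

universe u

section

variable {G : Type u} [Group G] [Fintype G]

/-- A multiplicative function as a homomorphism to the units. -/
theorem HasDet.exists_hom {χ δ : G → ℂ} (h : HasDet χ δ) :
    ∃ f : G →* ℂˣ, ∀ g, ((f g : ℂˣ) : ℂ) = δ g := by
  let ψ : G →* ℂ :=
    { toFun := δ
      map_one' := h.map_one
      map_mul' := h.map_mul }
  exact ⟨ψ.toHomUnits, fun g => rfl⟩

theorem exists_exponent {e k : ℕ} (he : 0 < e) (hk : Nat.Coprime k e) :
    ∃ b : ℕ, e ∣ k * b + 1 := by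
  have : NeZero e := ⟨he.ne'⟩
  have hu : IsUnit ((k : ℕ) : ZMod e) := (ZMod.isUnit_iff_coprime k e).2 hk
  obtain ⟨u, hu⟩ := hu
  refine ⟨((-(u⁻¹ : (ZMod e)ˣ) : ZMod e)).val, ?_⟩
  rw [← ZMod.natCast_eq_zero_iff]
  push_cast
  rw [ZMod.natCast_zmod_val, ← hu]
  simp

/-- If `θ` is an invariant irreducible character of `p'`-degree of the normal subgroup `N` of
`p`-power index, all linear characters of `N` have `p'`-order, `θ` extends to `G` and is fixed by
the ring endomorphism `τ`, then `θ` has a `τ`-fixed extension. -/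
theorem exists_fixed_extension (N : Subgroup G) [hN : N.Normal] [Fintype N] {e r : ℕ}
    (he : 0 < e) (hcop : Nat.Coprime e r) (hG : ∀ g : G, g ^ (e * r) = 1) (hGe : ∀ g : G, g ^ e ∈ N)
    (hNr : ∀ (f : N →* ℂˣ) (x : N), f x ^ r = 1)
    {θ : N → ℂ} (hθ : IsIrrCharacter N θ) {d : ℕ} (hd : θ 1 = d) (hde : Nat.Coprime d e)
    (hinv : ∀ (g : G) (n : N), θ ⟨g * n * g⁻¹, hN.conj_mem (n : G) n.2 g⟩ = θ n)
    {η : G → ℂ} (hη : IsIrrCharacter G η) (hηθ : ∀ n : N, η n = θ n)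
    (τ : ℂ →+* ℂ) (hτ : ∀ n : N, τ (θ n) = θ n) :
    ∃ η₀ : G → ℂ, IsIrrCharacter G η₀ ∧ (∀ n : N, η₀ n = θ n) ∧ ∀ g, τ (η₀ g) = η₀ g := by
  classical
  obtain ⟨δ, hδ⟩ := exists_hasDet (isCharacter_of_irr hη)
  obtain ⟨f, hf⟩ := hδ.exists_hom
  have hη1 : η 1 = d := by
    have := hηθ 1
    rw [← hd, ← this]
    rfl
  -- the exponent
  have hk : Nat.Coprime (r * d) e := Nat.Coprime.mul_left hcop.symm hde
  obtain ⟨b, hb⟩ := exists_exponent he hk
  set a : ℕ := r * b with ha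
  have hea : e ∣ a * d + 1 := by
    have : a * d + 1 = r * d * b + 1 := by rw [ha]; ring
    rw [this]
    exact hb
  set lam : G →* ℂˣ := (powMonoidHom a).comp f with hlam
  have hlam_apply : ∀ g, lam g = f g ^ a := fun g => rfl
  have hlamN : ∀ n : N, lam (n : G) = 1 := by
    intro n
    rw [hlam_apply, ha, pow_mul]
    have := hNr (f.comp N.subtype) n
    have h2 : f (n : G) ^ r = 1 := this
    rw [h2, one_pow]
  set η₀ : G → ℂ := fun g => ((lam g : ℂˣ) : ℂ) * η g with hη₀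
  have hη₀irr : IsIrrCharacter G η₀ := isIrrCharacter_hom_mul lam hη
  have hη₀θ : ∀ n : N, η₀ n = θ n := by
    intro n
    rw [hη₀]
    simp only
    rw [hlamN n, Units.val_one, one_mul, hηθ n]
  have hδ₀ := hδ.hom_mul lam hη1
  set δ₀ : G → ℂ := fun g => ((lam g : ℂˣ) : ℂ) ^ d * δ g with hδ₀def
  have hδ₀r : ∀ g : G, δ₀ g ^ r = 1 := by
    intro g
    have h1 : δ₀ g = δ g ^ (a * d + 1) := by
      rw [hδ₀def]
      simp only
      rw [hlam_apply, Units.val_pow_eq_pow_val, hf g, ← pow_mul, pow_succ]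
    obtain ⟨c, hc⟩ := hea
    have h2 : δ g ^ (e * r) = 1 := by
      rw [← hδ.map_pow, hG g, hδ.map_one]
    rw [h1, hc, ← pow_mul, mul_right_comm, pow_mul, h2, one_pow]
  refine ⟨η₀, hη₀irr, hη₀θ, ?_⟩
  -- the twisted extension
  set η₁ : G → ℂ := fun g => τ (η₀ g) with hη₁
  have hη₁irr : IsIrrCharacter G η₁ := isIrrCharacter_twist τ hη₀irr
  have hη₁θ : ∀ n : N, η₁ n = θ n := by
    intro n
    rw [hη₁]
    simp only
    rw [hη₀θ n, hτ n]
  have hover : classInner (fun n : N => η₁ n) θ ≠ 0 := by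
    have : (fun n : N => η₁ n) = θ := funext hη₁θ
    rw [this, classInner_irr_self hθ]
    exact one_ne_zero
  obtain ⟨-, -, h3⟩ := Cfsg.Agent.Lib.Helper8.GF.gallagher_abs N hθ hinv hη₀irr hη₀θ
  obtain ⟨β, hβirr, hβN, hβ⟩ := h3 η₁ hη₁irr hover
  have hη₀1 : η₀ 1 = d := by
    have := hη₀θ 1
    rw [← hd, ← this]
    rfl
  have hβ1 : β 1 = 1 := by
    have h1 := congrFun hβ 1
    rw [Pi.mul_apply, hη₀1] at h1
    have h2 : η₁ 1 = d := by
      rw [hη₁]
      simp only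
      rw [hη₀1, map_natCast]
    rw [h2] at h1
    have hd0 : (d : ℂ) ≠ 0 := by
      rw [← hd]
      exact irr_apply_one_ne_zero hθ
    have : (β 1 - 1) * (d : ℂ) = 0 := by rw [sub_mul, ← h1]; ring
    rcases mul_eq_zero.1 this with h | h
    · exact sub_eq_zero.1 h
    · exact absurd h hd0
  obtain ⟨μ, hμ⟩ := exists_hom_of_isIrrCharacter hβirr hβ1
  have hμN : ∀ n : N, μ (n : G) = 1 := by
    intro n
    have h1 := hβN n n.2
    rw [hβ1, hμ] at h1
    exact Units.ext h1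
  -- compare determinants
  have hdet1 : HasDet η₁ (fun g => τ (δ₀ g)) := hδ₀.twist τ
  have hdet2 := hδ₀.hom_mul μ hη₀1
  have heq : η₁ = fun g => ((μ g : ℂˣ) : ℂ) * η₀ g := by
    rw [hβ, hμ]
    rfl
  rw [heq] at hdet1
  have hcmp := hdet1.unique hdet2
  have hμone : ∀ g : G, μ g = 1 := by
    intro g
    have h1 := congrFun hcmp g
    -- μ g ^ (d * r) = 1
    have h2 : (((μ g : ℂˣ) : ℂ) ^ d) ^ r = 1 := by
      have h3 : (τ (δ₀ g)) ^ r = 1 := by rw [← map_pow, hδ₀r g, map_one]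
      rw [h1, mul_pow, hδ₀r g, mul_one] at h3
      exact h3
    have h4 : μ g ^ e = 1 := by
      rw [← map_pow]
      exact hμN ⟨g ^ e, hGe g⟩
    have h5 : μ g ^ (d * r) = 1 := by
      apply Units.ext
      rw [Units.val_pow_eq_pow_val, pow_mul]
      exact h2
    have h6 : μ g ^ (Nat.gcd (d * r) e) = 1 := pow_gcd_eq_one.2 ⟨h5, h4⟩
    have h7 : Nat.gcd (d * r) e = 1 := Nat.Coprime.mul_left hde hcop.symm
    rwa [h7, pow_one] at h6
  intro g
  have := congrFun heq g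
  rw [hμone g, Units.val_one, one_mul] at this
  exact this

end

end Cfsg.Agent.Lib.Helper8.BZ
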