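import Mathlib
import Cfsg.Agent.Lib.Helper8.BZ4
import Cfsg.Agent.Lib.Helper1.CharFound1

/-!
# Determinants of characters: sums and perfect groups
-/

set_option autoImplicit false
set_option linter.unusedSectionVars false
set_option linter.unusedVariables false

namespace Cfsg.Agent.Lib.Helper8.BZ

open Cfsg
open Cfsg.Agent.Lib.Helper1 Cfsg.Agent.Lib.Helper4

universe u v

section

variable {G : Type u} [Group G]

/-- The determinant of an arbitrary finite-dimensional representation is a determinant of its
character. -/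
theorem hasDet_of_rep {V : Type v} [AddCommGroup V] [Module ℂ V] [FiniteDimensional ℂ V]
    (ρ : Representation ℂ G V) : HasDet ρ.character (fun g => LinearMap.det (ρ g)) := by
  let b := Module.finBasis ℂ V
  let e : V ≃ₗ[ℂ] (Fin (Module.finrank ℂ V) → ℂ) := b.equivFun
  refine ⟨Module.finrank ℂ V, conjRep ρ e, (Representation.char_iso (conjRepEquiv ρ e)).symm, ?_⟩
  intro g
  show LinearMap.det (e.conj (ρ g)) = LinearMap.det (ρ g)
  rw [LinearEquiv.conj_apply]
  exact LinearMap.det_conj (ρ g) e

/-- The determinant of a sum of characters is the product of the determinants. -/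
theorem HasDet.add {χ ψ δ δ' : G → ℂ} (h : HasDet χ δ) (h' : HasDet ψ δ') :
    HasDet (χ + ψ) (fun g => δ g * δ' g) := by
  obtain ⟨n, ρ, h1, h2⟩ := h
  obtain ⟨m, σ, h1', h2'⟩ := h'
  have h3 := hasDet_of_rep (ρ.prod σ)
  have h4 : (ρ.prod σ).character = χ + ψ := by
    rw [← h1, ← h1']
    funext g
    unfold Representation.character
    exact LinearMap.trace_prodMap' (ρ g) (σ g)
  have h5 : (fun g => LinearMap.det ((ρ.prod σ) g)) = fun g => δ g * δ' g := by
    funext g
    rw [← h2, ← h2']
    exact LinearMap.det_prodMap (ρ g) (σ g)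
  rw [h4, h5] at h3
  exact h3

/-- The zero character has determinant one. -/
theorem hasDet_zero : HasDet (0 : G → ℂ) (fun _ => 1) := by
  refine ⟨0, 1, ?_, ?_⟩
  · funext g
    unfold Representation.character
    have h0 : ((1 : Representation ℂ G (Fin 0 → ℂ)) g) = 0 := by
      apply LinearMap.ext
      intro v
      exact Subsingleton.elim _ _
    rw [h0, map_zero]
    rfl
  · intro g
    rw [show ((1 : Representation ℂ G (Fin 0 → ℂ)) g) = 1 from rfl, Module.End.one_eq_id,
      LinearMap.det_id]

/-- A linear character is its own determinant. -/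
theorem hasDet_hom (f : G →* ℂˣ) :
    HasDet (fun g => ((f g : ℂˣ) : ℂ)) (fun g => ((f g : ℂˣ) : ℂ)) := by
  let σ : Representation ℂ G ℂ :=
    { toFun := fun g => ((f g : ℂˣ) : ℂ) • (1 : Module.End ℂ ℂ)
      map_one' := by simp
      map_mul' := by
        intro a b
        rw [_root_.map_mul, Units.val_mul, smul_mul_smul_comm, mul_one] }
  have h := hasDet_of_rep σ
  have h1 : σ.character = fun g => ((f g : ℂˣ) : ℂ) := by
    funext g
    unfold Representation.character
    show LinearMap.trace ℂ ℂ (((f g : ℂˣ) : ℂ) • (1 : Module.End ℂ ℂ)) = _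
    rw [_root_.map_smul, LinearMap.trace_one]
    simp
  have h2 : (fun g => LinearMap.det (σ g)) = fun g => ((f g : ℂˣ) : ℂ) := by
    funext g
    show LinearMap.det (((f g : ℂˣ) : ℂ) • (1 : Module.End ℂ ℂ)) = _
    rw [LinearMap.det_smul, Module.End.one_eq_id, LinearMap.det_id]
    simp
  rw [h1, h2] at h
  exact h

/-- The determinant of a multiple. -/
theorem HasDet.nsmul {χ δ : G → ℂ} (h : HasDet χ δ) (m : ℕ) :
    HasDet ((m : ℂ) • χ) (fun g => δ g ^ m) := by
  induction m with
  | zero =>
    have : ((0 : ℕ) : ℂ) • χ = 0 := by simp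
    rw [this]
    simpa using hasDet_zero (G := G)
  | succ k ih =>
    have h1 : ((k + 1 : ℕ) : ℂ) • χ = (k : ℂ) • χ + χ := by
      rw [Nat.cast_succ, add_smul, one_smul]
    rw [h1]
    have h2 := ih.add h
    have h3 : (fun g => δ g ^ k * δ g) = fun g => δ g ^ (k + 1) := by
      funext g
      rw [pow_succ]
    rw [h3] at h2
    exact h2


/-- The determinant of a finite sum of characters. -/
theorem HasDet.sum {ι : Type*} (s : Finset ι) (χ δ : ι → G → ℂ) (h : ∀ i ∈ s, HasDet (χ i) (δ i)) :
    HasDet (∑ i ∈ s, χ i) (fun g => ∏ i ∈ s, δ i g) := by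
  classical
  induction s using Finset.induction_on with
  | empty => simpa using hasDet_zero (G := G)
  | insert i s hi ih =>
    rw [Finset.sum_insert hi]
    have h1 := (h i (Finset.mem_insert_self i s)).add
      (ih fun j hj => h j (Finset.mem_insert_of_mem hj))
    have h2 : (fun g => δ i g * ∏ j ∈ s, δ j g) = fun g => ∏ j ∈ insert i s, δ j g := by
      funext g
      rw [Finset.prod_insert hi]
    rw [h2] at h1
    exact h1

/-- In a perfect group all determinants are trivial. -/
theorem HasDet.eq_one_of_perfect [Fintype G] (hperf : commutator G = ⊤) {χ δ : G → ℂ}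
    (h : HasDet χ δ) (g : G) : δ g = 1 := by
  obtain ⟨f, hf⟩ := h.exists_hom
  have h1 : commutator G ≤ f.ker := Abelianization.commutator_subset_ker f
  have h2 : g ∈ f.ker := h1 (by rw [hperf]; trivial)
  rw [← hf g, MonoidHom.mem_ker.1 h2]
  rfl

end

end Cfsg.Agent.Lib.Helper8.BZ
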