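import Mathlib
import Cfsg.Prelude.Def_Blocks
import Cfsg.Agent.Lib.Helper8.DetA1
import Cfsg.Agent.Lib.Helper8.BlockLocal
import Cfsg.Agent.Lib.Helper8.BlockUnion
import Cfsg.Agent.Lib.Helper8.CD4
import Cfsg.Agent.Lib.Helper8.TwoClass
import Cfsg.Agent.Lib.Helper4.AbelianIrr
import Cfsg.Agent.S0148

/-!
# A faithful character of degree less than `2p` in the principal block of a perfect group:
the centralizer of a Sylow `p`-subgroup is a `p`-group
-/

set_option autoImplicit false
set_option maxHeartbeats 1000000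
set_option linter.unusedSectionVars false
set_option linter.unusedVariables false

namespace Cfsg.Agent.Lib.Helper8.BZ

open Cfsg
open scoped ComplexConjugate
open Cfsg.Agent.Lib.Helper1 Cfsg.Agent.Lib.Helper4 Cfsg.Agent.Lib.Helper8

universe u

section

variable {G : Type u} [Group G] [Fintype G]

theorem centralizer_isPGroup (p : ℕ) [hp : Fact p.Prime]
    (M : Ideal AlgInt) (hM : IsPModular p M) (hperf : commutator G = ⊤) (P : Sylow p G)
    (χ : IrrCharacter G) (hχ : χ ∈ principalBlock M G)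
    (hfaith : ∀ g : G, (χ : G → ℂ) g = (χ : G → ℂ) 1 → g = 1)
    (hdeg : charDegree (χ : G → ℂ) < 2 * p) :
    IsPGroup p (Subgroup.centralizer ((P : Subgroup G) : Set G)) := by
  classical
  have hMp := isPModular_isPrime hM
  have hMt := isPModular_ne_top hM
  set C := Subgroup.centralizer ((P : Subgroup G) : Set G) with hC
  by_contra hnot
  -- a prime `q ≠ p` dividing `|C|`
  have hq : ∃ q : ℕ, q.Prime ∧ q ∣ Nat.card C ∧ q ≠ p := by
    by_contra hcon
    push Not at hcon
    apply hnot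
    rw [IsPGroup.iff_card]
    exact ⟨_, Nat.eq_prime_pow_of_unique_prime_dvd Nat.card_pos.ne'
      (fun {d} hd hdvd => hcon d hd hdvd)⟩
  obtain ⟨q, hqp, hqC, hqne⟩ := hq
  have hqF : Fact q.Prime := ⟨hqp⟩
  obtain ⟨y', hy'⟩ := exists_prime_orderOf_dvd_card' q hqC
  set y : G := (y' : G) with hy
  have hyo : orderOf y = q := by rw [hy, Subgroup.orderOf_coe, hy']
  have hyC : y ∈ C := y'.2
  set Y : Subgroup G := Subgroup.zpowers y with hY
  have hYC : Y ≤ C := (Subgroup.zpowers_le).2 hyC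
  have hYcard : Nat.card Y = q := by rw [hY, Nat.card_zpowers, hyo]
  have hYcomm : ∀ a b : Y, a * b = b * a := by
    rintro ⟨a, ha⟩ ⟨b, hb⟩
    obtain ⟨i, rfl⟩ := Subgroup.mem_zpowers_iff.1 ha
    obtain ⟨j, rfl⟩ := Subgroup.mem_zpowers_iff.1 hb
    apply Subtype.ext
    exact zpow_mul_comm y i j
  have hpq : ¬ p ∣ q := fun h => hqne ((Nat.prime_dvd_prime_iff_eq hp.out hqp).1 h).symm
  -- the degree
  obtain ⟨hd1, hd0⟩ := irr_apply_one_eq_charDegree χ.2
  set d := charDegree (χ : G → ℂ) with hd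
  have hdC : (d : ℂ) ≠ 0 := Nat.cast_ne_zero.2 hd0.ne'
  -- Step A: values on `C` are congruent to the degree
  have hA : ∀ u : G, u ∈ C → MemLocalIdeal M ((χ : G → ℂ) u / d - 1) := by
    intro u hu
    have hPle : (P : Subgroup G) ≤ Subgroup.centralizer ({u} : Set G) := by
      intro x hx
      rw [Subgroup.mem_centralizer_iff]
      intro z hz
      rw [Set.mem_singleton_iff] at hz
      subst hz
      exact (Subgroup.mem_centralizer_iff.1 hu x hx).symm
    have hidx : ¬ p ∣ (Subgroup.centralizer ({u} : Set G)).index := fun h =>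
      P.not_dvd_index (h.trans (Subgroup.index_dvd_of_le hPle))
    have hidx0 : ((Subgroup.centralizer ({u} : Set G)).index : ℂ) ≠ 0 := by
      apply Nat.cast_ne_zero.2
      intro h0
      exact hidx (h0 ▸ dvd_zero p)
    have h1 := hχ u
    unfold centralChar at h1
    have h2 := memLocalIdeal_mul_left hMp (memLocalRing_inv_natCast hM hidx) h1
    have h3 := memLocalIdeal_neg h2
    have h4 : -(((Subgroup.centralizer ({u} : Set G)).index : ℂ)⁻¹ *
        (((Subgroup.centralizer ({u} : Set G)).index : ℂ) * 1 / 1 -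
          ((Subgroup.centralizer ({u} : Set G)).index : ℂ) * (χ : G → ℂ) u / (χ : G → ℂ) 1)) =
        (χ : G → ℂ) u / d - 1 := by
      rw [hd1]
      field_simp
      ring
    rw [h4] at h3
    exact h3
  -- Step B: multiplicities on `Y`
  have : Fintype (IrrCharacter Y) := Fintype.ofFinite _
  set ψ : Y → ℂ := fun u => (χ : G → ℂ) u with hψ
  have hψc : IsCharacter Y ψ := Cfsg.Agent.S0148.isCharacter_restrict Y (isCharacter_of_irr χ.2)
  obtain ⟨m, hm, hdec⟩ := exists_nat_mult hψc
  have htriv : (trivIrr Y : Y → ℂ) = fun _ => (1 : ℂ) := by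
    funext u
    exact trivIrr_apply u
  have hB : ∀ ζ : IrrCharacter Y, ζ ≠ trivIrr Y → MemLocalIdeal M ((m ζ : ℂ) / d) := by
    intro ζ hζ
    have h0 : classInner (fun _ : Y => (1 : ℂ)) (ζ : Y → ℂ) = 0 := by
      rw [← htriv]
      exact classInner_irr_ne (trivIrr Y).2 ζ.2 (fun h => hζ (Subtype.ext h).symm)
    have h1 : (m ζ : ℂ) / d = classInner (fun u : Y => ψ u / d - 1) (ζ : Y → ℂ) := by
      have e : (fun u : Y => ψ u / d - 1) = ((d : ℂ)⁻¹ • ψ) - (fun _ : Y => (1 : ℂ)) := by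
        funext u
        simp only [Pi.sub_apply, Pi.smul_apply, smul_eq_mul]
        ring
      rw [e, classInner_sub_left, classInner_smul_left, h0, hm ζ]
      ring
    rw [h1]
    unfold classInner
    refine memLocalIdeal_mul_left hMp ?_ ?_
    · rw [hYcard]
      exact memLocalRing_inv_natCast hM hpq
    · refine memLocalIdeal_sum hMp _ _ fun u _ => ?_
      exact memLocalIdeal_mul_right hMp (hA u (hYC u.2))
        (memLocalRing_of_isIntegral hMt
          (isIntegral_conj (isIntegral_char_apply (isCharacter_of_irr ζ.2) u)))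
  -- Step C: the arithmetic of the multiplicities
  have hlin : ∀ ζ : IrrCharacter Y, ∃ φ : Y →* ℂˣ, (ζ : Y → ℂ) = fun g => ((φ g : ℂˣ) : ℂ) :=
    fun ζ => exists_hom_of_comm hYcomm ζ.2
  choose φ hφ using hlin
  have hdeg1 : ∀ ζ : IrrCharacter Y, charDegree (ζ : Y → ℂ) = 1 := by
    intro ζ
    have h := (irr_apply_one_eq_charDegree ζ.2).1
    rw [hφ ζ] at h
    have h' : ((1 : ℕ) : ℂ) = (charDegree (fun g => ((φ ζ g : ℂˣ) : ℂ)) : ℂ) := by
      rw [← h]
      simp
    rw [hφ ζ]
    exact_mod_cast h'.symm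
  have hsum : ∑ ζ : IrrCharacter Y, m ζ = d := by
    have h := apply_one_eq_sum_mult m hdec
    simp only [hdeg1, mul_one] at h
    have h' : ψ 1 = (d : ℂ) := hd1
    rw [h'] at h
    exact_mod_cast h.symm
  have hle : ∀ ζ : IrrCharacter Y, m ζ ≤ d := fun ζ => by
    rw [← hsum]
    exact Finset.single_le_sum (fun _ _ => Nat.zero_le _) (Finset.mem_univ ζ)
  have hdvd : ∀ ζ : IrrCharacter Y, ζ ≠ trivIrr Y → p ∣ m ζ := by
    intro ζ hζ
    have h := memLocalIdeal_mul_left hMp (memLocalRing_natCast hMt d) (hB ζ hζ)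
    rw [mul_div_cancel₀ _ hdC] at h
    exact (memLocalIdeal_natCast_iff hM _).1 h
  have hzero : p ∣ d → ∀ ζ : IrrCharacter Y, ζ ≠ trivIrr Y → m ζ = 0 := by
    intro hpd ζ hζ
    by_contra hne
    have hdp : d = p := by
      obtain ⟨k, hk⟩ := hpd
      have hk1 : k = 1 := by
        have : 0 < k := Nat.pos_of_ne_zero (fun h => by rw [h, mul_zero] at hk; omega)
        by_contra hk1
        have : 2 ≤ k := by omega
        have : p * 2 ≤ p * k := Nat.mul_le_mul_left p this
        omega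
      rw [hk, hk1, mul_one]
    have h1 := hdvd ζ hζ
    have h2 := hle ζ
    have h3 : m ζ = p := by
      have := Nat.le_of_dvd (Nat.pos_of_ne_zero hne) h1
      omega
    have h4 := hB ζ hζ
    rw [h3, hdp, div_self (Nat.cast_ne_zero.2 hp.out.ne_zero)] at h4
    exact not_memLocalIdeal_one hMp h4
  by_cases hall : ∀ ζ : IrrCharacter Y, ζ ≠ trivIrr Y → m ζ = 0
  · -- `χ` is trivial on `Y`
    have h1 : m (trivIrr Y) = d := by
      rw [← hsum]
      symm
      exact Finset.sum_eq_single (trivIrr Y) (fun ζ _ hζ => hall ζ hζ)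
        (fun h => absurd (Finset.mem_univ _) h)
    have h2 : ψ ⟨y, Subgroup.mem_zpowers y⟩ = d := by
      rw [hdec, Finset.sum_apply, Finset.sum_eq_single (trivIrr Y)]
      · rw [Pi.smul_apply, trivIrr_apply, h1]
        simp
      · intro ζ _ hζ
        rw [hall ζ hζ]
        simp
      · intro h
        exact absurd (Finset.mem_univ _) h
    have h3 : y = 1 := hfaith y (by rw [hd1]; exact h2)
    rw [h3, orderOf_one] at hyo
    exact hqp.one_lt.ne' hyo.symm
  · push Not at hall
    obtain ⟨ζ₀, hζ₀, hm₀⟩ := hall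
    have hpd : ¬ p ∣ d := fun h => hm₀ (hzero h ζ₀ hζ₀)
    have hp0 : p ≤ m ζ₀ := Nat.le_of_dvd (Nat.pos_of_ne_zero hm₀) (hdvd ζ₀ hζ₀)
    have hothers : ∀ ζ : IrrCharacter Y, ζ ≠ trivIrr Y → ζ ≠ ζ₀ → m ζ = 0 := by
      intro ζ hζ hζ0
      by_contra hne
      have h1 : p ≤ m ζ := Nat.le_of_dvd (Nat.pos_of_ne_zero hne) (hdvd ζ hζ)
      have h2 : ∑ ξ ∈ ({ζ₀, ζ} : Finset (IrrCharacter Y)), m ξ ≤ ∑ ξ : IrrCharacter Y, m ξ :=
        Finset.sum_le_sum_of_subset (Finset.subset_univ _)
      rw [Finset.sum_pair (Ne.symm hζ0), hsum] at h2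
      omega
    have hmp : m ζ₀ = p := by
      obtain ⟨k, hk⟩ := hdvd ζ₀ hζ₀
      have h1 := hle ζ₀
      have hk1 : k = 1 := by
        have : 0 < k := Nat.pos_of_ne_zero (fun h => by rw [h, mul_zero] at hk; exact hm₀ hk)
        by_contra hk1
        have : 2 ≤ k := by omega
        have : p * 2 ≤ p * k := Nat.mul_le_mul_left p this
        omega
      rw [hk, hk1, mul_one]
    -- determinants
    obtain ⟨δ, hδ⟩ := exists_hasDet (isCharacter_of_irr χ.2)
    have hδ1 : ∀ g : G, δ g = 1 := fun g => hδ.eq_one_of_perfect hperf g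
    have hres : HasDet ψ (fun u : Y => δ u) := hδ.restrict Y
    have hsumdet := HasDet.sum (Finset.univ : Finset (IrrCharacter Y))
      (fun ζ => (m ζ : ℂ) • (ζ : Y → ℂ)) (fun ζ u => ((φ ζ u : ℂˣ) : ℂ) ^ m ζ)
      (fun ζ _ => by
        have h := (hasDet_hom (φ ζ)).nsmul (m ζ)
        rw [← hφ ζ] at h
        exact h)
    rw [← hdec] at hsumdet
    have huniq := hres.unique hsumdet
    have hφ₀ : ∀ u : Y, ((φ ζ₀ u : ℂˣ) : ℂ) = 1 := by
      intro u
      have h1 := congrFun huniq u
      simp only [hδ1] at h1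
      rw [Finset.prod_eq_single ζ₀] at h1
      · rw [hmp] at h1
        have h2 : ((φ ζ₀ u : ℂˣ) : ℂ) ^ q = 1 := by
          rw [← Units.val_pow_eq_pow_val, ← map_pow]
          have : u ^ q = 1 := by
            rw [← hYcard]
            exact pow_card_eq_one'
          rw [this, map_one]
          rfl
        have h3 : orderOf ((φ ζ₀ u : ℂˣ) : ℂ) ∣ p := orderOf_dvd_of_pow_eq_one h1.symm
        have h4 : orderOf ((φ ζ₀ u : ℂˣ) : ℂ) ∣ q := orderOf_dvd_of_pow_eq_one h2
        have h5 : orderOf ((φ ζ₀ u : ℂˣ) : ℂ) ∣ Nat.gcd p q := Nat.dvd_gcd h3 h4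
        rw [(Nat.coprime_primes hp.out hqp).2 (Ne.symm hqne)] at h5
        exact orderOf_eq_one_iff.1 (Nat.dvd_one.1 h5)
      · intro ζ _ hζ
        by_cases hζt : ζ = trivIrr Y
        · have : ((φ ζ u : ℂˣ) : ℂ) = 1 := by
            have h := congrFun (hφ ζ) u
            rw [hζt, trivIrr_apply] at h
            rw [hζt]
            exact h.symm
          rw [this, one_pow]
        · rw [hothers ζ hζt hζ, pow_zero]
      · intro h
        exact absurd (Finset.mem_univ _) h
    apply hζ₀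
    apply Subtype.ext
    rw [hφ ζ₀, htriv]
    funext u
    exact hφ₀ u

end

end Cfsg.Agent.Lib.Helper8.BZ
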