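import Mathlib
import Cfsg.Agent.Lib.Helper8.PIdem1

set_option autoImplicit false

namespace Cfsg.Agent.Lib.Helper8.PIdem

open Cfsg

universe u
variable {G : Type u} [Group G] [Fintype G]

/-- The trace of an idempotent endomorphism is the dimension of its range. -/
theorem trace_idem {V : Type*} [AddCommGroup V] [Module ℂ V] [FiniteDimensional ℂ V]
    (T : Module.End ℂ V) (hT : T * T = T) :
    LinearMap.trace ℂ V T = (Module.finrank ℂ (LinearMap.range T) : ℂ) := by
  have h : LinearMap.IsProj (LinearMap.range T) T := LinearMap.IsIdempotentElem.isProj_range T hT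
  exact h.trace

theorem trace_asAlgebraHom {V : Type*} [AddCommGroup V] [Module ℂ V] [FiniteDimensional ℂ V]
    (ρ : Representation ℂ G V) (x : MonoidAlgebra ℂ G) :
    LinearMap.trace ℂ V (ρ.asAlgebraHom x) = ∑ w : G, x.coeff w * ρ.character w := by
  rw [Representation.asAlgebraHom_def, MonoidAlgebra.lift_apply, Finsupp.sum_fintype]
  · rw [map_sum]
    refine Finset.sum_congr rfl (fun w _ => ?_)
    rw [map_smul, smul_eq_mul]
    rfl
  · intro i; simp

theorem trace_asAlgebraHom_sumH {V : Type*} [AddCommGroup V] [Module ℂ V] [FiniteDimensional ℂ V]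
    (ρ : Representation ℂ G V) (H : Subgroup G) [Fintype H] :
    LinearMap.trace ℂ V (ρ.asAlgebraHom (sumH H)) = ∑ y : H, ρ.character (y : G) := by
  classical
  unfold sumH
  rw [map_sum, map_sum]
  have : ∀ g ∈ (Finset.univ : Finset G),
      LinearMap.trace ℂ V (ρ.asAlgebraHom (if g ∈ H then MonoidAlgebra.single g (1 : ℂ) else 0))
        = if g ∈ H then ρ.character g else 0 := by
    intro g _
    split_ifs
    · rw [Representation.asAlgebraHom_single_one]; rfl
    · rw [map_zero, map_zero]
  rw [Finset.sum_congr rfl this, ← Finset.sum_filter]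
  rw [← Finset.sum_subtype (Finset.univ.filter fun g : G => g ∈ H) (p := fun g => g ∈ H)
    (fun x => by simp) (fun g => ρ.character g)]

theorem trace_asAlgebraHom_eH {V : Type*} [AddCommGroup V] [Module ℂ V] [FiniteDimensional ℂ V]
    (ρ : Representation ℂ G V) (H : Subgroup G) [Fintype H] :
    LinearMap.trace ℂ V (ρ.asAlgebraHom (eH H))
      = (Nat.card H : ℂ)⁻¹ * ∑ y : H, ρ.character (y : G) := by
  unfold eH
  rw [map_smul, map_smul, trace_asAlgebraHom_sumH, smul_eq_mul]

/-- (L3): the ranks. -/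
theorem exists_ranks {n : ℕ} (ρ : Representation ℂ G (Fin n → ℂ)) (Q R : Subgroup G)
    [Fintype Q] [Fintype R]
    (f c : MonoidAlgebra ℂ G) (hff : f * f = f) (hf : f = eH Q * eH R * c) :
    ∃ m u v : ℕ, (m : ℂ) = ∑ w : G, f.coeff w * ρ.character w ∧
      (u : ℂ) = (Nat.card Q : ℂ)⁻¹ * ∑ y : Q, ρ.character (y : G) ∧
      (v : ℂ) = (Nat.card R : ℂ)⁻¹ * ∑ z : R, ρ.character (z : G) ∧
      m ≤ u ∧ m ≤ v ∧ m ≤ n := by
  set T := ρ.asAlgebraHom with hT
  have hF : T f * T f = T f := by rw [← map_mul, hff]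
  have hA : T (eH Q) * T (eH Q) = T (eH Q) := by rw [← map_mul, eH_mul_eH]
  have hB : T (eH R) * T (eH R) = T (eH R) := by rw [← map_mul, eH_mul_eH]
  refine ⟨Module.finrank ℂ (LinearMap.range (T f)), Module.finrank ℂ (LinearMap.range (T (eH Q))),
    Module.finrank ℂ (LinearMap.range (T (eH R))), ?_, ?_, ?_, ?_, ?_, ?_⟩
  · rw [← trace_idem _ hF, hT, trace_asAlgebraHom]
  · rw [← trace_idem _ hA, hT, trace_asAlgebraHom_eH]
  · rw [← trace_idem _ hB, hT, trace_asAlgebraHom_eH]
  · apply Submodule.finrank_mono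
    rw [hf, map_mul, map_mul, mul_assoc]
    exact LinearMap.range_comp_le_range _ _
  · have e : T f = (T (eH Q)).comp ((T (eH R)).comp (T c)) := by
      rw [hf, map_mul, map_mul, mul_assoc]; rfl
    rw [e, LinearMap.range_comp]
    refine le_trans (Submodule.finrank_map_le _ _) ?_
    apply Submodule.finrank_mono
    exact LinearMap.range_comp_le_range _ _
  · have := Submodule.finrank_le (LinearMap.range (T f))
    rwa [Module.finrank_fin_fun] at this

end Cfsg.Agent.Lib.Helper8.PIdem
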