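import Mathlib
import Cfsg.Agent.Lib.Helper5.AltTwoMax1

set_option autoImplicit false

/-! Package K2 of the S5280 swarm, part a: elements acting trivially modulo a central subgroup,
and a Sylow argument inside a normal subgroup. -/

namespace Cfsg.Agent.Lib.Helper8.CstrK2

variable {C : Type*} [Group C]

/-- the subgroup of elements acting trivially on the set `A` modulo the central subgroup `Z` -/
def trivMod (Z : Subgroup C) (hZc : Z ≤ Subgroup.center C) (A : Set C) : Subgroup C where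
  carrier := {y | ∀ a ∈ A, y * a * y⁻¹ * a⁻¹ ∈ Z}
  one_mem' := by
    intro a _
    simp
  mul_mem' := by
    intro y y' hy hy' a ha
    have h1 := hy a ha
    have h2 := hy' a ha
    have hz' : ∀ c : C, (y' * a * y'⁻¹ * a⁻¹) * c = c * (y' * a * y'⁻¹ * a⁻¹) := fun c =>
      ((Subgroup.mem_center_iff.mp (hZc h2)) c).symm
    have : y * y' * a * (y * y')⁻¹ * a⁻¹ =
        (y * a * y⁻¹ * a⁻¹) * (y' * a * y'⁻¹ * a⁻¹) := by
      have e1 : y * y' * a * (y * y')⁻¹ * a⁻¹ =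
          y * ((y' * a * y'⁻¹ * a⁻¹) * (a * y⁻¹ * a⁻¹)) := by group
      rw [e1, hz']
      group
    rw [this]
    exact Z.mul_mem h1 h2
  inv_mem' := by
    intro y hy a ha
    have h1 := hy a ha
    have hz : ∀ c : C, (y * a * y⁻¹ * a⁻¹) * c = c * (y * a * y⁻¹ * a⁻¹) := fun c =>
      ((Subgroup.mem_center_iff.mp (hZc h1)) c).symm
    have : y⁻¹ * a * y⁻¹⁻¹ * a⁻¹ = (y * a * y⁻¹ * a⁻¹)⁻¹ := by
      have e1 : y⁻¹ * a * y⁻¹⁻¹ * a⁻¹ =
          y⁻¹ * ((y * a * y⁻¹ * a⁻¹)⁻¹ * y) := by group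
      rw [e1]
      have hz' : (y * a * y⁻¹ * a⁻¹)⁻¹ * y = y * (y * a * y⁻¹ * a⁻¹)⁻¹ := by
        have := hz y
        have h3 : Commute (y * a * y⁻¹ * a⁻¹) y := this
        exact (h3.inv_left).eq
      rw [hz']
      group
    rw [this]
    exact Z.inv_mem h1

theorem mem_trivMod {Z : Subgroup C} {hZc : Z ≤ Subgroup.center C} {A : Set C} {y : C} :
    y ∈ trivMod Z hZc A ↔ ∀ a ∈ A, y * a * y⁻¹ * a⁻¹ ∈ Z := Iff.rfl

/-- for `y ∈ trivMod`, `y * a * y⁻¹ = z * a` with `z ∈ Z` -/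
theorem conj_eq_of_mem_trivMod {Z : Subgroup C} {hZc : Z ≤ Subgroup.center C} {A : Set C} {y : C}
    (hy : y ∈ trivMod Z hZc A) {a : C} (ha : a ∈ A) :
    ∃ z ∈ Z, y * a * y⁻¹ = z * a :=
  ⟨y * a * y⁻¹ * a⁻¹, hy a ha, by group⟩

/-- conjugation inside `trivMod` does not change the action on `A` -/
theorem conj_conj_eq {Z : Subgroup C} {hZc : Z ≤ Subgroup.center C} {A : Set C} {y d : C}
    (hy : y ∈ trivMod Z hZc A) (hd : d ∈ trivMod Z hZc A) {a : C} (ha : a ∈ A) :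
    (d * y * d⁻¹) * a * (d * y * d⁻¹)⁻¹ = y * a * y⁻¹ := by
  obtain ⟨z, hz, hza⟩ := conj_eq_of_mem_trivMod hy ha
  obtain ⟨w, hw, hwa⟩ := conj_eq_of_mem_trivMod ((trivMod Z hZc A).inv_mem hd) ha
  -- hwa : d⁻¹ * a * d⁻¹⁻¹ = w * a
  have hzc : ∀ c : C, z * c = c * z := fun c => ((Subgroup.mem_center_iff.mp (hZc hz)) c).symm
  have hwc : ∀ c : C, w * c = c * w := fun c => ((Subgroup.mem_center_iff.mp (hZc hw)) c).symm
  have hwa' : d⁻¹ * a * d = w * a := by simpa using hwa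
  have hda : d * a * d⁻¹ = w⁻¹ * a := by
    have : a = d * (w * a) * d⁻¹ := by rw [← hwa']; group
    have h2 : d * (w * a) * d⁻¹ = w * (d * a * d⁻¹) := by
      rw [← mul_assoc, ← hwc d]; group
    rw [h2] at this
    rw [eq_inv_mul_iff_mul_eq]
    exact this.symm
  calc (d * y * d⁻¹) * a * (d * y * d⁻¹)⁻¹
      = d * (y * (d⁻¹ * a * d) * y⁻¹) * d⁻¹ := by group
    _ = d * (y * (w * a) * y⁻¹) * d⁻¹ := by rw [hwa']
    _ = d * (w * (y * a * y⁻¹)) * d⁻¹ := by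
        congr 2
        rw [← mul_assoc, ← hwc y]; group
    _ = d * (w * (z * a)) * d⁻¹ := by rw [hza]
    _ = w * z * (d * a * d⁻¹) := by
        have e1 : d * (w * (z * a)) * d⁻¹ = (d * w) * z * a * d⁻¹ := by group
        rw [e1, ← hwc d, mul_assoc w d z, ← hzc d]; group
    _ = w * z * (w⁻¹ * a) := by rw [hda]
    _ = z * a := by
        have e1 : w * z * (w⁻¹ * a) = (w * z) * w⁻¹ * a := by group
        rw [e1, hwc z]; group
    _ = y * a * y⁻¹ := hza.symm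

/-- powers: `y ^ m * a * (y ^ m)⁻¹ = z ^ m * a` -/
theorem pow_conj_eq {Z : Subgroup C} {hZc : Z ≤ Subgroup.center C} {y a z : C} (hz : z ∈ Z)
    (hza : y * a * y⁻¹ = z * a) (m : ℕ) : y ^ m * a * (y ^ m)⁻¹ = z ^ m * a := by
  have hzc : ∀ c : C, z * c = c * z := fun c => ((Subgroup.mem_center_iff.mp (hZc hz)) c).symm
  induction m with
  | zero => simp
  | succ m ih =>
    calc y ^ (m + 1) * a * (y ^ (m + 1))⁻¹ = y * (y ^ m * a * (y ^ m)⁻¹) * y⁻¹ := by
          rw [pow_succ', mul_inv_rev]; group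
      _ = y * (z ^ m * a) * y⁻¹ := by rw [ih]
      _ = z ^ m * (y * a * y⁻¹) := by
          have hc : Commute (z ^ m) y := (Commute.pow_left (hzc y) m)
          rw [← mul_assoc, ← hc.eq]; group
      _ = z ^ m * (z * a) := by rw [hza]
      _ = z ^ (m + 1) * a := by rw [pow_succ, mul_assoc]

/-- `y ^ |Z|` centralizes `A` for `y ∈ trivMod` -/
theorem pow_card_mem_centralizer [Finite C] {Z : Subgroup C} {hZc : Z ≤ Subgroup.center C}
    {A : Set C} {y : C} (hy : y ∈ trivMod Z hZc A) :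
    y ^ Nat.card Z ∈ Subgroup.centralizer A := by
  rw [Subgroup.mem_centralizer_iff]
  intro a ha
  obtain ⟨z, hz, hza⟩ := conj_eq_of_mem_trivMod hy ha
  have h1 := pow_conj_eq (hZc := hZc) hz hza (Nat.card Z)
  have h2 : z ^ Nat.card Z = 1 := by
    have h3 : (⟨z, hz⟩ : ↥Z) ^ Nat.card ↥Z = 1 := pow_card_eq_one'
    have h4 := congrArg (fun t : ↥Z => (t : C)) h3
    simp only [Subgroup.coe_pow, Subgroup.coe_one] at h4
    exact h4
  rw [h2, one_mul] at h1
  calc a * y ^ Nat.card Z = (y ^ Nat.card Z * a * (y ^ Nat.card Z)⁻¹) * y ^ Nat.card Z := by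
        rw [h1]
    _ = y ^ Nat.card Z * a := by group

end Cfsg.Agent.Lib.Helper8.CstrK2
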