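import Mathlib
import Cfsg.Agent.Lib.Helper5.AltTwoMax1
import Cfsg.Agent.Lib.Helper8.CstrK2a

set_option autoImplicit false

/-! Package K2 of the S5280 swarm, part b: a Sylow argument inside a normal subgroup and the
`p`-part of an element acting as a `p`-element. -/

namespace Cfsg.Agent.Lib.Helper8.CstrK2

open Cfsg.Agent.Lib.Helper5
open scoped Pointwise

variable {C : Type*} [Group C]

/-- Sylow's theorem inside a normal subgroup `D` of `N`, element form -/
theorem exists_conj_mem_of_max [Finite C] {p : ℕ} [Fact p.Prime] (N D T₀ : Subgroup C)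
    (hDN : D ≤ N) (hnorm : ∀ n ∈ N, ∀ d ∈ D, n * d * n⁻¹ ∈ D) (hT₀N : T₀ ≤ N)
    (hT₀ : IsPGroup p T₀)
    (hmax : ∀ R : Subgroup C, IsPGroup p R → T₀ ≤ R → R ≤ N → R = T₀)
    (c : C) (hcD : c ∈ D) (k : ℕ) (hc : c ^ p ^ k = 1) : ∃ d ∈ D, d * c * d⁻¹ ∈ T₀ := by
  classical
  have h1 : IsPGroup p (T₀.subgroupOf N) :=
    hT₀.comap_of_injective _ (Subgroup.subtype_injective _)
  obtain ⟨P, hP⟩ := h1.exists_le_sylow
  have hPeq : (P : Subgroup ↥N) = T₀.subgroupOf N := by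
    have hR := hmax ((P : Subgroup ↥N).map N.subtype) (P.isPGroup'.map _)
      (by
        intro x hx
        exact ⟨⟨x, hT₀N hx⟩, hP (Subgroup.mem_subgroupOf.mpr hx), rfl⟩)
      (Subgroup.map_subtype_le _)
    rw [← hR, ← Subgroup.comap_subtype,
      Subgroup.comap_map_eq_self_of_injective (Subgroup.subtype_injective N)]
  have hDNn : (D.subgroupOf N).Normal := by
    refine ⟨fun d hd n => ?_⟩
    rw [Subgroup.mem_subgroupOf] at hd ⊢
    simpa using hnorm n n.2 d hd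
  obtain ⟨Q, hQ⟩ := AltTwoMax.exists_sylow_inf_normal P (D.subgroupOf N)
  set c' : ↥(D.subgroupOf N) := ⟨⟨c, hDN hcD⟩, Subgroup.mem_subgroupOf.mpr hcD⟩ with hc'
  have hc'p : IsPGroup p (Subgroup.zpowers c') := by
    intro x
    obtain ⟨j, hj⟩ := x.2
    refine ⟨k, ?_⟩
    apply Subtype.ext
    have hck : c' ^ p ^ k = 1 := by
      apply Subtype.ext
      apply Subtype.ext
      simpa using hc
    have hx : (x : ↥(D.subgroupOf N)) = c' ^ j := hj.symm
    simp only [Subgroup.coe_pow, Subgroup.coe_one]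
    rw [hx, ← zpow_natCast, ← zpow_mul, mul_comm, zpow_mul, zpow_natCast, hck, one_zpow]
  obtain ⟨Q', hQ'⟩ := hc'p.exists_le_sylow
  obtain ⟨d', hd'⟩ := MulAction.exists_smul_eq ↥(D.subgroupOf N) Q' Q
  have h3 : MulAut.conj d' • c' ∈ MulAut.conj d' • (Q' : Subgroup ↥(D.subgroupOf N)) :=
    Subgroup.smul_mem_pointwise_smul _ _ _ (hQ' (Subgroup.mem_zpowers c'))
  rw [← Sylow.coe_subgroup_smul, hd', hQ, Subgroup.mem_subgroupOf] at h3
  have h4 : ((MulAut.conj d' • c' : ↥(D.subgroupOf N)) : ↥N) ∈ (P : Subgroup ↥N) := h3.1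
  rw [hPeq, Subgroup.mem_subgroupOf] at h4
  refine ⟨((d' : ↥N) : C), ?_, ?_⟩
  · have := d'.2
    rw [Subgroup.mem_subgroupOf] at this
    exact this
  · simpa [MulAut.smul_def, MulAut.conj_apply, hc'] using h4

/-- an element with a `p`-power power in `E` is a `p`-element times an element of `E`
(both powers of it) -/
theorem exists_pElement_mul [Finite C] {p : ℕ} [Fact p.Prime] (E : Subgroup C) (c : C) (e : ℕ)
    (hce : c ^ p ^ e ∈ E) :
    ∃ (s : ℕ) (f : ℕ) (e₀ : C), e₀ ∈ E ∧ (c ^ s) ^ p ^ f = 1 ∧ c ^ s = c * e₀ := by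
  classical
  have hp1 : p ≠ 1 := (Fact.out : p.Prime).ne_one
  have hm0 : orderOf c ≠ 0 := (orderOf_pos c).ne'
  obtain ⟨f, m', hm', hmf⟩ := Nat.exists_eq_pow_mul_and_not_dvd hm0 p hp1
  -- `m' * s ≡ 1 (mod p ^ (e + f + 1))`
  have hcop : Nat.Coprime m' (p ^ (e + f + 1)) :=
    Nat.Coprime.pow_right _ ((Nat.Prime.coprime_iff_not_dvd Fact.out).mpr hm').symm
  have hk1 : 1 < p ^ (e + f + 1) :=
    Nat.one_lt_pow (by omega) (Fact.out : p.Prime).one_lt
  obtain ⟨s, -, hs⟩ := Nat.exists_mul_mod_eq_one_of_coprime hcop hk1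
  -- m' * s = p ^ (e+f+1) * j + 1
  set j := m' * s / p ^ (e + f + 1) with hj
  have hdiv : m' * s = p ^ (e + f + 1) * j + 1 := by
    have := Nat.div_add_mod (m' * s) (p ^ (e + f + 1))
    rw [hs] at this
    exact this.symm
  refine ⟨m' * s, f, (c ^ p ^ e) ^ (p ^ (f + 1) * j), E.pow_mem hce _, ?_, ?_⟩
  · rw [← pow_mul, mul_comm (m' * s), ← mul_assoc, ← hmf, pow_mul, pow_orderOf_eq_one, one_pow]
  · rw [hdiv, pow_succ, ← pow_mul]
    have he : p ^ (e + f + 1) * j = p ^ e * (p ^ (f + 1) * j) := by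
      rw [← mul_assoc, ← pow_add, add_assoc]
    rw [he]
    exact ((Commute.refl c).pow_left _).eq

end Cfsg.Agent.Lib.Helper8.CstrK2
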