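import Mathlib
import Cfsg.Agent.Lib.Lead.SCF1
import Cfsg.Agent.Lib.Helper8.CstrK2a
import Cfsg.Agent.Lib.Helper8.CstrK2b

set_option autoImplicit false

/-! Package K2 of the S5280 swarm: control of strong fusion lifts through a central `p`-quotient. -/

namespace Cfsg.Agent.Lib.Helper8.CstrK2

open Cfsg Cfsg.Agent.Lib.Lead Cfsg.Agent.Lib.Lead.SCF Cfsg.Agent.Lib.Helper4
open scoped Pointwise

variable {p : ℕ} [Fact p.Prime]
variable {C : Type*} [Group C]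

/-- membership in a full preimage -/
theorem mk_mem_map_iff (Z Q : Subgroup C) [Z.Normal] (hZQ : Z ≤ Q) (y : C) :
    (QuotientGroup.mk' Z) y ∈ Q.map (QuotientGroup.mk' Z) ↔ y ∈ Q := by
  constructor
  · rintro ⟨q, hq, hqy⟩
    have h1 : q⁻¹ * y ∈ Z := QuotientGroup.eq.mp hqy
    have h2 := Q.mul_mem hq (hZQ h1)
    simpa using h2
  · exact fun h => Subgroup.mem_map_of_mem _ h

theorem trivMod_le_normalizer (Z : Subgroup C) (hZc : Z ≤ Subgroup.center C) (A₃ : Subgroup C)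
    (hZA₃ : Z ≤ A₃) : trivMod Z hZc (A₃ : Set C) ≤ Subgroup.normalizer (A₃ : Set C) := by
  have key : ∀ y ∈ trivMod Z hZc (A₃ : Set C), ∀ a ∈ A₃, y * a * y⁻¹ ∈ A₃ := by
    intro y hy a ha
    obtain ⟨z, hz, hza⟩ := conj_eq_of_mem_trivMod hy (show a ∈ (A₃ : Set C) from ha)
    rw [hza]
    exact A₃.mul_mem (hZA₃ hz) ha
  intro y hy
  rw [Subgroup.mem_normalizer_iff]
  intro a
  constructor
  · exact key y hy a
  · intro hb
    have := key y⁻¹ ((trivMod Z hZc (A₃ : Set C)).inv_mem hy) _ hb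
    have e : y⁻¹ * (y * a * y⁻¹) * y⁻¹⁻¹ = a := by group
    rwa [e] at this

theorem trivMod_conj_mem (Z : Subgroup C) (hZc : Z ≤ Subgroup.center C) (A₃ : Subgroup C)
    (n : C) (hn : n ∈ Subgroup.normalizer (A₃ : Set C)) (d : C)
    (hd : d ∈ trivMod Z hZc (A₃ : Set C)) : n * d * n⁻¹ ∈ trivMod Z hZc (A₃ : Set C) := by
  intro a ha
  have ha' : n⁻¹ * a * n ∈ A₃ := by
    have := (Subgroup.mem_normalizer_iff.mp ((Subgroup.normalizer (A₃ : Set C)).inv_mem hn) a).mp ha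
    simpa using this
  obtain ⟨z, hz, hza⟩ := conj_eq_of_mem_trivMod hd (show n⁻¹ * a * n ∈ (A₃ : Set C) from ha')
  have hzc : ∀ c : C, z * c = c * z := fun c => ((Subgroup.mem_center_iff.mp (hZc hz)) c).symm
  have : n * d * n⁻¹ * a * (n * d * n⁻¹)⁻¹ * a⁻¹ = z := by
    calc n * d * n⁻¹ * a * (n * d * n⁻¹)⁻¹ * a⁻¹
        = n * (d * (n⁻¹ * a * n) * d⁻¹) * n⁻¹ * a⁻¹ := by group
      _ = n * (z * (n⁻¹ * a * n)) * n⁻¹ * a⁻¹ := by rw [hza]
      _ = (n * z) * n⁻¹ * a * n * n⁻¹ * a⁻¹ := by group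
      _ = (z * n) * n⁻¹ * a * n * n⁻¹ * a⁻¹ := by rw [hzc n]
      _ = z := by group
  rw [this]
  exact hz

/-- the fully normalized case -/
theorem star [Finite C] (T Z Q : Subgroup C) [Z.Normal] (hZc : Z ≤ Subgroup.center C)
    (hZp : IsPGroup p Z) (hZQ : Z ≤ Q) (hTQ : T ≤ Subgroup.normalizer (Q : Set C))
    (hTp : IsPGroup p T)
    (h : Ctl (Q.map (QuotientGroup.mk' Z)) (T.map (QuotientGroup.mk' Z)))
    (A₃ : Subgroup C) (hA₃T : A₃ ≤ T) (hZA₃ : Z ≤ A₃)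
    (hfn : ∀ R : Subgroup C, IsPGroup p R → T ⊓ Subgroup.normalizer (A₃ : Set C) ≤ R →
      R ≤ Subgroup.normalizer (A₃ : Set C) → R = T ⊓ Subgroup.normalizer (A₃ : Set C))
    (k : C) (hk : ∀ a ∈ A₃, k * a * k⁻¹ ∈ T) :
    ∃ x ∈ Subgroup.normalizer (Q : Set C), ∀ a ∈ A₃, x * a * x⁻¹ = k * a * k⁻¹ := by
  classical
  set π := QuotientGroup.mk' Z with hπ
  obtain ⟨xbar, hxbarN, hxbar⟩ := h (π '' (A₃ : Set C)) (π k)
    (by
      rintro _ ⟨a, ha, rfl⟩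
      exact Subgroup.mem_map_of_mem _ (hA₃T ha))
    (by
      rintro _ ⟨_, ⟨a, ha, rfl⟩, rfl⟩
      have : π k * π a * (π k)⁻¹ = π (k * a * k⁻¹) := by simp
      show π k * π a * (π k)⁻¹ ∈ _
      rw [this]
      exact Subgroup.mem_map_of_mem _ (hk a ha))
  obtain ⟨x₁, hx₁⟩ := QuotientGroup.mk'_surjective Z xbar
  have hx₁' : π x₁ = xbar := hx₁
  rw [← hx₁'] at hxbarN hxbar
  have hx₁N : x₁ ∈ Subgroup.normalizer (Q : Set C) := by
    rw [Subgroup.mem_normalizer_iff]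
    intro q
    rw [← mk_mem_map_iff Z Q hZQ q, ← mk_mem_map_iff Z Q hZQ (x₁ * q * x₁⁻¹)]
    have h5 := (Subgroup.mem_normalizer_iff.mp hxbarN) (π q)
    have e5 : π x₁ * π q * (π x₁)⁻¹ = π (x₁ * q * x₁⁻¹) := by simp
    rw [e5] at h5
    exact h5
  set c := x₁⁻¹ * k with hc
  have hcD : c ∈ trivMod Z hZc (A₃ : Set C) := by
    intro a ha
    rw [← QuotientGroup.ker_mk' Z, MonoidHom.mem_ker]
    have h1 := hxbar (π a) ⟨a, ha, rfl⟩
    have h1' : π k * π a * (π k)⁻¹ = π x₁ * π a * (π x₁)⁻¹ := h1.symm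
    simp only [map_mul, map_inv, hc]
    calc (π x₁)⁻¹ * π k * π a * ((π x₁)⁻¹ * π k)⁻¹ * (π a)⁻¹
        = (π x₁)⁻¹ * (π k * π a * (π k)⁻¹) * π x₁ * (π a)⁻¹ := by group
      _ = 1 := by rw [h1']; group
  set N := Subgroup.normalizer (A₃ : Set C) with hN
  set D := trivMod Z hZc (A₃ : Set C) with hD
  have hDN : D ≤ N := trivMod_le_normalizer Z hZc A₃ hZA₃
  have hnorm : ∀ n ∈ N, ∀ d ∈ D, n * d * n⁻¹ ∈ D := fun n hn d hd =>
    trivMod_conj_mem Z hZc A₃ n hn d hd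
  obtain ⟨e, he⟩ := hZp.exists_card_eq
  have hce : c ^ p ^ e ∈ Subgroup.centralizer (A₃ : Set C) := by
    rw [← he]
    exact pow_card_mem_centralizer hcD
  obtain ⟨s, f, e₀, he₀, hcs, hcse⟩ :=
    exists_pElement_mul (p := p) (Subgroup.centralizer (A₃ : Set C)) c e hce
  have hcsD : c ^ s ∈ D := D.pow_mem hcD s
  obtain ⟨d, hdD, hdt⟩ := exists_conj_mem_of_max (p := p) N D (T ⊓ N) hDN hnorm inf_le_right
    (hTp.to_le inf_le_left) hfn (c ^ s) hcsD f hcs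
  refine ⟨x₁ * (d * c ^ s * d⁻¹),
    (Subgroup.normalizer (Q : Set C)).mul_mem hx₁N (hTQ hdt.1), ?_⟩
  intro a ha
  have h2 : (d * c ^ s * d⁻¹) * a * (d * c ^ s * d⁻¹)⁻¹ = c ^ s * a * (c ^ s)⁻¹ :=
    conj_conj_eq hcsD hdD (show a ∈ (A₃ : Set C) from ha)
  have h3 : c ^ s * a * (c ^ s)⁻¹ = c * a * c⁻¹ := by
    rw [hcse]
    have h4 : e₀ * a = a * e₀ := ((Subgroup.mem_centralizer_iff.mp he₀) a ha).symm
    calc c * e₀ * a * (c * e₀)⁻¹ = c * (e₀ * a) * e₀⁻¹ * c⁻¹ := by group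
      _ = c * (a * e₀) * e₀⁻¹ * c⁻¹ := by rw [h4]
      _ = c * a * c⁻¹ := by group
  calc x₁ * (d * c ^ s * d⁻¹) * a * (x₁ * (d * c ^ s * d⁻¹))⁻¹
      = x₁ * ((d * c ^ s * d⁻¹) * a * (d * c ^ s * d⁻¹)⁻¹) * x₁⁻¹ := by group
    _ = x₁ * (c * a * c⁻¹) * x₁⁻¹ := by rw [h2, h3]
    _ = k * a * k⁻¹ := by rw [hc]; group

/-- conjugates of a subgroup, element form -/
theorem mem_map_conj_iff (A₁ : Subgroup C) (u x : C) :
    x ∈ A₁.map (MulAut.conj u).toMonoidHom ↔ u⁻¹ * x * u ∈ A₁ := by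
  constructor
  · rintro ⟨a, ha, rfl⟩
    have : u⁻¹ * ((MulAut.conj u).toMonoidHom a) * u = a := by
      simp only [MulEquiv.coe_toMonoidHom, MulAut.conj_apply]
      group
    rw [this]
    exact ha
  · intro h
    refine ⟨u⁻¹ * x * u, h, ?_⟩
    simp only [MulEquiv.coe_toMonoidHom, MulAut.conj_apply]
    group

/-- package K2: control lifts through a central `p`-quotient -/
theorem ctl_of_central_quotient {C : Type*} [Group C] [Finite C] (T : Sylow p C)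
    (Z Q : Subgroup C) [Z.Normal] (hZc : Z ≤ Subgroup.center C) (hZp : IsPGroup p Z)
    (hZQ : Z ≤ Q) (hQT : Q ≤ (T : Subgroup C))
    (hTQ : (T : Subgroup C) ≤ Subgroup.normalizer (Q : Set C))
    (h : Ctl (Q.map (QuotientGroup.mk' Z)) ((T : Subgroup C).map (QuotientGroup.mk' Z))) :
    Ctl Q (T : Subgroup C) := by
  classical
  intro A g hAT hgAT
  set A₁ : Subgroup C := Subgroup.closure A ⊔ Z with hA₁
  have hZT : Z ≤ (T : Subgroup C) := hZQ.trans hQT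
  have hA₁T : A₁ ≤ (T : Subgroup C) := sup_le ((Subgroup.closure_le _).mpr hAT) hZT
  have hZfix : ∀ (u z : C), z ∈ Z → u * z * u⁻¹ = z := by
    intro u z hz
    have h1 : u * z = z * u := (Subgroup.mem_center_iff.mp (hZc hz)) u
    rw [h1]; group
  set 𝒰 : Set C := {u | A₁.map (MulAut.conj u).toMonoidHom ≤ (T : Subgroup C)} with h𝒰
  have h1𝒰 : (1 : C) ∈ 𝒰 := by
    intro x hx
    rw [mem_map_conj_iff] at hx
    apply hA₁T
    simpa using hx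
  obtain ⟨h₀, hh₀, hmaxh⟩ := Set.exists_max_image 𝒰
    (fun u => Nat.card ↥((T : Subgroup C) ⊓
      Subgroup.normalizer ((A₁.map (MulAut.conj u).toMonoidHom : Subgroup C) : Set C)))
    (Set.toFinite _) ⟨1, h1𝒰⟩
  set A₃ : Subgroup C := A₁.map (MulAut.conj h₀).toMonoidHom with hA₃
  have hA₃T : A₃ ≤ (T : Subgroup C) := hh₀
  have hZA₃ : Z ≤ A₃ := by
    intro z hz
    rw [hA₃, mem_map_conj_iff]
    have := hZfix h₀⁻¹ z hz
    rw [inv_inv] at this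
    rw [this]
    exact (le_sup_right : Z ≤ A₁) hz
  have hfn : ∀ R : Subgroup C, IsPGroup p R →
      (T : Subgroup C) ⊓ Subgroup.normalizer (A₃ : Set C) ≤ R →
      R ≤ Subgroup.normalizer (A₃ : Set C) →
      R = (T : Subgroup C) ⊓ Subgroup.normalizer (A₃ : Set C) := by
    intro R hR hle hRN
    obtain ⟨T', hT'⟩ := hR.exists_le_sylow
    obtain ⟨u, hu⟩ := MulAction.exists_smul_eq C T' T
    have hRu : ∀ x ∈ R, u * x * u⁻¹ ∈ (T : Subgroup C) := by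
      intro x hx
      have h1 := Subgroup.smul_mem_pointwise_smul x (MulAut.conj u) (T' : Subgroup C) (hT' hx)
      rw [← Sylow.coe_subgroup_smul, hu] at h1
      simpa [MulAut.smul_def] using h1
    have hA₃R : A₃ ≤ R := fun a ha => hle ⟨hA₃T ha, Subgroup.le_normalizer ha⟩
    have hmem : ∀ y : C, y ∈ A₁.map (MulAut.conj (u * h₀)).toMonoidHom ↔ u⁻¹ * y * u ∈ A₃ := by
      intro y
      rw [mem_map_conj_iff, hA₃, mem_map_conj_iff]
      have e : (u * h₀)⁻¹ * y * (u * h₀) = h₀⁻¹ * (u⁻¹ * y * u) * h₀ := by group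
      rw [e]
    have huh : u * h₀ ∈ 𝒰 := by
      intro x hx
      rw [hmem] at hx
      have := hRu _ (hA₃R hx)
      have e : u * (u⁻¹ * x * u) * u⁻¹ = x := by group
      rwa [e] at this
    have hcard := hmaxh (u * h₀) huh
    have hR'le : R.map (MulAut.conj u).toMonoidHom ≤ (T : Subgroup C) ⊓
        Subgroup.normalizer ((A₁.map (MulAut.conj (u * h₀)).toMonoidHom : Subgroup C) : Set C) := by
      rintro _ ⟨x, hx, rfl⟩
      have hcx : (MulAut.conj u).toMonoidHom x = u * x * u⁻¹ := by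
        simp only [MulEquiv.coe_toMonoidHom, MulAut.conj_apply]
      rw [hcx, Subgroup.mem_inf]
      refine ⟨hRu x hx, ?_⟩
      rw [Subgroup.mem_normalizer_iff]
      intro y
      rw [hmem, hmem]
      have hxN := (Subgroup.mem_normalizer_iff.mp (hRN hx)) (u⁻¹ * y * u)
      have e : u⁻¹ * (u * x * u⁻¹ * y * (u * x * u⁻¹)⁻¹) * u = x * (u⁻¹ * y * u) * x⁻¹ := by group
      rw [e]
      exact hxN
    have hcardR' : Nat.card ↥(R.map (MulAut.conj u).toMonoidHom) = Nat.card ↥R :=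
      Subgroup.card_map_of_injective (MulAut.conj u).injective
    have hcardle : Nat.card ↥((T : Subgroup C) ⊓ Subgroup.normalizer (A₃ : Set C)) ≥ Nat.card ↥R := by
      calc Nat.card ↥R = Nat.card ↥(R.map (MulAut.conj u).toMonoidHom) := hcardR'.symm
        _ ≤ _ := Subgroup.card_le_of_le hR'le
        _ ≤ _ := hcard
    exact (Subgroup.eq_of_le_of_card_ge hle hcardle).symm
  -- apply the fully normalized case twice
  have hk₁ : ∀ a ∈ A₃, h₀⁻¹ * a * h₀⁻¹⁻¹ ∈ (T : Subgroup C) := by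
    intro a ha
    rw [hA₃, mem_map_conj_iff] at ha
    rw [inv_inv]
    exact hA₁T ha
  have hgA₁ : ∀ b ∈ A₁, g * b * g⁻¹ ∈ (T : Subgroup C) := by
    have hle : A₁ ≤ (T : Subgroup C).comap (MulAut.conj g).toMonoidHom := by
      apply sup_le
      · rw [Subgroup.closure_le]
        intro a ha
        simp only [Subgroup.coe_comap, Set.mem_preimage, MulEquiv.coe_toMonoidHom,
          MulAut.conj_apply, SetLike.mem_coe]
        exact hgAT (mem_lc_of_mem ha)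
      · intro z hz
        simp only [Subgroup.mem_comap, MulEquiv.coe_toMonoidHom, MulAut.conj_apply]
        rw [hZfix g z hz]
        exact hZT hz
    intro b hb
    have := hle hb
    simpa [Subgroup.mem_comap, MulAut.conj_apply] using this
  have hk₂ : ∀ a ∈ A₃, (g * h₀⁻¹) * a * (g * h₀⁻¹)⁻¹ ∈ (T : Subgroup C) := by
    intro a ha
    rw [hA₃, mem_map_conj_iff] at ha
    have := hgA₁ _ ha
    have e : g * h₀⁻¹ * a * (g * h₀⁻¹)⁻¹ = g * (h₀⁻¹ * a * h₀) * g⁻¹ := by group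
    rw [e]
    exact this
  obtain ⟨x₁, hx₁N, hx₁⟩ := star (p := p) (T : Subgroup C) Z Q hZc hZp hZQ hTQ T.isPGroup' h A₃
    hA₃T hZA₃ hfn h₀⁻¹ hk₁
  obtain ⟨x₂, hx₂N, hx₂⟩ := star (p := p) (T : Subgroup C) Z Q hZc hZp hZQ hTQ T.isPGroup' h A₃
    hA₃T hZA₃ hfn (g * h₀⁻¹) hk₂
  refine ⟨x₂ * x₁⁻¹, (Subgroup.normalizer (Q : Set C)).mul_mem hx₂N
    ((Subgroup.normalizer (Q : Set C)).inv_mem hx₁N), ?_⟩
  intro a ha
  have haA₁ : a ∈ A₁ := (le_sup_left : Subgroup.closure A ≤ A₁) (Subgroup.subset_closure ha)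
  have ha₃ : h₀ * a * h₀⁻¹ ∈ A₃ := by
    rw [hA₃, mem_map_conj_iff]
    have e : h₀⁻¹ * (h₀ * a * h₀⁻¹) * h₀ = a := by group
    rw [e]
    exact haA₁
  have h1 := hx₁ _ ha₃
  have h2 := hx₂ _ ha₃
  have e1 : h₀⁻¹ * (h₀ * a * h₀⁻¹) * h₀⁻¹⁻¹ = a := by group
  rw [e1] at h1
  have e2 : g * h₀⁻¹ * (h₀ * a * h₀⁻¹) * (g * h₀⁻¹)⁻¹ = g * a * g⁻¹ := by group
  rw [e2] at h2
  -- h1 : x₁ * (h₀ a h₀⁻¹) * x₁⁻¹ = a ;  h2 : x₂ * (h₀ a h₀⁻¹) * x₂⁻¹ = g a g⁻¹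
  calc x₂ * x₁⁻¹ * a * (x₂ * x₁⁻¹)⁻¹ = x₂ * (x₁⁻¹ * a * x₁) * x₂⁻¹ := by group
    _ = x₂ * (h₀ * a * h₀⁻¹) * x₂⁻¹ := by
        have e3 : x₁⁻¹ * a * x₁ = h₀ * a * h₀⁻¹ := by
          conv_lhs => rw [← h1]
          group
        rw [e3]
    _ = g * a * g⁻¹ := h2

end Cfsg.Agent.Lib.Helper8.CstrK2
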