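import Mathlib
import Cfsg.Prelude.Def_JComponents
import Cfsg.Agent.Lib.Helper9.Thompson
import Cfsg.Agent.Lib.Helper6.JC.JC5

/-! Transport lemma for S2944 (b): if `K ∈ jComponentsZero T`, `N_G(K) = N_G(W_K)` and
`J(T^g) ≤ N_G(W_K)` then `K` is a `J(T^g)`-component. -/

set_option autoImplicit false

namespace Cfsg.Agent.Lib.Helper8.JT

open Cfsg Cfsg.Agent.Lib.Helper9 Cfsg.Agent.Lib.Helper6.JC
open scoped Pointwise

variable {G : Type*} [Group G]

local notation "cj[" g "] " A => Subgroup.map (MulEquiv.toMonoidHom (MulAut.conj g)) A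

/-- the body of `IsJComponent T K` with `J` in place of `J(T)` -/
def IsJC (J K : Subgroup G) : Prop :=
  Subgroup.closure {g : G | g ∈ K ∧ Odd (orderOf g)} = K ∧ ⁅K, J⁆ = K ∧
    (pCoreOf 2 K).relIndex K = 3 ∧
  (∀ S : Subgroup G, IsSylowTwoIn S (K ⊔ J) → J ≤ S → thompsonSubgroupOf 2 S = J) ∧
  Nat.card ↥(wOf K) = 4 ∧ ∀ w ∈ wOf K, w * w = 1

theorem isJComponent_iff (T K : Subgroup G) :
    IsJComponent T K ↔ IsJC (thompsonSubgroupOf 2 T) K := Iff.rfl

theorem thompson_map_conj [Finite G] (P : Subgroup G) (k : G) :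
    thompsonSubgroupOf 2 (cj[k] P) = cj[k] (thompsonSubgroupOf 2 P) := by
  have h1 := thompson_conj_le (p := 2) P k k (Subgroup.map_mono (thompsonSubgroupOf_le 2 P))
  refine (Subgroup.eq_of_le_of_card_ge h1 ?_).symm
  rw [card_thompson_conj, card_map_conj]

theorem map_conj_inv_map_conj (A : Subgroup G) (g : G) : (cj[g⁻¹] (cj[g] A)) = A :=
  map_conj_map_conj_inv A g

theorem map_conj_map_conj_inv' (A : Subgroup G) (g : G) : (cj[g] (cj[g⁻¹] A)) = A := by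
  have := map_conj_map_conj_inv A g⁻¹
  rwa [inv_inv] at this

theorem map_conj_of_mem_normalizer {K : Subgroup G} {n : G}
    (hn : n ∈ Subgroup.normalizer (K : Set G)) : (cj[n] K) = K := by
  ext x
  rw [mem_map_conj_iff]
  rw [Subgroup.mem_normalizer_iff] at hn
  have := hn (n⁻¹ * x * n)
  rw [this]
  have e : n * (n⁻¹ * x * n) * n⁻¹ = x := by group
  rw [e]

theorem isSylowTwoIn_map_conj {S X : Subgroup G} (h : IsSylowTwoIn S X) (n : G) :
    IsSylowTwoIn (cj[n] S) (cj[n] X) := by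
  refine ⟨Subgroup.map_mono h.1, h.2.1.map _, ?_⟩
  rw [Subgroup.relIndex_map_map_of_injective _ _ (MulAut.conj n).injective]
  exact h.2.2

theorem IsJC.conj_of_mem_normalizer [Finite G] {J K : Subgroup G} (h : IsJC J K) {n : G}
    (hn : n ∈ Subgroup.normalizer (K : Set G)) : IsJC (cj[n] J) K := by
  obtain ⟨h1, h2, h3, h4, h5, h6⟩ := h
  have hKn : (cj[n] K) = K := map_conj_of_mem_normalizer hn
  have hKn' : (cj[n⁻¹] K) = K := map_conj_of_mem_normalizer (inv_mem hn)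
  refine ⟨h1, ?_, h3, ?_, h5, h6⟩
  · calc ⁅K, cj[n] J⁆ = ⁅cj[n] K, cj[n] J⁆ := by rw [hKn]
      _ = cj[n] ⁅K, J⁆ := (Subgroup.map_commutator _ _ _).symm
      _ = cj[n] K := by rw [h2]
      _ = K := hKn
  · intro S hS hJS
    have hS' : IsSylowTwoIn (cj[n⁻¹] S) (K ⊔ J) := by
      have := isSylowTwoIn_map_conj hS n⁻¹
      rwa [Subgroup.map_sup, map_conj_inv_map_conj, hKn'] at this
    have hJS' : J ≤ cj[n⁻¹] S := by
      have := Subgroup.map_mono (f := (MulAut.conj n⁻¹).toMonoidHom) hJS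
      rwa [map_conj_inv_map_conj] at this
    have := h4 _ hS' hJS'
    rw [thompson_map_conj] at this
    rw [← this, map_conj_map_conj_inv']

theorem exists_maxEA [Finite G] (p : ℕ) (P : Subgroup G) : ∃ A, A ∈ maxEA p P := by
  classical
  let 𝒮 : Set (Subgroup G) := {B | B ≤ P ∧ IsElementaryAbelian p B}
  have hne : 𝒮.Nonempty := by
    refine ⟨⊥, bot_le, ⟨⟨fun a b => Subsingleton.elim _ _⟩⟩, ?_⟩
    intro a ha
    rw [Subgroup.mem_bot] at ha
    rw [ha, one_pow]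
  have hfin : 𝒮.Finite := Set.toFinite _
  obtain ⟨A, hA, hmax⟩ := Set.exists_max_image 𝒮 (fun B => Nat.card B) hfin hne
  exact ⟨A, hA.1, hA.2, fun B hB hBe => hmax B ⟨hB, hBe⟩⟩

/-- Sylow's theorem inside `X` for `IsSylowTwoIn` -/
theorem exists_conj_le_of_isSylowTwoIn [Finite G] {S X R : Subgroup G} (hS : IsSylowTwoIn S X)
    (hRX : R ≤ X) (hR : IsPGroup 2 R) : ∃ n ∈ X, R ≤ cj[n] S := by
  haveI : Fact (Nat.Prime 2) := ⟨Nat.prime_two⟩
  obtain ⟨hSX, hS2, hSodd⟩ := hS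
  have hS2' : IsPGroup 2 (S.subgroupOf X) := hS2.comap_subtype
  have hidx : ¬ 2 ∣ (S.subgroupOf X).index := by
    rw [← even_iff_two_dvd, Nat.not_even_iff_odd]
    exact hSodd
  let P : Sylow 2 X := hS2'.toSylow hidx
  have hR2' : IsPGroup 2 (R.subgroupOf X) := hR.comap_subtype
  obtain ⟨Q, hQ⟩ := hR2'.exists_le_sylow
  obtain ⟨x, hx⟩ := MulAction.exists_smul_eq X P Q
  refine ⟨(x : G), x.2, ?_⟩
  intro r hr
  have hrQ : (⟨r, hRX hr⟩ : X) ∈ Q := hQ (Subgroup.mem_subgroupOf.mpr hr)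
  rw [← hx] at hrQ
  have h0 : ((x • P : Sylow 2 X) : Subgroup X) = MulAut.conj x • (P : Subgroup X) :=
    Sylow.coe_subgroup_smul
  replace hrQ : (⟨r, hRX hr⟩ : X) ∈ ((x • P : Sylow 2 X) : Subgroup X) := hrQ
  rw [h0, Subgroup.mem_pointwise_smul_iff_inv_smul_mem] at hrQ
  rw [mem_map_conj_iff]
  have h1 : (MulAut.conj x)⁻¹ • (⟨r, hRX hr⟩ : X) ∈ (P : Subgroup X) := hrQ
  have h2 : (P : Subgroup X) = S.subgroupOf X := rfl
  rw [h2, Subgroup.mem_subgroupOf] at h1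
  have h3 : (((MulAut.conj x)⁻¹ • (⟨r, hRX hr⟩ : X) : X) : G) = (x : G)⁻¹ * r * (x : G) := by
    rw [← map_inv, MulAut.smul_def, MulAut.conj_apply]
    simp
  rw [h3] at h1
  exact h1

/-- S2944 (b), given `N_G(K) = N_G(W_K)` -/
theorem isJComponent_conj [Finite G] {T K : Subgroup G} (hT : IsPGroup 2 T)
    (hK : K ∈ jComponentsZero T)
    (hNK : Subgroup.normalizer (K : Set G) = Subgroup.normalizer (wOf K : Set G)) (g : G)
    (hg : thompsonSubgroupOf 2 (cj[g] T) ≤ Subgroup.normalizer (wOf K : Set G)) :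
    IsJComponent (cj[g] T) K := by
  obtain ⟨hJC, hZero⟩ := hK
  obtain ⟨J, hJdef⟩ : ∃ J, J = thompsonSubgroupOf 2 T := ⟨_, rfl⟩
  have hJT : J ≤ T := hJdef ▸ thompsonSubgroupOf_le 2 T
  have hJ2 : IsPGroup 2 J := hT.to_le hJT
  have hJC' : IsJC J K := hJdef ▸ hJC
  have hJN : J ≤ Subgroup.normalizer (wOf K : Set G) := by
    rw [← hNK]
    have := Cfsg.Agent.S2941.commutator_normalized_right K J
    rwa [hJC'.2.1] at this
  obtain ⟨S1, hS1, hJS1, -⟩ := exists_sylowTwoIn hJN hJ2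
  have hthS1 : thompsonSubgroupOf 2 S1 = J := by
    rw [hJdef]
    exact hZero S1 (hJdef ▸ hJS1) hS1
  have hJg : thompsonSubgroupOf 2 (cj[g] T) = cj[g] J := by
    rw [hJdef]; exact thompson_map_conj T g
  rw [hJg] at hg
  obtain ⟨n, hnN, hle⟩ := exists_conj_le_of_isSylowTwoIn hS1 hg (hJ2.map _)
  have hle2 : (cj[g] J) ≤ cj[n] J := by
    rw [Subgroup.map_le_iff_le_comap]
    conv_lhs => rw [hJdef, thompsonSubgroupOf_eq]
    apply sSup_le
    intro A hA
    rw [← Subgroup.map_le_iff_le_comap]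
    have hAJ : A ≤ J := by
      rw [hJdef, thompsonSubgroupOf_eq]; exact le_sSup hA
    obtain ⟨B₀, hB₀⟩ := exists_maxEA 2 S1
    have hB₀J : B₀ ≤ J := by
      rw [← hthS1, thompsonSubgroupOf_eq]; exact le_sSup hB₀
    have hA1 : A ∈ maxEA 2 S1 :=
      maxEA_of_card_ge hB₀ (hAJ.trans hJS1) hA.2.1 (hA.2.2 B₀ (hB₀J.trans hJT) hB₀.2.1)
    have hA2 := maxEA_conj hA1 g n ((Subgroup.map_mono hAJ).trans hle)
    have : (cj[g] A) ≤ thompsonSubgroupOf 2 (cj[n] S1) := by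
      rw [thompsonSubgroupOf_eq]; exact le_sSup hA2
    rwa [thompson_map_conj, hthS1] at this
  have heq : (cj[g] J) = cj[n] J :=
    Subgroup.eq_of_le_of_card_ge hle2 (by rw [card_map_conj, card_map_conj])
  rw [isJComponent_iff, hJg, heq]
  exact hJC'.conj_of_mem_normalizer (hNK ▸ hnN)

end Cfsg.Agent.Lib.Helper8.JT
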