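import Mathlib
import Cfsg.Prelude.Def_Blocks
import Cfsg.Agent.Lib.Helper8.BlockLocal
import Cfsg.Agent.S0143
import Cfsg.Agent.S0142
import Cfsg.Agent.S0138

/-!
# Characters of prime power degree in the principal block of a simple group
-/

set_option autoImplicit false
set_option maxHeartbeats 800000

namespace Cfsg.Agent.Lib.Helper8

open Cfsg
open scoped ComplexConjugate
open Cfsg.Agent.Lib.Helper1 Cfsg.Agent.Lib.Helper4

universe u

section

variable {G : Type u} [Group G] [Finite G] {M : Ideal AlgInt} {p : ℕ} [Fact p.Prime]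

/-- A nontrivial finite group has a non-identity element whose class size is prime to `p`. -/
theorem exists_ne_one_class_coprime (hG : Nontrivial G) :
    ∃ z : G, z ≠ 1 ∧ ¬ p ∣ (Subgroup.centralizer ({z} : Set G)).index := by
  classical
  have hp : p.Prime := Fact.out
  obtain ⟨P⟩ : Nonempty (Sylow p G) := inferInstance
  by_cases hP : Nontrivial (P : Subgroup G)
  · have hZ : Nontrivial (Subgroup.center (P : Subgroup G)) := P.2.center_nontrivial
    obtain ⟨z, hz⟩ := exists_ne (1 : Subgroup.center (P : Subgroup G))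
    refine ⟨((z : (P : Subgroup G)) : G), ?_, ?_⟩
    · intro h
      apply hz
      apply Subtype.ext
      apply Subtype.ext
      exact h
    · have hle : (P : Subgroup G) ≤ Subgroup.centralizer ({((z : (P : Subgroup G)) : G)} : Set G) := by
        intro x hx
        rw [Subgroup.mem_centralizer_singleton_iff]
        have := Subgroup.mem_center_iff.1 z.2 ⟨x, hx⟩
        exact congrArg Subtype.val this
      intro hdvd
      have h1 := Subgroup.index_dvd_of_le hle
      exact P.not_dvd_index (hdvd.trans h1)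
  · rw [not_nontrivial_iff_subsingleton] at hP
    obtain ⟨z, hz⟩ := exists_ne (1 : G)
    refine ⟨z, hz, ?_⟩
    intro hdvd
    have h1 : p ∣ Nat.card G := hdvd.trans (Subgroup.index_dvd_card _)
    have h2 : (P : Subgroup G) = ⊥ := Subgroup.eq_bot_of_subsingleton _
    have h3 := P.not_dvd_index
    rw [h2, Subgroup.index_bot] at h3
    exact h3 h1

theorem principal_prime_power_degree (hM : IsPModular p M) [IsSimpleGroup G]
    (hna : ∃ a b : G, a * b ≠ b * a) (χ : IrrCharacter G) (hχ : χ ∈ principalBlock M G)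
    (k : ℕ) (hdeg : (χ : G → ℂ) 1 = (p : ℂ) ^ k) : (χ : G → ℂ) = fun _ => 1 := by
  classical
  have hp : p.Prime := Fact.out
  have hMp := isPModular_isPrime hM
  by_contra hne
  obtain ⟨n, ρ, hirr, hρχ⟩ := χ.2
  have := hirr
  have hnc : ¬ ∀ a b : G, a * b = b * a := by
    obtain ⟨a, b, hab⟩ := hna
    intro h
    exact hab (h a b)
  have hGnt : Nontrivial G := by
    obtain ⟨a, b, hab⟩ := hna
    exact ⟨⟨a * b, b * a, hab⟩⟩
  obtain ⟨z, hz1, hzp⟩ := exists_ne_one_class_coprime (p := p) hGnt
  have hfr : Module.finrank ℂ (Fin n → ℂ) = n := by simp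
  have hn : n = p ^ k := by
    have h1 : ρ.character 1 = (n : ℂ) := by
      rw [Representation.char_one, hfr]
    rw [hρχ, hdeg] at h1
    have : ((p ^ k : ℕ) : ℂ) = (n : ℂ) := by rw [← h1]; push_cast; rfl
    exact (Nat.cast_injective this).symm
  have hcop : Nat.Coprime (Module.finrank ℂ (Fin n → ℂ))
      (Subgroup.centralizer ({z} : Set G)).index := by
    rw [hfr, hn]
    exact Nat.Coprime.pow_left _ ((Nat.Prime.coprime_iff_not_dvd hp).2 hzp)
  have hzero : ρ.character z = 0 := by
    rcases Cfsg.Agent.S0142.result ρ z hcop with h | h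
    · exact h
    · exfalso
      obtain ⟨ω, hω⟩ := (Cfsg.Agent.S0138.result ρ z).1 h
      exact Cfsg.Agent.S0143.not_scalar hnc n ρ hirr (by rw [hρχ]; exact hne) z hz1 ω hω
  have hsb : SameBlock M (fun _ : G => (1 : ℂ)) (χ : G → ℂ) := hχ
  have h1 := hsb z
  unfold centralChar at h1
  rw [← hρχ, hzero, mul_zero, zero_div, sub_zero, mul_one, div_one] at h1
  exact hzp ((memLocalIdeal_natCast_iff hM _).1 h1)

end

end Cfsg.Agent.Lib.Helper8
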