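import Mathlib
import Cfsg.Prelude.Def_Blocks
import Cfsg.Agent.Lib.Helper8.BlockOrth2
import Cfsg.Agent.Lib.Helper8.BlockUnion
import Cfsg.Agent.Lib.Helper8.BlockDefect
import Cfsg.Agent.Lib.Helper8.PB2
import Cfsg.Agent.Lib.Helper8.DI1
import Cfsg.Agent.Lib.Helper8.TildeBlock
import Cfsg.Agent.Lib.Helper8.TwoClass
import Cfsg.Agent.Lib.Helper1.CharInt
import Cfsg.Agent.S0907

/-!
# Simple groups of order `p ^ a * q ^ b * r`: the Sylow `r`-subgroup is self-centralizing
-/

set_option autoImplicit false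
set_option linter.unusedSectionVars false
set_option linter.unusedVariables false

namespace Cfsg.Agent.Lib.Helper8.PQR

open Cfsg
open scoped ComplexConjugate
open Cfsg.Agent.Lib.Helper1 Cfsg.Agent.Lib.Helper4 Cfsg.Agent.Lib.Helper8

universe u

section

variable {G : Type u} [Group G] [Fintype G]

/-- In a nonabelian simple group of order `p ^ a * q ^ b * r` no element has order divisible by
both `p` and `r`. -/
theorem no_elt_nonabelian [IsSimpleGroup G] (hna : ∃ a b : G, a * b ≠ b * a) (p q r a b : ℕ)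
    [hp : Fact p.Prime] (hq : q.Prime) [hr : Fact r.Prime] (hpq : p ≠ q) (hpr : p ≠ r)
    (hqr : q ≠ r) (hcard : Nat.card G = p ^ a * q ^ b * r) (g : G) (hpg : p ∣ orderOf g)
    (hrg : r ∣ orderOf g) : False := by
  classical
  have : Fintype (IrrCharacter G) := Fintype.ofFinite _
  obtain ⟨M, hM⟩ := exists_isPModular p
  have hMp := isPModular_isPrime hM
  have hsum := Cfsg.Agent.S0907.result p M hM (principalBlock M G) isPBlock_principalBlock 1 g
    (by rw [orderOf_one]; exact hp.out.not_dvd_one) hpg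
  rw [finsum_mem_eq_sum_indicator] at hsum
  -- `r ^ 2` does not divide the group order
  have hr2 : ¬ r ^ 2 ∣ Nat.card G := by
    intro h
    rw [hcard, pow_two] at h
    have h1 : r ∣ p ^ a * q ^ b := Nat.dvd_of_mul_dvd_mul_right hr.out.pos h
    rcases (Nat.Prime.dvd_mul hr.out).1 h1 with h2 | h2
    · exact hpr ((Nat.prime_dvd_prime_iff_eq hr.out hp.out).1 (hr.out.dvd_of_dvd_pow h2)).symm
    · exact hqr ((Nat.prime_dvd_prime_iff_eq hr.out hq).1 (hr.out.dvd_of_dvd_pow h2)).symm
  have hrfac : (Nat.card G).factorization r ≤ 1 := by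
    by_contra hcon
    push Not at hcon
    exact hr2 ((hr.out.pow_dvd_iff_le_factorization Nat.card_pos.ne').2 hcon)
  -- each nontrivial term is divisible by `q`
  have hterm : ∀ ψ : IrrCharacter G, ψ ≠ trivIrr G → ∃ c : ℂ, IsIntegral ℤ c ∧
      (if ψ ∈ principalBlock M G then (1 : ℂ) else 0) *
        ((ψ : G → ℂ) 1 * conj ((ψ : G → ℂ) g)) = (q : ℂ) * c := by
    intro ψ hψ
    by_cases hmem : ψ ∈ principalBlock M G
    swap
    · exact ⟨0, isIntegral_zero, by rw [if_neg hmem, zero_mul, mul_zero]⟩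
    rw [if_pos hmem, one_mul]
    obtain ⟨hd1, hd0⟩ := irr_apply_one_eq_charDegree ψ.2
    have hdvd : charDegree (ψ : G → ℂ) ∣ p ^ a * q ^ b * r := hcard ▸ charDegree_dvd_card ψ.2
    by_cases hrd : r ∣ charDegree (ψ : G → ℂ)
    · refine ⟨0, isIntegral_zero, ?_⟩
      have h0 : (ψ : G → ℂ) g = 0 := by
        apply irr_eq_zero_of_pow_dvd_degree r ψ _ hrg
        exact (pow_dvd_pow r hrfac).trans (by rw [pow_one]; exact hrd)
      rw [h0, map_zero, mul_zero, mul_zero]
    by_cases hqd : q ∣ charDegree (ψ : G → ℂ)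
    · obtain ⟨m, hm⟩ := hqd
      refine ⟨(m : ℂ) * conj ((ψ : G → ℂ) g),
        IsIntegral.mul (isIntegral_algebraMap (R := ℤ) (A := ℂ) (x := (m : ℤ)) |> fun h => by
          simpa using h) (isIntegral_conj (isIntegral_char_apply (isCharacter_of_irr ψ.2) g)), ?_⟩
      rw [hd1, hm]
      push_cast
      ring
    · exfalso
      apply hψ
      have hc1 : Nat.Coprime (charDegree (ψ : G → ℂ)) r :=
        ((Nat.Prime.coprime_iff_not_dvd hr.out).2 hrd).symm
      have hc2 : Nat.Coprime (charDegree (ψ : G → ℂ)) (q ^ b) :=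
        (((Nat.Prime.coprime_iff_not_dvd hq).2 hqd).symm).pow_right b
      have h1 : charDegree (ψ : G → ℂ) ∣ p ^ a * q ^ b := hc1.dvd_of_dvd_mul_right hdvd
      have h2 : charDegree (ψ : G → ℂ) ∣ p ^ a := hc2.dvd_of_dvd_mul_right h1
      obtain ⟨k, -, hk⟩ := (Nat.dvd_prime_pow hp.out).1 h2
      have h3 := principal_prime_power_degree hM hna ψ hmem k (by rw [hd1, hk]; push_cast; rfl)
      apply Subtype.ext
      rw [h3]
      funext x
      rw [trivIrr_apply]
  choose! c hc1 hc2 using hterm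
  rw [← Finset.add_sum_erase Finset.univ _ (Finset.mem_univ (trivIrr G))] at hsum
  have h1 : (if trivIrr G ∈ principalBlock M G then (1 : ℂ) else 0) *
      ((trivIrr G : G → ℂ) 1 * conj ((trivIrr G : G → ℂ) g)) = 1 := by
    rw [if_pos (trivIrr_mem_principalBlock hMp.ne_top), trivIrr_apply, trivIrr_apply, map_one,
      mul_one, mul_one]
  rw [h1, Finset.sum_congr rfl fun ψ hψ => hc2 ψ (Finset.ne_of_mem_erase hψ), ← Finset.mul_sum]
    at hsum
  have hC : IsIntegral ℤ (∑ ψ ∈ Finset.univ.erase (trivIrr G), c ψ) :=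
    IsIntegral.sum _ fun ψ hψ => hc1 ψ (Finset.ne_of_mem_erase hψ)
  have hq0 : (q : ℂ) ≠ 0 := Nat.cast_ne_zero.2 hq.ne_zero
  have h2 : ((1 : ℕ) : ℂ) / (q : ℂ) = -∑ ψ ∈ Finset.univ.erase (trivIrr G), c ψ := by
    rw [Nat.cast_one]
    field_simp
    linear_combination hsum
  have h3 := nat_dvd_of_isIntegral_div 1 q hq.ne_zero (h2 ▸ hC.neg)
  exact hq.one_lt.ne' (Nat.dvd_one.1 h3)

/-- In a simple group of order `p ^ a * q ^ b * r` no element has order divisible by both `p`
and `r`. -/
theorem no_elt [IsSimpleGroup G] (p q r a b : ℕ)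
    [hp : Fact p.Prime] (hq : q.Prime) [hr : Fact r.Prime] (hpq : p ≠ q) (hpr : p ≠ r)
    (hqr : q ≠ r) (hcard : Nat.card G = p ^ a * q ^ b * r) (g : G) (hpg : p ∣ orderOf g)
    (hrg : r ∣ orderOf g) : False := by
  by_cases hna : ∃ a b : G, a * b ≠ b * a
  · exact no_elt_nonabelian hna p q r a b hq hpq hpr hqr hcard g hpg hrg
  · push Not at hna
    let _ : CommGroup G := { ‹Group G› with mul_comm := hna }
    have hprime : (Nat.card G).Prime := IsSimpleGroup.prime_card
    have h1 : p ∣ Nat.card G := hpg.trans (orderOf_dvd_natCard g)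
    have h2 : r ∣ Nat.card G := hrg.trans (orderOf_dvd_natCard g)
    have h3 := (Nat.prime_dvd_prime_iff_eq hp.out hprime).1 h1
    have h4 := (Nat.prime_dvd_prime_iff_eq hr.out hprime).1 h2
    exact hpr (h3.trans h4.symm)

/-- **The Sylow `r`-subgroup is self-centralizing.** -/
theorem centralizer_sylow [IsSimpleGroup G] (p q r a b : ℕ)
    (hp : p.Prime) (hq : q.Prime) [hr : Fact r.Prime] (hpq : p ≠ q) (hpr : p ≠ r)
    (hqr : q ≠ r) (hcard : Nat.card G = p ^ a * q ^ b * r) (S : Sylow r G) :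
    Subgroup.centralizer (S : Set G) = (S : Subgroup G) := by
  classical
  have hpF : Fact p.Prime := ⟨hp⟩
  have hqF : Fact q.Prime := ⟨hq⟩
  have hrG : r ∣ Nat.card G := by rw [hcard]; exact dvd_mul_left r _
  -- the order of `S`
  have hrS : r ∣ Nat.card S := by
    rw [Sylow.card_eq_multiplicity]
    exact dvd_pow_self r ((hr.out.dvd_iff_one_le_factorization Nat.card_pos.ne').1 hrG |>
      Nat.one_le_iff_ne_zero.1)
  obtain ⟨x, hx⟩ := exists_prime_orderOf_dvd_card' r hrS
  have hxG : orderOf (x : G) = r := by rw [Subgroup.orderOf_coe, hx]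
  set C := Subgroup.centralizer (S : Set G) with hC
  -- no prime `t ≠ r` divides the order of `C`
  have hkey : ∀ (t s c d : ℕ) [Fact t.Prime], s.Prime → t ≠ s → t ≠ r → s ≠ r →
      Nat.card G = t ^ c * s ^ d * r → ¬ t ∣ Nat.card C := by
    intro t s c d ht hs hts htr hsr hcard' htC
    obtain ⟨w, hw⟩ := exists_prime_orderOf_dvd_card' t htC
    have hwG : orderOf (w : G) = t := by rw [Subgroup.orderOf_coe, hw]
    have hcomm : Commute (x : G) (w : G) := by
      have := w.2 (x : G) x.2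
      exact this
    have hord : orderOf ((x : G) * (w : G)) = r * t := by
      rw [hcomm.orderOf_mul_eq_mul_orderOf_of_coprime, hxG, hwG]
      rw [hxG, hwG]
      exact (Nat.coprime_primes hr.out ht.out).2 (Ne.symm htr)
    exact no_elt t s r c d hs hts htr hsr hcard' ((x : G) * (w : G))
      (by rw [hord]; exact dvd_mul_left t r) (by rw [hord]; exact dvd_mul_right r t)
  have hpC : ¬ p ∣ Nat.card C := hkey p q a b hq hpq hpr hqr hcard
  have hqC : ¬ q ∣ Nat.card C := hkey q p b a hp (Ne.symm hpq) hqr hpr (by rw [hcard]; ring)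
  have hCdvd : Nat.card C ∣ p ^ a * q ^ b * r := hcard ▸ Subgroup.card_subgroup_dvd_card C
  have hc1 : Nat.Coprime (Nat.card C) (p ^ a) :=
    (((Nat.Prime.coprime_iff_not_dvd hp).2 hpC).symm).pow_right a
  have hc2 : Nat.Coprime (Nat.card C) (q ^ b) :=
    (((Nat.Prime.coprime_iff_not_dvd hq).2 hqC).symm).pow_right b
  have hCr : Nat.card C ∣ r := by
    rw [mul_assoc] at hCdvd
    exact hc2.dvd_of_dvd_mul_left (hc1.dvd_of_dvd_mul_left hCdvd)
  -- `S ≤ C` since `S` is abelian
  have hScard : Nat.card S = r := by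
    have h1 := Sylow.card_eq_multiplicity S
    have h2 : Nat.card S ∣ r := by
      -- `S` is generated by `x`?  use: `|S| ∣ |G|`, `|S|` a power of `r`, and `r ^ 2 ∤ |G|`
      rw [h1]
      have hfac : (Nat.card G).factorization r ≤ 1 := by
        by_contra hcon
        push Not at hcon
        have h3 : r ^ 2 ∣ Nat.card G :=
          (hr.out.pow_dvd_iff_le_factorization Nat.card_pos.ne').2 hcon
        rw [hcard, pow_two] at h3
        have h4 : r ∣ p ^ a * q ^ b := Nat.dvd_of_mul_dvd_mul_right hr.out.pos h3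
        rcases (Nat.Prime.dvd_mul hr.out).1 h4 with h5 | h5
        · exact hpr ((Nat.prime_dvd_prime_iff_eq hr.out hp).1 (hr.out.dvd_of_dvd_pow h5)).symm
        · exact hqr ((Nat.prime_dvd_prime_iff_eq hr.out hq).1 (hr.out.dvd_of_dvd_pow h5)).symm
      exact (pow_dvd_pow r hfac).trans (by rw [pow_one])
    exact Nat.dvd_antisymm h2 hrS
  have hSC : (S : Subgroup G) ≤ C := by
    have : Fact (Nat.card (S : Subgroup G)).Prime := ⟨by
      have : Nat.card (S : Subgroup G) = r := hScard
      rw [this]; exact hr.out⟩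
    have hcyc : IsCyclic (S : Subgroup G) := isCyclic_of_prime_card rfl
    intro s hs
    rw [hC, Subgroup.mem_centralizer_iff]
    intro t ht
    have hcomm : (⟨t, ht⟩ : (S : Subgroup G)) * ⟨s, hs⟩ = ⟨s, hs⟩ * ⟨t, ht⟩ := by
      let _ : CommGroup (S : Subgroup G) := IsCyclic.commGroup
      exact mul_comm _ _
    exact congrArg Subtype.val hcomm
  symm
  apply Subgroup.eq_of_le_of_card_ge hSC
  have : Nat.card C ≤ r := Nat.le_of_dvd hr.out.pos hCr
  calc Nat.card C ≤ r := this
    _ = Nat.card (S : Subgroup G) := hScard.symm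

end

end Cfsg.Agent.Lib.Helper8.PQR
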