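import Mathlib

/-! # S2276 (p-elements of alternating groups): common definitions

`PP p a b` : `a * b` does not have `p`-power order and `⟨a, b⟩` is not solvable.
`IsAtom2 p m μ ν` : a model pair of permutations of `Fin m` with cycle types `μ`, `ν` having `PP p`,
  in both "parities" (for `w` and for `o w o⁻¹` with `o` odd).
`uOf Bs` : product of the inverse rotations `(formPerm B)⁻¹` over the blocks `B` of `Bs`.
`endsOf Bs` : the last elements of the blocks. -/

set_option autoImplicit false

namespace Cfsg.Agent.Lib.Helper8.AltP

open Equiv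

/-- `a * b` is not of `p`-power order and `⟨a, b⟩` is not solvable. -/
def PP (p : ℕ) {G : Type*} [Group G] (a b : G) : Prop :=
  (¬ ∃ k : ℕ, orderOf (a * b) = p ^ k) ∧
    ¬ Group.IsSolvable ↥(Subgroup.closure ({a, b} : Set G))

/-- A model pair on `Fin m` with cycle types `μ`, `ν`, in both parities. -/
def IsAtom2 (p m : ℕ) (μ ν : Multiset ℕ) : Prop :=
  ∃ u w o : Perm (Fin m), u.cycleType = μ ∧ w.cycleType = ν ∧ Perm.sign o = -1 ∧
    PP p u w ∧ PP p u (o * w * o⁻¹)

/-- inverse rotations on the blocks of a list of lists. -/
def uOf {α : Type*} [DecidableEq α] (Bs : List (List α)) : Perm α :=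
  (Bs.map fun B => (List.formPerm B)⁻¹).prod

/-- the last elements of the blocks. -/
def endsOf {α : Type*} (Bs : List (List α)) : List α :=
  Bs.filterMap List.getLast?

/-- cut a list into consecutive chunks of the given lengths. -/
def chunks {α : Type*} : List ℕ → List α → List (List α)
  | [], _ => []
  | k :: ks, xs => xs.take k :: chunks ks (xs.drop k)

end Cfsg.Agent.Lib.Helper8.AltP
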