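import Mathlib
import Cfsg.Prelude.Def_Blocks
import Cfsg.Prelude.Def_BlockRank
import Cfsg.Agent.Lib.Helper8.BA1

/-!
# Brauer's inner product formula for the principal block (Brauer, applications IV)
-/

set_option autoImplicit false

namespace Cfsg.Agent.Lib.Helper8

open Cfsg
open scoped ComplexConjugate
open Cfsg.Agent.Lib.Helper1 Cfsg.Agent.Lib.Helper4

universe u

section

variable {G : Type u} [Group G] [Fintype G] {M : Ideal AlgInt} {p : ℕ}

omit [Fintype G] in
/-- Counting the elements of `N` conjugating `u` to `v`. -/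
theorem card_conjugators (N : Subgroup G) [Fintype N] (u v : G) (n : G) (hn : n ∈ N)
    (hnv : n * u * n⁻¹ = v) [DecidableEq G] :
    ((Finset.univ.filter (fun x : N => (x : G) * u * (x : G)⁻¹ = v)).card : ℕ) =
      Nat.card ↥(N ⊓ Subgroup.centralizer ({u} : Set G)) := by
  classical
  have key1 : ∀ y : G, y ∈ N → y * u * y⁻¹ = v →
      n⁻¹ * y ∈ N ⊓ Subgroup.centralizer ({u} : Set G) := by
    intro y hyN hx
    refine Subgroup.mem_inf.2 ⟨N.mul_mem (N.inv_mem hn) hyN, ?_⟩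
    rw [Subgroup.mem_centralizer_singleton_iff]
    have h1 : y * u = v * y := by
      rw [← hx]; group
    have h2 : n * u = v * n := by
      rw [← hnv]; group
    have h3 : u * n⁻¹ = n⁻¹ * v := by
      calc u * n⁻¹ = n⁻¹ * (n * u) * n⁻¹ := by group
        _ = n⁻¹ * v := by rw [h2]; group
    calc n⁻¹ * y * u = n⁻¹ * (y * u) := by group
      _ = n⁻¹ * v * y := by rw [h1]; group
      _ = u * (n⁻¹ * y) := by rw [← h3]; group
  have key2 : ∀ c : G, c ∈ N ⊓ Subgroup.centralizer ({u} : Set G) →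
      n * c * u * (n * c)⁻¹ = v := by
    intro c hc'
    have hc := (Subgroup.mem_inf.1 hc').2
    rw [Subgroup.mem_centralizer_singleton_iff] at hc
    rw [← hnv]
    calc n * c * u * (n * c)⁻¹ = n * (c * u) * c⁻¹ * n⁻¹ := by group
      _ = n * u * n⁻¹ := by rw [hc]; group
  rw [← Nat.card_eq_finsetCard]
  apply Nat.card_congr
  refine ⟨fun x => ⟨n⁻¹ * (x.1 : G), key1 _ x.1.2 (Finset.mem_filter.1 x.2).2⟩,
    fun c => ⟨⟨n * (c : G), N.mul_mem hn (Subgroup.mem_inf.1 c.2).1⟩,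
      Finset.mem_filter.2 ⟨Finset.mem_univ _, key2 _ c.2⟩⟩, ?_, ?_⟩
  · intro x
    apply Subtype.ext
    apply Subtype.ext
    show n * (n⁻¹ * (x.1 : G)) = (x.1 : G)
    group
  · intro c
    apply Subtype.ext
    show n⁻¹ * (n * (c : G)) = (c : G)
    group

/-- The key evaluation: `prinT u v` is `w` times the number of `N`-conjugators. -/
theorem prinT_eq_count [Fact p.Prime] (hM : IsPModular p M) (P : Subgroup G) (hP : IsPGroup p P)
    (N : Subgroup G) [Fintype N] (U : Set G)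
    (hfus : ∀ u ∈ U, ∀ g : G, g * u * g⁻¹ ∈ (P : Set G) → ∃ n ∈ N, n * u * n⁻¹ = g * u * g⁻¹)
    (w : ℚ)
    (hw : ∀ y ∈ U, ((∑ᶠ ψ ∈ principalBlock M ↥(Subgroup.centralizer ({y} : Set G)),
      (charDegree (ψ : ↥(Subgroup.centralizer ({y} : Set G)) → ℂ) : ℚ) ^ 2) : ℚ) =
        w * Nat.card ↥(N ⊓ Subgroup.centralizer ({y} : Set G)))
    [DecidableEq G] (u v : P) (hu : (u : G) ∈ U) :
    prinT M (u : G) (v : G) = (w : ℂ) *
      ((Finset.univ.filter (fun x : N => (x : G) * (u : G) * (x : G)⁻¹ = (v : G))).card : ℂ) := by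
  classical
  have hpu : ∃ k : ℕ, orderOf (u : G) = p ^ k := by
    obtain ⟨k, hk⟩ := (IsPGroup.iff_orderOf.1 hP) u
    exact ⟨k, by rw [← hk, Subgroup.orderOf_coe]⟩
  have hpv : ∃ k : ℕ, orderOf (v : G) = p ^ k := by
    obtain ⟨k, hk⟩ := (IsPGroup.iff_orderOf.1 hP) v
    exact ⟨k, by rw [← hk, Subgroup.orderOf_coe]⟩
  by_cases hex : ∃ n ∈ N, n * (u : G) * n⁻¹ = (v : G)
  · obtain ⟨n, hn, hnv⟩ := hex
    rw [card_conjugators N (u : G) (v : G) n hn hnv, ← hnv, prinT_conj hM hpu n, hw _ hu]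
    push_cast
    rfl
  · have hempty : Finset.univ.filter (fun x : N => (x : G) * (u : G) * (x : G)⁻¹ = (v : G)) = ∅ := by
      apply Finset.filter_eq_empty_iff.2
      intro x _ hx
      exact hex ⟨x, x.2, hx⟩
    rw [hempty, Finset.card_empty, Nat.cast_zero, mul_zero]
    apply prinT_eq_zero hM hpu hpv
    intro hc
    rw [isConj_iff] at hc
    obtain ⟨g, hg⟩ := hc
    obtain ⟨n, hn, hnv⟩ := hfus _ hu g (by rw [hg]; exact v.2)
    exact hex ⟨n, hn, by rw [hnv, hg]⟩

end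

end Cfsg.Agent.Lib.Helper8
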