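import Mathlib
import Cfsg.Prelude.Def_Blocks
import Cfsg.Prelude.Def_BlockRank
import Cfsg.Agent.Lib.Helper8.BA2

/-!
# Brauer's inner product formula for the principal block: assembly
-/

set_option autoImplicit false

namespace Cfsg.Agent.Lib.Helper8

open Cfsg
open scoped ComplexConjugate
open Cfsg.Agent.Lib.Helper1 Cfsg.Agent.Lib.Helper4

universe u

section

variable {G : Type u} [Group G] [Fintype G] {M : Ideal AlgInt} {p : ℕ}

omit [Fintype G] in
/-- The sum of the extension by zero over the `N`-conjugates of `u`. -/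
theorem sum_extendByZero_conj (P N : Subgroup G) [Fintype P] [Fintype N]
    (hNN : N ≤ Subgroup.normalizer (P : Set G)) (η : P → ℂ) (u : P) [DecidableEq G] :
    ∑ x : N, extendByZero P η ((x : G) * (u : G) * (x : G)⁻¹) =
      ∑ v : P, η v *
        ((Finset.univ.filter (fun x : N => (x : G) * (u : G) * (x : G)⁻¹ = (v : G))).card : ℂ) := by
  classical
  have h1 : ∀ x : N, extendByZero P η ((x : G) * (u : G) * (x : G)⁻¹) =
      ∑ v : P, if (x : G) * (u : G) * (x : G)⁻¹ = (v : G) then η v else 0 := by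
    intro x
    have hmem : (x : G) * (u : G) * (x : G)⁻¹ ∈ P :=
      (Subgroup.mem_normalizer_iff.1 (hNN x.2) (u : G)).1 u.2
    rw [Finset.sum_eq_single (⟨_, hmem⟩ : P)]
    · rw [if_pos rfl]
      unfold extendByZero
      exact Subtype.val_injective.extend_apply η 0 (⟨_, hmem⟩ : P)
    · intro v _ hv
      rw [if_neg]
      intro h
      exact hv (Subtype.ext h.symm)
    · intro h
      exact absurd (Finset.mem_univ _) h
  simp only [h1]
  rw [Finset.sum_comm]
  refine Finset.sum_congr rfl fun v _ => ?_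
  rw [← Finset.sum_filter, Finset.sum_const, nsmul_eq_mul, mul_comm]

/-- **Brauer's inner product formula** for the principal block. -/
theorem brauer_inner_formula [Fact p.Prime] (hM : IsPModular p M) (P : Subgroup G)
    (hP : IsPGroup p P) (N : Subgroup G) (hNN : N ≤ Subgroup.normalizer (P : Set G)) (U : Set G)
    (hfus : ∀ u ∈ U, ∀ g : G, g * u * g⁻¹ ∈ (P : Set G) → ∃ n ∈ N, n * u * n⁻¹ = g * u * g⁻¹)
    (w : ℚ)
    (hw : ∀ y ∈ U, ((∑ᶠ ψ ∈ principalBlock M ↥(Subgroup.centralizer ({y} : Set G)),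
      (charDegree (ψ : ↥(Subgroup.centralizer ({y} : Set G)) → ℂ) : ℚ) ^ 2) : ℚ) =
        w * Nat.card ↥(N ⊓ Subgroup.centralizer ({y} : Set G)))
    (θ η : P → ℂ) (hθU : ∀ y : P, (y : G) ∉ U → θ y = 0) :
    ∑ᶠ χ ∈ principalBlock M G,
      ((Nat.card ↥P : ℂ)⁻¹ * ∑ᶠ y : ↥P, (χ : G → ℂ) (y : G) * θ y⁻¹) *
        (starRingEnd ℂ) ((Nat.card ↥P : ℂ)⁻¹ * ∑ᶠ y : ↥P, (χ : G → ℂ) (y : G) * η y⁻¹) =
    ((w : ℂ) / ((Nat.card ↥P : ℂ) ^ 2)) * ∑ᶠ y : ↥P, θ y *
      (starRingEnd ℂ) (∑ᶠ x : ↥N, extendByZero P η ((x : G) * (y : G) * (x : G)⁻¹)) := by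
  classical
  have : Fintype (IrrCharacter G) := Fintype.ofFinite _
  have : Fintype P := Fintype.ofFinite _
  have : Fintype N := Fintype.ofFinite _
  rw [finsum_mem_eq_sum_indicator]
  simp only [finsum_eq_sum_of_fintype]
  -- reindexing by inversion
  have hA : ∀ (χ : IrrCharacter G) (f : P → ℂ), ∑ y : P, (χ : G → ℂ) (y : G) * f y⁻¹ =
      ∑ u : P, conj ((χ : G → ℂ) (u : G)) * f u := by
    intro χ f
    rw [← Equiv.sum_comp (Equiv.inv P)]
    refine Finset.sum_congr rfl fun y _ => ?_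
    show (χ : G → ℂ) ((y⁻¹ : P) : G) * f (y⁻¹)⁻¹ = conj ((χ : G → ℂ) (y : G)) * f y
    rw [inv_inv, Subgroup.coe_inv, isCharacter_inv (isCharacter_of_irr χ.2)]
  simp only [hA]
  set c : ℂ := (Nat.card ↥P : ℂ)⁻¹ with hc
  have hcc : conj c = c := by
    rw [hc, map_inv₀, Complex.conj_natCast]
  set S : ℂ := ∑ χ : IrrCharacter G, ∑ u : P, ∑ v : P,
    (if χ ∈ principalBlock M G then (1 : ℂ) else 0) *
      (conj ((χ : G → ℂ) (u : G)) * (χ : G → ℂ) (v : G)) * (θ u * conj (η v)) with hS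
  have hL : ∑ χ : IrrCharacter G, (if χ ∈ principalBlock M G then (1 : ℂ) else 0) *
      ((c * ∑ u : P, conj ((χ : G → ℂ) (u : G)) * θ u) *
        conj (c * ∑ u : P, conj ((χ : G → ℂ) (u : G)) * η u)) = c * c * S := by
    rw [hS, Finset.mul_sum]
    refine Finset.sum_congr rfl fun χ _ => ?_
    rw [map_mul, hcc, map_sum]
    have : ∀ v : P, conj (conj ((χ : G → ℂ) (v : G)) * η v) =
        (χ : G → ℂ) (v : G) * conj (η v) := by
      intro v
      rw [map_mul, Complex.conj_conj]
    simp only [this]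
    have h2 : (c * ∑ u : P, conj ((χ : G → ℂ) (u : G)) * θ u) *
        (c * ∑ v : P, (χ : G → ℂ) (v : G) * conj (η v)) =
        c * c * ∑ u : P, ∑ v : P, (conj ((χ : G → ℂ) (u : G)) * θ u) *
          ((χ : G → ℂ) (v : G) * conj (η v)) := by
      rw [← Finset.sum_mul_sum]
      ring
    rw [h2, Finset.mul_sum, Finset.mul_sum, Finset.mul_sum]
    refine Finset.sum_congr rfl fun u _ => ?_
    rw [Finset.mul_sum, Finset.mul_sum, Finset.mul_sum]
    refine Finset.sum_congr rfl fun v _ => ?_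
    ring
  have hR : ∑ u : P, θ u * conj (∑ x : N, extendByZero P η ((x : G) * (u : G) * (x : G)⁻¹)) * (w : ℂ)
      = S := by
    rw [hS, Finset.sum_comm]
    refine Finset.sum_congr rfl fun u _ => ?_
    rw [Finset.sum_comm]
    by_cases hu : (u : G) ∈ U
    · rw [sum_extendByZero_conj P N hNN η u, map_sum, mul_assoc, Finset.sum_mul, Finset.mul_sum]
      refine Finset.sum_congr rfl fun v _ => ?_
      have hpt := prinT_eq_count hM P hP N U hfus w hw u v hu
      unfold prinT at hpt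
      rw [finsum_mem_eq_sum_indicator] at hpt
      rw [map_mul, Complex.conj_natCast, mul_assoc, mul_comm _ (w : ℂ), ← hpt,
        Finset.mul_sum, Finset.mul_sum]
      refine Finset.sum_congr rfl fun χ _ => ?_
      have : (by classical exact if χ ∈ principalBlock M G then (1 : ℂ) else 0) =
          (if χ ∈ principalBlock M G then (1 : ℂ) else 0) := by
        congr
      rw [this]
      ring
    · rw [hθU u hu, zero_mul, zero_mul]
      symm
      apply Finset.sum_eq_zero
      intro v _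
      apply Finset.sum_eq_zero
      intro χ _
      ring
  have hL' : ∑ χ : IrrCharacter G,
      (by classical exact if χ ∈ principalBlock M G then (1 : ℂ) else 0) *
      ((c * ∑ u : P, conj ((χ : G → ℂ) (u : G)) * θ u) *
        conj (c * ∑ u : P, conj ((χ : G → ℂ) (u : G)) * η u)) = c * c * S := by
    rw [← hL]
  rw [hL', ← hR, Finset.mul_sum, Finset.mul_sum]
  refine Finset.sum_congr rfl fun u _ => ?_
  rw [hc]
  field_simp

end

end Cfsg.Agent.Lib.Helper8
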