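import Mathlib
import Cfsg.Prelude.Def_Blocks
import Cfsg.Prelude.Def_BlockRank
import Cfsg.Agent.Lib.Helper8.BA6

/-!
# Brauer's involution formulas: the main theorem
-/

set_option autoImplicit false

namespace Cfsg.Agent.Lib.Helper8

open Cfsg
open scoped ComplexConjugate
open Cfsg.Agent.Lib.Helper1 Cfsg.Agent.Lib.Helper4

universe u

section

variable {G : Type u} [Group G] [Fintype G] {M : Ideal AlgInt}

theorem re_ind_mul (c : Prop) [Decidable c] (z : ℂ) (x : ℝ) :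
    ((if c then (1 : ℂ) else 0) * (z * (x : ℂ))).re = if c then z.re * x else 0 := by
  split_ifs
  · rw [one_mul, Complex.re_mul_ofReal]
  · rw [zero_mul, Complex.zero_re]

theorem brauer_involution (hM : IsPModular 2 M) (P : Subgroup G) (hP : IsPGroup 2 P) (U : Set G)
    (t : G) (ht : orderOf t = 2)
    (hinv : ∀ u ∈ U, ∀ g : G, (g * t * g⁻¹) * u * (g * t * g⁻¹)⁻¹ ≠ u⁻¹) (θ : ↥P → ℂ)
    (hθ : IsGeneralizedCharacter ↥P θ) (hθU : ∀ y : ↥P, (y : G) ∉ U → θ y = 0) :
    (∑ᶠ χ ∈ principalBlock M G, ((Nat.card ↥P : ℂ)⁻¹ * ∑ᶠ y : ↥P, (χ : G → ℂ) (y : G) * θ y⁻¹) *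
      (χ : G → ℂ) t ^ 2 / (χ : G → ℂ) 1 = 0) ∧
    (∑ᶠ χ ∈ principalBlock M G, ((Nat.card ↥P : ℂ)⁻¹ * ∑ᶠ y : ↥P, (χ : G → ℂ) (y : G) * θ y⁻¹) *
      (χ : G → ℂ) 1 = 0) ∧
    (∑ᶠ χ ∈ principalBlock M G, ((Nat.card ↥P : ℂ)⁻¹ * ∑ᶠ y : ↥P, (χ : G → ℂ) (y : G) * θ y⁻¹) *
      (χ : G → ℂ) t = 0) ∧
    ((Nat.card ↥P : ℂ)⁻¹ * ∑ᶠ y : ↥P, θ y ≠ 0 →
      (2 ≤ Nat.card {χ : IrrCharacter G // χ ∈ principalBlock M G ∧
        0 < (((Nat.card ↥P : ℂ)⁻¹ * ∑ᶠ y : ↥P, (χ : G → ℂ) (y : G) * θ y⁻¹)).re} ∧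
       2 ≤ Nat.card {χ : IrrCharacter G // χ ∈ principalBlock M G ∧
        (((Nat.card ↥P : ℂ)⁻¹ * ∑ᶠ y : ↥P, (χ : G → ℂ) (y : G) * θ y⁻¹)).re < 0}) ∨
      ∃ K : Subgroup G, K.Normal ∧ K ≠ ⊤ ∧ pPrimeCore 2 G ≤ K ∧ t ∈ K) := by
  classical
  have : Fintype (IrrCharacter G) := Fintype.ofFinite _
  have : Fintype P := Fintype.ofFinite _
  have hpu : ∀ u : P, ∃ k : ℕ, orderOf (u : G) = 2 ^ k := by
    intro u
    obtain ⟨k, hk⟩ := (IsPGroup.iff_orderOf.1 hP) u
    exact ⟨k, by rw [← hk, Subgroup.orderOf_coe]⟩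
  have p1 : ∑ᶠ χ ∈ principalBlock M G,
      ((Nat.card ↥P : ℂ)⁻¹ * ∑ᶠ y : ↥P, (χ : G → ℂ) (y : G) * θ y⁻¹) *
      ((χ : G → ℂ) t ^ 2 / (χ : G → ℂ) 1) = 0 :=
    sum_coeff_eq_zero P U θ hθU (fun χ => (χ : G → ℂ) t ^ 2 / (χ : G → ℂ) 1)
      (fun u hu => (prin2_sums hM t ht (u : G) (hpu u) (hinv _ hu)).1)
  have p2 : ∑ᶠ χ ∈ principalBlock M G,
      ((Nat.card ↥P : ℂ)⁻¹ * ∑ᶠ y : ↥P, (χ : G → ℂ) (y : G) * θ y⁻¹) * (χ : G → ℂ) 1 = 0 :=
    sum_coeff_eq_zero P U θ hθU (fun χ => (χ : G → ℂ) 1)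
      (fun u hu => (prin2_sums hM t ht (u : G) (hpu u) (hinv _ hu)).2.1)
  have p3 : ∑ᶠ χ ∈ principalBlock M G,
      ((Nat.card ↥P : ℂ)⁻¹ * ∑ᶠ y : ↥P, (χ : G → ℂ) (y : G) * θ y⁻¹) * (χ : G → ℂ) t = 0 :=
    sum_coeff_eq_zero P U θ hθU (fun χ => (χ : G → ℂ) t)
      (fun u hu => (prin2_sums hM t ht (u : G) (hpu u) (hinv _ hu)).2.2)
  refine ⟨?_, p2, p3, ?_⟩
  · simp only [mul_div_assoc]
    exact p1
  intro hA
  set a : IrrCharacter G → ℂ := fun χ =>
    (Nat.card ↥P : ℂ)⁻¹ * ∑ᶠ y : ↥P, (χ : G → ℂ) (y : G) * θ y⁻¹ with ha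
  have ht2 : t * t = 1 := by
    have := pow_orderOf_eq_one t
    rw [ht, pow_two] at this
    exact this
  have htinv : t⁻¹ = t := inv_eq_of_mul_eq_one_right ht2
  -- real data
  have hτ : ∀ χ : IrrCharacter G, (χ : G → ℂ) t = (((χ : G → ℂ) t).re : ℂ) := by
    intro χ
    have h1 := isCharacter_inv (isCharacter_of_irr χ.2) t
    rw [htinv] at h1
    exact (Complex.conj_eq_iff_re.1 h1.symm).symm
  have hd : ∀ χ : IrrCharacter G, (χ : G → ℂ) 1 = (((charDegree (χ : G → ℂ) : ℕ) : ℝ) : ℂ) := by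
    intro χ
    rw [(irr_apply_one_eq_charDegree χ.2).1]
    push_cast
    rfl
  have hdpos : ∀ χ : IrrCharacter G, (0 : ℝ) < ((charDegree (χ : G → ℂ) : ℕ) : ℝ) := by
    intro χ
    exact_mod_cast (irr_apply_one_eq_charDegree χ.2).2
  set w : IrrCharacter G → ℝ := fun χ =>
    if χ ∈ principalBlock M G then (a χ).re * ((charDegree (χ : G → ℂ) : ℕ) : ℝ) else 0 with hw
  set r : IrrCharacter G → ℝ := fun χ =>
    ((χ : G → ℂ) t).re / ((charDegree (χ : G → ℂ) : ℕ) : ℝ) with hr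
  have h0 : ∑ χ, w χ = 0 := by
    have e := p2
    rw [finsum_mem_eq_sum_indicator] at e
    have e' := congrArg Complex.re e
    rw [Complex.re_sum, Complex.zero_re] at e'
    rw [← e']
    refine Finset.sum_congr rfl fun χ _ => ?_
    have : (by classical exact if χ ∈ principalBlock M G then (1 : ℂ) else 0) =
        (if χ ∈ principalBlock M G then (1 : ℂ) else 0) := by
      congr
    rw [this, hd χ, re_ind_mul]
  have h1 : ∑ χ, w χ * r χ = 0 := by
    have e := p3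
    rw [finsum_mem_eq_sum_indicator] at e
    have e' := congrArg Complex.re e
    rw [Complex.re_sum, Complex.zero_re] at e'
    rw [← e']
    refine Finset.sum_congr rfl fun χ _ => ?_
    have : (by classical exact if χ ∈ principalBlock M G then (1 : ℂ) else 0) =
        (if χ ∈ principalBlock M G then (1 : ℂ) else 0) := by
      congr
    rw [this, hτ χ, re_ind_mul]
    simp only [hw, hr]
    have hne := (hdpos χ).ne'
    split_ifs
    · simp only [ha]
      field_simp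
    · rw [zero_mul]
  have h2 : ∑ χ, w χ * r χ ^ 2 = 0 := by
    have e := p1
    rw [finsum_mem_eq_sum_indicator] at e
    have e' := congrArg Complex.re e
    rw [Complex.re_sum, Complex.zero_re] at e'
    rw [← e']
    refine Finset.sum_congr rfl fun χ _ => ?_
    have : (by classical exact if χ ∈ principalBlock M G then (1 : ℂ) else 0) =
        (if χ ∈ principalBlock M G then (1 : ℂ) else 0) := by
      congr
    have hq : (χ : G → ℂ) t ^ 2 / (χ : G → ℂ) 1 =
        ((((χ : G → ℂ) t).re ^ 2 / ((charDegree (χ : G → ℂ) : ℕ) : ℝ) : ℝ) : ℂ) := by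
      rw [hd χ]
      conv_lhs => rw [hτ χ]
      push_cast
      rfl
    rw [this, hq, re_ind_mul]
    simp only [hw, hr]
    have hne := (hdpos χ).ne'
    split_ifs
    · simp only [ha]
      field_simp
    · rw [zero_mul]
  -- the trivial character
  have htriv1 : charDegree (trivIrr G : G → ℂ) = 1 := by
    unfold charDegree
    rw [trivIrr_apply]
    simp
  have hθinv : ∀ y : P, θ y⁻¹ = conj (θ y) := by
    intro y
    obtain ⟨χ1, χ2, hc1, hc2, rfl⟩ := hθ
    simp only [Pi.sub_apply, map_sub]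
    rw [isCharacter_inv hc1, isCharacter_inv hc2]
  have hatriv : a (trivIrr G) = (Nat.card ↥P : ℂ)⁻¹ * ∑ᶠ y : ↥P, θ y := by
    simp only [ha, trivIrr_apply, one_mul, finsum_eq_sum_of_fintype]
    congr 1
    exact Equiv.sum_comp (Equiv.inv P) θ
  have hAreal : conj ((Nat.card ↥P : ℂ)⁻¹ * ∑ᶠ y : ↥P, θ y) =
      (Nat.card ↥P : ℂ)⁻¹ * ∑ᶠ y : ↥P, θ y := by
    simp only [finsum_eq_sum_of_fintype]
    rw [map_mul, map_inv₀, Complex.conj_natCast, map_sum]
    congr 1
    simp only [← hθinv]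
    exact Equiv.sum_comp (Equiv.inv P) θ
  have hAre : ((Nat.card ↥P : ℂ)⁻¹ * ∑ᶠ y : ↥P, θ y).re ≠ 0 := by
    intro h
    apply hA
    rw [← Complex.conj_eq_iff_re.1 hAreal, h, Complex.ofReal_zero]
  have htrivmem : trivIrr G ∈ principalBlock M G :=
    trivIrr_mem_principalBlock (isPModular_isPrime hM).ne_top
  have hw0 : w (trivIrr G) ≠ 0 := by
    simp only [hw]
    rw [if_pos htrivmem, htriv1, hatriv, Nat.cast_one, mul_one]
    exact hAre
  rcases sign_lemma w r h0 h1 h2 (trivIrr G) hw0 with ⟨hP2, hN2⟩ | ⟨j, hj1, hj2⟩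
  · left
    constructor
    · rw [Nat.card_eq_fintype_card, Fintype.card_subtype]
      refine le_trans hP2 (le_of_eq ?_)
      congr 1
      ext χ
      simp only [Finset.mem_filter, Finset.mem_univ, true_and, hw]
      constructor
      · intro h
        split_ifs at h with hχ
        · exact ⟨hχ, (pos_iff_pos_of_mul_pos h).2 (hdpos χ)⟩
        · exact absurd h (lt_irrefl _)
      · rintro ⟨hχ, h⟩
        rw [if_pos hχ]
        exact mul_pos h (hdpos χ)
    · rw [Nat.card_eq_fintype_card, Fintype.card_subtype]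
      refine le_trans hN2 (le_of_eq ?_)
      congr 1
      ext χ
      simp only [Finset.mem_filter, Finset.mem_univ, true_and, hw]
      constructor
      · intro h
        split_ifs at h with hχ
        · refine ⟨hχ, ?_⟩
          by_contra hge
          push Not at hge
          have := mul_nonneg hge (hdpos χ).le
          linarith
        · exact absurd h (lt_irrefl _)
      · rintro ⟨hχ, h⟩
        rw [if_pos hχ]
        exact mul_neg_of_neg_of_pos h (hdpos χ)
  · right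
    have hjmem : j ∈ principalBlock M G := by
      by_contra hj
      have : w j = 0 := by simp only [hw]; rw [if_neg hj]
      rw [this, zero_mul] at hj1
      exact lt_irrefl _ hj1
    have hjne : j ≠ trivIrr G := by
      intro h
      rw [h] at hj1
      have := mul_self_nonneg (w (trivIrr G))
      linarith
    have hrt : r (trivIrr G) = 1 := by
      simp only [hr]
      rw [htriv1, trivIrr_apply]
      simp
    have hjt : (j : G → ℂ) t = (j : G → ℂ) 1 := by
      rw [hτ j, hd j]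
      congr 1
      have := hj2
      rw [hrt] at this
      simp only [hr] at this
      have hne := (hdpos j).ne'
      field_simp at this
      exact this
    obtain ⟨K, hKn, hK⟩ := exists_normal_ker (isCharacter_of_irr j.2)
    refine ⟨K, hKn, ?_, ?_, ?_⟩
    · intro htop
      apply hjne
      apply eq_trivIrr_of_const
      intro g
      exact (hK g).1 (by rw [htop]; exact Subgroup.mem_top g)
    · intro n hn
      exact (hK n).2 (principalBlock_apply_pPrimeCore hM hjmem hn)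
    · exact (hK t).2 hjt

end

end Cfsg.Agent.Lib.Helper8
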