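import Mathlib
import Cfsg.Prelude.Def_Blocks
import Cfsg.Agent.Lib.Helper8.BlockOmega
import Cfsg.Agent.Lib.Helper8.RC1

set_option autoImplicit false

namespace Cfsg.Agent.Lib.Helper8.RK

open Cfsg Cfsg.Agent.Lib.Helper8 Cfsg.Agent.Lib.Helper1 Cfsg.Agent.Lib.Helper4
open scoped ComplexConjugate BigOperators

variable {G : Type*} [Group G] [Fintype G]

set_option linter.unusedSectionVars false

theorem isConj_inv_inv {a b : G} : IsConj a⁻¹ b⁻¹ ↔ IsConj a b := by
  constructor
  · intro h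
    obtain ⟨c, hc⟩ := isConj_iff.1 h
    refine isConj_iff.2 ⟨c, ?_⟩
    have : (c * a * c⁻¹)⁻¹ = b⁻¹ := by rw [← hc]; group
    exact inv_injective this
  · intro h
    obtain ⟨c, hc⟩ := isConj_iff.1 h
    refine isConj_iff.2 ⟨c, ?_⟩
    rw [← hc]; group

/-- The number of pairs `(y, z)` with `y ∼ x`, `z ∼ x'`, `z y⁻¹ ∈ S` as a sum of convolutions. -/
theorem card_pairs_eq_sum_conv (S : Subgroup G) [Fintype S] (x x' : G) :
    (Nat.card {yz : G × G // IsConj x yz.1 ∧ IsConj x' yz.2 ∧ yz.2 * yz.1⁻¹ ∈ S} : ℂ)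
      = ∑ s : S, conv (classIndicator x') (classIndicator x⁻¹) (s : G) := by
  classical
  have h1 : ∀ s : S, conv (classIndicator x') (classIndicator x⁻¹) (s : G)
      = ∑ z : G, if (IsConj x' z ∧ IsConj x ((s : G)⁻¹ * z)) then (1 : ℂ) else 0 := by
    intro s
    rw [conv_apply]
    refine Finset.sum_congr rfl fun z _ => ?_
    unfold classIndicator
    have : IsConj x⁻¹ (z⁻¹ * (s : G)) ↔ IsConj x ((s : G)⁻¹ * z) := by
      rw [← isConj_inv_inv (a := x)]
      have : ((s : G)⁻¹ * z)⁻¹ = z⁻¹ * (s : G) := by group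
      rw [this]
    by_cases h1 : IsConj x' z
    · by_cases h2 : IsConj x ((s : G)⁻¹ * z)
      · rw [if_pos h1, if_pos (this.2 h2), if_pos ⟨h1, h2⟩, one_mul]
      · have h3 : ¬ (IsConj x' z ∧ IsConj x ((s : G)⁻¹ * z)) := fun h => h2 h.2
        have h4 : ¬ IsConj x⁻¹ (z⁻¹ * (s : G)) := fun h => h2 (this.1 h)
        rw [if_pos h1, if_neg h4, if_neg h3, mul_zero]
    · have h3 : ¬ (IsConj x' z ∧ IsConj x ((s : G)⁻¹ * z)) := fun h => h1 h.1
      rw [if_neg h1, if_neg h3, zero_mul]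
  simp only [h1]
  rw [← Finset.sum_product']
  rw [Finset.sum_boole]
  congr 1
  rw [Nat.card_eq_fintype_card, Fintype.card_subtype]
  symm
  refine Finset.card_bij (fun sz _ => ((sz.1 : G)⁻¹ * sz.2, sz.2)) ?_ ?_ ?_
  · intro sz hsz
    simp only [Finset.mem_filter, Finset.mem_univ, true_and, Finset.mem_product] at hsz ⊢
    refine ⟨hsz.2, hsz.1, ?_⟩
    have : sz.2 * ((sz.1 : G)⁻¹ * sz.2)⁻¹ = (sz.1 : G) := by group
    rw [this]
    exact sz.1.2
  · intro sz _ sz' _ h
    simp only [Prod.mk.injEq] at h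
    obtain ⟨h1, h2⟩ := h
    rw [h2] at h1
    have : (sz.1 : G) = (sz'.1 : G) := by
      have := mul_right_cancel h1
      exact inv_injective this
    exact Prod.ext (Subtype.ext this) h2
  · intro yz hyz
    simp only [Finset.mem_filter, Finset.mem_univ, true_and] at hyz
    refine ⟨(⟨yz.2 * yz.1⁻¹, hyz.2.2⟩, yz.2), ?_, ?_⟩
    · simp only [Finset.mem_filter, Finset.mem_univ, true_and, Finset.mem_product]
      refine ⟨hyz.2.1, ?_⟩
      have : (yz.2 * yz.1⁻¹)⁻¹ * yz.2 = yz.1 := by group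
      rw [this]
      exact hyz.1
    · apply Prod.ext
      · show (yz.2 * yz.1⁻¹)⁻¹ * yz.2 = yz.1
        group
      · rfl

omit [Fintype G] in
theorem centralizer_inv_eq (x : G) :
    Subgroup.centralizer ({x⁻¹} : Set G) = Subgroup.centralizer ({x} : Set G) := by
  ext g
  simp only [Subgroup.mem_centralizer_iff, Set.mem_singleton_iff, forall_eq]
  constructor
  · intro h
    have : x * g = x * (g * x⁻¹) * x := by group
    rw [this, ← h]; group
  · intro h
    have : x⁻¹ * g = x⁻¹ * (g * x) * x⁻¹ := by group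
    rw [this, ← h]; group

theorem conv_classIndicator_eq_sum [Fintype (IrrCharacter G)] (x x' s : G) :
    conv (classIndicator x') (classIndicator x⁻¹) s = (Nat.card G : ℂ)⁻¹ *
      ∑ ψ : IrrCharacter G, centralChar (ψ : G → ℂ) x' *
        (((Subgroup.centralizer ({x} : Set G)).index : ℂ) * conj ((ψ : G → ℂ) x)) *
        conj ((ψ : G → ℂ) s) := by
  rw [classFunction_eq_sum_omega (isClassFunction_conv (classIndicator_isClassFunction x')
    (classIndicator_isClassFunction x⁻¹)) s]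
  congr 1
  refine Finset.sum_congr rfl fun ψ _ => ?_
  rw [omega_conv ψ.2 (classIndicator_isClassFunction x⁻¹),
    omega_classIndicator (isClassFunction_irr ψ.2), omega_classIndicator (isClassFunction_irr ψ.2)]
  have h1 : centralChar (ψ : G → ℂ) x⁻¹ * (ψ : G → ℂ) 1
      = ((Subgroup.centralizer ({x} : Set G)).index : ℂ) * conj ((ψ : G → ℂ) x) := by
    unfold centralChar
    rw [centralizer_inv_eq, div_mul_cancel₀ _ (irr_apply_one_ne_zero ψ.2),
      isCharacter_inv (isCharacter_of_irr ψ.2)]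
  rw [mul_assoc (centralChar (ψ : G → ℂ) x'), h1]

/-- **The class multiplication formula** for the number of pairs. -/
theorem card_centralizer_mul_card_pairs [Fintype (IrrCharacter G)] (S : Subgroup G) [Fintype S]
    (x x' : G) :
    (Nat.card (Subgroup.centralizer ({x} : Set G)) : ℂ) *
      (Nat.card {yz : G × G // IsConj x yz.1 ∧ IsConj x' yz.2 ∧ yz.2 * yz.1⁻¹ ∈ S} : ℂ)
      = ∑ ψ : IrrCharacter G, conj ((ψ : G → ℂ) x) * centralChar (ψ : G → ℂ) x' *
        ∑ s : S, conj ((ψ : G → ℂ) (s : G)) := by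
  have hG0 : (Nat.card G : ℂ) ≠ 0 := Nat.cast_ne_zero.2 Nat.card_pos.ne'
  have hC : (Nat.card (Subgroup.centralizer ({x} : Set G)) : ℂ)
      * ((Subgroup.centralizer ({x} : Set G)).index : ℂ) = (Nat.card G : ℂ) := by
    have := (Subgroup.centralizer ({x} : Set G)).card_mul_index
    exact_mod_cast this
  rw [card_pairs_eq_sum_conv]
  simp only [conv_classIndicator_eq_sum]
  rw [← Finset.mul_sum, Finset.sum_comm, ← mul_assoc]
  have h2 : ∀ ψ : IrrCharacter G, ∑ s : S, centralChar (ψ : G → ℂ) x' *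
        (((Subgroup.centralizer ({x} : Set G)).index : ℂ) * conj ((ψ : G → ℂ) x)) *
        conj ((ψ : G → ℂ) (s : G))
      = ((Subgroup.centralizer ({x} : Set G)).index : ℂ) *
        (conj ((ψ : G → ℂ) x) * centralChar (ψ : G → ℂ) x' *
        ∑ s : S, conj ((ψ : G → ℂ) (s : G))) := by
    intro ψ
    rw [Finset.mul_sum, Finset.mul_sum]
    refine Finset.sum_congr rfl fun s _ => ?_
    ring
  simp only [h2]
  rw [← Finset.mul_sum, ← mul_assoc]
  have h3 : (Nat.card (Subgroup.centralizer ({x} : Set G)) : ℂ) * (Nat.card G : ℂ)⁻¹ *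
      ((Subgroup.centralizer ({x} : Set G)).index : ℂ) = 1 := by
    rw [mul_comm _ (Nat.card G : ℂ)⁻¹, mul_assoc, hC, inv_mul_cancel₀ hG0]
  rw [h3, one_mul]

end Cfsg.Agent.Lib.Helper8.RK
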