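import Mathlib
import Cfsg.Prelude.Def_Characters
import Cfsg.Agent.Lib.Helper8.GH1

/-!
# A piece of Gallagher's theorem for linear characters
-/

set_option autoImplicit false

namespace Cfsg.Agent.Lib.Helper8

open Cfsg
open scoped ComplexConjugate
open Cfsg.Agent.Lib.Helper1 Cfsg.Agent.Lib.Helper4

universe u

section

variable {I : Type u} [Group I] [Fintype I]

/-- Sums of functions supported on a subgroup. -/
theorem sum_eq_sum_subgroup_of_support (K : Subgroup I) [Fintype K] (F : I → ℂ)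
    (hF : ∀ g : I, g ∉ K → F g = 0) : ∑ g : I, F g = ∑ k : K, F k := by
  classical
  rw [← Finset.sum_subtype (Finset.univ.filter (fun g : I => g ∈ K)) (by simp) F]
  symm
  apply Finset.sum_subset (Finset.subset_univ _)
  intro g _ hg
  apply hF
  simpa using hg

/-- If `ψ` restricts irreducibly to `N` and `μ ψ = ψ` for a linear character `μ` trivial on
`N`, then `μ` is trivial. -/
theorem hom_eq_one_of_mul_eq (N : Subgroup I) {ψ : I → ℂ} (hψ : IsIrrCharacter I ψ)
    (hres : IsIrrCharacter N (fun n : N => ψ n)) (μ : I →* ℂˣ) (hμN : ∀ n ∈ N, μ n = 1)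
    (h : ∀ g : I, ((μ g : ℂˣ) : ℂ) * ψ g = ψ g) : μ = 1 := by
  classical
  set K : Subgroup I := μ.ker with hK
  haveI : Fintype K := Fintype.ofFinite _
  have hNK : N ≤ K := fun n hn => MonoidHom.mem_ker.2 (hμN n hn)
  have hvan : ∀ g : I, g ∉ K → ψ g = 0 := by
    intro g hg
    have h1 : ((μ g : ℂˣ) : ℂ) ≠ 1 := by
      intro h2
      apply hg
      rw [hK, MonoidHom.mem_ker]
      exact Units.ext h2
    have h2 := h g
    have h3 : (((μ g : ℂˣ) : ℂ) - 1) * ψ g = 0 := by rw [sub_mul, h2, one_mul, sub_self]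
    exact (mul_eq_zero.1 h3).resolve_left (sub_ne_zero.2 h1)
  set η : K → ℂ := fun k => ψ k with hη
  have hηc : IsCharacter K η := isCharacter_comp_hom (isCharacter_of_irr hψ) K.subtype
  have hηres : IsIrrCharacter (N.subgroupOf K) (fun h : N.subgroupOf K => η h) :=
    isIrrCharacter_comp_mulEquiv hres (Subgroup.subgroupOfEquivOfLe hNK)
  have hηirr := isIrrCharacter_of_restrict_irr (N.subgroupOf K) hηc hηres
  have h1 := classInner_irr_self hηirr
  have h2 := classInner_irr_self hψ
  rw [classInner_def] at h1 h2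
  have hsum : ∑ g : I, ψ g * conj (ψ g) = ∑ k : K, η k * conj (η k) := by
    rw [sum_eq_sum_subgroup_of_support K (fun g => ψ g * conj (ψ g))]
    intro g hg
    rw [hvan g hg, zero_mul]
  rw [hsum] at h2
  have hK0 : (Nat.card K : ℂ) ≠ 0 := Nat.cast_ne_zero.2 Nat.card_pos.ne'
  have hI0 : (Nat.card I : ℂ) ≠ 0 := Nat.cast_ne_zero.2 Nat.card_pos.ne'
  have h3 : ∑ k : K, η k * conj (η k) = (Nat.card K : ℂ) := by
    field_simp at h1
    exact h1
  have h4 : ∑ k : K, η k * conj (η k) = (Nat.card I : ℂ) := by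
    field_simp at h2
    exact h2
  have h5 : Nat.card K = Nat.card I := by
    have : (Nat.card K : ℂ) = (Nat.card I : ℂ) := by rw [← h3, h4]
    exact_mod_cast this
  have h6 : K = ⊤ := (Subgroup.card_eq_iff_eq_top K).1 h5
  rw [hK] at h6
  exact MonoidHom.ker_eq_top_iff.1 h6

end

end Cfsg.Agent.Lib.Helper8
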