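import Mathlib
import Cfsg.Prelude.Def_Characters
import Cfsg.Agent.Lib.Helper8.GH2
import Cfsg.Agent.Lib.Helper4.CliffordInd
import Cfsg.Agent.Lib.Helper4.Gallagher

/-!
# Twisting an extension to the inertia group by linear characters and inducing
-/

set_option autoImplicit false

namespace Cfsg.Agent.Lib.Helper8

open Cfsg
open scoped ComplexConjugate
open Cfsg.Agent.Lib.Helper1 Cfsg.Agent.Lib.Helper4 Cfsg.Agent.S0193

universe u

section

variable {G : Type u} [Group G] [Fintype G]

/-- The twist of a function on a subgroup by a linear character of the group. -/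
noncomputable def twistBy (I : Subgroup G) (ψ : I → ℂ) (f : G →* ℂˣ) : I → ℂ :=
  fun i => ((f (i : G) : ℂˣ) : ℂ) * ψ i

/-- The data: `φ ∈ Irr(N)` with inertia group `I`, an extension `ψ` of `φ` to `I`, and all
linear characters of `G` are trivial on `N`. -/
structure ExtData (N : Subgroup G) [hN : N.Normal] (φ : N → ℂ) (I : Subgroup G) (ψ : I → ℂ) :
    Prop where
  irrφ : IsIrrCharacter N φ
  irrψ : IsIrrCharacter I ψ
  inertia_eq : I = inertia N φ
  le : N ≤ I
  ext : ∀ n : N, ψ ⟨(n : G), le n.2⟩ = φ n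
  triv : ∀ f : G →* ℂˣ, ∀ n ∈ N, f n = 1

namespace ExtData

variable {N : Subgroup G} [hN : N.Normal] {φ : N → ℂ} {I : Subgroup G} {ψ : I → ℂ}

theorem twist_irr (h : ExtData N φ I ψ) (f : G →* ℂˣ) : IsIrrCharacter I (twistBy I ψ f) := by
  classical
  haveI : Fintype I := Fintype.ofFinite _
  exact isIrrCharacter_hom_mul (f.comp I.subtype) h.irrψ

theorem twist_res (h : ExtData N φ I ψ) (f : G →* ℂˣ) (x : N.subgroupOf I) :
    twistBy I ψ f (x : I) = φ ⟨((x : I) : G), Subgroup.mem_subgroupOf.mp x.2⟩ := by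
  unfold twistBy
  rw [h.triv f _ (Subgroup.mem_subgroupOf.mp x.2)]
  have := h.ext ⟨((x : I) : G), Subgroup.mem_subgroupOf.mp x.2⟩
  simp only [Units.val_one, one_mul]
  rw [← this]

theorem res_irr (h : ExtData N φ I ψ) :
    IsIrrCharacter (N.subgroupOf I)
      (fun x : N.subgroupOf I => φ ⟨((x : I) : G), Subgroup.mem_subgroupOf.mp x.2⟩) :=
  isIrrCharacter_comp_mulEquiv h.irrφ (Subgroup.subgroupOfEquivOfLe h.le)

theorem twist_over (h : ExtData N φ I ψ) [Fintype I] (f : G →* ℂˣ) :
    classInner (indFun (N.subgroupOf I)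
      (fun x : N.subgroupOf I => φ ⟨((x : I) : G), Subgroup.mem_subgroupOf.mp x.2⟩))
      (twistBy I ψ f) ≠ 0 := by
  classical
  haveI : Fintype (N.subgroupOf I) := Fintype.ofFinite _
  rw [Cfsg.Agent.S0146.result (N.subgroupOf I) _ (twistBy I ψ f)
    (isClassFunction_irr (h.twist_irr f))]
  have h1 : (fun x : N.subgroupOf I => twistBy I ψ f (x : I))
      = (fun x : N.subgroupOf I => φ ⟨((x : I) : G), Subgroup.mem_subgroupOf.mp x.2⟩) := by
    funext x
    exact h.twist_res f x
  rw [h1, classInner_irr_self h.res_irr]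
  exact one_ne_zero

theorem ind_irr (h : ExtData N φ I ψ) (f : G →* ℂˣ) :
    IsIrrCharacter G (indFun I (twistBy I ψ f)) := by
  classical
  haveI : Fintype I := Fintype.ofFinite _
  exact (clifford_induction N φ h.irrφ I h.inertia_eq h.le).1 _ (h.twist_irr f) (h.twist_over f)

theorem ind_degree (h : ExtData N φ I ψ) (f : G →* ℂˣ) :
    charDegree (indFun I (twistBy I ψ f)) = charDegree φ * I.index := by
  obtain ⟨hφ1, -⟩ := irr_apply_one_eq_charDegree h.irrφ
  have h1 : twistBy I ψ f 1 = (charDegree φ : ℂ) := by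
    unfold twistBy
    have h2 := h.ext 1
    have h3 : (⟨((1 : N) : G), h.le (1 : N).2⟩ : I) = 1 := rfl
    rw [h3] at h2
    rw [h2, hφ1]
    simp
  have h2 := indFun_apply_one_nat I (twistBy I ψ f) h1
  have h3 : charDegree (indFun I (twistBy I ψ f)) = I.index * charDegree φ := by
    show ⌊(indFun I (twistBy I ψ f) 1).re⌋₊ = _
    rw [h2, Complex.natCast_re, Nat.floor_natCast]
  rw [h3, mul_comm]

theorem twist_eq_of_ind_eq (h : ExtData N φ I ψ) (f f' : G →* ℂˣ)
    (heq : indFun I (twistBy I ψ f) = indFun I (twistBy I ψ f')) :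
    twistBy I ψ f = twistBy I ψ f' := by
  classical
  haveI : Fintype I := Fintype.ofFinite _
  by_contra hne
  have h1 := (clifford_induction N φ h.irrφ I h.inertia_eq h.le).2 _ _ (h.twist_irr f)
    (h.twist_irr f') (h.twist_over f) (h.twist_over f') hne
  rw [heq, classInner_irr_self (h.ind_irr f')] at h1
  exact one_ne_zero h1

theorem hom_eq_of_ind_eq (h : ExtData N φ I ψ) (f f' : G →* ℂˣ)
    (heq : indFun I (twistBy I ψ f) = indFun I (twistBy I ψ f')) (i : I) :
    f (i : G) = f' (i : G) := by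
  classical
  haveI : Fintype I := Fintype.ofFinite _
  have h1 := h.twist_eq_of_ind_eq f f' heq
  set μ : I →* ℂˣ := (f.comp I.subtype) * (f'.comp I.subtype)⁻¹ with hμ
  have hμN : ∀ n ∈ N.subgroupOf I, μ n = 1 := by
    intro n hn
    rw [hμ]
    simp only [MonoidHom.mul_apply, MonoidHom.inv_apply, MonoidHom.comp_apply,
      Subgroup.coe_subtype]
    rw [h.triv f _ (Subgroup.mem_subgroupOf.mp hn), h.triv f' _ (Subgroup.mem_subgroupOf.mp hn)]
    simp
  have hmul : ∀ g : I, ((μ g : ℂˣ) : ℂ) * ψ g = ψ g := by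
    intro g
    have h2 := congrFun h1 g
    unfold twistBy at h2
    rw [hμ]
    simp only [MonoidHom.mul_apply, MonoidHom.inv_apply, MonoidHom.comp_apply,
      Subgroup.coe_subtype, Units.val_mul]
    have h3 : ((f' (g : G) : ℂˣ) : ℂ) ≠ 0 := Units.ne_zero _
    rw [mul_assoc, mul_comm _ (ψ g), ← mul_assoc, h2]
    rw [mul_comm _ (ψ g), mul_assoc, ← Units.val_mul, mul_inv_cancel]
    simp
  have hres : IsIrrCharacter (N.subgroupOf I) (fun n : N.subgroupOf I => ψ n) := by
    have h2 := h.res_irr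
    have h3 : (fun n : N.subgroupOf I => ψ n)
        = (fun x : N.subgroupOf I => φ ⟨((x : I) : G), Subgroup.mem_subgroupOf.mp x.2⟩) := by
      funext x
      exact h.ext ⟨((x : I) : G), Subgroup.mem_subgroupOf.mp x.2⟩
    rw [h3]
    exact h2
  have h4 := hom_eq_one_of_mul_eq (N.subgroupOf I) h.irrψ hres μ hμN hmul
  have h5 : μ i = 1 := by rw [h4]; rfl
  rw [hμ] at h5
  simp only [MonoidHom.mul_apply, MonoidHom.inv_apply, MonoidHom.comp_apply,
    Subgroup.coe_subtype] at h5
  exact mul_inv_eq_one.1 h5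

end ExtData

end

end Cfsg.Agent.Lib.Helper8
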