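import Mathlib
import Cfsg.Prelude.Def_Characters
import Cfsg.Agent.Lib.Helper8.GH3
import Cfsg.Agent.Lib.Helper1.CharFound4

/-!
# Counting linear characters against characters induced from an inertia group
-/

set_option autoImplicit false

namespace Cfsg.Agent.Lib.Helper8

open Cfsg
open scoped ComplexConjugate
open Cfsg.Agent.Lib.Helper1 Cfsg.Agent.Lib.Helper4 Cfsg.Agent.S0193

universe u

section

variable {G : Type u} [Group G]

/-- The number of irreducible characters is at most the group order. -/
theorem card_irr_le_card (Q : Type u) [Group Q] [Finite Q] :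
    Nat.card (IrrCharacter Q) ≤ Nat.card Q := by
  rw [card_irr_eq_card_conjClasses]
  exact Nat.card_le_card_of_surjective ConjClasses.mk ConjClasses.mk_surjective

variable [Fintype G]

namespace ExtData

variable {N : Subgroup G} [hN : N.Normal] {φ : N → ℂ} {I : Subgroup G} {ψ : I → ℂ}

theorem card_linear_le (h : ExtData N φ I ψ) :
    Nat.card {χ : IrrCharacter G // charDegree (χ : G → ℂ) = 1}
      ≤ I.index * Nat.card {χ : IrrCharacter G // charDegree (χ : G → ℂ)
          = charDegree φ * I.index} := by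
  classical
  haveI : Fintype (IrrCharacter G) := Fintype.ofFinite _
  have hhom : ∀ χ : {χ : IrrCharacter G // charDegree (χ : G → ℂ) = 1},
      ∃ f : G →* ℂˣ, ((χ : IrrCharacter G) : G → ℂ) = fun g => ((f g : ℂˣ) : ℂ) := by
    intro χ
    apply exists_hom_of_isIrrCharacter χ.1.2
    rw [(irr_apply_one_eq_charDegree χ.1.2).1, χ.2]
    simp
  choose hom hhom using hhom
  set F : {χ : IrrCharacter G // charDegree (χ : G → ℂ) = 1} →
      {χ : IrrCharacter G // charDegree (χ : G → ℂ) = charDegree φ * I.index} :=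
    fun χ => ⟨⟨indFun I (twistBy I ψ (hom χ)), h.ind_irr _⟩, h.ind_degree _⟩ with hF
  rw [Nat.card_eq_fintype_card, Nat.card_eq_fintype_card, ← Finset.card_univ, ← Finset.card_univ]
  refine le_trans (Finset.card_le_mul_card_image (f := F) Finset.univ I.index ?_)
    (Nat.mul_le_mul_left _ (Finset.card_le_card (Finset.subset_univ _)))
  intro c hc
  obtain ⟨χ₀, -, hχ₀⟩ := Finset.mem_image.1 hc
  set M : Subgroup G := Subgroup.normalClosure (I : Set G) with hM
  -- for χ in the fiber, the quotient of the homs is trivial on M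
  have hker : ∀ χ : {χ : IrrCharacter G // charDegree (χ : G → ℂ) = 1}, F χ = c →
      M ≤ (hom χ * (hom χ₀)⁻¹).ker := by
    intro χ hχ
    rw [hM]
    apply Subgroup.normalClosure_le_normal
    intro i hi
    rw [SetLike.mem_coe, MonoidHom.mem_ker]
    have h1 : F χ = F χ₀ := hχ.trans hχ₀.symm
    have h2 : indFun I (twistBy I ψ (hom χ)) = indFun I (twistBy I ψ (hom χ₀)) := by
      have := congrArg (fun x => ((x : {χ : IrrCharacter G // charDegree (χ : G → ℂ)
        = charDegree φ * I.index}) : IrrCharacter G).1) h1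
      exact this
    have h3 := h.hom_eq_of_ind_eq (hom χ) (hom χ₀) h2 ⟨i, hi⟩
    simp only [MonoidHom.mul_apply, MonoidHom.inv_apply]
    rw [h3]
    exact mul_inv_cancel _
  -- the injection of the fiber into Irr(G ⧸ M)
  set Φ : {χ : IrrCharacter G // charDegree (χ : G → ℂ) = 1} → IrrCharacter (G ⧸ M) :=
    fun χ => if hχ : F χ = c then
      ⟨fun q => ((QuotientGroup.lift M (hom χ * (hom χ₀)⁻¹) (hker χ hχ) q : ℂˣ) : ℂ),
        isIrrCharacter_of_hom _⟩
      else trivIrr (G ⧸ M) with hΦ
  haveI : Fintype (IrrCharacter (G ⧸ M)) := Fintype.ofFinite _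
  have hinj : Set.InjOn Φ ↑(Finset.univ.filter (fun χ => F χ = c)) := by
    intro χ hχ χ' hχ' heq
    have hχc : F χ = c := by simpa using hχ
    have hχ'c : F χ' = c := by simpa using hχ'
    rw [hΦ] at heq
    simp only [dif_pos hχc, dif_pos hχ'c] at heq
    have h1 := congrArg Subtype.val heq
    apply Subtype.ext
    apply Subtype.ext
    rw [hhom χ, hhom χ']
    funext g
    have h2 := congrFun h1 (QuotientGroup.mk g)
    simp only [QuotientGroup.lift_mk, MonoidHom.mul_apply, MonoidHom.inv_apply,
      Units.val_mul] at h2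
    have h3 : (((hom χ₀ g)⁻¹ : ℂˣ) : ℂ) ≠ 0 := Units.ne_zero _
    exact mul_right_cancel₀ h3 h2
  have h1 := Finset.card_le_card_of_injOn Φ (fun χ _ => Finset.mem_univ _) hinj
  refine le_trans h1 ?_
  rw [Finset.card_univ, ← Nat.card_eq_fintype_card]
  refine le_trans (card_irr_le_card (G ⧸ M)) ?_
  rw [← Subgroup.index_eq_card]
  exact Nat.le_of_dvd (Nat.pos_of_ne_zero Subgroup.index_ne_zero_of_finite)
    (Subgroup.index_dvd_of_le Subgroup.le_normalClosure)

end ExtData

end

end Cfsg.Agent.Lib.Helper8
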