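import Mathlib
import Cfsg.Agent.Lib.Helper8.GDihDefs
import Cfsg.Agent.Lib.Helper8.GDihT1

/-! S4385, package RA: the conjugation action of `x 0 * x k` on `Q = ⟨x 1, …, x (k-1)⟩`
for `(k, ℓ) = (3, 2)` and `(4, 3)`. -/

set_option autoImplicit false

namespace Cfsg.Agent.Lib.Helper8.GDih

open Cfsg.Agent.Lib.Helper7 Cfsg.Agent.Lib.Helper7.Sims3

variable {G : Type*} [Group G]

/-! ### identities for three pairwise commuting involutions -/

theorem ra_i1 {a b c : G} (hab : a * b = b * a) (ha : a * a = 1) (hb : b * b = 1) :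
    a * b * (a * b * c) = c := by
  calc a * b * (a * b * c) = a * (b * a) * b * c := by group
    _ = a * (a * b) * b * c := by rw [← hab]
    _ = (a * a) * (b * b) * c := by group
    _ = c := by rw [ha, hb, one_mul, one_mul]

theorem ra_i2 {a b c : G} (hab : a * b = b * a) (hac : a * c = c * a) (hbc : b * c = c * b)
    (hb : b * b = 1) (hc : c * c = 1) : c * b * (a * b * c) = a := by
  calc c * b * (a * b * c) = c * (b * a) * b * c := by group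
    _ = c * (a * b) * b * c := by rw [← hab]
    _ = (c * a) * (b * b) * c := by group
    _ = (a * c) * (b * b) * c := by rw [← hac]
    _ = a * (b * b) * (c * c) := by rw [hb]; group
    _ = a := by rw [hb, hc, mul_one, mul_one]

theorem ra_i3 {a b c : G} (hbc : b * c = c * b) (hb : b * b = 1) (hc : c * c = 1) :
    (a * b * c) * b * (b * c) = a * b := by
  calc (a * b * c) * b * (b * c) = a * b * c * (b * b) * c := by group
    _ = a * b * (c * c) := by rw [hb]; group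
    _ = a * b := by rw [hc, mul_one]

theorem ra_i6 {a b c : G} (hab : a * b = b * a) (ha : a * a = 1) :
    (a * b) * (a * c) = b * c := by
  calc (a * b) * (a * c) = (b * a) * (a * c) := by rw [hab]
    _ = b * (a * a) * c := by group
    _ = b * c := by rw [ha, mul_one]

/-- conjugation by a product. -/
theorem ra_conj_mul (g a b : G) : g * (a * b) * g⁻¹ = (g * a * g⁻¹) * (g * b * g⁻¹) := by group

/-- an element whose conjugation fixes `q` commutes with `q`. -/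
theorem ra_commute_of_conj {g q : G} (h : g * q * g⁻¹ = q) : Commute g q := by
  show g * q = q * g
  calc g * q = (g * q * g⁻¹) * g := by group
    _ = q * g := by rw [h]

theorem ra_conj_of_commute {g q : G} (h : Commute g q) : g * q * g⁻¹ = q := by
  rw [h.eq]; group

theorem ra_conj_pow_two (g q : G) : g ^ 2 * q * (g ^ 2)⁻¹ = g * (g * q * g⁻¹) * g⁻¹ := by
  simp only [pow_succ, pow_zero, one_mul, mul_inv_rev, mul_assoc]

theorem ra_conj_pow_three (g q : G) :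
    g ^ 3 * q * (g ^ 3)⁻¹ = g * (g * (g * q * g⁻¹) * g⁻¹) * g⁻¹ := by
  simp only [pow_succ, pow_zero, one_mul, mul_inv_rev, mul_assoc]

theorem ra_conj_pow_four (g q : G) :
    g ^ 4 * q * (g ^ 4)⁻¹ = g ^ 2 * (g ^ 2 * q * (g ^ 2)⁻¹) * (g ^ 2)⁻¹ := by
  simp only [pow_succ, pow_zero, one_mul, mul_inv_rev, mul_assoc]

variable [Finite G] {x : ℤ → G} {h : G} {k n ℓ : ℕ}

/-- `Q = ⟨x 1, …, x ℓ⟩` (`ℓ + 1 = k`) is normalised by `⟨x 0, …, x k⟩`. -/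
theorem ra_Q_normal (T : TSn x h k n) (hℓ : ℓ + 1 = k) :
    Y x 0 k ≤ Subgroup.normalizer (Y x 1 ℓ : Set G) := by
  have hkℓ : (k : ℤ) = ℓ + 1 := by exact_mod_cast hℓ.symm
  apply Y_le
  intro i h0 h1
  by_cases hi : i ≤ ℓ
  · have h2 := T.relIndex_left (p := 0) (q := ℓ) (by omega) (by omega)
    rw [zero_add] at h2
    exact le_normalizer_of_relIndex_two (Y_mono x (by norm_num) le_rfl) h2 (x_mem_Y x h0 hi)
  · have hik : i = k := by omega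
    have h2 := T.relIndex_right (p := 1) (q := k) (by omega) (by omega)
    rw [show (k : ℤ) - 1 = ℓ by omega] at h2
    rw [hik]
    exact le_normalizer_of_relIndex_two (Y_mono x le_rfl (by omega)) h2
      (x_mem_Y x (by omega) le_rfl)

/-- `g ^ (2 n) ∈ Q` for `g ∈ ⟨x 0, …, x k⟩`. -/
theorem ra_pow_mem (T : TSn x h k n) (hℓ : ℓ + 1 = k) {g : G} (hg : g ∈ Y x 0 k) :
    g ^ (2 * n) ∈ Y x 1 ℓ := by
  have hkℓ : (k : ℤ) = ℓ + 1 := by exact_mod_cast hℓ.symm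
  have hQH : Y x 1 ℓ ≤ Y x 0 k := Y_mono x (by norm_num) (by omega)
  have hnorm : ((Y x 1 ℓ).subgroupOf (Y x 0 k)).Normal :=
    (Subgroup.normal_subgroupOf_iff_le_normalizer hQH).2 (ra_Q_normal T hℓ)
  have hidx : ((Y x 1 ℓ).subgroupOf (Y x 0 k)).index = 2 * n := by
    have h1 := card_eq_relIndex_mul hQH
    rw [T.cardP, T.card 1 ℓ (by omega) (by omega)] at h1
    have h2 : ((ℓ : ℤ) + 1 - 1).toNat = ℓ := by omega
    rw [h2, ← hℓ, pow_succ] at h1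
    have h3 : 0 < 2 ^ ℓ := by positivity
    have h4 : (Y x 1 ℓ).relIndex (Y x 0 (ℓ + 1 : ℕ)) * 2 ^ ℓ = (2 * n) * 2 ^ ℓ := by
      rw [← h1]; ring
    rw [← hℓ]
    exact Nat.eq_of_mul_eq_mul_right h3 h4
  have h5 := Subgroup.pow_index_mem ((Y x 1 ℓ).subgroupOf (Y x 0 k)) (⟨g, hg⟩ : Y x 0 k)
  rw [hidx, Subgroup.mem_subgroupOf] at h5
  simpa using h5

/-- if `g ^ 4` centralises `Q` then so does `g ^ 2` (`n` odd). -/
theorem ra_sq_commute (T : TSn x h k n) (hn : Odd n) (hℓ : ℓ + 1 = k)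
    (hQab : ∀ a ∈ Y x 1 ℓ, ∀ b ∈ Y x 1 ℓ, Commute a b) {g : G} (hg : g ∈ Y x 0 k)
    (h4 : ∀ q ∈ Y x 1 ℓ, Commute (g ^ 4) q) : ∀ q ∈ Y x 1 ℓ, Commute (g ^ 2) q := by
  intro q hq
  obtain ⟨j, hj⟩ := hn
  have h1 : Commute (g ^ (2 * n)) q := hQab _ (ra_pow_mem T hℓ hg) q hq
  have h2 : Commute ((g ^ 4) ^ j) q := (h4 q hq).pow_left j
  have h3 : g ^ 2 = g ^ (2 * n) * ((g ^ 4) ^ j)⁻¹ := by
    rw [hj, ← pow_mul, eq_mul_inv_iff_mul_eq, ← pow_add]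
    congr 1
    ring
  rw [h3]
  exact h1.mul_left h2.inv_left

/-- the generators of `Q` commute. -/
theorem ra_Q_comm (T : TSn x h k n) (N : NA x k ℓ) :
    ∀ a ∈ Y x 1 ℓ, ∀ b ∈ Y x 1 ℓ, Commute a b := by
  intro a ha b hb
  apply commute_of_forall₂ x _ ha hb
  intro i j hi1 hi2 hj1 hj2
  exact T.comm_dist N.ab i j (by omega) (by omega)

/-- **RA, `k = 3`**. -/
theorem ra_three (T : TSn x h k n) (N : NA x k ℓ) (hk : k = 3) (hℓ : ℓ = 2) :
    ∀ q ∈ Y x 1 ℓ, Commute ((x 0 * x k) ^ 3) q := by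
  subst hk hℓ
  have hs : ∀ i, x i * x i = 1 := T.sq
  have hinv : ∀ i, (x i)⁻¹ = x i := T.inv_eq
  have hcomm : ∀ i j : ℤ, i - j ≤ 1 → j - i ≤ 1 → Commute (x i) (x j) := fun i j h1 h2 =>
    T.comm_dist N.ab i j (by norm_num; omega) (by norm_num; omega)
  -- the commutator is `x 1`
  have hc : cm x 2 = x 1 := by
    have h1 := T.cm_mem N
    norm_num at h1
    rw [Y_self] at h1
    rcases TS.mem_zpowers_cases (hs 1) h1 with h2 | h2
    · exact absurd h2 (T.cm_ne N)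
    · exact h2
  have hcm : ∀ m : ℤ, x m * x (m + 2) * (x m)⁻¹ * (x (m + 2))⁻¹ = x (m + 1) := by
    intro m
    have h1 := T.cm_shift (ℓ := 2) m
    rw [hc, T.shift.zpow, add_comm 1 m] at h1
    exact_mod_cast h1
  -- conjugation by `x 0` and `x 3`
  have hA2 : x 0 * x 2 * (x 0)⁻¹ = x 1 * x 2 := by
    have h1 := hcm 0
    norm_num at h1
    rw [← h1]; group
  have hB1 : x 3 * x 1 * (x 3)⁻¹ = x 1 * x 2 := by
    have h1 := hcm 1
    norm_num at h1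
    have h2 : x 3 * x 1 * (x 3)⁻¹ = (x 1 * x 3 * (x 1)⁻¹ * (x 3)⁻¹)⁻¹ * x 1 := by
      group
    rw [h2, h1, hinv 2]
    exact ((hcomm 1 2 (by norm_num) (by norm_num)).eq).symm
  have hA1 : x 0 * x 1 * (x 0)⁻¹ = x 1 :=
    ra_conj_of_commute (hcomm 0 1 (by norm_num) (by norm_num))
  have hB2 : x 3 * x 2 * (x 3)⁻¹ = x 2 :=
    ra_conj_of_commute (hcomm 3 2 (by norm_num) (by norm_num))
  have h12 : x 1 * x 2 = x 2 * x 1 := (hcomm 1 2 (by norm_num) (by norm_num)).eq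
  obtain ⟨ρ, hρ⟩ : ∃ ρ : G, ρ = x 0 * x 3 := ⟨_, rfl⟩
  have hR : ∀ q : G, ρ * q * ρ⁻¹ = x 0 * (x 3 * q * (x 3)⁻¹) * (x 0)⁻¹ := by
    intro q; rw [hρ]; group
  have hR1 : ρ * x 1 * ρ⁻¹ = x 2 := by
    rw [hR, hB1, ra_conj_mul, hA1, hA2, ← mul_assoc, hs 1, one_mul]
  have hR2 : ρ * x 2 * ρ⁻¹ = x 1 * x 2 := by
    rw [hR, hB2, hA2]
  have hR12 : ρ * (x 1 * x 2) * ρ⁻¹ = x 1 := by
    rw [ra_conj_mul, hR1, hR2]
    calc x 2 * (x 1 * x 2) = x 2 * (x 2 * x 1) := by rw [h12]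
      _ = (x 2 * x 2) * x 1 := by group
      _ = x 1 := by rw [hs 2, one_mul]
  intro q hq
  have hρ3 : (x 0 * x ((3 : ℕ) : ℤ)) ^ 3 = ρ ^ 3 := by rw [hρ]; norm_num
  rw [hρ3]
  apply commute_of_forall x _ hq
  intro i hi1 hi2
  have hi : i = 1 ∨ i = 2 := by norm_num at hi2; omega
  rcases hi with rfl | rfl
  · apply ra_commute_of_conj
    rw [ra_conj_pow_three, hR1, hR2, hR12]
  · apply ra_commute_of_conj
    rw [ra_conj_pow_three, hR2, hR12, hR1]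

/-- **RA, `k = 4`**. -/
theorem ra_four (T : TSn x h k n) (hn : Odd n) (N : NA x k ℓ) (hk : k = 4) (hℓ : ℓ = 3) :
    cm x ℓ = x 1 * x 2 ∧ ∀ q ∈ Y x 1 ℓ, Commute ((x 0 * x k) ^ 3) q := by
  subst hk hℓ
  have hs : ∀ i, x i * x i = 1 := T.sq
  have hinv : ∀ i, (x i)⁻¹ = x i := T.inv_eq
  have hcomm : ∀ i j : ℤ, i - j ≤ 2 → j - i ≤ 2 → Commute (x i) (x j) := fun i j h1 h2 =>
    T.comm_dist N.ab i j (by norm_num; omega) (by norm_num; omega)
  have h12 : x 1 * x 2 = x 2 * x 1 := (hcomm 1 2 (by norm_num) (by norm_num)).eq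
  have h13 : x 1 * x 3 = x 3 * x 1 := (hcomm 1 3 (by norm_num) (by norm_num)).eq
  have h23 : x 2 * x 3 = x 3 * x 2 := (hcomm 2 3 (by norm_num) (by norm_num)).eq
  -- the commutator lies in `⟨x 1, x 2⟩`
  have hcmem : cm x 3 ∈ Y x 1 2 := by
    have h1 := T.cm_mem_window N
    norm_num at h1
    exact h1
  have hcne : cm x 3 ≠ 1 := T.cm_ne N
  have hcases : cm x 3 = x 2 ∨ cm x 3 = x 1 ∨ cm x 3 = x 1 * x 2 := by
    rcases T.mem_left_cases (p := 1) (q := 2) (by norm_num) (by norm_num) hcmem with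
      h1 | ⟨g', hg', h1⟩
    · norm_num at h1
      rw [Y_self] at h1
      rcases TS.mem_zpowers_cases (hs 2) h1 with h2 | h2
      · exact absurd h2 hcne
      · exact Or.inl h2
    · norm_num at hg'
      rw [Y_self] at hg'
      rcases TS.mem_zpowers_cases (hs 2) hg' with h2 | h2
      · right; left; rw [h1, h2, mul_one]
      · right; right; rw [h1, h2]
  -- the shifted commutator
  have hc' : x 1 * x 4 * (x 1)⁻¹ * (x 4)⁻¹ = h * cm x 3 * h⁻¹ := by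
    have h1 := T.cm_shift (ℓ := 3) 1
    norm_num at h1
    exact h1
  have hsh : ∀ i : ℤ, h * x i * h⁻¹ = x (i + 1) := T.shift
  -- conjugation by `x 0` and `x 4`
  have hA3 : x 0 * x 3 * (x 0)⁻¹ = cm x 3 * x 3 := by
    have h1 : cm x 3 = x 0 * x 3 * (x 0)⁻¹ * (x 3)⁻¹ := by unfold cm; norm_num
    rw [h1]; group
  have hB1 : x 4 * x 1 * (x 4)⁻¹ = (x 1 * x 4 * (x 1)⁻¹ * (x 4)⁻¹)⁻¹ * x 1 := by group
  have hA1 : x 0 * x 1 * (x 0)⁻¹ = x 1 :=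
    ra_conj_of_commute (hcomm 0 1 (by norm_num) (by norm_num))
  have hA2 : x 0 * x 2 * (x 0)⁻¹ = x 2 :=
    ra_conj_of_commute (hcomm 0 2 (by norm_num) (by norm_num))
  have hB2 : x 4 * x 2 * (x 4)⁻¹ = x 2 :=
    ra_conj_of_commute (hcomm 4 2 (by norm_num) (by norm_num))
  have hB3 : x 4 * x 3 * (x 4)⁻¹ = x 3 :=
    ra_conj_of_commute (hcomm 4 3 (by norm_num) (by norm_num))
  obtain ⟨ρ, hρ⟩ : ∃ ρ : G, ρ = x 0 * x 4 := ⟨_, rfl⟩
  have hρmem : ρ ∈ Y x 0 ((4 : ℕ) : ℤ) := by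
    rw [hρ]
    exact Subgroup.mul_mem _ (x_mem_Y x le_rfl (by norm_num)) (x_mem_Y x (by norm_num) (by norm_num))
  have hR : ∀ q : G, ρ * q * ρ⁻¹ = x 0 * (x 4 * q * (x 4)⁻¹) * (x 0)⁻¹ := by
    intro q; rw [hρ]; group
  have hR2 : ρ * x 2 * ρ⁻¹ = x 2 := by rw [hR, hB2, hA2]
  have hρ3 : (x 0 * x ((4 : ℕ) : ℤ)) ^ 3 = ρ ^ 3 := by rw [hρ]; norm_num
  have hQab := ra_Q_comm T N
  have hx1 : x 1 ∈ Y x 1 ((3 : ℕ) : ℤ) := x_mem_Y x le_rfl (by norm_num)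
  have hx3 : x 3 ∈ Y x 1 ((3 : ℕ) : ℤ) := x_mem_Y x (by norm_num) (by norm_num)
  have hRR2' : ρ ^ 2 * x 2 * (ρ ^ 2)⁻¹ = x 2 := by rw [ra_conj_pow_two, hR2, hR2]
  -- a criterion for `ρ ^ 4` to centralise `Q`
  have hfour : (ρ ^ 2 * (ρ ^ 2 * x 1 * (ρ ^ 2)⁻¹) * (ρ ^ 2)⁻¹ = x 1) →
      (ρ ^ 2 * (ρ ^ 2 * x 3 * (ρ ^ 2)⁻¹) * (ρ ^ 2)⁻¹ = x 3) →
      ∀ q ∈ Y x 1 ((3 : ℕ) : ℤ), Commute (ρ ^ 2) q := by
    intro e1 e3
    apply ra_sq_commute T hn rfl hQab hρmem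
    intro q hq
    apply commute_of_forall x _ hq
    intro i hi1 hi2
    have hi : i = 1 ∨ i = 2 ∨ i = 3 := by norm_num at hi2; omega
    rcases hi with rfl | rfl | rfl
    · apply ra_commute_of_conj
      rw [ra_conj_pow_four]; exact e1
    · apply ra_commute_of_conj
      rw [ra_conj_pow_four, hRR2', hRR2']
    · apply ra_commute_of_conj
      rw [ra_conj_pow_four]; exact e3
  rcases hcases with hc | hc | hc
  · -- `c = x 2`: impossible
    exfalso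
    have hc2 : x 1 * x 4 * (x 1)⁻¹ * (x 4)⁻¹ = x 3 := by
      rw [hc', hc, hsh 2]; norm_num
    have hB1' : x 4 * x 1 * (x 4)⁻¹ = x 3 * x 1 := by rw [hB1, hc2, hinv 3]
    have hA3' : x 0 * x 3 * (x 0)⁻¹ = x 2 * x 3 := by rw [hA3, hc]
    have hR1 : ρ * x 1 * ρ⁻¹ = x 2 * x 3 * x 1 := by
      rw [hR, hB1', ra_conj_mul, hA3', hA1]
    have hR3 : ρ * x 3 * ρ⁻¹ = x 2 * x 3 := by rw [hR, hB3, hA3']
    have hRR1 : ρ ^ 2 * x 1 * (ρ ^ 2)⁻¹ = x 2 * x 1 := by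
      rw [ra_conj_pow_two, hR1, ra_conj_mul, ra_conj_mul, hR2, hR3, hR1]
      calc x 2 * (x 2 * x 3) * (x 2 * x 3 * x 1) = (x 2 * x 2) * x 3 * x 2 * x 3 * x 1 := by group
        _ = (x 3 * x 2) * x 3 * x 1 := by rw [hs 2, one_mul]
        _ = (x 2 * x 3) * x 3 * x 1 := by rw [h23]
        _ = x 2 * (x 3 * x 3) * x 1 := by group
        _ = x 2 * x 1 := by rw [hs 3, mul_one]
    have hRR3 : ρ ^ 2 * x 3 * (ρ ^ 2)⁻¹ = x 3 := by
      rw [ra_conj_pow_two, hR3, ra_conj_mul, hR2, hR3, ← mul_assoc, hs 2, one_mul]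
    have hRR2 : ρ ^ 2 * x 2 * (ρ ^ 2)⁻¹ = x 2 := by rw [ra_conj_pow_two, hR2, hR2]
    have hcen := hfour
      (by rw [hRR1, ra_conj_mul, hRR2, hRR1, ← mul_assoc, hs 2, one_mul])
      (by rw [hRR3, hRR3])
    have h5 := ra_conj_of_commute (hcen (x 1) hx1)
    rw [hRR1] at h5
    have h6 : x 2 = 1 := by
      calc x 2 = (x 2 * x 1) * (x 1)⁻¹ := by group
        _ = x 1 * (x 1)⁻¹ := by rw [h5]
        _ = 1 := by group
    exact T.ne 2 h6
  · -- `c = x 1`: impossible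
    exfalso
    have hc2 : x 1 * x 4 * (x 1)⁻¹ * (x 4)⁻¹ = x 2 := by
      rw [hc', hc, hsh 1]; norm_num
    have hB1' : x 4 * x 1 * (x 4)⁻¹ = x 2 * x 1 := by rw [hB1, hc2, hinv 2]
    have hA3' : x 0 * x 3 * (x 0)⁻¹ = x 1 * x 3 := by rw [hA3, hc]
    have hR1 : ρ * x 1 * ρ⁻¹ = x 2 * x 1 := by
      rw [hR, hB1', ra_conj_mul, hA2, hA1]
    have hR3 : ρ * x 3 * ρ⁻¹ = x 1 * x 3 := by rw [hR, hB3, hA3']
    have hRR1 : ρ ^ 2 * x 1 * (ρ ^ 2)⁻¹ = x 1 := by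
      rw [ra_conj_pow_two, hR1, ra_conj_mul, hR2, hR1, ← mul_assoc, hs 2, one_mul]
    have hRR3 : ρ ^ 2 * x 3 * (ρ ^ 2)⁻¹ = x 2 * x 3 := by
      rw [ra_conj_pow_two, hR3, ra_conj_mul, hR1, hR3]
      calc x 2 * x 1 * (x 1 * x 3) = x 2 * (x 1 * x 1) * x 3 := by group
        _ = x 2 * x 3 := by rw [hs 1, mul_one]
    have hRR2 : ρ ^ 2 * x 2 * (ρ ^ 2)⁻¹ = x 2 := by rw [ra_conj_pow_two, hR2, hR2]
    have hcen := hfour
      (by rw [hRR1, hRR1])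
      (by rw [hRR3, ra_conj_mul, hRR2, hRR3, ← mul_assoc, hs 2, one_mul])
    have h5 := ra_conj_of_commute (hcen (x 3) hx3)
    rw [hRR3] at h5
    have h6 : x 2 = 1 := by
      calc x 2 = (x 2 * x 3) * (x 3)⁻¹ := by group
        _ = x 3 * (x 3)⁻¹ := by rw [h5]
        _ = 1 := by group
    exact T.ne 2 h6
  · -- `c = x 1 * x 2`
    refine ⟨hc, ?_⟩
    have hc2 : x 1 * x 4 * (x 1)⁻¹ * (x 4)⁻¹ = x 2 * x 3 := by
      rw [hc', hc, ra_conj_mul, hsh 1, hsh 2]; norm_num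
    have hB1' : x 4 * x 1 * (x 4)⁻¹ = x 3 * x 2 * x 1 := by
      rw [hB1, hc2, mul_inv_rev, hinv 2, hinv 3]
    have hA3' : x 0 * x 3 * (x 0)⁻¹ = x 1 * x 2 * x 3 := by rw [hA3, hc]
    have hR1 : ρ * x 1 * ρ⁻¹ = x 3 := by
      rw [hR, hB1', ra_conj_mul, ra_conj_mul, hA3', hA2, hA1]
      calc x 1 * x 2 * x 3 * x 2 * x 1 = x 1 * x 2 * (x 3 * x 2) * x 1 := by group
        _ = x 1 * x 2 * (x 2 * x 3) * x 1 := by rw [h23]
        _ = x 1 * (x 2 * x 2) * (x 3 * x 1) := by group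
        _ = x 1 * (x 1 * x 3) := by rw [hs 2, mul_one, h13]
        _ = (x 1 * x 1) * x 3 := by group
        _ = x 3 := by rw [hs 1, one_mul]
    have hR3 : ρ * x 3 * ρ⁻¹ = x 1 * x 2 * x 3 := by rw [hR, hB3, hA3']
    have hR123 : ρ * (x 1 * x 2 * x 3) * ρ⁻¹ = x 1 := by
      rw [ra_conj_mul, ra_conj_mul, hR1, hR2, hR3]
      exact ra_i2 h12 h13 h23 (hs 2) (hs 3)
    intro q hq
    rw [hρ3]
    apply commute_of_forall x _ hq
    intro i hi1 hi2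
    have hi : i = 1 ∨ i = 2 ∨ i = 3 := by norm_num at hi2; omega
    rcases hi with rfl | rfl | rfl
    · apply ra_commute_of_conj
      rw [ra_conj_pow_three, hR1, hR3, hR123]
    · apply ra_commute_of_conj
      rw [ra_conj_pow_three, hR2, hR2, hR2]
    · apply ra_commute_of_conj
      rw [ra_conj_pow_three, hR3, hR123, hR1]

end Cfsg.Agent.Lib.Helper8.GDih
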