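import Mathlib
import Cfsg.Prelude.Def_Solvable
import Cfsg.Prelude.Def_CaseTheorems
import Cfsg.Agent.Lib.Helper8.GDihDefs
import Cfsg.Agent.Lib.Helper8.GDihT1
import Cfsg.Agent.Lib.Helper8.GDihRA
import Cfsg.Agent.Lib.Helper6.GDihA1
import Cfsg.Agent.Lib.Helper6.GDihA2

/-! S4385, package RB: from the Tutte sequence to the quotient by the odd core. -/

set_option autoImplicit false

namespace Cfsg.Agent.Lib.Helper8.GDih

open Cfsg.Agent.Lib.Helper7 Cfsg.Agent.Lib.Helper7.Sims3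

variable {G : Type*} [Group G] [Finite G] {x : ℤ → G} {h : G} {k n ℓ : ℕ}

/-- `⟨x 0, …, x k⟩` is generated by `Q = ⟨x 1, …, x ℓ⟩`, `x 0` and `x 0 * x k`. -/
theorem rb_gen (hℓ : ℓ + 1 = k) (hx0 : x 0 ∈ Y x 0 k) (hr : x 0 * x k ∈ Y x 0 k) :
    (Y x 1 ℓ).subgroupOf (Y x 0 k) ⊔
      Subgroup.closure {(⟨x 0, hx0⟩ : ↥(Y x 0 k)), ⟨x 0 * x k, hr⟩} = ⊤ := by
  have hkℓ : (k : ℤ) = ℓ + 1 := by exact_mod_cast hℓ.symm
  rw [eq_top_iff]
  rintro ⟨g, hg⟩ -
  have key : ∀ (g : G) (hg : g ∈ Subgroup.closure (x '' Set.Icc 0 (k : ℤ))),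
      (⟨g, hg⟩ : ↥(Y x 0 k)) ∈ (Y x 1 ℓ).subgroupOf (Y x 0 k) ⊔
        Subgroup.closure {(⟨x 0, hx0⟩ : ↥(Y x 0 k)), ⟨x 0 * x k, hr⟩} := by
    intro g hg
    induction hg using Subgroup.closure_induction with
    | mem y hy =>
      obtain ⟨i, ⟨hi0, hik⟩, rfl⟩ := hy
      by_cases h0 : i = 0
      · subst h0
        apply (le_sup_right : Subgroup.closure _ ≤ _)
        exact Subgroup.subset_closure (Set.mem_insert _ _)
      · by_cases hiℓ : i ≤ ℓ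
        · apply (le_sup_left : (Y x 1 ℓ).subgroupOf (Y x 0 k) ≤ _)
          rw [Subgroup.mem_subgroupOf]
          exact x_mem_Y x (by omega) hiℓ
        · have hik' : i = k := by omega
          subst hik'
          apply (le_sup_right : Subgroup.closure _ ≤ _)
          have e : (⟨x (k : ℤ), Subgroup.subset_closure ⟨(k : ℤ), ⟨hi0, hik⟩, rfl⟩⟩ : ↥(Y x 0 k))
              = (⟨x 0, hx0⟩ : ↥(Y x 0 k))⁻¹ * ⟨x 0 * x k, hr⟩ := by
            apply Subtype.ext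
            simp
          rw [e]
          apply Subgroup.mul_mem
          · apply Subgroup.inv_mem
            exact Subgroup.subset_closure (Set.mem_insert _ _)
          · exact Subgroup.subset_closure (Set.mem_insert_of_mem _ (Set.mem_singleton _))
    | one => exact Subgroup.one_mem _
    | mul a b ha hb iha ihb => exact Subgroup.mul_mem _ iha ihb
    | inv a ha iha => exact Subgroup.inv_mem _ iha
  exact key g hg

/-- **RB**. -/
theorem rb_bridge (T : TSn x h k n) (hn : Odd n) (N : NA x k ℓ) (hℓ : ℓ + 1 = k)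
    (h3 : ∀ q ∈ Y x 1 ℓ, Commute ((x 0 * x k) ^ 3) q) :
    ((Y x 1 ℓ).subgroupOf (Y x 0 k)).Normal ∧
    Nat.card (↥(Y x 0 k) ⧸ Cfsg.oddCore ↥(Y x 0 k)) = 3 * 2 ^ k ∧
    Nat.card (((Y x 1 ℓ).subgroupOf (Y x 0 k)).map
      (QuotientGroup.mk' (Cfsg.oddCore ↥(Y x 0 k)))) = 2 ^ ℓ ∧
    ∀ a : ↥(Y x 0 k) ⧸ Cfsg.oddCore ↥(Y x 0 k),
      (∀ q ∈ ((Y x 1 ℓ).subgroupOf (Y x 0 k)).map (QuotientGroup.mk' (Cfsg.oddCore ↥(Y x 0 k))),
        a * q = q * a) →
      a ∈ ((Y x 1 ℓ).subgroupOf (Y x 0 k)).map (QuotientGroup.mk' (Cfsg.oddCore ↥(Y x 0 k))) := by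
  have hkℓ : (k : ℤ) = ℓ + 1 := by exact_mod_cast hℓ.symm
  have hℓ2 : (2 : ℤ) ≤ ℓ := by exact_mod_cast N.two
  have hQH : Y x 1 ℓ ≤ Y x 0 k := Y_mono x (by norm_num) (by omega)
  have hnorm : ((Y x 1 ℓ).subgroupOf (Y x 0 k)).Normal :=
    (Subgroup.normal_subgroupOf_iff_le_normalizer hQH).2 (ra_Q_normal T hℓ)
  haveI := hnorm
  have hQcard : Nat.card ((Y x 1 ℓ).subgroupOf (Y x 0 k)) = 2 ^ ℓ := by
    rw [Nat.card_congr (Subgroup.subgroupOfEquivOfLe hQH).toEquiv, T.card 1 ℓ (by omega) (by omega)]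
    congr 1
    omega
  have hQ2 : IsPGroup 2 ((Y x 1 ℓ).subgroupOf (Y x 0 k)) := by
    haveI : Fact (Nat.Prime 2) := ⟨Nat.prime_two⟩
    exact IsPGroup.of_card hQcard
  have hQab : ∀ a ∈ (Y x 1 ℓ).subgroupOf (Y x 0 k), ∀ b ∈ (Y x 1 ℓ).subgroupOf (Y x 0 k),
      a * b = b * a := by
    intro a ha b hb
    rw [Subgroup.mem_subgroupOf] at ha hb
    apply Subtype.ext
    exact (ra_Q_comm T N a ha b hb).eq
  have hx0 : x 0 ∈ Y x 0 k := x_mem_Y x le_rfl (by omega)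
  have hxk : x k ∈ Y x 0 k := x_mem_Y x (by omega) le_rfl
  have hr : x 0 * x k ∈ Y x 0 k := Subgroup.mul_mem _ hx0 hxk
  have hx1Q : x 1 ∈ Y x 1 ℓ := x_mem_Y x le_rfl (by omega)
  have hxℓQ : x ℓ ∈ Y x 1 ℓ := x_mem_Y x (by omega) le_rfl
  have hidx := a2_index_six ((Y x 1 ℓ).subgroupOf (Y x 0 k)) hQab
    (⟨x 0, hx0⟩ : ↥(Y x 0 k)) ⟨x 0 * x k, hr⟩
    (by apply Subtype.ext; exact T.sq 0)
    (by
      apply Subtype.ext
      show x 0 * (x 0 * x k) * (x 0)⁻¹ = (x 0 * x k)⁻¹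
      rw [mul_inv_rev, T.inv_eq, T.inv_eq, ← mul_assoc, T.sq, one_mul])
    (rb_gen hℓ hx0 hr)
    (by
      rw [Subgroup.mem_centralizer_iff]
      intro q hq
      rw [SetLike.mem_coe, Subgroup.mem_subgroupOf] at hq
      apply Subtype.ext
      exact ((h3 q hq).eq).symm)
    (by
      intro hc
      rw [Subgroup.mem_centralizer_iff] at hc
      have h1 := hc (⟨x 1, hQH hx1Q⟩ : ↥(Y x 0 k))
        (by rw [SetLike.mem_coe, Subgroup.mem_subgroupOf]; exact hx1Q)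
      have h2 : x 1 * (x 0 * x k) = x 0 * x k * x 1 := congrArg Subtype.val h1
      have h01 : x 0 * x 1 = x 1 * x 0 := (T.comm_dist N.ab 0 1 (by omega) (by omega)).eq
      have h4 : x 1 * x k = x k * x 1 := by
        have h5 : x 0 * (x 1 * x k) = x 0 * (x k * x 1) := by
          calc x 0 * (x 1 * x k) = (x 0 * x 1) * x k := by group
            _ = (x 1 * x 0) * x k := by rw [h01]
            _ = x 1 * (x 0 * x k) := by group
            _ = x 0 * x k * x 1 := h2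
            _ = x 0 * (x k * x 1) := by group
        exact mul_left_cancel h5
      have h6 := T.nc_shift N 1
      rw [show (1 : ℤ) + ℓ = k by omega] at h6
      exact h6 h4)
    (by
      intro hc
      rw [Subgroup.mem_centralizer_iff] at hc
      have h1 := hc (⟨x ℓ, hQH hxℓQ⟩ : ↥(Y x 0 k))
        (by rw [SetLike.mem_coe, Subgroup.mem_subgroupOf]; exact hxℓQ)
      have h2 : x ℓ * x 0 = x 0 * x ℓ := congrArg Subtype.val h1
      exact N.nc h2.symm)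
  obtain ⟨h1, h2, h4⟩ := a1_oddCore_quot ((Y x 1 ℓ).subgroupOf (Y x 0 k)) hQ2 hQab hidx n k hn
    T.cardP (by rw [hQcard, ← hℓ, pow_succ])
  exact ⟨hnorm, h1, by rw [h2, hQcard], h4⟩

end Cfsg.Agent.Lib.Helper8.GDih
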