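import Mathlib

/-!
# Kazarin's theorem: group-theoretic preliminaries on class sizes
-/

set_option autoImplicit false

namespace Cfsg.Agent.Lib.Helper8.KZ

universe u

section

variable {G : Type u} [Group G]

/-- `|L : K ∩ L| · |K ∩ L| = |L|`. -/
theorem relIndex_mul_card_inf [Finite G] (K L : Subgroup G) :
    K.relIndex L * Nat.card (K ⊓ L : Subgroup G) = Nat.card L := by
  have h1 := (K.subgroupOf L).card_mul_index
  have h2 : Nat.card (K.subgroupOf L) = Nat.card (K ⊓ L : Subgroup G) := by
    rw [← Subgroup.inf_subgroupOf_right]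
    exact Nat.card_congr (Subgroup.subgroupOfEquivOfLe (inf_le_right : K ⊓ L ≤ L)).toEquiv
  rw [h2, mul_comm] at h1
  exact h1

/-- For `H` normal, `|CH : C| = |H : C ∩ H|`. -/
theorem relIndex_sup_of_normal [Finite G] (C H : Subgroup G) [H.Normal] :
    C.relIndex (C ⊔ H) = C.relIndex H := by
  have h1 : H.relIndex (C ⊔ H) = H.relIndex C := Subgroup.relIndex_sup_right C H
  have e1 := relIndex_mul_card_inf C (C ⊔ H)
  have e2 := relIndex_mul_card_inf H (C ⊔ H)
  have e3 := relIndex_mul_card_inf H C
  have e4 := relIndex_mul_card_inf C H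
  rw [inf_of_le_left (le_sup_left : C ≤ C ⊔ H)] at e1
  rw [inf_of_le_left (le_sup_right : H ≤ C ⊔ H), h1] at e2
  rw [inf_comm] at e3
  -- card (C ⊔ H) = relIndex C (C ⊔ H) * card C = relIndex H C * card H
  have hpos1 : 0 < Nat.card (C ⊓ H : Subgroup G) := Nat.card_pos
  have hpos2 : 0 < H.relIndex C := by
    rcases Nat.eq_zero_or_pos (H.relIndex C) with h | h
    · rw [h, zero_mul] at e3
      exact absurd e3.symm (Nat.card_pos (α := C)).ne'
    · exact h
  have key : C.relIndex (C ⊔ H) * (H.relIndex C * Nat.card (C ⊓ H : Subgroup G)) =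
      C.relIndex H * (H.relIndex C * Nat.card (C ⊓ H : Subgroup G)) := by
    calc C.relIndex (C ⊔ H) * (H.relIndex C * Nat.card (C ⊓ H : Subgroup G))
        = C.relIndex (C ⊔ H) * Nat.card C := by rw [e3]
      _ = Nat.card (C ⊔ H : Subgroup G) := e1
      _ = H.relIndex C * Nat.card H := e2.symm
      _ = H.relIndex C * (C.relIndex H * Nat.card (C ⊓ H : Subgroup G)) := by rw [e4]
      _ = C.relIndex H * (H.relIndex C * Nat.card (C ⊓ H : Subgroup G)) := by ring
  exact Nat.eq_of_mul_eq_mul_right (Nat.mul_pos hpos2 hpos1) key

/-- The centralizer of an element of a subgroup, computed inside the subgroup. -/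
theorem centralizer_singleton_subgroupOf (H : Subgroup G) (x : H) :
    Subgroup.centralizer ({x} : Set H) = (Subgroup.centralizer ({(x : G)} : Set G)).subgroupOf H := by
  ext y
  rw [Subgroup.mem_subgroupOf, Subgroup.mem_centralizer_iff, Subgroup.mem_centralizer_iff]
  constructor
  · intro h z hz
    rw [Set.mem_singleton_iff] at hz
    subst hz
    exact congrArg Subtype.val (h x rfl)
  · intro h z hz
    rw [Set.mem_singleton_iff] at hz
    subst hz
    exact Subtype.ext (h (z : G) rfl)

/-- The class size of an element of a normal subgroup, computed in the subgroup, divides its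
class size in the whole group. -/
theorem index_centralizer_subgroupOf_dvd [Finite G] (H : Subgroup G) [H.Normal] (x : H) :
    (Subgroup.centralizer ({x} : Set H)).index ∣
      (Subgroup.centralizer ({(x : G)} : Set G)).index := by
  rw [centralizer_singleton_subgroupOf]
  show (Subgroup.centralizer ({(x : G)} : Set G)).relIndex H ∣ _
  rw [← relIndex_sup_of_normal]
  exact Subgroup.relIndex_dvd_index_of_le le_sup_left

/-- The class size of the image of an element in a quotient divides its class size. -/
theorem index_centralizer_quotient_dvd (N : Subgroup G) [N.Normal] (x : G) :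
    (Subgroup.centralizer ({(x : G ⧸ N)} : Set (G ⧸ N))).index ∣
      (Subgroup.centralizer ({x} : Set G)).index := by
  have h1 : (Subgroup.centralizer ({x} : Set G)).map (QuotientGroup.mk' N) ≤
      Subgroup.centralizer ({(x : G ⧸ N)} : Set (G ⧸ N)) := by
    rintro _ ⟨c, hc, rfl⟩
    rw [Subgroup.mem_centralizer_iff]
    intro z hz
    rw [Set.mem_singleton_iff] at hz
    subst hz
    have := (Subgroup.mem_centralizer_iff.1 hc) x rfl
    show (QuotientGroup.mk' N x) * (QuotientGroup.mk' N c) = (QuotientGroup.mk' N c) * (QuotientGroup.mk' N x)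
    rw [← map_mul, ← map_mul, this]
  exact (Subgroup.index_dvd_of_le h1).trans
    (Subgroup.index_map_dvd _ (QuotientGroup.mk'_surjective N))

/-- The class size of a power divides the class size. -/
theorem index_centralizer_pow_dvd (x : G) (m : ℕ) :
    (Subgroup.centralizer ({x ^ m} : Set G)).index ∣ (Subgroup.centralizer ({x} : Set G)).index := by
  apply Subgroup.index_dvd_of_le
  intro c hc
  rw [Subgroup.mem_centralizer_iff] at hc ⊢
  intro z hz
  rw [Set.mem_singleton_iff] at hz
  subst hz
  have h := hc x rfl
  have hcomm : Commute x c := h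
  exact (hcomm.pow_left m)

/-- If `P` has as many cosets modulo the centralizer of `x` as `G`, every conjugate of `x` is a
conjugate under `P`. -/
theorem exists_conj_eq_of_index_le_relIndex [Finite G] (x : G) (P : Subgroup G)
    (h : (Subgroup.centralizer ({x} : Set G)).index ≤
      (Subgroup.centralizer ({x} : Set G)).relIndex P) (g : G) :
    ∃ u ∈ P, g * x * g⁻¹ = u * x * u⁻¹ := by
  set C := Subgroup.centralizer ({x} : Set G) with hC
  let φ : P ⧸ C.subgroupOf P → G ⧸ C := Quotient.map' (fun u : P => (u : G)) (by
    intro a b hab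
    rw [QuotientGroup.leftRel_apply] at hab ⊢
    exact hab)
  have hinj : Function.Injective φ := by
    intro a b
    induction a using Quotient.inductionOn' with
    | _ a =>
      induction b using Quotient.inductionOn' with
      | _ b =>
        intro hab
        have h1 : (QuotientGroup.mk (a : G) : G ⧸ C) = QuotientGroup.mk (b : G) := hab
        rw [QuotientGroup.eq] at h1
        apply Quotient.sound'
        rw [QuotientGroup.leftRel_apply]
        exact h1
  have hbij : Function.Bijective φ := hinj.bijective_of_nat_card_le h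
  obtain ⟨a, ha⟩ := hbij.2 (QuotientGroup.mk g)
  induction a using Quotient.inductionOn' with
  | _ u =>
    have h1 : (QuotientGroup.mk (u : G) : G ⧸ C) = QuotientGroup.mk g := ha
    rw [QuotientGroup.eq] at h1
    refine ⟨u, u.2, ?_⟩
    have h2 := (Subgroup.mem_centralizer_iff.1 h1) x rfl
    -- x * (u⁻¹ g) = (u⁻¹ g) * x
    have h3 : g * x * g⁻¹ = (u : G) * ((u : G)⁻¹ * g * x) * g⁻¹ := by group
    rw [h3, ← h2]
    group

/-- A `p`-subgroup of full `p`-power order has at least `p ^ a` cosets modulo a subgroup of index
`p ^ a`. -/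
theorem index_le_relIndex_of_card [Finite G] {p : ℕ} (hp : p.Prime) (C P : Subgroup G) {a : ℕ}
    (hC : C.index = p ^ a) (hP : Nat.card P = p ^ (Nat.card G).factorization p) :
    C.index ≤ C.relIndex P := by
  have e1 := relIndex_mul_card_inf C P
  have h1 : Nat.card (C ⊓ P : Subgroup G) ∣ p ^ (Nat.card G).factorization p := by
    rw [← hP]
    exact Subgroup.card_dvd_of_le inf_le_right
  obtain ⟨m, hm, hcard⟩ := (Nat.dvd_prime_pow hp).1 h1
  have h2 : p ^ m ∣ Nat.card C := by
    rw [← hcard]
    exact Subgroup.card_dvd_of_le inf_le_left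
  have h3 : Nat.card C * p ^ a = Nat.card G := by
    rw [← hC]
    exact C.card_mul_index
  have hCpos : Nat.card C ≠ 0 := Nat.card_pos.ne'
  have h4 : (Nat.card G).factorization p = (Nat.card C).factorization p + a := by
    rw [← h3, Nat.factorization_mul hCpos (pow_pos hp.pos a).ne', Finsupp.add_apply,
      hp.factorization_pow]
    simp
  have h5 : m ≤ (Nat.card C).factorization p :=
    (hp.pow_dvd_iff_le_factorization hCpos).1 h2
  rw [hcard, hP] at e1
  -- relIndex * p^m = p^n with n = ν + a, m ≤ ν
  have h6 : C.relIndex P = p ^ ((Nat.card G).factorization p - m) := by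
    have hle : m ≤ (Nat.card G).factorization p := by omega
    have : p ^ (Nat.card G).factorization p = p ^ ((Nat.card G).factorization p - m) * p ^ m := by
      rw [← pow_add, Nat.sub_add_cancel hle]
    rw [this] at e1
    exact Nat.eq_of_mul_eq_mul_right (pow_pos hp.pos m) e1
  rw [h6, hC]
  exact Nat.pow_le_pow_right hp.pos (by omega)

end

end Cfsg.Agent.Lib.Helper8.KZ
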