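import Mathlib
import Cfsg.Agent.Lib.Helper8.KZ1

/-!
# Kazarin's theorem: elements lying in a solvable normal subgroup
-/

set_option autoImplicit false

namespace Cfsg.Agent.Lib.Helper8.KZ

universe u

section

variable {G : Type u} [Group G]

/-- `X ⊔ Y` is solvable when `X`, `Y` are and `Y` normalizes `X` (after Helper3 `Sig1`). -/
theorem isSolvable_sup_of_le_normalizer' {X Y : Subgroup G} (hX : Group.IsSolvable X)
    (hY : Group.IsSolvable Y) (hn : Y ≤ Subgroup.normalizer (X : Set G)) :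
    Group.IsSolvable (X ⊔ Y : Subgroup G) := by
  have hXU : X ≤ X ⊔ Y := le_sup_left
  have hnorm : (X.subgroupOf (X ⊔ Y)).Normal := by
    have : X ⊔ Y ≤ Subgroup.normalizer (X : Set G) := sup_le Subgroup.le_normalizer hn
    exact (Subgroup.normal_subgroupOf_iff_le_normalizer hXU).mpr this
  let f : Y →* (↥(X ⊔ Y) ⧸ X.subgroupOf (X ⊔ Y)) :=
    (QuotientGroup.mk' (X.subgroupOf (X ⊔ Y))).comp (Subgroup.inclusion (le_sup_right : Y ≤ X ⊔ Y))
  have hf : Function.Surjective f := by
    intro q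
    obtain ⟨⟨g, hg⟩, rfl⟩ := QuotientGroup.mk_surjective q
    have hg' : g ∈ ((X ⊔ Y : Subgroup G) : Set G) := hg
    rw [Subgroup.coe_mul_of_right_le_normalizer_left X Y hn] at hg'
    obtain ⟨x, hx, y, hy, rfl⟩ := hg'
    refine ⟨⟨y, hy⟩, ?_⟩
    show QuotientGroup.mk' _ _ = QuotientGroup.mk' _ _
    rw [QuotientGroup.mk'_eq_mk']
    have hyx : y⁻¹ * x * y ∈ X := by
      have := (Subgroup.mem_normalizer_iff.mp (hn (Subgroup.inv_mem _ hy)) x).mp hx
      simpa using this
    refine ⟨⟨y⁻¹ * x * y, Subgroup.mem_sup_left hyx⟩, ?_, ?_⟩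
    · rw [Subgroup.mem_subgroupOf]; exact hyx
    · apply Subtype.ext
      show y * (y⁻¹ * x * y) = x * y
      group
  have hq : Group.IsSolvable (↥(X ⊔ Y) ⧸ X.subgroupOf (X ⊔ Y)) := Group.isSolvable_of_surjective hf
  have hk : Group.IsSolvable (X.subgroupOf (X ⊔ Y)) :=
    Group.isSolvable_of_isSolvable_injective (f := (Subgroup.subgroupOfEquivOfLe hXU).toMonoidHom)
      (Subgroup.subgroupOfEquivOfLe hXU).injective
  exact Group.isSolvable_of_ker_le_range (X.subgroupOf (X ⊔ Y)).subtype
    (QuotientGroup.mk' (X.subgroupOf (X ⊔ Y))) (by simp)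

/-- A subgroup of a solvable subgroup is solvable. -/
theorem isSolvable_of_le {A B : Subgroup G} (hB : Group.IsSolvable B) (h : A ≤ B) :
    Group.IsSolvable A :=
  Group.isSolvable_of_isSolvable_injective (f := Subgroup.inclusion h) (Subgroup.inclusion_injective h)

/-- The image of a solvable subgroup is solvable. -/
theorem isSolvable_map {H : Type u} [Group H] (f : G →* H) {A : Subgroup G}
    (hA : Group.IsSolvable A) : Group.IsSolvable (A.map f) := by
  have hsurj : Function.Surjective (f.subgroupMap A) := f.subgroupMap_surjective A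
  exact Group.isSolvable_of_surjective hsurj

/-- A finite group has a largest solvable normal subgroup. -/
theorem exists_max_solvable_normal [Finite G] :
    ∃ R : Subgroup G, R.Normal ∧ Group.IsSolvable R ∧
      ∀ A : Subgroup G, A.Normal → Group.IsSolvable A → A ≤ R := by
  classical
  let S : Set (Subgroup G) := {A | A.Normal ∧ Group.IsSolvable A}
  have hbot : (⊥ : Subgroup G) ∈ S := ⟨inferInstance, inferInstance⟩
  haveI : Nonempty S := ⟨⟨⊥, hbot⟩⟩
  obtain ⟨⟨R, hRn, hRs⟩, hmax⟩ := Finite.exists_max (fun A : S => Nat.card (A : Subgroup G))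
  refine ⟨R, hRn, hRs, ?_⟩
  intro A hAn hAs
  have hsup : Group.IsSolvable (R ⊔ A : Subgroup G) := by
    apply isSolvable_sup_of_le_normalizer' hRs hAs
    rw [Subgroup.normalizer_eq_top]
    exact le_top
  have hn : (R ⊔ A).Normal := Subgroup.sup_normal R A
  have h1 := hmax ⟨R ⊔ A, hn, hsup⟩
  have h2 : R = R ⊔ A := Subgroup.eq_of_le_of_card_ge le_sup_left h1
  rw [h2]
  exact le_sup_right

/-- `x` lies in a solvable normal subgroup of `G`. -/
def InSolv (x : G) : Prop :=
  ∃ R : Subgroup G, R.Normal ∧ Group.IsSolvable R ∧ x ∈ R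

theorem inSolv_one : InSolv (1 : G) :=
  ⟨⊥, inferInstance, inferInstance, Subgroup.one_mem _⟩

theorem InSolv.pow {x : G} (h : InSolv x) (m : ℕ) : InSolv (x ^ m) := by
  obtain ⟨R, hn, hs, hx⟩ := h
  exact ⟨R, hn, hs, Subgroup.pow_mem _ hx m⟩

/-- The normal closure of `x` is solvable iff `x` lies in a solvable normal subgroup. -/
theorem inSolv_iff (x : G) :
    InSolv x ↔ Group.IsSolvable (Subgroup.normalClosure ({x} : Set G)) := by
  constructor
  · rintro ⟨R, hn, hs, hx⟩
    apply isSolvable_of_le hs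
    apply Subgroup.normalClosure_le_normal
    intro y hy
    rw [Set.mem_singleton_iff] at hy
    subst hy
    exact hx
  · intro h
    exact ⟨_, Subgroup.normalClosure_normal, h,
      Subgroup.subset_normalClosure (Set.mem_singleton x)⟩

/-- If all conjugates of `x` lie in a solvable subgroup, `x` lies in a solvable normal
subgroup. -/
theorem inSolv_of_conj_mem {x : G} (H : Subgroup G) (hH : Group.IsSolvable H)
    (h : ∀ g : G, g * x * g⁻¹ ∈ H) : InSolv x := by
  rw [inSolv_iff]
  apply isSolvable_of_le hH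
  unfold Subgroup.normalClosure
  rw [Subgroup.closure_le]
  intro y hy
  rw [Group.mem_conjugatesOfSet_iff] at hy
  obtain ⟨a, ha, hay⟩ := hy
  rw [Set.mem_singleton_iff] at ha
  subst ha
  obtain ⟨g, hg⟩ := isConj_iff.1 hay
  rw [← hg]
  exact h g

/-- Passing from a normal subgroup to the group. -/
theorem inSolv_of_normal_subgroup [Finite G] (H : Subgroup G) [hH : H.Normal] (x : H)
    (h : InSolv x) : InSolv (x : G) := by
  obtain ⟨R₀, hR₀n, hR₀s, hx⟩ := h
  obtain ⟨R, hRn, hRs, hmax⟩ := exists_max_solvable_normal (G := H)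
  have hxR : x ∈ R := hmax R₀ hR₀n hR₀s hx
  refine ⟨R.map H.subtype, ?_, isSolvable_map _ hRs, ⟨x, hxR, rfl⟩⟩
  constructor
  rintro _ ⟨r, hr, rfl⟩ g
  -- conjugation by `g` as an automorphism of `H`
  let α : H ≃* H := MulAut.conjNormal g
  have h1 : (R.map α.toMonoidHom).Normal := hRn.map _ α.surjective
  have h2 : Group.IsSolvable (R.map α.toMonoidHom) := isSolvable_map _ hRs
  have h3 := hmax _ h1 h2
  have h4 : α r ∈ R := h3 ⟨r, hr, rfl⟩
  refine ⟨α r, h4, ?_⟩
  simp [α, MulAut.conjNormal_apply]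

/-- Passing from a quotient by a solvable normal subgroup to the group. -/
theorem inSolv_of_quotient (R : Subgroup G) [hR : R.Normal] (hRs : Group.IsSolvable R) (x : G)
    (h : InSolv (x : G ⧸ R)) : InSolv x := by
  obtain ⟨S, hSn, hSs, hx⟩ := h
  refine ⟨S.comap (QuotientGroup.mk' R), hSn.comap _, ?_, hx⟩
  have hRS : R ≤ S.comap (QuotientGroup.mk' R) := by
    intro r hr
    rw [Subgroup.mem_comap]
    have : QuotientGroup.mk' R r = 1 := (QuotientGroup.eq_one_iff r).2 hr
    rw [this]
    exact Subgroup.one_mem _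
  apply Group.isSolvable_of_ker_le_range (Subgroup.inclusion hRS)
    ((QuotientGroup.mk' R).subgroupComap S)
  intro s hs
  rw [MonoidHom.mem_ker] at hs
  have h1 : QuotientGroup.mk' R (s : G) = 1 := congrArg Subtype.val hs
  have h2 : (s : G) ∈ R := (QuotientGroup.eq_one_iff _).1 h1
  exact ⟨⟨s, h2⟩, Subtype.ext rfl⟩

end

end Cfsg.Agent.Lib.Helper8.KZ
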