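import Mathlib
import Cfsg.Prelude.Def_Blocks
import Cfsg.Agent.Lib.Helper8.BlockLocal
import Cfsg.Agent.Lib.Helper8.Deflation
import Cfsg.Agent.Lib.Helper1.CharFound8
import Cfsg.Agent.Lib.Helper1.CharInt
import Cfsg.Agent.S0138
import Cfsg.Agent.S0142

/-!
# Kazarin's theorem: characters of the principal `q`-block at an element of `p`-power class size
-/

set_option autoImplicit false

namespace Cfsg.Agent.Lib.Helper8.KZ

open Cfsg
open scoped ComplexConjugate
open Cfsg.Agent.Lib.Helper1 Cfsg.Agent.Lib.Helper4 Cfsg.Agent.Lib.Helper8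

universe u

section

variable {G : Type u} [Group G]

/-- The elements acting by scalars in a representation. -/
def scalarSubgroup [Finite G] {n : ℕ} (ρ : Representation ℂ G (Fin n → ℂ)) : Subgroup G where
  carrier := {g | ∃ ω : ℂ, ρ g = ω • LinearMap.id}
  one_mem' := ⟨1, by rw [map_one, one_smul]; rfl⟩
  mul_mem' := by
    rintro a b ⟨ω₁, h₁⟩ ⟨ω₂, h₂⟩
    refine ⟨ω₁ * ω₂, ?_⟩
    rw [map_mul, h₁, h₂]
    ext v i
    simp [mul_smul]
    ring
  inv_mem' := by
    rintro a ⟨ω, h⟩
    have hpow : ∀ k : ℕ, ρ (a ^ k) = ω ^ k • LinearMap.id := by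
      intro k
      induction k with
      | zero => rw [pow_zero, map_one, pow_zero, one_smul]; rfl
      | succ k ih =>
        rw [pow_succ, map_mul, ih, h, pow_succ]
        ext v i
        simp [mul_smul]
        ring
    have hinv : a⁻¹ = a ^ (orderOf a - 1) := by
      apply inv_eq_of_mul_eq_one_right
      rw [← pow_succ', Nat.sub_add_cancel (orderOf_pos a), pow_orderOf_eq_one]
    exact ⟨ω ^ (orderOf a - 1), by rw [hinv, hpow]⟩

theorem mem_scalarSubgroup [Finite G] {n : ℕ} (ρ : Representation ℂ G (Fin n → ℂ)) (g : G) :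
    g ∈ scalarSubgroup ρ ↔ ∃ ω : ℂ, ρ g = ω • LinearMap.id := Iff.rfl

instance scalarSubgroup_normal [Finite G] {n : ℕ} (ρ : Representation ℂ G (Fin n → ℂ)) :
    (scalarSubgroup ρ).Normal := by
  constructor
  rintro a ⟨ω, h⟩ g
  refine ⟨ω, ?_⟩
  rw [map_mul, map_mul, h]
  have h1 : ρ g * ρ g⁻¹ = 1 := by rw [← map_mul, mul_inv_cancel, map_one]
  calc ρ g * ω • LinearMap.id * ρ g⁻¹ = ω • (ρ g * ρ g⁻¹) := by
        ext v i
        simp
    _ = ω • LinearMap.id := by rw [h1]; rfl

/-- An irreducible representation all of whose elements act by scalars has degree one. -/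
theorem degree_eq_one_of_scalar [Finite G] {n : ℕ} (ρ : Representation ℂ G (Fin n → ℂ))
    (hirr : ρ.IsIrreducible) (h : ∀ g : G, ∃ ω : ℂ, ρ g = ω • LinearMap.id) : n = 1 := by
  classical
  haveI : Fintype G := Fintype.ofFinite G
  have hirrχ : Cfsg.IsIrrCharacter G ρ.character := ⟨n, ρ, hirr, rfl⟩
  have hnorm := classInner_irr_self hirrχ
  rw [classInner_def] at hnorm
  have hval : ∀ g : G, ρ.character g * conj (ρ.character g) = ((n * n : ℕ) : ℂ) := by
    intro g
    have h1 : ‖ρ.character g‖ = (Module.finrank ℂ (Fin n → ℂ) : ℝ) :=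
      (Cfsg.Agent.S0138.result ρ g).2 (h g)
    rw [Module.finrank_fin_fun] at h1
    rw [Complex.mul_conj, Complex.normSq_eq_norm_sq, h1]
    push_cast
    ring
  rw [Finset.sum_congr rfl (fun g _ => hval g), Finset.sum_const, Finset.card_univ,
    ← Nat.card_eq_fintype_card, nsmul_eq_mul, ← mul_assoc,
    inv_mul_cancel₀ (Nat.cast_ne_zero.2 Nat.card_pos.ne'), one_mul] at hnorm
  have h2 : n * n = 1 := by exact_mod_cast hnorm
  exact Nat.eq_one_of_mul_eq_one_right h2

/-- **Kazarin's lemma.** Let `x` have class size `p ^ a` and let `q ≠ p`.  If every normal subgroup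
containing `x` is the whole group, then every character of `p'`-degree in the principal
`q`-block is linear. -/
theorem linear_of_mem_principalBlock [Finite G] {p q : ℕ} (hp : p.Prime) (hpq : p ≠ q)
    {M : Ideal AlgInt} (hM : IsPModular q M) (x : G) {a : ℕ}
    (hx : (Subgroup.centralizer ({x} : Set G)).index = p ^ a)
    (htop : ∀ N : Subgroup G, N.Normal → x ∈ N → N = ⊤)
    (χ : IrrCharacter G) (hχ : χ ∈ principalBlock M G)
    (hdeg : ¬ p ∣ charDegree (χ : G → ℂ)) : (χ : G → ℂ) 1 = 1 := by
  classical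
  have hq : q.Prime := hM.1
  obtain ⟨n, ρ, hirr, hρ⟩ := χ.2
  have hn : (χ : G → ℂ) 1 = n := by rw [← hρ, Representation.char_one]; simp
  have hn' : charDegree (χ : G → ℂ) = n := by
    have := (irr_apply_one_eq_charDegree χ.2).1
    rw [hn] at this
    exact_mod_cast this.symm
  rw [hn'] at hdeg
  -- the value at `x` is nonzero
  have hne : (χ : G → ℂ) x ≠ 0 := by
    intro h0
    have h1 : MemLocalIdeal M (centralChar (fun _ : G => (1 : ℂ)) x -
        centralChar (χ : G → ℂ) x) := hχ x
    have h2 : centralChar (χ : G → ℂ) x = 0 := by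
      unfold centralChar
      rw [h0, mul_zero, zero_div]
    have h3 : centralChar (fun _ : G => (1 : ℂ)) x = ((p ^ a : ℕ) : ℂ) := by
      unfold centralChar
      rw [hx]
      simp
    rw [h2, h3, sub_zero, memLocalIdeal_natCast_iff hM] at h1
    have h4 : q ∣ p := hq.dvd_of_dvd_pow h1
    exact hpq ((Nat.prime_dvd_prime_iff_eq hq hp).1 h4).symm
  have hcop : Nat.Coprime (Module.finrank ℂ (Fin n → ℂ))
      (Subgroup.centralizer ({x} : Set G)).index := by
    rw [hx, Module.finrank_fin_fun]
    exact Nat.Coprime.pow_right a ((Nat.Prime.coprime_iff_not_dvd hp).2 hdeg).symm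
  have hirr' := hirr
  rcases Cfsg.Agent.S0142.result ρ x hcop with h0 | hnorm
  · exfalso
    apply hne
    rw [← hρ]
    exact h0
  · have hxZ : x ∈ scalarSubgroup ρ := (Cfsg.Agent.S0138.result ρ x).1 hnorm
    have hZtop := htop (scalarSubgroup ρ) inferInstance hxZ
    have hall : ∀ g : G, ∃ ω : ℂ, ρ g = ω • LinearMap.id := by
      intro g
      have : g ∈ scalarSubgroup ρ := by rw [hZtop]; trivial
      exact this
    have := degree_eq_one_of_scalar ρ hirr hall
    rw [hn, this, Nat.cast_one]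

end

end Cfsg.Agent.Lib.Helper8.KZ
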