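import Mathlib
import Cfsg.Prelude.Def_Blocks
import Cfsg.Agent.Lib.Helper8.KZ3
import Cfsg.Agent.Lib.Helper8.LinearCount
import Cfsg.Agent.Lib.Helper8.BlockOrth2
import Cfsg.Agent.Lib.Helper8.BlockDefect
import Cfsg.Agent.Lib.Helper8.BlockUnion

/-!
# Kazarin's theorem: the commutator subgroup has no `q`-singular elements
-/

set_option autoImplicit false

namespace Cfsg.Agent.Lib.Helper8.KZ

open Cfsg
open scoped ComplexConjugate
open Cfsg.Agent.Lib.Helper1 Cfsg.Agent.Lib.Helper4 Cfsg.Agent.Lib.Helper8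

universe u

section

variable {G : Type u} [Group G]

/-- If `G/G'` has exponent dividing `q ^ j`, every linear character lies in the principal
`q`-block. -/
theorem linear_mem_principalBlock [Finite G] {q : ℕ} {M : Ideal AlgInt} (hM : IsPModular q M)
    {j : ℕ} (hexp : ∀ g : G, g ^ (q ^ j) ∈ commutator G) (χ : IrrCharacter G)
    (h1 : (χ : G → ℂ) 1 = 1) : χ ∈ principalBlock M G := by
  classical
  haveI : Fintype G := Fintype.ofFinite G
  have hMp := isPModular_isPrime hM
  intro g
  have hpow : ∀ k : ℕ, (χ : G → ℂ) (g ^ k) = ((χ : G → ℂ) g) ^ k := by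
    intro k
    induction k with
    | zero => rw [pow_zero, pow_zero, h1]
    | succ k ih => rw [pow_succ, linear_irr_mul χ.2 h1, ih, pow_succ]
  have h2 : ((χ : G → ℂ) g) ^ (q ^ j) = 1 := by
    rw [← hpow]
    exact linear_irr_commutator χ.2 h1 (hexp g)
  have h3 := memLocalIdeal_sub_one_of_pow_eq_one hM j h2
  have h4 : centralChar (fun _ : G => (1 : ℂ)) g - centralChar (χ : G → ℂ) g =
      ((Subgroup.centralizer ({g} : Set G)).index : ℂ) * (-((χ : G → ℂ) g - 1)) := by
    unfold centralChar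
    rw [h1]
    ring
  rw [h4]
  exact memLocalIdeal_mul_left hMp (memLocalRing_natCast hMp.ne_top _) (memLocalIdeal_neg h3)

/-- The index of the commutator subgroup is prime to `p` when `G/G'` has exponent a power of
`q ≠ p`. -/
theorem not_dvd_index_commutator [Finite G] {p q : ℕ} (hp : p.Prime) (hq : q.Prime) (hpq : p ≠ q)
    {j : ℕ} (hexp : ∀ g : G, g ^ (q ^ j) ∈ commutator G) : ¬ p ∣ (commutator G).index := by
  intro h
  haveI : Fact p.Prime := ⟨hp⟩
  rw [Subgroup.index_eq_card] at h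
  obtain ⟨y, hy⟩ := exists_prime_orderOf_dvd_card' (G := G ⧸ commutator G) p h
  obtain ⟨g, rfl⟩ := QuotientGroup.mk_surjective y
  have h1 : (QuotientGroup.mk g : G ⧸ commutator G) ^ (q ^ j) = 1 := by
    rw [← QuotientGroup.mk_pow]
    exact (QuotientGroup.eq_one_iff _).2 (hexp g)
  have h2 := orderOf_dvd_of_pow_eq_one h1
  rw [hy] at h2
  have h3 : p ∣ q := hp.dvd_of_dvd_pow h2
  exact hpq ((Nat.prime_dvd_prime_iff_eq hp hq).1 h3)

/-- **Key step.** Under the hypotheses of Kazarin's lemma, if `G/G'` has exponent dividing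
`q ^ j`, the commutator subgroup contains no `q`-singular element. -/
theorem not_dvd_orderOf_of_mem_commutator [Finite G] {p q : ℕ} (hp : p.Prime) (hpq : p ≠ q)
    {M : Ideal AlgInt} (hM : IsPModular q M) (x : G) {a : ℕ}
    (hx : (Subgroup.centralizer ({x} : Set G)).index = p ^ a)
    (htop : ∀ N : Subgroup G, N.Normal → x ∈ N → N = ⊤)
    {j : ℕ} (hexp : ∀ g : G, g ^ (q ^ j) ∈ commutator G)
    {y : G} (hy : y ∈ commutator G) : ¬ q ∣ orderOf y := by
  classical
  intro hqy
  haveI : Fintype G := Fintype.ofFinite G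
  haveI : Fintype (IrrCharacter G) := Fintype.ofFinite _
  have hq : q.Prime := hM.1
  have hB : IsPBlock M (principalBlock M G) := isPBlock_principalBlock
  have h1 : ¬ q ∣ orderOf (1 : G) := by
    rw [orderOf_one]
    exact hq.one_lt.ne' ∘ Nat.dvd_one.1
  have horth := finsum_block_mul_conj_eq_zero hM hB h1 hqy
  rw [finsum_mem_eq_finite_toFinset_sum _ (Set.toFinite (principalBlock M G))] at horth
  set S := (Set.toFinite (principalBlock M G)).toFinset with hS
  have hmemS : ∀ χ : IrrCharacter G, χ ∈ S ↔ χ ∈ principalBlock M G := by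
    intro χ
    rw [hS, Set.Finite.mem_toFinset]
  rw [← Finset.sum_filter_add_sum_filter_not S (fun χ : IrrCharacter G => (χ : G → ℂ) 1 = 1)]
    at horth
  -- the linear part
  have hlin : ∑ χ ∈ S.filter (fun χ : IrrCharacter G => (χ : G → ℂ) 1 = 1),
      (χ : G → ℂ) 1 * conj ((χ : G → ℂ) y) = ((commutator G).index : ℂ) := by
    have hfilter : S.filter (fun χ : IrrCharacter G => (χ : G → ℂ) 1 = 1) =
        Finset.univ.filter (fun χ : IrrCharacter G => (χ : G → ℂ) 1 = 1) := by
      ext χ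
      simp only [Finset.mem_filter, Finset.mem_univ, true_and, and_iff_right_iff_imp]
      intro h
      exact (hmemS χ).2 (linear_mem_principalBlock hM hexp χ h)
    rw [hfilter]
    have hterm : ∀ χ ∈ Finset.univ.filter (fun χ : IrrCharacter G => (χ : G → ℂ) 1 = 1),
        (χ : G → ℂ) 1 * conj ((χ : G → ℂ) y) = 1 := by
      intro χ hχ
      rw [Finset.mem_filter] at hχ
      rw [hχ.2, linear_irr_commutator χ.2 hχ.2 hy]
      simp
    rw [Finset.sum_congr rfl hterm, Finset.sum_const, nsmul_eq_mul, mul_one,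
      ← card_linear_irr (G := G), Nat.card_eq_fintype_card, Fintype.card_subtype]
  -- the nonlinear part
  have hnonlin : ∃ β : ℂ, IsIntegral ℤ β ∧
      ∑ χ ∈ S.filter (fun χ : IrrCharacter G => ¬ (χ : G → ℂ) 1 = 1),
        (χ : G → ℂ) 1 * conj ((χ : G → ℂ) y) = (p : ℂ) * β := by
    have hkey : ∀ χ : IrrCharacter G,
        χ ∈ S.filter (fun χ : IrrCharacter G => ¬ (χ : G → ℂ) 1 = 1) →
        ∃ β : ℂ, IsIntegral ℤ β ∧ (χ : G → ℂ) 1 * conj ((χ : G → ℂ) y) = (p : ℂ) * β := by
      intro χ hχ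
      rw [Finset.mem_filter] at hχ
      have hχB : χ ∈ principalBlock M G := (hmemS χ).1 hχ.1
      have hdvd : p ∣ charDegree (χ : G → ℂ) := by
        by_contra hcon
        exact hχ.2 (linear_of_mem_principalBlock hp hpq hM x hx htop χ hχB hcon)
      obtain ⟨m, hm⟩ := hdvd
      refine ⟨(m : ℂ) * conj ((χ : G → ℂ) y), ?_, ?_⟩
      · apply IsIntegral.mul
        · exact isIntegral_algebraMap (R := ℤ) (x := (m : ℤ)) |> fun h => by simpa using h
        · exact isIntegral_conj (isIntegral_char_apply (isCharacter_of_irr χ.2) y)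
      · rw [(irr_apply_one_eq_charDegree χ.2).1, hm]
        push_cast
        ring
    choose! β hβint hβ using hkey
    refine ⟨∑ χ ∈ S.filter (fun χ : IrrCharacter G => ¬ (χ : G → ℂ) 1 = 1), β χ,
      IsIntegral.sum _ (fun χ hχ => hβint χ hχ), ?_⟩
    rw [Finset.mul_sum]
    exact Finset.sum_congr rfl (fun χ hχ => hβ χ hχ)
  obtain ⟨β, hβint, hβ⟩ := hnonlin
  rw [hlin, hβ] at horth
  have hpC : (p : ℂ) ≠ 0 := Nat.cast_ne_zero.2 hp.ne_zero
  have h4 : (((commutator G).index : ℕ) : ℂ) / (p : ℂ) = -β := by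
    rw [div_eq_iff hpC]
    linear_combination horth
  have h5 : IsIntegral ℤ ((((commutator G).index : ℕ) : ℂ) / (p : ℂ)) := by
    rw [h4]; exact hβint.neg
  have h6 := nat_dvd_of_isIntegral_div _ p hp.ne_zero h5
  exact not_dvd_index_commutator hp hq hpq hexp h6

end

end Cfsg.Agent.Lib.Helper8.KZ
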