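import Mathlib
import Cfsg.Prelude.Def_Blocks
import Cfsg.Agent.Lib.Helper8.KZ2
import Cfsg.Agent.Lib.Helper8.KZ4
import Cfsg.Agent.Lib.Helper8.TildeBlock
import Cfsg.Agent.Lib.Lead.CoprimeSylow3

/-!
# Kazarin's theorem: an element of prime power class size lies in a solvable normal subgroup
-/

set_option autoImplicit false

namespace Cfsg.Agent.Lib.Helper8.KZ

open Cfsg
open scoped ComplexConjugate
open Cfsg.Agent.Lib.Helper1 Cfsg.Agent.Lib.Helper4 Cfsg.Agent.Lib.Helper8

universe u

section

variable {G : Type u} [Group G]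

/-- A `p`-element of `p`-power class size lies in a solvable normal subgroup. -/
theorem inSolv_of_pElement [Finite G] {p : ℕ} (hp : p.Prime) (z : G) {b : ℕ}
    (hz : (Subgroup.centralizer ({z} : Set G)).index = p ^ b) (hzo : orderOf z = p) :
    InSolv z := by
  haveI : Fact p.Prime := ⟨hp⟩
  have hzp : IsPGroup p (Subgroup.zpowers z) := by
    apply IsPGroup.of_card (n := 1)
    rw [Nat.card_zpowers, hzo, pow_one]
  obtain ⟨P, hP⟩ := hzp.exists_le_sylow
  have hzP : z ∈ (P : Subgroup G) := hP (Subgroup.mem_zpowers z)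
  have h1 := index_le_relIndex_of_card hp (Subgroup.centralizer ({z} : Set G)) (P : Subgroup G) hz
    P.card_eq_multiplicity
  have hPs : Group.IsSolvable (P : Subgroup G) := by
    haveI : Group.IsNilpotent (P : Subgroup G) := P.isPGroup'.isNilpotent
    infer_instance
  apply inSolv_of_conj_mem (P : Subgroup G) hPs
  intro g
  obtain ⟨u, hu, hgu⟩ := exists_conj_eq_of_index_le_relIndex z (P : Subgroup G) h1 g
  rw [hgu]
  exact Subgroup.mul_mem _ (Subgroup.mul_mem _ hu hzP) (Subgroup.inv_mem _ hu)

/-- The main case of Kazarin's theorem: no proper normal subgroup contains `x`, no nontrivial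
solvable normal subgroup exists, and powers of `x` lying in proper normal subgroups are trivial. -/
theorem inSolv_main_case [Finite G] {p : ℕ} (hp : p.Prime) (x : G) {a : ℕ}
    (hx : (Subgroup.centralizer ({x} : Set G)).index = p ^ a)
    (htop : ∀ N : Subgroup G, N.Normal → x ∈ N → N = ⊤)
    (hrad : ∀ y : G, InSolv y → y = 1)
    (hpow : ∀ (m : ℕ) (H : Subgroup G), H.Normal → H ≠ ⊤ → x ^ m ∈ H → x ^ m = 1) :
    InSolv x := by
  classical
  by_cases hx1 : x = 1
  · rw [hx1]; exact inSolv_one
  have ho0 : orderOf x ≠ 0 := (orderOf_pos x).ne'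
  have ho1 : orderOf x ≠ 1 := fun h => hx1 (orderOf_eq_one_iff.1 h)
  -- `p` does not divide the order of `x`
  have hpx : ¬ p ∣ orderOf x := by
    intro hdvd
    set z := x ^ (orderOf x / p) with hzdef
    have hzo : orderOf z = p := orderOf_pow_orderOf_div ho0 hdvd
    obtain ⟨b, -, hb⟩ := (Nat.dvd_prime_pow hp).1
      (hx ▸ index_centralizer_pow_dvd x (orderOf x / p))
    have hz1 : z = 1 := hrad z (inSolv_of_pElement hp z hb hzo)
    rw [hz1, orderOf_one] at hzo
    exact hp.one_lt.ne' hzo.symm
  -- a prime divisor `q` of the order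
  set q := (orderOf x).minFac with hqdef
  have hq : q.Prime := Nat.minFac_prime ho1
  have hqx : q ∣ orderOf x := Nat.minFac_dvd _
  have hpq : p ≠ q := fun h => hpx (h ▸ hqx)
  haveI : Fact q.Prime := ⟨hq⟩
  set j := (orderOf x).factorization q with hjdef
  have hj : 0 < j := hq.factorization_pos_of_dvd ho0 hqx
  have hqj : q ^ j ∣ orderOf x := Nat.ordProj_dvd _ _
  -- the `q`-part of `x`
  set v := x ^ (orderOf x / q ^ j) with hvdef
  have hvo : orderOf v = q ^ j := orderOf_pow_orderOf_div ho0 hqj
  have hv1 : v ≠ 1 := by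
    intro h
    rw [h, orderOf_one] at hvo
    exact (Nat.one_lt_pow hj.ne' hq.one_lt).ne hvo
  -- `G/G'` has exponent dividing `q ^ j`
  have hexp : ∀ g : G, g ^ (q ^ j) ∈ commutator G := by
    let E : Subgroup G := (powMonoidHom (α := Abelianization G) (q ^ j)).ker.comap Abelianization.of
    have hEn : E.Normal := (MonoidHom.normal_ker _).comap _
    have hvE : v ∈ E := by
      show Abelianization.of v ∈ (powMonoidHom (α := Abelianization G) (q ^ j)).ker
      rw [MonoidHom.mem_ker, powMonoidHom_apply, ← map_pow, ← hvo, pow_orderOf_eq_one, map_one]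
    have hEtop : E = ⊤ := by
      by_contra hne
      exact hv1 (hpow _ E hEn hne hvE)
    intro g
    have hg : g ∈ E := by rw [hEtop]; trivial
    have h1 : Abelianization.of g ∈ (powMonoidHom (α := Abelianization G) (q ^ j)).ker := hg
    rw [MonoidHom.mem_ker, powMonoidHom_apply, ← map_pow] at h1
    rw [← Abelianization.ker_of, MonoidHom.mem_ker]
    exact h1
  obtain ⟨M, hM⟩ := exists_isPModular q
  have hsing : ∀ y : G, y ∈ commutator G → ¬ q ∣ orderOf y := fun y hy =>
    not_dvd_orderOf_of_mem_commutator hp hpq hM x hx htop hexp hy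
  have hKn : (commutator G).Normal := inferInstance
  have hKtop : commutator G ≠ ⊤ := by
    intro h
    exact hsing x (by rw [h]; trivial) hqx
  -- `x` is a `q`-element
  have hxq : x ^ (q ^ j) = 1 := hpow _ (commutator G) hKn hKtop (hexp x)
  have hox : orderOf x ∣ q ^ j := orderOf_dvd_of_pow_eq_one hxq
  -- the commutator subgroup is a `q'`-group
  have hqK : ¬ q ∣ Nat.card (commutator G) := by
    intro h
    obtain ⟨y, hy⟩ := exists_prime_orderOf_dvd_card' (G := commutator G) q h
    apply hsing (y : G) y.2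
    rw [Subgroup.orderOf_coe, hy]
  have hcop : (Nat.card (Subgroup.zpowers x)).Coprime (Nat.card (commutator G)) := by
    rw [Nat.card_zpowers]
    apply Nat.Coprime.coprime_dvd_left hox
    exact Nat.Coprime.pow_left j ((Nat.Prime.coprime_iff_not_dvd hq).2 hqK)
  have hAK : Subgroup.zpowers x ≤ Subgroup.normalizer ((commutator G : Subgroup G) : Set G) := by
    rw [Subgroup.normalizer_eq_top]
    exact le_top
  haveI : Fact p.Prime := ⟨hp⟩
  have hAs : Group.IsSolvable (Subgroup.zpowers x) := inferInstance
  obtain ⟨P', hP'⟩ := Cfsg.Agent.Lib.Lead.coprime_invariant_sylow_exists (Subgroup.zpowers x)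
    (commutator G) hAK hcop (Or.inl hAs) p
  set P : Subgroup G := (P' : Subgroup (commutator G)).map (commutator G).subtype with hPdef
  have hPcard : Nat.card P = p ^ (Nat.card G).factorization p := by
    have h1 := (Cfsg.Agent.Lib.Lead.sylow_card_facts (commutator G) p P').1
    rw [h1]
    congr 1
    have h2 := (commutator G).card_mul_index
    have h3 : ¬ p ∣ (commutator G).index := not_dvd_index_commutator hp hq hpq hexp
    rw [← h2, Nat.factorization_mul Nat.card_pos.ne' (Subgroup.index_ne_zero_of_finite),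
      Finsupp.add_apply, Nat.factorization_eq_zero_of_not_dvd h3, add_zero]
  have hPp : IsPGroup p P := P'.isPGroup'.map _
  have hPs : Group.IsSolvable P := by
    haveI : Group.IsNilpotent P := hPp.isNilpotent
    infer_instance
  have hle := index_le_relIndex_of_card hp (Subgroup.centralizer ({x} : Set G)) P hx hPcard
  have hHs : Group.IsSolvable (P ⊔ Subgroup.zpowers x : Subgroup G) :=
    isSolvable_sup_of_le_normalizer' hPs hAs hP'
  apply inSolv_of_conj_mem _ hHs
  intro g
  obtain ⟨u, hu, hgu⟩ := exists_conj_eq_of_index_le_relIndex x P hle g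
  rw [hgu]
  have huH : u ∈ (P ⊔ Subgroup.zpowers x : Subgroup G) := Subgroup.mem_sup_left hu
  have hxH : x ∈ (P ⊔ Subgroup.zpowers x : Subgroup G) :=
    Subgroup.mem_sup_right (Subgroup.mem_zpowers x)
  exact Subgroup.mul_mem _ (Subgroup.mul_mem _ huH hxH) (Subgroup.inv_mem _ huH)

end

end Cfsg.Agent.Lib.Helper8.KZ
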