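import Mathlib
import Cfsg.Agent.Lib.Helper8.KZ5

/-!
# Kazarin's theorem
-/

set_option autoImplicit false

namespace Cfsg.Agent.Lib.Helper8.KZ

open Cfsg

universe u

theorem kazarin_aux {p : ℕ} (hp : p.Prime) : ∀ (n : ℕ) (G : Type u) [Group G] [Finite G],
    Nat.card G = n → ∀ (x : G) (a : ℕ),
      (Subgroup.centralizer ({x} : Set G)).index = p ^ a → InSolv x := by
  intro n
  induction n using Nat.strong_induction_on with
  | _ n ih =>
    intro G _ _ hn x a hx
    -- a proper normal subgroup containing `x`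
    have hsub : ∀ (m : ℕ) (H : Subgroup G), H.Normal → H ≠ ⊤ → x ^ m ∈ H → InSolv (x ^ m) := by
      intro m H hHn hHtop hxm
      have hlt : Nat.card H < n := by
        rw [← hn]
        apply lt_of_le_of_ne (Subgroup.card_le_card_group H)
        intro h
        exact hHtop (Subgroup.eq_top_of_card_eq H h)
      have h1 : (Subgroup.centralizer ({(⟨x ^ m, hxm⟩ : H)} : Set H)).index ∣ p ^ a := by
        rw [← hx]
        exact (index_centralizer_subgroupOf_dvd H ⟨x ^ m, hxm⟩).trans
          (index_centralizer_pow_dvd x m)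
      obtain ⟨b, -, hb⟩ := (Nat.dvd_prime_pow hp).1 h1
      have := ih _ hlt H rfl ⟨x ^ m, hxm⟩ b hb
      exact inSolv_of_normal_subgroup H ⟨x ^ m, hxm⟩ this
    by_cases hA : ∃ H : Subgroup G, H.Normal ∧ H ≠ ⊤ ∧ x ∈ H
    · obtain ⟨H, hHn, hHtop, hxH⟩ := hA
      have := hsub 1 H hHn hHtop (by rwa [pow_one])
      rwa [pow_one] at this
    push Not at hA
    by_cases hB : ∃ R : Subgroup G, R.Normal ∧ Group.IsSolvable R ∧ R ≠ ⊥
    · obtain ⟨R, hRn, hRs, hRbot⟩ := hB
      have hlt : Nat.card (G ⧸ R) < n := by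
        rw [← hn, ← R.card_mul_index, ← Subgroup.index_eq_card]
        have h1 : 1 < Nat.card R := by
          rw [Subgroup.one_lt_card_iff_ne_bot]
          exact hRbot
        have h2 : 0 < R.index := Nat.pos_of_ne_zero Subgroup.index_ne_zero_of_finite
        nlinarith
      have h1 : (Subgroup.centralizer ({(x : G ⧸ R)} : Set (G ⧸ R))).index ∣ p ^ a := by
        rw [← hx]
        exact index_centralizer_quotient_dvd R x
      obtain ⟨b, -, hb⟩ := (Nat.dvd_prime_pow hp).1 h1
      have := ih _ hlt (G ⧸ R) rfl (x : G ⧸ R) b hb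
      exact inSolv_of_quotient R hRs x this
    push Not at hB
    have hrad : ∀ y : G, InSolv y → y = 1 := by
      rintro y ⟨R, hRn, hRs, hy⟩
      have := hB R hRn hRs
      rw [this, Subgroup.mem_bot] at hy
      exact hy
    apply inSolv_main_case hp x hx
    · intro N hNn hxN
      by_contra hne
      exact hA N hNn hne hxN
    · exact hrad
    · intro m H hHn hHtop hxm
      exact hrad _ (hsub m H hHn hHtop hxm)

/-- **Kazarin's theorem**: an element whose class size is a prime power lies in a solvable normal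
subgroup. -/
theorem kazarin {G : Type u} [Group G] [Finite G] {p : ℕ} (hp : p.Prime) (x : G) (a : ℕ)
    (hx : (Subgroup.centralizer ({x} : Set G)).index = p ^ a) : InSolv x :=
  kazarin_aux hp _ G rfl x a hx

/-- Kazarin's theorem, normal closure form. -/
theorem kazarin_normalClosure {G : Type u} [Group G] [Finite G] {p : ℕ} (hp : p.Prime) (x : G)
    (a : ℕ) (hx : (Subgroup.centralizer ({x} : Set G)).index = p ^ a) :
    Group.IsSolvable (Subgroup.normalClosure ({x} : Set G)) :=
  (inSolv_iff x).1 (kazarin hp x a hx)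

end Cfsg.Agent.Lib.Helper8.KZ
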