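import Mathlib
import Cfsg.Prelude.Def_Solvable
import Cfsg.Agent.Lib.Helper8.KZ6
import Cfsg.Agent.Lib.Lead.Core
import Cfsg.Agent.S0044

/-!
# Conjugates of an element of `p`-power class size commute modulo `O_p(G)`
-/

set_option autoImplicit false

namespace Cfsg.Agent.Lib.Helper8.KZ

open Cfsg Cfsg.Agent.Lib.Lead

universe u

section

variable {G : Type u} [Group G]

/-- `O_p(G / O_p(G)) = 1`. -/
theorem pCore_quotient_pCore_eq_bot (p : ℕ) :
    haveI := pCore_normal (G := G) p
    pCore p (G ⧸ pCore p G) = ⊥ := by
  haveI := pCore_normal (G := G) p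
  have h1 : (pCore p (G ⧸ pCore p G)).comap (QuotientGroup.mk' (pCore p G)) ≤ pCore p G := by
    apply le_pCore
    · exact Subgroup.Normal.comap (pCore_normal (G := G ⧸ pCore p G) p) _
    · apply (pCore_isPGroup (G := G ⧸ pCore p G) p).comap_of_ker_isPGroup
      rw [QuotientGroup.ker_mk']
      exact pCore_isPGroup p
  rw [eq_bot_iff]
  intro y hy
  obtain ⟨g, rfl⟩ := QuotientGroup.mk'_surjective (pCore p G) y
  rw [Subgroup.mem_bot]
  exact (QuotientGroup.eq_one_iff g).2 (h1 hy)

/-- An element of `p`-power class size centralizes every normal subgroup of order prime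
to `p`. -/
theorem le_centralizer_of_not_dvd_card [Finite G] {p : ℕ} (hp : p.Prime) (w : G) {b : ℕ}
    (hw : (Subgroup.centralizer ({w} : Set G)).index = p ^ b) (V : Subgroup G) [V.Normal]
    (hV : ¬ p ∣ Nat.card V) : V ≤ Subgroup.centralizer ({w} : Set G) := by
  rw [← Subgroup.relIndex_eq_one]
  have h1 : (Subgroup.centralizer ({w} : Set G)).relIndex V ∣ p ^ b := by
    rw [← hw, ← relIndex_sup_of_normal]
    exact Subgroup.relIndex_dvd_index_of_le le_sup_left
  have h2 : (Subgroup.centralizer ({w} : Set G)).relIndex V ∣ Nat.card V :=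
    Subgroup.relIndex_dvd_card _ _
  obtain ⟨m, -, hm⟩ := (Nat.dvd_prime_pow hp).1 h1
  rcases Nat.eq_zero_or_pos m with h0 | hpos
  · rw [hm, h0, pow_zero]
  · exfalso
    apply hV
    rw [hm] at h2
    exact (dvd_pow_self p hpos.ne').trans h2

/-- In a group with `O_p(G) = 1`, the conjugates of an element of `p`-power class size commute
with one another. -/
theorem commute_of_mem_normalClosure [Finite G] {p : ℕ} (hp : p.Prime)
    (hcore : pCore p G = ⊥) (w : G) {b : ℕ}
    (hw : (Subgroup.centralizer ({w} : Set G)).index = p ^ b) {y z : G}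
    (hy : y ∈ Subgroup.normalClosure ({w} : Set G))
    (hz : z ∈ Subgroup.normalClosure ({w} : Set G)) : y * z = z * y := by
  classical
  set N := Subgroup.normalClosure ({w} : Set G) with hN
  have hNs : Group.IsSolvable N := kazarin_normalClosure hp w b hw
  have hNn : N.Normal := Subgroup.normalClosure_normal
  -- the Fitting subgroup of `G` is centralized by `w`
  have hFw : fittingSubgroup G ≤ Subgroup.centralizer ({w} : Set G) := by
    rw [fittingSubgroup_eq_iSup_pCore]
    apply iSup_le
    intro r
    by_cases hr : (r : ℕ) = p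
    · rw [hr, hcore]
      exact bot_le
    · haveI := pCore_normal (G := G) (r : ℕ)
      apply le_centralizer_of_not_dvd_card hp w hw
      intro hdvd
      have hrp : IsPGroup (r : ℕ) (pCore (r : ℕ) G) := pCore_isPGroup _
      haveI : Fact (r : ℕ).Prime := ⟨r.2⟩
      obtain ⟨k, hk⟩ := IsPGroup.iff_card.1 hrp
      rw [hk] at hdvd
      have := hp.dvd_of_dvd_pow hdvd
      exact hr ((Nat.prime_dvd_prime_iff_eq hp r.2).1 this).symm
  haveI hFn : (fittingSubgroup G).Normal := fittingSubgroup_normal
  have hCn : (Subgroup.centralizer ((fittingSubgroup G : Subgroup G) : Set G)).Normal :=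
    Subgroup.normal_centralizer
  have hwC : w ∈ Subgroup.centralizer ((fittingSubgroup G : Subgroup G) : Set G) := by
    rw [Subgroup.mem_centralizer_iff]
    intro f hf
    exact ((Subgroup.mem_centralizer_iff.1 (hFw hf)) w rfl).symm
  have hNC : N ≤ Subgroup.centralizer ((fittingSubgroup G : Subgroup G) : Set G) := by
    apply Subgroup.normalClosure_le_normal
    intro v hv
    rw [Set.mem_singleton_iff] at hv
    subst hv
    exact hwC
  -- the Fitting subgroup of `N` lies in the Fitting subgroup of `G`
  have hFN : (fittingSubgroup N).map N.subtype ≤ fittingSubgroup G := by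
    apply le_fittingSubgroup
    · constructor
      rintro _ ⟨f, hf, rfl⟩ g
      let α : N ≃* N := MulAut.conjNormal g
      have h1 : ((fittingSubgroup N).map α.toMonoidHom).Normal :=
        (fittingSubgroup_normal (G := N)).map _ α.surjective
      have h2 : Group.IsNilpotent ((fittingSubgroup N).map α.toMonoidHom) := by
        haveI : Group.IsNilpotent (fittingSubgroup N) := fittingSubgroup_isNilpotent
        exact Group.nilpotent_of_surjective _
          (α.toMonoidHom.subgroupMap_surjective (fittingSubgroup N))
      have h3 := le_fittingSubgroup h1 h2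
      have h4 : α f ∈ fittingSubgroup N := h3 ⟨f, hf, rfl⟩
      refine ⟨α f, h4, ?_⟩
      simp [α, MulAut.conjNormal_apply]
    · haveI : Group.IsNilpotent (fittingSubgroup N) := fittingSubgroup_isNilpotent
      exact Group.nilpotent_of_surjective _ (N.subtype.subgroupMap_surjective (fittingSubgroup N))
  -- every element of `N` centralizes the Fitting subgroup of `N`
  have hcent : ∀ n : N, n ∈ Subgroup.centralizer ((fittingSubgroup N : Subgroup N) : Set N) := by
    intro n
    rw [Subgroup.mem_centralizer_iff]
    intro f hf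
    apply Subtype.ext
    have h1 : (f : G) ∈ fittingSubgroup G := hFN ⟨f, hf, rfl⟩
    exact (Subgroup.mem_centralizer_iff.1 (hNC n.2)) (f : G) h1
  have hS := Cfsg.Agent.S0044.result (G := N)
  have hz' : (⟨z, hz⟩ : N) ∈ fittingSubgroup N := hS (hcent ⟨z, hz⟩)
  have := (Subgroup.mem_centralizer_iff.1 (hcent ⟨y, hy⟩)) ⟨z, hz⟩ hz'
  have h2 := congrArg Subtype.val this
  exact h2.symm

end

end Cfsg.Agent.Lib.Helper8.KZ
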