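import Mathlib
import Cfsg.Agent.Lib.Helper2.MinNormal
import Cfsg.Agent.Lib.Lead.Nilpotent

/-!
# Solvable groups with a core-free maximal subgroup: the two bottom chief factors
-/

set_option autoImplicit false

namespace Cfsg.Agent.Lib.Helper8.BQ

open scoped Pointwise

variable {Q : Type*} [Group Q] [Finite Q]

/-- A nontrivial finite group has a minimal normal subgroup. -/
theorem exists_minNormal [Nontrivial Q] :
    ∃ M : Subgroup Q, M.Normal ∧ M ≠ ⊥ ∧
      ∀ K : Subgroup Q, K.Normal → K ≤ M → K = ⊥ ∨ K = M := by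
  classical
  have hne : ∃ n, ∃ M : Subgroup Q, M.Normal ∧ M ≠ ⊥ ∧ Nat.card M = n :=
    ⟨_, ⊤, inferInstance, top_ne_bot, rfl⟩
  obtain ⟨M, hMn, hM, hcard⟩ := Nat.find_spec hne
  refine ⟨M, hMn, hM, fun K hKn hKM => ?_⟩
  by_contra hcon
  push Not at hcon
  have hlt : Nat.card K < Nat.card M := by
    by_contra hle
    push Not at hle
    exact hcon.2 (Subgroup.eq_of_le_of_card_ge hKM hle)
  rw [hcard] at hlt
  exact Nat.find_min hne hlt ⟨K, hKn, hcon.1, rfl⟩

omit [Finite Q] in
/-- A subgroup of `Hb` normalised by `Hb` and centralised by a normal `M` with `M ⊔ Hb = ⊤`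
is trivial when `Hb` is a proper subgroup supplementing every nontrivial normal subgroup. -/
theorem eq_bot_of_normalized (Hb : Subgroup Q) (ht : Hb ≠ ⊤)
    (hmax : ∀ N : Subgroup Q, N.Normal → N ≠ ⊥ → N ⊔ Hb = ⊤)
    (M D : Subgroup Q) (hsup : M ⊔ Hb = ⊤) (hD : D ≤ Hb)
    (hnorm : ∀ h ∈ Hb, ∀ d ∈ D, h * d * h⁻¹ ∈ D)
    (hcent : ∀ m ∈ M, ∀ d ∈ D, m * d = d * m) : D = ⊥ := by
  have h1 : M ≤ Subgroup.normalizer (D : Set Q) := by
    intro m hm
    rw [Subgroup.mem_normalizer_iff]
    intro d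
    constructor
    · intro hd
      have : m * d * m⁻¹ = d := by rw [hcent m hm d hd]; group
      rw [this]; exact hd
    · intro hd
      have hd' : m * d * m⁻¹ ∈ D := hd
      have h2 := hcent m⁻¹ (M.inv_mem hm) _ hd'
      have h3 : d = m * d * m⁻¹ := by
        have e1 : m⁻¹ * (m * d * m⁻¹) = d * m⁻¹ := by group
        rw [e1] at h2
        calc d = d * m⁻¹ * m := by group
          _ = m * d * m⁻¹ * m⁻¹ * m := by rw [h2]
          _ = m * d * m⁻¹ := by group
      rw [h3]; exact hd'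
  have h2 : Hb ≤ Subgroup.normalizer (D : Set Q) := by
    intro h hh
    rw [Subgroup.mem_normalizer_iff]
    intro d
    constructor
    · intro hd; exact hnorm h hh d hd
    · intro hd
      have h3 := hnorm h⁻¹ (Hb.inv_mem hh) _ hd
      have : h⁻¹ * (h * d * h⁻¹) * h⁻¹⁻¹ = d := by group
      rw [this] at h3; exact h3
  have h3 : Subgroup.normalizer (D : Set Q) = ⊤ := by
    rw [eq_top_iff, ← hsup]; exact sup_le h1 h2
  have hDn : D.Normal := Subgroup.normalizer_eq_top_iff.1 h3
  by_contra hne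
  have h4 := hmax D hDn hne
  rw [sup_eq_right.2 hD] at h4
  exact ht h4

/-- The bottom two chief factors of a solvable group with a core-free maximal subgroup have
coprime orders. -/
theorem gt_quot [hs : Group.IsSolvable Q] (Hb : Subgroup Q) (hb : Hb ≠ ⊥) (ht : Hb ≠ ⊤)
    (hmax : ∀ N : Subgroup Q, N.Normal → N ≠ ⊥ → N ⊔ Hb = ⊤) :
    ∃ M R : Subgroup Q, M.Normal ∧ R.Normal ∧ M ⊓ Hb = ⊥ ∧ M ≠ ⊥ ∧ M < R ∧
      (Nat.card M).Coprime (M.relIndex R) := by
  classical
  haveI : Nontrivial Q := by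
    by_contra h
    rw [not_nontrivial_iff_subsingleton] at h
    exact hb (Subsingleton.elim _ _)
  obtain ⟨M, hMn, hM, hMmin⟩ := exists_minNormal (Q := Q)
  haveI := hMn
  have hMc : IsMulCommutative M :=
    Cfsg.Agent.Lib.Helper2.isMulCommutative_of_minNormal_of_solvable M hM hMmin
  obtain ⟨p, hp, -, d, hd, hMcard⟩ :=
    Cfsg.Agent.Lib.Helper2.exists_prime_pow_of_minNormal_abelian M hM hMmin hMc
  have hMcomm : ∀ a ∈ M, ∀ b ∈ M, a * b = b * a := by
    intro a ha b hb'
    have := hMc.is_comm.comm ⟨a, ha⟩ ⟨b, hb'⟩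
    exact congrArg Subtype.val this
  have hsup : M ⊔ Hb = ⊤ := hmax M hMn hM
  -- `M ⊓ Hb = ⊥`
  have hMH : M ⊓ Hb = ⊥ := by
    apply eq_bot_of_normalized Hb ht hmax M (M ⊓ Hb) hsup inf_le_right
    · intro h hh x hx
      exact ⟨hMn.conj_mem x hx.1 h, Hb.mul_mem (Hb.mul_mem hh hx.2) (Hb.inv_mem hh)⟩
    · intro m hm x hx
      exact hMcomm m hm x hx.1
  have hMtop : M ≠ ⊤ := by
    intro h
    rw [h, top_inf_eq] at hMH
    exact hb hMH
  -- the second chief factor
  haveI : Nontrivial (Q ⧸ M) := by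
    rw [← not_subsingleton_iff_nontrivial]
    intro h
    apply hMtop
    rw [eq_top_iff]
    intro x _
    have : (QuotientGroup.mk' M x) = 1 := Subsingleton.elim _ _
    exact (QuotientGroup.eq_one_iff x).1 this
  obtain ⟨R2, hR2n, hR2, hR2min⟩ := exists_minNormal (Q := Q ⧸ M)
  haveI := hR2n
  have hR2c : IsMulCommutative R2 :=
    Cfsg.Agent.Lib.Helper2.isMulCommutative_of_minNormal_of_solvable R2 hR2 hR2min
  obtain ⟨q, hq, -, d', hd', hR2card⟩ :=
    Cfsg.Agent.Lib.Helper2.exists_prime_pow_of_minNormal_abelian R2 hR2 hR2min hR2c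
  set f : Q →* Q ⧸ M := QuotientGroup.mk' M with hf
  have hfs : Function.Surjective f := QuotientGroup.mk'_surjective M
  set R : Subgroup Q := R2.comap f with hR
  have hRn : R.Normal := hR2n.comap f
  have hMR : M ≤ R := by
    intro m hm
    rw [hR, Subgroup.mem_comap]
    have : f m = 1 := (QuotientGroup.eq_one_iff m).2 hm
    rw [this]; exact R2.one_mem
  have hRmap : R.map f = R2 := Subgroup.map_comap_eq_self_of_surjective hfs R2
  have hMker : M = (⊥ : Subgroup (Q ⧸ M)).comap f := by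
    ext x
    rw [Subgroup.mem_comap, Subgroup.mem_bot]
    exact (QuotientGroup.eq_one_iff x).symm
  have hrel : M.relIndex R = q ^ d' := by
    have h1 := Subgroup.relIndex_comap (H := (⊥ : Subgroup (Q ⧸ M))) f R
    rw [← hMker, hRmap, Subgroup.relIndex_bot_left] at h1
    rw [h1, hR2card]
  have hMneR : M ≠ R := by
    intro h
    have : M.relIndex R = 1 := by rw [← h]; exact Subgroup.relIndex_self M
    rw [hrel] at this
    have h2 : 1 < q ^ d' := Nat.one_lt_pow hd'.ne' hq.one_lt
    omega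
  have hlt : M < R := lt_of_le_of_ne hMR hMneR
  refine ⟨M, R, hMn, hRn, hMH, hM, hlt, ?_⟩
  rw [hMcard, hrel]
  by_cases hpq : p = q
  · exfalso
    subst hpq
    haveI : Fact p.Prime := ⟨hp⟩
    -- `R` is a `p`-group
    have hRcard : Nat.card R = p ^ (d + d') := by
      have h1 := Subgroup.card_mul_index (M.subgroupOf R)
      rw [Nat.card_congr (Subgroup.subgroupOfEquivOfLe hMR).toEquiv] at h1
      have h2 : (M.subgroupOf R).index = M.relIndex R := rfl
      rw [h2, hrel, hMcard] at h1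
      rw [← h1, pow_add]
    have hRp : IsPGroup p R := IsPGroup.of_card hRcard
    haveI : Group.IsNilpotent R := hRp.isNilpotent
    haveI hNn : (M.subgroupOf R).Normal := Subgroup.normal_subgroupOf
    have hNne : M.subgroupOf R ≠ ⊥ := by
      obtain ⟨⟨m, hm⟩, hm1⟩ := (Subgroup.ne_bot_iff_exists_ne_one).1 hM
      intro h
      have h1 : (⟨m, hMR hm⟩ : R) ∈ M.subgroupOf R := Subgroup.mem_subgroupOf.2 hm
      rw [h, Subgroup.mem_bot] at h1
      apply hm1
      apply Subtype.ext
      have h2 := congrArg (fun x : R => (x : Q)) h1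
      exact h2
    have hz := Cfsg.Agent.Lib.Lead.inf_center_ne_bot (M.subgroupOf R) hNne
    obtain ⟨⟨z, hz1, hz2⟩, hzne⟩ := (Subgroup.ne_bot_iff_exists_ne_one).1 hz
    -- the normal subgroup `M ⊓ Z(R)`
    haveI hZn : ((Subgroup.center R).map R.subtype).Normal :=
      ConjAct.normal_of_characteristic_of_normal
    have hZM : (M ⊓ (Subgroup.center R).map R.subtype) = M := by
      rcases hMmin (M ⊓ (Subgroup.center R).map R.subtype) inferInstance inf_le_left with h | h
      · exfalso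
        have h1 : (z : Q) ∈ M ⊓ (Subgroup.center R).map R.subtype :=
          ⟨Subgroup.mem_subgroupOf.1 hz1, ⟨z, hz2, rfl⟩⟩
        rw [h, Subgroup.mem_bot] at h1
        apply hzne
        apply Subtype.ext
        apply Subtype.ext
        exact h1
      · exact h
    have hMZ : ∀ m ∈ M, ∀ r ∈ R, m * r = r * m := by
      intro m hm r hr
      rw [← hZM] at hm
      obtain ⟨c, hc, hcm⟩ := hm.2
      rw [SetLike.mem_coe, Subgroup.mem_center_iff] at hc
      have := hc ⟨r, hr⟩
      have h2 := congrArg Subtype.val this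
      rw [← hcm]
      exact h2.symm
    have hRH : R ⊓ Hb = ⊥ := by
      apply eq_bot_of_normalized Hb ht hmax M (R ⊓ Hb) hsup inf_le_right
      · intro h hh x hx
        exact ⟨hRn.conj_mem x hx.1 h, Hb.mul_mem (Hb.mul_mem hh hx.2) (Hb.inv_mem hh)⟩
      · intro m hm x hx
        exact hMZ m hm x hx.1
    have hRM : R ≤ M := by
      intro r hr
      have h1 : r ∈ ((M ⊔ Hb : Subgroup Q) : Set Q) := by rw [hsup]; exact Set.mem_univ _
      rw [Subgroup.normal_mul] at h1
      obtain ⟨m, hm, h, hh, hmh⟩ := h1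
      have hmh : m * h = r := hmh
      have h2 : h ∈ R ⊓ Hb := by
        refine ⟨?_, hh⟩
        have : h = m⁻¹ * r := by rw [← hmh]; group
        rw [this]
        exact R.mul_mem (R.inv_mem (hMR hm)) hr
      rw [hRH, Subgroup.mem_bot] at h2
      rw [h2, mul_one] at hmh
      rw [← hmh]; exact hm
    exact hMneR (le_antisymm hMR hRM)
  · exact Nat.Coprime.pow _ _ ((Nat.coprime_primes hp hq).2 hpq)

end Cfsg.Agent.Lib.Helper8.BQ
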