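import Mathlib
import Cfsg.Agent.Lib.Helper8.BQ1

/-!
# A maximal non-normal subgroup with solvable quotient: the chief factors above its core
-/

set_option autoImplicit false

namespace Cfsg.Agent.Lib.Helper8.BQ

variable {G : Type*} [Group G] [Finite G]

theorem gt_main (L H : Subgroup G) [hL : L.Normal] (hLH : L ≤ H) (hmax : IsCoatom H)
    (hsolv : Group.IsSolvable (G ⧸ L)) (hHn : ¬ H.Normal) :
    ∃ M R : Subgroup G, M.Normal ∧ R.Normal ∧ H.normalCore ≤ M ∧ M ⊓ H = H.normalCore ∧
      M ⊔ H = ⊤ ∧ M < R ∧ (H.normalCore.relIndex M).Coprime (M.relIndex R) := by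
  classical
  set K : Subgroup G := H.normalCore with hK
  have hKH : K ≤ H := H.normalCore_le
  have hLK : L ≤ K := Subgroup.normal_le_normalCore.2 hLH
  haveI hKn : K.Normal := Subgroup.normalCore_normal H
  -- solvability of the quotient
  haveI : Group.IsSolvable (G ⧸ K) := by
    have hle : L ≤ K.comap (MonoidHom.id G) := by
      intro x hx
      exact hLK hx
    refine Group.isSolvable_of_surjective (f := QuotientGroup.map L K (MonoidHom.id G) hle) ?_
    intro y
    obtain ⟨g, rfl⟩ := QuotientGroup.mk_surjective y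
    exact ⟨QuotientGroup.mk g, rfl⟩
  set f : G →* G ⧸ K := QuotientGroup.mk' K with hf
  have hfs : Function.Surjective f := QuotientGroup.mk'_surjective K
  have hker : f.ker = K := QuotientGroup.ker_mk' K
  have hKbot : (⊥ : Subgroup (G ⧸ K)).comap f = K := by
    ext x
    rw [Subgroup.mem_comap, Subgroup.mem_bot]
    exact QuotientGroup.eq_one_iff x
  have hKle : ∀ N : Subgroup (G ⧸ K), K ≤ N.comap f := by
    intro N x hx
    rw [Subgroup.mem_comap]
    have : f x = 1 := (QuotientGroup.eq_one_iff x).2 hx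
    rw [this]; exact N.one_mem
  have hcm : ∀ A : Subgroup G, K ≤ A → (A.map f).comap f = A := by
    intro A hA
    rw [Subgroup.comap_map_eq, hker, sup_eq_left.2 hA]
  have hmapbot : ∀ A : Subgroup G, A ≤ K → A.map f = ⊥ := by
    intro A hA
    rw [eq_bot_iff]
    rintro _ ⟨a, ha, rfl⟩
    rw [Subgroup.mem_bot]
    exact (QuotientGroup.eq_one_iff a).2 (hA ha)
  have hb : H.map f ≠ ⊥ := by
    intro h
    apply hHn
    have h1 : H ≤ K := by
      intro x hx
      have : f x ∈ H.map f := ⟨x, hx, rfl⟩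
      rw [h, Subgroup.mem_bot] at this
      exact (QuotientGroup.eq_one_iff x).1 this
    have : H = K := le_antisymm h1 hKH
    rw [this]; exact hKn
  have ht : H.map f ≠ ⊤ := by
    intro h
    have h1 := hcm H hKH
    rw [h, Subgroup.comap_top] at h1
    exact hmax.1 h1.symm
  have hnotle : ∀ N : Subgroup (G ⧸ K), N ≠ ⊥ → N.Normal → ¬ N.comap f ≤ H := by
    intro N hN hNn hle
    haveI : (N.comap f).Normal := hNn.comap f
    have h1 : N.comap f ≤ K := Subgroup.normal_le_normalCore.2 hle
    have h2 := hmapbot _ h1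
    rw [Subgroup.map_comap_eq_self_of_surjective hfs] at h2
    exact hN h2
  have hmax' : ∀ N : Subgroup (G ⧸ K), N.Normal → N ≠ ⊥ → N ⊔ H.map f = ⊤ := by
    intro N hNn hN
    have h1 : H < N.comap f ⊔ H := by
      refine lt_of_le_of_ne le_sup_right ?_
      intro h
      apply hnotle N hN hNn
      rw [h]; exact le_sup_left
    have h2 := hmax.2 _ h1
    have h3 : (N.comap f ⊔ H).map f = N ⊔ H.map f := by
      rw [Subgroup.map_sup, Subgroup.map_comap_eq_self_of_surjective hfs]
    rw [← h3, h2]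
    exact Subgroup.map_top_of_surjective f hfs
  obtain ⟨Mb, Rb, hMn, hRn, hMH, hMne, hlt, hcop⟩ := gt_quot (H.map f) hb ht hmax'
  refine ⟨Mb.comap f, Rb.comap f, hMn.comap f, hRn.comap f, ?_, ?_, ?_, ?_, ?_⟩
  · exact hKle Mb
  · apply le_antisymm
    · intro x hx
      have h1 : f x ∈ Mb ⊓ H.map f := ⟨hx.1, ⟨x, hx.2, rfl⟩⟩
      rw [hMH, Subgroup.mem_bot] at h1
      exact (QuotientGroup.eq_one_iff x).1 h1
    · exact le_inf (hKle Mb) hKH
  · have h1 : H < Mb.comap f ⊔ H := by
      refine lt_of_le_of_ne le_sup_right ?_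
      intro h
      apply hnotle Mb hMne hMn
      rw [h]; exact le_sup_left
    exact hmax.2 _ h1
  · exact (Subgroup.comap_lt_comap_of_surjective hfs).2 hlt
  · have h1 : K.relIndex (Mb.comap f) = Nat.card Mb := by
      have h0 := Subgroup.relIndex_comap (H := (⊥ : Subgroup (G ⧸ K))) f (Mb.comap f)
      rw [Subgroup.map_comap_eq_self_of_surjective hfs, Subgroup.relIndex_bot_left] at h0
      refine Eq.trans ?_ h0
      exact congrArg (fun A : Subgroup G => A.relIndex (Mb.comap f)) hKbot.symm
    have h2 : (Mb.comap f).relIndex (Rb.comap f) = Mb.relIndex Rb := by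
      rw [Subgroup.relIndex_comap, Subgroup.map_comap_eq_self_of_surjective hfs]
    have h3 : ∀ a b : ℕ, a = Nat.card Mb → b = Mb.relIndex Rb → Nat.Coprime a b := by
      intro a b ha hb
      rw [ha, hb]
      exact hcop
    exact h3 _ _ h1 h2

end Cfsg.Agent.Lib.Helper8.BQ
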