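import Mathlib
import Cfsg.Prelude.Def_Characters
import Cfsg.Agent.Lib.Helper8.RV5
import Cfsg.Agent.Lib.Helper2.RelMAbelian
import Cfsg.Agent.Lib.Helper2.PiSection

/-!
# The quotient of the normaliser of `Q` by `Q`, and images of subgroups
-/

set_option autoImplicit false
set_option linter.unusedSectionVars false

namespace Cfsg.Agent.Lib.Helper8.RV

open Cfsg
open scoped ComplexConjugate
open Cfsg.Agent.Lib.Helper1 Cfsg.Agent.Lib.Helper4 Cfsg.Agent.Lib.Helper8

universe u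

noncomputable local instance subFt6 {G : Type u} [Group G] [Finite G] (H : Subgroup G) : Fintype H :=
  Fintype.ofFinite H

section Abstract

variable {A B : Type u} [Group A] [Group B] [Fintype A] [Fintype B]

theorem card_eq_of_surjective (f : A →* B) (hf : Function.Surjective f) :
    Nat.card A = Nat.card f.ker * Nat.card B := by
  have h2 := Subgroup.card_eq_card_quotient_mul_card_subgroup f.ker
  have h3 : Nat.card (A ⧸ f.ker) = Nat.card B :=
    Nat.card_congr (QuotientGroup.quotientKerEquivOfSurjective f hf).toEquiv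
  rw [h2, h3, mul_comm]

/-- An irreducible character which is not inflated from the quotient is orthogonal to all
inflated class functions. -/
theorem classInner_inflation_eq_zero (f : A →* B) (hf : Function.Surjective f) {χ : B → ℂ}
    (hχ : IsClassFunction B χ) {γ : A → ℂ} (hγ : IsIrrCharacter A γ)
    (hno : ¬ ∃ ζ : IrrCharacter B, γ = fun a => (ζ : B → ℂ) (f a)) :
    classInner (fun a => χ (f a)) γ = 0 := by
  classical
  haveI : Fintype (IrrCharacter B) := Fintype.ofFinite _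
  have hexp := class_function_expansion χ hχ
  have h1 : (fun a => χ (f a))
      = ∑ ζ : IrrCharacter B, classInner χ (ζ : B → ℂ) • fun a => (ζ : B → ℂ) (f a) := by
    funext a
    have h2 := congrFun hexp (f a)
    rw [Finset.sum_apply] at h2 ⊢
    exact h2
  rw [h1, classInner_sum_left]
  apply Finset.sum_eq_zero
  intro ζ _
  rw [classInner_smul_left]
  have hirr : IsIrrCharacter A (fun a => (ζ : B → ℂ) (f a)) :=
    Cfsg.Agent.Lib.Helper2.PiSection.isIrrCharacter_comp_surjective ζ.2 f hf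
  rw [classInner_irr_ne hirr hγ (fun h => hno ⟨ζ, h.symm⟩), mul_zero]

end Abstract

variable {Γ : Type u} [Group Γ] [Finite Γ]

/-- The normaliser of `Q`. -/
abbrev NQ (Q : Subgroup Γ) : Subgroup Γ := Subgroup.normalizer (Q : Set Γ)

/-- The quotient `N(Q)/Q`. -/
abbrev Quo (Q : Subgroup Γ) : Type u := ↥(NQ Q) ⧸ Q.subgroupOf (NQ Q)

/-- The quotient map. -/
abbrev qmk (Q : Subgroup Γ) : ↥(NQ Q) →* Quo Q := QuotientGroup.mk' (Q.subgroupOf (NQ Q))

/-- The image in `N(Q)/Q` of a subgroup. -/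
def img (Q H : Subgroup Γ) : Subgroup (Quo Q) := (H.subgroupOf (NQ Q)).map (qmk Q)

theorem le_NQ_of_normalizes {Q H : Subgroup Γ} (h : ∀ x ∈ H, Normalizes x Q) : H ≤ NQ Q := by
  intro x hx
  rw [Subgroup.mem_normalizer_iff]
  exact h x hx

/-- The projection of a subgroup of `N(Q)` onto its image. -/
def proj (Q : Subgroup Γ) {H : Subgroup Γ} (hH : H ≤ NQ Q) : ↥H →* ↥(img Q H) where
  toFun h := ⟨qmk Q ⟨h, hH h.2⟩, Subgroup.mem_map_of_mem _ (Subgroup.mem_subgroupOf.2 h.2)⟩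
  map_one' := by
    apply Subtype.ext
    show qmk Q ⟨((1 : H) : Γ), _⟩ = 1
    have : (⟨((1 : H) : Γ), hH (1 : H).2⟩ : NQ Q) = 1 := rfl
    rw [this, map_one]
  map_mul' a b := by
    apply Subtype.ext
    show qmk Q ⟨((a * b : H) : Γ), _⟩ = qmk Q ⟨a, _⟩ * qmk Q ⟨b, _⟩
    rw [← map_mul]
    rfl

theorem proj_coe (Q : Subgroup Γ) {H : Subgroup Γ} (hH : H ≤ NQ Q) (h : H) :
    ((proj Q hH h : img Q H) : Quo Q) = qmk Q ⟨h, hH h.2⟩ := rfl

theorem proj_surjective (Q : Subgroup Γ) {H : Subgroup Γ} (hH : H ≤ NQ Q) :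
    Function.Surjective (proj Q hH) := by
  rintro ⟨y, hy⟩
  obtain ⟨x, hx, rfl⟩ := Subgroup.mem_map.1 hy
  exact ⟨⟨x, Subgroup.mem_subgroupOf.1 hx⟩, Subtype.ext rfl⟩

theorem qmk_eq_one_iff (Q : Subgroup Γ) (x : NQ Q) : qmk Q x = 1 ↔ (x : Γ) ∈ Q := by
  rw [QuotientGroup.mk'_apply, QuotientGroup.eq_one_iff, Subgroup.mem_subgroupOf]

theorem proj_eq_one_iff (Q : Subgroup Γ) {H : Subgroup Γ} (hH : H ≤ NQ Q) (h : H) :
    proj Q hH h = 1 ↔ (h : Γ) ∈ Q := by
  rw [← qmk_eq_one_iff Q ⟨h, hH h.2⟩, ← proj_coe]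
  constructor
  · intro h1
    rw [h1]
    rfl
  · intro h1
    exact Subtype.ext h1

theorem proj_ker (Q : Subgroup Γ) {H : Subgroup Γ} (hH : H ≤ NQ Q) :
    (proj Q hH).ker = Q.subgroupOf H := by
  ext h
  rw [MonoidHom.mem_ker, proj_eq_one_iff, Subgroup.mem_subgroupOf]

theorem card_img (Q : Subgroup Γ) {H : Subgroup Γ} (hH : H ≤ NQ Q) (hQH : Q ≤ H) :
    Nat.card (img Q H) = Q.relIndex H := by
  have h1 := card_eq_of_surjective (proj Q hH) (proj_surjective Q hH)
  rw [proj_ker, Nat.card_congr (eSub hQH).toEquiv, card_eq_card_mul_relIndex hQH] at h1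
  exact (Nat.eq_of_mul_eq_mul_left Nat.card_pos h1).symm

/-- The projection intertwines conjugation. -/
theorem proj_conj (Q : Subgroup Γ) {H S : Subgroup Γ} (hH : H ≤ NQ Q) (hS : S ≤ NQ Q)
    {x : Γ} (hx : x ∈ S) (hxH : Normalizes x H) (h : H) :
    ((proj Q hH (conjE hxH h) : img Q H) : Quo Q)
      = ((proj Q hS ⟨x, hx⟩ : img Q S) : Quo Q) * ((proj Q hH h : img Q H) : Quo Q)
        * ((proj Q hS ⟨x, hx⟩ : img Q S) : Quo Q)⁻¹ := by
  rw [proj_coe, proj_coe, proj_coe, ← map_inv, ← map_mul, ← map_mul]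
  rfl

/-- The commutator criterion. -/
theorem qmk_comm_iff (Q : Subgroup Γ) (a b : NQ Q) :
    qmk Q a * qmk Q b = qmk Q b * qmk Q a ↔ (a : Γ) * b * (a : Γ)⁻¹ * (b : Γ)⁻¹ ∈ Q := by
  rw [← commutatorElement_eq_one_iff_mul_comm, ← map_commutatorElement, qmk_eq_one_iff]
  rfl

end Cfsg.Agent.Lib.Helper8.RV
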