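import Mathlib
import Cfsg.Prelude.Def_Characters
import Cfsg.Agent.Lib.Helper8.RV6
import Cfsg.Agent.Lib.Helper8.GA1

/-!
# Counting modulo `p` over the cosets of `Q`, with a `p`-group acting
-/

set_option autoImplicit false
set_option linter.unusedSectionVars false

namespace Cfsg.Agent.Lib.Helper8.RV

open Cfsg
open scoped ComplexConjugate
open Cfsg.Agent.Lib.Helper1 Cfsg.Agent.Lib.Helper4 Cfsg.Agent.Lib.Helper8

universe u

noncomputable local instance subFt8 {G : Type u} [Group G] [Finite G] (H : Subgroup G) : Fintype H :=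
  Fintype.ofFinite H

variable {Γ : Type u} [Group Γ] [Finite Γ]

section

variable {p : ℕ} [hp : Fact p.Prime] {P H Q : Subgroup Γ}
  (hP : IsPGroup p P)
  (hPH : ∀ x ∈ P, Normalizes x H) (hPQ : ∀ x ∈ P, Normalizes x Q)
  (hQH : Q ≤ H) (hHQ : ∀ h ∈ H, Normalizes h Q)

include hP hPH hPQ hQH hHQ in
/-- Sums of a `Q`-coset-invariant, `P`-invariant integer function over `H`: modulo `p |Q|`
only the elements of the relative centraliser count. -/
theorem sum_cosets_modEq (w : H → ℤ)
    (hwQ : ∀ h q : H, (q : Γ) ∈ Q → w (h * q) = w h)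
    (hwP : ∀ (x : Γ) (hx : x ∈ P) (h : H), w (conjE (hPH x hx) h) = w h)
    (Fix : H → Prop) [DecidablePred Fix]
    (hFix : ∀ h : H, Fix h ↔ ∀ x ∈ P, x * (h : Γ) * x⁻¹ * (h : Γ)⁻¹ ∈ Q) :
    ∃ a b : ℤ, ∑ h : H, w h = (Nat.card Q : ℤ) * a ∧
      ∑ h : H, (if Fix h then w h else 0) = (Nat.card Q : ℤ) * b ∧ a ≡ b [ZMOD p] := by
  classical
  haveI hQn : (Q.subgroupOf H).Normal := normal_subgroupOf_of_normalizes hHQ
  haveI : Fintype (↥H ⧸ Q.subgroupOf H) := Fintype.ofFinite _
  -- the action
  have hle : ∀ x : P, Q.subgroupOf H ≤ (Q.subgroupOf H).comap (conjE (hPH x x.2)).toMonoidHom := by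
    intro x q hq
    rw [Subgroup.mem_comap, Subgroup.mem_subgroupOf]
    exact (hPQ x x.2 q).1 (Subgroup.mem_subgroupOf.1 hq)
  let act : P → (↥H ⧸ Q.subgroupOf H) → (↥H ⧸ Q.subgroupOf H) := fun x =>
    QuotientGroup.map (Q.subgroupOf H) (Q.subgroupOf H) (conjE (hPH x x.2)).toMonoidHom (hle x)
  have hact : ∀ (x : P) (h : H), act x (QuotientGroup.mk h) = QuotientGroup.mk (conjE (hPH x x.2) h) :=
    fun x h => rfl
  letI : MulAction P (↥H ⧸ Q.subgroupOf H) :=
    { smul := act
      one_smul := by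
        intro a
        induction a using QuotientGroup.induction_on with
        | H h =>
          show act 1 (QuotientGroup.mk h) = _
          rw [hact]
          congr 1
          apply Subtype.ext
          show ((1 : P) : Γ) * h * ((1 : P) : Γ)⁻¹ = h
          rw [Subgroup.coe_one]; group
      mul_smul := by
        intro x y a
        induction a using QuotientGroup.induction_on with
        | H h =>
          show act (x * y) (QuotientGroup.mk h) = act x (act y (QuotientGroup.mk h))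
          rw [hact, hact, hact]
          congr 1
          apply Subtype.ext
          show ((x * y : P) : Γ) * h * ((x * y : P) : Γ)⁻¹ = x * (y * h * (y : Γ)⁻¹) * (x : Γ)⁻¹
          rw [Subgroup.coe_mul]; group }
  have hsmul : ∀ (x : P) (h : H),
      x • (QuotientGroup.mk h : ↥H ⧸ Q.subgroupOf H) = QuotientGroup.mk (conjE (hPH x x.2) h) :=
    fun x h => rfl
  -- the function on the quotient
  have hwell : ∀ a b : H, QuotientGroup.leftRel (Q.subgroupOf H) a b → w a = w b := by
    intro a b hab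
    rw [QuotientGroup.leftRel_apply] at hab
    have h1 := hwQ a (a⁻¹ * b) (Subgroup.mem_subgroupOf.1 hab)
    rw [mul_inv_cancel_left] at h1
    exact h1.symm
  let F : (↥H ⧸ Q.subgroupOf H) → ℤ := fun a => Quotient.liftOn' a w hwell
  have hF : ∀ h : H, F (QuotientGroup.mk h) = w h := fun h => rfl
  have hFinv : ∀ (x : P) (a : ↥H ⧸ Q.subgroupOf H), F (x • a) = F a := by
    intro x a
    induction a using QuotientGroup.induction_on with
    | H h =>
      rw [hsmul, hF, hF]
      exact hwP x x.2 h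
  -- fixed points
  let Fix' : (↥H ⧸ Q.subgroupOf H) → Prop := fun a => ∀ x : P, x • a = a
  have hFix' : ∀ h : H, Fix' (QuotientGroup.mk h) ↔ Fix h := by
    intro h
    rw [hFix]
    constructor
    · intro h1 x hx
      have h2 := h1 ⟨x, hx⟩
      rw [hsmul] at h2
      have h3 := QuotientGroup.eq.1 h2.symm
      rw [Subgroup.mem_subgroupOf] at h3
      have h4 := (hHQ h h.2 _).1 h3
      have e : (h : Γ) * ((h⁻¹ * conjE (hPH x hx) h : H) : Γ) * (h : Γ)⁻¹
          = x * (h : Γ) * x⁻¹ * (h : Γ)⁻¹ := by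
        rw [Subgroup.coe_mul, Subgroup.coe_inv, conjE_coe]
        group
      rw [e] at h4
      exact h4
    · intro h1 x
      rw [hsmul]
      symm
      apply QuotientGroup.eq.2
      rw [Subgroup.mem_subgroupOf]
      have h4 := (hHQ h⁻¹ (H.inv_mem h.2) _).1 (h1 x x.2)
      have e : ((h⁻¹ * conjE (hPH x x.2) h : H) : Γ)
          = (h : Γ)⁻¹ * (x * (h : Γ) * (x : Γ)⁻¹ * (h : Γ)⁻¹) * ((h : Γ)⁻¹)⁻¹ := by
        rw [Subgroup.coe_mul, Subgroup.coe_inv, conjE_coe]
        group
      rw [e]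
      exact h4
  have hmain := sum_modEq_sum_fixedPoints hP Fix' (fun a => Iff.rfl) F hFinv
  -- sums over H in terms of sums over the quotient
  have hsurj : Function.Surjective (QuotientGroup.mk' (Q.subgroupOf H)) :=
    QuotientGroup.mk'_surjective _
  have hker : Nat.card (QuotientGroup.mk' (Q.subgroupOf H)).ker = Nat.card Q := by
    rw [QuotientGroup.ker_mk']
    exact Nat.card_congr (eSub hQH).toEquiv
  have hsum : ∀ G : (↥H ⧸ Q.subgroupOf H) → ℤ,
      ∑ h : H, G (QuotientGroup.mk h) = (Nat.card Q : ℤ) * ∑ a, G a := by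
    intro G
    have h1 := Cfsg.Agent.Lib.Helper2.RelMAbelian.sum_comp_surjective
      (QuotientGroup.mk' (Q.subgroupOf H)) hsurj (fun a => ((G a : ℤ) : ℂ))
    rw [hker] at h1
    have h2 : ((∑ h : H, G (QuotientGroup.mk h) : ℤ) : ℂ)
        = (((Nat.card Q : ℤ) * ∑ a, G a : ℤ) : ℂ) := by
      push_cast
      exact h1
    exact_mod_cast h2
  refine ⟨∑ a, F a, ∑ a ∈ Finset.univ.filter Fix', F a, ?_, ?_, hmain⟩
  · rw [← hsum F]
    exact Finset.sum_congr rfl fun h _ => (hF h).symm
  · rw [Finset.sum_filter, ← hsum (fun a => if Fix' a then F a else 0)]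
    refine Finset.sum_congr rfl fun h _ => ?_
    by_cases hh : Fix h
    · rw [if_pos hh, if_pos ((hFix' h).2 hh), hF]
    · rw [if_neg hh, if_neg (fun h' => hh ((hFix' h).1 h'))]

end

end Cfsg.Agent.Lib.Helper8.RV
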