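import Mathlib
import Cfsg.Prelude.Def_Characters
import Cfsg.Agent.Lib.Helper8.RV8

/-!
# Auxiliary sums: intersections, integrality, index congruence
-/

set_option autoImplicit false
set_option linter.unusedSectionVars false

namespace Cfsg.Agent.Lib.Helper8.RV

open Cfsg
open scoped ComplexConjugate
open Cfsg.Agent.Lib.Helper1 Cfsg.Agent.Lib.Helper4 Cfsg.Agent.Lib.Helper8

universe u

noncomputable local instance subFt9 {G : Type u} [Group G] [Finite G] (H : Subgroup G) : Fintype H :=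
  Fintype.ofFinite H

variable {Γ : Type u} [Group Γ] [Finite Γ]

/-- A sum over `B` against an extension by zero from `A` is a sum over the intersection. -/
theorem sum_inter {A B E : Subgroup Γ} (hE : ∀ g : Γ, g ∈ E ↔ g ∈ A ∧ g ∈ B)
    (a : A → ℂ) (f : B → ℂ) :
    ∑ g : B, extendByZero A a (g : Γ) * f g
      = ∑ e : E, a ⟨e, ((hE e).1 e.2).1⟩ * f ⟨e, ((hE e).1 e.2).2⟩ := by
  classical
  have h1 : ∑ g : B, extendByZero A a (g : Γ) * f g
      = ∑ g ∈ Finset.univ.filter (fun g : B => (g : Γ) ∈ A), extendByZero A a (g : Γ) * f g := by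
    rw [Finset.sum_filter]
    refine Finset.sum_congr rfl fun g _ => ?_
    by_cases hg : (g : Γ) ∈ A
    · rw [if_pos hg]
    · rw [if_neg hg, extendByZero_of_notMem _ _ hg, zero_mul]
  rw [h1, Finset.sum_subtype (Finset.univ.filter (fun g : B => (g : Γ) ∈ A))
    (p := fun g : B => (g : Γ) ∈ A) (by intro x; simp)]
  let e : {g : B // (g : Γ) ∈ A} ≃ E :=
    { toFun := fun g => ⟨(g : B), (hE _).2 ⟨g.2, (g : B).2⟩⟩
      invFun := fun e => ⟨⟨e, ((hE e).1 e.2).2⟩, ((hE e).1 e.2).1⟩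
      left_inv := fun g => rfl
      right_inv := fun e => rfl }
  refine Fintype.sum_equiv e _ _ ?_
  intro g
  rw [extendByZero_of_mem _ _ g.2]
  rfl

/-- Integrality: the pairing of extended characters is a multiple of the order of a common
subgroup. -/
theorem nat_mult {A B Q : Subgroup Γ} (hQA : Q ≤ A) (hQB : Q ≤ B) {a : A → ℂ} {b : B → ℂ}
    (ha : IsCharacter A a) (hb : IsCharacter B b) :
    ∃ n : ℕ, ∑ g : B, extendByZero A a (g : Γ) * conj (b g) = (Nat.card Q : ℂ) * n := by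
  have hE : ∀ g : Γ, g ∈ A ⊓ B ↔ g ∈ A ∧ g ∈ B := fun g => Subgroup.mem_inf
  rw [sum_inter hE a (fun g => conj (b g))]
  have ha' : IsCharacter (A ⊓ B : Subgroup Γ) (res (inf_le_left : A ⊓ B ≤ A) a) :=
    isCharacter_res _ ha
  have hb' : IsCharacter (A ⊓ B : Subgroup Γ) (res (inf_le_right : A ⊓ B ≤ B) b) :=
    isCharacter_res _ hb
  obtain ⟨n', hn'⟩ := classInner_char_nat ha' hb'
  rw [classInner_def] at hn'
  have hcard : Nat.card Q ∣ Nat.card (A ⊓ B : Subgroup Γ) :=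
    Subgroup.card_dvd_of_le (le_inf hQA hQB)
  obtain ⟨r, hr⟩ := hcard
  refine ⟨r * n', ?_⟩
  have h0 : (Nat.card (A ⊓ B : Subgroup Γ) : ℂ) ≠ 0 := Nat.cast_ne_zero.2 Nat.card_pos.ne'
  have h2 : ∑ e : (A ⊓ B : Subgroup Γ), res (inf_le_left : A ⊓ B ≤ A) a e
      * conj (res (inf_le_right : A ⊓ B ≤ B) b e) = (Nat.card (A ⊓ B : Subgroup Γ) : ℂ) * n' := by
    rw [← hn']
    field_simp
  have h3 : ∑ e : (A ⊓ B : Subgroup Γ), a ⟨e, ((hE e).1 e.2).1⟩ * conj (b ⟨e, ((hE e).1 e.2).2⟩)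
      = (Nat.card (A ⊓ B : Subgroup Γ) : ℂ) * n' := h2
  rw [h3, hr]
  push_cast
  ring

/-- Extension by zero of a class function is invariant under conjugation by elements of the
subgroup. -/
theorem extendByZero_conj_of_mem {T : Subgroup Γ} {ψ : T → ℂ} (hψ : IsClassFunction T ψ)
    {t : Γ} (ht : t ∈ T) (g : Γ) :
    extendByZero T ψ (t⁻¹ * g * t) = extendByZero T ψ g := by
  by_cases hg : g ∈ T
  · have hg' : t⁻¹ * g * t ∈ T := T.mul_mem (T.mul_mem (T.inv_mem ht) hg) ht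
    rw [extendByZero_of_mem _ _ hg, extendByZero_of_mem _ _ hg']
    have := hψ ⟨g, hg⟩ (⟨t, ht⟩⁻¹ : T)
    rw [← this]
    congr 1
    apply Subtype.ext
    simp
  · have hg' : t⁻¹ * g * t ∉ T := by
      intro h
      apply hg
      have := T.mul_mem (T.mul_mem ht h) (T.inv_mem ht)
      have e : t * (t⁻¹ * g * t) * t⁻¹ = g := by group
      rwa [e] at this
    rw [extendByZero_of_notMem _ _ hg, extendByZero_of_notMem _ _ hg']

section

variable {p : ℕ} [hp : Fact p.Prime] {P H Q E : Subgroup Γ}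
  (hP : IsPGroup p P)
  (hPH : ∀ x ∈ P, Normalizes x H) (hPQ : ∀ x ∈ P, Normalizes x Q)
  (hQH : Q ≤ H) (hHQ : ∀ h ∈ H, Normalizes h Q)
  (hE : ∀ g : Γ, g ∈ E ↔ g ∈ H ∧ ∀ x ∈ P, x * g * x⁻¹ * g⁻¹ ∈ Q)

include hPQ hE hQH in
theorem le_relCentralizer : Q ≤ E := by
  intro q hq
  rw [hE]
  refine ⟨hQH hq, fun x hx => ?_⟩
  exact Q.mul_mem ((hPQ x hx q).1 hq) (Q.inv_mem hq)

include hP hPH hPQ hQH hHQ hE in
/-- The index of `Q` in `H` and in the relative centraliser are congruent modulo `p`. -/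
theorem relIndex_modEq : (Q.relIndex H : ℤ) ≡ (Q.relIndex E : ℤ) [ZMOD p] := by
  classical
  have hEH : E ≤ H := fun g hg => ((hE g).1 hg).1
  have hQE : Q ≤ E := le_relCentralizer hPQ hQH hE
  obtain ⟨a, b, ha, hb, hab⟩ := sum_cosets_modEq hP hPH hPQ hQH hHQ (fun _ => (1 : ℤ))
    (fun _ _ _ => rfl) (fun _ _ _ => rfl) (fun h : H => (h : Γ) ∈ E)
    (fun h => by rw [hE]; exact ⟨fun h1 => h1.2, fun h1 => ⟨h.2, h1⟩⟩)
  have hQ0 : (Nat.card Q : ℤ) ≠ 0 := by exact_mod_cast Nat.card_pos.ne'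
  have h1 : (a : ℤ) = Q.relIndex H := by
    rw [Finset.sum_const, Finset.card_univ, ← Nat.card_eq_fintype_card, nsmul_eq_mul, mul_one,
      card_eq_card_mul_relIndex hQH] at ha
    push_cast at ha
    exact (mul_left_cancel₀ hQ0 ha).symm
  have h2 : (b : ℤ) = Q.relIndex E := by
    have hcount : ∑ h : H, (if (h : Γ) ∈ E then (1 : ℤ) else 0) = Nat.card E := by
      rw [Finset.sum_boole]
      have h3 : (Finset.univ.filter (fun h : H => (h : Γ) ∈ E)).card
          = Nat.card (E.subgroupOf H) := by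
        rw [Nat.card_eq_fintype_card, Fintype.card_subtype]
        congr 1
      rw [h3, Nat.card_congr (eSub hEH).toEquiv]
    rw [hcount, card_eq_card_mul_relIndex hQE] at hb
    push_cast at hb
    exact (mul_left_cancel₀ hQ0 hb).symm
  rw [← h1, ← h2]
  exact hab

end

end Cfsg.Agent.Lib.Helper8.RV
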