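import Mathlib
import Cfsg.Prelude.Def_Characters
import Cfsg.Agent.Lib.Helper8.RV9
import Cfsg.Agent.Lib.Helper2.DegRatio

/-!
# Mackey's formula for a product decomposition, and the degree ratio in relative form
-/

set_option autoImplicit false
set_option linter.unusedSectionVars false

namespace Cfsg.Agent.Lib.Helper8.BQ

open Cfsg
open scoped ComplexConjugate
open Cfsg.Agent.Lib.Helper1 Cfsg.Agent.Lib.Helper4 Cfsg.Agent.Lib.Helper8
open Cfsg.Agent.Lib.Helper8.RV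

universe u

noncomputable local instance subFtBQ3 {G : Type u} [Group G] [Finite G] (H : Subgroup G) :
    Fintype H := Fintype.ofFinite H

variable {Γ : Type u} [Group Γ] [Fintype Γ]

/-- Counting the fibres of the multiplication map `A × H → Γ` when `Γ = A H`. -/
theorem sum_prod_eq (A H : Subgroup Γ) (hAH : ∀ g : Γ, ∃ a ∈ A, ∃ h ∈ H, g = a * h)
    (F : Γ → ℂ) :
    ∑ p : A × H, F ((p.1 : Γ) * (p.2 : Γ))
      = (Nat.card (A ⊓ H : Subgroup Γ) : ℂ) * ∑ x : Γ, F x := by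
  classical
  rw [← Finset.sum_fiberwise (s := Finset.univ) (g := fun p : A × H => (p.1 : Γ) * (p.2 : Γ))
    (f := fun p => F ((p.1 : Γ) * p.2)), Finset.mul_sum]
  refine Finset.sum_congr rfl fun x _ => ?_
  have h1 : ∀ p ∈ Finset.univ.filter (fun p : A × H => (p.1 : Γ) * (p.2 : Γ) = x),
      F ((p.1 : Γ) * p.2) = F x := by
    intro p hp
    rw [(Finset.mem_filter.1 hp).2]
  rw [Finset.sum_congr rfl h1, Finset.sum_const, nsmul_eq_mul]
  congr 1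
  obtain ⟨a₀, ha₀, h₀, hh₀, hx⟩ := hAH x
  rw [Nat.card_eq_fintype_card, ← Finset.card_univ]
  congr 1
  symm
  refine Finset.card_bij
    (fun (c : (A ⊓ H : Subgroup Γ)) _ =>
      ((⟨a₀ * c, A.mul_mem ha₀ c.2.1⟩ : A), (⟨(c : Γ)⁻¹ * h₀, H.mul_mem (H.inv_mem c.2.2) hh₀⟩ : H)))
    ?_ ?_ ?_
  · intro c _
    rw [Finset.mem_filter]
    refine ⟨Finset.mem_univ _, ?_⟩
    show a₀ * (c : Γ) * ((c : Γ)⁻¹ * h₀) = x
    rw [hx]; group
  · intro c _ c' _ h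
    have h2 := congrArg (fun p : A × H => ((p.1 : A) : Γ)) h
    have h3 : a₀ * (c : Γ) = a₀ * (c' : Γ) := h2
    exact Subtype.ext (mul_left_cancel h3)
  · intro p hp
    have hp' : (p.1 : Γ) * (p.2 : Γ) = x := (Finset.mem_filter.1 hp).2
    have hc1 : a₀⁻¹ * (p.1 : Γ) ∈ A := A.mul_mem (A.inv_mem ha₀) p.1.2
    have hc2 : a₀⁻¹ * (p.1 : Γ) ∈ H := by
      have : a₀⁻¹ * (p.1 : Γ) = h₀ * (p.2 : Γ)⁻¹ := by
        have e : (p.1 : Γ) = x * (p.2 : Γ)⁻¹ := by rw [← hp']; group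
        rw [e, hx]; group
      rw [this]
      exact H.mul_mem hh₀ (H.inv_mem p.2.2)
    refine ⟨⟨a₀⁻¹ * (p.1 : Γ), ⟨hc1, hc2⟩⟩, Finset.mem_univ _, ?_⟩
    apply Prod.ext
    · apply Subtype.ext
      show a₀ * (a₀⁻¹ * (p.1 : Γ)) = (p.1 : Γ)
      group
    · apply Subtype.ext
      show (a₀⁻¹ * (p.1 : Γ))⁻¹ * h₀ = (p.2 : Γ)
      have e : (p.2 : Γ) = (p.1 : Γ)⁻¹ * x := by rw [← hp']; group
      rw [e, hx]; group

/-- Mackey's formula when `Γ = A H`: restriction to `A` of a function induced from `H`. -/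
theorem mackey_prod (A H : Subgroup Γ) (hAH : ∀ g : Γ, ∃ a ∈ A, ∃ h ∈ H, g = a * h)
    (ϑ : H → ℂ) (hϑ : IsClassFunction H ϑ) :
    (fun a : A => indFun H ϑ (a : Γ))
      = rInd (A ⊓ H) A (res (inf_le_right : A ⊓ H ≤ H) ϑ) := by
  classical
  funext a
  rw [indFun_apply, rInd_apply]
  set F : Γ → ℂ := fun x => extendByZero H ϑ (x⁻¹ * (a : Γ) * x) with hF
  have h1 := sum_prod_eq A H hAH F
  have h2 : ∑ p : A × H, F ((p.1 : Γ) * (p.2 : Γ)) = (Nat.card H : ℂ) * ∑ y : A, F (y : Γ) := by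
    rw [Fintype.sum_prod_type, Finset.mul_sum]
    refine Finset.sum_congr rfl fun y _ => ?_
    have h3 : ∀ h : H, F ((y : Γ) * (h : Γ)) = F (y : Γ) := by
      intro h
      show extendByZero H ϑ (((y : Γ) * (h : Γ))⁻¹ * (a : Γ) * ((y : Γ) * (h : Γ))) = _
      have e : ((y : Γ) * (h : Γ))⁻¹ * (a : Γ) * ((y : Γ) * (h : Γ))
          = (h : Γ)⁻¹ * ((y : Γ)⁻¹ * (a : Γ) * (y : Γ)) * (h : Γ) := by group
      rw [e, extendByZero_conj_of_mem hϑ h.2]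
    rw [Finset.sum_congr rfl fun h _ => h3 h, Finset.sum_const, Finset.card_univ,
      ← Nat.card_eq_fintype_card, nsmul_eq_mul]
  have h4 : ∀ y : A, extendByZero (A ⊓ H) (res (inf_le_right : A ⊓ H ≤ H) ϑ)
      ((y : Γ)⁻¹ * (a : Γ) * (y : Γ)) = F (y : Γ) := by
    intro y
    have hA : (y : Γ)⁻¹ * (a : Γ) * (y : Γ) ∈ A := A.mul_mem (A.mul_mem (A.inv_mem y.2) a.2) y.2
    by_cases hH : (y : Γ)⁻¹ * (a : Γ) * (y : Γ) ∈ H
    · rw [extendByZero_of_mem _ _ (⟨hA, hH⟩ : _ ∈ A ⊓ H)]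
      show _ = extendByZero H ϑ _
      rw [extendByZero_of_mem _ _ hH]
    · rw [extendByZero_of_notMem _ _ (fun h : _ ∈ A ⊓ H => hH h.2)]
      show _ = extendByZero H ϑ _
      rw [extendByZero_of_notMem _ _ hH]
  rw [Finset.sum_congr rfl fun y _ => h4 y]
  have hH0 : (Nat.card H : ℂ) ≠ 0 := Nat.cast_ne_zero.2 Nat.card_pos.ne'
  have hI0 : (Nat.card (A ⊓ H : Subgroup Γ) : ℂ) ≠ 0 := Nat.cast_ne_zero.2 Nat.card_pos.ne'
  have h5 : (Nat.card (A ⊓ H : Subgroup Γ) : ℂ) * ∑ x : Γ, F x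
      = (Nat.card H : ℂ) * ∑ y : A, F (y : Γ) := by rw [← h1, h2]
  field_simp
  linear_combination h5

/-- Mackey's formula when `Γ = A H`, with the intersection given by a membership criterion. -/
theorem mackey_prod' (A H E : Subgroup Γ) (hE : ∀ g : Γ, g ∈ E ↔ g ∈ A ∧ g ∈ H) (hEH : E ≤ H)
    (hAH : ∀ g : Γ, ∃ a ∈ A, ∃ h ∈ H, g = a * h)
    (ϑ : H → ℂ) (hϑ : IsClassFunction H ϑ) :
    (fun a : A => indFun H ϑ (a : Γ)) = rInd E A (res hEH ϑ) := by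
  obtain rfl : E = A ⊓ H := by
    ext g
    rw [hE, Subgroup.mem_inf]
  exact mackey_prod A H hAH ϑ hϑ

/-- The degree ratio over an invariant irreducible character divides the index, relative form. -/
theorem ratio_dvd_rel {N T : Subgroup Γ} (hNT : N ≤ T) (hTN : ∀ t ∈ T, Normalizes t N)
    {χ : T → ℂ} (hχ : IsIrrCharacter T χ) {ϑ : N → ℂ} (hϑ : IsIrrCharacter N ϑ)
    (hinv : InvS T N ϑ) (hcon : classInner (res hNT χ) ϑ ≠ 0) :
    ∃ e : ℕ, χ 1 = (e : ℂ) * ϑ 1 ∧ e ∣ N.relIndex T := by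
  haveI hNn : (N.subgroupOf T).Normal := normal_subgroupOf_of_normalizes hTN
  have hϑ' : IsIrrCharacter (N.subgroupOf T) (fun x => ϑ (eSub hNT x)) :=
    isIrrCharacter_comp_mulEquiv hϑ (eSub hNT)
  have hinv' : ∀ (g : T) (n : N.subgroupOf T),
      (fun x : N.subgroupOf T => ϑ (eSub hNT x)) ⟨g * n * g⁻¹, hNn.conj_mem n n.2 g⟩
        = (fun x : N.subgroupOf T => ϑ (eSub hNT x)) n := by
    intro g n
    exact hinv g g.2 (eSub hNT n) (eSub hNT ⟨g * n * g⁻¹, hNn.conj_mem n n.2 g⟩) rfl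
  have hcon' : classInner (fun n : N.subgroupOf T => χ n) (fun x => ϑ (eSub hNT x)) ≠ 0 := by
    have h2 := classInner_mulEquiv (eSub hNT) (res hNT χ) ϑ
    have h3 : classInner (fun n : N.subgroupOf T => χ n) (fun x => ϑ (eSub hNT x))
        = classInner (res hNT χ) ϑ := h2
    rw [h3]
    exact hcon
  obtain ⟨e, he1, he2⟩ := Cfsg.Agent.Lib.Helper2.DegRatio.ratio_dvd_of_invariant (N.subgroupOf T) χ hχ
    (fun x => ϑ (eSub hNT x)) hϑ' hinv' hcon'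
  refine ⟨e, ?_, he2⟩
  rw [he1]
  congr 1

end Cfsg.Agent.Lib.Helper8.BQ
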