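import Mathlib
import Cfsg.Prelude.Def_Characters
import Cfsg.Agent.Lib.Helper8.BQ3

/-!
# Norm estimates for class functions
-/

set_option autoImplicit false
set_option linter.unusedSectionVars false

namespace Cfsg.Agent.Lib.Helper8.BQ

open Cfsg
open scoped ComplexConjugate
open Cfsg.Agent.Lib.Helper1 Cfsg.Agent.Lib.Helper4 Cfsg.Agent.Lib.Helper8
open Cfsg.Agent.Lib.Helper8.RV

universe u

noncomputable local instance subFtBQ4 {G : Type u} [Group G] [Finite G] (H : Subgroup G) :
    Fintype H := Fintype.ofFinite H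

variable {A : Type u} [Group A] [Fintype A]

/-- The norm of a function as a real sum. -/
theorem classInner_self (g : A → ℂ) :
    classInner g g = (((Nat.card A : ℝ)⁻¹ * ∑ a, Complex.normSq (g a) : ℝ) : ℂ) := by
  rw [classInner_def]
  push_cast
  congr 1
  refine Finset.sum_congr rfl fun a _ => ?_
  exact Complex.mul_conj (g a)

/-- A multiple of an irreducible character has the expected norm sum. -/
theorem normsum_smul {f ψ : A → ℂ} (hψ : IsIrrCharacter A ψ) (c : ℂ) (h : f = c • ψ) :
    ∑ a, Complex.normSq (f a) = Complex.normSq c * Nat.card A := by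
  have h1 : classInner f f = c * conj c := by
    rw [h, classInner_smul_left, classInner_smul_right, classInner_irr_self hψ]
    ring
  rw [classInner_self, Complex.mul_conj] at h1
  have h2 := Complex.ofReal_injective h1
  have h0 : (Nat.card A : ℝ) ≠ 0 := Nat.cast_ne_zero.2 Nat.card_pos.ne'
  field_simp at h2
  linarith

/-- A function containing an irreducible character with multiplicity `m` has norm sum at least
`|m|² |A|`. -/
theorem normsum_ge {f ϑ : A → ℂ} (hϑ : IsIrrCharacter A ϑ) (m : ℂ) (h : classInner f ϑ = m) :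
    Complex.normSq m * Nat.card A ≤ ∑ a, Complex.normSq (f a) := by
  have h1 : classInner (f - m • ϑ) (f - m • ϑ) = classInner f f - m * conj m := by
    rw [classInner_sub_left, classInner_sub_right, classInner_sub_right, classInner_smul_left,
      classInner_smul_left, classInner_smul_right, classInner_smul_right, classInner_irr_self hϑ,
      h, ← classInner_conj_symm f ϑ, h]
    ring
  rw [classInner_self, classInner_self, Complex.mul_conj] at h1
  have h2 : (Nat.card A : ℝ)⁻¹ * ∑ a, Complex.normSq ((f - m • ϑ) a)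
      = (Nat.card A : ℝ)⁻¹ * ∑ a, Complex.normSq (f a) - Complex.normSq m := by
    apply Complex.ofReal_injective
    rw [h1]
    push_cast
    ring
  have h0 : (0 : ℝ) < Nat.card A := Nat.cast_pos.2 Nat.card_pos
  have h3 : 0 ≤ ∑ a, Complex.normSq ((f - m • ϑ) a) :=
    Finset.sum_nonneg fun a _ => Complex.normSq_nonneg _
  have h4 : 0 ≤ (Nat.card A : ℝ)⁻¹ * ∑ a, Complex.normSq ((f - m • ϑ) a) :=
    mul_nonneg (inv_nonneg.2 h0.le) h3
  rw [h2] at h4
  have h5 : Complex.normSq m ≤ (Nat.card A : ℝ)⁻¹ * ∑ a, Complex.normSq (f a) := by linarith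
  have h6 := mul_le_mul_of_nonneg_right h5 h0.le
  rw [mul_comm (Nat.card A : ℝ)⁻¹, mul_assoc, inv_mul_cancel₀ h0.ne', mul_one] at h6
  exact h6

end Cfsg.Agent.Lib.Helper8.BQ
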