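import Mathlib
import Cfsg.Prelude.Def_Characters
import Cfsg.Agent.Lib.Helper8.BQ2
import Cfsg.Agent.Lib.Helper8.BQ4
import Cfsg.Agent.Lib.Helper8.RV5
import Cfsg.Agent.S0170

/-!
# A character induced from a maximal subgroup with irreducible core restriction is not
quasi-primitive (Isaacs, Theorem 11.32)
-/

set_option autoImplicit false
set_option linter.unusedSectionVars false
set_option maxHeartbeats 1000000

namespace Cfsg.Agent.Lib.Helper8.BQ

open Cfsg
open scoped ComplexConjugate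
open Cfsg.Agent.Lib.Helper1 Cfsg.Agent.Lib.Helper4 Cfsg.Agent.Lib.Helper8
open Cfsg.Agent.Lib.Helper8.RV

universe u

noncomputable local instance subFtBQ5 {G : Type u} [Group G] [Finite G] (H : Subgroup G) :
    Fintype H := Fintype.ofFinite H

variable {G : Type u} [Group G] [Fintype G]

open scoped Classical in
/-- A sum over a subgroup as a filtered sum over the ambient group. -/
theorem sum_subgroup (A : Subgroup G) (F : G → ℝ) :
    ∑ a : A, F (a : G) = ∑ g ∈ Finset.univ.filter (fun g : G => g ∈ A), F g := by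
  rw [Finset.sum_subtype (Finset.univ.filter (fun g : G => g ∈ A)) (p := fun g => g ∈ A)
    (by intro x; simp)]

theorem normalizes_of_normal (M : Subgroup G) [hM : M.Normal] (t : G) : Normalizes t M := by
  intro g
  constructor
  · intro hg
    exact hM.conj_mem g hg t
  · intro hg
    have := hM.conj_mem _ hg t⁻¹
    have e : t⁻¹ * (t * g * t⁻¹) * t⁻¹⁻¹ = g := by group
    rwa [e] at this

/-- The degree of the induced function. -/
theorem indFun_one' (H : Subgroup G) (θ : H → ℂ) : indFun H θ 1 = (H.index : ℂ) * θ 1 := by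
  rw [Cfsg.Agent.S0170.indFun_one]
  have h1 := Subgroup.card_mul_index H
  have hH0 : (Nat.card H : ℂ) ≠ 0 := Nat.cast_ne_zero.2 Nat.card_pos.ne'
  rw [← h1]
  push_cast
  field_simp

/-- The core contradiction: with the chief factors `K < M < R` of coprime orders above the core
`K` of `H`, a quasi-primitive character cannot be induced from `H` with irreducible
restriction to `L`. -/
theorem core (L H M R K : Subgroup G) (hLK : L ≤ K) (hKH : K ≤ H) (hKM : K ≤ M) (hMR : M ≤ R)
    (hMn : M.Normal) (hRn : R.Normal) (hKn : K.Normal)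
    (hK : ∀ g : G, g ∈ K ↔ g ∈ M ∧ g ∈ H)
    (hcore : ∀ a : G, a ∈ K ↔ ∀ b : G, b * a * b⁻¹ ∈ H)
    (hprod : ∀ g : G, ∃ a ∈ M, ∃ h ∈ H, g = a * h)
    (hne : M ≠ R) (hcop : (K.relIndex M).Coprime (M.relIndex R))
    (ϑ : H → ℂ) (hϑ : IsIrrCharacter H ϑ)
    (hϑL : IsIrrCharacter L (res (hLK.trans hKH) ϑ))
    (hind : IsIrrCharacter G (indFun H ϑ))
    (hQ : ∀ A : Subgroup G, A.Normal → L ≤ A → ∃ (φ : A → ℂ) (e : ℕ), IsIrrCharacter A φ ∧
      (fun a : A => indFun H ϑ (a : G)) = (e : ℂ) • φ) : False := by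
  classical
  haveI := hMn
  haveI := hRn
  haveI := hKn
  set χ : G → ℂ := indFun H ϑ with hχdef
  have hχcf : IsClassFunction G χ := indFun_isClassFunction H ϑ
  have hχ1 : χ 1 ≠ 0 := irr_apply_one_ne_zero hind
  have hϑcf : IsClassFunction H ϑ := isClassFunction_irr hϑ
  have hϑ1 : ϑ 1 ≠ 0 := irr_apply_one_ne_zero hϑ
  have hχdeg : χ 1 = (H.index : ℂ) * ϑ 1 := indFun_one' H ϑ
  -- the character `φ` of `K`
  set φ : K → ℂ := res hKH ϑ with hφdef
  have hφ : IsIrrCharacter K φ :=
    isIrrCharacter_of_res_irr hLK (isCharacter_res hKH (isCharacter_of_irr hϑ)) hϑL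
  have hφ1 : φ 1 = ϑ 1 := rfl
  -- Mackey at `M`
  have hmM : (fun a : M => χ (a : G)) = rInd K M φ :=
    mackey_prod' M H K hK hKH hprod ϑ hϑcf
  obtain ⟨ψK, eK, hψK, heK⟩ := hQ K hKn hLK
  obtain ⟨ψ, e, hψ, he⟩ := hQ M hMn (hLK.trans hKM)
  obtain ⟨ψR, eR, hψR, heR⟩ := hQ R hRn (hLK.trans (hKM.trans hMR))
  have hψ1 : ψ 1 ≠ 0 := irr_apply_one_ne_zero hψ
  have he1 : χ 1 = (e : ℂ) * ψ 1 := congrFun he 1
  have heK1 : χ 1 = (eK : ℂ) * ψK 1 := congrFun heK 1
  have heR1 : χ 1 = (eR : ℂ) * ψR 1 := congrFun heR 1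
  have he0 : (e : ℂ) ≠ 0 := by
    intro h
    rw [h, zero_mul] at he1
    exact hχ1 he1
  have heR0 : (eR : ℂ) ≠ 0 := by
    intro h
    rw [h, zero_mul] at heR1
    exact hχ1 heR1
  -- `ψK = φ` and `eK = e²`
  have hfr := frobenius' hKM φ (rInd K M φ) (isClassFunction_rInd hKM φ)
  have hnorm : classInner (rInd K M φ) (rInd K M φ) = (e : ℂ) * e := by
    rw [← hmM, he, classInner_smul_left, classInner_smul_right, classInner_irr_self hψ]
    simp
  have hresK : res hKM (rInd K M φ) = (eK : ℂ) • ψK := by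
    rw [← hmM]
    exact heK
  rw [hnorm, hresK, classInner_smul_left] at hfr
  have hψKφ : ψK = φ := by
    by_contra hne'
    rw [classInner_irr_ne hψK hφ hne', mul_zero] at hfr
    exact mul_ne_zero he0 he0 hfr
  rw [hψKφ, classInner_irr_self hφ, mul_one] at hfr
  have heKe : eK = e * e := by exact_mod_cast hfr.symm
  rw [hψKφ] at heK heK1
  -- the index
  have hidx : K.relIndex M = e * e := by
    have h1 : (rInd K M φ) 1 = (K.relIndex M : ℂ) * φ 1 := rInd_one hKM φ
    have h2 : (rInd K M φ) 1 = χ 1 := by rw [← hmM]; rfl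
    rw [h2, heK1, hφ1] at h1
    have h3 : ((eK : ℂ)) = (K.relIndex M : ℂ) := mul_right_cancel₀ hϑ1 h1
    have h4 : eK = K.relIndex M := by exact_mod_cast h3
    rw [← h4, heKe]
  have hHidx : H.index = e * e := by
    have h1 : (H.index : ℂ) * ϑ 1 = (eK : ℂ) * ϑ 1 := by rw [← hχdeg, heK1, hφ1]
    have h3 : (H.index : ℂ) = (eK : ℂ) := mul_right_cancel₀ hϑ1 h1
    have h4 : H.index = eK := by exact_mod_cast h3
    rw [h4, heKe]
  -- `ψR` lies over `ψ`
  have hrel : ∀ m : M, (eR : ℂ) * ψR ⟨m, hMR m.2⟩ = (e : ℂ) * ψ m := by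
    intro m
    have h1 := congrFun heR ⟨m, hMR m.2⟩
    have h2 := congrFun he m
    simp only [Pi.smul_apply, smul_eq_mul] at h1 h2
    rw [← h1, ← h2]
  have hres : res hMR ψR = ((e : ℂ) / eR) • ψ := by
    funext m
    have := hrel m
    simp only [Pi.smul_apply, smul_eq_mul]
    field_simp
    linear_combination this
  have hcon : classInner (res hMR ψR) ψ ≠ 0 := by
    rw [hres, classInner_smul_left, classInner_irr_self hψ, mul_one]
    exact div_ne_zero he0 heR0
  have hinv : InvS R M ψ := by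
    intro s _ g g' hg
    have h1 := congrFun he g
    have h2 := congrFun he g'
    simp only [Pi.smul_apply, smul_eq_mul] at h1 h2
    have h3 : χ (g' : G) = χ (g : G) := by rw [hg]; exact hχcf g s
    rw [h1, h2] at h3
    exact mul_left_cancel₀ he0 h3
  obtain ⟨f, hf1, hf2⟩ := ratio_dvd_rel hMR (fun t _ => normalizes_of_normal M t) hψR hψ hinv hcon
  have hef : eR * f = e := by
    have h1 : ((eR : ℂ) * f) * ψ 1 = (e : ℂ) * ψ 1 := by
      rw [← he1, heR1, hf1]; ring
    have h2 := mul_right_cancel₀ hψ1 h1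
    exact_mod_cast h2
  have hf : f = 1 := by
    have h1 : f ∣ K.relIndex M := by
      rw [hidx, ← hef]
      exact Dvd.dvd.mul_right (Dvd.intro_left _ rfl) _
    have h2 := Nat.dvd_gcd h1 hf2
    rw [hcop] at h2
    exact Nat.dvd_one.1 h2
  rw [hf, mul_one] at hef
  subst hef
  -- Mackey at `R`
  have hprodR : ∀ g : G, ∃ a ∈ R, ∃ h ∈ H, g = a * h := by
    intro g
    obtain ⟨a, ha, h, hh, rfl⟩ := hprod g
    exact ⟨a, hMR ha, h, hh, rfl⟩
  set S : Subgroup G := R ⊓ H with hS
  have hLS : L ≤ S := le_inf (hLK.trans (hKM.trans hMR)) (hLK.trans hKH)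
  set ϑS : S → ℂ := res (inf_le_right : R ⊓ H ≤ H) ϑ with hϑSdef
  have hϑS : IsIrrCharacter S ϑS :=
    isIrrCharacter_of_res_irr hLS (isCharacter_res _ (isCharacter_of_irr hϑ)) hϑL
  have hmR : (fun a : R => χ (a : G)) = rInd S R ϑS := mackey_prod R H hprodR ϑ hϑcf
  -- the index of `S` in `R`
  have hSidx : S.relIndex R = eR * eR := by
    have h1 : (rInd S R ϑS) 1 = (S.relIndex R : ℂ) * ϑS 1 := rInd_one inf_le_left ϑS
    have h2 : (rInd S R ϑS) 1 = χ 1 := by rw [← hmR]; rfl
    have h3 : ϑS 1 = ϑ 1 := rfl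
    rw [h2, hχdeg, h3, hHidx] at h1
    have h4 := mul_right_cancel₀ hϑ1 h1
    exact_mod_cast h4.symm
  have hRcard : Nat.card R = Nat.card S * (eR * eR) := by
    rw [← hSidx]
    exact card_eq_card_mul_relIndex inf_le_left
  -- the norm sums
  have hNR : ∑ a : R, Complex.normSq (χ (a : G)) = ((eR : ℝ) * eR) * Nat.card R := by
    have := normsum_smul hψR (eR : ℂ) heR
    rw [this]
    simp [Complex.normSq_natCast]
  have hmult : classInner (fun s : S => χ (s : G)) ϑS = ((eR : ℂ) * eR) := by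
    have h1 := frobenius' (inf_le_left : S ≤ R) ϑS (rInd S R ϑS) (isClassFunction_rInd inf_le_left ϑS)
    have h2 : res (inf_le_left : S ≤ R) (rInd S R ϑS) = fun s : S => χ (s : G) := by
      rw [← hmR]
    rw [h2] at h1
    rw [← h1, ← hmR, heR, classInner_smul_left, classInner_smul_right, classInner_irr_self hψR]
    simp
  have hNS : (((eR : ℝ) * eR) * ((eR : ℝ) * eR)) * Nat.card S
      ≤ ∑ s : S, Complex.normSq (χ (s : G)) := by
    have := normsum_ge hϑS _ hmult
    have h2 : Complex.normSq ((eR : ℂ) * eR) = ((eR : ℝ) * eR) * ((eR : ℝ) * eR) := by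
      rw [Complex.normSq_mul, Complex.normSq_natCast]
    rw [h2] at this
    exact this
  rw [sum_subgroup R (fun g => Complex.normSq (χ g))] at hNR
  rw [sum_subgroup S (fun g => Complex.normSq (χ g))] at hNS
  have hNRS : ∑ g ∈ Finset.univ.filter (fun g : G => g ∈ R), Complex.normSq (χ g)
      ≤ ∑ g ∈ Finset.univ.filter (fun g : G => g ∈ S), Complex.normSq (χ g) := by
    rw [hNR]
    refine le_trans (le_of_eq ?_) hNS
    rw [hRcard]
    push_cast
    ring
  -- vanishing outside `S`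
  have hvanS : ∀ g : G, g ∈ R → g ∉ S → χ g = 0 := by
    intro g hgR hgS
    have hsub : insert g (Finset.univ.filter (fun g : G => g ∈ S))
        ⊆ Finset.univ.filter (fun g : G => g ∈ R) := by
      intro x hx
      rw [Finset.mem_insert] at hx
      rcases hx with rfl | hx
      · exact Finset.mem_filter.2 ⟨Finset.mem_univ _, hgR⟩
      · exact Finset.mem_filter.2 ⟨Finset.mem_univ _, ((Finset.mem_filter.1 hx).2 : x ∈ R ⊓ H).1⟩
    have h1 := Finset.sum_le_sum_of_subset_of_nonneg (f := fun g => Complex.normSq (χ g)) hsub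
      (fun x _ _ => Complex.normSq_nonneg _)
    have hnot : g ∉ Finset.univ.filter (fun g : G => g ∈ S) := fun h => hgS (Finset.mem_filter.1 h).2
    rw [Finset.sum_insert hnot] at h1
    have h2 : Complex.normSq (χ g) ≤ 0 := by linarith
    have h3 : Complex.normSq (χ g) = 0 := le_antisymm h2 (Complex.normSq_nonneg _)
    exact Complex.normSq_eq_zero.1 h3
  -- vanishing outside `K`
  have hvanK : ∀ g : G, g ∈ R → g ∉ K → χ g = 0 := by
    intro g hgR hgK
    rw [hcore] at hgK
    push Not at hgK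
    obtain ⟨b, hb⟩ := hgK
    have h1 : b * g * b⁻¹ ∈ R := hRn.conj_mem g hgR b
    have h2 : b * g * b⁻¹ ∉ S := fun h => hb h.2
    have h3 := hvanS _ h1 h2
    rw [hχcf g b] at h3
    exact h3
  -- the norm sum over `K`
  have hNK : ∑ a : K, Complex.normSq (χ (a : G)) = (((eR : ℝ) * eR) * ((eR : ℝ) * eR)) * Nat.card K := by
    have := normsum_smul hφ (eK : ℂ) heK
    rw [this, heKe]
    simp [Complex.normSq_natCast]
  rw [sum_subgroup K (fun g => Complex.normSq (χ g))] at hNK
  have hKR : K ≤ R := hKM.trans hMR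
  have hsubKR : Finset.univ.filter (fun g : G => g ∈ K) ⊆ Finset.univ.filter (fun g : G => g ∈ R) := by
    intro x hx
    exact Finset.mem_filter.2 ⟨Finset.mem_univ _, hKR (Finset.mem_filter.1 hx).2⟩
  have hNKR : ∑ g ∈ Finset.univ.filter (fun g : G => g ∈ K), Complex.normSq (χ g)
      = ∑ g ∈ Finset.univ.filter (fun g : G => g ∈ R), Complex.normSq (χ g) := by
    refine Finset.sum_subset hsubKR ?_
    intro x hxR hxK
    have h1 : x ∈ R := (Finset.mem_filter.1 hxR).2
    have h2 : x ∉ K := fun h => hxK (Finset.mem_filter.2 ⟨Finset.mem_univ _, h⟩)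
    rw [hvanK x h1 h2, map_zero]
  rw [hNK, hNR] at hNKR
  -- compare cardinalities
  have heRpos : (0 : ℝ) < (eR : ℝ) * eR := by
    have : (eR : ℝ) ≠ 0 := by
      intro h
      apply heR0
      exact_mod_cast h
    positivity
  have hcard : ((eR : ℝ) * eR) * Nat.card K = Nat.card R := by
    have h1 : ((eR : ℝ) * eR) * (((eR : ℝ) * eR) * Nat.card K) = ((eR : ℝ) * eR) * Nat.card R := by
      rw [← hNKR]; ring
    exact mul_left_cancel₀ heRpos.ne' h1
  have hMcard : Nat.card M = Nat.card K * (eR * eR) := by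
    rw [← hidx]
    exact card_eq_card_mul_relIndex hKM
  have hMR' : Nat.card R = Nat.card M := by
    have : (Nat.card R : ℝ) = (Nat.card M : ℝ) := by
      rw [← hcard, hMcard]
      push_cast
      ring
    exact_mod_cast this
  exact hne (Subgroup.eq_of_le_of_card_ge hMR hMR'.le)

/-- Isaacs, Theorem 11.32. -/
theorem main (L H : Subgroup G) [hL : L.Normal] (hLH : L ≤ H) (hmax : IsCoatom H)
    (hsolv : Group.IsSolvable (G ⧸ L)) (ϑ : H → ℂ) (hϑ : IsIrrCharacter H ϑ)
    (hϑL : IsIrrCharacter L (fun x : L => ϑ ⟨(x : G), hLH x.2⟩))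
    (hind : IsIrrCharacter G (indFun H ϑ)) :
    ∃ M : Subgroup G, M.Normal ∧ L ≤ M ∧ ¬ ∃ (φ : M → ℂ) (e : ℕ), IsIrrCharacter M φ ∧
      (fun m : M => indFun H ϑ m) = (e : ℂ) • φ := by
  classical
  by_contra hcon
  push Not at hcon
  have hQ : ∀ A : Subgroup G, A.Normal → L ≤ A → ∃ (φ : A → ℂ) (e : ℕ), IsIrrCharacter A φ ∧
      (fun a : A => indFun H ϑ (a : G)) = (e : ℂ) • φ := hcon
  have hχcf : IsClassFunction G (indFun H ϑ) := indFun_isClassFunction H ϑ
  have hϑ1 : ϑ 1 ≠ 0 := irr_apply_one_ne_zero hϑ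
  by_cases hHn : H.Normal
  · obtain ⟨ψ, e, hψ, he⟩ := hQ H hHn hLH
    have h1 := Cfsg.Agent.S0146.result H ϑ (indFun H ϑ) hχcf
    rw [classInner_irr_self hind, he, classInner_smul_right] at h1
    have h2 : ϑ = ψ := by
      by_contra hne
      rw [classInner_irr_ne hϑ hψ hne, mul_zero] at h1
      exact one_ne_zero h1
    rw [← h2, classInner_irr_self hϑ, mul_one] at h1
    have h3 : (e : ℂ) = 1 := by
      have := congrArg conj h1
      simpa using this.symm
    have h4 : indFun H ϑ 1 = ϑ 1 := by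
      have := congrFun he 1
      rw [← h2, h3, one_smul] at this
      exact this
    rw [indFun_one' H ϑ] at h4
    have h5 : (H.index : ℂ) = 1 := by
      have : (H.index : ℂ) * ϑ 1 = 1 * ϑ 1 := by rw [h4, one_mul]
      exact mul_right_cancel₀ hϑ1 this
    have h6 : H.index = 1 := by exact_mod_cast h5
    exact hmax.1 (Subgroup.index_eq_one.1 h6)
  · obtain ⟨M, R, hMn, hRn, hKM, hMH, hsup, hlt, hcop⟩ := gt_main L H hLH hmax hsolv hHn
    have hLK : L ≤ M ⊓ H := le_inf ((Subgroup.normal_le_normalCore.2 hLH).trans hKM) hLH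
    have hKn : (M ⊓ H).Normal := by
      rw [hMH]
      exact Subgroup.normalCore_normal H
    have hcore : ∀ a : G, a ∈ M ⊓ H ↔ ∀ b : G, b * a * b⁻¹ ∈ H := by
      intro a
      rw [hMH]
      exact Iff.rfl
    have hprod : ∀ g : G, ∃ a ∈ M, ∃ h ∈ H, g = a * h := by
      intro g
      have h1 : g ∈ ((M ⊔ H : Subgroup G) : Set G) := by
        rw [hsup]
        exact Set.mem_univ _
      haveI := hMn
      rw [Subgroup.normal_mul] at h1
      obtain ⟨a, ha, h, hh, hah⟩ := h1
      exact ⟨a, ha, h, hh, hah.symm⟩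
    have hcop' : ((M ⊓ H).relIndex M).Coprime (M.relIndex R) := by
      rw [hMH]
      exact hcop
    exact core L H M R (M ⊓ H) hLK inf_le_right inf_le_left hlt.le hMn hRn hKn
      (fun g => Subgroup.mem_inf) hcore hprod hlt.ne hcop' ϑ hϑ hϑL hind hQ

end Cfsg.Agent.Lib.Helper8.BQ
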