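import Mathlib
import Cfsg.Prelude.Def_Blocks
import Cfsg.Agent.Lib.Helper8.BlockLocal
import Cfsg.Agent.Lib.Helper8.BlockExactIdem
import Cfsg.Agent.Lib.Helper8.BlockDefect
import Cfsg.Agent.Lib.Helper8.BlockFirstMain3
import Cfsg.Agent.Lib.Lead.BrandtDefs

/-! S4607 swarm, package B4 (helper8): the block idempotent in `OG`, its residue, and
`dim Z(kG)ε ≤ 2` when `|B| = 2`. -/

set_option autoImplicit false
set_option linter.unusedSectionVars false

open Cfsg Cfsg.Agent.Lib.Helper8
open scoped ComplexConjugate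

namespace Cfsg.Agent.Lib.Lead.Brandt

section Gen

variable {R : Type*} [Semiring R] {G : Type*} [Group G] [Fintype G]

/-- element of the group algebra with prescribed coefficient function -/
noncomputable def b4OfFun (f : G → R) : MonoidAlgebra R G :=
  MonoidAlgebra.ofCoeff (Finsupp.equivFunOnFinite.symm f)

theorem b4_coeff_ofFun (f : G → R) (g : G) : (b4OfFun f).coeff g = f g := by
  simp [b4OfFun]

theorem b4_ext {x y : MonoidAlgebra R G} (h : ∀ g, x.coeff g = y.coeff g) : x = y := by
  have : x.coeff = y.coeff := Finsupp.ext h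
  calc x = MonoidAlgebra.ofCoeff x.coeff := rfl
    _ = MonoidAlgebra.ofCoeff y.coeff := by rw [this]
    _ = y := rfl

theorem b4_coeff_mul (x y : MonoidAlgebra R G) (w : G) :
    (x * y).coeff w = ∑ u, x.coeff u * y.coeff (u⁻¹ * w) := by
  rw [MonoidAlgebra.coeff_mul_apply_left, Finsupp.sum_fintype]
  intro i
  simp

theorem b4_coeff_conj_of_central {z : MonoidAlgebra R G}
    (hz : ∀ x, z * x = x * z) (g h : G) : z.coeff (h * g * h⁻¹) = z.coeff g := by
  classical
  have h0 := congrArg (fun y => y.coeff (h * g)) (hz (MonoidAlgebra.single h 1))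
  simp only [b4_coeff_mul, MonoidAlgebra.coeff_single, Finsupp.single_apply] at h0
  rw [Finset.sum_eq_single (h * g * h⁻¹), Finset.sum_eq_single h] at h0
  · have e1 : (h * g * h⁻¹)⁻¹ * (h * g) = h := by group
    have e2 : h⁻¹ * (h * g) = g := by group
    rw [e1, e2] at h0
    simpa using h0
  · intro b _ hb
    rw [if_neg (Ne.symm hb), zero_mul]
  · intro hh
    exact absurd (Finset.mem_univ _) hh
  · intro b _ hb
    rw [if_neg, mul_zero]
    intro h1
    apply hb
    have : b = h * g * h⁻¹ := by
      have h2 : b⁻¹ * (h * g) = h := h1.symm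
      calc b = (h * g) * (b⁻¹ * (h * g))⁻¹ := by group
        _ = h * g * h⁻¹ := by rw [h2]
    exact this
  · intro hh
    exact absurd (Finset.mem_univ _) hh

end Gen

section Comm

variable {R : Type*} [CommSemiring R] {G : Type*} [Group G] [Fintype G]

theorem b4_central_of_coeff_conj {z : MonoidAlgebra R G}
    (hz : ∀ g h : G, z.coeff (h * g * h⁻¹) = z.coeff g) (x : MonoidAlgebra R G) :
    z * x = x * z := by
  apply b4_ext
  intro w
  rw [b4_coeff_mul, b4_coeff_mul]
  rw [← Equiv.sum_comp ((Equiv.inv G).trans (Equiv.mulLeft w))]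
  refine Finset.sum_congr rfl fun v _ => ?_
  simp only [Equiv.trans_apply, Equiv.inv_apply, Equiv.coe_mulLeft]
  have h1 : (w * v⁻¹)⁻¹ * w = v := by group
  have h2 : z.coeff (w * v⁻¹) = z.coeff (v⁻¹ * w) := by
    have := hz (w * v⁻¹) v⁻¹
    rw [← this]
    congr 1
    group
  rw [h1, h2, mul_comm]

end Comm

section Block

variable {M : Ideal AlgInt} {G : Type*} [Group G] [Fintype G]

/-- coefficient function of an element of `OG`, as a complex function -/
noncomputable def b4Fun (hMp : M.IsPrime) (x : MonoidAlgebra ↥(localRing M hMp) G) : G → ℂ :=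
  fun g => ((x.coeff g : ↥(localRing M hMp)) : ℂ)

theorem b4Fun_mul (hMp : M.IsPrime) (x y : MonoidAlgebra ↥(localRing M hMp) G) :
    b4Fun hMp (x * y) = conv (b4Fun hMp x) (b4Fun hMp y) := by
  funext w
  simp only [b4Fun, conv_apply, b4_coeff_mul]
  push_cast
  rfl

/-- an element of `OG` with the coefficients of the block idempotent is idempotent -/
theorem b4_idem_of_coeff (hMp : M.IsPrime) {B : Set (IrrCharacter G)}
    (eB : MonoidAlgebra ↥(localRing M hMp) G)
    (heB : ∀ g, ((eB.coeff g : ↥(localRing M hMp)) : ℂ) = blockCoeff B g) :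
    IsIdempotentElem eB := by
  have hfun : b4Fun hMp eB = blockCoeff B := funext heB
  apply b4_ext
  intro w
  apply Subtype.ext
  have h1 := congrFun (b4Fun_mul hMp eB eB) w
  rw [hfun, conv_blockCoeff_blockCoeff, Set.inter_self] at h1
  rw [heB]
  exact h1

/-- B4: the block idempotent lives in `OG` -/
theorem exists_blockIdem {p : ℕ} (hM : IsPModular p M) {B : Set (IrrCharacter G)}
    (hB : IsPBlock M B) :
    ∃ eB : MonoidAlgebra ↥(localRing M (isPModular_isPrime hM)) G,
      (∀ g, ((eB.coeff g : ↥(localRing M (isPModular_isPrime hM))) : ℂ) = blockCoeff B g) ∧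
      IsIdempotentElem eB ∧ (∀ x, eB * x = x * eB) ∧ eB ≠ 0 := by
  classical
  have hMp := isPModular_isPrime hM
  let eB : MonoidAlgebra ↥(localRing M (isPModular_isPrime hM)) G :=
    b4OfFun (fun g => ⟨blockCoeff B g,
      (mem_localRing_iff (isPModular_isPrime hM) _).2 (blockCoeff_memLocalRing hMp hB g)⟩)
  have hco : ∀ g, ((eB.coeff g : ↥(localRing M (isPModular_isPrime hM))) : ℂ) = blockCoeff B g :=
    fun g => by simp [eB, b4_coeff_ofFun]
  refine ⟨eB, hco, b4_idem_of_coeff (isPModular_isPrime hM) eB hco, ?_, ?_⟩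
  · apply b4_central_of_coeff_conj
    intro g h
    apply Subtype.ext
    rw [hco, hco]
    exact isClassFunction_blockCoeff B g h
  · intro h0
    have h1 := hco 1
    rw [h0] at h1
    simp at h1
    exact blockCoeff_one_ne_zero (isPBlock_nonempty hMp hB) h1.symm

/-- B4: the residue of the block idempotent is not zero -/
theorem res_blockIdem_ne_zero {p : ℕ} (hM : IsPModular p M) {k : Type*} [Field k]
    (res : ↥(localRing M (isPModular_isPrime hM)) →+* k)
    (hker : ∀ z, res z = 0 ↔ MemLocalIdeal M (z : ℂ))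
    {B : Set (IrrCharacter G)} (hB : IsPBlock M B)
    (eB : MonoidAlgebra ↥(localRing M (isPModular_isPrime hM)) G)
    (heB : ∀ g, ((eB.coeff g : ↥(localRing M (isPModular_isPrime hM))) : ℂ) = blockCoeff B g) :
    MonoidAlgebra.mapRingHom G res eB ≠ 0 := by
  obtain ⟨g, hg⟩ := exists_isDefectClass (isPModular_isPrime hM) hB
  intro h0
  have h1 : (MonoidAlgebra.mapRingHom G res eB).coeff g = 0 := by
    rw [h0]
    simp
  rw [MonoidAlgebra.coeff_mapRingHom, hker, heB] at h1
  exact hg.2.1 h1

/-- coefficient function as a linear map -/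
noncomputable def b4CoeffL (k G : Type*) [Field k] [Group G] : MonoidAlgebra k G →ₗ[k] (G → k) where
  toFun x := fun g => x.coeff g
  map_add' x y := by funext g; simp
  map_smul' c x := by funext g; simp

theorem b4CoeffL_injective (k : Type*) [Field k] : Function.Injective (b4CoeffL k G) :=
  fun _ _ h => b4_ext (fun g => congrFun h g)

/-- a class function fixed by the block idempotent lies in the span of the `e_χ`, `χ ∈ B` -/
theorem b4_mem_span [Fintype (IrrCharacter G)] (B : Set (IrrCharacter G)) {F : G → ℂ}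
    (hF : IsClassFunction G F) (hFB : conv F (blockCoeff B) = F) :
    F ∈ Submodule.span ℂ (Set.range (fun ψ : B => (fun g : G =>
      (Nat.card G : ℂ)⁻¹ * (((ψ : IrrCharacter G) : G → ℂ) 1 * conj (((ψ : IrrCharacter G) : G → ℂ) g))))) := by
  classical
  have hω : ∀ ψ : IrrCharacter G, ψ ∉ B → omega (ψ : G → ℂ) F = 0 := by
    intro ψ hψ
    have h1 : omega (ψ : G → ℂ) F = omega (ψ : G → ℂ) F * omega (ψ : G → ℂ) (blockCoeff B) := by
      conv_lhs => rw [← hFB]
      rw [omega_conv ψ.2 (isClassFunction_blockCoeff B)]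
    rw [omega_blockCoeff, if_neg hψ, mul_zero] at h1
    exact h1
  have hEq : F = ∑ ψ : B, omega ((ψ : IrrCharacter G) : G → ℂ) F • (fun g : G =>
      (Nat.card G : ℂ)⁻¹ * (((ψ : IrrCharacter G) : G → ℂ) 1 * conj (((ψ : IrrCharacter G) : G → ℂ) g))) := by
    funext g
    rw [classFunction_eq_sum_omega hF g, Finset.sum_apply, Finset.mul_sum]
    rw [← Finset.sum_subtype (Finset.univ.filter (fun ψ : IrrCharacter G => ψ ∈ B))
      (fun ψ => by simp) (fun ψ : IrrCharacter G => (omega (ψ : G → ℂ) F • (fun g : G =>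
      (Nat.card G : ℂ)⁻¹ * ((ψ : G → ℂ) 1 * conj ((ψ : G → ℂ) g)))) g)]
    rw [Finset.sum_filter]
    refine Finset.sum_congr rfl fun ψ _ => ?_
    by_cases hψ : ψ ∈ B
    · rw [if_pos hψ]
      simp only [Pi.smul_apply, smul_eq_mul]
      ring
    · rw [if_neg hψ, hω ψ hψ]
      ring
  rw [hEq]
  exact Submodule.sum_mem _ fun ψ _ => Submodule.smul_mem _ _ (Submodule.subset_span ⟨ψ, rfl⟩)

/-- B4 (with the lemma RI of package B2 as a hypothesis) -/
theorem no_three_indep_aux {p : ℕ} (hM : IsPModular p M) {k : Type*} [Field k]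
    (res : ↥(localRing M (isPModular_isPrime hM)) →+* k)
    (hres : Function.Surjective res)
    (RI : ∀ v : Fin 3 → G → ↥(localRing M (isPModular_isPrime hM)),
      LinearIndependent k (fun i => (fun s => res (v i s))) →
      LinearIndependent ℂ
        (fun i => (fun s => ((v i s : ↥(localRing M (isPModular_isPrime hM))) : ℂ))))
    {B : Set (IrrCharacter G)} (hcard : Nat.card B = 2)
    (eB : MonoidAlgebra ↥(localRing M (isPModular_isPrime hM)) G)
    (heB : ∀ g, ((eB.coeff g : ↥(localRing M (isPModular_isPrime hM))) : ℂ) = blockCoeff B g)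
    (z : Fin 3 → MonoidAlgebra k G) (hz : ∀ i x, z i * x = x * z i)
    (hzε : ∀ i, z i * MonoidAlgebra.mapRingHom G res eB = z i) :
    ¬ LinearIndependent k z := by
  classical
  have : Fintype (IrrCharacter G) := Fintype.ofFinite _
  have heBid : IsIdempotentElem eB := b4_idem_of_coeff (isPModular_isPrime hM) eB heB
  intro hli
  let s : k → ↥(localRing M (isPModular_isPrime hM)) := Function.surjInv hres
  have hs : ∀ c, res (s c) = c := Function.surjInv_eq hres
  let zh : Fin 3 → MonoidAlgebra ↥(localRing M (isPModular_isPrime hM)) G :=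
    fun i => b4OfFun (fun g => s ((z i).coeff g))
  let x : Fin 3 → MonoidAlgebra ↥(localRing M (isPModular_isPrime hM)) G := fun i => zh i * eB
  have hred : ∀ i, MonoidAlgebra.mapRingHom G res (x i) = z i := by
    intro i
    have h1 : MonoidAlgebra.mapRingHom G res (zh i) = z i := by
      apply b4_ext
      intro g
      rw [MonoidAlgebra.coeff_mapRingHom, b4_coeff_ofFun, hs]
    show MonoidAlgebra.mapRingHom G res (zh i * eB) = z i
    rw [map_mul, h1, hzε]
  have h1 : LinearIndependent k (fun i => (fun g => res ((x i).coeff g))) := by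
    have h2 : (fun i => (fun g => res ((x i).coeff g))) = (b4CoeffL k G) ∘ z := by
      funext i g
      simp only [Function.comp, b4CoeffL, LinearMap.coe_mk, AddHom.coe_mk]
      rw [← hred i, MonoidAlgebra.coeff_mapRingHom]
    rw [h2]
    exact hli.map' _ (LinearMap.ker_eq_bot.2 (b4CoeffL_injective k))
  have h3 := RI (fun i g => (x i).coeff g) h1
  -- the complex coefficient functions lie in a space of dimension ≤ 2
  have hfun : b4Fun (isPModular_isPrime hM) eB = blockCoeff B := funext heB
  set S : Submodule ℂ (G → ℂ) := Submodule.span ℂ (Set.range (fun ψ : B => (fun g : G =>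
      (Nat.card G : ℂ)⁻¹ * (((ψ : IrrCharacter G) : G → ℂ) 1 *
        conj (((ψ : IrrCharacter G) : G → ℂ) g))))) with hS
  have hmem : ∀ i, (fun g => (((x i).coeff g : ↥(localRing M (isPModular_isPrime hM))) : ℂ)) ∈ S := by
    intro i
    have hcl : IsClassFunction G (b4Fun (isPModular_isPrime hM) (zh i)) := by
      intro g h
      simp only [b4Fun, zh, b4_coeff_ofFun]
      rw [b4_coeff_conj_of_central (hz i) g h]
    have hFi : b4Fun (isPModular_isPrime hM) (x i)
        = conv (b4Fun (isPModular_isPrime hM) (zh i)) (blockCoeff B) := by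
      show b4Fun (isPModular_isPrime hM) (zh i * eB) = _
      rw [b4Fun_mul, hfun]
    have hFcl : IsClassFunction G (b4Fun (isPModular_isPrime hM) (x i)) := by
      rw [hFi]
      exact isClassFunction_conv hcl (isClassFunction_blockCoeff B)
    have hFB : conv (b4Fun (isPModular_isPrime hM) (x i)) (blockCoeff B)
        = b4Fun (isPModular_isPrime hM) (x i) := by
      rw [← hfun, ← b4Fun_mul]
      congr 1
      show zh i * eB * eB = zh i * eB
      rw [mul_assoc, heBid.eq]
    exact b4_mem_span B hFcl hFB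
  let F' : Fin 3 → S := fun i => ⟨_, hmem i⟩
  have hF' : LinearIndependent ℂ F' := by
    apply LinearIndependent.of_comp S.subtype
    exact h3
  have h4 := hF'.fintype_card_le_finrank
  have h5 : Module.finrank ℂ S ≤ Fintype.card B := finrank_range_le_card _
  have h6 : Fintype.card B = 2 := by rw [← Nat.card_eq_fintype_card, hcard]
  simp only [Fintype.card_fin] at h4
  omega

end Block

end Cfsg.Agent.Lib.Lead.Brandt
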