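import Mathlib
import Cfsg.Prelude
import Cfsg.Agent.Lib.Helper7.OSubDefs
import Cfsg.Agent.Lib.Helper3.OSub_BCA
import Cfsg.Agent.Lib.Helper5.OSub_BCB

set_option autoImplicit false
set_option linter.unusedSectionVars false
set_option linter.unusedVariables false

/-! S5683 PK-KO : (SS) ⇒ (KO). -/

namespace Cfsg.Agent.Lib.Helper7.OSub

open Matrix Cfsg.Agent.Lib.Helper7.Subg Cfsg.Agent.Lib.Helper2.LongRoot Cfsg.Agent.Lib.Helper2.OmMin
  Cfsg.Agent.Lib.Helper2.CDG

variable {F : Type*} [Field F] [Fintype F] {ι : Type} [Fintype ι] [DecidableEq ι]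
variable {Q : QuadraticForm F (ι → F)}

namespace PkKO

/-- the key step: `B(q,y) ∈ F₀` for a rational singular `q ⊥ u` forming a totally singular pair with `u` -/
theorem polar_mem_of_tsp (hQ : (QuadraticMap.polarBilin Q).Nondegenerate) (F₀ : Subfield F)
    (M : Subgroup ↥(Cfsg.isometryGroup F ⇑Q)) (hR : RatQ F₀ Q) (hn : 7 ≤ Fintype.card ι)
    (hE : HasRatE hQ F₀ M) (hSS : SS hQ F₀ M) {u y q : ι → F}
    (huy : QuadraticMap.polar (⇑Q) u y = 0) (hM : eich hQ u y ∈ M) (h : RTSP F₀ Q u q) :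
    QuadraticMap.polar (⇑Q) q y ∈ F₀ := by
  obtain ⟨hu, hq, hQu, hQq, huq, hind⟩ := h
  obtain ⟨p, p', hp, hp', hQp, hQp', hpp', hperp⟩ :=
    rat_hyp_perp hQ F₀ hR (k := 2) ![u, q]
      (by intro i; fin_cases i <;> simp <;> assumption) (by omega)
  have hup : QuadraticMap.polar (⇑Q) u p = 0 := (hperp 0).1
  have hup' : QuadraticMap.polar (⇑Q) u p' = 0 := (hperp 0).2
  have hqp : QuadraticMap.polar (⇑Q) q p = 0 := (hperp 1).1
  have hqp' : QuadraticMap.polar (⇑Q) q p' = 0 := (hperp 1).2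
  have hqu : QuadraticMap.polar (⇑Q) q u = 0 := by rw [QuadraticMap.polar_comm]; exact huq
  have hpu : QuadraticMap.polar (⇑Q) p u = 0 := by rw [QuadraticMap.polar_comm]; exact hup
  have hqq : QuadraticMap.polar (⇑Q) q q = 0 := PkE.polar_self_of_sing hQq
  set β := QuadraticMap.polar (⇑Q) q y with hβ
  set γ := QuadraticMap.polar (⇑Q) p y with hγ
  -- g₁ = E(q,p) ∈ M
  have hg1 : eich hQ q p ∈ M := hE q p hq hp
  have hg1u : mat (eich hQ q p) *ᵥ u = u := eich_fix hQ hqu hpu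
  have hg1y : mat (eich hQ q p) *ᵥ y = y + (β • p - γ • q) := by
    rw [eich_mulVec hQ hQq hqp, hQp]
    simp only [zero_mul, zero_smul, sub_zero]
    rw [← hβ, ← hγ]
    abel
  have huv : QuadraticMap.polar (⇑Q) u (β • p - γ • q) = 0 := by
    rw [QuadraticMap.polar_sub_right, QuadraticMap.polar_smul_right,
      QuadraticMap.polar_smul_right, hup, huq]
    simp
  -- E(u, v') ∈ M
  have hv : eich hQ u (β • p - γ • q) ∈ M := by
    have h1 : eich hQ q p * eich hQ u y * (eich hQ q p)⁻¹ ∈ M :=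
      M.mul_mem (M.mul_mem hg1 hM) (M.inv_mem hg1)
    rw [eich_conj', hg1u, hg1y, eich_add hQ hQu huy huv] at h1
    have h2 := M.mul_mem (M.inv_mem hM) h1
    rwa [inv_mul_cancel_left] at h2
  have hqv : QuadraticMap.polar (⇑Q) q (β • p - γ • q) = 0 := by
    rw [QuadraticMap.polar_sub_right, QuadraticMap.polar_smul_right,
      QuadraticMap.polar_smul_right, hqp, hqq]
    simp
  have hvp' : QuadraticMap.polar (⇑Q) (β • p - γ • q) p' = β := by
    rw [QuadraticMap.polar_sub_left, QuadraticMap.polar_smul_left,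
      QuadraticMap.polar_smul_left, hpp', hqp']
    simp
  have hg2 : eich hQ q p' ∈ M := hE q p' hq hp'
  have hc := eich_comm hQ hQu hQq huq huv hup' hqv hqp'
  rw [hvp', LR_eq_eich hQ hQu hQq huq] at hc
  have hmem : eich hQ u (β • q) ∈ M := by
    rw [← hc]
    exact M.mul_mem (M.mul_mem (M.mul_mem hv hg2) (M.inv_mem hv)) (M.inv_mem hg2)
  exact hSS u q β ⟨hu, hq, hQu, hQq, huq, hind⟩ hmem

/-- `B(q,y) ∈ F₀` for every rational singular `q ⊥ u` -/
theorem polar_mem_of_sing (hQ : (QuadraticMap.polarBilin Q).Nondegenerate) (F₀ : Subfield F)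
    (M : Subgroup ↥(Cfsg.isometryGroup F ⇑Q)) (hR : RatQ F₀ Q) (hn : 7 ≤ Fintype.card ι)
    (hE : HasRatE hQ F₀ M) (hSS : SS hQ F₀ M) {u y q : ι → F} (hu : Rat F₀ u) (hu0 : u ≠ 0)
    (hQu : Q u = 0) (huy : QuadraticMap.polar (⇑Q) u y = 0) (hM : eich hQ u y ∈ M)
    (hq : Rat F₀ q) (hQq : Q q = 0) (huq : QuadraticMap.polar (⇑Q) u q = 0) :
    QuadraticMap.polar (⇑Q) q y ∈ F₀ := by
  by_cases hind : ∀ s t : F, s • u + t • q = 0 → s = 0 ∧ t = 0
  · exact polar_mem_of_tsp hQ F₀ M hR hn hE hSS huy hM ⟨hu, hq, hQu, hQq, huq, hind⟩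
  · push Not at hind
    obtain ⟨s, t, hst, hne⟩ := hind
    by_cases ht : t = 0
    · exfalso
      subst ht
      rw [zero_smul, add_zero] at hst
      rcases smul_eq_zero.mp hst with h | h
      · exact hne h rfl
      · exact hu0 h
    · have hq' : q = (-(t⁻¹ * s)) • u := by
        have h1 : t • q = -(s • u) := by
          rw [eq_neg_iff_add_eq_zero, add_comm]; exact hst
        have h2 : q = t⁻¹ • (t • q) := by rw [smul_smul, inv_mul_cancel₀ ht, one_smul]
        rw [h2, h1, neg_smul, smul_neg, smul_smul]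
      rw [hq', QuadraticMap.polar_smul_left, huy, smul_zero]
      exact F₀.zero_mem

end PkKO

theorem ko_of_ss (hQ : (QuadraticMap.polarBilin Q).Nondegenerate) (F₀ : Subfield F)
    (M : Subgroup ↥(Cfsg.isometryGroup F ⇑Q)) (hR : RatQ F₀ Q) (hn : 7 ≤ Fintype.card ι)
    (hE : HasRatE hQ F₀ M) (hSS : SS hQ F₀ M) : KO hQ F₀ M := by
  intro u y hu hu0 hQu huy hM
  -- step 2: `B(b,y) ∈ F₀` for rational `b ⊥ u`
  have h2 : ∀ b : ι → F, Rat F₀ b → QuadraticMap.polar (⇑Q) u b = 0 →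
      QuadraticMap.polar (⇑Q) b y ∈ F₀ := by
    intro b hb hub
    obtain ⟨w, hw, hbw⟩ := rat_span_sing hQ F₀ hR hn hu hQu hb hub
    rw [hbw, Fin.sum_univ_three, QuadraticMap.polar_add_left, QuadraticMap.polar_add_left]
    exact F₀.add_mem (F₀.add_mem
      (PkKO.polar_mem_of_sing hQ F₀ M hR hn hE hSS hu hu0 hQu huy hM (hw 0).1 (hw 0).2.1 (hw 0).2.2)
      (PkKO.polar_mem_of_sing hQ F₀ M hR hn hE hSS hu hu0 hQu huy hM (hw 1).1 (hw 1).2.1 (hw 1).2.2))
      (PkKO.polar_mem_of_sing hQ F₀ M hR hn hE hSS hu hu0 hQu huy hM (hw 2).1 (hw 2).2.1 (hw 2).2.2)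
  obtain ⟨u', hu', hQu', huu'⟩ := rat_partner hQ F₀ hR (by omega) hu hu0 hQu
  refine ⟨-QuadraticMap.polar (⇑Q) u' y, ?_⟩
  apply rat_riesz hQ F₀ hR
  intro a ha
  have hua : QuadraticMap.polar (⇑Q) u a ∈ F₀ := rat_polar hR hu ha
  set α := QuadraticMap.polar (⇑Q) u a with hα
  have hb : Rat F₀ (a - α • u') := ha.sub (Rat.smul hua hu')
  have hub : QuadraticMap.polar (⇑Q) u (a - α • u') = 0 := by
    rw [QuadraticMap.polar_sub_right, QuadraticMap.polar_smul_right, huu', ← hα]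
    simp
  have hby := h2 _ hb hub
  have hu'u : QuadraticMap.polar (⇑Q) u' u = 1 := by rw [QuadraticMap.polar_comm]; exact huu'
  have hau : QuadraticMap.polar (⇑Q) a u = α := by rw [QuadraticMap.polar_comm]
  have e : QuadraticMap.polar (⇑Q) a (y + (-QuadraticMap.polar (⇑Q) u' y) • u) =
      QuadraticMap.polar (⇑Q) (a - α • u') y := by
    rw [QuadraticMap.polar_add_right, QuadraticMap.polar_smul_right, QuadraticMap.polar_sub_left,
      QuadraticMap.polar_smul_left, hau]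
    simp only [smul_eq_mul]
    ring
  rw [e]
  exact hby

end Cfsg.Agent.Lib.Helper7.OSub
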