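import Mathlib
import Cfsg.Prelude
import Cfsg.Agent.Lib.Helper7.OSubDefs
import Cfsg.Agent.Lib.Helper3.OSub_BCA
import Cfsg.Agent.Lib.Helper5.OSub_BCB

set_option autoImplicit false
set_option linter.unusedSectionVars false
set_option linter.unusedVariables false

/-! S5683 PK-RLO : (KO) ⇒ (RLO). -/

namespace Cfsg.Agent.Lib.Helper7.OSub

open Matrix Cfsg.Agent.Lib.Helper7.Subg Cfsg.Agent.Lib.Helper2.LongRoot Cfsg.Agent.Lib.Helper2.OmMin
  Cfsg.Agent.Lib.Helper2.CDG

variable {F : Type*} [Field F] [Fintype F] {ι : Type} [Fintype ι] [DecidableEq ι]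
variable {Q : QuadraticForm F (ι → F)}

namespace PkRLO

theorem Q_comb {x y : ι → F} (hQx : Q x = 0) (hQy : Q y = 0)
    (hxy : QuadraticMap.polar (⇑Q) x y = 0) (a b : F) : Q (a • x + b • y) = 0 := by
  rw [QuadraticMap.map_add (⇑Q), QuadraticMap.map_smul, QuadraticMap.map_smul, hQx, hQy,
    QuadraticMap.polar_smul_left, QuadraticMap.polar_smul_right, hxy]
  simp

theorem polar_comb {x y : ι → F} (hQx : Q x = 0) (hQy : Q y = 0)
    (hxy : QuadraticMap.polar (⇑Q) x y = 0) (a b c d : F) :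
    QuadraticMap.polar (⇑Q) (a • x + b • y) (c • x + d • y) = 0 := by
  have hyx : QuadraticMap.polar (⇑Q) y x = 0 := by rw [QuadraticMap.polar_comm]; exact hxy
  rw [QuadraticMap.polar_add_left, QuadraticMap.polar_add_right, QuadraticMap.polar_add_right]
  simp only [QuadraticMap.polar_smul_left, QuadraticMap.polar_smul_right, hxy, hyx,
    PkE.polar_self_of_sing hQx, PkE.polar_self_of_sing hQy]
  simp

/-- the long root element `E(x,y)` depends only on `x ∧ y` -/
theorem eich_sl2 (hQ : (QuadraticMap.polarBilin Q).Nondegenerate) {x y : ι → F} (hQx : Q x = 0)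
    (hQy : Q y = 0) (hxy : QuadraticMap.polar (⇑Q) x y = 0) {a b c d : F}
    (hdet : a * d - b * c = 1) :
    eich hQ (a • x + b • y) (c • x + d • y) = eich hQ x y := by
  apply iso_ext
  intro v
  rw [eich_mulVec hQ (Q_comb hQx hQy hxy a b) (polar_comb hQx hQy hxy a b c d),
    eich_mulVec hQ hQx hxy, Q_comb hQx hQy hxy c d, hQy]
  simp only [QuadraticMap.polar_add_left, QuadraticMap.polar_smul_left, smul_eq_mul, zero_mul,
    zero_smul, sub_zero]
  set X := QuadraticMap.polar (⇑Q) x v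
  set Y := QuadraticMap.polar (⇑Q) y v
  have e : v + (a * X + b * Y) • (c • x + d • y) - (c * X + d * Y) • (a • x + b • y) =
      v + ((a * d - b * c) * X) • y - ((a * d - b * c) * Y) • x := by module
  rw [e, hdet, one_mul, one_mul]

/-- the commutator of `E(x,y) ∈ M` with a rational Eichler element at `u ⊥ x,y`, and (KO) -/
theorem ko_comm (hQ : (QuadraticMap.polarBilin Q).Nondegenerate) (F₀ : Subfield F)
    (M : Subgroup ↥(Cfsg.isometryGroup F ⇑Q)) (hE : HasRatE hQ F₀ M) (hKO : KO hQ F₀ M)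
    {x y u p : ι → F} (hQx : Q x = 0) (hQy : Q y = 0) (hxy : QuadraticMap.polar (⇑Q) x y = 0)
    (hA : eich hQ x y ∈ M) (hu : Rat F₀ u) (hu0 : u ≠ 0) (hQu : Q u = 0)
    (hux : QuadraticMap.polar (⇑Q) u x = 0) (huy : QuadraticMap.polar (⇑Q) u y = 0)
    (hp : Rat F₀ p) (hup : QuadraticMap.polar (⇑Q) u p = 0) :
    ∃ c : F, Rat F₀ (QuadraticMap.polar (⇑Q) x p • y - QuadraticMap.polar (⇑Q) y p • x + c • u) := by
  have hxu : QuadraticMap.polar (⇑Q) x u = 0 := by rw [QuadraticMap.polar_comm]; exact hux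
  have hyu : QuadraticMap.polar (⇑Q) y u = 0 := by rw [QuadraticMap.polar_comm]; exact huy
  set a := QuadraticMap.polar (⇑Q) x p with ha
  set b := QuadraticMap.polar (⇑Q) y p with hb
  have hg : eich hQ u p ∈ M := hE u p hu hp
  have hAu : mat (eich hQ x y) *ᵥ u = u := eich_fix hQ hxu hyu
  have hAp : mat (eich hQ x y) *ᵥ p = (a • y - b • x) + p := by
    rw [eich_mulVec hQ hQx hxy, hQy]
    simp only [zero_mul, zero_smul, sub_zero]
    rw [← ha, ← hb]
    abel
  have huz : QuadraticMap.polar (⇑Q) u (a • y - b • x) = 0 := by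
    rw [QuadraticMap.polar_sub_right, QuadraticMap.polar_smul_right,
      QuadraticMap.polar_smul_right, hux, huy]
    simp
  have hz : eich hQ u (a • y - b • x) ∈ M := by
    have h1 : eich hQ x y * eich hQ u p * (eich hQ x y)⁻¹ ∈ M :=
      M.mul_mem (M.mul_mem hA hg) (M.inv_mem hA)
    rw [eich_conj', hAu, hAp, eich_add hQ hQu huz hup] at h1
    have h2 := M.mul_mem h1 (M.inv_mem hg)
    rwa [mul_inv_cancel_right] at h2
  exact hKO u _ hu hu0 hQu huz hz

/-- two rational vectors of `u^⊥` on which `B(x,·)`, `B(y,·)` are independent -/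
theorem exists_pair (hQ : (QuadraticMap.polarBilin Q).Nondegenerate) (F₀ : Subfield F)
    (hR : RatQ F₀ Q) {x y u : ι → F} (h : TSP Q x y) (hu : Rat F₀ u)
    (hnot : ∀ α β : F, u ≠ α • x + β • y) :
    ∃ p₁ p₂ : ι → F, Rat F₀ p₁ ∧ Rat F₀ p₂ ∧ QuadraticMap.polar (⇑Q) u p₁ = 0 ∧
      QuadraticMap.polar (⇑Q) u p₂ = 0 ∧
      QuadraticMap.polar (⇑Q) x p₁ * QuadraticMap.polar (⇑Q) y p₂ -
        QuadraticMap.polar (⇑Q) x p₂ * QuadraticMap.polar (⇑Q) y p₁ ≠ 0 := by
  by_contra hcon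
  push Not at hcon
  have key : ∃ s t : F, ¬ (s = 0 ∧ t = 0) ∧ ∀ p : ι → F, Rat F₀ p →
      QuadraticMap.polar (⇑Q) u p = 0 → QuadraticMap.polar (⇑Q) (s • x + t • y) p = 0 := by
    by_cases hx : ∀ p : ι → F, Rat F₀ p → QuadraticMap.polar (⇑Q) u p = 0 →
        QuadraticMap.polar (⇑Q) x p = 0
    · refine ⟨1, 0, fun h => one_ne_zero h.1, fun p hp hup => ?_⟩
      rw [one_smul, zero_smul, add_zero]
      exact hx p hp hup
    · push Not at hx
      obtain ⟨p₁, hp₁, hup₁, hxp₁⟩ := hx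
      refine ⟨-QuadraticMap.polar (⇑Q) y p₁, QuadraticMap.polar (⇑Q) x p₁, fun h => hxp₁ h.2,
        fun p hp hup => ?_⟩
      rw [QuadraticMap.polar_add_left, QuadraticMap.polar_smul_left, QuadraticMap.polar_smul_left]
      have := hcon p₁ p hp₁ hp hup₁ hup
      simp only [smul_eq_mul]
      linear_combination this
  obtain ⟨s, t, hst, hperp⟩ := key
  obtain ⟨c, hc⟩ := perp_rat_perp hQ F₀ hR hu (s • x + t • y) hperp
  by_cases hc0 : c = 0
  · subst hc0
    rw [zero_smul] at hc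
    exact hst (h.2.2.2 s t hc)
  · apply hnot (c⁻¹ * s) (c⁻¹ * t)
    have : u = c⁻¹ • (c • u) := by rw [smul_smul, inv_mul_cancel₀ hc0, one_smul]
    rw [this, ← hc, smul_add, smul_smul, smul_smul]

end PkRLO

theorem rlo_of_ko (hQ : (QuadraticMap.polarBilin Q).Nondegenerate) (F₀ : Subfield F)
    (M : Subgroup ↥(Cfsg.isometryGroup F ⇑Q)) (hR : RatQ F₀ Q) (hn : 9 ≤ Fintype.card ι)
    (hE : HasRatE hQ F₀ M) (hKO : KO hQ F₀ M) : RLO hQ F₀ M := by
  intro x y u hxy hu hu0 hQu hux huy hA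
  obtain ⟨hQx, hQy, hBxy, hind⟩ := hxy
  by_cases hspan : ∃ α β : F, u = α • x + β • y
  · -- case 1: `u` on the line
    obtain ⟨α, β, hu_eq⟩ := hspan
    obtain ⟨c, d, hdet⟩ : ∃ c d : F, α * d - β * c = 1 := by
      by_cases hα : α = 0
      · have hβ : β ≠ 0 := by
          rintro rfl
          apply hu0
          rw [hu_eq, hα, zero_smul, zero_smul, add_zero]
        exact ⟨-β⁻¹, 0, by rw [hα]; field_simp; ring⟩
      · exact ⟨0, α⁻¹, by field_simp; ring⟩
    have hA' : eich hQ u (c • x + d • y) ∈ M := by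
      rw [hu_eq, PkRLO.eich_sl2 hQ hQx hQy hBxy hdet]
      exact hA
    have huw : QuadraticMap.polar (⇑Q) u (c • x + d • y) = 0 := by
      rw [hu_eq]
      exact PkRLO.polar_comb hQx hQy hBxy α β c d
    obtain ⟨e, he⟩ := hKO u _ hu hu0 hQu huw hA'
    refine ⟨u, c • x + d • y + e • u, d + β * e, -β, -c - α * e, α, hu, he, ?_, ?_⟩
    · have e1 : (d + β * e) • u + -β • (c • x + d • y + e • u) = (α * d - β * c) • x := by
        rw [hu_eq]; module
      rw [e1, hdet, one_smul]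
    · have e1 : (-c - α * e) • u + α • (c • x + d • y + e • u) = (α * d - β * c) • y := by
        rw [hu_eq]; module
      rw [e1, hdet, one_smul]
  · -- case 2: `u` off the line
    push Not at hspan
    obtain ⟨p₁, p₂, hp₁, hp₂, hup₁, hup₂, hD⟩ :=
      PkRLO.exists_pair hQ F₀ hR ⟨hQx, hQy, hBxy, hind⟩ hu hspan
    set a₁ := QuadraticMap.polar (⇑Q) x p₁ with ha₁
    set b₁ := QuadraticMap.polar (⇑Q) y p₁ with hb₁
    set a₂ := QuadraticMap.polar (⇑Q) x p₂ with ha₂
    set b₂ := QuadraticMap.polar (⇑Q) y p₂ with hb₂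
    obtain ⟨c₁, hr₁⟩ := PkRLO.ko_comm hQ F₀ M hE hKO hQx hQy hBxy hA hu hu0 hQu hux huy hp₁ hup₁
    obtain ⟨c₂, hr₂⟩ := PkRLO.ko_comm hQ F₀ M hE hKO hQx hQy hBxy hA hu hu0 hQu hux huy hp₂ hup₂
    rw [← ha₁, ← hb₁] at hr₁
    rw [← ha₂, ← hb₂] at hr₂
    set D := a₁ * b₂ - a₂ * b₁ with hDdef
    -- x, y in terms of z₁, z₂
    have hx_eq : x = D⁻¹ • (a₂ • (a₁ • y - b₁ • x) - a₁ • (a₂ • y - b₂ • x)) := by
      have : a₂ • (a₁ • y - b₁ • x) - a₁ • (a₂ • y - b₂ • x) = D • x := by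
        rw [hDdef]; module
      rw [this, smul_smul, inv_mul_cancel₀ hD, one_smul]
    have hy_eq : y = D⁻¹ • (b₂ • (a₁ • y - b₁ • x) - b₁ • (a₂ • y - b₂ • x)) := by
      have : b₂ • (a₁ • y - b₁ • x) - b₁ • (a₂ • y - b₂ • x) = D • y := by
        rw [hDdef]; module
      rw [this, smul_smul, inv_mul_cancel₀ hD, one_smul]
    -- a rational hyperbolic pair orthogonal to r₁, r₂, u
    obtain ⟨u', p', hu', hp', hQu', hQp', hu'p', hperp⟩ :=
      rat_hyp_perp hQ F₀ hR (k := 3)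
        ![a₁ • y - b₁ • x + c₁ • u, a₂ • y - b₂ • x + c₂ • u, u]
        (by intro i; fin_cases i <;> simp <;> assumption) (by omega)
    have hr₁u' : QuadraticMap.polar (⇑Q) (a₁ • y - b₁ • x + c₁ • u) u' = 0 := (hperp 0).1
    have hr₁p' : QuadraticMap.polar (⇑Q) (a₁ • y - b₁ • x + c₁ • u) p' = 0 := (hperp 0).2
    have hr₂u' : QuadraticMap.polar (⇑Q) (a₂ • y - b₂ • x + c₂ • u) u' = 0 := (hperp 1).1
    have hr₂p' : QuadraticMap.polar (⇑Q) (a₂ • y - b₂ • x + c₂ • u) p' = 0 := (hperp 1).2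
    have huu' : QuadraticMap.polar (⇑Q) u u' = 0 := (hperp 2).1
    have hup' : QuadraticMap.polar (⇑Q) u p' = 0 := (hperp 2).2
    -- z₁, z₂ ⊥ u', p'
    have hz₁u' : QuadraticMap.polar (⇑Q) (a₁ • y - b₁ • x) u' = 0 := by
      rw [QuadraticMap.polar_add_left, QuadraticMap.polar_smul_left, huu', smul_zero,
        add_zero] at hr₁u'
      exact hr₁u'
    have hz₁p' : QuadraticMap.polar (⇑Q) (a₁ • y - b₁ • x) p' = 0 := by
      rw [QuadraticMap.polar_add_left, QuadraticMap.polar_smul_left, hup', smul_zero,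
        add_zero] at hr₁p'
      exact hr₁p'
    have hz₂u' : QuadraticMap.polar (⇑Q) (a₂ • y - b₂ • x) u' = 0 := by
      rw [QuadraticMap.polar_add_left, QuadraticMap.polar_smul_left, huu', smul_zero,
        add_zero] at hr₂u'
      exact hr₂u'
    have hz₂p' : QuadraticMap.polar (⇑Q) (a₂ • y - b₂ • x) p' = 0 := by
      rw [QuadraticMap.polar_add_left, QuadraticMap.polar_smul_left, hup', smul_zero,
        add_zero] at hr₂p'
      exact hr₂p'
    have hxu' : QuadraticMap.polar (⇑Q) x u' = 0 := by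
      rw [hx_eq, QuadraticMap.polar_smul_left, QuadraticMap.polar_sub_left,
        QuadraticMap.polar_smul_left, QuadraticMap.polar_smul_left, hz₁u', hz₂u']
      simp
    have hyu' : QuadraticMap.polar (⇑Q) y u' = 0 := by
      rw [hy_eq, QuadraticMap.polar_smul_left, QuadraticMap.polar_sub_left,
        QuadraticMap.polar_smul_left, QuadraticMap.polar_smul_left, hz₁u', hz₂u']
      simp
    have hxp' : QuadraticMap.polar (⇑Q) x p' = 0 := by
      rw [hx_eq, QuadraticMap.polar_smul_left, QuadraticMap.polar_sub_left,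
        QuadraticMap.polar_smul_left, QuadraticMap.polar_smul_left, hz₁p', hz₂p']
      simp
    have hyp' : QuadraticMap.polar (⇑Q) y p' = 0 := by
      rw [hy_eq, QuadraticMap.polar_smul_left, QuadraticMap.polar_sub_left,
        QuadraticMap.polar_smul_left, QuadraticMap.polar_smul_left, hz₁p', hz₂p']
      simp
    have hu'0 : u' ≠ 0 := by
      rintro rfl
      rw [QuadraticMap.polar_zero_left] at hu'p'
      exact zero_ne_one hu'p'
    have hu'x : QuadraticMap.polar (⇑Q) u' x = 0 := by rw [QuadraticMap.polar_comm]; exact hxu'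
    have hu'y : QuadraticMap.polar (⇑Q) u' y = 0 := by rw [QuadraticMap.polar_comm]; exact hyu'
    -- the key: z_p rational for p ⊥ u with value pair (a,b)
    have keyz : ∀ (p : ι → F) (c : F), Rat F₀ p → QuadraticMap.polar (⇑Q) u p = 0 →
        Rat F₀ (QuadraticMap.polar (⇑Q) x p • y - QuadraticMap.polar (⇑Q) y p • x + c • u) →
        Rat F₀ (QuadraticMap.polar (⇑Q) x p • y - QuadraticMap.polar (⇑Q) y p • x) := by
      intro p c hp hup hr
      have hu'pF : QuadraticMap.polar (⇑Q) u' p ∈ F₀ := rat_polar hR hu' hp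
      set τ := QuadraticMap.polar (⇑Q) u' p with hτ
      have hpt : Rat F₀ (p - τ • p') := hp.sub (Rat.smul hu'pF hp')
      have hu'pt : QuadraticMap.polar (⇑Q) u' (p - τ • p') = 0 := by
        rw [QuadraticMap.polar_sub_right, QuadraticMap.polar_smul_right, hu'p', ← hτ]
        simp
      have hxpt : QuadraticMap.polar (⇑Q) x (p - τ • p') = QuadraticMap.polar (⇑Q) x p := by
        rw [QuadraticMap.polar_sub_right, QuadraticMap.polar_smul_right, hxp']
        simp
      have hypt : QuadraticMap.polar (⇑Q) y (p - τ • p') = QuadraticMap.polar (⇑Q) y p := by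
        rw [QuadraticMap.polar_sub_right, QuadraticMap.polar_smul_right, hyp']
        simp
      obtain ⟨c', hr'⟩ := PkRLO.ko_comm hQ F₀ M hE hKO hQx hQy hBxy hA hu' hu'0 hQu' hu'x hu'y
        hpt hu'pt
      rw [hxpt, hypt] at hr'
      set z := QuadraticMap.polar (⇑Q) x p • y - QuadraticMap.polar (⇑Q) y p • x with hz
      -- c' ∈ F₀
      have hzp' : QuadraticMap.polar (⇑Q) z p' = 0 := by
        rw [hz, QuadraticMap.polar_sub_left, QuadraticMap.polar_smul_left,
          QuadraticMap.polar_smul_left, hxp', hyp']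
        simp
      have h1 : QuadraticMap.polar (⇑Q) (z + c' • u') p' ∈ F₀ := rat_polar hR hr' hp'
      rw [QuadraticMap.polar_add_left, QuadraticMap.polar_smul_left, hzp', hu'p'] at h1
      simp only [smul_eq_mul, mul_one, zero_add] at h1
      have : z = (z + c' • u') - c' • u' := by abel
      rw [this]
      exact hr'.sub (Rat.smul h1 hu')
    have hz₁ := keyz p₁ c₁ hp₁ hup₁ (by rw [← ha₁, ← hb₁]; exact hr₁)
    have hz₂ := keyz p₂ c₂ hp₂ hup₂ (by rw [← ha₂, ← hb₂]; exact hr₂)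
    rw [← ha₁, ← hb₁] at hz₁
    rw [← ha₂, ← hb₂] at hz₂
    refine ⟨a₁ • y - b₁ • x, a₂ • y - b₂ • x, D⁻¹ * a₂, -(D⁻¹ * a₁), D⁻¹ * b₂, -(D⁻¹ * b₁),
      hz₁, hz₂, ?_, ?_⟩
    · conv_lhs => rw [hx_eq]
      module
    · conv_lhs => rw [hy_eq]
      module

end Cfsg.Agent.Lib.Helper7.OSub
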