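import Mathlib
import Cfsg.Prelude
import Cfsg.Agent.Lib.Helper7.OmTwoB

/-! # S2415 package PK-B3: the stages `Neg2` and `Pos` of the root-group chase -/

set_option autoImplicit false
set_option linter.unusedSectionVars false
set_option linter.unusedVariables false

namespace Cfsg.Agent.Lib.Helper7.OmTwo

open Matrix Cfsg.Agent.H9Orth Cfsg.Agent.Lib.Helper2.CDG

variable {F : Type*} [Field F] {ι : Type} [Fintype ι] [DecidableEq ι]
variable {Q : QuadraticForm F (ι → F)}
variable {hQ : (QuadraticMap.polarBilin Q).Nondegenerate}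
  {K : Subgroup ↥(Cfsg.isometryGroup F ⇑Q)}
  {l : ℕ} {e f : ℕ → ι → F} {z₁ z₂ : ι → F} {N₀ g t : F} {y : ↥(Cfsg.isometryGroup F ⇑Q)}

/-- the commutator rule with the two products given -/
theorem b3_comm {u v u' v' : ι → F} (h' : EK hQ K u' v') (h : EK hQ K u v)
    (h1 : QuadraticMap.polar (⇑Q) u' u = 0) (h2 : QuadraticMap.polar (⇑Q) v' u = 0)
    {a b : F} (ha : QuadraticMap.polar (⇑Q) u' v = a) (hb : QuadraticMap.polar (⇑Q) v' v = b) :
    EK hQ K u (a • v' - b • u' - (Q v' * a) • u') := by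
  have := ek_comm h' h h1 h2
  rwa [ha, hb] at this

theorem b3_fe (fr : Fr Q l e f z₁ z₂ N₀) (i j : ℕ) (hi : i ≤ l) (hj : j ≤ l) :
    QuadraticMap.polar (⇑Q) (f i) (e j) = if i = j then 1 else 0 := by
  rw [QuadraticMap.polar_comm, fr.ef j i hj hi]
  by_cases hij : i = j
  · rw [if_pos hij, if_pos hij.symm]
  · rw [if_neg hij, if_neg (Ne.symm hij)]

theorem b3_z₁e (fr : Fr Q l e f z₁ z₂ N₀) (i : ℕ) (hi : i ≤ l) :
    QuadraticMap.polar (⇑Q) z₁ (e i) = 0 := by
  rw [QuadraticMap.polar_comm, fr.ez₁ i hi]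

theorem b3_z₁f (fr : Fr Q l e f z₁ z₂ N₀) (i : ℕ) (hi : i ≤ l) :
    QuadraticMap.polar (⇑Q) z₁ (f i) = 0 := by
  rw [QuadraticMap.polar_comm, fr.fz₁ i hi]

theorem b3_z₂e (fr : Fr Q l e f z₁ z₂ N₀) (i : ℕ) (hi : i ≤ l) :
    QuadraticMap.polar (⇑Q) z₂ (e i) = 0 := by
  rw [QuadraticMap.polar_comm, fr.ez₂ i hi]

theorem b3_z₂f (fr : Fr Q l e f z₁ z₂ N₀) (i : ℕ) (hi : i ≤ l) :
    QuadraticMap.polar (⇑Q) z₂ (f i) = 0 := by
  rw [QuadraticMap.polar_comm, fr.fz₂ i hi]

theorem chase_neg2 (hl : 2 ≤ l) (fr : Fr Q l e f z₁ z₂ N₀) (hg : g ≠ 0)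
    (hu : Upper hQ K l e f) (hla : Last hQ K l e f z₁ N₀ g) (hn : Neg hQ K l e f z₂ N₀ g) :
    Neg2 hQ K l e f z₂ := by
  obtain ⟨hu1, hu2⟩ := hu
  obtain ⟨hla1, hla2⟩ := hla
  obtain ⟨hn1, hn2⟩ := hn
  -- step 1
  have s1 : ∀ c : F, EK hQ K (f 0) (c • (g • z₂ + e 1)) := by
    intro c
    have := ek_add (hn1 c) (hn2 1 le_rfl (by omega) (c * N₀ * g ^ 2))
    exact ek_congr this rfl (by module)
  -- step 2
  have s2 : ∀ c : F, EK hQ K (f 0) (c • e l) := by
    intro c
    have h' := hla2 1 (by omega) (by omega) (-c)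
    have h := s1 1
    have h1 : QuadraticMap.polar (⇑Q) (e l) (f 0) = 0 := by
      rw [fr.ef l 0 le_rfl (by omega), if_neg (by omega)]
    have h2 : QuadraticMap.polar (⇑Q) (-c • f 1) (f 0) = 0 := by
      rw [QuadraticMap.polar_smul_left, fr.ff 1 0 (by omega) (by omega), smul_zero]
    have ha : QuadraticMap.polar (⇑Q) (e l) ((1 : F) • (g • z₂ + e 1)) = 0 := by
      rw [QuadraticMap.polar_smul_right, QuadraticMap.polar_add_right,
        QuadraticMap.polar_smul_right, fr.ez₂ l le_rfl, fr.ee l 1 le_rfl (by omega)]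
      simp
    have hb : QuadraticMap.polar (⇑Q) (-c • f 1) ((1 : F) • (g • z₂ + e 1)) = -c := by
      rw [QuadraticMap.polar_smul_right, QuadraticMap.polar_add_right,
        QuadraticMap.polar_smul_right, QuadraticMap.polar_smul_left, QuadraticMap.polar_smul_left,
        fr.fz₂ 1 (by omega), b3_fe fr 1 1 (by omega) (by omega), if_pos rfl]
      simp
    have := b3_comm h' h h1 h2 ha hb
    exact ek_congr this rfl (by module)
  -- step 3
  have s3 : ∀ j, 0 < j → j < l → ∀ c : F, EK hQ K (f 0) (c • e j) := by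
    intro j hj0 hjl c
    have h' := hu2 j l hjl le_rfl hl (-c)
    have h : EK hQ K (f 0) (e l) := ek_congr (s2 1) rfl (one_smul _ _)
    have h1 : QuadraticMap.polar (⇑Q) (e j) (f 0) = 0 := by
      rw [fr.ef j 0 (by omega) (by omega), if_neg (by omega)]
    have h2 : QuadraticMap.polar (⇑Q) (-c • f l) (f 0) = 0 := by
      rw [QuadraticMap.polar_smul_left, fr.ff l 0 le_rfl (by omega), smul_zero]
    have ha : QuadraticMap.polar (⇑Q) (e j) (e l) = 0 := fr.ee j l (by omega) le_rfl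
    have hb : QuadraticMap.polar (⇑Q) (-c • f l) (e l) = -c := by
      rw [QuadraticMap.polar_smul_left, b3_fe fr l l le_rfl le_rfl, if_pos rfl]
      simp
    have := b3_comm h' h h1 h2 ha hb
    exact ek_congr this rfl (by module)
  have sE : ∀ j, 0 < j → j ≤ l → ∀ c : F, EK hQ K (f 0) (c • e j) := by
    intro j hj0 hjl c
    rcases Nat.lt_or_ge j l with h | h
    · exact s3 j hj0 h c
    · have : j = l := by omega
      subst this
      exact s2 c
  refine ⟨sE, ?_⟩
  intro c
  have := ek_sub (s1 (c * g⁻¹)) (sE 1 (by omega) (by omega) (c * g⁻¹))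
  refine ek_congr this rfl ?_
  have hgg : c * g⁻¹ * g = c := by field_simp
  calc (c * g⁻¹) • (g • z₂ + e 1) - (c * g⁻¹) • e 1 = (c * g⁻¹ * g) • z₂ := by module
    _ = c • z₂ := by rw [hgg]

theorem chase_pos (hl : 2 ≤ l) (fr : Fr Q l e f z₁ z₂ N₀) (hg : g ≠ 0)
    (hu : Upper hQ K l e f) (hla : Last hQ K l e f z₁ N₀ g) (hn2 : Neg2 hQ K l e f z₂) :
    Pos hQ K l e f z₁ z₂ := by
  obtain ⟨hu1, hu2⟩ := hu
  obtain ⟨hla1, hla2⟩ := hla
  obtain ⟨hnE, hnZ⟩ := hn2
  have qe := fr.qe
  have qf := fr.qf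
  -- EK e_l (c f_0), EK e_1 (c f_0)
  have a0 : ∀ c : F, EK hQ K (e l) (c • f 0) := by
    intro c
    have := ek_swap_smul (hnE l (by omega) le_rfl (-c)) (qe l le_rfl)
      (by rw [b3_fe fr 0 l (by omega) le_rfl, if_neg (by omega)])
    exact ek_congr this rfl (by rw [neg_neg])
  have a1 : ∀ c : F, EK hQ K (e 1) (c • f 0) := by
    intro c
    have := ek_swap_smul (hnE 1 (by omega) (by omega) (-c)) (qe 1 (by omega))
      (by rw [b3_fe fr 0 1 (by omega) (by omega), if_neg (by omega)])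
    exact ek_congr this rfl (by rw [neg_neg])
  -- (1)
  have p1 : ∀ c : F, EK hQ K (e l) (c • (g⁻¹ • e 0 + z₁)) := by
    intro c
    have := ek_add (hla1 c) (a0 (c * N₀ * g))
    exact ek_congr this rfl (by module)
  -- (2)
  have p2 : ∀ c : F, EK hQ K (e l) (c • e 1) := by
    intro c
    have h' := a1 (-(c * g))
    have h := p1 1
    have h1 : QuadraticMap.polar (⇑Q) (e 1) (e l) = 0 := fr.ee 1 l (by omega) le_rfl
    have h2 : QuadraticMap.polar (⇑Q) (-(c * g) • f 0) (e l) = 0 := by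
      rw [QuadraticMap.polar_smul_left, b3_fe fr 0 l (by omega) le_rfl, if_neg (by omega),
        smul_zero]
    have ha : QuadraticMap.polar (⇑Q) (e 1) ((1 : F) • (g⁻¹ • e 0 + z₁)) = 0 := by
      rw [QuadraticMap.polar_smul_right, QuadraticMap.polar_add_right,
        QuadraticMap.polar_smul_right, fr.ee 1 0 (by omega) (by omega), fr.ez₁ 1 (by omega)]
      simp
    have hb : QuadraticMap.polar (⇑Q) (-(c * g) • f 0) ((1 : F) • (g⁻¹ • e 0 + z₁)) = -c := by
      rw [QuadraticMap.polar_smul_right, QuadraticMap.polar_add_right,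
        QuadraticMap.polar_smul_right, QuadraticMap.polar_smul_left, QuadraticMap.polar_smul_left,
        b3_fe fr 0 0 (by omega) (by omega), if_pos rfl, fr.fz₁ 0 (by omega)]
      simp only [smul_eq_mul, mul_one, mul_zero, add_zero, one_mul]
      field_simp
    have := b3_comm h' h h1 h2 ha hb
    exact ek_congr this rfl (by module)
  -- (3)
  have p3 : ∀ c : F, EK hQ K (e l) (c • e 0) := by
    intro c
    have h' := hu1 0 1 (by omega) (by omega)
    have h := p2 (-c)
    have h1 : QuadraticMap.polar (⇑Q) (e 0) (e l) = 0 := fr.ee 0 l (by omega) le_rfl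
    have h2 : QuadraticMap.polar (⇑Q) (f 1) (e l) = 0 := by
      rw [b3_fe fr 1 l (by omega) le_rfl, if_neg (by omega)]
    have ha : QuadraticMap.polar (⇑Q) (e 0) (-c • e 1) = 0 := by
      rw [QuadraticMap.polar_smul_right, fr.ee 0 1 (by omega) (by omega), smul_zero]
    have hb : QuadraticMap.polar (⇑Q) (f 1) (-c • e 1) = -c := by
      rw [QuadraticMap.polar_smul_right, b3_fe fr 1 1 (by omega) (by omega), if_pos rfl]
      simp
    have := b3_comm h' h h1 h2 ha hb
    exact ek_congr this rfl (by module)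
  -- (4)
  have p4 : ∀ c : F, EK hQ K (e l) (c • z₁) := by
    intro c
    have := ek_sub (p1 c) (p3 (c * g⁻¹))
    exact ek_congr this rfl (by module)
  -- (5)
  have p5 : ∀ c : F, EK hQ K (e 0) (c • e l) := by
    intro c
    have := ek_swap_smul (p3 (-c)) (qe 0 (by omega)) (fr.ee l 0 le_rfl (by omega))
    exact ek_congr this rfl (by rw [neg_neg])
  -- (6)
  have p6 : ∀ c : F, EK hQ K (e 0) (c • z₁) := by
    intro c
    have h' := p4 c
    have h := hu1 0 l (by omega) le_rfl
    have h1 : QuadraticMap.polar (⇑Q) (e l) (e 0) = 0 := fr.ee l 0 le_rfl (by omega)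
    have h2 : QuadraticMap.polar (⇑Q) (c • z₁) (e 0) = 0 := by
      rw [QuadraticMap.polar_smul_left, b3_z₁e fr 0 (by omega), smul_zero]
    have ha : QuadraticMap.polar (⇑Q) (e l) (f l) = 1 := by
      rw [fr.ef l l le_rfl le_rfl, if_pos rfl]
    have hb : QuadraticMap.polar (⇑Q) (c • z₁) (f l) = 0 := by
      rw [QuadraticMap.polar_smul_left, b3_z₁f fr l le_rfl, smul_zero]
    have hq : Q (c • z₁) = c * c * N₀ := by
      rw [QuadraticMap.map_smul, fr.qz₁, smul_eq_mul]
    have := ek_add (b3_comm h' h h1 h2 ha hb) (p5 (c * c * N₀))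
    refine ek_congr this rfl ?_
    rw [hq]
    module
  -- (7)
  have p7 : ∀ j, 0 < j → j < l → ∀ c : F, EK hQ K (e 0) (c • e j) := by
    intro j hj0 hjl c
    have h' := hu2 j l hjl le_rfl hl (-c)
    have h : EK hQ K (e 0) (e l) := ek_congr (p5 1) rfl (one_smul _ _)
    have h1 : QuadraticMap.polar (⇑Q) (e j) (e 0) = 0 := fr.ee j 0 (by omega) (by omega)
    have h2 : QuadraticMap.polar (⇑Q) (-c • f l) (e 0) = 0 := by
      rw [QuadraticMap.polar_smul_left, b3_fe fr l 0 le_rfl (by omega), if_neg (by omega),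
        smul_zero]
    have ha : QuadraticMap.polar (⇑Q) (e j) (e l) = 0 := fr.ee j l (by omega) le_rfl
    have hb : QuadraticMap.polar (⇑Q) (-c • f l) (e l) = -c := by
      rw [QuadraticMap.polar_smul_left, b3_fe fr l l le_rfl le_rfl, if_pos rfl]
      simp
    have := b3_comm h' h h1 h2 ha hb
    exact ek_congr this rfl (by module)
  have pE : ∀ j, 0 < j → j ≤ l → ∀ c : F, EK hQ K (e 0) (c • e j) := by
    intro j hj0 hjl c
    rcases Nat.lt_or_ge j l with h | h
    · exact p7 j hj0 h c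
    · have : j = l := by omega
      subst this
      exact p5 c
  -- (8)
  have p8 : ∀ c : F, EK hQ K (e 1) (c • z₂) := by
    intro c
    have h' := hnZ c
    have h : EK hQ K (e 1) (e 0) := by
      have := ek_swap_smul (pE 1 (by omega) (by omega) (-1)) (qe 1 (by omega))
        (fr.ee 0 1 (by omega) (by omega))
      exact ek_congr this rfl (by rw [neg_neg, one_smul])
    have h1 : QuadraticMap.polar (⇑Q) (f 0) (e 1) = 0 := by
      rw [b3_fe fr 0 1 (by omega) (by omega), if_neg (by omega)]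
    have h2 : QuadraticMap.polar (⇑Q) (c • z₂) (e 1) = 0 := by
      rw [QuadraticMap.polar_smul_left, b3_z₂e fr 1 (by omega), smul_zero]
    have ha : QuadraticMap.polar (⇑Q) (f 0) (e 0) = 1 := by
      rw [b3_fe fr 0 0 (by omega) (by omega), if_pos rfl]
    have hb : QuadraticMap.polar (⇑Q) (c • z₂) (e 0) = 0 := by
      rw [QuadraticMap.polar_smul_left, b3_z₂e fr 0 (by omega), smul_zero]
    have hq : Q (c • z₂) = c * c * N₀ := by
      rw [QuadraticMap.map_smul, fr.qz₂, smul_eq_mul]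
    have := ek_add (b3_comm h' h h1 h2 ha hb) (a1 (c * c * N₀))
    refine ek_congr this rfl ?_
    rw [hq]
    module
  -- (9)
  have p9 : ∀ c : F, EK hQ K (e 0) (c • z₂) := by
    intro c
    have h' := p8 c
    have h := hu1 0 1 (by omega) (by omega)
    have h1 : QuadraticMap.polar (⇑Q) (e 1) (e 0) = 0 := fr.ee 1 0 (by omega) (by omega)
    have h2 : QuadraticMap.polar (⇑Q) (c • z₂) (e 0) = 0 := by
      rw [QuadraticMap.polar_smul_left, b3_z₂e fr 0 (by omega), smul_zero]
    have ha : QuadraticMap.polar (⇑Q) (e 1) (f 1) = 1 := by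
      rw [fr.ef 1 1 (by omega) (by omega), if_pos rfl]
    have hb : QuadraticMap.polar (⇑Q) (c • z₂) (f 1) = 0 := by
      rw [QuadraticMap.polar_smul_left, b3_z₂f fr 1 (by omega), smul_zero]
    have hq : Q (c • z₂) = c * c * N₀ := by
      rw [QuadraticMap.map_smul, fr.qz₂, smul_eq_mul]
    have := ek_add (b3_comm h' h h1 h2 ha hb) (pE 1 (by omega) (by omega) (c * c * N₀))
    refine ek_congr this rfl ?_
    rw [hq]
    module
  -- (10)
  have p10 : ∀ c : F, EK hQ K (e 0) (c • f 1) := by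
    intro c
    have h' := hla2 1 (by omega) (by omega) c
    have h := hu1 0 l (by omega) le_rfl
    have h1 : QuadraticMap.polar (⇑Q) (e l) (e 0) = 0 := fr.ee l 0 le_rfl (by omega)
    have h2 : QuadraticMap.polar (⇑Q) (c • f 1) (e 0) = 0 := by
      rw [QuadraticMap.polar_smul_left, b3_fe fr 1 0 (by omega) (by omega), if_neg (by omega),
        smul_zero]
    have ha : QuadraticMap.polar (⇑Q) (e l) (f l) = 1 := by
      rw [fr.ef l l le_rfl le_rfl, if_pos rfl]
    have hb : QuadraticMap.polar (⇑Q) (c • f 1) (f l) = 0 := by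
      rw [QuadraticMap.polar_smul_left, fr.ff 1 l (by omega) le_rfl, smul_zero]
    have hq : Q (c • f 1) = 0 := by
      rw [QuadraticMap.map_smul, qf 1 (by omega), smul_zero]
    have := b3_comm h' h h1 h2 ha hb
    refine ek_congr this rfl ?_
    rw [hq]
    module
  exact ⟨pE, p6, p9, p10⟩

end Cfsg.Agent.Lib.Helper7.OmTwo
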