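import Mathlib
import Cfsg.Prelude
import Cfsg.Agent.Lib.Helper7.OmTwoC
import Cfsg.Agent.Lib.Helper5.PlusLevi
import Cfsg.Agent.Lib.Helper5.OrthSum
import Cfsg.Agent.Lib.Helper5.GLBruhat1

/-! # S2415 packages PK-C1, PK-C2: the signed cycle and the torus element (Levi images of
monomial matrices) in the isometry group of the minus type form `QMn (l+1) a b` -/

set_option autoImplicit false
set_option linter.unusedSectionVars false
set_option linter.unusedVariables false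

namespace Cfsg.Agent.Lib.Helper7.OmTwo

open Matrix Cfsg.Agent.Lib.Helper2 Cfsg.Agent.Lib.Helper2.OrthCard Cfsg.Agent.Lib.Helper2.QuadStd

variable {F : Type*} [Field F]

section diag
variable {ι : Type*} [Fintype ι] [DecidableEq ι]

/-- diagonal matrices as a homomorphism into `GL` -/
def c12_diag : (ι → Fˣ) →* GL ι F where
  toFun c := ⟨Matrix.diagonal (fun k => (c k : F)), Matrix.diagonal (fun k => (((c k)⁻¹ : Fˣ) : F)),
    by rw [Matrix.diagonal_mul_diagonal]; simp, by rw [Matrix.diagonal_mul_diagonal]; simp⟩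
  map_one' := by
    apply Units.ext
    show Matrix.diagonal (fun k => (((1 : ι → Fˣ) k : Fˣ) : F)) = 1
    simp
  map_mul' c c' := by
    apply Units.ext
    show Matrix.diagonal (fun k => (((c * c') k : Fˣ) : F)) =
      Matrix.diagonal (fun k => (c k : F)) * Matrix.diagonal (fun k => (c' k : F))
    rw [Matrix.diagonal_mul_diagonal]
    simp

theorem c12_diag_coe (c : ι → Fˣ) :
    ((c12_diag c : GL ι F) : Matrix ι ι F) = Matrix.diagonal (fun k => (c k : F)) := rfl

theorem c12_diag_inv_coe (c : ι → Fˣ) :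
    (((c12_diag c)⁻¹ : GL ι F) : Matrix ι ι F) =
      Matrix.diagonal (fun k => (((c k)⁻¹ : Fˣ) : F)) := rfl

/-- the monomial matrix `e_k ↦ c_k e_{σ k}` -/
def c12_mono (σ : Equiv.Perm ι) (c : ι → Fˣ) : GL ι F :=
  Cfsg.Agent.Lib.Helper5.GLBruhat.permGL σ * c12_diag c

theorem c12_mono_apply (σ : Equiv.Perm ι) (c : ι → Fˣ) (i k : ι) :
    ((c12_mono σ c : GL ι F) : Matrix ι ι F) i k = if i = σ k then (c k : F) else 0 := by
  show ((Cfsg.Agent.Lib.Helper5.GLBruhat.pmat σ : Matrix ι ι F) *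
    Matrix.diagonal (fun k => (c k : F))) i k = _
  rw [Matrix.mul_diagonal, Cfsg.Agent.Lib.Helper5.GLBruhat.pmat_apply]
  split_ifs <;> simp

theorem c12_mono_inv_apply (σ : Equiv.Perm ι) (c : ι → Fˣ) (k i : ι) :
    (((c12_mono σ c)⁻¹ : GL ι F) : Matrix ι ι F) k i =
      if i = σ k then (((c k)⁻¹ : Fˣ) : F) else 0 := by
  have h : ((c12_mono σ c)⁻¹ : GL ι F) =
      (c12_diag c)⁻¹ * Cfsg.Agent.Lib.Helper5.GLBruhat.permGL σ⁻¹ := by
    unfold c12_mono
    rw [_root_.mul_inv_rev, map_inv]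
  rw [h]
  show (Matrix.diagonal (fun k => (((c k)⁻¹ : Fˣ) : F)) *
    (Cfsg.Agent.Lib.Helper5.GLBruhat.pmat σ⁻¹ : Matrix ι ι F)) k i = _
  rw [Matrix.diagonal_mul, Cfsg.Agent.Lib.Helper5.GLBruhat.pmat_apply]
  by_cases hik : i = σ k
  · rw [if_pos hik, if_pos (by rw [hik]; simp), mul_one]
  · rw [if_neg hik, if_neg, mul_zero]
    intro hk
    apply hik
    rw [hk]
    simp

theorem c12_det_mono (σ : Equiv.Perm ι) (c : ι → Fˣ) :
    ((c12_mono σ c : GL ι F) : Matrix ι ι F).det =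
      (Cfsg.Agent.Lib.Helper5.GLBruhat.pmat σ : Matrix ι ι F).det * ∏ k, (c k : F) := by
  show ((Cfsg.Agent.Lib.Helper5.GLBruhat.pmat σ : Matrix ι ι F) *
    Matrix.diagonal (fun k => (c k : F))).det = _
  rw [Matrix.det_mul, Matrix.det_diagonal]

end diag

section levi

variable (l : ℕ) (a b : F)

/-- the Levi embedding `GL_{l+1} → Iso(QMn)` -/
noncomputable def c12_P : GL (Fin (l + 1)) F →* ↥(Cfsg.isometryGroup F ⇑(QMn (l + 1) a b)) :=
  (Cfsg.Agent.Lib.Helper5.OrthSum.embL (Q₂ := Cfsg.Agent.Lib.Helper2.OrthSum.bin a b)).comp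
    Cfsg.Agent.Lib.Helper5.PlusLevi.levi

theorem c12_P_coe (A : GL (Fin (l + 1)) F) :
    ((c12_P l a b A : Matrix.GeneralLinearGroup (CI l) F) : Matrix (CI l) (CI l) F) =
      Matrix.fromBlocks (Matrix.fromBlocks (A : Matrix (Fin (l + 1)) (Fin (l + 1)) F) 0 0
        ((A⁻¹ : GL (Fin (l + 1)) F) : Matrix (Fin (l + 1)) (Fin (l + 1)) F)ᵀ) 0 0 1 := rfl

theorem c12_P_ee (A : GL (Fin (l + 1)) F) (w : CI l → F) (i : Fin (l + 1)) :
    (((c12_P l a b A : Matrix.GeneralLinearGroup (CI l) F) : Matrix (CI l) (CI l) F) *ᵥ w)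
      (Sum.inl (Sum.inl i)) =
      ∑ k, (A : Matrix (Fin (l + 1)) (Fin (l + 1)) F) i k * w (Sum.inl (Sum.inl k)) := by
  rw [c12_P_coe]
  simp [Matrix.mulVec, dotProduct, Fintype.sum_sum_type]

theorem c12_P_ff (A : GL (Fin (l + 1)) F) (w : CI l → F) (i : Fin (l + 1)) :
    (((c12_P l a b A : Matrix.GeneralLinearGroup (CI l) F) : Matrix (CI l) (CI l) F) *ᵥ w)
      (Sum.inl (Sum.inr i)) =
      ∑ k, ((A⁻¹ : GL (Fin (l + 1)) F) : Matrix (Fin (l + 1)) (Fin (l + 1)) F) k i *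
        w (Sum.inl (Sum.inr k)) := by
  rw [c12_P_coe]
  simp [Matrix.mulVec, dotProduct, Fintype.sum_sum_type]

theorem c12_P_zz (A : GL (Fin (l + 1)) F) (w : CI l → F) (z : Fin 2) :
    (((c12_P l a b A : Matrix.GeneralLinearGroup (CI l) F) : Matrix (CI l) (CI l) F) *ᵥ w)
      (Sum.inr z) = w (Sum.inr z) := by
  rw [c12_P_coe]
  simp [Matrix.mulVec, dotProduct, Fintype.sum_sum_type, Matrix.one_apply]

/-- a monomial Levi element maps `e_j` to `c_j e_{σ j}` -/
theorem c12_mono_e (σ : Equiv.Perm (Fin (l + 1))) (c : Fin (l + 1) → Fˣ) (j : Fin (l + 1)) :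
    ((c12_P l a b (c12_mono σ c) : Matrix.GeneralLinearGroup (CI l) F) :
      Matrix (CI l) (CI l) F) *ᵥ (Pi.single (Sum.inl (Sum.inl j)) 1 : CI l → F) =
      (c j : F) • (Pi.single (Sum.inl (Sum.inl (σ j))) 1 : CI l → F) := by
  funext x
  rcases x with (i | i) | z
  · rw [c12_P_ee, Finset.sum_eq_single j]
    · rw [c12_mono_apply, Pi.single_eq_same, mul_one, Pi.smul_apply, smul_eq_mul]
      by_cases hi : i = σ j
      · rw [if_pos hi, hi, Pi.single_eq_same, mul_one]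
      · rw [if_neg hi, Pi.single_eq_of_ne, mul_zero]
        intro hh
        exact hi (Sum.inl_injective (Sum.inl_injective hh))
    · intro k _ hk
      rw [Pi.single_eq_of_ne, mul_zero]
      intro hh
      exact hk (Sum.inl_injective (Sum.inl_injective hh))
    · intro hh; exact absurd (Finset.mem_univ j) hh
  · rw [c12_P_ff, Finset.sum_eq_zero]
    · rw [Pi.smul_apply, Pi.single_eq_of_ne (by simp), smul_zero]
    · intro k _
      rw [Pi.single_eq_of_ne (by simp), mul_zero]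
  · rw [c12_P_zz, Pi.smul_apply, Pi.single_eq_of_ne (by simp), Pi.single_eq_of_ne (by simp),
      smul_zero]

/-- a monomial Levi element maps `f_j` to `c_j⁻¹ f_{σ j}` -/
theorem c12_mono_f (σ : Equiv.Perm (Fin (l + 1))) (c : Fin (l + 1) → Fˣ) (j : Fin (l + 1)) :
    ((c12_P l a b (c12_mono σ c) : Matrix.GeneralLinearGroup (CI l) F) :
      Matrix (CI l) (CI l) F) *ᵥ (Pi.single (Sum.inl (Sum.inr j)) 1 : CI l → F) =
      (((c j)⁻¹ : Fˣ) : F) • (Pi.single (Sum.inl (Sum.inr (σ j))) 1 : CI l → F) := by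
  funext x
  rcases x with (i | i) | z
  · rw [c12_P_ee, Finset.sum_eq_zero]
    · rw [Pi.smul_apply, Pi.single_eq_of_ne (by simp), smul_zero]
    · intro k _
      rw [Pi.single_eq_of_ne (by simp), mul_zero]
  · rw [c12_P_ff, Finset.sum_eq_single j]
    · rw [c12_mono_inv_apply, Pi.single_eq_same, mul_one, Pi.smul_apply, smul_eq_mul]
      by_cases hi : i = σ j
      · rw [if_pos hi, hi, Pi.single_eq_same, mul_one]
      · rw [if_neg hi, Pi.single_eq_of_ne, mul_zero]
        intro hh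
        exact hi (Sum.inr_injective (Sum.inl_injective hh))
    · intro k _ hk
      rw [Pi.single_eq_of_ne, mul_zero]
      intro hh
      exact hk (Sum.inr_injective (Sum.inl_injective hh))
    · intro hh; exact absurd (Finset.mem_univ j) hh
  · rw [c12_P_zz, Pi.smul_apply, Pi.single_eq_of_ne (by simp), Pi.single_eq_of_ne (by simp),
      smul_zero]

/-- Levi elements fix the anisotropic plane -/
theorem c12_P_za (A : GL (Fin (l + 1)) F) (s t : F) :
    ((c12_P l a b A : Matrix.GeneralLinearGroup (CI l) F) : Matrix (CI l) (CI l) F) *ᵥ za l s t =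
      za l s t := by
  funext x
  rcases x with (i | i) | z
  · rw [c12_P_ee, Finset.sum_eq_zero]
    · rw [za_inl]
    · intro k _
      rw [za_inl, mul_zero]
  · rw [c12_P_ff, Finset.sum_eq_zero]
    · rw [za_inl]
    · intro k _
      rw [za_inl, mul_zero]
  · rw [c12_P_zz]

theorem c12_ce (j : Fin (l + 1)) :
    (ce l j.val : CI l → F) = Pi.single (Sum.inl (Sum.inl j)) 1 := by
  unfold ce
  rw [dif_pos j.2]

theorem c12_cf (j : Fin (l + 1)) :
    (cf l j.val : CI l → F) = Pi.single (Sum.inl (Sum.inr j)) 1 := by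
  unfold cf
  rw [dif_pos j.2]

variable [Fintype F]

/-- Levi elements of square determinant lie in `Ω` -/
theorem c12_P_mem (hl : 2 ≤ l) (A : GL (Fin (l + 1)) F)
    (hA : IsSquare (A : Matrix (Fin (l + 1)) (Fin (l + 1)) F).det) :
    c12_P l a b A ∈ commutator ↥(Cfsg.isometryGroup F ⇑(QMn (l + 1) a b)) := by
  have hlev : Cfsg.Agent.Lib.Helper5.PlusLevi.levi A ∈
      commutator ↥(Cfsg.isometryGroup F ⇑(Cfsg.Agent.Lib.Helper5.QuadGlue.QP (l + 1) F)) := by
    by_cases h2 : (2 : F) = 0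
    · apply Cfsg.Agent.Lib.Helper5.PlusLevi.levi_mem_even h2 _ (by omega)
      right
      rw [Fintype.card_sum, Fintype.card_fin]
      omega
    · exact (Cfsg.Agent.Lib.Helper5.PlusLevi.levi_mem_iff_odd h2 (by omega) A).2 hA
  exact Cfsg.Agent.Lib.Helper5.OrthSum.map_mem_commutator
    (Cfsg.Agent.Lib.Helper5.OrthSum.embL (Q₂ := Cfsg.Agent.Lib.Helper2.OrthSum.bin a b)) hlev

end levi

/-- PK-C1: the signed cycle -/
theorem exists_cycle [Fintype F] (l : ℕ) (hl : 2 ≤ l) (a b : F) :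
    ∃ (P : ↥(Cfsg.isometryGroup F ⇑(QMn (l + 1) a b))) (d : F), d ≠ 0 ∧
      P ∈ commutator ↥(Cfsg.isometryGroup F ⇑(QMn (l + 1) a b)) ∧
      (∀ k, k < l → ((P : Matrix.GeneralLinearGroup (CI l) F) : Matrix (CI l) (CI l) F) *ᵥ ce l k =
        ce l (k + 1)) ∧
      (∀ k, k < l → ((P : Matrix.GeneralLinearGroup (CI l) F) : Matrix (CI l) (CI l) F) *ᵥ cf l k =
        cf l (k + 1)) ∧
      ((P : Matrix.GeneralLinearGroup (CI l) F) : Matrix (CI l) (CI l) F) *ᵥ ce l l = d • ce l 0 ∧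
      ((P : Matrix.GeneralLinearGroup (CI l) F) : Matrix (CI l) (CI l) F) *ᵥ cf l l =
        d⁻¹ • cf l 0 ∧
      ∀ s t : F, ((P : Matrix.GeneralLinearGroup (CI l) F) : Matrix (CI l) (CI l) F) *ᵥ za l s t =
        za l s t := by
  classical
  set σ : Equiv.Perm (Fin (l + 1)) := finRotate (l + 1) with hσ
  set δ : Fˣ := Matrix.GeneralLinearGroup.det
    (Cfsg.Agent.Lib.Helper5.GLBruhat.permGL σ : GL (Fin (l + 1)) F) with hδ
  have hδv : (δ : F) = (Cfsg.Agent.Lib.Helper5.GLBruhat.pmat σ :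
      Matrix (Fin (l + 1)) (Fin (l + 1)) F).det := rfl
  set c : Fin (l + 1) → Fˣ := fun k => if k = Fin.last l then δ else 1 with hc
  have hdet : IsSquare ((c12_mono σ c : GL (Fin (l + 1)) F) :
      Matrix (Fin (l + 1)) (Fin (l + 1)) F).det := by
    refine ⟨(δ : F), ?_⟩
    rw [c12_det_mono, ← hδv]
    congr 1
    have : ∀ k, ((c k : Fˣ) : F) = if k = Fin.last l then (δ : F) else 1 := by
      intro k
      rw [hc]
      simp only []
      split_ifs <;> simp
    simp only [this]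
    rw [Finset.prod_ite_eq' Finset.univ (Fin.last l) (fun _ => (δ : F)), if_pos (Finset.mem_univ _)]
  refine ⟨c12_P l a b (c12_mono σ c), (δ : F), δ.ne_zero, c12_P_mem l a b hl _ hdet, ?_, ?_, ?_, ?_,
    fun s t => c12_P_za l a b _ s t⟩
  · intro k hk
    have h1 : (ce l k : CI l → F) = Pi.single (Sum.inl (Sum.inl ⟨k, by omega⟩)) 1 :=
      c12_ce l ⟨k, by omega⟩
    have h2 : (ce l (k + 1) : CI l → F) = Pi.single (Sum.inl (Sum.inl ⟨k + 1, by omega⟩)) 1 :=
      c12_ce l ⟨k + 1, by omega⟩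
    rw [h1, h2, c12_mono_e]
    have h3 : σ ⟨k, by omega⟩ = ⟨k + 1, by omega⟩ := finRotate_of_lt hk
    have h4 : c ⟨k, by omega⟩ = 1 := by
      rw [hc]
      simp only []
      rw [if_neg]
      intro hh
      have := congrArg Fin.val hh
      simp at this
      omega
    rw [h3, h4, Units.val_one, one_smul]
  · intro k hk
    have h1 : (cf l k : CI l → F) = Pi.single (Sum.inl (Sum.inr ⟨k, by omega⟩)) 1 :=
      c12_cf l ⟨k, by omega⟩
    have h2 : (cf l (k + 1) : CI l → F) = Pi.single (Sum.inl (Sum.inr ⟨k + 1, by omega⟩)) 1 :=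
      c12_cf l ⟨k + 1, by omega⟩
    rw [h1, h2, c12_mono_f]
    have h3 : σ ⟨k, by omega⟩ = ⟨k + 1, by omega⟩ := finRotate_of_lt hk
    have h4 : c ⟨k, by omega⟩ = 1 := by
      rw [hc]
      simp only []
      rw [if_neg]
      intro hh
      have := congrArg Fin.val hh
      simp at this
      omega
    rw [h3, h4, inv_one, Units.val_one, one_smul]
  · have h1 : (ce l l : CI l → F) = Pi.single (Sum.inl (Sum.inl (Fin.last l))) 1 :=
      c12_ce l (Fin.last l)
    have h2 : (ce l 0 : CI l → F) = Pi.single (Sum.inl (Sum.inl 0)) 1 := c12_ce l 0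
    rw [h1, h2, c12_mono_e]
    have h3 : σ (Fin.last l) = 0 := finRotate_last
    have h4 : c (Fin.last l) = δ := if_pos rfl
    rw [h3, h4]
  · have h1 : (cf l l : CI l → F) = Pi.single (Sum.inl (Sum.inr (Fin.last l))) 1 :=
      c12_cf l (Fin.last l)
    have h2 : (cf l 0 : CI l → F) = Pi.single (Sum.inl (Sum.inr 0)) 1 := c12_cf l 0
    rw [h1, h2, c12_mono_f]
    have h3 : σ (Fin.last l) = 0 := finRotate_last
    have h4 : c (Fin.last l) = δ := if_pos rfl
    rw [h3, h4, Units.val_inv_eq_inv_val]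

/-- PK-C2: the torus element -/
theorem exists_torus [Fintype F] (l : ℕ) (hl : 2 ≤ l) (a b lam : F) (hlam : lam ≠ 0) :
    ∃ h : ↥(Cfsg.isometryGroup F ⇑(QMn (l + 1) a b)),
      h ∈ commutator ↥(Cfsg.isometryGroup F ⇑(QMn (l + 1) a b)) ∧
      ((h : Matrix.GeneralLinearGroup (CI l) F) : Matrix (CI l) (CI l) F) *ᵥ ce l 0 = lam • ce l 0 ∧
      ((h : Matrix.GeneralLinearGroup (CI l) F) : Matrix (CI l) (CI l) F) *ᵥ cf l 0 =
        lam⁻¹ • cf l 0 ∧
      ((h : Matrix.GeneralLinearGroup (CI l) F) : Matrix (CI l) (CI l) F) *ᵥ ce l 1 = lam • ce l 1 ∧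
      ((h : Matrix.GeneralLinearGroup (CI l) F) : Matrix (CI l) (CI l) F) *ᵥ cf l 1 =
        lam⁻¹ • cf l 1 ∧
      (∀ k, 2 ≤ k →
        ((h : Matrix.GeneralLinearGroup (CI l) F) : Matrix (CI l) (CI l) F) *ᵥ ce l k = ce l k ∧
        ((h : Matrix.GeneralLinearGroup (CI l) F) : Matrix (CI l) (CI l) F) *ᵥ cf l k = cf l k) ∧
      (∀ s t : F, ((h : Matrix.GeneralLinearGroup (CI l) F) : Matrix (CI l) (CI l) F) *ᵥ za l s t =
        za l s t) ∧
      h ^ (Fintype.card F - 1) = 1 := by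
  classical
  obtain ⟨r, rfl⟩ : ∃ r, l = r + 2 := ⟨l - 2, by omega⟩
  set lu : Fˣ := Units.mk0 lam hlam with hlu
  set c : Fin (r + 2 + 1) → Fˣ := fun k => if k.val < 2 then lu else 1 with hc
  have hmono : (c12_mono (1 : Equiv.Perm (Fin (r + 2 + 1))) c : GL (Fin (r + 2 + 1)) F) =
      c12_diag c := by
    unfold c12_mono
    rw [map_one, one_mul]
  have hdet : IsSquare ((c12_mono (1 : Equiv.Perm (Fin (r + 2 + 1))) c : GL (Fin (r + 2 + 1)) F) :
      Matrix (Fin (r + 2 + 1)) (Fin (r + 2 + 1)) F).det := by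
    refine ⟨lam, ?_⟩
    rw [hmono, c12_diag_coe, Matrix.det_diagonal, Fin.prod_univ_succ, Fin.prod_univ_succ,
      Finset.prod_eq_one, mul_one]
    · rw [hc]
      simp [hlu]
    · intro k _
      rw [hc]
      simp
  refine ⟨c12_P (r + 2) a b (c12_mono 1 c), c12_P_mem (r + 2) a b hl _ hdet, ?_, ?_, ?_, ?_, ?_,
    fun s t => c12_P_za (r + 2) a b _ s t, ?_⟩
  · have h1 : (ce (r + 2) 0 : CI (r + 2) → F) = Pi.single (Sum.inl (Sum.inl 0)) 1 :=
      c12_ce (r + 2) 0
    rw [h1, c12_mono_e]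
    have h4 : c 0 = lu := by rw [hc]; simp
    rw [h4]
    rfl
  · have h1 : (cf (r + 2) 0 : CI (r + 2) → F) = Pi.single (Sum.inl (Sum.inr 0)) 1 :=
      c12_cf (r + 2) 0
    rw [h1, c12_mono_f]
    have h4 : c 0 = lu := by rw [hc]; simp
    rw [h4, Units.val_inv_eq_inv_val]
    rfl
  · have h1 : (ce (r + 2) 1 : CI (r + 2) → F) = Pi.single (Sum.inl (Sum.inl 1)) 1 := by
      have := c12_ce (F := F) (r + 2) 1
      simpa using this
    rw [h1, c12_mono_e]
    have h4 : c 1 = lu := by rw [hc]; simp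
    rw [h4]
    rfl
  · have h1 : (cf (r + 2) 1 : CI (r + 2) → F) = Pi.single (Sum.inl (Sum.inr 1)) 1 := by
      have := c12_cf (F := F) (r + 2) 1
      simpa using this
    rw [h1, c12_mono_f]
    have h4 : c 1 = lu := by rw [hc]; simp
    rw [h4, Units.val_inv_eq_inv_val]
    rfl
  · intro k hk
    by_cases hkl : k < r + 2 + 1
    · have h1 : (ce (r + 2) k : CI (r + 2) → F) = Pi.single (Sum.inl (Sum.inl ⟨k, hkl⟩)) 1 :=
        c12_ce (r + 2) ⟨k, hkl⟩
      have h2 : (cf (r + 2) k : CI (r + 2) → F) = Pi.single (Sum.inl (Sum.inr ⟨k, hkl⟩)) 1 :=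
        c12_cf (r + 2) ⟨k, hkl⟩
      have h4 : c ⟨k, hkl⟩ = 1 := by
        rw [hc]
        simp only []
        rw [if_neg (by omega)]
      rw [h1, h2, c12_mono_e, c12_mono_f, h4, inv_one, Units.val_one, one_smul, one_smul]
      exact ⟨rfl, rfl⟩
    · have h1 : (ce (r + 2) k : CI (r + 2) → F) = 0 := by
        unfold ce
        rw [dif_neg hkl]
      have h2 : (cf (r + 2) k : CI (r + 2) → F) = 0 := by
        unfold cf
        rw [dif_neg hkl]
      rw [h1, h2, Matrix.mulVec_zero]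
      exact ⟨rfl, rfl⟩
  · rw [← map_pow, hmono, ← map_pow]
    have : c ^ (Fintype.card F - 1) = 1 := by
      funext k
      rw [Pi.pow_apply, Pi.one_apply, ← Fintype.card_units]
      exact pow_card_eq_one
    rw [this, map_one, map_one]

end Cfsg.Agent.Lib.Helper7.OmTwo
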