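import Mathlib
import Cfsg.Prelude.Def_GeometricClasses
import Cfsg.Agent.Lib.Helper7.SpSubDefs
import Cfsg.Agent.Lib.Helper7.Subg_N
import Cfsg.Agent.Lib.Helper7.SpSub_TR
import Cfsg.Agent.Lib.Helper7.SpSubBridge
import Cfsg.Agent.Lib.Helper5.AltForm

set_option autoImplicit false
set_option linter.unusedSectionVars false
set_option linter.unusedVariables false

/-!
# S5650 PK-Fin1: reduction to the standard rational structure
-/

namespace Cfsg.Agent.Lib.Helper7.SpSub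

open Matrix Cfsg.Agent.Lib.Helper1.SpBasic Cfsg.Agent.Lib.Helper2.Symp Cfsg.Agent.Lib.Helper7.Subg

variable {F : Type*} [Field F] {m : ℕ}

namespace PkFin1

/-- coercion of a vector over the subfield. -/
def up (F₀ : Subfield F) (u : Fin m ⊕ Fin m → F₀) : Fin m ⊕ Fin m → F := fun i => (u i : F)

theorem up_add (F₀ : Subfield F) (u v : Fin m ⊕ Fin m → F₀) : up F₀ (u + v) = up F₀ u + up F₀ v := by
  funext i; simp [up]

theorem up_smul (F₀ : Subfield F) (c : F₀) (u : Fin m ⊕ Fin m → F₀) :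
    up F₀ (c • u) = (c : F) • up F₀ u := by
  funext i; simp [up]

theorem up_single (F₀ : Subfield F) (j : Fin m ⊕ Fin m) :
    up F₀ (Pi.single j (1 : F₀)) = Pi.single j (1 : F) := by
  funext i
  by_cases h : i = j
  · subst h; simp [up]
  · simp [up, Pi.single_eq_of_ne h]

theorem up_eq_zero (F₀ : Subfield F) {u : Fin m ⊕ Fin m → F₀} (h : up F₀ u = 0) : u = 0 := by
  funext i
  apply Subtype.ext
  exact congrFun h i

theorem form_mulVec_eq (M : Matrix (Fin m ⊕ Fin m) (Fin m ⊕ Fin m) F) (u v : Fin m ⊕ Fin m → F) :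
    Cfsg.sympForm m F (M *ᵥ u) (M *ᵥ v) = u ⬝ᵥ ((Mᵀ * Matrix.J (Fin m) F * M) *ᵥ v) := by
  unfold Cfsg.sympForm
  rw [Matrix.mulVec_mulVec, ← Matrix.vecMul_transpose M u, ← Matrix.dotProduct_mulVec,
    Matrix.mulVec_mulVec, ← Matrix.mul_assoc]

theorem entry_eq (M : Matrix (Fin m ⊕ Fin m) (Fin m ⊕ Fin m) F) (x y : Fin m ⊕ Fin m) :
    (Mᵀ * Matrix.J (Fin m) F * M) x y =
      Cfsg.sympForm m F (M *ᵥ Pi.single x 1) (M *ᵥ Pi.single y 1) := by
  rw [form_mulVec_eq, Matrix.mulVec_single_one, single_one_dotProduct]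
  rfl

/-- the value of the rational form. -/
def g (F₀ : Subfield F) (P : GL (Fin m ⊕ Fin m) F) (ζ : F)
    (hP : Cfsg.Geo.IsFormRationalStructure (Cfsg.sympForm m F) F₀ ζ P)
    (u v : Fin m ⊕ Fin m → F₀) : F₀ :=
  ⟨ζ * Cfsg.sympForm m F ((P : Matrix (Fin m ⊕ Fin m) (Fin m ⊕ Fin m) F) *ᵥ up F₀ u)
      ((P : Matrix (Fin m ⊕ Fin m) (Fin m ⊕ Fin m) F) *ᵥ up F₀ v),
    hP (up F₀ u) (up F₀ v) (fun i => (u i).2) (fun i => (v i).2)⟩

theorem coe_g (F₀ : Subfield F) (P : GL (Fin m ⊕ Fin m) F) (ζ : F)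
    (hP : Cfsg.Geo.IsFormRationalStructure (Cfsg.sympForm m F) F₀ ζ P)
    (u v : Fin m ⊕ Fin m → F₀) :
    ((g F₀ P ζ hP u v : F₀) : F) =
      ζ * Cfsg.sympForm m F ((P : Matrix (Fin m ⊕ Fin m) (Fin m ⊕ Fin m) F) *ᵥ up F₀ u)
        ((P : Matrix (Fin m ⊕ Fin m) (Fin m ⊕ Fin m) F) *ᵥ up F₀ v) := rfl

/-- the rational form as a bilinear form over the subfield. -/
def B0 (F₀ : Subfield F) (P : GL (Fin m ⊕ Fin m) F) (ζ : F)
    (hP : Cfsg.Geo.IsFormRationalStructure (Cfsg.sympForm m F) F₀ ζ P) :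
    LinearMap.BilinForm F₀ (Fin m ⊕ Fin m → F₀) :=
  LinearMap.mk₂ F₀ (g F₀ P ζ hP)
    (fun u u' v => Subtype.ext (by
      rw [Subfield.coe_add, coe_g, coe_g, coe_g, up_add, Matrix.mulVec_add, sympForm_add_left]
      ring))
    (fun c u v => Subtype.ext (by
      rw [smul_eq_mul, Subfield.coe_mul, coe_g, coe_g, up_smul, Matrix.mulVec_smul,
        sympForm_smul_left]
      ring))
    (fun u v v' => Subtype.ext (by
      rw [Subfield.coe_add, coe_g, coe_g, coe_g, up_add, Matrix.mulVec_add, sympForm_add_right]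
      ring))
    (fun c u v => Subtype.ext (by
      rw [smul_eq_mul, Subfield.coe_mul, coe_g, coe_g, up_smul, Matrix.mulVec_smul,
        sympForm_smul_right]
      ring))

theorem B0_apply (F₀ : Subfield F) (P : GL (Fin m ⊕ Fin m) F) (ζ : F)
    (hP : Cfsg.Geo.IsFormRationalStructure (Cfsg.sympForm m F) F₀ ζ P)
    (u v : Fin m ⊕ Fin m → F₀) : B0 F₀ P ζ hP u v = g F₀ P ζ hP u v := rfl

theorem coe_J (F₀ : Subfield F) (x y : Fin m ⊕ Fin m) :
    ((Matrix.J (Fin m) F₀ x y : F₀) : F) = Matrix.J (Fin m) F x y := by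
  rcases x with i | i <;> rcases y with j | j
  · simp [Matrix.J]
  · simp only [Matrix.J, Matrix.fromBlocks_apply₁₂, Matrix.neg_apply, Matrix.one_apply]
    split_ifs <;> simp
  · simp only [Matrix.J, Matrix.fromBlocks_apply₂₁, Matrix.one_apply]
    split_ifs <;> simp
  · simp [Matrix.J]

end PkFin1

open PkFin1 in
theorem exists_std_structure (F₀ : Subfield F) (P : GL (Fin m ⊕ Fin m) F) (ζ : F) (hζ : ζ ≠ 0)
    (hP : Cfsg.Geo.IsFormRationalStructure (Cfsg.sympForm m F) F₀ ζ P) :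
    ∃ Q : GL (Fin m ⊕ Fin m) F, RatMat F₀ (Q : Matrix (Fin m ⊕ Fin m) (Fin m ⊕ Fin m) F) ∧
      ∀ u v : Fin m ⊕ Fin m → F,
        ζ * Cfsg.sympForm m F (((P * Q : GL (Fin m ⊕ Fin m) F) : Matrix (Fin m ⊕ Fin m) (Fin m ⊕ Fin m) F) *ᵥ u)
          (((P * Q : GL (Fin m ⊕ Fin m) F) : Matrix (Fin m ⊕ Fin m) (Fin m ⊕ Fin m) F) *ᵥ v) =
        Cfsg.sympForm m F u v := by
  classical
  have hPdet : (P : Matrix (Fin m ⊕ Fin m) (Fin m ⊕ Fin m) F).det ≠ 0 :=
    (Matrix.isUnits_det_units P).ne_zero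
  have hAlt : (B0 F₀ P ζ hP).IsAlt := by
    intro x
    apply Subtype.ext
    rw [B0_apply, coe_g, sympForm_self, mul_zero]
    rfl
  have hnd : ∀ x, (∀ y, B0 F₀ P ζ hP x y = 0) → x = 0 := by
    intro x hx
    apply up_eq_zero F₀
    apply Matrix.eq_zero_of_mulVec_eq_zero hPdet
    set a := (P : Matrix (Fin m ⊕ Fin m) (Fin m ⊕ Fin m) F) *ᵥ up F₀ x with ha
    have hJP : (Matrix.J (Fin m) F * (P : Matrix (Fin m ⊕ Fin m) (Fin m ⊕ Fin m) F)).det ≠ 0 := by
      rw [Matrix.det_mul]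
      exact mul_ne_zero (Matrix.isUnit_det_J (l := Fin m) (R := F)).ne_zero hPdet
    apply Matrix.eq_zero_of_vecMul_eq_zero hJP
    funext j
    have h1 := hx (Pi.single j 1)
    have h2 := congrArg Subtype.val h1
    rw [B0_apply, coe_g, up_single] at h2
    have h3 : Cfsg.sympForm m F a
        ((P : Matrix (Fin m ⊕ Fin m) (Fin m ⊕ Fin m) F) *ᵥ Pi.single j 1) = 0 := by
      rcases mul_eq_zero.1 h2 with h | h
      · exact absurd h hζ
      · exact h
    unfold Cfsg.sympForm at h3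
    rw [Matrix.mulVec_mulVec, Matrix.dotProduct_mulVec, dotProduct_single_one] at h3
    exact h3
  obtain ⟨m', b, hm', hb⟩ := Cfsg.Agent.Lib.Helper5.AltForm.exists_symplectic_basis hAlt hnd
  have hmm : m' = m := by
    rw [Module.finrank_fintype_fun_eq_card, Fintype.card_sum, Fintype.card_fin] at hm'
    omega
  subst hmm
  -- the matrix of the basis
  let Q₀ : Matrix (Fin m' ⊕ Fin m') (Fin m' ⊕ Fin m') F₀ := fun i j => b j i
  have hQ₀ : Q₀ = (Pi.basisFun F₀ (Fin m' ⊕ Fin m')).toMatrix b := by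
    ext i j
    rw [Module.Basis.toMatrix_apply, Pi.basisFun_repr]
  have hdet0 : Q₀.det ≠ 0 := by
    rw [hQ₀]
    have : Invertible ((Pi.basisFun F₀ (Fin m' ⊕ Fin m')).toMatrix b) :=
      Module.Basis.invertibleToMatrix (Pi.basisFun F₀ (Fin m' ⊕ Fin m')) b
    exact (Matrix.isUnit_det_of_invertible _).ne_zero
  let Q : Matrix (Fin m' ⊕ Fin m') (Fin m' ⊕ Fin m') F := F₀.subtype.mapMatrix Q₀
  have hQdet : Q.det ≠ 0 := by
    show (F₀.subtype.mapMatrix Q₀).det ≠ 0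
    rw [← RingHom.map_det]
    intro h
    apply hdet0
    exact Subtype.ext h
  have hQcol : ∀ x : Fin m' ⊕ Fin m', Q *ᵥ Pi.single x 1 = up F₀ (b x) := by
    intro x
    rw [Matrix.mulVec_single_one]
    funext i
    rfl
  refine ⟨Matrix.GeneralLinearGroup.mkOfDetNeZero Q hQdet, ?_, ?_⟩
  · intro i j
    show Q i j ∈ F₀
    exact (b j i).2
  · have hcoe : (((P * Matrix.GeneralLinearGroup.mkOfDetNeZero Q hQdet : GL (Fin m' ⊕ Fin m') F)) :
        Matrix (Fin m' ⊕ Fin m') (Fin m' ⊕ Fin m') F) =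
        (P : Matrix (Fin m' ⊕ Fin m') (Fin m' ⊕ Fin m') F) * Q := rfl
    rw [hcoe]
    set M := (P : Matrix (Fin m' ⊕ Fin m') (Fin m' ⊕ Fin m') F) * Q with hM
    have hkey : ζ • (Mᵀ * Matrix.J (Fin m') F * M) = Matrix.J (Fin m') F := by
      ext x y
      rw [Matrix.smul_apply, entry_eq, hM, ← Matrix.mulVec_mulVec, ← Matrix.mulVec_mulVec,
        hQcol, hQcol, smul_eq_mul, ← coe_g F₀ P ζ hP, ← B0_apply, hb, coe_J]
    intro u v
    rw [form_mulVec_eq, ← smul_eq_mul, ← dotProduct_smul, ← Matrix.smul_mulVec, hkey]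
    rfl

end Cfsg.Agent.Lib.Helper7.SpSub
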