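import Mathlib
import Cfsg.Prelude.Def_GeometricClasses
import Cfsg.Agent.Lib.Helper7.SpSubDefs
import Cfsg.Agent.Lib.Helper7.Subg_N
import Cfsg.Agent.Lib.Helper7.SpSub_TR
import Cfsg.Agent.Lib.Helper7.SpSubBridge

set_option autoImplicit false
set_option linter.unusedSectionVars false
set_option linter.unusedVariables false

/-!
# S5650 PK-I: the coefficient set `AL` is a subfield
-/

namespace Cfsg.Agent.Lib.Helper7.SpSub

open Matrix Cfsg.Agent.Lib.Helper1.SpBasic Cfsg.Agent.Lib.Helper2.Symp Cfsg.Agent.Lib.Helper7.Subg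

variable {F : Type*} [Field F] {m : ℕ}

namespace PkI

theorem zero_mem (F₀ : Subfield F) (M : Subgroup (Matrix.symplecticGroup (Fin m) F)) :
    (0 : F) ∈ AL F₀ M := by
  intro v _
  rw [T_zero]
  exact M.one_mem

theorem of_mem {F₀ : Subfield F} {M : Subgroup (Matrix.symplecticGroup (Fin m) F)}
    (hT : HasRatT F₀ M) {a : F} (ha : a ∈ F₀) : a ∈ AL F₀ M := fun v hv => hT v hv a ha

theorem add_mem {F₀ : Subfield F} {M : Subgroup (Matrix.symplecticGroup (Fin m) F)} {a b : F}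
    (ha : a ∈ AL F₀ M) (hb : b ∈ AL F₀ M) : a + b ∈ AL F₀ M := by
  intro v hv
  rw [← T_add]
  exact M.mul_mem (ha v hv) (hb v hv)

theorem neg_mem {F₀ : Subfield F} {M : Subgroup (Matrix.symplecticGroup (Fin m) F)} {a : F}
    (ha : a ∈ AL F₀ M) : -a ∈ AL F₀ M := by
  intro v hv
  rw [← T_inv]
  exact M.inv_mem (ha v hv)

theorem sub_mem {F₀ : Subfield F} {M : Subgroup (Matrix.symplecticGroup (Fin m) F)} {a b : F}
    (ha : a ∈ AL F₀ M) (hb : b ∈ AL F₀ M) : a - b ∈ AL F₀ M := by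
  rw [sub_eq_add_neg]
  exact add_mem ha (neg_mem hb)

/-- the commutator computation. -/
theorem y_mem {F₀ : Subfield F} {M : Subgroup (Matrix.symplecticGroup (Fin m) F)} {a b : F}
    (ha : a ∈ AL F₀ M) (hb : b ∈ AL F₀ M) (u u' z : Fin m ⊕ Fin m → F) (hu : Rat F₀ u)
    (hu' : Rat F₀ u') (hz : Rat F₀ z) (h : Cfsg.sympForm m F u u' = 0)
    (hz0 : Cfsg.sympForm m F z u = 0) (hzu' : Cfsg.sympForm m F z u' = -1) :
    sig z u (-(a * b)) * T u (a * a * b) ∈ M := by
  have h1 : sig u u' a ∈ M := sig_mem (ha _ (hu.add hu')) (ha _ hu) (ha _ hu')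
  have h2 : T z b ∈ M := hb z hz
  have h3 := sig_T_comm u u' z h hz0 a b
  rw [hzu'] at h3
  have e1 : a * -1 * b = -(a * b) := by ring
  have e2 : a * -1 * (a * -1) * b = a * a * b := by ring
  rw [e1, e2] at h3
  rw [← h3]
  exact M.mul_mem (M.mul_mem (M.mul_mem h1 h2) (M.inv_mem h1)) (M.inv_mem h2)

theorem single_inl_inr (i j : Fin m) :
    (Pi.single (Sum.inl i) (1 : F) : Fin m ⊕ Fin m → F) (Sum.inr j) = 0 := by
  rw [Pi.single_apply, if_neg]
  exact fun h => by cases h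

theorem single_inl_inl (i j : Fin m) (h : j ≠ i) :
    (Pi.single (Sum.inl i) (1 : F) : Fin m ⊕ Fin m → F) (Sum.inl j) = 0 := by
  rw [Pi.single_apply, if_neg]
  intro e
  exact h (Sum.inl_injective e)

/-- the key closure property. -/
theorem sq_mul_mem (hm : 3 ≤ m) {F₀ : Subfield F} {M : Subgroup (Matrix.symplecticGroup (Fin m) F)}
    (hT : HasRatT F₀ M) {a b : F} (ha : a ∈ AL F₀ M) (hb : b ∈ AL F₀ M) :
    a * a * b ∈ AL F₀ M := by
  let i1 : Fin m := ⟨0, by omega⟩
  let i2 : Fin m := ⟨1, by omega⟩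
  let i3 : Fin m := ⟨2, by omega⟩
  have h12 : i2 ≠ i1 := by intro e; have := congrArg Fin.val e; simp [i1, i2] at this
  have h13 : i3 ≠ i1 := by intro e; have := congrArg Fin.val e; simp [i1, i3] at this
  have h23 : i3 ≠ i2 := by intro e; have := congrArg Fin.val e; simp [i2, i3] at this
  set u : Fin m ⊕ Fin m → F := Pi.single (Sum.inl i1) 1 with hu
  set e2 : Fin m ⊕ Fin m → F := Pi.single (Sum.inl i2) 1 with he2
  set e3 : Fin m ⊕ Fin m → F := Pi.single (Sum.inl i3) 1 with he3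
  set f2 : Fin m ⊕ Fin m → F := Pi.single (Sum.inr i2) 1 with hf2
  set f3 : Fin m ⊕ Fin m → F := Pi.single (Sum.inr i3) 1 with hf3
  have ru : Rat F₀ u := Rat.single F₀ _ F₀.one_mem
  have re2 : Rat F₀ e2 := Rat.single F₀ _ F₀.one_mem
  have re3 : Rat F₀ e3 := Rat.single F₀ _ F₀.one_mem
  have rf2 : Rat F₀ f2 := Rat.single F₀ _ F₀.one_mem
  have rf3 : Rat F₀ f3 := Rat.single F₀ _ F₀.one_mem
  -- form values
  have b_u_f2 : Cfsg.sympForm m F u f2 = 0 := by
    rw [hf2, sympForm_single_inr, hu, single_inl_inl _ _ h12, neg_zero]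
  have b_u_f3 : Cfsg.sympForm m F u f3 = 0 := by
    rw [hf3, sympForm_single_inr, hu, single_inl_inl _ _ h13, neg_zero]
  have b_e2_u : Cfsg.sympForm m F e2 u = 0 := by
    rw [hu, sympForm_single_inl, he2, single_inl_inr]
  have b_e3_u : Cfsg.sympForm m F e3 u = 0 := by
    rw [hu, sympForm_single_inl, he3, single_inl_inr]
  have b_u_e2 : Cfsg.sympForm m F u e2 = 0 := by
    rw [he2, sympForm_single_inl, hu, single_inl_inr]
  have b_u_e3 : Cfsg.sympForm m F u e3 = 0 := by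
    rw [he3, sympForm_single_inl, hu, single_inl_inr]
  have b_e3_e2 : Cfsg.sympForm m F e3 e2 = 0 := by
    rw [he2, sympForm_single_inl, he3, single_inl_inr]
  have b_e2_f2 : Cfsg.sympForm m F e2 f2 = -1 := by
    rw [hf2, sympForm_single_inr, he2, Pi.single_eq_same]
  have b_e3_f3 : Cfsg.sympForm m F e3 f3 = -1 := by
    rw [hf3, sympForm_single_inr, he3, Pi.single_eq_same]
  have b_e3_f2 : Cfsg.sympForm m F e3 f2 = 0 := by
    rw [hf2, sympForm_single_inr, he3, single_inl_inl _ _ (Ne.symm h23), neg_zero]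
  have b_e23_u : Cfsg.sympForm m F (e2 + e3) u = 0 := by
    rw [sympForm_add_left, b_e2_u, b_e3_u, add_zero]
  have b_u_e23 : Cfsg.sympForm m F u (e2 + e3) = 0 := by
    rw [sympForm_add_right, b_u_e2, b_u_e3, add_zero]
  have b_e23_f2 : Cfsg.sympForm m F (e2 + e3) f2 = -1 := by
    rw [sympForm_add_left, b_e2_f2, b_e3_f2, add_zero]
  -- the three elements
  have hY2 := y_mem ha hb u f2 e2 ru rf2 re2 b_u_f2 b_e2_u b_e2_f2
  have hY3 := y_mem ha hb u f3 e3 ru rf3 re3 b_u_f3 b_e3_u b_e3_f3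
  have hY23 := y_mem ha hb u f2 (e2 + e3) ru rf2 (re2.add re3) b_u_f2 b_e23_u b_e23_f2
  rw [sig_symm e2 u b_e2_u] at hY2
  rw [sig_symm e3 u b_e3_u] at hY3
  rw [sig_symm (e2 + e3) u b_e23_u] at hY23
  set c : F := -(a * b) with hc
  set d : F := a * a * b with hd
  have hc3 : T u d * sig u e3 c = sig u e3 c * T u d := T_mul_sig_comm u e3 b_u_e3 c d
  have hc23 : T u d * sig u (e2 + e3) c = sig u (e2 + e3) c * T u d :=
    T_mul_sig_comm u (e2 + e3) b_u_e23 c d
  have hm23 : sig u e2 c * sig u e3 c = sig u (e2 + e3) c := by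
    rw [sig_mul_sig u e2 e3 b_u_e2 b_u_e3 c, b_e3_e2, mul_zero, T_zero, mul_one]
  have hX : T u d * (sig u (e2 + e3) c * T u d) = (sig u (e2 + e3) c * T u d) * T u d := by
    rw [← mul_assoc, hc23]
  have hkey : (sig u e2 c * T u d) * (sig u e3 c * T u d) * (sig u (e2 + e3) c * T u d)⁻¹ = T u d := by
    calc (sig u e2 c * T u d) * (sig u e3 c * T u d) * (sig u (e2 + e3) c * T u d)⁻¹
        = sig u e2 c * (T u d * sig u e3 c) * T u d * (sig u (e2 + e3) c * T u d)⁻¹ := by group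
      _ = sig u e2 c * (sig u e3 c * T u d) * T u d * (sig u (e2 + e3) c * T u d)⁻¹ := by rw [hc3]
      _ = (sig u e2 c * sig u e3 c) * T u d * T u d * (sig u (e2 + e3) c * T u d)⁻¹ := by group
      _ = (sig u (e2 + e3) c * T u d) * T u d * (sig u (e2 + e3) c * T u d)⁻¹ := by rw [hm23]
      _ = T u d * (sig u (e2 + e3) c * T u d) * (sig u (e2 + e3) c * T u d)⁻¹ := by rw [hX]
      _ = T u d := by group
  have hTu : T u d ∈ M := by
    rw [← hkey]
    exact M.mul_mem (M.mul_mem hY2 hY3) (M.inv_mem hY23)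
  -- all rational vectors
  intro v hv
  by_cases hv0 : v = 0
  · rw [hv0, T_zero_left]
    exact M.one_mem
  · have hu0 : u ≠ 0 := by
      intro e
      have := congrFun e (Sum.inl i1)
      rw [hu, Pi.single_eq_same] at this
      exact one_ne_zero this
    obtain ⟨A, hA, hAu⟩ := tr_vec F₀ u v ru hv hu0 hv0
    have hAM : A ∈ M := rr_le hT hA
    have := conj_T A u d
    rw [hAu] at this
    rw [← this]
    exact M.mul_mem (M.mul_mem hAM hTu) (M.inv_mem hAM)

theorem pow_mem (hm : 3 ≤ m) {F₀ : Subfield F} {M : Subgroup (Matrix.symplecticGroup (Fin m) F)}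
    (hT : HasRatT F₀ M) {a : F} (ha : a ∈ AL F₀ M) : ∀ k : ℕ, a ^ k ∈ AL F₀ M := by
  intro k
  induction k using Nat.strong_induction_on with
  | _ k ih =>
    match k with
    | 0 => rw [pow_zero]; exact of_mem hT F₀.one_mem
    | 1 => rw [pow_one]; exact ha
    | (k + 2) =>
      have h1 := ih k (by omega)
      have h2 := sq_mul_mem hm hT ha h1
      have e : a ^ (k + 2) = a * a * a ^ k := by ring
      rw [e]
      exact h2

theorem mul_mem [Finite F] (hm : 3 ≤ m) {F₀ : Subfield F}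
    {M : Subgroup (Matrix.symplecticGroup (Fin m) F)}
    (hT : HasRatT F₀ M) {a b : F} (ha : a ∈ AL F₀ M) (hb : b ∈ AL F₀ M) : a * b ∈ AL F₀ M := by
  by_cases h2 : (2 : F) = 0
  · -- characteristic two
    have : Fintype F := Fintype.ofFinite F
    have : CharP F 2 := CharTwo.of_one_ne_zero_of_two_eq_zero one_ne_zero h2
    obtain ⟨n, hp, hn⟩ := FiniteField.card F 2
    have h1 : a ^ Fintype.card F = a := FiniteField.pow_card a
    have hn1 : (n : ℕ) = ((n : ℕ) - 1) + 1 := by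
      have := n.pos
      omega
    have e : a = a ^ (2 ^ ((n : ℕ) - 1)) * a ^ (2 ^ ((n : ℕ) - 1)) := by
      conv_lhs => rw [← h1, hn, hn1, pow_succ, pow_mul, pow_two]
    have hs := pow_mem hm hT ha (2 ^ ((n : ℕ) - 1))
    rw [e]
    exact sq_mul_mem hm hT hs hb
  · -- odd characteristic
    have h1 : (1 : F) ∈ AL F₀ M := of_mem hT F₀.one_mem
    have h3 : (a + 1) * (a + 1) * b ∈ AL F₀ M := sq_mul_mem hm hT (add_mem ha h1) hb
    have h4 : a * a * b ∈ AL F₀ M := sq_mul_mem hm hT ha hb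
    have h5 : (a + 1) * (a + 1) * b - a * a * b - b ∈ AL F₀ M := sub_mem (sub_mem h3 h4) hb
    have hhalf : (2 : F)⁻¹ ∈ AL F₀ M := by
      apply of_mem hT
      apply F₀.inv_mem
      have : (2 : F) = 1 + 1 := by norm_num
      rw [this]
      exact F₀.add_mem F₀.one_mem F₀.one_mem
    have h6 := sq_mul_mem hm hT hhalf h5
    have h7 := add_mem h6 h6
    have e : a * b = (2 : F)⁻¹ * (2 : F)⁻¹ * ((a + 1) * (a + 1) * b - a * a * b - b) +
        (2 : F)⁻¹ * (2 : F)⁻¹ * ((a + 1) * (a + 1) * b - a * a * b - b) := by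
      field_simp
      ring
    rw [e]
    exact h7

theorem inv_mem [Finite F] (hm : 3 ≤ m) {F₀ : Subfield F}
    {M : Subgroup (Matrix.symplecticGroup (Fin m) F)}
    (hT : HasRatT F₀ M) {a : F} (ha : a ∈ AL F₀ M) : a⁻¹ ∈ AL F₀ M := by
  by_cases ha0 : a = 0
  · rw [ha0, _root_.inv_zero]
    exact zero_mem F₀ M
  · have : Fintype F := Fintype.ofFinite F
    have h1 : a ^ (Fintype.card F - 1) = 1 := FiniteField.pow_card_sub_one_eq_one a ha0
    have hq : 2 ≤ Fintype.card F := Fintype.one_lt_card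
    have h2 : a * a ^ (Fintype.card F - 2) = 1 := by
      rw [← pow_succ', ← h1]
      congr 1
      omega
    have h3 : a⁻¹ = a ^ (Fintype.card F - 2) := (eq_inv_of_mul_eq_one_right h2).symm ▸ rfl
    rw [h3]
    exact pow_mem hm hT ha _

end PkI

theorem al_subfield [Finite F] (hm : 3 ≤ m) (F₀ : Subfield F) (M : Subgroup (Matrix.symplecticGroup (Fin m) F))
    (hT : HasRatT F₀ M) : ∃ 𝔸 : Subfield F, (𝔸 : Set F) = AL F₀ M ∧ F₀ ≤ 𝔸 := by
  refine ⟨{ carrier := AL F₀ M
            mul_mem' := fun ha hb => PkI.mul_mem hm hT ha hb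
            one_mem' := PkI.of_mem hT F₀.one_mem
            add_mem' := fun ha hb => PkI.add_mem ha hb
            zero_mem' := PkI.zero_mem F₀ M
            neg_mem' := fun ha => PkI.neg_mem ha
            inv_mem' := fun _ ha => PkI.inv_mem hm hT ha }, rfl, ?_⟩
  intro a ha
  exact PkI.of_mem hT ha

end Cfsg.Agent.Lib.Helper7.SpSub
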