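import Mathlib
import Cfsg.Prelude.Def_GeometricClasses
import Cfsg.Agent.Lib.Helper7.SpSubDefs
import Cfsg.Agent.Lib.Helper7.Subg_N
import Cfsg.Agent.Lib.Helper7.Subg_E
import Cfsg.Agent.Lib.Helper7.SpSub_TR
import Cfsg.Agent.Lib.Helper7.SpSubBridge
import Cfsg.Agent.Lib.Helper8.SpSub_I

set_option autoImplicit false
set_option linter.unusedSectionVars false
set_option linter.unusedVariables false

/-!
# S5650 PK-K: the key lemma
-/

namespace Cfsg.Agent.Lib.Helper7.SpSub

open Matrix Cfsg.Agent.Lib.Helper1.SpBasic Cfsg.Agent.Lib.Helper2.Symp Cfsg.Agent.Lib.Helper7.Subg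

variable {F : Type*} [Field F] {m : ℕ}

namespace PkK

theorem form_neg_right (x y : Fin m ⊕ Fin m → F) :
    Cfsg.sympForm m F x (-y) = - Cfsg.sympForm m F x y := by
  rw [← neg_one_smul F y, sympForm_smul_right]
  ring

theorem single_inr_inl (i j : Fin m) :
    (Pi.single (Sum.inr i) (1 : F) : Fin m ⊕ Fin m → F) (Sum.inl j) = 0 := by
  rw [Pi.single_apply, if_neg]
  exact fun h => by cases h

theorem single_inr_inr (i j : Fin m) (h : j ≠ i) :
    (Pi.single (Sum.inr i) (1 : F) : Fin m ⊕ Fin m → F) (Sum.inr j) = 0 := by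
  rw [Pi.single_apply, if_neg]
  intro e
  exact h (Sum.inr_injective e)

/-- the commutator with a rational short root element. -/
theorem w_mem {F₀ : Subfield F} {M : Subgroup (Matrix.symplecticGroup (Fin m) F)}
    (hT : HasRatT F₀ M) {v z f y : Fin m ⊕ Fin m → F} {α β : F}
    (rf : Rat F₀ f) (ry : Rat F₀ y) (hX : sig v z α * T v β ∈ M)
    (hvz : Cfsg.sympForm m F v z = 0) (hfy : Cfsg.sympForm m F f y = 0)
    (hvy : Cfsg.sympForm m F v y = 0) (hzy : Cfsg.sympForm m F z y = 0)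
    (hvf : Cfsg.sympForm m F v f = 0) (hzf : Cfsg.sympForm m F z f = -1) :
    sig v y α ∈ M := by
  have hfy' : Cfsg.sympForm m F f (-y) = 0 := by rw [form_neg_right, hfy, neg_zero]
  have hS : sig f (-y) (1 : F) ∈ M :=
    sig_mem (hT _ (rf.add ry.neg) 1 F₀.one_mem) (hT _ rf 1 F₀.one_mem) (hT _ ry.neg 1 F₀.one_mem)
  have hSv : ((sig f (-y) (1 : F) : Matrix.symplecticGroup (Fin m) F) :
      Matrix (Fin m ⊕ Fin m) (Fin m ⊕ Fin m) F) *ᵥ v = v := by
    rw [sig_mulVec f (-y) hfy', form_neg_right, hvy, hvf]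
    simp
  have hSz : ((sig f (-y) (1 : F) : Matrix.symplecticGroup (Fin m) F) :
      Matrix (Fin m ⊕ Fin m) (Fin m ⊕ Fin m) F) *ᵥ z = z + y := by
    rw [sig_mulVec f (-y) hfy', form_neg_right, hzy, hzf]
    simp
  have hconj : sig f (-y) (1 : F) * (sig v z α * T v β) * (sig f (-y) (1 : F))⁻¹ =
      sig v (z + y) α * T v β := by
    have e : sig f (-y) (1 : F) * (sig v z α * T v β) * (sig f (-y) (1 : F))⁻¹ =
        (sig f (-y) (1 : F) * sig v z α * (sig f (-y) (1 : F))⁻¹) *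
          (sig f (-y) (1 : F) * T v β * (sig f (-y) (1 : F))⁻¹) := by group
    rw [e, conj_sig, conj_T, hSv, hSz]
  have hsum : sig v (z + y) α = sig v y α * sig v z α := by
    rw [sig_mul_sig v y z hvy hvz α, hzy, mul_zero, T_zero, mul_one, add_comm]
  have hfin : sig v y α =
      (sig f (-y) (1 : F) * (sig v z α * T v β) * (sig f (-y) (1 : F))⁻¹) *
        (sig v z α * T v β)⁻¹ := by
    rw [hconj, hsum]
    group
  rw [hfin]
  exact M.mul_mem (M.mul_mem (M.mul_mem hS hX) (M.inv_mem hS)) (M.inv_mem hX)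

/-- the key lemma in standard position. -/
theorem k_std [Finite F] (hm : 3 ≤ m) {F₀ : Subfield F}
    {M : Subgroup (Matrix.symplecticGroup (Fin m) F)}
    (hT : HasRatT F₀ M) (hS : SSl F₀ M) {α β : F}
    (hX : sig (Pi.single (Sum.inl (⟨0, by omega⟩ : Fin m)) (1 : F))
      (Pi.single (Sum.inl (⟨1, by omega⟩ : Fin m)) (1 : F)) α *
      T (Pi.single (Sum.inl (⟨0, by omega⟩ : Fin m)) (1 : F)) β ∈ M) : α ∈ F₀ ∧ β ∈ F₀ := by
  let i1 : Fin m := ⟨0, by omega⟩
  let i2 : Fin m := ⟨1, by omega⟩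
  let i3 : Fin m := ⟨2, by omega⟩
  have h12 : i2 ≠ i1 := by intro e; have := congrArg Fin.val e; simp [i1, i2] at this
  have h13 : i3 ≠ i1 := by intro e; have := congrArg Fin.val e; simp [i1, i3] at this
  have h23 : i3 ≠ i2 := by intro e; have := congrArg Fin.val e; simp [i2, i3] at this
  set v : Fin m ⊕ Fin m → F := Pi.single (Sum.inl i1) 1 with hv
  set z : Fin m ⊕ Fin m → F := Pi.single (Sum.inl i2) 1 with hz
  set e3 : Fin m ⊕ Fin m → F := Pi.single (Sum.inl i3) 1 with he3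
  set f2 : Fin m ⊕ Fin m → F := Pi.single (Sum.inr i2) 1 with hf2
  set f3 : Fin m ⊕ Fin m → F := Pi.single (Sum.inr i3) 1 with hf3
  change sig v z α * T v β ∈ M at hX
  have rv : Rat F₀ v := Rat.single F₀ _ F₀.one_mem
  have rz : Rat F₀ z := Rat.single F₀ _ F₀.one_mem
  have re3 : Rat F₀ e3 := Rat.single F₀ _ F₀.one_mem
  have rf2 : Rat F₀ f2 := Rat.single F₀ _ F₀.one_mem
  have rf3 : Rat F₀ f3 := Rat.single F₀ _ F₀.one_mem
  have hv0 : v ≠ 0 := by
    intro e
    have := congrFun e (Sum.inl i1)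
    rw [hv, Pi.single_eq_same] at this
    exact one_ne_zero this
  -- form values
  have b_vz : Cfsg.sympForm m F v z = 0 := by
    rw [hz, sympForm_single_inl, hv, PkI.single_inl_inr]
  have b_f2_e3 : Cfsg.sympForm m F f2 e3 = 0 := by
    rw [he3, sympForm_single_inl, hf2, single_inr_inr _ _ h23]
  have b_f2_f3 : Cfsg.sympForm m F f2 f3 = 0 := by
    rw [hf3, sympForm_single_inr, hf2, single_inr_inl, neg_zero]
  have b_v_e3 : Cfsg.sympForm m F v e3 = 0 := by
    rw [he3, sympForm_single_inl, hv, PkI.single_inl_inr]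
  have b_v_f3 : Cfsg.sympForm m F v f3 = 0 := by
    rw [hf3, sympForm_single_inr, hv, PkI.single_inl_inl _ _ h13, neg_zero]
  have b_z_e3 : Cfsg.sympForm m F z e3 = 0 := by
    rw [he3, sympForm_single_inl, hz, PkI.single_inl_inr]
  have b_z_f3 : Cfsg.sympForm m F z f3 = 0 := by
    rw [hf3, sympForm_single_inr, hz, PkI.single_inl_inl _ _ h23, neg_zero]
  have b_v_f2 : Cfsg.sympForm m F v f2 = 0 := by
    rw [hf2, sympForm_single_inr, hv, PkI.single_inl_inl _ _ h12, neg_zero]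
  have b_z_f2 : Cfsg.sympForm m F z f2 = -1 := by
    rw [hf2, sympForm_single_inr, hz, Pi.single_eq_same]
  have b_f3_e3 : Cfsg.sympForm m F f3 e3 = 1 := by
    rw [he3, sympForm_single_inl, hf3, Pi.single_eq_same]
  have b_e3_f3 : Cfsg.sympForm m F e3 f3 = -1 := by
    rw [hf3, sympForm_single_inr, he3, Pi.single_eq_same]
  -- the three short root elements
  have hW3 : sig v e3 α ∈ M := w_mem hT rf2 re3 hX b_vz b_f2_e3 b_v_e3 b_z_e3 b_v_f2 b_z_f2
  have hWf : sig v f3 α ∈ M := w_mem hT rf2 rf3 hX b_vz b_f2_f3 b_v_f3 b_z_f3 b_v_f2 b_z_f2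
  have hW3f : sig v (e3 + f3) α ∈ M :=
    w_mem hT rf2 (re3.add rf3) hX b_vz
      (by rw [sympForm_add_right, b_f2_e3, b_f2_f3, add_zero])
      (by rw [sympForm_add_right, b_v_e3, b_v_f3, add_zero])
      (by rw [sympForm_add_right, b_z_e3, b_z_f3, add_zero]) b_v_f2 b_z_f2
  have h1 := sig_mul_sig v e3 f3 b_v_e3 b_v_f3 α
  rw [b_f3_e3, mul_one] at h1
  have hTaa : T v (α * α) ∈ M := by
    have e : T v (α * α) = (sig v (e3 + f3) α)⁻¹ * (sig v e3 α * sig v f3 α) := by
      rw [h1]; group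
    rw [e]
    exact M.mul_mem (M.inv_mem hW3f) (M.mul_mem hW3 hWf)
  have haa : α * α ∈ F₀ := hS v _ rv hv0 hTaa
  have hα : α ∈ F₀ := by
    by_cases h2 : (2 : F) = 0
    · exact PkE.mem_of_mul_self_mem_two h2 F₀ haa
    · have hP : sig v (α • e3) (1 : F) ∈ M := by
        rw [sig_smul_right v e3 b_v_e3 α 1, mul_one]
        exact hW3
      have hR : sig v f3 (1 : F) ∈ M :=
        sig_mem (hT _ (rv.add rf3) 1 F₀.one_mem) (hT _ rv 1 F₀.one_mem) (hT _ rf3 1 F₀.one_mem)
      have b_v_ae3 : Cfsg.sympForm m F v (α • e3) = 0 := by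
        rw [sympForm_smul_right, b_v_e3, mul_zero]
      have hPR := sig_mul_sig v (α • e3) f3 b_v_ae3 b_v_f3 1
      have hRP := sig_mul_sig v f3 (α • e3) b_v_f3 b_v_ae3 1
      rw [sympForm_smul_right, b_f3_e3] at hPR
      rw [sympForm_smul_left, b_e3_f3, add_comm f3 (α • e3)] at hRP
      have b_v_sum : Cfsg.sympForm m F v (α • e3 + f3) = 0 := by
        rw [sympForm_add_right, b_v_ae3, b_v_f3, add_zero]
      have hcomm : T v (1 * 1 * (α * 1)) * sig v (α • e3 + f3) (1 : F) =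
          sig v (α • e3 + f3) (1 : F) * T v (1 * 1 * (α * 1)) :=
        T_mul_sig_comm v _ b_v_sum 1 _
      have hcomm2 : T v (1 * 1 * (α * -1)) * sig v (α • e3 + f3) (1 : F) =
          sig v (α • e3 + f3) (1 : F) * T v (1 * 1 * (α * -1)) :=
        T_mul_sig_comm v _ b_v_sum 1 _
      have hT2 : T v (α + α) ∈ M := by
        have e : T v (α + α) =
            (sig v (α • e3) (1 : F) * sig v f3 (1 : F)) *
              (sig v f3 (1 : F) * sig v (α • e3) (1 : F))⁻¹ := by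
          rw [hPR, hRP, _root_.mul_inv_rev, T_inv]
          have e2 : sig v (α • e3 + f3) (1 : F) * T v (1 * 1 * (α * 1)) *
              (T v (-(1 * 1 * (α * -1))) * (sig v (α • e3 + f3) (1 : F))⁻¹) =
              sig v (α • e3 + f3) (1 : F) * (T v (1 * 1 * (α * 1)) * T v (-(1 * 1 * (α * -1)))) *
                (sig v (α • e3 + f3) (1 : F))⁻¹ := by group
          rw [e2, T_add]
          have e3' : 1 * 1 * (α * 1) + -(1 * 1 * (α * -1)) = α + α := by ring
          rw [e3']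
          have hc : T v (α + α) * sig v (α • e3 + f3) (1 : F) =
              sig v (α • e3 + f3) (1 : F) * T v (α + α) := T_mul_sig_comm v _ b_v_sum 1 _
          rw [← hc]
          group
        rw [e]
        exact M.mul_mem (M.mul_mem hP hR) (M.inv_mem (M.mul_mem hR hP))
      have h2α : α + α ∈ F₀ := hS v _ rv hv0 hT2
      have h2F : (2 : F) ∈ F₀ := by
        have : (2 : F) = 1 + 1 := by norm_num
        rw [this]
        exact F₀.add_mem F₀.one_mem F₀.one_mem
      have e : α = (2 : F)⁻¹ * (α + α) := by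
        field_simp
        ring
      rw [e]
      exact F₀.mul_mem (F₀.inv_mem h2F) h2α
  refine ⟨hα, ?_⟩
  have hsig : sig v z α ∈ M :=
    sig_mem (hT _ (rv.add rz) α hα) (hT _ rv α hα) (hT _ rz α hα)
  have hTb : T v β ∈ M := by
    have e : T v β = (sig v z α)⁻¹ * (sig v z α * T v β) := by group
    rw [e]
    exact M.mul_mem (M.inv_mem hsig) hX
  exact hS v _ rv hv0 hTb

end PkK

theorem k_lemma [Finite F] (hm : 3 ≤ m) (F₀ : Subfield F) (M : Subgroup (Matrix.symplecticGroup (Fin m) F))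
    (hT : HasRatT F₀ M) (hS : SSl F₀ M) : KL F₀ M := by
  intro v z α β hv hz hvz hI hX
  have h01 : (⟨0, by omega⟩ : Fin m) ≠ ⟨1, by omega⟩ := by
    intro e
    have := congrArg Fin.val e
    simp at this
  obtain ⟨A, hA, hAv, hAz⟩ := tr_pair F₀ v z hv hz hvz hI ⟨0, by omega⟩ ⟨1, by omega⟩ h01
  have hAM : A ∈ M := rr_le hT hA
  apply PkK.k_std hm hT hS
  have e : A * (sig v z α * T v β) * A⁻¹ = (A * sig v z α * A⁻¹) * (A * T v β * A⁻¹) := by group
  rw [conj_sig, conj_T, hAv, hAz] at e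
  rw [← e]
  exact M.mul_mem (M.mul_mem hAM hX) (M.inv_mem hAM)

end Cfsg.Agent.Lib.Helper7.SpSub
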