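import Mathlib

/-!
# A fixed point lemma: a coprime group acting compatibly on a transitive set of an abelian group
-/

set_option autoImplicit false

namespace Cfsg.Agent.Lib.Helper8

/-- Let the finite abelian group `A` act transitively on `X`, and let `S` "act" on `X` (through
`σ`) and on `A` (through `τ`) compatibly. If `|A|` and `|S|` are coprime, `S` fixes a point. -/
theorem exists_fixed_of_abelian_transitive {A S X : Type*} [CommGroup A] [Fintype A] [Group S]
    [Fintype S] [MulAction A X] [Nonempty X] (σ : S → X → X) (τ : S → A →* A)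
    (hσ : ∀ s t x, σ (s * t) x = σ s (σ t x))
    (hcompat : ∀ s a x, σ s (a • x) = τ s a • σ s x)
    (htrans : ∀ x y : X, ∃ a : A, a • x = y)
    (hcop : (Nat.card A).Coprime (Nat.card S)) :
    ∃ x : X, ∀ s, σ s x = x := by
  classical
  obtain ⟨x₀⟩ : Nonempty X := inferInstance
  choose c hc using fun s : S => htrans x₀ (σ s x₀)
  set B : Subgroup A := MulAction.stabilizer A x₀ with hB
  set n := Nat.card S with hn
  -- equality of images in `A ⧸ B` means equal action on `x₀`
  have hmk : ∀ a a' : A, (QuotientGroup.mk a : A ⧸ B) = QuotientGroup.mk a' ↔ a • x₀ = a' • x₀ := by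
    intro a a'
    rw [QuotientGroup.eq, hB, MulAction.mem_stabilizer_iff, mul_smul, inv_smul_eq_iff]
    exact eq_comm
  -- the cocycle relation
  have hrel : ∀ s t : S, (QuotientGroup.mk (c (s * t)) : A ⧸ B) =
      QuotientGroup.mk (c s * τ s (c t)) := by
    intro s t
    rw [hmk, hc, hσ, ← hc t, hcompat, ← hc s, mul_comm, mul_smul]
  set b : A := ∏ t : S, c t with hb
  have hprod : ∀ s : S, (QuotientGroup.mk b : A ⧸ B) = QuotientGroup.mk (c s ^ n * τ s b) := by
    intro s
    have h1 : b = ∏ t : S, c (s * t) := by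
      rw [hb]
      exact (Fintype.prod_equiv (Equiv.mulLeft s) _ _ (fun t => rfl)).symm
    have h2 : (QuotientGroup.mk b : A ⧸ B) = ∏ t : S, (QuotientGroup.mk (c (s * t)) : A ⧸ B) := by
      rw [h1]
      exact map_prod (QuotientGroup.mk' B) _ _
    rw [h2]
    simp only [hrel]
    have h3 : ∏ t : S, (QuotientGroup.mk (c s * τ s (c t)) : A ⧸ B) =
        QuotientGroup.mk (∏ t : S, (c s * τ s (c t))) :=
      (map_prod (QuotientGroup.mk' B) _ _).symm
    rw [h3, Finset.prod_mul_distrib, Finset.prod_const, Finset.card_univ, ← map_prod,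
      ← Nat.card_eq_fintype_card]
  -- the `n`-th root of `b`
  have hcopA : (Nat.card A).Coprime n := hcop
  obtain ⟨a, han⟩ : ∃ a : A, a ^ n = b := by
    refine ⟨(powCoprime hcopA).symm b, ?_⟩
    have := (powCoprime hcopA).apply_symm_apply b
    rwa [powCoprime_apply] at this
  have hcopQ : (Nat.card (A ⧸ B)).Coprime n := by
    apply Nat.Coprime.coprime_dvd_left _ hcopA
    rw [← Subgroup.index_eq_card]
    exact Subgroup.index_dvd_card B
  have hkey : ∀ s : S, (QuotientGroup.mk a : A ⧸ B) = QuotientGroup.mk (c s * τ s a) := by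
    intro s
    apply (powCoprime hcopQ).injective
    rw [powCoprime_apply, powCoprime_apply, ← QuotientGroup.mk_pow, ← QuotientGroup.mk_pow,
      mul_pow, ← map_pow, han]
    exact hprod s
  refine ⟨a • x₀, fun s => ?_⟩
  rw [hcompat, ← hc s, ← mul_smul, mul_comm]
  exact ((hmk _ _).1 (hkey s)).symm

end Cfsg.Agent.Lib.Helper8
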