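import Mathlib
import Cfsg.Agent.Lib.Helper4.Gallagher
import Cfsg.Agent.Lib.Helper8.GL13

/-!
# Linear characters of an abelian quotient acting on the irreducible characters
-/

set_option autoImplicit false
set_option linter.unusedSectionVars false

namespace Cfsg.Agent.Lib.Helper8

open Cfsg Cfsg.Agent.Lib.Helper1 Cfsg.Agent.Lib.Helper4
open scoped ComplexConjugate

universe u

section

theorem sum_hom_apply_one_of_comm {Q : Type*} [Group Q] [Finite Q]
    (hcomm : ∀ a b : Q, a * b = b * a) [Fintype (Q →* ℂˣ)] :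
    ∑ l : Q →* ℂˣ, ((l 1 : ℂˣ) : ℂ) = (Nat.card Q : ℂ) := by
  let inst : CommGroup Q := { (inferInstance : Group Q) with mul_comm := hcomm }
  exact sum_hom_apply_one Q

theorem sum_hom_apply_ne_of_comm {Q : Type*} [Group Q] [Finite Q]
    (hcomm : ∀ a b : Q, a * b = b * a) [Fintype (Q →* ℂˣ)] {q : Q} (hq : q ≠ 1) :
    ∑ l : Q →* ℂˣ, ((l q : ℂˣ) : ℂ) = 0 := by
  let inst : CommGroup Q := { (inferInstance : Group Q) with mul_comm := hcomm }
  exact sum_hom_apply_ne Q hq

theorem card_hom_of_comm {Q : Type*} [Group Q] [Finite Q] (hcomm : ∀ a b : Q, a * b = b * a) :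
    Nat.card (Q →* ℂˣ) = Nat.card Q := by
  let inst : CommGroup Q := { (inferInstance : Group Q) with mul_comm := hcomm }
  have hne : NeZero (Monoid.exponent Q) := ⟨Monoid.exponent_ne_zero_of_finite⟩
  exact CommGroup.card_monoidHom_of_hasEnoughRootsOfUnity Q ℂ

end

section

variable {Γ : Type u} [Group Γ] {G N : Subgroup Γ}

theorem quot_comm [(N.subgroupOf G).Normal]
    (hab : ∀ a ∈ G, ∀ b ∈ G, a * b * a⁻¹ * b⁻¹ ∈ N) (a b : ↥G ⧸ N.subgroupOf G) :
    a * b = b * a := by
  induction a using QuotientGroup.induction_on with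
  | H x =>
  induction b using QuotientGroup.induction_on with
  | H y =>
  rw [← QuotientGroup.mk_mul, ← QuotientGroup.mk_mul, QuotientGroup.eq,
    Subgroup.mem_subgroupOf]
  have := hab y⁻¹ (G.inv_mem y.2) x⁻¹ (G.inv_mem x.2)
  simpa [mul_assoc] using this

theorem normal_subgroupOf_of_normalizes (hGN : ∀ g ∈ G, Normalizes g N) :
    (N.subgroupOf G).Normal := by
  constructor
  intro n hn g
  rw [Subgroup.mem_subgroupOf] at hn ⊢
  exact (hGN g g.2 n).1 hn

/-- Conjugation on the quotient `G ⧸ N`. -/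
noncomputable def quotConjHom [(N.subgroupOf G).Normal] {s : Γ} (hsG : Normalizes s G)
    (hsN : Normalizes s N) : (↥G ⧸ N.subgroupOf G) →* (↥G ⧸ N.subgroupOf G) :=
  QuotientGroup.map _ _ (conjE hsG).toMonoidHom (by
    intro x hx
    rw [Subgroup.mem_comap, Subgroup.mem_subgroupOf]
    rw [Subgroup.mem_subgroupOf] at hx
    exact (hsN x).1 hx)

theorem quotConjHom_mk [(N.subgroupOf G).Normal] {s : Γ} (hsG : Normalizes s G)
    (hsN : Normalizes s N) (g : G) :
    quotConjHom hsG hsN (QuotientGroup.mk g) = QuotientGroup.mk (conjE hsG g) := rfl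

/-- The twist of an irreducible character by a linear character of the quotient. -/
noncomputable def linMul [(N.subgroupOf G).Normal] [Fintype G]
    (l : (↥G ⧸ N.subgroupOf G) →* ℂˣ) (χ : IrrCharacter G) : IrrCharacter G :=
  ⟨fun g => ((l (QuotientGroup.mk g) : ℂˣ) : ℂ) * (χ : G → ℂ) g,
    isIrrCharacter_hom_mul (l.comp (QuotientGroup.mk' _)) χ.2⟩

theorem linMul_apply [(N.subgroupOf G).Normal] [Fintype G]
    (l : (↥G ⧸ N.subgroupOf G) →* ℂˣ) (χ : IrrCharacter G) (g : G) :
    (linMul l χ : G → ℂ) g = ((l (QuotientGroup.mk g) : ℂˣ) : ℂ) * (χ : G → ℂ) g := rfl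

theorem linMul_one [(N.subgroupOf G).Normal] [Fintype G] (χ : IrrCharacter G) :
    linMul (N := N) 1 χ = χ := by
  apply Subtype.ext
  funext g
  rw [linMul_apply]
  simp

theorem linMul_mul [(N.subgroupOf G).Normal] [Fintype G]
    (l m : (↥G ⧸ N.subgroupOf G) →* ℂˣ) (χ : IrrCharacter G) :
    linMul (l * m) χ = linMul l (linMul m χ) := by
  apply Subtype.ext
  funext g
  rw [linMul_apply, linMul_apply, linMul_apply, MonoidHom.mul_apply, Units.val_mul, mul_assoc]

theorem linMul_restrict [(N.subgroupOf G).Normal] [Fintype G] (hNG : N ≤ G)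
    (l : (↥G ⧸ N.subgroupOf G) →* ℂˣ) (χ : IrrCharacter G) :
    (fun n : N => (linMul l χ : G → ℂ) ⟨n, hNG n.2⟩) = fun n : N => (χ : G → ℂ) ⟨n, hNG n.2⟩ := by
  funext n
  rw [linMul_apply]
  have : (QuotientGroup.mk (⟨n, hNG n.2⟩ : G) : ↥G ⧸ N.subgroupOf G) = 1 := by
    rw [QuotientGroup.eq_one_iff, Subgroup.mem_subgroupOf]
    exact n.2
  rw [this, map_one, Units.val_one, one_mul]

end

end Cfsg.Agent.Lib.Helper8
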