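import Mathlib
import Cfsg.Agent.Lib.Helper8.AB2
import Cfsg.Agent.Lib.Helper8.GL2
import Cfsg.Agent.Lib.Helper8.GL14

/-!
# Transitivity of the linear characters of an abelian quotient on the characters over `θ`
-/

set_option autoImplicit false
set_option linter.unusedSectionVars false
set_option maxHeartbeats 800000

namespace Cfsg.Agent.Lib.Helper8

open Cfsg Cfsg.Agent.Lib.Helper1 Cfsg.Agent.Lib.Helper4
open scoped ComplexConjugate

universe u

section

variable {Γ : Type u} [Group Γ] {G N : Subgroup Γ}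

/-- The sum over the twists of the inner products is the inner product of the restrictions. -/
theorem sum_classInner_linMul [(N.subgroupOf G).Normal] [Fintype G] [Fintype N] (hNG : N ≤ G)
    (hab : ∀ a ∈ G, ∀ b ∈ G, a * b * a⁻¹ * b⁻¹ ∈ N)
    [Fintype ((↥G ⧸ N.subgroupOf G) →* ℂˣ)] (χ χ' : IrrCharacter G) :
    ∑ l : (↥G ⧸ N.subgroupOf G) →* ℂˣ, classInner (linMul l χ : G → ℂ) (χ' : G → ℂ) =
      classInner (fun n : N => (χ : G → ℂ) ⟨n, hNG n.2⟩)
        (fun n : N => (χ' : G → ℂ) ⟨n, hNG n.2⟩) := by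
  classical
  haveI : Finite G := Finite.of_fintype G
  set N' : Subgroup G := N.subgroupOf G with hN'
  haveI : Fintype N' := Fintype.ofFinite _
  let e : N' ≃* N := Subgroup.subgroupOfEquivOfLe hNG
  set F : G → ℂ := fun g => (χ : G → ℂ) g * conj ((χ' : G → ℂ) g) with hF
  have hG0 : (Nat.card G : ℂ) ≠ 0 := Nat.cast_ne_zero.2 Nat.card_pos.ne'
  have hN0 : (Nat.card N : ℂ) ≠ 0 := Nat.cast_ne_zero.2 Nat.card_pos.ne'
  have h1 : ∀ l : (↥G ⧸ N') →* ℂˣ, classInner (linMul l χ : G → ℂ) (χ' : G → ℂ) =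
      (Nat.card G : ℂ)⁻¹ * ∑ g : G, ((l (QuotientGroup.mk g) : ℂˣ) : ℂ) * F g := by
    intro l
    rw [classInner_def]
    congr 1
    refine Finset.sum_congr rfl fun g _ => ?_
    rw [linMul_apply, hF, mul_assoc]
  simp only [h1]
  rw [← Finset.mul_sum, Finset.sum_comm]
  have h2 : ∀ g : G, ∑ l : (↥G ⧸ N') →* ℂˣ, ((l (QuotientGroup.mk g) : ℂˣ) : ℂ) * F g =
      if g ∈ N' then (Nat.card (↥G ⧸ N') : ℂ) * F g else 0 := by
    intro g
    rw [← Finset.sum_mul]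
    by_cases hg : g ∈ N'
    · rw [if_pos hg]
      have : (QuotientGroup.mk g : ↥G ⧸ N') = 1 := (QuotientGroup.eq_one_iff g).2 hg
      rw [this, sum_hom_apply_one_of_comm (quot_comm hab)]
    · rw [if_neg hg]
      have : (QuotientGroup.mk g : ↥G ⧸ N') ≠ 1 := fun h => hg ((QuotientGroup.eq_one_iff g).1 h)
      rw [sum_hom_apply_ne_of_comm (quot_comm hab) this, zero_mul]
  rw [Finset.sum_congr rfl (fun g _ => h2 g)]
  rw [← sum_subgroup_eq_sum_ite N' (fun g => (Nat.card (↥G ⧸ N') : ℂ) * F g), ← Finset.mul_sum]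
  have h3 : ∑ y : N', F (y : G) = ∑ n : N, F ⟨n, hNG n.2⟩ := by
    refine Fintype.sum_equiv e.toEquiv _ _ fun y => ?_
    exact congrArg F (Subtype.ext rfl)
  rw [h3, classInner_def]
  have hcard : (Nat.card G : ℂ) = (Nat.card (↥G ⧸ N') : ℂ) * (Nat.card N : ℂ) := by
    rw [← Nat.cast_mul, ← Nat.card_congr e.toEquiv,
      ← Subgroup.card_eq_card_quotient_mul_card_subgroup]
  have hQ0 : (Nat.card (↥G ⧸ N') : ℂ) ≠ 0 := by
    intro h
    rw [hcard, h, zero_mul] at hG0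
    exact hG0 rfl
  have h4 : ∑ n : N, F ⟨n, hNG n.2⟩ =
      ∑ x : N, (χ : G → ℂ) ⟨x, hNG x.2⟩ * conj ((χ' : G → ℂ) ⟨x, hNG x.2⟩) := rfl
  rw [hcard, h4]
  field_simp

/-- Transitivity. -/
theorem exists_linMul_eq [(N.subgroupOf G).Normal] [Fintype G] [Fintype N] (hNG : N ≤ G)
    (hab : ∀ a ∈ G, ∀ b ∈ G, a * b * a⁻¹ * b⁻¹ ∈ N) (θ : IrrCharacter N)
    (χ χ' : IrrCharacter G)
    (h : classInner (fun n : N => (χ : G → ℂ) ⟨n, hNG n.2⟩) (θ : N → ℂ) ≠ 0)
    (h' : classInner (fun n : N => (χ' : G → ℂ) ⟨n, hNG n.2⟩) (θ : N → ℂ) ≠ 0) :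
    ∃ l : (↥G ⧸ N.subgroupOf G) →* ℂˣ, linMul l χ = χ' := by
  classical
  haveI : Fintype ((↥G ⧸ N.subgroupOf G) →* ℂˣ) := Fintype.ofFinite _
  haveI : Fintype (IrrCharacter N) := Fintype.ofFinite _
  by_contra hcon
  push Not at hcon
  have h0 : ∀ l : (↥G ⧸ N.subgroupOf G) →* ℂˣ,
      classInner (linMul l χ : G → ℂ) (χ' : G → ℂ) = 0 := fun l =>
    classInner_irr_ne (linMul l χ).2 χ'.2 (fun e => hcon l (Subtype.ext e))
  have hsum := sum_classInner_linMul hNG hab χ χ'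
  simp only [h0, Finset.sum_const_zero] at hsum
  have hχN : IsCharacter N (fun n : N => (χ : G → ℂ) ⟨n, hNG n.2⟩) :=
    isCharacter_comp_hom (isCharacter_of_irr χ.2) (Subgroup.inclusion hNG)
  have hχ'N : IsCharacter N (fun n : N => (χ' : G → ℂ) ⟨n, hNG n.2⟩) :=
    isCharacter_comp_hom (isCharacter_of_irr χ'.2) (Subgroup.inclusion hNG)
  rw [classInner_eq_sum_mult _ _ (isClassFunction_of_isCharacter hχN)] at hsum
  choose k hk using fun φ : IrrCharacter N => classInner_char_irr_nat hχN φ.2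
  choose k' hk' using fun φ : IrrCharacter N => classInner_char_irr_nat hχ'N φ.2
  have hterm : ∀ φ : IrrCharacter N,
      classInner (fun n : N => (χ : G → ℂ) ⟨n, hNG n.2⟩) (φ : N → ℂ) *
        classInner (φ : N → ℂ) (fun n : N => (χ' : G → ℂ) ⟨n, hNG n.2⟩) =
      ((k φ * k' φ : ℕ) : ℂ) := by
    intro φ
    rw [hk φ, ← classInner_conj_symm, hk' φ, Complex.conj_natCast]
    push_cast
    rfl
  simp only [hterm] at hsum
  have hsum' : ∑ φ : IrrCharacter N, k φ * k' φ = 0 := by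
    have : ((∑ φ : IrrCharacter N, k φ * k' φ : ℕ) : ℂ) = 0 := by
      rw [Nat.cast_sum]
      exact hsum.symm
    exact_mod_cast this
  have hθ0 := (Finset.sum_eq_zero_iff.1 hsum') θ (Finset.mem_univ _)
  rcases Nat.mul_eq_zero.1 hθ0 with h1 | h1
  · apply h
    rw [hk θ, h1, Nat.cast_zero]
  · apply h'
    rw [hk' θ, h1, Nat.cast_zero]

end

end Cfsg.Agent.Lib.Helper8
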