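import Mathlib
import Cfsg.Agent.Lib.Helper8.AB1
import Cfsg.Agent.Lib.Helper8.AB3
import Cfsg.Agent.Lib.Helper8.GA5

/-!
# Invariant constituents over an abelian quotient of coprime order
-/

set_option autoImplicit false
set_option linter.unusedSectionVars false
set_option maxHeartbeats 800000

namespace Cfsg.Agent.Lib.Helper8

open Cfsg Cfsg.Agent.Lib.Helper1 Cfsg.Agent.Lib.Helper4
open scoped ComplexConjugate

universe u

section

variable {Γ : Type u} [Group Γ] [Fintype Γ] {G N S : Subgroup Γ}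

/-- **The abelian step**: if `G/N` is abelian of order prime to `|S|`, every `S`-invariant
irreducible character of `N` lies under an `S`-invariant irreducible character of `G`. -/
theorem exists_inv_over_abelian [Fintype G] [Fintype N]
    (hNG : N ≤ G) (hGN : ∀ g ∈ G, Normalizes g N) (hSG : ∀ s ∈ S, Normalizes s G)
    (hSN : ∀ s ∈ S, Normalizes s N) (hab : ∀ a ∈ G, ∀ b ∈ G, a * b * a⁻¹ * b⁻¹ ∈ N)
    (hcop : (N.relIndex G).Coprime (Nat.card S))
    (θ : IrrCharacter N) (hθ : InvS S N (θ : N → ℂ)) :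
    ∃ χ : IrrCharacter G,
      classInner (fun n : N => (χ : G → ℂ) ⟨n, hNG n.2⟩) (θ : N → ℂ) ≠ 0 ∧
      InvS S G (χ : G → ℂ) := by
  classical
  haveI hNn : (N.subgroupOf G).Normal := normal_subgroupOf_of_normalizes hGN
  haveI : Fintype ((↥G ⧸ N.subgroupOf G) →* ℂˣ) := Fintype.ofFinite _
  haveI : Fintype S := Fintype.ofFinite _
  let X := {χ : IrrCharacter G //
    classInner (fun n : N => (χ : G → ℂ) ⟨n, hNG n.2⟩) (θ : N → ℂ) ≠ 0}
  letI act : MulAction ((↥G ⧸ N.subgroupOf G) →* ℂˣ) X :=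
    { smul := fun l x => ⟨linMul l x.1, by rw [linMul_restrict hNG l x.1]; exact x.2⟩
      one_smul := fun x => Subtype.ext (linMul_one x.1)
      mul_smul := fun l m x => Subtype.ext (linMul_mul l m x.1) }
  have hsmul : ∀ (l : (↥G ⧸ N.subgroupOf G) →* ℂˣ) (x : X), ((l • x : X) : IrrCharacter G) =
      linMul l x.1 := fun l x => rfl
  haveI : Nonempty X := by
    obtain ⟨χ, hχ⟩ := exists_over_of_le hNG hGN θ
    exact ⟨⟨χ, hχ⟩⟩
  -- the action of `S` on `X`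
  have hθc : ∀ s : S, conjChar (hSN (s : Γ)⁻¹ (S.inv_mem s.2)) (θ : N → ℂ) = (θ : N → ℂ) := by
    intro s
    funext g
    exact (invElt_iff _ _).1 (hθ _ (S.inv_mem s.2)) g
  let σ : S → X → X := fun s x =>
    ⟨⟨conjChar (hSG (s : Γ)⁻¹ (S.inv_mem s.2)) (x.1 : G → ℂ), isIrrCharacter_conjChar _ x.1.2⟩, by
      have h1 := classInner_conjChar hNG (hSG (s : Γ)⁻¹ (S.inv_mem s.2))
        (hSN (s : Γ)⁻¹ (S.inv_mem s.2)) (x.1 : G → ℂ) (θ : N → ℂ)
      rw [hθc s] at h1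
      show classInner (fun n : N => conjChar (hSG (s : Γ)⁻¹ (S.inv_mem s.2)) (x.1 : G → ℂ)
        ⟨n, hNG n.2⟩) (θ : N → ℂ) ≠ 0
      rw [h1]
      exact x.2⟩
  have hσv : ∀ (s : S) (x : X) (g : G), (((σ s x : X) : IrrCharacter G) : G → ℂ) g =
      ((x : IrrCharacter G) : G → ℂ) (conjE (hSG (s : Γ)⁻¹ (S.inv_mem s.2)) g) := fun s x g => rfl
  let τ : S → ((↥G ⧸ N.subgroupOf G) →* ℂˣ) →* ((↥G ⧸ N.subgroupOf G) →* ℂˣ) := fun s =>
    { toFun := fun l => l.comp (quotConjHom (hSG (s : Γ)⁻¹ (S.inv_mem s.2))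
        (hSN (s : Γ)⁻¹ (S.inv_mem s.2)))
      map_one' := rfl
      map_mul' := fun a b => rfl }
  have hτv : ∀ (s : S) (l : (↥G ⧸ N.subgroupOf G) →* ℂˣ) (g : G),
      (τ s l) (QuotientGroup.mk g) =
        l (QuotientGroup.mk (conjE (hSG (s : Γ)⁻¹ (S.inv_mem s.2)) g)) := fun s l g => rfl
  have hσ : ∀ s t x, σ (s * t) x = σ s (σ t x) := by
    intro s t x
    apply Subtype.ext
    apply Subtype.ext
    funext g
    rw [hσv, hσv, hσv]
    refine congrArg ((x : IrrCharacter G) : G → ℂ) (Subtype.ext ?_)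
    simp only [conjE_coe, Subgroup.coe_mul]
    group
  have hcompat : ∀ s l x, σ s (l • x) = τ s l • σ s x := by
    intro s l x
    apply Subtype.ext
    apply Subtype.ext
    funext g
    rw [hσv, hsmul, hsmul, linMul_apply, linMul_apply, hτv, hσv]
  have htrans : ∀ x y : X, ∃ l : (↥G ⧸ N.subgroupOf G) →* ℂˣ, l • x = y := by
    intro x y
    obtain ⟨l, hl⟩ := exists_linMul_eq hNG hab θ x.1 y.1 x.2 y.2
    exact ⟨l, Subtype.ext hl⟩
  have hcop' : (Nat.card ((↥G ⧸ N.subgroupOf G) →* ℂˣ)).Coprime (Nat.card S) := by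
    rw [card_hom_of_comm (quot_comm hab), ← Subgroup.index_eq_card]
    exact hcop
  obtain ⟨x, hx⟩ := exists_fixed_of_abelian_transitive σ τ hσ hcompat htrans hcop'
  refine ⟨x.1, x.2, ?_⟩
  intro s hs g g' hgg
  have h1 := hx ⟨s⁻¹, S.inv_mem hs⟩
  have h2 : (((σ ⟨s⁻¹, S.inv_mem hs⟩ x : X) : IrrCharacter G) : G → ℂ) g =
      ((x : IrrCharacter G) : G → ℂ) g := by rw [h1]
  rw [hσv] at h2
  rw [← h2]
  refine congrArg ((x : IrrCharacter G) : G → ℂ) (Subtype.ext ?_)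
  rw [hgg, conjE_coe]
  simp

end

end Cfsg.Agent.Lib.Helper8
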