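import Mathlib
import Cfsg.Agent.Lib.Helper8.AB4

/-!
# Invariant constituents over a solvable quotient of coprime order (Isaacs 13.28)
-/

set_option autoImplicit false
set_option linter.unusedSectionVars false
set_option maxHeartbeats 800000

namespace Cfsg.Agent.Lib.Helper8

open Cfsg Cfsg.Agent.Lib.Helper1 Cfsg.Agent.Lib.Helper4
open scoped ComplexConjugate commutatorElement

universe u

section

variable {Γ : Type u} [Group Γ]

/-- Transitivity of "lying over". -/
theorem over_trans {G M N : Subgroup Γ} [Fintype G] [Fintype M] [Fintype N] (hMG : M ≤ G)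
    (hNM : N ≤ M) (χ : IrrCharacter G) (φ : IrrCharacter M) (θ : IrrCharacter N)
    (h1 : classInner (fun m : M => (χ : G → ℂ) ⟨m, hMG m.2⟩) (φ : M → ℂ) ≠ 0)
    (h2 : classInner (fun n : N => (φ : M → ℂ) ⟨n, hNM n.2⟩) (θ : N → ℂ) ≠ 0) :
    classInner (fun n : N => (χ : G → ℂ) ⟨n, (hNM.trans hMG) n.2⟩) (θ : N → ℂ) ≠ 0 := by
  classical
  haveI : Fintype (IrrCharacter M) := Fintype.ofFinite _
  rw [classInner_restrict_stages hMG hNM (isCharacter_of_irr χ.2) (θ : N → ℂ)]
  choose k hk using fun ψ : IrrCharacter M => classInner_char_irr_nat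
    (isCharacter_comp_hom (isCharacter_of_irr χ.2) (Subgroup.inclusion hMG)) ψ.2
  choose c hc using fun ψ : IrrCharacter M => classInner_char_irr_nat
    (isCharacter_comp_hom (isCharacter_of_irr ψ.2) (Subgroup.inclusion hNM)) θ.2
  have hterm : ∀ ψ : IrrCharacter M,
      classInner (fun b : M => (χ : G → ℂ) ⟨b, hMG b.2⟩) (ψ : M → ℂ) *
        classInner (fun c : N => (ψ : M → ℂ) ⟨c, hNM c.2⟩) (θ : N → ℂ) = ((k ψ * c ψ : ℕ) : ℂ) := by
    intro ψ
    push_cast
    rw [← hk ψ, ← hc ψ]
    rfl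
  simp only [hterm]
  rw [← Nat.cast_sum]
  intro h0
  have h0' : ∑ ψ : IrrCharacter M, k ψ * c ψ = 0 := by exact_mod_cast h0
  have h3 := (Finset.sum_eq_zero_iff.1 h0') φ (Finset.mem_univ _)
  rcases Nat.mul_eq_zero.1 h3 with h4 | h4
  · apply h1
    have := hk φ
    rw [h4, Nat.cast_zero] at this
    exact this
  · apply h2
    have := hc φ
    rw [h4, Nat.cast_zero] at this
    exact this

variable [Fintype Γ] {S : Subgroup Γ}

/-- **Isaacs 13.28** along the derived series. -/
theorem exists_inv_over_solvable : ∀ (n : ℕ) (G N : Subgroup Γ) [Fintype G] [Fintype N]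
    (hNG : N ≤ G), (∀ g ∈ G, Normalizes g N) → (∀ s ∈ S, Normalizes s G) →
    (∀ s ∈ S, Normalizes s N) → (N.relIndex G).Coprime (Nat.card S) →
    (derivedSeries ↥G n).map G.subtype ≤ N →
    ∀ θ : IrrCharacter N, InvS S N (θ : N → ℂ) →
    ∃ χ : IrrCharacter G,
      classInner (fun n : N => (χ : G → ℂ) ⟨n, hNG n.2⟩) (θ : N → ℂ) ≠ 0 ∧
      InvS S G (χ : G → ℂ) := by
  intro n
  induction n with
  | zero =>
    intro G N _ _ hNG hGN hSG hSN hcop hder θ hθ
    apply exists_inv_over_abelian hNG hGN hSG hSN _ hcop θ hθ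
    intro a ha b hb
    apply hder
    rw [derivedSeries_zero, ← MonoidHom.range_eq_map, Subgroup.range_subtype]
    exact G.mul_mem (G.mul_mem (G.mul_mem ha hb) (G.inv_mem ha)) (G.inv_mem hb)
  | succ n ih =>
    intro G N _ _ hNG hGN hSG hSN hcop hder θ hθ
    classical
    haveI hNn : (N.subgroupOf G).Normal := normal_subgroupOf_of_normalizes hGN
    set N' : Subgroup G := N.subgroupOf G with hN'
    set π : ↥G →* ↥G ⧸ N' := QuotientGroup.mk' N' with hπ
    have hπs : Function.Surjective π := QuotientGroup.mk'_surjective N'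
    set M' : Subgroup G := (derivedSeries (↥G ⧸ N') n).comap π with hM'
    haveI hM'n : M'.Normal := by
      haveI := derivedSeries_normal (↥G ⧸ N') n
      rw [hM']
      infer_instance
    set M : Subgroup Γ := M'.map G.subtype with hM
    haveI : Fintype M := Fintype.ofFinite _
    have hMG : M ≤ G := by rw [hM]; exact Subgroup.map_subtype_le M'
    have hN'M' : N' ≤ M' := by
      intro x hx
      rw [hM', Subgroup.mem_comap]
      have : π x = 1 := (QuotientGroup.eq_one_iff x).2 hx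
      rw [this]
      exact Subgroup.one_mem _
    have hNmap : N'.map G.subtype = N := by
      rw [hN', Subgroup.subgroupOf_map_subtype, inf_eq_left.2 hNG]
    have hNM : N ≤ M := by
      rw [← hNmap, hM]
      exact Subgroup.map_mono hN'M'
    have hmemM : ∀ x : G, (x : Γ) ∈ M ↔ x ∈ M' := by
      intro x
      rw [hM]
      constructor
      · rintro ⟨y, hy, hyx⟩
        have : y = x := Subtype.ext hyx
        rwa [this] at hy
      · intro hx
        exact ⟨x, hx, rfl⟩
    -- `G` normalises `M`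
    have hGM : ∀ g ∈ G, Normalizes g M := by
      intro g hg
      apply normalizes_of_forall (S := G) _ hg
      intro t ht y hy
      have hyG : y ∈ G := hMG hy
      have h1 : (⟨y, hyG⟩ : G) ∈ M' := (hmemM ⟨y, hyG⟩).1 hy
      have h2 := hM'n.conj_mem ⟨y, hyG⟩ h1 ⟨t, ht⟩
      exact (hmemM _).2 h2
    -- `S` normalises `M`
    have hSM : ∀ s ∈ S, Normalizes s M := by
      intro s hs
      apply normalizes_of_forall (S := S) _ hs
      intro t ht y hy
      have hyG : y ∈ G := hMG hy
      have h1 : (⟨y, hyG⟩ : G) ∈ M' := (hmemM ⟨y, hyG⟩).1 hy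
      rw [hM', Subgroup.mem_comap] at h1
      have h2 : quotConjHom (hSG t ht) (hSN t ht) (π ⟨y, hyG⟩) ∈ derivedSeries (↥G ⧸ N') n := by
        apply map_derivedSeries_le_derivedSeries (quotConjHom (hSG t ht) (hSN t ht)) n
        exact ⟨_, h1, rfl⟩
      have h3 : (conjE (hSG t ht) ⟨y, hyG⟩ : G) ∈ M' := by
        rw [hM', Subgroup.mem_comap]
        exact h2
      exact (hmemM _).2 h3
    -- `M / N` is abelian
    have hbot : derivedSeries (↥G ⧸ N') (n + 1) = ⊥ := by
      rw [← map_derivedSeries_eq hπs (n + 1), eq_bot_iff]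
      have h1 : derivedSeries (↥G) (n + 1) ≤ N' := by
        rw [hN', Subgroup.subgroupOf, ← Subgroup.map_le_iff_le_comap]
        exact hder
      rintro q ⟨x, hx, rfl⟩
      rw [Subgroup.mem_bot]
      exact (QuotientGroup.eq_one_iff x).2 (h1 hx)
    have hab : ∀ a ∈ M, ∀ b ∈ M, a * b * a⁻¹ * b⁻¹ ∈ N := by
      intro a ha b hb
      have haG : a ∈ G := hMG ha
      have hbG : b ∈ G := hMG hb
      have h1 : (⟨a, haG⟩ : G) ∈ M' := (hmemM ⟨a, haG⟩).1 ha
      have h2 : (⟨b, hbG⟩ : G) ∈ M' := (hmemM ⟨b, hbG⟩).1 hb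
      rw [hM', Subgroup.mem_comap] at h1 h2
      have h3 : ⁅π ⟨a, haG⟩, π ⟨b, hbG⟩⁆ ∈ derivedSeries (↥G ⧸ N') (n + 1) := by
        rw [derivedSeries_succ]
        exact Subgroup.commutator_mem_commutator h1 h2
      rw [hbot, Subgroup.mem_bot, ← map_commutatorElement] at h3
      have h4 : ⁅(⟨a, haG⟩ : G), ⟨b, hbG⟩⁆ ∈ N' := (QuotientGroup.eq_one_iff _).1 h3
      rw [hN', Subgroup.mem_subgroupOf, commutatorElement_def] at h4
      exact h4
    have hmul : N.relIndex M * M.relIndex G = N.relIndex G :=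
      Subgroup.relIndex_mul_relIndex N M G hNM hMG
    have hcop1 : (N.relIndex M).Coprime (Nat.card S) :=
      Nat.Coprime.coprime_dvd_left (Dvd.intro _ hmul) hcop
    have hcop2 : (M.relIndex G).Coprime (Nat.card S) :=
      Nat.Coprime.coprime_dvd_left (Dvd.intro_left _ hmul) hcop
    have hMN : ∀ g ∈ M, Normalizes g N := fun g hg => hGN g (hMG hg)
    obtain ⟨φ, hφθ, hφS⟩ := exists_inv_over_abelian hNM hMN hSM hSN hab hcop1 θ hθ
    have hder' : (derivedSeries ↥G n).map G.subtype ≤ M := by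
      rw [hM]
      apply Subgroup.map_mono
      rw [hM', ← Subgroup.map_le_iff_le_comap]
      exact map_derivedSeries_le_derivedSeries π n
    obtain ⟨χ, hχφ, hχS⟩ := ih G M hMG hGM hSG hSM hcop2 hder' φ hφS
    exact ⟨χ, over_trans hMG hNM χ φ θ hχφ hφθ, hχS⟩

end

end Cfsg.Agent.Lib.Helper8
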