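import Mathlib
import Cfsg.Prelude.Def_Characters
import Cfsg.Agent.Lib.Helper4.Characters
import Cfsg.Agent.Lib.Helper1.CharInt

/-!
# Relative Schur lemma: a representation of `G` whose restriction to a subgroup `N` has a
character of norm one; operators commuting with `N` are scalars.
-/

set_option autoImplicit false

namespace Cfsg.Agent.Lib.Helper8.RelSch

open Cfsg Cfsg.Agent.Lib.Helper1 Cfsg.Agent.Lib.Helper4

universe u v

section

variable {G : Type u} [Group G] [Fintype G] {V : Type v} [AddCommGroup V] [Module ℂ V]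
  [FiniteDimensional ℂ V]

/-- The character of `ρ` has norm one on the subgroup `N`. -/
def NormOneOn (ρ : Representation ℂ G V) (N : Subgroup G) [Fintype N] : Prop :=
  ∑ n : N, ρ.character (n : G) * ρ.character ((n : G)⁻¹) = (Nat.card N : ℂ)

/-- Relative Schur: if the character of `ρ` has norm one on `N`, then every operator commuting with
`ρ n` for all `n ∈ N` is a scalar. -/
theorem rel_schur (ρ : Representation ℂ G V) (N : Subgroup G) [Fintype N] (hnorm : NormOneOn ρ N)
    (T : V →ₗ[ℂ] V) (hT : ∀ n ∈ N, T ∘ₗ ρ n = ρ n ∘ₗ T) : ∃ c : ℂ, T = c • LinearMap.id := by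
  classical
  let τ : Representation ℂ N V := ρ.comp N.subtype
  have hN0 : (Nat.card N : ℂ) ≠ 0 := Nat.cast_ne_zero.2 Nat.card_pos.ne'
  have : Invertible (Nat.card N : ℂ) := invertibleOfNonzero hN0
  have h1 := Representation.card_inv_mul_sum_char_mul_char_eq_finrank τ τ
  have h2 : ∑ g : N, τ.character g * τ.character g⁻¹ = (Nat.card N : ℂ) := hnorm
  rw [h2, inv_mul_cancel₀ hN0] at h1
  have hfr : Module.finrank ℂ (Representation.IntertwiningMap τ τ) = 1 := by
    exact_mod_cast h1.symm
  let I : Representation.IntertwiningMap τ τ :=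
    { toLinearMap := T, isIntertwining' := fun n => hT n n.2 }
  let I1 : Representation.IntertwiningMap τ τ :=
    { toLinearMap := LinearMap.id, isIntertwining' := fun n => by simp }
  have hV : Nontrivial V := by
    by_contra hV
    rw [not_nontrivial_iff_subsingleton] at hV
    have : Subsingleton (Representation.IntertwiningMap τ τ) :=
      ⟨fun a b => Representation.IntertwiningMap.ext (Subsingleton.elim _ _)⟩
    have := Module.finrank_zero_of_subsingleton (R := ℂ) (M := Representation.IntertwiningMap τ τ)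
    omega
  have hI1 : I1 ≠ 0 := by
    intro h
    have h3 := congrArg Representation.IntertwiningMap.toLinearMap h
    obtain ⟨v, hv⟩ := exists_ne (0 : V)
    have h4 : (LinearMap.id : V →ₗ[ℂ] V) v = (0 : V →ₗ[ℂ] V) v := by
      have : (LinearMap.id : V →ₗ[ℂ] V) = 0 := h3
      rw [this]
    exact hv (by simpa using h4)
  obtain ⟨c, hc⟩ := (finrank_eq_one_iff_of_nonzero' I1 hI1).1 hfr I
  refine ⟨c, ?_⟩
  have := congrArg Representation.IntertwiningMap.toLinearMap hc
  exact this.symm

/-- A function on `G` invariant under conjugation by the elements of `N`. -/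
def IsNInv (N : Subgroup G) (f : G → ℂ) : Prop := ∀ n ∈ N, ∀ x : G, f (n * x * n⁻¹) = f x

omit [FiniteDimensional ℂ V] in
theorem opSum_comm_of_ninv (ρ : Representation ℂ G V) (N : Subgroup G) (f : G → ℂ)
    (hf : IsNInv N f) (n : G) (hn : n ∈ N) : opSum ρ f ∘ₗ ρ n = ρ n ∘ₗ opSum ρ f := by
  ext v
  simp only [LinearMap.comp_apply, opSum_apply, map_sum, map_smul]
  rw [← Equiv.sum_comp (MulAut.conj n).toEquiv]
  refine Finset.sum_congr rfl fun g _ => ?_
  simp only [MulEquiv.toEquiv_eq_coe, EquivLike.coe_coe, MulAut.conj_apply]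
  rw [hf n hn g, ← Module.End.mul_apply, ← map_mul, ← Module.End.mul_apply, ← map_mul]
  congr 3
  group

theorem finrank_ne_zero_of_normOne (ρ : Representation ℂ G V) (N : Subgroup G) [Fintype N]
    (hnorm : NormOneOn ρ N) : (Module.finrank ℂ V : ℂ) ≠ 0 := by
  intro h
  have h0 : Module.finrank ℂ V = 0 := by exact_mod_cast h
  have hV : Subsingleton V := Module.finrank_zero_iff.1 h0
  have hchar : ∀ g : G, ρ.character g = 0 := by
    intro g
    unfold Representation.character
    have : ρ g = 0 := Subsingleton.elim _ _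
    rw [this, map_zero]
  unfold NormOneOn at hnorm
  simp only [hchar, zero_mul, Finset.sum_const_zero] at hnorm
  have hN0 : (Nat.card N : ℂ) ≠ 0 := Nat.cast_ne_zero.2 Nat.card_pos.ne'
  exact hN0 hnorm.symm

/-- Relative Schur for operators of `N`-invariant functions. -/
theorem opSum_eq_smul_id_of_ninv (ρ : Representation ℂ G V) (N : Subgroup G) [Fintype N]
    (hnorm : NormOneOn ρ N) (f : G → ℂ) (hf : IsNInv N f) :
    opSum ρ f = ((∑ g, f g * ρ.character g) / ρ.character 1) • LinearMap.id := by
  obtain ⟨c, hc⟩ := rel_schur ρ N hnorm (opSum ρ f) (fun n hn => opSum_comm_of_ninv ρ N f hf n hn)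
  have hn := finrank_ne_zero_of_normOne ρ N hnorm
  have htr := trace_opSum ρ f
  rw [hc, map_smul, LinearMap.trace_id, smul_eq_mul] at htr
  rw [hc, ← htr, Representation.char_one]
  congr 1
  field_simp

/-- The relative version of the basic product formula: for an `N`-invariant function `f`,
`∑ z, f z χ(y z) = ω(f) χ(y)`. -/
theorem sum_mul_char_of_ninv (ρ : Representation ℂ G V) (N : Subgroup G) [Fintype N]
    (hnorm : NormOneOn ρ N) (f : G → ℂ) (hf : IsNInv N f) (y : G) :
    ∑ z, f z * ρ.character (y * z) =
      (∑ g, f g * ρ.character g) / ρ.character 1 * ρ.character y := by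
  have h1 : LinearMap.trace ℂ V (ρ y ∘ₗ opSum ρ f) = ∑ z, f z * ρ.character (y * z) := by
    unfold opSum Representation.character
    have h2 : ρ y ∘ₗ ∑ g, f g • ρ g = ∑ g, f g • ρ (y * g) := by
      ext v
      simp only [LinearMap.comp_apply, LinearMap.sum_apply, LinearMap.smul_apply, map_sum, map_smul,
        map_mul, Module.End.mul_apply]
    rw [h2, map_sum]
    refine Finset.sum_congr rfl fun z _ => ?_
    rw [map_smul, smul_eq_mul]
  rw [← h1, opSum_eq_smul_id_of_ninv ρ N hnorm f hf, LinearMap.comp_smul, map_smul, smul_eq_mul,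
    LinearMap.comp_id]
  rfl

/-- Integrality of the relative central character on integer-valued `N`-invariant functions. -/
theorem isIntegral_of_ninv (ρ : Representation ℂ G V) (N : Subgroup G) [Fintype N]
    (hnorm : NormOneOn ρ N) (k : G → ℤ) (hk : IsNInv N (fun g => (k g : ℂ))) :
    IsIntegral ℤ ((∑ g, (k g : ℂ) * ρ.character g) / ρ.character 1) := by
  have hn := finrank_ne_zero_of_normOne ρ N hnorm
  have hV : Nontrivial V := by
    by_contra hV
    rw [not_nontrivial_iff_subsingleton] at hV
    apply hn
    have := Module.finrank_zero_of_subsingleton (R := ℂ) (M := V)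
    rw [this]; simp
  have h1 := isIntegral_opSum_int ρ k
  rw [opSum_eq_smul_id_of_ninv ρ N hnorm _ hk] at h1
  have h2 : (((∑ g, (k g : ℂ) * ρ.character g) / ρ.character 1) • LinearMap.id
      : Module.End ℂ V) = algebraMap ℂ (Module.End ℂ V)
        ((∑ g, (k g : ℂ) * ρ.character g) / ρ.character 1) := by
    rw [Algebra.algebraMap_eq_smul_one]
    rfl
  rw [h2] at h1
  exact (isIntegral_algebraMap_iff (FaithfulSMul.algebraMap_injective ℂ (Module.End ℂ V))).1 h1

/-- Norm one on `N` forces norm one on every larger subgroup. -/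
theorem normOneOn_of_le (ρ : Representation ℂ G V) (N J : Subgroup G) [Fintype N] [Fintype J]
    (hnorm : NormOneOn ρ N) (hNJ : N ≤ J) : NormOneOn ρ J := by
  classical
  let τ : Representation ℂ J V := ρ.comp J.subtype
  have hJ0 : (Nat.card J : ℂ) ≠ 0 := Nat.cast_ne_zero.2 Nat.card_pos.ne'
  have : Invertible (Nat.card J : ℂ) := invertibleOfNonzero hJ0
  have h1 := Representation.card_inv_mul_sum_char_mul_char_eq_finrank τ τ
  have hn := finrank_ne_zero_of_normOne ρ N hnorm
  have hV : Nontrivial V := by
    by_contra hV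
    rw [not_nontrivial_iff_subsingleton] at hV
    apply hn
    have := Module.finrank_zero_of_subsingleton (R := ℂ) (M := V)
    rw [this]; simp
  let I1 : Representation.IntertwiningMap τ τ :=
    { toLinearMap := LinearMap.id, isIntertwining' := fun n => by simp }
  have hI1 : I1 ≠ 0 := by
    intro h
    have h3 := congrArg Representation.IntertwiningMap.toLinearMap h
    obtain ⟨v, hv⟩ := exists_ne (0 : V)
    have h4 : (LinearMap.id : V →ₗ[ℂ] V) v = (0 : V →ₗ[ℂ] V) v := by
      have : (LinearMap.id : V →ₗ[ℂ] V) = 0 := h3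
      rw [this]
    exact hv (by simpa using h4)
  have hfr : Module.finrank ℂ (Representation.IntertwiningMap τ τ) = 1 := by
    rw [finrank_eq_one_iff_of_nonzero' I1 hI1]
    intro I
    obtain ⟨c, hc⟩ := rel_schur ρ N hnorm I.toLinearMap (fun n hn => by
      have := I.isIntertwining' ⟨n, hNJ hn⟩
      exact this)
    refine ⟨c, ?_⟩
    apply Representation.IntertwiningMap.ext
    rw [hc]
    rfl
  rw [hfr, Nat.cast_one] at h1
  unfold NormOneOn
  have h2 : ∑ g : J, τ.character g * τ.character g⁻¹ =
      ∑ n : J, ρ.character (n : G) * ρ.character ((n : G)⁻¹) := rfl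
  rw [← h2]
  field_simp at h1
  exact h1

end

end Cfsg.Agent.Lib.Helper8.RelSch
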