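import Mathlib
import Cfsg.Prelude.Def_Blocks

/-!
# Roots of unity of order prime to `p` and residues modulo a maximal ideal over `p`
-/

set_option autoImplicit false

namespace Cfsg.Agent.Lib.Helper8

open Cfsg Polynomial

section

variable {p : ℕ} {M : Ideal AlgInt}

/-- Reduction modulo `M` is injective on roots of unity of order prime to `p`. -/
theorem root_eq_of_sub_mem (hM : IsPModular p M) {ε₁ ε₂ : AlgInt} {m₁ m₂ : ℕ}
    (hm₁ : ¬ p ∣ m₁) (h₁ : ε₁ ^ m₁ = 1) (hm₂ : ¬ p ∣ m₂) (h₂ : ε₂ ^ m₂ = 1)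
    (hsub : ε₁ - ε₂ ∈ M) : ε₁ = ε₂ := by
  have hMmax : M.IsMaximal := hM.2.1
  have hp : p.Prime := hM.1
  have hpM : (p : AlgInt) ∈ M := hM.2.2
  by_contra hne
  set m := m₁ * m₂ with hmdef
  have hm : ¬ p ∣ m := by
    intro h
    rcases (Nat.Prime.dvd_mul hp).1 h with h | h
    · exact hm₁ h
    · exact hm₂ h
  have hm0 : m ≠ 0 := by
    rintro h
    rw [h] at hm
    exact hm (dvd_zero p)
  have h1m : ε₁ ^ m = 1 := by rw [hmdef, pow_mul, h₁, one_pow]
  have h2m : ε₂ ^ m = 1 := by rw [hmdef, mul_comm, pow_mul, h₂, one_pow]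
  set ζ := ε₁ * ε₂ ^ (m - 1) with hζ
  have hε2 : ε₂ * ε₂ ^ (m - 1) = 1 := by
    rw [← pow_succ', Nat.sub_add_cancel (Nat.one_le_iff_ne_zero.2 hm0), h2m]
  have hζm : ζ ^ m = 1 := by
    rw [hζ, mul_pow, h1m, one_mul, ← pow_mul, mul_comm, pow_mul, h2m, one_pow]
  have hζ1 : ζ - 1 ∈ M := by
    have : ζ - 1 = ε₂ ^ (m - 1) * (ε₁ - ε₂) := by
      rw [hζ, mul_sub, mul_comm (ε₂ ^ (m - 1)) ε₂, hε2]; ring
    rw [this]
    exact M.mul_mem_left _ hsub
  have hζne : ζ ≠ 1 := by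
    intro h
    apply hne
    have : ε₁ = ζ * ε₂ := by
      rw [hζ, mul_assoc, mul_comm (ε₂ ^ (m - 1)) ε₂, hε2, mul_one]
    rw [this, h, one_mul]
  have hgeom : (∑ k ∈ Finset.range m, ζ ^ k) * (ζ - 1) = 0 := by
    rw [geom_sum_mul, hζm, sub_self]
  have hsum0 : ∑ k ∈ Finset.range m, ζ ^ k = 0 := by
    rcases mul_eq_zero.1 hgeom with h | h
    · exact h
    · exact absurd (sub_eq_zero.1 h) hζne
  have hpow : ∀ k : ℕ, ζ ^ k - 1 ∈ M := by
    intro k
    have : ζ ^ k - 1 = (∑ i ∈ Finset.range k, ζ ^ i) * (ζ - 1) := by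
      rw [geom_sum_mul]
    rw [this]
    exact M.mul_mem_left _ hζ1
  have hmM : (m : AlgInt) ∈ M := by
    have h1 : (∑ k ∈ Finset.range m, ζ ^ k) - (m : AlgInt) ∈ M := by
      have : (∑ k ∈ Finset.range m, ζ ^ k) - (m : AlgInt) =
          ∑ k ∈ Finset.range m, (ζ ^ k - 1) := by
        rw [Finset.sum_sub_distrib]
        simp
      rw [this]
      exact M.sum_mem fun k _ => hpow k
    rw [hsum0, zero_sub] at h1
    exact (M.neg_mem_iff).1 h1
  -- `1 ∈ M`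
  have hcop : Nat.Coprime p m := (Nat.Prime.coprime_iff_not_dvd hp).2 hm
  have hone : (1 : AlgInt) ∈ M := by
    have hb := Nat.gcd_eq_gcd_ab p m
    rw [hcop.gcd_eq_one] at hb
    have h2 : (1 : AlgInt) = (p : AlgInt) * ((Nat.gcdA p m : ℤ) : AlgInt) +
        (m : AlgInt) * ((Nat.gcdB p m : ℤ) : AlgInt) := by
      have := congrArg (fun z : ℤ => (z : AlgInt)) hb
      push_cast at this
      exact this
    rw [h2]
    exact M.add_mem (M.mul_mem_right _ hpM) (M.mul_mem_right _ hmM)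
  exact hMmax.ne_top ((Ideal.eq_top_iff_one M).2 hone)

end

end Cfsg.Agent.Lib.Helper8
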