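import Mathlib
import Cfsg.Prelude.Def_Blocks

/-!
# Nonzero residues modulo a maximal ideal over `p` are represented by roots of unity
-/

set_option autoImplicit false

namespace Cfsg.Agent.Lib.Helper8

open Cfsg Polynomial IntermediateField

section

variable {p : ℕ} {M : Ideal AlgInt}

/-- Every algebraic integer outside `M` has a power, of exponent prime to `p`, congruent to `1`. -/
theorem exists_pow_sub_one_mem [hpf : Fact p.Prime] (hM : IsPModular p M) {a : AlgInt}
    (ha : a ∉ M) : ∃ n : ℕ, 0 < n ∧ ¬ p ∣ n ∧ a ^ n - 1 ∈ M := by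
  classical
  haveI hMmax : M.IsMaximal := hM.2.1
  have hpM : (p : AlgInt) ∈ M := hM.2.2
  letI : Field (AlgInt ⧸ M) := Ideal.Quotient.field M
  haveI hchar : CharP (AlgInt ⧸ M) p := by
    rw [CharP.charP_iff_prime_eq_zero hpf.1]
    have : ((p : AlgInt ⧸ M)) = Ideal.Quotient.mk M (p : AlgInt) := by simp
    rw [this, Ideal.Quotient.eq_zero_iff_mem]
    exact hpM
  letI : Algebra (ZMod p) (AlgInt ⧸ M) := ZMod.algebra _ p
  set abar : AlgInt ⧸ M := Ideal.Quotient.mk M a with habar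
  have habar0 : abar ≠ 0 := by
    rw [habar, Ne, Ideal.Quotient.eq_zero_iff_mem]
    exact ha
  have hintZ : IsIntegral ℤ a := Algebra.IsIntegral.isIntegral a
  have hintZ' : IsIntegral ℤ abar := by
    have := hintZ.map (Ideal.Quotient.mkₐ ℤ M)
    exact this
  have hint : IsIntegral (ZMod p) abar := hintZ'.tower_top
  haveI hfd : FiniteDimensional (ZMod p) (ZMod p)⟮abar⟯ :=
    IntermediateField.adjoin.finiteDimensional hint
  haveI hfin : Finite (ZMod p)⟮abar⟯ := Module.finite_of_finite (ZMod p)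
  letI : Fintype (ZMod p)⟮abar⟯ := Fintype.ofFinite _
  haveI : CharP (ZMod p)⟮abar⟯ p := by
    infer_instance
  obtain ⟨n, _, hn⟩ := FiniteField.card (ZMod p)⟮abar⟯ p
  set b : (ZMod p)⟮abar⟯ := ⟨abar, IntermediateField.mem_adjoin_simple_self _ _⟩ with hb
  have hb0 : b ≠ 0 := by
    intro h
    apply habar0
    have := congrArg Subtype.val h
    exact this
  have hpow := FiniteField.pow_card_sub_one_eq_one b hb0
  rw [hn] at hpow
  have hpow' : abar ^ (p ^ (n : ℕ) - 1) = 1 := by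
    have := congrArg Subtype.val hpow
    simpa using this
  refine ⟨p ^ (n : ℕ) - 1, ?_, ?_, ?_⟩
  · have : 2 ≤ p ^ (n : ℕ) := by
      calc 2 ≤ p := hpf.1.two_le
        _ = p ^ 1 := (pow_one p).symm
        _ ≤ p ^ (n : ℕ) := Nat.pow_le_pow_right hpf.1.pos n.2
    omega
  · intro hdvd
    have h1 : p ∣ p ^ (n : ℕ) := dvd_pow_self p n.ne_zero
    have h2 : 1 ≤ p ^ (n : ℕ) := Nat.one_le_pow _ _ hpf.1.pos
    have h3 : p ∣ 1 := by
      have := (Nat.dvd_sub h1 hdvd)
      rwa [Nat.sub_sub_self h2] at this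
    exact hpf.1.one_lt.ne' (Nat.dvd_one.1 h3)
  · rw [← Ideal.Quotient.eq_zero_iff_mem, map_sub, map_pow, map_one, ← habar, hpow', sub_self]

/-- Every algebraic integer outside `M` is congruent modulo `M` to a root of unity of order prime
to `p`. -/
theorem exists_root_sub_mem [hpf : Fact p.Prime] (hM : IsPModular p M) {a : AlgInt}
    (ha : a ∉ M) : ∃ ε : AlgInt, (∃ m : ℕ, ¬ p ∣ m ∧ ε ^ m = 1) ∧ a - ε ∈ M := by
  classical
  have hMp : M.IsPrime := hM.2.1.isPrime
  obtain ⟨n, hn0, hnp, hmem⟩ := exists_pow_sub_one_mem hM ha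
  -- a primitive root in `AlgInt`
  set z : ℂ := Complex.exp (2 * Real.pi * Complex.I / n) with hz
  have hzprim : IsPrimitiveRoot z n := Complex.isPrimitiveRoot_exp n hn0.ne'
  have hzint : IsIntegral ℤ z := by
    refine ⟨X ^ n - 1, monic_X_pow_sub_C 1 hn0.ne', ?_⟩
    simp [hzprim.pow_eq_one]
  set ζ : AlgInt := ⟨z, hzint⟩ with hζ
  have hζprim : IsPrimitiveRoot ζ n := by
    refine IsPrimitiveRoot.of_map_of_injective (f := AlgInt.val) ?_ ?_
    · exact hzprim
    · exact Subtype.val_injective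
  have hfac := X_pow_sub_one_eq_prod hn0 hζprim
  have heval := congrArg (Polynomial.eval a) hfac
  rw [eval_sub, eval_pow, eval_X, eval_one, eval_prod] at heval
  simp only [eval_sub, eval_X, eval_C] at heval
  rw [heval] at hmem
  obtain ⟨ε, hε, hεM⟩ := (Ideal.IsPrime.prod_mem_iff).1 hmem
  refine ⟨ε, ⟨n, hnp, ?_⟩, hεM⟩
  exact (mem_nthRootsFinset hn0 1).1 hε

end

end Cfsg.Agent.Lib.Helper8
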