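import Mathlib
import Cfsg.Prelude.Def_Blocks
import Cfsg.Agent.Lib.Helper8.BlockLocal
import Cfsg.Agent.Lib.Helper8.RU1
import Cfsg.Agent.Lib.Helper8.RU2

/-!
# The graded argument: a multiplicative functional on the `N`-invariant integral functions which is
the augmentation modulo `M` on those supported on `N` is, modulo `M`, the augmentation twisted by a
linear character of `G / N`.
-/

set_option autoImplicit false

namespace Cfsg.Agent.Lib.Helper8.RelSch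

open Cfsg Cfsg.Agent.Lib.Helper8

universe u

section ZFun

variable {G : Type u} [Group G] [Fintype G] (N : Subgroup G)

/-- Integer-valued functions invariant under conjugation by `N`. -/
def ZInv (f : G → ℤ) : Prop := ∀ n ∈ N, ∀ x : G, f (n * x * n⁻¹) = f x

/-- Convolution of integer-valued functions. -/
def zconv (f h : G → ℤ) : G → ℤ := fun x => ∑ y, f y * h (y⁻¹ * x)

theorem sum_zconv (f h : G → ℤ) : ∑ x, zconv f h x = (∑ x, f x) * ∑ x, h x := by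
  unfold zconv
  rw [Finset.sum_comm, Finset.sum_mul]
  refine Finset.sum_congr rfl fun y _ => ?_
  rw [← Finset.mul_sum]
  congr 1
  exact Equiv.sum_comp (Equiv.mulLeft y⁻¹) h

theorem zInv_zconv {f h : G → ℤ} (hf : ZInv N f) (hh : ZInv N h) : ZInv N (zconv f h) := by
  intro n hn x
  unfold zconv
  rw [← Equiv.sum_comp (MulAut.conj n).toEquiv]
  refine Finset.sum_congr rfl fun y _ => ?_
  simp only [MulEquiv.toEquiv_eq_coe, EquivLike.coe_coe, MulAut.conj_apply]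
  rw [hf n hn y]
  congr 1
  have : (n * y * n⁻¹)⁻¹ * (n * x * n⁻¹) = n * (y⁻¹ * x) * n⁻¹ := by group
  rw [this, hh n hn]

variable [N.Normal]

/-- Functions supported in a coset of `N`. -/
def ZSupp (f : G → ℤ) (κ : G ⧸ N) : Prop := ∀ g : G, f g ≠ 0 → (g : G ⧸ N) = κ

theorem zSupp_zconv {f h : G → ℤ} {κ κ' : G ⧸ N} (hf : ZSupp N f κ) (hh : ZSupp N h κ') :
    ZSupp N (zconv f h) (κ * κ') := by
  intro x hx
  unfold zconv at hx
  obtain ⟨y, -, hy⟩ := Finset.exists_ne_zero_of_sum_ne_zero hx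
  have h1 : f y ≠ 0 := fun h0 => hy (by rw [h0, zero_mul])
  have h2 : h (y⁻¹ * x) ≠ 0 := fun h0 => hy (by rw [h0, mul_zero])
  rw [← hf y h1, ← hh _ h2, ← QuotientGroup.mk_mul, mul_inv_cancel_left]

end ZFun

section Key

variable {G : Type u} [Group G] [Fintype G] (N : Subgroup G) [N.Normal]
variable {p : ℕ} [Fact p.Prime] {M : Ideal AlgInt}

omit [Fact p.Prime] in
theorem li_cancel (hM : IsPModular p M) {z w : ℂ} (hz : MemLocalRing M z) (hw : MemLocalRing M w)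
    (hz' : ¬ MemLocalIdeal M z) (h : MemLocalIdeal M (z * w)) : MemLocalIdeal M w := by
  by_contra hw'
  exact not_memLocalIdeal_mul (isPModular_isPrime hM) hz hw hz' hw' h

theorem key_abstract (hM : IsPModular p M) (Ω : (G → ℤ) → ℂ)
    (H1 : ∀ f h, ZInv N f → ZInv N h → Ω (zconv f h) = Ω f * Ω h)
    (H2 : ∀ f, ZInv N f → IsIntegral ℤ (Ω f))
    (H3 : ∀ f, ZInv N f → ZSupp N f 1 → MemLocalIdeal M (Ω f - ((∑ x, f x : ℤ) : ℂ)))
    (H4 : ∀ κ : G ⧸ N, ∃ f, ZInv N f ∧ ZSupp N f κ ∧ ¬ (p : ℤ) ∣ ∑ x, f x) :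
    ∃ β : G ⧸ N → AlgInt, (∀ κ, ∃ m : ℕ, ¬ p ∣ m ∧ β κ ^ m = 1) ∧
      (∀ κ κ', β (κ * κ') = β κ * β κ') ∧
      ∀ κ f, ZInv N f → ZSupp N f κ →
        MemLocalIdeal M (Ω f - (β κ : ℂ) * ((∑ x, f x : ℤ) : ℂ)) := by
  classical
  have hMp : M.IsPrime := isPModular_isPrime hM
  have hMt : M ≠ ⊤ := isPModular_ne_top hM
  have hp : p.Prime := Fact.out
  -- basic closure facts
  have LRΩ : ∀ f, ZInv N f → MemLocalRing M (Ω f) := fun f hf =>
    memLocalRing_of_isIntegral hMt (H2 f hf)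
  have LRint : ∀ n : ℤ, MemLocalRing M (n : ℂ) := fun n => memLocalRing_intCast hMt n
  have nLIint : ∀ n : ℤ, ¬ (p : ℤ) ∣ n → ¬ MemLocalIdeal M (n : ℂ) := fun n hn h =>
    hn ((memLocalIdeal_intCast_iff hM n).1 h)
  -- Step A
  have stepA : ∀ (κ : G ⧸ N) (f g : G → ℤ), ZInv N f → ZInv N g → ZSupp N f κ → ZSupp N g κ⁻¹ →
      MemLocalIdeal M (Ω f * Ω g - ((∑ x, f x : ℤ) : ℂ) * ((∑ x, g x : ℤ) : ℂ)) := by
    intro κ f g hf hg hfs hgs
    have h1 := H3 (zconv f g) (zInv_zconv N hf hg) (by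
      have := zSupp_zconv N hfs hgs
      rwa [mul_inv_cancel] at this)
    rw [H1 f g hf hg, sum_zconv] at h1
    push_cast at h1 ⊢
    exact h1
  choose F hFinv hFsupp hFp using H4
  set e : G ⧸ N → ℤ := fun κ => ∑ x, F κ x with he
  have he' : ∀ κ, ¬ MemLocalIdeal M ((e κ : ℤ) : ℂ) := fun κ => nLIint _ (hFp κ)
  -- Step B
  have stepB : ∀ κ, ¬ MemLocalIdeal M (Ω (F κ)) := by
    intro κ h
    have h1 := stepA κ (F κ) (F κ⁻¹) (hFinv κ) (hFinv κ⁻¹) (hFsupp κ) (hFsupp κ⁻¹)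
    have h2 : MemLocalIdeal M (Ω (F κ) * Ω (F κ⁻¹)) :=
      memLocalIdeal_mul_right hMp h (LRΩ _ (hFinv κ⁻¹))
    have h3 : MemLocalIdeal M (((e κ : ℤ) : ℂ) * ((e κ⁻¹ : ℤ) : ℂ)) := by
      have := memLocalIdeal_sub hMp h2 h1
      rwa [sub_sub_cancel] at this
    exact not_memLocalIdeal_mul hMp (LRint _) (LRint _) (he' κ) (he' κ⁻¹) h3
  -- Step C
  have stepC : ∀ κ, ∃ b : AlgInt, (∃ m : ℕ, ¬ p ∣ m ∧ b ^ m = 1) ∧
      MemLocalIdeal M (Ω (F κ) - (b : ℂ) * ((e κ : ℤ) : ℂ)) := by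
    intro κ
    have hcop : IsCoprime (p : ℤ) (e κ) :=
      (Prime.coprime_iff_not_dvd (Nat.prime_iff_prime_int.1 hp)).2 (hFp κ)
    obtain ⟨u, v, huv⟩ := hcop
    -- v * e ≡ 1 mod p
    have hv : MemLocalIdeal M ((((v * e κ : ℤ)) : ℂ) - 1) := by
      have h1 : (v * e κ : ℤ) - 1 = - (u * p) := by linarith
      have h2 : MemLocalIdeal M (((v * e κ - 1 : ℤ)) : ℂ) := by
        rw [memLocalIdeal_intCast_iff hM, h1]
        exact (dvd_mul_left _ _).neg_right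
      push_cast at h2 ⊢
      exact h2
    have hvn : ¬ MemLocalIdeal M ((v : ℤ) : ℂ) := by
      intro h
      have h1 : MemLocalIdeal M (((v : ℤ) : ℂ) * ((e κ : ℤ) : ℂ)) :=
        memLocalIdeal_mul_right hMp h (LRint _)
      have h2 := memLocalIdeal_sub hMp h1 hv
      push_cast at h2
      rw [sub_sub_cancel] at h2
      exact not_memLocalIdeal_one hMp h2
    let a : AlgInt := ⟨Ω (F κ), H2 _ (hFinv κ)⟩
    let a' : AlgInt := a * (v : AlgInt)
    have ha' : a' ∉ M := by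
      intro h
      have h1 := (memLocalIdeal_algInt_iff hMp a').2 h
      have h2 : ((a' : AlgInt) : ℂ) = Ω (F κ) * ((v : ℤ) : ℂ) := by
        simp [a', a]
      rw [h2] at h1
      exact not_memLocalIdeal_mul hMp (LRΩ _ (hFinv κ)) (LRint _) (stepB κ) hvn h1
    obtain ⟨b, hb, hab⟩ := exists_root_sub_mem hM ha'
    refine ⟨b, hb, ?_⟩
    have h1 := (memLocalIdeal_algInt_iff hMp (a' - b)).2 hab
    have h2 : (((a' - b : AlgInt)) : ℂ) = Ω (F κ) * ((v : ℤ) : ℂ) - (b : ℂ) := by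
      simp [a', a]
    rw [h2] at h1
    -- multiply by e
    have h3 : MemLocalIdeal M ((Ω (F κ) * ((v : ℤ) : ℂ) - (b : ℂ)) * ((e κ : ℤ) : ℂ)) :=
      memLocalIdeal_mul_right hMp h1 (LRint _)
    have h4 : MemLocalIdeal M (Ω (F κ) * ((((v * e κ : ℤ)) : ℂ) - 1)) :=
      memLocalIdeal_mul_left hMp (LRΩ _ (hFinv κ)) hv
    have h5 := memLocalIdeal_sub hMp h3 h4
    have h6 : (Ω (F κ) * ((v : ℤ) : ℂ) - (b : ℂ)) * ((e κ : ℤ) : ℂ)
        - Ω (F κ) * ((((v * e κ : ℤ)) : ℂ) - 1) = Ω (F κ) - (b : ℂ) * ((e κ : ℤ) : ℂ) := by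
      push_cast
      ring
    rwa [h6] at h5
  choose β hβroot hβF using stepC
  have LRβ : ∀ κ, MemLocalRing M ((β κ : AlgInt) : ℂ) := fun κ => memLocalRing_algInt hMt _
  -- Step D
  have stepD : ∀ κ f, ZInv N f → ZSupp N f κ →
      MemLocalIdeal M (Ω f - (β κ : ℂ) * ((∑ x, f x : ℤ) : ℂ)) := by
    intro κ f hf hfs
    set g := F κ⁻¹ with hg
    set y := Ω g with hy
    set x := Ω f with hx
    set w := Ω (F κ) with hw
    set ε : ℂ := ((∑ x, f x : ℤ) : ℂ) with hε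
    set e1 : ℂ := ((e κ : ℤ) : ℂ) with he1
    set e2 : ℂ := ((e κ⁻¹ : ℤ) : ℂ) with he2
    set b : ℂ := (β κ : ℂ) with hb
    have A1 : MemLocalIdeal M (x * y - ε * e2) :=
      stepA κ f g hf (hFinv κ⁻¹) hfs (hFsupp κ⁻¹)
    have A2 : MemLocalIdeal M (w * y - e1 * e2) :=
      stepA κ (F κ) g (hFinv κ) (hFinv κ⁻¹) (hFsupp κ) (hFsupp κ⁻¹)
    have C : MemLocalIdeal M (w - b * e1) := hβF κ
    have LRy : MemLocalRing M y := LRΩ _ (hFinv κ⁻¹)
    have LRx : MemLocalRing M x := LRΩ _ hf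
    have LRb : MemLocalRing M b := LRβ κ
    have LRe1 : MemLocalRing M e1 := LRint _
    have LRe2 : MemLocalRing M e2 := LRint _
    have h1 : MemLocalIdeal M ((w - b * e1) * y) := memLocalIdeal_mul_right hMp C LRy
    have h2 : MemLocalIdeal M (e1 * (b * y - e2)) := by
      have := memLocalIdeal_sub hMp A2 h1
      have h3 : w * y - e1 * e2 - (w - b * e1) * y = e1 * (b * y - e2) := by ring
      rwa [h3] at this
    have h3 : MemLocalIdeal M (b * y - e2) :=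
      li_cancel hM LRe1 (memLocalRing_sub hMp (memLocalRing_mul hMp LRb LRy) LRe2) (he' κ) h2
    have h4 : MemLocalIdeal M (e2 * (x - b * ε)) := by
      have h5 : MemLocalIdeal M (x * (b * y - e2)) := memLocalIdeal_mul_left hMp LRx h3
      have h6 : MemLocalIdeal M (b * (x * y - ε * e2)) := memLocalIdeal_mul_left hMp LRb A1
      have := memLocalIdeal_sub hMp h6 h5
      have h7 : b * (x * y - ε * e2) - x * (b * y - e2) = e2 * (x - b * ε) := by ring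
      rwa [h7] at this
    exact li_cancel hM LRe2 (memLocalRing_sub hMp LRx (memLocalRing_mul hMp LRb (LRint _)))
      (he' κ⁻¹) h4
  refine ⟨β, hβroot, ?_, stepD⟩
  -- multiplicativity
  intro κ κ'
  obtain ⟨m, hm, hbm⟩ := hβroot (κ * κ')
  obtain ⟨m1, hm1, hbm1⟩ := hβroot κ
  obtain ⟨m2, hm2, hbm2⟩ := hβroot κ'
  have hprod : (β κ * β κ') ^ (m1 * m2) = 1 := by
    rw [mul_pow, pow_mul, hbm1, one_pow, mul_comm m1 m2, pow_mul, hbm2, one_pow, one_mul]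
  have hm12 : ¬ p ∣ m1 * m2 := fun h => (hp.dvd_mul.1 h).elim hm1 hm2
  apply root_eq_of_sub_mem hM hm hbm hm12 hprod
  rw [← memLocalIdeal_algInt_iff hMp]
  set f := F κ with hf
  set h := F κ' with hh
  have K1 := stepD (κ * κ') (zconv f h) (zInv_zconv N (hFinv κ) (hFinv κ'))
    (zSupp_zconv N (hFsupp κ) (hFsupp κ'))
  rw [H1 f h (hFinv κ) (hFinv κ'), sum_zconv] at K1
  have K2 := hβF κ
  have K3 := hβF κ'
  set e1 : ℂ := ((e κ : ℤ) : ℂ) with he1
  set e2 : ℂ := ((e κ' : ℤ) : ℂ) with he2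
  have K1' : MemLocalIdeal M (Ω f * Ω h - ((β (κ * κ') : AlgInt) : ℂ) * (e1 * e2)) := by
    rw [Int.cast_mul] at K1
    exact K1
  have h1 : MemLocalIdeal M ((Ω f - (β κ : ℂ) * e1) * Ω h) :=
    memLocalIdeal_mul_right hMp K2 (LRΩ _ (hFinv κ'))
  have h2 : MemLocalIdeal M ((β κ : ℂ) * e1 * (Ω h - (β κ' : ℂ) * e2)) :=
    memLocalIdeal_mul_left hMp (memLocalRing_mul hMp (LRβ κ) (LRint _)) K3
  have h3 := memLocalIdeal_sub hMp (memLocalIdeal_add hMp h1 h2) K1'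
  have h4 : (Ω f - (β κ : ℂ) * e1) * Ω h + (β κ : ℂ) * e1 * (Ω h - (β κ' : ℂ) * e2)
      - (Ω f * Ω h - ((β (κ * κ') : AlgInt) : ℂ) * (e1 * e2))
      = (e1 * e2) * (((β (κ * κ') : AlgInt) : ℂ) - (β κ : ℂ) * (β κ' : ℂ)) := by ring
  rw [h4] at h3
  have h5 : ¬ MemLocalIdeal M (e1 * e2) :=
    not_memLocalIdeal_mul hMp (LRint _) (LRint _) (he' κ) (he' κ')
  have h6 := li_cancel hM (memLocalRing_mul hMp (LRint _) (LRint _))
    (memLocalRing_sub hMp (LRβ _) (memLocalRing_mul hMp (LRβ κ) (LRβ κ'))) h5 h3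
  have h7 : (((β (κ * κ') - β κ * β κ' : AlgInt)) : ℂ)
      = ((β (κ * κ') : AlgInt) : ℂ) - (β κ : ℂ) * (β κ' : ℂ) := by
    push_cast
    rfl
  rw [h7]
  exact h6

end Key

end Cfsg.Agent.Lib.Helper8.RelSch
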