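import Mathlib
import Cfsg.Agent.Lib.Helper8.RelSch2

/-!
# An `N`-invariant counting function supported in the coset of an element centralizing a subgroup
`P` of `N`, of augmentation `|N : P|`.
-/

set_option autoImplicit false

namespace Cfsg.Agent.Lib.Helper8.RelSch

universe u

section

variable {G : Type u} [Group G] (N : Subgroup G) (P : Subgroup N) (c : G)

/-- The map `nP ↦ n c n⁻¹`, for `c` centralizing `P`. -/
def cosetLift (hc : ∀ x ∈ P, c * (x : G) = (x : G) * c) (q : N ⧸ P) : G :=
  Quotient.liftOn' q (fun n : N => (n : G) * c * (n : G)⁻¹) (by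
    intro a b hab
    rw [QuotientGroup.leftRel_apply] at hab
    have h1 := hc _ hab
    have h2 : (b : G) = (a : G) * ((a⁻¹ * b : N) : G) := by
      push_cast
      group
    show (a : G) * c * (a : G)⁻¹ = (b : G) * c * (b : G)⁻¹
    have h3 : ((a⁻¹ * b : N) : G) * c * ((a⁻¹ * b : N) : G)⁻¹ = c := by
      rw [← h1]; group
    rw [h2]
    calc (a : G) * c * (a : G)⁻¹
        = (a : G) * (((a⁻¹ * b : N) : G) * c * ((a⁻¹ * b : N) : G)⁻¹) * (a : G)⁻¹ := by rw [h3]
      _ = _ := by group)

theorem cosetLift_mk (hc : ∀ x ∈ P, c * (x : G) = (x : G) * c) (n : N) :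
    cosetLift N P c hc (n : N ⧸ P) = (n : G) * c * (n : G)⁻¹ := rfl

theorem cosetLift_smul (hc : ∀ x ∈ P, c * (x : G) = (x : G) * c) (m : N) (q : N ⧸ P) :
    cosetLift N P c hc (m • q) = (m : G) * cosetLift N P c hc q * (m : G)⁻¹ := by
  induction q using Quotient.inductionOn' with
  | h a =>
    show cosetLift N P c hc (m • (a : N ⧸ P)) = _
    rw [MulAction.Quotient.smul_coe, cosetLift_mk, cosetLift_mk, smul_eq_mul]
    push_cast
    group

variable [Fintype G]

open Classical in
/-- The number of cosets `nP` with `n c n⁻¹ = g`. -/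
noncomputable def cosetFun (hc : ∀ x ∈ P, c * (x : G) = (x : G) * c) (g : G) : ℤ :=
  ((Finset.univ.filter (fun q : N ⧸ P => cosetLift N P c hc q = g)).card : ℤ)

theorem zInv_cosetFun (hc : ∀ x ∈ P, c * (x : G) = (x : G) * c) :
    ZInv N (cosetFun N P c hc) := by
  classical
  intro n hn x
  unfold cosetFun
  congr 1
  apply Finset.card_equiv (MulAction.toPerm ((⟨n, hn⟩ : N)⁻¹))
  intro q
  simp only [Finset.mem_filter, Finset.mem_univ, true_and, MulAction.toPerm_apply]
  rw [cosetLift_smul]
  constructor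
  · intro h
    rw [h]
    push_cast
    group
  · intro h
    rw [← h]
    push_cast
    group

theorem sum_cosetFun (hc : ∀ x ∈ P, c * (x : G) = (x : G) * c) :
    ∑ g, cosetFun N P c hc g = (P.index : ℤ) := by
  classical
  unfold cosetFun
  rw [← Nat.cast_sum]
  congr 1
  rw [← Finset.card_eq_sum_card_fiberwise (s := (Finset.univ : Finset (N ⧸ P)))
    (t := (Finset.univ : Finset G)) (f := cosetLift N P c hc) (fun _ _ => Finset.mem_univ _)]
  rw [Finset.card_univ, Subgroup.index, Nat.card_eq_fintype_card]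

variable [N.Normal]

theorem zSupp_cosetFun (hc : ∀ x ∈ P, c * (x : G) = (x : G) * c) :
    ZSupp N (cosetFun N P c hc) (c : G ⧸ N) := by
  classical
  intro g hg
  unfold cosetFun at hg
  have h1 : (Finset.univ.filter (fun q : N ⧸ P => cosetLift N P c hc q = g)).Nonempty := by
    rw [Finset.nonempty_iff_ne_empty]
    intro h
    rw [h] at hg
    simp at hg
  obtain ⟨q, hq⟩ := h1
  simp only [Finset.mem_filter, Finset.mem_univ, true_and] at hq
  induction q using Quotient.inductionOn' with
  | h a =>
    have h2 : cosetLift N P c hc (a : N ⧸ P) = g := hq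
    rw [cosetLift_mk] at h2
    rw [← h2, QuotientGroup.mk_mul, QuotientGroup.mk_mul, QuotientGroup.mk_inv,
      (QuotientGroup.eq_one_iff (a : G)).2 a.2]
    simp

end

end Cfsg.Agent.Lib.Helper8.RelSch
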