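import Mathlib
import Cfsg.Agent.Lib.Helper8.RelSch1
import Cfsg.Agent.Lib.Helper8.RelSch3
import Cfsg.Agent.Lib.Helper8.BlockDefect
import Cfsg.Agent.Lib.Helper1.LinearChar

/-!
# Twisting an extension of a principal-block character into the principal block
-/

set_option autoImplicit false

namespace Cfsg.Agent.Lib.Helper8.RelSch

open Cfsg Cfsg.Agent.Lib.Helper8 Cfsg.Agent.Lib.Helper1 Cfsg.Agent.Lib.Helper4

universe u v

section

variable {G : Type u} [Group G] [Fintype G] (N : Subgroup G) [N.Normal] [Fintype N]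
variable {p : ℕ} [Fact p.Prime] {M : Ideal AlgInt}
variable {V : Type v} [AddCommGroup V] [Module ℂ V] [FiniteDimensional ℂ V]

/-- The relative central character on integer-valued functions. -/
noncomputable def relOm (ρ : Representation ℂ G V) (f : G → ℤ) : ℂ :=
  (∑ g, (f g : ℂ) * ρ.character g) / ρ.character 1

omit [N.Normal] [Fintype G] [Fintype N] in
theorem zInv_cast {f : G → ℤ} (hf : ZInv N f) : IsNInv N (fun g => (f g : ℂ)) := by
  intro n hn x
  show ((f (n * x * n⁻¹) : ℤ) : ℂ) = _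
  rw [hf n hn x]

omit [N.Normal] in
theorem relOm_zconv (ρ : Representation ℂ G V) (hnorm : NormOneOn ρ N) (f h : G → ℤ)
    (hh : ZInv N h) : relOm ρ (zconv f h) = relOm ρ f * relOm ρ h := by
  unfold relOm
  have h1 : ∑ x, ((zconv f h x : ℤ) : ℂ) * ρ.character x
      = ∑ y, (f y : ℂ) * ∑ z, (h z : ℂ) * ρ.character (y * z) := by
    unfold zconv
    simp only [Int.cast_sum, Int.cast_mul, Finset.sum_mul, Finset.mul_sum]
    rw [Finset.sum_comm]
    refine Finset.sum_congr rfl fun y _ => ?_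
    rw [← Equiv.sum_comp (Equiv.mulLeft y)]
    refine Finset.sum_congr rfl fun z _ => ?_
    simp only [Equiv.coe_mulLeft, inv_mul_cancel_left]
    ring
  rw [h1]
  simp only [sum_mul_char_of_ninv ρ N hnorm _ (zInv_cast N hh)]
  have h2 : ∑ y, (f y : ℂ) * ((∑ g, (h g : ℂ) * ρ.character g) / ρ.character 1 * ρ.character y)
      = (∑ g, (h g : ℂ) * ρ.character g) / ρ.character 1 * ∑ y, (f y : ℂ) * ρ.character y := by
    rw [Finset.mul_sum]
    refine Finset.sum_congr rfl fun y _ => ?_
    ring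
  rw [h2]
  ring

omit [Fact p.Prime] [N.Normal] [FiniteDimensional ℂ V] in
/-- On functions supported on `N`, the relative central character of an extension of a character in
the principal block of `N` is the augmentation modulo `M`. -/
theorem relOm_supp_one (hM : M.IsPrime) (ρ : Representation ℂ G V)
    (hirrN : IsIrrCharacter N (fun n : N => ρ.character (n : G)))
    (hprin : SameBlock M (fun _ : N => (1 : ℂ)) (fun n : N => ρ.character (n : G)))
    (f : G → ℤ) (hf : ZInv N f) (hsupp : ∀ g, f g ≠ 0 → g ∈ N) :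
    MemLocalIdeal M (relOm ρ f - ((∑ x, f x : ℤ) : ℂ)) := by
  classical
  set F : N → ℂ := fun n => (f (n : G) : ℂ) with hF
  have hFc : IsClassFunction N F := by
    intro g h
    show ((f ((h * g * h⁻¹ : N) : G) : ℤ) : ℂ) = (f (g : G) : ℂ)
    have := hf (h : G) h.2 (g : G)
    push_cast
    rw [this]
  have hFS : ∀ n, MemLocalRing M (F n) := fun n => memLocalRing_intCast hM.ne_top _
  have h1 := memLocalIdeal_omega_sub hM (isIrrCharacter_of_hom (1 : N →* ℂˣ))
    hirrN (by simpa using hprin) hFc hFS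
  have hsum : ∀ (φ : G → ℂ), ∑ g, (f g : ℂ) * φ g = ∑ n : N, F n * φ (n : G) := by
    intro φ
    have h2 : ∑ g, (f g : ℂ) * φ g = ∑ g ∈ Finset.univ.filter (· ∈ N), (f g : ℂ) * φ g := by
      rw [Finset.sum_filter]
      refine Finset.sum_congr rfl fun g _ => ?_
      split_ifs with hg
      · rfl
      · have : f g = 0 := by
          by_contra h0
          exact hg (hsupp g h0)
        rw [this]; simp
    rw [h2]
    convert Finset.sum_subtype (Finset.univ.filter (· ∈ N)) (p := (· ∈ N)) (by simp)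
      (fun g => (f g : ℂ) * φ g)
  have h3 : relOm ρ f = omega (fun n : N => ρ.character (n : G)) F := by
    unfold relOm omega
    rw [hsum]
    rfl
  have h4 : ((∑ x, f x : ℤ) : ℂ) = omega (fun n : N => (((1 : N →* ℂˣ) n : ℂˣ) : ℂ)) F := by
    unfold omega
    have := hsum (fun _ => 1)
    simp only [mul_one] at this
    push_cast
    rw [this]
    simp
  rw [h3, h4]
  have := memLocalIdeal_neg h1
  rwa [neg_sub] at this

/-- The twist: there is a linear character `φ` of `G / N` such that the relative central character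
of `χ φ` is the augmentation modulo `M` on all `N`-invariant integral functions. -/
theorem exists_twist (hM : IsPModular p M) (ρ : Representation ℂ G V) (hnorm : NormOneOn ρ N)
    (hirrN : IsIrrCharacter N (fun n : N => ρ.character (n : G)))
    (hprin : SameBlock M (fun _ : N => (1 : ℂ)) (fun n : N => ρ.character (n : G)))
    (H4 : ∀ κ : G ⧸ N, ∃ f, ZInv N f ∧ ZSupp N f κ ∧ ¬ (p : ℤ) ∣ ∑ x, f x) :
    ∃ φ : G →* ℂˣ, (∀ n ∈ N, φ n = 1) ∧
      ∀ f : G → ℤ, ZInv N f →
        MemLocalIdeal M ((∑ g, (f g : ℂ) * (ρ.character g * ((φ g : ℂˣ) : ℂ))) / ρ.character 1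
          - ((∑ g, f g : ℤ) : ℂ)) := by
  classical
  have hMp := isPModular_isPrime hM
  have hMt := isPModular_ne_top hM
  obtain ⟨β, hroot, hmul, hkey⟩ := key_abstract N hM (relOm ρ)
    (fun f h _ hh => relOm_zconv N ρ hnorm f h hh)
    (fun f hf => isIntegral_of_ninv ρ N hnorm f (zInv_cast N hf))
    (fun f hf hs => relOm_supp_one N hMp ρ hirrN hprin f hf
      (fun g hg => (QuotientGroup.eq_one_iff g).1 (hs g hg)))
    H4
  have hβ1 : β 1 = 1 := by
    obtain ⟨m, hm0, hm⟩ := hroot 1
    have h1 := hmul 1 1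
    rw [mul_one] at h1
    have hne : β 1 ≠ 0 := by
      intro h0
      rw [h0] at hm
      have hm' : m ≠ 0 := by
        rintro rfl
        exact hm0 (dvd_zero _)
      rw [zero_pow hm'] at hm
      exact zero_ne_one hm
    have h2 : β 1 * 1 = β 1 * β 1 := by rw [mul_one]; exact h1
    exact (mul_left_cancel₀ hne h2).symm
  let β' : G →* ℂ :=
    { toFun := fun g => ((β ((g : G ⧸ N)⁻¹) : AlgInt) : ℂ)
      map_one' := by
        show ((β (((1 : G) : G ⧸ N)⁻¹) : AlgInt) : ℂ) = 1
        rw [QuotientGroup.mk_one, inv_one, hβ1]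
        rfl
      map_mul' := by
        intro a b
        show ((β (((a * b : G) : G ⧸ N)⁻¹) : AlgInt) : ℂ) = _
        rw [QuotientGroup.mk_mul, mul_inv_rev, hmul, mul_comm]
        rfl }
  refine ⟨β'.toHomUnits, ?_, ?_⟩
  · intro n hn
    apply Units.ext
    rw [MonoidHom.coe_toHomUnits]
    show ((β (((n : G) : G ⧸ N)⁻¹) : AlgInt) : ℂ) = _
    rw [(QuotientGroup.eq_one_iff n).2 hn, inv_one, hβ1]
    rfl
  · intro f hf
    have hφ : ∀ g : G, ((β'.toHomUnits g : ℂˣ) : ℂ) = ((β ((g : G ⧸ N)⁻¹) : AlgInt) : ℂ) := by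
      intro g
      rw [MonoidHom.coe_toHomUnits]
      rfl
    simp only [hφ]
    -- the pieces of f
    set fk : G ⧸ N → G → ℤ := fun κ g => if (g : G ⧸ N) = κ then f g else 0 with hfk
    have hfkinv : ∀ κ, ZInv N (fk κ) := by
      intro κ n hn x
      have h1 : ((n * x * n⁻¹ : G) : G ⧸ N) = (x : G ⧸ N) := by
        rw [QuotientGroup.mk_mul, QuotientGroup.mk_mul, QuotientGroup.mk_inv,
          (QuotientGroup.eq_one_iff n).2 hn]
        simp
      show (if ((n * x * n⁻¹ : G) : G ⧸ N) = κ then f (n * x * n⁻¹) else 0)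
        = if (x : G ⧸ N) = κ then f x else 0
      rw [h1, hf n hn x]
    have hfksupp : ∀ κ, ZSupp N (fk κ) κ := by
      intro κ g hg
      by_contra h
      apply hg
      show (if (g : G ⧸ N) = κ then f g else 0) = 0
      rw [if_neg h]
    have hterm : ∀ κ : G ⧸ N, MemLocalIdeal M
        (((β κ⁻¹ : AlgInt) : ℂ) * relOm ρ (fk κ) - ((∑ x, fk κ x : ℤ) : ℂ)) := by
      intro κ
      have h1 := hkey κ (fk κ) (hfkinv κ) (hfksupp κ)
      have h2 := memLocalIdeal_mul_left hMp (memLocalRing_algInt hMt (β κ⁻¹)) h1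
      have h3 : ((β κ⁻¹ : AlgInt) : ℂ) * ((β κ : AlgInt) : ℂ) = 1 := by
        have := hmul κ⁻¹ κ
        rw [inv_mul_cancel, hβ1] at this
        calc ((β κ⁻¹ : AlgInt) : ℂ) * ((β κ : AlgInt) : ℂ)
            = ((β κ⁻¹ * β κ : AlgInt) : ℂ) := rfl
          _ = ((1 : AlgInt) : ℂ) := by rw [← this]
          _ = 1 := rfl
      have h5 : ((β κ⁻¹ : AlgInt) : ℂ) * (relOm ρ (fk κ) - ((β κ : AlgInt) : ℂ) * ((∑ x, fk κ x : ℤ) : ℂ))
          = ((β κ⁻¹ : AlgInt) : ℂ) * relOm ρ (fk κ) - ((∑ x, fk κ x : ℤ) : ℂ) := by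
        rw [mul_sub, ← mul_assoc, h3, one_mul]
      rwa [h5] at h2
    have hsumall := memLocalIdeal_sum hMp Finset.univ _ (fun κ _ => hterm κ)
    have heq : ∑ κ : G ⧸ N, (((β κ⁻¹ : AlgInt) : ℂ) * relOm ρ (fk κ) - ((∑ x, fk κ x : ℤ) : ℂ))
        = (∑ g, (f g : ℂ) * (ρ.character g * ((β ((g : G ⧸ N)⁻¹) : AlgInt) : ℂ))) / ρ.character 1
          - ((∑ g, f g : ℤ) : ℂ) := by
      rw [Finset.sum_sub_distrib]
      congr 1
      · unfold relOm
        simp only [mul_div_assoc', Finset.mul_sum]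
        rw [← Finset.sum_div, Finset.sum_comm]
        congr 1
        refine Finset.sum_congr rfl fun g _ => ?_
        rw [Finset.sum_eq_single (g : G ⧸ N)]
        · show _ * (((if (g : G ⧸ N) = (g : G ⧸ N) then f g else 0 : ℤ) : ℂ) * _) = _
          rw [if_pos rfl]
          ring
        · intro κ _ hκ
          show _ * (((if (g : G ⧸ N) = κ then f g else 0 : ℤ) : ℂ) * _) = _
          rw [if_neg (Ne.symm hκ)]
          simp
        · intro h
          exact absurd (Finset.mem_univ _) h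
      · rw [← Int.cast_sum]
        congr 1
        rw [Finset.sum_comm]
        refine Finset.sum_congr rfl fun g _ => ?_
        rw [Finset.sum_eq_single (g : G ⧸ N)]
        · show (if (g : G ⧸ N) = (g : G ⧸ N) then f g else 0) = _
          rw [if_pos rfl]
        · intro κ _ hκ
          show (if (g : G ⧸ N) = κ then f g else 0) = _
          rw [if_neg (Ne.symm hκ)]
        · intro h
          exact absurd (Finset.mem_univ _) h
    rw [heq] at hsumall
    exact hsumall

end

end Cfsg.Agent.Lib.Helper8.RelSch
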