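import Mathlib
import Cfsg.Agent.Lib.Helper8.RelSch4
import Cfsg.Agent.Lib.Helper1.CharFound6
import Cfsg.Agent.S0141

/-!
# Irreducibility of restrictions to intermediate subgroups, and the principal block there
-/

set_option autoImplicit false

namespace Cfsg.Agent.Lib.Helper8.RelSch

open Cfsg Cfsg.Agent.Lib.Helper8 Cfsg.Agent.Lib.Helper1 Cfsg.Agent.Lib.Helper4
open scoped ComplexConjugate

universe u v

section

variable {G : Type u} [Group G] [Fintype G]
variable {V : Type v} [AddCommGroup V] [Module ℂ V] [FiniteDimensional ℂ V]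

/-- Norm one on `J` makes the restriction to `J` an irreducible character. -/
theorem irr_restrict (ρ : Representation ℂ G V) (J : Subgroup G) [Fintype J]
    (h : NormOneOn ρ J) : IsIrrCharacter J (fun j : J => ρ.character (j : G)) := by
  let τ : Representation ℂ J V := ρ.comp J.subtype
  have hc : IsCharacter J τ.character := isCharacter_character τ
  have hτ : τ.character = fun j : J => ρ.character (j : G) := rfl
  rw [← hτ]
  apply isIrrCharacter_of_norm_one hc
  rw [classInner_def]
  have hJ0 : (Nat.card J : ℂ) ≠ 0 := Nat.cast_ne_zero.2 Nat.card_pos.ne'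
  have h1 : ∑ g : J, τ.character g * conj (τ.character g) = (Nat.card J : ℂ) := by
    have h2 : ∀ g : J, τ.character g * conj (τ.character g)
        = ρ.character (g : G) * ρ.character ((g : G)⁻¹) := by
      intro g
      rw [← isCharacter_inv hc g]
      rfl
    rw [Finset.sum_congr rfl fun g _ => h2 g]
    exact h
  rw [h1, inv_mul_cancel₀ hJ0]

/-- Norm one on a subgroup makes the character of `G` irreducible. -/
theorem irr_of_normOne (ρ : Representation ℂ G V) (N : Subgroup G) [Fintype N]
    (h : NormOneOn ρ N) : IsIrrCharacter G ρ.character := by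
  classical
  have htop := normOneOn_of_le ρ N ⊤ h le_top
  have hc : IsCharacter G ρ.character := isCharacter_character ρ
  apply isIrrCharacter_of_norm_one hc
  rw [classInner_def]
  have hG0 : (Nat.card G : ℂ) ≠ 0 := Nat.cast_ne_zero.2 Nat.card_pos.ne'
  have h1 : ∑ g : G, ρ.character g * conj (ρ.character g) = (Nat.card G : ℂ) := by
    have h2 : ∀ g : G, ρ.character g * conj (ρ.character g)
        = ρ.character g * ρ.character g⁻¹ := by
      intro g
      rw [← isCharacter_inv hc g]
    rw [Finset.sum_congr rfl fun g _ => h2 g]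
    unfold NormOneOn at htop
    rw [Subgroup.card_top] at htop
    rw [← htop]
    exact (Equiv.sum_comp (Subgroup.topEquiv (G := G)).toEquiv
      (fun g => ρ.character g * ρ.character g⁻¹)).symm
  rw [h1, inv_mul_cancel₀ hG0]

end

section Block

variable {G : Type u} [Group G] [Fintype G] (N : Subgroup G)
variable {M : Ideal AlgInt}

/-- If the relative central character of `χ` is the augmentation modulo `M` on all `N`-invariant
integral functions, then the restriction of `χ` to every `J ≥ N` lies in the principal block. -/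
theorem sameBlock_restrict (χ : G → ℂ) (hχc : IsClassFunction G χ)
    (hcong : ∀ f : G → ℤ, ZInv N f →
      MemLocalIdeal M ((∑ g, (f g : ℂ) * χ g) / χ 1 - ((∑ g, f g : ℤ) : ℂ)))
    (J : Subgroup G) [Fintype J] (hNJ : N ≤ J) :
    SameBlock M (fun _ : J => (1 : ℂ)) (fun j : J => χ (j : G)) := by
  classical
  intro y
  set f : G → ℤ := fun g => if ∃ j : J, (j : G) * (y : G) * (j : G)⁻¹ = g then 1 else 0 with hf
  have hfinv : ZInv N f := by
    intro n hn x
    have hiff : (∃ j : J, (j : G) * (y : G) * (j : G)⁻¹ = n * x * n⁻¹)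
        ↔ ∃ j : J, (j : G) * (y : G) * (j : G)⁻¹ = x := by
      constructor
      · rintro ⟨j, hj⟩
        refine ⟨⟨n, hNJ hn⟩⁻¹ * j, ?_⟩
        push_cast
        calc n⁻¹ * (j : G) * (y : G) * (n⁻¹ * (j : G))⁻¹
            = n⁻¹ * ((j : G) * (y : G) * (j : G)⁻¹) * n := by group
          _ = x := by rw [hj]; group
      · rintro ⟨j, hj⟩
        refine ⟨⟨n, hNJ hn⟩ * j, ?_⟩
        push_cast
        calc n * (j : G) * (y : G) * (n * (j : G))⁻¹
            = n * ((j : G) * (y : G) * (j : G)⁻¹) * n⁻¹ := by group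
          _ = n * x * n⁻¹ := by rw [hj]
    show (if _ then (1 : ℤ) else 0) = if _ then 1 else 0
    by_cases hx : ∃ j : J, (j : G) * (y : G) * (j : G)⁻¹ = x
    · rw [if_pos hx, if_pos (hiff.2 hx)]
    · rw [if_neg hx, if_neg (fun h => hx (hiff.1 h))]
  have hsupp : ∀ g, f g ≠ 0 → g ∈ J := by
    intro g hg
    by_contra hgJ
    apply hg
    show (if _ then (1 : ℤ) else 0) = 0
    rw [if_neg]
    rintro ⟨j, rfl⟩
    exact hgJ (J.mul_mem (J.mul_mem j.2 y.2) (J.inv_mem j.2))
  have hfJ : ∀ x : J, (f (x : G) : ℂ) = classIndicator y x := by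
    intro x
    unfold classIndicator
    have hiff : (∃ j : J, (j : G) * (y : G) * (j : G)⁻¹ = (x : G)) ↔ IsConj y x := by
      rw [isConj_iff]
      constructor
      · rintro ⟨j, hj⟩
        exact ⟨j, Subtype.ext (by push_cast; exact hj)⟩
      · rintro ⟨j, hj⟩
        refine ⟨j, ?_⟩
        have := congrArg Subtype.val hj
        push_cast at this
        exact this
    by_cases hx : IsConj y x
    · rw [if_pos hx]
      have h1 : f (x : G) = 1 := if_pos (hiff.2 hx)
      rw [h1]; simp
    · rw [if_neg hx]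
      have h1 : f (x : G) = 0 := if_neg (fun h => hx (hiff.1 h))
      rw [h1]; simp
  have hsum : ∀ (φ : G → ℂ), ∑ g, (f g : ℂ) * φ g = ∑ x : J, classIndicator y x * φ (x : G) := by
    intro φ
    have h2 : ∑ g, (f g : ℂ) * φ g = ∑ g ∈ Finset.univ.filter (· ∈ J), (f g : ℂ) * φ g := by
      rw [Finset.sum_filter]
      refine Finset.sum_congr rfl fun g _ => ?_
      split_ifs with hg
      · rfl
      · have : f g = 0 := by
          by_contra h0
          exact hg (hsupp g h0)
        rw [this]; simp
    rw [h2]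
    have h3 : ∑ x : J, classIndicator y x * φ (x : G) = ∑ x : J, (f (x : G) : ℂ) * φ (x : G) := by
      refine Finset.sum_congr rfl fun x _ => ?_
      rw [hfJ]
    rw [h3]
    convert Finset.sum_subtype (Finset.univ.filter (· ∈ J)) (p := (· ∈ J)) (by simp)
      (fun g => (f g : ℂ) * φ g)
  have hχJ : IsClassFunction J (fun j : J => χ (j : G)) := by
    intro g h
    show χ ((h * g * h⁻¹ : J) : G) = χ (g : G)
    push_cast
    exact hχc _ _
  have h1 := hcong f hfinv
  rw [hsum χ, Cfsg.Agent.S0141.sum_classIndicator_mul y (fun j : J => χ (j : G)) hχJ] at h1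
  have h4 : ((∑ g, f g : ℤ) : ℂ) = ((Subgroup.centralizer ({y} : Set J)).index : ℂ) := by
    have := hsum (fun _ => 1)
    simp only [mul_one] at this
    push_cast
    rw [this]
    have h5 := Cfsg.Agent.S0141.sum_classIndicator_mul y (fun _ : J => (1 : ℂ)) (fun _ _ => rfl)
    simp only [mul_one] at h5
    exact h5
  rw [h4] at h1
  unfold centralChar
  have h6 := memLocalIdeal_neg h1
  rw [neg_sub] at h6
  have h7 : ((Subgroup.centralizer ({y} : Set J)).index : ℂ) * 1 / 1
      - ((Subgroup.centralizer ({y} : Set J)).index : ℂ) * χ (y : G) / χ ((1 : J) : G)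
      = ((Subgroup.centralizer ({y} : Set J)).index : ℂ)
        - ((Subgroup.centralizer ({y} : Set J)).index : ℂ) * χ (y : G) / χ 1 := by
    simp
  rw [h7]
  exact h6

/-- The same for `G` itself. -/
theorem sameBlock_of_cong (χ : G → ℂ) (hχc : IsClassFunction G χ)
    (hcong : ∀ f : G → ℤ, ZInv N f →
      MemLocalIdeal M ((∑ g, (f g : ℂ) * χ g) / χ 1 - ((∑ g, f g : ℤ) : ℂ))) :
    SameBlock M (fun _ : G => (1 : ℂ)) χ := by
  classical
  intro y
  set f : G → ℤ := fun g => if IsConj y g then 1 else 0 with hf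
  have hfinv : ZInv N f := by
    intro n _ x
    have hiff : IsConj y (n * x * n⁻¹) ↔ IsConj y x := by
      constructor
      · intro hc
        exact hc.trans (isConj_iff.2 ⟨n⁻¹, by group⟩)
      · intro hc
        exact hc.trans (isConj_iff.2 ⟨n, rfl⟩)
    by_cases hx : IsConj y x
    · have h1 : f x = 1 := if_pos hx
      have h2 : f (n * x * n⁻¹) = 1 := if_pos (hiff.2 hx)
      rw [h1, h2]
    · have h1 : f x = 0 := if_neg hx
      have h2 : f (n * x * n⁻¹) = 0 := if_neg (fun h => hx (hiff.1 h))
      rw [h1, h2]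
  have hfc : ∀ x : G, (f x : ℂ) = classIndicator y x := by
    intro x
    unfold classIndicator
    by_cases hx : IsConj y x
    · rw [if_pos hx]
      have h1 : f x = 1 := if_pos hx
      rw [h1]; simp
    · rw [if_neg hx]
      have h1 : f x = 0 := if_neg hx
      rw [h1]; simp
  have h1 := hcong f hfinv
  have h2 : ∑ g, (f g : ℂ) * χ g = ((Subgroup.centralizer ({y} : Set G)).index : ℂ) * χ y := by
    rw [← Cfsg.Agent.S0141.sum_classIndicator_mul y χ hχc]
    refine Finset.sum_congr rfl fun x _ => ?_
    rw [hfc]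
  have h3 : ((∑ g, f g : ℤ) : ℂ) = ((Subgroup.centralizer ({y} : Set G)).index : ℂ) := by
    have h5 := Cfsg.Agent.S0141.sum_classIndicator_mul y (fun _ : G => (1 : ℂ)) (fun _ _ => rfl)
    simp only [mul_one] at h5
    rw [← h5]
    push_cast
    refine Finset.sum_congr rfl fun x _ => ?_
    rw [hfc]
  rw [h2, h3] at h1
  unfold centralChar
  have h6 := memLocalIdeal_neg h1
  rw [neg_sub] at h6
  have h7 : ((Subgroup.centralizer ({y} : Set G)).index : ℂ) * 1 / 1
      - ((Subgroup.centralizer ({y} : Set G)).index : ℂ) * χ y / χ 1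
      = ((Subgroup.centralizer ({y} : Set G)).index : ℂ)
        - ((Subgroup.centralizer ({y} : Set G)).index : ℂ) * χ y / χ 1 := by
    simp
  rw [h7]
  exact h6

end Block

end Cfsg.Agent.Lib.Helper8.RelSch
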