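import Mathlib
import Cfsg.Agent.Lib.Helper8.RelSch5
import Cfsg.Agent.Lib.Helper2.DetChar

/-!
# Alperin–Dade setting: a normal subgroup `N` of index prime to `p` with `Γ = N C_Γ(Q)` for a
subgroup `Q ≤ N` of index prime to `p`.  Basic consequences and the canonical extension.
-/

set_option autoImplicit false

namespace Cfsg.Agent.Lib.Helper8.AD

open Cfsg Cfsg.Agent.Lib.Helper8 Cfsg.Agent.Lib.Helper8.RelSch Cfsg.Agent.Lib.Helper1
  Cfsg.Agent.Lib.Helper4
open scoped ComplexConjugate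

universe u

section Setup

variable {Γ : Type u} [Group Γ]

/-- The Alperin–Dade setting. -/
def Setup (p : ℕ) (N : Subgroup Γ) : Prop :=
  ∃ Q : Subgroup Γ, Q ≤ N ∧ ¬ p ∣ Q.index ∧ N ⊔ Subgroup.centralizer (Q : Set Γ) = ⊤

theorem Setup.not_dvd_index {p : ℕ} {N : Subgroup Γ} (h : Setup p N) : ¬ p ∣ N.index := by
  obtain ⟨Q, hQN, hQ, -⟩ := h
  intro hd
  exact hQ (hd.trans (Subgroup.index_dvd_of_le hQN))

theorem Setup.exists_class {p : ℕ} {N : Subgroup Γ} [N.Normal] (h : Setup p N) (g : Γ) :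
    ∃ c : Γ, c⁻¹ * g ∈ N ∧ ¬ p ∣ (Subgroup.centralizer ({c} : Set Γ)).index := by
  obtain ⟨Q, hQN, hQ, hsup⟩ := h
  have hg : g ∈ Subgroup.centralizer (Q : Set Γ) ⊔ N := by rw [sup_comm, hsup]; trivial
  obtain ⟨c, hc, a, ha, rfl⟩ := Subgroup.mem_sup_of_normal_right.1 hg
  refine ⟨c, by simpa using ha, ?_⟩
  intro hd
  apply hQ
  refine hd.trans (Subgroup.index_dvd_of_le ?_)
  intro x hx
  rw [Subgroup.mem_centralizer_iff]
  intro y hy
  rw [Set.mem_singleton_iff] at hy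
  subst hy
  exact (Subgroup.mem_centralizer_iff.1 hc x hx).symm

theorem Setup.subgroupOf {p : ℕ} {N : Subgroup Γ} [N.Normal] (h : Setup p N) {J : Subgroup Γ}
    (hNJ : N ≤ J) : Setup p (N.subgroupOf J) := by
  obtain ⟨Q, hQN, hQ, hsup⟩ := h
  refine ⟨Q.subgroupOf J, ?_, ?_, ?_⟩
  · intro x hx
    exact hQN hx
  · intro hd
    apply hQ
    have h1 : Q.relIndex J * J.index = Q.index := Subgroup.relIndex_mul_index (hQN.trans hNJ)
    rw [← h1]
    exact Dvd.dvd.mul_right hd _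
  · rw [eq_top_iff]
    intro x _
    have hx : (x : Γ) ∈ N ⊔ Subgroup.centralizer (Q : Set Γ) := by rw [hsup]; trivial
    obtain ⟨a, ha, c, hc, hac⟩ := Subgroup.mem_sup_of_normal_left.1 hx
    have hcJ : c ∈ J := by
      have : c = a⁻¹ * (x : Γ) := by rw [← hac]; group
      rw [this]
      exact J.mul_mem (J.inv_mem (hNJ ha)) x.2
    have hx' : x = (⟨a, hNJ ha⟩ : J) * ⟨c, hcJ⟩ := Subtype.ext hac.symm
    rw [hx']
    apply Subgroup.mul_mem_sup
    · exact ha
    · rw [Subgroup.mem_centralizer_iff]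
      intro y hy
      apply Subtype.ext
      exact Subgroup.mem_centralizer_iff.1 hc (y : Γ) hy

end Setup

section H4

variable {Γ : Type u} [Group Γ] [Fintype Γ]

theorem Setup.H4 {p : ℕ} {N : Subgroup Γ} [N.Normal] (h : Setup p N) :
    ∀ κ : Γ ⧸ N, ∃ f, ZInv N f ∧ ZSupp N f κ ∧ ¬ (p : ℤ) ∣ ∑ x, f x := by
  classical
  obtain ⟨Q, hQN, hQ, hsup⟩ := h
  intro κ
  obtain ⟨g, rfl⟩ := QuotientGroup.mk_surjective κ
  have hg : g ∈ N ⊔ Subgroup.centralizer (Q : Set Γ) := by rw [hsup]; trivial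
  obtain ⟨a, ha, c, hc, rfl⟩ := Subgroup.mem_sup_of_normal_left.1 hg
  have hc' : ∀ x ∈ Q.subgroupOf N, c * (x : Γ) = (x : Γ) * c := by
    intro x hx
    exact (Subgroup.mem_centralizer_iff.1 hc (x : Γ) hx).symm
  refine ⟨cosetFun N (Q.subgroupOf N) c hc', zInv_cosetFun N _ c hc', ?_, ?_⟩
  · have := zSupp_cosetFun N (Q.subgroupOf N) c hc'
    rwa [QuotientGroup.mk_mul, (QuotientGroup.eq_one_iff a).2 ha, one_mul]
  · rw [sum_cosetFun]
    intro hd
    apply hQ
    have h1 : Q.relIndex N * N.index = Q.index := Subgroup.relIndex_mul_index hQN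
    rw [← h1]
    have hd' : p ∣ (Q.subgroupOf N).index := by exact_mod_cast hd
    exact Dvd.dvd.mul_right hd' _

end H4

section Canon

variable {Γ : Type u} [Group Γ] [Fintype Γ] {p : ℕ} [Fact p.Prime] {M : Ideal AlgInt}

/-- The relative central character of `χ` is the augmentation modulo `M` on every `N`-invariant
integral function. -/
def Cong (M : Ideal AlgInt) (N : Subgroup Γ) (χ : Γ → ℂ) : Prop :=
  ∀ f : Γ → ℤ, ZInv N f →
    MemLocalIdeal M ((∑ g, (f g : ℂ) * χ g) / χ 1 - ((∑ g, f g : ℤ) : ℂ))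

omit [Fact p.Prime] in
theorem normOneOn_of_irr_res {n : ℕ} (ρ : Representation ℂ Γ (Fin n → ℂ)) (N : Subgroup Γ)
    [Fintype N] (hN : IsIrrCharacter N (fun x : N => ρ.character (x : Γ))) : NormOneOn ρ N := by
  unfold NormOneOn
  have h1 := classInner_irr_self hN
  rw [classInner_def] at h1
  have hc : IsCharacter N (fun x : N => ρ.character (x : Γ)) := isCharacter_of_irr hN
  have h2 : ∑ x : N, ρ.character (x : Γ) * ρ.character ((x : Γ)⁻¹)
      = ∑ g : N, (fun x : N => ρ.character (x : Γ)) g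
        * (starRingEnd ℂ) ((fun x : N => ρ.character (x : Γ)) g) := by
    refine Finset.sum_congr rfl fun x _ => ?_
    rw [← isCharacter_inv hc x]
    rfl
  rw [h2]
  have hN0 : (Nat.card N : ℂ) ≠ 0 := Nat.cast_ne_zero.2 Nat.card_pos.ne'
  field_simp at h1
  exact h1

omit [Fact p.Prime] in
/-- If the restriction of `χ` to `N` is irreducible, so is the restriction to any `J ≥ N`. -/
theorem irr_res_of_irr_res {χ : Γ → ℂ} (hχ : IsIrrCharacter Γ χ) (N : Subgroup Γ) [Fintype N]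
    (hN : IsIrrCharacter N (fun x : N => χ (x : Γ))) (J : Subgroup Γ) [Fintype J] (hNJ : N ≤ J) :
    IsIrrCharacter J (fun x : J => χ (x : Γ)) := by
  obtain ⟨n, ρ, -, rfl⟩ := hχ
  exact irr_restrict ρ J (normOneOn_of_le ρ N J (normOneOn_of_irr_res ρ N hN) hNJ)

/-- The canonical extension: an extension of a character in the principal block of `N` can be
twisted to satisfy `Cong`. -/
theorem exists_cong_ext (hM : IsPModular p M) (N : Subgroup Γ) [N.Normal] [Fintype N]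
    (hS : Setup p N) (θ : N → ℂ) (hθ : IsIrrCharacter N θ)
    (hprin : SameBlock M (fun _ : N => (1 : ℂ)) θ)
    (ψ : Γ → ℂ) (hψ : IsIrrCharacter Γ ψ) (hψθ : ∀ n : N, ψ n = θ n) :
    ∃ χ : Γ → ℂ, IsIrrCharacter Γ χ ∧ (∀ n : N, χ n = θ n) ∧ Cong M N χ := by
  classical
  obtain ⟨n, ρ, hirr, hρ⟩ := hψ
  have hρN : (fun x : N => ρ.character (x : Γ)) = θ := by
    funext x
    rw [hρ]
    exact hψθ x
  have hirrN : IsIrrCharacter N (fun x : N => ρ.character (x : Γ)) := by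
    rw [hρN]; exact hθ
  have hnorm : NormOneOn ρ N := normOneOn_of_irr_res ρ N hirrN
  have hprin' : SameBlock M (fun _ : N => (1 : ℂ)) (fun x : N => ρ.character (x : Γ)) := by
    rw [hρN]; exact hprin
  obtain ⟨φ, hφN, hφ⟩ := Cfsg.Agent.Lib.Helper8.RelSch.exists_twist N hM ρ hnorm hirrN hprin' hS.H4
  let ρ' : Representation ℂ Γ (Fin n → ℂ) := Cfsg.Agent.Lib.Helper2.DetChar.twist φ ρ
  have hρ' : ∀ g, ρ'.character g = ((φ g : ℂˣ) : ℂ) * ρ.character g :=
    Cfsg.Agent.Lib.Helper2.DetChar.twist_character φ ρ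
  have hρ'N : ∀ x : N, ρ'.character (x : Γ) = ρ.character (x : Γ) := by
    intro x
    rw [hρ', hφN x x.2]
    simp
  have hnorm' : NormOneOn ρ' N := by
    unfold NormOneOn
    have h1 : ∀ x : N, ρ'.character (x : Γ) * ρ'.character ((x : Γ)⁻¹)
        = ρ.character (x : Γ) * ρ.character ((x : Γ)⁻¹) := by
      intro x
      rw [hρ'N x]
      have := hρ'N x⁻¹
      push_cast at this
      rw [this]
    rw [Finset.sum_congr rfl fun x _ => h1 x]
    exact hnorm
  have hirr' : IsIrrCharacter Γ ρ'.character := irr_of_normOne ρ' N hnorm'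
  refine ⟨ρ'.character, hirr', ?_, ?_⟩
  · intro x
    rw [hρ'N x, ← hρN]
  · intro f hf
    have h1 := hφ f hf
    have h2 : ρ'.character 1 = ρ.character 1 := by
      rw [hρ', map_one]; simp
    rw [h2]
    have h3 : ∑ g, (f g : ℂ) * ρ'.character g
        = ∑ g, (f g : ℂ) * (ρ.character g * ((φ g : ℂˣ) : ℂ)) := by
      refine Finset.sum_congr rfl fun g _ => ?_
      rw [hρ', mul_comm ((φ g : ℂˣ) : ℂ)]
    rw [h3]
    exact h1

omit [Fact p.Prime] in
theorem Cong.sameBlock {N : Subgroup Γ} {χ : Γ → ℂ} (h : Cong M N χ)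
    (hχc : IsClassFunction Γ χ) : SameBlock M (fun _ : Γ => (1 : ℂ)) χ :=
  sameBlock_of_cong N χ hχc h

omit [Fact p.Prime] in
theorem Cong.sameBlock_res {N : Subgroup Γ} {χ : Γ → ℂ} (h : Cong M N χ)
    (hχc : IsClassFunction Γ χ) (J : Subgroup Γ) [Fintype J] (hNJ : N ≤ J) :
    SameBlock M (fun _ : J => (1 : ℂ)) (fun j : J => χ (j : Γ)) :=
  sameBlock_restrict N χ hχc h J hNJ

end Canon

end Cfsg.Agent.Lib.Helper8.AD
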