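import Mathlib
import Cfsg.Prelude.Def_Characters
import Cfsg.Agent.Lib.Helper8.TwoClass
import Cfsg.Agent.Lib.Helper1.ConjCount
import Cfsg.Agent.Lib.Helper1.CharFound5

/-!
# Characters nonzero on exactly two classes, II (Gagola characters)
-/

set_option autoImplicit false

namespace Cfsg.Agent.Lib.Helper8

open Cfsg
open scoped ComplexConjugate
open Cfsg.Agent.Lib.Helper1 Cfsg.Agent.Lib.Helper4

universe u

section

variable {G : Type u} [Group G]

/-- Multiplying by an element of the kernel of a character does not change the value. -/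
theorem apply_mul_of_apply_eq_one [Finite G] {ψ : G → ℂ} (hψ : IsCharacter G ψ) {k : G}
    (hk : ψ k = ψ 1) (g : G) : ψ (g * k) = ψ g := by
  obtain ⟨n, ρ, rfl⟩ := hψ
  rw [Representation.char_one] at hk
  have h1 := (Cfsg.Agent.S0139.result ρ k).1 hk
  unfold Representation.character
  rw [map_mul, h1]
  rfl

/-- The setting of a character nonzero on exactly two classes, with the normal subgroup on which
it does not vanish. -/
structure Gagola (χ : IrrCharacter G) (N : Subgroup G) (g₀ : G) : Prop where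
  tc : TwoClass χ g₀
  big : 2 < Nat.card G
  normal : N.Normal
  mem_iff : ∀ g : G, g ∈ N ↔ (χ : G → ℂ) g ≠ 0

namespace Gagola

variable {χ : IrrCharacter G} {N : Subgroup G} {g₀ : G}

theorem g₀_mem (h : Gagola χ N g₀) : g₀ ∈ N := (h.mem_iff g₀).2 h.tc.ne_zero

theorem isConj_of_mem (h : Gagola χ N g₀) {x : G} (hx : x ∈ N) (hx1 : x ≠ 1) : IsConj g₀ x :=
  (h.tc.supp x ((h.mem_iff x).1 hx)).resolve_left hx1

theorem mem_normalClosure (h : Gagola χ N g₀) {x : G} (hx : x ∈ N) :
    x ∈ Subgroup.normalClosure {g₀} := by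
  by_cases hx1 : x = 1
  · rw [hx1]; exact Subgroup.one_mem _
  · obtain ⟨c, hc⟩ := isConj_iff.1 (h.isConj_of_mem hx hx1)
    rw [← hc]
    exact Subgroup.normalClosure_normal.conj_mem _
      (Subgroup.subset_normalClosure (Set.mem_singleton g₀)) c

theorem ker [Finite G] (h : Gagola χ N g₀) (ψ : IrrCharacter G) (hψ : ψ ≠ χ) {n : G} (hn : n ∈ N) :
    (ψ : G → ℂ) n = (ψ : G → ℂ) 1 :=
  h.tc.apply_eq_one_of_mem h.big ψ hψ (h.mem_normalClosure hn)

theorem apply_mul [Finite G] (h : Gagola χ N g₀) (ψ : IrrCharacter G) (hψ : ψ ≠ χ) {n : G}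
    (hn : n ∈ N) (g : G) : (ψ : G → ℂ) (g * n) = (ψ : G → ℂ) g :=
  apply_mul_of_apply_eq_one (isCharacter_of_irr ψ.2) (h.ker ψ hψ hn) g

/-- An element outside `N` is conjugate to all its translates by `N`. -/
theorem isConj_mul [Finite G] (h : Gagola χ N g₀) {g x : G} (hg : g ∉ N) (hx : x ∈ N) :
    IsConj g (g * x) := by
  classical
  haveI : Fintype G := Fintype.ofFinite _
  haveI : Fintype (IrrCharacter G) := Fintype.ofFinite _
  have h1 := column_orthogonality (G := G) g (g * x)
  have h2 := column_orthogonality (G := G) g g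
  have hχg : (χ : G → ℂ) g = 0 := by
    by_contra hne
    exact hg ((h.mem_iff g).2 hne)
  have h3 : ∑ ψ : IrrCharacter G, (ψ : G → ℂ) (g * x) * conj ((ψ : G → ℂ) g)
      = ∑ ψ : IrrCharacter G, (ψ : G → ℂ) g * conj ((ψ : G → ℂ) g) := by
    refine Finset.sum_congr rfl (fun ψ _ => ?_)
    by_cases hψ : ψ = χ
    · rw [hψ, hχg]; simp
    · rw [h.apply_mul ψ hψ hx g]
  rw [h3, h2] at h1
  have hC0 : (Nat.card (Subgroup.centralizer ({g} : Set G)) : ℂ) ≠ 0 :=
    Nat.cast_ne_zero.2 Nat.card_pos.ne'
  have h4 : classIndicator g g = classIndicator g (g * x) := mul_left_cancel₀ hC0 h1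
  unfold classIndicator at h4
  rw [if_pos (IsConj.refl g)] at h4
  by_contra hne
  rw [if_neg hne] at h4
  exact one_ne_zero h4

/-- The class of a nonidentity element of `N` has `|N| - 1` elements. -/
theorem card_class [Finite G] (h : Gagola χ N g₀) {x : G} (hx : x ∈ N) (hx1 : x ≠ 1) :
    Nat.card {v : G // IsConj x v} = Nat.card N - 1 := by
  classical
  haveI := h.normal
  have e : {v : G // IsConj x v} ≃ {v : N // v ≠ 1} :=
    { toFun := fun v => ⟨⟨v.1, by
          obtain ⟨c, hc⟩ := isConj_iff.1 v.2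
          rw [← hc]
          exact h.normal.conj_mem _ hx c⟩, by
          intro h1
          have h2 : v.1 = 1 := congrArg Subtype.val h1
          have h3 := v.2
          rw [h2] at h3
          exact hx1 (isConj_one_left.1 h3)⟩
      invFun := fun v => ⟨v.1.1, by
          have hv1 : (v.1 : G) ≠ 1 := fun h1 => v.2 (Subtype.ext h1)
          exact (h.isConj_of_mem hx hx1).symm.trans (h.isConj_of_mem v.1.2 hv1)⟩
      left_inv := fun v => rfl
      right_inv := fun v => rfl }
  rw [Nat.card_congr e]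
  haveI : Fintype N := Fintype.ofFinite _
  rw [Nat.card_eq_fintype_card, Nat.card_eq_fintype_card, Fintype.card_subtype_compl,
    Fintype.card_subtype_eq]

/-- `|G| = (|N| - 1) |C_G(x)|`. -/
theorem card_eq [Finite G] (h : Gagola χ N g₀) {x : G} (hx : x ∈ N) (hx1 : x ≠ 1) :
    (Nat.card N - 1) * Nat.card (Subgroup.centralizer ({x} : Set G)) = Nat.card G := by
  rw [← h.card_class hx hx1]
  exact card_isConj_mul_card_centralizer x

end Gagola

end

end Cfsg.Agent.Lib.Helper8
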