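import Mathlib
import Cfsg.Agent.Lib.Helper8.AD1
import Cfsg.Agent.Lib.Helper8.GF2
import Cfsg.Agent.Lib.Helper8.TC2
import Cfsg.Agent.Lib.Helper8.BlockDefect

/-!
# Uniqueness of the principal-block character over a character of `N` in the Alperin–Dade setting
-/

set_option autoImplicit false

namespace Cfsg.Agent.Lib.Helper8.AD

open Cfsg Cfsg.Agent.Lib.Helper8 Cfsg.Agent.Lib.Helper8.RelSch Cfsg.Agent.Lib.Helper1
  Cfsg.Agent.Lib.Helper4
open scoped ComplexConjugate

universe u

section CosetSum

variable {Γ : Type u} [Group Γ] [Fintype Γ]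

/-- Summing a function constant on the left cosets of `N`. -/
theorem sum_eq_card_mul_sum_out (N : Subgroup Γ) [Fintype (Γ ⧸ N)] [Fintype N] (F : Γ → ℂ)
    (hF : ∀ g : Γ, ∀ n ∈ N, F (g * n) = F g) :
    ∑ g, F g = (Nat.card N : ℂ) * ∑ κ : Γ ⧸ N, F κ.out := by
  classical
  rw [← Finset.sum_fiberwise (Finset.univ : Finset Γ) (fun g : Γ => (g : Γ ⧸ N)) F, Finset.mul_sum]
  refine Finset.sum_congr rfl fun κ _ => ?_
  have h1 : ∀ g ∈ Finset.univ.filter (fun g : Γ => (g : Γ ⧸ N) = κ), F g = F κ.out := by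
    intro g hg
    rw [Finset.mem_filter] at hg
    have h2 : κ.out⁻¹ * g ∈ N := by
      rw [← QuotientGroup.eq, QuotientGroup.out_eq', hg.2]
    have := hF κ.out _ h2
    rw [mul_inv_cancel_left] at this
    exact this
  rw [Finset.sum_congr rfl h1, Finset.sum_const, nsmul_eq_mul]
  congr 2
  -- the fibre has `|N|` elements
  rw [Nat.card_eq_fintype_card, ← Finset.card_univ (α := N)]
  symm
  apply Finset.card_bij (fun (n : N) _ => κ.out * (n : Γ))
  · intro n _
    rw [Finset.mem_filter]
    refine ⟨Finset.mem_univ _, ?_⟩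
    rw [QuotientGroup.mk_mul_of_mem _ n.2, QuotientGroup.out_eq']
  · intro a _ b _ hab
    exact Subtype.ext (mul_left_cancel hab)
  · intro g hg
    rw [Finset.mem_filter] at hg
    have h2 : κ.out⁻¹ * g ∈ N := by
      rw [← QuotientGroup.eq, QuotientGroup.out_eq', hg.2]
    exact ⟨⟨_, h2⟩, Finset.mem_univ _, by simp⟩

end CosetSum

section Uniq

variable {Γ : Type u} [Group Γ] [Fintype Γ] {p : ℕ} [Fact p.Prime] {M : Ideal AlgInt}

omit [Fact p.Prime] in
/-- In the Alperin–Dade setting, a character of the principal block lying over `θ` coincides with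
any extension of `θ` in the principal block. -/
theorem eq_of_over (hM : IsPModular p M) (N : Subgroup Γ) [N.Normal] [Fintype N] (hS : Setup p N)
    {θ : N → ℂ} (hθ : IsIrrCharacter N θ)
    {χ : Γ → ℂ} (hχ : IsIrrCharacter Γ χ) (hχθ : ∀ n : N, χ n = θ n)
    (hχB : SameBlock M (fun _ : Γ => (1 : ℂ)) χ)
    {χ' : Γ → ℂ} (hχ' : IsIrrCharacter Γ χ')
    (hover : classInner (fun n : N => χ' n) θ ≠ 0)
    (hχ'B : SameBlock M (fun _ : Γ => (1 : ℂ)) χ') : χ' = χ := by
  classical
  have hMp := isPModular_isPrime hM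
  have hMt := isPModular_ne_top hM
  have : Fintype (Γ ⧸ N) := Fintype.ofFinite _
  have hχcf : IsClassFunction Γ χ := isClassFunction_irr hχ
  have hinv : ∀ (g : Γ) (n : N), θ ⟨g * n * g⁻¹, (inferInstance : N.Normal).conj_mem (n : Γ) n.2 g⟩
      = θ n := by
    intro g n
    rw [← hχθ, ← hχθ]
    exact hχcf _ _
  obtain ⟨-, -, h3⟩ := GF.gallagher_abs N hθ hinv hχ hχθ
  obtain ⟨β, hβ, hβN, hββ⟩ := h3 χ' hχ' hover
  have hβ1 : β 1 ≠ 0 := irr_apply_one_ne_zero hβ
  have hχ1 : χ 1 ≠ 0 := irr_apply_one_ne_zero hχ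
  have hβc : IsCharacter Γ β := isCharacter_of_irr hβ
  -- β g / β 1 ≡ 1
  have hcong : ∀ g : Γ, MemLocalIdeal M (β g / β 1 - 1) := by
    intro g
    obtain ⟨c, hcg, hcp⟩ := hS.exists_class g
    have hβg : β g = β c := by
      have h1 := apply_mul_of_apply_eq_one hβc (hβN _ hcg) c
      rw [mul_inv_cancel_left] at h1
      exact h1
    rw [hβg]
    set k : ℂ := ((Subgroup.centralizer ({c} : Set Γ)).index : ℂ) with hk
    have hkLI : ¬ MemLocalIdeal M k := by
      rw [hk, memLocalIdeal_natCast_iff hM]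
      exact hcp
    have hkLR : MemLocalRing M k := memLocalRing_natCast hMt _
    set a := centralChar χ c with ha
    set a' := centralChar χ' c with ha'
    have h1 : MemLocalIdeal M (k - a) := by
      have := hχB c
      unfold centralChar at this
      simp only [mul_one, div_one] at this
      exact this
    have h1' : MemLocalIdeal M (k - a') := by
      have := hχ'B c
      unfold centralChar at this
      simp only [mul_one, div_one] at this
      exact this
    have haLR : MemLocalRing M a := memLocalRing_centralChar hMt hχ c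
    have ha'LR : MemLocalRing M a' := memLocalRing_centralChar hMt hχ' c
    have haLI : ¬ MemLocalIdeal M a := by
      intro h
      apply hkLI
      have := memLocalIdeal_add hMp h1 h
      rwa [sub_add_cancel] at this
    have ha0 : a ≠ 0 := by
      rintro h0
      apply haLI
      rw [h0]
      exact memLocalIdeal_zero hMt
    have hrel : a' = a * (β c / β 1) := by
      rw [ha, ha', hββ]
      unfold centralChar
      simp only [Pi.mul_apply]
      field_simp
    have h2 : β c / β 1 - 1 = a⁻¹ * (a' - a) := by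
      rw [hrel]
      field_simp
    rw [h2]
    apply memLocalIdeal_mul_left hMp (memLocalRing_inv haLR haLI)
    have := memLocalIdeal_sub hMp h1 h1'
    rwa [sub_sub_sub_cancel_left] at this
  -- β is trivial
  have hβeq : β = fun _ => (1 : ℂ) := by
    by_contra hne
    have h0 := classInner_irr_ne hβ (isIrrCharacter_of_hom (1 : Γ →* ℂˣ)) (by simpa using hne)
    rw [classInner_def] at h0
    have hΓ0 : (Nat.card Γ : ℂ) ≠ 0 := Nat.cast_ne_zero.2 Nat.card_pos.ne'
    have hsum : ∑ g, β g = 0 := by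
      rcases mul_eq_zero.1 h0 with h | h
      · exact absurd (inv_eq_zero.1 h) hΓ0
      · simpa using h
    set d : Γ → ℂ := fun g => β g / β 1 - 1 with hd
    have hdsum : ∑ g, d g = -(Nat.card Γ : ℂ) := by
      simp only [hd, Finset.sum_sub_distrib, ← Finset.sum_div, hsum, zero_div, Finset.sum_const,
        Finset.card_univ, nsmul_eq_mul, mul_one, zero_sub, Nat.card_eq_fintype_card]
    have hdN : ∀ g : Γ, ∀ n ∈ N, d (g * n) = d g := by
      intro g n hn
      simp only [hd]
      rw [apply_mul_of_apply_eq_one hβc (hβN n hn) g]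
    rw [sum_eq_card_mul_sum_out N d hdN] at hdsum
    have hNΓ : (Nat.card Γ : ℂ) = (Nat.card N : ℂ) * (N.index : ℂ) := by
      rw [← Nat.cast_mul, mul_comm, Subgroup.index_mul_card]
    have hN0 : (Nat.card N : ℂ) ≠ 0 := Nat.cast_ne_zero.2 Nat.card_pos.ne'
    have h4 : ∑ κ : Γ ⧸ N, d κ.out = -(N.index : ℂ) := by
      apply mul_left_cancel₀ hN0
      rw [hdsum, hNΓ]
      ring
    have h5 : MemLocalIdeal M (∑ κ : Γ ⧸ N, d κ.out) :=
      memLocalIdeal_sum hMp _ _ (fun κ _ => hcong κ.out)
    rw [h4] at h5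
    have h6 := memLocalIdeal_neg h5
    rw [neg_neg, memLocalIdeal_natCast_iff hM] at h6
    exact hS.not_dvd_index h6
  rw [hββ, hβeq]
  funext g
  simp

end Uniq

end Cfsg.Agent.Lib.Helper8.AD
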