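import Mathlib
import Cfsg.Agent.Lib.Helper8.SM7
import Cfsg.Agent.Lib.Helper8.CharPPart
import Cfsg.Agent.Lib.Helper8.InducedOmega2
import Cfsg.Agent.Lib.Helper8.Deflation
import Cfsg.Agent.S0174
import Cfsg.Agent.S0146
import Cfsg.Agent.S0148

/-!
# A congruence for the characters of a block lying over a character of a normal subgroup
-/

set_option autoImplicit false
set_option linter.unusedSectionVars false
set_option linter.unusedVariables false

namespace Cfsg.Agent.Lib.Helper8.BZ

open Cfsg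
open scoped ComplexConjugate
open Cfsg.Agent.Lib.Helper1 Cfsg.Agent.Lib.Helper4 Cfsg.Agent.Lib.Helper8

universe u

section

variable {G : Type u} [Group G] [Fintype G] {M : Ideal AlgInt} {p : ℕ}

/-- The function induced from a normal subgroup vanishes outside it. -/
theorem indFun_eq_zero_of_notMem (N : Subgroup G) [hN : N.Normal] (θ : N → ℂ) {g : G}
    (hg : g ∉ N) : indFun N θ g = 0 := by
  rw [indFun_apply, Finset.sum_eq_zero, mul_zero]
  intro x _
  apply extendByZero_of_notMem
  intro hmem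
  apply hg
  have := hN.conj_mem _ hmem x
  have e : x * (x⁻¹ * g * x) * x⁻¹ = g := by group
  rwa [e] at this

/-- If the `p`-part of `u` is conjugate to an element outside the normal subgroup `N`, then `u`
lies outside `N`. -/
theorem notMem_of_isPPart (hp : p.Prime) (N : Subgroup G) [hN : N.Normal] {x u z : G}
    (hxN : x ∉ N) (huz : IsPPart p u z) (hxz : IsConj x z) : u ∉ N := by
  intro hu
  apply hxN
  obtain ⟨m, hm⟩ := Cfsg.Agent.Lib.Helper8.IsPPart.exists_zpow hp huz
  have hz : z ∈ N := by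
    rw [hm]
    exact N.zpow_mem hu m
  obtain ⟨c, hc⟩ := isConj_iff.1 hxz.symm
  rw [← hc]
  exact hN.conj_mem z hz c

/-- The value at the identity of an irreducible character lying over `θ` is its multiplicity times
a constant depending on `θ` alone. -/
theorem exists_degree_const (N : Subgroup G) [hN : N.Normal] [Fintype N] (θ : IrrCharacter N) :
    ∃ κ : ℕ, ∀ χ : IrrCharacter G, classInner (fun n : N => (χ : G → ℂ) n) (θ : N → ℂ) ≠ 0 →
      (χ : G → ℂ) 1 = classInner (fun n : N => (χ : G → ℂ) n) (θ : N → ℂ) * (κ : ℂ) := by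
  classical
  set C : Set (N → ℂ) := {ψ : N → ℂ | ∃ g : G, ψ = fun n : N =>
    (θ : N → ℂ) ⟨g * n * g⁻¹, hN.conj_mem n n.2 g⟩} with hC
  have hCfin : C.Finite := by
    have : C = Set.range (fun g : G => fun n : N =>
        (θ : N → ℂ) ⟨g * n * g⁻¹, hN.conj_mem n n.2 g⟩) := by
      ext ψ
      constructor
      · rintro ⟨g, rfl⟩
        exact ⟨g, rfl⟩
      · rintro ⟨g, rfl⟩
        exact ⟨g, rfl⟩
    rw [this]
    exact Set.finite_range _
  obtain ⟨d, hd⟩ := isCharacter_apply_one (isCharacter_of_irr θ.2)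
  have hval : (∑ᶠ ψ ∈ C, ψ) 1 = ((C.ncard * d : ℕ) : ℂ) := by
    rw [finsum_mem_eq_finite_toFinset_sum _ hCfin, Finset.sum_apply]
    have : ∀ ψ ∈ hCfin.toFinset, ψ 1 = (d : ℂ) := by
      intro ψ hψ
      rw [Set.Finite.mem_toFinset] at hψ
      obtain ⟨g, rfl⟩ := hψ
      simp only
      rw [← hd]
      exact congrArg (θ : N → ℂ) (Subtype.ext (by simp))
    rw [Finset.sum_congr rfl this, Finset.sum_const, nsmul_eq_mul, Set.ncard_eq_toFinset_card C hCfin]
    push_cast
    ring
  refine ⟨C.ncard * d, fun χ hχ => ?_⟩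
  have h1 := Cfsg.Agent.S0174.result N hN (χ : G → ℂ) χ.2 (θ : N → ℂ) θ.2 hχ
  have h2 := congrFun h1 1
  rw [Pi.smul_apply, smul_eq_mul, hval] at h2
  exact h2

end

end Cfsg.Agent.Lib.Helper8.BZ
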