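import Mathlib
import Cfsg.Agent.Lib.Helper8.AD2
import Cfsg.Agent.Lib.Helper4.Gallagher
import Cfsg.Agent.Lib.Helper8.IM2
import Cfsg.Agent.Lib.Helper8.BZ1
import Cfsg.Agent.Lib.Helper8.CA8
import Cfsg.Agent.Lib.Helper8.BlockIso

/-!
# Clifford theory over a normal subgroup of prime index
-/

set_option autoImplicit false

namespace Cfsg.Agent.Lib.Helper8.AD

open Cfsg Cfsg.Agent.Lib.Helper8 Cfsg.Agent.Lib.Helper1 Cfsg.Agent.Lib.Helper4
open scoped ComplexConjugate

universe u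

section PrimeIndex

variable {Γ : Type u} [Group Γ] [Fintype Γ]

/-- Over a normal subgroup `H` of prime index, an irreducible character lying over `θ` either
restricts to `θ` or vanishes off `H`. -/
theorem prime_index_dichotomy (H : Subgroup Γ) [hH : H.Normal] [Fintype H] {q : ℕ}
    (hq : q.Prime) (hidx : H.index = q) {θ : H → ℂ} (hθ : IsIrrCharacter H θ)
    {χ : Γ → ℂ} (hχ : IsIrrCharacter Γ χ) (hover : classInner (fun n : H => χ n) θ ≠ 0) :
    (∀ x : H, χ x = θ x) ∨ (∀ g : Γ, g ∉ H → χ g = 0) := by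
  classical
  have : Fact q.Prime := ⟨hq⟩
  -- the quotient is abelian
  have hcard : Nat.card (Γ ⧸ H) = q := by rw [← Subgroup.index_eq_card, hidx]
  have : IsCyclic (Γ ⧸ H) := isCyclic_of_prime_card hcard
  have hab : ∀ x y : Γ, x * y * x⁻¹ * y⁻¹ ∈ H := by
    intro x y
    rw [← QuotientGroup.eq_one_iff]
    simp only [QuotientGroup.mk_mul, QuotientGroup.mk_inv]
    have hc : ∀ a b : Γ ⧸ H, a * b = b * a := fun a b =>
      (IsCyclic.isMulCommutative (α := Γ ⧸ H)).is_comm.comm a b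
    rw [hc (x : Γ ⧸ H) (y : Γ ⧸ H)]
    group
  set T := inertia H θ with hT
  obtain ⟨e, C, he0, hCirr, hcardT, hind, hdeg⟩ :=
    induced_abelian_inertia H θ hθ T hT (fun x _ y _ => hab x y)
  have hΓ : Nat.card Γ = q * Nat.card H := by rw [← hidx, Subgroup.index_mul_card]
  have hTdvd : Nat.card T ∣ Nat.card Γ := Subgroup.card_subgroup_dvd_card T
  have hH0 : 0 < Nat.card H := Nat.card_pos
  have hdvd : e ^ 2 * C.card ∣ q := by
    rw [← hcardT, hΓ] at hTdvd
    exact Nat.dvd_of_mul_dvd_mul_right hH0 hTdvd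
  have he1 : e = 1 := by
    have h1 : e ∣ q := (Dvd.intro _ (by ring : e * (e * C.card) = e ^ 2 * C.card)).trans hdvd
    rcases (Nat.dvd_prime hq).1 h1 with h | h
    · exact h
    · exfalso
      rw [h] at hdvd
      have h2 : q ^ 2 ∣ q := (Dvd.intro _ rfl).trans hdvd
      have h3 : q * q ∣ q * 1 := by rw [mul_one, ← sq]; exact h2
      have h4 := Nat.dvd_of_mul_dvd_mul_left hq.pos h3
      exact hq.one_lt.ne' (Nat.dvd_one.1 h4)
  subst he1
  rw [one_pow, one_mul] at hdvd hcardT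
  rw [Nat.cast_one, one_smul] at hind
  -- χ ∈ C
  have hχC : χ ∈ C := by
    have h1 : classInner (indFun H θ) χ ≠ 0 := (GF.over_iff H θ hχ).2 hover
    rw [hind, classInner_sum_left] at h1
    obtain ⟨χ', hχ', h2⟩ := Finset.exists_ne_zero_of_sum_ne_zero h1
    have h3 : χ' = χ := by
      by_contra hne
      exact h2 (classInner_irr_ne (hCirr χ' hχ') hχ hne)
    rw [← h3]
    exact hχ'
  rcases (Nat.dvd_prime hq).1 hdvd with hC1 | hCq
  · right
    intro g hg
    obtain ⟨a, ha⟩ := Finset.card_eq_one.1 hC1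
    rw [ha, Finset.mem_singleton] at hχC
    rw [ha, Finset.sum_singleton, ← hχC] at hind
    rw [← hind]
    exact BZ.indFun_eq_zero_of_notMem H θ hg
  · left
    have hTtop : T = ⊤ := by
      apply Subgroup.eq_top_of_card_eq
      rw [← hcardT, hCq, hΓ]
    have hTidx : T.index = 1 := by rw [hTtop]; exact Subgroup.index_top
    have hdegχ := hdeg χ hχC
    rw [hTidx] at hdegχ
    simp only [Nat.cast_one, one_mul] at hdegχ
    exact restrict_eq_of_degree_eq H hχ hθ hover hdegχ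

end PrimeIndex

section Transport

variable {A B : Type u} [Group A] [Group B] {M : Ideal AlgInt}

theorem centralChar_comp_mulEquiv (e : A ≃* B) (χ : B → ℂ) (k : A) :
    centralChar (fun a => χ (e a)) k = centralChar χ (e k) := by
  unfold centralChar
  simp only
  rw [index_centralizer_map e k, map_one]

theorem sameBlock_comp_mulEquiv (e : A ≃* B) {χ ψ : B → ℂ} (h : SameBlock M χ ψ) :
    SameBlock M (fun a => χ (e a)) (fun a => ψ (e a)) := by
  intro k
  rw [centralChar_comp_mulEquiv, centralChar_comp_mulEquiv]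
  exact h _

end Transport

section Step

variable {Γ : Type u} [Group Γ] [Fintype Γ] {p : ℕ} [Fact p.Prime] {M : Ideal AlgInt}

theorem isPBlock_principalBlock (G : Type u) [Group G] : IsPBlock M (principalBlock M G) :=
  ⟨⟨fun _ => (1 : ℂ), isIrrCharacter_of_hom (1 : G →* ℂˣ) |> fun h => by simpa using h⟩, rfl⟩

/-- The step: if `θ` in the principal block of `N` extends to a normal subgroup `J₁ ≥ N` of prime
index, then it extends to the whole group. -/
theorem step (hM : IsPModular p M) (N : Subgroup Γ) [N.Normal] [Fintype N] (hS : Setup p N)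
    {θ : N → ℂ} (hθ : IsIrrCharacter N θ) (hprin : SameBlock M (fun _ : N => (1 : ℂ)) θ)
    (J₁ : Subgroup Γ) [J₁.Normal] [Fintype J₁] (hNJ : N ≤ J₁) {q : ℕ} (hq : q.Prime)
    (hidx : J₁.index = q) {ξ₁ : J₁ → ℂ} (hξ₁ : IsIrrCharacter J₁ ξ₁)
    (hξ₁θ : ∀ n : N, ξ₁ ⟨n, hNJ n.2⟩ = θ n) :
    ∃ ψ : Γ → ℂ, IsIrrCharacter Γ ψ ∧ ∀ n : N, ψ n = θ n := by
  classical
  have hMp := isPModular_isPrime hM
  have hMt := isPModular_ne_top hM
  -- ambient `J₁`
  set N₁ : Subgroup J₁ := N.subgroupOf J₁ with hN₁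
  have : Fintype N₁ := Fintype.ofFinite _
  let e : N₁ ≃* N := Subgroup.subgroupOfEquivOfLe hNJ
  have hS₁ : Setup p N₁ := hS.subgroupOf hNJ
  set θ₁ : N₁ → ℂ := fun x => θ (e x) with hθ₁
  have hθ₁irr : IsIrrCharacter N₁ θ₁ := isIrrCharacter_comp_mulEquiv hθ e
  have hprin₁ : SameBlock M (fun _ : N₁ => (1 : ℂ)) θ₁ :=
    sameBlock_comp_mulEquiv e hprin
  have hext₁ : ∀ x : N₁, ξ₁ (x : J₁) = θ₁ x := by
    intro x
    have := hξ₁θ (e x)
    show ξ₁ (x : J₁) = θ (e x)
    rw [← this]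
    rfl
  obtain ⟨χ₁, hχ₁, hχ₁θ, hχ₁c⟩ := exists_cong_ext hM N₁ hS₁ θ₁ hθ₁irr hprin₁ ξ₁ hξ₁ hext₁
  have hχ₁B : SameBlock M (fun _ : J₁ => (1 : ℂ)) χ₁ := hχ₁c.sameBlock (isClassFunction_irr hχ₁)
  -- a character of the principal block of `Γ` over `χ₁`
  have hcov : Covers J₁ (principalBlock M Γ) (principalBlock M J₁) := by
    refine ⟨⟨fun _ => (1 : ℂ), by simpa using isIrrCharacter_of_hom (1 : Γ →* ℂˣ)⟩,
      sameBlock_refl hMt _, ⟨fun _ => (1 : ℂ), by simpa using isIrrCharacter_of_hom (1 : J₁ →* ℂˣ)⟩,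
      sameBlock_refl hMt _, ?_⟩
    show classInner (fun _ : J₁ => (1 : ℂ)) (fun _ : J₁ => (1 : ℂ)) ≠ 0
    rw [classInner_irr_self (by simpa using isIrrCharacter_of_hom (1 : J₁ →* ℂˣ))]
    exact one_ne_zero
  obtain ⟨χ, hχB, hχover⟩ := exists_over_of_covers J₁ hM (isPBlock_principalBlock J₁)
    (isPBlock_principalBlock Γ) hcov (θ := ⟨χ₁, hχ₁⟩) hχ₁B
  rcases prime_index_dichotomy J₁ hq hidx hχ₁ χ.2 hχover with h | h
  · refine ⟨χ, χ.2, fun n => ?_⟩
    have h1 := h ⟨n, hNJ n.2⟩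
    have h2 := hχ₁θ ⟨⟨n, hNJ n.2⟩, n.2⟩
    rw [h1, h2]
    show θ (e ⟨⟨n, hNJ n.2⟩, n.2⟩) = θ n
    congr 1
  · exfalso
    have hne : J₁ ≠ ⊤ := by
      intro htop
      rw [htop, Subgroup.index_top] at hidx
      exact hq.one_lt.ne hidx
    obtain ⟨g, hg⟩ : ∃ g : Γ, g ∉ J₁ := by
      by_contra hall
      push Not at hall
      exact hne (eq_top_iff.2 fun x _ => hall x)
    obtain ⟨c, hcg, hcp⟩ := hS.exists_class g
    have hcJ : c ∉ J₁ := by
      intro hc
      apply hg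
      have : g = c * (c⁻¹ * g) := by group
      rw [this]
      exact J₁.mul_mem hc (hNJ hcg)
    have h1 := hχB c
    unfold centralChar at h1
    rw [h c hcJ] at h1
    simp only [mul_one, div_one, mul_zero, zero_div, sub_zero] at h1
    rw [memLocalIdeal_natCast_iff hM] at h1
    exact hcp h1

end Step

end Cfsg.Agent.Lib.Helper8.AD
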