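import Mathlib
import Cfsg.Agent.Lib.Helper8.AD3
import Cfsg.Agent.Lib.Helper2.Schmidt2

/-!
# Extension to overgroups with solvable quotient (Alperin's case)
-/

set_option autoImplicit false

namespace Cfsg.Agent.Lib.Helper8.AD

open Cfsg Cfsg.Agent.Lib.Helper8 Cfsg.Agent.Lib.Helper1 Cfsg.Agent.Lib.Helper4
open scoped ComplexConjugate

universe u

section Solv

variable {p : ℕ} [Fact p.Prime] {M : Ideal AlgInt}

theorem exists_ext_of_solvable_aux (hM : IsPModular p M) : ∀ (n : ℕ) (Γ : Type u) [Group Γ]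
    [Finite Γ], Nat.card Γ = n → ∀ (N : Subgroup Γ) [N.Normal], Setup p N →
    Group.IsSolvable (Γ ⧸ N) → ∀ θ : N → ℂ, IsIrrCharacter N θ →
    SameBlock M (fun _ : N => (1 : ℂ)) θ →
    ∃ ψ : Γ → ℂ, IsIrrCharacter Γ ψ ∧ ∀ x : N, ψ x = θ x := by
  intro n
  induction n using Nat.strong_induction_on with
  | _ n ih =>
    intro Γ _ _ hcard N _ hS hsolv θ hθ hprin
    classical
    have : Fintype Γ := Fintype.ofFinite Γ
    have : Fintype N := Fintype.ofFinite N
    rcases subsingleton_or_nontrivial (Γ ⧸ N) with hsub | hnt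
    · -- `N = ⊤`
      have htop : N = ⊤ := by
        rw [eq_top_iff]
        intro g _
        rw [← QuotientGroup.eq_one_iff]
        exact Subsingleton.elim _ _
      let e : Γ ≃* N := (Subgroup.topEquiv.symm).trans (MulEquiv.subgroupCongr htop.symm)
      refine ⟨fun g => θ (e g), isIrrCharacter_comp_mulEquiv hθ e, fun x => ?_⟩
      congr 1
    · obtain ⟨K, hKn, hKp⟩ := Cfsg.Agent.Lib.Helper2.Schmidt.exists_normal_prime_index (G := Γ ⧸ N)
      set J₁ : Subgroup Γ := K.comap (QuotientGroup.mk' N) with hJ₁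
      have hJ₁n : J₁.Normal := hKn.comap _
      have hNJ : N ≤ J₁ := by
        intro x hx
        rw [hJ₁, Subgroup.mem_comap]
        have : (QuotientGroup.mk' N) x = 1 := (QuotientGroup.eq_one_iff x).2 hx
        rw [this]
        exact K.one_mem
      have hidx : J₁.index = K.index :=
        Subgroup.index_comap_of_surjective K (QuotientGroup.mk'_surjective N)
      have : Fintype J₁ := Fintype.ofFinite J₁
      have hlt : Nat.card J₁ < n := by
        rw [← hcard, ← Subgroup.index_mul_card J₁, hidx]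
        have h1 : 0 < Nat.card J₁ := Nat.card_pos
        have h2 := hKp.one_lt
        nlinarith
      -- ambient `J₁`
      set N₁ : Subgroup J₁ := N.subgroupOf J₁ with hN₁
      let e : N₁ ≃* N := Subgroup.subgroupOfEquivOfLe hNJ
      have hS₁ : Setup p N₁ := hS.subgroupOf hNJ
      have hsolv₁ : Group.IsSolvable (J₁ ⧸ N₁) := by
        let f : J₁ ⧸ N₁ →* Γ ⧸ N := QuotientGroup.map N₁ N J₁.subtype (fun x hx => hx)
        have hf : Function.Injective f := by
          rw [injective_iff_map_eq_one]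
          intro x hx
          induction x using QuotientGroup.induction_on with
          | H y =>
            have h1 : f (y : J₁ ⧸ N₁) = ((y : Γ) : Γ ⧸ N) := rfl
            rw [h1, QuotientGroup.eq_one_iff] at hx
            exact (QuotientGroup.eq_one_iff y).2 hx
        exact Group.isSolvable_of_isSolvable_injective hf
      set θ₁ : N₁ → ℂ := fun x => θ (e x) with hθ₁
      have hθ₁irr : IsIrrCharacter N₁ θ₁ := isIrrCharacter_comp_mulEquiv hθ e
      have hprin₁ : SameBlock M (fun _ : N₁ => (1 : ℂ)) θ₁ := sameBlock_comp_mulEquiv e hprin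
      obtain ⟨ψ₁, hψ₁, hψ₁θ⟩ := ih (Nat.card J₁) hlt J₁ rfl N₁ hS₁ hsolv₁ θ₁ hθ₁irr hprin₁
      have hξ : ∀ x : N, ψ₁ ⟨x, hNJ x.2⟩ = θ x := by
        intro x
        have := hψ₁θ ⟨⟨x, hNJ x.2⟩, x.2⟩
        rw [this]
        show θ (e ⟨⟨x, hNJ x.2⟩, x.2⟩) = θ x
        congr 1
      exact step hM N hS hθ hprin J₁ hNJ hKp (hidx.trans rfl) hψ₁ hξ

/-- Alperin's case: in the Alperin–Dade setting with `Γ / N` solvable, every character of the
principal block of `N` extends to `Γ`. -/
theorem exists_ext_of_solvable (hM : IsPModular p M) {Γ : Type u} [Group Γ] [Finite Γ]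
    (N : Subgroup Γ) [N.Normal] (hS : Setup p N) (hsolv : Group.IsSolvable (Γ ⧸ N))
    {θ : N → ℂ} (hθ : IsIrrCharacter N θ) (hprin : SameBlock M (fun _ : N => (1 : ℂ)) θ) :
    ∃ ψ : Γ → ℂ, IsIrrCharacter Γ ψ ∧ ∀ x : N, ψ x = θ x :=
  exists_ext_of_solvable_aux hM (Nat.card Γ) Γ rfl N hS hsolv θ hθ hprin

end Solv

end Cfsg.Agent.Lib.Helper8.AD
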