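import Mathlib
import Cfsg.Agent.Lib.Helper8.AD4

/-!
# Coset orthogonality: if `χ` restricts irreducibly to `N`, then `∑_{x ∈ gN} χ(x) χ(x⁻¹) = |N|`.
-/

set_option autoImplicit false

namespace Cfsg.Agent.Lib.Helper8.AD

open Cfsg Cfsg.Agent.Lib.Helper8 Cfsg.Agent.Lib.Helper8.RelSch Cfsg.Agent.Lib.Helper1
  Cfsg.Agent.Lib.Helper4
open scoped ComplexConjugate

universe u

section CosetNorm

variable {Γ : Type u} [Group Γ] [Fintype Γ] {d : ℕ}

theorem coset_schur (ρ : Representation ℂ Γ (Fin d → ℂ)) (N : Subgroup Γ) [Fintype N]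
    (hnorm : NormOneOn ρ N) (g : Γ) (B : Module.End ℂ (Fin d → ℂ)) :
    ∑ n : N, ρ ((g * n)⁻¹) * B * ρ (g * n)
      = ((Nat.card N : ℂ) * LinearMap.trace ℂ _ B / ρ.character 1) •
          (1 : Module.End ℂ (Fin d → ℂ)) := by
  classical
  set T : Module.End ℂ (Fin d → ℂ) := ∑ n : N, ρ ((g * n)⁻¹) * B * ρ (g * n) with hT
  have hcomm : ∀ m ∈ N, T ∘ₗ ρ m = ρ m ∘ₗ T := by
    intro m hm
    rw [← Module.End.mul_eq_comp, ← Module.End.mul_eq_comp, hT, Finset.sum_mul, Finset.mul_sum]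
    rw [← Equiv.sum_comp (Equiv.mulRight (⟨m, hm⟩ : N))
      (fun n : N => ρ m * (ρ ((g * n)⁻¹) * B * ρ (g * n)))]
    refine Finset.sum_congr rfl fun n _ => ?_
    simp only [Equiv.coe_mulRight, Subgroup.coe_mul]
    have e1 : ρ m * ρ ((g * ((n : Γ) * m))⁻¹) = ρ ((g * (n : Γ))⁻¹) := by
      rw [← map_mul]; congr 1; group
    have e2 : ρ (g * ((n : Γ) * m)) = ρ (g * (n : Γ)) * ρ m := by
      rw [← map_mul]; congr 1; group
    calc ρ ((g * (n : Γ))⁻¹) * B * ρ (g * (n : Γ)) * ρ m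
        = ρ ((g * (n : Γ))⁻¹) * B * (ρ (g * (n : Γ)) * ρ m) := by simp only [mul_assoc]
      _ = (ρ m * ρ ((g * ((n : Γ) * m))⁻¹)) * B * ρ (g * ((n : Γ) * m)) := by rw [e1, e2]
      _ = ρ m * (ρ ((g * ((n : Γ) * m))⁻¹) * B * ρ (g * ((n : Γ) * m))) := by
          simp only [mul_assoc]
  obtain ⟨c, hc⟩ := rel_schur ρ N hnorm T hcomm
  have hn := finrank_ne_zero_of_normOne ρ N hnorm
  have htr : LinearMap.trace ℂ _ T = (Nat.card N : ℂ) * LinearMap.trace ℂ _ B := by
    rw [hT, map_sum]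
    have h1 : ∀ n : N, LinearMap.trace ℂ _ (ρ ((g * n)⁻¹) * B * ρ (g * n))
        = LinearMap.trace ℂ _ B := by
      intro n
      rw [LinearMap.trace_mul_comm, ← mul_assoc, ← map_mul, mul_inv_cancel, map_one, one_mul]
    rw [Finset.sum_congr rfl fun n _ => h1 n, Finset.sum_const, Finset.card_univ,
      ← Nat.card_eq_fintype_card, nsmul_eq_mul]
  have hchar1 : ρ.character 1 = (Module.finrank ℂ (Fin d → ℂ) : ℂ) := by
    unfold Representation.character
    rw [map_one, Module.End.one_eq_id, LinearMap.trace_id]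
  rw [hc, map_smul, LinearMap.trace_id, smul_eq_mul] at htr
  rw [hc, hchar1]
  congr 1
  field_simp
  rw [← htr]


theorem coset_schur_mat (ρ : Representation ℂ Γ (Fin d → ℂ)) (N : Subgroup Γ) [Fintype N]
    (hnorm : NormOneOn ρ N) (g : Γ) (B : Matrix (Fin d) (Fin d) ℂ) :
    ∑ n : N, repMat ρ ((g * n)⁻¹) * B * repMat ρ (g * n)
      = ((Nat.card N : ℂ) * B.trace / ρ.character 1) • (1 : Matrix (Fin d) (Fin d) ℂ) := by
  classical
  have h := congrArg LinearMap.toMatrix' (coset_schur ρ N hnorm g (Matrix.toLin' B))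
  rw [map_sum, map_smul, LinearMap.toMatrix'_one, Matrix.trace_toLin'_eq] at h
  rw [← h]
  refine Finset.sum_congr rfl fun n _ => ?_
  rw [LinearMap.toMatrix'_mul, LinearMap.toMatrix'_mul, LinearMap.toMatrix'_toLin']
  rfl

/-- Coset orthogonality. -/
theorem sum_coset_char (ρ : Representation ℂ Γ (Fin d → ℂ)) (N : Subgroup Γ) [Fintype N]
    (hnorm : NormOneOn ρ N) (g : Γ) :
    ∑ n : N, ρ.character ((g * n)⁻¹) * ρ.character (g * n) = (Nat.card N : ℂ) := by
  classical
  have hn := finrank_ne_zero_of_normOne ρ N hnorm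
  have hchar1 : ρ.character 1 = (d : ℂ) := by
    unfold Representation.character
    rw [map_one, Module.End.one_eq_id, LinearMap.trace_id]
    simp
  have hd : (d : ℂ) ≠ 0 := by
    rw [← hchar1]
    unfold Representation.character
    rw [map_one, Module.End.one_eq_id, LinearMap.trace_id]
    exact hn
  have h1 : ∀ n : N, ρ.character ((g * n)⁻¹) * ρ.character (g * n)
      = ∑ i, ∑ k, (repMat ρ ((g * n)⁻¹) * Matrix.single i k (1 : ℂ) * repMat ρ (g * n) :
        Matrix (Fin d) (Fin d) ℂ) i k := by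
    intro n
    rw [character_eq_trace_repMat, character_eq_trace_repMat, Matrix.trace, Matrix.trace,
      Finset.sum_mul]
    refine Finset.sum_congr rfl fun i _ => ?_
    rw [Finset.mul_sum]
    refine Finset.sum_congr rfl fun k _ => ?_
    rw [Matrix.mul_apply]
    rw [Finset.sum_eq_single k]
    · rw [Matrix.mul_single_apply_same]
      simp
    · intro b _ hb
      rw [Matrix.mul_single_apply_of_ne _ _ _ _ _ hb, zero_mul]
    · intro h
      exact absurd (Finset.mem_univ _) h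
  rw [Finset.sum_congr rfl fun n _ => h1 n, Finset.sum_comm]
  have h2 : ∀ i : Fin d, ∑ n : N, ∑ k,
      (repMat ρ ((g * n)⁻¹) * Matrix.single i k (1 : ℂ) * repMat ρ (g * n) :
        Matrix (Fin d) (Fin d) ℂ) i k
      = (Nat.card N : ℂ) / d := by
    intro i
    rw [Finset.sum_comm]
    have h3 : ∀ k : Fin d, ∑ n : N,
        (repMat ρ ((g * n)⁻¹) * Matrix.single i k (1 : ℂ) * repMat ρ (g * n) :
        Matrix (Fin d) (Fin d) ℂ) i k
        = if i = k then (Nat.card N : ℂ) / d else 0 := by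
      intro k
      have h4 := congrFun (congrFun (coset_schur_mat ρ N hnorm g (Matrix.single i k (1 : ℂ))) i) k
      rw [Matrix.sum_apply] at h4
      rw [h4, hchar1]
      by_cases hik : i = k
      · subst hik
        rw [if_pos rfl, Matrix.trace_single_eq_same]
        simp
      · rw [if_neg hik, Matrix.trace_single_eq_of_ne _ _ _ hik]
        simp
    rw [Finset.sum_congr rfl fun k _ => h3 k]
    simp
  rw [Finset.sum_congr rfl fun i _ => h2 i, Finset.sum_const, Finset.card_univ, Fintype.card_fin,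
    nsmul_eq_mul]
  field_simp

end CosetNorm

end Cfsg.Agent.Lib.Helper8.AD
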