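import Mathlib
import Cfsg.Agent.Lib.Helper8.AD5
import Cfsg.Agent.Lib.Helper8.RV1

/-!
# Canonical extensions to intermediate subgroups in the Alperin–Dade setting
-/

set_option autoImplicit false

namespace Cfsg.Agent.Lib.Helper8.AD

open Cfsg Cfsg.Agent.Lib.Helper8 Cfsg.Agent.Lib.Helper1 Cfsg.Agent.Lib.Helper4
  Cfsg.Agent.Lib.Helper8.RV
open scoped ComplexConjugate

universe u

noncomputable local instance subFtAD {G : Type u} [Group G] [Finite G] (H : Subgroup G) :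
    Fintype H := Fintype.ofFinite H

section Canon2

variable {Γ : Type u} [Group Γ] [Finite Γ] {p : ℕ} [Fact p.Prime] {M : Ideal AlgInt}

/-- `ξ` is the canonical extension of `θ` to `J`: an irreducible extension lying in the principal
block. -/
def IsCanon (M : Ideal AlgInt) (N J : Subgroup Γ) (θ : N → ℂ) (ξ : J → ℂ) : Prop :=
  IsIrrCharacter J ξ ∧ (∀ (x : Γ) (hx : x ∈ N) (hj : x ∈ J), ξ ⟨x, hj⟩ = θ ⟨x, hx⟩) ∧
    SameBlock M (fun _ : J => (1 : ℂ)) ξ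

omit [Finite Γ] in
theorem irr_transport {N J : Subgroup Γ} (hNJ : N ≤ J) {θ : N → ℂ} (hθ : IsIrrCharacter N θ) :
    IsIrrCharacter (N.subgroupOf J) (fun a => θ (eSub hNJ a)) :=
  isIrrCharacter_comp_mulEquiv hθ (eSub hNJ)

omit [Finite Γ] in
theorem prin_transport {N J : Subgroup Γ} (hNJ : N ≤ J) {θ : N → ℂ}
    (hprin : SameBlock M (fun _ : N => (1 : ℂ)) θ) :
    SameBlock M (fun _ : N.subgroupOf J => (1 : ℂ)) (fun a => θ (eSub hNJ a)) :=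
  sameBlock_comp_mulEquiv (eSub hNJ) hprin

theorem exists_isCanon_of_ext (hM : IsPModular p M) (N : Subgroup Γ) [N.Normal] (hS : Setup p N)
    {θ : N → ℂ} (hθ : IsIrrCharacter N θ) (hprin : SameBlock M (fun _ : N => (1 : ℂ)) θ)
    (J : Subgroup Γ) (hNJ : N ≤ J) (ψ : J → ℂ) (hψ : IsIrrCharacter J ψ)
    (hψθ : ∀ (x : Γ) (hx : x ∈ N) (hj : x ∈ J), ψ ⟨x, hj⟩ = θ ⟨x, hx⟩) :
    ∃ ξ : J → ℂ, IsCanon M N J θ ξ ∧ Cong M (N.subgroupOf J) ξ := by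
  have hS' := hS.subgroupOf hNJ
  obtain ⟨χ, hχ, hχθ, hcong⟩ := exists_cong_ext hM (N.subgroupOf J) hS'
    (fun a => θ (eSub hNJ a)) (irr_transport hNJ hθ) (prin_transport hNJ hprin) ψ hψ
    (fun n => hψθ _ _ _)
  refine ⟨χ, ⟨hχ, ?_, hcong.sameBlock (isClassFunction_irr hχ)⟩, hcong⟩
  intro x hx hj
  exact hχθ ⟨⟨x, hj⟩, hx⟩

omit [Fact p.Prime] in
theorem isCanon_unique (hM : IsPModular p M) (N : Subgroup Γ) [N.Normal] (hS : Setup p N)
    {θ : N → ℂ} (hθ : IsIrrCharacter N θ) (J : Subgroup Γ) (hNJ : N ≤ J) {ξ ξ' : J → ℂ}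
    (h : IsCanon M N J θ ξ) (h' : IsCanon M N J θ ξ') : ξ' = ξ := by
  have hS' := hS.subgroupOf hNJ
  refine eq_of_over hM (N.subgroupOf J) hS' (irr_transport hNJ hθ) h.1 (fun n => h.2.1 _ _ _)
    h.2.2 h'.1 ?_ h'.2.2
  have h1 : (fun n : N.subgroupOf J => ξ' n) = fun a => θ (eSub hNJ a) :=
    funext fun n => h'.2.1 _ _ _
  rw [h1, classInner_irr_self (irr_transport hNJ hθ)]
  exact one_ne_zero

theorem isCanon_cong (hM : IsPModular p M) (N : Subgroup Γ) [N.Normal] (hS : Setup p N)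
    {θ : N → ℂ} (hθ : IsIrrCharacter N θ) (hprin : SameBlock M (fun _ : N => (1 : ℂ)) θ)
    (J : Subgroup Γ) (hNJ : N ≤ J) {ξ : J → ℂ} (h : IsCanon M N J θ ξ) :
    Cong M (N.subgroupOf J) ξ := by
  obtain ⟨ξ₀, h₀, hc⟩ := exists_isCanon_of_ext hM N hS hθ hprin J hNJ ξ h.1 h.2.1
  rw [isCanon_unique hM N hS hθ J hNJ h₀ h]
  exact hc

theorem isCanon_res (hM : IsPModular p M) (N : Subgroup Γ) [N.Normal] (hS : Setup p N)
    {θ : N → ℂ} (hθ : IsIrrCharacter N θ) (hprin : SameBlock M (fun _ : N => (1 : ℂ)) θ)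
    {J' J : Subgroup Γ} (hNJ' : N ≤ J') (hJ : J' ≤ J) {ξ : J → ℂ} (h : IsCanon M N J θ ξ) :
    IsCanon M N J' θ (res hJ ξ) := by
  have hNJ := hNJ'.trans hJ
  have hcong := isCanon_cong hM N hS hθ hprin J hNJ h
  have hle : N.subgroupOf J ≤ J'.subgroupOf J := fun x hx => hNJ' hx
  have hirr0 : IsIrrCharacter (N.subgroupOf J) (fun x : N.subgroupOf J => ξ x) := by
    have h1 : (fun x : N.subgroupOf J => ξ x) = fun a => θ (eSub hNJ a) :=
      funext fun n => h.2.1 _ _ _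
    rw [h1]
    exact irr_transport hNJ hθ
  have hirr1 := irr_res_of_irr_res h.1 (N.subgroupOf J) hirr0 (J'.subgroupOf J) hle
  have hirr2 := isIrrCharacter_comp_mulEquiv hirr1 (eSub hJ).symm
  have hsb1 := hcong.sameBlock_res (isClassFunction_irr h.1) (J'.subgroupOf J) hle
  have hsb2 := sameBlock_comp_mulEquiv (M := M) (eSub hJ).symm hsb1
  refine ⟨hirr2, ?_, hsb2⟩
  intro x hx hj
  exact h.2.1 x hx (hJ hj)

omit [Finite Γ] [Fact p.Prime] in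
theorem isCanon_conj (N : Subgroup Γ) [hN : N.Normal] {θ : N → ℂ} (h : Γ)
    (hinv : ∀ x y : N, (y : Γ) = h⁻¹ * x * h → θ y = θ x)
    {J : Subgroup Γ} (hNJ : N ≤ J) {ξ : J → ℂ} (hc : IsCanon M N J θ ξ) :
    ∃ ξ' : (J.map (MulAut.conj h).toMonoidHom) → ℂ,
      IsCanon M N (J.map (MulAut.conj h).toMonoidHom) θ ξ' ∧
      N ≤ J.map (MulAut.conj h).toMonoidHom ∧
      ∀ (g : Γ) (hg : g ∈ J) (hg' : h * g * h⁻¹ ∈ J.map (MulAut.conj h).toMonoidHom),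
        ξ' ⟨h * g * h⁻¹, hg'⟩ = ξ ⟨g, hg⟩ := by
  set c : Γ →* Γ := (MulAut.conj h).toMonoidHom with hcdef
  have hinj : Function.Injective c := (MulAut.conj h).injective
  let e : ↥J ≃* ↥(J.map c) := J.equivMapOfInjective c hinj
  have key : ∀ y : J.map c, ((e.symm y : J) : Γ) = h⁻¹ * (y : Γ) * h := by
    intro y
    have h1 : (e (e.symm y) : Γ) = c ((e.symm y : J) : Γ) :=
      Subgroup.coe_equivMapOfInjective_apply J c hinj (e.symm y)
    rw [MulEquiv.apply_symm_apply] at h1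
    have h2 : ∀ z : Γ, c z = h * z * h⁻¹ := by
      intro z
      simp [hcdef, MulAut.conj_apply]
    rw [h1, h2]
    group
  have hc2 : ∀ z : Γ, c z = h * z * h⁻¹ := by
    intro z
    simp [hcdef, MulAut.conj_apply]
  refine ⟨fun y => ξ (e.symm y), ⟨isIrrCharacter_comp_mulEquiv hc.1 e.symm, ?_,
    sameBlock_comp_mulEquiv e.symm hc.2.2⟩, ?_, ?_⟩
  · intro x hx hj
    have hx' : h⁻¹ * x * h ∈ N := by
      have := hN.conj_mem x hx h⁻¹
      rwa [inv_inv] at this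
    have h1 : e.symm ⟨x, hj⟩ = ⟨h⁻¹ * x * h, hNJ hx'⟩ := Subtype.ext (key ⟨x, hj⟩)
    show ξ (e.symm ⟨x, hj⟩) = _
    rw [h1, hc.2.1 _ hx' (hNJ hx')]
    exact hinv ⟨x, hx⟩ ⟨h⁻¹ * x * h, hx'⟩ rfl
  · intro x hx
    have hx' : h⁻¹ * x * h ∈ N := by
      have := hN.conj_mem x hx h⁻¹
      rwa [inv_inv] at this
    refine Subgroup.mem_map.2 ⟨h⁻¹ * x * h, hNJ hx', ?_⟩
    rw [hc2]
    group
  · intro g hg hg'
    have h1 : e.symm ⟨h * g * h⁻¹, hg'⟩ = ⟨g, hg⟩ := by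
      apply Subtype.ext
      rw [key]
      show h⁻¹ * (h * g * h⁻¹) * h = g
      group
    show ξ (e.symm ⟨h * g * h⁻¹, hg'⟩) = _
    rw [h1]

/-- `z` is the value at `g` of a canonical extension of `θ` to some subgroup containing `N` and
`g`. -/
def CanonAt (M : Ideal AlgInt) (N : Subgroup Γ) (θ : N → ℂ) (g : Γ) (z : ℂ) : Prop :=
  ∃ (J : Subgroup Γ) (ξ : J → ℂ) (hg : g ∈ J), N ≤ J ∧ IsCanon M N J θ ξ ∧ ξ ⟨g, hg⟩ = z

theorem canonAt_unique (hM : IsPModular p M) (N : Subgroup Γ) [N.Normal] (hS : Setup p N)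
    {θ : N → ℂ} (hθ : IsIrrCharacter N θ) (hprin : SameBlock M (fun _ : N => (1 : ℂ)) θ)
    {g : Γ} {z z' : ℂ} (h : CanonAt M N θ g z) (h' : CanonAt M N θ g z') : z = z' := by
  obtain ⟨J, ξ, hg, hNJ, hc, rfl⟩ := h
  obtain ⟨J', ξ', hg', hNJ', hc', rfl⟩ := h'
  have h1 := isCanon_res hM N hS hθ hprin (le_inf hNJ hNJ') inf_le_left hc
  have h2 := isCanon_res hM N hS hθ hprin (le_inf hNJ hNJ') inf_le_right hc'
  have h3 := isCanon_unique hM N hS hθ (J ⊓ J') (le_inf hNJ hNJ') h1 h2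
  exact (congrFun h3 ⟨g, ⟨hg, hg'⟩⟩).symm

theorem exists_isCanon_of_solvable (hM : IsPModular p M) (N : Subgroup Γ) [N.Normal]
    (hS : Setup p N) {θ : N → ℂ} (hθ : IsIrrCharacter N θ)
    (hprin : SameBlock M (fun _ : N => (1 : ℂ)) θ) (J : Subgroup Γ) (hNJ : N ≤ J)
    (hsolv : Group.IsSolvable (↥J ⧸ N.subgroupOf J)) : ∃ ξ : J → ℂ, IsCanon M N J θ ξ := by
  have hS' := hS.subgroupOf hNJ
  obtain ⟨ψ, hψ, hψθ⟩ := exists_ext_of_solvable hM (N.subgroupOf J) hS' hsolv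
    (irr_transport hNJ hθ) (prin_transport hNJ hprin)
  obtain ⟨ξ, hξ, -⟩ := exists_isCanon_of_ext hM N hS hθ hprin J hNJ ψ hψ
    (fun x hx hj => hψθ ⟨⟨x, hj⟩, hx⟩)
  exact ⟨ξ, hξ⟩

omit [Finite Γ] in
theorem solvable_sup_quot (N : Subgroup Γ) [N.Normal] (S : Subgroup Γ) [Group.IsSolvable S] :
    Group.IsSolvable (↥(N ⊔ S) ⧸ N.subgroupOf (N ⊔ S)) := by
  let f : S →* ↥(N ⊔ S) ⧸ N.subgroupOf (N ⊔ S) :=
    (QuotientGroup.mk' _).comp (Subgroup.inclusion le_sup_right)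
  refine Group.isSolvable_of_surjective (f := f) ?_
  intro κ
  obtain ⟨x, rfl⟩ := QuotientGroup.mk_surjective κ
  have hx : (x : Γ) ∈ S ⊔ N := by rw [sup_comm]; exact x.2
  obtain ⟨c, hc, a, ha, hca⟩ := Subgroup.mem_sup_of_normal_right.1 hx
  refine ⟨⟨c, hc⟩, ?_⟩
  show (QuotientGroup.mk (Subgroup.inclusion le_sup_right (⟨c, hc⟩ : S)) : _ ⧸ _)
    = QuotientGroup.mk x
  rw [QuotientGroup.eq, Subgroup.mem_subgroupOf]
  have : ((Subgroup.inclusion (le_sup_right : S ≤ N ⊔ S) (⟨c, hc⟩ : S))⁻¹ * x : ↥(N ⊔ S)).1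
      = a := by
    show c⁻¹ * (x : Γ) = a
    rw [← hca]; group
  rw [this]
  exact ha

end Canon2

end Cfsg.Agent.Lib.Helper8.AD
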