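import Mathlib
import Cfsg.Agent.Lib.Helper8.AD6
import Cfsg.Agent.Lib.Helper2.BrauerInd
import Cfsg.Agent.Lib.Helper2.Exceptional
import Cfsg.Agent.S0164

/-!
# The Alperin–Dade theorem: characters of the principal block extend
-/

set_option autoImplicit false

namespace Cfsg.Agent.Lib.Helper8.AD

open Cfsg Cfsg.Agent.Lib.Helper8 Cfsg.Agent.Lib.Helper1 Cfsg.Agent.Lib.Helper4
  Cfsg.Agent.Lib.Helper8.RV Cfsg.Agent.Lib.Helper8.RelSch
open scoped ComplexConjugate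

universe u

noncomputable local instance subFtAD7 {G : Type u} [Group G] [Finite G] (H : Subgroup G) :
    Fintype H := Fintype.ofFinite H

section Main

variable {Γ : Type u} [Group Γ] [Finite Γ] {p : ℕ} [Fact p.Prime] {M : Ideal AlgInt}

theorem exists_canonAt (hM : IsPModular p M) (N : Subgroup Γ) [N.Normal] (hS : Setup p N)
    {θ : N → ℂ} (hθ : IsIrrCharacter N θ) (hprin : SameBlock M (fun _ : N => (1 : ℂ)) θ)
    (g : Γ) : ∃ z, CanonAt M N θ g z := by
  have hsolv := solvable_sup_quot N (Subgroup.zpowers g)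
  obtain ⟨ξ, hξ⟩ := exists_isCanon_of_solvable hM N hS hθ hprin (N ⊔ Subgroup.zpowers g)
    le_sup_left hsolv
  have hg : g ∈ N ⊔ Subgroup.zpowers g :=
    (le_sup_right : Subgroup.zpowers g ≤ N ⊔ Subgroup.zpowers g) (Subgroup.mem_zpowers g)
  exact ⟨ξ ⟨g, hg⟩, _, ξ, hg, le_sup_left, hξ, rfl⟩

open Classical in
/-- The value at `g` of the canonical extension of `θ` to a subgroup containing `N` and `g`. -/
noncomputable def canonVal (M : Ideal AlgInt) (N : Subgroup Γ) (θ : N → ℂ) (g : Γ) : ℂ :=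
  if h : ∃ z, CanonAt M N θ g z then Classical.choose h else 0

theorem canonVal_eq (hM : IsPModular p M) (N : Subgroup Γ) [N.Normal] (hS : Setup p N)
    {θ : N → ℂ} (hθ : IsIrrCharacter N θ) (hprin : SameBlock M (fun _ : N => (1 : ℂ)) θ)
    {g : Γ} {z : ℂ} (h : CanonAt M N θ g z) : canonVal M N θ g = z := by
  unfold canonVal
  rw [dif_pos ⟨z, h⟩]
  exact canonAt_unique hM N hS hθ hprin (Classical.choose_spec ⟨z, h⟩) h

theorem theta_inv (hM : IsPModular p M) (N : Subgroup Γ) [N.Normal] (hS : Setup p N)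
    {θ : N → ℂ} (hθ : IsIrrCharacter N θ) (hprin : SameBlock M (fun _ : N => (1 : ℂ)) θ)
    (h : Γ) (x y : N) (hxy : (y : Γ) = h⁻¹ * x * h) : θ y = θ x := by
  obtain ⟨z, J, ξ, hh, hNJ, hc, -⟩ := exists_canonAt hM N hS hθ hprin h
  have hcf := isClassFunction_irr hc.1
  rw [← hc.2.1 y y.2 (hNJ y.2), ← hc.2.1 x x.2 (hNJ x.2)]
  have h1 := hcf ⟨x, hNJ x.2⟩ ⟨h⁻¹, J.inv_mem hh⟩
  rw [← h1]
  congr 1
  apply Subtype.ext
  show (y : Γ) = h⁻¹ * x * (h⁻¹)⁻¹
  rw [hxy, inv_inv]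

theorem canonVal_conj (hM : IsPModular p M) (N : Subgroup Γ) [N.Normal] (hS : Setup p N)
    {θ : N → ℂ} (hθ : IsIrrCharacter N θ) (hprin : SameBlock M (fun _ : N => (1 : ℂ)) θ)
    (h g : Γ) : canonVal M N θ (h * g * h⁻¹) = canonVal M N θ g := by
  obtain ⟨z, hz⟩ := exists_canonAt hM N hS hθ hprin g
  rw [canonVal_eq hM N hS hθ hprin hz]
  obtain ⟨J, ξ, hg, hNJ, hc, rfl⟩ := hz
  obtain ⟨ξ', hc', hNJ', hval⟩ := isCanon_conj N h (theta_inv hM N hS hθ hprin h) hNJ hc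
  have hg' : h * g * h⁻¹ ∈ J.map (MulAut.conj h).toMonoidHom :=
    Subgroup.mem_map.2 ⟨g, hg, by simp [MulAut.conj_apply]⟩
  exact canonVal_eq hM N hS hθ hprin ⟨_, ξ', hg', hNJ', hc', hval g hg hg'⟩

theorem canonVal_of_mem (hM : IsPModular p M) (N : Subgroup Γ) [N.Normal] (hS : Setup p N)
    {θ : N → ℂ} (hθ : IsIrrCharacter N θ) (hprin : SameBlock M (fun _ : N => (1 : ℂ)) θ)
    (x : N) : canonVal M N θ x = θ x :=
  canonVal_eq hM N hS hθ hprin ⟨N, θ, x.2, le_rfl, ⟨hθ, fun _ _ _ => rfl, hprin⟩, rfl⟩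

theorem canonVal_res_char (hM : IsPModular p M) (N : Subgroup Γ) [N.Normal] (hS : Setup p N)
    {θ : N → ℂ} (hθ : IsIrrCharacter N θ) (hprin : SameBlock M (fun _ : N => (1 : ℂ)) θ)
    (E : Subgroup Γ) [Group.IsSolvable E] :
    IsCharacter E (fun e : E => canonVal M N θ e) := by
  obtain ⟨ξ, hξ⟩ := exists_isCanon_of_solvable hM N hS hθ hprin (N ⊔ E) le_sup_left
    (solvable_sup_quot N E)
  have h1 : (fun e : E => canonVal M N θ e) = res (le_sup_right : E ≤ N ⊔ E) ξ :=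
    funext fun e => canonVal_eq hM N hS hθ hprin
      ⟨N ⊔ E, ξ, (le_sup_right : E ≤ N ⊔ E) e.2, le_sup_left, hξ, rfl⟩
  rw [h1]
  exact isCharacter_res le_sup_right (isCharacter_of_irr hξ.1)

theorem canonVal_genChar (hM : IsPModular p M) (N : Subgroup Γ) [N.Normal] (hS : Setup p N)
    {θ : N → ℂ} (hθ : IsIrrCharacter N θ) (hprin : SameBlock M (fun _ : N => (1 : ℂ)) θ) :
    IsGeneralizedCharacter Γ (canonVal M N θ) := by
  refine Cfsg.Agent.S0164.result (canonVal M N θ)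
    (fun g h => canonVal_conj hM N hS hθ hprin h g) ?_
  intro E q hq hE
  have : Fact q.Prime := ⟨hq⟩
  have hnil : Group.IsNilpotent E :=
    Cfsg.Agent.Lib.Helper2.BrauerInd.isNilpotent_of_isElementary hE
  have : Group.IsSolvable E := inferInstance
  exact isGenChar_of_isCharacter (canonVal_res_char hM N hS hθ hprin E)


theorem canonVal_coset_sum (hM : IsPModular p M) (N : Subgroup Γ) [N.Normal] (hS : Setup p N)
    {θ : N → ℂ} (hθ : IsIrrCharacter N θ) (hprin : SameBlock M (fun _ : N => (1 : ℂ)) θ)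
    (g : Γ) :
    ∑ n : N, canonVal M N θ (g * n) * conj (canonVal M N θ (g * n)) = (Nat.card N : ℂ) := by
  obtain ⟨z, J, ξ, hg, hNJ, hc, -⟩ := exists_canonAt hM N hS hθ hprin g
  have hval : ∀ n : N, canonVal M N θ (g * n) = ξ ⟨g * n, J.mul_mem hg (hNJ n.2)⟩ :=
    fun n => canonVal_eq hM N hS hθ hprin ⟨J, ξ, _, hNJ, hc, rfl⟩
  obtain ⟨d, ρ, hirr, hρ⟩ := hc.1
  subst hρ
  have hirrN : IsIrrCharacter (N.subgroupOf J)
      (fun x : N.subgroupOf J => ρ.character (x : J)) := by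
    have h1 : (fun x : N.subgroupOf J => ρ.character (x : J)) = fun a => θ (eSub hNJ a) :=
      funext fun a => hc.2.1 _ _ _
    rw [h1]
    exact irr_transport hNJ hθ
  have hnorm := normOneOn_of_irr_res ρ (N.subgroupOf J) hirrN
  have hsum := sum_coset_char ρ (N.subgroupOf J) hnorm ⟨g, hg⟩
  rw [← Equiv.sum_comp (eSub hNJ).toEquiv, ← Nat.card_congr (eSub hNJ).toEquiv, ← hsum]
  refine Finset.sum_congr rfl fun a _ => ?_
  rw [hval, character_inv, mul_comm]
  rfl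

theorem canonVal_norm [Fintype Γ] (hM : IsPModular p M) (N : Subgroup Γ) [N.Normal]
    (hS : Setup p N) {θ : N → ℂ} (hθ : IsIrrCharacter N θ)
    (hprin : SameBlock M (fun _ : N => (1 : ℂ)) θ) :
    ∑ g : Γ, canonVal M N θ g * conj (canonVal M N θ g) = (Nat.card Γ : ℂ) := by
  set F : Γ → ℂ := fun g => canonVal M N θ g * conj (canonVal M N θ g) with hF
  have h1 : ∀ n : N, ∑ g : Γ, F (g * n) = ∑ g : Γ, F g :=
    fun n => Equiv.sum_comp (Equiv.mulRight (n : Γ)) F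
  have h2 : ∑ n : N, ∑ g : Γ, F (g * n) = (Nat.card N : ℂ) * ∑ g : Γ, F g := by
    rw [Finset.sum_congr rfl fun n _ => h1 n, Finset.sum_const, Finset.card_univ,
      ← Nat.card_eq_fintype_card, nsmul_eq_mul]
  have h3 : ∑ n : N, ∑ g : Γ, F (g * n) = (Nat.card Γ : ℂ) * (Nat.card N : ℂ) := by
    rw [Finset.sum_comm]
    rw [Finset.sum_congr rfl fun g _ => canonVal_coset_sum hM N hS hθ hprin g, Finset.sum_const,
      Finset.card_univ, ← Nat.card_eq_fintype_card, nsmul_eq_mul]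
  have hN0 : (Nat.card N : ℂ) ≠ 0 := Nat.cast_ne_zero.2 Nat.card_pos.ne'
  have h4 : (Nat.card N : ℂ) * ∑ g : Γ, F g = (Nat.card N : ℂ) * (Nat.card Γ : ℂ) := by
    rw [← h2, h3, mul_comm]
  exact mul_left_cancel₀ hN0 h4

/-- **Alperin–Dade**: if `N` is normal in `Γ`, `Q ≤ N` has index prime to `p` in `Γ` and
`Γ = N C_Γ(Q)`, then every irreducible character of the principal `p`-block of `N` extends to
`Γ`. -/
theorem exists_ext (hM : IsPModular p M) (N : Subgroup Γ) [N.Normal] (hS : Setup p N)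
    {θ : N → ℂ} (hθ : IsIrrCharacter N θ) (hprin : SameBlock M (fun _ : N => (1 : ℂ)) θ) :
    ∃ ψ : Γ → ℂ, IsIrrCharacter Γ ψ ∧ ∀ x : N, ψ x = θ x := by
  have : Fintype Γ := Fintype.ofFinite Γ
  refine ⟨canonVal M N θ, ?_, canonVal_of_mem hM N hS hθ hprin⟩
  obtain ⟨m, hm, hθ1⟩ := irr_apply_one_pos hθ
  refine Cfsg.Agent.Lib.Helper2.Exceptional.irr_of_norm_one_pos
    (canonVal_genChar hM N hS hθ hprin) ?_ hm ?_
  · rw [classInner_def, canonVal_norm hM N hS hθ hprin]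
    have hG0 : (Nat.card Γ : ℂ) ≠ 0 := Nat.cast_ne_zero.2 Nat.card_pos.ne'
    field_simp
  · have h1 := canonVal_of_mem hM N hS hθ hprin 1
    rw [← hθ1, ← h1]
    rfl

end Main

end Cfsg.Agent.Lib.Helper8.AD
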