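import Mathlib
import Cfsg.Agent.Lib.Helper8.AD7
import Cfsg.Agent.Lib.Helper8.Cover2

/-!
# Alperin–Dade: restriction is a bijection between the principal blocks
-/

set_option autoImplicit false

namespace Cfsg.Agent.Lib.Helper8.AD

open Cfsg Cfsg.Agent.Lib.Helper8 Cfsg.Agent.Lib.Helper1 Cfsg.Agent.Lib.Helper4
open scoped ComplexConjugate

universe u

noncomputable local instance subFtAD8 {G : Type u} [Group G] [Finite G] (H : Subgroup G) :
    Fintype H := Fintype.ofFinite H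

section Bij

variable {Γ : Type u} [Group Γ] [Finite Γ] {p : ℕ} [Fact p.Prime] {M : Ideal AlgInt}

/-- Existence of a member of the principal block of `Γ` extending `θ`. -/
theorem exists_principal_ext (hM : IsPModular p M) (N : Subgroup Γ) [N.Normal] (hS : Setup p N)
    {θ : N → ℂ} (hθ : IsIrrCharacter N θ) (hprin : SameBlock M (fun _ : N => (1 : ℂ)) θ) :
    ∃ χ : Γ → ℂ, IsIrrCharacter Γ χ ∧ (∀ n : N, χ n = θ n) ∧
      SameBlock M (fun _ : Γ => (1 : ℂ)) χ := by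
  have : Fintype Γ := Fintype.ofFinite Γ
  obtain ⟨ψ₀, hψ₀, hψ₀θ⟩ := exists_ext hM N hS hθ hprin
  obtain ⟨χ₀, hχ₀, hχ₀θ, hcong⟩ := exists_cong_ext hM N hS θ hθ hprin ψ₀ hψ₀ hψ₀θ
  exact ⟨χ₀, hχ₀, hχ₀θ, hcong.sameBlock (isClassFunction_irr hχ₀)⟩

/-- Every member of the principal block of `Γ` restricts to a member of the principal block of
`N`. -/
theorem res_mem_principal (hM : IsPModular p M) (N : Subgroup Γ) [hN : N.Normal] (hS : Setup p N)
    (χ : IrrCharacter Γ) (hχ : χ ∈ principalBlock M Γ) :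
    ∃ θ ∈ principalBlock M ↥N, ∀ n : N, (χ : Γ → ℂ) n = (θ : N → ℂ) n := by
  classical
  have : Fintype Γ := Fintype.ofFinite Γ
  have hMp := isPModular_isPrime hM
  have hMt := isPModular_ne_top hM
  have hres : IsCharacter N (fun n : N => (χ : Γ → ℂ) n) :=
    isCharacter_comp_hom (isCharacter_of_irr χ.2) N.subtype
  have h1 : (χ : Γ → ℂ) 1 ≠ 0 := irr_apply_one_ne_zero χ.2
  obtain ⟨ψ, hψ⟩ := exists_irr_constituent (K := N) hres h1
  have hcov : Covers N (principalBlock M Γ) (principalBlock M N) := by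
    refine ⟨⟨fun _ => (1 : ℂ), by simpa using isIrrCharacter_of_hom (1 : Γ →* ℂˣ)⟩,
      sameBlock_refl hMt _, ⟨fun _ => (1 : ℂ), by simpa using isIrrCharacter_of_hom (1 : N →* ℂˣ)⟩,
      sameBlock_refl hMt _, ?_⟩
    show classInner (fun _ : N => (1 : ℂ)) (fun _ : N => (1 : ℂ)) ≠ 0
    rw [classInner_irr_self (by simpa using isIrrCharacter_of_hom (1 : N →* ℂˣ))]
    exact one_ne_zero
  have hmem := mem_gOrbit_of_covers N hMp (isPBlock_principalBlock Γ) (isPBlock_principalBlock N)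
    hcov hχ hψ
  rw [mem_gOrbit_iff] at hmem
  obtain ⟨g, θ', hθ', hψθ'⟩ := hmem
  have hθ'B : SameBlock M (fun _ : N => (1 : ℂ)) (θ' : N → ℂ) := hθ'
  have hψeq : (ψ : N → ℂ) = θ' := by
    funext n
    rw [hψθ' n]
    refine theta_inv hM N hS θ'.2 hθ'B g⁻¹ n ⟨g * n * g⁻¹, hN.conj_mem n n.2 g⟩ ?_
    rw [inv_inv]
  rw [hψeq] at hψ
  obtain ⟨χ₀, hχ₀, hχ₀θ, hχ₀B⟩ := exists_principal_ext hM N hS θ'.2 hθ'B
  have heq := eq_of_over hM N hS θ'.2 hχ₀ hχ₀θ hχ₀B χ.2 hψ hχ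
  exact ⟨θ', hθ', fun n => by rw [heq]; exact hχ₀θ n⟩

/-- Every member of the principal block of `N` is the restriction of exactly one member of the
principal block of `Γ`. -/
theorem existsUnique_principal_ext (hM : IsPModular p M) (N : Subgroup Γ) [hN : N.Normal]
    (hS : Setup p N) (θ : IrrCharacter N) (hθ : θ ∈ principalBlock M ↥N) :
    ∃! χ : IrrCharacter Γ, χ ∈ principalBlock M Γ ∧ ∀ n : N, (χ : Γ → ℂ) n = (θ : N → ℂ) n := by
  classical
  have : Fintype Γ := Fintype.ofFinite Γ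
  have hθB : SameBlock M (fun _ : N => (1 : ℂ)) (θ : N → ℂ) := hθ
  obtain ⟨χ₀, hχ₀, hχ₀θ, hχ₀B⟩ := exists_principal_ext hM N hS θ.2 hθB
  refine ⟨⟨χ₀, hχ₀⟩, ⟨hχ₀B, hχ₀θ⟩, ?_⟩
  rintro χ' ⟨hχ'B, hχ'θ⟩
  apply Subtype.ext
  refine eq_of_over hM N hS θ.2 hχ₀ hχ₀θ hχ₀B χ'.2 ?_ hχ'B
  have h1 : (fun n : N => (χ' : Γ → ℂ) n) = (θ : N → ℂ) := funext hχ'θ
  rw [h1, classInner_irr_self θ.2]
  exact one_ne_zero

end Bij

end Cfsg.Agent.Lib.Helper8.AD
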