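import Mathlib
import Cfsg.Prelude.Def_Blocks
import Cfsg.Prelude.Def_BrauerPairs
import Cfsg.Agent.Lib.Helper8.AF1

set_option autoImplicit false
set_option linter.unusedSectionVars false

namespace Cfsg.Agent.Lib.Helper8.AF

open Cfsg
open scoped ComplexConjugate
open Cfsg.Agent.Lib.Helper1 Cfsg.Agent.Lib.Helper4 Cfsg.Agent.Lib.Helper8

universe u

section

variable {G : Type u} [Group G] [Fintype G] {M : Ideal AlgInt} {p : ℕ} [Fact p.Prime]

/-- **Free inertial action gives nilpotent local blocks** (abelian defect group). -/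
theorem nilpotent_of_free (hM : IsPModular p M) {B : Set (IrrCharacter G)} {P : Subgroup G}
    {c : Set (IrrCharacter (Subgroup.centralizer (P : Set G)))}
    (hmax : IsMaximalBrauerPair p M B P c) (hab : ∀ x ∈ P, ∀ y ∈ P, x * y = y * x)
    (hcB : IsInducedBlock M (Subgroup.centralizer (P : Set G)) c B)
    (hfree : ∀ g : G, g ∈ Subgroup.normalizer (P : Set G) →
      StabilizesBlock (Subgroup.centralizer (P : Set G)) c g → ∀ x ∈ P, x ≠ 1 →
      g * x * g⁻¹ = x → g ∈ Subgroup.centralizer (P : Set G))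
    {Q : Subgroup G} (hQP : Q ≤ P) (hQ1 : Q ≠ ⊥)
    {f : Set (IrrCharacter (Subgroup.centralizer (Q : Set G)))}
    (hf : IsInducedBlockIn M (Subgroup.centralizer (Q : Set G))
      (Subgroup.centralizer (P : Set G)) c f) : IsNilpotentBlock p M f := by
  classical
  have hMp := isPModular_isPrime hM
  have : Fintype (Subgroup.centralizer (Q : Set G)) := Fintype.ofFinite _
  have : Fintype (Subgroup.centralizer (P : Set G)) := Fintype.ofFinite _
  have hPp : IsPGroup p P := hmax.1.1.1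
  have hQp : IsPGroup p Q := hPp.to_le hQP
  have hKX : Subgroup.centralizer (P : Set G) ≤ Subgroup.centralizer (Q : Set G) :=
    Subgroup.centralizer_le (by exact_mod_cast hQP)
  have hQC : Q ≤ Subgroup.centralizer (Q : Set G) := by
    intro u hu
    rw [Subgroup.mem_centralizer_iff]
    intro q hq
    exact hab q (hQP hq) u (hQP hu)
  have hfB : IsInducedBlock M (Subgroup.centralizer (Q : Set G)) f B :=
    isInducedBlock_trans' _ _ hKX hMp hf hcB
  have hQf : IsBrauerPairOf p M B Q f := pair_of_induced hM Q hQp hQC hfB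
  refine ⟨hf.2.1, ?_⟩
  intro R' g' hR'g' x hxN hxst _
  have hn := isNormalSubpair_of_centralizer_pair hM hQp R' g' hR'g'
  have hU := centralizer_sup_map Q R'
  have hB2 : IsBrauerPairOf p M B _ _ :=
    (Cfsg.Agent.S4658.result p M hM _ Q _ f hn.2.1 hQf.1 (Relation.ReflTransGen.single hn) B
      hQf.2.1).2 hQf
  have hxNU : (x : G) ∈ Subgroup.normalizer
      ((Q ⊔ R'.map (Subgroup.centralizer (Q : Set G)).subtype : Subgroup G) : Set G) := by
    have h1 : (x : G) ∈ Subgroup.normalizer (Q : Set G) :=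
      Subgroup.centralizer_le_normalizer _ x.2
    have h2 : (x : G) ∈ Subgroup.normalizer
        ((R'.map (Subgroup.centralizer (Q : Set G)).subtype : Subgroup G) : Set G) :=
      (mem_normalizer_map_subtype_iff _ R' x).2 hxN
    rw [Subgroup.mem_normalizer_iff_map_conj_eq] at h1 h2 ⊢
    rw [Subgroup.map_sup, h1, h2]
  have hst := (stabilizesBlock_centIso_iff _ R' _ hU g' x).2 hxst
  set U : Subgroup G := Q ⊔ R'.map (Subgroup.centralizer (Q : Set G)).subtype with hUdef
  obtain ⟨z, hz⟩ := exists_conj_subpairLE hM hmax hB2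
  have hU₁P : U.map (MulAut.conj z).toMonoidHom ≤ P := subpairLE_le hz
  have hx₁N : z * (x : G) * z⁻¹ ∈ Subgroup.normalizer
      ((U.map (MulAut.conj z).toMonoidHom : Subgroup G) : Set G) :=
    Subgroup.le_normalizer_map _ ⟨(x : G), hxNU, rfl⟩
  have hx₁st := stabilizesBlock_conj z hst
  obtain ⟨y, hyN, hyst, c₀, hc₀, hxyc⟩ := abelian_stab_factor hM hmax hab hU₁P hz hx₁N hx₁st
  -- a non-identity element of `Q`
  obtain ⟨q, hq, hq1⟩ : ∃ q ∈ Q, q ≠ 1 := by
    by_contra hcon
    push Not at hcon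
    apply hQ1
    rw [eq_bot_iff]
    intro q hq
    rw [Subgroup.mem_bot]
    exact hcon q hq
  have hqU : z * q * z⁻¹ ∈ U.map (MulAut.conj z).toMonoidHom :=
    ⟨q, (le_sup_left : Q ≤ U) hq, rfl⟩
  have hq₁1 : z * q * z⁻¹ ≠ 1 := by
    intro h
    apply hq1
    have : q = z⁻¹ * (z * q * z⁻¹) * z := by group
    rw [this, h]
    group
  have hxq : (x : G) * q = q * (x : G) := (Subgroup.mem_centralizer_iff.1 x.2 q hq).symm
  have hc₀q : c₀ * (z * q * z⁻¹) = (z * q * z⁻¹) * c₀ :=
    (Subgroup.mem_centralizer_iff.1 hc₀ _ hqU).symm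
  have hyfix : y * (z * q * z⁻¹) * y⁻¹ = z * q * z⁻¹ := by
    have hy : y = z * (x : G) * z⁻¹ * c₀⁻¹ := by
      rw [hxyc]
      group
    have hc₀q' : c₀⁻¹ * (z * q * z⁻¹) * c₀ = z * q * z⁻¹ := by
      rw [mul_assoc, ← hc₀q]
      group
    calc y * (z * q * z⁻¹) * y⁻¹
        = z * (x : G) * z⁻¹ * (c₀⁻¹ * (z * q * z⁻¹) * c₀) * (z * (x : G)⁻¹ * z⁻¹) := by
          rw [hy]
          group
      _ = z * ((x : G) * q) * (x : G)⁻¹ * z⁻¹ := by
          rw [hc₀q']
          group
      _ = z * q * z⁻¹ := by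
          rw [hxq]
          group
  have hyC : y ∈ Subgroup.centralizer (P : Set G) :=
    hfree y hyN hyst _ (hU₁P hqU) hq₁1 hyfix
  have hyC' : y ∈ Subgroup.centralizer ((U.map (MulAut.conj z).toMonoidHom : Subgroup G) : Set G) :=
    Subgroup.centralizer_le (by exact_mod_cast hU₁P) hyC
  have hx₁C : z * (x : G) * z⁻¹ ∈ Subgroup.centralizer
      ((U.map (MulAut.conj z).toMonoidHom : Subgroup G) : Set G) := by
    rw [hxyc]
    exact Subgroup.mul_mem _ hyC' hc₀
  rw [mem_centralizer_map_conj] at hx₁C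
  have e1 : z⁻¹ * (z * (x : G) * z⁻¹) * z = (x : G) := by group
  rw [e1] at hx₁C
  exact (centIso_mem_iff _ R' _ hU x).1 hx₁C

end

end Cfsg.Agent.Lib.Helper8.AF
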