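import Mathlib
import Cfsg.Prelude.Def_Blocks
import Cfsg.Prelude.Def_BrauerPairs
import Cfsg.Agent.Lib.Helper8.AF2
import Cfsg.Agent.Lib.Helper8.BlockInduced
import Cfsg.Agent.Lib.Helper6.PRes

set_option autoImplicit false
set_option linter.unusedSectionVars false

namespace Cfsg.Agent.Lib.Helper8.AF

open Cfsg
open scoped ComplexConjugate
open Cfsg.Agent.Lib.Helper1 Cfsg.Agent.Lib.Helper4 Cfsg.Agent.Lib.Helper8

universe u

section

variable {G : Type u} [Group G] [Fintype G] {M : Ideal AlgInt} {p : ℕ} [Fact p.Prime]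

/-- The block of `C_G(P)` induces a block inside any `X` with `P C_G(P) ≤ X ≤ G`, `P ≤ C_G(P)`. -/
theorem exists_inducedIn (hM : IsPModular p M) (P X : Subgroup G) (hP : IsPGroup p P)
    (hPC : P ≤ Subgroup.centralizer (P : Set G))
    (hKX : Subgroup.centralizer (P : Set G) ≤ X)
    {c : Set (IrrCharacter (Subgroup.centralizer (P : Set G)))} (hc : IsPBlock M c) :
    ∃ f : Set (IrrCharacter X), IsInducedBlockIn M X (Subgroup.centralizer (P : Set G)) c f := by
  classical
  have : Fintype X := Fintype.ofFinite _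
  have hPX : P ≤ X := hPC.trans hKX
  have h1 : P.subgroupOf X ≤ (Subgroup.centralizer (P : Set G)).subgroupOf X :=
    Subgroup.subgroupOf_mono X hPC
  have h2 : Subgroup.centralizer ((P.subgroupOf X : Subgroup X) : Set X) ≤
      (Subgroup.centralizer (P : Set G)).subgroupOf X := by
    intro t ht
    rw [Subgroup.mem_subgroupOf, ← centralizer_subgroupOf_map P X hPX hKX]
    exact ⟨t, ht, rfl⟩
  have h3 : (Subgroup.centralizer (P : Set G)).subgroupOf X ≤
      Subgroup.normalizer ((P.subgroupOf X : Subgroup X) : Set X) := by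
    intro t ht
    rw [mem_normalizer_subgroupOf_iff X P hPX]
    exact Subgroup.centralizer_le_normalizer _ (Subgroup.mem_subgroupOf.1 ht)
  obtain ⟨f, hf⟩ := inducedBlockDefined_of_le hM (P.subgroupOf X) _ hP.comap_subtype h1 h2 h3
    (isPBlock_trB X _ hKX hc)
  exact ⟨f, (isInducedBlockIn_iff X _ hKX c f).2 hf⟩

end

section

variable {G : Type u} [Group G] [Fintype G] {M : Ideal AlgInt} {p : ℕ} [Fact p.Prime]

/-- **Nilpotent local blocks give a free inertial action** (abelian defect group). -/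
theorem free_of_nilpotent (hM : IsPModular p M) {B : Set (IrrCharacter G)} {P : Subgroup G}
    {c : Set (IrrCharacter (Subgroup.centralizer (P : Set G)))}
    (hmax : IsMaximalBrauerPair p M B P c) (hab : ∀ x ∈ P, ∀ y ∈ P, x * y = y * x)
    (hnil : ∀ Q : Subgroup G, Q ≤ P → Q ≠ ⊥ →
      ∀ f : Set (IrrCharacter (Subgroup.centralizer (Q : Set G))),
        IsInducedBlockIn M (Subgroup.centralizer (Q : Set G))
          (Subgroup.centralizer (P : Set G)) c f → IsNilpotentBlock p M f)
    {g : G} (hgN : g ∈ Subgroup.normalizer (P : Set G))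
    (hgst : StabilizesBlock (Subgroup.centralizer (P : Set G)) c g)
    {x : G} (hx : x ∈ P) (hx1 : x ≠ 1) (hgx : g * x * g⁻¹ = x) :
    g ∈ Subgroup.centralizer (P : Set G) := by
  classical
  have hMp := isPModular_isPrime hM
  have hp : p.Prime := Fact.out
  have hPp : IsPGroup p P := hmax.1.1.1
  have hPC : P ≤ Subgroup.centralizer (P : Set G) := by
    intro u hu
    rw [Subgroup.mem_centralizer_iff]
    intro q hq
    exact hab q hq u hu
  set Q : Subgroup G := Subgroup.zpowers x with hQdef
  have hQP : Q ≤ P := (Subgroup.zpowers_le).2 hx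
  have hQ1 : Q ≠ ⊥ := by
    intro h
    apply hx1
    have : x ∈ Q := Subgroup.mem_zpowers x
    rw [h, Subgroup.mem_bot] at this
    exact this
  set X : Subgroup G := Subgroup.centralizer (Q : Set G) with hXdef
  have hKX : Subgroup.centralizer (P : Set G) ≤ X :=
    Subgroup.centralizer_le (by exact_mod_cast hQP)
  have hPX : P ≤ X := hPC.trans hKX
  obtain ⟨f, hf⟩ := exists_inducedIn hM P X hPp hPC hKX hmax.1.1.2
  have hfnil := hnil Q hQP hQ1 f hf
  have hpair := local_pair hM P X hPp hPX hKX hf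
  have hU := centralizer_subgroupOf_map P X hPX hKX
  -- `g` lies in `X`
  have hgX : g ∈ X := by
    rw [hXdef, hQdef, Subgroup.mem_centralizer_iff]
    intro q hq
    obtain ⟨n, rfl⟩ := Subgroup.mem_zpowers_iff.1 hq
    have hc : Commute g x := by
      show g * x = x * g
      calc g * x = g * x * g⁻¹ * g := by group
        _ = x * g := by rw [hgx]
    exact ((hc.zpow_right n).eq).symm
  obtain ⟨u, v, hu, hv, hguv, ⟨k, huk⟩, hvc⟩ :=
    Cfsg.Agent.Lib.Helper6.exists_pPart_decomp_zpowers p g
  have hgT : g ∈ pairStab (Subgroup.normalizer (P : Set G)) (Subgroup.centralizer (P : Set G)) c :=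
    ⟨hgN, hgst⟩
  have hzp : Subgroup.zpowers g ≤
      pairStab (Subgroup.normalizer (P : Set G)) (Subgroup.centralizer (P : Set G)) c :=
    (Subgroup.zpowers_le).2 hgT
  obtain ⟨huN, hust⟩ := hzp hu
  obtain ⟨hvN, hvst⟩ := hzp hv
  have hvX : v ∈ X := ((Subgroup.zpowers_le).2 hgX) hv
  -- the `p`-part
  obtain ⟨θ, -, -, -, hpel⟩ := maxPair_imp hM P c hmax
  have huC : u ∈ Subgroup.centralizer (P : Set G) := by
    have h1 : orderOf u ∣ p ^ k := orderOf_dvd_of_pow_eq_one huk
    obtain ⟨j, -, hj⟩ := (Nat.dvd_prime_pow hp).1 h1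
    have := hpel u huN hust ⟨j, hj⟩
    exact (sup_le hPC le_rfl) this
  -- the `p'`-part
  have hvC : v ∈ Subgroup.centralizer (P : Set G) := by
    have h1 : (⟨v, hvX⟩ : X) ∈ Subgroup.normalizer ((P.subgroupOf X : Subgroup X) : Set X) :=
      (mem_normalizer_subgroupOf_iff X P hPX _).2 hvN
    have h2 : StabilizesBlock (Subgroup.centralizer ((P.subgroupOf X : Subgroup X) : Set X))
        (irrMap (centIso X (P.subgroupOf X) P hU).symm '' c) (⟨v, hvX⟩ : X) := by
      rw [← stabilizesBlock_centIso_iff X (P.subgroupOf X) P hU, irrMap_image_symm_image]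
      exact hvst
    have h3 : IsPRegular p (⟨v, hvX⟩ : X) := by
      unfold IsPRegular
      rw [Subgroup.orderOf_mk]
      intro hdvd
      exact hp.one_lt.ne' (Nat.eq_one_of_dvd_coprimes hvc hdvd (dvd_refl p))
    have := hfnil.2 _ _ hpair _ h1 h2 h3
    exact (centIso_mem_iff X (P.subgroupOf X) P hU _).2 this
  rw [hguv]
  exact Subgroup.mul_mem _ huC hvC

end

end Cfsg.Agent.Lib.Helper8.AF
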