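import Mathlib

set_option autoImplicit false

/-!
# Twisted fixed-embedding counts and their averages for multiply transitive actions
-/

namespace Cfsg.Agent.Lib.Helper8.AV

open MulAction

section defs

variable {H : Type*} [Group H] (Ω : Type*) [Fintype Ω] [DecidableEq Ω] [MulAction H Ω]

/-- number of fixed points -/
def fx (g : H) : ℕ := Fintype.card {a : Ω // g • a = a}

/-- number of points on 2-cycles -/
def ts (g : H) : ℕ := Fintype.card {a : Ω // g • a ≠ a ∧ g • g • a = a}

/-- twisted fixed-embedding count -/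
noncomputable def tw {m : ℕ} (ρ : Equiv.Perm (Fin m)) (g : H) : ℕ :=
  Fintype.card {x : Fin m ↪ Ω // ∀ i, g • x i = x (ρ i)}

theorem sum_tw [Fintype H] {m : ℕ} [IsMultiplyPretransitive H Ω m] (hm : m ≤ Fintype.card Ω)
    (ρ : Equiv.Perm (Fin m)) : ∑ g : H, tw Ω ρ g = Fintype.card H := by
  classical
  have hne : Nonempty (Fin m ↪ Ω) := Function.Embedding.nonempty_of_card_le (by simpa using hm)
  let ρ' : (Fin m ↪ Ω) → (Fin m ↪ Ω) := fun x => ρ.toEmbedding.trans x
  have hiff : ∀ (g : H) (x : Fin m ↪ Ω), (∀ i, g • x i = x (ρ i)) ↔ g • x = ρ' x := by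
    intro g x
    rw [Function.Embedding.ext_iff]
    rfl
  have h1 : ∀ g : H, tw Ω ρ g = ∑ x : (Fin m ↪ Ω), if g • x = ρ' x then 1 else 0 := by
    intro g
    unfold tw
    rw [Fintype.card_subtype, Finset.card_filter]
    refine Finset.sum_congr rfl fun x _ => ?_
    exact if_congr (hiff g x) rfl rfl
  rw [Finset.sum_congr rfl fun g _ => h1 g, Finset.sum_comm]
  have key : ∀ x : (Fin m ↪ Ω), (∑ g : H, if g • x = ρ' x then 1 else 0) * Fintype.card (Fin m ↪ Ω)
      = Fintype.card H := by
    intro x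
    obtain ⟨g₀, hg₀⟩ := exists_smul_eq H x (ρ' x)
    rw [← Finset.card_filter, ← Fintype.card_subtype]
    have e : {g : H // g • x = ρ' x} ≃ stabilizer H x :=
      { toFun := fun g => ⟨g₀⁻¹ * g.1, by
          rw [mem_stabilizer_iff, mul_smul, g.2, ← hg₀, inv_smul_smul]⟩
        invFun := fun s => ⟨g₀ * s.1, by
          rw [mul_smul, mem_stabilizer_iff.1 s.2, hg₀]⟩
        left_inv := fun g => by simp
        right_inv := fun s => by simp }
    rw [Fintype.card_congr e]
    have h2 := card_orbit_mul_card_stabilizer_eq_card_group H x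
    have h3 : Fintype.card (orbit H x) = Fintype.card (Fin m ↪ Ω) := by
      rw [← Nat.card_eq_fintype_card, ← Nat.card_eq_fintype_card, orbit_eq_univ]
      exact Nat.card_congr (Equiv.Set.univ _)
    rw [h3] at h2
    rw [mul_comm]
    exact h2
  have hpos : 0 < Fintype.card (Fin m ↪ Ω) := Fintype.card_pos
  have h4 : (∑ x : (Fin m ↪ Ω), ∑ g : H, if g • x = ρ' x then 1 else 0) *
      Fintype.card (Fin m ↪ Ω) = Fintype.card H * Fintype.card (Fin m ↪ Ω) := by
    rw [Finset.sum_mul, Finset.sum_congr rfl fun x _ => key x, Finset.sum_const, Finset.card_univ,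
      smul_eq_mul, mul_comm]
  exact Nat.eq_of_mul_eq_mul_right hpos h4

end defs

end Cfsg.Agent.Lib.Helper8.AV
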