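import Mathlib
import Cfsg.Agent.Lib.Helper8.AV1

set_option autoImplicit false

/-!
# Counting twisted fixed embeddings of a single group element
-/

namespace Cfsg.Agent.Lib.Helper8.AV

open MulAction

section inj

variable {Ω : Type*}

theorem inj2 {a b : Ω} (hab : a ≠ b) : Function.Injective ![a, b] := by
  intro i j h
  have hba := hab.symm
  fin_cases i <;> fin_cases j <;> simp_all

theorem inj3 {a b c : Ω} (hab : a ≠ b) (hac : a ≠ c) (hbc : b ≠ c) :
    Function.Injective ![a, b, c] := by
  intro i j h
  have hba := hab.symm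
  have hca := hac.symm
  have hcb := hbc.symm
  fin_cases i <;> fin_cases j <;> simp_all

theorem inj4 {a b c d : Ω} (hab : a ≠ b) (hac : a ≠ c) (had : a ≠ d) (hbc : b ≠ c) (hbd : b ≠ d)
    (hcd : c ≠ d) :
    Function.Injective ![a, b, c, d] := by
  intro i j h
  have hba := hab.symm
  have hca := hac.symm
  have hcb := hbc.symm
  have hda := had.symm
  have hdb := hbd.symm
  have hdc := hcd.symm
  fin_cases i <;> fin_cases j <;> simp_all

end inj

section basic

variable {H : Type*} [Group H] {Ω : Type*} [MulAction H Ω]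

theorem smul_ne_of_ts {g : H} {a : Ω} (h : g • a ≠ a ∧ g • g • a = a) :
    g • (g • a) ≠ g • a := by
  intro h2
  exact h.1 (smul_left_cancel g h2)

theorem ts_smul {g : H} {a : Ω} (h : g • a ≠ a ∧ g • g • a = a) :
    g • (g • a) ≠ g • a ∧ g • g • (g • a) = g • a :=
  ⟨smul_ne_of_ts h, by rw [h.2]⟩

theorem ts_ne_fix {g : H} {a c : Ω} (h : g • a ≠ a ∧ g • g • a = a) (hc : g • c = c) : a ≠ c := by
  intro h3
  rw [h3] at h
  exact h.1 hc

theorem ts_smul_ne_fix {g : H} {a c : Ω} (h : g • a ≠ a ∧ g • g • a = a) (hc : g • c = c) :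
    g • a ≠ c :=
  ts_ne_fix (ts_smul h) hc

end basic

variable {H : Type*} [Group H] (Ω : Type*) [Fintype Ω] [DecidableEq Ω] [MulAction H Ω]

theorem tw_one (m : ℕ) (g : H) :
    tw Ω (1 : Equiv.Perm (Fin m)) g = (fx Ω g).descFactorial m := by
  unfold tw fx
  have h := Fintype.card_embedding_eq (α := Fin m) (β := {a : Ω // g • a = a})
  rw [Fintype.card_fin] at h
  rw [← h]
  refine Fintype.card_congr ?_
  exact
    { toFun := fun x => ⟨fun i => ⟨x.1 i, x.2 i⟩, fun i j h =>
        x.1.injective (congrArg Subtype.val h)⟩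
      invFun := fun y => ⟨⟨fun i => (y i).1, fun i j h => y.injective (Subtype.ext h)⟩,
        fun i => (y i).2⟩
      left_inv := fun x => by ext; rfl
      right_inv := fun y => by ext; rfl }

theorem tw_swap2 (g : H) : tw Ω (Equiv.swap (0 : Fin 2) 1) g = ts Ω g := by
  unfold tw ts
  refine Fintype.card_congr ?_
  have e0 : Equiv.swap (0 : Fin 2) 1 0 = 1 := by decide
  have e1 : Equiv.swap (0 : Fin 2) 1 1 = 0 := by decide
  exact
    { toFun := fun x => ⟨x.1 0, by
        have h0 := x.2 0
        have h1 := x.2 1
        rw [e0] at h0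
        rw [e1] at h1
        refine ⟨?_, ?_⟩
        · rw [h0]
          intro h
          exact absurd (x.1.injective h) (by decide)
        · rw [h0, h1]⟩
      invFun := fun a => ⟨⟨![a.1, g • a.1], inj2 (Ne.symm a.2.1)⟩, by
          intro i
          fin_cases i
          · simp [Function.Embedding.coeFn_mk, e0]
          · simpa [Function.Embedding.coeFn_mk, e1] using a.2.2⟩
      left_inv := fun x => by
        have h0 := x.2 0
        rw [e0] at h0
        ext i
        fin_cases i
        · simp [Function.Embedding.coeFn_mk]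
        · simpa [Function.Embedding.coeFn_mk] using h0
      right_inv := fun a => by simp [Function.Embedding.coeFn_mk] }

theorem tw_swap3 (g : H) : tw Ω (Equiv.swap (0 : Fin 3) 1) g = ts Ω g * fx Ω g := by
  unfold tw ts fx
  rw [← Fintype.card_prod]
  refine Fintype.card_congr ?_
  have e0 : Equiv.swap (0 : Fin 3) 1 0 = 1 := by decide
  have e1 : Equiv.swap (0 : Fin 3) 1 1 = 0 := by decide
  have e2 : Equiv.swap (0 : Fin 3) 1 2 = 2 := by decide
  exact
    { toFun := fun x => (⟨x.1 0, by
        have h0 := x.2 0
        have h1 := x.2 1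
        rw [e0] at h0
        rw [e1] at h1
        refine ⟨?_, ?_⟩
        · rw [h0]
          intro h
          exact absurd (x.1.injective h) (by decide)
        · rw [h0, h1]⟩, ⟨x.1 2, by
        have h2 := x.2 2
        rw [e2] at h2
        exact h2⟩)
      invFun := fun p => ⟨⟨![p.1.1, g • p.1.1, p.2.1],
          inj3 (Ne.symm p.1.2.1) (ts_ne_fix p.1.2 p.2.2) (ts_smul_ne_fix p.1.2 p.2.2)⟩, by
          intro i
          fin_cases i
          · simp [Function.Embedding.coeFn_mk, e0]
          · simpa [Function.Embedding.coeFn_mk, e1] using p.1.2.2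
          · simpa [Function.Embedding.coeFn_mk, e2] using p.2.2⟩
      left_inv := fun x => by
        have h0 := x.2 0
        rw [e0] at h0
        ext i
        fin_cases i
        · simp [Function.Embedding.coeFn_mk]
        · simpa [Function.Embedding.coeFn_mk] using h0
        · simp [Function.Embedding.coeFn_mk]
      right_inv := fun p => by simp [Function.Embedding.coeFn_mk] }

end Cfsg.Agent.Lib.Helper8.AV
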