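import Mathlib
import Cfsg.Agent.Lib.Helper8.AV2

set_option autoImplicit false

/-!
# Counting twisted fixed embeddings of a single group element, four points
-/

namespace Cfsg.Agent.Lib.Helper8.AV

open MulAction

variable {H : Type*} [Group H] (Ω : Type*) [Fintype Ω] [DecidableEq Ω] [MulAction H Ω]

theorem tw_swap4 (g : H) :
    tw Ω (Equiv.swap (0 : Fin 4) 1) g = ts Ω g * (fx Ω g).descFactorial 2 := by
  unfold tw ts fx
  have h := Fintype.card_embedding_eq (α := Fin 2) (β := {a : Ω // g • a = a})
  rw [Fintype.card_fin] at h
  rw [← h, ← Fintype.card_prod]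
  refine Fintype.card_congr ?_
  have e0 : Equiv.swap (0 : Fin 4) 1 0 = 1 := by decide
  have e1 : Equiv.swap (0 : Fin 4) 1 1 = 0 := by decide
  have e2 : Equiv.swap (0 : Fin 4) 1 2 = 2 := by decide
  have e3 : Equiv.swap (0 : Fin 4) 1 3 = 3 := by decide
  exact
    { toFun := fun x => (⟨x.1 0, by
        have h0 := x.2 0
        have h1 := x.2 1
        rw [e0] at h0
        rw [e1] at h1
        refine ⟨?_, ?_⟩
        · rw [h0]
          intro h
          exact absurd (x.1.injective h) (by decide)
        · rw [h0, h1]⟩,
        ⟨![⟨x.1 2, by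
          have h2 := x.2 2
          rw [e2] at h2
          exact h2⟩, ⟨x.1 3, by
          have h3 := x.2 3
          rw [e3] at h3
          exact h3⟩], inj2 (by
            intro h
            exact absurd (x.1.injective (congrArg Subtype.val h)) (by decide))⟩)
      invFun := fun p => ⟨⟨![p.1.1, g • p.1.1, (p.2 0).1, (p.2 1).1],
          inj4 (Ne.symm p.1.2.1) (ts_ne_fix p.1.2 (p.2 0).2) (ts_ne_fix p.1.2 (p.2 1).2)
            (ts_smul_ne_fix p.1.2 (p.2 0).2) (ts_smul_ne_fix p.1.2 (p.2 1).2)
            (by
              intro h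
              exact absurd (p.2.injective (Subtype.ext h)) (by decide))⟩, by
          intro i
          fin_cases i
          · simp [Function.Embedding.coeFn_mk, e0]
          · simpa [Function.Embedding.coeFn_mk, e1] using p.1.2.2
          · simpa [Function.Embedding.coeFn_mk, e2] using (p.2 0).2
          · simpa [Function.Embedding.coeFn_mk, e3] using (p.2 1).2⟩
      left_inv := fun x => by
        have h0 := x.2 0
        rw [e0] at h0
        ext i
        fin_cases i
        · simp [Function.Embedding.coeFn_mk]
        · simpa [Function.Embedding.coeFn_mk] using h0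
        · simp [Function.Embedding.coeFn_mk]
        · simp [Function.Embedding.coeFn_mk]
      right_inv := fun p => by
        refine Prod.ext ?_ ?_
        · simp [Function.Embedding.coeFn_mk]
        · ext i
          fin_cases i
          · simp [Function.Embedding.coeFn_mk]
          · simp [Function.Embedding.coeFn_mk] }

theorem card_ts_avoid (g : H) (a : {a : Ω // g • a ≠ a ∧ g • g • a = a}) :
    Fintype.card {c : {a : Ω // g • a ≠ a ∧ g • g • a = a} // c.1 ≠ a.1 ∧ c.1 ≠ g • a.1}
      = ts Ω g - 2 := by
  classical
  set a' : {a : Ω // g • a ≠ a ∧ g • g • a = a} := ⟨g • a.1, ts_smul a.2⟩ with ha'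
  have hne : a' ≠ a := by
    intro h
    exact a.2.1 (congrArg Subtype.val h)
  rw [Fintype.card_subtype]
  have h1 : (Finset.univ.filter fun c : {a : Ω // g • a ≠ a ∧ g • g • a = a} =>
      c.1 ≠ a.1 ∧ c.1 ≠ g • a.1) = (Finset.univ.erase a).erase a' := by
    ext c
    simp only [Finset.mem_filter, Finset.mem_univ, true_and, Finset.mem_erase, and_true, ne_eq]
    constructor
    · rintro ⟨h1, h2⟩
      exact ⟨fun h => h2 (by rw [h]), fun h => h1 (by rw [h])⟩
    · rintro ⟨h1, h2⟩
      exact ⟨fun h => h2 (Subtype.ext h), fun h => h1 (Subtype.ext h)⟩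
  rw [h1, Finset.card_erase_of_mem, Finset.card_erase_of_mem (Finset.mem_univ a)]
  · unfold ts
    rw [Finset.card_univ]
    rfl
  · exact Finset.mem_erase.2 ⟨hne, Finset.mem_univ _⟩

theorem tw_swap22 (g : H) :
    tw Ω (Equiv.swap (0 : Fin 4) 1 * Equiv.swap (2 : Fin 4) 3) g = ts Ω g * (ts Ω g - 2) := by
  classical
  have hsig : Fintype.card (Σ a : {a : Ω // g • a ≠ a ∧ g • g • a = a},
      {c : {a : Ω // g • a ≠ a ∧ g • g • a = a} // c.1 ≠ a.1 ∧ c.1 ≠ g • a.1})
      = ts Ω g * (ts Ω g - 2) := by
    rw [Fintype.card_sigma, Finset.sum_congr rfl fun a _ => card_ts_avoid Ω g a,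
      Finset.sum_const, Finset.card_univ, smul_eq_mul]
    rfl
  rw [← hsig]
  unfold tw
  refine Fintype.card_congr ?_
  have e0 : (Equiv.swap (0 : Fin 4) 1 * Equiv.swap (2 : Fin 4) 3) 0 = 1 := by decide
  have e1 : (Equiv.swap (0 : Fin 4) 1 * Equiv.swap (2 : Fin 4) 3) 1 = 0 := by decide
  have e2 : (Equiv.swap (0 : Fin 4) 1 * Equiv.swap (2 : Fin 4) 3) 2 = 3 := by decide
  have e3 : (Equiv.swap (0 : Fin 4) 1 * Equiv.swap (2 : Fin 4) 3) 3 = 2 := by decide
  exact
    { toFun := fun x => ⟨⟨x.1 0, by
        have h0 := x.2 0
        have h1 := x.2 1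
        rw [e0] at h0
        rw [e1] at h1
        refine ⟨?_, ?_⟩
        · rw [h0]
          intro h
          exact absurd (x.1.injective h) (by decide)
        · rw [h0, h1]⟩,
        ⟨⟨x.1 2, by
          have h2 := x.2 2
          have h3 := x.2 3
          rw [e2] at h2
          rw [e3] at h3
          refine ⟨?_, ?_⟩
          · rw [h2]
            intro h
            exact absurd (x.1.injective h) (by decide)
          · rw [h2, h3]⟩, by
          have h0 := x.2 0
          rw [e0] at h0
          refine ⟨?_, ?_⟩
          · intro h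
            exact absurd (x.1.injective h) (by decide)
          · show x.1 2 ≠ g • x.1 0
            rw [h0]
            intro h
            exact absurd (x.1.injective h) (by decide)⟩⟩
      invFun := fun p => ⟨⟨![p.1.1, g • p.1.1, p.2.1.1, g • p.2.1.1],
          inj4 (Ne.symm p.1.2.1) (Ne.symm p.2.2.1) (by
              intro h
              apply p.2.2.2
              have h2 : g • p.1.1 = g • g • p.2.1.1 := by rw [← h]
              rw [p.2.1.2.2] at h2
              exact h2.symm)
            (Ne.symm p.2.2.2) (by
              intro h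
              exact p.2.2.1 (smul_left_cancel g h).symm)
            (Ne.symm p.2.1.2.1)⟩, by
          intro i
          fin_cases i
          · simp [Function.Embedding.coeFn_mk, e0]
          · simpa [Function.Embedding.coeFn_mk, e1] using p.1.2.2
          · simp [Function.Embedding.coeFn_mk, e2]
          · simpa [Function.Embedding.coeFn_mk, e3] using p.2.1.2.2⟩
      left_inv := fun x => by
        have h0 := x.2 0
        rw [e0] at h0
        have h2 := x.2 2
        rw [e2] at h2
        ext i
        fin_cases i
        · simp [Function.Embedding.coeFn_mk]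
        · simpa [Function.Embedding.coeFn_mk] using h0
        · simp [Function.Embedding.coeFn_mk]
        · simpa [Function.Embedding.coeFn_mk] using h2
      right_inv := fun p => by
        rcases p with ⟨a, c, hc⟩
        simp [Function.Embedding.coeFn_mk] }

end Cfsg.Agent.Lib.Helper8.AV
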