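import Mathlib
import Cfsg.Prelude.Def_Characters
import Cfsg.Agent.Lib.Helper8.AV3

set_option autoImplicit false

/-!
# Moments of the fixed point and 2-cycle counts for a 4-transitive action
-/

namespace Cfsg.Agent.Lib.Helper8.AV

open MulAction
open scoped ComplexConjugate

theorem cast_descFactorial_two (n : ℕ) : ((n.descFactorial 2 : ℕ) : ℂ) = (n : ℂ) * (n - 1) := by
  rw [← descPochhammer_eval_eq_descFactorial ℂ n 2]
  simp [descPochhammer_succ_right]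

theorem cast_descFactorial_three (n : ℕ) :
    ((n.descFactorial 3 : ℕ) : ℂ) = (n : ℂ) * (n - 1) * (n - 2) := by
  rw [← descPochhammer_eval_eq_descFactorial ℂ n 3]
  simp [descPochhammer_succ_right]

theorem cast_descFactorial_four (n : ℕ) :
    ((n.descFactorial 4 : ℕ) : ℂ) = (n : ℂ) * (n - 1) * (n - 2) * (n - 3) := by
  rw [← descPochhammer_eval_eq_descFactorial ℂ n 4]
  simp [descPochhammer_succ_right]

variable {H : Type*} [Group H] (Ω : Type*) [Fintype Ω] [DecidableEq Ω] [MulAction H Ω]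

theorem ts_ne_one (g : H) : ts Ω g = 0 ∨ 2 ≤ ts Ω g := by
  by_cases h0 : ts Ω g = 0
  · exact Or.inl h0
  · right
    unfold ts at h0 ⊢
    have hpos : 0 < Fintype.card {a : Ω // g • a ≠ a ∧ g • g • a = a} := Nat.pos_of_ne_zero h0
    obtain ⟨a⟩ := Fintype.card_pos_iff.1 hpos
    have : 1 < Fintype.card {a : Ω // g • a ≠ a ∧ g • g • a = a} := by
      rw [Fintype.one_lt_card_iff]
      refine ⟨a, ⟨g • a.1, ts_smul a.2⟩, ?_⟩
      intro h
      exact a.2.1 (congrArg Subtype.val h).symm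
    exact this

theorem cast_ts_mul (g : H) :
    ((ts Ω g * (ts Ω g - 2) : ℕ) : ℂ) = (ts Ω g : ℂ) * ((ts Ω g : ℂ) - 2) := by
  rcases ts_ne_one Ω g with h | h
  · rw [h]; simp
  · rw [Nat.cast_mul, Nat.cast_sub h]
    simp

section moments

variable [Fintype H] [IsMultiplyPretransitive H Ω 4] (h4 : 4 ≤ Fintype.card Ω)

include h4

theorem pretrans_le (m : ℕ) (hm : m ≤ 4) : IsMultiplyPretransitive H Ω m :=
  isMultiplyPretransitive_of_le hm (by rw [Nat.card_eq_fintype_card]; exact h4)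

theorem moment1 : ∑ g : H, (fx Ω g : ℂ) = Fintype.card H := by
  have : IsMultiplyPretransitive H Ω 1 := pretrans_le Ω h4 1 (by norm_num)
  have h := sum_tw (H := H) Ω (m := 1) (by omega) 1
  rw [← h, Nat.cast_sum]
  refine Finset.sum_congr rfl fun g _ => ?_
  rw [tw_one]
  simp

theorem moment2 : ∑ g : H, (fx Ω g : ℂ) * (fx Ω g - 1) = Fintype.card H := by
  have : IsMultiplyPretransitive H Ω 2 := pretrans_le Ω h4 2 (by norm_num)
  have h := sum_tw (H := H) Ω (m := 2) (by omega) 1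
  rw [← h, Nat.cast_sum]
  refine Finset.sum_congr rfl fun g _ => ?_
  rw [tw_one, cast_descFactorial_two]

theorem moment3 : ∑ g : H, (fx Ω g : ℂ) * (fx Ω g - 1) * (fx Ω g - 2) = Fintype.card H := by
  have : IsMultiplyPretransitive H Ω 3 := pretrans_le Ω h4 3 (by norm_num)
  have h := sum_tw (H := H) Ω (m := 3) (by omega) 1
  rw [← h, Nat.cast_sum]
  refine Finset.sum_congr rfl fun g _ => ?_
  rw [tw_one, cast_descFactorial_three]

theorem moment4 :
    ∑ g : H, (fx Ω g : ℂ) * (fx Ω g - 1) * (fx Ω g - 2) * (fx Ω g - 3) = Fintype.card H := by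
  have h := sum_tw (H := H) Ω (m := 4) (by omega) 1
  rw [← h, Nat.cast_sum]
  refine Finset.sum_congr rfl fun g _ => ?_
  rw [tw_one, cast_descFactorial_four]

theorem moment5 : ∑ g : H, (ts Ω g : ℂ) = Fintype.card H := by
  have : IsMultiplyPretransitive H Ω 2 := pretrans_le Ω h4 2 (by norm_num)
  have h := sum_tw (H := H) Ω (m := 2) (by omega) (Equiv.swap 0 1)
  rw [← h, Nat.cast_sum]
  refine Finset.sum_congr rfl fun g _ => ?_
  rw [tw_swap2]

theorem moment6 : ∑ g : H, (ts Ω g : ℂ) * (fx Ω g : ℂ) = Fintype.card H := by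
  have : IsMultiplyPretransitive H Ω 3 := pretrans_le Ω h4 3 (by norm_num)
  have h := sum_tw (H := H) Ω (m := 3) (by omega) (Equiv.swap 0 1)
  rw [← h, Nat.cast_sum]
  refine Finset.sum_congr rfl fun g _ => ?_
  rw [tw_swap3, Nat.cast_mul]

theorem moment7 :
    ∑ g : H, (ts Ω g : ℂ) * ((fx Ω g : ℂ) * (fx Ω g - 1)) = Fintype.card H := by
  have h := sum_tw (H := H) Ω (m := 4) (by omega) (Equiv.swap 0 1)
  rw [← h, Nat.cast_sum]
  refine Finset.sum_congr rfl fun g _ => ?_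
  rw [tw_swap4, Nat.cast_mul, cast_descFactorial_two]

theorem moment8 :
    ∑ g : H, (ts Ω g : ℂ) * ((ts Ω g : ℂ) - 2) = Fintype.card H := by
  have h := sum_tw (H := H) Ω (m := 4) (by omega) (Equiv.swap 0 1 * Equiv.swap 2 3)
  rw [← h, Nat.cast_sum]
  refine Finset.sum_congr rfl fun g _ => ?_
  rw [tw_swap22, cast_ts_mul]

theorem sum_sq_A :
    ∑ g : H, (((fx Ω g : ℂ) * (fx Ω g - 3) + ts Ω g) ^ 2 : ℂ) = 4 * (Fintype.card H : ℂ) := by
  have e : ∀ g : H, ((fx Ω g : ℂ) * (fx Ω g - 3) + ts Ω g) ^ 2 =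
      (fx Ω g : ℂ) * (fx Ω g - 1) * (fx Ω g - 2) * (fx Ω g - 3)
      - 2 * ((fx Ω g : ℂ) * (fx Ω g - 1)) + 4 * (fx Ω g : ℂ)
      + 2 * ((ts Ω g : ℂ) * ((fx Ω g : ℂ) * (fx Ω g - 1)))
      - 4 * ((ts Ω g : ℂ) * (fx Ω g : ℂ)) + (ts Ω g : ℂ) * ((ts Ω g : ℂ) - 2)
      + 2 * (ts Ω g : ℂ) := fun g => by ring
  rw [Finset.sum_congr rfl fun g _ => e g]
  simp only [Finset.sum_add_distrib, Finset.sum_sub_distrib, ← Finset.mul_sum]
  rw [moment4 Ω h4, moment2 Ω h4, moment1 Ω h4, moment7 Ω h4, moment6 Ω h4, moment8 Ω h4,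
    moment5 Ω h4]
  ring

theorem sum_sq_B :
    ∑ g : H, ((((fx Ω g : ℂ) - 1) * (fx Ω g - 2) - ts Ω g) ^ 2 : ℂ) = 4 * (Fintype.card H : ℂ) := by
  have e : ∀ g : H, (((fx Ω g : ℂ) - 1) * (fx Ω g - 2) - ts Ω g) ^ 2 =
      (fx Ω g : ℂ) * (fx Ω g - 1) * (fx Ω g - 2) * (fx Ω g - 3)
      + 2 * ((fx Ω g : ℂ) * (fx Ω g - 1)) - 4 * (fx Ω g : ℂ)
      - 2 * ((ts Ω g : ℂ) * ((fx Ω g : ℂ) * (fx Ω g - 1)))
      + 4 * ((ts Ω g : ℂ) * (fx Ω g : ℂ)) + (ts Ω g : ℂ) * ((ts Ω g : ℂ) - 2)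
      - 2 * (ts Ω g : ℂ) + 4 := fun g => by ring
  rw [Finset.sum_congr rfl fun g _ => e g]
  simp only [Finset.sum_add_distrib, Finset.sum_sub_distrib, ← Finset.mul_sum]
  rw [moment4 Ω h4, moment2 Ω h4, moment1 Ω h4, moment7 Ω h4, moment6 Ω h4, moment8 Ω h4,
    moment5 Ω h4]
  simp only [Finset.sum_const, Finset.card_univ, nsmul_eq_mul]
  ring

end moments

end Cfsg.Agent.Lib.Helper8.AV
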