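import Mathlib
import Cfsg.Agent.Lib.Helper8.AV3

set_option autoImplicit false

/-!
# Fixed point counts on points, ordered pairs and 2-subsets
-/

namespace Cfsg.Agent.Lib.Helper8.AV

open MulAction

theorem card_two_to_one {X Y : Type*} [Fintype X] [Fintype Y] [DecidableEq X] [DecidableEq Y]
    (φ : X → Y) (hφ : Function.Surjective φ) (τ : X → X) (hτ : ∀ x, τ x ≠ x)
    (hfib : ∀ x x', φ x' = φ x ↔ x' = x ∨ x' = τ x) (P : Y → Prop) [DecidablePred P] :
    Fintype.card {x // P (φ x)} = 2 * Fintype.card {y // P y} := by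
  rw [Fintype.card_subtype, Fintype.card_subtype]
  rw [Finset.card_eq_sum_card_fiberwise (f := φ) (t := Finset.univ.filter P)
    (by intro x hx; simpa using hx)]
  rw [Finset.sum_const_nat (m := 2), mul_comm]
  intro y hy
  obtain ⟨x₀, rfl⟩ := hφ y
  have hP : P (φ x₀) := by simpa using hy
  have : (Finset.filter (fun x => φ x = φ x₀) (Finset.filter (fun x => P (φ x)) Finset.univ))
      = {x₀, τ x₀} := by
    ext x
    simp only [Finset.mem_filter, Finset.mem_univ, true_and, Finset.mem_insert,
      Finset.mem_singleton]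
    constructor
    · rintro ⟨_, h⟩
      exact (hfib x₀ x).1 h
    · intro h
      have h2 := (hfib x₀ x).2 h
      exact ⟨by rw [h2]; exact hP, h2⟩
  rw [this, Finset.card_pair (hτ x₀).symm]

variable {H : Type*} [Group H] (Ω : Type*) [Fintype Ω] [DecidableEq Ω] [MulAction H Ω]

theorem natCard_fixedBy (g : H) : Nat.card (fixedBy Ω g) = fx Ω g := by
  unfold fx
  rw [← Nat.card_eq_fintype_card]
  exact Nat.card_congr (Equiv.subtypeEquivRight fun a => mem_fixedBy)

theorem natCard_fixedBy_emb2 (g : H) :
    Nat.card (fixedBy (Fin 2 ↪ Ω) g) = (fx Ω g).descFactorial 2 := by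
  rw [← tw_one]
  unfold tw
  rw [← Nat.card_eq_fintype_card]
  refine Nat.card_congr (Equiv.subtypeEquivRight fun x => ?_)
  rw [mem_fixedBy, Function.Embedding.ext_iff]
  rfl

theorem fib_iff (x x' : Fin 2 ↪ Ω) :
    Set.powersetCard.mulActionHom_of_embedding H Ω 2 x' =
      Set.powersetCard.mulActionHom_of_embedding H Ω 2 x ↔
    x' = x ∨ x' = (Equiv.swap (0 : Fin 2) 1).toEmbedding.trans x := by
  have e0 : Equiv.swap (0 : Fin 2) 1 0 = 1 := by decide
  have e1 : Equiv.swap (0 : Fin 2) 1 1 = 0 := by decide
  have hu : ∀ y : Fin 2 ↪ Ω, (Finset.univ.map y : Finset Ω) = {y 0, y 1} := by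
    intro y
    ext a
    simp only [Finset.mem_map, Finset.mem_univ, true_and, Finset.mem_insert,
      Finset.mem_singleton, Fin.exists_fin_two]
    constructor
    · rintro (h | h)
      · exact Or.inl h.symm
      · exact Or.inr h.symm
    · rintro (h | h)
      · exact Or.inl h.symm
      · exact Or.inr h.symm
  have hval : ∀ y : Fin 2 ↪ Ω,
      ((Set.powersetCard.mulActionHom_of_embedding H Ω 2 y : Set.powersetCard Ω 2) : Finset Ω)
        = {y 0, y 1} := by
    intro y
    rw [← hu y]
    rfl
  rw [← Subtype.coe_inj, hval, hval]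
  constructor
  · intro h
    have h0 : x' 0 ∈ ({x 0, x 1} : Finset Ω) := by rw [← h]; simp
    have h1 : x' 1 ∈ ({x 0, x 1} : Finset Ω) := by rw [← h]; simp
    have hne : x' 0 ≠ x' 1 := fun h => absurd (x'.injective h) (by decide)
    simp only [Finset.mem_insert, Finset.mem_singleton] at h0 h1
    rcases h0 with h0 | h0
    · left
      rcases h1 with h1 | h1
      · exact absurd (h0.trans h1.symm) hne
      · ext i
        fin_cases i
        · exact h0
        · exact h1
    · right
      rcases h1 with h1 | h1
      · ext i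
        fin_cases i
        · simpa [e0] using h0
        · simpa [e1] using h1
      · exact absurd (h0.trans h1.symm) hne
  · rintro (h | h)
    · rw [h]
    · rw [h]
      simp only [Function.Embedding.trans_apply, Equiv.coe_toEmbedding, e0, e1]
      exact Finset.pair_comm _ _

theorem two_mul_natCard_fixedBy_pc2 (g : H) :
    2 * Nat.card (fixedBy (Set.powersetCard Ω 2) g) = (fx Ω g).descFactorial 2 + ts Ω g := by
  classical
  have h1 : Nat.card (fixedBy (Set.powersetCard Ω 2) g) =
      Fintype.card {S : Set.powersetCard Ω 2 // g • S = S} := by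
    rw [← Nat.card_eq_fintype_card]
    exact Nat.card_congr (Equiv.subtypeEquivRight fun a => mem_fixedBy)
  rw [h1]
  have h2 := card_two_to_one (Set.powersetCard.mulActionHom_of_embedding H Ω 2)
    (Set.powersetCard.mulActionHom_of_embedding_surjective H Ω)
    (fun x => (Equiv.swap (0 : Fin 2) 1).toEmbedding.trans x)
    (by
      intro x h
      have := congrArg (fun y : Fin 2 ↪ Ω => y 0) h
      simp only [Function.Embedding.trans_apply, Equiv.coe_toEmbedding] at this
      exact absurd (x.injective this) (by decide))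
    (fib_iff Ω) (fun S => g • S = S)
  rw [← h2, ← tw_one, ← tw_swap2]
  unfold tw
  rw [← Fintype.card_subtype_or_disjoint]
  · refine Fintype.card_congr (Equiv.subtypeEquivRight fun x => ?_)
    rw [← map_smul, fib_iff, Function.Embedding.ext_iff, Function.Embedding.ext_iff]
    rfl
  · rw [Pi.disjoint_iff]
    intro x
    simp only [Prop.disjoint_iff]
    rintro ⟨ha, hb⟩
    have h0 := (ha 0).symm.trans (hb 0)
    exact absurd (x.injective h0) (by decide)

end Cfsg.Agent.Lib.Helper8.AV
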