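import Mathlib
import Cfsg.Prelude.Def_Characters
import Cfsg.Agent.Lib.Helper8.AV4
import Cfsg.Agent.Lib.Helper8.AV5
import Cfsg.Agent.Lib.Helper2.PermChar4
import Cfsg.Agent.Lib.Helper2.Exceptional

set_option autoImplicit false

/-!
# Two irreducible characters of a 4-transitive group
-/

namespace Cfsg.Agent.Lib.Helper8.AV

open MulAction
open scoped ComplexConjugate

theorem irr_of_norm_one_of_real_pos {G : Type*} [Group G] [Fintype G] {x : G → ℂ}
    (hx : Cfsg.IsGeneralizedCharacter G x)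
    (h1 : Cfsg.classInner x x = 1) {r : ℝ} (hr : 0 < r) (hx1 : x 1 = (r : ℂ)) :
    Cfsg.IsIrrCharacter G x := by
  obtain ⟨φ, hφ, hor⟩ := Cfsg.Agent.Lib.Helper4.genChar_norm_one hx h1
  rcases hor with h | h
  · rw [h]; exact hφ
  · exfalso
    obtain ⟨m, hm, hφ1⟩ := Cfsg.Agent.Lib.Helper4.irr_apply_one_pos hφ
    rw [h, Pi.neg_apply, hφ1] at hx1
    have h2 := congrArg Complex.re hx1
    simp only [Complex.neg_re, Complex.natCast_re, Complex.ofReal_re] at h2
    have : (0 : ℝ) < m := by exact_mod_cast hm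
    linarith

variable {H : Type*} [Group H] (Ω : Type*) [Fintype Ω] [DecidableEq Ω] [MulAction H Ω]

/-- the character labelled by the partition `(n-2,2)` -/
noncomputable def chiA (g : H) : ℂ := ((fx Ω g : ℂ) * (fx Ω g - 3) + ts Ω g) / 2

/-- the character labelled by the partition `(n-2,1,1)` -/
noncomputable def chiB (g : H) : ℂ := (((fx Ω g : ℂ) - 1) * (fx Ω g - 2) - ts Ω g) / 2

theorem fx_one : fx Ω (1 : H) = Fintype.card Ω := by
  unfold fx
  exact Fintype.card_congr (Equiv.subtypeUnivEquiv (fun a => one_smul H a))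

theorem ts_one : ts Ω (1 : H) = 0 := by
  unfold ts
  rw [Fintype.card_eq_zero_iff]
  exact ⟨fun a => a.2.1 (one_smul H a.1)⟩

section main

variable [Fintype H] [IsMultiplyPretransitive H Ω 4] (h4 : 4 ≤ Fintype.card Ω)

include h4

theorem isCharacter_pi1 :
    Cfsg.IsCharacter H (fun g : H => ((fx Ω g : ℕ) : ℂ)) := by
  have h1 : IsMultiplyPretransitive H Ω 1 := pretrans_le Ω h4 1 (by norm_num)
  have : IsPretransitive H Ω := is_one_pretransitive_iff.1 h1
  have hne : Nonempty Ω := Fintype.card_pos_iff.1 (by omega)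
  obtain ⟨a⟩ := hne
  have h := Cfsg.Agent.Lib.Helper2.PermChar.isCharacter_permChar (G := H) a
  have e : (fun g : H => ((fx Ω g : ℕ) : ℂ)) =
      fun g : H => (Nat.card (MulAction.fixedBy Ω g) : ℂ) := by
    funext g
    rw [natCard_fixedBy]
  rw [e]
  exact h

theorem isCharacter_pi11 :
    Cfsg.IsCharacter H (fun g : H => (((fx Ω g).descFactorial 2 : ℕ) : ℂ)) := by
  have h2 : IsMultiplyPretransitive H Ω 2 := pretrans_le Ω h4 2 (by norm_num)
  have : IsPretransitive H (Fin 2 ↪ Ω) := h2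
  have hne : Nonempty (Fin 2 ↪ Ω) :=
    Function.Embedding.nonempty_of_card_le (by simp only [Fintype.card_fin]; omega)
  obtain ⟨a⟩ := hne
  have h := Cfsg.Agent.Lib.Helper2.PermChar.isCharacter_permChar (G := H) a
  have e : (fun g : H => (((fx Ω g).descFactorial 2 : ℕ) : ℂ)) =
      fun g : H => (Nat.card (MulAction.fixedBy (Fin 2 ↪ Ω) g) : ℂ) := by
    funext g
    rw [natCard_fixedBy_emb2]
  rw [e]
  exact h

theorem isCharacter_pi2 :
    Cfsg.IsCharacter H (fun g : H => (((fx Ω g).descFactorial 2 + ts Ω g : ℕ) : ℂ) / 2) := by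
  have h2 : IsMultiplyPretransitive H Ω 2 := pretrans_le Ω h4 2 (by norm_num)
  have : IsPretransitive H (Set.powersetCard Ω 2) :=
    Set.powersetCard.isPretransitive_of_isMultiplyPretransitive H h2
  have hne : Nonempty (Fin 2 ↪ Ω) :=
    Function.Embedding.nonempty_of_card_le (by simp only [Fintype.card_fin]; omega)
  obtain ⟨a⟩ := hne
  have h := Cfsg.Agent.Lib.Helper2.PermChar.isCharacter_permChar (G := H)
    (Set.powersetCard.mulActionHom_of_embedding H Ω 2 a)
  have e : (fun g : H => (((fx Ω g).descFactorial 2 + ts Ω g : ℕ) : ℂ) / 2) =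
      fun g : H => (Nat.card (MulAction.fixedBy (Set.powersetCard Ω 2) g) : ℂ) := by
    funext g
    rw [← two_mul_natCard_fixedBy_pc2]
    push_cast
    ring
  rw [e]
  exact h

theorem chiA_eq : chiA (H := H) Ω =
    (fun g : H => (((fx Ω g).descFactorial 2 + ts Ω g : ℕ) : ℂ) / 2) -
      (fun g : H => ((fx Ω g : ℕ) : ℂ)) := by
  funext g
  simp only [Pi.sub_apply]
  unfold chiA
  rw [Nat.cast_add, cast_descFactorial_two]
  ring

theorem chiB_eq : chiB (H := H) Ω =
    ((fun g : H => (((fx Ω g).descFactorial 2 : ℕ) : ℂ)) + (fun _ => (1 : ℂ))) -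
    ((fun g : H => (((fx Ω g).descFactorial 2 + ts Ω g : ℕ) : ℂ) / 2) +
      (fun g : H => ((fx Ω g : ℕ) : ℂ))) := by
  funext g
  simp only [Pi.sub_apply, Pi.add_apply]
  unfold chiB
  rw [Nat.cast_add, cast_descFactorial_two]
  ring

theorem isGenChar_chiA : Cfsg.IsGeneralizedCharacter H (chiA (H := H) Ω) :=
  ⟨_, _, isCharacter_pi2 Ω h4, isCharacter_pi1 Ω h4, chiA_eq Ω h4⟩

theorem isGenChar_chiB : Cfsg.IsGeneralizedCharacter H (chiB (H := H) Ω) :=
  ⟨_, _, Cfsg.Agent.Lib.Helper1.isCharacter_add (isCharacter_pi11 Ω h4)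
      Cfsg.Agent.Lib.Helper5.PermChar.isCharacter_one,
    Cfsg.Agent.Lib.Helper1.isCharacter_add (isCharacter_pi2 Ω h4) (isCharacter_pi1 Ω h4),
    chiB_eq Ω h4⟩

theorem norm_chiA : Cfsg.classInner (chiA (H := H) Ω) (chiA (H := H) Ω) = 1 := by
  unfold Cfsg.classInner
  have hc : ∀ g : H, chiA Ω g * conj (chiA Ω g) =
      (((fx Ω g : ℂ) * (fx Ω g - 3) + ts Ω g) ^ 2 : ℂ) / 4 := by
    intro g
    unfold chiA
    simp only [map_div₀, map_add, map_mul, map_sub, Complex.conj_natCast, map_ofNat]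
    ring
  rw [Finset.sum_congr rfl fun g _ => hc g, ← Finset.sum_div, sum_sq_A Ω h4,
    Nat.card_eq_fintype_card]
  have : (Fintype.card H : ℂ) ≠ 0 := Nat.cast_ne_zero.2 Fintype.card_ne_zero
  field_simp

theorem norm_chiB : Cfsg.classInner (chiB (H := H) Ω) (chiB (H := H) Ω) = 1 := by
  unfold Cfsg.classInner
  have hc : ∀ g : H, chiB Ω g * conj (chiB Ω g) =
      ((((fx Ω g : ℂ) - 1) * (fx Ω g - 2) - ts Ω g) ^ 2 : ℂ) / 4 := by
    intro g
    unfold chiB
    simp only [map_div₀, map_add, map_mul, map_sub, Complex.conj_natCast, map_ofNat, map_one]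
    ring
  rw [Finset.sum_congr rfl fun g _ => hc g, ← Finset.sum_div, sum_sq_B Ω h4,
    Nat.card_eq_fintype_card]
  have : (Fintype.card H : ℂ) ≠ 0 := Nat.cast_ne_zero.2 Fintype.card_ne_zero
  field_simp

theorem isIrr_chiA : Cfsg.IsIrrCharacter H (chiA (H := H) Ω) := by
  have hN : (4 : ℝ) ≤ (Fintype.card Ω : ℝ) := by exact_mod_cast h4
  refine irr_of_norm_one_of_real_pos (isGenChar_chiA Ω h4) (norm_chiA Ω h4)
    (r := ((Fintype.card Ω : ℝ) * ((Fintype.card Ω : ℝ) - 3)) / 2) ?_ ?_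
  · have : (0 : ℝ) < (Fintype.card Ω : ℝ) - 3 := by linarith
    have h0 : (0 : ℝ) < (Fintype.card Ω : ℝ) := by linarith
    positivity
  · unfold chiA
    rw [fx_one, ts_one]
    push_cast
    ring

theorem isIrr_chiB : Cfsg.IsIrrCharacter H (chiB (H := H) Ω) := by
  have hN : (4 : ℝ) ≤ (Fintype.card Ω : ℝ) := by exact_mod_cast h4
  refine irr_of_norm_one_of_real_pos (isGenChar_chiB Ω h4) (norm_chiB Ω h4)
    (r := (((Fintype.card Ω : ℝ) - 1) * ((Fintype.card Ω : ℝ) - 2)) / 2) ?_ ?_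
  · have : (0 : ℝ) < (Fintype.card Ω : ℝ) - 1 := by linarith
    have h0 : (0 : ℝ) < (Fintype.card Ω : ℝ) - 2 := by linarith
    positivity
  · unfold chiB
    rw [fx_one, ts_one]
    push_cast
    ring

end main

end Cfsg.Agent.Lib.Helper8.AV
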