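import Mathlib
import Cfsg.Agent.Lib.Helper8.AV1

set_option autoImplicit false

/-!
# Fixed point counts of block permutations
-/

namespace Cfsg.Agent.Lib.Helper8.AV

open MulAction

section general

variable {H : Type*} [Group H] (Ω : Type*) [Fintype Ω] [DecidableEq Ω] [MulAction H Ω]

theorem fx_mul_self (g : H) : fx Ω (g * g) = fx Ω g + ts Ω g := by
  unfold fx ts
  rw [← Fintype.card_subtype_or_disjoint]
  · refine Fintype.card_congr (Equiv.subtypeEquivRight fun a => ?_)
    rw [mul_smul]
    constructor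
    · intro h
      by_cases h1 : g • a = a
      · exact Or.inl h1
      · exact Or.inr ⟨h1, h⟩
    · rintro (h | h)
      · rw [h, h]
      · exact h.2
  · rw [Pi.disjoint_iff]
    intro x
    simp only [Prop.disjoint_iff]
    rintro ⟨ha, hb⟩
    exact hb.1 ha

theorem fx_eq_sum (g : H) : fx Ω g = ∑ a : Ω, if g • a = a then 1 else 0 := by
  unfold fx
  rw [Fintype.card_subtype, Finset.card_filter]

end general

section perms

variable {α β κ : Type*} [Fintype α] [DecidableEq α] [Fintype β] [DecidableEq β]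
  [Fintype κ] [DecidableEq κ]

theorem fx_sumCongr (σ : Equiv.Perm α) (τ : Equiv.Perm β) :
    fx (α ⊕ β) (Equiv.Perm.sumCongr σ τ) = fx α σ + fx β τ := by
  rw [fx_eq_sum, fx_eq_sum, fx_eq_sum, Fintype.sum_sum_type]
  congr 1
  · refine Finset.sum_congr rfl fun a _ => ?_
    refine if_congr ?_ rfl rfl
    simp [Equiv.Perm.smul_def]
  · refine Finset.sum_congr rfl fun a _ => ?_
    refine if_congr ?_ rfl rfl
    simp [Equiv.Perm.smul_def]

theorem fx_prodCongrRight (c : Equiv.Perm β) :
    fx (κ × β) (Equiv.prodCongrRight (fun _ : κ => c) : Equiv.Perm (κ × β))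
      = Fintype.card κ * fx β c := by
  rw [fx_eq_sum, Fintype.sum_prod_type]
  have h : ∀ x : κ, (∑ y : β, if (Equiv.prodCongrRight (fun _ : κ => c) : Equiv.Perm (κ × β)) •
      (x, y) = (x, y) then 1 else 0) = fx β c := by
    intro x
    rw [fx_eq_sum]
    refine Finset.sum_congr rfl fun a _ => ?_
    refine if_congr ?_ rfl rfl
    simp [Equiv.Perm.smul_def]
  rw [Finset.sum_congr rfl fun x _ => h x, Finset.sum_const, Finset.card_univ, smul_eq_mul]

theorem fx_permCongr (e : α ≃ β) (σ : Equiv.Perm α) :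
    fx β (e.permCongr σ) = fx α σ := by
  unfold fx
  refine Fintype.card_congr ?_
  refine (Equiv.subtypeEquiv e ?_).symm
  intro a
  simp [Equiv.Perm.smul_def, Equiv.permCongr_apply]

theorem fx_refl : fx α (1 : Equiv.Perm α) = Fintype.card α := by
  unfold fx
  exact Fintype.card_congr (Equiv.subtypeUnivEquiv (fun a => one_smul _ a))

end perms

section builder

variable {n k m a b : ℕ} (e : Fin n ≃ (Fin k × Fin m) ⊕ (Fin a ⊕ Fin b))

/-- `k` copies of `c`, one copy of `t`, and `b` fixed points -/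
def blockPerm (c : Equiv.Perm (Fin m)) (t : Equiv.Perm (Fin a)) : Equiv.Perm (Fin n) :=
  e.symm.permCongr (Equiv.Perm.sumCongr (Equiv.prodCongrRight (fun _ : Fin k => c))
    (Equiv.Perm.sumCongr t (1 : Equiv.Perm (Fin b))))

theorem blockPerm_mul (c c' : Equiv.Perm (Fin m)) (t t' : Equiv.Perm (Fin a)) :
    blockPerm e c t * blockPerm e c' t' = blockPerm e (c * c') (t * t') := by
  unfold blockPerm
  ext x
  simp only [Equiv.Perm.coe_mul, Function.comp_apply, Equiv.permCongr_apply, Equiv.symm_symm,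
    Equiv.apply_symm_apply]
  rcases e x with ⟨i, j⟩ | u | v <;> simp

theorem blockPerm_one : blockPerm e (1 : Equiv.Perm (Fin m)) (1 : Equiv.Perm (Fin a)) = 1 := by
  unfold blockPerm
  have h : (Equiv.prodCongrRight (fun _ : Fin k => (1 : Equiv.Perm (Fin m)))) =
      (1 : Equiv.Perm (Fin k × Fin m)) := by
    ext x <;> simp
  rw [h, Equiv.Perm.sumCongr_one, Equiv.Perm.sumCongr_one]
  ext x
  simp

theorem blockPerm_pow (c : Equiv.Perm (Fin m)) (t : Equiv.Perm (Fin a)) (j : ℕ) :
    blockPerm e c t ^ j = blockPerm e (c ^ j) (t ^ j) := by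
  induction j with
  | zero => simp [blockPerm_one]
  | succ j ih => rw [pow_succ, ih, blockPerm_mul, pow_succ, pow_succ]

theorem fx_blockPerm (c : Equiv.Perm (Fin m)) (t : Equiv.Perm (Fin a)) :
    fx (Fin n) (blockPerm e c t) = k * fx (Fin m) c + (fx (Fin a) t + b) := by
  unfold blockPerm
  rw [fx_permCongr, fx_sumCongr, fx_sumCongr, fx_prodCongrRight, fx_refl, Fintype.card_fin,
    Fintype.card_fin]

theorem sign_blockPerm (c : Equiv.Perm (Fin m)) (t : Equiv.Perm (Fin a)) :
    Equiv.Perm.sign (blockPerm e c t) = Equiv.Perm.sign c ^ k * Equiv.Perm.sign t := by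
  unfold blockPerm
  rw [Equiv.Perm.sign_permCongr, Equiv.Perm.sign_sumCongr, Equiv.Perm.sign_sumCongr,
    Equiv.Perm.sign_prodCongrRight, Finset.prod_const, Finset.card_univ, Fintype.card_fin,
    Equiv.Perm.sign_one, mul_one]

end builder

/-- the block decomposition of `Fin n` -/
noncomputable def blockEquiv {n k m a b : ℕ} (h : n = k * m + (a + b)) :
    Fin n ≃ (Fin k × Fin m) ⊕ (Fin a ⊕ Fin b) :=
  Fintype.equivOfCardEq (by
    simp only [Fintype.card_sum, Fintype.card_prod, Fintype.card_fin]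
    exact h)

end Cfsg.Agent.Lib.Helper8.AV
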