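import Mathlib
import Cfsg.Prelude.Def_Characters
import Cfsg.Agent.Lib.Helper8.AV6
import Cfsg.Agent.Lib.Helper8.AV7

set_option autoImplicit false

/-!
# Elements of 2-power order and of order 3 in the alternating group at which a character vanishes
-/

namespace Cfsg.Agent.Lib.Helper8.AV

theorem fx_rot4 : fx (Fin 4) (finRotate 4) = 0 := by decide
theorem fx_rot4_sq : fx (Fin 4) (finRotate 4 * finRotate 4) = 0 := by decide
theorem rot4_pow : (finRotate 4) ^ 8 = 1 := by decide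
theorem fx_rot8 : fx (Fin 8) (finRotate 8) = 0 := by decide
theorem fx_rot8_sq : fx (Fin 8) (finRotate 8 * finRotate 8) = 0 := by decide
theorem rot8_pow : (finRotate 8) ^ 8 = 1 := by decide
theorem fx_rot2 : fx (Fin 2) (finRotate 2) = 0 := by decide
theorem fx_rot2_sq : fx (Fin 2) (finRotate 2 * finRotate 2) = 2 := by decide
theorem rot2_pow : (finRotate 2) ^ 8 = 1 := by decide
theorem fx_rot3 : fx (Fin 3) (finRotate 3) = 0 := by decide
theorem fx_rot3_sq : fx (Fin 3) (finRotate 3 * finRotate 3) = 0 := by decide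
theorem rot3_pow : (finRotate 3) ^ 3 = 1 := by decide
theorem fx_fin0 : fx (Fin 0) (1 : Equiv.Perm (Fin 0)) = 0 := by decide

theorem exists_blockPerm_data {n k m a b : ℕ} (h : n = k * m + (a + b)) (c : Equiv.Perm (Fin m))
    (t : Equiv.Perm (Fin a)) (j : ℕ) (hc : c ^ j = 1) (ht : t ^ j = 1) :
    ∃ x : Equiv.Perm (Fin n), fx (Fin n) x = k * fx (Fin m) c + (fx (Fin a) t + b) ∧
      fx (Fin n) (x * x) = k * fx (Fin m) (c * c) + (fx (Fin a) (t * t) + b) ∧
      Equiv.Perm.sign x = Equiv.Perm.sign c ^ k * Equiv.Perm.sign t ∧ x ^ j = 1 := by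
  refine ⟨blockPerm (blockEquiv h) c t, fx_blockPerm _ c t, ?_, sign_blockPerm _ c t, ?_⟩
  · rw [blockPerm_mul, fx_blockPerm]
  · rw [blockPerm_pow, hc, ht, blockPerm_one]

theorem chi_of_fx {n : ℕ} (x : Equiv.Perm (Fin n)) {f f2 : ℕ} (hf : fx (Fin n) x = f)
    (hf2 : fx (Fin n) (x * x) = f2) :
    chiA (Fin n) x = ((f : ℂ) * (f - 3) + (f2 - f)) / 2 ∧
    chiB (Fin n) x = (((f : ℂ) - 1) * (f - 2) - (f2 - f)) / 2 := by
  have h := fx_mul_self (Fin n) x
  rw [hf, hf2] at h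
  have hts : (ts (Fin n) x : ℂ) = (f2 : ℂ) - f := by
    rw [h]
    push_cast
    ring
  unfold chiA chiB
  rw [hf, hts]
  exact ⟨rfl, rfl⟩

/-- an even permutation of 2-power order at which one of the two characters vanishes -/
theorem exists_two_elt (n : ℕ) (hn : 7 ≤ n) :
    ∃ x : Equiv.Perm (Fin n), Equiv.Perm.sign x = 1 ∧ x ^ 8 = 1 ∧
      (chiA (Fin n) x = 0 ∨ chiB (Fin n) x = 0) := by
  have hs4 : Equiv.Perm.sign (finRotate 4) = -1 := by rw [sign_finRotate]; rfl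
  have hs8 : Equiv.Perm.sign (finRotate 8) = -1 := by rw [sign_finRotate]; rfl
  have hs2 : Equiv.Perm.sign (finRotate 2) = -1 := by rw [sign_finRotate]; rfl
  have h10 : ((1 : Equiv.Perm (Fin 0)) ^ 8) = 1 := one_pow 8
  have hmod : n % 8 < 8 := Nat.mod_lt _ (by norm_num)
  have hdiv := Nat.div_add_mod n 8
  set q := n / 8 with hq
  have heven : ∀ k : ℕ, Even k → ((-1 : ℤˣ)) ^ k = 1 := fun k hk => hk.neg_one_pow
  have hodd : ∀ k : ℕ, Odd k → ((-1 : ℤˣ)) ^ k = -1 := fun k hk => hk.neg_one_pow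
  rcases (by omega : n % 8 = 0 ∨ n % 8 = 1 ∨ n % 8 = 2 ∨ n % 8 = 3 ∨ n % 8 = 4 ∨ n % 8 = 5 ∨
      n % 8 = 6 ∨ n % 8 = 7) with h | h | h | h | h | h | h | h
  · obtain ⟨x, hf, hf2, hs, hp⟩ := exists_blockPerm_data (n := n) (k := 2 * q) (m := 4) (a := 0)
      (b := 0) (by omega) (finRotate 4) 1 8 rot4_pow h10
    rw [fx_rot4, fx_fin0] at hf
    rw [fx_rot4_sq, mul_one, fx_fin0] at hf2
    refine ⟨x, ?_, hp, Or.inl ?_⟩
    · rw [hs, hs4, heven _ (even_two_mul q), Equiv.Perm.sign_one, mul_one]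
    · rw [(chi_of_fx x hf hf2).1]
      norm_num
  · obtain ⟨x, hf, hf2, hs, hp⟩ := exists_blockPerm_data (n := n) (k := 2 * q) (m := 4) (a := 0)
      (b := 1) (by omega) (finRotate 4) 1 8 rot4_pow h10
    rw [fx_rot4, fx_fin0] at hf
    rw [fx_rot4_sq, mul_one, fx_fin0] at hf2
    refine ⟨x, ?_, hp, Or.inr ?_⟩
    · rw [hs, hs4, heven _ (even_two_mul q), Equiv.Perm.sign_one, mul_one]
    · rw [(chi_of_fx x hf hf2).2]
      norm_num
  · obtain ⟨x, hf, hf2, hs, hp⟩ := exists_blockPerm_data (n := n) (k := 2 * q) (m := 4) (a := 0)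
      (b := 2) (by omega) (finRotate 4) 1 8 rot4_pow h10
    rw [fx_rot4, fx_fin0] at hf
    rw [fx_rot4_sq, mul_one, fx_fin0] at hf2
    refine ⟨x, ?_, hp, Or.inr ?_⟩
    · rw [hs, hs4, heven _ (even_two_mul q), Equiv.Perm.sign_one, mul_one]
    · rw [(chi_of_fx x hf hf2).2]
      norm_num
  · obtain ⟨x, hf, hf2, hs, hp⟩ := exists_blockPerm_data (n := n) (k := 2 * q) (m := 4) (a := 0)
      (b := 3) (by omega) (finRotate 4) 1 8 rot4_pow h10
    rw [fx_rot4, fx_fin0] at hf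
    rw [fx_rot4_sq, mul_one, fx_fin0] at hf2
    refine ⟨x, ?_, hp, Or.inl ?_⟩
    · rw [hs, hs4, heven _ (even_two_mul q), Equiv.Perm.sign_one, mul_one]
    · rw [(chi_of_fx x hf hf2).1]
      norm_num
  · obtain ⟨q', hq'⟩ : ∃ q', q = q' + 1 := ⟨q - 1, by omega⟩
    obtain ⟨x, hf, hf2, hs, hp⟩ := exists_blockPerm_data (n := n) (k := 2 * q' + 1) (m := 4)
      (a := 8) (b := 0) (by omega) (finRotate 4) (finRotate 8) 8 rot4_pow rot8_pow
    rw [fx_rot4, fx_rot8] at hf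
    rw [fx_rot4_sq, fx_rot8_sq] at hf2
    refine ⟨x, ?_, hp, Or.inl ?_⟩
    · rw [hs, hs4, hs8, hodd _ (odd_two_mul_add_one q')]
      rfl
    · rw [(chi_of_fx x hf hf2).1]
      norm_num
  · obtain ⟨q', hq'⟩ : ∃ q', q = q' + 1 := ⟨q - 1, by omega⟩
    obtain ⟨x, hf, hf2, hs, hp⟩ := exists_blockPerm_data (n := n) (k := 2 * q' + 1) (m := 4)
      (a := 8) (b := 1) (by omega) (finRotate 4) (finRotate 8) 8 rot4_pow rot8_pow
    rw [fx_rot4, fx_rot8] at hf
    rw [fx_rot4_sq, fx_rot8_sq] at hf2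
    refine ⟨x, ?_, hp, Or.inr ?_⟩
    · rw [hs, hs4, hs8, hodd _ (odd_two_mul_add_one q')]
      rfl
    · rw [(chi_of_fx x hf hf2).2]
      norm_num
  · obtain ⟨x, hf, hf2, hs, hp⟩ := exists_blockPerm_data (n := n) (k := 2 * q + 1) (m := 4)
      (a := 2) (b := 0) (by omega) (finRotate 4) (finRotate 2) 8 rot4_pow rot2_pow
    rw [fx_rot4, fx_rot2] at hf
    rw [fx_rot4_sq, fx_rot2_sq] at hf2
    refine ⟨x, ?_, hp, Or.inr ?_⟩
    · rw [hs, hs4, hs2, hodd _ (odd_two_mul_add_one q)]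
      rfl
    · rw [(chi_of_fx x hf hf2).2]
      norm_num
  · obtain ⟨x, hf, hf2, hs, hp⟩ := exists_blockPerm_data (n := n) (k := 2 * q + 1) (m := 4)
      (a := 2) (b := 1) (by omega) (finRotate 4) (finRotate 2) 8 rot4_pow rot2_pow
    rw [fx_rot4, fx_rot2] at hf
    rw [fx_rot4_sq, fx_rot2_sq] at hf2
    refine ⟨x, ?_, hp, Or.inl ?_⟩
    · rw [hs, hs4, hs2, hodd _ (odd_two_mul_add_one q)]
      rfl
    · rw [(chi_of_fx x hf hf2).1]
      norm_num

/-- an even permutation of order 3 at which one of the two characters vanishes -/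
theorem exists_three_elt (n : ℕ) (hn : 7 ≤ n) :
    ∃ x : Equiv.Perm (Fin n), Equiv.Perm.sign x = 1 ∧ orderOf x = 3 ∧
      (chiA (Fin n) x = 0 ∨ chiB (Fin n) x = 0) := by
  have hs3 : Equiv.Perm.sign (finRotate 3) = 1 := by rw [sign_finRotate]; rfl
  have h10 : ((1 : Equiv.Perm (Fin 0)) ^ 3) = 1 := one_pow 3
  have hmod : n % 3 < 3 := Nat.mod_lt _ (by norm_num)
  have hdiv := Nat.div_add_mod n 3
  obtain ⟨x, hf, hf2, hs, hp⟩ := exists_blockPerm_data (n := n) (k := n / 3) (m := 3)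
    (a := 0) (b := n % 3) (by omega) (finRotate 3) 1 3 rot3_pow h10
  rw [fx_rot3, fx_fin0] at hf
  rw [fx_rot3_sq, mul_one, fx_fin0] at hf2
  simp only [mul_zero, zero_add] at hf hf2
  have hx1 : x ≠ 1 := by
    intro h1
    rw [h1, fx_refl, Fintype.card_fin] at hf
    omega
  haveI : Fact (Nat.Prime 3) := ⟨Nat.prime_three⟩
  refine ⟨x, ?_, orderOf_eq_prime hp hx1, ?_⟩
  · rw [hs, hs3, one_pow, Equiv.Perm.sign_one, mul_one]
  · rcases (by omega : n % 3 = 0 ∨ n % 3 = 1 ∨ n % 3 = 2) with h | h | h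
    · left
      rw [(chi_of_fx x hf hf2).1, h]
      norm_num
    · right
      rw [(chi_of_fx x hf hf2).2, h]
      norm_num
    · right
      rw [(chi_of_fx x hf hf2).2, h]
      norm_num

end Cfsg.Agent.Lib.Helper8.AV
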