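import Mathlib
import Cfsg.Prelude.Def_Characters
import Cfsg.Agent.Lib.Helper8.AV8

set_option autoImplicit false

/-!
# Characters of the alternating group restricted from the symmetric group
-/

namespace Cfsg.Agent.Lib.Helper8.AV

theorem chiA_coe {n : ℕ} (y : alternatingGroup (Fin n)) :
    chiA (H := Equiv.Perm (Fin n)) (Fin n) (y : Equiv.Perm (Fin n)) =
      chiA (H := alternatingGroup (Fin n)) (Fin n) y := rfl

theorem chiB_coe {n : ℕ} (y : alternatingGroup (Fin n)) :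
    chiB (H := Equiv.Perm (Fin n)) (Fin n) (y : Equiv.Perm (Fin n)) =
      chiB (H := alternatingGroup (Fin n)) (Fin n) y := rfl

theorem exists_restricted (n : ℕ) (hn : 7 ≤ n) (P : alternatingGroup (Fin n) → Prop)
    (x₀ : alternatingGroup (Fin n)) (hP : P x₀)
    (h0 : chiA (H := Equiv.Perm (Fin n)) (Fin n) (x₀ : Equiv.Perm (Fin n)) = 0 ∨
      chiB (H := Equiv.Perm (Fin n)) (Fin n) (x₀ : Equiv.Perm (Fin n)) = 0) :
    ∃ χ : Cfsg.IrrCharacter (alternatingGroup (Fin n)),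
      (∃ x : alternatingGroup (Fin n), P x ∧ (χ : alternatingGroup (Fin n) → ℂ) x = 0) ∧
      ∃ ψ : Cfsg.IrrCharacter (Equiv.Perm (Fin n)), ∀ x : alternatingGroup (Fin n),
        (ψ : Equiv.Perm (Fin n) → ℂ) x = (χ : alternatingGroup (Fin n) → ℂ) x := by
  have hcard : 4 ≤ Fintype.card (Fin n) := by rw [Fintype.card_fin]; omega
  haveI hS : MulAction.IsMultiplyPretransitive (Equiv.Perm (Fin n)) (Fin n) 4 :=
    Equiv.Perm.isMultiplyPretransitive (Fin n) 4
  haveI hA : MulAction.IsMultiplyPretransitive (alternatingGroup (Fin n)) (Fin n) 4 := by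
    haveI := alternatingGroup.isMultiplyPretransitive (Fin n)
    exact MulAction.isMultiplyPretransitive_of_le (n := Nat.card (Fin n) - 2)
      (by rw [Nat.card_eq_fintype_card, Fintype.card_fin]; omega) (Nat.sub_le _ _)
  rcases h0 with h0 | h0
  · refine ⟨⟨chiA (H := alternatingGroup (Fin n)) (Fin n), isIrr_chiA (Fin n) hcard⟩,
      ⟨x₀, hP, ?_⟩, ⟨chiA (H := Equiv.Perm (Fin n)) (Fin n), isIrr_chiA (Fin n) hcard⟩, ?_⟩
    · exact (chiA_coe x₀).symm.trans h0
    · intro x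
      exact chiA_coe x
  · refine ⟨⟨chiB (H := alternatingGroup (Fin n)) (Fin n), isIrr_chiB (Fin n) hcard⟩,
      ⟨x₀, hP, ?_⟩, ⟨chiB (H := Equiv.Perm (Fin n)) (Fin n), isIrr_chiB (Fin n) hcard⟩, ?_⟩
    · exact (chiB_coe x₀).symm.trans h0
    · intro x
      exact chiB_coe x

theorem main (n : ℕ) (hn : 7 ≤ n) :
    (∃ χ : Cfsg.IrrCharacter (alternatingGroup (Fin n)),
      (∃ x : alternatingGroup (Fin n), (∃ j : ℕ, orderOf x = 2 ^ j) ∧
        (χ : alternatingGroup (Fin n) → ℂ) x = 0) ∧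
      ∃ ψ : Cfsg.IrrCharacter (Equiv.Perm (Fin n)), ∀ x : alternatingGroup (Fin n),
        (ψ : Equiv.Perm (Fin n) → ℂ) x = (χ : alternatingGroup (Fin n) → ℂ) x) ∧
    (∃ χ : Cfsg.IrrCharacter (alternatingGroup (Fin n)),
      (∃ y : alternatingGroup (Fin n), orderOf y = 3 ∧
        (χ : alternatingGroup (Fin n) → ℂ) y = 0) ∧
      ∃ ψ : Cfsg.IrrCharacter (Equiv.Perm (Fin n)), ∀ x : alternatingGroup (Fin n),
        (ψ : Equiv.Perm (Fin n) → ℂ) x = (χ : alternatingGroup (Fin n) → ℂ) x) := by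
  constructor
  · obtain ⟨x, hs, hp, h0⟩ := exists_two_elt n hn
    refine exists_restricted n hn (fun x => ∃ j : ℕ, orderOf x = 2 ^ j)
      ⟨x, Equiv.Perm.mem_alternatingGroup.2 hs⟩ ?_ h0
    have hd : orderOf x ∣ 2 ^ 3 := orderOf_dvd_of_pow_eq_one hp
    obtain ⟨j, _, hj⟩ := (Nat.dvd_prime_pow Nat.prime_two).1 hd
    exact ⟨j, by rw [Subgroup.orderOf_mk, hj]⟩
  · obtain ⟨x, hs, ho, h0⟩ := exists_three_elt n hn
    refine exists_restricted n hn (fun x => orderOf x = 3)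
      ⟨x, Equiv.Perm.mem_alternatingGroup.2 hs⟩ ?_ h0
    show orderOf (⟨x, _⟩ : alternatingGroup (Fin n)) = 3
    rw [Subgroup.orderOf_mk, ho]

end Cfsg.Agent.Lib.Helper8.AV
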