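import Mathlib
import Cfsg.Agent.S0494
import Cfsg.Agent.Lib.Helper1.SimpleIndex

set_option autoImplicit false

/-!
# S4150, special case `m = 6`

`special6`: for `x, y ∈ A₆` with `x` of order 3 moving all six points and `y` of order 5, the
subgroup generated by `x, y` is isomorphic to `A₅` or `A₆`.

Route: `K = ⟨x, y⟩` is transitive and contains a 5-cycle.  An involution of `A₆` fixes a point,
so a transitive subgroup of `A₆` has order divisible by 12 (`twelve_dvd`); hence `60 ∣ |K|`, and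
since `A₆` is simple the index of `K` is 1 or 6.  If `|K| = 60` then `K` is simple
(`normal_eq`), hence `≅ A₅` by S0494.
-/

open Equiv Equiv.Perm MulAction

namespace Cfsg.Agent.Lib.Helper8.AltGen6

/-- an element of order 5 in `Perm (Fin 6)` is a 5-cycle with a unique fixed point. -/
theorem five_cycle (y : Perm (Fin 6)) (hy : orderOf y = 5) :
    ∃ f : Fin 6, y f = f ∧ (∀ a, y a = a → a = f) ∧
      ∀ a b, a ≠ f → b ≠ f → ∃ i : ℕ, (y ^ i) a = b := by
  obtain ⟨n, hn⟩ := cycleType_prime_order (σ := y) (by rw [hy]; norm_num)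
  rw [hy] at hn
  have hsum : y.cycleType.sum = y.support.card := sum_cycleType y
  have hle : y.support.card ≤ 6 := by
    have := Finset.card_le_univ y.support
    simpa using this
  rw [hn, Multiset.sum_replicate, smul_eq_mul] at hsum
  have hn0 : n = 0 := by omega
  subst hn0
  have hcyc : y.IsCycle := by
    rw [← card_cycleType_eq_one, hn]; simp
  have hsc : y.support.card = 5 := by omega
  have hcompl : (y.support)ᶜ.card = 1 := by
    rw [Finset.card_compl, hsc]; simp
  obtain ⟨f, hf⟩ := Finset.card_eq_one.mp hcompl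
  have hmem : ∀ a, y a = a ↔ a = f := by
    intro a
    have : a ∈ (y.support)ᶜ ↔ a = f := by rw [hf]; simp
    rw [← this, Finset.mem_compl, mem_support, not_not]
  refine ⟨f, (hmem f).2 rfl, fun a ha => (hmem a).1 ha, fun a b ha hb => ?_⟩
  exact hcyc.exists_pow_eq (fun h => ha ((hmem a).1 h)) (fun h => hb ((hmem b).1 h))

/-- an involution in `A₆` fixes a point. -/
theorem invol_fix (t : Perm (Fin 6)) (ht : t ∈ alternatingGroup (Fin 6)) (h2 : orderOf t = 2) :
    ∃ c, t c = c := by
  by_contra hcon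
  push Not at hcon
  obtain ⟨n, hn⟩ := cycleType_prime_order (σ := t) (by rw [h2]; norm_num)
  rw [h2] at hn
  have hsum : t.cycleType.sum = t.support.card := sum_cycleType t
  have hsupp : t.support = Finset.univ := by
    ext a; simp [hcon a]
  rw [hsupp, hn, Multiset.sum_replicate, smul_eq_mul] at hsum
  simp at hsum
  have hn2 : n = 2 := by omega
  subst hn2
  have hsign := sign_of_cycleType t
  rw [mem_alternatingGroup] at ht
  rw [ht, hn] at hsign
  simp at hsign
  revert hsign
  decide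

/-- a transitive subgroup of `A₆` has order divisible by 12. -/
theorem twelve_dvd (M : Subgroup (Perm (Fin 6))) (hM : M ≤ alternatingGroup (Fin 6))
    (htr : ∀ a b : Fin 6, ∃ k ∈ M, k a = b) : 12 ∣ Nat.card M := by
  have : IsPretransitive M (Fin 6) := by
    refine ⟨fun a b => ?_⟩
    obtain ⟨k, hk, hkab⟩ := htr a b
    exact ⟨⟨k, hk⟩, hkab⟩
  have h6 : ∀ c : Fin 6, Nat.card M = Nat.card (stabilizer M c) * 6 := by
    intro c
    have h1 := Subgroup.card_mul_index (stabilizer M c)
    rw [index_stabilizer_of_transitive] at h1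
    simpa using h1.symm
  have h2 : 2 ∣ Nat.card M := by
    rw [h6 0]; exact Dvd.dvd.mul_left (by norm_num) _
  have : Fact (Nat.Prime 2) := ⟨Nat.prime_two⟩
  obtain ⟨t, ht⟩ := exists_prime_orderOf_dvd_card' 2 h2
  have ht' : orderOf (t : Perm (Fin 6)) = 2 := by
    rw [Subgroup.orderOf_coe]; exact ht
  obtain ⟨c, hc⟩ := invol_fix (t : Perm (Fin 6)) (hM t.2) ht'
  have hts : t ∈ stabilizer M c := by
    rw [mem_stabilizer_iff]; exact hc
  have h3 : 2 ∣ Nat.card (stabilizer M c) := by
    have := orderOf_dvd_natCard (⟨t, hts⟩ : stabilizer M c)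
    rwa [Subgroup.orderOf_mk, ht] at this
  rw [h6 c]
  obtain ⟨m, hm⟩ := h3
  exact ⟨m, by rw [hm]; ring⟩

/-- an element commuting with the 5-cycle `y` is a power of `y`. -/
theorem eq_pow_of_commute (y : Perm (Fin 6)) (f : Fin 6) (hf : y f = f)
    (hfu : ∀ a, y a = a → a = f) (hcyc : ∀ a b, a ≠ f → b ≠ f → ∃ i : ℕ, (y ^ i) a = b)
    (n : Perm (Fin 6)) (hn : y * n = n * y) : ∃ j : ℕ, n = y ^ j := by
  have hnf : n f = f := by
    apply hfu
    have := congrArg (fun g : Perm (Fin 6) => g f) hn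
    simp only [Perm.mul_apply, hf] at this
    exact this
  have hcomm : ∀ i : ℕ, ∀ a, n ((y ^ i) a) = (y ^ i) (n a) := by
    intro i
    induction i with
    | zero => intro a; simp
    | succ i ih =>
      intro a
      rw [pow_succ, Perm.mul_apply, ih, Perm.mul_apply]
      congr 1
      have := congrArg (fun g : Perm (Fin 6) => g a) hn
      simp only [Perm.mul_apply] at this
      exact this.symm
  obtain ⟨b₀, hb₀⟩ : ∃ b₀ : Fin 6, b₀ ≠ f := by
    by_cases h : f = 0
    · exact ⟨1, by rw [h]; decide⟩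
    · exact ⟨0, fun h' => h h'.symm⟩
  have hnb : n b₀ ≠ f := by
    intro h
    apply hb₀
    apply n.injective
    rw [h, hnf]
  obtain ⟨j, hj⟩ := hcyc b₀ (n b₀) hb₀ hnb
  refine ⟨j, ?_⟩
  ext a
  congr 1
  by_cases ha : a = f
  · rw [ha, hnf, pow_apply_eq_self_of_apply_eq_self hf]
  · obtain ⟨i, hi⟩ := hcyc b₀ a hb₀ ha
    rw [← hi, hcomm, ← hj, ← Perm.mul_apply, ← Perm.mul_apply, ← pow_add, ← pow_add, add_comm]

/-- the key step of simplicity: a nontrivial subgroup of `K` normalised by `K` is `K`. -/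
theorem normal_eq (K : Subgroup (Perm (Fin 6))) (hK : K ≤ alternatingGroup (Fin 6))
    (htr : ∀ a b : Fin 6, ∃ k ∈ K, k a = b) (hcard : Nat.card K = 60)
    (y : Perm (Fin 6)) (hyK : y ∈ K) (f : Fin 6) (hf : y f = f)
    (hfu : ∀ a, y a = a → a = f) (hcyc : ∀ a b, a ≠ f → b ≠ f → ∃ i : ℕ, (y ^ i) a = b)
    (hy5 : y ^ 5 = 1)
    (N : Subgroup (Perm (Fin 6))) (hNK : N ≤ K)
    (hnorm : ∀ k ∈ K, ∀ n ∈ N, k * n * k⁻¹ ∈ N) (hN : N ≠ ⊥) : N = K := by
  -- (a) `N` moves `f`
  have hmove : ∃ n₀ ∈ N, n₀ f ≠ f := by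
    by_contra hcon
    push Not at hcon
    apply hN
    rw [Subgroup.eq_bot_iff_forall]
    intro n hn
    ext a
    congr 1
    obtain ⟨k, hk, hka⟩ := htr f a
    have h1 := hcon (k⁻¹ * n * k⁻¹⁻¹) (hnorm k⁻¹ (K.inv_mem hk) n hn)
    simp only [inv_inv, Perm.mul_apply, hka] at h1
    rw [Perm.inv_eq_iff_eq] at h1
    rw [Perm.one_apply, h1, hka]
  obtain ⟨n₀, hn₀, hn₀f⟩ := hmove
  -- (a') `N` is transitive
  have hNf : ∀ a, ∃ n ∈ N, n f = a := by
    intro a
    by_cases ha : a = f
    · exact ⟨1, N.one_mem, by rw [ha]; rfl⟩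
    · obtain ⟨i, hi⟩ := hcyc (n₀ f) a hn₀f ha
      refine ⟨y ^ i * n₀ * (y ^ i)⁻¹, hnorm _ (K.pow_mem hyK i) n₀ hn₀, ?_⟩
      have : (y ^ i)⁻¹ f = f := by
        rw [Perm.inv_eq_iff_eq, pow_apply_eq_self_of_apply_eq_self hf]
      rw [Perm.mul_apply, Perm.mul_apply, this, hi]
  have hNtr : ∀ a b : Fin 6, ∃ n ∈ N, n a = b := by
    intro a b
    obtain ⟨n₁, hn₁, h1⟩ := hNf a
    obtain ⟨n₂, hn₂, h2⟩ := hNf b
    refine ⟨n₂ * n₁⁻¹, N.mul_mem hn₂ (N.inv_mem hn₁), ?_⟩
    rw [Perm.mul_apply, ← h1]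
    simp [h2]
  -- (b) order of `N`
  have h12 : 12 ∣ Nat.card N := twelve_dvd N (hNK.trans hK) hNtr
  have h60 : Nat.card N ∣ 60 := hcard ▸ Subgroup.card_dvd_of_le hNK
  have hcases : Nat.card N = 12 ∨ Nat.card N = 60 := by
    have hle : Nat.card N ≤ 60 := Nat.le_of_dvd (by norm_num) h60
    obtain ⟨m, hm⟩ := h12
    rw [hm] at h60 hle ⊢
    have hm5 : m ≤ 5 := by omega
    interval_cases m <;> simp_all
  rcases hcases with h | h
  · -- (c) the case of order 12
    exfalso
    classical
    let σ : Perm N :=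
      { toFun := fun n => ⟨y * n * y⁻¹, hnorm y hyK n n.2⟩
        invFun := fun n => ⟨y⁻¹ * n * y⁻¹⁻¹, hnorm y⁻¹ (K.inv_mem hyK) n n.2⟩
        left_inv := fun n => by
          apply Subtype.ext; simp [mul_assoc]
        right_inv := fun n => by
          apply Subtype.ext; simp [mul_assoc] }
    have hσpow : ∀ i : ℕ, ∀ n : N, ((σ ^ i) n : Perm (Fin 6)) = y ^ i * n * (y ^ i)⁻¹ := by
      intro i
      induction i with
      | zero => intro n; simp
      | succ i ih =>
        intro n
        rw [pow_succ', Perm.mul_apply]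
        change y * ((σ ^ i) n : Perm (Fin 6)) * y⁻¹ = _
        rw [ih, pow_succ']
        simp [mul_assoc]
    have hσ5 : σ ^ 5 ^ 1 = 1 := by
      ext n
      rw [pow_one, hσpow, hy5]
      simp
    have : Fact (Nat.Prime 5) := ⟨by norm_num⟩
    have hmod := card_compl_support_modEq (p := 5) (n := 1) hσ5
    have hcN : Fintype.card N = 12 := by rw [← Nat.card_eq_fintype_card]; exact h
    rw [hcN] at hmod
    -- a nontrivial fixed point
    have hex : ∃ n : N, n ≠ 1 ∧ σ n = n := by
      by_contra hcon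
      push Not at hcon
      have : (σ.support)ᶜ = {1} := by
        ext n
        simp only [Finset.mem_compl, mem_support, not_not, Finset.mem_singleton]
        constructor
        · intro hn
          by_contra hne
          exact hcon n hne hn
        · rintro rfl
          apply Subtype.ext
          change y * ((1 : N) : Perm (Fin 6)) * y⁻¹ = _
          simp
      rw [this] at hmod
      simp [Nat.ModEq] at hmod
    obtain ⟨n, hn1, hnfix⟩ := hex
    have hcomm : y * (n : Perm (Fin 6)) = n * y := by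
      have := congrArg (fun m : N => (m : Perm (Fin 6))) hnfix
      change y * (n : Perm (Fin 6)) * y⁻¹ = n at this
      calc y * (n : Perm (Fin 6)) = y * (n : Perm (Fin 6)) * y⁻¹ * y := by simp
        _ = n * y := by rw [this]
    obtain ⟨j, hj⟩ := eq_pow_of_commute y f hf hfu hcyc n hcomm
    have hn5 : (n : Perm (Fin 6)) ^ 5 = 1 := by
      rw [hj, ← pow_mul, mul_comm, pow_mul, hy5, one_pow]
    have hn12 : n ^ 12 = 1 := by
      rw [← h]; exact pow_card_eq_one'
    have hn12' : (n : Perm (Fin 6)) ^ 12 = 1 := by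
      have := congrArg (fun m : N => (m : Perm (Fin 6))) hn12
      simpa using this
    apply hn1
    apply Subtype.ext
    have h25 : (n : Perm (Fin 6)) ^ 25 = 1 := by
      rw [show 25 = 5 * 5 by norm_num, pow_mul, hn5, one_pow]
    have h24 : (n : Perm (Fin 6)) ^ 24 = 1 := by
      rw [show 24 = 12 * 2 by norm_num, pow_mul, hn12', one_pow]
    have : (n : Perm (Fin 6)) ^ 25 = (n : Perm (Fin 6)) ^ 24 * n := pow_succ _ 24
    rw [h25, h24, one_mul] at this
    exact this.symm
  · exact Subgroup.eq_of_le_of_card_ge hNK (by rw [hcard, h])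

theorem card_alt6 : Nat.card (alternatingGroup (Fin 6)) = 360 := by
  have h := two_mul_card_alternatingGroup (α := Fin 6)
  rw [Fintype.card_perm, Fintype.card_fin] at h
  rw [Nat.card_eq_fintype_card]
  have : (6 : ℕ).factorial = 720 := by decide
  omega

/-- a transitive subgroup of `A₆` containing an element of order 5 is `A₆` or simple of
order 60. -/
theorem trans_five (K : Subgroup (Perm (Fin 6))) (hK : K ≤ alternatingGroup (Fin 6))
    (htr : ∀ a b : Fin 6, ∃ k ∈ K, k a = b) (y : Perm (Fin 6)) (hyK : y ∈ K)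
    (hy : orderOf y = 5) :
    K = alternatingGroup (Fin 6) ∨ (Nat.card K = 60 ∧ IsSimpleGroup K) := by
  have h12 : 12 ∣ Nat.card K := twelve_dvd K hK htr
  have h5 : 5 ∣ Nat.card K := by
    have := orderOf_dvd_natCard (⟨y, hyK⟩ : K)
    rwa [Subgroup.orderOf_mk, hy] at this
  have h60 : 60 ∣ Nat.card K :=
    Nat.Coprime.mul_dvd_of_dvd_of_dvd (by norm_num : Nat.Coprime 12 5) h12 h5
  set K' : Subgroup (alternatingGroup (Fin 6)) := K.subgroupOf (alternatingGroup (Fin 6)) with hK'
  have hcK' : Nat.card K' = Nat.card K :=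
    Nat.card_congr (Subgroup.subgroupOfEquivOfLe hK).toEquiv
  have hidx : Nat.card K' * K'.index = 360 := by
    rw [Subgroup.card_mul_index, card_alt6]
  by_cases htop : K' = ⊤
  · left
    rw [hK', Subgroup.subgroupOf_eq_top] at htop
    exact le_antisymm hK htop
  · right
    have : IsSimpleGroup (alternatingGroup (Fin 6)) :=
      alternatingGroup.isSimpleGroup (by simp)
    have hfac := Cfsg.Agent.Lib.Helper1.two_mul_card_dvd_factorial_index_of_simple
      (G := alternatingGroup (Fin 6)) (by rw [card_alt6]; norm_num) K' htop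
    rw [card_alt6] at hfac
    obtain ⟨m, hm⟩ := h60
    rw [hcK', hm] at hidx
    have hcard : Nat.card K = 60 := by
      have hmi : m * K'.index = 6 := by nlinarith
      have hi6 : K'.index ∣ 6 := ⟨m, by rw [mul_comm]; exact hmi.symm⟩
      have hile : K'.index ≤ 6 := Nat.le_of_dvd (by norm_num) hi6
      have hi : K'.index = 6 := by
        interval_cases hidx' : K'.index
        · simp at hmi
        · exfalso; revert hfac; decide
        · exfalso; revert hfac; decide
        · exfalso; revert hfac; decide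
        · omega
        · omega
        · rfl
      rw [hi] at hmi
      rw [hm]; omega
    refine ⟨hcard, ?_⟩
    obtain ⟨f, hf, hfu, hcyc⟩ := five_cycle y hy
    have hy5 : y ^ 5 = 1 := by rw [← hy]; exact pow_orderOf_eq_one y
    have : Nontrivial K := by
      rw [← Finite.one_lt_card_iff_nontrivial, hcard]; norm_num
    refine ⟨fun N hN => ?_⟩
    have hmap_le : N.map K.subtype ≤ K := Subgroup.map_subtype_le N
    have hnorm : ∀ k ∈ K, ∀ n ∈ N.map K.subtype, k * n * k⁻¹ ∈ N.map K.subtype := by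
      rintro k hk n ⟨n₀, hn₀, rfl⟩
      exact ⟨⟨k, hk⟩ * n₀ * ⟨k, hk⟩⁻¹, hN.conj_mem n₀ hn₀ ⟨k, hk⟩, rfl⟩
    by_cases hbot : N.map K.subtype = ⊥
    · left
      exact (Subgroup.map_eq_bot_iff_of_injective N K.subtype_injective).mp hbot
    · right
      have := normal_eq K hK htr hcard y hyK f hf hfu hcyc hy5 (N.map K.subtype) hmap_le hnorm hbot
      rw [eq_top_iff]
      intro k _
      have hk : (k : Perm (Fin 6)) ∈ N.map K.subtype := by rw [this]; exact k.2
      obtain ⟨n₀, hn₀, hn₀k⟩ := hk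
      have : n₀ = k := Subtype.ext hn₀k
      rwa [← this]

/-- special case `m = 6`, `x` a product of two 3-cycles, `y` a 5-cycle. -/
theorem special6 (x y : alternatingGroup (Fin 6))
    (hx : orderOf x = 3) (hxs : (x : Perm (Fin 6)).support.card = 6) (hy : orderOf y = 5) :
    ∃ d : ℕ, 5 ≤ d ∧ Nonempty (Subgroup.closure ({x, y} : Set (alternatingGroup (Fin 6))) ≃*
      alternatingGroup (Fin d)) := by
  have _ := hx
  set H := Subgroup.closure ({x, y} : Set (alternatingGroup (Fin 6))) with hH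
  set K : Subgroup (Perm (Fin 6)) := H.map (alternatingGroup (Fin 6)).subtype with hKdef
  have hK : K ≤ alternatingGroup (Fin 6) := Subgroup.map_subtype_le H
  have e : H ≃* K := H.equivMapOfInjective _ (Subgroup.subtype_injective _)
  have hxK : (x : Perm (Fin 6)) ∈ K :=
    ⟨x, Subgroup.subset_closure (by simp), rfl⟩
  have hyK : (y : Perm (Fin 6)) ∈ K :=
    ⟨y, Subgroup.subset_closure (by simp), rfl⟩
  have hy' : orderOf (y : Perm (Fin 6)) = 5 := by
    rw [Subgroup.orderOf_coe]; exact hy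
  obtain ⟨f, hf, hfu, hcyc⟩ := five_cycle (y : Perm (Fin 6)) hy'
  have hxsupp : (x : Perm (Fin 6)).support = Finset.univ := by
    apply Finset.eq_univ_of_card
    rw [hxs]; simp
  have hxf : (x : Perm (Fin 6)) f ≠ f := by
    rw [← mem_support, hxsupp]; exact Finset.mem_univ f
  have hKf : ∀ a, ∃ k ∈ K, k f = a := by
    intro a
    by_cases ha : a = f
    · exact ⟨1, K.one_mem, by rw [ha]; rfl⟩
    · obtain ⟨i, hi⟩ := hcyc _ a hxf ha
      exact ⟨(y : Perm (Fin 6)) ^ i * x, K.mul_mem (K.pow_mem hyK i) hxK, by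
        rw [Perm.mul_apply, hi]⟩
  have htr : ∀ a b : Fin 6, ∃ k ∈ K, k a = b := by
    intro a b
    obtain ⟨k₁, hk₁, h1⟩ := hKf a
    obtain ⟨k₂, hk₂, h2⟩ := hKf b
    refine ⟨k₂ * k₁⁻¹, K.mul_mem hk₂ (K.inv_mem hk₁), ?_⟩
    rw [Perm.mul_apply, ← h1]
    simp [h2]
  rcases trans_five K hK htr y hyK hy' with h | ⟨hc, hs⟩
  · exact ⟨6, by norm_num, ⟨e.trans (MulEquiv.subgroupCongr h)⟩⟩
  · have := hs
    obtain ⟨e'⟩ := Cfsg.Agent.S0494.result (G := K) hc
    exact ⟨5, le_refl 5, ⟨e.trans e'⟩⟩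

end Cfsg.Agent.Lib.Helper8.AltGen6
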