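import Mathlib
import Cfsg.Agent.Lib.Helper8.AltPDefs

/-! # S2276: points along a cycle (helper for PK-C, PK-B, PK-C3) -/

set_option autoImplicit false
open Equiv Equiv.Perm

namespace Cfsg.Agent.Lib.Helper8.AltP

/-- the points `y, w^a y, w^(2a) y, w^(3a) y, w^(4a) y` of a cycle `w` are distinct as soon as
`orderOf w ∤ a * m` for `m = 1, …, 4` -/
theorem nodup_pow_list {α : Type*} [Fintype α] [DecidableEq α] (w : Perm α) (hw : w.IsCycle) (y : α)
    (hy : w y ≠ y) (a : ℕ) (h : ∀ m, 1 ≤ m → m ≤ 4 → ¬ orderOf w ∣ a * m) :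
    [y, (w ^ a) y, (w ^ (2 * a)) y, (w ^ (3 * a)) y, (w ^ (4 * a)) y].Nodup := by
  have key : ∀ i j : ℕ, i < j → j ≤ 4 → (w ^ (i * a)) y ≠ (w ^ (j * a)) y := by
    intro i j hij hj heq
    have hj' : j * a = i * a + a * (j - i) := by
      have : j = i + (j - i) := by omega
      conv_lhs => rw [this]
      ring
    rw [hj', pow_add, Perm.mul_apply] at heq
    have h1 : (w ^ (a * (j - i))) y = y := ((w ^ (i * a)).injective heq).symm
    have h2 : w ^ (a * (j - i)) = 1 := (hw.pow_eq_one_iff' hy).mpr h1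
    exact h (j - i) (by omega) (by omega) (orderOf_dvd_of_pow_eq_one h2)
  have k01 := key 0 1 (by omega) (by omega)
  have k02 := key 0 2 (by omega) (by omega)
  have k03 := key 0 3 (by omega) (by omega)
  have k04 := key 0 4 (by omega) (by omega)
  have k12 := key 1 2 (by omega) (by omega)
  have k13 := key 1 3 (by omega) (by omega)
  have k14 := key 1 4 (by omega) (by omega)
  have k23 := key 2 3 (by omega) (by omega)
  have k24 := key 2 4 (by omega) (by omega)
  have k34 := key 3 4 (by omega) (by omega)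
  simp only [zero_mul, pow_zero, Perm.coe_one, id_eq, one_mul] at k01 k02 k03 k04 k12 k13 k14
  simp only [List.nodup_cons, List.mem_cons, List.not_mem_nil, or_false, not_or, not_false_eq_true,
    List.nodup_nil, and_true]
  exact ⟨⟨k01, k02, k03, k04⟩, ⟨k12, k13, k14⟩, ⟨k23, k24⟩, k34⟩

/-- order of a permutation whose cycle type is a single part -/
theorem orderOf_of_cycleType_singleton {α : Type*} [Fintype α] [DecidableEq α] (w : Perm α) (L : ℕ)
    (h : w.cycleType = {L}) : orderOf w = L := by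
  rw [← Perm.lcm_cycleType, h]
  simp

/-- `r` odd, `κ² = 1` -/
theorem cyc_pow_odd_of_mul_self {G : Type*} [Group G] (κ : G) (h : κ * κ = 1) (r : ℕ) (hr : Odd r) :
    κ ^ r = κ := by
  obtain ⟨k, rfl⟩ := hr
  rw [pow_succ, pow_mul, pow_two, h, one_pow, one_mul]

end Cfsg.Agent.Lib.Helper8.AltP
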