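import Mathlib
import Cfsg.Agent.Lib.Helper8.AltPDefs
import Cfsg.Agent.Lib.Helper8.AltPCycB
import Cfsg.Agent.Lib.Helper8.AltPCB
import Cfsg.Agent.Lib.Lead.AltPGrp
import Cfsg.Agent.Lib.Lead.AltPA5
import Cfsg.Agent.Lib.Lead.AltPGreedy
import Cfsg.Agent.Lib.Lead.AltPB
import Cfsg.Agent.Lib.Lead.AltPSmall
import Cfsg.Agent.Lib.Helper7.AltPUZ
import Cfsg.Agent.Lib.Helper7.AltPCPar
import Cfsg.Agent.Lib.Lead.AltPYoung
import Cfsg.Agent.Lib.Helper7.AltPC3

/-! # S2276: assembly (all cycle types, transfer to the alternating group) -/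

set_option autoImplicit false
open Equiv Equiv.Perm

namespace Cfsg.Agent.Lib.Helper8.AltP


/-! ## Assembly part 1: chunks, small utilities -/

section chunksec
variable {α : Type*}

theorem chunks_flatten_take (ks : List ℕ) (xs : List α) :
    (chunks ks xs).flatten = xs.take ks.sum := by
  induction ks generalizing xs with
  | nil => simp [chunks]
  | cons k ks ih =>
    simp only [chunks, List.flatten_cons, List.sum_cons, ih]
    rw [List.take_add]

theorem chunks_flatten (ks : List ℕ) (xs : List α) (h : ks.sum = xs.length) :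
    (chunks ks xs).flatten = xs := by
  rw [chunks_flatten_take, h, List.take_length]

theorem chunks_map_length (ks : List ℕ) (xs : List α) (h : ks.sum ≤ xs.length) :
    (chunks ks xs).map List.length = ks := by
  induction ks generalizing xs with
  | nil => simp [chunks]
  | cons k ks ih =>
    simp only [List.sum_cons] at h
    simp only [chunks, List.map_cons, List.length_take]
    rw [ih (xs.drop k) (by rw [List.length_drop]; omega)]
    congr 1
    omega

theorem chunks_length (ks : List ℕ) (xs : List α) : (chunks ks xs).length = ks.length := by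
  induction ks generalizing xs with
  | nil => simp [chunks]
  | cons k ks ih => simp [chunks, ih]

theorem chunks_ne_nil (ks : List ℕ) (xs : List α) (h : ks.sum ≤ xs.length) (h1 : ∀ k ∈ ks, 1 ≤ k) :
    ∀ B ∈ chunks ks xs, B ≠ [] := by
  intro B hB hnil
  have hm := chunks_map_length ks xs h
  have : B.length ∈ (chunks ks xs).map List.length := List.mem_map_of_mem hB
  rw [hm] at this
  have := h1 _ this
  rw [hnil] at this
  simp at this

theorem exists_cons5 (l : List α) (h : 5 ≤ l.length) :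
    ∃ x₀ x₁ x₂ x₃ x₄ tl, l = x₀ :: x₁ :: x₂ :: x₃ :: x₄ :: tl := by
  rcases l with _ | ⟨x₀, _ | ⟨x₁, _ | ⟨x₂, _ | ⟨x₃, _ | ⟨x₄, tl⟩⟩⟩⟩⟩ <;> simp at h
  exact ⟨_, _, _, _, _, _, rfl⟩

theorem exists_cons7 (l : List α) (h : 7 ≤ l.length) :
    ∃ x₀ x₁ x₂ x₃ x₄ x₅ x₆ tl, l = x₀ :: x₁ :: x₂ :: x₃ :: x₄ :: x₅ :: x₆ :: tl := by
  obtain ⟨x₀, x₁, x₂, x₃, x₄, tl, rfl⟩ := exists_cons5 l (by omega)
  rcases tl with _ | ⟨x₅, _ | ⟨x₆, tl⟩⟩ <;> simp at h
  exact ⟨_, _, _, _, _, _, _, _, rfl⟩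

end chunksec

/-- packaging: blocks on `Fin L` give an atom -/
theorem isAtom2_of_blocks (p L : ℕ) (Bs : List (List (Fin L))) (hnd : Bs.flatten.Nodup)
    (w o : Perm (Fin L)) (hw : w.cycleType = {L}) (ho : Perm.sign o = -1)
    (h1 : PP p (uOf Bs) w) (h2 : PP p (uOf Bs) (o * w * o⁻¹)) :
    IsAtom2 p L (((Bs.map List.length).filter (fun k => 2 ≤ k) : List ℕ) : Multiset ℕ) {L} :=
  ⟨uOf Bs, w, o, cycleType_uOf Bs hnd, hw, ho, h1, h2⟩

theorem cycleType_swap_conj {α : Type*} [Fintype α] [DecidableEq α] (a b : α) (z : Perm α) :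
    (swap a b * z * swap a b).cycleType = z.cycleType := by
  have : swap a b * z * swap a b = swap a b * z * (swap a b)⁻¹ := by rw [swap_inv]
  rw [this, cycleType_conj]

theorem finRange_facts (L : ℕ) : (List.finRange L).Nodup ∧ (List.finRange L).length = L :=
  ⟨List.nodup_finRange L, List.length_finRange⟩


/-! ## Assembly part 2: the big atoms -/

theorem cycleType_formPerm_nodup {α : Type*} [Fintype α] [DecidableEq α] (l : List α) (hl : l.Nodup)
    (hn : 2 ≤ l.length) : (List.formPerm l).cycleType = {l.length} := by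
  rw [(List.isCycle_formPerm hl hn).cycleType, List.support_formPerm_of_nodup l hl, List.card_toFinset,
    List.dedup_eq_self.mpr hl]
  intro x h
  simp [h] at hn

theorem uOf_singleton {α : Type*} [DecidableEq α] (xs : List α) :
    uOf [xs] = (List.formPerm xs)⁻¹ := by
  simp [uOf]

/-- single long cycle, `L ≥ 7` odd -/
theorem atom_single (p : ℕ) (hp : p.Prime) (hp2 : p ≠ 2) (L : ℕ) (hL7 : 7 ≤ L) (hodd : Odd L) :
    IsAtom2 p L {L} {L} := by
  obtain ⟨hnd, hlen⟩ := finRange_facts L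
  obtain ⟨x₀, x₁, x₂, x₃, x₄, x₅, x₆, tl, hxs⟩ := exists_cons7 (List.finRange L) (by omega)
  rw [hxs] at hnd hlen
  have hC := ppC p hp hp2 x₀ x₁ x₂ x₃ x₄ (x₅ :: x₆ :: tl) [] (by simpa using hnd) (by simp)
    (by simp) (by
      have : Odd (x₀ :: x₁ :: x₂ :: x₃ :: x₄ :: x₅ :: x₆ :: tl).length := hlen.symm ▸ hodd
      simpa using this)
  have hB := ppB p hp hp2 x₀ x₁ x₂ x₃ x₄ x₅ x₆ tl hnd (hlen.symm ▸ hodd)
  rw [uOf_singleton] at hC
  simp only [List.flatten_cons, List.flatten_nil, List.append_nil] at hC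
  have h13 : x₁ ≠ x₃ := by
    intro h; simp [h] at hnd
  have h56 : x₅ ≠ x₆ := by
    intro h; simp [h] at hnd
  have hz : (List.formPerm (x₀ :: x₁ :: x₂ :: x₃ :: x₄ :: x₅ :: x₆ :: tl)).cycleType = {L} := by
    rw [cycleType_formPerm_nodup _ hnd (by rw [hlen]; omega), hlen]
  refine ⟨(List.formPerm (x₀ :: x₁ :: x₂ :: x₃ :: x₄ :: x₅ :: x₆ :: tl))⁻¹,
    swap x₁ x₃ * List.formPerm (x₀ :: x₁ :: x₂ :: x₃ :: x₄ :: x₅ :: x₆ :: tl) * swap x₁ x₃,
    (swap x₁ x₃ * swap x₅ x₆) * swap x₁ x₃, ?_, ?_, ?_, hC, ?_⟩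
  · rw [cycleType_inv, hz]
  · rw [cycleType_swap_conj, hz]
  · simp [Perm.sign_swap h13, Perm.sign_swap h56]
  · convert hB using 1
    simp only [mul_inv_rev, swap_inv, mul_assoc, swap_mul_self_mul]

/-- one 3-cycle against the long cycle -/
theorem atom_3a (p : ℕ) (hp : p.Prime) (hp2 : p ≠ 2) (L : ℕ) (hL : 5 ≤ L) :
    IsAtom2 p L {3} {L} := by
  obtain ⟨hnd, hlen⟩ := finRange_facts L
  obtain ⟨x₀, x₁, x₂, x₃, x₄, tl, hxs⟩ := exists_cons5 (List.finRange L) (by omega)
  rw [hxs] at hnd hlen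
  have h := ppC3a p hp hp2 x₀ x₁ x₂ x₃ x₄ tl hnd
  have hz : (List.formPerm (x₀ :: x₁ :: x₂ :: x₃ :: x₄ :: tl)).cycleType = {L} := by
    rw [cycleType_formPerm_nodup _ hnd (by rw [hlen]; omega), hlen]
  have hnd3 : [x₀, x₃, x₁].Nodup := by
    simp only [List.nodup_cons, List.mem_cons, not_or] at hnd ⊢
    simp only [List.not_mem_nil, not_false_eq_true, List.nodup_nil, and_true]
    refine ⟨⟨?_, ?_⟩, ?_⟩
    · exact hnd.1.2.2.1
    · exact hnd.1.1
    · exact fun h => hnd.2.1.2.1 h.symm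
  have hnd2 : [x₂, x₄].Nodup := by
    simp only [List.nodup_cons, List.mem_cons, not_or] at hnd ⊢
    simp only [List.not_mem_nil, not_false_eq_true, List.nodup_nil, and_true]
    exact hnd.2.2.1.2.1
  have hu : (List.formPerm [x₀, x₃, x₁]).cycleType = {3} := by
    rw [cycleType_formPerm_nodup _ hnd3 (by simp)]
    rfl
  have hdisj : Perm.Disjoint (List.formPerm [x₂, x₄]) (List.formPerm [x₀, x₃, x₁]) := by
    rw [List.formPerm_disjoint_iff hnd2 hnd3 (by simp) (by simp)]
    simp only [List.nodup_cons, List.mem_cons, not_or] at hnd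
    intro a ha hb
    simp only [List.mem_cons, List.not_mem_nil, or_false] at ha hb
    rcases ha with rfl | rfl <;> rcases hb with h | h | h
    · exact hnd.1.2.1 h.symm
    · exact hnd.2.2.1.1 h
    · exact hnd.2.1.1 h.symm
    · exact hnd.1.2.2.2.1 h.symm
    · exact hnd.2.2.2.1.1 h.symm
    · exact hnd.2.1.2.2.1 h.symm
  have hcomm : swap x₂ x₄ * List.formPerm [x₀, x₃, x₁] * (swap x₂ x₄)⁻¹ = List.formPerm [x₀, x₃, x₁] := by
    have h1 : swap x₂ x₄ = List.formPerm [x₂, x₄] := by simp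
    rw [h1, hdisj.commute.eq, mul_inv_cancel_right]
  have h24 : x₂ ≠ x₄ := by
    intro h; simp [h] at hnd2
  refine ⟨List.formPerm [x₀, x₃, x₁], List.formPerm (x₀ :: x₁ :: x₂ :: x₃ :: x₄ :: tl), swap x₂ x₄,
    hu, hz, Perm.sign_swap h24, h, ?_⟩
  have := PP_conj p (swap x₂ x₄) h
  rwa [hcomm] at this


/-! ## Assembly part 3: several blocks -/

/-- a multiset of `p`-powers with at least two parts and sum a `p`-power has a repeated part -/
theorem not_nodup_of_sum_eq_pow (p : ℕ) (hp : p.Prime) (c : ℕ) (s : Multiset ℕ)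
    (hs : ∀ x ∈ s, ∃ i, x = p ^ i) (hsum : s.sum = p ^ c) (hcard : 2 ≤ s.card) : ¬ s.Nodup := by
  induction c generalizing s with
  | zero =>
    intro _
    -- all parts ≥ 1, card ≥ 2 ⇒ sum ≥ 2
    have h1 : ∀ x ∈ s, 1 ≤ x := by
      intro x hx
      obtain ⟨i, rfl⟩ := hs x hx
      exact Nat.one_le_pow _ _ hp.pos
    have := Multiset.card_nsmul_le_sum h1
    simp at this hsum
    omega
  | succ c ih =>
    intro hnd
    by_cases h1 : 1 ∈ s
    · -- s = 1 ::ₘ t, all parts of t divisible by p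
      obtain ⟨t, rfl⟩ := Multiset.exists_cons_of_mem h1
      rw [Multiset.nodup_cons] at hnd
      have hdvd : p ∣ t.sum := by
        apply Multiset.dvd_sum
        intro x hx
        obtain ⟨i, rfl⟩ := hs x (Multiset.mem_cons_of_mem hx)
        rcases i with _ | i
        · exact absurd hx (by simpa using hnd.1)
        · exact Dvd.intro_left _ rfl
      rw [Multiset.sum_cons] at hsum
      have : p ∣ 1 := by
        have h2 : p ∣ 1 + t.sum := by rw [hsum]; exact Dvd.intro_left _ rfl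
        exact (Nat.dvd_add_left hdvd).mp h2
      exact hp.one_lt.ne' (Nat.dvd_one.mp this)
    · -- all parts divisible by p
      have hdiv : ∀ x ∈ s, p ∣ x := by
        intro x hx
        obtain ⟨i, rfl⟩ := hs x hx
        rcases i with _ | i
        · exact absurd hx (by simpa using h1)
        · exact Dvd.intro_left _ rfl
      apply ih (s.map (· / p))
      · intro y hy
        obtain ⟨x, hx, rfl⟩ := Multiset.mem_map.mp hy
        obtain ⟨i, rfl⟩ := hs x hx
        rcases i with _ | i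
        · exact absurd hx (by simpa using h1)
        · exact ⟨i, by rw [pow_succ, Nat.mul_div_cancel _ hp.pos]⟩
      · have : p * (s.map (· / p)).sum = p * p ^ c := by
          rw [← Multiset.sum_map_mul_left, ← pow_succ', ← hsum]
          congr 1
          conv_rhs => rw [← Multiset.map_id s]
          apply Multiset.map_congr rfl
          intro x hx
          simp only [id]
          exact Nat.mul_div_cancel' (hdiv x hx)
        exact Nat.eq_of_mul_eq_mul_left hp.pos this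
      · simpa using hcard
      · apply Multiset.Nodup.map_on _ hnd
        intro x hx y hy hxy
        rw [← Nat.mul_div_cancel' (hdiv x hx), ← Nat.mul_div_cancel' (hdiv y hy), hxy]


theorem isAtom2_of_blocks_dup (p L : ℕ) (Bs : List (List (Fin L))) (hnd : Bs.flatten.Nodup)
    (w : Perm (Fin L)) (hw : w.cycleType = {L}) (h1 : PP p (uOf Bs) w)
    (i j : Fin Bs.length) (hij : i ≠ j)
    (hlen : (Bs.get i).length = (Bs.get j).length) (hodd : Odd (Bs.get i).length) :
    IsAtom2 p L (((Bs.map List.length).filter (fun k => 2 ≤ k) : List ℕ) : Multiset ℕ) {L} := by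
  obtain ⟨o, ho, hcomm⟩ := exists_odd_commute_uOf Bs hnd i j hij hlen hodd
  refine isAtom2_of_blocks p L Bs hnd w o hw ho h1 ?_
  have := PP_conj p o h1
  rwa [hcomm, mul_inv_cancel_right] at this

theorem odd_sum_iff_odd_length (l : List ℕ) (h : ∀ x ∈ l, Odd x) : Odd l.sum ↔ Odd l.length := by
  induction l with
  | nil => simp
  | cons a l ih =>
    have ha : Odd a := h a (by simp)
    have ih' := ih (fun x hx => h x (by simp [hx]))
    rw [List.sum_cons, List.length_cons, Nat.odd_add, Nat.odd_add_one, ← ih']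
    constructor
    · intro h1 h2
      exact (Nat.not_even_iff_odd.mpr h2) (h1.mp ha)
    · intro h1
      constructor
      · intro _
        exact Nat.not_odd_iff_even.mp h1
      · intro _; exact ha

/-- duplicate lengths as indices -/
theorem exists_dup_idx {α : Type*} (Bs : List (List α)) (h : ¬ (Bs.map List.length).Nodup) :
    ∃ i j : Fin Bs.length, i ≠ j ∧ (Bs.get i).length = (Bs.get j).length := by
  rw [List.nodup_iff_injective_get, Function.not_injective_iff] at h
  obtain ⟨i, j, hget, hij⟩ := h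
  refine ⟨⟨i.1, by simpa using i.2⟩, ⟨j.1, by simpa using j.2⟩, ?_, ?_⟩
  · intro h
    apply hij
    apply Fin.ext
    simpa using congrArg Fin.val h
  · simpa using hget

/-- several blocks, the first of length `≥ 5` -/
theorem atom_C (p : ℕ) (hp : p.Prime) (hp2 : p ≠ 2) (c : ℕ) (a : ℕ) (ha : 5 ≤ a) (ρ : List ℕ)
    (hρ : ρ ≠ []) (hlam : ∀ x ∈ a :: ρ, ∃ i, x = p ^ i) (hsum : (a :: ρ).sum = p ^ c) :
    IsAtom2 p (p ^ c) (((a :: ρ).filter (fun k => 2 ≤ k) : List ℕ) : Multiset ℕ) {p ^ c} := by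
  have hpodd : Odd p := hp.odd_of_ne_two hp2
  have hLodd : Odd (p ^ c) := hpodd.pow
  have hL5 : 5 ≤ p ^ c := by
    rw [← hsum, List.sum_cons]; omega
  obtain ⟨hnd, hlen⟩ := finRange_facts (p ^ c)
  have hsum' : (a :: ρ).sum ≤ (List.finRange (p ^ c)).length := by rw [hlen, hsum]
  have h1le : ∀ k ∈ a :: ρ, 1 ≤ k := by
    intro k hk
    obtain ⟨i, rfl⟩ := hlam k hk
    exact Nat.one_le_pow _ _ hp.pos
  have hallodd : ∀ x ∈ a :: ρ, Odd x := by
    intro k hk
    obtain ⟨i, rfl⟩ := hlam k hk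
    exact hpodd.pow
  have hoddlen : Odd (a :: ρ).length := (odd_sum_iff_odd_length _ hallodd).mp (hsum ▸ hLodd)
  have hdup : ¬ (a :: ρ).Nodup := by
    have := not_nodup_of_sum_eq_pow p hp c ((a :: ρ : List ℕ) : Multiset ℕ)
      (by simpa using hlam) (by simpa using hsum) (by
        rcases ρ with _ | ⟨b, ρ⟩
        · exact absurd rfl hρ
        · simp)
    simpa using this
  obtain ⟨Bs, hBs⟩ : ∃ Bs, Bs = chunks (a :: ρ) (List.finRange (p ^ c)) := ⟨_, rfl⟩
  have hfl : Bs.flatten = List.finRange (p ^ c) := by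
    rw [hBs]; exact chunks_flatten _ _ (by rw [hlen, hsum])
  have hml : Bs.map List.length = a :: ρ := by
    rw [hBs]; exact chunks_map_length _ _ hsum'
  have hne : ∀ B ∈ Bs, B ≠ [] := by
    rw [hBs]; exact chunks_ne_nil _ _ hsum' h1le
  have hlenBs : Bs.length = (a :: ρ).length := by
    rw [hBs]; exact chunks_length _ _
  have hnd' : Bs.flatten.Nodup := by rw [hfl]; exact hnd
  have hflen : Bs.flatten.length = p ^ c := by rw [hfl, hlen]
  obtain ⟨i, j, hij, hget⟩ := exists_dup_idx Bs (by rw [hml]; exact hdup)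
  have hoddi : Odd (Bs.get i).length := by
    apply hallodd
    rw [← hml]
    exact List.mem_map_of_mem (List.get_mem _ _)
  -- the first block
  have hchunk : Bs =
      (List.finRange (p ^ c)).take a :: chunks ρ ((List.finRange (p ^ c)).drop a) := hBs
  have htake : 5 ≤ ((List.finRange (p ^ c)).take a).length := by
    rw [List.length_take, hlen]
    simp only [List.sum_cons] at hsum
    omega
  obtain ⟨x₀, x₁, x₂, x₃, x₄, tl, hx⟩ := exists_cons5 _ htake
  rw [hx] at hchunk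
  obtain ⟨rest, hrest⟩ : ∃ rest, rest = chunks ρ ((List.finRange (p ^ c)).drop a) := ⟨_, rfl⟩
  rw [← hrest] at hchunk
  have hC := ppC p hp hp2 x₀ x₁ x₂ x₃ x₄ tl rest (hchunk ▸ hnd')
    (fun B hB => hne B (by rw [hchunk]; exact List.mem_cons_of_mem _ hB))
    (by rw [← hchunk, hlenBs]; exact hoddlen)
    (by rw [← hchunk, hflen]; exact hLodd)
  rw [← hchunk] at hC
  have hw : (swap x₁ x₃ * List.formPerm Bs.flatten * swap x₁ x₃).cycleType = {p ^ c} := by
    rw [cycleType_swap_conj, cycleType_formPerm_nodup _ hnd' (by rw [hflen]; omega), hflen]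
  have key := isAtom2_of_blocks_dup p (p ^ c) Bs hnd' _ hw hC i j hij hget hoddi
  rwa [hml] at key


/-- at least two 3-cycles against a long cycle, `L ≥ 13` odd -/
theorem atom_3b (p : ℕ) (hp : p.Prime) (hp2 : p ≠ 2) (L : ℕ) (hL13 : 13 ≤ L) (hodd : Odd L) (t : ℕ)
    (ht : 2 ≤ t) (h3t : 3 * t ≤ L) : IsAtom2 p L (Multiset.replicate t 3) {L} := by
  obtain ⟨hnd, hlen⟩ := finRange_facts L
  obtain ⟨ks, hks⟩ : ∃ ks, ks = List.replicate (t - 2) 3 ++ List.replicate (L - 3 * t) 1 := ⟨_, rfl⟩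
  have hkssum : ks.sum = L - 6 := by
    rw [hks, List.sum_append, List.sum_replicate, List.sum_replicate]
    simp only [smul_eq_mul, mul_one]
    omega
  have hsum : (3 :: 3 :: ks).sum = L := by
    simp only [List.sum_cons, hkssum]; omega
  have hallodd : ∀ x ∈ 3 :: 3 :: ks, Odd x := by
    intro x hx
    simp only [hks, List.mem_cons, List.mem_append, List.mem_replicate] at hx
    rcases hx with rfl | rfl | ⟨_, rfl⟩ | ⟨_, rfl⟩ <;> decide
  have h1le : ∀ k ∈ 3 :: 3 :: ks, 1 ≤ k := fun k hk => (hallodd k hk).pos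
  have hoddlen : Odd (3 :: 3 :: ks).length := (odd_sum_iff_odd_length _ hallodd).mp (hsum ▸ hodd)
  have hsum' : (3 :: 3 :: ks).sum ≤ (List.finRange L).length := by rw [hlen, hsum]
  obtain ⟨Bs, hBs⟩ : ∃ Bs, Bs = chunks (3 :: 3 :: ks) (List.finRange L) := ⟨_, rfl⟩
  have hfl : Bs.flatten = List.finRange L := by
    rw [hBs]; exact chunks_flatten _ _ (by rw [hlen, hsum])
  have hml : Bs.map List.length = 3 :: 3 :: ks := by
    rw [hBs]; exact chunks_map_length _ _ hsum'
  have hne : ∀ B ∈ Bs, B ≠ [] := by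
    rw [hBs]; exact chunks_ne_nil _ _ hsum' h1le
  have hlenBs : Bs.length = (3 :: 3 :: ks).length := by
    rw [hBs]; exact chunks_length _ _
  have hnd' : Bs.flatten.Nodup := by rw [hfl]; exact hnd
  have hflen : Bs.flatten.length = L := by rw [hfl, hlen]
  obtain ⟨b₁, b₂, b₃, c₁, c₂, c₃, x₆, tl, hxs⟩ := exists_cons7 (List.finRange L) (by omega)
  obtain ⟨rest, hrest⟩ : ∃ rest, rest = chunks ks (x₆ :: tl) := ⟨_, rfl⟩
  have hchunk : Bs = [b₁, b₂, b₃] :: [c₁, c₂, c₃] :: rest := by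
    rw [hBs, hxs, hrest]
    rfl
  have hC := ppC3b p hp hp2 b₁ b₂ b₃ c₁ c₂ c₃ rest (hchunk ▸ hnd')
    (fun B hB => hne B (by rw [hchunk]; exact List.mem_cons_of_mem _ (List.mem_cons_of_mem _ hB)))
    (by rw [← hchunk, hlenBs]; exact hoddlen)
    (by rw [← hchunk, hflen]; exact hL13)
  rw [← hchunk] at hC
  have hw : (swap b₂ c₂ * List.formPerm Bs.flatten * swap b₂ c₂).cycleType = {L} := by
    rw [cycleType_swap_conj, cycleType_formPerm_nodup _ hnd' (by rw [hflen]; omega), hflen]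
  have hlen2 : 2 ≤ Bs.length := by rw [hchunk]; simp
  have key := isAtom2_of_blocks_dup p L Bs hnd' _ hw hC ⟨0, by omega⟩ ⟨1, by omega⟩
    (by simp [Fin.ext_iff]) (by subst hchunk; rfl) (by subst hchunk; exact ⟨1, rfl⟩)
  rw [hml] at key
  convert key using 1
  rw [hks]
  have : t = (t - 2) + 1 + 1 := by omega
  conv_lhs => rw [this]
  simp [List.filter_append, ← Multiset.coe_replicate]


/-- all parts `1` or `3`, at least one `3`, `L = 3 ^ c ≥ 9` -/
theorem atom_3 (c : ℕ) (hL : 5 ≤ 3 ^ c) (t : ℕ) (ht : 1 ≤ t) (h3t : 3 * t ≤ 3 ^ c) :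
    IsAtom2 3 (3 ^ c) (Multiset.replicate t 3) {3 ^ c} := by
  have hp : (3 : ℕ).Prime := by norm_num
  rcases Nat.lt_or_ge t 2 with h | h
  · have : t = 1 := by omega
    subst this
    exact atom_3a 3 hp (by norm_num) _ hL
  · rcases c with _ | _ | _ | c
    · norm_num at hL
    · norm_num at hL
    · norm_num at h3t ⊢
      have : t = 2 ∨ t = 3 := by omega
      rcases this with rfl | rfl
      · exact atom_3_9a
      · exact atom_3_9b
    · have h27 : 27 ≤ 3 ^ (c + 1 + 1 + 1) := by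
        have : 1 ≤ 3 ^ c := Nat.one_le_pow _ _ (by norm_num)
        rw [pow_succ, pow_succ, pow_succ]; omega
      exact atom_3b 3 hp (by norm_num) _ (by omega) (Odd.pow (by decide)) t h h3t

theorem atom_big (p : ℕ) (hp : p.Prime) (hp2 : p ≠ 2) (c : ℕ) (hL : 5 ≤ p ^ c) (lam : Multiset ℕ)
    (hlam : ∀ x ∈ lam, ∃ i, x = p ^ i) (hsum : lam.sum = p ^ c) (h2 : ∃ x ∈ lam, 2 ≤ x) :
    IsAtom2 p (p ^ c) (lam.filter (fun k => 2 ≤ k)) {p ^ c} := by
  have hpodd : Odd p := hp.odd_of_ne_two hp2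
  have hLodd : Odd (p ^ c) := hpodd.pow
  have hp3 : 3 ≤ p := by
    have := hp.two_le
    omega
  by_cases h5 : ∃ a ∈ lam, 5 ≤ a
  · obtain ⟨a, ha, ha5⟩ := h5
    obtain ⟨ρ, rfl⟩ := Multiset.exists_cons_of_mem ha
    by_cases hρ : ρ = 0
    · subst hρ
      simp only [Multiset.cons_zero, Multiset.sum_singleton] at hsum
      subst hsum
      have hf : Multiset.filter (fun k => 2 ≤ k) ({p ^ c} : Multiset ℕ) = {p ^ c} := by
        rw [Multiset.filter_eq_self]
        intro x hx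
        rw [Multiset.mem_singleton] at hx
        omega
      rw [Multiset.cons_zero, hf]
      by_cases h57 : p ^ c = 5
      · have hc0 : c ≠ 0 := by
          rintro rfl
          norm_num at h57
        have hp5 : p = 5 := by
          have : p ∣ 5 := by rw [← h57]; exact dvd_pow_self p hc0
          exact (Nat.prime_dvd_prime_iff_eq hp (by norm_num)).mp this
        subst hp5
        have hc1 : c = 1 := by
          have : (5 : ℕ) ^ c = 5 ^ 1 := by rw [h57]; norm_num
          exact Nat.pow_right_injective (le_refl 2 |>.trans (by norm_num)) this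
        subst hc1
        exact atom_5_5
      · have h7 : 7 ≤ p ^ c := by
          rcases hLodd with ⟨k, hk⟩
          omega
        exact atom_single p hp hp2 _ h7 hLodd
    · obtain ⟨l, rfl⟩ : ∃ l : List ℕ, ρ = l := ⟨ρ.toList, (Multiset.coe_toList ρ).symm⟩
      have := atom_C p hp hp2 c a ha5 l (by simpa using hρ) (by simpa using hlam) (by simpa using hsum)
      simpa using this
  · -- all parts `< 5`
    push Not at h5
    have hparts : ∀ x ∈ lam, x = 1 ∨ (x = 3 ∧ p = 3) := by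
      intro x hx
      have hx5 := h5 x hx
      obtain ⟨i, rfl⟩ := hlam x hx
      rcases i with _ | _ | i
      · left; simp
      · right
        simp only [zero_add, pow_one] at hx5 ⊢
        have : p ≠ 4 := by
          rintro rfl
          norm_num at hp
        omega
      · exfalso
        have : 3 ^ (i + 1 + 1) ≤ p ^ (i + 1 + 1) := Nat.pow_le_pow_left hp3 _
        have h9 : 9 ≤ 3 ^ (i + 1 + 1) := by
          have : 1 ≤ 3 ^ i := Nat.one_le_pow _ _ (by norm_num)
          rw [pow_succ, pow_succ]; omega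
        omega
    obtain ⟨x, hx, hx2⟩ := h2
    have hp3' : p = 3 := by
      rcases hparts x hx with rfl | ⟨_, h⟩
      · omega
      · exact h
    subst hp3'
    have hfilt : lam.filter (fun k => 2 ≤ k) = Multiset.replicate (lam.filter (fun k => 2 ≤ k)).card 3 := by
      rw [Multiset.eq_replicate]
      refine ⟨rfl, ?_⟩
      intro b hb
      rw [Multiset.mem_filter] at hb
      rcases hparts b hb.1 with rfl | ⟨h, _⟩
      · omega
      · exact h
    have hcard1 : 1 ≤ (lam.filter (fun k => 2 ≤ k)).card := by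
      rw [Nat.one_le_iff_ne_zero, Ne, Multiset.card_eq_zero]
      intro h0
      have : x ∈ lam.filter (fun k => 2 ≤ k) := Multiset.mem_filter.mpr ⟨hx, hx2⟩
      rw [h0] at this
      simp at this
    have hle : 3 * (lam.filter (fun k => 2 ≤ k)).card ≤ 3 ^ c := by
      have h1 : (lam.filter (fun k => 2 ≤ k)).sum ≤ lam.sum := by
        conv_rhs => rw [← Multiset.filter_add_not (fun k => 2 ≤ k) lam]
        rw [Multiset.sum_add]
        omega
      rw [hfilt, Multiset.sum_replicate, hsum] at h1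
      simp only [smul_eq_mul] at h1
      omega
    rw [hfilt]
    exact atom_3 c hL _ hcard1 hle


/-! ## Assembly part 4: all cycle types -/

theorem ext3 {m a₁ b₁ : ℕ} (base : IsAtom2 3 m (Multiset.replicate a₁ 3) (Multiset.replicate b₁ 3))
    (n a b : ℕ) (hmn : m ≤ n) (ha : a₁ ≤ a) (hb : b₁ ≤ b) (h1 : 3 * (a - a₁) ≤ n - m)
    (h2 : 3 * (b - b₁) ≤ n - m) :
    IsAtom2 3 n (Multiset.replicate a 3) (Multiset.replicate b 3) := by
  have hp : (3 : ℕ).Prime := by norm_num
  have := IsAtom2.extend hp base (n - m) (Multiset.replicate (a - a₁) 3) (Multiset.replicate (b - b₁) 3)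
    (by simp only [Multiset.sum_replicate, smul_eq_mul]; omega)
    (by simp only [Multiset.sum_replicate, smul_eq_mul]; omega)
    (by intro x hx; rw [Multiset.eq_of_mem_replicate hx]; norm_num)
    (by intro x hx; rw [Multiset.eq_of_mem_replicate hx]; norm_num)
  rw [← Multiset.replicate_add, ← Multiset.replicate_add] at this
  have e1 : m + (n - m) = n := by omega
  have e2 : a₁ + (a - a₁) = a := by omega
  have e3 : b₁ + (b - b₁) = b := by omega
  rwa [e1, e2, e3] at this

theorem atom3_all (n : ℕ) (hn : 5 ≤ n) (a a' : ℕ) (ha : 1 ≤ a) (ha' : 1 ≤ a') (h : 3 * a ≤ n)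
    (h' : 3 * a' ≤ n) : IsAtom2 3 n (Multiset.replicate a 3) (Multiset.replicate a' 3) := by
  by_cases h22 : 2 ≤ a ∧ 2 ≤ a'
  · exact ext3 (m := 6) (a₁ := 2) (b₁ := 2) atom_3_6b n a a' (by omega) h22.1 h22.2 (by omega) (by omega)
  · by_cases h2 : 2 ≤ a
    · exact ext3 (m := 6) (a₁ := 2) (b₁ := 1) atom_3_6a n a a' (by omega) h2 ha' (by omega) (by omega)
    · by_cases h2' : 2 ≤ a'
      · exact (ext3 (m := 6) (a₁ := 2) (b₁ := 1) atom_3_6a n a' a (by omega) h2' ha (by omega)
          (by omega)).symm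
      · exact ext3 (m := 5) (a₁ := 1) (b₁ := 1) atom_3_5 n a a' (by omega) ha ha' (by omega) (by omega)

theorem isAtom2_of_le (n : ℕ) (hn : 5 ≤ n) (p : ℕ) (hp : p.Prime) (hp2 : p ≠ 2) (μ ν : Multiset ℕ)
    (hμ0 : μ ≠ 0) (hμ : ∀ x ∈ μ, ∃ i, 1 ≤ i ∧ x = p ^ i) (hν : ∀ x ∈ ν, ∃ i, 1 ≤ i ∧ x = p ^ i)
    (hμn : μ.sum ≤ n) (hνn : ν.sum ≤ n) (c : ℕ) (hc : p ^ c ∈ ν) (hmaxμ : ∀ x ∈ μ, x ≤ p ^ c)
    (hmaxν : ∀ x ∈ ν, x ≤ p ^ c) : IsAtom2 p n μ ν := by
  have hp3 : 3 ≤ p := by
    have := hp.two_le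
    omega
  rcases Nat.lt_or_ge (p ^ c) 5 with hL | hL
  · -- only 3-cycles
    obtain ⟨i, hi, hci⟩ := hν _ hc
    have hple : p ≤ p ^ c := by
      rw [hci]
      exact Nat.le_self_pow (by omega) p
    have hp3' : p = 3 := by
      have : p ≠ 4 := by
        rintro rfl
        norm_num at hp
      omega
    subst hp3'
    have hall : ∀ (σ : Multiset ℕ), (∀ x ∈ σ, ∃ i, 1 ≤ i ∧ x = 3 ^ i) → (∀ x ∈ σ, x ≤ 3 ^ c) →
        σ = Multiset.replicate σ.card 3 := by
      intro σ h1 h2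
      rw [Multiset.eq_replicate]
      refine ⟨rfl, ?_⟩
      intro b hb
      obtain ⟨j, hj, rfl⟩ := h1 b hb
      have := h2 _ hb
      rcases j with _ | _ | j
      · omega
      · simp
      · exfalso
        have h9 : 9 ≤ 3 ^ (j + 1 + 1) := by
          have : 1 ≤ 3 ^ j := Nat.one_le_pow _ _ (by norm_num)
          rw [pow_succ, pow_succ]; omega
        omega
    have e1 := hall μ hμ hmaxμ
    have e2 := hall ν hν hmaxν
    have hν0 : ν ≠ 0 := by
      rintro rfl
      simp at hc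
    have hcμ : 1 ≤ μ.card := by
      rw [Nat.one_le_iff_ne_zero, Ne, Multiset.card_eq_zero]; exact hμ0
    have hcν : 1 ≤ ν.card := by
      rw [Nat.one_le_iff_ne_zero, Ne, Multiset.card_eq_zero]; exact hν0
    rw [e1, e2]
    apply atom3_all n hn _ _ hcμ hcν
    · rw [e1, Multiset.sum_replicate] at hμn
      simp only [smul_eq_mul] at hμn
      omega
    · rw [e2, Multiset.sum_replicate] at hνn
      simp only [smul_eq_mul] at hνn
      omega
  · -- the large case
    obtain ⟨ν₂, rfl⟩ := Multiset.exists_cons_of_mem hc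
    rw [Multiset.sum_cons] at hνn
    have hpos : ∀ x ∈ μ, 2 ≤ x := by
      intro x hx
      obtain ⟨i, hi, rfl⟩ := hμ x hx
      calc 2 ≤ p := hp.two_le
        _ ≤ p ^ i := Nat.le_self_pow (by omega) p
    have hsplit : ∃ (μ₁ μ₂ : Multiset ℕ) (j : ℕ), μ₁ + μ₂ = μ ∧ μ₁ ≠ 0 ∧ μ₁.sum + j = p ^ c ∧
        μ₂.sum ≤ n - p ^ c := by
      by_cases hle : p ^ c ≤ μ.sum
      · obtain ⟨t, ht, hts⟩ := exists_le_sum_eq p hp c μ (by
          intro x hx
          obtain ⟨i, hi, rfl⟩ := hμ x hx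
          exact ⟨i, (Nat.pow_le_pow_iff_right hp.one_lt).mp (hmaxμ _ hx), rfl⟩) (p ^ c) dvd_rfl hle
        refine ⟨t, μ - t, 0, add_tsub_cancel_of_le ht, ?_, by simpa using hts, ?_⟩
        · rintro rfl
          simp at hts
          omega
        · have : t.sum + (μ - t).sum = μ.sum := by
            rw [← Multiset.sum_add, add_tsub_cancel_of_le ht]
          omega
      · refine ⟨μ, 0, p ^ c - μ.sum, by simp, hμ0, by omega, by simp⟩
    obtain ⟨μ₁, μ₂, j, rfl, hμ₁0, hsum1, hμ₂⟩ := hsplit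
    have hbig := atom_big p hp hp2 c hL (μ₁ + Multiset.replicate j 1)
      (by
        intro x hx
        rcases Multiset.mem_add.mp hx with h | h
        · obtain ⟨i, _, rfl⟩ := hμ x (Multiset.mem_add.mpr (Or.inl h))
          exact ⟨i, rfl⟩
        · exact ⟨0, by rw [Multiset.eq_of_mem_replicate h]; simp⟩)
      (by rw [Multiset.sum_add, Multiset.sum_replicate]; simpa using hsum1)
      (by
        obtain ⟨x, hx⟩ := Multiset.exists_mem_of_ne_zero hμ₁0
        exact ⟨x, Multiset.mem_add.mpr (Or.inl hx), hpos x (Multiset.mem_add.mpr (Or.inl hx))⟩)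
    have hfilter : (μ₁ + Multiset.replicate j 1).filter (fun k => 2 ≤ k) = μ₁ := by
      rw [Multiset.filter_add, Multiset.filter_eq_self.mpr, Multiset.filter_eq_nil.mpr, add_zero]
      · intro x hx
        rw [Multiset.eq_of_mem_replicate hx]; norm_num
      · intro x hx
        exact hpos x (Multiset.mem_add.mpr (Or.inl hx))
    rw [hfilter] at hbig
    have hext := IsAtom2.extend hp hbig (n - p ^ c) μ₂ ν₂ hμ₂ (by omega)
      (fun x hx => hpos x (Multiset.mem_add.mpr (Or.inr hx)))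
      (by
        intro x hx
        obtain ⟨i, hi, rfl⟩ := hν x (Multiset.mem_cons_of_mem hx)
        calc 2 ≤ p := hp.two_le
          _ ≤ p ^ i := Nat.le_self_pow (by omega) p)
    have e1 : p ^ c + (n - p ^ c) = n := by omega
    rw [e1, Multiset.singleton_add] at hext
    exact hext

theorem isAtom2_main (n : ℕ) (hn : 5 ≤ n) (p : ℕ) (hp : p.Prime) (hp2 : p ≠ 2) (μ ν : Multiset ℕ)
    (hμ0 : μ ≠ 0) (hν0 : ν ≠ 0) (hμ : ∀ x ∈ μ, ∃ i, 1 ≤ i ∧ x = p ^ i)
    (hν : ∀ x ∈ ν, ∃ i, 1 ≤ i ∧ x = p ^ i) (hμn : μ.sum ≤ n) (hνn : ν.sum ≤ n) :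
    IsAtom2 p n μ ν := by
  have hne : (μ + ν).toFinset.Nonempty := by
    obtain ⟨x, hx⟩ := Multiset.exists_mem_of_ne_zero hμ0
    exact ⟨x, Multiset.mem_toFinset.mpr (Multiset.mem_add.mpr (Or.inl hx))⟩
  have hM : (μ + ν).toFinset.max' hne ∈ μ + ν := Multiset.mem_toFinset.mp (Finset.max'_mem _ _)
  have hmax : ∀ x ∈ μ + ν, x ≤ (μ + ν).toFinset.max' hne :=
    fun x hx => Finset.le_max' _ _ (Multiset.mem_toFinset.mpr hx)
  rcases Multiset.mem_add.mp hM with h | h
  · obtain ⟨i, hi, hMi⟩ := hμ _ h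
    rw [hMi] at h hmax
    exact (isAtom2_of_le n hn p hp hp2 ν μ hν0 hν hμ hνn hμn i h
      (fun x hx => hmax x (Multiset.mem_add.mpr (Or.inr hx)))
      (fun x hx => hmax x (Multiset.mem_add.mpr (Or.inl hx)))).symm
  · obtain ⟨i, hi, hMi⟩ := hν _ h
    rw [hMi] at h hmax
    exact isAtom2_of_le n hn p hp hp2 μ ν hμ0 hμ hν hμn hνn i h
      (fun x hx => hmax x (Multiset.mem_add.mpr (Or.inl hx)))
      (fun x hx => hmax x (Multiset.mem_add.mpr (Or.inr hx)))


/-! ## Assembly part 5: the alternating group -/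

theorem exists_conj_PP (n : ℕ) (hn : 5 ≤ n) (p : ℕ) (hp : p.Prime) (hp2 : p ≠ 2)
    (u w : Perm (Fin n)) (hu1 : u ≠ 1) (hw1 : w ≠ 1) (hu : ∃ k : ℕ, orderOf u = p ^ k)
    (hw : ∃ k : ℕ, orderOf w = p ^ k) :
    ∃ g : Perm (Fin n), Perm.sign g = 1 ∧ PP p u (g * w * g⁻¹) := by
  have hparts : ∀ σ : Perm (Fin n), (∃ k : ℕ, orderOf σ = p ^ k) →
      ∀ x ∈ σ.cycleType, ∃ i, 1 ≤ i ∧ x = p ^ i := by
    intro σ ⟨k, hk⟩ x hx
    have hdvd : x ∣ p ^ k := hk ▸ Perm.dvd_of_mem_cycleType hx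
    obtain ⟨i, _, rfl⟩ := (Nat.dvd_prime_pow hp).mp hdvd
    refine ⟨i, ?_, rfl⟩
    have h2 := Perm.two_le_of_mem_cycleType hx
    rcases i with _ | i
    · simp at h2
    · omega
  have hsum : ∀ σ : Perm (Fin n), σ.cycleType.sum ≤ n := by
    intro σ
    rw [Perm.sum_cycleType]
    calc σ.support.card ≤ Fintype.card (Fin n) := Finset.card_le_univ _
      _ = n := Fintype.card_fin n
  have hne : ∀ σ : Perm (Fin n), σ ≠ 1 → σ.cycleType ≠ 0 := by
    intro σ h1 h0
    exact h1 (Perm.cycleType_eq_zero.mp h0)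
  obtain ⟨u', w', o, hu', hw', ho, h1, h2⟩ :=
    isAtom2_main n hn p hp hp2 u.cycleType w.cycleType (hne u hu1) (hne w hw1) (hparts u hu)
      (hparts w hw) (hsum u) (hsum w)
  obtain ⟨a, ha⟩ := isConj_iff.mp ((Perm.isConj_iff_cycleType_eq).mpr hu')
  obtain ⟨b, hb⟩ := isConj_iff.mp ((Perm.isConj_iff_cycleType_eq).mpr hw'.symm)
  -- ha : a * u' * a⁻¹ = u, hb : b * w * b⁻¹ = w'
  have hg1 : PP p u ((a * b) * w * (a * b)⁻¹) := by
    have := PP_conj p a h1
    rw [ha, ← hb] at this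
    have e : a * b * w * (a * b)⁻¹ = a * (b * w * b⁻¹) * a⁻¹ := by group
    rwa [e]
  have hg2 : PP p u ((a * o * b) * w * (a * o * b)⁻¹) := by
    have := PP_conj p a h2
    rw [ha, ← hb] at this
    have e : a * o * b * w * (a * o * b)⁻¹ = a * (o * (b * w * b⁻¹) * o⁻¹) * a⁻¹ := by group
    rwa [e]
  rcases Int.units_eq_one_or (Perm.sign (a * b)) with hs | hs
  · exact ⟨a * b, hs, hg1⟩
  · refine ⟨a * o * b, ?_, hg2⟩
    rw [Perm.sign_mul] at hs
    rw [Perm.sign_mul, Perm.sign_mul, ho]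
    calc Perm.sign a * -1 * Perm.sign b = -(Perm.sign a * Perm.sign b) := by
          rw [mul_neg, mul_one, neg_mul]
      _ = 1 := by rw [hs, neg_neg]

theorem alternating_final (n : ℕ) (hn : 5 ≤ n) (p : ℕ) (hp : p.Prime) (hp3 : 3 ≤ p)
    (u w : alternatingGroup (Fin n)) (hu : u ≠ 1) (hw : w ≠ 1)
    (hu' : ∃ k : ℕ, orderOf u = p ^ k) (hw' : ∃ k : ℕ, orderOf w = p ^ k) :
    ∃ g : alternatingGroup (Fin n), (¬ ∃ k : ℕ, orderOf (u * (g * w * g⁻¹)) = p ^ k) ∧
      ¬ Group.IsSolvable ↥(Subgroup.closure ({u, g * w * g⁻¹} : Set (alternatingGroup (Fin n)))) := by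
  have hp2 : p ≠ 2 := by omega
  obtain ⟨g, hg, hPP⟩ := exists_conj_PP n hn p hp hp2 u.1 w.1
    (fun h => hu (Subtype.ext h)) (fun h => hw (Subtype.ext h))
    (by simpa [Subgroup.orderOf_coe] using hu') (by simpa [Subgroup.orderOf_coe] using hw')
  refine ⟨⟨g, Perm.mem_alternatingGroup.mpr hg⟩, ?_⟩
  have := (PP_map_iff p (alternatingGroup (Fin n)).subtype (Subgroup.subtype_injective _) u
    (⟨g, Perm.mem_alternatingGroup.mpr hg⟩ * w * ⟨g, Perm.mem_alternatingGroup.mpr hg⟩⁻¹)).mp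
    (by simpa using hPP)
  exact this


end Cfsg.Agent.Lib.Helper8.AltP
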