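import Mathlib
import Cfsg.Agent.Lib.Helper8.AltPDefs
import Cfsg.Agent.Lib.Helper8.AltPCyc
import Cfsg.Agent.Lib.Lead.AltPGrp
import Cfsg.Agent.Lib.Lead.AltPA5
import Cfsg.Agent.Lib.Helper7.AltPUZ

/-! # S2276 PK-C: the main atom `ppC` -/

set_option autoImplicit false
open Equiv Equiv.Perm

namespace Cfsg.Agent.Lib.Helper8.AltP

theorem ppC {α : Type*} [Fintype α] [DecidableEq α] (p : ℕ) (hp : p.Prime) (hp2 : p ≠ 2)
    (x₀ x₁ x₂ x₃ x₄ : α) (tl : List α) (rest : List (List α))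
    (hnd : ((x₀ :: x₁ :: x₂ :: x₃ :: x₄ :: tl) :: rest).flatten.Nodup)
    (hne : ∀ B ∈ rest, B ≠ []) (hodd : Odd ((x₀ :: x₁ :: x₂ :: x₃ :: x₄ :: tl) :: rest).length)
    (hoddL : Odd ((x₀ :: x₁ :: x₂ :: x₃ :: x₄ :: tl) :: rest).flatten.length) :
    PP p (uOf ((x₀ :: x₁ :: x₂ :: x₃ :: x₄ :: tl) :: rest))
      (swap x₁ x₃ * List.formPerm ((x₀ :: x₁ :: x₂ :: x₃ :: x₄ :: tl) :: rest).flatten * swap x₁ x₃) := by
  obtain ⟨Bs, hBs⟩ : ∃ Bs, Bs = (x₀ :: x₁ :: x₂ :: x₃ :: x₄ :: tl) :: rest := ⟨_, rfl⟩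
  obtain ⟨fl, hfl⟩ : ∃ fl, fl = tl ++ rest.flatten := ⟨_, rfl⟩
  have hflat : Bs.flatten = x₀ :: x₁ :: x₂ :: x₃ :: x₄ :: fl := by
    rw [hBs, hfl]; simp
  rw [← hBs] at hnd hodd hoddL ⊢
  have hneBs : ∀ B ∈ Bs, B ≠ [] := by
    intro B hB
    rw [hBs] at hB
    rcases List.mem_cons.mp hB with rfl | h
    · simp
    · exact hne B h
  have hnd5 : (x₀ :: x₁ :: x₂ :: x₃ :: x₄ :: fl).Nodup := hflat ▸ hnd
  -- distinctness facts
  have hd := hnd5
  simp only [List.nodup_cons, List.mem_cons, not_or] at hd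
  obtain ⟨⟨h01, h02, h03, h04, h0f⟩, ⟨h12, h13, h14, h1f⟩, ⟨h23, h24, h2f⟩, ⟨h34, h3f⟩, h4f, hfnd⟩ := hd
  set z := List.formPerm Bs.flatten with hz
  set κ := swap x₀ x₂ * swap x₁ x₃ with hκ
  set ε := List.formPerm (endsOf Bs) with hε
  have hLlen : Bs.flatten.length = fl.length + 5 := by rw [hflat]; simp
  have hL5 : 5 ≤ Bs.flatten.length := by omega
  -- values of z
  have hz0 : z x₀ = x₁ := by
    rw [hz, hflat]; exact List.formPerm_apply_head _ _ _ hnd5
  have hzi : ∀ (i : ℕ) (hi : i + 1 < (x₀ :: x₁ :: x₂ :: x₃ :: x₄ :: fl).length),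
      z ((x₀ :: x₁ :: x₂ :: x₃ :: x₄ :: fl)[i]) = (x₀ :: x₁ :: x₂ :: x₃ :: x₄ :: fl)[i + 1] := by
    intro i hi
    rw [hz, hflat]
    exact List.formPerm_apply_lt_getElem _ hnd5 i hi
  have hz1 : z x₁ = x₂ := hzi 1 (by simp)
  have hz2 : z x₂ = x₃ := hzi 2 (by simp)
  have hz3 : z x₃ = x₄ := hzi 3 (by simp)
  -- w = z * κ
  have hwz : swap x₁ x₃ * z * swap x₁ x₃ = z * κ := by
    have h1 : z * swap x₀ x₂ * z⁻¹ = swap x₁ x₃ := by
      rw [← Equiv.swap_apply_apply, hz0, hz2]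
    have h2 : swap x₁ x₃ * z = z * swap x₀ x₂ := by
      rw [← h1]; group
    rw [h2, hκ, mul_assoc]
  set w := swap x₁ x₃ * z * swap x₁ x₃ with hw
  -- u * w = ε * κ
  have huw : uOf Bs * w = ε * κ := by
    rw [hwz, ← mul_assoc, uOf_mul_formPerm Bs hnd hneBs]
  -- x₀..x₃ are not ends
  have hends : ∀ x ∈ endsOf Bs, x ≠ x₀ ∧ x ≠ x₁ ∧ x ≠ x₂ ∧ x ≠ x₃ := by
    intro x hx
    rw [hBs, endsOf_cons_of_ne _ (by simp)] at hx
    have hmem : x ∈ x₄ :: fl := by
      rcases List.mem_cons.mp hx with rfl | h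
      · have : (x₀ :: x₁ :: x₂ :: x₃ :: x₄ :: tl).getLast (by simp) = (x₄ :: tl).getLast (by simp) := by
          simp [List.getLast_cons]
        rw [this, hfl]
        have := List.getLast_mem (l := x₄ :: tl) (by simp)
        rcases List.mem_cons.mp this with h | h
        · rw [h]; simp
        · exact List.mem_cons_of_mem _ (List.mem_append_left _ h)
      · rw [hfl]
        exact List.mem_cons_of_mem _ (List.mem_append_right _ (endsOf_mem_flatten rest x h))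
    refine ⟨?_, ?_, ?_, ?_⟩ <;> rintro rfl <;> rcases List.mem_cons.mp hmem with h | h
    · exact h04 h
    · exact h0f h
    · exact h14 h
    · exact h1f h
    · exact h24 h
    · exact h2f h
    · exact h34 h
    · exact h3f h
  have hεfix : ∀ x, (x = x₀ ∨ x = x₁ ∨ x = x₂ ∨ x = x₃) → ε x = x := by
    intro x hx
    apply List.formPerm_apply_of_notMem
    intro hmem
    obtain ⟨a0, a1, a2, a3⟩ := hends x hmem
    rcases hx with h | h | h | h
    · exact a0 h
    · exact a1 h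
    · exact a2 h
    · exact a3 h
  have hdisj : Perm.Disjoint ε κ := by
    intro x
    by_cases hx : x = x₀ ∨ x = x₁ ∨ x = x₂ ∨ x = x₃
    · exact Or.inl (hεfix x hx)
    · right
      push Not at hx
      obtain ⟨a0, a1, a2, a3⟩ := hx
      rw [hκ, Perm.mul_apply, swap_apply_of_ne_of_ne a1 a3, swap_apply_of_ne_of_ne a0 a2]
  have hκ2 : κ * κ = 1 := by
    have hc : swap x₀ x₂ * swap x₁ x₃ = swap x₁ x₃ * swap x₀ x₂ := by
      apply Perm.Disjoint.commute
      rw [Perm.disjoint_iff_disjoint_support, support_swap h02, support_swap h13]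
      simp only [Finset.disjoint_insert_left, Finset.mem_insert, Finset.mem_singleton, not_or,
        Finset.disjoint_singleton_left]
      exact ⟨⟨h01, h03⟩, ⟨fun h => h12 h.symm, h23⟩⟩
    calc κ * κ = swap x₀ x₂ * (swap x₁ x₃ * swap x₀ x₂) * swap x₁ x₃ := by rw [hκ]; group
      _ = swap x₀ x₂ * (swap x₀ x₂ * swap x₁ x₃) * swap x₁ x₃ := by rw [hc]
      _ = 1 := by
        rw [← mul_assoc, swap_mul_self, one_mul, swap_mul_self]
  have hκ1 : κ ≠ 1 := by
    intro h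
    have : κ x₀ = x₀ := by rw [h]; rfl
    rw [hκ, Perm.mul_apply, swap_apply_of_ne_of_ne h01 h03, swap_apply_left] at this
    exact h02 this.symm
  have hpow : (uOf Bs * w) ^ Bs.length = κ := by
    rw [huw, hdisj.commute.mul_pow, formPerm_endsOf_pow Bs hnd hneBs, one_mul,
      pow_odd_of_mul_self κ hκ2 _ hodd]
  refine ⟨not_ppow_of_pow_eq p hp hp2 _ κ _ hpow hκ2 hκ1, ?_⟩
  -- non-solvability
  have hzc : z.IsCycle := List.isCycle_formPerm hnd (by omega)
  have hwc : w.IsCycle := by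
    have : w = swap x₁ x₃ * z * (swap x₁ x₃)⁻¹ := by rw [swap_inv]
    rw [this]; exact hzc.conj
  have hword : orderOf w = Bs.flatten.length := by
    apply orderOf_of_cycleType_singleton
    have : w = swap x₁ x₃ * z * (swap x₁ x₃)⁻¹ := by rw [swap_inv]
    rw [this, cycleType_conj, hz]
    exact cycleType_formPerm_flatten Bs hnd (by omega)
  -- w-orbit of x₀
  have hw0 : w x₀ = x₃ := by
    rw [hw]
    simp only [Perm.mul_apply]
    rw [swap_apply_of_ne_of_ne h01 h03, hz0, swap_apply_left]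
  have hw3 : w x₃ = x₂ := by
    rw [hw]
    simp only [Perm.mul_apply]
    rw [swap_apply_right, hz1, swap_apply_of_ne_of_ne (fun h => h12 h.symm) h23]
  have hw2 : w x₂ = x₁ := by
    rw [hw]
    simp only [Perm.mul_apply]
    rw [swap_apply_of_ne_of_ne (fun h => h12 h.symm) h23, hz2, swap_apply_right]
  have hw_2 : (w ^ 2) x₀ = x₂ := by
    rw [pow_two, Perm.mul_apply, hw0, hw3]
  have hw_3 : (w ^ (2 + 1)) x₀ = x₁ := by
    rw [pow_succ', Perm.mul_apply, hw_2, hw2]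
  have hmemw : w ∈ Subgroup.closure ({uOf Bs, w} : Set (Perm α)) :=
    Subgroup.subset_closure (by simp)
  have hmemu : uOf Bs ∈ Subgroup.closure ({uOf Bs, w} : Set (Perm α)) :=
    Subgroup.subset_closure (by simp)
  apply not_solvable_of_pattern _ w hmemw x₀ 2
  · apply nodup_pow_list w hwc x₀ (by rw [hw0]; exact fun h => h03 h.symm) 2
    intro m hm1 hm4 hdvd
    rw [hword] at hdvd
    have : Bs.flatten.length ∣ m := by
      have hcop : Nat.Coprime Bs.flatten.length 2 := hoddL.coprime_two_right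
      exact hcop.dvd_of_dvd_mul_left hdvd
    have := Nat.le_of_dvd (by omega) this
    omega
  · rw [hw_2, hw0, hw_3, swap_comm x₃ x₁, ← hκ, ← hpow]
    exact Subgroup.pow_mem _ (Subgroup.mul_mem _ hmemu hmemw) _

end Cfsg.Agent.Lib.Helper8.AltP
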