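import Mathlib
import Cfsg.Prelude.Def_Blocks
import Cfsg.Prelude.Def_BrauerPairs
import Cfsg.Agent.Lib.Helper8.BC1

/-!
# The Brauer correspondence over a subgroup containing the normalizer (main theorem)
-/

set_option autoImplicit false
set_option maxHeartbeats 800000

namespace Cfsg.Agent.Lib.Helper8

open Cfsg
open scoped ComplexConjugate
open Cfsg.Agent.Lib.Helper1 Cfsg.Agent.Lib.Helper4

universe u

section

variable {G : Type u} [Group G] [Fintype G] {M : Ideal AlgInt} {p : ℕ} [Fact p.Prime]

theorem brauer_corr_over (hM : IsPModular p M) (P H : Subgroup G) (hP : IsPGroup p P)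
    (hH : Subgroup.normalizer (P : Set G) ≤ H) :
    (∀ B : Set (IrrCharacter G), IsPBlock M B → IsDefectGroup p M B P →
      ∃! c : Set (IrrCharacter H), IsPBlock M c ∧ IsDefectGroup p M c (P.subgroupOf H) ∧
        ∀ x : G, x ∈ Subgroup.centralizer (P : Set G) →
          MemLocalIdeal M (blockCoeff B x - subgroupBlockCoeff H c x)) ∧
    (∀ c : Set (IrrCharacter H), IsPBlock M c → IsDefectGroup p M c (P.subgroupOf H) →
      ∃! B : Set (IrrCharacter G), IsPBlock M B ∧ IsDefectGroup p M B P ∧
        ∀ x : G, x ∈ Subgroup.centralizer (P : Set G) →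
          MemLocalIdeal M (blockCoeff B x - subgroupBlockCoeff H c x)) := by
  classical
  have hMp := isPModular_isPrime hM
  have hPN : P ≤ Subgroup.normalizer (P : Set G) := Subgroup.le_normalizer
  have hPH : P ≤ H := hPN.trans hH
  have hK : Subgroup.normalizer ((P.subgroupOf H : Subgroup H) : Set H) =
      (Subgroup.normalizer (P : Set G)).subgroupOf H := (Subgroup.subgroupOf_normalizer_eq hPH).symm
  have hP' : IsPGroup p (P.subgroupOf H) := hP.comap_subtype
  set σ := subEquiv hH hK with hσ
  have hmap := map_subEquiv_subgroupOf hH hK P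
  constructor
  · intro B hB hBP
    obtain ⟨β, hβ, hβP, hi⟩ := firstMain_exists hM P hP hB hBP
    have hβ' : IsPBlock M (irrMap σ.symm '' β) := isPBlock_image_irrMap σ.symm hβ
    have hβ'P : IsDefectGroup p M (irrMap σ.symm '' β) ((P.subgroupOf H).subgroupOf
        (Subgroup.normalizer ((P.subgroupOf H : Subgroup H) : Set H))) := by
      have := isDefectGroup_image_irrMap (M := M) (p := p) σ.symm hβP
      rw [← hmap] at this
      convert this using 1
      ext k
      constructor
      · intro hk
        exact ⟨σ k, ⟨k, hk, rfl⟩, σ.symm_apply_apply k⟩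
      · rintro ⟨l, ⟨k', hk', rfl⟩, hl⟩
        have : k' = k := by
          rw [← hl]
          exact (σ.symm_apply_apply k').symm
        rw [← this]
        exact hk'
    obtain ⟨c, hc, hcP, hi'⟩ := firstMain_induce hM (P.subgroupOf H) hP' hβ' hβ'P
    have hcong := blockCoeff_cong_of_corr hM hH hK hB hBP hc hcP hβ hβP hi hβ' hβ'P hi'
      (irrMap_image_symm_image σ β).symm
    refine ⟨c, ⟨hc, hcP, hcong⟩, ?_⟩
    rintro c₂ ⟨hc₂, hc₂P, hcong₂⟩
    apply eq_of_blockCoeff_cong_centralizer hM hc₂ hc hc₂P hcP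
    intro h hh
    have hhG : (h : G) ∈ Subgroup.centralizer (P : Set G) := (mem_centralizer_subgroupOf hPH h).1 hh
    have e1 := hcong (h : G) hhG
    have e2 := hcong₂ (h : G) hhG
    rw [subgroupBlockCoeff_coe] at e1 e2
    exact cong_trans hMp (cong_symm e2) e1
  · intro c hc hcP
    obtain ⟨β', hβ', hβ'P, hi'⟩ := firstMain_exists hM (P.subgroupOf H) hP' hc hcP
    have hβ : IsPBlock M (irrMap σ '' β') := isPBlock_image_irrMap σ hβ'
    have hβP : IsDefectGroup p M (irrMap σ '' β')
        (P.subgroupOf (Subgroup.normalizer (P : Set G))) := by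
      have := isDefectGroup_image_irrMap (M := M) (p := p) σ hβ'P
      rw [hmap] at this
      exact this
    obtain ⟨B, hB, hBP, hi⟩ := firstMain_induce hM P hP hβ hβP
    have hcong := blockCoeff_cong_of_corr hM hH hK hB hBP hc hcP hβ hβP hi hβ' hβ'P hi' rfl
    refine ⟨B, ⟨hB, hBP, hcong⟩, ?_⟩
    rintro B₂ ⟨hB₂, hB₂P, hcong₂⟩
    apply eq_of_blockCoeff_cong_centralizer hM hB₂ hB hB₂P hBP
    intro x hx
    have e1 := hcong x hx
    have e2 := hcong₂ x hx
    exact cong_trans hMp e2 (cong_symm e1)

end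

end Cfsg.Agent.Lib.Helper8
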