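import Mathlib

set_option autoImplicit false

/-!
# Class sizes and Brauer–Fowler counting

`cs x` is the class size of `x` (index of the centralizer), `cl x` its set of conjugates.
`card_le_mul_card_small`: if an element `t` with `t * t = 1` has `|C_G(t)| ≤ c` then at least
`|G| / (2c²)` elements of `G` have class size at most `2c²`.
-/

namespace Cfsg.Agent.Lib.Helper8.BD

open Subgroup

section basic

variable {G : Type*} [Group G]

/-- The class size of `x`: the index of its centralizer. -/
noncomputable def cs (x : G) : ℕ := (centralizer ({x} : Set G)).index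

theorem cs_one : cs (1 : G) = 1 := by
  unfold cs
  have : centralizer ({1} : Set G) = ⊤ := by
    rw [eq_top_iff]
    intro g _
    rw [mem_centralizer_singleton_iff]
    simp
  rw [this, index_top]

theorem centralizer_inv (x : G) : centralizer ({x⁻¹} : Set G) = centralizer ({x} : Set G) := by
  ext g
  rw [mem_centralizer_singleton_iff, mem_centralizer_singleton_iff]
  constructor
  · intro h
    have : x * (g * x⁻¹) * x = x * (x⁻¹ * g) * x := by rw [h]
    simpa [mul_assoc] using this.symm
  · intro h
    have : x⁻¹ * (g * x) * x⁻¹ = x⁻¹ * (x * g) * x⁻¹ := by rw [h]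
    simpa [mul_assoc] using this.symm

theorem cs_inv (x : G) : cs x⁻¹ = cs x := by
  unfold cs
  rw [centralizer_inv]

theorem cs_pos [Finite G] (x : G) : 0 < cs x :=
  Nat.pos_of_ne_zero index_ne_zero_of_finite

theorem cs_mul_le [Finite G] (x y : G) : cs (x * y) ≤ cs x * cs y := by
  unfold cs
  have h1 : centralizer ({x} : Set G) ⊓ centralizer ({y} : Set G) ≤ centralizer ({x * y} : Set G) := by
    intro g hg
    rw [mem_inf, mem_centralizer_singleton_iff, mem_centralizer_singleton_iff] at hg
    rw [mem_centralizer_singleton_iff]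
    rw [← mul_assoc, hg.1, mul_assoc, hg.2, mul_assoc]
  exact (Nat.le_of_dvd (Nat.pos_of_ne_zero index_ne_zero_of_finite) (index_dvd_of_le h1)).trans
    (index_inf_le)

theorem cs_conj (g x : G) : cs (g * x * g⁻¹) = cs x := by
  unfold cs
  have : centralizer ({g * x * g⁻¹} : Set G) = (centralizer ({x} : Set G)).map (MulAut.conj g).toMonoidHom := by
    ext h
    rw [mem_centralizer_singleton_iff, mem_map_equiv, mem_centralizer_singleton_iff]
    simp only [MulAut.conj_symm_apply]
    constructor
    · intro hh
      have : g⁻¹ * (h * (g * x * g⁻¹)) * g = g⁻¹ * (g * x * g⁻¹ * h) * g := by rw [hh]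
      simpa [mul_assoc] using this
    · intro hh
      have : g * (g⁻¹ * h * g * x) * g⁻¹ = g * (x * (g⁻¹ * h * g)) * g⁻¹ := by rw [hh]
      simpa [mul_assoc] using this
  rw [this]
  exact index_map_equiv _ (MulAut.conj g)

theorem cs_mul_card (x : G) : cs x * Nat.card (centralizer ({x} : Set G)) = Nat.card G :=
  index_mul_card _

/-- the set of conjugates -/
def cl (x : G) : Set G := Set.range fun g : G => g * x * g⁻¹

theorem ncard_cl (x : G) : (cl x).ncard = cs x := by
  unfold cs cl
  rw [index_eq_card]
  rw [← Nat.card_coe_set_eq]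
  symm
  let f : G ⧸ centralizer ({x} : Set G) → Set.range fun g : G => g * x * g⁻¹ :=
    Quotient.lift (fun g : G => ⟨g * x * g⁻¹, ⟨g, rfl⟩⟩) (by
      intro a b hab
      have hab' : a⁻¹ * b ∈ centralizer ({x} : Set G) := QuotientGroup.leftRel_apply.1 hab
      rw [mem_centralizer_singleton_iff] at hab'
      apply Subtype.ext
      show a * x * a⁻¹ = b * x * b⁻¹
      have : a * (a⁻¹ * b * x) * b⁻¹ = a * (x * (a⁻¹ * b)) * b⁻¹ := by rw [hab']
      simpa [mul_assoc] using this.symm)
  apply Nat.card_congr
  apply Equiv.ofBijective f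
  constructor
  · intro q q' h
    induction q using QuotientGroup.induction_on with | _ a => ?_
    induction q' using QuotientGroup.induction_on with | _ b => ?_
    have h' : a * x * a⁻¹ = b * x * b⁻¹ := congrArg Subtype.val h
    apply QuotientGroup.eq.2
    rw [mem_centralizer_singleton_iff]
    have : a⁻¹ * (a * x * a⁻¹) * b = a⁻¹ * (b * x * b⁻¹) * b := by rw [h']
    simpa [mul_assoc] using this.symm
  · rintro ⟨y, g, rfl⟩
    exact ⟨QuotientGroup.mk g, rfl⟩

end basic

section count

variable {G : Type*} [Group G] [Fintype G]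

theorem sq_ncard_cl_le (t : G) (ht : t * t = 1) :
    (cl t).ncard ^ 2 ≤ ∑ x : G, Nat.card (centralizer ({x} : Set G)) := by
  classical
  set I : Finset G := Finset.univ.image (fun g : G => g * t * g⁻¹) with hI
  have hIcl : (cl t).ncard = I.card := by
    rw [hI, ← Set.ncard_coe_finset]
    congr 1
    ext y; simp [cl]
  have hinv : ∀ u ∈ I, u * u = 1 := by
    intro u hu
    rw [hI, Finset.mem_image] at hu
    obtain ⟨g, -, rfl⟩ := hu
    calc g * t * g⁻¹ * (g * t * g⁻¹) = g * (t * t) * g⁻¹ := by group
      _ = 1 := by rw [ht]; group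
  set Q : Finset (G × G) := Finset.univ.filter (fun p : G × G => p.2 * p.1 * p.2⁻¹ = p.1⁻¹) with hQ
  have h1 : (I ×ˢ I).card ≤ Q.card := by
    apply Finset.card_le_card_of_injOn (fun p => (p.1 * p.2, p.1))
    · intro p hp
      rw [Finset.mem_coe, Finset.mem_product] at hp
      simp only [hQ, Finset.coe_filter, Finset.mem_univ, true_and, Set.mem_ofPred_eq]
      have hu := hinv _ hp.1
      have hv := hinv _ hp.2
      have hu' : p.1⁻¹ = p.1 := inv_eq_of_mul_eq_one_right hu
      have hv' : p.2⁻¹ = p.2 := inv_eq_of_mul_eq_one_right hv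
      rw [mul_inv_rev, hu', hv', ← mul_assoc, hu, one_mul]
    · intro p _ q _ h
      simp only [Prod.mk.injEq] at h
      obtain ⟨h1, h2⟩ := h
      apply Prod.ext h2
      rw [h2] at h1
      exact mul_left_cancel h1
  have h2 : Q.card = ∑ x : G, (Q.filter (fun p => p.1 = x)).card :=
    Finset.card_eq_sum_card_fiberwise (fun p _ => Finset.mem_univ _)
  have h3 : ∀ x : G, (Q.filter (fun p => p.1 = x)).card ≤ Nat.card (centralizer ({x} : Set G)) := by
    intro x
    have hc : Nat.card (centralizer ({x} : Set G)) =
        (Finset.univ.filter (fun u : G => u ∈ centralizer ({x} : Set G))).card := by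
      rw [Nat.card_eq_fintype_card, Fintype.card_subtype]
    rw [hc]
    by_cases hne : (Q.filter (fun p => p.1 = x)).Nonempty
    · obtain ⟨p₀, hp₀⟩ := hne
      rw [Finset.mem_filter, hQ, Finset.mem_filter] at hp₀
      apply Finset.card_le_card_of_injOn (fun p => p₀.2⁻¹ * p.2)
      · intro p hp
        rw [Finset.mem_coe, Finset.mem_filter, hQ, Finset.mem_filter] at hp
        simp only [Finset.coe_filter, Finset.mem_univ, true_and, Set.mem_ofPred_eq]
        rw [mem_centralizer_singleton_iff]
        have e1 := hp.1.2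
        have e2 := hp₀.1.2
        rw [hp.2] at e1
        rw [hp₀.2] at e2
        -- p.2 * x * p.2⁻¹ = p₀.2 * x * p₀.2⁻¹
        have e3 : p.2 * x * p.2⁻¹ = p₀.2 * x * p₀.2⁻¹ := by rw [e1, e2]
        have : p₀.2⁻¹ * (p.2 * x * p.2⁻¹) * p.2 = p₀.2⁻¹ * (p₀.2 * x * p₀.2⁻¹) * p.2 := by rw [e3]
        simpa [mul_assoc] using this
      · intro p hp q hq h
        rw [Finset.mem_coe, Finset.mem_filter] at hp hq
        simp only at h
        apply Prod.ext
        · rw [hp.2, hq.2]
        · exact mul_left_cancel h
    · rw [Finset.not_nonempty_iff_eq_empty] at hne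
      rw [hne]
      simp
  calc (cl t).ncard ^ 2 = (I ×ˢ I).card := by rw [Finset.card_product, hIcl, sq]
    _ ≤ Q.card := h1
    _ = ∑ x : G, (Q.filter (fun p => p.1 = x)).card := h2
    _ ≤ _ := Finset.sum_le_sum fun x _ => h3 x

/-- Brauer–Fowler counting: many elements have a small class. -/
theorem card_le_mul_card_small (t : G) (ht : t * t = 1) (c : ℕ)
    (hc : Nat.card (centralizer ({t} : Set G)) ≤ c) :
    Nat.card G ≤ (2 * c ^ 2) * Nat.card {x : G // cs x ≤ 2 * c ^ 2} := by
  classical
  set n := 2 * c ^ 2 with hn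
  set N := Nat.card G with hN
  have hNpos : 0 < N := Nat.card_pos
  have h0 := sq_ncard_cl_le t ht
  rw [ncard_cl] at h0
  have h1 : N ≤ cs t * c := by
    rw [hN, ← cs_mul_card t]
    exact Nat.mul_le_mul_left _ hc
  -- 2 N^2 ≤ n * Σ
  have h2 : 2 * N ^ 2 ≤ n * ∑ x : G, Nat.card (centralizer ({x} : Set G)) := by
    calc 2 * N ^ 2 ≤ 2 * (cs t * c) ^ 2 := by gcongr
      _ = n * cs t ^ 2 := by rw [hn]; ring
      _ ≤ _ := Nat.mul_le_mul_left _ h0
  set S : Finset G := Finset.univ.filter (fun x : G => cs x ≤ n) with hS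
  have hScard : Nat.card {x : G // cs x ≤ n} = S.card := by
    rw [Nat.card_eq_fintype_card, Fintype.card_subtype]
  rw [hScard]
  have h3 : ∀ x : G, n * Nat.card (centralizer ({x} : Set G)) ≤ (if x ∈ S then n * N else N) := by
    intro x
    split_ifs with hx
    · apply Nat.mul_le_mul_left
      rw [hN]
      exact Nat.card_le_card_of_injective _ Subtype.val_injective
    · rw [hS, Finset.mem_filter] at hx
      simp only [Finset.mem_univ, true_and, not_le] at hx
      have := cs_mul_card x
      rw [← hN] at this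
      rw [← this]
      exact Nat.mul_le_mul_right _ hx.le
  have h4 : n * ∑ x : G, Nat.card (centralizer ({x} : Set G)) ≤ S.card * (n * N) + N * N := by
    rw [Finset.mul_sum]
    calc ∑ x : G, n * Nat.card (centralizer ({x} : Set G)) ≤ ∑ x : G, (if x ∈ S then n * N else N) :=
          Finset.sum_le_sum fun x _ => h3 x
      _ ≤ ∑ x : G, ((if x ∈ S then n * N else 0) + N) := by
          apply Finset.sum_le_sum
          intro x _
          split_ifs <;> omega
      _ = S.card * (n * N) + N * N := by
          rw [Finset.sum_add_distrib, Finset.sum_ite_mem, Finset.univ_inter, Finset.sum_const,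
            Finset.sum_const, Finset.card_univ, smul_eq_mul, smul_eq_mul, hN, Nat.card_eq_fintype_card]
  have h5 : N * N ≤ N * (n * S.card) := by nlinarith
  exact Nat.le_of_mul_le_mul_left h5 hNpos

end count

end Cfsg.Agent.Lib.Helper8.BD
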