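import Mathlib
import Cfsg.Agent.Lib.Helper8.BD1

set_option autoImplicit false

/-!
# Elements of the subgroup generated by a large set of elements with small classes

If the set `S` of elements of class size at most `n` has at least `|G| / n` elements, then every
element of `⟨S⟩` has class size at most `n ^ (3n + 3)` (P. M. Neumann).
-/

namespace Cfsg.Agent.Lib.Helper8.BD

open Subgroup

section prod

variable {G : Type*} [Group G] [Finite G]

theorem cs_le_of_mem_closure (n : ℕ) (hn : 1 ≤ n)
    (hcard : Nat.card G ≤ n * Nat.card {x : G // cs x ≤ n}) :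
    ∀ x ∈ closure {x : G | cs x ≤ n}, cs x ≤ n ^ (3 * n + 3) := by
  classical
  set S : Set G := {x : G | cs x ≤ n} with hS
  have h1S : (1 : G) ∈ S := by
    show cs (1 : G) ≤ n
    rw [cs_one]; exact hn
  have key : ∃ i : ℕ, 1 ≤ i ∧ i ≤ n + 1 ∧ ∀ x ∈ closure S, cs x ≤ n ^ (3 * i + 1) → cs x ≤ n ^ (3 * i) := by
    by_contra hcon
    push Not at hcon
    choose! g hgK hg1 hg2 using hcon
    -- the injection
    have hlt : ∀ i l : ℕ, 1 ≤ i → i < l → l ≤ n + 1 → ∀ x ∈ S, ∀ x' ∈ S, g i * x ≠ g l * x' := by
      intro i l hi hil hl x hx x' hx' h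
      have e : g l = g i * x * x'⁻¹ := by rw [h]; group
      have h2 := hg2 l (by omega) hl
      have h3 : cs (g l) ≤ n ^ (3 * l) := by
        rw [e]
        calc cs (g i * x * x'⁻¹) ≤ cs (g i * x) * cs x'⁻¹ := cs_mul_le _ _
          _ ≤ (cs (g i) * cs x) * cs x' := by
              rw [cs_inv]
              exact Nat.mul_le_mul_right _ (cs_mul_le _ _)
          _ ≤ (n ^ (3 * i + 1) * n) * n := by
              have := hg1 i hi (by omega)
              gcongr
              · exact hx
              · exact hx'
          _ = n ^ (3 * i + 3) := by ring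
          _ ≤ n ^ (3 * l) := Nat.pow_le_pow_right hn (by omega)
      omega
    have hinj : Function.Injective (fun p : Fin (n + 1) × S => g (p.1 + 1) * (p.2 : G)) := by
      intro p q h
      simp only at h
      rcases lt_trichotomy (p.1 : ℕ) (q.1 : ℕ) with hlt' | heq | hgt
      · exact absurd h (hlt _ _ (by omega) (by omega) (by have := q.1.2; omega) _ p.2.2 _ q.2.2)
      · have e1 : p.1 = q.1 := Fin.ext heq
        rw [e1] at h
        exact Prod.ext e1 (Subtype.ext (mul_left_cancel h))
      · exact absurd h.symm (hlt _ _ (by omega) (by omega) (by have := p.1.2; omega) _ q.2.2 _ p.2.2)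
    have hc := Nat.card_le_card_of_injective _ hinj
    rw [Nat.card_prod, Nat.card_eq_fintype_card (α := Fin (n + 1)), Fintype.card_fin] at hc
    have hSpos : 0 < Nat.card S := Nat.card_pos_iff.2 ⟨⟨⟨1, h1S⟩⟩, inferInstance⟩
    have : (n + 1) * Nat.card S ≤ n * Nat.card S := hc.trans hcard
    nlinarith
  obtain ⟨i, hi1, hin, hi⟩ := key
  intro x hx
  have hmain : cs x ≤ n ^ (3 * i) := by
    induction hx using closure_induction_right with
    | one => rw [cs_one]; exact Nat.one_le_pow _ _ hn
    | mul_right x hx y hy ih =>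
      apply hi _ (mul_mem hx (subset_closure hy))
      calc cs (x * y) ≤ cs x * cs y := cs_mul_le _ _
        _ ≤ n ^ (3 * i) * n := Nat.mul_le_mul ih hy
        _ = n ^ (3 * i + 1) := by ring
    | mul_inv_cancel x hx y hy ih =>
      apply hi _ (mul_mem hx (inv_mem (subset_closure hy)))
      calc cs (x * y⁻¹) ≤ cs x * cs y⁻¹ := cs_mul_le _ _
        _ ≤ n ^ (3 * i) * n := by rw [cs_inv]; exact Nat.mul_le_mul ih hy
        _ = n ^ (3 * i + 1) := by ring
  exact hmain.trans (Nat.pow_le_pow_right hn (by omega))

end prod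

end Cfsg.Agent.Lib.Helper8.BD
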