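import Mathlib
import Cfsg.Agent.Lib.Helper8.BD1

set_option autoImplicit false

/-!
# B. H. Neumann's BFC theorem

A finite group all of whose classes have size at most `D` has at most `D ^ (2D + 4)` commutators,
hence (Schur, in Mathlib) a commutator subgroup of bounded order.
-/

namespace Cfsg.Agent.Lib.Helper8.BD

open Subgroup
open scoped commutatorElement

section bfc

variable {Γ : Type*} [Group Γ] [Finite Γ]

/-- The bound in the BFC theorem. -/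
def bfcBound (D : ℕ) : ℕ := (Finset.range (D ^ (2 * D + 4) + 1)).sup Subgroup.cardCommutatorBound

omit [Finite Γ] in
theorem conj_mem_cl (a g : Γ) {b : Γ} (hb : b ∈ cl a) : g * b * g⁻¹ ∈ cl a := by
  obtain ⟨k, rfl⟩ := hb
  exact ⟨g * k, by group⟩

theorem card_commutatorSet_le (D : ℕ) (hD : ∀ x : Γ, cs x ≤ D) :
    Nat.card (commutatorSet Γ) ≤ D ^ (2 * D + 4) := by
  classical
  obtain ⟨a, ha⟩ := Finite.exists_max (fun x : Γ => cs x)
  set d := cs a with hd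
  have hdD : d ≤ D := hD a
  have hdpos : 0 < d := cs_pos a
  have hclcard : (cl a).ncard = d := ncard_cl a
  haveI : Fintype (cl a) := Fintype.ofFinite _
  have hτ : ∀ b : cl a, ∃ τ : Γ, τ * a * τ⁻¹ = (b : Γ) := fun b => b.2
  choose τ hτ using hτ
  set M : Subgroup Γ := ⨅ b : cl a, centralizer ({τ b} : Set Γ) with hM
  have hMidx : M.index ≤ d ^ d := by
    calc M.index ≤ ∏ b : cl a, (centralizer ({τ b} : Set Γ)).index := index_iInf_le _
      _ ≤ ∏ _b : cl a, d := Finset.prod_le_prod' fun b _ => ha (τ b)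
      _ = d ^ d := by
        rw [Finset.prod_const, Finset.card_univ, ← Nat.card_eq_fintype_card, Nat.card_coe_set_eq,
          hclcard]
  have hMcomm : ∀ x ∈ M, ∀ b : cl a, τ b * x = x * τ b := by
    intro x hx b
    rw [hM, mem_iInf] at hx
    have := hx b
    rw [mem_centralizer_singleton_iff] at this
    exact this.symm
  -- the class of `x * a`
  have hclx : ∀ x ∈ M, cl (x * a) = (fun b => x * b) '' cl a := by
    intro x hx
    symm
    apply Set.eq_of_subset_of_ncard_le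
    · rintro _ ⟨b, hb, rfl⟩
      refine ⟨τ ⟨b, hb⟩, ?_⟩
      show τ ⟨b, hb⟩ * (x * a) * (τ ⟨b, hb⟩)⁻¹ = x * b
      calc τ ⟨b, hb⟩ * (x * a) * (τ ⟨b, hb⟩)⁻¹ = (τ ⟨b, hb⟩ * x) * a * (τ ⟨b, hb⟩)⁻¹ := by group
        _ = (x * τ ⟨b, hb⟩) * a * (τ ⟨b, hb⟩)⁻¹ := by rw [hMcomm x hx ⟨b, hb⟩]
        _ = x * (τ ⟨b, hb⟩ * a * (τ ⟨b, hb⟩)⁻¹) := by group
        _ = x * b := by rw [hτ ⟨b, hb⟩]
    · rw [Set.ncard_image_of_injective _ (mul_right_injective x), hclcard, ncard_cl]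
      exact ha _
    · exact Set.toFinite _
  set U : Set Γ := (fun p : Γ × Γ => p.1 * p.2⁻¹) '' (cl a ×ˢ cl a) with hU
  have hUcard : U.ncard ≤ d ^ 2 := by
    calc U.ncard ≤ (cl a ×ˢ cl a).ncard := Set.ncard_image_le (Set.toFinite _)
      _ = d ^ 2 := by rw [Set.ncard_prod, hclcard, sq]
  have hUinv : ∀ u ∈ U, u⁻¹ ∈ U := by
    rintro _ ⟨⟨b, b'⟩, hbb, rfl⟩
    rw [Set.mem_prod] at hbb
    exact ⟨(b', b), Set.mem_prod.2 ⟨hbb.2, hbb.1⟩, by simp⟩
  have hUconj : ∀ u ∈ U, ∀ g : Γ, g * u * g⁻¹ ∈ U := by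
    rintro _ ⟨⟨b, b'⟩, hbb, rfl⟩ g
    rw [Set.mem_prod] at hbb
    exact ⟨(g * b * g⁻¹, g * b' * g⁻¹),
      Set.mem_prod.2 ⟨conj_mem_cl a g hbb.1, conj_mem_cl a g hbb.2⟩, by simp; group⟩
  have hcomm1 : ∀ x ∈ M, ∀ g : Γ, ⁅x, g⁆ ∈ U := by
    intro x hx g
    have hx' : x⁻¹ ∈ M := inv_mem hx
    have h1 : g * (x⁻¹ * a) * g⁻¹ ∈ cl (x⁻¹ * a) := ⟨g, rfl⟩
    rw [hclx _ hx'] at h1
    obtain ⟨b, hb, hb'⟩ := h1
    simp only at hb'
    refine ⟨(b, g * a * g⁻¹), Set.mem_prod.2 ⟨hb, ⟨g, rfl⟩⟩, ?_⟩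
    simp only
    have e : b = x * (g * (x⁻¹ * a) * g⁻¹) := by rw [← hb']; group
    rw [e, commutatorElement_def]
    group
  have hcomm2 : ∀ x ∈ M, ∀ g : Γ, ⁅g, x⁆ ∈ U := by
    intro x hx g
    rw [← commutatorElement_inv]
    exact hUinv _ (hcomm1 x hx g)
  haveI : Fintype (Γ ⧸ M) := Fintype.ofFinite _
  haveI : Fintype U := Fintype.ofFinite _
  let Φ : U × (Γ ⧸ M) × (Γ ⧸ M) × U → Γ := fun q =>
    (q.1 : Γ) * ⁅q.2.1.out, q.2.2.1.out⁆ * (q.2.2.2 : Γ)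
  have hsub : commutatorSet Γ ⊆ Set.range Φ := by
    rintro _ ⟨g, h, rfl⟩
    set s : Γ := (QuotientGroup.mk g : Γ ⧸ M).out with hs
    set s' : Γ := (QuotientGroup.mk h : Γ ⧸ M).out with hs'
    have hx : s⁻¹ * g ∈ M := by
      apply QuotientGroup.eq.1
      rw [hs, QuotientGroup.out_eq']
    have hy : s'⁻¹ * h ∈ M := by
      apply QuotientGroup.eq.1
      rw [hs', QuotientGroup.out_eq']
    set x := s⁻¹ * g with hxdef
    set y := s'⁻¹ * h with hydef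
    have hg : g = s * x := by rw [hxdef]; group
    have hh : h = s' * y := by rw [hydef]; group
    refine ⟨(⟨s * ⁅x, h⁆ * s⁻¹, hUconj _ (hcomm1 x hx h) s⟩, QuotientGroup.mk g, QuotientGroup.mk h,
      ⟨s' * ⁅s, y⁆ * s'⁻¹, hUconj _ (hcomm2 y hy s) s'⟩), ?_⟩
    show s * ⁅x, h⁆ * s⁻¹ * ⁅s, s'⁆ * (s' * ⁅s, y⁆ * s'⁻¹) = ⁅g, h⁆
    rw [hg, hh]
    simp only [commutatorElement_def]
    group
  calc Nat.card (commutatorSet Γ) = (commutatorSet Γ).ncard := Nat.card_coe_set_eq _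
    _ ≤ (Set.range Φ).ncard := Set.ncard_le_ncard hsub (Set.toFinite _)
    _ ≤ Nat.card (U × (Γ ⧸ M) × (Γ ⧸ M) × U) := by
        rw [← Nat.card_coe_set_eq]
        exact Finite.card_range_le Φ
    _ = U.ncard * (M.index * (M.index * U.ncard)) := by
        rw [Nat.card_prod, Nat.card_prod, Nat.card_prod, Nat.card_coe_set_eq, index_eq_card]
    _ ≤ d ^ 2 * (d ^ d * (d ^ d * d ^ 2)) := by gcongr
    _ = d ^ (2 * d + 4) := by ring
    _ ≤ D ^ (2 * d + 4) := Nat.pow_le_pow_left hdD _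
    _ ≤ D ^ (2 * D + 4) := Nat.pow_le_pow_right (hdpos.trans_le hdD) (by omega)

/-- **B. H. Neumann's BFC theorem**, via Schur's bound from Mathlib. -/
theorem card_commutator_le_bfcBound (D : ℕ) (hD : ∀ x : Γ, cs x ≤ D) :
    Nat.card (commutator Γ) ≤ bfcBound D := by
  have h1 := card_commutatorSet_le D hD
  have h2 := card_commutator_le_of_finite_commutatorSet (G := Γ)
  refine h2.trans ?_
  unfold bfcBound
  exact Finset.le_sup (f := Subgroup.cardCommutatorBound) (Finset.mem_range.2 (Nat.lt_succ_of_le h1))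

end bfc

end Cfsg.Agent.Lib.Helper8.BD
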