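import Mathlib
import Cfsg.Agent.Lib.Helper8.BD1
import Cfsg.Agent.Lib.Helper8.BD2
import Cfsg.Agent.Lib.Helper8.BD3
import Cfsg.Agent.Lib.Helper4.LBal1
import Cfsg.Agent.Lib.Helper3.Components6

set_option autoImplicit false

/-!
# Bounding `|G|` by the centralizer of an involution when `O(G) = 1`

If `O_{2'}(G) = 1`, a Sylow 2-subgroup of `G` has order `2 ^ a` and some `t` with `t * t = 1` has
`|C_G(t)| ≤ c`, then `|G| ≤ stepBound a c`.
-/

namespace Cfsg.Agent.Lib.Helper8.BD

open Subgroup Cfsg
open scoped commutatorElement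

/-- The bound of `card_le_stepBound`. -/
def stepBound (a c : ℕ) : ℕ :=
  2 ^ a * ((2 * c ^ 2) *
    ((2 * c ^ 2) ^ (3 * (2 * c ^ 2) + 3)) ^ bfcBound ((2 * c ^ 2) ^ (3 * (2 * c ^ 2) + 3)))

section

variable {G : Type*} [Group G]

theorem closure_normal_of_conj {S : Set G} (h : ∀ x ∈ S, ∀ g : G, g * x * g⁻¹ ∈ S) :
    (closure S).Normal := by
  constructor
  intro x hx g
  induction hx using closure_induction with
  | mem y hy => exact subset_closure (h y hy g)
  | one => simp
  | mul y z _ _ ihy ihz =>
    have : g * (y * z) * g⁻¹ = (g * y * g⁻¹) * (g * z * g⁻¹) := by group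
    rw [this]; exact mul_mem ihy ihz
  | inv y _ ih =>
    have : g * y⁻¹ * g⁻¹ = (g * y * g⁻¹)⁻¹ := by group
    rw [this]; exact inv_mem ih

theorem cs_subgroup_le [Finite G] (K : Subgroup G) (x : K) : cs x ≤ cs (x : G) := by
  unfold cs
  have h1 : centralizer ({x} : Set K) = (centralizer ({(x : G)} : Set G)).subgroupOf K := by
    ext y
    rw [mem_subgroupOf, mem_centralizer_singleton_iff, mem_centralizer_singleton_iff]
    constructor
    · intro h
      have := congrArg Subtype.val h
      simpa using this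
    · intro h
      apply Subtype.ext
      simpa using h
  rw [h1]
  show (centralizer ({(x : G)} : Set G)).relIndex K ≤ _
  have := relIndex_le_of_le_right (H := centralizer ({(x : G)} : Set G)) (le_top : K ≤ ⊤)
    (by rw [relIndex_top_right]; exact index_ne_zero_of_finite)
  rwa [relIndex_top_right] at this

theorem card_le_stepBound [Finite G] (a c : ℕ) (hO : pPrimeCore 2 G = ⊥) (P : Sylow 2 G)
    (hP : Nat.card P = 2 ^ a) (t : G) (ht : t * t = 1)
    (hc : Nat.card (centralizer ({t} : Set G)) ≤ c) : Nat.card G ≤ stepBound a c := by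
  classical
  haveI : Fintype G := Fintype.ofFinite G
  haveI : Fact (Nat.Prime 2) := ⟨Nat.prime_two⟩
  have hcpos : 1 ≤ c := (Nat.card_pos).trans_le hc
  set n := 2 * c ^ 2 with hn
  have hn1 : 1 ≤ n := by
    have : 1 ≤ c ^ 2 := Nat.one_le_pow _ _ hcpos
    omega
  set D := n ^ (3 * n + 3) with hD
  have hD1 : 1 ≤ D := Nat.one_le_pow _ _ hn1
  have h1 := card_le_mul_card_small t ht c hc
  rw [← hn] at h1
  set S : Set G := {x : G | cs x ≤ n} with hS
  set K : Subgroup G := closure S with hK
  have h2 : ∀ x ∈ K, cs x ≤ D := cs_le_of_mem_closure n hn1 h1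
  haveI hKn : K.Normal := closure_normal_of_conj (by
    intro x hx g
    show cs (g * x * g⁻¹) ≤ n
    rw [cs_conj]; exact hx)
  -- index of K
  have hKidx : K.index ≤ n := by
    have h3 : Nat.card {x : G // cs x ≤ n} ≤ Nat.card K :=
      Nat.card_le_card_of_injective (fun x => (⟨x.1, subset_closure x.2⟩ : K))
        (fun x y h => Subtype.ext (congrArg (fun z : K => (z : G)) h))
    have h4 := K.index_mul_card
    have h5 : K.index * Nat.card K ≤ n * Nat.card K := by
      rw [h4]; exact h1.trans (Nat.mul_le_mul_left _ h3)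
    exact Nat.le_of_mul_le_mul_right h5 Nat.card_pos
  -- BFC in K
  have h6 : Nat.card (commutator K) ≤ bfcBound D :=
    card_commutator_le_bfcBound D (fun x => (cs_subgroup_le K x).trans (h2 _ x.2))
  set K₁ : Subgroup G := ⁅K, K⁆ with hK₁
  have hK₁card : Nat.card K₁ ≤ bfcBound D := by
    rw [hK₁, ← map_subtype_commutator]
    exact (Nat.le_of_dvd Nat.card_pos (card_map_dvd _ _)).trans h6
  have hK₁K : K₁ ≤ K := commutator_le_right K K
  set C : Subgroup G := centralizer (K₁ : Set G) with hC
  haveI : Fintype K₁ := Fintype.ofFinite _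
  have hCeq : C = ⨅ y : K₁, centralizer ({(y : G)} : Set G) := by
    ext g
    rw [hC, mem_centralizer_iff, mem_iInf]
    constructor
    · intro h y
      rw [mem_centralizer_singleton_iff]
      exact (h y y.2).symm
    · intro h y hy
      have := h ⟨y, hy⟩
      rw [mem_centralizer_singleton_iff] at this
      exact this.symm
  have hCidx : C.index ≤ D ^ bfcBound D := by
    rw [hCeq]
    calc (⨅ y : K₁, centralizer ({(y : G)} : Set G)).index
        ≤ ∏ y : K₁, (centralizer ({(y : G)} : Set G)).index := index_iInf_le _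
      _ ≤ ∏ _y : K₁, D := Finset.prod_le_prod' fun y _ => h2 _ (hK₁K y.2)
      _ = D ^ Nat.card K₁ := by
        rw [Finset.prod_const, Finset.card_univ, Nat.card_eq_fintype_card]
      _ ≤ D ^ bfcBound D := Nat.pow_le_pow_right hD1 hK₁card
  set A : Subgroup G := K ⊓ C with hA
  haveI : A.Normal := by rw [hA]; infer_instance
  have hAidx : A.index ≤ n * D ^ bfcBound D :=
    (index_inf_le).trans (Nat.mul_le_mul hKidx hCidx)
  have hAnil : Group.IsNilpotent A := by
    apply Cfsg.Agent.Lib.Helper3.isNilpotent_of_commutator_le_centralizer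
    have e1 : ⁅A, A⁆ ≤ K₁ := commutator_mono inf_le_left inf_le_left
    refine e1.trans ?_
    intro y hy
    rw [mem_centralizer_iff]
    intro g hg
    have hgC : g ∈ C := hg.2
    rw [hC, mem_centralizer_iff] at hgC
    exact (hgC y hy).symm
  have hAF : A ≤ fittingSubgroup G := le_sSup ⟨inferInstance, hAnil⟩
  have hFp := Cfsg.Agent.Lib.Helper4.LBal.fittingSubgroup_le_pCore (p := 2) hO
  have hpP : pCore 2 G ≤ P := by
    apply sSup_le
    rintro N ⟨hN, hNp⟩
    haveI := hN
    exact hNp.le_sylow_of_normal P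
  have hAcard : Nat.card A ≤ 2 ^ a := by
    rw [← hP]
    exact card_le_of_le ((hAF.trans hFp).trans hpP)
  calc Nat.card G = Nat.card A * A.index := (card_mul_index A).symm
    _ ≤ 2 ^ a * (n * D ^ bfcBound D) := Nat.mul_le_mul hAcard hAidx
    _ = stepBound a c := rfl

end

end Cfsg.Agent.Lib.Helper8.BD
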