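import Mathlib
import Cfsg.Prelude.Def_Blocks
import Cfsg.Agent.Lib.Helper8.GL3
import Cfsg.Agent.Lib.Helper8.FR5
import Cfsg.Agent.Lib.Helper8.Cover1
import Cfsg.Agent.S0146
import Cfsg.Agent.S0170

/-!
# Over an invariant character of a normal `p'`-subgroup there is a character of `p'`-degree
-/

set_option autoImplicit false
set_option linter.unusedSectionVars false

namespace Cfsg.Agent.Lib.Helper8

open Cfsg
open scoped ComplexConjugate
open Cfsg.Agent.Lib.Helper1 Cfsg.Agent.Lib.Helper4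

universe u

section

variable {G : Type u} [Group G] [Fintype G]

/-- A character of degree prime to `p` has an irreducible constituent of degree prime to `p`. -/
theorem exists_pPrime_constituent {p : ℕ} {Ψ : G → ℂ} (hΨ : IsCharacter G Ψ) {m : ℕ}
    (hm : Ψ 1 = m) (hpm : ¬ p ∣ m) :
    ∃ χ : IrrCharacter G, classInner Ψ (χ : G → ℂ) ≠ 0 ∧ ¬ p ∣ charDegree (χ : G → ℂ) := by
  classical
  haveI : Fintype (IrrCharacter G) := Fintype.ofFinite _
  have hexp := class_function_expansion Ψ (isClassFunction_of_isCharacter hΨ)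
  have hmul : ∀ φ : IrrCharacter G, ∃ k : ℕ, classInner Ψ (φ : G → ℂ) = k := fun φ =>
    classInner_char_irr_nat hΨ φ.2
  have hd : ∀ φ : IrrCharacter G, ∃ d : ℕ, 0 < d ∧ (φ : G → ℂ) 1 = d := fun φ =>
    irr_apply_one_pos φ.2
  choose k hk using hmul
  choose d hd0 hd using hd
  have h1 : (m : ℂ) = ((∑ φ : IrrCharacter G, k φ * d φ : ℕ) : ℂ) := by
    rw [← hm]
    conv_lhs => rw [hexp]
    rw [Finset.sum_apply]
    push_cast
    refine Finset.sum_congr rfl fun φ _ => ?_
    rw [Pi.smul_apply, smul_eq_mul, hk φ, hd φ]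
  have h2 : m = ∑ φ : IrrCharacter G, k φ * d φ := by exact_mod_cast h1
  by_contra hcon
  push Not at hcon
  apply hpm
  rw [h2]
  apply Finset.dvd_sum
  intro φ _
  by_cases hφ : k φ = 0
  · rw [hφ, zero_mul]
    exact dvd_zero p
  · have h3 : classInner Ψ (φ : G → ℂ) ≠ 0 := by
      rw [hk φ]
      exact Nat.cast_ne_zero.2 hφ
    have h4 := hcon φ h3
    rw [charDegree_of_apply_one (hd φ)] at h4
    exact Dvd.dvd.mul_left h4 _

/-- Over a `G`-invariant irreducible character of a normal `p'`-subgroup there is an irreducible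
character of `G` of degree prime to `p`. -/
theorem exists_over_pPrime_degree {p : ℕ} [hp : Fact p.Prime] (N : Subgroup G) [hN : N.Normal]
    [Fintype N] (hNp : ¬ p ∣ Nat.card N) (θ : IrrCharacter N)
    (hinv : ∀ (g : G) (n : N), (θ : N → ℂ) ⟨g * n * g⁻¹, hN.conj_mem n n.2 g⟩ = (θ : N → ℂ) n) :
    ∃ χ : IrrCharacter G, classInner (fun n : N => (χ : G → ℂ) n) (θ : N → ℂ) ≠ 0 ∧
      ¬ p ∣ charDegree (χ : G → ℂ) := by
  classical
  obtain ⟨S⟩ : Nonempty (Sylow p G) := inferInstance
  set L : Subgroup G := N ⊔ (S : Subgroup G) with hL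
  have hNL : N ≤ L := le_sup_left
  haveI : Fintype L := Fintype.ofFinite _
  set N' : Subgroup L := N.subgroupOf L with hN'
  haveI hN'n : N'.Normal := Subgroup.normal_subgroupOf
  haveI : Fintype N' := Fintype.ofFinite _
  let e : N' ≃* N := Subgroup.subgroupOfEquivOfLe hNL
  have hcardN' : Nat.card N' = Nat.card N := Nat.card_congr e.toEquiv
  -- the index of `N'` is a power of `p`
  have hidx : ∃ j : ℕ, N'.index = p ^ j := by
    have h1 : N'.index = N.relIndex L := rfl
    have h2 : N.relIndex L = N.relIndex (S : Subgroup G) := Subgroup.relIndex_sup_left (S : Subgroup G) N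
    have h3 : N.relIndex (S : Subgroup G) ∣ Nat.card (S : Subgroup G) :=
      Subgroup.relIndex_dvd_card N (S : Subgroup G)
    obtain ⟨j, hj⟩ := IsPGroup.iff_card.1 S.isPGroup'
    rw [h1, h2]
    rw [hj] at h3
    obtain ⟨i, -, hi⟩ := (Nat.dvd_prime_pow hp.out).1 h3
    exact ⟨i, hi⟩
  obtain ⟨j, hj⟩ := hidx
  have hcop : (Nat.card N').Coprime N'.index := by
    rw [hcardN', hj]
    apply Nat.Coprime.pow_right
    exact ((Nat.Prime.coprime_iff_not_dvd hp.out).2 hNp).symm
  set θ' : N' → ℂ := fun x => (θ : N → ℂ) (e x) with hθ'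
  have hθ'irr : IsIrrCharacter N' θ' := isIrrCharacter_comp_mulEquiv θ.2 e
  have hinv' : ∀ (g : L) (n : N'), θ' ⟨g * n * g⁻¹, hN'n.conj_mem (n : L) n.2 g⟩ = θ' n := by
    intro g n
    have h1 := hinv (g : G) (e n)
    show (θ : N → ℂ) (e ⟨g * n * g⁻¹, hN'n.conj_mem (n : L) n.2 g⟩) = (θ : N → ℂ) (e n)
    rw [← h1]
    exact congrArg _ (Subtype.ext rfl)
  obtain ⟨η, hη, hηN, -⟩ := exists_canonical_ext N' hcop hθ'irr hinv'
  -- degrees
  obtain ⟨d, hd0, hd⟩ := irr_apply_one_pos θ.2
  have hdN : d ∣ Nat.card N := by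
    rw [← charDegree_of_apply_one hd]
    exact charDegree_dvd_card θ.2
  have hη1 : η 1 = d := by
    have := hηN 1
    rw [OneMemClass.coe_one] at this
    rw [this]
    show (θ : N → ℂ) (e 1) = d
    rw [map_one, hd]
  -- induce to `G`
  have hΨ : IsCharacter G (indFun L η) := Cfsg.Agent.S0148.result L η (isCharacter_of_irr hη)
  have hΨ1 : indFun L η 1 = ((L.index * d : ℕ) : ℂ) := by
    rw [Cfsg.Agent.S0170.indFun_one, hη1]
    have h2 : (Nat.card G : ℂ) = (L.index : ℂ) * (Nat.card L : ℂ) := by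
      rw [← Nat.cast_mul, Subgroup.index_mul_card]
    have hL0 : (Nat.card L : ℂ) ≠ 0 := Nat.cast_ne_zero.2 Nat.card_pos.ne'
    rw [h2]
    push_cast
    field_simp
  have hpL : ¬ p ∣ L.index * d := by
    intro h
    rcases (Nat.Prime.dvd_mul hp.out).1 h with h1 | h1
    · have h2 : L.index ∣ (S : Subgroup G).index := Subgroup.index_dvd_of_le le_sup_right
      exact S.not_dvd_index (h1.trans h2)
    · exact hNp (h1.trans hdN)
  obtain ⟨χ, hχ, hχp⟩ := exists_pPrime_constituent hΨ hΨ1 hpL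
  refine ⟨χ, ?_, hχp⟩
  rw [Cfsg.Agent.S0146.result L η (χ : G → ℂ) (isClassFunction_irr χ.2)] at hχ
  have hχL : IsCharacter L (fun l : L => (χ : G → ℂ) l) :=
    Cfsg.Agent.S0148.isCharacter_restrict L (isCharacter_of_irr χ.2)
  have h1 : classInner (fun l : L => (χ : G → ℂ) l) η ≠ 0 := by
    intro h0
    apply hχ
    rw [← classInner_conj_symm, h0, map_zero]
  have h2 : classInner (fun n : N => η ⟨n, hNL n.2⟩) (θ : N → ℂ) ≠ 0 := by
    have h3 : (fun n : N => η ⟨n, hNL n.2⟩) = (θ : N → ℂ) := by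
      funext n
      have := hηN (e.symm n)
      have e1 : ((e.symm n : N') : L) = ⟨n, hNL n.2⟩ := by
        apply Subtype.ext
        have := congrArg (fun x : N => (x : G)) (e.apply_symm_apply n)
        exact this
      rw [e1] at this
      rw [this]
      show (θ : N → ℂ) (e (e.symm n)) = (θ : N → ℂ) n
      rw [MulEquiv.apply_symm_apply]
    rw [h3, classInner_irr_self θ.2]
    exact one_ne_zero
  exact classInner_restrict_ne_zero_of_constituent N L hNL hχL hη h1 θ.2 h2

end

end Cfsg.Agent.Lib.Helper8
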