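import Mathlib
import Cfsg.Prelude.Def_Blocks
import Cfsg.Agent.Lib.Helper8.BlockKer
import Cfsg.Agent.S0176

/-!
# Blocks of the quotient by a normal `p'`-subgroup (Navarro 9.9)
-/

set_option autoImplicit false

namespace Cfsg.Agent.Lib.Helper8

open Cfsg
open scoped ComplexConjugate
open Cfsg.Agent.Lib.Helper1 Cfsg.Agent.Lib.Helper4

universe u

section

variable {G : Type u} [Group G] [Fintype G] (N : Subgroup G) [N.Normal] [Fintype (G ⧸ N)]
  {M : Ideal AlgInt} {p : ℕ}

/-- Central characters of inflated characters at inflated functions. -/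
theorem omega_inflation (χ F : G ⧸ N → ℂ) :
    omega (fun g : G => χ (QuotientGroup.mk g)) (fun g : G => F (QuotientGroup.mk g)) =
      (Nat.card N : ℂ) * omega χ F := by
  unfold omega
  have h1 := Cfsg.Agent.S0176.sum_comp_mk N (fun q => F q * χ q)
  have h2 : ∑ g : G, F (QuotientGroup.mk g) * χ (QuotientGroup.mk g) =
      (Nat.card N : ℂ) * ∑ q : G ⧸ N, F q * χ q := h1
  rw [h2]
  beta_reduce
  rw [QuotientGroup.mk_one, mul_div_assoc]

omit [Fintype G] [Fintype (G ⧸ N)] in
theorem isClassFunction_inflation {F : G ⧸ N → ℂ} (hF : IsClassFunction (G ⧸ N) F) :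
    IsClassFunction G (fun g : G => F (QuotientGroup.mk g)) := by
  intro g h
  have := hF (QuotientGroup.mk g) (QuotientGroup.mk h)
  simpa using this

/-- Over a normal `p'`-subgroup, characters of the quotient whose inflations lie in the same block
lie in the same block. -/
theorem sameBlock_of_inflation (hM : IsPModular p M) (hN : ¬ p ∣ Nat.card N)
    {χ ψ : G ⧸ N → ℂ} (hχ : IsIrrCharacter (G ⧸ N) χ) (hψ : IsIrrCharacter (G ⧸ N) ψ)
    (h : SameBlock M (fun g : G => χ (QuotientGroup.mk g)) (fun g : G => ψ (QuotientGroup.mk g))) :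
    SameBlock M χ ψ := by
  classical
  have hMp := isPModular_isPrime hM
  intro q
  rw [← omega_classIndicator (isClassFunction_irr hχ), ← omega_classIndicator (isClassFunction_irr hψ)]
  have h1 := memLocalIdeal_omega_sub hMp (isIrrCharacter_inflation N hχ)
    (isIrrCharacter_inflation N hψ) h
    (isClassFunction_inflation N (classIndicator_isClassFunction q))
    (fun g => memLocalRing_classIndicator hMp.ne_top q _)
  rw [omega_inflation, omega_inflation, ← mul_sub] at h1
  have h2 := memLocalIdeal_mul_left hMp (memLocalRing_inv_natCast hM hN) h1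
  have hN0 : (Nat.card N : ℂ) ≠ 0 := Nat.cast_ne_zero.2 Nat.card_pos.ne'
  rwa [← mul_assoc, inv_mul_cancel₀ hN0, one_mul] at h2

end

end Cfsg.Agent.Lib.Helper8
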