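import Mathlib
import Cfsg.Prelude.Def_Blocks
import Cfsg.Prelude.Def_BrauerPairs
import Cfsg.Agent.Lib.Helper8.AvgNormal
import Cfsg.Agent.Lib.Helper8.BlockExactIdem
import Cfsg.Agent.Lib.Helper8.ExtZero
import Cfsg.Agent.Lib.Helper8.InducedOmega
import Cfsg.Agent.Lib.Helper4.CharBound

/-!
# The averaging idempotent of a subgroup and kernels of blocks
-/

set_option autoImplicit false
set_option linter.unusedSectionVars false

namespace Cfsg.Agent.Lib.Helper8

open Cfsg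
open scoped ComplexConjugate
open Cfsg.Agent.Lib.Helper1 Cfsg.Agent.Lib.Helper4

universe u

section

variable {G : Type u} [Group G]

/-- The averaging idempotent of a subgroup `Y`, as a coefficient function. -/
noncomputable def avgOn (Y : Subgroup G) : G → ℂ :=
  fun g => by classical exact if g ∈ Y then (Nat.card Y : ℂ)⁻¹ else 0

theorem avgOn_of_mem (Y : Subgroup G) {g : G} (hg : g ∈ Y) : avgOn Y g = (Nat.card Y : ℂ)⁻¹ := by
  classical
  unfold avgOn
  rw [if_pos hg]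

theorem avgOn_of_not_mem (Y : Subgroup G) {g : G} (hg : g ∉ Y) : avgOn Y g = 0 := by
  classical
  unfold avgOn
  rw [if_neg hg]

end

section

variable {G : Type u} [Group G] [Fintype G] {M : Ideal AlgInt} {p : ℕ}

theorem omega_avgOn (Y : Subgroup G) (χ : G → ℂ) : omega χ (avgOn Y) = avgScalar Y χ := by
  classical
  unfold omega avgScalar
  rw [mul_div_assoc', Finset.mul_sum]
  congr 1
  unfold subFinset
  rw [Finset.sum_filter]
  refine Finset.sum_congr rfl fun g _ => ?_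
  by_cases hg : g ∈ Y
  · rw [avgOn_of_mem Y hg, if_pos hg]
  · rw [avgOn_of_not_mem Y hg, if_neg hg, zero_mul]

theorem omega_avgOn_eq (Y : Subgroup G) [Y.Normal] {χ : G → ℂ} (hχ : IsIrrCharacter G χ) :
    omega χ (avgOn Y) = 0 ∨ omega χ (avgOn Y) = 1 := by
  rw [omega_avgOn]
  exact avgScalar_eq Y hχ

theorem omega_avgOn_of_ker (Y : Subgroup G) {χ : G → ℂ} (hχ : IsIrrCharacter G χ)
    (h : ∀ y ∈ Y, χ y = χ 1) : omega χ (avgOn Y) = 1 := by
  classical
  rw [omega_avgOn]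
  unfold avgScalar
  have h1 : ∑ n ∈ subFinset Y, χ n = (Nat.card Y : ℂ) * χ 1 := by
    rw [Finset.sum_congr rfl (fun n hn => h n (mem_subFinset.1 hn)), Finset.sum_const,
      card_subFinset, nsmul_eq_mul]
  rw [h1, mul_div_assoc, div_self (irr_apply_one_ne_zero hχ), mul_one,
    inv_mul_cancel₀ (card_ne_zero_h8 Y)]

theorem ker_of_omega_avgOn (Y : Subgroup G) {χ : G → ℂ} (hχ : IsIrrCharacter G χ)
    (h : omega χ (avgOn Y) = 1) : ∀ y ∈ Y, χ y = χ 1 := by
  classical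
  have hc := isCharacter_of_irr hχ
  rw [omega_avgOn] at h
  unfold avgScalar at h
  have hχ1 := irr_apply_one_ne_zero hχ
  have hY := card_ne_zero_h8 Y
  have h1 : ∑ n ∈ subFinset Y, χ n = (Nat.card Y : ℂ) * χ 1 := by
    field_simp at h
    linear_combination h
  have h2 : ∑ n ∈ subFinset Y, (χ n).re = ∑ n ∈ subFinset Y, (χ 1).re := by
    have := congrArg Complex.re h1
    rw [Complex.re_sum] at this
    rw [this, Finset.sum_const, card_subFinset, nsmul_eq_mul]
    simp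
  have h3 := (Finset.sum_eq_sum_iff_of_le
    (fun n _ => isCharacter_re_le hc n)).1 h2
  intro y hy
  exact isCharacter_eq_of_re_eq hc y (h3 y (mem_subFinset.2 hy))

theorem omega_avgOn_eq_one_iff (Y : Subgroup G) {χ : G → ℂ} (hχ : IsIrrCharacter G χ) :
    omega χ (avgOn Y) = 1 ↔ ∀ y ∈ Y, χ y = χ 1 :=
  ⟨ker_of_omega_avgOn Y hχ, omega_avgOn_of_ker Y hχ⟩

theorem avgOn_conj (Y : Subgroup G) {u : G} (hu : u ∈ Subgroup.normalizer (Y : Set G)) (x : G) :
    avgOn Y (u * x * u⁻¹) = avgOn Y x := by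
  have h := (Subgroup.mem_normalizer_iff.1 hu) x
  by_cases hx : x ∈ Y
  · rw [avgOn_of_mem Y hx, avgOn_of_mem Y (h.1 hx)]
  · rw [avgOn_of_not_mem Y hx, avgOn_of_not_mem Y (fun h' => hx (h.2 h'))]

theorem isClassFunction_avgOn (Y : Subgroup G) [hY : Y.Normal] : IsClassFunction G (avgOn Y) := by
  intro g h
  apply avgOn_conj
  rw [Subgroup.normalizer_eq_top]
  exact Subgroup.mem_top _

theorem memLocalRing_avgOn (hM : IsPModular p M) (Y : Subgroup G) (hY : ¬ p ∣ Nat.card Y) (g : G) :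
    MemLocalRing M (avgOn Y g) := by
  by_cases hg : g ∈ Y
  · rw [avgOn_of_mem Y hg]
    exact memLocalRing_inv_natCast hM hY
  · rw [avgOn_of_not_mem Y hg]
    exact memLocalRing_zero (isPModular_ne_top hM)

/-- The averaging idempotent of a normal subgroup is the idempotent of the set of irreducible
characters having the subgroup in their kernel. -/
theorem avgOn_eq_blockCoeff (Y : Subgroup G) [Y.Normal] :
    avgOn Y = blockCoeff {ψ : IrrCharacter G | ∀ y ∈ Y, (ψ : G → ℂ) y = (ψ : G → ℂ) 1} := by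
  classical
  have : Fintype (IrrCharacter G) := Fintype.ofFinite _
  apply eq_blockCoeff_of_omega _ (isClassFunction_avgOn Y)
  intro ψ
  by_cases h : ∀ y ∈ Y, (ψ : G → ℂ) y = (ψ : G → ℂ) 1
  · rw [if_pos (show ψ ∈ {ψ : IrrCharacter G | ∀ y ∈ Y, (ψ : G → ℂ) y = (ψ : G → ℂ) 1} from h)]
    exact omega_avgOn_of_ker Y ψ.2 h
  · rw [if_neg (show ψ ∉ {ψ : IrrCharacter G | ∀ y ∈ Y, (ψ : G → ℂ) y = (ψ : G → ℂ) 1} from h)]
    rcases omega_avgOn_eq Y ψ.2 with h0 | h1
    · exact h0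
    · exact absurd (ker_of_omega_avgOn Y ψ.2 h1) h

/-- **Kernels of blocks and normal `p'`-subgroups**: if one member of a block has the normal
`p'`-subgroup `Y` in its kernel then all have. -/
theorem ker_of_exists_ker (hM : IsPModular p M) {B : Set (IrrCharacter G)} (hB : IsPBlock M B)
    (Y : Subgroup G) [Y.Normal] (hY : ¬ p ∣ Nat.card Y) {χ₀ : IrrCharacter G} (hχ₀ : χ₀ ∈ B)
    (h : ∀ y ∈ Y, (χ₀ : G → ℂ) y = (χ₀ : G → ℂ) 1) :
    ∀ χ ∈ B, ∀ y ∈ Y, (χ : G → ℂ) y = (χ : G → ℂ) 1 := by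
  have hMp := isPModular_isPrime hM
  intro χ hχ
  apply ker_of_omega_avgOn Y χ.2
  have h0 := omega_avgOn_of_ker Y χ₀.2 h
  have hsb : SameBlock M (χ : G → ℂ) (χ₀ : G → ℂ) := by
    rw [eq_blockOf_of_mem hMp hB hχ₀] at hχ
    exact sameBlock_symm hχ
  have h1 := memLocalIdeal_omega_sub hMp χ.2 χ₀.2 hsb (isClassFunction_avgOn Y)
    (memLocalRing_avgOn hM Y hY)
  rcases omega_avgOn_eq Y χ.2 with h2 | h2
  · rw [h2, h0, zero_sub] at h1
    have := memLocalIdeal_neg h1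
    rw [neg_neg] at this
    exact absurd this (not_memLocalIdeal_one hMp)
  · exact h2

/-- If the members of `B` have `Y` in their kernel, the idempotent of `B` absorbs the averaging
idempotent of `Y`. -/
theorem conv_blockCoeff_avgOn_of_ker (B : Set (IrrCharacter G)) (Y : Subgroup G) [Y.Normal]
    (h : ∀ χ ∈ B, ∀ y ∈ Y, (χ : G → ℂ) y = (χ : G → ℂ) 1) :
    conv (blockCoeff B) (avgOn Y) = blockCoeff B := by
  rw [avgOn_eq_blockCoeff, conv_blockCoeff_blockCoeff]
  congr 1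
  apply Set.inter_eq_left.2
  intro χ hχ
  exact h χ hχ

/-- If no member of `B` has `Y` in its kernel, the idempotent of `B` annihilates the averaging
idempotent of `Y`. -/
theorem conv_blockCoeff_avgOn_of_not_ker (B : Set (IrrCharacter G)) (Y : Subgroup G) [Y.Normal]
    (h : ∀ χ ∈ B, ¬ ∀ y ∈ Y, (χ : G → ℂ) y = (χ : G → ℂ) 1) :
    conv (blockCoeff B) (avgOn Y) = 0 := by
  rw [avgOn_eq_blockCoeff, conv_blockCoeff_blockCoeff]
  have : B ∩ {ψ : IrrCharacter G | ∀ y ∈ Y, (ψ : G → ℂ) y = (ψ : G → ℂ) 1} = ∅ := by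
    ext χ
    simp only [Set.mem_inter_iff, Set.mem_empty_iff_false, iff_false, not_and]
    intro hχ
    exact h χ hχ
  rw [this]
  funext g
  exact blockCoeff_empty g

/-- Dichotomy for a block and a normal `p'`-subgroup. -/
theorem ker_or_not_ker (hM : IsPModular p M) {B : Set (IrrCharacter G)} (hB : IsPBlock M B)
    (Y : Subgroup G) [Y.Normal] (hY : ¬ p ∣ Nat.card Y) :
    (∀ χ ∈ B, ∀ y ∈ Y, (χ : G → ℂ) y = (χ : G → ℂ) 1) ∨
      (∀ χ ∈ B, ¬ ∀ y ∈ Y, (χ : G → ℂ) y = (χ : G → ℂ) 1) := by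
  by_cases h : ∃ χ₀ ∈ B, ∀ y ∈ Y, (χ₀ : G → ℂ) y = (χ₀ : G → ℂ) 1
  · obtain ⟨χ₀, hχ₀, h0⟩ := h
    exact Or.inl (ker_of_exists_ker hM hB Y hY hχ₀ h0)
  · push Not at h
    right
    intro χ hχ hk
    obtain ⟨y, hy, hne⟩ := h χ hχ
    exact hne (hk y hy)

/-- Restriction of the averaging idempotent to a subgroup. -/
theorem avgOn_restrict (K Y : Subgroup G) :
    (fun k : K => avgOn Y (k : G)) =
      ((Nat.card (Y.subgroupOf K) : ℂ) / (Nat.card Y : ℂ)) • avgOn (Y.subgroupOf K) := by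
  funext k
  rw [Pi.smul_apply, smul_eq_mul]
  have h0 : (Nat.card (Y.subgroupOf K) : ℂ) ≠ 0 := Nat.cast_ne_zero.2 Nat.card_pos.ne'
  by_cases hk : (k : G) ∈ Y
  · rw [avgOn_of_mem Y hk, avgOn_of_mem _ (Subgroup.mem_subgroupOf.2 hk)]
    field_simp
  · rw [avgOn_of_not_mem Y hk, avgOn_of_not_mem _ (fun h => hk (Subgroup.mem_subgroupOf.1 h)),
      mul_zero]

theorem card_subgroupOf_dvd (K Y : Subgroup G) : Nat.card (Y.subgroupOf K) ∣ Nat.card Y := by
  have h1 : Nat.card (Y.subgroupOf K) = Nat.card ↥(Y ⊓ K) := by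
    rw [← Subgroup.inf_subgroupOf_right]
    exact Nat.card_congr (Subgroup.subgroupOfEquivOfLe inf_le_right).toEquiv
  rw [h1]
  exact Subgroup.card_dvd_of_le inf_le_left

theorem extZ_avgOn (K Y : Subgroup G) (h : Y ≤ K) : extZ K (avgOn (Y.subgroupOf K)) = avgOn Y := by
  funext g
  have hc : Nat.card (Y.subgroupOf K) = Nat.card Y :=
    Nat.card_congr (Subgroup.subgroupOfEquivOfLe h).toEquiv
  by_cases hg : g ∈ K
  · rw [extZ_of_mem K _ hg]
    by_cases hy : g ∈ Y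
    · rw [avgOn_of_mem Y hy, avgOn_of_mem _ (Subgroup.mem_subgroupOf.2 hy), hc]
    · rw [avgOn_of_not_mem Y hy, avgOn_of_not_mem _ (fun h' => hy (Subgroup.mem_subgroupOf.1 h'))]
  · rw [extZ_of_not_mem K _ hg, avgOn_of_not_mem Y (fun h' => hg (h h'))]

end

end Cfsg.Agent.Lib.Helper8
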