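import Mathlib
import Cfsg.Prelude.Def_Characters
import Cfsg.Prelude.Def_Blocks
import Cfsg.Agent.Lib.Helper8.GP1
import Cfsg.Agent.Lib.Helper8.BlockOrth2
import Cfsg.Agent.Lib.Helper8.BlockDefect
import Cfsg.Agent.Lib.Helper8.Deflation
import Cfsg.Agent.Lib.Helper1.CycloChar

/-!
# Power maps and blocks; character values at involutions
-/

set_option autoImplicit false
set_option linter.unusedSectionVars false

namespace Cfsg.Agent.Lib.Helper8

open Cfsg
open scoped ComplexConjugate
open Cfsg.Agent.Lib.Helper1 Cfsg.Agent.Lib.Helper4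

universe u

section

variable {G : Type u} [Group G]

/-- If `g` is a power of `g ^ k` then `g` and `g ^ k` have the same centralizer. -/
theorem centralizer_pow_eq_of_pow_pow {g : G} {k l : ℕ} (h : (g ^ k) ^ l = g) :
    Subgroup.centralizer ({g ^ k} : Set G) = Subgroup.centralizer ({g} : Set G) := by
  apply le_antisymm
  · intro d hd
    rw [Subgroup.mem_centralizer_iff] at hd ⊢
    intro w hw
    rw [Set.mem_singleton_iff] at hw
    rw [hw]
    have h1 : Commute (g ^ k) d := hd (g ^ k) (Set.mem_singleton _)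
    have h2 := h1.pow_left l
    rw [h] at h2
    exact h2.eq
  · intro d hd
    rw [Subgroup.mem_centralizer_iff] at hd ⊢
    intro w hw
    rw [Set.mem_singleton_iff] at hw
    rw [hw]
    have h1 : Commute g d := hd g (Set.mem_singleton g)
    exact (h1.pow_left k).eq

/-- Central character of a power-twisted function. -/
theorem centralChar_powFn {k l : ℕ} (h : ∀ g : G, (g ^ k) ^ l = g) (χ : G → ℂ) (g : G) :
    centralChar (powFn k χ) g = centralChar χ (g ^ k) := by
  unfold centralChar
  rw [powFn_apply, powFn_apply, one_pow, centralizer_pow_eq_of_pow_pow (h g)]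

/-- Power twisting preserves the block relation. -/
theorem sameBlock_powFn {M : Ideal AlgInt} {k l : ℕ} (h : ∀ g : G, (g ^ k) ^ l = g)
    {χ ψ : G → ℂ} (hs : SameBlock M χ ψ) : SameBlock M (powFn k χ) (powFn k ψ) := by
  intro g
  rw [centralChar_powFn h, centralChar_powFn h]
  exact hs (g ^ k)

end

section

variable {G : Type u} [Group G] [Finite G]

/-- The value of a character at an element of order dividing two differs from the degree by an
even natural number. -/
theorem character_involution {χ : G → ℂ} (hχ : IsCharacter G χ) {z : G} (hz : z ^ 2 = 1) :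
    ∃ a : ℕ, χ 1 - χ z = 2 * (a : ℂ) := by
  classical
  obtain ⟨ι', _, m, c, hc, hsum⟩ := character_pow_eq_sum hχ z
  have hc2 : ∀ j, c j = 1 ∨ c j = -1 := by
    intro j
    have hd : orderOf z ∣ 2 := orderOf_dvd_of_pow_eq_one hz
    obtain ⟨e, he⟩ := hd
    have : c j ^ 2 = 1 := by rw [he, pow_mul, hc j, one_pow]
    exact sq_eq_one_iff.1 this
  have h0 := hsum 0
  have h1 := hsum 1
  rw [pow_zero] at h0
  rw [pow_one] at h1
  refine ⟨∑ j, (if c j = 1 then 0 else m j), ?_⟩
  rw [h0, h1, ← Finset.sum_sub_distrib]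
  push_cast
  rw [Finset.mul_sum]
  refine Finset.sum_congr rfl fun j _ => ?_
  rcases hc2 j with h | h
  · rw [h, if_pos rfl]; simp
  · rw [h, if_neg (by norm_num)]; ring

theorem zmod2_two : (2 : ZMod 2) = 0 := by decide

theorem zmod2_mul_self : ∀ x : ZMod 2, x * x = x := by decide

/-- In a group of even order, the number of odd-degree irreducible characters in the principal
`2`-block is even. -/
theorem even_card_odd_principal {M : Ideal AlgInt} (hM : IsPModular 2 M)
    (hev : Even (Nat.card G)) :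
    Even (Nat.card {χ : IrrCharacter G //
      χ ∈ principalBlock M G ∧ Odd (charDegree (χ : G → ℂ))}) := by
  classical
  have : Fintype G := Fintype.ofFinite G
  have : Fintype (IrrCharacter G) := Fintype.ofFinite _
  have : Fact (Nat.Prime 2) := ⟨Nat.prime_two⟩
  obtain ⟨z, hz⟩ := exists_prime_orderOf_dvd_card' 2 (hev.two_dvd)
  have hz2 : z ^ 2 = 1 := by rw [← hz, pow_orderOf_eq_one]
  have hB := isPBlock_principalBlock (M := M) (G := G)
  have h1 : ¬ 2 ∣ orderOf (1 : G) := by rw [orderOf_one]; norm_num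
  have hy : 2 ∣ orderOf z := by rw [hz]
  have key := finsum_block_mul_eq_zero hM hB h1 hy
  rw [finsum_mem_eq_finite_toFinset_sum _ (Set.toFinite _)] at key
  have ha : ∀ χ : IrrCharacter G, ∃ a : ℕ, (χ : G → ℂ) 1 - (χ : G → ℂ) z = 2 * (a : ℂ) :=
    fun χ => character_involution (isCharacter_of_irr χ.2) hz2
  choose a ha using ha
  have hd : ∀ χ : IrrCharacter G, (χ : G → ℂ) 1 = (charDegree (χ : G → ℂ) : ℂ) :=
    fun χ => (irr_apply_one_eq_charDegree χ.2).1
  set S := (Set.toFinite (principalBlock M G)).toFinset with hS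
  have key2 : ∑ χ ∈ S, ((charDegree (χ : G → ℂ) : ℤ) *
      ((charDegree (χ : G → ℂ) : ℤ) - 2 * (a χ : ℤ))) = 0 := by
    have : ((∑ χ ∈ S, ((charDegree (χ : G → ℂ) : ℤ) *
        ((charDegree (χ : G → ℂ) : ℤ) - 2 * (a χ : ℤ))) : ℤ) : ℂ) = 0 := by
      rw [← key]
      push_cast
      refine Finset.sum_congr rfl fun χ _ => ?_
      rw [← hd χ]
      have h := ha χ
      rw [show (χ : G → ℂ) z = (χ : G → ℂ) 1 - 2 * (a χ : ℂ) by rw [← h]; ring]
    exact_mod_cast this
  have key3 : ∑ χ ∈ S, ((charDegree (χ : G → ℂ) : ℕ) : ZMod 2) = 0 := by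
    have h := congrArg (Int.cast : ℤ → ZMod 2) key2
    rw [Int.cast_zero, Int.cast_sum] at h
    rw [← h]
    refine Finset.sum_congr rfl fun χ _ => ?_
    push_cast
    rw [zmod2_two, zero_mul, sub_zero, zmod2_mul_self]
  have key4 : ((S.filter (fun χ : IrrCharacter G => Odd (charDegree (χ : G → ℂ)))).card : ZMod 2)
      = 0 := by
    rw [← key3, Finset.card_filter]
    push_cast
    refine Finset.sum_congr rfl fun χ _ => ?_
    by_cases ho : Odd (charDegree (χ : G → ℂ))
    · rw [if_pos ho, (ZMod.natCast_eq_one_iff_odd).2 ho]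
    · rw [if_neg ho, (ZMod.natCast_eq_zero_iff_even).2 (Nat.not_odd_iff_even.1 ho)]
  rw [Nat.card_eq_fintype_card, Fintype.card_subtype]
  have hfilt : (Finset.univ.filter (fun χ : IrrCharacter G =>
      χ ∈ principalBlock M G ∧ Odd (charDegree (χ : G → ℂ)))) =
      S.filter (fun χ : IrrCharacter G => Odd (charDegree (χ : G → ℂ))) := by
    ext χ
    simp [hS]
  rw [hfilt]
  exact (ZMod.natCast_eq_zero_iff_even).1 key4

end

section

variable {G : Type u} [Group G] [Finite G]

omit [Finite G] in
theorem charDegree_powFn (k : ℕ) (χ : G → ℂ) : charDegree (powFn k χ) = charDegree χ := by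
  unfold charDegree
  rw [powFn_apply, one_pow]

/-- Galois-fixed odd-degree characters of the principal `2`-block: their number is even, for a
Galois automorphism of `2`-power order. -/
theorem even_card_fixed_odd_principal {M : Ideal AlgInt} (hM : IsPModular 2 M)
    (hev : Even (Nat.card G)) (k n : ℕ) (hk : k.Coprime (Nat.card G))
    (hpow : ∀ g : G, g ^ (k ^ (2 ^ n)) = g) :
    Even (Nat.card {χ : IrrCharacter G // χ ∈ principalBlock M G ∧
      Odd (charDegree (χ : G → ℂ)) ∧ ∀ g : G, (χ : G → ℂ) (g ^ k) = (χ : G → ℂ) g}) := by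
  classical
  have : Fintype G := Fintype.ofFinite G
  have : Fintype (IrrCharacter G) := Fintype.ofFinite _
  have : Fact (Nat.Prime 2) := ⟨Nat.prime_two⟩
  have h2n : 2 ^ n - 1 + 1 = 2 ^ n := Nat.sub_add_cancel Nat.one_le_two_pow
  have h : ∀ g : G, (g ^ k) ^ (k ^ (2 ^ n - 1)) = g := by
    intro g
    rw [← pow_mul, ← pow_succ', h2n]
    exact hpow g
  let α := {χ : IrrCharacter G // χ ∈ principalBlock M G ∧ Odd (charDegree (χ : G → ℂ))}
  have hmem : ∀ χ : α, (⟨powFn k (χ.1 : G → ℂ), isIrrCharacter_powFn hk χ.1.2⟩ : IrrCharacter G)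
      ∈ principalBlock M G ∧
      Odd (charDegree ((⟨powFn k (χ.1 : G → ℂ), isIrrCharacter_powFn hk χ.1.2⟩ :
        IrrCharacter G) : G → ℂ)) := by
    intro χ
    refine ⟨?_, ?_⟩
    · show SameBlock M (fun _ : G => (1 : ℂ)) (powFn k (χ.1 : G → ℂ))
      have := sameBlock_powFn (M := M) h χ.2.1
      exact this
    · show Odd (charDegree (powFn k (χ.1 : G → ℂ)))
      rw [charDegree_powFn]
      exact χ.2.2
  let f : Function.End α := fun χ =>
    ⟨⟨powFn k (χ.1 : G → ℂ), isIrrCharacter_powFn hk χ.1.2⟩, hmem χ⟩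
  have hf : ∀ (j : ℕ) (χ : α), (((f ^ j) χ).1 : G → ℂ) = powFn (k ^ j) (χ.1 : G → ℂ) := by
    intro j
    induction j with
    | zero => intro χ; rw [pow_zero, pow_zero, powFn_one]; rfl
    | succ j ih =>
      intro χ
      rw [pow_succ']
      show powFn k (((f ^ j) χ).1 : G → ℂ) = _
      rw [ih χ, powFn_powFn, pow_succ']
  have hf1 : f ^ 2 ^ n = 1 := by
    funext χ
    apply Subtype.ext
    apply Subtype.ext
    rw [hf]
    funext g
    rw [powFn_apply, hpow g]
    rfl
  have hmod := Equiv.Perm.card_fixedPoints_modEq (p := 2) (n := n) hf1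
  have hα : Even (Fintype.card α) := by
    have := even_card_odd_principal (G := G) hM hev
    rwa [Nat.card_eq_fintype_card] at this
  have hfix : Even (Fintype.card (Function.fixedPoints f)) := by
    rw [Nat.even_iff] at hα ⊢
    rw [← hmod]
    exact hα
  have e : {χ : IrrCharacter G // χ ∈ principalBlock M G ∧
      Odd (charDegree (χ : G → ℂ)) ∧ ∀ g : G, (χ : G → ℂ) (g ^ k) = (χ : G → ℂ) g} ≃
      Function.fixedPoints f :=
    { toFun := fun t => ⟨⟨t.1, t.2.1, t.2.2.1⟩, by
        show f _ = _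
        apply Subtype.ext
        apply Subtype.ext
        funext g
        exact t.2.2.2 g⟩
      invFun := fun x => ⟨x.1.1, x.1.2.1, x.1.2.2, fun g => by
        have h1 : f x.1 = x.1 := x.2
        have h2 := congrArg (fun y : α => (y.1 : G → ℂ) g) h1
        exact h2⟩
      left_inv := fun t => rfl
      right_inv := fun x => rfl }
  rw [Nat.card_congr e, Nat.card_eq_fintype_card]
  exact hfix

end

end Cfsg.Agent.Lib.Helper8
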