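import Mathlib
import Cfsg.Prelude.Def_Blocks
import Cfsg.Agent.Lib.Helper8.GP3
import Cfsg.Agent.Lib.Helper8.BlockPairMax

/-!
# Power maps, blocks and induced blocks
-/

set_option autoImplicit false
set_option linter.unusedSectionVars false

namespace Cfsg.Agent.Lib.Helper8

open Cfsg
open scoped ComplexConjugate
open Cfsg.Agent.Lib.Helper1 Cfsg.Agent.Lib.Helper4

universe u

section

variable {G : Type u} [Group G] [Fintype G] {M : Ideal AlgInt}

/-- An inverse exponent for a power map coprime to the group order. -/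
theorem exists_pow_inverse {k : ℕ} (hk : k.Coprime (Nat.card G)) :
    ∃ l : ℕ, l.Coprime (Nat.card G) ∧ (∀ g : G, (g ^ k) ^ l = g) ∧ ∀ g : G, (g ^ l) ^ k = g := by
  by_cases h1 : Nat.card G = 1
  · refine ⟨1, by rw [h1]; exact Nat.coprime_one_right 1, ?_, ?_⟩ <;>
    · intro g
      have : g = 1 := by
        have := orderOf_dvd_natCard g
        rw [h1, Nat.dvd_one, orderOf_eq_one_iff] at this
        exact this
      rw [this]; simp
  · have hn : 1 < Nat.card G := lt_of_le_of_ne Nat.card_pos (Ne.symm h1)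
    obtain ⟨m, -, hm⟩ := Nat.exists_mul_mod_eq_one_of_coprime hk hn
    have hcop : m.Coprime (Nat.card G) := by
      have h2 : (k * m).Coprime (Nat.card G) := by
        show Nat.gcd (k * m) (Nat.card G) = 1
        rw [Nat.gcd_comm, Nat.gcd_rec, hm, Nat.gcd_one_left]
      exact Nat.Coprime.coprime_mul_left h2
    refine ⟨m, hcop, ?_, ?_⟩
    · intro g
      rw [← pow_mul, ← pow_mod_natCard, hm, pow_one]
    · intro g
      rw [← pow_mul, mul_comm, ← pow_mod_natCard, hm, pow_one]

/-- The power map on irreducible characters. -/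
noncomputable def powIrr (k : ℕ) (hk : k.Coprime (Nat.card G)) (χ : IrrCharacter G) :
    IrrCharacter G :=
  ⟨powFn k (χ : G → ℂ), isIrrCharacter_powFn hk χ.2⟩

theorem powIrr_apply (k : ℕ) (hk : k.Coprime (Nat.card G)) (χ : IrrCharacter G) (g : G) :
    (powIrr k hk χ : G → ℂ) g = (χ : G → ℂ) (g ^ k) := rfl

theorem powIrr_powIrr {k l : ℕ} (hk : k.Coprime (Nat.card G)) (hl : l.Coprime (Nat.card G))
    (h : ∀ g : G, (g ^ l) ^ k = g) (χ : IrrCharacter G) : powIrr l hl (powIrr k hk χ) = χ := by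
  apply Subtype.ext
  funext g
  rw [powIrr_apply, powIrr_apply, h]

theorem powIrr_injective (k : ℕ) (hk : k.Coprime (Nat.card G)) :
    Function.Injective (powIrr k hk) := by
  obtain ⟨l, hl, h1, h2⟩ := exists_pow_inverse hk
  intro χ ψ h
  have := congrArg (powIrr l hl) h
  rwa [powIrr_powIrr hk hl h2, powIrr_powIrr hk hl h2] at this

/-- The image of a block under a power map is a block. -/
theorem isPBlock_image_powIrr (k : ℕ) (hk : k.Coprime (Nat.card G)) {B : Set (IrrCharacter G)}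
    (hB : IsPBlock M B) : IsPBlock M (powIrr k hk '' B) := by
  obtain ⟨l, hl, h1, h2⟩ := exists_pow_inverse hk
  obtain ⟨χ₀, rfl⟩ := hB
  refine ⟨powIrr k hk χ₀, ?_⟩
  ext ψ
  constructor
  · rintro ⟨χ, hχ, rfl⟩
    exact sameBlock_powFn h1 hχ
  · intro hψ
    refine ⟨powIrr l hl ψ, ?_, powIrr_powIrr hl hk h1 ψ⟩
    have h3 : SameBlock M (powFn l (powFn k (χ₀ : G → ℂ))) (powFn l (ψ : G → ℂ)) :=
      sameBlock_powFn h2 hψ
    have h4 : powFn l (powFn k (χ₀ : G → ℂ)) = (χ₀ : G → ℂ) := by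
      funext g
      rw [powFn_apply, powFn_apply, h2]
    rw [h4] at h3
    exact h3

/-- A set of irreducible characters mapped into itself by a power map is mapped onto itself. -/
theorem image_powIrr_eq_of_subset (k : ℕ) (hk : k.Coprime (Nat.card G)) {B : Set (IrrCharacter G)}
    (h : ∀ χ ∈ B, powIrr k hk χ ∈ B) : powIrr k hk '' B = B := by
  have hfin : B.Finite := Set.toFinite B
  apply Set.eq_of_subset_of_ncard_le
  · rintro _ ⟨χ, hχ, rfl⟩
    exact h χ hχ
  · rw [Set.ncard_image_of_injective _ (powIrr_injective k hk)]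
  · exact hfin

/-- Induced central characters and power maps. -/
theorem inducedCentralChar_powFn {k l : ℕ} (h1 : ∀ g : G, (g ^ k) ^ l = g)
    (h2 : ∀ g : G, (g ^ l) ^ k = g) (H : Subgroup G) (ξ : H → ℂ) (g : G) :
    inducedCentralChar H (powFn k ξ) g = inducedCentralChar H ξ (g ^ k) := by
  unfold inducedCentralChar
  have hbij : Set.BijOn (fun h : H => h ^ k) {h : H | IsConj g (h : G)}
      {h : H | IsConj (g ^ k) (h : G)} := by
    refine ⟨?_, ?_, ?_⟩
    · intro h hh
      obtain ⟨c, hc⟩ := isConj_iff.1 hh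
      show IsConj (g ^ k) ((h ^ k : H) : G)
      rw [Subgroup.coe_pow, ← hc, conj_pow]
      exact isConj_iff.2 ⟨c, rfl⟩
    · intro a _ b _ hab
      have h3 : ((a ^ k : H) : G) = ((b ^ k : H) : G) := congrArg Subtype.val hab
      rw [Subgroup.coe_pow, Subgroup.coe_pow] at h3
      apply Subtype.ext
      rw [← h1 (a : G), ← h1 (b : G), h3]
    · intro h hh
      refine ⟨h ^ l, ?_, ?_⟩
      · obtain ⟨c, hc⟩ := isConj_iff.1 hh
        show IsConj g ((h ^ l : H) : G)
        rw [Subgroup.coe_pow, ← hc, conj_pow, h1]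
        exact isConj_iff.2 ⟨c, rfl⟩
      · apply Subtype.ext
        show ((((h ^ l) ^ k : H)) : G) = (h : G)
        rw [Subgroup.coe_pow, Subgroup.coe_pow, h2]
  rw [← finsum_mem_eq_of_bijOn (fun h : H => h ^ k) hbij
    (f := fun h : H => powFn k ξ h / powFn k ξ 1) (g := fun h : H => ξ h / ξ 1)]
  intro h _
  show ξ (h ^ k) / ξ (1 ^ k) = ξ (h ^ k) / ξ 1
  rw [one_pow]

/-- Power maps carry induced blocks to induced blocks. -/
theorem isInducedBlock_powIrr (k : ℕ) (hk : k.Coprime (Nat.card G)) (H : Subgroup G) [Fintype H]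
    (hkH : k.Coprime (Nat.card H)) {b : Set (IrrCharacter H)} {B : Set (IrrCharacter G)}
    (hind : IsInducedBlock M H b B) :
    IsInducedBlock M H (powIrr k hkH '' b) (powIrr k hk '' B) := by
  obtain ⟨l, hl, h1, h2⟩ := exists_pow_inverse hk
  refine ⟨isPBlock_image_powIrr k hkH hind.1, isPBlock_image_powIrr k hk hind.2.1, ?_⟩
  rintro _ ⟨ξ, hξ, rfl⟩ _ ⟨χ, hχ, rfl⟩ g
  have e1 : ((powIrr k hkH ξ : IrrCharacter H) : H → ℂ) = powFn k (ξ : H → ℂ) := rfl
  have e2 : ((powIrr k hk χ : IrrCharacter G) : G → ℂ) = powFn k (χ : G → ℂ) := rfl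
  rw [e1, e2, inducedCentralChar_powFn h1 h2, centralChar_powFn h1]
  exact hind.2.2 ξ hξ χ hχ (g ^ k)

end

end Cfsg.Agent.Lib.Helper8
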