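import Mathlib
import Cfsg.Prelude.Def_Blocks
import Cfsg.Agent.Lib.Helper1.CycloChar
import Cfsg.Agent.Lib.Helper8.GS1
import Cfsg.Agent.Lib.Helper8.TwoClass
import Cfsg.Agent.Lib.Helper8.BlockDefect

/-!
# Galois-stable sums of character values are integers; the principal block is stable
-/

set_option autoImplicit false

namespace Cfsg.Agent.Lib.Helper8

open Cfsg
open scoped ComplexConjugate
open Cfsg.Agent.Lib.Helper1 Cfsg.Agent.Lib.Helper4

universe u

section

variable {G : Type u} [Group G] [Fintype G]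

/-- A sum of products of character values over a set of irreducible characters stable under all
power maps is a rational integer. -/
theorem exists_int_sum_mul_of_powIrr_stable [Fintype (IrrCharacter G)]
    (s : Finset (IrrCharacter G))
    (hs : ∀ (k : ℕ) (hk : k.Coprime (Nat.card G)), ∀ χ ∈ s, powIrr k hk χ ∈ s) (g h : G) :
    ∃ m : ℤ, ∑ χ ∈ s, (χ : G → ℂ) g * (χ : G → ℂ) h = m := by
  classical
  set N := Nat.card G with hN
  have hN0 : NeZero N := ⟨Nat.card_pos.ne'⟩
  let K := CyclotomicField N ℚ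
  have hcyc : IsCyclotomicExtension {N} ℚ K :=
    CyclotomicField.instIsCyclotomicExtensionSingletonNatSetOfCharZero N ℚ
  let ι : K →+* ℂ := ((IsAlgClosed.lift : K →ₐ[ℚ] ℂ) : K →+* ℂ)
  have hfd : FiniteDimensional ℚ K := IsCyclotomicExtension.finiteDimensional {N} ℚ K
  have hgal : IsGalois ℚ K := IsCyclotomicExtension.isGalois {N} ℚ K
  have hgN : g ^ N = 1 := pow_card_eq_one'
  have hhN : h ^ N = 1 := pow_card_eq_one'
  have hx : ∀ χ : IrrCharacter G, ∃ x : K, IsIntegral ℤ x ∧ ∀ (σ : K ≃ₐ[ℚ] K) (k : ℕ),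
      (∀ z : K, z ^ N = 1 → σ z = z ^ k) → ι (σ x) = (χ : G → ℂ) (g ^ k) :=
    fun χ => exists_cyclo_of_character N ι (isCharacter_of_irr χ.2) g hgN
  have hx' : ∀ χ : IrrCharacter G, ∃ x : K, IsIntegral ℤ x ∧ ∀ (σ : K ≃ₐ[ℚ] K) (k : ℕ),
      (∀ z : K, z ^ N = 1 → σ z = z ^ k) → ι (σ x) = (χ : G → ℂ) (h ^ k) :=
    fun χ => exists_cyclo_of_character N ι (isCharacter_of_irr χ.2) h hhN
  choose x hxint hx using hx
  choose x' hx'int hx' using hx'
  set y : K := ∑ χ ∈ s, x χ * x' χ with hy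
  have hyint : IsIntegral ℤ y := IsIntegral.sum _ fun χ _ => (hxint χ).mul (hx'int χ)
  have hval : ∀ σ : K ≃ₐ[ℚ] K, ι (σ y) = ∑ χ ∈ s, (χ : G → ℂ) g * (χ : G → ℂ) h := by
    intro σ
    obtain ⟨k, hk, hσ⟩ := aut_pow N σ
    rw [hy, map_sum, map_sum]
    have h1 : ∀ χ ∈ s, ι (σ (x χ * x' χ)) =
        (powIrr k hk χ : G → ℂ) g * (powIrr k hk χ : G → ℂ) h := by
      intro χ _
      rw [map_mul, map_mul, hx χ σ k hσ, hx' χ σ k hσ]
      rfl
    rw [Finset.sum_congr rfl h1]
    have himg : s.image (powIrr k hk) = s := by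
      apply Finset.eq_of_subset_of_card_le
      · intro ψ hψ
        obtain ⟨χ, hχ, rfl⟩ := Finset.mem_image.1 hψ
        exact hs k hk χ hχ
      · rw [Finset.card_image_of_injective _ (powIrr_injective k hk)]
    conv_rhs => rw [← himg]
    rw [Finset.sum_image (fun a _ b _ hab => powIrr_injective k hk hab)]
  have hfix : ∀ σ : K ≃ₐ[ℚ] K, σ y = y := by
    intro σ
    apply ι.injective
    have h1 := hval 1
    rw [AlgEquiv.one_apply] at h1
    rw [hval σ, h1]
  obtain ⟨q, hq⟩ := (IsGalois.mem_range_algebraMap_iff_fixed y).2 hfix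
  have hqint : IsIntegral ℤ q := by
    rw [← hq] at hyint
    exact (isIntegral_algHom_iff ((algebraMap ℚ K).toIntAlgHom) (algebraMap ℚ K).injective).1 hyint
  obtain ⟨m, hm⟩ := IsIntegrallyClosed.isIntegral_iff.1 hqint
  refine ⟨m, ?_⟩
  have h1 := hval 1
  rw [AlgEquiv.one_apply] at h1
  rw [← h1, ← hq, ← hm]
  simp

/-- The principal block is stable under all power maps. -/
theorem powIrr_mem_principalBlock {M : Ideal AlgInt} (k : ℕ) (hk : k.Coprime (Nat.card G))
    {χ : IrrCharacter G} (hχ : χ ∈ principalBlock M G) : powIrr k hk χ ∈ principalBlock M G := by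
  obtain ⟨l, hl, h1, h2⟩ := exists_pow_inverse hk
  have h3 : SameBlock M (powFn k (fun _ : G => (1 : ℂ))) (powFn k (χ : G → ℂ)) :=
    sameBlock_powFn h1 hχ
  exact h3

end

end Cfsg.Agent.Lib.Helper8
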