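import Mathlib
import Cfsg.Prelude.Def_Blocks
import Cfsg.Agent.Lib.Helper8.PN1
import Cfsg.Agent.Lib.Helper8.KC1
import Cfsg.Agent.Lib.Helper8.Inf5
import Cfsg.Agent.Lib.Helper8.CoverQuot
import Cfsg.Agent.Lib.Helper8.BlockMinMax
import Cfsg.Agent.Lib.Helper8.BlockFirstMain3

/-!
# The principal block and the quotient by a normal `p'`-subgroup
-/

set_option autoImplicit false

namespace Cfsg.Agent.Lib.Helper8

open Cfsg
open scoped ComplexConjugate
open Cfsg.Agent.Lib.Helper1 Cfsg.Agent.Lib.Helper4

universe u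

section

variable {G : Type u} [Group G] [Fintype G] {M : Ideal AlgInt} {p : ℕ} [Fact p.Prime]

theorem const_one_eq_trivIrr (H : Type u) [Group H] :
    (fun _ : H => (1 : ℂ)) = (trivIrr H : H → ℂ) := by
  funext g
  rw [trivIrr_apply]

/-- Members of the principal block are trivial on every normal `p'`-subgroup. -/
theorem principalBlock_ker (hM : IsPModular p M) (Y : Subgroup G) [Y.Normal]
    (hY : ¬ p ∣ Nat.card Y) :
    ∀ χ ∈ principalBlock M G, ∀ y ∈ Y, (χ : G → ℂ) y = (χ : G → ℂ) 1 := by
  have hMp := isPModular_isPrime hM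
  apply ker_of_exists_ker hM isPBlock_principalBlock Y hY (trivIrr_mem_principalBlock hMp.ne_top)
  intro y _
  rw [trivIrr_apply, trivIrr_apply]

theorem inflIrr_injective (N : Subgroup G) [N.Normal] : Function.Injective (inflIrr N) := by
  intro χ ψ h
  apply Subtype.ext
  funext q
  obtain ⟨g, rfl⟩ := QuotientGroup.mk_surjective q
  have := congrArg (fun φ : IrrCharacter G => (φ : G → ℂ) g) h
  simpa [inflIrr_apply] using this

/-- The principal block of `G` is the inflation of the principal block of `G ⧸ N` for a normal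
`p'`-subgroup `N`. -/
theorem image_inflIrr_principalBlock (hM : IsPModular p M) (N : Subgroup G) [N.Normal]
    (hN : ¬ p ∣ Nat.card N) :
    inflIrr N '' principalBlock M (G ⧸ N) = principalBlock M G := by
  classical
  have hMp := isPModular_isPrime hM
  haveI : Fintype (G ⧸ N) := Fintype.ofFinite _
  ext χ
  constructor
  · rintro ⟨ψ, hψ, rfl⟩
    exact sameBlock_inflation N hMp hψ
  · intro hχ
    have hker := principalBlock_ker hM N hN χ hχ
    obtain ⟨ψ, hψ, hψχ⟩ := exists_deflation N χ.2 hker
    refine ⟨⟨ψ, hψ⟩, ?_, ?_⟩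
    · have h1 : IsIrrCharacter (G ⧸ N) (fun _ : G ⧸ N => (1 : ℂ)) := by
        rw [const_one_eq_trivIrr]
        exact (trivIrr (G ⧸ N)).2
      have h2 : (fun g : G => ψ (QuotientGroup.mk g)) = (χ : G → ℂ) := funext hψχ
      have h3 : SameBlock M (fun g : G => (fun _ : G ⧸ N => (1 : ℂ)) (QuotientGroup.mk g))
          (fun g : G => ψ (QuotientGroup.mk g)) := by
        rw [h2]
        exact hχ
      exact sameBlock_of_inflation N hM hN h1 hψ h3
    · apply Subtype.ext
      funext g
      rw [inflIrr_apply]
      exact hψχ g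

theorem charDegree_inflIrr (N : Subgroup G) [N.Normal] (ψ : IrrCharacter (G ⧸ N)) :
    charDegree (inflIrr N ψ : G → ℂ) = charDegree (ψ : G ⧸ N → ℂ) := by
  unfold charDegree
  rw [inflIrr_apply, QuotientGroup.mk_one]

/-- The sum of `|ψ(q)|²` over all irreducible characters is the centralizer order. -/
theorem sum_normSq_eq_card_centralizer (H : Type u) [Group H] [Fintype H]
    [Fintype (IrrCharacter H)] (q : H) :
    ∑ ψ : IrrCharacter H, Complex.normSq ((ψ : H → ℂ) q) =
      (Nat.card (Subgroup.centralizer ({q} : Set H)) : ℝ) := by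
  have h1 := column_orthogonality (G := H) q q
  have h2 : classIndicator q q = 1 := by
    unfold classIndicator
    rw [if_pos (IsConj.refl q)]
  rw [h2, mul_one] at h1
  apply Complex.ofReal_injective
  rw [Complex.ofReal_sum, Complex.ofReal_natCast, ← h1]
  refine Finset.sum_congr rfl fun ψ _ => ?_
  rw [Complex.mul_conj]

end

end Cfsg.Agent.Lib.Helper8
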