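import Mathlib
import Cfsg.Prelude.Def_Blocks
import Cfsg.Agent.Lib.Helper8.BlockCenterDefect

/-!
# Classes with non-vanishing central character: `p`-parts in the centre of the defect group
-/

set_option autoImplicit false

namespace Cfsg.Agent.Lib.Helper8

open Cfsg
open scoped ComplexConjugate
open Cfsg.Agent.Lib.Helper1 Cfsg.Agent.Lib.Helper4

universe u

section

variable {G : Type u} [Group G] [Finite G] {M : Ideal AlgInt} {p : ℕ} [Fact p.Prime]

theorem exists_conj_centralizer_ppart_center (hM : IsPModular p M) {B : Set (IrrCharacter G)}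
    (hB : IsPBlock M B) {P : Subgroup G} (hP : IsDefectGroup p M B P) {g : G}
    (hg : ∃ χ ∈ B, ¬ MemLocalIdeal M (centralChar (χ : G → ℂ) g)) :
    ∃ x : G, IsConj g x ∧ x ∈ Subgroup.centralizer (P : Set G) ∧
      ∀ z : G, IsPPart p x z → z ∈ P ∧ ∀ w ∈ P, z * w = w * z := by
  classical
  have : Fintype G := Fintype.ofFinite G
  have : Fintype (Subgroup.normalizer (P : Set G)) := Fintype.ofFinite _
  have hp : p.Prime := Fact.out
  have hMp := isPModular_isPrime hM
  have hPp := isPGroup_of_isDefectGroup hP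
  have hPN : P ≤ Subgroup.normalizer (P : Set G) := Subgroup.le_normalizer
  obtain ⟨b, hb, hbD, hind⟩ := firstMain_exists hM P hPp hB hP
  obtain ⟨ξ, hξ⟩ := isPBlock_nonempty hMp hb
  obtain ⟨χ, hχB, hχg⟩ := hg
  have c2 := hind.2.2 ξ hξ χ hχB g
  have c1 := memLocalIdeal_induced_sub_brauer hM P (Subgroup.normalizer (P : Set G)) hPp hPN
    le_rfl ξ g
  have hbr : ¬ MemLocalIdeal M (brauerCentralChar P (Subgroup.normalizer (P : Set G))
      (ξ : Subgroup.normalizer (P : Set G) → ℂ) g) := by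
    intro hJ
    apply hχg
    have c3 := memLocalIdeal_add hMp (cong_trans hMp (cong_symm c2) c1) hJ
    rwa [sub_add_cancel] at c3
  obtain ⟨y, hgy, hyC, hyω⟩ := exists_conj_of_brauerCentralChar hMp P
    (Subgroup.normalizer (P : Set G)) le_rfl ξ.2 hbr
  have hPn : (P.subgroupOf (Subgroup.normalizer (P : Set G))).Normal :=
    (Subgroup.normal_subgroupOf_iff_le_normalizer hPN).2 le_rfl
  have hP'p : IsPGroup p (P.subgroupOf (Subgroup.normalizer (P : Set G))) := hPp.comap_subtype
  have hd : Nat.card (P.subgroupOf (Subgroup.normalizer (P : Set G))) = p ^ blockDefect p b :=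
    card_of_isDefectGroup hM hb hbD
  have hreg : ¬ p ∣ orderOf (QuotientGroup.mk y :
      Subgroup.normalizer (P : Set G) ⧸ P.subgroupOf (Subgroup.normalizer (P : Set G))) :=
    fun h => hyω (memLocalIdeal_centralChar_of_quotient_singular hM _ hP'p hb hd h ξ hξ)
  refine ⟨(y : G), hgy, hyC, ?_⟩
  intro z hz
  obtain ⟨m, hm⟩ := IsPPart.exists_zpow hp hz
  obtain ⟨y', _, _, ⟨k, hk⟩, _⟩ := hz
  have hzN : ((y ^ m : Subgroup.normalizer (P : Set G)) : G) = z := by
    rw [hm, Subgroup.coe_zpow]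
  have hzC : z ∈ Subgroup.centralizer (P : Set G) := by
    rw [hm]
    exact Subgroup.zpow_mem _ hyC m
  have hpow : (y ^ m) ^ (p ^ k) = 1 := by
    apply Subtype.ext
    rw [Subgroup.coe_pow, hzN, Subgroup.coe_one, ← hk, pow_orderOf_eq_one]
  have h1 : orderOf (QuotientGroup.mk (y ^ m) :
      Subgroup.normalizer (P : Set G) ⧸ P.subgroupOf (Subgroup.normalizer (P : Set G))) ∣ p ^ k := by
    apply orderOf_dvd_of_pow_eq_one
    rw [← QuotientGroup.mk_pow, hpow, QuotientGroup.mk_one]
  have h2 : orderOf (QuotientGroup.mk (y ^ m) :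
      Subgroup.normalizer (P : Set G) ⧸ P.subgroupOf (Subgroup.normalizer (P : Set G))) ∣
      orderOf (QuotientGroup.mk y :
      Subgroup.normalizer (P : Set G) ⧸ P.subgroupOf (Subgroup.normalizer (P : Set G))) := by
    apply orderOf_dvd_of_mem_zpowers
    rw [QuotientGroup.mk_zpow]
    exact Subgroup.zpow_mem_zpowers _ m
  have hcop : Nat.Coprime (orderOf (QuotientGroup.mk y :
      Subgroup.normalizer (P : Set G) ⧸ P.subgroupOf (Subgroup.normalizer (P : Set G)))) (p ^ k) :=
    Nat.Coprime.pow_right k ((Nat.Prime.coprime_iff_not_dvd hp).2 hreg).symm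
  have h3 := Nat.Coprime.eq_one_of_dvd (hcop.coprime_dvd_left h2) h1
  rw [orderOf_eq_one_iff, QuotientGroup.eq_one_iff, Subgroup.mem_subgroupOf, hzN] at h3
  refine ⟨h3, ?_⟩
  intro w hw
  exact (Subgroup.mem_centralizer_iff.1 hzC w hw).symm

end

end Cfsg.Agent.Lib.Helper8
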