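import Mathlib
import Cfsg.Prelude.Def_Blocks
import Cfsg.Agent.Lib.Helper8.KN2
import Cfsg.Agent.Lib.Helper8.BlockCenterDefect2
import Cfsg.Agent.Lib.Helper8.Cover2

/-!
# Uniqueness of the covering block when the centralizer of a defect group lies in the normal
subgroup (Navarro 9.20)
-/

set_option autoImplicit false
set_option linter.unusedSectionVars false

namespace Cfsg.Agent.Lib.Helper8

open Cfsg
open scoped ComplexConjugate
open Cfsg.Agent.Lib.Helper1 Cfsg.Agent.Lib.Helper4

universe u

section

variable {G : Type u} [Group G] [Fintype G] (N : Subgroup G) [hN : N.Normal] [Fintype N]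
  {M : Ideal AlgInt} {p : ℕ} [Fact p.Prime]

/-- If `B` covers `b` and the centralizer of a defect group of `b` lies in `N`, then the central
characters of `B` vanish modulo the local ideal outside `N`. -/
theorem centralChar_vanish_of_covers (hM : IsPModular p M) {b : Set (IrrCharacter N)}
    (hb : IsPBlock M b) {Qn : Subgroup N} (hQ : IsDefectGroup p M b Qn)
    (hC : Subgroup.centralizer ((Qn.map N.subtype : Subgroup G) : Set G) ≤ N)
    {B : Set (IrrCharacter G)} (hB : IsPBlock M B) (hcov : Covers N B b)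
    {χ : IrrCharacter G} (hχ : χ ∈ B) {g : G} (hg : g ∉ N) :
    MemLocalIdeal M (centralChar (χ : G → ℂ) g) := by
  by_contra hcon
  obtain ⟨P, hP, hPN, -⟩ := knorr N hM hb hB hcov hQ
  obtain ⟨x, hgx, hxC, -⟩ := exists_conj_centralizer_ppart_center hM hB hP ⟨χ, hχ, hcon⟩
  have hxN : x ∈ N := by
    apply hC
    rw [← hPN]
    exact Subgroup.centralizer_le (inf_le_left : P ⊓ N ≤ P) hxC
  apply hg
  obtain ⟨c, hc⟩ := isConj_iff.1 hgx
  have : g = c⁻¹ * x * c⁻¹⁻¹ := by rw [← hc]; group
  rw [this]
  exact hN.conj_mem x hxN c⁻¹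

/-- **Navarro 9.20**: if the centralizer of a defect group of the block `b` of the normal subgroup
`N` lies in `N`, then at most one block of `G` covers `b`. -/
theorem covers_unique_of_centralizer (hM : IsPModular p M) {b : Set (IrrCharacter N)}
    (hb : IsPBlock M b) {Qn : Subgroup N} (hQ : IsDefectGroup p M b Qn)
    (hC : Subgroup.centralizer ((Qn.map N.subtype : Subgroup G) : Set G) ≤ N)
    {B B' : Set (IrrCharacter G)} (hB : IsPBlock M B) (hB' : IsPBlock M B')
    (hcov : Covers N B b) (hcov' : Covers N B' b) : B = B' := by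
  have hMp := isPModular_isPrime hM
  obtain ⟨χ, hχ⟩ := isPBlock_nonempty hMp hB
  obtain ⟨χ', hχ'⟩ := isPBlock_nonempty hMp hB'
  obtain ⟨θ, hθ⟩ := isPBlock_nonempty hMp hb
  have hsame : SameBlock M (χ : G → ℂ) (χ' : G → ℂ) := by
    intro g
    by_cases hg : g ∈ N
    · have h1 := covers_cong N hMp hB hb hcov hχ hθ ⟨g, hg⟩
      have h2 := covers_cong N hMp hB' hb hcov' hχ' hθ ⟨g, hg⟩
      exact cong_trans hMp h1 (cong_symm h2)
    · exact memLocalIdeal_sub hMp
        (centralChar_vanish_of_covers N hM hb hQ hC hB hcov hχ hg)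
        (centralChar_vanish_of_covers N hM hb hQ hC hB' hcov' hχ' hg)
  rw [eq_blockOf_of_mem hMp hB hχ, eq_blockOf_of_mem hMp hB' hχ']
  ext ψ
  constructor
  · intro h
    exact sameBlock_trans hMp (sameBlock_symm hsame) h
  · intro h
    exact sameBlock_trans hMp hsame h

end

end Cfsg.Agent.Lib.Helper8
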