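import Mathlib
import Cfsg.Prelude.Def_Blocks
import Cfsg.Prelude.Def_Local
import Cfsg.Agent.Lib.Helper8.FO1
import Cfsg.Agent.Lib.Helper8.FO2
import Cfsg.Agent.Lib.Helper8.Cover4
import Cfsg.Agent.Lib.Helper8.GL13
import Cfsg.Agent.Lib.Helper2.PConstrained
import Cfsg.Agent.Lib.Helper4.HallHigman
import Cfsg.Agent.Lib.Helper4.SolvBalance
import Cfsg.Agent.Lib.Helper7.PSolvable

/-!
# Fong's theorem: over an invariant character of `O_{p'}(G)` of a `p`-constrained group there is
a single block, of full defect
-/

set_option autoImplicit false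
set_option linter.unusedSectionVars false

namespace Cfsg.Agent.Lib.Helper8

open Cfsg
open scoped ComplexConjugate
open Cfsg.Agent.Lib.Helper1 Cfsg.Agent.Lib.Helper4

universe u

section

variable {G : Type u} [Group G] [Finite G] {p : ℕ} [Fact p.Prime]

theorem isPConstrained_of_isPSolvable (hG : IsPSolvable p G) : IsPConstrained p G := by
  rw [Cfsg.Agent.Lib.Helper2.PConstrained.isPConstrained_iff_quot]
  exact centralizer_pCore_le_of_isPSolvable
    (Cfsg.Agent.Lib.Helper7.isPSolvable_quotient hG _) (pPrimeCore_quotient_self p)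

/-- A block containing a character of degree prime to `p` has full defect. -/
theorem blockDefect_of_pPrime_degree {B : Set (IrrCharacter G)} {χ : IrrCharacter G} (hχ : χ ∈ B)
    (hp : ¬ p ∣ charDegree (χ : G → ℂ)) : blockDefect p B = (Nat.card G).factorization p := by
  unfold blockDefect
  have h0 : sInf ((fun χ : IrrCharacter G => (charDegree (χ : G → ℂ)).factorization p) '' B) = 0 := by
    apply Nat.eq_zero_of_le_zero
    apply Nat.sInf_le
    refine ⟨χ, hχ, ?_⟩
    exact Nat.factorization_eq_zero_of_not_dvd hp
  rw [h0, Nat.sub_zero]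

end

section

variable {G : Type u} [Group G] [Fintype G] {p : ℕ} [Fact p.Prime] {M : Ideal AlgInt}

/-- A defect group of a block of full defect is a Sylow subgroup. -/
theorem exists_sylow_of_full_defect (hM : IsPModular p M) {B : Set (IrrCharacter G)}
    (hB : IsPBlock M B) (hfull : blockDefect p B = (Nat.card G).factorization p) {D : Subgroup G}
    (hD : IsDefectGroup p M B D) : ∃ P : Sylow p G, D = (P : Subgroup G) := by
  have h1 := card_of_isDefectGroup hM hB hD
  rw [hfull] at h1
  exact ⟨Sylow.ofCard D h1, rfl⟩

end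

end Cfsg.Agent.Lib.Helper8
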