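import Mathlib
import Cfsg.Prelude.Def_Blocks
import Cfsg.Prelude.Def_Local
import Cfsg.Agent.Lib.Helper8.FO3

/-!
# Fong's theorem: the characters over an invariant character of `O_{p'}(G)` of a `p`-constrained
group lie in one block
-/

set_option autoImplicit false
set_option linter.unusedSectionVars false

namespace Cfsg.Agent.Lib.Helper8

open Cfsg
open scoped ComplexConjugate
open Cfsg.Agent.Lib.Helper1 Cfsg.Agent.Lib.Helper4 Cfsg.Agent.Lib.Helper2.PConstrained

universe u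

section

variable {G : Type u} [Group G] [Fintype G] {p : ℕ} [Fact p.Prime] {M : Ideal AlgInt}

/-- An irreducible constituent on an intermediate subgroup. -/
theorem exists_middle (N K : Subgroup G) [Fintype N] [Fintype K] (hNK : N ≤ K)
    (χ : IrrCharacter G) {θ : N → ℂ}
    (h : classInner (fun n : N => (χ : G → ℂ) n) θ ≠ 0) :
    ∃ ψ : IrrCharacter K, classInner (fun k : K => (χ : G → ℂ) k) (ψ : K → ℂ) ≠ 0 ∧
      classInner (fun n : N => (ψ : K → ℂ) ⟨n, hNK n.2⟩) θ ≠ 0 := by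
  classical
  haveI : Fintype (IrrCharacter K) := Fintype.ofFinite _
  have hχK : IsClassFunction K (fun k : K => (χ : G → ℂ) k) :=
    isClassFunction_of_isCharacter
      (Cfsg.Agent.S0148.isCharacter_restrict K (isCharacter_of_irr χ.2))
  have h1 := classInner_restrict_eq_sum N K hNK hχK θ
  by_contra hcon
  push Not at hcon
  apply h
  have e : (fun n : N => (χ : G → ℂ) n) = fun n : N => (fun k : K => (χ : G → ℂ) k) ⟨n, hNK n.2⟩ := rfl
  rw [e, h1]
  apply Finset.sum_eq_zero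
  intro ψ _
  by_cases h2 : classInner (fun k : K => (χ : G → ℂ) k) (ψ : K → ℂ) = 0
  · rw [h2, zero_mul]
  · rw [hcon ψ h2, mul_zero]

/-- **Fong**: in a `p`-constrained group, the characters over a `G`-invariant character of
`O_{p'}(G)` lie in one block. -/
theorem fong_sameBlock (hM : IsPModular p M) (hc : IsPConstrained p G) (N : Subgroup G)
    [hN : N.Normal] [Fintype N] (hNdef : N = pPrimeCore p G) (θ : IrrCharacter N)
    (hinv : ∀ (g : G) (n : N), (θ : N → ℂ) ⟨g * n * g⁻¹, hN.conj_mem n n.2 g⟩ = (θ : N → ℂ) n)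
    (χ χ' : IrrCharacter G)
    (hχ : classInner (fun n : N => (χ : G → ℂ) n) (θ : N → ℂ) ≠ 0)
    (hχ' : classInner (fun n : N => (χ' : G → ℂ) n) (θ : N → ℂ) ≠ 0) :
    SameBlock M (χ : G → ℂ) (χ' : G → ℂ) := by
  classical
  have hMp := isPModular_isPrime hM
  have hp : p.Prime := Fact.out
  set K : Subgroup G := pPrimePCore p G with hK
  haveI hKn : K.Normal := pPrimePCore_normal
  have hNK : N ≤ K := by rw [hNdef]; exact pPrimeCore_le_pPrimePCore
  haveI : Fintype K := Fintype.ofFinite _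
  set N' : Subgroup K := N.subgroupOf K with hN'
  haveI hN'n : N'.Normal := Subgroup.normal_subgroupOf
  haveI : Fintype N' := Fintype.ofFinite _
  let e : N' ≃* N := Subgroup.subgroupOfEquivOfLe hNK
  have hcardN' : Nat.card N' = Nat.card N := Nat.card_congr e.toEquiv
  have hpN : ¬ p ∣ Nat.card N := by
    have := Cfsg.Agent.Lib.Helper6.pPrimeCore_coprime (G := G) p
    rw [← hNdef] at this
    exact (Nat.Prime.coprime_iff_not_dvd hp).1 this.symm
  have hpN' : ¬ p ∣ Nat.card N' := by rw [hcardN']; exact hpN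
  have hidx : ∃ k : ℕ, N'.index = p ^ k := by
    have h1 : N'.index = N.relIndex K := rfl
    rw [h1]
    have h3 : N.relIndex K = Nat.card (pCore p (G ⧸ pPrimeCore p G)) := by
      subst hNdef
      have h := Subgroup.relIndex_ker (QuotientGroup.mk' (pPrimeCore p G))
        (K := (pCore p (G ⧸ pPrimeCore p G)).comap (QuotientGroup.mk' (pPrimeCore p G)))
      rw [QuotientGroup.ker_mk',
        Subgroup.map_comap_eq_self_of_surjective (QuotientGroup.mk'_surjective _)] at h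
      exact h
    rw [h3]
    exact IsPGroup.iff_card.1 (Cfsg.Agent.Lib.Helper6.pCore_isPGroup p)
  set θ' : IrrCharacter N' := ⟨fun x => (θ : N → ℂ) (e x), isIrrCharacter_comp_mulEquiv θ.2 e⟩
    with hθ'
  have hinv' : ∀ (g : K) (n : N'),
      (θ' : N' → ℂ) ⟨g * n * g⁻¹, hN'n.conj_mem (n : K) n.2 g⟩ = (θ' : N' → ℂ) n := by
    intro g n
    have h1 := hinv (g : G) (e n)
    show (θ : N → ℂ) (e ⟨g * n * g⁻¹, hN'n.conj_mem (n : K) n.2 g⟩) = (θ : N → ℂ) (e n)
    rw [← h1]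
    exact congrArg _ (Subtype.ext rfl)
  have hb₀ : IsPBlock M ({θ'} : Set (IrrCharacter N')) :=
    ⟨θ', (blockOf_eq_singleton_of_pPrime hM hpN' θ').symm⟩
  -- transfer of "lying over"
  have htr : ∀ ψ : IrrCharacter K,
      classInner (fun n : N => (ψ : K → ℂ) ⟨n, hNK n.2⟩) (θ : N → ℂ) ≠ 0 →
      classInner (fun n : N' => (ψ : K → ℂ) n) (θ' : N' → ℂ) ≠ 0 := by
    intro ψ h
    have h1 := classInner_mulEquiv e (fun n : N => (ψ : K → ℂ) ⟨n, hNK n.2⟩) (θ : N → ℂ)
    rw [← h1] at h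
    exact h
  -- the block of `K` over `θ'`
  have hkey : ∀ χ : IrrCharacter G,
      classInner (fun n : N => (χ : G → ℂ) n) (θ : N → ℂ) ≠ 0 →
      ∃ b : Set (IrrCharacter K), IsPBlock M b ∧ Covers N' b {θ'} ∧
        Covers K (blockOf M (χ : G → ℂ)) b := by
    intro χ hχ
    obtain ⟨ψ, h1, h2⟩ := exists_middle N K hNK χ hχ
    refine ⟨blockOf M (ψ : K → ℂ), ⟨ψ, rfl⟩, ?_, ?_⟩
    · exact ⟨ψ, sameBlock_refl hMp.ne_top _, θ', rfl, htr ψ h2⟩
    · exact ⟨χ, sameBlock_refl hMp.ne_top _, ψ, sameBlock_refl hMp.ne_top _, h1⟩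
  obtain ⟨b, hb, hcov1, hcov2⟩ := hkey χ hχ
  obtain ⟨b', hb', hcov1', hcov2'⟩ := hkey χ' hχ'
  have hbb' : b = b' := covers_unique_of_index N' hM hidx hb hb' hb₀ hcov1 hcov1'
  rw [← hbb'] at hcov2'
  -- the defect groups of `b` are Sylow subgroups of `K`
  obtain ⟨ψ₁, hψ₁, hψ₁p⟩ := exists_over_pPrime_degree N' hpN' θ' hinv'
  have hψ₁b : ψ₁ ∈ b := by
    have hcov3 : Covers N' (blockOf M (ψ₁ : K → ℂ)) {θ'} :=
      ⟨ψ₁, sameBlock_refl hMp.ne_top _, θ', rfl, hψ₁⟩
    have := covers_unique_of_index N' hM hidx ⟨ψ₁, rfl⟩ hb hb₀ hcov3 hcov1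
    rw [← this]
    exact sameBlock_refl hMp.ne_top _
  have hfull := blockDefect_of_pPrime_degree hψ₁b hψ₁p
  obtain ⟨Qn, hQn⟩ := exists_isDefectGroup (p := p) hMp hb
  obtain ⟨P, hP⟩ := exists_sylow_of_full_defect hM hb hfull hQn
  have hC : Subgroup.centralizer ((Qn.map K.subtype : Subgroup G) : Set G) ≤ K := by
    rw [hP]
    exact hc P
  have hBB' := covers_unique_of_centralizer K hM hb hQn hC ⟨χ, rfl⟩ ⟨χ', rfl⟩ hcov2 hcov2'
  have : χ' ∈ blockOf M (χ : G → ℂ) := by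
    rw [hBB']
    exact sameBlock_refl hMp.ne_top _
  exact this

end

end Cfsg.Agent.Lib.Helper8
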