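import Mathlib
import Cfsg.Prelude.Def_Blocks
import Cfsg.Prelude.Def_Local
import Cfsg.Agent.Lib.Helper8.FO4
import Cfsg.Agent.Lib.Helper8.BA6
import Cfsg.Agent.Lib.Helper8.PB1
import Cfsg.Agent.Lib.Helper8.Deflation
import Cfsg.Agent.Lib.Lead.SolvPSolv

/-!
# The principal block of a `p`-solvable group: the characters with `O_{p'}(G)` in the kernel
-/

set_option autoImplicit false
set_option linter.unusedSectionVars false

namespace Cfsg.Agent.Lib.Helper8

open Cfsg
open scoped ComplexConjugate
open Cfsg.Agent.Lib.Helper1 Cfsg.Agent.Lib.Helper4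

universe u

section

variable {G : Type u} [Group G] [Fintype G] {p : ℕ} [Fact p.Prime] {M : Ideal AlgInt}

/-- In a `p`-constrained group, every irreducible character trivial on `O_{p'}(G)` lies in the
principal block. -/
theorem mem_principalBlock_of_trivial_on_core (hM : IsPModular p M) (hc : IsPConstrained p G)
    (χ : IrrCharacter G) (h : ∀ n ∈ pPrimeCore p G, (χ : G → ℂ) n = (χ : G → ℂ) 1) :
    χ ∈ principalBlock M G := by
  classical
  set N : Subgroup G := pPrimeCore p G with hN
  haveI hNn : N.Normal := pPrimeCore_normal p G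
  haveI : Fintype N := Fintype.ofFinite _
  have hNc : (Nat.card N : ℂ) ≠ 0 := Nat.cast_ne_zero.2 Nat.card_pos.ne'
  have hinv : ∀ (g : G) (n : N),
      (trivIrr N : N → ℂ) ⟨g * n * g⁻¹, hNn.conj_mem n n.2 g⟩ = (trivIrr N : N → ℂ) n := by
    intro g n
    rw [trivIrr_apply, trivIrr_apply]
  have h1 : classInner (fun n : N => (trivIrr G : G → ℂ) n) (trivIrr N : N → ℂ) ≠ 0 := by
    rw [classInner_def]
    simp only [trivIrr_apply, map_one, mul_one]
    rw [Finset.sum_const, Finset.card_univ, nsmul_eq_mul, mul_one, ← Nat.card_eq_fintype_card,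
      inv_mul_cancel₀ hNc]
    exact one_ne_zero
  have h2 : classInner (fun n : N => (χ : G → ℂ) n) (trivIrr N : N → ℂ) ≠ 0 := by
    rw [classInner_def]
    have : ∀ n : N, (χ : G → ℂ) n * conj ((trivIrr N : N → ℂ) n) = (χ : G → ℂ) 1 := by
      intro n
      rw [trivIrr_apply, map_one, mul_one]
      exact h n n.2
    simp only [this]
    rw [Finset.sum_const, Finset.card_univ, nsmul_eq_mul, ← Nat.card_eq_fintype_card,
      ← mul_assoc, inv_mul_cancel₀ hNc, one_mul]
    exact irr_apply_one_ne_zero χ.2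
  have := fong_sameBlock hM hc N rfl (trivIrr N) hinv (trivIrr G) χ h1 h2
  have e : (trivIrr G : G → ℂ) = fun _ : G => (1 : ℂ) := by
    funext g
    exact trivIrr_apply g
  rw [e] at this
  exact this

/-- In a `p`-solvable group, the principal block consists of the characters trivial on
`O_{p'}(G)`. -/
theorem mem_principalBlock_iff_of_isPSolvable (hM : IsPModular p M) (hs : IsPSolvable p G)
    (χ : IrrCharacter G) :
    χ ∈ principalBlock M G ↔ ∀ n ∈ pPrimeCore p G, (χ : G → ℂ) n = (χ : G → ℂ) 1 :=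
  ⟨fun h _ hn => principalBlock_apply_pPrimeCore hM h hn,
    mem_principalBlock_of_trivial_on_core hM (isPConstrained_of_isPSolvable hs) χ⟩

end

section

variable {G : Type u} [Group G] [Fintype G]

/-- A nontrivial finite group has an irreducible character which is not the trivial one. -/
theorem exists_irr_ne_one [Nontrivial G] :
    ∃ χ : IrrCharacter G, (χ : G → ℂ) ≠ fun _ => 1 := by
  classical
  haveI : Fintype (IrrCharacter G) := Fintype.ofFinite _
  obtain ⟨g, hg⟩ := exists_ne (1 : G)
  by_contra hcon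
  push Not at hcon
  have h1 := column_orthogonality (1 : G) g
  have h2 : classIndicator (1 : G) g = 0 := by
    unfold classIndicator
    rw [if_neg]
    rw [isConj_one_right]
    exact hg
  rw [h2, mul_zero] at h1
  have h3 : ∀ χ : IrrCharacter G, (χ : G → ℂ) g * conj ((χ : G → ℂ) 1) = 1 := by
    intro χ
    rw [hcon χ]
    simp
  simp only [h3] at h1
  rw [Finset.sum_const, Finset.card_univ, nsmul_eq_mul, mul_one] at h1
  have : Fintype.card (IrrCharacter G) ≠ 0 := by
    haveI : Nonempty (IrrCharacter G) := ⟨trivIrr G⟩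
    exact Fintype.card_ne_zero
  exact this (by exact_mod_cast h1)

/-- A proper normal subgroup lies in the kernel of some nontrivial irreducible character. -/
theorem exists_irr_ne_one_of_normal (K : Subgroup G) [K.Normal] (hK : K ≠ ⊤) :
    ∃ χ : IrrCharacter G, (χ : G → ℂ) ≠ (fun _ => 1) ∧
      ∀ k ∈ K, (χ : G → ℂ) k = (χ : G → ℂ) 1 := by
  classical
  haveI : Fintype (G ⧸ K) := Fintype.ofFinite _
  haveI : Nontrivial (G ⧸ K) := by
    by_contra hnt
    rw [not_nontrivial_iff_subsingleton] at hnt
    apply hK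
    rw [eq_top_iff]
    intro g _
    rw [← QuotientGroup.eq_one_iff]
    exact Subsingleton.elim _ _
  obtain ⟨ψ, hψ⟩ := exists_irr_ne_one (G := G ⧸ K)
  refine ⟨⟨fun g => (ψ : G ⧸ K → ℂ) (QuotientGroup.mk g), isIrrCharacter_inflation K ψ.2⟩, ?_, ?_⟩
  · intro h
    apply hψ
    funext q
    obtain ⟨g, rfl⟩ := QuotientGroup.mk_surjective q
    exact congrFun h g
  · intro k hk
    show (ψ : G ⧸ K → ℂ) (QuotientGroup.mk k) = (ψ : G ⧸ K → ℂ) (QuotientGroup.mk (1 : G))
    rw [(QuotientGroup.eq_one_iff k).2 hk, QuotientGroup.mk_one]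

end

end Cfsg.Agent.Lib.Helper8
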