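import Mathlib
import Cfsg.Prelude.Def_Blocks
import Cfsg.Agent.Lib.Helper8.FO2
import Cfsg.Agent.Lib.Helper8.PN2
import Cfsg.Agent.Lib.Helper8.PSol1
import Cfsg.Agent.Lib.Helper8.GL13
import Cfsg.Agent.Lib.Helper6.PPrimeCore

/-!
# Deficiency class `r` and the core: `C_{O_{p'}(G)}(E₁) = 1` for `p`-subgroups of order `≥ p ^ r`
-/

set_option autoImplicit false
set_option linter.unusedSectionVars false

namespace Cfsg.Agent.Lib.Helper8.BD

open Cfsg
open scoped ComplexConjugate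
open Cfsg.Agent.Lib.Helper1 Cfsg.Agent.Lib.Helper4 Cfsg.Agent.Lib.Helper8

universe u

section

variable {G : Type u} [Group G] [Fintype G] {p : ℕ} [hp : Fact p.Prime] {M : Ideal AlgInt}

/-- If `G` has no nonprincipal `p`-block of defect `≥ r`, then no nontrivial element of
`O_{p'}(G)` centralizes a `p`-subgroup of order at least `p ^ r`. -/
theorem pPrimeCore_inf_centralizer_eq_bot (hM : IsPModular p M) (r : ℕ)
    (hdef : ∀ B : Set (IrrCharacter G), IsPBlock M B → B ≠ principalBlock M G →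
      blockDefect p B < r)
    (E₁ : Subgroup G) (s : ℕ) (hs : r ≤ s) (hE₁ : Nat.card E₁ = p ^ s) :
    pPrimeCore p G ⊓ Subgroup.centralizer (E₁ : Set G) = ⊥ := by
  classical
  by_contra hne
  have hMp := isPModular_isPrime hM
  set O : Subgroup G := pPrimeCore p G with hO
  haveI hOn : O.Normal := (Cfsg.Agent.Lib.Helper6.pPrimeCore_mem_set p).1
  have hOp : (Nat.card O).Coprime p := Cfsg.Agent.Lib.Helper6.pPrimeCore_coprime p
  have hOp' : ¬ p ∣ Nat.card O := fun h =>
    hp.out.one_lt.ne' (Nat.eq_one_of_dvd_coprimes hOp.symm (dvd_refl p) h)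
  set C : Subgroup G := O ⊓ Subgroup.centralizer (E₁ : Set G) with hC
  set H : Subgroup G := E₁ ⊔ C with hH
  have hCH : C ≤ H := le_sup_right
  have hEH : E₁ ≤ H := le_sup_left
  have hcomm : ∀ e ∈ E₁, ∀ c ∈ C, e * c = c * e := by
    intro e he c hc
    have := Subgroup.mem_centralizer_iff.1 hc.2 e he
    exact this
  have hEC : E₁ ≤ Subgroup.centralizer (C : Set G) := by
    intro e he
    rw [Subgroup.mem_centralizer_iff]
    intro c hc
    exact (hcomm e he c hc).symm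
  have hHnorm : H ≤ Subgroup.normalizer (C : Set G) :=
    sup_le (hEC.trans (Subgroup.centralizer_le_normalizer _)) Subgroup.le_normalizer
  -- elements of `H`
  have hHmem : ∀ g ∈ H, ∃ e ∈ E₁, ∃ c ∈ C, g = e * c := by
    intro g hg
    have h1 := Subgroup.coe_mul_of_left_le_normalizer_right E₁ C
      (hEC.trans (Subgroup.centralizer_le_normalizer _))
    have hg' : g ∈ ((E₁ ⊔ C : Subgroup G) : Set G) := hg
    rw [h1] at hg'
    obtain ⟨e, he, c, hc, rfl⟩ := hg'
    exact ⟨e, he, c, hc, rfl⟩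
  haveI : Fintype H := Fintype.ofFinite _
  haveI : Fintype C := Fintype.ofFinite _
  set N' : Subgroup H := C.subgroupOf H with hN'
  haveI hN'n : N'.Normal := (Subgroup.normal_subgroupOf_iff_le_normalizer hCH).2 hHnorm
  haveI : Fintype N' := Fintype.ofFinite _
  let e : N' ≃* C := Subgroup.subgroupOfEquivOfLe hCH
  have hcardN' : Nat.card N' = Nat.card C := Nat.card_congr e.toEquiv
  have hCp : ¬ p ∣ Nat.card C := fun h =>
    hOp' (h.trans (Subgroup.card_dvd_of_le inf_le_left))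
  have hN'p : ¬ p ∣ Nat.card N' := by rw [hcardN']; exact hCp
  -- a nontrivial irreducible character of `C`
  haveI : Nontrivial C := by
    rw [Subgroup.nontrivial_iff_ne_bot]
    exact hne
  obtain ⟨θ₀, hθ₀⟩ := exists_irr_ne_one (G := C)
  set θ' : N' → ℂ := fun x => (θ₀ : C → ℂ) (e x) with hθ'
  have hθ'irr : IsIrrCharacter N' θ' := isIrrCharacter_comp_mulEquiv θ₀.2 e
  have hinv : ∀ (g : H) (n : N'),
      θ' ⟨g * n * g⁻¹, hN'n.conj_mem (n : H) n.2 g⟩ = θ' n := by
    intro g n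
    obtain ⟨e₁, he₁, c, hc, hg⟩ := hHmem g g.2
    have hnC : ((n : H) : G) ∈ C := n.2
    have hcl := isClassFunction_irr θ₀.2 (e n) ⟨c, hc⟩
    show (θ₀ : C → ℂ) (e ⟨g * n * g⁻¹, hN'n.conj_mem (n : H) n.2 g⟩) = (θ₀ : C → ℂ) (e n)
    rw [← hcl]
    refine congrArg _ (Subtype.ext ?_)
    show (g : G) * ((n : H) : G) * (g : G)⁻¹ = c * ((n : H) : G) * c⁻¹
    rw [hg]
    have h2 : c * ((n : H) : G) * c⁻¹ ∈ C := C.mul_mem (C.mul_mem hc hnC) (C.inv_mem hc)
    have h3 := hcomm e₁ he₁ _ h2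
    calc e₁ * c * ((n : H) : G) * (e₁ * c)⁻¹ = e₁ * (c * ((n : H) : G) * c⁻¹) * e₁⁻¹ := by group
      _ = (c * ((n : H) : G) * c⁻¹) * e₁ * e₁⁻¹ := by rw [h3]
      _ = c * ((n : H) : G) * c⁻¹ := by group
  obtain ⟨ψ, hψθ, hψp⟩ := exists_over_pPrime_degree N' hN'p ⟨θ', hθ'irr⟩ hinv
  -- induce to `G`
  obtain ⟨d, hd0, hd⟩ := irr_apply_one_pos ψ.2
  have hdp : ¬ p ∣ d := by
    rw [← charDegree_of_apply_one hd]; exact hψp
  have hΨ : IsCharacter G (indFun H (ψ : H → ℂ)) :=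
    Cfsg.Agent.S0148.result H _ (isCharacter_of_irr ψ.2)
  have hΨ1 : indFun H (ψ : H → ℂ) 1 = ((H.index * d : ℕ) : ℂ) := by
    rw [Cfsg.Agent.S0170.indFun_one, hd]
    have h2 : (Nat.card G : ℂ) = (H.index : ℂ) * (Nat.card H : ℂ) := by
      rw [← Nat.cast_mul, Subgroup.index_mul_card]
    have hL0 : (Nat.card H : ℂ) ≠ 0 := Nat.cast_ne_zero.2 Nat.card_pos.ne'
    rw [h2]
    push_cast
    field_simp
  set a := (Nat.card G).factorization p with ha
  have hG0 : Nat.card G ≠ 0 := Nat.card_pos.ne'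
  have hsa : s ≤ a := by
    rw [ha, ← Nat.Prime.pow_dvd_iff_le_factorization hp.out hG0, ← hE₁]
    exact Subgroup.card_subgroup_dvd_card E₁
  have hnot : ¬ p ^ (a - s + 1) ∣ H.index * d := by
    intro h
    have h1 : p ^ (a - s + 1) ∣ H.index :=
      (Nat.Coprime.pow_left _ ((Nat.Prime.coprime_iff_not_dvd hp.out).2 hdp)).dvd_of_dvd_mul_right h
    have h2 : p ^ s ∣ Nat.card H := by
      rw [← hE₁]; exact Subgroup.card_dvd_of_le hEH
    have h3 : p ^ (a - s + 1) * p ^ s ∣ Nat.card G := by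
      rw [← Subgroup.index_mul_card H]
      exact Nat.mul_dvd_mul h1 h2
    rw [← pow_add, Nat.Prime.pow_dvd_iff_le_factorization hp.out hG0, ← ha] at h3
    omega
  obtain ⟨χ, hχ, hχp⟩ := exists_pPrime_constituent hΨ hΨ1 hnot
  -- the block of `χ` has defect at least `s`
  have hχdeg : (charDegree (χ : G → ℂ)).factorization p ≤ a - s := by
    have hcd0 : charDegree (χ : G → ℂ) ≠ 0 := by
      obtain ⟨d', hd'0, hd'⟩ := irr_apply_one_pos χ.2
      rw [charDegree_of_apply_one hd']; exact hd'0.ne'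
    rw [Nat.Prime.pow_dvd_iff_le_factorization hp.out hcd0] at hχp
    omega
  set B : Set (IrrCharacter G) := blockOf M (χ : G → ℂ) with hB
  have hBblock : IsPBlock M B := ⟨χ, rfl⟩
  have hχB : χ ∈ B := sameBlock_refl hMp.ne_top _
  have hBdef : r ≤ blockDefect p B := by
    unfold blockDefect
    have h1 : sInf ((fun χ : IrrCharacter G => (charDegree (χ : G → ℂ)).factorization p) '' B) ≤
        (charDegree (χ : G → ℂ)).factorization p := Nat.sInf_le ⟨χ, hχB, rfl⟩
    rw [← ha]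
    omega
  have hBprin : B = principalBlock M G := by
    by_contra hBne
    have := hdef B hBblock hBne
    omega
  rw [hBprin] at hχB
  have hker := principalBlock_ker hM O hOp' χ hχB
  -- contradiction: `χ` lies over `θ₀`
  rw [Cfsg.Agent.S0146.result H (ψ : H → ℂ) (χ : G → ℂ) (isClassFunction_irr χ.2)] at hχ
  have hχH : IsCharacter H (fun l : H => (χ : G → ℂ) l) :=
    Cfsg.Agent.S0148.isCharacter_restrict H (isCharacter_of_irr χ.2)
  have h1 : classInner (fun l : H => (χ : G → ℂ) l) (ψ : H → ℂ) ≠ 0 := by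
    intro h0
    apply hχ
    rw [← classInner_conj_symm, h0, map_zero]
  have h2 : classInner (fun n : C => (ψ : H → ℂ) ⟨n, hCH n.2⟩) (θ₀ : C → ℂ) ≠ 0 := by
    have h3 := classInner_mulEquiv e (fun n : C => (ψ : H → ℂ) ⟨n, hCH n.2⟩) (θ₀ : C → ℂ)
    rw [← h3]
    exact hψθ
  have h4 := classInner_restrict_ne_zero_of_constituent C H hCH hχH ψ.2 h1 θ₀.2 h2
  apply h4
  have h5 : (fun n : C => (fun l : H => (χ : G → ℂ) l) ⟨n, hCH n.2⟩) =
      ((χ : G → ℂ) 1) • (trivIrr C : C → ℂ) := by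
    funext n
    rw [Pi.smul_apply, trivIrr_apply, smul_eq_mul, mul_one]
    exact hker n n.2.1
  rw [h5, classInner_smul_left, classInner_irr_ne (trivIrr C).2 θ₀.2, mul_zero]
  intro h
  apply hθ₀
  rw [← h]
  funext x
  exact trivIrr_apply x

end

end Cfsg.Agent.Lib.Helper8.BD
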