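import Mathlib
import Cfsg.Prelude.Def_Blocks
import Cfsg.Agent.Lib.Helper8.BD5
import Cfsg.Agent.S1324

/-!
# Deficiency class `r` with an elementary abelian subgroup of order `p ^ (r + 1)`: `O_{p'}(G) = 1`
-/

set_option autoImplicit false
set_option linter.unusedSectionVars false

namespace Cfsg.Agent.Lib.Helper8.BD

open Cfsg

universe u

section

variable {G : Type u} [Group G] [Fintype G] {p : ℕ} [hp : Fact p.Prime] {M : Ideal AlgInt}

theorem pPrimeCore_eq_bot_of_elementary (hM : IsPModular p M) (r : ℕ)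
    (hdef : ∀ B : Set (IrrCharacter G), IsPBlock M B → B ≠ principalBlock M G →
      blockDefect p B < r)
    (E : Subgroup G) (hEel : IsElementaryAbelian p E) (hE : Nat.card E = p ^ (r + 1)) :
    pPrimeCore p G = ⊥ := by
  classical
  set O : Subgroup G := pPrimeCore p G with hO
  haveI hOn : O.Normal := (Cfsg.Agent.Lib.Helper6.pPrimeCore_mem_set p).1
  have hOp : (Nat.card O).Coprime p := Cfsg.Agent.Lib.Helper6.pPrimeCore_coprime p
  have hOp' : ¬ p ∣ Nat.card O := fun h =>
    hp.out.one_lt.ne' (Nat.eq_one_of_dvd_coprimes hOp.symm (dvd_refl p) h)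
  rcases Nat.eq_zero_or_pos r with hr | hr
  · have h1 := pPrimeCore_inf_centralizer_eq_bot hM r hdef ⊥ 0 (by omega) (by simp)
    rw [← hO] at h1
    rw [Subgroup.coe_bot, Subgroup.centralizer_eq_top_iff_subset.mpr (by simp), inf_top_eq] at h1
    exact h1
  · have hE2 : p ^ 2 ≤ Nat.card E := by
      rw [hE]; exact Nat.pow_le_pow_right hp.out.pos (by omega)
    have hnorm : E ≤ Subgroup.normalizer (O : Set G) := by
      rw [Subgroup.normalizer_eq_top]; exact le_top
    have h1 := Cfsg.Agent.S1324.result p E O hEel hE2 hOp' hnorm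
    rw [h1]
    apply le_antisymm _ bot_le
    apply iSup_le
    rintro ⟨B, hBE, hBidx⟩
    show O ⊓ Subgroup.centralizer (B : Set G) ≤ ⊥
    have h2 : B.relIndex E * Nat.card B = Nat.card E := by
      have := Subgroup.relIndex_mul_relIndex ⊥ B E bot_le hBE
      rw [Subgroup.relIndex_bot_left, Subgroup.relIndex_bot_left] at this
      rw [mul_comm]; exact this
    have h3 : Nat.card B ∣ p ^ (r + 1) := by rw [← hE]; exact Subgroup.card_dvd_of_le hBE
    obtain ⟨s, hsr, hs⟩ := (Nat.dvd_prime_pow hp.out).1 h3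
    have h4 : r ≤ s := by
      by_contra hlt
      push Not at hlt
      -- relIndex = p^(r+1-s) ≥ p^2 > p
      rw [hs, hE] at h2
      have h5 : B.relIndex E = p ^ (r + 1 - s) := by
        have h6 : p ^ (r + 1) = p ^ (r + 1 - s) * p ^ s := by
          rw [← pow_add]; congr 1; omega
        rw [h6] at h2
        exact Nat.eq_of_mul_eq_mul_right (pow_pos hp.out.pos s) h2
      have h7 : p ^ 2 ≤ p ^ (r + 1 - s) := Nat.pow_le_pow_right hp.out.pos (by omega)
      have h8 : p < p ^ 2 := by
        have := hp.out.one_lt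
        nlinarith
      omega
    have := pPrimeCore_inf_centralizer_eq_bot hM r hdef B s h4 hs
    rw [← hO] at this
    rw [this]

/-- A group of order prime to `p` with only one `p`-block is trivial. -/
theorem card_eq_one_of_coprime_of_deficiency_zero (hM : IsPModular p M)
    (hdef : ∀ B : Set (IrrCharacter G), IsPBlock M B → B ≠ principalBlock M G →
      blockDefect p B < 0)
    (hG : ¬ p ∣ Nat.card G) : Nat.card G = 1 := by
  have h1 := pPrimeCore_inf_centralizer_eq_bot hM 0 hdef ⊥ 0 le_rfl (by simp)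
  rw [Subgroup.coe_bot, Subgroup.centralizer_eq_top_iff_subset.mpr (by simp), inf_top_eq] at h1
  have h2 : (⊤ : Subgroup G) ≤ pPrimeCore p G := by
    apply Cfsg.Agent.Lib.Helper6.le_pPrimeCore inferInstance
    rw [Subgroup.card_top]
    exact ((Nat.Prime.coprime_iff_not_dvd hp.out).2 hG).symm
  rw [h1] at h2
  have h3 : (⊤ : Subgroup G) = ⊥ := le_antisymm h2 bot_le
  rw [← Subgroup.card_top, h3, Subgroup.card_bot]

end

end Cfsg.Agent.Lib.Helper8.BD
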