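import Mathlib
import Cfsg.Prelude.Def_Blocks
import Cfsg.Agent.Lib.Helper8.Inf3
import Cfsg.Agent.Lib.Helper8.Inf5
import Cfsg.Agent.Lib.Helper8.BlockFirstMain3
import Cfsg.Agent.Lib.Helper8.BlockPairMax
import Cfsg.Agent.Lib.Helper8.BlockMinMax
import Cfsg.Agent.Lib.Helper8.PN2

/-!
# Deficiency class of the quotient by a central subgroup of order `p`
-/

set_option autoImplicit false
set_option linter.unusedSectionVars false

namespace Cfsg.Agent.Lib.Helper8.BD

open Cfsg
open scoped ComplexConjugate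
open Cfsg.Agent.Lib.Helper1 Cfsg.Agent.Lib.Helper4 Cfsg.Agent.Lib.Helper8

universe u

section

variable {X : Type u} [Group X] [Fintype X] {p : ℕ} [hp : Fact p.Prime] {M : Ideal AlgInt}

/-- If `X` has no nonprincipal block of defect `≥ r` and `Z` is a central subgroup of order `p`,
then `X ⧸ Z` has no nonprincipal block of defect `≥ r - 1`. -/
theorem deficiency_quotient_central (hM : IsPModular p M) (r : ℕ)
    (hdef : ∀ B : Set (IrrCharacter X), IsPBlock M B → B ≠ principalBlock M X →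
      blockDefect p B < r)
    (Z : Subgroup X) [Z.Normal] (hZc : Z ≤ Subgroup.center X) (hZ : Nat.card Z = p) :
    ∀ Bbar : Set (IrrCharacter (X ⧸ Z)), IsPBlock M Bbar → Bbar ≠ principalBlock M (X ⧸ Z) →
      blockDefect p Bbar < r - 1 := by
  classical
  intro Bbar hBbar hBne
  have hMp := isPModular_isPrime hM
  haveI : Fintype (X ⧸ Z) := Fintype.ofFinite _
  have hZp : IsPGroup p Z := IsPGroup.of_card (n := 1) (by rw [hZ, pow_one])
  have hcen : Subgroup.centralizer (Z : Set X) = ⊤ := by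
    rw [Subgroup.centralizer_eq_top_iff_subset]
    exact hZc
  have hC : ∃ k : ℕ, (Subgroup.centralizer (Z : Set X)).index = p ^ k :=
    ⟨0, by rw [hcen, Subgroup.index_top, pow_zero]⟩
  obtain ⟨hsame, -⟩ := blocks_quotient_normal_p hM Z hZp hC
  obtain ⟨χbar, hχbar⟩ := isPBlock_nonempty hMp hBbar
  set θ : IrrCharacter X := inflIrr Z χbar with hθ
  set B : Set (IrrCharacter X) := blockOf M (θ : X → ℂ) with hB
  have hBblock : IsPBlock M B := ⟨θ, rfl⟩
  obtain ⟨Bbar', hBbar', hdom, hdefgp⟩ := exists_dominated_block_defect Z hM hZp hBblock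
  -- `Bbar' = Bbar`
  obtain ⟨ψbar, hψbar⟩ := isPBlock_nonempty hMp hBbar'
  have h1 : inflIrr Z ψbar ∈ B := hdom ψbar hψbar (inflIrr Z ψbar) rfl
  have h2 : SameBlock M (χbar : X ⧸ Z → ℂ) (ψbar : X ⧸ Z → ℂ) := (hsame χbar ψbar).2 h1
  have hBeq : Bbar' = Bbar := by
    rw [eq_blockOf_of_mem hMp hBbar' hψbar, eq_blockOf_of_mem hMp hBbar hχbar]
    ext φ
    exact ⟨fun h => sameBlock_trans hMp h2 h, fun h => sameBlock_trans hMp (sameBlock_symm h2) h⟩
  rw [hBeq] at hdefgp
  -- `B` is not principal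
  have hBnp : B ≠ principalBlock M X := by
    intro hBp
    apply hBne
    have h3 : trivIrr X ∈ B := by rw [hBp]; exact trivIrr_mem_principalBlock hMp.ne_top
    have h4 : (trivIrr X : X → ℂ) = ((trivIrr (X ⧸ Z) : X ⧸ Z → ℂ)) ∘ QuotientGroup.mk := by
      funext x
      rw [Function.comp_apply, trivIrr_apply, trivIrr_apply]
    have h5 : SameBlock M ((χbar : X ⧸ Z → ℂ) ∘ QuotientGroup.mk)
        ((trivIrr (X ⧸ Z) : X ⧸ Z → ℂ) ∘ QuotientGroup.mk) := by
      rw [← h4]; exact h3
    have h6 := (hsame χbar (trivIrr (X ⧸ Z))).2 h5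
    rw [eq_blockOf_of_mem hMp hBbar hχbar,
      eq_blockOf_of_mem hMp isPBlock_principalBlock (trivIrr_mem_principalBlock hMp.ne_top)]
    ext φ
    exact ⟨fun h => sameBlock_trans hMp (sameBlock_symm h6) h, fun h => sameBlock_trans hMp h6 h⟩
  have hBd := hdef B hBblock hBnp
  -- defects
  obtain ⟨D, hD⟩ := exists_isDefectGroup (p := p) hMp hBblock
  have hDbar : IsDefectGroup p M Bbar (D.map (QuotientGroup.mk' Z)) := (hdefgp _).2 ⟨D, hD, rfl⟩
  have hcD := card_of_isDefectGroup hM hBblock hD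
  have hcDbar := card_of_isDefectGroup hM hBbar hDbar
  have hZD : Z ≤ D := normal_le_of_isDefectGroup hM hBblock hD Z hZp
  have hcomap : (D.map (QuotientGroup.mk' Z)).comap (QuotientGroup.mk' Z) = D := by
    rw [Subgroup.comap_map_eq, QuotientGroup.ker_mk']
    exact sup_eq_left.2 hZD
  have hcard := card_comap_mk Z (D.map (QuotientGroup.mk' Z))
  rw [hcomap, hcD, hcDbar, hZ, ← pow_succ] at hcard
  have := Nat.pow_right_injective hp.out.two_le hcard
  omega

end

end Cfsg.Agent.Lib.Helper8.BD
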