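import Mathlib
import Cfsg.Prelude.Def_Blocks
import Cfsg.Agent.Lib.Helper8.BD4
import Cfsg.Agent.Lib.Helper8.BD6
import Cfsg.Agent.Lib.Helper8.BD7
import Cfsg.Agent.Lib.Helper8.DC2

/-!
# Brauer's bound for groups of 2-deficiency class `r` with an elementary abelian subgroup of
order `2 ^ (r + 1)`: the induction
-/

set_option autoImplicit false
set_option linter.unusedSectionVars false

namespace Cfsg.Agent.Lib.Helper8.BD

open Cfsg
open Cfsg.Agent.Lib.Helper8

universe u

/-- `G` has `2`-deficiency class `r`: no nonprincipal 2-block of defect `≥ r`. -/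
def DefClass (M : Ideal AlgInt) (G : Type u) [Group G] (r : ℕ) : Prop :=
  ∀ B : Set (IrrCharacter G), IsPBlock M B → B ≠ principalBlock M G → blockDefect 2 B < r

/-- `N` bounds the groups with Sylow 2-subgroups of order `2 ^ a` in Brauer's theorem. -/
def Good (N a : ℕ) : Prop :=
  ∀ (G : Type u) [Group G] [Finite G] (M : Ideal AlgInt) (r : ℕ) (P : Sylow 2 G),
    IsPModular 2 M → Nat.card P = 2 ^ a → DefClass M G r →
    (∃ E : Subgroup G, E ≤ (P : Subgroup G) ∧ IsMulCommutative E ∧ (∀ x ∈ E, x * x = 1) ∧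
      Nat.card E = 2 ^ (r + 1)) → Nat.card G ≤ N

theorem Good.mono {N N' a : ℕ} (h : Good.{u} N a) (hN : N ≤ N') : Good.{u} N' a :=
  fun G _ _ M r P hM hP hdef hE => (h G M r P hM hP hdef hE).trans hN

theorem good_zero (N : ℕ) : Good.{u} N 0 := by
  intro G _ _ M r P hM hP hdef hE
  exfalso
  obtain ⟨E, hEP, -, -, hEcard⟩ := hE
  have h1 : Nat.card E ≤ Nat.card (P : Subgroup G) := Subgroup.card_le_of_le hEP
  have h2 : Nat.card (P : Subgroup G) = 1 := by rw [← pow_zero 2]; exact hP
  have h3 : 2 ≤ 2 ^ (r + 1) := by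
    calc 2 = 2 ^ 1 := by norm_num
      _ ≤ 2 ^ (r + 1) := Nat.pow_le_pow_right (by norm_num) (by omega)
  omega

theorem good_succ (N a : ℕ) (h : ∀ j ≤ a, Good.{u} N j) :
    Good.{u} (stepBound (a + 1) (2 * max N 1)) (a + 1) := by
  intro G _ _ M r P hM hP hdef hE
  classical
  haveI : Fintype G := Fintype.ofFinite G
  haveI : Fact (Nat.Prime 2) := ⟨Nat.prime_two⟩
  obtain ⟨E, hEP, hEcomm, hEexp, hEcard⟩ := hE
  have hEel : IsElementaryAbelian 2 E := ⟨hEcomm, fun x hx => by rw [sq]; exact hEexp x hx⟩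
  have hO : pPrimeCore 2 G = ⊥ := pPrimeCore_eq_bot_of_elementary hM r hdef E hEel hEcard
  have h2r : 2 ≤ 2 ^ (r + 1) := by
    calc 2 = 2 ^ 1 := by norm_num
      _ ≤ 2 ^ (r + 1) := Nat.pow_le_pow_right (by norm_num) (by omega)
  have hEne : E ≠ ⊥ := by
    intro h
    rw [h, Subgroup.card_bot] at hEcard
    omega
  obtain ⟨⟨t, htE⟩, ht1'⟩ := (Subgroup.ne_bot_iff_exists_ne_one).1 hEne
  have ht1 : t ≠ 1 := fun h => ht1' (Subtype.ext h)
  have htt : t * t = 1 := hEexp t htE
  set X : Subgroup G := Subgroup.centralizer ({t} : Set G) with hX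
  have hEX : E ≤ X := by
    intro x hx
    rw [hX, Subgroup.mem_centralizer_singleton_iff]
    have := hEcomm.is_comm.comm (⟨t, htE⟩ : E) ⟨x, hx⟩
    exact (congrArg Subtype.val this).symm
  refine card_le_stepBound (a + 1) _ hO P hP t htt ?_
  rw [← hX]
  haveI : Fintype X := Fintype.ofFinite _
  have htX : t ∈ X := hEX htE
  set tX : X := ⟨t, htX⟩ with htXdef
  set Z : Subgroup X := Subgroup.zpowers tX with hZdef
  have htXc : tX ∈ Subgroup.center X := by
    rw [Subgroup.mem_center_iff]
    intro g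
    apply Subtype.ext
    have hg : (g : G) ∈ Subgroup.centralizer ({t} : Set G) := g.2
    rw [Subgroup.mem_centralizer_singleton_iff] at hg
    exact hg
  have hZc : Z ≤ Subgroup.center X := by
    rw [hZdef, Subgroup.zpowers_le]
    exact htXc
  haveI hZn : Z.Normal := by
    constructor
    intro z hz g
    have := Subgroup.mem_center_iff.1 (hZc hz) g
    have e : g * z * g⁻¹ = z := by rw [this, mul_inv_cancel_right]
    rw [e]; exact hz
  have htXord : orderOf tX = 2 := by
    apply orderOf_eq_prime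
    · apply Subtype.ext
      show (t : G) ^ 2 = 1
      rw [sq]; exact htt
    · intro h
      exact ht1 (congrArg Subtype.val h)
  have hZ : Nat.card Z = 2 := by rw [hZdef, Nat.card_zpowers, htXord]
  have hdefX : ∀ B : Set (IrrCharacter X), IsPBlock M B → B ≠ principalBlock M X →
      blockDefect 2 B < r := by
    intro b hb hne
    have hord : orderOf t = 2 := by
      apply orderOf_eq_prime
      · rw [sq]; exact htt
      · exact ht1
    exact deficiency_down hM r hdef t ⟨1, by rw [hord, pow_one]⟩ b hb hne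
  have hdefQ := deficiency_quotient_central hM r hdefX Z hZc hZ
  have hcardX : Nat.card X = Nat.card (X ⧸ Z) * 2 := by
    rw [← hZ]; exact Subgroup.card_eq_card_quotient_mul_card_subgroup Z
  suffices hsuff : Nat.card (X ⧸ Z) ≤ max N 1 by
    rw [hcardX]; omega
  have hG0 : Nat.card G ≠ 0 := Nat.card_pos.ne'
  have hX0 : Nat.card X ≠ 0 := Nat.card_pos.ne'
  have hQ0 : Nat.card (X ⧸ Z) ≠ 0 := Nat.card_pos.ne'
  have hfacG : (Nat.card G).factorization 2 = a + 1 := by
    have := P.card_eq_multiplicity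
    rw [hP] at this
    exact (Nat.pow_right_injective le_rfl this).symm
  have hfacX : (Nat.card X).factorization 2 ≤ a + 1 := by
    rw [← hfacG]
    exact (Nat.factorization_le_iff_dvd hX0 hG0).2 (Subgroup.card_subgroup_dvd_card X) 2
  have hfacQ : (Nat.card (X ⧸ Z)).factorization 2 ≤ a := by
    rw [hcardX, Nat.factorization_mul hQ0 (by norm_num), Finsupp.add_apply,
      Nat.Prime.factorization_self Nat.prime_two] at hfacX
    omega
  set j := (Nat.card (X ⧸ Z)).factorization 2 with hj
  have hSylQ : ∀ Q : Sylow 2 (X ⧸ Z), Nat.card Q = 2 ^ j := fun Q => Q.card_eq_multiplicity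
  by_cases hr : 1 ≤ r
  · -- the image of `E`
    set E' : Subgroup X := E.subgroupOf X with hE'
    set Ebar : Subgroup (X ⧸ Z) := E'.map (QuotientGroup.mk' Z) with hEbar
    have hZE' : Z ≤ E' := by
      rw [hZdef, Subgroup.zpowers_le, hE', Subgroup.mem_subgroupOf]
      exact htE
    have hcardE' : Nat.card E' = 2 ^ (r + 1) := by
      rw [← hEcard]
      exact Nat.card_congr (Subgroup.subgroupOfEquivOfLe hEX).toEquiv
    have hcomap : Ebar.comap (QuotientGroup.mk' Z) = E' := by
      rw [hEbar, Subgroup.comap_map_eq, QuotientGroup.ker_mk']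
      exact sup_eq_left.2 hZE'
    have hcardEbar : Nat.card Ebar = 2 ^ (r - 1 + 1) := by
      have h3 := card_comap_mk Z Ebar
      rw [hcomap, hcardE', hZ, pow_succ] at h3
      have h4 : Nat.card Ebar = 2 ^ r := (Nat.eq_of_mul_eq_mul_right (by norm_num) h3).symm
      rw [h4]
      congr 1
      omega
    have hEbarp : IsPGroup 2 Ebar := IsPGroup.of_card hcardEbar
    obtain ⟨Q, hQ⟩ := hEbarp.exists_le_sylow
    have hEbarexp : ∀ x ∈ Ebar, x * x = 1 := by
      rintro _ ⟨y, hy, rfl⟩
      have hy' : (y : G) ∈ E := hy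
      have : y * y = 1 := Subtype.ext (hEexp _ hy')
      rw [← map_mul, this, map_one]
    have hcomm : IsMulCommutative Ebar := by
      haveI := hEcomm
      rw [hEbar, hE']
      infer_instance
    exact (h j hfacQ (X ⧸ Z) M (r - 1) Q hM (hSylQ Q) hdefQ
      ⟨Ebar, hQ, hcomm, hEbarexp, hcardEbar⟩).trans (le_max_left _ _)
  · have hr0 : r = 0 := by omega
    subst hr0
    by_cases h2 : 2 ∣ Nat.card (X ⧸ Z)
    · obtain ⟨u, hu⟩ := exists_prime_orderOf_dvd_card' 2 h2
      set Ebar : Subgroup (X ⧸ Z) := Subgroup.zpowers u with hEbar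
      have hcardEbar : Nat.card Ebar = 2 ^ (0 + 1) := by
        rw [hEbar, Nat.card_zpowers, hu]; norm_num
      have hEbarp : IsPGroup 2 Ebar := IsPGroup.of_card hcardEbar
      obtain ⟨Q, hQ⟩ := hEbarp.exists_le_sylow
      have hEbarexp : ∀ x ∈ Ebar, x * x = 1 := by
        intro x hx
        rw [hEbar, Subgroup.mem_zpowers_iff] at hx
        obtain ⟨k, rfl⟩ := hx
        rw [← zpow_add, ← two_mul, zpow_mul, zpow_ofNat, ← hu, pow_orderOf_eq_one, one_zpow]
      have hcomm : IsMulCommutative Ebar := by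
        rw [hEbar]; infer_instance
      exact (h j hfacQ (X ⧸ Z) M 0 Q hM (hSylQ Q) hdefQ
        ⟨Ebar, hQ, hcomm, hEbarexp, hcardEbar⟩).trans (le_max_left _ _)
    · haveI : Fintype (X ⧸ Z) := Fintype.ofFinite _
      exact (card_eq_one_of_coprime_of_deficiency_zero hM hdefQ h2).le.trans (le_max_right _ _)

theorem exists_good (a : ℕ) : ∃ N : ℕ, ∀ j ≤ a, Good.{u} N j := by
  induction a with
  | zero =>
    refine ⟨0, fun j hj => ?_⟩
    have : j = 0 := by omega
    subst this
    exact good_zero 0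
  | succ a ih =>
    obtain ⟨N, hN⟩ := ih
    refine ⟨max N (stepBound (a + 1) (2 * max N 1)), fun j hj => ?_⟩
    rcases Nat.lt_or_ge j (a + 1) with hlt | hge
    · exact (hN j (by omega)).mono (le_max_left _ _)
    · have : j = a + 1 := by omega
      subst this
      exact (good_succ N a hN).mono (le_max_right _ _)

end Cfsg.Agent.Lib.Helper8.BD
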