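import Mathlib
import Cfsg.Prelude.Def_Blocks
import Cfsg.Prelude.Def_BrauerPairs
import Cfsg.Agent.Lib.Helper8.BHI9

/-!
# The upper bound for the sum of the diagonal contributions over the centre of a defect group
-/

set_option autoImplicit false
set_option linter.unusedSectionVars false
set_option maxHeartbeats 1600000

namespace Cfsg.Agent.Lib.Helper8.BHI

open Cfsg Cfsg.Agent.Lib.Helper8 Cfsg.Agent.Lib.Helper8.VK
open scoped ComplexConjugate
open Cfsg.Agent.Lib.Helper1 Cfsg.Agent.Lib.Helper4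

universe u

section

variable {G : Type u} [Group G] [Fintype G] {M : Ideal AlgInt} {p : ℕ} [Fact p.Prime]

/-- The subsection with element in the set of representatives attached to an element of the
defect group. -/
theorem exists_subsection_rep (hM : IsPModular p M) {B : Set (IrrCharacter G)}
    {D : Subgroup G} {e : Set (IrrCharacter (Subgroup.centralizer (D : Set G)))}
    (hmax : IsMaximalBrauerPair p M B D e) (X : Finset G)
    (hXrep : ∀ g : G, (∃ k : ℕ, orderOf g = p ^ k) → ∃! x, x ∈ X ∧ IsConj g x)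
    {y : G} (hyD : y ∈ D) :
    ∃ (x g : G)
      (f' : Set (IrrCharacter (Subgroup.centralizer ((Subgroup.zpowers x : Subgroup G) : Set G)))),
      x ∈ X ∧ g * y * g⁻¹ = x ∧
      pairConj g ⟨Subgroup.zpowers y, subB p M D e (Subgroup.zpowers y)⟩ =
        ⟨Subgroup.zpowers x, f'⟩ ∧ IsPBlock M f' := by
  have hp : p.Prime := Fact.out
  have hDp : IsPGroup p D := hmax.1.1.1
  have hyo : ∃ k : ℕ, orderOf y = p ^ k := by
    obtain ⟨j, hj⟩ := hDp ⟨y, hyD⟩
    have hj' : y ^ p ^ j = 1 := by
      have := congrArg Subtype.val hj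
      simpa using this
    obtain ⟨i, -, hi⟩ := (Nat.dvd_prime_pow hp).1 (orderOf_dvd_of_pow_eq_one hj')
    exact ⟨i, hi⟩
  obtain ⟨f, hle, hf⟩ := exists_subpair_zpowers hM hmax hyD
  have hfeq : subB p M D e (Subgroup.zpowers y) = f := subB_eq hM hmax.1.1 hle
  rw [hfeq]
  obtain ⟨x, ⟨hxX, hyx⟩, -⟩ := hXrep y hyo
  obtain ⟨g, hg⟩ := isConj_iff.1 hyx
  have hfst : (pairConj g ⟨Subgroup.zpowers y, f⟩).1 = Subgroup.zpowers x := by
    show (Subgroup.zpowers y).map (MulAut.conj g).toMonoidHom = Subgroup.zpowers x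
    rw [map_conj_zpowers, hg]
  obtain ⟨f', hf'⟩ := eq_mk_of_fst_eq (pairConj g ⟨Subgroup.zpowers y, f⟩) hfst
  have h1 : IsBrauerPair p M (pairConj g ⟨Subgroup.zpowers y, f⟩).1
      (pairConj g ⟨Subgroup.zpowers y, f⟩).2 := isBrauerPair_conj g hf.1
  rw [hf'] at h1
  exact ⟨x, g, f', hxX, hg, hf', h1.2⟩

/-- **Upper bound**: the diagonal contributions summed over the centre of the defect group are at
most the inertial index. -/
theorem sum_center_le (hM : IsPModular p M) {B : Set (IrrCharacter G)} {D : Subgroup G}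
    {e : Set (IrrCharacter (Subgroup.centralizer (D : Set G)))}
    (hmax : IsMaximalBrauerPair p M B D e) (ψ : IrrCharacter G) (T H : Subgroup G)
    (hT : ∀ t : G, t ∈ Subgroup.normalizer (D : Set G) →
      StabilizesBlock (Subgroup.centralizer (D : Set G)) e t → t ∈ T)
    (hH : ∀ h ∈ H, ∀ z ∈ D, (∀ d ∈ D, d * z = z * d) → h * z = z * h)
    [Fintype (Subgroup.center D)] :
    ∑ z : Subgroup.center D,
        mQ p M D e (ψ : G → ℂ) (Subgroup.zpowers (((z : D) : G))) (((z : D) : G)) ≤
      (H.relIndex T : ℝ) := by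
  classical
  have hψcf := isClassFunction_irr ψ.2
  obtain ⟨X, hX, hXrep⟩ := KR.exists_pReps (G := G) p
  have hzD : ∀ z : Subgroup.center D, (((z : D) : G)) ∈ D := fun z => (z : D).2
  have hzcomm : ∀ z : Subgroup.center D, ∀ x ∈ D, x * (((z : D) : G)) = (((z : D) : G)) * x := by
    intro z x hx
    have := Subgroup.mem_center_iff.1 z.2 ⟨x, hx⟩
    exact congrArg Subtype.val this
  have hdata := fun z : Subgroup.center D => exists_subsection_rep hM hmax X hXrep (hzD z)
  choose x g f' hxX hgx hpc hf' using hdata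
  set Φ : Subgroup.center D → SubSecIdx G := fun z => ⟨x z, f' z⟩ with hΦ
  have hΦS : ∀ z, Φ z ∈ subSecFinset M X := fun z =>
    (mem_subSecFinset X _).2 ⟨hxX z, hf' z⟩
  have hmw : ∀ z : Subgroup.center D,
      mQ p M D e (ψ : G → ℂ) (Subgroup.zpowers (((z : D) : G))) (((z : D) : G)) =
        wSec p (ψ : G → ℂ) (Φ z) := by
    intro z
    rw [mQ_eq_contribF]
    have := contribF_pairConj (p := p) (g z) (hpc z) (((z : D) : G)) hψcf
    rw [hgx z] at this
    unfold wSec
    rw [← this]
  rw [Finset.sum_congr rfl (fun z _ => hmw z)]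
  have hw : ∀ s ∈ subSecFinset M X, 0 ≤ wSec p (ψ : G → ℂ) s := fun s hs =>
    wSec_nonneg hM hψcf ((mem_subSecFinset X s).1 hs).2
  have hfib : ∀ s ∈ subSecFinset M X,
      (Finset.univ.filter (fun z => Φ z = s)).card ≤ H.relIndex T := by
    intro s _
    by_cases hne : (Finset.univ.filter (fun z => Φ z = s)).Nonempty
    · obtain ⟨z₀, hz₀⟩ := hne
      have hz₀s : Φ z₀ = s := (Finset.mem_filter.1 hz₀).2
      have hinj : Function.Injective (fun z : Subgroup.center D => (((z : D) : G))) := by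
        intro a b hab
        exact Subtype.ext (Subtype.ext hab)
      rw [← Finset.card_image_of_injective _ hinj]
      apply card_le_relIndex_of_conj T H (((z₀ : D) : G))
        (fun h hh => hH h hh _ (hzD z₀) (hzcomm z₀))
      intro y hy
      obtain ⟨z, hz, rfl⟩ := Finset.mem_image.1 hy
      have hzs : Φ z = s := (Finset.mem_filter.1 hz).2
      have hΦeq : Φ z₀ = Φ z := hz₀s.trans hzs.symm
      have hpair : pairConj (g z₀) ⟨Subgroup.zpowers (((z₀ : D) : G)),
            subB p M D e (Subgroup.zpowers (((z₀ : D) : G)))⟩ =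
          pairConj (g z) ⟨Subgroup.zpowers (((z : D) : G)),
            subB p M D e (Subgroup.zpowers (((z : D) : G)))⟩ := by
        rw [hpc z₀, hpc z]
        exact congrArg SubSecIdx.toPair hΦeq
      have hxeq : x z₀ = x z := congrArg Sigma.fst hΦeq
      obtain ⟨hle₀, -, -, -⟩ := central_subsection hM hmax (hzD z₀) (hzcomm z₀)
      obtain ⟨hle, -, -, -⟩ := central_subsection hM hmax (hzD z) (hzcomm z)
      obtain ⟨t, htN, htst, ht⟩ := exists_stab_of_pairConj_eq_central hM hmax
        (fun u hu => (hzcomm z₀ u hu).symm) (fun u hu => (hzcomm z u hu).symm) hle₀ hle hpair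
      refine ⟨t, hT t htN htst, ?_⟩
      rw [ht]
      have h1 : (g z)⁻¹ * g z₀ * (((z₀ : D) : G)) * ((g z)⁻¹ * g z₀)⁻¹ =
          (g z)⁻¹ * (g z₀ * (((z₀ : D) : G)) * (g z₀)⁻¹) * g z := by group
      rw [h1, hgx z₀, hxeq, ← hgx z]
      group
    · rw [Finset.not_nonempty_iff_eq_empty.1 hne]
      simp
  have h1 := sum_le_mul_of_fiber_card_le Φ (subSecFinset M X) (wSec p (ψ : G → ℂ)) hw hΦS
    (H.relIndex T) hfib
  rw [sum_wSec_eq_one hM X hX hXrep ψ, mul_one] at h1
  exact h1

end

end Cfsg.Agent.Lib.Helper8.BHI
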