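import Mathlib
import Cfsg.Prelude.Def_Blocks
import Cfsg.Prelude.Def_BlockLocal
import Cfsg.Prelude.Def_BrauerPairs
import Cfsg.Agent.Lib.Helper8.BP3
import Cfsg.Agent.Lib.Helper8.REL7
import Cfsg.Agent.Lib.Helper8.PairFull
import Cfsg.Agent.Lib.Helper8.BlockPairStab

/-!
# Centric Brauer pairs
-/

set_option autoImplicit false
set_option linter.unusedSectionVars false

namespace Cfsg.Agent.Lib.Helper8

open Cfsg
open scoped ComplexConjugate
open Cfsg.Agent.Lib.Helper1 Cfsg.Agent.Lib.Helper4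

universe u

section

variable {G : Type u} [Group G] [Fintype G] {M : Ideal AlgInt} {p : ℕ} [Fact p.Prime]

/-- If `(P, f) ≤ (D, e)` and `Z(P)` is a defect group of `f`, then `C_D(P) ≤ P`. -/
theorem centralizer_inf_le_of_centric (hM : IsPModular p M) {D P : Subgroup G}
    {eD : Set (IrrCharacter (Subgroup.centralizer (D : Set G)))}
    {f : Set (IrrCharacter (Subgroup.centralizer (P : Set G)))}
    (hDe : IsBrauerPair p M D eD) (hle : SubpairLE p M P f D eD)
    (hfd : IsDefectGroup p M f ((P ⊓ Subgroup.centralizer (P : Set G)).subgroupOf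
      (Subgroup.centralizer (P : Set G)))) :
    D ⊓ Subgroup.centralizer (P : Set G) ≤ P := by
  classical
  have hMp := isPModular_isPrime hM
  have hPD : P ≤ D := subpairLE_le hle
  have hPf : IsBrauerPair p M P f := subpairRel_isBrauerPair hle hDe
  have hf := hPf.2
  set R := D ⊓ Subgroup.normalizer (P : Set G) with hR
  have hPR : P ≤ R := le_inf hPD Subgroup.le_normalizer
  have hRD : R ≤ D := inf_le_left
  have hRN : R ≤ Subgroup.normalizer (P : Set G) := inf_le_right
  obtain ⟨g, hnorm, -⟩ := exists_isNormalSubpair_of_subpairLE hM hDe hle hPR hRD hRN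
  obtain ⟨c, hc, hu⟩ := exists_unit_of_isNormalSubpair hM P R hnorm
  have hcC : c ∈ Subgroup.centralizer (P : Set G) :=
    Subgroup.centralizer_le (fun x hx => hPR hx) hc
  rw [subgroupBlockCoeff_of_mem _ f hcC] at hu
  set S := (R ⊓ Subgroup.centralizer (P : Set G)).subgroupOf (Subgroup.centralizer (P : Set G))
    with hS
  have hSp : IsPGroup p S := ((hDe.1.to_le hRD).to_le inf_le_left).comap_subtype
  have hcS : (⟨c, hcC⟩ : Subgroup.centralizer (P : Set G)) ∈
      Subgroup.centralizer ((S : Subgroup (Subgroup.centralizer (P : Set G))) :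
        Set (Subgroup.centralizer (P : Set G))) := by
    rw [Subgroup.mem_centralizer_iff]
    intro s hs
    apply Subtype.ext
    have hsR : (s : G) ∈ R := (Subgroup.mem_subgroupOf.1 hs).1
    exact Subgroup.mem_centralizer_iff.1 hc (s : G) hsR
  obtain ⟨x, hx⟩ := (exists_unit_coeff_iff hM hf hfd S hSp).1
    ⟨⟨c, hcC⟩, blockCoeff_memLocalRing hMp hf _, hu, ⟨c, hcC⟩, IsConj.refl _, hcS⟩
  have hZ := inf_centralizer_le_center P
  intro y hy
  have hyS : (⟨y, hy.2⟩ : Subgroup.centralizer (P : Set G)) ∈ S := by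
    rw [hS, Subgroup.mem_subgroupOf]
    exact ⟨⟨hy.1, Subgroup.centralizer_le_normalizer _ hy.2⟩, hy.2⟩
  have h1 : (MulAut.conj x).toMonoidHom ⟨y, hy.2⟩ ∈
      (P ⊓ Subgroup.centralizer (P : Set G)).subgroupOf (Subgroup.centralizer (P : Set G)) :=
    hx ⟨_, hyS, rfl⟩
  have h2 := (Subgroup.mem_center_iff.1 (hZ h1)) x
  have h3 : (MulAut.conj x).toMonoidHom ⟨y, hy.2⟩ = (⟨y, hy.2⟩ : Subgroup.centralizer (P : Set G)) := by
    have e1 : (MulAut.conj x).toMonoidHom ⟨y, hy.2⟩ = x * ⟨y, hy.2⟩ * x⁻¹ := rfl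
    rw [e1] at h2 ⊢
    have : x * ⟨y, hy.2⟩ = x * ⟨y, hy.2⟩ * x⁻¹ * x := by group
    rw [← h2] at this
    exact (mul_left_cancel this).symm
  rw [h3] at h1
  exact (Subgroup.mem_subgroupOf.1 h1).1

end

end Cfsg.Agent.Lib.Helper8
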