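import Mathlib
import Cfsg.Prelude.Def_Blocks
import Cfsg.Prelude.Def_BlockLocal
import Cfsg.Prelude.Def_BrauerPairs
import Cfsg.Agent.Lib.Helper8.BP4
import Cfsg.Agent.Lib.Helper8.BlockPairSylow

/-!
# Blocks induced from subgroups containing the centralizer of a defect group
-/

set_option autoImplicit false
set_option linter.unusedSectionVars false

namespace Cfsg.Agent.Lib.Helper8

open Cfsg
open scoped ComplexConjugate
open Cfsg.Agent.Lib.Helper1 Cfsg.Agent.Lib.Helper4

universe u

section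

variable {G : Type u} [Group G] [Fintype G] {M : Ideal AlgInt} {p : ℕ} [Fact p.Prime]

theorem induced_nested (hM : IsPModular p M) (H : Subgroup G) [Fintype H]
    {b : Set (IrrCharacter H)} (hb : IsPBlock M b) {D₀ : Subgroup H}
    (hD₀ : IsDefectGroup p M b D₀)
    (hC : Subgroup.centralizer ((D₀.map H.subtype : Subgroup G) : Set G) ≤ H) :
    InducedBlockDefined M H b ∧ ∀ B : Set (IrrCharacter G), IsInducedBlock M H b B →
      ∃ D : Subgroup G, IsDefectGroup p M B D ∧
        D ⊓ Subgroup.centralizer ((D₀.map H.subtype : Subgroup G) : Set G) ≤ D₀.map H.subtype ∧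
        D₀.map H.subtype ≤ D := by
  classical
  have hMp := isPModular_isPrime hM
  set P : Subgroup G := D₀.map H.subtype with hPdef
  have hP : IsPGroup p P := (isPGroup_of_isDefectGroup hD₀).map _
  have hPH : P ≤ H := by
    rintro _ ⟨t, -, rfl⟩
    exact t.2
  have hPsub : P.subgroupOf H = D₀ := subgroupOf_map_subtype_self H D₀
  have : Fintype (Subgroup.centralizer (P : Set G)) := Fintype.ofFinite _
  have : Fintype ↥(P ⊔ Subgroup.centralizer (P : Set G)) := Fintype.ofFinite _
  obtain ⟨hPK, hCK, hKN, hKC, hNK, hNC⟩ := pair_basic P _ _ rfl rfl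
  have hKH : P ⊔ Subgroup.centralizer (P : Set G) ≤ H := sup_le hPH hC
  -- the root of `b`
  have h1 : D₀ ≤ (P ⊔ Subgroup.centralizer (P : Set G)).subgroupOf H := by
    rw [← hPsub]
    exact Subgroup.subgroupOf_mono H hPK
  have h2 : Subgroup.centralizer ((D₀ : Subgroup H) : Set H) ≤
      (P ⊔ Subgroup.centralizer (P : Set G)).subgroupOf H := by
    intro h hh
    rw [Subgroup.mem_subgroupOf]
    apply hCK
    rw [Subgroup.mem_centralizer_iff]
    rintro _ ⟨d, hd, rfl⟩
    exact congrArg Subtype.val (Subgroup.mem_centralizer_iff.1 hh d hd)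
  have h3 : (P ⊔ Subgroup.centralizer (P : Set G)).subgroupOf H ≤
      Subgroup.normalizer ((D₀ : Subgroup H) : Set H) := by
    intro h hh
    rw [← hPsub, mem_normalizer_subgroupOf_iff H P hPH]
    exact hKN (Subgroup.mem_subgroupOf.1 hh)
  obtain ⟨b₀', hb₀'D, hb₀'ind⟩ := extFirstMain_exists hM hb hD₀ _ h1 h2 h3
  set b₀ := trB' H _ hKH b₀' with hb₀def
  have htr : trB H _ hKH b₀ = b₀' := trB_trB' H _ hKH b₀'
  have hb₀ : IsPBlock M b₀ := by
    rw [← isPBlock_trB_iff H _ hKH, htr]
    exact hb₀'ind.1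
  have hind₀ : IsInducedBlockIn M H _ b₀ b := by
    rw [isInducedBlockIn_iff H _ hKH, htr]
    exact hb₀'ind
  have hb₀P : IsDefectGroup p M b₀ (P.subgroupOf (P ⊔ Subgroup.centralizer (P : Set G))) := by
    rw [← isDefectGroup_trB H _ hKH b₀ P, htr, hPsub]
    exact hb₀'D
  constructor
  · obtain ⟨B, hB⟩ := inducedBlockDefined_of_le hM P _ hP hPK hCK hKN hb₀
    exact ⟨B, isInducedBlock_trans' H _ hKH hMp hind₀ hB⟩
  · intro B hind
    have hK := isInducedBlock_trans H _ hKH hMp hind₀ hind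
    obtain ⟨f, hf, hcovf⟩ := rel_exists_covered _ _ hCK hMp hb₀
    obtain ⟨b', hb', hcov', hbe, hstab, hdef⟩ := pair_block_context P _ _ rfl rfl hM hP hf hCK
    have hidx : ∃ k : ℕ, (Subgroup.centralizer (P : Set G)).relIndex
        (P ⊔ Subgroup.centralizer (P : Set G)) = p ^ k := relIndex_centralizer_sup P hP
    have hbb : b' = b₀ := rel_covers_unique_of_pIndex _ _ hCK hKC hM hidx hf hb' hb₀ hcov' hcovf
    subst hbb
    have hfd := (hdef P hPK hb₀P).2
    have hst := pair_stabilizes P _ _ rfl rfl f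
    obtain ⟨B₁, hB₁, -⟩ := existsUnique_isBrauerPairOf hM P f ⟨hP, hf⟩
    have hind₁ : IsInducedBlock M (P ⊔ Subgroup.centralizer (P : Set G)) b₀ B₁ := by
      apply isInducedBlock_of_cover hM P _ hPK hCK hKN hB₁ hb₀
      rw [orbitUnionOf_eq_of_stabilizes _ _ f hst]
      exact hbe
    have hBB : B₁ = B := isInducedBlock_unique hMp _ hind₁ hK
    subst hBB
    obtain ⟨D, eD, hmax, hle⟩ := exists_isMaximalBrauerPair_ge B₁ _ P f hB₁ le_rfl
    exact ⟨D, isDefectGroup_of_isMaximalBrauerPair hM hmax,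
      centralizer_inf_le_of_centric hM hmax.1.1 hle hfd, subpairLE_le hle⟩

end

end Cfsg.Agent.Lib.Helper8
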