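import Mathlib
import Cfsg.Prelude.Def_Blocks
import Cfsg.Prelude.Def_BrauerPairs
import Cfsg.Agent.Lib.Helper8.KC1
import Cfsg.Agent.Lib.Helper8.BlockPairs4
import Cfsg.Agent.Lib.Helper8.BF5

/-!
# Kernels of blocks along induction and along normal inclusions of Brauer pairs
-/

set_option autoImplicit false
set_option linter.unusedSectionVars false

namespace Cfsg.Agent.Lib.Helper8

open Cfsg
open scoped ComplexConjugate
open Cfsg.Agent.Lib.Helper1 Cfsg.Agent.Lib.Helper4

universe u

section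

variable {G : Type u} [Group G] [Fintype G] {M : Ideal AlgInt} {p : ℕ}

theorem ratio_unit (hM : IsPModular p M) {A B : ℕ} (hA : ¬ p ∣ A) (hB : ¬ p ∣ B) :
    MemLocalRing M ((A : ℂ) / (B : ℂ)) ∧ ¬ MemLocalIdeal M ((A : ℂ) / (B : ℂ)) := by
  have hA0 : A ≠ 0 := fun h => hA (h ▸ dvd_zero p)
  have hB0 : B ≠ 0 := fun h => hB (h ▸ dvd_zero p)
  have h1 : A.factorization p = 0 := Nat.factorization_eq_zero_of_not_dvd hA
  have h2 : B.factorization p = 0 := Nat.factorization_eq_zero_of_not_dvd hB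
  exact ⟨memLocalRing_natCast_div hM hA0 hB0 (by rw [h1, h2]),
    not_memLocalIdeal_natCast_div hM hA0 hB0 (by rw [h1, h2])⟩

theorem exists_mem_of_isPBlock (hM : M.IsPrime) {B : Set (IrrCharacter G)} (hB : IsPBlock M B) :
    ∃ χ, χ ∈ B := by
  obtain ⟨χ₀, rfl⟩ := hB
  exact ⟨χ₀, sameBlock_refl hM.ne_top _⟩

/-- **Kernels and induced blocks**: if `b` induces `B` and `W` is a normal `p'`-subgroup of `G`,
then `W` lies in the kernel of `B` iff `W ∩ H` lies in the kernel of `b`. -/
theorem ker_iff_of_induced (hM : IsPModular p M) (H : Subgroup G) [Fintype H]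
    {b : Set (IrrCharacter H)} {B : Set (IrrCharacter G)} (hind : IsInducedBlock M H b B)
    (W : Subgroup G) [W.Normal] (hW : ¬ p ∣ Nat.card W) :
    (∀ χ ∈ B, ∀ w ∈ W, (χ : G → ℂ) w = (χ : G → ℂ) 1) ↔
      (∀ ψ ∈ b, ∀ h : H, (h : G) ∈ W → (ψ : H → ℂ) h = (ψ : H → ℂ) 1) := by
  classical
  have hMp := isPModular_isPrime hM
  obtain ⟨ψ₀, hψ₀⟩ := exists_mem_of_isPBlock hMp hind.1
  obtain ⟨χ₀, hχ₀⟩ := exists_mem_of_isPBlock hMp hind.2.1
  have hWH : ¬ p ∣ Nat.card (W.subgroupOf H) := fun h => hW (h.trans (card_subgroupOf_dvd H W))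
  obtain ⟨hr1, hr2⟩ := ratio_unit hM hWH hW
  have key := omega_restrict_cong_of_induced hMp H hind hψ₀ hχ₀ (isClassFunction_avgOn W)
    (memLocalRing_avgOn hM W hW)
  rw [avgOn_restrict, omega_smul] at key
  constructor
  · intro h
    have h1 := omega_avgOn_of_ker W χ₀.2 (h χ₀ hχ₀)
    rw [h1] at key
    have h2 : ∀ y ∈ W.subgroupOf H, (ψ₀ : H → ℂ) y = (ψ₀ : H → ℂ) 1 := by
      rcases omega_avgOn_eq (W.subgroupOf H) ψ₀.2 with h0 | h0
      · rw [h0, mul_zero, zero_sub] at key
        have := memLocalIdeal_neg key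
        rw [neg_neg] at this
        exact absurd this (not_memLocalIdeal_one hMp)
      · exact ker_of_omega_avgOn _ ψ₀.2 h0
    have h3 := ker_of_exists_ker hM hind.1 (W.subgroupOf H) hWH hψ₀ h2
    intro ψ hψ y hy
    exact h3 ψ hψ y (Subgroup.mem_subgroupOf.2 hy)
  · intro h
    have h1 := omega_avgOn_of_ker (W.subgroupOf H) ψ₀.2
      (fun y hy => h ψ₀ hψ₀ y (Subgroup.mem_subgroupOf.1 hy))
    rw [h1, mul_one] at key
    have h2 : ∀ w ∈ W, (χ₀ : G → ℂ) w = (χ₀ : G → ℂ) 1 := by
      rcases omega_avgOn_eq W χ₀.2 with h0 | h0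
      · rw [h0, sub_zero] at key
        exact absurd key hr2
      · exact ker_of_omega_avgOn _ χ₀.2 h0
    exact ker_of_exists_ker hM hind.2.1 W hW hχ₀ h2

theorem brauerOmega_avgOn (P Y : Subgroup G) [Fintype (Subgroup.centralizer (P : Set G))]
    (ξ : Subgroup.centralizer (P : Set G) → ℂ) :
    brauerOmega P (avgOn Y) ξ =
      ((Nat.card (Y.subgroupOf (Subgroup.centralizer (P : Set G))) : ℂ) / (Nat.card Y : ℂ)) *
        omega ξ (avgOn (Y.subgroupOf (Subgroup.centralizer (P : Set G)))) := by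
  rw [brauerOmega_eq_omega, avgOn_restrict, omega_smul]

theorem brauerOmega_zero (P : Subgroup G) (ξ : Subgroup.centralizer (P : Set G) → ℂ) :
    brauerOmega P (0 : G → ℂ) ξ = 0 := by
  unfold brauerOmega
  simp

/-- **Kernels along a normal inclusion of Brauer pairs.** -/
theorem ker_normalSubpair_iff (hM : IsPModular p M) {P Q : Subgroup G}
    {e : Set (IrrCharacter (Subgroup.centralizer (P : Set G)))}
    {f : Set (IrrCharacter (Subgroup.centralizer (Q : Set G)))}
    (h : IsNormalSubpair p M Q f P e) (Y : Subgroup G)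
    (hYC : Y ≤ Subgroup.centralizer (Q : Set G))
    (hYn : Subgroup.centralizer (Q : Set G) ≤ Subgroup.normalizer (Y : Set G))
    (hPY : P ≤ Subgroup.normalizer (Y : Set G)) (hY : ¬ p ∣ Nat.card Y) :
    (∀ ψ ∈ f, ∀ c : Subgroup.centralizer (Q : Set G), (c : G) ∈ Y →
      (ψ : Subgroup.centralizer (Q : Set G) → ℂ) c = (ψ : Subgroup.centralizer (Q : Set G) → ℂ) 1) ↔
    (∀ ξ ∈ e, ∀ c : Subgroup.centralizer (P : Set G), (c : G) ∈ Y →
      (ξ : Subgroup.centralizer (P : Set G) → ℂ) c = (ξ : Subgroup.centralizer (P : Set G) → ℂ) 1) := by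
  classical
  have hMp := isPModular_isPrime hM
  have : Fintype (Subgroup.centralizer (Q : Set G)) := Fintype.ofFinite _
  have : Fintype (Subgroup.centralizer (P : Set G)) := Fintype.ofFinite _
  obtain ⟨⟨hQ, hf⟩, ⟨hP, he⟩, hQP, hPN, hst, hocc⟩ := h
  have hCK : Subgroup.centralizer (P : Set G) ≤ Subgroup.centralizer (Q : Set G) :=
    Subgroup.centralizer_le (by exact_mod_cast hQP)
  have hYQn : (Y.subgroupOf (Subgroup.centralizer (Q : Set G))).Normal :=
    Subgroup.normal_subgroupOf_of_le_normalizer hYn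
  have hYPn : (Y.subgroupOf (Subgroup.centralizer (P : Set G))).Normal :=
    Subgroup.normal_subgroupOf_of_le_normalizer (hCK.trans hYn)
  have hYQ : ¬ p ∣ Nat.card (Y.subgroupOf (Subgroup.centralizer (Q : Set G))) :=
    fun h => hY (h.trans (card_subgroupOf_dvd _ Y))
  have hYP : ¬ p ∣ Nat.card (Y.subgroupOf (Subgroup.centralizer (P : Set G))) :=
    fun h => hY (h.trans (card_subgroupOf_dvd _ Y))
  obtain ⟨hr1, hr2⟩ := ratio_unit hM hYP hY
  have hS := (blockCoeff_spec hMp hf).2.1
  have hε : avgOn Y = extZ (Subgroup.centralizer (Q : Set G))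
      (avgOn (Y.subgroupOf (Subgroup.centralizer (Q : Set G)))) := (extZ_avgOn _ Y hYC).symm
  have hconv : conv (extZ (Subgroup.centralizer (Q : Set G)) (blockCoeff f)) (avgOn Y) =
      extZ (Subgroup.centralizer (Q : Set G))
        (conv (blockCoeff f) (avgOn (Y.subgroupOf (Subgroup.centralizer (Q : Set G))))) := by
    rw [hε, conv_extZ]
  have key : ∀ ξ : IrrCharacter (Subgroup.centralizer (P : Set G)), MemLocalIdeal M
      (brauerOmega P (conv (extZ (Subgroup.centralizer (Q : Set G)) (blockCoeff f)) (avgOn Y))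
        (ξ : Subgroup.centralizer (P : Set G) → ℂ) -
      brauerOmega P (extZ (Subgroup.centralizer (Q : Set G)) (blockCoeff f))
        (ξ : Subgroup.centralizer (P : Set G) → ℂ) *
      brauerOmega P (avgOn Y) (ξ : Subgroup.centralizer (P : Set G) → ℂ)) := by
    intro ξ
    apply brauerOmega_conv hM P hP
      (F := extZ (Subgroup.centralizer (Q : Set G)) (blockCoeff f)) (H := avgOn Y)
      (fun u hu x => subgroupBlockCoeff_conj_of_stabilizes _ f (hst u hu) x)
      (fun u hu x => avgOn_conj Y (hPY hu) x)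
      (memLocalRing_extZ hMp.ne_top _ hS) (memLocalRing_avgOn hM Y hY)
    · rw [hε]
      exact isClassFunction_extZ_restrict hCK (isClassFunction_avgOn _)
    · exact isClassFunction_extZ_restrict hCK (isClassFunction_blockCoeff f)
    · rw [hconv]
      exact isClassFunction_extZ_restrict hCK
        (isClassFunction_conv (isClassFunction_blockCoeff f) (isClassFunction_avgOn _))
  constructor
  · intro hk ξ hξ
    have h1 : conv (blockCoeff f) (avgOn (Y.subgroupOf (Subgroup.centralizer (Q : Set G)))) =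
        blockCoeff f := by
      apply conv_blockCoeff_avgOn_of_ker
      intro ψ hψ y hy
      exact hk ψ hψ y (Subgroup.mem_subgroupOf.1 hy)
    have hkey := key ξ
    rw [hconv, h1, brauerOmega_avgOn] at hkey
    have hocc1 := hocc ξ hξ
    rw [subgroupBlockCoeff_eq_extZ] at hocc1
    have h2 : ∀ y ∈ Y.subgroupOf (Subgroup.centralizer (P : Set G)),
        (ξ : Subgroup.centralizer (P : Set G) → ℂ) y = (ξ : Subgroup.centralizer (P : Set G) → ℂ) 1 := by
      rcases omega_avgOn_eq (Y.subgroupOf (Subgroup.centralizer (P : Set G))) ξ.2 with h0 | h0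
      · rw [h0, mul_zero, mul_zero, sub_zero] at hkey
        exact absurd hkey (not_memLocalIdeal_of_sub_one hMp hocc1)
      · exact ker_of_omega_avgOn _ ξ.2 h0
    intro c hc
    exact h2 c (Subgroup.mem_subgroupOf.2 hc)
  · intro hk
    obtain ⟨ξ, hξ⟩ := exists_mem_of_isPBlock hMp he
    rcases ker_or_not_ker hM hf (Y.subgroupOf (Subgroup.centralizer (Q : Set G))) hYQ with h1 | h1
    · intro ψ hψ c hc
      exact h1 ψ hψ c (Subgroup.mem_subgroupOf.2 hc)
    · exfalso
      have h2 := conv_blockCoeff_avgOn_of_not_ker f _ h1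
      have hkey := key ξ
      have hz : extZ (Subgroup.centralizer (Q : Set G)) (0 : Subgroup.centralizer (Q : Set G) → ℂ)
          = 0 := by
        funext g
        by_cases hg : g ∈ Subgroup.centralizer (Q : Set G)
        · rw [extZ_of_mem _ _ hg]; rfl
        · rw [extZ_of_not_mem _ _ hg]; rfl
      rw [hconv, h2, hz, brauerOmega_zero, brauerOmega_avgOn, zero_sub] at hkey
      have h3 := omega_avgOn_of_ker (Y.subgroupOf (Subgroup.centralizer (P : Set G))) ξ.2
        (fun y hy => hk ξ hξ y (Subgroup.mem_subgroupOf.1 hy))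
      rw [h3, mul_one] at hkey
      have hocc1 := hocc ξ hξ
      rw [subgroupBlockCoeff_eq_extZ] at hocc1
      have h4 := memLocalIdeal_neg hkey
      rw [neg_neg] at h4
      exact not_memLocalIdeal_mul hMp (memLocalRing_of_sub_one hMp hocc1) hr1
        (not_memLocalIdeal_of_sub_one hMp hocc1) hr2 h4

end

end Cfsg.Agent.Lib.Helper8
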