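import Mathlib
import Cfsg.Prelude.Def_Blocks
import Cfsg.Prelude.Def_BrauerPairs
import Cfsg.Prelude.Def_OddOrderLocal
import Cfsg.Agent.Lib.Helper8.KC2
import Cfsg.Agent.Lib.Helper8.PairConj3
import Cfsg.Agent.Lib.Helper8.PairStabConj
import Cfsg.Agent.Lib.Helper4.PiCore

/-!
# Cores of centralizers in kernels of Brauer pairs
-/

set_option autoImplicit false
set_option linter.unusedSectionVars false

namespace Cfsg.Agent.Lib.Helper8

open Cfsg
open scoped ComplexConjugate
open Cfsg.Agent.Lib.Helper1 Cfsg.Agent.Lib.Helper4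

universe u

section

variable {G : Type u} [Group G]

theorem mem_piCoreOf_iff (σ : Set ℕ) (X : Subgroup G) (c : X) :
    (c : G) ∈ piCoreOf σ X ↔ c ∈ piCore σ X := by
  unfold piCoreOf
  constructor
  · rintro ⟨y, hy, hyc⟩
    have : y = c := Subtype.ext hyc
    rwa [← this]
  · intro h
    exact ⟨c, h, rfl⟩

theorem piCoreOf_le (σ : Set ℕ) (X : Subgroup G) : piCoreOf σ X ≤ X := by
  rintro _ ⟨y, -, rfl⟩
  exact y.2

theorem card_piCoreOf (σ : Set ℕ) (X : Subgroup G) :
    Nat.card (piCoreOf σ X) = Nat.card (piCore σ X) := by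
  unfold piCoreOf
  exact Subgroup.card_map_of_injective X.subtype_injective

/-- The normalizer of `X` normalizes the core of `X`. -/
theorem normalizer_le_normalizer_piCoreOf (σ : Set ℕ) (X : Subgroup G) :
    Subgroup.normalizer (X : Set G) ≤ Subgroup.normalizer ((piCoreOf σ X : Subgroup G) : Set G) := by
  have key : ∀ n ∈ Subgroup.normalizer (X : Set G), ∀ g ∈ piCoreOf σ X,
      n * g * n⁻¹ ∈ piCoreOf σ X := by
    intro n hn g hg
    obtain ⟨y, hy, rfl⟩ := hg
    have h1 := piCore_map_equiv σ (conjAutOn X n hn)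
    have h2 : conjAutOn X n hn y ∈ piCore σ X := by
      rw [← h1]
      exact ⟨y, hy, rfl⟩
    exact ⟨conjAutOn X n hn y, h2, rfl⟩
  intro n hn
  rw [Subgroup.mem_normalizer_iff]
  intro g
  constructor
  · exact key n hn g
  · intro h
    have := key n⁻¹ (Subgroup.inv_mem _ hn) _ h
    simpa [mul_assoc] using this

theorem isPiNum_card_piCoreOf [Finite G] (σ : Set ℕ) (X : Subgroup G) :
    IsPiNum σ (Nat.card (piCoreOf σ X)) := by
  rw [card_piCoreOf]
  exact isPiNum_card_piCore σ

theorem not_dvd_card_piCoreOf [Finite G] {σ : Set ℕ} {p : ℕ} (hp : p.Prime) (hpσ : p ∉ σ)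
    (X : Subgroup G) : ¬ p ∣ Nat.card (piCoreOf σ X) :=
  fun h => hpσ (isPiNum_card_piCoreOf σ X p hp h)

/-- The part of the core of `X` lying in a subgroup `X' ≤ X` lies in the core of `X'`. -/
theorem mem_piCore_of_mem_piCoreOf [Finite G] (σ : Set ℕ) {X X' : Subgroup G} (hX : X' ≤ X)
    (c : X') (hc : (c : G) ∈ piCoreOf σ X) : c ∈ piCore σ X' := by
  have hn : X' ≤ Subgroup.normalizer ((piCoreOf σ X : Subgroup G) : Set G) :=
    (hX.trans Subgroup.le_normalizer).trans (normalizer_le_normalizer_piCoreOf σ X)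
  have hN : ((piCoreOf σ X).subgroupOf X').Normal := Subgroup.normal_subgroupOf_of_le_normalizer hn
  have hcard : Nat.card ((piCoreOf σ X).subgroupOf X') ∣ Nat.card (piCoreOf σ X) := by
    have h1 : Nat.card ((piCoreOf σ X).subgroupOf X') = Nat.card ↥(piCoreOf σ X ⊓ X') := by
      rw [← Subgroup.inf_subgroupOf_right]
      exact Nat.card_congr (Subgroup.subgroupOfEquivOfLe inf_le_right).toEquiv
    rw [h1]
    exact Subgroup.card_dvd_of_le inf_le_left
  have hπ : IsPiNum σ (Nat.card ((piCoreOf σ X).subgroupOf X')) :=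
    (isPiNum_card_piCoreOf σ X).of_dvd hcard
  exact le_piCore hN hπ (Subgroup.mem_subgroupOf.2 hc)

/-- Elements of the core are `σ`-elements. -/
theorem orderOf_of_mem_piCore [Finite G] (σ : Set ℕ) {c : G} (hc : c ∈ piCore σ G) :
    ∀ q : ℕ, q.Prime → q ∣ orderOf c → q ∈ σ := by
  intro q hq hd
  apply isPiNum_card_piCore (G := G) σ q hq
  exact hd.trans (Subgroup.orderOf_dvd_natCard _ hc)

end

section

variable {G : Type u} [Group G] [Fintype G] {M : Ideal AlgInt} {p : ℕ}

/-- The `π'`-core of the centralizer of the first component lies in the kernel of the second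
component. -/
def KP (π : Set ℕ) (a : BrauerPairIdx G) : Prop :=
  ∀ c : Subgroup.centralizer (a.1 : Set G),
    c ∈ piCore {q | q ∉ π} (Subgroup.centralizer (a.1 : Set G)) → c ∈ blockKer a.2

/-- The `π'`-core of the centralizer of the first component contains all `π'`-elements. -/
def HP (π : Set ℕ) (a : BrauerPairIdx G) : Prop :=
  ∀ c : Subgroup.centralizer (a.1 : Set G), (∀ q : ℕ, q.Prime → q ∣ orderOf c → q ∉ π) →
    c ∈ piCore {q | q ∉ π} (Subgroup.centralizer (a.1 : Set G))

theorem KP_pairConj (π : Set ℕ) (x : G) {a : BrauerPairIdx G} (h : KP π a) :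
    KP π (pairConj x a) := by
  obtain ⟨Q, f⟩ := a
  intro c' hc'
  have h1 := piCore_map_equiv {q | q ∉ π} (centConj Q x)
  change c' ∈ piCore {q | q ∉ π} (Subgroup.centralizer
    ((Q.map (MulAut.conj x).toMonoidHom : Subgroup G) : Set G)) at hc'
  rw [← h1] at hc'
  obtain ⟨c, hc, rfl⟩ := hc'
  have h2 := h c hc
  show _ ∈ blockKer (conjBlock Q x f)
  rw [conjBlock_eq_image]
  rintro ξ' ⟨ξ, hξ, rfl⟩
  have h3 := h2 ξ hξ
  show (irrMap (centConj Q x) ξ : _ → ℂ) ((centConj Q x) c) = _
  rw [irrMap_apply_map, irrMap_apply_one]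
  exact h3

theorem HP_pairConj (π : Set ℕ) (x : G) {a : BrauerPairIdx G} (h : HP π a) :
    HP π (pairConj x a) := by
  obtain ⟨Q, f⟩ := a
  intro c' hc'
  have h1 := piCore_map_equiv {q | q ∉ π} (centConj Q x)
  show c' ∈ piCore {q | q ∉ π} (Subgroup.centralizer
    ((Q.map (MulAut.conj x).toMonoidHom : Subgroup G) : Set G))
  rw [← h1]
  refine ⟨(centConj Q x).symm c', ?_, (centConj Q x).apply_symm_apply c'⟩
  apply h
  intro q hq hd
  apply hc' q hq
  have h2 : orderOf ((centConj Q x).symm c') = orderOf c' := MulEquiv.orderOf_eq _ _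
  rwa [h2] at hd

theorem KP_of_pairConj (π : Set ℕ) (x : G) {a : BrauerPairIdx G} (h : KP π (pairConj x a)) :
    KP π a := by
  have h1 := KP_pairConj π x⁻¹ h
  rwa [← pairConj_mul, inv_mul_cancel, pairConj_one] at h1

theorem HP_of_pairConj (π : Set ℕ) (x : G) {a : BrauerPairIdx G} (h : HP π (pairConj x a)) :
    HP π a := by
  have h1 := HP_pairConj π x⁻¹ h
  rwa [← pairConj_mul, inv_mul_cancel, pairConj_one] at h1

/-- Going down along a normal inclusion. -/
theorem KP_down (hM : IsPModular p M) {π : Set ℕ} (hpπ : p ∈ π) {a b : BrauerPairIdx G}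
    (hab : NormalSubpairRel p M a b) (hb : KP π b) : KP π a := by
  obtain ⟨Q, f⟩ := a
  obtain ⟨P, e⟩ := b
  have hab' : IsNormalSubpair p M Q f P e := hab
  have hQP : Q ≤ P := hab'.2.2.1
  have hPN : P ≤ Subgroup.normalizer (Q : Set G) := hab'.2.2.2.1
  have hCK : Subgroup.centralizer (P : Set G) ≤ Subgroup.centralizer (Q : Set G) :=
    Subgroup.centralizer_le (by exact_mod_cast hQP)
  set σ : Set ℕ := {q | q ∉ π} with hσ
  have hpσ : p ∉ σ := fun h => h hpπ
  set Y := piCoreOf σ (Subgroup.centralizer (Q : Set G)) with hYdef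
  have hnorm := normalizer_le_normalizer_piCoreOf σ (Subgroup.centralizer (Q : Set G))
  have key := (ker_normalSubpair_iff hM hab' Y (piCoreOf_le _ _)
    (Subgroup.le_normalizer.trans hnorm)
    ((hPN.trans (normalizer_le_normalizer_centralizer Q)).trans hnorm)
    (not_dvd_card_piCoreOf hM.1 hpσ _)).2 ?_
  · intro c hc ψ hψ
    exact key ψ hψ c ((mem_piCoreOf_iff σ _ c).2 hc)
  · intro ξ hξ c hc
    exact hb c (mem_piCore_of_mem_piCoreOf σ hCK c hc) ξ hξ

/-- Going up along a normal inclusion. -/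
theorem HKP_up (hM : IsPModular p M) {π : Set ℕ} (hpπ : p ∈ π) {a b : BrauerPairIdx G}
    (hab : NormalSubpairRel p M a b) (ha : HP π a ∧ KP π a) : HP π b ∧ KP π b := by
  obtain ⟨Q, f⟩ := a
  obtain ⟨P, e⟩ := b
  obtain ⟨haH, haK⟩ := ha
  have hab' : IsNormalSubpair p M Q f P e := hab
  have hQP : Q ≤ P := hab'.2.2.1
  have hPN : P ≤ Subgroup.normalizer (Q : Set G) := hab'.2.2.2.1
  have hCK : Subgroup.centralizer (P : Set G) ≤ Subgroup.centralizer (Q : Set G) :=
    Subgroup.centralizer_le (by exact_mod_cast hQP)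
  set σ : Set ℕ := {q | q ∉ π} with hσ
  have hpσ : p ∉ σ := fun h => h hpπ
  set Y := piCoreOf σ (Subgroup.centralizer (Q : Set G)) with hYdef
  have hnorm := normalizer_le_normalizer_piCoreOf σ (Subgroup.centralizer (Q : Set G))
  have key := (ker_normalSubpair_iff hM hab' Y (piCoreOf_le _ _)
    (Subgroup.le_normalizer.trans hnorm)
    ((hPN.trans (normalizer_le_normalizer_centralizer Q)).trans hnorm)
    (not_dvd_card_piCoreOf hM.1 hpσ _)).1 ?_
  · have hH : HP π ⟨P, e⟩ := by
      intro c hc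
      apply mem_piCore_of_mem_piCoreOf σ hCK c
      have h1 := haH ⟨(c : G), hCK c.2⟩ (by
        intro q hq hd
        apply hc q hq
        have : orderOf (⟨(c : G), hCK c.2⟩ : Subgroup.centralizer (Q : Set G)) = orderOf c := by
          rw [← Subgroup.orderOf_coe, ← Subgroup.orderOf_coe c]
        rwa [this] at hd)
      exact (mem_piCoreOf_iff σ _ _).2 h1
    refine ⟨hH, ?_⟩
    intro c hc ξ hξ
    apply key ξ hξ c
    have h1 := haH ⟨(c : G), hCK c.2⟩ (by
      intro q hq hd
      have : orderOf (⟨(c : G), hCK c.2⟩ : Subgroup.centralizer (Q : Set G)) = orderOf c := by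
        rw [← Subgroup.orderOf_coe, ← Subgroup.orderOf_coe c]
      rw [this] at hd
      exact orderOf_of_mem_piCore σ hc q hq hd)
    exact (mem_piCoreOf_iff σ _ _).2 h1
  · intro ψ hψ c hc
    exact haK c ((mem_piCoreOf_iff σ _ c).1 hc) ψ hψ

theorem KP_of_rel (hM : IsPModular p M) {π : Set ℕ} (hpπ : p ∈ π) {a b : BrauerPairIdx G}
    (h : Relation.ReflTransGen (NormalSubpairRel p M) a b) (hb : KP π b) : KP π a := by
  induction h using Relation.ReflTransGen.head_induction_on with
  | refl => exact hb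
  | head hstep _ ih => exact KP_down hM hpπ hstep ih

theorem HKP_of_rel (hM : IsPModular p M) {π : Set ℕ} (hpπ : p ∈ π) {a b : BrauerPairIdx G}
    (h : Relation.ReflTransGen (NormalSubpairRel p M) a b) (ha : HP π a ∧ KP π a) :
    HP π b ∧ KP π b := by
  induction h with
  | refl => exact ha
  | tail _ hstep ih => exact HKP_up hM hpπ hstep ih

/-- **Downward propagation**: if the core of the centralizer of a maximal Brauer pair of `B` lies
in the kernel, the same holds for every Brauer pair of `B`. -/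
theorem KP_of_max [Fact p.Prime] (hM : IsPModular p M) {π : Set ℕ} (hpπ : p ∈ π)
    {B : Set (IrrCharacter G)} {D Q : Subgroup G}
    {eD : Set (IrrCharacter (Subgroup.centralizer (D : Set G)))}
    {f : Set (IrrCharacter (Subgroup.centralizer (Q : Set G)))}
    (hmax : IsMaximalBrauerPair p M B D eD) (htop : KP π ⟨D, eD⟩)
    (hQf : IsBrauerPairOf p M B Q f) : KP π ⟨Q, f⟩ := by
  obtain ⟨x, hx⟩ := exists_conj_subpairLE hM hmax hQf
  have h1 : KP π (pairConj x ⟨Q, f⟩) := KP_of_rel hM hpπ hx htop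
  exact KP_of_pairConj π x h1

/-- **Upward propagation**. -/
theorem HKP_max [Fact p.Prime] (hM : IsPModular p M) {π : Set ℕ} (hpπ : p ∈ π)
    {B : Set (IrrCharacter G)} {D Q : Subgroup G}
    {eD : Set (IrrCharacter (Subgroup.centralizer (D : Set G)))}
    {f : Set (IrrCharacter (Subgroup.centralizer (Q : Set G)))}
    (hmax : IsMaximalBrauerPair p M B D eD) (hQf : IsBrauerPairOf p M B Q f)
    (h : HP π ⟨Q, f⟩ ∧ KP π ⟨Q, f⟩) : HP π ⟨D, eD⟩ ∧ KP π ⟨D, eD⟩ := by
  obtain ⟨x, hx⟩ := exists_conj_subpairLE hM hmax hQf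
  exact HKP_of_rel hM hpπ hx ⟨HP_pairConj π x h.1, KP_pairConj π x h.2⟩

end

end Cfsg.Agent.Lib.Helper8
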