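import Mathlib
import Cfsg.Prelude.Def_Blocks
import Cfsg.Prelude.Def_BrauerPairs
import Cfsg.Agent.Lib.Helper8.KC3
import Cfsg.Agent.Lib.Helper8.BP5

/-!
# Transfer of kernels between a block and its root pair
-/

set_option autoImplicit false
set_option linter.unusedSectionVars false

namespace Cfsg.Agent.Lib.Helper8

open Cfsg
open scoped ComplexConjugate
open Cfsg.Agent.Lib.Helper1 Cfsg.Agent.Lib.Helper4

universe u

section

variable {G : Type u} [Group G] [Fintype G] {M : Ideal AlgInt} {p : ℕ}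

/-- A normal subgroup lies in the kernel of all members of `A` iff the idempotent of `A` absorbs
its averaging idempotent. -/
theorem ker_iff_conv (A : Set (IrrCharacter G)) (Y : Subgroup G) [Y.Normal] :
    (∀ χ ∈ A, ∀ y ∈ Y, (χ : G → ℂ) y = (χ : G → ℂ) 1) ↔
      conv (blockCoeff A) (avgOn Y) = blockCoeff A := by
  classical
  constructor
  · exact conv_blockCoeff_avgOn_of_ker A Y
  · intro h χ hχ
    apply ker_of_omega_avgOn Y χ.2
    have h1 := congrArg (omega (χ : G → ℂ)) h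
    rw [omega_conv χ.2 (isClassFunction_avgOn Y), omega_blockCoeff, if_pos hχ, one_mul] at h1
    exact h1

/-- Kernels only depend on the idempotent, read in the ambient group. -/
theorem ker_iff_of_subgroupBlockCoeff_eq (K₁ K₂ : Subgroup G)
    (A₁ : Set (IrrCharacter K₁)) (A₂ : Set (IrrCharacter K₂))
    (heq : subgroupBlockCoeff K₁ A₁ = subgroupBlockCoeff K₂ A₂) (Y : Subgroup G)
    (h1 : Y ≤ K₁) (h2 : Y ≤ K₂) (hn1 : K₁ ≤ Subgroup.normalizer (Y : Set G))
    (hn2 : K₂ ≤ Subgroup.normalizer (Y : Set G)) :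
    (∀ ψ ∈ A₁, ∀ k : K₁, (k : G) ∈ Y → (ψ : K₁ → ℂ) k = (ψ : K₁ → ℂ) 1) ↔
      (∀ ψ ∈ A₂, ∀ k : K₂, (k : G) ∈ Y → (ψ : K₂ → ℂ) k = (ψ : K₂ → ℂ) 1) := by
  classical
  have : Fintype K₁ := Fintype.ofFinite _
  have : Fintype K₂ := Fintype.ofFinite _
  have key : ∀ (K : Subgroup G) [Fintype K] (A : Set (IrrCharacter K)) (hYK : Y ≤ K)
      (hn : K ≤ Subgroup.normalizer (Y : Set G)),
      (∀ ψ ∈ A, ∀ k : K, (k : G) ∈ Y → (ψ : K → ℂ) k = (ψ : K → ℂ) 1) ↔
        conv (subgroupBlockCoeff K A) (avgOn Y) = subgroupBlockCoeff K A := by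
    intro K _ A hYK hn
    have hYn : (Y.subgroupOf K).Normal := Subgroup.normal_subgroupOf_of_le_normalizer hn
    rw [subgroupBlockCoeff_eq_extZ, ← extZ_avgOn K Y hYK, conv_extZ]
    constructor
    · intro h
      congr 1
      apply (ker_iff_conv A (Y.subgroupOf K)).1
      intro ψ hψ y hy
      exact h ψ hψ y (Subgroup.mem_subgroupOf.1 hy)
    · intro h
      have h' := (ker_iff_conv A (Y.subgroupOf K)).2 (extZ_injective K h)
      intro ψ hψ k hk
      exact h' ψ hψ k (Subgroup.mem_subgroupOf.2 hk)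
  rw [key K₁ A₁ h1 hn1, key K₂ A₂ h2 hn2, heq]

/-- A normal `p'`-subgroup of `P C_G(P)` centralizes the `p`-group `P`. -/
theorem le_centralizer_of_normal_coprime [Fact p.Prime] (P Y : Subgroup G) (hP : IsPGroup p P)
    (hY : ¬ p ∣ Nat.card Y)
    (hYN : Y ≤ Subgroup.normalizer (P : Set G)) (hPY : P ≤ Subgroup.normalizer (Y : Set G)) :
    Y ≤ Subgroup.centralizer (P : Set G) := by
  have hp : p.Prime := Fact.out
  have hcop : Nat.Coprime (Nat.card Y) (Nat.card P) := by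
    obtain ⟨n, hn⟩ := hP.exists_card_eq
    rw [hn]
    exact Nat.Coprime.pow_right n ((Nat.Prime.coprime_iff_not_dvd hp).2 hY).symm
  have hbot : Y ⊓ P = ⊥ := (Subgroup.disjoint_of_coprime_natCard hcop).eq_bot
  intro y hy
  rw [Subgroup.mem_centralizer_iff]
  intro u hu
  have hz1 : y * u * y⁻¹ * u⁻¹ ∈ Y := by
    have h1 : u * y⁻¹ * u⁻¹ ∈ Y := (Subgroup.mem_normalizer_iff.1 (hPY hu) _).1 (Y.inv_mem hy)
    have h2 : y * u * y⁻¹ * u⁻¹ = y * (u * y⁻¹ * u⁻¹) := by group
    rw [h2]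
    exact Y.mul_mem hy h1
  have hz2 : y * u * y⁻¹ * u⁻¹ ∈ P := by
    have h1 : y * u * y⁻¹ ∈ P := (Subgroup.mem_normalizer_iff.1 (hYN hy) _).1 hu
    exact P.mul_mem h1 (P.inv_mem hu)
  have hz : y * u * y⁻¹ * u⁻¹ ∈ Y ⊓ P := ⟨hz1, hz2⟩
  rw [hbot, Subgroup.mem_bot] at hz
  have : y * u = u * y := by
    have h3 : y * u = (y * u * y⁻¹ * u⁻¹) * (u * y) := by group
    rw [h3, hz, one_mul]
  exact this.symm

end

section

variable {G : Type u} [Group G] [Fintype G] {M : Ideal AlgInt} {p : ℕ} [Fact p.Prime]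

/-- **Transfer of kernels between a block and its root pair.** -/
theorem ker_root_transfer (hM : IsPModular p M) (H : Subgroup G) [Fintype H]
    {b : Set (IrrCharacter H)} (P : Subgroup G) (hP : IsPGroup p P)
    (K : Subgroup G) (hK : K = P ⊔ Subgroup.centralizer (P : Set G)) (hKH : K ≤ H)
    {b₀ : Set (IrrCharacter K)}
    {f : Set (IrrCharacter (Subgroup.centralizer (P : Set G)))}
    (hind : IsInducedBlock M (K.subgroupOf H) (trB H K hKH b₀) b)
    (hbe : ∀ k : K,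
      blockCoeff b₀ k = extZ (Subgroup.centralizer (P : Set G)) (blockCoeff f) (k : G))
    (W : Subgroup H) [W.Normal] (hW : ¬ p ∣ Nat.card W) :
    (∀ ψ ∈ b, ∀ w ∈ W, (ψ : H → ℂ) w = (ψ : H → ℂ) 1) ↔
      (∀ ξ ∈ f, ∀ c : Subgroup.centralizer (P : Set G), (c : G) ∈ W.map H.subtype →
        (ξ : Subgroup.centralizer (P : Set G) → ℂ) c =
          (ξ : Subgroup.centralizer (P : Set G) → ℂ) 1) := by
  classical
  have : Fintype K := Fintype.ofFinite _
  have : Fintype ↥(K.subgroupOf H) := Fintype.ofFinite _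
  obtain ⟨hPK, hCK, hKN, hKC, hNK, hNC⟩ := pair_basic P _ K rfl hK
  rw [ker_iff_of_induced hM (K.subgroupOf H) hind W hW]
  -- the subgroup `Y`
  set Y : Subgroup G := W.map H.subtype ⊓ K with hYdef
  have hWn : H ≤ Subgroup.normalizer ((W.map H.subtype : Subgroup G) : Set G) := by
    intro h hh
    rw [Subgroup.mem_normalizer_iff]
    intro g
    constructor
    · rintro ⟨w, hw, rfl⟩
      have hn : (⟨h, hh⟩ : H) * w * (⟨h, hh⟩ : H)⁻¹ ∈ W :=
        (inferInstance : W.Normal).conj_mem w hw ⟨h, hh⟩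
      exact ⟨_, hn, rfl⟩
    · rintro ⟨w, hw, hwe⟩
      have hn : (⟨h, hh⟩ : H)⁻¹ * w * (⟨h, hh⟩ : H)⁻¹⁻¹ ∈ W :=
        (inferInstance : W.Normal).conj_mem w hw (⟨h, hh⟩ : H)⁻¹
      refine ⟨_, hn, ?_⟩
      have : ((w : H) : G) = h * g * h⁻¹ := hwe
      simp only [Subgroup.subtype_apply, Subgroup.coe_mul, Subgroup.coe_inv, inv_inv, this]
      group
  have hYK : Y ≤ K := inf_le_right
  have hKY : K ≤ Subgroup.normalizer (Y : Set G) := by
    intro k hk
    rw [Subgroup.mem_normalizer_iff]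
    intro g
    have h1 := (Subgroup.mem_normalizer_iff.1 (hWn (hKH hk))) g
    have h2 : g ∈ K ↔ k * g * k⁻¹ ∈ K := by
      constructor
      · intro hg
        exact K.mul_mem (K.mul_mem hk hg) (K.inv_mem hk)
      · intro hg
        have : g = k⁻¹ * (k * g * k⁻¹) * k := by group
        rw [this]
        exact K.mul_mem (K.mul_mem (K.inv_mem hk) hg) hk
    rw [hYdef, Subgroup.mem_inf, Subgroup.mem_inf, h1, h2]
  have hYcard : ¬ p ∣ Nat.card Y := by
    intro h
    apply hW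
    have h1 : Nat.card (W.map H.subtype) = Nat.card W :=
      Subgroup.card_map_of_injective H.subtype_injective
    rw [← h1]
    exact h.trans (Subgroup.card_dvd_of_le inf_le_left)
  have hYC : Y ≤ Subgroup.centralizer (P : Set G) :=
    le_centralizer_of_normal_coprime P Y hP hYcard (hYK.trans hKN) (hPK.trans hKY)
  have heq : subgroupBlockCoeff K b₀ = subgroupBlockCoeff (Subgroup.centralizer (P : Set G)) f := by
    funext g
    by_cases hg : g ∈ K
    · rw [subgroupBlockCoeff_of_mem K b₀ hg, hbe, subgroupBlockCoeff_eq_extZ]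
    · rw [subgroupBlockCoeff_of_not_mem K b₀ hg,
        subgroupBlockCoeff_of_not_mem _ f (fun h => hg (hCK h))]
  have hT1 := ker_iff_of_subgroupBlockCoeff_eq K (Subgroup.centralizer (P : Set G)) b₀ f heq Y hYK
    hYC hKY (hCK.trans hKY)
  constructor
  · intro h ξ hξ c hc
    apply hT1.1 ?_ ξ hξ c ⟨hc, hCK c.2⟩
    intro ψ hψ k hk
    obtain ⟨w, hw, hwk⟩ := hk.1
    have h1 := h _ (mem_trB H K hKH hψ) ⟨w, by
      rw [Subgroup.mem_subgroupOf]
      have : ((w : H) : G) = (k : G) := hwk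
      rw [this]
      exact k.2⟩ hw
    rw [irrMap_relEquiv_symm_apply] at h1
    have h2 : (⟨((w : H) : G), by
        have : ((w : H) : G) = (k : G) := hwk
        rw [this]
        exact k.2⟩ : K) = k := Subtype.ext hwk
    rw [h2] at h1
    exact h1
  · intro h
    rintro _ ⟨ψ, hψ, rfl⟩ k' hk'
    rw [irrMap_relEquiv_symm_apply]
    have h1 := hT1.2 (fun ξ hξ c hc => h ξ hξ c hc.1) ψ hψ ⟨((k' : H) : G), k'.2⟩
      ⟨⟨(k' : H), hk', rfl⟩, k'.2⟩
    exact h1

end

end Cfsg.Agent.Lib.Helper8
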