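import Mathlib
import Cfsg.Prelude.Def_Blocks
import Cfsg.Prelude.Def_BrauerPairs
import Cfsg.Agent.Lib.Helper8.KC4
import Cfsg.Agent.Lib.Helper8.DC1

/-!
# Root pairs of blocks and the top transfer
-/

set_option autoImplicit false
set_option linter.unusedSectionVars false

namespace Cfsg.Agent.Lib.Helper8

open Cfsg
open scoped ComplexConjugate
open Cfsg.Agent.Lib.Helper1 Cfsg.Agent.Lib.Helper4

universe u

section

variable {G : Type u} [Group G] [Fintype G] {M : Ideal AlgInt} {p : ℕ} [Fact p.Prime]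

/-- A block of `P C_G(P)` inducing `B` comes from a Brauer pair `(P, f)` of `B`. -/
theorem exists_pair_of_sup (hM : IsPModular p M) (P : Subgroup G) (hP : IsPGroup p P)
    (K : Subgroup G) (hK : K = P ⊔ Subgroup.centralizer (P : Set G))
    {b₀ : Set (IrrCharacter K)} {B : Set (IrrCharacter G)} (hind : IsInducedBlock M K b₀ B) :
    ∃ f : Set (IrrCharacter (Subgroup.centralizer (P : Set G))),
      (∀ k : K, blockCoeff b₀ k = extZ (Subgroup.centralizer (P : Set G)) (blockCoeff f) (k : G)) ∧
      IsBrauerPairOf p M B P f := by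
  classical
  have hMp := isPModular_isPrime hM
  have : Fintype K := Fintype.ofFinite _
  have : Fintype (Subgroup.centralizer (P : Set G)) := Fintype.ofFinite _
  have hb₀ := hind.1
  obtain ⟨hPK, hCK, hKN, hKC, hNK, hNC⟩ := pair_basic P _ K rfl hK
  obtain ⟨f, hf, hcovf⟩ := rel_exists_covered _ _ hCK hMp hb₀
  obtain ⟨b', hb', hcov', hbe, hstab, hdef⟩ := pair_block_context P _ K rfl hK hM hP hf hCK
  have hidx : ∃ k : ℕ, (Subgroup.centralizer (P : Set G)).relIndex K = p ^ k := by
    rw [hK]
    exact relIndex_centralizer_sup P hP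
  have hbb : b' = b₀ := rel_covers_unique_of_pIndex _ _ hCK hKC hM hidx hf hb' hb₀ hcov' hcovf
  subst hbb
  have hst := pair_stabilizes P _ K rfl hK f
  obtain ⟨B₁, hB₁, -⟩ := existsUnique_isBrauerPairOf hM P f ⟨hP, hf⟩
  have hind₁ : IsInducedBlock M K b' B₁ := by
    apply isInducedBlock_of_cover hM P _ hPK hCK hKN hB₁ hb'
    rw [orbitUnionOf_eq_of_stabilizes _ _ f hst]
    exact hbe
  have hBB : B₁ = B := isInducedBlock_unique hMp _ hind₁ hind
  subst hBB
  exact ⟨f, hbe, hB₁⟩

/-- **The root pair of a block** of a subgroup containing the centralizer of its defect group. -/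
theorem exists_root_pair (hM : IsPModular p M) (H : Subgroup G) [Fintype H]
    {b : Set (IrrCharacter H)} {D₀ : Subgroup H} (hD₀ : IsDefectGroup p M b D₀)
    (P : Subgroup G) (hPdef : P = D₀.map H.subtype)
    (hC : Subgroup.centralizer (P : Set G) ≤ H)
    {B : Set (IrrCharacter G)} (hind : IsInducedBlock M H b B)
    (K : Subgroup G) (hK : K = P ⊔ Subgroup.centralizer (P : Set G)) :
    ∃ (hKH : K ≤ H) (b₀ : Set (IrrCharacter K))
      (f : Set (IrrCharacter (Subgroup.centralizer (P : Set G)))),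
      IsInducedBlock M (K.subgroupOf H) (trB H K hKH b₀) b ∧
      (∀ k : K, blockCoeff b₀ k = extZ (Subgroup.centralizer (P : Set G)) (blockCoeff f) (k : G)) ∧
      IsBrauerPairOf p M B P f := by
  classical
  have hMp := isPModular_isPrime hM
  have hb : IsPBlock M b := hind.1
  have hP : IsPGroup p P := by
    rw [hPdef]
    exact (isPGroup_of_isDefectGroup hD₀).map _
  have hPH : P ≤ H := by
    rw [hPdef]
    rintro _ ⟨t, -, rfl⟩
    exact t.2
  have hPsub : P.subgroupOf H = D₀ := by
    rw [hPdef]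
    exact subgroupOf_map_subtype_self H D₀
  have : Fintype (Subgroup.centralizer (P : Set G)) := Fintype.ofFinite _
  have : Fintype K := Fintype.ofFinite _
  obtain ⟨hPK, hCK, hKN, hKC, hNK, hNC⟩ := pair_basic P _ K rfl hK
  have hKH : K ≤ H := by
    rw [hK]
    exact sup_le hPH hC
  have h1 : D₀ ≤ K.subgroupOf H := by
    rw [← hPsub]
    exact Subgroup.subgroupOf_mono H hPK
  have h2 : Subgroup.centralizer ((D₀ : Subgroup H) : Set H) ≤ K.subgroupOf H := by
    intro h hh
    rw [Subgroup.mem_subgroupOf]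
    apply hCK
    rw [Subgroup.mem_centralizer_iff]
    intro d hd
    rw [hPdef] at hd
    obtain ⟨d', hd', rfl⟩ := hd
    exact congrArg Subtype.val (Subgroup.mem_centralizer_iff.1 hh d' hd')
  have h3 : K.subgroupOf H ≤ Subgroup.normalizer ((D₀ : Subgroup H) : Set H) := by
    intro h hh
    rw [← hPsub, mem_normalizer_subgroupOf_iff H P hPH]
    exact hKN (Subgroup.mem_subgroupOf.1 hh)
  obtain ⟨b₀', hb₀'D, hb₀'ind⟩ := extFirstMain_exists hM hb hD₀ _ h1 h2 h3
  have htr : trB H K hKH (trB' H K hKH b₀') = b₀' := trB_trB' H K hKH b₀'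
  have hind₀ : IsInducedBlockIn M H K (trB' H K hKH b₀') b := by
    rw [isInducedBlockIn_iff H K hKH, htr]
    exact hb₀'ind
  have hindK := isInducedBlock_trans H K hKH hMp hind₀ hind
  obtain ⟨f, hbe, hBf⟩ := exists_pair_of_sup hM P hP K hK hindK
  refine ⟨hKH, trB' H K hKH b₀', f, ?_, hbe, hBf⟩
  rw [htr]
  exact hb₀'ind

/-- A Brauer pair of `B` on a defect group of `B` is maximal. -/
theorem isMaximalBrauerPair_of_isDefectGroup (hM : IsPModular p M) {B : Set (IrrCharacter G)}
    (hB : IsPBlock M B) {D : Subgroup G} (hD : IsDefectGroup p M B D)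
    {e : Set (IrrCharacter (Subgroup.centralizer (D : Set G)))} (he : IsBrauerPairOf p M B D e) :
    IsMaximalBrauerPair p M B D e := by
  refine ⟨he, ?_⟩
  intro R g hRg hle
  obtain ⟨P', e', hmax', hle'⟩ := exists_isMaximalBrauerPair_ge B _ R g hRg le_rfl
  have hDR : D ≤ R := subpairLE_le hle
  have hRP : R ≤ P' := subpairLE_le hle'
  have hP'D := isDefectGroup_of_isMaximalBrauerPair hM hmax'
  have hc : Nat.card R ≤ Nat.card D := by
    rw [card_of_isDefectGroup hM hB hD, ← card_of_isDefectGroup hM hB hP'D]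
    exact Subgroup.card_le_of_le hRP
  exact (Subgroup.eq_of_le_of_card_ge hDR hc).symm

/-- The core of a normal subgroup lies in the core. -/
theorem piCoreOf_le_piCoreOf_of_normal (σ : Set ℕ) {X X' : Subgroup G} (hXX' : X' ≤ X)
    (hn : X ≤ Subgroup.normalizer (X' : Set G)) : piCoreOf σ X' ≤ piCoreOf σ X := by
  have hn' : X ≤ Subgroup.normalizer ((piCoreOf σ X' : Subgroup G) : Set G) :=
    hn.trans (normalizer_le_normalizer_piCoreOf σ X')
  have hN : ((piCoreOf σ X').subgroupOf X).Normal := Subgroup.normal_subgroupOf_of_le_normalizer hn'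
  have hle : piCoreOf σ X' ≤ X := (piCoreOf_le σ X').trans hXX'
  have hcard : Nat.card ((piCoreOf σ X').subgroupOf X) = Nat.card (piCoreOf σ X') :=
    Nat.card_congr (Subgroup.subgroupOfEquivOfLe hle).toEquiv
  have hπ : IsPiNum σ (Nat.card ((piCoreOf σ X').subgroupOf X)) := by
    rw [hcard]
    exact isPiNum_card_piCoreOf σ X'
  intro g hg
  have h1 : (⟨g, hle hg⟩ : X) ∈ piCore σ X := le_piCore hN hπ (Subgroup.mem_subgroupOf.2 hg)
  exact (mem_piCoreOf_iff σ X ⟨g, hle hg⟩).2 h1

/-- **The top transfer**: a maximal Brauer pair of `B` on the defect group `D` attached to the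
Brauer correspondent `B₁`, and the transfer of kernels. -/
theorem exists_top_pair (hM : IsPModular p M) {π : Set ℕ} (hpπ : p ∈ π)
    {B : Set (IrrCharacter G)} (hB : IsPBlock M B) {D : Subgroup G} (hBD : IsDefectGroup p M B D)
    {B₁ : Set (IrrCharacter ↥(Subgroup.normalizer (D : Set G)))}
    (hB₁ : IsInducedBlock M (Subgroup.normalizer (D : Set G)) B₁ B)
    (hB₁D : IsDefectGroup p M B₁ (D.subgroupOf (Subgroup.normalizer (D : Set G)))) :
    ∃ f : Set (IrrCharacter (Subgroup.centralizer (D : Set G))), IsMaximalBrauerPair p M B D f ∧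
      ((∀ n : ↥(Subgroup.normalizer (D : Set G)),
          n ∈ piCore {q | q ∉ π} ↥(Subgroup.normalizer (D : Set G)) → n ∈ blockKer B₁) ↔
        (∀ ξ ∈ f, ∀ c : Subgroup.centralizer (D : Set G),
          (c : G) ∈ piCoreOf {q | q ∉ π} (Subgroup.normalizer (D : Set G)) →
          (ξ : Subgroup.centralizer (D : Set G) → ℂ) c =
            (ξ : Subgroup.centralizer (D : Set G) → ℂ) 1)) := by
  classical
  have : Fintype ↥(Subgroup.normalizer (D : Set G)) := Fintype.ofFinite _
  have hDN : D ≤ Subgroup.normalizer (D : Set G) := Subgroup.le_normalizer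
  have hPdef : D = (D.subgroupOf (Subgroup.normalizer (D : Set G))).map
      (Subgroup.normalizer (D : Set G)).subtype := (Subgroup.map_subgroupOf_eq_of_le hDN).symm
  obtain ⟨hKH, b₀, f, hind, hbe, hBf⟩ := exists_root_pair hM (Subgroup.normalizer (D : Set G)) hB₁D
    D hPdef (Subgroup.centralizer_le_normalizer _) hB₁ _ rfl
  refine ⟨f, isMaximalBrauerPair_of_isDefectGroup hM hB hBD hBf, ?_⟩
  have hW : ¬ p ∣ Nat.card (piCore {q | q ∉ π} ↥(Subgroup.normalizer (D : Set G))) := by
    intro h
    exact isPiNum_card_piCore (G := ↥(Subgroup.normalizer (D : Set G))) {q | q ∉ π} p hM.1 h hpπ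
  have key := ker_root_transfer hM (Subgroup.normalizer (D : Set G)) D hBf.1.1 _ rfl hKH hind hbe
    (piCore {q | q ∉ π} ↥(Subgroup.normalizer (D : Set G))) hW
  constructor
  · intro h
    exact key.1 (fun ψ hψ w hw => h w hw ψ hψ)
  · intro h n hn ψ hψ
    exact key.2 h ψ hψ n hn

end

end Cfsg.Agent.Lib.Helper8
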