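import Mathlib
import Cfsg.Prelude.Def_Blocks
import Cfsg.Prelude.Def_BrauerPairs
import Cfsg.Agent.Lib.Helper8.BHI10
import Cfsg.Agent.Lib.Helper8.KC5
import Cfsg.Agent.Lib.Helper8.BP2
import Cfsg.Agent.Lib.Helper8.BlockRelOrbit

/-!
# Brauer's bound for the heights through the inertial index and the centre of the defect group
-/

set_option autoImplicit false
set_option linter.unusedSectionVars false
set_option maxHeartbeats 1600000

namespace Cfsg.Agent.Lib.Helper8.BHI

open Cfsg Cfsg.Agent.Lib.Helper8 Cfsg.Agent.Lib.Helper8.VK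
open scoped ComplexConjugate
open Cfsg.Agent.Lib.Helper1 Cfsg.Agent.Lib.Helper4

universe u

section

variable {G : Type u} [Group G] [Fintype G] {M : Ideal AlgInt} {p : ℕ} [Fact p.Prime]

noncomputable local instance subFtX11 (H : Subgroup G) : Fintype H := Fintype.ofFinite H

/-- **Brauer**: the height bound in terms of a maximal Brauer pair. -/
theorem height_add_le_of_pair (hM : IsPModular p M) {B : Set (IrrCharacter G)} {D : Subgroup G}
    {e : Set (IrrCharacter (Subgroup.centralizer (D : Set G)))}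
    (hmax : IsMaximalBrauerPair p M B D e) {ψ : IrrCharacter G} (hψ : ψ ∈ B) (T H : Subgroup G)
    (hT : ∀ t : G, t ∈ Subgroup.normalizer (D : Set G) →
      StabilizesBlock (Subgroup.centralizer (D : Set G)) e t → t ∈ T)
    (hH : ∀ h ∈ H, ∀ z ∈ D, (∀ d ∈ D, d * z = z * d) → h * z = z * h)
    (n c : ℕ) (hn : H.relIndex T < p ^ (n + 1)) (hc : Nat.card (Subgroup.center D) = p ^ c) :
    blockHeight p B (ψ : G → ℂ) + c ≤ n + blockDefect p B := by
  classical
  have hp : p.Prime := Fact.out
  have hppos : (0 : ℝ) < (p : ℝ) := by exact_mod_cast hp.pos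
  have : Fintype (Subgroup.center D) := Fintype.ofFinite _
  have h1 := sum_center_ge hM hmax hψ
  have h2 := sum_center_le hM hmax ψ T H hT hH
  rw [← Finset.mul_sum] at h1
  set h := blockHeight p B (ψ : G → ℂ) with hh
  set d := blockDefect p B with hd
  have h3 : (Nat.card (Subgroup.center D) : ℝ) * (p : ℝ) ^ h ≤ (p : ℝ) ^ d * (H.relIndex T : ℝ) :=
    h1.trans (mul_le_mul_of_nonneg_left h2 (pow_pos hppos d).le)
  have h4 : p ^ c * p ^ h ≤ p ^ d * H.relIndex T := by
    rw [hc] at h3
    exact_mod_cast h3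
  have h5 : p ^ (c + h) < p ^ (d + (n + 1)) := by
    rw [pow_add, pow_add p d]
    exact lt_of_le_of_lt h4 (Nat.mul_lt_mul_of_pos_left hn (pow_pos hp.pos d))
  have h6 := (Nat.pow_lt_pow_iff_right hp.one_lt).1 h5
  omega

/-- **Brauer**: every irreducible character in a block `B` with defect group `D` of order
`p ^ d`, inertial index `e` with `e < p ^ (n + 1)` and `|Z(D)| = p ^ c` has height `h` with
`h + c ≤ n + d`. -/
theorem height_add_le (hM : IsPModular p M) {B : Set (IrrCharacter G)} (hB : IsPBlock M B)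
    {D : Subgroup G} (hBD : IsDefectGroup p M B D) (d : ℕ) (hDd : Nat.card D = p ^ d)
    (H : Subgroup G) (hH : H = D ⊔ Subgroup.centralizer (D : Set G))
    (b : Set (IrrCharacter H)) (hind : IsInducedBlock M H b B) (T : Subgroup G)
    (hT : ∀ g : G, g ∈ T ↔ (g ∈ Subgroup.normalizer (D : Set G) ∧ ∀ θ ∈ b,
      ∀ θ' : IrrCharacter H, (∀ h h' : H, (h' : G) = g * h * g⁻¹ →
        (θ' : H → ℂ) h' = (θ : H → ℂ) h) → θ' ∈ b))
    (n : ℕ) (hn : H.relIndex T < p ^ (n + 1)) (c : ℕ)
    (hc : Nat.card (Subgroup.center D) = p ^ c) :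
    ∀ χ ∈ B, blockHeight p B (χ : G → ℂ) + c ≤ n + d := by
  classical
  intro χ hχ
  have hp : p.Prime := Fact.out
  have hDp : IsPGroup p D := isPGroup_of_isDefectGroup hBD
  obtain ⟨f, hbf, hpair⟩ := exists_pair_of_sup hM D hDp H hH hind
  have hmax := isMaximalBrauerPair_of_isDefectGroup hM hB hBD hpair
  have hdd : blockDefect p B = d := by
    have h1 := card_of_isDefectGroup hM hB hBD
    rw [hDd] at h1
    exact (Nat.pow_right_injective hp.two_le h1).symm
  rw [← hdd]
  have hCH : Subgroup.centralizer (D : Set G) ≤ H := hH ▸ le_sup_right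
  obtain ⟨b', hb', -, hb'f, hstab, -⟩ := pair_block_context D (Subgroup.centralizer (D : Set G)) H rfl
    hH hM hDp hpair.1.2 hCH
  have hbb' : b' = b := by
    apply eq_of_blockCoeff_eq
    funext k
    rw [hb'f k, hbf k]
  rw [hbb'] at hstab
  obtain ⟨-, -, -, -, hNH, -⟩ := pair_basic D (Subgroup.centralizer (D : Set G)) H rfl hH
  refine height_add_le_of_pair hM hmax hχ T H ?_ ?_ n c hn hc
  · intro t htN htst
    rw [hT]
    refine ⟨htN, ?_⟩
    have hst := (hstab t htN).1 htst
    intro θ hθ θ' hθ'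
    obtain ⟨χ', hχ', hconj⟩ := hst.2 θ hθ
    have : θ' = χ' := by
      apply Subtype.ext
      funext k'
      -- `k' = t k t⁻¹` for some `k ∈ H`
      have hk : t⁻¹ * (k' : G) * t ∈ H := by
        have := (Subgroup.mem_normalizer_iff.1 (Subgroup.inv_mem _ (hNH htN)) (k' : G)).1 k'.2
        simpa using this
      have hk' : (k' : G) = t * ((⟨t⁻¹ * (k' : G) * t, hk⟩ : H) : G) * t⁻¹ := by
        show (k' : G) = t * (t⁻¹ * (k' : G) * t) * t⁻¹
        group
      rw [hθ' ⟨t⁻¹ * (k' : G) * t, hk⟩ k' hk', hconj ⟨t⁻¹ * (k' : G) * t, hk⟩ k' hk']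
    rw [this]
    exact hχ'
  · intro h hh z hz hzc
    have hle : H ≤ Subgroup.centralizer ({z} : Set G) := by
      rw [hH]
      apply sup_le
      · intro x hx
        rw [Subgroup.mem_centralizer_singleton_iff]
        exact hzc x hx
      · intro x hx
        rw [Subgroup.mem_centralizer_singleton_iff]
        exact (Subgroup.mem_centralizer_iff.1 hx z hz).symm
    exact Subgroup.mem_centralizer_singleton_iff.1 (hle hh)

end

end Cfsg.Agent.Lib.Helper8.BHI
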