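import Mathlib
import Cfsg.Prelude.Def_Characters
import Cfsg.Prelude.Def_Blocks
import Cfsg.Agent.Lib.Helper4.Characters
import Cfsg.Agent.Lib.Helper4.CharBound
import Cfsg.Agent.Lib.Helper1.CharFound6
import Cfsg.Agent.Lib.Helper1.LinearChar
import Cfsg.Agent.Lib.Helper8.Deflation
import Cfsg.Agent.Lib.Helper8.GL3
import Cfsg.Agent.S0148

set_option autoImplicit false

namespace Cfsg.Agent.Lib.Helper8.BLH

open scoped ComplexConjugate
open Cfsg Cfsg.Agent.Lib.Helper1 Cfsg.Agent.Lib.Helper4 Cfsg.Agent.Lib.Helper8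

universe u

section

variable {G : Type u} [Group G] [Fintype G]

/-- Multiplicity data of a character. -/
theorem exists_mult {χ : G → ℂ} (hχ : IsCharacter G χ) [Fintype (IrrCharacter G)] :
    ∃ m : IrrCharacter G → ℕ, (∀ φ : IrrCharacter G, classInner χ (φ : G → ℂ) = m φ) ∧
      (∀ x : G, χ x = ∑ φ : IrrCharacter G, (m φ : ℂ) * (φ : G → ℂ) x) ∧
      charDegree χ = ∑ φ : IrrCharacter G, m φ * charDegree (φ : G → ℂ) := by
  classical
  have hexp := class_function_expansion χ (isClassFunction_of_isCharacter hχ)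
  have hm : ∀ φ : IrrCharacter G, ∃ m : ℕ, classInner χ (φ : G → ℂ) = m :=
    fun φ => classInner_char_irr_nat hχ φ.2
  choose m hm using hm
  have hd : ∀ φ : IrrCharacter G, (φ : G → ℂ) 1 = (charDegree (φ : G → ℂ) : ℂ) :=
    fun φ => (irr_apply_one_eq_charDegree φ.2).1
  have hval : ∀ x : G, χ x = ∑ φ : IrrCharacter G, (m φ : ℂ) * (φ : G → ℂ) x := by
    intro x
    conv_lhs => rw [hexp]
    simp only [Finset.sum_apply, Pi.smul_apply, smul_eq_mul]
    apply Finset.sum_congr rfl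
    intro φ _
    rw [hm φ]
  refine ⟨m, hm, hval, ?_⟩
  obtain ⟨n, hn⟩ := isCharacter_apply_one hχ
  have h1 : ((n : ℕ) : ℂ) = ((∑ φ : IrrCharacter G, m φ * charDegree (φ : G → ℂ) : ℕ) : ℂ) := by
    rw [← hn, hval 1]
    push_cast
    apply Finset.sum_congr rfl
    intro φ _
    rw [hd φ]
  have h2 : n = ∑ φ : IrrCharacter G, m φ * charDegree (φ : G → ℂ) := by exact_mod_cast h1
  rw [charDegree_of_apply_one hn, h2]

/-- A character takes its degree value at `g` as soon as all its constituents do. -/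
theorem apply_eq_of_constituents {χ : G → ℂ} (hχ : IsCharacter G χ) (g : G)
    (h : ∀ ψ : G → ℂ, IsIrrCharacter G ψ → classInner χ ψ ≠ 0 → ψ g = ψ 1) : χ g = χ 1 := by
  classical
  haveI : Fintype (IrrCharacter G) := Fintype.ofFinite _
  obtain ⟨m, hm, hval, -⟩ := exists_mult hχ
  rw [hval g, hval 1]
  apply Finset.sum_congr rfl
  intro ψ _
  by_cases h0 : classInner χ (ψ : G → ℂ) = 0
  · have : (m ψ : ℂ) = 0 := by rw [← hm ψ, h0]
    rw [this, zero_mul, zero_mul]
  · rw [h ψ ψ.2 h0]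

/-- A constituent has degree at most the degree of the character. -/
theorem constituent_degree_le {χ : G → ℂ} (hχ : IsCharacter G χ) {ψ : G → ℂ}
    (hψ : IsIrrCharacter G ψ) (hne : classInner χ ψ ≠ 0) : charDegree ψ ≤ charDegree χ := by
  classical
  haveI : Fintype (IrrCharacter G) := Fintype.ofFinite _
  obtain ⟨m, hm, -, hdeg⟩ := exists_mult hχ
  rw [hdeg]
  have hmψ : m ⟨ψ, hψ⟩ ≠ 0 := by
    intro h0
    apply hne
    have := hm ⟨ψ, hψ⟩
    simp only at this
    rw [this, h0]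
    simp
  calc charDegree ψ ≤ m ⟨ψ, hψ⟩ * charDegree ψ :=
        Nat.le_mul_of_pos_left _ (Nat.pos_of_ne_zero hmψ)
    _ ≤ ∑ φ : IrrCharacter G, m φ * charDegree (φ : G → ℂ) :=
        Finset.single_le_sum (f := fun φ : IrrCharacter G => m φ * charDegree (φ : G → ℂ))
          (fun _ _ => Nat.zero_le _) (Finset.mem_univ (⟨ψ, hψ⟩ : IrrCharacter G))

/-- The number of distinct constituents is at most the degree. -/
theorem card_constituents_le {χ : G → ℂ} (hχ : IsCharacter G χ) (S : Finset (IrrCharacter G))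
    (hS : ∀ φ ∈ S, classInner χ (φ : G → ℂ) ≠ 0) : S.card ≤ charDegree χ := by
  classical
  haveI : Fintype (IrrCharacter G) := Fintype.ofFinite _
  obtain ⟨m, hm, -, hdeg⟩ := exists_mult hχ
  rw [hdeg]
  have h1 : ∀ φ ∈ S, 1 ≤ m φ * charDegree (φ : G → ℂ) := by
    intro φ hφ
    have hmφ : m φ ≠ 0 := by
      intro h0
      apply hS φ hφ
      rw [hm φ, h0]
      simp
    have hd : 0 < charDegree (φ : G → ℂ) := (irr_apply_one_eq_charDegree φ.2).2
    exact Nat.one_le_iff_ne_zero.mpr (Nat.mul_ne_zero hmφ hd.ne')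
  calc S.card = ∑ _φ ∈ S, 1 := by simp
    _ ≤ ∑ φ ∈ S, m φ * charDegree (φ : G → ℂ) := Finset.sum_le_sum h1
    _ ≤ ∑ φ : IrrCharacter G, m φ * charDegree (φ : G → ℂ) :=
        Finset.sum_le_sum_of_subset (Finset.subset_univ S)

end

section small

variable {G : Type u} [Group G] [Finite G]

/-- The common kernel of the irreducible characters of degree at most `b`. -/
def smallKer (b : ℕ) (G : Type u) [Group G] : Set G :=
  {g | ∀ φ : G → ℂ, IsIrrCharacter G φ → charDegree φ ≤ b → φ g = φ 1}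

theorem mem_smallKer {b : ℕ} {g : G} :
    g ∈ smallKer b G ↔ ∀ φ : G → ℂ, IsIrrCharacter G φ → charDegree φ ≤ b → φ g = φ 1 := Iff.rfl

/-- A character all of whose constituents are small is trivial on `smallKer`. -/
theorem apply_eq_of_mem_smallKer {b : ℕ} {χ : G → ℂ} (hχ : IsCharacter G χ)
    (hd : charDegree χ ≤ b) {g : G} (hg : g ∈ smallKer b G) : χ g = χ 1 := by
  classical
  haveI : Fintype G := Fintype.ofFinite G
  apply apply_eq_of_constituents hχ
  intro ψ hψ hne
  exact hg ψ hψ ((constituent_degree_le hχ hψ hne).trans hd)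

/-- Restriction to a subgroup. -/
theorem smallKer_subgroup {b : ℕ} (H : Subgroup G) {h : H} (hh : h ∈ smallKer b H) :
    (h : G) ∈ smallKer b G := by
  intro φ hφ hd
  have hres : IsCharacter H (fun x : H => φ x) :=
    Cfsg.Agent.S0148.isCharacter_restrict H (isCharacter_of_irr hφ)
  have hdeg : charDegree (fun x : H => φ x) = charDegree φ := by
    unfold charDegree
    rfl
  have := apply_eq_of_mem_smallKer hres (hdeg.le.trans hd) hh
  simpa using this

/-- Quotients. -/
theorem apply_eq_of_mk_mem_smallKer {b : ℕ} (N : Subgroup G) [N.Normal] {φ : G → ℂ}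
    (hφ : IsIrrCharacter G φ) (hd : charDegree φ ≤ b) (hN : ∀ n ∈ N, φ n = φ 1) {g : G}
    (hg : (QuotientGroup.mk g : G ⧸ N) ∈ smallKer b (G ⧸ N)) : φ g = φ 1 := by
  obtain ⟨ψ, hψ, hψφ⟩ := exists_deflation N hφ hN
  have h1 : ψ 1 = φ 1 := by
    have := hψφ 1
    rwa [QuotientGroup.mk_one] at this
  have hdeg : charDegree ψ = charDegree φ := by
    unfold charDegree
    rw [h1]
  have := hg ψ hψ (hdeg.le.trans hd)
  rw [hψφ g, h1] at this
  exact this

/-- A `p`-subgroup acts through an abelian group under a character of degree `< p`. -/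
theorem commutator_apply_of_isPGroup {χ : G → ℂ} (hχ : IsCharacter G χ) {p : ℕ} [hp : Fact p.Prime]
    (P : Subgroup G) (hP : IsPGroup p P) (hd : charDegree χ < p) :
    ∀ x ∈ P, ∀ y ∈ P, χ (x * y * x⁻¹ * y⁻¹) = χ 1 := by
  classical
  intro x hx y hy
  haveI : Fintype P := Fintype.ofFinite P
  have hres : IsCharacter P (fun z : P => χ z) := Cfsg.Agent.S0148.isCharacter_restrict P hχ
  have hdeg : charDegree (fun z : P => χ z) = charDegree χ := by
    unfold charDegree
    rfl
  have key : (fun z : P => χ z) ((⟨x, hx⟩ : P) * ⟨y, hy⟩ * (⟨x, hx⟩ : P)⁻¹ * (⟨y, hy⟩ : P)⁻¹)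
      = (fun z : P => χ z) 1 := by
    apply apply_eq_of_constituents hres
    intro ψ hψ hne
    have h1 : charDegree ψ ≤ charDegree χ := hdeg ▸ constituent_degree_le hres hψ hne
    have h2 : charDegree ψ ∣ Nat.card P := charDegree_dvd_card hψ
    obtain ⟨k, hk⟩ := IsPGroup.iff_card.mp hP
    rw [hk] at h2
    obtain ⟨j, -, hj⟩ := (Nat.dvd_prime_pow hp.out).mp h2
    have hj0 : j = 0 := by
      by_contra hne0
      have : p ≤ p ^ j := Nat.le_self_pow hne0 p
      omega
    rw [hj0, pow_zero] at hj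
    have hψ1 : ψ 1 = 1 := by
      rw [(irr_apply_one_eq_charDegree hψ).1, hj]
      simp
    obtain ⟨f, hf⟩ := exists_hom_of_isIrrCharacter hψ hψ1
    rw [hf]
    simp only [map_mul, map_inv, map_one]
    have : f ⟨x, hx⟩ * f ⟨y, hy⟩ * (f ⟨x, hx⟩)⁻¹ * (f ⟨y, hy⟩)⁻¹ = 1 := by
      rw [mul_comm (f ⟨x, hx⟩) (f ⟨y, hy⟩), mul_inv_cancel_right, mul_inv_cancel]
    rw [this]
  simpa using key

end small

end Cfsg.Agent.Lib.Helper8.BLH
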