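import Mathlib
import Cfsg.Agent.Lib.Helper8.BLH1
import Cfsg.Agent.Lib.Helper4.GaloisTwist
import Cfsg.Agent.Lib.Helper1.RepBasic
import Cfsg.Agent.Lib.Helper1.CharInt
import Cfsg.Agent.Lib.Helper8.BlockUnion
import Cfsg.Agent.Lib.Helper8.GL1

set_option autoImplicit false

namespace Cfsg.Agent.Lib.Helper8.BLH

open scoped ComplexConjugate
open Cfsg Cfsg.Agent.Lib.Helper1 Cfsg.Agent.Lib.Helper4 Cfsg.Agent.Lib.Helper8

universe u

section

variable {G : Type u} [Group G] [Fintype G]

/-- Sum over a cyclic subgroup as a sum over exponents. -/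
theorem sum_zpowers_eq {x : G} {p : ℕ} (hx : orderOf x = p) [Fintype (Subgroup.zpowers x)]
    (f : G → ℂ) : ∑ h : Subgroup.zpowers x, f h = ∑ j ∈ Finset.range p, f (x ^ j) := by
  rw [← hx, ← Fin.sum_univ_eq_sum_range (fun j => f (x ^ j)) (orderOf x)]
  refine (Fintype.sum_equiv (finEquivZPowers (isOfFinOrder_of_finite x)) _ _ (fun i => ?_)).symm
  simp [finEquivZPowers_apply]

/-- The sum of a character over a subgroup is the order times a natural number bounded by the
degree. -/
theorem sum_subgroup_eq {φ : G → ℂ} (hφ : IsCharacter G φ) (H : Subgroup G) [Fintype H] :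
    ∃ a : ℕ, a ≤ charDegree φ ∧ ∑ h : H, φ h = (Nat.card H : ℂ) * a := by
  obtain ⟨n, ρ, rfl⟩ := hφ
  refine ⟨Module.finrank ℂ (Representation.invariants (ρ.comp H.subtype)), ?_, ?_⟩
  · have h1 : charDegree ρ.character = n := by
      apply charDegree_of_apply_one
      rw [Representation.char_one]
      simp
    rw [h1]
    have := Submodule.finrank_le (Representation.invariants (ρ.comp H.subtype))
    simpa using this
  · have h := classInner_restrict_one ρ H
    unfold Cfsg.classInner at h
    have hH0 : (Nat.card H : ℂ) ≠ 0 := Nat.cast_ne_zero.mpr Nat.card_pos.ne'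
    have h2 : ∑ g : H, ρ.character g * conj (1 : ℂ) = ∑ g : H, ρ.character g := by
      apply Finset.sum_congr rfl
      intro g _
      simp
    rw [h2] at h
    rw [← h, ← mul_assoc, mul_inv_cancel₀ hH0, one_mul]

/-- A faithful character of degree `< p - 1` is moved by a Galois automorphism fixing the
`p`-regular values. -/
theorem exists_twist {φ : G → ℂ} (hφ : IsCharacter G φ) (hfaith : ∀ g : G, φ g = φ 1 → g = 1)
    {p : ℕ} [hp : Fact p.Prime] (hd : charDegree φ + 1 < p) (hpG : p ∣ Nat.card G) :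
    ∃ τ : ℂ ≃+* ℂ, (∀ g : G, ¬ p ∣ orderOf g → τ (φ g) = φ g) ∧ ∃ g : G, τ (φ g) ≠ φ g := by
  classical
  by_contra hcon
  push Not at hcon
  obtain ⟨x, hx⟩ := exists_prime_orderOf_dvd_card' p hpG
  set m := Nat.card G with hm
  have hm0 : m ≠ 0 := Nat.card_pos.ne'
  haveI : NeZero m := ⟨hm0⟩
  set m' := ordCompl[p] m with hm'
  have hcop : Nat.Coprime p m' := Nat.coprime_ordCompl hp.out hm0
  have hmul : ordProj[p] m * m' = m := Nat.ordProj_mul_ordCompl_eq_self m p
  -- all nontrivial powers have the same value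
  have hpow : ∀ j : ℕ, 1 ≤ j → j < p → φ (x ^ j) = φ x := by
    intro j hj1 hjp
    set k := (Nat.chineseRemainder hcop j 1 : ℕ) with hk
    have hk1 : k ≡ j [MOD p] := (Nat.chineseRemainder hcop j 1).2.1
    have hk2 : k ≡ 1 [MOD m'] := (Nat.chineseRemainder hcop j 1).2.2
    have hkp : Nat.Coprime k p := by
      rw [Nat.coprime_comm, hp.out.coprime_iff_not_dvd]
      intro hdvd
      have : p ∣ j := (Nat.modEq_zero_iff_dvd.mp ((hk1.symm.trans (Nat.modEq_zero_iff_dvd.mpr hdvd))))
      have := Nat.le_of_dvd (by omega) this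
      omega
    have hkm' : Nat.Coprime k m' := by
      have := hk2.gcd_eq
      rw [Nat.Coprime, this]
      simp
    have hkm : Nat.Coprime k m := by
      rw [← hmul]
      exact Nat.Coprime.mul_right (Nat.Coprime.pow_right _ hkp) hkm'
    obtain ⟨τ, hτ⟩ := exists_complex_aut_pow m k hkm
    have hτφ : ∀ g : G, τ (φ g) = φ (g ^ k) := by
      intro g
      have := twist_apply (τ : ℂ →+* ℂ) m k (fun c hc => hτ c hc) hφ g (by rw [hm]; exact pow_card_eq_one')
      simpa using this
    have hreg : ∀ g : G, ¬ p ∣ orderOf g → τ (φ g) = φ g := by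
      intro g hg
      rw [hτφ g]
      congr 1
      apply pow_eq_self_of_modEq
      have h1 : orderOf g ∣ m := orderOf_dvd_natCard g
      have h2 : orderOf g ∣ m' := by
        rw [← hmul] at h1
        have hc : Nat.Coprime (orderOf g) (ordProj[p] m) :=
          Nat.Coprime.pow_right _ ((Nat.coprime_comm.mp ((hp.out.coprime_iff_not_dvd).mpr hg)))
        exact hc.dvd_of_dvd_mul_left h1
      exact hk2.of_dvd h2
    have h3 := hcon τ hreg x
    rw [hτφ x] at h3
    rw [← h3]
    congr 1
    rw [pow_eq_pow_iff_modEq, hx]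
    exact hk1.symm
  -- sum over the cyclic subgroup
  obtain ⟨a, ha, hsum⟩ := sum_subgroup_eq hφ (Subgroup.zpowers x)
  rw [sum_zpowers_eq hx, Nat.card_zpowers, hx] at hsum
  have hp2 : 2 ≤ p := hp.out.two_le
  have hsplit : ∑ j ∈ Finset.range p, φ (x ^ j) = φ 1 + ((p : ℂ) - 1) * φ x := by
    obtain ⟨r, rfl⟩ : ∃ r, p = r + 1 := ⟨p - 1, by omega⟩
    rw [Finset.sum_range_succ']
    have : ∑ j ∈ Finset.range r, φ (x ^ (j + 1)) = ∑ _j ∈ Finset.range r, φ x := by
      apply Finset.sum_congr rfl
      intro j hj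
      rw [Finset.mem_range] at hj
      exact hpow (j + 1) (by omega) (by omega)
    rw [this, Finset.sum_const, Finset.card_range, pow_zero]
    push_cast
    simp only [nsmul_eq_mul]
    ring
  rw [hsplit] at hsum
  obtain ⟨n, hn⟩ := isCharacter_apply_one hφ
  have hdn : charDegree φ = n := charDegree_of_apply_one hn
  rw [hn] at hsum
  rw [hdn] at ha hd
  -- integrality
  have hint : IsIntegral ℤ ((n : ℂ) - φ x) :=
    (isIntegral_algebraMap (R := ℤ) (A := ℂ) (x := (n : ℤ))).sub (isIntegral_char_apply hφ x) |> fun h => by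
      simpa using h
  have hp1 : ((p - 1 : ℕ) : ℂ) = (p : ℂ) - 1 := by
    rw [Nat.cast_sub (by omega)]
    simp
  have hp10 : ((p - 1 : ℕ) : ℂ) ≠ 0 := Nat.cast_ne_zero.mpr (by omega)
  have heq : (n : ℂ) - φ x = ((p * (n - a) : ℕ) : ℂ) / ((p - 1 : ℕ) : ℂ) := by
    rw [eq_div_iff hp10, hp1]
    push_cast [Nat.cast_sub ha]
    linear_combination (-1 : ℂ) * hsum
  rw [heq] at hint
  have hdvd : (p - 1) ∣ p * (n - a) := nat_dvd_of_isIntegral_div (p * (n - a)) (p - 1) (by omega) hint
  have hcop2 : Nat.Coprime (p - 1) p := by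
    obtain ⟨r, rfl⟩ : ∃ r, p = r + 1 := ⟨p - 1, by omega⟩
    simp
  have hdvd2 : (p - 1) ∣ (n - a) := hcop2.dvd_of_dvd_mul_left hdvd
  have hna : n - a = 0 := by
    by_contra hne
    have := Nat.le_of_dvd (Nat.pos_of_ne_zero hne) hdvd2
    omega
  have han : a = n := by omega
  have hφx : φ x = φ 1 := by
    rw [hn]
    have h4 : ((p : ℂ) - 1) * φ x = ((p : ℂ) - 1) * n := by
      rw [han] at hsum
      linear_combination hsum
    have h5 : (p : ℂ) - 1 ≠ 0 := by rw [← hp1]; exact hp10
    exact mul_left_cancel₀ h5 h4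
  have hx1 := hfaith x hφx
  rw [hx1, orderOf_one] at hx
  omega

/-- If an irreducible faithful character has degree `< p - 1` and `< q - 1` and both primes divide
the group order, then some element has order divisible by `p` and by `q`. -/
theorem exists_orderOf_dvd {φ : G → ℂ} (hφ : IsIrrCharacter G φ)
    (hfaith : ∀ g : G, φ g = φ 1 → g = 1) {p q : ℕ} [hp : Fact p.Prime] [hq : Fact q.Prime]
    (hdp : charDegree φ + 1 < p) (hdq : charDegree φ + 1 < q) (hpG : p ∣ Nat.card G)
    (hqG : q ∣ Nat.card G) : ∃ g : G, p ∣ orderOf g ∧ q ∣ orderOf g := by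
  classical
  by_contra hcon
  push Not at hcon
  have hφc := isCharacter_of_irr hφ
  obtain ⟨τp, hτp, gp, hgp⟩ := exists_twist hφc hfaith hdp hpG
  obtain ⟨τq, hτq, gq, hgq⟩ := exists_twist hφc hfaith hdq hqG
  set φp : G → ℂ := fun g => (τp : ℂ →+* ℂ) (φ g) with hφp
  set φq : G → ℂ := fun g => (τq : ℂ →+* ℂ) (φ g) with hφq
  have hirrp : IsIrrCharacter G φp := isIrrCharacter_twist (τp : ℂ →+* ℂ) hφ
  have hirrq : IsIrrCharacter G φq := isIrrCharacter_twist (τq : ℂ →+* ℂ) hφ
  have hnep : φp ≠ φ := by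
    intro h
    apply hgp
    have := congrFun h gp
    simpa [hφp] using this
  have hneq : φ ≠ φq := by
    intro h
    apply hgq
    have := congrFun h gq
    simpa [hφq] using this.symm
  have hzero : classInner (φp - φ) (φq - φ) = 0 := by
    unfold Cfsg.classInner
    rw [Finset.sum_eq_zero, mul_zero]
    intro g _
    by_cases hg : p ∣ orderOf g
    · have h2 := hτq g (hcon g hg)
      have : (φq - φ) g = 0 := by
        simp only [Pi.sub_apply, hφq]
        rw [sub_eq_zero]
        simpa using h2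
      rw [this, map_zero, mul_zero]
    · have h2 := hτp g hg
      have : (φp - φ) g = 0 := by
        simp only [Pi.sub_apply, hφp]
        rw [sub_eq_zero]
        simpa using h2
      rw [this, zero_mul]
  rw [classInner_sub_left, classInner_sub_right, classInner_sub_right,
    classInner_irr_ne hirrp hφ hnep, classInner_irr_ne hφ hirrq hneq, classInner_irr_self hφ,
    classInner_irr hirrp hirrq] at hzero
  split_ifs at hzero <;> norm_num at hzero

end

end Cfsg.Agent.Lib.Helper8.BLH
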