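import Mathlib
import Cfsg.Agent.Lib.Helper8.BLH1
import Cfsg.Agent.Lib.Helper2.DetChar
import Cfsg.Agent.Lib.Helper1.CharInt

set_option autoImplicit false

namespace Cfsg.Agent.Lib.Helper8.BLH

open scoped ComplexConjugate
open Cfsg Cfsg.Agent.Lib.Helper1 Cfsg.Agent.Lib.Helper4 Cfsg.Agent.Lib.Helper8
open Cfsg.Agent.Lib.Helper2.DetChar

universe u

section

variable {G : Type u} [Group G]

/-- Schur: central elements act as scalars in an irreducible representation. -/
theorem central_scalar {V : Type*} [AddCommGroup V] [Module ℂ V] [FiniteDimensional ℂ V]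
    (ρ : Representation ℂ G V) [ρ.IsIrreducible] {z : G} (hz : z ∈ Subgroup.center G) :
    ∃ c : ℂ, ρ z = c • LinearMap.id := by
  let T : Representation.IntertwiningMap ρ ρ :=
    { toLinearMap := ρ z
      isIntertwining' := fun h => by
        rw [← Module.End.mul_eq_comp, ← Module.End.mul_eq_comp, ← map_mul, ← map_mul,
          Subgroup.mem_center_iff.mp hz h] }
  obtain ⟨c, hc⟩ := (Representation.IsIrreducible.algebraMap_intertwiningMap_bijective_of_isAlgClosed
    (ρ := ρ)).2 T
  refine ⟨c, ?_⟩
  have := congrArg Representation.IntertwiningMap.toLinearMap hc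
  rw [Representation.IntertwiningMap.algebraMap_apply] at this
  exact this.symm

/-- The determinant homomorphism detects central elements of order prime to the degree. -/
theorem exists_det_hom [Finite G] {φ : G → ℂ} (hφ : IsIrrCharacter G φ) :
    ∃ δ : G →* ℂˣ, ∀ z ∈ Subgroup.center G, δ z = 1 → (orderOf z).Coprime (charDegree φ) →
      φ z = φ 1 := by
  obtain ⟨n, ρ, hirr, rfl⟩ := hφ
  haveI := hirr
  refine ⟨detHom ρ, ?_⟩
  intro z hz hδ hcop
  obtain ⟨c, hc⟩ := central_scalar ρ hz
  have hn : charDegree ρ.character = n := by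
    apply charDegree_of_apply_one
    rw [Representation.char_one]
    simp
  rw [hn] at hcop
  have hnt : Nontrivial (Fin n → ℂ) := nontrivial_of_irreducible ρ
  have h1 : c ^ n = 1 := by
    have h2 : ((detHom ρ z : ℂˣ) : ℂ) = 1 := by rw [hδ]; rfl
    rw [detHom_apply, hc, LinearMap.det_smul, LinearMap.det_id, mul_one] at h2
    simpa using h2
  have h3 : c ^ orderOf z = 1 := by
    have h4 : (ρ z) ^ orderOf z = 1 := by
      rw [← map_pow, pow_orderOf_eq_one, map_one]
    rw [hc] at h4
    have h5 : (c • (LinearMap.id : (Fin n → ℂ) →ₗ[ℂ] (Fin n → ℂ))) ^ orderOf z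
        = (c ^ orderOf z) • (1 : Module.End ℂ (Fin n → ℂ)) := by
      rw [← Module.End.one_eq_id, smul_pow, one_pow]
    rw [h5] at h4
    obtain ⟨v, hv⟩ := exists_ne (0 : Fin n → ℂ)
    have h6 := LinearMap.congr_fun h4 v
    simp only [LinearMap.smul_apply, Module.End.one_apply] at h6
    have h7 : (c ^ orderOf z - 1) • v = 0 := by rw [sub_smul, h6, one_smul, sub_self]
    rcases smul_eq_zero.mp h7 with h8 | h8
    · exact sub_eq_zero.mp h8
    · exact absurd h8 hv
  have h9 : c ^ Nat.gcd (orderOf z) n = 1 := pow_gcd_eq_one.mpr ⟨h3, h1⟩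
  rw [Nat.Coprime] at hcop
  rw [hcop, pow_one] at h9
  unfold Representation.character
  rw [hc, h9, one_smul, map_one]
  rfl

end

end Cfsg.Agent.Lib.Helper8.BLH
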