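import Mathlib
import Cfsg.Agent.Lib.Helper8.BLH1
import Cfsg.Agent.Lib.Helper4.AbelianIrr
import Cfsg.Agent.Lib.Helper1.CharFound7

set_option autoImplicit false

namespace Cfsg.Agent.Lib.Helper8.BLH

open scoped ComplexConjugate
open Cfsg Cfsg.Agent.Lib.Helper1 Cfsg.Agent.Lib.Helper4 Cfsg.Agent.Lib.Helper8

universe u

section

variable {G : Type u} [Group G] [Finite G]

/-- Twisting an irreducible character of a normal subgroup by conjugation. -/
noncomputable def conjIrr (A : Subgroup G) [A.Normal] (y : G) (lam : IrrCharacter A) :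
    IrrCharacter A :=
  ⟨fun a => (lam : A → ℂ) (MulAut.conjNormal y a),
    isIrrCharacter_comp_mulEquiv lam.2 (MulAut.conjNormal y : A ≃* A)⟩

theorem conjIrr_apply (A : Subgroup G) [A.Normal] (y : G) (lam : IrrCharacter A) (a : A) :
    (conjIrr A y lam : A → ℂ) a = (lam : A → ℂ) (MulAut.conjNormal y a) := rfl

theorem conjIrr_iterate (A : Subgroup G) [A.Normal] (y : G) (n : ℕ) (lam : IrrCharacter A) (a : A) :
    (((conjIrr A y)^[n] lam : IrrCharacter A) : A → ℂ) a
      = (lam : A → ℂ) (MulAut.conjNormal (y ^ n) a) := by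
  induction n generalizing lam with
  | zero => simp
  | succ n ih =>
    rw [Function.iterate_succ_apply, ih (conjIrr A y lam), conjIrr_apply, pow_succ', map_mul]
    rfl

theorem classInner_conjIrr [Fintype G] (A : Subgroup G) [A.Normal] [Fintype A] {χ : G → ℂ}
    (hχ : IsClassFunction G χ) (y : G) (lam : IrrCharacter A) :
    classInner (fun a : A => χ a) (conjIrr A y lam : A → ℂ)
      = classInner (fun a : A => χ a) (lam : A → ℂ) := by
  unfold Cfsg.classInner
  congr 1
  refine Fintype.sum_equiv (MulAut.conjNormal y : A ≃* A).toEquiv _ _ (fun a => ?_)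
  rw [conjIrr_apply]
  congr 1
  have : ((MulAut.conjNormal y : A ≃* A).toEquiv a : G) = y * a * y⁻¹ := by
    simp [MulAut.conjNormal_apply]
  show χ (a : G) = χ ((MulAut.conjNormal y : A ≃* A).toEquiv a : G)
  rw [this, hχ]

/-- An abelian normal subgroup is centralised, modulo the kernel of a character of degree `< q`,
by every `q`-element. -/
theorem normal_abelian_centralized {χ : G → ℂ} (hχ : IsCharacter G χ) (A : Subgroup G) [A.Normal]
    (hA : ∀ a ∈ A, ∀ b ∈ A, a * b = b * a) {q k : ℕ} [hq : Fact q.Prime]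
    (hd : charDegree χ < q) {y : G} (hy : y ^ (q ^ k) = 1) :
    ∀ a ∈ A, χ (y * a * y⁻¹ * a⁻¹) = χ 1 := by
  classical
  haveI : Fintype G := Fintype.ofFinite G
  haveI : Fintype A := Fintype.ofFinite A
  haveI : Fintype (IrrCharacter A) := Fintype.ofFinite _
  have hres : IsCharacter A (fun z : A => χ z) := Cfsg.Agent.S0148.isCharacter_restrict A hχ
  have hdeg : charDegree (fun z : A => χ z) = charDegree χ := by
    unfold charDegree
    rfl
  have hcl := isClassFunction_of_isCharacter hχ
  have hAc : ∀ a b : A, a * b = b * a := fun a b => Subtype.ext (hA a a.2 b b.2)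
  -- every constituent is fixed
  have hfix : ∀ lam : IrrCharacter A, classInner (fun a : A => χ a) (lam : A → ℂ) ≠ 0 →
      conjIrr A y lam = lam := by
    intro lam hne
    by_contra hnf
    have hper : Function.IsPeriodicPt (conjIrr A y) (q ^ k) lam := by
      unfold Function.IsPeriodicPt Function.IsFixedPt
      apply Subtype.ext
      funext a
      rw [conjIrr_iterate, hy, map_one]
      rfl
    have hdvd := hper.minimalPeriod_dvd
    obtain ⟨j, -, hj⟩ := (Nat.dvd_prime_pow hq.out).mp hdvd
    have hj0 : j ≠ 0 := by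
      intro h0
      rw [h0, pow_zero, Function.minimalPeriod_eq_one_iff_isFixedPt] at hj
      exact hnf hj
    have hge : q ≤ Function.minimalPeriod (conjIrr A y) lam := by
      rw [hj]
      exact Nat.le_self_pow hj0 q
    have hinj : Set.InjOn (fun i : ℕ => (conjIrr A y)^[i] lam) (Finset.range q : Set ℕ) := by
      intro i hi j' hj' hij
      apply Function.iterate_injOn_Iio_minimalPeriod (f := conjIrr A y) (x := lam)
      · simp only [Finset.coe_range, Set.mem_Iio] at hi ⊢; omega
      · simp only [Finset.coe_range, Set.mem_Iio] at hj' ⊢; omega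
      · exact hij
    set S : Finset (IrrCharacter A) := (Finset.range q).image (fun i : ℕ => (conjIrr A y)^[i] lam)
      with hS
    have hcard : S.card = q := by
      rw [hS, Finset.card_image_of_injOn hinj, Finset.card_range]
    have hSc : ∀ φ ∈ S, classInner (fun a : A => χ a) (φ : A → ℂ) ≠ 0 := by
      intro φ hφ
      rw [hS, Finset.mem_image] at hφ
      obtain ⟨i, -, rfl⟩ := hφ
      have : ∀ n : ℕ, ∀ mu : IrrCharacter A,
          classInner (fun a : A => χ a) (((conjIrr A y)^[n] mu : IrrCharacter A) : A → ℂ)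
            = classInner (fun a : A => χ a) (mu : A → ℂ) := by
        intro n
        induction n with
        | zero => intro mu; rfl
        | succ n ih =>
          intro mu
          rw [Function.iterate_succ_apply, ih, classInner_conjIrr A hcl]
      rw [this]
      exact hne
    have := card_constituents_le hres S hSc
    rw [hcard, hdeg] at this
    omega
  intro a ha
  have key : (fun z : A => χ z) ((MulAut.conjNormal y (⟨a, ha⟩ : A)) * (⟨a, ha⟩ : A)⁻¹)
      = (fun z : A => χ z) 1 := by
    apply apply_eq_of_constituents hres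
    intro ψ hψ hne
    obtain ⟨f, hf⟩ := exists_hom_of_comm hAc hψ
    have h1 := hfix ⟨ψ, hψ⟩ hne
    have h2 : ψ (MulAut.conjNormal y (⟨a, ha⟩ : A)) = ψ ⟨a, ha⟩ := by
      have := congrArg (fun mu : IrrCharacter A => (mu : A → ℂ) ⟨a, ha⟩) h1
      simpa [conjIrr_apply] using this
    rw [hf] at h2 ⊢
    simp only [map_mul, map_inv, map_one] at h2 ⊢
    have h3 : f (MulAut.conjNormal y (⟨a, ha⟩ : A)) = f ⟨a, ha⟩ := Units.ext h2
    rw [h3, mul_inv_cancel]
  have h4 : (((MulAut.conjNormal y (⟨a, ha⟩ : A)) * (⟨a, ha⟩ : A)⁻¹ : A) : G) = y * a * y⁻¹ * a⁻¹ := by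
    simp [MulAut.conjNormal_apply]
  simp only [] at key
  rw [h4] at key
  simpa using key

end

end Cfsg.Agent.Lib.Helper8.BLH
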