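import Mathlib

set_option autoImplicit false

namespace Cfsg.Agent.Lib.Helper8.BLH

universe u

section

variable {G : Type u} [Group G]

theorem comm_of_commutator_eq_one {x y : G} (h : x * y * x⁻¹ * y⁻¹ = 1) : x * y = y * x := by
  have h1 : x * y * x⁻¹ = y := by
    have := congrArg (· * y) h
    simpa using this
  have h2 := congrArg (· * x) h1
  simpa using h2

theorem commutator_eq_one_of_comm {x y : G} (h : x * y = y * x) : x * y * x⁻¹ * y⁻¹ = 1 := by
  rw [h, mul_inv_cancel_right, mul_inv_cancel]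

theorem commutator_inv (x y : G) : (x * y * x⁻¹ * y⁻¹)⁻¹ = y * x * y⁻¹ * x⁻¹ := by
  simp [mul_assoc]

theorem commutator_conj (g x y : G) :
    (g * x * g⁻¹) * (g * y * g⁻¹) * (g * x * g⁻¹)⁻¹ * (g * y * g⁻¹)⁻¹
      = g * (x * y * x⁻¹ * y⁻¹) * g⁻¹ := by
  simp [mul_assoc]

variable [Finite G]

theorem card_lt_of_ne_top {H : Subgroup G} (hH : H ≠ ⊤) : Nat.card H < Nat.card G := by
  have h1 : H.index ≠ 1 := fun h => hH (Subgroup.index_eq_one.mp h)
  have h2 : H.index ≠ 0 := Subgroup.index_ne_zero_of_finite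
  have h3 := H.card_mul_index
  have h4 : 0 < Nat.card H := Nat.card_pos
  have h5 : 2 ≤ H.index := by omega
  calc Nat.card H < Nat.card H * 2 := by omega
    _ ≤ Nat.card H * H.index := Nat.mul_le_mul_left _ h5
    _ = Nat.card G := h3

theorem card_quotient_lt_of_ne_bot {K : Subgroup G} [K.Normal] (hK : K ≠ ⊥) :
    Nat.card (G ⧸ K) < Nat.card G := by
  have h1 : Nat.card K ≠ 1 := fun h => hK (Subgroup.card_eq_one.mp h)
  have h4 : 0 < Nat.card K := Nat.card_pos
  have h3 := K.card_mul_index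
  have h2 : K.index ≠ 0 := Subgroup.index_ne_zero_of_finite
  have h5 : 2 ≤ Nat.card K := by omega
  have h6 : Nat.card (G ⧸ K) = K.index := rfl
  rw [h6]
  calc K.index < 2 * K.index := by omega
    _ ≤ Nat.card K * K.index := Nat.mul_le_mul_right _ h5
    _ = Nat.card G := h3

/-- Index of a subgroup supplementing a normal subgroup. -/
theorem index_eq_relIndex_of_sup_eq_top (M N : Subgroup G) [N.Normal] (h : M ⊔ N = ⊤) :
    M.index = M.relIndex N := by
  have h1 : (M ⊓ N).relIndex M * M.index = (M ⊓ N).index :=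
    Subgroup.relIndex_mul_index inf_le_left
  have h2 : (M ⊓ N).relIndex N * N.index = (M ⊓ N).index :=
    Subgroup.relIndex_mul_index inf_le_right
  have h3 : (M ⊓ N).relIndex M = N.index := by
    rw [Subgroup.inf_relIndex_left, ← Subgroup.relIndex_sup_right M N, h,
      Subgroup.relIndex_top_right]
  have h4 : (M ⊓ N).relIndex N = M.relIndex N := Subgroup.inf_relIndex_right M N
  rw [h3] at h1
  rw [h4] at h2
  have h5 : N.index ≠ 0 := Subgroup.index_ne_zero_of_finite
  have h6 : N.index * M.index = N.index * M.relIndex N := by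
    rw [h1, ← h2, mul_comm]
  exact Nat.eq_of_mul_eq_mul_left (Nat.pos_of_ne_zero h5) h6

/-- A Sylow subgroup is trivial when the prime does not divide the order. -/
theorem sylow_eq_bot_of_not_dvd {p : ℕ} [hp : Fact p.Prime] (hpG : ¬ p ∣ Nat.card G)
    (P : Sylow p G) : (P : Subgroup G) = ⊥ := by
  have h1 := P.card_eq_multiplicity
  rw [Nat.factorization_eq_zero_of_not_dvd hpG, pow_zero] at h1
  exact Subgroup.card_eq_one.mp h1

theorem mem_sylow_smul_iff {p : ℕ} {g : G} {P : Sylow p G} {x : G} :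
    x ∈ g • P ↔ g⁻¹ * x * g ∈ P := by
  have h1 : x ∈ g • P ↔ x ∈ ((g • P : Sylow p G) : Subgroup G) := Iff.rfl
  rw [h1, Sylow.coe_subgroup_smul, Subgroup.mem_pointwise_smul_iff_inv_smul_mem]
  simp [MulAut.smul_def]
  exact Iff.rfl

/-- Transport a commuting pair of Sylow subgroups to a given Sylow `p`-subgroup. -/
theorem exists_sylow_comm_of_pair {p q : ℕ} [Fact p.Prime] [Fact q.Prime] (P₀ : Sylow p G)
    (Q₀ : Sylow q G) (h : ∀ x ∈ P₀, ∀ y ∈ Q₀, x * y = y * x) (P : Sylow p G) :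
    ∃ Q : Sylow q G, ∀ x ∈ P, ∀ y ∈ Q, x * y = y * x := by
  obtain ⟨g, hg⟩ := MulAction.exists_smul_eq G P₀ P
  refine ⟨g • Q₀, ?_⟩
  intro x hx y hy
  rw [← hg] at hx
  rw [mem_sylow_smul_iff] at hx hy
  have := h _ hx _ hy
  have h2 : g * (g⁻¹ * x * g * (g⁻¹ * y * g)) * g⁻¹ = g * (g⁻¹ * y * g * (g⁻¹ * x * g)) * g⁻¹ := by
    rw [this]
  simpa [mul_assoc] using h2

end

end Cfsg.Agent.Lib.Helper8.BLH
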