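import Mathlib
import Cfsg.Agent.Lib.Helper8.BLH5

set_option autoImplicit false

namespace Cfsg.Agent.Lib.Helper8.BLH

universe u

section

variable {G : Type u} [Group G] [Finite G]

/-- Under the "no proper subgroup contains both Sylows" hypothesis, a Sylow `r`-subgroup of a
normal subgroup `N` which commutes with a Sylow `s`-subgroup of `N` is central. -/
theorem sylow_normal_le_center {r s : ℕ} [hr : Fact r.Prime] [hs : Fact s.Prime]
    (N : Subgroup G) [N.Normal] (R : Sylow r N) (S : Sylow s N)
    (hRS : ∀ x ∈ R, ∀ y ∈ S, x * y = y * x)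
    (hNS : ∀ H : Subgroup G, H ≠ ⊤ → r ∣ H.index ∨ s ∣ H.index)
    (habr : ∀ P : Sylow r G, ∀ x ∈ P, ∀ y ∈ P, x * y = y * x)
    (hA : ∀ A : Subgroup G, A.Normal → (∀ a ∈ A, ∀ b ∈ A, a * b = b * a) →
      ∀ (y : G) (k : ℕ), y ^ (s ^ k) = 1 → ∀ a ∈ A, y * a = a * y) :
    (R : Subgroup N).map N.subtype ≤ Subgroup.center G := by
  classical
  set A : Subgroup G := (R : Subgroup N).map N.subtype with hAdef
  have hAp : IsPGroup r A := R.2.map N.subtype
  obtain ⟨P, hAP⟩ := hAp.exists_le_sylow
  have hAab : ∀ a ∈ A, ∀ b ∈ A, a * b = b * a := fun a ha b hb => habr P a (hAP ha) b (hAP hb)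
  -- the normalizer is everything
  have hM : Subgroup.normalizer (A : Set G) = ⊤ := by
    by_contra hne
    have hPM : (P : Subgroup G) ≤ Subgroup.normalizer (A : Set G) := by
      intro x hx
      rw [Subgroup.mem_normalizer_iff]
      intro a
      constructor
      · intro ha
        have : x * a * x⁻¹ = a := by
          rw [habr P x hx a (hAP ha), mul_inv_cancel_right]
        rw [this]; exact ha
      · intro ha
        have hxa : x * a * x⁻¹ ∈ P := P.1.mul_mem (P.1.mul_mem hx (by
          have h1 : a = x⁻¹ * (x * a * x⁻¹) * x := by group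
          rw [h1]
          exact P.1.mul_mem (P.1.mul_mem (P.1.inv_mem hx) (hAP ha)) hx)) (P.1.inv_mem hx)
        have h2 : a = x⁻¹ * (x * a * x⁻¹) * x := by group
        have h3 : x⁻¹ * (x * a * x⁻¹) * x = x * a * x⁻¹ := by
          have h4 := habr P x⁻¹ (P.1.inv_mem hx) (x * a * x⁻¹) (hAP ha)
          rw [h4, inv_mul_cancel_right]
        rw [h2, h3]; exact ha
    have hSM : (S : Subgroup N).map N.subtype ≤ Subgroup.normalizer (A : Set G) := by
      intro y hy
      obtain ⟨y', hy', rfl⟩ := hy
      rw [Subgroup.mem_normalizer_iff]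
      intro a
      have key : ∀ b ∈ A, N.subtype y' * b * (N.subtype y')⁻¹ = b := by
        intro b hb
        obtain ⟨b', hb', rfl⟩ := hb
        have := hRS b' hb' y' hy'
        have h2 : N.subtype y' * N.subtype b' = N.subtype b' * N.subtype y' := by
          rw [← map_mul, ← map_mul, this]
        rw [h2, mul_inv_cancel_right]
      constructor
      · intro ha
        rw [key a ha]; exact ha
      · intro ha
        have h1 := key _ ha
        have h2 : a = (N.subtype y')⁻¹ * (N.subtype y' * a * (N.subtype y')⁻¹) * N.subtype y' := by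
          group
        have h3 : N.subtype y' * a * (N.subtype y')⁻¹ = a := by
          have h5 : N.subtype y' * (N.subtype y' * a * (N.subtype y')⁻¹) * (N.subtype y')⁻¹
              = N.subtype y' * a * (N.subtype y')⁻¹ := h1
          have h6 := congrArg (fun t => (N.subtype y')⁻¹ * t * N.subtype y') h5
          beta_reduce at h6
          have e1 : (N.subtype y')⁻¹ * (N.subtype y' * (N.subtype y' * a * (N.subtype y')⁻¹) *
              (N.subtype y')⁻¹) * N.subtype y' = N.subtype y' * a * (N.subtype y')⁻¹ := by group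
          have e2 : (N.subtype y')⁻¹ * (N.subtype y' * a * (N.subtype y')⁻¹) * N.subtype y' = a := by
            group
          rw [e1, e2] at h6
          exact h6
        rw [← h3]; exact ha
    rcases hNS _ hne with h | h
    · exact P.not_dvd_index (h.trans (Subgroup.index_dvd_of_le hPM))
    · have hsup : Subgroup.normalizer (A : Set G) ⊔ N = ⊤ := Sylow.normalizer_sup_eq_top R
      rw [index_eq_relIndex_of_sup_eq_top _ N hsup] at h
      have h1 : (Subgroup.normalizer (A : Set G)).relIndex N ∣ ((S : Subgroup N).map N.subtype).relIndex N :=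
        Subgroup.relIndex_dvd_of_le_left N hSM
      have h2 : ((S : Subgroup N).map N.subtype).relIndex N = (S : Subgroup N).index := by
        unfold Subgroup.relIndex Subgroup.subgroupOf
        rw [Subgroup.comap_map_eq_self_of_injective N.subtype_injective]
      rw [h2] at h1
      exact S.not_dvd_index (h.trans h1)
  have hAn : A.Normal := Subgroup.normalizer_eq_top_iff.mp hM
  -- the centralizer is everything
  have hC : Subgroup.centralizer (A : Set G) = ⊤ := by
    by_contra hne
    have hPC : (P : Subgroup G) ≤ Subgroup.centralizer (A : Set G) := by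
      intro x hx
      rw [Subgroup.mem_centralizer_iff]
      intro a ha
      exact (habr P x hx a (hAP ha)).symm
    rcases hNS _ hne with h | h
    · exact P.not_dvd_index (h.trans (Subgroup.index_dvd_of_le hPC))
    · obtain ⟨Q⟩ : Nonempty (Sylow s G) := inferInstance
      have hQC : (Q : Subgroup G) ≤ Subgroup.centralizer (A : Set G) := by
        intro y hy
        rw [Subgroup.mem_centralizer_iff]
        intro a ha
        obtain ⟨k, hk⟩ := (IsPGroup.iff_orderOf.mp Q.2) ⟨y, hy⟩
        have hyk : y ^ (s ^ k) = 1 := by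
          have h1 : orderOf y = s ^ k := by
            rw [← hk]; exact (Subgroup.orderOf_mk y hy).symm
          rw [← h1, pow_orderOf_eq_one]
        exact (hA A hAn hAab y k hyk a ha).symm
      exact Q.not_dvd_index (h.trans (Subgroup.index_dvd_of_le hQC))
  intro a ha
  rw [Subgroup.mem_center_iff]
  intro g
  have hg : g ∈ Subgroup.centralizer (A : Set G) := by rw [hC]; trivial
  rw [Subgroup.mem_centralizer_iff] at hg
  exact (hg a ha).symm

/-- If the kernel of a homomorphism to `ℂˣ` has order prime to `p` and `q`, then there are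
commuting Sylow `p`- and `q`-subgroups. -/
theorem exists_comm_sylow_of_ker (δ : G →* ℂˣ) {p q : ℕ} [hp : Fact p.Prime] [hq : Fact q.Prime]
    (hpk : ¬ p ∣ Nat.card δ.ker) (hqk : ¬ q ∣ Nat.card δ.ker) :
    ∃ (P : Sylow p G) (Q : Sylow q G), ∀ x ∈ P, ∀ y ∈ Q, x * y = y * x := by
  classical
  haveI : Finite δ.range := Finite.of_surjective δ.rangeRestrict δ.rangeRestrict_surjective
  obtain ⟨ω, hω⟩ := IsCyclic.exists_generator (α := δ.range)
  obtain ⟨g0, hg0⟩ := ω.2
  have h1 : orderOf ω = Nat.card δ.range := orderOf_eq_card_of_forall_mem_zpowers hω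
  have h2 : orderOf (ω : ℂˣ) = orderOf ω := Subgroup.orderOf_coe ω
  have h3 : δ.ker.index ∣ orderOf g0 := by
    rw [Subgroup.index_ker, ← h1, ← h2, ← hg0]
    exact orderOf_map_dvd δ g0
  have hcard := δ.ker.card_mul_index
  have key : ∀ (r : ℕ) [hr : Fact r.Prime], ¬ r ∣ Nat.card δ.ker →
      ∃ x ∈ Subgroup.zpowers g0, ∃ R : Sylow r G, (R : Subgroup G) = Subgroup.zpowers x := by
    intro r hr hrk
    set a := (Nat.card G).factorization r with ha
    have hdiv : r ^ a ∣ δ.ker.index := by
      have h4 : r ^ a ∣ Nat.card δ.ker * δ.ker.index := by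
        rw [hcard]; exact Nat.ordProj_dvd _ _
      have h5 : Nat.Coprime (r ^ a) (Nat.card δ.ker) :=
        Nat.Coprime.pow_left _ ((hr.out.coprime_iff_not_dvd).mpr hrk)
      exact h5.dvd_of_dvd_mul_left h4
    have hdiv2 : r ^ a ∣ orderOf g0 := hdiv.trans h3
    have hord : orderOf (g0 ^ (orderOf g0 / r ^ a)) = r ^ a :=
      orderOf_pow_orderOf_div (orderOf_pos g0).ne' hdiv2
    refine ⟨g0 ^ (orderOf g0 / r ^ a), Subgroup.pow_mem _ (Subgroup.mem_zpowers g0) _,
      Sylow.ofCard (Subgroup.zpowers (g0 ^ (orderOf g0 / r ^ a))) ?_, rfl⟩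
    rw [Nat.card_zpowers, hord]
  obtain ⟨xP, hxP, P, hP⟩ := key p hpk
  obtain ⟨xQ, hxQ, Q, hQ⟩ := key q hqk
  refine ⟨P, Q, ?_⟩
  intro x hx y hy
  have hx' : x ∈ Subgroup.zpowers g0 := by
    have : x ∈ (P : Subgroup G) := hx
    rw [hP] at this
    exact (Subgroup.zpowers_le.mpr hxP) this
  have hy' : y ∈ Subgroup.zpowers g0 := by
    have : y ∈ (Q : Subgroup G) := hy
    rw [hQ] at this
    exact (Subgroup.zpowers_le.mpr hxQ) this
  obtain ⟨i, rfl⟩ := Subgroup.mem_zpowers_iff.mp hx'
  obtain ⟨j, rfl⟩ := Subgroup.mem_zpowers_iff.mp hy'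
  exact (Commute.refl g0).zpow_zpow i j

end

end Cfsg.Agent.Lib.Helper8.BLH
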