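import Mathlib
import Cfsg.Agent.Lib.Helper8.BLH1
import Cfsg.Agent.Lib.Helper8.BLH2
import Cfsg.Agent.Lib.Helper8.BLH3
import Cfsg.Agent.Lib.Helper8.BLH4
import Cfsg.Agent.Lib.Helper8.BLH6

set_option autoImplicit false

namespace Cfsg.Agent.Lib.Helper8.BLH

open scoped ComplexConjugate
open Cfsg Cfsg.Agent.Lib.Helper1 Cfsg.Agent.Lib.Helper4 Cfsg.Agent.Lib.Helper8

universe u

section

variable {G : Type u} [Group G] [Finite G]

theorem orderOf_coe_coe {H : Subgroup G} {K : Subgroup H} (u : H) (hu : u ∈ K) :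
    orderOf (⟨u, hu⟩ : K) = orderOf (u : G) := by
  rw [← Subgroup.orderOf_coe (⟨u, hu⟩ : K), ← Subgroup.orderOf_coe u]

/-- The heart of Blichfeldt's theorem: the faithful irreducible case. -/
theorem heart {φ : G → ℂ} (hφ : IsIrrCharacter G φ)
    (hfaith : ∀ g : G, φ g = φ 1 → g = 1) {p q : ℕ} [hp : Fact p.Prime] [hq : Fact q.Prime]
    (hdp : charDegree φ + 1 < p) (hdq : charDegree φ + 1 < q)
    (hNS : ∀ H : Subgroup G, H ≠ ⊤ → p ∣ H.index ∨ q ∣ H.index)
    (hIH : ∀ H : Subgroup G, H ≠ ⊤ → ∀ P : Sylow p H, ∃ Q : Sylow q H,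
      ∀ x ∈ P, ∀ y ∈ Q, x * y = y * x) :
    ∃ (P : Sylow p G) (Q : Sylow q G), ∀ x ∈ P, ∀ y ∈ Q, x * y = y * x := by
  classical
  haveI : Fintype G := Fintype.ofFinite G
  have hφc := isCharacter_of_irr hφ
  have hd0 : 0 < charDegree φ := (irr_apply_one_eq_charDegree hφ).2
  have habp : ∀ P : Sylow p G, ∀ x ∈ P, ∀ y ∈ P, x * y = y * x := fun P x hx y hy =>
    comm_of_commutator_eq_one
      (hfaith _ (commutator_apply_of_isPGroup hφc P.1 P.2 (by omega) x hx y hy))
  have habq : ∀ P : Sylow q G, ∀ x ∈ P, ∀ y ∈ P, x * y = y * x := fun P x hx y hy =>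
    comm_of_commutator_eq_one
      (hfaith _ (commutator_apply_of_isPGroup hφc P.1 P.2 (by omega) x hx y hy))
  have hcopp : Nat.Coprime p (charDegree φ) :=
    (Nat.Prime.coprime_iff_not_dvd hp.out).mpr (Nat.not_dvd_of_pos_of_lt hd0 (by omega))
  have hcopq : Nat.Coprime q (charDegree φ) :=
    (Nat.Prime.coprime_iff_not_dvd hq.out).mpr (Nat.not_dvd_of_pos_of_lt hd0 (by omega))
  by_cases hpG : p ∣ Nat.card G
  swap
  · obtain ⟨P⟩ : Nonempty (Sylow p G) := inferInstance
    obtain ⟨Q⟩ : Nonempty (Sylow q G) := inferInstance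
    refine ⟨P, Q, fun x hx y _ => ?_⟩
    have : x ∈ (P : Subgroup G) := hx
    rw [sylow_eq_bot_of_not_dvd hpG P, Subgroup.mem_bot] at this
    rw [this]; simp
  by_cases hqG : q ∣ Nat.card G
  swap
  · obtain ⟨P⟩ : Nonempty (Sylow p G) := inferInstance
    obtain ⟨Q⟩ : Nonempty (Sylow q G) := inferInstance
    refine ⟨P, Q, fun x _ y hy => ?_⟩
    have : y ∈ (Q : Subgroup G) := hy
    rw [sylow_eq_bot_of_not_dvd hqG Q, Subgroup.mem_bot] at this
    rw [this]; simp
  obtain ⟨g, hgp, hgq⟩ := exists_orderOf_dvd hφ hfaith hdp hdq hpG hqG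
  -- a central element
  have hz : ∃ z ∈ Subgroup.center G, z ≠ 1 ∧ (orderOf z).Coprime (charDegree φ) := by
    set x0 := g ^ (orderOf g / p) with hx0def
    have hx0 : orderOf x0 = p := orderOf_pow_orderOf_div (orderOf_pos g).ne' hgp
    set y0 := g ^ (orderOf g / q) with hy0def
    have hy0 : orderOf y0 = q := orderOf_pow_orderOf_div (orderOf_pos g).ne' hgq
    have hxy : x0 * y0 = y0 * x0 := Commute.pow_pow_self g _ _
    by_cases hC : Subgroup.centralizer ({x0} : Set G) = ⊤
    · refine ⟨x0, ?_, ?_, by rw [hx0]; exact hcopp⟩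
      · rw [Subgroup.mem_center_iff]
        intro h
        have hh : h ∈ Subgroup.centralizer ({x0} : Set G) := by rw [hC]; trivial
        rw [Subgroup.mem_centralizer_iff] at hh
        exact (hh x0 rfl).symm
      · intro h1
        rw [h1, orderOf_one] at hx0
        exact hp.out.one_lt.ne hx0
    · have hpg : IsPGroup p (Subgroup.zpowers x0) :=
        IsPGroup.of_card (n := 1) (by rw [Nat.card_zpowers, hx0, pow_one])
      obtain ⟨P, hP⟩ := hpg.exists_le_sylow
      have hx0P : x0 ∈ P := hP (Subgroup.mem_zpowers x0)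
      have hPC : (P : Subgroup G) ≤ Subgroup.centralizer ({x0} : Set G) := by
        intro u hu
        rw [Subgroup.mem_centralizer_iff]
        intro h hh
        rw [Set.mem_singleton_iff] at hh
        subst hh
        exact habp P _ hx0P u hu
      obtain ⟨QC, hQC⟩ := hIH _ hC (P.subtype hPC)
      have hy0C : y0 ∈ Subgroup.centralizer ({x0} : Set G) := by
        rw [Subgroup.mem_centralizer_iff]
        intro h hh
        rw [Set.mem_singleton_iff] at hh
        subst hh
        exact hxy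
      have hqC : q ∣ Nat.card (Subgroup.centralizer ({x0} : Set G)) := by
        have := orderOf_dvd_natCard (⟨y0, hy0C⟩ : Subgroup.centralizer ({x0} : Set G))
        rwa [Subgroup.orderOf_mk, hy0] at this
      have hne := QC.ne_bot_of_dvd_card hqC
      obtain ⟨⟨w, hw⟩, hw1⟩ := Subgroup.ne_bot_iff_exists_ne_one.mp hne
      have hw0 : (w : G) ∈ Subgroup.center G := by
        have hD : Subgroup.centralizer ({(w : G)} : Set G) = ⊤ := by
          by_contra hne'
          have hPD : (P : Subgroup G) ≤ Subgroup.centralizer ({(w : G)} : Set G) := by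
            intro u hu
            rw [Subgroup.mem_centralizer_iff]
            intro h hh
            rw [Set.mem_singleton_iff] at hh
            subst hh
            have hu' : (⟨u, hPC hu⟩ : Subgroup.centralizer ({x0} : Set G)) ∈ P.subtype hPC := by
              show (⟨u, hPC hu⟩ : Subgroup.centralizer ({x0} : Set G)) ∈
                ((P.subtype hPC : Sylow p _) : Subgroup _)
              rw [Sylow.coe_subtype, Subgroup.mem_subgroupOf]
              exact hu
            have := hQC _ hu' w hw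
            exact (congrArg Subtype.val this).symm
          obtain ⟨Q', hQ'⟩ := (QC.2.map (Subgroup.centralizer ({x0} : Set G)).subtype).exists_le_sylow
          have hwQ' : (w : G) ∈ Q' := hQ' ⟨w, hw, rfl⟩
          have hQD : (Q' : Subgroup G) ≤ Subgroup.centralizer ({(w : G)} : Set G) := by
            intro v hv
            rw [Subgroup.mem_centralizer_iff]
            intro h hh
            rw [Set.mem_singleton_iff] at hh
            subst hh
            exact habq Q' _ hwQ' v hv
          rcases hNS _ hne' with h | h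
          · exact P.not_dvd_index (h.trans (Subgroup.index_dvd_of_le hPD))
          · exact Q'.not_dvd_index (h.trans (Subgroup.index_dvd_of_le hQD))
        rw [Subgroup.mem_center_iff]
        intro h
        have hh : h ∈ Subgroup.centralizer ({(w : G)} : Set G) := by rw [hD]; trivial
        rw [Subgroup.mem_centralizer_iff] at hh
        exact (hh _ rfl).symm
      refine ⟨(w : G), hw0, ?_, ?_⟩
      · intro h
        apply hw1
        exact Subtype.ext (Subtype.ext h)
      · obtain ⟨k, hk⟩ := (IsPGroup.iff_orderOf.mp QC.2) ⟨w, hw⟩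
        rw [orderOf_coe_coe] at hk
        rw [hk]
        exact Nat.Coprime.pow_left k hcopq
  obtain ⟨z, hzc, hz1, hzcop⟩ := hz
  obtain ⟨δ, hδ⟩ := exists_det_hom hφ
  have hδz : δ z ≠ 1 := fun h => hz1 (hfaith z (hδ z hzc h hzcop))
  have hG1 : δ.ker ≠ ⊤ := by
    intro h
    apply hδz
    have : z ∈ δ.ker := by rw [h]; trivial
    exact MonoidHom.mem_ker.mp this
  obtain ⟨P1⟩ : Nonempty (Sylow p δ.ker) := inferInstance
  obtain ⟨Q1, hPQ1⟩ := hIH _ hG1 P1
  have hAq : ∀ A : Subgroup G, A.Normal → (∀ a ∈ A, ∀ b ∈ A, a * b = b * a) →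
      ∀ (y : G) (k : ℕ), y ^ (q ^ k) = 1 → ∀ a ∈ A, y * a = a * y := by
    intro A hAn hAab y k hy a ha
    haveI := hAn
    have := normal_abelian_centralized hφc A hAab (q := q) (k := k) (by omega) hy a ha
    exact comm_of_commutator_eq_one (hfaith _ this)
  have hAp : ∀ A : Subgroup G, A.Normal → (∀ a ∈ A, ∀ b ∈ A, a * b = b * a) →
      ∀ (y : G) (k : ℕ), y ^ (p ^ k) = 1 → ∀ a ∈ A, y * a = a * y := by
    intro A hAn hAab y k hy a ha
    haveI := hAn
    have := normal_abelian_centralized hφc A hAab (q := p) (k := k) (by omega) hy a ha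
    exact comm_of_commutator_eq_one (hfaith _ this)
  have hP1c := sylow_normal_le_center δ.ker P1 Q1 hPQ1 hNS habp hAq
  have hQ1c := sylow_normal_le_center δ.ker Q1 P1 (fun x hx y hy => (hPQ1 y hy x hx).symm)
    (fun H hH => (hNS H hH).symm) habq hAp
  have hP1 : ¬ p ∣ Nat.card δ.ker := by
    intro hdvd
    have hne := P1.ne_bot_of_dvd_card hdvd
    obtain ⟨⟨u, hu⟩, hu1⟩ := Subgroup.ne_bot_iff_exists_ne_one.mp hne
    have huc : (u : G) ∈ Subgroup.center G := hP1c ⟨u, hu, rfl⟩
    have huk : δ (u : G) = 1 := MonoidHom.mem_ker.mp u.2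
    obtain ⟨k, hk⟩ := (IsPGroup.iff_orderOf.mp P1.2) ⟨u, hu⟩
    rw [orderOf_coe_coe] at hk
    have := hfaith _ (hδ _ huc huk (by rw [hk]; exact Nat.Coprime.pow_left k hcopp))
    apply hu1
    exact Subtype.ext (Subtype.ext this)
  have hQ1 : ¬ q ∣ Nat.card δ.ker := by
    intro hdvd
    have hne := Q1.ne_bot_of_dvd_card hdvd
    obtain ⟨⟨u, hu⟩, hu1⟩ := Subgroup.ne_bot_iff_exists_ne_one.mp hne
    have huc : (u : G) ∈ Subgroup.center G := hQ1c ⟨u, hu, rfl⟩
    have huk : δ (u : G) = 1 := MonoidHom.mem_ker.mp u.2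
    obtain ⟨k, hk⟩ := (IsPGroup.iff_orderOf.mp Q1.2) ⟨u, hu⟩
    rw [orderOf_coe_coe] at hk
    have := hfaith _ (hδ _ huc huk (by rw [hk]; exact Nat.Coprime.pow_left k hcopq))
    apply hu1
    exact Subtype.ext (Subtype.ext this)
  exact exists_comm_sylow_of_ker δ hP1 hQ1

end

end Cfsg.Agent.Lib.Helper8.BLH
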