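import Mathlib
import Cfsg.Agent.Lib.Helper8.BLH7
import Cfsg.Agent.Lib.Helper8.CharKernel

set_option autoImplicit false

namespace Cfsg.Agent.Lib.Helper8.BLH

open scoped ComplexConjugate
open Cfsg Cfsg.Agent.Lib.Helper1 Cfsg.Agent.Lib.Helper4 Cfsg.Agent.Lib.Helper8

universe u

section

theorem smallKer_conj {G : Type u} [Group G] {b : ℕ} {g : G} (hg : g ∈ smallKer b G) (h : G) :
    h * g * h⁻¹ ∈ smallKer b G := by
  intro φ hφ hd
  rw [isClassFunction_irr hφ g h]
  exact hg φ hφ hd

/-- Main induction: a Sylow `p`-subgroup commutes with a Sylow `q`-subgroup modulo the common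
kernel of the irreducible characters of degree at most `b`, when `b + 1 < p, q`. -/
theorem sylow_comm_mod_smallKer (b p q : ℕ) [hp : Fact p.Prime] [hq : Fact q.Prime]
    (hbp : b + 1 < p) (hbq : b + 1 < q) :
    ∀ (n : ℕ) (G : Type u) [Group G] [Finite G], Nat.card G = n → ∀ P : Sylow p G,
      ∃ Q : Sylow q G, ∀ x ∈ P, ∀ y ∈ Q, x * y * x⁻¹ * y⁻¹ ∈ smallKer b G := by
  intro n
  induction n using Nat.strong_induction_on with
  | _ n ih =>
  intro G _ _ hn P
  classical
  by_cases hNS : ∀ H : Subgroup G, H ≠ ⊤ → p ∣ H.index ∨ q ∣ H.index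
  swap
  · push Not at hNS
    obtain ⟨H, hH, hpH, hqH⟩ := hNS
    have hlt : Nat.card H < n := hn ▸ card_lt_of_ne_top hH
    obtain ⟨PH⟩ : Nonempty (Sylow p H) := inferInstance
    obtain ⟨QH, hQH⟩ := ih _ hlt H rfl PH
    have hPi : ¬ p ∣ ((PH : Subgroup H).map H.subtype).index := by
      rw [Subgroup.index_map_subtype]
      exact Nat.Prime.not_dvd_mul hp.out PH.not_dvd_index hpH
    have hQi : ¬ q ∣ ((QH : Subgroup H).map H.subtype).index := by
      rw [Subgroup.index_map_subtype]
      exact Nat.Prime.not_dvd_mul hq.out QH.not_dvd_index hqH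
    obtain ⟨g, hg⟩ := MulAction.exists_smul_eq G ((PH.2.map H.subtype).toSylow hPi) P
    refine ⟨g • ((QH.2.map H.subtype).toSylow hQi), ?_⟩
    intro x hx y hy
    rw [← hg] at hx
    rw [mem_sylow_smul_iff, IsPGroup.mem_toSylow] at hx hy
    obtain ⟨x', hx', hxe⟩ := hx
    obtain ⟨y', hy', hye⟩ := hy
    have h1 := smallKer_subgroup H (hQH x' hx' y' hy')
    have h2 := smallKer_conj h1 g
    have h3 : g * ((x' * y' * x'⁻¹ * y'⁻¹ : H) : G) * g⁻¹ = x * y * x⁻¹ * y⁻¹ := by
      have ex : x = g * (H.subtype x') * g⁻¹ := by rw [hxe]; group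
      have ey : y = g * (H.subtype y') * g⁻¹ := by rw [hye]; group
      rw [ex, ey, commutator_conj]
      simp
    rw [h3] at h2
    exact h2
  · -- every small irreducible character kills [G, P]
    have claim : ∀ φ : G → ℂ, IsIrrCharacter G φ → charDegree φ ≤ b →
        ∀ g : G, ∀ x ∈ P, φ (g * x * g⁻¹ * x⁻¹) = φ 1 := by
      intro φ hφ hd
      have hφc := isCharacter_of_irr hφ
      obtain ⟨K, hKn, hK⟩ := exists_normal_ker hφc
      haveI := hKn
      -- sub-claim
      have sub : ∃ Qφ : Sylow q G, ∀ x ∈ P, ∀ y ∈ Qφ, x * y * x⁻¹ * y⁻¹ ∈ K := by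
        by_cases hKb : K = ⊥
        · have hfaith : ∀ g : G, φ g = φ 1 → g = 1 := by
            intro g hg
            have : g ∈ K := (hK g).2 hg
            rwa [hKb, Subgroup.mem_bot] at this
          have hIH : ∀ H : Subgroup G, H ≠ ⊤ → ∀ PH : Sylow p H, ∃ QH : Sylow q H,
              ∀ x ∈ PH, ∀ y ∈ QH, x * y = y * x := by
            intro H hH PH
            have hlt : Nat.card H < n := hn ▸ card_lt_of_ne_top hH
            obtain ⟨QH, hQH⟩ := ih _ hlt H rfl PH
            refine ⟨QH, ?_⟩
            intro x hx y hy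
            have h1 := smallKer_subgroup H (hQH x hx y hy)
            have h2 := hfaith _ (h1 φ hφ hd)
            apply comm_of_commutator_eq_one
            apply Subtype.ext
            rw [h2]
            rfl
          obtain ⟨P0, Q0, h0⟩ := heart hφ hfaith (by omega) (by omega) hNS hIH
          obtain ⟨Q, hQ⟩ := exists_sylow_comm_of_pair P0 Q0 h0 P
          refine ⟨Q, ?_⟩
          intro x hx y hy
          rw [commutator_eq_one_of_comm (hQ x hx y hy)]
          exact K.one_mem
        · have hlt : Nat.card (G ⧸ K) < n := hn ▸ card_quotient_lt_of_ne_bot hKb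
          have hsurj : Function.Surjective (QuotientGroup.mk' K) := QuotientGroup.mk'_surjective K
          obtain ⟨Qbar, hQbar⟩ := ih _ hlt (G ⧸ K) rfl (P.mapSurjective hsurj)
          obtain ⟨Q, hQ⟩ := Sylow.mapSurjective_surjective hsurj q Qbar
          refine ⟨Q, ?_⟩
          intro x hx y hy
          have hx' : QuotientGroup.mk' K x ∈ P.mapSurjective hsurj := by
            show QuotientGroup.mk' K x ∈ ((P.mapSurjective hsurj : Sylow p (G ⧸ K)) : Subgroup (G ⧸ K))
            rw [Sylow.coe_mapSurjective]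
            exact Subgroup.mem_map_of_mem _ hx
          have hy' : QuotientGroup.mk' K y ∈ Qbar := by
            rw [← hQ]
            show QuotientGroup.mk' K y ∈ ((Q.mapSurjective hsurj : Sylow q (G ⧸ K)) : Subgroup (G ⧸ K))
            rw [Sylow.coe_mapSurjective]
            exact Subgroup.mem_map_of_mem _ hy
          have h1 := hQbar _ hx' _ hy'
          have h2 : QuotientGroup.mk' K x * QuotientGroup.mk' K y * (QuotientGroup.mk' K x)⁻¹ *
              (QuotientGroup.mk' K y)⁻¹ = (QuotientGroup.mk (x * y * x⁻¹ * y⁻¹) : G ⧸ K) := by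
            simp
          rw [h2] at h1
          have h3 := apply_eq_of_mk_mem_smallKer K hφ hd (fun k hk => (hK k).1 hk) h1
          exact (hK _).2 h3
      obtain ⟨Qφ, hQφ⟩ := sub
      -- the subgroup of elements centralizing P modulo K
      let C : Subgroup G :=
        { carrier := {g | ∀ x ∈ P, g * x * g⁻¹ * x⁻¹ ∈ K}
          one_mem' := by
            intro x _
            simp
          mul_mem' := by
            intro g h hg hh x hx
            have e : g * h * x * (g * h)⁻¹ * x⁻¹
                = g * (h * x * h⁻¹ * x⁻¹) * g⁻¹ * (g * x * g⁻¹ * x⁻¹) := by group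
            rw [e]
            exact K.mul_mem (hKn.conj_mem _ (hh x hx) g) (hg x hx)
          inv_mem' := by
            intro g hg x hx
            have e : g⁻¹ * x * g⁻¹⁻¹ * x⁻¹ = g⁻¹ * (g * x * g⁻¹ * x⁻¹)⁻¹ * g⁻¹⁻¹ := by group
            rw [e]
            exact hKn.conj_mem _ (K.inv_mem (hg x hx)) g⁻¹ }
      have hPC : (P : Subgroup G) ≤ C := by
        intro u hu x hx
        exact (hK _).2 (commutator_apply_of_isPGroup hφc P.1 P.2 (by omega) u hu x hx)
      have hQC : (Qφ : Subgroup G) ≤ C := by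
        intro y hy x hx
        rw [← commutator_inv]
        exact K.inv_mem (hQφ x hx y hy)
      have hCtop : C = ⊤ := by
        by_contra hne
        rcases hNS C hne with h | h
        · exact P.not_dvd_index (h.trans (Subgroup.index_dvd_of_le hPC))
        · exact Qφ.not_dvd_index (h.trans (Subgroup.index_dvd_of_le hQC))
      intro g x hx
      have hg : g ∈ C := by rw [hCtop]; trivial
      exact (hK _).1 (hg x hx)
    obtain ⟨Q⟩ : Nonempty (Sylow q G) := inferInstance
    refine ⟨Q, ?_⟩
    intro x hx y _ φ hφ hd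
    have hφc := isCharacter_of_irr hφ
    obtain ⟨K, hKn, hK⟩ := exists_normal_ker hφc
    have h1 : y * x * y⁻¹ * x⁻¹ ∈ K := (hK _).2 (claim φ hφ hd y x hx)
    have h2 := K.inv_mem h1
    rw [commutator_inv] at h2
    exact (hK _).1 h2

end

end Cfsg.Agent.Lib.Helper8.BLH
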