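import Mathlib
import Cfsg.Agent.Lib.Helper8.BLH8

set_option autoImplicit false

namespace Cfsg.Agent.Lib.Helper8.BLH

open scoped ComplexConjugate
open Cfsg Cfsg.Agent.Lib.Helper1 Cfsg.Agent.Lib.Helper4 Cfsg.Agent.Lib.Helper8

universe u

section

/-- The subgroup of central elements whose order involves only primes `> m`. -/
def bigCenter (G : Type u) [Group G] (m : ℕ) : Subgroup G where
  carrier := {z | z ∈ Subgroup.center G ∧ ∀ r : ℕ, r.Prime → r ∣ orderOf z → m < r}
  one_mem' := by
    refine ⟨Subgroup.one_mem _, ?_⟩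
    intro r hr hdvd
    rw [orderOf_one] at hdvd
    exact absurd (Nat.dvd_one.mp hdvd) hr.one_lt.ne'
  mul_mem' := by
    intro z w hz hw
    refine ⟨Subgroup.mul_mem _ hz.1 hw.1, ?_⟩
    intro r hr hdvd
    have hcomm : Commute z w := by
      have := Subgroup.mem_center_iff.mp hw.1 z
      exact this
    have h1 : r ∣ Nat.lcm (orderOf z) (orderOf w) := hdvd.trans hcomm.orderOf_mul_dvd_lcm
    have h2 : r ∣ orderOf z * orderOf w := h1.trans (Nat.lcm_dvd_mul _ _)
    rcases (Nat.Prime.dvd_mul hr).mp h2 with h | h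
    · exact hz.2 r hr h
    · exact hw.2 r hr h
  inv_mem' := by
    intro z hz
    refine ⟨Subgroup.inv_mem _ hz.1, ?_⟩
    intro r hr hdvd
    rw [orderOf_inv] at hdvd
    exact hz.2 r hr hdvd

theorem mem_bigCenter {G : Type u} [Group G] {m : ℕ} {z : G} :
    z ∈ bigCenter G m ↔ z ∈ Subgroup.center G ∧ ∀ r : ℕ, r.Prime → r ∣ orderOf z → m < r :=
  Iff.rfl

/-- **Blichfeldt**: a finite linear group of degree `n` has an abelian Hall `π`-subgroup, `π` the
set of primes greater than `n + 1`. -/
theorem exists_abelian_hall :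
    ∀ (N : ℕ) (G : Type u) [Group G] [Finite G], Nat.card G = N →
      ∀ (χ : G → ℂ), IsCharacter G χ → (∀ g : G, χ g = χ 1 → g = 1) → ∀ n : ℕ, charDegree χ = n →
      ∃ A : Subgroup G, (∀ x ∈ A, ∀ y ∈ A, x * y = y * x) ∧
        (∀ q : ℕ, q.Prime → q ∣ Nat.card A → n + 1 < q) ∧
        ∀ q : ℕ, q.Prime → q ∣ A.index → q ≤ n + 1 := by
  intro N
  induction N using Nat.strong_induction_on with
  | _ N ih =>
  intro G _ _ hN χ hχ hfaith n hn
  classical
  by_cases hcen : ∀ r : ℕ, r.Prime → n + 1 < r → ∀ x : G, (∃ k : ℕ, orderOf x = r ^ k) →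
      x ∈ Subgroup.center G
  · refine ⟨bigCenter G (n + 1), ?_, ?_, ?_⟩
    · intro x hx y _
      exact (Subgroup.mem_center_iff.mp hx.1 y).symm
    · intro q hq hdvd
      haveI : Fact q.Prime := ⟨hq⟩
      obtain ⟨x, hx⟩ := exists_prime_orderOf_dvd_card' q hdvd
      have h1 : orderOf (x : G) = q := by rw [Subgroup.orderOf_coe, hx]
      exact x.2.2 q hq (by rw [h1])
    · intro q hq hdvd
      by_contra hlt
      push Not at hlt
      haveI : Fact q.Prime := ⟨hq⟩
      obtain ⟨P⟩ : Nonempty (Sylow q G) := inferInstance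
      have hPA : (P : Subgroup G) ≤ bigCenter G (n + 1) := by
        intro z hz
        obtain ⟨k, hk⟩ := (IsPGroup.iff_orderOf.mp P.2) ⟨z, hz⟩
        rw [Subgroup.orderOf_mk] at hk
        refine ⟨hcen q hq hlt z ⟨k, hk⟩, ?_⟩
        intro r hr hdvd'
        rw [hk] at hdvd'
        have := (Nat.prime_dvd_prime_iff_eq hr hq).mp (hr.dvd_of_dvd_pow hdvd')
        rw [this]
        exact hlt
      exact P.not_dvd_index (hdvd.trans (Subgroup.index_dvd_of_le hPA))
  · push Not at hcen
    obtain ⟨r, hr, hnr, x0, ⟨k0, hk0⟩, hx0⟩ := hcen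
    haveI : Fact r.Prime := ⟨hr⟩
    have hC : Subgroup.centralizer ({x0} : Set G) ≠ ⊤ := by
      intro h
      apply hx0
      rw [Subgroup.mem_center_iff]
      intro g
      have hg : g ∈ Subgroup.centralizer ({x0} : Set G) := by rw [h]; trivial
      rw [Subgroup.mem_centralizer_iff] at hg
      exact (hg x0 rfl).symm
    set C := Subgroup.centralizer ({x0} : Set G) with hCdef
    have hlt : Nat.card C < N := hN ▸ card_lt_of_ne_top hC
    have hresχ : IsCharacter C (fun c : C => χ c) := Cfsg.Agent.S0148.isCharacter_restrict C hχ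
    have hdeg : charDegree (fun c : C => χ c) = n := by
      rw [← hn]
      unfold charDegree
      rfl
    have hfaithC : ∀ c : C, (fun c : C => χ c) c = (fun c : C => χ c) 1 → c = 1 := by
      intro c hc
      apply Subtype.ext
      exact hfaith _ hc
    obtain ⟨AC, hab, hcard, hidx⟩ := ih _ hlt C rfl _ hresχ hfaithC n hdeg
    refine ⟨AC.map C.subtype, ?_, ?_, ?_⟩
    · rintro _ ⟨x, hx, rfl⟩ _ ⟨y, hy, rfl⟩
      have := hab x hx y hy
      simpa using congrArg Subtype.val this
    · intro q hq hdvd
      rw [Subgroup.card_map_of_injective C.subtype_injective] at hdvd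
      exact hcard q hq hdvd
    · intro q hq hdvd
      rw [Subgroup.index_map_subtype] at hdvd
      rcases (Nat.Prime.dvd_mul hq).mp hdvd with h | h
      · exact hidx q hq h
      · by_contra hlt'
        push Not at hlt'
        haveI : Fact q.Prime := ⟨hq⟩
        -- a Sylow r-subgroup containing x0
        have hpg : IsPGroup r (Subgroup.zpowers x0) :=
          IsPGroup.of_card (n := k0) (by rw [Nat.card_zpowers, hk0])
        obtain ⟨P, hP⟩ := hpg.exists_le_sylow
        have hx0P : x0 ∈ P := hP (Subgroup.mem_zpowers x0)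
        have hcommAll : ∀ (s : ℕ) [Fact s.Prime], n + 1 < s → ∀ S : Sylow s G,
            ∀ x ∈ S, ∀ y ∈ S, x * y = y * x := by
          intro s hs hns S x hx y hy
          exact comm_of_commutator_eq_one
            (hfaith _ (commutator_apply_of_isPGroup hχ S.1 S.2 (by omega) x hx y hy))
        by_cases hqr : q = r
        · subst hqr
          have hPC : (P : Subgroup G) ≤ C := by
            intro u hu
            rw [hCdef, Subgroup.mem_centralizer_iff]
            intro h' hh
            rw [Set.mem_singleton_iff] at hh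
            subst hh
            exact hcommAll q hlt' P _ hx0P u hu
          exact P.not_dvd_index (h.trans (Subgroup.index_dvd_of_le hPC))
        · obtain ⟨Q, hQ⟩ := sylow_comm_mod_smallKer n r q hnr hlt' (Nat.card G) G rfl P
          have hQC : (Q : Subgroup G) ≤ C := by
            intro y hy
            rw [hCdef, Subgroup.mem_centralizer_iff]
            intro h' hh
            rw [Set.mem_singleton_iff] at hh
            subst hh
            have h1 := hQ _ hx0P y hy
            have h2 := apply_eq_of_mem_smallKer hχ hn.le h1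
            exact comm_of_commutator_eq_one (hfaith _ h2)
          exact Q.not_dvd_index (h.trans (Subgroup.index_dvd_of_le hQC))

end

end Cfsg.Agent.Lib.Helper8.BLH
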