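import Mathlib
import Cfsg.Agent.Lib.Helper8.BLH1
import Cfsg.Agent.Lib.Helper8.BLH5
import Cfsg.Agent.Lib.Helper1.IndFun
import Cfsg.Agent.S0176

set_option autoImplicit false

namespace Cfsg.Agent.Lib.Helper8.BLH

open scoped ComplexConjugate
open Cfsg Cfsg.Agent.Lib.Helper1 Cfsg.Agent.Lib.Helper4 Cfsg.Agent.Lib.Helper8

universe u

section

variable {P : Type u} [Group P] [Fintype P]

/-- Value at `1` of an induced linear character. -/
theorem indFun_hom_apply_one (H : Subgroup P) (lam : H →* ℂˣ) :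
    indFun H (fun h => (lam h : ℂ)) 1 = (H.index : ℂ) := by
  rw [indFun_apply]
  have h1 : ∀ x : P, extendByZero H (fun h => (lam h : ℂ)) (x⁻¹ * 1 * x) = 1 := by
    intro x
    have : x⁻¹ * 1 * x = ((1 : H) : P) := by simp
    rw [this, extendByZero_coe]
    simp
  rw [Finset.sum_congr rfl (fun x _ => h1 x)]
  simp only [Finset.sum_const, Finset.card_univ, nsmul_eq_mul, mul_one]
  have h2 : (Fintype.card P : ℂ) = (Nat.card H : ℂ) * (H.index : ℂ) := by
    rw [← Nat.cast_mul, Subgroup.card_mul_index, Nat.card_eq_fintype_card]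
  have h3 : (Nat.card H : ℂ) ≠ 0 := Nat.cast_ne_zero.mpr Nat.card_pos.ne'
  rw [h2, ← mul_assoc, inv_mul_cancel₀ h3, one_mul]

/-- An induced linear character takes its degree value on commutators of elements all of whose
conjugates lie in the inducing subgroup. -/
theorem indFun_hom_apply_commutator (H : Subgroup P) (lam : H →* ℂˣ) {a b : P}
    (ha : ∀ g : P, g⁻¹ * a * g ∈ H) (hb : ∀ g : P, g⁻¹ * b * g ∈ H) :
    indFun H (fun h => (lam h : ℂ)) (a * b * a⁻¹ * b⁻¹)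
      = indFun H (fun h => (lam h : ℂ)) 1 := by
  rw [indFun_apply, indFun_apply]
  congr 1
  apply Finset.sum_congr rfl
  intro x _
  have e : x⁻¹ * (a * b * a⁻¹ * b⁻¹) * x
      = (((⟨x⁻¹ * a * x, ha x⟩ : H) * ⟨x⁻¹ * b * x, hb x⟩ * (⟨x⁻¹ * a * x, ha x⟩ : H)⁻¹ *
          (⟨x⁻¹ * b * x, hb x⟩ : H)⁻¹ : H) : P) := by
    simp only [Subgroup.coe_mul, Subgroup.coe_inv]
    group
  have e1 : x⁻¹ * 1 * x = ((1 : H) : P) := by simp
  rw [e, e1, extendByZero_coe, extendByZero_coe]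
  simp only [map_mul, map_inv, map_one]
  have : lam ⟨x⁻¹ * a * x, ha x⟩ * lam ⟨x⁻¹ * b * x, hb x⟩ * (lam ⟨x⁻¹ * a * x, ha x⟩)⁻¹ *
      (lam ⟨x⁻¹ * b * x, hb x⟩)⁻¹ = 1 := by
    rw [mul_comm (lam ⟨x⁻¹ * a * x, ha x⟩), mul_inv_cancel_right, mul_inv_cancel]
  rw [this]

/-- A finite nilpotent group with a faithful character of degree `n` has an abelian subgroup of
index dividing `n!`. -/
theorem exists_abelian_index_dvd_factorial [Group.IsNilpotent P] {θ : P → ℂ}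
    (hθ : IsCharacter P θ) (hfaith : ∀ g : P, θ g = θ 1 → g = 1) :
    ∃ B : Subgroup P, (∀ a ∈ B, ∀ b ∈ B, a * b = b * a) ∧
      B.index ∣ (charDegree θ).factorial := by
  classical
  haveI : Fintype (IrrCharacter P) := Fintype.ofFinite _
  obtain ⟨m, hm, hval, hdeg⟩ := exists_mult hθ
  have hM : ∀ ψ : IrrCharacter P, ∃ (H : Subgroup P) (lam : H →* ℂˣ),
      (ψ : P → ℂ) = indFun H (fun h => (lam h : ℂ)) :=
    fun ψ => Cfsg.Agent.S0176.result (ψ : P → ℂ) ψ.2
  choose H lam hind using hM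
  let Λ := {ψ : IrrCharacter P // m ψ ≠ 0}
  let Ω := Σ ψ : Λ, P ⧸ H ψ.1
  let f : P →* Equiv.Perm Ω := MulAction.toPermHom P Ω
  have hfix : ∀ u : P, u ∈ f.ker → ∀ ψ : IrrCharacter P, m ψ ≠ 0 → ∀ g : P,
      g⁻¹ * u * g ∈ H ψ := by
    intro u hu ψ h0 g
    have h1 : f u = 1 := MonoidHom.mem_ker.mp hu
    have h2 := congrArg (fun σ : Equiv.Perm Ω => σ ⟨⟨ψ, h0⟩, (g : P ⧸ H ψ)⟩) h1
    have h3 : (u • (⟨⟨ψ, h0⟩, (g : P ⧸ H ψ)⟩ : Ω)) = ⟨⟨ψ, h0⟩, (g : P ⧸ H ψ)⟩ := h2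
    rw [Sigma.smul_mk] at h3
    have h4 : u • (g : P ⧸ H ψ) = (g : P ⧸ H ψ) := by
      have := Sigma.mk.inj_iff.mp h3
      exact eq_of_heq this.2
    have h5 : ((u * g : P) : P ⧸ H ψ) = (g : P ⧸ H ψ) := h4
    rw [QuotientGroup.eq] at h5
    have h6 := (H ψ).inv_mem h5
    have e : ((u * g)⁻¹ * g)⁻¹ = g⁻¹ * u * g := by group
    rwa [e] at h6
  refine ⟨f.ker, ?_, ?_⟩
  · intro a ha b hb
    apply comm_of_commutator_eq_one
    apply hfaith
    rw [hval, hval 1]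
    apply Finset.sum_congr rfl
    intro ψ _
    by_cases h0 : m ψ = 0
    · rw [h0]; simp
    · congr 1
      rw [hind ψ]
      exact indFun_hom_apply_commutator (H ψ) (lam ψ) (hfix a ha ψ h0) (hfix b hb ψ h0)
  · have h1 : f.ker.index ∣ (Nat.card Ω).factorial := by
      rw [Subgroup.index_ker, ← Nat.card_perm]
      exact Subgroup.card_subgroup_dvd_card f.range
    refine h1.trans (Nat.factorial_dvd_factorial ?_)
    have hdegψ : ∀ ψ : IrrCharacter P, charDegree (ψ : P → ℂ) = (H ψ).index := by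
      intro ψ
      apply charDegree_of_apply_one
      rw [hind ψ]
      exact indFun_hom_apply_one (H ψ) (lam ψ)
    have h2 : Nat.card Ω = ∑ ψ : Λ, (H ψ.1).index := by
      rw [Nat.card_sigma]
      rfl
    rw [h2, hdeg]
    calc ∑ ψ : Λ, (H ψ.1).index
        = ∑ ψ ∈ (Finset.univ : Finset (IrrCharacter P)).filter (fun ψ => m ψ ≠ 0), (H ψ).index := by
          exact (Finset.sum_subtype ((Finset.univ : Finset (IrrCharacter P)).filter
            (fun ψ => m ψ ≠ 0)) (by simp) (fun ψ => (H ψ).index)).symm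
      _ ≤ ∑ ψ ∈ (Finset.univ : Finset (IrrCharacter P)).filter (fun ψ => m ψ ≠ 0),
            m ψ * charDegree (ψ : P → ℂ) := by
          apply Finset.sum_le_sum
          intro ψ hψ
          rw [Finset.mem_filter] at hψ
          rw [hdegψ ψ]
          exact Nat.le_mul_of_pos_left _ (Nat.pos_of_ne_zero hψ.2)
      _ ≤ ∑ ψ : IrrCharacter P, m ψ * charDegree (ψ : P → ℂ) :=
          Finset.sum_le_sum_of_subset (Finset.filter_subset _ _)

end

end Cfsg.Agent.Lib.Helper8.BLH
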