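import Mathlib
import Cfsg.Agent.Lib.Helper8.BLJ1
import Cfsg.Agent.Lib.Helper8.BLH9

set_option autoImplicit false

namespace Cfsg.Agent.Lib.Helper8.BLH

open scoped ComplexConjugate
open Cfsg Cfsg.Agent.Lib.Helper1 Cfsg.Agent.Lib.Helper4 Cfsg.Agent.Lib.Helper8

universe u

section arith

/-- A number all of whose prime factors lie in `S` is the product of its `p`-parts over `S`. -/
theorem eq_prod_ordProj {N : ℕ} (hN : N ≠ 0) (S : Finset ℕ)
    (hS : ∀ p : ℕ, p.Prime → p ∣ N → p ∈ S) : N = ∏ p ∈ S, ordProj[p] N := by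
  conv_lhs => rw [← Nat.prod_factorization_pow_eq_self hN]
  apply Finsupp.prod_of_support_subset
  · intro p hp
    rw [Nat.support_factorization] at hp
    exact hS p (Nat.prime_of_mem_primeFactors hp) (Nat.dvd_of_mem_primeFactors hp)
  · intro p _
    simp

/-- The `p`-part of a product `a * b` with `a` a power of `p` and `p ∤ b`. -/
theorem ordProj_mul_eq {p a b : ℕ} (hp : p.Prime) (ha : ∃ j : ℕ, a = p ^ j) (hb : ¬ p ∣ b)
    (hb0 : b ≠ 0) : ordProj[p] (a * b) = a := by
  obtain ⟨j, rfl⟩ := ha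
  have h1 : (p ^ j * b).factorization p = j := by
    rw [Nat.factorization_mul (pow_ne_zero _ hp.ne_zero) hb0]
    simp [hp.factorization_self, Nat.factorization_eq_zero_of_not_dvd hb]
  rw [h1]

end arith

section

variable {G : Type u} [Group G] [Finite G]

/-- The `p`-part of the index of a normal subgroup is its relative index in a Sylow subgroup. -/
theorem ordProj_index_eq_relIndex (A : Subgroup G) [A.Normal] {p : ℕ} [hp : Fact p.Prime]
    (P : Sylow p G) : ordProj[p] A.index = A.relIndex P := by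
  have h1 : A.relIndex ((P : Subgroup G) ⊔ A) * ((P : Subgroup G) ⊔ A).index = A.index :=
    Subgroup.relIndex_mul_index le_sup_right
  rw [Subgroup.relIndex_sup_right] at h1
  rw [← h1]
  apply ordProj_mul_eq hp.out
  · have h2 : A.relIndex P ∣ Nat.card P := Subgroup.index_dvd_card _
    obtain ⟨k, hk⟩ := IsPGroup.iff_card.mp P.2
    rw [hk] at h2
    obtain ⟨j, -, hj⟩ := (Nat.dvd_prime_pow hp.out).mp h2
    exact ⟨j, hj⟩
  · intro h
    exact P.not_dvd_index (h.trans (Subgroup.index_dvd_of_le le_sup_left))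
  · exact Subgroup.index_ne_zero_of_finite

/-- Relative index of a subgroup of a subgroup. -/
theorem relIndex_map_subtype (P : Subgroup G) (B : Subgroup P) :
    (B.map P.subtype).relIndex P = B.index := by
  unfold Subgroup.relIndex Subgroup.subgroupOf
  rw [Subgroup.comap_map_eq_self_of_injective P.subtype_injective]

/-- Bound on the relative index in a Sylow subgroup. -/
theorem relIndex_sylow_le {χ : G → ℂ} (hχ : IsCharacter G χ) (hfaith : ∀ g : G, χ g = χ 1 → g = 1)
    (n : ℕ) (hn : charDegree χ = n) (A : Subgroup G)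
    (hA : ∀ H : Subgroup G, (∀ x ∈ H, ∀ y ∈ H, x * y = y * x) → (A.subgroupOf H).index ≤ 12 ^ n)
    {p : ℕ} [hp : Fact p.Prime] (P : Sylow p G) :
    A.relIndex P ≤ ordProj[p] n.factorial * 12 ^ n := by
  classical
  haveI : Fintype (P : Subgroup G) := Fintype.ofFinite _
  haveI : Group.IsNilpotent (P : Subgroup G) := P.2.isNilpotent
  have hres : IsCharacter (P : Subgroup G) (fun z : (P : Subgroup G) => χ z) :=
    Cfsg.Agent.S0148.isCharacter_restrict (P : Subgroup G) hχ
  have hdeg : charDegree (fun z : (P : Subgroup G) => χ z) = n := by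
    rw [← hn]
    unfold charDegree
    rfl
  have hfaithP : ∀ c : (P : Subgroup G), (fun z : (P : Subgroup G) => χ z) c
      = (fun z : (P : Subgroup G) => χ z) 1 → c = 1 := by
    intro c hc
    apply Subtype.ext
    exact hfaith _ hc
  obtain ⟨B, hBab, hBidx⟩ := exists_abelian_index_dvd_factorial hres hfaithP
  rw [hdeg] at hBidx
  have hBle : B.index ≤ ordProj[p] n.factorial := by
    have h2 : B.index ∣ Nat.card (P : Subgroup G) := Subgroup.index_dvd_card _
    obtain ⟨k, hk⟩ := IsPGroup.iff_card.mp P.2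
    rw [hk] at h2
    obtain ⟨j, -, hj⟩ := (Nat.dvd_prime_pow hp.out).mp h2
    rw [hj] at hBidx ⊢
    have := (hp.out.pow_dvd_iff_dvd_ordProj (Nat.factorial_ne_zero n)).mp hBidx
    exact Nat.le_of_dvd (Nat.ordProj_pos _ _) this
  set B' : Subgroup G := B.map (P : Subgroup G).subtype with hB'
  have hB'P : B' ≤ P := by
    rintro _ ⟨b, -, rfl⟩
    exact b.2
  have hB'ab : ∀ x ∈ B', ∀ y ∈ B', x * y = y * x := by
    rintro _ ⟨x, hx, rfl⟩ _ ⟨y, hy, rfl⟩
    have := hBab x hx y hy
    simpa using congrArg Subtype.val this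
  have h12 : A.relIndex B' ≤ 12 ^ n := hA B' hB'ab
  have h3 : A.relIndex (B' ⊓ P) * B'.relIndex P = (A ⊓ B').relIndex P :=
    Subgroup.relIndex_inf_mul_relIndex A B' P
  rw [inf_of_le_left hB'P, relIndex_map_subtype] at h3
  have h4 : A.relIndex P ∣ (A ⊓ B').relIndex P :=
    Subgroup.relIndex_dvd_of_le_left (P : Subgroup G) inf_le_left
  rw [← h3] at h4
  have hpos : 0 < A.relIndex B' * B.index := by
    apply Nat.mul_pos
    · exact Nat.pos_of_ne_zero Subgroup.index_ne_zero_of_finite
    · exact Nat.pos_of_ne_zero Subgroup.index_ne_zero_of_finite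
  calc A.relIndex P ≤ A.relIndex B' * B.index := Nat.le_of_dvd hpos h4
    _ ≤ 12 ^ n * ordProj[p] n.factorial := Nat.mul_le_mul h12 hBle
    _ = ordProj[p] n.factorial * 12 ^ n := mul_comm _ _

/-- **Jordan's theorem**, explicit form (Blichfeldt's bound). -/
theorem jordan_bound {χ : G → ℂ} (hχ : IsCharacter G χ) (hfaith : ∀ g : G, χ g = χ 1 → g = 1)
    (n : ℕ) (hn : charDegree χ = n) (A : Subgroup G) [A.Normal]
    (hA : ∀ H : Subgroup G, (∀ x ∈ H, ∀ y ∈ H, x * y = y * x) → (A.subgroupOf H).index ≤ 12 ^ n) :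
    A.index ≤ n.factorial * 12 ^ (n * (Nat.primeCounting (n + 1) + 1)) := by
  classical
  obtain ⟨Hπ, hHab, hHcard, hHidx⟩ :=
    exists_abelian_hall (Nat.card G) G rfl χ hχ hfaith n hn
  have h1 : A.relIndex (Hπ ⊔ A) * (Hπ ⊔ A).index = A.index :=
    Subgroup.relIndex_mul_index le_sup_right
  rw [Subgroup.relIndex_sup_right] at h1
  set a' := A.relIndex Hπ with ha'
  set b' := (Hπ ⊔ A).index with hb'
  have ha12 : a' ≤ 12 ^ n := hA Hπ hHab
  have hb0 : b' ≠ 0 := Subgroup.index_ne_zero_of_finite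
  have ha0 : a' ≠ 0 := Subgroup.index_ne_zero_of_finite
  have ha_primes : ∀ p : ℕ, p.Prime → p ∣ a' → n + 1 < p := by
    intro p hp hdvd
    exact hHcard p hp (hdvd.trans (Subgroup.index_dvd_card _))
  have hb_primes : ∀ p : ℕ, p.Prime → p ∣ b' → p ≤ n + 1 := by
    intro p hp hdvd
    exact hHidx p hp (hdvd.trans (Subgroup.index_dvd_of_le le_sup_left))
  set S := Nat.primesLE (n + 1) with hS
  have hScard : S.card = Nat.primeCounting (n + 1) := Nat.primesLE_card_eq_primeCounting _
  have hb_eq : b' = ∏ p ∈ S, ordProj[p] b' := by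
    apply eq_prod_ordProj hb0
    intro p hp hdvd
    rw [hS, Nat.mem_primesLE]
    exact ⟨hb_primes p hp hdvd, hp⟩
  have hfac_eq : n.factorial = ∏ p ∈ S, ordProj[p] n.factorial := by
    apply eq_prod_ordProj (Nat.factorial_ne_zero n)
    intro p hp hdvd
    rw [hS, Nat.mem_primesLE]
    exact ⟨((hp.dvd_factorial).mp hdvd).trans (Nat.le_succ n), hp⟩
  have hterm : ∀ p ∈ S, ordProj[p] b' ≤ ordProj[p] n.factorial * 12 ^ n := by
    intro p hpS
    rw [hS, Nat.mem_primesLE] at hpS
    haveI : Fact p.Prime := ⟨hpS.2⟩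
    obtain ⟨P⟩ : Nonempty (Sylow p G) := inferInstance
    have hpa : ¬ p ∣ a' := by
      intro h
      have := ha_primes p hpS.2 h
      omega
    have e1 : ordProj[p] b' = ordProj[p] A.index := by
      rw [← h1]
      have : (a' * b').factorization p = b'.factorization p := by
        rw [Nat.factorization_mul ha0 hb0]
        simp [Nat.factorization_eq_zero_of_not_dvd hpa]
      rw [this]
    rw [e1, ordProj_index_eq_relIndex A P]
    exact relIndex_sylow_le hχ hfaith n hn A hA P
  have hb_le : b' ≤ n.factorial * 12 ^ (n * Nat.primeCounting (n + 1)) := by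
    calc b' = ∏ p ∈ S, ordProj[p] b' := hb_eq
      _ ≤ ∏ p ∈ S, (ordProj[p] n.factorial * 12 ^ n) := Finset.prod_le_prod' hterm
      _ = (∏ p ∈ S, ordProj[p] n.factorial) * (12 ^ n) ^ S.card := by
          rw [Finset.prod_mul_distrib, Finset.prod_const]
      _ = n.factorial * 12 ^ (n * Nat.primeCounting (n + 1)) := by
          rw [← hfac_eq, hScard, ← pow_mul]
  calc A.index = a' * b' := h1.symm
    _ ≤ 12 ^ n * (n.factorial * 12 ^ (n * Nat.primeCounting (n + 1))) := Nat.mul_le_mul ha12 hb_le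
    _ = n.factorial * 12 ^ (n * (Nat.primeCounting (n + 1) + 1)) := by
        rw [mul_add, mul_one, pow_add]
        ring

end

end Cfsg.Agent.Lib.Helper8.BLH
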