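import Mathlib

set_option autoImplicit false

/-!
# Burnside's table-of-marks lemma

Two finite `H`-sets in which every subgroup of `H` has the same number of fixed points are
isomorphic as `H`-sets.
-/

namespace Cfsg.Agent.Lib.Helper8.BM

open MulAction

/-- A subset of an `H`-set is invariant. -/
def Inv (H : Type*) [Group H] {Y : Type*} [MulAction H Y] (A : Set Y) : Prop :=
  ∀ (h : H) (y : Y), y ∈ A → h • y ∈ A

theorem smul_eq_iff_of_stab_eq {H : Type*} [Group H] {Y₁ Y₂ : Type*} [MulAction H Y₁]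
    [MulAction H Y₂] {y₁ : Y₁} {y₂ : Y₂} (hst : stabilizer H y₁ = stabilizer H y₂) (g g' : H) :
    g • y₁ = g' • y₁ ↔ g • y₂ = g' • y₂ := by
  have h1 : g • y₁ = g' • y₁ ↔ g'⁻¹ * g ∈ stabilizer H y₁ := by
    rw [mem_stabilizer_iff, mul_smul, inv_smul_eq_iff]
  have h2 : g • y₂ = g' • y₂ ↔ g'⁻¹ * g ∈ stabilizer H y₂ := by
    rw [mem_stabilizer_iff, mul_smul, inv_smul_eq_iff]
  rw [h1, h2, hst]

theorem fixed_iff_of_stab_eq {H : Type*} [Group H] {Y₁ Y₂ : Type*} [MulAction H Y₁]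
    [MulAction H Y₂] {y₁ : Y₁} {y₂ : Y₂} (hst : stabilizer H y₁ = stabilizer H y₂)
    (K : Subgroup H) (g : H) :
    g • y₁ ∈ fixedPoints K Y₁ ↔ g • y₂ ∈ fixedPoints K Y₂ := by
  simp only [mem_fixedPoints]
  constructor
  · intro h k
    have := h k
    change (k : H) • g • y₁ = g • y₁ at this
    change (k : H) • g • y₂ = g • y₂
    rw [← mul_smul] at this ⊢
    exact (smul_eq_iff_of_stab_eq hst _ _).mp this
  · intro h k
    have := h k
    change (k : H) • g • y₂ = g • y₂ at this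
    change (k : H) • g • y₁ = g • y₁
    rw [← mul_smul] at this ⊢
    exact (smul_eq_iff_of_stab_eq hst _ _).mpr this

theorem fixedPoints_bot {H : Type*} [Group H] (Y : Type*) [MulAction H Y] :
    fixedPoints (⊥ : Subgroup H) Y = Set.univ := by
  ext y
  simp only [mem_fixedPoints, Set.mem_univ, iff_true]
  rintro ⟨k, hk⟩
  rw [Subgroup.mem_bot] at hk
  subst hk
  exact one_smul _ _

open Classical in
theorem marks_bijOn {H : Type*} [Group H] [Finite H] {Y₁ Y₂ : Type*} [Finite Y₁] [Finite Y₂]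
    [Nonempty Y₂] [MulAction H Y₁] [MulAction H Y₂] :
    ∀ (n : ℕ) (A₁ : Set Y₁) (A₂ : Set Y₂), Inv H A₁ → Inv H A₂ → A₁.ncard = n →
      (∀ K : Subgroup H, (fixedPoints K Y₁ ∩ A₁).ncard = (fixedPoints K Y₂ ∩ A₂).ncard) →
      ∃ f : Y₁ → Y₂, Set.BijOn f A₁ A₂ ∧ ∀ y ∈ A₁, ∀ h : H, f (h • y) = h • f y := by
  intro n
  induction n using Nat.strong_induction_on with
  | _ n ih =>
  intro A₁ A₂ h₁ h₂ hn hm
  by_cases hA : A₁ = ∅
  · subst hA
    have hA₂ : A₂ = ∅ := by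
      have h0 := hm ⊥
      rw [Set.inter_empty, Set.ncard_empty, fixedPoints_bot, Set.univ_inter] at h0
      exact (Set.ncard_eq_zero (Set.toFinite _)).mp h0.symm
    refine ⟨fun _ => Classical.arbitrary Y₂, ?_, ?_⟩
    · rw [hA₂]; exact Set.bijOn_empty _
    · intro y hy; exact absurd hy (Set.notMem_empty _)
  · obtain ⟨y₁, hy₁, hmax⟩ := Set.exists_max_image A₁ (fun y => Nat.card (stabilizer H y))
      (Set.toFinite _) (Set.nonempty_iff_ne_empty.mpr hA)
    have hy₁K : y₁ ∈ fixedPoints (stabilizer H y₁) Y₁ ∩ A₁ :=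
      ⟨fun k => k.2, hy₁⟩
    have hpos : 0 < (fixedPoints (stabilizer H y₁) Y₂ ∩ A₂).ncard := by
      rw [← hm]; exact (Set.ncard_pos (Set.toFinite _)).mpr ⟨y₁, hy₁K⟩
    obtain ⟨y₂, hy₂K, hy₂⟩ := (Set.ncard_pos (Set.toFinite _)).mp hpos
    have hKle : stabilizer H y₁ ≤ stabilizer H y₂ := fun k hk => hy₂K ⟨k, hk⟩
    have hpos' : 0 < (fixedPoints (stabilizer H y₂) Y₁ ∩ A₁).ncard := by
      rw [hm]; exact (Set.ncard_pos (Set.toFinite _)).mpr ⟨y₂, fun k => k.2, hy₂⟩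
    obtain ⟨y₁', hy₁'K, hy₁'⟩ := (Set.ncard_pos (Set.toFinite _)).mp hpos'
    have hle' : stabilizer H y₂ ≤ stabilizer H y₁' := fun k hk => hy₁'K ⟨k, hk⟩
    have hcard : Nat.card (stabilizer H y₁') ≤ Nat.card (stabilizer H y₁) := hmax y₁' hy₁'
    have hst : stabilizer H y₁ = stabilizer H y₂ :=
      Subgroup.eq_of_le_of_card_ge hKle (le_trans (Subgroup.card_le_of_le hle') hcard)
    -- the orbit map
    let fO : Y₁ → Y₂ := fun y =>
      if hy : y ∈ orbit H y₁ then (mem_orbit_iff.mp hy).choose • y₂ else y₂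
    have hfO : ∀ h : H, fO (h • y₁) = h • y₂ := by
      intro h
      have hy : h • y₁ ∈ orbit H y₁ := mem_orbit _ _
      simp only [fO, dif_pos hy]
      exact (smul_eq_iff_of_stab_eq hst _ _).mp (mem_orbit_iff.mp hy).choose_spec
    have hO₁ : orbit H y₁ ⊆ A₁ := by
      rintro _ ⟨h, rfl⟩; exact h₁ h y₁ hy₁
    have hO₂ : orbit H y₂ ⊆ A₂ := by
      rintro _ ⟨h, rfl⟩; exact h₂ h y₂ hy₂
    have hinv₁ : Inv H (A₁ \ orbit H y₁) := by
      intro h y ⟨hyA, hyO⟩
      refine ⟨h₁ h y hyA, fun hc => hyO ?_⟩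
      obtain ⟨g, hg⟩ := hc
      refine ⟨h⁻¹ * g, ?_⟩
      change (h⁻¹ * g) • y₁ = y
      rw [mul_smul, inv_smul_eq_iff]; exact hg
    have hinv₂ : Inv H (A₂ \ orbit H y₂) := by
      intro h y ⟨hyA, hyO⟩
      refine ⟨h₂ h y hyA, fun hc => hyO ?_⟩
      obtain ⟨g, hg⟩ := hc
      refine ⟨h⁻¹ * g, ?_⟩
      change (h⁻¹ * g) • y₂ = y
      rw [mul_smul, inv_smul_eq_iff]; exact hg
    have hlt : (A₁ \ orbit H y₁).ncard < n := by
      rw [← hn]
      apply Set.ncard_lt_ncard _ (Set.toFinite _)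
      refine ⟨Set.sdiff_subset, fun hc => ?_⟩
      exact (hc hy₁).2 (mem_orbit_self _)
    have hbijO : ∀ K : Subgroup H,
        Set.BijOn fO (fixedPoints K Y₁ ∩ orbit H y₁) (fixedPoints K Y₂ ∩ orbit H y₂) := by
      intro K
      refine ⟨?_, ?_, ?_⟩
      · rintro _ ⟨hf, ⟨h, rfl⟩⟩
        change fO (h • y₁) ∈ _
        rw [hfO]
        exact ⟨(fixed_iff_of_stab_eq hst K h).mp hf, mem_orbit _ _⟩
      · rintro _ ⟨_, ⟨h, rfl⟩⟩ _ ⟨_, ⟨h', rfl⟩⟩ he
        change fO (h • y₁) = fO (h' • y₁) at he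
        rw [hfO, hfO] at he
        exact (smul_eq_iff_of_stab_eq hst _ _).mpr he
      · rintro _ ⟨hf, ⟨h, rfl⟩⟩
        refine ⟨h • y₁, ⟨(fixed_iff_of_stab_eq hst K h).mpr hf, mem_orbit _ _⟩, hfO h⟩
    have hm' : ∀ K : Subgroup H, (fixedPoints K Y₁ ∩ (A₁ \ orbit H y₁)).ncard =
        (fixedPoints K Y₂ ∩ (A₂ \ orbit H y₂)).ncard := by
      intro K
      have e1 : fixedPoints K Y₁ ∩ (A₁ \ orbit H y₁) =
          (fixedPoints K Y₁ ∩ A₁) \ (fixedPoints K Y₁ ∩ orbit H y₁) := by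
        ext y; simp only [Set.mem_inter_iff, Set.mem_sdiff]; tauto
      have e2 : fixedPoints K Y₂ ∩ (A₂ \ orbit H y₂) =
          (fixedPoints K Y₂ ∩ A₂) \ (fixedPoints K Y₂ ∩ orbit H y₂) := by
        ext y; simp only [Set.mem_inter_iff, Set.mem_sdiff]; tauto
      rw [e1, e2, Set.ncard_sdiff (Set.inter_subset_inter_right _ hO₁) (Set.toFinite _),
        Set.ncard_sdiff (Set.inter_subset_inter_right _ hO₂) (Set.toFinite _), hm K,
        (hbijO K).ncard_eq]
    obtain ⟨f', hf'bij, hf'eq⟩ := ih _ hlt (A₁ \ orbit H y₁) (A₂ \ orbit H y₂) hinv₁ hinv₂ rfl hm'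
    refine ⟨fun y => if y ∈ orbit H y₁ then fO y else f' y, ⟨?_, ?_, ?_⟩, ?_⟩
    · intro y hy
      by_cases hyO : y ∈ orbit H y₁
      · simp only [if_pos hyO]
        obtain ⟨h, rfl⟩ := hyO
        change fO (h • y₁) ∈ A₂
        rw [hfO]; exact h₂ h y₂ hy₂
      · simp only [if_neg hyO]
        exact (hf'bij.mapsTo ⟨hy, hyO⟩).1
    · intro y hy z hz he
      by_cases hyO : y ∈ orbit H y₁ <;> by_cases hzO : z ∈ orbit H y₁
      · simp only [if_pos hyO, if_pos hzO] at he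
        obtain ⟨h, rfl⟩ := hyO
        obtain ⟨h', rfl⟩ := hzO
        change fO (h • y₁) = fO (h' • y₁) at he
        rw [hfO, hfO] at he
        exact (smul_eq_iff_of_stab_eq hst _ _).mpr he
      · simp only [if_pos hyO, if_neg hzO] at he
        exfalso
        obtain ⟨h, rfl⟩ := hyO
        change fO (h • y₁) = f' z at he
        rw [hfO] at he
        exact (hf'bij.mapsTo ⟨hz, hzO⟩).2 (he ▸ mem_orbit _ _)
      · simp only [if_neg hyO, if_pos hzO] at he
        exfalso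
        obtain ⟨h, rfl⟩ := hzO
        change f' y = fO (h • y₁) at he
        rw [hfO] at he
        exact (hf'bij.mapsTo ⟨hy, hyO⟩).2 (he ▸ mem_orbit _ _)
      · simp only [if_neg hyO, if_neg hzO] at he
        exact hf'bij.injOn ⟨hy, hyO⟩ ⟨hz, hzO⟩ he
    · intro w hw
      by_cases hwO : w ∈ orbit H y₂
      · obtain ⟨h, rfl⟩ := hwO
        refine ⟨h • y₁, hO₁ (mem_orbit _ _), ?_⟩
        simp only [if_pos (mem_orbit y₁ h)]
        exact hfO h
      · obtain ⟨z, hz, hzw⟩ := hf'bij.surjOn ⟨hw, hwO⟩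
        refine ⟨z, hz.1, ?_⟩
        simp only [if_neg hz.2]
        exact hzw
    · intro y hy h
      by_cases hyO : y ∈ orbit H y₁
      · obtain ⟨g, rfl⟩ := hyO
        change (if h • g • y₁ ∈ orbit H y₁ then fO (h • g • y₁) else f' (h • g • y₁)) =
          h • (if g • y₁ ∈ orbit H y₁ then fO (g • y₁) else f' (g • y₁))
        rw [if_pos (mem_orbit y₁ g), ← mul_smul, if_pos (mem_orbit y₁ (h * g)), hfO, hfO, mul_smul]
      · have hyO' : h • y ∉ orbit H y₁ := (hinv₁ h y ⟨hy, hyO⟩).2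
        simp only [if_neg hyO, if_neg hyO']
        exact hf'eq y ⟨hy, hyO⟩ h

/-- **Burnside's lemma on marks**: two finite `H`-sets with the same numbers of fixed points for all
subgroups are isomorphic. -/
theorem exists_equivariant_equiv {H : Type*} [Group H] [Finite H] {Y₁ Y₂ : Type*} [Finite Y₁]
    [Finite Y₂] [MulAction H Y₁] [MulAction H Y₂]
    (hm : ∀ K : Subgroup H, (fixedPoints K Y₁).ncard = (fixedPoints K Y₂).ncard) :
    ∃ e : Y₁ ≃ Y₂, ∀ (h : H) (y : Y₁), e (h • y) = h • e y := by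
  have hcard : Nat.card Y₁ = Nat.card Y₂ := by
    have h0 := hm ⊥
    rw [fixedPoints_bot, fixedPoints_bot, Set.ncard_univ, Set.ncard_univ] at h0
    exact h0
  by_cases hne : Nonempty Y₂
  · obtain ⟨f, hbij, heq⟩ := marks_bijOn (H := H) (Y₁ := Y₁) (Y₂ := Y₂) _ Set.univ Set.univ
      (fun _ _ _ => Set.mem_univ _) (fun _ _ _ => Set.mem_univ _) rfl
      (by intro K; rw [Set.inter_univ, Set.inter_univ]; exact hm K)
    have hb : Function.Bijective f := by
      refine ⟨fun a b hab => hbij.injOn (Set.mem_univ _) (Set.mem_univ _) hab, fun w => ?_⟩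
      obtain ⟨z, _, hz⟩ := hbij.surjOn (Set.mem_univ w)
      exact ⟨z, hz⟩
    exact ⟨Equiv.ofBijective f hb, fun h y => heq y (Set.mem_univ _) h⟩
  · have hE₂ : IsEmpty Y₂ := not_nonempty_iff.mp hne
    have hE₁ : IsEmpty Y₁ := by
      rw [← Finite.card_eq_zero_iff (α := Y₁), hcard]  
      exact Finite.card_eq_zero_iff.mpr hE₂
    exact ⟨Equiv.equivOfIsEmpty _ _, fun h y => isEmptyElim y⟩

/-- Type synonym: `X` with the action of `A` through `ρ`. -/
def ActOn {A X : Type*} [Group A] (_ρ : A →* Equiv.Perm X) : Type _ := X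

instance instMulActionActOn {A X : Type*} [Group A] (ρ : A →* Equiv.Perm X) :
    MulAction A (ActOn ρ) := MulAction.compHom X ρ

instance instFiniteActOn {A X : Type*} [Group A] [Finite X] (ρ : A →* Equiv.Perm X) :
    Finite (ActOn ρ) := inferInstanceAs (Finite X)

theorem actOn_smul {A X : Type*} [Group A] (ρ : A →* Equiv.Perm X) (a : A) (x : ActOn ρ) :
    a • x = (ρ a (x : X) : X) := rfl

/-- Permutation form of Burnside's lemma: two actions of `A` on the same finite set with the same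
marks are intertwined by a permutation. -/
theorem exists_perm_intertwining {A X : Type*} [Group A] [Finite A] [Finite X]
    (ρ₁ ρ₂ : A →* Equiv.Perm X)
    (hm : ∀ B : Subgroup A, {x : X | ∀ b ∈ B, ρ₁ b x = x}.ncard = {x : X | ∀ b ∈ B, ρ₂ b x = x}.ncard) :
    ∃ e : Equiv.Perm X, ∀ (a : A) (x : X), e (ρ₁ a x) = ρ₂ a (e x) := by
  have key : ∀ (ρ : A →* Equiv.Perm X) (B : Subgroup A),
      (fixedPoints B (ActOn ρ) : Set X) = {x : X | ∀ b ∈ B, ρ b x = x} := by
    intro ρ B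
    ext x
    constructor
    · intro hx b hb
      exact hx ⟨b, hb⟩
    · intro hx b
      exact hx b.1 b.2
  obtain ⟨e, he⟩ := exists_equivariant_equiv (H := A) (Y₁ := ActOn ρ₁) (Y₂ := ActOn ρ₂) (by
    intro B
    have h1 := key ρ₁ B
    have h2 := key ρ₂ B
    have := hm B
    rw [← h1, ← h2] at this
    exact this)
  exact ⟨e, fun a x => he a x⟩

end Cfsg.Agent.Lib.Helper8.BM
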