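import Mathlib

set_option autoImplicit false

/-!
# Weights with prescribed upper sums on a family of subgroups
-/

namespace Cfsg.Agent.Lib.Helper8.BM

theorem card_lt_of_lt {G : Type*} [Group G] [Finite G] {H K : Subgroup G} (h : H < K) :
    Nat.card H < Nat.card K := by
  by_contra hc
  push Not at hc
  exact h.ne (Subgroup.eq_of_le_of_card_ge h.le hc)

open Classical in
/-- For a family `𝒯` of subgroups of a finite group `H` and `L` at least the number of subgroups,
there are natural weights `μ` supported on `𝒯` with `∑_{K' ≥ K} μ K' = L ^ (|H| - |K|)` for all `K ∈ 𝒯`. -/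
theorem exists_mu {H : Type*} [Group H] [Finite H] (𝒯 : Set (Subgroup H)) (L : ℕ)
    (hL : Nat.card (Subgroup H) ≤ L) :
    letI : Fintype (Subgroup H) := Fintype.ofFinite _
    ∃ μ : Subgroup H → ℕ, (∀ K, μ K ≠ 0 → K ∈ 𝒯) ∧
      ∀ K ∈ 𝒯, ∑ K' ∈ Finset.univ.filter (fun K' => K ≤ K'), μ K' =
        L ^ (Nat.card H - Nat.card K) := by
  let _ : Fintype (Subgroup H) := Fintype.ofFinite _
  have hL1 : 0 < L := lt_of_lt_of_le (Nat.card_pos) hL
  have hfc : Fintype.card (Subgroup H) ≤ L := by rwa [← Nat.card_eq_fintype_card]
  set c : Subgroup H → ℕ := fun K => L ^ (Nat.card H - Nat.card K) with hc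
  have key : ∀ j : ℕ, ∃ μ : Subgroup H → ℕ,
      (∀ K, μ K ≠ 0 → K ∈ 𝒯 ∧ Nat.card H < Nat.card K + j) ∧ (∀ K, μ K ≤ c K) ∧
      ∀ K ∈ 𝒯, Nat.card H < Nat.card K + j →
        ∑ K' ∈ Finset.univ.filter (fun K' => K ≤ K'), μ K' = c K := by
    intro j
    induction j with
    | zero =>
      refine ⟨fun _ => 0, fun K h => absurd rfl h, fun K => Nat.zero_le _, fun K _ h => ?_⟩
      exact absurd h (by have := Subgroup.card_le_card_group K; omega)
    | succ j ih =>
      obtain ⟨μ, hsupp, hbd, hsum⟩ := ih
      refine ⟨fun K => if K ∈ 𝒯 ∧ Nat.card K + j = Nat.card H then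
          c K - ∑ K' ∈ Finset.univ.filter (fun K' => K < K'), μ K' else μ K, ?_, ?_, ?_⟩
      · intro K hK
        by_cases hcond : K ∈ 𝒯 ∧ Nat.card K + j = Nat.card H
        · exact ⟨hcond.1, by omega⟩
        · simp only [if_neg hcond] at hK
          obtain ⟨h1, h2⟩ := hsupp K hK
          exact ⟨h1, by omega⟩
      · intro K
        by_cases hcond : K ∈ 𝒯 ∧ Nat.card K + j = Nat.card H
        · simp only [if_pos hcond]; exact Nat.sub_le _ _
        · simp only [if_neg hcond]; exact hbd K
      · intro K hK hlt
        -- above K nothing changes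
        have habove : ∀ K', K < K' → (if K' ∈ 𝒯 ∧ Nat.card K' + j = Nat.card H then
            c K' - ∑ K'' ∈ Finset.univ.filter (fun K'' => K' < K''), μ K'' else μ K') = μ K' := by
          intro K' hKK'
          have := card_lt_of_lt hKK'
          rw [if_neg]
          rintro ⟨_, h2⟩
          omega
        by_cases hlev : Nat.card K + j = Nat.card H
        · -- new level
          have hsplit : Finset.univ.filter (fun K' => K ≤ K') =
              insert K (Finset.univ.filter (fun K' => K < K')) := by
            ext K'
            simp only [Finset.mem_filter, Finset.mem_univ, true_and, Finset.mem_insert]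
            constructor
            · intro h
              rcases eq_or_lt_of_le h with h | h
              · exact Or.inl h.symm
              · exact Or.inr h
            · rintro (h | h)
              · exact h ▸ le_refl _
              · exact h.le
          rw [hsplit, Finset.sum_insert (by simp)]
          have hrest : ∑ K' ∈ Finset.univ.filter (fun K' => K < K'),
              (if K' ∈ 𝒯 ∧ Nat.card K' + j = Nat.card H then
                c K' - ∑ K'' ∈ Finset.univ.filter (fun K'' => K' < K''), μ K'' else μ K') =
              ∑ K' ∈ Finset.univ.filter (fun K' => K < K'), μ K' := by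
            apply Finset.sum_congr rfl
            intro K' hK'
            simp only [Finset.mem_filter, Finset.mem_univ, true_and] at hK'
            exact habove K' hK'
          rw [hrest, if_pos ⟨hK, hlev⟩]
          apply Nat.sub_add_cancel
          -- the bound
          by_cases hemp : Finset.univ.filter (fun K' => K < K') = ∅
          · rw [hemp, Finset.sum_empty]; exact Nat.zero_le _
          · obtain ⟨K₁, hK₁⟩ := Finset.nonempty_iff_ne_empty.mpr hemp
            simp only [Finset.mem_filter, Finset.mem_univ, true_and] at hK₁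
            have h1 := card_lt_of_lt hK₁
            have h2 := Subgroup.card_le_card_group K₁
            have hd : Nat.card H - Nat.card K = (Nat.card H - Nat.card K - 1) + 1 := by omega
            calc ∑ K' ∈ Finset.univ.filter (fun K' => K < K'), μ K'
                ≤ ∑ K' ∈ Finset.univ.filter (fun K' => K < K'), L ^ (Nat.card H - Nat.card K - 1) := by
                  apply Finset.sum_le_sum
                  intro K' hK'
                  simp only [Finset.mem_filter, Finset.mem_univ, true_and] at hK'
                  have := card_lt_of_lt hK'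
                  refine le_trans (hbd K') ?_
                  exact Nat.pow_le_pow_right hL1 (by omega)
              _ = (Finset.univ.filter (fun K' => K < K')).card * L ^ (Nat.card H - Nat.card K - 1) := by
                  rw [Finset.sum_const, smul_eq_mul]
              _ ≤ L * L ^ (Nat.card H - Nat.card K - 1) := by
                  apply Nat.mul_le_mul_right
                  exact le_trans (Finset.card_le_univ _) hfc
              _ = c K := by
                  simp only [hc]
                  rw [hd, pow_succ, mul_comm]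
                  congr 2
        · -- old level
          have hlt' : Nat.card H < Nat.card K + j := by omega
          rw [← hsum K hK hlt']
          apply Finset.sum_congr rfl
          intro K' hK'
          simp only [Finset.mem_filter, Finset.mem_univ, true_and] at hK'
          have := Subgroup.card_le_of_le hK'
          beta_reduce
          rw [if_neg]
          rintro ⟨_, h2⟩
          omega
  obtain ⟨μ, hsupp, _, hsum⟩ := key (Nat.card H + 1)
  refine ⟨μ, fun K hK => (hsupp K hK).1, fun K hK => hsum K hK ?_⟩
  have : 0 < Nat.card K := Nat.card_pos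
  omega

universe u

open MulAction

/-- The `H`-set: `|K| * μ K` copies of `H ⧸ K` for every subgroup `K`. -/
abbrev MarkSet {H : Type u} [Group H] (μ : Subgroup H → ℕ) : Type u :=
  Σ i : (Σ K : Subgroup H, Fin (Nat.card K * μ K)), H ⧸ i.1

theorem markSet_smul {H : Type u} [Group H] (μ : Subgroup H → ℕ) (h : H)
    (i : Σ K : Subgroup H, Fin (Nat.card K * μ K)) (q : H ⧸ i.1) :
    h • (⟨i, q⟩ : MarkSet μ) = (⟨i, h • q⟩ : MarkSet μ) := rfl

/-- Stabilizers in `MarkSet μ` are conjugates of subgroups in the support of `μ`. -/
theorem markSet_stabilizer {H : Type u} [Group H] (μ : Subgroup H → ℕ) (x : MarkSet μ) :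
    ∃ (K : Subgroup H) (g : H), μ K ≠ 0 ∧
      stabilizer H x = K.map (MulAut.conj g).toMonoidHom := by
  obtain ⟨⟨K, j⟩, q⟩ := x
  induction q using QuotientGroup.induction_on with
  | H g =>
    refine ⟨K, g, ?_, ?_⟩
    · intro h0
      rw [h0, Nat.mul_zero] at j
      exact Fin.elim0 j
    · have h1 : stabilizer H (⟨⟨K, j⟩, (g : H ⧸ K)⟩ : MarkSet μ) = stabilizer H (g : H ⧸ K) := by
        ext h
        simp only [mem_stabilizer_iff, markSet_smul]
        constructor
        · intro he
          have := Sigma.mk.inj he
          exact eq_of_heq this.2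
        · intro he
          rw [he]
      rw [h1]
      have h2 : (g : H ⧸ K) = g • ((1 : H) : H ⧸ K) := by
        rw [MulAction.Quotient.smul_mk, smul_eq_mul, mul_one]
      rw [h2, stabilizer_smul_eq_stabilizer_map_conj, stabilizer_quotient]

/-- Counting the fixed points of `K'` on `H ⧸ K`. -/
theorem card_mul_card_fixedPoints_quotient {H : Type u} [Group H] [Finite H] (K K' : Subgroup H) :
    Nat.card K * Nat.card (fixedPoints K' (H ⧸ K)) =
      Nat.card {h : H // ∀ k' ∈ K', h⁻¹ * k' * h ∈ K} := by
  rw [← Nat.card_prod, ← Nat.card_congr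
    (QuotientGroup.preimageMkEquivSubgroupProdSet K (fixedPoints K' (H ⧸ K)))]
  apply Nat.card_congr
  apply Equiv.subtypeEquivRight
  intro h
  simp only [Set.mem_preimage, mem_fixedPoints]
  constructor
  · intro hf k' hk'
    have := hf ⟨k', hk'⟩
    change k' • (h : H ⧸ K) = h at this
    rw [MulAction.Quotient.smul_mk, smul_eq_mul, eq_comm, QuotientGroup.eq] at this
    rw [mul_assoc]; exact this
  · intro hf k'
    change (k' : H) • (h : H ⧸ K) = h
    rw [MulAction.Quotient.smul_mk, smul_eq_mul, eq_comm, QuotientGroup.eq, ← mul_assoc]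
    exact hf k' k'.2

open Classical in
/-- The number of fixed points of a subgroup on `MarkSet μ`. -/
theorem card_fixedPoints_markSet {H : Type u} [Group H] [Finite H] (μ : Subgroup H → ℕ)
    (K' : Subgroup H) :
    letI : Fintype (Subgroup H) := Fintype.ofFinite _
    letI : Fintype H := Fintype.ofFinite _
    Nat.card (fixedPoints K' (MarkSet μ)) =
      ∑ h : H, ∑ K ∈ Finset.univ.filter
        (fun K => K'.map (MulAut.conj h⁻¹).toMonoidHom ≤ K), μ K := by
  letI : Fintype (Subgroup H) := Fintype.ofFinite _
  letI : Fintype H := Fintype.ofFinite _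
  -- decompose along the sigma type
  let e : fixedPoints K' (MarkSet μ) ≃
      Σ i : (Σ K : Subgroup H, Fin (Nat.card K * μ K)), fixedPoints K' (H ⧸ i.1) :=
    { toFun := fun x => ⟨x.1.1, ⟨x.1.2, fun k => by
        have := x.2 k
        have h2 : k • (⟨x.1.1, x.1.2⟩ : MarkSet μ) = ⟨x.1.1, x.1.2⟩ := this
        change (⟨x.1.1, (k : H) • x.1.2⟩ : MarkSet μ) = ⟨x.1.1, x.1.2⟩ at h2
        exact eq_of_heq (Sigma.mk.inj h2).2⟩⟩
      invFun := fun y => ⟨⟨y.1, y.2.1⟩, fun k => by
        change (⟨y.1, (k : H) • y.2.1⟩ : MarkSet μ) = ⟨y.1, y.2.1⟩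
        have := y.2.2 k
        change (k : H) • y.2.1 = y.2.1 at this
        rw [this]⟩
      left_inv := fun x => rfl
      right_inv := fun y => rfl }
  rw [Nat.card_congr e, Nat.card_sigma, Fintype.sum_sigma]
  have h1 : ∀ K : Subgroup H, ∑ _j : Fin (Nat.card K * μ K), Nat.card (fixedPoints K' (H ⧸ K)) =
      μ K * Nat.card {h : H // ∀ k' ∈ K', h⁻¹ * k' * h ∈ K} := by
    intro K
    rw [Finset.sum_const, Finset.card_univ, Fintype.card_fin, smul_eq_mul,
      ← card_mul_card_fixedPoints_quotient]
    ring
  rw [Finset.sum_congr rfl (fun K _ => h1 K)]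
  have h2 : ∀ K : Subgroup H, Nat.card {h : H // ∀ k' ∈ K', h⁻¹ * k' * h ∈ K} =
      ∑ h : H, if K'.map (MulAut.conj h⁻¹).toMonoidHom ≤ K then 1 else 0 := by
    intro K
    rw [Finset.sum_boole, Nat.card_eq_fintype_card, Fintype.card_subtype, Nat.cast_id]
    congr 1
    ext h
    simp only [Finset.mem_filter, Finset.mem_univ, true_and]
    constructor
    · rintro hh _ ⟨k', hk', rfl⟩
      simpa using hh k' hk'
    · intro hh k' hk'
      have := hh (Subgroup.mem_map_of_mem _ hk')
      simpa using this
  simp_rw [h2, Finset.mul_sum]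
  rw [Finset.sum_comm]
  apply Finset.sum_congr rfl
  intro h _
  rw [Finset.sum_filter]
  apply Finset.sum_congr rfl
  intro K _
  split_ifs <;> simp

open Classical in
/-- Marks of `MarkSet μ` for a conjugation-closed family `𝒯` with the weights of `exists_mu`. -/
theorem card_fixedPoints_markSet_of_mem {H : Type u} [Group H] [Finite H] (𝒯 : Set (Subgroup H))
    (hconj : ∀ K ∈ 𝒯, ∀ h : H, K.map (MulAut.conj h).toMonoidHom ∈ 𝒯) (L : ℕ)
    (μ : Subgroup H → ℕ)
    (hμ : letI : Fintype (Subgroup H) := Fintype.ofFinite _
      ∀ K ∈ 𝒯, ∑ K' ∈ Finset.univ.filter (fun K' => K ≤ K'), μ K' =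
        L ^ (Nat.card H - Nat.card K))
    (K' : Subgroup H) (hK' : K' ∈ 𝒯) :
    Nat.card (fixedPoints K' (MarkSet μ)) = Nat.card H * L ^ (Nat.card H - Nat.card K') := by
  letI : Fintype (Subgroup H) := Fintype.ofFinite _
  letI : Fintype H := Fintype.ofFinite _
  have h0 := card_fixedPoints_markSet μ K'
  have h1 : ∀ h : H, ∑ K ∈ Finset.univ.filter
        (fun K => K'.map (MulAut.conj h⁻¹).toMonoidHom ≤ K), μ K =
      L ^ (Nat.card H - Nat.card K') := by
    intro h
    have := hμ _ (hconj K' hK' h⁻¹)
    rw [Subgroup.card_map_of_injective (MulAut.conj h⁻¹).injective] at this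
    convert this using 2
  convert h0 using 1
  rw [Finset.sum_congr rfl (fun h _ => h1 h), Finset.sum_const, Finset.card_univ, smul_eq_mul,
    Nat.card_eq_fintype_card]

end Cfsg.Agent.Lib.Helper8.BM
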