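import Mathlib
import Cfsg.Agent.Lib.Helper8.BM1
import Cfsg.Agent.Lib.Helper8.BM2

set_option autoImplicit false

/-!
# Realizing an abstract fusion system (in relational form) inside a finite group
-/

namespace Cfsg.Agent.Lib.Helper8.BM

universe u

open MulAction

variable {T : Type u} [Group T]

/-- Relational composition of two subgroups of `T × T`. -/
def rcomp (K K' : Subgroup (T × T)) : Subgroup (T × T) where
  carrier := {p | ∃ b, (p.1, b) ∈ K ∧ (b, p.2) ∈ K'}
  mul_mem' := by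
    rintro p q ⟨b, h1, h2⟩ ⟨b', h1', h2'⟩
    exact ⟨b * b', K.mul_mem h1 h1', K'.mul_mem h2 h2'⟩
  one_mem' := ⟨1, K.one_mem, K'.one_mem⟩
  inv_mem' := by
    rintro p ⟨b, h1, h2⟩
    exact ⟨b⁻¹, K.inv_mem h1, K'.inv_mem h2⟩

theorem mem_rcomp {K K' : Subgroup (T × T)} {p : T × T} :
    p ∈ rcomp K K' ↔ ∃ b, (p.1, b) ∈ K ∧ (b, p.2) ∈ K' := Iff.rfl

/-- The inverse relation. -/
def rinv (K : Subgroup (T × T)) : Subgroup (T × T) where
  carrier := {p | (p.2, p.1) ∈ K}
  mul_mem' := by
    rintro p q h1 h2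
    exact K.mul_mem h1 h2
  one_mem' := K.one_mem
  inv_mem' := by
    rintro p h1
    exact K.inv_mem h1

theorem mem_rinv {K : Subgroup (T × T)} {p : T × T} : p ∈ rinv K ↔ (p.2, p.1) ∈ K := Iff.rfl

/-- The graph of conjugation by `s`. -/
def gconj (s : T) : Subgroup (T × T) where
  carrier := {p | p.2 = s * p.1 * s⁻¹}
  mul_mem' := by
    rintro p q h1 h2
    simp only [Set.mem_ofPred_eq, Prod.snd_mul, Prod.fst_mul] at *
    rw [h1, h2]; group
  one_mem' := by simp
  inv_mem' := by
    rintro p h1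
    simp only [Set.mem_ofPred_eq, Prod.snd_inv, Prod.fst_inv] at *
    rw [h1]; group

theorem mem_gconj {s : T} {p : T × T} : p ∈ gconj s ↔ p.2 = s * p.1 * s⁻¹ := Iff.rfl

/-- A fusion system on `T` in relational form: a family of subgroups of `T × T` (graphs of the maps). -/
structure RelFus (T : Type u) [Group T] where
  mem : Set (Subgroup (T × T))
  conj_mem : ∀ s : T, gconj s ∈ mem
  le_mem : ∀ {K K' : Subgroup (T × T)}, K ∈ mem → K' ≤ K → K' ∈ mem
  comp_mem : ∀ {K K' : Subgroup (T × T)}, K ∈ mem → K' ∈ mem → rcomp K K' ∈ mem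
  inv_mem : ∀ {K : Subgroup (T × T)}, K ∈ mem → rinv K ∈ mem
  functional : ∀ {K : Subgroup (T × T)}, K ∈ mem → ∀ a b b' : T, (a, b) ∈ K → (a, b') ∈ K → b = b'
  injective : ∀ {K : Subgroup (T × T)}, K ∈ mem → ∀ a a' b : T, (a, b) ∈ K → (a', b) ∈ K → a = a'

namespace RelFus

theorem map_conj_mem (R : RelFus T) {K : Subgroup (T × T)} (hK : K ∈ R.mem) (h : T × T) :
    K.map (MulAut.conj h).toMonoidHom ∈ R.mem := by
  refine R.le_mem (R.comp_mem (R.comp_mem (R.conj_mem h.1⁻¹) hK) (R.conj_mem h.2)) ?_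
  rintro _ ⟨q, hq, rfl⟩
  refine ⟨q.2, ⟨q.1, ?_, hq⟩, ?_⟩
  · rw [mem_gconj]
    simp
    group
  · rw [mem_gconj]
    simp

end RelFus

open Classical in
/-- **Abstract realization theorem** (after S. Park): a fusion system in relational form on a
finite group `T` is the fusion system induced on `T` by a finite group containing `T`. -/
theorem exists_realization [Finite T] (R : RelFus T) :
    ∃ (G : Type u) (_ : Group G) (_ : Finite G) (ι : T →* G), Function.Injective ι ∧
      ∀ K : Subgroup (T × T), K ∈ R.mem ↔ ∃ g : G, ∀ p ∈ K, ι p.2 = g * ι p.1 * g⁻¹ := by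
  letI : Fintype (Subgroup (T × T)) := Fintype.ofFinite _
  set L := Nat.card (Subgroup (T × T)) with hLdef
  have hL1 : 0 < L := Nat.card_pos
  obtain ⟨μ, hsupp, hsum⟩ := exists_mu (H := T × T) R.mem L le_rfl
  -- stabilizers
  have hstab : ∀ x : MarkSet μ, stabilizer (T × T) x ∈ R.mem := by
    intro x
    obtain ⟨K, g, hK, he⟩ := markSet_stabilizer μ x
    rw [he]
    exact R.map_conj_mem (hsupp K hK) g
  -- marks
  have hmarks : ∀ K' ∈ R.mem, Nat.card (fixedPoints K' (MarkSet μ)) =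
      Nat.card (T × T) * L ^ (Nat.card (T × T) - Nat.card K') :=
    fun K' hK' => card_fixedPoints_markSet_of_mem R.mem (fun K hK h => R.map_conj_mem hK h) L μ
      hsum K' hK'
  have hnomarks : ∀ K' : Subgroup (T × T), K' ∉ R.mem → fixedPoints K' (MarkSet μ) = ∅ := by
    intro K' hK'
    rw [Set.eq_empty_iff_forall_notMem]
    intro x hx
    apply hK'
    refine R.le_mem (hstab x) ?_
    intro k hk
    exact hx ⟨k, hk⟩
  -- the base point
  have hD : gconj (1 : T) ∈ R.mem := R.conj_mem 1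
  obtain ⟨ξ₀, hξ₀⟩ : (fixedPoints (gconj (1 : T)) (MarkSet μ)).Nonempty := by
    rw [← Set.ncard_pos (Set.toFinite _), ← Nat.card_coe_set_eq, hmarks _ hD]
    exact Nat.mul_pos Nat.card_pos (pow_pos hL1 _)
  -- the group
  let G : Subgroup (Equiv.Perm (MarkSet μ)) :=
    Subgroup.centralizer (Set.range fun t : T => MulAction.toPerm ((1, t) : T × T))
  have hcomm : ∀ s t : T, (MulAction.toPerm ((1, t) : T × T) : Equiv.Perm (MarkSet μ)) *
      MulAction.toPerm ((s, 1) : T × T) = MulAction.toPerm ((s, 1) : T × T) *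
        MulAction.toPerm ((1, t) : T × T) := by
    intro s t
    have h1 := map_mul (MulAction.toPermHom (T × T) (MarkSet μ)) ((1, t) : T × T) ((s, 1) : T × T)
    have h2 := map_mul (MulAction.toPermHom (T × T) (MarkSet μ)) ((s, 1) : T × T) ((1, t) : T × T)
    simp only [MulAction.toPermHom_apply] at h1 h2
    rw [← h1, ← h2]
    congr 1
    simp
  let ι₀ : T →* Equiv.Perm (MarkSet μ) :=
    (MulAction.toPermHom (T × T) (MarkSet μ)).comp (MonoidHom.inl T T)
  have hι₀ : ∀ s : T, ι₀ s = MulAction.toPerm ((s, 1) : T × T) := fun s => rfl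
  have hι₀G : ∀ s : T, ι₀ s ∈ G := by
    intro s
    rw [Subgroup.mem_centralizer_iff]
    rintro _ ⟨t, rfl⟩
    rw [hι₀]
    exact hcomm s t
  let ι : T →* G := ι₀.codRestrict G hι₀G
  have hιcoe : ∀ s : T, ((ι s : G) : Equiv.Perm (MarkSet μ)) = MulAction.toPerm ((s, 1) : T × T) :=
    fun s => rfl
  refine ⟨G, inferInstance, inferInstance, ι, ?_, ?_⟩
  · -- injectivity
    intro s s' hss
    have h1 : (MulAction.toPerm ((s, 1) : T × T) : Equiv.Perm (MarkSet μ)) =
        MulAction.toPerm ((s', 1) : T × T) := by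
      rw [← hιcoe, ← hιcoe, hss]
    have h2 : ((s, 1) : T × T) • ξ₀ = ((s', 1) : T × T) • ξ₀ := by
      have := congrArg (fun f : Equiv.Perm (MarkSet μ) => f ξ₀) h1
      simpa using this
    have h3 : ((s'⁻¹ * s, 1) : T × T) ∈ stabilizer (T × T) ξ₀ := by
      rw [mem_stabilizer_iff]
      have : ((s'⁻¹ * s, 1) : T × T) = ((s', 1) : T × T)⁻¹ * ((s, 1) : T × T) := by simp
      rw [this, mul_smul, h2, inv_smul_smul]
    have h4 : ((1, 1) : T × T) ∈ stabilizer (T × T) ξ₀ := Subgroup.one_mem _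
    have := R.injective (hstab ξ₀) _ _ _ h3 h4
    exact (inv_mul_eq_one.mp this).symm
  · intro K
    constructor
    · -- a map of the system is realized
      intro hK
      let j₁ : (K × T) →* T × T :=
        MonoidHom.prodMap ((MonoidHom.fst T T).comp K.subtype) (MonoidHom.id T)
      let j₂ : (K × T) →* T × T :=
        MonoidHom.prodMap ((MonoidHom.snd T T).comp K.subtype) (MonoidHom.id T)
      have hj₁ : ∀ β : K × T, j₁ β = ((β.1 : T × T).1, β.2) := fun β => rfl
      have hj₂ : ∀ β : K × T, j₂ β = ((β.1 : T × T).2, β.2) := fun β => rfl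
      have hj₁inj : Function.Injective j₁ := by
        rintro ⟨⟨⟨a, b⟩, hab⟩, t⟩ ⟨⟨⟨a', b'⟩, hab'⟩, t'⟩ he
        rw [hj₁, hj₁] at he
        simp only [Prod.mk.injEq] at he
        obtain ⟨rfl, rfl⟩ := he
        have := R.functional hK _ _ _ hab hab'
        subst this
        rfl
      have hj₂inj : Function.Injective j₂ := by
        rintro ⟨⟨⟨a, b⟩, hab⟩, t⟩ ⟨⟨⟨a', b'⟩, hab'⟩, t'⟩ he
        rw [hj₂, hj₂] at he
        simp only [Prod.mk.injEq] at he
        obtain ⟨rfl, rfl⟩ := he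
        have := R.injective hK _ _ _ hab hab'
        subst this
        rfl
      let ρ₁ : (K × T) →* Equiv.Perm (MarkSet μ) := (MulAction.toPermHom (T × T) (MarkSet μ)).comp j₁
      let ρ₂ : (K × T) →* Equiv.Perm (MarkSet μ) := (MulAction.toPermHom (T × T) (MarkSet μ)).comp j₂
      have hfix₁ : ∀ B : Subgroup (K × T), {x : MarkSet μ | ∀ b ∈ B, ρ₁ b x = x} =
          fixedPoints (B.map j₁) (MarkSet μ) := by
        intro B
        ext x
        constructor
        · rintro hx ⟨_, ⟨b, hb, rfl⟩⟩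
          exact hx b hb
        · intro hx b hb
          exact hx ⟨j₁ b, Subgroup.mem_map_of_mem _ hb⟩
      have hfix₂ : ∀ B : Subgroup (K × T), {x : MarkSet μ | ∀ b ∈ B, ρ₂ b x = x} =
          fixedPoints (B.map j₂) (MarkSet μ) := by
        intro B
        ext x
        constructor
        · rintro hx ⟨_, ⟨b, hb, rfl⟩⟩
          exact hx b hb
        · intro hx b hb
          exact hx ⟨j₂ b, Subgroup.mem_map_of_mem _ hb⟩
      have h12 : ∀ B : Subgroup (K × T), B.map j₁ ∈ R.mem → B.map j₂ ∈ R.mem := by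
        intro B hB
        refine R.le_mem (R.comp_mem (R.inv_mem hK) hB) ?_
        rintro _ ⟨β, hβ, rfl⟩
        refine ⟨(β.1 : T × T).1, ?_, ?_⟩
        · rw [mem_rinv]; exact β.1.2
        · exact ⟨β, hβ, rfl⟩
      have h21 : ∀ B : Subgroup (K × T), B.map j₂ ∈ R.mem → B.map j₁ ∈ R.mem := by
        intro B hB
        refine R.le_mem (R.comp_mem hK hB) ?_
        rintro _ ⟨β, hβ, rfl⟩
        refine ⟨(β.1 : T × T).2, ?_, ?_⟩
        · exact β.1.2
        · exact ⟨β, hβ, rfl⟩
      obtain ⟨e, he⟩ := exists_perm_intertwining ρ₁ ρ₂ (by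
        intro B
        rw [hfix₁, hfix₂]
        by_cases hB : B.map j₁ ∈ R.mem
        · rw [← Nat.card_coe_set_eq, ← Nat.card_coe_set_eq, hmarks _ hB, hmarks _ (h12 B hB),
            Subgroup.card_map_of_injective hj₁inj, Subgroup.card_map_of_injective hj₂inj]
        · rw [hnomarks _ hB, hnomarks _ (fun h => hB (h21 B h))])
      have heG : e ∈ G := by
        rw [Subgroup.mem_centralizer_iff]
        rintro _ ⟨t, rfl⟩
        apply Equiv.ext
        intro x
        have := he ((1 : K), t) x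
        have h1 : ρ₁ ((1 : K), t) = MulAction.toPerm ((1, t) : T × T) := rfl
        have h2 : ρ₂ ((1 : K), t) = MulAction.toPerm ((1, t) : T × T) := rfl
        rw [h1, h2] at this
        simp only [Equiv.Perm.coe_mul, Function.comp_apply]
        exact this.symm
      refine ⟨⟨e, heG⟩, ?_⟩
      intro p hp
      apply Subtype.ext
      rw [Subgroup.coe_mul, Subgroup.coe_mul, Subgroup.coe_inv, hιcoe, hιcoe]
      change _ = e * _ * e⁻¹
      rw [eq_mul_inv_iff_mul_eq]
      apply Equiv.ext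
      intro x
      have := he ((⟨p, hp⟩ : K), (1 : T)) x
      have h1 : ρ₁ ((⟨p, hp⟩ : K), (1 : T)) = MulAction.toPerm ((p.1, 1) : T × T) := rfl
      have h2 : ρ₂ ((⟨p, hp⟩ : K), (1 : T)) = MulAction.toPerm ((p.2, 1) : T × T) := rfl
      rw [h1, h2] at this
      simp only [Equiv.Perm.coe_mul, Function.comp_apply]
      exact this.symm
    · -- a realized map is in the system
      rintro ⟨⟨g, hg⟩, hgK⟩
      have hgc : ∀ t : T, (MulAction.toPerm ((1, t) : T × T) : Equiv.Perm (MarkSet μ)) * g =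
          g * MulAction.toPerm ((1, t) : T × T) := by
        intro t
        exact (Subgroup.mem_centralizer_iff.mp hg) _ ⟨t, rfl⟩
      refine R.le_mem (hstab (g⁻¹ ξ₀)) ?_
      intro p hp
      rw [mem_stabilizer_iff]
      have h1 := hgK p hp
      have h1' : (MulAction.toPerm ((p.2, 1) : T × T) : Equiv.Perm (MarkSet μ)) =
          g * MulAction.toPerm ((p.1, 1) : T × T) * g⁻¹ := by
        have := congrArg (fun z : G => (z : Equiv.Perm (MarkSet μ))) h1
        simpa [hιcoe] using this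
      -- λ_a g⁻¹ = g⁻¹ λ_b
      have h2 : (MulAction.toPerm ((p.1, 1) : T × T) : Equiv.Perm (MarkSet μ)) * g⁻¹ =
          g⁻¹ * MulAction.toPerm ((p.2, 1) : T × T) := by
        rw [h1']; group
      have h3 : (MulAction.toPerm ((1, p.2) : T × T) : Equiv.Perm (MarkSet μ)) * g⁻¹ =
          g⁻¹ * MulAction.toPerm ((1, p.2) : T × T) := by
        have := hgc p.2
        calc (MulAction.toPerm ((1, p.2) : T × T) : Equiv.Perm (MarkSet μ)) * g⁻¹
            = g⁻¹ * (g * MulAction.toPerm ((1, p.2) : T × T)) * g⁻¹ := by group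
          _ = g⁻¹ * (MulAction.toPerm ((1, p.2) : T × T) * g) * g⁻¹ := by rw [this]
          _ = g⁻¹ * MulAction.toPerm ((1, p.2) : T × T) := by group
      have hp' : p = ((p.1, 1) : T × T) * ((1, p.2) : T × T) := by simp
      have h4 : p • (g⁻¹ ξ₀) = (MulAction.toPerm ((p.1, 1) : T × T) *
          (MulAction.toPerm ((1, p.2) : T × T) * g⁻¹) : Equiv.Perm (MarkSet μ)) ξ₀ := by
        conv_lhs => rw [hp', mul_smul]
        rfl
      rw [h4, h3, ← mul_assoc, h2, mul_assoc]
      change g⁻¹ (((p.2, 1) : T × T) • (((1, p.2) : T × T) • ξ₀)) = g⁻¹ ξ₀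
      rw [← mul_smul]
      have h5 : ((p.2, 1) : T × T) * ((1, p.2) : T × T) ∈ gconj (1 : T) := by
        rw [mem_gconj]; simp
      have := hξ₀ ⟨_, h5⟩
      change (((p.2, 1) : T × T) * ((1, p.2) : T × T)) • ξ₀ = ξ₀ at this
      rw [this]

end Cfsg.Agent.Lib.Helper8.BM
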