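import Mathlib
import Cfsg.Prelude.Def_FusionSystem
import Cfsg.Agent.Lib.Helper8.BM3

set_option autoImplicit false

/-!
# Every fusion system over a finite group is realized inside a finite group
-/

namespace Cfsg.Agent.Lib.Helper8.BM

universe u

variable {Ω : Type u} [Group Ω] {S : Subgroup Ω}

/-- The graph homomorphism of a map `φ : P →* Ω` with `P ≤ S` and values in `S`. -/
def grHom {P : Subgroup Ω} (hP : P ≤ S) {φ : P →* Ω} (hφ : ∀ x : P, φ x ∈ S) : P →* S × S :=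
  MonoidHom.prod (Subgroup.inclusion hP) (φ.codRestrict S hφ)

/-- The graph of `φ` as a subgroup of `S × S`. -/
def gr {P : Subgroup Ω} (hP : P ≤ S) {φ : P →* Ω} (hφ : ∀ x : P, φ x ∈ S) : Subgroup (S × S) :=
  (grHom hP hφ).range

theorem mem_gr {P : Subgroup Ω} (hP : P ≤ S) {φ : P →* Ω} (hφ : ∀ x : P, φ x ∈ S) (p : S × S) :
    p ∈ gr hP hφ ↔ ∃ x : P, (x : Ω) = p.1 ∧ φ x = p.2 := by
  constructor
  · rintro ⟨x, rfl⟩
    exact ⟨x, rfl, rfl⟩
  · rintro ⟨x, h1, h2⟩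
    refine ⟨x, ?_⟩
    apply Prod.ext
    · exact Subtype.ext h1
    · exact Subtype.ext h2

theorem restrict_mem (F : Cfsg.FusionSystem S) {P Q : Subgroup Ω} {φ : P →* Ω} (hφ : φ ∈ F.Hom P)
    (hQP : Q ≤ P) : φ.comp (Subgroup.inclusion hQP) ∈ F.Hom Q := by
  have hQS : Q ≤ S := le_trans hQP (F.le_of_mem hφ).1
  have hc := F.conj_mem (P := Q) (g := 1) hQS S.one_mem
  have hval : ∀ x : Q, Cfsg.conjHom Q 1 x ∈ P := by
    intro x
    simp only [Cfsg.conjHom, MonoidHom.coe_comp, Function.comp_apply, Subgroup.coe_subtype]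
    simpa using hQP x.2
  have := F.comp_mem hc hφ hval
  convert this using 1
  ext x
  simp only [MonoidHom.coe_comp, Function.comp_apply]
  congr 1
  apply Subtype.ext
  simp [Cfsg.conjHom]

/-- The family of graphs of the maps of a fusion system. -/
def graphs (F : Cfsg.FusionSystem S) : Set (Subgroup (S × S)) :=
  {K | ∃ (P : Subgroup Ω) (φ : P →* Ω) (h : φ ∈ F.Hom P),
    K = gr (F.le_of_mem h).1 (F.le_of_mem h).2}

theorem gr_mem_graphs (F : Cfsg.FusionSystem S) {P : Subgroup Ω} {φ : P →* Ω} (h : φ ∈ F.Hom P)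
    (hP : P ≤ S) (hφ : ∀ x : P, φ x ∈ S) : gr hP hφ ∈ graphs F := ⟨P, φ, h, rfl⟩

theorem graphs_le (F : Cfsg.FusionSystem S) {K K' : Subgroup (S × S)} (hK : K ∈ graphs F)
    (hle : K' ≤ K) : K' ∈ graphs F := by
  obtain ⟨P, φ, hφ, rfl⟩ := hK
  set P' : Subgroup Ω := (K'.map (MonoidHom.fst S S)).map S.subtype with hP'
  have hmemP' : ∀ a : Ω, a ∈ P' ↔ ∃ k ∈ K', ((k.1 : S) : Ω) = a := by
    intro a
    constructor
    · rintro ⟨s, ⟨k, hk, rfl⟩, rfl⟩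
      exact ⟨k, hk, rfl⟩
    · rintro ⟨k, hk, rfl⟩
      exact ⟨k.1, ⟨k, hk, rfl⟩, rfl⟩
  have hP'P : P' ≤ P := by
    intro a ha
    obtain ⟨k, hk, rfl⟩ := (hmemP' a).mp ha
    obtain ⟨x, h1, _⟩ := (mem_gr _ _ k).mp (hle hk)
    rw [← h1]; exact x.2
  have hφ' := restrict_mem F hφ hP'P
  refine ⟨P', _, hφ', ?_⟩
  ext k
  rw [mem_gr]
  constructor
  · intro hk
    obtain ⟨x, h1, h2⟩ := (mem_gr _ _ k).mp (hle hk)
    refine ⟨⟨k.1, (hmemP' _).mpr ⟨k, hk, rfl⟩⟩, rfl, ?_⟩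
    rw [← h2]
    simp only [MonoidHom.coe_comp, Function.comp_apply]
    congr 1
    apply Subtype.ext
    exact h1.symm
  · rintro ⟨x', h1, h2⟩
    obtain ⟨k₀, hk₀, hk₀x⟩ := (hmemP' _).mp x'.2
    obtain ⟨x, h1', h2'⟩ := (mem_gr _ _ k₀).mp (hle hk₀)
    have hxx' : Subgroup.inclusion hP'P x' = x := by
      apply Subtype.ext
      change (x' : Ω) = x
      rw [h1', hk₀x]
    have : k = k₀ := by
      apply Prod.ext
      · apply Subtype.ext
        rw [← h1, hk₀x]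
      · apply Subtype.ext
        rw [← h2, ← h2']
        simp only [MonoidHom.coe_comp, Function.comp_apply]
        rw [hxx']
    rw [this]; exact hk₀

theorem graphs_conj (F : Cfsg.FusionSystem S) (s : S) : gconj s ∈ graphs F := by
  have hc := F.conj_mem (P := S) (g := (s : Ω)) le_rfl s.2
  refine graphs_le F (gr_mem_graphs F hc (F.le_of_mem hc).1 (F.le_of_mem hc).2) ?_
  intro p hp
  rw [mem_gconj] at hp
  rw [mem_gr]
  refine ⟨p.1, rfl, ?_⟩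
  rw [hp]
  simp [Cfsg.conjHom]

theorem graphs_comp (F : Cfsg.FusionSystem S) {K K' : Subgroup (S × S)} (hK : K ∈ graphs F)
    (hK' : K' ∈ graphs F) : rcomp K K' ∈ graphs F := by
  obtain ⟨P, φ, hφ, rfl⟩ := hK
  obtain ⟨Q, ψ, hψ, rfl⟩ := hK'
  set P'' : Subgroup Ω := (Q.comap φ).map P.subtype with hP''
  have hP''P : P'' ≤ P := by
    rintro _ ⟨x, _, rfl⟩
    exact x.2
  have hφ'' := restrict_mem F hφ hP''P
  have hval : ∀ x : P'', (φ.comp (Subgroup.inclusion hP''P)) x ∈ Q := by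
    rintro ⟨_, ⟨x, hx, rfl⟩⟩
    simp only [MonoidHom.coe_comp, Function.comp_apply]
    have : Subgroup.inclusion hP''P ⟨P.subtype x, ⟨x, hx, rfl⟩⟩ = x := Subtype.ext rfl
    rw [this]
    exact hx
  have hθ := F.comp_mem hφ'' hψ hval
  refine graphs_le F (gr_mem_graphs F hθ (F.le_of_mem hθ).1 (F.le_of_mem hθ).2) ?_
  intro p hp
  obtain ⟨b, h1, h2⟩ := mem_rcomp.mp hp
  obtain ⟨x, hx1, hx2⟩ := (mem_gr _ _ _).mp h1
  obtain ⟨y, hy1, hy2⟩ := (mem_gr _ _ _).mp h2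
  simp only at hx1 hx2 hy1 hy2
  rw [mem_gr]
  have hxQ : φ x ∈ Q := by rw [hx2, ← hy1]; exact y.2
  refine ⟨⟨x, ⟨x, hxQ, rfl⟩⟩, hx1, ?_⟩
  rw [← hy2]
  simp only [MonoidHom.coe_comp, Function.comp_apply]
  congr 1
  apply Subtype.ext
  simp only [MonoidHom.codRestrict_apply, MonoidHom.coe_comp, Function.comp_apply]
  rw [hy1, ← hx2]
  congr 1

theorem graphs_inv (F : Cfsg.FusionSystem S) {K : Subgroup (S × S)} (hK : K ∈ graphs F) :
    rinv K ∈ graphs F := by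
  obtain ⟨P, φ, hφ, rfl⟩ := hK
  obtain ⟨ψ, hψ, hψφ⟩ := F.inv_mem hφ
  refine graphs_le F (gr_mem_graphs F hψ (F.le_of_mem hψ).1 (F.le_of_mem hψ).2) ?_
  intro p hp
  rw [mem_rinv] at hp
  obtain ⟨x, hx1, hx2⟩ := (mem_gr _ _ _).mp hp
  simp only at hx1 hx2
  rw [mem_gr]
  refine ⟨⟨φ x, ⟨x, rfl⟩⟩, hx2, ?_⟩
  rw [hψφ x, hx1]

theorem graphs_functional (F : Cfsg.FusionSystem S) {K : Subgroup (S × S)} (hK : K ∈ graphs F)
    (a b b' : S) (h1 : (a, b) ∈ K) (h2 : (a, b') ∈ K) : b = b' := by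
  obtain ⟨P, φ, hφ, rfl⟩ := hK
  obtain ⟨x, hx1, hx2⟩ := (mem_gr _ _ _).mp h1
  obtain ⟨x', hx1', hx2'⟩ := (mem_gr _ _ _).mp h2
  simp only at hx1 hx2 hx1' hx2'
  have : x = x' := Subtype.ext (hx1.trans hx1'.symm)
  subst this
  exact Subtype.ext (hx2.symm.trans hx2')

theorem graphs_injective (F : Cfsg.FusionSystem S) {K : Subgroup (S × S)} (hK : K ∈ graphs F)
    (a a' b : S) (h1 : (a, b) ∈ K) (h2 : (a', b) ∈ K) : a = a' := by
  obtain ⟨P, φ, hφ, rfl⟩ := hK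
  obtain ⟨x, hx1, hx2⟩ := (mem_gr _ _ _).mp h1
  obtain ⟨x', hx1', hx2'⟩ := (mem_gr _ _ _).mp h2
  simp only at hx1 hx2 hx1' hx2'
  have : x = x' := F.injective_of_mem hφ (hx2.trans hx2'.symm)
  subst this
  exact Subtype.ext (hx1.symm.trans hx1')

/-- The relational fusion system attached to a fusion system. -/
def relFus (F : Cfsg.FusionSystem S) : RelFus S where
  mem := graphs F
  conj_mem := graphs_conj F
  le_mem := graphs_le F
  comp_mem := graphs_comp F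
  inv_mem := graphs_inv F
  functional := graphs_functional F
  injective := graphs_injective F

theorem gr_eq_imp {P P' : Subgroup Ω} (hP : P ≤ S) {φ : P →* Ω} (hφ : ∀ x : P, φ x ∈ S)
    (hP' : P' ≤ S) {φ' : P' →* Ω} (hφ' : ∀ x : P', φ' x ∈ S) (h : gr hP hφ = gr hP' hφ') :
    ∃ e : P = P', ∀ x : P, φ x = φ' ⟨x, e ▸ x.2⟩ := by
  have e : P = P' := by
    ext a
    constructor
    · intro ha
      have : ((⟨a, hP ha⟩ : S), (⟨φ ⟨a, ha⟩, hφ _⟩ : S)) ∈ gr hP hφ :=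
        (mem_gr _ _ _).mpr ⟨⟨a, ha⟩, rfl, rfl⟩
      rw [h] at this
      obtain ⟨x, hx1, _⟩ := (mem_gr _ _ _).mp this
      simp only at hx1
      rw [← hx1]; exact x.2
    · intro ha
      have : ((⟨a, hP' ha⟩ : S), (⟨φ' ⟨a, ha⟩, hφ' _⟩ : S)) ∈ gr hP' hφ' :=
        (mem_gr _ _ _).mpr ⟨⟨a, ha⟩, rfl, rfl⟩
      rw [← h] at this
      obtain ⟨x, hx1, _⟩ := (mem_gr _ _ _).mp this
      simp only at hx1
      rw [← hx1]; exact x.2
  subst e
  refine ⟨rfl, fun x => ?_⟩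
  have : ((⟨x, hP x.2⟩ : S), (⟨φ x, hφ _⟩ : S)) ∈ gr hP hφ :=
    (mem_gr _ _ _).mpr ⟨x, rfl, rfl⟩
  rw [h] at this
  obtain ⟨x', hx1, hx2⟩ := (mem_gr _ _ _).mp this
  simp only at hx1 hx2
  have : x' = x := Subtype.ext hx1
  subst this
  exact hx2.symm

/-- **Park's theorem**: every fusion system over a finite group `S` is realized inside a finite
group. -/
theorem exists_isRealizedBy [Finite S] (F : Cfsg.FusionSystem S) :
    ∃ (G : Type u) (_ : Group G) (_ : Finite G) (ι : S →* G), F.IsRealizedBy ι := by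
  obtain ⟨G, iG, iF, ι, hinj, hiff⟩ := exists_realization (relFus F)
  refine ⟨G, iG, iF, ι, hinj, ?_⟩
  intro P hP φ hφ
  constructor
  · intro h
    obtain ⟨g, hg⟩ := (hiff (gr hP hφ)).mp (gr_mem_graphs F h hP hφ)
    refine ⟨g, fun x => ?_⟩
    exact hg (⟨x, hP x.2⟩, ⟨φ x, hφ x⟩) ((mem_gr _ _ _).mpr ⟨x, rfl, rfl⟩)
  · rintro ⟨g, hg⟩
    have hmem : gr hP hφ ∈ (relFus F).mem := by
      rw [hiff]
      refine ⟨g, fun p hp => ?_⟩
      obtain ⟨x, hx1, hx2⟩ := (mem_gr _ _ _).mp hp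
      have hp1 : p.1 = ⟨x, hP x.2⟩ := Subtype.ext hx1.symm
      have hp2 : p.2 = ⟨φ x, hφ x⟩ := Subtype.ext hx2.symm
      rw [hp1, hp2]
      exact hg x
    obtain ⟨P', φ', hφ', he⟩ := hmem
    obtain ⟨e, hxx⟩ := gr_eq_imp hP hφ _ _ he
    subst e
    have : φ = φ' := by
      ext x
      exact hxx x
    rw [this]; exact hφ'

end Cfsg.Agent.Lib.Helper8.BM
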