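import Mathlib

/-!
# The `p`-regular elements of the centralizer of a normal Sylow `p`-subgroup form a subgroup
-/

set_option autoImplicit false

namespace Cfsg.Agent.Lib.Helper8

universe u

section

variable {G : Type u} [Group G] [Finite G] {p : ℕ} [hp : Fact p.Prime]

/-- In a group whose Sylow `p`-subgroup `S` is central, products of `p`-regular elements are
`p`-regular. -/
theorem not_dvd_orderOf_mul_of_le_center {C : Type u} [Group C] [Finite C]
    (S : Subgroup C) (hS : S ≤ Subgroup.center C) (hidx : ¬ p ∣ S.index)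
    {x y : C} (hx : ¬ p ∣ orderOf x) (hy : ¬ p ∣ orderOf y) : ¬ p ∣ orderOf (x * y) := by
  set n := (Subgroup.center C).index with hn
  have hnp : ¬ p ∣ n := fun h => hidx (h.trans (Subgroup.index_dvd_of_le hS))
  have h1 : (x * y) ^ n = x ^ n * y ^ n := by
    have := map_mul (MonoidHom.transferCenterPow C) x y
    have h2 := congrArg Subtype.val this
    simp only [Subgroup.coe_mul, MonoidHom.transferCenterPow_apply] at h2
    exact h2
  have hc : Commute (x ^ n) (y ^ n) := by
    have hmem : x ^ n ∈ Subgroup.center C := (Subgroup.center C).pow_index_mem x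
    exact ((Subgroup.mem_center_iff.1 hmem) (y ^ n)).symm
  have h3 : (x * y) ^ (n * (orderOf x * orderOf y)) = 1 := by
    rw [pow_mul, h1, hc.mul_pow, ← pow_mul, ← pow_mul]
    have e1 : x ^ (n * (orderOf x * orderOf y)) = 1 := by
      rw [show n * (orderOf x * orderOf y) = orderOf x * (n * orderOf y) by ring, pow_mul,
        pow_orderOf_eq_one, one_pow]
    have e2 : y ^ (n * (orderOf x * orderOf y)) = 1 := by
      rw [show n * (orderOf x * orderOf y) = orderOf y * (n * orderOf x) by ring, pow_mul,
        pow_orderOf_eq_one, one_pow]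
    rw [e1, e2, one_mul]
  intro h
  have h4 := h.trans (orderOf_dvd_of_pow_eq_one h3)
  rcases (Nat.Prime.dvd_mul hp.1).1 h4 with h5 | h5
  · exact hnp h5
  · rcases (Nat.Prime.dvd_mul hp.1).1 h5 with h6 | h6
    · exact hx h6
    · exact hy h6

variable (P : Sylow p G) [hPn : (P : Subgroup G).Normal]

/-- The subgroup of `p`-regular elements of the centralizer of a normal Sylow `p`-subgroup. -/
def pRegCentralizer : Subgroup G where
  carrier := {x | x ∈ Subgroup.centralizer ((P : Subgroup G) : Set G) ∧ ¬ p ∣ orderOf x}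
  one_mem' := by
    refine ⟨Subgroup.one_mem _, ?_⟩
    rw [orderOf_one]
    exact hp.1.one_lt.ne' ∘ Nat.dvd_one.1
  inv_mem' := by
    rintro x ⟨hx, hxo⟩
    refine ⟨Subgroup.inv_mem _ hx, ?_⟩
    rwa [orderOf_inv]
  mul_mem' := by
    rintro x y ⟨hx, hxo⟩ ⟨hy, hyo⟩
    refine ⟨Subgroup.mul_mem _ hx hy, ?_⟩
    set C := Subgroup.centralizer ((P : Subgroup G) : Set G) with hC
    have hS : (P : Subgroup G).subgroupOf C ≤ Subgroup.center C := by
      intro u hu
      rw [Subgroup.mem_center_iff]
      intro c
      apply Subtype.ext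
      exact ((Subgroup.mem_centralizer_iff.1 c.2) (u : G) (Subgroup.mem_subgroupOf.1 hu)).symm
    have hidx : ¬ p ∣ ((P : Subgroup G).subgroupOf C).index := by
      intro h
      exact P.not_dvd_index (h.trans (Subgroup.relIndex_dvd_index_of_normal (P : Subgroup G) C))
    have h1 := not_dvd_orderOf_mul_of_le_center (p := p) ((P : Subgroup G).subgroupOf C) hS hidx
      (x := (⟨x, hx⟩ : C)) (y := (⟨y, hy⟩ : C))
      (by rwa [← Subgroup.orderOf_coe]) (by rwa [← Subgroup.orderOf_coe])
    rw [← Subgroup.orderOf_coe] at h1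
    exact h1

omit hPn in
theorem mem_pRegCentralizer_iff [(P : Subgroup G).Normal] (x : G) :
    x ∈ pRegCentralizer P ↔
      x ∈ Subgroup.centralizer ((P : Subgroup G) : Set G) ∧ ¬ p ∣ orderOf x := Iff.rfl

instance pRegCentralizer_normal : (pRegCentralizer P).Normal := by
  constructor
  intro x hx g
  rw [mem_pRegCentralizer_iff] at hx ⊢
  have hCn : (Subgroup.centralizer ((P : Subgroup G) : Set G)).Normal :=
    Subgroup.normal_centralizer
  refine ⟨hCn.conj_mem x hx.1 g, ?_⟩
  have : orderOf (g * x * g⁻¹) = orderOf x := by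
    have := orderOf_injective (MulAut.conj g).toMonoidHom (MulAut.conj g).injective x
    simpa using this
  rw [this]
  exact hx.2

theorem not_dvd_card_pRegCentralizer : ¬ p ∣ Nat.card (pRegCentralizer P) := by
  intro h
  obtain ⟨x, hx⟩ := exists_prime_orderOf_dvd_card' (G := pRegCentralizer P) p h
  have h1 := x.2
  rw [mem_pRegCentralizer_iff, Subgroup.orderOf_coe, hx] at h1
  exact h1.2 dvd_rfl

end

end Cfsg.Agent.Lib.Helper8
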