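import Mathlib

/-!
# Burnside's lemma for a relation given by an explicit action map
-/

set_option autoImplicit false

namespace Cfsg.Agent.Lib.Helper8

universe u v

/-- Burnside's lemma, for an action given as a bare function and the orbit relation as a
`Quot`. -/
theorem card_quot_mul_card_eq_sum {G : Type u} {X : Type v} [Group G] [Finite G] [Finite X]
    (act : G → X → X) (h1 : ∀ x, act 1 x = x)
    (hmul : ∀ g h x, act (g * h) x = act g (act h x)) :
    Nat.card (Quot (fun x y : X => ∃ g : G, y = act g x)) * Nat.card G
      = ∑ᶠ g : G, Nat.card {x : X // act g x = x} := by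
  classical
  haveI : Fintype G := Fintype.ofFinite _
  haveI : Fintype X := Fintype.ofFinite _
  letI inst : MulAction G X :=
    { smul := act
      one_smul := h1
      mul_smul := hmul }
  have hsmul : ∀ (g : G) (x : X), g • x = act g x := fun _ _ => rfl
  haveI : Fintype (Quotient (MulAction.orbitRel G X)) := Fintype.ofFinite _
  have hB := MulAction.sum_card_fixedBy_eq_card_orbits_mul_card_group G X
  rw [finsum_eq_sum_of_fintype]
  have h2 : ∀ g : G, Nat.card {x : X // act g x = x} = Fintype.card (MulAction.fixedBy X g) := by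
    intro g
    rw [Nat.card_eq_fintype_card]
    apply Fintype.card_congr
    exact Equiv.subtypeEquivRight (fun x => by rw [MulAction.mem_fixedBy, hsmul])
  rw [Finset.sum_congr rfl (fun g _ => h2 g), hB, Nat.card_eq_fintype_card (α := G)]
  congr 1
  rw [← Nat.card_eq_fintype_card]
  apply Nat.card_congr
  apply Quot.congrRight
  intro x y
  show (∃ g : G, y = act g x) ↔ x ∈ MulAction.orbit G y
  rw [MulAction.mem_orbit_iff]
  constructor
  · rintro ⟨g, rfl⟩
    refine ⟨g⁻¹, ?_⟩
    show act g⁻¹ (act g x) = x
    rw [← hmul, inv_mul_cancel, h1]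
  · rintro ⟨g, rfl⟩
    refine ⟨g⁻¹, ?_⟩
    show y = act g⁻¹ (act g y)
    rw [← hmul, inv_mul_cancel, h1]

end Cfsg.Agent.Lib.Helper8
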