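import Mathlib
import Cfsg.Prelude.Def_Characters
import Cfsg.Agent.Lib.Helper1.CharFound8
import Cfsg.Agent.Lib.Helper4.IndNormal
import Cfsg.Agent.Lib.Helper8.OR1

/-!
# Orbits of a group on the irreducible characters and on the elements of a normal subgroup
-/

set_option autoImplicit false

namespace Cfsg.Agent.Lib.Helper8.OrbK

open Cfsg
open scoped ComplexConjugate
open Cfsg.Agent.Lib.Helper1 Cfsg.Agent.Lib.Helper4 Cfsg.Agent.Lib.Helper8

universe u

section

variable {G : Type u} [Group G] (K : Subgroup G) [hK : K.Normal]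

/-- The action of `G` on the irreducible characters of `K`. -/
noncomputable def actIrr (g : G) (θ : IrrCharacter K) : IrrCharacter K :=
  ⟨conjFn K (θ : K → ℂ) g⁻¹, isIrrCharacter_conjFn K θ.2 g⁻¹⟩

theorem actIrr_apply (g : G) (θ : IrrCharacter K) (k : K) :
    (actIrr K g θ : K → ℂ) k
      = (θ : K → ℂ) ⟨g⁻¹ * k * g, by simpa using hK.conj_mem k k.2 g⁻¹⟩ := by
  show conjFn K (θ : K → ℂ) g⁻¹ k = _
  unfold conjFn
  exact congrArg (θ : K → ℂ) (Subtype.ext (by simp))

theorem actIrr_one (θ : IrrCharacter K) : actIrr K 1 θ = θ := by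
  apply Subtype.ext
  show conjFn K (θ : K → ℂ) (1 : G)⁻¹ = _
  rw [inv_one, conjFn_one]

theorem actIrr_mul (g h : G) (θ : IrrCharacter K) :
    actIrr K (g * h) θ = actIrr K g (actIrr K h θ) := by
  apply Subtype.ext
  show conjFn K (θ : K → ℂ) (g * h)⁻¹ = conjFn K (conjFn K (θ : K → ℂ) h⁻¹) g⁻¹
  rw [← conjFn_mul, mul_inv_rev]

/-- The action of `G` on the classes of `K`. -/
def actCl (g : G) (c : ConjClasses K) : ConjClasses K :=
  ConjClasses.map (MulAut.conjNormal g : K ≃* K).toMonoidHom c

theorem actCl_mk (g : G) (x : K) :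
    actCl K g (ConjClasses.mk x) = ConjClasses.mk (MulAut.conjNormal g x : K) := rfl

theorem actCl_one (c : ConjClasses K) : actCl K 1 c = c := by
  obtain ⟨x, rfl⟩ := ConjClasses.mk_surjective c
  rw [actCl_mk, map_one]
  rfl

theorem actCl_mul (g h : G) (c : ConjClasses K) :
    actCl K (g * h) c = actCl K g (actCl K h c) := by
  obtain ⟨x, rfl⟩ := ConjClasses.mk_surjective c
  rw [actCl_mk, actCl_mk, actCl_mk, map_mul]
  rfl

/-- The conjugation map `k ↦ g⁻¹ k g` on the normal subgroup `K`. -/
def conjMap (g : G) (k : K) : K :=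
  ⟨g⁻¹ * (k : G) * g, by simpa using hK.conj_mem k k.2 g⁻¹⟩

theorem comp_conjMap (g : G) (θ : IrrCharacter K) :
    (fun k => (θ : K → ℂ) (conjMap K g k)) = (actIrr K g θ : K → ℂ) := by
  funext k
  rw [actIrr_apply]
  rfl

theorem mk_conjMap (g : G) (x : K) :
    ConjClasses.mk (conjMap K g x) = actCl K g⁻¹ (ConjClasses.mk x) := by
  rw [actCl_mk]
  congr 1
  apply Subtype.ext
  simp [conjMap, MulAut.conjNormal_apply]

theorem isConj_conjMap_iff (g : G) (c : ConjClasses K) :
    IsConj (conjMap K g (Quotient.out c)) (Quotient.out c) ↔ actCl K g c = c := by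
  rw [← ConjClasses.mk_eq_mk_iff_isConj, mk_conjMap]
  have hout : ConjClasses.mk (Quotient.out c) = c := Quotient.out_eq c
  rw [hout]
  constructor
  · intro h
    have h2 := congrArg (actCl K g) h
    rw [← actCl_mul, mul_inv_cancel, actCl_one] at h2
    exact h2.symm
  · intro h
    have h2 := congrArg (actCl K g⁻¹) h
    rw [← actCl_mul, inv_mul_cancel, actCl_one] at h2
    exact h2.symm

/-- Brauer's permutation lemma for the action of `g` on a normal subgroup. -/
theorem card_fixed_irr_eq [Finite G] (g : G) :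
    Nat.card {θ : IrrCharacter K // actIrr K g θ = θ}
      = Nat.card {c : ConjClasses K // actCl K g c = c} := by
  classical
  haveI : Fintype K := Fintype.ofFinite _
  haveI : Fintype (IrrCharacter K) := Fintype.ofFinite _
  haveI : Fintype (ConjClasses K) := Fintype.ofFinite _
  have hβ : ∀ χ : K → ℂ, IsIrrCharacter K χ →
      IsIrrCharacter K (fun k => χ (conjMap K g k)) := by
    intro χ hχ
    have := comp_conjMap K g ⟨χ, hχ⟩
    rw [this]
    exact (actIrr K g ⟨χ, hχ⟩).2
  have hB := brauer_perm_generic (conjMap K g) hβ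
  have hB' : (Finset.univ.filter (fun χ : IrrCharacter K =>
      (fun k => (χ : K → ℂ) (conjMap K g k)) = (χ : K → ℂ))).card
      = (Finset.univ.filter (fun c : ConjClasses K =>
        IsConj (conjMap K g (Quotient.out c)) (Quotient.out c))).card := by
    exact_mod_cast hB
  have hL : Nat.card {θ : IrrCharacter K // actIrr K g θ = θ}
      = (Finset.univ.filter (fun χ : IrrCharacter K =>
      (fun k => (χ : K → ℂ) (conjMap K g k)) = (χ : K → ℂ))).card := by
    rw [← Fintype.card_subtype, ← Nat.card_eq_fintype_card]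
    apply Nat.card_congr
    refine Equiv.subtypeEquivRight (fun θ => ?_)
    rw [comp_conjMap]
    exact ⟨fun h => congrArg Subtype.val h, fun h => Subtype.ext h⟩
  have hR : Nat.card {c : ConjClasses K // actCl K g c = c}
      = (Finset.univ.filter (fun c : ConjClasses K =>
        IsConj (conjMap K g (Quotient.out c)) (Quotient.out c))).card := by
    rw [← Fintype.card_subtype, ← Nat.card_eq_fintype_card]
    apply Nat.card_congr
    exact Equiv.subtypeEquivRight (fun c => (isConj_conjMap_iff K g c).symm)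
  rw [hL, hR, hB']

/-- The numbers of orbits on irreducible characters and on classes agree. -/
theorem card_quot_irr_eq [Finite G] :
    Nat.card (Quot (fun θ η : IrrCharacter K => ∃ g : G, η = actIrr K g θ))
      = Nat.card (Quot (fun c d : ConjClasses K => ∃ g : G, d = actCl K g c)) := by
  classical
  haveI : Fintype K := Fintype.ofFinite _
  have h1 := card_quot_mul_card_eq_sum (G := G) (actIrr K) (actIrr_one K) (actIrr_mul K)
  have h2 := card_quot_mul_card_eq_sum (G := G) (actCl K) (actCl_one K) (actCl_mul K)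
  rw [finsum_congr (card_fixed_irr_eq K), ← h2] at h1
  exact Nat.eq_of_mul_eq_mul_right Nat.card_pos h1

theorem rel_cl_iff (x y : K) :
    (∃ g : G, ConjClasses.mk y = actCl K g (ConjClasses.mk x)) ↔
      ∃ g : G, (y : G) = g * x * g⁻¹ := by
  constructor
  · rintro ⟨g, h1⟩
    rw [actCl_mk, ConjClasses.mk_eq_mk_iff_isConj, isConj_comm, isConj_iff] at h1
    obtain ⟨k, hk⟩ := h1
    refine ⟨k * g, ?_⟩
    have h2 := congrArg Subtype.val hk
    simp only [Subgroup.coe_mul, Subgroup.coe_inv, MulAut.conjNormal_apply] at h2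
    rw [← h2]
    simp [mul_assoc]
  · rintro ⟨g, hg⟩
    refine ⟨g, ?_⟩
    rw [actCl_mk]
    congr 1
    apply Subtype.ext
    rw [hg]
    simp [MulAut.conjNormal_apply]

theorem equivalence_cl :
    Equivalence (fun c d : ConjClasses K => ∃ g : G, d = actCl K g c) := by
  refine ⟨fun c => ⟨1, ?_⟩, ?_, ?_⟩
  · exact (actCl_one K c).symm
  · rintro c d ⟨g, rfl⟩
    refine ⟨g⁻¹, ?_⟩
    rw [← actCl_mul, inv_mul_cancel, actCl_one]
  · rintro c d e ⟨g, rfl⟩ ⟨h, rfl⟩
    exact ⟨h * g, by rw [actCl_mul]⟩

/-- The orbits on elements correspond to the orbits on classes. -/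
theorem card_quot_elements :
    Nat.card (Quot (fun x y : K => ∃ g : G, (y : G) = g * x * g⁻¹))
      = Nat.card (Quot (fun c d : ConjClasses K => ∃ g : G, d = actCl K g c)) := by
  apply Nat.card_congr
  refine Equiv.ofBijective (Quot.map (fun x : K => ConjClasses.mk x)
    (fun x y h => (rel_cl_iff K x y).2 h)) ⟨?_, ?_⟩
  · intro a b
    induction a using Quot.ind with
    | _ x =>
      induction b using Quot.ind with
      | _ y =>
        intro h
        have h1 : Quot.mk (fun c d : ConjClasses K => ∃ g : G, d = actCl K g c)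
            (ConjClasses.mk x) = Quot.mk _ (ConjClasses.mk y) := h
        rw [Quot.eq, (equivalence_cl K).eqvGen_iff] at h1
        exact Quot.sound ((rel_cl_iff K x y).1 h1)
  · intro c
    induction c using Quot.ind with
    | _ c =>
      obtain ⟨x, hx⟩ := ConjClasses.mk_surjective c
      refine ⟨Quot.mk _ x, ?_⟩
      show Quot.mk _ (ConjClasses.mk x) = Quot.mk _ c
      rw [hx]

/-- The `G`-orbits on `K` are the conjugacy classes of `G` contained in `K`. -/
theorem card_quot_elements_eq_classes :
    Nat.card (Quot (fun x y : K => ∃ g : G, (y : G) = g * x * g⁻¹))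
      = Nat.card {C : ConjClasses G // ∀ n : G, ConjClasses.mk n = C → n ∈ K} := by
  apply Nat.card_congr
  have hwd : ∀ x : K, ∀ n : G, ConjClasses.mk n = ConjClasses.mk (x : G) → n ∈ K := by
    intro x n hn
    rw [ConjClasses.mk_eq_mk_iff_isConj, isConj_comm, isConj_iff] at hn
    obtain ⟨t, ht⟩ := hn
    rw [← ht]
    exact hK.conj_mem x x.2 t
  refine Equiv.ofBijective (Quot.lift (fun x : K =>
    (⟨ConjClasses.mk (x : G), hwd x⟩ : {C : ConjClasses G // ∀ n : G, ConjClasses.mk n = C → n ∈ K}))
    ?_) ⟨?_, ?_⟩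
  · rintro x y ⟨g, hg⟩
    apply Subtype.ext
    show ConjClasses.mk (x : G) = ConjClasses.mk (y : G)
    rw [ConjClasses.mk_eq_mk_iff_isConj, isConj_iff]
    exact ⟨g, hg.symm⟩
  · intro a b
    induction a using Quot.ind with
    | _ x =>
      induction b using Quot.ind with
      | _ y =>
        intro h
        have h1 : ConjClasses.mk (x : G) = ConjClasses.mk (y : G) := congrArg Subtype.val h
        rw [ConjClasses.mk_eq_mk_iff_isConj, isConj_iff] at h1
        obtain ⟨g, hg⟩ := h1
        exact Quot.sound ⟨g, hg.symm⟩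
  · rintro ⟨C, hC⟩
    obtain ⟨n, hn⟩ := ConjClasses.mk_surjective C
    refine ⟨Quot.mk _ ⟨n, hC n hn⟩, ?_⟩
    apply Subtype.ext
    exact hn

/-- The number of `G`-orbits on the irreducible characters of the normal subgroup `K` equals
the number of conjugacy classes of `G` contained in `K`. -/
theorem card_quot_irr_eq_classes [Finite G] :
    Nat.card (Quot (fun θ η : IrrCharacter K => ∃ g : G, η = actIrr K g θ))
      = Nat.card {C : ConjClasses G // ∀ n : G, ConjClasses.mk n = C → n ∈ K} := by
  rw [card_quot_irr_eq, ← card_quot_elements, card_quot_elements_eq_classes]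

end

end Cfsg.Agent.Lib.Helper8.OrbK
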