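import Mathlib
import Cfsg.Prelude.Def_Blocks
import Cfsg.Agent.Lib.Helper8.Cover4
import Cfsg.Agent.Lib.Helper8.OR7

/-!
# Blocks and orbits on the characters of a normal `p'`-subgroup carrying the block idempotents
-/

set_option autoImplicit false

namespace Cfsg.Agent.Lib.Helper8

open Cfsg
open scoped ComplexConjugate
open Cfsg.Agent.Lib.Helper1 Cfsg.Agent.Lib.Helper4 Cfsg.Agent.Lib.Helper8.OrbK

universe u

section

variable {G : Type u} [Group G] [Fintype G] (N : Subgroup G) [hN : N.Normal] [Fintype N]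
  {M : Ideal AlgInt} {p : ℕ}

theorem covers_actIrr {B : Set (IrrCharacter G)} {θ : IrrCharacter N} (g : G)
    (hcov : Covers N B {θ}) : Covers N B {actIrr N g θ} := by
  obtain ⟨χ, hχ, θ', hθ', h⟩ := hcov
  rw [Set.mem_singleton_iff] at hθ'
  subst hθ'
  refine ⟨χ, hχ, actIrr N g θ', rfl, ?_⟩
  have h1 := classInner_restrict_conjFn N (isClassFunction_irr χ.2) (θ' : N → ℂ) g⁻¹
  have h2 : (actIrr N g θ' : N → ℂ) = conjFn N (θ' : N → ℂ) g⁻¹ := rfl
  rw [h2, h1]
  exact h

/-- If all block idempotents of `G` are supported on the normal `p'`-subgroup `N`, the blocks of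
`G` correspond to the `G`-orbits on the irreducible characters of `N`. -/
theorem card_blocks_eq_card_orbits (hM : IsPModular p M) (hNp : ¬ p ∣ Nat.card N)
    (hsupp : ∀ B : Set (IrrCharacter G), IsPBlock M B → ∀ g : G, g ∉ N → blockCoeff B g = 0) :
    Nat.card {B : Set (IrrCharacter G) // IsPBlock M B}
      = Nat.card (Quot (fun θ η : IrrCharacter N => ∃ g : G, η = actIrr N g θ)) := by
  classical
  have hMp := isPModular_isPrime hM
  have hb : ∀ θ : IrrCharacter N, IsPBlock M ({θ} : Set (IrrCharacter N)) := fun θ =>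
    ⟨θ, (blockOf_eq_singleton_of_pPrime hM hNp θ).symm⟩
  have hex : ∀ θ : IrrCharacter N, ∃ B : Set (IrrCharacter G), IsPBlock M B ∧ Covers N B {θ} :=
    fun θ => exists_covers N hMp (hb θ)
  have huniq : ∀ (θ : IrrCharacter N) (B B' : Set (IrrCharacter G)), IsPBlock M B → IsPBlock M B' →
      Covers N B {θ} → Covers N B' {θ} → B = B' := fun θ B B' hB hB' hc hc' =>
    covers_unique_of_support N hMp hB hB' (hb θ) hc hc' (hsupp B hB)
  symm
  apply Nat.card_congr
  refine Equiv.ofBijective (Quot.lift (fun θ : IrrCharacter N =>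
    (⟨Classical.choose (hex θ), (Classical.choose_spec (hex θ)).1⟩ :
      {B : Set (IrrCharacter G) // IsPBlock M B})) ?_) ⟨?_, ?_⟩
  · rintro θ η ⟨g, rfl⟩
    apply Subtype.ext
    show Classical.choose (hex θ) = Classical.choose (hex (actIrr N g θ))
    have h1 := Classical.choose_spec (hex θ)
    have h2 := Classical.choose_spec (hex (actIrr N g θ))
    exact huniq (actIrr N g θ) _ _ h1.1 h2.1 (covers_actIrr N g h1.2) h2.2
  · intro a b
    induction a using Quot.ind with
    | _ θ =>
      induction b using Quot.ind with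
      | _ η =>
        intro h
        have h0 : Classical.choose (hex θ) = Classical.choose (hex η) := congrArg Subtype.val h
        have h1 := Classical.choose_spec (hex θ)
        have h2 := Classical.choose_spec (hex η)
        rw [← h0] at h2
        obtain ⟨χ, hχ, η', hη', hin⟩ := h2.2
        rw [Set.mem_singleton_iff] at hη'
        subst hη'
        have h3 := mem_gOrbit_of_covers N hMp h1.1 (hb θ) h1.2 hχ hin
        rw [mem_gOrbit_iff] at h3
        obtain ⟨g, θ', hθ', hg⟩ := h3
        rw [Set.mem_singleton_iff] at hθ'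
        subst hθ'
        apply Quot.sound
        refine ⟨g⁻¹, ?_⟩
        apply Subtype.ext
        funext n
        rw [actIrr_apply, hg n]
        exact congrArg (θ' : N → ℂ) (Subtype.ext (by simp))
  · rintro ⟨B, hB⟩
    obtain ⟨χ, hχ⟩ := isPBlock_nonempty hMp hB
    have hres : IsCharacter N (fun n : N => (χ : G → ℂ) n) :=
      Cfsg.Agent.S0148.isCharacter_restrict N (isCharacter_of_irr χ.2)
    obtain ⟨θ, hθ⟩ := exists_irr_constituent hres (irr_apply_one_ne_zero χ.2)
    refine ⟨Quot.mk _ θ, ?_⟩
    apply Subtype.ext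
    show Classical.choose (hex θ) = B
    have h1 := Classical.choose_spec (hex θ)
    exact huniq θ _ _ h1.1 hB h1.2 ⟨χ, hχ, θ, rfl, hθ⟩

end

end Cfsg.Agent.Lib.Helper8
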