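import Mathlib
import Cfsg.Prelude.Def_Blocks
import Cfsg.Agent.Lib.Helper8.BNS1
import Cfsg.Agent.Lib.Helper8.BNS2
import Cfsg.Agent.Lib.Helper8.BlockNormalP2
import Cfsg.Agent.Lib.Helper8.BlockOrth2

/-!
# The number of blocks of a group with a normal Sylow `p`-subgroup
-/

set_option autoImplicit false

namespace Cfsg.Agent.Lib.Helper8

open Cfsg
open scoped ComplexConjugate
open Cfsg.Agent.Lib.Helper1 Cfsg.Agent.Lib.Helper4 Cfsg.Agent.Lib.Helper8.OrbK

universe u

section

variable {G : Type u} [Group G] [Finite G] {p : ℕ} [hp : Fact p.Prime] {M : Ideal AlgInt}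

/-- If the Sylow `p`-subgroup `P` of `G` is normal, the number of `p`-blocks of `G` is the number
of conjugacy classes of `p`-regular elements centralizing `P`. -/
theorem card_blocks_of_normal_sylow (hM : IsPModular p M) (P : Sylow p G)
    [hPn : (P : Subgroup G).Normal] :
    Nat.card {B : Set (IrrCharacter G) // IsPBlock M B}
      = Nat.card {C : ConjClasses G // ∀ n : G, ConjClasses.mk n = C →
          ¬ p ∣ orderOf n ∧ n ∈ Subgroup.centralizer ((P : Subgroup G) : Set G)} := by
  classical
  haveI : Fintype G := Fintype.ofFinite G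
  haveI : Fintype (pRegCentralizer P) := Fintype.ofFinite _
  have hsupp : ∀ B : Set (IrrCharacter G), IsPBlock M B → ∀ g : G, g ∉ pRegCentralizer P →
      blockCoeff B g = 0 := by
    intro B hB g hg
    by_cases hgC : g ∈ Subgroup.centralizer ((P : Subgroup G) : Set G)
    · have hgo : p ∣ orderOf g := by
        by_contra hcon
        exact hg ((mem_pRegCentralizer_iff P g).2 ⟨hgC, hcon⟩)
      exact blockCoeff_eq_zero_of_dvd_orderOf hM hB hgo
    · exact blockCoeff_eq_zero_of_not_mem_centralizer hM (P : Subgroup G) P.2 hB hgC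
  rw [card_blocks_eq_card_orbits (pRegCentralizer P) hM (not_dvd_card_pRegCentralizer P) hsupp,
    card_quot_irr_eq_classes (pRegCentralizer P)]
  apply Nat.card_congr
  refine Equiv.subtypeEquivRight (fun C => ?_)
  refine forall_congr' (fun n => ?_)
  rw [mem_pRegCentralizer_iff, and_comm]

end

end Cfsg.Agent.Lib.Helper8
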