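import Mathlib
import Cfsg.Prelude.Def_Blocks
import Cfsg.Agent.Lib.Helper8.BNS3
import Cfsg.Agent.Lib.Helper8.BlockFirstMain4
import Cfsg.Agent.Lib.Helper8.BlockPairMax

/-!
# The number of blocks with a Sylow `p`-subgroup as defect group
-/

set_option autoImplicit false

namespace Cfsg.Agent.Lib.Helper8

open Cfsg
open scoped ComplexConjugate
open Cfsg.Agent.Lib.Helper1 Cfsg.Agent.Lib.Helper4

universe u

section

variable {G : Type u} [Group G] [Finite G] {p : ℕ} [hp : Fact p.Prime] {M : Ideal AlgInt}

/-- Every block of a group with a normal Sylow `p`-subgroup has it as a defect group. -/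
theorem isDefectGroup_of_normal_sylow (hM : IsPModular p M) (S : Sylow p G)
    [hSn : (S : Subgroup G).Normal] {b : Set (IrrCharacter G)} (hb : IsPBlock M b) :
    IsDefectGroup p M b (S : Subgroup G) := by
  classical
  have : Fintype G := Fintype.ofFinite G
  have hMp := isPModular_isPrime hM
  obtain ⟨D, hD⟩ := exists_isDefectGroup (p := p) hMp hb
  have hDp : IsPGroup p D := isPGroup_of_isDefectGroup hD
  have hDS : D ≤ (S : Subgroup G) := by
    obtain ⟨Q, hQ⟩ := hDp.exists_le_sylow
    haveI := Sylow.unique_of_normal S hSn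
    have : Q = S := Subsingleton.elim Q S
    rw [← this]
    exact hQ
  have hSD : (S : Subgroup G) ≤ D := by
    obtain ⟨g, hg, P, rfl⟩ := hD
    have hgC : g ∈ Subgroup.centralizer ((S : Subgroup G) : Set G) := by
      by_contra hgC
      have h0 := blockCoeff_eq_zero_of_not_mem_centralizer hM (S : Subgroup G) S.2 hb hgC
      apply hg.2.1
      rw [h0]
      exact memLocalIdeal_zero hMp.ne_top
    have hle : (S : Subgroup G) ≤ Subgroup.centralizer ({g} : Set G) := by
      intro u hu
      rw [Subgroup.mem_centralizer_iff]
      intro z hz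
      rw [Set.mem_singleton_iff] at hz
      subst hz
      exact (Subgroup.mem_centralizer_iff.1 hgC u hu).symm
    have hN : ((S : Subgroup G).subgroupOf (Subgroup.centralizer ({g} : Set G))).Normal :=
      Subgroup.normal_subgroupOf
    have hNp : IsPGroup p ((S : Subgroup G).subgroupOf (Subgroup.centralizer ({g} : Set G))) :=
      S.2.comap_subtype
    have h1 := hNp.le_sylow_of_normal P
    intro u hu
    exact ⟨⟨u, hle hu⟩, h1 (Subgroup.mem_subgroupOf.2 hu), rfl⟩
  have : D = (S : Subgroup G) := le_antisymm hDS hSD
  rw [← this]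
  exact hD

/-- The blocks of `G` with defect group the Sylow `p`-subgroup `P` are counted by the
`p`-regular classes of `N_G(P)` centralizing `P`. -/
theorem card_blocks_sylow_defect (hM : IsPModular p M) (P : Sylow p G) :
    Nat.card {B : Set (IrrCharacter G) // IsPBlock M B ∧ IsDefectGroup p M B (P : Subgroup G)}
      = Nat.card {C : ConjClasses (Subgroup.normalizer ((P : Subgroup G) : Set G)) //
          ∀ n : Subgroup.normalizer ((P : Subgroup G) : Set G), ConjClasses.mk n = C →
            ¬ p ∣ orderOf n ∧ (n : G) ∈ Subgroup.centralizer ((P : Subgroup G) : Set G)} := by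
  classical
  haveI : Fintype G := Fintype.ofFinite G
  have hMp := isPModular_isPrime hM
  set N := Subgroup.normalizer ((P : Subgroup G) : Set G) with hN
  have hPN : (P : Subgroup G) ≤ N := Subgroup.le_normalizer
  set S : Sylow p N := P.subtype hPN with hS
  have hScoe : (S : Subgroup N) = (P : Subgroup G).subgroupOf N := Sylow.coe_subtype P hPN
  haveI hSn : (S : Subgroup N).Normal := by
    rw [hScoe]
    exact Subgroup.normal_in_normalizer
  -- step 1: first main theorem
  have h1 : Nat.card {B : Set (IrrCharacter G) // IsPBlock M B ∧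
        IsDefectGroup p M B (P : Subgroup G)}
      = Nat.card {b : Set (IrrCharacter N) // IsPBlock M b} := by
    have hex : ∀ B : {B : Set (IrrCharacter G) // IsPBlock M B ∧
        IsDefectGroup p M B (P : Subgroup G)}, ∃ b : Set (IrrCharacter N), IsPBlock M b ∧
        IsDefectGroup p M b ((P : Subgroup G).subgroupOf N) ∧ IsInducedBlock M N b B.1 :=
      fun B => firstMain_exists hM (P : Subgroup G) P.2 B.2.1 B.2.2
    apply Nat.card_congr
    refine Equiv.ofBijective (fun B => ⟨Classical.choose (hex B),
      (Classical.choose_spec (hex B)).1⟩) ⟨?_, ?_⟩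
    · intro B B' h
      have h0 : Classical.choose (hex B) = Classical.choose (hex B') := congrArg Subtype.val h
      have e1 := (Classical.choose_spec (hex B)).2.2
      have e2 := (Classical.choose_spec (hex B')).2.2
      rw [← h0] at e2
      exact Subtype.ext (isInducedBlock_unique hMp N e1 e2)
    · rintro ⟨b, hb⟩
      have hbD : IsDefectGroup p M b ((P : Subgroup G).subgroupOf N) := by
        rw [← hScoe]
        exact isDefectGroup_of_normal_sylow hM S hb
      obtain ⟨B, hB, hBD, hind⟩ := firstMain_induce hM (P : Subgroup G) P.2 hb hbD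
      refine ⟨⟨B, hB, hBD⟩, ?_⟩
      apply Subtype.ext
      have e1 := Classical.choose_spec (hex ⟨B, hB, hBD⟩)
      exact firstMain_unique hM (P : Subgroup G) P.2 e1.1 hb e1.2.1 hbD e1.2.2 hind
  rw [h1, card_blocks_of_normal_sylow hM S]
  apply Nat.card_congr
  refine Equiv.subtypeEquivRight (fun C => ?_)
  refine forall_congr' (fun n => ?_)
  refine imp_congr Iff.rfl (and_congr Iff.rfl ?_)
  rw [hScoe, Subgroup.mem_centralizer_iff, Subgroup.mem_centralizer_iff]
  constructor
  · intro h u hu
    have := h ⟨u, hPN hu⟩ (Subgroup.mem_subgroupOf.2 hu)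
    exact congrArg Subtype.val this
  · intro h u hu
    apply Subtype.ext
    exact h (u : G) (Subgroup.mem_subgroupOf.1 hu)

end

end Cfsg.Agent.Lib.Helper8
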