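import Mathlib
import Cfsg.Agent.Lib.Helper8.BPS18
import Cfsg.Agent.Lib.Helper8.BlockPairs6
import Cfsg.Agent.Lib.Helper2.BPR1

/-!
# Inclusion of local points implies inclusion of Brauer pairs
-/

set_option autoImplicit false
set_option linter.unusedSectionVars false

namespace Cfsg.Agent.Lib.Helper8.BPS

open Cfsg Cfsg.Agent.Lib.Helper8

section abstract

variable {Λ : Type*} [Ring Λ] {T : Subring Λ} {P : Set Λ}

/-- a unit of a local corner minus a radical element is a unit -/
theorem FitSub.cunit_sub_crad (h : FitSub T P) {j a x : Λ} (hj : Prim T j) (ha : CUnit T j a)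
    (haT : a ∈ T) (hac : Corner j a) (hx : CRad T P j x) : CUnit T j (a - x) := by
  by_contra hnu
  have h1 := h.crad_of_not_cunit hj (T.sub_mem haT hx.1) (hac.sub hx.2.1) hnu
  have h2 := h.crad_add hj h1 hx
  rw [sub_add_cancel] at h2
  exact h.not_cunit_of_crad hj h2 ha

theorem FitSub.exists_cunit_of_list_sum (h : FitSub T P) {j : Λ} (hj : Prim T j) {α : Type*}
    (L : List α) (f : α → Λ) (hfT : ∀ m ∈ L, f m ∈ T) (hfc : ∀ m ∈ L, Corner j (f m))
    (hu : CUnit T j (L.map f).sum) : ∃ m ∈ L, CUnit T j (f m) := by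
  induction L with
  | nil =>
    exfalso
    rw [List.map_nil, List.sum_nil] at hu
    obtain ⟨b, -, -, hb, -⟩ := hu
    rw [zero_mul] at hb
    exact hj.2.2.1 hb.symm
  | cons a L ih =>
    rw [List.map_cons, List.sum_cons] at hu
    by_cases ha : CUnit T j (f a)
    · exact ⟨a, List.mem_cons_self, ha⟩
    · have hr := h.crad_of_not_cunit hj (hfT a List.mem_cons_self) (hfc a List.mem_cons_self) ha
      have hsT : (L.map f).sum ∈ T := by
        apply Subring.list_sum_mem
        intro x hx
        obtain ⟨m, hm, rfl⟩ := List.mem_map.1 hx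
        exact hfT m (List.mem_cons_of_mem _ hm)
      have hsc : Corner j (L.map f).sum := by
        have : ∀ L' : List α, (∀ m ∈ L', Corner j (f m)) → Corner j (L'.map f).sum := by
          intro L'
          induction L' with
          | nil => intro _; simpa using Corner.zero j
          | cons b L' ih' =>
            intro hb
            rw [List.map_cons, List.sum_cons]
            exact (hb b List.mem_cons_self).add (ih' fun m hm => hb m (List.mem_cons_of_mem _ hm))
        exact this L fun m hm => hfc m (List.mem_cons_of_mem _ hm)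
      have h2 := h.cunit_sub_crad hj hu
        (T.add_mem (hfT a List.mem_cons_self) hsT) ((hfc a List.mem_cons_self).add hsc) hr
      rw [add_sub_cancel_left] at h2
      obtain ⟨m, hm, hmu⟩ := ih (fun m hm => hfT m (List.mem_cons_of_mem _ hm))
        (fun m hm => hfc m (List.mem_cons_of_mem _ hm)) h2
      exact ⟨m, List.mem_cons_of_mem _ hm, hmu⟩

theorem CUnit.self {j : Λ} (hjT : j ∈ T) (hjj : j * j = j) : CUnit T j j :=
  ⟨j, hjT, Corner.self hjj, hjj, hjj⟩

end abstract

universe u

variable {M : Ideal AlgInt} {p : ℕ} {G : Type u} [Group G] [Fintype G] [DecidableEq G]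

section omega

variable [Fact p.Prime] (hM : IsPModular p M)

/-- **The normal step**, with the inclusion of points replaced by the (isomorphism invariant)
condition that `i j' i` is a unit of the corner of `i`. -/
theorem normal_step_lpg' {S N : Subgroup G} (hN : IsPGroup p N) (hSN : S ≤ N)
    (hNS : N ≤ Subgroup.normalizer (S : Set G)) {j' i : GA G}
    {e' : Set (IrrCharacter (Subgroup.centralizer (N : Set G)))}
    {b : Set (IrrCharacter (Subgroup.centralizer (S : Set G)))}
    (hj' : IsLPG M (isPModular_isPrime hM) N j') (he' : IsPBlock M e')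
    (hje' : Bel M (isPModular_isPrime hM) N e' j')
    (hi : IsLPG M (isPModular_isPrime hM) S i) (hb : IsPBlock M b)
    (hib : Bel M (isPModular_isPrime hM) S b i)
    (hc : CUnit (fixedRing M (isPModular_isPrime hM) S) i (i * j' * i)) :
    IsNormalSubpair p M S b N e' := by
  have hMp := isPModular_isPrime hM
  have hSp : IsPGroup p S := hN.to_le hSN
  obtain ⟨b₀, hb₀⟩ := exists_isNormalSubpair hM N S ⟨hN, he'⟩ hSN hNS
  have hb₀B : IsPBlock M b₀ := hb₀.1.2
  have hKN := KBr_isIdeal hM N hN
  have hKS := KBr_isIdeal hM S hSp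
  have hj'T : j' ∈ fixedRing M hMp N := hj'.1.1
  have hj'TS : j' ∈ fixedRing M hMp S := fixedRing_mono hMp hSN hj'T
  have hj'j' : j' * j' = j' := hj'.1.2.1
  have hiT : i ∈ fixedRing M hMp S := hi.1.1
  have he₀N := bidem_mem_fixedRing_of_isNormalSubpair hM hb₀
  have he₀S := bidem_mem_fixedRing hMp S hb₀B
  have hee := bidem_idem (Subgroup.centralizer (S : Set G)) b₀
  -- `j' ≡ j' e₀` modulo `K_N`
  have c1 : Cong (KBr M hMp N) j' (j' * bidem (Subgroup.centralizer (S : Set G)) b₀) := by
    have h1 : Cong (KBr M hMp N) j' (j' * bidem (Subgroup.centralizer (N : Set G)) e') := hje'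
    have h2 := hKN.cong_mul_left j' hj'T (bidem_cong_of_isNormalSubpair hM hb₀)
    have h3 := hKN.cong_mul_right _ he₀N (hKN.cong_symm h1)
    rw [← mul_assoc] at h2
    exact hKN.cong_trans h1 (hKN.cong_trans h2 h3)
  have hCK : Subgroup.centralizer (N : Set G) ≤ Subgroup.centralizer (S : Set G) :=
    Subgroup.centralizer_le (by exact_mod_cast hSN)
  have c2 : Cong (KBr M hMp N) (j' * bidem (Subgroup.centralizer (S : Set G)) b₀)
      (bidem (Subgroup.centralizer (S : Set G)) b₀ * j') :=
    mul_comm_mod_KBr hM hN hj'T he₀N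
      (fun c hc t ht => bidem_classFunction S b₀ c (hCK hc) t (hCK ht))
  have hy₀ : j' - j' * bidem (Subgroup.centralizer (S : Set G)) b₀ * j' ∈ KBr M hMp N := by
    have h1 : Cong (KBr M hMp N) (j' * (bidem (Subgroup.centralizer (S : Set G)) b₀ * j'))
        (j' * (j' * bidem (Subgroup.centralizer (S : Set G)) b₀)) :=
      hKN.cong_mul_left j' hj'T (hKN.cong_symm c2)
    rw [← mul_assoc, ← mul_assoc, hj'j'] at h1
    exact hKN.cong_trans c1 (hKN.cong_symm h1)
  have hy₀c : Corner j' (j' - j' * bidem (Subgroup.centralizer (S : Set G)) b₀ * j') := by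
    constructor
    · rw [mul_sub, hj'j', ← mul_assoc, ← mul_assoc, hj'j']
    · rw [sub_mul, hj'j', mul_assoc, hj'j']
  obtain ⟨-, -, n, hn, hnP⟩ := hj'.crad_of_mem_KBr hM hN hy₀ hy₀c
  have hnK : (j' - j' * bidem (Subgroup.centralizer (S : Set G)) b₀ * j') ^ n ∈ KBr M hMp S :=
    PP_sub_KBr hMp S (PP_mono hMp hSN hnP)
  have hz : j' - j' * bidem (Subgroup.centralizer (S : Set G)) b₀ ∈ KBr M hMp S :=
    mem_of_pow_sandwich hKS hj'TS he₀S hj'j' hee (bidem_comm_mod_KBr hM hSp hj'TS hb₀B) hn hnK
  -- `i ≡ i e₀`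
  have hib₀ : Bel M hMp S b₀ i := by
    obtain ⟨c, hcT, hcc, -, h2⟩ := hc
    -- `(i j' i)(1 - e₀) ∈ K_S`
    have c3 : Cong (KBr M hMp S) (i * bidem (Subgroup.centralizer (S : Set G)) b₀)
        (bidem (Subgroup.centralizer (S : Set G)) b₀ * i) := bidem_comm_mod_KBr hM hSp hiT hb₀B
    have c4 : Cong (KBr M hMp S) (i - i * bidem (Subgroup.centralizer (S : Set G)) b₀)
        (i - bidem (Subgroup.centralizer (S : Set G)) b₀ * i) :=
      hKS.cong_sub (hKS.cong_refl i) c3
    have c5 := hKS.cong_mul_left (i * j') (Subring.mul_mem _ hiT hj'TS) c4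
    have h3 : i * j' * (i - bidem (Subgroup.centralizer (S : Set G)) b₀ * i) =
        i * (j' - j' * bidem (Subgroup.centralizer (S : Set G)) b₀) * i := by noncomm_ring
    rw [h3] at c5
    have h4 : i * (j' - j' * bidem (Subgroup.centralizer (S : Set G)) b₀) * i ∈ KBr M hMp S :=
      hKS.mul_right i hiT _ (hKS.mul_left i hiT _ hz)
    have h5 := hKS.mem_of_cong c5 h4
    have h6 := hKS.mul_left c hcT _ h5
    have h7 : c * (i * j' * (i - i * bidem (Subgroup.centralizer (S : Set G)) b₀)) =
        c * (i * j' * i) * (i - i * bidem (Subgroup.centralizer (S : Set G)) b₀) := by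
      have : i * (i - i * bidem (Subgroup.centralizer (S : Set G)) b₀) =
          i - i * bidem (Subgroup.centralizer (S : Set G)) b₀ := by
        rw [mul_sub, ← mul_assoc, hi.1.2.1]
      calc c * (i * j' * (i - i * bidem (Subgroup.centralizer (S : Set G)) b₀))
          = c * (i * j' * (i * (i - i * bidem (Subgroup.centralizer (S : Set G)) b₀))) := by
            rw [this]
        _ = _ := by noncomm_ring
    rw [h7, h2] at h6
    have h8 : i * (i - i * bidem (Subgroup.centralizer (S : Set G)) b₀) =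
        i - i * bidem (Subgroup.centralizer (S : Set G)) b₀ := by
      rw [mul_sub, ← mul_assoc, hi.1.2.1]
    rw [h8] at h6
    exact h6
  have hbb : b = b₀ := Bel.unique hM hSp hi.2 hb hb₀B hib hib₀
  rw [hbb]
  exact hb₀

/-- the case `S = R` -/
theorem lpg_eq_block {R : Subgroup G} (hR : IsPGroup p R) {j i : GA G}
    {e b : Set (IrrCharacter (Subgroup.centralizer (R : Set G)))}
    (hj : IsLPG M (isPModular_isPrime hM) R j) (he : IsPBlock M e)
    (hje : Bel M (isPModular_isPrime hM) R e j)
    (hi : IsLPG M (isPModular_isPrime hM) R i) (hb : IsPBlock M b)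
    (hib : Bel M (isPModular_isPrime hM) R b i)
    (hc : CUnit (fixedRing M (isPModular_isPrime hM) R) i (i * j * i)) : b = e := by
  have hMp := isPModular_isPrime hM
  have hfit : FitSub (fixedRing M hMp R) (PP M hMp R) := (fitScal_fixedRing hMp R).toFitSub
  have hiT := hi.1.1
  have hjT := hj.1.1
  have hiso : IsoIdem (fixedRing M hMp R) i j := by
    apply hfit.iso_of_cunit hi.1 hj.1 (c := i * j) (c' := j * i) (Subring.mul_mem _ hiT hjT)
      (Subring.mul_mem _ hjT hiT)
    · rw [← mul_assoc, hi.1.2.1]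
    · rw [mul_assoc, hj.1.2.1]
    · rw [← mul_assoc, hj.1.2.1]
    · rw [mul_assoc, hi.1.2.1]
    · have : i * j * (j * i) = i * j * i := by
        rw [mul_assoc, ← mul_assoc j j i, hj.1.2.1, mul_assoc]
      rw [this]
      exact hc
  have h1 : Bel M hMp R e i := Bel.of_iso hM hR he hiso.symm hje
  exact Bel.unique hM hR hi.2 hb he hib h1

theorem conj_orth {N N' : Subgroup G} {j'' : GA G}
    (horth : ∀ x ∈ N, x ∉ N' → cj x j'' * j'' = 0) {y : G} (hy : y ∈ N) :
    ∀ x ∈ N, x ∉ N'.map (MulAut.conj y).toMonoidHom → cj x (cj y j'') * cj y j'' = 0 := by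
  intro x hx hxn
  have h1 : y⁻¹ * x * y ∈ N := N.mul_mem (N.mul_mem (N.inv_mem hy) hx) hy
  have h2 : y⁻¹ * x * y ∉ N' := by
    intro h
    apply hxn
    refine ⟨y⁻¹ * x * y, h, ?_⟩
    simp only [MulEquiv.coe_toMonoidHom, MulAut.conj_apply]
    group
  have h3 := horth _ h1 h2
  have h4 := congrArg (cj y) h3
  rw [cj_mul, cj_cj, cj_zero] at h4
  have h5 : y * (y⁻¹ * x * y) = x * y := by group
  rw [h5, ← cj_cj] at h4
  exact h4

theorem le_map_conj_of_normalizes {S N N' : Subgroup G} (hSN' : S ≤ N')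
    (hNS : N ≤ Subgroup.normalizer (S : Set G)) {y : G} (hy : y ∈ N) :
    S ≤ N'.map (MulAut.conj y).toMonoidHom := by
  intro s hs
  have hyN := hNS (N.inv_mem hy)
  rw [Subgroup.mem_normalizer_iff] at hyN
  have h1 : y⁻¹ * s * y⁻¹⁻¹ ∈ S := (hyN s).1 hs
  rw [inv_inv] at h1
  refine ⟨y⁻¹ * s * y, hSN' h1, ?_⟩
  simp only [MulEquiv.coe_toMonoidHom, MulAut.conj_apply]
  group

theorem map_conj_le_of_mem {N N' : Subgroup G} (hN'N : N' ≤ N) {y : G} (hy : y ∈ N) :
    N'.map (MulAut.conj y).toMonoidHom ≤ N := by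
  rintro _ ⟨x, hx, rfl⟩
  simp only [MulEquiv.coe_toMonoidHom, MulAut.conj_apply]
  exact N.mul_mem (N.mul_mem hy (hN'N hx)) (N.inv_mem hy)

/-- **Inclusion of local points gives inclusion of Brauer pairs.** -/
theorem lpg_subpairLE :
    ∀ (n : ℕ) (R S : Subgroup G), IsPGroup p R → S ≤ R → Nat.card R - Nat.card S ≤ n →
      ∀ (j i : GA G) (e : Set (IrrCharacter (Subgroup.centralizer (R : Set G))))
        (b : Set (IrrCharacter (Subgroup.centralizer (S : Set G)))),
        IsLPG M (isPModular_isPrime hM) R j → IsPBlock M e →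
        Bel M (isPModular_isPrime hM) R e j →
        IsLPG M (isPModular_isPrime hM) S i → IsPBlock M b →
        Bel M (isPModular_isPrime hM) S b i →
        CUnit (fixedRing M (isPModular_isPrime hM) S) i (i * j * i) →
        SubpairLE p M S b R e := by
  classical
  have hMp := isPModular_isPrime hM
  intro n
  induction n with
  | zero =>
    intro R S hR hSR hn j i e b hj he hje hi hb hib hc
    have hcard : Nat.card R ≤ Nat.card S := by omega
    have hSeq : S = R := Subgroup.eq_of_le_of_card_ge hSR hcard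
    subst hSeq
    have := lpg_eq_block hM hR hj he hje hi hb hib hc
    rw [this]
    exact Relation.ReflTransGen.refl
  | succ n ih =>
    intro R S hR hSR hn j i e b hj he hje hi hb hib hc
    by_cases hSeq : S = R
    · subst hSeq
      have := lpg_eq_block hM hR hj he hje hi hb hib hc
      rw [this]
      exact Relation.ReflTransGen.refl
    have hSlt : S < R := lt_of_le_of_ne hSR hSeq
    have hSp : IsPGroup p S := hR.to_le hSR
    obtain ⟨n₀, hn₀R, hn₀S, hn₀N⟩ := exists_normalizer_grow hSlt hR
    set N : Subgroup G := R ⊓ Subgroup.normalizer (S : Set G) with hNdef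
    have hSN : S ≤ N := le_inf hSR Subgroup.le_normalizer
    have hNR : N ≤ R := inf_le_left
    have hNS : N ≤ Subgroup.normalizer (S : Set G) := inf_le_right
    have hNp : IsPGroup p N := hR.to_le hNR
    have hSneN : S ≠ N := by
      intro h
      apply hn₀S
      rw [h]
      exact ⟨hn₀R, hn₀N⟩
    set TS := fixedRing M hMp S with hTS
    set TN := fixedRing M hMp N with hTN
    have hfitS : FitSub TS (PP M hMp S) := (fitScal_fixedRing hMp S).toFitSub
    have hKS := KBr_isIdeal hM S hSp
    have hiT : i ∈ TS := hi.1.1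
    have hii : i * i = i := hi.1.2.1
    have hjR : j ∈ fixedRing M hMp R := hj.1.1
    have hjN : j ∈ TN := fixedRing_mono hMp hNR hjR
    have hjj : j * j = j := hj.1.2.1
    -- primitive decomposition of `j` in `A^N`
    obtain ⟨s, hs1, hs2, hs3⟩ := exists_prim_decomp TN (rk j) j rfl hjN hjj
    have hsum : i * j * i = ∑ e₁ ∈ s, i * e₁ * i := by
      rw [← Finset.sum_mul, ← Finset.mul_sum, hs3]
    rw [hsum] at hc
    obtain ⟨j₁, hj₁s, hj₁u⟩ := hfitS.exists_cunit_of_sum hi.1 s (fun e₁ => i * e₁ * i)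
      (fun e₁ he₁ => TS.mul_mem (TS.mul_mem hiT (fixedRing_mono hMp hSN (hs1 e₁ he₁).1.1)) hiT)
      (fun e₁ _ => Corner.sandwich hii _) hc
    obtain ⟨hj₁P, hj₁c⟩ := hs1 j₁ hj₁s
    have hj₁N : j₁ ∈ TN := hj₁P.1
    -- local decomposition of `j₁` in `A^N`
    obtain ⟨L, hL1, hL2, hL3⟩ := Cfsg.Agent.Lib.Helper2.BPR.exists_local_decomp_corner hM N hNp j₁
      hj₁N hj₁P.2.1
    have hsum2 : i * j₁ * i = (L.map fun m => i * rtr m.1 N m.2 * i).sum := by
      conv_lhs => rw [hL3]
      have : ∀ L' : List (Subgroup G × GA G),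
          i * (L'.map fun m => rtr m.1 N m.2).sum * i = (L'.map fun m => i * rtr m.1 N m.2 * i).sum := by
        intro L'
        induction L' with
        | nil => simp
        | cons a L' ih' =>
          rw [List.map_cons, List.sum_cons, List.map_cons, List.sum_cons, mul_add, add_mul, ih']
      exact this L
    rw [hsum2] at hj₁u
    obtain ⟨m, hmL, hmu⟩ := hfitS.exists_cunit_of_list_sum hi.1 L (fun m => i * rtr m.1 N m.2 * i)
      (fun m hm => TS.mul_mem (TS.mul_mem hiT (fixedRing_mono hMp hSN
        (rtr_mem_fixedRing hMp (hL1 m hm).1 (hL1 m hm).2.1.1))) hiT)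
      (fun m _ => Corner.sandwich hii _) hj₁u
    obtain ⟨hN'N, hj''P, hj''K, hj''o, hj''c⟩ := hL1 m hmL
    set N' := m.1 with hN'
    set j'' := m.2 with hj''
    have hj''T : j'' ∈ fixedRing M hMp N' := hj''P.1
    -- `S ≤ N'`
    have hSN' : S ≤ N' := by
      by_contra hnot
      have hg0 : gtr S N' N j'' = 0 := by
        unfold gtr
        rw [Finset.sum_eq_zero, smul_zero]
        intro y _
        rw [if_neg]
        rintro ⟨hyN, hcar⟩
        apply hnot
        intro s hs
        have hyN' := hNS hyN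
        rw [Subgroup.mem_normalizer_iff] at hyN'
        have h1 : y * s * y⁻¹ ∈ S := (hyN' s).1 hs
        have h2 := hcar _ h1
        have h3 : y⁻¹ * (y * s * y⁻¹) * y = s := by group
        rwa [h3] at h2
      have h1 := rtr_sub_gtr_mem_KBr hM hSp hSN hN'N hj''T
      rw [hg0, sub_zero] at h1
      have h2 : i * rtr N' N j'' * i ∈ KBr M hMp S := hKS.mul_right i hiT _ (hKS.mul_left i hiT _ h1)
      have h3 := hi.crad_of_mem_KBr hM hSp h2 (Corner.sandwich hii _)
      exact hfitS.not_cunit_of_crad hi.1 h3 hmu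
    -- a conjugate `y` with `i (cj y j'') i` a unit
    have hgu : CUnit TS i (i * gtr S N' N j'' * i) := by
      have h1 := rtr_sub_gtr_mem_KBr hM hSp hSN hN'N hj''T
      have h2 : i * (rtr N' N j'' - gtr S N' N j'') * i ∈ KBr M hMp S :=
        hKS.mul_right i hiT _ (hKS.mul_left i hiT _ h1)
      have h3 := hi.crad_of_mem_KBr hM hSp h2 (Corner.sandwich hii _)
      have h4 := hfitS.cunit_sub_crad hi.1 hmu
        (TS.mul_mem (TS.mul_mem hiT (fixedRing_mono hMp hSN (rtr_mem_fixedRing hMp hN'N hj''T))) hiT)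
        (Corner.sandwich hii _) h3
      have h5 : i * rtr N' N j'' * i - i * (rtr N' N j'' - gtr S N' N j'') * i =
          i * gtr S N' N j'' * i := by noncomm_ring
      rwa [h5] at h4
    have : Fintype (G ⧸ N') := Fintype.ofFinite _
    rw [gtr_eq_sum_quotient S hN'N hj''T.2, Finset.mul_sum, Finset.sum_mul] at hgu
    have hconjT : ∀ y ∈ N, cj y j'' ∈ TS := by
      intro y hy
      have h1 := cj_mem_fixedRing hMp y hj''T
      exact fixedRing_mono hMp (le_map_conj_of_normalizes hSN' hNS hy) h1
    obtain ⟨q, -, hqu⟩ := hfitS.exists_cunit_of_sum hi.1 Finset.univ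
      (fun q : G ⧸ N' => i * (if Quotient.out q ∈ N ∧ Carries S N' (Quotient.out q)
        then cj (Quotient.out q) j'' else 0) * i)
      (fun q _ => by
        split_ifs with hq
        · exact TS.mul_mem (TS.mul_mem hiT (hconjT _ hq.1)) hiT
        · rw [mul_zero, zero_mul]; exact TS.zero_mem)
      (fun q _ => Corner.sandwich hii _) hgu
    have hqc : Quotient.out q ∈ N ∧ Carries S N' (Quotient.out q) := by
      by_contra hq
      rw [if_neg hq, mul_zero, zero_mul] at hqu
      exact not_cunit_zero hi.1.2.2.1 hqu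
    rw [if_pos hqc] at hqu
    set y := Quotient.out q with hy
    have hyN : y ∈ N := hqc.1
    -- the conjugate local point
    set S'' := N'.map (MulAut.conj y).toMonoidHom with hS''
    have hSS'' : S ≤ S'' := le_map_conj_of_normalizes hSN' hNS hyN
    have hS''N : S'' ≤ N := map_conj_le_of_mem hN'N hyN
    have hS''R : S'' ≤ R := hS''N.trans hNR
    have hS''p : IsPGroup p S'' := hR.to_le hS''R
    have hj3 : IsLPG M hMp S'' (cj y j'') := IsLPG.conj hMp y ⟨hj''P, hj''K⟩
    have hj3o := conj_orth hj''o hyN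
    have hj3c : Corner j (cj y j'') := by
      have h1 : Corner j₁ (cj y j'') := by
        have := hj''c.conj y
        rwa [hj₁N.2 y hyN] at this
      exact Corner.trans hj₁c h1
    by_cases hcase : S'' = S
    · -- BCP gives a contradiction
      exfalso
      have hb1 := bcp hM hR hS''R hj.1 hj3 hj3c (by
        intro y' hy'R hy'N hy'S
        apply hj3o y' ⟨hy'R, ?_⟩ hy'S
        rw [hcase] at hy'N
        exact hy'N)
      have hne : S'' ≠ R := by rw [hcase]; exact hSeq
      exact hj.2 (trIdeal_sub_KBr hM hR hS''R hne hb1)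
    · -- normal step and induction
      obtain ⟨e3, he3B, he3⟩ := hj3.exists_bel hM hS''p
      have hns := normal_step_lpg' hM hS''p hSS'' (hS''N.trans hNS) hj3 he3B he3 hi hb hib hqu
      have hlt : Nat.card S < Nat.card S'' :=
        subgroup_card_lt_of_lt (lt_of_le_of_ne hSS'' (Ne.symm hcase))
      have hle : Nat.card S'' ≤ Nat.card R := Subgroup.card_le_of_le hS''R
      have hind := ih R S'' hR hS''R (by omega) j (cj y j'') e e3 hj he hje hj3 he3B he3
        (by
          have h1 : cj y j'' * j * cj y j'' = cj y j'' := by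
            rw [hj3c.2, hj3.1.2.1]
          rw [h1]
          exact CUnit.self hj3.1.1 hj3.1.2.1)
      exact Relation.ReflTransGen.head (show NormalSubpairRel p M ⟨S, b⟩ ⟨S'', e3⟩ from hns) hind

end omega

end Cfsg.Agent.Lib.Helper8.BPS
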