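import Mathlib
import Cfsg.Agent.Lib.Helper8.BPS20

/-!
# The block of the restriction of a local point to a subgroup
-/

set_option autoImplicit false
set_option linter.unusedSectionVars false

namespace Cfsg.Agent.Lib.Helper8.BPS

open Cfsg Cfsg.Agent.Lib.Helper8

universe u

variable {M : Ideal AlgInt} {p : ℕ} {G : Type u} [Group G] [Fintype G] [DecidableEq G]

theorem IsIdealOf.sum_mem {Λ : Type*} [Ring Λ] {T : Subring Λ} {K : Set Λ} (hK : IsIdealOf T K)
    {ι : Type*} (s : Finset ι) (f : ι → Λ) (h : ∀ i ∈ s, f i ∈ K) : ∑ i ∈ s, f i ∈ K := by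
  classical
  induction s using Finset.induction_on with
  | empty => simpa using hK.zero
  | insert a s ha ih =>
    rw [Finset.sum_insert ha]
    exact hK.add _ (h a (Finset.mem_insert_self a s)) _
      (ih fun i hi => h i (Finset.mem_insert_of_mem hi))

/-- **(B4)**: a local point `j` of `R` with block `e` belongs, as an idempotent of `A^S`, to the
block `b₀` with `(S, b₀) ≤ (R, e)`. -/
theorem bel_of_subpairLE [Fact p.Prime] (hM : IsPModular p M) {R S : Subgroup G}
    (hR : IsPGroup p R) (hSR : S ≤ R) {j : GA G}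
    {e : Set (IrrCharacter (Subgroup.centralizer (R : Set G)))}
    {b₀ : Set (IrrCharacter (Subgroup.centralizer (S : Set G)))}
    (hj : IsLPG M (isPModular_isPrime hM) R j) (he : IsPBlock M e)
    (hje : Bel M (isPModular_isPrime hM) R e j) (hb₀ : IsPBlock M b₀)
    (hle : SubpairLE p M S b₀ R e) : Bel M (isPModular_isPrime hM) S b₀ j := by
  classical
  have hMp := isPModular_isPrime hM
  have hSp : IsPGroup p S := hR.to_le hSR
  set TS := fixedRing M hMp S with hTS
  have hKS := KBr_isIdeal hM S hSp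
  have hjS : j ∈ TS := fixedRing_mono hMp hSR hj.1.1
  have hjj : j * j = j := hj.1.2.1
  have he₀ := bidem_mem_fixedRing hMp S hb₀
  obtain ⟨s, hs1, -, hs3⟩ := exists_prim_decomp TS (rk j) j rfl hjS hjj
  have key : ∀ i ∈ s, i - i * bidem (Subgroup.centralizer (S : Set G)) b₀ ∈ KBr M hMp S := by
    intro i his
    obtain ⟨hiP, hic⟩ := hs1 i his
    by_cases hiK : i ∈ KBr M hMp S
    · exact hKS.sub' hiK (hKS.mul_right _ he₀ _ hiK)
    · have hi : IsLPG M hMp S i := ⟨hiP, hiK⟩
      obtain ⟨b, hbB, hb⟩ := hi.exists_bel hM hSp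
      have hcu : CUnit TS i (i * j * i) := by
        have : i * j * i = i := by rw [hic.2, hiP.2.1]
        rw [this]
        exact CUnit.self hiP.1 hiP.2.1
      have h1 := lpg_subpairLE hM (Nat.card R - Nat.card S) R S hR hSR le_rfl j i e b hj he hje hi
        hbB hb hcu
      have h2 : b = b₀ := subpairLE_unique hM (Nat.card R) ⟨R, e⟩ ⟨hR, he⟩ le_rfl S b b₀ h1 hle
      rw [h2] at hb
      exact hb
  unfold Bel Cong
  have h1 : j - j * bidem (Subgroup.centralizer (S : Set G)) b₀ =
      ∑ i ∈ s, (i - i * bidem (Subgroup.centralizer (S : Set G)) b₀) := by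
    rw [Finset.sum_sub_distrib, ← Finset.sum_mul, hs3]
  rw [h1]
  exact hKS.sum_mem s _ key

end Cfsg.Agent.Lib.Helper8.BPS
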