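import Mathlib
import Cfsg.Agent.Lib.Helper8.BPS19
import Cfsg.Agent.Lib.Helper8.BPS21
import Cfsg.Agent.Lib.Helper4.BPQ
import Cfsg.Agent.Lib.Helper4.NilB5
import Cfsg.Agent.Lib.Helper8.PairConj3

/-!
# Preparations for the local statement
-/

set_option autoImplicit false
set_option linter.unusedSectionVars false

namespace Cfsg.Agent.Lib.Helper8.BPS

open Cfsg Cfsg.Agent.Lib.Helper8

universe u

variable {M : Ideal AlgInt} {p : ℕ} {G : Type u} [Group G] [Fintype G] [DecidableEq G]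

theorem ev_mul_sum_mul (χ : G → ℂ) (x y : GA G) {ι : Type*} (s : Finset ι) (f : ι → GA G) :
    ev χ (x * (∑ i ∈ s, f i) * y) = ∑ i ∈ s, ev χ (x * f i * y) := by
  rw [Finset.mul_sum, Finset.sum_mul, ev_sum]

theorem ev_mul_smul_mul (χ : G → ℂ) (x y z : GA G) (c : ℂ) :
    ev χ (x * (c • z) * y) = c * ev χ (x * z * y) := by
  rw [mul_smul_comm, smul_mul_assoc, ev_smul]

/-- **second main theorem** for idempotents supported on `p`-regular elements of `C_G(u)` -/
theorem ev_mul_bidem_eq_zero_of_not_pair [Fact p.Prime] (hM : IsPModular p M)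
    {B : Set (IrrCharacter G)} (hB : IsPBlock M B) {χ : IrrCharacter G} (hχ : χ ∈ B) {u : G}
    (hu : ∃ k : ℕ, orderOf u = p ^ k) {ε : GA G}
    (hsupp : ∀ g, ε.coeff g ≠ 0 → g ∈ cent u ∧ ¬ p ∣ orderOf g)
    {b : Set (IrrCharacter ↥(cent u))} (hb : IsPBlock M b)
    (hnot : ¬ IsBrauerPairOf p M B (Subgroup.zpowers u) b) :
    ev (χ : G → ℂ) (og u * ε * bidem (cent u) b) = 0 := by
  have hχcf : IsClassFunction G (χ : G → ℂ) := Cfsg.Agent.Lib.Helper1.isClassFunction_irr χ.2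
  conv_lhs => rw [eq_sum_coeff_og ε]
  rw [ev_mul_sum_mul]
  apply Finset.sum_eq_zero
  intro g _
  rw [ev_mul_smul_mul]
  by_cases hg : ε.coeff g = 0
  · rw [hg, zero_mul]
  · obtain ⟨hgc, hgp⟩ := hsupp g hg
    have h1 := Cfsg.Agent.Lib.Helper4.BPQ.secPart_eq_ev hM hu b hb hχcf ⟨g, hgc⟩
      (by rw [Subgroup.orderOf_mk]; exact hgp)
    have h2 := Cfsg.Agent.Lib.Helper4.NilB.secPart_eq_zero_of_not_pair hM hB hu hb hnot hχ ⟨g, hgc⟩
    rw [h2] at h1
    have h3 : og u * og g * bidem (cent u) b =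
        og u * og ((⟨g, hgc⟩ : ↥(cent u)) : G) * ofFun (subgroupBlockCoeff (cent u) b) := rfl
    rw [h3, ← h1, mul_zero]

/-- elements of `C_G(u)` commute with the block idempotents of `C_G(u)` -/
theorem og_mul_bidem_comm (S : Subgroup G)
    (b : Set (IrrCharacter (Subgroup.centralizer (S : Set G)))) {g : G}
    (hg : g ∈ Subgroup.centralizer (S : Set G)) :
    og g * bidem (Subgroup.centralizer (S : Set G)) b =
      bidem (Subgroup.centralizer (S : Set G)) b * og g := by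
  apply ga_ext
  intro h
  rw [coeff_og_mul, coeff_mul_og]
  by_cases hh : h * g⁻¹ ∈ Subgroup.centralizer (S : Set G)
  · have := bidem_classFunction S b (h * g⁻¹) hh g⁻¹ (Subgroup.inv_mem _ hg)
    rw [← this]
    congr 1
    group
  · have hh' : g⁻¹ * h ∉ Subgroup.centralizer (S : Set G) := by
      intro h1
      apply hh
      have := Subgroup.mul_mem _ (Subgroup.mul_mem _ hg h1) (Subgroup.inv_mem _ hg)
      have e : g * (g⁻¹ * h) * g⁻¹ = h * g⁻¹ := by group
      rwa [e] at this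
    rw [coeff_bidem, coeff_bidem, subgroupBlockCoeff_of_not_mem _ _ hh,
      subgroupBlockCoeff_of_not_mem _ _ hh']

theorem mul_bidem_comm_of_support (S : Subgroup G)
    (b : Set (IrrCharacter (Subgroup.centralizer (S : Set G)))) {ε : GA G}
    (hsupp : ∀ g, ε.coeff g ≠ 0 → g ∈ Subgroup.centralizer (S : Set G)) :
    ε * bidem (Subgroup.centralizer (S : Set G)) b =
      bidem (Subgroup.centralizer (S : Set G)) b * ε := by
  conv_lhs => rw [eq_sum_coeff_og ε]
  conv_rhs => rw [eq_sum_coeff_og ε]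
  rw [Finset.sum_mul, Finset.mul_sum]
  refine Finset.sum_congr rfl fun g _ => ?_
  by_cases hg : ε.coeff g = 0
  · rw [hg, zero_smul, zero_mul, mul_zero]
  · rw [smul_mul_assoc, mul_smul_comm, og_mul_bidem_comm S b (hsupp g hg)]

theorem not_mem_KBr_of_le (hM : M.IsPrime) {S R : Subgroup G} (hSR : S ≤ R) {z : GA G}
    (hz : IsLPG M hM R z) : z ∉ KBr M hM S := by
  intro h
  apply hz.2
  refine ⟨hz.1.1, fun c hc => h.2 c ?_⟩
  exact Subgroup.centralizer_le (by exact_mod_cast hSR) hc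

theorem zpowers_le_map_conj {m1 : Subgroup G} {u y : G} (hu : y⁻¹ * u * y ∈ m1) :
    Subgroup.zpowers u ≤ m1.map (MulAut.conj y).toMonoidHom := by
  rw [Subgroup.zpowers_le]
  refine ⟨y⁻¹ * u * y, hu, ?_⟩
  simp only [MulEquiv.coe_toMonoidHom, MulAut.conj_apply]
  group

/-- **(B4) for conjugates**: the conjugate `cj y j` of a local point of `m1 ≤ Q`, for `y ∈ Q` with
`y⁻¹ u y ∈ m1`, belongs to the block `b'` of `C_G(u)` lying below the conjugate pair. -/
theorem exists_bel_conj [Fact p.Prime] (hM : IsPModular p M) {Q : Subgroup G}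
    (hQ : IsPGroup p Q) {m1 : Subgroup G} {m2 : GA G} (hm1 : m1 ≤ Q)
    (hlpg : IsLPG M (isPModular_isPrime hM) m1 m2)
    {e : Set (IrrCharacter (Subgroup.centralizer (m1 : Set G)))} (he : IsPBlock M e)
    (hbel : Bel M (isPModular_isPrime hM) m1 e m2) {u y : G} (hy : y ∈ Q)
    (hu : y⁻¹ * u * y ∈ m1) :
    ∃ b' : Set (IrrCharacter ↥(cent u)), IsPBlock M b' ∧
      Bel M (isPModular_isPrime hM) (Subgroup.zpowers u) b' (cj y m2) ∧
      SubpairLE p M (Subgroup.zpowers u) b' (m1.map (MulAut.conj y).toMonoidHom)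
        (conjBlock m1 y e) ∧ cj y m2 ∉ KBr M (isPModular_isPrime hM) (Subgroup.zpowers u) := by
  have hMp := isPModular_isPrime hM
  have hR'Q : m1.map (MulAut.conj y).toMonoidHom ≤ Q := map_conj_le_of_mem hm1 hy
  have hR'p : IsPGroup p ↥(m1.map (MulAut.conj y).toMonoidHom) := hQ.to_le hR'Q
  have hm1p : IsPGroup p m1 := hQ.to_le hm1
  have hlpg' := IsLPG.conj hMp y hlpg
  have hpair' := isBrauerPair_conj (p := p) y (⟨hm1p, he⟩ : IsBrauerPair p M m1 e)
  have hbel' := Bel.conj hMp y hbel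
  have hle := zpowers_le_map_conj hu
  obtain ⟨b', hb'P, hb'le⟩ := exists_subpairLE hM _ _ _ _ hpair' hle le_rfl
  refine ⟨b', hb'P.2, ?_, hb'le, not_mem_KBr_of_le hMp hle hlpg'⟩
  exact bel_of_subpairLE hM hR'p hle hlpg' hpair'.2 hbel' hb'P.2 hb'le

end Cfsg.Agent.Lib.Helper8.BPS
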