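import Mathlib
import Cfsg.Agent.Lib.Helper8.BPS22
import Cfsg.Agent.Lib.Lead.BPK
import Cfsg.Agent.Lib.Lead.BPK2
import Cfsg.Agent.Lib.Lead.IdemCut
import Cfsg.Agent.Lib.Helper1.CharFound7
import Cfsg.Agent.Lib.Helper4.Characters
import Cfsg.Agent.Lib.Lead.BPAL3
import Cfsg.Agent.Lib.Helper1.BPW
import Cfsg.Agent.Lib.Helper1.BPJp

/-!
# The local statement
-/

set_option autoImplicit false
set_option linter.unusedSectionVars false

namespace Cfsg.Agent.Lib.Helper8.BPS

open Cfsg Cfsg.Agent.Lib.Helper8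
open scoped ComplexConjugate

universe u

variable {M : Ideal AlgInt} {p : ℕ} {G : Type u} [Group G] [Fintype G] [DecidableEq G]


section main

variable [Fact p.Prime] (hM : IsPModular p M)

open Classical in
/-- the contribution of the local point `m` to the local function -/
noncomputable def piece (p : ℕ) (hMp : M.IsPrime) (B : Set (IrrCharacter G)) (w : StarWeight G) (χ : G → ℂ)
    (Q : Subgroup G) (m : Subgroup G × GA G) : Q → ℂ :=
  fun u => ∑ b ∈ blocksFinset M ↥(cent (u : G)),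
    if IsBrauerPairOf p M B (Subgroup.zpowers (u : G)) b then
      w (u : G) b * ((Nat.card m.1 : ℂ)⁻¹ * ∑ y : G,
        (if y ∈ Q ∧ y⁻¹ * (u : G) * y ∈ m.1 ∧ Bel M hMp (Subgroup.zpowers (u : G)) b (cj y m.2)
          then ev χ (og (y⁻¹ * (u : G) * y) * m.2) else 0))
    else 0

theorem list_sum_mul_left {α : Type*} (L : List α) (c : ℂ) (f : α → ℂ) :
    c * (L.map f).sum = (L.map fun a => c * f a).sum := by
  induction L with
  | nil => simp
  | cons a L ih => rw [List.map_cons, List.sum_cons, List.map_cons, List.sum_cons, mul_add, ih]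

theorem finset_sum_list_sum {α ι : Type*} (s : Finset ι) (L : List α) (f : ι → α → ℂ) :
    ∑ i ∈ s, (L.map (f i)).sum = (L.map fun a => ∑ i ∈ s, f i a).sum := by
  induction L with
  | nil => simp
  | cons a L ih =>
    simp only [List.map_cons, List.sum_cons]
    rw [Finset.sum_add_distrib, ih]

open Classical in
/-- Step A: the local function is the sum of the pieces. -/
theorem thetaLoc_eq_sum_pieces {B : Set (IrrCharacter G)} (hB : IsPBlock M B)
    {w : StarWeight G} {χ : IrrCharacter G} (hχ : χ ∈ B) {Q : Subgroup G} (hQ : IsPGroup p Q)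
    {ε : GA G} (hεε : ε * ε = ε) (hε : ε ∈ fixedRing M (isPModular_isPrime hM) Q)
    (hsupp : ∀ g, ε.coeff g ≠ 0 → g ∈ Subgroup.centralizer (Q : Set G) ∧ ¬ p ∣ orderOf g)
    (L : List (Subgroup G × GA G))
    (hL : ∀ m ∈ L, m.1 ≤ Q ∧ Prim (fixedRing M (isPModular_isPrime hM) m.1) m.2 ∧
        m.2 ∉ KBr M (isPModular_isPrime hM) m.1 ∧ (∀ x ∈ Q, x ∉ m.1 → cj x m.2 * m.2 = 0) ∧
        Corner ε m.2)
    (hLo : L.Pairwise (fun m m' => rtr m.1 Q m.2 * rtr m'.1 Q m'.2 = 0 ∧
        rtr m'.1 Q m'.2 * rtr m.1 Q m.2 = 0))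
    (hLs : ε = (L.map fun m => rtr m.1 Q m.2).sum) (u : Q) :
    thetaLoc M w (χ : G → ℂ) Q ε u =
      (L.map fun m => piece p (isPModular_isPrime hM) B w (χ : G → ℂ) Q m u).sum := by
  have hMp := isPModular_isPrime hM
  have hχcf : IsClassFunction G (χ : G → ℂ) := Cfsg.Agent.Lib.Helper1.isClassFunction_irr χ.2
  have huQ : (u : G) ∈ Q := u.2
  have hup : ∃ k : ℕ, orderOf (u : G) = p ^ k := by
    obtain ⟨k, hk⟩ := (IsPGroup.iff_orderOf.1 hQ) u
    exact ⟨k, by rw [← hk, Subgroup.orderOf_coe]⟩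
  have hCQ : Subgroup.centralizer (Q : Set G) ≤ cent (u : G) := by
    apply Subgroup.centralizer_le
    intro x hx
    exact (Subgroup.zpowers_le.2 huQ) hx
  have hcomm : ∀ b : Set (IrrCharacter ↥(cent (u : G))),
      ε * bidem (cent (u : G)) b = bidem (cent (u : G)) b * ε :=
    fun b => mul_bidem_comm_of_support (Subgroup.zpowers (u : G)) b
      (fun g hg => hCQ (hsupp g hg).1)
  -- the blocks of the local points
  have hbel : ∀ m ∈ L, ∀ y ∈ Q, y⁻¹ * (u : G) * y ∈ m.1 →
      ∃ b' : Set (IrrCharacter ↥(cent (u : G))), IsPBlock M b' ∧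
        Bel M hMp (Subgroup.zpowers (u : G)) b' (cj y m.2) := by
    intro m hm y hy hyu
    obtain ⟨hmQ, hmP, hmK, -, -⟩ := hL m hm
    obtain ⟨e, heB, he⟩ := IsLPG.exists_bel hM (hQ.to_le hmQ) ⟨hmP, hmK⟩
    obtain ⟨b', hb'B, hb', -, -⟩ := exists_bel_conj hM hQ hmQ ⟨hmP, hmK⟩ heB he hy hyu
    exact ⟨b', hb'B, hb'⟩
  unfold thetaLoc piece
  rw [← finset_sum_list_sum]
  refine Finset.sum_congr rfl fun b hb => ?_
  rw [mem_blocksFinset] at hb
  by_cases hpair : IsBrauerPairOf p M B (Subgroup.zpowers (u : G)) b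
  · simp only [if_pos hpair]
    rw [Cfsg.Agent.Lib.Lead.BPAL.ev_idem_bidem_eq_sum hM hQ hε hεε huQ hcomm L hL hLo hLs hbel hb hχcf,
      list_sum_mul_left]
  · simp only [if_neg hpair]
    rw [ev_mul_bidem_eq_zero_of_not_pair hM hB hχ hup
      (fun g hg => ⟨hCQ (hsupp g hg).1, (hsupp g hg).2⟩) hb hpair, mul_zero]
    simp


open Classical in
/-- Step B: every piece has multiplicities in `S`. -/
theorem classInner_piece_mem {B : Set (IrrCharacter G)} {D : Subgroup G}
    {eD : Set (IrrCharacter ↥(Subgroup.centralizer (D : Set G)))}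
    (hmax : IsMaximalBrauerPair p M B D eD) [Fintype D] (S : AddSubgroup ℂ) {η : D → ℂ}
    (hη : IsClassFunction D η) (hS : ∀ ψ : IrrCharacter D, classInner η (ψ : D → ℂ) ∈ S)
    {w : StarWeight G} (hw : IsStarWeight p M B D eD η w) {χ : IrrCharacter G}
    {Q : Subgroup G} [Fintype Q] (hQ : IsPGroup p Q) {m : Subgroup G × GA G} (hmQ : m.1 ≤ Q)
    (hmP : Prim (fixedRing M (isPModular_isPrime hM) m.1) m.2)
    (hmK : m.2 ∉ KBr M (isPModular_isPrime hM) m.1) (lam : Q → ℂ) (hlam : IsCharacter Q lam) :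
    classInner (piece p (isPModular_isPrime hM) B w (χ : G → ℂ) Q m) lam ∈ S := by
  have hMp := isPModular_isPrime hM
  have hB : IsPBlock M B := hmax.1.2.1
  have hχcf : IsClassFunction G (χ : G → ℂ) := Cfsg.Agent.Lib.Helper1.isClassFunction_irr χ.2
  have hm1p : IsPGroup p m.1 := hQ.to_le hmQ
  have hlpg : IsLPG M hMp m.1 m.2 := ⟨hmP, hmK⟩
  obtain ⟨e, heB, he⟩ := hlpg.exists_bel hM hm1p
  have hup : ∀ u : Q, ∃ k : ℕ, orderOf (u : G) = p ^ k := by
    intro u
    obtain ⟨k, hk⟩ := (IsPGroup.iff_orderOf.1 hQ) u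
    exact ⟨k, by rw [← hk, Subgroup.orderOf_coe]⟩
  -- uniqueness of the block of a good conjugate
  have huniq : ∀ (u : Q) (y : G), y ∈ Q → y⁻¹ * (u : G) * y ∈ m.1 →
      ∃ b' : Set (IrrCharacter ↥(cent (u : G))), IsPBlock M b' ∧
        SubpairLE p M (Subgroup.zpowers (u : G)) b' (m.1.map (MulAut.conj y).toMonoidHom)
          (conjBlock m.1 y e) ∧
        ∀ b : Set (IrrCharacter ↥(cent (u : G))), IsPBlock M b →
          (Bel M hMp (Subgroup.zpowers (u : G)) b (cj y m.2) ↔ b = b') := by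
    intro u y hy hyu
    obtain ⟨b', hb'B, hb', hb'le, hnK⟩ := exists_bel_conj hM hQ hmQ hlpg heB he hy hyu
    refine ⟨b', hb'B, hb'le, fun b hbB => ⟨fun hb => ?_, fun hb => hb ▸ hb'⟩⟩
    exact Bel.unique hM (VK.isPGroup_zpowers_of_orderOf (hup u)) hnK hbB hb'B hb hb'
  by_cases hBm : IsBrauerPairOf p M B m.1 e
  · -- the pair of the local point belongs to `B`
    obtain ⟨g, hg⟩ := exists_conj_subpairLE hM hmax hBm
    have hgD : ∀ v ∈ m.1, g * v * g⁻¹ ∈ D := by
      intro v hv
      apply subpairLE_le hg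
      exact ⟨v, hv, by simp⟩
    set Φ : G → ℂ := fun v =>
      (if h : g * v * g⁻¹ ∈ D then η ⟨g * v * g⁻¹, h⟩ else 0) * ev (χ : G → ℂ) (og v * m.2) with hΦ
    have hpiece : piece p hMp B w (χ : G → ℂ) Q m =
        indFun (m.1.subgroupOf Q) (fun v : m.1.subgroupOf Q => Φ ((v : Q) : G)) := by
      funext u
      rw [← Cfsg.Agent.Lib.Helper1.BPJp.weighted_indFun hmQ Φ u]
      unfold piece
      -- rearrange
      have h1 : ∀ b ∈ blocksFinset M ↥(cent (u : G)),
          (if IsBrauerPairOf p M B (Subgroup.zpowers (u : G)) b then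
            w (u : G) b * ((Nat.card m.1 : ℂ)⁻¹ * ∑ y : G,
              (if y ∈ Q ∧ y⁻¹ * (u : G) * y ∈ m.1 ∧
                  Bel M hMp (Subgroup.zpowers (u : G)) b (cj y m.2)
                then ev (χ : G → ℂ) (og (y⁻¹ * (u : G) * y) * m.2) else 0))
          else 0) = (Nat.card m.1 : ℂ)⁻¹ * ∑ y : G,
            (if IsBrauerPairOf p M B (Subgroup.zpowers (u : G)) b ∧ y ∈ Q ∧
                y⁻¹ * (u : G) * y ∈ m.1 ∧ Bel M hMp (Subgroup.zpowers (u : G)) b (cj y m.2)
              then w (u : G) b * ev (χ : G → ℂ) (og (y⁻¹ * (u : G) * y) * m.2) else 0) := by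
        intro b _
        by_cases hpair : IsBrauerPairOf p M B (Subgroup.zpowers (u : G)) b
        · rw [if_pos hpair, mul_left_comm, Finset.mul_sum]
          congr 1
          refine Finset.sum_congr rfl fun y _ => ?_
          by_cases hc : y ∈ Q ∧ y⁻¹ * (u : G) * y ∈ m.1 ∧
              Bel M hMp (Subgroup.zpowers (u : G)) b (cj y m.2)
          · rw [if_pos hc, if_pos ⟨hpair, hc⟩]
          · rw [if_neg hc, if_neg (fun h => hc h.2), mul_zero]
        · rw [if_neg hpair]
          symm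
          rw [Finset.sum_eq_zero, mul_zero]
          intro y _
          rw [if_neg (fun h => hpair h.1)]
      rw [Finset.sum_congr rfl h1, ← Finset.mul_sum, Finset.sum_comm]
      congr 1
      refine Finset.sum_congr rfl fun y _ => ?_
      by_cases hgood : y ∈ Q ∧ y⁻¹ * (u : G) * y ∈ m.1
      · rw [if_pos hgood]
        obtain ⟨b', hb'B, hb'le, hb'u⟩ := huniq u y hgood.1 hgood.2
        obtain ⟨hb'pair, hmem, hwb'⟩ := Cfsg.Agent.Lib.Helper1.BPW.starWeight_eq_of_subpairLE hM hmax hw hBm hg (hup u)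
          hgood.2 hb'le
        rw [Finset.sum_eq_single b']
        · rw [if_pos ⟨hb'pair, hgood.1, hgood.2, (hb'u b' hb'B).2 rfl⟩, hwb', hΦ]
          simp only
          rw [dif_pos hmem]
        · intro b hb hne
          rw [mem_blocksFinset] at hb
          rw [if_neg]
          rintro ⟨-, -, -, hbel⟩
          exact hne ((hb'u b hb).1 hbel)
        · intro h
          exact absurd ((mem_blocksFinset b').2 hb'B) h
      · rw [if_neg hgood]
        apply Finset.sum_eq_zero
        intro b _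
        rw [if_neg]
        rintro ⟨-, h1, h2, -⟩
        exact hgood ⟨h1, h2⟩
    rw [hpiece]
    -- apply (K)
    have : Fintype ↥(m.1.subgroupOf Q) := Fintype.ofFinite _
    set c : ↥(m.1.subgroupOf Q) →* D :=
      { toFun := fun v => ⟨g * ((v : Q) : G) * g⁻¹, hgD _ (Subgroup.mem_subgroupOf.1 v.2)⟩
        map_one' := by
          apply Subtype.ext
          simp
        map_mul' := by
          intro a b
          apply Subtype.ext
          simp [mul_assoc] } with hc
    set ι : ↥(m.1.subgroupOf Q) →* ↥m.1 :=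
      { toFun := fun v => ⟨((v : Q) : G), Subgroup.mem_subgroupOf.1 v.2⟩
        map_one' := rfl
        map_mul' := fun _ _ => rfl } with hι
    have hψ0 : IsCharacter ↥m.1 (fun u : ↥m.1 => ev (χ : G → ℂ) (og (u : G) * m.2)) := by
      have := Cfsg.Agent.Lib.Lead.isCharacter_idem_cut m.1 (χ : G → ℂ)
        (Cfsg.Agent.Lib.Helper4.isCharacter_of_irr χ.2) m.2 hmP.2.1
        (fun u hu => (cj_eq_iff u m.2).1 (hmP.1.2 u hu))
      exact this
    have hψ : IsCharacter ↥(m.1.subgroupOf Q)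
        (fun v : ↥(m.1.subgroupOf Q) => ev (χ : G → ℂ) (og ((v : Q) : G) * m.2)) :=
      Cfsg.Agent.Lib.Helper1.isCharacter_comp_hom hψ0 ι
    have hη' : IsClassFunction ↥(m.1.subgroupOf Q) (fun v => η (c v)) :=
      Cfsg.Agent.Lib.Lead.isClassFunction_comp_hom c hη
    have hS' : ∀ ξ : IrrCharacter ↥(m.1.subgroupOf Q),
        classInner (fun v => η (c v)) (ξ : ↥(m.1.subgroupOf Q) → ℂ) ∈ S := fun ξ =>
      Cfsg.Agent.Lib.Lead.classInner_comp_hom_mem c S η hη hS _
        (Cfsg.Agent.Lib.Helper4.isCharacter_of_irr ξ.2)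
    have key := Cfsg.Agent.Lib.Lead.classInner_indFun_mul_mem (m.1.subgroupOf Q) S
      (fun v => η (c v)) hη' hS' _ hψ lam hlam
    convert key using 3
    funext v
    rw [hΦ]
    simp only
    rw [dif_pos (hgD _ (Subgroup.mem_subgroupOf.1 v.2))]
    rfl
  · -- the pair does not belong to `B`: the piece vanishes
    have hzero : piece p hMp B w (χ : G → ℂ) Q m = 0 := by
      funext u
      unfold piece
      apply Finset.sum_eq_zero
      intro b hb
      rw [mem_blocksFinset] at hb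
      by_cases hpair : IsBrauerPairOf p M B (Subgroup.zpowers (u : G)) b
      · rw [if_pos hpair, Finset.sum_eq_zero, mul_zero, mul_zero]
        intro y _
        rw [if_neg]
        rintro ⟨hyQ, hyu, hbel⟩
        obtain ⟨b', hb'B, hb'le, hb'u⟩ := huniq u y hyQ hyu
        have hbb' := (hb'u b hb).1 hbel
        rw [hbb'] at hpair
        exact Cfsg.Agent.Lib.Helper1.BPW.not_isBrauerPairOf_of_subpairLE hM hB ⟨hm1p, heB⟩ hBm hb'le hpair
      · rw [if_neg hpair]
    rw [hzero, Cfsg.Agent.Lib.Helper4.classInner_zero_left]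
    exact S.zero_mem


theorem classInner_list_sum_mem {Q : Type*} [Group Q] [Fintype Q] (S : AddSubgroup ℂ)
    {α : Type*} (L : List α) (F : α → Q → ℂ) (lam : Q → ℂ)
    (h : ∀ m ∈ L, classInner (F m) lam ∈ S) :
    classInner (fun u => (L.map fun m => F m u).sum) lam ∈ S := by
  induction L with
  | nil =>
    have : (fun u : Q => ((List.nil : List α).map fun m => F m u).sum) = 0 := by
      funext u
      simp
    rw [this, Cfsg.Agent.Lib.Helper4.classInner_zero_left]
    exact S.zero_mem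
  | cons a L ih =>
    have : (fun u : Q => ((a :: L).map fun m => F m u).sum) =
        F a + fun u => (L.map fun m => F m u).sum := by
      funext u
      simp
    rw [this, Cfsg.Agent.Lib.Helper4.classInner_add_left]
    exact S.add_mem (h a List.mem_cons_self) (ih fun m hm => h m (List.mem_cons_of_mem _ hm))

/-- **The local statement.** -/
theorem localStatement : LocalStatement p M (isPModular_isPrime hM) G := by
  intro B D eD hmax _ S η hη hS w hw χ hχ Q _ hQ ε hεε hε hsupp lam hlam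
  have hB : IsPBlock M B := hmax.1.2.1
  obtain ⟨L, hL1, hL2, hL3⟩ :=
    Cfsg.Agent.Lib.Helper2.BPR.exists_local_decomp_corner hM Q hQ ε hε hεε
  have h1 : thetaLoc M w (χ : G → ℂ) Q ε =
      fun u => (L.map fun m => piece p (isPModular_isPrime hM) B w (χ : G → ℂ) Q m u).sum :=
    funext (thetaLoc_eq_sum_pieces hM hB hχ hQ hεε hε hsupp L hL1 hL2 hL3)
  rw [h1]
  apply classInner_list_sum_mem S L
  intro m hm
  obtain ⟨hmQ, hmP, hmK, -, -⟩ := hL1 m hm
  exact classInner_piece_mem hM hmax S hη hS hw hQ hmQ hmP hmK lam hlam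

end main

end Cfsg.Agent.Lib.Helper8.BPS
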