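import Mathlib
import Cfsg.Agent.Lib.Helper8.BPS23
import Cfsg.Agent.Lib.Helper4.BPA2b

/-!
# The Broué–Puig theorem on the `*`-construction

For a block `B` with maximal Brauer pair `(D, e_D)`, a class function `η` of `D` with multiplicities
in an additive subgroup `S` of `ℂ` and a weight system attached to `η` (i.e. `η` is stable under
the fusion of `(D, e_D)`), the function `η * χ` is a class function of `G` with multiplicities in
`S`, for every `χ ∈ Irr(B)`.
-/

set_option autoImplicit false

namespace Cfsg.Agent.Lib.Helper8.BPS

open Cfsg Cfsg.Agent.Lib.Helper8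

universe u

/-- **The Broué–Puig theorem.** -/
theorem tstar {M : Ideal AlgInt} {p : ℕ} {G : Type u} [Group G] [Fintype G] [Fact p.Prime]
    (hM : IsPModular p M) : TstarStatement p M G := by
  classical
  exact Cfsg.Agent.Lib.Helper4.BPA2.tstar_of_local hM (localStatement hM)

end Cfsg.Agent.Lib.Helper8.BPS
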