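import Mathlib
import Cfsg.Prelude.Def_RootSubgroups

/-!
# Unipotent action of a group on a module: flags and fixed points
-/

set_option autoImplicit false

namespace Cfsg.Agent.Lib.Helper8

section

variable {k : Type*} [Field k] {M : Type*} [AddCommGroup M] [Module k M]
variable {Γ : Type*} [Group Γ] (ρ : Γ →* (M →ₗ[k] M))

/-- The descending flag `M ⊇ [M, H] ⊇ [M, H, H] ⊇ …`. -/
def lowFlag (H : Subgroup Γ) : ℕ → Submodule k M
  | 0 => ⊤
  | (j + 1) => ⨆ g ∈ H, (lowFlag H j).map (ρ g - 1)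

/-- `H` acts unipotently. -/
def Unip (H : Subgroup Γ) : Prop := ∃ n, lowFlag ρ H n = ⊥

/-- The fixed points of `H`. -/
def fixSp (H : Subgroup Γ) : Submodule k M := ⨅ g ∈ H, LinearMap.ker (ρ g - 1)

variable {ρ}

theorem mem_fixSp {H : Subgroup Γ} {m : M} : m ∈ fixSp ρ H ↔ ∀ g ∈ H, ρ g m = m := by
  unfold fixSp
  simp only [Submodule.mem_iInf, LinearMap.mem_ker, LinearMap.sub_apply, Module.End.one_apply,
    sub_eq_zero]

theorem lowFlag_zero (H : Subgroup Γ) : lowFlag ρ H 0 = ⊤ := rfl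

theorem lowFlag_succ (H : Subgroup Γ) (j : ℕ) :
    lowFlag ρ H (j + 1) = ⨆ g ∈ H, (lowFlag ρ H j).map (ρ g - 1) := rfl

theorem sub_one_mem_lowFlag {H : Subgroup Γ} {g : Γ} (hg : g ∈ H) {j : ℕ} {m : M}
    (hm : m ∈ lowFlag ρ H j) : (ρ g - 1) m ∈ lowFlag ρ H (j + 1) := by
  rw [lowFlag_succ]
  apply Submodule.mem_iSup_of_mem g
  apply Submodule.mem_iSup_of_mem hg
  exact Submodule.mem_map_of_mem hm

theorem lowFlag_succ_le (H : Subgroup Γ) (j : ℕ) : lowFlag ρ H (j + 1) ≤ lowFlag ρ H j := by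
  induction j with
  | zero => rw [lowFlag_zero]; exact le_top
  | succ j ih =>
    rw [lowFlag_succ, lowFlag_succ]
    apply iSup₂_le
    intro g hg
    apply le_trans (Submodule.map_mono ih)
    apply le_iSup₂_of_le g hg
    exact le_rfl

theorem lowFlag_antitone (H : Subgroup Γ) {i j : ℕ} (hij : i ≤ j) :
    lowFlag ρ H j ≤ lowFlag ρ H i := by
  induction hij with
  | refl => exact le_rfl
  | step _ ih => exact le_trans (lowFlag_succ_le H _) ih

theorem lowFlag_mono {H K : Subgroup Γ} (hHK : H ≤ K) (j : ℕ) :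
    lowFlag ρ H j ≤ lowFlag ρ K j := by
  induction j with
  | zero => exact le_rfl
  | succ j ih =>
    rw [lowFlag_succ, lowFlag_succ]
    apply iSup₂_le
    intro g hg
    apply le_trans (Submodule.map_mono ih)
    exact le_iSup₂_of_le g (hHK hg) le_rfl

theorem Unip.mono {H K : Subgroup Γ} (hHK : H ≤ K) (hK : Unip ρ K) : Unip ρ H := by
  obtain ⟨n, hn⟩ := hK
  exact ⟨n, le_bot_iff.mp (hn ▸ lowFlag_mono hHK n)⟩

/-- Elements of `H` stabilize the flag. -/
theorem apply_mem_lowFlag {H : Subgroup Γ} {g : Γ} (hg : g ∈ H) {j : ℕ} {m : M}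
    (hm : m ∈ lowFlag ρ H j) : ρ g m ∈ lowFlag ρ H j := by
  have h1 : ρ g m = (ρ g - 1) m + m := by
    rw [LinearMap.sub_apply, Module.End.one_apply]; abel
  rw [h1]
  exact Submodule.add_mem _ (lowFlag_succ_le H j (sub_one_mem_lowFlag hg hm)) hm

/-- A unipotent group fixes a nonzero vector. -/
theorem Unip.fixSp_ne_bot [Nontrivial M] {H : Subgroup Γ} (hH : Unip ρ H) : fixSp ρ H ≠ ⊥ := by
  classical
  have hex : ∃ n, lowFlag ρ H n = ⊥ := hH
  have h0 : Nat.find hex ≠ 0 := by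
    intro h0
    have := Nat.find_spec hex
    rw [h0, lowFlag_zero] at this
    exact top_ne_bot this
  obtain ⟨n, hn⟩ := Nat.exists_eq_succ_of_ne_zero h0
  have h1 : lowFlag ρ H n ≠ ⊥ := by
    apply Nat.find_min hex
    rw [hn]
    exact Nat.lt_succ_self n
  have h2 : lowFlag ρ H (n + 1) = ⊥ := by
    have := Nat.find_spec hex
    rw [hn] at this
    exact this
  intro hbot
  apply h1
  rw [eq_bot_iff, ← hbot]
  intro m hm
  rw [mem_fixSp]
  intro g hg
  have h3 := sub_one_mem_lowFlag hg hm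
  rw [h2, Submodule.mem_bot, LinearMap.sub_apply, Module.End.one_apply, sub_eq_zero] at h3
  exact h3

theorem unip_of_fixSp_eq_top {H : Subgroup Γ} (h : fixSp ρ H = ⊤) : Unip ρ H := by
  refine ⟨1, ?_⟩
  rw [lowFlag_succ, eq_bot_iff]
  apply iSup₂_le
  intro g hg
  rintro _ ⟨m, -, rfl⟩
  have hm : m ∈ fixSp ρ H := by rw [h]; trivial
  rw [mem_fixSp] at hm
  rw [Submodule.mem_bot, LinearMap.sub_apply, Module.End.one_apply, hm g hg, sub_self]

theorem fixSp_anti {H K : Subgroup Γ} (hHK : H ≤ K) : fixSp ρ K ≤ fixSp ρ H := by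
  intro m hm
  rw [mem_fixSp] at hm ⊢
  exact fun g hg => hm g (hHK hg)

theorem rho_mul_inv (g : Γ) : ρ g * ρ g⁻¹ = 1 := by
  rw [← map_mul, mul_inv_cancel, map_one]

theorem rho_inv_mul (g : Γ) : ρ g⁻¹ * ρ g = 1 := by
  rw [← map_mul, inv_mul_cancel, map_one]

theorem rho_inv_apply (g : Γ) (m : M) : ρ g⁻¹ (ρ g m) = m := by
  have := congrArg (fun f : M →ₗ[k] M => f m) (rho_inv_mul (ρ := ρ) g)
  simpa using this

theorem rho_apply_inv (g : Γ) (m : M) : ρ g (ρ g⁻¹ m) = m := by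
  have := congrArg (fun f : M →ₗ[k] M => f m) (rho_mul_inv (ρ := ρ) g)
  simpa using this

variable (ρ)

/-- The elements fixing a subspace pointwise. -/
def fixer (F : Submodule k M) : Subgroup Γ where
  carrier := {g | ∀ m ∈ F, ρ g m = m}
  one_mem' := by
    intro m _
    rw [map_one, Module.End.one_apply]
  mul_mem' := by
    intro a b ha hb m hm
    rw [map_mul, Module.End.mul_apply, hb m hm, ha m hm]
  inv_mem' := by
    intro a ha m hm
    have h1 := ha m hm
    calc ρ a⁻¹ m = ρ a⁻¹ (ρ a m) := by rw [h1]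
      _ = m := rho_inv_apply a m

/-- The elements stabilizing a subspace. -/
def stab (F : Submodule k M) : Subgroup Γ where
  carrier := {g | (∀ m ∈ F, ρ g m ∈ F) ∧ ∀ m ∈ F, ρ g⁻¹ m ∈ F}
  one_mem' := by
    constructor
    · intro m hm
      rw [map_one, Module.End.one_apply]; exact hm
    · intro m hm
      rw [inv_one, map_one, Module.End.one_apply]; exact hm
  mul_mem' := by
    intro a b ha hb
    constructor
    · intro m hm
      rw [map_mul, Module.End.mul_apply]
      exact ha.1 _ (hb.1 m hm)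
    · intro m hm
      rw [mul_inv_rev, map_mul, Module.End.mul_apply]
      exact hb.2 _ (ha.2 m hm)
  inv_mem' := by
    intro a ha
    constructor
    · exact ha.2
    · rw [inv_inv]; exact ha.1

variable {ρ}

theorem mem_fixer {F : Submodule k M} {g : Γ} : g ∈ fixer ρ F ↔ ∀ m ∈ F, ρ g m = m := Iff.rfl

theorem mem_stab {F : Submodule k M} {g : Γ} :
    g ∈ stab ρ F ↔ (∀ m ∈ F, ρ g m ∈ F) ∧ ∀ m ∈ F, ρ g⁻¹ m ∈ F := Iff.rfl

theorem fixer_le_stab (F : Submodule k M) : fixer ρ F ≤ stab ρ F := by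
  intro g hg
  have hg' := (fixer ρ F).inv_mem hg
  constructor
  · intro m hm; rw [hg m hm]; exact hm
  · intro m hm; rw [hg' m hm]; exact hm

theorem le_fixer_iff {H : Subgroup Γ} {F : Submodule k M} : H ≤ fixer ρ F ↔ F ≤ fixSp ρ H := by
  constructor
  · intro h m hm
    rw [mem_fixSp]
    intro g hg
    exact h hg m hm
  · intro h g hg m hm
    exact mem_fixSp.mp (h hm) g hg

theorem le_stab_of_subgroup {A : Subgroup Γ} {F : Submodule k M}
    (h : ∀ a ∈ A, ∀ m ∈ F, ρ a m ∈ F) : A ≤ stab ρ F := by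
  intro a ha
  exact ⟨h a ha, h a⁻¹ (A.inv_mem ha)⟩

/-- The fixed space of a join of subgroups. -/
theorem fixSp_iSup {ι : Sort*} (A : ι → Subgroup Γ) : fixSp ρ (⨆ i, A i) = ⨅ i, fixSp ρ (A i) := by
  apply le_antisymm
  · apply le_iInf
    intro i
    exact fixSp_anti (le_iSup A i)
  · rw [← le_fixer_iff]
    apply iSup_le
    intro i
    rw [le_fixer_iff]
    exact iInf_le _ i

theorem fixSp_sup (A B : Subgroup Γ) : fixSp ρ (A ⊔ B) = fixSp ρ A ⊓ fixSp ρ B := by
  apply le_antisymm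
  · exact le_inf (fixSp_anti le_sup_left) (fixSp_anti le_sup_right)
  · rw [← le_fixer_iff]
    apply sup_le
    · rw [le_fixer_iff]; exact inf_le_left
    · rw [le_fixer_iff]; exact inf_le_right

/-- An element normalizing `H` stabilizes its fixed space. -/
theorem apply_mem_fixSp_of_conj {H : Subgroup Γ} {x : Γ} (hx : ∀ g ∈ H, x⁻¹ * g * x ∈ H) {m : M}
    (hm : m ∈ fixSp ρ H) : ρ x m ∈ fixSp ρ H := by
  rw [mem_fixSp] at hm ⊢
  intro g hg
  have h1 := hm _ (hx g hg)
  rw [map_mul, map_mul, Module.End.mul_apply, Module.End.mul_apply] at h1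
  have h2 := congrArg (ρ x) h1
  rw [rho_apply_inv] at h2
  exact h2

end

end Cfsg.Agent.Lib.Helper8
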