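import Mathlib
import Cfsg.Prelude.Def_RootSubgroups
import Cfsg.Agent.Lib.Helper8.BS1

/-!
# Unipotent action: passing to an invariant subspace and its quotient
-/

set_option autoImplicit false

namespace Cfsg.Agent.Lib.Helper8

section

variable {k : Type*} [Field k] {M : Type*} [AddCommGroup M] [Module k M]
variable {Γ : Type*} [Group Γ] (ρ : Γ →* (M →ₗ[k] M)) (F : Submodule k M)

/-- The action of the stabilizer on the subspace. -/
def subRep : ↥(stab ρ F) →* (F →ₗ[k] F) where
  toFun g := (ρ (g : Γ)).restrict (fun m hm => g.2.1 m hm)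
  map_one' := by
    apply LinearMap.ext
    intro m
    apply Subtype.ext
    simp [LinearMap.restrict_apply]
  map_mul' := by
    intro a b
    apply LinearMap.ext
    intro m
    apply Subtype.ext
    simp [LinearMap.restrict_apply]

/-- The action of the stabilizer on the quotient. -/
def quotRep : ↥(stab ρ F) →* ((M ⧸ F) →ₗ[k] (M ⧸ F)) where
  toFun g := F.mapQ F (ρ (g : Γ)) (fun m hm => g.2.1 m hm)
  map_one' := by
    apply LinearMap.ext
    intro q
    obtain ⟨m, rfl⟩ := F.mkQ_surjective q
    simp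
  map_mul' := by
    intro a b
    apply LinearMap.ext
    intro q
    obtain ⟨m, rfl⟩ := F.mkQ_surjective q
    simp

variable {ρ F}

theorem subRep_apply (g : ↥(stab ρ F)) (m : F) : ((subRep ρ F g m : F) : M) = ρ (g : Γ) (m : M) := rfl

theorem quotRep_apply (g : ↥(stab ρ F)) (m : M) :
    quotRep ρ F g (F.mkQ m) = F.mkQ (ρ (g : Γ) m) := by
  rfl

theorem subtype_comp_subRep (g : ↥(stab ρ F)) :
    F.subtype ∘ₗ (subRep ρ F g - 1) = (ρ (g : Γ) - 1) ∘ₗ F.subtype := by
  apply LinearMap.ext
  intro m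
  simp only [LinearMap.comp_apply, LinearMap.sub_apply, Module.End.one_apply, Submodule.subtype_apply,
    Submodule.coe_sub, subRep_apply]

theorem mkQ_comp_rho (g : ↥(stab ρ F)) :
    F.mkQ ∘ₗ (ρ (g : Γ) - 1) = (quotRep ρ F g - 1) ∘ₗ F.mkQ := by
  apply LinearMap.ext
  intro m
  simp only [LinearMap.comp_apply, LinearMap.sub_apply, Module.End.one_apply, map_sub, quotRep_apply]

/-- The flag on the subspace sits inside the flag of the whole space. -/
theorem map_subtype_lowFlag_le (H' : Subgroup ↥(stab ρ F)) (j : ℕ) :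
    (lowFlag (subRep ρ F) H' j).map F.subtype ≤ lowFlag ρ (H'.map (stab ρ F).subtype) j := by
  induction j with
  | zero => rw [lowFlag_zero, lowFlag_zero]; exact le_top
  | succ j ih =>
    rw [lowFlag_succ, Submodule.map_iSup]
    apply iSup_le
    intro g
    rw [Submodule.map_iSup]
    apply iSup_le
    intro hg
    rw [← Submodule.map_comp, subtype_comp_subRep, Submodule.map_comp]
    apply le_trans (Submodule.map_mono ih)
    rw [lowFlag_succ]
    exact le_iSup₂_of_le (g : Γ) (Subgroup.mem_map_of_mem _ hg) le_rfl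

/-- The flag on the quotient is the image of the flag of the whole space. -/
theorem lowFlag_quot_le (H' : Subgroup ↥(stab ρ F)) (j : ℕ) :
    lowFlag (quotRep ρ F) H' j ≤ (lowFlag ρ (H'.map (stab ρ F).subtype) j).map F.mkQ := by
  induction j with
  | zero =>
    rw [lowFlag_zero, lowFlag_zero, Submodule.map_top, Submodule.range_mkQ]
  | succ j ih =>
    rw [lowFlag_succ]
    apply iSup₂_le
    intro g hg
    apply le_trans (Submodule.map_mono ih)
    rw [← Submodule.map_comp, ← mkQ_comp_rho, Submodule.map_comp]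
    apply Submodule.map_mono
    rw [lowFlag_succ]
    exact le_iSup₂_of_le (g : Γ) (Subgroup.mem_map_of_mem _ hg) le_rfl

theorem map_mkQ_lowFlag_le (H' : Subgroup ↥(stab ρ F)) (j : ℕ) :
    (lowFlag ρ (H'.map (stab ρ F).subtype) j).map F.mkQ ≤ lowFlag (quotRep ρ F) H' j := by
  induction j with
  | zero => rw [lowFlag_zero, lowFlag_zero]; exact le_top
  | succ j ih =>
    rw [lowFlag_succ, Submodule.map_iSup]
    apply iSup_le
    intro g
    rw [Submodule.map_iSup]
    apply iSup_le
    intro hg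
    obtain ⟨g', hg', rfl⟩ := Subgroup.mem_map.mp hg
    rw [← Submodule.map_comp]
    have h1 : F.mkQ ∘ₗ (ρ ((stab ρ F).subtype g') - 1) = (quotRep ρ F g' - 1) ∘ₗ F.mkQ :=
      mkQ_comp_rho g'
    rw [h1, Submodule.map_comp]
    apply le_trans (Submodule.map_mono ih)
    rw [lowFlag_succ]
    exact le_iSup₂_of_le g' hg' le_rfl

theorem Unip.subRep {H' : Subgroup ↥(stab ρ F)} (h : Unip ρ (H'.map (stab ρ F).subtype)) :
    Unip (subRep ρ F) H' := by
  obtain ⟨n, hn⟩ := h
  refine ⟨n, ?_⟩
  have h1 := map_subtype_lowFlag_le H' n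
  rw [hn, le_bot_iff] at h1
  rw [eq_bot_iff]
  intro x hx
  have h2 : F.subtype x ∈ (lowFlag (Helper8.subRep ρ F) H' n).map F.subtype :=
    Submodule.mem_map_of_mem hx
  rw [h1, Submodule.mem_bot] at h2
  rw [Submodule.mem_bot]
  exact Subtype.ext h2

theorem Unip.quotRep {H' : Subgroup ↥(stab ρ F)} (h : Unip ρ (H'.map (stab ρ F).subtype)) :
    Unip (quotRep ρ F) H' := by
  obtain ⟨n, hn⟩ := h
  refine ⟨n, ?_⟩
  have h1 := lowFlag_quot_le H' n
  rw [hn, Submodule.map_bot, le_bot_iff] at h1
  exact h1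

/-- Unipotent on an invariant subspace and on the quotient implies unipotent. -/
theorem unip_of_sub_of_quot {H' : Subgroup ↥(stab ρ F)} (h1 : Unip (Helper8.subRep ρ F) H')
    (h2 : Unip (Helper8.quotRep ρ F) H') : Unip ρ (H'.map (stab ρ F).subtype) := by
  obtain ⟨n₁, hn₁⟩ := h1
  obtain ⟨n₂, hn₂⟩ := h2
  have ha : lowFlag ρ (H'.map (stab ρ F).subtype) n₂ ≤ F := by
    have := map_mkQ_lowFlag_le H' n₂
    rw [hn₂, le_bot_iff] at this
    intro m hm
    have h3 : F.mkQ m ∈ (lowFlag ρ (H'.map (stab ρ F).subtype) n₂).map F.mkQ :=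
      Submodule.mem_map_of_mem hm
    rw [this, Submodule.mem_bot, Submodule.mkQ_apply, Submodule.Quotient.mk_eq_zero] at h3
    exact h3
  have hb : ∀ j, lowFlag ρ (H'.map (stab ρ F).subtype) (n₂ + j) ≤
      (lowFlag (Helper8.subRep ρ F) H' j).map F.subtype := by
    intro j
    induction j with
    | zero =>
      rw [add_zero, lowFlag_zero, Submodule.map_top, Submodule.range_subtype]
      exact ha
    | succ j ih =>
      rw [← add_assoc, lowFlag_succ]
      apply iSup₂_le
      intro g hg
      obtain ⟨g', hg', rfl⟩ := Subgroup.mem_map.mp hg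
      apply le_trans (Submodule.map_mono ih)
      rw [← Submodule.map_comp]
      have h3 : (ρ ((stab ρ F).subtype g') - 1) ∘ₗ F.subtype =
          F.subtype ∘ₗ (Helper8.subRep ρ F g' - 1) := (subtype_comp_subRep g').symm
      rw [h3, Submodule.map_comp]
      apply Submodule.map_mono
      rw [lowFlag_succ]
      exact le_iSup₂_of_le g' hg' le_rfl
  refine ⟨n₂ + n₁, ?_⟩
  have := hb n₁
  rw [hn₁, Submodule.map_bot, le_bot_iff] at this
  exact this

end

end Cfsg.Agent.Lib.Helper8
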