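import Mathlib
import Cfsg.Prelude.Def_RootSubgroups

set_option autoImplicit false

namespace Cfsg.Agent.Lib.Helper8

variable {G : Type*} [Group G]

theorem mem_conjBy {A : Subgroup G} {g x : G} : x ∈ Cfsg.conjBy A g ↔ g⁻¹ * x * g ∈ A := by
  unfold Cfsg.conjBy
  rw [Subgroup.mem_map]
  constructor
  · rintro ⟨a, ha, rfl⟩
    simpa [MulAut.conj_apply, mul_assoc] using ha
  · intro h
    refine ⟨g⁻¹ * x * g, h, ?_⟩
    simp [MulAut.conj_apply, mul_assoc]

theorem conj_mem_conjBy {A : Subgroup G} {g a : G} (ha : a ∈ A) : g * a * g⁻¹ ∈ Cfsg.conjBy A g := by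
  rw [mem_conjBy]
  have : g⁻¹ * (g * a * g⁻¹) * g = a := by group
  rwa [this]

theorem conjBy_conjBy (A : Subgroup G) (g h : G) :
    Cfsg.conjBy (Cfsg.conjBy A g) h = Cfsg.conjBy A (h * g) := by
  ext x
  rw [mem_conjBy, mem_conjBy, mem_conjBy]
  have : g⁻¹ * (h⁻¹ * x * h) * g = (h * g)⁻¹ * x * (h * g) := by group
  rw [this]

@[simp]
theorem conjBy_one (A : Subgroup G) : Cfsg.conjBy A 1 = A := by
  ext x
  rw [mem_conjBy]
  simp

theorem conjBy_eq_self_iff {A : Subgroup G} {g : G} :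
    Cfsg.conjBy A g = A ↔ g ∈ Subgroup.normalizer (A : Set G) := by
  rw [Subgroup.mem_normalizer_iff]
  constructor
  · intro h x
    constructor
    · intro hx
      rw [← h]
      exact conj_mem_conjBy hx
    · intro hx
      rw [← h, mem_conjBy] at hx
      have : g⁻¹ * (g * x * g⁻¹) * g = x := by group
      rwa [this] at hx
  · intro h
    ext x
    rw [mem_conjBy, h (g⁻¹ * x * g)]
    have : g * (g⁻¹ * x * g) * g⁻¹ = x := by group
    rw [this]

theorem conjBy_eq_self_of_mem {A : Subgroup G} {g : G} (hg : g ∈ A) : Cfsg.conjBy A g = A :=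
  conjBy_eq_self_iff.mpr (Subgroup.le_normalizer hg)

theorem conjBy_eq_iff {A B : Subgroup G} {g : G} :
    Cfsg.conjBy A g = B ↔ A = Cfsg.conjBy B g⁻¹ := by
  constructor
  · rintro rfl
    rw [conjBy_conjBy]; simp
  · rintro rfl
    rw [conjBy_conjBy]; simp

theorem conjBy_injective (g : G) {A B : Subgroup G} (h : Cfsg.conjBy A g = Cfsg.conjBy B g) :
    A = B := by
  rw [conjBy_eq_iff, conjBy_conjBy] at h
  simpa using h

theorem conjBy_mono {A B : Subgroup G} (h : A ≤ B) (g : G) : Cfsg.conjBy A g ≤ Cfsg.conjBy B g :=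
  Subgroup.map_mono h

theorem conjBy_sup (A B : Subgroup G) (g : G) :
    Cfsg.conjBy (A ⊔ B) g = Cfsg.conjBy A g ⊔ Cfsg.conjBy B g :=
  Subgroup.map_sup A B _

theorem conjBy_le_of_mem {A X : Subgroup G} (hA : A ≤ X) {g : G} (hg : g ∈ X) :
    Cfsg.conjBy A g ≤ X := by
  intro x hx
  rw [mem_conjBy] at hx
  have : x = g * (g⁻¹ * x * g) * g⁻¹ := by group
  rw [this]
  exact X.mul_mem (X.mul_mem hg (hA hx)) (X.inv_mem hg)

end Cfsg.Agent.Lib.Helper8
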