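import Mathlib
import Cfsg.Prelude.Def_RootSubgroups
import Cfsg.Agent.Lib.Helper8.BS1
import Cfsg.Agent.Lib.Helper8.ConjBy

/-!
# Unipotent action: the congruence filtration and a normalizer argument
-/

set_option autoImplicit false

namespace Cfsg.Agent.Lib.Helper8

section Chain

variable {Γ : Type*} [Group Γ]

/-- In a chain of subgroups each normalized by the next, a family of subgroups of the top term
that is not inside the bottom term has a member outside the bottom term whose elements permute the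
members inside the bottom term. -/
theorem exists_member_conj_le (T : ℕ → Subgroup Γ) (hmono : ∀ i, T i ≤ T (i + 1))
    (hnorm : ∀ i, ∀ z ∈ T (i + 1), ∀ t ∈ T i, z * t * z⁻¹ ∈ T i) (r : ℕ)
    (P : Set (Subgroup Γ)) (hle : ∀ A ∈ P, A ≤ T r)
    (hinv : ∀ A ∈ P, ∀ g ∈ T r, Cfsg.conjBy A g ∈ P) (hne : ∃ A ∈ P, ¬ A ≤ T 0) :
    ∃ X ∈ P, ¬ X ≤ T 0 ∧ ∀ x ∈ X, ∀ A ∈ P, A ≤ T 0 → Cfsg.conjBy A x ≤ T 0 := by
  classical
  have hmono' : ∀ i j, i ≤ j → T i ≤ T j := by
    intro i j hij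
    induction hij with
    | refl => exact le_rfl
    | step _ ih => exact le_trans ih (hmono _)
  have hex : ∃ i, ∃ X ∈ P, X ≤ T i ∧ ¬ X ≤ T 0 := by
    obtain ⟨A, hA, hA0⟩ := hne
    exact ⟨r, A, hA, hle A hA, hA0⟩
  have hir : Nat.find hex ≤ r := by
    apply Nat.find_min'
    obtain ⟨A, hA, hA0⟩ := hne
    exact ⟨A, hA, hle A hA, hA0⟩
  obtain ⟨X, hX, hXi, hX0⟩ := Nat.find_spec hex
  have hi0 : Nat.find hex ≠ 0 := by
    intro h0
    rw [h0] at hXi
    exact hX0 hXi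
  obtain ⟨j, hj⟩ := Nat.exists_eq_succ_of_ne_zero hi0
  refine ⟨X, hX, hX0, ?_⟩
  intro x hx A hA hA0
  have hxT : x ∈ T (j + 1) := by
    have := hXi hx
    rw [hj] at this
    exact this
  have hxr : x ∈ T r := hmono' _ _ (by omega) hxT
  have h1 : Cfsg.conjBy A x ∈ P := hinv A hA x hxr
  have h2 : Cfsg.conjBy A x ≤ T j := by
    intro y hy
    rw [mem_conjBy] at hy
    have h3 : x⁻¹ * y * x ∈ T j := hmono' 0 j (Nat.zero_le j) (hA0 hy)
    have h4 := hnorm j x hxT _ h3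
    have h5 : x * (x⁻¹ * y * x) * x⁻¹ = y := by group
    rw [h5] at h4
    exact h4
  by_contra hcon
  have hlt : j < Nat.find hex := by omega
  exact Nat.find_min hex hlt ⟨_, h1, h2, hcon⟩

end Chain

section

variable {k : Type*} [Field k] {M : Type*} [AddCommGroup M] [Module k M]
variable {Γ : Type*} [Group Γ] (ρ : Γ →* (M →ₗ[k] M))

/-- The congruence filtration attached to the flag of `H`. -/
def filt (H : Subgroup Γ) (i : ℕ) : Subgroup Γ where
  carrier := {g | ∀ j, ∀ m ∈ lowFlag ρ H j,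
    (ρ g - 1) m ∈ lowFlag ρ H (j + i) ∧ (ρ g⁻¹ - 1) m ∈ lowFlag ρ H (j + i)}
  one_mem' := by
    intro j m _
    simp
  mul_mem' := by
    intro a b ha hb j m hm
    have e1 : (ρ (a * b) - 1) m = (ρ a - 1) ((ρ b - 1) m) + ((ρ a - 1) m + (ρ b - 1) m) := by
      simp only [map_mul, LinearMap.sub_apply, Module.End.mul_apply, Module.End.one_apply, map_sub]
      abel
    have e2 : (ρ (a * b)⁻¹ - 1) m =
        (ρ b⁻¹ - 1) ((ρ a⁻¹ - 1) m) + ((ρ b⁻¹ - 1) m + (ρ a⁻¹ - 1) m) := by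
      simp only [mul_inv_rev, map_mul, LinearMap.sub_apply, Module.End.mul_apply,
        Module.End.one_apply, map_sub]
      abel
    constructor
    · rw [e1]
      refine Submodule.add_mem _ ?_ (Submodule.add_mem _ (ha j m hm).1 (hb j m hm).1)
      exact lowFlag_antitone H (by omega) (ha (j + i) _ (hb j m hm).1).1
    · rw [e2]
      refine Submodule.add_mem _ ?_ (Submodule.add_mem _ (hb j m hm).2 (ha j m hm).2)
      exact lowFlag_antitone H (by omega) (hb (j + i) _ (ha j m hm).2).2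
  inv_mem' := by
    intro a ha j m hm
    rw [inv_inv]
    exact ⟨(ha j m hm).2, (ha j m hm).1⟩

variable {ρ}

theorem mem_filt {H : Subgroup Γ} {i : ℕ} {g : Γ} :
    g ∈ filt ρ H i ↔ ∀ j, ∀ m ∈ lowFlag ρ H j,
      (ρ g - 1) m ∈ lowFlag ρ H (j + i) ∧ (ρ g⁻¹ - 1) m ∈ lowFlag ρ H (j + i) := Iff.rfl

theorem le_filt_one (H : Subgroup Γ) : H ≤ filt ρ H 1 := by
  intro g hg j m hm
  exact ⟨sub_one_mem_lowFlag hg hm, sub_one_mem_lowFlag (H.inv_mem hg) hm⟩

theorem filt_anti (H : Subgroup Γ) {a b : ℕ} (hab : a ≤ b) : filt ρ H b ≤ filt ρ H a := by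
  intro g hg j m hm
  exact ⟨lowFlag_antitone H (by omega) (hg j m hm).1, lowFlag_antitone H (by omega) (hg j m hm).2⟩

theorem apply_eq_of_mem_filt {H : Subgroup Γ} {n : ℕ} (hn : lowFlag ρ H n = ⊥) {g : Γ}
    (hg : g ∈ filt ρ H n) (m : M) : ρ g m = m := by
  have h1 := (hg 0 m (by rw [lowFlag_zero]; trivial)).1
  rw [zero_add, hn, Submodule.mem_bot, LinearMap.sub_apply, Module.End.one_apply, sub_eq_zero] at h1
  exact h1

theorem apply_mem_of_mem_filt {H : Subgroup Γ} {i : ℕ} {g : Γ} (hg : g ∈ filt ρ H i) {j : ℕ}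
    {m : M} (hm : m ∈ lowFlag ρ H j) : ρ g m ∈ lowFlag ρ H j := by
  have h1 : ρ g m = (ρ g - 1) m + m := by
    rw [LinearMap.sub_apply, Module.End.one_apply]; abel
  rw [h1]
  exact Submodule.add_mem _ (lowFlag_antitone H (by omega) (hg j m hm).1) hm

theorem commutator_sub_one_mem {H : Subgroup Γ} {a b : ℕ} {z s : Γ} (hz : z ∈ filt ρ H a)
    (hs : s ∈ filt ρ H b) {j : ℕ} {m : M} (hm : m ∈ lowFlag ρ H j) :
    (ρ (z * s * z⁻¹ * s⁻¹) - 1) m ∈ lowFlag ρ H (j + (a + b)) := by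
  have hm' : ρ z⁻¹ (ρ s⁻¹ m) ∈ lowFlag ρ H j :=
    apply_mem_of_mem_filt ((filt ρ H a).inv_mem hz)
      (apply_mem_of_mem_filt ((filt ρ H b).inv_mem hs) hm)
  have e : (ρ (z * s * z⁻¹ * s⁻¹) - 1) m =
      (ρ z - 1) ((ρ s - 1) (ρ z⁻¹ (ρ s⁻¹ m))) - (ρ s - 1) ((ρ z - 1) (ρ z⁻¹ (ρ s⁻¹ m))) := by
    simp only [map_mul, LinearMap.sub_apply, Module.End.mul_apply, Module.End.one_apply, map_sub]
    rw [rho_apply_inv, rho_apply_inv]
    abel
  rw [e]
  apply Submodule.sub_mem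
  · have h1 := (hs j _ hm').1
    have h2 := (hz (j + b) _ h1).1
    exact lowFlag_antitone H (by omega) h2
  · have h1 := (hz j _ hm').1
    have h2 := (hs (j + a) _ h1).1
    exact lowFlag_antitone H (by omega) h2

theorem commutator_mem_filt {H : Subgroup Γ} {a b : ℕ} {z s : Γ} (hz : z ∈ filt ρ H a)
    (hs : s ∈ filt ρ H b) : z * s * z⁻¹ * s⁻¹ ∈ filt ρ H (a + b) := by
  intro j m hm
  constructor
  · exact commutator_sub_one_mem hz hs hm
  · have h1 : (z * s * z⁻¹ * s⁻¹)⁻¹ = s * z * s⁻¹ * z⁻¹ := by group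
    rw [h1]
    have := commutator_sub_one_mem hs hz hm
    rw [add_comm b a] at this
    exact this

end

end Cfsg.Agent.Lib.Helper8
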