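import Mathlib
import Cfsg.Prelude.Def_RootSubgroups
import Cfsg.Agent.Lib.Helper8.BS3

/-!
# Unipotent action: a member of an invariant family normalizing a saturated subfamily
-/

set_option autoImplicit false

namespace Cfsg.Agent.Lib.Helper8

section

variable {k : Type*} [Field k] {M : Type*} [AddCommGroup M] [Module k M]
variable {Γ : Type*} [Group Γ] {ρ : Γ →* (M →ₗ[k] M)}

theorem conjBy_iSup₂ (S : Set (Subgroup Γ)) (y : Γ) :
    Cfsg.conjBy (⨆ B ∈ S, B) y = ⨆ B ∈ S, Cfsg.conjBy B y := by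
  unfold Cfsg.conjBy
  rw [Subgroup.map_iSup]
  congr 1
  funext B
  rw [Subgroup.map_iSup]

/-- conjugation by an element of a smaller term of the congruence filtration preserves
`I₀ ⊔ (H ⊓ filt b)` -/
theorem conj_mem_chain {H I₀ : Subgroup Γ} (hI₀ : I₀ ≤ H) {a b : ℕ} (hab : b ≤ a + 1) {z : Γ}
    (hzH : z ∈ H) (hz : z ∈ filt ρ H a) {t : Γ} (ht : t ∈ I₀ ⊔ (H ⊓ filt ρ H b)) :
    z * t * z⁻¹ ∈ I₀ ⊔ (H ⊓ filt ρ H b) := by
  have hle : I₀ ⊔ (H ⊓ filt ρ H b) ≤
      (I₀ ⊔ (H ⊓ filt ρ H b)).comap (MulAut.conj z).toMonoidHom := by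
    apply sup_le
    · intro s hs
      rw [Subgroup.mem_comap]
      show z * s * z⁻¹ ∈ _
      have h1 : z * s * z⁻¹ = (z * s * z⁻¹ * s⁻¹) * s := by group
      rw [h1]
      apply Subgroup.mul_mem
      · apply Subgroup.mem_sup_right
        refine ⟨?_, ?_⟩
        · exact H.mul_mem (H.mul_mem (H.mul_mem hzH (hI₀ hs)) (H.inv_mem hzH))
            (H.inv_mem (hI₀ hs))
        · exact filt_anti H hab (commutator_mem_filt hz (le_filt_one H (hI₀ hs)))
      · exact Subgroup.mem_sup_left hs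
    · intro s hs
      rw [Subgroup.mem_comap]
      show z * s * z⁻¹ ∈ _
      have h1 : z * s * z⁻¹ = (z * s * z⁻¹ * s⁻¹) * s := by group
      rw [h1]
      apply Subgroup.mem_sup_right
      apply Subgroup.mul_mem _ _ hs
      refine ⟨?_, ?_⟩
      · exact H.mul_mem (H.mul_mem (H.mul_mem hzH hs.1) (H.inv_mem hzH)) (H.inv_mem hs.1)
      · exact filt_anti H (by omega) (commutator_mem_filt hz hs.2)
  exact hle ht

theorem exists_member_le_stab {H : Subgroup Γ} (hH : Unip ρ H) (P S : Set (Subgroup Γ))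
    (hle : ∀ A ∈ P, A ≤ H) (hinv : ∀ A ∈ P, ∀ g ∈ H, Cfsg.conjBy A g ∈ P) (hSP : S ⊆ P)
    (hsat : ∀ A ∈ P, A ≤ fixer ρ (fixSp ρ (⨆ B ∈ S, B)) → A ∈ S)
    (hne : ∃ A ∈ P, A ∉ S) :
    ∃ X ∈ P, X ∉ S ∧ X ≤ stab ρ (fixSp ρ (⨆ B ∈ S, B)) := by
  obtain ⟨n, hn⟩ := hH
  obtain ⟨I₀, hI₀def⟩ : ∃ I₀ : Subgroup Γ, I₀ = ⨆ B ∈ S, B := ⟨_, rfl⟩
  rw [← hI₀def] at hsat ⊢
  have hSI : ∀ A ∈ S, A ≤ I₀ := by
    intro A hA
    rw [hI₀def]
    exact le_iSup₂_of_le A hA le_rfl
  have hI₀ : I₀ ≤ H := by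
    rw [hI₀def]
    exact iSup₂_le fun B hB => hle B (hSP hB)
  obtain ⟨T, hTdef⟩ : ∃ T : ℕ → Subgroup Γ, T = fun i => I₀ ⊔ (H ⊓ filt ρ H (n - i)) := ⟨_, rfl⟩
  have hTi : ∀ i, T i = I₀ ⊔ (H ⊓ filt ρ H (n - i)) := fun i => by rw [hTdef]
  have hmono : ∀ i, T i ≤ T (i + 1) := by
    intro i
    rw [hTi, hTi]
    exact sup_le_sup_left (inf_le_inf_left _ (filt_anti H (by omega))) _
  have hTH : ∀ i, T i ≤ H := by
    intro i
    rw [hTi]
    exact sup_le hI₀ inf_le_left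
  have hTn : T n = H := by
    apply le_antisymm (hTH n)
    rw [hTi, Nat.sub_self]
    apply le_trans _ le_sup_right
    exact le_inf le_rfl (le_trans (le_filt_one H) (filt_anti H (Nat.zero_le 1)))
  have hT0 : T 0 ≤ fixer ρ (fixSp ρ I₀) := by
    rw [hTi, Nat.sub_zero]
    apply sup_le
    · rw [le_fixer_iff]
    · intro g hg m _
      exact apply_eq_of_mem_filt hn hg.2 m
  have hnorm : ∀ i, ∀ z ∈ T (i + 1), ∀ t ∈ T i, z * t * z⁻¹ ∈ T i := by
    intro i
    have h1 : T (i + 1) ≤ Subgroup.normalizer (T i : Set Γ) := by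
      rw [hTi (i + 1)]
      apply sup_le
      · intro s hs
        have hsT : s ∈ T i := by rw [hTi]; exact Subgroup.mem_sup_left hs
        rw [Subgroup.mem_normalizer_iff]
        intro h
        constructor
        · intro hh
          exact (T i).mul_mem ((T i).mul_mem hsT hh) ((T i).inv_mem hsT)
        · intro hh
          have := (T i).mul_mem ((T i).mul_mem ((T i).inv_mem hsT) hh) hsT
          have e : s⁻¹ * (s * h * s⁻¹) * s = h := by group
          rw [e] at this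
          exact this
      · intro z hz
        rw [Subgroup.mem_normalizer_iff]
        intro h
        rw [hTi i]
        constructor
        · intro hh
          exact conj_mem_chain hI₀ (by omega) hz.1 hz.2 hh
        · intro hh
          have := conj_mem_chain hI₀ (a := n - (i + 1)) (b := n - i) (by omega) (H.inv_mem hz.1)
            ((filt ρ H _).inv_mem hz.2) hh
          have e : z⁻¹ * (z * h * z⁻¹) * z⁻¹⁻¹ = h := by group
          rw [e] at this
          exact this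
    intro z hz t ht
    exact ((Subgroup.mem_normalizer_iff.mp (h1 hz)) t).mp ht
  have hle' : ∀ A ∈ P, A ≤ T n := by
    intro A hA
    rw [hTn]
    exact hle A hA
  have hinv' : ∀ A ∈ P, ∀ g ∈ T n, Cfsg.conjBy A g ∈ P := by
    intro A hA g hg
    rw [hTn] at hg
    exact hinv A hA g hg
  have hne' : ∃ A ∈ P, ¬ A ≤ T 0 := by
    obtain ⟨A, hA, hAS⟩ := hne
    exact ⟨A, hA, fun h => hAS (hsat A hA (le_trans h hT0))⟩
  obtain ⟨X, hX, hX0, hXconj⟩ := exists_member_conj_le T hmono hnorm n P hle' hinv' hne'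
  refine ⟨X, hX, ?_, ?_⟩
  · intro hXS
    apply hX0
    apply le_trans (hSI X hXS)
    rw [hTi]
    exact le_sup_left
  · apply le_stab_of_subgroup
    intro x hx m hm
    apply apply_mem_fixSp_of_conj _ hm
    intro g hg
    have hx' : x⁻¹ ∈ X := X.inv_mem hx
    have h1 : Cfsg.conjBy I₀ x⁻¹ ≤ I₀ := by
      rw [hI₀def, conjBy_iSup₂]
      apply iSup₂_le
      intro B hB
      have h2 : Cfsg.conjBy B x⁻¹ ∈ P := hinv B (hSP hB) _ (hle X hX hx')
      have h3 : Cfsg.conjBy B x⁻¹ ≤ T 0 := by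
        apply hXconj _ hx' B (hSP hB)
        apply le_trans (hSI B hB)
        rw [hTi]
        exact le_sup_left
      have h4 : Cfsg.conjBy B x⁻¹ ∈ S := hsat _ h2 (le_trans h3 hT0)
      rw [← hI₀def]
      exact hSI _ h4
    apply h1
    rw [mem_conjBy]
    have e : x⁻¹⁻¹ * (x⁻¹ * g * x) * x⁻¹ = g := by group
    rw [e]
    exact hg

end

end Cfsg.Agent.Lib.Helper8
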