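import Mathlib
import Cfsg.Prelude.Def_RootSubgroups
import Cfsg.Agent.Lib.Helper8.BS2
import Cfsg.Agent.Lib.Helper8.BS4

/-!
# Families of pairwise unipotent subgroups: the members stabilizing a subspace
-/

set_option autoImplicit false

namespace Cfsg.Agent.Lib.Helper8

section

variable {k : Type*} [Field k] {M : Type*} [AddCommGroup M] [Module k M]
variable {Γ : Type*} [Group Γ] (ρ : Γ →* (M →ₗ[k] M))

/-- The members of the family stabilizing the subspace `F`. -/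
def famStab (W : Set (Subgroup Γ)) (F : Submodule k M) : Set (Subgroup Γ) :=
  {A | A ∈ W ∧ A ≤ stab ρ F}

variable {ρ}

theorem conjBy_le_of_le {S A : Subgroup Γ} (hA : A ≤ S) {g : Γ} (hg : g ∈ S) :
    Cfsg.conjBy A g ≤ S := by
  intro y hy
  rw [mem_conjBy] at hy
  have h1 := S.mul_mem (S.mul_mem hg (hA hy)) (S.inv_mem hg)
  have e : g * (g⁻¹ * y * g) * g⁻¹ = y := by group
  rw [e] at h1
  exact h1

/-- The members stabilizing a subspace generate a unipotent group as soon as the theorem holds on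
the subspace and on the quotient. -/
theorem unip_famStab (W : Set (Subgroup Γ)) (F : Submodule k M)
    (hpair : ∀ A ∈ W, ∀ B ∈ W, Unip ρ (A ⊔ B))
    (hconj : ∀ A ∈ W, ∀ g ∈ (⨆ B ∈ W, B), Cfsg.conjBy A g ∈ W)
    (ih1 : ∀ W' : Set (Subgroup ↥(stab ρ F)),
      (∀ A ∈ W', ∀ B ∈ W', Unip (subRep ρ F) (A ⊔ B)) →
      (∀ A ∈ W', ∀ g ∈ (⨆ B ∈ W', B), Cfsg.conjBy A g ∈ W') →
      Unip (subRep ρ F) (⨆ A ∈ W', A))
    (ih2 : ∀ W' : Set (Subgroup ↥(stab ρ F)),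
      (∀ A ∈ W', ∀ B ∈ W', Unip (quotRep ρ F) (A ⊔ B)) →
      (∀ A ∈ W', ∀ g ∈ (⨆ B ∈ W', B), Cfsg.conjBy A g ∈ W') →
      Unip (quotRep ρ F) (⨆ A ∈ W', A)) :
    Unip ρ (⨆ A ∈ famStab ρ W F, A) := by
  obtain ⟨W', hW'⟩ : ∃ W' : Set (Subgroup ↥(stab ρ F)),
      W' = {B | ∃ A ∈ famStab ρ W F, B = A.subgroupOf (stab ρ F)} := ⟨_, rfl⟩
  have hmapsup : (⨆ B ∈ W', B).map (stab ρ F).subtype ≤ ⨆ A ∈ famStab ρ W F, A := by
    rw [Subgroup.map_iSup]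
    apply iSup_le
    intro B
    rw [Subgroup.map_iSup]
    apply iSup_le
    intro hB
    rw [hW'] at hB
    obtain ⟨A, hA, rfl⟩ := hB
    rw [Subgroup.map_subgroupOf_eq_of_le hA.2]
    exact le_iSup₂_of_le A hA le_rfl
  have hsupmap : (⨆ A ∈ famStab ρ W F, A) ≤ (⨆ B ∈ W', B).map (stab ρ F).subtype := by
    apply iSup₂_le
    intro A hA
    rw [← Subgroup.map_subgroupOf_eq_of_le hA.2]
    apply Subgroup.map_mono
    have hmem : A.subgroupOf (stab ρ F) ∈ W' := by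
      rw [hW']
      exact ⟨A, hA, rfl⟩
    exact le_iSup₂_of_le (A.subgroupOf (stab ρ F)) hmem le_rfl
  have hfamW : (⨆ A ∈ famStab ρ W F, A) ≤ ⨆ B ∈ W, B := by
    apply iSup₂_le
    intro A hA
    exact le_iSup₂_of_le A hA.1 le_rfl
  -- the pairwise condition
  have hpair0 : ∀ A ∈ W', ∀ B ∈ W', Unip ρ ((A ⊔ B).map (stab ρ F).subtype) := by
    intro B₁ hB₁ B₂ hB₂
    rw [hW'] at hB₁ hB₂
    obtain ⟨A₁, hA₁, rfl⟩ := hB₁
    obtain ⟨A₂, hA₂, rfl⟩ := hB₂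
    apply Unip.mono _ (hpair A₁ hA₁.1 A₂ hA₂.1)
    rw [Subgroup.map_sup, Subgroup.map_subgroupOf_eq_of_le hA₁.2,
      Subgroup.map_subgroupOf_eq_of_le hA₂.2]
  have hconj' : ∀ A ∈ W', ∀ g ∈ (⨆ B ∈ W', B), Cfsg.conjBy A g ∈ W' := by
    intro B hB g hg
    rw [hW'] at hB
    obtain ⟨A, hA, rfl⟩ := hB
    have hgW : (g : Γ) ∈ ⨆ B ∈ W, B :=
      hfamW (hmapsup (Subgroup.mem_map_of_mem (stab ρ F).subtype hg))
    rw [hW']
    refine ⟨Cfsg.conjBy A (g : Γ), ⟨hconj A hA.1 _ hgW, conjBy_le_of_le hA.2 g.2⟩, ?_⟩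
    ext y
    rw [mem_conjBy, Subgroup.mem_subgroupOf, Subgroup.mem_subgroupOf, mem_conjBy]
    rfl
  have h1 := ih1 W' (fun A hA B hB => Unip.subRep (hpair0 A hA B hB)) hconj'
  have h2 := ih2 W' (fun A hA B hB => Unip.quotRep (hpair0 A hA B hB)) hconj'
  exact Unip.mono hsupmap (unip_of_sub_of_quot h1 h2)

end

end Cfsg.Agent.Lib.Helper8
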