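import Mathlib
import Cfsg.Prelude.Def_RootSubgroups
import Cfsg.Agent.Lib.Helper8.BS5

/-!
# Families of pairwise unipotent subgroups: closed subfamilies and maximal ones
-/

set_option autoImplicit false

namespace Cfsg.Agent.Lib.Helper8

section

variable {k : Type*} [Field k] {M : Type*} [AddCommGroup M] [Module k M]
variable {Γ : Type*} [Group Γ] (ρ : Γ →* (M →ₗ[k] M)) (W : Set (Subgroup Γ))

/-- A subfamily generating a unipotent group. -/
def GoodFam (U : Set (Subgroup Γ)) : Prop := U ⊆ W ∧ Unip ρ (⨆ A ∈ U, A)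

/-- A good subfamily consisting of all members stabilizing its fixed space, which is proper. -/
def ClosedFam (U : Set (Subgroup Γ)) : Prop :=
  GoodFam ρ W U ∧ fixSp ρ (⨆ A ∈ U, A) ≠ ⊤ ∧ U = famStab ρ W (fixSp ρ (⨆ A ∈ U, A))

variable {ρ W}

theorem iSup₂_mono_set {U V : Set (Subgroup Γ)} (h : U ⊆ V) : (⨆ A ∈ U, A) ≤ ⨆ A ∈ V, A := by
  apply iSup₂_le
  intro A hA
  exact le_iSup₂_of_le A (h hA) le_rfl

theorem le_stab_fixSp_of_mem {U : Set (Subgroup Γ)} {A : Subgroup Γ} (hA : A ∈ U) :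
    A ≤ stab ρ (fixSp ρ (⨆ B ∈ U, B)) := by
  apply le_trans _ (fixer_le_stab _)
  apply le_trans (le_iSup₂_of_le A hA le_rfl : A ≤ ⨆ B ∈ U, B)
  rw [le_fixer_iff]

variable [FiniteDimensional k M]

/-- Every good subfamily with a proper fixed space lies in a closed one. -/
theorem exists_closed_of_good
    (hC1 : ∀ F : Submodule k M, F ≠ ⊥ → F ≠ ⊤ → Unip ρ (⨆ A ∈ famStab ρ W F, A))
    (d : ℕ) : ∀ U : Set (Subgroup Γ), GoodFam ρ W U → fixSp ρ (⨆ A ∈ U, A) ≠ ⊤ →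
      Module.finrank k (fixSp ρ (⨆ A ∈ U, A)) = d →
      ∃ V, ClosedFam ρ W V ∧ U ⊆ V := by
  induction d using Nat.strong_induction_on with
  | _ d ih =>
    intro U hU hne hd
    have hnt : Nontrivial M := by
      by_contra hcon
      rw [not_nontrivial_iff_subsingleton] at hcon
      exact hne (Subsingleton.elim _ _)
    have hF0 : fixSp ρ (⨆ A ∈ U, A) ≠ ⊥ := hU.2.fixSp_ne_bot
    have hUV : U ⊆ famStab ρ W (fixSp ρ (⨆ A ∈ U, A)) := by
      intro A hA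
      exact ⟨hU.1 hA, le_stab_fixSp_of_mem hA⟩
    have hVgood : GoodFam ρ W (famStab ρ W (fixSp ρ (⨆ A ∈ U, A))) :=
      ⟨fun A hA => hA.1, hC1 _ hF0 hne⟩
    have hle : fixSp ρ (⨆ A ∈ famStab ρ W (fixSp ρ (⨆ A ∈ U, A)), A) ≤ fixSp ρ (⨆ A ∈ U, A) :=
      fixSp_anti (iSup₂_mono_set hUV)
    have hVne : fixSp ρ (⨆ A ∈ famStab ρ W (fixSp ρ (⨆ A ∈ U, A)), A) ≠ ⊤ := by
      intro h
      rw [h, top_le_iff] at hle
      exact hne hle
    by_cases heq : fixSp ρ (⨆ A ∈ famStab ρ W (fixSp ρ (⨆ A ∈ U, A)), A) = fixSp ρ (⨆ A ∈ U, A)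
    · refine ⟨_, ⟨hVgood, hVne, ?_⟩, hUV⟩
      rw [heq]
    · have hlt : fixSp ρ (⨆ A ∈ famStab ρ W (fixSp ρ (⨆ A ∈ U, A)), A) < fixSp ρ (⨆ A ∈ U, A) :=
        lt_of_le_of_ne hle heq
      have hdlt := Submodule.finrank_lt_finrank_of_lt hlt
      rw [hd] at hdlt
      obtain ⟨V, hV, hVV⟩ := ih _ hdlt _ hVgood hVne rfl
      exact ⟨V, hV, hUV.trans hVV⟩

/-- Every closed subfamily lies in a maximal good subfamily, which is closed. -/
theorem exists_maximal_of_closed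
    (hC1 : ∀ F : Submodule k M, F ≠ ⊥ → F ≠ ⊤ → Unip ρ (⨆ A ∈ famStab ρ W F, A))
    (d : ℕ) : ∀ U : Set (Subgroup Γ), ClosedFam ρ W U →
      Module.finrank k (fixSp ρ (⨆ A ∈ U, A)) = d →
      ∃ P, ClosedFam ρ W P ∧ U ⊆ P ∧ ∀ Q, GoodFam ρ W Q → P ⊆ Q → Q = P := by
  induction d using Nat.strong_induction_on with
  | _ d ih =>
    intro U hU hd
    by_cases hmax : ∀ Q, GoodFam ρ W Q → U ⊆ Q → Q = U
    · exact ⟨U, hU, le_rfl, hmax⟩
    · push Not at hmax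
      obtain ⟨Q, hQ, hUQ, hQU⟩ := hmax
      have hle : fixSp ρ (⨆ A ∈ Q, A) ≤ fixSp ρ (⨆ A ∈ U, A) := fixSp_anti (iSup₂_mono_set hUQ)
      have hQne : fixSp ρ (⨆ A ∈ Q, A) ≠ ⊤ := by
        intro h
        rw [h, top_le_iff] at hle
        exact hU.2.1 hle
      obtain ⟨V, hV, hQV⟩ := exists_closed_of_good hC1 _ Q hQ hQne rfl
      have hle2 : fixSp ρ (⨆ A ∈ V, A) ≤ fixSp ρ (⨆ A ∈ U, A) :=
        le_trans (fixSp_anti (iSup₂_mono_set hQV)) hle
      have hne2 : fixSp ρ (⨆ A ∈ V, A) ≠ fixSp ρ (⨆ A ∈ U, A) := by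
        intro heq
        apply hQU
        have hVU : V = U := by
          rw [hV.2.2, heq, ← hU.2.2]
        apply Set.Subset.antisymm _ hUQ
        rw [← hVU]
        exact hQV
      have hdlt := Submodule.finrank_lt_finrank_of_lt (lt_of_le_of_ne hle2 hne2)
      rw [hd] at hdlt
      obtain ⟨P, hP, hVP, hPmax⟩ := ih _ hdlt V hV rfl
      exact ⟨P, hP, (hUQ.trans hQV).trans hVP, hPmax⟩

end

end Cfsg.Agent.Lib.Helper8
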