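import Mathlib
import Cfsg.Prelude.Def_RootSubgroups
import Cfsg.Agent.Lib.Helper8.BS6

/-!
# Families of pairwise unipotent subgroups generate a unipotent group
-/

set_option autoImplicit false

namespace Cfsg.Agent.Lib.Helper8

section

variable {k : Type*} [Field k] {M : Type*} [AddCommGroup M] [Module k M]
variable {Γ : Type*} [Group Γ] {ρ : Γ →* (M →ₗ[k] M)} {W : Set (Subgroup Γ)}

theorem le_fixer_of_fixSp_eq_top {A : Subgroup Γ} (h : fixSp ρ A = ⊤) (F : Submodule k M) :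
    A ≤ fixer ρ F := by
  rw [le_fixer_iff, h]
  exact le_top

theorem fixer_anti {F F' : Submodule k M} (h : F ≤ F') : fixer ρ F' ≤ fixer ρ F :=
  fun _ hg m hm => hg m (h hm)

theorem closedFam_conj {U : Set (Subgroup Γ)} (hU : ClosedFam ρ W U)
    (hconj : ∀ A ∈ W, ∀ g ∈ (⨆ B ∈ W, B), Cfsg.conjBy A g ∈ W) :
    ∀ A ∈ U, ∀ g ∈ (⨆ B ∈ U, B), Cfsg.conjBy A g ∈ U := by
  intro A hA g hg
  have hgW : g ∈ ⨆ B ∈ W, B := iSup₂_mono_set hU.1.1 hg
  have hgs : g ∈ stab ρ (fixSp ρ (⨆ B ∈ U, B)) := by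
    apply fixer_le_stab
    have : (⨆ B ∈ U, B) ≤ fixer ρ (fixSp ρ (⨆ B ∈ U, B)) := by rw [le_fixer_iff]
    exact this hg
  rw [hU.2.2]
  refine ⟨hconj A (hU.1.1 hA) g hgW, conjBy_le_of_le ?_ hgs⟩
  have := hA
  rw [hU.2.2] at this
  exact this.2

variable [FiniteDimensional k M]

/-- The decreasing step: from a closed family not inside the maximal family `I`, build another
one whose intersection with `I` has a smaller fixed space. -/
theorem exists_smaller_closed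
    (hpair : ∀ A ∈ W, ∀ B ∈ W, Unip ρ (A ⊔ B))
    (hconj : ∀ A ∈ W, ∀ g ∈ (⨆ B ∈ W, B), Cfsg.conjBy A g ∈ W)
    (hC1 : ∀ F : Submodule k M, F ≠ ⊥ → F ≠ ⊤ → Unip ρ (⨆ A ∈ famStab ρ W F, A))
    {I : Set (Subgroup Γ)} (hI : ClosedFam ρ W I)
    (hImax : ∀ Q, GoodFam ρ W Q → I ⊆ Q → Q = I)
    {J : Set (Subgroup Γ)} (hJ : ClosedFam ρ W J) (hJI : ¬ J ⊆ I) :
    ∃ J', ClosedFam ρ W J' ∧ ¬ J' ⊆ I ∧
      Module.finrank k (fixSp ρ (⨆ A ∈ J' ∩ I, A)) < Module.finrank k (fixSp ρ (⨆ A ∈ J ∩ I, A)) := by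
  have hnt : Nontrivial M := by
    by_contra hcon
    rw [not_nontrivial_iff_subsingleton] at hcon
    exact hI.2.1 (Subsingleton.elim _ _)
  have hIJ : ¬ I ⊆ J := by
    intro h
    apply hJI
    rw [hImax J hJ.1 h]
  obtain ⟨F, hF⟩ : ∃ F, F = fixSp ρ (⨆ A ∈ J ∩ I, A) := ⟨_, rfl⟩
  have hNF : fixSp ρ (⨆ A ∈ I, A) ≤ F := by
    rw [hF]
    exact fixSp_anti (iSup₂_mono_set Set.inter_subset_right)
  have hNJF : fixSp ρ (⨆ A ∈ J, A) ≤ F := by
    rw [hF]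
    exact fixSp_anti (iSup₂_mono_set Set.inter_subset_left)
  -- membership criteria
  have hmemJ : ∀ A ∈ W, A ≤ fixer ρ F → A ∈ J := by
    intro A hAW hA
    rw [hJ.2.2]
    exact ⟨hAW, le_trans (le_trans hA (fixer_anti hNJF)) (fixer_le_stab _)⟩
  have hmemI : ∀ A ∈ W, A ≤ fixer ρ F → A ∈ I := by
    intro A hAW hA
    rw [hI.2.2]
    exact ⟨hAW, le_trans (le_trans hA (fixer_anti hNF)) (fixer_le_stab _)⟩
  -- the member `X` of `I` outside `J`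
  obtain ⟨X, hXI, hXS, hXstab⟩ := exists_member_le_stab (ρ := ρ) hI.1.2 I (J ∩ I)
    (fun A hA => le_iSup₂_of_le A hA le_rfl) (closedFam_conj hI hconj) Set.inter_subset_right
    (fun A hA hAF => ⟨hmemJ A (hI.1.1 hA) (hF ▸ hAF), hA⟩)
    (by
      rw [Set.not_subset] at hIJ
      obtain ⟨A, hA, hAJ⟩ := hIJ
      exact ⟨A, hA, fun h => hAJ h.1⟩)
  have hXJ : X ∉ J := fun h => hXS ⟨h, hXI⟩
  obtain ⟨Y, hYJ, hYS, hYstab⟩ := exists_member_le_stab (ρ := ρ) hJ.1.2 J (J ∩ I)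
    (fun A hA => le_iSup₂_of_le A hA le_rfl) (closedFam_conj hJ hconj) Set.inter_subset_left
    (fun A hA hAF => ⟨hA, hmemI A (hJ.1.1 hA) (hF ▸ hAF)⟩)
    (by
      rw [Set.not_subset] at hJI
      obtain ⟨A, hA, hAI⟩ := hJI
      exact ⟨A, hA, fun h => hAI h.2⟩)
  have hYI : Y ∉ I := fun h => hYS ⟨hYJ, h⟩
  rw [← hF] at hXstab hYstab ⊢
  have hXW : X ∈ W := hI.1.1 hXI
  have hYW : Y ∈ W := hJ.1.1 hYJ
  have hXfix : ¬ F ≤ fixSp ρ X := by
    intro h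
    exact hXJ (hmemJ X hXW (le_fixer_iff.mpr h))
  have hXne : fixSp ρ X ≠ ⊤ := by
    intro h
    apply hXfix
    rw [h]
    exact le_top
  -- a good family containing `X`, `Y` and, if `F` is proper, `J ∩ I`
  have hK : ∃ K, GoodFam ρ W K ∧ X ∈ K ∧ Y ∈ K ∧ (F ≠ ⊤ → J ∩ I ⊆ K) := by
    by_cases hFtop : F = ⊤
    · refine ⟨{X, Y}, ⟨?_, ?_⟩, Set.mem_insert _ _, Set.mem_insert_of_mem _ rfl,
        fun h => absurd hFtop h⟩
      · intro A hA
        rcases hA with rfl | rfl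
        · exact hXW
        · exact hYW
      · rw [iSup_pair]
        exact hpair X hXW Y hYW
    · have hF0 : F ≠ ⊥ := by
        intro h
        rw [h, le_bot_iff] at hNF
        exact hI.1.2.fixSp_ne_bot hNF
      refine ⟨famStab ρ W F, ⟨fun A hA => hA.1, hC1 F hF0 hFtop⟩, ⟨hXW, hXstab⟩, ⟨hYW, hYstab⟩,
        fun _ => ?_⟩
      intro A hA
      refine ⟨hI.1.1 hA.2, ?_⟩
      rw [hF]
      exact le_stab_fixSp_of_mem hA
  obtain ⟨K, hKgood, hXK, hYK, hSK⟩ := hK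
  have hKne : fixSp ρ (⨆ A ∈ K, A) ≠ ⊤ := by
    intro h
    have h1 : fixSp ρ (⨆ A ∈ K, A) ≤ fixSp ρ X := fixSp_anti (le_iSup₂_of_le X hXK le_rfl)
    rw [h, top_le_iff] at h1
    exact hXne h1
  obtain ⟨J', hJ', hKJ'⟩ := exists_closed_of_good hC1 _ K hKgood hKne rfl
  refine ⟨J', hJ', fun h => hYI (h (hKJ' hYK)), ?_⟩
  have hle1 : fixSp ρ (⨆ A ∈ J' ∩ I, A) ≤ fixSp ρ X :=
    fixSp_anti (le_iSup₂_of_le X ⟨hKJ' hXK, hXI⟩ le_rfl)
  have hle2 : fixSp ρ (⨆ A ∈ J' ∩ I, A) ≤ F := by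
    by_cases hFtop : F = ⊤
    · rw [hFtop]; exact le_top
    · rw [hF]
      apply fixSp_anti
      apply iSup₂_mono_set
      intro A hA
      exact ⟨hKJ' (hSK hFtop hA), hA.2⟩
  apply Submodule.finrank_lt_finrank_of_lt
  apply lt_of_le_of_ne hle2
  intro heq
  apply hXfix
  rw [← heq]
  exact hle1

/-- The main theorem, assuming the members stabilizing any proper nonzero subspace generate a
unipotent group. -/
theorem unip_of_famStab
    (hpair : ∀ A ∈ W, ∀ B ∈ W, Unip ρ (A ⊔ B))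
    (hconj : ∀ A ∈ W, ∀ g ∈ (⨆ B ∈ W, B), Cfsg.conjBy A g ∈ W)
    (hC1 : ∀ F : Submodule k M, F ≠ ⊥ → F ≠ ⊤ → Unip ρ (⨆ A ∈ famStab ρ W F, A)) :
    Unip ρ (⨆ A ∈ W, A) := by
  by_contra hbad
  -- a member acting nontrivially
  have hex : ∃ A ∈ W, fixSp ρ A ≠ ⊤ := by
    by_contra hcon
    push Not at hcon
    apply hbad
    apply unip_of_fixSp_eq_top
    rw [fixSp_iSup]
    apply le_antisymm le_top
    apply le_iInf
    intro A
    rw [fixSp_iSup]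
    apply le_iInf
    intro hA
    rw [hcon A hA]
  have hsingle : ∀ A ∈ W, fixSp ρ A ≠ ⊤ → ∃ V, ClosedFam ρ W V ∧ A ∈ V := by
    intro A hA hAne
    have hgood : GoodFam ρ W {A} := by
      refine ⟨Set.singleton_subset_iff.mpr hA, ?_⟩
      rw [iSup_singleton]
      have := hpair A hA A hA
      rwa [sup_idem] at this
    have hne : fixSp ρ (⨆ B ∈ ({A} : Set (Subgroup Γ)), B) ≠ ⊤ := by
      rw [iSup_singleton]
      exact hAne
    obtain ⟨V, hV, hAV⟩ := exists_closed_of_good hC1 _ {A} hgood hne rfl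
    exact ⟨V, hV, hAV (Set.mem_singleton A)⟩
  obtain ⟨A, hA, hAne⟩ := hex
  obtain ⟨V, hV, -⟩ := hsingle A hA hAne
  obtain ⟨I, hI, -, hImax⟩ := exists_maximal_of_closed hC1 _ V hV rfl
  have hIW : I ≠ W := by
    intro h
    apply hbad
    have := hI.1.2
    rwa [h] at this
  have hexB : ∃ B ∈ W, B ∉ I := by
    by_contra hcon
    push Not at hcon
    exact hIW (Set.Subset.antisymm hI.1.1 hcon)
  obtain ⟨B, hBW, hBI⟩ := hexB
  have hBne : fixSp ρ B ≠ ⊤ := by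
    intro h
    apply hBI
    rw [hI.2.2]
    exact ⟨hBW, le_trans (le_fixer_of_fixSp_eq_top h _) (fixer_le_stab _)⟩
  obtain ⟨J₀, hJ₀, hBJ₀⟩ := hsingle B hBW hBne
  have hJ₀I : ¬ J₀ ⊆ I := fun h => hBI (h hBJ₀)
  -- descent
  have hdesc : ∀ d : ℕ, ∀ J, ClosedFam ρ W J → ¬ J ⊆ I →
      Module.finrank k (fixSp ρ (⨆ A ∈ J ∩ I, A)) = d → False := by
    intro d
    induction d using Nat.strong_induction_on with
    | _ d ih =>
      intro J hJ hJI hd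
      obtain ⟨J', hJ', hJ'I, hlt⟩ := exists_smaller_closed hpair hconj hC1 hI hImax hJ hJI
      rw [hd] at hlt
      exact ih _ hlt J' hJ' hJ'I rfl
  exact hdesc _ J₀ hJ₀ hJ₀I rfl

end

end Cfsg.Agent.Lib.Helper8
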