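import Mathlib
import Cfsg.Prelude.Def_RootSubgroups
import Cfsg.Agent.Lib.Helper8.BS7

/-!
# Families of pairwise unipotent subgroups generate a unipotent group: induction on the dimension
-/

set_option autoImplicit false

namespace Cfsg.Agent.Lib.Helper8

universe u v w

theorem unip_iSup_aux (k : Type u) [Field k] (n : ℕ) :
    ∀ (M : Type v) [AddCommGroup M] [Module k M] [FiniteDimensional k M] (Γ : Type w) [Group Γ]
      (ρ : Γ →* (M →ₗ[k] M)) (W : Set (Subgroup Γ)),
      Module.finrank k M = n →
      (∀ A ∈ W, ∀ B ∈ W, Unip ρ (A ⊔ B)) →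
      (∀ A ∈ W, ∀ g ∈ (⨆ B ∈ W, B), Cfsg.conjBy A g ∈ W) →
      Unip ρ (⨆ A ∈ W, A) := by
  induction n using Nat.strong_induction_on with
  | _ n ih =>
    intro M _ _ _ Γ _ ρ W hn hpair hconj
    apply unip_of_famStab hpair hconj
    intro F hF0 hFtop
    apply unip_famStab W F hpair hconj
    · intro W' hp hc
      have hlt : Module.finrank k F < n := by
        rw [← hn]
        exact Submodule.finrank_lt hFtop
      exact ih _ hlt F (↥(stab ρ F)) (subRep ρ F) W' rfl hp hc
    · intro W' hp hc
      have hlt : Module.finrank k (M ⧸ F) < n := by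
        rw [← hn]
        have h1 := Submodule.finrank_quotient_add_finrank F
        have h2 : Module.finrank k F ≠ 0 := by
          intro h
          exact hF0 (Submodule.finrank_eq_zero.mp h)
        omega
      exact ih _ hlt (M ⧸ F) (↥(stab ρ F)) (quotRep ρ F) W' rfl hp hc

section Bridge

variable {k : Type*} [Field k] {M : Type*} [AddCommGroup M] [Module k M]

/-- The list of endomorphisms in the definition of unipotent action, in plain form. -/
theorem coeList_eq (l : List (LinearMap.GeneralLinearGroup k M)) :
    (l.map fun g => (g : M →ₗ[k] M) - 1) =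
      l.map (fun g : LinearMap.GeneralLinearGroup k M => ((g : M →ₗ[k] M)) - 1) := by
  simp only [List.bind_eq_flatMap, List.pure_def]
  rw [← List.map_eq_flatMap, List.map_map]
  rfl

/-- A product of `n` factors `g - 1` moves the flag down `n` steps. -/
theorem list_prod_mem_lowFlag (H : Subgroup (LinearMap.GeneralLinearGroup k M))
    (l : List (LinearMap.GeneralLinearGroup k M)) (hl : ∀ g ∈ l, g ∈ H) (j : ℕ) (m : M)
    (hm : m ∈ lowFlag (Units.coeHom (M →ₗ[k] M)) H j) :
    (l.map (fun g : LinearMap.GeneralLinearGroup k M => ((g : M →ₗ[k] M)) - 1)).prod m ∈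
      lowFlag (Units.coeHom (M →ₗ[k] M)) H (j + l.length) := by
  induction l with
  | nil => simpa using hm
  | cons g l ih =>
    rw [List.map_cons, List.prod_cons, Module.End.mul_apply, List.length_cons, ← add_assoc]
    have h1 := ih (fun g' hg' => hl g' (List.mem_cons_of_mem _ hg'))
    exact sub_one_mem_lowFlag (ρ := Units.coeHom (M →ₗ[k] M)) (hl g List.mem_cons_self) h1

/-- The flag is spanned by the images of the products of `n` factors. -/
theorem lowFlag_le_iSup_range (H : Subgroup (LinearMap.GeneralLinearGroup k M)) (n : ℕ) :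
    lowFlag (Units.coeHom (M →ₗ[k] M)) H n ≤
      ⨆ l : {l : List (LinearMap.GeneralLinearGroup k M) // (∀ g ∈ l, g ∈ H) ∧ l.length = n},
        LinearMap.range ((l : List (LinearMap.GeneralLinearGroup k M)).map
          (fun g : LinearMap.GeneralLinearGroup k M => ((g : M →ₗ[k] M)) - 1)).prod := by
  induction n with
  | zero =>
    apply le_iSup_of_le ⟨[], by simp, rfl⟩
    rw [List.map_nil, List.prod_nil, Module.End.one_eq_id, LinearMap.range_id]
    exact le_top
  | succ n ih =>
    rw [lowFlag_succ]
    apply iSup₂_le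
    intro g hg
    apply le_trans (Submodule.map_mono ih)
    rw [Submodule.map_iSup]
    apply iSup_le
    intro l
    apply le_iSup_of_le ⟨g :: l.1, by
      intro g' hg'
      rcases List.mem_cons.mp hg' with rfl | h
      · exact hg
      · exact l.2.1 g' h, by rw [List.length_cons, l.2.2]⟩
    rw [List.map_cons, List.prod_cons, Module.End.mul_eq_comp, LinearMap.range_comp]
    rfl

theorem isUnipotentOn_iff_unip (H : Subgroup (LinearMap.GeneralLinearGroup k M)) :
    Cfsg.IsUnipotentOn H ↔ Unip (Units.coeHom (M →ₗ[k] M)) H := by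
  constructor
  · rintro ⟨n, hn⟩
    refine ⟨n, ?_⟩
    rw [eq_bot_iff]
    apply le_trans (lowFlag_le_iSup_range H n)
    apply iSup_le
    intro l
    have h1 := hn l.1 l.2.1 l.2.2
    rw [coeList_eq] at h1
    rw [h1, LinearMap.range_zero]
  · rintro ⟨n, hn⟩
    refine ⟨n, ?_⟩
    intro l hl hlen
    rw [coeList_eq]
    apply LinearMap.ext
    intro m
    have h1 := list_prod_mem_lowFlag H l hl 0 m (by rw [lowFlag_zero]; trivial)
    rw [zero_add, hlen, hn, Submodule.mem_bot] at h1
    rw [h1, LinearMap.zero_apply]

end Bridge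

end Cfsg.Agent.Lib.Helper8
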