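import Mathlib
import Cfsg.Agent.Lib.Helper8.BZ1
import Cfsg.Agent.Lib.Helper8.BA1

/-!
# The sum of the squared degrees of the characters of a block over `θ` is divisible by `p`
-/

set_option autoImplicit false
set_option linter.unusedSectionVars false
set_option linter.unusedVariables false

namespace Cfsg.Agent.Lib.Helper8.BZ

open Cfsg
open scoped ComplexConjugate
open Cfsg.Agent.Lib.Helper1 Cfsg.Agent.Lib.Helper4 Cfsg.Agent.Lib.Helper8

universe u

section

variable {G : Type u} [Group G] [Fintype G] {M : Ideal AlgInt} {p : ℕ}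

/-- If `x` is a `p`-element outside the normal subgroup `N`, then the sum of the squares of the
degrees of the characters of a block `B` lying over `θ ∈ Irr(N)` is divisible by `p`. -/
theorem dvd_sum_sq_over (hM : IsPModular p M) {B : Set (IrrCharacter G)} (hB : IsPBlock M B)
    (N : Subgroup G) [hN : N.Normal] [Fintype N] (θ : IrrCharacter N) {x : G}
    (hx : ∃ k : ℕ, orderOf x = p ^ k) (hxN : x ∉ N) [Fintype (IrrCharacter G)]
    [DecidablePred fun χ : IrrCharacter G =>
      χ ∈ B ∧ classInner (fun n : N => (χ : G → ℂ) n) (θ : N → ℂ) ≠ 0] :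
    p ∣ ∑ χ : IrrCharacter G,
      (if χ ∈ B ∧ classInner (fun n : N => (χ : G → ℂ) n) (θ : N → ℂ) ≠ 0
        then (charDegree (χ : G → ℂ)) ^ 2 else 0) := by
  classical
  have hp : p.Prime := hM.1
  have hMp := isPModular_isPrime hM
  set ψ : G → ℂ := indFun N (θ : N → ℂ) with hψ
  have hψc : IsCharacter G ψ := Cfsg.Agent.S0148.result N _ (isCharacter_of_irr θ.2)
  have hm : ∀ χ : IrrCharacter G, ∃ m : ℕ, classInner ψ (χ : G → ℂ) = m :=
    fun χ => classInner_char_irr_nat hψc χ.2
  choose m hm using hm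
  have hfrob : ∀ χ : IrrCharacter G,
      classInner (fun n : N => (χ : G → ℂ) n) (θ : N → ℂ) = m χ := by
    intro χ
    have h1 := Cfsg.Agent.S0146.result N (θ : N → ℂ) (χ : G → ℂ) (isClassFunction_irr χ.2)
    rw [hm χ] at h1
    have h2 := classInner_conj_symm (θ : N → ℂ) (fun n : N => (χ : G → ℂ) n)
    rw [← h2, ← h1, Complex.conj_natCast]
  have hx' : IsPPart p x x := isPPart_self hx hp
  have hz : blockPart B ψ x = 0 := by
    apply blockPart_eq_zero_on_section hM (x := x) _ hB hx' (IsConj.refl x)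
    intro u z huz hxz
    exact indFun_eq_zero_of_notMem N _ (notMem_of_isPPart hp N hxN huz hxz)
  rw [blockPart_eq_sum] at hz
  obtain ⟨κ, hκ⟩ := exists_degree_const N θ
  have hdeg : ∀ χ : IrrCharacter G, (χ : G → ℂ) 1 = (charDegree (χ : G → ℂ) : ℂ) :=
    fun χ => (irr_apply_one_eq_charDegree χ.2).1
  set T : ℕ := ∑ χ : IrrCharacter G, (if χ ∈ B then m χ * charDegree (χ : G → ℂ) else 0) with hT
  obtain ⟨k, hk⟩ := hx
  have hxk : x ^ (p ^ k) = 1 := by rw [← hk]; exact pow_orderOf_eq_one x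
  have hTdvd : p ∣ T := by
    rw [← memLocalIdeal_natCast_iff hM]
    have e : (T : ℂ) = ∑ χ : IrrCharacter G, (if χ ∈ B then (1 : ℂ) else 0) *
        ((m χ : ℂ) * ((χ : G → ℂ) 1 - (χ : G → ℂ) x)) := by
      have e1 : ∀ χ : IrrCharacter G, (if χ ∈ B then (1 : ℂ) else 0) *
          ((m χ : ℂ) * ((χ : G → ℂ) 1 - (χ : G → ℂ) x)) =
          (if χ ∈ B then (1 : ℂ) else 0) * ((m χ : ℂ) * (χ : G → ℂ) 1) -
          (if χ ∈ B then (1 : ℂ) else 0) * (classInner ψ (χ : G → ℂ) * (χ : G → ℂ) x) := by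
        intro χ
        rw [hm χ]
        ring
      rw [Finset.sum_congr rfl fun χ _ => e1 χ, Finset.sum_sub_distrib, hz, sub_zero, hT]
      push_cast
      refine Finset.sum_congr rfl fun χ _ => ?_
      rw [hdeg χ]
      split_ifs <;> simp
    rw [e]
    apply memLocalIdeal_sum hMp
    intro χ _
    apply memLocalIdeal_mul_left hMp
    · split_ifs
      · exact memLocalRing_one hMp.ne_top
      · exact memLocalRing_zero hMp.ne_top
    apply memLocalIdeal_mul_left hMp (memLocalRing_natCast hMp.ne_top _)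
    have h1 := memLocalIdeal_char_mul_sub hM (isCharacter_of_irr χ.2) x 1 k hxk (by simp)
    rw [mul_one] at h1
    have h2 := memLocalIdeal_neg h1
    rwa [neg_sub] at h2
  have hQ : (∑ χ : IrrCharacter G,
      (if χ ∈ B ∧ classInner (fun n : N => (χ : G → ℂ) n) (θ : N → ℂ) ≠ 0
        then (charDegree (χ : G → ℂ)) ^ 2 else 0)) = κ * T := by
    rw [hT, Finset.mul_sum]
    refine Finset.sum_congr rfl fun χ _ => ?_
    by_cases hχB : χ ∈ B
    · by_cases hov : classInner (fun n : N => (χ : G → ℂ) n) (θ : N → ℂ) ≠ 0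
      · rw [if_pos ⟨hχB, hov⟩, if_pos hχB]
        have h1 := hκ χ hov
        rw [hfrob χ, hdeg χ] at h1
        have h2 : charDegree (χ : G → ℂ) = m χ * κ := by exact_mod_cast h1
        rw [h2]
        ring
      · rw [if_neg (fun h => hov h.2), if_pos hχB]
        rw [not_not, hfrob χ] at hov
        have : m χ = 0 := by exact_mod_cast hov
        rw [this]
        ring
    · rw [if_neg (fun h => hχB h.1), if_neg hχB, mul_zero]
  rw [hQ]
  exact Dvd.dvd.mul_left hTdvd κ

end

end Cfsg.Agent.Lib.Helper8.BZ
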