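import Mathlib
import Cfsg.Agent.Lib.Helper8.BZ4
import Cfsg.Agent.Lib.Helper8.GF2
import Cfsg.Agent.Lib.Helper8.Deflation
import Cfsg.Agent.Lib.Helper4.AbelianIrr
import Cfsg.Agent.Lib.Helper4.Gallagher
import Cfsg.Agent.Lib.Helper1.LinearChar

/-!
# Counting the Galois-fixed extensions over a cyclic quotient of order divisible by `p`
-/

set_option autoImplicit false
set_option linter.unusedSectionVars false
set_option linter.unusedVariables false

namespace Cfsg.Agent.Lib.Helper8.BZ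

open Cfsg
open scoped ComplexConjugate
open Cfsg.Agent.Lib.Helper1 Cfsg.Agent.Lib.Helper4 Cfsg.Agent.Lib.Helper8

universe u

/-- The number of characters of a finite cyclic group whose `p`-th power is trivial. -/
theorem card_pow_eq_one_dual (Q : Type u) [Group Q] [Finite Q] [hQ : IsCyclic Q] (p : ℕ)
    (hp : p ∣ Nat.card Q) :
    Nat.card {μ : Q →* ℂˣ // μ ^ p = 1} = p := by
  let _ : CommGroup Q := IsCyclic.commGroup
  have hne : NeZero (Monoid.exponent Q) := ⟨Monoid.exponent_ne_zero_of_finite⟩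
  obtain ⟨e⟩ := CommGroup.monoidHom_mulEquiv_of_hasEnoughRootsOfUnity Q ℂ
  have hfin : Finite (Q →* ℂˣ) := Finite.of_equiv Q e.symm.toEquiv
  have hcyc : IsCyclic (Q →* ℂˣ) := isCyclic_of_surjective e.symm e.symm.surjective
  have h1 := IsCyclic.card_powMonoidHom_ker (Q →* ℂˣ) p
  rw [Nat.card_congr e.toEquiv, Nat.gcd_eq_right hp] at h1
  have h2 : Nat.card {μ : Q →* ℂˣ // μ ^ p = 1} =
      Nat.card (MonoidHom.ker (G := Q →* ℂˣ) (powMonoidHom p)) := by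
    apply Nat.card_congr
    exact Equiv.subtypeEquivRight (fun μ => by
      rw [MonoidHom.mem_ker]; rfl)
  rw [h2, h1]

section

variable {G : Type u} [Group G] [Fintype G]

/-- Over a `k`-fixed extension `η₀` of the invariant character `θ` of `N`, with `G ⧸ N` cyclic of
order divisible by `p` and `k`-th powers acting on `G ⧸ N` as `(1 + p)`-th powers, exactly `p`
extensions of `θ` are `k`-fixed. -/
theorem card_fixed_extensions (N : Subgroup G) [hN : N.Normal] [Fintype N]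
    (hcyc : IsCyclic (G ⧸ N)) (p k : ℕ) (hp : p ∣ Nat.card (G ⧸ N))
    (hk : ∀ g : G, (QuotientGroup.mk (g ^ k) : G ⧸ N) = (QuotientGroup.mk g) ^ (1 + p))
    {θ : N → ℂ} (hθ : IsIrrCharacter N θ)
    (hinv : ∀ (g : G) (n : N), θ ⟨g * n * g⁻¹, hN.conj_mem (n : G) n.2 g⟩ = θ n)
    {η₀ : G → ℂ} (hη₀ : IsIrrCharacter G η₀) (hη₀θ : ∀ n : N, η₀ n = θ n)
    (hfix : ∀ g, η₀ (g ^ k) = η₀ g) :
    Nat.card {χ : IrrCharacter G // (∀ n : N, (χ : G → ℂ) n = θ n) ∧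
      ∀ g, (χ : G → ℂ) (g ^ k) = (χ : G → ℂ) g} = p := by
  classical
  obtain ⟨hG1, hG2, hG3⟩ := GF.gallagher_abs N hθ hinv hη₀ hη₀θ
  rw [← card_pow_eq_one_dual (G ⧸ N) p hp]
  symm
  -- the linear character of `G` attached to a character of the quotient
  set lin : (G ⧸ N →* ℂˣ) → (G → ℂ) := fun μ g => ((μ (QuotientGroup.mk g) : ℂˣ) : ℂ) with hlin
  have hlin_irr : ∀ μ : G ⧸ N →* ℂˣ, IsIrrCharacter G (lin μ) := fun μ =>
    isIrrCharacter_of_hom (μ.comp (QuotientGroup.mk' N))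
  have hlin_N : ∀ (μ : G ⧸ N →* ℂˣ) (n : G), n ∈ N → lin μ n = lin μ 1 := by
    intro μ n hn
    show ((μ (QuotientGroup.mk n) : ℂˣ) : ℂ) = ((μ (QuotientGroup.mk 1) : ℂˣ) : ℂ)
    rw [(QuotientGroup.eq_one_iff n).2 hn, QuotientGroup.mk_one]
  have hlin_one : ∀ μ : G ⧸ N →* ℂˣ, lin μ 1 = 1 := by
    intro μ
    show ((μ (QuotientGroup.mk 1) : ℂˣ) : ℂ) = 1
    rw [QuotientGroup.mk_one, map_one, Units.val_one]
  have hlin_inj : ∀ μ μ' : G ⧸ N →* ℂˣ, lin μ = lin μ' → μ = μ' := by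
    intro μ μ' h
    apply MonoidHom.ext
    intro q
    obtain ⟨g, rfl⟩ := QuotientGroup.mk_surjective q
    exact Units.ext (congrFun h g)
  have hmulirr : ∀ μ : G ⧸ N →* ℂˣ, IsIrrCharacter G (lin μ * η₀) := fun μ =>
    (hG1 (lin μ) (hlin_irr μ) (hlin_N μ)).1
  have hwd : ∀ μ : G ⧸ N →* ℂˣ, μ ^ p = 1 →
      (∀ n : N, (lin μ * η₀) n = θ n) ∧ ∀ g, (lin μ * η₀) (g ^ k) = (lin μ * η₀) g := by
    intro μ hμ
    constructor
    · intro n
      rw [Pi.mul_apply, hlin_N μ n n.2, hlin_one, one_mul, hη₀θ]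
    · intro g
      rw [Pi.mul_apply, Pi.mul_apply, hfix g]
      congr 1
      show ((μ (QuotientGroup.mk (g ^ k)) : ℂˣ) : ℂ) = ((μ (QuotientGroup.mk g) : ℂˣ) : ℂ)
      rw [hk g, map_pow, pow_add, pow_one]
      have h1 : (μ ^ p) (QuotientGroup.mk g) = 1 := by rw [hμ]; rfl
      rw [MonoidHom.pow_apply] at h1
      rw [h1, mul_one]
  let F : {μ : G ⧸ N →* ℂˣ // μ ^ p = 1} → {χ : IrrCharacter G // (∀ n : N, (χ : G → ℂ) n = θ n) ∧
      ∀ g, (χ : G → ℂ) (g ^ k) = (χ : G → ℂ) g} := fun μ =>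
    ⟨⟨lin μ.1 * η₀, hmulirr μ.1⟩, hwd μ.1 μ.2⟩
  apply Nat.card_congr (Equiv.ofBijective F ⟨?_, ?_⟩)
  · rintro ⟨μ, hμ⟩ ⟨μ', hμ'⟩ h
    have h1 : lin μ * η₀ = lin μ' * η₀ := congrArg (fun x => ((x.1 : IrrCharacter G) : G → ℂ)) h
    have h2 := hG2 (lin μ) (lin μ') (hlin_irr μ) (hlin_N μ) (hlin_irr μ') (hlin_N μ') h1
    exact Subtype.ext (hlin_inj μ μ' h2)
  · rintro ⟨χ, hχ1, hχ2⟩
    have hcon : classInner (fun n : N => (χ : G → ℂ) n) θ ≠ 0 := by
      have : (fun n : N => (χ : G → ℂ) n) = θ := funext hχ1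
      rw [this, classInner_irr_self hθ]
      exact one_ne_zero
    obtain ⟨β, hβ, hβN, hχβ⟩ := hG3 (χ : G → ℂ) χ.2 hcon
    obtain ⟨ψ, hψ, hψβ⟩ := exists_deflation N hβ hβN
    have hcomm : ∀ a b : G ⧸ N, a * b = b * a := by
      intro a b
      let _ : CommGroup (G ⧸ N) := IsCyclic.commGroup
      exact mul_comm a b
    obtain ⟨φ, hφ⟩ := exists_hom_of_comm hcomm hψ
    have hβlin : β = lin φ := by
      funext g
      rw [← hψβ g, hφ]
    have hpow : lin (φ ^ (1 + p)) * η₀ = lin φ * η₀ := by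
      funext g
      rw [Pi.mul_apply, Pi.mul_apply]
      have h1 : lin (φ ^ (1 + p)) g = lin φ (g ^ k) := by
        show (((φ ^ (1 + p)) (QuotientGroup.mk g) : ℂˣ) : ℂ) = ((φ (QuotientGroup.mk (g ^ k)) : ℂˣ) : ℂ)
        rw [hk g, map_pow, MonoidHom.pow_apply]
      rw [h1, ← hfix g, ← Pi.mul_apply, ← hβlin, ← hχβ, hχ2 g, hχβ, Pi.mul_apply, hβlin, hfix g]
    have h2 := hG2 _ _ (hlin_irr _) (hlin_N _) (hlin_irr φ) (hlin_N φ) hpow
    have h3 : φ ^ (1 + p) = φ := hlin_inj _ _ h2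
    have hφp : φ ^ p = 1 := by
      apply MonoidHom.ext
      intro q
      have h4 : (φ ^ (1 + p)) q = φ q := by rw [h3]
      rw [MonoidHom.pow_apply, pow_add, pow_one] at h4
      rw [MonoidHom.pow_apply, MonoidHom.one_apply]
      exact mul_eq_left.1 h4
    refine ⟨⟨φ, hφp⟩, ?_⟩
    apply Subtype.ext
    apply Subtype.ext
    show lin φ * η₀ = (χ : G → ℂ)
    rw [hχβ, hβlin]

end

end Cfsg.Agent.Lib.Helper8.BZ
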