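import Mathlib
import Cfsg.Prelude.Def_Transfer
import Cfsg.Prelude.Def_Blocks
import Cfsg.Agent.Lib.Helper6.PRes
import Cfsg.Agent.Lib.Helper8.SM4
import Cfsg.Agent.Lib.Helper8.Rey1

/-!
# The `p`-residual: arithmetic of exponents, powers and invariance
-/

set_option autoImplicit false
set_option linter.unusedSectionVars false
set_option linter.unusedVariables false

namespace Cfsg.Agent.Lib.Helper8.BZ

open Cfsg
open Cfsg.Agent.Lib.Helper1 Cfsg.Agent.Lib.Helper4 Cfsg.Agent.Lib.Helper8 Cfsg.Agent.Lib.Helper6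

universe u

section

variable {G : Type u} [Group G] [Finite G] {p : ℕ} [hp : Fact p.Prime]
  (N : Subgroup G) [hN : N.Normal] (hNres : N = pResidual p G)

include hNres

theorem isPGroup_quot : IsPGroup p (G ⧸ N) := by
  subst hNres
  exact isPGroup_quotient_pResidual p

theorem mem_of_coprime {g : G} (hg : Nat.Coprime (orderOf g) p) : g ∈ N := by
  subst hNres
  exact mem_pResidual_of_coprime' hg

theorem index_eq_pow : ∃ a : ℕ, N.index = p ^ a := by
  rw [Subgroup.index_eq_card]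
  exact IsPGroup.iff_card.1 (isPGroup_quot N hNres)

/-- `g ^ e ∈ N` for the `p`-part `e` of the group order. -/
theorem pow_ordProj_mem (g : G) : g ^ (p ^ (Nat.card G).factorization p) ∈ N := by
  obtain ⟨a, ha⟩ := index_eq_pow N hNres
  have h1 : p ^ a ∣ Nat.card G := by
    rw [← ha]
    exact Subgroup.index_dvd_card N
  have h2 : a ≤ (Nat.card G).factorization p :=
    (hp.out.pow_dvd_iff_le_factorization Nat.card_pos.ne').1 h1
  rw [← QuotientGroup.eq_one_iff, QuotientGroup.mk_pow]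
  have h3 : (QuotientGroup.mk g : G ⧸ N) ^ (p ^ a) = 1 := by
    rw [← ha, Subgroup.index_eq_card]
    exact pow_card_eq_one'
  obtain ⟨c, hc⟩ := pow_dvd_pow p h2
  rw [hc, pow_mul, h3, one_pow]

/-- Linear characters of `N` have order prime to `p`. -/
theorem hom_pow_ordCompl (f : N →* ℂˣ) (x : N) :
    f x ^ (Nat.card G / p ^ (Nat.card G).factorization p) = 1 := by
  set r := Nat.card G / p ^ (Nat.card G).factorization p with hr
  have hle : pResidual p G ≤ (MonoidHom.ker (f ^ r)).map N.subtype := by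
    unfold pResidual
    rw [Subgroup.closure_le]
    intro g hg
    have hgN : g ∈ N := mem_of_coprime N hNres hg
    refine ⟨⟨g, hgN⟩, ?_, rfl⟩
    show (⟨g, hgN⟩ : N) ∈ MonoidHom.ker (f ^ r)
    rw [MonoidHom.mem_ker, MonoidHom.pow_apply, ← map_pow]
    have h1 : orderOf g ∣ r := by
      have h2 : orderOf g ∣ p ^ (Nat.card G).factorization p * r := by
        rw [hr, Nat.ordProj_mul_ordCompl_eq_self]
        exact orderOf_dvd_natCard g
      exact (Nat.Coprime.pow_right _ hg).dvd_of_dvd_mul_left h2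
    have h3 : (⟨g, hgN⟩ : N) ^ r = 1 := by
      apply Subtype.ext
      rw [Subgroup.coe_pow, Subgroup.coe_one]
      exact orderOf_dvd_iff_pow_eq_one.1 h1
    rw [h3, map_one]
  have hx : (x : G) ∈ pResidual p G := by
    rw [← hNres]
    exact x.2
  obtain ⟨y, hy, hyx⟩ := hle hx
  have : y = x := Subtype.ext hyx
  rw [this] at hy
  have h4 : (f ^ r) x = 1 := hy
  rw [MonoidHom.pow_apply] at h4
  exact h4

/-- On `G ⧸ N` the `k`-th power map is the `(1+p)`-th power map. -/
theorem mk_pow_eq (k : ℕ)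
    (hk₁ : ∀ g : G, (∃ j : ℕ, orderOf g = p ^ j) → g ^ k = g ^ (1 + p))
    (hk₂ : ∀ g : G, Nat.Coprime (orderOf g) p → g ^ k = g) (g : G) :
    (QuotientGroup.mk (g ^ k) : G ⧸ N) = (QuotientGroup.mk g) ^ (1 + p) := by
  obtain ⟨x, y, hxy, hcomm, hx, hy⟩ := exists_isPPart hp.out g
  have hyc : Nat.Coprime (orderOf y) p :=
    ((Nat.Prime.coprime_iff_not_dvd hp.out).2 hy).symm
  have hyN : y ∈ N := mem_of_coprime N hNres hyc
  have hy1 : (QuotientGroup.mk y : G ⧸ N) = 1 := (QuotientGroup.eq_one_iff y).2 hyN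
  rw [← hxy, hcomm.mul_pow, hk₁ x hx, hk₂ y hyc, QuotientGroup.mk_mul, QuotientGroup.mk_mul,
    hy1, mul_one, mul_one, QuotientGroup.mk_pow]

/-- The exponent `k` is prime to the group order. -/
theorem coprime_card (k : ℕ)
    (hk₁ : ∀ g : G, (∃ j : ℕ, orderOf g = p ^ j) → g ^ k = g ^ (1 + p))
    (hk₂ : ∀ g : G, Nat.Coprime (orderOf g) p → g ^ k = g) :
    Nat.Coprime k (Nat.card G) := by
  apply Nat.Coprime.symm
  apply Nat.coprime_of_dvd
  intro q hq hqG hqk
  have : Fact q.Prime := ⟨hq⟩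
  obtain ⟨g, hg⟩ := exists_prime_orderOf_dvd_card' q hqG
  have hg1 : g ≠ 1 := by
    intro h
    rw [h, orderOf_one] at hg
    exact hq.one_lt.ne hg
  have hgk : g ^ k = 1 := by
    obtain ⟨c, rfl⟩ := hqk
    rw [pow_mul, ← hg, pow_orderOf_eq_one, one_pow]
  by_cases hqp : q = p
  · have h1 := hk₁ g ⟨1, by rw [hg, hqp, pow_one]⟩
    rw [hgk, pow_add, pow_one, ← hqp, ← hg, pow_orderOf_eq_one, mul_one] at h1
    exact hg1 h1.symm
  · have h1 := hk₂ g (by
      rw [hg]
      exact (Nat.coprime_primes hq hp.out).2 hqp)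
    rw [hgk] at h1
    exact hg1 h1.symm

/-- Invariance under a Sylow `p`-subgroup implies invariance under the whole group. -/
theorem invariant_of_sylow (P : Sylow p G) {θ : N → ℂ} (hθ : IsClassFunction N θ)
    (hP : ∀ x ∈ (P : Subgroup G), ∀ n : N, θ ⟨x * n * x⁻¹, hN.conj_mem n n.2 x⟩ = θ n)
    (g : G) (n : N) : θ ⟨g * n * g⁻¹, hN.conj_mem n n.2 g⟩ = θ n := by
  have h1 : N ≤ inertiaFn N θ := le_inertiaFn N hθ
  have h2 : (P : Subgroup G) ≤ inertiaFn N θ := by
    intro x hx
    rw [mem_inertiaFn]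
    funext n
    rw [conjFn_apply]
    exact hP x hx n
  have h3 : N ⊔ (P : Subgroup G) = ⊤ := by
    rw [hNres]
    exact pResidual_sup_sylow P
  have h4 : g ∈ inertiaFn N θ := by
    have : g ∈ N ⊔ (P : Subgroup G) := by rw [h3]; trivial
    exact (sup_le h1 h2) this
  rw [mem_inertiaFn] at h4
  have := congrFun h4 n
  rw [conjFn_apply] at this
  exact this

end

end Cfsg.Agent.Lib.Helper8.BZ
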