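import Mathlib
import Cfsg.Prelude.Def_Blocks
import Cfsg.Agent.Lib.Helper8.Cover3
import Cfsg.Agent.Lib.Helper8.CD4
import Cfsg.Agent.Lib.Helper8.BlockPairPrincipal
import Cfsg.Agent.S0887
import Cfsg.Agent.S0148

/-!
# Characters of `p'`-degree over a normal subgroup of `p`-power index
-/

set_option autoImplicit false
set_option linter.unusedSectionVars false
set_option linter.unusedVariables false

namespace Cfsg.Agent.Lib.Helper8.BZ

open Cfsg
open scoped ComplexConjugate
open Cfsg.Agent.Lib.Helper1 Cfsg.Agent.Lib.Helper4 Cfsg.Agent.Lib.Helper8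

universe u

section

variable {G : Type u} [Group G] [Fintype G] (N : Subgroup G) [hN : N.Normal] [Fintype N]
  {M : Ideal AlgInt} {p : ℕ}

/-- An irreducible character of degree prime to `p` restricts irreducibly to a normal subgroup
of `p`-power index. -/
theorem restrict_irr_of_index (hp : p.Prime) (hidx : ∃ a : ℕ, N.index = p ^ a)
    (χ : IrrCharacter G) (hdeg : ¬ p ∣ charDegree (χ : G → ℂ)) :
    ∃ θ : IrrCharacter N, ∀ n : N, (χ : G → ℂ) n = (θ : N → ℂ) n := by
  have hres : IsCharacter N (fun n : N => (χ : G → ℂ) n) :=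
    Cfsg.Agent.S0148.isCharacter_restrict N (isCharacter_of_irr χ.2)
  obtain ⟨θ, hθ⟩ := exists_irr_constituent hres (irr_apply_one_ne_zero χ.2)
  obtain ⟨hdc, hcd⟩ := Cfsg.Agent.S0887.result N (χ : G → ℂ) χ.2 (θ : N → ℂ) θ.2 hθ
    (charDegree (χ : G → ℂ)) (charDegree (θ : N → ℂ))
    (irr_apply_one_eq_charDegree χ.2).1 (irr_apply_one_eq_charDegree θ.2).1
  obtain ⟨a, ha⟩ := hidx
  rw [ha] at hcd
  obtain ⟨j, hj, hjeq⟩ := (Nat.dvd_prime_pow hp).1 hcd
  have hj0 : j = 0 := by
    by_contra hne
    apply hdeg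
    have h1 : p ∣ charDegree (χ : G → ℂ) / charDegree (θ : N → ℂ) := by
      rw [hjeq]
      exact dvd_pow_self p hne
    exact h1.trans (Nat.div_dvd_of_dvd hdc)
  rw [hj0, pow_zero] at hjeq
  have hceq : charDegree (χ : G → ℂ) = charDegree (θ : N → ℂ) :=
    (Nat.eq_of_dvd_of_div_eq_one hdc hjeq).symm
  have h2 := eq_irr_of_degree_le hres θ hθ (charDegree (χ : G → ℂ))
    (irr_apply_one_eq_charDegree χ.2).1 hceq.le
  exact ⟨θ, fun n => congrFun h2 n⟩

/-- Over a normal subgroup of `p`-power index, an extension lies in the principal block exactly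
when the character it extends does. -/
theorem mem_principalBlock_iff_of_restrict (hM : IsPModular p M)
    (hidx : ∃ a : ℕ, N.index = p ^ a) (χ : IrrCharacter G) (θ : IrrCharacter N)
    (h : ∀ n : N, (χ : G → ℂ) n = (θ : N → ℂ) n) :
    χ ∈ principalBlock M G ↔ θ ∈ principalBlock M N := by
  have hMp := isPModular_isPrime hM
  have hcov0 : Covers N (principalBlock M G) (principalBlock M N) := by
    refine ⟨trivIrr G, trivIrr_mem_principalBlock hMp.ne_top, trivIrr N,
      trivIrr_mem_principalBlock hMp.ne_top, ?_⟩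
    have h1 : (fun n : N => (trivIrr G : G → ℂ) n) = (trivIrr N : N → ℂ) := by
      funext n
      rw [trivIrr_apply, trivIrr_apply]
    rw [h1, classInner_irr_self (trivIrr N).2]
    exact one_ne_zero
  have hχθ : classInner (fun n : N => (χ : G → ℂ) n) (θ : N → ℂ) ≠ 0 := by
    have h1 : (fun n : N => (χ : G → ℂ) n) = (θ : N → ℂ) := funext h
    rw [h1, classInner_irr_self θ.2]
    exact one_ne_zero
  constructor
  · intro hχ
    have h1 := mem_gOrbit_of_covers N hMp isPBlock_principalBlock isPBlock_principalBlock hcov0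
      hχ hχθ
    obtain ⟨x, hx, hmem⟩ := h1
    rw [conjIrr_image_principalBlock] at hmem
    exact hmem
  · intro hθ
    have hB : IsPBlock M (blockOf M (χ : G → ℂ)) := ⟨χ, rfl⟩
    have hcov : Covers N (blockOf M (χ : G → ℂ)) (principalBlock M N) :=
      ⟨χ, sameBlock_refl hMp.ne_top _, θ, hθ, hχθ⟩
    have h1 := covers_unique_of_index N hM hidx hB isPBlock_principalBlock
      isPBlock_principalBlock hcov hcov0
    rw [← h1]
    exact sameBlock_refl hMp.ne_top _

end

end Cfsg.Agent.Lib.Helper8.BZ
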