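import Mathlib
import Cfsg.Prelude.Def_Blocks
import Cfsg.Prelude.Def_Transfer
import Cfsg.Agent.Lib.Helper8.BZ4
import Cfsg.Agent.Lib.Helper8.BZ5
import Cfsg.Agent.Lib.Helper8.BZ6
import Cfsg.Agent.Lib.Helper8.BZ7
import Cfsg.Agent.Lib.Helper4.GaloisTwist
import Cfsg.Agent.S0886

/-!
# Counting Galois-fixed characters of `p'`-degree in the principal block over the `p`-residual
-/

set_option autoImplicit false
set_option linter.unusedSectionVars false
set_option linter.unusedVariables false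

namespace Cfsg.Agent.Lib.Helper8.BZ

open Cfsg
open scoped ComplexConjugate
open Cfsg.Agent.Lib.Helper1 Cfsg.Agent.Lib.Helper4 Cfsg.Agent.Lib.Helper8

universe u

section

variable {G : Type u} [Group G] [Fintype G] {p : ℕ} [hp : Fact p.Prime]
  (N : Subgroup G) [hN : N.Normal] [Fintype N]

/-- The degree of a restriction. -/
theorem charDegree_of_restrict {χ : G → ℂ} {θ : N → ℂ} (h : ∀ n : N, χ n = θ n) :
    charDegree θ = charDegree χ := by
  unfold charDegree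
  rw [← h 1, Subgroup.coe_one]

/-- Existence of a `k`-fixed extension. -/
theorem exists_pow_fixed_extension (hNres : N = pResidual p G) (hcyc : IsCyclic (G ⧸ N)) (k : ℕ)
    (hk₁ : ∀ g : G, (∃ j : ℕ, orderOf g = p ^ j) → g ^ k = g ^ (1 + p))
    (hk₂ : ∀ g : G, Nat.Coprime (orderOf g) p → g ^ k = g)
    {θ : N → ℂ} (hθ : IsIrrCharacter N θ) (hdeg : ¬ p ∣ charDegree θ)
    (hinv : ∀ (g : G) (n : N), θ ⟨g * n * g⁻¹, hN.conj_mem (n : G) n.2 g⟩ = θ n)
    (hfix : ∀ n : N, θ (n ^ k) = θ n) :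
    ∃ η₀ : G → ℂ, IsIrrCharacter G η₀ ∧ (∀ n : N, η₀ n = θ n) ∧ ∀ g, η₀ (g ^ k) = η₀ g := by
  have hcardne : Nat.card G ≠ 0 := Nat.card_pos.ne'
  have : NeZero (Nat.card G) := ⟨hcardne⟩
  obtain ⟨τ, hτ⟩ := exists_complex_aut_pow (Nat.card G) k (coprime_card N hNres k hk₁ hk₂)
  have hτ' : ∀ c : ℂ, c ^ Nat.card G = 1 → (τ : ℂ →+* ℂ) c = c ^ k := hτ
  obtain ⟨η, hη, hηθ⟩ := Cfsg.Agent.S0886.result N hcyc θ hθ hinv
  set e := p ^ (Nat.card G).factorization p with he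
  set r := Nat.card G / p ^ (Nat.card G).factorization p with hr
  have her : e * r = Nat.card G := Nat.ordProj_mul_ordCompl_eq_self _ _
  have he0 : 0 < e := pow_pos hp.out.pos _
  have hcop : Nat.Coprime e r := (Nat.coprime_ordCompl hp.out hcardne).pow_left _
  have hG : ∀ g : G, g ^ (e * r) = 1 := by
    intro g
    rw [her]
    exact pow_card_eq_one'
  have hde : Nat.Coprime (charDegree θ) e :=
    (((Nat.Prime.coprime_iff_not_dvd hp.out).2 hdeg).symm).pow_right _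
  have hτθ : ∀ n : N, (τ : ℂ →+* ℂ) (θ n) = θ n := by
    intro n
    have hn : n ^ Nat.card G = 1 := by
      apply Subtype.ext
      rw [Subgroup.coe_pow, Subgroup.coe_one]
      exact pow_card_eq_one'
    rw [twist_apply (τ : ℂ →+* ℂ) (Nat.card G) k hτ' (isCharacter_of_irr hθ) n hn, hfix n]
  obtain ⟨η₀, hη₀, hη₀θ, hη₀τ⟩ := exists_fixed_extension N he0 hcop hG
    (pow_ordProj_mem N hNres) (hom_pow_ordCompl N hNres) hθ (irr_apply_one_eq_charDegree hθ).1 hde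
    hinv hη hηθ (τ : ℂ →+* ℂ) hτθ
  refine ⟨η₀, hη₀, hη₀θ, fun g => ?_⟩
  rw [← twist_apply (τ : ℂ →+* ℂ) (Nat.card G) k hτ' (isCharacter_of_irr hη₀) g pow_card_eq_one',
    hη₀τ g]

omit [Fintype G] hp in
/-- Counting by fibres of constant size. -/
theorem card_eq_mul_of_fibers {α β : Type u} [Finite α] [Finite β] (res : α → β) (q : ℕ)
    (h : ∀ b, Nat.card {a // res a = b} = q) : Nat.card α = q * Nat.card β := by
  classical
  have : Fintype β := Fintype.ofFinite β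
  rw [Nat.card_congr (Equiv.sigmaFiberEquiv res).symm, Nat.card_sigma,
    Finset.sum_congr rfl fun b _ => h b, Finset.sum_const, smul_eq_mul, mul_comm,
    Finset.card_univ, Nat.card_eq_fintype_card]

/-- **The count.** -/
theorem card_principal_fixed (M : Ideal AlgInt) (hM : IsPModular p M) (P : Sylow p G)
    (hNres : N = pResidual p G) (hcyc : IsCyclic (G ⧸ N)) (hnt : N ≠ ⊤) (k : ℕ)
    (hk₁ : ∀ g : G, (∃ j : ℕ, orderOf g = p ^ j) → g ^ k = g ^ (1 + p))
    (hk₂ : ∀ g : G, Nat.Coprime (orderOf g) p → g ^ k = g) :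
    Nat.card {χ : IrrCharacter G // χ ∈ principalBlock M G ∧ ¬ p ∣ charDegree (χ : G → ℂ) ∧
      ∀ g : G, (χ : G → ℂ) (g ^ k) = (χ : G → ℂ) g} =
    p * Nat.card {θ : IrrCharacter N // θ ∈ principalBlock M N ∧ ¬ p ∣ charDegree (θ : N → ℂ) ∧
      (∀ x ∈ (P : Subgroup G), ∀ n : N,
        (θ : N → ℂ) ⟨x * n * x⁻¹, hN.conj_mem n n.2 x⟩ = (θ : N → ℂ) n) ∧
      ∀ n : N, (θ : N → ℂ) (n ^ k) = (θ : N → ℂ) n} := by
  classical
  have hidx : ∃ a : ℕ, N.index = p ^ a := index_eq_pow N hNres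
  have hpdvd : p ∣ Nat.card (G ⧸ N) := by
    obtain ⟨a, ha⟩ := hidx
    rw [← Subgroup.index_eq_card, ha]
    apply dvd_pow_self
    rintro rfl
    rw [pow_zero, Subgroup.index_eq_one] at ha
    exact hnt ha
  -- the restriction map
  have hres : ∀ a : {χ : IrrCharacter G // χ ∈ principalBlock M G ∧
      ¬ p ∣ charDegree (χ : G → ℂ) ∧ ∀ g : G, (χ : G → ℂ) (g ^ k) = (χ : G → ℂ) g},
      ∃ b : {θ : IrrCharacter N // θ ∈ principalBlock M N ∧ ¬ p ∣ charDegree (θ : N → ℂ) ∧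
        (∀ x ∈ (P : Subgroup G), ∀ n : N,
          (θ : N → ℂ) ⟨x * n * x⁻¹, hN.conj_mem n n.2 x⟩ = (θ : N → ℂ) n) ∧
        ∀ n : N, (θ : N → ℂ) (n ^ k) = (θ : N → ℂ) n},
        ∀ n : N, ((a : IrrCharacter G) : G → ℂ) n = ((b : IrrCharacter N) : N → ℂ) n := by
    rintro ⟨χ, hχB, hχd, hχk⟩
    obtain ⟨θ, hθ⟩ := restrict_irr_of_index N hp.out hidx χ hχd
    refine ⟨⟨θ, ?_, ?_, ?_, ?_⟩, hθ⟩
    · exact (mem_principalBlock_iff_of_restrict N hM hidx χ θ hθ).1 hχB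
    · rw [charDegree_of_restrict N hθ]
      exact hχd
    · intro x hx n
      rw [← hθ, ← hθ]
      exact isClassFunction_irr χ.2 n x
    · intro n
      rw [← hθ, ← hθ, Subgroup.coe_pow]
      exact hχk n
  choose res hres' using hres
  apply card_eq_mul_of_fibers res p
  · rintro ⟨θ, hθB, hθd, hθP, hθk⟩
    have hinv := invariant_of_sylow N hNres P (isClassFunction_irr θ.2) hθP
    obtain ⟨η₀, hη₀, hη₀θ, hη₀k⟩ := exists_pow_fixed_extension N hNres hcyc k hk₁ hk₂ θ.2 hθd hinv hθk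
    refine Eq.trans ?_ (card_fixed_extensions N hcyc p k hpdvd (mk_pow_eq N hNres k hk₁ hk₂) θ.2
      hinv hη₀ hη₀θ hη₀k)
    apply Nat.card_congr
    refine ⟨fun a => ⟨a.1.1, ?_, a.1.2.2.2⟩, fun c => ⟨⟨c.1, ?_, ?_, c.2.2⟩, ?_⟩, ?_, ?_⟩
    · intro n
      rw [hres' a.1 n, a.2]
    · exact (mem_principalBlock_iff_of_restrict N hM hidx c.1 θ c.2.1).2 hθB
    · rw [← charDegree_of_restrict N c.2.1]
      exact hθd
    · apply Subtype.ext
      apply Subtype.ext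
      funext n
      rw [← hres' _ n]
      exact c.2.1 n
    · intro a
      rfl
    · intro c
      rfl

end

end Cfsg.Agent.Lib.Helper8.BZ
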