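import Mathlib
import Cfsg.Prelude.Def_Blocks
import Cfsg.Agent.Lib.Helper8.BlockCenterDefect2

/-!
# Centres of defect groups and induced blocks
-/

set_option autoImplicit false

namespace Cfsg.Agent.Lib.Helper8

open Cfsg
open scoped ComplexConjugate
open Cfsg.Agent.Lib.Helper1 Cfsg.Agent.Lib.Helper4

universe u

section

variable {G : Type u} [Group G] [Finite G] {M : Ideal AlgInt} {p : ℕ} [Fact p.Prime]

/-- There is a character of height zero in a block. -/
theorem exists_height_zero (hM : IsPModular p M) {B : Set (IrrCharacter G)} (hB : IsPBlock M B) :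
    ∃ χ ∈ B, (charDegree (χ : G → ℂ)).factorization p + blockDefect p B
      = (Nat.card G).factorization p := by
  have hMp := isPModular_isPrime hM
  have hp : p.Prime := Fact.out
  obtain ⟨χ₀, hχ₀⟩ := isPBlock_nonempty hMp hB
  set S := (fun χ : IrrCharacter G => (charDegree (χ : G → ℂ)).factorization p) '' B with hS
  have hSne : S.Nonempty := ⟨_, χ₀, hχ₀, rfl⟩
  obtain ⟨χ, hχ, hχS⟩ := Nat.sInf_mem hSne
  refine ⟨χ, hχ, ?_⟩
  have hdef : blockDefect p B = (Nat.card G).factorization p - sInf S := rfl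
  have hdvd := charDegree_dvd_card χ.2
  have hle : (charDegree (χ : G → ℂ)).factorization p ≤ (Nat.card G).factorization p := by
    have := (Nat.factorization_le_iff_dvd (irr_apply_one_eq_charDegree χ.2).2.ne'
      Nat.card_pos.ne').2 hdvd
    exact this p
  simp only at hχS
  omega

/-- If `g₀` represents a defect class of `B`, `P` is a Sylow `p`-subgroup of `C_G(g₀)` and `z` is
central in `P`, then the central characters of `B` do not vanish at `z g₀`. -/
theorem exists_unit_centralChar_mul_center (hM : IsPModular p M) {B : Set (IrrCharacter G)}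
    (hB : IsPBlock M B) {g₀ : G} (hg₀ : IsDefectClass M B g₀)
    (P₁ : Sylow p (Subgroup.centralizer ({g₀} : Set G))) {z : G}
    (hz : z ∈ (P₁ : Subgroup (Subgroup.centralizer ({g₀} : Set G))).map
      (Subgroup.centralizer ({g₀} : Set G)).subtype)
    (hzc : ∀ w ∈ (P₁ : Subgroup (Subgroup.centralizer ({g₀} : Set G))).map
      (Subgroup.centralizer ({g₀} : Set G)).subtype, z * w = w * z) :
    ∃ χ ∈ B, ¬ MemLocalIdeal M (centralChar (χ : G → ℂ) (z * g₀)) := by
  classical
  have : Fintype G := Fintype.ofFinite G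
  have hp : p.Prime := Fact.out
  have hMp := isPModular_isPrime hM
  set P := (P₁ : Subgroup (Subgroup.centralizer ({g₀} : Set G))).map
      (Subgroup.centralizer ({g₀} : Set G)).subtype with hPdef
  have hPp : IsPGroup p P := P₁.isPGroup'.map _
  have hPle : P ≤ Subgroup.centralizer ({g₀} : Set G) := by
    rintro _ ⟨w, _, rfl⟩
    exact w.2
  have hPcard : Nat.card P = p ^ blockDefect p B := by
    rw [hPdef, Nat.card_congr (Subgroup.equivMapOfInjective _ _
      (Subgroup.subtype_injective _)).symm.toEquiv]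
    exact card_sylow_centralizer_of_isDefectClass hM hB hg₀ P₁
  obtain ⟨χ, hχB, hχh⟩ := exists_height_zero hM hB
  refine ⟨χ, hχB, ?_⟩
  obtain ⟨hχ1, hn0⟩ := irr_apply_one_eq_charDegree χ.2
  set n := charDegree (χ : G → ℂ) with hn
  have hCd := factorization_card_centralizer_of_isDefectClass hM hB hg₀
  -- index of the centralizer of g₀
  have hidx0 : (Subgroup.centralizer ({g₀} : Set G)).index ≠ 0 := Subgroup.index_ne_zero_of_finite
  have hmul : Nat.card G = Nat.card (Subgroup.centralizer ({g₀} : Set G)) *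
      (Subgroup.centralizer ({g₀} : Set G)).index := (Subgroup.card_mul_index _).symm
  have ha : (Nat.card G).factorization p = blockDefect p B +
      (Subgroup.centralizer ({g₀} : Set G)).index.factorization p := by
    rw [hmul, Nat.factorization_mul Nat.card_pos.ne' hidx0, Finsupp.add_apply, hCd]
  have hr : MemLocalRing M (((Subgroup.centralizer ({g₀} : Set G)).index : ℂ) / (n : ℂ)) :=
    memLocalRing_natCast_div hM hidx0 hn0.ne' (by omega)
  have hχg₀ : ¬ MemLocalIdeal M ((χ : G → ℂ) g₀) := by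
    intro hJ
    apply hg₀.2.2 χ hχB
    unfold centralChar
    rw [hχ1]
    have e : ((Subgroup.centralizer ({g₀} : Set G)).index : ℂ) * (χ : G → ℂ) g₀ / (n : ℂ) =
        (((Subgroup.centralizer ({g₀} : Set G)).index : ℂ) / (n : ℂ)) * (χ : G → ℂ) g₀ := by ring
    rw [e]
    exact memLocalIdeal_mul_left hMp hr hJ
  -- z is a p-element commuting with g₀
  obtain ⟨k, hk⟩ := hPp ⟨z, hz⟩
  have hzk : z ^ (p ^ k) = 1 := by
    have := congrArg Subtype.val hk
    simpa using this
  have hzg₀ : z * g₀ = g₀ * z := by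
    have := hPle hz
    rw [Subgroup.mem_centralizer_singleton_iff] at this
    exact this
  have hcong := memLocalIdeal_char_mul_sub hM (isCharacter_of_irr χ.2) z g₀ k hzk hzg₀
  have hχzg : ¬ MemLocalIdeal M ((χ : G → ℂ) (z * g₀)) := by
    intro hJ
    apply hχg₀
    have := memLocalIdeal_sub hMp hJ hcong
    rwa [sub_sub_cancel] at this
  -- P centralizes z g₀
  have hPle' : P ≤ Subgroup.centralizer ({z * g₀} : Set G) := by
    intro w hw
    rw [Subgroup.mem_centralizer_singleton_iff]
    have h1 := hPle hw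
    rw [Subgroup.mem_centralizer_singleton_iff] at h1
    have h2 := hzc w hw
    calc w * (z * g₀) = (w * z) * g₀ := by group
      _ = z * (w * g₀) := by rw [← h2]; group
      _ = z * g₀ * w := by rw [h1]; group
  have hidx0' : (Subgroup.centralizer ({z * g₀} : Set G)).index ≠ 0 :=
    Subgroup.index_ne_zero_of_finite
  have hmul' : Nat.card G = Nat.card (Subgroup.centralizer ({z * g₀} : Set G)) *
      (Subgroup.centralizer ({z * g₀} : Set G)).index := (Subgroup.card_mul_index _).symm
  have hdvd' : p ^ blockDefect p B ∣ Nat.card (Subgroup.centralizer ({z * g₀} : Set G)) := by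
    rw [← hPcard]
    exact Subgroup.card_dvd_of_le hPle'
  have hd' : blockDefect p B ≤
      (Nat.card (Subgroup.centralizer ({z * g₀} : Set G))).factorization p :=
    (hp.pow_dvd_iff_le_factorization Nat.card_pos.ne').1 hdvd'
  have ha' : (Nat.card G).factorization p =
      (Nat.card (Subgroup.centralizer ({z * g₀} : Set G))).factorization p +
      (Subgroup.centralizer ({z * g₀} : Set G)).index.factorization p := by
    rw [hmul', Nat.factorization_mul Nat.card_pos.ne' hidx0', Finsupp.add_apply]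
  have hr' : MemLocalRing M ((n : ℂ) / ((Subgroup.centralizer ({z * g₀} : Set G)).index : ℂ)) :=
    memLocalRing_natCast_div hM hn0.ne' hidx0' (by omega)
  intro hJ
  apply hχzg
  have hidxC : ((Subgroup.centralizer ({z * g₀} : Set G)).index : ℂ) ≠ 0 :=
    Nat.cast_ne_zero.2 hidx0'
  have hnC : (n : ℂ) ≠ 0 := Nat.cast_ne_zero.2 hn0.ne'
  have e : (χ : G → ℂ) (z * g₀) =
      ((n : ℂ) / ((Subgroup.centralizer ({z * g₀} : Set G)).index : ℂ)) *
        centralChar (χ : G → ℂ) (z * g₀) := by
    unfold centralChar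
    rw [hχ1]
    field_simp
  rw [e]
  exact memLocalIdeal_mul_left hMp hr' hJ

/-- If `b` induces `B`, every element of the centre of a defect group of `B` is conjugate to an
element of the centre of any given defect group of `b`. -/
theorem exists_conj_mem_center_of_induced (hM : IsPModular p M) (H : Subgroup G)
    {b : Set (IrrCharacter H)} {B : Set (IrrCharacter G)} (hind : IsInducedBlock M H b B)
    {D : Subgroup H} (hD : IsDefectGroup p M b D) {P : Subgroup G} (hP : IsDefectGroup p M B P)
    {x : G} (hx : x ∈ P) (hxc : ∀ w ∈ P, x * w = w * x) :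
    ∃ g : G, g * x * g⁻¹ ∈ D.map H.subtype ∧
      ∀ w ∈ D.map H.subtype, (g * x * g⁻¹) * w = w * (g * x * g⁻¹) := by
  classical
  have : Fintype G := Fintype.ofFinite G
  have : Fintype H := Fintype.ofFinite _
  have hp : p.Prime := Fact.out
  have hMp := isPModular_isPrime hM
  obtain ⟨hb, hB, hcong⟩ := hind
  have hPp := isPGroup_of_isDefectGroup hP
  obtain ⟨g₀, hg₀, P₁, rfl⟩ := hP
  obtain ⟨χ, hχB, hχ⟩ := exists_unit_centralChar_mul_center hM hB hg₀ P₁ hx hxc
  obtain ⟨ξ, hξ⟩ := isPBlock_nonempty hMp hb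
  have c2 := hcong ξ hξ χ hχB (x * g₀)
  have hind' : ¬ MemLocalIdeal M (inducedCentralChar H (ξ : H → ℂ) (x * g₀)) := by
    intro hJ
    apply hχ
    have := memLocalIdeal_sub hMp hJ c2
    rwa [sub_sub_cancel] at this
  obtain ⟨h, hconj, hω⟩ := exists_conj_of_inducedCentralChar hMp H ξ.2 hind'
  obtain ⟨h', hh', _, hpp⟩ := exists_conj_centralizer_ppart_center hM hb hD ⟨ξ, hξ, hω⟩
  -- a conjugating element
  obtain ⟨t₁, ht₁⟩ := isConj_iff.1 hconj
  obtain ⟨t₂, ht₂⟩ := isConj_iff.1 hh'
  set t : G := (t₂ : G) * t₁ with ht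
  have hth : t * (x * g₀) * t⁻¹ = (h' : G) := by
    have e2 := congrArg Subtype.val ht₂
    simp only [Subgroup.coe_mul, Subgroup.coe_inv] at e2
    rw [← e2, ← ht₁, ht]
    group
  -- x is a p-element commuting with g₀
  obtain ⟨k, hk⟩ := (IsPGroup.iff_orderOf.1 hPp) ⟨x, hx⟩
  have hxk : orderOf x = p ^ k := by
    rw [← hk]
    exact (Subgroup.orderOf_mk x hx).symm
  have hxg₀ : x * g₀ = g₀ * x := by
    have : x ∈ Subgroup.centralizer ({g₀} : Set G) := by
      obtain ⟨w, _, rfl⟩ := hx
      exact w.2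
    rw [Subgroup.mem_centralizer_singleton_iff] at this
    exact this
  have hreg : ¬ p ∣ orderOf g₀ := not_dvd_orderOf_of_isDefectClass hM hB hg₀
  have hord : ∀ u : G, orderOf (t * u * t⁻¹) = orderOf u := by
    intro u
    have := orderOf_injective (MulAut.conj t).toMonoidHom (MulAut.conj t).injective u
    simpa using this
  have hPPG : IsPPart p (h' : G) (t * x * t⁻¹) := by
    refine ⟨t * g₀ * t⁻¹, ?_, ?_, ⟨k, ?_⟩, ?_⟩
    · rw [← hth]; group
    · show t * x * t⁻¹ * (t * g₀ * t⁻¹) = t * g₀ * t⁻¹ * (t * x * t⁻¹)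
      calc t * x * t⁻¹ * (t * g₀ * t⁻¹) = t * (x * g₀) * t⁻¹ := by group
        _ = t * (g₀ * x) * t⁻¹ := by rw [hxg₀]
        _ = t * g₀ * t⁻¹ * (t * x * t⁻¹) := by group
    · rw [hord, hxk]
    · rw [hord]; exact hreg
  obtain ⟨m, hm⟩ := IsPPart.exists_zpow hp hPPG
  set zH : H := h' ^ m with hzH
  have hzHc : (zH : G) = t * x * t⁻¹ := by
    rw [hzH, Subgroup.coe_zpow, ← hm]
  have hPPH : IsPPart p h' zH := by
    refine ⟨zH⁻¹ * h', by group, ?_, ⟨k, ?_⟩, ?_⟩
    · show zH * (zH⁻¹ * h') = zH⁻¹ * h' * zH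
      have : zH * h' = h' * zH := by
        rw [hzH]
        exact ((Commute.refl h').zpow_left m).eq
      calc zH * (zH⁻¹ * h') = h' := by group
        _ = zH⁻¹ * (zH * h') := by group
        _ = zH⁻¹ * (h' * zH) := by rw [this]
        _ = zH⁻¹ * h' * zH := by group
    · rw [← Subgroup.orderOf_coe, hzHc, hord, hxk]
    · rw [← Subgroup.orderOf_coe]
      have e : ((zH⁻¹ * h' : H) : G) = t * g₀ * t⁻¹ := by
        rw [Subgroup.coe_mul, Subgroup.coe_inv, hzHc, ← hth]
        group
      rw [e, hord]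
      exact hreg
  obtain ⟨hzD, hzcD⟩ := hpp zH hPPH
  refine ⟨t, ⟨zH, hzD, hzHc⟩, ?_⟩
  rintro _ ⟨w, hw, rfl⟩
  have := congrArg Subtype.val (hzcD w hw)
  simp only [Subgroup.coe_mul] at this
  rw [hzHc] at this
  exact this

end

end Cfsg.Agent.Lib.Helper8
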