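import Mathlib
import Cfsg.Prelude.Def_Blocks
import Cfsg.Agent.Lib.Helper8.BlockLocal
import Cfsg.Agent.Lib.Helper8.BlockUnion
import Cfsg.Agent.Lib.Helper8.BlockOrth2
import Cfsg.Agent.Lib.Helper8.BlockMinMax
import Cfsg.Agent.Lib.Helper8.PIdem2
import Cfsg.Agent.S0908

/-! S4607 swarm, package B7 part (a) (helper8): the character-theoretic endgame. -/

set_option autoImplicit false
set_option linter.unusedSectionVars false

open Cfsg Cfsg.Agent.Lib.Helper8
open scoped ComplexConjugate
open Cfsg.Agent.Lib.Helper1 Cfsg.Agent.Lib.Helper4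

namespace Cfsg.Agent.Lib.Lead.Brandt

section

variable {G : Type*} [Group G] [Fintype G]

/-- the average of an irreducible character over a subgroup is a natural number -/
theorem b7_avg_nat (χ : IrrCharacter G) (H : Subgroup G) [Fintype H] :
    ∃ u : ℕ, (u : ℂ) = (Nat.card H : ℂ)⁻¹ * ∑ y : H, (χ : G → ℂ) (y : G) := by
  obtain ⟨n, ρ, _, hρ⟩ := χ.2
  refine ⟨Module.finrank ℂ (LinearMap.range (ρ.asAlgebraHom (PIdem.eH H))), ?_⟩
  rw [← PIdem.trace_idem _ (by rw [← map_mul, PIdem.eH_mul_eH]), PIdem.trace_asAlgebraHom_eH, hρ]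

/-- a nonnegative combination of irreducible characters vanishing on the `p`-singular elements has
degree divisible by the full power of `p` -/
theorem b7_dvd_of_vanish [Fintype (IrrCharacter G)] (p : ℕ) [Fact p.Prime]
    (c : IrrCharacter G → ℕ)
    (hv : ∀ g : G, p ∣ orderOf g → ∑ χ : IrrCharacter G, (c χ : ℂ) * (χ : G → ℂ) g = 0) :
    p ^ (Nat.card G).factorization p ∣ ∑ χ : IrrCharacter G, c χ * charDegree (χ : G → ℂ) := by
  classical
  obtain P : Sylow p G := default
  have : Fintype (P : Subgroup G) := Fintype.ofFinite _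
  choose u hu using fun χ : IrrCharacter G => b7_avg_nat χ (P : Subgroup G)
  have hcard : Nat.card (P : Subgroup G) = p ^ (Nat.card G).factorization p :=
    P.card_eq_multiplicity
  refine ⟨∑ χ, c χ * u χ, ?_⟩
  have hP0 : (Nat.card (P : Subgroup G) : ℂ) ≠ 0 := by exact_mod_cast Nat.card_pos.ne'
  have key : ∑ y : (P : Subgroup G), ∑ χ : IrrCharacter G, (c χ : ℂ) * (χ : G → ℂ) (y : G)
      = ∑ χ : IrrCharacter G, (c χ : ℂ) * (χ : G → ℂ) 1 := by
    rw [Finset.sum_eq_single (1 : (P : Subgroup G))]
    · simp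
    · intro y _ hy
      apply hv
      obtain ⟨j, hj⟩ := (IsPGroup.iff_orderOf.1 P.isPGroup') y
      have hj0 : j ≠ 0 := by
        intro h0
        rw [h0, pow_zero, orderOf_eq_one_iff] at hj
        exact hy hj
      rw [Subgroup.orderOf_coe, hj]
      exact dvd_pow_self p hj0
    · intro h
      exact absurd (Finset.mem_univ _) h
  have hu' : ∀ χ : IrrCharacter G, ∑ y : (P : Subgroup G), (χ : G → ℂ) (y : G)
      = (Nat.card (P : Subgroup G) : ℂ) * (u χ : ℂ) := by
    intro χ
    rw [hu χ, ← mul_assoc, mul_inv_cancel₀ hP0, one_mul]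
  apply Nat.cast_injective (R := ℂ)
  rw [← hcard]
  push_cast
  calc ∑ χ : IrrCharacter G, (c χ : ℂ) * (charDegree (χ : G → ℂ) : ℂ)
      = ∑ χ : IrrCharacter G, (c χ : ℂ) * (χ : G → ℂ) 1 := by
        refine Finset.sum_congr rfl fun χ _ => ?_
        rw [(irr_apply_one_eq_charDegree χ.2).1]
    _ = ∑ y : (P : Subgroup G), ∑ χ : IrrCharacter G, (c χ : ℂ) * (χ : G → ℂ) (y : G) := key.symm
    _ = ∑ χ : IrrCharacter G, (c χ : ℂ) * ∑ y : (P : Subgroup G), (χ : G → ℂ) (y : G) := by
        rw [Finset.sum_comm]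
        refine Finset.sum_congr rfl fun χ _ => ?_
        rw [Finset.mul_sum]
    _ = (Nat.card (P : Subgroup G) : ℂ) * ∑ χ : IrrCharacter G, (c χ : ℂ) * (u χ : ℂ) := by
        rw [Finset.mul_sum]
        refine Finset.sum_congr rfl fun χ _ => ?_
        rw [hu' χ]
        ring

/-- a character of full `p`-part degree is alone in its block -/
theorem b7_false_of_dvd (p : ℕ) [Fact p.Prime] (M : Ideal AlgInt) (hM : IsPModular p M)
    (B : Set (IrrCharacter G)) (hB : IsPBlock M B) (h : Nat.card B = 2)
    (χ : IrrCharacter G) (hχ : χ ∈ B)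
    (hd : p ^ (Nat.card G).factorization p ∣ charDegree (χ : G → ℂ)) : False := by
  have hMp := isPModular_isPrime hM
  have h1 : ¬ p ∣ Nat.card G / charDegree (χ : G → ℂ) := by
    obtain ⟨q, hq⟩ := charDegree_dvd_card χ.2
    have hd0 := (irr_apply_one_eq_charDegree χ.2).2
    rw [hq, Nat.mul_div_cancel_left _ hd0]
    intro hpq
    have : p ^ ((Nat.card G).factorization p + 1) ∣ Nat.card G := by
      conv_rhs => rw [hq]
      rw [pow_succ]
      exact Nat.mul_dvd_mul hd hpq
    exact Nat.pow_succ_factorization_not_dvd (Nat.card_pos.ne') (Fact.out) this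
  have h2 := blockOf_eq_singleton_of_not_dvd hM χ h1
  have h3 : B = {χ} := by rw [eq_blockOf_of_mem hMp hB hχ, h2]
  rw [h3] at h
  simp at h

/-- **Endgame of Brandt's theorem**: multiplicities `m` supported on a block `B` of two characters,
with `1 ≤ ∑ m² ≤ 2` and `∑ m_χ χ` vanishing on the `p`-singular elements, force `|D| = 2`. -/
theorem b7_endgame [Fintype (IrrCharacter G)] (p : ℕ) [Fact p.Prime] (M : Ideal AlgInt)
    (hM : IsPModular p M) (B : Set (IrrCharacter G)) (hB : IsPBlock M B)
    (D : Subgroup G) (hD : IsDefectGroup p M B D) (h : Nat.card B = 2)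
    (m : IrrCharacter G → ℕ) (hm0 : ∀ χ, χ ∉ B → m χ = 0)
    (hm1 : 1 ≤ ∑ χ : IrrCharacter G, (m χ) ^ 2) (hm2 : ∑ χ : IrrCharacter G, (m χ) ^ 2 ≤ 2)
    (hsing : ∀ g : G, p ∣ orderOf g →
      ∑ χ : IrrCharacter G, (m χ : ℂ) * conj ((χ : G → ℂ) g) = 0) :
    Nat.card D = 2 := by
  classical
  have hp : p.Prime := Fact.out
  -- the two members of `B`
  have hnc : B.ncard = 2 := by rw [← Nat.card_coe_set_eq]; exact h
  obtain ⟨χ₁, χ₂, hne, hBeq⟩ := Set.ncard_eq_two.1 hnc
  have h1B : χ₁ ∈ B := by rw [hBeq]; simp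
  have h2B : χ₂ ∈ B := by rw [hBeq]; simp
  have hsum : ∀ {A : Type} [AddCommMonoid A] (f : IrrCharacter G → A),
      (∀ χ, χ ∉ B → f χ = 0) → ∑ χ : IrrCharacter G, f χ = f χ₁ + f χ₂ := by
    intro A _ f hf
    rw [← Finset.sum_pair hne]
    symm
    apply Finset.sum_subset (Finset.subset_univ _)
    intro χ _ hχ
    apply hf
    rw [hBeq]
    simpa using hχ
  -- multiplicities
  have hsq : ∑ χ : IrrCharacter G, (m χ) ^ 2 = (m χ₁) ^ 2 + (m χ₂) ^ 2 :=
    hsum (fun χ => (m χ) ^ 2) (fun χ hχ => by simp [hm0 χ hχ])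
  rw [hsq] at hm1 hm2
  have hle1 : m χ₁ ≤ 1 := by nlinarith
  have hle2 : m χ₂ ≤ 1 := by nlinarith
  -- vanishing of `∑ m χ` on singular elements
  have hv : ∀ g : G, p ∣ orderOf g →
      ∑ χ : IrrCharacter G, (m χ : ℂ) * (χ : G → ℂ) g = 0 := by
    intro g hg
    have := congrArg conj (hsing g hg)
    simpa [map_sum] using this
  have hdvd := b7_dvd_of_vanish p m hv
  have hdeg : ∑ χ : IrrCharacter G, m χ * charDegree (χ : G → ℂ)
      = m χ₁ * charDegree (χ₁ : G → ℂ) + m χ₂ * charDegree (χ₂ : G → ℂ) :=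
    hsum (fun χ => m χ * charDegree (χ : G → ℂ)) (fun χ hχ => by simp [hm0 χ hχ])
  rw [hdeg] at hdvd
  -- the cases
  interval_cases h1 : m χ₁ <;> interval_cases h2 : m χ₂
  · omega
  · exfalso
    apply b7_false_of_dvd p M hM B hB h χ₂ h2B
    simpa using hdvd
  · exfalso
    apply b7_false_of_dvd p M hM B hB h χ₁ h1B
    simpa using hdvd
  · -- both multiplicities are one
    simp only [one_mul] at hdvd
    have hv' : ∀ g : G, p ∣ orderOf g → conj ((χ₁ : G → ℂ) g) + conj ((χ₂ : G → ℂ) g) = 0 := by
      intro g hg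
      have := hsing g hg
      rw [hsum (fun χ => (m χ : ℂ) * conj ((χ : G → ℂ) g))
        (fun χ hχ => by simp [hm0 χ hχ]), h1, h2] at this
      simpa using this
    have hos : ∀ g : G, p ∣ orderOf g →
        (charDegree (χ₁ : G → ℂ) : ℂ) * conj ((χ₁ : G → ℂ) g)
          + (charDegree (χ₂ : G → ℂ) : ℂ) * conj ((χ₂ : G → ℂ) g) = 0 := by
      intro g hg
      have h0 := blockCoeff_eq_zero_of_dvd_orderOf hM hB hg
      rw [blockCoeff_eq_sum] at h0
      have hG0 : (Nat.card G : ℂ)⁻¹ ≠ 0 := inv_ne_zero (by exact_mod_cast Nat.card_pos.ne')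
      have h0' := (mul_eq_zero.1 h0).resolve_left hG0
      rw [hsum _ (fun χ hχ => by rw [if_neg hχ]; ring), if_pos h1B, if_pos h2B] at h0'
      rw [← (irr_apply_one_eq_charDegree χ₁.2).1, ← (irr_apply_one_eq_charDegree χ₂.2).1]
      simpa using h0'
    by_cases hdd : charDegree (χ₁ : G → ℂ) = charDegree (χ₂ : G → ℂ)
    · -- equal degrees
      rw [← hdd, ← two_mul] at hdvd
      set n := charDegree (χ₁ : G → ℂ) with hn
      set a := (Nat.card G).factorization p with ha
      have hn0 : n ≠ 0 := (irr_apply_one_eq_charDegree χ₁.2).2.ne'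
      by_cases hp2 : p = 2
      · subst hp2
        have hdef : blockDefect 2 B = a - n.factorization 2 := by
          unfold blockDefect
          rw [hBeq, Set.image_pair, ← hdd, Set.pair_eq_singleton, csInf_singleton]
        have hDcard := Cfsg.Agent.S0908.result 2 M hM B hB D hD
        rw [hdef] at hDcard
        -- `2 ^ a ∣ 2 * n`
        have hfac : a ≤ n.factorization 2 + 1 := by
          have h3 := (Nat.factorization_le_iff_dvd (by positivity) (by positivity)).2 hdvd
          have h4 := h3 2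
          rw [Nat.factorization_mul (by norm_num) hn0] at h4
          simp only [Nat.Prime.factorization_pow Nat.prime_two, Finsupp.coe_add, Pi.add_apply,
            Finsupp.single_eq_same, Nat.prime_two.factorization_self] at h4
          omega
        by_cases hfull : a ≤ n.factorization 2
        · exfalso
          apply b7_false_of_dvd 2 M hM B hB h χ₁ h1B
          rw [← hn, ← ha]
          exact (pow_dvd_pow 2 hfull).trans (Nat.ordProj_dvd n 2)
        · have : a - n.factorization 2 = 1 := by omega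
          rw [this, pow_one] at hDcard
          exact hDcard
      · exfalso
        apply b7_false_of_dvd p M hM B hB h χ₁ h1B
        rw [← hn, ← ha]
        have hcop : Nat.Coprime (p ^ a) 2 := by
          apply Nat.Coprime.pow_left
          rw [Nat.coprime_primes hp Nat.prime_two]
          exact hp2
        exact hcop.dvd_of_dvd_mul_left hdvd
    · -- different degrees: `χ₁` vanishes on singular elements
      exfalso
      apply b7_false_of_dvd p M hM B hB h χ₁ h1B
      have hv1 : ∀ g : G, p ∣ orderOf g → ∑ χ : IrrCharacter G,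
          ((if χ = χ₁ then 1 else 0 : ℕ) : ℂ) * (χ : G → ℂ) g = 0 := by
        intro g hg
        rw [Finset.sum_eq_single χ₁]
        · have e1 := hv' g hg
          have e2 := hos g hg
          have e3 : conj ((χ₂ : G → ℂ) g) = - conj ((χ₁ : G → ℂ) g) := by
            linear_combination e1
          rw [e3] at e2
          have e4 : ((charDegree (χ₁ : G → ℂ) : ℂ) - (charDegree (χ₂ : G → ℂ) : ℂ))
              * conj ((χ₁ : G → ℂ) g) = 0 := by
            rw [sub_mul]; linear_combination e2
          have e5 : (charDegree (χ₁ : G → ℂ) : ℂ) - (charDegree (χ₂ : G → ℂ) : ℂ) ≠ 0 := by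
            rw [sub_ne_zero]
            exact_mod_cast hdd
          have e6 := (mul_eq_zero.1 e4).resolve_left e5
          have e7 : (χ₁ : G → ℂ) g = 0 := by
            have := congrArg conj e6
            simpa using this
          simp [e7]
        · intro χ _ hχ
          simp [hχ]
        · intro hh
          exact absurd (Finset.mem_univ _) hh
      have := b7_dvd_of_vanish p (fun χ => if χ = χ₁ then 1 else 0) hv1
      rw [Finset.sum_eq_single χ₁] at this
      · simpa using this
      · intro χ _ hχ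
        simp [hχ]
      · intro hh
        exact absurd (Finset.mem_univ _) hh

end

end Cfsg.Agent.Lib.Lead.Brandt
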