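import Mathlib
import Cfsg.Prelude.Def_Blocks
import Cfsg.Agent.Lib.Helper8.BlockLocal
import Cfsg.Agent.Lib.Lead.BrandtDefs
import Cfsg.Agent.Lib.Lead.Brandt_B1
import Cfsg.Agent.Lib.Lead.Brandt_B3
import Cfsg.Agent.Lib.Helper7.Brandt_B2
import Cfsg.Agent.Lib.Helper3.Brandt_B5
import Cfsg.Agent.Lib.Helper6.Brandt_B6
import Cfsg.Agent.Lib.Helper8.Brandt_B4
import Cfsg.Agent.Lib.Helper8.Brandt_B7a
import Cfsg.Agent.Lib.Helper2.Brandt_A2

/-! S4607 swarm, package B7 (helper8): assembly of `k(B) = 2 ⇒ |D| = 2`. -/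

set_option autoImplicit false
set_option linter.unusedSectionVars false

open Cfsg Cfsg.Agent.Lib.Helper8
open scoped ComplexConjugate

namespace Cfsg.Agent.Lib.Lead.Brandt

section

variable {M : Ideal AlgInt} {G : Type*} [Group G] [Fintype G]

/-- B4: `dim Z(kG) ε ≤ 2` when `|B| = 2` -/
theorem no_three_indep {p : ℕ} (hM : IsPModular p M) {k : Type*} [Field k]
    (res : ↥(localRing M (isPModular_isPrime hM)) →+* k)
    (hres : Function.Surjective res) (_hker : ∀ z, res z = 0 ↔ MemLocalIdeal M (z : ℂ))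
    {B : Set (IrrCharacter G)} (_hB : IsPBlock M B) (hcard : Nat.card B = 2)
    (eB : MonoidAlgebra ↥(localRing M (isPModular_isPrime hM)) G)
    (heB : ∀ g, ((eB.coeff g : ↥(localRing M (isPModular_isPrime hM))) : ℂ) = blockCoeff B g)
    (z : Fin 3 → MonoidAlgebra k G) (hz : ∀ i x, z i * x = x * z i)
    (hzε : ∀ i, z i * MonoidAlgebra.mapRingHom G res eB = z i) :
    ¬ LinearIndependent k z :=
  no_three_indep_aux hM res hres
    (fun v h => linearIndependent_of_res (isPModular_isPrime hM) res hres v h) hcard eB heB z hz hzε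

end

/-- B7 -/
theorem card_defect_of_card_block_two {G : Type*} [Group G] [Finite G] (p : ℕ) [Fact p.Prime]
    (M : Ideal AlgInt) (hM : IsPModular p M) (B : Set (IrrCharacter G)) (hB : IsPBlock M B)
    (D : Subgroup G) (hD : IsDefectGroup p M B D) (h : Nat.card B = 2) : Nat.card D = 2 := by
  classical
  have : Fintype G := Fintype.ofFinite G
  have : Fintype (IrrCharacter G) := Fintype.ofFinite _
  obtain ⟨k, _, _, res, hres, hker⟩ := exists_resField hM
  obtain ⟨eB, heB, heBid, heBc, -⟩ := exists_blockIdem hM hB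
  have hε : IsIdempotentElem (MonoidAlgebra.mapRingHom G res eB) :=
    heBid.map (MonoidAlgebra.mapRingHom G res)
  have hεc : ∀ x, MonoidAlgebra.mapRingHom G res eB * x = x * MonoidAlgebra.mapRingHom G res eB := by
    apply central_of_coeff_conj
    intro g t
    rw [MonoidAlgebra.coeff_mapRingHom, MonoidAlgebra.coeff_mapRingHom]
    congr 1
    exact b4_coeff_conj_of_central heBc g t
  have hε0 : MonoidAlgebra.mapRingHom G res eB ≠ 0 := res_blockIdem_ne_zero hM res hker hB eB heB
  obtain ⟨e, he, he0, heε, hdim⟩ := brandt_alg (tr1 k G) (tr1_mul_comm k G) (tr1_nondeg k G)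
    (MonoidAlgebra.mapRingHom G res eB) hε hεc hε0
    (fun z hz hzε => no_three_indep hM res hres hker hB h eB heB z hz hzε)
  obtain ⟨ê, hê, hêe, hêE⟩ := exists_lift_idem hM res hres hker eB heBid heBc e he heε
  -- pass to the complex group algebra
  have hιinj : Function.Injective
      (MonoidAlgebra.mapRingHom G (localRing M (isPModular_isPrime hM)).subtype) := by
    intro x y hxy
    apply b4_ext
    intro g
    have := congrArg (fun w => w.coeff g) hxy
    simp only [MonoidAlgebra.coeff_mapRingHom] at this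
    exact Subtype.ext this
  have hf : IsIdempotentElem
      (MonoidAlgebra.mapRingHom G (localRing M (isPModular_isPrime hM)).subtype ê) :=
    hê.map (MonoidAlgebra.mapRingHom G (localRing M (isPModular_isPrime hM)).subtype)
  have hrank := finrank_corner_eq (isPModular_isPrime hM) res hres ê hê
  rw [hêe] at hrank
  set f : MonoidAlgebra ℂ G :=
    MonoidAlgebra.mapRingHom G (localRing M (isPModular_isPrime hM)).subtype ê with hfdef
  -- multiplicities
  choose m hm using fun χ : IrrCharacter G => evalC_idem_nat f hf χ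
  have hsq : ∑ χ : IrrCharacter G, (m χ) ^ 2 = Module.finrank ℂ ↥(corner ℂ f) := by
    have h1 := sum_evalC_sq f hf
    simp only [hm] at h1
    exact_mod_cast h1
  have hm0 : ∀ χ, χ ∉ B → m χ = 0 := by
    intro χ hχ
    have h1 := evalC_eq_zero_of_not_mem B f
      (MonoidAlgebra.mapRingHom G (localRing M (isPModular_isPrime hM)).subtype eB)
      (fun g => by rw [MonoidAlgebra.coeff_mapRingHom]; exact heB g)
      (by rw [hfdef, ← map_mul, hêE]) χ hχ
    rw [hm χ] at h1
    exact_mod_cast h1
  have hloc : ∀ g, MemLocalRing M (f.coeff g) := by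
    intro g
    rw [hfdef, MonoidAlgebra.coeff_mapRingHom]
    exact (mem_localRing_iff _ _).1 (ê.coeff g).2
  have hsing : ∀ g : G, p ∣ orderOf g →
      ∑ χ : IrrCharacter G, (m χ : ℂ) * conj ((χ : G → ℂ) g) = 0 := by
    intro g hg
    have h1 := sum_evalC_mul_singular hM f hf hloc g hg
    simp only [hm] at h1
    exact h1
  -- the corner is not zero
  have hf0 : f ≠ 0 := by
    intro h0
    have h1 : ê = 0 := hιinj (by rw [← hfdef, h0, map_zero])
    rw [h1, map_zero] at hêe
    exact he0 hêe.symm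
  have hpos : 1 ≤ Module.finrank ℂ ↥(corner ℂ f) := by
    have hfmem : f ∈ corner ℂ f := (mem_corner f f).2 ⟨f, by rw [hf.eq, hf.eq]⟩
    have : 0 < Module.finrank ℂ ↥(corner ℂ f) := by
      rw [Module.finrank_pos_iff_exists_ne_zero]
      exact ⟨⟨f, hfmem⟩, fun h => hf0 (congrArg Subtype.val h)⟩
    omega
  exact b7_endgame p M hM B hB D hD h m hm0 (by rw [hsq]; exact hpos)
    (by rw [hsq, hrank]; exact hdim) hsing

end Cfsg.Agent.Lib.Lead.Brandt
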