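import Mathlib
import Cfsg.Prelude.Def_GeometricClasses

/-! # S6000 package PK-T: test elements of SL_4(F) of order 5 and 3 -/

set_option autoImplicit false
open scoped MatrixGroups

namespace Cfsg.Agent.Lib.C6Pk

/-- determinant of a 4×4 matrix by expansion. -/
theorem pk7_det_fin_four {R : Type*} [CommRing R] (A : Matrix (Fin 4) (Fin 4) R) :
    A.det = A 0 0 * (A 1 1 * (A 2 2 * A 3 3 - A 2 3 * A 3 2) - A 1 2 * (A 2 1 * A 3 3 - A 2 3 * A 3 1)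
        + A 1 3 * (A 2 1 * A 3 2 - A 2 2 * A 3 1))
      - A 0 1 * (A 1 0 * (A 2 2 * A 3 3 - A 2 3 * A 3 2) - A 1 2 * (A 2 0 * A 3 3 - A 2 3 * A 3 0)
        + A 1 3 * (A 2 0 * A 3 2 - A 2 2 * A 3 0))
      + A 0 2 * (A 1 0 * (A 2 1 * A 3 3 - A 2 3 * A 3 1) - A 1 1 * (A 2 0 * A 3 3 - A 2 3 * A 3 0)
        + A 1 3 * (A 2 0 * A 3 1 - A 2 1 * A 3 0))
      - A 0 3 * (A 1 0 * (A 2 1 * A 3 2 - A 2 2 * A 3 1) - A 1 1 * (A 2 0 * A 3 2 - A 2 2 * A 3 0)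
        + A 1 2 * (A 2 0 * A 3 1 - A 2 1 * A 3 0)) := by
  rw [Matrix.det_succ_row_zero]
  simp only [Fin.sum_univ_four, Matrix.det_fin_three, Matrix.submatrix_apply]
  simp [Fin.succAbove, Fin.lt_def]
  ring

def pk7_M {F : Type*} [Field F] (τ : F) : Matrix (Fin 4) (Fin 4) F :=
  !![0, -1, 0, 0; 1, τ, 0, 0; 0, 0, 1, 0; 0, 0, 0, 1]

def pk7_M2 {F : Type*} [Field F] (τ : F) : Matrix (Fin 4) (Fin 4) F :=
  !![-1, -τ, 0, 0; τ, -τ, 0, 0; 0, 0, 1, 0; 0, 0, 0, 1]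

def pk7_M3 {F : Type*} [Field F] (τ : F) : Matrix (Fin 4) (Fin 4) F :=
  !![-τ, τ, 0, 0; -τ, -1, 0, 0; 0, 0, 1, 0; 0, 0, 0, 1]

def pk7_M4 {F : Type*} [Field F] (τ : F) : Matrix (Fin 4) (Fin 4) F :=
  !![τ, 1, 0, 0; -1, 0, 0, 0; 0, 0, 1, 0; 0, 0, 0, 1]

theorem pk7_M_mul_M {F : Type*} [Field F] (τ : F) (hτ : τ ^ 2 + τ - 1 = 0) :
    pk7_M τ * pk7_M τ = pk7_M2 τ := by
  have h : τ * τ = 1 - τ := by linear_combination hτ
  ext i j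
  fin_cases i <;> fin_cases j <;>
    simp [pk7_M, pk7_M2, Matrix.mul_apply, Fin.sum_univ_four, h] <;> ring

theorem pk7_M2_mul_M {F : Type*} [Field F] (τ : F) (hτ : τ ^ 2 + τ - 1 = 0) :
    pk7_M2 τ * pk7_M τ = pk7_M3 τ := by
  have h : τ * τ = 1 - τ := by linear_combination hτ
  ext i j
  fin_cases i <;> fin_cases j <;>
    simp [pk7_M, pk7_M2, pk7_M3, Matrix.mul_apply, Fin.sum_univ_four, h] <;> ring

theorem pk7_M3_mul_M {F : Type*} [Field F] (τ : F) (hτ : τ ^ 2 + τ - 1 = 0) :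
    pk7_M3 τ * pk7_M τ = pk7_M4 τ := by
  have h : τ * τ = 1 - τ := by linear_combination hτ
  ext i j
  fin_cases i <;> fin_cases j <;>
    simp [pk7_M, pk7_M3, pk7_M4, Matrix.mul_apply, Fin.sum_univ_four, h]

theorem pk7_M4_mul_M {F : Type*} [Field F] (τ : F) :
    pk7_M4 τ * pk7_M τ = 1 := by
  ext i j
  fin_cases i <;> fin_cases j <;>
    simp [pk7_M, pk7_M4, Matrix.mul_apply, Fin.sum_univ_four]

theorem pk7_M_mul_M4 {F : Type*} [Field F] (τ : F) :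
    pk7_M τ * pk7_M4 τ = 1 := by
  ext i j
  fin_cases i <;> fin_cases j <;>
    simp [pk7_M, pk7_M4, Matrix.mul_apply, Fin.sum_univ_four]


/-- the test element of order 5 as an element of `GL_4(F)`. -/
def pk7_x5 {F : Type*} [Field F] (τ : F) : GL (Fin 4) F :=
  ⟨pk7_M τ, pk7_M4 τ, pk7_M_mul_M4 τ, pk7_M4_mul_M τ⟩

theorem pk7_x5_val {F : Type*} [Field F] (τ : F) :
    ((pk7_x5 τ : GL (Fin 4) F) : Matrix (Fin 4) (Fin 4) F) = pk7_M τ := rfl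

theorem pk7_x5_inv_val {F : Type*} [Field F] (τ : F) :
    (((pk7_x5 τ)⁻¹ : GL (Fin 4) F) : Matrix (Fin 4) (Fin 4) F) = pk7_M4 τ := rfl

theorem sl4_test_five {F : Type*} [Field F] (τ : F) (hτ : τ ^ 2 + τ - 1 = 0) :
    ∃ x : GL (Fin 4) F, x ∈ Cfsg.Geo.specialLinear (Fin 4) F ∧ x ^ 5 = 1 ∧
      (∀ z : F, (x : Matrix (Fin 4) (Fin 4) F) ≠ z • 1) ∧
      (x : Matrix (Fin 4) (Fin 4) F).trace = τ + 2 ∧
      ((x⁻¹ : GL (Fin 4) F) : Matrix (Fin 4) (Fin 4) F).trace = τ + 2 ∧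
      (τ = 2 → ∃ u ψ : Fin 4 → F, (x : Matrix (Fin 4) (Fin 4) F) = 1 + Matrix.vecMulVec u ψ) := by
  refine ⟨pk7_x5 τ, ?_, ?_, ?_, ?_, ?_, ?_⟩
  · unfold Cfsg.Geo.specialLinear
    rw [MonoidHom.mem_ker]
    apply Units.ext
    rw [Matrix.GeneralLinearGroup.val_det_apply, pk7_x5_val, Units.val_one, pk7_det_fin_four]
    simp [pk7_M]
  · apply Units.ext
    rw [Units.val_pow_eq_pow_val, pk7_x5_val, Units.val_one]
    have : pk7_M τ ^ 5 = pk7_M τ * pk7_M τ * pk7_M τ * pk7_M τ * pk7_M τ := by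
      simp only [pow_succ, pow_zero, one_mul]
    rw [this, pk7_M_mul_M τ hτ, pk7_M2_mul_M τ hτ, pk7_M3_mul_M τ hτ, pk7_M4_mul_M]
  · intro z hz
    rw [pk7_x5_val] at hz
    have := congrFun (congrFun hz 1) 0
    simp [pk7_M] at this
  · rw [pk7_x5_val]
    simp [pk7_M, Matrix.trace, Fin.sum_univ_four]
    ring
  · rw [pk7_x5_inv_val]
    simp [pk7_M4, Matrix.trace, Fin.sum_univ_four]
    ring
  · intro h2
    refine ⟨![-1, 1, 0, 0], ![1, 1, 0, 0], ?_⟩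
    rw [pk7_x5_val]
    ext i j
    fin_cases i <;> fin_cases j <;>
      simp [pk7_M, Matrix.vecMulVec_apply, Matrix.one_apply, h2]
    norm_num

/-! ## order 3 -/

def pk7_D {F : Type*} [Field F] (ω : F) : Matrix (Fin 4) (Fin 4) F :=
  !![ω, 0, 0, 0; 0, ω, 0, 0; 0, 0, ω, 0; 0, 0, 0, 1]

def pk7_D2 {F : Type*} [Field F] (ω : F) : Matrix (Fin 4) (Fin 4) F :=
  !![ω ^ 2, 0, 0, 0; 0, ω ^ 2, 0, 0; 0, 0, ω ^ 2, 0; 0, 0, 0, 1]

theorem pk7_D_mul_D {F : Type*} [Field F] (ω : F) :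
    pk7_D ω * pk7_D ω = pk7_D2 ω := by
  ext i j
  fin_cases i <;> fin_cases j <;>
    simp [pk7_D, pk7_D2, Matrix.mul_apply, Fin.sum_univ_four] <;> ring

theorem pk7_D2_mul_D {F : Type*} [Field F] (ω : F) (hω : ω ^ 2 + ω + 1 = 0) :
    pk7_D2 ω * pk7_D ω = 1 := by
  have h : ω ^ 2 * ω = 1 := by linear_combination (ω - 1) * hω
  ext i j
  fin_cases i <;> fin_cases j <;>
    simp [pk7_D, pk7_D2, Matrix.mul_apply, Fin.sum_univ_four, h]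

theorem pk7_D_mul_D2 {F : Type*} [Field F] (ω : F) (hω : ω ^ 2 + ω + 1 = 0) :
    pk7_D ω * pk7_D2 ω = 1 := by
  have h : ω * ω ^ 2 = 1 := by linear_combination (ω - 1) * hω
  ext i j
  fin_cases i <;> fin_cases j <;>
    simp [pk7_D, pk7_D2, Matrix.mul_apply, Fin.sum_univ_four, h]

/-- the test element of order 3 as an element of `GL_4(F)`. -/
def pk7_x3 {F : Type*} [Field F] (ω : F) (hω : ω ^ 2 + ω + 1 = 0) : GL (Fin 4) F :=
  ⟨pk7_D ω, pk7_D2 ω, pk7_D_mul_D2 ω hω, pk7_D2_mul_D ω hω⟩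

theorem sl4_test_three {F : Type*} [Field F] (h3 : (3 : F) ≠ 0) (ω : F) (hω : ω ^ 2 + ω + 1 = 0) :
    ∃ x : GL (Fin 4) F, x ∈ Cfsg.Geo.specialLinear (Fin 4) F ∧ x ^ 3 = 1 ∧
      (∀ z : F, (x : Matrix (Fin 4) (Fin 4) F) ≠ z • 1) ∧
      (x : Matrix (Fin 4) (Fin 4) F).trace = 3 * ω + 1 ∧
      ((x⁻¹ : GL (Fin 4) F) : Matrix (Fin 4) (Fin 4) F).trace = 3 * ω ^ 2 + 1 := by
  have hv : ((pk7_x3 ω hω : GL (Fin 4) F) : Matrix (Fin 4) (Fin 4) F) = pk7_D ω := rfl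
  have hvi : (((pk7_x3 ω hω)⁻¹ : GL (Fin 4) F) : Matrix (Fin 4) (Fin 4) F) = pk7_D2 ω := rfl
  have hω3 : ω ^ 3 = 1 := by linear_combination (ω - 1) * hω
  refine ⟨pk7_x3 ω hω, ?_, ?_, ?_, ?_, ?_⟩
  · unfold Cfsg.Geo.specialLinear
    rw [MonoidHom.mem_ker]
    apply Units.ext
    rw [Matrix.GeneralLinearGroup.val_det_apply, hv, Units.val_one, pk7_det_fin_four]
    simp [pk7_D]
    linear_combination hω3
  · apply Units.ext
    rw [Units.val_pow_eq_pow_val, hv, Units.val_one]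
    have : pk7_D ω ^ 3 = pk7_D ω * pk7_D ω * pk7_D ω := by
      simp only [pow_succ, pow_zero, one_mul]
    rw [this, pk7_D_mul_D, pk7_D2_mul_D ω hω]
  · intro z hz
    rw [hv] at hz
    have h0 := congrFun (congrFun hz 0) 0
    have h1 := congrFun (congrFun hz 3) 3
    simp [pk7_D] at h0 h1
    -- ω = z, 1 = z ⇒ ω = 1 ⇒ 3 = 0
    apply h3
    rw [h0, ← h1] at hω
    linear_combination hω
  · rw [hv]
    simp [pk7_D, Matrix.trace, Fin.sum_univ_four]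
    ring
  · rw [hvi]
    simp [pk7_D2, Matrix.trace, Fin.sum_univ_four]
    ring

end Cfsg.Agent.Lib.C6Pk
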