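import Mathlib
import Cfsg.Prelude.Def_GeometricClasses
import Cfsg.Agent.Lib.Helper8.C6Pk7

/-! # S6000 package PK-S3: elements of order 3 of GL_4(F), F without primitive cube roots of unity -/

set_option autoImplicit false
open scoped MatrixGroups

namespace Cfsg.Agent.Lib.C6Pk

section abstract

variable {F V : Type*} [Field F] [AddCommGroup V] [Module F V]

theorem pk6_norm_zero (hω : ∀ w : F, w ^ 2 + w + 1 ≠ 0) (c d : F)
    (h : c ^ 2 - c * d + d ^ 2 = 0) : c = 0 ∧ d = 0 := by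
  by_cases hd : d = 0
  · subst hd
    have : c ^ 2 = 0 := by linear_combination h
    exact ⟨pow_eq_zero_iff (two_ne_zero) |>.1 this, rfl⟩
  · exfalso
    apply hω (-c / d)
    field_simp
    linear_combination h

theorem pk6_ff (f : V →ₗ[F] V) (w : V) (hw : w + f w + f (f w) = 0) : f (f w) = - w - f w := by
  have : f (f w) = (w + f w + f (f w)) - w - f w := by abel
  rw [this, hw, zero_sub]

theorem pk6_norm_trick (f : V →ₗ[F] V) (_hf : ∀ v, f (f (f v)) = v) (w : V)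
    (hw : w + f w + f (f w) = 0) (c d : F) :
    c • (c • w + d • f w) + d • f (f (c • w + d • f w)) = (c ^ 2 - c * d + d ^ 2) • w := by
  have h2 := pk6_ff f w hw
  simp only [map_add, map_smul, h2, map_sub, map_neg]
  module

theorem pk6_ext_core (hω : ∀ w : F, w ^ 2 + w + 1 ≠ 0) (f : V →ₗ[F] V)
    (hf : ∀ v, f (f (f v)) = v) (U : Submodule F V) (hU : ∀ u ∈ U, f u ∈ U) (w : V)
    (hw : w + f w + f (f w) = 0) (hwU : w ∉ U) (c d : F) (h : c • w + d • f w ∈ U) :
    c = 0 ∧ d = 0 := by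
  apply pk6_norm_zero hω
  by_contra hN
  apply hwU
  have h1 : (c ^ 2 - c * d + d ^ 2) • w ∈ U := by
    rw [← pk6_norm_trick f hf w hw c d]
    exact U.add_mem (U.smul_mem _ h) (U.smul_mem _ (hU _ (hU _ h)))
  have := U.smul_mem (c ^ 2 - c * d + d ^ 2)⁻¹ h1
  rwa [smul_smul, inv_mul_cancel₀ hN, one_smul] at this

theorem pk6_ext_li (hω : ∀ w : F, w ^ 2 + w + 1 ≠ 0) (f : V →ₗ[F] V)
    (hf : ∀ v, f (f (f v)) = v) {n : ℕ} (b : Fin n → V) (hb : LinearIndependent F b)
    (hU : ∀ u ∈ Submodule.span F (Set.range b), f u ∈ Submodule.span F (Set.range b))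
    (w : V) (hw : w + f w + f (f w) = 0) (hwU : w ∉ Submodule.span F (Set.range b)) :
    LinearIndependent F (Fin.cons (f w) (Fin.cons w b) : Fin (n + 1 + 1) → V) := by
  rw [linearIndependent_finCons, linearIndependent_finCons]
  refine ⟨⟨hb, hwU⟩, ?_⟩
  rw [Fin.range_cons, Submodule.mem_span_insert]
  rintro ⟨a, u, hu, he⟩
  have h1 : (-a) • w + (1 : F) • f w ∈ Submodule.span F (Set.range b) := by
    have : (-a) • w + (1 : F) • f w = u := by rw [he]; module
    rw [this]; exact hu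
  have := pk6_ext_core hω f hf _ hU w hw hwU (-a) 1 h1
  exact one_ne_zero this.2

theorem pk6_ext_inv (f : V →ₗ[F] V) {n : ℕ} (b : Fin n → V)
    (hU : ∀ u ∈ Submodule.span F (Set.range b), f u ∈ Submodule.span F (Set.range b))
    (w : V) (hw : w + f w + f (f w) = 0) :
    ∀ u ∈ Submodule.span F (Set.range (Fin.cons (f w) (Fin.cons w b) : Fin (n + 1 + 1) → V)),
      f u ∈ Submodule.span F (Set.range (Fin.cons (f w) (Fin.cons w b) : Fin (n + 1 + 1) → V)) := by
  rw [Fin.range_cons, Fin.range_cons]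
  intro u hu
  induction hu using Submodule.span_induction with
  | mem x hx =>
    rcases hx with rfl | rfl | hx
    · rw [pk6_ff f w hw]
      exact sub_mem (neg_mem (Submodule.subset_span (by simp))) (Submodule.subset_span (by simp))
    · exact Submodule.subset_span (by simp)
    · refine Submodule.span_mono ?_ (hU x (Submodule.subset_span hx))
      intro y hy
      simp [hy]
  | zero => simp
  | add x y _ _ hx hy => rw [map_add]; exact add_mem hx hy
  | smul a x _ hx => rw [map_smul]; exact Submodule.smul_mem _ _ hx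

theorem pk6_proj (h3 : (3 : F) ≠ 0) (f : V →ₗ[F] V) (hf : ∀ v, f (f (f v)) = v) (v : V) :
    (v - (3 : F)⁻¹ • (v + f v + f (f v))) + f (v - (3 : F)⁻¹ • (v + f v + f (f v)))
      + f (f (v - (3 : F)⁻¹ • (v + f v + f (f v)))) = 0 := by
  simp only [map_sub, map_smul, map_add, hf]
  have h : (v - (3 : F)⁻¹ • (v + f v + f (f v))) + (f v - (3 : F)⁻¹ • (f v + f (f v) + v))
      + (f (f v) - (3 : F)⁻¹ • (f (f v) + v + f v)) = (1 - (3 : F)⁻¹ * 3) • (v + f v + f (f v)) := by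
    module
  rw [h, inv_mul_cancel₀ h3, sub_self, zero_smul]

theorem pk6_fixE (f : V →ₗ[F] V) (hf : ∀ v, f (f (f v)) = v) (v : V) :
    f (v + f v + f (f v)) = v + f v + f (f v) := by
  simp only [map_add, hf]
  abel


theorem pk6_frames (h3 : (3 : F) ≠ 0) (hω : ∀ w : F, w ^ 2 + w + 1 ≠ 0) (f : V →ₗ[F] V)
    (hf : ∀ v, f (f (f v)) = v) [FiniteDimensional F V] (h4 : Module.finrank F V = 4)
    (hf1 : ∃ v, f v ≠ v) :
    (∃ b : Fin 4 → V, LinearIndependent F b ∧ f (b 0) = - b 1 - b 0 ∧ f (b 1) = b 0 ∧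
        f (b 2) = b 2 ∧ f (b 3) = b 3) ∨
    (∃ b : Fin 4 → V, LinearIndependent F b ∧ f (b 0) = - b 1 - b 0 ∧ f (b 1) = b 0 ∧
        f (b 2) = - b 3 - b 2 ∧ f (b 3) = b 2) := by
  set Fix : Submodule F V := LinearMap.ker (f - LinearMap.id) with hFix
  have hmemFix : ∀ u, u ∈ Fix ↔ f u = u := by
    intro u
    rw [hFix, LinearMap.mem_ker, LinearMap.sub_apply, LinearMap.id_apply, sub_eq_zero]
  obtain ⟨k, b0, hb0, hspan⟩ : ∃ (k : ℕ) (b0 : Fin k → V), LinearIndependent F b0 ∧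
      Submodule.span F (Set.range b0) = Fix := by
    refine ⟨Module.finrank F Fix, fun i => (Module.finBasis F Fix i : V), ?_, ?_⟩
    · exact (Module.finBasis F Fix).linearIndependent.map' Fix.subtype (Submodule.ker_subtype _)
    · have h1 : (Set.range fun i => (Module.finBasis F Fix i : V))
          = Fix.subtype '' Set.range (Module.finBasis F Fix) := by
        rw [← Set.range_comp]; rfl
      rw [h1, Submodule.span_image, (Module.finBasis F Fix).span_eq, Submodule.map_subtype_top]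
  have hFixinv : ∀ u ∈ Submodule.span F (Set.range b0), f u ∈ Submodule.span F (Set.range b0) := by
    rw [hspan]
    intro u hu
    rw [(hmemFix u).1 hu]; exact hu
  have hfb0 : ∀ i, f (b0 i) = b0 i := by
    intro i
    apply (hmemFix _).1
    rw [← hspan]
    exact Submodule.subset_span ⟨i, rfl⟩
  obtain ⟨v, hv⟩ := hf1
  -- decomposition of a vector
  have hdec : ∀ v : V, v = (v - (3 : F)⁻¹ • (v + f v + f (f v))) + (3 : F)⁻¹ • (v + f v + f (f v)) := by
    intro v; abel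
  have hEFix : ∀ v : V, (3 : F)⁻¹ • (v + f v + f (f v)) ∈ Fix := by
    intro v
    apply Fix.smul_mem
    rw [hmemFix]
    exact pk6_fixE f hf v
  set w1 := v - (3 : F)⁻¹ • (v + f v + f (f v)) with hw1def
  have hw1 : w1 + f w1 + f (f w1) = 0 := pk6_proj h3 f hf v
  have hw1U : w1 ∉ Submodule.span F (Set.range b0) := by
    rw [hspan]
    intro h
    apply hv
    rw [← hmemFix]
    rw [hdec v]
    exact Fix.add_mem h (hEFix v)
  have hF1 := pk6_ext_li hω f hf b0 hb0 hFixinv w1 hw1 hw1U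
  have hk : k + 2 ≤ 4 := by
    have := hF1.fintype_card_le_finrank
    simp [h4] at this
    omega
  by_cases hk2 : k = 2
  · subst hk2
    left
    refine ⟨(Fin.cons (f w1) (Fin.cons w1 b0) : Fin 4 → V), hF1, ?_, ?_, ?_, ?_⟩
    · exact pk6_ff f w1 hw1
    · rfl
    · exact hfb0 0
    · exact hfb0 1
  · have hk' : k + 2 < 4 := by omega
    have hU1ne : Submodule.span F (Set.range
        (Fin.cons (f w1) (Fin.cons w1 b0) : Fin (k + 1 + 1) → V)) ≠ ⊤ := by
      intro h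
      have := finrank_span_eq_card hF1
      rw [h, finrank_top, h4] at this
      simp at this
      omega
    obtain ⟨v2, hv2⟩ : ∃ v2, v2 ∉ Submodule.span F (Set.range
        (Fin.cons (f w1) (Fin.cons w1 b0) : Fin (k + 1 + 1) → V)) := by
      by_contra hall
      push Not at hall
      exact hU1ne (eq_top_iff.2 fun x _ => hall x)
    set w2 := v2 - (3 : F)⁻¹ • (v2 + f v2 + f (f v2)) with hw2def
    have hw2 : w2 + f w2 + f (f w2) = 0 := pk6_proj h3 f hf v2
    have hle : Fix ≤ Submodule.span F (Set.range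
        (Fin.cons (f w1) (Fin.cons w1 b0) : Fin (k + 1 + 1) → V)) := by
      rw [← hspan, Fin.range_cons, Fin.range_cons]
      apply Submodule.span_mono
      intro y hy
      simp [hy]
    have hw2U : w2 ∉ Submodule.span F (Set.range
        (Fin.cons (f w1) (Fin.cons w1 b0) : Fin (k + 1 + 1) → V)) := by
      intro h
      apply hv2
      rw [hdec v2]
      exact Submodule.add_mem _ h (hle (hEFix v2))
    have hU1inv := pk6_ext_inv f b0 hFixinv w1 hw1
    have hF2 := pk6_ext_li hω f hf _ hF1 hU1inv w2 hw2 hw2U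
    have hk0 : k = 0 := by
      have := hF2.fintype_card_le_finrank
      simp [h4] at this
      omega
    subst hk0
    right
    refine ⟨(Fin.cons (f w2) (Fin.cons w2 (Fin.cons (f w1) (Fin.cons w1 b0))) : Fin 4 → V),
      hF2, ?_, ?_, ?_, ?_⟩
    · exact pk6_ff f w2 hw2
    · rfl
    · exact pk6_ff f w1 hw1
    · rfl

end abstract


section matrix

variable {F : Type*} [Field F]

/-- normal form of an element of order 3 of `GL_4(F)` with 2-dimensional fixed space. -/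
def pk6_N1 (F : Type*) [Field F] : Matrix (Fin 4) (Fin 4) F :=
  !![-1, 1, 0, 0; -1, 0, 0, 0; 0, 0, 1, 0; 0, 0, 0, 1]

/-- normal form of a fixed-point-free element of order 3 of `GL_4(F)`. -/
def pk6_N2 (F : Type*) [Field F] : Matrix (Fin 4) (Fin 4) F :=
  !![-1, 1, 0, 0; -1, 0, 0, 0; 0, 0, -1, 1; 0, 0, -1, 0]

theorem pk6_trace_N1 : (pk6_N1 F).trace = 1 := by
  simp [pk6_N1, Matrix.trace, Fin.sum_univ_four]

theorem pk6_trace_N2 : (pk6_N2 F).trace = -2 := by
  simp [pk6_N2, Matrix.trace, Fin.sum_univ_four]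
  ring

theorem pk6_colmat (A N : Matrix (Fin 4) (Fin 4) F) (b : Fin 4 → (Fin 4 → F))
    (h : ∀ c, A.mulVec (b c) = ∑ j, N j c • b j) :
    A * (Matrix.of b).transpose = (Matrix.of b).transpose * N := by
  ext r c
  have := congrFun (h c) r
  simp only [Matrix.mul_apply, Matrix.transpose_apply, Matrix.of_apply]
  rw [Matrix.mulVec, dotProduct] at this
  simp only [Finset.sum_apply, Pi.smul_apply, smul_eq_mul] at this
  rw [this]
  apply Finset.sum_congr rfl
  intros
  ring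

theorem pk6_normal_form (h3 : (3 : F) ≠ 0) (hω : ∀ w : F, w ^ 2 + w + 1 ≠ 0)
    (A : Matrix (Fin 4) (Fin 4) F) (hA : A ^ 3 = 1) (hA1 : A ≠ 1) :
    ∃ g : GL (Fin 4) F,
      A * (g : Matrix (Fin 4) (Fin 4) F) = (g : Matrix (Fin 4) (Fin 4) F) * pk6_N1 F ∨
      A * (g : Matrix (Fin 4) (Fin 4) F) = (g : Matrix (Fin 4) (Fin 4) F) * pk6_N2 F := by
  have hA3 : A * A * A = 1 := by
    rw [← hA]; simp [pow_succ]
  have hf : ∀ v, Matrix.toLin' A (Matrix.toLin' A (Matrix.toLin' A v)) = v := by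
    intro v
    rw [Matrix.toLin'_apply, Matrix.toLin'_apply, Matrix.toLin'_apply, Matrix.mulVec_mulVec,
      Matrix.mulVec_mulVec, hA3, Matrix.one_mulVec]
  have hf1 : ∃ v, Matrix.toLin' A v ≠ v := by
    by_contra hall
    push Not at hall
    apply hA1
    apply Matrix.toLin'.injective
    rw [Matrix.toLin'_one]
    apply LinearMap.ext
    intro v
    rw [LinearMap.id_apply]
    exact hall v
  have h4 : Module.finrank F (Fin 4 → F) = 4 := Module.finrank_fin_fun F
  have key : ∀ (N : Matrix (Fin 4) (Fin 4) F) (b : Fin 4 → (Fin 4 → F)), LinearIndependent F b →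
      (∀ c, A.mulVec (b c) = ∑ j, N j c • b j) →
      ∃ g : GL (Fin 4) F, A * (g : Matrix (Fin 4) (Fin 4) F) = (g : Matrix (Fin 4) (Fin 4) F) * N := by
    intro N b hb hN
    have hu : IsUnit (Matrix.of b).transpose := by
      rw [← Matrix.linearIndependent_cols_iff_isUnit]
      exact hb
    refine ⟨hu.unit, ?_⟩
    rw [IsUnit.unit_spec]
    exact pk6_colmat A N b hN
  rcases pk6_frames h3 hω (Matrix.toLin' A) hf h4 hf1 with
    ⟨b, hb, e0, e1, e2, e3⟩ | ⟨b, hb, e0, e1, e2, e3⟩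
  · obtain ⟨g, hg⟩ := key (pk6_N1 F) b hb (by
      simp only [Matrix.toLin'_apply] at e0 e1 e2 e3
      intro c
      fin_cases c
      · simp [Fin.sum_univ_four, pk6_N1, e0]; abel
      · simp [Fin.sum_univ_four, pk6_N1, e1]
      · simp [Fin.sum_univ_four, pk6_N1, e2]
      · simp [Fin.sum_univ_four, pk6_N1, e3])
    exact ⟨g, Or.inl hg⟩
  · obtain ⟨g, hg⟩ := key (pk6_N2 F) b hb (by
      simp only [Matrix.toLin'_apply] at e0 e1 e2 e3
      intro c
      fin_cases c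
      · simp [Fin.sum_univ_four, pk6_N2, e0]; abel
      · simp [Fin.sum_univ_four, pk6_N2, e1]
      · simp [Fin.sum_univ_four, pk6_N2, e2]; abel
      · simp [Fin.sum_univ_four, pk6_N2, e3])
    exact ⟨g, Or.inr hg⟩

theorem pk6_trace_of_conj (A N : Matrix (Fin 4) (Fin 4) F) (g : GL (Fin 4) F)
    (h : A * (g : Matrix (Fin 4) (Fin 4) F) = (g : Matrix (Fin 4) (Fin 4) F) * N) :
    A.trace = N.trace := by
  have h1 : A = (g : Matrix (Fin 4) (Fin 4) F) * N * ((g⁻¹ : GL (Fin 4) F) : Matrix (Fin 4) (Fin 4) F) := by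
    rw [← h, mul_assoc, ← Units.val_mul, mul_inv_cancel, Units.val_one, mul_one]
  rw [h1, Matrix.trace_mul_comm, ← mul_assoc, ← Units.val_mul, inv_mul_cancel, Units.val_one, one_mul]

theorem gl4_order3_trace {F : Type*} [Field F] (h3 : (3 : F) ≠ 0)
    (hω : ∀ w : F, w ^ 2 + w + 1 ≠ 0)
    (x : Matrix (Fin 4) (Fin 4) F) (hx : x ^ 3 = 1) (hx1 : x ≠ 1) :
    x.trace = 1 ∨ x.trace = -2 := by
  obtain ⟨g, hg | hg⟩ := pk6_normal_form h3 hω x hx hx1
  · left; rw [pk6_trace_of_conj x _ g hg, pk6_trace_N1]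
  · right; rw [pk6_trace_of_conj x _ g hg, pk6_trace_N2]


theorem pk6_norm_surj {F : Type*} [Field F] [Fintype F] (h2 : (2 : F) ≠ 0) (h3 : (3 : F) ≠ 0)
    (d : F) : ∃ a b : F, a ^ 2 - a * b + b ^ 2 = d := by
  classical
  have hch : ringChar F ≠ 2 := by
    intro h
    apply h2
    have := ringChar.Nat.cast_ringChar (R := F)
    rw [h] at this
    exact_mod_cast this
  have hodd := FiniteField.odd_card_of_char_ne_two hch
  obtain ⟨a, b, hab⟩ := FiniteField.exists_root_sum_quadratic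
    (f := (Polynomial.X : Polynomial F) ^ 2)
    (g := Polynomial.C 3 * Polynomial.X ^ 2 - Polynomial.C d) (Polynomial.degree_X_pow 2)
    (by
      rw [Polynomial.degree_sub_C, Polynomial.degree_C_mul_X_pow 2 h3]
      · rfl
      · rw [Polynomial.degree_C_mul_X_pow 2 h3]; norm_num) hodd
  simp only [Polynomial.eval_pow, Polynomial.eval_X, Polynomial.eval_sub, Polynomial.eval_mul,
    Polynomial.eval_C] at hab
  refine ⟨a + b, 2 * b, ?_⟩
  linear_combination hab

/-- an element of the centralizer of `pk6_N1` of determinant `a`. -/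
def pk6_c1 (a : F) : Matrix (Fin 4) (Fin 4) F :=
  !![1, 0, 0, 0; 0, 1, 0, 0; 0, 0, 1, 0; 0, 0, 0, a]

theorem pk6_c1_comm (a : F) : pk6_c1 a * pk6_N1 F = pk6_N1 F * pk6_c1 a := by
  ext i j
  fin_cases i <;> fin_cases j <;>
    simp [pk6_c1, pk6_N1, Matrix.mul_apply, Fin.sum_univ_four]

theorem pk6_c1_det (a : F) : (pk6_c1 a).det = a := by
  rw [pk7_det_fin_four]
  simp [pk6_c1]

/-- an element of the centralizer of `pk6_N2` of determinant `a² - ab + b²`. -/
def pk6_c2 (a b : F) : Matrix (Fin 4) (Fin 4) F :=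
  !![a - b, b, 0, 0; -b, a, 0, 0; 0, 0, 1, 0; 0, 0, 0, 1]

theorem pk6_c2_comm (a b : F) : pk6_c2 a b * pk6_N2 F = pk6_N2 F * pk6_c2 a b := by
  ext i j
  fin_cases i <;> fin_cases j <;>
    simp [pk6_c2, pk6_N2, Matrix.mul_apply, Fin.sum_univ_four] <;> ring

theorem pk6_c2_det (a b : F) : (pk6_c2 a b).det = a ^ 2 - a * b + b ^ 2 := by
  rw [pk7_det_fin_four]
  simp [pk6_c2]
  ring

theorem pk6_conj_aux (x y : GL (Fin 4) F) (N : Matrix (Fin 4) (Fin 4) F) (gx gy : GL (Fin 4) F)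
    (hx : (x : Matrix (Fin 4) (Fin 4) F) * (gx : Matrix (Fin 4) (Fin 4) F)
      = (gx : Matrix (Fin 4) (Fin 4) F) * N)
    (hy : (y : Matrix (Fin 4) (Fin 4) F) * (gy : Matrix (Fin 4) (Fin 4) F)
      = (gy : Matrix (Fin 4) (Fin 4) F) * N)
    (hc : ∀ d : F, d ≠ 0 → ∃ c : Matrix (Fin 4) (Fin 4) F, c.det = d ∧ c * N = N * c) :
    ∃ g ∈ Cfsg.Geo.specialLinear (Fin 4) F, g⁻¹ * x * g = y := by
  have hnx : ((gx⁻¹ * x * gx : GL (Fin 4) F) : Matrix (Fin 4) (Fin 4) F) = N := by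
    rw [Units.val_mul, Units.val_mul, mul_assoc, hx, ← mul_assoc, ← Units.val_mul, inv_mul_cancel,
      Units.val_one, one_mul]
  have hny : ((gy⁻¹ * y * gy : GL (Fin 4) F) : Matrix (Fin 4) (Fin 4) F) = N := by
    rw [Units.val_mul, Units.val_mul, mul_assoc, hy, ← mul_assoc, ← Units.val_mul, inv_mul_cancel,
      Units.val_one, one_mul]
  have hxy : gx⁻¹ * x * gx = gy⁻¹ * y * gy := Units.ext (hnx.trans hny.symm)
  have hdx : (gx : Matrix (Fin 4) (Fin 4) F).det ≠ 0 := by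
    rw [← Matrix.GeneralLinearGroup.val_det_apply]; exact Units.ne_zero _
  have hdy : (gy : Matrix (Fin 4) (Fin 4) F).det ≠ 0 := by
    rw [← Matrix.GeneralLinearGroup.val_det_apply]; exact Units.ne_zero _
  obtain ⟨c, hcd, hcN⟩ := hc ((gy : Matrix (Fin 4) (Fin 4) F).det *
    ((gx : Matrix (Fin 4) (Fin 4) F).det)⁻¹) (mul_ne_zero hdy (inv_ne_zero hdx))
  have hc0 : c.det ≠ 0 := by rw [hcd]; exact mul_ne_zero hdy (inv_ne_zero hdx)
  set cG : GL (Fin 4) F := Matrix.GeneralLinearGroup.mkOfDetNeZero c hc0 with hcG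
  have hcGv : (cG : Matrix (Fin 4) (Fin 4) F) = c := rfl
  have hcomm : cG * (gx⁻¹ * x * gx) = (gx⁻¹ * x * gx) * cG := by
    apply Units.ext
    rw [Units.val_mul, Units.val_mul (gx⁻¹ * x * gx), hnx, hcGv, hcN]
  refine ⟨gx * cG * gy⁻¹, ?_, ?_⟩
  · unfold Cfsg.Geo.specialLinear
    rw [MonoidHom.mem_ker]
    apply Units.ext
    rw [Matrix.GeneralLinearGroup.val_det_apply, Units.val_mul, Units.val_mul, Matrix.det_mul,
      Matrix.det_mul, hcGv, hcd, Units.val_one]
    have hgyi : ((gy⁻¹ : GL (Fin 4) F) : Matrix (Fin 4) (Fin 4) F).det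
        = ((gy : Matrix (Fin 4) (Fin 4) F).det)⁻¹ := by
      have h1 : ((gy⁻¹ : GL (Fin 4) F) : Matrix (Fin 4) (Fin 4) F).det
          * (gy : Matrix (Fin 4) (Fin 4) F).det = 1 := by
        rw [← Matrix.det_mul, ← Units.val_mul, inv_mul_cancel, Units.val_one, Matrix.det_one]
      exact eq_inv_of_mul_eq_one_left h1
    rw [hgyi]
    field_simp
  · have hy' : y = gy * (gx⁻¹ * x * gx) * gy⁻¹ := by
      rw [hxy]; group
    calc (gx * cG * gy⁻¹)⁻¹ * x * (gx * cG * gy⁻¹)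
        = gy * (cG⁻¹ * ((gx⁻¹ * x * gx) * cG)) * gy⁻¹ := by group
      _ = gy * (cG⁻¹ * (cG * (gx⁻¹ * x * gx))) * gy⁻¹ := by rw [hcomm]
      _ = gy * (gx⁻¹ * x * gx) * gy⁻¹ := by group
      _ = y := hy'.symm

theorem sl4_order3_conj {F : Type*} [Field F] [Fintype F] (h2 : (2 : F) ≠ 0) (h3 : (3 : F) ≠ 0)
    (hω : ∀ w : F, w ^ 2 + w + 1 ≠ 0)
    (x y : GL (Fin 4) F) (hx : x ^ 3 = 1) (hy : y ^ 3 = 1) (hx1 : x ≠ 1) (hy1 : y ≠ 1)
    (htr : (x : Matrix (Fin 4) (Fin 4) F).trace = (y : Matrix (Fin 4) (Fin 4) F).trace) :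
    ∃ g ∈ Cfsg.Geo.specialLinear (Fin 4) F, g⁻¹ * x * g = y := by
  have hx' : (x : Matrix (Fin 4) (Fin 4) F) ^ 3 = 1 := by
    rw [← Units.val_pow_eq_pow_val, hx, Units.val_one]
  have hy' : (y : Matrix (Fin 4) (Fin 4) F) ^ 3 = 1 := by
    rw [← Units.val_pow_eq_pow_val, hy, Units.val_one]
  have hx1' : (x : Matrix (Fin 4) (Fin 4) F) ≠ 1 := fun h => hx1 (Units.ext h)
  have hy1' : (y : Matrix (Fin 4) (Fin 4) F) ≠ 1 := fun h => hy1 (Units.ext h)
  have h12 : (1 : F) ≠ -2 := by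
    intro h
    apply h3
    linear_combination h
  have hc1 : ∀ d : F, d ≠ 0 → ∃ c : Matrix (Fin 4) (Fin 4) F, c.det = d ∧
      c * pk6_N1 F = pk6_N1 F * c :=
    fun d _ => ⟨pk6_c1 d, pk6_c1_det d, pk6_c1_comm d⟩
  have hc2 : ∀ d : F, d ≠ 0 → ∃ c : Matrix (Fin 4) (Fin 4) F, c.det = d ∧
      c * pk6_N2 F = pk6_N2 F * c := by
    intro d _
    obtain ⟨a, b, hab⟩ := pk6_norm_surj h2 h3 d
    exact ⟨pk6_c2 a b, by rw [pk6_c2_det, hab], pk6_c2_comm a b⟩
  obtain ⟨gx, hgx | hgx⟩ := pk6_normal_form h3 hω _ hx' hx1' <;>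
  obtain ⟨gy, hgy | hgy⟩ := pk6_normal_form h3 hω _ hy' hy1'
  · exact pk6_conj_aux x y _ gx gy hgx hgy hc1
  · exfalso
    rw [pk6_trace_of_conj _ _ gx hgx, pk6_trace_of_conj _ _ gy hgy, pk6_trace_N1,
      pk6_trace_N2] at htr
    exact h12 htr
  · exfalso
    rw [pk6_trace_of_conj _ _ gx hgx, pk6_trace_of_conj _ _ gy hgy, pk6_trace_N1,
      pk6_trace_N2] at htr
    exact h12 htr.symm
  · exact pk6_conj_aux x y _ gx gy hgx hgy hc2

end matrix

end Cfsg.Agent.Lib.C6Pk
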