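import Mathlib
import Cfsg.Prelude.Def_GeometricClasses

/-! # S6000 package PK-P: n-th roots in a finite field when `n ∤ |F| - 1`, cube roots of unity -/

set_option autoImplicit false

namespace Cfsg.Agent.Lib.C6Pk

theorem pk8_coprime {F : Type*} [Field F] [Fintype F] (n : ℕ) (hn : n.Prime)
    (hd : ¬ n ∣ Fintype.card F - 1) : (Nat.card Fˣ).Coprime n := by
  classical
  rw [Nat.card_eq_fintype_card, Fintype.card_units, Nat.coprime_comm]
  exact (Nat.Prime.coprime_iff_not_dvd hn).2 hd

theorem exists_pow_eq_of_not_dvd {F : Type*} [Field F] [Fintype F] (n : ℕ) (hn : n.Prime)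
    (hd : ¬ n ∣ Fintype.card F - 1) (z : F) (hz : z ≠ 0) : ∃ c : F, c ≠ 0 ∧ c ^ n = z := by
  have hco := pk8_coprime n hn hd
  obtain ⟨c, hc⟩ := (powCoprime hco).surjective (Units.mk0 z hz)
  refine ⟨(c : F), c.ne_zero, ?_⟩
  rw [powCoprime_apply] at hc
  have := congrArg Units.val hc
  rwa [Units.val_pow_eq_pow_val, Units.val_mk0] at this

theorem pow_injective_of_not_dvd {F : Type*} [Field F] [Fintype F] (n : ℕ) (hn : n.Prime)
    (hd : ¬ n ∣ Fintype.card F - 1) (a b : F) (ha : a ≠ 0) (hb : b ≠ 0) (h : a ^ n = b ^ n) :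
    a = b := by
  have hco := pk8_coprime n hn hd
  have h1 : powCoprime hco (Units.mk0 a ha) = powCoprime hco (Units.mk0 b hb) := by
    rw [powCoprime_apply, powCoprime_apply]
    apply Units.ext
    rw [Units.val_pow_eq_pow_val, Units.val_pow_eq_pow_val, Units.val_mk0, Units.val_mk0, h]
  have := (powCoprime hco).injective h1
  have := congrArg Units.val this
  rwa [Units.val_mk0, Units.val_mk0] at this

theorem exists_cube_root_unity {F : Type*} [Field F] [Fintype F] (hd : 3 ∣ Fintype.card F - 1) :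
    ∃ ω : F, ω ^ 2 + ω + 1 = 0 := by
  classical
  have : Fact (Nat.Prime 3) := ⟨Nat.prime_three⟩
  have h1 : 3 ∣ Fintype.card Fˣ := by rw [Fintype.card_units]; exact hd
  obtain ⟨u, hu⟩ := exists_prime_orderOf_dvd_card 3 h1
  refine ⟨(u : F), ?_⟩
  have hu3 : (u : F) ^ 3 = 1 := by
    have := pow_orderOf_eq_one u
    rw [hu] at this
    have := congrArg Units.val this
    rwa [Units.val_pow_eq_pow_val, Units.val_one] at this
  have hu1 : (u : F) ≠ 1 := by
    intro h
    have : u = 1 := Units.ext h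
    rw [this, orderOf_one] at hu
    omega
  have h2 : ((u : F) - 1) * ((u : F) ^ 2 + (u : F) + 1) = 0 := by
    have : ((u : F) - 1) * ((u : F) ^ 2 + (u : F) + 1) = (u : F) ^ 3 - 1 := by ring
    rw [this, hu3, sub_self]
  rcases mul_eq_zero.1 h2 with h | h
  · exact absurd (sub_eq_zero.1 h) hu1
  · exact h

theorem no_cube_root_unity {F : Type*} [Field F] [Fintype F] (h3 : (3 : F) ≠ 0)
    (hd : ¬ 3 ∣ Fintype.card F - 1) : ∀ w : F, w ^ 2 + w + 1 ≠ 0 := by
  classical
  intro w hw
  have hw3 : w ^ 3 = 1 := by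
    have : w ^ 3 - 1 = (w - 1) * (w ^ 2 + w + 1) := by ring
    rw [hw, mul_zero] at this
    exact sub_eq_zero.1 this
  have hw0 : w ≠ 0 := by
    intro h
    rw [h] at hw3
    simp at hw3
  have hw1 : w ≠ 1 := by
    intro h
    rw [h] at hw
    apply h3
    have : (1 : F) ^ 2 + 1 + 1 = 3 := by norm_num
    rw [← this]
    exact hw
  apply hd
  have h1 : orderOf (Units.mk0 w hw0) = 3 := by
    apply orderOf_eq_prime
    · apply Units.ext
      rw [Units.val_pow_eq_pow_val, Units.val_mk0, hw3, Units.val_one]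
    · intro h
      apply hw1
      have := congrArg Units.val h
      rwa [Units.val_mk0, Units.val_one] at this
  rw [← Fintype.card_units, ← h1]
  exact orderOf_dvd_card

end Cfsg.Agent.Lib.C6Pk
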