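import Mathlib
import Cfsg.Agent.Lib.Helper8.BM1

set_option autoImplicit false

/-!
# A relative form of Burnside's marks lemma, and a divisibility lemma
-/

namespace Cfsg.Agent.Lib.Helper8.CB

open MulAction
open Cfsg.Agent.Lib.Helper8.BM

open Classical in
theorem marks_bijOn' {H : Type*} [Group H] [Finite H] {Y₁ Y₂ : Type*} [Finite Y₁] [Finite Y₂]
    [Nonempty Y₂] [MulAction H Y₁] [MulAction H Y₂] :
    ∀ (n : ℕ) (A₁ : Set Y₁) (A₂ : Set Y₂), Inv H A₁ → Inv H A₂ → A₁.ncard = n →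
      (∀ K : Subgroup H, ((∃ y ∈ A₁, stabilizer H y = K) ∨ (∃ y ∈ A₂, stabilizer H y = K)) →
        (fixedPoints K Y₁ ∩ A₁).ncard = (fixedPoints K Y₂ ∩ A₂).ncard) →
      ∃ f : Y₁ → Y₂, Set.BijOn f A₁ A₂ ∧ ∀ y ∈ A₁, ∀ h : H, f (h • y) = h • f y := by
  intro n
  induction n using Nat.strong_induction_on with
  | _ n ih =>
  intro A₁ A₂ h₁ h₂ hn hm
  by_cases hA : A₁ = ∅
  · subst hA
    have hA₂ : A₂ = ∅ := by
      by_contra hne
      obtain ⟨y₂, hy₂⟩ := Set.nonempty_iff_ne_empty.mpr hne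
      have h0 := hm (stabilizer H y₂) (Or.inr ⟨y₂, hy₂, rfl⟩)
      rw [Set.inter_empty, Set.ncard_empty] at h0
      have : y₂ ∈ fixedPoints (stabilizer H y₂) Y₂ ∩ A₂ := ⟨fun k => k.2, hy₂⟩
      have h1 := (Set.ncard_eq_zero (Set.toFinite _)).mp h0.symm
      rw [h1] at this
      exact this
    refine ⟨fun _ => Classical.arbitrary Y₂, ?_, ?_⟩
    · rw [hA₂]; exact Set.bijOn_empty _
    · intro y hy; exact absurd hy (Set.notMem_empty _)
  · obtain ⟨y₁, hy₁, hmax⟩ := Set.exists_max_image A₁ (fun y => Nat.card (stabilizer H y))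
      (Set.toFinite _) (Set.nonempty_iff_ne_empty.mpr hA)
    have hy₁K : y₁ ∈ fixedPoints (stabilizer H y₁) Y₁ ∩ A₁ :=
      ⟨fun k => k.2, hy₁⟩
    have hpos : 0 < (fixedPoints (stabilizer H y₁) Y₂ ∩ A₂).ncard := by
      rw [← hm _ (Or.inl ⟨y₁, hy₁, rfl⟩)]; exact (Set.ncard_pos (Set.toFinite _)).mpr ⟨y₁, hy₁K⟩
    obtain ⟨y₂, hy₂K, hy₂⟩ := (Set.ncard_pos (Set.toFinite _)).mp hpos
    have hKle : stabilizer H y₁ ≤ stabilizer H y₂ := fun k hk => hy₂K ⟨k, hk⟩
    have hpos' : 0 < (fixedPoints (stabilizer H y₂) Y₁ ∩ A₁).ncard := by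
      rw [hm _ (Or.inr ⟨y₂, hy₂, rfl⟩)]; exact (Set.ncard_pos (Set.toFinite _)).mpr ⟨y₂, fun k => k.2, hy₂⟩
    obtain ⟨y₁', hy₁'K, hy₁'⟩ := (Set.ncard_pos (Set.toFinite _)).mp hpos'
    have hle' : stabilizer H y₂ ≤ stabilizer H y₁' := fun k hk => hy₁'K ⟨k, hk⟩
    have hcard : Nat.card (stabilizer H y₁') ≤ Nat.card (stabilizer H y₁) := hmax y₁' hy₁'
    have hst : stabilizer H y₁ = stabilizer H y₂ :=
      Subgroup.eq_of_le_of_card_ge hKle (le_trans (Subgroup.card_le_of_le hle') hcard)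
    -- the orbit map
    let fO : Y₁ → Y₂ := fun y =>
      if hy : y ∈ orbit H y₁ then (mem_orbit_iff.mp hy).choose • y₂ else y₂
    have hfO : ∀ h : H, fO (h • y₁) = h • y₂ := by
      intro h
      have hy : h • y₁ ∈ orbit H y₁ := mem_orbit _ _
      simp only [fO, dif_pos hy]
      exact (smul_eq_iff_of_stab_eq hst _ _).mp (mem_orbit_iff.mp hy).choose_spec
    have hO₁ : orbit H y₁ ⊆ A₁ := by
      rintro _ ⟨h, rfl⟩; exact h₁ h y₁ hy₁
    have hO₂ : orbit H y₂ ⊆ A₂ := by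
      rintro _ ⟨h, rfl⟩; exact h₂ h y₂ hy₂
    have hinv₁ : Inv H (A₁ \ orbit H y₁) := by
      intro h y ⟨hyA, hyO⟩
      refine ⟨h₁ h y hyA, fun hc => hyO ?_⟩
      obtain ⟨g, hg⟩ := hc
      refine ⟨h⁻¹ * g, ?_⟩
      change (h⁻¹ * g) • y₁ = y
      rw [mul_smul, inv_smul_eq_iff]; exact hg
    have hinv₂ : Inv H (A₂ \ orbit H y₂) := by
      intro h y ⟨hyA, hyO⟩
      refine ⟨h₂ h y hyA, fun hc => hyO ?_⟩
      obtain ⟨g, hg⟩ := hc
      refine ⟨h⁻¹ * g, ?_⟩
      change (h⁻¹ * g) • y₂ = y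
      rw [mul_smul, inv_smul_eq_iff]; exact hg
    have hlt : (A₁ \ orbit H y₁).ncard < n := by
      rw [← hn]
      apply Set.ncard_lt_ncard _ (Set.toFinite _)
      refine ⟨Set.sdiff_subset, fun hc => ?_⟩
      exact (hc hy₁).2 (mem_orbit_self _)
    have hbijO : ∀ K : Subgroup H,
        Set.BijOn fO (fixedPoints K Y₁ ∩ orbit H y₁) (fixedPoints K Y₂ ∩ orbit H y₂) := by
      intro K
      refine ⟨?_, ?_, ?_⟩
      · rintro _ ⟨hf, ⟨h, rfl⟩⟩
        change fO (h • y₁) ∈ _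
        rw [hfO]
        exact ⟨(fixed_iff_of_stab_eq hst K h).mp hf, mem_orbit _ _⟩
      · rintro _ ⟨_, ⟨h, rfl⟩⟩ _ ⟨_, ⟨h', rfl⟩⟩ he
        change fO (h • y₁) = fO (h' • y₁) at he
        rw [hfO, hfO] at he
        exact (smul_eq_iff_of_stab_eq hst _ _).mpr he
      · rintro _ ⟨hf, ⟨h, rfl⟩⟩
        refine ⟨h • y₁, ⟨(fixed_iff_of_stab_eq hst K h).mpr hf, mem_orbit _ _⟩, hfO h⟩
    have hm' : ∀ K : Subgroup H, ((∃ y ∈ A₁ \ orbit H y₁, stabilizer H y = K) ∨
        (∃ y ∈ A₂ \ orbit H y₂, stabilizer H y = K)) →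
        (fixedPoints K Y₁ ∩ (A₁ \ orbit H y₁)).ncard =
        (fixedPoints K Y₂ ∩ (A₂ \ orbit H y₂)).ncard := by
      intro K hKst
      have hKst' : (∃ y ∈ A₁, stabilizer H y = K) ∨ (∃ y ∈ A₂, stabilizer H y = K) := by
        rcases hKst with ⟨y, hy, h⟩ | ⟨y, hy, h⟩
        · exact Or.inl ⟨y, hy.1, h⟩
        · exact Or.inr ⟨y, hy.1, h⟩
      have e1 : fixedPoints K Y₁ ∩ (A₁ \ orbit H y₁) =
          (fixedPoints K Y₁ ∩ A₁) \ (fixedPoints K Y₁ ∩ orbit H y₁) := by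
        ext y; simp only [Set.mem_inter_iff, Set.mem_sdiff]; tauto
      have e2 : fixedPoints K Y₂ ∩ (A₂ \ orbit H y₂) =
          (fixedPoints K Y₂ ∩ A₂) \ (fixedPoints K Y₂ ∩ orbit H y₂) := by
        ext y; simp only [Set.mem_inter_iff, Set.mem_sdiff]; tauto
      rw [e1, e2, Set.ncard_sdiff (Set.inter_subset_inter_right _ hO₁) (Set.toFinite _),
        Set.ncard_sdiff (Set.inter_subset_inter_right _ hO₂) (Set.toFinite _), hm K hKst',
        (hbijO K).ncard_eq]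
    obtain ⟨f', hf'bij, hf'eq⟩ := ih _ hlt (A₁ \ orbit H y₁) (A₂ \ orbit H y₂) hinv₁ hinv₂ rfl hm'
    refine ⟨fun y => if y ∈ orbit H y₁ then fO y else f' y, ⟨?_, ?_, ?_⟩, ?_⟩
    · intro y hy
      by_cases hyO : y ∈ orbit H y₁
      · simp only [if_pos hyO]
        obtain ⟨h, rfl⟩ := hyO
        change fO (h • y₁) ∈ A₂
        rw [hfO]; exact h₂ h y₂ hy₂
      · simp only [if_neg hyO]
        exact (hf'bij.mapsTo ⟨hy, hyO⟩).1
    · intro y hy z hz he
      by_cases hyO : y ∈ orbit H y₁ <;> by_cases hzO : z ∈ orbit H y₁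
      · simp only [if_pos hyO, if_pos hzO] at he
        obtain ⟨h, rfl⟩ := hyO
        obtain ⟨h', rfl⟩ := hzO
        change fO (h • y₁) = fO (h' • y₁) at he
        rw [hfO, hfO] at he
        exact (smul_eq_iff_of_stab_eq hst _ _).mpr he
      · simp only [if_pos hyO, if_neg hzO] at he
        exfalso
        obtain ⟨h, rfl⟩ := hyO
        change fO (h • y₁) = f' z at he
        rw [hfO] at he
        exact (hf'bij.mapsTo ⟨hz, hzO⟩).2 (he ▸ mem_orbit _ _)
      · simp only [if_neg hyO, if_pos hzO] at he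
        exfalso
        obtain ⟨h, rfl⟩ := hzO
        change f' y = fO (h • y₁) at he
        rw [hfO] at he
        exact (hf'bij.mapsTo ⟨hy, hyO⟩).2 (he ▸ mem_orbit _ _)
      · simp only [if_neg hyO, if_neg hzO] at he
        exact hf'bij.injOn ⟨hy, hyO⟩ ⟨hz, hzO⟩ he
    · intro w hw
      by_cases hwO : w ∈ orbit H y₂
      · obtain ⟨h, rfl⟩ := hwO
        refine ⟨h • y₁, hO₁ (mem_orbit _ _), ?_⟩
        simp only [if_pos (mem_orbit y₁ h)]
        exact hfO h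
      · obtain ⟨z, hz, hzw⟩ := hf'bij.surjOn ⟨hw, hwO⟩
        refine ⟨z, hz.1, ?_⟩
        simp only [if_neg hz.2]
        exact hzw
    · intro y hy h
      by_cases hyO : y ∈ orbit H y₁
      · obtain ⟨g, rfl⟩ := hyO
        change (if h • g • y₁ ∈ orbit H y₁ then fO (h • g • y₁) else f' (h • g • y₁)) =
          h • (if g • y₁ ∈ orbit H y₁ then fO (g • y₁) else f' (g • y₁))
        rw [if_pos (mem_orbit y₁ g), ← mul_smul, if_pos (mem_orbit y₁ (h * g)), hfO, hfO, mul_smul]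
      · have hyO' : h • y ∉ orbit H y₁ := (hinv₁ h y ⟨hy, hyO⟩).2
        simp only [if_neg hyO, if_neg hyO']
        exact hf'eq y ⟨hy, hyO⟩ h


theorem ncard_orbit_mul_card_stabilizer {W : Type*} [Group W] [Finite W] {Y : Type*} [Finite Y]
    [MulAction W Y] (y : Y) : (orbit W y).ncard * Nat.card (stabilizer W y) = Nat.card W := by
  classical
  letI : Fintype W := Fintype.ofFinite _
  letI : Fintype (orbit W y) := Fintype.ofFinite _
  letI : Fintype (stabilizer W y) := Fintype.ofFinite _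
  rw [← Nat.card_coe_set_eq, Nat.card_eq_fintype_card, Nat.card_eq_fintype_card,
    Nat.card_eq_fintype_card]
  exact card_orbit_mul_card_stabilizer_eq_card_group W y

/-- If all points of an invariant set have stabilizers of order `k`, then `|W|` divides `k` times
the size of the set. -/
theorem card_dvd_mul_ncard_of_stabilizer {W : Type*} [Group W] [Finite W] {Y : Type*} [Finite Y]
    [MulAction W Y] (k : ℕ) :
    ∀ (n : ℕ) (A : Set Y), Inv W A → A.ncard = n →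
      (∀ y ∈ A, Nat.card (stabilizer W y) = k) → Nat.card W ∣ k * A.ncard := by
  intro n
  induction n using Nat.strong_induction_on with
  | _ n ih =>
  intro A hinv hn hst
  by_cases hA : A = ∅
  · subst hA; simp
  · obtain ⟨y, hy⟩ := Set.nonempty_iff_ne_empty.mpr hA
    have hO : orbit W y ⊆ A := by
      rintro _ ⟨h, rfl⟩; exact hinv h y hy
    have hinv' : Inv W (A \ orbit W y) := by
      intro h z ⟨hzA, hzO⟩
      refine ⟨hinv h z hzA, fun hc => hzO ?_⟩
      obtain ⟨g, hg⟩ := hc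
      refine ⟨h⁻¹ * g, ?_⟩
      change (h⁻¹ * g) • y = z
      rw [mul_smul, inv_smul_eq_iff]; exact hg
    have hlt : (A \ orbit W y).ncard < n := by
      rw [← hn]
      apply Set.ncard_lt_ncard _ (Set.toFinite _)
      refine ⟨Set.sdiff_subset, fun hc => ?_⟩
      exact (hc hy).2 (mem_orbit_self _)
    have h1 := ih _ hlt (A \ orbit W y) hinv' rfl (fun z hz => hst z hz.1)
    have h2 := ncard_orbit_mul_card_stabilizer (W := W) y
    rw [hst y hy] at h2
    have h3 := Set.ncard_sdiff_add_ncard_of_subset hO (Set.toFinite A)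
    rw [← h3, Nat.mul_add]
    apply Dvd.dvd.add h1
    rw [mul_comm, h2]

end Cfsg.Agent.Lib.Helper8.CB
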