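import Mathlib
import Cfsg.Agent.Lib.Helper8.BM2
import Cfsg.Agent.Lib.Helper8.CB1

set_option autoImplicit false

/-!
# Disjoint unions of transitive `H`-sets and their marks
-/

namespace Cfsg.Agent.Lib.Helper8.CB

universe u

open MulAction
open Cfsg.Agent.Lib.Helper8.BM

/-- The `H`-set consisting of `m K` copies of `H ⧸ K` for every subgroup `K`. -/
abbrev OrbSet {H : Type u} [Group H] (m : Subgroup H → ℕ) : Type u :=
  Σ i : (Σ K : Subgroup H, Fin (m K)), H ⧸ i.1

theorem orbSet_smul {H : Type u} [Group H] (m : Subgroup H → ℕ) (h : H)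
    (i : Σ K : Subgroup H, Fin (m K)) (q : H ⧸ i.1) :
    h • (⟨i, q⟩ : OrbSet m) = (⟨i, h • q⟩ : OrbSet m) := rfl

/-- Stabilizers in `OrbSet m` are conjugates of subgroups in the support of `m`. -/
theorem orbSet_stabilizer {H : Type u} [Group H] (m : Subgroup H → ℕ) (x : OrbSet m) :
    ∃ (K : Subgroup H) (g : H), m K ≠ 0 ∧
      stabilizer H x = K.map (MulAut.conj g).toMonoidHom := by
  obtain ⟨⟨K, j⟩, q⟩ := x
  induction q using QuotientGroup.induction_on with
  | H g =>
    refine ⟨K, g, ?_, ?_⟩
    · intro h0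
      rw [h0] at j
      exact Fin.elim0 j
    · have h1 : stabilizer H (⟨⟨K, j⟩, (g : H ⧸ K)⟩ : OrbSet m) = stabilizer H (g : H ⧸ K) := by
        ext h
        simp only [mem_stabilizer_iff, orbSet_smul]
        constructor
        · intro he
          have := Sigma.mk.inj he
          exact eq_of_heq this.2
        · intro he
          rw [he]
      rw [h1]
      have h2 : (g : H ⧸ K) = g • ((1 : H) : H ⧸ K) := by
        rw [MulAction.Quotient.smul_mk, smul_eq_mul, mul_one]
      rw [h2, stabilizer_smul_eq_stabilizer_map_conj, stabilizer_quotient]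

/-- The mark of `K` on the transitive `H`-set `H ⧸ K'`. -/
noncomputable def fx {H : Type u} [Group H] (K' K : Subgroup H) : ℕ :=
  Nat.card (fixedPoints K (H ⧸ K'))

open Classical in
/-- The marks of `OrbSet m`. -/
theorem card_fixedPoints_orbSet {H : Type u} [Group H] [Finite H] (m : Subgroup H → ℕ)
    (K : Subgroup H) :
    letI : Fintype (Subgroup H) := Fintype.ofFinite _
    Nat.card (fixedPoints K (OrbSet m)) = ∑ K' : Subgroup H, m K' * fx K' K := by
  letI : Fintype (Subgroup H) := Fintype.ofFinite _
  let e : fixedPoints K (OrbSet m) ≃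
      Σ i : (Σ K' : Subgroup H, Fin (m K')), fixedPoints K (H ⧸ i.1) :=
    { toFun := fun x => ⟨x.1.1, ⟨x.1.2, fun k => by
        have := x.2 k
        have h2 : k • (⟨x.1.1, x.1.2⟩ : OrbSet m) = ⟨x.1.1, x.1.2⟩ := this
        change (⟨x.1.1, (k : H) • x.1.2⟩ : OrbSet m) = ⟨x.1.1, x.1.2⟩ at h2
        exact eq_of_heq (Sigma.mk.inj h2).2⟩⟩
      invFun := fun y => ⟨⟨y.1, y.2.1⟩, fun k => by
        change (⟨y.1, (k : H) • y.2.1⟩ : OrbSet m) = ⟨y.1, y.2.1⟩
        have := y.2.2 k
        change (k : H) • y.2.1 = y.2.1 at this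
        rw [this]⟩
      left_inv := fun x => rfl
      right_inv := fun y => rfl }
  rw [Nat.card_congr e, Nat.card_sigma, Fintype.sum_sigma]
  apply Finset.sum_congr rfl
  intro K' _
  change ∑ _y : Fin (m K'), fx K' K = _
  rw [Finset.sum_const, Finset.card_univ, Fintype.card_fin, smul_eq_mul]

/-- Marks are invariant under conjugation. -/
theorem card_fixedPoints_map_conj {H : Type u} [Group H] {Y : Type*} [MulAction H Y]
    (K : Subgroup H) (g : H) :
    Nat.card (fixedPoints (K.map (MulAut.conj g).toMonoidHom) Y) = Nat.card (fixedPoints K Y) := by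
  symm
  apply Nat.card_congr
  refine
    { toFun := fun y => ⟨g • (y : Y), ?_⟩
      invFun := fun y => ⟨g⁻¹ • (y : Y), ?_⟩
      left_inv := fun y => Subtype.ext (by simp)
      right_inv := fun y => Subtype.ext (by simp) }
  · rintro ⟨_, ⟨k, hk, rfl⟩⟩
    change (g * k * g⁻¹) • g • (y : Y) = g • (y : Y)
    rw [← mul_smul, inv_mul_cancel_right, mul_smul]
    congr 1
    exact y.2 ⟨k, hk⟩
  · intro k
    change (k : H) • g⁻¹ • (y : Y) = g⁻¹ • (y : Y)
    rw [← mul_smul, eq_inv_smul_iff, ← mul_smul]
    have : g * ((k : H) * g⁻¹) ∈ K.map (MulAut.conj g).toMonoidHom :=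
      ⟨k, k.2, by simp [mul_assoc]⟩
    exact y.2 ⟨_, this⟩

theorem fx_ne_zero {H : Type u} [Group H] [Finite H] {K' K : Subgroup H} (h : fx K' K ≠ 0) :
    ∃ g : H, K.map (MulAut.conj g⁻¹).toMonoidHom ≤ K' := by
  unfold fx at h
  have hne : Nonempty (fixedPoints K (H ⧸ K')) := by
    by_contra hc
    rw [not_nonempty_iff] at hc
    exact h Nat.card_of_isEmpty
  obtain ⟨⟨q, hq⟩⟩ := hne
  induction q using QuotientGroup.induction_on with
  | H g =>
    refine ⟨g, ?_⟩
    rintro _ ⟨k, hk, rfl⟩
    have := hq ⟨k, hk⟩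
    change k • (g : H ⧸ K') = g at this
    rw [MulAction.Quotient.smul_mk, smul_eq_mul, eq_comm, QuotientGroup.eq] at this
    simpa [mul_assoc] using this

/-- `|N_H(K) : K|`. -/
noncomputable def nk {H : Type u} [Group H] (K : Subgroup H) : ℕ :=
  (K.subgroupOf (Subgroup.normalizer (K : Set H))).index

theorem nk_mul_card {H : Type u} [Group H] [Finite H] (K : Subgroup H) :
    nk K * Nat.card K = Nat.card (Subgroup.normalizer (K : Set H)) := by
  unfold nk
  have h1 := Subgroup.card_mul_index (K.subgroupOf (Subgroup.normalizer (K : Set H)))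
  have h2 : Nat.card (K.subgroupOf (Subgroup.normalizer (K : Set H))) = Nat.card K :=
    Nat.card_congr (Subgroup.subgroupOfEquivOfLe Subgroup.le_normalizer).toEquiv
  rw [h2] at h1
  rw [mul_comm]; exact h1

theorem nk_pos {H : Type u} [Group H] [Finite H] (K : Subgroup H) : 0 < nk K := by
  unfold nk
  exact Nat.pos_of_ne_zero Subgroup.index_ne_zero_of_finite

theorem nk_map_conj {H : Type u} [Group H] [Finite H] (K : Subgroup H) (g : H) :
    nk (K.map (MulAut.conj g).toMonoidHom) = nk K := by
  have h1 := nk_mul_card (K.map (MulAut.conj g).toMonoidHom)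
  have h2 := nk_mul_card K
  have h3 : Nat.card (K.map (MulAut.conj g).toMonoidHom) = Nat.card K :=
    Subgroup.card_map_of_injective (MulAut.conj g).injective
  have h4 : Nat.card (Subgroup.normalizer ((K.map (MulAut.conj g).toMonoidHom : Subgroup H) : Set H)) =
      Nat.card (Subgroup.normalizer (K : Set H)) := by
    have : Subgroup.normalizer ((K.map (MulAut.conj g).toMonoidHom : Subgroup H) : Set H) =
        (Subgroup.normalizer (K : Set H)).map (MulAut.conj g).toMonoidHom := by
      have := Subgroup.map_equiv_normalizer_eq K (MulAut.conj g)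
      exact this.symm
    rw [this]
    exact Subgroup.card_map_of_injective (MulAut.conj g).injective
  rw [h3, h4, ← h2] at h1
  exact Nat.eq_of_mul_eq_mul_right Nat.card_pos h1

theorem mem_normalizer_of_conj_mem {H : Type u} [Group H] (K : Subgroup H) [Finite K] (n : H)
    (h : ∀ k ∈ K, n⁻¹ * k * n ∈ K) : n ∈ Subgroup.normalizer (K : Set H) := by
  let f : K → K := fun k => ⟨n⁻¹ * k * n, h k k.2⟩
  have hinj : Function.Injective f := by
    intro a b hab
    have := congrArg (fun z : K => (z : H)) hab
    simp only [f] at this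
    apply Subtype.ext
    have h2 : n * (n⁻¹ * (a : H) * n) * n⁻¹ = n * (n⁻¹ * (b : H) * n) * n⁻¹ := by rw [this]
    have e1 : n * (n⁻¹ * (a : H) * n) * n⁻¹ = a := by group
    have e2 : n * (n⁻¹ * (b : H) * n) * n⁻¹ = b := by group
    rw [e1, e2] at h2
    exact h2
  have hsurj : Function.Surjective f := Finite.injective_iff_surjective.mp hinj
  rw [Subgroup.mem_normalizer_iff]
  intro x
  constructor
  · intro hx
    obtain ⟨k, hk⟩ := hsurj ⟨x, hx⟩
    have := congrArg (fun z : K => (z : H)) hk
    simp only [f] at this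
    have e : n * x * n⁻¹ = k := by rw [← this]; group
    rw [e]; exact k.2
  · intro hx
    have := h _ hx
    have e : n⁻¹ * (n * x * n⁻¹) * n = x := by group
    rw [e] at this
    exact this

/-- The mark of `K` on `H ⧸ K'` when `K'` is a conjugate of `K`. -/
theorem fx_conj {H : Type u} [Group H] [Finite H] (K : Subgroup H) (g : H) :
    fx (K.map (MulAut.conj g).toMonoidHom) K = nk K := by
  classical
  have h0 := card_mul_card_fixedPoints_quotient (K.map (MulAut.conj g).toMonoidHom) K
  have hcard : Nat.card (K.map (MulAut.conj g).toMonoidHom) = Nat.card K :=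
    Subgroup.card_map_of_injective (MulAut.conj g).injective
  have h1 : Nat.card {h : H // ∀ k' ∈ K, h⁻¹ * k' * h ∈ K.map (MulAut.conj g).toMonoidHom} =
      Nat.card (Subgroup.normalizer (K : Set H)) := by
    apply Nat.card_congr
    refine
      { toFun := fun h => ⟨(h : H) * g, ?_⟩
        invFun := fun n => ⟨(n : H) * g⁻¹, ?_⟩
        left_inv := fun h => Subtype.ext (by simp)
        right_inv := fun n => Subtype.ext (by simp) }
    · apply mem_normalizer_of_conj_mem
      intro k hk
      obtain ⟨k₁, hk₁, he⟩ := h.2 k hk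
      simp only [MulEquiv.coe_toMonoidHom, MulAut.conj_apply] at he
      have : ((h : H) * g)⁻¹ * k * ((h : H) * g) = k₁ := by
        have : k₁ = g⁻¹ * ((h : H)⁻¹ * k * h) * g := by rw [← he]; group
        rw [this]; group
      rw [this]; exact hk₁
    · intro k' hk'
      have hn := n.2
      rw [Subgroup.mem_normalizer_iff''] at hn
      refine ⟨(n : H)⁻¹ * k' * n, (hn k').mp hk', ?_⟩
      simp only [MulEquiv.coe_toMonoidHom, MulAut.conj_apply]
      group
  rw [h1, hcard, ← nk_mul_card, mul_comm] at h0
  unfold fx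
  exact Nat.eq_of_mul_eq_mul_right Nat.card_pos h0

theorem map_conj_map_conj {H : Type u} [Group H] (K : Subgroup H) (g h : H) :
    (K.map (MulAut.conj g).toMonoidHom).map (MulAut.conj h).toMonoidHom =
      K.map (MulAut.conj (h * g)).toMonoidHom := by
  rw [Subgroup.map_map]
  congr 1
  ext x
  simp [mul_assoc]

theorem map_conj_one {H : Type u} [Group H] (K : Subgroup H) :
    K.map (MulAut.conj (1 : H)).toMonoidHom = K := by
  ext x
  simp

/-- Conjugacy of subgroups as a setoid. -/
def conjSetoid (H : Type u) [Group H] : Setoid (Subgroup H) where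
  r K K' := ∃ g : H, K' = K.map (MulAut.conj g).toMonoidHom
  iseqv :=
    { refl := fun K => ⟨1, (map_conj_one K).symm⟩
      symm := by
        rintro K K' ⟨g, rfl⟩
        refine ⟨g⁻¹, ?_⟩
        rw [map_conj_map_conj, inv_mul_cancel, map_conj_one]
      trans := by
        rintro K K' K'' ⟨g, rfl⟩ ⟨h, rfl⟩
        exact ⟨h * g, map_conj_map_conj K g h⟩ }

/-- A chosen representative of the conjugacy class of a subgroup. -/
noncomputable def crep {H : Type u} [Group H] (K : Subgroup H) : Subgroup H :=
  (Quotient.mk (conjSetoid H) K).out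

theorem crep_conj {H : Type u} [Group H] (K : Subgroup H) :
    ∃ g : H, crep K = K.map (MulAut.conj g).toMonoidHom := by
  have h : (conjSetoid H).r K (crep K) := by
    have := Quotient.exact (Quotient.out_eq (Quotient.mk (conjSetoid H) K))
    exact (conjSetoid H).symm this
  exact h

theorem crep_map_conj {H : Type u} [Group H] (K : Subgroup H) (g : H) :
    crep (K.map (MulAut.conj g).toMonoidHom) = crep K := by
  unfold crep
  congr 1
  apply Quotient.sound
  exact (conjSetoid H).symm ⟨g, rfl⟩

theorem crep_crep {H : Type u} [Group H] (K : Subgroup H) : crep (crep K) = crep K := by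
  obtain ⟨g, hg⟩ := crep_conj K
  rw [hg, crep_map_conj]
  exact hg

end Cfsg.Agent.Lib.Helper8.CB
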