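import Mathlib
import Cfsg.Agent.Lib.Helper8.CB2

set_option autoImplicit false

/-!
# Abstract fusion relations on the subgroups of a finite group and the congruence of marks
-/

namespace Cfsg.Agent.Lib.Helper8.CB

universe u

open MulAction
open Cfsg.Agent.Lib.Helper8.BM

/-- An abstract "saturated fusion relation" on a family `T` of subgroups of `H`. -/
structure FusRel (H : Type u) [Group H] where
  T : Set (Subgroup H)
  conj_mem : ∀ {K : Subgroup H}, K ∈ T → ∀ g : H, K.map (MulAut.conj g).toMonoidHom ∈ T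
  le_mem : ∀ {K K' : Subgroup H}, K ∈ T → K' ≤ K → K' ∈ T
  rel : Subgroup H → Subgroup H → Prop
  rel_refl : ∀ {K : Subgroup H}, K ∈ T → rel K K
  rel_symm : ∀ {K K' : Subgroup H}, rel K K' → rel K' K
  rel_trans : ∀ {K K' K'' : Subgroup H}, rel K K' → rel K' K'' → rel K K''
  rel_mem : ∀ {K K' : Subgroup H}, rel K K' → K ∈ T
  rel_card : ∀ {K K' : Subgroup H}, rel K K' → Nat.card K = Nat.card K'
  rel_conj : ∀ {K : Subgroup H}, K ∈ T → ∀ g : H, rel K (K.map (MulAut.conj g).toMonoidHom)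
  sat : ∀ K ∈ T, ∃ K₀, rel K K₀ ∧ ∀ K', rel K₀ K' →
    ∃ Ψ : ↥(Subgroup.normalizer (K' : Set H)) →* H, Function.Injective Ψ ∧
      (K'.subgroupOf (Subgroup.normalizer (K' : Set H))).map Ψ = K₀ ∧
      ∀ L : Subgroup ↥(Subgroup.normalizer (K' : Set H)),
        K'.subgroupOf (Subgroup.normalizer (K' : Set H)) ≤ L →
        ((L.map (Subgroup.normalizer (K' : Set H)).subtype ∈ T ↔ L.map Ψ ∈ T) ∧
          (L.map (Subgroup.normalizer (K' : Set H)).subtype ∈ T →
            rel (L.map (Subgroup.normalizer (K' : Set H)).subtype) (L.map Ψ)))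

theorem card_stabilizer_smul {W : Type*} [Group W] {Y : Type*} [MulAction W Y] (w : W) (y : Y) :
    Nat.card (stabilizer W (w • y)) = Nat.card (stabilizer W y) := by
  rw [stabilizer_smul_eq_stabilizer_map_conj]
  exact Subgroup.card_map_of_injective (MulAut.conj w).injective

/-- Splitting an invariant set `Z` on which a subgroup `K̃` acts trivially into the points with
stabilizer of order `|K̃|` and the rest: the first part has size divisible by `|W : K̃|`. -/
theorem ncard_split {W : Type*} [Group W] [Finite W] {Y : Type*} [Finite Y] [MulAction W Y]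
    (Z : Set Y) (hZ : Inv W Z) (c : ℕ) (hc : 0 < c) (hle : ∀ y ∈ Z, c ≤ Nat.card (stabilizer W y))
    (d : ℕ) (hd : d * c = Nat.card W) :
    Z.ncard ≡ {y ∈ Z | c < Nat.card (stabilizer W y)}.ncard [MOD d] := by
  have hsplit : Z = {y ∈ Z | Nat.card (stabilizer W y) = c} ∪ {y ∈ Z | c < Nat.card (stabilizer W y)} := by
    ext y
    simp only [Set.mem_union, Set.mem_ofPred_eq]
    constructor
    · intro hy
      rcases eq_or_lt_of_le (hle y hy) with h | h
      · exact Or.inl ⟨hy, h.symm⟩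
      · exact Or.inr ⟨hy, h⟩
    · rintro (h | h) <;> exact h.1
  have hdisj : Disjoint {y ∈ Z | Nat.card (stabilizer W y) = c}
      {y ∈ Z | c < Nat.card (stabilizer W y)} := by
    rw [Set.disjoint_left]
    rintro y ⟨_, h1⟩ ⟨_, h2⟩
    omega
  have hcard : Z.ncard = {y ∈ Z | Nat.card (stabilizer W y) = c}.ncard +
      {y ∈ Z | c < Nat.card (stabilizer W y)}.ncard := by
    conv_lhs => rw [hsplit]
    exact Set.ncard_union_eq hdisj (Set.toFinite _) (Set.toFinite _)
  have hinvF : Inv W {y ∈ Z | Nat.card (stabilizer W y) = c} := by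
    intro w y ⟨hy, h⟩
    exact ⟨hZ w y hy, by rw [card_stabilizer_smul]; exact h⟩
  have hdvd := card_dvd_mul_ncard_of_stabilizer (W := W) c _ _ hinvF rfl (fun y hy => hy.2)
  rw [← hd] at hdvd
  have hdvd' : d ∣ {y ∈ Z | Nat.card (stabilizer W y) = c}.ncard := by
    have : c * d ∣ c * {y ∈ Z | Nat.card (stabilizer W y) = c}.ncard := by
      rw [mul_comm c d]; exact hdvd
    exact (Nat.mul_dvd_mul_iff_left hc).mp this
  rw [hcard]
  obtain ⟨q, hq⟩ := hdvd'
  rw [hq]
  unfold Nat.ModEq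
  rw [Nat.mul_add_mod]

/-- Forget the action on the type synonym `ActOn ρ`. -/
def ofAct {A X : Type*} [Group A] {ρ : A →* Equiv.Perm X} (y : ActOn ρ) : X := y

/-- **The congruence of marks** (Broto–Levi–Oliver), general form: `W` acts on an `H`-set `Y`
through two homomorphisms `j` and `Ψ`; a normal subgroup `Kt` of `W` is carried to `K'` and `K₀`. If
the marks of `Y` are stable on the images of the larger subgroups of `W`, then the marks of `K'` and
`K₀` are congruent modulo `|W : Kt|`. -/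
theorem card_fixedPoints_modEq_gen {H : Type u} [Group H] [Finite H] (R : FusRel H) {Y : Type*}
    [Finite Y] [MulAction H Y] (hst : ∀ y : Y, stabilizer H y ∈ R.T)
    {W : Type*} [Group W] [Finite W] (j Ψ : W →* H) (hj : Function.Injective j)
    (Kt : Subgroup W) [hKtn : Kt.Normal] (K' K₀ : Subgroup H) (hjK : Kt.map j = K')
    (hΨK : Kt.map Ψ = K₀)
    (hΨ : ∀ L : Subgroup W, Kt ≤ L →
        ((L.map j ∈ R.T ↔ L.map Ψ ∈ R.T) ∧ (L.map j ∈ R.T → R.rel (L.map j) (L.map Ψ))))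
    (hstable : ∀ L L' : Subgroup H, R.rel L L' → Nat.card K' < Nat.card L →
      Nat.card (fixedPoints L Y) = Nat.card (fixedPoints L' Y))
    (d : ℕ) (hdc : d * Nat.card Kt = Nat.card W) :
    Nat.card (fixedPoints K' Y) ≡ Nat.card (fixedPoints K₀ Y) [MOD d] := by
  classical
  by_cases hne : Nonempty Y
  swap
  · rw [not_nonempty_iff] at hne
    have h1 : Nat.card (fixedPoints K' Y) = 0 := by
      haveI : IsEmpty (fixedPoints K' Y) := ⟨fun y => hne.false y.1⟩
      exact Nat.card_of_isEmpty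
    have h2 : Nat.card (fixedPoints K₀ Y) = 0 := by
      haveI : IsEmpty (fixedPoints K₀ Y) := ⟨fun y => hne.false y.1⟩
      exact Nat.card_of_isEmpty
    rw [h1, h2]
  let ρ₁ : W →* Equiv.Perm Y := (MulAction.toPermHom H Y).comp j
  let ρ₂ : W →* Equiv.Perm Y := (MulAction.toPermHom H Y).comp Ψ
  haveI : Nonempty (ActOn ρ₂) := hne
  let Z₁ : Set (ActOn ρ₁) := (fixedPoints K' Y : Set Y)
  let Z₂ : Set (ActOn ρ₂) := (fixedPoints K₀ Y : Set Y)
  have hsmul₁ : ∀ (n : W) (y : ActOn ρ₁), n • y = (j n • (ofAct y) : Y) := fun _ _ => rfl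
  have hsmul₂ : ∀ (n : W) (y : ActOn ρ₂), n • y = (Ψ n • (ofAct y) : Y) := fun _ _ => rfl
  have hcKt : Nat.card Kt = Nat.card K' := by
    rw [← hjK, Subgroup.card_map_of_injective hj]
  have hK'mem : ∀ k : W, k ∈ Kt → j k ∈ K' := by
    intro k hk
    rw [← hjK]
    exact Subgroup.mem_map_of_mem _ hk
  have hK₀mem : ∀ k : W, k ∈ Kt → Ψ k ∈ K₀ := by
    intro k hk
    rw [← hΨK]
    exact Subgroup.mem_map_of_mem _ hk
  -- invariance
  have hZ₁ : Inv W Z₁ := by
    intro n y hy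
    rintro ⟨k₀, hk₀⟩
    change k₀ • (j n • (ofAct y)) = j n • (ofAct y)
    rw [← hjK] at hk₀
    obtain ⟨k, hk, rfl⟩ := hk₀
    have hk' : n⁻¹ * k * n ∈ Kt := by
      have := hKtn.conj_mem k hk n⁻¹
      simpa using this
    have := hy ⟨_, hK'mem _ hk'⟩
    change j (n⁻¹ * k * n) • (ofAct y) = ofAct y at this
    rw [← mul_smul]
    have e : j k * j n = j n * j (n⁻¹ * k * n) := by
      rw [← map_mul, ← map_mul]; congr 1; group
    rw [e, mul_smul, this]
  have hZ₂ : Inv W Z₂ := by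
    intro n y hy
    rintro ⟨k₀, hk₀⟩
    change k₀ • (Ψ n • (ofAct y)) = Ψ n • (ofAct y)
    rw [← hΨK] at hk₀
    obtain ⟨k, hk, rfl⟩ := hk₀
    have hk' : n⁻¹ * k * n ∈ Kt := by
      have := hKtn.conj_mem k hk n⁻¹
      simpa using this
    have := hy ⟨_, hK₀mem _ hk'⟩
    change Ψ (n⁻¹ * k * n) • (ofAct y) = ofAct y at this
    rw [← mul_smul]
    have e : Ψ k * Ψ n = Ψ n * Ψ (n⁻¹ * k * n) := by
      rw [← map_mul, ← map_mul]; congr 1; group
    rw [e, mul_smul, this]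
  have hKtle₁ : ∀ y ∈ Z₁, Kt ≤ stabilizer W y := by
    intro y hy k hk
    rw [mem_stabilizer_iff, hsmul₁]
    exact hy ⟨_, hK'mem k hk⟩
  have hKtle₂ : ∀ y ∈ Z₂, Kt ≤ stabilizer W y := by
    intro y hy k hk
    rw [mem_stabilizer_iff, hsmul₂]
    exact hy ⟨_, hK₀mem k hk⟩
  have hle₁ : ∀ y ∈ Z₁, Nat.card Kt ≤ Nat.card (stabilizer W y) :=
    fun y hy => Subgroup.card_le_of_le (hKtle₁ y hy)
  have hle₂ : ∀ y ∈ Z₂, Nat.card Kt ≤ Nat.card (stabilizer W y) :=
    fun y hy => Subgroup.card_le_of_le (hKtle₂ y hy)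
  have hs₁ := ncard_split (W := W) Z₁ hZ₁ (Nat.card Kt) Nat.card_pos hle₁ d hdc
  have hs₂ := ncard_split (W := W) Z₂ hZ₂ (Nat.card Kt) Nat.card_pos hle₂ d hdc
  set A₁ : Set (ActOn ρ₁) := {y ∈ Z₁ | Nat.card Kt < Nat.card (stabilizer W y)} with hA₁
  set A₂ : Set (ActOn ρ₂) := {y ∈ Z₂ | Nat.card Kt < Nat.card (stabilizer W y)} with hA₂
  have hinvA₁ : Inv W A₁ := by
    intro w y ⟨hy, h⟩
    exact ⟨hZ₁ w y hy, by rw [card_stabilizer_smul]; exact h⟩
  have hinvA₂ : Inv W A₂ := by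
    intro w y ⟨hy, h⟩
    exact ⟨hZ₂ w y hy, by rw [card_stabilizer_smul]; exact h⟩
  -- no fixed points for subgroups outside T
  have hnoT : ∀ L : Subgroup H, L ∉ R.T → (fixedPoints L Y : Set Y) = ∅ := by
    intro L hL
    rw [Set.eq_empty_iff_forall_notMem]
    intro y hy
    apply hL
    refine R.le_mem (hst y) ?_
    intro k hk
    exact hy ⟨k, hk⟩
  have hmarks : ∀ L : Subgroup W, ((∃ y ∈ A₁, stabilizer W y = L) ∨ (∃ y ∈ A₂, stabilizer W y = L)) →
      (fixedPoints L (ActOn ρ₁) ∩ A₁).ncard = (fixedPoints L (ActOn ρ₂) ∩ A₂).ncard := by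
    intro L hL
    have hKL : Kt ≤ L ∧ Nat.card Kt < Nat.card L := by
      rcases hL with ⟨y, hy, rfl⟩ | ⟨y, hy, rfl⟩
      · exact ⟨hKtle₁ y hy.1, hy.2⟩
      · exact ⟨hKtle₂ y hy.1, hy.2⟩
    have e₁ : (fixedPoints L (ActOn ρ₁) ∩ A₁ : Set Y) = (fixedPoints (L.map j) Y : Set Y) := by
      ext y
      constructor
      · rintro ⟨hf, _⟩
        rintro ⟨_, ⟨l, hl, rfl⟩⟩
        exact hf ⟨l, hl⟩
      · intro hy
        have hfix : (y : ActOn ρ₁) ∈ fixedPoints L (ActOn ρ₁) := by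
          intro l
          exact hy ⟨_, Subgroup.mem_map_of_mem _ l.2⟩
        have hZ : (y : ActOn ρ₁) ∈ Z₁ := by
          rintro ⟨k₀, hk₀⟩
          rw [← hjK] at hk₀
          obtain ⟨k, hk, rfl⟩ := hk₀
          exact hy ⟨_, Subgroup.mem_map_of_mem _ (hKL.1 hk)⟩
        refine ⟨hfix, hZ, lt_of_lt_of_le hKL.2 (Subgroup.card_le_of_le ?_)⟩
        intro l hl
        exact hfix ⟨l, hl⟩
    have e₂ : (fixedPoints L (ActOn ρ₂) ∩ A₂ : Set Y) = (fixedPoints (L.map Ψ) Y : Set Y) := by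
      ext y
      constructor
      · rintro ⟨hf, _⟩
        rintro ⟨_, ⟨l, hl, rfl⟩⟩
        exact hf ⟨l, hl⟩
      · intro hy
        have hfix : (y : ActOn ρ₂) ∈ fixedPoints L (ActOn ρ₂) := by
          intro l
          exact hy ⟨_, Subgroup.mem_map_of_mem _ l.2⟩
        have hZ : (y : ActOn ρ₂) ∈ Z₂ := by
          rintro ⟨k₀, hk₀⟩
          rw [← hΨK] at hk₀
          obtain ⟨k, hk, rfl⟩ := hk₀
          exact hy ⟨_, Subgroup.mem_map_of_mem _ (hKL.1 hk)⟩
        refine ⟨hfix, hZ, lt_of_lt_of_le hKL.2 (Subgroup.card_le_of_le ?_)⟩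
        intro l hl
        exact hfix ⟨l, hl⟩
    have hcardL : Nat.card K' < Nat.card (L.map j) := by
      rw [Subgroup.card_map_of_injective hj, ← hcKt]
      exact hKL.2
    obtain ⟨hiff, hrel⟩ := hΨ L hKL.1
    change ((fixedPoints L (ActOn ρ₁) ∩ A₁ : Set Y)).ncard = ((fixedPoints L (ActOn ρ₂) ∩ A₂ : Set Y)).ncard
    rw [e₁, e₂]
    by_cases hLT : L.map j ∈ R.T
    · rw [← Nat.card_coe_set_eq, ← Nat.card_coe_set_eq]
      exact hstable _ _ (hrel hLT) hcardL
    · rw [hnoT _ hLT, hnoT _ (fun h => hLT (hiff.mpr h))]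
  obtain ⟨f, hbij, _⟩ := marks_bijOn' (H := W) (Y₁ := ActOn ρ₁) (Y₂ := ActOn ρ₂) _ A₁ A₂
    hinvA₁ hinvA₂ rfl hmarks
  have hAeq : A₁.ncard = A₂.ncard := hbij.ncard_eq
  have h1 : Nat.card (fixedPoints K' Y) = Z₁.ncard := Nat.card_coe_set_eq _
  have h2 : Nat.card (fixedPoints K₀ Y) = Z₂.ncard := Nat.card_coe_set_eq _
  rw [h1, h2]
  exact (hs₁.trans (by rw [hAeq])).trans hs₂.symm

/-- The congruence of marks in the form given by `FusRel.sat`. -/
theorem card_fixedPoints_modEq {H : Type u} [Group H] [Finite H] (R : FusRel H) {Y : Type*}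
    [Finite Y] [MulAction H Y] (hst : ∀ y : Y, stabilizer H y ∈ R.T) (K' K₀ : Subgroup H)
    (Ψ : ↥(Subgroup.normalizer (K' : Set H)) →* H)
    (hΨK : (K'.subgroupOf (Subgroup.normalizer (K' : Set H))).map Ψ = K₀)
    (hΨ : ∀ L : Subgroup ↥(Subgroup.normalizer (K' : Set H)),
        K'.subgroupOf (Subgroup.normalizer (K' : Set H)) ≤ L →
        ((L.map (Subgroup.normalizer (K' : Set H)).subtype ∈ R.T ↔ L.map Ψ ∈ R.T) ∧
          (L.map (Subgroup.normalizer (K' : Set H)).subtype ∈ R.T →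
            R.rel (L.map (Subgroup.normalizer (K' : Set H)).subtype) (L.map Ψ))))
    (hstable : ∀ L L' : Subgroup H, R.rel L L' → Nat.card K' < Nat.card L →
      Nat.card (fixedPoints L Y) = Nat.card (fixedPoints L' Y)) :
    Nat.card (fixedPoints K' Y) ≡ Nat.card (fixedPoints K₀ Y) [MOD nk K'] := by
  haveI : (K'.subgroupOf (Subgroup.normalizer (K' : Set H))).Normal := Subgroup.normal_in_normalizer
  have hjK : (K'.subgroupOf (Subgroup.normalizer (K' : Set H))).map
      (Subgroup.normalizer (K' : Set H)).subtype = K' :=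
    Subgroup.map_subgroupOf_eq_of_le Subgroup.le_normalizer
  have hc : Nat.card (K'.subgroupOf (Subgroup.normalizer (K' : Set H))) = Nat.card K' :=
    Nat.card_congr (Subgroup.subgroupOfEquivOfLe Subgroup.le_normalizer).toEquiv
  exact card_fixedPoints_modEq_gen R hst (Subgroup.normalizer (K' : Set H)).subtype Ψ
    (Subgroup.subtype_injective _) (K'.subgroupOf (Subgroup.normalizer (K' : Set H))) K' K₀ hjK hΨK hΨ
    hstable (nk K') (by rw [hc]; exact nk_mul_card K')

end Cfsg.Agent.Lib.Helper8.CB
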