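import Mathlib
import Cfsg.Agent.Lib.Helper8.CB3

set_option autoImplicit false

/-!
# Existence of stable `H`-sets for an abstract saturated fusion relation
-/

namespace Cfsg.Agent.Lib.Helper8.CB

universe u

open MulAction
open Cfsg.Agent.Lib.Helper8.BM

/-- The mark of `K` on `OrbSet m`. -/
noncomputable def marks {H : Type u} [Group H] (m : Subgroup H → ℕ) (K : Subgroup H) : ℕ :=
  Nat.card (fixedPoints K (OrbSet m))

open Classical in
theorem marks_eq_sum {H : Type u} [Group H] [Finite H] (m : Subgroup H → ℕ) (K : Subgroup H) :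
    letI : Fintype (Subgroup H) := Fintype.ofFinite _
    marks m K = ∑ K' : Subgroup H, m K' * fx K' K :=
  card_fixedPoints_orbSet m K

open Classical in
theorem marks_add {H : Type u} [Group H] [Finite H] (m δ : Subgroup H → ℕ) (K : Subgroup H) :
    letI : Fintype (Subgroup H) := Fintype.ofFinite _
    marks (fun K' => m K' + δ K') K = marks m K + ∑ K' : Subgroup H, δ K' * fx K' K := by
  letI : Fintype (Subgroup H) := Fintype.ofFinite _
  rw [marks_eq_sum, marks_eq_sum, ← Finset.sum_add_distrib]
  apply Finset.sum_congr rfl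
  intro K' _
  ring

theorem marks_map_conj {H : Type u} [Group H] (m : Subgroup H → ℕ) (K : Subgroup H) (g : H) :
    marks m (K.map (MulAut.conj g).toMonoidHom) = marks m K :=
  card_fixedPoints_map_conj K g

theorem marks_le_card {H : Type u} [Group H] [Finite H] (m : Subgroup H → ℕ) (K : Subgroup H) :
    marks m K ≤ Nat.card (OrbSet m) := by
  unfold marks
  exact Nat.card_le_card_of_injective _ Subtype.val_injective

theorem stabilizer_mem_of_supp {H : Type u} [Group H] (R : FusRel H) (m : Subgroup H → ℕ)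
    (hsupp : ∀ K, m K ≠ 0 → K ∈ R.T) (x : OrbSet m) : stabilizer H x ∈ R.T := by
  obtain ⟨K, g, hK, he⟩ := orbSet_stabilizer m x
  rw [he]
  exact R.conj_mem (hsupp K hK) g

theorem nk_dvd_card {H : Type u} [Group H] [Finite H] (K : Subgroup H) : nk K ∣ Nat.card H := by
  have h1 := nk_mul_card K
  have h2 := Subgroup.card_subgroup_dvd_card (Subgroup.normalizer (K : Set H))
  rw [← h1] at h2
  exact Dvd.dvd.trans (Dvd.intro _ rfl) h2

open Classical in
/-- One step of the construction: make the marks constant on the class of an unprocessed subgroup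
`K₁` of maximal order, without changing the marks on the processed subgroups. -/
theorem stable_step {H : Type u} [Group H] [Finite H] (R : FusRel H) (m : Subgroup H → ℕ)
    (hsupp : ∀ K, m K ≠ 0 → K ∈ R.T) (P : Set (Subgroup H)) (hPT : P ⊆ R.T)
    (hPrel : ∀ K K', K ∈ P → R.rel K K' → K' ∈ P)
    (hPord : ∀ K ∈ P, ∀ K' ∈ R.T, K' ∉ P → Nat.card K' ≤ Nat.card K)
    (hPst : ∀ K K', K ∈ P → R.rel K K' → marks m K = marks m K')
    (K₁ : Subgroup H) (hK₁T : K₁ ∈ R.T) (hK₁P : K₁ ∉ P)
    (hK₁max : ∀ K' ∈ R.T, K' ∉ P → Nat.card K' ≤ Nat.card K₁) :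
    ∃ δ : Subgroup H → ℕ, (∀ K, δ K ≠ 0 → R.rel K₁ K) ∧
      (∀ K ∈ P, marks (fun K' => m K' + δ K') K = marks m K) ∧
      (∀ K K', R.rel K₁ K → R.rel K₁ K' →
        marks (fun K' => m K' + δ K') K = marks (fun K' => m K' + δ K') K') := by
  letI : Fintype (Subgroup H) := Fintype.ofFinite _
  obtain ⟨K₀, hK₁K₀, hsat⟩ := R.sat K₁ hK₁T
  have hstY : ∀ y : OrbSet m, stabilizer H y ∈ R.T := stabilizer_mem_of_supp R m hsupp
  -- larger subgroups are processed
  have hbig : ∀ L : Subgroup H, L ∈ R.T → Nat.card K₁ < Nat.card L → L ∈ P := by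
    intro L hL hlt
    by_contra hLP
    have := hK₁max L hL hLP
    omega
  -- the congruence
  have hcong : ∀ K', R.rel K₁ K' → marks m K' ≡ marks m K₀ [MOD nk K'] := by
    intro K' hK'
    have hK₀K' : R.rel K₀ K' := R.rel_trans (R.rel_symm hK₁K₀) hK'
    obtain ⟨Ψ, _, hΨK, hΨ⟩ := hsat K' hK₀K'
    refine card_fixedPoints_modEq R hstY K' K₀ Ψ hΨK hΨ ?_
    intro L L' hLL' hlt
    have hcard : Nat.card K₁ = Nat.card K' := R.rel_card hK'
    exact hPst L L' (hbig L (R.rel_mem hLL') (by omega)) hLL'
  set v : ℕ := marks m K₀ + Nat.card H * Nat.card (OrbSet m) with hv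
  have hvge : ∀ K', marks m K' ≤ v := by
    intro K'
    have h1 := marks_le_card m K'
    have h2 : Nat.card (OrbSet m) ≤ Nat.card H * Nat.card (OrbSet m) :=
      Nat.le_mul_of_pos_left _ Nat.card_pos
    omega
  have hdvd : ∀ K', R.rel K₁ K' → nk K' ∣ v - marks m K' := by
    intro K' hK'
    have h1 : marks m K' ≡ v [MOD nk K'] := by
      have h2 : marks m K₀ + Nat.card H * Nat.card (OrbSet m) ≡ marks m K₀ + 0 [MOD nk K'] := by
        apply Nat.ModEq.add_left
        apply (Nat.modEq_zero_iff_dvd).mpr
        exact Dvd.dvd.mul_right (nk_dvd_card K') _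
      rw [add_zero] at h2
      exact (hcong K' hK').trans h2.symm
    exact (Nat.modEq_iff_dvd' (hvge K')).mp h1
  let d : Subgroup H → ℕ := fun K' => (v - marks m K') / nk K'
  let δ : Subgroup H → ℕ := fun K' => if R.rel K₁ K' ∧ crep K' = K' then d K' else 0
  have hδ0 : ∀ K', δ K' ≠ 0 → R.rel K₁ K' ∧ crep K' = K' := by
    intro K' h
    by_contra hc
    apply h
    simp only [δ, if_neg hc]
  -- facts on fx
  have hfx : ∀ K' K : Subgroup H, Nat.card K = Nat.card K' → fx K' K ≠ 0 →
      ∃ g : H, K' = K.map (MulAut.conj g).toMonoidHom := by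
    intro K' K hc hne
    obtain ⟨g, hg⟩ := fx_ne_zero hne
    refine ⟨g⁻¹, ?_⟩
    symm
    apply Subgroup.eq_of_le_of_card_ge hg
    rw [Subgroup.card_map_of_injective (MulAut.conj g⁻¹).injective, hc]
  refine ⟨δ, fun K h => (hδ0 K h).1, ?_, ?_⟩
  · -- processed marks unchanged
    intro K hKP
    rw [marks_add]
    have : ∑ K' : Subgroup H, δ K' * fx K' K = 0 := by
      apply Finset.sum_eq_zero
      intro K' _
      by_contra hne
      have hδ : δ K' ≠ 0 := fun h => hne (by rw [h, zero_mul])
      have hf : fx K' K ≠ 0 := fun h => hne (by rw [h, mul_zero])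
      obtain ⟨hrel, _⟩ := hδ0 K' hδ
      obtain ⟨g, hg⟩ := fx_ne_zero hf
      have hKT : K ∈ R.T := hPT hKP
      have hc1 : Nat.card K ≤ Nat.card K' := by
        have := Subgroup.card_le_of_le hg
        rwa [Subgroup.card_map_of_injective (MulAut.conj g⁻¹).injective] at this
      have hc2 : Nat.card K₁ ≤ Nat.card K := hPord K hKP K₁ hK₁T hK₁P
      have hc3 : Nat.card K₁ = Nat.card K' := R.rel_card hrel
      obtain ⟨g', hg'⟩ := hfx K' K (by omega) hf
      -- then K is related to K₁, contradiction
      have hrel' : R.rel K K' := by rw [hg']; exact R.rel_conj hKT g'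
      exact hK₁P (hPrel K K₁ hKP (R.rel_trans hrel' (R.rel_symm hrel)))
    rw [this, add_zero]
  · -- the class of K₁ gets constant marks
    have hconst : ∀ K, R.rel K₁ K → marks (fun K' => m K' + δ K') K = v := by
      intro K hK
      have hKT : K ∈ R.T := R.rel_mem (R.rel_symm hK)
      rw [marks_add]
      obtain ⟨g₀, hg₀⟩ := crep_conj K
      have hrelc : R.rel K₁ (crep K) := by
        rw [hg₀]; exact R.rel_trans hK (R.rel_conj hKT g₀)
      have hsum : ∑ K' : Subgroup H, δ K' * fx K' K = δ (crep K) * fx (crep K) K := by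
        apply Finset.sum_eq_single (crep K)
        · intro K' _ hne
          by_contra hne0
          have hδ : δ K' ≠ 0 := fun h => hne0 (by rw [h, zero_mul])
          have hf : fx K' K ≠ 0 := fun h => hne0 (by rw [h, mul_zero])
          obtain ⟨hrel, hcr⟩ := hδ0 K' hδ
          have hc : Nat.card K = Nat.card K' := by
            rw [← R.rel_card hK, R.rel_card hrel]
          obtain ⟨g', hg'⟩ := hfx K' K hc hf
          apply hne
          rw [← hcr, hg', crep_map_conj]
        · intro h
          exact absurd (Finset.mem_univ _) h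
      rw [hsum]
      have hδc : δ (crep K) = d (crep K) := by
        simp only [δ]
        rw [if_pos ⟨hrelc, crep_crep K⟩]
      have hfc : fx (crep K) K = nk K := by
        rw [hg₀]; exact fx_conj K g₀
      have hdc : d (crep K) = d K := by
        simp only [d]
        rw [hg₀, marks_map_conj, nk_map_conj]
      rw [hδc, hfc, hdc]
      simp only [d]
      rw [Nat.div_mul_cancel (hdvd K hK)]
      have := hvge K
      omega
    intro K K' hK hK'
    rw [hconst K hK, hconst K' hK']


/-- **Existence of stable `H`-sets**: starting from multiplicities `m` whose marks are stable on an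
upward closed, `rel`-closed family `P` of subgroups, one can add orbits with stabilizers outside `P`
to make all marks stable. -/
theorem exists_stable_orbSet {H : Type u} [Group H] [Finite H] (R : FusRel H) :
    ∀ (n : ℕ) (m : Subgroup H → ℕ) (P : Set (Subgroup H)),
    (∀ K, m K ≠ 0 → K ∈ R.T) → P ⊆ R.T →
    (∀ K K', K ∈ P → R.rel K K' → K' ∈ P) →
    (∀ K ∈ P, ∀ K' ∈ R.T, K' ∉ P → Nat.card K' ≤ Nat.card K) →
    (∀ K K', K ∈ P → R.rel K K' → marks m K = marks m K') →
    (R.T \ P).ncard ≤ n →
    ∃ m' : Subgroup H → ℕ, (∀ K, m' K ≠ 0 → K ∈ R.T) ∧ (∀ K ∈ P, m' K = m K) ∧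
      (∀ K K', R.rel K K' → marks m' K = marks m' K') := by
  intro n
  induction n with
  | zero =>
    intro m P hsupp hPT hPrel hPord hPst hn
    refine ⟨m, hsupp, fun _ _ => rfl, ?_⟩
    intro K K' hKK'
    have hfin : (R.T \ P).Finite := Set.toFinite _
    have hemp : R.T \ P = ∅ := by
      rw [← Set.ncard_eq_zero hfin]
      omega
    have hKP : K ∈ P := by
      by_contra hKP
      have : K ∈ R.T \ P := ⟨R.rel_mem hKK', hKP⟩
      rw [hemp] at this
      exact this
    exact hPst K K' hKP hKK'
  | succ n ih =>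
    intro m P hsupp hPT hPrel hPord hPst hn
    by_cases hemp : R.T \ P = ∅
    · refine ⟨m, hsupp, fun _ _ => rfl, ?_⟩
      intro K K' hKK'
      have hKP : K ∈ P := by
        by_contra hKP
        have : K ∈ R.T \ P := ⟨R.rel_mem hKK', hKP⟩
        rw [hemp] at this
        exact this
      exact hPst K K' hKP hKK'
    · have hne : (R.T \ P).Nonempty := Set.nonempty_iff_ne_empty.mpr hemp
      obtain ⟨K₁, ⟨hK₁T, hK₁P⟩, hmax⟩ :=
        Set.exists_max_image (R.T \ P) (fun K => Nat.card K) (Set.toFinite _) hne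
      have hK₁max : ∀ K' ∈ R.T, K' ∉ P → Nat.card K' ≤ Nat.card K₁ :=
        fun K' h1 h2 => hmax K' ⟨h1, h2⟩
      obtain ⟨δ, hδ, hδP, hδc⟩ := stable_step R m hsupp P hPT hPrel hPord hPst K₁ hK₁T hK₁P hK₁max
      have hδP0 : ∀ K ∈ P, δ K = 0 := by
        intro K hK
        by_contra h
        exact hK₁P (hPrel K K₁ hK (R.rel_symm (hδ K h)))
      obtain ⟨m', h1, h2, h3⟩ := ih (fun K' => m K' + δ K') (P ∪ {K | R.rel K₁ K})
        (by
          intro K hK
          by_cases hm : m K = 0
          · have : δ K ≠ 0 := by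
              intro h
              apply hK
              simp only [hm, h]
            exact R.rel_mem (R.rel_symm (hδ K this))
          · exact hsupp K hm)
        (by
          rintro K (hK | hK)
          · exact hPT hK
          · exact R.rel_mem (R.rel_symm hK))
        (by
          rintro K K' (hK | hK) hKK'
          · exact Or.inl (hPrel K K' hK hKK')
          · exact Or.inr (R.rel_trans hK hKK'))
        (by
          rintro K (hK | hK) K' hK'T hK'P
          · exact hPord K hK K' hK'T (fun h => hK'P (Or.inl h))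
          · have : Nat.card K₁ = Nat.card K := R.rel_card hK
            rw [← this]
            exact hK₁max K' hK'T (fun h => hK'P (Or.inl h)))
        (by
          rintro K K' (hK | hK) hKK'
          · rw [hδP K hK, hδP K' (hPrel K K' hK hKK')]
            exact hPst K K' hK hKK'
          · exact hδc K K' hK (R.rel_trans hK hKK'))
        (by
          have hsub : R.T \ (P ∪ {K | R.rel K₁ K}) ⊂ R.T \ P := by
            refine ⟨?_, ?_⟩
            · rintro K ⟨hK1, hK2⟩
              exact ⟨hK1, fun h => hK2 (Or.inl h)⟩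
            · intro h
              have := h ⟨hK₁T, hK₁P⟩
              exact this.2 (Or.inr (R.rel_refl hK₁T))
          have := Set.ncard_lt_ncard hsub (Set.toFinite _)
          omega)
      refine ⟨m', h1, ?_, h3⟩
      intro K hK
      rw [h2 K (Or.inl hK), hδP0 K hK, add_zero]

end Cfsg.Agent.Lib.Helper8.CB
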