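import Mathlib
import Cfsg.Prelude.Def_FusionSystem
import Cfsg.Agent.Lib.Helper8.BM4
import Cfsg.Agent.Lib.Helper8.CB4
import Cfsg.Agent.Lib.Helper9.FusionBasic
import Cfsg.Agent.Lib.Helper9.FusionAut
import Cfsg.Agent.Lib.Helper9.FusionTransport
import Cfsg.Agent.Lib.Helper9.FusionNormMap

set_option autoImplicit false

/-!
# The fusion relation on the subgroups of `S × S` attached to a saturated fusion system
-/

namespace Cfsg.Agent.Lib.Helper8.CB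

universe u

open MulAction
open Cfsg Cfsg.FusionSystem
open Cfsg.Agent.Lib.Helper9
open Cfsg.Agent.Lib.Helper8.BM

variable {Ω : Type u} [Group Ω] {S : Subgroup Ω}

/-- The domain of a subgroup of `S × S`, as a subgroup of the ambient group. -/
def dom (K : Subgroup (S × S)) : Subgroup Ω := (K.map (MonoidHom.fst S S)).map S.subtype

theorem mem_dom {K : Subgroup (S × S)} {a : Ω} : a ∈ dom K ↔ ∃ k ∈ K, ((k.1 : S) : Ω) = a := by
  constructor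
  · rintro ⟨s, ⟨k, hk, rfl⟩, rfl⟩
    exact ⟨k, hk, rfl⟩
  · rintro ⟨k, hk, rfl⟩
    exact ⟨k.1, ⟨k, hk, rfl⟩, rfl⟩

theorem dom_le (K : Subgroup (S × S)) : dom K ≤ S := by
  intro a ha
  obtain ⟨k, _, rfl⟩ := mem_dom.mp ha
  exact k.1.2

theorem dom_gr {P : Subgroup Ω} (hP : P ≤ S) {φ : P →* Ω} (hφ : ∀ x : P, φ x ∈ S) :
    dom (gr hP hφ) = P := by
  ext a
  rw [mem_dom]
  constructor
  · rintro ⟨k, hk, rfl⟩
    obtain ⟨x, hx, _⟩ := (mem_gr _ _ _).mp hk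
    rw [← hx]; exact x.2
  · intro ha
    exact ⟨(⟨a, hP ha⟩, ⟨φ ⟨a, ha⟩, hφ _⟩), (mem_gr _ _ _).mpr ⟨⟨a, ha⟩, rfl, rfl⟩, rfl⟩

theorem card_gr {P : Subgroup Ω} (hP : P ≤ S) {φ : P →* Ω} (hφ : ∀ x : P, φ x ∈ S) :
    Nat.card (gr hP hφ) = Nat.card P := by
  have hinj : Function.Injective (grHom hP hφ) := by
    intro x y hxy
    have := congrArg Prod.fst hxy
    simp only [grHom, MonoidHom.prod_apply] at this
    exact Subgroup.inclusion_injective hP this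
  exact (Nat.card_congr (MonoidHom.ofInjective hinj).toEquiv).symm

theorem card_eq_card_dom (F : FusionSystem S) {K : Subgroup (S × S)} (hK : K ∈ graphs F) :
    Nat.card K = Nat.card (dom K) := by
  obtain ⟨P, φ, hφ, rfl⟩ := hK
  rw [card_gr, dom_gr]

theorem isConj_card_eq (F : FusionSystem S) {P Q : Subgroup Ω} (h : F.IsConj P Q) :
    Nat.card P = Nat.card Q := by
  obtain ⟨φ, hφ, rfl⟩ := h
  exact Nat.card_congr (fsEquiv F hφ).toEquiv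

theorem dom_map_conj (F : FusionSystem S) (K : Subgroup (S × S)) (g : S × S) :
    F.IsConj (dom K) (dom (K.map (MulAut.conj g).toMonoidHom)) := by
  refine ⟨conjHom (dom K) (g.1 : Ω), F.conj_mem (dom_le K) g.1.2, ?_⟩
  ext y
  rw [mem_dom]
  constructor
  · rintro ⟨⟨a, ha⟩, rfl⟩
    obtain ⟨k, hk, rfl⟩ := mem_dom.mp ha
    refine ⟨_, Subgroup.mem_map_of_mem _ hk, ?_⟩
    simp [conjHom]
  · rintro ⟨_, ⟨k, hk, rfl⟩, rfl⟩
    refine ⟨⟨((k.1 : S) : Ω), mem_dom.mpr ⟨k, hk, rfl⟩⟩, ?_⟩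
    simp [conjHom]

/-- Elements normalizing a graph transport the map. -/
theorem normalizer_gr_apply {P : Subgroup Ω} (hP : P ≤ S) {φ : P →* Ω} (hφ : ∀ x : P, φ x ∈ S)
    (n : S × S) (hn : n ∈ Subgroup.normalizer (gr hP hφ : Set (S × S))) (x : P) :
    ∃ hx : ((n.1 : S) : Ω) * x * ((n.1 : S) : Ω)⁻¹ ∈ P,
      φ ⟨_, hx⟩ = ((n.2 : S) : Ω) * φ x * ((n.2 : S) : Ω)⁻¹ := by
  have hk : ((⟨x, hP x.2⟩ : S), (⟨φ x, hφ x⟩ : S)) ∈ gr hP hφ :=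
    (mem_gr _ _ _).mpr ⟨x, rfl, rfl⟩
  have := (Subgroup.mem_normalizer_iff.mp hn _).mp hk
  obtain ⟨x', h1, h2⟩ := (mem_gr _ _ _).mp this
  have h1' : (x' : Ω) = ((n.1 : S) : Ω) * x * ((n.1 : S) : Ω)⁻¹ := by
    rw [h1]; simp
  have h2' : φ x' = ((n.2 : S) : Ω) * φ x * ((n.2 : S) : Ω)⁻¹ := by
    rw [h2]; simp
  refine ⟨h1' ▸ x'.2, ?_⟩
  rw [← h2']
  congr 1
  exact Subtype.ext h1'.symm

theorem normalizer_gr_fst {P : Subgroup Ω} (hP : P ≤ S) {φ : P →* Ω} (hφ : ∀ x : P, φ x ∈ S)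
    (n : S × S) (hn : n ∈ Subgroup.normalizer (gr hP hφ : Set (S × S))) :
    ((n.1 : S) : Ω) ∈ Subgroup.normalizer (P : Set Ω) := by
  rw [Subgroup.mem_normalizer_iff]
  intro h
  constructor
  · intro hh
    obtain ⟨hx, _⟩ := normalizer_gr_apply hP hφ n hn ⟨h, hh⟩
    exact hx
  · intro hh
    obtain ⟨hx, _⟩ := normalizer_gr_apply hP hφ n⁻¹ (Subgroup.inv_mem _ hn) ⟨_, hh⟩
    have e : (((n⁻¹).1 : S) : Ω) * (((n.1 : S) : Ω) * h * ((n.1 : S) : Ω)⁻¹) *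
        (((n⁻¹).1 : S) : Ω)⁻¹ = h := by
      simp only [Prod.fst_inv, Subgroup.coe_inv]
      group
    rw [← e]
    exact hx

theorem normalizer_gr_snd {P : Subgroup Ω} (hP : P ≤ S) {φ : P →* Ω} (hφ : ∀ x : P, φ x ∈ S)
    (n : S × S) (hn : n ∈ Subgroup.normalizer (gr hP hφ : Set (S × S))) :
    ((n.2 : S) : Ω) ∈ Subgroup.normalizer (φ.range : Set Ω) := by
  rw [Subgroup.mem_normalizer_iff]
  intro h
  constructor
  · rintro ⟨x, rfl⟩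
    obtain ⟨hx, hx2⟩ := normalizer_gr_apply hP hφ n hn x
    exact ⟨_, hx2⟩
  · rintro ⟨x, hx⟩
    obtain ⟨hx1, hx2⟩ := normalizer_gr_apply hP hφ n⁻¹ (Subgroup.inv_mem _ hn) x
    refine ⟨_, hx2.trans ?_⟩
    rw [hx]
    simp only [Prod.snd_inv, Subgroup.coe_inv]
    group

/-- Combine a map on the first coordinates and a map on the second coordinates. -/
def pairHom (N : Subgroup (S × S)) {A B : Subgroup Ω} (α : A →* Ω) (β : B →* Ω)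
    (hα : ∀ a : A, α a ∈ S) (hβ : ∀ b : B, β b ∈ S)
    (hA : ∀ n ∈ N, ((n.1 : S) : Ω) ∈ A) (hB : ∀ n ∈ N, ((n.2 : S) : Ω) ∈ B) : N →* S × S :=
  MonoidHom.prod
    ((α.codRestrict S hα).comp
      (((S.subtype.comp (MonoidHom.fst S S)).comp N.subtype).codRestrict A (fun n => hA n.1 n.2)))
    ((β.codRestrict S hβ).comp
      (((S.subtype.comp (MonoidHom.snd S S)).comp N.subtype).codRestrict B (fun n => hB n.1 n.2)))

theorem pairHom_fst (N : Subgroup (S × S)) {A B : Subgroup Ω} (α : A →* Ω) (β : B →* Ω)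
    (hα : ∀ a : A, α a ∈ S) (hβ : ∀ b : B, β b ∈ S)
    (hA : ∀ n ∈ N, ((n.1 : S) : Ω) ∈ A) (hB : ∀ n ∈ N, ((n.2 : S) : Ω) ∈ B) (n : N) :
    (((pairHom N α β hα hβ hA hB n).1 : S) : Ω) = α ⟨((n : S × S).1 : S), hA n.1 n.2⟩ := rfl

theorem pairHom_snd (N : Subgroup (S × S)) {A B : Subgroup Ω} (α : A →* Ω) (β : B →* Ω)
    (hα : ∀ a : A, α a ∈ S) (hβ : ∀ b : B, β b ∈ S)
    (hA : ∀ n ∈ N, ((n.1 : S) : Ω) ∈ A) (hB : ∀ n ∈ N, ((n.2 : S) : Ω) ∈ B) (n : N) :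
    (((pairHom N α β hα hβ hA hB n).2 : S) : Ω) = β ⟨((n : S × S).2 : S), hB n.1 n.2⟩ := rfl

theorem pairHom_injective (N : Subgroup (S × S)) {A B : Subgroup Ω} (α : A →* Ω) (β : B →* Ω)
    (hα : ∀ a : A, α a ∈ S) (hβ : ∀ b : B, β b ∈ S)
    (hA : ∀ n ∈ N, ((n.1 : S) : Ω) ∈ A) (hB : ∀ n ∈ N, ((n.2 : S) : Ω) ∈ B)
    (hαi : Function.Injective α) (hβi : Function.Injective β) :
    Function.Injective (pairHom N α β hα hβ hA hB) := by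
  intro n n' h
  have h1 : α ⟨((n : S × S).1 : S), hA n.1 n.2⟩ = α ⟨((n' : S × S).1 : S), hA n'.1 n'.2⟩ := by
    rw [← pairHom_fst N α β hα hβ hA hB, ← pairHom_fst N α β hα hβ hA hB, h]
  have h2 : β ⟨((n : S × S).2 : S), hB n.1 n.2⟩ = β ⟨((n' : S × S).2 : S), hB n'.1 n'.2⟩ := by
    rw [← pairHom_snd N α β hα hβ hA hB, ← pairHom_snd N α β hα hβ hA hB, h]
  have h1' := congrArg Subtype.val (hαi h1)
  have h2' := congrArg Subtype.val (hβi h2)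
  simp only at h1' h2'
  apply Subtype.ext
  apply Prod.ext
  · exact Subtype.ext h1'
  · exact Subtype.ext h2'

theorem pairHom_map_mem (F : FusionSystem S) (N : Subgroup (S × S)) {A B : Subgroup Ω}
    {α : A →* Ω} {β : B →* Ω} (hαF : α ∈ F.Hom A) (hβF : β ∈ F.Hom B)
    (hA : ∀ n ∈ N, ((n.1 : S) : Ω) ∈ A) (hB : ∀ n ∈ N, ((n.2 : S) : Ω) ∈ B) (L : Subgroup N)
    (hL : L.map N.subtype ∈ graphs F) :
    L.map (pairHom N α β (F.le_of_mem hαF).2 (F.le_of_mem hβF).2 hA hB) ∈ graphs F := by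
  have hGα := gr_mem_graphs F hαF (F.le_of_mem hαF).1 (F.le_of_mem hαF).2
  have hGβ := gr_mem_graphs F hβF (F.le_of_mem hβF).1 (F.le_of_mem hβF).2
  refine graphs_le F (graphs_comp F (graphs_comp F (graphs_inv F hGα) hL) hGβ) ?_
  rintro _ ⟨n, hn, rfl⟩
  rw [mem_rcomp]
  refine ⟨(n : S × S).2, ?_, ?_⟩
  · rw [mem_rcomp]
    refine ⟨(n : S × S).1, ?_, ?_⟩
    · rw [mem_rinv, mem_gr]
      exact ⟨⟨_, hA n.1 n.2⟩, rfl, rfl⟩
    · exact ⟨n, hn, rfl⟩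
  · rw [mem_gr]
    exact ⟨⟨_, hB n.1 n.2⟩, rfl, rfl⟩

theorem pairHom_map_mem' (F : FusionSystem S) (N : Subgroup (S × S)) {A B : Subgroup Ω}
    {α : A →* Ω} {β : B →* Ω} (hαF : α ∈ F.Hom A) (hβF : β ∈ F.Hom B)
    (hA : ∀ n ∈ N, ((n.1 : S) : Ω) ∈ A) (hB : ∀ n ∈ N, ((n.2 : S) : Ω) ∈ B) (L : Subgroup N)
    (hL : L.map (pairHom N α β (F.le_of_mem hαF).2 (F.le_of_mem hβF).2 hA hB) ∈ graphs F) :
    L.map N.subtype ∈ graphs F := by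
  have hGα := gr_mem_graphs F hαF (F.le_of_mem hαF).1 (F.le_of_mem hαF).2
  have hGβ := gr_mem_graphs F hβF (F.le_of_mem hβF).1 (F.le_of_mem hβF).2
  refine graphs_le F (graphs_comp F (graphs_comp F hGα hL) (graphs_inv F hGβ)) ?_
  rintro _ ⟨n, hn, rfl⟩
  rw [mem_rcomp]
  refine ⟨(pairHom N α β (F.le_of_mem hαF).2 (F.le_of_mem hβF).2 hA hB n).2, ?_, ?_⟩
  · rw [mem_rcomp]
    refine ⟨(pairHom N α β (F.le_of_mem hαF).2 (F.le_of_mem hβF).2 hA hB n).1, ?_, ?_⟩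
    · rw [mem_gr]
      exact ⟨⟨_, hA n.1 n.2⟩, rfl, rfl⟩
    · exact ⟨n, hn, rfl⟩
  · rw [mem_rinv, mem_gr]
    exact ⟨⟨_, hB n.1 n.2⟩, rfl, rfl⟩

theorem pairHom_isConj_dom (F : FusionSystem S) (N : Subgroup (S × S)) {A B : Subgroup Ω}
    {α : A →* Ω} {β : B →* Ω} (hαF : α ∈ F.Hom A) (hβF : β ∈ F.Hom B)
    (hA : ∀ n ∈ N, ((n.1 : S) : Ω) ∈ A) (hB : ∀ n ∈ N, ((n.2 : S) : Ω) ∈ B) (L : Subgroup N) :
    F.IsConj (dom (L.map N.subtype))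
      (dom (L.map (pairHom N α β (F.le_of_mem hαF).2 (F.le_of_mem hβF).2 hA hB))) := by
  have hle : dom (L.map N.subtype) ≤ A := by
    intro a ha
    obtain ⟨_, ⟨n, _, rfl⟩, rfl⟩ := mem_dom.mp ha
    exact hA n.1 n.2
  refine ⟨α.comp (Subgroup.inclusion hle), fs_restrict_mem F hαF hle, ?_⟩
  ext y
  rw [mem_dom]
  constructor
  · rintro ⟨⟨a, ha⟩, rfl⟩
    obtain ⟨_, ⟨n, hn, rfl⟩, h⟩ := mem_dom.mp ha
    refine ⟨_, Subgroup.mem_map_of_mem _ hn, ?_⟩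
    rw [pairHom_fst]
    simp only [MonoidHom.coe_comp, Function.comp_apply]
    congr 1
    apply Subtype.ext
    exact h
  · rintro ⟨_, ⟨n, hn, rfl⟩, rfl⟩
    refine ⟨⟨(((n : S × S).1 : S) : Ω), mem_dom.mpr ⟨_, Subgroup.mem_map_of_mem _ hn, rfl⟩⟩, ?_⟩
    rw [pairHom_fst]
    rfl

end Cfsg.Agent.Lib.Helper8.CB
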