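import Mathlib
import Cfsg.Agent.Lib.Helper8.CB5

set_option autoImplicit false

/-!
# The fusion relation of a saturated fusion system satisfies the saturation axiom of `FusRel`
-/

namespace Cfsg.Agent.Lib.Helper8.CB

universe u

open MulAction
open Cfsg Cfsg.FusionSystem
open Cfsg.Agent.Lib.Helper9
open Cfsg.Agent.Lib.Helper8.BM

variable {Ω : Type u} [Group Ω] {S : Subgroup Ω}

/-- Two graphs are related when their domains are conjugate in the system. -/
def frel (F : FusionSystem S) (K K' : Subgroup (S × S)) : Prop :=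
  K ∈ graphs F ∧ K' ∈ graphs F ∧ F.IsConj (dom K) (dom K')

/-- The diagonal of a subgroup `P ≤ S`. -/
def diag {P : Subgroup Ω} (hP : P ≤ S) : Subgroup (S × S) :=
  gr hP (φ := P.subtype) (fun x => hP x.2)

theorem diag_mem_graphs (F : FusionSystem S) {P : Subgroup Ω} (hP : P ≤ S) : diag hP ∈ graphs F :=
  gr_mem_graphs F (fs_subtype_mem F hP) hP _

theorem dom_diag {P : Subgroup Ω} (hP : P ≤ S) : dom (diag hP) = P := dom_gr hP _

theorem mem_diag {P : Subgroup Ω} (hP : P ≤ S) (k : S × S) :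
    k ∈ diag hP ↔ ((k.1 : S) : Ω) ∈ P ∧ k.1 = k.2 := by
  unfold diag
  rw [mem_gr]
  constructor
  · rintro ⟨x, h1, h2⟩
    refine ⟨h1 ▸ x.2, Subtype.ext ?_⟩
    rw [← h1, ← h2]; rfl
  · rintro ⟨h1, h2⟩
    exact ⟨⟨_, h1⟩, rfl, by rw [← h2]; rfl⟩

theorem frel_sat [Finite S] (p : ℕ) [Fact p.Prime] (hS : IsPGroup p S) (F : FusionSystem S)
    (hF : F.IsSaturated p) (K : Subgroup (S × S)) (hK : K ∈ graphs F) :
    ∃ K₀, frel F K K₀ ∧ ∀ K', frel F K₀ K' →
    ∃ Ψ : ↥(Subgroup.normalizer (K' : Set (S × S))) →* S × S, Function.Injective Ψ ∧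
      (K'.subgroupOf (Subgroup.normalizer (K' : Set (S × S)))).map Ψ = K₀ ∧
      ∀ L : Subgroup ↥(Subgroup.normalizer (K' : Set (S × S))),
        K'.subgroupOf (Subgroup.normalizer (K' : Set (S × S))) ≤ L →
        ((L.map (Subgroup.normalizer (K' : Set (S × S))).subtype ∈ graphs F ↔ L.map Ψ ∈ graphs F) ∧
          (L.map (Subgroup.normalizer (K' : Set (S × S))).subtype ∈ graphs F →
            frel F (L.map (Subgroup.normalizer (K' : Set (S × S))).subtype) (L.map Ψ))) := by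
  obtain ⟨P₀, hPP₀, hP₀a, hP₀r⟩ := hF (dom K) (dom_le K)
  have hP₀S : P₀ ≤ S := hP₀a.1
  refine ⟨diag hP₀S, ⟨hK, diag_mem_graphs F hP₀S, by rw [dom_diag]; exact hPP₀⟩, ?_⟩
  rintro K' ⟨_, hK', hconj⟩
  rw [dom_diag] at hconj
  obtain ⟨P', φ', hφ', rfl⟩ := hK'
  rw [dom_gr] at hconj
  have hP'S : P' ≤ S := (F.le_of_mem hφ').1
  have hφ'S : ∀ x : P', φ' x ∈ S := (F.le_of_mem hφ').2
  set Q' : Subgroup Ω := φ'.range with hQ'
  have hQ'S : Q' ≤ S := fs_range_le F hφ'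
  have hQ'P₀ : F.IsConj Q' P₀ :=
    fs_isConj_trans F (fs_isConj_symm F ⟨φ', hφ', rfl⟩) (fs_isConj_symm F hconj)
  obtain ⟨χ, hχF, hχN, hχQ⟩ := fs_exists_normalizer_map p hS F P₀ Q' hP₀a hP₀r hQ'P₀
  have hχS : ∀ x, χ x ∈ S := (F.le_of_mem hχF).2
  -- the composite `ψ₁ = χ ∘ φ'`
  have hφ'N : ∀ x : P', φ' x ∈ normalizerIn S Q' := by
    intro x
    refine ⟨hφ'S x, Subgroup.le_normalizer ?_⟩
    exact ⟨x, rfl⟩
  have hψ₁F := F.comp_mem hφ' hχF hφ'N
  set ψ₁ : P' →* Ω := χ.comp (φ'.codRestrict (normalizerIn S Q') hφ'N) with hψ₁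
  have hψ₁range : ψ₁.range = P₀ := by
    rw [← hχQ]
    ext y
    constructor
    · rintro ⟨x, rfl⟩
      refine ⟨φ'.codRestrict (normalizerIn S Q') hφ'N x, ?_, rfl⟩
      rw [SetLike.mem_coe, Subgroup.mem_subgroupOf]
      exact ⟨x, rfl⟩
    · rintro ⟨q, hq, rfl⟩
      rw [SetLike.mem_coe, Subgroup.mem_subgroupOf] at hq
      obtain ⟨x, hx⟩ := hq
      refine ⟨x, ?_⟩
      rw [hψ₁]
      simp only [MonoidHom.coe_comp, Function.comp_apply]
      congr 1
      exact Subtype.ext hx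
  obtain ⟨ψt, hψtF, hψt⟩ := hP₀r.2 P' ψ₁ hψ₁F hψ₁range
  have hψtS : ∀ x, ψt x ∈ S := (F.le_of_mem hψtF).2
  -- the two coordinates of the normalizer
  have hA : ∀ n ∈ Subgroup.normalizer (gr hP'S hφ'S : Set (S × S)),
      ((n.1 : S) : Ω) ∈ extender S P' ψ₁ := by
    intro n hn
    have hnB : ((n.2 : S) : Ω) ∈ normalizerIn S Q' :=
      ⟨n.2.2, normalizer_gr_snd hP'S hφ'S n hn⟩
    rw [mem_extender_iff]
    refine ⟨n.1.2, normalizer_gr_fst hP'S hφ'S n hn, χ ⟨_, hnB⟩, hχS _, ?_⟩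
    intro x hx
    obtain ⟨hx', hx2⟩ := normalizer_gr_apply hP'S hφ'S n hn x
    rw [hψ₁]
    simp only [MonoidHom.coe_comp, Function.comp_apply]
    have e : (φ'.codRestrict (normalizerIn S Q') hφ'N) ⟨((n.1 : S) : Ω) * x * ((n.1 : S) : Ω)⁻¹, hx⟩ =
        (⟨_, hnB⟩ : normalizerIn S Q') * (φ'.codRestrict (normalizerIn S Q') hφ'N x) *
          (⟨_, hnB⟩ : normalizerIn S Q')⁻¹ := by
      apply Subtype.ext
      simp only [MonoidHom.codRestrict_apply, Subgroup.coe_mul, Subgroup.coe_inv]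
      exact hx2
    rw [e, map_mul, map_mul, map_inv]
  have hB : ∀ n ∈ Subgroup.normalizer (gr hP'S hφ'S : Set (S × S)),
      ((n.2 : S) : Ω) ∈ normalizerIn S Q' :=
    fun n hn => ⟨n.2.2, normalizer_gr_snd hP'S hφ'S n hn⟩
  set N := Subgroup.normalizer (gr hP'S hφ'S : Set (S × S)) with hN
  refine ⟨pairHom N ψt χ hψtS hχS hA hB,
    pairHom_injective N ψt χ hψtS hχS hA hB (F.injective_of_mem hψtF) (F.injective_of_mem hχF),
    ?_, ?_⟩
  · -- the image of `K'`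
    ext k
    rw [mem_diag]
    constructor
    · rintro ⟨n, hn, rfl⟩
      rw [SetLike.mem_coe, Subgroup.mem_subgroupOf] at hn
      obtain ⟨x, hx1, hx2⟩ := (mem_gr _ _ _).mp hn
      have h1 : (((pairHom N ψt χ hψtS hχS hA hB n).1 : S) : Ω) = ψ₁ x := by
        rw [pairHom_fst]
        have := hψt (x : Ω) x.2 (by rw [hx1]; exact hA n.1 n.2)
        rw [← this]
        congr 1
        exact Subtype.ext hx1.symm
      have h2 : (((pairHom N ψt χ hψtS hχS hA hB n).2 : S) : Ω) = ψ₁ x := by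
        rw [pairHom_snd, hψ₁]
        simp only [MonoidHom.coe_comp, Function.comp_apply]
        congr 1
        exact Subtype.ext hx2.symm
      refine ⟨?_, Subtype.ext (h1.trans h2.symm)⟩
      rw [h1, ← hψ₁range]
      exact ⟨x, rfl⟩
    · rintro ⟨h1, h2⟩
      rw [← hψ₁range] at h1
      obtain ⟨x, hx⟩ := h1
      have hkmem : ((⟨x, hP'S x.2⟩ : S), (⟨φ' x, hφ'S x⟩ : S)) ∈ gr hP'S hφ'S :=
        (mem_gr _ _ _).mpr ⟨x, rfl, rfl⟩
      have hkN : ((⟨x, hP'S x.2⟩ : S), (⟨φ' x, hφ'S x⟩ : S)) ∈ N := Subgroup.le_normalizer hkmem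
      refine ⟨⟨_, hkN⟩, ?_, ?_⟩
      · rw [SetLike.mem_coe, Subgroup.mem_subgroupOf]
        exact hkmem
      · have e1 : (((pairHom N ψt χ hψtS hχS hA hB ⟨_, hkN⟩).1 : S) : Ω) = ψ₁ x := by
          rw [pairHom_fst]
          exact hψt (x : Ω) x.2 (hA _ hkN)
        have e2 : (((pairHom N ψt χ hψtS hχS hA hB ⟨_, hkN⟩).2 : S) : Ω) = ψ₁ x := by
          rw [pairHom_snd, hψ₁]
          rfl
        apply Prod.ext
        · apply Subtype.ext
          rw [e1, hx]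
        · apply Subtype.ext
          rw [e2, hx, h2]
  · intro L _
    have hrel : L.map N.subtype ∈ graphs F → L.map (pairHom N ψt χ hψtS hχS hA hB) ∈ graphs F :=
      pairHom_map_mem F N hψtF hχF hA hB L
    refine ⟨⟨hrel, pairHom_map_mem' F N hψtF hχF hA hB L⟩, fun h => ⟨h, hrel h, ?_⟩⟩
    exact pairHom_isConj_dom F N hψtF hχF hA hB L

/-- The fusion relation of a saturated fusion system. -/
def fusRel [Finite S] (p : ℕ) [Fact p.Prime] (hS : IsPGroup p S) (F : FusionSystem S)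
    (hF : F.IsSaturated p) : FusRel (S × S) where
  T := graphs F
  conj_mem := fun hK g => (relFus F).map_conj_mem hK g
  le_mem := graphs_le F
  rel := frel F
  rel_refl := fun {K} hK => ⟨hK, hK, fs_isConj_refl F (dom_le K)⟩
  rel_symm := fun h => ⟨h.2.1, h.1, fs_isConj_symm F h.2.2⟩
  rel_trans := fun h h' => ⟨h.1, h'.2.1, fs_isConj_trans F h.2.2 h'.2.2⟩
  rel_mem := fun h => h.1
  rel_card := fun h => by
    rw [card_eq_card_dom F h.1, card_eq_card_dom F h.2.1]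
    exact isConj_card_eq F h.2.2
  rel_conj := fun {K} hK g => ⟨hK, (relFus F).map_conj_mem hK g, dom_map_conj F K g⟩
  sat := frel_sat p hS F hF

end Cfsg.Agent.Lib.Helper8.CB
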