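import Mathlib
import Cfsg.Agent.Lib.Helper8.CB6

set_option autoImplicit false

/-!
# The top level of the fusion relation: graphs of the automorphisms of `S`
-/

namespace Cfsg.Agent.Lib.Helper8.CB

universe u

open MulAction
open Cfsg Cfsg.FusionSystem
open Cfsg.Agent.Lib.Helper9
open Cfsg.Agent.Lib.Helper8.BM

/-- The normalizer of the graph of an automorphism of `G` in `G × G`. -/
theorem card_normalizer_of_top {G : Type u} [Group G] [Finite G] (K : Subgroup (G × G))
    (hfun : ∀ a b b', (a, b) ∈ K → (a, b') ∈ K → b = b')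
    (hfst : ∀ a : G, ∃ b, (a, b) ∈ K) (hsnd : ∀ b : G, ∃ a, (a, b) ∈ K) :
    Nat.card (Subgroup.normalizer (K : Set (G × G))) = Nat.card K * Nat.card (Subgroup.center G) := by
  have hcen : ∀ z : Subgroup.center G, ((1, (z : G)) : G × G) ∈
      Subgroup.normalizer (K : Set (G × G)) := by
    intro z
    rw [Subgroup.mem_normalizer_iff]
    intro h
    have : ((1, (z : G)) : G × G) * h * ((1, (z : G)) : G × G)⁻¹ = h := by
      apply Prod.ext
      · simp
      · simp only [Prod.snd_mul, Prod.snd_inv]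
        have := Subgroup.mem_center_iff.mp z.2 h.2
        rw [← this]; group
    rw [this]
  let f : K × Subgroup.center G → Subgroup.normalizer (K : Set (G × G)) := fun kz =>
    ⟨(kz.1 : G × G) * (1, (kz.2 : G)),
      Subgroup.mul_mem _ (Subgroup.le_normalizer kz.1.2) (hcen kz.2)⟩
  have hinj : Function.Injective f := by
    rintro ⟨⟨⟨a, b⟩, hk⟩, ⟨z, hz⟩⟩ ⟨⟨⟨a', b'⟩, hk'⟩, ⟨z', hz'⟩⟩ h
    have h' := congrArg Subtype.val h
    simp only [f, Prod.mk_mul_mk, mul_one, Prod.mk.injEq] at h'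
    obtain ⟨rfl, h2⟩ := h'
    have := hfun _ _ _ hk hk'
    subst this
    have := mul_left_cancel h2
    subst this
    rfl
  have hsurj : Function.Surjective f := by
    rintro ⟨⟨a, b⟩, hn⟩
    obtain ⟨b₀, hb₀⟩ := hfst a
    have hn' : ((1, b₀⁻¹ * b) : G × G) ∈ Subgroup.normalizer (K : Set (G × G)) := by
      have : ((1, b₀⁻¹ * b) : G × G) = ((a, b₀) : G × G)⁻¹ * (a, b) := by simp
      rw [this]
      exact Subgroup.mul_mem _ (Subgroup.inv_mem _ (Subgroup.le_normalizer hb₀)) hn
    have hz : b₀⁻¹ * b ∈ Subgroup.center G := by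
      rw [Subgroup.mem_center_iff]
      intro y
      obtain ⟨x, hx⟩ := hsnd y
      have h1 := (Subgroup.mem_normalizer_iff.mp hn' _).mp hx
      have h2 : ((1, b₀⁻¹ * b) : G × G) * (x, y) * ((1, b₀⁻¹ * b) : G × G)⁻¹ =
          (x, b₀⁻¹ * b * y * (b₀⁻¹ * b)⁻¹) := by simp
      rw [h2] at h1
      have h3 := hfun _ _ _ hx h1
      calc y * (b₀⁻¹ * b) = (b₀⁻¹ * b * y * (b₀⁻¹ * b)⁻¹) * (b₀⁻¹ * b) := by rw [← h3]
        _ = b₀⁻¹ * b * y := by group
    refine ⟨(⟨(a, b₀), hb₀⟩, ⟨b₀⁻¹ * b, hz⟩), ?_⟩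
    apply Subtype.ext
    simp [f]
  rw [← Nat.card_congr (Equiv.ofBijective f ⟨hinj, hsurj⟩), Nat.card_prod]

theorem nk_of_top {G : Type u} [Group G] [Finite G] (K : Subgroup (G × G))
    (hfun : ∀ a b b', (a, b) ∈ K → (a, b') ∈ K → b = b')
    (hfst : ∀ a : G, ∃ b, (a, b) ∈ K) (hsnd : ∀ b : G, ∃ a, (a, b) ∈ K) :
    nk K = Nat.card (Subgroup.center G) := by
  have h1 := nk_mul_card K
  rw [card_normalizer_of_top K hfun hfst hsnd, mul_comm] at h1
  exact Nat.eq_of_mul_eq_mul_left Nat.card_pos h1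

/-- The cardinality of `OrbSet m`. -/
theorem card_orbSet {H : Type u} [Group H] [Finite H] (m : Subgroup H → ℕ) :
    letI : Fintype (Subgroup H) := Fintype.ofFinite _
    Nat.card (OrbSet m) = ∑ K : Subgroup H, m K * K.index := by
  letI : Fintype (Subgroup H) := Fintype.ofFinite _
  rw [Nat.card_sigma, Fintype.sum_sigma]
  apply Finset.sum_congr rfl
  intro K _
  change ∑ _y : Fin (m K), Nat.card (H ⧸ K) = _
  rw [Finset.sum_const, Finset.card_univ, Fintype.card_fin, smul_eq_mul]
  rfl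

/-- Counting the points of an `H`-set by their stabilizers, when the stabilizers form an
antichain. -/
theorem card_eq_sum_fixedPoints {H : Type u} [Group H] [Finite H] {X : Type*} [Finite X]
    [MulAction H X] (PP : Set (Subgroup H)) (h1 : ∀ x : X, stabilizer H x ∈ PP)
    (h2 : ∀ K ∈ PP, ∀ x : X, K ≤ stabilizer H x → K = stabilizer H x) (ζ : ℕ)
    (h3 : ∀ K ∈ PP, Nat.card (fixedPoints K X) = ζ) :
    Nat.card X = Nat.card PP * ζ := by
  classical
  letI : Fintype (Subgroup H) := Fintype.ofFinite _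
  letI : Fintype PP := Fintype.ofFinite _
  let f : X → PP := fun x => ⟨stabilizer H x, h1 x⟩
  rw [← Nat.card_congr (Equiv.sigmaFiberEquiv f), Nat.card_sigma]
  have : ∀ K : PP, Nat.card {x // f x = K} = ζ := by
    intro K
    rw [← h3 K.1 K.2]
    apply Nat.card_congr
    refine Equiv.subtypeEquivRight ?_
    intro x
    constructor
    · intro hx k
      have : stabilizer H x = K.1 := congrArg Subtype.val hx
      have hk : (k : H) ∈ stabilizer H x := by rw [this]; exact k.2
      exact hk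
    · intro hx
      apply Subtype.ext
      symm
      apply h2 K.1 K.2 x
      intro k hk
      exact hx ⟨k, hk⟩
  simp only [this, Finset.sum_const, Finset.card_univ, smul_eq_mul]
  rw [Nat.card_eq_fintype_card]

variable {Ω : Type u} [Group Ω] {S : Subgroup Ω}

/-- The graphs of full order. -/
def top (F : FusionSystem S) : Set (Subgroup (S × S)) :=
  {K | K ∈ graphs F ∧ Nat.card K = Nat.card S}

theorem card_le_of_mem_graphs [Finite S] (F : FusionSystem S) {K : Subgroup (S × S)}
    (hK : K ∈ graphs F) : Nat.card K ≤ Nat.card S := by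
  rw [card_eq_card_dom F hK]
  exact Subgroup.card_le_of_le (dom_le K)

theorem top_map_conj [Finite S] (F : FusionSystem S) {K : Subgroup (S × S)} (hK : K ∈ top F)
    (g : S × S) : K.map (MulAut.conj g).toMonoidHom ∈ top F :=
  ⟨(relFus F).map_conj_mem hK.1 g, by
    rw [Subgroup.card_map_of_injective (MulAut.conj g).injective]; exact hK.2⟩

theorem top_fst [Finite S] (F : FusionSystem S) {K : Subgroup (S × S)} (hK : K ∈ top F) (a : S) :
    ∃ b, (a, b) ∈ K := by
  obtain ⟨⟨P, φ, hφ, rfl⟩, hc⟩ := hK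
  rw [card_gr] at hc
  have hPS : P = S := Subgroup.eq_of_le_of_card_ge (F.le_of_mem hφ).1 hc.ge
  have ha : (a : Ω) ∈ P := by rw [hPS]; exact a.2
  exact ⟨⟨φ ⟨a, ha⟩, (F.le_of_mem hφ).2 _⟩, (mem_gr _ _ _).mpr ⟨⟨a, ha⟩, rfl, rfl⟩⟩

theorem top_snd [Finite S] (F : FusionSystem S) {K : Subgroup (S × S)} (hK : K ∈ top F) (b : S) :
    ∃ a, (a, b) ∈ K := by
  have hK' : rinv K ∈ top F := by
    refine ⟨graphs_inv F hK.1, ?_⟩
    rw [← hK.2]
    apply Nat.card_congr
    exact
      { toFun := fun k => ⟨(k.1.2, k.1.1), k.2⟩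
        invFun := fun k => ⟨(k.1.2, k.1.1), k.2⟩
        left_inv := fun k => rfl
        right_inv := fun k => rfl }
  obtain ⟨a, ha⟩ := top_fst F hK' b
  exact ⟨a, ha⟩

theorem nk_top [Finite S] (F : FusionSystem S) {K : Subgroup (S × S)} (hK : K ∈ top F) :
    nk K = Nat.card (Subgroup.center S) :=
  nk_of_top K (graphs_functional F hK.1) (top_fst F hK) (top_snd F hK)

open Classical in
/-- The multiplicities of the top level: one orbit for each conjugacy class of graphs of
automorphisms of `S`. -/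
noncomputable def m₀ (F : FusionSystem S) (K : Subgroup (S × S)) : ℕ :=
  if K ∈ top F ∧ crep K = K then 1 else 0

theorem m₀_ne_zero (F : FusionSystem S) {K : Subgroup (S × S)} (h : m₀ F K ≠ 0) :
    K ∈ top F ∧ crep K = K := by
  by_contra hc
  apply h
  simp only [m₀, if_neg hc]

open Classical in
theorem marks_m₀ [Finite S] (F : FusionSystem S) {K : Subgroup (S × S)} (hK : K ∈ top F) :
    marks (m₀ F) K = Nat.card (Subgroup.center S) := by
  letI : Fintype (Subgroup (S × S)) := Fintype.ofFinite _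
  rw [marks_eq_sum]
  obtain ⟨g₀, hg₀⟩ := crep_conj K
  have hcK : crep K ∈ top F := by rw [hg₀]; exact top_map_conj F hK g₀
  rw [Finset.sum_eq_single (crep K)]
  · have h1 : m₀ F (crep K) = 1 := by
      simp only [m₀]
      rw [if_pos ⟨hcK, crep_crep K⟩]
    have h2 : fx (crep K) K = nk K := by rw [hg₀]; exact fx_conj K g₀
    rw [h1, h2, one_mul, nk_top F hK]
  · intro K' _ hne
    by_contra hne0
    have hm : m₀ F K' ≠ 0 := fun h => hne0 (by rw [h, zero_mul])
    have hf : fx K' K ≠ 0 := fun h => hne0 (by rw [h, mul_zero])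
    obtain ⟨hK', hcr⟩ := m₀_ne_zero F hm
    obtain ⟨g, hg⟩ := fx_ne_zero hf
    have : K.map (MulAut.conj g⁻¹).toMonoidHom = K' := by
      apply Subgroup.eq_of_le_of_card_ge hg
      rw [Subgroup.card_map_of_injective (MulAut.conj g⁻¹).injective, hK.2, hK'.2]
    apply hne
    rw [← hcr, ← this, crep_map_conj]
  · intro h
    exact absurd (Finset.mem_univ _) h

end Cfsg.Agent.Lib.Helper8.CB
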