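import Mathlib
import Cfsg.Agent.Lib.Helper8.CB7
import Cfsg.Agent.Lib.Helper9.FusionSat1

set_option autoImplicit false

/-!
# Counting the top level, and the existence of a characteristic biset
-/

namespace Cfsg.Agent.Lib.Helper8.CB

universe u

open MulAction
open Cfsg Cfsg.FusionSystem
open Cfsg.Agent.Lib.Helper9
open Cfsg.Agent.Lib.Helper8.BM

variable {Ω : Type u} [Group Ω] {S : Subgroup Ω}

theorem gr_congr {P : Subgroup Ω} (hP hP' : P ≤ S) {φ φ' : P →* Ω} (hφ : ∀ x : P, φ x ∈ S)
    (hφ' : ∀ x : P, φ' x ∈ S) (h : φ = φ') : gr hP hφ = gr hP' hφ' := by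
  subst h
  rfl

open Classical in
/-- The number of conjugacy classes of top-level graphs. -/
noncomputable def ctop (F : FusionSystem S) [Finite S] : ℕ :=
  letI : Fintype (Subgroup (S × S)) := Fintype.ofFinite _
  ∑ K : Subgroup (S × S), m₀ F K

theorem index_of_top [Finite S] (F : FusionSystem S) {K : Subgroup (S × S)} (hK : K ∈ top F) :
    K.index = Nat.card S := by
  have h1 := Subgroup.card_mul_index K
  rw [hK.2, Nat.card_prod] at h1
  exact Nat.eq_of_mul_eq_mul_left Nat.card_pos h1

open Classical in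
theorem card_orbSet_m₀ [Finite S] (F : FusionSystem S) :
    Nat.card (OrbSet (m₀ F)) = ctop F * Nat.card S := by
  letI : Fintype (Subgroup (S × S)) := Fintype.ofFinite _
  rw [card_orbSet, ctop, Finset.sum_mul]
  apply Finset.sum_congr rfl
  intro K _
  by_cases h : m₀ F K = 0
  · rw [h, zero_mul, zero_mul]
  · rw [index_of_top F (m₀_ne_zero F h).1]

theorem card_orbSet_m₀' [Finite S] (F : FusionSystem S) :
    Nat.card (OrbSet (m₀ F)) = Nat.card (top F) * Nat.card (Subgroup.center S) := by
  apply card_eq_sum_fixedPoints (top F)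
  · intro x
    obtain ⟨K, g, hK, he⟩ := orbSet_stabilizer (m₀ F) x
    rw [he]
    exact top_map_conj F (m₀_ne_zero F hK).1 g
  · intro K hK x hle
    obtain ⟨K', g, hK', he⟩ := orbSet_stabilizer (m₀ F) x
    have hst : stabilizer (S × S) x ∈ top F := by
      rw [he]; exact top_map_conj F (m₀_ne_zero F hK').1 g
    apply Subgroup.eq_of_le_of_card_ge hle
    rw [hK.2, hst.2]
  · intro K hK
    exact marks_m₀ F hK

theorem card_top [Finite S] (F : FusionSystem S) : Nat.card (top F) = Nat.card (F.autGroup S) := by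
  symm
  have hmem : ∀ α : F.autGroup S,
      gr (le_refl S) (φ := S.subtype.comp (α : MulAut S).toMonoidHom)
        (fun x => ((α : MulAut S) x).2) ∈ top F := by
    intro α
    refine ⟨gr_mem_graphs F ((mem_autGroup_iff F le_rfl _).mp α.2) _ _, ?_⟩
    exact card_gr _ _
  apply Nat.card_congr
  refine Equiv.ofBijective (fun α => ⟨_, hmem α⟩) ⟨?_, ?_⟩
  · intro α β h
    have h' := congrArg Subtype.val h
    simp only at h'
    obtain ⟨_, hx⟩ := gr_eq_imp _ _ _ _ h'
    apply Subtype.ext
    ext x
    exact hx x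
  · rintro ⟨K, ⟨P, φ, hφ, rfl⟩, hc⟩
    rw [card_gr] at hc
    have hPS : S = P := (Subgroup.eq_of_le_of_card_ge (F.le_of_mem hφ).1 hc.ge).symm
    subst hPS
    have hφS : ∀ x : S, φ x ∈ S := (F.le_of_mem hφ).2
    have hinj : Function.Injective (φ.codRestrict S hφS) := by
      intro x y hxy
      apply F.injective_of_mem hφ
      exact congrArg Subtype.val hxy
    let α : MulAut S := MulEquiv.ofBijective (φ.codRestrict S hφS)
      ⟨hinj, Finite.surjective_of_injective hinj⟩
    have hα : S.subtype.comp α.toMonoidHom = φ := by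
      ext x
      rfl
    have hαF : α ∈ F.autGroup S := by
      rw [mem_autGroup_iff F le_rfl, hα]
      exact hφ
    refine ⟨⟨α, hαF⟩, ?_⟩
    apply Subtype.ext
    exact gr_congr _ _ _ _ hα

theorem card_centralizerIn_self (S : Subgroup Ω) :
    Nat.card (centralizerIn S S) = Nat.card (Subgroup.center S) := by
  have : (Subgroup.center S).map S.subtype = centralizerIn S S := by
    ext x
    constructor
    · rintro ⟨z, hz, rfl⟩
      refine ⟨z.2, ?_⟩
      show S.subtype z ∈ Subgroup.centralizer (S : Set Ω)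
      rw [Subgroup.mem_centralizer_iff]
      intro y hy
      have := Subgroup.mem_center_iff.mp hz ⟨y, hy⟩
      exact congrArg Subtype.val this
    · rintro ⟨hxS, hxC⟩
      refine ⟨⟨x, hxS⟩, ?_, rfl⟩
      rw [SetLike.mem_coe, Subgroup.mem_center_iff]
      intro y
      apply Subtype.ext
      exact (Subgroup.mem_centralizer_iff.mp hxC) y y.2
  rw [← this, Subgroup.card_map_of_injective S.subtype_injective]

/-- If `S` is fully automized then the number of top-level classes is prime to `p`. -/
theorem ctop_not_dvd [Finite S] (p : ℕ) [Fact p.Prime] (F : FusionSystem S)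
    (hfa : F.IsFullyAutomized p S) : ¬ p ∣ ctop F := by
  obtain ⟨R, hR⟩ := hfa.2
  have h1 : Nat.card (F.autGroup S) = Nat.card R * (R : Subgroup (F.autGroup S)).index :=
    (Subgroup.card_mul_index _).symm
  have h2 : Nat.card R = Nat.card (autInducedBy S S) := by
    rw [hR]
    exact Nat.card_congr (Subgroup.subgroupOfEquivOfLe (autInducedBy_le_autGroup F le_rfl)).toEquiv
  have h3 := fs_card_autInducedBy (S := S) S
  have h4 : normalizerIn S S = S := inf_eq_left.mpr Subgroup.le_normalizer
  rw [h4, card_centralizerIn_self] at h3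
  have h5 : ctop F * Nat.card S = Nat.card (top F) * Nat.card (Subgroup.center S) := by
    rw [← card_orbSet_m₀, card_orbSet_m₀']
  rw [card_top, h1, h2] at h5
  have h6 : ctop F * Nat.card S = (R : Subgroup (F.autGroup S)).index * Nat.card S := by
    rw [h5, ← h3]; ring
  have h7 : ctop F = (R : Subgroup (F.autGroup S)).index :=
    Nat.eq_of_mul_eq_mul_right Nat.card_pos h6
  rw [h7]
  exact R.not_dvd_index


theorem index_of_not_top [Finite S] (p : ℕ) [Fact p.Prime] (hS : IsPGroup p S) (F : FusionSystem S)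
    {K : Subgroup (S × S)} (hK : K ∈ graphs F) (hKt : K ∉ top F) :
    ∃ r, K.index = Nat.card S * (p * r) := by
  have hdvd : Nat.card K ∣ Nat.card S := by
    rw [card_eq_card_dom F hK]
    exact Subgroup.card_dvd_of_le (dom_le K)
  obtain ⟨q, hq⟩ := hdvd
  have hq1 : q ≠ 1 := by
    intro h
    apply hKt
    refine ⟨hK, ?_⟩
    rw [hq, h, mul_one]
  obtain ⟨n, hn⟩ := IsPGroup.iff_card.mp hS
  have hqdvd : q ∣ p ^ n := by
    rw [← hn, hq]
    exact Dvd.intro_left _ rfl
  obtain ⟨i, _, hi⟩ := (Nat.dvd_prime_pow Fact.out).mp hqdvd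
  have hi0 : i ≠ 0 := by
    intro h
    rw [h, pow_zero] at hi
    exact hq1 hi
  obtain ⟨i', rfl⟩ := Nat.exists_eq_succ_of_ne_zero hi0
  refine ⟨p ^ i', ?_⟩
  have h1 := Subgroup.card_mul_index K
  rw [Nat.card_prod] at h1
  have hKpos : 0 < Nat.card K := Nat.card_pos
  have h2 : Nat.card K * K.index = Nat.card K * (Nat.card S * (p * p ^ i')) := by
    calc Nat.card K * K.index = Nat.card S * Nat.card S := h1
      _ = (Nat.card K * q) * Nat.card S := by rw [← hq]
      _ = Nat.card K * (Nat.card S * (p * p ^ i')) := by rw [hi, pow_succ]; ring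
  exact Nat.eq_of_mul_eq_mul_left hKpos h2

/-- **Existence of a characteristic biset** (Broto–Levi–Oliver) for a saturated fusion system, as
an `S × S`-set: all point stabilizers are graphs of maps of the system, the numbers of fixed
points of graphs depend only on the conjugacy class of the domain in the system, and the number of
points is `k · |S|` with `k` prime to `p`. -/
theorem exists_char_biset [Finite S] (p : ℕ) [Fact p.Prime] (hS : IsPGroup p S) (F : FusionSystem S)
    (hF : F.IsSaturated p) :
    ∃ (X : Type u) (_ : Finite X) (_ : MulAction (S × S) X),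
      (∀ x : X, stabilizer (S × S) x ∈ graphs F) ∧
      (∀ K K', frel F K K' → Nat.card (fixedPoints K X) = Nat.card (fixedPoints K' X)) ∧
      ∃ k, Nat.card X = k * Nat.card S ∧ ¬ p ∣ k := by
  classical
  letI : Fintype (Subgroup (S × S)) := Fintype.ofFinite _
  -- `S` is fully automized
  have hfa : F.IsFullyAutomized p S := by
    obtain ⟨Q, hSQ, hQa, _⟩ := hF S le_rfl
    have hQS : Q = S := by
      apply Subgroup.eq_of_le_of_card_ge hQa.1
      rw [isConj_card_eq F hSQ]
    rw [hQS] at hQa
    exact hQa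
  have hζ : ∀ K ∈ top F, marks (m₀ F) K = Nat.card (Subgroup.center S) := fun K hK => marks_m₀ F hK
  have hrelTop : ∀ K K', K ∈ top F → frel F K K' → K' ∈ top F := by
    intro K K' hK h
    refine ⟨h.2.1, ?_⟩
    rw [← (fusRel p hS F hF).rel_card h]
    exact hK.2
  obtain ⟨m, hsupp, hm₀, hst⟩ := exists_stable_orbSet (fusRel p hS F hF)
    ((graphs F \ top F).ncard) (m₀ F) (top F)
    (fun K hK => (m₀_ne_zero F hK).1.1) (fun K hK => hK.1) hrelTop
    (fun K hK K' hK' _ => by rw [hK.2]; exact card_le_of_mem_graphs F hK')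
    (fun K K' hK h => by rw [hζ K hK, hζ K' (hrelTop K K' hK h)]) le_rfl
  refine ⟨OrbSet m, inferInstance, inferInstance, ?_, ?_, ?_⟩
  · exact stabilizer_mem_of_supp (fusRel p hS F hF) m hsupp
  · exact hst
  · -- counting
    have hr : ∀ K : Subgroup (S × S), ∃ r, m K * K.index = (m₀ F K + p * r) * Nat.card S := by
      intro K
      by_cases hKt : K ∈ top F
      · refine ⟨0, ?_⟩
        rw [hm₀ K hKt, index_of_top F hKt, mul_zero, add_zero]
      · have h0 : m₀ F K = 0 := by
          by_contra h
          exact hKt (m₀_ne_zero F h).1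
        by_cases hmK : m K = 0
        · refine ⟨0, ?_⟩
          rw [hmK, h0]; simp
        · obtain ⟨r, hr⟩ := index_of_not_top p hS F (hsupp K hmK) hKt
          refine ⟨m K * r, ?_⟩
          rw [hr, h0]; ring
    choose r hr using hr
    refine ⟨ctop F + p * ∑ K : Subgroup (S × S), r K, ?_, ?_⟩
    · rw [card_orbSet, Finset.sum_congr rfl (fun K _ => hr K), ← Finset.sum_mul,
        Finset.sum_add_distrib, ← Finset.mul_sum]
      rfl
    · intro h
      apply ctop_not_dvd p F hfa
      exact (Nat.dvd_add_left (Dvd.intro _ rfl)).mp h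

end Cfsg.Agent.Lib.Helper8.CB
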