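import Mathlib

set_option autoImplicit false

/-!
# The transfer of the centralizer of a free permutation action

A group `R` acts freely on a finite set `X` through `ρ`. The permutations of `X` commuting with the
action form a group (a wreath product `R ≀ Sym`), and every homomorphism `π : R →* A` into a
commutative group induces a "transfer" `tr : commSub ρ →* A`.
-/

namespace Cfsg.Agent.Lib.Helper8.CB

section
variable {R X : Type*} [Group R] (ρ : R →* Equiv.Perm X)

/-- The orbit relation of the action `ρ`. -/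
def orbSetoid : Setoid X where
  r x x' := ∃ r : R, ρ r x = x'
  iseqv :=
    { refl := fun x => ⟨1, by simp⟩
      symm := by
        rintro x x' ⟨r, h⟩
        exact ⟨r⁻¹, by rw [← h]; simp⟩
      trans := by
        rintro x x' x'' ⟨r, h⟩ ⟨r', h'⟩
        exact ⟨r' * r, by rw [map_mul, Equiv.Perm.mul_apply, h, h']⟩ }

/-- The orbit space. -/
abbrev Orb : Type _ := Quotient (orbSetoid ρ)

/-- The permutations commuting with the action. -/
def commSub : Subgroup (Equiv.Perm X) where
  carrier := {g | ∀ (r : R) (x : X), g (ρ r x) = ρ r (g x)}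
  one_mem' := fun _ _ => rfl
  mul_mem' := by
    intro g h hg hh r x
    rw [Equiv.Perm.mul_apply, Equiv.Perm.mul_apply, hh, hg]
  inv_mem' := by
    intro g hg r x
    apply g.injective
    rw [hg]
    simp

theorem mem_commSub {g : Equiv.Perm X} : g ∈ commSub ρ ↔ ∀ (r : R) (x : X), g (ρ r x) = ρ r (g x) :=
  Iff.rfl

/-- The chosen representative of an orbit. -/
noncomputable def sec (y : Orb ρ) : X := Quotient.out y

theorem mk_sec (y : Orb ρ) : (Quotient.mk (orbSetoid ρ) (sec ρ y)) = y := Quotient.out_eq y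

theorem exists_coord (x : X) : ∃ r : R, ρ r (sec ρ (Quotient.mk (orbSetoid ρ) x)) = x := by
  have h : (orbSetoid ρ).r (sec ρ (Quotient.mk (orbSetoid ρ) x)) x :=
    Quotient.exact (mk_sec ρ (Quotient.mk (orbSetoid ρ) x))
  exact h

/-- The coordinate of a point with respect to the chosen representative of its orbit. -/
noncomputable def coord (x : X) : R := Classical.choose (exists_coord ρ x)

theorem coord_spec (x : X) : ρ (coord ρ x) (sec ρ (Quotient.mk (orbSetoid ρ) x)) = x :=
  Classical.choose_spec (exists_coord ρ x)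

variable (hfree : ∀ (r : R) (x : X), ρ r x = x → r = 1)
include hfree

theorem eq_of_apply_eq {r r' : R} {x : X} (h : ρ r x = ρ r' x) : r = r' := by
  have : ρ (r'⁻¹ * r) x = x := by
    rw [map_mul, Equiv.Perm.mul_apply, h, ← Equiv.Perm.mul_apply, ← map_mul, inv_mul_cancel, map_one]
    rfl
  have := hfree _ _ this
  exact (inv_mul_eq_one.mp this).symm

theorem coord_apply (r : R) (x : X) : coord ρ (ρ r x) = r * coord ρ x := by
  have hq : Quotient.mk (orbSetoid ρ) (ρ r x) = Quotient.mk (orbSetoid ρ) x :=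
    Quotient.sound ⟨r⁻¹, by simp⟩
  have h1 := coord_spec ρ (ρ r x)
  rw [hq] at h1
  have h2 : ρ (r * coord ρ x) (sec ρ (Quotient.mk (orbSetoid ρ) x)) = ρ r x := by
    rw [map_mul, Equiv.Perm.mul_apply, coord_spec]
  exact eq_of_apply_eq ρ hfree (h1.trans h2.symm)

theorem coord_sec (y : Orb ρ) : coord ρ (sec ρ y) = 1 := by
  have h1 := coord_spec ρ (sec ρ y)
  rw [mk_sec] at h1
  apply hfree _ (sec ρ y) h1

omit hfree

/-- The permutation of the orbit space induced by a permutation commuting with the action. -/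
def barMap (g : commSub ρ) : Orb ρ → Orb ρ :=
  Quotient.map' (g : Equiv.Perm X) (by
    rintro x x' ⟨r, h⟩
    exact ⟨r, by rw [← h, (mem_commSub ρ).mp g.2]⟩)

theorem barMap_mk (g : commSub ρ) (x : X) :
    barMap ρ g (Quotient.mk (orbSetoid ρ) x) = Quotient.mk (orbSetoid ρ) ((g : Equiv.Perm X) x) := rfl

theorem barMap_mul (g g' : commSub ρ) (y : Orb ρ) : barMap ρ (g' * g) y = barMap ρ g' (barMap ρ g y) := by
  induction y using Quotient.inductionOn with
  | h x => rfl

theorem barMap_one (y : Orb ρ) : barMap ρ 1 y = y := by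
  induction y using Quotient.inductionOn with
  | h x => rfl

theorem barMap_bijective (g : commSub ρ) : Function.Bijective (barMap ρ g) := by
  refine Function.bijective_iff_has_inverse.mpr ⟨barMap ρ g⁻¹, ?_, ?_⟩
  · intro y
    rw [← barMap_mul, inv_mul_cancel, barMap_one]
  · intro y
    rw [← barMap_mul, mul_inv_cancel, barMap_one]

/-- The coordinate of the image of the representative of an orbit. -/
noncomputable def tc (g : commSub ρ) (y : Orb ρ) : R := coord ρ ((g : Equiv.Perm X) (sec ρ y))

theorem apply_sec (g : commSub ρ) (y : Orb ρ) :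
    (g : Equiv.Perm X) (sec ρ y) = ρ (tc ρ g y) (sec ρ (barMap ρ g y)) := by
  have h1 := coord_spec ρ ((g : Equiv.Perm X) (sec ρ y))
  rw [← barMap_mk, mk_sec] at h1
  exact h1.symm

include hfree

theorem tc_mul (g g' : commSub ρ) (y : Orb ρ) :
    tc ρ (g' * g) y = tc ρ g y * tc ρ g' (barMap ρ g y) := by
  have h : ((g' * g : commSub ρ) : Equiv.Perm X) (sec ρ y) =
      ρ (tc ρ g y) ((g' : Equiv.Perm X) (sec ρ (barMap ρ g y))) := by
    rw [Subgroup.coe_mul, Equiv.Perm.mul_apply, apply_sec ρ g y, (mem_commSub ρ).mp g'.2]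
  change coord ρ (((g' * g : commSub ρ) : Equiv.Perm X) (sec ρ y)) =
    tc ρ g y * coord ρ ((g' : Equiv.Perm X) (sec ρ (barMap ρ g y)))
  rw [h, coord_apply ρ hfree]

theorem tc_one (y : Orb ρ) : tc ρ (1 : commSub ρ) y = 1 := by
  unfold tc
  rw [Subgroup.coe_one, Equiv.Perm.one_apply, coord_sec ρ hfree]

end

section
variable {R X : Type*} [Group R] [Finite X] (ρ : R →* Equiv.Perm X)
variable {A : Type*} [CommGroup A] (π : R →* A)

open Classical in
/-- The transfer as a function. -/
noncomputable def trFun (g : commSub ρ) : A :=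
  letI : Fintype (Orb ρ) := Fintype.ofFinite _
  ∏ y : Orb ρ, π (tc ρ g y)

variable (hfree : ∀ (r : R) (x : X), ρ r x = x → r = 1)
include hfree

open Classical in
theorem trFun_mul (g g' : commSub ρ) : trFun ρ π (g' * g) = trFun ρ π g' * trFun ρ π g := by
  letI : Fintype (Orb ρ) := Fintype.ofFinite _
  unfold trFun
  have h1 : ∏ y : Orb ρ, π (tc ρ (g' * g) y) =
      (∏ y : Orb ρ, π (tc ρ g y)) * ∏ y : Orb ρ, π (tc ρ g' (barMap ρ g y)) := by
    rw [← Finset.prod_mul_distrib]
    apply Finset.prod_congr rfl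
    intro y _
    rw [tc_mul ρ hfree, map_mul]
  have h2 : ∏ y : Orb ρ, π (tc ρ g' (barMap ρ g y)) = ∏ y : Orb ρ, π (tc ρ g' y) :=
    Fintype.prod_bijective (barMap ρ g) (barMap_bijective ρ g) _ _ (fun _ => rfl)
  rw [h1, h2, mul_comm]

/-- The transfer `commSub ρ →* A` attached to `π : R →* A`. -/
noncomputable def tr : commSub ρ →* A :=
  MonoidHom.mk' (trFun ρ π) (fun g' g => trFun_mul ρ π hfree g g')

theorem tr_apply (g : commSub ρ) : tr ρ π hfree g = trFun ρ π g := rfl

open Classical in
/-- The transfer of a permutation acting on every orbit like the fixed element `r₀`. -/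
theorem tr_of_forall (g : commSub ρ) (r₀ : R) (h : ∀ x : X, (g : Equiv.Perm X) x = ρ r₀ x) :
    tr ρ π hfree g = π r₀ ^ Nat.card (Orb ρ) := by
  letI : Fintype (Orb ρ) := Fintype.ofFinite _
  rw [tr_apply]
  unfold trFun
  have : ∀ y : Orb ρ, π (tc ρ g y) = π r₀ := by
    intro y
    unfold tc
    rw [h, coord_apply ρ hfree, coord_sec ρ hfree, mul_one]
  simp only [this, Finset.prod_const, Finset.card_univ]
  rw [Nat.card_eq_fintype_card]

open Classical in
/-- The transfer of an involution: only the fixed orbits contribute. -/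
theorem tr_of_involution (g : commSub ρ) (hg : g * g = 1) :
    letI : Fintype (Orb ρ) := Fintype.ofFinite _
    tr ρ π hfree g = ∏ y ∈ Finset.univ.filter (fun y : Orb ρ => barMap ρ g y = y), π (tc ρ g y) := by
  letI : Fintype (Orb ρ) := Fintype.ofFinite _
  rw [tr_apply]
  unfold trFun
  rw [← Finset.prod_filter_mul_prod_filter_not Finset.univ (fun y : Orb ρ => barMap ρ g y = y)]
  have hinv : ∀ y : Orb ρ, barMap ρ g (barMap ρ g y) = y := by
    intro y
    rw [← barMap_mul, hg, barMap_one]
  have h2 : ∏ y ∈ Finset.univ.filter (fun y : Orb ρ => ¬ barMap ρ g y = y), π (tc ρ g y) = 1 := by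
    apply Finset.prod_involution (fun y _ => barMap ρ g y)
    · intro y _
      rw [← map_mul, ← tc_mul ρ hfree, hg, tc_one ρ hfree, map_one]
    · intro y hy _
      exact (Finset.mem_filter.mp hy).2
    · intro y hy
      rw [Finset.mem_filter] at hy ⊢
      refine ⟨Finset.mem_univ _, ?_⟩
      rw [hinv]
      exact fun h => hy.2 h.symm
    · intro y _
      exact hinv y
  rw [h2, mul_one]

omit [Finite X] in
/-- The number of orbits of a free action. -/
theorem card_orb_mul [Finite R] : Nat.card (Orb ρ) * Nat.card R = Nat.card X := by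
  rw [← Nat.card_prod]
  apply Nat.card_congr
  refine
    { toFun := fun yr => ρ yr.2 (sec ρ yr.1)
      invFun := fun x => (Quotient.mk (orbSetoid ρ) x, coord ρ x)
      left_inv := ?_
      right_inv := fun x => coord_spec ρ x }
  rintro ⟨y, r⟩
  have hq : Quotient.mk (orbSetoid ρ) (ρ r (sec ρ y)) = y := by
    rw [← mk_sec ρ y]
    exact Quotient.sound ⟨r⁻¹, by rw [mk_sec]; simp⟩
  apply Prod.ext
  · exact hq
  · simp only
    rw [coord_apply ρ hfree, coord_sec ρ hfree, mul_one]

end

end Cfsg.Agent.Lib.Helper8.CB
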