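import Mathlib
import Cfsg.Agent.Lib.Helper8.CB8
import Cfsg.Agent.Lib.Helper8.CB9

set_option autoImplicit false

/-!
# The transfer of a fusion system defined by a characteristic biset
-/

namespace Cfsg.Agent.Lib.Helper8.CB

universe u

open MulAction
open Cfsg Cfsg.FusionSystem
open Cfsg.Agent.Lib.Helper9
open Cfsg.Agent.Lib.Helper8.BM

variable {Ω : Type u} [Group Ω] {S : Subgroup Ω}

/-- The right action of `S` on an `S × S`-set. -/
def rightHom (S : Subgroup Ω) (X : Type*) [MulAction (S × S) X] : S →* Equiv.Perm X :=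
  (MulAction.toPermHom (S × S) X).comp (MonoidHom.inr S S)

/-- The left action of `S` on an `S × S`-set. -/
def leftHom₀ (S : Subgroup Ω) (X : Type*) [MulAction (S × S) X] : S →* Equiv.Perm X :=
  (MulAction.toPermHom (S × S) X).comp (MonoidHom.inl S S)

theorem rightHom_apply {X : Type*} [MulAction (S × S) X] (t : S) (x : X) :
    rightHom S X t x = ((1, t) : S × S) • x := rfl

theorem leftHom₀_apply {X : Type*} [MulAction (S × S) X] (s : S) (x : X) :
    leftHom₀ S X s x = ((s, 1) : S × S) • x := rfl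

theorem leftHom₀_mem {X : Type*} [MulAction (S × S) X] (s : S) :
    leftHom₀ S X s ∈ commSub (rightHom S X) := by
  intro t x
  rw [leftHom₀_apply, leftHom₀_apply, rightHom_apply, rightHom_apply, ← mul_smul, ← mul_smul]
  congr 1
  simp

/-- The left action, with values in the centralizer of the right action. -/
def leftHom (S : Subgroup Ω) (X : Type*) [MulAction (S × S) X] : S →* commSub (rightHom S X) :=
  (leftHom₀ S X).codRestrict _ leftHom₀_mem

theorem leftHom_apply {X : Type*} [MulAction (S × S) X] (s : S) (x : X) :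
    ((leftHom S X s : commSub (rightHom S X)) : Equiv.Perm X) x = ((s, 1) : S × S) • x := rfl

theorem rightHom_free (F : FusionSystem S) {X : Type*} [MulAction (S × S) X]
    (hstab : ∀ x : X, stabilizer (S × S) x ∈ graphs F) (t : S) (x : X)
    (h : rightHom S X t x = x) : t = 1 := by
  rw [rightHom_apply] at h
  have h1 : ((1, t) : S × S) ∈ stabilizer (S × S) x := h
  have h2 : ((1, 1) : S × S) ∈ stabilizer (S × S) x := Subgroup.one_mem _
  exact graphs_functional F (hstab x) _ _ _ h1 h2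

/-- In a stable biset every map of the system is realized by a permutation commuting with the right
action. -/
theorem exists_intertwining [Finite S] (F : FusionSystem S) {X : Type*} [Finite X]
    [MulAction (S × S) X] (hstab : ∀ x : X, stabilizer (S × S) x ∈ graphs F)
    (hst : ∀ K K', frel F K K' → Nat.card (fixedPoints K X) = Nat.card (fixedPoints K' X))
    {P : Subgroup Ω} {φ : P →* Ω} (hφ : φ ∈ F.Hom P) :
    ∃ e : commSub (rightHom S X), ∀ a : P,
      e * leftHom S X ⟨a, (F.le_of_mem hφ).1 a.2⟩ * e⁻¹ = leftHom S X ⟨φ a, (F.le_of_mem hφ).2 a⟩ := by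
  have hPS : P ≤ S := (F.le_of_mem hφ).1
  have hφS : ∀ x : P, φ x ∈ S := (F.le_of_mem hφ).2
  let N : Subgroup (S × S) := (P.subgroupOf S).prod ⊤
  have hA : ∀ n ∈ N, ((n.1 : S) : Ω) ∈ P := fun n hn => (Subgroup.mem_prod.mp hn).1
  have hB : ∀ n ∈ N, ((n.2 : S) : Ω) ∈ S := fun n _ => n.2.2
  have hidF : S.subtype ∈ F.Hom S := fs_subtype_mem F le_rfl
  let Ψ : N →* S × S := pairHom N φ S.subtype (F.le_of_mem hφ).2 (F.le_of_mem hidF).2 hA hB
  have hΨ1 : ∀ n : N, (((Ψ n).1 : S) : Ω) = φ ⟨_, hA n.1 n.2⟩ := fun n => pairHom_fst N _ _ _ _ hA hB n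
  have hΨ2 : ∀ n : N, (Ψ n).2 = (n : S × S).2 := by
    intro n
    apply Subtype.ext
    exact pairHom_snd N _ _ _ _ hA hB n
  let ρ₁ : N →* Equiv.Perm X := (MulAction.toPermHom (S × S) X).comp N.subtype
  let ρ₂ : N →* Equiv.Perm X := (MulAction.toPermHom (S × S) X).comp Ψ
  have hfix₁ : ∀ B : Subgroup N, {x : X | ∀ b ∈ B, ρ₁ b x = x} =
      fixedPoints (B.map N.subtype) X := by
    intro B
    ext x
    constructor
    · rintro hx ⟨_, ⟨b, hb, rfl⟩⟩
      exact hx b hb
    · intro hx b hb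
      exact hx ⟨N.subtype b, Subgroup.mem_map_of_mem _ hb⟩
  have hfix₂ : ∀ B : Subgroup N, {x : X | ∀ b ∈ B, ρ₂ b x = x} =
      fixedPoints (B.map Ψ) X := by
    intro B
    ext x
    constructor
    · rintro hx ⟨_, ⟨b, hb, rfl⟩⟩
      exact hx b hb
    · intro hx b hb
      exact hx ⟨Ψ b, Subgroup.mem_map_of_mem _ hb⟩
  have hnoT : ∀ L : Subgroup (S × S), L ∉ graphs F → (fixedPoints L X : Set X) = ∅ := by
    intro L hL
    rw [Set.eq_empty_iff_forall_notMem]
    intro x hx
    apply hL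
    refine graphs_le F (hstab x) ?_
    intro k hk
    exact hx ⟨k, hk⟩
  obtain ⟨e, he⟩ := exists_perm_intertwining ρ₁ ρ₂ (by
    intro B
    rw [hfix₁, hfix₂]
    by_cases hBT : B.map N.subtype ∈ graphs F
    · have h2 : B.map Ψ ∈ graphs F := pairHom_map_mem F N hφ hidF hA hB B hBT
      rw [← Nat.card_coe_set_eq, ← Nat.card_coe_set_eq]
      exact hst _ _ ⟨hBT, h2, pairHom_isConj_dom F N hφ hidF hA hB B⟩
    · rw [hnoT _ hBT, hnoT _ (fun h => hBT (pairHom_map_mem' F N hφ hidF hA hB B h))])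
  have heC : e ∈ commSub (rightHom S X) := by
    intro t x
    have hn : ((1, t) : S × S) ∈ N := Subgroup.mem_prod.mpr ⟨Subgroup.one_mem _, Subgroup.mem_top _⟩
    have h1 := he ⟨_, hn⟩ x
    have h2 : Ψ ⟨_, hn⟩ = ((1, t) : S × S) := by
      apply Prod.ext
      · apply Subtype.ext
        rw [hΨ1]
        exact map_one φ
      · exact hΨ2 _
    change e (((1, t) : S × S) • x) = (Ψ ⟨_, hn⟩) • e x at h1
    rw [h2] at h1
    exact h1
  refine ⟨⟨e, heC⟩, ?_⟩
  intro a
  rw [mul_inv_eq_iff_eq_mul]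
  apply Subtype.ext
  apply Equiv.ext
  intro x
  have hn : (((⟨a, hPS a.2⟩ : S), (1 : S)) : S × S) ∈ N :=
    Subgroup.mem_prod.mpr ⟨a.2, Subgroup.mem_top _⟩
  have h1 := he ⟨_, hn⟩ x
  have h2 : Ψ ⟨_, hn⟩ = (((⟨φ a, hφS a⟩ : S), (1 : S)) : S × S) := by
    apply Prod.ext
    · apply Subtype.ext
      rw [hΨ1]
    · exact hΨ2 _
  change e ((((⟨a, hPS a.2⟩ : S), (1 : S)) : S × S) • x) = (Ψ ⟨_, hn⟩) • e x at h1
  rw [h2] at h1
  exact h1

/-- The transfer homomorphism `S →* A` defined by a biset and `π : S →* A`. -/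
noncomputable def bisetTransfer (F : FusionSystem S) {X : Type*} [Finite X]
    [MulAction (S × S) X] (hstab : ∀ x : X, stabilizer (S × S) x ∈ graphs F)
    {A : Type*} [CommGroup A] (π : S →* A) : S →* A :=
  (tr (rightHom S X) π (rightHom_free F hstab)).comp (leftHom S X)

/-- The transfer is invariant under the maps of the system. -/
theorem bisetTransfer_map [Finite S] (F : FusionSystem S) {X : Type*} [Finite X]
    [MulAction (S × S) X] (hstab : ∀ x : X, stabilizer (S × S) x ∈ graphs F)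
    (hst : ∀ K K', frel F K K' → Nat.card (fixedPoints K X) = Nat.card (fixedPoints K' X))
    {A : Type*} [CommGroup A] (π : S →* A) {P : Subgroup Ω} {φ : P →* Ω} (hφ : φ ∈ F.Hom P)
    (a : P) :
    bisetTransfer F hstab π ⟨φ a, (F.le_of_mem hφ).2 a⟩ =
      bisetTransfer F hstab π ⟨a, (F.le_of_mem hφ).1 a.2⟩ := by
  obtain ⟨e, he⟩ := exists_intertwining F hstab hst hφ
  unfold bisetTransfer
  rw [MonoidHom.comp_apply, MonoidHom.comp_apply, ← he a, map_mul, map_mul, map_inv]
  rw [mul_comm, ← mul_assoc, inv_mul_cancel, one_mul]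

/-- The transfer of an element `z` such that `(z, z)` acts trivially. -/
theorem bisetTransfer_of_diag [Finite S] (F : FusionSystem S) {X : Type*} [Finite X]
    [MulAction (S × S) X] (hstab : ∀ x : X, stabilizer (S × S) x ∈ graphs F)
    {A : Type*} [CommGroup A] (π : S →* A) (k : ℕ) (hk : Nat.card X = k * Nat.card S) (z : S)
    (hz : ∀ x : X, ((z, z) : S × S) • x = x) :
    bisetTransfer F hstab π z = (π z)⁻¹ ^ k := by
  have hcard := card_orb_mul (rightHom S X) (rightHom_free F hstab)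
  rw [hk] at hcard
  have hk' : Nat.card (Orb (rightHom S X)) = k := Nat.eq_of_mul_eq_mul_right Nat.card_pos hcard
  unfold bisetTransfer
  rw [MonoidHom.comp_apply, tr_of_forall (rightHom S X) π (rightHom_free F hstab) _ z⁻¹, hk', map_inv]
  intro x
  rw [leftHom_apply, rightHom_apply]
  have : ((z, 1) : S × S) = ((1, z⁻¹) : S × S) * ((z, z) : S × S) := by simp
  rw [this, mul_smul, hz]

end Cfsg.Agent.Lib.Helper8.CB
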