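import Mathlib
import Cfsg.Agent.Lib.Helper8.CB10

set_option autoImplicit false

/-!
# Characteristic bisets on which the diagonal of a central subgroup acts trivially
-/

namespace Cfsg.Agent.Lib.Helper8.CB

universe u

open MulAction
open Cfsg Cfsg.FusionSystem
open Cfsg.Agent.Lib.Helper9
open Cfsg.Agent.Lib.Helper8.BM

/-- If all points of an invariant set have stabilizers of order dividing `d`, then `|W|` divides `d`
times the size of the set. -/
theorem card_dvd_mul_ncard_of_stabilizer_dvd {W : Type*} [Group W] [Finite W] {Y : Type*} [Finite Y]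
    [MulAction W Y] (d : ℕ) :
    ∀ (n : ℕ) (A : Set Y), Inv W A → A.ncard = n →
      (∀ y ∈ A, Nat.card (stabilizer W y) ∣ d) → Nat.card W ∣ d * A.ncard := by
  intro n
  induction n using Nat.strong_induction_on with
  | _ n ih =>
  intro A hinv hn hst
  by_cases hA : A = ∅
  · subst hA; simp
  · obtain ⟨y, hy⟩ := Set.nonempty_iff_ne_empty.mpr hA
    have hO : orbit W y ⊆ A := by
      rintro _ ⟨h, rfl⟩; exact hinv h y hy
    have hinv' : Inv W (A \ orbit W y) := by
      intro h z ⟨hzA, hzO⟩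
      refine ⟨hinv h z hzA, fun hc => hzO ?_⟩
      obtain ⟨g, hg⟩ := hc
      refine ⟨h⁻¹ * g, ?_⟩
      change (h⁻¹ * g) • y = z
      rw [mul_smul, inv_smul_eq_iff]; exact hg
    have hlt : (A \ orbit W y).ncard < n := by
      rw [← hn]
      apply Set.ncard_lt_ncard _ (Set.toFinite _)
      refine ⟨Set.sdiff_subset, fun hc => ?_⟩
      exact (hc hy).2 (mem_orbit_self _)
    have h1 := ih _ hlt (A \ orbit W y) hinv' rfl (fun z hz => hst z hz.1)
    have h2 := ncard_orbit_mul_card_stabilizer (W := W) y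
    obtain ⟨e, he⟩ := hst y hy
    have h3 := Set.ncard_sdiff_add_ncard_of_subset hO (Set.toFinite A)
    rw [← h3, Nat.mul_add]
    apply Dvd.dvd.add h1
    refine ⟨e, ?_⟩
    rw [he, ← h2]
    ring

variable {Ω : Type u} [Group Ω] {S : Subgroup Ω}

theorem isCentral_fixes' (F : FusionSystem S) {Q : Subgroup Ω} (hQ : F.IsCentral Q) {R : Subgroup Ω}
    {φ : R →* Ω} (hφ : φ ∈ F.Hom R) (x : R) (hx : (x : Ω) ∈ Q) : φ x = x := by
  obtain ⟨ψ, -, hψR, hψQ⟩ := hQ.2 R φ hφ
  have h1 := hψR x
  have h2 := hψQ ⟨x, hx⟩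
  have h3 : (Subgroup.inclusion le_sup_left x : ↥(R ⊔ Q)) =
      Subgroup.inclusion le_sup_right (⟨x, hx⟩ : Q) := Subtype.ext rfl
  rw [← h1, h3, h2]

theorem isCentral_comm' (F : FusionSystem S) {Q : Subgroup Ω} (hQ : F.IsCentral Q) {x : Ω}
    (hx : x ∈ Q) {s : Ω} (hs : s ∈ S) : s * x * s⁻¹ = x := by
  have h1 : conjHom S s ∈ F.Hom S := F.conj_mem le_rfl hs
  exact isCentral_fixes' F hQ h1 ⟨x, hQ.1 hx⟩ hx

theorem diag_normal (F : FusionSystem S) {Z : Subgroup Ω} (hZ : F.IsCentral Z) :
    (diag hZ.1).Normal := by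
  constructor
  intro k hk g
  have hk' := (mem_diag hZ.1 k).mp hk
  have : g * k * g⁻¹ = k := by
    apply Prod.ext
    · apply Subtype.ext
      simp only [Prod.fst_mul, Prod.fst_inv, Subgroup.coe_mul, Subgroup.coe_inv]
      exact isCentral_comm' F hZ hk'.1 g.1.2
    · apply Subtype.ext
      simp only [Prod.snd_mul, Prod.snd_inv, Subgroup.coe_mul, Subgroup.coe_inv]
      rw [← hk'.2]
      exact isCentral_comm' F hZ hk'.1 g.2.2
  rw [this]
  exact hk

theorem dom_sup (K K' : Subgroup (S × S)) : dom (K ⊔ K') = dom K ⊔ dom K' := by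
  unfold dom
  rw [Subgroup.map_sup, Subgroup.map_sup]

/-- Adjoining the diagonal of a central subgroup to a graph gives a graph. -/
theorem sup_diag_mem_graphs (F : FusionSystem S) {Z : Subgroup Ω} (hZ : F.IsCentral Z)
    {K : Subgroup (S × S)} (hK : K ∈ graphs F) : K ⊔ diag hZ.1 ∈ graphs F := by
  obtain ⟨P, φ, hφ, rfl⟩ := hK
  obtain ⟨ψ, hψ, hψP, hψZ⟩ := hZ.2 P φ hφ
  refine graphs_le F (gr_mem_graphs F hψ (F.le_of_mem hψ).1 (F.le_of_mem hψ).2) ?_
  apply sup_le
  · intro k hk
    obtain ⟨x, hx1, hx2⟩ := (mem_gr _ _ _).mp hk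
    rw [mem_gr]
    exact ⟨Subgroup.inclusion le_sup_left x, hx1, by rw [hψP]; exact hx2⟩
  · intro k hk
    obtain ⟨hk1, hk2⟩ := (mem_diag hZ.1 k).mp hk
    rw [mem_gr]
    refine ⟨Subgroup.inclusion le_sup_right (⟨_, hk1⟩ : Z), rfl, ?_⟩
    rw [hψZ, ← hk2]

/-- Conjugacy in the system is preserved by adjoining a central subgroup. -/
theorem isConj_sup_central (F : FusionSystem S) {Z : Subgroup Ω} (hZ : F.IsCentral Z)
    {P P' : Subgroup Ω} (h : F.IsConj P P') : F.IsConj (P ⊔ Z) (P' ⊔ Z) := by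
  obtain ⟨θ, hθ, rfl⟩ := h
  obtain ⟨ψ, hψ, hψP, hψZ⟩ := hZ.2 P θ hθ
  refine ⟨ψ, hψ, ?_⟩
  rw [MonoidHom.range_eq_map]
  have htop : (⊤ : Subgroup ↥(P ⊔ Z)) = P.subgroupOf (P ⊔ Z) ⊔ Z.subgroupOf (P ⊔ Z) := by
    rw [← Subgroup.subgroupOf_sup le_sup_left le_sup_right, Subgroup.subgroupOf_self]
  rw [htop, Subgroup.map_sup]
  congr 1
  · ext y
    constructor
    · rintro ⟨w, hw, rfl⟩
      rw [SetLike.mem_coe, Subgroup.mem_subgroupOf] at hw
      refine ⟨⟨w, hw⟩, ?_⟩
      rw [← hψP]
      rfl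
    · rintro ⟨x, rfl⟩
      refine ⟨Subgroup.inclusion le_sup_left x, ?_, hψP x⟩
      rw [SetLike.mem_coe, Subgroup.mem_subgroupOf]
      exact x.2
  · ext y
    constructor
    · rintro ⟨w, hw, rfl⟩
      rw [SetLike.mem_coe, Subgroup.mem_subgroupOf] at hw
      have := hψZ ⟨w, hw⟩
      have e : Subgroup.inclusion le_sup_right (⟨w, hw⟩ : Z) = w := Subtype.ext rfl
      rw [e] at this
      rw [this]
      exact hw
    · intro hy
      refine ⟨Subgroup.inclusion le_sup_right (⟨y, hy⟩ : Z), ?_, hψZ ⟨y, hy⟩⟩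
      rw [SetLike.mem_coe, Subgroup.mem_subgroupOf]
      exact hy

theorem frel_sup_diag (F : FusionSystem S) {Z : Subgroup Ω} (hZ : F.IsCentral Z)
    {K K' : Subgroup (S × S)} (h : frel F K K') :
    frel F (K ⊔ diag hZ.1) (K' ⊔ diag hZ.1) := by
  refine ⟨sup_diag_mem_graphs F hZ h.1, sup_diag_mem_graphs F hZ h.2.1, ?_⟩
  rw [dom_sup, dom_sup, dom_diag]
  exact isConj_sup_central F hZ h.2.2

theorem diag_le_of_top [Finite S] (F : FusionSystem S) {Z : Subgroup Ω} (hZ : F.IsCentral Z)
    {K : Subgroup (S × S)} (hK : K ∈ top F) : diag hZ.1 ≤ K := by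
  intro k hk
  obtain ⟨hk1, hk2⟩ := (mem_diag hZ.1 k).mp hk
  obtain ⟨b, hb⟩ := top_fst F hK k.1
  obtain ⟨⟨P, φ, hφ, rfl⟩, _⟩ := hK
  obtain ⟨x, hx1, hx2⟩ := (mem_gr _ _ _).mp hb
  simp only at hx1 hx2
  have h1 := isCentral_fixes' F hZ hφ x (by rw [hx1]; exact hk1)
  have : k = (k.1, b) := by
    apply Prod.ext
    · rfl
    · rw [← hk2]
      apply Subtype.ext
      rw [← hx2, h1, hx1]
  rw [this]
  exact hb

/-- **Characteristic biset with trivial action of the diagonal of a central subgroup.** -/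
theorem exists_char_biset_central [Finite S] (p : ℕ) [Fact p.Prime] (hS : IsPGroup p S)
    (F : FusionSystem S) (hF : F.IsSaturated p) {Z : Subgroup Ω} (hZ : F.IsCentral Z) :
    ∃ (X : Type u) (_ : Finite X) (_ : MulAction (S × S) X),
      (∀ x : X, stabilizer (S × S) x ∈ graphs F) ∧
      (∀ K K', frel F K K' → Nat.card (fixedPoints K X) = Nat.card (fixedPoints K' X)) ∧
      (∃ k, Nat.card X = k * Nat.card S ∧ ¬ p ∣ k) ∧
      ∀ (z : S), (z : Ω) ∈ Z → ∀ x : X, ((z, z) : S × S) • x = x := by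
  obtain ⟨X, hXfin, hXact, hstab, hst, k, hk, hpk⟩ := exists_char_biset p hS F hF
  haveI := diag_normal F hZ
  have hcoe : ∀ (g : S × S) (x : fixedPoints (diag hZ.1) X), ((g • x : fixedPoints (diag hZ.1) X) : X) =
      g • (x : X) := fun g x => rfl
  have hstab' : ∀ x : fixedPoints (diag hZ.1) X, stabilizer (S × S) x = stabilizer (S × S) (x : X) := by
    intro x
    ext g
    rw [mem_stabilizer_iff, mem_stabilizer_iff, Subtype.ext_iff, hcoe]
  refine ⟨fixedPoints (diag hZ.1) X, inferInstance, inferInstance, ?_, ?_, ?_, ?_⟩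
  · intro x
    rw [hstab']
    exact hstab x
  · have hfix : ∀ K : Subgroup (S × S), Nat.card (fixedPoints K (fixedPoints (diag hZ.1) X)) =
        Nat.card (fixedPoints (K ⊔ diag hZ.1 : Subgroup (S × S)) X) := by
      intro K
      apply Nat.card_congr
      refine
        { toFun := fun x => ⟨x.1.1, ?_⟩
          invFun := fun x => ⟨⟨x.1, ?_⟩, ?_⟩
          left_inv := fun x => rfl
          right_inv := fun x => rfl }
      · intro g
        have h1 : K ≤ stabilizer (S × S) (x.1.1 : X) := by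
          intro k hk
          have := x.2 ⟨k, hk⟩
          rw [mem_stabilizer_iff]
          have h2 := congrArg Subtype.val this
          exact h2
        have h2 : diag hZ.1 ≤ stabilizer (S × S) (x.1.1 : X) := by
          intro k hk
          exact x.1.2 ⟨k, hk⟩
        exact (sup_le h1 h2) g.2
      · intro g
        exact x.2 ⟨g.1, (le_sup_right : diag hZ.1 ≤ K ⊔ diag hZ.1) g.2⟩
      · intro g
        apply Subtype.ext
        exact x.2 ⟨g.1, (le_sup_left : K ≤ K ⊔ diag hZ.1) g.2⟩
    intro K K' h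
    rw [hfix, hfix]
    exact hst _ _ (frel_sup_diag F hZ h)
  · -- counting
    set A : Set X := (fixedPoints (diag hZ.1) X)ᶜ with hA
    have hinvA : Inv (S × S) A := by
      intro g x hx hgx
      apply hx
      have := smul_mem_fixedPoints_of_normal (H := diag hZ.1) g⁻¹ hgx
      rwa [inv_smul_smul] at this
    obtain ⟨n, hn⟩ := IsPGroup.iff_card.mp hS
    have hp0 : 0 < p := (Fact.out : p.Prime).pos
    have hn0 : n ≠ 0 ∨ A = ∅ := by
      by_cases h : n = 0
      · right
        rw [Set.eq_empty_iff_forall_notMem]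
        intro x hx
        apply hx
        intro g
        have h1 : Nat.card S = 1 := by rw [hn, h, pow_zero]
        haveI : Subsingleton S := (Nat.card_eq_one_iff_unique.mp h1).1
        have : (g : S × S) = 1 := Subsingleton.elim _ _
        rw [Subgroup.smul_def, this, one_smul]
      · exact Or.inl h
    have hdvd : p * Nat.card S ∣ A.ncard := by
      rcases hn0 with hn0 | hA0
      · obtain ⟨n', rfl⟩ := Nat.exists_eq_succ_of_ne_zero hn0
        have h1 := card_dvd_mul_ncard_of_stabilizer_dvd (W := S × S) (p ^ n') A.ncard A hinvA rfl (by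
          intro x hx
          have hsx := hstab x
          have hnt : stabilizer (S × S) x ∉ top F := by
            intro ht
            apply hx
            intro g
            exact diag_le_of_top F hZ ht g.2
          obtain ⟨r, hr⟩ := index_of_not_top p hS F hsx hnt
          have h2 := Subgroup.card_mul_index (stabilizer (S × S) x)
          rw [Nat.card_prod, hr, hn] at h2
          have h3 : Nat.card (stabilizer (S × S) x) * r * (p ^ (n' + 1) * p) =
              p ^ n' * (p ^ (n' + 1) * p) := by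
            calc Nat.card (stabilizer (S × S) x) * r * (p ^ (n' + 1) * p)
                = Nat.card (stabilizer (S × S) x) * (p ^ (n' + 1) * (p * r)) := by ring
              _ = p ^ (n' + 1) * p ^ (n' + 1) := h2
              _ = p ^ n' * (p ^ (n' + 1) * p) := by rw [pow_succ]; ring
          have h4 := Nat.eq_of_mul_eq_mul_right (Nat.mul_pos (pow_pos hp0 _) hp0) h3
          exact Dvd.intro _ h4)
        rw [Nat.card_prod, hn] at h1
        rw [hn]
        have h5 : p ^ n' * (p * p ^ (n' + 1)) ∣ p ^ n' * A.ncard := by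
          have : p ^ (n' + 1) * p ^ (n' + 1) = p ^ n' * (p * p ^ (n' + 1)) := by
            rw [pow_succ]; ring
          rw [← this]; exact h1
        exact (Nat.mul_dvd_mul_iff_left (pow_pos hp0 _)).mp h5
      · rw [hA0]; simp
    obtain ⟨a, ha⟩ := hdvd
    have hsum : Nat.card (fixedPoints (diag hZ.1) X) + A.ncard = Nat.card X := by
      rw [Nat.card_coe_set_eq, hA]
      exact Set.ncard_add_ncard_compl _
    rw [ha, hk] at hsum
    have hle : p * a ≤ k := by
      have : p * Nat.card S * a ≤ k * Nat.card S := by omega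
      have h2 : (p * a) * Nat.card S ≤ k * Nat.card S := by
        calc (p * a) * Nat.card S = p * Nat.card S * a := by ring
          _ ≤ k * Nat.card S := this
      exact Nat.le_of_mul_le_mul_right h2 Nat.card_pos
    refine ⟨k - p * a, ?_, ?_⟩
    · have : (k - p * a) * Nat.card S = k * Nat.card S - p * Nat.card S * a := by
        rw [Nat.sub_mul]; congr 1; ring
      rw [this]; omega
    · intro h
      apply hpk
      have hk' : k = (k - p * a) + p * a := by omega
      rw [hk']
      exact Dvd.dvd.add h (Dvd.intro _ rfl)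
  · intro z hz x
    apply Subtype.ext
    rw [hcoe]
    exact x.2 ⟨((z, z) : S × S), (mem_diag hZ.1 _).mpr ⟨hz, rfl⟩⟩

end Cfsg.Agent.Lib.Helper8.CB
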