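import Mathlib
import Cfsg.Agent.Lib.Helper8.CB11

set_option autoImplicit false

/-!
# The focal subgroup meets a central subgroup of a saturated fusion system inside `S'`
-/

namespace Cfsg.Agent.Lib.Helper8.CB

universe u

open MulAction
open Cfsg Cfsg.FusionSystem
open Cfsg.Agent.Lib.Helper9
open Cfsg.Agent.Lib.Helper8.BM

variable {Ω : Type u} [Group Ω] {S : Subgroup Ω}

/-- A homomorphism from `S` to a commutative group which is invariant under the maps of the system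
kills the focal subgroup. -/
theorem focal_le_ker (F : FusionSystem S) {A : Type*} [CommGroup A] (θ : S →* A)
    (hθ : ∀ (P : Subgroup Ω) (φ : P →* Ω) (hφ : φ ∈ F.Hom P) (a : P),
      θ ⟨φ a, (F.le_of_mem hφ).2 a⟩ = θ ⟨a, (F.le_of_mem hφ).1 a.2⟩) :
    F.focalSubgroup ≤ θ.ker.map S.subtype := by
  unfold FusionSystem.focalSubgroup
  rw [Subgroup.closure_le]
  rintro _ ⟨P, φ, x, hφ, rfl⟩
  refine ⟨(⟨x, (F.le_of_mem hφ).1 x.2⟩ : S)⁻¹ * ⟨φ x, (F.le_of_mem hφ).2 x⟩, ?_, rfl⟩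
  rw [SetLike.mem_coe, MonoidHom.mem_ker, map_mul, map_inv, hθ P φ hφ x, inv_mul_cancel]

theorem commutator_le_focal (F : FusionSystem S) : ⁅S, S⁆ ≤ F.focalSubgroup := by
  rw [Subgroup.commutator_le]
  intro s hs t ht
  apply Subgroup.subset_closure
  refine ⟨S, conjHom S t, ⟨s⁻¹, S.inv_mem hs⟩, F.conj_mem le_rfl ht, ?_⟩
  simp only [conjHom, MonoidHom.coe_comp, Function.comp_apply, Subgroup.subtype_apply,
    MulEquiv.coe_toMonoidHom, MulAut.conj_apply, commutatorElement_def, inv_inv]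
  group

/-- **Theorem**: for a saturated fusion system over a finite `p`-group `S` and a subgroup `Z`
central in the system, `foc(F) ∩ Z ≤ S'`. -/
theorem focal_inf_central_le [Finite S] (p : ℕ) [Fact p.Prime] (hS : IsPGroup p S)
    (F : FusionSystem S) (hF : F.IsSaturated p) {Z : Subgroup Ω} (hZ : F.IsCentral Z) :
    F.focalSubgroup ⊓ Z ≤ ⁅S, S⁆ := by
  obtain ⟨X, hXfin, hXact, hstab, hst, ⟨k, hk, hpk⟩, hdiag⟩ := exists_char_biset_central p hS F hF hZ
  set θ : S →* Abelianization S := bisetTransfer F hstab Abelianization.of with hθ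
  have hker := focal_le_ker F θ (fun P φ hφ a => bisetTransfer_map F hstab hst _ hφ a)
  rintro z ⟨hzf, hzZ⟩
  obtain ⟨w, hw, hwz⟩ := hker hzf
  have hzS : z ∈ S := hZ.1 hzZ
  have hw' : w = ⟨z, hzS⟩ := Subtype.ext hwz
  rw [SetLike.mem_coe, MonoidHom.mem_ker, hw', hθ,
    bisetTransfer_of_diag F hstab _ k hk ⟨z, hzS⟩ (hdiag ⟨z, hzS⟩ hzZ)] at hw
  -- `(π z)^k = 1` and `(π z)^|S| = 1`
  have h1 : (Abelianization.of (⟨z, hzS⟩ : S)) ^ k = 1 := by
    rw [inv_pow, inv_eq_one] at hw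
    exact hw
  have h2 : (Abelianization.of (⟨z, hzS⟩ : S)) ^ Nat.card S = 1 := by
    rw [← map_pow, pow_card_eq_one', map_one]
  obtain ⟨n, hn⟩ := IsPGroup.iff_card.mp hS
  have hcop : Nat.Coprime k (Nat.card S) := by
    rw [hn]
    apply Nat.Coprime.pow_right
    exact ((Nat.Prime.coprime_iff_not_dvd Fact.out).mpr hpk).symm
  have h3 : orderOf (Abelianization.of (⟨z, hzS⟩ : S)) ∣ 1 := by
    rw [← Nat.Coprime.gcd_eq_one hcop]
    exact Nat.dvd_gcd (orderOf_dvd_of_pow_eq_one h1) (orderOf_dvd_of_pow_eq_one h2)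
  have h4 : Abelianization.of (⟨z, hzS⟩ : S) = 1 := by
    rw [← orderOf_eq_one_iff]
    exact Nat.dvd_one.mp h3
  have h5 : (⟨z, hzS⟩ : S) ∈ commutator S := by
    rw [← Abelianization.ker_of, MonoidHom.mem_ker]
    exact h4
  have h6 : (commutator S).map S.subtype = ⁅S, S⁆ := by
    rw [commutator_def, Subgroup.map_commutator, ← MonoidHom.range_eq_map, Subgroup.range_subtype]
  rw [← h6]
  exact ⟨⟨z, hzS⟩, h5, rfl⟩

end Cfsg.Agent.Lib.Helper8.CB
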