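import Mathlib
import Cfsg.Agent.Lib.Helper8.CB9

set_option autoImplicit false

/-!
# Counting lemmas for the transfer of a free action
-/

namespace Cfsg.Agent.Lib.Helper8.CB

/-- If all fibres of a map have the same size `n`, the domain has `|β| · n` elements. -/
theorem card_eq_mul_of_fiber {α β : Type*} [Finite α] [Finite β] (f : α → β) (n : ℕ)
    (h : ∀ b : β, Nat.card {a // f a = b} = n) : Nat.card α = Nat.card β * n := by
  classical
  letI : Fintype β := Fintype.ofFinite _
  rw [← Nat.card_congr (Equiv.sigmaFiberEquiv f), Nat.card_sigma]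
  simp only [h, Finset.sum_const, Finset.card_univ, smul_eq_mul]
  rw [Nat.card_eq_fintype_card]

/-- A product of signs. -/
theorem prod_units_eq {ι : Type*} (s : Finset ι) (f : ι → ℤˣ) [DecidablePred fun y => f y = -1] :
    ∏ y ∈ s, f y = (-1) ^ (s.filter (fun y => f y = -1)).card := by
  rw [← Finset.prod_filter_mul_prod_filter_not s (fun y => f y = -1)]
  have h1 : ∏ y ∈ s.filter (fun y => f y = -1), f y = (-1) ^ (s.filter (fun y => f y = -1)).card := by
    rw [Finset.prod_congr rfl (fun y hy => (Finset.mem_filter.mp hy).2), Finset.prod_const]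
  have h2 : ∏ y ∈ s.filter (fun y => ¬ f y = -1), f y = 1 := by
    apply Finset.prod_eq_one
    intro y hy
    rcases Int.units_eq_one_or (f y) with h | h
    · exact h
    · exact absurd h (Finset.mem_filter.mp hy).2
  rw [h1, h2, mul_one]

section
variable {R X : Type*} [Group R] (ρ : R →* Equiv.Perm X)
variable (hfree : ∀ (r : R) (x : X), ρ r x = x → r = 1)
include hfree

/-- A permutation commuting with the action fixes the orbit of `sec y` and moves `sec y` by `r`
exactly when it maps `sec y` to `ρ r (sec y)`. -/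
theorem barMap_tc_iff (g : commSub ρ) (y : Orb ρ) (r : R) :
    (barMap ρ g y = y ∧ tc ρ g y = r) ↔ (g : Equiv.Perm X) (sec ρ y) = ρ r (sec ρ y) := by
  constructor
  · rintro ⟨h1, h2⟩
    have := apply_sec ρ g y
    rw [h1, h2] at this
    exact this
  · intro h
    have h1 : barMap ρ g y = y := by
      conv_lhs => rw [← mk_sec ρ y]
      rw [barMap_mk, h]
      conv_rhs => rw [← mk_sec ρ y]
      exact Quotient.sound ⟨r⁻¹, by simp⟩
    refine ⟨h1, ?_⟩
    unfold tc
    rw [h, coord_apply ρ hfree, coord_sec ρ hfree, mul_one]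

/-- Counting the points of an invariant set through the orbit representatives. -/
theorem ncard_invariant [Finite X] [Finite R] (P : X → Prop) (hP : ∀ (r : R) (x : X), P (ρ r x) ↔ P x) :
    {x : X | P x}.ncard = {y : Orb ρ | P (sec ρ y)}.ncard * Nat.card R := by
  rw [← Nat.card_coe_set_eq, ← Nat.card_coe_set_eq, ← Nat.card_prod]
  apply Nat.card_congr
  refine
    { toFun := fun x => (⟨Quotient.mk (orbSetoid ρ) x.1, ?_⟩, coord ρ x.1)
      invFun := fun yr => ⟨ρ yr.2 (sec ρ yr.1.1), ?_⟩
      left_inv := ?_
      right_inv := ?_ }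
  · have h1 := coord_spec ρ x.1
    have h2 := x.2
    rw [Set.mem_ofPred_eq] at h2 ⊢
    rw [← h1, hP] at h2
    exact h2
  · rw [Set.mem_ofPred_eq, hP]
    exact yr.1.2
  · intro x
    apply Subtype.ext
    exact coord_spec ρ x.1
  · rintro ⟨⟨y, hy⟩, r⟩
    have hq : Quotient.mk (orbSetoid ρ) (ρ r (sec ρ y)) = y := by
      conv_rhs => rw [← mk_sec ρ y]
      exact Quotient.sound ⟨r⁻¹, by simp⟩
    apply Prod.ext
    · apply Subtype.ext
      exact hq
    · simp only
      rw [coord_apply ρ hfree, coord_sec ρ hfree, mul_one]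

omit hfree

open Classical in
/-- The number of orbits fixed by an involution has the parity of the number of orbits. -/
theorem card_fixed_barMap_modEq [Finite X] (g : commSub ρ) (hg : g * g = 1) :
    letI : Fintype (Orb ρ) := Fintype.ofFinite _
    (Finset.univ.filter (fun y : Orb ρ => barMap ρ g y = y)).card ≡ Nat.card (Orb ρ) [MOD 2] := by
  letI : Fintype (Orb ρ) := Fintype.ofFinite _
  let f : Function.End (Orb ρ) := barMap ρ g
  have hf : f ^ 2 ^ 1 = 1 := by
    rw [pow_one, pow_two]
    funext y
    change barMap ρ g (barMap ρ g y) = y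
    rw [← barMap_mul, hg, barMap_one]
  have h := Equiv.Perm.card_fixedPoints_modEq (p := 2) (n := 1) hf
  rw [Nat.card_eq_fintype_card]
  refine Nat.ModEq.trans ?_ h.symm
  have : Fintype.card (Function.fixedPoints f) =
      (Finset.univ.filter (fun y : Orb ρ => barMap ρ g y = y)).card := by
    rw [Fintype.card_subtype]
    rfl
  rw [this]

end

end Cfsg.Agent.Lib.Helper8.CB
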