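import Mathlib
import Cfsg.Agent.Lib.Helper8.CB12
import Cfsg.Agent.Lib.Helper8.CB13

set_option autoImplicit false

/-!
# Fixed points of the graphs of the conjugates of an element in a characteristic biset
-/

namespace Cfsg.Agent.Lib.Helper8.CB

universe u

open MulAction
open Cfsg Cfsg.FusionSystem
open Cfsg.Agent.Lib.Helper9
open Cfsg.Agent.Lib.Helper8.BM

variable {Ω : Type u} [Group Ω] {S : Subgroup Ω}

/-- The conjugates in the system of an element of `S`. -/
def conjElts (F : FusionSystem S) (i : S) : Set S := {t | F.IsConjElt (i : Ω) (t : Ω)}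

/-- The points fixed by the pair `(i, t)`. -/
def fixSet (X : Type*) [MulAction (S × S) X] (i t : S) : Set X := {x | ((i, t) : S × S) • x = x}

theorem mem_fixSet {X : Type*} [MulAction (S × S) X] (i t : S) (x : X) :
    x ∈ fixSet X i t ↔ ((i, t) : S × S) • x = x := Iff.rfl

theorem fixSet_eq_fixedPoints (F : FusionSystem S) {X : Type*} [MulAction (S × S) X] (i t : S)
    {φ : Subgroup.zpowers (i : Ω) →* Ω} (hφ : φ ∈ F.Hom (Subgroup.zpowers (i : Ω)))
    (hφi : φ ⟨i, Subgroup.mem_zpowers _⟩ = t) :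
    fixSet X i t = fixedPoints (gr (F.le_of_mem hφ).1 (F.le_of_mem hφ).2) X := by
  have hmem : ((i, t) : S × S) ∈ gr (F.le_of_mem hφ).1 (F.le_of_mem hφ).2 :=
    (mem_gr _ _ _).mpr ⟨⟨i, Subgroup.mem_zpowers _⟩, rfl, hφi⟩
  ext x
  constructor
  · intro hx k
    obtain ⟨x', h1, h2⟩ := (mem_gr _ _ _).mp k.2
    obtain ⟨n, hn⟩ := Subgroup.mem_zpowers_iff.mp x'.2
    have hx'n : x' = (⟨i, Subgroup.mem_zpowers _⟩ : Subgroup.zpowers (i : Ω)) ^ n := by
      apply Subtype.ext
      rw [Subgroup.coe_zpow]
      exact hn.symm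
    have hk : (k : S × S) = ((i, t) : S × S) ^ n := by
      apply Prod.ext
      · apply Subtype.ext
        rw [← h1, Prod.pow_fst, Subgroup.coe_zpow, ← hn]
      · apply Subtype.ext
        rw [← h2, hx'n, map_zpow, hφi, Prod.pow_snd, Subgroup.coe_zpow]
    have hst : ((i, t) : S × S) ∈ stabilizer (S × S) x := hx
    have := Subgroup.zpow_mem _ hst n
    rw [← hk] at this
    exact this
  · intro hx
    exact hx ⟨_, hmem⟩

theorem ncard_fixSet_eq [Finite S] (F : FusionSystem S) {X : Type*} [Finite X] [MulAction (S × S) X]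
    (hst : ∀ K K', frel F K K' → Nat.card (fixedPoints K X) = Nat.card (fixedPoints K' X))
    (i : S) {t t' : S} (ht : t ∈ conjElts F i) (ht' : t' ∈ conjElts F i) :
    (fixSet X i t).ncard = (fixSet X i t').ncard := by
  obtain ⟨φ, hφ, hφi⟩ := ht
  obtain ⟨φ', hφ', hφi'⟩ := ht'
  rw [fixSet_eq_fixedPoints F i t hφ hφi, fixSet_eq_fixedPoints F i t' hφ' hφi',
    ← Nat.card_coe_set_eq, ← Nat.card_coe_set_eq]
  apply hst
  refine ⟨gr_mem_graphs F hφ _ _, gr_mem_graphs F hφ' _ _, ?_⟩
  rw [dom_gr, dom_gr]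
  exact fs_isConj_refl F (F.le_of_mem hφ).1

theorem mem_conjElts_of_mem_graph (F : FusionSystem S) {K : Subgroup (S × S)} (hK : K ∈ graphs F)
    {i t : S} (h : ((i, t) : S × S) ∈ K) : t ∈ conjElts F i := by
  obtain ⟨P, φ, hφ, rfl⟩ := hK
  obtain ⟨x', h1, h2⟩ := (mem_gr _ _ _).mp h
  simp only at h1 h2
  have hle : Subgroup.zpowers (i : Ω) ≤ P := by
    rw [Subgroup.zpowers_le, ← h1]
    exact x'.2
  refine ⟨φ.comp (Subgroup.inclusion hle), fs_restrict_mem F hφ hle, ?_⟩
  rw [← h2]
  simp only [MonoidHom.coe_comp, Function.comp_apply]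
  congr 1
  apply Subtype.ext
  exact h1.symm

theorem fixSet_eq_empty (F : FusionSystem S) {X : Type*} [MulAction (S × S) X]
    (hstab : ∀ x : X, stabilizer (S × S) x ∈ graphs F) {i t : S} (ht : t ∉ conjElts F i) :
    fixSet X i t = ∅ := by
  rw [Set.eq_empty_iff_forall_notMem]
  intro x hx
  exact ht (mem_conjElts_of_mem_graph F (hstab x) hx)

theorem fixSet_unique (F : FusionSystem S) {X : Type*} [MulAction (S × S) X]
    (hstab : ∀ x : X, stabilizer (S × S) x ∈ graphs F) {i t t' : S} {x : X}
    (h : x ∈ fixSet X i t) (h' : x ∈ fixSet X i t') : t = t' :=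
  graphs_functional F (hstab x) _ _ _ h h'

/-- Counting the points fixed by `(i, t)` for some `t` in a set `J` of conjugates of `i`. -/
theorem ncard_iUnion_fixSet [Finite S] (F : FusionSystem S) {X : Type*} [Finite X]
    [MulAction (S × S) X] (hstab : ∀ x : X, stabilizer (S × S) x ∈ graphs F) (i : S) (J : Set S)
    (N : ℕ) (hN : ∀ t ∈ J, (fixSet X i t).ncard = N) :
    {x : X | ∃ t ∈ J, x ∈ fixSet X i t}.ncard = J.ncard * N := by
  rw [← Nat.card_coe_set_eq, ← Nat.card_coe_set_eq]
  have hex : ∀ x : {x : X | ∃ t ∈ J, x ∈ fixSet X i t}, ∃ t : J, (x : X) ∈ fixSet X i t := by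
    rintro ⟨x, t, ht, hx⟩
    exact ⟨⟨t, ht⟩, hx⟩
  choose f hf using hex
  apply card_eq_mul_of_fiber f N
  intro t
  rw [← hN t.1 t.2, ← Nat.card_coe_set_eq]
  apply Nat.card_congr
  refine
    { toFun := fun a => ⟨a.1.1, ?_⟩
      invFun := fun x => ⟨⟨x.1, ⟨t.1, t.2, x.2⟩⟩, ?_⟩
      left_inv := fun a => rfl
      right_inv := fun x => rfl }
  · have := hf a.1
    rw [a.2] at this
    exact this
  · apply Subtype.ext
    exact fixSet_unique F hstab (hf _) x.2

/-- A subgroup of `S` centralizing `t` acts freely (on the right) on the points fixed by `(i, t)`. -/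
theorem card_dvd_ncard_fixSet [Finite S] (F : FusionSystem S) {X : Type*} [Finite X]
    [MulAction (S × S) X] (hstab : ∀ x : X, stabilizer (S × S) x ∈ graphs F) (i t : S)
    (W : Subgroup S) (hW : ∀ c ∈ W, c * t = t * c) : Nat.card W ∣ (fixSet X i t).ncard := by
  letI : MulAction W X := MulAction.compHom X ((MonoidHom.inr S S).comp W.subtype)
  have hsmul : ∀ (c : W) (x : X), c • x = ((1, (c : S)) : S × S) • x := fun _ _ => rfl
  have hinv : Inv W (fixSet X i t) := by
    intro c x hx
    rw [mem_fixSet] at hx ⊢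
    rw [hsmul, ← mul_smul]
    have : ((i, t) : S × S) * (1, (c : S)) = (1, (c : S)) * (i, t) := by
      apply Prod.ext
      · simp
      · simp only [Prod.snd_mul]
        exact (hW c c.2).symm
    rw [this, mul_smul, hx]
  have h1 := card_dvd_mul_ncard_of_stabilizer (W := W) 1 _ (fixSet X i t) hinv rfl (by
    intro x _
    have : stabilizer W x = ⊥ := by
      rw [eq_bot_iff]
      intro c hc
      rw [mem_stabilizer_iff, hsmul] at hc
      have h2 : ((1, (c : S)) : S × S) ∈ stabilizer (S × S) x := hc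
      have h3 : ((1, 1) : S × S) ∈ stabilizer (S × S) x := Subgroup.one_mem _
      have := graphs_functional F (hstab x) _ _ _ h2 h3
      rw [Subgroup.mem_bot]
      exact Subtype.ext this
    rw [this]
    exact Subgroup.card_bot)
  rw [one_mul] at h1
  exact h1

/-- Counting a conjugation-invariant subset of `S` all of whose elements have centralizers of
order dividing `d`. -/
theorem card_dvd_mul_ncard_conj [Finite S] (J : Set S) (hJ : ∀ (s t : S), t ∈ J → s * t * s⁻¹ ∈ J)
    (d : ℕ) (hd : ∀ t ∈ J, Nat.card (Subgroup.centralizer ({t} : Set S)) ∣ d) :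
    Nat.card S ∣ d * J.ncard := by
  have hinv : Inv (ConjAct S) J := by
    intro g t ht
    rw [ConjAct.smul_def]
    exact hJ _ t ht
  haveI : Finite (ConjAct S) := inferInstanceAs (Finite S)
  have h1 := card_dvd_mul_ncard_of_stabilizer_dvd (W := ConjAct S) d _ J hinv rfl (by
    intro t ht
    have h2 := hd t ht
    have h2' : Nat.card (stabilizer (ConjAct S) t) =
        Nat.card (Subgroup.centralizer ({t} : Set S)) := by
      apply Nat.card_congr
      refine
        { toFun := fun g => ⟨ConjAct.ofConjAct g.1, ?_⟩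
          invFun := fun c => ⟨ConjAct.toConjAct c.1, ?_⟩
          left_inv := fun g => rfl
          right_inv := fun c => rfl }
      · have hg := g.2
        rw [mem_stabilizer_iff, ConjAct.smul_def] at hg
        rw [Subgroup.mem_centralizer_iff]
        intro h hh
        rw [Set.mem_singleton_iff] at hh
        subst hh
        calc h * ConjAct.ofConjAct g.1
            = (ConjAct.ofConjAct g.1 * h * (ConjAct.ofConjAct g.1)⁻¹) * ConjAct.ofConjAct g.1 := by
              rw [hg]
          _ = ConjAct.ofConjAct g.1 * h := by group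
      · have hc := c.2
        rw [Subgroup.mem_centralizer_iff] at hc
        have := hc t rfl
        rw [mem_stabilizer_iff, ConjAct.smul_def, ConjAct.ofConjAct_toConjAct, ← this]
        group
    rw [h2']
    exact h2)
  have h3 : Nat.card (ConjAct S) = Nat.card S := rfl
  rw [h3] at h1
  exact h1

end Cfsg.Agent.Lib.Helper8.CB
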