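import Mathlib
import Cfsg.Agent.Lib.Helper8.CB14

set_option autoImplicit false

/-!
# A Thompson-type transfer lemma for saturated fusion systems
-/

namespace Cfsg.Agent.Lib.Helper8.CB

universe u

open MulAction
open Cfsg Cfsg.FusionSystem
open Cfsg.Agent.Lib.Helper9
open Cfsg.Agent.Lib.Helper8.BM

theorem zpowers_of_orderOf_two {G : Type*} [Group G] {t : G} (ht : orderOf t = 2) {y : G}
    (hy : y ∈ Subgroup.zpowers t) : y = 1 ∨ y = t := by
  obtain ⟨n, rfl⟩ := Subgroup.mem_zpowers_iff.mp hy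
  rw [← zpow_mod_orderOf, ht]
  rcases Int.emod_two_eq_zero_or_one n with h | h
  · left
    have : (n % ((2 : ℕ) : ℤ)) = 0 := h
    rw [this, zpow_zero]
  · right
    have : (n % ((2 : ℕ) : ℤ)) = 1 := h
    rw [this, zpow_one]

theorem conj_eq_of_mem_normalizer_zpowers {G : Type*} [Group G] {t : G} (ht : orderOf t = 2) {c : G}
    (hc : c ∈ Subgroup.normalizer (Subgroup.zpowers t : Set G)) : c * t * c⁻¹ = t := by
  have h1 := (Subgroup.mem_normalizer_iff.mp hc t).mp (Subgroup.mem_zpowers t)
  rcases zpowers_of_orderOf_two ht h1 with h | h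
  · exfalso
    have : t = 1 := by
      have h2 : c⁻¹ * (c * t * c⁻¹) * c = 1 := by rw [h]; group
      rw [← h2]; group
    rw [this, orderOf_one] at ht
    omega
  · exact h

variable {Ω : Type u} [Group Ω] {S : Subgroup Ω}

theorem conjElts_self (F : FusionSystem S) (i : S) : i ∈ conjElts F i := by
  have hle : Subgroup.zpowers (i : Ω) ≤ S := by
    rw [Subgroup.zpowers_le]; exact i.2
  exact ⟨_, fs_subtype_mem F hle, rfl⟩

theorem conjElts_map (F : FusionSystem S) {i t : S} (ht : t ∈ conjElts F i) {Q : Subgroup Ω}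
    {ψ : Q →* Ω} (hψ : ψ ∈ F.Hom Q) (htQ : (t : Ω) ∈ Q) :
    (⟨ψ ⟨t, htQ⟩, (F.le_of_mem hψ).2 _⟩ : S) ∈ conjElts F i := by
  obtain ⟨φ, hφ, hφi⟩ := ht
  have hval : ∀ x : Subgroup.zpowers (i : Ω), φ x ∈ Q := by
    intro x
    obtain ⟨n, hn⟩ := Subgroup.mem_zpowers_iff.mp x.2
    have hx : x = (⟨i, Subgroup.mem_zpowers _⟩ : Subgroup.zpowers (i : Ω)) ^ n := by
      apply Subtype.ext
      rw [Subgroup.coe_zpow]
      exact hn.symm
    rw [hx, map_zpow, hφi]
    exact Subgroup.zpow_mem _ htQ n
  refine ⟨_, F.comp_mem hφ hψ hval, ?_⟩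
  simp only [MonoidHom.coe_comp, Function.comp_apply]
  congr 1
  apply Subtype.ext
  exact hφi

theorem conjElts_conj (F : FusionSystem S) {i t : S} (ht : t ∈ conjElts F i) (s : S) :
    s * t * s⁻¹ ∈ conjElts F i := by
  have := conjElts_map F ht (F.conj_mem (le_refl S) s.2) t.2
  convert this using 1
  apply Subtype.ext
  simp [conjHom]

theorem range_eq_zpowers (t : Ω) (ψ : Subgroup.zpowers t →* Ω) :
    ψ.range = Subgroup.zpowers (ψ ⟨t, Subgroup.mem_zpowers t⟩) := by
  ext y
  constructor
  · rintro ⟨x, rfl⟩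
    obtain ⟨n, hn⟩ := Subgroup.mem_zpowers_iff.mp x.2
    have hx : x = (⟨t, Subgroup.mem_zpowers _⟩ : Subgroup.zpowers t) ^ n := by
      apply Subtype.ext
      rw [Subgroup.coe_zpow]
      exact hn.symm
    rw [hx, map_zpow]
    exact Subgroup.zpow_mem _ (Subgroup.mem_zpowers _) n
  · intro hy
    obtain ⟨n, rfl⟩ := Subgroup.mem_zpowers_iff.mp hy
    exact ⟨(⟨t, Subgroup.mem_zpowers _⟩ : Subgroup.zpowers t) ^ n, map_zpow _ _ _⟩


theorem orderOf_of_mem_conjElts (F : FusionSystem S) {i t : S} (ht : t ∈ conjElts F i) :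
    orderOf (t : Ω) = orderOf (i : Ω) := by
  obtain ⟨φ, hφ, hφi⟩ := ht
  rw [← hφi, orderOf_injective φ (F.injective_of_mem hφ), ← Subgroup.orderOf_coe]

open Classical in
/-- The sign character of a subgroup of index two. -/
noncomputable def signHom {G : Type*} [Group G] (H : Subgroup G) (hH : H.index = 2) : G →* ℤˣ where
  toFun := fun s => if s ∈ H then 1 else -1
  map_one' := if_pos H.one_mem
  map_mul' := by
    intro a b
    have := Subgroup.mul_mem_iff_of_index_two hH (a := a) (b := b)
    by_cases ha : a ∈ H <;> by_cases hb : b ∈ H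
    · rw [if_pos ha, if_pos hb, if_pos (this.mpr ⟨fun _ => hb, fun _ => ha⟩)]; rfl
    · rw [if_pos ha, if_neg hb, if_neg (fun hc => hb ((this.mp hc).mp ha))]; rfl
    · rw [if_neg ha, if_pos hb, if_neg (fun hc => ha ((this.mp hc).mpr hb))]; rfl
    · rw [if_neg ha, if_neg hb, if_pos (this.mpr ⟨fun hc => absurd hc ha, fun hc => absurd hc hb⟩)]
      rfl

theorem signHom_eq_neg_one_iff {G : Type*} [Group G] (H : Subgroup G) (hH : H.index = 2) (s : G) :
    signHom H hH s = -1 ↔ s ∉ H := by
  classical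
  change (if s ∈ H then (1 : ℤˣ) else -1) = -1 ↔ _
  by_cases hs : s ∈ H
  · rw [if_pos hs]
    constructor
    · intro h; exact absurd h (by decide)
    · intro h; exact absurd hs h
  · rw [if_neg hs]
    exact ⟨fun _ => hs, fun _ => rfl⟩

/-- The key divisibility: for a conjugate `t ∈ T` of the involution `i`, which is not fully
normalized, `2 · |C_S(t)|` divides the common number of fixed points. -/
theorem two_mul_card_centralizer_dvd [Finite S] (hS : IsPGroup 2 S) (F : FusionSystem S)
    {X : Type*} [Finite X] [MulAction (S × S) X]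
    (hstab : ∀ x : X, stabilizer (S × S) x ∈ graphs F)
    (hst : ∀ K K', frel F K K' → Nat.card (fixedPoints K X) = Nat.card (fixedPoints K' X))
    (i : S) (hi2 : orderOf (i : Ω) = 2)
    (t : S) (ht : t ∈ conjElts F i) (hnf : ¬ F.IsFullyNormalized (Subgroup.zpowers (t : Ω))) :
    2 * Nat.card (Subgroup.centralizer ({t} : Set S)) ∣ (fixSet X i i).ncard := by
  have ht2 : orderOf (t : Ω) = 2 := by rw [orderOf_of_mem_conjElts F ht, hi2]
  have htle : Subgroup.zpowers (t : Ω) ≤ S := by
    rw [Subgroup.zpowers_le]; exact t.2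
  unfold FusionSystem.IsFullyNormalized at hnf
  rw [not_and] at hnf
  have hnf' := hnf htle
  rw [not_forall] at hnf'
  obtain ⟨Q, hQ⟩ := hnf'
  rw [Classical.not_imp, not_le] at hQ
  obtain ⟨⟨ψ, hψ, hψQ⟩, hlt⟩ := hQ
  -- the conjugate `t'`
  set t' : S := ⟨ψ ⟨t, Subgroup.mem_zpowers _⟩, (F.le_of_mem hψ).2 _⟩ with ht'
  have ht'c : t' ∈ conjElts F i := conjElts_map F ht hψ (Subgroup.mem_zpowers _)
  have ht'2 : orderOf (t' : Ω) = 2 := by rw [orderOf_of_mem_conjElts F ht'c, hi2]
  have hQz : Q = Subgroup.zpowers (t' : Ω) := by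
    rw [← hψQ, range_eq_zpowers]
  -- the normalizer of `Q` acts freely
  have hNle : normalizerIn S Q ≤ S := inf_le_left
  have h1 : Nat.card ((normalizerIn S Q).subgroupOf S) ∣ (fixSet X i t').ncard := by
    apply card_dvd_ncard_fixSet F hstab
    intro c hc
    rw [Subgroup.mem_subgroupOf] at hc
    have hcN : (c : Ω) ∈ Subgroup.normalizer (Subgroup.zpowers (t' : Ω) : Set Ω) := by
      rw [← hQz]; exact hc.2
    have := conj_eq_of_mem_normalizer_zpowers ht'2 hcN
    apply Subtype.ext
    rw [Subgroup.coe_mul, Subgroup.coe_mul]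
    calc (c : Ω) * t' = ((c : Ω) * t' * (c : Ω)⁻¹) * c := by group
      _ = t' * c := by rw [this]
  rw [Nat.card_congr (Subgroup.subgroupOfEquivOfLe hNle).toEquiv,
    ncard_fixSet_eq F hst i ht'c (conjElts_self F i)] at h1
  -- the centralizer of `t` lies in the normalizer of `⟨t⟩`
  have h2 : Nat.card (Subgroup.centralizer ({t} : Set S)) ∣
      Nat.card (normalizerIn S (Subgroup.zpowers (t : Ω))) := by
    rw [← Subgroup.card_map_of_injective S.subtype_injective]
    apply Subgroup.card_dvd_of_le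
    rintro _ ⟨c, hc, rfl⟩
    refine ⟨c.2, ?_⟩
    rw [SetLike.mem_coe, Subgroup.mem_centralizer_iff] at hc
    have hct := congrArg Subtype.val (hc t rfl)
    simp only [Subgroup.coe_mul] at hct
    have hcent : (c : Ω) ∈ Subgroup.centralizer (Subgroup.zpowers (t : Ω) : Set Ω) := by
      rw [Subgroup.mem_centralizer_iff]
      intro z hz
      obtain ⟨n, rfl⟩ := Subgroup.mem_zpowers_iff.mp hz
      exact ((show Commute (t : Ω) c from hct).zpow_left n).eq
    exact Subgroup.centralizer_le_normalizer _ hcent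
  -- orders are powers of two
  obtain ⟨n, hn⟩ := IsPGroup.iff_card.mp hS
  have hpow : ∀ K : Subgroup Ω, K ≤ S → ∃ a, Nat.card K = 2 ^ a := by
    intro K hK
    have hd : Nat.card K ∣ 2 ^ n := by
      rw [← hn]; exact Subgroup.card_dvd_of_le hK
    obtain ⟨a, _, ha⟩ := (Nat.dvd_prime_pow Nat.prime_two).mp hd
    exact ⟨a, ha⟩
  obtain ⟨a, ha⟩ := hpow (normalizerIn S (Subgroup.zpowers (t : Ω))) inf_le_left
  obtain ⟨b, hb⟩ := hpow (normalizerIn S Q) hNle
  rw [ha, hb] at hlt
  have hab : a < b := (Nat.pow_lt_pow_iff_right (by norm_num)).mp hlt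
  have h3 : 2 * 2 ^ a ∣ 2 ^ b := by
    rw [← pow_succ']
    exact pow_dvd_pow 2 hab
  rw [ha] at h2
  rw [hb] at h1
  exact Dvd.dvd.trans (Dvd.dvd.trans (Nat.mul_dvd_mul_left 2 h2) h3) h1


/-- **Thompson-type transfer lemma for saturated fusion systems**: if `T` has index two in `S` and
every fully normalized conjugate of the involution `i` lies outside `T`, then `i` is not in the
focal subgroup. -/
theorem not_mem_focal_of_involution [Finite S] (hS : IsPGroup 2 S) (F : FusionSystem S)
    (hF : F.IsSaturated 2) (T : Subgroup Ω) (hT : T.relIndex S = 2) (i : Ω) (hi : i ∈ S)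
    (hi2 : orderOf i = 2)
    (h : ∀ j : Ω, F.IsConjElt i j → F.IsFullyNormalized (Subgroup.zpowers j) → j ∉ T) :
    i ∉ F.focalSubgroup := by
  classical
  haveI : Fact (Nat.Prime 2) := Nat.fact_prime_two
  obtain ⟨X, hXfin, hXact, hstab, hst, k, hk, hpk⟩ := exists_char_biset 2 hS F hF
  set iS : S := ⟨i, hi⟩ with hiS
  set T' : Subgroup S := T.subgroupOf S with hT'
  have hT'idx : T'.index = 2 := hT
  haveI hT'n : T'.Normal := Subgroup.normal_of_index_eq_two hT'idx
  set π : S →* ℤˣ := signHom T' hT'idx with hπ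
  have hfree := rightHom_free F hstab
  set θ : S →* ℤˣ := bisetTransfer F hstab π with hθ
  have hker := focal_le_ker F θ (fun P φ hφ a => bisetTransfer_map F hstab hst _ hφ a)
  intro hif
  obtain ⟨w, hw, hwi⟩ := hker hif
  have hw' : w = iS := Subtype.ext hwi
  rw [SetLike.mem_coe, MonoidHom.mem_ker, hw'] at hw
  set g : commSub (rightHom S X) := leftHom S X iS with hg
  have hgg : g * g = 1 := by
    rw [hg, ← map_mul]
    have : iS * iS = 1 := by
      apply Subtype.ext
      simp only [hiS, Subgroup.coe_mul, Subgroup.coe_one]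
      rw [← pow_two, ← hi2]; exact pow_orderOf_eq_one i
    rw [this, map_one]
  have hθi : θ iS = tr (rightHom S X) π hfree g := rfl
  letI : Fintype (Orb (rightHom S X)) := Fintype.ofFinite _
  rw [hθi, tr_of_involution (rightHom S X) π hfree g hgg, prod_units_eq] at hw
  -- the predicate on points
  let Pin : X → Prop := fun x => ∃ t : S, t ∈ T' ∧ ((iS, t) : S × S) • x = x
  have hPfwd : ∀ (r : S) (x : X), Pin x → Pin (rightHom S X r x) := by
    rintro r x ⟨t, htT, htx⟩
    refine ⟨r * t * r⁻¹, hT'n.conj_mem t htT r, ?_⟩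
    rw [rightHom_apply, ← mul_smul]
    have : ((iS, r * t * r⁻¹) : S × S) * (1, r) = (1, r) * (iS, t) := by
      apply Prod.ext
      · simp
      · simp
    rw [this, mul_smul, htx]
  have hPinv : ∀ (r : S) (x : X), Pin (rightHom S X r x) ↔ Pin x := by
    intro r x
    refine ⟨fun hp => ?_, hPfwd r x⟩
    have := hPfwd r⁻¹ _ hp
    rw [← Equiv.Perm.mul_apply, ← map_mul, inv_mul_cancel, map_one] at this
    exact this
  have hcount := ncard_invariant (rightHom S X) hfree Pin hPinv
  -- the set of conjugates of `i` in `T`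
  set Jin : Set S := {t | t ∈ T' ∧ t ∈ conjElts F iS} with hJin
  have hB : {x : X | Pin x} = {x : X | ∃ t ∈ Jin, x ∈ fixSet X iS t} := by
    ext x
    constructor
    · rintro ⟨t, htT, htx⟩
      exact ⟨t, ⟨htT, mem_conjElts_of_mem_graph F (hstab x) htx⟩, htx⟩
    · rintro ⟨t, ⟨htT, _⟩, htx⟩
      exact ⟨t, htT, htx⟩
  have hN : ∀ t ∈ Jin, (fixSet X iS t).ncard = (fixSet X iS iS).ncard :=
    fun t ht => ncard_fixSet_eq F hst iS ht.2 (conjElts_self F iS)
  have hcount2 := ncard_iUnion_fixSet F hstab iS Jin _ hN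
  rw [← hB, hcount] at hcount2
  have hJconj : ∀ (s t : S), t ∈ Jin → s * t * s⁻¹ ∈ Jin :=
    fun s t ht => ⟨hT'n.conj_mem t ht.1 s, conjElts_conj F ht.2 s⟩
  have hdiv : ∀ t ∈ Jin, 2 * Nat.card (Subgroup.centralizer ({t} : Set S)) ∣ (fixSet X iS iS).ncard := by
    intro t ht
    apply two_mul_card_centralizer_dvd hS F hstab hst iS hi2 t ht.2
    intro hfn
    exact h (t : Ω) ht.2 hfn (Subgroup.mem_subgroupOf.mp ht.1)
  -- the number of fixed orbits with value in `T` is even
  have heven : Even {y : Orb (rightHom S X) | Pin (sec (rightHom S X) y)}.ncard := by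
    by_cases hJe : Jin = ∅
    · rw [hJe, Set.ncard_empty, zero_mul] at hcount2
      have : {y : Orb (rightHom S X) | Pin (sec (rightHom S X) y)}.ncard = 0 := by
        rcases Nat.mul_eq_zero.mp hcount2 with h0 | h0
        · exact h0
        · exact absurd h0 Nat.card_pos.ne'
      rw [this]
      exact ⟨0, rfl⟩
    · obtain ⟨t₀, ht₀⟩ := Set.nonempty_iff_ne_empty.mpr hJe
      obtain ⟨q, hq⟩ := hdiv t₀ ht₀
      set N' := Nat.card (Subgroup.centralizer ({t₀} : Set S)) * q with hN'
      have hNN' : (fixSet X iS iS).ncard = 2 * N' := by rw [hq, hN']; ring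
      have hd : ∀ t ∈ Jin, Nat.card (Subgroup.centralizer ({t} : Set S)) ∣ N' := by
        intro t ht
        have := hdiv t ht
        rw [hNN'] at this
        exact Nat.dvd_of_mul_dvd_mul_left (by norm_num) this
      obtain ⟨e, he⟩ := card_dvd_mul_ncard_conj Jin hJconj N' hd
      rw [hNN'] at hcount2
      have h2 : {y : Orb (rightHom S X) | Pin (sec (rightHom S X) y)}.ncard * Nat.card S =
          (2 * e) * Nat.card S := by
        rw [hcount2]
        calc Jin.ncard * (2 * N') = 2 * (N' * Jin.ncard) := by ring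
          _ = 2 * (Nat.card S * e) := by rw [he]
          _ = (2 * e) * Nat.card S := by ring
      have h3 := Nat.eq_of_mul_eq_mul_right Nat.card_pos h2
      rw [h3]
      exact ⟨e, by ring⟩
  -- translate to the orbit space
  set FixY := Finset.univ.filter (fun y : Orb (rightHom S X) => barMap (rightHom S X) g y = y) with hFixY
  have hIn : ((FixY.filter (fun y => ¬ π (tc (rightHom S X) g y) = -1) : Finset _) : Set (Orb (rightHom S X))) =
      {y : Orb (rightHom S X) | Pin (sec (rightHom S X) y)} := by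
    ext y
    simp only [Finset.coe_filter, Set.mem_ofPred_eq, hFixY, Finset.mem_filter, Finset.mem_univ, true_and]
    constructor
    · rintro ⟨h1, h2⟩
      have hr : tc (rightHom S X) g y ∈ T' := by
        by_contra hc
        exact h2 ((signHom_eq_neg_one_iff T' hT'idx _).mpr hc)
      have h3 := (barMap_tc_iff (rightHom S X) hfree g y _).mp ⟨h1, rfl⟩
      rw [hg, leftHom_apply, rightHom_apply] at h3
      refine ⟨(tc (rightHom S X) g y)⁻¹, T'.inv_mem hr, ?_⟩
      have e1 : ((iS, (tc (rightHom S X) g y)⁻¹) : S × S) =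
          (1, (tc (rightHom S X) g y)⁻¹) * (iS, 1) := by simp
      rw [e1, mul_smul, h3, ← mul_smul]
      have e2 : ((1, (tc (rightHom S X) g y)⁻¹) : S × S) * (1, tc (rightHom S X) g y) = 1 := by
        apply Prod.ext <;> simp
      rw [e2, one_smul]
    · rintro ⟨t, htT, htx⟩
      have h3 : (g : Equiv.Perm X) (sec (rightHom S X) y) =
          rightHom S X t⁻¹ (sec (rightHom S X) y) := by
        rw [hg, leftHom_apply, rightHom_apply]
        have e1 : ((iS, 1) : S × S) = (1, t⁻¹) * (iS, t) := by simp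
        rw [e1, mul_smul, htx]
      obtain ⟨h4, h5⟩ := (barMap_tc_iff (rightHom S X) hfree g y _).mpr h3
      refine ⟨h4, ?_⟩
      rw [h5, signHom_eq_neg_one_iff]
      exact fun hc => hc (T'.inv_mem htT)
  have hInEven : Even (FixY.filter (fun y => ¬ π (tc (rightHom S X) g y) = -1)).card := by
    rw [← Set.ncard_coe_finset, hIn]
    exact heven
  -- parity of the number of fixed orbits
  have hpar := card_fixed_barMap_modEq (rightHom S X) g hgg
  have hcard := card_orb_mul (rightHom S X) hfree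
  rw [hk] at hcard
  have hk' : Nat.card (Orb (rightHom S X)) = k := Nat.eq_of_mul_eq_mul_right Nat.card_pos hcard
  rw [hk'] at hpar
  have hsplit := Finset.card_filter_add_card_filter_not (s := FixY)
    (fun y => π (tc (rightHom S X) g y) = -1)
  have hkodd : k % 2 = 1 := by
    rcases Nat.mod_two_eq_zero_or_one k with h0 | h1
    · exact absurd (Nat.dvd_of_mod_eq_zero h0) hpk
    · exact h1
  have hodd : Odd (FixY.filter (fun y => π (tc (rightHom S X) g y) = -1)).card := by
    obtain ⟨e, he⟩ := hInEven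
    have h5 : FixY.card % 2 = 1 := by
      have := hpar
      unfold Nat.ModEq at this
      rw [← hFixY] at this
      omega
    rw [Nat.odd_iff]
    omega
  rw [Odd.neg_one_pow hodd] at hw
  exact absurd hw (by decide)


theorem hyperfocal_le_focal (F : FusionSystem S) (p : ℕ) : F.hyperfocalSubgroup p ≤ F.focalSubgroup := by
  unfold FusionSystem.hyperfocalSubgroup
  rw [Subgroup.closure_le]
  rintro _ ⟨P, α, x, hPS, -, rfl⟩
  apply Subgroup.subset_closure
  have hα := α.2
  rw [mem_autGroup_iff F hPS] at hα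
  exact ⟨P, _, x, hα, rfl⟩

end Cfsg.Agent.Lib.Helper8.CB
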