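import Mathlib
import Cfsg.Prelude.Def_Characters
import Cfsg.Agent.Lib.Helper8.CD2

/-!
# Codegrees of irreducible characters, III: primes dividing codegrees
-/

set_option autoImplicit false

namespace Cfsg.Agent.Lib.Helper8

open Cfsg
open scoped ComplexConjugate
open Cfsg.Agent.Lib.Helper1 Cfsg.Agent.Lib.Helper4

universe u

section

variable {G : Type u} [Group G] [Finite G]

/-- If `p` does not divide the codegree of `χ`, then `χ` takes only the values `χ 1` and `0` on
elements of order dividing `p`. -/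
theorem apply_eq_or_eq_zero_of_not_dvd_codegree {p : ℕ} [hp : Fact p.Prime] (χ : IrrCharacter G)
    (h : ¬ p ∣ Nat.card G / (Nat.card {g : G // (χ : G → ℂ) g = (χ : G → ℂ) 1} *
      charDegree (χ : G → ℂ))) {x : G} (hx : x ^ p = 1) :
    (χ : G → ℂ) x = (χ : G → ℂ) 1 ∨ (χ : G → ℂ) x = 0 := by
  classical
  obtain ⟨K, hKn, hK, hcard, hdvd⟩ := exists_kernel_data χ
  haveI := hKn
  by_cases hxK : x ∈ K
  · exact Or.inl ((hK x).1 hxK)
  right
  obtain ⟨ψ, hψ, hψχ⟩ := exists_deflation K χ.2 (fun g hg => (hK g).1 hg)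
  have hdeg : charDegree ψ = charDegree (χ : G → ℂ) := by
    unfold charDegree
    have := hψχ 1
    rw [QuotientGroup.mk_one] at this
    rw [this]
  have hKpos : 0 < Nat.card K := Nat.card_pos
  have hd0 := (irr_apply_one_eq_charDegree χ.2).2
  obtain ⟨e, he⟩ := hdvd
  have hcod : Nat.card G / (Nat.card {g : G // (χ : G → ℂ) g = (χ : G → ℂ) 1} *
      charDegree (χ : G → ℂ)) = e := by
    rw [hcard, ← Subgroup.card_mul_index K, he, ← mul_assoc, Nat.mul_div_cancel_left]
    exact Nat.mul_pos hKpos hd0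
  rw [hcod] at h
  have hidx : Nat.card (G ⧸ K) = charDegree (χ : G → ℂ) * e := by
    rw [← he]
    rfl
  have he0 : e ≠ 0 := by
    rintro rfl
    exact h (dvd_zero p)
  have hfac : (Nat.card (G ⧸ K)).factorization p = (charDegree (χ : G → ℂ)).factorization p := by
    rw [hidx, Nat.factorization_mul hd0.ne' he0, Finsupp.add_apply,
      Nat.factorization_eq_zero_of_not_dvd h, add_zero]
  have hpow : p ^ (Nat.card (G ⧸ K)).factorization p ∣ charDegree ((⟨ψ, hψ⟩ : IrrCharacter (G ⧸ K)) :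
      G ⧸ K → ℂ) := by
    change _ ∣ charDegree ψ
    rw [hdeg, hfac]
    exact Nat.ordProj_dvd _ _
  have hne : (QuotientGroup.mk x : G ⧸ K) ≠ 1 := by
    intro h1
    exact hxK ((QuotientGroup.eq_one_iff x).1 h1)
  have hord : orderOf (QuotientGroup.mk x : G ⧸ K) = p := by
    apply orderOf_eq_prime
    · rw [← QuotientGroup.mk_pow, hx, QuotientGroup.mk_one]
    · exact hne
  haveI : Fintype (G ⧸ K) := Fintype.ofFinite _
  have h0 := irr_eq_zero_of_pow_dvd_degree p (⟨ψ, hψ⟩ : IrrCharacter (G ⧸ K)) hpow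
    (g := (QuotientGroup.mk x : G ⧸ K)) (by rw [hord])
  rw [← hψχ x]
  exact h0

/-- A prime dividing `|G|` divides some codegree. -/
theorem exists_dvd_codegree {p : ℕ} (hp : p.Prime) (hpG : p ∣ Nat.card G) :
    ∃ χ : IrrCharacter G, p ∣ Nat.card G /
      (Nat.card {g : G // (χ : G → ℂ) g = (χ : G → ℂ) 1} * charDegree (χ : G → ℂ)) := by
  classical
  haveI : Fact p.Prime := ⟨hp⟩
  by_contra hcon
  push Not at hcon
  haveI : Fintype G := Fintype.ofFinite _
  haveI : Fintype (IrrCharacter G) := Fintype.ofFinite _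
  obtain ⟨x, hx⟩ := exists_prime_orderOf_dvd_card' p hpG
  have hxp : x ^ p = 1 := by rw [← hx]; exact pow_orderOf_eq_one x
  have hx1 : x ≠ 1 := by
    rintro rfl
    rw [orderOf_one] at hx
    exact hp.one_lt.ne hx
  have hcol := column_orthogonality (G := G) 1 x
  have hind : classIndicator (1 : G) x = 0 := by
    unfold classIndicator
    rw [if_neg]
    intro hc
    exact hx1 (isConj_one_right.1 hc)
  rw [hind, mul_zero] at hcol
  -- each term is a nonnegative real
  have hterm : ∀ χ : IrrCharacter G, ∃ r : ℝ, 0 ≤ r ∧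
      (χ : G → ℂ) x * conj ((χ : G → ℂ) 1) = (r : ℂ) := by
    intro χ
    obtain ⟨hd1, hd0⟩ := irr_apply_one_eq_charDegree χ.2
    rcases apply_eq_or_eq_zero_of_not_dvd_codegree χ (hcon χ) hxp with h | h
    · refine ⟨(charDegree (χ : G → ℂ) : ℝ) * (charDegree (χ : G → ℂ) : ℝ), by positivity, ?_⟩
      rw [h, hd1]
      simp
    · refine ⟨0, le_refl _, ?_⟩
      rw [h]
      simp
  choose r hr0 hr using hterm
  have hsum : ∑ χ : IrrCharacter G, ((r χ : ℝ) : ℂ) = 0 := by
    rw [← hcol]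
    exact Finset.sum_congr rfl (fun χ _ => (hr χ).symm)
  have hsumR : ∑ χ : IrrCharacter G, r χ = 0 := by
    have : ((∑ χ : IrrCharacter G, r χ : ℝ) : ℂ) = 0 := by
      rw [← hsum]
      push_cast
      rfl
    exact_mod_cast this
  have hall := (Finset.sum_eq_zero_iff_of_nonneg (fun χ _ => hr0 χ)).1 hsumR
  have ht := hall (trivIrr G) (Finset.mem_univ _)
  have ht2 := hr (trivIrr G)
  rw [ht, trivIrr_apply, trivIrr_apply] at ht2
  simp at ht2

end

end Cfsg.Agent.Lib.Helper8
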