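import Mathlib
import Cfsg.Prelude.Def_Characters
import Cfsg.Agent.Lib.Helper8.CD4

/-!
# Characters induced from Sylow subgroups and prime power codegrees, II
-/

set_option autoImplicit false

namespace Cfsg.Agent.Lib.Helper8

open Cfsg
open scoped ComplexConjugate
open Cfsg.Agent.Lib.Helper1 Cfsg.Agent.Lib.Helper4

universe u

section

variable {G : Type u} [Group G] [Fintype G]

/-- If `|G| = p ^ k * χ 1` then `χ` is induced from a Sylow `p`-subgroup. -/
theorem exists_sylow_induced {p : ℕ} [hp : Fact p.Prime] (χ : IrrCharacter G) {k : ℕ}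
    (hk : Nat.card G = p ^ k * charDegree (χ : G → ℂ)) :
    ∃ (P : Sylow p G) (θ : ↥(P : Subgroup G) → ℂ), IsCharacter ↥(P : Subgroup G) θ ∧
      (χ : G → ℂ) = indFun (P : Subgroup G) θ := by
  classical
  obtain ⟨P⟩ : Nonempty (Sylow p G) := inferInstance
  haveI : Fintype (P : Subgroup G) := Fintype.ofFinite _
  haveI : Fintype (IrrCharacter (P : Subgroup G)) := Fintype.ofFinite _
  obtain ⟨hd1, hd0⟩ := irr_apply_one_eq_charDegree χ.2
  set d := charDegree (χ : G → ℂ) with hd
  set m := (P : Subgroup G).index with hm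
  have hpm : ¬ p ∣ m := P.not_dvd_index
  have hPm : Nat.card (P : Subgroup G) * m = Nat.card G := Subgroup.card_mul_index _
  have hPa : Nat.card (P : Subgroup G) = p ^ (Nat.card G).factorization p :=
    P.card_eq_multiplicity
  set a := (Nat.card G).factorization p with ha
  have hm0 : 0 < m := Nat.pos_of_ne_zero (fun h0 => hpm (h0 ▸ dvd_zero p))
  have heq : p ^ a * m = p ^ k * d := by rw [← hPa, hPm, hk]
  have hcop : Nat.Coprime m (p ^ k) :=
    Nat.Coprime.pow_right k ((Nat.Prime.coprime_iff_not_dvd hp.out).2 hpm).symm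
  have hmd : m ∣ d := hcop.dvd_of_dvd_mul_left ⟨p ^ a, by rw [← heq, mul_comm]⟩
  obtain ⟨e, he⟩ := hmd
  have hpe : p ^ a = p ^ k * e := by
    have : p ^ a * m = (p ^ k * e) * m := by rw [heq, he]; ring
    exact Nat.eq_of_mul_eq_mul_right hm0 this
  obtain ⟨b, -, hb⟩ := (Nat.dvd_prime_pow hp.out).1 ⟨p ^ k, by rw [hpe, mul_comm]⟩
  -- restriction to P
  set χP : ↥(P : Subgroup G) → ℂ := fun h => (χ : G → ℂ) h with hχP
  have hχPc : IsCharacter ↥(P : Subgroup G) χP :=
    isCharacter_comp_hom (isCharacter_of_irr χ.2) (P : Subgroup G).subtype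
  obtain ⟨n, hn, hdec⟩ := exists_nat_mult hχPc
  have h1 := apply_one_eq_sum_mult n hdec
  have hχP1 : χP 1 = (d : ℂ) := hd1
  rw [hχP1] at h1
  have h1' : d = ∑ ζ : IrrCharacter ↥(P : Subgroup G), n ζ *
      charDegree (ζ : ↥(P : Subgroup G) → ℂ) := by exact_mod_cast h1
  -- a constituent of small degree
  have hex : ∃ θ : IrrCharacter ↥(P : Subgroup G), n θ ≠ 0 ∧
      charDegree (θ : ↥(P : Subgroup G) → ℂ) ∣ p ^ b := by
    by_contra hcon
    push Not at hcon
    have hdvd : p ^ (b + 1) ∣ ∑ ζ : IrrCharacter ↥(P : Subgroup G), n ζ *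
        charDegree (ζ : ↥(P : Subgroup G) → ℂ) := by
      apply Finset.dvd_sum
      intro ζ _
      by_cases hz : n ζ = 0
      · rw [hz, zero_mul]
        exact dvd_zero _
      · have h2 := hcon ζ hz
        have h3 : charDegree (ζ : ↥(P : Subgroup G) → ℂ) ∣ p ^ a := by
          rw [← hPa]
          exact charDegree_dvd_card ζ.2
        obtain ⟨j, -, hj⟩ := (Nat.dvd_prime_pow hp.out).1 h3
        rw [hj] at h2 ⊢
        have hjb : b < j := by
          by_contra hle
          exact h2 (pow_dvd_pow p (not_lt.1 hle))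
        exact dvd_mul_of_dvd_right (pow_dvd_pow p hjb) _
    rw [← h1', he, hb, pow_succ] at hdvd
    have : p ∣ m := by
      have h4 : p ^ b * p ∣ p ^ b * m := by rwa [mul_comm m] at hdvd
      exact Nat.dvd_of_mul_dvd_mul_left (pow_pos hp.out.pos b) h4
    exact hpm this
  obtain ⟨θ, hθn, hθd⟩ := hex
  refine ⟨P, (θ : ↥(P : Subgroup G) → ℂ), isCharacter_of_irr θ.2, ?_⟩
  symm
  have hΨ : IsCharacter G (indFun (P : Subgroup G) (θ : ↥(P : Subgroup G) → ℂ)) :=
    Cfsg.Agent.S0148.result _ _ (isCharacter_of_irr θ.2)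
  have hθ1 := (irr_apply_one_eq_charDegree θ.2).1
  apply eq_irr_of_degree_le hΨ χ ?_ _ (indFun_apply_one_nat _ _ hθ1)
  · rw [← hm, ← hd, he]
    exact Nat.mul_le_mul_left m (hb ▸ Nat.le_of_dvd (pow_pos hp.out.pos b) hθd)
  · rw [Cfsg.Agent.S0146.result _ _ _ (isClassFunction_of_isCharacter (isCharacter_of_irr χ.2)),
      ← classInner_conj_symm]
    change conj (classInner χP (θ : ↥(P : Subgroup G) → ℂ)) ≠ 0
    rw [hn θ]
    simpa using hθn

/-- If `χ` is induced from a character of a Sylow `p`-subgroup then `|G| / χ 1` is a power of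
`p`. -/
theorem card_eq_pow_mul_of_sylow_induced {p : ℕ} [hp : Fact p.Prime] (χ : IrrCharacter G)
    (P : Sylow p G) (θ : ↥(P : Subgroup G) → ℂ) (hθ : IsCharacter ↥(P : Subgroup G) θ)
    (hχ : (χ : G → ℂ) = indFun (P : Subgroup G) θ) :
    ∃ k : ℕ, Nat.card G = p ^ k * charDegree (χ : G → ℂ) := by
  classical
  obtain ⟨hd1, hd0⟩ := irr_apply_one_eq_charDegree χ.2
  obtain ⟨x, hx⟩ := isCharacter_apply_one hθ
  have h1 := indFun_apply_one_nat (P : Subgroup G) θ hx
  rw [← hχ, hd1] at h1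
  have h1' : charDegree (χ : G → ℂ) = (P : Subgroup G).index * x := by exact_mod_cast h1
  set m := (P : Subgroup G).index with hm
  have hpm : ¬ p ∣ m := P.not_dvd_index
  have hm0 : 0 < m := Nat.pos_of_ne_zero (fun h0 => hpm (h0 ▸ dvd_zero p))
  have hPm : Nat.card (P : Subgroup G) * m = Nat.card G := Subgroup.card_mul_index _
  have hPa : Nat.card (P : Subgroup G) = p ^ (Nat.card G).factorization p :=
    P.card_eq_multiplicity
  set a := (Nat.card G).factorization p with ha
  have hdvd := charDegree_dvd_card χ.2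
  rw [h1', ← hPm, hPa, mul_comm m x] at hdvd
  have hx : x ∣ p ^ a := Nat.dvd_of_mul_dvd_mul_right hm0 hdvd
  obtain ⟨j, hja, hj⟩ := (Nat.dvd_prime_pow hp.out).1 hx
  refine ⟨a - j, ?_⟩
  rw [h1', ← hPm, hPa, hj]
  have : p ^ a = p ^ (a - j) * p ^ j := by rw [← pow_add, Nat.sub_add_cancel hja]
  rw [this]
  ring

end

end Cfsg.Agent.Lib.Helper8
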