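import Mathlib
import Cfsg.Agent.Lib.Helper6.TT1
import Cfsg.Agent.Lib.Helper2.Basic

set_option autoImplicit false

/-!
# Class sizes: basic facts, coprime class sizes, stabilizers of classes under translation
-/

namespace Cfsg.Agent.Lib.Helper8.CGr

variable {G : Type*} [Group G]

/-- the size of the conjugacy class of `g`, as the index of its centralizer -/
noncomputable def cs (g : G) : ℕ := (Subgroup.centralizer ({g} : Set G)).index

theorem cs_def (g : G) : cs g = (Subgroup.centralizer ({g} : Set G)).index := rfl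

theorem mem_conj_iff {y c : G} : c ∈ conjugatesOf y ↔ ∃ g, g * y * g⁻¹ = c := isConj_iff

theorem conj_mem_conj (y g : G) : g * y * g⁻¹ ∈ conjugatesOf y := mem_conj_iff.mpr ⟨g, rfl⟩

theorem cs_eq_card (g : G) : cs g = Nat.card (conjugatesOf g) :=
  (Cfsg.Agent.Lib.Helper6.TT.card_conjugatesOf g).symm

theorem cs_conj (h g : G) : cs (h * g * h⁻¹) = cs g := by
  rw [cs_eq_card, cs_eq_card]
  have : conjugatesOf (h * g * h⁻¹) = conjugatesOf g := by
    apply IsConj.conjugatesOf_eq
    exact (isConj_iff.mpr ⟨h, rfl⟩).symm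
  rw [this]

theorem cs_ne_zero [Finite G] (g : G) : cs g ≠ 0 := Subgroup.index_ne_zero_of_finite

theorem cs_eq_one_iff (g : G) : cs g = 1 ↔ g ∈ Subgroup.center G := by
  rw [cs_def, Subgroup.index_eq_one, Subgroup.centralizer_eq_top_iff_subset,
    Set.singleton_subset_iff]
  rfl

theorem cs_dvd_of_le {g g' : G}
    (h : Subgroup.centralizer ({g} : Set G) ≤ Subgroup.centralizer ({g'} : Set G)) :
    cs g' ∣ cs g := Subgroup.index_dvd_of_le h

theorem centralizer_le_of_mem_zpowers {g g' : G} (h : g' ∈ Subgroup.zpowers g) :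
    Subgroup.centralizer ({g} : Set G) ≤ Subgroup.centralizer ({g'} : Set G) := by
  intro c hc
  rw [Subgroup.mem_centralizer_singleton_iff] at hc ⊢
  obtain ⟨k, rfl⟩ := Subgroup.mem_zpowers_iff.mp h
  have : Commute c g := hc
  exact (this.zpow_right k).eq

theorem cs_dvd_of_mem_zpowers {g g' : G} (h : g' ∈ Subgroup.zpowers g) : cs g' ∣ cs g :=
  cs_dvd_of_le (centralizer_le_of_mem_zpowers h)

theorem centralizer_mul_central (g z : G) (hz : z ∈ Subgroup.center G) :
    Subgroup.centralizer ({g * z} : Set G) = Subgroup.centralizer ({g} : Set G) := by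
  ext c
  rw [Subgroup.mem_centralizer_singleton_iff, Subgroup.mem_centralizer_singleton_iff]
  have hzc : z * c = c * z := (Subgroup.mem_center_iff.mp hz c).symm
  constructor
  · intro h
    have h1 : g * c * z = c * g * z := by
      calc g * c * z = g * (c * z) := by group
        _ = g * (z * c) := by rw [hzc]
        _ = g * z * c := by group
        _ = c * (g * z) := h.symm
        _ = c * g * z := by group
    exact (mul_right_cancel h1).symm
  · intro h
    symm
    calc g * z * c = g * (z * c) := by group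
      _ = g * (c * z) := by rw [hzc]
      _ = g * c * z := by group
      _ = c * g * z := by rw [h]
      _ = c * (g * z) := by group

theorem cs_mul_central (g z : G) (hz : z ∈ Subgroup.center G) : cs (g * z) = cs g := by
  rw [cs_def, cs_def, centralizer_mul_central g z hz]

theorem cs_central_mul (z g : G) (hz : z ∈ Subgroup.center G) : cs (z * g) = cs g := by
  have : z * g = g * z := (Subgroup.mem_center_iff.mp hz g).symm
  rw [this, cs_mul_central g z hz]

theorem cs_inv (g : G) : cs g⁻¹ = cs g := by
  apply Nat.dvd_antisymm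
  · exact cs_dvd_of_mem_zpowers (Subgroup.inv_mem _ (Subgroup.mem_zpowers g))
  · have : g ∈ Subgroup.zpowers g⁻¹ := by
      have := Subgroup.inv_mem _ (Subgroup.mem_zpowers g⁻¹)
      rwa [inv_inv] at this
    exact cs_dvd_of_mem_zpowers this

theorem cs_one : cs (1 : G) = 1 := (cs_eq_one_iff 1).mpr (Subgroup.one_mem _)

/-! ### coprime class sizes -/

section Coprime

variable [Finite G]

/-- coprime indices: the index of the intersection is the product. -/
theorem index_inf_of_coprime (A B : Subgroup G)
    (hcop : A.index.Coprime B.index) : (A ⊓ B).index = A.index * B.index := by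
  apply le_antisymm Subgroup.index_inf_le
  have h0 : (A ⊓ B).index ≠ 0 := Subgroup.index_ne_zero_of_finite
  apply Nat.le_of_dvd (Nat.pos_of_ne_zero h0)
  exact hcop.mul_dvd_of_dvd_of_dvd (Subgroup.index_dvd_of_le inf_le_left)
    (Subgroup.index_dvd_of_le inf_le_right)

/-- coprime indices: the group is the product of the two subgroups. -/
theorem exists_mul_of_coprime_index (A B : Subgroup G)
    (hcop : A.index.Coprime B.index) (x : G) : ∃ a ∈ A, ∃ b ∈ B, x = a * b := by
  have h1 := index_inf_of_coprime A B hcop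
  have h2 : (A ⊓ B).relIndex A * A.index = (A ⊓ B).index := Subgroup.relIndex_mul_index inf_le_left
  rw [Subgroup.inf_relIndex_left, h1, mul_comm] at h2
  have hApos : 0 < A.index := Nat.pos_of_ne_zero Subgroup.index_ne_zero_of_finite
  have h3 : B.relIndex A = B.index := Nat.eq_of_mul_eq_mul_left hApos h2
  -- the map `A / (A ⊓ B) → G / B` is injective between sets of the same size
  have hinj : Function.Injective (fun q : A ⧸ B.subgroupOf A =>
      Quotient.liftOn' q (fun a : A => ((a : G) : G ⧸ B)) (by
        intro a b hab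
        rw [QuotientGroup.leftRel_apply, Subgroup.mem_subgroupOf] at hab
        exact QuotientGroup.eq.mpr (by simpa using hab))) := by
    intro q1 q2
    induction q1 using Quotient.inductionOn' with | _ a => ?_
    induction q2 using Quotient.inductionOn' with | _ b => ?_
    intro h
    have h' : ((a : G) : G ⧸ B) = ((b : G) : G ⧸ B) := h
    apply Quotient.sound'
    rw [QuotientGroup.leftRel_apply, Subgroup.mem_subgroupOf]
    have := QuotientGroup.eq.mp h'
    simpa using this
  have hcard : Nat.card (G ⧸ B) ≤ Nat.card (A ⧸ B.subgroupOf A) := by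
    have e1 : Nat.card (G ⧸ B) = B.index := (Subgroup.index_eq_card B).symm
    have e2 : Nat.card (A ⧸ B.subgroupOf A) = B.relIndex A := by
      rw [Subgroup.relIndex, Subgroup.index_eq_card]
    rw [e1, e2, h3]
  have hbij := Function.Injective.bijective_of_nat_card_le hinj hcard
  obtain ⟨q, hq⟩ := hbij.2 (x : G ⧸ B)
  induction q using Quotient.inductionOn' with | _ a => ?_
  have hq' : ((a : G) : G ⧸ B) = (x : G ⧸ B) := hq
  have := QuotientGroup.eq.mp hq'
  refine ⟨a, a.2, (a : G)⁻¹ * x, this, ?_⟩
  group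

theorem exists_mul (x y : G) (h : (cs x).Coprime (cs y)) (g : G) :
    ∃ a ∈ Subgroup.centralizer ({x} : Set G), ∃ b ∈ Subgroup.centralizer ({y} : Set G),
      g = a * b :=
  exists_mul_of_coprime_index _ _ h g

/-- a product of conjugates of `x` and `y` is a conjugate of `x * y` -/
theorem conj_mul_conj (x y : G) (h : (cs x).Coprime (cs y)) (g₁ g₂ : G) :
    g₁ * x * g₁⁻¹ * (g₂ * y * g₂⁻¹) ∈ conjugatesOf (x * y) := by
  obtain ⟨b, hb, a, ha, hab⟩ := exists_mul y x h.symm (g₂⁻¹ * g₁)
  rw [Subgroup.mem_centralizer_singleton_iff] at ha hb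
  rw [mem_conj_iff]
  refine ⟨g₂ * b, ?_⟩
  have h1 : g₁ = g₂ * (b * a) := by rw [← hab]; group
  have h2 : a * x * a⁻¹ = x := by
    calc a * x * a⁻¹ = x * a * a⁻¹ := by rw [ha]
      _ = x := by group
  have h3 : b * y * b⁻¹ = y := by
    calc b * y * b⁻¹ = y * b * b⁻¹ := by rw [hb]
      _ = y := by group
  calc g₂ * b * (x * y) * (g₂ * b)⁻¹
      = g₂ * (b * x * b⁻¹) * (b * y * b⁻¹) * g₂⁻¹ := by group
    _ = g₂ * (b * (a * x * a⁻¹) * b⁻¹) * y * g₂⁻¹ := by rw [h2, h3]
    _ = (g₂ * (b * a)) * x * (g₂ * (b * a))⁻¹ * (g₂ * y * g₂⁻¹) := by group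
    _ = g₁ * x * g₁⁻¹ * (g₂ * y * g₂⁻¹) := by rw [← h1]

theorem cs_mul_dvd (x y : G) (h : (cs x).Coprime (cs y)) : cs (x * y) ∣ cs x * cs y := by
  have h1 := index_inf_of_coprime _ _ h
  rw [cs_def, cs_def y, cs_def x, ← h1]
  apply Subgroup.index_dvd_of_le
  intro c hc
  rw [Subgroup.mem_inf, Subgroup.mem_centralizer_singleton_iff,
    Subgroup.mem_centralizer_singleton_iff] at hc
  rw [Subgroup.mem_centralizer_singleton_iff]
  symm
  calc x * y * c = x * (y * c) := by group
    _ = x * (c * y) := by rw [hc.2]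
    _ = x * c * y := by group
    _ = c * x * y := by rw [hc.1]
    _ = c * (x * y) := by group

theorem cs_le_mul_right (x y : G) (h : (cs x).Coprime (cs y)) : cs y ≤ cs (x * y) := by
  rw [cs_eq_card, cs_eq_card]
  have hf : ∀ c : conjugatesOf y, x * (c : G) ∈ conjugatesOf (x * y) := by
    rintro ⟨c, hc⟩
    obtain ⟨g, rfl⟩ := mem_conj_iff.mp hc
    have := conj_mul_conj x y h 1 g
    simpa using this
  apply Nat.card_le_card_of_injective (fun c : conjugatesOf y =>
    (⟨x * (c : G), hf c⟩ : conjugatesOf (x * y)))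
  intro c c' hcc
  have : x * (c : G) = x * (c' : G) := congrArg Subtype.val hcc
  exact Subtype.ext (mul_left_cancel this)

theorem cs_le_mul_left (x y : G) (h : (cs x).Coprime (cs y)) : cs x ≤ cs (x * y) := by
  rw [cs_eq_card, cs_eq_card]
  have hf : ∀ c : conjugatesOf x, (c : G) * y ∈ conjugatesOf (x * y) := by
    rintro ⟨c, hc⟩
    obtain ⟨g, rfl⟩ := mem_conj_iff.mp hc
    have := conj_mul_conj x y h g 1
    simpa using this
  apply Nat.card_le_card_of_injective (fun c : conjugatesOf x =>
    (⟨(c : G) * y, hf c⟩ : conjugatesOf (x * y)))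
  intro c c' hcc
  have : (c : G) * y = (c' : G) * y := congrArg Subtype.val hcc
  exact Subtype.ext (mul_right_cancel this)

end Coprime

end Cfsg.Agent.Lib.Helper8.CGr
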