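import Mathlib
import Cfsg.Agent.Lib.Helper8.CGr1

set_option autoImplicit false

/-!
# Class sizes: translation stabilizers of classes, centralizing coprime normal subgroups,
parts of elements
-/

namespace Cfsg.Agent.Lib.Helper8.CGr

variable {G : Type*} [Group G]

/-- the left-translation stabilizer of the class of `y` -/
def Rst (y : G) : Subgroup G where
  carrier := {u | ∀ c ∈ conjugatesOf y, u * c ∈ conjugatesOf y ∧ u⁻¹ * c ∈ conjugatesOf y}
  one_mem' := by
    intro c hc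
    simpa using hc
  mul_mem' := by
    intro u v hu hv c hc
    refine ⟨?_, ?_⟩
    · rw [mul_assoc]
      exact (hu _ (hv c hc).1).1
    · rw [mul_inv_rev, mul_assoc]
      exact (hv _ (hu c hc).2).2
  inv_mem' := by
    intro u hu c hc
    refine ⟨(hu c hc).2, ?_⟩
    rw [inv_inv]
    exact (hu c hc).1

theorem mem_Rst {y u : G} : u ∈ Rst y ↔
    ∀ c ∈ conjugatesOf y, u * c ∈ conjugatesOf y ∧ u⁻¹ * c ∈ conjugatesOf y := Iff.rfl

theorem conj_mem_conj_of_mem {y c : G} (hc : c ∈ conjugatesOf y) (g : G) :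
    g * c * g⁻¹ ∈ conjugatesOf y := by
  obtain ⟨h, rfl⟩ := mem_conj_iff.mp hc
  rw [mem_conj_iff]
  exact ⟨g * h, by group⟩

instance Rst_normal (y : G) : (Rst y).Normal := by
  constructor
  intro u hu g c hc
  have hc' : g⁻¹ * c * g ∈ conjugatesOf y := by
    have := conj_mem_conj_of_mem hc g⁻¹
    simpa using this
  obtain ⟨h1, h2⟩ := hu _ hc'
  refine ⟨?_, ?_⟩
  · have := conj_mem_conj_of_mem h1 g
    have e : g * (u * (g⁻¹ * c * g)) * g⁻¹ = g * u * g⁻¹ * c := by group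
    rwa [e] at this
  · have := conj_mem_conj_of_mem h2 g
    have e : g * (u⁻¹ * (g⁻¹ * c * g)) * g⁻¹ = (g * u * g⁻¹)⁻¹ * c := by group
    rwa [e] at this

theorem mul_mem_of_mem_Rst {y u c : G} (hu : u ∈ Rst y) (hc : c ∈ conjugatesOf y) :
    c * u ∈ conjugatesOf y := by
  have h1 := (hu c hc).1
  have := conj_mem_conj_of_mem h1 u⁻¹
  have e : u⁻¹ * (u * c) * u⁻¹⁻¹ = c * u := by group
  rwa [e] at this

theorem mem_Rst_of_forall [Finite G] {y u : G}
    (h : ∀ c ∈ conjugatesOf y, u * c ∈ conjugatesOf y) : u ∈ Rst y := by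
  intro c hc
  refine ⟨h c hc, ?_⟩
  -- left multiplication by `u` is an injective self-map of the finite class, hence surjective
  have hinj : Function.Injective (fun c : conjugatesOf y =>
      (⟨u * (c : G), h c c.2⟩ : conjugatesOf y)) := by
    intro a b hab
    have : u * (a : G) = u * (b : G) := congrArg Subtype.val hab
    exact Subtype.ext (mul_left_cancel this)
  obtain ⟨⟨d, hd⟩, hd'⟩ := (Finite.injective_iff_surjective.mp hinj) ⟨c, hc⟩
  have : u * d = c := congrArg Subtype.val hd'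
  have e : u⁻¹ * c = d := by rw [← this]; group
  rw [e]
  exact hd

theorem card_Rst_dvd (y : G) : Nat.card (Rst y) ∣ cs y := by
  rw [cs_eq_card]
  have hpre : conjugatesOf y =
      (QuotientGroup.mk : G → G ⧸ Rst y) ⁻¹' ((QuotientGroup.mk : G → G ⧸ Rst y) '' conjugatesOf y) := by
    apply Set.Subset.antisymm (Set.subset_preimage_image _ _)
    rintro c ⟨d, hd, hdc⟩
    have h1 : d⁻¹ * c ∈ Rst y := QuotientGroup.eq.mp hdc
    have h2 := mul_mem_of_mem_Rst h1 hd
    have e : d * (d⁻¹ * c) = c := by group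
    rwa [e] at h2
  have := QuotientGroup.card_preimage_mk (Rst y)
    ((QuotientGroup.mk : G → G ⧸ Rst y) '' conjugatesOf y)
  rw [← hpre] at this
  rw [this]
  exact Dvd.intro _ rfl

/-- a normal subgroup of order prime to the class size of `x` centralizes `x` -/
theorem le_centralizer_of_coprime [Finite G] (L : Subgroup G) [L.Normal] (x : G)
    (h : (Nat.card L).Coprime (cs x)) : L ≤ Subgroup.centralizer ({x} : Set G) := by
  set C := Subgroup.centralizer ({x} : Set G) with hC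
  have h0 : C ≤ Subgroup.normalizer (L : Set G) := by
    rw [Subgroup.normalizer_eq_top]
    exact le_top
  have h1 := Cfsg.Agent.Lib.Helper2.card_sup_mul_card_inf C L h0
  -- `|C ⊔ L| * |C ⊓ L| = |C| * |L|`
  have h2 : Nat.card C ∣ Nat.card ↥(C ⊔ L) := Subgroup.card_dvd_of_le le_sup_left
  have h3 : Nat.card ↥(C ⊔ L) ∣ Nat.card G := Subgroup.card_subgroup_dvd_card _
  have h4 : Nat.card ↥(C ⊓ L) ∣ Nat.card L := Subgroup.card_dvd_of_le inf_le_right
  have h5 : Nat.card C * cs x = Nat.card G := by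
    rw [cs_def, ← hC]
    exact Subgroup.card_mul_index C
  obtain ⟨s, hs⟩ := h2
  obtain ⟨j, hj⟩ := h4
  have hCpos : 0 < Nat.card C := Nat.card_pos
  have hipos : 0 < Nat.card ↥(C ⊓ L) := Nat.card_pos
  -- `s = j`
  have h6 : s = j := by
    rw [hs, hj] at h1
    have : Nat.card C * (s * Nat.card ↥(C ⊓ L)) = Nat.card C * (Nat.card ↥(C ⊓ L) * j) := by
      calc Nat.card C * (s * Nat.card ↥(C ⊓ L)) = Nat.card C * s * Nat.card ↥(C ⊓ L) := by ring
        _ = Nat.card C * (Nat.card ↥(C ⊓ L) * j) := h1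
    have := Nat.eq_of_mul_eq_mul_left hCpos this
    rw [mul_comm] at this
    exact Nat.eq_of_mul_eq_mul_left hipos this
  -- `j ∣ cs x`
  have h7 : j ∣ cs x := by
    rw [hs, ← h5, h6] at h3
    exact Nat.dvd_of_mul_dvd_mul_left hCpos h3
  have h8 : j ∣ Nat.card L := ⟨_, by rw [hj]; ring⟩
  have h9 : j = 1 := Nat.eq_one_of_dvd_coprimes h h8 h7
  rw [h9, mul_one] at hj
  have h10 : C ⊓ L = L := by
    have hle : C ⊓ L ≤ L := inf_le_right
    have : (C ⊓ L).subgroupOf L = ⊤ := by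
      apply Subgroup.eq_top_of_card_eq
      rw [Nat.card_congr (Subgroup.subgroupOfEquivOfLe hle).toEquiv]
      exact hj.symm
    rw [Subgroup.subgroupOf_eq_top] at this
    exact le_antisymm hle this
  rw [← h10]
  exact inf_le_left

/-- a `p`-element is conjugate into any subgroup of index prime to `p` -/
theorem exists_conj_mem_of_not_dvd_index [Finite G] (p : ℕ) [hp : Fact p.Prime] (C : Subgroup G)
    (hC : ¬ p ∣ C.index) (g : G) (hg : IsPGroup p (Subgroup.zpowers g)) :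
    ∃ a : G, a⁻¹ * g * a ∈ C := by
  have hnd : ¬ p ∣ Nat.card (G ⧸ C) := by
    rwa [← Subgroup.index_eq_card]
  obtain ⟨x, hx⟩ := hg.nonempty_fixed_point_of_prime_not_dvd_card (G ⧸ C) hnd
  obtain ⟨a, rfl⟩ := QuotientGroup.mk_surjective x
  refine ⟨a, ?_⟩
  have h0 := hx ⟨g, Subgroup.mem_zpowers g⟩
  have h1 : ((g * a : G) : G ⧸ C) = (a : G ⧸ C) := h0
  rw [QuotientGroup.eq] at h1
  have h2 := C.inv_mem h1
  have h3 : ((g * a)⁻¹ * a)⁻¹ = a⁻¹ * g * a := by group
  rwa [h3] at h2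

/-- Bezout in a group: `g ^ a = 1`, `g ^ m ∈ H`, `a` and `m` coprime give `g ∈ H` -/
theorem mem_of_pow_mem_of_pow_eq_one {H : Subgroup G} {g : G} {a m : ℕ} (hcop : a.Coprime m)
    (h1 : g ^ a = 1) (h2 : g ^ m ∈ H) : g ∈ H := by
  have hb := Nat.gcd_eq_gcd_ab a m
  rw [hcop.gcd_eq_one] at hb
  have h3 : g = (g ^ a) ^ (a.gcdA m) * (g ^ m) ^ (a.gcdB m) := by
    rw [← zpow_natCast, ← zpow_natCast, ← zpow_mul, ← zpow_mul, ← zpow_add, ← hb]
    simp
  rw [h3, h1, one_zpow, one_mul]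
  exact H.zpow_mem h2 _

/-- the `S`-part and `S'`-part of a natural number -/
theorem exists_factor (S : Set ℕ) (n : ℕ) (hn : n ≠ 0) : ∃ a b : ℕ, n = a * b ∧
    (∀ p : ℕ, p.Prime → p ∣ a → p ∈ S) ∧ (∀ p : ℕ, p.Prime → p ∣ b → p ∉ S) := by
  induction n using Nat.recOnMul with
  | zero => exact absurd rfl hn
  | one =>
    refine ⟨1, 1, rfl, ?_, ?_⟩
    · intro p hp h
      exact absurd (Nat.dvd_one.mp h) hp.ne_one
    · intro p hp h
      exact absurd (Nat.dvd_one.mp h) hp.ne_one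
  | prime q hq =>
    by_cases hqS : q ∈ S
    · refine ⟨q, 1, by ring, ?_, ?_⟩
      · intro p hp h
        rw [(Nat.prime_dvd_prime_iff_eq hp hq).mp h]
        exact hqS
      · intro p hp h
        exact absurd (Nat.dvd_one.mp h) hp.ne_one
    · refine ⟨1, q, by ring, ?_, ?_⟩
      · intro p hp h
        exact absurd (Nat.dvd_one.mp h) hp.ne_one
      · intro p hp h
        rw [(Nat.prime_dvd_prime_iff_eq hp hq).mp h]
        exact hqS
  | mul m n hm hn' =>
    have hm0 : m ≠ 0 := fun h => hn (by rw [h, zero_mul])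
    have hn0 : n ≠ 0 := fun h => hn (by rw [h, mul_zero])
    obtain ⟨a₁, b₁, e₁, ha₁, hb₁⟩ := hm hm0
    obtain ⟨a₂, b₂, e₂, ha₂, hb₂⟩ := hn' hn0
    refine ⟨a₁ * a₂, b₁ * b₂, by rw [e₁, e₂]; ring, ?_, ?_⟩
    · intro p hp h
      rcases (Nat.Prime.dvd_mul hp).mp h with h | h
      · exact ha₁ p hp h
      · exact ha₂ p hp h
    · intro p hp h
      rcases (Nat.Prime.dvd_mul hp).mp h with h | h
      · exact hb₁ p hp h
      · exact hb₂ p hp h

theorem coprime_of_parts {S : Set ℕ} {a b : ℕ} (ha : ∀ p : ℕ, p.Prime → p ∣ a → p ∈ S)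
    (hb : ∀ p : ℕ, p.Prime → p ∣ b → p ∉ S) : a.Coprime b := by
  apply Nat.coprime_of_dvd
  intro k hk hka hkb
  exact hb k hk hkb (ha k hk hka)

/-- the `S`-part and `S'`-part of an element of a finite group -/
theorem exists_parts [Finite G] (S : Set ℕ) (g : G) : ∃ a b : ℕ, ∃ g₁ g₂ : G,
    (∀ p : ℕ, p.Prime → p ∣ a → p ∈ S) ∧ (∀ p : ℕ, p.Prime → p ∣ b → p ∉ S) ∧
    g₁ ∈ Subgroup.zpowers g ∧ g₂ ∈ Subgroup.zpowers g ∧ g = g₁ * g₂ ∧ g₁ ^ a = 1 ∧ g₂ ^ b = 1 := by
  have hn : orderOf g ≠ 0 := (orderOf_pos g).ne'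
  obtain ⟨a, b, hab, ha, hb⟩ := exists_factor S (orderOf g) hn
  have hcop : a.Coprime b := coprime_of_parts ha hb
  have hbz := Nat.gcd_eq_gcd_ab a b
  rw [hcop.gcd_eq_one] at hbz
  have hbz' : (1 : ℤ) = a * a.gcdA b + b * a.gcdB b := by exact_mod_cast hbz
  have hsw : ∀ (x : G) (z : ℤ) (n : ℕ), (x ^ z) ^ n = (x ^ n) ^ z := by
    intro x z n
    rw [← zpow_natCast, ← zpow_mul, mul_comm, zpow_mul, zpow_natCast]
  refine ⟨a, b, (g ^ b) ^ (a.gcdB b), (g ^ a) ^ (a.gcdA b), ha, hb, ?_, ?_, ?_, ?_, ?_⟩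
  · exact Subgroup.zpow_mem _ (Subgroup.pow_mem _ (Subgroup.mem_zpowers g) _) _
  · exact Subgroup.zpow_mem _ (Subgroup.pow_mem _ (Subgroup.mem_zpowers g) _) _
  · rw [← zpow_natCast, ← zpow_natCast, ← zpow_mul, ← zpow_mul, ← zpow_add, add_comm, ← hbz']
    simp
  · rw [hsw, ← pow_mul, mul_comm, ← hab, pow_orderOf_eq_one, one_zpow]
  · rw [hsw, ← pow_mul, ← hab, pow_orderOf_eq_one, one_zpow]

/-- commuting elements of coprime orders are powers of their product -/
theorem mem_zpowers_mul_of_coprime {g h : G} {a b : ℕ} (hc : Commute g h) (hcop : a.Coprime b)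
    (hg : g ^ a = 1) (hh : h ^ b = 1) :
    g ∈ Subgroup.zpowers (g * h) ∧ h ∈ Subgroup.zpowers (g * h) := by
  have hbz := Nat.gcd_eq_gcd_ab a b
  rw [hcop.gcd_eq_one] at hbz
  have hbz' : (1 : ℤ) = a * a.gcdA b + b * a.gcdB b := by exact_mod_cast hbz
  have e1 : ((g * h) ^ b) = g ^ b := by
    rw [hc.mul_pow, hh, mul_one]
  have e2 : ((g * h) ^ a) = h ^ a := by
    rw [hc.mul_pow, hg, one_mul]
  refine ⟨?_, ?_⟩
  · have : g = ((g * h) ^ b) ^ (a.gcdB b) := by
      rw [e1, ← zpow_natCast, ← zpow_mul]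
      have e : (b : ℤ) * a.gcdB b = 1 - a * a.gcdA b := by linarith
      rw [e, zpow_sub, zpow_one, zpow_mul, zpow_natCast, hg, one_zpow, inv_one, mul_one]
    have hm : ((g * h) ^ b) ^ (a.gcdB b) ∈ Subgroup.zpowers (g * h) :=
      Subgroup.zpow_mem _ (Subgroup.pow_mem _ (Subgroup.mem_zpowers _) _) _
    rwa [← this] at hm
  · have : h = ((g * h) ^ a) ^ (a.gcdA b) := by
      rw [e2, ← zpow_natCast, ← zpow_mul]
      have e : (a : ℤ) * a.gcdA b = 1 - b * a.gcdB b := by linarith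
      rw [e, zpow_sub, zpow_one, zpow_mul, zpow_natCast, hh, one_zpow, inv_one, mul_one]
    have hm : ((g * h) ^ a) ^ (a.gcdA b) ∈ Subgroup.zpowers (g * h) :=
      Subgroup.zpow_mem _ (Subgroup.pow_mem _ (Subgroup.mem_zpowers _) _) _
    rwa [← this] at hm

end Cfsg.Agent.Lib.Helper8.CGr
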