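import Mathlib
import Cfsg.Agent.Lib.Helper8.CGr2

set_option autoImplicit false

/-!
# Disconnected class-size prime graph: the two kinds of non-central elements
-/

namespace Cfsg.Agent.Lib.Helper8.CGr

variable {G : Type*} [Group G]

/-- `g` is non-central and its class size is divisible only by primes of `S` -/
def IsT (S : Set ℕ) (g : G) : Prop := cs g ≠ 1 ∧ ∀ p : ℕ, p.Prime → p ∣ cs g → p ∈ S

variable {S : Set ℕ}

theorem IsT.conj {x : G} (h : IsT S x) (g : G) : IsT S (g * x * g⁻¹) := by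
  unfold IsT
  rw [cs_conj]
  exact h

theorem IsT.inv {x : G} (h : IsT S x) : IsT S x⁻¹ := by
  unfold IsT
  rw [cs_inv]
  exact h

theorem IsT.of_cs_eq {x x' : G} (h : IsT S x) (e : cs x' = cs x) : IsT S x' := by
  unfold IsT
  rw [e]
  exact h

theorem IsT.compl_compl {x : G} (h : IsT S x) : IsT (Sᶜᶜ) x := by
  rw [_root_.compl_compl]
  exact h

theorem IsT.coprime {x y : G} (hx : IsT S x) (hy : IsT Sᶜ y) : (cs x).Coprime (cs y) :=
  coprime_of_parts hx.2 hy.2

theorem IsT.not_compl {x : G} (hx : IsT S x) : ¬ IsT Sᶜ x := by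
  intro h
  have := IsT.coprime hx h
  rw [Nat.coprime_self] at this
  exact hx.1 this

theorem IsT.ne {x y : G} (hx : IsT S x) (hy : IsT Sᶜ y) : cs x ≠ cs y := by
  intro h
  have := IsT.coprime hx hy
  rw [h, Nat.coprime_self] at this
  exact hy.1 this

theorem IsT.not_mem_center {x : G} (hx : IsT S x) : x ∉ Subgroup.center G := fun h =>
  hx.1 ((cs_eq_one_iff x).mpr h)

theorem IsT.mul_central {x z : G} (hx : IsT S x) (hz : z ∈ Subgroup.center G) : IsT S (x * z) :=
  hx.of_cs_eq (cs_mul_central x z hz)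

theorem IsT.central_mul {x z : G} (hx : IsT S x) (hz : z ∈ Subgroup.center G) : IsT S (z * x) :=
  hx.of_cs_eq (cs_central_mul z x hz)

/-- the dichotomy: every non-central element is of kind `S` or of kind `Sᶜ` -/
def Dich (S : Set ℕ) (G : Type*) [Group G] : Prop :=
  ∀ g : G, cs g ≠ 1 → IsT S g ∨ IsT Sᶜ g

theorem Dich.compl (hd : Dich S G) : Dich Sᶜ G := by
  intro g hg
  rcases hd g hg with h | h
  · exact Or.inr h.compl_compl
  · exact Or.inl h

section Fin

variable [Finite G]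

theorem mul_isT (hd : Dich S G) {x y : G} (hx : IsT S x) (hy : IsT Sᶜ y) (hlt : cs x < cs y) :
    IsT Sᶜ (x * y) ∧ cs (x * y) = cs y := by
  have hcop := IsT.coprime hx hy
  have h1 := cs_le_mul_right x y hcop
  have h3 := cs_mul_dvd x y hcop
  have hne : cs (x * y) ≠ 1 := by
    have : 1 ≤ cs x := Nat.one_le_iff_ne_zero.mpr (cs_ne_zero x)
    omega
  rcases hd (x * y) hne with h | h
  · exfalso
    have hc : (cs (x * y)).Coprime (cs y) := IsT.coprime h hy
    have h4 : cs (x * y) ∣ cs x := hc.dvd_of_dvd_mul_right h3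
    have h5 := Nat.le_of_dvd (Nat.pos_of_ne_zero (cs_ne_zero x)) h4
    omega
  · refine ⟨h, ?_⟩
    have hc : (cs (x * y)).Coprime (cs x) := (IsT.coprime hx h).symm
    have h4 : cs (x * y) ∣ cs y := hc.dvd_of_dvd_mul_left h3
    have h5 := Nat.le_of_dvd (Nat.pos_of_ne_zero (cs_ne_zero y)) h4
    omega

/-- the coset lemma: the class of `y` is stable under translation by `x⁻¹ x^g` -/
theorem inv_mul_conj_mem_Rst (hd : Dich S G) {x y : G} (hx : IsT S x) (hy : IsT Sᶜ y)
    (hlt : cs x < cs y) (g : G) : x⁻¹ * (g * x * g⁻¹) ∈ Rst y := by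
  apply mem_Rst_of_forall
  intro c hc
  have hcop := IsT.coprime hx hy
  have hcard := (mul_isT hd hx hy hlt).2
  -- `x • class(y) = class(x y)`
  have hsub : (fun c => x * c) '' conjugatesOf y ⊆ conjugatesOf (x * y) := by
    rintro _ ⟨d, hd', rfl⟩
    obtain ⟨k, rfl⟩ := mem_conj_iff.mp hd'
    have := conj_mul_conj x y hcop 1 k
    simpa using this
  have hfin : (conjugatesOf (x * y)).Finite := Set.toFinite _
  have hinj : Function.Injective (fun c : G => x * c) := mul_right_injective x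
  have hncard : (conjugatesOf (x * y)).ncard ≤ ((fun c => x * c) '' conjugatesOf y).ncard := by
    rw [Set.ncard_image_of_injective _ hinj, ← Nat.card_coe_set_eq, ← Nat.card_coe_set_eq,
      ← cs_eq_card, ← cs_eq_card, hcard]
  have heq := Set.eq_of_subset_of_ncard_le hsub hncard hfin
  obtain ⟨k, rfl⟩ := mem_conj_iff.mp hc
  have hmem : g * x * g⁻¹ * (k * y * k⁻¹) ∈ conjugatesOf (x * y) := conj_mul_conj x y hcop g k
  rw [← heq] at hmem
  obtain ⟨d, hd', hdd⟩ := hmem
  have e : x⁻¹ * (g * x * g⁻¹) * (k * y * k⁻¹) = d := by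
    have hdd' : x * d = g * x * g⁻¹ * (k * y * k⁻¹) := hdd
    calc x⁻¹ * (g * x * g⁻¹) * (k * y * k⁻¹) = x⁻¹ * (g * x * g⁻¹ * (k * y * k⁻¹)) := by group
      _ = x⁻¹ * (x * d) := by rw [hdd']
      _ = d := by group
  rw [e]
  exact hd'

/-- if the smallest non-central class is of kind `S`, every class of kind `S` is smaller than
every class of kind `Sᶜ` -/
theorem lt_of_min (hd : Dich S G) {b₀ : G} (hb₀ : IsT S b₀)
    (hmin : ∀ g : G, cs g ≠ 1 → cs b₀ ≤ cs g) {x y : G} (hx : IsT S x) (hy : IsT Sᶜ y) :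
    cs x < cs y := by
  by_contra hcon
  have hne := IsT.ne hx hy
  have hlt : cs y < cs x := by omega
  have hb₀y : cs b₀ < cs y := by
    have := hmin y hy.1
    have := IsT.ne hb₀ hy
    omega
  -- a nontrivial `u = b₀⁻¹ b₀^g`
  have hex : ∃ g : G, b₀⁻¹ * (g * b₀ * g⁻¹) ≠ 1 := by
    by_contra hall
    push Not at hall
    apply hb₀.not_mem_center
    rw [Subgroup.mem_center_iff]
    intro g
    have := hall g
    have e : g * b₀ * g⁻¹ = b₀ := by
      calc g * b₀ * g⁻¹ = b₀ * (b₀⁻¹ * (g * b₀ * g⁻¹)) := by group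
        _ = b₀ := by rw [this, mul_one]
    calc g * b₀ = g * b₀ * g⁻¹ * g := by group
      _ = b₀ * g := by rw [e]
  obtain ⟨g, hg⟩ := hex
  set u := b₀⁻¹ * (g * b₀ * g⁻¹) with hu
  have hu1 : u ∈ Rst y := inv_mul_conj_mem_Rst hd hb₀ hy hb₀y g
  have hu2 : u ∈ Rst x := by
    have hyc : u * y ∈ conjugatesOf y := (hu1 y mem_conjugatesOf_self).1
    obtain ⟨k, hk⟩ := mem_conj_iff.mp hyc
    have h1 : y⁻¹ * (k * y * k⁻¹) ∈ Rst x :=
      inv_mul_conj_mem_Rst hd.compl hy hx.compl_compl hlt k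
    have h2 := (Rst_normal x).conj_mem _ h1 y
    have e : y * (y⁻¹ * (k * y * k⁻¹)) * y⁻¹ = u := by
      rw [hk]; group
    rwa [e] at h2
  have h3 : orderOf u ∣ cs x :=
    ((orderOf_dvd_natCard (⟨u, hu2⟩ : Rst x)).trans (card_Rst_dvd x)) |> fun h => by
      rwa [Subgroup.orderOf_mk] at h
  have h4 : orderOf u ∣ cs y :=
    ((orderOf_dvd_natCard (⟨u, hu1⟩ : Rst y)).trans (card_Rst_dvd y)) |> fun h => by
      rwa [Subgroup.orderOf_mk] at h
  have h5 : orderOf u = 1 := Nat.eq_one_of_dvd_coprimes (IsT.coprime hx hy) h3 h4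
  exact hg (orderOf_eq_one_iff.mp h5)

end Fin

/-- the standing hypotheses -/
structure Setup (S : Set ℕ) (G : Type*) [Group G] : Prop where
  dich : Dich S G
  lt : ∀ x y : G, IsT S x → IsT Sᶜ y → cs x < cs y
  exY : ∃ y : G, IsT Sᶜ y
  exX : ∃ x : G, IsT S x

/-- the intersection of the translation stabilizers of the classes of kind `Sᶜ` -/
def Mst (S : Set ℕ) (G : Type*) [Group G] : Subgroup G where
  carrier := {u | ∀ y : G, IsT Sᶜ y → u ∈ Rst y}
  one_mem' := fun y _ => (Rst y).one_mem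
  mul_mem' := fun hu hv y hy => (Rst y).mul_mem (hu y hy) (hv y hy)
  inv_mem' := fun hu y hy => (Rst y).inv_mem (hu y hy)

theorem mem_Mst {u : G} : u ∈ Mst S G ↔ ∀ y : G, IsT Sᶜ y → u ∈ Rst y := Iff.rfl

instance Mst_normal : (Mst S G).Normal := by
  constructor
  intro u hu g y hy
  exact (Rst_normal y).conj_mem u (hu y hy) g

theorem card_Mst_dvd {y : G} (hy : IsT Sᶜ y) : Nat.card (Mst S G) ∣ cs y := by
  have hle : Mst S G ≤ Rst y := fun u hu => hu y hy
  exact (Subgroup.card_dvd_of_le hle).trans (card_Rst_dvd y)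

section Fin2

variable [Finite G]

theorem Setup.inv_mul_conj_mem (hs : Setup S G) {x : G} (hx : IsT S x) (g : G) :
    x⁻¹ * (g * x * g⁻¹) ∈ Mst S G := fun y hy =>
  inv_mul_conj_mem_Rst hs.dich hx hy (hs.lt x y hx hy) g

omit [Finite G] in
theorem Setup.card_Mst_coprime (hs : Setup S G) {x : G} (hx : IsT S x) :
    (Nat.card (Mst S G)).Coprime (cs x) := by
  obtain ⟨y, hy⟩ := hs.exY
  exact Nat.Coprime.coprime_dvd_left (card_Mst_dvd hy) (IsT.coprime hx hy).symm

/-- elements of kind `S` centralize `Mst` -/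
theorem Setup.commute_Mst (hs : Setup S G) {x m : G} (hx : IsT S x) (hm : m ∈ Mst S G) :
    m * x = x * m := by
  have := le_centralizer_of_coprime (Mst S G) x (hs.card_Mst_coprime hx) hm
  exact Subgroup.mem_centralizer_singleton_iff.mp this

/-- two elements of kind `S` commute -/
theorem Setup.commute (hs : Setup S G) {x x' : G} (hx : IsT S x) (hx' : IsT S x') :
    x * x' = x' * x := by
  set u := x'⁻¹ * (x * x' * x⁻¹) with hu
  have hu1 : u ∈ Mst S G := hs.inv_mul_conj_mem hx' x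
  have hux' : u * x' = x' * u := hs.commute_Mst hx' hu1
  have hu2 : u ∈ Rst x' := by
    apply mem_Rst_of_forall
    intro c hc
    obtain ⟨g, rfl⟩ := mem_conj_iff.mp hc
    set m := x'⁻¹ * (g * x' * g⁻¹) with hm
    have hm1 : m ∈ Mst S G := hs.inv_mul_conj_mem hx' g
    have hxm : m * x = x * m := hs.commute_Mst hx hm1
    have hx'm : m * x' = x' * m := hs.commute_Mst hx' hm1
    have hcm : m * (x * x' * x⁻¹) = (x * x' * x⁻¹) * m := hs.commute_Mst (hx'.conj x) hm1
    have hum : u * m = m * u := by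
      have hx'inv : m * x'⁻¹ = x'⁻¹ * m := by
        calc m * x'⁻¹ = x'⁻¹ * (x' * m) * x'⁻¹ := by group
          _ = x'⁻¹ * (m * x') * x'⁻¹ := by rw [hx'm]
          _ = x'⁻¹ * m := by group
      calc u * m = x'⁻¹ * ((x * x' * x⁻¹) * m) := by rw [hu]; group
        _ = x'⁻¹ * (m * (x * x' * x⁻¹)) := by rw [hcm]
        _ = (x'⁻¹ * m) * (x * x' * x⁻¹) := by group
        _ = (m * x'⁻¹) * (x * x' * x⁻¹) := by rw [hx'inv]
        _ = m * u := by rw [hu]; group
    have e1 : g * x' * g⁻¹ = x' * m := by rw [hm]; group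
    have e2 : u * (g * x' * g⁻¹) = x * (g * x' * g⁻¹) * x⁻¹ := by
      rw [e1]
      calc u * (x' * m) = (u * x') * m := by group
        _ = x' * u * m := by rw [hux']
        _ = x' * (u * m) := by group
        _ = x' * (m * u) := by rw [hum]
        _ = x' * m * u := by group
        _ = x' * m * (x'⁻¹ * (x * x' * x⁻¹)) := by rw [hu]
        _ = x' * (m * x'⁻¹) * (x * x' * x⁻¹) := by group
        _ = x' * (x'⁻¹ * m) * (x * x' * x⁻¹) := by
          have hx'inv : m * x'⁻¹ = x'⁻¹ * m := by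
            calc m * x'⁻¹ = x'⁻¹ * (x' * m) * x'⁻¹ := by group
              _ = x'⁻¹ * (m * x') * x'⁻¹ := by rw [hx'm]
              _ = x'⁻¹ * m := by group
          rw [hx'inv]
        _ = m * (x * x' * x⁻¹) := by group
        _ = (x * x' * x⁻¹) * m := hcm
        _ = x * x' * (x⁻¹ * m) := by group
        _ = x * x' * (m * x⁻¹) := by
          have : x⁻¹ * m = m * x⁻¹ := by
            calc x⁻¹ * m = x⁻¹ * (m * x) * x⁻¹ := by group
              _ = x⁻¹ * (x * m) * x⁻¹ := by rw [hxm]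
              _ = m * x⁻¹ := by group
          rw [this]
        _ = x * (x' * m) * x⁻¹ := by group
    rw [e2]
    exact conj_mem_conj_of_mem (conj_mem_conj x' g) x
  have h3 : orderOf u ∣ cs x' :=
    ((orderOf_dvd_natCard (⟨u, hu2⟩ : Rst x')).trans (card_Rst_dvd x')) |> fun h => by
      rwa [Subgroup.orderOf_mk] at h
  have h4 : orderOf u ∣ Nat.card (Mst S G) :=
    (orderOf_dvd_natCard (⟨u, hu1⟩ : Mst S G)) |> fun h => by
      rwa [Subgroup.orderOf_mk] at h
  have h5 : orderOf u = 1 := Nat.eq_one_of_dvd_coprimes (hs.card_Mst_coprime hx') h4 h3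
  have h6 : u = 1 := orderOf_eq_one_iff.mp h5
  have h7 : x * x' * x⁻¹ = x' := by
    calc x * x' * x⁻¹ = x' * u := by rw [hu]; group
      _ = x' := by rw [h6, mul_one]
  calc x * x' = x * x' * x⁻¹ * x := by group
    _ = x' * x := by rw [h7]

end Fin2

end Cfsg.Agent.Lib.Helper8.CGr
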