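import Mathlib
import Cfsg.Agent.Lib.Helper8.CGr3

set_option autoImplicit false

/-!
# Disconnected class-size prime graph: the abelian normal subgroup `KS`
-/

namespace Cfsg.Agent.Lib.Helper8.CGr

variable {G : Type*} [Group G] {S : Set ℕ}

/-- the subgroup generated by the elements of kind `S` and the centre -/
def KS (S : Set ℕ) (G : Type*) [Group G] : Subgroup G :=
  Subgroup.closure ({x : G | IsT S x} ∪ (Subgroup.center G : Set G))

theorem isT_mem_KS {x : G} (hx : IsT S x) : x ∈ KS S G :=
  Subgroup.subset_closure (Or.inl hx)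

theorem center_le_KS : Subgroup.center G ≤ KS S G := fun _ hz =>
  Subgroup.subset_closure (Or.inr hz)

instance KS_normal : (KS S G).Normal := by
  constructor
  intro k hk g
  induction hk using Subgroup.closure_induction with
  | mem x hx =>
    rcases hx with hx | hx
    · exact isT_mem_KS (IsT.conj hx g)
    · apply center_le_KS
      exact (inferInstance : (Subgroup.center G).Normal).conj_mem x hx g
  | one => simp
  | mul x y _ _ hx hy =>
    have : g * (x * y) * g⁻¹ = (g * x * g⁻¹) * (g * y * g⁻¹) := by group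
    rw [this]
    exact Subgroup.mul_mem _ hx hy
  | inv x _ hx =>
    have : g * x⁻¹ * g⁻¹ = (g * x * g⁻¹)⁻¹ := by group
    rw [this]
    exact Subgroup.inv_mem _ hx

section Fin

variable [Finite G]

theorem Setup.gen_commute (hs : Setup S G) {a b : G}
    (ha : a ∈ ({x : G | IsT S x} ∪ (Subgroup.center G : Set G)))
    (hb : b ∈ ({x : G | IsT S x} ∪ (Subgroup.center G : Set G))) : a * b = b * a := by
  rcases ha with ha | ha
  · rcases hb with hb | hb
    · exact hs.commute ha hb
    · exact Subgroup.mem_center_iff.mp hb a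
  · exact (Subgroup.mem_center_iff.mp ha b).symm

theorem Setup.KS_comm (hs : Setup S G) {a b : G} (ha : a ∈ KS S G) (hb : b ∈ KS S G) :
    a * b = b * a := by
  have h1 : KS S G ≤ Subgroup.centralizer ({x : G | IsT S x} ∪ (Subgroup.center G : Set G)) := by
    unfold KS
    rw [Subgroup.closure_le]
    intro a ha
    rw [SetLike.mem_coe, Subgroup.mem_centralizer_iff]
    intro b hb
    exact hs.gen_commute hb ha
  have h2 : KS S G ≤ Subgroup.centralizer (KS S G : Set G) := by
    have : Subgroup.centralizer (KS S G : Set G) =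
        Subgroup.centralizer ({x : G | IsT S x} ∪ (Subgroup.center G : Set G)) := by
      unfold KS
      exact Subgroup.centralizer_closure _
    rw [this]
    exact h1
  have := h2 ha
  rw [Subgroup.mem_centralizer_iff] at this
  exact (this b hb).symm

/-- translation by an element of `KS` preserves the kind `Sᶜ` -/
theorem Setup.KS_mul_isT (hs : Setup S G) {k : G} (hk : k ∈ KS S G) :
    ∀ y : G, IsT Sᶜ y → IsT Sᶜ (k * y) ∧ IsT Sᶜ (k⁻¹ * y) := by
  induction hk using Subgroup.closure_induction with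
  | mem x hx =>
    intro y hy
    rcases hx with hx | hx
    · exact ⟨(mul_isT hs.dich hx hy (hs.lt x y hx hy)).1,
        (mul_isT hs.dich hx.inv hy (hs.lt _ y hx.inv hy)).1⟩
    · exact ⟨hy.central_mul hx, hy.central_mul (Subgroup.inv_mem _ hx)⟩
  | one =>
    intro y hy
    simpa using hy
  | mul a b _ _ ha hb =>
    intro y hy
    refine ⟨?_, ?_⟩
    · rw [mul_assoc]
      exact (ha _ (hb y hy).1).1
    · rw [mul_inv_rev, mul_assoc]
      exact (hb _ (ha y hy).2).2
  | inv a _ ha =>
    intro y hy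
    refine ⟨(ha y hy).2, ?_⟩
    rw [inv_inv]
    exact (ha y hy).1

theorem Setup.not_isT_compl_of_mem_KS (hs : Setup S G) {k : G} (hk : k ∈ KS S G) :
    ¬ IsT Sᶜ k := by
  intro h
  have := (hs.KS_mul_isT hk k h).2
  rw [inv_mul_cancel] at this
  exact this.1 cs_one

theorem Setup.mem_KS_iff (hs : Setup S G) {g : G} :
    g ∈ KS S G ↔ IsT S g ∨ g ∈ Subgroup.center G := by
  constructor
  · intro hg
    by_cases hc : g ∈ Subgroup.center G
    · exact Or.inr hc
    · left
      have hne : cs g ≠ 1 := fun h => hc ((cs_eq_one_iff g).mp h)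
      rcases hs.dich g hne with h | h
      · exact h
      · exact absurd h (hs.not_isT_compl_of_mem_KS hg)
  · rintro (h | h)
    · exact isT_mem_KS h
    · exact center_le_KS h

omit [Finite G] in
theorem Setup.isT_compl_of_not_mem (hs : Setup S G) {g : G} (hg : g ∉ KS S G) : IsT Sᶜ g := by
  have hc : g ∉ Subgroup.center G := fun h => hg (center_le_KS h)
  have hne : cs g ≠ 1 := fun h => hc ((cs_eq_one_iff g).mp h)
  rcases hs.dich g hne with h | h
  · exact absurd (isT_mem_KS h) hg
  · exact h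

theorem Setup.isT_of_mem_not_center (hs : Setup S G) {g : G} (hg : g ∈ KS S G)
    (hc : g ∉ Subgroup.center G) : IsT S g := by
  rcases hs.mem_KS_iff.mp hg with h | h
  · exact h
  · exact absurd h hc

/-- the `card Mst`-th power of an element of kind `S` is central -/
theorem Setup.pow_card_Mst_mem_center (hs : Setup S G) {x : G} (hx : IsT S x) :
    x ^ Nat.card (Mst S G) ∈ Subgroup.center G := by
  rw [Subgroup.mem_center_iff]
  intro g
  set μ := Nat.card (Mst S G) with hμ
  set u := x⁻¹ * (g * x * g⁻¹) with hu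
  have hu1 : u ∈ Mst S G := hs.inv_mul_conj_mem hx g
  have hux : Commute x u := (hs.commute_Mst hx hu1).symm
  have hupow : u ^ μ = 1 := by
    have h := orderOf_dvd_natCard (⟨u, hu1⟩ : Mst S G)
    rw [Subgroup.orderOf_mk] at h
    exact orderOf_dvd_iff_pow_eq_one.mp h
  have e1 : g * x * g⁻¹ = x * u := by rw [hu]; group
  have e2 : g * x ^ μ * g⁻¹ = x ^ μ := by
    calc g * x ^ μ * g⁻¹ = (g * x * g⁻¹) ^ μ := by rw [conj_pow]
      _ = (x * u) ^ μ := by rw [e1]
      _ = x ^ μ * u ^ μ := hux.mul_pow μ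
      _ = x ^ μ := by rw [hupow, mul_one]
  calc g * x ^ μ = g * x ^ μ * g⁻¹ * g := by group
    _ = x ^ μ * g := by rw [e2]

omit [Finite G] in
theorem Setup.prime_dvd_card_Mst (hs : Setup S G) {p : ℕ} (hp : p.Prime)
    (h : p ∣ Nat.card (Mst S G)) : p ∉ S := by
  obtain ⟨y, hy⟩ := hs.exY
  exact hy.2 p hp (h.trans (card_Mst_dvd hy))

/-- if `x` of kind `S` and `y` of kind `Sᶜ` commute, the `S`-part of `y` is central -/
theorem Setup.central_part (hs : Setup S G) {x y : G} (hx : IsT S x) (hy : IsT Sᶜ y)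
    (hc : x * y = y * x) {a : ℕ} {y₁ : G} (ha : ∀ p : ℕ, p.Prime → p ∣ a → p ∈ S)
    (hy₁ : y₁ ∈ Subgroup.zpowers y) (hy₁a : y₁ ^ a = 1) : y₁ ∈ Subgroup.center G := by
  obtain ⟨a', b', x₁, x₂, ha', hb', hx₁, hx₂, hxx, hx₁a, hx₂b⟩ := exists_parts S x
  -- `x₁` is central
  have hx₁c : x₁ ∈ Subgroup.center G := by
    apply mem_of_pow_mem_of_pow_eq_one (a := a') (m := Nat.card (Mst S G))
      (coprime_of_parts ha' (fun p hp h => hs.prime_dvd_card_Mst hp h)) hx₁a
    obtain ⟨k, rfl⟩ := Subgroup.mem_zpowers_iff.mp hx₁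
    have : (x ^ k) ^ Nat.card (Mst S G) = (x ^ Nat.card (Mst S G)) ^ k := by
      rw [← zpow_natCast, ← zpow_mul, mul_comm, zpow_mul, zpow_natCast]
    rw [this]
    exact Subgroup.zpow_mem _ (hs.pow_card_Mst_mem_center hx) _
  have hcsx₂ : cs x₂ = cs x := by
    rw [hxx]
    exact (cs_central_mul x₁ x₂ hx₁c).symm
  -- `x₂` commutes with `y₁`
  have hcomm : Commute x₂ y₁ := by
    obtain ⟨k, rfl⟩ := Subgroup.mem_zpowers_iff.mp hx₂
    obtain ⟨l, rfl⟩ := Subgroup.mem_zpowers_iff.mp hy₁
    exact Commute.zpow_zpow hc k l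
  have hcop : b'.Coprime a := (coprime_of_parts ha hb').symm
  obtain ⟨hm1, hm2⟩ := mem_zpowers_mul_of_coprime hcomm hcop hx₂b hy₁a
  have hd1 : cs x₂ ∣ cs (x₂ * y₁) := cs_dvd_of_mem_zpowers hm1
  have hd2 : cs y₁ ∣ cs (x₂ * y₁) := cs_dvd_of_mem_zpowers hm2
  have hd3 : cs y₁ ∣ cs y := cs_dvd_of_mem_zpowers hy₁
  have hne : cs (x₂ * y₁) ≠ 1 := by
    intro h
    rw [h, hcsx₂] at hd1
    exact hx.1 (Nat.dvd_one.mp hd1)
  rcases hs.dich _ hne with h | h
  · rw [← cs_eq_one_iff]
    by_contra hne1
    obtain ⟨p, hp, hpd⟩ := Nat.exists_prime_and_dvd hne1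
    exact hy.2 p hp (hpd.trans hd3) (h.2 p hp (hpd.trans hd2))
  · exfalso
    obtain ⟨p, hp, hpd⟩ := Nat.exists_prime_and_dvd hx.1
    rw [← hcsx₂] at hpd
    exact h.2 p hp (hpd.trans hd1) (hx.2 p hp (hcsx₂ ▸ hpd))

/-- an `r`-element, `r ∉ S`, centralizes `KS` -/
theorem Setup.pelement_centralizes (hs : Setup S G) (r : ℕ) [hr : Fact r.Prime] (hrS : r ∉ S)
    (g : G) (hg : IsPGroup r (Subgroup.zpowers g)) :
    g ∈ Subgroup.centralizer (KS S G : Set G) := by
  have key : ∀ x' : G, IsT S x' → x' * g = g * x' := by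
    intro x' hx'
    have hnd : ¬ r ∣ (Subgroup.centralizer ({x'} : Set G)).index := fun h =>
      hrS (hx'.2 r hr.out h)
    obtain ⟨a, ha⟩ := exists_conj_mem_of_not_dvd_index r _ hnd g hg
    set g' := a⁻¹ * g * a with hg'
    have hgg' : g = a * g' * a⁻¹ := by rw [hg']; group
    by_cases hk : g' ∈ KS S G
    · have : g ∈ KS S G := by
        rw [hgg']
        exact (KS_normal (S := S) (G := G)).conj_mem g' hk a
      exact hs.KS_comm (isT_mem_KS hx') this
    · have hT : IsT Sᶜ g' := hs.isT_compl_of_not_mem hk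
      obtain ⟨c, hc, d, hd, hcd⟩ := exists_mul x' g' (IsT.coprime hx' hT) a
      rw [Subgroup.mem_centralizer_singleton_iff] at hc hd ha
      have e : g = c * g' * c⁻¹ := by
        rw [hgg', hcd]
        calc c * d * g' * (c * d)⁻¹ = c * (d * g') * d⁻¹ * c⁻¹ := by group
          _ = c * (g' * d) * d⁻¹ * c⁻¹ := by rw [hd]
          _ = c * g' * c⁻¹ := by group
      rw [e]
      calc x' * (c * g' * c⁻¹) = (x' * c) * g' * c⁻¹ := by group
        _ = (c * x') * g' * c⁻¹ := by rw [hc]
        _ = c * (x' * g') * c⁻¹ := by group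
        _ = c * (g' * x') * c⁻¹ := by rw [← ha]
        _ = c * g' * (x' * c⁻¹) := by group
        _ = c * g' * (c⁻¹ * x') := by
          have : x' * c⁻¹ = c⁻¹ * x' := by
            calc x' * c⁻¹ = c⁻¹ * (c * x') * c⁻¹ := by group
              _ = c⁻¹ * (x' * c) * c⁻¹ := by rw [hc]
              _ = c⁻¹ * x' := by group
          rw [this]
        _ = c * g' * c⁻¹ * x' := by group
  have : Subgroup.centralizer (KS S G : Set G) =
      Subgroup.centralizer ({x : G | IsT S x} ∪ (Subgroup.center G : Set G)) := by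
    unfold KS
    exact Subgroup.centralizer_closure _
  rw [this, Subgroup.mem_centralizer_iff]
  intro k hk
  rcases hk with hk | hk
  · exact key k hk
  · exact Subgroup.mem_center_iff.mp hk g |>.symm

theorem Setup.not_dvd_index_centralizer (hs : Setup S G) (r : ℕ) (hr : r.Prime) (hrS : r ∉ S) :
    ¬ r ∣ (Subgroup.centralizer (KS S G : Set G)).index := by
  have : Fact r.Prime := ⟨hr⟩
  obtain P : Sylow r G := default
  have hle : (P : Subgroup G) ≤ Subgroup.centralizer (KS S G : Set G) := by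
    intro g hg
    apply hs.pelement_centralizes r hrS g
    apply P.isPGroup'.to_le
    rw [Subgroup.zpowers_le]
    exact hg
  intro h
  exact P.not_dvd_index (h.trans (Subgroup.index_dvd_of_le hle))

/-- the centralizer of an element of kind `S` is the centralizer of `KS` -/
theorem Setup.centralizer_eq (hs : Setup S G) {x : G} (hx : IsT S x) :
    Subgroup.centralizer ({x} : Set G) = Subgroup.centralizer (KS S G : Set G) := by
  apply le_antisymm
  · intro g hg
    by_cases hk : g ∈ KS S G
    · rw [Subgroup.mem_centralizer_iff]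
      intro k hk'
      exact hs.KS_comm hk' hk
    · have hT : IsT Sᶜ g := hs.isT_compl_of_not_mem hk
      rw [Subgroup.mem_centralizer_singleton_iff] at hg
      obtain ⟨a, b, g₁, g₂, ha, hb, hg₁, hg₂, hgg, hg₁a, hg₂b⟩ := exists_parts S g
      have h1 : g₁ ∈ Subgroup.center G := hs.central_part hx hT hg.symm ha hg₁ hg₁a
      have h1' : g₁ ∈ Subgroup.centralizer (KS S G : Set G) := by
        rw [Subgroup.mem_centralizer_iff]
        intro k _
        exact Subgroup.mem_center_iff.mp h1 k
      have h2 : g₂ ∈ Subgroup.centralizer (KS S G : Set G) := by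
        apply mem_of_pow_mem_of_pow_eq_one
          (a := b) (m := (Subgroup.centralizer (KS S G : Set G)).index) ?_ hg₂b
          (Subgroup.pow_index_mem _ g₂)
        apply Nat.coprime_of_dvd
        intro p hp hpb hpi
        exact hs.not_dvd_index_centralizer p hp (hb p hp hpb) hpi
      rw [hgg]
      exact Subgroup.mul_mem _ h1' h2
  · exact Subgroup.centralizer_le (Set.singleton_subset_iff.mpr (isT_mem_KS hx))

end Fin

end Cfsg.Agent.Lib.Helper8.CGr
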