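import Mathlib
import Cfsg.Agent.Lib.Helper8.CGr4

set_option autoImplicit false

/-!
# Disconnected class-size prime graph: `KS` is self-centralizing
-/

namespace Cfsg.Agent.Lib.Helper8.CGr

open scoped Pointwise

variable {G : Type*} [Group G] {S : Set ℕ}

/-- a `p`-subgroup is conjugate into any subgroup of index prime to `p` -/
theorem exists_conj_le_of_not_dvd_index [Finite G] (p : ℕ) [hp : Fact p.Prime] (C : Subgroup G)
    (hC : ¬ p ∣ C.index) (P : Subgroup G) (hP : IsPGroup p P) :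
    ∃ a : G, ∀ z ∈ P, a⁻¹ * z * a ∈ C := by
  have hnd : ¬ p ∣ Nat.card (G ⧸ C) := by
    rwa [← Subgroup.index_eq_card]
  obtain ⟨x, hx⟩ := hP.nonempty_fixed_point_of_prime_not_dvd_card (G ⧸ C) hnd
  obtain ⟨a, rfl⟩ := QuotientGroup.mk_surjective x
  refine ⟨a, fun z hz => ?_⟩
  have h0 := hx ⟨z, hz⟩
  have h1 : ((z * a : G) : G ⧸ C) = (a : G ⧸ C) := h0
  rw [QuotientGroup.eq] at h1
  have h2 := C.inv_mem h1
  have h3 : ((z * a)⁻¹ * a)⁻¹ = a⁻¹ * z * a := by group
  rwa [h3] at h2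

/-- pure arithmetic for the counting argument -/
theorem count_arith {c k f z p : ℕ} (hz : 0 < z) (hf : 0 < f) (hc : 0 < c) (hck : 2 * k ≤ c)
    (hkz : 2 * z ≤ k) (hzf : z ≤ f) (hp : p * z = f * k) (h : (c - k) * p ≤ c * (f - z)) :
    False := by
  obtain ⟨d, rfl⟩ : ∃ d, c = k + d := ⟨c - k, by omega⟩
  obtain ⟨e, rfl⟩ : ∃ e, f = z + e := ⟨f - z, by omega⟩
  have h1 : k + d - k = d := by omega
  have h2 : z + e - z = e := by omega
  rw [h1, h2] at h
  -- `d * p ≤ (k + d) * e`, `p * z = (z + e) * k`, `k ≤ d`, `2 z ≤ k`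
  have hkd : k ≤ d := by omega
  have h3 : d * p * z ≤ (k + d) * e * z := Nat.mul_le_mul_right z h
  have h4 : d * p * z = d * ((z + e) * k) := by rw [mul_assoc, hp]
  rw [h4] at h3
  nlinarith [Nat.mul_le_mul hkd hkz, Nat.zero_le (d * e), Nat.zero_le (e * k), Nat.zero_le (d * z),
    Nat.mul_le_mul_right (e) hkd, Nat.mul_le_mul_right (z + e) hkd]

section Fin

variable [Finite G]

theorem Setup.KS_le_centralizer (hs : Setup S G) :
    KS S G ≤ Subgroup.centralizer (KS S G : Set G) := by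
  intro k hk
  rw [Subgroup.mem_centralizer_iff]
  intro k' hk'
  exact hs.KS_comm hk' hk

/-- `KS` is its own centralizer -/
theorem Setup.centralizer_KS (hs : Setup S G) :
    Subgroup.centralizer (KS S G : Set G) = KS S G := by
  classical
  apply le_antisymm _ hs.KS_le_centralizer
  by_contra hnot
  set C := Subgroup.centralizer (KS S G : Set G) with hC
  set K := KS S G with hK
  set Z := Subgroup.center G with hZ
  obtain ⟨y₁, hy₁C, hy₁K⟩ := SetLike.not_le_iff_exists.mp hnot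
  obtain ⟨x₀, hx₀⟩ := hs.exX
  have hCx₀ : Subgroup.centralizer ({x₀} : Set G) = C := hs.centralizer_eq hx₀
  have hidx : C.index = cs x₀ := by rw [cs_def, hCx₀]
  obtain ⟨q, hq, hqd⟩ := Nat.exists_prime_and_dvd hx₀.1
  have hqS : q ∈ S := hx₀.2 q hq hqd
  have : Fact q.Prime := ⟨hq⟩
  obtain Q : Sylow q G := default
  set F := C ⊓ Subgroup.centralizer ((Q : Subgroup G) : Set G) with hF
  have hZK : Z ≤ K := center_le_KS
  have hKC : K ≤ C := hs.KS_le_centralizer
  have hZF : Z ≤ F := by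
    intro z hz
    refine Subgroup.mem_inf.mpr ⟨hKC (hZK hz), ?_⟩
    rw [Subgroup.mem_centralizer_iff]
    intro w _
    exact Subgroup.mem_center_iff.mp hz w
  -- `F ⊓ K = Z`
  have hFK : F ⊓ K = Z := by
    apply le_antisymm _ (le_inf hZF hZK)
    intro k hk
    by_contra hkz
    have hkF : k ∈ F := (Subgroup.mem_inf.mp hk).1
    have hkK : k ∈ K := (Subgroup.mem_inf.mp hk).2
    have hkT : IsT S k := hs.isT_of_mem_not_center hkK hkz
    have hCk : Subgroup.centralizer ({k} : Set G) = C := hs.centralizer_eq hkT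
    have hQC : (Q : Subgroup G) ≤ C := by
      intro w hw
      rw [← hCk, Subgroup.mem_centralizer_singleton_iff]
      have := (Subgroup.mem_inf.mp hkF).2
      rw [Subgroup.mem_centralizer_iff] at this
      exact this w hw
    have : q ∣ (Q : Subgroup G).index := by
      refine (hqd.trans ?_).trans (Subgroup.index_dvd_of_le hQC)
      rw [hidx]
    exact Q.not_dvd_index this
  -- every element of `C \ K` is `C`-conjugate into `F \ Z`
  have hconj : ∀ y ∈ C, y ∉ K → ∃ c ∈ C, c * y * c⁻¹ ∈ F ∧ c * y * c⁻¹ ∉ Z := by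
    intro y hyC hyK
    have hyT : IsT Sᶜ y := hs.isT_compl_of_not_mem hyK
    have hnd : ¬ q ∣ (Subgroup.centralizer ({y} : Set G)).index := fun h =>
      hyT.2 q hq h hqS
    obtain ⟨a, ha⟩ := exists_conj_le_of_not_dvd_index q _ hnd (Q : Subgroup G) Q.isPGroup'
    obtain ⟨c, hc, d, hd, hcd⟩ := exists_mul x₀ y (IsT.coprime hx₀ hyT) a
    rw [hCx₀] at hc
    rw [Subgroup.mem_centralizer_singleton_iff] at hd
    have e : a * y * a⁻¹ = c * y * c⁻¹ := by
      rw [hcd]
      calc c * d * y * (c * d)⁻¹ = c * (d * y) * d⁻¹ * c⁻¹ := by group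
        _ = c * (y * d) * d⁻¹ * c⁻¹ := by rw [hd]
        _ = c * y * c⁻¹ := by group
    refine ⟨c, hc, Subgroup.mem_inf.mpr ⟨?_, ?_⟩, ?_⟩
    · exact C.mul_mem (C.mul_mem hc hyC) (C.inv_mem hc)
    · rw [← e, Subgroup.mem_centralizer_iff]
      intro w hw
      have := ha w hw
      rw [Subgroup.mem_centralizer_singleton_iff] at this
      calc w * (a * y * a⁻¹) = a * (a⁻¹ * w * a * y) * a⁻¹ := by group
        _ = a * (y * (a⁻¹ * w * a)) * a⁻¹ := by rw [this]
        _ = a * y * a⁻¹ * w := by group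
    · intro hz
      apply hyK
      apply hZK
      have := (inferInstance : (Subgroup.center G).Normal).conj_mem _ hz c⁻¹
      have e2 : c⁻¹ * (c * y * c⁻¹) * c⁻¹⁻¹ = y := by group
      rwa [e2] at this
  -- conjugation by `F ⊔ K` preserves `F \ Z`
  have hpres : ∀ w ∈ F ⊔ K, ∀ a ∈ F, a ∉ Z → w * a * w⁻¹ ∈ F ∧ w * a * w⁻¹ ∉ Z := by
    intro w hw a ha haz
    have hw' : w ∈ ((F ⊔ K : Subgroup G) : Set G) := hw
    rw [Subgroup.mul_normal F K] at hw'
    obtain ⟨f, hf, k, hk, rfl⟩ := Set.mem_mul.mp hw'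
    have hka : k * a * k⁻¹ = a := by
      have h1 : a ∈ C := (Subgroup.mem_inf.mp ha).1
      rw [hC, Subgroup.mem_centralizer_iff] at h1
      have h2 := h1 k hk
      calc k * a * k⁻¹ = a * k * k⁻¹ := by rw [h2]
        _ = a := by group
    have e : f * k * a * (f * k)⁻¹ = f * a * f⁻¹ := by
      calc f * k * a * (f * k)⁻¹ = f * (k * a * k⁻¹) * f⁻¹ := by group
        _ = f * a * f⁻¹ := by rw [hka]
    rw [e]
    refine ⟨F.mul_mem (F.mul_mem hf ha) (F.inv_mem hf), ?_⟩
    intro hz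
    apply haz
    have := (inferInstance : (Subgroup.center G).Normal).conj_mem _ hz f⁻¹
    have e2 : f⁻¹ * (f * a * f⁻¹) * f⁻¹⁻¹ = a := by group
    rwa [e2] at this
  -- the counting
  set A : Set G := (F : Set G) \ (Z : Set G) with hA
  set B : Set G := (C : Set G) \ (K : Set G) with hB
  have hchoice : ∀ y : B, ∃ ca : C × A, (ca.1 : G) * (ca.2 : G) * (ca.1 : G)⁻¹ = (y : G) := by
    rintro ⟨y, hyC, hyK⟩
    obtain ⟨c, hc, h1, h2⟩ := hconj y hyC hyK
    refine ⟨(⟨c⁻¹, C.inv_mem hc⟩, ⟨c * y * c⁻¹, h1, h2⟩), ?_⟩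
    show c⁻¹ * (c * y * c⁻¹) * c⁻¹⁻¹ = y
    group
  choose ψ hψ using hchoice
  have hcount : Nat.card (B × ↥(F ⊔ K)) ≤ Nat.card (C × A) := by
    apply Nat.card_le_card_of_injective (fun yw : B × ↥(F ⊔ K) =>
      ((⟨((ψ yw.1).1 : G) * (yw.2 : G)⁻¹,
          C.mul_mem (ψ yw.1).1.2 (C.inv_mem ((sup_le inf_le_left hKC) yw.2.2))⟩ : C),
        (⟨(yw.2 : G) * ((ψ yw.1).2 : G) * (yw.2 : G)⁻¹,
          hpres _ yw.2.2 _ (ψ yw.1).2.2.1 (ψ yw.1).2.2.2⟩ : A)))
    rintro ⟨y, w⟩ ⟨y', w'⟩ h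
    have h1 : ((ψ y).1 : G) * (w : G)⁻¹ = ((ψ y').1 : G) * (w' : G)⁻¹ :=
      congrArg (fun p : C × A => ((p.1 : C) : G)) h
    have h2 : (w : G) * ((ψ y).2 : G) * (w : G)⁻¹ = (w' : G) * ((ψ y').2 : G) * (w' : G)⁻¹ :=
      congrArg (fun p : C × A => ((p.2 : A) : G)) h
    have hy : (y : G) = (y' : G) := by
      rw [← hψ y, ← hψ y']
      calc ((ψ y).1 : G) * ((ψ y).2 : G) * ((ψ y).1 : G)⁻¹
          = (((ψ y).1 : G) * (w : G)⁻¹) * ((w : G) * ((ψ y).2 : G) * (w : G)⁻¹)
              * (((ψ y).1 : G) * (w : G)⁻¹)⁻¹ := by group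
        _ = (((ψ y').1 : G) * (w' : G)⁻¹) * ((w' : G) * ((ψ y').2 : G) * (w' : G)⁻¹)
              * (((ψ y').1 : G) * (w' : G)⁻¹)⁻¹ := by rw [h1, h2]
        _ = ((ψ y').1 : G) * ((ψ y').2 : G) * ((ψ y').1 : G)⁻¹ := by group
    have hy' : y = y' := Subtype.ext hy
    subst hy'
    have hw : (w : G) = (w' : G) := by
      have := mul_left_cancel h1
      exact inv_injective this
    rw [Subtype.ext hw]
  rw [Nat.card_prod, Nat.card_prod] at hcount
  -- the cardinalities
  have cA : Nat.card A + Nat.card Z = Nat.card F := by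
    have := Set.ncard_sdiff_add_ncard_of_subset (s := (Z : Set G)) (t := (F : Set G))
      (fun z hz => hZF hz)
    rw [← Nat.card_coe_set_eq, ← Nat.card_coe_set_eq, ← Nat.card_coe_set_eq] at this
    exact this
  have cB : Nat.card B + Nat.card K = Nat.card C := by
    have := Set.ncard_sdiff_add_ncard_of_subset (s := (K : Set G)) (t := (C : Set G))
      (fun z hz => hKC hz)
    rw [← Nat.card_coe_set_eq, ← Nat.card_coe_set_eq, ← Nat.card_coe_set_eq] at this
    exact this
  have cFK : Nat.card ↥(F ⊔ K) * Nat.card Z = Nat.card F * Nat.card K := by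
    have h0 : F ≤ Subgroup.normalizer (K : Set G) := by
      rw [Subgroup.normalizer_eq_top]
      exact le_top
    have := Cfsg.Agent.Lib.Helper2.card_sup_mul_card_inf F K h0
    rwa [hFK] at this
  -- `2 |K| ≤ |C|`, `2 |Z| ≤ |K|`
  have hKC2 : 2 * Nat.card K ≤ Nat.card C := by
    obtain ⟨m, hm⟩ := Subgroup.card_dvd_of_le hKC
    have hpos : 0 < Nat.card C := Nat.card_pos
    have hKpos : 0 < Nat.card K := Nat.card_pos
    rcases Nat.lt_or_ge m 2 with hm2 | hm2
    · exfalso
      interval_cases m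
      · rw [mul_zero] at hm; omega
      · rw [mul_one] at hm
        apply hnot
        intro c hc
        have : K.subgroupOf C = ⊤ := by
          apply Subgroup.eq_top_of_card_eq
          rw [Nat.card_congr (Subgroup.subgroupOfEquivOfLe hKC).toEquiv]
          exact hm.symm
        rw [Subgroup.subgroupOf_eq_top] at this
        exact this hc
    · rw [hm]
      nlinarith
  have hZK2 : 2 * Nat.card Z ≤ Nat.card K := by
    obtain ⟨m, hm⟩ := Subgroup.card_dvd_of_le hZK
    have hKpos : 0 < Nat.card K := Nat.card_pos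
    have hZpos : 0 < Nat.card Z := Nat.card_pos
    rcases Nat.lt_or_ge m 2 with hm2 | hm2
    · exfalso
      interval_cases m
      · rw [mul_zero] at hm; omega
      · rw [mul_one] at hm
        apply hx₀.not_mem_center
        have : Z.subgroupOf K = ⊤ := by
          apply Subgroup.eq_top_of_card_eq
          rw [Nat.card_congr (Subgroup.subgroupOfEquivOfLe hZK).toEquiv]
          exact hm.symm
        rw [Subgroup.subgroupOf_eq_top] at this
        exact this (isT_mem_KS hx₀)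
    · rw [hm]
      nlinarith
  have hB' : Nat.card B = Nat.card C - Nat.card K := by omega
  have hA' : Nat.card A = Nat.card F - Nat.card Z := by omega
  rw [hB', hA'] at hcount
  exact count_arith (Nat.card_pos (α := Z)) (Nat.card_pos (α := F)) (Nat.card_pos (α := C))
    hKC2 hZK2 (by omega) cFK hcount

end Fin

end Cfsg.Agent.Lib.Helper8.CGr
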