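import Mathlib
import Cfsg.Agent.Lib.Helper8.CGr5

set_option autoImplicit false

/-!
# Disconnected class-size prime graph: centralizers of the elements outside `KS`
-/

namespace Cfsg.Agent.Lib.Helper8.CGr

variable {G : Type*} [Group G] {S : Set ℕ}

section Fin

variable [Finite G]

theorem Setup.centralizer_isT (hs : Setup S G) {x : G} (hx : IsT S x) :
    Subgroup.centralizer ({x} : Set G) = KS S G := by
  rw [hs.centralizer_eq hx, hs.centralizer_KS]

theorem Setup.cs_isT (hs : Setup S G) {x : G} (hx : IsT S x) : cs x = (KS S G).index := by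
  rw [cs_def, hs.centralizer_isT hx]

theorem Setup.inf_KS_eq_center (hs : Setup S G) {a : G} (ha : a ∉ KS S G) :
    Subgroup.centralizer ({a} : Set G) ⊓ KS S G = Subgroup.center G := by
  apply le_antisymm
  · intro k hk
    obtain ⟨hk1, hk2⟩ := Subgroup.mem_inf.mp hk
    by_contra hkz
    have hkT : IsT S k := hs.isT_of_mem_not_center hk2 hkz
    apply ha
    rw [← hs.centralizer_isT hkT, Subgroup.mem_centralizer_singleton_iff]
    rw [Subgroup.mem_centralizer_singleton_iff] at hk1
    exact hk1.symm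
  · apply le_inf _ center_le_KS
    intro z hz
    rw [Subgroup.mem_centralizer_singleton_iff]
    exact (Subgroup.mem_center_iff.mp hz a).symm

theorem Setup.exists_mul_KS (hs : Setup S G) {a : G} (ha : a ∉ KS S G) (g : G) :
    ∃ k ∈ KS S G, ∃ c ∈ Subgroup.centralizer ({a} : Set G), g = k * c := by
  obtain ⟨x₀, hx₀⟩ := hs.exX
  have hT : IsT Sᶜ a := hs.isT_compl_of_not_mem ha
  obtain ⟨k, hk, c, hc, h⟩ := exists_mul x₀ a (IsT.coprime hx₀ hT) g
  rw [hs.centralizer_isT hx₀] at hk
  exact ⟨k, hk, c, hc, h⟩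

/-- if `g k g⁻¹ = k z` with `k ∈ KS` and `z` central then `z = 1` -/
theorem Setup.zlemma (hs : Setup S G) {k g z : G} (hk : k ∈ KS S G) (hz : z ∈ Subgroup.center G)
    (h : g * k * g⁻¹ = k * z) : z = 1 := by
  by_cases hkz : k ∈ Subgroup.center G
  · have : g * k * g⁻¹ = k := by
      rw [Subgroup.mem_center_iff.mp hkz g]; group
    rw [this] at h
    exact (mul_eq_left.mp h.symm)
  · have hkT : IsT S k := hs.isT_of_mem_not_center hk hkz
    have hzM : z ∈ Mst S G := by
      have := hs.inv_mul_conj_mem hkT g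
      rw [h] at this
      simpa using this
    have h1 : orderOf z ∣ Nat.card (Mst S G) := by
      have h := orderOf_dvd_natCard (⟨z, hzM⟩ : Mst S G)
      rwa [Subgroup.orderOf_mk] at h
    have hzc : ∀ w : G, w * z = z * w := fun w => Subgroup.mem_center_iff.mp hz w
    have hpow : ∀ n : ℕ, g ^ n * k * (g ^ n)⁻¹ = k * z ^ n := by
      intro n
      induction n with
      | zero => simp
      | succ n ih =>
        have hzn : g * z ^ n * g⁻¹ = z ^ n := by
          have : z ^ n ∈ Subgroup.center G := Subgroup.pow_mem _ hz n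
          rw [Subgroup.mem_center_iff.mp this g]; group
        calc g ^ (n + 1) * k * (g ^ (n + 1))⁻¹ = g * (g ^ n * k * (g ^ n)⁻¹) * g⁻¹ := by
              rw [pow_succ']; group
          _ = g * (k * z ^ n) * g⁻¹ := by rw [ih]
          _ = (g * k * g⁻¹) * (g * z ^ n * g⁻¹) := by group
          _ = k * z * z ^ n := by rw [h, hzn]
          _ = k * z ^ (n + 1) := by rw [pow_succ']; group
    have h2 : z ^ (KS S G).index = 1 := by
      have hmem : g ^ (KS S G).index ∈ KS S G := Subgroup.pow_index_mem _ g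
      have hc := hs.KS_comm hmem hk
      have := hpow (KS S G).index
      rw [hc] at this
      have e : k * g ^ (KS S G).index * (g ^ (KS S G).index)⁻¹ = k := by group
      rw [e] at this
      exact (mul_eq_left.mp this.symm)
    have h3 : orderOf z ∣ (KS S G).index := orderOf_dvd_of_pow_eq_one h2
    have hcop : (Nat.card (Mst S G)).Coprime (KS S G).index := by
      rw [← hs.cs_isT hkT]
      exact hs.card_Mst_coprime hkT
    exact orderOf_eq_one_iff.mp (Nat.eq_one_of_dvd_coprimes hcop h1 h3)

/-- the core of the Frobenius property, inside `G` -/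
theorem Setup.frob (hs : Setup S G) {w₀ : G} (hw₀ : w₀ ∉ KS S G) {g a b : G}
    (hg : g ∉ Subgroup.centralizer ({w₀} : Set G))
    (ha : a ∈ Subgroup.centralizer ({w₀} : Set G)) (hb : b ∈ Subgroup.centralizer ({w₀} : Set G))
    (h : g * b * g⁻¹ = a) : a ∈ Subgroup.center G := by
  by_contra haz
  set H := Subgroup.centralizer ({w₀} : Set G) with hH
  have hHK : H ⊓ KS S G = Subgroup.center G := hs.inf_KS_eq_center hw₀
  have hZH : Subgroup.center G ≤ H := by rw [← hHK]; exact inf_le_left
  obtain ⟨k, hk, c, hc, hkc⟩ := hs.exists_mul_KS hw₀ g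
  set b' := c * b * c⁻¹ with hb'
  have hb'H : b' ∈ H := H.mul_mem (H.mul_mem hc hb) (H.inv_mem hc)
  have hab' : a = k * b' * k⁻¹ := by
    rw [← h, hkc, hb']; group
  -- `a b'⁻¹ ∈ H ⊓ K = Z`
  set z' := a * b'⁻¹ with hz'
  have hz'Z : z' ∈ Subgroup.center G := by
    rw [← hHK]
    refine Subgroup.mem_inf.mpr ⟨H.mul_mem ha (H.inv_mem hb'H), ?_⟩
    have e : z' = k * (b' * k⁻¹ * b'⁻¹) := by rw [hz', hab']; group
    rw [e]
    exact Subgroup.mul_mem _ hk
      ((KS_normal (S := S) (G := G)).conj_mem _ (Subgroup.inv_mem _ hk) b')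
  have hcz' : ∀ w : G, w * z' = z' * w := fun w => Subgroup.mem_center_iff.mp hz'Z w
  have e1 : b'⁻¹ * k * b'⁻¹⁻¹ = k * z' := by
    have h1 : a = z' * b' := by rw [hz']; group
    have h2 : k * b' * k⁻¹ = b' * z' := by rw [← hab', h1, hcz' b']
    calc b'⁻¹ * k * b'⁻¹⁻¹ = b'⁻¹ * (k * b' * k⁻¹) * k := by group
      _ = b'⁻¹ * (b' * z') * k := by rw [h2]
      _ = z' * k := by group
      _ = k * z' := (hcz' k).symm
  have hz'1 : z' = 1 := hs.zlemma hk hz'Z e1
  have hab'' : a = b' := by
    have h1 : a = z' * b' := by rw [hz']; group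
    rw [h1, hz'1, one_mul]
  -- `a` commutes with `k`
  have hak : k * a = a * k := by
    have : k * a * k⁻¹ = a := by
      calc k * a * k⁻¹ = k * b' * k⁻¹ := by rw [hab'']
        _ = a := hab'.symm
    calc k * a = k * a * k⁻¹ * k := by group
      _ = a * k := by rw [this]
  have haK : a ∉ KS S G := by
    intro haK
    apply haz
    rw [← hHK]
    exact Subgroup.mem_inf.mpr ⟨ha, haK⟩
  have hkZ : k ∈ Subgroup.center G := by
    by_contra hkz
    have hkT : IsT S k := hs.isT_of_mem_not_center hk hkz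
    apply haK
    rw [← hs.centralizer_isT hkT, Subgroup.mem_centralizer_singleton_iff]
    exact hak.symm
  apply hg
  rw [hkc]
  exact H.mul_mem (hZH hkZ) hc

theorem Setup.card_centralizer (hs : Setup S G) {a : G} (ha : a ∉ KS S G) :
    Nat.card G * Nat.card (Subgroup.center G) =
      Nat.card (Subgroup.centralizer ({a} : Set G)) * Nat.card (KS S G) := by
  have h0 : Subgroup.centralizer ({a} : Set G) ≤ Subgroup.normalizer (KS S G : Set G) := by
    rw [Subgroup.normalizer_eq_top]
    exact le_top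
  have h1 := Cfsg.Agent.Lib.Helper2.card_sup_mul_card_inf _ _ h0
  rw [hs.inf_KS_eq_center ha] at h1
  have h2 : Subgroup.centralizer ({a} : Set G) ⊔ KS S G = ⊤ := by
    rw [eq_top_iff]
    intro g _
    obtain ⟨k, hk, c, hc, rfl⟩ := hs.exists_mul_KS ha g
    exact Subgroup.mul_mem _ (Subgroup.mem_sup_right hk) (Subgroup.mem_sup_left hc)
  rw [h2] at h1
  rw [← h1, Subgroup.card_top]

/-- the centralizer of an element outside `KS` is commutative -/
theorem Setup.centralizer_comm (hs : Setup S G) {w₀ : G} (hw₀ : w₀ ∉ KS S G) {a b : G}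
    (ha : a ∈ Subgroup.centralizer ({w₀} : Set G)) (hb : b ∈ Subgroup.centralizer ({w₀} : Set G)) :
    a * b = b * a := by
  by_cases haz : a ∈ Subgroup.center G
  · exact (Subgroup.mem_center_iff.mp haz b).symm
  set H := Subgroup.centralizer ({w₀} : Set G) with hH
  have hHK : H ⊓ KS S G = Subgroup.center G := hs.inf_KS_eq_center hw₀
  have haK : a ∉ KS S G := by
    intro haK
    apply haz
    rw [← hHK]
    exact Subgroup.mem_inf.mpr ⟨ha, haK⟩
  have hle : Subgroup.centralizer ({a} : Set G) ≤ H := by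
    intro g hg
    by_contra hgH
    apply haz
    apply hs.frob hw₀ hgH ha ha
    rw [Subgroup.mem_centralizer_singleton_iff] at hg
    calc g * a * g⁻¹ = a * g * g⁻¹ := by rw [hg]
      _ = a := by group
  have hcard : Nat.card H ≤ Nat.card (Subgroup.centralizer ({a} : Set G)) := by
    have h1 := hs.card_centralizer hw₀
    have h2 := hs.card_centralizer haK
    rw [h1] at h2
    have hpos : 0 < Nat.card (KS S G) := Nat.card_pos
    exact (Nat.eq_of_mul_eq_mul_right hpos h2).le
  have heq : Subgroup.centralizer ({a} : Set G) = H :=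
    Subgroup.eq_of_le_of_card_ge hle hcard
  have : b ∈ Subgroup.centralizer ({a} : Set G) := by rw [heq]; exact hb
  rw [Subgroup.mem_centralizer_singleton_iff] at this
  exact this.symm

end Fin

end Cfsg.Agent.Lib.Helper8.CGr
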