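import Mathlib
import Cfsg.Prelude.Def_Solvable
import Cfsg.Agent.Lib.Helper8.CGr6
import Cfsg.Agent.Lib.Helper8.FrobeniusConstruct

set_option autoImplicit false

/-!
# Disconnected class-size prime graph: `G / Z(G)` is a Frobenius group with abelian kernel and
complement
-/

namespace Cfsg.Agent.Lib.Helper8.CGr

open scoped Pointwise

variable {G : Type*} [Group G] [Finite G] {S : Set ℕ}

omit [Finite G] in
theorem index_map_mk'_of_le (N : Subgroup G) [N.Normal] (H : Subgroup G) (h : N ≤ H) :
    (H.map (QuotientGroup.mk' N)).index = H.index :=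
  Subgroup.index_map_eq H (QuotientGroup.mk'_surjective N) (by rw [QuotientGroup.ker_mk']; exact h)

theorem Setup.main (hs : Setup S G) :
    ∃ H : Subgroup (G ⧸ Subgroup.center G), Cfsg.IsFrobeniusComplement H ∧ IsMulCommutative H ∧
      ∀ x ∈ Cfsg.frobeniusKernel H, ∀ y ∈ Cfsg.frobeniusKernel H, x * y = y * x := by
  obtain ⟨w₀, hw₀T⟩ := hs.exY
  obtain ⟨x₀, hx₀⟩ := hs.exX
  have hw₀ : w₀ ∉ KS S G := fun h => hs.not_isT_compl_of_mem_KS h hw₀T
  have hHK := hs.inf_KS_eq_center hw₀
  have hZH : Subgroup.center G ≤ Subgroup.centralizer ({w₀} : Set G) := by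
    rw [← hHK]; exact inf_le_left
  have hπ1 : ∀ g : G, (QuotientGroup.mk' (Subgroup.center G)) g = 1 ↔ g ∈ Subgroup.center G :=
    fun g => QuotientGroup.eq_one_iff g
  have hmem : ∀ g : G, (QuotientGroup.mk' (Subgroup.center G)) g ∈
      (Subgroup.centralizer ({w₀} : Set G)).map (QuotientGroup.mk' (Subgroup.center G)) ↔
      g ∈ Subgroup.centralizer ({w₀} : Set G) := by
    intro g
    constructor
    · rintro ⟨h, hh, hhg⟩
      have : h⁻¹ * g ∈ Subgroup.center G := by
        have := QuotientGroup.eq.mp hhg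
        exact this
      have e : g = h * (h⁻¹ * g) := by group
      rw [e]
      exact Subgroup.mul_mem _ hh (hZH this)
    · intro hg
      exact ⟨g, hg, rfl⟩
  have hfrob : Cfsg.IsFrobeniusComplement
      ((Subgroup.centralizer ({w₀} : Set G)).map (QuotientGroup.mk' (Subgroup.center G))) := by
    refine ⟨?_, ?_, ?_⟩
    · intro hbot
      have h1 : (QuotientGroup.mk' (Subgroup.center G)) w₀ ∈
          (Subgroup.centralizer ({w₀} : Set G)).map (QuotientGroup.mk' (Subgroup.center G)) :=
        (hmem w₀).mpr (Subgroup.mem_centralizer_singleton_iff.mpr rfl)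
      rw [hbot, Subgroup.mem_bot, hπ1] at h1
      exact hw₀T.not_mem_center h1
    · intro htop
      apply hw₀T.not_mem_center
      rw [Subgroup.mem_center_iff]
      intro g
      have h1 : (QuotientGroup.mk' (Subgroup.center G)) g ∈
          (Subgroup.centralizer ({w₀} : Set G)).map (QuotientGroup.mk' (Subgroup.center G)) := by
        rw [htop]; trivial
      rw [hmem] at h1
      exact Subgroup.mem_centralizer_singleton_iff.mp h1
    · intro gb hgb
      obtain ⟨g, rfl⟩ := QuotientGroup.mk'_surjective (Subgroup.center G) gb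
      rw [hmem] at hgb
      rw [eq_bot_iff]
      intro ab hab
      obtain ⟨hab1, hab2⟩ := Subgroup.mem_inf.mp hab
      obtain ⟨a, ha, rfl⟩ := hab1
      rw [mem_conj_smul_iff_h8, ← map_inv, ← map_mul, ← map_mul, hmem] at hab2
      rw [Subgroup.mem_bot, hπ1]
      apply hs.frob hw₀ hgb ha hab2
      group
  have hcomm : IsMulCommutative (Subgroup.centralizer ({w₀} : Set G)) :=
    ⟨⟨fun a b => Subtype.ext (hs.centralizer_comm hw₀ a.2 b.2)⟩⟩
  refine ⟨(Subgroup.centralizer ({w₀} : Set G)).map (QuotientGroup.mk' (Subgroup.center G)),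
    hfrob, inferInstance, ?_⟩
  -- the kernel lies in the image of `KS`
  have hker : ∀ xb ∈ Cfsg.frobeniusKernel
      ((Subgroup.centralizer ({w₀} : Set G)).map (QuotientGroup.mk' (Subgroup.center G))),
      ∃ k ∈ KS S G, (QuotientGroup.mk' (Subgroup.center G)) k = xb := by
    intro xb hxb
    obtain ⟨x, rfl⟩ := QuotientGroup.mk'_surjective (Subgroup.center G) xb
    by_contra hcon
    have hxK : x ∉ KS S G := fun h => hcon ⟨x, h, rfl⟩
    have hxT : IsT Sᶜ x := hs.isT_compl_of_not_mem hxK
    have hxZ : x ∉ Subgroup.center G := hxT.not_mem_center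
    set π := QuotientGroup.mk' (Subgroup.center G) with hπ
    have hx1 : π x ≠ 1 := fun h => hxZ ((hπ1 x).mp h)
    -- `(π x) ^ h = 1`
    have hpow : (π x) ^ (KS S G).index = 1 := by
      rw [← map_pow, hπ1, ← hs.inf_KS_eq_center hxK]
      refine Subgroup.mem_inf.mpr ⟨?_, Subgroup.pow_index_mem _ x⟩
      rw [Subgroup.mem_centralizer_singleton_iff]
      exact (pow_mul_comm' x _)
    have ho : orderOf (π x) ∣ (KS S G).index := orderOf_dvd_of_pow_eq_one hpow
    have ho1 : orderOf (π x) ≠ 1 := fun h => hx1 (orderOf_eq_one_iff.mp h)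
    obtain ⟨r, hr, hrd⟩ := Nat.exists_prime_and_dvd ho1
    have : Fact r.Prime := ⟨hr⟩
    set v := (π x) ^ (orderOf (π x) / r) with hv
    have hov : orderOf v = r := orderOf_pow_orderOf_div (orderOf_pos (π x)).ne' hrd
    have hpg : IsPGroup r (Subgroup.zpowers v) := by
      apply IsPGroup.of_card (n := 1)
      rw [Nat.card_zpowers, hov, pow_one]
    have hrS : r ∈ S := by
      apply hx₀.2 r hr
      rw [hs.cs_isT hx₀]
      exact hrd.trans ho
    have hnd : ¬ r ∣ ((Subgroup.centralizer ({w₀} : Set G)).map π).index := by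
      rw [hπ, index_map_mk'_of_le _ _ hZH]
      intro h
      exact hw₀T.2 r hr h hrS
    obtain ⟨ab, hab⟩ := exists_conj_mem_of_not_dvd_index r _ hnd v hpg
    have hv1 : v ≠ 1 := by
      intro h
      rw [h, orderOf_one] at hov
      exact hr.one_lt.ne hov
    have hxin : π x ∈ MulAut.conj ab • ((Subgroup.centralizer ({w₀} : Set G)).map π) := by
      by_contra hnot
      rw [mem_conj_smul_iff_h8] at hnot
      have h1 := hfrob.2.2 _ hnot
      have h2 : ab⁻¹ * v * ab ∈ ((Subgroup.centralizer ({w₀} : Set G)).map π) ⊓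
          MulAut.conj (ab⁻¹ * π x * ab) • ((Subgroup.centralizer ({w₀} : Set G)).map π) := by
        refine Subgroup.mem_inf.mpr ⟨hab, ?_⟩
        rw [mem_conj_smul_iff_h8]
        have e : (ab⁻¹ * π x * ab)⁻¹ * (ab⁻¹ * v * ab) * (ab⁻¹ * π x * ab) = ab⁻¹ * v * ab := by
          have hc : π x * v = v * π x := by
            rw [hv]
            exact (pow_mul_comm' (π x) _).symm
          calc (ab⁻¹ * π x * ab)⁻¹ * (ab⁻¹ * v * ab) * (ab⁻¹ * π x * ab)
              = ab⁻¹ * (π x)⁻¹ * (v * π x) * ab := by group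
            _ = ab⁻¹ * (π x)⁻¹ * (π x * v) * ab := by rw [hc]
            _ = ab⁻¹ * v * ab := by group
        rw [e]
        exact hab
      rw [h1, Subgroup.mem_bot] at h2
      apply hv1
      calc v = ab * (ab⁻¹ * v * ab) * ab⁻¹ := by group
        _ = 1 := by rw [h2]; group
    rcases hxb with h | h
    · exact hx1 h
    · exact h ab hxin
  intro xb hxb yb hyb
  obtain ⟨k, hk, rfl⟩ := hker xb hxb
  obtain ⟨k', hk', rfl⟩ := hker yb hyb
  rw [← map_mul, ← map_mul, hs.KS_comm hk hk']

end Cfsg.Agent.Lib.Helper8.CGr
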