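import Mathlib
import Cfsg.Agent.Lib.Helper8.CGr4

set_option autoImplicit false

/-!
# Class sizes: two disjoint sets of primes with no class size involving both
-/

namespace Cfsg.Agent.Lib.Helper8.CGr

variable {G : Type*} [Group G] {S T : Set ℕ}

/-- the standing hypothesis on two sets of primes -/
structure Dich2 (S T : Set ℕ) (G : Type*) [Group G] : Prop where
  disj : ∀ p : ℕ, p ∈ S → p ∉ T
  prod : ∀ x y : G, IsT S x → IsT T y → IsT S (x * y) ∨ IsT T (x * y)

theorem cs_mul_comm (x y : G) : cs (y * x) = cs (x * y) := by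
  have : y * x = x⁻¹ * (x * y) * x⁻¹⁻¹ := by group
  rw [this, cs_conj]

theorem Dich2.symm (hd : Dich2 S T G) : Dich2 T S G where
  disj := fun p hpT hpS => hd.disj p hpS hpT
  prod := fun y x hy hx => by
    rcases hd.prod x y hx hy with h | h
    · exact Or.inr (h.of_cs_eq (cs_mul_comm x y))
    · exact Or.inl (h.of_cs_eq (cs_mul_comm x y))

theorem Dich2.coprime (hd : Dich2 S T G) {x y : G} (hx : IsT S x) (hy : IsT T y) :
    (cs x).Coprime (cs y) := by
  apply Nat.coprime_of_dvd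
  intro k hk hkx hky
  exact hd.disj k (hx.2 k hk hkx) (hy.2 k hk hky)

theorem Dich2.ne (hd : Dich2 S T G) {x y : G} (hx : IsT S x) (hy : IsT T y) : cs x ≠ cs y := by
  intro h
  have := hd.coprime hx hy
  rw [h, Nat.coprime_self] at this
  exact hy.1 this

section Fin

variable [Finite G]

theorem Dich2.mul_isT (hd : Dich2 S T G) {x y : G} (hx : IsT S x) (hy : IsT T y)
    (hlt : cs x < cs y) : IsT T (x * y) ∧ cs (x * y) = cs y := by
  have hcop := hd.coprime hx hy
  have h1 := cs_le_mul_right x y hcop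
  have h3 := cs_mul_dvd x y hcop
  rcases hd.prod x y hx hy with h | h
  · exfalso
    have hc : (cs (x * y)).Coprime (cs y) := hd.coprime h hy
    have h4 : cs (x * y) ∣ cs x := hc.dvd_of_dvd_mul_right h3
    have h5 := Nat.le_of_dvd (Nat.pos_of_ne_zero (cs_ne_zero x)) h4
    omega
  · refine ⟨h, ?_⟩
    have hc : (cs (x * y)).Coprime (cs x) := (hd.coprime hx h).symm
    have h4 : cs (x * y) ∣ cs y := hc.dvd_of_dvd_mul_left h3
    have h5 := Nat.le_of_dvd (Nat.pos_of_ne_zero (cs_ne_zero y)) h4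
    omega

/-- the coset lemma: the class of `y` is stable under translation by `x⁻¹ x^g` -/
theorem Dich2.inv_mul_conj_mem_Rst (hd : Dich2 S T G) {x y : G} (hx : IsT S x) (hy : IsT T y)
    (hlt : cs x < cs y) (g : G) : x⁻¹ * (g * x * g⁻¹) ∈ Rst y := by
  apply mem_Rst_of_forall
  intro c hc
  have hcop := hd.coprime hx hy
  have hcard := (hd.mul_isT hx hy hlt).2
  have hsub : (fun c => x * c) '' conjugatesOf y ⊆ conjugatesOf (x * y) := by
    rintro _ ⟨d, hd', rfl⟩
    obtain ⟨k, rfl⟩ := mem_conj_iff.mp hd'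
    have := conj_mul_conj x y hcop 1 k
    simpa using this
  have hfin : (conjugatesOf (x * y)).Finite := Set.toFinite _
  have hinj : Function.Injective (fun c : G => x * c) := mul_right_injective x
  have hncard : (conjugatesOf (x * y)).ncard ≤ ((fun c => x * c) '' conjugatesOf y).ncard := by
    rw [Set.ncard_image_of_injective _ hinj, ← Nat.card_coe_set_eq, ← Nat.card_coe_set_eq,
      ← cs_eq_card, ← cs_eq_card, hcard]
  have heq := Set.eq_of_subset_of_ncard_le hsub hncard hfin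
  obtain ⟨k, rfl⟩ := mem_conj_iff.mp hc
  have hmem : g * x * g⁻¹ * (k * y * k⁻¹) ∈ conjugatesOf (x * y) := conj_mul_conj x y hcop g k
  rw [← heq] at hmem
  obtain ⟨d, hd', hdd⟩ := hmem
  have e : x⁻¹ * (g * x * g⁻¹) * (k * y * k⁻¹) = d := by
    have hdd' : x * d = g * x * g⁻¹ * (k * y * k⁻¹) := hdd
    calc x⁻¹ * (g * x * g⁻¹) * (k * y * k⁻¹) = x⁻¹ * (g * x * g⁻¹ * (k * y * k⁻¹)) := by group
      _ = x⁻¹ * (x * d) := by rw [hdd']
      _ = d := by group
  rw [e]
  exact hd'

/-- if the smallest class among the two kinds is of kind `S`, every class of kind `S` is smaller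
than every class of kind `T` -/
theorem Dich2.lt_of_min (hd : Dich2 S T G) {b₀ : G} (hb₀ : IsT S b₀)
    (hmin : ∀ g : G, IsT T g → cs b₀ ≤ cs g) {x y : G} (hx : IsT S x) (hy : IsT T y) :
    cs x < cs y := by
  by_contra hcon
  have hne := hd.ne hx hy
  have hlt : cs y < cs x := by omega
  have hb₀y : cs b₀ < cs y := by
    have := hmin y hy
    have := hd.ne hb₀ hy
    omega
  have hex : ∃ g : G, b₀⁻¹ * (g * b₀ * g⁻¹) ≠ 1 := by
    by_contra hall
    push Not at hall
    apply hb₀.not_mem_center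
    rw [Subgroup.mem_center_iff]
    intro g
    have := hall g
    have e : g * b₀ * g⁻¹ = b₀ := by
      calc g * b₀ * g⁻¹ = b₀ * (b₀⁻¹ * (g * b₀ * g⁻¹)) := by group
        _ = b₀ := by rw [this, mul_one]
    calc g * b₀ = g * b₀ * g⁻¹ * g := by group
      _ = b₀ * g := by rw [e]
  obtain ⟨g, hg⟩ := hex
  set u := b₀⁻¹ * (g * b₀ * g⁻¹) with hu
  have hu1 : u ∈ Rst y := hd.inv_mul_conj_mem_Rst hb₀ hy hb₀y g
  have hu2 : u ∈ Rst x := by
    have hyc : u * y ∈ conjugatesOf y := (hu1 y mem_conjugatesOf_self).1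
    obtain ⟨k, hk⟩ := mem_conj_iff.mp hyc
    have h1 : y⁻¹ * (k * y * k⁻¹) ∈ Rst x := hd.symm.inv_mul_conj_mem_Rst hy hx hlt k
    have h2 := (Rst_normal x).conj_mem _ h1 y
    have e : y * (y⁻¹ * (k * y * k⁻¹)) * y⁻¹ = u := by
      rw [hk]; group
    rwa [e] at h2
  have h3 : orderOf u ∣ cs x :=
    ((orderOf_dvd_natCard (⟨u, hu2⟩ : Rst x)).trans (card_Rst_dvd x)) |> fun h => by
      rwa [Subgroup.orderOf_mk] at h
  have h4 : orderOf u ∣ cs y :=
    ((orderOf_dvd_natCard (⟨u, hu1⟩ : Rst y)).trans (card_Rst_dvd y)) |> fun h => by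
      rwa [Subgroup.orderOf_mk] at h
  have h5 : orderOf u = 1 := Nat.eq_one_of_dvd_coprimes (hd.coprime hx hy) h3 h4
  exact hg (orderOf_eq_one_iff.mp h5)

end Fin

/-- the standing hypotheses, two-set version -/
structure Setup2 (S T : Set ℕ) (G : Type*) [Group G] : Prop where
  dich : Dich2 S T G
  lt : ∀ x y : G, IsT S x → IsT T y → cs x < cs y
  exY : ∃ y : G, IsT T y

/-- the intersection of the translation stabilizers of the classes of kind `T` -/
def Mst2 (T : Set ℕ) (G : Type*) [Group G] : Subgroup G where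
  carrier := {u | ∀ y : G, IsT T y → u ∈ Rst y}
  one_mem' := fun y _ => (Rst y).one_mem
  mul_mem' := fun hu hv y hy => (Rst y).mul_mem (hu y hy) (hv y hy)
  inv_mem' := fun hu y hy => (Rst y).inv_mem (hu y hy)

instance Mst2_normal : (Mst2 T G).Normal := by
  constructor
  intro u hu g y hy
  exact (Rst_normal y).conj_mem u (hu y hy) g

theorem card_Mst2_dvd {y : G} (hy : IsT T y) : Nat.card (Mst2 T G) ∣ cs y := by
  have hle : Mst2 T G ≤ Rst y := fun u hu => hu y hy
  exact (Subgroup.card_dvd_of_le hle).trans (card_Rst_dvd y)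

theorem Setup2.prime_dvd_card_Mst2 (hs : Setup2 S T G) {p : ℕ} (hp : p.Prime)
    (h : p ∣ Nat.card (Mst2 T G)) : p ∈ T := by
  obtain ⟨y, hy⟩ := hs.exY
  exact hy.2 p hp (h.trans (card_Mst2_dvd hy))

theorem Setup2.card_Mst2_coprime (hs : Setup2 S T G) {x : G} (hx : IsT S x) :
    (Nat.card (Mst2 T G)).Coprime (cs x) := by
  obtain ⟨y, hy⟩ := hs.exY
  exact Nat.Coprime.coprime_dvd_left (card_Mst2_dvd hy) (hs.dich.coprime hx hy).symm

section Fin2

variable [Finite G]

theorem Setup2.inv_mul_conj_mem (hs : Setup2 S T G) {x : G} (hx : IsT S x) (g : G) :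
    x⁻¹ * (g * x * g⁻¹) ∈ Mst2 T G := fun y hy =>
  hs.dich.inv_mul_conj_mem_Rst hx hy (hs.lt x y hx hy) g

/-- elements of kind `S` centralize `Mst2` -/
theorem Setup2.commute_Mst2 (hs : Setup2 S T G) {x m : G} (hx : IsT S x) (hm : m ∈ Mst2 T G) :
    m * x = x * m := by
  have := le_centralizer_of_coprime (Mst2 T G) x (hs.card_Mst2_coprime hx) hm
  exact Subgroup.mem_centralizer_singleton_iff.mp this

/-- the `card Mst2`-th power of an element of kind `S` is central -/
theorem Setup2.pow_card_Mst2_mem_center (hs : Setup2 S T G) {x : G} (hx : IsT S x) :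
    x ^ Nat.card (Mst2 T G) ∈ Subgroup.center G := by
  rw [Subgroup.mem_center_iff]
  intro g
  set μ := Nat.card (Mst2 T G) with hμ
  set u := x⁻¹ * (g * x * g⁻¹) with hu
  have hu1 : u ∈ Mst2 T G := hs.inv_mul_conj_mem hx g
  have hux : Commute x u := (hs.commute_Mst2 hx hu1).symm
  have hupow : u ^ μ = 1 := by
    have h := orderOf_dvd_natCard (⟨u, hu1⟩ : Mst2 T G)
    rw [Subgroup.orderOf_mk] at h
    exact orderOf_dvd_iff_pow_eq_one.mp h
  have e1 : g * x * g⁻¹ = x * u := by rw [hu]; group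
  have e2 : g * x ^ μ * g⁻¹ = x ^ μ := by
    calc g * x ^ μ * g⁻¹ = (g * x * g⁻¹) ^ μ := by rw [conj_pow]
      _ = (x * u) ^ μ := by rw [e1]
      _ = x ^ μ * u ^ μ := hux.mul_pow μ
      _ = x ^ μ := by rw [hupow, mul_one]
  calc g * x ^ μ = g * x ^ μ * g⁻¹ * g := by group
    _ = x ^ μ * g := by rw [e2]

/-- an element of kind `S` killed by a number all of whose prime factors lie outside `T` is
impossible -/
theorem Setup2.not_isT_of_pow_eq_one (hs : Setup2 S T G) {u : G} {a : ℕ}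
    (ha : ∀ p : ℕ, p.Prime → p ∣ a → p ∉ T) (hu : u ^ a = 1) : ¬ IsT S u := by
  intro hT
  apply hT.not_mem_center
  apply mem_of_pow_mem_of_pow_eq_one (a := a) (m := Nat.card (Mst2 T G)) ?_ hu
    (hs.pow_card_Mst2_mem_center hT)
  apply Nat.coprime_of_dvd
  intro k hk hka hkm
  exact ha k hk hka (hs.prime_dvd_card_Mst2 hk hkm)

end Fin2

end Cfsg.Agent.Lib.Helper8.CGr
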