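import Mathlib
import Cfsg.Agent.Lib.Helper8.CGs1
import Cfsg.Agent.Lib.Helper8.CGr5

set_option autoImplicit false

/-!
# The class-size prime graph of a finite group, when connected, has diameter at most 3
-/

namespace Cfsg.Agent.Lib.Helper8.CGr

variable {G : Type*} [Group G] [Finite G] {S T : Set ℕ}

/-- if every class size divisible by `p ∈ S` involves only primes of `S`, then (in the situation
of `Setup2`) primes outside `S ∪ T` divide no class size -/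
theorem Setup2.no_other_prime (hs : Setup2 S T G) {p : ℕ} {x₀ : G}
    (hx₀ : IsT S x₀) (hpx : p ∣ cs x₀)
    (hnbr : ∀ g : G, p ∣ cs g → ∀ r : ℕ, r.Prime → r ∣ cs g → r ∈ S)
    {c : ℕ} (hc : c.Prime) (hcS : c ∉ S) (hcT : c ∉ T) (g₀ : G) : ¬ c ∣ cs g₀ := by
  intro hcg
  have : Fact c.Prime := ⟨hc⟩
  obtain R : Sylow c G := default
  have hnd : ¬ c ∣ (Subgroup.centralizer ({x₀} : Set G)).index := fun h => hcS (hx₀.2 c hc h)
  obtain ⟨t, ht⟩ := exists_conj_le_of_not_dvd_index c _ hnd (R : Subgroup G) R.isPGroup'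
  obtain ⟨a, b, x₁, x₂, ha, hb, hx₁, hx₂, hxx, hx₁a, hx₂b⟩ := exists_parts ({c} : Set ℕ) x₀
  -- `x₁` is central
  have hx₁c : x₁ ∈ Subgroup.center G := by
    apply mem_of_pow_mem_of_pow_eq_one (a := a) (m := Nat.card (Mst2 T G)) ?_ hx₁a
    · obtain ⟨k, rfl⟩ := Subgroup.mem_zpowers_iff.mp hx₁
      have : (x₀ ^ k) ^ Nat.card (Mst2 T G) = (x₀ ^ Nat.card (Mst2 T G)) ^ k := by
        rw [← zpow_natCast, ← zpow_mul, mul_comm, zpow_mul, zpow_natCast]
      rw [this]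
      exact Subgroup.zpow_mem _ (hs.pow_card_Mst2_mem_center hx₀) _
    · apply Nat.coprime_of_dvd
      intro k hk hka hkm
      have : k = c := ha k hk hka
      rw [this] at hkm
      exact hcT (hs.prime_dvd_card_Mst2 hc hkm)
  have hcsx₂ : cs x₂ = cs x₀ := by
    rw [hxx]
    exact (cs_central_mul x₁ x₂ hx₁c).symm
  -- every element of `R` is central
  have hRZ : ∀ z ∈ (R : Subgroup G), z ∈ Subgroup.center G := by
    intro z hz
    have hu := ht z hz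
    set u := t⁻¹ * z * t with hu'
    rw [Subgroup.mem_centralizer_singleton_iff] at hu
    obtain ⟨k, hk⟩ := R.isPGroup' ⟨z, hz⟩
    have hzk : z ^ c ^ k = 1 := by
      have := congrArg Subtype.val hk
      simpa using this
    have huk : u ^ c ^ k = 1 := by
      have : u ^ c ^ k = t⁻¹ * z ^ c ^ k * t := by
        rw [hu']
        have := conj_pow (a := t⁻¹) (b := z) (i := c ^ k)
        simpa using this
      rw [this, hzk]; group
    have hcomm : Commute x₂ u := by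
      obtain ⟨l, rfl⟩ := Subgroup.mem_zpowers_iff.mp hx₂
      have : Commute x₀ u := hu.symm
      exact this.zpow_left l
    have hcop : b.Coprime (c ^ k) := by
      apply Nat.Coprime.pow_right
      apply Nat.coprime_of_dvd
      intro r hr hrb hrc
      have : r = c := (Nat.prime_dvd_prime_iff_eq hr hc).mp hrc
      exact hb r hr hrb this
    obtain ⟨hm1, hm2⟩ := mem_zpowers_mul_of_coprime hcomm hcop hx₂b huk
    have hd1 : cs x₂ ∣ cs (x₂ * u) := cs_dvd_of_mem_zpowers hm1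
    have hd2 : cs u ∣ cs (x₂ * u) := cs_dvd_of_mem_zpowers hm2
    have hp' : p ∣ cs (x₂ * u) := (hcsx₂ ▸ hpx : p ∣ cs x₂).trans hd1
    have huZ : u ∈ Subgroup.center G := by
      rw [← cs_eq_one_iff]
      by_contra hne
      have hT : IsT S u := ⟨hne, fun r hr hrd => hnbr _ hp' r hr (hrd.trans hd2)⟩
      refine hs.not_isT_of_pow_eq_one (a := c ^ k) ?_ huk hT
      intro r hr hrd
      have : r = c := (Nat.prime_dvd_prime_iff_eq hr hc).mp (hr.dvd_of_dvd_pow hrd)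
      rw [this]
      exact hcT
    have := (inferInstance : (Subgroup.center G).Normal).conj_mem _ huZ t
    have e : t * u * t⁻¹ = z := by rw [hu']; group
    rwa [e] at this
  have hle : (R : Subgroup G) ≤ Subgroup.centralizer ({g₀} : Set G) := by
    intro z hz
    rw [Subgroup.mem_centralizer_singleton_iff]
    exact Subgroup.mem_center_iff.mp (hRZ z hz) g₀ |>.symm
  exact R.not_dvd_index (hcg.trans (Subgroup.index_dvd_of_le hle))

/-- the class-size prime graph of a finite group, when connected, has diameter at most 3 -/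
theorem diam_le_three
    (hconn : ∀ S : Set ℕ, (∃ p ∈ S, (p.Prime ∧ ∃ g : G, p ∣ cs g)) →
      (∃ q ∉ S, (q.Prime ∧ ∃ g : G, q ∣ cs g)) →
      ∃ p q : ℕ, (p.Prime ∧ ∃ g : G, p ∣ cs g) ∧ (q.Prime ∧ ∃ g : G, q ∣ cs g) ∧ p ∈ S ∧ q ∉ S ∧
        (∃ g : G, p * q ∣ cs g))
    (p q : ℕ) (hp : (p.Prime ∧ ∃ g : G, p ∣ cs g)) (hq : (q.Prime ∧ ∃ g : G, q ∣ cs g))
    (hpq : p ≠ q) :
    (∃ g : G, p * q ∣ cs g) ∨
      (∃ r : ℕ, (r.Prime ∧ ∃ g : G, r ∣ cs g) ∧ r ≠ p ∧ r ≠ q ∧ (∃ g : G, p * r ∣ cs g) ∧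
        (∃ g : G, r * q ∣ cs g)) ∨
      (∃ r s : ℕ, (r.Prime ∧ ∃ g : G, r ∣ cs g) ∧ (s.Prime ∧ ∃ g : G, s ∣ cs g) ∧ r ≠ p ∧ s ≠ q ∧
        r ≠ s ∧ r ≠ q ∧ s ≠ p ∧ (∃ g : G, p * r ∣ cs g) ∧ (∃ g : G, r * s ∣ cs g) ∧
        (∃ g : G, s * q ∣ cs g)) := by
  classical
  by_contra hcon
  rw [not_or, not_or] at hcon
  obtain ⟨n1, n2, n3⟩ := hcon
  set A : Set ℕ := {r | r.Prime ∧ (r = p ∨ ∃ g : G, p * r ∣ cs g)} with hA
  set B : Set ℕ := {r | r.Prime ∧ (r = q ∨ ∃ g : G, r * q ∣ cs g)} with hB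
  have pA : p ∈ A := ⟨hp.1, Or.inl rfl⟩
  have qB : q ∈ B := ⟨hq.1, Or.inl rfl⟩
  have vxl : ∀ r s : ℕ, (∃ g : G, r * s ∣ cs g) → ∃ g : G, r ∣ cs g := fun r s ⟨g, h⟩ =>
    ⟨g, (dvd_mul_right r s).trans h⟩
  have vxr : ∀ r s : ℕ, (∃ g : G, r * s ∣ cs g) → ∃ g : G, s ∣ cs g := fun r s ⟨g, h⟩ =>
    ⟨g, (dvd_mul_left s r).trans h⟩
  have hdisj : ∀ r : ℕ, r ∈ A → r ∉ B := by
    rintro r ⟨hr, h1⟩ ⟨_, h2⟩
    rcases h1 with rfl | h1
    · rcases h2 with h2 | h2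
      · exact hpq h2
      · exact n1 h2
    · rcases h2 with rfl | h2
      · exact n1 h1
      · by_cases hrp : r = p
        · exact n1 (hrp ▸ h2)
        · by_cases hrq : r = q
          · exact n1 (hrq ▸ h1)
          · exact n2 ⟨r, ⟨hr, vxr _ _ h1⟩, hrp, hrq, h1, h2⟩
  have hclique : ∀ (g : G) (a b : ℕ), a ∈ A → b ∈ B → a ∣ cs g → b ∣ cs g → False := by
    intro g a b haA hbB hag hbg
    have hab : a ≠ b := fun h => hdisj a haA (h ▸ hbB)
    have haq : a ≠ q := fun h => hdisj a haA (h ▸ qB)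
    have hbp : b ≠ p := fun h => hdisj p pA (h ▸ hbB)
    have hadj : ∃ g : G, a * b ∣ cs g :=
      ⟨g, ((Nat.coprime_primes haA.1 hbB.1).mpr hab).mul_dvd_of_dvd_of_dvd hag hbg⟩
    obtain ⟨ha, h1⟩ := haA
    obtain ⟨hb, h2⟩ := hbB
    by_cases hap : a = p
    · by_cases hbq : b = q
      · exact n1 (hap ▸ hbq ▸ hadj)
      · rcases h2 with h2 | h2
        · exact hbq h2
        · exact n2 ⟨b, ⟨hb, vxl _ _ h2⟩, hbp, hbq, hap ▸ hadj, h2⟩
    · rcases h1 with h1 | h1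
      · exact hap h1
      · by_cases hbq : b = q
        · exact n2 ⟨a, ⟨ha, vxr _ _ h1⟩, hap, haq, h1, hbq ▸ hadj⟩
        · rcases h2 with h2 | h2
          · exact hbq h2
          · exact n3 ⟨a, b, ⟨ha, vxr _ _ h1⟩, ⟨hb, vxl _ _ h2⟩, hap, hbq, hab, haq, hbp, h1, hadj,
              h2⟩
  have hPA : ∀ g : G, p ∣ cs g → IsT A g := by
    intro g hg
    refine ⟨fun h => ?_, fun r hr hrd => ⟨hr, ?_⟩⟩
    · rw [h] at hg
      exact hp.1.one_lt.ne' (Nat.dvd_one.mp hg)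
    · by_cases hrp : r = p
      · exact Or.inl hrp
      · exact Or.inr ⟨g, ((Nat.coprime_primes hp.1 hr).mpr (Ne.symm hrp)).mul_dvd_of_dvd_of_dvd
          hg hrd⟩
  have hPB : ∀ g : G, q ∣ cs g → IsT B g := by
    intro g hg
    refine ⟨fun h => ?_, fun r hr hrd => ⟨hr, ?_⟩⟩
    · rw [h] at hg
      exact hq.1.one_lt.ne' (Nat.dvd_one.mp hg)
    · by_cases hrq : r = q
      · exact Or.inl hrq
      · exact Or.inr ⟨g, ((Nat.coprime_primes hr hq.1).mpr hrq).mul_dvd_of_dvd_of_dvd hrd hg⟩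
  have hd : Dich2 A B G := by
    refine ⟨hdisj, ?_⟩
    intro x y hx hy
    have hcop : (cs x).Coprime (cs y) := by
      apply Nat.coprime_of_dvd
      intro k hk hkx hky
      exact hdisj k (hx.2 k hk hkx) (hy.2 k hk hky)
    have hne : cs (x * y) ≠ 1 := by
      have h1 := cs_le_mul_left x y hcop
      have h2 : 1 ≤ cs x := Nat.one_le_iff_ne_zero.mpr (cs_ne_zero x)
      have h3 := hx.1
      omega
    have hdvd := cs_mul_dvd x y hcop
    have hAB : ∀ r : ℕ, r.Prime → r ∣ cs (x * y) → r ∈ A ∨ r ∈ B := by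
      intro r hr hrd
      rcases (Nat.Prime.dvd_mul hr).mp (hrd.trans hdvd) with h | h
      · exact Or.inl (hx.2 r hr h)
      · exact Or.inr (hy.2 r hr h)
    by_cases hall : ∀ r : ℕ, r.Prime → r ∣ cs (x * y) → r ∈ A
    · exact Or.inl ⟨hne, hall⟩
    · push Not at hall
      obtain ⟨r, hr, hrd, hrA⟩ := hall
      have hrB : r ∈ B := (hAB r hr hrd).resolve_left hrA
      refine Or.inr ⟨hne, fun r' hr' hrd' => ?_⟩
      rcases hAB r' hr' hrd' with h | h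
      · exact absurd hrd (fun _ => hclique (x * y) r' r h hrB hrd' hrd)
      · exact h
  obtain ⟨xp, hxp⟩ := hp.2
  obtain ⟨yq, hyq⟩ := hq.2
  have hxpT := hPA xp hxp
  have hyqT := hPB yq hyq
  -- every vertex lies in `A ∪ B`
  have hV : ∀ c : ℕ, c.Prime → (∃ g : G, c ∣ cs g) → c ∈ A ∨ c ∈ B := by
    intro c hc hcg
    obtain ⟨g₀, hg₀⟩ := hcg
    by_contra hno
    rw [not_or] at hno
    have hex : ∃ n : ℕ, ∃ g : G, (IsT A g ∨ IsT B g) ∧ cs g = n := ⟨_, xp, Or.inl hxpT, rfl⟩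
    obtain ⟨b₀, hb₀1, hb₀n⟩ := Nat.find_spec hex
    have hmin : ∀ g : G, (IsT A g ∨ IsT B g) → cs b₀ ≤ cs g := by
      intro g hg
      rw [hb₀n]
      exact Nat.find_min' hex ⟨g, hg, rfl⟩
    rcases hb₀1 with hb₀ | hb₀
    · have hs : Setup2 A B G :=
        ⟨hd, fun x y hx hy => hd.lt_of_min hb₀ (fun g hg => hmin g (Or.inr hg)) hx hy,
          ⟨yq, hyqT⟩⟩
      exact hs.no_other_prime hxpT hxp (fun g hg => (hPA g hg).2) hc hno.1 hno.2 g₀ hg₀
    · have hs : Setup2 B A G :=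
        ⟨hd.symm, fun x y hx hy => hd.symm.lt_of_min hb₀ (fun g hg => hmin g (Or.inl hg)) hx hy,
          ⟨xp, hxpT⟩⟩
      exact hs.no_other_prime hyqT hyq (fun g hg => (hPB g hg).2) hc hno.2 hno.1 g₀ hg₀
  obtain ⟨p₁, q₁, hp₁, hq₁, hp₁A, hq₁A, g, hg⟩ :=
    hconn A ⟨p, pA, hp⟩ ⟨q, fun h => hdisj q h qB, hq⟩
  have hq₁B : q₁ ∈ B := (hV q₁ hq₁.1 hq₁.2).resolve_left hq₁A
  exact hclique g p₁ q₁ hp₁A hq₁B ((dvd_mul_right _ _).trans hg) ((dvd_mul_left _ _).trans hg)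

end Cfsg.Agent.Lib.Helper8.CGr
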