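import Mathlib
import Cfsg.Prelude.Def_Blocks

/-!
# Central products: the product map, class sizes
-/

set_option autoImplicit false
set_option linter.unusedSectionVars false

namespace Cfsg.Agent.Lib.Helper8

open Cfsg

universe u

section

variable {G : Type u} [Group G] (U₁ U₂ : Subgroup G)

/-- The product map of two elementwise commuting subgroups. -/
noncomputable def cpHom (hcomm : ∀ u ∈ U₁, ∀ v ∈ U₂, u * v = v * u) : U₁ × U₂ →* G :=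
  MonoidHom.noncommCoprod U₁.subtype U₂.subtype
    (fun m n => (show Commute (U₁.subtype m) (U₂.subtype n) from hcomm m m.2 n n.2))

theorem cpHom_apply (hcomm : ∀ u ∈ U₁, ∀ v ∈ U₂, u * v = v * u) (x : U₁ × U₂) :
    cpHom U₁ U₂ hcomm x = (x.1 : G) * (x.2 : G) := rfl

theorem cpHom_surjective (hcomm : ∀ u ∈ U₁, ∀ v ∈ U₂, u * v = v * u) (hgen : U₁ ⊔ U₂ = ⊤) :
    Function.Surjective (cpHom U₁ U₂ hcomm) := by
  rw [← MonoidHom.range_eq_top, cpHom, MonoidHom.noncommCoprod_range, Subgroup.range_subtype,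
    Subgroup.range_subtype, hgen]

theorem exists_mul_of_sup_eq_top (hcomm : ∀ u ∈ U₁, ∀ v ∈ U₂, u * v = v * u)
    (hgen : U₁ ⊔ U₂ = ⊤) (g : G) : ∃ u : U₁, ∃ v : U₂, g = (u : G) * (v : G) := by
  obtain ⟨x, hx⟩ := cpHom_surjective U₁ U₂ hcomm hgen g
  exact ⟨x.1, x.2, hx.symm⟩

/-- Conjugation by `u v` on `U₁` is conjugation by `u`. -/
theorem conj_mul_left (hcomm : ∀ u ∈ U₁, ∀ v ∈ U₂, u * v = v * u) (u a : U₁) (v : U₂) :
    ((u : G) * (v : G)) * (a : G) * ((u : G) * (v : G))⁻¹ = (u : G) * a * (u : G)⁻¹ := by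
  have h := hcomm a a.2 v v.2
  calc ((u : G) * (v : G)) * (a : G) * ((u : G) * (v : G))⁻¹
      = (u : G) * ((v : G) * (a : G)) * (v : G)⁻¹ * (u : G)⁻¹ := by group
    _ = (u : G) * ((a : G) * (v : G)) * (v : G)⁻¹ * (u : G)⁻¹ := by rw [h]
    _ = (u : G) * a * (u : G)⁻¹ := by group

/-- Conjugation by `u v` on `U₂` is conjugation by `v`. -/
theorem conj_mul_right (hcomm : ∀ u ∈ U₁, ∀ v ∈ U₂, u * v = v * u) (u : U₁) (v a : U₂) :
    ((u : G) * (v : G)) * (a : G) * ((u : G) * (v : G))⁻¹ = (v : G) * a * (v : G)⁻¹ := by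
  have h := hcomm u u.2 (v * a * v⁻¹) (v * a * v⁻¹).2
  have h' : (u : G) * ((v : G) * a * (v : G)⁻¹) = ((v : G) * a * (v : G)⁻¹) * u := h
  calc ((u : G) * (v : G)) * (a : G) * ((u : G) * (v : G))⁻¹
      = ((u : G) * ((v : G) * a * (v : G)⁻¹)) * (u : G)⁻¹ := by group
    _ = (((v : G) * a * (v : G)⁻¹) * u) * (u : G)⁻¹ := by rw [h']
    _ = (v : G) * a * (v : G)⁻¹ := by group

/-- The class size of a product `u₁ u₂` of a good pair. -/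
theorem index_centralizer_mul (hcomm : ∀ u ∈ U₁, ∀ v ∈ U₂, u * v = v * u) (hgen : U₁ ⊔ U₂ = ⊤)
    (u₁ : U₁) (u₂ : U₂)
    (hgood : ∀ (x₁ : U₁) (x₂ : U₂),
      ((x₁ * u₁ * x₁⁻¹ : U₁) : G) * ((x₂ * u₂ * x₂⁻¹ : U₂) : G) = (u₁ : G) * (u₂ : G) →
        x₁ * u₁ * x₁⁻¹ = u₁) :
    (Subgroup.centralizer ({(u₁ : G) * (u₂ : G)} : Set G)).index =
      (Subgroup.centralizer ({u₁} : Set U₁)).index *
        (Subgroup.centralizer ({u₂} : Set U₂)).index := by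
  rw [← Subgroup.index_comap_of_surjective _ (cpHom_surjective U₁ U₂ hcomm hgen),
    ← Subgroup.index_prod]
  congr 1
  ext ⟨x₁, x₂⟩
  rw [Subgroup.mem_comap, Subgroup.mem_prod, Subgroup.mem_centralizer_singleton_iff,
    Subgroup.mem_centralizer_singleton_iff, Subgroup.mem_centralizer_singleton_iff, cpHom_apply]
  have key : ((x₁ : G) * (x₂ : G)) * ((u₁ : G) * (u₂ : G)) * ((x₁ : G) * (x₂ : G))⁻¹ =
      ((x₁ * u₁ * x₁⁻¹ : U₁) : G) * ((x₂ * u₂ * x₂⁻¹ : U₂) : G) := by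
    have e1 := conj_mul_left U₁ U₂ hcomm x₁ u₁ x₂
    have e2 := conj_mul_right U₁ U₂ hcomm x₁ x₂ u₂
    have : ((x₁ : G) * (x₂ : G)) * ((u₁ : G) * (u₂ : G)) * ((x₁ : G) * (x₂ : G))⁻¹ =
        (((x₁ : G) * (x₂ : G)) * (u₁ : G) * ((x₁ : G) * (x₂ : G))⁻¹) *
          (((x₁ : G) * (x₂ : G)) * (u₂ : G) * ((x₁ : G) * (x₂ : G))⁻¹) := by group
    rw [this, e1, e2]
    simp
  constructor
  · intro h
    have h1 : ((x₁ * u₁ * x₁⁻¹ : U₁) : G) * ((x₂ * u₂ * x₂⁻¹ : U₂) : G) = (u₁ : G) * (u₂ : G) := by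
      rw [← key]
      show (x₁ : G) * (x₂ : G) * ((u₁ : G) * (u₂ : G)) * ((x₁ : G) * (x₂ : G))⁻¹ = _
      rw [h]
      group
    have h2 := hgood x₁ x₂ h1
    have h3 : x₂ * u₂ * x₂⁻¹ = u₂ := by
      rw [h2] at h1
      exact Subtype.ext (mul_left_cancel h1)
    constructor
    · show x₁ * u₁ = u₁ * x₁
      calc x₁ * u₁ = (x₁ * u₁ * x₁⁻¹) * x₁ := by group
        _ = u₁ * x₁ := by rw [h2]
    · show x₂ * u₂ = u₂ * x₂
      calc x₂ * u₂ = (x₂ * u₂ * x₂⁻¹) * x₂ := by group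
        _ = u₂ * x₂ := by rw [h3]
  · rintro ⟨h1, h2⟩
    have h1' : x₁ * u₁ * x₁⁻¹ = u₁ := by rw [h1]; group
    have h2' : x₂ * u₂ * x₂⁻¹ = u₂ := by rw [h2]; group
    have := key
    rw [h1', h2'] at this
    calc (x₁ : G) * (x₂ : G) * ((u₁ : G) * (u₂ : G))
        = ((x₁ : G) * (x₂ : G) * ((u₁ : G) * (u₂ : G)) * ((x₁ : G) * (x₂ : G))⁻¹) *
            ((x₁ : G) * (x₂ : G)) := by group
      _ = (u₁ : G) * (u₂ : G) * ((x₁ : G) * (x₂ : G)) := by rw [this]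

/-- Pairs `(u₁, 1)` are good. -/
theorem good_of_right_one (u₁ : U₁) (x₁ : U₁) (x₂ : U₂)
    (h : ((x₁ * u₁ * x₁⁻¹ : U₁) : G) * ((x₂ * (1 : U₂) * x₂⁻¹ : U₂) : G) = (u₁ : G) * ((1 : U₂) : G)) :
    x₁ * u₁ * x₁⁻¹ = u₁ := by
  apply Subtype.ext
  simpa using h

/-- Pairs `(1, u₂)` are good. -/
theorem good_of_left_one (u₂ : U₂) (x₁ : U₁) (x₂ : U₂)
    (_h : ((x₁ * (1 : U₁) * x₁⁻¹ : U₁) : G) * ((x₂ * u₂ * x₂⁻¹ : U₂) : G) = ((1 : U₁) : G) * (u₂ : G)) :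
    x₁ * (1 : U₁) * x₁⁻¹ = 1 := by
  simp

/-- Pairs with `p`-regular first component are good when `U₁ ⊓ U₂` is a `p`-group. -/
theorem good_of_regular (hcomm : ∀ u ∈ U₁, ∀ v ∈ U₂, u * v = v * u) {p : ℕ} [Fact p.Prime]
    (hZ : IsPGroup p ↥(U₁ ⊓ U₂)) (u₁ : U₁) (u₂ : U₂) (hu₁ : ¬ p ∣ orderOf u₁) (x₁ : U₁) (x₂ : U₂)
    (h : ((x₁ * u₁ * x₁⁻¹ : U₁) : G) * ((x₂ * u₂ * x₂⁻¹ : U₂) : G) = (u₁ : G) * (u₂ : G)) :
    x₁ * u₁ * x₁⁻¹ = u₁ := by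
  set a : U₁ := x₁ * u₁ * x₁⁻¹ with ha
  set b : U₂ := x₂ * u₂ * x₂⁻¹ with hb
  set w : G := (u₁ : G)⁻¹ * a with hw
  have hw1 : w ∈ U₁ := U₁.mul_mem (U₁.inv_mem u₁.2) a.2
  have hw2' : w = (u₂ : G) * (b : G)⁻¹ := by
    rw [hw]
    have : (a : G) = (u₁ : G) * (u₂ : G) * (b : G)⁻¹ := by rw [← h]; group
    rw [this]; group
  have hw2 : w ∈ U₂ := by rw [hw2']; exact U₂.mul_mem u₂.2 (U₂.inv_mem b.2)
  have hcw : Commute (u₁ : G) w := hcomm u₁ u₁.2 w hw2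
  have haw : (a : G) = (u₁ : G) * w := by rw [hw]; group
  set n := orderOf u₁ with hn
  have han : (a : G) ^ n = 1 := by
    have : a ^ n = 1 := by
      rw [ha, conj_pow, hn, pow_orderOf_eq_one]
      group
    rw [← Subgroup.coe_pow, this, Subgroup.coe_one]
  have hwn : w ^ n = 1 := by
    rw [haw, hcw.mul_pow] at han
    have : (u₁ : G) ^ n = 1 := by rw [← Subgroup.coe_pow, hn, pow_orderOf_eq_one, Subgroup.coe_one]
    rwa [this, one_mul] at han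
  obtain ⟨k, hk⟩ := hZ ⟨w, hw1, hw2⟩
  have hk' : w ^ p ^ k = 1 := by
    have := congrArg Subtype.val hk
    simpa using this
  have hord : orderOf w ∣ Nat.gcd n (p ^ k) :=
    Nat.dvd_gcd (orderOf_dvd_of_pow_eq_one hwn) (orderOf_dvd_of_pow_eq_one hk')
  have hp : p.Prime := Fact.out
  have hcop : Nat.Coprime n (p ^ k) :=
    Nat.Coprime.pow_right k ((Nat.Prime.coprime_iff_not_dvd hp).2 hu₁).symm
  rw [hcop, Nat.dvd_one, orderOf_eq_one_iff] at hord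
  apply Subtype.ext
  rw [haw, hord, mul_one]

/-- Killing the `p`-part by a power. -/
theorem not_dvd_orderOf_pow_of_dvd {H : Type*} [Group H] {p : ℕ} [Fact p.Prime] (x : H) {N : ℕ}
    (hN : N ≠ 0) (hx : orderOf x ∣ N) : ¬ p ∣ orderOf (x ^ (p ^ N.factorization p)) := by
  have hp : p.Prime := Fact.out
  have h1 : (x ^ (p ^ N.factorization p)) ^ (N / p ^ N.factorization p) = 1 := by
    rw [← pow_mul, Nat.ordProj_mul_ordCompl_eq_self]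
    exact orderOf_dvd_iff_pow_eq_one.1 hx
  intro h
  exact Nat.not_dvd_ordCompl hp hN (h.trans (orderOf_dvd_of_pow_eq_one h1))

/-- A `p`-regular element of a central product is a product of `p`-regular elements. -/
theorem exists_regular_mul [Finite G] (hcomm : ∀ u ∈ U₁, ∀ v ∈ U₂, u * v = v * u)
    (hgen : U₁ ⊔ U₂ = ⊤) {p : ℕ} [Fact p.Prime] (g : G) (hg : ¬ p ∣ orderOf g) :
    ∃ u₁ : U₁, ∃ u₂ : U₂, g = (u₁ : G) * (u₂ : G) ∧ ¬ p ∣ orderOf u₁ ∧ ¬ p ∣ orderOf u₂ := by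
  have hp : p.Prime := Fact.out
  obtain ⟨v₁, v₂, hv⟩ := exists_mul_of_sup_eq_top U₁ U₂ hcomm hgen g
  set q := p ^ (Nat.card G).factorization p with hq
  have hcop : Nat.Coprime q (orderOf g) :=
    Nat.Coprime.pow_left _ ((Nat.Prime.coprime_iff_not_dvd hp).2 hg)
  obtain ⟨j, hj⟩ := exists_pow_eq_self_of_coprime hcop
  have hN : Nat.card G ≠ 0 := Nat.card_pos.ne'
  refine ⟨(v₁ ^ q) ^ j, (v₂ ^ q) ^ j, ?_, ?_, ?_⟩
  · have hc : Commute (v₁ : G) (v₂ : G) := hcomm v₁ v₁.2 v₂ v₂.2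
    rw [Subgroup.coe_pow, Subgroup.coe_pow, Subgroup.coe_pow, Subgroup.coe_pow,
      ← ((hc.pow_pow q q)).mul_pow, ← hc.mul_pow, ← hv, hj]
  · intro h
    have h1 : orderOf v₁ ∣ Nat.card G := by
      rw [← Subgroup.orderOf_coe]
      exact orderOf_dvd_natCard _
    exact not_dvd_orderOf_pow_of_dvd v₁ hN h1 (h.trans (orderOf_pow_dvd j))
  · intro h
    have h1 : orderOf v₂ ∣ Nat.card G := by
      rw [← Subgroup.orderOf_coe]
      exact orderOf_dvd_natCard _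
    exact not_dvd_orderOf_pow_of_dvd v₂ hN h1 (h.trans (orderOf_pow_dvd j))

end

end Cfsg.Agent.Lib.Helper8
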