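import Mathlib
import Cfsg.Prelude.Def_Blocks
import Cfsg.Agent.Lib.Helper8.CP1
import Cfsg.Agent.Lib.Helper8.ClassAlgebra
import Cfsg.Agent.Lib.Helper8.ExtZero
import Cfsg.Agent.Lib.Helper8.FR2

/-!
# Central products: characters
-/

set_option autoImplicit false
set_option linter.unusedSectionVars false

namespace Cfsg.Agent.Lib.Helper8

open Cfsg
open scoped ComplexConjugate
open Cfsg.Agent.Lib.Helper1 Cfsg.Agent.Lib.Helper4

universe u

section

variable {G : Type u} [Group G]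

/-- If `G` acts on the subgroup `U` by `U`-inner automorphisms, the extension by zero of a class
function of `U` is a class function of `G`. -/
theorem isClassFunction_extZ_of_conj (U : Subgroup G)
    (hH : ∀ g : G, ∃ u : U, ∀ a : U, g * (a : G) * g⁻¹ = ((u * a * u⁻¹ : U) : G))
    (f : U → ℂ) (hf : IsClassFunction U f) : IsClassFunction G (extZ U f) := by
  intro g h
  obtain ⟨u, hu⟩ := hH h
  by_cases hg : g ∈ U
  · have h1 := hu ⟨g, hg⟩
    have h2 : h * g * h⁻¹ ∈ U := by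
      have : h * g * h⁻¹ = ((u * ⟨g, hg⟩ * u⁻¹ : U) : G) := h1
      rw [this]
      exact (u * ⟨g, hg⟩ * u⁻¹ : U).2
    rw [extZ_of_mem U f h2, extZ_of_mem U f hg]
    have : (⟨h * g * h⁻¹, h2⟩ : U) = u * ⟨g, hg⟩ * u⁻¹ := Subtype.ext h1
    rw [this]
    exact hf _ _
  · have h2 : h * g * h⁻¹ ∉ U := by
      intro h2
      apply hg
      obtain ⟨u', hu'⟩ := hH h⁻¹
      have := hu' ⟨h * g * h⁻¹, h2⟩
      have e : h⁻¹ * (h * g * h⁻¹) * h⁻¹⁻¹ = g := by group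
      rw [show ((⟨h * g * h⁻¹, h2⟩ : U) : G) = h * g * h⁻¹ from rfl, e] at this
      rw [this]
      exact (u' * ⟨h * g * h⁻¹, h2⟩ * u'⁻¹ : U).2
    rw [extZ_of_not_mem U f h2, extZ_of_not_mem U f hg]

variable [Fintype G]

/-- **Homogeneity**: if `G` acts on `U` by `U`-inner automorphisms, an irreducible character of
`G` is proportional on `U` to each of its irreducible constituents. -/
theorem irr_restrict_proportional (U : Subgroup G) [Fintype U]
    (hH : ∀ g : G, ∃ u : U, ∀ a : U, g * (a : G) * g⁻¹ = ((u * a * u⁻¹ : U) : G))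
    (χ : IrrCharacter G) (ψ : IrrCharacter U)
    (h : classInner (fun u : U => (χ : G → ℂ) u) (ψ : U → ℂ) ≠ 0) (a : U) :
    (χ : G → ℂ) a * (ψ : U → ℂ) 1 = (ψ : U → ℂ) a * (χ : G → ℂ) 1 := by
  classical
  have hψc : IsClassFunction U (ψ : U → ℂ) := isClassFunction_irr ψ.2
  have hχc : IsClassFunction G (χ : G → ℂ) := isClassFunction_irr χ.2
  set f : U → ℂ := fun u => (ψ : U → ℂ) u⁻¹ with hf
  have hfc : IsClassFunction U f := by
    intro g k
    show (ψ : U → ℂ) (k * g * k⁻¹)⁻¹ = (ψ : U → ℂ) g⁻¹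
    have : (k * g * k⁻¹)⁻¹ = k * g⁻¹ * k⁻¹ := by group
    rw [this, hψc]
  have hF := isClassFunction_extZ_of_conj U hH f hfc
  have h1 := sum_classFunction_mul_irr χ.2 (extZ U f) hF (a : G)
  rw [sum_extZ_mul U f (fun g => (χ : G → ℂ) ((a : G) * g)),
    sum_extZ_mul U f (χ : G → ℂ)] at h1
  -- the scalar `S`
  set S : ℂ := ∑ u : U, f u * (χ : G → ℂ) u with hS
  have hS0 : S ≠ 0 := by
    have hU : (Nat.card U : ℂ) ≠ 0 := Nat.cast_ne_zero.2 Nat.card_pos.ne'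
    have : S = (Nat.card U : ℂ) * classInner (fun u : U => (χ : G → ℂ) u) (ψ : U → ℂ) := by
      rw [classInner_def, ← mul_assoc, mul_inv_cancel₀ hU, one_mul, hS]
      refine Finset.sum_congr rfl fun u _ => ?_
      rw [hf]
      show (ψ : U → ℂ) u⁻¹ * _ = _
      rw [isCharacter_inv (isCharacter_of_irr ψ.2) u, mul_comm]
    rw [this]
    exact mul_ne_zero hU h
  -- the left side through `ψ`
  set f' : U → ℂ := fun u => (χ : G → ℂ) ((u⁻¹ : U) : G) with hf'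
  have hf'c : IsClassFunction U f' := by
    intro g k
    show (χ : G → ℂ) (((k * g * k⁻¹)⁻¹ : U) : G) = (χ : G → ℂ) ((g⁻¹ : U) : G)
    have : (((k * g * k⁻¹)⁻¹ : U) : G) = (k : G) * ((g⁻¹ : U) : G) * (k : G)⁻¹ := by
      push_cast
      group
    rw [this, hχc]
  have h2 := sum_classFunction_mul_irr ψ.2 f' hf'c a
  have h3 : ∑ u : U, f u * (χ : G → ℂ) ((a : G) * u) = ∑ v : U, f' v * (ψ : U → ℂ) (a * v) := by
    refine Fintype.sum_equiv ((Equiv.mulLeft a).trans (Equiv.inv U)) _ _ ?_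
    intro u
    show (ψ : U → ℂ) u⁻¹ * (χ : G → ℂ) ((a : G) * u) =
      (χ : G → ℂ) ((((a * u)⁻¹)⁻¹ : U) : G) * (ψ : U → ℂ) (a * (a * u)⁻¹)
    have e1 : a * (a * u)⁻¹ = a * u⁻¹ * a⁻¹ := by group
    rw [e1, hψc, inv_inv, mul_comm]
    rfl
  have h4 : ∑ v : U, f' v * (ψ : U → ℂ) v = S := by
    rw [hS]
    refine Fintype.sum_equiv (Equiv.inv U) _ _ ?_
    intro u
    show (χ : G → ℂ) ((u⁻¹ : U) : G) * (ψ : U → ℂ) u = (ψ : U → ℂ) (u⁻¹)⁻¹ * (χ : G → ℂ) ((u⁻¹ : U) : G)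
    rw [inv_inv, mul_comm]
  rw [h3, h2, h4] at h1
  have hχ1 := irr_apply_one_ne_zero χ.2
  have hψ1 := irr_apply_one_ne_zero ψ.2
  have h5 : (ψ : U → ℂ) a / (ψ : U → ℂ) 1 = (χ : G → ℂ) a / (χ : G → ℂ) 1 := by
    have : S * ((ψ : U → ℂ) a / (ψ : U → ℂ) 1) = S * ((χ : G → ℂ) a / (χ : G → ℂ) 1) := by
      rw [mul_div_assoc', mul_div_assoc', mul_div_right_comm, mul_div_right_comm S]
      exact h1
    exact mul_left_cancel₀ hS0 this
  field_simp at h5
  rw [mul_comm, h5, mul_comm]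

end

end Cfsg.Agent.Lib.Helper8
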