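import Mathlib
import Cfsg.Prelude.Def_Blocks
import Cfsg.Agent.Lib.Helper8.CP2
import Cfsg.Agent.Lib.Helper8.Inf1
import Cfsg.Agent.Lib.Helper8.TwoClass

/-!
# Central products: the principal block
-/

set_option autoImplicit false
set_option linter.unusedSectionVars false

namespace Cfsg.Agent.Lib.Helper8

open Cfsg
open scoped ComplexConjugate
open Cfsg.Agent.Lib.Helper1 Cfsg.Agent.Lib.Helper4

universe u

section

variable {G : Type u} [Group G] (U₁ U₂ : Subgroup G)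

theorem conj_hyp_left (hcomm : ∀ u ∈ U₁, ∀ v ∈ U₂, u * v = v * u) (hgen : U₁ ⊔ U₂ = ⊤) (g : G) :
    ∃ u : U₁, ∀ a : U₁, g * (a : G) * g⁻¹ = ((u * a * u⁻¹ : U₁) : G) := by
  obtain ⟨u, v, rfl⟩ := exists_mul_of_sup_eq_top U₁ U₂ hcomm hgen g
  refine ⟨u, fun a => ?_⟩
  rw [conj_mul_left U₁ U₂ hcomm u a v]
  simp

theorem conj_hyp_right (hcomm : ∀ u ∈ U₁, ∀ v ∈ U₂, u * v = v * u) (hgen : U₁ ⊔ U₂ = ⊤) (g : G) :
    ∃ v : U₂, ∀ a : U₂, g * (a : G) * g⁻¹ = ((v * a * v⁻¹ : U₂) : G) := by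
  obtain ⟨u, v, rfl⟩ := exists_mul_of_sup_eq_top U₁ U₂ hcomm hgen g
  refine ⟨v, fun a => ?_⟩
  rw [conj_mul_right U₁ U₂ hcomm u v a]
  simp

variable [Fintype G] [Fintype U₁] [Fintype U₂]

/-- Irreducible characters of a central product are multiplicative. -/
theorem irr_mul_central_product (hcomm : ∀ u ∈ U₁, ∀ v ∈ U₂, u * v = v * u)
    (hgen : U₁ ⊔ U₂ = ⊤) (χ : IrrCharacter G) (u₁ : U₁) (u₂ : U₂) :
    (χ : G → ℂ) ((u₁ : G) * (u₂ : G)) * (χ : G → ℂ) 1 =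
      (χ : G → ℂ) u₁ * (χ : G → ℂ) u₂ := by
  classical
  have hχc : IsClassFunction G (χ : G → ℂ) := isClassFunction_irr χ.2
  have h := sum_irr_mul_conj χ.2 (u₂ : G) (u₁ : G)
  have key : ∀ y : G, (χ : G → ℂ) ((u₂ : G) * (y * (u₁ : G) * y⁻¹)) =
      (χ : G → ℂ) ((u₁ : G) * (u₂ : G)) := by
    intro y
    obtain ⟨x, hx⟩ := conj_hyp_left U₁ U₂ hcomm hgen y
    rw [hx u₁]
    have e1 : (u₂ : G) * ((x * u₁ * x⁻¹ : U₁) : G) = (x : G) * ((u₁ : G) * (u₂ : G)) * (x : G)⁻¹ := by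
      have c1 := hcomm (x * u₁ * x⁻¹ : U₁) (x * u₁ * x⁻¹ : U₁).2 u₂ u₂.2
      have c2 := hcomm (x⁻¹ : U₁) (x⁻¹ : U₁).2 u₂ u₂.2
      rw [← c1]
      push_cast
      push_cast at c2
      calc (x : G) * (u₁ : G) * (x : G)⁻¹ * (u₂ : G)
          = (x : G) * (u₁ : G) * ((x : G)⁻¹ * (u₂ : G)) := by group
        _ = (x : G) * (u₁ : G) * ((u₂ : G) * (x : G)⁻¹) := by rw [c2]
        _ = (x : G) * ((u₁ : G) * (u₂ : G)) * (x : G)⁻¹ := by group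
    rw [e1, hχc]
  simp only [key] at h
  rw [Finset.sum_const, Finset.card_univ, nsmul_eq_mul] at h
  have hG : (Fintype.card G : ℂ) ≠ 0 := Nat.cast_ne_zero.2 Fintype.card_pos.ne'
  have hχ1 := irr_apply_one_ne_zero χ.2
  have h' : (Fintype.card G : ℂ) * ((χ : G → ℂ) ((u₁ : G) * (u₂ : G)) * (χ : G → ℂ) 1) =
      (Fintype.card G : ℂ) * ((χ : G → ℂ) u₁ * (χ : G → ℂ) u₂) := by
    rw [← mul_assoc, h]
    field_simp
  exact mul_left_cancel₀ hG h'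

/-- Central characters of a central product at a good pair. -/
theorem centralChar_mul_of_good (hcomm : ∀ u ∈ U₁, ∀ v ∈ U₂, u * v = v * u)
    (hgen : U₁ ⊔ U₂ = ⊤) (χ : IrrCharacter G) (ψ₁ : IrrCharacter U₁) (ψ₂ : IrrCharacter U₂)
    (h₁ : classInner (fun u : U₁ => (χ : G → ℂ) u) (ψ₁ : U₁ → ℂ) ≠ 0)
    (h₂ : classInner (fun u : U₂ => (χ : G → ℂ) u) (ψ₂ : U₂ → ℂ) ≠ 0)
    (u₁ : U₁) (u₂ : U₂)
    (hgood : ∀ (x₁ : U₁) (x₂ : U₂),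
      ((x₁ * u₁ * x₁⁻¹ : U₁) : G) * ((x₂ * u₂ * x₂⁻¹ : U₂) : G) = (u₁ : G) * (u₂ : G) →
        x₁ * u₁ * x₁⁻¹ = u₁) :
    centralChar (χ : G → ℂ) ((u₁ : G) * (u₂ : G)) =
      centralChar (ψ₁ : U₁ → ℂ) u₁ * centralChar (ψ₂ : U₂ → ℂ) u₂ := by
  unfold centralChar
  rw [index_centralizer_mul U₁ U₂ hcomm hgen u₁ u₂ hgood]
  have e1 := irr_restrict_proportional U₁ (conj_hyp_left U₁ U₂ hcomm hgen) χ ψ₁ h₁ u₁
  have e2 := irr_restrict_proportional U₂ (conj_hyp_right U₁ U₂ hcomm hgen) χ ψ₂ h₂ u₂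
  have e3 := irr_mul_central_product U₁ U₂ hcomm hgen χ u₁ u₂
  have hχ1 := irr_apply_one_ne_zero χ.2
  have hψ1 := irr_apply_one_ne_zero ψ₁.2
  have hψ2 := irr_apply_one_ne_zero ψ₂.2
  have e1' : (ψ₁ : U₁ → ℂ) u₁ / (ψ₁ : U₁ → ℂ) 1 = (χ : G → ℂ) u₁ / (χ : G → ℂ) 1 := by
    field_simp
    rw [← e1, mul_comm]
  have e2' : (ψ₂ : U₂ → ℂ) u₂ / (ψ₂ : U₂ → ℂ) 1 = (χ : G → ℂ) u₂ / (χ : G → ℂ) 1 := by
    field_simp
    rw [← e2, mul_comm]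
  have e3' : (χ : G → ℂ) ((u₁ : G) * (u₂ : G)) / (χ : G → ℂ) 1 =
      ((χ : G → ℂ) u₁ / (χ : G → ℂ) 1) * ((χ : G → ℂ) u₂ / (χ : G → ℂ) 1) := by
    field_simp
    exact e3
  push_cast
  rw [mul_div_assoc, e3', mul_div_assoc, e1', mul_div_assoc, e2']
  ring

omit [Fintype U₂] in
theorem centralChar_one (ψ : U₂ → ℂ) (h : ψ 1 ≠ 0) : centralChar ψ 1 = 1 := by
  unfold centralChar
  have : Subgroup.centralizer ({(1 : U₂)} : Set U₂) = ⊤ := by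
    rw [eq_top_iff]
    intro x _
    rw [Subgroup.mem_centralizer_singleton_iff]
    simp
  rw [this, Subgroup.index_top, Nat.cast_one, one_mul, div_self h]

end

end Cfsg.Agent.Lib.Helper8
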