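import Mathlib
import Cfsg.Prelude.Def_Blocks
import Cfsg.Agent.Lib.Helper8.CP3

/-!
# Central products: the principal block (assembly)
-/

set_option autoImplicit false
set_option linter.unusedSectionVars false

namespace Cfsg.Agent.Lib.Helper8

open Cfsg
open scoped ComplexConjugate
open Cfsg.Agent.Lib.Helper1 Cfsg.Agent.Lib.Helper4

universe u

section

variable {G : Type u} [Group G] [Fintype G]

theorem classInner_trivIrr_restrict (U : Subgroup G) [Fintype U] :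
    classInner (fun u : U => (trivIrr G : G → ℂ) u) (trivIrr U : U → ℂ) ≠ 0 := by
  have hU : (Nat.card U : ℂ) ≠ 0 := Nat.cast_ne_zero.2 Nat.card_pos.ne'
  rw [classInner_def]
  simp only [trivIrr_apply, map_one, mul_one]
  rw [Finset.sum_const, Finset.card_univ, nsmul_eq_mul, mul_one, ← Nat.card_eq_fintype_card,
    inv_mul_cancel₀ hU]
  exact one_ne_zero

theorem trivIrr_coe : (trivIrr G : G → ℂ) = fun _ => 1 := by
  funext g
  exact trivIrr_apply g

variable (U₁ U₂ : Subgroup G) [Fintype U₁] [Fintype U₂] {p : ℕ} [Fact p.Prime] {M : Ideal AlgInt}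

/-- **Principal blocks of central products.** -/
theorem principalBlock_central_product (hM : IsPModular p M)
    (hcomm : ∀ u ∈ U₁, ∀ v ∈ U₂, u * v = v * u) (hgen : U₁ ⊔ U₂ = ⊤)
    (hZ : IsPGroup p ↥(U₁ ⊓ U₂)) (χ : IrrCharacter G) (ψ₁ : IrrCharacter U₁)
    (ψ₂ : IrrCharacter U₂)
    (h₁ : classInner (fun u : U₁ => (χ : G → ℂ) u) (ψ₁ : U₁ → ℂ) ≠ 0)
    (h₂ : classInner (fun u : U₂ => (χ : G → ℂ) u) (ψ₂ : U₂ → ℂ) ≠ 0) :
    χ ∈ principalBlock M G ↔ (ψ₁ ∈ principalBlock M U₁ ∧ ψ₂ ∈ principalBlock M U₂) := by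
  classical
  have hMp := isPModular_isPrime hM
  have ht₁ := classInner_trivIrr_restrict (G := G) U₁
  have ht₂ := classInner_trivIrr_restrict (G := G) U₂
  have hmem : ∀ {H : Type u} [Group H] [Fintype H] (φ : IrrCharacter H),
      φ ∈ principalBlock M H ↔ SameBlock M (trivIrr H : H → ℂ) (φ : H → ℂ) := by
    intro H _ _ φ
    rw [trivIrr_coe]
    rfl
  rw [hmem, hmem, hmem]
  constructor
  · intro h
    constructor
    · intro u₁
      have h1 := h ((u₁ : G) * ((1 : U₂) : G))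
      rw [centralChar_mul_of_good U₁ U₂ hcomm hgen (trivIrr G) (trivIrr U₁) (trivIrr U₂) ht₁ ht₂
          u₁ 1 (good_of_right_one U₁ U₂ u₁),
        centralChar_mul_of_good U₁ U₂ hcomm hgen χ ψ₁ ψ₂ h₁ h₂
          u₁ 1 (good_of_right_one U₁ U₂ u₁),
        centralChar_one U₂ _ (irr_apply_one_ne_zero (trivIrr U₂).2),
        centralChar_one U₂ _ (irr_apply_one_ne_zero ψ₂.2), mul_one, mul_one] at h1
      exact h1
    · intro u₂
      have h1 := h (((1 : U₁) : G) * (u₂ : G))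
      rw [centralChar_mul_of_good U₁ U₂ hcomm hgen (trivIrr G) (trivIrr U₁) (trivIrr U₂) ht₁ ht₂
          1 u₂ (good_of_left_one U₁ U₂ u₂),
        centralChar_mul_of_good U₁ U₂ hcomm hgen χ ψ₁ ψ₂ h₁ h₂
          1 u₂ (good_of_left_one U₁ U₂ u₂),
        centralChar_one U₁ _ (irr_apply_one_ne_zero (trivIrr U₁).2),
        centralChar_one U₁ _ (irr_apply_one_ne_zero ψ₁.2), one_mul, one_mul] at h1
      exact h1
  · rintro ⟨hb₁, hb₂⟩
    apply sameBlock_of_regular hM (trivIrr G) χ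
    intro g hg
    obtain ⟨u₁, u₂, rfl, hu₁, hu₂⟩ := exists_regular_mul U₁ U₂ hcomm hgen g hg
    rw [centralChar_mul_of_good U₁ U₂ hcomm hgen (trivIrr G) (trivIrr U₁) (trivIrr U₂) ht₁ ht₂
        u₁ u₂ (good_of_regular U₁ U₂ hcomm hZ u₁ u₂ hu₁),
      centralChar_mul_of_good U₁ U₂ hcomm hgen χ ψ₁ ψ₂ h₁ h₂
        u₁ u₂ (good_of_regular U₁ U₂ hcomm hZ u₁ u₂ hu₁)]
    have e : centralChar (trivIrr U₁ : U₁ → ℂ) u₁ * centralChar (trivIrr U₂ : U₂ → ℂ) u₂ -
        centralChar (ψ₁ : U₁ → ℂ) u₁ * centralChar (ψ₂ : U₂ → ℂ) u₂ =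
        centralChar (trivIrr U₁ : U₁ → ℂ) u₁ *
          (centralChar (trivIrr U₂ : U₂ → ℂ) u₂ - centralChar (ψ₂ : U₂ → ℂ) u₂) +
        (centralChar (trivIrr U₁ : U₁ → ℂ) u₁ - centralChar (ψ₁ : U₁ → ℂ) u₁) *
          centralChar (ψ₂ : U₂ → ℂ) u₂ := by ring
    rw [e]
    apply memLocalIdeal_add hMp
    · exact memLocalIdeal_mul_left hMp (memLocalRing_centralChar hMp.ne_top (trivIrr U₁).2 u₁)
        (hb₂ u₂)
    · exact memLocalIdeal_mul_right hMp (hb₁ u₁) (memLocalRing_centralChar hMp.ne_top ψ₂.2 u₂)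

end

end Cfsg.Agent.Lib.Helper8
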