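import Mathlib
import Cfsg.Prelude.Def_Characters
import Cfsg.Agent.Lib.Helper8.TwoClass
import Cfsg.Agent.Lib.Helper8.LinearCount
import Cfsg.Agent.Lib.Helper8.Deflation
import Cfsg.Agent.Lib.Helper1.CharFound5

/-!
# Characters with `χ(1) - χ(u)` constant or `χ(u) = 0`: character side
-/

set_option autoImplicit false

namespace Cfsg.Agent.Lib.Helper8

open Cfsg
open scoped ComplexConjugate
open Cfsg.Agent.Lib.Helper1 Cfsg.Agent.Lib.Helper4

universe u

section

variable {G : Type u} [Group G] [Finite G]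

/-- column orthogonality against the identity -/
theorem sum_irr_apply_mul_one [Fintype (IrrCharacter G)] {u : G} (hu : u ≠ 1) :
    ∑ χ : IrrCharacter G, (χ : G → ℂ) u * (χ : G → ℂ) 1 = 0 := by
  classical
  haveI : Fintype G := Fintype.ofFinite _
  have h1 := column_orthogonality (G := G) 1 u
  have h2 : classIndicator (1 : G) u = 0 := by
    unfold classIndicator
    rw [if_neg]
    intro h
    exact hu (isConj_one_right.mp h)
  rw [h2, mul_zero] at h1
  rw [← h1]
  apply Finset.sum_congr rfl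
  intro χ _
  rw [(irr_apply_one_eq_charDegree χ.2).1, Complex.conj_natCast]

/-- the order of the centralizer as a sum over the characters -/
theorem sum_irr_apply_mul_conj [Fintype (IrrCharacter G)] (u : G) :
    ∑ χ : IrrCharacter G, (χ : G → ℂ) u * conj ((χ : G → ℂ) u)
      = (Nat.card (Subgroup.centralizer ({u} : Set G)) : ℂ) := by
  classical
  haveI : Fintype G := Fintype.ofFinite _
  have h1 := column_orthogonality (G := G) u u
  have h2 : classIndicator u u = 1 := by
    unfold classIndicator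
    rw [if_pos (IsConj.refl u)]
  rw [h2, mul_one] at h1
  exact h1

/-- The degree of an irreducible character is a positive natural number. -/
theorem exists_degree (χ : IrrCharacter G) : ∃ d : ℕ, 0 < d ∧ (χ : G → ℂ) 1 = d := by
  exact ⟨charDegree (χ : G → ℂ), (irr_apply_one_eq_charDegree χ.2).2,
    (irr_apply_one_eq_charDegree χ.2).1⟩

/-- the product of two linear irreducible characters -/
theorem exists_linear_mul (χ ψ : IrrCharacter G) (hχ : (χ : G → ℂ) 1 = 1)
    (hψ : (ψ : G → ℂ) 1 = 1) :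
    ∃ ξ : IrrCharacter G, (ξ : G → ℂ) 1 = 1 ∧ ∀ g : G, (ξ : G → ℂ) g
      = (χ : G → ℂ) g * (ψ : G → ℂ) g := by
  obtain ⟨φ, hφ⟩ := exists_hom_of_isIrrCharacter χ.2 hχ
  obtain ⟨φ', hφ'⟩ := exists_hom_of_isIrrCharacter ψ.2 hψ
  refine ⟨⟨fun g => ((φ * φ') g : ℂ), isIrrCharacter_of_hom (φ * φ')⟩, by simp, ?_⟩
  intro g
  change ((φ * φ') g : ℂ) = _
  rw [hφ, hφ']
  simp

/-- The hypothesis of the constant-value problem. -/
def ConstVal (u : G) (c : ℂ) : Prop :=
  ∀ χ : IrrCharacter G, (χ : G → ℂ) ≠ (fun _ => (1 : ℂ)) →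
    ((χ : G → ℂ) 1 - (χ : G → ℂ) u = c ∨ (χ : G → ℂ) u = 0)

/-- `c = 0` is impossible. -/
theorem ConstVal.ne_zero {u : G} {c : ℂ} (h : ConstVal u c) (hu : u ≠ 1) : c ≠ 0 := by
  classical
  haveI : Fintype (IrrCharacter G) := Fintype.ofFinite _
  intro hc
  have h1 := sum_irr_apply_mul_one (G := G) hu
  have h2 : ∀ χ : IrrCharacter G, 0 ≤ ((χ : G → ℂ) u * (χ : G → ℂ) 1).re := by
    intro χ
    obtain ⟨d, hd, hd1⟩ := exists_degree χ
    by_cases hχ : (χ : G → ℂ) = fun _ => (1 : ℂ)
    · rw [hχ]; simp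
    · rcases h χ hχ with h3 | h3
      · rw [hc, sub_eq_zero] at h3
        rw [← h3, hd1]
        norm_cast
        positivity
      · rw [h3, zero_mul]; simp
  have h3 : (∑ χ : IrrCharacter G, (χ : G → ℂ) u * (χ : G → ℂ) 1).re = 0 := by
    rw [h1]; simp
  rw [Complex.re_sum] at h3
  have h4 := (Finset.sum_eq_zero_iff_of_nonneg (fun χ _ => h2 χ)).1 h3 (trivIrr G)
    (Finset.mem_univ _)
  rw [trivIrr_apply, trivIrr_apply] at h4
  simp at h4

/-- If `c = 2`, some nonprincipal character is linear. -/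
theorem ConstVal.exists_linear {u : G} (h : ConstVal u 2) (hu : u ≠ 1) :
    ∃ χ : IrrCharacter G, (χ : G → ℂ) ≠ (fun _ => (1 : ℂ)) ∧ (χ : G → ℂ) 1 = 1 := by
  classical
  haveI : Fintype (IrrCharacter G) := Fintype.ofFinite _
  by_contra hcon
  push Not at hcon
  have h1 := sum_irr_apply_mul_one (G := G) hu
  have h2 : ∀ χ : IrrCharacter G, 0 ≤ ((χ : G → ℂ) u * (χ : G → ℂ) 1).re := by
    intro χ
    obtain ⟨d, hd, hd1⟩ := exists_degree χ
    by_cases hχ : (χ : G → ℂ) = fun _ => (1 : ℂ)
    · rw [hχ]; simp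
    · rcases h χ hχ with h3 | h3
      · have hd2 : 2 ≤ d := by
          rcases Nat.lt_or_ge d 2 with h4 | h4
          · exfalso
            have : d = 1 := by omega
            apply hcon χ hχ
            rw [hd1, this, Nat.cast_one]
          · exact h4
        have h5 : (χ : G → ℂ) u = ((d : ℂ) - 2) := by
          rw [← hd1]; linear_combination -h3
        rw [h5, hd1]
        have h6 : ((d : ℂ) - 2) * (d : ℂ) = (((d : ℝ) - 2) * (d : ℝ) : ℝ) := by push_cast; ring
        rw [h6, Complex.ofReal_re]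
        have : (2 : ℝ) ≤ d := by exact_mod_cast hd2
        nlinarith
      · rw [h3, zero_mul]; simp
  have h3 : (∑ χ : IrrCharacter G, (χ : G → ℂ) u * (χ : G → ℂ) 1).re = 0 := by
    rw [h1]; simp
  rw [Complex.re_sum] at h3
  have h4 := (Finset.sum_eq_zero_iff_of_nonneg (fun χ _ => h2 χ)).1 h3 (trivIrr G)
    (Finset.mem_univ _)
  rw [trivIrr_apply, trivIrr_apply] at h4
  simp at h4

/-- A nonprincipal linear character takes the value `-1` at `u`, and `c = 2`. -/
theorem ConstVal.linear_apply {u : G} {c : ℂ} (h : ConstVal u c) (hu : u ≠ 1)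
    (χ : IrrCharacter G) (hχ : (χ : G → ℂ) ≠ (fun _ => (1 : ℂ))) (hχ1 : (χ : G → ℂ) 1 = 1) :
    (χ : G → ℂ) u = -1 ∧ c = 2 := by
  classical
  haveI : Fintype G := Fintype.ofFinite _
  have hc0 := h.ne_zero hu
  have hne : (χ : G → ℂ) u ≠ 0 := by
    intro h0
    have := linear_irr_mul_conj χ.2 hχ1 u
    rw [h0, zero_mul] at this
    exact zero_ne_one this
  have h1 : (χ : G → ℂ) u = 1 - c := by
    rcases h χ hχ with h2 | h2
    · rw [hχ1] at h2; linear_combination -h2
    · exact absurd h2 hne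
  obtain ⟨ξ, hξ1, hξ⟩ := exists_linear_mul χ χ hχ1 hχ1
  have h3 : (1 - c) * (1 - c) = 1 := by
    by_cases hξt : (ξ : G → ℂ) = fun _ => (1 : ℂ)
    · have := hξ u
      rw [hξt, h1] at this
      exact this.symm
    · exfalso
      have hneξ : (ξ : G → ℂ) u ≠ 0 := by
        rw [hξ u]; exact mul_ne_zero hne hne
      rcases h ξ hξt with h2 | h2
      · rw [hξ1, hξ u, h1] at h2
        have h4 : c * (1 - c) = 0 := by linear_combination h2
        rcases mul_eq_zero.1 h4 with h5 | h5
        · exact hc0 h5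
        · rw [h1, h5] at hne; exact hne rfl
      · exact hneξ h2
  have h4 : c * (c - 2) = 0 := by linear_combination h3
  rcases mul_eq_zero.1 h4 with h5 | h5
  · exact absurd h5 hc0
  · have hc : c = 2 := by linear_combination h5
    refine ⟨?_, hc⟩
    rw [h1, hc]; norm_num

end

end Cfsg.Agent.Lib.Helper8
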