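import Mathlib
import Cfsg.Prelude.Def_CaseTheorems
import Cfsg.Agent.Lib.Helper8.CV1
import Cfsg.Agent.Lib.Helper6.PPrimeCore

/-!
# Characters with `χ(1) - χ(u)` constant or `χ(u) = 0`: the structure of the group
-/

set_option autoImplicit false

namespace Cfsg.Agent.Lib.Helper8

open Cfsg
open scoped ComplexConjugate
open Cfsg.Agent.Lib.Helper1 Cfsg.Agent.Lib.Helper4 Cfsg.Agent.Lib.Helper6

universe u

section

variable {G : Type u} [Group G] [Finite G]

/-- An imperfect group has a nonprincipal linear character. -/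
theorem exists_linear_of_commutator_ne_top (hG : commutator G ≠ ⊤) :
    ∃ χ : IrrCharacter G, (χ : G → ℂ) ≠ (fun _ => (1 : ℂ)) ∧ (χ : G → ℂ) 1 = 1 := by
  by_contra hcon
  push Not at hcon
  apply hG
  rw [← Subgroup.index_eq_one, ← card_linear_irr]
  haveI : Subsingleton {χ : IrrCharacter G // (χ : G → ℂ) 1 = 1} := by
    constructor
    rintro ⟨χ, hχ⟩ ⟨ψ, hψ⟩
    apply Subtype.ext
    apply Subtype.ext
    have h1 : (χ : G → ℂ) = fun _ => (1 : ℂ) := by
      by_contra h
      exact hcon χ h hχ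
    have h2 : (ψ : G → ℂ) = fun _ => (1 : ℂ) := by
      by_contra h
      exact hcon ψ h hψ
    change (χ : G → ℂ) = (ψ : G → ℂ)
    rw [h1, h2]
  haveI : Nonempty {χ : IrrCharacter G // (χ : G → ℂ) 1 = 1} :=
    ⟨⟨trivIrr G, trivIrr_apply 1⟩⟩
  exact Nat.card_unique

/-- In the constant-value situation, there is at most one nonprincipal linear character. -/
theorem ConstVal.linear_unique {u : G} {c : ℂ} (h : ConstVal u c) (hu : u ≠ 1)
    (χ ψ : IrrCharacter G) (hχ : (χ : G → ℂ) ≠ (fun _ => (1 : ℂ))) (hχ1 : (χ : G → ℂ) 1 = 1)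
    (hψ : (ψ : G → ℂ) ≠ (fun _ => (1 : ℂ))) (hψ1 : (ψ : G → ℂ) 1 = 1) : ψ = χ := by
  have hχu := (h.linear_apply hu χ hχ hχ1).1
  have hψu := (h.linear_apply hu ψ hψ hψ1).1
  have key : ∀ (a b : IrrCharacter G), (a : G → ℂ) ≠ (fun _ => (1 : ℂ)) → (a : G → ℂ) 1 = 1 →
      (b : G → ℂ) ≠ (fun _ => (1 : ℂ)) → (b : G → ℂ) 1 = 1 →
      ∀ g : G, (a : G → ℂ) g * (b : G → ℂ) g = 1 := by
    intro a b ha ha1 hb hb1 g
    obtain ⟨ξ, hξ1, hξ⟩ := exists_linear_mul a b ha1 hb1
    have hau := (h.linear_apply hu a ha ha1).1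
    have hbu := (h.linear_apply hu b hb hb1).1
    by_cases hξt : (ξ : G → ℂ) = fun _ => (1 : ℂ)
    · rw [← hξ g, hξt]
    · exfalso
      have h1 := (h.linear_apply hu ξ hξt hξ1).1
      rw [hξ u, hau, hbu] at h1
      norm_num at h1
  apply Subtype.ext
  funext g
  have h1 := key χ χ hχ hχ1 hχ hχ1 g
  have h2 := key χ ψ hχ hχ1 hψ hψ1 g
  have h3 : (χ : G → ℂ) g ≠ 0 := by
    intro h0
    rw [h0, zero_mul] at h1
    exact zero_ne_one h1
  have h4 : (χ : G → ℂ) g * (ψ : G → ℂ) g = (χ : G → ℂ) g * (χ : G → ℂ) g := by rw [h1, h2]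
  exact mul_left_cancel₀ h3 h4

/-- nonlinear characters vanish at `u` in the imperfect case, and `|C(u)| = 2` -/
theorem ConstVal.card_centralizer {u : G} {c : ℂ} (h : ConstVal u c) (hu : u ≠ 1)
    (hG : commutator G ≠ ⊤) : Nat.card (Subgroup.centralizer ({u} : Set G)) = 2 := by
  classical
  haveI : Fintype (IrrCharacter G) := Fintype.ofFinite _
  obtain ⟨lam, hlam, hlam1⟩ := exists_linear_of_commutator_ne_top hG
  obtain ⟨hlamu, hc⟩ := h.linear_apply hu lam hlam hlam1
  subst hc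
  have htl : trivIrr G ≠ lam := by
    intro h0
    apply hlam
    rw [← h0]
    funext g
    exact trivIrr_apply g
  -- the other characters
  have hother : ∀ χ : IrrCharacter G, χ ≠ trivIrr G → χ ≠ lam →
      0 ≤ ((χ : G → ℂ) u * (χ : G → ℂ) 1).re ∧
      (((χ : G → ℂ) u * (χ : G → ℂ) 1).re = 0 → (χ : G → ℂ) u = 0) := by
    intro χ hχt hχl
    obtain ⟨d, hd, hd1⟩ := exists_degree χ
    have hχ : (χ : G → ℂ) ≠ fun _ => (1 : ℂ) := by
      intro h0
      apply hχt
      apply Subtype.ext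
      rw [h0]
      funext g
      exact (trivIrr_apply g).symm
    have hd2 : 2 ≤ d := by
      rcases Nat.lt_or_ge d 2 with h4 | h4
      · exfalso
        have : d = 1 := by omega
        apply hχl
        exact h.linear_unique hu lam χ hlam hlam1 hχ (by rw [hd1, this, Nat.cast_one])
      · exact h4
    rcases h χ hχ with h3 | h3
    · have h5 : (χ : G → ℂ) u = ((d : ℂ) - 2) := by
        rw [← hd1]; linear_combination -h3
      rw [h5, hd1]
      have h6 : ((d : ℂ) - 2) * (d : ℂ) = (((d : ℝ) - 2) * (d : ℝ) : ℝ) := by push_cast; ring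
      rw [h6, Complex.ofReal_re]
      have h7 : (2 : ℝ) ≤ d := by exact_mod_cast hd2
      constructor
      · nlinarith
      · intro h8
        have h9 : (d : ℝ) - 2 = 0 := by
          rcases mul_eq_zero.1 h8 with h10 | h10
          · exact h10
          · linarith
        have : ((d : ℝ) : ℂ) - 2 = 0 := by exact_mod_cast congrArg (fun x : ℝ => (x : ℂ)) h9
        simpa using this
    · rw [h3, zero_mul]
      exact ⟨by simp, fun _ => trivial |> fun _ => rfl⟩
  have h1 := sum_irr_apply_mul_one (G := G) hu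
  have h3 : (∑ χ : IrrCharacter G, (χ : G → ℂ) u * (χ : G → ℂ) 1).re = 0 := by
    rw [h1]; simp
  rw [Complex.re_sum] at h3
  rw [← Finset.add_sum_erase Finset.univ _ (Finset.mem_univ (trivIrr G)),
    ← Finset.add_sum_erase _ _ (Finset.mem_erase.2 ⟨htl.symm, Finset.mem_univ lam⟩)] at h3
  rw [trivIrr_apply, trivIrr_apply, hlamu, hlam1] at h3
  have h4 : ∑ χ ∈ (Finset.univ.erase (trivIrr G)).erase lam,
      ((χ : G → ℂ) u * (χ : G → ℂ) 1).re = 0 := by
    have : ((1 : ℂ) * 1).re = 1 := by simp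
    have h' : ((-1 : ℂ) * 1).re = -1 := by simp
    rw [this, h'] at h3
    linarith
  have h5 : ∀ χ ∈ (Finset.univ.erase (trivIrr G)).erase lam, (χ : G → ℂ) u = 0 := by
    intro χ hχ
    have hχ' := Finset.mem_erase.1 hχ
    have hχ'' := Finset.mem_erase.1 hχ'.2
    have h6 := (Finset.sum_eq_zero_iff_of_nonneg
      (fun ψ hψ => (hother ψ (Finset.mem_erase.1 (Finset.mem_erase.1 hψ).2).1
        (Finset.mem_erase.1 hψ).1).1)).1 h4 χ hχ
    exact (hother χ hχ''.1 hχ'.1).2 h6
  have h7 := sum_irr_apply_mul_conj (G := G) u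
  rw [← Finset.add_sum_erase Finset.univ _ (Finset.mem_univ (trivIrr G)),
    ← Finset.add_sum_erase _ _ (Finset.mem_erase.2 ⟨htl.symm, Finset.mem_univ lam⟩)] at h7
  rw [trivIrr_apply, hlamu] at h7
  have h8 : ∑ χ ∈ (Finset.univ.erase (trivIrr G)).erase lam,
      (χ : G → ℂ) u * conj ((χ : G → ℂ) u) = 0 := by
    apply Finset.sum_eq_zero
    intro χ hχ
    rw [h5 χ hχ, zero_mul]
  rw [h8] at h7
  have h9 : (Nat.card (Subgroup.centralizer ({u} : Set G)) : ℂ) = 2 := by
    rw [← h7]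
    simp
    norm_num
  exact_mod_cast h9

end

end Cfsg.Agent.Lib.Helper8
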