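import Mathlib
import Cfsg.Prelude.Def_CaseTheorems
import Cfsg.Agent.Lib.Helper8.CV2

/-!
# Characters with `χ(1) - χ(u)` constant or `χ(u) = 0`: the group side
-/

set_option autoImplicit false

namespace Cfsg.Agent.Lib.Helper8

open Cfsg
open scoped ComplexConjugate
open Cfsg.Agent.Lib.Helper1 Cfsg.Agent.Lib.Helper4 Cfsg.Agent.Lib.Helper6

universe u

section

variable {G : Type u} [Group G] [Finite G]

/-- An element with centralizer of order two is an involution generating its centralizer. -/
theorem orderOf_eq_two_of_card_centralizer {u : G} (hu : u ≠ 1)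
    (hC : Nat.card (Subgroup.centralizer ({u} : Set G)) = 2) :
    orderOf u = 2 ∧ Subgroup.centralizer ({u} : Set G) = Subgroup.zpowers u := by
  have hle : Subgroup.zpowers u ≤ Subgroup.centralizer ({u} : Set G) := by
    rw [Subgroup.zpowers_le]
    rw [Subgroup.mem_centralizer_iff]
    intro h hh
    rw [Set.mem_singleton_iff] at hh
    rw [hh]
  have h1 : orderOf u ∣ 2 := by
    rw [← hC, ← Nat.card_zpowers]
    exact Subgroup.card_dvd_of_le hle
  have h2 : orderOf u = 2 := by
    rcases (Nat.dvd_prime Nat.prime_two).1 h1 with h | h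
    · exact absurd (orderOf_eq_one_iff.1 h) hu
    · exact h
  refine ⟨h2, ?_⟩
  symm
  apply Subgroup.eq_of_le_of_card_ge hle
  rw [hC, Nat.card_zpowers, h2]

/-- A group with an involution whose centralizer has order two has order not divisible by `4`. -/
theorem not_four_dvd_of_card_centralizer {u : G} (hu : u ≠ 1)
    (hC : Nat.card (Subgroup.centralizer ({u} : Set G)) = 2) : ¬ 4 ∣ Nat.card G := by
  haveI : Fact (Nat.Prime 2) := ⟨Nat.prime_two⟩
  obtain ⟨ho, hCz⟩ := orderOf_eq_two_of_card_centralizer hu hC
  have hz2 : IsPGroup 2 (Subgroup.zpowers u) := by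
    apply IsPGroup.of_card (n := 1)
    rw [Nat.card_zpowers, ho, pow_one]
  obtain ⟨P, hP⟩ := hz2.exists_le_sylow
  have huP : u ∈ (P : Subgroup G) := hP (Subgroup.mem_zpowers u)
  haveI : Nontrivial (P : Subgroup G) := ⟨⟨⟨u, huP⟩, 1, fun h => hu (congrArg Subtype.val h)⟩⟩
  haveI := IsPGroup.center_nontrivial P.isPGroup'
  obtain ⟨z, hz⟩ := exists_ne (1 : Subgroup.center (P : Subgroup G))
  have hzu : ((z : (P : Subgroup G)) : G) ∈ Subgroup.centralizer ({u} : Set G) := by
    rw [Subgroup.mem_centralizer_iff]
    intro h hh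
    rw [Set.mem_singleton_iff] at hh
    rw [hh]
    have := Subgroup.mem_center_iff.1 z.2 ⟨u, huP⟩
    exact congrArg Subtype.val this
  have hzu' : ((z : (P : Subgroup G)) : G) = u := by
    rw [hCz] at hzu
    obtain ⟨k, hk⟩ := Subgroup.mem_zpowers_iff.1 hzu
    have h2 : u ^ (2 : ℤ) = 1 := by
      have := pow_orderOf_eq_one u
      rw [ho] at this
      exact_mod_cast this
    rcases Int.even_or_odd' k with ⟨m, hm | hm⟩
    · exfalso
      apply hz
      apply Subtype.ext
      apply Subtype.ext
      rw [← hk, hm, zpow_mul, h2, one_zpow]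
      rfl
    · rw [← hk, hm, zpow_add, zpow_mul, h2, one_zpow, one_mul, zpow_one]
  have hPle : (P : Subgroup G) ≤ Subgroup.centralizer ({u} : Set G) := by
    intro x hx
    rw [Subgroup.mem_centralizer_iff]
    intro h hh
    rw [Set.mem_singleton_iff] at hh
    rw [hh]
    have := Subgroup.mem_center_iff.1 z.2 ⟨x, hx⟩
    have h3 := congrArg Subtype.val this
    simp only [Subgroup.coe_mul] at h3
    rw [hzu'] at h3
    exact h3.symm
  have h4 : Nat.card (P : Subgroup G) ∣ 2 := by
    have := Subgroup.card_dvd_of_le hPle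
    rwa [hC] at this
  intro h5
  have h6 : 2 ^ 2 ∣ Nat.card (P : Subgroup G) := by
    rw [P.card_eq_multiplicity]
    apply pow_dvd_pow
    have h7 : 2 ^ 2 ∣ Nat.card G := by norm_num; exact h5
    exact (Nat.Prime.pow_dvd_iff_le_factorization Nat.prime_two Nat.card_pos.ne').1 h7
  have := Nat.le_of_dvd (by norm_num) (h6.trans h4)
  norm_num at this

/-- **Structure in the imperfect case.** -/
theorem ConstVal.structure {u : G} {c : ℂ} (h : ConstVal u c) (hu : u ≠ 1)
    (hG : commutator G ≠ ⊤) :
    orderOf u = 2 ∧ Subgroup.zpowers u ⊔ oddCore G = ⊤ ∧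
      Subgroup.centralizer ({u} : Set G) = Subgroup.zpowers u := by
  classical
  have hC := h.card_centralizer hu hG
  obtain ⟨ho, hCz⟩ := orderOf_eq_two_of_card_centralizer hu hC
  refine ⟨ho, ?_, hCz⟩
  -- the index of the commutator subgroup is two
  obtain ⟨lam, hlam, hlam1⟩ := exists_linear_of_commutator_ne_top hG
  obtain ⟨hlamu, -⟩ := h.linear_apply hu lam hlam hlam1
  have hidx : (commutator G).index = 2 := by
    rw [← card_linear_irr]
    rw [Nat.card_eq_two_iff]
    refine ⟨⟨trivIrr G, trivIrr_apply 1⟩, ⟨lam, hlam1⟩, ?_, ?_⟩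
    · intro h0
      apply hlam
      have : trivIrr G = lam := congrArg Subtype.val h0
      rw [← this]
      funext g
      exact trivIrr_apply g
    · ext ⟨χ, hχ1⟩
      simp only [Set.mem_insert_iff, Set.mem_singleton_iff, Set.mem_univ, iff_true]
      by_cases hχ : (χ : G → ℂ) = fun _ => (1 : ℂ)
      · left
        apply Subtype.ext
        apply Subtype.ext
        change (χ : G → ℂ) = (trivIrr G : G → ℂ)
        rw [hχ]
        funext g
        exact (trivIrr_apply g).symm
      · right
        apply Subtype.ext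
        exact h.linear_unique hu lam χ hlam hlam1 hχ hχ1
  have hunot : u ∉ commutator G := by
    intro hmem
    have := linear_irr_commutator lam.2 hlam1 hmem
    rw [hlamu] at this
    norm_num at this
  -- the commutator subgroup has odd order
  have hodd : (Nat.card (commutator G)).Coprime 2 := by
    rw [Nat.coprime_two_right]
    by_contra hne
    rw [Nat.not_odd_iff_even] at hne
    apply not_four_dvd_of_card_centralizer hu hC
    rw [← Subgroup.card_mul_index (commutator G), hidx]
    obtain ⟨m, hm⟩ := hne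
    exact ⟨m, by rw [hm]; ring⟩
  have hle : commutator G ≤ oddCore G :=
    le_pPrimeCore (inferInstance : (commutator G).Normal) hodd
  have htop : Subgroup.zpowers u ⊔ commutator G = ⊤ := by
    set K := Subgroup.zpowers u ⊔ commutator G with hK
    have h1 : (commutator G).relIndex K * K.index = 2 := by
      rw [Subgroup.relIndex_mul_index le_sup_right, hidx]
    have h2 : (commutator G).relIndex K ≠ 1 := by
      rw [Ne, Subgroup.relIndex_eq_one]
      intro h3
      exact hunot (h3 (le_sup_left (a := Subgroup.zpowers u) (Subgroup.mem_zpowers u)))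
    have h3 : (commutator G).relIndex K ∣ 2 := Dvd.intro _ h1
    have h4 : (commutator G).relIndex K = 2 := by
      rcases (Nat.dvd_prime Nat.prime_two).1 h3 with h5 | h5
      · exact absurd h5 h2
      · exact h5
    rw [h4] at h1
    have h5 : K.index = 1 := by omega
    exact Subgroup.index_eq_one.1 h5
  rw [eq_top_iff, ← htop]
  exact sup_le_sup_left hle _

/-- **Converse**: the semidirect shape forces imperfection. -/
theorem commutator_ne_top_of_shape {u : G} (ho : orderOf u = 2)
    (htop : Subgroup.zpowers u ⊔ oddCore G = ⊤) : commutator G ≠ ⊤ := by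
  obtain ⟨hOn, hOc⟩ := pPrimeCore_mem_set (G := G) 2
  haveI : (oddCore G).Normal := hOn
  intro hcomm
  have hcommQ : IsMulCommutative (G ⧸ oddCore G) := by
    have hgen : ∀ x : G ⧸ oddCore G, ∃ k : ℤ, x = (QuotientGroup.mk u : G ⧸ oddCore G) ^ k := by
      intro x
      obtain ⟨g, rfl⟩ := QuotientGroup.mk_surjective x
      have hg : g ∈ Subgroup.zpowers u ⊔ oddCore G := by rw [htop]; trivial
      obtain ⟨a, ha, b, hb, rfl⟩ := Subgroup.mem_sup_of_normal_right.1 hg
      obtain ⟨k, rfl⟩ := Subgroup.mem_zpowers_iff.1 ha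
      refine ⟨k, ?_⟩
      rw [QuotientGroup.mk_mul, (QuotientGroup.eq_one_iff b).2 hb, mul_one, QuotientGroup.mk_zpow]
    refine ⟨⟨fun x y => ?_⟩⟩
    obtain ⟨k, rfl⟩ := hgen x
    obtain ⟨l, rfl⟩ := hgen y
    rw [← zpow_add, ← zpow_add, add_comm]
  have hle := Subgroup.Normal.quotient_commutative_iff_commutator_le.1 hcommQ
  rw [hcomm, top_le_iff] at hle
  have h1 : Nat.card (oddCore G) = Nat.card G := by
    rw [hle, Subgroup.card_top]
  have h2 : 2 ∣ Nat.card G := by
    rw [← ho]
    exact orderOf_dvd_natCard u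
  rw [← h1] at h2
  have h3 := Nat.Coprime.eq_one_of_dvd hOc.symm h2
  norm_num at h3

end

end Cfsg.Agent.Lib.Helper8
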