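import Mathlib

set_option autoImplicit false

/-! Minimal supplements of a normal subgroup: a supplement of smallest order involves only the
primes dividing the index. -/

namespace Cfsg.Agent.Lib.Helper8.MS

universe u

variable {Γ : Type u} [Group Γ] [Finite Γ]

omit [Finite Γ] in
/-- A `q`-subgroup lies in every normal subgroup of index prime to `q`. -/
theorem pgroup_le_of_not_dvd_index {q : ℕ} [hq : Fact q.Prime] {Q K : Subgroup Γ} [K.Normal]
    (hQ : IsPGroup q Q) (hK : ¬ q ∣ K.index) : Q ≤ K := by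
  intro x hx
  obtain ⟨k, hk⟩ := hQ ⟨x, hx⟩
  have hk' : x ^ q ^ k = 1 := congrArg Subtype.val hk
  have h1 : orderOf (QuotientGroup.mk' K x) ∣ q ^ k := by
    apply orderOf_dvd_of_pow_eq_one
    rw [← map_pow, hk', map_one]
  have h2 : orderOf (QuotientGroup.mk' K x) ∣ K.index := by
    rw [Subgroup.index_eq_card]
    exact orderOf_dvd_natCard _
  have hcop : Nat.Coprime (q ^ k) K.index :=
    Nat.Coprime.pow_left k ((Nat.Prime.coprime_iff_not_dvd hq.out).2 hK)
  have h3 : orderOf (QuotientGroup.mk' K x) = 1 :=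
    Nat.eq_one_of_dvd_coprimes hcop h1 h2
  rw [orderOf_eq_one_iff] at h3
  exact (QuotientGroup.eq_one_iff x).1 h3

/-- A normal subgroup has a supplement whose order involves only the primes dividing the
index. -/
theorem exists_min_supplement (G : Subgroup Γ) [hG : G.Normal] :
    ∃ S : Subgroup Γ, G ⊔ S = ⊤ ∧ ∀ q : ℕ, q.Prime → q ∣ Nat.card S → q ∣ G.index := by
  classical
  have hex : ∃ k : ℕ, ∃ S : Subgroup Γ, G ⊔ S = ⊤ ∧ Nat.card S = k :=
    ⟨Nat.card (⊤ : Subgroup Γ), ⊤, sup_top_eq G, rfl⟩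
  obtain ⟨S, hS, hSk⟩ := Nat.find_spec hex
  have hmin : ∀ S' : Subgroup Γ, G ⊔ S' = ⊤ → Nat.card S ≤ Nat.card S' := by
    intro S' hS'
    rw [hSk]
    exact Nat.find_min' hex ⟨S', hS', rfl⟩
  refine ⟨S, hS, ?_⟩
  intro q hq hqS
  by_contra hqG
  haveI : Fact q.Prime := ⟨hq⟩
  -- the normal subgroup `K = G ∩ S` of `S`
  have hKidx : (G.subgroupOf S).index = G.index := by
    have h1 : G.relIndex S = G.relIndex (S ⊔ G) := (Subgroup.relIndex_sup_right S G).symm
    rw [sup_comm, hS, Subgroup.relIndex_top_right] at h1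
    exact h1
  obtain ⟨Q⟩ : Nonempty (Sylow q S) := inferInstance
  have hQK : (Q : Subgroup S) ≤ G.subgroupOf S :=
    pgroup_le_of_not_dvd_index Q.isPGroup' (by rw [hKidx]; exact hqG)
  -- a subgroup of `S` which together with `K` generates `S` is a supplement
  have hsupp : ∀ H : Subgroup S, H ⊔ G.subgroupOf S = ⊤ → G ⊔ H.map S.subtype = ⊤ := by
    intro H hH
    rw [eq_top_iff, ← hS]
    apply sup_le le_sup_left
    intro s hs
    have h1 : (⟨s, hs⟩ : S) ∈ H ⊔ G.subgroupOf S := by rw [hH]; trivial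
    have h2 : s ∈ (H ⊔ G.subgroupOf S).map S.subtype := ⟨⟨s, hs⟩, h1, rfl⟩
    rw [Subgroup.map_sup] at h2
    refine (sup_le le_sup_right ?_ : H.map S.subtype ⊔ (G.subgroupOf S).map S.subtype ≤
      G ⊔ H.map S.subtype) h2
    rw [Subgroup.subgroupOf_map_subtype]
    exact inf_le_left.trans le_sup_left
  have hcardmap : ∀ H : Subgroup S, Nat.card (H.map S.subtype) = Nat.card H := by
    intro H
    exact Nat.card_congr (H.equivMapOfInjective S.subtype S.subtype_injective).symm.toEquiv
  -- `Q` is normal in `S`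
  have hQn : (Q : Subgroup S).Normal := by
    have h1 := Sylow.normalizer_sup_eq_top' Q hQK
    have h2 := hmin _ (hsupp _ h1)
    rw [hcardmap] at h2
    have h3 : Subgroup.normalizer ((Q : Subgroup S) : Set S) = ⊤ := by
      apply Subgroup.eq_top_of_le_card
      exact h2
    exact Subgroup.normalizer_eq_top_iff.1 h3
  -- a complement of `Q` gives a smaller supplement
  have hcop : Nat.Coprime (Nat.card (Q : Subgroup S)) (Q : Subgroup S).index :=
    Q.card_coprime_index
  obtain ⟨H, hH⟩ := Subgroup.exists_left_complement'_of_coprime hcop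
  have h1 : H ⊔ G.subgroupOf S = ⊤ := by
    rw [eq_top_iff, ← hH.sup_eq_top]
    exact sup_le le_sup_left (hQK.trans le_sup_right)
  have h2 := hmin _ (hsupp _ h1)
  rw [hcardmap] at h2
  have h3 : Nat.card H * Nat.card (Q : Subgroup S) = Nat.card S := hH.card_mul_card
  have h4 : q ∣ Nat.card (Q : Subgroup S) := by
    have h5 := Q.card_eq_multiplicity
    rw [h5]
    apply dvd_pow_self
    intro h0
    have h6 : (Nat.card S).factorization q = 0 := h0
    have h7 : 0 < (Nat.card S).factorization q :=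
      hq.factorization_pos_of_dvd Nat.card_pos.ne' hqS
    omega
  have h5 : 2 ≤ Nat.card (Q : Subgroup S) :=
    le_trans hq.two_le (Nat.le_of_dvd Nat.card_pos h4)
  have h6 : 0 < Nat.card H := Nat.card_pos
  nlinarith

end Cfsg.Agent.Lib.Helper8.MS
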