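import Mathlib
import Cfsg.Agent.S4448
import Cfsg.Agent.Lib.Helper8.MS1
import Cfsg.Agent.Lib.Helper8.GL19

/-!
# Invariant constituents over coprime layers: the case of a solvable lower layer
-/

set_option autoImplicit false
set_option linter.unusedSectionVars false

namespace Cfsg.Agent.Lib.Helper8.CX

open Cfsg Cfsg.Agent.Lib.Helper1 Cfsg.Agent.Lib.Helper4 Cfsg.Agent.Lib.Helper8
open scoped ComplexConjugate

universe u

/-- Two numbers are coprime when every prime divisor of the first divides a number coprime to the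
second. -/
theorem coprime_of_primes_dvd {a b c : ℕ} (h : ∀ q : ℕ, q.Prime → q ∣ a → q ∣ c)
    (hc : c.Coprime b) : a.Coprime b := by
  by_contra hne
  obtain ⟨p, hp, hpa, hpb⟩ := Nat.Prime.not_coprime_iff_dvd.1 hne
  have hpc := h p hp hpa
  have h1 : p ∣ c.gcd b := Nat.dvd_gcd hpc hpb
  rw [Nat.Coprime.gcd_eq_one hc, Nat.dvd_one] at h1
  exact hp.one_lt.ne' h1

variable {Γ : Type u} [Group Γ] [Fintype Γ]

/-- Invariance under a supplement of `G` gives invariance under the whole group. -/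
theorem inv_top_of_supplement {G S : Subgroup Γ} [hG : G.Normal] (hsup : G ⊔ S = ⊤)
    {χ : G → ℂ} (hχ : IsClassFunction G χ) (hS : InvS S G χ) (x : Γ) (g : G) :
    χ ⟨x * g * x⁻¹, hG.conj_mem g g.2 x⟩ = χ g := by
  have hnG : ∀ y ∈ G, Normalizes y G := fun y hy => normalizes_of_mem hy
  have hnS : ∀ y ∈ S, Normalizes y G := by
    intro y _ t
    constructor
    · intro ht
      exact hG.conj_mem t ht y
    · intro ht
      have := hG.conj_mem _ ht y⁻¹
      simpa [mul_assoc] using this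
  have h1 : InvS (G ⊔ S) G χ := by
    rw [invS_sup hnG hnS]
    refine ⟨?_, hS⟩
    intro y hy
    exact (le_invSubgroup hχ hy).2
  exact h1 x (by rw [hsup]; exact Subgroup.mem_top x) g _ rfl

/-- The case of `S4450` in which `G/N` is solvable. -/
theorem exists_inv_of_solvable_lower (G N : Subgroup Γ) [hG : G.Normal] [hN : N.Normal]
    [Fintype G] [Fintype N] (hNG : N ≤ G) (hcop : (G.index).Coprime (N.relIndex G))
    (hsolv : Group.IsSolvable (G ⧸ N.subgroupOf G)) (θ : Cfsg.IrrCharacter N)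
    (hinv : ∀ (x : Γ) (n : N), (θ : N → ℂ) ⟨x * n * x⁻¹, hN.conj_mem n n.2 x⟩ = (θ : N → ℂ) n) :
    ∃ χ : Cfsg.IrrCharacter G,
      Cfsg.classInner (fun n : N => (χ : G → ℂ) ⟨n, hNG n.2⟩) (θ : N → ℂ) ≠ 0 ∧
      ∀ (x : Γ) (g : G), (χ : G → ℂ) ⟨x * g * x⁻¹, hG.conj_mem g g.2 x⟩ = (χ : G → ℂ) g := by
  classical
  obtain ⟨S, hsup, hprimes⟩ := Cfsg.Agent.Lib.Helper8.MS.exists_min_supplement G
  have hcop' : (N.relIndex G).Coprime (Nat.card S) :=
    (coprime_of_primes_dvd hprimes hcop).symm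
  obtain ⟨χ, hχ1, hχ2⟩ := Cfsg.Agent.S4448.result G S N
    (fun s _ g hg => hG.conj_mem g hg s) hNG
    (fun s _ n hn => hN.conj_mem n hn s) hcop' hsolv θ
    (by
      intro s _ g g' hg
      have : g' = ⟨s * g * s⁻¹, hN.conj_mem g g.2 s⟩ := Subtype.ext hg
      rw [this]
      exact hinv s g)
  refine ⟨χ, hχ1, ?_⟩
  exact inv_top_of_supplement hsup (isClassFunction_of_isCharacter (isCharacter_of_irr χ.2)) hχ2

end Cfsg.Agent.Lib.Helper8.CX
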