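import Mathlib
import Cfsg.Agent.Lib.Helper8.Deflation

/-!
# The central extension attached to an invariant irreducible representation

For a normal subgroup `N` of `Γ` and a representation `X` of `N` on `Fin d → ℂ`, the group
`tildeGroup N X M` consists of the pairs `(g, u)` with `u` an invertible endomorphism intertwining
`X` with its `g`-conjugate, normalised by `det u ^ M = 1`.
-/

set_option autoImplicit false
set_option linter.unusedSectionVars false

namespace Cfsg.Agent.Lib.Helper8.CX

open Cfsg Cfsg.Agent.Lib.Helper1 Cfsg.Agent.Lib.Helper4 Cfsg.Agent.Lib.Helper8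
open scoped ComplexConjugate

universe u

/-- The determinant on invertible endomorphisms. -/
noncomputable def detU (d : ℕ) : (Module.End ℂ (Fin d → ℂ))ˣ →* ℂˣ :=
  Units.map (LinearMap.det : Module.End ℂ (Fin d → ℂ) →* ℂ)

theorem detU_coe (d : ℕ) (v : (Module.End ℂ (Fin d → ℂ))ˣ) :
    ((detU d v : ℂˣ) : ℂ) = LinearMap.det (v : Module.End ℂ (Fin d → ℂ)) := rfl

/-- Scalar invertible endomorphisms. -/
noncomputable def scalU (d : ℕ) : ℂˣ →* (Module.End ℂ (Fin d → ℂ))ˣ :=
  Units.map (algebraMap ℂ (Module.End ℂ (Fin d → ℂ)) : ℂ →* Module.End ℂ (Fin d → ℂ))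

theorem scalU_coe (d : ℕ) (c : ℂˣ) :
    ((scalU d c : (Module.End ℂ (Fin d → ℂ))ˣ) : Module.End ℂ (Fin d → ℂ))
      = (c : ℂ) • (1 : Module.End ℂ (Fin d → ℂ)) := by
  show algebraMap ℂ (Module.End ℂ (Fin d → ℂ)) (c : ℂ) = _
  rw [Algebra.algebraMap_eq_smul_one]

theorem scalU_comm (d : ℕ) (c : ℂˣ) (v : (Module.End ℂ (Fin d → ℂ))ˣ) :
    scalU d c * v = v * scalU d c := by
  apply Units.ext
  rw [Units.val_mul, Units.val_mul, scalU_coe]
  simp

theorem detU_scalU (d : ℕ) (c : ℂˣ) : detU d (scalU d c) = c ^ d := by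
  apply Units.ext
  rw [detU_coe, scalU_coe, LinearMap.det_smul, Module.finrank_fin_fun, map_one, mul_one,
    Units.val_pow_eq_pow_val]

variable {Γ : Type u} [Group Γ] (N : Subgroup Γ) [hN : N.Normal] {d : ℕ}
  (X : Representation ℂ N (Fin d → ℂ)) (M : ℕ)

/-- The central extension. -/
def tildeGroup : Subgroup (Γ × (Module.End ℂ (Fin d → ℂ))ˣ) where
  carrier := {a | (∀ n : N, X.asGroupHom (MulAut.conjNormal a.1 n)
      = a.2 * X.asGroupHom n * a.2⁻¹) ∧ detU d a.2 ^ M = 1}
  one_mem' := by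
    refine ⟨fun n => ?_, ?_⟩
    · simp
    · simp
  mul_mem' := by
    rintro a b ⟨ha1, ha2⟩ ⟨hb1, hb2⟩
    refine ⟨fun n => ?_, ?_⟩
    · show X.asGroupHom (MulAut.conjNormal (a.1 * b.1) n)
        = (a.2 * b.2) * X.asGroupHom n * (a.2 * b.2)⁻¹
      rw [map_mul, MulAut.mul_apply, ha1, hb1]
      group
    · show detU d (a.2 * b.2) ^ M = 1
      rw [map_mul, mul_pow, ha2, hb2, one_mul]
  inv_mem' := by
    rintro a ⟨ha1, ha2⟩
    refine ⟨fun n => ?_, ?_⟩
    · show X.asGroupHom (MulAut.conjNormal a.1⁻¹ n) = a.2⁻¹ * X.asGroupHom n * a.2⁻¹⁻¹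
      have := ha1 (MulAut.conjNormal a.1⁻¹ n)
      rw [← MulAut.mul_apply, ← map_mul, mul_inv_cancel, map_one, MulAut.one_apply] at this
      rw [this]
      group
    · show detU d a.2⁻¹ ^ M = 1
      rw [map_inv, inv_pow, ha2, inv_one]

theorem mem_tildeGroup {a : Γ × (Module.End ℂ (Fin d → ℂ))ˣ} :
    a ∈ tildeGroup N X M ↔ (∀ n : N, X.asGroupHom (MulAut.conjNormal a.1 n)
      = a.2 * X.asGroupHom n * a.2⁻¹) ∧ detU d a.2 ^ M = 1 := Iff.rfl

/-- The projection to `Γ`. -/
def tildePr : tildeGroup N X M →* Γ := (MonoidHom.fst Γ _).comp (tildeGroup N X M).subtype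

theorem tildePr_apply (a : tildeGroup N X M) : tildePr N X M a = a.1.1 := rfl

/-- The tautological representation. -/
noncomputable def tildeRep : Representation ℂ (tildeGroup N X M) (Fin d → ℂ) :=
  (Units.coeHom (Module.End ℂ (Fin d → ℂ))).comp
    ((MonoidHom.snd Γ _).comp (tildeGroup N X M).subtype)

theorem tildeRep_apply (a : tildeGroup N X M) :
    tildeRep N X M a = ((a.1.2 : (Module.End ℂ (Fin d → ℂ))ˣ) : Module.End ℂ (Fin d → ℂ)) :=
  rfl

/-- The intertwining relation in terms of endomorphisms. -/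
theorem tilde_intertwine (a : tildeGroup N X M) (n : N) :
    tildeRep N X M a * X n = X (MulAut.conjNormal (tildePr N X M a) n) * tildeRep N X M a := by
  have h := a.2.1 n
  have h2 : X.asGroupHom (MulAut.conjNormal a.1.1 n) * a.1.2
      = a.1.2 * X.asGroupHom n := by
    rw [h]
    group
  have h3 := congrArg (fun v : (Module.End ℂ (Fin d → ℂ))ˣ => (v : Module.End ℂ (Fin d → ℂ))) h2
  simp only [Units.val_mul, Representation.asGroupHom_apply] at h3
  exact h3.symm

variable (hM : ∀ n : N, n ^ M = 1)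

/-- The embedding of `N`. -/
noncomputable def tildeIota (hM : ∀ n : N, n ^ M = 1) : N →* tildeGroup N X M where
  toFun n := ⟨((n : Γ), X.asGroupHom n), by
    refine ⟨fun n' => ?_, ?_⟩
    · show X.asGroupHom (MulAut.conjNormal (n : Γ) n') = _
      rw [← map_inv, ← map_mul, ← map_mul]
      congr 1
    · show detU d (X.asGroupHom n) ^ M = 1
      rw [← map_pow, ← map_pow, hM n, map_one, map_one]⟩
  map_one' := by
    apply Subtype.ext
    show (((1 : N) : Γ), X.asGroupHom (1 : N)) = 1
    rw [map_one]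
    rfl
  map_mul' a b := by
    apply Subtype.ext
    show (((a * b : N) : Γ), X.asGroupHom (a * b)) = ((a : Γ), X.asGroupHom a) * ((b : Γ), X.asGroupHom b)
    rw [map_mul]
    rfl

theorem tildePr_iota (n : N) : tildePr N X M (tildeIota N X M hM n) = n := rfl

theorem tildeRep_iota (n : N) : tildeRep N X M (tildeIota N X M hM n) = X n := by
  rw [tildeRep_apply]
  exact Representation.asGroupHom_apply X n

theorem tildeRep_comp_iota : (tildeRep N X M).comp (tildeIota N X M hM) = X := by
  ext n : 1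
  exact tildeRep_iota N X M hM n

/-- Conjugating `ι n` by an element of the extension. -/
theorem tilde_conj_iota (a : tildeGroup N X M) (n : N) :
    a * tildeIota N X M hM n * a⁻¹ = tildeIota N X M hM (MulAut.conjNormal (tildePr N X M a) n) := by
  apply Subtype.ext
  apply Prod.ext
  · show a.1.1 * (n : Γ) * a.1.1⁻¹ = _
    rw [← MulAut.conjNormal_apply]
    rfl
  · show a.1.2 * X.asGroupHom n * a.1.2⁻¹ = _
    rw [← a.2.1 n]
    rfl

/-- The image of `N` is normal. -/
theorem tildeIota_range_normal : (tildeIota N X M hM).range.Normal := by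
  constructor
  rintro _ ⟨n, rfl⟩ a
  rw [tilde_conj_iota]
  exact ⟨_, rfl⟩

theorem tildeIota_injective : Function.Injective (tildeIota N X M hM) := by
  intro a b hab
  have := congrArg (tildePr N X M) hab
  rw [tildePr_iota, tildePr_iota] at this
  exact Subtype.ext this

end Cfsg.Agent.Lib.Helper8.CX
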