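import Mathlib
import Cfsg.Agent.Lib.Helper8.CX6
import Cfsg.Agent.S0153

/-!
# The projection of the central extension is surjective
-/

set_option autoImplicit false
set_option linter.unusedSectionVars false

namespace Cfsg.Agent.Lib.Helper8.CX

open Cfsg Cfsg.Agent.Lib.Helper1 Cfsg.Agent.Lib.Helper4 Cfsg.Agent.Lib.Helper8
open scoped ComplexConjugate

universe u

variable {Γ : Type u} [Group Γ] (N : Subgroup Γ) [hN : N.Normal] {d : ℕ}
  (X : Representation ℂ N (Fin d → ℂ)) (M : ℕ)

/-- Membership criterion in terms of endomorphisms. -/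
theorem mem_tildeGroup_of_intertwine (g : Γ) (v : (Module.End ℂ (Fin d → ℂ))ˣ)
    (h1 : ∀ n : N, (v : Module.End ℂ (Fin d → ℂ)) * X n = X (MulAut.conjNormal g n) * v)
    (h2 : detU d v ^ M = 1) : (g, v) ∈ tildeGroup N X M := by
  refine ⟨fun n => ?_, h2⟩
  show X.asGroupHom (MulAut.conjNormal g n) = v * X.asGroupHom n * v⁻¹
  rw [eq_mul_inv_iff_mul_eq]
  apply Units.ext
  rw [Units.val_mul, Units.val_mul, Representation.asGroupHom_apply,
    Representation.asGroupHom_apply]
  exact (h1 n).symm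

theorem tildePr_surjective [Finite N] (hd : 0 < d)
    (hinv : ∀ (x : Γ) (n : N), X.character ⟨x * n * x⁻¹, hN.conj_mem n n.2 x⟩ = X.character n) :
    Function.Surjective (tildePr N X M) := by
  intro g
  let σ : Representation ℂ N (Fin d → ℂ) := X.comp (MulAut.conjNormal g : N ≃* N).toMonoidHom
  have hσ : σ.character = X.character := by
    funext n
    have h1 : σ.character n = X.character (MulAut.conjNormal g n) := rfl
    rw [h1, ← hinv g n]
    congr 1
  obtain ⟨φ⟩ := Cfsg.Agent.S0153.result X σ hσ.symm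
  let v : (Module.End ℂ (Fin d → ℂ))ˣ := LinearMap.GeneralLinearGroup.ofLinearEquiv φ.toLinearEquiv
  have hv : ∀ n : N, (v : Module.End ℂ (Fin d → ℂ)) * X n = X (MulAut.conjNormal g n) * v := by
    intro n
    exact φ.isIntertwining' n
  obtain ⟨z, hz⟩ := IsAlgClosed.exists_pow_nat_eq (((detU d v)⁻¹ : ℂˣ) : ℂ) hd
  have hz0 : z ≠ 0 := by
    intro h
    rw [h, zero_pow hd.ne'] at hz
    exact (Units.ne_zero _) hz.symm
  let c : ℂˣ := Units.mk0 z hz0
  have hc : c ^ d = (detU d v)⁻¹ := by
    apply Units.ext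
    rw [Units.val_pow_eq_pow_val]
    exact hz
  have hmem : (g, scalU d c * v) ∈ tildeGroup N X M := by
    apply mem_tildeGroup_of_intertwine
    · intro n
      rw [Units.val_mul, scalU_coe, smul_mul_assoc, one_mul, smul_mul_assoc, hv n,
        mul_smul_comm]
    · rw [map_mul, detU_scalU, hc, inv_mul_cancel, one_pow]
  exact ⟨⟨_, hmem⟩, rfl⟩

end Cfsg.Agent.Lib.Helper8.CX
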