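import Mathlib
import Cfsg.Agent.Lib.Helper8.CX7
import Cfsg.Agent.Lib.Helper1.CharCenter

/-!
# The kernel of the projection: scalars
-/

set_option autoImplicit false
set_option linter.unusedSectionVars false

namespace Cfsg.Agent.Lib.Helper8.CX

open Cfsg Cfsg.Agent.Lib.Helper1 Cfsg.Agent.Lib.Helper4 Cfsg.Agent.Lib.Helper8
open scoped ComplexConjugate

universe u

variable {Γ : Type u} [Group Γ] (N : Subgroup Γ) [hN : N.Normal] {d : ℕ}
  (X : Representation ℂ N (Fin d → ℂ)) (M : ℕ)

/-- The preimage of `N`. -/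
def tildeN : Subgroup (tildeGroup N X M) := N.comap (tildePr N X M)

theorem mem_tildeN {a : tildeGroup N X M} : a ∈ tildeN N X M ↔ tildePr N X M a ∈ N := Iff.rfl

omit hN in
/-- A scalar multiple of an invertible operator determines the scalar. -/
theorem smul_rep_cancel [Nontrivial (Fin d → ℂ)] {c c' : ℂ} (n : N) (h : c • X n = c' • X n) :
    c = c' := by
  obtain ⟨v, hv⟩ := exists_ne (0 : Fin d → ℂ)
  have h1 := congrArg (fun T : Module.End ℂ (Fin d → ℂ) => (T * X n⁻¹) v) h
  simp only [smul_mul_assoc, ← map_mul, mul_inv_cancel, map_one, LinearMap.smul_apply,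
    Module.End.one_apply] at h1
  exact smul_left_injective ℂ hv h1

variable [hX : X.IsIrreducible]

/-- Elements over `N` differ from the image of `N` by scalars. -/
theorem exists_scalar (a : tildeGroup N X M) (ha : tildePr N X M a ∈ N) :
    ∃ c : ℂ, tildeRep N X M a = c • X (⟨tildePr N X M a, ha⟩ : N) := by
  set n : N := ⟨tildePr N X M a, ha⟩ with hn
  set A := tildeRep N X M a with hAdef
  have hconj : ∀ n' : N, MulAut.conjNormal (tildePr N X M a) n' = n * n' * n⁻¹ := by
    intro n'
    apply Subtype.ext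
    rw [MulAut.conjNormal_apply]
    rfl
  have hA : ∀ m : N, A * X m = X (n * m * n⁻¹) * A := by
    intro m
    rw [hAdef, tilde_intertwine, hconj]
  have hcomm : ∀ n' : N, (A * X n⁻¹) ∘ₗ X n' = X n' ∘ₗ (A * X n⁻¹) := by
    intro n'
    rw [← Module.End.mul_eq_comp, ← Module.End.mul_eq_comp]
    calc (A * X n⁻¹) * X n' = A * X (n⁻¹ * n') := by rw [mul_assoc, ← map_mul]
      _ = X (n * (n⁻¹ * n') * n⁻¹) * A := hA _
      _ = X (n' * n⁻¹) * A := by
          have : n * (n⁻¹ * n') * n⁻¹ = n' * n⁻¹ := by group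
          rw [this]
      _ = X n' * (X (n * n⁻¹ * n⁻¹) * A) := by
          rw [← mul_assoc, ← map_mul]
          have : n' * (n * n⁻¹ * n⁻¹) = n' * n⁻¹ := by group
          rw [this]
      _ = X n' * (A * X n⁻¹) := by rw [hA]
  obtain ⟨c, hc⟩ := scalar_of_commute X (A * X n⁻¹) hcomm
  refine ⟨c, ?_⟩
  have h1 : A = (A * X n⁻¹) * X n := by
    rw [mul_assoc, ← map_mul, inv_mul_cancel, map_one, mul_one]
  rw [h1, hc, smul_mul_assoc, ← Module.End.one_eq_id, one_mul]

/-- The scalar of an element over `N`. -/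
noncomputable def tildeMu₀ (a : tildeN N X M) : ℂ := Classical.choose (exists_scalar N X M a.1 a.2)

theorem tildeMu₀_spec (a : tildeN N X M) :
    tildeRep N X M a.1 = tildeMu₀ N X M a • X (⟨tildePr N X M a.1, a.2⟩ : N) :=
  Classical.choose_spec (exists_scalar N X M a.1 a.2)

theorem tildeMu₀_unique (a : tildeN N X M) {c : ℂ}
    (h : tildeRep N X M a.1 = c • X (⟨tildePr N X M a.1, a.2⟩ : N)) : tildeMu₀ N X M a = c := by
  haveI := nontrivial_of_irreducible X
  apply smul_rep_cancel N X (⟨tildePr N X M a.1, a.2⟩ : N)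
  rw [← tildeMu₀_spec, h]

/-- The scalar homomorphism on the preimage of `N`. -/
noncomputable def tildeMu : tildeN N X M →* ℂˣ :=
  MonoidHom.toHomUnits
    { toFun := tildeMu₀ N X M
      map_one' := by
        apply tildeMu₀_unique
        rw [one_smul]
        have h1 : (⟨tildePr N X M (1 : tildeN N X M).1, (1 : tildeN N X M).2⟩ : N) = 1 := by
          apply Subtype.ext
          exact map_one _
        rw [h1, map_one]
        exact map_one _
      map_mul' := by
        intro a b
        apply tildeMu₀_unique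
        have h1 : (⟨tildePr N X M (a * b : tildeN N X M).1, (a * b : tildeN N X M).2⟩ : N)
            = (⟨tildePr N X M a.1, a.2⟩ : N) * (⟨tildePr N X M b.1, b.2⟩ : N) := by
          apply Subtype.ext
          exact map_mul _ _ _
        rw [h1, map_mul]
        have h2 : tildeRep N X M (a * b : tildeN N X M).1
            = tildeRep N X M a.1 * tildeRep N X M b.1 := map_mul _ _ _
        rw [h2, tildeMu₀_spec N X M a, tildeMu₀_spec N X M b, smul_mul_smul_comm] }

theorem tildeMu_spec (a : tildeN N X M) :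
    tildeRep N X M a.1 = ((tildeMu N X M a : ℂˣ) : ℂ) • X (⟨tildePr N X M a.1, a.2⟩ : N) := by
  have : ((tildeMu N X M a : ℂˣ) : ℂ) = tildeMu₀ N X M a := by
    unfold tildeMu
    rw [MonoidHom.coe_toHomUnits]
    rfl
  rw [this]
  exact tildeMu₀_spec N X M a

theorem tildeMu_unique (a : tildeN N X M) {c : ℂ}
    (h : tildeRep N X M a.1 = c • X (⟨tildePr N X M a.1, a.2⟩ : N)) :
    ((tildeMu N X M a : ℂˣ) : ℂ) = c := by
  have : ((tildeMu N X M a : ℂˣ) : ℂ) = tildeMu₀ N X M a := by
    unfold tildeMu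
    rw [MonoidHom.coe_toHomUnits]
    rfl
  rw [this]
  exact tildeMu₀_unique N X M a h

variable (hM : ∀ n : N, n ^ M = 1)

theorem tildeIota_mem_tildeN (n : N) : tildeIota N X M hM n ∈ tildeN N X M := n.2

theorem tildeMu_iota (n : N) :
    tildeMu N X M ⟨tildeIota N X M hM n, tildeIota_mem_tildeN N X M hM n⟩ = 1 := by
  apply Units.ext
  rw [Units.val_one]
  apply tildeMu_unique
  rw [one_smul, tildeRep_iota]
  rfl

/-- Kernel elements are scalars. -/
theorem tildeRep_of_mem_ker {a : tildeGroup N X M} (ha : a ∈ (tildePr N X M).ker) :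
    ∃ h : a ∈ tildeN N X M, tildeRep N X M a
      = ((tildeMu N X M ⟨a, h⟩ : ℂˣ) : ℂ) • (1 : Module.End ℂ (Fin d → ℂ)) := by
  rw [MonoidHom.mem_ker] at ha
  have h : a ∈ tildeN N X M := by
    rw [mem_tildeN, ha]
    exact N.one_mem
  refine ⟨h, ?_⟩
  have h1 := tildeMu_spec N X M ⟨a, h⟩
  have h2 : (⟨tildePr N X M a, h⟩ : N) = 1 := Subtype.ext ha
  rw [h1]
  show _ • X (⟨tildePr N X M a, h⟩ : N) = _
  rw [h2, map_one]

/-- The kernel is central. -/
theorem tilde_ker_central {a : tildeGroup N X M} (ha : a ∈ (tildePr N X M).ker)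
    (b : tildeGroup N X M) : a * b = b * a := by
  obtain ⟨h, hs⟩ := tildeRep_of_mem_ker N X M ha
  rw [MonoidHom.mem_ker] at ha
  apply Subtype.ext
  apply Prod.ext
  · show a.1.1 * b.1.1 = b.1.1 * a.1.1
    have : a.1.1 = 1 := ha
    rw [this, one_mul, mul_one]
  · show a.1.2 * b.1.2 = b.1.2 * a.1.2
    apply Units.ext
    rw [Units.val_mul, Units.val_mul]
    have : (a.1.2 : Module.End ℂ (Fin d → ℂ)) = tildeRep N X M a := rfl
    rw [this, hs]
    simp

end Cfsg.Agent.Lib.Helper8.CX
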