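import Mathlib
import Cfsg.Agent.Lib.Helper8.CX8

/-!
# Finiteness of the central extension and centrality modulo the image of `N`
-/

set_option autoImplicit false
set_option linter.unusedSectionVars false

namespace Cfsg.Agent.Lib.Helper8.CX

open Cfsg Cfsg.Agent.Lib.Helper1 Cfsg.Agent.Lib.Helper4 Cfsg.Agent.Lib.Helper8
open scoped ComplexConjugate

universe u

variable {Γ : Type u} [Group Γ] (N : Subgroup Γ) [hN : N.Normal] {d : ℕ}
  (X : Representation ℂ N (Fin d → ℂ)) (M : ℕ) [hX : X.IsIrreducible]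

theorem ker_le_tildeN : (tildePr N X M).ker ≤ tildeN N X M := by
  intro a ha
  rw [MonoidHom.mem_ker] at ha
  rw [mem_tildeN, ha]
  exact N.one_mem

/-- Kernel elements are scalar units. -/
theorem tilde_snd_of_mem_ker {a : tildeGroup N X M} (ha : a ∈ (tildePr N X M).ker) :
    a.1.2 = scalU d (tildeMu N X M ⟨a, ker_le_tildeN N X M ha⟩) := by
  obtain ⟨h, hs⟩ := tildeRep_of_mem_ker N X M ha
  apply Units.ext
  rw [scalU_coe]
  exact hs

theorem tildeMu_pow_of_mem_ker {a : tildeGroup N X M} (ha : a ∈ (tildePr N X M).ker) :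
    (tildeMu N X M ⟨a, ker_le_tildeN N X M ha⟩) ^ (d * M) = 1 := by
  have h1 := a.2.2
  rw [tilde_snd_of_mem_ker N X M ha, detU_scalU, ← pow_mul] at h1
  exact h1

theorem tilde_finite [Finite Γ] (hd : 0 < d) (hMpos : 0 < M) : Finite (tildeGroup N X M) := by
  rw [(tildePr N X M).finite_iff_finite_ker_range]
  refine ⟨?_, inferInstance⟩
  haveI : NeZero (d * M) := ⟨(Nat.mul_pos hd hMpos).ne'⟩
  let j : (tildePr N X M).ker → rootsOfUnity (d * M) ℂ := fun a =>
    ⟨tildeMu N X M ⟨a.1, ker_le_tildeN N X M a.2⟩, by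
      rw [mem_rootsOfUnity]
      exact tildeMu_pow_of_mem_ker N X M a.2⟩
  apply Finite.of_injective j
  intro a b hab
  have h1 : tildeMu N X M ⟨a.1, ker_le_tildeN N X M a.2⟩
      = tildeMu N X M ⟨b.1, ker_le_tildeN N X M b.2⟩ := congrArg Subtype.val hab
  apply Subtype.ext
  apply Subtype.ext
  apply Prod.ext
  · have ha := a.2
    have hb := b.2
    rw [MonoidHom.mem_ker] at ha hb
    exact ha.trans hb.symm
  · rw [tilde_snd_of_mem_ker N X M a.2, tilde_snd_of_mem_ker N X M b.2, h1]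

variable (hM : ∀ n : N, n ^ M = 1)

/-- Commutators with elements over `N` lie in the image of `N`. -/
theorem tilde_comm_mem_range (x : tildeGroup N X M) {a : tildeGroup N X M}
    (ha : a ∈ tildeN N X M) : x * a * x⁻¹ * a⁻¹ ∈ (tildeIota N X M hM).range := by
  set i := tildeIota N X M hM ⟨tildePr N X M a, ha⟩ with hi
  set z := a * i⁻¹ with hz
  have hzker : z ∈ (tildePr N X M).ker := by
    rw [MonoidHom.mem_ker, hz, map_mul, map_inv, hi, tildePr_iota]
    exact mul_inv_cancel _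
  have hzc : ∀ b, z * b = b * z := tilde_ker_central N X M hzker
  have haz : a = z * i := by rw [hz]; group
  have h1 : x * a * x⁻¹ * a⁻¹ = x * i * x⁻¹ * i⁻¹ := by
    rw [haz]
    have e1 : x * (z * i) * x⁻¹ * (z * i)⁻¹ = (x * z) * (i * x⁻¹ * i⁻¹) * z⁻¹ := by group
    rw [e1, ← hzc x, mul_assoc z, mul_assoc z, hzc]
    group
  rw [h1]
  haveI := tildeIota_range_normal N X M hM
  have h2 : x * i * x⁻¹ ∈ (tildeIota N X M hM).range :=
    (tildeIota_range_normal N X M hM).conj_mem i ⟨_, rfl⟩ x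
  exact Subgroup.mul_mem _ h2 (Subgroup.inv_mem _ ⟨_, rfl⟩)

theorem tildeIota_range_le : (tildeIota N X M hM).range ≤ tildeN N X M := by
  rintro _ ⟨n, rfl⟩
  exact tildeIota_mem_tildeN N X M hM n

/-- `tildeMu` is trivial on the image of `N`. -/
theorem tildeMu_of_mem_range (a : tildeN N X M) (ha : (a : tildeGroup N X M) ∈ (tildeIota N X M hM).range) :
    tildeMu N X M a = 1 := by
  obtain ⟨n, hn⟩ := ha
  have : a = ⟨tildeIota N X M hM n, tildeIota_mem_tildeN N X M hM n⟩ := Subtype.ext hn.symm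
  rw [this]
  exact tildeMu_iota N X M hM n

end Cfsg.Agent.Lib.Helper8.CX
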