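import Mathlib
import Cfsg.Agent.Lib.Helper8.CX9
import Cfsg.Agent.Lib.Helper8.CX2
import Cfsg.Agent.S0856
import Cfsg.Agent.S0146
import Cfsg.Agent.S0161

/-!
# Descending characters from the central extension
-/

set_option autoImplicit false
set_option linter.unusedSectionVars false
set_option maxHeartbeats 800000

namespace Cfsg.Agent.Lib.Helper8.CX

open Cfsg Cfsg.Agent.Lib.Helper1 Cfsg.Agent.Lib.Helper4 Cfsg.Agent.Lib.Helper8
open scoped ComplexConjugate

universe u

variable {Γ : Type u} [Group Γ] (N : Subgroup Γ) [hN : N.Normal] {d : ℕ}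
  (X : Representation ℂ N (Fin d → ℂ)) (M : ℕ) [hX : X.IsIrreducible]
  (hM : ∀ n : N, n ^ M = 1) (G : Subgroup Γ) (hNG : N ≤ G)

include hM hNG

omit hX hM hNG in
/-- The preimage of `G`. -/
abbrev tildeG : Subgroup (tildeGroup N X M) := G.comap (tildePr N X M)

omit hX hM hNG in
/-- The projection `G̃ → G`. -/
abbrev tildePrG : tildeG N X M G →* G := (tildePr N X M).subgroupComap G

omit hX hM hNG in
theorem tildePrG_coe (a : tildeG N X M G) : ((tildePrG N X M G a : G) : Γ) = tildePr N X M a.1 := rfl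

omit hX hM in
theorem tildeN_le_tildeG : tildeN N X M ≤ tildeG N X M G := fun _ ha => hNG ha

omit hX in
/-- `ι` with values in `G̃`. -/
noncomputable def tildeIotaG : N →* tildeG N X M G :=
  (tildeIota N X M hM).codRestrict (tildeG N X M G) (fun n => hNG n.2)

omit hX in
theorem tildeIotaG_coe (n : N) : (tildeIotaG N X M hM G hNG n : tildeGroup N X M) = tildeIota N X M hM n :=
  rfl

/-- The restriction of the tautological representation to `G̃` is irreducible. -/
theorem tildeRep_restrict_irreducible :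
    Representation.IsIrreducible (((tildeRep N X M).comp (tildeG N X M G).subtype)
      : Representation ℂ (tildeG N X M G) (Fin d → ℂ)) := by
  apply isIrreducible_of_comp _ (tildeIotaG N X M hM G hNG)
  have : (((tildeRep N X M).comp (tildeG N X M G).subtype).comp (tildeIotaG N X M hM G hNG)
      : Representation ℂ N (Fin d → ℂ)) = X := by
    ext n : 1
    exact tildeRep_iota N X M hM n
  rw [this]
  exact hX

theorem exists_descent [Finite Γ] [hfin : Finite (tildeGroup N X M)]
    (hsurj : Function.Surjective (tildePr N X M))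
    (β : tildeG N X M G → ℂ) (hβ : IsIrrCharacter (tildeG N X M G) β)
    (hβN : ∀ (a : tildeG N X M G) (ha : a.1 ∈ tildeN N X M),
      β a = β 1 * (((tildeMu N X M ⟨a.1, ha⟩)⁻¹ : ℂˣ) : ℂ)) :
    ∃ χ : G → ℂ, IsIrrCharacter G χ ∧
      ∀ a : tildeG N X M G, χ (tildePrG N X M G a) = β a * (tildeRep N X M).character a.1 := by
  classical
  haveI : Fintype (tildeG N X M G) := Fintype.ofFinite _
  obtain ⟨N₀, hN₀⟩ : ∃ N₀ : Subgroup (tildeG N X M G),
      N₀ = (tildeIota N X M hM).range.subgroupOf (tildeG N X M G) := ⟨_, rfl⟩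
  haveI hrn := tildeIota_range_normal N X M hM
  haveI hN₀n : N₀.Normal := by rw [hN₀]; infer_instance
  haveI : Fintype N₀ := Fintype.ofFinite _
  let ρE : Representation ℂ (tildeG N X M G) (Fin d → ℂ) :=
    (tildeRep N X M).comp (tildeG N X M G).subtype
  have hρE : ρE.IsIrreducible := tildeRep_restrict_irreducible N X M hM G hNG
  let ι'' : N →* N₀ := (tildeIotaG N X M hM G hNG).codRestrict N₀ (fun n => by
    rw [hN₀, Subgroup.mem_subgroupOf]
    exact ⟨n, rfl⟩)
  have hρN : Representation.IsIrreducible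
      ((ρE.comp N₀.subtype) : Representation ℂ N₀ (Fin d → ℂ)) := by
    apply isIrreducible_of_comp _ ι''
    have : ((ρE.comp N₀.subtype).comp ι'' : Representation ℂ N (Fin d → ℂ)) = X := by
      ext n : 1
      exact tildeRep_iota N X M hM n
    rw [this]
    exact hX
  let χ : tildeG N X M G → ℂ := fun a => (tildeRep N X M).character a.1
  have hχ : IsIrrCharacter (tildeG N X M G) χ := ⟨d, ρE, hρE, rfl⟩
  let ϑ : N₀ → ℂ := fun n => χ n
  have hϑ : IsIrrCharacter N₀ ϑ := ⟨d, ρE.comp N₀.subtype, hρN, rfl⟩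
  have hχcl : IsClassFunction (tildeG N X M G) χ := isClassFunction_of_isCharacter (isCharacter_of_irr hχ)
  have hbij := Cfsg.Agent.S0856.result N₀ (fun _ => (1 : ℂ)) ϑ
    Cfsg.Agent.S0161.isIrrCharacter_one hϑ (fun _ _ => rfl)
    (fun g n => hχcl (n : tildeG N X M G) g)
    (by
      have : (fun _ : N₀ => (1 : ℂ)) * ϑ = ϑ := by
        funext n
        simp
      rw [this]
      exact hϑ) χ hχ (fun _ => rfl)
  -- `β` lies over the trivial character of `N₀`
  have hβN₀ : ∀ n : N₀, β n = β 1 := by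
    intro n
    have hN₀mem : ∀ x : tildeG N X M G, x ∈ N₀ →
        (x : tildeGroup N X M) ∈ (tildeIota N X M hM).range := by
      intro x hx
      rw [hN₀] at hx
      exact Subgroup.mem_subgroupOf.1 hx
    have hmem : ((n : tildeG N X M G) : tildeGroup N X M) ∈ (tildeIota N X M hM).range :=
      hN₀mem n n.2
    have hmemN : ((n : tildeG N X M G) : tildeGroup N X M) ∈ tildeN N X M :=
      tildeIota_range_le N X M hM hmem
    rw [hβN (n : tildeG N X M G) hmemN, tildeMu_of_mem_range N X M hM ⟨_, hmemN⟩ hmem]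
    simp
  have hne : classInner (indFun N₀ (fun _ => (1 : ℂ))) β ≠ 0 := by
    rw [Cfsg.Agent.S0146.result N₀ (fun _ => (1 : ℂ)) β
      (isClassFunction_of_isCharacter (isCharacter_of_irr hβ))]
    have h1 : (fun h : N₀ => β h) = (β 1) • (fun _ : N₀ => (1 : ℂ)) := by
      funext n
      rw [hβN₀ n]
      simp
    rw [h1, classInner_smul_right, classInner_irr_self Cfsg.Agent.S0161.isIrrCharacter_one,
      mul_one]
    intro h0
    exact irr_apply_one_ne_zero hβ ((map_eq_zero (starRingEnd ℂ)).1 h0)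
  have hξ : IsIrrCharacter (tildeG N X M G) (β * χ) := (hbij.mapsTo ⟨hβ, hne⟩).1
  -- deflation
  have hsurjG : Function.Surjective (tildePrG N X M G) :=
    MonoidHom.subgroupComap_surjective_of_surjective _ _ hsurj
  obtain ⟨ψ, hψ, hψv⟩ := exists_deflation_along (tildePrG N X M G) hsurjG hξ (by
    intro a ha
    rw [MonoidHom.mem_ker] at ha
    have h1 : tildePr N X M a.1 = 1 := congrArg (fun y : G => (y : Γ)) ha
    have hker : a.1 ∈ (tildePr N X M).ker := h1
    obtain ⟨h, hs⟩ := tildeRep_of_mem_ker N X M hker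
    show β a * χ a = β 1 * χ 1
    have hχa : χ a = ((tildeMu N X M ⟨a.1, h⟩ : ℂˣ) : ℂ) * d := by
      show (tildeRep N X M).character a.1 = _
      unfold Representation.character
      rw [hs, map_smul, smul_eq_mul, Module.End.one_eq_id, LinearMap.trace_id,
        Module.finrank_fin_fun]
    have hχ1 : χ 1 = d := by
      show (tildeRep N X M).character (1 : tildeG N X M G).1 = _
      have : ((1 : tildeG N X M G) : tildeGroup N X M) = 1 := rfl
      rw [this, Representation.char_one, Module.finrank_fin_fun]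
    rw [hχa, hχ1, hβN a h]
    have hu : (((tildeMu N X M ⟨a.1, h⟩)⁻¹ : ℂˣ) : ℂ) * ((tildeMu N X M ⟨a.1, h⟩ : ℂˣ) : ℂ) = 1 := by
      rw [← Units.val_mul, inv_mul_cancel, Units.val_one]
    linear_combination (β 1 * (d : ℂ)) * hu)
  exact ⟨ψ, hψ, hψv⟩

end Cfsg.Agent.Lib.Helper8.CX
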