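import Mathlib
import Cfsg.Agent.Lib.Helper8.CX1
import Cfsg.Agent.Lib.Helper8.CX2
import Cfsg.Agent.Lib.Helper8.GL21
import Cfsg.Agent.Lib.Lead.HallCount2

/-!
# Splitting off the central part prime to the index
-/

set_option autoImplicit false
set_option linter.unusedSectionVars false

namespace Cfsg.Agent.Lib.Helper8.CX

open Cfsg Cfsg.Agent.Lib.Helper1 Cfsg.Agent.Lib.Helper4 Cfsg.Agent.Lib.Helper8
open scoped ComplexConjugate

universe u

variable {Γ : Type u} [Group Γ] [Finite Γ]

omit [Finite Γ] in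
theorem card_subgroupOf_le {A L : Subgroup Γ} (h : A ≤ L) :
    Nat.card (A.subgroupOf L) = Nat.card A :=
  Nat.card_congr (Subgroup.subgroupOfEquivOfLe h).toEquiv

/-- If `Z ≤ G` is central in `Γ` and `G` is normal in `Γ`, then `G = H B` with `H` normal in `Γ`
of order involving only the primes dividing `|G : Z|`, and `B ≤ Z` of order prime to `|H|`. -/
theorem exists_central_splitting (G Z : Subgroup Γ) [hG : G.Normal] (hZG : Z ≤ G)
    (hZc : ∀ z ∈ Z, ∀ x : Γ, z * x = x * z) :
    ∃ H B : Subgroup Γ, H.Normal ∧ H ≤ G ∧ B ≤ Z ∧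
      (∀ g ∈ G, ∃ h ∈ H, ∃ z ∈ B, g = h * z) ∧
      Nat.card H * Nat.card B = Nat.card G ∧
      (Nat.card H).Coprime (Nat.card B) ∧
      (∀ q : ℕ, q.Prime → q ∣ Nat.card H → q ∣ Z.relIndex G) := by
  classical
  set m := Z.relIndex G with hm
  obtain ⟨a, b, hab, ha, hb⟩ := exists_pi_split m (Nat.card Z) Nat.card_pos
  haveI : Group.IsSolvable Z := Group.isSolvable_of_comm (fun x y => Subtype.ext (hZc x x.2 y))
  have hab' : a.Coprime b := coprime_of_primes_dvd ha hb.symm
  obtain ⟨B₀, hB₀⟩ := Cfsg.Agent.Lib.Lead.HallCount.exists_hall (G := Z) b a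
    (by rw [hab, mul_comm]) hab'.symm
  set B : Subgroup Γ := B₀.map Z.subtype with hB
  have hBZ : B ≤ Z := Subgroup.map_subtype_le B₀
  have hBG : B ≤ G := hBZ.trans hZG
  have hBcard : Nat.card B = b := by
    rw [hB, Subgroup.card_subtype]
    exact hB₀
  set B' : Subgroup G := B.subgroupOf G with hB'
  haveI hB'n : B'.Normal := by
    constructor
    intro n hn g
    rw [hB', Subgroup.mem_subgroupOf] at hn ⊢
    have h1 : ((g * n * g⁻¹ : G) : Γ) = (n : Γ) := by
      push_cast
      rw [← hZc n (hBZ hn) g]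
      group
    rw [h1]
    exact hn
  have hB'card : Nat.card B' = b := by rw [hB', card_subgroupOf_le hBG, hBcard]
  have hGcard : Nat.card G = m * (a * b) := by
    have h1 := Subgroup.index_mul_card (Z.subgroupOf G)
    rw [card_subgroupOf_le hZG, hab] at h1
    rw [← h1]
    rfl
  have hB'idx : B'.index = m * a := by
    have h1 := Subgroup.index_mul_card B'
    rw [hB'card, hGcard] at h1
    have hbpos : 0 < b := by
      rw [← hBcard]
      exact Nat.card_pos
    have h2 : B'.index * b = (m * a) * b := by rw [h1]; ring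
    exact Nat.eq_of_mul_eq_mul_right hbpos h2
  have hcopma : (m * a).Coprime b := Nat.Coprime.mul_left hb.symm hab'
  have hcopB' : (Nat.card B').Coprime B'.index := by
    rw [hB'card, hB'idx]
    exact hcopma.symm
  obtain ⟨H', hH'⟩ := Subgroup.exists_left_complement'_of_coprime hcopB'
  have hH'card : Nat.card H' = m * a := by
    have h1 := hH'.card_mul_card
    rw [hB'card, hGcard] at h1
    have hbpos : 0 < b := by
      rw [← hBcard]
      exact Nat.card_pos
    have h2 : Nat.card H' * b = (m * a) * b := by rw [h1]; ring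
    exact Nat.eq_of_mul_eq_mul_right hbpos h2
  have hdecomp : ∀ g : G, ∃ h ∈ H', ∃ z ∈ B', g = h * z := by
    intro g
    obtain ⟨⟨h, z⟩, hhz⟩ := hH'.2 g
    exact ⟨h, h.2, z, z.2, hhz.symm⟩
  have hB'c : ∀ z ∈ B', ∀ x : G, z * x = x * z := by
    intro z hz x
    apply Subtype.ext
    push_cast
    exact hZc z (hBZ (Subgroup.mem_subgroupOf.1 hz)) x
  haveI hH'n : H'.Normal := by
    constructor
    intro n hn g
    obtain ⟨h, hh, z, hz, rfl⟩ := hdecomp g
    have h1 : h * z * n * (h * z)⁻¹ = h * n * h⁻¹ := by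
      rw [mul_inv_rev, mul_assoc h z n, hB'c z hz n]
      group
    rw [h1]
    exact H'.mul_mem (H'.mul_mem hh hn) (H'.inv_mem hh)
  have hH'idx : H'.index = b := by
    have h1 := Subgroup.index_mul_card H'
    rw [hH'card, hGcard] at h1
    have hpos : 0 < m * a := by
      rw [← hH'card]
      exact Nat.card_pos
    have h2 : H'.index * (m * a) = b * (m * a) := by rw [h1]; ring
    exact Nat.eq_of_mul_eq_mul_right hpos h2
  set H : Subgroup Γ := H'.map G.subtype with hH
  have hHG : H ≤ G := Subgroup.map_subtype_le H'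
  have hHcard : Nat.card H = m * a := by
    rw [hH, Subgroup.card_subtype]
    exact hH'card
  have hHn : H.Normal := by
    constructor
    intro n hn x
    obtain ⟨n', hn', rfl⟩ := hn
    have hmem : x * (n' : Γ) * x⁻¹ ∈ G := hG.conj_mem _ n'.2 x
    have hpow : (⟨x * (n' : Γ) * x⁻¹, hmem⟩ : G) ^ (m * a) = 1 := by
      apply Subtype.ext
      push_cast
      rw [conj_pow]
      have h1 : (⟨n', hn'⟩ : H') ^ (m * a) = 1 := by
        rw [← hH'card]
        exact pow_card_eq_one'
      have h2 : (n' : Γ) ^ (m * a) = 1 := by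
        have := congrArg (fun y : H' => ((y : G) : Γ)) h1
        simpa using this
      rw [h2]
      group
    have := mem_of_pow_eq_one_of_coprime (K := H') hpow (by rw [hH'idx]; exact hcopma)
    exact ⟨_, this, rfl⟩
  refine ⟨H, B, hHn, hHG, hBZ, ?_, ?_, ?_, ?_⟩
  · intro g hg
    obtain ⟨h, hh, z, hz, hgz⟩ := hdecomp ⟨g, hg⟩
    refine ⟨h, ⟨h, hh, rfl⟩, z, Subgroup.mem_subgroupOf.1 hz, ?_⟩
    have := congrArg (fun y : G => (y : Γ)) hgz
    simpa using this
  · rw [hHcard, hBcard, hGcard]
    ring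
  · rw [hHcard, hBcard]
    exact hcopma
  · intro q hq hqH
    rw [hHcard] at hqH
    rcases (Nat.Prime.dvd_mul hq).1 hqH with h | h
    · exact h
    · exact ha q hq h

end Cfsg.Agent.Lib.Helper8.CX
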