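import Mathlib
import Cfsg.Agent.S4449
import Cfsg.Agent.Lib.Helper8.CX3

/-!
# The central case: invariant characters over a central subgroup
-/

set_option autoImplicit false
set_option linter.unusedSectionVars false
set_option maxHeartbeats 800000

namespace Cfsg.Agent.Lib.Helper8.CX

open Cfsg Cfsg.Agent.Lib.Helper1 Cfsg.Agent.Lib.Helper4 Cfsg.Agent.Lib.Helper8
open scoped ComplexConjugate

universe u

variable {Γ : Type u} [Group Γ] [Fintype Γ]

/-- Extension of an irreducible character of `H` to the central product `G = H Z`. -/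
theorem exists_central_product_ext {G H Z : Subgroup Γ}
    (hHG : H ≤ G) (hZG : Z ≤ G) (hZc : ∀ z ∈ Z, ∀ x : Γ, z * x = x * z)
    (hdec : ∀ g ∈ G, ∃ h ∈ H, ∃ z ∈ Z, g = h * z)
    {β₀ : H → ℂ} (hβ₀ : IsIrrCharacter H β₀) (lam : Z →* ℂˣ)
    (hcompat : ∀ (z : Γ) (hz : z ∈ Z) (hzH : z ∈ H),
      β₀ ⟨z, hzH⟩ = β₀ 1 * ((lam ⟨z, hz⟩ : ℂˣ) : ℂ)) :
    ∃ β : G → ℂ, IsIrrCharacter G β ∧
      ∀ (h : H) (z : Z), β ⟨(h : Γ) * z, G.mul_mem (hHG h.2) (hZG z.2)⟩
        = β₀ h * ((lam z : ℂˣ) : ℂ) := by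
  classical
  let f : H × Z →* G :=
    { toFun := fun p => ⟨(p.1 : Γ) * p.2, G.mul_mem (hHG p.1.2) (hZG p.2.2)⟩
      map_one' := by
        apply Subtype.ext
        simp
      map_mul' := by
        intro p q
        apply Subtype.ext
        show ((p.1 * q.1 : H) : Γ) * ((p.2 * q.2 : Z) : Γ) = ((p.1 : Γ) * p.2) * ((q.1 : Γ) * q.2)
        push_cast
        rw [mul_assoc (p.1 : Γ) p.2, ← mul_assoc (p.2 : Γ) q.1, hZc p.2 p.2.2 q.1]
        simp only [mul_assoc] }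
  have hf : Function.Surjective f := by
    intro g
    obtain ⟨h, hh, z, hz, hg⟩ := hdec g g.2
    exact ⟨(⟨h, hh⟩, ⟨z, hz⟩), Subtype.ext hg.symm⟩
  haveI : Fintype (H × Z) := Fintype.ofFinite _
  have hψ₀ : IsIrrCharacter (H × Z) (fun p => β₀ p.1) := by
    obtain ⟨n, ρ, hirr, rfl⟩ := hβ₀
    exact ⟨n, ρ.comp (MonoidHom.fst H Z),
      isIrreducible_comp_surjective ρ hirr (MonoidHom.fst H Z) (fun h => ⟨(h, 1), rfl⟩), rfl⟩
  have hψ := isIrrCharacter_hom_mul (lam.comp (MonoidHom.snd H Z)) hψ₀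
  have hk : ∀ p ∈ f.ker, (fun p : H × Z => (((lam.comp (MonoidHom.snd H Z)) p : ℂˣ) : ℂ) * β₀ p.1) p
      = (fun p : H × Z => (((lam.comp (MonoidHom.snd H Z)) p : ℂˣ) : ℂ) * β₀ p.1) 1 := by
    intro p hp
    rw [MonoidHom.mem_ker] at hp
    have h1 : (p.1 : Γ) * p.2 = 1 := congrArg (fun y : G => (y : Γ)) hp
    have h2 : (p.1 : Γ) = (p.2 : Γ)⁻¹ := eq_inv_of_mul_eq_one_left h1
    have h3 : (p.1 : Γ) ∈ Z := by rw [h2]; exact Z.inv_mem p.2.2
    have h4 : p.1 = ⟨(p.1 : Γ), p.1.2⟩ := rfl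
    show ((lam p.2 : ℂˣ) : ℂ) * β₀ p.1 = ((lam (1 : H × Z).2 : ℂˣ) : ℂ) * β₀ (1 : H × Z).1
    rw [h4, hcompat (p.1 : Γ) h3 p.1.2]
    have h5 : p.2 * ⟨(p.1 : Γ), h3⟩ = 1 := by
      apply Subtype.ext
      show (p.2 : Γ) * (p.1 : Γ) = 1
      rw [h2]
      exact mul_inv_cancel _
    have h6 : ((lam p.2 : ℂˣ) : ℂ) * ((lam ⟨(p.1 : Γ), h3⟩ : ℂˣ) : ℂ) = 1 := by
      rw [← Units.val_mul, ← map_mul, h5, map_one, Units.val_one]
    simp only [Prod.snd_one, Prod.fst_one, map_one, Units.val_one, one_mul]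
    linear_combination (β₀ 1) * h6
  obtain ⟨β, hβ, hβf⟩ := exists_deflation_along f hf hψ hk
  refine ⟨β, hβ, ?_⟩
  intro h z
  have := hβf (h, z)
  rw [mul_comm (β₀ h)]
  exact this

/-- **The central case.** -/
theorem exists_inv_over_central (G Z : Subgroup Γ) [hG : G.Normal] [Fintype G] (hZG : Z ≤ G)
    (hZc : ∀ z ∈ Z, ∀ x : Γ, z * x = x * z)
    (hcop : (G.index).Coprime (Z.relIndex G)) (hsolv : Group.IsSolvable (Γ ⧸ G))
    (lam : Z →* ℂˣ) :
    ∃ β : IrrCharacter G,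
      (∀ z : Z, (β : G → ℂ) ⟨z, hZG z.2⟩ = (β : G → ℂ) 1 * ((lam z : ℂˣ) : ℂ)) ∧
      ∀ (x : Γ) (g : G), (β : G → ℂ) ⟨x * g * x⁻¹, hG.conj_mem g g.2 x⟩ = (β : G → ℂ) g := by
  classical
  obtain ⟨H, B, hHn, hHG, hBZ, hdec, hcard, hcopHB, hprimes⟩ :=
    exists_central_splitting G Z hZG hZc
  haveI := hHn
  obtain ⟨S, hsup, hSprimes⟩ := Cfsg.Agent.Lib.Helper8.MS.exists_min_supplement H
  -- the index of `H`
  have hHidx : H.index = G.index * Nat.card B := by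
    have h1 := Subgroup.index_mul_card H
    have h2 := Subgroup.index_mul_card G
    rw [← hcard] at h2
    have hpos : 0 < Nat.card H := Nat.card_pos
    have h3 : H.index * Nat.card H = (G.index * Nat.card B) * Nat.card H := by
      rw [h1, ← h2]; ring
    exact Nat.eq_of_mul_eq_mul_right hpos h3
  have hcopHG : (Nat.card H).Coprime G.index := coprime_of_primes_dvd hprimes hcop.symm
  have hcopHidx : (H.index).Coprime (Nat.card H) := by
    rw [hHidx]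
    exact Nat.Coprime.mul_left hcopHG.symm hcopHB.symm
  have hcopHS : (Nat.card H).Coprime (Nat.card S) :=
    (coprime_of_primes_dvd hSprimes hcopHidx).symm
  have hSH : S ⊓ H = ⊥ := (Subgroup.disjoint_of_coprime_natCard hcopHS.symm).eq_bot
  -- `Γ ⧸ H` is solvable
  haveI : Group.IsSolvable B :=
    Group.isSolvable_of_comm (fun x y => Subtype.ext (hZc x (hBZ x.2) y))
  haveI := hsolv
  have hsolvH : Group.IsSolvable (Γ ⧸ H) := by
    let f₁ : B →* Γ ⧸ H := (QuotientGroup.mk' H).comp B.subtype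
    let g₁ : Γ ⧸ H →* Γ ⧸ G := QuotientGroup.map H G (MonoidHom.id Γ) (fun x hx => hHG hx)
    apply Group.isSolvable_of_ker_le_range f₁ g₁
    intro q hq
    obtain ⟨x, rfl⟩ := QuotientGroup.mk_surjective q
    rw [MonoidHom.mem_ker] at hq
    have h1 : g₁ (QuotientGroup.mk x) = QuotientGroup.mk x := rfl
    rw [h1, QuotientGroup.eq_one_iff] at hq
    obtain ⟨h, hh, z, hz, rfl⟩ := hdec x hq
    refine ⟨⟨z, hz⟩, ?_⟩
    show (QuotientGroup.mk z : Γ ⧸ H) = QuotientGroup.mk (h * z)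
    rw [QuotientGroup.eq]
    have : z⁻¹ * (h * z) = h := by
      rw [← hZc z (hBZ hz) h]
      group
    rw [this]
    exact hh
  haveI : Group.IsSolvable S := by
    haveI := hsolvH
    let φ : S →* Γ ⧸ H := (QuotientGroup.mk' H).comp S.subtype
    apply Group.isSolvable_of_isSolvable_injective (f := φ)
    rw [injective_iff_map_eq_one]
    intro s hs
    have h1 : (s : Γ) ∈ H := (QuotientGroup.eq_one_iff (s : Γ)).1 hs
    have h2 : (s : Γ) ∈ S ⊓ H := ⟨s.2, h1⟩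
    rw [hSH, Subgroup.mem_bot] at h2
    exact Subtype.ext h2
  -- the coprime theorem
  haveI : Fintype H := Fintype.ofFinite _
  haveI : Fintype (Z ⊓ H : Subgroup Γ) := Fintype.ofFinite _
  let lam₀ : (Z ⊓ H : Subgroup Γ) →* ℂˣ := lam.comp (Subgroup.inclusion inf_le_left)
  have hcentN : ∀ t : Γ, ∀ b ∈ (Z ⊓ H : Subgroup Γ), t * b = b * t :=
    fun t b hb => (hZc b hb.1 t).symm
  obtain ⟨χ, hχ1, hχ2⟩ := Cfsg.Agent.S4449.result H S (Z ⊓ H)
    (fun s _ g hg => hHn.conj_mem g hg s) inf_le_right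
    (fun g _ n hn => by
      have : g * n * g⁻¹ = n := by rw [hcentN g n hn]; group
      rw [this]; exact hn)
    (fun g _ n hn => by
      have : g * n * g⁻¹ = n := by rw [hcentN g n hn]; group
      rw [this]; exact hn)
    hcopHS inferInstance ⟨fun n => ((lam₀ n : ℂˣ) : ℂ), isIrrCharacter_of_hom lam₀⟩
    (invS_of_central (fun t _ b hb => hcentN t b hb) _)
  -- compatibility
  have hcompat : ∀ (z : Γ) (hz : z ∈ Z) (hzH : z ∈ H),
      (χ : H → ℂ) ⟨z, hzH⟩ = (χ : H → ℂ) 1 * ((lam ⟨z, hz⟩ : ℂˣ) : ℂ) := by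
    intro z hz hzH
    exact restrict_linear_of_invS (G := H) (N := Z ⊓ H) inf_le_right
      (normalizes_of_central (fun t _ b hb => hcentN t b hb)) lam₀
      (invS_of_central (fun t _ b hb => hcentN t b hb) _) χ.2 hχ1 ⟨z, hz, hzH⟩
  -- invariance under `Γ`
  have hχinv := inv_top_of_supplement hsup
    (isClassFunction_of_isCharacter (isCharacter_of_irr χ.2)) hχ2
  obtain ⟨β, hβ, hβv⟩ := exists_central_product_ext hHG hZG hZc
    (fun g hg => by
      obtain ⟨h, hh, z, hz, rfl⟩ := hdec g hg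
      exact ⟨h, hh, z, hBZ hz, rfl⟩) χ.2 lam hcompat
  have hβ1 : β 1 = (χ : H → ℂ) 1 := by
    have := hβv 1 1
    simp only [map_one, Units.val_one, mul_one] at this
    rw [← this]
    congr 1
    apply Subtype.ext
    simp
  refine ⟨⟨β, hβ⟩, ?_, ?_⟩
  · intro z
    have := hβv 1 z
    show β _ = β 1 * _
    rw [hβ1, ← this]
    congr 1
    apply Subtype.ext
    simp
  · intro x g
    obtain ⟨h, hh, z, hz, hgz⟩ := hdec g g.2
    have h1 : g = ⟨((⟨h, hh⟩ : H) : Γ) * ((⟨z, hBZ hz⟩ : Z) : Γ),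
        G.mul_mem (hHG hh) (hZG (hBZ hz))⟩ := Subtype.ext hgz
    have h2 : (⟨x * g * x⁻¹, hG.conj_mem g g.2 x⟩ : G)
        = ⟨((⟨x * h * x⁻¹, hHn.conj_mem h hh x⟩ : H) : Γ) * ((⟨z, hBZ hz⟩ : Z) : Γ),
          G.mul_mem (hHG (hHn.conj_mem h hh x)) (hZG (hBZ hz))⟩ := by
      apply Subtype.ext
      show x * (g : Γ) * x⁻¹ = x * h * x⁻¹ * z
      have hzx : z * x⁻¹ = x⁻¹ * z := hZc z (hBZ hz) x⁻¹
      rw [hgz, mul_assoc x (h * z), mul_assoc h z, hzx]
      group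
    show β _ = β g
    rw [h2, hβv, h1, hβv]
    congr 1
    exact hχinv x ⟨h, hh⟩

end Cfsg.Agent.Lib.Helper8.CX
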