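import Mathlib
import Cfsg.Agent.Lib.Helper8.CX4
import Cfsg.Agent.Lib.Helper1.LinearChar

/-!
# The relative central case: `N / N₀` central in `Γ / N₀`
-/

set_option autoImplicit false
set_option linter.unusedSectionVars false
set_option maxHeartbeats 800000

namespace Cfsg.Agent.Lib.Helper8.CX

open Cfsg Cfsg.Agent.Lib.Helper1 Cfsg.Agent.Lib.Helper4 Cfsg.Agent.Lib.Helper8
open scoped ComplexConjugate

universe u

variable {Γ : Type u} [Group Γ] [Fintype Γ]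

/-- **The relative central case.**  If `N₀ ≤ N ≤ G` with `N / N₀` central in `Γ / N₀`, then every
linear character `μ` of `N` trivial on `N₀` lies under a `Γ`-invariant irreducible character
of `G`. -/
theorem exists_inv_over_rel_central (G N N₀ : Subgroup Γ) [hG : G.Normal] [hN₀ : N₀.Normal]
    [Fintype G] (hN₀N : N₀ ≤ N) (hNG : N ≤ G)
    (hcent : ∀ x : Γ, ∀ a ∈ N, x * a * x⁻¹ * a⁻¹ ∈ N₀)
    (hcop : (G.index).Coprime (N.relIndex G)) (hsolv : Group.IsSolvable (Γ ⧸ G))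
    (μ : N →* ℂˣ) (hμ : ∀ a : N, (a : Γ) ∈ N₀ → μ a = 1) :
    ∃ β : IrrCharacter G,
      (∀ a : N, (β : G → ℂ) ⟨a, hNG a.2⟩ = (β : G → ℂ) 1 * ((μ a : ℂˣ) : ℂ)) ∧
      ∀ (x : Γ) (g : G), (β : G → ℂ) ⟨x * g * x⁻¹, hG.conj_mem g g.2 x⟩ = (β : G → ℂ) g := by
  classical
  let π : Γ →* Γ ⧸ N₀ := QuotientGroup.mk' N₀
  have hπs : Function.Surjective π := QuotientGroup.mk'_surjective N₀
  have hker : π.ker = N₀ := QuotientGroup.ker_mk' N₀
  set G' : Subgroup (Γ ⧸ N₀) := G.map π with hG'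
  set Z' : Subgroup (Γ ⧸ N₀) := N.map π with hZ'
  haveI hG'n : G'.Normal := Subgroup.Normal.map hG π hπs
  have hZG' : Z' ≤ G' := Subgroup.map_mono hNG
  have hZc : ∀ z ∈ Z', ∀ x : Γ ⧸ N₀, z * x = x * z := by
    rintro _ ⟨a, ha, rfl⟩ x
    obtain ⟨y, rfl⟩ := hπs x
    rw [← map_mul, ← map_mul]
    show (QuotientGroup.mk (a * y) : Γ ⧸ N₀) = QuotientGroup.mk (y * a)
    rw [QuotientGroup.eq]
    have h1 := hcent y⁻¹ a⁻¹ (N.inv_mem ha)
    have h3 : y⁻¹ * a⁻¹ * y⁻¹⁻¹ * a⁻¹⁻¹ = (a * y)⁻¹ * (y * a) := by group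
    rw [h3] at h1
    exact h1
  have hidx : G'.index = G.index := by
    apply Subgroup.index_map_eq _ hπs
    rw [hker]
    exact hN₀N.trans hNG
  have hrel : Z'.relIndex G' = N.relIndex G := by
    rw [hZ', hG', Subgroup.relIndex_map_map, hker, sup_eq_left.2 hN₀N,
      sup_eq_left.2 (hN₀N.trans hNG)]
  have hsolv' : Group.IsSolvable ((Γ ⧸ N₀) ⧸ G') := by
    haveI := hsolv
    let q : Γ ⧸ G →* (Γ ⧸ N₀) ⧸ G' :=
      QuotientGroup.map G G' π (fun x hx => Subgroup.mem_map_of_mem π hx)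
    apply Group.isSolvable_of_surjective (f := q)
    intro y
    obtain ⟨y', rfl⟩ := QuotientGroup.mk_surjective y
    obtain ⟨x, rfl⟩ := hπs y'
    exact ⟨QuotientGroup.mk x, rfl⟩
  -- the linear character of `Z'`
  let fN : N →* Z' := π.subgroupMap N
  have hfNs : Function.Surjective fN := π.subgroupMap_surjective N
  have hμirr : IsIrrCharacter N (fun a => ((μ a : ℂˣ) : ℂ)) := isIrrCharacter_of_hom μ
  obtain ⟨ψ, hψ, hψμ⟩ := exists_deflation_along fN hfNs hμirr (by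
    intro a ha
    rw [MonoidHom.mem_ker] at ha
    have h1 : π (a : Γ) = 1 := congrArg (fun y : Z' => (y : Γ ⧸ N₀)) ha
    have h2 : (a : Γ) ∈ N₀ := by
      rw [← hker]
      exact h1
    show ((μ a : ℂˣ) : ℂ) = ((μ 1 : ℂˣ) : ℂ)
    rw [hμ a h2, map_one])
  have hψ1 : ψ 1 = 1 := by
    have := hψμ 1
    rw [map_one] at this
    rw [this, map_one, Units.val_one]
  obtain ⟨lam, hlam⟩ := exists_hom_of_isIrrCharacter hψ hψ1
  haveI : Fintype (Γ ⧸ N₀) := Fintype.ofFinite _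
  haveI : Fintype G' := Fintype.ofFinite _
  obtain ⟨β', hβ'1, hβ'2⟩ := exists_inv_over_central G' Z' hZG' hZc
    (by rw [hidx, hrel]; exact hcop) hsolv' lam
  let fG : G →* G' := π.subgroupMap G
  have hfGs : Function.Surjective fG := π.subgroupMap_surjective G
  have hβ : IsIrrCharacter G (fun g => (β' : G' → ℂ) (fG g)) := by
    obtain ⟨n, ρ, hirr, hρ⟩ := β'.2
    refine ⟨n, ρ.comp fG, isIrreducible_comp_surjective ρ hirr fG hfGs, ?_⟩
    rw [← hρ]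
    rfl
  refine ⟨⟨fun g => (β' : G' → ℂ) (fG g), hβ⟩, ?_, ?_⟩
  · intro a
    show (β' : G' → ℂ) (fG ⟨a, hNG a.2⟩) = (β' : G' → ℂ) (fG 1) * ((μ a : ℂˣ) : ℂ)
    have h1 : fG ⟨a, hNG a.2⟩ = ⟨(fN a : Γ ⧸ N₀), hZG' (fN a).2⟩ := rfl
    rw [h1, hβ'1 (fN a), map_one]
    have h2 : ((lam (fN a) : ℂˣ) : ℂ) = ψ (fN a) := by rw [hlam]
    rw [h2, hψμ a]
  · intro x g
    show (β' : G' → ℂ) (fG ⟨x * g * x⁻¹, hG.conj_mem g g.2 x⟩) = (β' : G' → ℂ) (fG g)
    have h1 : fG ⟨x * g * x⁻¹, hG.conj_mem g g.2 x⟩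
        = ⟨π x * (fG g : Γ ⧸ N₀) * (π x)⁻¹, hG'n.conj_mem _ (fG g).2 (π x)⟩ := by
      apply Subtype.ext
      show π (x * g * x⁻¹) = π x * π g * (π x)⁻¹
      rw [map_mul, map_mul, map_inv]
    rw [h1]
    exact hβ'2 (π x) (fG g)

end Cfsg.Agent.Lib.Helper8.CX
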