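import Mathlib
import Cfsg.Agent.Lib.Helper8.CX10
import Cfsg.Agent.Lib.Helper8.CX5

/-!
# Invariant constituents over coprime layers: the case of a solvable upper layer
-/

set_option autoImplicit false
set_option linter.unusedSectionVars false
set_option maxHeartbeats 1000000

namespace Cfsg.Agent.Lib.Helper8.CX

open Cfsg Cfsg.Agent.Lib.Helper1 Cfsg.Agent.Lib.Helper4 Cfsg.Agent.Lib.Helper8
open scoped ComplexConjugate

universe u

variable {Γ : Type u} [Group Γ] [Fintype Γ]

/-- The case of `S4450` in which `Γ/G` is solvable. -/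
theorem exists_inv_of_solvable_upper (G N : Subgroup Γ) [hG : G.Normal] [hN : N.Normal]
    [Fintype G] [Fintype N] (hNG : N ≤ G) (hcop : (G.index).Coprime (N.relIndex G))
    (hsolv : Group.IsSolvable (Γ ⧸ G)) (θ : Cfsg.IrrCharacter N)
    (hinv : ∀ (x : Γ) (n : N), (θ : N → ℂ) ⟨x * n * x⁻¹, hN.conj_mem n n.2 x⟩ = (θ : N → ℂ) n) :
    ∃ χ : Cfsg.IrrCharacter G,
      Cfsg.classInner (fun n : N => (χ : G → ℂ) ⟨n, hNG n.2⟩) (θ : N → ℂ) ≠ 0 ∧
      ∀ (x : Γ) (g : G), (χ : G → ℂ) ⟨x * g * x⁻¹, hG.conj_mem g g.2 x⟩ = (χ : G → ℂ) g := by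
  classical
  obtain ⟨d, X, hXirr, hXθ⟩ := θ.2
  haveI := hXirr
  obtain ⟨M, hMdef⟩ : ∃ M : ℕ, M = Nat.card N := ⟨_, rfl⟩
  have hM : ∀ n : N, n ^ M = 1 := by
    intro n
    rw [hMdef]
    exact pow_card_eq_one'
  have hMpos : 0 < M := by
    rw [hMdef]
    exact Nat.card_pos
  have hd : 0 < d := by
    haveI := nontrivial_of_irreducible X
    have := Module.finrank_pos (R := ℂ) (M := Fin d → ℂ)
    rwa [Module.finrank_fin_fun] at this
  have hinvX : ∀ (x : Γ) (n : N),
      X.character ⟨x * n * x⁻¹, hN.conj_mem n n.2 x⟩ = X.character n := by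
    intro x n
    rw [hXθ]
    exact hinv x n
  have hsurj := tildePr_surjective N X M hd hinvX
  haveI hfin : Finite (tildeGroup N X M) := tilde_finite N X M hd hMpos
  haveI : Fintype (tildeGroup N X M) := Fintype.ofFinite _
  haveI : Fintype (tildeG N X M G) := Fintype.ofFinite _
  haveI hrn : (tildeIota N X M hM).range.Normal := tildeIota_range_normal N X M hM
  haveI hGn : (tildeG N X M G).Normal := by
    unfold tildeG
    infer_instance
  have hcop' : ((tildeG N X M G).index).Coprime ((tildeN N X M).relIndex (tildeG N X M G)) := by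
    have h1 : (tildeG N X M G).index = G.index := Subgroup.index_comap_of_surjective G hsurj
    have h2 : (tildeN N X M).relIndex (tildeG N X M G) = N.relIndex G := by
      unfold tildeN tildeG
      rw [Subgroup.relIndex_comap, Subgroup.map_comap_eq_self_of_surjective hsurj]
    rw [h1, h2]
    exact hcop
  have hsolv' : Group.IsSolvable (tildeGroup N X M ⧸ tildeG N X M G) := by
    haveI := hsolv
    let q : tildeGroup N X M ⧸ tildeG N X M G →* Γ ⧸ G :=
      QuotientGroup.map (tildeG N X M G) G (tildePr N X M) (fun x hx => hx)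
    apply Group.isSolvable_of_isSolvable_injective (f := q)
    rw [injective_iff_map_eq_one]
    intro y hy
    obtain ⟨a, rfl⟩ := QuotientGroup.mk_surjective y
    have h1 : q (QuotientGroup.mk a) = QuotientGroup.mk (tildePr N X M a) := rfl
    rw [h1, QuotientGroup.eq_one_iff] at hy
    rw [QuotientGroup.eq_one_iff]
    exact hy
  obtain ⟨β, hβ1, hβ2⟩ := exists_inv_over_rel_central (tildeG N X M G) (tildeN N X M)
    (tildeIota N X M hM).range (tildeIota_range_le N X M hM) (tildeN_le_tildeG N X M G hNG)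
    (fun x a ha => tilde_comm_mem_range N X M hM x ha) hcop' hsolv' (tildeMu N X M)⁻¹
    (by
      intro a ha
      rw [MonoidHom.inv_apply, tildeMu_of_mem_range N X M hM a ha, inv_one])
  have hβN : ∀ (a : tildeG N X M G) (ha : a.1 ∈ tildeN N X M),
      (β : tildeG N X M G → ℂ) a
        = (β : tildeG N X M G → ℂ) 1 * (((tildeMu N X M ⟨a.1, ha⟩)⁻¹ : ℂˣ) : ℂ) := by
    intro a ha
    have := hβ1 ⟨a.1, ha⟩
    rw [MonoidHom.inv_apply] at this
    exact this
  obtain ⟨χ, hχ, hχv⟩ := exists_descent N X M hM G hNG hsurj (β : tildeG N X M G → ℂ) β.2 hβN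
  have hβ10 : (β : tildeG N X M G → ℂ) 1 ≠ 0 := irr_apply_one_ne_zero β.2
  refine ⟨⟨χ, hχ⟩, ?_, ?_⟩
  · have h1 : (fun n : N => χ ⟨n, hNG n.2⟩) = ((β : tildeG N X M G → ℂ) 1) • (θ : N → ℂ) := by
      funext n
      have e1 : (⟨n, hNG n.2⟩ : G) = tildePrG N X M G (tildeIotaG N X M hM G hNG n) := rfl
      rw [e1, hχv, hβN _ (tildeIota_mem_tildeN N X M hM n)]
      have e2 : tildeMu N X M ⟨(tildeIotaG N X M hM G hNG n).1, tildeIota_mem_tildeN N X M hM n⟩
          = 1 := tildeMu_iota N X M hM n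
      rw [e2, inv_one, Units.val_one, mul_one]
      have e3 : (tildeRep N X M).character (tildeIotaG N X M hM G hNG n).1 = (θ : N → ℂ) n := by
        rw [← hXθ]
        unfold Representation.character
        rw [tildeIotaG_coe, tildeRep_iota]
      rw [e3]
      rfl
    show classInner (fun n : N => χ ⟨n, hNG n.2⟩) (θ : N → ℂ) ≠ 0
    rw [h1, classInner_smul_left, classInner_irr_self θ.2, mul_one]
    exact hβ10
  · intro x g
    show χ ⟨x * g * x⁻¹, hG.conj_mem g g.2 x⟩ = χ g
    obtain ⟨x', rfl⟩ := hsurj x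
    have hsurjG : Function.Surjective (tildePrG N X M G) :=
      MonoidHom.subgroupComap_surjective_of_surjective _ _ hsurj
    obtain ⟨a, rfl⟩ := hsurjG g
    have e1 : (⟨tildePr N X M x' * (tildePrG N X M G a : G) * (tildePr N X M x')⁻¹,
        hG.conj_mem _ (tildePrG N X M G a).2 _⟩ : G)
        = tildePrG N X M G ⟨x' * a * x'⁻¹, hGn.conj_mem a a.2 x'⟩ := by
      apply Subtype.ext
      show _ = tildePr N X M (x' * a * x'⁻¹)
      rw [map_mul, map_mul, map_inv]
      rfl
    rw [e1, hχv, hχv, hβ2 x' a]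
    congr 1
    have hcl : IsClassFunction (tildeGroup N X M) (tildeRep N X M).character :=
      isClassFunction_of_isCharacter ⟨d, tildeRep N X M, rfl⟩
    exact hcl a.1 x'

end Cfsg.Agent.Lib.Helper8.CX
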