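import Cfsg.Agent.Lib.Helper2.CarveG1

/-!
# (G1) re-export: the statement `Cfsg.Agent.Lib.Carve.G1.exists_regular_vector` is proved in
`Cfsg/Agent/Lib/Helper2/CarveG1.lean`; this file only forwards the import.
-/
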