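import Cfsg.Agent.Lib.Lead.CarveG2

/-!
# (G2) re-export: the statement `Cfsg.Agent.Lib.Carve.G2.symplectic_data` is proved in
`Cfsg/Agent/Lib/Lead/CarveG2.lean`; this file only forwards the import.
-/
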