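import Mathlib
import Cfsg.Prelude.Def_Solvable
import Cfsg.Agent.Lib.Helper7.Wielandt6
import Cfsg.Agent.Lib.Helper7.GK2
import Cfsg.Agent.Lib.Helper4.PiCore
import Cfsg.Agent.Lib.Helper9.PCore

/-!
# (G3) the reduction of S4330 to the module claim
-/

set_option autoImplicit false

namespace Cfsg.Agent.Lib.Carve

open scoped commutatorElement Pointwise

universe u w

namespace G3

section aux

variable {G : Type u} [Group G]

/-- the pair property: every class contains `g` with `⟨A, A^g⟩` a `p`-group. -/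
def PairP (p : ℕ) (A : Subgroup G) : Prop :=
  ∀ c : G, ∃ g : G, IsConj c g ∧ IsPGroup p ↥(A ⊔ MulAut.conj g • A)

theorem isPGroup_conj_smul {p : ℕ} {A : Subgroup G} (hA : IsPGroup p A) (g : G) :
    IsPGroup p ↥(MulAut.conj g • A) := by
  rw [Subgroup.pointwise_smul_def]
  exact hA.map _

theorem isPGroup_piCore_singleton [Finite G] (p : ℕ) [Fact p.Prime] :
    IsPGroup p ↥(Cfsg.piCore {p} G) := by
  have h := Cfsg.Agent.Lib.Helper4.isPiNum_card_piCore (G := G) {p}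
  have h0 : Nat.card ↥(Cfsg.piCore {p} G) ≠ 0 := Nat.card_pos.ne'
  have h1 := Nat.eq_prime_pow_of_unique_prime_dvd h0 (p := p)
    (fun {d} hd hdvd => Set.mem_singleton_iff.1 (h d hd hdvd))
  exact IsPGroup.of_card h1

theorem isPGroup_sup_of_subnormal [Finite G] {p : ℕ} [hp : Fact p.Prime] {A : Subgroup G}
    (hA : IsPGroup p A) (g : G)
    (h : (A.subgroupOf (A ⊔ MulAut.conj g • A)).IsSubnormal) :
    IsPGroup p ↥(A ⊔ MulAut.conj g • A) := by
  set X := A ⊔ MulAut.conj g • A with hX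
  have hA' : IsPGroup p (A.subgroupOf X) := hA.comap_subtype
  have hB' : IsPGroup p ((MulAut.conj g • A).subgroupOf X) := (isPGroup_conj_smul hA g).comap_subtype
  have hO : A.subgroupOf X ≤ Cfsg.piCore {p} ↥X :=
    Cfsg.Agent.Lib.Helper7.le_piCore_singleton_of_isSubnormal h hA'
  have hOp : IsPGroup p ↥(Cfsg.piCore {p} ↥X) := isPGroup_piCore_singleton p
  have hsup : IsPGroup p ↥((MulAut.conj g • A).subgroupOf X ⊔ Cfsg.piCore {p} ↥X) :=
    hB'.to_sup_of_normal_right hOp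
  have htop : (MulAut.conj g • A).subgroupOf X ⊔ Cfsg.piCore {p} ↥X = ⊤ := by
    rw [eq_top_iff]
    have h1 : A.subgroupOf X ⊔ (MulAut.conj g • A).subgroupOf X = ⊤ := by
      rw [← Subgroup.subgroupOf_sup le_sup_left le_sup_right]
      exact Subgroup.subgroupOf_self X
    rw [← h1]
    exact sup_le (hO.trans le_sup_right) le_sup_left
  rw [htop] at hsup
  intro x
  obtain ⟨k, hk⟩ := hsup ⟨x, Subgroup.mem_top x⟩
  exact ⟨k, congrArg Subtype.val hk⟩

theorem pairP_of_hyp [Finite G] {p : ℕ} [hp : Fact p.Prime] {A : Subgroup G} (hA : IsPGroup p A)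
    (h : ∀ c : G, ∃ g : G, IsConj c g ∧ (A.subgroupOf (A ⊔ MulAut.conj g • A)).IsSubnormal) :
    PairP p A := by
  intro c
  obtain ⟨g, hg, hs⟩ := h c
  exact ⟨g, hg, isPGroup_sup_of_subnormal hA g hs⟩

theorem mem_conj_smul {A : Subgroup G} {g a : G} (ha : a ∈ A) : g * a * g⁻¹ ∈ MulAut.conj g • A := by
  rw [Subgroup.mem_pointwise_smul_iff_inv_smul_mem]
  simp only [MulAut.smul_def, MulAut.conj_inv_apply]
  have : g⁻¹ * (g * a * g⁻¹) * g = a := by group
  rw [this]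
  exact ha

theorem exists_of_mem_conj_smul {A : Subgroup G} {g x : G} (hx : x ∈ MulAut.conj g • A) :
    ∃ a ∈ A, x = g * a * g⁻¹ := by
  rw [Subgroup.mem_pointwise_smul_iff_inv_smul_mem] at hx
  simp only [MulAut.smul_def, MulAut.conj_inv_apply] at hx
  refine ⟨_, hx, ?_⟩
  group

/-- the pair property passes to quotients. -/
theorem PairP.map {p : ℕ} {A : Subgroup G} (h : PairP p A) {G' : Type u} [Group G'] (f : G →* G')
    (hf : Function.Surjective f) : PairP p (A.map f) := by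
  intro c'
  obtain ⟨c, rfl⟩ := hf c'
  obtain ⟨g, hg, hp⟩ := h c
  refine ⟨f g, ?_, ?_⟩
  · rw [isConj_iff] at hg ⊢
    obtain ⟨x, hx⟩ := hg
    exact ⟨f x, by rw [← hx]; simp⟩
  · have h1 : A.map f ⊔ MulAut.conj (f g) • A.map f ≤ (A ⊔ MulAut.conj g • A).map f := by
      apply sup_le
      · exact Subgroup.map_mono le_sup_left
      · intro x hx
        obtain ⟨a', ha', rfl⟩ := exists_of_mem_conj_smul hx
        obtain ⟨a, ha, rfl⟩ := ha'
        refine ⟨g * a * g⁻¹, ?_, by simp⟩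
        exact (le_sup_right : MulAut.conj g • A ≤ A ⊔ MulAut.conj g • A) (mem_conj_smul ha)
    exact (hp.map f).to_le h1

end aux

section induction

open Cfsg.Agent.Lib.Helper9

variable {G : Type u} [Group G] [Finite G]

theorem step_core {p : ℕ} [hp : Fact p.Prime]
    (IH : ∀ (G' : Type u) [Group G'] [Finite G'], Nat.card G' < Nat.card G →
      Group.IsSolvable G' → ∀ A' : Subgroup G', IsPGroup p A' → PairP p A' →
      A' ≤ Cfsg.pCore p G')
    (hG : Group.IsSolvable G) (A : Subgroup G) (hA : IsPGroup p A) (h : PairP p A)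
    (hO : Cfsg.pCore p G ≠ ⊥) : A ≤ Cfsg.pCore p G := by
  have hOn : (Cfsg.pCore p G).Normal := pCore_normal' p
  have hOp : IsPGroup p (Cfsg.pCore p G) := pCore_isPGroup' p
  set π := QuotientGroup.mk' (Cfsg.pCore p G) with hπ
  have hcard : Nat.card (G ⧸ Cfsg.pCore p G) < Nat.card G := by
    rw [← Subgroup.index_eq_card, ← Subgroup.card_mul_index (Cfsg.pCore p G)]
    have h1 : 1 < Nat.card (Cfsg.pCore p G) := (Subgroup.one_lt_card_iff_ne_bot _).2 hO
    have h2 : 0 < (Cfsg.pCore p G).index := Nat.pos_of_ne_zero Subgroup.index_ne_zero_of_finite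
    nlinarith
  have hsol : Group.IsSolvable (G ⧸ Cfsg.pCore p G) := by
    have := hG
    infer_instance
  have h1 := IH (G ⧸ Cfsg.pCore p G) hcard hsol (A.map π) (hA.map π)
    (h.map π (QuotientGroup.mk'_surjective _))
  have hM : IsPGroup p ((Cfsg.pCore p (G ⧸ Cfsg.pCore p G)).comap π) :=
    (pCore_isPGroup' p).comap_of_ker_isPGroup π (by rw [hπ, QuotientGroup.ker_mk']; exact hOp)
  have hMn : ((Cfsg.pCore p (G ⧸ Cfsg.pCore p G)).comap π).Normal := (pCore_normal' p).comap π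
  have h2 := le_pCore hMn hM
  intro a ha
  apply h2
  rw [Subgroup.mem_comap]
  exact h1 (Subgroup.mem_map_of_mem π ha)

theorem step_trivial_core {p : ℕ} [hp : Fact p.Prime]
    (hclaim : ∀ (G : Type u) [Group G] [Finite G] (N H Q : Subgroup G), N.Normal →
      (∀ x ∈ N, ∀ y ∈ N, x * y = y * x) → ¬ p ∣ Nat.card N → Q ≤ H →
      (∀ h ∈ H, ∀ q ∈ Q, h * q * h⁻¹ ∈ Q) → IsPGroup p Q → ∀ a ∈ Q,
      (∃ n ∈ N, a * n * a⁻¹ ≠ n) →
      ∃ v ∈ N, ∀ h ∈ H, (h * a * h⁻¹) * v * (h * a * h⁻¹)⁻¹ ≠ v)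
    (IH : ∀ (G' : Type u) [Group G'] [Finite G'], Nat.card G' < Nat.card G →
      Group.IsSolvable G' → ∀ A' : Subgroup G', IsPGroup p A' → PairP p A' →
      A' ≤ Cfsg.pCore p G')
    (hG : Group.IsSolvable G) (A : Subgroup G) (hA : IsPGroup p A) (h : PairP p A)
    (hO : Cfsg.pCore p G = ⊥) : A = ⊥ := by
  by_contra hA1
  obtain ⟨a, haA, ha1⟩ : ∃ a ∈ A, a ≠ 1 := by
    by_contra hcon
    push Not at hcon
    apply hA1
    rw [eq_bot_iff]
    intro x hx
    rw [Subgroup.mem_bot]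
    exact hcon x hx
  have hnt : Nontrivial G := ⟨⟨a, 1, ha1⟩⟩
  obtain ⟨r, N, hr, hNn, hN1, hNc, hNexp⟩ :=
    Cfsg.Agent.Lib.Helper7.GK.exists_normal_elementary_abelian hG
  have hrF : Fact r.Prime := ⟨hr⟩
  have hNr : IsPGroup r N := by
    intro x
    refine ⟨1, ?_⟩
    apply Subtype.ext
    rw [pow_one, Subgroup.coe_pow, hNexp x.1 x.2]
    rfl
  have hrp : r ≠ p := by
    intro hrp
    rw [hrp] at hNr
    have := le_pCore hNn hNr
    rw [hO] at this
    exact hN1 (le_bot_iff.1 this)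
  have hNcard : ¬ p ∣ Nat.card N := by
    obtain ⟨k, hk⟩ := IsPGroup.iff_card.1 hNr
    rw [hk]
    intro hd
    have := (Nat.prime_dvd_prime_iff_eq hp.out hr).1 (hp.out.dvd_of_dvd_pow hd)
    exact hrp this.symm
  -- induction on the quotient
  set π := QuotientGroup.mk' N with hπ
  have hcard : Nat.card (G ⧸ N) < Nat.card G := by
    rw [← Subgroup.index_eq_card, ← Subgroup.card_mul_index N]
    have h1 : 1 < Nat.card N := (Subgroup.one_lt_card_iff_ne_bot _).2 hN1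
    have h2 : 0 < N.index := Nat.pos_of_ne_zero Subgroup.index_ne_zero_of_finite
    nlinarith
  have hsol : Group.IsSolvable (G ⧸ N) := by
    have := hG
    infer_instance
  have h1 := IH (G ⧸ N) hcard hsol (A.map π) (hA.map π) (h.map π (QuotientGroup.mk'_surjective _))
  set P : Subgroup G := (Cfsg.pCore p (G ⧸ N)).comap π with hP
  have hPn : P.Normal := (pCore_normal' p).comap π
  have hNP : N ≤ P := by
    intro n hn
    rw [hP, Subgroup.mem_comap]
    have : π n = 1 := by rw [hπ, QuotientGroup.mk'_apply, QuotientGroup.eq_one_iff]; exact hn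
    rw [this]
    exact Subgroup.one_mem _
  have hAP : A ≤ P := by
    intro x hx
    rw [hP, Subgroup.mem_comap]
    exact h1 (Subgroup.mem_map_of_mem π hx)
  -- a Sylow `p`-subgroup of `P` containing `A`
  have hA' : IsPGroup p (A.subgroupOf P) := hA.comap_subtype
  obtain ⟨Q', hQ'⟩ := hA'.exists_le_sylow
  set Q : Subgroup G := (Q' : Subgroup P).map P.subtype with hQ
  have hAQ : A ≤ Q := by
    intro x hx
    exact ⟨⟨x, hAP hx⟩, hQ' (Subgroup.mem_subgroupOf.2 hx), rfl⟩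
  have hQp : IsPGroup p Q := Q'.2.map _
  set H : Subgroup G := Subgroup.normalizer (Q : Set G) with hH
  have hFrat : H ⊔ P = ⊤ := Sylow.normalizer_sup_eq_top Q'
  have hQH : Q ≤ H := Subgroup.le_normalizer
  have hHQ : ∀ y ∈ H, ∀ q ∈ Q, y * q * y⁻¹ ∈ Q := by
    intro y hy q hq
    exact (Subgroup.mem_normalizer_iff.1 hy q).1 hq
  -- `P = Q N`
  have hN'n : (N.subgroupOf P).Normal := Subgroup.normal_subgroupOf
  have hquot : IsPGroup p (↥P ⧸ N.subgroupOf P) := by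
    intro y
    obtain ⟨x, rfl⟩ := QuotientGroup.mk_surjective y
    obtain ⟨k, hk⟩ := (pCore_isPGroup' p (G := G ⧸ N)) ⟨π x.1, x.2⟩
    refine ⟨k, ?_⟩
    rw [← QuotientGroup.mk_pow, QuotientGroup.eq_one_iff, Subgroup.mem_subgroupOf]
    have h2 : (π x.1) ^ (p ^ k) = 1 := congrArg Subtype.val hk
    rw [← map_pow, hπ, QuotientGroup.mk'_apply, QuotientGroup.eq_one_iff] at h2
    exact h2
  have hQN : (Q' : Subgroup P) ⊔ N.subgroupOf P = ⊤ := by
    obtain ⟨m, hm⟩ := IsPGroup.iff_card.1 hquot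
    rw [← Subgroup.index_eq_card] at hm
    have hd1 : ((Q' : Subgroup P) ⊔ N.subgroupOf P).index ∣ p ^ m := by
      rw [← hm]
      exact Subgroup.index_dvd_of_le le_sup_right
    have hd2 : ((Q' : Subgroup P) ⊔ N.subgroupOf P).index ∣ (Q' : Subgroup P).index :=
      Subgroup.index_dvd_of_le le_sup_left
    have hnd : ¬ p ∣ (Q' : Subgroup P).index := Sylow.not_dvd_index Q'
    obtain ⟨j, -, hj⟩ := (Nat.dvd_prime_pow hp.out).1 hd1
    rcases Nat.eq_zero_or_pos j with h0 | h0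
    · rw [h0, pow_zero] at hj
      exact Subgroup.index_eq_one.1 hj
    · exfalso
      apply hnd
      apply dvd_trans _ hd2
      rw [hj]
      exact dvd_pow_self p h0.ne'
  have hHN : ∀ x : G, ∃ y ∈ H, ∃ n ∈ N, x = y * n := by
    intro x
    have hx : x ∈ H ⊔ P := by rw [hFrat]; exact Subgroup.mem_top x
    obtain ⟨y, hy, z, hz, rfl⟩ := Subgroup.mem_sup_of_normal_right.1 hx
    have hz' : (⟨z, hz⟩ : P) ∈ (Q' : Subgroup P) ⊔ N.subgroupOf P := by
      rw [hQN]; exact Subgroup.mem_top _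
    obtain ⟨q, hq, n, hn, hqn⟩ := Subgroup.mem_sup_of_normal_right.1 hz'
    refine ⟨y * q.1, H.mul_mem hy (hQH ⟨q, hq, rfl⟩), n.1, Subgroup.mem_subgroupOf.1 hn, ?_⟩
    have : z = q.1 * n.1 := by
      have := congrArg Subtype.val hqn
      simpa using this.symm
    rw [this, mul_assoc]
  -- `C_Q(N) = 1`
  have hD : ∀ d ∈ Q, (∀ n ∈ N, d * n = n * d) → d = 1 := by
    intro d hdQ hdN
    set D : Subgroup G := Q ⊓ Subgroup.centralizer (N : Set G) with hDdef
    have hDn : D.Normal := by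
      constructor
      intro e he x
      obtain ⟨y, hy, n, hn, rfl⟩ := hHN x
      have hen : n * e = e * n := (Subgroup.mem_centralizer_iff.1 he.2) n hn
      have h2 : y * n * e * (y * n)⁻¹ = y * e * y⁻¹ := by
        rw [mul_inv_rev, mul_assoc y n e, hen]
        group
      rw [h2, hDdef, Subgroup.mem_inf]
      refine ⟨hHQ y hy e he.1, ?_⟩
      rw [Subgroup.mem_centralizer_iff]
      intro m hm
      have hm' : y⁻¹ * m * y ∈ N := by
        have := hNn.conj_mem m hm y⁻¹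
        simpa using this
      have h3 := (Subgroup.mem_centralizer_iff.1 he.2) (y⁻¹ * m * y) hm'
      calc m * (y * e * y⁻¹) = y * ((y⁻¹ * m * y) * e) * y⁻¹ := by group
        _ = y * (e * (y⁻¹ * m * y)) * y⁻¹ := by rw [h3]
        _ = y * e * y⁻¹ * m := by group
    have hDp : IsPGroup p D := hQp.to_le inf_le_left
    have h2 := le_pCore hDn hDp
    rw [hO] at h2
    have hd : d ∈ D := by
      rw [hDdef, Subgroup.mem_inf]
      refine ⟨hdQ, ?_⟩
      rw [Subgroup.mem_centralizer_iff]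
      intro n hn
      exact (hdN n hn).symm
    exact Subgroup.mem_bot.1 (h2 hd)
  have hact : ∃ n ∈ N, a * n * a⁻¹ ≠ n := by
    by_contra hcon
    push Not at hcon
    apply ha1
    apply hD a (hAQ haA)
    intro n hn
    exact mul_inv_eq_iff_eq_mul.1 (hcon n hn)
  obtain ⟨v, hvN, hv⟩ := hclaim G N H Q hNn hNc hNcard hQH hHQ hQp a (hAQ haA) hact
  obtain ⟨g, hcg, hX⟩ := h v
  rw [isConj_iff] at hcg
  obtain ⟨x, hx⟩ := hcg
  obtain ⟨y, hy, n, hn, rfl⟩ := hHN x
  have hg : g = y * v * y⁻¹ := by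
    rw [← hx, mul_inv_rev, mul_assoc y n v, hNc n hn v hvN]
    group
  have hgN : g ∈ N := by rw [hg]; exact hNn.conj_mem v hvN y
  have hwX : (g * a * g⁻¹) * a⁻¹ ∈ A ⊔ MulAut.conj g • A :=
    Subgroup.mul_mem _ ((le_sup_right : MulAut.conj g • A ≤ A ⊔ MulAut.conj g • A)
      (mem_conj_smul haA)) (Subgroup.inv_mem _ ((le_sup_left : A ≤ A ⊔ MulAut.conj g • A) haA))
  have hwN : (g * a * g⁻¹) * a⁻¹ ∈ N := by
    have h2 : (g * a * g⁻¹) * a⁻¹ = g * (a * g⁻¹ * a⁻¹) := by group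
    rw [h2]
    exact N.mul_mem hgN (hNn.conj_mem _ (N.inv_mem hgN) a)
  have hw1 : (g * a * g⁻¹) * a⁻¹ = 1 := by
    obtain ⟨k, hk⟩ := hX ⟨_, hwX⟩
    have hk' : ((g * a * g⁻¹) * a⁻¹) ^ (p ^ k) = 1 := congrArg Subtype.val hk
    have h2 : orderOf ((g * a * g⁻¹) * a⁻¹) ∣ p ^ k := orderOf_dvd_of_pow_eq_one hk'
    have h3 : orderOf ((g * a * g⁻¹) * a⁻¹) ∣ Nat.card N := by
      have := orderOf_dvd_natCard (⟨_, hwN⟩ : N)
      rwa [Subgroup.orderOf_mk] at this
    have h4 : (p ^ k).Coprime (Nat.card N) :=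
      Nat.Coprime.pow_left k ((Nat.Prime.coprime_iff_not_dvd hp.out).2 hNcard)
    have h5 : orderOf ((g * a * g⁻¹) * a⁻¹) = 1 := Nat.eq_one_of_dvd_coprimes h4 h2 h3
    exact orderOf_eq_one_iff.1 h5
  have hga : g * a * g⁻¹ = a := mul_inv_eq_one.1 hw1
  have hag : a * g * a⁻¹ = g := by
    have h2 : g * a = a * g := mul_inv_eq_iff_eq_mul.1 hga
    rw [← h2]
    group
  apply hv y⁻¹ (H.inv_mem hy)
  rw [inv_inv]
  have h2 : y⁻¹ * a * y * v * (y⁻¹ * a * y)⁻¹ = y⁻¹ * (a * (y * v * y⁻¹) * a⁻¹) * y := by group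
  rw [h2, ← hg, hag, hg]
  group

end induction

theorem pairP_le_pCore {p : ℕ} [hp : Fact p.Prime]
    (hclaim : ∀ (G : Type u) [Group G] [Finite G] (N H Q : Subgroup G), N.Normal →
      (∀ x ∈ N, ∀ y ∈ N, x * y = y * x) → ¬ p ∣ Nat.card N → Q ≤ H →
      (∀ h ∈ H, ∀ q ∈ Q, h * q * h⁻¹ ∈ Q) → IsPGroup p Q → ∀ a ∈ Q,
      (∃ n ∈ N, a * n * a⁻¹ ≠ n) →
      ∃ v ∈ N, ∀ h ∈ H, (h * a * h⁻¹) * v * (h * a * h⁻¹)⁻¹ ≠ v) :
    ∀ (n : ℕ) (G : Type u) [Group G] [Finite G], Nat.card G = n → Group.IsSolvable G →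
      ∀ A : Subgroup G, IsPGroup p A → PairP p A → A ≤ Cfsg.pCore p G := by
  intro n
  induction n using Nat.strong_induction_on with
  | _ n ih =>
    intro G _ _ hn hG A hA h
    have IH : ∀ (G' : Type u) [Group G'] [Finite G'], Nat.card G' < Nat.card G →
        Group.IsSolvable G' → ∀ A' : Subgroup G', IsPGroup p A' → PairP p A' →
        A' ≤ Cfsg.pCore p G' := by
      intro G' _ _ hlt hG' A' hA' h'
      exact ih (Nat.card G') (hn ▸ hlt) G' rfl hG' A' hA' h'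
    by_cases hO : Cfsg.pCore p G = ⊥
    · rw [step_trivial_core hclaim IH hG A hA h hO]
      exact bot_le
    · exact step_core IH hG A hA h hO

theorem baer_suzuki_of_claim (p : ℕ) [Fact p.Prime] (hp2 : p ≠ 2)
    (hclaim : ∀ (G : Type u) [Group G] [Finite G] (N H Q : Subgroup G), N.Normal →
      (∀ x ∈ N, ∀ y ∈ N, x * y = y * x) → ¬ p ∣ Nat.card N → Q ≤ H →
      (∀ h ∈ H, ∀ q ∈ Q, h * q * h⁻¹ ∈ Q) → IsPGroup p Q → ∀ a ∈ Q,
      (∃ n ∈ N, a * n * a⁻¹ ≠ n) →
      ∃ v ∈ N, ∀ h ∈ H, (h * a * h⁻¹) * v * (h * a * h⁻¹)⁻¹ ≠ v)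
    {G : Type u} [Group G] [Finite G] (hG : Group.IsSolvable G) (A : Subgroup G)
    (hA : IsPGroup p A)
    (h : ∀ c : G, ∃ g : G, IsConj c g ∧ (A.subgroupOf (A ⊔ MulAut.conj g • A)).IsSubnormal) :
    A ≤ Cfsg.pCore p G :=
  pairP_le_pCore hclaim _ G rfl hG A hA (pairP_of_hyp hA h)

end G3

end Cfsg.Agent.Lib.Carve
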