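import Mathlib
import Cfsg.Agent.Lib.Helper9.LagDefs
import Cfsg.Agent.Lib.Helper2.SpIsom

/-!
# Carve-out L4 for S5963: the derangement criterion

An isometry `X` of the symplectic space with `X ^ r = 1`, `r` a prime different from the
characteristic, such that `rank (X - 1)` is the multiplicative order of `q` modulo `r`,
fixes no pair of complementary totally isotropic subspaces.
-/

set_option autoImplicit false

namespace Cfsg.Agent.Lib.Carve

open Cfsg.Agent.Lib.Helper9.Lag

universe u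

variable {F : Type u} [Field F]

namespace L4

section gen

variable {V : Type*} [AddCommGroup V] [Module F V]

theorem l4_fix_pow {X : Module.End F V} {v : V} (h : X v = v) (n : ℕ) : (X ^ n) v = v := by
  induction n with
  | zero => simp
  | succ n ih => rw [pow_succ, Module.End.mul_apply, h, ih]

theorem l4_sum_fix {X : Module.End F V} {v : V} (h : X v = v) (r : ℕ) :
    (∑ i ∈ Finset.range r, X ^ i) v = (r : F) • v := by
  rw [LinearMap.sum_apply]
  simp only [l4_fix_pow h]
  rw [Finset.sum_const, Finset.card_range]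
  exact (Nat.cast_smul_eq_nsmul F r v).symm

theorem l4_ker_inf_range {X : Module.End F V} {r : ℕ} (hrF : (r : F) ≠ 0) (hXr : X ^ r = 1)
    {v : V} (hk : X v = v) (hR : v ∈ LinearMap.range (X - 1)) : v = 0 := by
  obtain ⟨w, rfl⟩ := hR
  have h1 : (∑ i ∈ Finset.range r, X ^ i) ((X - 1) w) = 0 := by
    rw [← Module.End.mul_apply, geom_sum_mul, hXr, sub_self, LinearMap.zero_apply]
  rw [l4_sum_fix hk r] at h1
  exact (smul_eq_zero.mp h1).resolve_left hrF

theorem l4_sum_mem_ker {X : Module.End F V} {r : ℕ} (hXr : X ^ r = 1) (v : V) :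
    X ((∑ i ∈ Finset.range r, X ^ i) v) = (∑ i ∈ Finset.range r, X ^ i) v := by
  have : (X - 1) ((∑ i ∈ Finset.range r, X ^ i) v) = 0 := by
    rw [← Module.End.mul_apply, mul_geom_sum, hXr, sub_self, LinearMap.zero_apply]
  rw [LinearMap.sub_apply, Module.End.one_apply, sub_eq_zero] at this
  exact this

theorem l4_pow_sub_one_mem_range (X : Module.End F V) (i : ℕ) (v : V) :
    (X ^ i) v - v ∈ LinearMap.range (X - 1) := by
  refine ⟨(∑ j ∈ Finset.range i, X ^ j) v, ?_⟩
  rw [← Module.End.mul_apply, mul_geom_sum, LinearMap.sub_apply, Module.End.one_apply]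

theorem l4_decomp (X : Module.End F V) (r : ℕ) (v : V) :
    (r : F) • v - (∑ i ∈ Finset.range r, X ^ i) v ∈ LinearMap.range (X - 1) := by
  have : (r : F) • v - (∑ i ∈ Finset.range r, X ^ i) v =
      - ∑ i ∈ Finset.range r, ((X ^ i) v - v) := by
    rw [LinearMap.sum_apply, Finset.sum_sub_distrib, Finset.sum_const, Finset.card_range,
      Nat.cast_smul_eq_nsmul F]
    abel
  rw [this]
  exact Submodule.neg_mem _ (Submodule.sum_mem _ fun i _ => l4_pow_sub_one_mem_range X i v)

theorem l4_range_perp_ker (B : LinearMap.BilinForm F V) {X : Module.End F V}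
    (hBX : ∀ u v, B (X u) (X v) = B u v) {ρ k : V} (hρ : ρ ∈ LinearMap.range (X - 1))
    (hk : X k = k) : B ρ k = 0 := by
  obtain ⟨w, rfl⟩ := hρ
  have h1 : B (X w) k = B w k := by
    conv_lhs => rw [← hk]
    exact hBX w k
  rw [LinearMap.sub_apply, Module.End.one_apply, map_sub, LinearMap.sub_apply, h1, sub_self]

theorem l4_range_nondeg (B : LinearMap.BilinForm F V) (hnd : ∀ x, (∀ y, B x y = 0) → x = 0)
    {X : Module.End F V} (hBX : ∀ u v, B (X u) (X v) = B u v) {r : ℕ} (hrF : (r : F) ≠ 0)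
    (hXr : X ^ r = 1) {ρ : V} (hρ : ρ ∈ LinearMap.range (X - 1))
    (h : ∀ ρ' ∈ LinearMap.range (X - 1), B ρ ρ' = 0) : ρ = 0 := by
  apply hnd
  intro v
  have h1 : B ρ ((∑ i ∈ Finset.range r, X ^ i) v) = 0 :=
    l4_range_perp_ker B hBX hρ (l4_sum_mem_ker hXr v)
  have h2 : B ρ ((r : F) • v - (∑ i ∈ Finset.range r, X ^ i) v) = 0 := h _ (l4_decomp X r v)
  rw [map_sub, h1, sub_zero, map_smul, smul_eq_mul] at h2
  exact (mul_eq_zero.mp h2).resolve_left hrF

theorem l4_dvd_finrank [Fintype F] [Finite V] {q : ℕ} (hq : Fintype.card F = q)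
    {X : Module.End F V} {r : ℕ} (hr : r.Prime) (hrF : (r : F) ≠ 0) (hXr : X ^ r = 1)
    (S : Submodule F V) (hSX : ∀ s ∈ S, X s ∈ S) (hSR : S ≤ LinearMap.range (X - 1)) :
    orderOf (q : ZMod r) ∣ Module.finrank F S := by
  classical
  haveI : Fact r.Prime := ⟨hr⟩
  haveI : Fintype V := Fintype.ofFinite V
  haveI : Fintype S := Fintype.ofFinite S
  let f : Function.End S := fun s => ⟨X s.1, hSX s.1 s.2⟩
  have hfpow : ∀ n : ℕ, ∀ s : S, ((f ^ n) s : V) = (X ^ n) s.1 := by
    intro n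
    induction n with
    | zero => intro s; rfl
    | succ n ih =>
      intro s
      rw [pow_succ, pow_succ]
      show ((f ^ n) (f s) : V) = (X ^ n) (X s.1)
      rw [ih]
  have hfr : f ^ r ^ 1 = 1 := by
    rw [pow_one]
    funext s
    apply Subtype.ext
    rw [hfpow, hXr]
    rfl
  have hmod := Equiv.Perm.card_fixedPoints_modEq (p := r) (n := 1) hfr
  have hfix : Function.fixedPoints f = {0} := by
    ext s
    simp only [Function.mem_fixedPoints, Function.IsFixedPt, Set.mem_singleton_iff]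
    constructor
    · intro hs
      have hs' : X s.1 = s.1 := congrArg Subtype.val hs
      exact Subtype.ext (l4_ker_inf_range hrF hXr hs' (hSR s.2))
    · rintro rfl
      apply Subtype.ext
      show X ((0 : S) : V) = ((0 : S) : V)
      simp
  have hcardfix : Fintype.card (Function.fixedPoints f) = 1 := by
    rw [Fintype.card_eq_one_iff]
    refine ⟨⟨0, by rw [hfix]; rfl⟩, ?_⟩
    rintro ⟨s, hs⟩
    apply Subtype.ext
    rw [hfix] at hs
    exact hs
  rw [hcardfix, Module.card_eq_pow_finrank (K := F) (V := S), hq] at hmod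
  rw [orderOf_dvd_iff_pow_eq_one]
  have h3 := (ZMod.natCast_eq_natCast_iff _ _ _).mpr hmod
  rw [Nat.cast_pow, Nat.cast_one] at h3
  exact h3

end gen

theorem no_pair [Fintype F] {q : ℕ} (hq : Fintype.card F = q) (d : ℕ)
    (X : (Fin d ⊕ Fin d → F) →ₗ[F] (Fin d ⊕ Fin d → F))
    (hXf : ∀ u v, Cfsg.sympForm d F (X u) (X v) = Cfsg.sympForm d F u v)
    (r : ℕ) (hr : r.Prime) (hrF : (r : F) ≠ 0) (hXr : X ^ r = 1)
    (c : ℕ) (hc : orderOf (q : ZMod r) = c) (hc1 : 1 ≤ c)
    (hrank : Module.finrank F (LinearMap.range (X - 1)) = c) :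
    ¬ ∃ U W : Submodule F (Fin d ⊕ Fin d → F), IsLagPair d F U W ∧ U.map X = U ∧ W.map X = W := by
  classical
  rintro ⟨U, W, ⟨hcompl, hUiso, hWiso⟩, hUX, hWX⟩
  let B : LinearMap.BilinForm F (Fin d ⊕ Fin d → F) := Cfsg.Agent.Lib.Helper2.SpIsom.sympBilin d F
  have hBapp : ∀ u v, B u v = Cfsg.sympForm d F u v :=
    fun u v => Cfsg.Agent.Lib.Helper2.SpIsom.sympBilin_apply u v
  have hBX : ∀ u v, B (X u) (X v) = B u v := by
    intro u v
    rw [hBapp, hBapp]
    exact hXf u v
  have hnd : ∀ x, (∀ y, B x y = 0) → x = 0 := by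
    intro x hx
    apply Cfsg.Agent.Lib.Helper2.SpIsom.sympForm_nondeg x
    intro y
    rw [← hBapp]
    exact hx y
  set R := LinearMap.range (X - 1) with hR
  -- the images
  have hXU : ∀ u ∈ U, X u ∈ U := by
    intro u hu
    rw [← hUX]
    exact Submodule.mem_map_of_mem hu
  have hXW : ∀ w ∈ W, X w ∈ W := by
    intro w hw
    rw [← hWX]
    exact Submodule.mem_map_of_mem hw
  set U' := U.map (X - 1) with hU'
  set W' := W.map (X - 1) with hW'
  have hU'U : U' ≤ U := by
    rintro _ ⟨u, hu, rfl⟩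
    rw [LinearMap.sub_apply, Module.End.one_apply]
    exact U.sub_mem (hXU u hu) hu
  have hW'W : W' ≤ W := by
    rintro _ ⟨w, hw, rfl⟩
    rw [LinearMap.sub_apply, Module.End.one_apply]
    exact W.sub_mem (hXW w hw) hw
  have hU'R : U' ≤ R := LinearMap.map_le_range
  have hW'R : W' ≤ R := LinearMap.map_le_range
  have hsup : U' ⊔ W' = R := by
    rw [hU', hW', ← Submodule.map_sup, hcompl.sup_eq_top, Submodule.map_top]
  have hinf : U' ⊓ W' = ⊥ := by
    rw [eq_bot_iff]
    calc U' ⊓ W' ≤ U ⊓ W := inf_le_inf hU'U hW'W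
      _ = ⊥ := hcompl.inf_eq_bot
  have hdim : Module.finrank F U' + Module.finrank F W' = c := by
    have := Submodule.finrank_sup_add_finrank_inf_eq U' W'
    rw [hsup, hinf, finrank_bot, add_zero, hrank] at this
    exact this.symm
  -- invariance of the images
  have hXU' : ∀ s ∈ U', X s ∈ U' := by
    rintro _ ⟨u, hu, rfl⟩
    refine ⟨X u, hXU u hu, ?_⟩
    simp only [LinearMap.sub_apply, Module.End.one_apply, map_sub]
  have hXW' : ∀ s ∈ W', X s ∈ W' := by
    rintro _ ⟨w, hw, rfl⟩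
    refine ⟨X w, hXW w hw, ?_⟩
    simp only [LinearMap.sub_apply, Module.End.one_apply, map_sub]
  have hcU : c ∣ Module.finrank F U' := by
    rw [← hc]
    exact l4_dvd_finrank hq hr hrF hXr U' hXU' hU'R
  have hcW : c ∣ Module.finrank F W' := by
    rw [← hc]
    exact l4_dvd_finrank hq hr hrF hXr W' hXW' hW'R
  -- a totally isotropic subspace equal to the range is impossible
  have key : ∀ S : Submodule F (Fin d ⊕ Fin d → F), S ≤ R → Module.finrank F S = c →
      (∀ u ∈ S, ∀ v ∈ S, Cfsg.sympForm d F u v = 0) → False := by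
    intro S hSR hSc hSiso
    have hSeq : S = R := Submodule.eq_of_le_of_finrank_eq hSR (by rw [hSc, hrank])
    have hRne : R ≠ ⊥ := by
      intro h0
      rw [h0, finrank_bot] at hrank
      omega
    obtain ⟨ρ, hρR, hρ0⟩ := Submodule.exists_mem_ne_zero_of_ne_bot hRne
    apply hρ0
    apply l4_range_nondeg B hnd hBX hrF hXr hρR
    intro ρ' hρ'
    rw [hBapp]
    exact hSiso ρ (hSeq ▸ hρR) ρ' (hSeq ▸ hρ')
  -- case split
  obtain ⟨a, ha⟩ := hcU
  obtain ⟨b, hb⟩ := hcW
  have hab : a + b = 1 := by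
    have h1 : c * (a + b) = c * 1 := by rw [mul_add, ← ha, ← hb, hdim, mul_one]
    exact Nat.eq_of_mul_eq_mul_left (by omega) h1
  have hcases : (a = 1 ∧ b = 0) ∨ (a = 0 ∧ b = 1) := by omega
  rcases hcases with ⟨ha1, _⟩ | ⟨_, hb1⟩
  · exact key U' hU'R (by rw [ha, ha1, mul_one]) (fun u hu v hv => hUiso u (hU'U hu) v (hU'U hv))
  · exact key W' hW'R (by rw [hb, hb1, mul_one]) (fun u hu v hv => hWiso u (hW'W hu) v (hW'W hv))

end L4

end Cfsg.Agent.Lib.Carve
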