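import Mathlib
import Cfsg.Agent.Lib.Helper9.CubeUDefs
import Cfsg.Agent.Lib.Helper5.SSOrderU2
import Cfsg.Agent.Lib.Helper5.RegUnip5
import Cfsg.Agent.Lib.Helper5.UnipForm2

/-!
# Carve-out U3d for S2511: a regular unipotent element of the standard unitary group

`J = 1 + N` (`N` the lower shift) is `GL`-conjugate to `(Jᴴ)⁻¹` (both are regular unipotent),
so by Wall's theorem `Cfsg.Agent.S2588.result` it is `GL`-conjugate to a unitary matrix.
-/

set_option autoImplicit false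

namespace Cfsg.Agent.Lib.Carve

open Polynomial Cfsg.Agent.S0278 Cfsg.Agent.Lib.Helper5.Wall Cfsg.Agent.Lib.Helper5.SUConj
  Cfsg.Agent.Lib.Helper5.SSOrder Cfsg.Agent.Lib.Helper9.CubeU

universe u

namespace U3

section conj

open Cfsg.Agent.Lib.Helper5.RegUnip Matrix Module

variable {ι : Type*} [Fintype ι] [DecidableEq ι] {K : Type*} [Field K]

/-- a cyclic basis for a nilpotent matrix of maximal nilpotency index -/
theorem u3d_cyclic_basis (c : Matrix ι ι K) {n : ℕ} (hn : Fintype.card ι = n) (hpos : 0 < n)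
    (hc : c ^ n = 0) (hne : c ^ (n - 1) ≠ 0) :
    ∃ (v : ι → K) (b : Basis (Fin n) K (ι → K)), ∀ k : Fin n, b k = (c ^ (k : ℕ)).mulVec v := by
  obtain ⟨v, hv⟩ : ∃ v : ι → K, (c ^ (n - 1)).mulVec v ≠ 0 := by
    by_contra hcon
    push Not at hcon
    apply hne
    apply Matrix.toLin'.injective
    apply LinearMap.ext
    intro v
    rw [Matrix.toLin'_apply, hcon v, map_zero, LinearMap.zero_apply]
  have hli : LinearIndependent K (fun k : Fin n => (c ^ (k : ℕ)).mulVec v) := by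
    rw [Fintype.linearIndependent_iff]
    intro a ha
    have h1 : (P c a).mulVec v = 0 := by rw [P_mulVec]; exact ha
    have := E_injective c hc v hv a h1
    intro k
    rw [this]
    rfl
  have : Nonempty (Fin n) := ⟨⟨0, hpos⟩⟩
  refine ⟨v, basisOfLinearIndependentOfCardEqFinrank hli (by
    rw [finrank_fintype_fun_eq_card, Fintype.card_fin, hn]), ?_⟩
  intro k
  rw [coe_basisOfLinearIndependentOfCardEqFinrank]

/-- two nilpotent matrices of maximal nilpotency index are conjugate -/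
theorem u3d_conj_regular (c c' : Matrix ι ι K) {n : ℕ} (hn : Fintype.card ι = n) (hpos : 0 < n)
    (hc : c ^ n = 0) (hne : c ^ (n - 1) ≠ 0) (hc' : c' ^ n = 0) (hne' : c' ^ (n - 1) ≠ 0) :
    ∃ g gi : Matrix ι ι K, g * gi = 1 ∧ gi * g = 1 ∧ g * c = c' * g := by
  obtain ⟨v, b, hb⟩ := u3d_cyclic_basis c hn hpos hc hne
  obtain ⟨v', b', hb'⟩ := u3d_cyclic_basis c' hn hpos hc' hne'
  let e : (ι → K) ≃ₗ[K] (ι → K) := b.equiv b' (Equiv.refl _)
  refine ⟨LinearMap.toMatrix' e.toLinearMap, LinearMap.toMatrix' e.symm.toLinearMap, ?_, ?_, ?_⟩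
  · rw [← LinearMap.toMatrix'_comp]
    have : e.toLinearMap.comp e.symm.toLinearMap = LinearMap.id := by
      ext x; simp
    rw [this, LinearMap.toMatrix'_id]
  · rw [← LinearMap.toMatrix'_comp]
    have : e.symm.toLinearMap.comp e.toLinearMap = LinearMap.id := by
      ext x; simp
    rw [this, LinearMap.toMatrix'_id]
  · apply Matrix.toLin'.injective
    apply b.ext
    intro k
    rw [Matrix.toLin'_mul, Matrix.toLin'_mul, Matrix.toLin'_toMatrix', LinearMap.comp_apply,
      LinearMap.comp_apply, Matrix.toLin'_apply, Matrix.toLin'_apply]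
    have hek : e (b k) = b' k := by simp [e]
    show e (c.mulVec (b k)) = c'.mulVec (e (b k))
    rw [hek, hb, hb', Matrix.mulVec_mulVec, Matrix.mulVec_mulVec, ← pow_succ', ← pow_succ']
    by_cases hk : (k : ℕ) + 1 < n
    · have h1 := hb ⟨(k : ℕ) + 1, hk⟩
      have h1' := hb' ⟨(k : ℕ) + 1, hk⟩
      simp only at h1 h1'
      rw [← h1, ← h1']
      simp [e]
    · have : (k : ℕ) + 1 = n := by have := k.2; omega
      rw [this, hc, hc', Matrix.zero_mulVec, Matrix.zero_mulVec, map_zero]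

end conj

section shift

variable {K : Type*} [Field K]

theorem u3d_shift_pow (m : ℕ) :
    (Cfsg.Agent.Lib.Helper5.RegUnip.shiftM m : Matrix (Fin m) (Fin m) K) ^ m = 0 :=
  Cfsg.Agent.Lib.Helper5.UnipForm.shiftM_pow m

theorem u3d_shift_pow_pred_ne {m : ℕ} (hm : 1 ≤ m) :
    (Cfsg.Agent.Lib.Helper5.RegUnip.shiftM m : Matrix (Fin m) (Fin m) K) ^ (m - 1) ≠ 0 := by
  intro h0
  have h1 := Cfsg.Agent.Lib.Helper5.UnipForm.finrank_ker_shiftM_pow (F := K) m (m - 1)
  rw [← Matrix.toLin'_pow, h0, map_zero, LinearMap.ker_zero, finrank_top,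
    Module.finrank_fintype_fun_eq_card, Fintype.card_fin] at h1
  have : min m (m - 1) = m - 1 := min_eq_right (Nat.sub_le m 1)
  omega

theorem u3d_det_one_add_shift (m : ℕ) :
    (1 + Cfsg.Agent.Lib.Helper5.RegUnip.shiftM m : Matrix (Fin m) (Fin m) K).det = 1 := by
  rw [Matrix.det_of_isLowerTriangular]
  · apply Finset.prod_eq_one
    intro i _
    simp [Cfsg.Agent.Lib.Helper5.RegUnip.shiftM, Matrix.add_apply]
  · intro i j hij
    have hij' : i < j := hij
    have h1 : i ≠ j := ne_of_lt hij'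
    have h2 : ¬ ((i : ℕ) = (j : ℕ) + 1) := by
      have : (i : ℕ) < (j : ℕ) := hij'
      omega
    simp [Cfsg.Agent.Lib.Helper5.RegUnip.shiftM, Matrix.add_apply, h1, h2]

end shift

variable {F : Type u} [Field F] [Fintype F] {q : ℕ}

theorem u3d_ct_zero (hF : Fintype.card F = q ^ 2) {m : ℕ} :
    ct hF (0 : Matrix (Fin m) (Fin m) F) = 0 := by
  have h := ct_sub hF (1 : Matrix (Fin m) (Fin m) F) 1
  rwa [sub_self, sub_self] at h

theorem u3d_ct_eq_zero (hF : Fintype.card F = q ^ 2) {m : ℕ} (X : Matrix (Fin m) (Fin m) F)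
    (h : ct hF X = 0) : X = 0 := by
  rw [← ct_ct hF X, h, u3d_ct_zero]

/-- (U3d) a regular unipotent element of `SU_m(q)` -/
theorem exists_reg_unip (hF : Fintype.card F = q ^ 2) {m : ℕ} (hm : 1 ≤ m) :
    ∃ u : Matrix (Fin m) (Fin m) F, ct hF u * u = 1 ∧ u.det = 1 ∧ (u - 1) ^ m = 0 ∧
      (u - 1) ^ (m - 1) ≠ 0 := by
  classical
  set N : Matrix (Fin m) (Fin m) F := Cfsg.Agent.Lib.Helper5.RegUnip.shiftM m with hNdef
  have hN : N ^ m = 0 := u3d_shift_pow m
  have hN' : N ^ (m - 1) ≠ 0 := u3d_shift_pow_pred_ne hm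
  have hJu : IsUnit (1 + N) := IsNilpotent.isUnit_one_add ⟨m, hN⟩
  set A : GL (Fin m) F := hJu.unit with hA
  have hAval : (A : Matrix (Fin m) (Fin m) F) = 1 + N := IsUnit.unit_spec hJu
  set Ai : Matrix (Fin m) (Fin m) F := ((A⁻¹ : GL (Fin m) F) : Matrix (Fin m) (Fin m) F) with hAi
  have h1 : (1 + N) * Ai = 1 := by rw [← hAval]; exact Units.mul_inv A
  have h2 : Ai * (1 + N) = 1 := by rw [← hAval]; exact Units.inv_mul A
  -- `Ai` commutes with `N`
  have hcomm : Commute Ai N := by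
    have hc1 : Commute ((A : GL (Fin m) F) : Matrix (Fin m) (Fin m) F) N := by
      rw [hAval]
      exact (Commute.one_left N).add_left (Commute.refl N)
    exact hc1.units_inv_left
  have hAi1 : Ai - 1 = -(Ai * N) := by
    have : Ai + Ai * N = 1 := by rw [← h2, mul_add, mul_one]
    rw [← this]; abel
  have hpow : ∀ k : ℕ, (Ai - 1) ^ k = (-1) ^ k * (Ai ^ k * N ^ k) := by
    intro k
    rw [hAi1, neg_pow, hcomm.mul_pow]
  have hAi_m : (Ai - 1) ^ m = 0 := by rw [hpow, hN, mul_zero, mul_zero]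
  have hAi_m1 : (Ai - 1) ^ (m - 1) ≠ 0 := by
    intro h0
    apply hN'
    have h3 : (1 + N) ^ (m - 1) * Ai ^ (m - 1) = 1 := by
      have hc2 : Commute (1 + N) Ai := by
        have : Commute Ai (1 + N) := (Commute.one_right Ai).add_right hcomm
        exact this.symm
      rw [← hc2.mul_pow, h1, one_pow]
    have h5 : Ai ^ (m - 1) * N ^ (m - 1) = 0 := by
      have h6 := hpow (m - 1)
      rw [h0] at h6
      exact neg_one_pow_mul_eq_zero_iff.1 h6.symm
    have h8 : N ^ (m - 1) = (1 + N) ^ (m - 1) * (Ai ^ (m - 1) * N ^ (m - 1)) := by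
      rw [← mul_assoc, h3, one_mul]
    rw [h8, h5, mul_zero]
  -- the matrix `A' = ct Ai`
  set A' : Matrix (Fin m) (Fin m) F := ct hF Ai with hA'
  have hA'1 : A' - 1 = ct hF (Ai - 1) := by rw [ct_sub, ct_one]
  have hA'm : (A' - 1) ^ m = 0 := by rw [hA'1, ← ct_pow, hAi_m, u3d_ct_zero]
  have hA'm1 : (A' - 1) ^ (m - 1) ≠ 0 := by
    rw [hA'1, ← ct_pow]
    intro h0
    exact hAi_m1 (u3d_ct_eq_zero hF _ h0)
  obtain ⟨g, gi, hg1, hg2, hg3⟩ := u3d_conj_regular N (A' - 1) (Fintype.card_fin m)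
    (by omega) hN hN' hA'm hA'm1
  have hsemi : g * (1 + N) = A' * g := by
    rw [mul_add, mul_one, hg3, sub_mul, one_mul]; abel
  -- Wall's criterion
  have hconjM : IsConj (A : Matrix (Fin m) (Fin m) F)
      (((A : Matrix (Fin m) (Fin m) F).map (fun x : F => x ^ q)).transpose)⁻¹ := by
    have h3 : (((A : Matrix (Fin m) (Fin m) F).map (fun x : F => x ^ q)).transpose)⁻¹ = A' := by
      apply Matrix.inv_eq_right_inv
      show ct hF (A : Matrix (Fin m) (Fin m) F) * ct hF Ai = 1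
      rw [← ct_mul, hAval, h2, ct_one]
    rw [h3, hAval]
    exact ⟨⟨g, gi, hg1, hg2⟩, hsemi⟩
  obtain ⟨B, hB⟩ := (Cfsg.Agent.S2588.result hF A).2 hconjM
  rw [isConj_iff] at hB
  obtain ⟨c, hc⟩ := hB
  set cm : Matrix (Fin m) (Fin m) F := (c : Matrix (Fin m) (Fin m) F) with hcm
  set ci : Matrix (Fin m) (Fin m) F := ((c⁻¹ : GL (Fin m) F) : Matrix (Fin m) (Fin m) F) with hci
  have hcc : cm * ci = 1 := Units.mul_inv c
  have hcc' : ci * cm = 1 := Units.inv_mul c
  have hBval : ((B : GL (Fin m) F) : Matrix (Fin m) (Fin m) F) = cm * (1 + N) * ci := by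
    rw [← hc, Units.val_mul, Units.val_mul, hAval]
  have hB1 : ((B : GL (Fin m) F) : Matrix (Fin m) (Fin m) F) - 1 = cm * N * ci := by
    rw [hBval, mul_add, mul_one, add_mul, hcc]; abel
  have hBpow : ∀ k : ℕ, (cm * N * ci) ^ k = cm * N ^ k * ci := by
    intro k
    induction k with
    | zero => rw [pow_zero, pow_zero, mul_one, hcc]
    | succ k ih =>
      rw [pow_succ, ih, pow_succ]
      calc cm * N ^ k * ci * (cm * N * ci) = cm * N ^ k * (ci * cm) * N * ci := by
            simp only [mul_assoc]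
        _ = cm * (N ^ k * N) * ci := by rw [hcc', mul_one]; simp only [mul_assoc]
  refine ⟨((B : GL (Fin m) F) : Matrix (Fin m) (Fin m) F), ?_, ?_, ?_, ?_⟩
  · exact (mem_GU_iff hF (B : GL (Fin m) F)).1 B.2
  · rw [hBval, Matrix.det_mul, Matrix.det_mul, u3d_det_one_add_shift, mul_one, ← Matrix.det_mul, hcc,
      Matrix.det_one]
  · rw [hB1, hBpow, hN, mul_zero, zero_mul]
  · rw [hB1, hBpow]
    intro h0
    apply hN'
    have : N ^ (m - 1) = ci * (cm * N ^ (m - 1) * ci) * cm := by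
      simp only [← mul_assoc]
      rw [hcc', one_mul, mul_assoc, hcc', mul_one]
    rw [this, h0, mul_zero, zero_mul]

end U3

end Cfsg.Agent.Lib.Carve
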