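import Mathlib
import Cfsg.Agent.Lib.Helper9.CubeUDefs
import Cfsg.Agent.Lib.Helper5.HermRes
import Cfsg.Agent.Lib.Helper5.SSOrder3

/-!
# Carve-out U6 for S2511: bounds for the projective order from the minimal polynomial
-/

set_option autoImplicit false

namespace Cfsg.Agent.Lib.Carve

open Polynomial Cfsg.Agent.S0278 Cfsg.Agent.Lib.Helper5.Wall Cfsg.Agent.Lib.Helper5.SUConj
  Cfsg.Agent.Lib.Helper5.SSOrder Cfsg.Agent.Lib.Helper9.CubeU Cfsg.Agent.Lib.Helper5.Pal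

universe u

namespace U6

variable {F : Type u} [Field F] [Fintype F] {q : ℕ}

/-- the common endgame: `minpoly g = h ^ e`, `h ∣ X ^ M - c`, `e ≤ p ^ τ` -/
theorem u6_pow_eq_smul (p : ℕ) [Fact p.Prime] [CharP F p] {n : ℕ}
    (g : Matrix (Fin n) (Fin n) F) (h : F[X]) (e τ M : ℕ) (c : F)
    (hμ : minpoly F g = h ^ e) (hτ : e ≤ p ^ τ) (hdvd : h ∣ X ^ M - C c) :
    g ^ (p ^ τ * M) = (c ^ p ^ τ) • (1 : Matrix (Fin n) (Fin n) F) := by
  have h1 : minpoly F g ∣ (X ^ M - C c) ^ (p ^ τ) := by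
    rw [hμ]
    exact (pow_dvd_pow h hτ).trans (pow_dvd_pow_of_dvd hdvd _)
  have h2 : (X ^ M - C c : F[X]) ^ (p ^ τ) = X ^ (p ^ τ * M) - C (c ^ p ^ τ) := by
    rw [sub_pow_char_pow, ← pow_mul, ← C_pow, mul_comm]
  rw [h2] at h1
  have h3 : aeval g (X ^ (p ^ τ * M) - C (c ^ p ^ τ) : F[X]) = 0 := by
    obtain ⟨k, hk⟩ := h1
    rw [hk, map_mul, minpoly.aeval, zero_mul]
  rw [map_sub, map_pow, aeval_X, aeval_C, sub_eq_zero] at h3
  rw [h3, Algebra.algebraMap_eq_smul_one]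

/-- `q ≠ 0` -/
theorem u6_q_pos (hF : Fintype.card F = q ^ 2) : 0 < q := by
  rcases Nat.eq_zero_or_pos q with h | h
  · rw [h] at hF
    have := Fintype.card_pos (α := F)
    simp at hF
  · exact h

theorem u6_sq_eq (hq : 0 < q) : q ^ 2 = (q + 1) * (q - 1) + 1 := by
  obtain ⟨k, rfl⟩ : ∃ k, q = k + 1 := ⟨q - 1, by omega⟩
  simp only [Nat.add_sub_cancel]
  ring

section root

variable (f : F[X]) [Fact (Irreducible f)]

/-- the root field is finite -/
theorem u6_finite (hf : f.Monic) : Finite (AdjoinRoot f) := by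
  have : Module.Finite F (AdjoinRoot f) := hf.finite_adjoinRoot
  exact Module.finite_of_finite F

theorem u6_root_ne_zero (h0 : f.coeff 0 ≠ 0) : AdjoinRoot.root f ≠ 0 := by
  intro h
  have hroot : aeval (AdjoinRoot.root f) f = 0 := AdjoinRoot.eval₂_root f
  rw [h, ← coeff_zero_eq_aeval_zero'] at hroot
  exact h0 ((map_eq_zero _).1 hroot)

theorem u6_finrank (hf : f.Monic) : Module.finrank F (AdjoinRoot f) = f.natDegree := by
  rw [(AdjoinRoot.powerBasis hf.ne_zero).finrank, AdjoinRoot.powerBasis_dim]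

/-- `x ^ (|F| ^ d) = x` in the root field -/
theorem u6_pow_card_pow (hf : f.Monic) (x : AdjoinRoot f) :
    x ^ (Fintype.card F ^ f.natDegree) = x := by
  have := u6_finite f hf
  have : Fintype (AdjoinRoot f) := Fintype.ofFinite _
  have hc : Fintype.card (AdjoinRoot f) = Fintype.card F ^ f.natDegree := by
    rw [← u6_finrank f hf]
    exact Module.card_eq_pow_finrank
  rw [← hc, FiniteField.pow_card]

/-- if `β ^ M` lies in `F` then `f ∣ X ^ M - c` -/
theorem u6_dvd_of_root_pow (M : ℕ) (c : F)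
    (h : AdjoinRoot.root f ^ M = algebraMap F (AdjoinRoot f) c) : f ∣ X ^ M - C c := by
  rw [← AdjoinRoot.mk_eq_zero, ← AdjoinRoot.aeval_eq, map_sub, map_pow, aeval_X, aeval_C, h,
    sub_self]

/-- an element of the root field with `x ^ (q + 1) = 1` lies in `F` -/
theorem u6_mem_base (hF : Fintype.card F = q ^ 2) (hf : f.Monic) (x : AdjoinRoot f)
    (hx : x ^ (q + 1) = 1) : ∃ c : F, algebraMap F (AdjoinRoot f) c = x := by
  have := u6_finite f hf
  have : Fintype (AdjoinRoot f) := Fintype.ofFinite _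
  have hq := u6_q_pos hF
  have h1 : x ^ Fintype.card F = x := by
    rw [hF, u6_sq_eq hq, pow_succ, pow_mul, hx, one_pow, one_mul]
  obtain ⟨c, hc⟩ := Cfsg.Agent.Lib.Helper5.HermRes.mem_range_of_pow_card_eq (F := F) h1
  exact ⟨c, hc⟩

/-- the conjugate-reciprocal root: `(β^q)⁻¹` is a root of `f†` -/
theorem u6_dag_root (hF : Fintype.card F = q ^ 2) (p : ℕ) [Fact p.Prime] [CharP F p]
    (h0 : f.coeff 0 ≠ 0) :
    aeval (AdjoinRoot.root f ^ q)⁻¹ (dag hF f) = 0 := by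
  set β := AdjoinRoot.root f with hβ
  have hq := u6_q_pos hF
  have hβ0 : β ≠ 0 := u6_root_ne_zero f h0
  have hroot : aeval β f = 0 := AdjoinRoot.eval₂_root f
  have h1 : aeval (β ^ q) (f.map (powQ hF)) = 0 := by
    rw [frobQ hF p, hroot, zero_pow hq.ne']
  let _ : Invertible (β ^ q) := invertibleOfNonzero (pow_ne_zero _ hβ0)
  have h11 : eval₂ (algebraMap F (AdjoinRoot f)) (⅟(β ^ q)) (reverse (f.map (powQ hF))) = 0 := by
    rw [eval₂_reverse_eq_zero_iff]
    exact h1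
  rw [invOf_eq_inv] at h11
  rw [dag, rc, map_mul, aeval_def, aeval_def, h11, mul_zero]

/-- `x ^ q = y ^ q → x = y` in the root field -/
theorem u6_pow_q_inj (hF : Fintype.card F = q ^ 2) (p : ℕ) [Fact p.Prime] [CharP F p]
    (x y : AdjoinRoot f) (h : x ^ q = y ^ q) : x = y := by
  obtain ⟨a, ha⟩ := exists_q_eq_pow hF p
  haveI : CharP (AdjoinRoot f) p :=
    charP_of_injective_algebraMap (algebraMap F (AdjoinRoot f)).injective p
  rw [ha] at h
  exact iterateFrobenius_inj (AdjoinRoot f) p a h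

end root

/-- the arithmetic core of the self-dual case: `d` is odd and `β ^ (q ^ d + 1) = 1`. -/
theorem u6_self_core (hF : Fintype.card F = q ^ 2) (p : ℕ) [Fact p.Prime] [CharP F p]
    (f : F[X]) [Fact (Irreducible f)] (hf : f.Monic) (h0 : f.coeff 0 ≠ 0)
    (hdag : dag hF f = f) :
    Odd f.natDegree ∧ AdjoinRoot.root f ^ (q ^ f.natDegree + 1) = 1 := by
  classical
  have := u6_finite f hf
  have : Fintype (AdjoinRoot f) := Fintype.ofFinite _
  set L := AdjoinRoot f with hL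
  set β : L := AdjoinRoot.root f with hβ
  set d := f.natDegree with hd
  set Q := Fintype.card F with hQ
  have hq := u6_q_pos hF
  have hβ0 : β ≠ 0 := u6_root_ne_zero f h0
  have hfr : Module.finrank F L = d := u6_finrank f hf
  -- `(β^q)⁻¹` is a root of `f`
  have hγ : aeval (β ^ q)⁻¹ f = 0 := by
    have := u6_dag_root f hF p h0
    rwa [hdag] at this
  -- the `F`-algebra endomorphism `θ` with `θ β = (β^q)⁻¹`
  set θ : L →ₐ[F] L := AdjoinRoot.liftAlgHom f (Algebra.ofId F L) (β ^ q)⁻¹ (by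
    have := hγ
    rw [aeval_def] at this
    exact this) with hθ
  have hθβ : θ β = (β ^ q)⁻¹ := AdjoinRoot.liftAlgHom_root _ _ _ _
  -- `θ` is a power of the Frobenius
  obtain ⟨i, hi⟩ := (FiniteField.bijective_frobeniusAlgHom_pow F L).2 θ
  have hiβ : β ^ (Q ^ (i : ℕ)) = (β ^ q)⁻¹ := by
    have h2 := congrArg (fun ψ : L →ₐ[F] L => ψ β) hi
    simp only at h2
    rw [hθβ, AlgHom.coe_pow, FiniteField.coe_frobeniusAlgHom, pow_iterate] at h2
    exact h2
  -- `β ^ (Q ^ k) = β → d ∣ k`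
  have hdvd : ∀ k : ℕ, β ^ (Q ^ k) = β → d ∣ k := by
    intro k hk
    have h3 : (FiniteField.frobeniusAlgHom F L) ^ k = 1 := by
      apply AdjoinRoot.algHom_ext
      rw [AlgHom.coe_pow, FiniteField.coe_frobeniusAlgHom, pow_iterate, AlgHom.one_apply]
      exact hk
    have h4 := orderOf_dvd_of_pow_eq_one h3
    rw [FiniteField.orderOf_frobeniusAlgHom, hfr] at h4
    exact h4
  have hfull : ∀ x : L, x ^ (Q ^ d) = x := fun x => u6_pow_card_pow f hf x
  have hiter : ∀ r : ℕ, β ^ (Q ^ (d * r)) = β := by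
    intro r
    induction r with
    | zero => rw [mul_zero, pow_zero, pow_one]
    | succ r ih => rw [mul_add, mul_one, pow_add, pow_mul, ih, hfull]
  have hQq : ∀ k : ℕ, Q ^ k = q ^ (2 * k) := by
    intro k
    first | rw [hF, ← pow_mul] | rw [hQ, hF, ← pow_mul]
  -- `β ^ (Q^i) * β ^ q = 1`
  have hrel : β ^ (Q ^ (i : ℕ)) * β ^ q = 1 := by
    rw [hiβ, inv_mul_cancel₀ (pow_ne_zero _ hβ0)]
  rcases Nat.eq_zero_or_pos (i : ℕ) with hi0 | hipos
  · -- `i = 0`: `β ^ (q + 1) = 1`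
    rw [hi0, pow_zero, pow_one, ← pow_succ'] at hrel
    have h5 : β ^ (Q ^ 1) = β := by
      rw [pow_one, hF, u6_sq_eq hq, pow_succ, pow_mul, hrel, one_pow, one_mul]
    have h6 : d ∣ 1 := hdvd 1 h5
    have h7 : d = 1 := Nat.dvd_one.1 h6
    refine ⟨by rw [h7]; exact odd_one, ?_⟩
    rw [h7, pow_one]
    exact hrel
  · -- `i ≥ 1`, `j = 2 i - 1`
    obtain ⟨j, hj⟩ : ∃ j, 2 * (i : ℕ) = j + 1 := ⟨2 * (i : ℕ) - 1, by omega⟩
    have h5 : (β ^ (q ^ j) * β) ^ q = 1 ^ q := by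
      rw [mul_pow, ← pow_mul, ← pow_succ, ← hj, ← hQq, one_pow]
      exact hrel
    have h6 : β ^ (q ^ j) * β = 1 := u6_pow_q_inj f hF p _ _ h5
    have h7 : β ^ (q ^ j) = β⁻¹ := eq_inv_of_mul_eq_one_left h6
    have h8 : β ^ (Q ^ j) = β := by
      rw [hQq, two_mul, pow_add, pow_mul, h7, inv_pow, h7, inv_inv]
    obtain ⟨s, hs⟩ := hdvd j h8
    have hjodd : Odd j := by
      rw [Nat.odd_iff]
      omega
    have hdodd : Odd d := by
      rw [hs] at hjodd
      exact (Nat.odd_mul.1 hjodd).1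
    have hsodd : Odd s := by
      rw [hs] at hjodd
      exact (Nat.odd_mul.1 hjodd).2
    obtain ⟨r, hr⟩ := hsodd
    refine ⟨hdodd, ?_⟩
    have h9 : β ^ (q ^ d) = β⁻¹ := by
      have h10 : q ^ j = q ^ (2 * (d * r)) * q ^ d := by
        rw [← pow_add, hs, hr]
        congr 1
        ring
      rw [h10, pow_mul, ← hQq, hiter] at h7
      exact h7
    rw [pow_succ, h9, inv_mul_cancel₀ hβ0]

/-- (U6) self-dual case -/
theorem bound_self (hF : Fintype.card F = q ^ 2) (p : ℕ) [Fact p.Prime] [CharP F p] {n : ℕ}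
    (g : Matrix (Fin n) (Fin n) F) (f : F[X]) (hf : f.Monic) (hirr : Irreducible f)
    (h0 : f.coeff 0 ≠ 0) (hdag : dag hF f = f) (e τ : ℕ) (hμ : minpoly F g = f ^ e)
    (hτ : e ≤ p ^ τ) :
    Odd f.natDegree ∧
      ∃ c : F, g ^ (p ^ τ * ((q ^ f.natDegree + 1) / (q + 1))) = c • 1 := by
  haveI : Fact (Irreducible f) := ⟨hirr⟩
  obtain ⟨hodd, hβ⟩ := u6_self_core hF p f hf h0 hdag
  refine ⟨hodd, ?_⟩
  have hdiv : q + 1 ∣ q ^ f.natDegree + 1 := by
    have := Odd.nat_add_dvd_pow_add_pow q 1 hodd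
    rwa [one_pow] at this
  set M := (q ^ f.natDegree + 1) / (q + 1) with hM
  have hMq : M * (q + 1) = q ^ f.natDegree + 1 := Nat.div_mul_cancel hdiv
  have h1 : (AdjoinRoot.root f ^ M) ^ (q + 1) = 1 := by
    rw [← pow_mul, hMq, hβ]
  obtain ⟨c, hc⟩ := u6_mem_base f hF hf _ h1
  have hdvd := u6_dvd_of_root_pow f M c hc.symm
  exact ⟨c ^ p ^ τ, u6_pow_eq_smul p g f e τ M c hμ hτ hdvd⟩

/-- (U6) non-self-dual case -/
theorem bound_pair (hF : Fintype.card F = q ^ 2) (p : ℕ) [Fact p.Prime] [CharP F p] {n : ℕ}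
    (g : Matrix (Fin n) (Fin n) F) (f : F[X]) (hf : f.Monic) (hirr : Irreducible f)
    (h0 : f.coeff 0 ≠ 0) (hdag : dag hF f ≠ f) (e τ : ℕ)
    (hμ : minpoly F g = (f * dag hF f) ^ e) (hτ : e ≤ p ^ τ) :
    ∃ c : F, g ^ (p ^ τ * ((q ^ (2 * f.natDegree) - 1) / (q + 1))) = c • 1 := by
  haveI : Fact (Irreducible f) := ⟨hirr⟩
  set L := AdjoinRoot f with hL
  set β : L := AdjoinRoot.root f with hβ
  set d := f.natDegree with hd
  have hq := u6_q_pos hF
  have hβ0 : β ≠ 0 := u6_root_ne_zero f h0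
  -- `β ^ (q^(2d) - 1) = 1`
  have hpos : 0 < q ^ (2 * d) := pow_pos hq _
  have hβ1 : β ^ (q ^ (2 * d) - 1) = 1 := by
    have h1 := u6_pow_card_pow f hf β
    rw [hF, ← pow_mul] at h1
    have h2 : β ^ (q ^ (2 * d) - 1) * β = 1 * β := by
      rw [← pow_succ, Nat.sub_add_cancel hpos, one_mul]
      exact h1
    exact mul_right_cancel₀ hβ0 h2
  have hdiv : q + 1 ∣ q ^ (2 * d) - 1 := by
    have h1 : q ^ 2 - 1 ∣ (q ^ 2) ^ d - 1 := Nat.sub_one_dvd_pow_sub_one (q ^ 2) d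
    rw [← pow_mul] at h1
    have h2 : q + 1 ∣ q ^ 2 - 1 := by
      refine ⟨q - 1, ?_⟩
      rw [u6_sq_eq hq]
      simp
    exact h2.trans h1
  set M := (q ^ (2 * d) - 1) / (q + 1) with hM
  have hMq : M * (q + 1) = q ^ (2 * d) - 1 := Nat.div_mul_cancel hdiv
  have h1 : (β ^ M) ^ (q + 1) = 1 := by
    rw [← pow_mul, hMq, hβ1]
  obtain ⟨c, hc⟩ := u6_mem_base f hF hf _ h1
  have hdvd1 : f ∣ X ^ M - C c := u6_dvd_of_root_pow f M c hc.symm
  -- the second factor
  have hmap0 : (f.map (powQ hF)).coeff 0 ≠ 0 := by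
    rw [coeff_map]
    exact (_root_.map_ne_zero _).2 h0
  have hdirr : Irreducible (dag hF f) := irreducible_rc (irreducible_map_powQ hF hirr) hmap0
  have hdmon : (dag hF f).Monic := Cfsg.Agent.Lib.Helper5.Pal.rc_monic hmap0
  have hroot2 : aeval (β ^ q)⁻¹ (dag hF f) = 0 := u6_dag_root f hF p h0
  have hdvd2 : dag hF f ∣ X ^ M - C c := by
    have h2 : minpoly F ((β ^ q)⁻¹) = dag hF f :=
      (minpoly.eq_of_irreducible_of_monic hdirr hroot2 hdmon).symm
    rw [← h2]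
    apply minpoly.dvd
    rw [map_sub, map_pow, aeval_X, aeval_C, hc, inv_pow, ← pow_mul, mul_comm q M, pow_mul]
    -- `((β^M)^q)⁻¹ = β^M`
    have h3 : (β ^ M) ^ q * β ^ M = 1 := by rw [← pow_succ]; exact h1
    rw [sub_eq_zero]
    exact inv_eq_of_mul_eq_one_right h3
  have hcop : IsCoprime f (dag hF f) := by
    rw [hirr.coprime_iff_not_dvd]
    intro hdv
    apply hdag
    have hdeg : (dag hF f).natDegree = f.natDegree := by
      rw [dag, Cfsg.Agent.Lib.Helper5.Pal.rc_natDegree hmap0, natDegree_map]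
    exact (Polynomial.eq_of_monic_of_dvd_of_natDegree_le hf hdmon hdv (le_of_eq hdeg))
  have hdvd : f * dag hF f ∣ X ^ M - C c := hcop.mul_dvd hdvd1 hdvd2
  exact ⟨c ^ p ^ τ, u6_pow_eq_smul p g (f * dag hF f) e τ M c hμ hτ hdvd⟩

end U6

end Cfsg.Agent.Lib.Carve
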