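import Mathlib
import Cfsg.Agent.Lib.Helper3.CharP1

set_option autoImplicit false
set_option linter.unusedSectionVars false

/-!
Ambient lemmas for S3246: a Sylow 2-subgroup normalizes no nontrivial odd-order subgroup when all
involution centralizers have a normal 2-subgroup containing its centralizer.
-/

namespace Cfsg.Agent.Lib.Helper8.ChTwo

variable {G : Type*} [Group G] [Finite G]

/-- `H` has a normal 2-subgroup containing its own centralizer in `H` -/
def CFC (H : Subgroup G) : Prop :=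
  ∃ R : Subgroup G, R ≤ H ∧ IsPGroup 2 R ∧ H ≤ Subgroup.normalizer (R : Set G) ∧
    Subgroup.centralizer (R : Set G) ⊓ H ≤ R

theorem eq_one_of_odd_of_two {R : Subgroup G} (hR : IsPGroup 2 R) {x : G} (hxR : x ∈ R)
    (hodd : Odd (orderOf x)) : x = 1 := by
  obtain ⟨k, hk⟩ := hR ⟨x, hxR⟩
  have hk' : x ^ 2 ^ k = 1 := by simpa using congrArg Subtype.val hk
  have h1 : orderOf x ∣ 2 ^ k := orderOf_dvd_of_pow_eq_one hk'
  have h3 : Nat.Coprime (orderOf x) (2 ^ k) :=
    Nat.Coprime.pow_right k (Nat.coprime_two_right.mpr hodd)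
  exact orderOf_eq_one_iff.mp (Nat.Coprime.eq_one_of_dvd h3 h1)

theorem odd_orderOf_of_mem {X : Subgroup G} (hX : Odd (Nat.card X)) {x : G} (hx : x ∈ X) :
    Odd (orderOf x) :=
  Odd.of_dvd_nat hX (Subgroup.orderOf_dvd_natCard X hx)

theorem conj_pow_step {y a c : G} (hyc : y * c = c * y) (h : y * a * y⁻¹ = c * a) (k : ℕ) :
    y ^ k * a * (y ^ k)⁻¹ = c ^ k * a := by
  induction k with
  | zero => simp
  | succ k ih =>
    have hyck : y * c ^ k = c ^ k * y := (Commute.pow_right (show Commute y c from hyc) k).eq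
    calc y ^ (k + 1) * a * (y ^ (k + 1))⁻¹ = y * (y ^ k * a * (y ^ k)⁻¹) * y⁻¹ := by
          rw [pow_succ']; group
      _ = y * (c ^ k * a) * y⁻¹ := by rw [ih]
      _ = (y * c ^ k) * a * y⁻¹ := by group
      _ = c ^ k * (y * a * y⁻¹) := by rw [hyck]; group
      _ = c ^ (k + 1) * a := by rw [h, pow_succ]; group

/-- an odd-order element normalizing a 2-group `R` and centralizing "half" of it centralizes `R` -/
theorem commute_of_index_two {R : Subgroup G} (hR : IsPGroup 2 R) {y : G} (hy : Odd (orderOf y))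
    (hyR : y ∈ Subgroup.normalizer (R : Set G)) {a : G} (haR : a ∈ R)
    (h : ∀ r ∈ R, (y * (r * a) = (r * a) * y) ∨ (y * r = r * y)) :
    ∀ r ∈ R, y * r = r * y := by
  have hya : y * a = a * y := by
    have hrR : y * a⁻¹ * y⁻¹ ∈ R := (Subgroup.mem_normalizer_iff.mp hyR _).mp (R.inv_mem haR)
    rcases h _ hrR with h1 | h1
    · -- c := y a⁻¹ y⁻¹ a commutes with y
      set c := y * a⁻¹ * y⁻¹ * a with hc
      have hcR : c ∈ R := R.mul_mem hrR haR
      have h2 : y * a⁻¹ * y⁻¹ = c * a⁻¹ := by rw [hc]; group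
      have h3 := conj_pow_step h1 h2 (orderOf y)
      rw [pow_orderOf_eq_one] at h3
      have h4 : c ^ orderOf y = 1 := by
        have : a⁻¹ = c ^ orderOf y * a⁻¹ := by simpa using h3
        calc c ^ orderOf y = c ^ orderOf y * a⁻¹ * a := by group
          _ = a⁻¹ * a := by rw [← this]
          _ = 1 := by group
      have h5 : Odd (orderOf c) := Odd.of_dvd_nat hy (orderOf_dvd_of_pow_eq_one h4)
      have h6 : c = 1 := eq_one_of_odd_of_two hR hcR h5
      have h7 : y * a⁻¹ * y⁻¹ = a⁻¹ := by rw [h2, h6, one_mul]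
      calc y * a = (y * a⁻¹ * y⁻¹)⁻¹ * y := by group
        _ = a * y := by rw [h7, inv_inv]
    · have h7 : y * a⁻¹ * y⁻¹ = a⁻¹ := by
        have : y * (y * a⁻¹ * y⁻¹) * y⁻¹ = y * a⁻¹ * y⁻¹ := by rw [h1]; group
        calc y * a⁻¹ * y⁻¹ = y⁻¹ * (y * (y * a⁻¹ * y⁻¹) * y⁻¹) * y := by group
          _ = y⁻¹ * (y * a⁻¹ * y⁻¹) * y := by rw [this]
          _ = a⁻¹ := by group
      calc y * a = (y * a⁻¹ * y⁻¹)⁻¹ * y := by group
        _ = a * y := by rw [h7, inv_inv]
  intro r hr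
  rcases h r hr with h1 | h1
  · calc y * r = y * (r * a) * a⁻¹ := by group
      _ = r * a * y * a⁻¹ := by rw [h1]
      _ = r * (a * y) * a⁻¹ := by group
      _ = r * (y * a) * a⁻¹ := by rw [hya]
      _ = r * y := by group
  · exact h1

/-- Claim B: if `C_S(b)` has index at most 2 in the Sylow 2-subgroup `S`, which normalizes the odd-order
group `X`, and `C_G(b)` has a normal 2-subgroup containing its centralizer, then `C_X(b) = 1`. -/
theorem inf_centralizer_eq_bot (S : Sylow 2 G) {X : Subgroup G} (hX : Odd (Nat.card X))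
    (hSX : (S : Subgroup G) ≤ Subgroup.normalizer (X : Set G)) (b : G)
    (hidx : ((S : Subgroup G) ⊓ Subgroup.centralizer ({b} : Set G)).relIndex (S : Subgroup G) ∣ 2)
    (hb : CFC (Subgroup.centralizer ({b} : Set G))) :
    X ⊓ Subgroup.centralizer ({b} : Set G) = ⊥ := by
  obtain ⟨R, hRH, hR2, hHR, hCR⟩ := hb
  set H := Subgroup.centralizer ({b} : Set G) with hH
  set T := (S : Subgroup G) ⊓ H with hT
  have hTS : T ≤ (S : Subgroup G) := inf_le_left
  have hT2 : IsPGroup 2 T := S.isPGroup'.to_le hTS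
  have hTR : T ≤ Subgroup.normalizer (R : Set G) := inf_le_right.trans hHR
  have hTs2 : IsPGroup 2 (R ⊔ T : Subgroup G) := IsPGroup.to_sup_of_normal_left' hR2 hT2 hTR
  have hle : Nat.card (R ⊔ T : Subgroup G) ≤ Nat.card (S : Subgroup G) := by
    obtain ⟨Q, hQ⟩ := hTs2.exists_le_sylow
    have h1 := Subgroup.card_le_of_le hQ
    rw [Sylow.card_eq_multiplicity] at h1
    rw [Sylow.card_eq_multiplicity]
    exact h1
  have hcT : Nat.card T * T.relIndex (S : Subgroup G) = Nat.card (S : Subgroup G) := by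
    have := Subgroup.relIndex_mul_relIndex (⊥ : Subgroup G) T (S : Subgroup G) bot_le hTS
    rwa [Subgroup.relIndex_bot_left, Subgroup.relIndex_bot_left] at this
  have hcT' : Nat.card T * T.relIndex (R ⊔ T) = Nat.card (R ⊔ T : Subgroup G) := by
    have := Subgroup.relIndex_mul_relIndex (⊥ : Subgroup G) T (R ⊔ T) bot_le le_sup_right
    rwa [Subgroup.relIndex_bot_left, Subgroup.relIndex_bot_left] at this
  have hTpos : 0 < Nat.card T := Nat.card_pos
  have h2 : T.relIndex (S : Subgroup G) ≤ 2 := Nat.le_of_dvd (by norm_num) hidx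
  have hrel : T.relIndex (R ⊔ T) ≤ 2 := by
    have h3 : Nat.card T * T.relIndex (R ⊔ T) ≤ Nat.card T * 2 := by
      calc Nat.card T * T.relIndex (R ⊔ T) = Nat.card (R ⊔ T : Subgroup G) := hcT'
        _ ≤ Nat.card (S : Subgroup G) := hle
        _ = Nat.card T * T.relIndex (S : Subgroup G) := hcT.symm
        _ ≤ Nat.card T * 2 := Nat.mul_le_mul_left _ h2
    exact Nat.le_of_mul_le_mul_left h3 hTpos
  have hne : T.relIndex (R ⊔ T) ≠ 0 := by
    intro h0
    rw [h0, mul_zero] at hcT'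
    have : 0 < Nat.card (R ⊔ T : Subgroup G) := Nat.card_pos
    omega
  have hrelR : T.relIndex R ≤ 2 := (Subgroup.relIndex_le_of_le_right le_sup_left hne).trans hrel
  have hneR : T.relIndex R ≠ 0 := by
    intro h0
    have h1 : T.relIndex R ∣ Nat.card R := Subgroup.relIndex_dvd_card T R
    rw [h0, zero_dvd_iff] at h1
    have : 0 < Nat.card R := Nat.card_pos
    omega
  have hdvd : T.relIndex R ∣ 2 := by
    have : T.relIndex R = 1 ∨ T.relIndex R = 2 := by omega
    rcases this with h | h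
    · rw [h]; exact one_dvd _
    · rw [h]
  obtain ⟨a, haR, ha⟩ := Subgroup.relIndex_dvd_two_iff.mp hdvd
  rw [eq_bot_iff]
  rintro y ⟨hyX, hyH⟩
  rw [Subgroup.mem_bot]
  have hyodd : Odd (orderOf y) := odd_orderOf_of_mem hX hyX
  have hyR : y ∈ Subgroup.normalizer (R : Set G) := hHR hyH
  -- `y` commutes with `R ∩ T`
  have hcomm : ∀ r ∈ R, r ∈ T → y * r = r * y := by
    intro r hrR hrT
    have hrX : r ∈ Subgroup.normalizer (X : Set G) := hSX (hTS hrT)
    set c := y * r * y⁻¹ * r⁻¹ with hc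
    have hcR : c ∈ R := R.mul_mem ((Subgroup.mem_normalizer_iff.mp hyR _).mp hrR) (R.inv_mem hrR)
    have hcX : c ∈ X := by
      have h1 : r * y⁻¹ * r⁻¹ ∈ X := (Subgroup.mem_normalizer_iff.mp hrX _).mp (X.inv_mem hyX)
      have h2 : c = y * (r * y⁻¹ * r⁻¹) := by rw [hc]; group
      rw [h2]; exact X.mul_mem hyX h1
    have hc1 : c = 1 := eq_one_of_odd_of_two hR2 hcR (odd_orderOf_of_mem hX hcX)
    calc y * r = c * (r * y) := by rw [hc]; group
      _ = r * y := by rw [hc1, one_mul]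
  have hall : ∀ r ∈ R, y * r = r * y := by
    apply commute_of_index_two hR2 hyodd hyR haR
    intro r hr
    rcases ha r hr with h1 | h1
    · exact Or.inl (hcomm _ (R.mul_mem hr haR) h1)
    · exact Or.inr (hcomm r hr h1)
  have hyC : y ∈ Subgroup.centralizer (R : Set G) := by
    rw [Subgroup.mem_centralizer_iff]
    intro r hr
    exact (hall r hr).symm
  exact eq_one_of_odd_of_two hR2 (hCR ⟨hyC, hyH⟩) hyodd

/-- a fixed-point-free involution inverts -/
theorem conj_eq_inv_of_fpf {X : Subgroup G} {z : G} (hzX : z ∈ Subgroup.normalizer (X : Set G))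
    (hz2 : z ^ 2 = 1) (hfix : X ⊓ Subgroup.centralizer ({z} : Set G) = ⊥) :
    ∀ x ∈ X, z * x * z⁻¹ = x⁻¹ := by
  have hzz : z * z = 1 := by rw [← sq]; exact hz2
  have hzinv : z⁻¹ = z := inv_eq_of_mul_eq_one_right hzz
  have hmem : ∀ x : ↥X, (x : G)⁻¹ * (z * x * z⁻¹) ∈ X := fun x =>
    X.mul_mem (X.inv_mem x.2) ((Subgroup.mem_normalizer_iff.mp hzX _).mp x.2)
  let f : ↥X → ↥X := fun x => ⟨(x : G)⁻¹ * (z * x * z⁻¹), hmem x⟩
  have hinj : Function.Injective f := by
    intro x y hxy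
    have h1 : (x : G)⁻¹ * (z * x * z⁻¹) = (y : G)⁻¹ * (z * y * z⁻¹) := congrArg Subtype.val hxy
    have h2 : z * ((y : G) * (x : G)⁻¹) = ((y : G) * (x : G)⁻¹) * z := by
      calc z * ((y : G) * (x : G)⁻¹) = (y : G) * ((y : G)⁻¹ * (z * y * z⁻¹)) * z * (x : G)⁻¹ := by group
        _ = (y : G) * ((x : G)⁻¹ * (z * x * z⁻¹)) * z * (x : G)⁻¹ := by rw [h1]
        _ = ((y : G) * (x : G)⁻¹) * z := by group
    have h3 : (y : G) * (x : G)⁻¹ ∈ X ⊓ Subgroup.centralizer ({z} : Set G) :=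
      ⟨X.mul_mem y.2 (X.inv_mem x.2), Subgroup.mem_centralizer_singleton_iff.mpr h2.symm⟩
    rw [hfix, Subgroup.mem_bot] at h3
    apply Subtype.ext
    exact (mul_inv_eq_one.mp h3).symm
  have hsurj : Function.Surjective f := Finite.injective_iff_surjective.mp hinj
  intro w hw
  obtain ⟨x, hx⟩ := hsurj ⟨w, hw⟩
  have hw' : w = (x : G)⁻¹ * (z * x * z⁻¹) := (congrArg Subtype.val hx).symm
  have hii : z⁻¹ * z⁻¹ = 1 := by rw [hzinv]; exact hzz
  rw [eq_inv_iff_mul_eq_one, hw']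
  calc z * ((x : G)⁻¹ * (z * x * z⁻¹)) * z⁻¹ * ((x : G)⁻¹ * (z * x * z⁻¹))
      = z * (x : G)⁻¹ * z * x * (z⁻¹ * z⁻¹) * (x : G)⁻¹ * z * x * z⁻¹ := by group
    _ = z * (x : G)⁻¹ * (z * z) * x * z⁻¹ := by rw [hii]; group
    _ = 1 := by rw [hzz]; group

/-- a four-group `⟨z, b⟩` normalizing the odd-order group `X` with `C_X(e) = 1` for all its involutions `e`
forces `X = 1` -/
theorem eq_bot_of_four {X : Subgroup G} {z b : G}
    (hzX : z ∈ Subgroup.normalizer (X : Set G)) (hbX : b ∈ Subgroup.normalizer (X : Set G))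
    (hz2 : z ^ 2 = 1) (hb2 : b ^ 2 = 1)
    (h1 : X ⊓ Subgroup.centralizer ({z} : Set G) = ⊥)
    (h2 : X ⊓ Subgroup.centralizer ({b} : Set G) = ⊥)
    (h3 : X ⊓ Subgroup.centralizer ({b * z} : Set G) = ⊥) : X = ⊥ := by
  have hz := conj_eq_inv_of_fpf hzX hz2 h1
  have hb := conj_eq_inv_of_fpf hbX hb2 h2
  rw [eq_bot_iff]
  intro x hx
  rw [Subgroup.mem_bot]
  have h4 : (b * z) * x = x * (b * z) := by
    have e1 : z * x * z⁻¹ = x⁻¹ := hz x hx
    have e2 : b * x⁻¹ * b⁻¹ = x := by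
      have := hb x⁻¹ (X.inv_mem hx)
      rwa [inv_inv] at this
    calc (b * z) * x = b * (z * x * z⁻¹) * b⁻¹ * (b * z) := by group
      _ = x * (b * z) := by rw [e1, e2]
  have h5 : x ∈ X ⊓ Subgroup.centralizer ({b * z} : Set G) :=
    ⟨hx, Subgroup.mem_centralizer_singleton_iff.mpr h4.symm⟩
  rwa [h3, Subgroup.mem_bot] at h5

end Cfsg.Agent.Lib.Helper8.ChTwo
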