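import Mathlib
import Cfsg.Prelude
import Cfsg.Agent.Lib.Lead.Nilpotent

set_option autoImplicit false
set_option linter.unusedSectionVars false

/-!
For S3246: from `A ∈ SCN(S)` of 2-rank at least 3 we get a central involution `z` of `S` and a second
involution `b ∈ A` with `|S : C_S(b)| ≤ 2`.
-/

namespace Cfsg.Agent.Lib.Helper8.ChTwo

open Cfsg.Agent.Lib.Lead

variable {G : Type*} [Group G] [Finite G]

theorem mem_zpowers_of_sq {H : Type*} [Group H] {x g : H} (hx : x ^ 2 = 1) (hg : g ∈ Subgroup.zpowers x) :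
    g = 1 ∨ g = x := by
  obtain ⟨n, rfl⟩ := hg
  have h2 : x ^ (2 : ℤ) = 1 := by
    rw [show (2 : ℤ) = ((2 : ℕ) : ℤ) from rfl, zpow_natCast]; exact hx
  have hn : x ^ n = x ^ (n % 2) := by
    conv_lhs => rw [← Int.emod_add_mul_ediv n 2]
    rw [zpow_add, zpow_mul, h2, one_zpow, mul_one]
  rcases Int.emod_two_eq_zero_or_one n with h | h
  · left; show x ^ n = 1; rw [hn, h, zpow_zero]
  · right; show x ^ n = x; rw [hn, h, zpow_one]

theorem exists_zb (S : Subgroup G) (hS : IsPGroup 2 S) (A : Subgroup G) (hA : Cfsg.IsSCN S A)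
    (hA3 : ¬ Cfsg.PRankLE 2 2 ↥A) :
    ∃ z b : G, z ∈ S ∧ b ∈ S ∧ z ≠ 1 ∧ z ^ 2 = 1 ∧ b ^ 2 = 1 ∧ b ≠ 1 ∧ b ≠ z ∧
      (∀ s ∈ S, s * z = z * s) ∧
      (S ⊓ Subgroup.centralizer ({b} : Set G)).relIndex S ∣ 2 := by
  classical
  obtain ⟨hAS, hSN, hSC⟩ := hA
  have hAc : ∀ a ∈ A, ∀ a' ∈ A, a * a' = a' * a := by
    intro a ha a' ha'
    have h1 : a ∈ Subgroup.centralizer (A : Set G) := by
      rw [← hSC] at ha; exact ha.2
    exact (Subgroup.mem_centralizer_iff.mp h1 a' ha').symm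
  let W : Subgroup G :=
    { carrier := {a | a ∈ A ∧ a ^ 2 = 1}
      mul_mem' := by
        rintro a a' ⟨ha, ha2⟩ ⟨ha', ha2'⟩
        refine ⟨A.mul_mem ha ha', ?_⟩
        rw [(show Commute a a' from hAc a ha a' ha').mul_pow, ha2, ha2', one_mul]
      one_mem' := ⟨A.one_mem, one_pow 2⟩
      inv_mem' := by
        rintro a ⟨ha, ha2⟩
        exact ⟨A.inv_mem ha, by rw [inv_pow, ha2, inv_one]⟩ }
  have hWmem : ∀ a : G, a ∈ W ↔ a ∈ A ∧ a ^ 2 = 1 := fun a => Iff.rfl
  have hWS : W ≤ S := fun a ha => hAS ((hWmem a).mp ha).1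
  have hconj : ∀ s ∈ S, ∀ w ∈ W, s * w * s⁻¹ ∈ W := by
    intro s hs w hw
    obtain ⟨hwA, hw2⟩ := (hWmem w).mp hw
    refine (hWmem _).mpr ⟨(Subgroup.mem_normalizer_iff.mp (hSN hs) w).mp hwA, ?_⟩
    rw [conj_pow, hw2, mul_one, mul_inv_cancel]
  have hSW : S ≤ Subgroup.normalizer (W : Set G) := by
    intro s hs
    rw [Subgroup.mem_normalizer_iff]
    intro w
    constructor
    · exact hconj s hs w
    · intro h
      have := hconj s⁻¹ (S.inv_mem hs) _ h
      rw [inv_inv] at this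
      have e : s⁻¹ * (s * w * s⁻¹) * s = w := by group
      rwa [e] at this
  -- `W` has more than four elements
  have hWcard : 4 < Nat.card W := by
    unfold Cfsg.PRankLE at hA3
    push Not at hA3
    obtain ⟨B, _, hB2, hBcard⟩ := hA3
    have hmem : ∀ x : ↥B, ((x : ↥A) : G) ∈ W := fun x => by
      refine (hWmem _).mpr ⟨(x : ↥A).2, ?_⟩
      have := hB2 x.1 x.2
      have h2 := congrArg Subtype.val this
      simpa using h2
    have hinj : Function.Injective (fun x : ↥B => (⟨((x : ↥A) : G), hmem x⟩ : ↥W)) := by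
      intro x y hxy
      have h1 : ((x : ↥A) : G) = ((y : ↥A) : G) := by
        have := congrArg Subtype.val hxy
        simpa using this
      exact Subtype.ext (Subtype.ext h1)
    have := Nat.card_le_card_of_injective _ hinj
    norm_num at hBcard
    omega
  -- the central involution `z`
  have hSnil : Group.IsNilpotent ↥S := hS.isNilpotent
  have hWn : (W.subgroupOf S).Normal := Subgroup.normal_subgroupOf_of_le_normalizer hSW
  have hWs_card : Nat.card (W.subgroupOf S) = Nat.card W :=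
    Nat.card_congr (Subgroup.subgroupOfEquivOfLe hWS).toEquiv
  have hWne : W.subgroupOf S ≠ ⊥ := by
    intro h
    rw [← Subgroup.card_eq_one] at h
    omega
  have hz0 := inf_center_ne_bot (W.subgroupOf S) hWne
  obtain ⟨⟨x, hxW, hxZ⟩, hx1⟩ := (Subgroup.ne_bot_iff_exists_ne_one).mp hz0
  have hx1' : x ≠ 1 := fun h => hx1 (Subtype.ext h)
  have hxW' : (x : G) ∈ W := Subgroup.mem_subgroupOf.mp hxW
  have hx2 : x ^ 2 = 1 := by
    apply Subtype.ext
    simpa using ((hWmem _).mp hxW').2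
  have hxc : ∀ s : ↥S, s * x = x * s := fun s => Subgroup.mem_center_iff.mp hxZ s
  -- the quotient by `⟨x⟩`
  have hZn : (Subgroup.zpowers x).Normal := zpowers_normal_of_mem_center hxZ
  have hZcard : Nat.card (Subgroup.zpowers x) ≤ 2 := by
    rw [Nat.card_zpowers]
    exact Nat.le_of_dvd (by norm_num) (orderOf_dvd_of_pow_eq_one hx2)
  set φ := QuotientGroup.mk' (Subgroup.zpowers x) with hφ
  have hφs : Function.Surjective φ := QuotientGroup.mk'_surjective _
  have hNn : ((W.subgroupOf S).map φ).Normal := hWn.map φ hφs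
  have hNne : (W.subgroupOf S).map φ ≠ ⊥ := by
    intro h
    have hle : W.subgroupOf S ≤ Subgroup.zpowers x := by
      intro w hw
      have h1 : φ w ∈ (W.subgroupOf S).map φ := ⟨w, hw, rfl⟩
      rw [h, Subgroup.mem_bot] at h1
      exact (QuotientGroup.eq_one_iff w).mp h1
    have := Subgroup.card_le_of_le hle
    omega
  have hy0 := inf_center_ne_bot ((W.subgroupOf S).map φ) hNne
  obtain ⟨⟨yb, hybN, hybZ⟩, hyb1⟩ := (Subgroup.ne_bot_iff_exists_ne_one).mp hy0
  have hyb1' : yb ≠ 1 := fun h => hyb1 (Subtype.ext h)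
  obtain ⟨y, hyW, rfl⟩ := hybN
  have hyW' : (y : G) ∈ W := Subgroup.mem_subgroupOf.mp hyW
  have hynZ : y ∉ Subgroup.zpowers x := fun h => hyb1' ((QuotientGroup.eq_one_iff y).mpr h)
  have hcen : ∀ s : ↥S, (s * y)⁻¹ * (y * s) = 1 ∨ (s * y)⁻¹ * (y * s) = x := by
    intro s
    have h1 : φ s * φ y = φ y * φ s := Subgroup.mem_center_iff.mp hybZ (φ s)
    have h2 : φ (s * y) = φ (y * s) := by rw [map_mul, map_mul, h1]
    have h3 : (s * y)⁻¹ * (y * s) ∈ Subgroup.zpowers x := QuotientGroup.eq.mp h2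
    exact mem_zpowers_of_sq hx2 h3
  -- now in `G`
  refine ⟨(x : G), (y : G), x.2, y.2, ?_, ?_, ?_, ?_, ?_, ?_, ?_⟩
  · intro h; exact hx1' (Subtype.ext h)
  · exact ((hWmem _).mp hxW').2
  · exact ((hWmem _).mp hyW').2
  · intro h
    apply hynZ
    have : y = 1 := Subtype.ext h
    rw [this]; exact Subgroup.one_mem _
  · intro h
    apply hynZ
    have : y = x := Subtype.ext h
    rw [this]; exact Subgroup.mem_zpowers x
  · intro s hs
    exact congrArg Subtype.val (hxc ⟨s, hs⟩)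
  · -- the index
    set T := S ⊓ Subgroup.centralizer ({(y : G)} : Set G) with hT
    have hTmem : ∀ s : ↥S, (s : G) ∈ T ↔ s * y = y * s := by
      intro s
      rw [hT, Subgroup.mem_inf, Subgroup.mem_centralizer_singleton_iff]
      constructor
      · rintro ⟨_, h⟩; exact Subtype.ext h
      · intro h; exact ⟨s.2, congrArg Subtype.val h⟩
    rw [Subgroup.relIndex_dvd_two_iff]
    by_cases hall : ∀ s : ↥S, s * y = y * s
    · refine ⟨1, S.one_mem, fun s hs => Or.inr ?_⟩
      exact (hTmem ⟨s, hs⟩).mpr (hall ⟨s, hs⟩)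
    · push Not at hall
      obtain ⟨s₀, hs₀⟩ := hall
      have hs₀x : (s₀ * y)⁻¹ * (y * s₀) = x := by
        rcases hcen s₀ with h | h
        · exfalso; apply hs₀
          have h' := congrArg (fun t => (s₀ * y) * t) h
          have h'' : y * s₀ = s₀ * y := by simpa [mul_assoc] using h'
          exact h''.symm
        · exact h
      refine ⟨((s₀⁻¹ : ↥S) : G), (s₀⁻¹).2, fun s hs => ?_⟩
      by_cases hsy : (⟨s, hs⟩ : ↥S) * y = y * ⟨s, hs⟩
      · exact Or.inr ((hTmem ⟨s, hs⟩).mpr hsy)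
      · left
        have hsx : ((⟨s, hs⟩ : ↥S) * y)⁻¹ * (y * ⟨s, hs⟩) = x := by
          rcases hcen ⟨s, hs⟩ with h | h
          · exfalso; apply hsy
            have h' := congrArg (fun t => ((⟨s, hs⟩ : ↥S) * y) * t) h
            have h'' : y * ⟨s, hs⟩ = (⟨s, hs⟩ : ↥S) * y := by simpa [mul_assoc] using h'
            exact h''.symm
          · exact h
        set t : ↥S := ⟨s, hs⟩ with ht
        have hgoal : (t * s₀⁻¹) * y = y * (t * s₀⁻¹) := by
          have hxx : x * x = 1 := by rw [← sq]; exact hx2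
          have hxinv : x⁻¹ = x := inv_eq_of_mul_eq_one_right hxx
          have e0 : y * s₀ = s₀ * y * x := by rw [← hs₀x]; group
          have e1 : y * t = t * y * x := by rw [← hsx]; group
          have h2 : s₀⁻¹ * y = y * x * s₀⁻¹ := by
            calc s₀⁻¹ * y = s₀⁻¹ * (y * s₀) * s₀⁻¹ := by group
              _ = s₀⁻¹ * (s₀ * y * x) * s₀⁻¹ := by rw [e0]
              _ = y * x * s₀⁻¹ := by group
          have h3 : s₀ * x⁻¹ * s₀⁻¹ = x := by
            rw [hxinv, hxc s₀]; group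
          have e0' : y * s₀⁻¹ = s₀⁻¹ * y * x := by
            calc y * s₀⁻¹ = y * x * s₀⁻¹ * (s₀ * x⁻¹ * s₀⁻¹) := by group
              _ = s₀⁻¹ * y * x := by rw [← h2, h3]
          symm
          calc y * (t * s₀⁻¹) = (y * t) * s₀⁻¹ := by group
            _ = t * y * (x * s₀⁻¹) := by rw [e1]; group
            _ = t * y * (s₀⁻¹ * x) := by rw [← hxc s₀⁻¹]
            _ = t * (y * s₀⁻¹) * x := by group
            _ = t * s₀⁻¹ * y * (x * x) := by rw [e0']; group
            _ = t * s₀⁻¹ * y := by rw [hxx, mul_one]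
        have := (hTmem (t * s₀⁻¹)).mpr hgoal
        simpa using this

end Cfsg.Agent.Lib.Helper8.ChTwo
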