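import Mathlib
import Cfsg.Agent.Lib.Helper8.ChTwoA
import Cfsg.Agent.Lib.Helper2.PConstrained
import Cfsg.Agent.Lib.Helper2.PCore

set_option autoImplicit false
set_option linter.unusedSectionVars false

/-!
For S3246: passing from `p`-constraint with trivial core to the ambient form `CFC`, and `CFC` for
involution centralizers inside a `CFC` subgroup (Thompson's `P × Q` lemma).
-/

namespace Cfsg.Agent.Lib.Helper8.ChTwo

variable {G : Type*} [Group G] [Finite G]

theorem le_normalizer_map_subtype (H : Subgroup G) (K : Subgroup ↥H) [hK : K.Normal] :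
    H ≤ Subgroup.normalizer ((K.map H.subtype : Subgroup G) : Set G) := by
  intro h hh
  rw [Subgroup.mem_normalizer_iff]
  intro u
  constructor
  · rintro ⟨y, hy, rfl⟩
    exact ⟨⟨h, hh⟩ * y * ⟨h, hh⟩⁻¹, hK.conj_mem y hy _, rfl⟩
  · rintro ⟨y, hy, hyu⟩
    have hy' : (y : G) = h * u * h⁻¹ := hyu
    refine ⟨⟨h, hh⟩⁻¹ * y * ⟨h, hh⟩, ?_, ?_⟩
    · have := hK.conj_mem y hy ⟨h, hh⟩⁻¹
      simpa using this
    · show ((⟨h, hh⟩⁻¹ * y * ⟨h, hh⟩ : ↥H) : G) = u
      simp only [Subgroup.coe_mul, Subgroup.coe_inv, hy']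
      group

theorem cfc_of_constrained (H : Subgroup G) (hc : Cfsg.IsPConstrained 2 ↥H)
    (ho : Cfsg.oddCore ↥H = ⊥) : CFC H := by
  have h1 := (Cfsg.Agent.Lib.Helper2.PConstrained.isPConstrained_iff_of_bot ho).mp hc
  refine ⟨(Cfsg.pCore 2 ↥H).map H.subtype, ?_, ?_, ?_, ?_⟩
  · rintro _ ⟨x, _, rfl⟩; exact x.2
  · exact (Cfsg.Agent.Lib.Helper2.pCore_isPGroup 2).map _
  · exact le_normalizer_map_subtype H _
  · rintro x ⟨hxC, hxH⟩
    refine ⟨⟨x, hxH⟩, h1 ?_, rfl⟩
    rw [Subgroup.mem_centralizer_iff]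
    intro r hr
    apply Subtype.ext
    exact Subgroup.mem_centralizer_iff.mp hxC r.1 ⟨r, hr, rfl⟩

theorem le_normalizer_sup_aux {A B C : Subgroup G} (hB : A ≤ Subgroup.normalizer (B : Set G))
    (hC : A ≤ Subgroup.normalizer (C : Set G)) :
    A ≤ Subgroup.normalizer ((B ⊔ C : Subgroup G) : Set G) := by
  have key : ∀ g, g ∈ Subgroup.normalizer (B : Set G) → g ∈ Subgroup.normalizer (C : Set G) →
      ∀ x ∈ B ⊔ C, g * x * g⁻¹ ∈ B ⊔ C := by
    intro g hgB hgC x hx
    have h1 : B ⊔ C ≤ (B ⊔ C).comap (MulAut.conj g).toMonoidHom := by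
      apply sup_le
      · intro b hb
        exact Subgroup.mem_sup_left ((Subgroup.mem_normalizer_iff.mp hgB b).mp hb)
      · intro c hc
        exact Subgroup.mem_sup_right ((Subgroup.mem_normalizer_iff.mp hgC c).mp hc)
    exact h1 hx
  intro a ha
  rw [Subgroup.mem_normalizer_iff]
  intro x
  constructor
  · exact key a (hB ha) (hC ha) x
  · intro hx
    have h2 := key a⁻¹ (Subgroup.inv_mem _ (hB ha)) (Subgroup.inv_mem _ (hC ha)) _ hx
    have h3 : a⁻¹ * (a * x * a⁻¹) * a⁻¹⁻¹ = x := by group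
    rwa [h3] at h2

theorem centralizer_zpowers_eq' (x : G) :
    Subgroup.centralizer ((Subgroup.zpowers x : Subgroup G) : Set G) =
      Subgroup.centralizer ({x} : Set G) := by
  rw [Subgroup.zpowers_eq_closure, Subgroup.centralizer_closure]

/-- if `M` has a normal 2-subgroup containing its centralizer and `C_G(z) ≤ M` for an involution `z`,
then `C_G(z)` has the same property -/
theorem cfc_centralizer_of_le {M : Subgroup G} (hM : CFC M) {z : G} (hz : orderOf z = 2)
    (hle : Subgroup.centralizer ({z} : Set G) ≤ M) : CFC (Subgroup.centralizer ({z} : Set G)) := by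
  obtain ⟨R, hRM, hR2, hMR, hCR⟩ := hM
  set H := Subgroup.centralizer ({z} : Set G) with hH
  have hzH : z ∈ H := Subgroup.mem_centralizer_singleton_iff.mpr rfl
  set D := R ⊓ H with hD
  set K := Subgroup.centralizer (D : Set G) ⊓ H with hK
  have hHR : H ≤ Subgroup.normalizer (R : Set G) := hle.trans hMR
  have hHD : H ≤ Subgroup.normalizer (D : Set G) := by
    intro h hh
    rw [Subgroup.mem_normalizer_iff]
    intro d
    rw [hD, Subgroup.mem_inf, Subgroup.mem_inf]
    constructor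
    · rintro ⟨h1, h2⟩
      exact ⟨(Subgroup.mem_normalizer_iff.mp (hHR hh) d).mp h1,
        H.mul_mem (H.mul_mem hh h2) (H.inv_mem hh)⟩
    · rintro ⟨h1, h2⟩
      refine ⟨(Subgroup.mem_normalizer_iff.mp (hHR hh) d).mpr h1, ?_⟩
      have : d = h⁻¹ * (h * d * h⁻¹) * h := by group
      rw [this]
      exact H.mul_mem (H.mul_mem (H.inv_mem hh) h2) hh
  have hHK : H ≤ Subgroup.normalizer (K : Set G) := by
    have key : ∀ h ∈ H, ∀ k ∈ K, h * k * h⁻¹ ∈ K := by
      intro h hh k hk
      refine Subgroup.mem_inf.mpr ⟨?_, H.mul_mem (H.mul_mem hh hk.2) (H.inv_mem hh)⟩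
      rw [Subgroup.mem_centralizer_iff]
      intro d hd
      have hd' : h⁻¹ * d * h ∈ D := by
        have := (Subgroup.mem_normalizer_iff.mp (hHD (H.inv_mem hh)) d).mp hd
        rwa [inv_inv] at this
      have h1 := Subgroup.mem_centralizer_iff.mp hk.1 _ hd'
      calc d * (h * k * h⁻¹) = h * ((h⁻¹ * d * h) * k) * h⁻¹ := by group
        _ = h * (k * (h⁻¹ * d * h)) * h⁻¹ := by rw [h1]
        _ = h * k * h⁻¹ * d := by group
    intro h hh
    rw [Subgroup.mem_normalizer_iff]
    intro k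
    constructor
    · exact key h hh k
    · intro hk
      have := key h⁻¹ (H.inv_mem hh) _ hk
      have e : h⁻¹ * (h * k * h⁻¹) * h⁻¹⁻¹ = k := by group
      rwa [e] at this
  have hD2 : IsPGroup 2 D := hR2.to_le inf_le_left
  have hzp : IsPGroup 2 (Subgroup.zpowers z) := by
    apply IsPGroup.of_card (n := 1)
    rw [Nat.card_zpowers, hz, pow_one]
  -- odd-order elements of `K` are trivial
  have hodd : ∀ k ∈ K, Odd (orderOf k) → k = 1 := by
    intro k hk hko
    have hkR : k ∈ Subgroup.centralizer (R : Set G) := by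
      apply Cfsg.Agent.Lib.Helper3.mem_centralizer_of_coprime (p := 2) (P := Subgroup.zpowers z) hR2 hzp
      · exact (Subgroup.zpowers_le.mpr hzH).trans hHR
      · exact (Nat.coprime_two_right.mpr hko)
      · exact hHR hk.2
      · rw [centralizer_zpowers_eq']; exact hk.2
      · rw [centralizer_zpowers_eq']; exact hk.1
    exact eq_one_of_odd_of_two hR2 (hCR ⟨hkR, hle hk.2⟩) hko
  have hK2 : IsPGroup 2 K := by
    rintro ⟨k, hk⟩
    obtain ⟨a, m, hm, ham⟩ := Nat.exists_eq_two_pow_mul_odd (orderOf_pos k).ne'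
    refine ⟨a, ?_⟩
    apply Subtype.ext
    show k ^ 2 ^ a = 1
    apply hodd _ (K.pow_mem hk _)
    have h1 : orderOf (k ^ 2 ^ a) = m := by
      rw [orderOf_pow' k (pow_ne_zero _ two_ne_zero), ham,
        Nat.gcd_eq_right (Dvd.intro _ rfl), Nat.mul_div_cancel_left _ (pow_pos two_pos a)]
    rw [h1]; exact hm
  refine ⟨D ⊔ K, sup_le inf_le_right inf_le_right, ?_, le_normalizer_sup_aux hHD hHK, ?_⟩
  · exact IsPGroup.to_sup_of_normal_right' hD2 hK2 (inf_le_right.trans hHK)
  · rintro x ⟨hxC, hxH⟩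
    apply Subgroup.mem_sup_right
    refine ⟨?_, hxH⟩
    exact Subgroup.centralizer_le (SetLike.coe_subset_coe.mpr le_sup_left) hxC

end Cfsg.Agent.Lib.Helper8.ChTwo
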