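import Mathlib
import Cfsg.Agent.Lib.Helper8.Chr8Defs
import Cfsg.Agent.Lib.Helper7.BSW6
import Cfsg.Agent.Lib.Helper1.CharFound4
import Cfsg.Agent.Lib.Helper4.CharTools

set_option autoImplicit false

/-! S4751, package K2: the Clifford analysis on the normal `p`-subgroup `P`. -/

namespace Cfsg.Agent.Lib.Helper8.Chr8

open Cfsg Cfsg.Agent.Lib.Helper8.RDG Cfsg.Agent.Lib.Helper1 Cfsg.Agent.Lib.Helper4
open Cfsg.Agent.S0193 Cfsg.Agent.S0194
open scoped ComplexConjugate

universe u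

/-- the arithmetic of Step 1. -/
theorem k2_arith (e s t N : ℕ) (he : 0 < e) (hs : 0 < s) (ht : t = e * s) (ht1 : t ≠ 1)
    (hN : t + 1 ≤ N) (h : t ^ 2 + N = N * (e ^ 2 * s) + 1) : e = 1 ∧ N = s + 1 := by
  have he1 : e = 1 := by
    by_contra hne
    have he2 : 2 ≤ e := by omega
    subst ht
    have h1 : (e * s + 1) * (e ^ 2 * s) ≤ N * (e ^ 2 * s) := Nat.mul_le_mul_right _ hN
    have h2 : e * s * (e * s) ≤ e * s * (e ^ 2 * s) := by
      apply Nat.mul_le_mul_left
      calc e * s ≤ e * e * s := by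
            apply Nat.mul_le_mul_right
            exact Nat.le_mul_of_pos_right e he
        _ = e ^ 2 * s := by ring
    have h3 : 2 * (e * s) ≤ e ^ 2 * s := by
      calc 2 * (e * s) ≤ e * (e * s) := Nat.mul_le_mul_right _ he2
        _ = e ^ 2 * s := by ring
    have h4 : 0 < e * s := Nat.mul_pos he hs
    nlinarith
  subst he1
  refine ⟨rfl, ?_⟩
  have hts : t = s := by rw [ht, one_mul]
  subst hts
  obtain ⟨k, rfl⟩ : ∃ k, t = k + 2 := ⟨t - 2, by omega⟩
  have h5 : (k + 1) * N = (k + 1) * (k + 3) := by nlinarith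
  have := Nat.eq_of_mul_eq_mul_left (by omega : 0 < k + 1) h5
  omega

variable {G : Type u} [Group G] [Finite G]

omit [Finite G] in
/-- a nontrivial element of a `p`-subgroup is `p`-singular. -/
theorem k2_dvd_orderOf {p : ℕ} [hp : Fact p.Prime] (P : Subgroup G) (hPp : IsPGroup p P) (x : P)
    (hx : x ≠ 1) : p ∣ orderOf (x : G) := by
  rw [Subgroup.orderOf_coe]
  obtain ⟨k, hk⟩ := hPp x
  have h1 : orderOf x ∣ p ^ k := orderOf_dvd_of_pow_eq_one hk
  obtain ⟨j, _, hj⟩ := (Nat.dvd_prime_pow hp.out).1 h1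
  rw [hj]
  rcases Nat.eq_zero_or_pos j with h0 | h0
  · exfalso
    rw [h0, pow_zero, orderOf_eq_one_iff] at hj
    exact hx hj
  · exact dvd_pow_self p h0.ne'

omit [Finite G] in
theorem k2_lin_one (P : Subgroup G) [P.Normal] : lin P (1 : ↥P →* ℂˣ) = fun _ => (1 : ℂ) := by
  funext x
  simp [lin]

/-- the trivial character sums to zero against a non-trivial irreducible character. -/
theorem k2_sum_irr_eq_zero {H : Type u} [Group H] [Fintype H] {ψ : H → ℂ} (hψ : IsIrrCharacter H ψ)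
    (hne : ψ ≠ fun _ => (1 : ℂ)) : ∑ x : H, ψ x = 0 := by
  have h1 : IsIrrCharacter H (fun _ : H => (1 : ℂ)) := by
    have := isIrrCharacter_of_hom (1 : H →* ℂˣ)
    simpa using this
  have h2 := classInner_irr_ne hψ h1 hne
  rw [classInner_def] at h2
  have hc : (Nat.card H : ℂ) ≠ 0 := by
    have : 0 < Nat.card H := Nat.card_pos
    exact_mod_cast this.ne'
  have h3 : ∑ g : H, ψ g * conj ((fun _ : H => (1 : ℂ)) g) = 0 := by
    rcases mul_eq_zero.1 h2 with h | h
    · exact absurd (inv_eq_zero.1 h) hc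
    · exact h
  simpa using h3

omit [Finite G] in
/-- the sum of `χ x * conj (χ x)` over a `p`-subgroup. -/
theorem k2_sum_sq {p : ℕ} [hp : Fact p.Prime] {χ : G → ℂ} (hH : Hyp p χ) (P : Subgroup G)
    [Fintype ↥P] (hPp : IsPGroup p P) (t : ℕ) (ht : χ 1 = t) :
    ∑ x : P, χ x * conj (χ x) = (t : ℂ) ^ 2 + ((Nat.card P : ℂ) - 1) := by
  classical
  rw [← Finset.add_sum_erase Finset.univ _ (Finset.mem_univ (1 : P))]
  have h1 : χ ((1 : P) : G) * conj (χ ((1 : P) : G)) = (t : ℂ) ^ 2 := by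
    rw [Subgroup.coe_one, ht, Complex.conj_natCast]; ring
  rw [h1]
  congr 1
  have h2 : ∀ x ∈ Finset.univ.erase (1 : P), χ x * conj (χ x) = 1 := by
    intro x hx
    have hx1 : x ≠ 1 := (Finset.mem_erase.1 hx).1
    have hn := hH.unit x (k2_dvd_orderOf P hPp x hx1)
    rw [Complex.mul_conj, Complex.normSq_eq_norm_sq, hn]
    simp
  rw [Finset.sum_congr rfl h2, Finset.sum_const, Finset.card_erase_of_mem (Finset.mem_univ _),
    Finset.card_univ, Nat.card_eq_fintype_card]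
  have : 0 < Fintype.card P := Fintype.card_pos
  rw [nsmul_eq_mul, mul_one, Nat.cast_sub this]
  simp

/-- the numerical core of the Clifford analysis on `P`. -/
theorem k2_core {p : ℕ} [hp : Fact p.Prime] {χ : G → ℂ} (hH : Hyp p χ) (P : Subgroup G)
    [hPn : P.Normal] [Fintype ↥P] (hPp : IsPGroup p P) (hP1 : P ≠ ⊥) :
    ∃ θ : ↥P → ℂ, IsIrrCharacter ↥P θ ∧ θ 1 = 1 ∧
      (fun n : P => χ n) = ∑ ψ ∈ orbitFinset P θ, ψ ∧
      (fun _ : P => (1 : ℂ)) ∉ orbitFinset P θ ∧
      (orbitFinset P θ).card + 1 = Nat.card P ∧ χ 1 = ((orbitFinset P θ).card : ℂ) ∧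
      2 ≤ (orbitFinset P θ).card := by
  classical
  have : Fintype G := Fintype.ofFinite G
  have hχ := hH.irr
  have hres : IsCharacter P (fun n : P => χ n) :=
    Cfsg.Agent.S0148.isCharacter_restrict P (isCharacter_of_irr hχ)
  obtain ⟨t, ht0, ht⟩ := irr_apply_one_pos hχ
  have hres1 : (fun n : P => χ n) 1 ≠ 0 := by
    show χ ((1 : P) : G) ≠ 0
    rw [Subgroup.coe_one, ht]
    exact_mod_cast ht0.ne'
  obtain ⟨θ, hθ, m, hm0, hm⟩ := exists_constituent hres hres1
  have hover : classInner (fun n : P => χ n) θ ≠ 0 := by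
    rw [hm]; exact_mod_cast hm0.ne'
  obtain ⟨d, hd0, hd⟩ := irr_apply_one_pos hθ
  obtain ⟨e, he0, heE, hted⟩ := clifford_degree P hχ hθ hover t d ht hd
  have hs : (orbitFinset P θ).card = (inertia P θ).index := card_orbitFinset P θ
  obtain ⟨s, hsdef⟩ : ∃ s, s = (orbitFinset P θ).card := ⟨_, rfl⟩
  have hs0 : 0 < s := by
    rw [hsdef]
    exact Finset.card_pos.2 ⟨θ, self_mem_orbitFinset P θ⟩
  rw [← hs, ← hsdef] at hted
  have hsum := clifford_sum P hχ hθ hover
  rw [heE] at hsum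
  have hOirr : ∀ ψ ∈ orbitFinset P θ, IsIrrCharacter P ψ := by
    intro ψ hψ
    obtain ⟨g, rfl⟩ := (mem_orbitFinset P).1 hψ
    exact conjFun_irr P θ hθ g
  -- the norm of the restriction
  have hnorm : classInner (fun n : P => χ n) (fun n : P => χ n) = (e : ℂ) ^ 2 * s := by
    have h1 : classInner ((e : ℂ) • ∑ ψ ∈ orbitFinset P θ, ψ) ((e : ℂ) • ∑ ψ ∈ orbitFinset P θ, ψ)
        = (e : ℂ) ^ 2 * s := by
      rw [classInner_smul_left, classInner_smul_right, classInner_sum_left]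
      have h2 : ∀ ψ ∈ orbitFinset P θ,
          classInner ψ (∑ ψ' ∈ orbitFinset P θ, ψ') = 1 := by
        intro ψ hψ
        rw [classInner_sum_right]
        have h3 : ∀ ψ' ∈ orbitFinset P θ, classInner ψ ψ' = if ψ = ψ' then 1 else 0 :=
          fun ψ' hψ' => classInner_irr (hOirr ψ hψ) (hOirr ψ' hψ')
        rw [Finset.sum_congr rfl h3, Finset.sum_ite_eq, if_pos hψ]
      rw [Finset.sum_congr rfl h2, Finset.sum_const, ← hsdef, Complex.conj_natCast]
      simp
      ring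
    rw [← hsum] at h1
    exact h1
  have hN0 : 0 < Nat.card P := Nat.card_pos
  have hNc : (Nat.card P : ℂ) ≠ 0 := by exact_mod_cast hN0.ne'
  -- the first relation
  have hrel : t ^ 2 + Nat.card P = Nat.card P * (e ^ 2 * s) + 1 := by
    have h1 := k2_sum_sq hH P hPp t ht
    rw [classInner_def, h1] at hnorm
    have h2 : (t : ℂ) ^ 2 + ((Nat.card P : ℂ) - 1) = (Nat.card P : ℂ) * ((e : ℂ) ^ 2 * s) := by
      rw [← hnorm, ← mul_assoc, mul_inv_cancel₀ hNc, one_mul]
    have h3 : ((t ^ 2 + Nat.card P : ℕ) : ℂ) = ((Nat.card P * (e ^ 2 * s) + 1 : ℕ) : ℂ) := by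
      push_cast
      linear_combination h2
    exact_mod_cast h3
  -- `P` is a nontrivial `p`-group
  obtain ⟨n, hn⟩ := IsPGroup.iff_card.1 hPp
  have hn0 : n ≠ 0 := by
    intro h0
    rw [h0, pow_zero] at hn
    apply hP1
    exact Subgroup.card_eq_one.1 hn
  have hpN : p ∣ Nat.card P := by rw [hn]; exact dvd_pow_self p hn0
  -- the constituents are linear
  have hd1 : d = 1 := by
    by_contra hne
    have hdN : d ∣ Nat.card P := Cfsg.Agent.Lib.Helper7.BSW.irr_degree_dvd hθ hd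
    rw [hn] at hdN
    obtain ⟨j, _, hj⟩ := (Nat.dvd_prime_pow hp.out).1 hdN
    have hj0 : j ≠ 0 := by
      intro h0
      rw [h0, pow_zero] at hj
      exact hne hj
    have hpd : p ∣ d := by rw [hj]; exact dvd_pow_self p hj0
    have hpt : p ∣ t := by rw [hted]; exact Dvd.dvd.mul_left (Dvd.dvd.mul_left hpd s) e
    have h1 : p ∣ t ^ 2 + Nat.card P := Dvd.dvd.add (Dvd.dvd.pow hpt (by norm_num)) hpN
    rw [hrel] at h1
    have h2 : p ∣ 1 := (Nat.dvd_add_right (Dvd.dvd.mul_right hpN _)).1 h1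
    exact hp.out.one_lt.ne' (Nat.dvd_one.1 h2)
  rw [hd1, mul_one] at hted
  rw [hd1, Nat.cast_one] at hd
  -- the trivial character is not in the orbit
  have htriv : (fun _ : P => (1 : ℂ)) ∉ orbitFinset P θ := by
    intro hmem
    obtain ⟨g, hg⟩ := (mem_orbitFinset P).1 hmem
    have hθ1 : θ = fun _ : P => (1 : ℂ) := by
      have h1 : conjFun P (conjFun P θ g) g⁻¹ = θ := by
        rw [conjFun_mul, mul_inv_cancel, conjFun_one]
      rw [← h1, hg]
      rfl
    have hall : ∀ ψ ∈ orbitFinset P θ, ψ = fun _ : P => (1 : ℂ) := by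
      intro ψ hψ
      obtain ⟨g', rfl⟩ := (mem_orbitFinset P).1 hψ
      rw [hθ1]
      rfl
    apply hP1
    rw [Subgroup.eq_bot_iff_forall]
    intro x hx
    apply hH.faith
    have h1 := congrFun hsum ⟨x, hx⟩
    simp only [Pi.smul_apply, Finset.sum_apply, smul_eq_mul] at h1
    have h2 : ∀ ψ ∈ orbitFinset P θ, ψ ⟨x, hx⟩ = 1 := by
      intro ψ hψ
      rw [hall ψ hψ]
    rw [Finset.sum_congr rfl h2, Finset.sum_const, ← hsdef] at h1
    have h3 : χ x = χ ((⟨x, hx⟩ : P) : G) := rfl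
    rw [h3, h1, ht, hted]
    push_cast
    simp
  -- the sum of `χ` over `P` vanishes
  have hsum0 : ∑ x : P, χ x = 0 := by
    have h1 : ∀ x : P, χ x = (e : ℂ) * ∑ ψ ∈ orbitFinset P θ, ψ x := by
      intro x
      have := congrFun hsum x
      simpa only [Pi.smul_apply, Finset.sum_apply, smul_eq_mul] using this
    rw [Finset.sum_congr rfl (fun x _ => h1 x), ← Finset.mul_sum, Finset.sum_comm]
    have h2 : ∀ ψ ∈ orbitFinset P θ, ∑ x : P, ψ x = 0 := by
      intro ψ hψ
      apply k2_sum_irr_eq_zero (hOirr ψ hψ)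
      intro h
      exact htriv (h ▸ hψ)
    rw [Finset.sum_congr rfl h2]
    simp
  -- hence `t + 1 ≤ |P|`
  have hle : t + 1 ≤ Nat.card P := by
    have h1 : (t : ℂ) = - ∑ x ∈ Finset.univ.erase (1 : P), χ x := by
      rw [← Finset.add_sum_erase Finset.univ _ (Finset.mem_univ (1 : P)), Subgroup.coe_one, ht]
        at hsum0
      linear_combination hsum0
    have h2 : ‖(t : ℂ)‖ ≤ ∑ x ∈ Finset.univ.erase (1 : P), ‖χ x‖ := by
      rw [h1, norm_neg]
      exact norm_sum_le _ _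
    have h3 : ∀ x ∈ Finset.univ.erase (1 : P), ‖χ x‖ = 1 := by
      intro x hx
      exact hH.unit x (k2_dvd_orderOf P hPp x (Finset.mem_erase.1 hx).1)
    rw [Finset.sum_congr rfl h3, Finset.sum_const, Finset.card_erase_of_mem (Finset.mem_univ _),
      Finset.card_univ, ← Nat.card_eq_fintype_card, Complex.norm_natCast] at h2
    have h4 : (t : ℝ) ≤ ((Nat.card P - 1 : ℕ) : ℝ) := by
      simpa using h2
    have h5 : t ≤ Nat.card P - 1 := by exact_mod_cast h4
    omega
  have ht1 : t ≠ 1 := by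
    intro h1
    apply hH.nl
    rw [ht, h1, Nat.cast_one]
  obtain ⟨he1, hN⟩ := k2_arith e s t (Nat.card P) he0 hs0 hted ht1 hle hrel
  refine ⟨θ, hθ, hd, ?_, htriv, ?_, ?_, ?_⟩
  · rw [hsum, he1, Nat.cast_one, one_smul]
  · rw [← hsdef, hN]
  · rw [ht, hted, he1, one_mul, hsdef]
  · rw [← hsdef]
    rw [he1, one_mul] at hted
    omega

/-- the number of linear characters of a finite group is at most its order. -/
theorem k2_card_hom_le (H : Type u) [Group H] [Finite H] :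
    Finite (H →* ℂˣ) ∧ Nat.card (H →* ℂˣ) ≤ Nat.card H := by
  have hinj : Function.Injective
      (fun l : H →* ℂˣ => (⟨fun g => ((l g : ℂˣ) : ℂ), isIrrCharacter_of_hom l⟩ : IrrCharacter H)) := by
    intro l m hlm
    have h1 : (fun g => ((l g : ℂˣ) : ℂ)) = fun g => ((m g : ℂˣ) : ℂ) := congrArg Subtype.val hlm
    ext g
    exact congrFun h1 g
  have : Finite (H →* ℂˣ) := Finite.of_injective _ hinj
  refine ⟨inferInstance, ?_⟩
  calc Nat.card (H →* ℂˣ) ≤ Nat.card (IrrCharacter H) := Nat.card_le_card_of_injective _ hinj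
    _ = Nat.card (ConjClasses H) := card_irr_eq_card_conjClasses
    _ ≤ Nat.card H := Nat.card_le_card_of_surjective _ ConjClasses.mk_surjective

/-- **K2**: the Clifford analysis on the normal `p`-subgroup `P`. -/
theorem exists_spec {p : ℕ} [Fact p.Prime] {χ : G → ℂ} (hH : Hyp p χ) (P : Subgroup G) [P.Normal]
    (hPp : IsPGroup p P) (hP1 : P ≠ ⊥) : ∃ L : Finset (↥P →* ℂˣ), Spec χ P L := by
  classical
  have : Fintype G := Fintype.ofFinite G
  have : Fintype P := Fintype.ofFinite P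
  obtain ⟨θ, hθ, hθ1, hsum, htriv, hcard, hdeg, h2⟩ := k2_core hH P hPp hP1
  have hOirr : ∀ ψ ∈ orbitFinset P θ, IsIrrCharacter P ψ := by
    intro ψ hψ
    obtain ⟨g, rfl⟩ := (mem_orbitFinset P).1 hψ
    exact conjFun_irr P θ hθ g
  have hO1 : ∀ ψ ∈ orbitFinset P θ, ψ 1 = 1 := by
    intro ψ hψ
    obtain ⟨g, rfl⟩ := (mem_orbitFinset P).1 hψ
    rw [conjFun_apply_one, hθ1]
  have hOlin : ∀ ψ ∈ orbitFinset P θ, ∃ l : P →* ℂˣ, lin P l = ψ := by
    intro ψ hψ
    obtain ⟨φ, hφ⟩ := exists_hom_of_isIrrCharacter (hOirr ψ hψ) (hO1 ψ hψ)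
    exact ⟨φ, hφ.symm⟩
  obtain ⟨L, hLdef⟩ : ∃ L : Finset (P →* ℂˣ),
      L = (orbitFinset P θ).preimage (lin P) (Set.injOn_of_injective (lin_injective P)) := ⟨_, rfl⟩
  have hLmem : ∀ l : P →* ℂˣ, l ∈ L ↔ lin P l ∈ orbitFinset P θ := by
    intro l
    rw [hLdef, Finset.mem_preimage]
  have hLimage : L.image (lin P) = orbitFinset P θ := by
    ext ψ
    rw [Finset.mem_image]
    constructor
    · rintro ⟨l, hl, rfl⟩
      exact (hLmem l).1 hl
    · intro hψ
      obtain ⟨l, rfl⟩ := hOlin ψ hψ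
      exact ⟨l, (hLmem l).2 hψ, rfl⟩
  have hLcard : L.card = (orbitFinset P θ).card := by
    rw [← hLimage, Finset.card_image_of_injective _ (lin_injective P)]
  have hres : ∀ x : P, χ x = ∑ l ∈ L, ((l x : ℂˣ) : ℂ) := by
    intro x
    have h1 := congrFun hsum x
    simp only [Finset.sum_apply] at h1
    rw [h1, ← hLimage, Finset.sum_image (fun a _ b _ hab => lin_injective P hab)]
    rfl
  have h1L : (1 : P →* ℂˣ) ∉ L := by
    intro h
    apply htriv
    have := (hLmem 1).1 h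
    rwa [k2_lin_one] at this
  -- every non-principal linear character is in `L`
  obtain ⟨hfin, hle⟩ := k2_card_hom_le P
  have : Fintype (P →* ℂˣ) := Fintype.ofFinite _
  have hLall : L = Finset.univ.erase (1 : P →* ℂˣ) := by
    apply Finset.eq_of_subset_of_card_le
    · intro l hl
      rw [Finset.mem_erase]
      exact ⟨fun h => h1L (h ▸ hl), Finset.mem_univ _⟩
    · rw [Finset.card_erase_of_mem (Finset.mem_univ _), Finset.card_univ,
        ← Nat.card_eq_fintype_card, hLcard]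
      omega
  refine ⟨L, hres, h1L, ?_, ?_, ?_, ?_, ?_, ?_⟩
  · intro l hl
    rw [hLall, Finset.mem_erase]
    exact ⟨hl, Finset.mem_univ _⟩
  · rw [hLcard, hcard]
  · rw [hLcard, hdeg]
  · rw [hLcard]; exact h2
  · intro l hl m hm
    obtain ⟨a, ha⟩ := (mem_orbitFinset P).1 ((hLmem l).1 hl)
    obtain ⟨b, hb⟩ := (mem_orbitFinset P).1 ((hLmem m).1 hm)
    refine ⟨a⁻¹ * b, ?_⟩
    apply lin_injective P
    rw [← conjFun_lin, ← ha, conjFun_mul, mul_inv_cancel_left, hb]
  · intro x y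
    have hc : ∀ l : P →* ℂˣ, l (x * y * x⁻¹ * y⁻¹) = 1 := by
      intro l
      rw [map_mul, map_mul, map_mul, map_inv, map_inv, mul_comm (l x) (l y),
        mul_inv_cancel_right, mul_inv_cancel]
    have h3 : χ ((x * y * x⁻¹ * y⁻¹ : P) : G) = χ 1 := by
      rw [hres, hdeg, ← hLcard]
      have : ∀ l ∈ L, ((l (x * y * x⁻¹ * y⁻¹) : ℂˣ) : ℂ) = 1 := by
        intro l _
        rw [hc l]; rfl
      rw [Finset.sum_congr rfl this]
      simp
    have h4 := hH.faith _ h3
    have h5 : x * y * x⁻¹ * y⁻¹ = 1 := by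
      apply Subtype.ext
      rw [h4]; rfl
    calc x * y = (x * y * x⁻¹ * y⁻¹) * (y * x) := by group
      _ = y * x := by rw [h5, one_mul]

end Cfsg.Agent.Lib.Helper8.Chr8
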