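import Mathlib
import Cfsg.Agent.Lib.Helper2.CubD0
import Cfsg.Agent.Lib.Helper9.CubPC1
import Cfsg.Agent.Lib.Helper8.CubPC6bCore

/-!
# S4415 farm-out, package PC6b: `C_R(O) = {1, z}` (exact stub signature)
-/

set_option autoImplicit false
set_option linter.unusedVariables false
open Cfsg

namespace Cfsg.Agent.Lib.Helper2.Cub

variable {G : Type*} [Group G] {W : Type*} [AddCommGroup W] [Module (ZMod 3) W]
variable [Finite G] [Finite W] {ρ : Representation (ZMod 3) G W} {R Q : Subgroup G} {b : G}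

theorem Setup.pc6b_centralizer (h : Setup ρ R Q b) (hC : CaseC G) {z : G} (hzR : z ∈ R) (hz1 : z ≠ 1)
    (hzc : ∀ g : G, z * g = g * z) (O : Subgroup G) (hOn : O.Normal) (hOR : O ≤ R) (hzO : z ∈ O)
    (hO : IsExtraspecial 2 O)
    (hmax : ∀ O' : Subgroup G, O'.Normal → IsPGroup 2 O' → O' ≤ R → O ≤ O' → O' = O) :
    ∀ x ∈ R, (∀ o ∈ O, x * o = o * x) → x = 1 ∨ x = z :=
  h.pc6b_core (fun A hA hab hAR => h.pc1_abelian_central hC A hA hab hAR) hz1 hzc O hOn hOR
    hO.1.1 hmax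

end Cfsg.Agent.Lib.Helper2.Cub
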