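import Mathlib
import Cfsg.Prelude.Def_Characters
import Cfsg.Agent.Lib.Helper1.IndFun
import Cfsg.Agent.Lib.Helper1.CharFound7
import Cfsg.Agent.Lib.Helper4.Characters
import Cfsg.Agent.Lib.Helper4.CharTools
import Cfsg.Agent.Lib.Helper4.CharBound
import Cfsg.Agent.S0146
import Cfsg.Agent.S0148
import Cfsg.Agent.S0176

set_option autoImplicit false

namespace Cfsg.Agent.Lib.Helper8.DD

open Cfsg.Agent.Lib.Helper1 Cfsg.Agent.Lib.Helper4
open scoped ComplexConjugate

universe u

/-- A function on `G` is monomial: induced from a linear character of a subgroup. -/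
def IsMono (G : Type u) [Group G] [Fintype G] (χ : G → ℂ) : Prop :=
  ∃ (H : Subgroup G) (lam : H →* ℂˣ), χ = Cfsg.indFun H (fun h => ((lam h : ℂˣ) : ℂ))

section
variable {G : Type u} [Group G] [Fintype G]

theorem eq_zero_of_apply_one {χ : G → ℂ} (hχ : Cfsg.IsCharacter G χ) (h1 : χ 1 = 0) : χ = 0 := by
  funext g
  have h := isCharacter_norm_le hχ g
  rw [h1, Complex.zero_re] at h
  exact norm_le_zero_iff.1 h

/-- An irreducible constituent of a character has at most its degree, with equality only if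
they agree. -/
theorem constituent_deg {Ψ χ : G → ℂ} (hΨ : Cfsg.IsCharacter G Ψ)
    (hχ : Cfsg.IsIrrCharacter G χ) (h : Cfsg.classInner Ψ χ ≠ 0) :
    ∃ n : ℕ, Ψ 1 = χ 1 + n ∧ (n = 0 → Ψ = χ) := by
  obtain ⟨m, hm⟩ := classInner_char_irr_nat hΨ hχ
  have hm0 : 0 < m := by
    rcases Nat.eq_zero_or_pos m with h0 | h0
    · exfalso
      apply h
      rw [hm, h0]
      simp
    · exact h0
  have hσ := isCharacter_sub_irr hΨ hχ hm0 hm
  obtain ⟨n, hn⟩ := isCharacter_apply_one hσ
  refine ⟨n, ?_, ?_⟩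
  · have h2 : Ψ 1 - χ 1 = n := hn
    linear_combination h2
  · intro h0
    have h1 : (Ψ - χ) 1 = 0 := by
      rw [hn, h0]
      simp
    exact sub_eq_zero.1 (eq_zero_of_apply_one hσ h1)

/-- Induction commutes with multiplication by a class function of the big group. -/
theorem indFun_mul_class (H : Subgroup G) (α : H → ℂ) (β : G → ℂ)
    (hβ : Cfsg.IsClassFunction G β) :
    Cfsg.indFun H (fun h => α h * β h) = fun g => Cfsg.indFun H α g * β g := by
  funext g
  rw [indFun_apply, indFun_apply, mul_assoc, Finset.sum_mul]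
  congr 1
  refine Finset.sum_congr rfl fun x _ => ?_
  by_cases hx : x⁻¹ * g * x ∈ H
  · rw [extendByZero_of_mem _ _ hx, extendByZero_of_mem _ _ hx]
    have h1 : β (x⁻¹ * g * x) = β g := by
      have := hβ g x⁻¹
      simpa using this
    show α ⟨x⁻¹ * g * x, hx⟩ * β (x⁻¹ * g * x) = _
    rw [h1]
  · rw [extendByZero_of_notMem _ _ hx, extendByZero_of_notMem _ _ hx, zero_mul]

/-- Transport of induction along a group isomorphism. -/
theorem indFun_map_mulEquiv {A : Type u} [Group A] [Fintype A] (e : A ≃* G) (H : Subgroup A)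
    (μ : H → ℂ) :
    Cfsg.indFun (H.map e.toMonoidHom)
        (fun y => μ ((H.equivMapOfInjective e.toMonoidHom e.injective).symm y))
      = fun b => Cfsg.indFun H μ (e.symm b) := by
  funext b
  rw [indFun_apply, indFun_apply]
  have hc : Nat.card (H.map e.toMonoidHom) = Nat.card H :=
    (Nat.card_congr (H.equivMapOfInjective e.toMonoidHom e.injective).toEquiv).symm
  rw [hc]
  congr 1
  symm
  refine Fintype.sum_equiv e.toEquiv _ _ fun x => ?_
  have hy : e (x⁻¹ * e.symm b * x) = (e x)⁻¹ * b * e x := by simp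
  show Cfsg.extendByZero H μ (x⁻¹ * e.symm b * x) = Cfsg.extendByZero _ _ ((e x)⁻¹ * b * e x)
  rw [← hy]
  by_cases hyH : x⁻¹ * e.symm b * x ∈ H
  · have hm : e (x⁻¹ * e.symm b * x) ∈ H.map e.toMonoidHom := ⟨_, hyH, rfl⟩
    rw [extendByZero_of_mem _ _ hyH, extendByZero_of_mem _ _ hm]
    congr 1
    symm
    rw [MulEquiv.symm_apply_eq]
    apply Subtype.ext
    rfl
  · have hm : e (x⁻¹ * e.symm b * x) ∉ H.map e.toMonoidHom := by
      rintro ⟨z, hz, hzy⟩
      have : z = x⁻¹ * e.symm b * x := e.injective hzy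
      exact hyH (this ▸ hz)
    rw [extendByZero_of_notMem _ _ hyH, extendByZero_of_notMem _ _ hm]

theorem isMono_of_mulEquiv {A : Type u} [Group A] [Fintype A] (e : A ≃* G) {θ : G → ℂ}
    (h : IsMono A (fun a => θ (e a))) : IsMono G θ := by
  obtain ⟨H, lam, hlam⟩ := h
  refine ⟨H.map e.toMonoidHom,
    lam.comp (H.equivMapOfInjective e.toMonoidHom e.injective).symm.toMonoidHom, ?_⟩
  have h1 := indFun_map_mulEquiv e H (fun h => ((lam h : ℂˣ) : ℂ))
  funext b
  have h2 := congrFun h1 b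
  have h3 := congrFun hlam (e.symm b)
  simp only [MulEquiv.apply_symm_apply] at h3
  rw [h3, ← h2]
  rfl

theorem isMono_ind (T : Subgroup G) [Fintype T] {ψ : T → ℂ} (h : IsMono T ψ) :
    IsMono G (Cfsg.indFun T ψ) := by
  obtain ⟨S, lam, rfl⟩ := h
  rw [Cfsg.Agent.S0176.indFun_trans_map]
  refine ⟨S.map T.subtype,
    lam.comp (S.equivMapOfInjective T.subtype T.subtype_injective).symm.toMonoidHom, ?_⟩
  congr 1
  funext y
  show ((lam _ : ℂˣ) : ℂ) = ((lam ((S.equivMapOfInjective T.subtype T.subtype_injective).symm y) : ℂˣ) : ℂ)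
  congr 2
  symm
  rw [MulEquiv.symm_apply_eq]
  apply Subtype.ext
  rfl

end

end Cfsg.Agent.Lib.Helper8.DD
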