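import Mathlib
import Cfsg.Prelude.Def_Characters
import Cfsg.Agent.Lib.Helper8.DD1
import Cfsg.Agent.Lib.Helper1.LinearChar
import Cfsg.Agent.Lib.Helper1.CharFound5
import Cfsg.Agent.Lib.Helper1.CharFound6
import Cfsg.Agent.S4996

set_option autoImplicit false

namespace Cfsg.Agent.Lib.Helper8.DD

open Cfsg.Agent.Lib.Helper1 Cfsg.Agent.Lib.Helper4
open scoped ComplexConjugate

universe u

section Prod
variable {G : Type u} [Group G]

theorem isCharacter_const_one : Cfsg.IsCharacter G (fun _ => (1 : ℂ)) := by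
  have h := isCharacter_of_irr (isIrrCharacter_of_hom (1 : G →* ℂˣ))
  simpa using h

theorem isCharacter_finset_prod {κ : Type*} (s : Finset κ) (F : κ → G → ℂ)
    (h : ∀ i ∈ s, Cfsg.IsCharacter G (F i)) :
    Cfsg.IsCharacter G (fun g => ∏ i ∈ s, F i g) := by
  classical
  induction s using Finset.induction_on with
  | empty => simpa using (isCharacter_const_one (G := G))
  | insert i s hi ih =>
    have h1 := Cfsg.Agent.S4996.isCharacter_mul (h i (Finset.mem_insert_self i s))
      (ih fun j hj => h j (Finset.mem_insert_of_mem hj))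
    convert h1 using 1
    funext g
    rw [Finset.prod_insert hi]

end Prod

section Pi
variable {ι : Type u} [Fintype ι] [DecidableEq ι] {M : Type u} [Group M] [Fintype M]

/-- The product function on a power of `M`. -/
noncomputable def piFn (θ : ι → M → ℂ) : (ι → M) → ℂ := fun f => ∏ i, θ i (f i)

theorem piFn_apply (θ : ι → M → ℂ) (f : ι → M) : piFn θ f = ∏ i, θ i (f i) := rfl

theorem isCharacter_piFn (θ : ι → M → ℂ) (h : ∀ i, Cfsg.IsCharacter M (θ i)) :
    Cfsg.IsCharacter (ι → M) (piFn θ) := by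
  apply isCharacter_finset_prod Finset.univ (fun i (f : ι → M) => θ i (f i))
  intro i _
  exact isCharacter_comp_hom (h i) (Pi.evalMonoidHom (fun _ : ι => M) i)

theorem classInner_piFn (θ θ' : ι → M → ℂ) :
    Cfsg.classInner (piFn θ) (piFn θ') = ∏ i, Cfsg.classInner (θ i) (θ' i) := by
  unfold Cfsg.classInner
  rw [Finset.prod_mul_distrib, Finset.prod_const, Finset.card_univ, Fintype.prod_sum]
  congr 1
  · rw [Nat.card_fun, Nat.card_eq_fintype_card (α := ι), Nat.cast_pow, inv_pow]
  · refine Finset.sum_congr rfl fun f _ => ?_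
    rw [piFn_apply, piFn_apply, map_prod, Finset.prod_mul_distrib]

theorem isIrrCharacter_piFn (θ : ι → M → ℂ) (h : ∀ i, Cfsg.IsIrrCharacter M (θ i)) :
    Cfsg.IsIrrCharacter (ι → M) (piFn θ) := by
  apply isIrrCharacter_of_norm_one (isCharacter_piFn θ fun i => isCharacter_of_irr (h i))
  rw [classInner_piFn]
  exact Finset.prod_eq_one fun i _ => classInner_irr_self (h i)

theorem piFn_injective {θ θ' : ι → M → ℂ} (h : ∀ i, Cfsg.IsIrrCharacter M (θ i))
    (h' : ∀ i, Cfsg.IsIrrCharacter M (θ' i)) (heq : piFn θ = piFn θ') : θ = θ' := by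
  funext i
  by_contra hne
  have h1 : Cfsg.classInner (piFn θ) (piFn θ') = 1 := by
    rw [← heq]
    exact classInner_irr_self (isIrrCharacter_piFn θ h)
  rw [classInner_piFn, Finset.prod_eq_zero (Finset.mem_univ i) (classInner_irr_ne (h i) (h' i) hne)]
    at h1
  exact zero_ne_one h1

open Classical in
theorem reg_sum [Fintype (Cfsg.IrrCharacter M)] (h : M) :
    ∑ χ : Cfsg.IrrCharacter M, (χ : M → ℂ) h * conj ((χ : M → ℂ) 1)
      = if h = 1 then (Nat.card M : ℂ) else 0 := by
  classical
  rw [column_orthogonality 1 h]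
  have h1 : Subgroup.centralizer ({1} : Set M) = ⊤ := by
    ext x
    simp [Subgroup.mem_centralizer_iff]
  rw [h1, Subgroup.card_top]
  unfold classIndicator
  by_cases hh : h = 1
  · subst hh
    simp
  · have : ¬ IsConj 1 h := by
      intro hc
      exact hh (isConj_one_right.1 hc)
    rw [if_neg this, if_neg hh, mul_zero]

/-- Every irreducible character of a power of `M` is a product of irreducible characters. -/
theorem exists_piFn_of_irr {θ : (ι → M) → ℂ} (hθ : Cfsg.IsIrrCharacter (ι → M) θ) :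
    ∃ τ : ι → M → ℂ, (∀ i, Cfsg.IsIrrCharacter M (τ i)) ∧ θ = piFn τ := by
  classical
  have : Fintype (Cfsg.IrrCharacter M) := Fintype.ofFinite _
  by_contra hcon
  push Not at hcon
  have horth : ∀ τ : ι → Cfsg.IrrCharacter M,
      Cfsg.classInner θ (piFn fun i => (τ i : M → ℂ)) = 0 := by
    intro τ
    apply classInner_irr_ne hθ (isIrrCharacter_piFn _ fun i => (τ i).2)
    exact hcon _ fun i => (τ i).2
  set R : (ι → M) → ℂ := ∑ τ : ι → Cfsg.IrrCharacter M,
    conj (piFn (fun i => (τ i : M → ℂ)) 1) • piFn (fun i => (τ i : M → ℂ)) with hR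
  have hR1 : ∀ f : ι → M, R f = if f = 1 then (Nat.card (ι → M) : ℂ) else 0 := by
    intro f
    rw [hR, Finset.sum_apply]
    simp only [Pi.smul_apply, smul_eq_mul, piFn_apply, Pi.one_apply]
    have h1 : ∀ τ : ι → Cfsg.IrrCharacter M,
        conj (∏ i, (τ i : M → ℂ) 1) * ∏ i, (τ i : M → ℂ) (f i)
          = ∏ i, ((τ i : M → ℂ) (f i) * conj ((τ i : M → ℂ) 1)) := by
      intro τ
      rw [map_prod, Finset.prod_mul_distrib, mul_comm]
    rw [Finset.sum_congr rfl fun τ _ => h1 τ, ← Fintype.prod_sum
      (f := fun i (χ : Cfsg.IrrCharacter M) => (χ : M → ℂ) (f i) * conj ((χ : M → ℂ) 1))]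
    rw [Finset.prod_congr rfl fun i _ => reg_sum (f i), Fintype.prod_ite_zero]
    have h2 : (∀ i, f i = 1) ↔ f = 1 := by
      constructor
      · intro h
        funext i
        exact h i
      · intro h i
        rw [h]
        rfl
    simp only [h2]
    congr 1
    rw [Finset.prod_const, Finset.card_univ, Nat.card_fun, Nat.card_eq_fintype_card (α := ι),
      Nat.cast_pow]
  have hc0 : (Nat.card (ι → M) : ℂ) ≠ 0 := Nat.cast_ne_zero.2 Nat.card_pos.ne'
  have h3 : Cfsg.classInner θ R = θ 1 := by
    unfold Cfsg.classInner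
    rw [Finset.sum_eq_single (1 : ι → M)]
    · rw [hR1 1, if_pos rfl, Complex.conj_natCast]
      field_simp
    · intro f _ hf
      rw [hR1 f, if_neg hf]
      simp
    · intro h
      exact absurd (Finset.mem_univ _) h
  have h4 : Cfsg.classInner θ R = 0 := by
    rw [hR, classInner_sum_right]
    apply Finset.sum_eq_zero
    intro τ _
    rw [classInner_smul_right, horth τ, mul_zero]
  exact irr_apply_one_ne_zero hθ (h3.symm.trans h4)

/-- The subgroup `∏ H i` is in bijection with the product of the `H i`. -/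
def piSubEquiv (H : ι → Subgroup M) : (Subgroup.pi Set.univ H) ≃ (∀ i, H i) where
  toFun f i := ⟨f.1 i, (Subgroup.mem_pi _).1 f.2 i (Set.mem_univ i)⟩
  invFun g := ⟨fun i => g i, (Subgroup.mem_pi _).2 fun i _ => (g i).2⟩
  left_inv f := by
    apply Subtype.ext
    rfl
  right_inv g := by
    funext i
    rfl

theorem card_pi_sub (H : ι → Subgroup M) :
    Nat.card (Subgroup.pi Set.univ H) = ∏ i, Nat.card (H i) := by
  rw [Nat.card_congr (piSubEquiv H), Nat.card_pi]

theorem extendByZero_pi (H : ι → Subgroup M) (lam : ∀ i, H i → ℂ) (g : ι → M) :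
    Cfsg.extendByZero (Subgroup.pi Set.univ H)
        (fun f => ∏ i, lam i ⟨f.1 i, (Subgroup.mem_pi _).1 f.2 i (Set.mem_univ i)⟩) g
      = ∏ i, Cfsg.extendByZero (H i) (lam i) (g i) := by
  by_cases hg : g ∈ Subgroup.pi Set.univ H
  · rw [extendByZero_of_mem _ _ hg]
    refine Finset.prod_congr rfl fun i _ => ?_
    rw [extendByZero_of_mem _ _ ((Subgroup.mem_pi _).1 hg i (Set.mem_univ i))]
  · rw [extendByZero_of_notMem _ _ hg]
    have : ∃ i, g i ∉ H i := by
      by_contra hcon
      push Not at hcon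
      exact hg ((Subgroup.mem_pi _).2 fun i _ => hcon i)
    obtain ⟨i, hi⟩ := this
    rw [Finset.prod_eq_zero (Finset.mem_univ i) (extendByZero_of_notMem (H i) (lam i) hi)]

/-- Induction from a product of subgroups of a product of functions is the product of the
induced functions. -/
theorem indFun_pi (H : ι → Subgroup M) (lam : ∀ i, H i → ℂ) :
    Cfsg.indFun (Subgroup.pi Set.univ H)
        (fun f => ∏ i, lam i ⟨f.1 i, (Subgroup.mem_pi _).1 f.2 i (Set.mem_univ i)⟩)
      = piFn (fun i => Cfsg.indFun (H i) (lam i)) := by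
  funext f
  rw [indFun_apply, piFn_apply]
  simp only [indFun_apply]
  rw [Finset.prod_mul_distrib, Fintype.prod_sum, card_pi_sub, Nat.cast_prod, Finset.prod_inv_distrib]
  congr 1
  refine Finset.sum_congr rfl fun x _ => ?_
  rw [extendByZero_pi]
  rfl

end Pi

end Cfsg.Agent.Lib.Helper8.DD
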