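import Mathlib
import Cfsg.Prelude.Def_Characters
import Cfsg.Agent.Lib.Helper8.DD1
import Cfsg.Agent.Lib.Helper8.DD2

set_option autoImplicit false

namespace Cfsg.Agent.Lib.Helper8.DD

open Cfsg.Agent.Lib.Helper1 Cfsg.Agent.Lib.Helper4
open scoped ComplexConjugate
open RegularWreathProduct

universe u

section Wr
variable {M Q : Type u} [Group M] [Group Q]

noncomputable instance wrFintype [Fintype M] [Fintype Q] [DecidableEq Q] : Fintype (M ≀ᵣ Q) :=
  Fintype.ofEquiv _ (equivProd M Q).symm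

variable (M Q) in
/-- The base group of the regular wreath product. -/
def base : Subgroup (M ≀ᵣ Q) := (rightHom : M ≀ᵣ Q →* Q).ker

instance base_normal : (base M Q).Normal := MonoidHom.normal_ker _

theorem mem_base {w : M ≀ᵣ Q} : w ∈ base M Q ↔ w.right = 1 := by
  unfold base
  rw [MonoidHom.mem_ker]
  rfl

variable (M Q) in
/-- The base group is the power `Q → M`. -/
def baseEquiv : (Q → M) ≃* base M Q where
  toFun f := ⟨⟨f, 1⟩, mem_base.2 rfl⟩
  invFun b := b.1.left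
  left_inv f := rfl
  right_inv b := by
    apply Subtype.ext
    exact RegularWreathProduct.ext rfl (mem_base.1 b.2).symm
  map_mul' f g := by
    apply Subtype.ext
    apply RegularWreathProduct.ext
    · funext x
      simp
    · simp

theorem baseEquiv_apply_left (f : Q → M) : ((baseEquiv M Q f : base M Q) : M ≀ᵣ Q).left = f := rfl

theorem baseEquiv_left (b : base M Q) : baseEquiv M Q (b.1.left) = b :=
  (baseEquiv M Q).right_inv b

theorem conj_left (w b : M ≀ᵣ Q) (hb : b.right = 1) (x : Q) :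
    (w⁻¹ * b * w).left x
      = (w.left (w.right * x))⁻¹ * b.left (w.right * x) * w.left (w.right * x) := by
  simp [hb]

theorem conj_left' (w b : M ≀ᵣ Q) (hb : b.right = 1) (x : Q) :
    (w * b * w⁻¹).left x = w.left x * b.left (w.right⁻¹ * x) * (w.left x)⁻¹ := by
  simp [hb]

/-- The subgroup `H ≀ Q` of `M ≀ Q`. -/
def wrSub (H : Subgroup M) : Subgroup (M ≀ᵣ Q) where
  carrier := {w | ∀ q, w.left q ∈ H}
  mul_mem' := by
    intro a b ha hb q
    rw [mul_left, Pi.mul_apply]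
    exact H.mul_mem (ha q) (hb _)
  one_mem' := fun q => H.one_mem
  inv_mem' := by
    intro a ha q
    rw [inv_left]
    exact H.inv_mem (ha _)

theorem mem_wrSub {H : Subgroup M} {w : M ≀ᵣ Q} : w ∈ wrSub (Q := Q) H ↔ ∀ q, w.left q ∈ H :=
  Iff.rfl

variable [Fintype Q]

/-- The linear character `λ × ⋯ × λ` extended trivially to `H ≀ Q`. -/
noncomputable def wrLam (H : Subgroup M) (lam : H →* ℂˣ) : wrSub (Q := Q) H →* ℂˣ where
  toFun w := ∏ q, lam ⟨w.1.left q, w.2 q⟩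
  map_one' := by
    apply Finset.prod_eq_one
    intro q _
    exact map_one lam
  map_mul' a b := by
    have h1 : ∀ q, (⟨((a * b : wrSub (Q := Q) H) : M ≀ᵣ Q).left q, (a * b).2 q⟩ : H)
        = ⟨a.1.left q, a.2 q⟩ * ⟨b.1.left (a.1.right⁻¹ * q), b.2 _⟩ := by
      intro q
      apply Subtype.ext
      rfl
    rw [Finset.prod_congr rfl fun q _ => by rw [h1 q, map_mul], Finset.prod_mul_distrib]
    congr 1
    exact Equiv.prod_comp (Equiv.mulLeft a.1.right⁻¹) (fun q => lam ⟨b.1.left q, b.2 q⟩)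

theorem wrLam_coe (H : Subgroup M) (lam : H →* ℂˣ) (w : wrSub (Q := Q) H) :
    ((wrLam H lam w : ℂˣ) : ℂ) = ∏ q, ((lam ⟨w.1.left q, w.2 q⟩ : ℂˣ) : ℂ) := by
  unfold wrLam
  simp [Units.coe_prod]

theorem extendByZero_wrSub (H : Subgroup M) (μ : H → ℂ) (g : M ≀ᵣ Q) :
    Cfsg.extendByZero (wrSub (Q := Q) H) (fun w => ∏ q, μ ⟨w.1.left q, w.2 q⟩) g
      = ∏ q, Cfsg.extendByZero H μ (g.left q) := by
  by_cases hg : g ∈ wrSub (Q := Q) H
  · rw [extendByZero_of_mem _ _ hg]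
    refine Finset.prod_congr rfl fun q _ => ?_
    rw [extendByZero_of_mem _ _ (hg q)]
  · rw [extendByZero_of_notMem _ _ hg]
    have : ∃ q, g.left q ∉ H := by
      by_contra hcon
      push Not at hcon
      exact hg hcon
    obtain ⟨q, hq⟩ := this
    rw [Finset.prod_eq_zero (Finset.mem_univ q) (extendByZero_of_notMem H μ hq)]

/-- `H ≀ Q` is in bijection with `(Q → H) × Q`. -/
def wrSubEquiv (H : Subgroup M) : wrSub (Q := Q) H ≃ (Q → H) × Q where
  toFun w := (fun q => ⟨w.1.left q, w.2 q⟩, w.1.right)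
  invFun p := ⟨⟨fun q => p.1 q, p.2⟩, fun q => (p.1 q).2⟩
  left_inv w := by
    apply Subtype.ext
    rfl
  right_inv p := rfl

theorem card_wrSub [Finite M] (H : Subgroup M) :
    Nat.card (wrSub (Q := Q) H) = Nat.card H ^ Nat.card Q * Nat.card Q := by
  rw [Nat.card_congr (wrSubEquiv H), Nat.card_prod, Nat.card_fun]

variable [Fintype M] [DecidableEq Q]

theorem sum_wr (F : M ≀ᵣ Q → ℂ) :
    ∑ w : M ≀ᵣ Q, F w = ∑ g : Q → M, ∑ r : Q, F ⟨g, r⟩ := by
  rw [← Fintype.sum_prod_type']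
  exact Fintype.sum_equiv (equivProd M Q) _ _ fun w => rfl

/-- The character induced from `λ × ⋯ × λ` on `H ≀ Q`, restricted to the base group. -/
theorem indFun_wrSub_base (H : Subgroup M) (μ : H → ℂ) (b : M ≀ᵣ Q) (hb : b.right = 1) :
    Cfsg.indFun (wrSub (Q := Q) H) (fun w => ∏ q, μ ⟨w.1.left q, w.2 q⟩) b
      = ∏ q, Cfsg.indFun H μ (b.left q) := by
  have hH0 : (Nat.card H : ℂ) ≠ 0 := Nat.cast_ne_zero.2 Nat.card_pos.ne'
  have hQ0 : (Nat.card Q : ℂ) ≠ 0 := Nat.cast_ne_zero.2 Nat.card_pos.ne'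
  rw [indFun_apply]
  simp only [indFun_apply]
  rw [Finset.prod_mul_distrib, Fintype.prod_sum, Finset.prod_const, Finset.card_univ, card_wrSub,
    sum_wr]
  have h1 : ∀ (g : Q → M) (r : Q),
      Cfsg.extendByZero (wrSub (Q := Q) H) (fun w => ∏ q, μ ⟨w.1.left q, w.2 q⟩)
        ((⟨g, r⟩ : M ≀ᵣ Q)⁻¹ * b * ⟨g, r⟩)
      = ∏ y, Cfsg.extendByZero H μ ((g y)⁻¹ * b.left y * g y) := by
    intro g r
    rw [extendByZero_wrSub]
    rw [← Equiv.prod_comp (Equiv.mulLeft r)
      (fun y => Cfsg.extendByZero H μ ((g y)⁻¹ * b.left y * g y))]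
    refine Finset.prod_congr rfl fun x _ => ?_
    rw [conj_left _ _ hb]
    rfl
  rw [Finset.sum_congr rfl fun g _ => Finset.sum_congr rfl fun r _ => h1 g r]
  simp only [Finset.sum_const, Finset.card_univ, nsmul_eq_mul]
  rw [← Finset.mul_sum, Nat.card_eq_fintype_card (α := Q)]
  push_cast
  have hQ0' : (Fintype.card Q : ℂ) ≠ 0 := by
    rw [← Nat.card_eq_fintype_card]
    exact hQ0
  rw [mul_inv, inv_pow, mul_assoc, ← mul_assoc (↑(Fintype.card Q) : ℂ)⁻¹,
    inv_mul_cancel₀ hQ0', one_mul]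

end Wr

end Cfsg.Agent.Lib.Helper8.DD
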