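import Mathlib
import Cfsg.Prelude.Def_Characters
import Cfsg.Agent.Lib.Helper8.DD1
import Cfsg.Agent.Lib.Helper8.DD2
import Cfsg.Agent.Lib.Helper8.DD3
import Cfsg.Agent.Lib.Helper4.Gallagher
import Cfsg.Agent.S0146
import Cfsg.Agent.S0148
import Cfsg.Agent.S0193

set_option autoImplicit false

namespace Cfsg.Agent.Lib.Helper8.DD

open Cfsg.Agent.Lib.Helper1 Cfsg.Agent.Lib.Helper4
open scoped ComplexConjugate
open RegularWreathProduct

universe u

theorem sum_hom_apply' (A : Type*) [Group A] [Finite A] (hc : ∀ a b : A, a * b = b * a)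
    [Fintype (A →* ℂˣ)] (a : A) [Decidable (a = 1)] :
    ∑ f : A →* ℂˣ, ((f a : ℂˣ) : ℂ) = if a = 1 then (Nat.card A : ℂ) else 0 := by
  let _ : CommGroup A := { (inferInstance : Group A) with mul_comm := hc }
  split_ifs with h
  · subst h
    exact sum_hom_apply_one A
  · exact sum_hom_apply_ne A h

section Pi
variable {ι : Type u} [Fintype ι] [DecidableEq ι] {M : Type u} [Group M] [Fintype M]

/-- The product of linear characters on a product of subgroups. -/
noncomputable def piLam (H : ι → Subgroup M) (lam : ∀ i, H i →* ℂˣ) :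
    Subgroup.pi Set.univ H →* ℂˣ where
  toFun f := ∏ i, lam i ⟨f.1 i, (Subgroup.mem_pi _).1 f.2 i (Set.mem_univ i)⟩
  map_one' := Finset.prod_eq_one fun i _ => map_one (lam i)
  map_mul' a b := by
    rw [← Finset.prod_mul_distrib]
    refine Finset.prod_congr rfl fun i _ => ?_
    rw [← map_mul]
    rfl

theorem isMono_piFn (τ : ι → M → ℂ) (h : ∀ i, IsMono M (τ i)) : IsMono (ι → M) (piFn τ) := by
  choose H lam hlam using h
  refine ⟨Subgroup.pi Set.univ H, piLam H lam, ?_⟩
  have h1 := indFun_pi H (fun i h => ((lam i h : ℂˣ) : ℂ))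
  have h2 : τ = fun i => Cfsg.indFun (H i) (fun h => ((lam i h : ℂˣ) : ℂ)) := funext hlam
  rw [h2, ← h1]
  congr 1
  funext f
  unfold piLam
  simp [Units.coe_prod]

end Pi

section Main
variable {M Q : Type u} [Group M] [Group Q] [Fintype M] [Fintype Q] [DecidableEq Q]

/-- The linear character `(λ × ⋯ × λ) · ν` of `H ≀ Q`. -/
noncomputable def wrLamNu (H : Subgroup M) (lam : H →* ℂˣ) (ν : Q →* ℂˣ) :
    wrSub (Q := Q) H →* ℂˣ :=
  wrLam H lam * ((ν.comp rightHom).comp (wrSub (Q := Q) H).subtype)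

theorem wrLamNu_coe (H : Subgroup M) (lam : H →* ℂˣ) (ν : Q →* ℂˣ) (w : wrSub (Q := Q) H) :
    ((wrLamNu H lam ν w : ℂˣ) : ℂ) = ((wrLam H lam w : ℂˣ) : ℂ) * ((ν w.1.right : ℂˣ) : ℂ) := rfl

theorem card_wr_eq : (Nat.card (M ≀ᵣ Q) : ℂ) = (Nat.card (base M Q) : ℂ) * (Nat.card Q : ℂ) := by
  rw [RegularWreathProduct.card, Nat.card_congr (baseEquiv M Q).toEquiv.symm, Nat.card_fun]
  push_cast
  rfl

/-- If `M` is an M-group and `Q` has prime order, the regular wreath product `M ≀ Q` is an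
M-group. -/
theorem wreath_mono (hM : ∀ φ : M → ℂ, Cfsg.IsIrrCharacter M φ → IsMono M φ)
    (hp : (Nat.card Q).Prime) (χ : M ≀ᵣ Q → ℂ) (hχ : Cfsg.IsIrrCharacter (M ≀ᵣ Q) χ) :
    IsMono (M ≀ᵣ Q) χ := by
  classical
  have hpf : Fact (Nat.card Q).Prime := ⟨hp⟩
  have : Fintype (base M Q) := Fintype.ofFinite _
  have hres : Cfsg.IsCharacter (base M Q) (fun b : base M Q => χ b) :=
    Cfsg.Agent.S0148.isCharacter_restrict (base M Q) (isCharacter_of_irr hχ)
  have hres1 : (fun b : base M Q => χ b) 1 ≠ 0 := irr_apply_one_ne_zero hχ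
  obtain ⟨θ, hθ, m, hm0, hm⟩ := exists_constituent hres hres1
  have hm_ne : (m : ℂ) ≠ 0 := Nat.cast_ne_zero.2 hm0.ne'
  have hθe : Cfsg.IsIrrCharacter (Q → M) (fun f => θ (baseEquiv M Q f)) :=
    isIrrCharacter_comp_mulEquiv hθ (baseEquiv M Q)
  obtain ⟨τ, hτ, hθτ⟩ := exists_piFn_of_irr hθe
  have hθb : ∀ b : base M Q, θ b = ∏ q, τ q (b.1.left q) := by
    intro b
    have h1 := congrFun hθτ b.1.left
    simp only [baseEquiv_left] at h1
    exact h1
  let S : Subgroup Q :=
    { carrier := {r | ∀ y, τ (r * y) = τ y}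
      mul_mem' := by
        intro a b ha hb y
        rw [mul_assoc, ha, hb]
      one_mem' := by
        intro y
        rw [one_mul]
      inv_mem' := by
        intro a ha y
        have h1 := ha (a⁻¹ * y)
        rw [mul_inv_cancel_left] at h1
        exact h1.symm }
  have hconj : ∀ (w : M ≀ᵣ Q) (b : base M Q),
      θ ⟨w * b * w⁻¹, base_normal.conj_mem b b.2 w⟩ = ∏ y, τ (w.right * y) (b.1.left y) := by
    intro w b
    rw [hθb]
    rw [← Equiv.prod_comp (Equiv.mulLeft w.right)]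
    refine Finset.prod_congr rfl fun y _ => ?_
    simp only [Equiv.coe_mulLeft]
    rw [conj_left' _ _ (mem_base.1 b.2), inv_mul_cancel_left]
    exact isClassFunction_irr (hτ _) _ _
  have hstab : ∀ w : M ≀ᵣ Q,
      (∀ b : base M Q, θ ⟨w * b * w⁻¹, base_normal.conj_mem b b.2 w⟩ = θ b) → w.right ∈ S := by
    intro w hw
    have h1 : piFn (fun y => τ (w.right * y)) = piFn τ := by
      funext f
      have h2 := hw (baseEquiv M Q f)
      rw [hconj, hθb] at h2
      exact h2
    have h2 := piFn_injective (fun y => hτ _) hτ h1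
    intro y
    exact congrFun h2 y
  rcases S.eq_bot_or_eq_top_of_prime_card with hS | hS
  · -- the inertia group is the base group
    have hmem : ∀ w : M ≀ᵣ Q,
        (∀ b : base M Q, θ ⟨w * b * w⁻¹, base_normal.conj_mem b b.2 w⟩ = θ b) ↔ w ∈ base M Q := by
      intro w
      constructor
      · intro hw
        have h1 := hstab w hw
        rw [hS, Subgroup.mem_bot] at h1
        exact mem_base.2 h1
      · intro hw b
        exact isClassFunction_irr hθ b ⟨w, hw⟩
    have h193 := Cfsg.Agent.S0193.result (base M Q) θ hθ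
    have hcard : Nat.card {g : M ≀ᵣ Q // ∀ h : base M Q,
        θ ⟨g * h * g⁻¹, base_normal.conj_mem h h.2 g⟩ = θ h} = Nat.card (base M Q) :=
      Nat.card_congr (Equiv.subtypeEquivRight hmem)
    rw [hcard] at h193
    have hB0 : (Nat.card (base M Q) : ℂ) ≠ 0 := Nat.cast_ne_zero.2 Nat.card_pos.ne'
    have hnorm : Cfsg.classInner (Cfsg.indFun (base M Q) θ) (Cfsg.indFun (base M Q) θ) = 1 :=
      mul_left_cancel₀ hB0 (h193.trans (mul_one _).symm)
    have hirr : Cfsg.IsIrrCharacter (M ≀ᵣ Q) (Cfsg.indFun (base M Q) θ) :=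
      isIrrCharacter_of_norm_one
        (Cfsg.Agent.S0148.result (base M Q) θ (isCharacter_of_irr hθ)) hnorm
    have hrec : Cfsg.classInner (Cfsg.indFun (base M Q) θ) χ
        = Cfsg.classInner θ (fun b : base M Q => χ b) :=
      Cfsg.Agent.S0146.result (base M Q) θ χ (isClassFunction_irr hχ)
    have hne : Cfsg.classInner (Cfsg.indFun (base M Q) θ) χ ≠ 0 := by
      rw [hrec, ← classInner_conj_symm, hm, Complex.conj_natCast]
      exact hm_ne
    have heq : Cfsg.indFun (base M Q) θ = χ := by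
      by_contra hne'
      exact hne (classInner_irr_ne hirr hχ hne')
    rw [← heq]
    apply isMono_ind
    apply isMono_of_mulEquiv (baseEquiv M Q)
    rw [hθτ]
    exact isMono_piFn τ fun q => hM _ (hτ q)
  · -- `θ` is invariant
    have hconst : ∀ y, τ y = τ 1 := by
      intro y
      have h1 : y ∈ S := by
        rw [hS]
        exact Subgroup.mem_top y
      have h2 := h1 1
      rwa [mul_one] at h2
    obtain ⟨H, lam, hφ⟩ := hM (τ 1) (hτ 1)
    have hQc : ∀ a b : Q, a * b = b * a := by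
      have hcyc : IsCyclic Q := isCyclic_of_prime_card (p := Nat.card Q) rfl
      intro a b
      exact (IsCyclic.isMulCommutative (α := Q)).is_comm.comm a b
    have : Fintype (Q →* ℂˣ) := Fintype.ofFinite _
    set ψ : M ≀ᵣ Q → ℂ :=
      Cfsg.indFun (wrSub (Q := Q) H) (fun w => ((wrLam H lam w : ℂˣ) : ℂ)) with hψ
    have hψB : ∀ b : base M Q, ψ b = θ b := by
      intro b
      rw [hθb, hψ]
      have h1 : (fun w : wrSub (Q := Q) H => ((wrLam H lam w : ℂˣ) : ℂ))
          = fun w => ∏ q, (fun h : H => ((lam h : ℂˣ) : ℂ)) ⟨w.1.left q, w.2 q⟩ := by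
        funext w
        exact wrLam_coe H lam w
      have h2 := indFun_wrSub_base H (fun h : H => ((lam h : ℂˣ) : ℂ)) b.1 (mem_base.1 b.2)
      rw [h1]
      refine h2.trans ?_
      refine Finset.prod_congr rfl fun q _ => ?_
      rw [hconst q, hφ]
    have hΨ : ∀ ν : Q →* ℂˣ,
        Cfsg.indFun (wrSub (Q := Q) H) (fun w => ((wrLamNu H lam ν w : ℂˣ) : ℂ))
        = fun g => ψ g * ((ν g.right : ℂˣ) : ℂ) := by
      intro ν
      have hcl : Cfsg.IsClassFunction (M ≀ᵣ Q) (fun g => ((ν g.right : ℂˣ) : ℂ)) := by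
        intro g h
        show ((ν (h * g * h⁻¹).right : ℂˣ) : ℂ) = ((ν g.right : ℂˣ) : ℂ)
        rw [mul_right, mul_right, inv_right, map_mul, map_mul, map_inv, mul_comm (ν h.right),
          mul_inv_cancel_right]
      have h1 := indFun_mul_class (wrSub (Q := Q) H) (fun w => ((wrLam H lam w : ℂˣ) : ℂ)) _ hcl
      rw [← hψ] at h1
      rw [← h1]
      congr 1
    have hsum : ∑ ν : Q →* ℂˣ,
        Cfsg.classInner χ (fun g => ψ g * ((ν g.right : ℂˣ) : ℂ)) = m := by
      have h1 : ∀ g : M ≀ᵣ Q, ∑ ν : Q →* ℂˣ, χ g * conj (ψ g * ((ν g.right : ℂˣ) : ℂ))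
          = Cfsg.extendByZero (base M Q) (fun b => (Nat.card Q : ℂ) * conj (θ b)) g * χ g := by
        intro g
        simp only [map_mul]
        rw [← Finset.mul_sum, ← Finset.mul_sum, ← map_sum, sum_hom_apply' Q hQc g.right]
        by_cases hg : g ∈ base M Q
        · have hψg : θ ⟨g, hg⟩ = ψ g := (hψB ⟨g, hg⟩).symm
          rw [extendByZero_of_mem _ _ hg, if_pos (mem_base.1 hg), hψg, Complex.conj_natCast]
          ring
        · rw [extendByZero_of_notMem _ _ hg, if_neg (fun h => hg (mem_base.2 h))]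
          simp
      have h2 : ∑ ν : Q →* ℂˣ, Cfsg.classInner χ (fun g => ψ g * ((ν g.right : ℂˣ) : ℂ))
          = (Nat.card (M ≀ᵣ Q) : ℂ)⁻¹ * ∑ g : M ≀ᵣ Q,
              ∑ ν : Q →* ℂˣ, χ g * conj (ψ g * ((ν g.right : ℂˣ) : ℂ)) := by
        unfold Cfsg.classInner
        rw [← Finset.mul_sum, Finset.sum_comm]
      rw [h2, Finset.sum_congr rfl fun g _ => h1 g, sum_extendByZero_mul, ← hm]
      unfold Cfsg.classInner
      rw [card_wr_eq, Finset.mul_sum, Finset.mul_sum]
      refine Finset.sum_congr rfl fun b _ => ?_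
      have hB0 : (Nat.card (base M Q) : ℂ) ≠ 0 := Nat.cast_ne_zero.2 Nat.card_pos.ne'
      have hQ0 : (Nat.card Q : ℂ) ≠ 0 := Nat.cast_ne_zero.2 Nat.card_pos.ne'
      field_simp
    obtain ⟨ν, _, hν⟩ := Finset.exists_ne_zero_of_sum_ne_zero (by rw [hsum]; exact hm_ne)
    have hΨchar : Cfsg.IsCharacter (M ≀ᵣ Q) (fun g => ψ g * ((ν g.right : ℂˣ) : ℂ)) := by
      rw [← hΨ ν]
      exact Cfsg.Agent.S0148.result _ _ (isCharacter_of_irr (isIrrCharacter_of_hom _))
    have hne2 : Cfsg.classInner (fun g => ψ g * ((ν g.right : ℂˣ) : ℂ)) χ ≠ 0 := by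
      intro h0
      apply hν
      rw [← classInner_conj_symm, h0, map_zero]
    obtain ⟨n₂, hn₂, hz₂⟩ := constituent_deg hΨchar hχ hne2
    have hne1 : Cfsg.classInner (fun b : base M Q => χ b) θ ≠ 0 := by
      rw [hm]
      exact hm_ne
    obtain ⟨n₁, hn₁, -⟩ := constituent_deg hres hθ hne1
    have h1 : ψ 1 = θ 1 := hψB 1
    have h3 : ((n₁ + n₂ : ℕ) : ℂ) = 0 := by
      have h4 : ψ 1 * ((ν (1 : M ≀ᵣ Q).right : ℂˣ) : ℂ) = χ 1 + n₂ := hn₂
      have h5 : χ ((1 : base M Q) : M ≀ᵣ Q) = θ 1 + n₁ := hn₁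
      rw [one_right, map_one, Units.val_one, mul_one, h1] at h4
      rw [Subgroup.coe_one] at h5
      push_cast
      linear_combination (-1 : ℂ) * h4 - h5
    have hn20 : n₂ = 0 := by
      have : n₁ + n₂ = 0 := by exact_mod_cast h3
      omega
    have h6 := hz₂ hn20
    rw [← h6, ← hΨ ν]
    exact ⟨wrSub (Q := Q) H, _, rfl⟩

end Main

end Cfsg.Agent.Lib.Helper8.DD
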