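import Mathlib
import Cfsg.Prelude.Def_Characters
import Cfsg.Agent.Lib.Helper8.DD1
import Cfsg.Agent.Lib.Helper8.DD2
import Cfsg.Agent.Lib.Helper8.DD3
import Cfsg.Agent.Lib.Helper8.DD4
import Cfsg.Agent.Lib.Helper2.Schmidt2
import Cfsg.Agent.S0176

set_option autoImplicit false

namespace Cfsg.Agent.Lib.Helper8.DD

open Cfsg.Agent.Lib.Helper1 Cfsg.Agent.Lib.Helper4
open scoped ComplexConjugate
open RegularWreathProduct

universe u

section KK
variable {G : Type u} [Group G] (N : Subgroup G) [N.Normal]

/-- A section of the quotient map. -/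
noncomputable def kkSec (q : G ⧸ N) : G := Quotient.out q

theorem mk_kkSec (q : G ⧸ N) : (QuotientGroup.mk (kkSec N q) : G ⧸ N) = q :=
  QuotientGroup.out_eq' q

theorem kk_mem (g : G) (r : G ⧸ N) :
    (kkSec N r)⁻¹ * g * kkSec N ((QuotientGroup.mk g : G ⧸ N)⁻¹ * r) ∈ N := by
  rw [← QuotientGroup.eq_one_iff]
  simp only [QuotientGroup.mk_mul, QuotientGroup.mk_inv, mk_kkSec]
  group

/-- The Kaloujnine–Krasner embedding of `G` into `N ≀ G/N`. -/
noncomputable def kk : G →* N ≀ᵣ (G ⧸ N) where
  toFun g := ⟨fun r => ⟨(kkSec N r)⁻¹ * g * kkSec N ((QuotientGroup.mk g : G ⧸ N)⁻¹ * r),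
    kk_mem N g r⟩, QuotientGroup.mk g⟩
  map_one' := by
    apply RegularWreathProduct.ext
    · funext r
      apply Subtype.ext
      simp
    · rfl
  map_mul' g h := by
    apply RegularWreathProduct.ext
    · funext r
      apply Subtype.ext
      simp only [RegularWreathProduct.mul_left, Pi.mul_apply, Subgroup.coe_mul,
        QuotientGroup.mk_mul, mul_inv_rev]
      simp only [mul_assoc]
      group
    · rfl

theorem kk_injective : Function.Injective (kk N) := by
  rw [injective_iff_map_eq_one]
  intro g hg
  have h1 : (QuotientGroup.mk g : G ⧸ N) = 1 := congrArg RegularWreathProduct.right hg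
  have h2 := congrFun (congrArg RegularWreathProduct.left hg) 1
  have h3 : (kkSec N 1)⁻¹ * g * kkSec N ((QuotientGroup.mk g : G ⧸ N)⁻¹ * 1) = 1 :=
    congrArg Subtype.val h2
  rw [h1, inv_one, one_mul] at h3
  have h4 : g = kkSec N 1 * 1 * (kkSec N 1)⁻¹ := by
    rw [← h3]
    group
  rw [h4]
  group

end KK

section Map
variable {D D' Q : Type*} [Group D] [Group D'] [Group Q]

/-- Functoriality of the regular wreath product in the base. -/
def wrMap (f : D →* D') : D ≀ᵣ Q →* D' ≀ᵣ Q where
  toFun w := ⟨fun q => f (w.left q), w.right⟩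
  map_one' := by
    apply RegularWreathProduct.ext
    · funext q
      exact map_one f
    · rfl
  map_mul' a b := by
    apply RegularWreathProduct.ext
    · funext q
      exact map_mul f _ _
    · rfl

theorem wrMap_injective (f : D →* D') (hf : Function.Injective f) :
    Function.Injective (wrMap (Q := Q) f) := by
  intro a b hab
  apply RegularWreathProduct.ext
  · funext q
    have h1 := congrFun (congrArg RegularWreathProduct.left hab) q
    exact hf h1
  · have h1 := congrArg RegularWreathProduct.right hab
    exact h1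

end Map

/-- Dade: every finite solvable group embeds in an M-group. -/
theorem dade_aux : ∀ n : ℕ, ∀ (G : Type u) [Group G] [Finite G], Group.IsSolvable G →
    Nat.card G = n →
    ∃ (M : Type u) (_ : Group M) (_ : Fintype M),
      (∀ χ : M → ℂ, Cfsg.IsIrrCharacter M χ → IsMono M χ) ∧
      ∃ f : G →* M, Function.Injective f := by
  intro n
  induction n using Nat.strong_induction_on with
  | _ n ih =>
  intro G _ _ hsolv hn
  by_cases htriv : Subsingleton G
  · have : Fintype G := Fintype.ofFinite G
    refine ⟨G, inferInstance, inferInstance, ?_, MonoidHom.id G, Function.injective_id⟩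
    intro χ hχ
    have : Group.IsNilpotent G := inferInstance
    exact Cfsg.Agent.S0176.result χ hχ
  · have hnt : Nontrivial G := not_subsingleton_iff_nontrivial.1 htriv
    obtain ⟨N, hNn, hNp⟩ := Cfsg.Agent.Lib.Helper2.Schmidt.exists_normal_prime_index (G := G)
    have hlt : Nat.card N < n := by
      rw [← hn, ← Subgroup.card_mul_index N]
      have h2 := hNp.two_le
      have h0 : 0 < Nat.card N := Nat.card_pos
      nlinarith
    obtain ⟨M₁, iM, iF, hM₁, f₁, hf₁⟩ :=
      ih (Nat.card N) hlt N (inferInstance) rfl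
    classical
    have : Fintype (G ⧸ N) := Fintype.ofFinite _
    refine ⟨M₁ ≀ᵣ (G ⧸ N), inferInstance, wrFintype, ?_, (wrMap f₁).comp (kk N), ?_⟩
    · intro χ hχ
      refine wreath_mono hM₁ ?_ χ hχ
      rw [← Subgroup.index_eq_card]
      exact hNp
    · exact (wrMap_injective f₁ hf₁).comp (kk_injective N)

end Cfsg.Agent.Lib.Helper8.DD
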