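import Mathlib
import Cfsg.Prelude.Def_DegreeGraph
import Cfsg.Agent.Lib.Helper8.DG2
import Cfsg.Agent.Lib.Helper8.DG4

set_option autoImplicit false

/-! The character degree graph of a solvable group has at most two connected components
(Manz, Manz–Staszewski–Willems), via Isaacs 12.3 and 12.4. -/

namespace Cfsg.Agent.Lib.Helper8.DG

open Cfsg Cfsg.Agent.Lib.Helper1 Cfsg.Agent.Lib.Helper4 Cfsg.Agent.Lib.Helper4.TD

universe u

section Graph

theorem card_cc_le_two {V : Type*} (Γ : SimpleGraph V) (a b : V)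
    (h : ∀ v, Γ.Reachable v a ∨ Γ.Reachable v b) : Nat.card Γ.ConnectedComponent ≤ 2 := by
  have hsurj : Function.Surjective
      (fun i : Bool => if i then Γ.connectedComponentMk a else Γ.connectedComponentMk b) := by
    intro c
    induction c using SimpleGraph.ConnectedComponent.ind with
    | h v =>
      rcases h v with h1 | h1
      · exact ⟨true, by simpa using (SimpleGraph.ConnectedComponent.eq.2 h1).symm⟩
      · exact ⟨false, by simpa using (SimpleGraph.ConnectedComponent.eq.2 h1).symm⟩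
  have := Nat.card_le_card_of_surjective _ hsurj
  simpa using this

theorem card_cc_eq_zero {V : Type*} (Γ : SimpleGraph V) (h : IsEmpty V) :
    Nat.card Γ.ConnectedComponent = 0 := by
  haveI : IsEmpty Γ.ConnectedComponent :=
    ⟨fun c => c.ind (fun v => h.false v)⟩
  exact Nat.card_of_isEmpty

end Graph

variable {G : Type u} [Group G] [Finite G]

theorem mem_charDegrees_of_irr {ψ : G → ℂ} (hψ : Cfsg.IsIrrCharacter G ψ) (d : ℕ)
    (hd : ψ 1 = (d : ℂ)) : d ∈ Cfsg.charDegrees G := by
  refine ⟨⟨ψ, hψ⟩, ?_⟩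
  obtain ⟨h1, -⟩ := Cfsg.Agent.Lib.Helper8.irr_apply_one_eq_charDegree hψ
  have : ((Cfsg.charDegree ψ : ℕ) : ℂ) = (d : ℂ) := by rw [← h1, hd]
  exact_mod_cast this

omit [Finite G] in
theorem adj_of_dvd {q s d : ℕ} (hq : q.Prime) (hs : s.Prime) (hqs : q ≠ s)
    (hd : d ∈ Cfsg.charDegrees G) (h1 : q ∣ d) (h2 : s ∣ d) : (Cfsg.degreeGraph G).Adj q s :=
  ⟨hqs, hq, hs, d, hd, Nat.Coprime.mul_dvd_of_dvd_of_dvd ((Nat.coprime_primes hq hs).2 hqs) h1 h2⟩

/-- The character degree graph of a solvable group has at most two connected components. -/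
theorem degreeGraph_components (hsolv : Group.IsSolvable G) :
    Nat.card ((Cfsg.degreeGraph G).induce (Cfsg.degreePrimes G)).ConnectedComponent ≤ 2 := by
  classical
  haveI : Fintype G := Fintype.ofFinite G
  set Γ := (Cfsg.degreeGraph G).induce (Cfsg.degreePrimes G) with hΓ
  by_cases hab : ∀ a b : G, a * b = b * a
  · -- abelian: no vertices
    have hemp : IsEmpty (Cfsg.degreePrimes G) := by
      constructor
      rintro ⟨q, hq, d, ⟨χ, rfl⟩, hqd⟩
      have h1 := (Cfsg.Agent.S0187.result (G := G)).1 hab χ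
      obtain ⟨h2, -⟩ := Cfsg.Agent.Lib.Helper8.irr_apply_one_eq_charDegree χ.2
      have h3 : Cfsg.charDegree (χ : G → ℂ) = 1 := by
        have : ((Cfsg.charDegree (χ : G → ℂ) : ℕ) : ℂ) = ((1 : ℕ) : ℂ) := by
          rw [← h2, h1, Nat.cast_one]
        exact_mod_cast this
      rw [h3] at hqd
      exact hq.one_lt.ne' (Nat.dvd_one.1 hqd)
    rw [card_cc_eq_zero Γ hemp]
    exact Nat.zero_le 2
  have hnab : ∃ a b : G, a * b ≠ b * a := by
    by_contra hcon
    push Not at hcon
    exact hab hcon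
  obtain ⟨p, K, N, hp, hKn, hNn, hKN, hnabK, halt⟩ := exists_quotient_dichotomy hsolv hnab
  haveI := hKn
  haveI := hNn
  by_cases hV : IsEmpty (Cfsg.degreePrimes G)
  · rw [card_cc_eq_zero Γ hV]
    exact Nat.zero_le 2
  rw [not_isEmpty_iff] at hV
  rcases halt with ⟨-, k, hidx⟩ | ⟨hNtop, hKne, -, habN, ⟨k, hrel⟩, hfpf⟩
  · -- the p-group case: the graph is connected
    have key : ∀ q ∈ Cfsg.degreePrimes G, p ∈ Cfsg.degreePrimes G ∧
        (q = p ∨ (Cfsg.degreeGraph G).Adj q p) := by
      rintro q ⟨hq, d, ⟨χ, rfl⟩, hqd⟩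
      set d := Cfsg.charDegree (χ : G → ℂ) with hd
      obtain ⟨h2, -⟩ := Cfsg.Agent.Lib.Helper8.irr_apply_one_eq_charDegree χ.2
      have hdm : d ∈ Cfsg.charDegrees G := ⟨χ, rfl⟩
      by_cases hpd : p ∣ d
      · refine ⟨⟨hp, d, hdm, hpd⟩, ?_⟩
        by_cases hqp : q = p
        · exact Or.inl hqp
        · exact Or.inr (adj_of_dvd hq hp hqp hdm hqd hpd)
      · obtain ⟨ψ, b, hψ, hpb, hψ1⟩ :=
          exists_degree_of_pgroup_quotient p k hp K hidx hnabK χ.2 d h2 hpd
        have hbd : b * d ∈ Cfsg.charDegrees G :=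
          mem_charDegrees_of_irr hψ (b * d) (by rw [hψ1]; push_cast; rfl)
        have hp' : p ∣ b * d := Dvd.dvd.mul_right hpb d
        have hq' : q ∣ b * d := Dvd.dvd.mul_left hqd b
        refine ⟨⟨hp, b * d, hbd, hp'⟩, ?_⟩
        by_cases hqp : q = p
        · exact Or.inl hqp
        · exact Or.inr (adj_of_dvd hq hp hqp hbd hq' hp')
    obtain ⟨⟨q₀, hq₀⟩⟩ := hV
    have hpV := (key q₀ hq₀).1
    apply card_cc_le_two Γ ⟨p, hpV⟩ ⟨p, hpV⟩
    rintro ⟨q, hq⟩
    left
    rcases (key q hq).2 with h | h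
    · have : (⟨q, hq⟩ : Cfsg.degreePrimes G) = ⟨p, hpV⟩ := Subtype.ext h
      rw [this]
    · exact SimpleGraph.Adj.reachable (by
        show (Cfsg.degreeGraph G).Adj q p
        exact h)
  · -- the Frobenius case
    set f := N.index with hf
    have hf1 : f ≠ 1 := by
      intro h
      exact hNtop (Subgroup.index_eq_one.1 h)
    -- f is a character degree
    have hfdeg : f ∈ Cfsg.charDegrees G := by
      obtain ⟨χ, hχ, hχ1⟩ := exists_degree_of_not_dvd N K p k hp hKN hKne habN hrel hfpf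
        (Cfsg.Agent.Lib.Helper8.RV.isIrrCharacter_one N) 1 (by simp)
        (fun h => hp.one_lt.ne' (Nat.dvd_one.1 h))
      exact mem_charDegrees_of_irr hχ f (by rw [hχ1]; simp [hf])
    set s := f.minFac with hs
    have hsp : s.Prime := Nat.minFac_prime hf1
    have hsf : s ∣ f := Nat.minFac_dvd f
    have hsV : s ∈ Cfsg.degreePrimes G := ⟨hsp, f, hfdeg, hsf⟩
    have key : ∀ q ∈ Cfsg.degreePrimes G,
        (p ∈ Cfsg.degreePrimes G ∧ (q = p ∨ (Cfsg.degreeGraph G).Adj q p)) ∨
        (q = s ∨ (Cfsg.degreeGraph G).Adj q s) := by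
      rintro q ⟨hq, d, ⟨χ, rfl⟩, hqd⟩
      set d := Cfsg.charDegree (χ : G → ℂ) with hd
      obtain ⟨h2, hd0⟩ := Cfsg.Agent.Lib.Helper8.irr_apply_one_eq_charDegree χ.2
      have hdm : d ∈ Cfsg.charDegrees G := ⟨χ, rfl⟩
      by_cases hpd : p ∣ d
      · left
        refine ⟨⟨hp, d, hdm, hpd⟩, ?_⟩
        by_cases hqp : q = p
        · exact Or.inl hqp
        · exact Or.inr (adj_of_dvd hq hp hqp hdm hqd hpd)
      · right
        haveI : Fintype N := Fintype.ofFinite N
        -- a constituent of the restriction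
        have hresc : Cfsg.IsCharacter N (fun n : N => (χ : G → ℂ) n) :=
          Cfsg.Agent.S0148.isCharacter_restrict N (isCharacter_of_irr χ.2)
        have h1 : (fun n : N => (χ : G → ℂ) n) 1 ≠ 0 := by
          show (χ : G → ℂ) ((1 : N) : G) ≠ 0
          rw [Subgroup.coe_one, h2]
          exact Nat.cast_ne_zero.2 hd0.ne'
        obtain ⟨ψ, hψ, j, hj0, hj⟩ := exists_constituent hresc h1
        have hcon : Cfsg.classInner (fun n : N => (χ : G → ℂ) n) ψ ≠ 0 := by
          rw [hj]; exact Nat.cast_ne_zero.2 hj0.ne'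
        obtain ⟨e, he, he0, -⟩ := irr_degree hψ
        obtain ⟨h3, h4⟩ := Cfsg.Agent.S0887.result N χ χ.2 ψ hψ hcon d e h2 he
        have hpe : ¬ p ∣ e := fun h => hpd (h.trans h3)
        obtain ⟨χ', hχ', hχ'1⟩ := exists_degree_of_not_dvd N K p k hp hKN hKne habN hrel hfpf
          hψ e he hpe
        have hfe : f * e ∈ Cfsg.charDegrees G :=
          mem_charDegrees_of_irr hχ' (f * e) (by rw [hχ'1]; push_cast; rfl)
        have hdfe : d ∣ f * e := by
          obtain ⟨c, hc⟩ := h3
          have hc' : d / e = c := by rw [hc, Nat.mul_div_cancel_left c he0]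
          rw [hc'] at h4
          rw [hc, mul_comm f e]
          exact Nat.mul_dvd_mul_left e h4
        have hq' : q ∣ f * e := hqd.trans hdfe
        have hs' : s ∣ f * e := Dvd.dvd.mul_right hsf e
        by_cases hqs : q = s
        · exact Or.inl hqs
        · exact Or.inr (adj_of_dvd hq hsp hqs hfe hq' hs')
    by_cases hpV : p ∈ Cfsg.degreePrimes G
    · apply card_cc_le_two Γ ⟨p, hpV⟩ ⟨s, hsV⟩
      rintro ⟨q, hq⟩
      rcases key q hq with ⟨-, h⟩ | h
      · left
        rcases h with h | h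
        · have : (⟨q, hq⟩ : Cfsg.degreePrimes G) = ⟨p, hpV⟩ := Subtype.ext h
          rw [this]
        · exact SimpleGraph.Adj.reachable (by
            show (Cfsg.degreeGraph G).Adj q p
            exact h)
      · right
        rcases h with h | h
        · have : (⟨q, hq⟩ : Cfsg.degreePrimes G) = ⟨s, hsV⟩ := Subtype.ext h
          rw [this]
        · exact SimpleGraph.Adj.reachable (by
            show (Cfsg.degreeGraph G).Adj q s
            exact h)
    · apply card_cc_le_two Γ ⟨s, hsV⟩ ⟨s, hsV⟩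
      rintro ⟨q, hq⟩
      left
      rcases key q hq with ⟨h, -⟩ | h
      · exact absurd h hpV
      · rcases h with h | h
        · have : (⟨q, hq⟩ : Cfsg.degreePrimes G) = ⟨s, hsV⟩ := Subtype.ext h
          rw [this]
        · exact SimpleGraph.Adj.reachable (by
            show (Cfsg.degreeGraph G).Adj q s
            exact h)

end Cfsg.Agent.Lib.Helper8.DG
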