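import Mathlib
import Cfsg.Agent.Lib.Helper8.DH19
import Cfsg.Agent.Lib.Helper4.TD15
import Cfsg.Agent.Lib.Helper4.TD4

set_option autoImplicit false
set_option linter.unusedSectionVars false
set_option linter.unusedVariables false

/-! Groups with at most three character degrees are solvable. -/

namespace Cfsg.Agent.Lib.Helper8.DH

open Cfsg Cfsg.Agent.Lib.Helper1 Cfsg.Agent.Lib.Helper4 Cfsg.Agent.Lib.Helper4.TD
open Cfsg.Agent.Lib.Helper8

universe u

variable {G : Type u} [Group G] [Finite G]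

/-- If a prime divides both non-trivial degrees, the group is solvable by induction. -/
theorem solvable_of_common_prime (p : ℕ) (hp : p.Prime) {m n : ℕ} (h3 : H3 G m n)
    (hm : p ∣ m) (hn : p ∣ n)
    (hexm : ∃ χ : G → ℂ, Cfsg.IsIrrCharacter G χ ∧ χ 1 = (m : ℂ))
    (ih : ∀ (G' : Type u) [Group G'] [Finite G'], Nat.card G' < Nat.card G →
      ∀ m' n' : ℕ, H3 G' m' n' → Group.IsSolvable G') : Group.IsSolvable G := by
  classical
  haveI : Fintype G := Fintype.ofFinite G
  haveI : Fact p.Prime := ⟨hp⟩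
  obtain ⟨Q, hQn, hQcop, k, hQidx⟩ := Cfsg.Agent.S4456.result (G := G) p hp (by
    intro χ hχ1
    obtain ⟨h1, -⟩ := irr_apply_one_eq_charDegree χ.2
    rcases h3.nat χ.2 h1 with h | h | h
    · exact absurd h hχ1
    · rw [h]; exact hm
    · rw [h]; exact hn)
  haveI : Fintype Q := Fintype.ofFinite Q
  have hpG : p ∣ Nat.card G := by
    obtain ⟨χ, hχ, hχ1⟩ := hexm
    obtain ⟨d, hd, -, hdvd⟩ := irr_degree hχ
    have : d = m := by
      have : (d : ℂ) = (m : ℂ) := by rw [← hd, hχ1]
      exact_mod_cast this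
    rw [this] at hdvd
    exact hm.trans hdvd
  have hk0 : k ≠ 0 := by
    intro h0
    rw [h0, pow_zero, Subgroup.index_eq_one] at hQidx
    have hcard : Nat.card Q = Nat.card G := by
      rw [hQidx, Subgroup.card_top]
    rw [hcard] at hQcop
    have := Nat.Coprime.eq_one_of_dvd hQcop.symm hpG
    exact hp.one_lt.ne' this
  have hlt : Nat.card Q < Nat.card G := by
    rw [← Subgroup.card_mul_index Q, hQidx]
    have h1 : 0 < Nat.card Q := Nat.card_pos
    have h2 : 2 ≤ p ^ k := by
      calc 2 ≤ p := hp.two_le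
        _ = p ^ 1 := (pow_one p).symm
        _ ≤ p ^ k := Nat.pow_le_pow_right hp.pos (by omega)
    nlinarith
  have h3Q : H3 Q (ordCompl[p] m) (ordCompl[p] n) := by
    intro θ hθ
    obtain ⟨χ, hχ, hover⟩ := Cfsg.Agent.Lib.Helper2.CliffordDeg.exists_irr_over Q hθ
    obtain ⟨c, hc, -, -⟩ := irr_degree hχ
    obtain ⟨d, hd, -, -⟩ := irr_degree hθ
    have hdc := degree_pcomplement p k hp Q hQcop hQidx hθ hχ hover c d hc hd
    rcases h3.nat hχ hc with h | h | h
    · left
      rw [hd, hdc, h]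
      simp
    · right; left
      rw [hd, hdc, h]
    · right; right
      rw [hd, hdc, h]
  haveI hQs : Group.IsSolvable Q := ih Q hlt _ _ h3Q
  haveI hqs : Group.IsSolvable (G ⧸ Q) := by
    have hcard : Nat.card (G ⧸ Q) = p ^ k := by
      rw [← Subgroup.index_eq_card, hQidx]
    have hP : IsPGroup p (G ⧸ Q) := IsPGroup.of_card hcard
    haveI := hP.isNilpotent
    infer_instance
  exact Group.isSolvable_of_ker_le_range Q.subtype (QuotientGroup.mk' Q) (by simp)

variable {N K : Subgroup G} {p : ℕ}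

/-- In the Frobenius-type case with coprime degrees, `N` has at most two character degrees. -/
theorem Frob.H2_of_coprime (h : Frob N K p) (f g : ℕ) (h3 : H3 G f g) (hf : N.index = f)
    (hcop : Nat.Coprime f g) (hf1 : 1 < f) : H2 N g := by
  classical
  haveI : Fintype G := Fintype.ofFinite G
  haveI : Fintype N := Fintype.ofFinite N
  have hN := h.hNn
  have hpf : ¬ p ∣ f := hf ▸ h.not_dvd_index
  intro ψ hψ
  obtain ⟨e, he, he0, -⟩ := irr_degree hψ
  by_cases he1 : e = 1
  · left; rw [he, he1, Nat.cast_one]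
  right
  have hpe : p ∣ e := by
    by_contra hpe
    obtain ⟨χ, hχ, hχ1⟩ := h.exists_mul hψ e he hpe
    rw [hf] at hχ1
    rcases h3.nat hχ hχ1 with h' | h' | h'
    · have := Nat.eq_one_of_mul_eq_one_right h'
      omega
    · have : f * e = f * 1 := by rw [h', mul_one]
      exact he1 (Nat.eq_of_mul_eq_mul_left (by omega) this)
    · have h1 : f ∣ g := ⟨e, h'.symm⟩
      have h2 : f ∣ Nat.gcd f g := Nat.dvd_gcd dvd_rfl h1
      rw [hcop] at h2
      have := Nat.dvd_one.1 h2
      omega
  obtain ⟨χ, hχ, hover⟩ := Cfsg.Agent.Lib.Helper2.CliffordDeg.exists_irr_over N hψ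
  obtain ⟨c, hc, -, -⟩ := irr_degree hχ
  obtain ⟨h1, h2⟩ := Cfsg.Agent.S0887.result N χ hχ ψ hψ hover c e hc he
  rw [hf] at h2
  rcases h3.nat hχ hc with h' | h' | h'
  · rw [h'] at h1
    exact absurd (Nat.dvd_one.1 h1) he1
  · rw [h'] at h1
    exact absurd (hpe.trans h1) hpf
  · rw [h'] at h1 h2
    have h4 : g / e ∣ g := Nat.div_dvd_of_dvd h1
    have h5 : g / e ∣ Nat.gcd f g := Nat.dvd_gcd h2 h4
    rw [hcop] at h5
    have h6 : g / e = 1 := Nat.dvd_one.1 h5
    have h7 : g = e := by
      have := Nat.div_mul_cancel h1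
      rw [h6, one_mul] at this
      exact this.symm
    rw [he, h7]

/-- The Frobenius-type case is impossible over a non-solvable normal subgroup. -/
theorem Frob.false_of_not_solvable (h : Frob N K p) {m n : ℕ} (h3 : H3 G m n) (hm1 : 1 < m)
    (hmn : m < n) (hcop : Nat.Coprime m n) (M : Subgroup G) (hMK : M ≤ K)
    (hMns : ¬ Group.IsSolvable M) : False := by
  obtain ⟨χ, hχ, hχ1⟩ := h.exists_index
  have h1 := h.one_lt_index
  have h2N : ∃ g : ℕ, H2 N g := by
    rcases h3.nat hχ hχ1 with h' | h' | h'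
    · omega
    · exact ⟨n, h.H2_of_coprime m n h3 h' hcop hm1⟩
    · exact ⟨m, h.H2_of_coprime n m h3.symm h' hcop.symm (by omega)⟩
  obtain ⟨g, h2⟩ := h2N
  haveI hNs : Group.IsSolvable N := solvable_of_H2 (Nat.card N) N rfl g h2
  apply hMns
  exact Group.isSolvable_of_isSolvable_injective (Subgroup.inclusion_injective (hMK.trans h.hKN))

/-- The ordered case, by induction on the order. -/
theorem solvable_aux {m n : ℕ} (h3 : H3 G m n) (hm1 : 1 < m) (hmn : m < n)
    (hexm : ∃ χ : G → ℂ, Cfsg.IsIrrCharacter G χ ∧ χ 1 = (m : ℂ))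
    (hexn : ∃ χ : G → ℂ, Cfsg.IsIrrCharacter G χ ∧ χ 1 = (n : ℂ))
    (ih : ∀ (G' : Type u) [Group G'] [Finite G'], Nat.card G' < Nat.card G →
      ∀ m' n' : ℕ, H3 G' m' n' → Group.IsSolvable G') : Group.IsSolvable G := by
  classical
  by_contra hns
  have hquot : ∀ L : Subgroup G, ∀ hL : L.Normal, L ≠ ⊥ → Group.IsSolvable (G ⧸ L) := by
    intro L hL hLb
    have hlt : Nat.card (G ⧸ L) < Nat.card G := by
      rw [← Subgroup.index_eq_card, ← Subgroup.card_mul_index L]
      have h1 : 1 < Nat.card L := by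
        rw [Subgroup.one_lt_card_iff_ne_bot]
        exact hLb
      have h2 : 0 < L.index := Nat.pos_of_ne_zero Subgroup.index_ne_zero_of_finite
      nlinarith
    exact ih (G ⧸ L) hlt m n (h3.quotient L)
  have hcop : Nat.Coprime m n := by
    by_contra hnc
    obtain ⟨p, hp, hpm, hpn⟩ := Nat.Prime.not_coprime_iff_dvd.1 hnc
    exact hns (solvable_of_common_prime p hp h3 hpm hpn hexm ih)
  haveI : Nontrivial G := by
    by_contra hnt
    rw [not_nontrivial_iff_subsingleton] at hnt
    exact hns inferInstance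
  obtain ⟨M, hMn, hMb, hMmin⟩ := exists_minimal_normal (X := G)
  haveI := hMn
  have hMns : ¬ Group.IsSolvable M := by
    intro hMs
    apply hns
    haveI := hquot M hMn hMb
    exact Group.isSolvable_of_ker_le_range M.subtype (QuotientGroup.mk' M) (by simp)
  by_cases hnab : ∃ a b : G, a * b * a⁻¹ * b⁻¹ ∉ M
  · obtain ⟨p, K, N, hp, hKn, hNn, hMK, hKN, hnabK, hcase⟩ :=
      exists_quotient_dichotomy_over M (hquot M hMn hMb) hnab
    rcases hcase with ⟨-, k, hk⟩ | ⟨hNtop, hne, hcomm, hab, hrel, hfpf⟩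
    · haveI := hKn
      obtain ⟨hpm, hpn, -⟩ := caseA_dvd p k hp K hk hnabK m n h3 hm1 hmn hexm hexn
      have h1 : p ∣ Nat.gcd m n := Nat.dvd_gcd hpm hpn
      rw [hcop] at h1
      exact hp.one_lt.ne' (Nat.dvd_one.1 h1)
    · have hF : Frob N K p := ⟨hp, hNn, hKn, hKN, hne, hNtop, hcomm, hab, hrel, hfpf⟩
      exact hF.false_of_not_solvable h3 hm1 hmn hcop M hMK hMns
  · push Not at hnab
    have hQab : ∀ a b : G ⧸ M, a * b = b * a := by
      intro a b
      obtain ⟨a, rfl⟩ := QuotientGroup.mk_surjective a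
      obtain ⟨b, rfl⟩ := QuotientGroup.mk_surjective b
      have h1 := hnab a b
      rw [← QuotientGroup.eq_one_iff] at h1
      have h2 : ((a : G ⧸ M) * b) = ((a * b * a⁻¹ * b⁻¹ : G) : G ⧸ M) * (b * a) := by
        simp only [QuotientGroup.mk_mul, QuotientGroup.mk_inv]
        group
      rw [h2, h1, one_mul]
    have hfaith : ∀ χ : G → ℂ, IsIrrCharacter G χ → χ 1 ≠ 1 → ∀ g, χ g = χ 1 → g = 1 := by
      intro χ hχ hχ1 g hg
      by_contra hg1
      obtain ⟨L, hLn, hL⟩ := exists_kernel hχ
      haveI := hLn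
      have hgL : g ∈ L := (hL g).2 hg
      have hLb : L ≠ ⊥ := by
        intro h
        rw [h, Subgroup.mem_bot] at hgL
        exact hg1 hgL
      haveI hLs := hquot L hLn hLb
      by_cases hLM : L ⊓ M = ⊥
      · apply hMns
        let f : M →* G ⧸ L := (QuotientGroup.mk' L).comp M.subtype
        have hf : Function.Injective f := by
          rw [injective_iff_map_eq_one]
          intro x hx
          have hx' : (x : G) ∈ L := by
            rw [← QuotientGroup.eq_one_iff]
            exact hx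
          have : (x : G) ∈ L ⊓ M := ⟨hx', x.2⟩
          rw [hLM, Subgroup.mem_bot] at this
          exact Subtype.ext this
        exact Group.isSolvable_of_isSolvable_injective hf
      · have hML : M ≤ L := by
          have := hMmin (L ⊓ M) inferInstance inf_le_right hLM
          rw [← this]
          exact inf_le_left
        apply hχ1
        obtain ⟨ψ, hψ, hψχ⟩ := exists_deflation M hχ (fun g hg => (hL g).1 (hML hg))
        obtain ⟨d, hd, -, -⟩ := irr_degree hψ
        have hdvd := ito_dvd (⊤ : Subgroup (G ⧸ M)) (fun a _ b _ => hQab a b) hψ d hd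
        rw [Subgroup.index_top] at hdvd
        have hd1 : d = 1 := Nat.dvd_one.1 hdvd
        have := hψχ 1
        rw [← this, QuotientGroup.mk_one, hd, hd1, Nat.cast_one]
    have hG' : commutator G ≠ ⊥ := by
      intro h
      apply hns
      rw [Group.isSolvable_def]
      exact ⟨1, by rw [derivedSeries_one]; exact h⟩
    letI : Fintype G := Fintype.ofFinite G
    exact false_of_faithful h3 hm1 hmn hcop hfaith hG' hexm hexn

/-- A group with at most three character degrees is solvable. -/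
theorem solvable_of_H3 : ∀ (c : ℕ) (G : Type u) [Group G] [Finite G],
    Nat.card G = c → ∀ m n : ℕ, H3 G m n → Group.IsSolvable G := by
  intro c
  induction c using Nat.strong_induction_on with
  | _ c ih =>
  intro G _ _ hc m n h3
  by_cases hexm : ∃ χ : G → ℂ, Cfsg.IsIrrCharacter G χ ∧ χ 1 = (m : ℂ)
  swap
  · exact solvable_of_H2 c G hc n (h3.H2_right hexm)
  by_cases hexn : ∃ χ : G → ℂ, Cfsg.IsIrrCharacter G χ ∧ χ 1 = (n : ℂ)
  swap
  · exact solvable_of_H2 c G hc m (h3.H2_left hexn)
  have hm0 : m ≠ 0 := by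
    intro h0
    obtain ⟨χ, hχ, hχ1⟩ := hexm
    rw [h0, Nat.cast_zero] at hχ1
    exact irr_apply_one_ne_zero hχ hχ1
  have hn0 : n ≠ 0 := by
    intro h0
    obtain ⟨χ, hχ, hχ1⟩ := hexn
    rw [h0, Nat.cast_zero] at hχ1
    exact irr_apply_one_ne_zero hχ hχ1
  by_cases hm1 : m = 1
  · apply solvable_of_H2 c G hc n
    intro χ hχ
    rcases h3 χ hχ with h | h | h
    · exact Or.inl h
    · left; rw [h, hm1, Nat.cast_one]
    · exact Or.inr h
  by_cases hn1 : n = 1
  · apply solvable_of_H2 c G hc m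
    intro χ hχ
    rcases h3 χ hχ with h | h | h
    · exact Or.inl h
    · exact Or.inr h
    · left; rw [h, hn1, Nat.cast_one]
  by_cases hmn : m = n
  · apply solvable_of_H2 c G hc m
    intro χ hχ
    rcases h3 χ hχ with h | h | h
    · exact Or.inl h
    · exact Or.inr h
    · right; rw [h, hmn]
  have ih' : ∀ (G' : Type u) [Group G'] [Finite G'], Nat.card G' < Nat.card G →
      ∀ m' n' : ℕ, H3 G' m' n' → Group.IsSolvable G' := by
    intro G' _ _ hlt m' n' h3'
    exact ih (Nat.card G') (hc ▸ hlt) G' rfl m' n' h3'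
  rcases Nat.lt_or_gt_of_ne hmn with hlt | hgt
  · exact solvable_aux h3 (by omega) hlt hexm hexn ih'
  · exact solvable_aux h3.symm (by omega) hgt hexn hexm ih'

end Cfsg.Agent.Lib.Helper8.DH
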