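import Mathlib
import Cfsg.Prelude.Def_Blocks
import Cfsg.Agent.Lib.Helper8.DI1
import Cfsg.Agent.Lib.Helper8.FI1

/-!
# A character of defect zero for `2` and all primes `p` with elements of order `2p`: consequences
-/

set_option autoImplicit false

namespace Cfsg.Agent.Lib.Helper8

open Cfsg
open scoped ComplexConjugate
open Cfsg.Agent.Lib.Helper1 Cfsg.Agent.Lib.Helper4

universe u

section

variable {G : Type u} [Group G] [Fintype G]

/-- The hypothesis of this file. -/
def IsInvolutionDefectZero (χ : IrrCharacter G) : Prop :=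
  2 ^ (Nat.card G).factorization 2 ∣ charDegree (χ : G → ℂ) ∧
  ∀ p : ℕ, p.Prime → p ≠ 2 → (∃ g : G, orderOf g = 2 * p) →
    p ^ (Nat.card G).factorization p ∣ charDegree (χ : G → ℂ)

/-- Such a character vanishes on the non-identity elements of the centralizer of an involution. -/
theorem eq_zero_of_commute_involution {χ : IrrCharacter G} (h : IsInvolutionDefectZero χ) {s c : G}
    (hs : orderOf s = 2) (hsc : Commute s c) (hc : c ≠ 1) : (χ : G → ℂ) c = 0 := by
  haveI : Fact (Nat.Prime 2) := ⟨Nat.prime_two⟩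
  by_cases h2 : 2 ∣ orderOf c
  · exact irr_eq_zero_of_pow_dvd_degree 2 χ h.1 h2
  · have hne : orderOf c ≠ 1 := by
      rw [Ne, orderOf_eq_one_iff]
      exact hc
    obtain ⟨p, hp, hpc⟩ := Nat.exists_prime_and_dvd hne
    have hp2 : p ≠ 2 := by
      rintro rfl
      exact h2 hpc
    haveI : Fact p.Prime := ⟨hp⟩
    have hc'o : orderOf (c ^ (orderOf c / p)) = p :=
      orderOf_pow_orderOf_div (orderOf_pos c).ne' hpc
    have hcomm : Commute s (c ^ (orderOf c / p)) := hsc.pow_right _
    have hcop : Nat.Coprime (orderOf s) (orderOf (c ^ (orderOf c / p))) := by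
      rw [hs, hc'o]
      exact (Nat.coprime_primes Nat.prime_two hp).2 (Ne.symm hp2)
    have hord := hcomm.orderOf_mul_eq_mul_orderOf_of_coprime hcop
    rw [hs, hc'o] at hord
    exact irr_eq_zero_of_pow_dvd_degree p χ (h.2 p hp hp2 ⟨_, hord⟩) hpc

/-- The order of the centralizer of an involution divides the degree. -/
theorem card_centralizer_dvd_degree {χ : IrrCharacter G} (h : IsInvolutionDefectZero χ) {s : G}
    (hs : orderOf s = 2) :
    Nat.card (Subgroup.centralizer ({s} : Set G)) ∣ charDegree (χ : G → ℂ) := by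
  classical
  set C := Subgroup.centralizer ({s} : Set G) with hC
  haveI : Fintype C := Fintype.ofFinite _
  obtain ⟨m, hm⟩ := sum_conj_subgroup_eq_nat C (isCharacter_of_irr χ.2)
  obtain ⟨hd1, hd0⟩ := irr_apply_one_eq_charDegree χ.2
  rw [Finset.sum_eq_single (1 : C)] at hm
  · rw [Subgroup.coe_one, hd1, Complex.conj_natCast] at hm
    refine ⟨m, ?_⟩
    exact_mod_cast hm
  · intro z _ hz
    have hz1 : (z : G) ≠ 1 := fun h1 => hz (Subtype.ext h1)
    have hcomm : Commute s (z : G) := (Subgroup.mem_centralizer_singleton_iff.1 z.2).symm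
    rw [eq_zero_of_commute_involution h hs hcomm hz1, map_zero]
  · intro h1
    exact absurd (Finset.mem_univ _) h1

/-- The sum of the character over all squares. -/
theorem sum_sq_eq {χ : IrrCharacter G} (h : IsInvolutionDefectZero χ) (heven : Even (Nat.card G))
    [DecidableEq G] :
    ∑ g : G, (χ : G → ℂ) (g * g) =
      ((Finset.univ.filter (fun g : G => orderOf g = 2)).card : ℂ) *
        (charDegree (χ : G → ℂ) : ℂ) := by
  haveI : Fact (Nat.Prime 2) := ⟨Nat.prime_two⟩
  obtain ⟨hd1, hd0⟩ := irr_apply_one_eq_charDegree χ.2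
  have h2G : 2 ∣ Nat.card G := even_iff_two_dvd.1 heven
  -- the character is not trivial
  have hd2 : 2 ∣ charDegree (χ : G → ℂ) := by
    have h1 := (Nat.prime_two.dvd_iff_one_le_factorization Nat.card_pos.ne').1 h2G
    exact (dvd_pow_self 2 (by omega)).trans h.1
  have hne : (χ : G → ℂ) ≠ (trivIrr G : G → ℂ) := by
    intro heq
    have h1 : (χ : G → ℂ) 1 = 1 := by rw [heq, trivIrr_apply]
    rw [hd1] at h1
    have h2 : charDegree (χ : G → ℂ) = 1 := by exact_mod_cast h1
    rw [h2] at hd2
    omega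
  have hsum0 : ∑ g : G, (χ : G → ℂ) g = 0 := by
    have h1 := classInner_irr_ne χ.2 (trivIrr G).2 hne
    rw [classInner_def] at h1
    have hG0 : (Nat.card G : ℂ)⁻¹ ≠ 0 := inv_ne_zero (Nat.cast_ne_zero.2 Nat.card_pos.ne')
    have h2 := (mul_eq_zero.1 h1).resolve_left hG0
    rw [← h2]
    refine Finset.sum_congr rfl fun g _ => ?_
    rw [trivIrr_apply, map_one, mul_one]
  have hv2 : ∀ g : G, 2 ∣ orderOf g → (χ : G → ℂ) g = 0 :=
    fun g hg => irr_eq_zero_of_pow_dvd_degree 2 χ h.1 hg
  -- split the sum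
  rw [← Finset.sum_filter_add_sum_filter_not Finset.univ (fun g : G => 2 ∣ orderOf g)]
  rw [sum_sq_odd_order]
  have hodd : ∑ g ∈ Finset.univ.filter (fun g : G => ¬ 2 ∣ orderOf g), (χ : G → ℂ) g = 0 := by
    have h1 := Finset.sum_filter_add_sum_filter_not Finset.univ (fun g : G => 2 ∣ orderOf g)
      (fun g => (χ : G → ℂ) g)
    rw [hsum0] at h1
    have h2 : ∑ g ∈ Finset.univ.filter (fun g : G => 2 ∣ orderOf g), (χ : G → ℂ) g = 0 := by
      apply Finset.sum_eq_zero
      intro g hg
      exact hv2 g (Finset.mem_filter.1 hg).2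
    rw [h2, zero_add] at h1
    exact h1
  rw [hodd, add_zero]
  have heach : ∀ g ∈ Finset.univ.filter (fun g : G => 2 ∣ orderOf g), (χ : G → ℂ) (g * g) =
      if orderOf g = 2 then (charDegree (χ : G → ℂ) : ℂ) else 0 := by
    intro g hg
    have hg2 : 2 ∣ orderOf g := (Finset.mem_filter.1 hg).2
    by_cases ho : orderOf g = 2
    · rw [if_pos ho]
      have : g * g = 1 := by rw [← pow_two, ← ho, pow_orderOf_eq_one]
      rw [this, hd1]
    · rw [if_neg ho]
      have hso : orderOf (g ^ (orderOf g / 2)) = 2 :=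
        orderOf_pow_orderOf_div (orderOf_pos g).ne' hg2
      have hcomm : Commute (g ^ (orderOf g / 2)) (g * g) :=
        ((Commute.refl g).pow_left _).mul_right ((Commute.refl g).pow_left _)
      have hgg : g * g ≠ 1 := by
        intro h1
        apply ho
        have h3 : orderOf g ∣ 2 := orderOf_dvd_of_pow_eq_one (by rw [pow_two]; exact h1)
        exact Nat.dvd_antisymm h3 hg2
      exact eq_zero_of_commute_involution h hso hcomm hgg
  rw [Finset.sum_congr rfl heach, Finset.sum_ite, Finset.sum_const_zero, add_zero,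
    Finset.sum_const, nsmul_eq_mul]
  congr 3
  ext g
  simp only [Finset.mem_filter, Finset.mem_univ, true_and]
  constructor
  · rintro ⟨-, h1⟩
    exact h1
  · intro h1
    exact ⟨by rw [h1], h1⟩

end

end Cfsg.Agent.Lib.Helper8
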