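import Mathlib
import Cfsg.Prelude.Def_Blocks
import Cfsg.Agent.Lib.Helper8.DI2

/-!
# A character of defect zero for `2` and all primes `p` with elements of order `2p`: main theorem
-/

set_option autoImplicit false

namespace Cfsg.Agent.Lib.Helper8

open Cfsg
open scoped ComplexConjugate
open Cfsg.Agent.Lib.Helper1 Cfsg.Agent.Lib.Helper4

universe u

section

variable {G : Type u} [Group G] [Fintype G]

/-- The number of conjugates of an element. -/
theorem card_filter_isConj [DecidableEq G] (s : G) [DecidablePred (IsConj s)] :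
    (Finset.univ.filter (fun g : G => IsConj s g)).card =
      (Subgroup.centralizer ({s} : Set G)).index := by
  have h2 := Cfsg.Agent.S0141.sum_classIndicator_mul s (fun _ : G => (1 : ℂ)) (fun _ _ => rfl)
  simp only [mul_one] at h2
  have h0 : ∀ x : G, classIndicator s x = if IsConj s x then (1 : ℂ) else 0 := by
    intro x
    unfold classIndicator
    by_cases hx : IsConj s x
    · rw [if_pos hx, if_pos hx]
    · rw [if_neg hx, if_neg hx]
  have h3 : ∑ x : G, classIndicator s x =
      ((Finset.univ.filter (fun g : G => IsConj s g)).card : ℂ) := by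
    rw [Finset.sum_congr rfl (fun x _ => h0 x), Finset.sum_boole]
  rw [h3] at h2
  exact_mod_cast h2

/-- **Main theorem**: one class of involutions, with centralizer of order the degree, and indicator
one. -/
theorem involution_defect_zero_main (heven : Even (Nat.card G)) {χ : IrrCharacter G}
    (h : IsInvolutionDefectZero χ) :
    (∀ s t : G, orderOf s = 2 → orderOf t = 2 → IsConj s t) ∧
    (∀ s : G, orderOf s = 2 →
      Nat.card (Subgroup.centralizer ({s} : Set G)) = charDegree (χ : G → ℂ) ∧
      (Nat.card (Subgroup.centralizer ({s} : Set G))).Coprime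
        (Subgroup.centralizer ({s} : Set G)).index) ∧
    (Nat.card G : ℂ)⁻¹ * ∑ g : G, (χ : G → ℂ) (g * g) = 1 := by
  classical
  haveI : Fact (Nat.Prime 2) := ⟨Nat.prime_two⟩
  obtain ⟨hd1, hd0⟩ := irr_apply_one_eq_charDegree χ.2
  set d := charDegree (χ : G → ℂ) with hd
  set T := Finset.univ.filter (fun g : G => orderOf g = 2) with hT
  have h2G : 2 ∣ Nat.card G := even_iff_two_dvd.1 heven
  obtain ⟨s₀, hs₀⟩ := exists_prime_orderOf_dvd_card' 2 h2G
  have hTpos : 0 < T.card := Finset.card_pos.2 ⟨s₀, by rw [hT, Finset.mem_filter]; exact ⟨Finset.mem_univ _, hs₀⟩⟩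
  have hsum := sum_sq_eq h heven
  rw [← hT, ← hd] at hsum
  have hG0 : (Nat.card G : ℂ) ≠ 0 := Nat.cast_ne_zero.2 Nat.card_pos.ne'
  -- the indicator is one
  have hν : (Nat.card G : ℂ)⁻¹ * ∑ g : G, (χ : G → ℂ) (g * g) = 1 := by
    have hpos : (Nat.card G : ℂ)⁻¹ * ∑ g : G, (χ : G → ℂ) (g * g) =
        (((T.card * d : ℕ) : ℝ) / ((Nat.card G : ℕ) : ℝ) : ℝ) := by
      rw [hsum]
      push_cast
      field_simp
    have hposr : (0 : ℝ) < ((T.card * d : ℕ) : ℝ) / ((Nat.card G : ℕ) : ℝ) := by
      apply div_pos
      · exact_mod_cast Nat.mul_pos hTpos hd0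
      · exact_mod_cast Nat.card_pos
    rcases fs_indicator_cases χ.2 with h0 | ⟨-, h1 | h1⟩
    · rw [hpos] at h0
      have := Complex.ofReal_eq_zero.1 h0
      linarith
    · exact h1
    · rw [hpos] at h1
      have h2 : (((T.card * d : ℕ) : ℝ) / ((Nat.card G : ℕ) : ℝ) : ℝ) = -1 := by
        have := congrArg Complex.re h1
        simpa using this
      linarith
  -- |T| * d = |G|
  have hTd : T.card * d = Nat.card G := by
    rw [hsum] at hν
    have h1 : ((T.card * d : ℕ) : ℂ) = (Nat.card G : ℂ) := by
      push_cast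
      field_simp at hν
      exact hν
    exact_mod_cast h1
  -- each involution
  have hkey : ∀ s : G, orderOf s = 2 →
      Nat.card (Subgroup.centralizer ({s} : Set G)) = d ∧
      (Finset.univ.filter (fun g : G => IsConj s g)) = T := by
    intro s hs
    set C := Subgroup.centralizer ({s} : Set G) with hC
    have hCd : Nat.card C ∣ d := card_centralizer_dvd_degree h hs
    have hCle : Nat.card C ≤ d := Nat.le_of_dvd hd0 hCd
    have hsub : (Finset.univ.filter (fun g : G => IsConj s g)) ⊆ T := by
      intro g hg
      rw [Finset.mem_filter] at hg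
      rw [hT, Finset.mem_filter]
      refine ⟨Finset.mem_univ _, ?_⟩
      obtain ⟨c, hc⟩ := isConj_iff.1 hg.2
      rw [← hc]
      have := MulEquiv.orderOf_eq (MulAut.conj c) s
      rw [MulAut.conj_apply] at this
      rw [this, hs]
    have hcardle := Finset.card_le_card hsub
    rw [card_filter_isConj] at hcardle
    have hmul := C.card_mul_index
    have hCpos : 0 < Nat.card C := Nat.card_pos
    have h1 : Nat.card C * C.index ≤ Nat.card C * T.card := Nat.mul_le_mul_left _ hcardle
    have h2 : Nat.card C * T.card ≤ d * T.card := Nat.mul_le_mul_right _ hCle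
    have h3 : d * T.card = Nat.card G := by rw [mul_comm]; exact hTd
    have h4 : Nat.card C * T.card = d * T.card := by
      apply le_antisymm h2
      rw [h3, ← hmul]
      exact h1
    have h5 : Nat.card C = d := Nat.eq_of_mul_eq_mul_right hTpos h4
    refine ⟨h5, ?_⟩
    apply Finset.eq_of_subset_of_card_le hsub
    rw [card_filter_isConj]
    have h6 : Nat.card C * C.index = Nat.card C * T.card := by
      rw [hmul, h5, h3]
    exact (Nat.eq_of_mul_eq_mul_left hCpos h6).ge
  refine ⟨?_, ?_, hν⟩
  · intro s t hs ht
    have h1 := (hkey s hs).2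
    have h2 : t ∈ T := by rw [hT, Finset.mem_filter]; exact ⟨Finset.mem_univ _, ht⟩
    rw [← h1, Finset.mem_filter] at h2
    exact h2.2
  · intro s hs
    refine ⟨(hkey s hs).1, ?_⟩
    set C := Subgroup.centralizer ({s} : Set G) with hC
    have hCd : Nat.card C = d := (hkey s hs).1
    by_contra hcop
    obtain ⟨r, hr, hrg⟩ := Nat.exists_prime_and_dvd hcop
    have hrC : r ∣ Nat.card C := hrg.trans (Nat.gcd_dvd_left _ _)
    have hrI : r ∣ C.index := hrg.trans (Nat.gcd_dvd_right _ _)
    haveI : Fact r.Prime := ⟨hr⟩
    have hfull : r ^ (Nat.card G).factorization r ∣ d := by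
      by_cases hr2 : r = 2
      · subst hr2
        exact h.1
      · obtain ⟨c, hc⟩ := exists_prime_orderOf_dvd_card' r hrC
        have hcomm : Commute s (c : G) := (Subgroup.mem_centralizer_singleton_iff.1 c.2).symm
        have hco : orderOf (c : G) = r := by rw [Subgroup.orderOf_coe, hc]
        have hcop' : Nat.Coprime (orderOf s) (orderOf (c : G)) := by
          rw [hs, hco]
          exact (Nat.coprime_primes Nat.prime_two hr).2 (Ne.symm hr2)
        have hord := hcomm.orderOf_mul_eq_mul_orderOf_of_coprime hcop'
        rw [hs, hco] at hord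
        exact h.2 r hr hr2 ⟨_, hord⟩
    have h1 : (Nat.card C).factorization r + C.index.factorization r =
        (Nat.card G).factorization r := by
      rw [← C.card_mul_index, Nat.factorization_mul Nat.card_pos.ne'
        Subgroup.index_ne_zero_of_finite, Finsupp.add_apply]
    have h2 := (hr.pow_dvd_iff_le_factorization hd0.ne').1 hfull
    rw [← hCd] at h2
    have h3 := (hr.dvd_iff_one_le_factorization Subgroup.index_ne_zero_of_finite).1 hrI
    omega

end

end Cfsg.Agent.Lib.Helper8
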