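import Mathlib
import Cfsg.Prelude.Def_Blocks
import Cfsg.Prelude.Def_BlockRank
import Cfsg.Agent.Lib.Helper8.DO17
import Cfsg.Agent.Lib.Helper8.DO23
import Cfsg.Agent.Lib.Helper8.TildeBlock
import Cfsg.Agent.S0133

/-!
# Blocks of defect one: the number of characters of degree prime to `p`
-/

set_option autoImplicit false
set_option maxHeartbeats 800000
set_option linter.unusedSectionVars false

namespace Cfsg.Agent.Lib.Helper8

open Cfsg
open scoped ComplexConjugate
open Cfsg.Agent.Lib.Helper1 Cfsg.Agent.Lib.Helper4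

universe u

section

variable {G : Type u} [Group G] [Fintype G] {M : Ideal AlgInt} {p : ℕ} [Fact p.Prime]

/-- the characters of defect zero, when `p` divides the order exactly once -/
theorem d1_memLocalRing_iff (hM : IsPModular p M) (hdiv : p ∣ Nat.card G)
    (hsq : ¬ p ^ 2 ∣ Nat.card G) (χ : IrrCharacter G) :
    MemLocalRing M ((χ : G → ℂ) 1 / (Fintype.card G : ℂ)) ↔ p ∣ charDegree (χ : G → ℂ) := by
  have hp : p.Prime := Fact.out
  have hG0 : Nat.card G ≠ 0 := Nat.card_pos.ne'
  obtain ⟨h4, h5⟩ := irr_apply_one_eq_charDegree χ.2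
  constructor
  · intro h
    rw [h4] at h
    have h1 := pow_dvd_of_memLocalRing_div hM (charDegree (χ : G → ℂ)) (Fintype.card G)
      Fintype.card_ne_zero h
    have h2 : 1 ≤ (Fintype.card G).factorization p := by
      rw [← Nat.card_eq_fintype_card]
      exact (hp.dvd_iff_one_le_factorization hG0).1 hdiv
    exact (dvd_pow_self p (by omega)).trans h1
  · intro h
    obtain ⟨k, hk⟩ := charDegree_dvd_card χ.2
    have hkp : ¬ p ∣ k := by
      intro hk'
      apply hsq
      rw [hk, pow_two]
      exact Nat.mul_dvd_mul h hk'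
    have hd0 : (charDegree (χ : G → ℂ) : ℂ) ≠ 0 := Nat.cast_ne_zero.2 h5.ne'
    have hk0 : (k : ℂ) ≠ 0 := by
      intro h0'
      have : k = 0 := by exact_mod_cast h0'
      rw [this] at hkp
      exact hkp (dvd_zero p)
    have h6 : (χ : G → ℂ) 1 / (Fintype.card G : ℂ) = ((k : ℂ))⁻¹ := by
      rw [← Nat.card_eq_fintype_card, hk, h4]
      push_cast
      field_simp
    rw [h6]
    exact memLocalRing_inv_natCast hM hkp

end

section

variable {G : Type u} [Group G] [Fintype G]

/-- **The number of characters of degree prime to `p`** of a group whose order is divisible by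
`p` exactly once is the class number of the normalizer of a Sylow `p`-subgroup. -/
theorem d1_pprime_count (p : ℕ) [Fact p.Prime] (hdiv : p ∣ Nat.card G)
    (hsq : ¬ p ^ 2 ∣ Nat.card G) (P' : Subgroup G) (x : G) (hx : orderOf x = p)
    (hP' : P' = Subgroup.zpowers x) :
    Nat.card {χ : IrrCharacter G // ¬ p ∣ charDegree (χ : G → ℂ)} =
      Nat.card (ConjClasses (Subgroup.normalizer (P' : Set G))) := by
  classical
  subst hP'
  obtain ⟨M, hM⟩ := exists_isPModular p
  have : Fintype (Subgroup.centralizer ((Subgroup.zpowers x : Subgroup G) : Set G)) :=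
    Fintype.ofFinite _
  have base : D1Base p M x (Subgroup.centralizer ((Subgroup.zpowers x : Subgroup G) : Set G)) :=
    ⟨hM, hx, hsq, d1_mem_centralizer_zpowers x⟩
  have hreg := base.card_regular
  have hI : Nat.card (IrrCharacter (mrN x ⧸ mrP' x)) = Nat.card (ConjClasses (mrN x ⧸ mrP' x)) :=
    Cfsg.Agent.S0133.result
  have hN := d1_card_conjClasses_normalizer hx hsq
  have hkG : Nat.card (IrrCharacter G) = Nat.card (ConjClasses G) := Cfsg.Agent.S0133.result
  have hsplitC : Nat.card (ConjClasses G) = Nat.card {c : ConjClasses G // d1reg p c} +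
      Nat.card {c : ConjClasses G // ¬ d1reg p c} := by
    rw [← Nat.card_sum]
    exact Nat.card_congr (Equiv.sumCompl (fun c : ConjClasses G => d1reg p c)).symm
  have hsplitI : Nat.card (IrrCharacter G) =
      Nat.card {χ : IrrCharacter G // p ∣ charDegree (χ : G → ℂ)} +
        Nat.card {χ : IrrCharacter G // ¬ p ∣ charDegree (χ : G → ℂ)} := by
    rw [← Nat.card_sum]
    exact Nat.card_congr
      (Equiv.sumCompl (fun χ : IrrCharacter G => p ∣ charDegree (χ : G → ℂ))).symm
  have hZ : Nat.card {χ : IrrCharacter G //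
      MemLocalRing M ((χ : G → ℂ) 1 / (Fintype.card G : ℂ))} =
      Nat.card {χ : IrrCharacter G // p ∣ charDegree (χ : G → ℂ)} :=
    Nat.card_congr (Equiv.subtypeEquivRight (fun χ => d1_memLocalRing_iff hM hdiv hsq χ))
  have hgoal : Nat.card (ConjClasses (Subgroup.normalizer
      ((Subgroup.zpowers x : Subgroup G) : Set G))) = Nat.card (ConjClasses (mrN x)) := rfl
  rw [hgoal]
  omega

end

end Cfsg.Agent.Lib.Helper8
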