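import Mathlib
import Cfsg.Prelude.Def_Blocks
import Cfsg.Prelude.Def_BlockLocal
import Cfsg.Agent.Lib.Helper8.Fong4
import Cfsg.Agent.Lib.Helper8.Cover3
import Cfsg.Agent.Lib.Helper8.Rey1
import Cfsg.Agent.Lib.Helper8.BF7
import Cfsg.Agent.Lib.Helper8.REL5

/-!
# Invariant characters of height zero (Murai)
-/

set_option autoImplicit false

namespace Cfsg.Agent.Lib.Helper8.DS

open Cfsg
open scoped ComplexConjugate
open Cfsg.Agent.Lib.Helper1 Cfsg.Agent.Lib.Helper4 Cfsg.Agent.Lib.Helper8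

universe u

section

variable {G : Type u} [Group G] [Fintype G] (N : Subgroup G) [hN : N.Normal] [Fintype N]
  {M : Ideal AlgInt} {p : ℕ}

/-- **Murai**: if `G/N` is a `p`-group and `b` is a `G`-invariant block of `N`, then `b` contains a
`G`-invariant character of height zero. -/
theorem exists_invariant_height_zero (hM : IsPModular p M) (hidx : ∃ k : ℕ, N.index = p ^ k)
    {b : Set (IrrCharacter N)} (hb : IsPBlock M b) (hinv : ∀ g : G, StabilizesBlock N b g) :
    ∃ θ ∈ b, blockHeight p b (θ : N → ℂ) = 0 ∧ ∀ g : G, conjFn N (θ : N → ℂ) g = (θ : N → ℂ) := by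
  classical
  have hMp := isPModular_isPrime hM
  have hp := hM.1
  haveI : Fact p.Prime := ⟨hp⟩
  obtain ⟨B, hB, hcov⟩ := exists_covers N hMp hb
  have hmax : ∀ B' : Set (IrrCharacter G), IsPBlock M B' → Covers N B' b →
      blockDefect p B' ≤ blockDefect p B := by
    intro B' hB' hcov'
    rw [covers_unique_of_index N hM hidx hB' hB hb hcov' hcov]
  obtain ⟨P, hP⟩ := exists_isDefectGroup (p := p) hMp hB
  obtain ⟨-, -, hdef⟩ := fong_maximal_defect N hM hb hinv hB hcov hmax hP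
  obtain ⟨χ, hχ, hχ0⟩ := exists_height_zero (p := p) hMp hB
  have hres : IsCharacter N (fun n : N => (χ : G → ℂ) n) :=
    Cfsg.Agent.S0148.isCharacter_restrict N (isCharacter_of_irr χ.2)
  obtain ⟨ψ, hψ⟩ := exists_irr_constituent hres (irr_apply_one_ne_zero χ.2)
  have hψorb : ψ ∈ gOrbit N b := mem_gOrbit_of_covers N hMp hB hb hcov hχ hψ
  have hψb : ψ ∈ b := by
    obtain ⟨g, θ', hθ', h⟩ := (mem_gOrbit_iff N b ψ).1 hψorb
    obtain ⟨χ', hχ', hc⟩ := (hinv g⁻¹).2 θ' hθ'
    have : χ' = ψ := by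
      apply Subtype.ext
      funext n
      rw [h n]
      apply hc
      show (n : G) = g⁻¹ * (g * (n : G) * g⁻¹) * g⁻¹⁻¹
      group
    rw [← this]; exact hχ'
  refine ⟨ψ, hψb, ?_⟩
  -- valuations
  obtain ⟨hvχ, -⟩ := block_valuations (p := p) hχ
  obtain ⟨hvψ, hdb⟩ := block_valuations (p := p) hψb
  rw [hχ0, add_zero] at hvχ
  have hcard : Nat.card G = Nat.card N * N.index := (Subgroup.card_mul_index N).symm
  have hidx0 : N.index ≠ 0 := by
    obtain ⟨k, hk⟩ := hidx
    rw [hk]; exact pow_ne_zero _ hp.ne_zero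
  have haG : (Nat.card G).factorization p =
      (Nat.card N).factorization p + N.index.factorization p := by
    rw [hcard, Nat.factorization_mul Nat.card_pos.ne' hidx0, Finsupp.add_apply]
  -- Clifford
  obtain ⟨e, he⟩ := classInner_char_irr_nat hres ψ.2
  have he0 : e ≠ 0 := by
    rintro rfl
    rw [he] at hψ
    exact hψ (by simp)
  have hcl := card_inertiaFn_mul_degree N χ.2 ψ.2 hψ
  obtain ⟨hχ1, hχpos⟩ := irr_apply_one_eq_charDegree χ.2
  obtain ⟨hψ1, hψpos⟩ := irr_apply_one_eq_charDegree ψ.2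
  rw [he, hχ1, hψ1] at hcl
  have hclN : Nat.card (inertiaFn N (ψ : N → ℂ)) * charDegree (χ : G → ℂ) =
      e * Nat.card G * charDegree (ψ : N → ℂ) := by exact_mod_cast hcl
  have hI0 : Nat.card (inertiaFn N (ψ : N → ℂ)) ≠ 0 := Nat.card_pos.ne'
  have hfac := congrArg (fun n : ℕ => n.factorization p) hclN
  rw [Nat.factorization_mul hI0 hχpos.ne', Nat.factorization_mul
    (Nat.mul_ne_zero he0 Nat.card_pos.ne') hψpos.ne', Nat.factorization_mul he0 Nat.card_pos.ne',
    Finsupp.add_apply, Finsupp.add_apply, Finsupp.add_apply] at hfac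
  have hIle : (Nat.card (inertiaFn N (ψ : N → ℂ))).factorization p ≤
      (Nat.card G).factorization p :=
    (Nat.factorization_le_iff_dvd hI0 Nat.card_pos.ne').2
      (Subgroup.card_subgroup_dvd_card _) p
  have hht : blockHeight p b (ψ : N → ℂ) = 0 := by omega
  have hIeq : (Nat.card (inertiaFn N (ψ : N → ℂ))).factorization p =
      (Nat.card G).factorization p := by omega
  refine ⟨hht, ?_⟩
  -- the inertia group is everything
  have hNI : N ≤ inertiaFn N (ψ : N → ℂ) := le_inertiaFn N (isClassFunction_irr ψ.2)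
  have hdvd : (inertiaFn N (ψ : N → ℂ)).index ∣ N.index := Subgroup.index_dvd_of_le hNI
  obtain ⟨k, hk⟩ := hidx
  rw [hk] at hdvd
  obtain ⟨j, -, hj⟩ := (Nat.dvd_prime_pow hp).1 hdvd
  have hcI := Subgroup.card_mul_index (inertiaFn N (ψ : N → ℂ))
  have hfI := congrArg (fun n : ℕ => n.factorization p) hcI
  rw [hj, mul_comm, factorization_pow_mul hp j hI0] at hfI
  have hj0 : j = 0 := by omega
  rw [hj0, pow_zero] at hj
  have htop : inertiaFn N (ψ : N → ℂ) = ⊤ := Subgroup.index_eq_one.mp hj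
  intro g
  have hg : g ∈ inertiaFn N (ψ : N → ℂ) := by rw [htop]; exact Subgroup.mem_top g
  exact (mem_inertiaFn N).1 hg

end


section

variable {G₁ G₂ : Type u} [Group G₁] [Group G₂] (φ : G₁ ≃* G₂)

theorem charDegree_irrMap (χ : IrrCharacter G₁) :
    charDegree (irrMap φ χ : G₂ → ℂ) = charDegree (χ : G₁ → ℂ) := by
  unfold charDegree
  rw [irrMap_apply_one]

theorem blockHeight_irrMap (p : ℕ) (e : Set (IrrCharacter G₁)) (χ : IrrCharacter G₁) :
    blockHeight p (irrMap φ '' e) (irrMap φ χ : G₂ → ℂ) = blockHeight p e (χ : G₁ → ℂ) := by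
  unfold blockHeight
  rw [charDegree_irrMap, Set.image_image]
  simp only [charDegree_irrMap]

end

section

variable {G : Type u} [Group G] [Finite G]

/-- **Murai**: a block `b` of a normal subgroup `H` contains a character of height zero whose
stabilizer has `p'`-index in the stabilizer of `b`. -/
theorem exists_height_zero_stab (p : ℕ) [Fact p.Prime] (M : Ideal AlgInt) (hM : IsPModular p M)
    (H : Subgroup G) [hH : H.Normal] (b : Set (IrrCharacter ↥H)) (hb : IsPBlock M b)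
    (T : Subgroup G)
    (hT : ∀ g : G, g ∈ T ↔ ∀ θ ∈ b, ∀ θ' : IrrCharacter ↥H,
      IsConjCharOf H g (θ : ↥H → ℂ) (θ' : ↥H → ℂ) → θ' ∈ b) :
    ∃ θ ∈ b, blockHeight p b (θ : ↥H → ℂ) = 0 ∧ ∃ S : Subgroup G, S ≤ T ∧
      (∀ g : G, g ∈ S ↔ (g ∈ T ∧ IsConjCharOf H g (θ : ↥H → ℂ) (θ : ↥H → ℂ))) ∧
      ¬ p ∣ S.relIndex T := by
  classical
  haveI : Fintype G := Fintype.ofFinite G
  have hMp := isPModular_isPrime hM
  have hp := hM.1
  -- `H ≤ T`
  have hHT : H ≤ T := by
    intro g hg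
    rw [hT]
    intro θ hθ θ' hc
    have : θ' = θ := by
      apply Subtype.ext
      funext k
      have h1 := hc ⟨g⁻¹ * (k : G) * g, by
        have := hH.conj_mem k k.2 g⁻¹
        rwa [inv_inv] at this⟩ k (by show (k : G) = g * (g⁻¹ * (k : G) * g) * g⁻¹; group)
      rw [h1]
      have h2 := isClassFunction_irr θ.2 k ⟨g⁻¹, H.inv_mem hg⟩
      rw [← h2]
      apply congrArg
      apply Subtype.ext
      show g⁻¹ * (k : G) * g = g⁻¹ * (k : G) * g⁻¹⁻¹
      rw [inv_inv]
    rw [this]; exact hθ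
  have hstabT : ∀ a ∈ T, StabilizesBlock H b a := by
    intro a ha
    refine ⟨mem_normalizer_of_normal H a, fun χ hχ => ?_⟩
    refine ⟨conjIrr H a (mem_normalizer_of_normal H a) χ, ?_, isConjCharOf_conjIrr H a _ χ⟩
    exact (hT a).1 ha χ hχ _ (isConjCharOf_conjIrr H a _ χ)
  -- the Sylow subgroup
  obtain ⟨Q⟩ : Nonempty (Sylow p ↥T) := inferInstance
  set P : Subgroup G := (Q : Subgroup ↥T).map T.subtype with hP
  have hPT : P ≤ T := by
    rw [hP]; intro x hx
    obtain ⟨y, _, rfl⟩ := Subgroup.mem_map.mp hx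
    exact y.2
  set A : Subgroup G := P ⊔ H with hA
  have hAT : A ≤ T := sup_le hPT hHT
  have hHA : H ≤ A := le_sup_right
  have hPA : P ≤ A := le_sup_left
  haveI : Fintype ↥A := Fintype.ofFinite _
  haveI : Fintype ↥H := Fintype.ofFinite _
  haveI : Fintype ↥(H.subgroupOf A) := Fintype.ofFinite _
  have hPp : IsPGroup p ↥P := by
    rw [hP]; exact Q.isPGroup'.map _
  have hidx : ∃ k : ℕ, (H.subgroupOf A).index = p ^ k := by
    have h1 : (H.subgroupOf A).index = H.relIndex P := by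
      show H.relIndex A = H.relIndex P
      rw [hA]; exact Subgroup.relIndex_sup_right P H
    rw [h1]
    exact hPp.index (H.subgroupOf P)
  have hb' := isPBlock_trB (M := M) A H hHA hb
  have hinv' : ∀ a : ↥A, StabilizesBlock (H.subgroupOf A) (trB A H hHA b) a :=
    fun a => (stabilizesBlock_trB A H hHA b a).2 (hstabT a (hAT a.2))
  obtain ⟨θ', hθ', hht, hinvθ⟩ := exists_invariant_height_zero (H.subgroupOf A) hM hidx hb' hinv'
  obtain ⟨θ, hθ, rfl⟩ := hθ'
  refine ⟨θ, hθ, ?_, ?_⟩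
  · have := blockHeight_irrMap (Subgroup.subgroupOfEquivOfLe hHA).symm p b θ
    rw [← this]; exact hht
  -- invariance under `A`
  have hinvA : ∀ a ∈ A, ∀ k : ↥H, (θ : ↥H → ℂ) ⟨a * (k : G) * a⁻¹, hH.conj_mem k k.2 a⟩ =
      (θ : ↥H → ℂ) k := by
    intro a ha k
    have h1 := congrFun (hinvθ ⟨a, ha⟩) ⟨⟨(k : G), hHA k.2⟩, k.2⟩
    rw [conjFn_apply, irrMap_relEquiv_symm_apply, irrMap_relEquiv_symm_apply] at h1
    exact h1
  refine ⟨T ⊓ inertiaFn H (θ : ↥H → ℂ), inf_le_left, ?_, ?_⟩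
  · intro g
    rw [Subgroup.mem_inf, mem_inertiaFn]
    constructor
    · rintro ⟨hgT, hg⟩
      refine ⟨hgT, fun k k' hk => ?_⟩
      have h1 := congrFun hg k
      rw [conjFn_apply] at h1
      rw [← h1]
      apply congrArg
      exact Subtype.ext hk
    · rintro ⟨hgT, hg⟩
      refine ⟨hgT, ?_⟩
      funext k
      rw [conjFn_apply]
      exact hg k _ rfl
  · -- the index
    have hPS : P ≤ T ⊓ inertiaFn H (θ : ↥H → ℂ) := by
      intro x hx
      refine Subgroup.mem_inf.2 ⟨hPT hx, ?_⟩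
      rw [mem_inertiaFn]
      funext k
      rw [conjFn_apply]
      exact hinvA x (hPA hx) k
    have h1 : (T ⊓ inertiaFn H (θ : ↥H → ℂ)).relIndex T ∣ P.relIndex T :=
      Subgroup.relIndex_dvd_of_le_left T hPS
    have h2 : P.relIndex T = (Q : Subgroup ↥T).index := by
      show (P.subgroupOf T).index = _
      rw [hP, subgroupOf_map_subtype_self]
    intro h3
    exact Sylow.not_dvd_index Q (h2 ▸ (h3.trans h1))

end

end Cfsg.Agent.Lib.Helper8.DS
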