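import Mathlib
import Cfsg.Prelude.Def_Blocks
import Cfsg.Agent.Lib.Helper8.KZ3
import Cfsg.Agent.Lib.Helper8.BF7
import Cfsg.Agent.Lib.Helper8.BlockDefectOrder
import Cfsg.Agent.S0148
import Cfsg.Agent.S0161

/-!
# Faithful characters of prime power degree lie in blocks of small defect
-/

set_option autoImplicit false

namespace Cfsg.Agent.Lib.Helper8.DS

open Cfsg
open scoped ComplexConjugate
open Cfsg.Agent.Lib.Helper1 Cfsg.Agent.Lib.Helper4 Cfsg.Agent.Lib.Helper8

universe u

section

variable {G : Type u} [Group G] [Finite G]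

/-- A faithful irreducible character of `p`-power degree of a group with trivial centre vanishes
at the non-identity elements whose class size is prime to `p`. -/
theorem faithful_ppower_vanish {p : ℕ} (hp : p.Prime) (hZ : Subgroup.center G = ⊥)
    (χ : IrrCharacter G) (hfaith : ∀ g : G, (χ : G → ℂ) g = (χ : G → ℂ) 1 → g = 1) (n : ℕ)
    (hdeg : charDegree (χ : G → ℂ) = p ^ n) (x : G) (hx1 : x ≠ 1)
    (hx : ¬ p ∣ (Subgroup.centralizer ({x} : Set G)).index) : (χ : G → ℂ) x = 0 := by
  classical
  obtain ⟨m, ρ, hirr, hρ⟩ := χ.2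
  have hm : (χ : G → ℂ) 1 = m := by rw [← hρ, Representation.char_one]; simp
  have hm' : charDegree (χ : G → ℂ) = m := by
    have := (irr_apply_one_eq_charDegree χ.2).1
    rw [hm] at this
    exact_mod_cast this.symm
  rw [hm'] at hdeg
  have hcop : Nat.Coprime (Module.finrank ℂ (Fin m → ℂ))
      (Subgroup.centralizer ({x} : Set G)).index := by
    rw [Module.finrank_fin_fun, hdeg]
    exact Nat.Coprime.pow_left n ((Nat.Prime.coprime_iff_not_dvd hp).2 hx)
  rcases Cfsg.Agent.S0142.result ρ x hcop with h0 | hnorm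
  · rw [← hρ]; exact h0
  · exfalso
    obtain ⟨ω, hω⟩ : x ∈ KZ.scalarSubgroup ρ := (Cfsg.Agent.S0138.result ρ x).1 hnorm
    apply hx1
    have hc : x ∈ Subgroup.center G := by
      rw [Subgroup.mem_center_iff]
      intro g
      have h1 : ρ (g * x * g⁻¹ * x⁻¹) = 1 := by
        have h2 : ρ (g * x * g⁻¹) = ρ x := by
          rw [map_mul, map_mul, hω]
          ext v i
          simp
        rw [map_mul, h2, ← map_mul, mul_inv_cancel, map_one]
      have h3 : (χ : G → ℂ) (g * x * g⁻¹ * x⁻¹) = (χ : G → ℂ) 1 := by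
        have h1' : ρ (g * x * g⁻¹ * x⁻¹) = ρ 1 := by rw [h1, map_one]
        rw [← hρ]
        show LinearMap.trace ℂ _ (ρ (g * x * g⁻¹ * x⁻¹)) = LinearMap.trace ℂ _ (ρ 1)
        rw [h1']
      have h4 := hfaith _ h3
      have h5 : g * x = (g * x * g⁻¹ * x⁻¹) * (x * g) := by group
      rw [h5, h4, one_mul]
    rw [hZ, Subgroup.mem_bot] at hc
    exact hc

end


section

variable {G : Type u} [Group G] [Fintype G] {M : Ideal AlgInt} {p : ℕ}

/-- The block of a faithful irreducible character of `p`-power degree of a group with trivial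
centre has defect at most `a - b`, where `|P| = p ^ a` and `|Z(P)| = p ^ b`. -/
theorem defect_le_of_faithful_ppower [Fact p.Prime] (hM : IsPModular p M)
    (hZ : Subgroup.center G = ⊥) (P : Sylow p G) (a b : ℕ)
    (ha : Nat.card P = p ^ a) (hb : Nat.card (Subgroup.center ↥(P : Subgroup G)) = p ^ b)
    (χ : IrrCharacter G) (hfaith : ∀ g : G, (χ : G → ℂ) g = (χ : G → ℂ) 1 → g = 1) (n : ℕ)
    (hdeg : charDegree (χ : G → ℂ) = p ^ n) :
    blockDefect p (blockOf M (χ : G → ℂ)) ≤ a - b := by
  classical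
  have hMp := isPModular_isPrime hM
  have hp := hM.1
  set B := blockOf M (χ : G → ℂ) with hBdef
  have hB : IsPBlock M B := ⟨χ, rfl⟩
  obtain ⟨ψ, hψ, hψ0⟩ := exists_height_zero (p := p) hMp hB
  have hsb : SameBlock M (χ : G → ℂ) (ψ : G → ℂ) := hψ
  obtain ⟨hψ1, hψpos⟩ := irr_apply_one_eq_charDegree ψ.2
  set D := charDegree (ψ : G → ℂ) with hD
  have hD0 : (D : ℂ) ≠ 0 := Nat.cast_ne_zero.2 hψpos.ne'
  -- the centre of `P` inside `G`
  set Z : Subgroup G := (Subgroup.center ↥(P : Subgroup G)).map (P : Subgroup G).subtype with hZdef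
  have hZcard : Nat.card Z = p ^ b := by
    rw [hZdef, Subgroup.card_map_of_injective (Subgroup.subtype_injective _), hb]
  haveI : Fintype ↥Z := Fintype.ofFinite _
  have hidx : ∀ z ∈ Z, ¬ p ∣ (Subgroup.centralizer ({z} : Set G)).index := by
    intro z hz
    obtain ⟨y, hy, rfl⟩ := Subgroup.mem_map.mp hz
    have hle : (P : Subgroup G) ≤ Subgroup.centralizer ({((P : Subgroup G).subtype y)} : Set G) := by
      intro w hw
      rw [Subgroup.mem_centralizer_singleton_iff]
      have h1 := Subgroup.mem_center_iff.mp hy ⟨w, hw⟩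
      exact congrArg Subtype.val h1
    intro h
    exact Sylow.not_dvd_index P (h.trans (Subgroup.index_dvd_of_le hle))
  -- the values of `ψ` on `Z`
  have hJ : ∀ z : ↥Z, (z : G) ≠ 1 → MemLocalIdeal M ((ψ : G → ℂ) z / (D : ℂ)) := by
    intro z hz1
    have h0 := faithful_ppower_vanish hp hZ χ hfaith n hdeg z hz1 (hidx z z.2)
    have h1 := hsb (z : G)
    have h2 : centralChar (χ : G → ℂ) (z : G) = 0 := by
      unfold centralChar
      rw [h0, mul_zero, zero_div]
    rw [h2, zero_sub] at h1
    have h3 := memLocalIdeal_neg h1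
    rw [neg_neg] at h3
    have h4 := memLocalIdeal_mul_left hMp (memLocalRing_inv_natCast hM (hidx z z.2)) h3
    have hi0 : ((Subgroup.centralizer ({(z : G)} : Set G)).index : ℂ) ≠ 0 := by
      intro h
      apply hidx z z.2
      have : (Subgroup.centralizer ({(z : G)} : Set G)).index = 0 := by exact_mod_cast h
      rw [this]; exact dvd_zero _
    have h5 : ((Subgroup.centralizer ({(z : G)} : Set G)).index : ℂ)⁻¹ *
        centralChar (ψ : G → ℂ) (z : G) = (ψ : G → ℂ) z / (D : ℂ) := by
      unfold centralChar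
      rw [hψ1]
      field_simp
    rw [h5] at h4
    exact h4
  -- the multiplicity of the trivial character
  have hres : IsCharacter ↥Z (fun z : ↥Z => (ψ : G → ℂ) z) :=
    Cfsg.Agent.S0148.isCharacter_restrict Z (isCharacter_of_irr ψ.2)
  have hone : IsCharacter ↥Z (fun _ : ↥Z => (1 : ℂ)) :=
    isCharacter_of_irr Cfsg.Agent.S0161.isIrrCharacter_one
  obtain ⟨m, hm⟩ := classInner_char_nat hres hone
  rw [classInner_def] at hm
  have hZ0 : (Nat.card Z : ℂ) ≠ 0 := Nat.cast_ne_zero.2 Nat.card_pos.ne'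
  have hsum : ∑ z : ↥Z, (ψ : G → ℂ) z = ((p ^ b * m : ℕ) : ℂ) := by
    have h1 : ∑ z : ↥Z, (ψ : G → ℂ) z = (Nat.card Z : ℂ) * (m : ℂ) := by
      rw [← hm, ← mul_assoc, mul_inv_cancel₀ hZ0, one_mul]
      refine Finset.sum_congr rfl fun z _ => ?_
      simp
    rw [h1, hZcard]; push_cast; ring
  -- split off the identity
  have hsplit : ∑ z : ↥Z, (ψ : G → ℂ) z =
      (D : ℂ) * (1 + ∑ z ∈ Finset.univ.filter (fun z : ↥Z => (z : G) ≠ 1),
        (ψ : G → ℂ) z / (D : ℂ)) := by
    rw [← Finset.sum_filter_add_sum_filter_not Finset.univ (fun z : ↥Z => (z : G) = 1)]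
    have h1 : Finset.univ.filter (fun z : ↥Z => (z : G) = 1) = {(1 : ↥Z)} := by
      ext z
      simp only [Finset.mem_filter, Finset.mem_univ, true_and, Finset.mem_singleton]
      constructor
      · intro h; exact Subtype.ext h
      · intro h; rw [h]; rfl
    rw [h1, Finset.sum_singleton, mul_add, mul_one, Finset.mul_sum]
    have h2 : (ψ : G → ℂ) ((1 : ↥Z) : G) = (D : ℂ) := hψ1
    rw [h2]
    congr 1
    refine Finset.sum_congr rfl fun z _ => ?_
    field_simp
  have hj : MemLocalIdeal M (∑ z ∈ Finset.univ.filter (fun z : ↥Z => (z : G) ≠ 1),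
      (ψ : G → ℂ) z / (D : ℂ)) := by
    apply memLocalIdeal_sum hMp
    intro z hz
    exact hJ z (Finset.mem_filter.mp hz).2
  -- valuations
  have hval : b ≤ D.factorization p := by
    by_contra hlt
    push Not at hlt
    have h1 : MemLocalIdeal M (((p ^ b * m : ℕ) : ℂ) / (D : ℂ)) := by
      rcases Nat.eq_zero_or_pos m with hm0 | hm0
      · rw [hm0, mul_zero, Nat.cast_zero, zero_div]
        exact memLocalIdeal_zero hMp.ne_top
      · apply memLocalIdeal_natCast_div hM hψpos.ne'
        rw [factorization_pow_mul hp b hm0.ne']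
        omega
    rw [← hsum, hsplit, mul_div_cancel_left₀ _ hD0] at h1
    have h2 := memLocalIdeal_sub hMp h1 hj
    rw [add_sub_cancel_right] at h2
    exact not_memLocalIdeal_one hMp h2
  -- conclusion
  obtain ⟨hv, -⟩ := block_valuations (p := p) hψ
  rw [hψ0, add_zero] at hv
  have haG : (Nat.card G).factorization p = a := by
    have h1 := P.card_eq_multiplicity
    rw [ha] at h1
    exact (Nat.pow_right_injective hp.two_le h1).symm
  rw [haG] at hv
  have hv' : D.factorization p + blockDefect p B = a := hv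
  omega

end

end Cfsg.Agent.Lib.Helper8.DS
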