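import Mathlib
import Cfsg.Prelude.Def_Blocks
import Cfsg.Agent.Lib.Helper8.BF11
import Cfsg.Agent.Lib.Helper8.TildeBlock
import Cfsg.Agent.Lib.Helper1.CycloChar
import Cfsg.Agent.Lib.Helper4.GaloisTwist
import Cfsg.Agent.S0148
import Cfsg.Agent.S0161

/-!
# `p`-conjugate characters (Brauer)
-/

set_option autoImplicit false

namespace Cfsg.Agent.Lib.Helper8.DS

open Cfsg
open scoped ComplexConjugate
open Cfsg.Agent.Lib.Helper1 Cfsg.Agent.Lib.Helper4 Cfsg.Agent.Lib.Helper8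

universe u

/-- A field automorphism fixing a primitive `g'`-th root of unity fixes the character values at
the elements of order dividing `g'`. -/
theorem aut_fix_char {G : Type*} [Group G] [Finite G] (σ : ℂ ≃+* ℂ) (g' : ℕ) (hg' : g' ≠ 0)
    (hσ : σ (Complex.exp (2 * Real.pi * Complex.I / g')) =
      Complex.exp (2 * Real.pi * Complex.I / g'))
    {χ : G → ℂ} (hχ : IsCharacter G χ) (y : G) (hy : orderOf y ∣ g') : σ (χ y) = χ y := by
  obtain ⟨ι', _, m, c, hc, hsum⟩ := character_pow_eq_sum hχ y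
  have h1 := hsum 1
  rw [pow_one] at h1
  rw [h1, map_sum]
  refine Finset.sum_congr rfl fun j _ => ?_
  rw [map_mul, map_natCast, pow_one]
  congr 1
  have hprim := Complex.isPrimitiveRoot_exp g' hg'
  have hcj : c j ^ g' = 1 := by
    obtain ⟨d, rfl⟩ := hy
    rw [pow_mul, hc j, one_pow]
  haveI : NeZero g' := ⟨hg'⟩
  obtain ⟨i, -, hi⟩ := hprim.eq_pow_of_pow_eq_one hcj
  rw [← hi, map_pow, hσ]

section

variable {G : Type u} [Group G] [Fintype G]

/-- The `p`-regular contribution `⟨χ°, ψ⟩` is the same for all `ψ` agreeing with `χ` on the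
`p`-regular elements. -/
theorem mreg_eq_of_agree {p : ℕ} (χ ψ : G → ℂ)
    (h : ∀ y : G, ¬ p ∣ orderOf y → ψ y = χ y) : mreg p χ ψ = mreg p χ χ := by
  rw [mreg_eq_sum_ite, mreg_eq_sum_ite]
  congr 1
  refine Finset.sum_congr rfl fun s _ => ?_
  by_cases hs : p ∣ orderOf s
  · rw [if_pos hs, if_pos hs]
  · rw [if_neg hs, if_neg hs, h s hs]

end


section

variable {G : Type u} [Group G] [Fintype G]

/-- **Brauer**: if `𝒞` is a set of irreducible characters agreeing with `χ` on the `p`-regular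
elements (and at `1`), containing `χ`, then `|𝒞| χ(1)_p ≤ |G|_p`; in case of equality the sum of
`𝒞` vanishes on the `p`-singular elements. -/
theorem pconj_core (p : ℕ) (hp : p.Prime) (χ : IrrCharacter G) (C : Finset (IrrCharacter G))
    (hC : ∀ ψ ∈ C, ∀ y : G, ¬ p ∣ orderOf y → (ψ : G → ℂ) y = (χ : G → ℂ) y) :
    C.card * p ^ (charDegree (χ : G → ℂ)).factorization p ≤ p ^ (Nat.card G).factorization p ∧
    (C.card * p ^ (charDegree (χ : G → ℂ)).factorization p = p ^ (Nat.card G).factorization p →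
      ∀ x : G, p ∣ orderOf x → ∑ ψ ∈ C, (ψ : G → ℂ) x = 0) := by
  classical
  haveI : Fact p.Prime := ⟨hp⟩
  have : Fintype (IrrCharacter G) := Fintype.ofFinite _
  obtain ⟨M, hM⟩ := exists_isPModular p
  have hMp := isPModular_isPrime hM
  set B := blockOf M (χ : G → ℂ) with hBdef
  have hB : IsPBlock M B := ⟨χ, rfl⟩
  have hχB : χ ∈ B := sameBlock_refl hMp.ne_top _
  set a := (Nat.card G).factorization p with ha
  set D := charDegree (χ : G → ℂ) with hD
  set c := D.factorization p with hc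
  have hp0 : (p : ℂ) ≠ 0 := Nat.cast_ne_zero.2 hp.ne_zero
  -- the integers `p ^ a m(χ, ψ)`
  have hex : ∀ ψ : IrrCharacter G, ∃ n : ℤ, ((p : ℂ) ^ a) * mreg p (χ : G → ℂ) (ψ : G → ℂ) = n :=
    fun ψ => exists_int_mreg hp χ.2 (isCharacter_of_irr ψ.2)
  choose n hn using hex
  have hnC : ∀ ψ ∈ C, n ψ = n χ := by
    intro ψ hψ
    have h1 := hn ψ
    rw [mreg_eq_of_agree _ _ (hC ψ hψ), hn χ] at h1
    exact_mod_cast h1.symm
  -- positivity
  obtain ⟨r₀, hr0, -, hr, -⟩ := mreg_self (p := p) hp χ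
  have hnpos : 0 < n χ := by
    have h1 := hn χ
    rw [hr] at h1
    have h2 : ((n χ : ℤ) : ℝ) = (p : ℝ) ^ a * r₀ := by
      have : ((n χ : ℤ) : ℂ) = (((p : ℝ) ^ a * r₀ : ℝ) : ℂ) := by
        rw [← h1]; push_cast; ring
      exact_mod_cast this
    have h3 : (0 : ℝ) < (p : ℝ) ^ a * r₀ :=
      mul_pos (pow_pos (Nat.cast_pos.2 hp.pos) _) hr0
    rw [← h2] at h3
    exact_mod_cast h3
  -- the quadratic relation
  have hquad : ∑ ψ : IrrCharacter G, n ψ ^ 2 = (p : ℤ) ^ a * n χ := by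
    have h1 := sum_mreg_mul_mreg (p := p) (χ := (χ : G → ℂ)) (χ' := (χ : G → ℂ))
      (isClassFunction_irr χ.2)
    have hc' : ((∑ ψ : IrrCharacter G, n ψ ^ 2 : ℤ) : ℂ) = (((p : ℤ) ^ a * n χ : ℤ) : ℂ) := by
      push_cast
      rw [← hn χ, ← h1, Finset.mul_sum, Finset.mul_sum]
      refine Finset.sum_congr rfl fun ψ _ => ?_
      rw [← hn ψ, mreg_symm (isCharacter_of_irr ψ.2) (isCharacter_of_irr χ.2)]
      ring
    exact_mod_cast hc'
  -- divisibility
  have hdvd : (p : ℤ) ^ c ∣ n χ := by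
    obtain ⟨N, hN, hNd⟩ := exists_int_contrib_general hM hχB (χ' := χ) (B := B)
    obtain ⟨hv, hda⟩ := block_valuations (p := p) hχB
    have h1 : n χ = (p : ℤ) ^ (a - blockDefect p B) * N := by
      have : ((n χ : ℤ) : ℂ) = (((p : ℤ) ^ (a - blockDefect p B) * N : ℤ) : ℂ) := by
        push_cast
        rw [← hn χ, hN, ← mul_assoc, ← pow_add, Nat.sub_add_cancel hda]
      exact_mod_cast this
    rw [h1]
    have h2 : c = (a - blockDefect p B) + blockHeight p B (χ : G → ℂ) := by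
      have : c + blockDefect p B = a + blockHeight p B (χ : G → ℂ) := hv
      omega
    rw [h2, pow_add]
    exact mul_dvd_mul_left _ hNd
  obtain ⟨n', hn'⟩ := hdvd
  have hpc : (0 : ℤ) < (p : ℤ) ^ c := pow_pos (by exact_mod_cast hp.pos) _
  have hn'pos : 0 < n' := by
    by_contra h
    push Not at h
    have h1 : n χ ≤ 0 := by
      rw [hn']; exact mul_nonpos_of_nonneg_of_nonpos hpc.le h
    omega
  have hsumC : ∑ ψ ∈ C, n ψ ^ 2 = (C.card : ℤ) * n χ ^ 2 := by
    rw [Finset.sum_congr rfl (fun ψ hψ => by rw [hnC ψ hψ]), Finset.sum_const, nsmul_eq_mul]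
  have hle : (C.card : ℤ) * n χ ^ 2 ≤ (p : ℤ) ^ a * n χ := by
    rw [← hquad, ← hsumC]
    exact Finset.sum_le_sum_of_subset_of_nonneg (Finset.subset_univ _)
      (fun _ _ _ => sq_nonneg _)
  have hle2 : (C.card : ℤ) * n χ ≤ (p : ℤ) ^ a := by
    have h1 : (C.card : ℤ) * n χ * n χ ≤ (p : ℤ) ^ a * n χ := by
      have : (C.card : ℤ) * n χ * n χ = (C.card : ℤ) * n χ ^ 2 := by ring
      rw [this]; exact hle
    exact le_of_mul_le_mul_right h1 hnpos
  have hle3 : (C.card : ℤ) * (p : ℤ) ^ c ≤ (p : ℤ) ^ a := by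
    calc (C.card : ℤ) * (p : ℤ) ^ c ≤ (C.card : ℤ) * ((p : ℤ) ^ c * n') := by
            apply mul_le_mul_of_nonneg_left _ (Int.natCast_nonneg _)
            nlinarith
      _ = (C.card : ℤ) * n χ := by rw [hn']
      _ ≤ _ := hle2
  constructor
  · exact_mod_cast hle3
  · intro heq x hx
    have heqZ : (C.card : ℤ) * (p : ℤ) ^ c = (p : ℤ) ^ a := by exact_mod_cast heq
    have hn'1 : n' = 1 := by
      have h1 : (C.card : ℤ) * ((p : ℤ) ^ c * n') ≤ (C.card : ℤ) * (p : ℤ) ^ c := by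
        rw [← hn', heqZ]; exact hle2
      have hpos : 0 < (C.card : ℤ) * (p : ℤ) ^ c := by
        rw [heqZ]; exact pow_pos (by exact_mod_cast hp.pos) _
      nlinarith
    have hnχ : n χ = (p : ℤ) ^ c := by rw [hn', hn'1, mul_one]
    have hsumeq : ∑ ψ ∈ C, n ψ ^ 2 = ∑ ψ : IrrCharacter G, n ψ ^ 2 := by
      rw [hquad, hsumC, hnχ, ← heqZ]; ring
    have hzero : ∀ ψ, ψ ∉ C → n ψ = 0 := by
      intro ψ hψ
      have h1 : ∑ ψ ∈ Finset.univ \ C, n ψ ^ 2 = 0 := by
        have := Finset.sum_sdiff (Finset.subset_univ C) (f := fun ψ => n ψ ^ 2)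
        linarith
      have h2 := (Finset.sum_eq_zero_iff_of_nonneg (fun ψ _ => sq_nonneg (n ψ))).1 h1 ψ
        (by simp [hψ])
      exact pow_eq_zero_iff (two_ne_zero) |>.1 h2
    have h1 := congrFun (pRegularPart_expansion (p := p) (isClassFunction_irr χ.2)) x
    rw [pRegularPart_of_dvd _ hx, Finset.sum_apply] at h1
    have h3 : (0 : ℂ) = ∑ ψ : IrrCharacter G, (n ψ : ℂ) * (ψ : G → ℂ) x := by
      have h4 : (0 : ℂ) = (p : ℂ) ^ a * 0 := by ring
      rw [h4, h1, Finset.mul_sum]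
      refine Finset.sum_congr rfl fun ψ _ => ?_
      rw [← hn ψ]
      show _ * (mreg p (χ : G → ℂ) (ψ : G → ℂ) * (ψ : G → ℂ) x) = _
      ring
    have h2 : (0 : ℂ) = ((p : ℂ) ^ c) * ∑ ψ ∈ C, (ψ : G → ℂ) x := by
      rw [h3, ← Finset.sum_subset (Finset.subset_univ C), Finset.mul_sum]
      · refine Finset.sum_congr rfl fun ψ hψ => ?_
        rw [hnC ψ hψ, hnχ]; push_cast; ring
      · intro ψ _ hψ
        rw [hzero ψ hψ]; simp
    exact (mul_eq_zero.mp h2.symm).resolve_left (pow_ne_zero _ hp0)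

end


section

variable {G : Type u} [Group G] [Fintype G]

/-- **Brauer**: `p`-conjugate characters. -/
theorem pconj_main (p : ℕ) (hp : p.Prime) (χ : IrrCharacter G) (r : ℕ)
    (hr : Nat.card {ψ : IrrCharacter G // ∃ σ : ℂ ≃+* ℂ,
      σ (Complex.exp (2 * Real.pi * Complex.I /
        ((Nat.card G / p ^ (Nat.card G).factorization p) : ℕ))) =
      Complex.exp (2 * Real.pi * Complex.I /
        ((Nat.card G / p ^ (Nat.card G).factorization p) : ℕ)) ∧
      (ψ : G → ℂ) = fun g => σ ((χ : G → ℂ) g)} = r) :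
    (r * charDegree (χ : G → ℂ)).factorization p ≤ (Nat.card G).factorization p ∧
    (p ^ (Nat.card G).factorization p ∣ r * charDegree (χ : G → ℂ) →
      p ^ (Nat.card G).factorization p ∣ charDegree (χ : G → ℂ)) := by
  classical
  haveI : Fact p.Prime := ⟨hp⟩
  have : Fintype (IrrCharacter G) := Fintype.ofFinite _
  set a := (Nat.card G).factorization p with ha
  set g' := Nat.card G / p ^ a with hg'
  set ζ : ℂ := Complex.exp (2 * Real.pi * Complex.I / (g' : ℕ)) with hζ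
  set D := charDegree (χ : G → ℂ) with hD
  set c := D.factorization p with hc
  obtain ⟨hχ1, hDpos⟩ := irr_apply_one_eq_charDegree χ.2
  have hcardG : Nat.card G = p ^ a * g' := (Nat.mul_div_cancel' (Nat.ordProj_dvd _ _)).symm
  have hg'0 : g' ≠ 0 := by
    intro h
    rw [h, mul_zero] at hcardG
    exact Nat.card_pos.ne' hcardG
  have hreg : ∀ y : G, ¬ p ∣ orderOf y → orderOf y ∣ g' := by
    intro y hy
    have h1 : orderOf y ∣ p ^ a * g' := hcardG ▸ orderOf_dvd_natCard y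
    have h2 : Nat.Coprime (orderOf y) (p ^ a) :=
      Nat.Coprime.pow_right a ((Nat.Prime.coprime_iff_not_dvd hp).2 hy).symm
    exact h2.dvd_of_dvd_mul_left h1
  set C : Finset (IrrCharacter G) := Finset.univ.filter (fun ψ : IrrCharacter G =>
    ∃ σ : ℂ ≃+* ℂ, σ ζ = ζ ∧ (ψ : G → ℂ) = fun g => σ ((χ : G → ℂ) g)) with hCdef
  have hCcard : C.card = r := by
    rw [← hr, Nat.card_eq_fintype_card, Fintype.card_subtype]
  have hχC : χ ∈ C := by
    rw [hCdef, Finset.mem_filter]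
    exact ⟨Finset.mem_univ _, RingEquiv.refl ℂ, rfl, rfl⟩
  have hCσ : ∀ ψ ∈ C, ∃ σ : ℂ ≃+* ℂ, σ ζ = ζ ∧ (ψ : G → ℂ) = fun g => σ ((χ : G → ℂ) g) := by
    intro ψ hψ
    rw [hCdef, Finset.mem_filter] at hψ
    exact hψ.2
  have hC : ∀ ψ ∈ C, ∀ y : G, ¬ p ∣ orderOf y → (ψ : G → ℂ) y = (χ : G → ℂ) y := by
    intro ψ hψ y hy
    obtain ⟨σ, hσ, hψσ⟩ := hCσ ψ hψ
    rw [hψσ]
    exact aut_fix_char σ g' hg'0 hσ (isCharacter_of_irr χ.2) y (hreg y hy)
  obtain ⟨hle0, heq0⟩ := pconj_core p hp χ C hC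
  rw [hCcard] at hle0 heq0
  have hle : r * p ^ c ≤ p ^ a := hle0
  have heq : r * p ^ c = p ^ a → ∀ x : G, p ∣ orderOf x → ∑ ψ ∈ C, (ψ : G → ℂ) x = 0 := heq0
  have hr0 : r ≠ 0 := by
    rw [← hCcard]; exact Finset.card_ne_zero.mpr ⟨χ, hχC⟩
  have hfac : (r * D).factorization p = r.factorization p + c := by
    rw [Nat.factorization_mul hr0 hDpos.ne', Finsupp.add_apply]
  have hrle : p ^ r.factorization p ≤ r := Nat.ordProj_le p hr0
  have hpow : p ^ (r.factorization p + c) ≤ p ^ a := by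
    rw [pow_add]
    exact le_trans (Nat.mul_le_mul_right _ hrle) hle
  have hνle : r.factorization p + c ≤ a := (Nat.pow_le_pow_iff_right hp.one_lt).1 hpow
  refine ⟨by rw [hfac]; exact hνle, fun hdvd => ?_⟩
  -- the case of equality
  have hge : a ≤ r.factorization p + c := by
    rw [← hfac]
    exact (hp.pow_dvd_iff_le_factorization (Nat.mul_ne_zero hr0 hDpos.ne')).1 hdvd
  have heq1 : r.factorization p + c = a := le_antisymm hνle hge
  have heq2 : r * p ^ c = p ^ a := by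
    apply le_antisymm hle
    rw [← heq1, pow_add]
    exact Nat.mul_le_mul_right _ hrle
  have hvan := heq heq2
  -- evaluate on a Sylow subgroup
  obtain ⟨P⟩ : Nonempty (Sylow p G) := inferInstance
  haveI : Fintype ↥(P : Subgroup G) := Fintype.ofFinite _
  have hPcard : Nat.card (P : Subgroup G) = p ^ a := P.card_eq_multiplicity
  have hres : IsCharacter ↥(P : Subgroup G) (fun z : ↥(P : Subgroup G) => (χ : G → ℂ) z) :=
    Cfsg.Agent.S0148.isCharacter_restrict (P : Subgroup G) (isCharacter_of_irr χ.2)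
  have hone : IsCharacter ↥(P : Subgroup G) (fun _ : ↥(P : Subgroup G) => (1 : ℂ)) :=
    isCharacter_of_irr Cfsg.Agent.S0161.isIrrCharacter_one
  obtain ⟨k, hk⟩ := classInner_char_nat hres hone
  rw [classInner_def] at hk
  have hP0 : (Nat.card (P : Subgroup G) : ℂ) ≠ 0 := Nat.cast_ne_zero.2 Nat.card_pos.ne'
  have hsumχ : ∑ z : ↥(P : Subgroup G), (χ : G → ℂ) z = ((p ^ a * k : ℕ) : ℂ) := by
    have h1 : ∑ z : ↥(P : Subgroup G), (χ : G → ℂ) z = (Nat.card (P : Subgroup G) : ℂ) * (k : ℂ) := by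
      rw [← hk, ← mul_assoc, mul_inv_cancel₀ hP0, one_mul]
      refine Finset.sum_congr rfl fun z _ => ?_
      simp
    rw [h1, hPcard]; push_cast; ring
  have hsumψ : ∀ ψ ∈ C, ∑ z : ↥(P : Subgroup G), (ψ : G → ℂ) z = ((p ^ a * k : ℕ) : ℂ) := by
    intro ψ hψ
    obtain ⟨σ, -, hψσ⟩ := hCσ ψ hψ
    rw [hψσ]
    show ∑ z : ↥(P : Subgroup G), σ ((χ : G → ℂ) z) = _
    rw [← map_sum, hsumχ, map_natCast]
  have hψ1 : ∀ ψ ∈ C, (ψ : G → ℂ) 1 = (D : ℂ) := by
    intro ψ hψ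
    obtain ⟨σ, -, hψσ⟩ := hCσ ψ hψ
    rw [hψσ]
    show σ ((χ : G → ℂ) 1) = _
    rw [hχ1, map_natCast]
  -- double counting
  have hdc : ∑ z : ↥(P : Subgroup G), ∑ ψ ∈ C, (ψ : G → ℂ) z = ((r * D : ℕ) : ℂ) := by
    rw [Finset.sum_eq_single (1 : ↥(P : Subgroup G))]
    · show ∑ ψ ∈ C, (ψ : G → ℂ) 1 = _
      rw [Finset.sum_congr rfl hψ1, Finset.sum_const, hCcard, nsmul_eq_mul]
      push_cast; ring
    · intro z _ hz
      apply hvan
      have hz1 : (z : G) ≠ 1 := fun h => hz (Subtype.ext h)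
      obtain ⟨j, hj⟩ := (IsPGroup.iff_orderOf.mp P.isPGroup') z
      have hj' : orderOf (z : G) = p ^ j := by rw [← hj, Subgroup.orderOf_coe]
      rw [hj']
      rcases Nat.eq_zero_or_pos j with h0 | h0
      · exfalso
        rw [h0, pow_zero, orderOf_eq_one_iff] at hj'
        exact hz1 hj'
      · exact dvd_pow_self p h0.ne'
    · intro h; exact absurd (Finset.mem_univ _) h
  rw [Finset.sum_comm, Finset.sum_congr rfl hsumψ, Finset.sum_const, hCcard, nsmul_eq_mul] at hdc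
  have hfinal : r * (p ^ a * k) = r * D := by exact_mod_cast hdc
  have hDk : D = p ^ a * k := (Nat.eq_of_mul_eq_mul_left (Nat.pos_of_ne_zero hr0) hfinal).symm
  exact ⟨k, hDk⟩

end

end Cfsg.Agent.Lib.Helper8.DS
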