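import Mathlib
import Cfsg.Prelude.Def_Blocks
import Cfsg.Agent.Lib.Helper8.BlockMinMax
import Cfsg.Agent.Lib.Helper8.BlockDefectBounds
import Cfsg.Agent.Lib.Helper8.Deflation

/-!
# Characters vanishing on the elements of order `p` have defect zero: a counting lemma
-/

set_option autoImplicit false

namespace Cfsg.Agent.Lib.Helper8

open Cfsg
open scoped ComplexConjugate
open Cfsg.Agent.Lib.Helper1 Cfsg.Agent.Lib.Helper4

universe u

section

variable {G : Type u} [Group G]

/-- A nontrivial finite `p`-subgroup has a central element of order `p`. -/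
theorem exists_central_orderOf_eq_prime [Finite G] (p : ℕ) [hp : Fact p.Prime] (Q : Subgroup G)
    (hQ : IsPGroup p Q) (hQ1 : Q ≠ ⊥) :
    ∃ z : G, z ∈ Q ∧ orderOf z = p ∧ ∀ u ∈ Q, u * z = z * u := by
  haveI : Nontrivial Q := (Subgroup.nontrivial_iff_ne_bot Q).2 hQ1
  haveI := hQ.center_nontrivial
  have hZp : IsPGroup p (Subgroup.center Q) := hQ.to_subgroup _
  obtain ⟨k, hk⟩ := IsPGroup.iff_card.1 hZp
  have hk0 : k ≠ 0 := by
    intro h0
    rw [h0, pow_zero] at hk
    have : 1 < Nat.card (Subgroup.center Q) := Finite.one_lt_card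
    omega
  have hdvd : p ∣ Nat.card (Subgroup.center Q) := by
    rw [hk]
    exact dvd_pow_self p hk0
  obtain ⟨z', hz'⟩ := exists_prime_orderOf_dvd_card' p hdvd
  refine ⟨((z' : Q) : G), (z' : Q).2, ?_, ?_⟩
  · rw [Subgroup.orderOf_coe, Subgroup.orderOf_coe]
    exact hz'
  · intro u hu
    have h1 := Subgroup.mem_center_iff.1 z'.2 ⟨u, hu⟩
    exact congrArg Subtype.val h1

/-- The counting lemma: for `y` centralizing the nontrivial `p`-subgroup `Q`, the number of
`x ∈ C_G(Q)` with `x ^ p = 1` and `(x⁻¹ y) ^ p = 1` is divisible by `p`. -/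
theorem prime_dvd_card_pairs [Fintype G] [DecidableEq G] (p : ℕ) [hp : Fact p.Prime]
    (Q : Subgroup G) (hQ : IsPGroup p Q) (hQ1 : Q ≠ ⊥) (y : G)
    (hy : Q ≤ Subgroup.centralizer ({y} : Set G))
    [DecidablePred (fun x : G => x ∈ Subgroup.centralizer (Q : Set G))] :
    p ∣ (Finset.univ.filter (fun x : G => x ∈ Subgroup.centralizer (Q : Set G) ∧
      x ^ p = 1 ∧ (x⁻¹ * y) ^ p = 1)).card := by
  obtain ⟨z, hzQ, hzo, hzc⟩ := exists_central_orderOf_eq_prime p Q hQ hQ1
  set T := Finset.univ.filter (fun x : G => x ∈ Subgroup.centralizer (Q : Set G) ∧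
      x ^ p = 1 ∧ (x⁻¹ * y) ^ p = 1) with hT
  have hz1 : z ≠ 1 := by
    intro h
    rw [h, orderOf_one] at hzo
    exact hp.1.one_lt.ne hzo
  have hzp : z ^ p = 1 := by rw [← hzo]; exact pow_orderOf_eq_one z
  -- properties of the powers of `z`
  have hZQ : Subgroup.zpowers z ≤ Q := (Subgroup.zpowers_le).2 hzQ
  have hZC : Subgroup.zpowers z ≤ Subgroup.centralizer (Q : Set G) := by
    rw [Subgroup.zpowers_le, Subgroup.mem_centralizer_iff]
    intro u hu
    exact hzc u hu
  have hZp : ∀ t ∈ Subgroup.zpowers z, t ^ p = 1 := by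
    intro t ht
    have := orderOf_dvd_of_mem_zpowers ht
    rw [hzo] at this
    exact orderOf_dvd_iff_pow_eq_one.1 this
  have hmem : ∀ t ∈ Subgroup.zpowers z, ∀ x ∈ T, x * t ∈ T := by
    intro t ht x hx
    rw [hT, Finset.mem_filter] at hx ⊢
    obtain ⟨_, hxC, hxp, hxy⟩ := hx
    have htC := hZC ht
    have hxt : Commute x t := by
      have := Subgroup.mem_centralizer_iff.1 hxC t (hZQ ht)
      exact this.symm
    have hyC : y ∈ Subgroup.centralizer (Q : Set G) := by
      rw [Subgroup.mem_centralizer_iff]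
      intro u hu
      have := Subgroup.mem_centralizer_iff.1 (hy hu) y (Set.mem_singleton y)
      exact this.symm
    have hxyC : x⁻¹ * y ∈ Subgroup.centralizer (Q : Set G) :=
      Subgroup.mul_mem _ (Subgroup.inv_mem _ hxC) hyC
    have hxyt : Commute t⁻¹ (x⁻¹ * y) := by
      have h1 := Subgroup.mem_centralizer_iff.1 hxyC t (hZQ ht)
      have h2 : Commute t (x⁻¹ * y) := h1
      exact h2.inv_left
    refine ⟨Finset.mem_univ _, Subgroup.mul_mem _ hxC htC, ?_, ?_⟩
    · rw [hxt.mul_pow, hxp, hZp t ht, one_mul]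
    · have e : (x * t)⁻¹ * y = t⁻¹ * (x⁻¹ * y) := by group
      rw [e, hxyt.mul_pow, hxy, mul_one, inv_pow, hZp t ht, inv_one]
  letI act : MulAction (Subgroup.zpowers z) T :=
    { smul := fun t x => ⟨(x : G) * (t : G), hmem t t.2 x x.2⟩
      one_smul := fun x => by
        apply Subtype.ext
        show (x : G) * ((1 : Subgroup.zpowers z) : G) = x
        rw [Subgroup.coe_one, mul_one]
      mul_smul := fun s t x => by
        apply Subtype.ext
        show (x : G) * ((s * t : Subgroup.zpowers z) : G) = (x : G) * (t : G) * (s : G)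
        have hc : (s : G) * (t : G) = (t : G) * (s : G) := by
          obtain ⟨a, ha⟩ := Subgroup.mem_zpowers_iff.1 s.2
          obtain ⟨b, hb⟩ := Subgroup.mem_zpowers_iff.1 t.2
          rw [← ha, ← hb, ← zpow_add, ← zpow_add, add_comm]
        rw [Subgroup.coe_mul, hc, mul_assoc] }
  have hZpg : IsPGroup p (Subgroup.zpowers z) := hQ.to_le hZQ
  have hmod := hZpg.card_modEq_card_fixedPoints T
  have hfix : MulAction.fixedPoints (Subgroup.zpowers z) T = ∅ := by
    rw [Set.eq_empty_iff_forall_notMem]
    intro x hx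
    have h1 := MulAction.mem_fixedPoints.1 hx ⟨z, Subgroup.mem_zpowers z⟩
    have h2 : (x : G) * z = x := congrArg Subtype.val h1
    exact hz1 (mul_eq_left.1 h2)
  rw [hfix] at hmod
  have h0 : Nat.card (∅ : Set T) = 0 := by simp
  rw [h0] at hmod
  have h3 : Nat.card T = T.card := by
    rw [Nat.card_eq_fintype_card, Fintype.card_coe]
  rw [h3] at hmod
  exact (Nat.modEq_zero_iff_dvd).1 hmod

end

section

variable {G : Type u} [Group G] [Fintype G] {M : Ideal AlgInt} {p : ℕ}

/-- The indicator function of the solutions of `x ^ p = 1`. -/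
noncomputable def powOneIndicator (p : ℕ) : G → ℂ := fun x => by
  classical exact if x ^ p = 1 then 1 else 0

omit [Fintype G] in
theorem isClassFunction_powOneIndicator : IsClassFunction G (powOneIndicator p : G → ℂ) := by
  classical
  intro x t
  unfold powOneIndicator
  have : (t * x * t⁻¹) ^ p = 1 ↔ x ^ p = 1 := by
    rw [conj_pow]
    constructor
    · intro h
      have : x ^ p = t⁻¹ * (t * x ^ p * t⁻¹) * t := by group
      rw [this, h]; group
    · intro h
      rw [h]; group
  simp only [this]

omit [Fintype G] in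
theorem memLocalRing_powOneIndicator (hM : M ≠ ⊤) (x : G) :
    MemLocalRing M (powOneIndicator p x : ℂ) := by
  classical
  unfold powOneIndicator
  split_ifs
  · exact memLocalRing_one hM
  · exact memLocalRing_zero hM

/-- An irreducible character vanishing on the elements of order `p` has `p`-defect zero. -/
theorem factorization_eq_of_vanishing (hM : IsPModular p M) (χ : IrrCharacter G)
    (hvan : ∀ g : G, orderOf g = p → (χ : G → ℂ) g = 0) :
    (charDegree (χ : G → ℂ)).factorization p = (Nat.card G).factorization p := by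
  classical
  haveI hp : Fact p.Prime := ⟨hM.1⟩
  have hMp := isPModular_isPrime hM
  haveI : Fintype (ConjClasses G) := Fintype.ofFinite _
  set B := blockOf M (χ : G → ℂ) with hBdef
  have hB : IsPBlock M B := ⟨χ, rfl⟩
  have hχB : χ ∈ B := sameBlock_refl hMp.ne_top _
  have hχ1 : (χ : G → ℂ) 1 ≠ 0 := irr_apply_one_ne_zero χ.2
  have hdvd : charDegree (χ : G → ℂ) ∣ Nat.card G := charDegree_dvd_card χ.2
  have hd0 : charDegree (χ : G → ℂ) ≠ 0 := by
    intro h0
    rw [h0] at hdvd
    exact Nat.card_pos.ne' (zero_dvd_iff.1 hdvd)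
  have hle : (charDegree (χ : G → ℂ)).factorization p ≤ (Nat.card G).factorization p :=
    (Nat.factorization_le_iff_dvd hd0 Nat.card_pos.ne').2 hdvd p
  by_contra hne
  have hlt : (charDegree (χ : G → ℂ)).factorization p < (Nat.card G).factorization p :=
    lt_of_le_of_ne hle hne
  have hdef : 1 ≤ blockDefect p B := by
    unfold blockDefect
    have h1 : sInf ((fun ψ : IrrCharacter G => (charDegree (ψ : G → ℂ)).factorization p) '' B) ≤
        (charDegree (χ : G → ℂ)).factorization p := Nat.sInf_le ⟨χ, hχB, rfl⟩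
    omega
  obtain ⟨w, hw⟩ := exists_isDefectClass hMp hB
  obtain ⟨P⟩ : Nonempty (Sylow p (Subgroup.centralizer ({w} : Set G))) := inferInstance
  set Q := (P : Subgroup (Subgroup.centralizer ({w} : Set G))).map
    (Subgroup.centralizer ({w} : Set G)).subtype with hQ
  have hQp : IsPGroup p Q := P.isPGroup'.map _
  have hQw : Q ≤ Subgroup.centralizer ({w} : Set G) := by
    rintro _ ⟨q, _, rfl⟩
    exact q.2
  have hQcard : Nat.card Q = p ^ blockDefect p B := by
    rw [hQ, Nat.card_congr (Subgroup.equivMapOfInjective _ _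
      (Subgroup.subtype_injective _)).symm.toEquiv]
    exact card_sylow_centralizer_of_isDefectClass hM hB hw P
  have hQ1 : Q ≠ ⊥ := by
    intro h
    rw [h, Subgroup.card_bot] at hQcard
    have : p ^ 1 ∣ p ^ blockDefect p B := pow_dvd_pow p hdef
    rw [← hQcard, pow_one] at this
    exact hp.1.one_lt.ne' (Nat.dvd_one.1 this)
  -- the indicator function
  set s : G → ℂ := powOneIndicator p with hs
  have hscf : IsClassFunction G s := isClassFunction_powOneIndicator
  have hsS : ∀ x, MemLocalRing M (s x) := memLocalRing_powOneIndicator hMp.ne_top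
  have hs1 : omega (χ : G → ℂ) s = 1 := by
    unfold omega
    have h1 : ∑ g, s g * (χ : G → ℂ) g = (χ : G → ℂ) 1 := by
      rw [Finset.sum_eq_single (1 : G)]
      · rw [hs]
        unfold powOneIndicator
        rw [if_pos (one_pow p), one_mul]
      · intro g _ hg1
        rw [hs]
        unfold powOneIndicator
        split_ifs with hgp
        · rw [hvan g (orderOf_eq_prime hgp hg1), mul_zero]
        · rw [zero_mul]
      · intro h
        exact absurd (Finset.mem_univ _) h
    rw [h1, div_self hχ1]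
  have hs2 : omega (χ : G → ℂ) (conv s s) = 1 := by
    rw [omega_conv χ.2 hscf, hs1, mul_one]
  have hccf : IsClassFunction G (conv s s) := isClassFunction_conv hscf hscf
  have hideal : MemLocalIdeal M (omega (χ : G → ℂ) (conv s s)) := by
    rw [omega_eq_sum_classes χ.2 hccf]
    apply memLocalIdeal_sum hMp
    intro c _
    set g := Quotient.out c with hg
    by_cases h : ∃ y : G, IsConj g y ∧ Q ≤ Subgroup.centralizer ({y} : Set G)
    · obtain ⟨y, hgy, hQy⟩ := h
      obtain ⟨t, ht⟩ := isConj_iff.1 hgy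
      have h1 : conv s s g = conv s s y := by
        rw [← ht, hccf g t]
      rw [h1]
      apply memLocalIdeal_mul_right hMp _ (memLocalRing_centralChar hMp.ne_top χ.2 _)
      let f : G → ℂ := fun x => s x * s (x⁻¹ * y)
      have hfinv : ∀ u ∈ Q, ∀ x : G, f (u * x * u⁻¹) = f x := by
        intro u hu x
        simp only [f]
        rw [hscf x u]
        congr 1
        have hyu : u * y = y * u := by
          have := Subgroup.mem_centralizer_iff.1 (hQy hu) y (Set.mem_singleton y)
          exact this.symm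
        have e : (u * x * u⁻¹)⁻¹ * y = u * (x⁻¹ * y) * u⁻¹ := by
          have : y = u * y * u⁻¹ := by rw [hyu]; group
          calc (u * x * u⁻¹)⁻¹ * y = u * x⁻¹ * u⁻¹ * y := by group
            _ = u * x⁻¹ * u⁻¹ * (u * y * u⁻¹) := by rw [← this]
            _ = u * (x⁻¹ * y) * u⁻¹ := by group
        rw [e, hscf _ u]
      have hfS : ∀ x, MemLocalRing M (f x) := fun x => memLocalRing_mul hMp (hsS _) (hsS _)
      have key := memLocalIdeal_sum_sub_sum_centralizer hM Q hQp f hfinv hfS
      have hsum : ∑ x, f x = conv s s y := by rw [conv_apply]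
      have hT : ∑ x ∈ Finset.univ.filter
          (fun x : G => x ∈ Subgroup.centralizer (Q : Set G)), f x =
          ((Finset.univ.filter (fun x : G => x ∈ Subgroup.centralizer (Q : Set G) ∧
            x ^ p = 1 ∧ (x⁻¹ * y) ^ p = 1)).card : ℂ) := by
        have h2 : ∀ x : G, f x = if (x ^ p = 1 ∧ (x⁻¹ * y) ^ p = 1) then 1 else 0 := by
          intro x
          simp only [f, hs]
          unfold powOneIndicator
          by_cases h3 : x ^ p = 1
          · by_cases h4 : (x⁻¹ * y) ^ p = 1
            · rw [if_pos h3, if_pos h4, if_pos ⟨h3, h4⟩, mul_one]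
            · rw [if_pos h3, if_neg h4, if_neg (fun h : x ^ p = 1 ∧ (x⁻¹ * y) ^ p = 1 => h4 h.2), mul_zero]
          · rw [if_neg h3, if_neg (fun h : x ^ p = 1 ∧ (x⁻¹ * y) ^ p = 1 => h3 h.1), zero_mul]
        simp only [h2]
        rw [Finset.sum_boole, Finset.filter_filter]
      rw [hsum, hT] at key
      have h5 : MemLocalIdeal M (((Finset.univ.filter (fun x : G =>
          x ∈ Subgroup.centralizer (Q : Set G) ∧ x ^ p = 1 ∧ (x⁻¹ * y) ^ p = 1)).card : ℕ) : ℂ) :=
        (memLocalIdeal_natCast_iff hM _).2 (prime_dvd_card_pairs p Q hQp hQ1 y hQy)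
      have := memLocalIdeal_add hMp key h5
      rwa [sub_add_cancel] at this
    · have h1 : MemLocalIdeal M (centralChar (χ : G → ℂ) g) := by
        by_contra hu
        exact h (exists_isConj_le_centralizer hM hB ⟨χ, hχB, hu⟩ hw.2.1 Q hQp hQw)
      exact memLocalIdeal_mul_left hMp (memLocalRing_conv hMp hsS hsS _) h1
  rw [hs2] at hideal
  exact not_memLocalIdeal_one hMp hideal

end

end Cfsg.Agent.Lib.Helper8
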