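import Mathlib
import Cfsg.Prelude.Def_Blocks
import Cfsg.Agent.Lib.Helper8.BlockLocal
import Cfsg.Agent.Lib.Helper8.BlockUnion
import Cfsg.Agent.Lib.Helper8.TildeBlock
import Cfsg.Agent.Lib.Helper8.Deflation
import Cfsg.Agent.Lib.Helper8.ClassAlgebra
import Cfsg.Agent.Lib.Helper1.CharFound5
import Cfsg.Agent.Lib.Helper4.Characters
import Cfsg.Agent.Lib.Helper9.DefZ3_A
import Cfsg.Agent.Lib.Helper2.DefZ3_B
import Cfsg.Agent.Lib.Helper7.DefZ3_C

/-! S4737, package D: assembly (2-adic reduction of the class constants + rank argument). -/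

set_option autoImplicit false
open Cfsg
open scoped ComplexConjugate



namespace Cfsg.Agent.Lib.Helper8.DefZ3D

open Cfsg.Agent.Lib.Helper8 Cfsg.Agent.Lib.DefZ3 Cfsg.Agent.Lib.Helper4 Cfsg.Agent.Lib.Helper1

universe u

variable {G : Type u} [Group G] [Finite G]

/-- `y` normalizes no nontrivial 2-subgroup -/
def NoTwo (y : G) : Prop :=
  ∀ Q : Subgroup G, IsPGroup 2 ↥Q → y ∈ Subgroup.normalizer (Q : Set G) → Q = ⊥

omit [Finite G] in
theorem noTwo_inv {y : G} (h : NoTwo y) : NoTwo y⁻¹ := by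
  intro Q hQ hy
  exact h Q hQ (by simpa using (Subgroup.normalizer (Q : Set G)).inv_mem hy)

/-- the centralizer of an element normalizing no nontrivial 2-subgroup has odd order -/
theorem not_two_dvd_card_centralizer {y : G} (h : NoTwo y) :
    ¬ 2 ∣ Nat.card (Subgroup.centralizer ({y} : Set G)) := by
  intro hdvd
  have : Fact (Nat.Prime 2) := ⟨Nat.prime_two⟩
  obtain ⟨t, ht⟩ := exists_prime_orderOf_dvd_card' 2 hdvd
  have ht' : orderOf (t : G) = 2 := by rw [Subgroup.orderOf_coe]; exact ht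
  have htc : (t : G) * y = y * (t : G) :=
    (Subgroup.mem_centralizer_singleton_iff.1 t.2)
  have hQ : IsPGroup 2 ↥(Subgroup.zpowers (t : G)) := by
    apply IsPGroup.of_card (n := 1)
    rw [Nat.card_zpowers, ht', pow_one]
  have hn : y ∈ Subgroup.normalizer ((Subgroup.zpowers (t : G) : Subgroup G) : Set G) := by
    apply Subgroup.centralizer_le_normalizer
    rw [Subgroup.mem_centralizer_iff]
    intro h hh
    obtain ⟨k, rfl⟩ := Subgroup.mem_zpowers_iff.1 hh
    exact ((Commute.zpow_left (show Commute (t : G) y from htc) k)).eq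
  have := h _ hQ hn
  have h1 : (t : G) = 1 := by
    have : (t : G) ∈ Subgroup.zpowers (t : G) := Subgroup.mem_zpowers _
    rw [‹Subgroup.zpowers (t : G) = ⊥›] at this
    exact Subgroup.mem_bot.1 this
  rw [h1, orderOf_one] at ht'
  omega


/-- the 2-defect-zero irreducible characters -/
abbrev DZ (G : Type u) [Group G] : Type u :=
  {χ : IrrCharacter G // (charDegree (χ : G → ℂ)).factorization 2 = (Nat.card G).factorization 2}

theorem two_dvd_quot {χ : IrrCharacter G}
    (h : ¬ (charDegree (χ : G → ℂ)).factorization 2 = (Nat.card G).factorization 2) :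
    2 ∣ Nat.card G / charDegree (χ : G → ℂ) := by
  have hdvd := charDegree_dvd_card χ.2
  have hpos := (irr_apply_one_eq_charDegree χ.2).2
  obtain ⟨q, hq⟩ := hdvd
  have hq0 : q ≠ 0 := by
    rintro rfl
    rw [mul_zero] at hq
    exact Nat.card_pos.ne' hq
  rw [hq, Nat.mul_div_cancel_left _ hpos]
  by_contra h2
  apply h
  rw [hq, Nat.factorization_mul hpos.ne' hq0, Finsupp.add_apply,
    Nat.factorization_eq_zero_of_not_dvd h2, add_zero]

theorem core {ι : Type*} [Fintype ι] [DecidableEq ι] (x : ι → G)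
    (hx3 : ∀ i, orderOf (x i) = 3) (hxs : ∀ i, NoTwo (x i))
    (hinj : ∀ i l, IsConj (x i) (x l) → i = l) :
    Fintype.card ι ≤ Nat.card (DZ G) := by
  classical
  have : Fact (Nat.Prime 2) := ⟨Nat.prime_two⟩
  obtain ⟨M, hM⟩ := exists_isPModular 2
  have hMp := isPModular_isPrime hM
  have hMt := isPModular_ne_top hM
  have : Fintype G := Fintype.ofFinite G
  have : Fintype (IrrCharacter G) := Fintype.ofFinite _
  -- notation
  set c : ι → ℕ := fun i => Nat.card (Subgroup.centralizer ({x i} : Set G)) with hc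
  have hcodd : ∀ i, ¬ 2 ∣ c i := fun i => not_two_dvd_card_centralizer (hxs i)
  have hc0 : ∀ i, (c i : ℂ) ≠ 0 := fun i => Nat.cast_ne_zero.2 Nat.card_pos.ne'
  set q : IrrCharacter G → ℕ := fun χ => Nat.card G / charDegree (χ : G → ℂ) with hq
  set T : ι → ι → IrrCharacter G → ℂ := fun i l χ =>
    (q χ : ℂ) * conj ((χ : G → ℂ) (x i)) ^ 2 * (χ : G → ℂ) (x l)⁻¹ * ((c i : ℂ)⁻¹) ^ 2 with hT
  set N : ι → ι → ℕ := fun i l =>
    Nat.card {g : G // IsConj (x i) g ∧ IsConj (x i) (g⁻¹ * (x l)⁻¹)} with hN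
  -- key1 : the class constant formula
  have key1 : ∀ i l, ∑ χ : IrrCharacter G, T i l χ = (N i l : ℂ) := by
    intro i l
    have hB := card_conj_pairs (x i) (x l)⁻¹
    have hterm : ∀ χ : IrrCharacter G, T i l χ = ((Fintype.card G : ℂ) *
        (conj ((χ : G → ℂ) (x i)) ^ 2 * (χ : G → ℂ) (x l)⁻¹ / (χ : G → ℂ) 1)) *
          ((c i : ℂ)⁻¹) ^ 2 := by
      intro χ
      obtain ⟨h1, hpos⟩ := irr_apply_one_eq_charDegree χ.2
      have hdvd := charDegree_dvd_card χ.2
      have hd0 : (charDegree (χ : G → ℂ) : ℂ) ≠ 0 := Nat.cast_ne_zero.2 hpos.ne'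
      have hqd : (q χ : ℂ) * (charDegree (χ : G → ℂ) : ℂ) = (Fintype.card G : ℂ) := by
        rw [← Nat.cast_mul, hq]
        simp only
        rw [Nat.div_mul_cancel hdvd, Nat.card_eq_fintype_card]
      rw [hT]
      simp only
      rw [h1, ← hqd]
      field_simp
    rw [Finset.sum_congr rfl (fun χ _ => hterm χ), ← Finset.sum_mul, ← Finset.mul_sum, ← hB]
    have := hc0 i
    field_simp
    simp only [hc, hN]
    ring
  -- key2 : parity
  have key2 : ∀ i l, MemLocalIdeal M ((N i l : ℂ) - (1 : Matrix ι ι ℂ) i l) := by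
    intro i l
    have hpar := parity (x i) (x l)⁻¹ (hx3 i) (by rw [orderOf_inv]; exact hx3 l)
      (noTwo_inv (hxs l))
    rw [inv_inv] at hpar
    rw [Matrix.one_apply]
    by_cases hil : i = l
    · subst hil
      rw [if_pos rfl]
      have hodd : ¬ Even (N i i) := fun he => (hpar.1 he) (IsConj.refl _)
      obtain ⟨k, hk⟩ := Nat.not_even_iff_odd.1 hodd
      have : ((N i i : ℕ) : ℂ) - 1 = ((2 * k : ℕ) : ℂ) := by
        rw [hk]; push_cast; ring
      rw [this]
      exact (memLocalIdeal_natCast_iff hM _).2 (Dvd.intro _ rfl)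
    · rw [if_neg hil, sub_zero]
      have hev : Even (N i l) := hpar.2 (fun h => hil (hinj i l h))
      exact (memLocalIdeal_natCast_iff hM _).2 (even_iff_two_dvd.1 hev)
  -- key3 : the terms outside `DZ` lie in the ideal
  have hval : ∀ (χ : IrrCharacter G) (g : G), MemLocalRing M ((χ : G → ℂ) g) := fun χ g =>
    memLocalRing_char_apply hMt (isCharacter_of_irr χ.2) g
  have key3 : ∀ i l (χ : IrrCharacter G),
      ¬ (charDegree (χ : G → ℂ)).factorization 2 = (Nat.card G).factorization 2 →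
      MemLocalIdeal M (T i l χ) := by
    intro i l χ hχ
    have h2 : MemLocalIdeal M ((q χ : ℕ) : ℂ) :=
      (memLocalIdeal_natCast_iff hM _).2 (two_dvd_quot hχ)
    have hconj : MemLocalRing M (conj ((χ : G → ℂ) (x i))) := by
      rw [← isCharacter_inv (isCharacter_of_irr χ.2)]
      exact hval χ _
    have hcinv : MemLocalRing M ((c i : ℂ)⁻¹) := memLocalRing_inv_natCast hM (hcodd i)
    rw [hT]
    simp only
    exact memLocalIdeal_mul_right hMp (memLocalIdeal_mul_right hMp (memLocalIdeal_mul_right hMp h2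
      (memLocalRing_pow hMp hconj 2)) (hval χ _)) (memLocalRing_pow hMp hcinv 2)
  -- the matrices
  set P : Matrix ι (DZ G) ℂ := fun i χ =>
    (q χ.1 : ℂ) * conj ((χ.1 : G → ℂ) (x i)) ^ 2 * ((c i : ℂ)⁻¹) ^ 2 with hP
  set Q : Matrix (DZ G) ι ℂ := fun χ l => (χ.1 : G → ℂ) (x l)⁻¹ with hQ
  have hPQ : ∀ i l, (P * Q) i l = ∑ χ : DZ G, T i l χ.1 := by
    intro i l
    rw [Matrix.mul_apply]
    refine Finset.sum_congr rfl fun χ _ => ?_
    rw [hP, hQ, hT]
    simp only
    ring
  have hmain : ∀ i l, MemLocalIdeal M ((P * Q) i l - (1 : Matrix ι ι ℂ) i l) := by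
    intro i l
    have hsplit : (∑ χ : DZ G, T i l χ.1) + (∑ χ : {χ : IrrCharacter G //
        ¬ (charDegree (χ : G → ℂ)).factorization 2 = (Nat.card G).factorization 2}, T i l χ.1)
          = ∑ χ : IrrCharacter G, T i l χ :=
      Fintype.sum_subtype_add_sum_subtype
        (fun χ : IrrCharacter G =>
          (charDegree (χ : G → ℂ)).factorization 2 = (Nat.card G).factorization 2) (T i l)
    have hrest : MemLocalIdeal M (∑ χ : {χ : IrrCharacter G //
        ¬ (charDegree (χ : G → ℂ)).factorization 2 = (Nat.card G).factorization 2}, T i l χ.1) :=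
      memLocalIdeal_sum hMp _ _ (fun χ _ => key3 i l χ.1 χ.2)
    have heq : (P * Q) i l - (1 : Matrix ι ι ℂ) i l
        = ((N i l : ℂ) - (1 : Matrix ι ι ℂ) i l) - ∑ χ : {χ : IrrCharacter G //
        ¬ (charDegree (χ : G → ℂ)).factorization 2 = (Nat.card G).factorization 2}, T i l χ.1 := by
      rw [hPQ, ← key1 i l, ← hsplit]
      ring
    rw [heq]
    exact memLocalIdeal_sub hMp (key2 i l) hrest
  have hdet := det_ne_zero_of_sub_one hMp (P * Q) hmain
  have hunit : IsUnit (P * Q) := (Matrix.isUnit_iff_isUnit_det _).2 (isUnit_iff_ne_zero.2 hdet)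
  have hrank := Matrix.rank_of_isUnit _ hunit
  have h1 := Matrix.rank_mul_le_left P Q
  have h2 := Matrix.rank_le_card_width P
  rw [Nat.card_eq_fintype_card]
  omega


/-- **S4737**: the number of 2-defect-zero irreducible characters is at least the number of classes
of elements of order 3 normalizing no nontrivial 2-subgroup. -/
theorem main :
    Nat.card {C : ConjClasses G // ∃ g ∈ C.carrier, orderOf g = 3 ∧
        ∀ Q : Subgroup G, IsPGroup 2 ↥Q → g ∈ Subgroup.normalizer (Q : Set G) → Q = ⊥}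
      ≤ Nat.card {χ : IrrCharacter G //
          (charDegree (χ : G → ℂ)).factorization 2 = (Nat.card G).factorization 2} := by
  classical
  have : Fintype {C : ConjClasses G // ∃ g ∈ C.carrier, orderOf g = 3 ∧
        ∀ Q : Subgroup G, IsPGroup 2 ↥Q → g ∈ Subgroup.normalizer (Q : Set G) → Q = ⊥} :=
    Fintype.ofFinite _
  rw [Nat.card_eq_fintype_card]
  refine core (fun C => Classical.choose C.2) (fun C => (Classical.choose_spec C.2).2.1)
    (fun C => (Classical.choose_spec C.2).2.2) ?_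
  intro C C' h
  have h1 := ConjClasses.mem_carrier_iff_mk_eq.1 (Classical.choose_spec C.2).1
  have h2 := ConjClasses.mem_carrier_iff_mk_eq.1 (Classical.choose_spec C'.2).1
  apply Subtype.ext
  rw [← h1, ← h2]
  exact ConjClasses.mk_eq_mk_iff_isConj.2 h

end Cfsg.Agent.Lib.Helper8.DefZ3D
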