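import Mathlib
import Cfsg.Prelude.Def_Blocks
import Cfsg.Prelude.Def_BlockRank
import Cfsg.Agent.Lib.Helper8.DihB0
import Cfsg.Agent.Lib.Helper8.Sub17
import Cfsg.Agent.Lib.Helper8.BA3
import Cfsg.Agent.Lib.Helper8.BA6
import Cfsg.Agent.Lib.Helper8.QB13
import Cfsg.Agent.Lib.Helper7.BL7

/-!
# Principal 2-block for dihedral Sylow 2-subgroups: basic facts on `DL` and the Gram relations
-/

set_option autoImplicit false

namespace Cfsg.Agent.Lib.Helper8.DihB

open Cfsg Subgroup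
open scoped ComplexConjugate
open Cfsg.Agent.Lib.Helper1 Cfsg.Agent.Lib.Helper4 Cfsg.Agent.Lib.Helper7.BL

universe u

section basics

variable {G : Type u} [Group G] {P : Sylow 2 G} {σ : G} {N : ℕ}

theorem DL.A_le (h : DL P σ N) : Subgroup.zpowers σ ≤ (P : Subgroup G) := by
  rw [Subgroup.zpowers_le]
  exact h.mem

theorem comm_of_mem_zpowers {x y : G} (hx : x ∈ Subgroup.zpowers σ) (hy : y ∈ Subgroup.zpowers σ) :
    x * y = y * x := by
  obtain ⟨i, rfl⟩ := Subgroup.mem_zpowers_iff.1 hx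
  obtain ⟨j, rfl⟩ := Subgroup.mem_zpowers_iff.1 hy
  rw [← zpow_add, ← zpow_add, add_comm]

theorem conj_of_mem_zpowers {x y : G} (hx : x ∈ Subgroup.zpowers σ)
    (hy : y ∈ Subgroup.zpowers σ) : x * y * x⁻¹ = y := by
  rw [comm_of_mem_zpowers hx hy, mul_inv_cancel_right]

theorem DL.conj_of_not_mem (h : DL P σ N) {x y : G} (hx : x ∈ (P : Subgroup G))
    (hx' : x ∉ Subgroup.zpowers σ) (hy : y ∈ Subgroup.zpowers σ) : x * y * x⁻¹ = y⁻¹ := by
  obtain ⟨j, rfl⟩ := Subgroup.mem_zpowers_iff.1 hy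
  rw [← conj_zpow, (h.inv x hx hx').2, inv_zpow]

theorem DL.card_A (h : DL P σ N) : Nat.card (Subgroup.zpowers σ) = N := by
  rw [Nat.card_zpowers, h.ord]

theorem DL.le_normalizer (h : DL P σ N) :
    (P : Subgroup G) ≤ Subgroup.normalizer ((Subgroup.zpowers σ : Subgroup G) : Set G) := by
  intro x hx
  have key : ∀ x ∈ (P : Subgroup G), ∀ y ∈ Subgroup.zpowers σ, x * y * x⁻¹ ∈ Subgroup.zpowers σ := by
    intro x hx y hy
    by_cases hxA : x ∈ Subgroup.zpowers σ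
    · rw [conj_of_mem_zpowers hxA hy]; exact hy
    · rw [h.conj_of_not_mem hx hxA hy]; exact inv_mem hy
  rw [Subgroup.mem_normalizer_iff]
  intro y
  constructor
  · exact key x hx y
  · intro hy
    have := key x⁻¹ (inv_mem hx) _ hy
    rw [inv_inv] at this
    have e : x⁻¹ * (x * y * x⁻¹) * x = y := by group
    rwa [e] at this

/-- the sum over the conjugates by the elements of `P` of an element of `⟨σ⟩`. -/
theorem DL.sum_conj [Finite G] (h : DL P σ N) [Fintype ↥(P : Subgroup G)] (f : G → ℂ) {y : G}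
    (hy : y ∈ Subgroup.zpowers σ) :
    ∑ x : ↥(P : Subgroup G), f ((x : G) * y * (x : G)⁻¹) = (N : ℂ) * (f y + f y⁻¹) := by
  classical
  have h1 : ∀ x : ↥(P : Subgroup G), f ((x : G) * y * (x : G)⁻¹) =
      if (x : G) ∈ Subgroup.zpowers σ then f y else f y⁻¹ := by
    intro x
    split_ifs with hx
    · rw [conj_of_mem_zpowers hx hy]
    · rw [h.conj_of_not_mem x.2 hx hy]
  simp only [h1]
  rw [Finset.sum_ite, Finset.sum_const, Finset.sum_const, nsmul_eq_mul, nsmul_eq_mul]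
  have hc1 : (Finset.univ.filter (fun x : ↥(P : Subgroup G) => (x : G) ∈ Subgroup.zpowers σ)).card
      = N := by
    rw [← Fintype.card_subtype, ← Nat.card_eq_fintype_card, ← h.card_A]
    exact Nat.card_congr (Subgroup.subgroupOfEquivOfLe h.A_le).toEquiv
  have hc2 : (Finset.univ.filter (fun x : ↥(P : Subgroup G) => ¬ (x : G) ∈ Subgroup.zpowers σ)).card
      = N := by
    have := Finset.card_filter_add_card_filter_not (s := (Finset.univ : Finset ↥(P : Subgroup G)))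
      (fun x : ↥(P : Subgroup G) => (x : G) ∈ Subgroup.zpowers σ)
    rw [hc1, Finset.card_univ, ← Nat.card_eq_fintype_card, h.card] at this
    omega
  rw [hc1, hc2]
  ring

end basics

section block

variable {G : Type u} [Group G] [Fintype G] {M : Ideal AlgInt} {P : Sylow 2 G} {σ : G} {N : ℕ}

/-- In a group with a normal `p`-complement the sum of the squares of the degrees in the principal
block is the order of a Sylow `p`-subgroup. -/
theorem sum_sq_principal_of_npc {H : Type u} [Group H] [Finite H] {p : ℕ} [Fact p.Prime]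
    (hM : IsPModular p M) (hnc : ∃ k : ℕ, (pPrimeCore p H).index = p ^ k) :
    ((∑ᶠ ψ ∈ principalBlock M H, (charDegree (ψ : H → ℂ) : ℚ) ^ 2) : ℚ) =
      ((p ^ (Nat.card H).factorization p : ℕ) : ℚ) := by
  classical
  haveI : Fintype H := Fintype.ofFinite H
  haveI : Fintype (IrrCharacter H) := Fintype.ofFinite _
  have h1 : ¬ p ∣ orderOf (1 : H) := by
    rw [orderOf_one]
    exact fun hd => (Fact.out : p.Prime).one_lt.ne' (Nat.dvd_one.1 hd)
  have h2 := sum_principal_of_normal_pComplement (H := H) hM hnc h1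
  rw [← finsum_mem_eq_sum_indicator] at h2
  have hfin : (principalBlock M H).Finite := Set.toFinite _
  rw [finsum_mem_eq_finite_toFinset_sum _ hfin] at h2 ⊢
  have h3 : ∀ ψ : IrrCharacter H, conj ((ψ : H → ℂ) 1) * (ψ : H → ℂ) 1 =
      (((charDegree (ψ : H → ℂ) : ℚ) ^ 2 : ℚ) : ℂ) := by
    intro ψ
    rw [(irr_apply_one_eq_charDegree ψ.2).1, Complex.conj_natCast]
    push_cast
    ring
  rw [Finset.sum_congr rfl fun ψ _ => h3 ψ] at h2
  have h4 : ((∑ ψ ∈ hfin.toFinset, (charDegree (ψ : H → ℂ) : ℚ) ^ 2 : ℚ) : ℂ) =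
      (((p ^ (Nat.card H).factorization p : ℕ) : ℚ) : ℂ) := by
    push_cast
    push_cast at h2
    exact h2
  exact_mod_cast h4

/-- The hypotheses on the group for the block-theoretic part. -/
structure DH (P : Sylow 2 G) (σ : G) (N : ℕ) : Prop where
  dl : DL P σ N
  fus : ∀ y ∈ Subgroup.zpowers σ, ∀ g : G, g * y * g⁻¹ ∈ Subgroup.zpowers σ →
    ∃ x ∈ (P : Subgroup G), x * y * x⁻¹ = g * y * g⁻¹
  cardC : ∀ y ∈ Subgroup.zpowers σ, y ≠ 1 →
    Nat.card ↥((P : Subgroup G) ⊓ Subgroup.centralizer ({y} : Set G)) =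
      2 ^ (Nat.card ↥(Subgroup.centralizer ({y} : Set G))).factorization 2
  npc : ∀ y ∈ Subgroup.zpowers σ, y ≠ 1 →
    ∃ k : ℕ, (pPrimeCore 2 ↥(Subgroup.centralizer ({y} : Set G))).index = 2 ^ k

theorem DH.hw (hM : IsPModular 2 M) (h : DH P σ N) :
    ∀ y ∈ {y : G | y ∈ Subgroup.zpowers σ ∧ y ≠ 1},
      ((∑ᶠ ψ ∈ principalBlock M ↥(Subgroup.centralizer ({y} : Set G)),
      (charDegree (ψ : ↥(Subgroup.centralizer ({y} : Set G)) → ℂ) : ℚ) ^ 2) : ℚ) =
        (1 : ℚ) * Nat.card ↥((P : Subgroup G) ⊓ Subgroup.centralizer ({y} : Set G)) := by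
  intro y hy
  haveI : Fact (Nat.Prime 2) := ⟨Nat.prime_two⟩
  rw [sum_sq_principal_of_npc hM (h.npc y hy.1 hy.2), h.cardC y hy.1 hy.2, one_mul]

omit [Fintype G] in
theorem homFun_inv_hom [Finite G] (K : Subgroup G) (ψ : ↥K →* ℂˣ) (y : ↥K) :
    homFun ψ⁻¹ y = conj (homFun ψ y) := by
  rw [← homFun_inv, homFun_apply, homFun_apply, MonoidHom.inv_apply, map_inv]

/-- **The Gram relations** for the multiplicities of the linear characters of `⟨σ⟩`. -/
theorem DH.gram (hM : IsPModular 2 M) (h : DH P σ N)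
    (ψ₁ ψ₂ ψ₃ : ↥(Subgroup.zpowers σ) →* ℂˣ) :
    ∑ᶠ χ ∈ principalBlock M G,
      (mu (Subgroup.zpowers σ) (χ : G → ℂ) ψ₁ - mu (Subgroup.zpowers σ) (χ : G → ℂ) ψ₂) *
        conj (mu (Subgroup.zpowers σ) (χ : G → ℂ) ψ₃) =
    (by classical exact
      (if ψ₁ = ψ₃ then (1 : ℂ) else 0) + (if ψ₁ = ψ₃⁻¹ then 1 else 0) -
        (if ψ₂ = ψ₃ then 1 else 0) - (if ψ₂ = ψ₃⁻¹ then 1 else 0)) := by
  classical
  haveI : Fact (Nat.Prime 2) := ⟨Nat.prime_two⟩
  have : Fintype ↥(Subgroup.zpowers σ) := Fintype.ofFinite _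
  have : Fintype ↥(P : Subgroup G) := Fintype.ofFinite _
  have hA2 : IsPGroup 2 ↥(Subgroup.zpowers σ) := P.2.to_le h.dl.A_le
  have hθU : ∀ y : ↥(Subgroup.zpowers σ), (y : G) ∉ {y : G | y ∈ Subgroup.zpowers σ ∧ y ≠ 1} →
      (fun y => homFun ψ₁ y - homFun ψ₂ y) y = 0 := by
    intro y hy
    have hy1 : y = 1 := by
      by_contra hne
      exact hy ⟨y.2, fun h1 => hne (Subtype.ext h1)⟩
    simp only [hy1, homFun_apply, map_one, Units.val_one, sub_self]
  have key := brauer_inner_formula (p := 2) hM (Subgroup.zpowers σ) hA2 (P : Subgroup G)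
    h.dl.le_normalizer {y : G | y ∈ Subgroup.zpowers σ ∧ y ≠ 1}
    (fun u hu g hg => h.fus u hu.1 g hg) 1 (h.hw hM)
    (fun y => homFun ψ₁ y - homFun ψ₂ y) (homFun ψ₃) hθU
  have hL : ∀ χ : IrrCharacter G,
      ((Nat.card ↥(Subgroup.zpowers σ) : ℂ)⁻¹ * ∑ᶠ y : ↥(Subgroup.zpowers σ), (χ : G → ℂ) (y : G) *
        (fun y => homFun ψ₁ y - homFun ψ₂ y) y⁻¹) =
      mu (Subgroup.zpowers σ) (χ : G → ℂ) ψ₁ - mu (Subgroup.zpowers σ) (χ : G → ℂ) ψ₂ := by
    intro χ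
    unfold mu
    simp only [finsum_eq_sum_of_fintype]
    rw [← mul_sub, ← Finset.sum_sub_distrib]
    congr 1
    refine Finset.sum_congr rfl fun y _ => ?_
    ring
  have hL3 : ∀ χ : IrrCharacter G,
      ((Nat.card ↥(Subgroup.zpowers σ) : ℂ)⁻¹ * ∑ᶠ y : ↥(Subgroup.zpowers σ), (χ : G → ℂ) (y : G) *
        homFun ψ₃ y⁻¹) = mu (Subgroup.zpowers σ) (χ : G → ℂ) ψ₃ := fun χ => rfl
  simp only [hL, hL3] at key
  rw [key]
  -- the right hand side
  have hN0 : (N : ℂ) ≠ 0 := by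
    have := h.dl.four
    exact_mod_cast (by omega : N ≠ 0)
  have hR : ∀ y : ↥(Subgroup.zpowers σ),
      ∑ᶠ x : ↥(P : Subgroup G), extendByZero (Subgroup.zpowers σ) (homFun ψ₃)
        ((x : G) * (y : G) * (x : G)⁻¹) = (N : ℂ) * (homFun ψ₃ y + homFun ψ₃ y⁻¹) := by
    intro y
    rw [finsum_eq_sum_of_fintype,
      h.dl.sum_conj (extendByZero (Subgroup.zpowers σ) (homFun ψ₃)) y.2]
    congr 2
    · unfold extendByZero
      exact Subtype.val_injective.extend_apply (homFun ψ₃) 0 y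
    · unfold extendByZero
      exact Subtype.val_injective.extend_apply (homFun ψ₃) 0 y⁻¹
  simp only [hR]
  rw [finsum_eq_sum_of_fintype, h.dl.card_A]
  have hO := fun ψ ψ' : ↥(Subgroup.zpowers σ) →* ℂˣ => hom_orth ψ ψ'
  simp only [classInner_def, h.dl.card_A] at hO
  have hS : ∀ ψ ψ' : ↥(Subgroup.zpowers σ) →* ℂˣ,
      ∑ y : ↥(Subgroup.zpowers σ), homFun ψ y * conj (homFun ψ' y) =
        (N : ℂ) * (if ψ = ψ' then 1 else 0) := by
    intro ψ ψ'
    rw [← hO ψ ψ', ← mul_assoc, mul_inv_cancel₀ hN0, one_mul]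
  have hexp : ∑ y : ↥(Subgroup.zpowers σ), (homFun ψ₁ y - homFun ψ₂ y) *
      conj ((N : ℂ) * (homFun ψ₃ y + homFun ψ₃ y⁻¹)) =
      (N : ℂ) * ((N : ℂ) * (if ψ₁ = ψ₃ then 1 else 0) + (N : ℂ) * (if ψ₁ = ψ₃⁻¹ then 1 else 0) -
        (N : ℂ) * (if ψ₂ = ψ₃ then 1 else 0) - (N : ℂ) * (if ψ₂ = ψ₃⁻¹ then 1 else 0)) := by
    rw [← hS ψ₁ ψ₃, ← hS ψ₁ ψ₃⁻¹, ← hS ψ₂ ψ₃, ← hS ψ₂ ψ₃⁻¹, ← Finset.sum_add_distrib,
      ← Finset.sum_sub_distrib, ← Finset.sum_sub_distrib, Finset.mul_sum]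
    refine Finset.sum_congr rfl fun y _ => ?_
    rw [map_mul, Complex.conj_natCast, map_add, homFun_inv_hom, homFun_inv, Complex.conj_conj]
    ring
  rw [hexp]
  push_cast
  field_simp
  congr!

end block

end Cfsg.Agent.Lib.Helper8.DihB
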