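import Mathlib
import Cfsg.Prelude.Def_Blocks
import Cfsg.Prelude.Def_BlockRank
import Cfsg.Agent.Lib.Helper8.DihB1
import Cfsg.Agent.Lib.Helper8.BlockDefect
import Cfsg.Agent.Lib.Helper7.BL11

/-!
# Principal 2-block for dihedral Sylow 2-subgroups: the integer multiplicities
-/

set_option autoImplicit false

namespace Cfsg.Agent.Lib.Helper8.DihB

open Cfsg Subgroup
open scoped ComplexConjugate
open Cfsg.Agent.Lib.Helper1 Cfsg.Agent.Lib.Helper4 Cfsg.Agent.Lib.Helper7.BL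

universe u

variable {G : Type u} [Group G] [Fintype G] {M : Ideal AlgInt} {P : Sylow 2 G} {σ : G} {N : ℕ}
  {ζ : ℂ} {om : ℤ → (↥(Subgroup.zpowers σ) →* ℂˣ)}

/-- The interface to the linear characters of `⟨σ⟩` (package PK-FOUR). -/
structure OM (σ : G) (N : ℕ) (ζ : ℂ) (om : ℤ → (↥(Subgroup.zpowers σ) →* ℂˣ)) : Prop where
  prim : IsPrimitiveRoot ζ N
  eq_iff : ∀ k k' : ℤ, om k = om k' ↔ (N : ℤ) ∣ k - k'
  inv : ∀ k : ℤ, (om k)⁻¹ = om (-k)
  zero : om 0 = 1
  expand : ∀ (χ : IrrCharacter G) (l : ℤ), (χ : G → ℂ) (σ ^ l) =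
    ∑ k ∈ Finset.range N, (muZ (Subgroup.zpowers σ) χ (om k) : ℂ) * ζ ^ ((k : ℤ) * l)

/-- the integer multiplicity of `om k` in `χ` restricted to `⟨σ⟩`. -/
noncomputable def mz (om : ℤ → (↥(Subgroup.zpowers σ) →* ℂˣ)) (χ : IrrCharacter G) (k : ℤ) : ℤ :=
  muZ (Subgroup.zpowers σ) χ (om k)

theorem mz_spec (χ : IrrCharacter G) (k : ℤ) :
    mu (Subgroup.zpowers σ) (χ : G → ℂ) (om k) = (mz om χ k : ℂ) :=
  muZ_spec _ χ (om k)

theorem OM.mz_add (ho : OM σ N ζ om) (χ : IrrCharacter G) (k : ℤ) :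
    mz om χ (k + N) = mz om χ k := by
  unfold mz
  have : om (k + N) = om k := by
    rw [ho.eq_iff]
    simp
  rw [this]

theorem OM.mz_congr (ho : OM σ N ζ om) (χ : IrrCharacter G) {k k' : ℤ} (h : (N : ℤ) ∣ k - k') :
    mz om χ k = mz om χ k' := by
  unfold mz
  rw [(ho.eq_iff k k').2 h]

/-- the Gram relations over the integers. -/
theorem DH.gramZ (hM : IsPModular 2 M) (h : DH P σ N) (ho : OM σ N ζ om)
    (B : Finset (IrrCharacter G)) (hB : (B : Set (IrrCharacter G)) = principalBlock M G)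
    (j j' k : ℤ) :
    ∑ χ ∈ B, (mz om χ j - mz om χ j') * mz om χ k =
      (if (N : ℤ) ∣ j - k then (1 : ℤ) else 0) + (if (N : ℤ) ∣ j + k then (1 : ℤ) else 0) -
        (if (N : ℤ) ∣ j' - k then (1 : ℤ) else 0) - (if (N : ℤ) ∣ j' + k then (1 : ℤ) else 0) := by
  classical
  have key := h.gram hM (om j) (om j') (om k)
  rw [← hB, finsum_mem_coe_finset] at key
  simp only [mz_spec, map_intCast] at key
  have e1 : ∀ a b : ℤ, (if om a = om b then (1 : ℂ) else 0) =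
      ((if (N : ℤ) ∣ a - b then 1 else 0 : ℤ) : ℂ) := by
    intro a b
    rw [if_congr (ho.eq_iff a b) rfl rfl]
    split_ifs <;> simp
  have e2 : ∀ a b : ℤ, (if om a = (om b)⁻¹ then (1 : ℂ) else 0) =
      ((if (N : ℤ) ∣ a + b then 1 else 0 : ℤ) : ℂ) := by
    intro a b
    rw [ho.inv b, if_congr (ho.eq_iff a (-b)) rfl rfl, sub_neg_eq_add]
    split_ifs <;> simp
  rw [e1, e1, e2, e2] at key
  exact_mod_cast key

/-- there is an element of `P` outside `⟨σ⟩`. -/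
theorem DL.exists_not_mem (h : DL P σ N) :
    ∃ x ∈ (P : Subgroup G), x ∉ Subgroup.zpowers σ := by
  by_contra hcon
  push Not at hcon
  have hle : (P : Subgroup G) ≤ Subgroup.zpowers σ := fun x hx => hcon x hx
  have h1 := Subgroup.card_le_of_le hle
  rw [h.card, h.card_A] at h1
  have := h.four
  omega

/-- an irreducible character takes the same value at `y` and `y⁻¹` for `y ∈ ⟨σ⟩`. -/
theorem DL.apply_inv (h : DL P σ N) (χ : IrrCharacter G) {y : G}
    (hy : y ∈ Subgroup.zpowers σ) : (χ : G → ℂ) y⁻¹ = (χ : G → ℂ) y := by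
  obtain ⟨x, hxP, hxA⟩ := h.exists_not_mem
  rw [← h.conj_of_not_mem hxP hxA hy]
  exact isClassFunction_of_isCharacter (isCharacter_of_irr χ.2) y x

/-- `mu` does not change under inversion of the linear character. -/
theorem DL.mu_inv (h : DL P σ N) (χ : IrrCharacter G) (ψ : ↥(Subgroup.zpowers σ) →* ℂˣ) :
    mu (Subgroup.zpowers σ) (χ : G → ℂ) ψ⁻¹ = mu (Subgroup.zpowers σ) (χ : G → ℂ) ψ := by
  classical
  have : Fintype ↥(Subgroup.zpowers σ) := Fintype.ofFinite _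
  unfold mu
  congr 1
  simp only [finsum_eq_sum_of_fintype]
  rw [← Equiv.sum_comp (Equiv.inv ↥(Subgroup.zpowers σ))]
  refine Finset.sum_congr rfl fun y _ => ?_
  show (χ : G → ℂ) ((y⁻¹ : ↥(Subgroup.zpowers σ)) : G) * homFun ψ⁻¹ (y⁻¹)⁻¹ =
    (χ : G → ℂ) (y : G) * homFun ψ y⁻¹
  rw [Subgroup.coe_inv, h.apply_inv χ y.2, inv_inv, homFun_apply, homFun_apply,
    MonoidHom.inv_apply, map_inv]

theorem DL.mz_neg (h : DL P σ N) (ho : OM σ N ζ om) (χ : IrrCharacter G) (k : ℤ) :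
    mz om χ (-k) = mz om χ k := by
  have h1 := mz_spec (om := om) χ (-k)
  rw [← ho.inv, h.mu_inv, mz_spec] at h1
  exact_mod_cast h1.symm

theorem OM.mz_triv (ho : OM σ N ζ om) (k : ℤ) :
    mz om (trivIrr G) k = if (N : ℤ) ∣ k then 1 else 0 := by
  classical
  unfold mz
  rw [muZ_triv, ← ho.zero, if_congr (ho.eq_iff k 0) rfl rfl, sub_zero]

theorem mu_sub (χ : IrrCharacter G) (ψ₁ ψ₂ : ↥(Subgroup.zpowers σ) →* ℂˣ) :
    ((Nat.card ↥(Subgroup.zpowers σ) : ℂ)⁻¹ * ∑ᶠ y : ↥(Subgroup.zpowers σ), (χ : G → ℂ) (y : G) *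
        (fun y => homFun ψ₁ y - homFun ψ₂ y) y⁻¹) =
      mu (Subgroup.zpowers σ) (χ : G → ℂ) ψ₁ - mu (Subgroup.zpowers σ) (χ : G → ℂ) ψ₂ := by
  classical
  have : Fintype ↥(Subgroup.zpowers σ) := Fintype.ofFinite _
  unfold mu
  simp only [finsum_eq_sum_of_fintype]
  rw [← mul_sub, ← Finset.sum_sub_distrib]
  congr 1
  refine Finset.sum_congr rfl fun y _ => ?_
  ring

/-- orthogonality with the values at the elements of odd order. -/
theorem DH.orthZ (hM : IsPModular 2 M) (h : DH P σ N)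
    (B : Finset (IrrCharacter G)) (hB : (B : Set (IrrCharacter G)) = principalBlock M G)
    (j j' : ℤ) {ρ : G} (hρ : ¬ 2 ∣ orderOf ρ) :
    ∑ χ ∈ B, ((mz om χ j - mz om χ j' : ℤ) : ℂ) * (χ : G → ℂ) ρ = 0 := by
  classical
  haveI : Fact (Nat.Prime 2) := ⟨Nat.prime_two⟩
  have : Fintype (IrrCharacter G) := Fintype.ofFinite _
  have hθU : ∀ y : ↥(Subgroup.zpowers σ), (y : G) ∉ {y : G | y ∈ Subgroup.zpowers σ ∧ y ≠ 1} →
      (fun y => homFun (om j) y - homFun (om j') y) y = 0 := by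
    intro y hy
    have hy1 : y = 1 := by
      by_contra hne
      exact hy ⟨y.2, fun h1 => hne (Subtype.ext h1)⟩
    simp only [hy1, homFun_apply, map_one, Units.val_one, sub_self]
  have key := sum_coeff_eq_zero (M := M) (Subgroup.zpowers σ)
    {y : G | y ∈ Subgroup.zpowers σ ∧ y ≠ 1}
    (fun y => homFun (om j) y - homFun (om j') y) hθU (fun χ => (χ : G → ℂ) ρ) ?_
  · simp only [mu_sub, mz_spec] at key
    rw [← hB, finsum_mem_coe_finset] at key
    push_cast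
    exact key
  · intro u hu
    have hu2 : ∃ k : ℕ, orderOf (u : G) = 2 ^ k := by
      obtain ⟨k, hk⟩ := (IsPGroup.iff_orderOf.mp P.2) ⟨(u : G), h.dl.A_le u.2⟩
      exact ⟨k, by rw [← hk]; exact (Subgroup.orderOf_coe (⟨(u : G), h.dl.A_le u.2⟩ : (P : Subgroup G)))⟩
    have hgz : IsPPart 2 ρ 1 := ⟨ρ, one_mul ρ, Commute.one_left ρ, ⟨0, by simp⟩, hρ⟩
    have hn : ¬ IsConj (1 : G) (u : G) := by
      rw [isConj_one_right]
      exact hu.2
    exact prin_orth hM hgz hu2 hn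

omit [Fintype G] in
/-- the central involution `σ ^ (N/2)` is centralized by `P`. -/
theorem DL.le_centralizer_pow (h : DL P σ N) {h₂ : ℕ} (hN : N = 2 * h₂) :
    (P : Subgroup G) ≤ Subgroup.centralizer ({σ ^ h₂} : Set G) := by
  intro x hx
  rw [Subgroup.mem_centralizer_iff]
  intro y hy
  rw [Set.mem_singleton_iff] at hy
  subst hy
  have hyA : σ ^ h₂ ∈ Subgroup.zpowers σ := Subgroup.npow_mem_zpowers σ h₂
  by_cases hxA : x ∈ Subgroup.zpowers σ
  · exact comm_of_mem_zpowers hyA hxA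
  · have h1 := h.conj_of_not_mem hx hxA hyA
    have h2 : (σ ^ h₂)⁻¹ = σ ^ h₂ := by
      rw [inv_eq_iff_mul_eq_one, ← pow_add, ← two_mul, ← hN, ← h.ord, pow_orderOf_eq_one]
    rw [h2] at h1
    exact (mul_inv_eq_iff_eq_mul.1 h1).symm

/-- every character of the principal block has a non-constant multiplicity function. -/
theorem DH.exists_mz_ne (hM : IsPModular 2 M) (h : DH P σ N) (ho : OM σ N ζ om) {h₂ : ℕ}
    (hN : N = 2 * h₂) {χ : IrrCharacter G} (hχ : χ ∈ principalBlock M G) :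
    ∃ k : ℕ, k < N ∧ mz om χ k ≠ mz om χ 0 := by
  haveI : Fact (Nat.Prime 2) := ⟨Nat.prime_two⟩
  by_contra hcon
  push Not at hcon
  have h4 := h.dl.four
  have hz : (χ : G → ℂ) (σ ^ h₂) = 0 := by
    have e := ho.expand χ (h₂ : ℤ)
    rw [zpow_natCast] at e
    rw [e]
    have h1 : ∀ k ∈ Finset.range N, (muZ (Subgroup.zpowers σ) χ (om k) : ℂ) * ζ ^ ((k : ℤ) * h₂) =
        (mz om χ 0 : ℂ) * (ζ ^ h₂) ^ k := by
      intro k hk
      have := hcon k (Finset.mem_range.1 hk)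
      unfold mz at this
      rw [this]
      unfold mz
      congr 1
      rw [← pow_mul, mul_comm h₂ k]
      exact_mod_cast zpow_natCast ζ (k * h₂)
    rw [Finset.sum_congr rfl h1, ← Finset.mul_sum]
    have hne : ζ ^ h₂ ≠ 1 := ho.prim.pow_ne_one_of_pos_of_lt (by omega) (by omega)
    have hpow : (ζ ^ h₂) ^ N = 1 := by
      rw [← pow_mul, mul_comm, pow_mul, ho.prim.pow_eq_one, one_pow]
    rw [geom_sum_eq hne N, hpow, sub_self, zero_div, mul_zero]
  refine principal_ne_zero_of_index hM χ hχ ?_ hz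
  intro hdvd
  exact P.not_dvd_index (dvd_trans hdvd (Subgroup.index_dvd_of_le (h.dl.le_centralizer_pow hN)))

end Cfsg.Agent.Lib.Helper8.DihB
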