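import Mathlib
import Cfsg.Prelude.Def_Blocks
import Cfsg.Prelude.Def_BlockRank
import Cfsg.Agent.Lib.Helper8.DihB2
import Cfsg.Agent.Lib.Helper3.DihB_LAT

/-!
# Principal 2-block for dihedral Sylow 2-subgroups: the structure of the block
-/

set_option autoImplicit false

namespace Cfsg.Agent.Lib.Helper8.DihB

open Cfsg Subgroup
open scoped ComplexConjugate
open Cfsg.Agent.Lib.Helper1 Cfsg.Agent.Lib.Helper4 Cfsg.Agent.Lib.Helper7.BL

universe u

variable {G : Type u} [Group G] [Fintype G] {M : Ideal AlgInt} {P : Sylow 2 G} {σ : G} {N : ℕ}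
  {ζ : ℂ} {om : ℤ → (↥(Subgroup.zpowers σ) →* ℂˣ)}

theorem ind_dvd_of_abs_lt {N : ℕ} {a : ℤ} (h : |a| < N) :
    (if (N : ℤ) ∣ a then (1 : ℤ) else 0) = if a = 0 then 1 else 0 := by
  by_cases ha : a = 0
  · subst ha
    simp
  · rw [if_neg ha, if_neg]
    intro hd
    exact ha (Int.eq_zero_of_abs_lt_dvd hd h)

/-- the Gram matrix of the differences `m_a - m_0` for `0 < a, c ≤ N/2`. -/
theorem DH.gram00 (hM : IsPModular 2 M) (h : DH P σ N) (ho : OM σ N ζ om)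
    (B : Finset (IrrCharacter G)) (hB : (B : Set (IrrCharacter G)) = principalBlock M G)
    {h₂ : ℕ} (hN : N = 2 * h₂) {a c : ℤ} (ha : 0 < a) (ha' : a ≤ h₂) (hc : 0 < c) (hc' : c ≤ h₂) :
    ∑ χ ∈ B, (mz om χ a - mz om χ 0) * (mz om χ c - mz om χ 0) =
      2 + (if a = c then 1 else 0) + (if a + c = N then 1 else 0) := by
  have h1 := h.gramZ hM ho B hB a 0 c
  have h2 := h.gramZ hM ho B hB a 0 0
  have e : ∑ χ ∈ B, (mz om χ a - mz om χ 0) * (mz om χ c - mz om χ 0) =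
      ∑ χ ∈ B, (mz om χ a - mz om χ 0) * mz om χ c -
        ∑ χ ∈ B, (mz om χ a - mz om χ 0) * mz om χ 0 := by
    rw [← Finset.sum_sub_distrib]
    refine Finset.sum_congr rfl fun χ _ => ?_
    ring
  rw [e, h1, h2]
  have hNz : (N : ℤ) = 2 * h₂ := by exact_mod_cast hN
  have e1 : (if (N : ℤ) ∣ a - c then (1 : ℤ) else 0) = if a = c then 1 else 0 := by
    rw [ind_dvd_of_abs_lt (by rw [abs_lt]; constructor <;> omega)]
    exact if_congr sub_eq_zero rfl rfl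
  have e2 : (if (N : ℤ) ∣ a + c then (1 : ℤ) else 0) = if a + c = N then 1 else 0 := by
    by_cases hac : a + c = N
    · rw [if_pos hac, if_pos (by rw [hac])]
    · rw [if_neg hac, ind_dvd_of_abs_lt (by rw [abs_lt]; constructor <;> omega), if_neg (by omega)]
  have e3 : (if (N : ℤ) ∣ 0 - c then (1 : ℤ) else 0) = 0 := by
    rw [ind_dvd_of_abs_lt (by rw [abs_lt]; constructor <;> omega), if_neg (by omega)]
  have e4 : (if (N : ℤ) ∣ 0 + c then (1 : ℤ) else 0) = 0 := by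
    rw [ind_dvd_of_abs_lt (by rw [abs_lt]; constructor <;> omega), if_neg (by omega)]
  have e5 : (if (N : ℤ) ∣ a - 0 then (1 : ℤ) else 0) = 0 := by
    rw [ind_dvd_of_abs_lt (by rw [abs_lt]; constructor <;> omega), if_neg (by omega)]
  have e6 : (if (N : ℤ) ∣ a + 0 then (1 : ℤ) else 0) = 0 := by
    rw [ind_dvd_of_abs_lt (by rw [abs_lt]; constructor <;> omega), if_neg (by omega)]
  have e7 : (if (N : ℤ) ∣ (0 : ℤ) - 0 then (1 : ℤ) else 0) = 1 := by simp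
  have e8 : (if (N : ℤ) ∣ (0 : ℤ) + 0 then (1 : ℤ) else 0) = 1 := by simp
  rw [e1, e2, e3, e4, e5, e6, e7, e8]
  ring

/-- orthogonality of the multiplicity differences with the degrees. -/
theorem DH.orth_deg (hM : IsPModular 2 M) (h : DH P σ N)
    (B : Finset (IrrCharacter G)) (hB : (B : Set (IrrCharacter G)) = principalBlock M G)
    (a : ℤ) :
    ∑ χ ∈ B, (mz om χ a - mz om χ 0) * (charDegree (χ : G → ℂ) : ℤ) = 0 := by
  have h1 : ¬ 2 ∣ orderOf (1 : G) := by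
    rw [orderOf_one]
    norm_num
  have key := h.orthZ (om := om) hM B hB a 0 h1
  have e : ∀ χ ∈ B, ((mz om χ a - mz om χ 0 : ℤ) : ℂ) * (χ : G → ℂ) 1 =
      (((mz om χ a - mz om χ 0) * (charDegree (χ : G → ℂ) : ℤ) : ℤ) : ℂ) := by
    intro χ _
    rw [(irr_apply_one_eq_charDegree χ.2).1]
    push_cast
    ring
  rw [Finset.sum_congr rfl e] at key
  exact_mod_cast key

/-- every character of the block is in the support of some difference. -/
theorem DH.support (hM : IsPModular 2 M) (h : DH P σ N) (ho : OM σ N ζ om) {h₂ : ℕ}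
    (hN : N = 2 * h₂) {χ : IrrCharacter G} (hχ : χ ∈ principalBlock M G) :
    (∃ j : Fin (h₂ - 1), mz om χ ((j : ℕ) + 1 : ℕ) - mz om χ 0 ≠ 0) ∨
      mz om χ h₂ - mz om χ 0 ≠ 0 := by
  obtain ⟨k, hkN, hk⟩ := h.exists_mz_ne hM ho hN hχ
  have hk0 : k ≠ 0 := by
    rintro rfl
    exact hk rfl
  rcases lt_trichotomy k h₂ with hlt | heq | hgt
  · left
    refine ⟨⟨k - 1, by omega⟩, ?_⟩
    have : ((k - 1 : ℕ) + 1 : ℕ) = k := by omega
    simp only [this]
    exact sub_ne_zero.2 hk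
  · right
    subst heq
    exact sub_ne_zero.2 hk
  · left
    refine ⟨⟨N - k - 1, by omega⟩, ?_⟩
    have e1 : ((N - k - 1 : ℕ) + 1 : ℕ) = N - k := by omega
    simp only [e1]
    have e2 : mz om χ ((N - k : ℕ) : ℤ) = mz om χ k := by
      rw [← h.dl.mz_neg ho χ k]
      apply ho.mz_congr
      rw [Nat.cast_sub hkN.le]
      ring_nf
      exact dvd_refl _
    rw [e2]
    exact sub_ne_zero.2 hk

open Classical in
/-- **The structure of the principal block** in terms of the multiplicities. -/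
theorem DH.structure (hM : IsPModular 2 M) (h : DH P σ N) (ho : OM σ N ζ om) {h₂ : ℕ}
    (hN : N = 2 * h₂) (hh3 : h₂ ≠ 3) :
    ∃ (χ₁ χ₂ χ₃ : IrrCharacter G) (χ' : Fin (h₂ - 1) → IrrCharacter G) (δ₁ δ₂ δ₃ : ℤ),
      (δ₁ = 1 ∨ δ₁ = -1) ∧ (δ₂ = 1 ∨ δ₂ = -1) ∧ (δ₃ = 1 ∨ δ₃ = -1) ∧ Function.Injective χ' ∧
      χ₁ ≠ trivIrr G ∧ χ₂ ≠ trivIrr G ∧ χ₃ ≠ trivIrr G ∧ χ₁ ≠ χ₂ ∧ χ₁ ≠ χ₃ ∧ χ₂ ≠ χ₃ ∧
      (∀ j, χ' j ≠ trivIrr G ∧ χ' j ≠ χ₁ ∧ χ' j ≠ χ₂ ∧ χ' j ≠ χ₃) ∧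
      (∀ χ, χ ∈ principalBlock M G ↔
        χ = trivIrr G ∨ χ = χ₁ ∨ χ = χ₂ ∨ χ = χ₃ ∨ ∃ j, χ = χ' j) ∧
      (∀ (j : Fin (h₂ - 1)) (χ : IrrCharacter G), χ ∈ principalBlock M G →
        mz om χ ((j : ℕ) + 1 : ℕ) - mz om χ 0 =
          -(if χ = trivIrr G then 1 else 0) - δ₁ * (if χ = χ₁ then 1 else 0) +
            δ₁ * (if χ = χ' j then 1 else 0)) ∧
      (∀ χ : IrrCharacter G, χ ∈ principalBlock M G →
        mz om χ h₂ - mz om χ 0 =
          -(if χ = trivIrr G then 1 else 0) - δ₁ * (if χ = χ₁ then 1 else 0) -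
            δ₂ * (if χ = χ₂ then 1 else 0) - δ₃ * (if χ = χ₃ then 1 else 0)) := by
  have hfin : (principalBlock M G).Finite := Set.toFinite _
  set B : Finset (IrrCharacter G) := hfin.toFinset with hBdef
  have hB : (B : Set (IrrCharacter G)) = principalBlock M G := hfin.coe_toFinset
  have hmemB : ∀ χ, χ ∈ B ↔ χ ∈ principalBlock M G := fun χ => hfin.mem_toFinset
  have h4 := h.dl.four
  have hMp := isPModular_isPrime hM
  have hto : trivIrr G ∈ B := (hmemB _).2 (trivIrr_mem_principalBlock hMp.ne_top)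
  have hNz : (N : ℤ) = 2 * h₂ := by exact_mod_cast hN
  -- the data for the lattice lemma
  let o : ↥B := ⟨trivIrr G, hto⟩
  let w : Fin (h₂ - 1) → ↥B → ℤ := fun j χ => mz om χ.1 ((j : ℕ) + 1 : ℕ) - mz om χ.1 0
  let x : ↥B → ℤ := fun χ => mz om χ.1 h₂ - mz om χ.1 0
  let d : ↥B → ℤ := fun χ => (charDegree (χ.1 : G → ℂ) : ℤ)
  have hd : ∀ χ, 0 < d χ := fun χ => by
    have := (irr_apply_one_eq_charDegree χ.1.2).2
    show (0 : ℤ) < ((charDegree (χ.1 : G → ℂ) : ℕ) : ℤ)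
    exact_mod_cast this
  have hdo : d o = 1 := by
    have h1 := (irr_apply_one_eq_charDegree (trivIrr G).2).1
    rw [trivIrr_apply] at h1
    have : (charDegree ((trivIrr G : IrrCharacter G) : G → ℂ) : ℂ) = ((1 : ℕ) : ℂ) := by
      rw [← h1]; simp
    have h2 : charDegree ((trivIrr G : IrrCharacter G) : G → ℂ) = 1 := by exact_mod_cast this
    show ((charDegree ((trivIrr G : IrrCharacter G) : G → ℂ) : ℕ) : ℤ) = 1
    rw [h2]; rfl
  have htriv : ∀ a : ℤ, 0 < a → a ≤ h₂ → mz om (trivIrr G) a - mz om (trivIrr G) 0 = -1 := by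
    intro a ha ha'
    rw [ho.mz_triv, ho.mz_triv, if_neg, if_pos (dvd_zero _)]
    · ring
    · intro hd
      have := Int.le_of_dvd ha hd
      omega
  have hwo : ∀ j, w j o = -1 := by
    intro j
    have hj := j.2
    exact htriv _ (by push_cast; omega) (by push_cast; omega)
  have hxo : x o = -1 := htriv _ (by omega) le_rfl
  have hww : ∀ j k, ∑ χ, w j χ * w k χ = 2 + if j = k then 1 else 0 := by
    intro j k
    have hj := j.2
    have hk := k.2
    have key := h.gram00 hM ho B hB hN (a := (((j : ℕ) + 1 : ℕ) : ℤ)) (c := (((k : ℕ) + 1 : ℕ) : ℤ))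
      (by push_cast; omega) (by push_cast; omega) (by push_cast; omega) (by push_cast; omega)
    rw [← Finset.sum_coe_sort B] at key
    have hne : ¬ ((((j : ℕ) + 1 : ℕ) : ℤ) + (((k : ℕ) + 1 : ℕ) : ℤ) = N) := by push_cast; omega
    rw [key, if_neg hne, add_zero]
    congr 1
    refine if_congr ?_ rfl rfl
    rw [Fin.ext_iff]
    push_cast
    omega
  have hxw : ∀ j, ∑ χ, x χ * w j χ = 2 := by
    intro j
    have hj := j.2
    have key := h.gram00 hM ho B hB hN (a := (h₂ : ℤ)) (c := (((j : ℕ) + 1 : ℕ) : ℤ))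
      (by omega) le_rfl (by push_cast; omega) (by push_cast; omega)
    rw [← Finset.sum_coe_sort B] at key
    have hne1 : ¬ ((h₂ : ℤ) = (((j : ℕ) + 1 : ℕ) : ℤ)) := by push_cast; omega
    have hne2 : ¬ ((h₂ : ℤ) + (((j : ℕ) + 1 : ℕ) : ℤ) = N) := by push_cast; omega
    rw [key, if_neg hne1, if_neg hne2]
    ring
  have hxx : ∑ χ, x χ * x χ = 4 := by
    have key := h.gram00 hM ho B hB hN (a := (h₂ : ℤ)) (c := (h₂ : ℤ))
      (by omega) le_rfl (by omega) le_rfl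
    rw [← Finset.sum_coe_sort B] at key
    have he : (h₂ : ℤ) + h₂ = N := by omega
    rw [key, if_pos rfl, if_pos he]
    ring
  have hwd : ∀ j, ∑ χ, w j χ * d χ = 0 := by
    intro j
    have key := h.orth_deg (om := om) hM B hB (((j : ℕ) + 1 : ℕ) : ℤ)
    rw [← Finset.sum_coe_sort B] at key
    exact key
  have hxd : ∑ χ, x χ * d χ = 0 := by
    have key := h.orth_deg (om := om) hM B hB (h₂ : ℤ)
    rw [← Finset.sum_coe_sort B] at key
    exact key
  have hsupp : ∀ χ, (∃ j, w j χ ≠ 0) ∨ x χ ≠ 0 := by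
    intro χ
    exact h.support hM ho hN ((hmemB _).1 χ.2)
  obtain ⟨b, c₂, c₃, a, s, s₂, s₃, hs, hs₂, hs₃, hinj, hbo, hc₂o, hc₃o, hbc₂, hbc₃, hc₂c₃, ha,
    hall, hwf, hxf⟩ := dihedral_lattice o w x d ⟨⟨0, by omega⟩⟩
      (by rw [Fintype.card_fin]; omega) hd hdo hwo hxo hww hxw hxx hwd hxd hsupp
  have hval : ∀ {u v : ↥B}, u ≠ v → u.1 ≠ v.1 := fun huv heq => huv (Subtype.ext heq)
  have hiff : ∀ (χ : IrrCharacter G) (hχ : χ ∈ B) (v : ↥B), (⟨χ, hχ⟩ : ↥B) = v ↔ χ = v.1 := by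
    intro χ hχ v
    constructor
    · intro hh; rw [← hh]
    · intro hh; exact Subtype.ext hh
  refine ⟨b.1, c₂.1, c₃.1, fun j => (a j).1, s, s₂, s₃, hs, hs₂, hs₃, ?_, hval hbo, hval hc₂o,
    hval hc₃o, hval hbc₂, hval hbc₃, hval hc₂c₃, ?_, ?_, ?_, ?_⟩
  · intro j k hjk
    exact hinj (Subtype.ext hjk)
  · intro j
    exact ⟨hval (ha j).1, hval (ha j).2.1, hval (ha j).2.2.1, hval (ha j).2.2.2⟩
  · intro χ
    constructor
    · intro hχ
      rcases hall ⟨χ, (hmemB χ).2 hχ⟩ with h1 | h1 | h1 | h1 | ⟨j, h1⟩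
      · exact Or.inl ((hiff _ _ _).1 h1)
      · exact Or.inr (Or.inl ((hiff _ _ _).1 h1))
      · exact Or.inr (Or.inr (Or.inl ((hiff _ _ _).1 h1)))
      · exact Or.inr (Or.inr (Or.inr (Or.inl ((hiff _ _ _).1 h1))))
      · exact Or.inr (Or.inr (Or.inr (Or.inr ⟨j, (hiff _ _ _).1 h1⟩)))
    · rintro (h1 | h1 | h1 | h1 | ⟨j, h1⟩)
      · rw [h1]; exact (hmemB _).1 hto
      · rw [h1]; exact (hmemB _).1 b.2
      · rw [h1]; exact (hmemB _).1 c₂.2
      · rw [h1]; exact (hmemB _).1 c₃.2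
      · rw [h1]; exact (hmemB _).1 (a j).2
  · intro j χ hχ
    have := hwf j ⟨χ, (hmemB χ).2 hχ⟩
    simp only [hiff] at this
    exact this
  · intro χ hχ
    have := hxf ⟨χ, (hmemB χ).2 hχ⟩
    simp only [hiff] at this
    exact this

end Cfsg.Agent.Lib.Helper8.DihB
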