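import Mathlib
import Cfsg.Prelude.Def_Blocks
import Cfsg.Prelude.Def_BlockRank
import Cfsg.Agent.Lib.Helper8.DihB2

/-!
# Principal 2-block for dihedral Sylow 2-subgroups: the values on `⟨σ⟩`
-/

set_option autoImplicit false

namespace Cfsg.Agent.Lib.Helper8.DihB

open Cfsg Subgroup
open scoped ComplexConjugate
open Cfsg.Agent.Lib.Helper1 Cfsg.Agent.Lib.Helper4 Cfsg.Agent.Lib.Helper7.BL

universe u

variable {G : Type u} [Group G] [Fintype G] {M : Ideal AlgInt} {P : Sylow 2 G} {σ : G} {N : ℕ}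
  {ζ : ℂ} {om : ℤ → (↥(Subgroup.zpowers σ) →* ℂˣ)}

/-- splitting a sum over `range (2h)` symmetrically. -/
theorem sum_range_two_mul {R : Type*} [AddCommMonoid R] (f : ℕ → R) (m : ℕ) :
    ∑ k ∈ Finset.range (2 * (m + 1)), f k =
      f 0 + ∑ j ∈ Finset.range m, (f (j + 1) + f (2 * (m + 1) - (j + 1))) + f (m + 1) := by
  have e : 2 * (m + 1) = (m + 1) + (m + 1) := by ring
  rw [e, Finset.sum_range_add, Finset.sum_range_succ', Finset.sum_range_succ' (fun x => f (m + 1 + x)),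
    Finset.sum_add_distrib]
  have h1 : ∑ j ∈ Finset.range m, f (m + 1 + (m + 1) - (j + 1)) =
      ∑ k ∈ Finset.range m, f (m + 1 + (k + 1)) := by
    rw [← Finset.sum_range_reflect (fun k => f (m + 1 + (k + 1))) m]
    refine Finset.sum_congr rfl fun j hj => ?_
    have := Finset.mem_range.1 hj
    congr 1
    omega
  rw [h1, add_zero]
  abel

/-- `ζ ^ (N/2) = -1`. -/
theorem OM.pow_half (ho : OM σ N ζ om) {h₂ : ℕ} (hN : N = 2 * h₂) (hh : 0 < h₂) : ζ ^ h₂ = -1 := by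
  have h1 : ζ ^ h₂ * ζ ^ h₂ = 1 := by
    rw [← pow_add, ← two_mul, ← hN, ho.prim.pow_eq_one]
  rcases mul_self_eq_one_iff.1 h1 with h2 | h2
  · exact absurd h2 (ho.prim.pow_ne_one_of_pos_of_lt hh.ne' (by omega))
  · exact h2

/-- **The values on `⟨σ⟩`** in terms of the multiplicity differences. -/
theorem DL.value (h : DL P σ N) (ho : OM σ N ζ om) {h₂ : ℕ} (hN : N = 2 * h₂)
    (χ : IrrCharacter G) {l : ℕ} (hl : 0 < l) (hl' : l < N) :
    (χ : G → ℂ) (σ ^ l) =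
      ∑ j : Fin (h₂ - 1), ((mz om χ ((j : ℕ) + 1 : ℕ) - mz om χ 0 : ℤ) : ℂ) *
        (ζ ^ (((j : ℕ) + 1) * l) + (ζ ^ (((j : ℕ) + 1) * l))⁻¹) +
      ((mz om χ h₂ - mz om χ 0 : ℤ) : ℂ) * (-1) ^ l := by
  have h4 := h.four
  obtain ⟨m, rfl⟩ : ∃ m, h₂ = m + 1 := ⟨h₂ - 1, by omega⟩
  set z : ℂ := ζ ^ l with hz
  have hz1 : z ≠ 1 := ho.prim.pow_ne_one_of_pos_of_lt hl.ne' hl'
  have hzN : z ^ N = 1 := by
    rw [hz, ← pow_mul, mul_comm, pow_mul, ho.prim.pow_eq_one, one_pow]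
  have hz0 : z ≠ 0 := by
    intro h0
    rw [h0, zero_pow (by omega)] at hzN
    exact zero_ne_one hzN
  have hgeom : ∑ k ∈ Finset.range N, z ^ k = 0 := by
    rw [geom_sum_eq hz1 N, hzN, sub_self, zero_div]
  set W : ℕ → ℂ := fun k => ((mz om χ k - mz om χ 0 : ℤ) : ℂ) with hW
  have e := ho.expand χ (l : ℤ)
  rw [zpow_natCast] at e
  have e1 : ∀ k ∈ Finset.range N, (muZ (Subgroup.zpowers σ) χ (om k) : ℂ) * ζ ^ ((k : ℤ) * l) =
      (mz om χ 0 : ℂ) * z ^ k + W k * z ^ k := by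
    intro k _
    have : ζ ^ ((k : ℤ) * l) = z ^ k := by
      rw [hz, ← pow_mul, mul_comm l k]
      exact_mod_cast zpow_natCast ζ (k * l)
    rw [this, hW]
    unfold mz
    push_cast
    ring
  rw [e, Finset.sum_congr rfl e1, Finset.sum_add_distrib, ← Finset.mul_sum, hgeom, mul_zero,
    zero_add, hN, sum_range_two_mul (fun k => W k * z ^ k) m]
  have hW0 : W 0 = 0 := by simp [hW]
  have hrefl : ∀ j ∈ Finset.range m,
      W (2 * (m + 1) - (j + 1)) * z ^ (2 * (m + 1) - (j + 1)) = W (j + 1) * (z ^ (j + 1))⁻¹ := by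
    intro j hj
    have hjm := Finset.mem_range.1 hj
    have hWr : W (2 * (m + 1) - (j + 1)) = W (j + 1) := by
      simp only [hW]
      have : mz om χ ((2 * (m + 1) - (j + 1) : ℕ) : ℤ) = mz om χ ((j + 1 : ℕ) : ℤ) := by
        rw [← h.mz_neg ho χ ((j + 1 : ℕ) : ℤ)]
        apply ho.mz_congr
        rw [Nat.cast_sub (by omega : j + 1 ≤ 2 * (m + 1)), hN]
        push_cast
        ring_nf
        exact dvd_refl _
      rw [this]
    have hzr : z ^ (2 * (m + 1) - (j + 1)) = (z ^ (j + 1))⁻¹ := by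
      apply eq_inv_of_mul_eq_one_left
      rw [← pow_add, Nat.sub_add_cancel (by omega : j + 1 ≤ 2 * (m + 1)), ← hN, hzN]
    rw [hWr, hzr]
  have hsum : ∑ j ∈ Finset.range m, (W (j + 1) * z ^ (j + 1) +
      W (2 * (m + 1) - (j + 1)) * z ^ (2 * (m + 1) - (j + 1))) =
      ∑ j ∈ Finset.range m, W (j + 1) * (ζ ^ ((j + 1) * l) + (ζ ^ ((j + 1) * l))⁻¹) := by
    refine Finset.sum_congr rfl fun j hj => ?_
    rw [hrefl j hj, hz, ← pow_mul, mul_comm l (j + 1)]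
    ring
  have hhalf : z ^ (m + 1) = (-1) ^ l := by
    rw [hz, ← pow_mul, mul_comm, pow_mul, ho.pow_half hN (by omega)]
  rw [hsum, hW0, zero_mul, zero_add, hhalf]
  congr 1
  rw [← Fin.sum_univ_eq_sum_range (fun j => W (j + 1) * (ζ ^ ((j + 1) * l) + (ζ ^ ((j + 1) * l))⁻¹)) m]
  rfl

end Cfsg.Agent.Lib.Helper8.DihB
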