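import Mathlib
import Cfsg.Prelude.Def_Blocks
import Cfsg.Prelude.Def_BlockRank
import Cfsg.Agent.Lib.Helper8.DihB3
import Cfsg.Agent.Lib.Helper8.DihB4

/-!
# Principal 2-block for dihedral Sylow 2-subgroups: the main theorem from `DH` and `OM`
-/

set_option autoImplicit false

namespace Cfsg.Agent.Lib.Helper8.DihB

open Cfsg Subgroup
open scoped ComplexConjugate
open Cfsg.Agent.Lib.Helper1 Cfsg.Agent.Lib.Helper4 Cfsg.Agent.Lib.Helper7.BL

universe u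

variable {G : Type u} [Group G] [Fintype G] {M : Ideal AlgInt} {P : Sylow 2 G} {σ : G} {N : ℕ}
  {ζ : ℂ} {om : ℤ → (↥(Subgroup.zpowers σ) →* ℂˣ)}

omit [Fintype G] in
theorem trivIrr_coe : ((trivIrr G : IrrCharacter G) : G → ℂ) = fun _ => 1 := by
  funext x
  rw [trivIrr_apply]

omit [Fintype G] in
theorem eq_trivIrr_iff (χ : IrrCharacter G) : χ = trivIrr G ↔ (χ : G → ℂ) = fun _ => 1 := by
  constructor
  · rintro rfl
    exact trivIrr_coe
  · intro h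
    apply Subtype.ext
    rw [h, trivIrr_coe]

theorem sum_ind_mul {α : Type*} [DecidableEq α] (B : Finset α) {t : α} (ht : t ∈ B) (f : α → ℂ) :
    ∑ χ ∈ B, ((if χ = t then (1 : ℤ) else 0 : ℤ) : ℂ) * f χ = f t := by
  have : ∀ χ ∈ B, ((if χ = t then (1 : ℤ) else 0 : ℤ) : ℂ) * f χ = if χ = t then f χ else 0 := by
    intro χ _
    split_ifs <;> simp
  rw [Finset.sum_congr rfl this, Finset.sum_ite_eq' B t f, if_pos ht]

theorem two_pow_ne_three (k : ℕ) : 2 ^ k ≠ 3 := by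
  intro h
  rcases k with _ | _ | k
  · simp at h
  · simp at h
  · have : 4 ∣ 2 ^ (k + 1 + 1) := ⟨2 ^ k, by ring⟩
    omega

open Classical in
/-- **Brauer's theorem on the principal 2-block for dihedral Sylow 2-subgroups**, from the group
theoretic hypotheses `DH` and the characters `om` of `⟨σ⟩`. -/
theorem DH.main (hM : IsPModular 2 M) (n : ℕ) (hn : 3 ≤ n) (h : DH P σ (2 ^ (n - 1)))
    (ho : OM σ (2 ^ (n - 1)) ζ om) :
    Nat.card (principalBlock M G) = 3 + 2 ^ (n - 2) ∧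
    ∃ (χ₁ χ₂ χ₃ : IrrCharacter G) (χ' : Fin (2 ^ (n - 2) - 1) → IrrCharacter G) (δ₁ δ₂ δ₃ : ℤ),
      (δ₁ = 1 ∨ δ₁ = -1) ∧ (δ₂ = 1 ∨ δ₂ = -1) ∧ (δ₃ = 1 ∨ δ₃ = -1) ∧ Function.Injective χ' ∧
      (χ₁ : G → ℂ) ≠ (fun _ => 1) ∧ (χ₂ : G → ℂ) ≠ (fun _ => 1) ∧ (χ₃ : G → ℂ) ≠ (fun _ => 1) ∧
      χ₁ ≠ χ₂ ∧ χ₁ ≠ χ₃ ∧ χ₂ ≠ χ₃ ∧
      (∀ j, χ' j ≠ χ₁ ∧ χ' j ≠ χ₂ ∧ χ' j ≠ χ₃ ∧ (χ' j : G → ℂ) ≠ (fun _ => 1)) ∧
      principalBlock M G = {χ : IrrCharacter G | (χ : G → ℂ) = (fun _ => 1) ∨ χ = χ₁ ∨ χ = χ₂ ∨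
        χ = χ₃ ∨ ∃ j, χ = χ' j} ∧
      (∀ l : ℕ, 0 < l → l < 2 ^ (n - 1) →
        (χ₁ : G → ℂ) (σ ^ l) = δ₁ ∧ (χ₂ : G → ℂ) (σ ^ l) = δ₂ * (-1) ^ (l + 1) ∧
        (χ₃ : G → ℂ) (σ ^ l) = δ₃ * (-1) ^ (l + 1) ∧
        ∀ j : Fin (2 ^ (n - 2) - 1), (χ' j : G → ℂ) (σ ^ l) =
          δ₁ * (ζ ^ (((j : ℕ) + 1) * l) + (ζ ^ (((j : ℕ) + 1) * l))⁻¹)) ∧
      ∀ ρ : G, Odd (orderOf ρ) → ∀ j : Fin (2 ^ (n - 2) - 1),
        1 + δ₁ * (χ₁ : G → ℂ) ρ = -δ₂ * (χ₂ : G → ℂ) ρ - δ₃ * (χ₃ : G → ℂ) ρ ∧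
        1 + δ₁ * (χ₁ : G → ℂ) ρ = δ₁ * (χ' j : G → ℂ) ρ := by
  have hN : 2 ^ (n - 1) = 2 * 2 ^ (n - 2) := by
    rw [← pow_succ']
    congr 1
    omega
  have hh1 : 1 ≤ 2 ^ (n - 2) := Nat.one_le_two_pow
  obtain ⟨χ₁, χ₂, χ₃, χ', δ₁, δ₂, δ₃, hδ₁, hδ₂, hδ₃, hinj, h1t, h2t, h3t, h12, h13, h23, hχ',
    hmem, hW, hX⟩ := h.structure hM ho hN (two_pow_ne_three _)
  -- membership facts
  have hfin : (principalBlock M G).Finite := Set.toFinite _
  set B : Finset (IrrCharacter G) := hfin.toFinset with hBdef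
  have hB : (B : Set (IrrCharacter G)) = principalBlock M G := hfin.coe_toFinset
  have hmemB : ∀ χ, χ ∈ B ↔ χ ∈ principalBlock M G := fun χ => hfin.mem_toFinset
  have mt : trivIrr G ∈ principalBlock M G := (hmem _).2 (Or.inl rfl)
  have m1 : χ₁ ∈ principalBlock M G := (hmem _).2 (Or.inr (Or.inl rfl))
  have m2 : χ₂ ∈ principalBlock M G := (hmem _).2 (Or.inr (Or.inr (Or.inl rfl)))
  have m3 : χ₃ ∈ principalBlock M G := (hmem _).2 (Or.inr (Or.inr (Or.inr (Or.inl rfl))))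
  have m' : ∀ j, χ' j ∈ principalBlock M G := fun j =>
    (hmem _).2 (Or.inr (Or.inr (Or.inr (Or.inr ⟨j, rfl⟩))))
  refine ⟨?_, χ₁, χ₂, χ₃, χ', δ₁, δ₂, δ₃, hδ₁, hδ₂, hδ₃, hinj,
    fun hc => h1t ((eq_trivIrr_iff _).2 hc), fun hc => h2t ((eq_trivIrr_iff _).2 hc),
    fun hc => h3t ((eq_trivIrr_iff _).2 hc), h12, h13, h23, ?_, ?_, ?_, ?_⟩
  · -- the number of characters
    have hset : principalBlock M G =
        insert (trivIrr G) (insert χ₁ (insert χ₂ (insert χ₃ (Set.range χ')))) := by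
      ext χ
      rw [hmem χ]
      simp only [Set.mem_insert_iff, Set.mem_range]
      constructor
      · rintro (h | h | h | h | ⟨j, h⟩)
        · exact Or.inl h
        · exact Or.inr (Or.inl h)
        · exact Or.inr (Or.inr (Or.inl h))
        · exact Or.inr (Or.inr (Or.inr (Or.inl h)))
        · exact Or.inr (Or.inr (Or.inr (Or.inr ⟨j, h.symm⟩)))
      · rintro (h | h | h | h | ⟨j, h⟩)
        · exact Or.inl h
        · exact Or.inr (Or.inl h)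
        · exact Or.inr (Or.inr (Or.inl h))
        · exact Or.inr (Or.inr (Or.inr (Or.inl h)))
        · exact Or.inr (Or.inr (Or.inr (Or.inr ⟨j, h.symm⟩)))
    rw [Nat.card_coe_set_eq, hset]
    have hr : (Set.range χ').ncard = 2 ^ (n - 2) - 1 := by
      rw [← Set.image_univ, Set.ncard_image_of_injective _ hinj, Set.ncard_univ, Nat.card_fin]
    have hf0 : (Set.range χ').Finite := Set.toFinite _
    have n3 : χ₃ ∉ Set.range χ' := by
      rintro ⟨j, hj⟩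
      exact (hχ' j).2.2.2 hj
    have n2 : χ₂ ∉ insert χ₃ (Set.range χ') := by
      rintro (h | ⟨j, hj⟩)
      · exact h23 h
      · exact (hχ' j).2.2.1 hj
    have n1 : χ₁ ∉ insert χ₂ (insert χ₃ (Set.range χ')) := by
      rintro (h | h | ⟨j, hj⟩)
      · exact h12 h
      · exact h13 h
      · exact (hχ' j).2.1 hj
    have n0 : trivIrr G ∉ insert χ₁ (insert χ₂ (insert χ₃ (Set.range χ'))) := by
      rintro (h | h | h | ⟨j, hj⟩)
      · exact h1t h.symm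
      · exact h2t h.symm
      · exact h3t h.symm
      · exact (hχ' j).1 hj
    rw [Set.ncard_insert_of_notMem n0 (Set.toFinite _), Set.ncard_insert_of_notMem n1 (Set.toFinite _),
      Set.ncard_insert_of_notMem n2 (Set.toFinite _), Set.ncard_insert_of_notMem n3 hf0, hr]
    omega
  · intro j
    exact ⟨(hχ' j).2.1, (hχ' j).2.2.1, (hχ' j).2.2.2, fun hc => (hχ' j).1 ((eq_trivIrr_iff _).2 hc)⟩
  · ext χ
    rw [hmem χ]
    show _ ↔ ((χ : G → ℂ) = fun _ => 1) ∨ _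
    rw [eq_trivIrr_iff]
  · -- the values on `σ ^ l`
    intro l hl hl'
    have hval := fun χ => h.dl.value ho hN χ hl hl'
    -- the auxiliary sum from the trivial character
    set S : ℂ := ∑ j : Fin (2 ^ (n - 2) - 1),
      (ζ ^ (((j : ℕ) + 1) * l) + (ζ ^ (((j : ℕ) + 1) * l))⁻¹) with hSdef
    have key : ∀ c : ℂ, ∑ j : Fin (2 ^ (n - 2) - 1),
        c * (ζ ^ (((j : ℕ) + 1) * l) + (ζ ^ (((j : ℕ) + 1) * l))⁻¹) = c * S := by
      intro c
      rw [hSdef, Finset.mul_sum]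
    have ht := hval (trivIrr G)
    rw [trivIrr_apply] at ht
    have hWt : ∀ j : Fin (2 ^ (n - 2) - 1),
        mz om (trivIrr G) ((j : ℕ) + 1 : ℕ) - mz om (trivIrr G) 0 = -1 := by
      intro j
      rw [hW j _ mt, if_pos rfl, if_neg (Ne.symm h1t), if_neg (Ne.symm (hχ' j).1)]
      ring
    have hXt : mz om (trivIrr G) (2 ^ (n - 2) : ℕ) - mz om (trivIrr G) 0 = -1 := by
      rw [hX _ mt, if_pos rfl, if_neg (Ne.symm h1t), if_neg (Ne.symm h2t), if_neg (Ne.symm h3t)]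
      ring
    simp only [hWt, hXt, key] at ht
    have hS : S + (-1) ^ l = -1 := by
      push_cast at ht
      linear_combination ht
    refine ⟨?_, ?_, ?_, ?_⟩
    · have h1 := hval χ₁
      have hW1 : ∀ j : Fin (2 ^ (n - 2) - 1),
          mz om χ₁ ((j : ℕ) + 1 : ℕ) - mz om χ₁ 0 = -δ₁ := by
        intro j
        rw [hW j _ m1, if_neg h1t, if_pos rfl, if_neg (Ne.symm (hχ' j).2.1)]
        ring
      have hX1 : mz om χ₁ (2 ^ (n - 2) : ℕ) - mz om χ₁ 0 = -δ₁ := by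
        rw [hX _ m1, if_neg h1t, if_pos rfl, if_neg h12, if_neg h13]
        ring
      simp only [hW1, hX1, key] at h1
      rw [h1]
      push_cast
      linear_combination (-(δ₁ : ℂ)) * hS
    · have h1 := hval χ₂
      have hW1 : ∀ j : Fin (2 ^ (n - 2) - 1),
          mz om χ₂ ((j : ℕ) + 1 : ℕ) - mz om χ₂ 0 = 0 := by
        intro j
        rw [hW j _ m2, if_neg h2t, if_neg (Ne.symm h12), if_neg (Ne.symm (hχ' j).2.2.1)]
        ring
      have hX1 : mz om χ₂ (2 ^ (n - 2) : ℕ) - mz om χ₂ 0 = -δ₂ := by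
        rw [hX _ m2, if_neg h2t, if_neg (Ne.symm h12), if_pos rfl, if_neg h23]
        ring
      simp only [hW1, hX1, key] at h1
      rw [h1]
      push_cast
      ring
    · have h1 := hval χ₃
      have hW1 : ∀ j : Fin (2 ^ (n - 2) - 1),
          mz om χ₃ ((j : ℕ) + 1 : ℕ) - mz om χ₃ 0 = 0 := by
        intro j
        rw [hW j _ m3, if_neg h3t, if_neg (Ne.symm h13), if_neg (Ne.symm (hχ' j).2.2.2)]
        ring
      have hX1 : mz om χ₃ (2 ^ (n - 2) : ℕ) - mz om χ₃ 0 = -δ₃ := by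
        rw [hX _ m3, if_neg h3t, if_neg (Ne.symm h13), if_neg (Ne.symm h23), if_pos rfl]
        ring
      simp only [hW1, hX1, key] at h1
      rw [h1]
      push_cast
      ring
    · intro i
      have h1 := hval (χ' i)
      have hW1 : ∀ j : Fin (2 ^ (n - 2) - 1),
          mz om (χ' i) ((j : ℕ) + 1 : ℕ) - mz om (χ' i) 0 = if j = i then δ₁ else 0 := by
        intro j
        rw [hW j _ (m' i), if_neg (hχ' i).1, if_neg (hχ' i).2.1]
        by_cases hji : j = i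
        · rw [if_pos hji, if_pos (by rw [hji])]
          ring
        · rw [if_neg hji, if_neg (fun hc => hji (hinj hc).symm)]
          ring
      have hX1 : mz om (χ' i) (2 ^ (n - 2) : ℕ) - mz om (χ' i) 0 = 0 := by
        rw [hX _ (m' i), if_neg (hχ' i).1, if_neg (hχ' i).2.1, if_neg (hχ' i).2.2.1,
          if_neg (hχ' i).2.2.2]
        ring
      simp only [hW1, hX1] at h1
      rw [h1]
      push_cast
      simp only [ite_mul, zero_mul, Finset.sum_ite_eq', Finset.mem_univ, if_true, add_zero]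
  · -- the relations on the elements of odd order
    intro ρ hρ j
    have hρ2 : ¬ 2 ∣ orderOf ρ := fun hd => (Nat.not_even_iff_odd.2 hρ) (even_iff_two_dvd.2 hd)
    have ex : ∑ χ ∈ B, ((mz om χ (2 ^ (n - 2) : ℕ) - mz om χ 0 : ℤ) : ℂ) * (χ : G → ℂ) ρ = 0 :=
      h.orthZ (om := om) hM B hB _ 0 hρ2
    have ew : ∑ χ ∈ B, ((mz om χ ((j : ℕ) + 1 : ℕ) - mz om χ 0 : ℤ) : ℂ) * (χ : G → ℂ) ρ = 0 :=
      h.orthZ (om := om) hM B hB _ 0 hρ2
    have ex' : ∀ χ ∈ B, ((mz om χ (2 ^ (n - 2) : ℕ) - mz om χ 0 : ℤ) : ℂ) * (χ : G → ℂ) ρ =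
        -(((if χ = trivIrr G then (1 : ℤ) else 0 : ℤ) : ℂ) * (χ : G → ℂ) ρ) -
          (δ₁ : ℂ) * (((if χ = χ₁ then (1 : ℤ) else 0 : ℤ) : ℂ) * (χ : G → ℂ) ρ) -
          (δ₂ : ℂ) * (((if χ = χ₂ then (1 : ℤ) else 0 : ℤ) : ℂ) * (χ : G → ℂ) ρ) -
          (δ₃ : ℂ) * (((if χ = χ₃ then (1 : ℤ) else 0 : ℤ) : ℂ) * (χ : G → ℂ) ρ) := by
      intro χ hχ
      rw [hX χ ((hmemB χ).1 hχ)]
      push_cast
      ring
    have ew' : ∀ χ ∈ B, ((mz om χ ((j : ℕ) + 1 : ℕ) - mz om χ 0 : ℤ) : ℂ) * (χ : G → ℂ) ρ =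
        -(((if χ = trivIrr G then (1 : ℤ) else 0 : ℤ) : ℂ) * (χ : G → ℂ) ρ) -
          (δ₁ : ℂ) * (((if χ = χ₁ then (1 : ℤ) else 0 : ℤ) : ℂ) * (χ : G → ℂ) ρ) +
          (δ₁ : ℂ) * (((if χ = χ' j then (1 : ℤ) else 0 : ℤ) : ℂ) * (χ : G → ℂ) ρ) := by
      intro χ hχ
      rw [hW j χ ((hmemB χ).1 hχ)]
      push_cast
      ring
    rw [Finset.sum_congr rfl ex', Finset.sum_sub_distrib, Finset.sum_sub_distrib,
      Finset.sum_sub_distrib, Finset.sum_neg_distrib, ← Finset.mul_sum, ← Finset.mul_sum,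
      ← Finset.mul_sum, sum_ind_mul B ((hmemB _).2 mt), sum_ind_mul B ((hmemB _).2 m1),
      sum_ind_mul B ((hmemB _).2 m2), sum_ind_mul B ((hmemB _).2 m3), trivIrr_apply] at ex
    rw [Finset.sum_congr rfl ew', Finset.sum_add_distrib, Finset.sum_sub_distrib,
      Finset.sum_neg_distrib, ← Finset.mul_sum, ← Finset.mul_sum,
      sum_ind_mul B ((hmemB _).2 mt), sum_ind_mul B ((hmemB _).2 m1),
      sum_ind_mul B ((hmemB _).2 (m' j)), trivIrr_apply] at ew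
    constructor
    · linear_combination -ex
    · linear_combination -ew

end Cfsg.Agent.Lib.Helper8.DihB
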