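import Mathlib
import Cfsg.Prelude.Def_Blocks
import Cfsg.Prelude.Def_BlockRank
import Cfsg.Prelude.Def_Local
import Cfsg.Agent.Lib.Helper8.Sub17
import Cfsg.Agent.Lib.Helper8.Sub16
import Cfsg.Agent.Lib.Helper8.BA4
import Cfsg.Agent.Lib.Helper8.SM4
import Cfsg.Agent.Lib.Helper8.ClassAlgebra
import Cfsg.Agent.S0942
import Cfsg.Agent.Lib.Helper8.Sub3

/-!
# The principal block and class multiplication: Brauer's counting identity (for S4482)
-/

set_option autoImplicit false

namespace Cfsg.Agent.Lib.Helper8.DihB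

open Cfsg Subgroup
open scoped ComplexConjugate
open Cfsg.Agent.Lib.Helper1 Cfsg.Agent.Lib.Helper4

universe u

variable {G : Type u} [Group G] [Fintype G] {M : Ideal AlgInt} {p : ℕ}

/-- the number of `y : G` such that the 2-part of `J * (y J y⁻¹)` is conjugate to `u`. -/
noncomputable def cntY (J u : G) : ℕ :=
  Nat.card {y : G // ∃ π : G, IsPPart 2 (J * (y * J * y⁻¹)) π ∧ IsConj π u}

omit [Fintype G] in
/-- If `C_G(z)` has a normal `p`-complement, the `p`-regular elements commuting with `z` lie in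
`O_{p'}(C_G(z))`. -/
theorem mem_cppc_of_npc [Finite G] [hp : Fact p.Prime] {z v : G}
    (hnpc : ∃ k : ℕ, (pPrimeCore p ↥(Subgroup.centralizer ({z} : Set G))).index = p ^ k)
    (hc : Commute z v) (hv : ¬ p ∣ orderOf v) : v ∈ centralizerPPrimeCore p z := by
  obtain ⟨k, hk⟩ := hnpc
  have hvC : v ∈ Subgroup.centralizer ({z} : Set G) := by
    rw [Subgroup.mem_centralizer_iff]
    intro h hh
    rw [Set.mem_singleton_iff] at hh
    subst hh
    exact hc.eq
  set v' : ↥(Subgroup.centralizer ({z} : Set G)) := ⟨v, hvC⟩ with hv'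
  have hord : orderOf v' = orderOf v := Subgroup.orderOf_mk v hvC
  have h1 : v' ^ p ^ k ∈ pPrimeCore p ↥(Subgroup.centralizer ({z} : Set G)) := by
    rw [← hk]
    exact Subgroup.pow_index_mem _ v'
  have hco : (p ^ k).Coprime (orderOf v') := by
    rw [hord]
    exact Nat.Coprime.pow_left k ((Nat.Prime.coprime_iff_not_dvd hp.out).2 hv)
  obtain ⟨m, hm⟩ := exists_pow_eq_self_of_coprime hco
  have h2 : v' ∈ pPrimeCore p ↥(Subgroup.centralizer ({z} : Set G)) := by
    rw [← hm]
    exact Subgroup.pow_mem _ h1 m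
  exact ⟨v', h2, rfl⟩

omit [Fintype G] in
/-- A character of the principal block is constant on the `p`-section of `u` when `C_G(u)` has a
normal `p`-complement. -/
theorem prin_value_eq [Finite G] [hp : Fact p.Prime] (hM : IsPModular p M) {g u : G}
    (hgu : IsPPart p g u)
    (hnpc : ∃ k : ℕ, (pPrimeCore p ↥(Subgroup.centralizer ({u} : Set G))).index = p ^ k)
    (χ : IrrCharacter G) (hχ : χ ∈ principalBlock M G) : (χ : G → ℂ) g = (χ : G → ℂ) u := by
  obtain ⟨y, hy, hcomm, hk, hreg⟩ := hgu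
  rw [← hy]
  exact Cfsg.Agent.S0942.result p M hM u hk y (mem_cppc_of_npc hnpc hcomm hreg) χ hχ

/-- the mixed sum over the principal block at an element of the section of `u`. -/
theorem prin_mixed_sum [hp : Fact p.Prime] [Fintype (IrrCharacter G)] (hM : IsPModular p M)
    {g z u : G} (hgz : IsPPart p g z) (hzu : IsConj z u) (hu : ∃ k : ℕ, orderOf u = p ^ k)
    (hnpc : ∃ k : ℕ, (pPrimeCore p ↥(Subgroup.centralizer ({u} : Set G))).index = p ^ k) :
    ∑ χ : IrrCharacter G, (by classical exact if χ ∈ principalBlock M G then (1 : ℂ) else 0) *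
      (conj ((χ : G → ℂ) u) * (χ : G → ℂ) g) =
    ((p ^ (Nat.card ↥(Subgroup.centralizer ({u} : Set G))).factorization p : ℕ) : ℂ) := by
  classical
  have : Fintype ↥(Subgroup.centralizer ({u} : Set G)) := Fintype.ofFinite _
  have : Fintype (IrrCharacter ↥(Subgroup.centralizer ({u} : Set G))) := Fintype.ofFinite _
  obtain ⟨c, hc⟩ := isConj_iff.1 hzu
  have hg' : IsPPart p (c * g * c⁻¹) u := by
    have := isPPart_conj hgz c
    rwa [hc] at this
  have h1 : ¬ p ∣ orderOf (1 : ↥(Subgroup.centralizer ({u} : Set G))) := by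
    rw [orderOf_one]
    exact fun hd => hp.out.one_lt.ne' (Nat.dvd_one.1 hd)
  have key := sum_principal_section hM u hu h1
  rw [sum_principal_of_normal_pComplement hM hnpc h1] at key
  rw [← key]
  refine Finset.sum_congr rfl fun χ _ => ?_
  by_cases hχ : χ ∈ principalBlock M G
  · have e : (χ : G → ℂ) g = (χ : G → ℂ) u := by
      rw [← prin_value_eq hM hg' hnpc χ hχ]
      exact (isClassFunction_irr χ.2 g c).symm
    rw [e]
    simp only [OneMemClass.coe_one, mul_one]
  · simp only [if_neg hχ, zero_mul]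

/-- **Brauer's counting identity** for the principal block. -/
theorem star [Fintype (IrrCharacter G)] (hM : IsPModular 2 M) (J u : G)
    (hu : ∃ k : ℕ, orderOf u = 2 ^ k)
    (hnpc : ∃ k : ℕ, (pPrimeCore 2 ↥(Subgroup.centralizer ({u} : Set G))).index = 2 ^ k) :
    ∑ χ : IrrCharacter G, (by classical exact if χ ∈ principalBlock M G then (1 : ℂ) else 0) *
      (conj ((χ : G → ℂ) u) * ((χ : G → ℂ) J ^ 2 / (χ : G → ℂ) 1)) =
    (Fintype.card G : ℂ)⁻¹ *
      ((2 ^ (Nat.card ↥(Subgroup.centralizer ({u} : Set G))).factorization 2 : ℕ) : ℂ) *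
        (cntY J u : ℂ) := by
  classical
  haveI : Fact (Nat.Prime 2) := ⟨Nat.prime_two⟩
  have hp2 : (2 : ℕ).Prime := Nat.prime_two
  have hG : (Fintype.card G : ℂ) ≠ 0 := Nat.cast_ne_zero.2 Fintype.card_pos.ne'
  have h1 : ∀ χ : IrrCharacter G, (χ : G → ℂ) J ^ 2 / (χ : G → ℂ) 1 =
      (Fintype.card G : ℂ)⁻¹ * ∑ y : G, (χ : G → ℂ) (J * (y * J * y⁻¹)) := by
    intro χ
    rw [sum_irr_mul_conj χ.2 J J]
    field_simp
  simp only [h1]
  have h2 : ∀ χ : IrrCharacter G, (if χ ∈ principalBlock M G then (1 : ℂ) else 0) *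
      (conj ((χ : G → ℂ) u) * ((Fintype.card G : ℂ)⁻¹ * ∑ y : G, (χ : G → ℂ) (J * (y * J * y⁻¹))))
      = (Fintype.card G : ℂ)⁻¹ * ∑ y : G, (if χ ∈ principalBlock M G then (1 : ℂ) else 0) *
        (conj ((χ : G → ℂ) u) * (χ : G → ℂ) (J * (y * J * y⁻¹))) := by
    intro χ
    rw [Finset.mul_sum, Finset.mul_sum, Finset.mul_sum, Finset.mul_sum]
    refine Finset.sum_congr rfl fun y _ => ?_
    ring
  simp only [h2]
  rw [← Finset.mul_sum, Finset.sum_comm, mul_assoc]
  congr 1
  set c : ℂ := ((2 ^ (Nat.card ↥(Subgroup.centralizer ({u} : Set G))).factorization 2 : ℕ) : ℂ)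
    with hc
  have h3 : ∀ y : G, ∑ χ : IrrCharacter G, (if χ ∈ principalBlock M G then (1 : ℂ) else 0) *
      (conj ((χ : G → ℂ) u) * (χ : G → ℂ) (J * (y * J * y⁻¹))) =
      if (∃ π : G, IsPPart 2 (J * (y * J * y⁻¹)) π ∧ IsConj π u) then c else 0 := by
    intro y
    obtain ⟨z, hz⟩ := exists_isPPart hp2 (J * (y * J * y⁻¹))
    by_cases hzu : IsConj z u
    · rw [if_pos ⟨z, hz, hzu⟩]
      have := prin_mixed_sum (p := 2) hM hz hzu hu hnpc
      convert this
    · rw [if_neg]
      · have := prin_orth (p := 2) hM hz hu hzu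
        convert this
      · rintro ⟨π, hπ, hπu⟩
        exact hzu ((isPPart_unique hp2 hz hπ) ▸ hπu)
  simp only [h3]
  rw [Finset.sum_ite, Finset.sum_const, Finset.sum_const_zero, add_zero, nsmul_eq_mul, mul_comm]
  congr 1
  unfold cntY
  rw [Nat.card_eq_fintype_card, Fintype.card_subtype]

end Cfsg.Agent.Lib.Helper8.DihB
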