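import Mathlib
import Cfsg.Prelude.Def_Blocks
import Cfsg.Agent.Lib.Helper8.DihC1
import Cfsg.Agent.Lib.Helper1.ConjCount

/-!
# S4482, PK-CNT-B: the double count
-/

set_option autoImplicit false

namespace Cfsg.Agent.Lib.Helper8.DihB

open Cfsg
open Cfsg.Agent.Lib.Helper8 Cfsg.Agent.Lib.Helper1

universe u

section B

/-- a map all of whose fibres have `k` elements. -/
theorem b_card_fibres {α β : Type*} [Finite α] [Finite β] (f : α → β) (k : ℕ)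
    (hf : ∀ b, Nat.card {a // f a = b} = k) : Nat.card α = k * Nat.card β := by
  classical
  haveI := Fintype.ofFinite β
  rw [Nat.card_congr (Equiv.sigmaFiberEquiv f).symm, Nat.card_sigma]
  simp [hf, mul_comm]

variable {G : Type u} [Group G] [Finite G]

theorem b_card_fibre (J v : G) (hv : IsConj J v) :
    Nat.card {x : G // x * J * x⁻¹ = v} = Nat.card (Subgroup.centralizer ({J} : Set G)) := by
  obtain ⟨g, rfl⟩ := isConj_iff.1 hv
  refine Nat.card_congr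
    { toFun := fun x => ⟨g⁻¹ * x.1, (conj_eq_conj_iff J g x.1).1 x.2.symm⟩
      invFun := fun z => ⟨g * z.1, ((conj_eq_conj_iff J g (g * z.1)).2 (by simp)).symm⟩
      left_inv := fun x => Subtype.ext (by simp)
      right_inv := fun z => Subtype.ext (by simp) }

/-- the predicate of the count. -/
def bR (u : G) (m : ℕ) (a v w : G) : Prop :=
  ∃ π : G, IsPPart 2 (v * w) π ∧ IsConj π u ∧ π ^ m = a

omit [Finite G] in
theorem bR_conj {u : G} {m : ℕ} {a v w : G} (h : bR u m a v w) (t : G) :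
    bR u m (t * a * t⁻¹) (t * v * t⁻¹) (t * w * t⁻¹) := by
  obtain ⟨π, hπ, hπu, hπa⟩ := h
  refine ⟨t * π * t⁻¹, ?_, ?_, ?_⟩
  · have := isPPart_conj hπ t
    have e : t * (v * w) * t⁻¹ = t * v * t⁻¹ * (t * w * t⁻¹) := by group
    rwa [e] at this
  · exact (isConj_iff.2 ⟨t, rfl⟩ : IsConj π (t * π * t⁻¹)).symm.trans hπu
  · rw [conj_pow, hπa]

theorem b_step1 (J u : G) (m : ℕ) (hm : u ^ m = J) :
    Nat.card {yz : G × G // bR u m (yz.2 * J * yz.2⁻¹) J (yz.1 * J * yz.1⁻¹)} =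
      Nat.card (Subgroup.centralizer ({J} : Set G)) * cntY J u := by
  unfold cntY
  refine b_card_fibres (fun s : {yz : G × G // bR u m (yz.2 * J * yz.2⁻¹) J (yz.1 * J * yz.1⁻¹)} =>
    (⟨s.1.1, by obtain ⟨π, h1, h2, -⟩ := s.2; exact ⟨π, h1, h2⟩⟩ :
      {y : G // ∃ π : G, IsPPart 2 (J * (y * J * y⁻¹)) π ∧ IsConj π u})) _ ?_
  intro y₀
  obtain ⟨π₀, hπ₀, hπ₀u⟩ := y₀.2
  have hconj : IsConj J (π₀ ^ m) := by
    obtain ⟨c, hc⟩ := isConj_iff.1 hπ₀u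
    rw [← hm, ← hc, conj_pow]
    exact (isConj_iff.2 ⟨c, rfl⟩ : IsConj (π₀ ^ m) (c * π₀ ^ m * c⁻¹)).symm
  rw [← b_card_fibre J (π₀ ^ m) hconj]
  refine Nat.card_congr
    { toFun := fun s => ⟨s.1.1.2, ?_⟩
      invFun := fun z => ⟨⟨(y₀.1, z.1), ⟨π₀, hπ₀, hπ₀u, z.2.symm⟩⟩, rfl⟩
      left_inv := ?_
      right_inv := fun z => rfl }
  · obtain ⟨π, h1, h2, h3⟩ := s.1.2
    have hy : s.1.1.1 = y₀.1 := congrArg Subtype.val s.2
    rw [hy] at h1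
    rw [← h3, isPPart_unique Nat.prime_two h1 hπ₀]
  · intro s
    have hy : s.1.1.1 = y₀.1 := congrArg Subtype.val s.2
    apply Subtype.ext
    apply Subtype.ext
    exact Prod.ext hy.symm rfl

theorem b_step2 (J u : G) (m : ℕ) :
    Nat.card {yz : G × G // bR u m (yz.2 * J * yz.2⁻¹) J (yz.1 * J * yz.1⁻¹)} =
      Nat.card {xy : G × G // bR u m J (xy.1 * J * xy.1⁻¹) (xy.2 * J * xy.2⁻¹)} := by
  refine Nat.card_congr
    { toFun := fun s => ⟨(s.1.2⁻¹, s.1.2⁻¹ * s.1.1), ?_⟩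
      invFun := fun s => ⟨(s.1.1⁻¹ * s.1.2, s.1.1⁻¹), ?_⟩
      left_inv := fun s => Subtype.ext (Prod.ext (by simp) (by simp))
      right_inv := fun s => Subtype.ext (Prod.ext (by simp) (by simp)) }
  · have := bR_conj s.2 s.1.2⁻¹
    have e1 : s.1.2⁻¹ * (s.1.2 * J * s.1.2⁻¹) * s.1.2⁻¹⁻¹ = J := by group
    have e2 : s.1.2⁻¹ * (s.1.1 * J * s.1.1⁻¹) * s.1.2⁻¹⁻¹ =
        s.1.2⁻¹ * s.1.1 * J * (s.1.2⁻¹ * s.1.1)⁻¹ := by group
    rw [e1, e2] at this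
    exact this
  · have := bR_conj s.2 s.1.1⁻¹
    have e1 : s.1.1⁻¹ * (s.1.1 * J * s.1.1⁻¹) * s.1.1⁻¹⁻¹ = J := by group
    have e2 : s.1.1⁻¹ * (s.1.2 * J * s.1.2⁻¹) * s.1.1⁻¹⁻¹ =
        s.1.1⁻¹ * s.1.2 * J * (s.1.1⁻¹ * s.1.2)⁻¹ := by group
    rw [e1, e2] at this
    exact this

theorem b_step3 (J : G) (T : G → G → Prop) :
    Nat.card {xy : G × G // T (xy.1 * J * xy.1⁻¹) (xy.2 * J * xy.2⁻¹)} =
      Nat.card (Subgroup.centralizer ({J} : Set G)) * Nat.card (Subgroup.centralizer ({J} : Set G)) *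
        Nat.card {vw : G × G // IsConj J vw.1 ∧ IsConj J vw.2 ∧ T vw.1 vw.2} := by
  refine b_card_fibres (fun s : {xy : G × G // T (xy.1 * J * xy.1⁻¹) (xy.2 * J * xy.2⁻¹)} =>
    (⟨(s.1.1 * J * s.1.1⁻¹, s.1.2 * J * s.1.2⁻¹),
      isConj_iff.2 ⟨s.1.1, rfl⟩, isConj_iff.2 ⟨s.1.2, rfl⟩, s.2⟩ :
      {vw : G × G // IsConj J vw.1 ∧ IsConj J vw.2 ∧ T vw.1 vw.2})) _ ?_
  intro vw
  have e1 := b_card_fibre J vw.1.1 vw.2.1
  have e2 := b_card_fibre J vw.1.2 vw.2.2.1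
  suffices hs : Nat.card {a : {xy : G × G // T (xy.1 * J * xy.1⁻¹) (xy.2 * J * xy.2⁻¹)} //
      (⟨(a.1.1 * J * a.1.1⁻¹, a.1.2 * J * a.1.2⁻¹),
        isConj_iff.2 ⟨a.1.1, rfl⟩, isConj_iff.2 ⟨a.1.2, rfl⟩, a.2⟩ :
        {vw : G × G // IsConj J vw.1 ∧ IsConj J vw.2 ∧ T vw.1 vw.2}) = vw} =
      Nat.card ({x : G // x * J * x⁻¹ = vw.1.1} × {y : G // y * J * y⁻¹ = vw.1.2}) by
    rw [hs, Nat.card_prod, e1, e2]
  refine Nat.card_congr
    { toFun := fun s => (⟨s.1.1.1, congrArg (fun t => t.1.1) s.2⟩,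
        ⟨s.1.1.2, congrArg (fun t => t.1.2) s.2⟩)
      invFun := fun z => ⟨⟨(z.1.1, z.2.1), ?_⟩, ?_⟩
      left_inv := fun s => rfl
      right_inv := fun z => rfl }
  · show T (z.1.1 * J * z.1.1⁻¹) (z.2.1 * J * z.2.1⁻¹)
    rw [z.1.2, z.2.2]
    exact vw.2.2.2
  · apply Subtype.ext
    exact Prod.ext z.1.2 z.2.2

theorem cntY_eq_mul (J u : G) (m : ℕ) (hm : u ^ m = J) :
    cntY J u = Nat.card (Subgroup.centralizer ({J} : Set G)) *
      Nat.card {vw : G × G // IsConj J vw.1 ∧ IsConj J vw.2 ∧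
        ∃ π : G, IsPPart 2 (vw.1 * vw.2) π ∧ IsConj π u ∧ π ^ m = J} := by
  have h1 := b_step1 J u m hm
  rw [b_step2, b_step3 J (fun v w => bR u m J v w)] at h1
  have hc : 0 < Nat.card (Subgroup.centralizer ({J} : Set G)) := Nat.card_pos
  have h2 : Nat.card (Subgroup.centralizer ({J} : Set G)) *
      (Nat.card (Subgroup.centralizer ({J} : Set G)) *
        Nat.card {vw : G × G // IsConj J vw.1 ∧ IsConj J vw.2 ∧ bR u m J vw.1 vw.2}) =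
      Nat.card (Subgroup.centralizer ({J} : Set G)) * cntY J u := by
    rw [← h1]
    ring
  exact (Nat.eq_of_mul_eq_mul_left hc h2).symm

end B

end Cfsg.Agent.Lib.Helper8.DihB
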