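import Mathlib
import Cfsg.Prelude.Def_Blocks
import Cfsg.Agent.Lib.Helper8.DihB0
import Cfsg.Agent.Lib.Helper1.DihB_GRP
import Cfsg.Agent.Lib.Helper6.PPrimeCore

/-!
# S4482, PK-CNT-C: the retraction of `C_G(y)` onto the dihedral-like Sylow 2-subgroup
-/

set_option autoImplicit false

namespace Cfsg.Agent.Lib.Helper8.DihB

open Cfsg

universe u

section C
variable {G : Type u} [Group G] [Finite G] {P : Sylow 2 G} {σ : G} {N : ℕ}

theorem DL.exists_retraction (h : DL P σ N) {y : G} (hy : y ∈ Subgroup.zpowers σ) (hy1 : y ≠ 1)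
    (hy2 : y * y = 1) :
    ∃ r : ↥(Subgroup.centralizer ({y} : Set G)) →* ↥(Subgroup.centralizer ({y} : Set G)),
      (∀ x, r (r x) = r x) ∧ Odd (Nat.card r.ker) ∧
        ∀ x, r x = x ↔ (x : G) ∈ (P : Subgroup G) := by
  classical
  haveI : Fact (Nat.Prime 2) := ⟨Nat.prime_two⟩
  obtain ⟨hOn, hOc⟩ := Cfsg.Agent.Lib.Helper6.pPrimeCore_mem_set
    (G := ↥(Subgroup.centralizer ({y} : Set G))) 2
  obtain ⟨k, hk⟩ := h.npc hy hy1
  have hPH : (P : Subgroup G) ≤ Subgroup.centralizer ({y} : Set G) :=
    h.le_centralizer_of_sq hy hy2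
  set O : Subgroup ↥(Subgroup.centralizer ({y} : Set G)) :=
    pPrimeCore 2 ↥(Subgroup.centralizer ({y} : Set G)) with hO
  haveI : O.Normal := hOn
  set P' : Subgroup ↥(Subgroup.centralizer ({y} : Set G)) :=
    (P : Subgroup G).subgroupOf (Subgroup.centralizer ({y} : Set G)) with hP'
  have hOodd : Odd (Nat.card O) := Nat.Coprime.odd_of_right hOc
  have hcard2 : Nat.card P' = 2 ^ k := by
    have h1 := h.card_inf_centralizer hy hy1
    rw [inf_of_le_left hPH] at h1
    have h2 : Nat.card O * O.index = Nat.card ↥(Subgroup.centralizer ({y} : Set G)) :=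
      Subgroup.card_mul_index O
    rw [hk] at h2
    have h3 : (Nat.card ↥(Subgroup.centralizer ({y} : Set G))).factorization 2 = k := by
      rw [← h2, Nat.factorization_mul Nat.card_pos.ne' (by positivity)]
      have h4 : (Nat.card O).factorization 2 = 0 := by
        apply Nat.factorization_eq_zero_of_not_dvd
        intro hd
        exact (Nat.not_even_iff_odd.2 hOodd) (even_iff_two_dvd.2 hd)
      simp [h4, Nat.Prime.factorization_pow Nat.prime_two]
    rw [Nat.card_congr (Subgroup.subgroupOfEquivOfLe hPH).toEquiv, h1, h3]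
  have hP'pg : IsPGroup 2 P' := IsPGroup.of_card hcard2
  have hinf : P' ⊓ O = ⊥ := Cfsg.Agent.Lib.Helper6.isPGroup_inf_coprime_eq_bot hOc hP'pg
  set φ : P' →* ↥(Subgroup.centralizer ({y} : Set G)) ⧸ O :=
    (QuotientGroup.mk' O).comp P'.subtype with hφ
  have hφinj : Function.Injective φ := by
    intro a b hab
    have h1 : (a : ↥(Subgroup.centralizer ({y} : Set G)))⁻¹ * b ∈ O := by
      rw [← QuotientGroup.eq]
      exact hab
    have h2 : (a : ↥(Subgroup.centralizer ({y} : Set G)))⁻¹ * b ∈ P' :=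
      Subgroup.mul_mem _ (Subgroup.inv_mem _ a.2) b.2
    have h3 : (a : ↥(Subgroup.centralizer ({y} : Set G)))⁻¹ * b ∈ P' ⊓ O := ⟨h2, h1⟩
    rw [hinf, Subgroup.mem_bot] at h3
    apply Subtype.ext
    exact inv_mul_eq_one.1 h3
  have hφbij : Function.Bijective φ := by
    apply Function.Injective.bijective_of_nat_card_le hφinj
    rw [hcard2, ← hk]
    exact le_of_eq rfl
  set e : P' ≃* ↥(Subgroup.centralizer ({y} : Set G)) ⧸ O := MulEquiv.ofBijective φ hφbij with he
  set r : ↥(Subgroup.centralizer ({y} : Set G)) →* ↥(Subgroup.centralizer ({y} : Set G)) :=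
    P'.subtype.comp (e.symm.toMonoidHom.comp (QuotientGroup.mk' O)) with hr
  have hrP : ∀ x, r x ∈ P' := fun x => (e.symm (QuotientGroup.mk' O x)).2
  have hfix : ∀ x, x ∈ P' → r x = x := by
    intro x hx
    have h1 : QuotientGroup.mk' O x = e ⟨x, hx⟩ := rfl
    show ((e.symm (QuotientGroup.mk' O x) : P') : ↥(Subgroup.centralizer ({y} : Set G))) = x
    rw [h1, MulEquiv.symm_apply_apply]
  refine ⟨r, fun x => hfix _ (hrP x), ?_, fun x => ⟨fun hx => ?_, fun hx => ?_⟩⟩
  · have hker : r.ker = O := by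
      ext x
      rw [MonoidHom.mem_ker]
      constructor
      · intro hx
        have h1 : e.symm (QuotientGroup.mk' O x) = 1 := by
          apply Subtype.ext
          exact hx
        have h2 : QuotientGroup.mk' O x = 1 := by
          have := congrArg e h1
          rwa [MulEquiv.apply_symm_apply, map_one] at this
        exact (QuotientGroup.eq_one_iff x).1 h2
      · intro hx
        have h2 : QuotientGroup.mk' O x = 1 := (QuotientGroup.eq_one_iff x).2 hx
        show ((e.symm (QuotientGroup.mk' O x) : P') : ↥(Subgroup.centralizer ({y} : Set G))) = 1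
        rw [h2, map_one]
        rfl
    rw [hker]
    exact hOodd
  · have := hrP x
    rw [hx] at this
    exact Subgroup.mem_subgroupOf.1 this
  · exact hfix x (Subgroup.mem_subgroupOf.2 hx)

end C

end Cfsg.Agent.Lib.Helper8.DihB
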