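import Mathlib
import Cfsg.Prelude.Def_Blocks
import Cfsg.Agent.Lib.Helper8.DihB0
import Cfsg.Agent.Lib.Helper8.DihC1
import Cfsg.Agent.Lib.Helper1.DihB_GRP
import Cfsg.Agent.Lib.Helper8.CharPPart
import Cfsg.Agent.Lib.Lead.DihB_CNTA
import Cfsg.Agent.Lib.Helper8.DihCB
import Cfsg.Agent.Lib.Helper8.DihCC

/-!
# S4482, PK-CNT-D: transfer of the counts to `C_G(J)` and assembly
-/

set_option autoImplicit false

namespace Cfsg.Agent.Lib.Helper8.DihB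

open Cfsg
open Cfsg.Agent.Lib.Helper8 Cfsg.Agent.Lib.Helper1

universe u

section RDfacts
variable {H : Type u} [Group H] [Finite H] {r : H →* H} {σ : H} {N : ℕ}

theorem RD.d_isPGroup (h : RD r σ N) : IsPGroup 2 r.range := by
  obtain ⟨k, hk⟩ := h.two
  apply IsPGroup.of_card (n := k + 1)
  rw [h.card, hk, pow_succ]
  ring

theorem RD.d_map_eq_one_of_odd (h : RD r σ N) {x : H} (hx : ¬ 2 ∣ orderOf x) : r x = 1 := by
  obtain ⟨j, hj⟩ := h.d_isPGroup ⟨r x, x, rfl⟩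
  have h1 : (r x) ^ (2 ^ j) = 1 := by
    have := congrArg Subtype.val hj
    simpa using this
  have h2 : orderOf (r x) ∣ 2 ^ j := orderOf_dvd_of_pow_eq_one h1
  have h3 : orderOf (r x) ∣ orderOf x := orderOf_map_dvd r x
  have hco : Nat.Coprime (2 ^ j) (orderOf x) :=
    Nat.Coprime.pow_left j ((Nat.Prime.coprime_iff_not_dvd Nat.prime_two).2 hx)
  have : orderOf (r x) = 1 := Nat.eq_one_of_dvd_coprimes hco h2 h3
  exact orderOf_eq_one_iff.1 this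

theorem RD.d_odd_of_map_eq_one (h : RD r σ N) {x : H} (hx : r x = 1) : ¬ 2 ∣ orderOf x := by
  have hmem : x ∈ r.ker := hx
  have h1 : orderOf x ∣ Nat.card r.ker := by
    have := orderOf_dvd_natCard (⟨x, hmem⟩ : r.ker)
    rwa [Subgroup.orderOf_mk] at this
  intro h2
  exact (Nat.not_even_iff_odd.2 h.odd) (even_iff_two_dvd.2 (h2.trans h1))

end RDfacts

section D
variable {G : Type u} [Group G] [Finite G] {P : Sylow 2 G} {σ : G} {N : ℕ}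

theorem d_exists_conj_mem_sylow (P : Sylow 2 G) {y : G} (hy : ∃ k : ℕ, orderOf y = 2 ^ k) :
    ∃ g : G, g * y * g⁻¹ ∈ (P : Subgroup G) := by
  haveI : Fact (Nat.Prime 2) := ⟨Nat.prime_two⟩
  have hpg : IsPGroup 2 (Subgroup.zpowers y) := by
    obtain ⟨k, hk⟩ := hy
    apply IsPGroup.of_card (n := k)
    rw [Nat.card_zpowers, hk]
  obtain ⟨Q, hQ⟩ := hpg.exists_le_sylow
  obtain ⟨g, hg⟩ := MulAction.exists_smul_eq G Q P
  refine ⟨g, ?_⟩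
  rw [← hg, Sylow.coe_subgroup_smul]
  have := Subgroup.smul_mem_pointwise_smul y (MulAut.conj g) (Q : Subgroup G)
    (hQ (Subgroup.mem_zpowers y))
  simpa [MulAut.smul_def] using this

theorem DL.d_two (h : DL P σ N) : ∃ k : ℕ, N = 2 ^ k := by
  obtain ⟨k, hk⟩ := (IsPGroup.iff_orderOf.1 P.2) ⟨σ, h.mem⟩
  refine ⟨k, ?_⟩
  rw [← h.ord, ← hk, Subgroup.orderOf_mk]

/-- two elements of `P` outside `⟨σ⟩` differ by an element of `⟨σ⟩`. -/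
theorem DL.d_mul_inv_mem (h : DL P σ N) {τ x : G} (hτ : τ ∈ (P : Subgroup G))
    (hτA : τ ∉ Subgroup.zpowers σ) (hx : x ∈ (P : Subgroup G)) (hxA : x ∉ Subgroup.zpowers σ) :
    x * τ⁻¹ ∈ Subgroup.zpowers σ := by
  have hAP : Subgroup.zpowers σ ≤ (P : Subgroup G) := by
    rw [Subgroup.zpowers_le]
    exact h.mem
  have hidx : ((Subgroup.zpowers σ).subgroupOf (P : Subgroup G)).index = 2 := by
    have h1 := Subgroup.card_mul_index ((Subgroup.zpowers σ).subgroupOf (P : Subgroup G))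
    have h2 : Nat.card ↥((Subgroup.zpowers σ).subgroupOf (P : Subgroup G)) = N := by
      rw [Nat.card_congr (Subgroup.subgroupOfEquivOfLe hAP).toEquiv, Nat.card_zpowers, h.ord]
    rw [h2, h.card] at h1
    have hN : 0 < N := by have := h.four; omega
    nlinarith
  have := Subgroup.mul_mem_iff_of_index_two hidx (a := (⟨x, hx⟩ : ↥(P : Subgroup G)))
    (b := (⟨τ, hτ⟩ : ↥(P : Subgroup G))⁻¹)
  have hx' : (⟨x, hx⟩ : ↥(P : Subgroup G)) ∉ (Subgroup.zpowers σ).subgroupOf (P : Subgroup G) := by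
    rw [Subgroup.mem_subgroupOf]
    exact hxA
  have hτ' : (⟨τ, hτ⟩ : ↥(P : Subgroup G))⁻¹ ∉
      (Subgroup.zpowers σ).subgroupOf (P : Subgroup G) := by
    rw [Subgroup.mem_subgroupOf]
    intro hc
    apply hτA
    have := Subgroup.inv_mem _ hc
    simpa using this
  have h3 := this.2 ⟨fun hc => absurd hc hx', fun hc => absurd hc hτ'⟩
  rw [Subgroup.mem_subgroupOf] at h3
  simpa using h3

/-- elements of `P` outside `⟨σ⟩` are `P`-conjugate to `τ` or to `σ τ`. -/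
theorem DL.d_class_cases (h : DL P σ N) {τ x : G} (hτ : τ ∈ (P : Subgroup G))
    (hτA : τ ∉ Subgroup.zpowers σ) (hx : x ∈ (P : Subgroup G)) (hxA : x ∉ Subgroup.zpowers σ) :
    ∃ g ∈ (P : Subgroup G), x = g * τ * g⁻¹ ∨ x = g * (σ * τ) * g⁻¹ := by
  obtain ⟨k, hk⟩ := Subgroup.mem_zpowers_iff.1 (h.d_mul_inv_mem hτ hτA hx hxA)
  have hxk : x = σ ^ k * τ := by rw [hk]; group
  have hconj : ∀ j : ℤ, τ * (σ ^ j)⁻¹ = σ ^ j * τ := by
    intro j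
    have h1 := h.conj_eq_inv hτ hτA (Subgroup.inv_mem _ (Subgroup.zpow_mem_zpowers σ j))
    rw [inv_inv] at h1
    calc τ * (σ ^ j)⁻¹ = (τ * (σ ^ j)⁻¹ * τ⁻¹) * τ := by group
      _ = σ ^ j * τ := by rw [h1]
  have hσP : ∀ j : ℤ, σ ^ j ∈ (P : Subgroup G) := fun j => Subgroup.zpow_mem _ h.mem j
  rcases Int.even_or_odd' k with ⟨j, hj | hj⟩
  · refine ⟨σ ^ j, hσP j, Or.inl ?_⟩
    rw [hxk, mul_assoc, hconj, ← mul_assoc, ← zpow_add, hj]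
    congr 2
    ring
  · refine ⟨σ ^ j, hσP j, Or.inr ?_⟩
    rw [hxk, mul_assoc, mul_assoc, hconj, ← mul_assoc, ← mul_assoc, ← zpow_add_one, ← zpow_add, hj]
    congr 2
    ring


/-- the central involution. -/
theorem DL.d_J_facts (h : DL P σ N) {h₂ : ℕ} (hN : N = 2 * h₂) :
    σ ^ h₂ ∈ Subgroup.zpowers σ ∧ σ ^ h₂ * σ ^ h₂ = 1 ∧ σ ^ h₂ ≠ 1 ∧ orderOf (σ ^ h₂) = 2 := by
  have h4 := h.four
  have h1 : σ ^ h₂ * σ ^ h₂ = 1 := by
    rw [← pow_add, ← two_mul, ← hN, ← h.ord]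
    exact pow_orderOf_eq_one σ
  have h2 : σ ^ h₂ ≠ 1 := by
    apply pow_ne_one_of_lt_orderOf
    · omega
    · rw [h.ord]
      omega
  refine ⟨Subgroup.pow_mem _ (Subgroup.mem_zpowers σ) _, h1, h2, ?_⟩
  exact orderOf_eq_prime (by rw [pow_two]; exact h1) h2

theorem d_sq_of_isConj {J v : G} (hJ : J * J = 1) (h : IsConj J v) : v * v = 1 := by
  obtain ⟨c, rfl⟩ := isConj_iff.1 h
  calc c * J * c⁻¹ * (c * J * c⁻¹) = c * (J * J) * c⁻¹ := by group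
    _ = 1 := by rw [hJ, mul_one, mul_inv_cancel]

theorem d_ne_one_of_isConj {J v : G} (hJ : J ≠ 1) (h : IsConj J v) : v ≠ 1 := by
  obtain ⟨c, rfl⟩ := isConj_iff.1 h
  intro hc
  apply hJ
  calc J = c⁻¹ * (c * J * c⁻¹) * c := by group
    _ = 1 := by rw [hc, mul_one, inv_mul_cancel]

/-- all involutions of `G` are conjugate to the central involution of `P`. -/
theorem DL.d_isConj_of_inv (h : DL P σ N) {h₂ : ℕ} (hN : N = 2 * h₂) {τ : G}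
    (hτ : τ ∈ (P : Subgroup G)) (hτA : τ ∉ Subgroup.zpowers σ)
    (hc1 : IsConj (σ ^ h₂) τ) (hc2 : IsConj (σ ^ h₂) (σ * τ)) {v : G} (hv : v * v = 1)
    (hv1 : v ≠ 1) : IsConj (σ ^ h₂) v := by
  obtain ⟨hJA, hJ2, hJ1, hJo⟩ := h.d_J_facts hN
  have hov : orderOf v = 2 := orderOf_eq_prime (by rw [pow_two]; exact hv) hv1
  obtain ⟨g, hg⟩ := d_exists_conj_mem_sylow P (y := v) ⟨1, by rw [hov, pow_one]⟩
  have hvp : IsConj v (g * v * g⁻¹) := isConj_iff.2 ⟨g, rfl⟩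
  suffices IsConj (σ ^ h₂) (g * v * g⁻¹) from this.trans hvp.symm
  by_cases hpA : g * v * g⁻¹ ∈ Subgroup.zpowers σ
  · have hop : orderOf (g * v * g⁻¹) = orderOf (σ ^ h₂) := by
      rw [orderOf_conj', hov, hJo]
    obtain ⟨k, hk⟩ := Subgroup.mem_zpowers_iff.1 (grp_mem_zpowers_of_orderOf_eq hJA hpA hop)
    have hne : g * v * g⁻¹ ≠ 1 := d_ne_one_of_isConj hv1 hvp
    rcases Int.even_or_odd' k with ⟨j, hj | hj⟩
    · exfalso
      apply hne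
      rw [← hk, hj, zpow_mul, zpow_two, hJ2, one_zpow]
    · have : g * v * g⁻¹ = σ ^ h₂ := by
        rw [← hk, hj, zpow_add, zpow_mul, zpow_two, hJ2, one_zpow, one_mul, zpow_one]
      rw [this]
  · obtain ⟨g', -, h' | h'⟩ := h.d_class_cases hτ hτA hg hpA
    · rw [h']
      exact hc1.trans (isConj_iff.2 ⟨g', rfl⟩)
    · rw [h']
      exact hc2.trans (isConj_iff.2 ⟨g', rfl⟩)

theorem d_inv_conj_left {v w : G} (hv : v * v = 1) (hw : w * w = 1) :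
    v * (v * w) * v⁻¹ = (v * w)⁻¹ := by
  have hvi : v⁻¹ = v := inv_eq_of_mul_eq_one_right hv
  have hwi : w⁻¹ = w := inv_eq_of_mul_eq_one_right hw
  rw [mul_inv_rev, ← mul_assoc, hv, one_mul, hwi]

theorem d_inv_conj_right {v w : G} (hv : v * v = 1) (hw : w * w = 1) :
    w * (v * w) * w⁻¹ = (v * w)⁻¹ := by
  have hvi : v⁻¹ = v := inv_eq_of_mul_eq_one_right hv
  have hwi : w⁻¹ = w := inv_eq_of_mul_eq_one_right hw
  rw [mul_inv_rev, mul_assoc, mul_assoc, mul_inv_cancel, mul_one, hwi, hvi]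

theorem d_conj_of_zpow {v x π : G} (hvx : v * x * v⁻¹ = x⁻¹) {m : ℤ} (hπ : π = x ^ m) :
    v * π * v⁻¹ = π⁻¹ := by
  rw [hπ, ← conj_zpow, hvx, inv_zpow]

/-- the context of the count. -/
structure Ctx (P : Sylow 2 G) (σ : G) (N h₂ : ℕ) (τ : G)
    (r : ↥(Subgroup.centralizer ({σ ^ h₂} : Set G)) →*
      ↥(Subgroup.centralizer ({σ ^ h₂} : Set G))) : Prop where
  dl : DL P σ N
  hN : N = 2 * h₂
  hev : Even h₂
  hτ : τ ∈ (P : Subgroup G)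
  hτA : τ ∉ Subgroup.zpowers σ
  hc1 : IsConj (σ ^ h₂) τ
  hc2 : IsConj (σ ^ h₂) (σ * τ)
  idem : ∀ x, r (r x) = r x
  odd : Odd (Nat.card r.ker)
  fix : ∀ x, r x = x ↔ (x : G) ∈ (P : Subgroup G)

variable {h₂ : ℕ} {τ : G}
  {r : ↥(Subgroup.centralizer ({σ ^ h₂} : Set G)) →* ↥(Subgroup.centralizer ({σ ^ h₂} : Set G))}

theorem Ctx.le (c : Ctx P σ N h₂ τ r) :
    (P : Subgroup G) ≤ Subgroup.centralizer ({σ ^ h₂} : Set G) := by
  obtain ⟨hJA, hJ2, hJ1, hJo⟩ := c.dl.d_J_facts c.hN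
  exact c.dl.le_centralizer_of_sq hJA hJ2

theorem Ctx.r_mem (c : Ctx P σ N h₂ τ r) (x : ↥(Subgroup.centralizer ({σ ^ h₂} : Set G))) :
    ((r x : ↥(Subgroup.centralizer ({σ ^ h₂} : Set G))) : G) ∈ (P : Subgroup G) :=
  (c.fix (r x)).1 (c.idem x)

theorem Ctx.rd (c : Ctx P σ N h₂ τ r) :
    RD r (⟨σ, c.le c.dl.mem⟩ : ↥(Subgroup.centralizer ({σ ^ h₂} : Set G))) N := by
  have hle := c.le
  refine ⟨c.idem, c.odd, (c.fix _).2 c.dl.mem, ?_, c.dl.four, c.dl.d_two, ?_, ?_⟩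
  · rw [Subgroup.orderOf_mk]
    exact c.dl.ord
  · have hrange : r.range = (P : Subgroup G).subgroupOf (Subgroup.centralizer ({σ ^ h₂} : Set G)) := by
      ext x
      rw [Subgroup.mem_subgroupOf, ← c.fix x]
      constructor
      · rintro ⟨y, rfl⟩
        exact c.idem y
      · intro hx
        exact ⟨x, hx⟩
    rw [hrange, Nat.card_congr (Subgroup.subgroupOfEquivOfLe hle).toEquiv]
    exact c.dl.card
  · intro x hx hxA
    have hxP : (x : G) ∈ (P : Subgroup G) := (c.fix x).1 hx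
    have hxA' : (x : G) ∉ Subgroup.zpowers σ := by
      intro hmem
      apply hxA
      obtain ⟨k, hk⟩ := Subgroup.mem_zpowers_iff.1 hmem
      rw [Subgroup.mem_zpowers_iff]
      refine ⟨k, Subtype.ext ?_⟩
      rw [Subgroup.coe_zpow]
      exact hk
    obtain ⟨h1, h2⟩ := c.dl.inv (x : G) hxP hxA'
    exact ⟨Subtype.ext h1, Subtype.ext h2⟩


theorem Ctx.center_iff (c : Ctx P σ N h₂ τ r) (v w : G) :
    (IsConj (σ ^ h₂) v ∧ IsConj (σ ^ h₂) w ∧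
      ∃ π : G, IsPPart 2 (v * w) π ∧ IsConj π (σ ^ h₂) ∧ π ^ 1 = σ ^ h₂) ↔
    ∃ (hv : v ∈ Subgroup.centralizer ({σ ^ h₂} : Set G))
      (hw : w ∈ Subgroup.centralizer ({σ ^ h₂} : Set G)),
      (⟨v, hv⟩ : ↥(Subgroup.centralizer ({σ ^ h₂} : Set G))) * ⟨v, hv⟩ = 1 ∧
      (⟨w, hw⟩ : ↥(Subgroup.centralizer ({σ ^ h₂} : Set G))) * ⟨w, hw⟩ = 1 ∧
      (⟨v, hv⟩ : ↥(Subgroup.centralizer ({σ ^ h₂} : Set G))) ≠ 1 ∧
      (⟨w, hw⟩ : ↥(Subgroup.centralizer ({σ ^ h₂} : Set G))) ≠ 1 ∧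
      r ⟨v, hv⟩ * r ⟨w, hw⟩ =
        (⟨σ, c.le c.dl.mem⟩ : ↥(Subgroup.centralizer ({σ ^ h₂} : Set G))) ^ h₂ := by
  obtain ⟨hJA, hJ2, hJ1, hJo⟩ := c.dl.d_J_facts c.hN
  have hJi : (σ ^ h₂)⁻¹ = σ ^ h₂ := inv_eq_of_mul_eq_one_right hJ2
  have hrd := c.rd
  have hJH : σ ^ h₂ ∈ Subgroup.centralizer ({σ ^ h₂} : Set G) :=
    Subgroup.mem_centralizer_singleton_iff.2 rfl
  have hJ' : (⟨σ, c.le c.dl.mem⟩ : ↥(Subgroup.centralizer ({σ ^ h₂} : Set G))) ^ h₂ =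
      ⟨σ ^ h₂, hJH⟩ := Subtype.ext (by rw [Subgroup.coe_pow])
  have hrJ : r ⟨σ ^ h₂, hJH⟩ = ⟨σ ^ h₂, hJH⟩ :=
    (c.fix _).2 (Subgroup.pow_mem _ c.dl.mem _)
  constructor
  · rintro ⟨hv, hw, π, hπ, -, hπJ⟩
    rw [pow_one] at hπJ
    subst hπJ
    have hv2 := d_sq_of_isConj hJ2 hv
    have hw2 := d_sq_of_isConj hJ2 hw
    have hv1 := d_ne_one_of_isConj hJ1 hv
    have hw1 := d_ne_one_of_isConj hJ1 hw
    obtain ⟨m, hm⟩ := IsPPart.exists_zpow Nat.prime_two hπ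
    have hvJ : v * σ ^ h₂ * v⁻¹ = (σ ^ h₂)⁻¹ := d_conj_of_zpow (d_inv_conj_left hv2 hw2) hm
    have hwJ : w * σ ^ h₂ * w⁻¹ = (σ ^ h₂)⁻¹ := d_conj_of_zpow (d_inv_conj_right hv2 hw2) hm
    rw [hJi] at hvJ hwJ
    have hvH : v ∈ Subgroup.centralizer ({σ ^ h₂} : Set G) := by
      rw [Subgroup.mem_centralizer_singleton_iff]
      calc v * σ ^ h₂ = (v * σ ^ h₂ * v⁻¹) * v := by group
        _ = σ ^ h₂ * v := by rw [hvJ]
    have hwH : w ∈ Subgroup.centralizer ({σ ^ h₂} : Set G) := by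
      rw [Subgroup.mem_centralizer_singleton_iff]
      calc w * σ ^ h₂ = (w * σ ^ h₂ * w⁻¹) * w := by group
        _ = σ ^ h₂ * w := by rw [hwJ]
    refine ⟨hvH, hwH, Subtype.ext hv2, Subtype.ext hw2, fun hc => hv1 (congrArg Subtype.val hc),
      fun hc => hw1 (congrArg Subtype.val hc), ?_⟩
    obtain ⟨y, hy, hcomm, -, hyodd⟩ := hπ
    have hyH : y ∈ Subgroup.centralizer ({σ ^ h₂} : Set G) := by
      rw [Subgroup.mem_centralizer_singleton_iff]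
      exact hcomm.eq.symm
    have hry : r ⟨y, hyH⟩ = 1 := by
      apply hrd.d_map_eq_one_of_odd
      rw [Subgroup.orderOf_mk]
      exact hyodd
    have heq : (⟨σ ^ h₂, hJH⟩ : ↥(Subgroup.centralizer ({σ ^ h₂} : Set G))) * ⟨y, hyH⟩ =
        ⟨v, hvH⟩ * ⟨w, hwH⟩ := Subtype.ext hy
    have := congrArg r heq
    rw [map_mul, map_mul, hry, mul_one, hrJ] at this
    rw [← this, hJ']
  · rintro ⟨hvH, hwH, hv2, hw2, hv1, hw1, hr⟩
    have hv2' : v * v = 1 := congrArg Subtype.val hv2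
    have hw2' : w * w = 1 := congrArg Subtype.val hw2
    have hv1' : v ≠ 1 := fun hc => hv1 (Subtype.ext hc)
    have hw1' : w ≠ 1 := fun hc => hw1 (Subtype.ext hc)
    refine ⟨c.dl.d_isConj_of_inv c.hN c.hτ c.hτA c.hc1 c.hc2 hv2' hv1',
      c.dl.d_isConj_of_inv c.hN c.hτ c.hτA c.hc1 c.hc2 hw2' hw1', σ ^ h₂, ?_, IsConj.refl _,
      pow_one _⟩
    have hyH : σ ^ h₂ * v * w ∈ Subgroup.centralizer ({σ ^ h₂} : Set G) :=
      Subgroup.mul_mem _ (Subgroup.mul_mem _ hJH hvH) hwH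
    have hry : r ⟨σ ^ h₂ * v * w, hyH⟩ = 1 := by
      have : (⟨σ ^ h₂ * v * w, hyH⟩ : ↥(Subgroup.centralizer ({σ ^ h₂} : Set G))) =
          ⟨σ ^ h₂, hJH⟩ * (⟨v, hvH⟩ * ⟨w, hwH⟩) := Subtype.ext (by simp [mul_assoc])
      rw [this, map_mul, map_mul, hr, hrJ, hJ']
      exact Subtype.ext hJ2
    have hodd := hrd.d_odd_of_map_eq_one hry
    rw [Subgroup.orderOf_mk] at hodd
    refine ⟨σ ^ h₂ * v * w, ?_, ?_, ⟨1, by rw [hJo, pow_one]⟩, hodd⟩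
    · rw [← mul_assoc, ← mul_assoc, hJ2, one_mul]
    · exact (Subgroup.mem_centralizer_singleton_iff.1 hyH).symm


theorem Ctx.gen_iff (c : Ctx P σ N h₂ τ r) (v w : G) :
    (IsConj (σ ^ h₂) v ∧ IsConj (σ ^ h₂) w ∧
      ∃ π : G, IsPPart 2 (v * w) π ∧ IsConj π σ ∧ π ^ h₂ = σ ^ h₂) ↔
    ∃ (hv : v ∈ Subgroup.centralizer ({σ ^ h₂} : Set G))
      (hw : w ∈ Subgroup.centralizer ({σ ^ h₂} : Set G)),
      (⟨v, hv⟩ : ↥(Subgroup.centralizer ({σ ^ h₂} : Set G))) * ⟨v, hv⟩ = 1 ∧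
      (⟨w, hw⟩ : ↥(Subgroup.centralizer ({σ ^ h₂} : Set G))) * ⟨w, hw⟩ = 1 ∧
      (⟨v, hv⟩ : ↥(Subgroup.centralizer ({σ ^ h₂} : Set G))) ≠ 1 ∧
      (⟨w, hw⟩ : ↥(Subgroup.centralizer ({σ ^ h₂} : Set G))) ≠ 1 ∧
      (r ⟨v, hv⟩ * r ⟨w, hw⟩ =
        (⟨σ, c.le c.dl.mem⟩ : ↥(Subgroup.centralizer ({σ ^ h₂} : Set G))) ∨
       r ⟨v, hv⟩ * r ⟨w, hw⟩ =
        (⟨σ, c.le c.dl.mem⟩ : ↥(Subgroup.centralizer ({σ ^ h₂} : Set G)))⁻¹) := by
  obtain ⟨hJA, hJ2, hJ1, hJo⟩ := c.dl.d_J_facts c.hN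
  have hJi : (σ ^ h₂)⁻¹ = σ ^ h₂ := inv_eq_of_mul_eq_one_right hJ2
  have hrd := c.rd
  have hJH : σ ^ h₂ ∈ Subgroup.centralizer ({σ ^ h₂} : Set G) :=
    Subgroup.mem_centralizer_singleton_iff.2 rfl
  have hσH : σ ∈ Subgroup.centralizer ({σ ^ h₂} : Set G) := c.le c.dl.mem
  constructor
  · rintro ⟨hv, hw, π, hπ, hπσ, hπJ⟩
    have hv2 := d_sq_of_isConj hJ2 hv
    have hw2 := d_sq_of_isConj hJ2 hw
    have hv1 := d_ne_one_of_isConj hJ1 hv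
    have hw1 := d_ne_one_of_isConj hJ1 hw
    obtain ⟨m, hm⟩ := IsPPart.exists_zpow Nat.prime_two hπ
    have hvπ : v * π * v⁻¹ = π⁻¹ := d_conj_of_zpow (d_inv_conj_left hv2 hw2) hm
    have hwπ : w * π * w⁻¹ = π⁻¹ := d_conj_of_zpow (d_inv_conj_right hv2 hw2) hm
    have hvJ : v * σ ^ h₂ * v⁻¹ = σ ^ h₂ := by
      rw [← hπJ, ← conj_pow, hvπ, inv_pow, hπJ, hJi]
    have hwJ : w * σ ^ h₂ * w⁻¹ = σ ^ h₂ := by
      rw [← hπJ, ← conj_pow, hwπ, inv_pow, hπJ, hJi]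
    have hvH : v ∈ Subgroup.centralizer ({σ ^ h₂} : Set G) := by
      rw [Subgroup.mem_centralizer_singleton_iff]
      calc v * σ ^ h₂ = (v * σ ^ h₂ * v⁻¹) * v := by group
        _ = σ ^ h₂ * v := by rw [hvJ]
    have hwH : w ∈ Subgroup.centralizer ({σ ^ h₂} : Set G) := by
      rw [Subgroup.mem_centralizer_singleton_iff]
      calc w * σ ^ h₂ = (w * σ ^ h₂ * w⁻¹) * w := by group
        _ = σ ^ h₂ * w := by rw [hwJ]
    refine ⟨hvH, hwH, Subtype.ext hv2, Subtype.ext hw2, fun hc => hv1 (congrArg Subtype.val hc),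
      fun hc => hw1 (congrArg Subtype.val hc), ?_⟩
    have hπH : π ∈ Subgroup.centralizer ({σ ^ h₂} : Set G) := by
      rw [Subgroup.mem_centralizer_singleton_iff, ← hπJ]
      exact ((Commute.refl π).pow_right h₂).eq
    obtain ⟨y, hy, hcomm, hπo, hyodd⟩ := hπ
    have hyH : y ∈ Subgroup.centralizer ({σ ^ h₂} : Set G) := by
      rw [Subgroup.mem_centralizer_singleton_iff, ← hπJ]
      exact (hcomm.pow_left h₂).eq.symm
    have hry : r ⟨y, hyH⟩ = 1 := by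
      apply hrd.d_map_eq_one_of_odd
      rw [Subgroup.orderOf_mk]
      exact hyodd
    have heq : (⟨π, hπH⟩ : ↥(Subgroup.centralizer ({σ ^ h₂} : Set G))) * ⟨y, hyH⟩ =
        ⟨v, hvH⟩ * ⟨w, hwH⟩ := Subtype.ext hy
    have hrπ := congrArg r heq
    rw [map_mul, map_mul, hry, mul_one] at hrπ
    rw [← hrπ]
    -- conjugate `π` into `P`
    obtain ⟨g, hg⟩ := hrd.conj_r (v := (⟨π, hπH⟩ : ↥(Subgroup.centralizer ({σ ^ h₂} : Set G))))
      (by rw [Subgroup.orderOf_mk]; exact hπo)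
    have hpP : ((r ⟨π, hπH⟩ : ↥(Subgroup.centralizer ({σ ^ h₂} : Set G))) : G) ∈
        (P : Subgroup G) := c.r_mem _
    have hpval : ((r ⟨π, hπH⟩ : ↥(Subgroup.centralizer ({σ ^ h₂} : Set G))) : G) =
        (g : G) * π * (g : G)⁻¹ := by
      rw [← hg]
      simp
    set p : G := ((r ⟨π, hπH⟩ : ↥(Subgroup.centralizer ({σ ^ h₂} : Set G))) : G) with hp
    have hσp : IsConj σ p := by
      rw [hpval]
      exact hπσ.symm.trans (isConj_iff.2 ⟨(g : G), rfl⟩)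
    obtain ⟨c₀, hc₀⟩ := isConj_iff.1 hσp
    have hpo : orderOf p = N := by
      rw [← hc₀, orderOf_conj', c.dl.ord]
    have hp2 : p * p ≠ 1 := by
      intro hc
      have : orderOf p ∣ 2 := orderOf_dvd_of_pow_eq_one (by rw [pow_two]; exact hc)
      have := Nat.le_of_dvd (by norm_num) this
      have := c.dl.four
      omega
    have hpA : p ∈ Subgroup.zpowers σ := c.dl.mem_zpowers_of_sq_ne hpP hp2
    obtain ⟨x, hxP, hx⟩ := c.dl.fusion c.dl.d_two (Subgroup.mem_zpowers σ) c₀ (by rw [hc₀]; exact hpA)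
    rw [hc₀] at hx
    by_cases hxA : x ∈ Subgroup.zpowers σ
    · left
      apply Subtype.ext
      show p = σ
      rw [← hx]
      obtain ⟨k, hk⟩ := Subgroup.mem_zpowers_iff.1 hxA
      rw [← hk]
      have : σ ^ k * σ = σ * σ ^ k := ((Commute.refl σ).zpow_left k).eq
      rw [this, mul_assoc, mul_inv_cancel, mul_one]
    · right
      apply Subtype.ext
      show p = σ⁻¹
      rw [← hx]
      exact (c.dl.inv x hxP hxA).2
  · rintro ⟨hvH, hwH, hv2, hw2, hv1, hw1, hr⟩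
    have hv2' : v * v = 1 := congrArg Subtype.val hv2
    have hw2' : w * w = 1 := congrArg Subtype.val hw2
    have hv1' : v ≠ 1 := fun hc => hv1 (Subtype.ext hc)
    have hw1' : w ≠ 1 := fun hc => hw1 (Subtype.ext hc)
    obtain ⟨π, hπ⟩ := exists_isPPart Nat.prime_two (v * w)
    refine ⟨c.dl.d_isConj_of_inv c.hN c.hτ c.hτA c.hc1 c.hc2 hv2' hv1',
      c.dl.d_isConj_of_inv c.hN c.hτ c.hτA c.hc1 c.hc2 hw2' hw1', π, hπ, ?_⟩
    obtain ⟨m, hm⟩ := IsPPart.exists_zpow Nat.prime_two hπ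
    have hπH : π ∈ Subgroup.centralizer ({σ ^ h₂} : Set G) := by
      rw [hm]
      exact Subgroup.zpow_mem _ (Subgroup.mul_mem _ hvH hwH) m
    obtain ⟨y, hy, hcomm, hπo, hyodd⟩ := hπ
    have hyH : y ∈ Subgroup.centralizer ({σ ^ h₂} : Set G) := by
      have : y = π⁻¹ * (v * w) := by rw [← hy]; group
      rw [this]
      exact Subgroup.mul_mem _ (Subgroup.inv_mem _ hπH) (Subgroup.mul_mem _ hvH hwH)
    have hry : r ⟨y, hyH⟩ = 1 := by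
      apply hrd.d_map_eq_one_of_odd
      rw [Subgroup.orderOf_mk]
      exact hyodd
    have heq : (⟨π, hπH⟩ : ↥(Subgroup.centralizer ({σ ^ h₂} : Set G))) * ⟨y, hyH⟩ =
        ⟨v, hvH⟩ * ⟨w, hwH⟩ := Subtype.ext hy
    have hrπ := congrArg r heq
    rw [map_mul, map_mul, hry, mul_one] at hrπ
    obtain ⟨g, hg⟩ := hrd.conj_r (v := (⟨π, hπH⟩ : ↥(Subgroup.centralizer ({σ ^ h₂} : Set G))))
      (by rw [Subgroup.orderOf_mk]; exact hπo)
    have hgJ : (g : G) * σ ^ h₂ = σ ^ h₂ * (g : G) :=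
      Subgroup.mem_centralizer_singleton_iff.1 g.2
    have hpval : ((r ⟨π, hπH⟩ : ↥(Subgroup.centralizer ({σ ^ h₂} : Set G))) : G) =
        (g : G) * π * (g : G)⁻¹ := by
      rw [← hg]
      simp
    rw [hrπ] at hpval
    have hτσ : IsConj σ⁻¹ σ := by
      rw [isConj_iff]
      refine ⟨τ, ?_⟩
      have := c.dl.conj_eq_inv c.hτ c.hτA (Subgroup.inv_mem _ (Subgroup.mem_zpowers σ))
      rw [inv_inv] at this
      exact this
    have hfin : ∀ s : G, (g : G) * π * (g : G)⁻¹ = s → s ^ h₂ = σ ^ h₂ → π ^ h₂ = σ ^ h₂ := by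
      intro s hs hsJ
      have h1 : (g : G) * π ^ h₂ * (g : G)⁻¹ = σ ^ h₂ := by rw [← conj_pow, hs, hsJ]
      calc π ^ h₂ = (g : G)⁻¹ * ((g : G) * π ^ h₂ * (g : G)⁻¹) * (g : G) := by group
        _ = (g : G)⁻¹ * (σ ^ h₂ * (g : G)) := by rw [h1, mul_assoc]
        _ = σ ^ h₂ := by rw [← hgJ, ← mul_assoc, inv_mul_cancel, one_mul]
    rcases hr with hr | hr
    · rw [hr] at hpval
      have hpval' : (g : G) * π * (g : G)⁻¹ = σ := hpval.symm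
      exact ⟨isConj_iff.2 ⟨(g : G), hpval'⟩, hfin σ hpval' rfl⟩
    · rw [hr] at hpval
      have hpval' : (g : G) * π * (g : G)⁻¹ = σ⁻¹ := by
        rw [← hpval]
        rfl
      refine ⟨(isConj_iff.2 ⟨(g : G), hpval'⟩).trans hτσ, hfin σ⁻¹ hpval' ?_⟩
      rw [inv_pow, hJi]


omit [Finite G] in
/-- transfer of a count of pairs to a subgroup. -/
theorem d_card_pairs_transfer (H : Subgroup G) (A : G → G → Prop) (B : ↥H → ↥H → Prop)
    (hAB : ∀ v w, A v w ↔ ∃ (hv : v ∈ H) (hw : w ∈ H), B ⟨v, hv⟩ ⟨w, hw⟩) :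
    Nat.card {vw : G × G // A vw.1 vw.2} = Nat.card {vw : ↥H × ↥H // B vw.1 vw.2} := by
  refine Nat.card_congr
    { toFun := fun x => ⟨(⟨x.1.1, by obtain ⟨hv, _, _⟩ := (hAB _ _).1 x.2; exact hv⟩,
          ⟨x.1.2, by obtain ⟨_, hw, _⟩ := (hAB _ _).1 x.2; exact hw⟩),
        by obtain ⟨_, _, hb⟩ := (hAB _ _).1 x.2; exact hb⟩
      invFun := fun x => ⟨(x.1.1.1, x.1.2.1), (hAB _ _).2 ⟨x.1.1.2, x.1.2.2, x.2⟩⟩
      left_inv := fun x => rfl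
      right_inv := fun x => rfl }

omit [Finite G] in
/-- the centralizer of `t` inside `C_G(J)`. -/
theorem d_card_centralizer_subtype (J t : G) (ht : t ∈ Subgroup.centralizer ({J} : Set G)) :
    Nat.card ↥(Subgroup.centralizer
      ({(⟨t, ht⟩ : ↥(Subgroup.centralizer ({J} : Set G)))} :
        Set ↥(Subgroup.centralizer ({J} : Set G)))) =
      Nat.card ↥(Subgroup.centralizer ({J, t} : Set G)) := by
  refine Nat.card_congr
    { toFun := fun x => ⟨x.1.1, ?_⟩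
      invFun := fun y => ⟨⟨y.1, ?_⟩, ?_⟩
      left_inv := fun x => rfl
      right_inv := fun y => rfl }
  · rw [Subgroup.mem_centralizer_iff]
    intro z hz
    rcases hz with rfl | hz
    · exact (Subgroup.mem_centralizer_singleton_iff.1 x.1.2).symm
    · rw [Set.mem_singleton_iff] at hz
      subst hz
      have := Subgroup.mem_centralizer_singleton_iff.1 x.2
      exact (congrArg Subtype.val this).symm
  · rw [Subgroup.mem_centralizer_singleton_iff]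
    exact ((Subgroup.mem_centralizer_iff.1 y.2) J (Set.mem_insert _ _)).symm
  · rw [Subgroup.mem_centralizer_singleton_iff]
    apply Subtype.ext
    exact ((Subgroup.mem_centralizer_iff.1 y.2) t (Set.mem_insert_of_mem _ rfl)).symm


theorem Ctx.tau_facts (c : Ctx P σ N h₂ τ r) :
    r ⟨τ, c.le c.hτ⟩ = ⟨τ, c.le c.hτ⟩ ∧
    (⟨τ, c.le c.hτ⟩ : ↥(Subgroup.centralizer ({σ ^ h₂} : Set G))) ∉
      Subgroup.zpowers (⟨σ, c.le c.dl.mem⟩ : ↥(Subgroup.centralizer ({σ ^ h₂} : Set G))) := by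
  refine ⟨(c.fix _).2 c.hτ, ?_⟩
  intro hmem
  apply c.hτA
  obtain ⟨k, hk⟩ := Subgroup.mem_zpowers_iff.1 hmem
  rw [Subgroup.mem_zpowers_iff]
  refine ⟨k, ?_⟩
  have := congrArg Subtype.val hk
  rw [Subgroup.coe_zpow] at this
  exact this

theorem Ctx.cntY_center (c : Ctx P σ N h₂ τ r) :
    (cntY (σ ^ h₂) (σ ^ h₂) : ℚ) =
      2 * (Nat.card (Subgroup.centralizer ({σ ^ h₂} : Set G)) : ℚ) ^ 3 *
        (1 / (Nat.card (Subgroup.centralizer ({σ ^ h₂, τ} : Set G)) : ℚ) ^ 2 +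
          1 / (Nat.card (Subgroup.centralizer ({σ ^ h₂, σ * τ} : Set G)) : ℚ) ^ 2) / N := by
  obtain ⟨hτr, hτA'⟩ := c.tau_facts
  have h1 := cntY_eq_mul (σ ^ h₂) (σ ^ h₂) 1 (pow_one _)
  have ht := d_card_pairs_transfer (Subgroup.centralizer ({σ ^ h₂} : Set G))
    (fun v w => IsConj (σ ^ h₂) v ∧ IsConj (σ ^ h₂) w ∧
      ∃ π : G, IsPPart 2 (v * w) π ∧ IsConj π (σ ^ h₂) ∧ π ^ 1 = σ ^ h₂)
    (fun v w => v * v = 1 ∧ w * w = 1 ∧ v ≠ 1 ∧ w ≠ 1 ∧ r v * r w =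
      (⟨σ, c.le c.dl.mem⟩ : ↥(Subgroup.centralizer ({σ ^ h₂} : Set G))) ^ h₂) c.center_iff
  rw [ht] at h1
  have h2 := c.rd.count_center c.hN c.hev hτr hτA'
  rw [d_card_centralizer_subtype] at h2
  have h3 : (⟨σ, c.le c.dl.mem⟩ : ↥(Subgroup.centralizer ({σ ^ h₂} : Set G))) * ⟨τ, c.le c.hτ⟩ =
      ⟨σ * τ, Subgroup.mul_mem _ (c.le c.dl.mem) (c.le c.hτ)⟩ := rfl
  rw [h3, d_card_centralizer_subtype] at h2
  rw [h1, Nat.cast_mul, h2]
  ring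

theorem Ctx.cntY_gen (c : Ctx P σ N h₂ τ r) :
    (cntY (σ ^ h₂) σ : ℚ) =
      8 * (Nat.card (Subgroup.centralizer ({σ ^ h₂} : Set G)) : ℚ) ^ 3 /
        ((Nat.card (Subgroup.centralizer ({σ ^ h₂, τ} : Set G)) : ℚ) *
          (Nat.card (Subgroup.centralizer ({σ ^ h₂, σ * τ} : Set G)) : ℚ) * N) := by
  obtain ⟨hτr, hτA'⟩ := c.tau_facts
  have h1 := cntY_eq_mul (σ ^ h₂) σ h₂ rfl
  have ht := d_card_pairs_transfer (Subgroup.centralizer ({σ ^ h₂} : Set G))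
    (fun v w => IsConj (σ ^ h₂) v ∧ IsConj (σ ^ h₂) w ∧
      ∃ π : G, IsPPart 2 (v * w) π ∧ IsConj π σ ∧ π ^ h₂ = σ ^ h₂)
    (fun v w => v * v = 1 ∧ w * w = 1 ∧ v ≠ 1 ∧ w ≠ 1 ∧ (r v * r w =
      (⟨σ, c.le c.dl.mem⟩ : ↥(Subgroup.centralizer ({σ ^ h₂} : Set G))) ∨ r v * r w =
      (⟨σ, c.le c.dl.mem⟩ : ↥(Subgroup.centralizer ({σ ^ h₂} : Set G)))⁻¹)) c.gen_iff
  rw [ht] at h1
  have h2 := c.rd.count_gen c.hN c.hev hτr hτA'
  rw [d_card_centralizer_subtype] at h2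
  have h3 : (⟨σ, c.le c.dl.mem⟩ : ↥(Subgroup.centralizer ({σ ^ h₂} : Set G))) * ⟨τ, c.le c.hτ⟩ =
      ⟨σ * τ, Subgroup.mul_mem _ (c.le c.dl.mem) (c.le c.hτ)⟩ := rfl
  rw [h3, d_card_centralizer_subtype] at h2
  rw [h1, Nat.cast_mul, h2]
  ring

theorem DL.cntY_center (h : DL P σ N) {h₂ : ℕ} (hN : N = 2 * h₂) (hev : Even h₂) {τ : G}
    (hτ : τ ∈ (P : Subgroup G)) (hτA : τ ∉ Subgroup.zpowers σ)
    (hc1 : IsConj (σ ^ h₂) τ) (hc2 : IsConj (σ ^ h₂) (σ * τ)) :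
    (cntY (σ ^ h₂) (σ ^ h₂) : ℚ) =
      2 * (Nat.card (Subgroup.centralizer ({σ ^ h₂} : Set G)) : ℚ) ^ 3 *
        (1 / (Nat.card (Subgroup.centralizer ({σ ^ h₂, τ} : Set G)) : ℚ) ^ 2 +
          1 / (Nat.card (Subgroup.centralizer ({σ ^ h₂, σ * τ} : Set G)) : ℚ) ^ 2) / N := by
  obtain ⟨hJA, hJ2, hJ1, hJo⟩ := h.d_J_facts hN
  obtain ⟨r, hr1, hr2, hr3⟩ := h.exists_retraction hJA hJ1 hJ2
  exact Ctx.cntY_center ⟨h, hN, hev, hτ, hτA, hc1, hc2, hr1, hr2, hr3⟩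

theorem DL.cntY_gen (h : DL P σ N) {h₂ : ℕ} (hN : N = 2 * h₂) (hev : Even h₂) {τ : G}
    (hτ : τ ∈ (P : Subgroup G)) (hτA : τ ∉ Subgroup.zpowers σ)
    (hc1 : IsConj (σ ^ h₂) τ) (hc2 : IsConj (σ ^ h₂) (σ * τ)) :
    (cntY (σ ^ h₂) σ : ℚ) =
      8 * (Nat.card (Subgroup.centralizer ({σ ^ h₂} : Set G)) : ℚ) ^ 3 /
        ((Nat.card (Subgroup.centralizer ({σ ^ h₂, τ} : Set G)) : ℚ) *
          (Nat.card (Subgroup.centralizer ({σ ^ h₂, σ * τ} : Set G)) : ℚ) * N) := by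
  obtain ⟨hJA, hJ2, hJ1, hJo⟩ := h.d_J_facts hN
  obtain ⟨r, hr1, hr2, hr3⟩ := h.exists_retraction hJA hJ1 hJ2
  exact Ctx.cntY_gen ⟨h, hN, hev, hτ, hτA, hc1, hc2, hr1, hr2, hr3⟩

end D

end Cfsg.Agent.Lib.Helper8.DihB
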