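import Mathlib
import Cfsg.Prelude.Def_Blocks
import Cfsg.Prelude.Def_BlockRank
import Cfsg.Agent.Lib.Helper8.DihB5
import Cfsg.Agent.Lib.Helper8.DihC1
import Cfsg.Agent.Lib.Helper8.DihCD
import Cfsg.Agent.Lib.Helper1.DihB_GRP

/-!
# Brauer's order formula for dihedral Sylow 2-subgroups with one class of involutions (S4482)
-/

set_option autoImplicit false

namespace Cfsg.Agent.Lib.Helper8.DihB

open Cfsg Subgroup
open scoped ComplexConjugate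
open Cfsg.Agent.Lib.Helper1 Cfsg.Agent.Lib.Helper4 Cfsg.Agent.Lib.Helper7.BL

universe u

/-- the final algebra. -/
theorem e_algebra (g x₁ x₂ x₃ c a b Nn δ₁ δ₂ δ₃ : ℂ)
    (hg : g ≠ 0) (hx₁ : x₁ ≠ 0) (hxd : x₁ + δ₁ ≠ 0) (ha : a ≠ 0)
    (hb : b ≠ 0) (hNn : Nn ≠ 0)
    (rel1 : 1 + δ₁ / x₁ - δ₂ / x₂ - δ₃ / x₃ - 8 * δ₁ / (x₁ + δ₁) =
      g⁻¹ * (2 * Nn) * (2 * c ^ 3 * (1 / a ^ 2 + 1 / b ^ 2) / Nn))
    (rel2 : 1 + δ₁ / x₁ + δ₂ / x₂ + δ₃ / x₃ = g⁻¹ * Nn * (8 * c ^ 3 / (a * b * Nn))) :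
    g * (x₁ - δ₁) ^ 2 = 2 * x₁ * (x₁ + δ₁) * c ^ 3 * (1 / a + 1 / b) ^ 2 := by
  have hsum : 2 + 2 * δ₁ / x₁ - 8 * δ₁ / (x₁ + δ₁) =
      g⁻¹ * (4 * c ^ 3 * (1 / a + 1 / b) ^ 2) := by
    have e1 : 2 + 2 * δ₁ / x₁ - 8 * δ₁ / (x₁ + δ₁) =
        (1 + δ₁ / x₁ - δ₂ / x₂ - δ₃ / x₃ - 8 * δ₁ / (x₁ + δ₁)) +
        (1 + δ₁ / x₁ + δ₂ / x₂ + δ₃ / x₃) := by ring
    rw [e1, rel1, rel2]
    field_simp
    ring
  have h2 : 2 + 2 * δ₁ / x₁ - 8 * δ₁ / (x₁ + δ₁) = 2 * (x₁ - δ₁) ^ 2 / (x₁ * (x₁ + δ₁)) := by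
    field_simp
    ring
  rw [h2] at hsum
  field_simp at hsum
  field_simp
  linear_combination hsum / 2


/-- sum of the values `ζ^k + ζ^(-k)`, `0 < k < N/2`. -/
theorem e_sum_roots {ζ : ℂ} {N h₂ : ℕ} (hζ : IsPrimitiveRoot ζ N) (hN : N = 2 * h₂) (hh : 2 ≤ h₂) :
    ∑ j : Fin (h₂ - 1), (ζ ^ ((j : ℕ) + 1) + (ζ ^ ((j : ℕ) + 1))⁻¹) = 0 := by
  obtain ⟨m, rfl⟩ : ∃ m, h₂ = m + 1 := ⟨h₂ - 1, by omega⟩
  have hN1 : 1 < N := by omega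
  have h0 : ∑ k ∈ Finset.range N, ζ ^ k = 0 := hζ.geom_sum_eq_zero hN1
  have hhalf : ζ ^ (m + 1) = -1 := by
    have h1 : (ζ ^ (m + 1)) ^ 2 = 1 := by
      rw [← pow_mul, mul_comm, ← hN]
      exact hζ.pow_eq_one
    have h2 : ζ ^ (m + 1) ≠ 1 := by
      intro hc
      have := hζ.dvd_of_pow_eq_one _ hc
      have := Nat.le_of_dvd (by omega) this
      omega
    have h3 : (ζ ^ (m + 1) - 1) * (ζ ^ (m + 1) + 1) = 0 := by linear_combination h1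
    rcases mul_eq_zero.1 h3 with h4 | h4
    · exact absurd (sub_eq_zero.1 h4) h2
    · exact eq_neg_of_add_eq_zero_left h4
  rw [hN, sum_range_two_mul] at h0
  rw [pow_zero, hhalf] at h0
  have h5 : ∑ j ∈ Finset.range m, (ζ ^ (j + 1) + ζ ^ (2 * (m + 1) - (j + 1))) = 0 := by
    linear_combination h0
  rw [Nat.add_sub_cancel, Fin.sum_univ_eq_sum_range (fun j => ζ ^ (j + 1) + (ζ ^ (j + 1))⁻¹) m]
  rw [← h5]
  refine Finset.sum_congr rfl fun j hj => ?_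
  congr 1
  have hj' : j < m := Finset.mem_range.1 hj
  have h6 : ζ ^ (j + 1) * ζ ^ (2 * (m + 1) - (j + 1)) = 1 := by
    rw [← pow_add, Nat.add_sub_cancel' (by omega), ← hN]
    exact hζ.pow_eq_one
  exact (eq_inv_of_mul_eq_one_right h6).symm ▸ rfl


theorem e_sum_alt (k : ℕ) : ∑ j : Fin (2 * k + 1), (-1 : ℂ) ^ ((j : ℕ) + 1) = -1 := by
  rw [Fin.sum_univ_eq_sum_range (fun j => (-1 : ℂ) ^ (j + 1)) (2 * k + 1)]
  induction k with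
  | zero => simp
  | succ k ih =>
    have : 2 * (k + 1) + 1 = (2 * k + 1) + 1 + 1 := by ring
    rw [this, Finset.sum_range_succ, Finset.sum_range_succ, ih]
    have e1 : (-1 : ℂ) ^ (2 * k + 1 + 1) = 1 := by
      rw [show 2 * k + 1 + 1 = 2 * (k + 1) by ring, pow_mul]
      norm_num
    have e2 : (-1 : ℂ) ^ (2 * k + 1 + 1 + 1) = -1 := by
      rw [pow_succ, e1]
      norm_num
    rw [e1, e2]
    ring

theorem e_sum_alt' {m : ℕ} (hm : Odd m) : ∑ j : Fin m, (-1 : ℂ) ^ ((j : ℕ) + 1) = -1 := by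
  obtain ⟨k, rfl⟩ := hm
  exact e_sum_alt k

section
variable {G : Type u} [Group G] [Fintype G] {M : Ideal AlgInt}

open Classical in
theorem e_sum_split [Fintype (IrrCharacter G)] {m : ℕ} {χ₁ χ₂ χ₃ : IrrCharacter G}
    {χ' : Fin m → IrrCharacter G} (hinj : Function.Injective χ')
    (h1t : (χ₁ : G → ℂ) ≠ fun _ => 1) (h2t : (χ₂ : G → ℂ) ≠ fun _ => 1)
    (h3t : (χ₃ : G → ℂ) ≠ fun _ => 1) (h12 : χ₁ ≠ χ₂) (h13 : χ₁ ≠ χ₃) (h23 : χ₂ ≠ χ₃)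
    (hχ' : ∀ j, χ' j ≠ χ₁ ∧ χ' j ≠ χ₂ ∧ χ' j ≠ χ₃ ∧ (χ' j : G → ℂ) ≠ fun _ => 1)
    (hmem : principalBlock M G = {χ : IrrCharacter G | (χ : G → ℂ) = (fun _ => 1) ∨ χ = χ₁ ∨
      χ = χ₂ ∨ χ = χ₃ ∨ ∃ j, χ = χ' j})
    (F : IrrCharacter G → ℂ) :
    ∑ χ : IrrCharacter G, (if χ ∈ principalBlock M G then (1 : ℂ) else 0) * F χ =
      F (trivIrr G) + F χ₁ + F χ₂ + F χ₃ + ∑ j, F (χ' j) := by
  have h0 : ∀ χ : IrrCharacter G, (if χ ∈ principalBlock M G then (1 : ℂ) else 0) * F χ =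
      if χ ∈ principalBlock M G then F χ else 0 := by
    intro χ
    split_ifs <;> simp
  simp only [h0]
  rw [← Finset.sum_filter]
  have hfil : Finset.univ.filter (fun χ : IrrCharacter G => χ ∈ principalBlock M G) =
      insert (trivIrr G) (insert χ₁ (insert χ₂ (insert χ₃ (Finset.univ.image χ')))) := by
    ext χ
    simp only [Finset.mem_filter, Finset.mem_univ, true_and, Finset.mem_insert, Finset.mem_image]
    rw [hmem, Set.mem_ofPred_eq, ← eq_trivIrr_iff]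
    constructor
    · rintro (h | h | h | h | ⟨j, h⟩)
      · exact Or.inl h
      · exact Or.inr (Or.inl h)
      · exact Or.inr (Or.inr (Or.inl h))
      · exact Or.inr (Or.inr (Or.inr (Or.inl h)))
      · exact Or.inr (Or.inr (Or.inr (Or.inr ⟨j, h.symm⟩)))
    · rintro (h | h | h | h | ⟨j, h⟩)
      · exact Or.inl h
      · exact Or.inr (Or.inl h)
      · exact Or.inr (Or.inr (Or.inl h))
      · exact Or.inr (Or.inr (Or.inr (Or.inl h)))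
      · exact Or.inr (Or.inr (Or.inr (Or.inr ⟨j, h.symm⟩)))
  have t1 : χ₁ ≠ trivIrr G := fun hc => h1t ((eq_trivIrr_iff _).1 hc)
  have t2 : χ₂ ≠ trivIrr G := fun hc => h2t ((eq_trivIrr_iff _).1 hc)
  have t3 : χ₃ ≠ trivIrr G := fun hc => h3t ((eq_trivIrr_iff _).1 hc)
  have t' : ∀ j, χ' j ≠ trivIrr G := fun j hc => (hχ' j).2.2.2 ((eq_trivIrr_iff _).1 hc)
  rw [hfil, Finset.sum_insert, Finset.sum_insert, Finset.sum_insert, Finset.sum_insert,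
    Finset.sum_image (fun a _ b _ hab => hinj hab)]
  · ring
  · simp only [Finset.mem_image, Finset.mem_univ, true_and, not_exists]
    exact fun j hc => (hχ' j).2.2.1 hc
  · simp only [Finset.mem_insert, Finset.mem_image, Finset.mem_univ, true_and, not_or, not_exists]
    exact ⟨h23, fun j hc => (hχ' j).2.1 hc⟩
  · simp only [Finset.mem_insert, Finset.mem_image, Finset.mem_univ, true_and, not_or, not_exists]
    exact ⟨h12, h13, fun j hc => (hχ' j).1 hc⟩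
  · simp only [Finset.mem_insert, Finset.mem_image, Finset.mem_univ, true_and, not_or, not_exists]
    exact ⟨fun hc => t1 hc.symm, fun hc => t2 hc.symm, fun hc => t3 hc.symm,
      fun j hc => t' j hc⟩

end


section main
variable {G : Type u} [Group G] [Fintype G] {M : Ideal AlgInt} {P : Sylow 2 G} {σ : G}
  {ζ : ℂ} {om : ℤ → (↥(Subgroup.zpowers σ) →* ℂˣ)}

theorem e_int_sq {δ : ℤ} (h : δ = 1 ∨ δ = -1) : ((δ : ℤ) : ℂ) ^ 2 = 1 := by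
  rcases h with rfl | rfl <;> norm_num

theorem e_int_conj (δ : ℤ) : conj ((δ : ℤ) : ℂ) = δ := by
  rw [← Complex.ofReal_intCast, Complex.conj_ofReal]

open Classical in
/-- **Brauer's order formula.** -/
theorem DH.order_formula (hM : IsPModular 2 M) (n : ℕ) (hn : 3 ≤ n) (h : DH P σ (2 ^ (n - 1)))
    (ho : OM σ (2 ^ (n - 1)) ζ om) {τ : G} (hτ : τ ∈ (P : Subgroup G))
    (hτA : τ ∉ Subgroup.zpowers σ)
    (hc1 : IsConj (σ ^ (2 ^ (n - 2))) τ) (hc2 : IsConj (σ ^ (2 ^ (n - 2))) (σ * τ))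
    (χ₁ : IrrCharacter G) (hχ₁ : χ₁ ∈ principalBlock M G) (h1 : (χ₁ : G → ℂ) ≠ fun _ => 1)
    (δ₁ : ℤ) (hδ₁ : δ₁ = 1 ∨ δ₁ = -1)
    (hval : ∀ l : ℕ, 0 < l → l < 2 ^ (n - 1) → (χ₁ : G → ℂ) (σ ^ l) = δ₁) :
    (charDegree (χ₁ : G → ℂ) : ℤ) ≠ δ₁ ∧
    (Nat.card G : ℚ) * ((charDegree (χ₁ : G → ℂ) : ℚ) - δ₁) ^ 2 =
      2 * (charDegree (χ₁ : G → ℂ) : ℚ) * ((charDegree (χ₁ : G → ℂ) : ℚ) + δ₁) *
        (Nat.card (Subgroup.centralizer ({σ ^ (2 ^ (n - 2))} : Set G)) : ℚ) ^ 3 *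
        (1 / (Nat.card (Subgroup.centralizer ({σ ^ (2 ^ (n - 2)), τ} : Set G)) : ℚ) +
          1 / (Nat.card (Subgroup.centralizer ({σ ^ (2 ^ (n - 2)), σ * τ} : Set G)) : ℚ)) ^ 2 := by
  haveI : Fintype (IrrCharacter G) := Fintype.ofFinite _
  have hN : 2 ^ (n - 1) = 2 * 2 ^ (n - 2) := by
    rw [← pow_succ']
    congr 1
    omega
  have hev : Even (2 ^ (n - 2)) := (Nat.even_pow.2 ⟨even_two, by omega⟩)
  have hh2 : 2 ≤ 2 ^ (n - 2) := by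
    calc 2 = 2 ^ 1 := by norm_num
      _ ≤ 2 ^ (n - 2) := Nat.pow_le_pow_right (by norm_num) (by omega)
  have hlt : 2 ^ (n - 2) < 2 ^ (n - 1) := by omega
  obtain ⟨-, χa, χ₂, χ₃, χ', δa, δ₂, δ₃, hδa, hδ₂, hδ₃, hinj, h1t, h2t, h3t, h12, h13, h23, hχ',
    hmem, hW, hX⟩ := h.main hM n hn ho
  have hhalf : ζ ^ (2 ^ (n - 2)) = -1 := ho.pow_half hN (by positivity)
  -- identification of `χ₁`
  have hcases : χ₁ ∈ principalBlock M G := hχ₁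
  rw [hmem] at hcases
  have hid : χ₁ = χa := by
    rcases hcases with hc | hc | hc | hc | ⟨j, hc⟩
    · exact absurd hc h1
    · exact hc
    · exfalso
      have e1 := (hW 1 (by norm_num) (by omega)).2.1
      have e2 := (hW 2 (by norm_num) (by omega)).2.1
      have v1 := hval 1 (by norm_num) (by omega)
      have v2 := hval 2 (by norm_num) (by omega)
      rw [hc, e1] at v1
      rw [hc, e2] at v2
      have : ((δ₂ : ℤ) : ℂ) = 0 := by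
        have ea : ((-1 : ℂ)) ^ (1 + 1) = 1 := by norm_num
        have eb : ((-1 : ℂ)) ^ (2 + 1) = -1 := by norm_num
        rw [ea] at v1
        rw [eb] at v2
        linear_combination (v1 - v2) / 2
      rcases hδ₂ with rfl | rfl <;> norm_num at this
    · exfalso
      have e1 := (hW 1 (by norm_num) (by omega)).2.2.1
      have e2 := (hW 2 (by norm_num) (by omega)).2.2.1
      have v1 := hval 1 (by norm_num) (by omega)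
      have v2 := hval 2 (by norm_num) (by omega)
      rw [hc, e1] at v1
      rw [hc, e2] at v2
      have : ((δ₃ : ℤ) : ℂ) = 0 := by
        have ea : ((-1 : ℂ)) ^ (1 + 1) = 1 := by norm_num
        have eb : ((-1 : ℂ)) ^ (2 + 1) = -1 := by norm_num
        rw [ea] at v1
        rw [eb] at v2
        linear_combination (v1 - v2) / 2
      rcases hδ₃ with rfl | rfl <;> norm_num at this
    · exfalso
      have e := (hW (2 ^ (n - 2)) (by positivity) hlt).2.2.2 j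
      have v := hval (2 ^ (n - 2)) (by positivity) hlt
      rw [hc, e] at v
      have hz : ζ ^ (((j : ℕ) + 1) * 2 ^ (n - 2)) = (-1) ^ ((j : ℕ) + 1) := by
        rw [mul_comm, pow_mul, hhalf]
      rw [hz] at v
      have hpm : ((-1 : ℂ) ^ ((j : ℕ) + 1))⁻¹ = (-1) ^ ((j : ℕ) + 1) := by
        rcases neg_one_pow_eq_or ℂ ((j : ℕ) + 1) with h' | h' <;> rw [h'] <;> norm_num
      have hm : ((-1 : ℂ) ^ ((j : ℕ) + 1)) ^ 2 = 1 := by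
        rcases neg_one_pow_eq_or ℂ ((j : ℕ) + 1) with h' | h' <;> rw [h'] <;> norm_num
      rw [hpm] at v
      have h4 : ((δ₁ : ℤ) : ℂ) ^ 2 = 4 := by
        rw [← v]
        have := e_int_sq hδa
        linear_combination 4 * ((-1 : ℂ) ^ ((j : ℕ) + 1)) ^ 2 * this + 4 * hm
      rw [e_int_sq hδ₁] at h4
      norm_num at h4
  subst hid
  have hδeq : δ₁ = δa := by
    have e1 := (hW 1 (by norm_num) (by omega)).1
    have v1 := hval 1 (by norm_num) (by omega)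
    rw [e1] at v1
    exact_mod_cast v1.symm
  subst hδeq
  -- degrees
  obtain ⟨hx₁, hx₁pos⟩ := irr_apply_one_eq_charDegree χ₁.2
  obtain ⟨hx₂, hx₂pos⟩ := irr_apply_one_eq_charDegree χ₂.2
  obtain ⟨hx₃, hx₃pos⟩ := irr_apply_one_eq_charDegree χ₃.2
  have hodd1 : Odd (orderOf (1 : G)) := by rw [orderOf_one]; exact odd_one
  have hδsq := e_int_sq hδ₁
  have hxj : ∀ j, (χ' j : G → ℂ) 1 = (charDegree (χ₁ : G → ℂ) : ℂ) + δ₁ := by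
    intro j
    have := (hX 1 hodd1 j).2
    rw [hx₁] at this
    linear_combination (-(δ₁ : ℂ)) * this - ((χ' j : G → ℂ) 1 - (charDegree (χ₁ : G → ℂ) : ℂ)) * hδsq
  have hj0 : 0 < 2 ^ (n - 2) - 1 := by omega
  have hxd : (charDegree (χ₁ : G → ℂ) : ℂ) + δ₁ ≠ 0 := by
    rw [← hxj ⟨0, hj0⟩, (irr_apply_one_eq_charDegree (χ' ⟨0, hj0⟩).2).1]
    exact Nat.cast_ne_zero.2 (irr_apply_one_eq_charDegree (χ' ⟨0, hj0⟩).2).2.ne'
  -- values at `J`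
  have hJ1 : (χ₁ : G → ℂ) (σ ^ 2 ^ (n - 2)) = δ₁ := hval _ (by positivity) hlt
  have hpowJ : ((-1 : ℂ)) ^ (2 ^ (n - 2) + 1) = -1 := by
    rw [pow_succ, hev.neg_one_pow]
    norm_num
  have hJ2 : (χ₂ : G → ℂ) (σ ^ 2 ^ (n - 2)) = -δ₂ := by
    rw [(hW _ (by positivity) hlt).2.1, hpowJ]
    ring
  have hJ3 : (χ₃ : G → ℂ) (σ ^ 2 ^ (n - 2)) = -δ₃ := by
    rw [(hW _ (by positivity) hlt).2.2.1, hpowJ]
    ring
  have hJj : ∀ j : Fin (2 ^ (n - 2) - 1), (χ' j : G → ℂ) (σ ^ 2 ^ (n - 2)) =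
      2 * δ₁ * (-1) ^ ((j : ℕ) + 1) := by
    intro j
    rw [(hW _ (by positivity) hlt).2.2.2 j]
    have hz : ζ ^ (((j : ℕ) + 1) * 2 ^ (n - 2)) = (-1) ^ ((j : ℕ) + 1) := by
      rw [mul_comm, pow_mul, hhalf]
    have hpm : ((-1 : ℂ) ^ ((j : ℕ) + 1))⁻¹ = (-1) ^ ((j : ℕ) + 1) := by
      rcases neg_one_pow_eq_or ℂ ((j : ℕ) + 1) with h' | h' <;> rw [h'] <;> norm_num
    rw [hz, hpm]
    ring
  -- values at `σ`
  have hS1 : (χ₁ : G → ℂ) σ = δ₁ := by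
    have := hval 1 (by norm_num) (by omega)
    rwa [pow_one] at this
  have hS2 : (χ₂ : G → ℂ) σ = δ₂ := by
    have := (hW 1 (by norm_num) (by omega)).2.1
    rw [pow_one] at this
    rw [this]
    norm_num
  have hS3 : (χ₃ : G → ℂ) σ = δ₃ := by
    have := (hW 1 (by norm_num) (by omega)).2.2.1
    rw [pow_one] at this
    rw [this]
    norm_num
  have hSj : ∀ j : Fin (2 ^ (n - 2) - 1), (χ' j : G → ℂ) σ =
      δ₁ * (ζ ^ ((j : ℕ) + 1) + (ζ ^ ((j : ℕ) + 1))⁻¹) := by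
    intro j
    have := (hW 1 (by norm_num) (by omega)).2.2.2 j
    rw [pow_one, mul_one] at this
    exact this
  obtain ⟨hJA, hJ2', hJ1', hJo⟩ := h.dl.d_J_facts hN
  have hmodd : Odd (2 ^ (n - 2) - 1) := by
    obtain ⟨k, hk⟩ := hev
    exact ⟨k - 1, by omega⟩
  -- the first relation: `u = J`
  have s1 := star hM (σ ^ 2 ^ (n - 2)) (σ ^ 2 ^ (n - 2)) ⟨1, by rw [hJo, pow_one]⟩
    (h.npc _ hJA hJ1')
  have hc2J : 2 ^ (Nat.card ↥(Subgroup.centralizer ({σ ^ 2 ^ (n - 2)} : Set G))).factorization 2 =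
      2 * 2 ^ (n - 1) := by
    rw [← h.cardC _ hJA hJ1', inf_of_le_left (h.dl.le_centralizer_pow hN)]
    exact h.dl.card
  rw [hc2J, e_sum_split hinj h1t h2t h3t h12 h13 h23 hχ' hmem] at s1
  have hFj1 : ∀ j : Fin (2 ^ (n - 2) - 1),
      conj ((χ' j : G → ℂ) (σ ^ 2 ^ (n - 2))) *
        ((χ' j : G → ℂ) (σ ^ 2 ^ (n - 2)) ^ 2 / (χ' j : G → ℂ) 1) =
      8 * δ₁ / ((charDegree (χ₁ : G → ℂ) : ℂ) + δ₁) * (-1) ^ ((j : ℕ) + 1) := by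
    intro j
    have hm : ((-1 : ℂ) ^ ((j : ℕ) + 1)) ^ 2 = 1 := by
      rcases neg_one_pow_eq_or ℂ ((j : ℕ) + 1) with h' | h' <;> rw [h'] <;> norm_num
    have hcj : conj (2 * (δ₁ : ℂ) * (-1) ^ ((j : ℕ) + 1)) = 2 * (δ₁ : ℂ) * (-1) ^ ((j : ℕ) + 1) := by
      rw [map_mul, map_mul, map_pow, map_neg, map_one, e_int_conj, Complex.conj_ofNat]
    rw [hJj, hxj, hcj]
    generalize (-1 : ℂ) ^ ((j : ℕ) + 1) = e at hm ⊢
    have : 2 * (δ₁ : ℂ) * e * ((2 * (δ₁ : ℂ) * e) ^ 2 / ((charDegree (χ₁ : G → ℂ) : ℂ) + δ₁)) =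
        8 * δ₁ / ((charDegree (χ₁ : G → ℂ) : ℂ) + δ₁) * e * ((δ₁ : ℂ) ^ 2 * e ^ 2) := by ring
    rw [this, hδsq, hm]
    ring
  have hδ₁cube : ((δ₁ : ℤ) : ℂ) ^ 3 = δ₁ := by
    rw [pow_succ, hδsq, one_mul]
  have hδ₂sq := e_int_sq hδ₂
  have hδ₃sq := e_int_sq hδ₃
  have rel1 : 1 + (δ₁ : ℂ) / (charDegree (χ₁ : G → ℂ) : ℂ) -
      (δ₂ : ℂ) / (charDegree (χ₂ : G → ℂ) : ℂ) - (δ₃ : ℂ) / (charDegree (χ₃ : G → ℂ) : ℂ) -
      8 * (δ₁ : ℂ) / ((charDegree (χ₁ : G → ℂ) : ℂ) + δ₁) =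
      (Fintype.card G : ℂ)⁻¹ * ((2 * 2 ^ (n - 1) : ℕ) : ℂ) *
        (cntY (σ ^ 2 ^ (n - 2)) (σ ^ 2 ^ (n - 2)) : ℂ) := by
    rw [← s1]
    simp only [hFj1]
    rw [← Finset.mul_sum, e_sum_alt' hmodd, trivIrr_apply, trivIrr_apply, hJ1, hJ2, hJ3, hx₁, hx₂,
      hx₃]
    simp only [map_neg, e_int_conj, map_one]
    have e2 : -(δ₂ : ℂ) * ((-(δ₂ : ℂ)) ^ 2 / (charDegree (χ₂ : G → ℂ) : ℂ)) =
        -((δ₂ : ℂ) / (charDegree (χ₂ : G → ℂ) : ℂ)) * (δ₂ : ℂ) ^ 2 := by ring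
    have e3 : -(δ₃ : ℂ) * ((-(δ₃ : ℂ)) ^ 2 / (charDegree (χ₃ : G → ℂ) : ℂ)) =
        -((δ₃ : ℂ) / (charDegree (χ₃ : G → ℂ) : ℂ)) * (δ₃ : ℂ) ^ 2 := by ring
    have e1 : (δ₁ : ℂ) * ((δ₁ : ℂ) ^ 2 / (charDegree (χ₁ : G → ℂ) : ℂ)) =
        (δ₁ : ℂ) / (charDegree (χ₁ : G → ℂ) : ℂ) * (δ₁ : ℂ) ^ 2 := by ring
    rw [e1, e2, e3, hδsq, hδ₂sq, hδ₃sq]
    ring
  -- the second relation: `u = σ`
  have hσA : σ ∈ Subgroup.zpowers σ := Subgroup.mem_zpowers σ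
  have hσ1 : σ ≠ 1 := by
    intro hc
    have := h.dl.ord
    rw [hc, orderOf_one] at this
    omega
  have hσ2 : σ * σ ≠ 1 := h.dl.sq_ne_one
  have s2 := star hM (σ ^ 2 ^ (n - 2)) σ ⟨n - 1, h.dl.ord⟩ (h.npc _ hσA hσ1)
  have hc2σ : 2 ^ (Nat.card ↥(Subgroup.centralizer ({σ} : Set G))).factorization 2 =
      2 ^ (n - 1) := by
    rw [← h.cardC _ hσA hσ1, h.dl.inf_centralizer_eq hσA hσ2, Nat.card_zpowers]
    exact h.dl.ord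
  rw [hc2σ, e_sum_split hinj h1t h2t h3t h12 h13 h23 hχ' hmem] at s2
  have hFj2 : ∀ j : Fin (2 ^ (n - 2) - 1),
      conj ((χ' j : G → ℂ) σ) * ((χ' j : G → ℂ) (σ ^ 2 ^ (n - 2)) ^ 2 / (χ' j : G → ℂ) 1) =
      conj ((δ₁ : ℂ) * (ζ ^ ((j : ℕ) + 1) + (ζ ^ ((j : ℕ) + 1))⁻¹)) *
        (4 / ((charDegree (χ₁ : G → ℂ) : ℂ) + δ₁)) := by
    intro j
    have hm : ((-1 : ℂ) ^ ((j : ℕ) + 1)) ^ 2 = 1 := by
      rcases neg_one_pow_eq_or ℂ ((j : ℕ) + 1) with h' | h' <;> rw [h'] <;> norm_num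
    rw [hJj, hxj, hSj]
    congr 1
    have : (2 * (δ₁ : ℂ) * (-1) ^ ((j : ℕ) + 1)) ^ 2 =
        4 * ((δ₁ : ℂ) ^ 2 * ((-1 : ℂ) ^ ((j : ℕ) + 1)) ^ 2) := by ring
    rw [this, hδsq, hm]
    ring
  have rel2 : 1 + (δ₁ : ℂ) / (charDegree (χ₁ : G → ℂ) : ℂ) +
      (δ₂ : ℂ) / (charDegree (χ₂ : G → ℂ) : ℂ) + (δ₃ : ℂ) / (charDegree (χ₃ : G → ℂ) : ℂ) =
      (Fintype.card G : ℂ)⁻¹ * ((2 ^ (n - 1) : ℕ) : ℂ) * (cntY (σ ^ 2 ^ (n - 2)) σ : ℂ) := by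
    rw [← s2]
    simp only [hFj2]
    rw [← Finset.sum_mul, ← map_sum, ← Finset.mul_sum, e_sum_roots ho.prim hN hh2, mul_zero,
      map_zero, zero_mul, trivIrr_apply, trivIrr_apply, trivIrr_apply, hJ1, hJ2, hJ3, hS1, hS2, hS3,
      hx₁, hx₂, hx₃]
    simp only [e_int_conj, map_one]
    have e2 : (δ₂ : ℂ) * ((-(δ₂ : ℂ)) ^ 2 / (charDegree (χ₂ : G → ℂ) : ℂ)) =
        ((δ₂ : ℂ) / (charDegree (χ₂ : G → ℂ) : ℂ)) * (δ₂ : ℂ) ^ 2 := by ring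
    have e3 : (δ₃ : ℂ) * ((-(δ₃ : ℂ)) ^ 2 / (charDegree (χ₃ : G → ℂ) : ℂ)) =
        ((δ₃ : ℂ) / (charDegree (χ₃ : G → ℂ) : ℂ)) * (δ₃ : ℂ) ^ 2 := by ring
    have e1 : (δ₁ : ℂ) * ((δ₁ : ℂ) ^ 2 / (charDegree (χ₁ : G → ℂ) : ℂ)) =
        (δ₁ : ℂ) / (charDegree (χ₁ : G → ℂ) : ℂ) * (δ₁ : ℂ) ^ 2 := by ring
    rw [e1, e2, e3, hδsq, hδ₂sq, hδ₃sq]
    ring
  -- the two counts
  have hcnt1 : (cntY (σ ^ 2 ^ (n - 2)) (σ ^ 2 ^ (n - 2)) : ℂ) =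
      2 * (Nat.card (Subgroup.centralizer ({σ ^ 2 ^ (n - 2)} : Set G)) : ℂ) ^ 3 *
        (1 / (Nat.card (Subgroup.centralizer ({σ ^ 2 ^ (n - 2), τ} : Set G)) : ℂ) ^ 2 +
          1 / (Nat.card (Subgroup.centralizer ({σ ^ 2 ^ (n - 2), σ * τ} : Set G)) : ℂ) ^ 2) /
        ((2 ^ (n - 1) : ℕ) : ℂ) := by
    have := congrArg (fun q : ℚ => (q : ℂ)) (h.dl.cntY_center hN hev hτ hτA hc1 hc2)
    push_cast at this ⊢
    exact this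
  have hcnt2 : (cntY (σ ^ 2 ^ (n - 2)) σ : ℂ) =
      8 * (Nat.card (Subgroup.centralizer ({σ ^ 2 ^ (n - 2)} : Set G)) : ℂ) ^ 3 /
        ((Nat.card (Subgroup.centralizer ({σ ^ 2 ^ (n - 2), τ} : Set G)) : ℂ) *
          (Nat.card (Subgroup.centralizer ({σ ^ 2 ^ (n - 2), σ * τ} : Set G)) : ℂ) *
          ((2 ^ (n - 1) : ℕ) : ℂ)) := by
    have := congrArg (fun q : ℚ => (q : ℂ)) (h.dl.cntY_gen hN hev hτ hτA hc1 hc2)
    push_cast at this ⊢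
    exact this
  rw [hcnt1] at rel1
  rw [hcnt2] at rel2
  have hg : (Fintype.card G : ℂ) ≠ 0 := Nat.cast_ne_zero.2 Fintype.card_pos.ne'
  have hx₁0 : (charDegree (χ₁ : G → ℂ) : ℂ) ≠ 0 := Nat.cast_ne_zero.2 hx₁pos.ne'
  have ha0 : (Nat.card (Subgroup.centralizer ({σ ^ 2 ^ (n - 2), τ} : Set G)) : ℂ) ≠ 0 :=
    Nat.cast_ne_zero.2 Nat.card_pos.ne'
  have hb0 : (Nat.card (Subgroup.centralizer ({σ ^ 2 ^ (n - 2), σ * τ} : Set G)) : ℂ) ≠ 0 :=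
    Nat.cast_ne_zero.2 Nat.card_pos.ne'
  have hN0 : ((2 ^ (n - 1) : ℕ) : ℂ) ≠ 0 := Nat.cast_ne_zero.2 (by positivity)
  have rel1' : 1 + (δ₁ : ℂ) / (charDegree (χ₁ : G → ℂ) : ℂ) -
      (δ₂ : ℂ) / (charDegree (χ₂ : G → ℂ) : ℂ) - (δ₃ : ℂ) / (charDegree (χ₃ : G → ℂ) : ℂ) -
      8 * (δ₁ : ℂ) / ((charDegree (χ₁ : G → ℂ) : ℂ) + δ₁) =
      (Fintype.card G : ℂ)⁻¹ * (2 * ((2 ^ (n - 1) : ℕ) : ℂ)) *
        (2 * (Nat.card (Subgroup.centralizer ({σ ^ 2 ^ (n - 2)} : Set G)) : ℂ) ^ 3 *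
        (1 / (Nat.card (Subgroup.centralizer ({σ ^ 2 ^ (n - 2), τ} : Set G)) : ℂ) ^ 2 +
          1 / (Nat.card (Subgroup.centralizer ({σ ^ 2 ^ (n - 2), σ * τ} : Set G)) : ℂ) ^ 2) /
        ((2 ^ (n - 1) : ℕ) : ℂ)) := by
    rw [rel1]
    push_cast
    ring
  have key := e_algebra _ _ _ _ _ _ _ _ _ _ _ hg hx₁0 hxd ha0 hb0 hN0 rel1' rel2
  have keyQ : (Nat.card G : ℚ) * ((charDegree (χ₁ : G → ℂ) : ℚ) - δ₁) ^ 2 =
      2 * (charDegree (χ₁ : G → ℂ) : ℚ) * ((charDegree (χ₁ : G → ℂ) : ℚ) + δ₁) *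
        (Nat.card (Subgroup.centralizer ({σ ^ (2 ^ (n - 2))} : Set G)) : ℚ) ^ 3 *
        (1 / (Nat.card (Subgroup.centralizer ({σ ^ (2 ^ (n - 2)), τ} : Set G)) : ℚ) +
          1 / (Nat.card (Subgroup.centralizer ({σ ^ (2 ^ (n - 2)), σ * τ} : Set G)) : ℚ)) ^ 2 := by
    have hinj' : Function.Injective (fun q : ℚ => (q : ℂ)) := Rat.cast_injective
    apply hinj'
    simp only
    push_cast
    rw [Nat.card_eq_fintype_card]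
    exact key
  refine ⟨?_, keyQ⟩
  intro hc
  have hcQ : (charDegree (χ₁ : G → ℂ) : ℚ) = δ₁ := by exact_mod_cast hc
  rw [hcQ, sub_self] at keyQ
  have hpos : (0 : ℚ) < (δ₁ : ℚ) := by
    rw [← hcQ]
    exact_mod_cast hx₁pos
  have ha : (0 : ℚ) < (Nat.card (Subgroup.centralizer ({σ ^ (2 ^ (n - 2)), τ} : Set G)) : ℚ) :=
    Nat.cast_pos.2 Nat.card_pos
  have hb : (0 : ℚ) < (Nat.card (Subgroup.centralizer ({σ ^ (2 ^ (n - 2)), σ * τ} : Set G)) : ℚ) :=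
    Nat.cast_pos.2 Nat.card_pos
  have hcc : (0 : ℚ) < (Nat.card (Subgroup.centralizer ({σ ^ (2 ^ (n - 2))} : Set G)) : ℚ) :=
    Nat.cast_pos.2 Nat.card_pos
  have : (0 : ℚ) < 2 * (δ₁ : ℚ) * ((δ₁ : ℚ) + δ₁) *
        (Nat.card (Subgroup.centralizer ({σ ^ (2 ^ (n - 2))} : Set G)) : ℚ) ^ 3 *
        (1 / (Nat.card (Subgroup.centralizer ({σ ^ (2 ^ (n - 2)), τ} : Set G)) : ℚ) +
          1 / (Nat.card (Subgroup.centralizer ({σ ^ (2 ^ (n - 2)), σ * τ} : Set G)) : ℚ)) ^ 2 := by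
    positivity
  rw [← keyQ] at this
  simp at this

end main

end Cfsg.Agent.Lib.Helper8.DihB
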