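import Mathlib
import Cfsg.Prelude.Def_Blocks
import Cfsg.Agent.Lib.Helper8.DihB0

/-!
# S4482, PK-GEN: a Sylow 2-subgroup generated by `σ` of order `2^(n-1)` and an involution `τ`
inverting it is dihedral-like.
-/

set_option autoImplicit false

namespace Cfsg.Agent.Lib.Helper8.DihB

open Cfsg

universe u

section GEN
variable {G : Type u} [Group G]

/-- `τ` inverts every element of `⟨σ⟩`. -/
theorem gen_conj_inv {σ τ a : G} (hrel : τ * σ * τ⁻¹ = σ⁻¹) (ha : a ∈ Subgroup.zpowers σ) :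
    τ * a * τ⁻¹ = a⁻¹ := by
  obtain ⟨k, rfl⟩ := Subgroup.mem_zpowers_iff.1 ha
  rw [← conj_zpow, hrel, inv_zpow]

/-- every element of `closure {σ, τ}` lies in `⟨σ⟩` or `⟨σ⟩ τ`. -/
theorem gen_mem_cases {σ τ : G} (hτ2 : τ * τ = 1) (hrel : τ * σ * τ⁻¹ = σ⁻¹) {x : G}
    (hx : x ∈ Subgroup.closure ({σ, τ} : Set G)) :
    x ∈ Subgroup.zpowers σ ∨ x * τ⁻¹ ∈ Subgroup.zpowers σ := by
  have key : ∀ x : G, x * τ⁻¹ ∈ Subgroup.zpowers σ → ∃ a ∈ Subgroup.zpowers σ, x = a * τ :=
    fun x hx => ⟨x * τ⁻¹, hx, by group⟩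
  induction hx using Subgroup.closure_induction with
  | mem x hx =>
    rcases hx with rfl | hx
    · exact Or.inl (Subgroup.mem_zpowers _)
    · rw [Set.mem_singleton_iff] at hx
      subst hx
      right
      rw [mul_inv_cancel]
      exact Subgroup.one_mem _
  | one => exact Or.inl (Subgroup.one_mem _)
  | mul x y _ _ hx hy =>
    rcases hx with hx | hx <;> rcases hy with hy | hy
    · exact Or.inl (Subgroup.mul_mem _ hx hy)
    · right
      rw [mul_assoc]
      exact Subgroup.mul_mem _ hx hy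
    · right
      obtain ⟨a, ha, rfl⟩ := key x hx
      have : a * τ * y * τ⁻¹ = a * (τ * y * τ⁻¹) := by group
      rw [this, gen_conj_inv hrel hy]
      exact Subgroup.mul_mem _ ha (Subgroup.inv_mem _ hy)
    · left
      obtain ⟨a, ha, rfl⟩ := key x hx
      obtain ⟨b, hb, rfl⟩ := key y hy
      have : a * τ * (b * τ) = a * (τ * b * τ⁻¹) * (τ * τ) := by group
      rw [this, gen_conj_inv hrel hb, hτ2, mul_one]
      exact Subgroup.mul_mem _ ha (Subgroup.inv_mem _ hb)
  | inv x _ hx =>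
    rcases hx with hx | hx
    · exact Or.inl (Subgroup.inv_mem _ hx)
    · right
      obtain ⟨a, ha, rfl⟩ := key x hx
      have : (a * τ)⁻¹ * τ⁻¹ = (τ * a * τ⁻¹ * (τ * τ))⁻¹ := by group
      rw [this, gen_conj_inv hrel ha, hτ2, mul_one, inv_inv]
      exact ha

variable [Finite G]

/-- PK-GEN: the hypotheses of S4482 give the structure `DL` (and `τ ∉ ⟨σ⟩`). -/
theorem DL.of_gens (n : ℕ) (hn : 3 ≤ n) (P : Sylow 2 G) (σ τ : G) (hσ : σ ∈ (P : Subgroup G))
    (hτ : τ ∈ (P : Subgroup G)) (hσo : orderOf σ = 2 ^ (n - 1)) (hτo : orderOf τ = 2)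
    (hrel : τ * σ * τ⁻¹ = σ⁻¹) (hgen : Subgroup.closure ({σ, τ} : Set G) = (P : Subgroup G)) :
    DL P σ (2 ^ (n - 1)) ∧ τ ∉ Subgroup.zpowers σ := by
  have hτ2 : τ * τ = 1 := by
    rw [← pow_two, ← hτo]
    exact pow_orderOf_eq_one τ
  have h4 : 4 ≤ 2 ^ (n - 1) := by
    calc 4 = 2 ^ 2 := by norm_num
      _ ≤ 2 ^ (n - 1) := Nat.pow_le_pow_right (by norm_num) (by omega)
  have hσ2 : σ * σ ≠ 1 := by
    intro h
    have : orderOf σ ∣ 2 := orderOf_dvd_of_pow_eq_one (by rw [pow_two]; exact h)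
    have := Nat.le_of_dvd (by norm_num) this
    omega
  have hτA : τ ∉ Subgroup.zpowers σ := by
    intro hmem
    obtain ⟨k, hk⟩ := Subgroup.mem_zpowers_iff.1 hmem
    have hc : τ * σ = σ * τ := by
      rw [← hk]
      exact ((Commute.refl σ).zpow_left k).eq
    apply hσ2
    have : σ = σ⁻¹ := by
      rw [← hrel, hc, mul_assoc, mul_inv_cancel, mul_one]
    calc σ * σ = σ * σ⁻¹ := by rw [← this]
      _ = 1 := mul_inv_cancel σ
  have hcases : ∀ x ∈ (P : Subgroup G), x ∈ Subgroup.zpowers σ ∨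
      ∃ a ∈ Subgroup.zpowers σ, x = a * τ := by
    intro x hx
    rw [← hgen] at hx
    rcases gen_mem_cases hτ2 hrel hx with h | h
    · exact Or.inl h
    · exact Or.inr ⟨x * τ⁻¹, h, by group⟩
  have hAP : Subgroup.zpowers σ ≤ (P : Subgroup G) := by
    rw [Subgroup.zpowers_le]
    exact hσ
  refine ⟨⟨hσ, hσo, h4, ?_, ?_⟩, hτA⟩
  · -- the order of P
    have hset : ((P : Subgroup G) : Set G) =
        (Subgroup.zpowers σ : Set G) ∪ (fun a => a * τ) '' (Subgroup.zpowers σ : Set G) := by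
      ext x
      constructor
      · intro hx
        rcases hcases x hx with h | ⟨a, ha, rfl⟩
        · exact Or.inl h
        · exact Or.inr ⟨a, ha, rfl⟩
      · rintro (h | ⟨a, ha, rfl⟩)
        · exact hAP h
        · exact Subgroup.mul_mem _ (hAP ha) hτ
    have hdisj : Disjoint (Subgroup.zpowers σ : Set G)
        ((fun a => a * τ) '' (Subgroup.zpowers σ : Set G)) := by
      rw [Set.disjoint_left]
      rintro x hx ⟨a, ha, rfl⟩
      apply hτA
      have : τ = a⁻¹ * (a * τ) := by group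
      rw [this]
      exact Subgroup.mul_mem _ (Subgroup.inv_mem _ ha) hx
    have hcA : (Subgroup.zpowers σ : Set G).ncard = 2 ^ (n - 1) := by
      rw [← Nat.card_coe_set_eq]
      have : Nat.card ↥(Subgroup.zpowers σ) = orderOf σ := Nat.card_zpowers σ
      rw [← hσo, ← this]
      rfl
    have hcAτ : ((fun a => a * τ) '' (Subgroup.zpowers σ : Set G)).ncard = 2 ^ (n - 1) := by
      rw [Set.ncard_image_of_injective _ (mul_left_injective τ), hcA]
    have : Nat.card ↥(P : Subgroup G) = ((P : Subgroup G) : Set G).ncard := by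
      rw [← Nat.card_coe_set_eq]
      rfl
    rw [this, hset, Set.ncard_union_eq hdisj (Set.toFinite _) (Set.toFinite _), hcA, hcAτ]
    ring
  · -- elements outside ⟨σ⟩
    intro x hx hxA
    rcases hcases x hx with h | ⟨a, ha, rfl⟩
    · exact absurd h hxA
    · have hcomm : a * σ⁻¹ = σ⁻¹ * a := by
        obtain ⟨k, hk⟩ := Subgroup.mem_zpowers_iff.1 ha
        rw [← hk]
        exact (((Commute.refl σ).inv_right).zpow_left k).eq
      constructor
      · have : a * τ * (a * τ) = a * (τ * a * τ⁻¹) * (τ * τ) := by group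
        rw [this, gen_conj_inv hrel ha, hτ2, mul_one, mul_inv_cancel]
      · have : a * τ * σ * (a * τ)⁻¹ = a * (τ * σ * τ⁻¹) * a⁻¹ := by group
        rw [this, hrel, hcomm, mul_assoc, mul_inv_cancel, mul_one]

end GEN

end Cfsg.Agent.Lib.Helper8.DihB
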