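import Mathlib

set_option autoImplicit false

/-!
# Steinberg relations for `SL₂`: consequences of additivity and the relation `(B')`
-/

namespace Cfsg.Agent.Lib.Helper8.St

/-- Steinberg data over a field `k` in a group `G`: two additive one-parameter families `x`, `y`
with `w(t) x(u) w(t)⁻¹ = y(-t⁻² u)` where `w(t) = x(t) y(-t⁻¹) x(t)`. -/
structure Data (k : Type*) [Field k] (G : Type*) [Group G] where
  x : k → G
  y : k → G
  x_add : ∀ s t, x (s + t) = x s * x t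
  y_add : ∀ s t, y (s + t) = y s * y t
  rel : ∀ t u : k, t ≠ 0 →
    (x t * y (-t⁻¹) * x t) * x u * (x t * y (-t⁻¹) * x t)⁻¹ = y (-(t⁻¹ * t⁻¹ * u))

namespace Data

variable {k : Type*} [Field k] {G : Type*} [Group G] (D : Data k G)

def w (t : k) : G := D.x t * D.y (-t⁻¹) * D.x t

def h (t : k) : G := D.w t * D.w (-1)

theorem x_zero : D.x 0 = 1 := by
  have h := D.x_add 0 0
  rw [add_zero] at h
  exact (mul_eq_left.mp h.symm)

theorem y_zero : D.y 0 = 1 := by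
  have h := D.y_add 0 0
  rw [add_zero] at h
  exact (mul_eq_left.mp h.symm)

theorem x_neg (t : k) : D.x (-t) = (D.x t)⁻¹ := by
  have h := D.x_add t (-t)
  rw [add_neg_cancel, D.x_zero] at h
  exact (inv_eq_of_mul_eq_one_right h.symm).symm

theorem y_neg (t : k) : D.y (-t) = (D.y t)⁻¹ := by
  have h := D.y_add t (-t)
  rw [add_neg_cancel, D.y_zero] at h
  exact (inv_eq_of_mul_eq_one_right h.symm).symm

theorem w_neg (t : k) : D.w (-t) = (D.w t)⁻¹ := by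
  unfold w
  rw [inv_neg, neg_neg, mul_inv_rev, mul_inv_rev, ← D.x_neg, ← D.y_neg, neg_neg, mul_assoc]

theorem w_mul_w_neg (t : k) : D.w t * D.w (-t) = 1 := by
  rw [D.w_neg, mul_inv_cancel]

theorem w_neg_mul_w (t : k) : D.w (-t) * D.w t = 1 := by
  rw [D.w_neg, inv_mul_cancel]

/-- (R2) -/
theorem w_x (t u : k) (ht : t ≠ 0) : D.w t * D.x u * D.w (-t) = D.y (-(t⁻¹ * t⁻¹ * u)) := by
  rw [D.w_neg]
  exact D.rel t u ht

/-- (R3) -/
theorem w_y (t u : k) (ht : t ≠ 0) : D.w t * D.y u * D.w (-t) = D.x (-(t * t * u)) := by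
  have h1 := D.w_x (-t) (-(t * t * u)) (neg_ne_zero.mpr ht)
  rw [neg_neg] at h1
  have h2 : -((-t)⁻¹ * (-t)⁻¹ * -(t * t * u)) = u := by
    field_simp
  rw [h2] at h1
  rw [← h1]
  calc D.w t * (D.w (-t) * D.x (-(t * t * u)) * D.w t) * D.w (-t)
      = (D.w t * D.w (-t)) * D.x (-(t * t * u)) * (D.w t * D.w (-t)) := by group
    _ = D.x (-(t * t * u)) := by rw [D.w_mul_w_neg, one_mul, mul_one]

/-- (R4) the other form of `w`. -/
theorem w_eq (t : k) (ht : t ≠ 0) : D.w t = D.y (-t⁻¹) * D.x t * D.y (-t⁻¹) := by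
  have h1 : D.w t = D.w t * D.w t * D.w (-t) := by
    rw [mul_assoc, D.w_mul_w_neg, mul_one]
  have h2 : D.w t * D.w t * D.w (-t)
      = (D.w t * D.x t * D.w (-t)) * (D.w t * D.y (-t⁻¹) * D.w (-t)) *
        (D.w t * D.x t * D.w (-t)) := by
    have e : D.w t = D.x t * D.y (-t⁻¹) * D.x t := rfl
    calc D.w t * D.w t * D.w (-t) = D.w t * (D.x t * D.y (-t⁻¹) * D.x t) * D.w (-t) := by
          rw [← e]
      _ = (D.w t * D.x t * D.w (-t)) * (D.w t * D.y (-t⁻¹) * D.w (-t)) *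
            (D.w t * D.x t * D.w (-t)) := by
          have := D.w_neg_mul_w t
          calc D.w t * (D.x t * D.y (-t⁻¹) * D.x t) * D.w (-t)
              = D.w t * D.x t * 1 * D.y (-t⁻¹) * 1 * D.x t * D.w (-t) := by group
            _ = D.w t * D.x t * (D.w (-t) * D.w t) * D.y (-t⁻¹) * (D.w (-t) * D.w t) * D.x t
                * D.w (-t) := by rw [this]
            _ = _ := by group
  rw [h2, D.w_x t t ht, D.w_y t (-t⁻¹) ht] at h1
  have e1 : -(t⁻¹ * t⁻¹ * t) = -t⁻¹ := by field_simp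
  have e2 : -(t * t * -t⁻¹) = t := by field_simp
  rw [e1, e2] at h1
  exact h1

/-- `x(r) = y(r⁻¹) w(r) y(r⁻¹)` -/
theorem x_eq (r : k) (hr : r ≠ 0) : D.x r = D.y r⁻¹ * D.w r * D.y r⁻¹ := by
  rw [D.w_eq r hr, D.y_neg]
  group

/-- (R5) -/
theorem w_w (t u : k) (ht : t ≠ 0) (hu : u ≠ 0) :
    D.w t * D.w u * D.w (-t) = D.w (t * t * u⁻¹) := by
  have e : D.w u = D.x u * D.y (-u⁻¹) * D.x u := rfl
  have h1 : D.w t * D.w u * D.w (-t)
      = (D.w t * D.x u * D.w (-t)) * (D.w t * D.y (-u⁻¹) * D.w (-t)) *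
        (D.w t * D.x u * D.w (-t)) := by
    have := D.w_neg_mul_w t
    calc D.w t * D.w u * D.w (-t)
        = D.w t * D.x u * 1 * D.y (-u⁻¹) * 1 * D.x u * D.w (-t) := by rw [e]; group
      _ = D.w t * D.x u * (D.w (-t) * D.w t) * D.y (-u⁻¹) * (D.w (-t) * D.w t) * D.x u
          * D.w (-t) := by rw [this]
      _ = _ := by group
  rw [h1, D.w_x t u ht, D.w_y t (-u⁻¹) ht]
  have hs : t * t * u⁻¹ ≠ 0 := mul_ne_zero (mul_ne_zero ht ht) (inv_ne_zero hu)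
  rw [D.w_eq _ hs]
  have e1 : -(t⁻¹ * t⁻¹ * u) = -(t * t * u⁻¹)⁻¹ := by field_simp
  have e2 : -(t * t * -u⁻¹) = t * t * u⁻¹ := by ring
  rw [e1, e2]

theorem h_one : D.h 1 = 1 := by
  unfold h
  exact D.w_mul_w_neg 1

theorem h_inv (t : k) : (D.h t)⁻¹ = D.w 1 * D.w (-t) := by
  unfold h
  rw [mul_inv_rev, ← D.w_neg, neg_neg, ← D.w_neg]

/-- (R6) -/
theorem h_x (t u : k) (ht : t ≠ 0) : D.h t * D.x u * (D.h t)⁻¹ = D.x (t * t * u) := by
  rw [D.h_inv]
  unfold h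
  have h1 : D.w (-1) * D.x u * D.w 1 = D.y (-u) := by
    have := D.w_x (-1) u (by simp)
    rw [neg_neg] at this
    rw [this]
    congr 1
    field_simp
  calc D.w t * D.w (-1) * D.x u * (D.w 1 * D.w (-t))
      = D.w t * (D.w (-1) * D.x u * D.w 1) * D.w (-t) := by group
    _ = D.w t * D.y (-u) * D.w (-t) := by rw [h1]
    _ = D.x (t * t * u) := by
      rw [D.w_y t (-u) ht]
      congr 1
      ring

theorem h_y (t u : k) (ht : t ≠ 0) : D.h t * D.y u * (D.h t)⁻¹ = D.y (t⁻¹ * t⁻¹ * u) := by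
  rw [D.h_inv]
  unfold h
  have h1 : D.w (-1) * D.y u * D.w 1 = D.x (-u) := by
    have := D.w_y (-1) u (by simp)
    rw [neg_neg] at this
    rw [this]
    congr 1
    ring
  calc D.w t * D.w (-1) * D.y u * (D.w 1 * D.w (-t))
      = D.w t * (D.w (-1) * D.y u * D.w 1) * D.w (-t) := by group
    _ = D.w t * D.x (-u) * D.w (-t) := by rw [h1]
    _ = D.y (t⁻¹ * t⁻¹ * u) := by
      rw [D.w_x t (-u) ht]
      congr 1
      ring

/-- (R7) -/
theorem h_w (t u : k) (ht : t ≠ 0) (hu : u ≠ 0) :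
    D.h t * D.w u * (D.h t)⁻¹ = D.w (t * t * u) := by
  have e : D.w u = D.x u * D.y (-u⁻¹) * D.x u := rfl
  have h1 : D.h t * D.w u * (D.h t)⁻¹
      = (D.h t * D.x u * (D.h t)⁻¹) * (D.h t * D.y (-u⁻¹) * (D.h t)⁻¹) *
        (D.h t * D.x u * (D.h t)⁻¹) := by
    rw [e]; group
  rw [h1, D.h_x t u ht, D.h_y t _ ht]
  unfold w
  have e1 : t⁻¹ * t⁻¹ * -u⁻¹ = -(t * t * u)⁻¹ := by field_simp
  rw [e1]

/-- (R8) -/
theorem h_h (t u : k) (ht : t ≠ 0) (hu : u ≠ 0) :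
    D.h t * D.h u * (D.h t)⁻¹ = D.h (t * t * u) * (D.h (t * t))⁻¹ := by
  have h1 : D.h t * D.h u * (D.h t)⁻¹
      = (D.h t * D.w u * (D.h t)⁻¹) * (D.h t * D.w (-1) * (D.h t)⁻¹) := by
    unfold h; group
  rw [h1, D.h_w t u ht hu, D.h_w t (-1) ht (by simp)]
  rw [D.h_inv (t * t)]
  unfold h
  have e1 : t * t * -1 = -(t * t) := by ring
  rw [e1]
  have := D.w_neg_mul_w 1
  calc D.w (t * t * u) * D.w (-(t * t))
      = D.w (t * t * u) * 1 * D.w (-(t * t)) := by group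
    _ = D.w (t * t * u) * (D.w (-1) * D.w 1) * D.w (-(t * t)) := by rw [this]
    _ = D.w (t * t * u) * D.w (-1) * (D.w 1 * D.w (-(t * t))) := by group

/-- (R10) -/
theorem w_h (t : k) (ht : t ≠ 0) : D.w 1 * D.h t * D.w (-1) = D.h t⁻¹ := by
  unfold h
  have h1 := D.w_w 1 t one_ne_zero ht
  rw [one_mul, one_mul] at h1
  calc D.w 1 * (D.w t * D.w (-1)) * D.w (-1) = (D.w 1 * D.w t * D.w (-1)) * D.w (-1) := by group
    _ = D.w t⁻¹ * D.w (-1) := by rw [h1]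

end Data

end Cfsg.Agent.Lib.Helper8.St
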