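import Mathlib
import Cfsg.Agent.Lib.Helper8.St1

set_option autoImplicit false

/-!
# Steinberg relations for `SL₂` over a finite field: `h` is multiplicative
-/

namespace Cfsg.Agent.Lib.Helper8.St

theorem nonsq_mul_sq {k : Type*} [Field k] {n s : k} (hn : ¬ IsSquare n) (hs : s ≠ 0)
    (hsq : IsSquare s) : ¬ IsSquare (n * s) := by
  obtain ⟨q, rfl⟩ := hsq
  have hq : q ≠ 0 := fun h => hs (by rw [h, mul_zero])
  rintro ⟨r, hr⟩
  apply hn
  refine ⟨r / q, ?_⟩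
  field_simp
  rw [pow_two, pow_two, hr]

/-- in a finite field with a non-square there is `t` with `t` and `1 - t` both non-squares -/
theorem exists_nonsq_pair {k : Type*} [Field k] [Finite k] (hns : ∃ n : k, ¬ IsSquare n) :
    ∃ t : k, t ≠ 0 ∧ t ≠ 1 ∧ ¬ IsSquare t ∧ ¬ IsSquare (1 - t) := by
  classical
  have := Fintype.ofFinite k
  obtain ⟨n, hn⟩ := hns
  have hn0 : n ≠ 0 := fun h => hn (h ▸ IsSquare.zero)
  by_contra hcon
  push Not at hcon
  let Q : Finset k := Finset.univ.filter (fun s => s ≠ 0 ∧ IsSquare s)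
  have h1Q : (1 : k) ∈ Q := by
    simp only [Q, Finset.mem_filter, Finset.mem_univ, true_and]
    exact ⟨one_ne_zero, IsSquare.one⟩
  have hmaps : ∀ s ∈ Q, 1 - n * s ∈ Q.erase 1 := by
    intro s hs
    simp only [Q, Finset.mem_filter, Finset.mem_univ, true_and] at hs
    have hns0 : n * s ≠ 0 := mul_ne_zero hn0 hs.1
    have hnsq : ¬ IsSquare (n * s) := nonsq_mul_sq hn hs.1 hs.2
    have hns1 : n * s ≠ 1 := fun h => hnsq (h ▸ IsSquare.one)
    have := hcon (n * s) hns0 hns1 hnsq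
    rw [Finset.mem_erase]
    refine ⟨fun h => hns0 ?_, ?_⟩
    · have : n * s = 1 - (1 - n * s) := by ring
      rw [this, h, sub_self]
    · simp only [Q, Finset.mem_filter, Finset.mem_univ, true_and]
      exact ⟨sub_ne_zero.mpr (Ne.symm hns1), this⟩
  have hinj : Set.InjOn (fun s => 1 - n * s) (Q : Set k) := by
    intro s _ s' _ h
    simp only at h
    have : n * s = n * s' := by
      have := congrArg (fun v => 1 - v) h
      simpa using this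
    exact mul_left_cancel₀ hn0 this
  have hle := Finset.card_le_card_of_injOn (fun s => 1 - n * s) hmaps hinj
  have hlt := Finset.card_erase_lt_of_mem h1Q
  omega

theorem nonsq_mul_nonsq {k : Type*} [Field k] [Finite k] {a b : k} (ha : ¬ IsSquare a)
    (hb : ¬ IsSquare b) : IsSquare (a * b) := by
  classical
  have := Fintype.ofFinite k
  have ha0 : a ≠ 0 := fun h => ha (h ▸ IsSquare.zero)
  have hb0 : b ≠ 0 := fun h => hb (h ▸ IsSquare.zero)
  rw [← quadraticChar_one_iff_isSquare (mul_ne_zero ha0 hb0), map_mul,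
    quadraticChar_neg_one_iff_not_isSquare.mpr ha, quadraticChar_neg_one_iff_not_isSquare.mpr hb]
  norm_num

theorem nonsq_inv {k : Type*} [Field k] {a : k} (ha : ¬ IsSquare a) : ¬ IsSquare a⁻¹ := by
  intro h
  apply ha
  have := h.inv
  rwa [inv_inv] at this

namespace Data

variable {k : Type*} [Field k] {G : Type*} [Group G] (D : Data k G)

theorem w_y' (t u : k) (ht : t ≠ 0) : D.w t * D.y u = D.x (-(t * t * u)) * D.w t := by
  rw [← D.w_y t u ht]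
  have := D.w_neg_mul_w t
  calc D.w t * D.y u = D.w t * D.y u * 1 := by group
    _ = D.w t * D.y u * (D.w (-t) * D.w t) := by rw [this]
    _ = D.w t * D.y u * D.w (-t) * D.w t := by group

theorem w_x' (t u : k) (ht : t ≠ 0) : D.w t * D.x u = D.y (-(t⁻¹ * t⁻¹ * u)) * D.w t := by
  rw [← D.w_x t u ht]
  have := D.w_neg_mul_w t
  calc D.w t * D.x u = D.w t * D.x u * 1 := by group
    _ = D.w t * D.x u * (D.w (-t) * D.w t) := by rw [this]
    _ = D.w t * D.x u * D.w (-t) * D.w t := by group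

theorem h_x' (t u : k) (ht : t ≠ 0) : D.h t * D.x u = D.x (t * t * u) * D.h t := by
  rw [← D.h_x t u ht]
  group

theorem h_y' (t u : k) (ht : t ≠ 0) : D.h t * D.y u = D.y (t⁻¹ * t⁻¹ * u) * D.h t := by
  rw [← D.h_y t u ht]
  group

theorem hinv_y (t r : k) (ht : t ≠ 0) : (D.h t)⁻¹ * D.y r = D.y (t * t * r) * (D.h t)⁻¹ := by
  have h1 := D.h_y' t (t * t * r) ht
  have e : t⁻¹ * t⁻¹ * (t * t * r) = r := by field_simp
  rw [e] at h1
  calc (D.h t)⁻¹ * D.y r = (D.h t)⁻¹ * (D.y r * D.h t) * (D.h t)⁻¹ := by group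
    _ = (D.h t)⁻¹ * (D.h t * D.y (t * t * r)) * (D.h t)⁻¹ := by rw [h1]
    _ = _ := by group

theorem hinv_x (t r : k) (ht : t ≠ 0) :
    (D.h t)⁻¹ * D.x r = D.x (t⁻¹ * t⁻¹ * r) * (D.h t)⁻¹ := by
  have h1 := D.h_x' t (t⁻¹ * t⁻¹ * r) ht
  have e : t * t * (t⁻¹ * t⁻¹ * r) = r := by field_simp
  rw [e] at h1
  calc (D.h t)⁻¹ * D.x r = (D.h t)⁻¹ * (D.x r * D.h t) * (D.h t)⁻¹ := by group
    _ = (D.h t)⁻¹ * (D.h t * D.x (t⁻¹ * t⁻¹ * r)) * (D.h t)⁻¹ := by rw [h1]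
    _ = _ := by group

/-- the key relation coming from `x(1) x(-t) = x(1-t)` -/
theorem star_w (t : k) (ht : t ≠ 0) (ht1 : t ≠ 1) :
    D.w ((1 - t) / t) = D.w (1 - t) * D.h t := by
  have h1t : 1 - t ≠ 0 := sub_ne_zero.mpr (Ne.symm ht1)
  have hs : (1 - t) / t ≠ 0 := div_ne_zero h1t ht
  set s := (1 - t) / t with hsdef
  set q := (1 - t)⁻¹ with hqdef
  have E1 : D.x 1 = D.y 1 * D.w 1 * D.y 1 := by
    have := D.x_eq 1 one_ne_zero
    rwa [inv_one] at this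
  have E2 : D.x (-t) = D.y (-t)⁻¹ * D.w (-t) * D.y (-t)⁻¹ := D.x_eq (-t) (neg_ne_zero.mpr ht)
  have E3 : D.x s = D.y s⁻¹ * D.w s * D.y s⁻¹ := D.x_eq s hs
  have E4 : D.x (1 - t) = D.y q * D.w (1 - t) * D.y q := D.x_eq (1 - t) h1t
  have F1 : D.w 1 * D.y (1 + (-t)⁻¹) = D.x s * D.w 1 := by
    rw [D.w_y' 1 _ one_ne_zero]
    congr 2
    rw [hsdef]
    field_simp
    ring
  have F2 : D.w 1 * D.w (-t) = (D.h t)⁻¹ := (D.h_inv t).symm
  have F3 : (D.h t)⁻¹ * D.y (-t)⁻¹ = D.y (t * t * (-t)⁻¹) * (D.h t)⁻¹ := D.hinv_y t _ ht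
  have F4 : D.y (t * t * q) * (D.h t)⁻¹ = (D.h t)⁻¹ * D.y q := (D.hinv_y t q ht).symm
  have e1 : (1 : k) + s⁻¹ = q := by
    rw [hsdef, hqdef]
    field_simp
    ring
  have e2 : s⁻¹ + t * t * (-t)⁻¹ = t * t * q := by
    rw [hsdef, hqdef]
    field_simp
    ring
  have key : D.y q * D.w (1 - t) * D.y q = D.y q * (D.w s * (D.h t)⁻¹) * D.y q := by
    calc D.y q * D.w (1 - t) * D.y q = D.x (1 - t) := E4.symm
      _ = D.x 1 * D.x (-t) := by rw [← D.x_add, sub_eq_add_neg]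
      _ = D.y 1 * D.w 1 * D.y 1 * (D.y (-t)⁻¹ * D.w (-t) * D.y (-t)⁻¹) := by rw [E1, E2]
      _ = D.y 1 * (D.w 1 * (D.y 1 * D.y (-t)⁻¹)) * D.w (-t) * D.y (-t)⁻¹ := by group
      _ = D.y 1 * (D.w 1 * D.y (1 + (-t)⁻¹)) * D.w (-t) * D.y (-t)⁻¹ := by rw [D.y_add]
      _ = D.y 1 * (D.x s * D.w 1) * D.w (-t) * D.y (-t)⁻¹ := by rw [F1]
      _ = D.y 1 * D.x s * ((D.w 1 * D.w (-t)) * D.y (-t)⁻¹) := by group
      _ = D.y 1 * D.x s * (D.y (t * t * (-t)⁻¹) * (D.h t)⁻¹) := by rw [F2, F3]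
      _ = D.y 1 * (D.y s⁻¹ * D.w s * D.y s⁻¹) * (D.y (t * t * (-t)⁻¹) * (D.h t)⁻¹) := by rw [E3]
      _ = (D.y 1 * D.y s⁻¹) * D.w s * (D.y s⁻¹ * D.y (t * t * (-t)⁻¹)) * (D.h t)⁻¹ := by group
      _ = D.y q * D.w s * D.y (t * t * q) * (D.h t)⁻¹ := by
          rw [← D.y_add, ← D.y_add, e1, e2]
      _ = D.y q * D.w s * (D.y (t * t * q) * (D.h t)⁻¹) := by group
      _ = D.y q * D.w s * ((D.h t)⁻¹ * D.y q) := by rw [F4]
      _ = D.y q * (D.w s * (D.h t)⁻¹) * D.y q := by group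
  have key2 : D.w (1 - t) = D.w s * (D.h t)⁻¹ := by
    have := mul_right_cancel key
    exact mul_left_cancel this
  rw [key2]
  group

theorem star_h (t : k) (ht : t ≠ 0) (ht1 : t ≠ 1) :
    D.h ((1 - t) / t) = D.h (1 - t) * D.h t⁻¹ := by
  have h1 := D.star_w t ht ht1
  have h2 := D.w_h t ht
  have h3 := D.w_neg_mul_w 1
  calc D.h ((1 - t) / t) = D.w ((1 - t) / t) * D.w (-1) := rfl
    _ = D.w (1 - t) * D.h t * D.w (-1) := by rw [h1]
    _ = D.w (1 - t) * 1 * D.h t * D.w (-1) := by group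
    _ = D.w (1 - t) * (D.w (-1) * D.w 1) * D.h t * D.w (-1) := by rw [h3]
    _ = (D.w (1 - t) * D.w (-1)) * (D.w 1 * D.h t * D.w (-1)) := by group
    _ = D.h (1 - t) * D.h t⁻¹ := by rw [h2]; rfl

/-- elements commuting with all `x(v)` and `y(v)` -/
def IsZ (z : G) : Prop := ∀ v, Commute z (D.x v) ∧ Commute z (D.y v)

theorem isZ_one : D.IsZ 1 := fun _ => ⟨Commute.one_left _, Commute.one_left _⟩

theorem IsZ.mul {z z' : G} (hz : D.IsZ z) (hz' : D.IsZ z') : D.IsZ (z * z') :=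
  fun v => ⟨(hz v).1.mul_left (hz' v).1, (hz v).2.mul_left (hz' v).2⟩

theorem IsZ.inv {z : G} (hz : D.IsZ z) : D.IsZ z⁻¹ :=
  fun v => ⟨(hz v).1.inv_left, (hz v).2.inv_left⟩

theorem IsZ.comm_w {z : G} (hz : D.IsZ z) (t : k) : Commute z (D.w t) := by
  unfold w
  exact ((hz t).1.mul_right (hz _).2).mul_right (hz t).1

theorem IsZ.comm_h {z : G} (hz : D.IsZ z) (t : k) : Commute z (D.h t) := by
  unfold h
  exact (hz.comm_w D t).mul_right (hz.comm_w D _)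

theorem isZ_c (t u : k) (ht : t ≠ 0) (hu : u ≠ 0) :
    D.IsZ (D.h t * D.h u * (D.h (t * u))⁻¹) := by
  have htu : t * u ≠ 0 := mul_ne_zero ht hu
  intro v
  constructor
  · show D.h t * D.h u * (D.h (t * u))⁻¹ * D.x v = D.x v * (D.h t * D.h u * (D.h (t * u))⁻¹)
    have e : t * t * (u * u * ((t * u)⁻¹ * (t * u)⁻¹ * v)) = v := by field_simp
    calc D.h t * D.h u * (D.h (t * u))⁻¹ * D.x v
        = D.h t * D.h u * ((D.h (t * u))⁻¹ * D.x v) := by group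
      _ = D.h t * D.h u * (D.x ((t * u)⁻¹ * (t * u)⁻¹ * v) * (D.h (t * u))⁻¹) := by
          rw [D.hinv_x _ _ htu]
      _ = D.h t * (D.h u * D.x ((t * u)⁻¹ * (t * u)⁻¹ * v)) * (D.h (t * u))⁻¹ := by group
      _ = D.h t * (D.x (u * u * ((t * u)⁻¹ * (t * u)⁻¹ * v)) * D.h u) * (D.h (t * u))⁻¹ := by
          rw [D.h_x' _ _ hu]
      _ = (D.h t * D.x (u * u * ((t * u)⁻¹ * (t * u)⁻¹ * v))) * D.h u * (D.h (t * u))⁻¹ := by
          group
      _ = (D.x (t * t * (u * u * ((t * u)⁻¹ * (t * u)⁻¹ * v))) * D.h t) * D.h u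
            * (D.h (t * u))⁻¹ := by rw [D.h_x' _ _ ht]
      _ = D.x v * (D.h t * D.h u * (D.h (t * u))⁻¹) := by rw [e]; group
  · show D.h t * D.h u * (D.h (t * u))⁻¹ * D.y v = D.y v * (D.h t * D.h u * (D.h (t * u))⁻¹)
    have e : t⁻¹ * t⁻¹ * (u⁻¹ * u⁻¹ * ((t * u) * (t * u) * v)) = v := by field_simp
    calc D.h t * D.h u * (D.h (t * u))⁻¹ * D.y v
        = D.h t * D.h u * ((D.h (t * u))⁻¹ * D.y v) := by group
      _ = D.h t * D.h u * (D.y ((t * u) * (t * u) * v) * (D.h (t * u))⁻¹) := by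
          rw [D.hinv_y _ _ htu]
      _ = D.h t * (D.h u * D.y ((t * u) * (t * u) * v)) * (D.h (t * u))⁻¹ := by group
      _ = D.h t * (D.y (u⁻¹ * u⁻¹ * ((t * u) * (t * u) * v)) * D.h u) * (D.h (t * u))⁻¹ := by
          rw [D.h_y' _ _ hu]
      _ = (D.h t * D.y (u⁻¹ * u⁻¹ * ((t * u) * (t * u) * v))) * D.h u * (D.h (t * u))⁻¹ := by
          group
      _ = (D.y (t⁻¹ * t⁻¹ * (u⁻¹ * u⁻¹ * ((t * u) * (t * u) * v))) * D.h t) * D.h u
            * (D.h (t * u))⁻¹ := by rw [D.h_y' _ _ ht]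
      _ = D.y v * (D.h t * D.h u * (D.h (t * u))⁻¹) := by rw [e]; group

/-! ### Finite fields -/

section Finite

variable [Finite k]

/-- the `h(t)` commute pairwise (the unit group of `k` is cyclic) -/
theorem h_comm (t u : k) (ht : t ≠ 0) (hu : u ≠ 0) : Commute (D.h t) (D.h u) := by
  obtain ⟨g, hg⟩ := IsCyclic.exists_monoid_generator (α := kˣ)
  have key : ∀ n : ℕ, ∃ z, D.IsZ z ∧ D.h (((g : kˣ) : k) ^ n) = z * (D.h (g : k)) ^ n := by
    intro n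
    induction n with
    | zero => exact ⟨1, D.isZ_one, by rw [pow_zero, pow_zero, D.h_one, one_mul]⟩
    | succ n ih =>
      obtain ⟨z, hz, hzn⟩ := ih
      have hg0 : ((g : kˣ) : k) ≠ 0 := g.ne_zero
      have hgn : ((g : kˣ) : k) ^ n ≠ 0 := pow_ne_zero n hg0
      have hc := D.isZ_c (g : k) ((g : k) ^ n) hg0 hgn
      refine ⟨(D.h (g : k) * D.h ((g : k) ^ n) * (D.h ((g : k) * (g : k) ^ n))⁻¹)⁻¹ * z,
        (hc.inv D).mul D hz, ?_⟩
      have hcomm : z * D.h (g : k) = D.h (g : k) * z := (hz.comm_h D _).eq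
      rw [pow_succ' ((g : kˣ) : k) n, pow_succ' (D.h (g : k)) n]
      calc D.h ((g : k) * (g : k) ^ n)
          = (D.h (g : k) * D.h ((g : k) ^ n) * (D.h ((g : k) * (g : k) ^ n))⁻¹)⁻¹
              * (D.h (g : k) * D.h ((g : k) ^ n)) := by group
        _ = (D.h (g : k) * D.h ((g : k) ^ n) * (D.h ((g : k) * (g : k) ^ n))⁻¹)⁻¹
              * (D.h (g : k) * (z * D.h (g : k) ^ n)) := by rw [hzn]
        _ = (D.h (g : k) * D.h ((g : k) ^ n) * (D.h ((g : k) * (g : k) ^ n))⁻¹)⁻¹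
              * ((D.h (g : k) * z) * D.h (g : k) ^ n) := by group
        _ = (D.h (g : k) * D.h ((g : k) ^ n) * (D.h ((g : k) * (g : k) ^ n))⁻¹)⁻¹
              * ((z * D.h (g : k)) * D.h (g : k) ^ n) := by rw [hcomm]
        _ = _ := by group
  obtain ⟨n, hn⟩ := hg (Units.mk0 t ht)
  obtain ⟨m, hm⟩ := hg (Units.mk0 u hu)
  have hn' : ((g : kˣ) : k) ^ n = t := by
    have := congrArg (fun v : kˣ => (v : k)) hn
    simpa using this
  have hm' : ((g : kˣ) : k) ^ m = u := by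
    have := congrArg (fun v : kˣ => (v : k)) hm
    simpa using this
  obtain ⟨z, hz, hzn⟩ := key n
  obtain ⟨z', hz', hzm⟩ := key m
  rw [← hn', ← hm', hzn, hzm]
  have c1 : Commute z (D.h (g : k) ^ m) := (hz.comm_h D _).pow_right m
  have c2 : Commute z' (D.h (g : k) ^ n) := (hz'.comm_h D _).pow_right n
  have c3 : Commute z z' := by
    -- z' commutes with h's, but z with z'? use that z = h(g^n) * (h g ^ n)⁻¹
    have hz_eq : z = D.h ((g : k) ^ n) * (D.h (g : k) ^ n)⁻¹ := by rw [hzn]; group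
    rw [hz_eq]
    exact ((hz'.comm_h D _).symm).mul_left ((hz'.comm_h D _).pow_right n).symm.inv_left
  have c4 : Commute (D.h (g : k) ^ n) (D.h (g : k) ^ m) := (Commute.refl _).pow_pow n m
  exact (c3.mul_right c1).mul_left ((c2.symm).mul_right c4)

theorem h_mul_sq (r u : k) (hr : r ≠ 0) (hu : u ≠ 0) :
    D.h (r * r * u) = D.h (r * r) * D.h u := by
  have h1 := D.h_h r u hr hu
  have h2 : D.h r * D.h u * (D.h r)⁻¹ = D.h u := by
    rw [(D.h_comm r u hr hu).eq]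
    group
  rw [h2] at h1
  have hrr : r * r ≠ 0 := mul_ne_zero hr hr
  have h3 : D.h (r * r * u) = D.h u * D.h (r * r) := by
    rw [h1]; group
  rw [h3, (D.h_comm u (r * r) hu hrr).eq]

theorem h_mul_of_isSquare (s u : k) (hs : s ≠ 0) (hu : u ≠ 0) (hsq : IsSquare s) :
    D.h (s * u) = D.h s * D.h u := by
  obtain ⟨r, rfl⟩ := hsq
  have hr : r ≠ 0 := fun h => hs (by rw [h, mul_zero])
  exact D.h_mul_sq r u hr hu

/-- there is a non-square `t₀` with `h(t₀) h(t₀⁻¹) = 1` -/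
theorem exists_nonsq_h_inv (hns : ∃ n : k, ¬ IsSquare n) :
    ∃ t : k, t ≠ 0 ∧ ¬ IsSquare t ∧ D.h t * D.h t⁻¹ = 1 := by
  obtain ⟨t, ht0, ht1, htn, htn'⟩ := exists_nonsq_pair hns
  refine ⟨t, ht0, htn, ?_⟩
  have h1t : 1 - t ≠ 0 := sub_ne_zero.mpr (Ne.symm ht1)
  have hσ0 : (1 - t) / t ≠ 0 := div_ne_zero h1t ht0
  have hσ : IsSquare ((1 - t) / t) := by
    rw [div_eq_mul_inv]
    exact nonsq_mul_nonsq htn' (nonsq_inv htn)
  have h1 := D.star_h t ht0 ht1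
  have h2 : D.h (1 - t) = D.h ((1 - t) / t) * D.h t := by
    have := D.h_mul_of_isSquare ((1 - t) / t) t hσ0 ht0 hσ
    rwa [div_mul_cancel₀ _ ht0] at this
  rw [h2] at h1
  have h3 : D.h ((1 - t) / t) * 1 = D.h ((1 - t) / t) * (D.h t * D.h t⁻¹) := by
    rw [mul_one, ← mul_assoc]
    exact h1
  exact (mul_left_cancel h3).symm

/-- **(C)**: over a finite field `h` is multiplicative. -/
theorem h_mul (t u : k) (ht : t ≠ 0) (hu : u ≠ 0) : D.h (t * u) = D.h t * D.h u := by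
  by_cases hts : IsSquare t
  · exact D.h_mul_of_isSquare t u ht hu hts
  by_cases hus : IsSquare u
  · rw [mul_comm, D.h_mul_of_isSquare u t hu ht hus, (D.h_comm u t hu ht).eq]
  obtain ⟨t₀, ht₀, hn₀, hinv⟩ := D.exists_nonsq_h_inv ⟨t, hts⟩
  have ht₀' : t₀⁻¹ ≠ 0 := inv_ne_zero ht₀
  have hs1 : IsSquare (t * t₀⁻¹) := nonsq_mul_nonsq hts (nonsq_inv hn₀)
  have hs2 : IsSquare (u * t₀) := nonsq_mul_nonsq hus hn₀
  have hs10 : t * t₀⁻¹ ≠ 0 := mul_ne_zero ht ht₀'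
  have hs20 : u * t₀ ≠ 0 := mul_ne_zero hu ht₀
  have e1 : D.h t = D.h (t * t₀⁻¹) * D.h t₀ := by
    have := D.h_mul_of_isSquare (t * t₀⁻¹) t₀ hs10 ht₀ hs1
    rwa [inv_mul_cancel_right₀ ht₀] at this
  have e2 : D.h u = D.h (u * t₀) * D.h t₀⁻¹ := by
    have := D.h_mul_of_isSquare (u * t₀) t₀⁻¹ hs20 ht₀' hs2
    rwa [mul_inv_cancel_right₀ ht₀] at this
  have e3 : D.h (t * u) = D.h (t * t₀⁻¹) * D.h (u * t₀) := by
    have := D.h_mul_of_isSquare (t * t₀⁻¹) (u * t₀) hs10 hs20 hs1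
    rw [← this]
    congr 1
    field_simp
  have c := (D.h_comm t₀ (u * t₀) ht₀ hs20).eq
  rw [e3, e1, e2]
  calc D.h (t * t₀⁻¹) * D.h (u * t₀)
      = D.h (t * t₀⁻¹) * D.h (u * t₀) * 1 := by group
    _ = D.h (t * t₀⁻¹) * D.h (u * t₀) * (D.h t₀ * D.h t₀⁻¹) := by rw [hinv]
    _ = D.h (t * t₀⁻¹) * (D.h (u * t₀) * D.h t₀) * D.h t₀⁻¹ := by group
    _ = D.h (t * t₀⁻¹) * (D.h t₀ * D.h (u * t₀)) * D.h t₀⁻¹ := by rw [c]
    _ = _ := by group

end Finite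

end Data

end Cfsg.Agent.Lib.Helper8.St
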