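import Mathlib
import Cfsg.Agent.Lib.Helper8.St2

set_option autoImplicit false
set_option linter.unusedSimpArgs false
set_option linter.unusedVariables false

/-!
# Steinberg relations for `SL₂`: from multiplicativity of `h` to a homomorphism from `SL₂(k)`
-/

namespace Cfsg.Agent.Lib.Helper8.St

namespace Data

variable {k : Type*} [Field k] {G : Type*} [Group G] (D : Data k G)

/-- the relation (C) -/
def Mult : Prop := ∀ t u : k, t ≠ 0 → u ≠ 0 → D.h (t * u) = D.h t * D.h u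

variable {D}

theorem Mult.h_neg_one_sq (hC : D.Mult) : D.h (-1) * D.h (-1) = 1 := by
  rw [← hC (-1) (-1) (by simp) (by simp)]
  have : (-1 : k) * -1 = 1 := by ring
  rw [this, D.h_one]

theorem Mult.w_one_sq (hC : D.Mult) : D.w 1 * D.w 1 = D.h (-1) := by
  have h1 := hC.h_neg_one_sq
  have h2 : D.h (-1) = D.w (-1) * D.w (-1) := rfl
  have h3 : D.w (-1) = (D.w 1)⁻¹ := D.w_neg 1
  have h4 : D.h (-1) = (D.h (-1))⁻¹ := eq_inv_of_mul_eq_one_left h1
  rw [h4, h2, h3, mul_inv_rev, inv_inv]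

theorem Mult.w_x_w (hC : D.Mult) (j : k) (hj : j ≠ 0) :
    D.w 1 * D.x j * D.w 1 = D.x (-j⁻¹) * D.h (-j⁻¹) * D.w 1 * D.x (-j⁻¹) := by
  have E : D.x j = D.y j⁻¹ * D.w j * D.y j⁻¹ := D.x_eq j hj
  have F1 : D.w 1 * D.y j⁻¹ = D.x (-j⁻¹) * D.w 1 := by
    rw [D.w_y' 1 _ one_ne_zero, one_mul, one_mul]
  have F2 : D.y j⁻¹ * D.w 1 = D.w 1 * D.x (-j⁻¹) := by
    rw [D.w_x' 1 _ one_ne_zero]
    congr 2
    simp
  have F3 : D.w j = D.h j * D.w 1 := by
    have : D.h j = D.w j * D.w (-1) := rfl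
    rw [this, D.w_neg 1]
    group
  have F4 : D.w 1 * D.h j * D.w (-1) = D.h j⁻¹ := D.w_h j hj
  have F5 : D.h j⁻¹ * D.h (-1) = D.h (-j⁻¹) := by
    rw [← hC _ _ (inv_ne_zero hj) (by simp)]
    congr 1
    ring
  have F6 := hC.w_one_sq
  have F7 : D.w (-1) * D.w 1 = 1 := D.w_neg_mul_w 1
  calc D.w 1 * D.x j * D.w 1 = D.w 1 * (D.y j⁻¹ * D.w j * D.y j⁻¹) * D.w 1 := by rw [← E]
    _ = (D.w 1 * D.y j⁻¹) * D.w j * (D.y j⁻¹ * D.w 1) := by group
    _ = (D.x (-j⁻¹) * D.w 1) * (D.h j * D.w 1) * (D.w 1 * D.x (-j⁻¹)) := by rw [F1, F2, F3]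
    _ = D.x (-j⁻¹) * (D.w 1 * D.h j * 1) * (D.w 1 * D.w 1) * D.x (-j⁻¹) := by group
    _ = D.x (-j⁻¹) * (D.w 1 * D.h j * (D.w (-1) * D.w 1)) * (D.w 1 * D.w 1) * D.x (-j⁻¹) := by
        rw [F7]
    _ = D.x (-j⁻¹) * (D.w 1 * D.h j * D.w (-1)) * D.w 1 * (D.w 1 * D.w 1) * D.x (-j⁻¹) := by
        group
    _ = D.x (-j⁻¹) * D.h j⁻¹ * D.w 1 * D.h (-1) * D.x (-j⁻¹) := by rw [F4, F6]
    _ = D.x (-j⁻¹) * D.h j⁻¹ * (D.w 1 * (D.w 1 * D.w 1)) * D.x (-j⁻¹) := by rw [F6]; group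
    _ = D.x (-j⁻¹) * D.h j⁻¹ * ((D.w 1 * D.w 1) * D.w 1) * D.x (-j⁻¹) := by group
    _ = D.x (-j⁻¹) * (D.h j⁻¹ * D.h (-1)) * D.w 1 * D.x (-j⁻¹) := by rw [F6]; group
    _ = _ := by rw [F5]

variable (D)

/-- the candidate image of the matrix `[[a, b], [c, d]]` (Bruhat normal form) -/
noncomputable def phi4 (a b c d : k) : G :=
  open Classical in
  if c = 0 then D.x (a * b) * D.h a else D.x (a / c) * D.h (-1 / c) * D.w 1 * D.x (d / c)

theorem phi4_of_eq (a b d : k) : D.phi4 a b 0 d = D.x (a * b) * D.h a := by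
  unfold phi4
  rw [if_pos rfl]

theorem phi4_of_ne (a b c d : k) (hc : c ≠ 0) :
    D.phi4 a b c d = D.x (a / c) * D.h (-1 / c) * D.w 1 * D.x (d / c) := by
  unfold phi4
  rw [if_neg hc]

theorem phi4_x {a b c d b' d' u : k} (hdet : a * d - b * c = 1) (hb' : b' = a * u + b)
    (hd' : d' = c * u + d) : D.phi4 a b' c d' = D.phi4 a b c d * D.x u := by
  subst hb' hd'
  by_cases hc : c = 0
  · subst hc
    have ha : a ≠ 0 := by
      intro h
      rw [h] at hdet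
      simp at hdet
    rw [D.phi4_of_eq, D.phi4_of_eq]
    have e : a * (a * u + b) = a * b + a * a * u := by ring
    rw [e, D.x_add]
    calc D.x (a * b) * D.x (a * a * u) * D.h a = D.x (a * b) * (D.x (a * a * u) * D.h a) := by
          group
      _ = D.x (a * b) * (D.h a * D.x u) := by rw [D.h_x' a u ha]
      _ = _ := by group
  · rw [D.phi4_of_ne _ _ _ _ hc, D.phi4_of_ne _ _ _ _ hc]
    have e : (c * u + d) / c = d / c + u := by field_simp; ring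
    rw [e, D.x_add]
    group

variable {D}

theorem Mult.phi4_w (hC : D.Mult) {a b c d a' b' c' d' : k} (hdet : a * d - b * c = 1)
    (ha' : a' = -b) (hb' : b' = a) (hc' : c' = -d) (hd' : d' = c) :
    D.phi4 a' b' c' d' = D.phi4 a b c d * D.w 1 := by
  subst a' b' c' d'
  by_cases hc : c = 0
  · subst hc
    have had : a * d = 1 := by simpa using hdet
    have hd : d ≠ 0 := right_ne_zero_of_mul_eq_one had
    have ha : a = d⁻¹ := eq_inv_of_mul_eq_one_left had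
    rw [D.phi4_of_eq, D.phi4_of_ne _ _ _ _ (neg_ne_zero.mpr hd)]
    have e1 : -b / -d = a * b := by rw [ha]; field_simp
    have e2 : -1 / -d = a := by rw [ha]; field_simp
    have e3 : (0 : k) / -d = 0 := zero_div _
    rw [e1, e2, e3, D.x_zero, mul_one]
  · by_cases hd : d = 0
    · subst hd
      have hbc : b * c = -1 := by
        have : -(b * c) = 1 := by simpa using hdet
        rw [← this, neg_neg]
      have hb : b = -c⁻¹ := by
        field_simp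
        exact hbc
      have hc0 : -(0 : k) = 0 := neg_zero
      rw [hc0, D.phi4_of_eq, D.phi4_of_ne _ _ _ _ hc, zero_div, D.x_zero, mul_one]
      have e1 : -b * a = a / c := by rw [hb]; field_simp
      have e2 : -b = -1 / c * -1 := by rw [hb]; field_simp
      have hcc : -1 / c ≠ 0 := div_ne_zero (by simp) hc
      rw [e1, e2, hC _ _ hcc (by simp), ← hC.w_one_sq]
      group
    · rw [D.phi4_of_ne _ _ _ _ (neg_ne_zero.mpr hd), D.phi4_of_ne _ _ _ _ hc]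
      have hj : d / c ≠ 0 := div_ne_zero hd hc
      have hcc : -1 / c ≠ 0 := div_ne_zero (by simp) hc
      have hjj : -(d / c)⁻¹ ≠ 0 := neg_ne_zero.mpr (inv_ne_zero hj)
      have W := hC.w_x_w (d / c) hj
      have e1 : -b / -d = a / c + (-1 / c) * (-1 / c) * (-(d / c)⁻¹) := by
        have hb : b = (a * d - 1) / c := by
          field_simp
          linear_combination -hdet
        rw [hb]
        field_simp
        ring
      have e2 : -1 / -d = (-1 / c) * (-(d / c)⁻¹) := by field_simp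
      have e3 : c / -d = -(d / c)⁻¹ := by field_simp
      rw [e1, e2, e3, D.x_add, hC _ _ hcc hjj]
      calc D.x (a / c) * D.x (-1 / c * (-1 / c) * -(d / c)⁻¹) * (D.h (-1 / c) * D.h (-(d / c)⁻¹))
            * D.w 1 * D.x (-(d / c)⁻¹)
          = D.x (a / c) * (D.x (-1 / c * (-1 / c) * -(d / c)⁻¹) * D.h (-1 / c))
            * D.h (-(d / c)⁻¹) * D.w 1 * D.x (-(d / c)⁻¹) := by group
        _ = D.x (a / c) * (D.h (-1 / c) * D.x (-(d / c)⁻¹))
            * D.h (-(d / c)⁻¹) * D.w 1 * D.x (-(d / c)⁻¹) := by rw [D.h_x' _ _ hcc]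
        _ = D.x (a / c) * D.h (-1 / c) * (D.x (-(d / c)⁻¹)
            * D.h (-(d / c)⁻¹) * D.w 1 * D.x (-(d / c)⁻¹)) := by group
        _ = D.x (a / c) * D.h (-1 / c) * (D.w 1 * D.x (d / c) * D.w 1) := by rw [W]
        _ = _ := by group

end Data


open Matrix

section SL2

variable {k : Type*} [Field k]

def xS (u : k) : SpecialLinearGroup (Fin 2) k := ⟨!![1, u; 0, 1], by simp [Matrix.det_fin_two]⟩

def yS (u : k) : SpecialLinearGroup (Fin 2) k := ⟨!![1, 0; u, 1], by simp [Matrix.det_fin_two]⟩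

theorem sl2_ext {g g' : SpecialLinearGroup (Fin 2) k} (h00 : g.1 0 0 = g'.1 0 0)
    (h01 : g.1 0 1 = g'.1 0 1) (h10 : g.1 1 0 = g'.1 1 0) (h11 : g.1 1 1 = g'.1 1 1) : g = g' := by
  apply Subtype.ext
  ext i j
  fin_cases i <;> fin_cases j <;> assumption

theorem sl2_mul_00 (g g' : SpecialLinearGroup (Fin 2) k) :
    (g * g').1 0 0 = g.1 0 0 * g'.1 0 0 + g.1 0 1 * g'.1 1 0 := by
  show (g.1 * g'.1) 0 0 = _
  rw [Matrix.mul_apply, Fin.sum_univ_two]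

theorem sl2_mul_01 (g g' : SpecialLinearGroup (Fin 2) k) :
    (g * g').1 0 1 = g.1 0 0 * g'.1 0 1 + g.1 0 1 * g'.1 1 1 := by
  show (g.1 * g'.1) 0 1 = _
  rw [Matrix.mul_apply, Fin.sum_univ_two]

theorem sl2_mul_10 (g g' : SpecialLinearGroup (Fin 2) k) :
    (g * g').1 1 0 = g.1 1 0 * g'.1 0 0 + g.1 1 1 * g'.1 1 0 := by
  show (g.1 * g'.1) 1 0 = _
  rw [Matrix.mul_apply, Fin.sum_univ_two]

theorem sl2_mul_11 (g g' : SpecialLinearGroup (Fin 2) k) :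
    (g * g').1 1 1 = g.1 1 0 * g'.1 0 1 + g.1 1 1 * g'.1 1 1 := by
  show (g.1 * g'.1) 1 1 = _
  rw [Matrix.mul_apply, Fin.sum_univ_two]

theorem sl2_det (g : SpecialLinearGroup (Fin 2) k) :
    g.1 0 0 * g.1 1 1 - g.1 0 1 * g.1 1 0 = 1 := by
  have := g.2
  rwa [Matrix.det_fin_two] at this

@[simp] theorem xS_00 (u : k) : (xS u).1 0 0 = 1 := rfl
@[simp] theorem xS_01 (u : k) : (xS u).1 0 1 = u := rfl
@[simp] theorem xS_10 (u : k) : (xS u).1 1 0 = 0 := rfl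
@[simp] theorem xS_11 (u : k) : (xS u).1 1 1 = 1 := rfl
@[simp] theorem yS_00 (u : k) : (yS u).1 0 0 = 1 := rfl
@[simp] theorem yS_01 (u : k) : (yS u).1 0 1 = 0 := rfl
@[simp] theorem yS_10 (u : k) : (yS u).1 1 0 = u := rfl
@[simp] theorem yS_11 (u : k) : (yS u).1 1 1 = 1 := rfl

theorem xS_add (s t : k) : xS (s + t) = xS s * xS t := by
  apply sl2_ext <;> simp [sl2_mul_00, sl2_mul_01, sl2_mul_10, sl2_mul_11] <;> ring

theorem yS_add (s t : k) : yS (s + t) = yS s * yS t := by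
  apply sl2_ext <;> simp [sl2_mul_00, sl2_mul_01, sl2_mul_10, sl2_mul_11]

/-- the matrix `[[0, t], [-t⁻¹, 0]]` -/
def wS (t : k) : SpecialLinearGroup (Fin 2) k := xS t * yS (-t⁻¹) * xS t

theorem wS_00 (t : k) (ht : t ≠ 0) : (wS t).1 0 0 = 0 := by
  simp [wS, sl2_mul_00, sl2_mul_01, sl2_mul_10, sl2_mul_11, ht]
theorem wS_01 (t : k) (ht : t ≠ 0) : (wS t).1 0 1 = t := by
  simp [wS, sl2_mul_00, sl2_mul_01, sl2_mul_10, sl2_mul_11, ht]
theorem wS_10 (t : k) (ht : t ≠ 0) : (wS t).1 1 0 = -t⁻¹ := by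
  simp [wS, sl2_mul_00, sl2_mul_01, sl2_mul_10, sl2_mul_11, ht]
theorem wS_11 (t : k) (ht : t ≠ 0) : (wS t).1 1 1 = 0 := by
  simp [wS, sl2_mul_00, sl2_mul_01, sl2_mul_10, sl2_mul_11, ht]

theorem relS (t u : k) (ht : t ≠ 0) :
    (xS t * yS (-t⁻¹) * xS t) * xS u * (xS t * yS (-t⁻¹) * xS t)⁻¹ = yS (-(t⁻¹ * t⁻¹ * u)) := by
  rw [mul_inv_eq_iff_eq_mul]
  change wS t * xS u = yS (-(t⁻¹ * t⁻¹ * u)) * wS t
  apply sl2_ext <;>
    simp only [sl2_mul_00, sl2_mul_01, sl2_mul_10, sl2_mul_11, wS_00 t ht, wS_01 t ht, wS_10 t ht,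
      wS_11 t ht, xS_00, xS_01, xS_10, xS_11, yS_00, yS_01, yS_10, yS_11] <;>
    field_simp <;> ring


/-- the Steinberg data of `SL₂(k)` itself -/
def DS (k : Type*) [Field k] : Data k (SpecialLinearGroup (Fin 2) k) where
  x := xS
  y := yS
  x_add := xS_add
  y_add := yS_add
  rel := relS

theorem DS_w (t : k) : (DS k).w t = wS t := rfl

theorem DS_h_00 (t : k) (ht : t ≠ 0) : ((DS k).h t).1 0 0 = t := by
  show (wS t * wS (-1)).1 0 0 = t
  rw [sl2_mul_00, wS_00 t ht, wS_01 t ht, wS_10 (-1) (by simp)]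
  simp
  
theorem DS_h_01 (t : k) (ht : t ≠ 0) : ((DS k).h t).1 0 1 = 0 := by
  show (wS t * wS (-1)).1 0 1 = 0
  rw [sl2_mul_01, wS_00 t ht, wS_01 t ht, wS_11 (-1) (by simp)]
  simp

theorem DS_h_10 (t : k) (ht : t ≠ 0) : ((DS k).h t).1 1 0 = 0 := by
  show (wS t * wS (-1)).1 1 0 = 0
  rw [sl2_mul_10, wS_10 t ht, wS_11 t ht, wS_00 (-1) (by simp)]
  simp

theorem DS_h_11 (t : k) (ht : t ≠ 0) : ((DS k).h t).1 1 1 = t⁻¹ := by
  show (wS t * wS (-1)).1 1 1 = t⁻¹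
  rw [sl2_mul_11, wS_10 t ht, wS_11 t ht, wS_01 (-1) (by simp)]
  simp

/-- Bruhat decomposition of `SL₂(k)` -/
theorem bruhat (g : SpecialLinearGroup (Fin 2) k) :
    (DS k).phi4 (g.1 0 0) (g.1 0 1) (g.1 1 0) (g.1 1 1) = g := by
  have hdet := sl2_det g
  by_cases hc : g.1 1 0 = 0
  · rw [hc, Data.phi4_of_eq]
    rw [hc, mul_zero, sub_zero] at hdet
    have ha : g.1 0 0 ≠ 0 := left_ne_zero_of_mul_eq_one hdet
    have hd : g.1 1 1 = (g.1 0 0)⁻¹ := eq_inv_of_mul_eq_one_right hdet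
    apply sl2_ext
    · rw [sl2_mul_00, DS_h_00 _ ha, DS_h_10 _ ha]
      show (xS _).1 0 0 * _ + (xS _).1 0 1 * 0 = _
      simp
    · rw [sl2_mul_01, DS_h_01 _ ha, DS_h_11 _ ha]
      show (xS _).1 0 0 * 0 + (xS _).1 0 1 * _ = _
      simp only [xS_00, xS_01]
      field_simp
      ring
    · rw [sl2_mul_10, DS_h_00 _ ha, DS_h_10 _ ha, hc]
      show (xS _).1 1 0 * _ + (xS _).1 1 1 * 0 = _
      simp
    · rw [sl2_mul_11, DS_h_01 _ ha, DS_h_11 _ ha, hd]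
      show (xS _).1 1 0 * 0 + (xS _).1 1 1 * _ = _
      simp
  · rw [Data.phi4_of_ne _ _ _ _ _ hc]
    have hcc : -1 / g.1 1 0 ≠ 0 := div_ne_zero (by simp) hc
    have hb : g.1 0 1 = (g.1 0 0 * g.1 1 1 - 1) / g.1 1 0 := by
      field_simp
      linear_combination -hdet
    show xS _ * (DS k).h _ * wS 1 * xS _ = g
    apply sl2_ext
    · simp only [sl2_mul_00, sl2_mul_01, sl2_mul_10, sl2_mul_11, DS_h_00 _ hcc, DS_h_01 _ hcc,
        DS_h_10 _ hcc, DS_h_11 _ hcc, wS_00 (1 : k) one_ne_zero, wS_01 (1 : k) one_ne_zero,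
        wS_10 (1 : k) one_ne_zero, wS_11 (1 : k) one_ne_zero, xS_00, xS_01, xS_10, xS_11]
      field_simp
      ring
    · simp only [sl2_mul_00, sl2_mul_01, sl2_mul_10, sl2_mul_11, DS_h_00 _ hcc, DS_h_01 _ hcc,
        DS_h_10 _ hcc, DS_h_11 _ hcc, wS_00 (1 : k) one_ne_zero, wS_01 (1 : k) one_ne_zero,
        wS_10 (1 : k) one_ne_zero, wS_11 (1 : k) one_ne_zero, xS_00, xS_01, xS_10, xS_11]
      rw [hb]
      field_simp
      ring
    · simp only [sl2_mul_00, sl2_mul_01, sl2_mul_10, sl2_mul_11, DS_h_00 _ hcc, DS_h_01 _ hcc,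
        DS_h_10 _ hcc, DS_h_11 _ hcc, wS_00 (1 : k) one_ne_zero, wS_01 (1 : k) one_ne_zero,
        wS_10 (1 : k) one_ne_zero, wS_11 (1 : k) one_ne_zero, xS_00, xS_01, xS_10, xS_11]
      field_simp
      ring
    · simp only [sl2_mul_00, sl2_mul_01, sl2_mul_10, sl2_mul_11, DS_h_00 _ hcc, DS_h_01 _ hcc,
        DS_h_10 _ hcc, DS_h_11 _ hcc, wS_00 (1 : k) one_ne_zero, wS_01 (1 : k) one_ne_zero,
        wS_10 (1 : k) one_ne_zero, wS_11 (1 : k) one_ne_zero, xS_00, xS_01, xS_10, xS_11]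
      field_simp
      ring

end SL2

end Cfsg.Agent.Lib.Helper8.St
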