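import Mathlib
import Cfsg.Agent.Lib.Helper8.St3

set_option autoImplicit false
set_option linter.unusedSimpArgs false
set_option linter.unusedVariables false

/-!
# Steinberg relations for `SL₂`: the homomorphism from `SL₂(k)`
-/

namespace Cfsg.Agent.Lib.Helper8.St

open Matrix

variable {k : Type*} [Field k] {G : Type*} [Group G]

/-- `SL₂(k)` is generated by the elementary matrices -/
theorem closure_xS_wS :
    Subgroup.closure (Set.range (xS (k := k)) ∪ {wS 1}) = ⊤ := by
  rw [eq_top_iff]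
  intro g _
  set T : Subgroup (SpecialLinearGroup (Fin 2) k) :=
    Subgroup.closure (Set.range (xS (k := k)) ∪ {wS 1}) with hT
  have hx : ∀ u, xS u ∈ T := fun u => Subgroup.subset_closure (Or.inl ⟨u, rfl⟩)
  have hw : wS (1 : k) ∈ T := Subgroup.subset_closure (Or.inr rfl)
  have hwn : wS (-1 : k) ∈ T := by
    have : wS (-1 : k) = (wS 1)⁻¹ := (DS k).w_neg 1
    rw [this]
    exact T.inv_mem hw
  have hy : ∀ u, yS u ∈ T := by
    intro u
    have h1 := (DS k).w_x 1 (-u) one_ne_zero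
    have e : -((1 : k)⁻¹ * 1⁻¹ * -u) = u := by simp
    rw [e] at h1
    have h2 : yS u = wS 1 * xS (-u) * wS (-1) := h1.symm
    rw [h2]
    exact T.mul_mem (T.mul_mem hw (hx _)) hwn
  have hwt : ∀ t, wS t ∈ T := fun t => T.mul_mem (T.mul_mem (hx t) (hy _)) (hx t)
  have hh : ∀ t, (DS k).h t ∈ T := fun t => T.mul_mem (hwt t) hwn
  rw [← bruhat g]
  unfold Data.phi4
  split_ifs
  · exact T.mul_mem (hx _) (hh _)
  · exact T.mul_mem (T.mul_mem (T.mul_mem (hx _) (hh _)) hw) (hx _)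

theorem closure_xS_yS :
    Subgroup.closure (Set.range (xS (k := k)) ∪ Set.range (yS (k := k))) = ⊤ := by
  rw [eq_top_iff, ← closure_xS_wS, Subgroup.closure_le]
  set T : Subgroup (SpecialLinearGroup (Fin 2) k) :=
    Subgroup.closure (Set.range (xS (k := k)) ∪ Set.range (yS (k := k))) with hT
  have hx : ∀ u, xS u ∈ T := fun u => Subgroup.subset_closure (Or.inl ⟨u, rfl⟩)
  have hy : ∀ u, yS u ∈ T := fun u => Subgroup.subset_closure (Or.inr ⟨u, rfl⟩)
  rintro g (⟨u, rfl⟩ | hg)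
  · exact hx u
  · rw [Set.mem_singleton_iff] at hg
    rw [hg]
    exact T.mul_mem (T.mul_mem (hx _) (hy _)) (hx _)

namespace Data

variable (D : Data k G)

/-- the candidate homomorphism, as a function -/
noncomputable def phiFun (g : SpecialLinearGroup (Fin 2) k) : G :=
  D.phi4 (g.1 0 0) (g.1 0 1) (g.1 1 0) (g.1 1 1)

theorem phiFun_one : D.phiFun 1 = 1 := by
  unfold phiFun
  have e00 : (1 : SpecialLinearGroup (Fin 2) k).1 0 0 = 1 := rfl
  have e01 : (1 : SpecialLinearGroup (Fin 2) k).1 0 1 = 0 := rfl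
  have e10 : (1 : SpecialLinearGroup (Fin 2) k).1 1 0 = 0 := rfl
  rw [e00, e01, e10, D.phi4_of_eq, mul_zero, D.x_zero, D.h_one, one_mul]

theorem phiFun_xS (u : k) : D.phiFun (xS u) = D.x u := by
  unfold phiFun
  rw [xS_00, xS_01, xS_10, D.phi4_of_eq, one_mul, D.h_one, mul_one]

theorem phiFun_wS : D.phiFun (wS 1) = D.w 1 := by
  unfold phiFun
  rw [wS_00 (1 : k) one_ne_zero, wS_10 (1 : k) one_ne_zero, wS_11 (1 : k) one_ne_zero,
    D.phi4_of_ne _ _ _ _ (by simp)]
  have e : (-1 : k) / -1⁻¹ = 1 := by simp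
  rw [zero_div, D.x_zero, e, D.h_one]
  group

theorem phiFun_mul_xS (g : SpecialLinearGroup (Fin 2) k) (u : k) :
    D.phiFun (g * xS u) = D.phiFun g * D.x u := by
  unfold phiFun
  have e00 : (g * xS u).1 0 0 = g.1 0 0 := by simp [sl2_mul_00]
  have e10 : (g * xS u).1 1 0 = g.1 1 0 := by simp [sl2_mul_10]
  rw [e00, e10]
  exact D.phi4_x (sl2_det g) (by simp [sl2_mul_01]) (by simp [sl2_mul_11])

variable {D}

theorem Mult.phiFun_mul_wS (hC : D.Mult) (g : SpecialLinearGroup (Fin 2) k) :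
    D.phiFun (g * wS 1) = D.phiFun g * D.w 1 := by
  unfold phiFun
  have w00 := wS_00 (1 : k) one_ne_zero
  have w01 := wS_01 (1 : k) one_ne_zero
  have w10 := wS_10 (1 : k) one_ne_zero
  have w11 := wS_11 (1 : k) one_ne_zero
  exact hC.phi4_w (sl2_det g) (by simp [sl2_mul_00, w00, w10]) (by simp [sl2_mul_01, w01, w11])
    (by simp [sl2_mul_10, w00, w10]) (by simp [sl2_mul_11, w01, w11])

theorem Mult.phiFun_mul (hC : D.Mult) (g g' : SpecialLinearGroup (Fin 2) k) :
    D.phiFun (g * g') = D.phiFun g * D.phiFun g' := by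
  let K : Subgroup (SpecialLinearGroup (Fin 2) k) :=
    { carrier := {g' | ∀ g, D.phiFun (g * g') = D.phiFun g * D.phiFun g'}
      one_mem' := by
        intro g
        rw [mul_one, D.phiFun_one, mul_one]
      mul_mem' := by
        intro a b ha hb g
        have h1 := hb (g * a)
        have h2 := hb a
        rw [ha g] at h1
        rw [← mul_assoc, h1, h2, mul_assoc]
      inv_mem' := by
        intro a ha g
        have h1 : ∀ g, D.phiFun (g * a⁻¹) = D.phiFun g * (D.phiFun a)⁻¹ := by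
          intro g
          have := ha (g * a⁻¹)
          rw [inv_mul_cancel_right] at this
          rw [this]
          group
        have h2 := h1 1
        rw [one_mul, D.phiFun_one, one_mul] at h2
        rw [h1 g, h2] }
  have hK : K = ⊤ := by
    rw [eq_top_iff, ← closure_xS_wS, Subgroup.closure_le]
    rintro s (⟨u, rfl⟩ | hs)
    · intro g
      rw [D.phiFun_mul_xS, D.phiFun_xS]
    · rw [Set.mem_singleton_iff] at hs
      rw [hs]
      intro g
      rw [hC.phiFun_mul_wS, D.phiFun_wS]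
  have : g' ∈ K := by rw [hK]; trivial
  exact this g

/-- the homomorphism `SL₂(k) → G` attached to Steinberg data with multiplicative `h` -/
noncomputable def Mult.phi (hC : D.Mult) : SpecialLinearGroup (Fin 2) k →* G where
  toFun := D.phiFun
  map_one' := D.phiFun_one
  map_mul' := hC.phiFun_mul

theorem Mult.phi_apply (hC : D.Mult) (g : SpecialLinearGroup (Fin 2) k) :
    hC.phi g = D.phi4 (g.1 0 0) (g.1 0 1) (g.1 1 0) (g.1 1 1) := rfl

theorem Mult.phi_xS (hC : D.Mult) (u : k) : hC.phi (xS u) = D.x u := D.phiFun_xS u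

theorem Mult.phi_wS (hC : D.Mult) : hC.phi (wS 1) = D.w 1 := D.phiFun_wS

theorem Mult.phi_yS (hC : D.Mult) (u : k) : hC.phi (yS u) = D.y u := by
  have h1 := (DS k).w_x 1 (-u) one_ne_zero
  have e : -((1 : k)⁻¹ * 1⁻¹ * -u) = u := by simp
  rw [e] at h1
  have h2 : yS u = wS 1 * xS (-u) * (wS 1)⁻¹ := by
    have e2 : (wS (1 : k))⁻¹ = (DS k).w (-1) := ((DS k).w_neg 1).symm
    rw [e2]
    exact h1.symm
  have h3 := D.w_x 1 (-u) one_ne_zero
  rw [e, D.w_neg 1] at h3
  rw [h2, map_mul, map_mul, map_inv, hC.phi_wS, hC.phi_xS, h3]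

theorem Mult.range_phi (hC : D.Mult) :
    hC.phi.range = Subgroup.closure (Set.range D.x ∪ Set.range D.y) := by
  rw [MonoidHom.range_eq_map, ← closure_xS_yS, MonoidHom.map_closure, Set.image_union]
  congr 2
  · ext z
    constructor
    · rintro ⟨_, ⟨u, rfl⟩, rfl⟩
      exact ⟨u, (hC.phi_xS u).symm⟩
    · rintro ⟨u, rfl⟩
      exact ⟨xS u, ⟨u, rfl⟩, hC.phi_xS u⟩
  · ext z
    constructor
    · rintro ⟨_, ⟨u, rfl⟩, rfl⟩
      exact ⟨u, (hC.phi_yS u).symm⟩
    · rintro ⟨u, rfl⟩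
      exact ⟨yS u, ⟨u, rfl⟩, hC.phi_yS u⟩

/-- the kernel of `phi` consists of `±1` under mild non-degeneracy assumptions -/
theorem Mult.ker_phi (hC : D.Mult) (hx : ∀ u, D.x u = 1 → u = 0)
    (hK2 : ∀ i t j, t ≠ 0 → D.x i * D.h t * D.w 1 * D.x j ≠ 1)
    (hK3 : ∀ i t, t ≠ 0 → D.x i * D.h t = 1 → i = 0)
    (g : SpecialLinearGroup (Fin 2) k) (hg : hC.phi g = 1) : g = 1 ∨ g = -1 := by
  rw [hC.phi_apply] at hg
  have hdet := sl2_det g
  by_cases hc : g.1 1 0 = 0
  · rw [hc, D.phi4_of_eq] at hg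
    rw [hc, mul_zero, sub_zero] at hdet
    have ha : g.1 0 0 ≠ 0 := left_ne_zero_of_mul_eq_one hdet
    have hab := hK3 _ _ ha hg
    have hb : g.1 0 1 = 0 := by
      rcases mul_eq_zero.mp hab with h | h
      · exact absurd h ha
      · exact h
    rw [hab, D.x_zero, one_mul] at hg
    have h1 := D.h_x (g.1 0 0) 1 ha
    rw [hg, one_mul, inv_one, mul_one, mul_one] at h1
    have h2 : D.x (g.1 0 0 * g.1 0 0 - 1) = 1 := by
      rw [sub_eq_add_neg, D.x_add, D.x_neg, ← h1, mul_inv_cancel]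
    have h3 := hx _ h2
    have h4 : g.1 0 0 * g.1 0 0 = 1 := sub_eq_zero.mp h3
    have hd : g.1 1 1 = g.1 0 0 := by
      have : g.1 0 0 * g.1 1 1 = g.1 0 0 * g.1 0 0 := by rw [hdet, h4]
      exact mul_left_cancel₀ ha this
    rcases mul_self_eq_one_iff.mp h4 with h5 | h5
    · left
      apply sl2_ext
      · rw [h5]; rfl
      · rw [hb]; rfl
      · rw [hc]; rfl
      · rw [hd, h5]; rfl
    · right
      apply sl2_ext
      · rw [h5]; rfl
      · rw [hb]; simp
      · rw [hc]; simp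
      · rw [hd, h5]; rfl
  · exfalso
    rw [D.phi4_of_ne _ _ _ _ hc] at hg
    exact hK2 _ _ _ (div_ne_zero (by simp) hc) hg

end Data

end Cfsg.Agent.Lib.Helper8.St
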