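import Mathlib
import Cfsg.Agent.Lib.Helper8.St4

/-! Dickson-type counting, part 1: the Möbius action of `SL₂(E)` on the projective line. -/

set_option autoImplicit false

namespace Cfsg.Agent.Lib.Helper8.Dk

open Matrix Cfsg.Agent.Lib.Helper8.St

variable {E : Type*} [Field E]

/-- the projective line over `E` -/
def P1 (E : Type*) := Option E

/-- the point at infinity -/
def P1.inf : P1 E := (none : Option E)

/-- a finite point -/
def P1.fin (x : E) : P1 E := (some x : Option E)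

theorem P1.fin_ne_inf (x : E) : P1.fin x ≠ (P1.inf : P1 E) := by
  intro h; exact Option.some_ne_none x h

theorem P1.fin_inj {x y : E} : (P1.fin x : P1 E) = P1.fin y ↔ x = y := by
  constructor
  · intro h; exact Option.some_injective _ h
  · intro h; rw [h]

theorem P1.cases (p : P1 E) : p = P1.inf ∨ ∃ x, p = P1.fin x := by
  cases p with
  | none => exact Or.inl rfl
  | some x => exact Or.inr ⟨x, rfl⟩

/-- a representing vector -/
def vec : P1 E → E × E
  | none => (1, 0)
  | some x => (x, 1)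

@[simp] theorem vec_inf : vec (P1.inf : P1 E) = (1, 0) := rfl
@[simp] theorem vec_fin (x : E) : vec (P1.fin x) = (x, 1) := rfl

open Classical in
/-- the point represented by a vector -/
noncomputable def pt (v : E × E) : P1 E := if v.2 = 0 then P1.inf else P1.fin (v.1 / v.2)

theorem pt_vec (p : P1 E) : pt (vec p) = p := by
  rcases P1.cases p with rfl | ⟨x, rfl⟩
  · simp [pt]
  · simp [pt]

theorem vec_ne_zero (p : P1 E) : vec p ≠ 0 := by
  rcases P1.cases p with rfl | ⟨x, rfl⟩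
  · simp
  · simp

theorem pt_smul (c : E) (hc : c ≠ 0) (v : E × E) : pt (c • v) = pt v := by
  unfold pt
  by_cases h : v.2 = 0
  · simp [h]
  · have : c * v.2 ≠ 0 := mul_ne_zero hc h
    simp only [Prod.smul_snd, smul_eq_mul, this, if_false, h, Prod.smul_fst]
    rw [mul_div_mul_left _ _ hc]

theorem vec_pt (v : E × E) (hv : v ≠ 0) : ∃ c : E, c ≠ 0 ∧ vec (pt v) = c • v := by
  unfold pt
  by_cases h : v.2 = 0
  · have h1 : v.1 ≠ 0 := by
      intro h1; apply hv; exact Prod.ext h1 h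
    refine ⟨v.1⁻¹, inv_ne_zero h1, ?_⟩
    simp only [h, if_true, vec_inf]
    ext
    · simp [h1]
    · simp [h]
  · refine ⟨v.2⁻¹, inv_ne_zero h, ?_⟩
    simp only [h, if_false, vec_fin]
    ext
    · simp [div_eq_inv_mul]
    · simp [h]

theorem pt_eq_iff (v : E × E) (hv : v ≠ 0) (p : P1 E) :
    pt v = p ↔ ∃ c : E, c ≠ 0 ∧ v = c • vec p := by
  constructor
  · rintro rfl
    obtain ⟨c, hc, h⟩ := vec_pt v hv
    refine ⟨c⁻¹, inv_ne_zero hc, ?_⟩
    rw [h, smul_smul, inv_mul_cancel₀ hc, one_smul]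
  · rintro ⟨c, hc, rfl⟩
    rw [pt_smul c hc, pt_vec]

/-- matrix times vector -/
def mv (g : SpecialLinearGroup (Fin 2) E) (v : E × E) : E × E :=
  (g.1 0 0 * v.1 + g.1 0 1 * v.2, g.1 1 0 * v.1 + g.1 1 1 * v.2)

theorem mv_one (v : E × E) : mv 1 v = v := by
  simp [mv]

theorem mv_mul (g h : SpecialLinearGroup (Fin 2) E) (v : E × E) : mv (g * h) v = mv g (mv h v) := by
  unfold mv
  rw [sl2_mul_00, sl2_mul_01, sl2_mul_10, sl2_mul_11]
  ext <;> simp <;> ring

theorem mv_smul (g : SpecialLinearGroup (Fin 2) E) (c : E) (v : E × E) : mv g (c • v) = c • mv g v := by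
  unfold mv
  ext <;> simp <;> ring

theorem mv_ne_zero (g : SpecialLinearGroup (Fin 2) E) (v : E × E) (hv : v ≠ 0) : mv g v ≠ 0 := by
  intro h
  apply hv
  have : mv (g⁻¹ * g) v = mv g⁻¹ (mv g v) := mv_mul _ _ _
  rw [inv_mul_cancel, mv_one, h] at this
  rw [this]
  simp [mv]

/-- the Möbius action -/
noncomputable def mob (g : SpecialLinearGroup (Fin 2) E) (p : P1 E) : P1 E := pt (mv g (vec p))

theorem mob_one (p : P1 E) : mob 1 p = p := by
  unfold mob; rw [mv_one, pt_vec]

theorem mob_mul (g h : SpecialLinearGroup (Fin 2) E) (p : P1 E) : mob (g * h) p = mob g (mob h p) := by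
  unfold mob
  obtain ⟨c, hc, h1⟩ := vec_pt (mv h (vec p)) (mv_ne_zero h _ (vec_ne_zero p))
  rw [h1, mv_smul, pt_smul c hc, mv_mul]

noncomputable instance : MulAction (SpecialLinearGroup (Fin 2) E) (P1 E) where
  smul := mob
  one_smul := mob_one
  mul_smul := mob_mul

theorem smul_def (g : SpecialLinearGroup (Fin 2) E) (p : P1 E) : g • p = pt (mv g (vec p)) := rfl

/-- fixed points are eigenvectors -/
theorem smul_eq_iff (g : SpecialLinearGroup (Fin 2) E) (p q : P1 E) :
    g • p = q ↔ ∃ c : E, c ≠ 0 ∧ mv g (vec p) = c • vec q := by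
  rw [smul_def, pt_eq_iff _ (mv_ne_zero g _ (vec_ne_zero p))]

theorem smul_inf_eq_inf_iff (g : SpecialLinearGroup (Fin 2) E) :
    g • (P1.inf : P1 E) = P1.inf ↔ g.1 1 0 = 0 := by
  rw [smul_eq_iff]
  constructor
  · rintro ⟨c, _, h⟩
    have := congrArg Prod.snd h
    simpa [mv] using this
  · intro h
    have hd := sl2_det g
    rw [h, mul_zero, sub_zero] at hd
    refine ⟨g.1 0 0, left_ne_zero_of_mul_eq_one hd, ?_⟩
    ext <;> simp [mv, h]

theorem smul_inf (g : SpecialLinearGroup (Fin 2) E) (h : g.1 1 0 ≠ 0) :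
    g • (P1.inf : P1 E) = P1.fin (g.1 0 0 / g.1 1 0) := by
  rw [smul_def]
  simp [mv, pt, h]

theorem smul_fin (g : SpecialLinearGroup (Fin 2) E) (x : E) (h : g.1 1 0 * x + g.1 1 1 ≠ 0) :
    g • (P1.fin x : P1 E) = P1.fin ((g.1 0 0 * x + g.1 0 1) / (g.1 1 0 * x + g.1 1 1)) := by
  rw [smul_def]
  simp [mv, pt, h]

theorem smul_fin_eq_inf_iff (g : SpecialLinearGroup (Fin 2) E) (x : E) :
    g • (P1.fin x : P1 E) = P1.inf ↔ g.1 1 0 * x + g.1 1 1 = 0 := by
  rw [smul_def]
  by_cases h : g.1 1 0 * x + g.1 1 1 = 0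
  · simp [mv, pt, h]
  · simp only [mv, pt, vec_fin, mul_one, h, if_false, iff_false]
    exact P1.fin_ne_inf _

end Cfsg.Agent.Lib.Helper8.Dk
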