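import Mathlib
import Cfsg.Agent.Lib.Helper8.Dk1

/-! Dickson-type counting, part 2: fixed points of elements of `SL₂(E)` on the projective line. -/

set_option autoImplicit false
set_option linter.unusedSectionVars false

namespace Cfsg.Agent.Lib.Helper8.Dk

open Matrix Cfsg.Agent.Lib.Helper8.St

variable {E : Type*} [Field E]

/-- the trace -/
def tr2 (g : SpecialLinearGroup (Fin 2) E) : E := g.1 0 0 + g.1 1 1

theorem fin_fixed_iff (g : SpecialLinearGroup (Fin 2) E) (x : E) :
    g • (P1.fin x : P1 E) = P1.fin x ↔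
      g.1 1 0 * x ^ 2 + (g.1 1 1 - g.1 0 0) * x - g.1 0 1 = 0 := by
  have hd := sl2_det g
  by_cases h : g.1 1 0 * x + g.1 1 1 = 0
  · have h1 : g • (P1.fin x : P1 E) = P1.inf := (smul_fin_eq_inf_iff g x).2 h
    rw [h1]
    constructor
    · intro h2; exact absurd h2.symm (P1.fin_ne_inf x)
    · intro h2
      exfalso
      have h3 : g.1 0 0 * x + g.1 0 1 = 0 := by
        have : g.1 1 0 * x ^ 2 + (g.1 1 1 - g.1 0 0) * x - g.1 0 1 =
            x * (g.1 1 0 * x + g.1 1 1) - (g.1 0 0 * x + g.1 0 1) := by ring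
        rw [this, h, mul_zero, zero_sub, neg_eq_zero] at h2
        exact h2
      have : g.1 0 0 * g.1 1 1 - g.1 0 1 * g.1 1 0 =
          g.1 0 0 * (g.1 1 0 * x + g.1 1 1) - g.1 1 0 * (g.1 0 0 * x + g.1 0 1) := by ring
      rw [this, h, h3] at hd
      simp at hd
  · rw [smul_fin g x h, P1.fin_inj, div_eq_iff h]
    constructor
    · intro h2
      have : g.1 1 0 * x ^ 2 + (g.1 1 1 - g.1 0 0) * x - g.1 0 1 =
            x * (g.1 1 0 * x + g.1 1 1) - (g.1 0 0 * x + g.1 0 1) := by ring
      rw [this, h2]; ring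
    · intro h2
      have : g.1 1 0 * x ^ 2 + (g.1 1 1 - g.1 0 0) * x - g.1 0 1 =
            x * (g.1 1 0 * x + g.1 1 1) - (g.1 0 0 * x + g.1 0 1) := by ring
      rw [this, sub_eq_zero] at h2
      exact h2.symm

theorem disc_eq (g : SpecialLinearGroup (Fin 2) E) :
    (g.1 0 0 - g.1 1 1) ^ 2 + 4 * g.1 0 1 * g.1 1 0 = tr2 g ^ 2 - 4 := by
  have hd := sl2_det g
  unfold tr2
  have : (4 : E) = 4 * (g.1 0 0 * g.1 1 1 - g.1 0 1 * g.1 1 0) := by rw [hd, mul_one]
  conv_rhs => rw [this]
  ring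

/-- a non-central element with trace `±2` has exactly one fixed point -/
theorem fix_unip (h2 : (2 : E) ≠ 0) (g : SpecialLinearGroup (Fin 2) E) (hg1 : g ≠ 1) (hgm : g ≠ -1)
    (htr : tr2 g ^ 2 = 4) : ∃ p : P1 E, ∀ x : P1 E, g • x = x ↔ x = p := by
  have hd := sl2_det g
  have hdisc := disc_eq g
  rw [htr, sub_self] at hdisc
  have h4 : (4 : E) ≠ 0 := by
    have : (4 : E) = 2 * 2 := by norm_num
    rw [this]; exact mul_ne_zero h2 h2
  by_cases hc : g.1 1 0 = 0
  · -- upper triangular
    rw [hc, mul_zero, add_zero] at hdisc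
    have had : g.1 0 0 = g.1 1 1 := by
      have := (pow_eq_zero_iff (by norm_num : (2:ℕ) ≠ 0)).mp hdisc
      exact sub_eq_zero.mp this
    rw [hc, mul_zero, sub_zero, had] at hd
    have hb : g.1 0 1 ≠ 0 := by
      intro hb
      have h11 : g.1 1 1 = 1 ∨ g.1 1 1 = -1 := by
        have : (g.1 1 1 - 1) * (g.1 1 1 + 1) = 0 := by linear_combination hd
        rcases mul_eq_zero.mp this with h | h
        · left; exact sub_eq_zero.mp h
        · right; exact eq_neg_of_add_eq_zero_left h
      rcases h11 with h | h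
      · apply hg1
        apply sl2_ext <;> simp [had, h, hb, hc]
      · apply hgm
        apply sl2_ext <;> simp [had, h, hb, hc]
    refine ⟨P1.inf, fun x => ?_⟩
    rcases P1.cases x with rfl | ⟨y, rfl⟩
    · simp [smul_inf_eq_inf_iff, hc]
    · rw [fin_fixed_iff, hc, had]
      constructor
      · intro h
        exfalso; apply hb
        simpa using h
      · intro h; exact absurd h (P1.fin_ne_inf y)
  · refine ⟨P1.fin ((g.1 0 0 - g.1 1 1) / (2 * g.1 1 0)), fun x => ?_⟩
    have h2c : 2 * g.1 1 0 ≠ 0 := mul_ne_zero h2 hc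
    rcases P1.cases x with rfl | ⟨y, rfl⟩
    · constructor
      · intro h; exact absurd ((smul_inf_eq_inf_iff g).1 h) hc
      · intro h; exact absurd h.symm (P1.fin_ne_inf _)
    · rw [fin_fixed_iff, P1.fin_inj, eq_div_iff h2c]
      have key : 4 * g.1 1 0 * (g.1 1 0 * y ^ 2 + (g.1 1 1 - g.1 0 0) * y - g.1 0 1) =
          (y * (2 * g.1 1 0) - (g.1 0 0 - g.1 1 1)) ^ 2 := by
        have : (g.1 0 0 - g.1 1 1) ^ 2 = - (4 * g.1 0 1 * g.1 1 0) := eq_neg_of_add_eq_zero_left hdisc
        ring_nf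
        ring_nf at this
        linear_combination (-1 : E) * this
      constructor
      · intro h
        rw [h, mul_zero] at key
        have := (pow_eq_zero_iff (by norm_num : (2:ℕ) ≠ 0)).mp key.symm
        exact sub_eq_zero.mp this
      · intro h
        rw [h, sub_self, zero_pow (by norm_num : (2:ℕ) ≠ 0)] at key
        have h4c : 4 * g.1 1 0 ≠ 0 := mul_ne_zero h4 hc
        have := mul_eq_zero.mp key
        rcases this with h' | h'
        · exact absurd h' h4c
        · exact h'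

/-- an element whose trace `τ` has `τ² - 4` a nonzero square has exactly two fixed points -/
theorem fix_ss (h2 : (2 : E) ≠ 0) (g : SpecialLinearGroup (Fin 2) E) (δ : E) (hδ : δ ≠ 0)
    (htr : tr2 g ^ 2 - 4 = δ ^ 2) :
    ∃ p q : P1 E, p ≠ q ∧ ∀ x : P1 E, g • x = x ↔ x = p ∨ x = q := by
  have hd := sl2_det g
  have hdisc := disc_eq g
  rw [htr] at hdisc
  have h4 : (4 : E) ≠ 0 := by
    have : (4 : E) = 2 * 2 := by norm_num
    rw [this]; exact mul_ne_zero h2 h2
  by_cases hc : g.1 1 0 = 0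
  · rw [hc, mul_zero, add_zero] at hdisc
    have had : g.1 1 1 - g.1 0 0 ≠ 0 := by
      intro h
      have : g.1 0 0 - g.1 1 1 = 0 := by rw [← neg_sub, h, neg_zero]
      rw [this] at hdisc
      apply hδ
      have := hdisc.symm
      simpa using this
    refine ⟨P1.inf, P1.fin (g.1 0 1 / (g.1 1 1 - g.1 0 0)), (P1.fin_ne_inf _).symm, fun x => ?_⟩
    rcases P1.cases x with rfl | ⟨y, rfl⟩
    · simp [smul_inf_eq_inf_iff, hc]
    · rw [fin_fixed_iff, hc, P1.fin_inj, eq_div_iff had]
      constructor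
      · intro h
        right
        have : y * (g.1 1 1 - g.1 0 0) - g.1 0 1 = 0 := by rw [← h]; ring
        exact sub_eq_zero.mp this
      · rintro (h | h)
        · exact absurd h (P1.fin_ne_inf y)
        · rw [← h]; ring
  · have h2c : 2 * g.1 1 0 ≠ 0 := mul_ne_zero h2 hc
    refine ⟨P1.fin ((g.1 0 0 - g.1 1 1 + δ) / (2 * g.1 1 0)),
      P1.fin ((g.1 0 0 - g.1 1 1 - δ) / (2 * g.1 1 0)), ?_, fun x => ?_⟩
    · rw [Ne, P1.fin_inj, div_left_inj' h2c]
      intro h
      have : 2 * δ = 0 := by linear_combination h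
      rcases mul_eq_zero.mp this with h' | h'
      · exact h2 h'
      · exact hδ h'
    rcases P1.cases x with rfl | ⟨y, rfl⟩
    · constructor
      · intro h; exact absurd ((smul_inf_eq_inf_iff g).1 h) hc
      · rintro (h | h) <;> exact absurd h.symm (P1.fin_ne_inf _)
    · rw [fin_fixed_iff, P1.fin_inj, P1.fin_inj, eq_div_iff h2c, eq_div_iff h2c]
      have key : 4 * g.1 1 0 * (g.1 1 0 * y ^ 2 + (g.1 1 1 - g.1 0 0) * y - g.1 0 1) =
          (y * (2 * g.1 1 0) - (g.1 0 0 - g.1 1 1)) ^ 2 - δ ^ 2 := by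
        rw [← hdisc]; ring
      have h4c : 4 * g.1 1 0 ≠ 0 := mul_ne_zero h4 hc
      constructor
      · intro h
        rw [h, mul_zero] at key
        have h' : (y * (2 * g.1 1 0) - (g.1 0 0 - g.1 1 1)) ^ 2 = δ ^ 2 := (sub_eq_zero.mp key.symm)
        rcases sq_eq_sq_iff_eq_or_eq_neg.mp h' with h'' | h''
        · left; linear_combination h''
        · right; linear_combination h''
      · intro h
        have : (y * (2 * g.1 1 0) - (g.1 0 0 - g.1 1 1)) ^ 2 - δ ^ 2 = 0 := by
          rcases h with h | h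
          · rw [h]; ring
          · rw [h]; ring
        rw [this] at key
        rcases mul_eq_zero.mp key with h' | h'
        · exact absurd h' h4c
        · exact h'

end Cfsg.Agent.Lib.Helper8.Dk
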