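import Mathlib
import Cfsg.Agent.Lib.Helper8.Dk2

/-! Dickson-type counting, part 3: general lemmas (free actions, unipotent elements). -/

set_option autoImplicit false
set_option linter.unusedSectionVars false

namespace Cfsg.Agent.Lib.Helper8.Dk

open Matrix Cfsg.Agent.Lib.Helper8.St

/-- a finite group acting freely on an invariant finite set: the order divides the size -/
theorem card_dvd_of_free {G A : Type*} [Group G] [MulAction G A] [Finite G] :
    ∀ (n : ℕ) (s : Set A), s.Finite → s.ncard = n → (∀ g : G, ∀ a ∈ s, g • a ∈ s) →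
      (∀ g : G, ∀ a ∈ s, g • a = a → g = 1) → Nat.card G ∣ s.ncard := by
  intro n
  induction n using Nat.strong_induction_on with
  | _ n ih =>
    intro s hfin hn hinv hfree
    rcases s.eq_empty_or_nonempty with rfl | ⟨a, ha⟩
    · simp
    · -- the orbit of a
      set o : Set A := Set.range (fun g : G => g • a) with ho
      have hos : o ⊆ s := by
        rintro _ ⟨g, rfl⟩; exact hinv g a ha
      have hinj : Function.Injective (fun g : G => g • a) := by
        intro g h hgh
        have : (h⁻¹ * g) • a = a := by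
          rw [mul_smul]
          show h⁻¹ • (g • a) = a
          have : g • a = h • a := hgh
          rw [this, inv_smul_smul]
        have := hfree _ a ha this
        have h2 : g = h := by
          have := congrArg (fun x => h * x) this
          simpa using this
        exact h2
      have hocard : o.ncard = Nat.card G := by
        rw [ho, ← Set.image_univ, Set.ncard_image_of_injective _ hinj, Set.ncard_univ]
      set s' : Set A := s \ o with hs'
      have hs'fin : s'.Finite := hfin.subset Set.sdiff_subset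
      have hcard : s'.ncard + o.ncard = s.ncard := Set.ncard_sdiff_add_ncard_of_subset hos hfin
      have hpos : 0 < Nat.card G := Nat.card_pos
      have hlt : s'.ncard < n := by omega
      have hinv' : ∀ g : G, ∀ b ∈ s', g • b ∈ s' := by
        rintro g b ⟨hb, hbo⟩
        refine ⟨hinv g b hb, ?_⟩
        rintro ⟨h, hh⟩
        apply hbo
        refine ⟨g⁻¹ * h, ?_⟩
        show (g⁻¹ * h) • a = b
        have hh' : h • a = g • b := hh
        rw [mul_smul, hh', inv_smul_smul]
      have hfree' : ∀ g : G, ∀ b ∈ s', g • b = b → g = 1 := fun g b hb => hfree g b hb.1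
      have := ih s'.ncard hlt s' hs'fin rfl hinv' hfree'
      rw [← hcard, hocard]
      exact Dvd.dvd.add this (dvd_refl _)

variable {E : Type*} [Field E]

theorem tr2_eq_trace (g : SpecialLinearGroup (Fin 2) E) : tr2 g = Matrix.trace g.1 := by
  rw [Matrix.trace_fin_two]; rfl

theorem tr2_conj (y g : SpecialLinearGroup (Fin 2) E) : tr2 (y * g * y⁻¹) = tr2 g := by
  rw [tr2_eq_trace, tr2_eq_trace]
  show Matrix.trace (y.1 * g.1 * (y⁻¹).1) = _
  rw [Matrix.trace_mul_cycle]
  have : (y⁻¹).1 * y.1 = 1 := by
    have := congrArg Subtype.val (inv_mul_cancel y)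
    exact this
  rw [this, one_mul]

theorem tr2_neg (g : SpecialLinearGroup (Fin 2) E) : tr2 (-g) = - tr2 g := by
  unfold tr2; simp; ring

theorem neg_smul_pt (g : SpecialLinearGroup (Fin 2) E) (p : P1 E) : (-g) • p = g • p := by
  rw [smul_def, smul_def]
  have : mv (-g) (vec p) = (-1 : E) • mv g (vec p) := by
    unfold mv; ext <;> simp <;> ring
  rw [this, pt_smul _ (by simp)]

/-- an upper triangular matrix with trace `2` is `xS` -/
theorem eq_xS_of_upper (g : SpecialLinearGroup (Fin 2) E) (hc : g.1 1 0 = 0) (ht : tr2 g = 2) :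
    g = xS (g.1 0 1) := by
  have hd := sl2_det g
  rw [hc, mul_zero, sub_zero] at hd
  unfold tr2 at ht
  have h1 : (g.1 0 0 - 1) ^ 2 = 0 := by
    have : g.1 1 1 = 2 - g.1 0 0 := by rw [← ht]; ring
    rw [this] at hd
    linear_combination -hd
  have h00 : g.1 0 0 = 1 := sub_eq_zero.mp ((pow_eq_zero_iff (by norm_num : (2:ℕ) ≠ 0)).mp h1)
  have h11 : g.1 1 1 = 1 := by rw [h00, one_mul] at hd; exact hd
  apply sl2_ext <;> simp [h00, h11, hc]

/-- powers of a unipotent element -/
theorem unip_pow (g : SpecialLinearGroup (Fin 2) E) (ht : tr2 g = 2) (n : ℕ) :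
    (g ^ n).1 0 0 = 1 + n * (g.1 0 0 - 1) ∧ (g ^ n).1 0 1 = n * g.1 0 1 ∧
    (g ^ n).1 1 0 = n * g.1 1 0 ∧ (g ^ n).1 1 1 = 1 + n * (g.1 1 1 - 1) := by
  have hd := sl2_det g
  unfold tr2 at ht
  have h11 : g.1 1 1 = 2 - g.1 0 0 := by rw [← ht]; ring
  induction n with
  | zero => simp
  | succ n ih =>
    obtain ⟨i00, i01, i10, i11⟩ := ih
    rw [pow_succ]
    refine ⟨?_, ?_, ?_, ?_⟩
    · rw [sl2_mul_00, i00, i01]
      push_cast
      rw [h11] at hd
      linear_combination (-(n : E)) * hd
    · rw [sl2_mul_01, i00, i01]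
      push_cast
      rw [h11]; ring
    · rw [sl2_mul_10, i10, i11]
      push_cast
      rw [h11]; ring
    · rw [sl2_mul_11, i10, i11]
      push_cast
      rw [h11] at hd ⊢
      linear_combination (-(n : E)) * hd

theorem unip_pow_char (p : ℕ) [CharP E p] (g : SpecialLinearGroup (Fin 2) E) (ht : tr2 g = 2) :
    g ^ p = 1 := by
  obtain ⟨h00, h01, h10, h11⟩ := unip_pow g ht p
  apply sl2_ext
  · rw [h00]; simp
  · rw [h01]; simp
  · rw [h10]; simp
  · rw [h11]; simp

/-- a `p`-element of `SL₂(E)` has trace `2` -/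
theorem tr2_of_pow_char_pow (p : ℕ) [hp : Fact p.Prime] [CharP E p]
    (g : SpecialLinearGroup (Fin 2) E) (j : ℕ) (hg : g ^ p ^ j = 1) : tr2 g = 2 := by
  have h1 : g.1 ^ p ^ j = 1 := by
    have := congrArg Subtype.val hg
    simpa using this
  have : CharP (Matrix (Fin 2) (Fin 2) E) p := Matrix.charP p
  have h2 : (g.1 - 1) ^ p ^ j = 0 := by
    rw [sub_pow_char_pow_of_commute p j (Commute.one_right _), h1, one_pow, sub_self]
  have h3 : (g.1 - 1).det = 0 := by
    have := congrArg Matrix.det h2
    rw [Matrix.det_pow, Matrix.det_zero] at this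
    exact (pow_eq_zero_iff (pow_ne_zero _ hp.out.ne_zero)).mp this
  rw [Matrix.det_fin_two] at h3
  have hd := sl2_det g
  unfold tr2
  simp only [Matrix.sub_apply, Matrix.one_apply_eq, Matrix.one_apply_ne, ne_eq, zero_ne_one,
    one_ne_zero, not_false_eq_true, sub_zero] at h3
  linear_combination hd - h3

end Cfsg.Agent.Lib.Helper8.Dk
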