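import Mathlib
import Cfsg.Agent.Lib.Helper8.Dk3

/-! Dickson-type counting, part 4: the unipotent subgroup is a Sylow subgroup. -/

set_option autoImplicit false
set_option linter.unusedSectionVars false

namespace Cfsg.Agent.Lib.Helper8.Dk

open Matrix Cfsg.Agent.Lib.Helper8.St
open scoped Pointwise

variable {E : Type*} [Field E]

theorem xS_zero : xS (0 : E) = 1 := by
  apply sl2_ext <;> simp

theorem xS_inv (t : E) : (xS t)⁻¹ = xS (-t) := by
  rw [inv_eq_iff_mul_eq_one, ← xS_add, add_neg_cancel, xS_zero]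

theorem xS_inj {s t : E} (h : xS s = xS t) : s = t := by
  have := congrArg (fun g : SpecialLinearGroup (Fin 2) E => g.1 0 1) h
  simpa using this

theorem tr2_xS (t : E) : tr2 (xS t) = 2 := by
  unfold tr2; simp; norm_num

theorem tr2_one : tr2 (1 : SpecialLinearGroup (Fin 2) E) = 2 := by
  unfold tr2; simp; norm_num

theorem tr2_neg_one : tr2 (-1 : SpecialLinearGroup (Fin 2) E) = -2 := by
  rw [tr2_neg, tr2_one]

theorem xS_smul_inf (t : E) : xS t • (P1.inf : P1 E) = P1.inf := by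
  rw [smul_inf_eq_inf_iff]; simp

theorem xS_smul_fin (t x : E) : xS t • (P1.fin x : P1 E) = P1.fin (x + t) := by
  rw [smul_fin _ _ (by simp)]
  simp

/-- the only fixed point of `xS t`, `t ≠ 0`, is `∞` -/
theorem xS_fixed (t : E) (ht : t ≠ 0) (p : P1 E) (h : xS t • p = p) : p = P1.inf := by
  rcases P1.cases p with rfl | ⟨x, rfl⟩
  · rfl
  · rw [xS_smul_fin, P1.fin_inj] at h
    exfalso; apply ht
    have : x + t = x + 0 := by rw [h, add_zero]
    exact add_left_cancel this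

variable (Y : Subgroup (SpecialLinearGroup (Fin 2) E))

/-- the additive group of `t` with `xS t ∈ Y` -/
def T1 : AddSubgroup E where
  carrier := {t | xS t ∈ Y}
  zero_mem' := by
    show xS 0 ∈ Y
    rw [xS_zero]; exact Y.one_mem
  add_mem' := by
    intro a b ha hb
    show xS (a + b) ∈ Y
    rw [xS_add]; exact Y.mul_mem ha hb
  neg_mem' := by
    intro a ha
    show xS (-a) ∈ Y
    rw [← xS_inv]; exact Y.inv_mem ha

theorem mem_T1 (t : E) : t ∈ T1 Y ↔ xS t ∈ Y := Iff.rfl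

/-- the unipotent subgroup of `Y` -/
def PU : Subgroup Y where
  carrier := {g | ∃ t : E, (g : SpecialLinearGroup (Fin 2) E) = xS t}
  one_mem' := ⟨0, by rw [xS_zero]; rfl⟩
  mul_mem' := by
    rintro a b ⟨s, hs⟩ ⟨t, ht⟩
    refine ⟨s + t, ?_⟩
    rw [xS_add, ← hs, ← ht]; rfl
  inv_mem' := by
    rintro a ⟨s, hs⟩
    refine ⟨-s, ?_⟩
    rw [← xS_inv, ← hs]; rfl

theorem mem_PU (g : Y) : g ∈ PU Y ↔ ∃ t : E, (g : SpecialLinearGroup (Fin 2) E) = xS t := Iff.rfl

/-- `PU Y` is in bijection with `T1 Y` -/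
noncomputable def PUequiv : PU Y ≃ T1 Y where
  toFun g := ⟨(g.1 : SpecialLinearGroup (Fin 2) E).1 0 1, by
    obtain ⟨t, ht⟩ := g.2
    show xS _ ∈ Y
    rw [ht]; simp only [xS_01]; rw [← ht]; exact g.1.2⟩
  invFun t := ⟨⟨xS t.1, t.2⟩, ⟨t.1, rfl⟩⟩
  left_inv g := by
    obtain ⟨t, ht⟩ := g.2
    apply Subtype.ext; apply Subtype.ext
    show xS ((g.1 : SpecialLinearGroup (Fin 2) E).1 0 1) = (g.1 : SpecialLinearGroup (Fin 2) E)
    have h01 : (g.1 : SpecialLinearGroup (Fin 2) E).1 0 1 = t := by rw [ht]; rfl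
    rw [h01, ht]
  right_inv t := by
    apply Subtype.ext
    simp

theorem card_PU : Nat.card (PU Y) = Nat.card (T1 Y) := Nat.card_congr (PUequiv Y)

variable (p : ℕ) [hp : Fact p.Prime] [CharP E p]

theorem isPGroup_PU : IsPGroup p (PU Y) := by
  intro g
  refine ⟨1, ?_⟩
  obtain ⟨t, ht⟩ := g.2
  apply Subtype.ext; apply Subtype.ext
  show ((g.1 : SpecialLinearGroup (Fin 2) E)) ^ p ^ 1 = 1
  rw [pow_one, ht]
  exact unip_pow_char p _ (tr2_xS t)

/-- every element of a `p`-subgroup has trace 2 -/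
theorem tr2_of_isPGroup (Q : Subgroup Y) (hQ : IsPGroup p Q) (q : Y) (hq : q ∈ Q) :
    tr2 (q : SpecialLinearGroup (Fin 2) E) = 2 := by
  obtain ⟨j, hj⟩ := hQ ⟨q, hq⟩
  have : (q : SpecialLinearGroup (Fin 2) E) ^ p ^ j = 1 := by
    have h1 := congrArg (fun x : Q => ((x : Y) : SpecialLinearGroup (Fin 2) E)) hj
    simpa using h1
  exact tr2_of_pow_char_pow p _ j this

theorem PU_maximal [Finite E] (h2 : (2 : E) ≠ 0) (h1 : xS (1 : E) ∈ Y) (Q : Subgroup Y) (hQ : IsPGroup p Q)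
    (hPQ : PU Y ≤ Q) : Q = PU Y := by
  apply le_antisymm _ hPQ
  have hx1 : (⟨xS 1, h1⟩ : Y) ∈ Q := hPQ ⟨1, rfl⟩
  have : Nontrivial Q := by
    refine ⟨⟨⟨_, hx1⟩, 1, ?_⟩⟩
    intro h
    have := congrArg (fun x : Q => ((x : Y) : SpecialLinearGroup (Fin 2) E)) h
    simp only [Subgroup.coe_one] at this
    rw [← xS_zero] at this
    exact one_ne_zero (xS_inj this)
  have : Finite Y := inferInstance
  have : Nontrivial (Subgroup.center Q) := hQ.center_nontrivial
  obtain ⟨c, hc⟩ := exists_ne (1 : Subgroup.center Q)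
  have hcc : ∀ q : Q, q * c.1 = c.1 * q := fun q => Subgroup.mem_center_iff.mp c.2 q
  set c' : SpecialLinearGroup (Fin 2) E := ((c.1 : Y) : SpecialLinearGroup (Fin 2) E) with hc'
  have hc1 : c' ≠ 1 := by
    intro h
    apply hc
    apply Subtype.ext; apply Subtype.ext; apply Subtype.ext
    exact h
  have hctr : tr2 c' = 2 := tr2_of_isPGroup Y p Q hQ c.1.1 c.1.2
  have hcm : c' ≠ -1 := by
    intro h
    rw [h, tr2_neg_one] at hctr
    have : (2 : E) + 2 = 0 := by linear_combination -hctr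
    have : (2 : E) * 2 = 0 := by rw [← this]; ring
    rcases mul_eq_zero.mp this with h | h <;> exact h2 h
  obtain ⟨pc, hpc⟩ := fix_unip h2 c' hc1 hcm (by rw [hctr]; norm_num)
  -- c' commutes with every element of Q
  have hcomm : ∀ q : Y, q ∈ Q → (q : SpecialLinearGroup (Fin 2) E) * c' = c' * q := by
    intro q hq
    have := hcc ⟨q, hq⟩
    have := congrArg (fun x : Q => ((x : Y) : SpecialLinearGroup (Fin 2) E)) this
    simpa using this
  -- c' fixes ∞
  have hcinf : c' • (P1.inf : P1 E) = P1.inf := by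
    apply xS_fixed 1 one_ne_zero
    rw [← mul_smul]
    have := hcomm ⟨xS 1, h1⟩ hx1
    simp only at this
    rw [this, mul_smul, xS_smul_inf]
  have hpcinf : pc = P1.inf := ((hpc _).1 hcinf).symm
  intro q hq
  have hqinf : (q : SpecialLinearGroup (Fin 2) E) • (P1.inf : P1 E) = P1.inf := by
    rw [← hpcinf]
    apply (hpc _).1
    rw [← mul_smul, ← hcomm q hq, mul_smul, hpcinf, hcinf]
  have hq10 := (smul_inf_eq_inf_iff _).1 hqinf
  have hqtr := tr2_of_isPGroup Y p Q hQ q hq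
  exact ⟨_, eq_xS_of_upper _ hq10 hqtr⟩

/-- `PU Y` as a Sylow subgroup -/
def PSyl [Finite E] (h2 : (2 : E) ≠ 0) (h1 : xS (1 : E) ∈ Y) : Sylow p Y where
  toSubgroup := PU Y
  isPGroup' := isPGroup_PU Y p
  is_maximal' := fun hQ hPQ => PU_maximal Y p h2 h1 _ hQ hPQ

include p hp in
/-- an element of trace `2` of `Y` is conjugate in `Y` to some `xS t` -/
theorem conj_of_tr2 [Finite E] (h2 : (2 : E) ≠ 0) (h1 : xS (1 : E) ∈ Y)
    (g : SpecialLinearGroup (Fin 2) E) (hg : g ∈ Y) (ht : tr2 g = 2) :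
    ∃ y ∈ Y, ∃ t : E, xS t ∈ Y ∧ g = y * xS t * y⁻¹ := by
  have : Finite Y := inferInstance
  set H : Subgroup Y := Subgroup.zpowers (⟨g, hg⟩ : Y) with hH
  have hHp : IsPGroup p H := by
    rintro ⟨h, hh⟩
    refine ⟨1, ?_⟩
    obtain ⟨i, rfl⟩ := Subgroup.mem_zpowers_iff.mp hh
    apply Subtype.ext
    show ((⟨g, hg⟩ : Y) ^ i) ^ p ^ 1 = 1
    rw [pow_one, ← zpow_natCast, ← _root_.zpow_mul, mul_comm, _root_.zpow_mul, zpow_natCast]
    have : (⟨g, hg⟩ : Y) ^ p = 1 := by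
      apply Subtype.ext
      show g ^ p = 1
      exact unip_pow_char p g ht
    rw [this, _root_.one_zpow]
  obtain ⟨Q, hQ⟩ := hHp.exists_le_sylow
  obtain ⟨y, hy⟩ := MulAction.exists_smul_eq Y (PSyl Y p h2 h1) Q
  have hgQ : (⟨g, hg⟩ : Y) ∈ Q := hQ (Subgroup.mem_zpowers _)
  rw [← hy] at hgQ
  change (⟨g, hg⟩ : Y) ∈ MulAut.conj y • (PU Y) at hgQ
  rw [Subgroup.mem_smul_pointwise_iff_exists] at hgQ
  obtain ⟨s, hs, hsg⟩ := hgQ
  obtain ⟨t, ht'⟩ := hs
  refine ⟨y.1, y.2, t, ?_, ?_⟩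
  · rw [← ht']; exact s.2
  · have := congrArg (fun x : Y => (x : SpecialLinearGroup (Fin 2) E)) hsg
    simp only [MulAut.smul_def, MulAut.conj_apply] at this
    rw [← ht']
    exact this.symm

end Cfsg.Agent.Lib.Helper8.Dk
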