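import Mathlib
import Cfsg.Agent.Lib.Helper8.Dk4

/-! Dickson-type counting, part 5: the stabilizer of `∞`. -/

set_option autoImplicit false
set_option linter.unusedSectionVars false

namespace Cfsg.Agent.Lib.Helper8.Dk

open Matrix Cfsg.Agent.Lib.Helper8.St

variable {E : Type*} [Field E]

instance [Finite E] : Finite (P1 E) := inferInstanceAs (Finite (Option E))

theorem card_P1 [Finite E] : Nat.card (P1 E) = Nat.card E + 1 := by
  show Nat.card (Option E) = _
  exact Finite.card_option

/-- conjugating `xS t` by an upper triangular matrix -/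
theorem upper_mul_xS (s : SpecialLinearGroup (Fin 2) E) (hs : s.1 1 0 = 0) (t : E) :
    s * xS t = xS (s.1 0 0 ^ 2 * t) * s := by
  have hd := sl2_det s
  rw [hs, mul_zero, sub_zero] at hd
  apply sl2_ext
  · rw [sl2_mul_00, sl2_mul_00]; simp [hs]
  · rw [sl2_mul_01, sl2_mul_01]; simp
    have : s.1 0 0 ^ 2 * t * s.1 1 1 = s.1 0 0 * t * (s.1 0 0 * s.1 1 1) := by ring
    rw [this, hd]; ring
  · rw [sl2_mul_10, sl2_mul_10]; simp [hs]
  · rw [sl2_mul_11, sl2_mul_11]; simp [hs]

variable (Y : Subgroup (SpecialLinearGroup (Fin 2) E))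

/-- the stabilizer of `∞` in `Y` -/
noncomputable abbrev StI : Subgroup Y := MulAction.stabilizer Y (P1.inf : P1 E)

theorem mem_StI (g : Y) : g ∈ StI Y ↔ (g : SpecialLinearGroup (Fin 2) E).1 1 0 = 0 := by
  rw [MulAction.mem_stabilizer_iff, Subgroup.smul_def, smul_inf_eq_inf_iff]

theorem StI_diag (s : StI Y) :
    ((s : Y) : SpecialLinearGroup (Fin 2) E).1 0 0 * ((s : Y) : SpecialLinearGroup (Fin 2) E).1 1 1 = 1 := by
  have hd := sl2_det ((s : Y) : SpecialLinearGroup (Fin 2) E)
  rw [(mem_StI Y s.1).1 s.2, mul_zero, sub_zero] at hd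
  exact hd

/-- the diagonal character -/
noncomputable def phiD : StI Y →* Eˣ where
  toFun s := Units.mkOfMulEqOne _ _ (StI_diag Y s)
  map_one' := by
    apply Units.ext
    simp [Units.mkOfMulEqOne]
  map_mul' s t := by
    apply Units.ext
    show ((s * t : StI Y) : SpecialLinearGroup (Fin 2) E).1 0 0 = _
    simp only [Units.val_mul, Units.val_mkOfMulEqOne]
    show (((s : Y) : SpecialLinearGroup (Fin 2) E) * ((t : Y) : SpecialLinearGroup (Fin 2) E)).1 0 0 = _
    rw [sl2_mul_00, (mem_StI Y t.1).1 t.2, mul_zero, add_zero]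

theorem phiD_val (s : StI Y) : ((phiD Y s : Eˣ) : E) = ((s : Y) : SpecialLinearGroup (Fin 2) E).1 0 0 := rfl

/-- the square of the diagonal character -/
noncomputable def psiD : StI Y →* Eˣ := (powMonoidHom 2).comp (phiD Y)

theorem psiD_val (s : StI Y) : ((psiD Y s : Eˣ) : E) = ((s : Y) : SpecialLinearGroup (Fin 2) E).1 0 0 ^ 2 := by
  show (((phiD Y s) ^ 2 : Eˣ) : E) = _
  rw [Units.val_pow_eq_pow_val, phiD_val]

/-- `T1` is stable under multiplication by the values of `psiD` -/
theorem psiD_mul_mem (s : StI Y) (t : E) (ht : t ∈ T1 Y) : ((psiD Y s : Eˣ) : E) * t ∈ T1 Y := by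
  rw [psiD_val, mem_T1]
  have h := upper_mul_xS ((s : Y) : SpecialLinearGroup (Fin 2) E) ((mem_StI Y s.1).1 s.2) t
  have h2 : xS (((s : Y) : SpecialLinearGroup (Fin 2) E).1 0 0 ^ 2 * t) =
      ((s : Y) : SpecialLinearGroup (Fin 2) E) * xS t * ((s : Y) : SpecialLinearGroup (Fin 2) E)⁻¹ := by
    rw [h, mul_assoc, mul_inv_cancel, mul_one]
  rw [h2]
  exact Y.mul_mem (Y.mul_mem s.1.2 ht) (Y.inv_mem s.1.2)

theorem card_StI_eq : Nat.card (StI Y) = Nat.card (psiD Y).ker * Nat.card (psiD Y).range := by
  rw [Subgroup.card_eq_card_quotient_mul_card_subgroup (psiD Y).ker, mul_comm]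
  congr 1
  exact Nat.card_congr (QuotientGroup.quotientKerEquivRange (psiD Y)).toEquiv

/-- orbit-stabilizer -/
theorem card_orbit_mul [Finite E] :
    Nat.card (MulAction.orbit Y (P1.inf : P1 E)) * Nat.card (StI Y) = Nat.card Y := by
  classical
  have : Fintype Y := Fintype.ofFinite _
  have : Fintype (MulAction.orbit Y (P1.inf : P1 E)) := Fintype.ofFinite _
  have : Fintype (StI Y) := Fintype.ofFinite _
  have := MulAction.card_orbit_mul_card_stabilizer_eq_card_group Y (P1.inf : P1 E)
  rw [Nat.card_eq_fintype_card, Nat.card_eq_fintype_card, Nat.card_eq_fintype_card]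
  convert this

/-- the range of `psiD` together with `0` injects into `T1` -/
theorem card_range_psiD_lt [Finite E] (h1 : xS (1 : E) ∈ Y) :
    Nat.card (psiD Y).range + 1 ≤ Nat.card (T1 Y) := by
  rw [← Finite.card_option]
  apply Nat.card_le_card_of_injective
    (fun o : Option (psiD Y).range => match o with
      | none => (0 : T1 Y)
      | some u => (⟨((u : Eˣ) : E), by
          obtain ⟨s, hs⟩ := u.2
          have := psiD_mul_mem Y s 1 h1
          rw [mul_one, hs] at this
          exact this⟩ : T1 Y))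
  intro a b hab
  cases a with
  | none =>
    cases b with
    | none => rfl
    | some v =>
      exfalso
      have := congrArg Subtype.val hab
      simp only [ZeroMemClass.coe_zero] at this
      exact (Units.ne_zero _) this.symm
  | some u =>
    cases b with
    | none =>
      exfalso
      have := congrArg Subtype.val hab
      simp only [ZeroMemClass.coe_zero] at this
      exact (Units.ne_zero _) this
    | some v =>
      have := congrArg Subtype.val hab
      simp only at this
      congr 1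
      exact Subtype.ext (Units.ext this)

/-- `N` divides `r - 1` -/
theorem card_T1_dvd [Finite E] :
    Nat.card (T1 Y) ∣ Nat.card (MulAction.orbit Y (P1.inf : P1 E)) - 1 := by
  rw [← card_PU]
  have hfin : (MulAction.orbit Y (P1.inf : P1 E) \ {P1.inf}).Finite := Set.toFinite _
  have key := card_dvd_of_free (G := PU Y) (A := P1 E) _
    (MulAction.orbit Y (P1.inf : P1 E) \ {P1.inf}) hfin rfl ?_ ?_
  · rw [Set.ncard_sdiff_singleton_of_mem (MulAction.mem_orbit_self _)] at key
    rwa [Nat.card_coe_set_eq]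
  · rintro ⟨g, t, ht⟩ a ⟨ha, ha'⟩
    refine ⟨?_, ?_⟩
    · obtain ⟨y, rfl⟩ := ha
      refine ⟨g * y, ?_⟩
      show (g * y) • (P1.inf : P1 E) = g • (y • (P1.inf : P1 E))
      rw [mul_smul]
    · intro h
      apply ha'
      rw [Set.mem_singleton_iff] at h ⊢
      have h' : (g : SpecialLinearGroup (Fin 2) E) • a = P1.inf := h
      rw [ht] at h'
      have : a = (xS t)⁻¹ • (P1.inf : P1 E) := by rw [← h', inv_smul_smul]
      rw [this, xS_inv, xS_smul_inf]
  · rintro ⟨g, t, ht⟩ a ⟨_, ha'⟩ h
    have h' : (g : SpecialLinearGroup (Fin 2) E) • a = a := h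
    rw [ht] at h'
    apply Subtype.ext; apply Subtype.ext
    show (g : SpecialLinearGroup (Fin 2) E) = 1
    rw [ht]
    by_contra hne
    have ht0 : t ≠ 0 := by
      rintro rfl; exact hne xS_zero
    exact ha' (xS_fixed t ht0 a h')

end Cfsg.Agent.Lib.Helper8.Dk
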