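import Mathlib
import Cfsg.Agent.Lib.Helper8.Dk5

/-! Dickson-type counting, part 6: the kernel of the squared diagonal character. -/

set_option autoImplicit false
set_option linter.unusedSectionVars false

namespace Cfsg.Agent.Lib.Helper8.Dk

open Matrix Cfsg.Agent.Lib.Helper8.St
open Classical

variable {E : Type*} [Field E]

/-- the sign matrices -/
def sgn (b : Bool) : SpecialLinearGroup (Fin 2) E := if b then 1 else -1

theorem sgn_00 (b : Bool) : (sgn b : SpecialLinearGroup (Fin 2) E).1 0 0 = if b then 1 else -1 := by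
  cases b <;> simp [sgn]
theorem sgn_01 (b : Bool) : (sgn b : SpecialLinearGroup (Fin 2) E).1 0 1 = 0 := by
  cases b <;> simp [sgn]
theorem sgn_10 (b : Bool) : (sgn b : SpecialLinearGroup (Fin 2) E).1 1 0 = 0 := by
  cases b <;> simp [sgn]
theorem sgn_11 (b : Bool) : (sgn b : SpecialLinearGroup (Fin 2) E).1 1 1 = if b then 1 else -1 := by
  cases b <;> simp [sgn]

variable (Y : Subgroup (SpecialLinearGroup (Fin 2) E))

theorem sgn_mem (hm : (-1 : SpecialLinearGroup (Fin 2) E) ∈ Y) (b : Bool) : sgn b ∈ Y := by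
  cases b
  · exact hm
  · exact Y.one_mem

/-- an upper triangular matrix with `g₀₀² = 1` is `± xS t` -/
theorem upper_sq_one (h2 : (2 : E) ≠ 0) (g : SpecialLinearGroup (Fin 2) E) (hc : g.1 1 0 = 0)
    (hsq : g.1 0 0 ^ 2 = 1) :
    g = sgn (decide (g.1 0 0 = 1)) * xS (g.1 0 0 * g.1 0 1) := by
  have hd := sl2_det g
  rw [hc, mul_zero, sub_zero] at hd
  have h11 : g.1 1 1 = g.1 0 0 := by
    have : g.1 1 1 = g.1 0 0 ^ 2 * g.1 1 1 := by rw [hsq, one_mul]
    rw [this, pow_two, mul_assoc, hd, mul_one]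
  have hcases : g.1 0 0 = 1 ∨ g.1 0 0 = -1 := by
    have : (g.1 0 0 - 1) * (g.1 0 0 + 1) = 0 := by linear_combination hsq
    rcases mul_eq_zero.mp this with h | h
    · left; exact sub_eq_zero.mp h
    · right; exact eq_neg_of_add_eq_zero_left h
  rcases hcases with h | h
  · have hdec : decide (g.1 0 0 = 1) = true := by simp [h]
    rw [hdec]
    apply sl2_ext
    · rw [sl2_mul_00, sgn_00, sgn_01]; simp [h]
    · rw [sl2_mul_01, sgn_00, sgn_01]; simp [h]
    · rw [sl2_mul_10, sgn_10, sgn_11]; simp [hc]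
    · rw [sl2_mul_11, sgn_10, sgn_11]; simp [h11, h]
  · have hne : g.1 0 0 ≠ 1 := by
      rw [h]; intro h'
      apply h2
      have : (2 : E) = 1 - (-1) := by norm_num
      rw [this, h', sub_self]
    have hdec : decide (g.1 0 0 = 1) = false := by simp [hne]
    rw [hdec]
    apply sl2_ext
    · rw [sl2_mul_00, sgn_00, sgn_01]; simp [h]
    · rw [sl2_mul_01, sgn_00, sgn_01]; simp [h]
    · rw [sl2_mul_10, sgn_10, sgn_11]; simp [hc]
    · rw [sl2_mul_11, sgn_10, sgn_11]; simp [h11, h]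

theorem mem_ker_psiD (s : StI Y) :
    s ∈ (psiD Y).ker ↔ ((s : Y) : SpecialLinearGroup (Fin 2) E).1 0 0 ^ 2 = 1 := by
  rw [MonoidHom.mem_ker]
  constructor
  · intro h
    have := congrArg (fun u : Eˣ => (u : E)) h
    simp only [Units.val_one] at this
    rw [psiD_val] at this
    exact this
  · intro h
    apply Units.ext
    rw [psiD_val, h]; rfl

/-- the kernel of `psiD` is `{±1} × PU` -/
noncomputable def kerEquiv (h2 : (2 : E) ≠ 0) (hm : (-1 : SpecialLinearGroup (Fin 2) E) ∈ Y) :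
    (psiD Y).ker ≃ Bool × T1 Y where
  toFun s := (decide ((((s : StI Y) : Y) : SpecialLinearGroup (Fin 2) E).1 0 0 = 1),
    ⟨(((s : StI Y) : Y) : SpecialLinearGroup (Fin 2) E).1 0 0 *
      (((s : StI Y) : Y) : SpecialLinearGroup (Fin 2) E).1 0 1, by
      have hc := (mem_StI Y s.1.1).1 s.1.2
      have hsq := (mem_ker_psiD Y s.1).1 s.2
      have h := upper_sq_one h2 _ hc hsq
      rw [mem_T1]
      have : xS ((((s : StI Y) : Y) : SpecialLinearGroup (Fin 2) E).1 0 0 *
          (((s : StI Y) : Y) : SpecialLinearGroup (Fin 2) E).1 0 1) =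
          (sgn (decide ((((s : StI Y) : Y) : SpecialLinearGroup (Fin 2) E).1 0 0 = 1)))⁻¹ *
            (((s : StI Y) : Y) : SpecialLinearGroup (Fin 2) E) :=
        eq_inv_mul_of_mul_eq h.symm
      rw [this]
      exact Y.mul_mem (Y.inv_mem (sgn_mem Y hm _)) s.1.1.2⟩)
  invFun bt := ⟨⟨⟨sgn bt.1 * xS bt.2.1, Y.mul_mem (sgn_mem Y hm _) bt.2.2⟩, by
      rw [mem_StI]
      show (sgn bt.1 * xS bt.2.1).1 1 0 = 0
      rw [sl2_mul_10, sgn_10]; simp⟩, by
      rw [mem_ker_psiD]
      show (sgn bt.1 * xS bt.2.1).1 0 0 ^ 2 = 1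
      rw [sl2_mul_00, sgn_00, sgn_01]
      cases bt.1 <;> simp⟩
  left_inv s := by
    have hc := (mem_StI Y s.1.1).1 s.1.2
    have hsq := (mem_ker_psiD Y s.1).1 s.2
    have h := upper_sq_one h2 _ hc hsq
    apply Subtype.ext; apply Subtype.ext; apply Subtype.ext
    exact h.symm
  right_inv bt := by
    obtain ⟨b, t⟩ := bt
    have h00 : (sgn b * xS t.1).1 0 0 = if b then 1 else -1 := by
      rw [sl2_mul_00, sgn_00, sgn_01]; simp
    have h01 : (sgn b * xS t.1).1 0 1 = (if b then 1 else -1) * t.1 := by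
      rw [sl2_mul_01, sgn_00, sgn_01]; simp
    have hne : (-1 : E) ≠ 1 := by
      intro h'
      apply h2
      have : (2 : E) = 1 - (-1) := by norm_num
      rw [this, h', sub_self]
    apply Prod.ext
    · show decide ((sgn b * xS t.1).1 0 0 = 1) = b
      rw [h00]
      cases b <;> simp [hne]
    · apply Subtype.ext
      show (sgn b * xS t.1).1 0 0 * (sgn b * xS t.1).1 0 1 = t.1
      rw [h00, h01]
      cases b <;> simp

theorem card_ker_psiD [Finite E] (h2 : (2 : E) ≠ 0) (hm : (-1 : SpecialLinearGroup (Fin 2) E) ∈ Y) :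
    Nat.card (psiD Y).ker = 2 * Nat.card (T1 Y) := by
  rw [Nat.card_congr (kerEquiv Y h2 hm), Nat.card_prod]
  simp

theorem card_StI [Finite E] (h2 : (2 : E) ≠ 0) (hm : (-1 : SpecialLinearGroup (Fin 2) E) ∈ Y) :
    Nat.card (StI Y) = 2 * Nat.card (T1 Y) * Nat.card (psiD Y).range := by
  rw [card_StI_eq, card_ker_psiD Y h2 hm]

end Cfsg.Agent.Lib.Helper8.Dk
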