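import Mathlib
import Cfsg.Agent.Lib.Helper8.Dk6

/-! Dickson-type counting, part 7: counting fixed points. -/

set_option autoImplicit false
set_option linter.unusedSectionVars false

namespace Cfsg.Agent.Lib.Helper8.Dk

open Matrix Cfsg.Agent.Lib.Helper8.St
open Classical

variable {E : Type*} [Field E] [Fintype E]

noncomputable instance : Fintype (P1 E) := inferInstanceAs (Fintype (Option E))

variable (Y : Subgroup (SpecialLinearGroup (Fin 2) E))

/-- central elements -/
def IsCen (g : Y) : Prop :=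
  (g : SpecialLinearGroup (Fin 2) E) = 1 ∨ (g : SpecialLinearGroup (Fin 2) E) = -1

/-- fixed points of `g` -/
noncomputable def Fix (g : Y) : Finset (P1 E) := Finset.univ.filter (fun a => g • a = a)

/-- the stabilizer of `a` as a finset -/
noncomputable def Stab (a : P1 E) : Finset Y := Finset.univ.filter (fun g => g • a = a)

/-- the noncentral elements of trace `±2` -/
noncomputable def U1 : Finset Y :=
  Finset.univ.filter (fun g => ¬ IsCen Y g ∧ tr2 (g : SpecialLinearGroup (Fin 2) E) ^ 2 = 4)

/-- the elements of trace `≠ ±2` -/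
noncomputable def U2 : Finset Y :=
  Finset.univ.filter (fun g => tr2 (g : SpecialLinearGroup (Fin 2) E) ^ 2 ≠ 4)

/-- the central elements -/
noncomputable def Z2 : Finset Y := Finset.univ.filter (fun g => IsCen Y g)

theorem sum_Fix_eq_sum_Stab : ∑ g : Y, (Fix Y g).card = ∑ a : P1 E, (Stab Y a).card := by
  have := Finset.sum_card_bipartiteAbove_eq_sum_card_bipartiteBelow
    (fun (g : Y) (a : P1 E) => g • a = a) (s := Finset.univ) (t := Finset.univ)
  exact this

theorem card_Stab (a : P1 E) : (Stab Y a).card = Nat.card (MulAction.stabilizer Y a) := by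
  rw [Nat.card_eq_fintype_card, Fintype.card_subtype]
  rfl

theorem tr2_sq_of_cen (g : Y) (h : IsCen Y g) : tr2 (g : SpecialLinearGroup (Fin 2) E) ^ 2 = 4 := by
  rcases h with h | h
  · rw [h, tr2_one]; norm_num
  · rw [h, tr2_neg_one]; norm_num

theorem card_univ_eq : Fintype.card Y = (Z2 Y).card + (U1 Y).card + (U2 Y).card := by
  have h1 : (Finset.univ : Finset Y) = (Z2 Y ∪ U1 Y) ∪ U2 Y := by
    ext g
    simp only [Finset.mem_univ, Finset.mem_union, Z2, U1, U2, Finset.mem_filter, true_and, true_iff]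
    by_cases h : tr2 (g : SpecialLinearGroup (Fin 2) E) ^ 2 = 4
    · by_cases hc : IsCen Y g
      · left; left; exact hc
      · left; right; exact ⟨hc, h⟩
    · right; exact h
  have hd1 : Disjoint (Z2 Y) (U1 Y) := by
    rw [Finset.disjoint_left]
    intro g hg hg'
    simp only [Z2, U1, Finset.mem_filter, Finset.mem_univ, true_and] at hg hg'
    exact hg'.1 hg
  have hd2 : Disjoint (Z2 Y ∪ U1 Y) (U2 Y) := by
    rw [Finset.disjoint_left]
    intro g hg hg'
    simp only [Z2, U1, U2, Finset.mem_union, Finset.mem_filter, Finset.mem_univ, true_and] at hg hg'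
    rcases hg with hg | hg
    · exact hg' (tr2_sq_of_cen Y g hg)
    · exact hg' hg.2
  rw [← Finset.card_univ, h1, Finset.card_union_of_disjoint hd2, Finset.card_union_of_disjoint hd1]

theorem card_Z2 (h2 : (2 : E) ≠ 0) (hm : (-1 : SpecialLinearGroup (Fin 2) E) ∈ Y) : (Z2 Y).card = 2 := by
  have : Z2 Y = {(1 : Y), (⟨-1, hm⟩ : Y)} := by
    ext g
    rw [Z2, Finset.mem_filter, Finset.mem_insert, Finset.mem_singleton]
    simp only [Finset.mem_univ, true_and, IsCen]
    constructor
    · rintro (h | h)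
      · left; exact Subtype.ext h
      · right; exact Subtype.ext h
    · rintro (h | h)
      · left; rw [h]; rfl
      · right; rw [h]
  rw [this, Finset.card_pair]
  intro h
  have := congrArg (fun g : Y => (g : SpecialLinearGroup (Fin 2) E).1 0 0) h
  simp only [Subgroup.coe_one] at this
  have h' : (1 : E) = -1 := by simpa using this
  apply h2
  have : (2 : E) = 1 + 1 := by norm_num
  rw [this]
  nth_rewrite 2 [h']
  ring

theorem card_Fix_cen (g : Y) (h : IsCen Y g) : (Fix Y g).card = Fintype.card (P1 E) := by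
  have : Fix Y g = Finset.univ := by
    ext a
    simp only [Fix, Finset.mem_filter, Finset.mem_univ, true_and, iff_true]
    rw [Subgroup.smul_def]
    rcases h with h | h
    · rw [h, one_smul]
    · rw [h, neg_smul_pt, one_smul]
  rw [this, Finset.card_univ]

theorem card_Fix_U1 (h2 : (2 : E) ≠ 0) (g : Y) (hg : g ∈ U1 Y) : (Fix Y g).card = 1 := by
  simp only [U1, Finset.mem_filter, Finset.mem_univ, true_and, IsCen, not_or] at hg
  obtain ⟨⟨h1, hm⟩, ht⟩ := hg
  obtain ⟨p, hp⟩ := fix_unip h2 (g : SpecialLinearGroup (Fin 2) E) h1 hm ht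
  have : Fix Y g = {p} := by
    ext a
    simp only [Fix, Finset.mem_filter, Finset.mem_univ, true_and, Finset.mem_singleton]
    rw [Subgroup.smul_def]
    exact hp a
  rw [this, Finset.card_singleton]

theorem card_Fix_U2 (h2 : (2 : E) ≠ 0) (g : Y)
    (hsq : IsSquare (tr2 (g : SpecialLinearGroup (Fin 2) E) ^ 2 - 4)) (hg : g ∈ U2 Y) :
    (Fix Y g).card = 2 := by
  simp only [U2, Finset.mem_filter, Finset.mem_univ, true_and] at hg
  obtain ⟨δ, hδ⟩ := hsq
  have hδ0 : δ ≠ 0 := by
    rintro rfl
    apply hg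
    rw [mul_zero] at hδ
    exact sub_eq_zero.mp hδ
  obtain ⟨p, q, hpq, hfix⟩ := fix_ss h2 (g : SpecialLinearGroup (Fin 2) E) δ hδ0 (by rw [hδ, pow_two])
  have : Fix Y g = {p, q} := by
    ext a
    simp only [Fix, Finset.mem_filter, Finset.mem_univ, true_and, Finset.mem_insert,
      Finset.mem_singleton]
    rw [Subgroup.smul_def]
    exact hfix a
  rw [this, Finset.card_pair hpq]

/-- the total number of incidences -/
theorem sum_Fix (h2 : (2 : E) ≠ 0) (hm : (-1 : SpecialLinearGroup (Fin 2) E) ∈ Y)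
    (hsq : ∀ g ∈ Y, IsSquare (tr2 g ^ 2 - 4)) :
    ∑ g : Y, (Fix Y g).card = 2 * Fintype.card (P1 E) + (U1 Y).card + 2 * (U2 Y).card := by
  have h1 : (Finset.univ : Finset Y) = (Z2 Y ∪ U1 Y) ∪ U2 Y := by
    ext g
    simp only [Finset.mem_univ, Finset.mem_union, Z2, U1, U2, Finset.mem_filter, true_and, true_iff]
    by_cases h : tr2 (g : SpecialLinearGroup (Fin 2) E) ^ 2 = 4
    · by_cases hc : IsCen Y g
      · left; left; exact hc
      · left; right; exact ⟨hc, h⟩
    · right; exact h
  have hd1 : Disjoint (Z2 Y) (U1 Y) := by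
    rw [Finset.disjoint_left]
    intro g hg hg'
    simp only [Z2, U1, Finset.mem_filter, Finset.mem_univ, true_and] at hg hg'
    exact hg'.1 hg
  have hd2 : Disjoint (Z2 Y ∪ U1 Y) (U2 Y) := by
    rw [Finset.disjoint_left]
    intro g hg hg'
    simp only [Z2, U1, U2, Finset.mem_union, Finset.mem_filter, Finset.mem_univ, true_and] at hg hg'
    rcases hg with hg | hg
    · exact hg' (tr2_sq_of_cen Y g hg)
    · exact hg' hg.2
  rw [h1, Finset.sum_union hd2, Finset.sum_union hd1]
  have e1 : ∑ g ∈ Z2 Y, (Fix Y g).card = 2 * Fintype.card (P1 E) := by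
    rw [Finset.sum_congr rfl (fun g hg => card_Fix_cen Y g (by
      simpa [Z2] using hg)), Finset.sum_const, card_Z2 Y h2 hm, smul_eq_mul]
  have e2 : ∑ g ∈ U1 Y, (Fix Y g).card = (U1 Y).card := by
    rw [Finset.sum_congr rfl (fun g hg => card_Fix_U1 Y h2 g hg), Finset.sum_const, smul_eq_mul,
      mul_one]
  have e3 : ∑ g ∈ U2 Y, (Fix Y g).card = 2 * (U2 Y).card := by
    rw [Finset.sum_congr rfl (fun g hg => card_Fix_U2 Y h2 g (hsq _ g.2) hg), Finset.sum_const,
      smul_eq_mul, mul_comm]
  rw [e1, e2, e3]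

end Cfsg.Agent.Lib.Helper8.Dk
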