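import Mathlib
import Cfsg.Agent.Lib.Helper8.Dk7

/-! Dickson-type counting, part 8: counting the unipotent elements. -/

set_option autoImplicit false
set_option linter.unusedSectionVars false

namespace Cfsg.Agent.Lib.Helper8.Dk

open Matrix Cfsg.Agent.Lib.Helper8.St
open Classical

variable {E : Type*} [Field E] [Fintype E]

variable (Y : Subgroup (SpecialLinearGroup (Fin 2) E))

/-- conjugation bijection between point stabilizers -/
theorem conj_card (Q : Y → Prop) (hQ : ∀ y g : Y, Q (y * g * y⁻¹) ↔ Q g) (y : Y) (a : P1 E) :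
    (Finset.univ.filter (fun g : Y => Q g ∧ g • (y • a) = y • a)).card =
      (Finset.univ.filter (fun g : Y => Q g ∧ g • a = a)).card := by
  apply Finset.card_equiv (MulAut.conj y⁻¹).toEquiv
  intro g
  simp only [Finset.mem_filter, Finset.mem_univ, true_and, MulEquiv.toEquiv_eq_coe,
    EquivLike.coe_coe, MulAut.conj_apply, inv_inv]
  have hq := hQ y⁻¹ g
  rw [inv_inv] at hq
  rw [hq]
  constructor
  · rintro ⟨h1, h2⟩
    refine ⟨h1, ?_⟩
    rw [mul_smul, mul_smul, h2, inv_smul_smul]
  · rintro ⟨h1, h2⟩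
    refine ⟨h1, ?_⟩
    rw [mul_smul, mul_smul] at h2
    have := congrArg (fun b => y • b) h2
    simp only [smul_inv_smul] at this
    exact this

theorem IsCen_conj (y g : Y) : IsCen Y (y * g * y⁻¹) ↔ IsCen Y g := by
  unfold IsCen
  have e : ((y * g * y⁻¹ : Y) : SpecialLinearGroup (Fin 2) E) =
      (y : SpecialLinearGroup (Fin 2) E) * g * (y : SpecialLinearGroup (Fin 2) E)⁻¹ := rfl
  rw [e]
  constructor
  · rintro (h | h)
    · left
      have : (g : SpecialLinearGroup (Fin 2) E) =
          (y : SpecialLinearGroup (Fin 2) E)⁻¹ * ((y : SpecialLinearGroup (Fin 2) E) * g *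
            (y : SpecialLinearGroup (Fin 2) E)⁻¹) * y := by group
      rw [this, h]; group
    · right
      have : (g : SpecialLinearGroup (Fin 2) E) =
          (y : SpecialLinearGroup (Fin 2) E)⁻¹ * ((y : SpecialLinearGroup (Fin 2) E) * g *
            (y : SpecialLinearGroup (Fin 2) E)⁻¹) * y := by group
      rw [this, h]
      simp
  · rintro (h | h)
    · left; rw [h]; group
    · right; rw [h]; simp

theorem tr2_conj_Y (y g : Y) : tr2 ((y * g * y⁻¹ : Y) : SpecialLinearGroup (Fin 2) E) =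
    tr2 (g : SpecialLinearGroup (Fin 2) E) := by
  have e : ((y * g * y⁻¹ : Y) : SpecialLinearGroup (Fin 2) E) =
      (y : SpecialLinearGroup (Fin 2) E) * g * (y : SpecialLinearGroup (Fin 2) E)⁻¹ := rfl
  rw [e, tr2_conj]

/-- stabilizers of points in the orbit of `∞` -/
theorem card_Stab_orbit (a : P1 E) (ha : a ∈ MulAction.orbit Y (P1.inf : P1 E)) :
    (Stab Y a).card = Nat.card (StI Y) := by
  obtain ⟨y, rfl⟩ := ha
  rw [← card_Stab]
  have := conj_card Y (fun _ => True) (fun _ _ => Iff.rfl) y (P1.inf : P1 E)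
  simp only [true_and] at this
  exact this

/-- for upper triangular matrices, trace `±2` means diagonal `±1` -/
theorem upper_tr_iff (g : SpecialLinearGroup (Fin 2) E) (hc : g.1 1 0 = 0) :
    tr2 g ^ 2 = 4 ↔ g.1 0 0 ^ 2 = 1 := by
  have hd := sl2_det g
  rw [hc, mul_zero, sub_zero] at hd
  unfold tr2
  constructor
  · intro h
    have h1 : (g.1 0 0 - g.1 1 1) ^ 2 = 0 := by linear_combination h - 4 * hd
    have h2 : g.1 0 0 = g.1 1 1 := sub_eq_zero.mp ((pow_eq_zero_iff (by norm_num : (2:ℕ) ≠ 0)).mp h1)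
    rw [← h2] at hd
    rw [pow_two, hd]
  · intro h
    have h2 : g.1 1 1 = g.1 0 0 := by
      have : g.1 1 1 = g.1 0 0 ^ 2 * g.1 1 1 := by rw [h, one_mul]
      rw [this, pow_two, mul_assoc, hd, mul_one]
    rw [h2]
    linear_combination 4 * h

/-- the unipotent-type elements fixing `a` -/
noncomputable def U1at (a : P1 E) : Finset Y :=
  Finset.univ.filter (fun g : Y => (¬ IsCen Y g ∧ tr2 (g : SpecialLinearGroup (Fin 2) E) ^ 2 = 4) ∧ g • a = a)

theorem card_U1_eq_sum (h2 : (2 : E) ≠ 0) : (U1 Y).card = ∑ a : P1 E, (U1at Y a).card := by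
  have := Finset.sum_card_bipartiteAbove_eq_sum_card_bipartiteBelow
    (fun (g : Y) (a : P1 E) => g • a = a) (s := U1 Y) (t := Finset.univ)
  have e1 : ∑ g ∈ U1 Y, (Finset.bipartiteAbove (fun (g : Y) (a : P1 E) => g • a = a) Finset.univ g).card
      = (U1 Y).card := by
    have : ∑ g ∈ U1 Y, (Finset.bipartiteAbove (fun (g : Y) (a : P1 E) => g • a = a) Finset.univ g).card
        = ∑ g ∈ U1 Y, 1 := Finset.sum_congr rfl (fun g hg => card_Fix_U1 Y h2 g hg)
    rw [this, Finset.sum_const, smul_eq_mul, mul_one]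
  rw [← e1, this]
  apply Finset.sum_congr rfl
  intro a _
  congr 1
  ext g
  simp only [Finset.bipartiteBelow, U1, U1at, Finset.mem_filter, Finset.mem_univ, true_and]

theorem card_U1at_orbit (a : P1 E) (ha : a ∈ MulAction.orbit Y (P1.inf : P1 E)) :
    (U1at Y a).card = (U1at Y (P1.inf : P1 E)).card := by
  obtain ⟨y, rfl⟩ := ha
  show (U1at Y (y • (P1.inf : P1 E))).card = _
  unfold U1at
  convert conj_card Y (fun g => ¬ IsCen Y g ∧ tr2 (g : SpecialLinearGroup (Fin 2) E) ^ 2 = 4)
    (fun y g => by rw [IsCen_conj, tr2_conj_Y]) y (P1.inf : P1 E)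

end Cfsg.Agent.Lib.Helper8.Dk
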