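import Mathlib
import Cfsg.Agent.Lib.Helper8.Dk8

/-! Dickson-type counting, part 9: the number of unipotent elements, and the main equation. -/

set_option autoImplicit false
set_option linter.unusedSectionVars false

namespace Cfsg.Agent.Lib.Helper8.Dk

open Matrix Cfsg.Agent.Lib.Helper8.St
open Classical

variable {E : Type*} [Field E] [Fintype E]

variable (Y : Subgroup (SpecialLinearGroup (Fin 2) E))

/-- the fixed point of a noncentral element of trace `±2` lies in the orbit of `∞` -/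
theorem fix_in_orbit (p : ℕ) [hp : Fact p.Prime] [CharP E p] (h2 : (2 : E) ≠ 0)
    (hm : (-1 : SpecialLinearGroup (Fin 2) E) ∈ Y) (h1 : xS (1 : E) ∈ Y)
    (g : SpecialLinearGroup (Fin 2) E) (hg : g ∈ Y) (hg1 : g ≠ 1) (hgm : g ≠ -1)
    (ht : tr2 g ^ 2 = 4) (a : P1 E) (ha : g • a = a) :
    ∃ y ∈ Y, a = y • (P1.inf : P1 E) := by
  -- reduce to trace 2
  have key : ∀ g' : SpecialLinearGroup (Fin 2) E, g' ∈ Y → g' ≠ 1 → tr2 g' = 2 → g' • a = a →
      ∃ y ∈ Y, a = y • (P1.inf : P1 E) := by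
    intro g' hg' hg'1 ht' ha'
    obtain ⟨y, hy, t, _, rfl⟩ := conj_of_tr2 Y p h2 h1 g' hg' ht'
    refine ⟨y, hy, ?_⟩
    have ht0 : t ≠ 0 := by
      rintro rfl
      apply hg'1
      rw [xS_zero, mul_one, mul_inv_cancel]
    have h3 : xS t • (y⁻¹ • a) = y⁻¹ • a := by
      have := congrArg (fun b => y⁻¹ • b) ha'
      beta_reduce at this
      rw [← mul_smul] at this
      rw [← mul_smul]
      convert this using 2
      group
    have h4 := xS_fixed t ht0 _ h3
    rw [← h4, smul_inv_smul]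
  have hcases : tr2 g = 2 ∨ tr2 g = -2 := by
    have : (tr2 g - 2) * (tr2 g + 2) = 0 := by linear_combination ht
    rcases mul_eq_zero.mp this with h | h
    · left; exact sub_eq_zero.mp h
    · right; exact eq_neg_of_add_eq_zero_left h
  rcases hcases with h | h
  · exact key g hg hg1 h ha
  · apply key (-g)
    · have : -g = (-1) * g := by simp
      rw [this]; exact Y.mul_mem hm hg
    · intro h'
      apply hgm
      rw [← h', neg_neg]
    · rw [tr2_neg, h, neg_neg]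
    · rw [neg_smul_pt, ha]

theorem U1at_eq_empty (p : ℕ) [hp : Fact p.Prime] [CharP E p] (h2 : (2 : E) ≠ 0)
    (hm : (-1 : SpecialLinearGroup (Fin 2) E) ∈ Y) (h1 : xS (1 : E) ∈ Y)
    (a : P1 E) (ha : a ∉ MulAction.orbit Y (P1.inf : P1 E)) : U1at Y a = ∅ := by
  rw [Finset.eq_empty_iff_forall_notMem]
  intro g hg
  simp only [U1at, IsCen, not_or, Finset.mem_filter, Finset.mem_univ, true_and] at hg
  obtain ⟨⟨⟨hg1, hgm⟩, ht⟩, hfix⟩ := hg
  obtain ⟨y, hy, rfl⟩ := fix_in_orbit Y p h2 hm h1 _ g.2 hg1 hgm ht a hfix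
  exact ha ⟨⟨y, hy⟩, rfl⟩

/-- the kernel of `psiD` as a set of elements of `Y` -/
noncomputable def kerEquiv2 : (psiD Y).ker ≃
    {g : Y // g • (P1.inf : P1 E) = P1.inf ∧ tr2 (g : SpecialLinearGroup (Fin 2) E) ^ 2 = 4} where
  toFun s := ⟨s.1.1, s.1.2, (upper_tr_iff _ ((mem_StI Y s.1.1).1 s.1.2)).2 ((mem_ker_psiD Y s.1).1 s.2)⟩
  invFun g := ⟨⟨g.1, g.2.1⟩, (mem_ker_psiD Y _).2
    ((upper_tr_iff _ ((mem_StI Y g.1).1 g.2.1)).1 g.2.2)⟩
  left_inv s := rfl
  right_inv g := rfl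

theorem card_U1at_inf (h2 : (2 : E) ≠ 0) (hm : (-1 : SpecialLinearGroup (Fin 2) E) ∈ Y) :
    (U1at Y (P1.inf : P1 E)).card + 2 = 2 * Nat.card (T1 Y) := by
  rw [← card_ker_psiD Y h2 hm, Nat.card_congr (kerEquiv2 Y), Nat.card_eq_fintype_card,
    Fintype.card_subtype]
  rw [show (U1at Y (P1.inf : P1 E)).card + 2 = (U1at Y (P1.inf : P1 E)).card + (Z2 Y).card from by
    rw [card_Z2 Y h2 hm]]
  have hd : Disjoint (U1at Y (P1.inf : P1 E)) (Z2 Y) := by
    rw [Finset.disjoint_left]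
    intro g hg hg'
    simp only [U1at, Z2, Finset.mem_filter, Finset.mem_univ, true_and] at hg hg'
    exact hg.1.1 hg'
  rw [← Finset.card_union_of_disjoint hd]
  congr 1
  ext g
  simp only [U1at, Z2, Finset.mem_union, Finset.mem_filter, Finset.mem_univ, true_and]
  constructor
  · rintro (⟨⟨_, h⟩, h'⟩ | h)
    · exact ⟨h', h⟩
    · refine ⟨?_, tr2_sq_of_cen Y g h⟩
      rw [Subgroup.smul_def]
      rcases h with h | h
      · rw [h, one_smul]
      · rw [h, neg_smul_pt, one_smul]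
  · rintro ⟨h, h'⟩
    by_cases hc : IsCen Y g
    · right; exact hc
    · left; exact ⟨⟨hc, h'⟩, h⟩

/-- the orbit of `∞` as a finset -/
noncomputable def OI : Finset (P1 E) := Finset.univ.filter (fun a => a ∈ MulAction.orbit Y (P1.inf : P1 E))

theorem card_OI : (OI Y).card = Nat.card (MulAction.orbit Y (P1.inf : P1 E)) := by
  rw [Nat.card_eq_fintype_card, Fintype.card_subtype]
  rfl

/-- the number of noncentral elements of trace `±2` -/
theorem card_U1 (p : ℕ) [hp : Fact p.Prime] [CharP E p] (h2 : (2 : E) ≠ 0)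
    (hm : (-1 : SpecialLinearGroup (Fin 2) E) ∈ Y) (h1 : xS (1 : E) ∈ Y) :
    (U1 Y).card + 2 * (OI Y).card = 2 * (OI Y).card * Nat.card (T1 Y) := by
  rw [card_U1_eq_sum Y h2, ← Finset.sum_add_sum_compl (OI Y)]
  have e1 : ∑ a ∈ OI Y, (U1at Y a).card = (OI Y).card * (U1at Y (P1.inf : P1 E)).card := by
    rw [Finset.sum_congr rfl (fun a ha => card_U1at_orbit Y a (by
      simpa [OI] using ha)), Finset.sum_const, smul_eq_mul]
  have e2 : ∑ a ∈ (OI Y)ᶜ, (U1at Y a).card = 0 := by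
    apply Finset.sum_eq_zero
    intro a ha
    rw [U1at_eq_empty Y p h2 hm h1 a (by simpa [OI] using ha), Finset.card_empty]
  rw [e1, e2, add_zero]
  have := card_U1at_inf Y h2 hm
  calc (OI Y).card * (U1at Y (P1.inf : P1 E)).card + 2 * (OI Y).card
      = (OI Y).card * ((U1at Y (P1.inf : P1 E)).card + 2) := by ring
    _ = 2 * (OI Y).card * Nat.card (T1 Y) := by rw [this]; ring

/-- the main equation -/
theorem main_eq (p : ℕ) [hp : Fact p.Prime] [CharP E p] (h2 : (2 : E) ≠ 0)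
    (hm : (-1 : SpecialLinearGroup (Fin 2) E) ∈ Y) (h1 : xS (1 : E) ∈ Y)
    (hsq : ∀ g ∈ Y, IsSquare (tr2 g ^ 2 - 4)) :
    ∑ a ∈ (OI Y)ᶜ, (Stab Y a).card + 4 + 2 * (OI Y).card * Nat.card (T1 Y) =
      Nat.card Y + 2 * ((OI Y)ᶜ).card + 4 * (OI Y).card := by
  have hA := sum_Fix_eq_sum_Stab Y
  rw [sum_Fix Y h2 hm hsq, ← Finset.sum_add_sum_compl (OI Y)] at hA
  have e1 : ∑ a ∈ OI Y, (Stab Y a).card = Nat.card Y := by
    rw [Finset.sum_congr rfl (fun a ha => card_Stab_orbit Y a (by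
      simpa [OI] using ha)), Finset.sum_const, smul_eq_mul, card_OI, card_orbit_mul]
  rw [e1] at hA
  have hU := card_U1 Y p h2 hm h1
  have hcard := card_univ_eq Y
  rw [card_Z2 Y h2 hm, ← Nat.card_eq_fintype_card] at hcard
  have hP : Fintype.card (P1 E) = (OI Y).card + ((OI Y)ᶜ).card := by
    rw [Finset.card_add_card_compl]
  rw [hP] at hA
  omega

end Cfsg.Agent.Lib.Helper8.Dk
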