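import Mathlib
import Cfsg.Agent.Lib.Helper8.Dk9

/-! Dickson-type counting, part 10: the orbits outside the orbit of `∞`. -/

set_option autoImplicit false
set_option linter.unusedSectionVars false

namespace Cfsg.Agent.Lib.Helper8.Dk

open Matrix Cfsg.Agent.Lib.Helper8.St
open Classical

variable {E : Type*} [Field E] [Fintype E]

variable (Y : Subgroup (SpecialLinearGroup (Fin 2) E))

/-- stabilizers have even order -/
theorem two_dvd_card_Stab (h2 : (2 : E) ≠ 0) (hm : (-1 : SpecialLinearGroup (Fin 2) E) ∈ Y) (a : P1 E) :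
    2 ∣ (Stab Y a).card := by
  rw [card_Stab]
  have hmem : (⟨-1, hm⟩ : Y) ∈ MulAction.stabilizer Y a := by
    rw [MulAction.mem_stabilizer_iff, Subgroup.smul_def]
    show (-1 : SpecialLinearGroup (Fin 2) E) • a = a
    rw [neg_smul_pt, one_smul]
  have hord : orderOf (⟨⟨-1, hm⟩, hmem⟩ : MulAction.stabilizer Y a) = 2 := by
    apply orderOf_eq_prime
    · apply Subtype.ext; apply Subtype.ext
      show (-1 : SpecialLinearGroup (Fin 2) E) ^ 2 = 1
      simp
    · intro h
      have := congrArg (fun g : MulAction.stabilizer Y a => ((g : Y) : SpecialLinearGroup (Fin 2) E).1 0 0) h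
      simp only [Subgroup.coe_one] at this
      have h' : (-1 : E) = 1 := by simpa using this
      apply h2
      have : (2 : E) = 1 - (-1) := by norm_num
      rw [this, h', sub_self]
  have := orderOf_dvd_natCard (⟨⟨-1, hm⟩, hmem⟩ : MulAction.stabilizer Y a)
  rw [hord] at this
  exact this

theorem card_Stab_pos (a : P1 E) : 0 < (Stab Y a).card := by
  rw [Finset.card_pos]
  exact ⟨1, by simp [Stab]⟩

/-- the orbit of `a` as a finset -/
noncomputable def Orb (a : P1 E) : Finset (P1 E) := Finset.univ.filter (fun b => b ∈ MulAction.orbit Y a)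

theorem card_Orb_mul (a : P1 E) : (Orb Y a).card * (Stab Y a).card = Nat.card Y := by
  have := MulAction.card_orbit_mul_card_stabilizer_eq_card_group Y a
  rw [card_Stab, Nat.card_eq_fintype_card, Nat.card_eq_fintype_card]
  convert this
  rw [Fintype.card_subtype]
  rfl

theorem card_Stab_of_mem_Orb (a b : P1 E) (hb : b ∈ Orb Y a) : (Stab Y b).card = (Stab Y a).card := by
  simp only [Orb, Finset.mem_filter, Finset.mem_univ, true_and] at hb
  obtain ⟨y, rfl⟩ := hb
  have := conj_card Y (fun _ => True) (fun _ _ => Iff.rfl) y a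
  simp only [true_and] at this
  exact this

theorem Orb_disjoint (a b : P1 E) (hb : b ∉ Orb Y a) : Disjoint (Orb Y a) (Orb Y b) := by
  rw [Finset.disjoint_left]
  intro c hc hc'
  apply hb
  simp only [Orb, Finset.mem_filter, Finset.mem_univ, true_and] at hc hc' ⊢
  rw [← MulAction.orbit_eq_iff] at hc hc'
  rw [← hc, hc']
  exact MulAction.mem_orbit_self b

theorem Orb_subset_compl (a : P1 E) (ha : a ∈ (OI Y)ᶜ) : Orb Y a ⊆ (OI Y)ᶜ := by
  intro b hb
  simp only [Orb, OI, Finset.mem_filter, Finset.mem_univ, true_and, Finset.mem_compl] at hb ha ⊢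
  intro h
  apply ha
  rw [← MulAction.orbit_eq_iff] at hb h
  rw [← h, hb]
  exact MulAction.mem_orbit_self a

/-- the dichotomy -/
theorem orbit_dichotomy (p : ℕ) [hp : Fact p.Prime] [CharP E p] (h2 : (2 : E) ≠ 0)
    (hm : (-1 : SpecialLinearGroup (Fin 2) E) ∈ Y) (h1 : xS (1 : E) ∈ Y)
    (hsq : ∀ g ∈ Y, IsSquare (tr2 g ^ 2 - 4)) (hN : 2 ≤ Nat.card (T1 Y)) :
    (4 + 2 * (OI Y).card * Nat.card (T1 Y) = Nat.card Y + 4 * (OI Y).card) ∨
    ∃ m f : ℕ, 2 ≤ f ∧ m * (2 * f) = Nat.card Y ∧
      m + 2 * (OI Y).card = 2 + (OI Y).card * Nat.card (T1 Y) := by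
  have hmain := main_eq Y p h2 hm h1 hsq
  set r := (OI Y).card with hr
  set N := Nat.card (T1 Y) with hNdef
  set g₀ := Nat.card Y with hg₀
  have hrpos : 0 < r := by
    rw [hr, Finset.card_pos]
    exact ⟨P1.inf, by simp [OI]⟩
  -- D a = |Stab a| - 2
  have hsplit : ∑ a ∈ (OI Y)ᶜ, (Stab Y a).card =
      2 * ((OI Y)ᶜ).card + ∑ a ∈ (OI Y)ᶜ, ((Stab Y a).card - 2) := by
    rw [mul_comm, ← smul_eq_mul, ← Finset.sum_const, ← Finset.sum_add_distrib]
    apply Finset.sum_congr rfl
    intro a _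
    have h1 := two_dvd_card_Stab Y h2 hm a
    have h2 := card_Stab_pos Y a
    omega
  rw [hsplit] at hmain
  set W := (OI Y)ᶜ.filter (fun a => 2 < (Stab Y a).card) with hW
  have hWsum : ∑ a ∈ (OI Y)ᶜ, ((Stab Y a).card - 2) = ∑ a ∈ W, ((Stab Y a).card - 2) := by
    rw [hW, Finset.sum_filter]
    apply Finset.sum_congr rfl
    intro a _
    split_ifs with h
    · rfl
    · omega
  rw [hWsum] at hmain
  -- orbits inside W
  have horb : ∀ a ∈ W, Orb Y a ⊆ W ∧ ∑ b ∈ Orb Y a, ((Stab Y b).card - 2) + 2 * (Orb Y a).card = g₀ ∧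
      4 * (Orb Y a).card ≤ g₀ := by
    intro a ha
    rw [hW, Finset.mem_filter] at ha
    refine ⟨?_, ?_, ?_⟩
    · intro b hb
      rw [hW, Finset.mem_filter]
      exact ⟨Orb_subset_compl Y a ha.1 hb, by rw [card_Stab_of_mem_Orb Y a b hb]; exact ha.2⟩
    · rw [Finset.sum_congr rfl (fun b hb => by rw [card_Stab_of_mem_Orb Y a b hb]),
        Finset.sum_const, smul_eq_mul, hg₀, ← card_Orb_mul Y a]
      have : 2 ≤ (Stab Y a).card := by omega
      obtain ⟨c, hc⟩ := Nat.exists_eq_add_of_le this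
      rw [hc]
      simp only [Nat.add_sub_cancel_left]
      ring
    · rw [hg₀, ← card_Orb_mul Y a]
      have h1 := two_dvd_card_Stab Y h2 hm a
      have : 4 ≤ (Stab Y a).card := by omega
      calc 4 * (Orb Y a).card = (Orb Y a).card * 4 := by ring
        _ ≤ (Orb Y a).card * (Stab Y a).card := Nat.mul_le_mul_left _ this
  by_cases hWe : W = ∅
  · left
    rw [hWe, Finset.sum_empty] at hmain
    omega
  · right
    obtain ⟨a, ha⟩ := Finset.nonempty_iff_ne_empty.mpr hWe
    obtain ⟨hsub, hsum, h4⟩ := horb a ha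
    have hWeq : W = Orb Y a := by
      by_contra hne
      have : ∃ a' ∈ W, a' ∉ Orb Y a := by
        by_contra hcon
        push Not at hcon
        exact hne (Finset.Subset.antisymm hcon hsub)
      obtain ⟨a', ha', hna'⟩ := this
      obtain ⟨hsub', hsum', h4'⟩ := horb a' ha'
      have hdis := Orb_disjoint Y a a' hna'
      have hle : ∑ b ∈ Orb Y a ∪ Orb Y a', ((Stab Y b).card - 2) ≤ ∑ b ∈ W, ((Stab Y b).card - 2) :=
        Finset.sum_le_sum_of_subset (Finset.union_subset hsub hsub')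
      rw [Finset.sum_union hdis] at hle
      have : r * 2 ≤ r * N := Nat.mul_le_mul_left _ hN
      nlinarith
    have hf := two_dvd_card_Stab Y h2 hm a
    obtain ⟨f, hf⟩ := hf
    refine ⟨(Orb Y a).card, f, ?_, ?_, ?_⟩
    · rw [hW, Finset.mem_filter] at ha
      omega
    · rw [← hf, card_Orb_mul]
    · rw [hWeq] at hmain
      have : 2 * r * N = 2 * (r * N) := by ring
      omega

end Cfsg.Agent.Lib.Helper8.Dk
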