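import Mathlib
import Cfsg.Agent.Lib.Helper8.Dk10

/-! Dickson-type counting, part 11: the arithmetic and the conclusion. -/

set_option autoImplicit false
set_option linter.unusedSectionVars false

namespace Cfsg.Agent.Lib.Helper8.Dk

open Matrix Cfsg.Agent.Lib.Helper8.St
open Classical

theorem arith (N r d k m f : ℕ) (hN : 4 ≤ N) (hr : r = 1 + k * N) (hk : 1 ≤ k)
    (hdN : d + 1 ≤ N) (hf : 2 ≤ f) (h1 : m * (2 * f) = r * (2 * N * d))
    (h2 : m + 2 * r = 2 + r * N) : k = 1 ∧ N ≤ 2 * d + 1 := by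
  obtain ⟨M, rfl⟩ : ∃ M, N = M + 2 := ⟨N - 2, by omega⟩
  have hM : 2 ≤ M := by omega
  have hrpos : 0 < r := by rw [hr]; omega
  have hm : m = 2 + r * M := by
    have : r * (M + 2) = r * M + 2 * r := by ring
    omega
  subst hm
  -- f * (2 + r M) = r N d
  have h3 : 2 * f + r * (f * M) = r * ((M + 2) * d) := by
    have : (2 + r * M) * (2 * f) = 2 * (2 * f + r * (f * M)) := by ring
    have h' : r * (2 * (M + 2) * d) = 2 * (r * ((M + 2) * d)) := by ring
    rw [this, h'] at h1
    omega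
  have hdvd : r ∣ 2 * f := by
    have h4 : r ∣ 2 * f + r * (f * M) := by rw [h3]; exact dvd_mul_right _ _
    exact (Nat.dvd_add_iff_left (dvd_mul_right r (f * M))).mpr h4
  obtain ⟨e, he⟩ := hdvd
  have h5 : e + f * M = (M + 2) * d := by
    rw [he, ← mul_add] at h3
    exact Nat.eq_of_mul_eq_mul_left hrpos h3
  have hepos : 1 ≤ e := by
    rcases Nat.eq_zero_or_pos e with h | h
    · rw [h, mul_zero] at he; omega
    · exact h
  -- e (1 + k M) = 2 d
  have h6 : e * (1 + k * M) = 2 * d := by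
    have h7 : 2 * e + (2 * f) * M = 2 * ((M + 2) * d) := by
      have : 2 * e + (2 * f) * M = 2 * (e + f * M) := by ring
      rw [this, h5]
    rw [he, hr] at h7
    have h8 : (M + 2) * (e * (1 + k * M)) = (M + 2) * (2 * d) := by
      have : 2 * e + (1 + k * (M + 2)) * e * M = (M + 2) * (e * (1 + k * M)) := by ring
      rw [← this, h7]; ring
    exact Nat.eq_of_mul_eq_mul_left (by omega) h8
  have hk1 : k = 1 := by
    by_contra hne
    have hk2 : 2 ≤ k := by omega
    have h9 : e * (1 + 2 * M) ≤ e * (1 + k * M) := by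
      apply Nat.mul_le_mul_left
      have : 2 * M ≤ k * M := Nat.mul_le_mul_right _ hk2
      omega
    have he1 : e = 1 := by
      by_contra hne'
      have : 2 ≤ e := by omega
      have : 2 * (1 + 2 * M) ≤ e * (1 + 2 * M) := Nat.mul_le_mul_right _ this
      omega
    rw [he1, one_mul] at h6
    have hk3 : k = 2 := by
      by_contra hne'
      have : 3 ≤ k := by omega
      have : 3 * M ≤ k * M := Nat.mul_le_mul_right _ this
      omega
    rw [hk3] at h6
    omega
  refine ⟨hk1, ?_⟩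
  rw [hk1, one_mul] at h6
  have : 1 * (1 + M) ≤ e * (1 + M) := Nat.mul_le_mul_right _ hepos
  omega

variable {E : Type*} [Field E] [Fintype E]

variable (Y : Subgroup (SpecialLinearGroup (Fin 2) E))

/-- the conclusion of the counting argument -/
theorem count_conclusion (p : ℕ) [hp : Fact p.Prime] [CharP E p] (h2 : (2 : E) ≠ 0)
    (hm : (-1 : SpecialLinearGroup (Fin 2) E) ∈ Y) (h1 : xS (1 : E) ∈ Y)
    (hsq : ∀ g ∈ Y, IsSquare (tr2 g ^ 2 - 4)) (hN : 4 ≤ Nat.card (T1 Y))
    (hr : Nat.card (MulAction.orbit Y (P1.inf : P1 E)) ≠ 1) :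
    Nat.card (MulAction.orbit Y (P1.inf : P1 E)) = Nat.card (T1 Y) + 1 ∧
      Nat.card (T1 Y) ≤ 2 * Nat.card (psiD Y).range + 1 := by
  have hdich := orbit_dichotomy Y p h2 hm h1 hsq (by omega)
  rw [card_OI] at hdich
  have hg₀ := card_orbit_mul Y
  rw [card_StI Y h2 hm] at hg₀
  have hdN := card_range_psiD_lt Y h1
  have hdvd := card_T1_dvd Y
  set r := Nat.card (MulAction.orbit Y (P1.inf : P1 E)) with hrdef
  set N := Nat.card (T1 Y) with hNdef
  set d := Nat.card (psiD Y).range with hddef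
  have hrpos : 0 < r := by
    rw [hrdef]
    have : Nonempty (MulAction.orbit Y (P1.inf : P1 E)) := ⟨⟨_, MulAction.mem_orbit_self _⟩⟩
    exact Nat.card_pos
  have hdpos : 0 < d := Nat.card_pos
  obtain ⟨k, hk⟩ := hdvd
  have hrk : r = 1 + k * N := by
    have : r - 1 = k * N := by rw [hk, mul_comm]
    omega
  have hkpos : 1 ≤ k := by
    rcases Nat.eq_zero_or_pos k with h | h
    · rw [h, zero_mul] at hrk; omega
    · exact h
  rcases hdich with h | ⟨m, f, hf, hmf, hm2⟩
  · exfalso
    rw [← hg₀] at h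
    have h3 : r * (2 * N * d) = 2 * (r * N * d) := by ring
    have h4 : r * N ≤ r * N * d := Nat.le_mul_of_pos_right _ hdpos
    have h5 : 2 * r * N = 2 * (r * N) := by ring
    have : 2 ≤ r := by omega
    omega
  · rw [← hg₀] at hmf
    obtain ⟨hk1, hle⟩ := arith N r d k m f hN hrk hkpos hdN hf hmf hm2
    refine ⟨?_, hle⟩
    rw [hrk, hk1]; ring

end Cfsg.Agent.Lib.Helper8.Dk
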