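import Mathlib
import Cfsg.Agent.Lib.Helper8.Dk11

/-! Dickson-type counting, part 12: consequences. `T1` is closed under multiplication. -/

set_option autoImplicit false
set_option linter.unusedSectionVars false

namespace Cfsg.Agent.Lib.Helper8.Dk

open Matrix Cfsg.Agent.Lib.Helper8.St
open Classical

variable {E : Type*} [Field E] [Fintype E]

variable (Y : Subgroup (SpecialLinearGroup (Fin 2) E))

/-- the range of `psiD` together with `0` injects into any additive subgroup containing it -/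
theorem card_range_psiD_lt' (B : AddSubgroup E) (hB : ∀ s : StI Y, ((psiD Y s : Eˣ) : E) ∈ B) :
    Nat.card (psiD Y).range + 1 ≤ Nat.card B := by
  rw [← Finite.card_option]
  apply Nat.card_le_card_of_injective
    (fun o : Option (psiD Y).range => match o with
      | none => (0 : B)
      | some u => (⟨((u : Eˣ) : E), by
          obtain ⟨s, hs⟩ := u.2
          rw [← hs]; exact hB s⟩ : B))
  intro a b hab
  cases a with
  | none =>
    cases b with
    | none => rfl
    | some v =>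
      exfalso
      have := congrArg Subtype.val hab
      simp only [ZeroMemClass.coe_zero] at this
      exact (Units.ne_zero _) this.symm
  | some u =>
    cases b with
    | none =>
      exfalso
      have := congrArg Subtype.val hab
      simp only [ZeroMemClass.coe_zero] at this
      exact (Units.ne_zero _) this
    | some v =>
      have := congrArg Subtype.val hab
      simp only at this
      congr 1
      exact Subtype.ext (Units.ext this)

/-- `T1` is closed under multiplication -/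
theorem T1_mul_mem (p : ℕ) [hp : Fact p.Prime] [CharP E p] (h2 : (2 : E) ≠ 0)
    (hm : (-1 : SpecialLinearGroup (Fin 2) E) ∈ Y) (h1 : xS (1 : E) ∈ Y)
    (hsq : ∀ g ∈ Y, IsSquare (tr2 g ^ 2 - 4)) (hN : 4 ≤ Nat.card (T1 Y))
    (hr : Nat.card (MulAction.orbit Y (P1.inf : P1 E)) ≠ 1)
    (a b : E) (ha : a ∈ T1 Y) (hb : b ∈ T1 Y) : a * b ∈ T1 Y := by
  obtain ⟨_, hNd⟩ := count_conclusion Y p h2 hm h1 hsq hN hr
  set A : AddSubgroup E := AddSubgroup.closure {x : E | ∃ s : StI Y, ((psiD Y s : Eˣ) : E) = x} with hA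
  have hAT : A ≤ T1 Y := by
    rw [hA, AddSubgroup.closure_le]
    rintro x ⟨s, rfl⟩
    have := psiD_mul_mem Y s 1 h1
    rwa [mul_one] at this
  have hAcard := card_range_psiD_lt' Y A (fun s => AddSubgroup.subset_closure ⟨s, rfl⟩)
  have hdvd : Nat.card A ∣ Nat.card (T1 Y) := AddSubgroup.card_dvd_of_le hAT
  have hAeq : Nat.card A = Nat.card (T1 Y) := by
    obtain ⟨c, hc⟩ := hdvd
    have hc1 : c = 1 := by
      have hcpos : 0 < c := by
        rcases Nat.eq_zero_or_pos c with h | h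
        · rw [h, mul_zero] at hc; omega
        · exact h
      by_contra hne
      have : 2 ≤ c := by omega
      have : Nat.card A * 2 ≤ Nat.card A * c := Nat.mul_le_mul_left _ this
      omega
    rw [hc, hc1, mul_one]
  have hAtop : ∀ x ∈ T1 Y, x ∈ A := by
    have hsub : (A : Set E) ⊆ (T1 Y : Set E) := hAT
    have heq : (A : Set E) = (T1 Y : Set E) := by
      apply Set.eq_of_subset_of_ncard_le hsub _ (Set.toFinite _)
      rw [← Nat.card_coe_set_eq, ← Nat.card_coe_set_eq]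
      exact hAeq.ge
    intro x hx
    have : x ∈ (T1 Y : Set E) := hx
    rw [← heq] at this
    exact this
  have key : ∀ x ∈ A, x * b ∈ T1 Y := by
    intro x hx
    rw [hA] at hx
    induction hx using AddSubgroup.closure_induction with
    | mem x hx =>
      obtain ⟨s, rfl⟩ := hx
      exact psiD_mul_mem Y s b hb
    | zero => rw [zero_mul]; exact (T1 Y).zero_mem
    | add x y _ _ hx hy => rw [add_mul]; exact (T1 Y).add_mem hx hy
    | neg x _ hx => rw [neg_mul]; exact (T1 Y).neg_mem hx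
  exact key a (hAtop a ha)

theorem yS_smul_inf (s : E) (hs : s ≠ 0) : yS s • (P1.inf : P1 E) = P1.fin s⁻¹ := by
  rw [smul_inf _ (by simpa using hs)]
  simp

/-- the unipotent subgroup is transitive on the orbit of `∞` minus `∞` -/
theorem exists_xS_smul (p : ℕ) [hp : Fact p.Prime] [CharP E p] (h2 : (2 : E) ≠ 0)
    (hm : (-1 : SpecialLinearGroup (Fin 2) E) ∈ Y) (h1 : xS (1 : E) ∈ Y)
    (hsq : ∀ g ∈ Y, IsSquare (tr2 g ^ 2 - 4)) (hN : 4 ≤ Nat.card (T1 Y))
    (hr : Nat.card (MulAction.orbit Y (P1.inf : P1 E)) ≠ 1)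
    (a b : P1 E) (ha : a ∈ MulAction.orbit Y (P1.inf : P1 E)) (ha' : a ≠ P1.inf)
    (hb : b ∈ MulAction.orbit Y (P1.inf : P1 E)) (hb' : b ≠ P1.inf) :
    ∃ t ∈ T1 Y, xS t • a = b := by
  obtain ⟨hrN, _⟩ := count_conclusion Y p h2 hm h1 hsq hN hr
  set S : Set (P1 E) := MulAction.orbit Y (P1.inf : P1 E) \ {P1.inf} with hS
  have hScard : Nat.card S = Nat.card (T1 Y) := by
    rw [Nat.card_coe_set_eq, hS, Set.ncard_sdiff_singleton_of_mem (MulAction.mem_orbit_self _),
      ← Nat.card_coe_set_eq, hrN]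
    rfl
  let f : T1 Y → S := fun t => ⟨xS t.1 • a, by
    constructor
    · obtain ⟨y, rfl⟩ := ha
      refine ⟨⟨xS t.1, t.2⟩ * y, ?_⟩
      show ((⟨xS t.1, t.2⟩ : Y) * y) • (P1.inf : P1 E) = (⟨xS t.1, t.2⟩ : Y) • (y • (P1.inf : P1 E))
      rw [mul_smul]
    · intro h
      apply ha'
      rw [Set.mem_singleton_iff] at h
      have : a = (xS t.1)⁻¹ • (P1.inf : P1 E) := by rw [← h, inv_smul_smul]
      rw [this, xS_inv, xS_smul_inf]⟩
  have hinj : Function.Injective f := by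
    intro t t' htt'
    have h3 : xS t.1 • a = xS t'.1 • a := congrArg Subtype.val htt'
    have h4 : xS (t.1 - t'.1) • a = a := by
      rw [sub_eq_neg_add, xS_add, ← xS_inv, mul_smul, h3, inv_smul_smul]
    apply Subtype.ext
    by_contra hne
    exact ha' (xS_fixed _ (sub_ne_zero.mpr hne) a h4)
  have hbij := hinj.bijective_of_nat_card_le (le_of_eq hScard)
  obtain ⟨t, ht⟩ := hbij.2 ⟨b, hb, by simpa using hb'⟩
  exact ⟨t.1, t.2, congrArg Subtype.val ht⟩

/-- the conclusion in `E` -/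
theorem inv_mem_T1 (p : ℕ) [hp : Fact p.Prime] [CharP E p] (h2 : (2 : E) ≠ 0)
    (hm : (-1 : SpecialLinearGroup (Fin 2) E) ∈ Y) (h1 : xS (1 : E) ∈ Y)
    (hsq : ∀ g ∈ Y, IsSquare (tr2 g ^ 2 - 4)) (hN : 4 ≤ Nat.card (T1 Y))
    (β : E) (hβ : β ≠ 0) (hy1 : yS β ∈ Y) (hy2 : yS (β / 2) ∈ Y) :
    β⁻¹ ∈ T1 Y ∧ ∀ a b : E, a ∈ T1 Y → b ∈ T1 Y → a * b ∈ T1 Y := by
  have ha : (P1.fin β⁻¹ : P1 E) ∈ MulAction.orbit Y (P1.inf : P1 E) :=
    ⟨⟨yS β, hy1⟩, by rw [← yS_smul_inf β hβ]; rfl⟩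
  have hβ2 : β / 2 ≠ 0 := div_ne_zero hβ h2
  have hb : (P1.fin (β / 2)⁻¹ : P1 E) ∈ MulAction.orbit Y (P1.inf : P1 E) :=
    ⟨⟨yS (β / 2), hy2⟩, by rw [← yS_smul_inf (β / 2) hβ2]; rfl⟩
  have hr : Nat.card (MulAction.orbit Y (P1.inf : P1 E)) ≠ 1 := by
    intro h
    rw [Nat.card_eq_one_iff_unique] at h
    obtain ⟨hs, _⟩ := h
    have := hs.elim ⟨_, ha⟩ ⟨_, MulAction.mem_orbit_self _⟩
    exact P1.fin_ne_inf _ (congrArg Subtype.val this)
  refine ⟨?_, T1_mul_mem Y p h2 hm h1 hsq hN hr⟩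
  obtain ⟨t, ht, hta⟩ := exists_xS_smul Y p h2 hm h1 hsq hN hr _ _ ha (P1.fin_ne_inf _) hb
    (P1.fin_ne_inf _)
  rw [xS_smul_fin, P1.fin_inj] at hta
  have : t = β⁻¹ := by
    have h3 : (β / 2)⁻¹ = 2 * β⁻¹ := by
      rw [inv_div, div_eq_mul_inv]
    rw [h3] at hta
    linear_combination hta
  rw [← this]; exact ht

end Cfsg.Agent.Lib.Helper8.Dk
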