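import Mathlib
import Cfsg.Agent.Lib.Helper8.Dk12

/-! Dickson-type counting, part 13: a finite extension in which all elements become squares. -/

set_option autoImplicit false
set_option linter.unusedSectionVars false

namespace Cfsg.Agent.Lib.Helper8.Dk

open Matrix Cfsg.Agent.Lib.Helper8.St Polynomial

universe u

/-- in a finite field of odd characteristic, the product of two non-squares is a square -/
theorem isSquare_mul_of_not {F : Type u} [Field F] [Finite F] (x ν : F) (hx : ¬ IsSquare x) (hν : ¬ IsSquare ν) :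
    IsSquare (x * ν) := by
  classical
  have := Fintype.ofFinite F
  have hx0 : x ≠ 0 := by rintro rfl; exact hx ⟨0, by simp⟩
  have hν0 : ν ≠ 0 := by rintro rfl; exact hν ⟨0, by simp⟩
  rw [← quadraticChar_one_iff_isSquare (mul_ne_zero hx0 hν0), map_mul,
    quadraticChar_neg_one_iff_not_isSquare.mpr hx, quadraticChar_neg_one_iff_not_isSquare.mpr hν]
  norm_num

theorem exists_sq_ext {F : Type u} [Field F] [Finite F] (h2 : (2 : F) ≠ 0) :
    ∃ (E : Type u) (_ : Field E) (_ : Finite E) (ι : F →+* E), ∀ x : F, IsSquare (ι x) := by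
  classical
  have := Fintype.ofFinite F
  have hchar : ringChar F ≠ 2 := by
    intro h
    apply h2
    have : ((2 : ℕ) : F) = 0 := by rw [← h]; exact ringChar.Nat.cast_ringChar
    exact_mod_cast this
  obtain ⟨ν, hν⟩ := FiniteField.exists_nonsquare hchar
  have hirr : Irreducible (X ^ 2 - C ν : F[X]) :=
    X_pow_sub_C_irreducible_of_prime Nat.prime_two (fun b hb => hν ⟨b, by rw [← hb, pow_two]⟩)
  have hmonic : (X ^ 2 - C ν : F[X]).Monic := monic_X_pow_sub_C ν (by norm_num)
  have : Fact (Irreducible (X ^ 2 - C ν : F[X])) := ⟨hirr⟩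
  have hfin : Finite (AdjoinRoot (X ^ 2 - C ν : F[X])) := by
    have : Module.Finite F (AdjoinRoot (X ^ 2 - C ν : F[X])) := hmonic.finite_adjoinRoot
    exact Module.finite_of_finite F
  refine ⟨AdjoinRoot (X ^ 2 - C ν : F[X]), inferInstance, hfin, AdjoinRoot.of _, ?_⟩
  have hroot : (AdjoinRoot.root (X ^ 2 - C ν : F[X])) ^ 2 = AdjoinRoot.of _ ν := by
    have := AdjoinRoot.eval₂_root (X ^ 2 - C ν : F[X])
    rw [eval₂_sub, eval₂_pow, eval₂_X, eval₂_C, sub_eq_zero] at this
    exact this
  have hν0 : ν ≠ 0 := by rintro rfl; exact hν ⟨0, by simp⟩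
  have hr0 : AdjoinRoot.root (X ^ 2 - C ν : F[X]) ≠ 0 := by
    intro h
    rw [h, zero_pow (by norm_num)] at hroot
    exact hν0 ((map_eq_zero _).mp hroot.symm)
  intro x
  by_cases hx : IsSquare x
  · obtain ⟨y, rfl⟩ := hx
    exact ⟨AdjoinRoot.of _ y, by rw [map_mul]⟩
  · obtain ⟨y, hy⟩ := isSquare_mul_of_not x ν hx hν
    refine ⟨AdjoinRoot.of _ y / AdjoinRoot.root _, ?_⟩
    have h3 : AdjoinRoot.of (X ^ 2 - C ν : F[X]) x * AdjoinRoot.of _ ν =
        AdjoinRoot.of _ y * AdjoinRoot.of _ y := by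
      rw [← map_mul, hy, map_mul]
    rw [← hroot] at h3
    field_simp
    rw [h3]
    ring

end Cfsg.Agent.Lib.Helper8.Dk
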