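import Mathlib
import Cfsg.Agent.Lib.Helper8.Dk13

/-! Dickson-type counting, part 14: the generation theorem over a finite field. -/

set_option autoImplicit false
set_option linter.unusedSectionVars false

namespace Cfsg.Agent.Lib.Helper8.Dk

open Matrix Cfsg.Agent.Lib.Helper8.St

universe u

section neg

variable {E : Type*} [Field E]

theorem sl2_inv_neg (a : SpecialLinearGroup (Fin 2) E) : (-a)⁻¹ = -a⁻¹ := by
  apply inv_eq_of_mul_eq_one_right
  rw [neg_mul_neg, mul_inv_cancel]

/-- the subgroup generated by `H` and `-1` -/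
def negClosure (H : Subgroup (SpecialLinearGroup (Fin 2) E)) : Subgroup (SpecialLinearGroup (Fin 2) E) where
  carrier := {g | g ∈ H ∨ -g ∈ H}
  one_mem' := Or.inl H.one_mem
  mul_mem' := by
    rintro a b (ha | ha) (hb | hb)
    · exact Or.inl (H.mul_mem ha hb)
    · right; rw [← mul_neg]; exact H.mul_mem ha hb
    · right; rw [← neg_mul]; exact H.mul_mem ha hb
    · left; rw [← neg_mul_neg]; exact H.mul_mem ha hb
  inv_mem' := by
    rintro a (ha | ha)
    · exact Or.inl (H.inv_mem ha)
    · right; rw [← sl2_inv_neg]; exact H.inv_mem ha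

theorem mem_negClosure (H : Subgroup (SpecialLinearGroup (Fin 2) E)) (g : SpecialLinearGroup (Fin 2) E) :
    g ∈ negClosure H ↔ g ∈ H ∨ -g ∈ H := Iff.rfl

theorem yS_zero : yS (0 : E) = 1 := by
  apply sl2_ext <;> simp

theorem yS_inv (t : E) : (yS t)⁻¹ = yS (-t) := by
  rw [inv_eq_iff_mul_eq_one, ← yS_add, add_neg_cancel, yS_zero]

/-- a conjugation formula -/
theorem conj_xS_eq_yS (α : E) (hα : α ≠ 0) (t : E) :
    (xS (-α⁻¹) * yS α) * xS t * (xS (-α⁻¹) * yS α)⁻¹ = yS (-(t * α ^ 2)) := by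
  rw [mul_inv_eq_iff_eq_mul]
  apply sl2_ext
  · simp only [sl2_mul_00, sl2_mul_01, sl2_mul_10, sl2_mul_11, xS_00, xS_01, xS_10, xS_11, yS_00,
      yS_01, yS_10, yS_11]
    field_simp
    ring
  · simp only [sl2_mul_00, sl2_mul_01, sl2_mul_10, sl2_mul_11, xS_00, xS_01, xS_10, xS_11, yS_00,
      yS_01, yS_10, yS_11]
    field_simp
    ring
  · simp only [sl2_mul_00, sl2_mul_01, sl2_mul_10, sl2_mul_11, xS_00, xS_01, xS_10, xS_11, yS_00,
      yS_01, yS_10, yS_11]
    field_simp
    ring
  · simp only [sl2_mul_00, sl2_mul_01, sl2_mul_10, sl2_mul_11, xS_00, xS_01, xS_10, xS_11, yS_00,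
      yS_01, yS_10, yS_11]
    field_simp
    ring

end neg

section map

variable {F E : Type*} [Field F] [Field E] (ι : F →+* E)

theorem map_entry (g : SpecialLinearGroup (Fin 2) F) (i j : Fin 2) :
    (SpecialLinearGroup.map ι g).1 i j = ι (g.1 i j) := by
  rw [SpecialLinearGroup.map_apply_coe]
  rfl

theorem map_xS (t : F) : SpecialLinearGroup.map ι (xS t) = xS (ι t) := by
  apply sl2_ext <;> rw [map_entry] <;> simp

theorem map_yS (t : F) : SpecialLinearGroup.map ι (yS t) = yS (ι t) := by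
  apply sl2_ext <;> rw [map_entry] <;> simp

theorem tr2_map (g : SpecialLinearGroup (Fin 2) F) : tr2 (SpecialLinearGroup.map ι g) = ι (tr2 g) := by
  unfold tr2
  rw [map_entry, map_entry, map_add]

end map

end Cfsg.Agent.Lib.Helper8.Dk
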