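import Mathlib
import Cfsg.Agent.Lib.Helper8.Dk14

/-! Dickson-type counting, part 15: the generation theorem over a finite field. -/

set_option autoImplicit false
set_option linter.unusedSectionVars false

namespace Cfsg.Agent.Lib.Helper8.Dk

open Matrix Cfsg.Agent.Lib.Helper8.St

universe u

/-- transport of `T1` along the extension -/
theorem T1_transport {F E : Type*} [Field F] [Field E] [Finite F] (h2 : (2 : F) ≠ 0) (ι : F →+* E)
    (X : Subgroup (SpecialLinearGroup (Fin 2) F)) (t : E)
    (ht : t ∈ T1 (negClosure (X.map (SpecialLinearGroup.map ι)))) :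
    ∃ t₀ : F, xS t₀ ∈ X ∧ ι t₀ = t := by
  have hinj : Function.Injective ι := ι.injective
  rw [mem_T1, mem_negClosure] at ht
  rcases ht with ht | ht
  · obtain ⟨x, hx, hxt⟩ := ht
    refine ⟨x.1 0 1, ?_, ?_⟩
    · have e : x = xS (x.1 0 1) := by
        apply sl2_ext
        · apply hinj; rw [← map_entry, hxt]; simp
        · simp
        · apply hinj; rw [← map_entry, hxt]; simp
        · apply hinj; rw [← map_entry, hxt]; simp
      rw [← e]; exact hx
    · rw [← map_entry, hxt]; simp
  · obtain ⟨x, hx, hxt⟩ := ht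
    have e : x = -xS (-x.1 0 1) := by
      apply sl2_ext
      · apply hinj; rw [← map_entry, hxt]; simp
      · simp
      · apply hinj; rw [← map_entry, hxt]; simp
      · apply hinj; rw [← map_entry, hxt]; simp
    refine ⟨-x.1 0 1, ?_, ?_⟩
    · -- `-1 ∈ X`
      set p := ringChar F with hp
      have : CharP F p := ringChar.charP F
      have hprime : p.Prime := CharP.char_is_prime F p
      have hodd : Odd p := by
        rcases hprime.eq_two_or_odd' with h | h
        · exfalso; apply h2
          have : ((2 : ℕ) : F) = 0 := by rw [← h]; exact CharP.cast_eq_zero F p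
          exact_mod_cast this
        · exact h
      have hpow : x ^ p = -1 := by
        rw [e, hodd.neg_pow, unip_pow_char p _ (tr2_xS _)]
      have hm1 : (-1 : SpecialLinearGroup (Fin 2) F) ∈ X := by
        rw [← hpow]; exact X.pow_mem hx p
      have : xS (-x.1 0 1) = (-1) * x := by
        rw [e]; simp
      rw [this]
      exact X.mul_mem hm1 hx
    · rw [map_neg, ← map_entry, hxt]; simp

theorem dickson_fin {k : Type*} {F : Type u} [Field k] [Field F] [Algebra k F] [Finite F]
    (h2 : (2 : F) ≠ 0) (hk : 4 ≤ Nat.card k) (α : F) (hα : α ≠ 0)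
    (hgen : Algebra.adjoin k {α} = ⊤) :
    Subgroup.closure ({g : SpecialLinearGroup (Fin 2) F | ∃ c : k, g = xS (algebraMap k F c)} ∪
      {g | ∃ c : k, g = yS (algebraMap k F c * α)}) = ⊤ := by
  classical
  set X := Subgroup.closure ({g : SpecialLinearGroup (Fin 2) F | ∃ c : k, g = xS (algebraMap k F c)} ∪
      {g | ∃ c : k, g = yS (algebraMap k F c * α)}) with hX
  have hx : ∀ c : k, xS (algebraMap k F c) ∈ X := fun c => Subgroup.subset_closure (Or.inl ⟨c, rfl⟩)
  have hy : ∀ c : k, yS (algebraMap k F c * α) ∈ X := fun c => Subgroup.subset_closure (Or.inr ⟨c, rfl⟩)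
  obtain ⟨E, _, _, ι, hsqE⟩ := exists_sq_ext h2
  have := Fintype.ofFinite E
  have hinj : Function.Injective ι := ι.injective
  set Y := negClosure (X.map (SpecialLinearGroup.map ι)) with hY
  set p := ringChar E with hp
  have : CharP E p := ringChar.charP E
  have : Fact p.Prime := ⟨CharP.char_is_prime E p⟩
  have h2E : (2 : E) ≠ 0 := by
    intro h
    apply h2
    apply hinj
    rw [map_zero, ← h, map_ofNat]
  have hmapmem : ∀ x ∈ X, SpecialLinearGroup.map ι x ∈ Y := fun x hx' => Or.inl ⟨x, hx', rfl⟩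
  have hm : (-1 : SpecialLinearGroup (Fin 2) E) ∈ Y := by
    right; rw [neg_neg]; exact Subgroup.one_mem _
  have h1 : xS (1 : E) ∈ Y := by
    have := hmapmem _ (hx 1)
    rwa [map_xS, map_one, map_one] at this
  have hsq : ∀ g ∈ Y, IsSquare (tr2 g ^ 2 - 4) := by
    rintro g (⟨x, _, rfl⟩ | ⟨x, _, hxg⟩)
    · rw [tr2_map]
      have : ι (tr2 x) ^ 2 - 4 = ι (tr2 x ^ 2 - 4) := by rw [map_sub, map_pow, map_ofNat]
      rw [this]; exact hsqE _
    · have : tr2 g = - ι (tr2 x) := by
        rw [← tr2_map, hxg, tr2_neg, neg_neg]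
      rw [this]
      have : (-ι (tr2 x)) ^ 2 - 4 = ι (tr2 x ^ 2 - 4) := by rw [map_sub, map_pow, map_ofNat, neg_sq]
      rw [this]; exact hsqE _
  have hkF : Finite k := Finite.of_injective (algebraMap k F) (algebraMap k F).injective
  have hN : 4 ≤ Nat.card (T1 Y) := by
    refine le_trans hk ?_
    apply Nat.card_le_card_of_injective (fun c : k => (⟨ι (algebraMap k F c), by
      rw [mem_T1, ← map_xS]; exact hmapmem _ (hx c)⟩ : T1 Y))
    intro c c' hcc'
    have := congrArg Subtype.val hcc'
    exact (algebraMap k F).injective (hinj this)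
  have hβ : ι α ≠ 0 := by
    intro h; apply hα; apply hinj; rw [h, map_zero]
  have hy1 : yS (ι α) ∈ Y := by
    have := hmapmem _ (hy 1)
    rwa [map_yS, map_one, one_mul] at this
  have hy2 : yS (ι α / 2) ∈ Y := by
    have := hmapmem _ (hy (2⁻¹))
    rw [map_yS, map_mul, map_inv₀] at this
    have e : ι ((algebraMap k F) 2)⁻¹ * ι α = ι α / 2 := by
      rw [map_ofNat, map_inv₀, map_ofNat]; field_simp
    rwa [e] at this
  obtain ⟨hinv, hmul⟩ := inv_mem_T1 Y p h2E hm h1 hsq hN (ι α) hβ hy1 hy2
  have htr := T1_transport h2 ι X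
  -- the subring
  have hTmul : ∀ a b : F, xS a ∈ X → xS b ∈ X → xS (a * b) ∈ X := by
    intro a b ha hb
    have ha' : ι a ∈ T1 Y := by rw [mem_T1, ← map_xS]; exact hmapmem _ ha
    have hb' : ι b ∈ T1 Y := by rw [mem_T1, ← map_xS]; exact hmapmem _ hb
    obtain ⟨t₀, ht₀, ht₀'⟩ := htr _ (hmul _ _ ha' hb')
    rw [← map_mul] at ht₀'
    rw [← hinj ht₀']; exact ht₀
  have hTinv : xS α⁻¹ ∈ X := by
    obtain ⟨t₀, ht₀, ht₀'⟩ := htr _ hinv
    rw [← map_inv₀] at ht₀'
    rw [← hinj ht₀']; exact ht₀
  let R : Subalgebra k F :=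
    { carrier := {t | xS t ∈ X}
      mul_mem' := fun {a b} ha hb => hTmul a b ha hb
      one_mem' := by
        show xS 1 ∈ X
        have := hx 1; rwa [map_one] at this
      add_mem' := fun {a b} ha hb => by
        show xS (a + b) ∈ X
        rw [xS_add]; exact X.mul_mem ha hb
      zero_mem' := by
        show xS 0 ∈ X
        rw [xS_zero]; exact X.one_mem
      algebraMap_mem' := fun c => hx c }
  have hαR : α ∈ R := by
    have := Fintype.ofFinite F
    have hαi : α⁻¹ ≠ 0 := inv_ne_zero hα
    have h3 := FiniteField.pow_card_sub_one_eq_one α⁻¹ hαi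
    have hcard : 2 ≤ Fintype.card F := Fintype.one_lt_card
    have h4 : α = α⁻¹ ^ (Fintype.card F - 2) := by
      have : α⁻¹ ^ (Fintype.card F - 1) = α⁻¹ ^ (Fintype.card F - 2) * α⁻¹ := by
        rw [← pow_succ]; congr 1; omega
      rw [this] at h3
      have h6 := congrArg (fun z => z * α) h3
      simp only [one_mul] at h6
      rw [mul_assoc, inv_mul_cancel₀ hα, mul_one] at h6
      exact h6.symm
    rw [h4]
    exact R.pow_mem hTinv _
  have hRtop : R = ⊤ := by
    rw [eq_top_iff, ← hgen]
    apply Algebra.adjoin_le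
    intro a ha
    rw [Set.mem_singleton_iff] at ha
    rw [ha]; exact hαR
  have hxall : ∀ t : F, xS t ∈ X := by
    intro t
    have : t ∈ R := by rw [hRtop]; exact Algebra.mem_top
    exact this
  have hyall : ∀ s : F, yS s ∈ X := by
    intro s
    have hg : xS (-α⁻¹) * yS α ∈ X := by
      apply X.mul_mem (hxall _)
      have := hy 1; rwa [map_one, one_mul] at this
    have h5 := conj_xS_eq_yS α hα (-(s / α ^ 2))
    have e : -(-(s / α ^ 2) * α ^ 2) = s := by field_simp
    rw [e] at h5
    rw [← h5]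
    exact X.mul_mem (X.mul_mem hg (hxall _)) (X.inv_mem hg)
  rw [eq_top_iff, ← closure_xS_yS, Subgroup.closure_le]
  rintro g (⟨t, rfl⟩ | ⟨t, rfl⟩)
  · exact hxall t
  · exact hyall t

end Cfsg.Agent.Lib.Helper8.Dk
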