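import Mathlib
import Cfsg.Prelude.Def_Characters
import Cfsg.Agent.Lib.Helper8.FI1

/-!
# Frobenius–Schur: real-valued irreducible characters have indicator `±1`; indicator `-1`
forces even degree
-/

set_option autoImplicit false

namespace Cfsg.Agent.Lib.Helper8

open Cfsg
open scoped ComplexConjugate
open Matrix Cfsg.Agent.Lib.Helper1 Cfsg.Agent.Lib.Helper4 Cfsg.Agent.S4475

universe u

section

variable {G : Type u} [Group G] [Fintype G]

/-- A real-valued irreducible character has Frobenius–Schur indicator `1`, or `-1` and then its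
degree is even. -/
theorem fs_real_cases {χ : G → ℂ} (hχ : IsIrrCharacter G χ) (hreal : ∀ g : G, conj (χ g) = χ g) :
    (Nat.card G : ℂ)⁻¹ * ∑ g : G, χ (g * g) = 1 ∨
    ((Nat.card G : ℂ)⁻¹ * ∑ g : G, χ (g * g) = -1 ∧ ∃ k : ℕ, χ 1 = 2 * (k : ℂ)) := by
  obtain ⟨n, ρ, hirr, rfl⟩ := hχ
  haveI := hirr
  have hreal' : ∀ g : G, (ρ.character g).im = 0 := fun g => Complex.conj_eq_iff_im.mp (hreal g)
  obtain ⟨⟨M₀, h₀, hM₀inv⟩, hsym⟩ := Cfsg.Agent.S4475.result n ρ hirr hreal'
  have hM₀unit : IsUnit M₀ := isUnit_of_invariant ρ M₀ h₀ hM₀inv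
  have hdet : IsUnit M₀.det := (Matrix.isUnit_iff_isUnit_det M₀).mp hM₀unit
  set ν := (Nat.card G : ℂ)⁻¹ * ∑ s : G, ρ.character (s * s) with hν
  have h1 := hsym M₀ hM₀inv
  have h2 : M₀ = (ν * ν) • M₀ := by
    have := congrArg Matrix.transpose h1
    rw [Matrix.transpose_transpose, Matrix.transpose_smul, h1, smul_smul] at this
    exact this
  have h3 : (1 - ν * ν) • M₀ = 0 := by
    rw [sub_smul, one_smul, ← h2, sub_self]
  have h4 : 1 - ν * ν = 0 := by
    rcases smul_eq_zero.1 h3 with h | h
    · exact h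
    · exact absurd h h₀
  have h5 : (ν - 1) * (ν + 1) = 0 := by linear_combination -h4
  rcases mul_eq_zero.1 h5 with h | h
  · left; linear_combination h
  · right
    have hν1 : ν = -1 := by linear_combination h
    refine ⟨hν1, ?_⟩
    rw [hν1] at h1
    have h6 := congrArg Matrix.det h1
    rw [Matrix.det_transpose, Matrix.det_smul, Fintype.card_fin] at h6
    have h7 : ((-1 : ℂ)) ^ n = 1 := by
      have h8 : M₀.det * 1 = M₀.det * (-1 : ℂ) ^ n := by
        rw [mul_one, mul_comm]; exact h6
      exact (mul_left_cancel₀ hdet.ne_zero h8).symm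
    have heven : Even n := by
      rcases Nat.even_or_odd n with he | ho
      · exact he
      · rw [ho.neg_one_pow] at h7
        norm_num at h7
    obtain ⟨k, hk⟩ := heven
    refine ⟨k, ?_⟩
    rw [Representation.char_one, Module.finrank_fin_fun, hk]
    push_cast
    ring

/-- An irreducible character whose Frobenius–Schur indicator is not `0` is real valued and has
indicator `±1`; conversely a real-valued one has non-zero indicator. -/
theorem fs_real_iff {χ : G → ℂ} (hχ : IsIrrCharacter G χ) :
    (∀ g : G, conj (χ g) = χ g) ↔ (Nat.card G : ℂ)⁻¹ * ∑ g : G, χ (g * g) ≠ 0 := by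
  constructor
  · intro hreal
    rcases fs_real_cases hχ hreal with h | ⟨h, -⟩
    · rw [h]; norm_num
    · rw [h]; norm_num
  · intro h
    rcases fs_indicator_cases hχ with h0 | ⟨hr, -⟩
    · exact absurd h0 h
    · exact hr

end

end Cfsg.Agent.Lib.Helper8
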