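import Mathlib
import Cfsg.Prelude.Def_Characters
import Cfsg.Agent.Lib.Helper1.CharFound5
import Cfsg.Agent.Lib.Helper1.CharInt
import Cfsg.Agent.Lib.Helper8.FI2
import Cfsg.Agent.Lib.Helper1.CharFound8
import Cfsg.Agent.Lib.Helper8.BlockUnion
import Cfsg.Agent.Lib.Helper8.Deflation

/-!
# A character of even degree from a real element with a centralizer of odd order
-/

set_option autoImplicit false

namespace Cfsg.Agent.Lib.Helper8.ED

open Cfsg
open scoped ComplexConjugate
open Cfsg.Agent.Lib.Helper1 Cfsg.Agent.Lib.Helper4 Cfsg.Agent.Lib.Helper8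

universe u

/-- A sum over a finite set carrying a fixed-point-free involution that preserves the summand is
twice the sum over a subset. -/
theorem sum_eq_two_mul_of_involution {α : Type*} [DecidableEq α] (f : α → ℂ) (σ : α → α) :
    ∀ (n : ℕ) (s : Finset α), s.card = n → (∀ a ∈ s, σ a ∈ s) → (∀ a ∈ s, σ (σ a) = a) →
      (∀ a ∈ s, σ a ≠ a) → (∀ a ∈ s, f (σ a) = f a) →
      ∃ t : Finset α, t ⊆ s ∧ ∑ a ∈ s, f a = 2 * ∑ a ∈ t, f a := by
  intro n
  induction n using Nat.strong_induction_on with
  | _ n ih =>
    intro s hcard hmem hinv hfix hf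
    rcases s.eq_empty_or_nonempty with rfl | ⟨a, ha⟩
    · exact ⟨∅, Finset.Subset.refl _, by simp⟩
    · have hσa : σ a ∈ s.erase a := Finset.mem_erase.2 ⟨hfix a ha, hmem a ha⟩
      set s' := (s.erase a).erase (σ a) with hs'
      have hc1 : (s.erase a).card = s.card - 1 := Finset.card_erase_of_mem ha
      have hc2 : s'.card = (s.erase a).card - 1 := Finset.card_erase_of_mem hσa
      have hpos : 0 < s.card := Finset.card_pos.2 ⟨a, ha⟩
      have hpos1 : 0 < (s.erase a).card := Finset.card_pos.2 ⟨σ a, hσa⟩
      have hlt : s'.card < n := by omega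
      have hsub : s' ⊆ s := fun b hb => Finset.mem_of_mem_erase (Finset.mem_of_mem_erase hb)
      have hb_ne : ∀ b ∈ s', b ≠ a ∧ b ≠ σ a := by
        intro b hb
        have h1 := Finset.mem_erase.1 hb
        have h2 := Finset.mem_erase.1 h1.2
        exact ⟨h2.1, h1.1⟩
      obtain ⟨t, hts, hsum⟩ := ih s'.card hlt s' rfl
        (by
          intro b hb
          have hbs := hsub hb
          obtain ⟨hba, hbσ⟩ := hb_ne b hb
          rw [hs', Finset.mem_erase, Finset.mem_erase]
          refine ⟨?_, ?_, hmem b hbs⟩
          · intro h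
            apply hba
            rw [← hinv b hbs, h, hinv a ha]
          · intro h
            apply hbσ
            rw [← hinv b hbs, h])
        (fun b hb => hinv b (hsub hb))
        (fun b hb => hfix b (hsub hb))
        (fun b hb => hf b (hsub hb))
      have hat : a ∉ t := fun h => (hb_ne a (hts h)).1 rfl
      refine ⟨insert a t, ?_, ?_⟩
      · intro b hb
        rcases Finset.mem_insert.1 hb with rfl | hb
        · exact ha
        · exact hsub (hts hb)
      · rw [Finset.sum_insert hat, ← Finset.add_sum_erase s f ha,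
          ← Finset.add_sum_erase (s.erase a) f hσa, ← hs', hsum, hf a ha]
        ring

/-- Complex conjugation on irreducible characters. -/
noncomputable def cjIrr {H : Type u} [Group H] [Finite H] (θ : IrrCharacter H) :
    IrrCharacter H :=
  ⟨fun k => conj ((θ : H → ℂ) k), by
    classical
    haveI : Fintype H := Fintype.ofFinite _
    exact isIrrCharacter_conj θ.2⟩

theorem cjIrr_cjIrr {H : Type u} [Group H] [Finite H] (θ : IrrCharacter H) :
    cjIrr (cjIrr θ) = θ := by
  apply Subtype.ext
  funext k
  show conj (conj ((θ : H → ℂ) k)) = _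
  simp

section

variable {G : Type u} [Group G] [Fintype G] [DecidableEq G]

/-- The number of square roots of an element, as a complex-valued function. -/
noncomputable def rootCount (y : G) : ℂ :=
  ((Finset.univ.filter (fun h : G => h * h = y)).card : ℂ)

theorem rootCount_isClassFunction : IsClassFunction G (rootCount (G := G)) := by
  intro g h
  unfold rootCount
  congr 1
  apply Finset.card_bij (fun k _ => h⁻¹ * k * h)
  · intro k hk
    rw [Finset.mem_filter] at hk ⊢
    refine ⟨Finset.mem_univ _, ?_⟩
    have : h⁻¹ * k * h * (h⁻¹ * k * h) = h⁻¹ * (k * k) * h := by group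
    rw [this, hk.2]
    group
  · intro k _ k' _ hkk
    have := congrArg (fun z => h * z * h⁻¹) hkk
    simpa [mul_assoc] using this
  · intro k hk
    rw [Finset.mem_filter] at hk
    refine ⟨h * k * h⁻¹, ?_, by group⟩
    rw [Finset.mem_filter]
    refine ⟨Finset.mem_univ _, ?_⟩
    have : h * k * h⁻¹ * (h * k * h⁻¹) = h * (k * k) * h⁻¹ := by group
    rw [this, hk.2]

theorem classInner_rootCount (χ : G → ℂ) :
    classInner (rootCount (G := G)) χ =
      conj ((Nat.card G : ℂ)⁻¹ * ∑ g : G, χ (g * g)) := by
  unfold classInner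
  rw [map_mul, map_inv₀, Complex.conj_natCast, map_sum]
  congr 1
  rw [← Finset.sum_fiberwise Finset.univ (fun h : G => h * h) (fun h => conj (χ (h * h)))]
  refine Finset.sum_congr rfl fun y _ => ?_
  unfold rootCount
  rw [Finset.sum_congr rfl (fun h hh => by rw [(Finset.mem_filter.1 hh).2] :
    ∀ h ∈ Finset.univ.filter (fun h : G => h * h = y), conj (χ (h * h)) = conj (χ y))]
  rw [Finset.sum_const, nsmul_eq_mul]

/-- An element whose centralizer has odd order has exactly one square root. -/
theorem rootCount_eq_one {x : G} (hodd : Odd (Nat.card (Subgroup.centralizer ({x} : Set G)))) :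
    rootCount x = 1 := by
  unfold rootCount
  obtain ⟨m, hm⟩ := hodd
  set C := Subgroup.centralizer ({x} : Set G) with hC
  have hpowC : ∀ h : G, h ∈ C → h ^ (2 * m + 1) = 1 := by
    intro h hh
    have h1 : (⟨h, hh⟩ : C) ^ Nat.card C = 1 := pow_card_eq_one'
    rw [hm] at h1
    have h2 := congrArg (Subtype.val) h1
    simpa using h2
  have hxC : x ∈ C := by
    rw [hC, Subgroup.mem_centralizer_singleton_iff]
  have huniq : ∀ h : G, h * h = x → h = x ^ (m + 1) := by
    intro h hh
    have hhC : h ∈ C := by
      rw [hC, Subgroup.mem_centralizer_singleton_iff, ← hh, mul_assoc]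
    have h1 := hpowC h hhC
    rw [← hh, ← pow_two, ← pow_mul]
    have : 2 * (m + 1) = (2 * m + 1) + 1 := by ring
    rw [this, pow_succ, h1, one_mul]
  have hex : x ^ (m + 1) * x ^ (m + 1) = x := by
    rw [← pow_add]
    have : m + 1 + (m + 1) = (2 * m + 1) + 1 := by ring
    rw [this, pow_succ, hpowC x hxC, one_mul]
  have : Finset.univ.filter (fun h : G => h * h = x) = {x ^ (m + 1)} := by
    ext h
    rw [Finset.mem_filter, Finset.mem_singleton]
    constructor
    · intro hh
      exact huniq h hh.2
    · rintro rfl
      exact ⟨Finset.mem_univ _, hex⟩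
  rw [this, Finset.card_singleton, Nat.cast_one]

end

end Cfsg.Agent.Lib.Helper8.ED
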