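import Mathlib
import Cfsg.Prelude.Def_Characters
import Cfsg.Agent.Lib.Helper8.ED1

/-!
# A character of even degree from a real element with a centralizer of odd order: main lemma
-/

set_option autoImplicit false

namespace Cfsg.Agent.Lib.Helper8.ED

open Cfsg
open scoped ComplexConjugate
open Cfsg.Agent.Lib.Helper1 Cfsg.Agent.Lib.Helper4 Cfsg.Agent.Lib.Helper8

universe u

section

variable {G : Type u} [Group G] [Fintype G]

/-- If a non-identity element `x` is conjugate to its inverse and has a centralizer of odd order,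
then some irreducible character has even degree. -/
theorem exists_even_degree_of_inverted (x g : G) (hx1 : x ≠ 1) (hinv : g * x * g⁻¹ = x⁻¹)
    (hodd : Odd (Nat.card (Subgroup.centralizer ({x} : Set G)))) :
    ∃ χ : IrrCharacter G, Even (charDegree (χ : G → ℂ)) := by
  classical
  letI : Fintype (IrrCharacter G) := Fintype.ofFinite _
  by_contra hcon
  push Not at hcon
  -- degrees
  have hdeg : ∀ χ : IrrCharacter G, ∃ m : ℕ, (χ : G → ℂ) 1 = 2 * (m : ℂ) + 1 := by
    intro χ
    obtain ⟨h1, -⟩ := irr_apply_one_eq_charDegree χ.2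
    obtain ⟨m, hm⟩ := Nat.not_even_iff_odd.1 (hcon χ)
    refine ⟨m, ?_⟩
    rw [h1, hm]
    push_cast
    ring
  choose m hm using hdeg
  -- values at x are real
  have hreal : ∀ χ : IrrCharacter G, conj ((χ : G → ℂ) x) = (χ : G → ℂ) x := by
    intro χ
    rw [← isCharacter_inv (isCharacter_of_irr χ.2), ← hinv]
    exact isClassFunction_irr χ.2 x g
  -- indicators
  set ν : IrrCharacter G → ℂ := fun χ => (Nat.card G : ℂ)⁻¹ * ∑ h : G, (χ : G → ℂ) (h * h) with hν
  have hνcases : ∀ χ : IrrCharacter G, ν χ = 0 ∨ ν χ = 1 := by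
    intro χ
    rcases fs_indicator_cases χ.2 with h0 | ⟨hr, -⟩
    · exact Or.inl h0
    · rcases fs_real_cases χ.2 hr with h1 | ⟨-, k, hk⟩
      · exact Or.inr h1
      · exfalso
        apply hcon χ
        obtain ⟨h1, -⟩ := irr_apply_one_eq_charDegree χ.2
        rw [h1] at hk
        have : charDegree (χ : G → ℂ) = 2 * k := by exact_mod_cast hk
        rw [this]
        exact even_two_mul k
  -- expansion of the root count
  have hexp := class_function_expansion (rootCount (G := G)) rootCount_isClassFunction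
  have h1 := congrFun hexp x
  rw [Finset.sum_apply, rootCount_eq_one hodd] at h1
  simp only [Pi.smul_apply, smul_eq_mul, classInner_rootCount] at h1
  -- split the characters
  set A0 := Finset.univ.filter (fun χ : IrrCharacter G => ν χ = 0) with hA0
  have hsum1 : (1 : ℂ) = ∑ χ ∈ Finset.univ.filter (fun χ : IrrCharacter G => ¬ ν χ = 0),
      (χ : G → ℂ) x := by
    rw [h1, ← Finset.sum_filter_add_sum_filter_not Finset.univ (fun χ : IrrCharacter G => ν χ = 0)]
    have hz : ∑ χ ∈ Finset.univ.filter (fun χ : IrrCharacter G => ν χ = 0),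
        conj ((Nat.card G : ℂ)⁻¹ * ∑ h : G, (χ : G → ℂ) (h * h)) * (χ : G → ℂ) x = 0 := by
      apply Finset.sum_eq_zero
      intro χ hχ
      have : ν χ = 0 := (Finset.mem_filter.1 hχ).2
      have h2 : (Nat.card G : ℂ)⁻¹ * ∑ h : G, (χ : G → ℂ) (h * h) = 0 := this
      rw [h2, map_zero, zero_mul]
    rw [hz, zero_add]
    refine Finset.sum_congr rfl fun χ hχ => ?_
    have hne : ¬ ν χ = 0 := (Finset.mem_filter.1 hχ).2
    have h2 : (Nat.card G : ℂ)⁻¹ * ∑ h : G, (χ : G → ℂ) (h * h) = 1 := by
      rcases hνcases χ with h | h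
      · exact absurd h hne
      · exact h
    rw [h2, map_one, one_mul]
  -- pairing on A0
  obtain ⟨t, -, ht⟩ := sum_eq_two_mul_of_involution (fun χ : IrrCharacter G => (χ : G → ℂ) x)
    cjIrr A0.card A0 rfl
    (by
      intro χ hχ
      rw [hA0, Finset.mem_filter] at hχ ⊢
      refine ⟨Finset.mem_univ _, ?_⟩
      have h0 : (Nat.card G : ℂ)⁻¹ * ∑ h : G, (χ : G → ℂ) (h * h) = 0 := hχ.2
      show (Nat.card G : ℂ)⁻¹ * ∑ h : G, (cjIrr χ : G → ℂ) (h * h) = 0
      have h3 : ∀ h : G, (cjIrr χ : G → ℂ) (h * h) = conj ((χ : G → ℂ) (h * h)) := fun h => rfl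
      rw [Finset.sum_congr rfl (fun h _ => h3 h), ← map_sum]
      have := congrArg conj h0
      rw [map_mul, map_inv₀, Complex.conj_natCast, map_zero] at this
      exact this)
    (fun χ _ => cjIrr_cjIrr χ)
    (by
      intro χ hχ heq
      rw [hA0, Finset.mem_filter] at hχ
      have hr : ∀ k : G, conj ((χ : G → ℂ) k) = (χ : G → ℂ) k := by
        intro k
        exact congrFun (congrArg Subtype.val heq) k
      exact (fs_real_iff χ.2).1 hr hχ.2)
    (by
      intro χ _
      show conj ((χ : G → ℂ) x) = (χ : G → ℂ) x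
      exact hreal χ)
  -- column orthogonality
  have hcol := column_orthogonality (G := G) (1 : G) x
  have hci : classIndicator (1 : G) x = 0 := by
    unfold classIndicator
    rw [if_neg]
    intro h
    exact hx1 (isConj_one_right.1 h)
  rw [hci, mul_zero] at hcol
  have hcol' : ∑ χ : IrrCharacter G, (χ : G → ℂ) x * (2 * (m χ : ℂ) + 1) = 0 := by
    rw [← hcol]
    refine Finset.sum_congr rfl fun χ _ => ?_
    have h7 : conj (2 * (m χ : ℂ) + 1) = 2 * (m χ : ℂ) + 1 := by
      rw [map_add, map_mul, map_one, Complex.conj_natCast, Complex.conj_ofNat]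
    rw [hm χ, h7]
  -- total sum
  have htot : ∑ χ : IrrCharacter G, (χ : G → ℂ) x =
      1 + 2 * ∑ χ ∈ t, (χ : G → ℂ) x := by
    rw [← Finset.sum_filter_add_sum_filter_not Finset.univ (fun χ : IrrCharacter G => ν χ = 0),
      ← hsum1, ← hA0, ht]
    ring
  have hfin : (1 : ℂ) / 2 = -(∑ χ ∈ t, (χ : G → ℂ) x) -
      ∑ χ : IrrCharacter G, (m χ : ℂ) * (χ : G → ℂ) x := by
    have h5 : ∑ χ : IrrCharacter G, (χ : G → ℂ) x * (2 * (m χ : ℂ) + 1) =
        2 * ∑ χ : IrrCharacter G, (m χ : ℂ) * (χ : G → ℂ) x + ∑ χ : IrrCharacter G, (χ : G → ℂ) x := by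
      rw [Finset.mul_sum, ← Finset.sum_add_distrib]
      refine Finset.sum_congr rfl fun χ _ => ?_
      ring
    rw [h5, htot] at hcol'
    linear_combination (1 / 2 : ℂ) * hcol'
  have hint : IsIntegral ℤ ((1 : ℂ) / 2) := by
    rw [hfin]
    apply IsIntegral.sub
    · apply IsIntegral.neg
      apply IsIntegral.sum
      intro χ _
      exact isIntegral_char_apply (isCharacter_of_irr χ.2) x
    · apply IsIntegral.sum
      intro χ _
      apply IsIntegral.mul
      · exact isIntegral_algebraMap (R := ℤ) (A := ℂ) (x := (m χ : ℤ)) |> fun h => by simpa using h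
      · exact isIntegral_char_apply (isCharacter_of_irr χ.2) x
  have h6 := nat_dvd_of_isIntegral_div 1 2 (by norm_num) (by simpa using hint)
  omega

end

end Cfsg.Agent.Lib.Helper8.ED
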