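import Mathlib
import Cfsg.Prelude.Def_Solvable
import Cfsg.Agent.Lib.Helper8.FrobeniusConstruct
import Cfsg.Agent.Lib.Helper8.FF9

set_option autoImplicit false
open Pointwise

/-! Frobenius group acting with a coprime normal nilpotent subgroup of the kernel without fixed
points: the module is free over the complement. -/

namespace Cfsg.Agent.Lib.Helper8.FF

open Module

theorem frob_fpf {A : Type*} [Group A] (Fk Hc : Subgroup A)
    (hHc : Cfsg.IsFrobeniusComplement Hc) (hker : Cfsg.frobeniusKernel Hc = (Fk : Set A))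
    (h : A) (hh : h ∈ Hc) (hh1 : h ≠ 1) (x : A) (hx : x ∈ Fk) (hcomm : h * x * h⁻¹ = x) : x = 1 := by
  by_contra hx1
  have hx' : x ∈ Cfsg.frobeniusKernel Hc := by rw [hker]; exact hx
  rcases hx' with h1 | h2
  · exact hx1 h1
  have hxH : x ∉ Hc := by
    intro hxH
    apply h2 1
    rw [mem_conj_smul_iff_h8]
    simpa using hxH
  have h3 := hHc.2.2 x hxH
  have h4 : h ∈ Hc ⊓ (MulAut.conj x • Hc) := by
    refine Subgroup.mem_inf.mpr ⟨hh, ?_⟩
    rw [mem_conj_smul_iff_h8]
    have : x⁻¹ * h * x = h := by
      have h5 : h * x = x * h := by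
        calc h * x = h * x * h⁻¹ * h := by group
          _ = x * h := by rw [hcomm]
      rw [mul_assoc, h5, inv_mul_cancel_left]
    rw [this]; exact hh
  rw [h3, Subgroup.mem_bot] at h4
  exact hh1 h4

theorem outer {k V A : Type*} [Field k] [AddCommGroup V] [Module k V] [FiniteDimensional k V]
    [Group A] [Finite A] [DecidableEq A]
    (ρ : Representation k A V) (Fk Hc : Subgroup A) (hHc : Cfsg.IsFrobeniusComplement Hc)
    (hker : Cfsg.frobeniusKernel Hc = (Fk : Set A))
    (F' : Subgroup A) [F'.Normal] (hF'le : F' ≤ Fk) (hnil : Group.IsNilpotent ↥F')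
    (hcard : (Nat.card ↥F' : k) ≠ 0)
    (hCF : ∀ v : V, (∀ f ∈ F', ρ f v = v) → v = 0) :
    ∃ W : Submodule k V, DirectSum.IsInternal (fun h : ↥Hc => W.map (ρ (h : A))) := by
  let D : Dat k ↥F' ↥Hc V :=
    { τ := ρ.comp F'.subtype
      σ := ρ.comp Hc.subtype
      φ := (MulAut.conjNormal (H := F')).comp Hc.subtype
      compat := by
        intro h x
        show ρ (h : A) * ρ (x : A) = ρ ((MulAut.conjNormal (h : A) x : ↥F') : A) * ρ (h : A)
        rw [MulAut.conjNormal_apply, ← map_mul, ← map_mul, inv_mul_cancel_right]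
      fpf := by
        intro h hh1 x hx
        have h1 : (h : A) * (x : A) * (h : A)⁻¹ = x := by
          have := congrArg Subtype.val hx
          rw [MonoidHom.comp_apply] at this
          rw [← MulAut.conjNormal_apply]
          exact this
        have h2 := frob_fpf Fk Hc hHc hker (h : A) h.2 (fun h0 => hh1 (Subtype.ext h0)) (x : A)
          (hF'le x.2) h1
        exact Subtype.ext h2
      cfix := by
        intro u hu
        apply hCF
        intro f hf
        exact hu ⟨f, hf⟩ }
  exact coprime_free hnil hcard _ ↥Hc V D rfl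

end Cfsg.Agent.Lib.Helper8.FF
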