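import Mathlib

set_option autoImplicit false

/-! The normal Hall `p'`-subgroup of a finite nilpotent group. -/

namespace Cfsg.Agent.Lib.Helper8.FF

theorem exists_hall_compl (G : Type*) [Group G] [Finite G] (hG : Group.IsNilpotent G) (p : ℕ)
    [hp : Fact p.Prime] (hpG : p ∣ Nat.card G) :
    ∃ (P K : Subgroup G), IsPGroup p P ∧ (Nat.card K).Coprime p ∧ P ⊔ K = ⊤ ∧
      ∀ x : G, x ∈ K ↔ x ^ Nat.card K = 1 := by
  obtain ⟨e⟩ := (Group.isNilpotent_of_finite_tfae (G := G)).out 0 4 |>.mp hG
  obtain ⟨P⟩ : Nonempty (Sylow p G) := inferInstance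
  have hpmem : p ∈ (Nat.card G).primeFactors :=
    Nat.mem_primeFactors.mpr ⟨hp.out, hpG, Nat.card_pos.ne'⟩
  let f1 : (∀ p : (Nat.card G).primeFactors, ∀ P : Sylow p G, (↑P : Subgroup G)) →*
      (∀ P : Sylow p G, (↑P : Subgroup G)) :=
    Pi.evalMonoidHom (fun p : (Nat.card G).primeFactors => ∀ P : Sylow p G, (↑P : Subgroup G))
      ⟨p, hpmem⟩
  let f2 : (∀ P : Sylow p G, (↑P : Subgroup G)) →* (↑P : Subgroup G) :=
    Pi.evalMonoidHom (fun P : Sylow p G => (↑P : Subgroup G)) P
  let f : G →* (↑P : Subgroup G) := (f2.comp f1).comp e.symm.toMonoidHom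
  have hf : Function.Surjective f := by
    intro y
    classical
    let w : (∀ p : (Nat.card G).primeFactors, ∀ P : Sylow p G, (↑P : Subgroup G)) :=
      Function.update 1 ⟨p, hpmem⟩ (Function.update 1 P y)
    refine ⟨e w, ?_⟩
    show f2 (f1 (e.symm (e w))) = y
    rw [MulEquiv.symm_apply_apply]
    show w ⟨p, hpmem⟩ P = y
    simp [w]
  have hcard : Nat.card f.ker * Nat.card (↑P : Subgroup G) = Nat.card G := by
    have h1 := Subgroup.card_mul_index f.ker
    rw [Subgroup.index_ker, MonoidHom.range_eq_top.mpr hf, Subgroup.card_top] at h1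
    exact h1
  have hPcard : Nat.card (↑P : Subgroup G) = p ^ (Nat.card G).factorization p :=
    P.card_eq_multiplicity
  have hcop : (Nat.card f.ker).Coprime p := by
    rw [Nat.coprime_comm, Nat.Prime.coprime_iff_not_dvd hp.out]
    intro hdvd
    have h2 : p ^ ((Nat.card G).factorization p + 1) ∣ Nat.card G := by
      have h3 : p ^ ((Nat.card G).factorization p + 1) =
          Nat.card (↑P : Subgroup G) * p := by rw [hPcard, pow_succ]
      rw [h3]
      have h4 : Nat.card (↑P : Subgroup G) * Nat.card f.ker = Nat.card G := by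
        rw [mul_comm]; exact hcard
      exact h4 ▸ Nat.mul_dvd_mul_left _ hdvd
    exact Nat.pow_succ_factorization_not_dvd Nat.card_pos.ne' hp.out h2
  refine ⟨↑P, f.ker, P.isPGroup', hcop, ?_, ?_⟩
  · -- product is everything
    apply Subgroup.eq_top_of_card_eq
    apply Nat.dvd_antisymm (Subgroup.card_subgroup_dvd_card _)
    rw [← hcard, mul_comm]
    apply Nat.Coprime.mul_dvd_of_dvd_of_dvd
    · rw [hPcard]
      exact (Nat.Coprime.pow_left _ hcop.symm)
    · exact Subgroup.card_dvd_of_le le_sup_left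
    · exact Subgroup.card_dvd_of_le le_sup_right
  · intro x
    constructor
    · intro hx
      have := pow_card_eq_one' (G := ↥f.ker) (x := ⟨x, hx⟩)
      have h2 := congrArg Subtype.val this
      simpa using h2
    · intro hx
      rw [MonoidHom.mem_ker]
      have h1 : (f x) ^ Nat.card f.ker = 1 := by rw [← map_pow, hx, map_one]
      have h2 : orderOf (f x) ∣ Nat.card f.ker := orderOf_dvd_of_pow_eq_one h1
      obtain ⟨j, hj⟩ := P.isPGroup' (f x)
      have h3 : orderOf (f x) ∣ p ^ j := orderOf_dvd_of_pow_eq_one hj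
      have h4 : orderOf (f x) = 1 :=
        Nat.Coprime.eq_one_of_dvd ((hcop.pow_right j).coprime_dvd_left h2) h3
      exact orderOf_eq_one_iff.mp h4

end Cfsg.Agent.Lib.Helper8.FF
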