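import Mathlib
import Cfsg.Prelude.Def_Solvable
import Cfsg.Agent.Lib.Helper7.VL1
import Cfsg.Agent.Lib.Helper8.FF10
import Cfsg.Agent.Lib.Helper8.FF11

set_option autoImplicit false
open Pointwise

/-! A Frobenius group with nilpotent kernel acting without kernel fixed points: free over the
complement, in any characteristic. -/

namespace Cfsg.Agent.Lib.Helper8.FF

open Module

theorem frobenius_free {k V A : Type*} [Field k] [AddCommGroup V] [Module k V]
    [FiniteDimensional k V] [Group A] [Finite A] [DecidableEq A]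
    (ρ : Representation k A V) (Fk Hc : Subgroup A) [hFkn : Fk.Normal]
    (hHc : Cfsg.IsFrobeniusComplement Hc)
    (hker : Cfsg.frobeniusKernel Hc = (Fk : Set A)) (hnil : Group.IsNilpotent ↥Fk)
    (hCF : ∀ v : V, (∀ f ∈ Fk, ρ f v = v) → v = 0) :
    ∃ W : Submodule k V, DirectSum.IsInternal (fun h : ↥Hc => W.map (ρ (h : A))) := by
  by_cases h0 : (Nat.card ↥Fk : k) = 0
  swap
  · exact outer ρ Fk Hc hHc hker Fk le_rfl hnil h0 hCF
  obtain ⟨p, hchar⟩ := CharP.exists k
  have hp0 : p ≠ 0 := by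
    intro hp0
    subst hp0
    haveI : CharZero k := CharP.charP_to_charZero k
    exact (Nat.cast_ne_zero.mpr Nat.card_pos.ne') h0
  have hpp : p.Prime := (CharP.char_is_prime_or_zero k p).resolve_right hp0
  haveI : Fact p.Prime := ⟨hpp⟩
  have hpdvd : p ∣ Nat.card ↥Fk := (CharP.cast_eq_zero_iff k p _).mp h0
  obtain ⟨P, K, hP, hcop, hPK, hKchar⟩ := exists_hall_compl ↥Fk hnil p hpdvd
  let F' : Subgroup A := K.map Fk.subtype
  have hF'le : F' ≤ Fk := by
    rintro _ ⟨y, _, rfl⟩
    exact y.2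
  have hF'mem : ∀ (x : A) (hx : x ∈ Fk), x ∈ F' ↔ x ^ Nat.card K = 1 := by
    intro x hx
    constructor
    · rintro ⟨y, hy, hyx⟩
      have h1 := (hKchar y).mp hy
      have h2 := congrArg Subtype.val h1
      rw [← hyx]
      simpa using h2
    · intro hpow
      refine ⟨⟨x, hx⟩, (hKchar _).mpr ?_, rfl⟩
      apply Subtype.ext
      simpa using hpow
  haveI hF'n : F'.Normal := by
    constructor
    intro x hx a
    have hxFk : x ∈ Fk := hF'le hx
    have haFk : a * x * a⁻¹ ∈ Fk := hFkn.conj_mem x hxFk a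
    rw [hF'mem _ haFk, conj_pow, (hF'mem x hxFk).mp hx, mul_one, mul_inv_cancel]
  have heq : K ≃* ↥F' := K.equivMapOfInjective Fk.subtype Fk.subtype_injective
  have hnil' : Group.IsNilpotent ↥F' := by
    haveI : Group.IsNilpotent ↥Fk := hnil
    haveI : Group.IsNilpotent ↥K := inferInstance
    exact (Group.isNilpotent_congr heq).mp inferInstance
  have hcard' : (Nat.card ↥F' : k) ≠ 0 := by
    rw [← Nat.card_congr heq.toEquiv]
    intro h1
    have h2 : p ∣ Nat.card K := (CharP.cast_eq_zero_iff k p _).mp h1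
    have h3 := Nat.Coprime.eq_one_of_dvd hcop.symm h2
    exact hpp.one_lt.ne' h3
  have hCF' : ∀ v : V, (∀ f ∈ F', ρ f v = v) → v = 0 := by
    intro v hv
    by_contra hv0
    let σP : ↥P →* (V →ₗ[k] V) := (ρ.comp Fk.subtype).comp P.subtype
    have hclos : ∀ u ∈ AddSubgroup.closure (Set.range fun x : ↥P => σP x v),
        ∀ f ∈ F', ρ f u = u := by
      intro u hu f hf
      induction hu using AddSubgroup.closure_induction with
      | mem u hu =>
        obtain ⟨x, rfl⟩ := hu
        show ρ f (ρ ((x : ↥Fk) : A) v) = ρ ((x : ↥Fk) : A) v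
        have h1 : ((x : ↥Fk) : A)⁻¹ * f * ((x : ↥Fk) : A) ∈ F' := by
          have := hF'n.conj_mem f hf ((x : ↥Fk) : A)⁻¹
          rwa [inv_inv] at this
        have h2 := hv _ h1
        have h3 : f * ((x : ↥Fk) : A) =
            ((x : ↥Fk) : A) * (((x : ↥Fk) : A)⁻¹ * f * ((x : ↥Fk) : A)) := by
          group
        have h4 : ρ f (ρ ((x : ↥Fk) : A) v) = ρ (f * ((x : ↥Fk) : A)) v := by
          rw [map_mul]; rfl
        rw [h4, h3, map_mul]
        show ρ ((x : ↥Fk) : A) (ρ _ v) = _
        rw [h2]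
      | zero => rw [map_zero]
      | add a b _ _ ha hb => rw [map_add, ha, hb]
      | neg a _ ha => rw [map_neg, ha]
    obtain ⟨w, hw, hw0, hwfix⟩ :=
      Cfsg.Agent.Lib.Helper7.VL.exists_fixed_in_closure hP σP v hv0
    have hwF' : ∀ f ∈ F', ρ f w = w := hclos w hw
    -- the stabilizer of `w` in `Fk`
    let S : Subgroup ↥Fk :=
      { carrier := {y | ρ (y : A) w = w}
        mul_mem' := by
          intro a b ha hb
          show ρ ((a * b : ↥Fk) : A) w = w
          rw [Subgroup.coe_mul, map_mul]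
          show ρ (a : A) (ρ (b : A) w) = w
          rw [hb, ha]
        one_mem' := by
          show ρ ((1 : ↥Fk) : A) w = w
          rw [Subgroup.coe_one, map_one]; rfl
        inv_mem' := by
          intro a ha
          show ρ ((a⁻¹ : ↥Fk) : A) w = w
          have h1 : ρ ((a⁻¹ : ↥Fk) : A) (ρ (a : A) w) = w := by
            rw [Subgroup.coe_inv]
            exact rep_inv_apply ρ (a : A) w
          rw [ha] at h1
          exact h1 }
    have hPS : P ≤ S := fun y hy => hwfix ⟨y, hy⟩
    have hKS : K ≤ S := fun y hy => hwF' (y : A) ⟨y, hy, rfl⟩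
    have hS : S = ⊤ := by
      rw [eq_top_iff, ← hPK]
      exact sup_le hPS hKS
    apply hw0
    apply hCF
    intro f hf
    have : (⟨f, hf⟩ : ↥Fk) ∈ S := by rw [hS]; trivial
    exact this
  exact outer ρ Fk Hc hHc hker F' hF'le hnil' hcard' hCF'

end Cfsg.Agent.Lib.Helper8.FF
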