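import Mathlib
import Cfsg.Prelude.Def_Local
import Cfsg.Prelude.Def_CaseTheorems
import Cfsg.Agent.Lib.Lead.ThompsonPQ
import Cfsg.Agent.Lib.Lead.Thom1
import Cfsg.Agent.Lib.Helper2.PConstrained
import Cfsg.Agent.Lib.Helper6.PPrimeCore
import Cfsg.Agent.Lib.Helper6.PCore

/-!
# Centralizers of `p`-subgroups in `p`-constrained groups
-/

set_option autoImplicit false

namespace Cfsg.Agent.Lib.Helper8.FG

open Cfsg

section core

variable {H : Type*} [Group H] [Finite H] (p : ℕ) [Fact p.Prime]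

theorem eq_one_of_mem_of_coprime {Qb : Subgroup H} (hQb : IsPGroup p Qb) {x : H} (hxQ : x ∈ Qb)
    (hx : (orderOf x).Coprime p) : x = 1 := by
  obtain ⟨k, hk⟩ := IsPGroup.iff_orderOf.1 hQb ⟨x, hxQ⟩
  rw [Subgroup.orderOf_mk] at hk
  rw [hk] at hx
  rcases Nat.eq_zero_or_pos k with h0 | h0
  · rw [h0, pow_zero] at hk
    exact orderOf_eq_one_iff.1 hk
  · exfalso
    have := (Nat.coprime_pow_left_iff h0 p p).1 hx
    rw [Nat.coprime_self] at this
    exact (Fact.out : p.Prime).one_lt.ne' this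

/-- A `p'`-element centralizing the `p`-subgroup `Rb` and `C_{Qb}(Rb)`, where `Qb` is a normal
self-centralizing `p`-subgroup, is trivial (Thompson's `P × Q` lemma). -/
theorem eq_one_of_centralizes (Qb Rb : Subgroup H) [hQn : Qb.Normal] (hQb : IsPGroup p Qb)
    (hCQ : Subgroup.centralizer (Qb : Set H) ≤ Qb) (hRb : IsPGroup p Rb) (x : H)
    (hx : (orderOf x).Coprime p) (hxR : x ∈ Subgroup.centralizer (Rb : Set H))
    (hxD : ∀ d ∈ Qb ⊓ Subgroup.centralizer (Rb : Set H), x * d = d * x) : x = 1 := by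
  have hnorm : Subgroup.normalizer (Qb : Set H) = ⊤ := Subgroup.normalizer_eq_top_iff.2 hQn
  have h1 := Cfsg.Agent.Lib.Lead.thompson_PQ p Rb (Subgroup.zpowers x) Qb hRb
    (by rw [Nat.card_zpowers]; exact hx) hQb ?_ (by rw [hnorm]; exact le_top)
    (by rw [hnorm]; exact le_top) ?_
  · exact eq_one_of_mem_of_coprime p hQb (hCQ (h1 (Subgroup.mem_zpowers x))) hx
  · intro r hr
    rw [Subgroup.mem_centralizer_iff]
    intro y hy
    obtain ⟨n, rfl⟩ := Subgroup.mem_zpowers_iff.1 hy
    have h2 : Commute r x := ((Subgroup.mem_centralizer_iff.1 hxR) r hr)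
    exact ((h2.zpow_right n).eq).symm
  · intro d hd
    rw [Subgroup.mem_centralizer_iff]
    intro y hy
    obtain ⟨n, rfl⟩ := Subgroup.mem_zpowers_iff.1 hy
    have h2 : Commute x d := hxD d hd
    exact (h2.zpow_left n).eq

end core

section abstract

variable {Y H : Type*} [Group Y] [Finite Y] [Group H] [Finite H] (p : ℕ) [Fact p.Prime]

/-- If `φ : Y → H` has `p'`-kernel and image the centralizer of a `p`-subgroup, where `H` has a
normal self-centralizing `p`-subgroup, then `O_{p'}(Y) = ker φ`. -/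
theorem pPrimeCore_eq_ker (φ : Y →* H) (Qb Rb : Subgroup H) [hQn : Qb.Normal]
    (hQb : IsPGroup p Qb) (hCQ : Subgroup.centralizer (Qb : Set H) ≤ Qb) (hRb : IsPGroup p Rb)
    (hker : (Nat.card φ.ker).Coprime p)
    (himg : φ.range = Subgroup.centralizer (Rb : Set H)) : pPrimeCore p Y = φ.ker := by
  apply le_antisymm
  · intro x hx
    rw [MonoidHom.mem_ker]
    have hcop : ∀ z ∈ pPrimeCore p Y, (orderOf (φ z)).Coprime p := by
      intro z hz
      have h1 : orderOf (φ z) ∣ orderOf z := orderOf_map_dvd φ z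
      have h2 : orderOf z ∣ Nat.card (pPrimeCore p Y) := by
        have := orderOf_dvd_natCard (⟨z, hz⟩ : pPrimeCore p Y)
        rwa [Subgroup.orderOf_mk] at this
      exact Nat.Coprime.coprime_dvd_left (h1.trans h2)
        (Cfsg.Agent.Lib.Helper6.pPrimeCore_coprime p)
    apply eq_one_of_centralizes p Qb Rb hQb hCQ hRb (φ x) (hcop x hx)
    · rw [← himg]; exact ⟨x, rfl⟩
    · intro d hd
      have hdr : d ∈ φ.range := by rw [himg]; exact hd.2
      obtain ⟨y, rfl⟩ := hdr
      have hc : x * y * x⁻¹ * y⁻¹ ∈ pPrimeCore p Y := by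
        have h1 : y * x⁻¹ * y⁻¹ ∈ pPrimeCore p Y :=
          (pPrimeCore_normal p Y).conj_mem _ ((pPrimeCore p Y).inv_mem hx) y
        have h2 := (pPrimeCore p Y).mul_mem hx h1
        have e : x * (y * x⁻¹ * y⁻¹) = x * y * x⁻¹ * y⁻¹ := by group
        rwa [e] at h2
      have hcQ : φ (x * y * x⁻¹ * y⁻¹) ∈ Qb := by
        rw [map_mul, map_mul, map_mul, map_inv, map_inv]
        exact Qb.mul_mem (hQn.conj_mem _ hd.1 _) (Qb.inv_mem hd.1)
      have h1 := eq_one_of_mem_of_coprime p hQb hcQ (hcop _ hc)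
      rw [map_mul, map_mul, map_mul, map_inv, map_inv] at h1
      have h2 : φ x * φ y = (φ x * φ y * (φ x)⁻¹ * (φ y)⁻¹) * (φ y * φ x) := by group
      rw [h2, h1, one_mul]
  · exact Cfsg.Agent.Lib.Helper6.le_pPrimeCore (MonoidHom.normal_ker φ) hker

/-- Under the same hypotheses, `Y` is `p`-constrained. -/
theorem isPConstrained_of_hom (φ : Y →* H) (Qb Rb : Subgroup H) [hQn : Qb.Normal]
    (hQb : IsPGroup p Qb) (hCQ : Subgroup.centralizer (Qb : Set H) ≤ Qb) (hRb : IsPGroup p Rb)
    (hker : (Nat.card φ.ker).Coprime p)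
    (himg : φ.range = Subgroup.centralizer (Rb : Set H)) : IsPConstrained p Y := by
  have hp : p.Prime := Fact.out
  have hW := pPrimeCore_eq_ker p φ Qb Rb hQb hCQ hRb hker himg
  rw [Cfsg.Agent.Lib.Helper2.PConstrained.isPConstrained_iff_quot]
  have hle : ∀ x ∈ pPrimeCore p Y, φ x = 1 := by
    intro x hx
    rw [hW] at hx
    exact hx
  set φt : Y ⧸ pPrimeCore p Y →* H := QuotientGroup.lift (pPrimeCore p Y) φ hle with hφtdef
  have hφt : ∀ y : Y, φt (QuotientGroup.mk' (pPrimeCore p Y) y) = φ y := fun y => rfl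
  have hinj : Function.Injective φt := by
    rw [injective_iff_map_eq_one]
    intro a ha
    obtain ⟨y, rfl⟩ := QuotientGroup.mk'_surjective (pPrimeCore p Y) a
    rw [hφt] at ha
    have : y ∈ pPrimeCore p Y := by rw [hW]; exact ha
    exact (QuotientGroup.eq_one_iff y).2 this
  set T : Subgroup (Y ⧸ pPrimeCore p Y) := Subgroup.centralizer
    ((pCore p (Y ⧸ pPrimeCore p Y) : Subgroup (Y ⧸ pPrimeCore p Y)) : Set (Y ⧸ pPrimeCore p Y))
    with hT
  have hTn : T.Normal := Subgroup.normal_centralizer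
  apply Cfsg.Agent.Lib.Helper6.le_pCore hTn
  -- the comap of `Qb` lies in the `p`-core
  have hD : Qb.comap φt ≤ pCore p (Y ⧸ pPrimeCore p Y) :=
    Cfsg.Agent.Lib.Helper6.le_pCore (hQn.comap φt) (hQb.comap_of_injective φt hinj)
  -- every element of prime order `q ≠ p` of `T` is trivial
  have hkey : ∀ x ∈ T, (orderOf x).Coprime p → x = 1 := by
    intro x hxT hx
    apply hinj
    rw [map_one]
    apply eq_one_of_centralizes p Qb Rb hQb hCQ hRb (φt x)
    · exact Nat.Coprime.coprime_dvd_left (orderOf_map_dvd φt x) hx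
    · obtain ⟨y, rfl⟩ := QuotientGroup.mk'_surjective (pPrimeCore p Y) x
      rw [hφt, ← himg]
      exact ⟨y, rfl⟩
    · intro d hd
      have hdr : d ∈ φ.range := by rw [himg]; exact hd.2
      obtain ⟨z, rfl⟩ := hdr
      have hz : QuotientGroup.mk' (pPrimeCore p Y) z ∈ Qb.comap φt := by
        rw [Subgroup.mem_comap, hφt]
        exact hd.1
      have h1 := (Subgroup.mem_centralizer_iff.1 hxT) _ (hD hz)
      have h2 := congrArg φt h1
      rw [map_mul, map_mul, hφt] at h2
      exact h2.symm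
  have hcard : Nat.card T = p ^ (Nat.card T).primeFactorsList.length := by
    apply Nat.eq_prime_pow_of_unique_prime_dvd Nat.card_pos.ne'
    intro q hq hqd
    by_contra hne
    haveI : Fact q.Prime := ⟨hq⟩
    obtain ⟨x, hx⟩ := exists_prime_orderOf_dvd_card' q hqd
    have h1 : orderOf (x : Y ⧸ pPrimeCore p Y) = q := by
      rw [Subgroup.orderOf_coe]; exact hx
    have h2 := hkey x x.2 (by rw [h1]; exact (Nat.coprime_primes hq hp).2 hne)
    rw [h2, orderOf_one] at h1
    exact hq.one_lt.ne h1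
  exact IsPGroup.of_card hcard

end abstract

section apply

universe u

variable {G : Type u} [Group G] [Finite G] (p : ℕ) [Fact p.Prime]

/-- In a `p`-constrained group, the centralizer `C` of a `p`-subgroup has
`O_{p'}(C) = C ∩ O_{p'}(G)` and is `p`-constrained. -/
theorem centralizer_facts (hc : IsPConstrained p G) (R : Subgroup G) (hR : IsPGroup p R) :
    pPrimeCore p ↥(Subgroup.centralizer (R : Set G))
        = (pPrimeCore p G).subgroupOf (Subgroup.centralizer (R : Set G)) ∧
      IsPConstrained p ↥(Subgroup.centralizer (R : Set G)) := by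
  set K := pPrimeCore p G with hK
  set C := Subgroup.centralizer (R : Set G) with hC
  have hKc : (Nat.card K).Coprime p := Cfsg.Agent.Lib.Helper6.pPrimeCore_coprime p
  set φ : C →* G ⧸ K := (QuotientGroup.mk' K).comp C.subtype with hφ
  have hQb : IsPGroup p (pCore p (G ⧸ K)) := Cfsg.Agent.Lib.Helper6.pCore_isPGroup p
  have hCQ := (Cfsg.Agent.Lib.Helper2.PConstrained.isPConstrained_iff_quot (G := G) (p := p)).1 hc
  have hRb : IsPGroup p (R.map (QuotientGroup.mk' K)) := hR.map _
  have hkerEq : φ.ker = K.subgroupOf C := by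
    rw [hφ, ← MonoidHom.comap_ker, QuotientGroup.ker_mk']
    rfl
  have hker : (Nat.card φ.ker).Coprime p := by
    rw [hkerEq]
    let ι : K.subgroupOf C →* K :=
      { toFun := fun x => ⟨(x : C), x.2⟩
        map_one' := rfl
        map_mul' := fun _ _ => rfl }
    have hι : Function.Injective ι := by
      intro a b hab
      apply Subtype.ext
      apply Subtype.ext
      exact congrArg (fun k : K => (k : G)) hab
    exact Nat.Coprime.coprime_dvd_left (Subgroup.card_dvd_of_injective ι hι) hKc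
  have himg : φ.range = Subgroup.centralizer
      ((R.map (QuotientGroup.mk' K) : Subgroup (G ⧸ K)) : Set (G ⧸ K)) := by
    rw [Cfsg.Agent.Lib.Lead.Thom.centralizer_map_mk K hKc R hR, hφ, MonoidHom.range_comp,
      Subgroup.range_subtype]
  refine ⟨?_, ?_⟩
  · rw [← hkerEq]
    exact pPrimeCore_eq_ker p φ _ _ hQb hCQ hRb hker himg
  · exact isPConstrained_of_hom p φ _ _ hQb hCQ hRb hker himg

/-- `p`-constraint from one Sylow `p`-subgroup of `O_{p',p}(G)`. -/
theorem isPConstrained_of_sylow (Q : Subgroup G) (hQL : Q ≤ pPrimePCore p G) (hQp : IsPGroup p Q)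
    (hQS : ¬ p ∣ Q.relIndex (pPrimePCore p G))
    (hCQ : Subgroup.centralizer (Q : Set G) ≤ pPrimePCore p G) : IsPConstrained p G := by
  set L := pPrimePCore p G with hL
  have hLn : L.Normal := Cfsg.Agent.Lib.Helper2.PConstrained.pPrimePCore_normal
  intro P
  let Q' : Sylow p L := IsPGroup.toSylow (hQp.comap_subtype (K := L)) hQS
  obtain ⟨g, hg⟩ := MulAction.exists_smul_eq L P Q'
  intro x hx
  have h1 : (g : G) * x * (g : G)⁻¹ ∈ Subgroup.centralizer (Q : Set G) := by
    rw [Subgroup.mem_centralizer_iff]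
    intro q hq
    have hqL : q ∈ L := hQL hq
    have hq' : (⟨q, hqL⟩ : L) ∈ (Q' : Subgroup L) := by
      show (⟨q, hqL⟩ : L) ∈ Q.subgroupOf L
      rw [Subgroup.mem_subgroupOf]
      exact hq
    rw [← hg, Sylow.coe_subgroup_smul, Subgroup.mem_pointwise_smul_iff_inv_smul_mem] at hq'
    have h2 : ((((MulAut.conj g)⁻¹ • (⟨q, hqL⟩ : L) : L)) : G) ∈
        ((P : Subgroup L).map L.subtype : Subgroup G) := ⟨_, hq', rfl⟩
    have h3 := (Subgroup.mem_centralizer_iff.1 hx) _ h2
    have e : ((((MulAut.conj g)⁻¹ • (⟨q, hqL⟩ : L) : L)) : G) = (g : G)⁻¹ * q * (g : G) := by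
      rw [← map_inv, MulAut.smul_def, MulAut.conj_apply]
      simp
    rw [e] at h3
    calc q * ((g : G) * x * (g : G)⁻¹) = (g : G) * (((g : G)⁻¹ * q * (g : G)) * x) * (g : G)⁻¹ := by
          group
      _ = (g : G) * (x * ((g : G)⁻¹ * q * (g : G))) * (g : G)⁻¹ := by rw [h3]
      _ = (g : G) * x * (g : G)⁻¹ * q := by group
  have h2 := hCQ h1
  have h3 := hLn.conj_mem _ h2 (g : G)⁻¹
  have e : (g : G)⁻¹ * ((g : G) * x * (g : G)⁻¹) * ((g : G)⁻¹)⁻¹ = x := by group
  rwa [e] at h3

end apply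

end Cfsg.Agent.Lib.Helper8.FG
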