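import Mathlib
import Cfsg.Prelude.Def_Blocks
import Cfsg.Prelude.Def_Local
import Cfsg.Agent.Lib.Helper8.FO4
import Cfsg.Agent.Lib.Helper8.PairFull
import Cfsg.Agent.Lib.Helper8.FR4
import Cfsg.Agent.Lib.Helper8.Cover4
import Cfsg.Agent.Lib.Helper4.Gallagher

/-!
# The block of characters over an invariant character of `O_{p'}(G)`, `G` `p`-constrained
-/

set_option autoImplicit false
set_option linter.unusedSectionVars false

namespace Cfsg.Agent.Lib.Helper8.FG

open Cfsg
open scoped ComplexConjugate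
open Cfsg.Agent.Lib.Helper1 Cfsg.Agent.Lib.Helper4 Cfsg.Agent.Lib.Helper8

universe u

section

variable {G : Type u} [Group G] [Fintype G] {p : ℕ} [Fact p.Prime] {M : Ideal AlgInt}

/-- Fong: in a `p`-constrained group the characters over a `G`-invariant character of `O_{p'}(G)`
form a block, with the Sylow `p`-subgroups as defect groups. -/
theorem fong_block (hM : IsPModular p M) (hc : IsPConstrained p G) (N : Subgroup G)
    [hN : N.Normal] [Fintype N] (hNdef : N = pPrimeCore p G) (θ : IrrCharacter N)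
    (hinv : ∀ (g : G) (n : N), (θ : N → ℂ) ⟨g * n * g⁻¹, hN.conj_mem n n.2 g⟩ = (θ : N → ℂ) n)
    (B : Set (IrrCharacter G))
    (hBdef : ∀ χ : IrrCharacter G, χ ∈ B ↔
      classInner (fun n : N => (χ : G → ℂ) n) (θ : N → ℂ) ≠ 0) :
    IsPBlock M B ∧ ∀ P : Sylow p G, IsDefectGroup p M B (P : Subgroup G) := by
  classical
  have hMp := isPModular_isPrime hM
  have hp : p.Prime := Fact.out
  have hpN : ¬ p ∣ Nat.card N := by
    have := Cfsg.Agent.Lib.Helper6.pPrimeCore_coprime (G := G) p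
    rw [← hNdef] at this
    exact (Nat.Prime.coprime_iff_not_dvd hp).1 this.symm
  obtain ⟨χ₁, hχ₁, hχ₁p⟩ := exists_over_pPrime_degree N hpN θ hinv
  have hBeq : B = blockOf M (χ₁ : G → ℂ) := by
    ext χ
    rw [hBdef]
    constructor
    · intro h
      exact fong_sameBlock hM hc N hNdef θ hinv χ₁ χ hχ₁ h
    · intro h
      exact constituent_of_sameBlock N hM hpN h hχ₁
  have hB : IsPBlock M B := ⟨χ₁, hBeq⟩
  have hfull := blockDefect_of_pPrime_degree (B := B) ((hBdef χ₁).2 hχ₁) hχ₁p
  refine ⟨hB, ?_⟩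
  obtain ⟨D, hD⟩ := exists_isDefectGroup (p := p) hMp hB
  obtain ⟨P₀, hP₀⟩ := exists_sylow_of_full_defect hM hB hfull hD
  intro P
  obtain ⟨g, hg⟩ := MulAction.exists_smul_eq G P₀ P
  have h1 := isDefectGroup_map_conj hD g
  rw [hP₀] at h1
  rw [← hg]
  exact h1

omit [Fact p.Prime] in
/-- The idempotent of the set of characters over an invariant character of a normal subgroup. -/
theorem blockCoeff_over_invariant (N : Subgroup G) [hN : N.Normal] [Fintype N]
    (θ : IrrCharacter N)
    (hinv : ∀ (g : G) (n : N), (θ : N → ℂ) ⟨g * n * g⁻¹, hN.conj_mem n n.2 g⟩ = (θ : N → ℂ) n)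
    (B : Set (IrrCharacter G))
    (hBdef : ∀ χ : IrrCharacter G, χ ∈ B ↔
      classInner (fun n : N => (χ : G → ℂ) n) (θ : N → ℂ) ≠ 0) :
    blockCoeff B = eb N {θ} := by
  classical
  haveI : Fintype (IrrCharacter G) := Fintype.ofFinite _
  haveI : Fintype (IrrCharacter N) := Fintype.ofFinite _
  symm
  apply eq_blockCoeff_of_omega B
  · -- class function
    intro g h
    unfold eb
    by_cases hg : g ∈ N
    · have hg' : h * g * h⁻¹ ∈ N := hN.conj_mem g hg h
      rw [extZ_of_mem N _ hg, extZ_of_mem N _ hg', blockCoeff_singleton, blockCoeff_singleton]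
      have := hinv h ⟨g, hg⟩
      rw [this]
    · have hg' : h * g * h⁻¹ ∉ N := by
        intro h1
        apply hg
        have := hN.conj_mem _ h1 h⁻¹
        have e : h⁻¹ * (h * g * h⁻¹) * h⁻¹⁻¹ = g := by group
        rwa [e] at this
      rw [extZ_of_not_mem N _ hg, extZ_of_not_mem N _ hg']
  · intro ψ
    have hψ1 : (ψ : G → ℂ) 1 ≠ 0 := irr_apply_one_ne_zero ψ.2
    have hsum : ∑ g : G, eb N {θ} g * (ψ : G → ℂ) g =
        (θ : N → ℂ) 1 * classInner (fun n : N => (ψ : G → ℂ) n) (θ : N → ℂ) := by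
      unfold eb
      rw [sum_extZ_mul, sum_blockCoeff_mul]
      rw [Finset.sum_eq_single θ]
      · rw [if_pos (Set.mem_singleton θ), one_mul]
      · intro θ' _ hne
        rw [if_neg (by simpa using hne), zero_mul, zero_mul]
      · intro h; exact absurd (Finset.mem_univ _) h
    unfold omega
    rw [hsum]
    by_cases hψ : ψ ∈ B
    · rw [if_pos hψ]
      have h1 := (hBdef ψ).1 hψ
      have h2 := restrict_of_invariant N (θ : N → ℂ) θ.2 hinv (ψ : G → ℂ) ψ.2 h1 1
      have h3 : (ψ : G → ℂ) 1 = classInner (fun n : N => (ψ : G → ℂ) n) (θ : N → ℂ) *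
          (θ : N → ℂ) 1 := h2
      rw [div_eq_one_iff_eq hψ1, h3, mul_comm]
    · rw [if_neg hψ]
      have h1 : classInner (fun n : N => (ψ : G → ℂ) n) (θ : N → ℂ) = 0 := by
        by_contra h
        exact hψ ((hBdef ψ).2 h)
      rw [h1, mul_zero, zero_div]

end

end Cfsg.Agent.Lib.Helper8.FG
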