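import Mathlib
import Cfsg.Prelude.Def_Characters
import Cfsg.Prelude.Def_Blocks
import Cfsg.Agent.Lib.Helper8.GL23

/-!
# Counting the characters of degree prime to the index of a normal subgroup with a complement
of coprime order
-/

set_option autoImplicit false
set_option linter.unusedSectionVars false

namespace Cfsg.Agent.Lib.Helper8

open Cfsg
open scoped ComplexConjugate
open Cfsg.Agent.Lib.Helper1 Cfsg.Agent.Lib.Helper4 Cfsg.Agent.Lib.Helper2.DetChar
  Cfsg.Agent.Lib.Helper2.LinExt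

universe u

section

variable {Γ : Type u} [Group Γ] [Fintype Γ]

theorem index_eq_card_of_compl (K H : Subgroup Γ) [hK : K.Normal] (hsup : K ⊔ H = ⊤)
    (hcop : (Nat.card K).Coprime (Nat.card H)) : K.index = Nat.card H := by
  have hc : Subgroup.IsComplement' K H := by
    apply Subgroup.isComplement'_of_disjoint_and_mul_eq_univ
    · exact Subgroup.disjoint_of_coprime_natCard hcop
    · rw [← Subgroup.normal_mul, hsup]
      rfl
  have h1 := hc.card_mul_card
  rw [← K.card_mul_index] at h1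
  exact (Nat.eq_of_mul_eq_mul_left Nat.card_pos h1).symm

theorem normalizes_of_normal (K : Subgroup Γ) [hK : K.Normal] (g : Γ) : Normalizes g K := by
  intro x
  constructor
  · intro hx
    exact hK.conj_mem x hx g
  · intro hx
    have := hK.conj_mem _ hx g⁻¹
    simpa [mul_assoc] using this

theorem charDegree_congr {A B : Type*} [Group A] [Group B] {f : A → ℂ} {h : B → ℂ}
    (e : f 1 = h 1) : charDegree f = charDegree h := by
  unfold charDegree
  rw [e]

/-- **The characters of degree prime to `|H|`** of `Γ = K H` are the products of the extensions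
of the invariant characters of `K` with the linear characters of `Γ / K`. -/
theorem card_coprime_degree (K H : Subgroup Γ) [hK : K.Normal] (hsup : K ⊔ H = ⊤)
    (hcop : (Nat.card K).Coprime (Nat.card H)) :
    Nat.card {χ : IrrCharacter Γ // (charDegree (χ : Γ → ℂ)).Coprime (Nat.card H)}
      = Nat.card {θ : IrrCharacter K // InvS H K (θ : K → ℂ)} *
        Nat.card {φ : Γ →* ℂˣ // ∀ n : K, φ (n : Γ) = 1} := by
  classical
  haveI : Fintype K := Fintype.ofFinite _
  have hidx : K.index = Nat.card H := index_eq_card_of_compl K H hsup hcop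
  have hcopK : (Nat.card K).Coprime K.index := hidx ▸ hcop
  have hinvΓ : ∀ θ : IrrCharacter K, InvS H K (θ : K → ℂ) → ∀ (g : Γ) (n : K),
      (θ : K → ℂ) ⟨g * n * g⁻¹, hK.conj_mem n n.2 g⟩ = (θ : K → ℂ) n := by
    intro θ hθ g n
    have : (⊤ : Subgroup Γ) ≤ invSubgroup K (θ : K → ℂ) := by
      rw [← hsup]
      apply sup_le (le_invSubgroup (isClassFunction_irr θ.2))
      intro h hh
      exact ⟨normalizes_of_normal K h, hθ h hh⟩
    exact (this (Subgroup.mem_top g)).2 n _ rfl
  have hext : ∀ θ : {θ : IrrCharacter K // InvS H K (θ : K → ℂ)}, ∃ η : Γ → ℂ,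
      IsIrrCharacter Γ η ∧ ∀ n : K, η n = (θ.1 : K → ℂ) n := by
    intro θ
    obtain ⟨η, h1, h2, _⟩ := exists_canonical_ext K hcopK θ.1.2 (hinvΓ θ.1 θ.2)
    exact ⟨η, h1, h2⟩
  choose ext hext1 hext2 using hext
  have hdeg : ∀ θ, charDegree (ext θ) = charDegree (θ.1 : K → ℂ) := by
    intro θ
    apply charDegree_congr
    exact hext2 θ 1
  have hdegcop : ∀ θ, (charDegree (ext θ)).Coprime K.index := by
    intro θ
    rw [hdeg]
    exact Nat.Coprime.coprime_dvd_left (charDegree_dvd_card θ.1.2) hcopK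
  rw [← Nat.card_prod]
  symm
  apply Nat.card_congr
  refine Equiv.ofBijective (fun p => ⟨⟨fun g => ((p.2.1 g : ℂˣ) : ℂ) * ext p.1 g,
    isIrrCharacter_hom_mul p.2.1 (hext1 p.1)⟩, ?_⟩) ⟨?_, ?_⟩
  · have h1 : charDegree (fun g => ((p.2.1 g : ℂˣ) : ℂ) * ext p.1 g) = charDegree (ext p.1) := by
      apply charDegree_congr
      rw [map_one, Units.val_one, one_mul]
    show (charDegree (fun g => ((p.2.1 g : ℂˣ) : ℂ) * ext p.1 g)).Coprime (Nat.card H)
    rw [h1, ← hidx]
    exact hdegcop p.1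
  · rintro ⟨θ, φ⟩ ⟨θ', φ'⟩ h
    have h0 : ∀ g, ((φ.1 g : ℂˣ) : ℂ) * ext θ g = ((φ'.1 g : ℂˣ) : ℂ) * ext θ' g := by
      intro g
      have := congrArg (fun x : {χ : IrrCharacter Γ //
        (charDegree (χ : Γ → ℂ)).Coprime (Nat.card H)} => (x.1 : Γ → ℂ) g) h
      exact this
    have h1 : θ = θ' := by
      apply Subtype.ext
      apply Subtype.ext
      funext n
      have := h0 n
      rw [φ.2 n, φ'.2 n, Units.val_one, one_mul, one_mul, hext2, hext2] at this
      exact this
    subst h1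
    have h2 : φ = φ' := by
      apply Subtype.ext
      have h3 := hom_eq_one_of_mul_eq K (hext1 θ) (hdegcop θ) (φ.1⁻¹ * φ'.1) (by
        intro n
        rw [MonoidHom.mul_apply, MonoidHom.inv_apply, φ.2 n, φ'.2 n]
        simp) (by
        intro g
        rw [MonoidHom.mul_apply, MonoidHom.inv_apply, Units.val_mul, mul_assoc, ← h0 g,
          ← mul_assoc, ← Units.val_mul, inv_mul_cancel, Units.val_one, one_mul])
      exact inv_mul_eq_one.1 h3
    rw [h2]
  · rintro ⟨χ, hχ⟩
    have hχ' : (charDegree (χ : Γ → ℂ)).Coprime K.index := by rw [hidx]; exact hχ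
    have hres := restrict_irr_of_coprime K χ.2 hχ'
    have hθinv : InvS H K (fun n : K => (χ : Γ → ℂ) n) := by
      intro s hs g g' hgg
      show (χ : Γ → ℂ) g' = (χ : Γ → ℂ) g
      rw [hgg]
      exact isClassFunction_irr χ.2 _ _
    obtain ⟨φ, hφK, hφ⟩ := exists_hom_mul_of_extend K hres
      (hext1 ⟨⟨fun n : K => (χ : Γ → ℂ) n, hres⟩, hθinv⟩) χ.2
      (hext2 ⟨⟨fun n : K => (χ : Γ → ℂ) n, hres⟩, hθinv⟩) (fun n => rfl)
    refine ⟨(⟨⟨fun n : K => (χ : Γ → ℂ) n, hres⟩, hθinv⟩, ⟨φ, hφK⟩), ?_⟩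
    apply Subtype.ext
    apply Subtype.ext
    exact hφ.symm

end

end Cfsg.Agent.Lib.Helper8
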