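import Mathlib
import Cfsg.Prelude.Def_Blocks
import Cfsg.Prelude.Def_Local
import Cfsg.Agent.S4444
import Cfsg.Agent.Lib.Helper8.GL24
import Cfsg.Agent.Lib.Helper8.GL20
import Cfsg.Agent.Lib.Helper8.FR4
import Cfsg.Agent.Lib.Helper8.BlockIdem2
import Cfsg.Agent.Lib.Helper8.BlockHom
import Cfsg.Agent.Lib.Helper8.BF5

/-!
# The Brauer map of the idempotent of an invariant character of a normal `p'`-subgroup
-/

set_option autoImplicit false
set_option linter.unusedSectionVars false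

namespace Cfsg.Agent.Lib.Helper8.FG

open Cfsg
open scoped ComplexConjugate
open Cfsg.Agent.Lib.Helper1 Cfsg.Agent.Lib.Helper4 Cfsg.Agent.Lib.Helper8

universe u

section

variable {G : Type u} [Group G]

/-- `C_K(R)`. -/
abbrev cK (K R : Subgroup G) : Subgroup G := K ⊓ Subgroup.centralizer (R : Set G)

theorem cK_le (K R : Subgroup G) : cK K R ≤ K := inf_le_left

theorem cK_le' (K R : Subgroup G) : cK K R ≤ Subgroup.centralizer (R : Set G) := inf_le_right

variable [Fintype G] {p : ℕ}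

/-- The Glauberman data of an invariant character of a normal `p'`-subgroup `K` with respect to
a `p`-subgroup `R`: the correspondent `β` on `C_K(R)` is invariant under `C_G(R)`. -/
theorem exists_glauberman (hp : p.Prime) (K : Subgroup G) [hK : K.Normal] [Fintype K]
    (hKp : ¬ p ∣ Nat.card K) (θ : IrrCharacter K)
    (hθ : ∀ g : G, ∀ k k' : K, (k' : G) = g * k * g⁻¹ → (θ : K → ℂ) k' = (θ : K → ℂ) k)
    (R : Subgroup G) (hR : IsPGroup p R)
    [Fintype ↥(cK K R)] :
    ∃ β : IrrCharacter ↥(cK K R),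
      ∃ m : IrrCharacter ↥(cK K R) → ℕ,
      (∀ γ : IrrCharacter ↥(cK K R),
        classInner (fun c : ↥(cK K R) =>
          (θ : K → ℂ) ⟨c, cK_le K R c.2⟩) (γ : _ → ℂ) = m γ) ∧
      ¬ p ∣ m β ∧ (∀ γ, γ ≠ β → p ∣ m γ) ∧
      ∀ x ∈ Subgroup.centralizer (R : Set G),
        ∀ k k' : ↥(cK K R), (k' : G) = x * k * x⁻¹ →
          (β : _ → ℂ) k' = (β : _ → ℂ) k := by
  classical
  haveI : Fact p.Prime := ⟨hp⟩
  have hcop : (Nat.card K).Coprime (Nat.card R) := by
    obtain ⟨n, hn⟩ := IsPGroup.iff_card.1 hR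
    rw [hn]
    exact Nat.Coprime.pow_right _ ((Nat.Prime.coprime_iff_not_dvd hp).2 hKp).symm
  have hnorm : ∀ s ∈ R, ∀ g ∈ K, s * g * s⁻¹ ∈ K := fun s _ g hg => hK.conj_mem g hg s
  have hres := Cfsg.Agent.S4444.result K R hnorm hcop p hp hR
    (K ⊓ Subgroup.centralizer (R : Set G)) rfl inf_le_left
  obtain ⟨β, ⟨mβ, hmβ, hpmβ⟩, hβu⟩ := hres.1 θ (fun s _ g g' hg => hθ s g g' hg)
  have hresC : IsCharacter ↥(cK K R)
      (fun c : ↥(cK K R) => (θ : K → ℂ) ⟨c, cK_le K R c.2⟩) :=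
    isCharacter_comp_hom (isCharacter_of_irr θ.2) (Subgroup.inclusion inf_le_left)
  have hm : ∀ γ : IrrCharacter ↥(cK K R), ∃ m : ℕ,
      classInner (fun c : ↥(cK K R) =>
          (θ : K → ℂ) ⟨c, cK_le K R c.2⟩) (γ : _ → ℂ) = m :=
    fun γ => classInner_char_irr_nat hresC γ.2
  choose m hm using hm
  have hmβ' : m β = mβ := by
    have : (m β : ℂ) = mβ := by rw [← hm β, hmβ]
    exact_mod_cast this
  have hdvd : ∀ γ, γ ≠ β → p ∣ m γ := by
    intro γ hγ
    by_contra h
    exact hγ (hβu γ ⟨m γ, hm γ, h⟩)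
  refine ⟨β, m, hm, by rw [hmβ']; exact hpmβ, hdvd, ?_⟩
  intro x hx
  have hxK : Normalizes x K := normalizes_of_normal K x
  have hxR : Normalizes x R := by
    apply normalizes_of_central (B := R) (T := Subgroup.centralizer (R : Set G)) _ x hx
    intro t ht b hb
    exact ((Subgroup.mem_centralizer_iff.1 ht) b hb).symm
  have hxKR : Normalizes x (K ⊓ Subgroup.centralizer (R : Set G)) :=
    normalizes_inf_centralizer hxK hxR
  show InvElt x (K ⊓ Subgroup.centralizer (R : Set G)) (β : _ → ℂ)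
  rw [invElt_iff hxKR]
  set β' : IrrCharacter ↥(cK K R) :=
    ⟨conjChar hxKR (β : _ → ℂ), isIrrCharacter_conjChar _ β.2⟩ with hβ'
  have h1 := classInner_conjChar (inf_le_left : K ⊓ Subgroup.centralizer (R : Set G) ≤ K)
    hxK hxKR (θ : K → ℂ) (β : _ → ℂ)
  have h2 : conjChar hxK (θ : K → ℂ) = (θ : K → ℂ) := by
    funext g
    exact hθ x g _ rfl
  rw [h2, hm β] at h1
  have h3 : β' = β := by
    by_contra hne
    have h4 := hdvd β' hne
    have h5 : (m β' : ℂ) = m β := by rw [← hm β', ← h1]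
    have h6 : m β' = m β := by exact_mod_cast h5
    rw [h6, hmβ'] at h4
    exact hpmβ h4
  intro g
  have := congrArg (fun b : IrrCharacter ↥(cK K R) =>
    (b : _ → ℂ) g) h3
  exact this

end

section key

variable {G : Type u} [Group G] [Fintype G] {p : ℕ} {M : Ideal AlgInt}

omit [Fintype G] in
/-- The idempotent of an invariant character is invariant. -/
theorem eb_singleton_conj (N : Subgroup G) [Fintype N] (θ : IrrCharacter N) (h g : G)
    (hh : Normalizes h N)
    (hinv : ∀ k k' : N, (k' : G) = h * k * h⁻¹ → (θ : N → ℂ) k' = (θ : N → ℂ) k) :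
    eb N {θ} (h * g * h⁻¹) = eb N {θ} g := by
  unfold eb
  by_cases hg : g ∈ N
  · have hg' : h * g * h⁻¹ ∈ N := (hh g).1 hg
    rw [extZ_of_mem N _ hg, extZ_of_mem N _ hg', blockCoeff_singleton, blockCoeff_singleton,
      hinv ⟨g, hg⟩ ⟨h * g * h⁻¹, hg'⟩ rfl]
  · have hg' : h * g * h⁻¹ ∉ N := fun h1 => hg ((hh g).2 h1)
    rw [extZ_of_not_mem N _ hg, extZ_of_not_mem N _ hg']

/-- **Key congruence**: the central character of an irreducible character `ξ` of `C_G(R)` at the
truncation of the idempotent of `θ` is congruent to a unit times the indicator of `ξ` lying over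
the Glauberman correspondent of `θ`. -/
theorem key_cong (hM : IsPModular p M) (K : Subgroup G) [hK : K.Normal] [Fintype K]
    (hKp : ¬ p ∣ Nat.card K) (θ : IrrCharacter K)
    (hθ : ∀ g : G, ∀ k k' : K, (k' : G) = g * k * g⁻¹ → (θ : K → ℂ) k' = (θ : K → ℂ) k)
    (R : Subgroup G) (hR : IsPGroup p R)
    [Fintype ↥(Subgroup.centralizer (R : Set G))] [Fintype ↥(cK K R)] :
    ∃ β : IrrCharacter ↥(cK K R),
      (∀ x ∈ Subgroup.centralizer (R : Set G), ∀ k k' : ↥(cK K R), (k' : G) = x * k * x⁻¹ →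
          (β : ↥(cK K R) → ℂ) k' = (β : ↥(cK K R) → ℂ) k) ∧
      ∃ c₀ : ℂ, ¬ MemLocalIdeal M c₀ ∧
        ∀ ξ : IrrCharacter ↥(Subgroup.centralizer (R : Set G)),
          MemLocalIdeal M (omega (ξ : ↥(Subgroup.centralizer (R : Set G)) → ℂ)
              (fun c : ↥(Subgroup.centralizer (R : Set G)) => eb K {θ} (c : G)) -
            c₀ * (if classInner (fun n : ↥(cK K R) => (ξ : ↥(Subgroup.centralizer (R : Set G)) → ℂ) ⟨n, cK_le' K R n.2⟩)
              (β : ↥(cK K R) → ℂ) ≠ 0 then 1 else 0)) := by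
  classical
  have hp : p.Prime := hM.1
  have hMp := isPModular_isPrime hM
  have hMt := isPModular_ne_top hM
  haveI : Fintype (IrrCharacter ↥(cK K R)) := Fintype.ofFinite _
  obtain ⟨β, m, hm, hpm, hdvd, hβinv⟩ := exists_glauberman hp K hKp θ hθ R hR
  refine ⟨β, hβinv, ?_⟩
  obtain ⟨hθ1, hdθ⟩ := irr_apply_one_eq_charDegree θ.2
  obtain ⟨hβ1, hdβ⟩ := irr_apply_one_eq_charDegree β.2
  set dθ := charDegree (θ : K → ℂ) with hdθdef
  set dβ := charDegree (β : ↥(cK K R) → ℂ) with hdβdef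
  have hKRcard : Nat.card ↥(cK K R) ∣ Nat.card K := Subgroup.card_dvd_of_le (cK_le K R)
  have hKRp : ¬ p ∣ Nat.card ↥(cK K R) := fun h => hKp (h.trans hKRcard)
  have hdθp : ¬ p ∣ dθ := fun h => hKp (h.trans (charDegree_dvd_card θ.2))
  have hdβp : ¬ p ∣ dβ := fun h => hKRp (h.trans (charDegree_dvd_card β.2))
  set A : ℕ := Nat.card ↥(cK K R) * dθ * m β with hA
  set B : ℕ := Nat.card K * dβ with hB
  have hAp : ¬ p ∣ A := by
    intro h
    rcases (Nat.Prime.dvd_mul hp).1 h with h1 | h1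
    · rcases (Nat.Prime.dvd_mul hp).1 h1 with h2 | h2
      · exact hKRp h2
      · exact hdθp h2
    · exact hpm h1
  have hBp : ¬ p ∣ B := by
    intro h
    rcases (Nat.Prime.dvd_mul hp).1 h with h1 | h1
    · exact hKp h1
    · exact hdβp h1
  have hA0 : A ≠ 0 := fun h => hAp (by rw [h]; exact dvd_zero p)
  have hB0 : B ≠ 0 := fun h => hBp (by rw [h]; exact dvd_zero p)
  refine ⟨(A : ℂ) / (B : ℂ), ?_, ?_⟩
  · apply not_memLocalIdeal_natCast_div hM hA0 hB0
    rw [Nat.factorization_eq_zero_of_not_dvd hAp, Nat.factorization_eq_zero_of_not_dvd hBp]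
  intro ξ
  set F₁ : ↥(Subgroup.centralizer (R : Set G)) → ℂ := fun c => eb K {θ} (c : G) with hF₁
  set F₂ : ↥(Subgroup.centralizer (R : Set G)) → ℂ := fun c => eb (cK K R) {β} (c : G) with hF₂
  have hF₁cl : IsClassFunction ↥(Subgroup.centralizer (R : Set G)) F₁ := by
    intro g h
    exact eb_singleton_conj K θ (h : G) (g : G) (normalizes_of_normal K _) (hθ (h : G))
  have hxKR : ∀ x ∈ Subgroup.centralizer (R : Set G), Normalizes x (cK K R) := by
    intro x hx
    have hxR : Normalizes x R := by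
      apply normalizes_of_central (B := R) (T := Subgroup.centralizer (R : Set G)) _ x hx
      intro t ht b hb
      exact ((Subgroup.mem_centralizer_iff.1 ht) b hb).symm
    exact normalizes_inf_centralizer (normalizes_of_normal K x) hxR
  have hF₂cl : IsClassFunction ↥(Subgroup.centralizer (R : Set G)) F₂ := by
    intro g h
    exact eb_singleton_conj (cK K R) β (h : G) (g : G) (hxKR _ h.2) (hβinv _ h.2)
  -- the central character at `F₂`
  have hω₂ : omega (ξ : ↥(Subgroup.centralizer (R : Set G)) → ℂ) F₂ =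
      (if classInner (fun n : ↥(cK K R) => (ξ : ↥(Subgroup.centralizer (R : Set G)) → ℂ) ⟨n, cK_le' K R n.2⟩)
              (β : ↥(cK K R) → ℂ) ≠ 0 then 1 else 0) := by
    have h1 := omega_eb_eq_one_iff (cK K R) (Subgroup.centralizer (R : Set G)) (cK_le' K R) (b := {β}) hF₂cl ξ.2
    have h2 := omega_eb_eq_zero_or_one (cK K R) (Subgroup.centralizer (R : Set G)) (cK_le' K R) (b := {β}) hF₂cl ξ.2
    by_cases hc : classInner (fun n : ↥(cK K R) => (ξ : ↥(Subgroup.centralizer (R : Set G)) → ℂ) ⟨n, cK_le' K R n.2⟩)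
        (β : ↥(cK K R) → ℂ) ≠ 0
    · rw [if_pos hc]
      exact h1.2 ⟨β, rfl, hc⟩
    · rw [if_neg hc]
      rcases h2 with h3 | h3
      · exact h3
      · exfalso
        obtain ⟨θ', hθ', h4⟩ := h1.1 h3
        rw [Set.mem_singleton_iff] at hθ'
        rw [hθ'] at h4
        exact hc h4
  -- pointwise congruence
  have hresC : IsClassFunction ↥(cK K R)
      (fun c : ↥(cK K R) => (θ : K → ℂ) ⟨c, cK_le K R c.2⟩) :=
    isClassFunction_of_isCharacter
      (isCharacter_comp_hom (isCharacter_of_irr θ.2) (Subgroup.inclusion (cK_le K R)))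
  have hexp := class_function_expansion _ hresC
  have hDJ : ∀ t : ↥(Subgroup.centralizer (R : Set G)), MemLocalIdeal M ((F₁ - ((A : ℂ) / (B : ℂ)) • F₂) t) := by
    intro t
    rw [Pi.sub_apply, Pi.smul_apply, smul_eq_mul]
    by_cases ht : (t : G) ∈ K
    · have htKR : (t : G) ∈ cK K R := ⟨ht, t.2⟩
      have e1 : F₁ t = (Nat.card K : ℂ)⁻¹ * ((dθ : ℂ) * conj ((θ : K → ℂ) ⟨t, ht⟩)) := by
        show eb K {θ} (t : G) = _
        unfold eb
        rw [extZ_of_mem K _ ht, blockCoeff_singleton, hθ1]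
      have e2 : F₂ t = (Nat.card ↥(cK K R) : ℂ)⁻¹ *
          ((dβ : ℂ) * conj ((β : ↥(cK K R) → ℂ) ⟨t, htKR⟩)) := by
        show eb (cK K R) {β} (t : G) = _
        unfold eb
        rw [extZ_of_mem (cK K R) _ htKR, blockCoeff_singleton, hβ1]
      have e3 : (θ : K → ℂ) ⟨t, ht⟩ = ∑ γ : IrrCharacter ↥(cK K R),
          (m γ : ℂ) * (γ : ↥(cK K R) → ℂ) ⟨t, htKR⟩ := by
        have := congrFun hexp ⟨t, htKR⟩
        rw [Finset.sum_apply] at this
        simp only [Pi.smul_apply, smul_eq_mul, hm] at this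
        exact this
      have e4 : conj ((θ : K → ℂ) ⟨t, ht⟩) = (m β : ℂ) * conj ((β : ↥(cK K R) → ℂ) ⟨t, htKR⟩) +
          ∑ γ ∈ Finset.univ.erase β, (m γ : ℂ) * conj ((γ : ↥(cK K R) → ℂ) ⟨t, htKR⟩) := by
        rw [e3, map_sum, ← Finset.add_sum_erase _ _ (Finset.mem_univ β)]
        simp only [map_mul, map_natCast]
      have hK0 : (Nat.card K : ℂ) ≠ 0 := Nat.cast_ne_zero.2 Nat.card_pos.ne'
      have hKR0 : (Nat.card ↥(cK K R) : ℂ) ≠ 0 := Nat.cast_ne_zero.2 Nat.card_pos.ne'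
      have hdβ0 : (dβ : ℂ) ≠ 0 := Nat.cast_ne_zero.2 hdβ.ne'
      have e5 : F₁ t - (A : ℂ) / (B : ℂ) * F₂ t = ((Nat.card K : ℂ)⁻¹ * (dθ : ℂ)) *
          ∑ γ ∈ Finset.univ.erase β, (m γ : ℂ) * conj ((γ : ↥(cK K R) → ℂ) ⟨t, htKR⟩) := by
        rw [e1, e2, e4, hA, hB]
        push_cast
        field_simp
        ring
      rw [e5]
      apply memLocalIdeal_mul_left hMp
      · exact memLocalRing_mul hMp (memLocalRing_inv_natCast hM hKp) (memLocalRing_natCast hMt _)
      · apply memLocalIdeal_sum hMp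
        intro γ hγ
        have hγne : γ ≠ β := (Finset.mem_erase.1 hγ).1
        apply memLocalIdeal_mul_right hMp ((memLocalIdeal_natCast_iff hM _).2 (hdvd γ hγne))
        exact memLocalRing_of_isIntegral hMt
          (isIntegral_conj (isIntegral_char_apply (isCharacter_of_irr γ.2) _))
    · have htKR : (t : G) ∉ cK K R := fun h => ht h.1
      have e1 : F₁ t = 0 := by
        show eb K {θ} (t : G) = _
        unfold eb; exact extZ_of_not_mem K _ ht
      have e2 : F₂ t = 0 := by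
        show eb (cK K R) {β} (t : G) = _
        unfold eb; exact extZ_of_not_mem (cK K R) _ htKR
      rw [e1, e2, mul_zero, sub_zero]
      exact memLocalIdeal_zero hMt
  have hDcl : IsClassFunction ↥(Subgroup.centralizer (R : Set G)) (F₁ - ((A : ℂ) / (B : ℂ)) • F₂) := by
    intro g h
    rw [Pi.sub_apply, Pi.smul_apply, Pi.sub_apply, Pi.smul_apply, hF₁cl g h, hF₂cl g h]
  have hfin := memLocalIdeal_omega hMp ξ.2 hDcl hDJ
  rw [omega_sub, omega_smul, hω₂] at hfin
  exact hfin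

end key

end Cfsg.Agent.Lib.Helper8.FG
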