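import Mathlib
import Cfsg.Prelude.Def_Blocks
import Cfsg.Prelude.Def_Local
import Cfsg.Agent.Lib.Helper8.FG1
import Cfsg.Agent.Lib.Helper8.FG2
import Cfsg.Agent.Lib.Helper8.FG3
import Cfsg.Agent.Lib.Helper8.BlockFirstMain
import Cfsg.Agent.Lib.Helper8.BlockBrauer2
import Cfsg.Agent.Lib.Helper8.InducedOmega
import Cfsg.Agent.Lib.Helper8.REL1
import Cfsg.Agent.Lib.Helper8.BlockMinMax

/-!
# Blocks of principal type over an invariant character of `O_{p'}(G)`, `G` `p`-constrained
-/

set_option autoImplicit false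
set_option linter.unusedSectionVars false

namespace Cfsg.Agent.Lib.Helper8.FG

open Cfsg
open scoped ComplexConjugate
open Cfsg.Agent.Lib.Helper1 Cfsg.Agent.Lib.Helper4 Cfsg.Agent.Lib.Helper8

universe u

section

variable {G : Type u} [Group G] [Fintype G] {p : ℕ} {M : Ideal AlgInt}

omit [Fintype G] in
theorem brauerCentralChar_centralizer (P : Subgroup G)
    (ξ : ↥(Subgroup.centralizer (P : Set G)) → ℂ) (g : G) :
    brauerCentralChar P (Subgroup.centralizer (P : Set G)) ξ g =
      inducedCentralChar (Subgroup.centralizer (P : Set G)) ξ g := by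
  unfold brauerCentralChar inducedCentralChar
  have : {h : ↥(Subgroup.centralizer (P : Set G)) | IsConj g (h : G) ∧
      (h : G) ∈ Subgroup.centralizer (P : Set G)} =
      {h : ↥(Subgroup.centralizer (P : Set G)) | IsConj g (h : G)} := by
    ext h
    exact ⟨fun hh => hh.1, fun hh => ⟨hh, h.2⟩⟩
  rw [this]

/-- Block induction from the centralizer of a `p`-subgroup through the Brauer map. -/
theorem isInducedBlock_of_brauerLam_centralizer (hM : IsPModular p M) (P : Subgroup G)
    [Fintype ↥(Subgroup.centralizer (P : Set G))]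
    (ξ₀ : IrrCharacter ↥(Subgroup.centralizer (P : Set G))) (χ : IrrCharacter G)
    (hχ : ∀ F : G → ℂ, IsClassFunction G F → (∀ g, MemLocalRing M (F g)) →
      MemLocalIdeal M (brauerLam P (Subgroup.centralizer (P : Set G))
        (ξ₀ : ↥(Subgroup.centralizer (P : Set G)) → ℂ) F - omega (χ : G → ℂ) F)) :
    IsInducedBlock M (Subgroup.centralizer (P : Set G))
      (blockOf M (ξ₀ : ↥(Subgroup.centralizer (P : Set G)) → ℂ)) (blockOf M (χ : G → ℂ)) := by
  classical
  have hMp := isPModular_isPrime hM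
  refine ⟨⟨ξ₀, rfl⟩, ⟨χ, rfl⟩, ?_⟩
  intro ξ hξ χ' hχ' g
  have h1 : MemLocalIdeal M (inducedCentralChar (Subgroup.centralizer (P : Set G))
      (ξ : ↥(Subgroup.centralizer (P : Set G)) → ℂ) g -
      inducedCentralChar (Subgroup.centralizer (P : Set G))
        (ξ₀ : ↥(Subgroup.centralizer (P : Set G)) → ℂ) g) := by
    rw [inducedCentralChar_eq_omega, inducedCentralChar_eq_omega]
    exact cong_symm (memLocalIdeal_omega_sub hMp ξ₀.2 ξ.2 hξ
      (isClassFunction_restrict _ (classIndicator_isClassFunction g))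
      (fun h => memLocalRing_classIndicator hMp.ne_top g (h : G)))
  have h3 : MemLocalIdeal M (inducedCentralChar (Subgroup.centralizer (P : Set G))
      (ξ₀ : ↥(Subgroup.centralizer (P : Set G)) → ℂ) g - centralChar (χ : G → ℂ) g) := by
    rw [← brauerCentralChar_centralizer, brauerCentralChar_eq_brauerLam,
      ← omega_classIndicator (isClassFunction_irr χ.2)]
    exact hχ _ (classIndicator_isClassFunction g) (memLocalRing_classIndicator hMp.ne_top g)
  have h4 : MemLocalIdeal M (centralChar (χ : G → ℂ) g - centralChar (χ' : G → ℂ) g) := hχ' g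
  exact cong_trans hMp (cong_trans hMp h1 h3) h4

end

section main

variable {G : Type u} [Group G] [Fintype G] {p : ℕ} [Fact p.Prime] {M : Ideal AlgInt}

/-- **Principal type**: for `G` `p`-constrained and `θ` a `G`-invariant character of `O_{p'}(G)`,
exactly one block of `C_G(R)` induces the block of characters over `θ`, for every `p`-subgroup
`R`. -/
theorem principal_type (hM : IsPModular p M) (hc : IsPConstrained p G) (K : Subgroup G)
    [hK : K.Normal] [Fintype K] (hKdef : K = pPrimeCore p G) (θ : IrrCharacter K)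
    (hθ : ∀ g : G, ∀ k k' : K, (k' : G) = g * k * g⁻¹ → (θ : K → ℂ) k' = (θ : K → ℂ) k)
    (B : Set (IrrCharacter G))
    (hBdef : ∀ χ : IrrCharacter G, χ ∈ B ↔
      classInner (fun k : K => (χ : G → ℂ) k) (θ : K → ℂ) ≠ 0)
    (R : Subgroup G) (hR : IsPGroup p R) :
    ∃! f : Set (IrrCharacter ↥(Subgroup.centralizer (R : Set G))),
      IsInducedBlock M (Subgroup.centralizer (R : Set G)) f B := by
  classical
  have hp : p.Prime := Fact.out
  have hMp := isPModular_isPrime hM
  haveI : Fintype ↥(Subgroup.centralizer (R : Set G)) := Fintype.ofFinite _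
  haveI : Fintype ↥(cK K R) := Fintype.ofFinite _
  have hKp : ¬ p ∣ Nat.card K := by
    have := Cfsg.Agent.Lib.Helper6.pPrimeCore_coprime (G := G) p
    rw [← hKdef] at this
    exact (Nat.Prime.coprime_iff_not_dvd hp).1 this.symm
  have hinv : ∀ (g : G) (n : K),
      (θ : K → ℂ) ⟨g * n * g⁻¹, hK.conj_mem n n.2 g⟩ = (θ : K → ℂ) n := fun g n => hθ g n _ rfl
  obtain ⟨hB, -⟩ := fong_block hM hc K hKdef θ hinv B hBdef
  have hBcoeff := blockCoeff_over_invariant K θ hinv B hBdef
  obtain ⟨hFcl, hFS, hFω⟩ := blockCoeff_spec hMp hB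
  obtain ⟨β, hβinv, c₀, hc₀, hkey⟩ := key_cong hM K hKp θ hθ R hR
  set AR : Set (IrrCharacter ↥(Subgroup.centralizer (R : Set G))) :=
    {ξ | classInner (fun n : ↥(cK K R) =>
      (ξ : ↥(Subgroup.centralizer (R : Set G)) → ℂ) ⟨n, cK_le' K R n.2⟩)
      (β : ↥(cK K R) → ℂ) ≠ 0} with hAR
  have hAR_iff : ∀ ξ : IrrCharacter ↥(Subgroup.centralizer (R : Set G)), ξ ∈ AR ↔
      classInner (fun n : ↥(cK K R) =>
      (ξ : ↥(Subgroup.centralizer (R : Set G)) → ℂ) ⟨n, cK_le' K R n.2⟩)
      (β : ↥(cK K R) → ℂ) ≠ 0 := fun ξ => Iff.rfl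
  -- `AR` is a block of the centralizer
  have hARblock : IsPBlock M AR := by
    obtain ⟨hcore, hcC⟩ := centralizer_facts p hc R hR
    set N' : Subgroup ↥(Subgroup.centralizer (R : Set G)) :=
      (cK K R).subgroupOf (Subgroup.centralizer (R : Set G)) with hN'
    have hN'def : N' = pPrimeCore p ↥(Subgroup.centralizer (R : Set G)) := by
      rw [hcore, hN', ← hKdef]
      exact Subgroup.inf_subgroupOf_right K _
    haveI hN'n : N'.Normal := by rw [hN'def]; exact pPrimeCore_normal p _
    haveI : Fintype N' := Fintype.ofFinite _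
    set e := Subgroup.subgroupOfEquivOfLe (cK_le' K R) with he
    set β' : IrrCharacter N' := irrMap e.symm β with hβ'
    have hinv' : ∀ (g : ↥(Subgroup.centralizer (R : Set G))) (n : N'),
        (β' : N' → ℂ) ⟨g * n * g⁻¹, hN'n.conj_mem n n.2 g⟩ = (β' : N' → ℂ) n := by
      intro g n
      exact hβinv (g : G) g.2 (e n) (e ⟨g * n * g⁻¹, hN'n.conj_mem n n.2 g⟩) rfl
    refine (fong_block hM hcC N' hN'def β' hinv' AR ?_).1
    intro ξ
    rw [hAR_iff]
    have := classInner_mulEquiv e (fun n : ↥(cK K R) =>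
      (ξ : ↥(Subgroup.centralizer (R : Set G)) → ℂ) ⟨n, cK_le' K R n.2⟩) (β : ↥(cK K R) → ℂ)
    rw [← this]
    rfl
  -- the restriction of the idempotent
  have hrestr : ∀ ξ : IrrCharacter ↥(Subgroup.centralizer (R : Set G)),
      brauerLam R (Subgroup.centralizer (R : Set G))
        (ξ : ↥(Subgroup.centralizer (R : Set G)) → ℂ) (blockCoeff B) =
      omega (ξ : ↥(Subgroup.centralizer (R : Set G)) → ℂ)
        (fun c : ↥(Subgroup.centralizer (R : Set G)) => eb K {θ} (c : G)) := by
    intro ξ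
    rw [brauerLam_apply, hBcoeff]
    congr 1
    funext c
    exact truncTo_of_mem _ (show (c : G) ∈ _ from c.2)
  have hrestr' : ∀ ξ : IrrCharacter ↥(Subgroup.centralizer (R : Set G)),
      omega (ξ : ↥(Subgroup.centralizer (R : Set G)) → ℂ)
        (fun c : ↥(Subgroup.centralizer (R : Set G)) => blockCoeff B (c : G)) =
      omega (ξ : ↥(Subgroup.centralizer (R : Set G)) → ℂ)
        (fun c : ↥(Subgroup.centralizer (R : Set G)) => eb K {θ} (c : G)) := by
    intro ξ
    rw [hBcoeff]
  -- existence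
  have hex : IsInducedBlock M (Subgroup.centralizer (R : Set G)) AR B := by
    obtain ⟨ξ, hξ⟩ := isPBlock_nonempty hMp hARblock
    obtain ⟨χ, hχ⟩ := exists_irr_brauerLam hM R (Subgroup.centralizer (R : Set G)) hR le_rfl
      (Subgroup.centralizer_le_normalizer _) ξ.2
    have hind := isInducedBlock_of_brauerLam_centralizer hM R ξ χ hχ
    have h1 := hχ (blockCoeff B) hFcl hFS
    rw [hrestr ξ, hFω χ] at h1
    have h2 := hkey ξ
    rw [if_pos ((hAR_iff ξ).1 hξ), mul_one] at h2
    have hχB : χ ∈ B := by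
      by_contra hχB
      rw [if_neg hχB, sub_zero] at h1
      have h3 := memLocalIdeal_sub hMp h1 h2
      rw [sub_sub_cancel] at h3
      exact hc₀ h3
    rw [eq_blockOf_of_mem hMp hARblock hξ, eq_blockOf_of_mem hMp hB hχB]
    exact hind
  refine ⟨AR, hex, ?_⟩
  intro f hf
  obtain ⟨ξ, hξ⟩ := isPBlock_nonempty hMp hf.1
  obtain ⟨χ, hχ⟩ := isPBlock_nonempty hMp hB
  have h1 := omega_restrict_cong_of_induced hMp (Subgroup.centralizer (R : Set G)) hf hξ hχ
    hFcl hFS
  rw [hFω χ, if_pos hχ, hrestr' ξ] at h1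
  have hξAR : ξ ∈ AR := by
    by_contra hξAR
    have h2 := hkey ξ
    rw [if_neg (fun h => hξAR ((hAR_iff ξ).2 h)), mul_zero, sub_zero] at h2
    have h3 := memLocalIdeal_sub hMp h2 h1
    rw [sub_sub_cancel] at h3
    exact not_memLocalIdeal_one hMp h3
  rw [eq_blockOf_of_mem hMp hf.1 hξ, eq_blockOf_of_mem hMp hARblock hξAR]

end main

end Cfsg.Agent.Lib.Helper8.FG
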