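import Mathlib
import Cfsg.Agent.Lib.Lead.Frattini
import Cfsg.Agent.Lib.Lead.Nilpotent
import Cfsg.Agent.Lib.Helper2.FrattiniSocle
import Cfsg.Agent.Lib.Helper6.Frattini
import Cfsg.Agent.Lib.Helper9.ExtraTransport

set_option autoImplicit false

/-! Bounds for the index of the Frattini subgroup of a finite `p`-group along normal series. -/

namespace Cfsg.Agent.Lib.Helper8.FQ

open scoped commutatorElement

/-- the Frattini index is an isomorphism invariant -/
theorem fidx_congr {P P' : Type*} [Group P] [Group P'] (e : P ≃* P') :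
    (frattini P).index = (frattini P').index := by
  rw [← Cfsg.Agent.Lib.Helper9.frattini_map_mulEquiv e]
  exact (Subgroup.index_map_equiv (frattini P) e).symm

/-- passing to a normal subgroup -/
theorem fidx_le_index_mul {Q : Type*} [Group Q] [Finite Q] (M : Subgroup Q) [M.Normal] :
    (frattini Q).index ≤ M.index * (frattini ↥M).index := by
  have h1 := Cfsg.Agent.Lib.Helper2.FrattiniSocle.frattini_map_subtype_le M
  have h2 : (frattini Q).index ≤ ((frattini ↥M).map M.subtype).index :=
    Nat.le_of_dvd (Nat.pos_of_ne_zero Subgroup.index_ne_zero_of_finite)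
      (Subgroup.index_dvd_of_le h1)
  rw [Subgroup.index_map_subtype] at h2
  rw [mul_comm]; exact h2

/-- the Frattini subgroup of a quotient of a `p`-group is the image of the Frattini subgroup -/
theorem frattini_quotient_le {Q : Type*} [Group Q] [Finite Q] {p : ℕ} [Fact p.Prime]
    (hQ : IsPGroup p Q) (C : Subgroup Q) [C.Normal] :
    frattini (Q ⧸ C) ≤ (frattini Q).map (QuotientGroup.mk' C) := by
  haveI : Group.IsNilpotent Q := hQ.isNilpotent
  apply Cfsg.Agent.Lib.Helper6.frattini_le_of_elemAb (p := p)
  · intro x y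
    obtain ⟨a, rfl⟩ := QuotientGroup.mk_surjective x
    obtain ⟨b, rfl⟩ := QuotientGroup.mk_surjective y
    refine ⟨⁅a, b⁆, ?_, ?_⟩
    · exact Cfsg.Agent.Lib.Helper2.FrattiniSocle.commutator_le_frattini_of_nilpotent
        (Subgroup.commutator_mem_commutator (Subgroup.mem_top a) (Subgroup.mem_top b))
    · simp [commutatorElement_def]
  · intro x
    obtain ⟨a, rfl⟩ := QuotientGroup.mk_surjective x
    exact ⟨a ^ p, Cfsg.Agent.Lib.Lead.pow_mem_frattini_of_isPGroup hQ a, by simp⟩

/-- the Frattini index along a normal subgroup and its quotient -/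
theorem fidx_le_quot_mul {Q : Type*} [Group Q] [Finite Q] {p : ℕ} [Fact p.Prime]
    (hQ : IsPGroup p Q) (C : Subgroup Q) [C.Normal] :
    (frattini Q).index ≤ (frattini (Q ⧸ C)).index * (frattini ↥C).index := by
  set Φ := frattini Q with hΦ
  haveI : Φ.Normal := by rw [hΦ]; infer_instance
  have h1 : Φ.relIndex (C ⊔ Φ) * (C ⊔ Φ).index = Φ.index :=
    Subgroup.relIndex_mul_index le_sup_right
  -- the top part
  have h2 : (C ⊔ Φ).index ≤ (frattini (Q ⧸ C)).index := by
    have h3 : (frattini (Q ⧸ C)).comap (QuotientGroup.mk' C) ≤ C ⊔ Φ := by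
      refine (Subgroup.comap_mono (frattini_quotient_le hQ C)).trans ?_
      rw [Subgroup.comap_map_eq, QuotientGroup.ker_mk', sup_comm]
    have h4 : ((frattini (Q ⧸ C)).comap (QuotientGroup.mk' C)).index
        = (frattini (Q ⧸ C)).index :=
      Subgroup.index_comap_of_surjective _ (QuotientGroup.mk'_surjective C)
    rw [← h4]
    exact Nat.le_of_dvd (Nat.pos_of_ne_zero Subgroup.index_ne_zero_of_finite)
      (Subgroup.index_dvd_of_le h3)
  -- the bottom part
  have h5 : Φ.relIndex (C ⊔ Φ) ≤ (frattini ↥C).index := by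
    rw [Subgroup.relIndex_sup_right]
    have h6 : frattini ↥C ≤ Φ.subgroupOf C := by
      intro x hx
      rw [Subgroup.mem_subgroupOf]
      exact Cfsg.Agent.Lib.Helper2.FrattiniSocle.frattini_map_subtype_le C
        (Subgroup.mem_map_of_mem _ hx)
    exact Nat.le_of_dvd (Nat.pos_of_ne_zero Subgroup.index_ne_zero_of_finite)
      (Subgroup.index_dvd_of_le h6)
  rw [← h1, mul_comm]
  exact Nat.mul_le_mul h2 h5

/-- the hom version -/
theorem fidx_le_range_mul_ker {Q R : Type*} [Group Q] [Finite Q] [Group R] {p : ℕ} [Fact p.Prime]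
    (hQ : IsPGroup p Q) (φ : Q →* R) :
    (frattini Q).index ≤ (frattini ↥φ.range).index * (frattini ↥φ.ker).index := by
  have h := fidx_le_quot_mul hQ φ.ker
  rwa [fidx_congr (QuotientGroup.quotientKerEquivRange φ)] at h

/-- a cyclic `2`-group has Frattini index at most `2` -/
theorem fidx_le_two_of_isCyclic {C : Type*} [Group C] [Finite C] [hc : IsCyclic C]
    (hC : IsPGroup 2 C) : (frattini C).index ≤ 2 := by
  classical
  haveI : Fact (Nat.Prime 2) := ⟨Nat.prime_two⟩
  letI : CommGroup C := IsCyclic.commGroup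
  set f : C →* C := powMonoidHom 2 with hf
  have h1 : f.range ≤ frattini C := by
    rintro _ ⟨x, rfl⟩
    exact Cfsg.Agent.Lib.Lead.pow_mem_frattini_of_isPGroup hC x
  have h2 : (frattini C).index ≤ f.range.index :=
    Nat.le_of_dvd (Nat.pos_of_ne_zero Subgroup.index_ne_zero_of_finite)
      (Subgroup.index_dvd_of_le h1)
  have h3 : f.range.index = Nat.card f.ker := by
    have h4 := Subgroup.card_mul_index f.range
    have h5 := Subgroup.card_mul_index f.ker
    rw [Subgroup.index_ker] at h5
    have h6 : 0 < Nat.card f.range := Nat.card_pos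
    have : Nat.card f.range * f.range.index = Nat.card f.range * Nat.card f.ker := by
      rw [h4, mul_comm, h5]
    exact Nat.eq_of_mul_eq_mul_left h6 this
  have h7 : Nat.card f.ker ≤ 2 := by
    haveI : Fintype C := Fintype.ofFinite C
    have h8 := IsCyclic.card_pow_eq_one_le (α := C) (n := 2) (by norm_num)
    have h9 : Nat.card f.ker = (Finset.univ.filter fun a : C => a ^ 2 = 1).card := by
      rw [Nat.card_eq_fintype_card, Fintype.card_subtype]
      congr 1
      ext a
      simp [hf, MonoidHom.mem_ker]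
    rw [h9]; exact h8
  omega

end Cfsg.Agent.Lib.Helper8.FQ
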