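import Mathlib
import Cfsg.Agent.Lib.Helper8.FQ1

set_option autoImplicit false

/-! Groups of automorphisms of an abelian group and invariant subgroups. -/

namespace Cfsg.Agent.Lib.Helper8.FQ

variable {N : Type*} [CommGroup N]

/-- `N₁` is invariant under the group `P` of automorphisms -/
def Inv (P : Subgroup (MulAut N)) (N₁ : Subgroup N) : Prop :=
  ∀ σ ∈ P, ∀ n ∈ N₁, σ n ∈ N₁

/-- restriction of an automorphism to an invariant subgroup -/
def resAut (N₁ : Subgroup N) (σ : MulAut N) (h1 : ∀ n ∈ N₁, σ n ∈ N₁)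
    (h2 : ∀ n ∈ N₁, σ⁻¹ n ∈ N₁) : MulAut ↥N₁ where
  toFun n := ⟨σ n, h1 n n.2⟩
  invFun n := ⟨σ⁻¹ n, h2 n n.2⟩
  left_inv n := by
    apply Subtype.ext
    show σ⁻¹ (σ n) = n
    exact MulAut.inv_apply_self _ σ n
  right_inv n := by
    apply Subtype.ext
    show σ (σ⁻¹ n) = n
    exact MulAut.apply_inv_self _ σ n
  map_mul' a b := by
    apply Subtype.ext
    show σ (a * b : N) = σ a * σ b
    exact map_mul σ _ _

/-- the restriction homomorphism -/
def resHom (P : Subgroup (MulAut N)) (N₁ : Subgroup N) (h : Inv P N₁) : ↥P →* MulAut ↥N₁ where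
  toFun σ := resAut N₁ σ.1 (h σ.1 σ.2) (h σ.1⁻¹ (P.inv_mem σ.2))
  map_one' := by
    ext n
    rfl
  map_mul' a b := by
    ext n
    rfl

@[simp] theorem resHom_apply (P : Subgroup (MulAut N)) (N₁ : Subgroup N) (h : Inv P N₁)
    (σ : ↥P) (n : ↥N₁) : ((resHom P N₁ h σ) n : N) = σ.1 n := rfl

theorem Inv.map_eq {P : Subgroup (MulAut N)} {N₁ : Subgroup N} (h : Inv P N₁) (σ : MulAut N)
    (hσ : σ ∈ P) : N₁.map (σ : N ≃* N).toMonoidHom = N₁ := by
  apply le_antisymm
  · rintro _ ⟨n, hn, rfl⟩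
    exact h σ hσ n hn
  · intro n hn
    refine ⟨σ⁻¹ n, h σ⁻¹ (P.inv_mem hσ) n hn, ?_⟩
    exact MulAut.apply_inv_self _ σ n

/-- the induced automorphism on the quotient -/
noncomputable def quotHom (P : Subgroup (MulAut N)) (N₁ : Subgroup N) (h : Inv P N₁) :
    ↥P →* MulAut (N ⧸ N₁) where
  toFun σ := QuotientGroup.congr N₁ N₁ σ.1 (h.map_eq σ.1 σ.2)
  map_one' := by
    ext x
    induction x using QuotientGroup.induction_on with
    | H a => rfl
  map_mul' a b := by
    ext x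
    induction x using QuotientGroup.induction_on with
    | H c => rfl

@[simp] theorem quotHom_mk (P : Subgroup (MulAut N)) (N₁ : Subgroup N) (h : Inv P N₁)
    (σ : ↥P) (n : N) : (quotHom P N₁ h σ) (n : N ⧸ N₁) = ((σ.1 n : N) : N ⧸ N₁) := rfl

/-- A `2`-element acting trivially on `N₁` and on `N ⧸ N₁` is trivial when `N` has odd order. -/
theorem eq_one_of_trivial [Finite N] (hodd : Odd (Nat.card N)) (P : Subgroup (MulAut N))
    (hP : IsPGroup 2 P) (N₁ : Subgroup N) (h : Inv P N₁) (σ : ↥P)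
    (h1 : resHom P N₁ h σ = 1) (h2 : quotHom P N₁ h σ = 1) : σ = 1 := by
  obtain ⟨k, hk⟩ := hP σ
  -- `σ` fixes `N₁`
  have hfix : ∀ c ∈ N₁, σ.1 c = c := by
    intro c hc
    have := congrArg (fun τ : MulAut ↥N₁ => ((τ ⟨c, hc⟩ : ↥N₁) : N)) h1
    simpa using this
  have hq : ∀ n : N, n⁻¹ * σ.1 n ∈ N₁ := by
    intro n
    have := congrArg (fun τ : MulAut (N ⧸ N₁) => τ (n : N ⧸ N₁)) h2
    simp only [quotHom_mk, MulAut.one_apply] at this
    have h3 := QuotientGroup.eq.mp this.symm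
    exact h3
  have hpow : ∀ (n : N) (j : ℕ), ((σ.1) ^ j) n = n * (n⁻¹ * σ.1 n) ^ j := by
    intro n j
    obtain ⟨c, hc⟩ : ∃ c, c = n⁻¹ * σ.1 n := ⟨_, rfl⟩
    have hcN : c ∈ N₁ := hc ▸ hq n
    have hσn : σ.1 n = n * c := by rw [hc]; group
    rw [← hc]
    induction j with
    | zero => simp
    | succ j ih =>
      rw [pow_succ', MulAut.mul_apply, ih, map_mul, map_pow, hfix c hcN, hσn, pow_succ]
      rw [mul_assoc, mul_comm c (c ^ j)]
  apply Subtype.ext
  ext n
  show σ.1 n = n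
  have h4 : (σ.1) ^ (2 ^ k) = 1 := by
    have := congrArg Subtype.val hk
    simpa using this
  have h5 := hpow n (2 ^ k)
  rw [h4, MulAut.one_apply] at h5
  have h6 : (n⁻¹ * σ.1 n) ^ (2 ^ k) = 1 := by
    have : n * (n⁻¹ * σ.1 n) ^ (2 ^ k) = n * 1 := by rw [mul_one]; exact h5.symm
    exact mul_left_cancel this
  have h7 : orderOf (n⁻¹ * σ.1 n) ∣ 2 ^ k := orderOf_dvd_of_pow_eq_one h6
  have h8 : orderOf (n⁻¹ * σ.1 n) ∣ Nat.card N := orderOf_dvd_natCard _
  have h9 : orderOf (n⁻¹ * σ.1 n) = 1 := by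
    have hcop : Nat.Coprime (2 ^ k) (Nat.card N) :=
      Nat.Coprime.pow_left k (Nat.coprime_two_left.mpr hodd)
    exact Nat.eq_one_of_dvd_coprimes hcop h7 h8
  rw [orderOf_eq_one_iff] at h9
  have : σ.1 n = n * (n⁻¹ * σ.1 n) := by group
  rw [this, h9, mul_one]

theorem isPGroup_range {Q R : Type*} [Group Q] [Group R] {p : ℕ} (hQ : IsPGroup p Q) (φ : Q →* R) :
    IsPGroup p ↥φ.range := by
  exact hQ.of_surjective φ.rangeRestrict φ.rangeRestrict_surjective

/-- the action of the kernel of the restriction on the quotient is faithful -/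
theorem quot_ker_injective [Finite N] (hodd : Odd (Nat.card N)) (P : Subgroup (MulAut N))
    (hP : IsPGroup 2 P) (N₁ : Subgroup N) (h : Inv P N₁) :
    Function.Injective ((quotHom P N₁ h).comp (resHom P N₁ h).ker.subtype) := by
  rw [injective_iff_map_eq_one]
  intro c hc
  have h1 : resHom P N₁ h c.1 = 1 := c.2
  have h2 : quotHom P N₁ h c.1 = 1 := hc
  exact Subtype.ext (eq_one_of_trivial hodd P hP N₁ h c.1 h1 h2)

/-- Step (i): the Frattini index along an invariant subgroup. -/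
theorem fidx_le_of_inv [Finite N] (hodd : Odd (Nat.card N)) (P : Subgroup (MulAut N))
    (hP : IsPGroup 2 P) (N₁ : Subgroup N) (h : Inv P N₁) (a b : ℕ)
    (ha : ∀ Q : Subgroup (MulAut ↥N₁), IsPGroup 2 Q → (frattini ↥Q).index ≤ a)
    (hb : ∀ Q : Subgroup (MulAut (N ⧸ N₁)), IsPGroup 2 Q → (frattini ↥Q).index ≤ b) :
    (frattini ↥P).index ≤ a * b := by
  haveI : Fact (Nat.Prime 2) := ⟨Nat.prime_two⟩
  haveI : Finite (MulAut N) := Finite.of_injective (fun σ : MulAut N => (σ : N → N))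
    (fun σ τ hh => by ext n; exact congrFun hh n)
  set φ := resHom P N₁ h with hφ
  have h1 := fidx_le_range_mul_ker hP φ
  have h2 : (frattini ↥φ.range).index ≤ a := ha φ.range (isPGroup_range hP φ)
  set ψ := (quotHom P N₁ h).comp φ.ker.subtype with hψ
  have hinj : Function.Injective ψ := quot_ker_injective hodd P hP N₁ h
  have h3 : (frattini ↥φ.ker).index = (frattini ↥ψ.range).index :=
    fidx_congr (MonoidHom.ofInjective hinj)
  have h4 : (frattini ↥ψ.range).index ≤ b :=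
    hb ψ.range (isPGroup_range (hP.to_subgroup φ.ker) ψ)
  calc (frattini ↥P).index ≤ (frattini ↥φ.range).index * (frattini ↥φ.ker).index := h1
    _ ≤ a * b := Nat.mul_le_mul h2 (h3 ▸ h4)

/-- the order bound along an invariant subgroup -/
theorem card_le_of_inv [Finite N] (hodd : Odd (Nat.card N)) (P : Subgroup (MulAut N))
    (hP : IsPGroup 2 P) (N₁ : Subgroup N) (h : Inv P N₁) :
    Nat.card ↥P ≤ Nat.card (MulAut ↥N₁) * Nat.card (MulAut (N ⧸ N₁)) := by
  haveI : Finite (MulAut N) := Finite.of_injective (fun σ : MulAut N => (σ : N → N))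
    (fun σ τ hh => by ext n; exact congrFun hh n)
  haveI : Finite (MulAut ↥N₁) := Finite.of_injective (fun σ : MulAut ↥N₁ => (σ : ↥N₁ → ↥N₁))
    (fun σ τ hh => by ext n; exact congrArg Subtype.val (congrFun hh n))
  haveI : Finite (MulAut (N ⧸ N₁)) :=
    Finite.of_injective (fun σ : MulAut (N ⧸ N₁) => (σ : N ⧸ N₁ → N ⧸ N₁))
    (fun σ τ hh => by ext n; exact congrFun hh n)
  set φ := resHom P N₁ h with hφ
  have h1 : Nat.card ↥P = Nat.card ↥φ.ker * Nat.card ↥φ.range := by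
    have := Subgroup.card_mul_index φ.ker
    rw [Subgroup.index_ker] at this
    exact this.symm
  have h2 : Nat.card ↥φ.range ≤ Nat.card (MulAut ↥N₁) := Subgroup.card_le_card_group _
  have hinj := quot_ker_injective hodd P hP N₁ h
  have h3 : Nat.card ↥φ.ker ≤ Nat.card (MulAut (N ⧸ N₁)) :=
    Nat.card_le_card_of_injective _ hinj
  rw [h1, mul_comm]
  exact Nat.mul_le_mul h2 h3

end Cfsg.Agent.Lib.Helper8.FQ
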