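import Mathlib
import Cfsg.Agent.Lib.Helper8.FQ2

set_option autoImplicit false

/-! The potential function and fixed points of involutory automorphisms. -/

namespace Cfsg.Agent.Lib.Helper8.FQ

/-- the potential function -/
def pot (v : ℕ) : ℕ := if v = 3 then 2 else (v - 1) / 2

theorem pot_mul {a b : ℕ} (ha : Odd a) (hb : Odd b) (ha3 : 3 ≤ a) (hb3 : 3 ≤ b) :
    pot a * pot b ≤ pot (a * b) := by
  obtain ⟨k, rfl⟩ := ha
  obtain ⟨l, rfl⟩ := hb
  have hk : 1 ≤ k := by omega
  have hl : 1 ≤ l := by omega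
  have hab : (2 * k + 1) * (2 * l + 1) ≠ 3 := by nlinarith
  have h1 : ((2 * k + 1) * (2 * l + 1) - 1) / 2 = 2 * k * l + k + l := by
    have : (2 * k + 1) * (2 * l + 1) - 1 = 2 * (2 * k * l + k + l) := by
      have : (2 * k + 1) * (2 * l + 1) = 2 * (2 * k * l + k + l) + 1 := by ring
      omega
    rw [this]; omega
  unfold pot
  rw [if_neg hab, h1]
  have e1 : (2 * k + 1 - 1) / 2 = k := by omega
  have e2 : (2 * l + 1 - 1) / 2 = l := by omega
  rw [e1, e2]
  by_cases h3 : 2 * k + 1 = 3
  · have hk1 : k = 1 := by omega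
    subst hk1
    by_cases h4 : 2 * l + 1 = 3
    · have hl1 : l = 1 := by omega
      subst hl1
      simp
    · rw [if_pos h3, if_neg h4]; nlinarith
  · by_cases h4 : 2 * l + 1 = 3
    · have hl1 : l = 1 := by omega
      subst hl1
      rw [if_neg h3, if_pos h4]; nlinarith
    · rw [if_neg h3, if_neg h4]; nlinarith

theorem pot_sq {w : ℕ} (hw : Odd w) (hw5 : 5 ≤ w) : 2 * (pot w * pot w) ≤ pot (w * w) := by
  obtain ⟨k, rfl⟩ := hw
  have hk : 2 ≤ k := by omega
  have hne : (2 * k + 1) * (2 * k + 1) ≠ 3 := by nlinarith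
  have h3 : 2 * k + 1 ≠ 3 := by omega
  have h1 : ((2 * k + 1) * (2 * k + 1) - 1) / 2 = 2 * k * k + k + k := by
    have : (2 * k + 1) * (2 * k + 1) - 1 = 2 * (2 * k * k + k + k) := by
      have : (2 * k + 1) * (2 * k + 1) = 2 * (2 * k * k + k + k) + 1 := by ring
      omega
    rw [this]; omega
  unfold pot
  rw [if_neg hne, if_neg h3, h1]
  have e1 : (2 * k + 1 - 1) / 2 = k := by omega
  rw [e1]; nlinarith

theorem two_le_pot {v : ℕ} (hv : Odd v) (hv3 : 3 ≤ v) : 2 ≤ pot v := by
  obtain ⟨k, rfl⟩ := hv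
  unfold pot
  split_ifs with h
  · exact le_rfl
  · omega

theorem four_le_pot {v : ℕ} (hv9 : 9 ≤ v) : 4 ≤ pot v := by
  unfold pot
  split_ifs with h
  · omega
  · omega

theorem pot_le {v : ℕ} (hv3 : 3 ≤ v) : pot v ≤ v - 1 := by
  unfold pot
  split_ifs with h
  · omega
  · omega

theorem pot_nine : pot 9 = 4 := by
  unfold pot; norm_num

variable {N : Type*} [CommGroup N]

/-- the fixed points of an automorphism -/
def fixSub (τ : MulAut N) : Subgroup N where
  carrier := {n | τ n = n}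
  one_mem' := map_one τ
  mul_mem' := by
    intro a b ha hb
    show τ (a * b) = a * b
    rw [map_mul, ha, hb]
  inv_mem' := by
    intro a ha
    show τ a⁻¹ = a⁻¹
    rw [map_inv, ha]

theorem mem_fixSub {τ : MulAut N} {n : N} : n ∈ fixSub τ ↔ τ n = n := Iff.rfl

/-- the inverted points of an automorphism -/
def invSub (τ : MulAut N) : Subgroup N where
  carrier := {n | τ n = n⁻¹}
  one_mem' := by
    show τ 1 = 1⁻¹
    rw [map_one, inv_one]
  mul_mem' := by
    intro a b ha hb
    show τ (a * b) = (a * b)⁻¹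
    rw [map_mul, ha, hb, mul_inv]
  inv_mem' := by
    intro a ha
    show τ a⁻¹ = a⁻¹⁻¹
    rw [map_inv, ha]

theorem mem_invSub {τ : MulAut N} {n : N} : n ∈ invSub τ ↔ τ n = n⁻¹ := Iff.rfl

/-- conjugating the fixed points -/
theorem fixSub_conj (τ x : MulAut N) :
    (fixSub τ).map (x : N ≃* N).toMonoidHom = fixSub (x * τ * x⁻¹) := by
  ext n
  constructor
  · rintro ⟨m, hm, rfl⟩
    show (x * τ * x⁻¹) (x m) = x m
    rw [MulAut.mul_apply, MulAut.mul_apply, MulAut.inv_apply_self]
    rw [mem_fixSub.mp hm]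
  · intro hn
    refine ⟨x⁻¹ n, ?_, MulAut.apply_inv_self _ x n⟩
    show τ (x⁻¹ n) = x⁻¹ n
    have h1 : (x * τ * x⁻¹) n = n := hn
    rw [MulAut.mul_apply, MulAut.mul_apply] at h1
    have h2 := congrArg (fun m => x⁻¹ m) h1
    simpa using h2

theorem card_fixSub_conj [Finite N] (τ x : MulAut N) :
    Nat.card ↥(fixSub (x * τ * x⁻¹)) = Nat.card ↥(fixSub τ) := by
  rw [← fixSub_conj]
  exact Subgroup.card_map_of_injective (x : N ≃* N).injective

/-- For an involutory automorphism of an abelian group of odd order, the order is the product of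
the numbers of fixed and inverted points. -/
theorem card_fix_mul_card_inv [Finite N] (hodd : Odd (Nat.card N)) (τ : MulAut N)
    (hτ : τ * τ = 1) : Nat.card ↥(fixSub τ) * Nat.card ↥(invSub τ) = Nat.card N := by
  have hτ2 : ∀ n : N, τ (τ n) = n := fun n => by
    have := congrArg (fun σ : MulAut N => σ n) hτ
    simpa using this
  set θ : N →* N := (MonoidHom.id N) * (τ : N ≃* N).toMonoidHom with hθ
  have hθa : ∀ n, θ n = n * τ n := fun n => rfl
  have hker : θ.ker = invSub τ := by
    ext n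
    rw [MonoidHom.mem_ker, hθa, mem_invSub]
    constructor
    · intro h; exact (eq_inv_of_mul_eq_one_right h)
    · intro h; rw [h, mul_inv_cancel]
  have hrange : θ.range = fixSub τ := by
    apply le_antisymm
    · rintro _ ⟨n, rfl⟩
      rw [mem_fixSub, hθa, map_mul, hτ2, mul_comm]
    · intro c hc
      rw [mem_fixSub] at hc
      obtain ⟨k, hk⟩ := hodd
      refine ⟨c ^ (k + 1), ?_⟩
      rw [hθa, map_pow, hc, ← pow_add]
      have : k + 1 + (k + 1) = Nat.card N + 1 := by omega
      rw [this, pow_succ, pow_card_eq_one', one_mul]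
  have h1 := Subgroup.card_mul_index θ.ker
  rw [Subgroup.index_ker, hker, hrange] at h1
  rw [mul_comm]; exact h1

/-- if the fixed points are trivial, the involution inverts everything -/
theorem inv_of_fixSub_eq_bot (τ : MulAut N) (hτ : τ * τ = 1) (h : fixSub τ = ⊥) (n : N) :
    τ n = n⁻¹ := by
  have hτ2 : τ (τ n) = n := by
    have := congrArg (fun σ : MulAut N => σ n) hτ
    simpa using this
  have h1 : n * τ n ∈ fixSub τ := by
    rw [mem_fixSub, map_mul, hτ2, mul_comm]
  rw [h, Subgroup.mem_bot] at h1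
  exact (eq_inv_of_mul_eq_one_right h1)

theorem invSub_eq_fixSub_mul (τ ζ : MulAut N) (hζ : ∀ n, ζ n = n⁻¹) :
    invSub τ = fixSub (τ * ζ) := by
  ext n
  rw [mem_invSub, mem_fixSub, MulAut.mul_apply, hζ, map_inv]
  constructor
  · intro h; rw [h, inv_inv]
  · intro h; exact inv_eq_iff_eq_inv.mp h

end Cfsg.Agent.Lib.Helper8.FQ
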