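import Mathlib
import Cfsg.Agent.Lib.Helper8.FQ3
import Cfsg.Agent.Lib.Helper1.NoNormalFour2

set_option autoImplicit false

/-! The main induction: `2`-groups of automorphisms of abelian groups of odd order. -/

namespace Cfsg.Agent.Lib.Helper8.FQ

open Cfsg.Agent.Lib.Helper1
open scoped commutatorElement

universe u

/-- a `2`-group without normal four-subgroups -/
theorem fidx_of_no_four {Q : Type*} [Group Q] [Finite Q] (hQ : IsPGroup 2 Q)
    (hV : ∀ V : Subgroup Q, V.Normal → Nat.card V = 4 → (∀ v ∈ V, v ^ 2 = 1) → False) :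
    (frattini Q).index ≤ 4 ∧ ((∀ a b : Q, a * b = b * a) → (frattini Q).index ≤ 2) := by
  obtain ⟨A, hAn, hAc, hAi, hCA⟩ := exists_cyclic_index_le_two hQ hV
  haveI := hAn
  haveI := hAc
  have h1 := fidx_le_index_mul A
  have h2 : (frattini ↥A).index ≤ 2 := fidx_le_two_of_isCyclic (hQ.to_subgroup A)
  constructor
  · calc (frattini Q).index ≤ A.index * (frattini ↥A).index := h1
      _ ≤ 2 * 2 := Nat.mul_le_mul hAi h2
  · intro hab
    have hA : A = ⊤ := by
      rw [← hCA, eq_top_iff]
      intro g _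
      rw [Subgroup.mem_centralizer_iff]
      intro a _
      exact hab a g
    have hidx : A.index = 1 := Subgroup.index_eq_one.mpr hA
    calc (frattini Q).index ≤ A.index * (frattini ↥A).index := h1
      _ ≤ 1 * 2 := by rw [hidx]; exact Nat.mul_le_mul le_rfl h2
      _ = 2 := one_mul 2

theorem finite_mulAut (N : Type*) [Group N] [Finite N] : Finite (MulAut N) :=
  Finite.of_injective (fun σ : MulAut N => (σ : N → N))
    (fun σ τ hh => by ext n; exact congrFun hh n)

theorem mulAut_comm_of_isCyclic (N : Type*) [Group N] [IsCyclic N] (σ τ : MulAut N) :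
    σ * τ = τ * σ := by
  apply (IsCyclic.mulAutMulEquiv N).injective
  rw [map_mul, map_mul, mul_comm]

/-- structure of a four-group -/
theorem mem_four {Q : Type*} [Group Q] (V : Subgroup Q) [Finite V] (hV4 : Nat.card V = 4)
    (hVe : ∀ v ∈ V, v ^ 2 = 1) {e z : Q} (he : e ∈ V) (hz : z ∈ V) (he1 : e ≠ 1) (hz1 : z ≠ 1)
    (hez : e ≠ z) (hc : e * z = z * e) {v : Q} (hv : v ∈ V) :
    v = 1 ∨ v = e ∨ v = z ∨ v = e * z := by
  have hee : e * e = 1 := by rw [← pow_two]; exact hVe e he
  have hzz : z * z = 1 := by rw [← pow_two]; exact hVe z hz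
  set K := fourOf e z hee hzz hc with hK
  have hKV : K ≤ V := by
    intro g hg
    rcases (mem_fourOf e z hee hzz hc g).mp hg with rfl | rfl | rfl | rfl
    · exact V.one_mem
    · exact he
    · exact hz
    · exact V.mul_mem he hz
  have hcard : Nat.card ↥K = 4 := card_fourOf e z hee hzz hc he1 hz1 hez
  have hKeq : K = V := by
    apply Subgroup.eq_of_le_of_card_ge hKV
    rw [hcard, hV4]
  have : v ∈ K := hKeq ▸ hv
  exact (mem_fourOf e z hee hzz hc v).mp this

end Cfsg.Agent.Lib.Helper8.FQ
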