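import Mathlib
import Cfsg.Agent.Lib.Helper8.FQ4

set_option autoImplicit false

/-! Case (ii) of the main induction: a normal four-subgroup. -/

namespace Cfsg.Agent.Lib.Helper8.FQ

open Cfsg.Agent.Lib.Helper1
open scoped commutatorElement

universe u

variable {N : Type u} [CommGroup N] [Finite N]

/-- Case (ii): `P` irreducible on `N` with a normal four-subgroup. -/
theorem case_four (n : ℕ)
    (ih : ∀ m < n, ∀ (N' : Type u) [CommGroup N'] [Finite N'], Nat.card N' = m → Odd m → 1 < m →
      ∀ P' : Subgroup (MulAut N'), IsPGroup 2 P' → (frattini ↥P').index ≤ pot m)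
    (hcard : Nat.card N = n) (hodd : Odd n) (P : Subgroup (MulAut N)) (hP : IsPGroup 2 P)
    (hirr : ∀ N₁ : Subgroup N, Inv P N₁ → N₁ = ⊥ ∨ N₁ = ⊤)
    (V : Subgroup ↥P) (hVn : V.Normal) (hV4 : Nat.card V = 4) (hVe : ∀ v ∈ V, v ^ 2 = 1) :
    (frattini ↥P).index ≤ pot n := by
  classical
  haveI := hVn
  haveI : Finite (MulAut N) := finite_mulAut N
  haveI : Fact (Nat.Prime 2) := ⟨Nat.prime_two⟩
  haveI : Group.IsNilpotent ↥P := hP.isNilpotent
  have hoddN : Odd (Nat.card N) := hcard ▸ hodd
  -- a central involution of `V`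
  have hVne : V ≠ ⊥ := by
    intro h
    rw [h, Subgroup.card_bot] at hV4
    omega
  obtain ⟨⟨z, hz⟩, hz1⟩ := (Subgroup.ne_bot_iff_exists_ne_one).mp
    (Cfsg.Agent.Lib.Lead.inf_center_ne_bot V hVne)
  have hz1' : z ≠ 1 := fun h => hz1 (Subtype.ext h)
  have hzV : z ∈ V := hz.1
  have hzc : ∀ g : ↥P, g * z = z * g := fun g => Subgroup.mem_center_iff.mp hz.2 g
  have hzz : z * z = 1 := by rw [← pow_two]; exact hVe z hzV
  have hzz' : z.1 * z.1 = 1 := by
    have := congrArg Subtype.val hzz
    simpa using this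
  -- `z` inverts `N`
  have hzfix : fixSub z.1 = ⊥ := by
    have hinv : Inv P (fixSub z.1) := by
      intro σ hσ m hm
      rw [mem_fixSub] at hm ⊢
      have h1 := congrArg Subtype.val (hzc ⟨σ, hσ⟩)
      have h2 : σ * z.1 = z.1 * σ := by simpa using h1
      have h3 := congrArg (fun τ : MulAut N => τ m) h2
      simp only [MulAut.mul_apply] at h3
      rw [← h3, hm]
    rcases hirr _ hinv with h | h
    · exact h
    · exfalso
      apply hz1'
      apply Subtype.ext
      ext m
      have : m ∈ fixSub z.1 := by rw [h]; exact Subgroup.mem_top m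
      exact this
  have hzinv : ∀ m : N, z.1 m = m⁻¹ := inv_of_fixSub_eq_bot z.1 hzz' hzfix
  -- a second involution
  obtain ⟨e, heV, he1, hez⟩ : ∃ e ∈ V, e ≠ 1 ∧ e ≠ z := by
    by_contra hcon
    push Not at hcon
    have hinj : Function.Injective (fun v : ↥V => decide ((v : ↥P) = 1)) := by
      intro a b hab
      simp only [decide_eq_decide] at hab
      by_cases ha : (a : ↥P) = 1
      · exact Subtype.ext (ha.trans (hab.mp ha).symm)
      · have hb : (b : ↥P) ≠ 1 := fun hb => ha (hab.mpr hb)
        have ha' : (a : ↥P) = z := by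
          by_contra h; exact h (hcon a a.2 ha)
        have hb' : (b : ↥P) = z := by
          by_contra h; exact h (hcon b b.2 hb)
        exact Subtype.ext (ha'.trans hb'.symm)
    have := Nat.card_le_card_of_injective _ hinj
    rw [hV4, Nat.card_eq_fintype_card, Fintype.card_bool] at this
    omega
  have hee : e * e = 1 := by rw [← pow_two]; exact hVe e heV
  have hee' : e.1 * e.1 = 1 := by
    have := congrArg Subtype.val hee
    simpa using this
  have hezc : e * z = z * e := hzc e
  -- conjugates of `e`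
  have hconj : ∀ b : ↥P, b * e * b⁻¹ = e ∨ b * e * b⁻¹ = e * z := by
    intro b
    have hmem : b * e * b⁻¹ ∈ V := hVn.conj_mem e heV b
    rcases mem_four V hV4 hVe heV hzV he1 hz1' hez hezc hmem with h | h | h | h
    · exfalso
      apply he1
      have : e = b⁻¹ * (b * e * b⁻¹) * b := by group
      rw [this, h]; group
    · exact Or.inl h
    · exfalso
      apply hez
      have : e = b⁻¹ * (b * e * b⁻¹) * b := by group
      rw [this, h, mul_assoc, ← hzc b]; group
    · exact Or.inr h
  -- the fixed points of `e`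
  set W := fixSub e.1 with hW
  have hWtop : W ≠ ⊤ := by
    intro h
    apply he1
    apply Subtype.ext
    ext m
    have : m ∈ fixSub e.1 := by rw [← hW, h]; exact Subgroup.mem_top m
    exact this
  have hWbot : W ≠ ⊥ := by
    intro h
    apply hez
    apply Subtype.ext
    ext m
    rw [inv_of_fixSub_eq_bot e.1 hee' h m, hzinv m]
  have hWinv : ¬ Inv P W := by
    intro h
    rcases hirr W h with h1 | h1
    · exact hWbot h1
    · exact hWtop h1
  obtain ⟨x, hx⟩ : ∃ x : ↥P, x * e * x⁻¹ = e * z := by
    unfold Inv at hWinv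
    push Not at hWinv
    obtain ⟨σ, hσ, m, hm, hσm⟩ := hWinv
    refine ⟨⟨σ, hσ⟩, ?_⟩
    rcases hconj ⟨σ, hσ⟩ with h | h
    · exfalso
      apply hσm
      have h1 : σ m ∈ (fixSub e.1).map (σ : N ≃* N).toMonoidHom := ⟨m, hm, rfl⟩
      rw [fixSub_conj] at h1
      have h2 : σ * e.1 * σ⁻¹ = e.1 := by
        have := congrArg Subtype.val h
        simpa using this
      rw [h2] at h1
      exact h1
    · exact h
  -- the centralizer of `e`
  set M := Subgroup.centralizer ({e} : Set ↥P) with hM
  have hmemM : ∀ b : ↥P, b ∈ M ↔ b * e * b⁻¹ = e := by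
    intro b
    rw [hM, Subgroup.mem_centralizer_singleton_iff]
    constructor
    · intro h; rw [h]; group
    · intro h
      have : b * e = b * e * b⁻¹ * b := by group
      rw [this, h]
  have hezne : e * z ≠ e := by
    intro h
    apply hz1'
    have := mul_left_cancel (a := e) (b := z) (c := 1) (by rw [mul_one]; exact h)
    exact this
  have hMidx : M.index = 2 := by
    rw [Subgroup.index_eq_two_iff]
    refine ⟨x, fun b => ?_⟩
    have hbx : b * x * e * (b * x)⁻¹ = b * e * b⁻¹ * z := by
      have : b * x * e * (b * x)⁻¹ = b * (x * e * x⁻¹) * b⁻¹ := by group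
      rw [this, hx]
      have : b * (e * z) * b⁻¹ = b * e * (z * b⁻¹) := by group
      rw [this, ← hzc b⁻¹]; group
    rcases hconj b with h | h
    · -- `b ∈ M`
      right
      refine ⟨(hmemM b).mpr h, ?_⟩
      rw [hmemM, hbx, h]
      exact hezne
    · left
      refine ⟨?_, ?_⟩
      · rw [hmemM, hbx, h, mul_assoc, hzz, mul_one]
      · rw [hmemM, h]; exact hezne
  haveI hMn : M.Normal := Subgroup.normal_of_index_eq_two hMidx
  -- pass to a subgroup of `MulAut N`
  set M' : Subgroup (MulAut N) := M.map P.subtype with hM'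
  have hPM' : IsPGroup 2 ↥M' := by
    have h1 : IsPGroup 2 ↥M := hP.to_subgroup M
    exact h1.of_equiv (M.equivMapOfInjective P.subtype P.subtype_injective)
  have hinvM : Inv M' W := by
    rintro σ ⟨b, hb, rfl⟩ m hm
    rw [hW, mem_fixSub] at hm ⊢
    have h1 : b * e = e * b := by
      have := (hmemM b).mp hb
      have h2 : b * e = b * e * b⁻¹ * b := by group
      rw [h2, this]
    have h2 : b.1 * e.1 = e.1 * b.1 := by
      have := congrArg Subtype.val h1
      simpa using this
    have h3 := congrArg (fun τ : MulAut N => τ m) h2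
    simp only [MulAut.mul_apply] at h3
    show e.1 (b.1 m) = b.1 m
    rw [← h3, hm]
  -- the orders
  set w := Nat.card ↥W with hw
  have hww : w * w = n := by
    have h1 := card_fix_mul_card_inv hoddN e.1 hee'
    rw [invSub_eq_fixSub_mul e.1 z.1 hzinv] at h1
    have h2 : e.1 * z.1 = x.1 * e.1 * x.1⁻¹ := by
      have := congrArg Subtype.val hx
      simpa using this.symm
    rw [h2, card_fixSub_conj, hcard] at h1
    exact h1
  have hwidx : W.index = w := by
    have h1 := Subgroup.card_mul_index W
    rw [hcard, ← hww] at h1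
    have hwpos : 0 < w := Nat.card_pos
    exact Nat.eq_of_mul_eq_mul_left hwpos h1
  have hwq : Nat.card (N ⧸ W) = w := by rw [← hwidx]; rfl
  have hw1 : 1 < w := W.one_lt_card_iff_ne_bot.mpr hWbot
  have hwodd : Odd w := by
    rw [← hww] at hodd
    exact (Nat.odd_mul.mp hodd).1
  have hwn : w < n := by rw [← hww]; nlinarith
  have hw3 : 3 ≤ w := by
    obtain ⟨k, hk⟩ := hwodd
    omega
  -- the bound for `M`
  have hM1 : (frattini ↥M').index ≤ pot w * pot w :=
    fidx_le_of_inv hoddN M' hPM' W hinvM (pot w) (pot w)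
      (fun Q hQ => ih w hwn ↥W rfl hwodd hw1 Q hQ)
      (fun Q hQ => ih w hwn (N ⧸ W) hwq hwodd hw1 Q hQ)
  have hM2 : (frattini ↥M).index = (frattini ↥M').index :=
    fidx_congr (M.equivMapOfInjective P.subtype P.subtype_injective)
  have hP1 : (frattini ↥P).index ≤ 2 * (frattini ↥M).index := by
    have := fidx_le_index_mul M
    rwa [hMidx] at this
  by_cases hw5 : 5 ≤ w
  · calc (frattini ↥P).index ≤ 2 * (frattini ↥M).index := hP1
      _ ≤ 2 * (pot w * pot w) := by rw [hM2]; exact Nat.mul_le_mul le_rfl hM1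
      _ ≤ pot (w * w) := pot_sq hwodd hw5
      _ = pot n := by rw [hww]
  · -- `w = 3`
    have hw3' : w = 3 := by
      obtain ⟨k, hk⟩ := hwodd
      omega
    have hn9 : n = 9 := by rw [← hww, hw3']
    rw [hn9, pot_nine]
    haveI : Fact (Nat.Prime 3) := ⟨Nat.prime_three⟩
    haveI hcW : IsCyclic ↥W := isCyclic_of_prime_card (p := 3) (hw3' ▸ hw.symm ▸ rfl)
    haveI hcQ : IsCyclic (N ⧸ W) := isCyclic_of_prime_card (p := 3) (hw3' ▸ hwq)
    have hcM' : Nat.card ↥M' ≤ 4 := by
      have h1 := card_le_of_inv hoddN M' hPM' W hinvM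
      have h2 : Nat.card (MulAut ↥W) = 2 := by
        rw [IsCyclic.card_mulAut, ← hw, hw3']; rfl
      have h3 : Nat.card (MulAut (N ⧸ W)) = 2 := by
        rw [IsCyclic.card_mulAut, hwq, hw3']; rfl
      rw [h2, h3] at h1
      exact h1
    have hcM : Nat.card ↥M ≤ 4 := by
      rw [Nat.card_congr (M.equivMapOfInjective P.subtype P.subtype_injective).toEquiv]
      exact hcM'
    have hcP : Nat.card ↥P ≤ 8 := by
      have h1 := Subgroup.card_mul_index M
      rw [hMidx] at h1
      omega
    -- `z` lies in the Frattini subgroup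
    have hzΦ : z ∈ frattini ↥P := by
      apply Cfsg.Agent.Lib.Helper2.FrattiniSocle.commutator_le_frattini_of_nilpotent
      have : z = ⁅e⁻¹, x⁆ := by
        rw [commutatorElement_def, inv_inv]
        have : e⁻¹ * x * e * x⁻¹ = e⁻¹ * (x * e * x⁻¹) := by group
        rw [this, hx]; group
      rw [this]
      exact Subgroup.commutator_mem_commutator (Subgroup.mem_top _) (Subgroup.mem_top _)
    have hΦ2 : 2 ≤ Nat.card ↥(frattini ↥P) := by
      have : frattini ↥P ≠ ⊥ := by
        intro h
        rw [h, Subgroup.mem_bot] at hzΦ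
        exact hz1' hzΦ
      exact (frattini ↥P).one_lt_card_iff_ne_bot.mpr this
    have h5 := Subgroup.card_mul_index (frattini ↥P)
    by_contra hcon
    push Not at hcon
    have : 2 * 5 ≤ Nat.card ↥(frattini ↥P) * (frattini ↥P).index :=
      Nat.mul_le_mul hΦ2 hcon
    omega

end Cfsg.Agent.Lib.Helper8.FQ
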