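import Mathlib
import Cfsg.Agent.Lib.Helper8.FQ5

set_option autoImplicit false

/-! The main theorem: a `2`-group of automorphisms of an abelian group `N ≠ 1` of odd order has
Frattini index at most `pot (card N) ≤ card N - 1`. -/

namespace Cfsg.Agent.Lib.Helper8.FQ

open Cfsg.Agent.Lib.Helper1

universe u

theorem main (n : ℕ) : ∀ (N : Type u) [CommGroup N] [Finite N], Nat.card N = n → Odd n → 1 < n →
    ∀ P : Subgroup (MulAut N), IsPGroup 2 P → (frattini ↥P).index ≤ pot n := by
  induction n using Nat.strong_induction_on with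
  | _ n ih =>
  intro N _ _ hcard hodd hn1 P hP
  haveI : Finite (MulAut N) := finite_mulAut N
  have hoddN : Odd (Nat.card N) := hcard ▸ hodd
  by_cases hred : ∃ N₁ : Subgroup N, N₁ ≠ ⊥ ∧ N₁ ≠ ⊤ ∧ Inv P N₁
  · -- the reducible case
    obtain ⟨N₁, hb, ht, hinv⟩ := hred
    have hmul : Nat.card ↥N₁ * N₁.index = n := by
      rw [← hcard]; exact Subgroup.card_mul_index N₁
    obtain ⟨a', ha'⟩ : ∃ a', a' = Nat.card ↥N₁ := ⟨_, rfl⟩
    obtain ⟨b', hb'⟩ : ∃ b', b' = N₁.index := ⟨_, rfl⟩
    rw [← ha', ← hb'] at hmul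
    have hbq : Nat.card (N ⧸ N₁) = b' := by rw [hb']; rfl
    have ha1 : 1 < a' := by rw [ha']; exact N₁.one_lt_card_iff_ne_bot.mpr hb
    have hb1 : 1 < b' := by
      have h0 : N₁.index ≠ 0 := Subgroup.index_ne_zero_of_finite
      have h1 : N₁.index ≠ 1 := fun h => ht (Subgroup.index_eq_one.mp h)
      omega
    have hab : Odd a' ∧ Odd b' := by
      rw [← hmul] at hodd
      exact Nat.odd_mul.mp hodd
    have han : a' < n := by rw [← hmul]; nlinarith
    have hbn : b' < n := by rw [← hmul]; nlinarith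
    have h1 := fidx_le_of_inv hoddN P hP N₁ hinv (pot a') (pot b')
      (fun Q hQ => ih a' han ↥N₁ ha'.symm hab.1 ha1 Q hQ)
      (fun Q hQ => ih b' hbn (N ⧸ N₁) hbq hab.2 hb1 Q hQ)
    have ha3 : 3 ≤ a' := by
      obtain ⟨k, hk⟩ := hab.1
      omega
    have hb3 : 3 ≤ b' := by
      obtain ⟨k, hk⟩ := hab.2
      omega
    calc (frattini ↥P).index ≤ pot a' * pot b' := h1
      _ ≤ pot (a' * b') := pot_mul hab.1 hab.2 ha3 hb3
      _ = pot n := by rw [hmul]
  · -- the irreducible case
    have hirr : ∀ N₁ : Subgroup N, Inv P N₁ → N₁ = ⊥ ∨ N₁ = ⊤ := by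
      intro N₁ h
      by_contra hcon
      push Not at hcon
      exact hred ⟨N₁, hcon.1, hcon.2, h⟩
    by_cases hfour : ∃ V : Subgroup ↥P, V.Normal ∧ Nat.card V = 4 ∧ ∀ v ∈ V, v ^ 2 = 1
    · obtain ⟨V, hVn, hV4, hVe⟩ := hfour
      exact case_four n ih hcard hodd P hP hirr V hVn hV4 hVe
    · have hV : ∀ V : Subgroup ↥P, V.Normal → Nat.card V = 4 → (∀ v ∈ V, v ^ 2 = 1) → False :=
        fun V h1 h2 h3 => hfour ⟨V, h1, h2, h3⟩
      obtain ⟨h4, h2⟩ := fidx_of_no_four hP hV
      by_cases hn9 : 9 ≤ n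
      · exact h4.trans (four_le_pot hn9)
      · -- `n` is a prime
        have hn3 : 3 ≤ n := by
          obtain ⟨k, hk⟩ := hodd
          omega
        have hprime : n.Prime := by
          obtain ⟨k, hk⟩ := hodd
          have : n = 3 ∨ n = 5 ∨ n = 7 := by omega
          rcases this with h | h | h <;> rw [h] <;> norm_num
        haveI : Fact n.Prime := ⟨hprime⟩
        haveI : IsCyclic N := isCyclic_of_prime_card (p := n) hcard
        have hcomm : ∀ a b : ↥P, a * b = b * a := by
          intro a b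
          apply Subtype.ext
          simp only [Subgroup.coe_mul]
          exact mulAut_comm_of_isCyclic N a.1 b.1
        exact (h2 hcomm).trans (two_le_pot hodd hn3)

/-- the version for a group acting through an injective homomorphism -/
theorem main_hom {N Q : Type*} [CommGroup N] [Finite N] [Group Q] (hodd : Odd (Nat.card N))
    (h1 : 1 < Nat.card N) (hQ : IsPGroup 2 Q) (ρ : Q →* MulAut N) (hρ : Function.Injective ρ) :
    (frattini Q).index ≤ Nat.card N - 1 := by
  have h2 := main (Nat.card N) N rfl hodd h1 ρ.range (isPGroup_range hQ ρ)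
  rw [fidx_congr (MonoidHom.ofInjective hρ)]
  have h3 : 3 ≤ Nat.card N := by
    obtain ⟨k, hk⟩ := hodd
    omega
  exact h2.trans (pot_le h3)

end Cfsg.Agent.Lib.Helper8.FQ
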