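import Mathlib

/-!
# Coninvolutory matrices

A complex square matrix `M` with `M * conj M = 1` can be written as `T * (conj T)⁻¹`, in the form
`M * conj T = T` with `T` invertible.
-/

set_option autoImplicit false

namespace Cfsg.Agent.Lib.Helper8

open scoped ComplexConjugate
open Matrix Polynomial

/-- entrywise complex conjugation, as a ring homomorphism of the matrix ring -/
noncomputable def cj (n : ℕ) : Matrix (Fin n) (Fin n) ℂ →+* Matrix (Fin n) (Fin n) ℂ :=
  (starRingEnd ℂ).mapMatrix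

theorem cj_apply {n : ℕ} (M : Matrix (Fin n) (Fin n) ℂ) (i j : Fin n) :
    cj n M i j = conj (M i j) := rfl

theorem cj_cj {n : ℕ} (M : Matrix (Fin n) (Fin n) ℂ) : cj n (cj n M) = M := by
  ext i j
  simp [cj_apply]

theorem cj_smul {n : ℕ} (c : ℂ) (M : Matrix (Fin n) (Fin n) ℂ) :
    cj n (c • M) = conj c • cj n M := by
  ext i j
  simp [cj_apply]

theorem cj_transpose {n : ℕ} (M : Matrix (Fin n) (Fin n) ℂ) : cj n Mᵀ = Mᴴ := by
  ext i j
  simp [cj_apply, Matrix.conjTranspose_apply]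

theorem cj_conjTranspose {n : ℕ} (M : Matrix (Fin n) (Fin n) ℂ) : cj n Mᴴ = Mᵀ := by
  ext i j
  simp [cj_apply, Matrix.conjTranspose_apply]

theorem cj_injective {n : ℕ} : Function.Injective (cj n) := by
  intro A B h
  rw [← cj_cj A, h, cj_cj]

/-- a root of unity which is not an eigenvalue of `-M` -/
theorem exists_root_of_unity_det_ne {n : ℕ} (M : Matrix (Fin n) (Fin n) ℂ) :
    ∃ z : ℂ, ‖z‖ = 1 ∧ (z • (1 : Matrix (Fin n) (Fin n) ℂ) + M).det ≠ 0 := by
  classical
  set p := (-M).charpoly with hp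
  have hp0 : p ≠ 0 := (Matrix.charpoly_monic _).ne_zero
  have hdeg : p.natDegree = n := by
    rw [hp, Matrix.charpoly_natDegree_eq_dim, Fintype.card_fin]
  have hprim := Complex.isPrimitiveRoot_exp (n + 1) (Nat.succ_ne_zero n)
  have hcard := hprim.card_nthRootsFinset
  have hlt : p.roots.toFinset.card < (Polynomial.nthRootsFinset (n + 1) (1 : ℂ)).card := by
    rw [hcard]
    calc p.roots.toFinset.card ≤ Multiset.card p.roots := Multiset.toFinset_card_le _
      _ ≤ p.natDegree := Polynomial.card_roots' p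
      _ = n := hdeg
      _ < n + 1 := Nat.lt_succ_self n
  obtain ⟨z, hz, hz'⟩ := Finset.exists_mem_notMem_of_card_lt_card hlt
  refine ⟨z, ?_, ?_⟩
  · have := (Polynomial.mem_nthRootsFinset (Nat.succ_pos n) (1 : ℂ)).1 hz
    exact Complex.norm_eq_one_of_pow_eq_one this (Nat.succ_ne_zero n)
  · intro hdet
    apply hz'
    rw [Multiset.mem_toFinset, Polynomial.mem_roots hp0, Polynomial.IsRoot.def, hp,
      Matrix.eval_charpoly]
    rw [← hdet]
    congr 1
    ext i j
    simp [Matrix.scalar_apply, Matrix.diagonal_apply, Matrix.one_apply]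

/-- **Coninvolutory matrices**: if `M * conj M = 1` then `M * conj T = T` for some invertible `T`. -/
theorem exists_conj_fix {n : ℕ} (M : Matrix (Fin n) (Fin n) ℂ) (h : M * cj n M = 1) :
    ∃ T : Matrix (Fin n) (Fin n) ℂ, IsUnit T ∧ M * cj n T = T := by
  obtain ⟨z, hz, hdet⟩ := exists_root_of_unity_det_ne M
  obtain ⟨μ, hμ⟩ := IsAlgClosed.exists_pow_nat_eq z (n := 2) (by norm_num)
  have hμn : ‖μ‖ = 1 := by
    have h1 : ‖μ‖ ^ 2 = 1 := by rw [← norm_pow, hμ, hz]
    have h2 : (‖μ‖ - 1) * (‖μ‖ + 1) = 0 := by linear_combination h1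
    rcases mul_eq_zero.1 h2 with h3 | h3
    · linarith
    · have := norm_nonneg μ
      linarith
  have hμc : μ * conj μ = 1 := by
    rw [Complex.mul_conj, Complex.normSq_eq_norm_sq, hμn]
    simp
  have hμ0 : conj μ ≠ 0 := by
    intro h0
    rw [h0, mul_zero] at hμc
    exact zero_ne_one hμc
  refine ⟨μ • (1 : Matrix (Fin n) (Fin n) ℂ) + conj μ • M, ?_, ?_⟩
  · have h1 : μ • (1 : Matrix (Fin n) (Fin n) ℂ) + conj μ • M
        = conj μ • (z • (1 : Matrix (Fin n) (Fin n) ℂ) + M) := by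
      rw [smul_add, smul_smul, ← hμ]
      congr 2
      calc μ = μ * (μ * conj μ) := by rw [hμc, mul_one]
        _ = conj μ * μ ^ 2 := by ring
    rw [h1, Matrix.isUnit_iff_isUnit_det, Matrix.det_smul]
    exact (IsUnit.mk0 _ (pow_ne_zero _ hμ0)).mul (IsUnit.mk0 _ hdet)
  · rw [map_add, cj_smul, cj_smul, map_one, Matrix.mul_add, Matrix.mul_smul, Matrix.mul_smul,
      Matrix.mul_one, h, Complex.conj_conj, add_comm]

end Cfsg.Agent.Lib.Helper8
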