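import Mathlib
import Cfsg.Agent.S4475
import Cfsg.Agent.Lib.Helper8.RF1

/-!
# A real representation has indicator one
-/

set_option autoImplicit false

namespace Cfsg.Agent.Lib.Helper8

open scoped ComplexConjugate
open Matrix Cfsg.Agent.Lib.Helper4 Cfsg.Agent.Lib.Helper1 Cfsg.Agent.S4475

section

variable {G : Type*} [Group G] [Fintype G] {n : ℕ}

/-- the averaged intertwiner between a matrix representation `A` and `ρ` -/
noncomputable def avgTw (ρ : Representation ℂ G (Fin n → ℂ)) (A : G → Matrix (Fin n) (Fin n) ℂ)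
    (X : Matrix (Fin n) (Fin n) ℂ) : Matrix (Fin n) (Fin n) ℂ :=
  ∑ g : G, A g * X * repMat ρ g⁻¹

theorem avgTw_comm (ρ : Representation ℂ G (Fin n → ℂ)) (A : G → Matrix (Fin n) (Fin n) ℂ)
    (hA : ∀ g h : G, A (g * h) = A g * A h) (X : Matrix (Fin n) (Fin n) ℂ) (h : G) :
    A h * avgTw ρ A X = avgTw ρ A X * repMat ρ h := by
  unfold avgTw
  rw [Finset.mul_sum, Finset.sum_mul]
  apply Fintype.sum_equiv (Equiv.mulLeft h)
  intro g
  simp only [Equiv.coe_mulLeft]
  have h1 : repMat ρ (h * g)⁻¹ * repMat ρ h = repMat ρ g⁻¹ := by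
    rw [← repMat_mul, _root_.mul_inv_rev, inv_mul_cancel_right]
  rw [hA, Matrix.mul_assoc (A h * A g * X), h1]
  simp only [Matrix.mul_assoc]

theorem avgTw_single_apply (ρ : Representation ℂ G (Fin n → ℂ))
    (A : G → Matrix (Fin n) (Fin n) ℂ) (i j k l : Fin n) :
    avgTw ρ A (Matrix.single i j 1) k l = ∑ g : G, A g k i * repMat ρ g⁻¹ j l := by
  unfold avgTw
  rw [Matrix.sum_apply]
  apply Finset.sum_congr rfl
  intro g _
  rw [Matrix.mul_apply]
  simp only [Matrix.mul_apply, Matrix.single_apply]
  rw [Finset.sum_eq_single j]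
  · rw [Finset.sum_eq_single i]
    · simp
    · intro b _ hb
      simp [Ne.symm hb]
    · simp
  · intro b _ hb
    have : ∀ x : Fin n, ¬ (i = x ∧ j = b) := fun x hx => hb hx.2.symm
    simp [this]
  · simp

theorem sum_avgTw_diag (ρ : Representation ℂ G (Fin n → ℂ))
    (A : G → Matrix (Fin n) (Fin n) ℂ) :
    ∑ i, ∑ j, avgTw ρ A (Matrix.single i j 1) i j
      = ∑ g : G, (A g).trace * ρ.character g⁻¹ := by
  simp only [avgTw_single_apply]
  have : ∀ g : G, (A g).trace * ρ.character g⁻¹
      = ∑ i, ∑ j, A g i i * repMat ρ g⁻¹ j j := by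
    intro g
    rw [character_eq_trace_repMat, Matrix.trace, Matrix.trace, Finset.sum_mul_sum]
    rfl
  simp only [this]
  rw [Finset.sum_comm (s := (Finset.univ : Finset G))]
  apply Finset.sum_congr rfl
  intro i _
  rw [Finset.sum_comm]

/-- a nonzero intertwiner from an irreducible representation of the same degree is invertible -/
theorem isUnit_of_intertwine (ρ : Representation ℂ G (Fin n → ℂ)) [hirr : ρ.IsIrreducible]
    (A : G → Matrix (Fin n) (Fin n) ℂ) (T : Matrix (Fin n) (Fin n) ℂ) (hT : T ≠ 0)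
    (hcomm : ∀ g : G, A g * T = T * repMat ρ g) : IsUnit T := by
  let W : Subrepresentation ρ :=
    { toSubmodule := LinearMap.ker (Matrix.toLin' T)
      apply_mem_toSubmodule := by
        intro g v hv
        rw [LinearMap.mem_ker, Matrix.toLin'_apply] at hv ⊢
        rw [rho_apply_eq, Matrix.mulVec_mulVec, ← hcomm g, ← Matrix.mulVec_mulVec,
          hv, Matrix.mulVec_zero] }
  rcases eq_bot_or_eq_top W with h | h
  · have hker : LinearMap.ker (Matrix.toLin' T) = ⊥ := by
      have := congrArg Subrepresentation.toSubmodule h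
      exact this
    rw [LinearMap.ker_eq_bot] at hker
    rw [← Matrix.mulVec_injective_iff_isUnit]
    intro v w hvw
    apply hker
    rw [Matrix.toLin'_apply, Matrix.toLin'_apply]
    exact hvw
  · exfalso
    apply hT
    have hker : LinearMap.ker (Matrix.toLin' T) = ⊤ := by
      have := congrArg Subrepresentation.toSubmodule h
      exact this
    rw [LinearMap.ker_eq_top] at hker
    have := congrArg LinearMap.toMatrix' hker
    rw [LinearMap.toMatrix'_toLin'] at this
    rw [this]
    simp

/-- A complex matrix representation `A` with the character of the irreducible `ρ` is equivalent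
to `ρ`. -/
theorem exists_intertwiner (ρ : Representation ℂ G (Fin n → ℂ)) [hirr : ρ.IsIrreducible]
    (A : G → Matrix (Fin n) (Fin n) ℂ) (hA : ∀ g h : G, A (g * h) = A g * A h)
    (htr : ∀ g : G, (A g).trace = ρ.character g) :
    ∃ T : Matrix (Fin n) (Fin n) ℂ, IsUnit T ∧ ∀ g : G, A g * T = T * repMat ρ g := by
  have hχ : IsIrrCharacter G ρ.character := ⟨n, ρ, hirr, rfl⟩
  have hne : (Nat.card G : ℂ) ≠ 0 := by
    exact_mod_cast Nat.card_pos.ne'
  have hsum : ∑ g : G, (A g).trace * ρ.character g⁻¹ = (Nat.card G : ℂ) := by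
    have h1 := classInner_irr_self hχ
    rw [classInner_def] at h1
    have h2 : ∑ g : G, (A g).trace * ρ.character g⁻¹
        = ∑ g : G, ρ.character g * conj (ρ.character g) := by
      apply Finset.sum_congr rfl
      intro g _
      rw [htr, character_inv]
    rw [h2]
    field_simp at h1
    exact h1
  have hex : ∃ i j, avgTw ρ A (Matrix.single i j 1) ≠ 0 := by
    by_contra hcon
    push Not at hcon
    have h1 := sum_avgTw_diag ρ A
    rw [hsum] at h1
    apply hne
    rw [← h1]
    apply Finset.sum_eq_zero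
    intro i _
    apply Finset.sum_eq_zero
    intro j _
    rw [hcon i j]
    rfl
  obtain ⟨i, j, hij⟩ := hex
  exact ⟨_, isUnit_of_intertwine ρ A _ hij (fun g => avgTw_comm ρ A hA _ g),
    fun g => avgTw_comm ρ A hA _ g⟩

end

end Cfsg.Agent.Lib.Helper8
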