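import Mathlib
import Cfsg.Prelude.Def_Characters
import Cfsg.Agent.Lib.Helper8.RF4

/-!
# Orthogonality of matrix coefficients of inequivalent representations
-/

set_option autoImplicit false

namespace Cfsg.Agent.Lib.Helper8.FSI

open Cfsg
open scoped ComplexConjugate
open Matrix Cfsg.Agent.Lib.Helper4 Cfsg.Agent.Lib.Helper1 Cfsg.Agent.Lib.Helper8 Cfsg.Agent.S4475

section

variable {N : Type*} [Group N] [Fintype N] {d : ℕ}

/-- The averaged intertwiner vanishes when the traces differ somewhere. -/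
theorem avgTw_eq_zero (τ : Representation ℂ N (Fin d → ℂ)) [hirr : τ.IsIrreducible]
    (A : N → Matrix (Fin d) (Fin d) ℂ) (hA : ∀ g h : N, A (g * h) = A g * A h)
    (hne : ∃ n : N, (A n).trace ≠ τ.character n) (X : Matrix (Fin d) (Fin d) ℂ) :
    avgTw τ A X = 0 := by
  by_contra h0
  have hcomm := avgTw_comm τ A hA X
  have hu := isUnit_of_intertwine τ A (avgTw τ A X) h0 hcomm
  obtain ⟨n, hn⟩ := hne
  apply hn
  have hdet : IsUnit (avgTw τ A X).det := (Matrix.isUnit_iff_isUnit_det _).mp hu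
  have h1 : A n = avgTw τ A X * repMat τ n * (avgTw τ A X)⁻¹ := by
    rw [← hcomm n, Matrix.mul_assoc, Matrix.mul_nonsing_inv _ hdet, Matrix.mul_one]
  rw [h1, Matrix.trace_mul_comm, ← Matrix.mul_assoc, Matrix.nonsing_inv_mul _ hdet,
    Matrix.one_mul, character_eq_trace_repMat]

/-- Orthogonality of matrix coefficients (no inverses). -/
theorem sum_coeff_eq_zero (τ : Representation ℂ N (Fin d → ℂ)) [hirr : τ.IsIrreducible]
    (A : N → Matrix (Fin d) (Fin d) ℂ) (hA : ∀ g h : N, A (g * h) = A g * A h)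
    (hne : ∃ n : N, (A n⁻¹).trace ≠ τ.character n) (i k j l : Fin d) :
    ∑ n : N, A n i k * repMat τ n j l = 0 := by
  have hA' : ∀ g h : N, (fun n : N => (A n⁻¹)ᵀ) (g * h)
      = (fun n : N => (A n⁻¹)ᵀ) g * (fun n : N => (A n⁻¹)ᵀ) h := by
    intro g h
    simp only
    rw [_root_.mul_inv_rev, hA, Matrix.transpose_mul]
  have hne' : ∃ n : N, ((fun n : N => (A n⁻¹)ᵀ) n).trace ≠ τ.character n := by
    obtain ⟨n, hn⟩ := hne
    exact ⟨n, by simpa [Matrix.trace_transpose] using hn⟩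
  have h1 := avgTw_eq_zero τ (fun n : N => (A n⁻¹)ᵀ) hA' hne' (Matrix.single i j 1)
  have h2 := congrFun (congrFun h1 k) l
  rw [avgTw_single_apply] at h2
  simp only [Matrix.transpose_apply, Matrix.zero_apply] at h2
  rw [← h2]
  exact Fintype.sum_equiv (Equiv.inv N) _ _ (fun n => by simp)

/-- Matrix form of the orthogonality. -/
theorem sum_mul_eq_zero (τ : Representation ℂ N (Fin d → ℂ)) [hirr : τ.IsIrreducible]
    (A : N → Matrix (Fin d) (Fin d) ℂ) (hA : ∀ g h : N, A (g * h) = A g * A h)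
    (hne : ∃ n : N, (A n⁻¹).trace ≠ τ.character n) (X : Matrix (Fin d) (Fin d) ℂ) :
    ∑ n : N, A n * X * repMat τ n = 0 := by
  ext i l
  rw [Matrix.sum_apply, Matrix.zero_apply]
  have h1 : ∀ n : N, (A n * X * repMat τ n) i l
      = ∑ j, ∑ k, X k j * (A n i k * repMat τ n j l) := by
    intro n
    rw [Matrix.mul_apply]
    refine Finset.sum_congr rfl fun j _ => ?_
    rw [Matrix.mul_apply, Finset.sum_mul]
    refine Finset.sum_congr rfl fun k _ => ?_
    ring
  rw [Finset.sum_congr rfl (fun n _ => h1 n), Finset.sum_comm]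
  refine Finset.sum_eq_zero fun j _ => ?_
  rw [Finset.sum_comm]
  refine Finset.sum_eq_zero fun k _ => ?_
  rw [← Finset.mul_sum, sum_coeff_eq_zero τ A hA hne i k j l, mul_zero]

end

end Cfsg.Agent.Lib.Helper8.FSI
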