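import Mathlib
import Cfsg.Prelude.Def_Characters
import Cfsg.Agent.Lib.Helper8.FSI1
import Cfsg.Agent.Lib.Helper1.CliffordCorr

/-!
# The squares of a coset outside the inertia group contribute nothing
-/

set_option autoImplicit false

namespace Cfsg.Agent.Lib.Helper8.FSI

open Cfsg
open scoped ComplexConjugate
open Matrix Cfsg.Agent.Lib.Helper4 Cfsg.Agent.Lib.Helper1 Cfsg.Agent.Lib.Helper8 Cfsg.Agent.S4475
  Cfsg.Agent.S0193

section

variable {G : Type*} [Group G] [Fintype G]

/-- For `g` outside the inertia group of the real irreducible character `φ` of `N`, and `θ` an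
irreducible character of `I ≥ N` extending `φ`, the values of `θ` (extended by zero) at the
squares of the elements of `gN` sum to zero. -/
theorem sum_coset_sq (N I : Subgroup G) [hN : N.Normal] [Fintype N] (hNI : N ≤ I) {θ : I → ℂ}
    (hθ : IsIrrCharacter I θ) {φ : N → ℂ} (hφ : IsIrrCharacter N φ)
    (hres : ∀ n : N, θ ⟨(n : G), hNI n.2⟩ = φ n) (hreal : ∀ n : N, conj (φ n) = φ n) (g : G)
    (hg : g ∉ inertia N φ) :
    ∑ n : N, extendByZero I θ ((g * n) * (g * n)) = 0 := by
  classical
  by_cases hgg : g * g ∈ I
  · obtain ⟨k, ρ, hirrρ, hρ⟩ := hθ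
    obtain ⟨d, τ, hirrτ, hτ⟩ := hφ
    haveI := hirrτ
    have hkd : k = d := by
      have h1 := hres 1
      rw [← hρ, ← hτ] at h1
      have h2 : (⟨((1 : N) : G), hNI (1 : N).2⟩ : I) = 1 := rfl
      rw [h2, Representation.char_one, Representation.char_one, Module.finrank_fin_fun,
        Module.finrank_fin_fun] at h1
      exact_mod_cast h1
    subst hkd
    -- the restriction of ρ to N
    set B : N → Matrix (Fin k) (Fin k) ℂ := fun n => repMat ρ ⟨(n : G), hNI n.2⟩ with hB
    have hBmul : ∀ a b : N, B (a * b) = B a * B b := by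
      intro a b
      rw [hB]
      simp only
      rw [← repMat_mul]
      rfl
    have hBtr : ∀ n : N, (B n).trace = τ.character n := by
      intro n
      rw [hB]
      simp only
      rw [← character_eq_trace_repMat, hρ, hres, hτ]
    obtain ⟨T, hTu, hT⟩ := exists_intertwiner τ B hBmul hBtr
    have hdet : IsUnit T.det := (Matrix.isUnit_iff_isUnit_det T).mp hTu
    have hBT : ∀ n : N, B n = T * repMat τ n * T⁻¹ := by
      intro n
      rw [← hT n, Matrix.mul_assoc, Matrix.mul_nonsing_inv T hdet, Matrix.mul_one]
    -- the conjugation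
    set c : N ≃* N := MulAut.conjNormal g⁻¹ with hc
    have hcval : ∀ n : N, ((c n : N) : G) = g⁻¹ * n * g := by
      intro n
      rw [hc, MulAut.conjNormal_apply, inv_inv]
    set A : N → Matrix (Fin k) (Fin k) ℂ := fun n => B (c n) with hA
    have hAmul : ∀ a b : N, A (a * b) = A a * A b := by
      intro a b
      rw [hA]
      simp only
      rw [map_mul, hBmul]
    have hne : ∃ n : N, (A n⁻¹).trace ≠ τ.character n := by
      have hg' : g⁻¹ ∉ inertia N φ := fun h => hg (by simpa using (inertia N φ).inv_mem h)
      rw [mem_inertia] at hg'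
      obtain ⟨n, hn⟩ := Function.ne_iff.1 hg'
      refine ⟨n, ?_⟩
      rw [hA]
      simp only
      rw [hBtr, map_inv, character_inv, hτ, hreal]
      have h1 : conjFun N φ g⁻¹ n = φ (c n) := by
        unfold conjFun
        congr 1
      rw [← h1]
      exact hn
    have horth := sum_mul_eq_zero τ A hAmul hne T
    -- each term
    set a : I := ⟨g * g, hgg⟩ with ha
    have hterm : ∀ n : N, extendByZero I ρ.character ((g * n) * (g * n))
        = (repMat ρ a * (A n * T * repMat τ n) * T⁻¹).trace := by
      intro n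
      have hmem : (g * n) * (g * n) ∈ I := by
        have h1 : (g * n) * (g * n) = (g * g) * (((c n : N) : G) * n) := by
          rw [hcval]
          group
        rw [h1]
        exact I.mul_mem hgg (hNI (N.mul_mem (c n).2 n.2))
      rw [extendByZero_of_mem I _ hmem, character_eq_trace_repMat]
      have h2 : (⟨(g * n) * (g * n), hmem⟩ : I)
          = a * ⟨((c n : N) : G), hNI (c n).2⟩ * ⟨(n : G), hNI n.2⟩ := by
        apply Subtype.ext
        rw [ha]
        simp only [Subgroup.coe_mul]
        rw [hcval]
        group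
      rw [h2, repMat_mul, repMat_mul]
      have h3 : repMat ρ ⟨((c n : N) : G), hNI (c n).2⟩ = A n := rfl
      have h4 : repMat ρ ⟨(n : G), hNI n.2⟩ = B n := rfl
      rw [h3, h4, hBT n]
      simp only [Matrix.mul_assoc]
    rw [← hρ, Finset.sum_congr rfl (fun n _ => hterm n), ← Matrix.trace_sum, ← Finset.sum_mul,
      ← Finset.mul_sum, horth, Matrix.mul_zero, Matrix.zero_mul, Matrix.trace_zero]
  · refine Finset.sum_eq_zero fun n _ => ?_
    apply extendByZero_of_notMem
    intro hmem
    apply hgg
    have h1 : g * g = (g * n) * (g * n) * ((g⁻¹ * n * g) * n)⁻¹ := by group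
    rw [h1]
    refine I.mul_mem hmem (I.inv_mem (hNI (N.mul_mem ?_ n.2)))
    have := hN.conj_mem n n.2 g⁻¹
    simpa using this

end

end Cfsg.Agent.Lib.Helper8.FSI
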