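import Mathlib
import Cfsg.Prelude.Def_Characters
import Cfsg.Agent.Lib.Helper1.IndFun

/-!
# Induced functions: the projection formula and the sum over squares
-/

set_option autoImplicit false

namespace Cfsg.Agent.Lib.Helper8.SR

open Cfsg Cfsg.Agent.Lib.Helper1

variable {G : Type*} [Group G]

theorem extendByZero_mul_class (H : Subgroup G) (θ : H → ℂ) (κ : G → ℂ) (y : G) :
    κ y * extendByZero H θ y = extendByZero H (fun h => κ h * θ h) y := by
  by_cases hy : y ∈ H
  · rw [extendByZero_of_mem H θ hy, extendByZero_of_mem H _ hy]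
  · rw [extendByZero_of_notMem H θ hy, extendByZero_of_notMem H _ hy, mul_zero]

/-- The projection formula: a class function times an induced function. -/
theorem mul_indFun [Fintype G] (H : Subgroup G) (θ : H → ℂ) {κ : G → ℂ}
    (hκ : ∀ g x : G, κ (x⁻¹ * g * x) = κ g) :
    (fun g => κ g * indFun H θ g) = indFun H (fun h => κ h * θ h) := by
  funext g
  rw [indFun_apply, indFun_apply, mul_left_comm, Finset.mul_sum]
  congr 1
  refine Finset.sum_congr rfl fun x _ => ?_
  rw [← extendByZero_mul_class, hκ]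

/-- Summing an induced function over the squares. -/
theorem sum_indFun_sq [Fintype G] (H : Subgroup G) (θ : H → ℂ) :
    ∑ g : G, indFun H θ (g * g) =
      (Nat.card G : ℂ) * ((Nat.card H : ℂ)⁻¹ * ∑ g : G, extendByZero H θ (g * g)) := by
  simp only [indFun_apply]
  rw [← Finset.mul_sum, Finset.sum_comm]
  have h1 : ∀ x : G, ∑ g : G, extendByZero H θ (x⁻¹ * (g * g) * x) =
      ∑ g : G, extendByZero H θ (g * g) := by
    intro x
    have := sum_conj_inv_mul (fun g => extendByZero H θ (g * g)) x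
    rw [← this]
    refine Finset.sum_congr rfl fun g _ => ?_
    congr 1
    group
  rw [Finset.sum_congr rfl (fun x _ => h1 x), Finset.sum_const, Finset.card_univ, nsmul_eq_mul,
    ← Nat.card_eq_fintype_card]
  ring

/-- The sum of the values of a nontrivial homomorphism to `ℂˣ` vanishes. -/
theorem sum_hom_eq_zero {A : Type*} [Group A] [Fintype A] (μ : A →* ℂˣ) (hμ : μ ≠ 1) :
    ∑ a : A, ((μ a : ℂˣ) : ℂ) = 0 := by
  obtain ⟨b, hb⟩ : ∃ b : A, μ b ≠ 1 := by
    by_contra hcon
    push Not at hcon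
    exact hμ (MonoidHom.ext hcon)
  have h1 : ∑ a : A, ((μ a : ℂˣ) : ℂ) = ((μ b : ℂˣ) : ℂ) * ∑ a : A, ((μ a : ℂˣ) : ℂ) := by
    rw [Finset.mul_sum]
    have := Equiv.sum_comp (Equiv.mulLeft b) (fun a : A => ((μ a : ℂˣ) : ℂ))
    rw [← this]
    refine Finset.sum_congr rfl fun a _ => ?_
    simp only [Equiv.coe_mulLeft, map_mul, Units.val_mul]
  have h2 : (1 - ((μ b : ℂˣ) : ℂ)) * ∑ a : A, ((μ a : ℂˣ) : ℂ) = 0 := by
    rw [sub_mul, one_mul, ← h1, sub_self]
  rcases mul_eq_zero.1 h2 with h | h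
  · exfalso
    apply hb
    apply Units.ext
    rw [Units.val_one]
    exact (sub_eq_zero.1 h).symm
  · exact h

theorem sum_hom_one {A : Type*} [Group A] [Fintype A] :
    ∑ a : A, (((1 : A →* ℂˣ) a : ℂˣ) : ℂ) = (Fintype.card A : ℂ) := by
  simp

end Cfsg.Agent.Lib.Helper8.SR
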