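import Mathlib
import Cfsg.Prelude.Def_Characters
import Cfsg.Agent.Lib.Helper8.FSI2
import Cfsg.Agent.Lib.Helper8.SR2

/-!
# The Frobenius–Schur indicator of a character induced from the inertia group
-/

set_option autoImplicit false

namespace Cfsg.Agent.Lib.Helper8.FSI

open Cfsg
open scoped ComplexConjugate
open Cfsg.Agent.Lib.Helper4 Cfsg.Agent.Lib.Helper1 Cfsg.Agent.Lib.Helper8

section

variable {G : Type*} [Group G] [Fintype G]

/-- Averaging over the right cosets of a subgroup. -/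
theorem sum_sum_mul_right (N : Subgroup G) [Fintype N] (H : G → ℂ) :
    ∑ g : G, ∑ n : N, H (g * n) = (Fintype.card N : ℂ) * ∑ g : G, H g := by
  rw [Finset.sum_comm]
  have h1 : ∀ n : N, ∑ g : G, H (g * n) = ∑ g : G, H g := by
    intro n
    exact Equiv.sum_comp (Equiv.mulRight (n : G)) H
  rw [Finset.sum_congr rfl (fun n _ => h1 n), Finset.sum_const, Finset.card_univ, nsmul_eq_mul]

/-- The sum over the squares of all elements of `G` of an irreducible character of the inertia
group `I` of the real character `φ` which extends `φ` only sees the elements of `I`. -/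
theorem sum_sq_eq (N I : Subgroup G) [hN : N.Normal] [Fintype N] [Fintype I] (hNI : N ≤ I)
    {θ : I → ℂ} (hθ : IsIrrCharacter I θ) {φ : N → ℂ} (hφ : IsIrrCharacter N φ)
    (hres : ∀ n : N, θ ⟨(n : G), hNI n.2⟩ = φ n) (hreal : ∀ n : N, conj (φ n) = φ n)
    (hI : I = inertia N φ) :
    ∑ g : G, extendByZero I θ (g * g) = ∑ i : I, θ (i * i) := by
  classical
  rw [← sum_extendByZero I (fun i : I => θ (i * i))]
  have hN0 : (Fintype.card N : ℂ) ≠ 0 := Nat.cast_ne_zero.2 Fintype.card_ne_zero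
  apply mul_left_cancel₀ hN0
  rw [← sum_sum_mul_right N, ← sum_sum_mul_right N]
  refine Finset.sum_congr rfl fun g _ => ?_
  by_cases hg : g ∈ I
  · refine Finset.sum_congr rfl fun n _ => ?_
    have hgn : g * n ∈ I := I.mul_mem hg (hNI n.2)
    rw [extendByZero_of_mem I _ hgn, extendByZero_of_mem I _ (I.mul_mem hgn hgn)]
    rfl
  · have hg' : g ∉ inertia N φ := by rw [← hI]; exact hg
    rw [sum_coset_sq N I hNI hθ hφ hres hreal g hg']
    symm
    refine Finset.sum_eq_zero fun n _ => ?_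
    apply extendByZero_of_notMem
    intro hgn
    apply hg
    have : g = g * n * (n : G)⁻¹ := by group
    rw [this]
    exact I.mul_mem hgn (I.inv_mem (hNI n.2))

/-- The Frobenius–Schur indicator of the induced character. -/
theorem fs_ind_eq (N I : Subgroup G) [hN : N.Normal] [Fintype I] (hNI : N ≤ I)
    {θ : I → ℂ} (hθ : IsIrrCharacter I θ) {φ : N → ℂ} (hφ : IsIrrCharacter N φ)
    (hres : ∀ n : N, θ ⟨(n : G), hNI n.2⟩ = φ n) (hreal : ∀ n : N, conj (φ n) = φ n)
    (hI : I = inertia N φ) :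
    (Nat.card G : ℂ)⁻¹ * ∑ g : G, indFun I θ (g * g)
      = (Nat.card I : ℂ)⁻¹ * ∑ i : I, θ (i * i) := by
  classical
  haveI : Fintype N := Fintype.ofFinite _
  rw [SR.sum_indFun_sq, sum_sq_eq N I hNI hθ hφ hres hreal hI]
  have hG0 : (Nat.card G : ℂ) ≠ 0 := Nat.cast_ne_zero.2 Nat.card_pos.ne'
  rw [← mul_assoc, inv_mul_cancel₀ hG0, one_mul]

end

end Cfsg.Agent.Lib.Helper8.FSI
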