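import Mathlib
import Cfsg.Prelude.Def_Characters
import Cfsg.Agent.Lib.Helper8.FSI3
import Cfsg.Agent.Lib.Helper8.GH4
import Cfsg.Agent.Lib.Helper8.FI2

/-!
# Counting real linear characters against real characters induced from an inertia group
-/

set_option autoImplicit false

namespace Cfsg.Agent.Lib.Helper8.FSI

open Cfsg
open scoped ComplexConjugate
open Cfsg.Agent.Lib.Helper1 Cfsg.Agent.Lib.Helper4 Cfsg.Agent.S0193 Cfsg.Agent.Lib.Helper8

universe u

section

variable {G : Type u} [Group G] [Fintype G]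

/-- A linear character with Frobenius–Schur indicator `1` has square `1`. -/
theorem hom_sq_eq_one (f : G →* ℂˣ)
    (hν : (Nat.card G : ℂ)⁻¹ * ∑ g : G, ((f (g * g) : ℂˣ) : ℂ) = 1) (g : G) :
    f g * f g = 1 := by
  by_contra hne
  have hμ : f * f ≠ 1 := by
    intro h
    apply hne
    have := congrArg (fun μ : G →* ℂˣ => μ g) h
    simpa using this
  have h0 := SR.sum_hom_eq_zero (f * f) hμ
  have h1 : ∑ g : G, ((f (g * g) : ℂˣ) : ℂ) = 0 := by
    rw [← h0]
    refine Finset.sum_congr rfl fun a _ => ?_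
    simp only [map_mul, MonoidHom.mul_apply]
  rw [h1, mul_zero] at hν
  exact zero_ne_one hν

variable {N : Subgroup G} [hN : N.Normal] {φ : N → ℂ} {I : Subgroup G} {ψ : I → ℂ}

/-- The extension with indicator `1` is real valued, hence so is `φ`. -/
theorem real_of_fs (h : ExtData N φ I ψ) [Fintype I]
    (hν : (Nat.card I : ℂ)⁻¹ * ∑ g : I, ψ (g * g) = 1) (n : N) : conj (φ n) = φ n := by
  have h1 : (Nat.card I : ℂ)⁻¹ * ∑ g : I, ψ (g * g) ≠ 0 := by rw [hν]; exact one_ne_zero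
  have h2 := (fs_real_iff h.irrψ).2 h1
  rw [← h.ext n]
  exact h2 _

/-- The induced twist by a real linear character has indicator `1`. -/
theorem fs_ind_twist (h : ExtData N φ I ψ) [Fintype I]
    (hν : (Nat.card I : ℂ)⁻¹ * ∑ g : I, ψ (g * g) = 1) (f : G →* ℂˣ)
    (hf : ∀ g : G, f g * f g = 1) :
    (Nat.card G : ℂ)⁻¹ * ∑ g : G, indFun I (twistBy I ψ f) (g * g) = 1 := by
  have hres : ∀ n : N, twistBy I ψ f ⟨(n : G), h.le n.2⟩ = φ n := by
    intro n
    unfold twistBy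
    rw [h.triv f _ n.2, h.ext n]
    simp
  rw [fs_ind_eq N I h.le (h.twist_irr f) h.irrφ hres (real_of_fs h hν) h.inertia_eq, ← hν]
  congr 1
  refine Finset.sum_congr rfl fun i _ => ?_
  unfold twistBy
  have h1 : f ((i * i : I) : G) = 1 := by
    rw [Subgroup.coe_mul, map_mul]
    exact hf _
  rw [h1]
  simp

/-- The counting bound for characters of Frobenius–Schur indicator `1`. -/
theorem card_linear_fs_le (h : ExtData N φ I ψ)
    (hν : (Nat.card I : ℂ)⁻¹ * ∑ᶠ g : I, ψ (g * g) = 1) :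
    Nat.card {χ : IrrCharacter G // charDegree (χ : G → ℂ) = 1 ∧
        (Nat.card G : ℂ)⁻¹ * ∑ᶠ g : G, (χ : G → ℂ) (g * g) = 1}
      ≤ I.index * Nat.card {χ : IrrCharacter G // charDegree (χ : G → ℂ)
          = charDegree φ * I.index ∧
          (Nat.card G : ℂ)⁻¹ * ∑ᶠ g : G, (χ : G → ℂ) (g * g) = 1} := by
  classical
  haveI : Fintype (IrrCharacter G) := Fintype.ofFinite _
  haveI : Fintype I := Fintype.ofFinite _
  rw [finsum_eq_sum_of_fintype] at hν
  have hhom : ∀ χ : {χ : IrrCharacter G // charDegree (χ : G → ℂ) = 1 ∧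
        (Nat.card G : ℂ)⁻¹ * ∑ᶠ g : G, (χ : G → ℂ) (g * g) = 1},
      ∃ f : G →* ℂˣ, ((χ : IrrCharacter G) : G → ℂ) = fun g => ((f g : ℂˣ) : ℂ) := by
    intro χ
    apply exists_hom_of_isIrrCharacter χ.1.2
    rw [(irr_apply_one_eq_charDegree χ.1.2).1, χ.2.1]
    simp
  choose hom hhom using hhom
  have hsq : ∀ χ, ∀ g : G, hom χ g * hom χ g = 1 := by
    intro χ
    apply hom_sq_eq_one
    have h1 := χ.2.2
    rw [finsum_eq_sum_of_fintype, hhom χ] at h1
    exact h1
  set F : {χ : IrrCharacter G // charDegree (χ : G → ℂ) = 1 ∧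
        (Nat.card G : ℂ)⁻¹ * ∑ᶠ g : G, (χ : G → ℂ) (g * g) = 1} →
      {χ : IrrCharacter G // charDegree (χ : G → ℂ) = charDegree φ * I.index ∧
        (Nat.card G : ℂ)⁻¹ * ∑ᶠ g : G, (χ : G → ℂ) (g * g) = 1} :=
    fun χ => ⟨⟨indFun I (twistBy I ψ (hom χ)), h.ind_irr _⟩, h.ind_degree _, by
      rw [finsum_eq_sum_of_fintype]
      exact fs_ind_twist h hν (hom χ) (hsq χ)⟩ with hF
  have e1 : Nat.card {χ : IrrCharacter G // charDegree (χ : G → ℂ) = 1 ∧
        (Nat.card G : ℂ)⁻¹ * ∑ᶠ g : G, (χ : G → ℂ) (g * g) = 1}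
      = Fintype.card {χ : IrrCharacter G // charDegree (χ : G → ℂ) = 1 ∧
        (Nat.card G : ℂ)⁻¹ * ∑ᶠ g : G, (χ : G → ℂ) (g * g) = 1} := Nat.card_eq_fintype_card
  have e2 : Nat.card {χ : IrrCharacter G // charDegree (χ : G → ℂ) = charDegree φ * I.index ∧
        (Nat.card G : ℂ)⁻¹ * ∑ᶠ g : G, (χ : G → ℂ) (g * g) = 1}
      = Fintype.card {χ : IrrCharacter G // charDegree (χ : G → ℂ) = charDegree φ * I.index ∧
        (Nat.card G : ℂ)⁻¹ * ∑ᶠ g : G, (χ : G → ℂ) (g * g) = 1} := Nat.card_eq_fintype_card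
  rw [e1, e2, ← Finset.card_univ, ← Finset.card_univ]
  refine le_trans (Finset.card_le_mul_card_image (f := F) Finset.univ I.index ?_)
    (Nat.mul_le_mul_left _ (Finset.card_le_card (Finset.subset_univ _)))
  intro c hc
  obtain ⟨χ₀, -, hχ₀⟩ := Finset.mem_image.1 hc
  set M : Subgroup G := Subgroup.normalClosure (I : Set G) with hM
  -- for χ in the fiber, the quotient of the homs is trivial on M
  have hker : ∀ χ, F χ = c → M ≤ (hom χ * (hom χ₀)⁻¹).ker := by
    intro χ hχ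
    rw [hM]
    apply Subgroup.normalClosure_le_normal
    intro i hi
    rw [SetLike.mem_coe, MonoidHom.mem_ker]
    have h1 : F χ = F χ₀ := hχ.trans hχ₀.symm
    have h2 : indFun I (twistBy I ψ (hom χ)) = indFun I (twistBy I ψ (hom χ₀)) := by
      have := congrArg (fun x => ((x : {χ : IrrCharacter G // charDegree (χ : G → ℂ)
        = charDegree φ * I.index ∧
        (Nat.card G : ℂ)⁻¹ * ∑ᶠ g : G, (χ : G → ℂ) (g * g) = 1}) : IrrCharacter G).1) h1
      exact this
    have h3 := h.hom_eq_of_ind_eq (hom χ) (hom χ₀) h2 ⟨i, hi⟩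
    simp only [MonoidHom.mul_apply, MonoidHom.inv_apply]
    rw [h3]
    exact mul_inv_cancel _
  -- the injection of the fiber into Irr(G ⧸ M)
  set Φ : {χ : IrrCharacter G // charDegree (χ : G → ℂ) = 1 ∧
        (Nat.card G : ℂ)⁻¹ * ∑ᶠ g : G, (χ : G → ℂ) (g * g) = 1} → IrrCharacter (G ⧸ M) :=
    fun χ => if hχ : F χ = c then
      ⟨fun q => ((QuotientGroup.lift M (hom χ * (hom χ₀)⁻¹) (hker χ hχ) q : ℂˣ) : ℂ),
        isIrrCharacter_of_hom _⟩
      else trivIrr (G ⧸ M) with hΦ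
  haveI : Fintype (IrrCharacter (G ⧸ M)) := Fintype.ofFinite _
  have hinj : Set.InjOn Φ ↑(Finset.univ.filter (fun χ => F χ = c)) := by
    intro χ hχ χ' hχ' heq
    have hχc : F χ = c := by simpa using hχ
    have hχ'c : F χ' = c := by simpa using hχ'
    rw [hΦ] at heq
    simp only [dif_pos hχc, dif_pos hχ'c] at heq
    have h1 := congrArg Subtype.val heq
    apply Subtype.ext
    apply Subtype.ext
    rw [hhom χ, hhom χ']
    funext g
    have h2 := congrFun h1 (QuotientGroup.mk g)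
    simp only [QuotientGroup.lift_mk, MonoidHom.mul_apply, MonoidHom.inv_apply,
      Units.val_mul] at h2
    have h3 : (((hom χ₀ g)⁻¹ : ℂˣ) : ℂ) ≠ 0 := Units.ne_zero _
    exact mul_right_cancel₀ h3 h2
  have h1 := Finset.card_le_card_of_injOn Φ (fun χ _ => Finset.mem_univ _) hinj
  refine le_trans h1 ?_
  rw [Finset.card_univ, ← Nat.card_eq_fintype_card]
  refine le_trans (card_irr_le_card (G ⧸ M)) ?_
  rw [← Subgroup.index_eq_card]
  exact Nat.le_of_dvd (Nat.pos_of_ne_zero Subgroup.index_ne_zero_of_finite)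
    (Subgroup.index_dvd_of_le Subgroup.le_normalClosure)

end

end Cfsg.Agent.Lib.Helper8.FSI
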