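import Mathlib
import Cfsg.Agent.Lib.Helper1.CharFound6
import Cfsg.Agent.Lib.Helper1.CharFound7
import Cfsg.Agent.Lib.Helper1.CharFound8
import Cfsg.Agent.Lib.Helper1.LinearChar
import Cfsg.Agent.Lib.Helper8.Deflation
import Cfsg.Agent.Lib.Helper4.Characters

/-!
# Feit–Thompson/Blichfeldt reduction: character preliminaries

Decomposition of a character into irreducible constituents, and: a `p`-group with a faithful
character of degree less than `p` is abelian.
-/

set_option autoImplicit false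
set_option linter.unusedSectionVars false
set_option maxHeartbeats 800000

namespace Cfsg.Agent.Lib.Helper8.FTB

open Cfsg Cfsg.Agent.Lib.Helper1 Cfsg.Agent.Lib.Helper4 Cfsg.Agent.Lib.Helper8
open scoped ComplexConjugate

universe u

/-- A character is a combination of irreducible characters with natural multiplicities. -/
theorem char_decomp {X : Type u} [Group X] [Fintype X] [Fintype (IrrCharacter X)] {Θ : X → ℂ}
    (hΘ : IsCharacter X Θ) :
    ∃ k : IrrCharacter X → ℕ, (∀ χ : IrrCharacter X, classInner Θ (χ : X → ℂ) = k χ) ∧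
      ∀ x, Θ x = ∑ χ : IrrCharacter X, (k χ : ℂ) * (χ : X → ℂ) x := by
  classical
  have hk : ∀ χ : IrrCharacter X, ∃ k : ℕ, classInner Θ (χ : X → ℂ) = k :=
    fun χ => classInner_char_irr_nat hΘ χ.2
  choose k hk using hk
  refine ⟨k, hk, ?_⟩
  intro x
  have h := class_function_expansion Θ (isClassFunction_of_isCharacter hΘ)
  have h' := congrFun h x
  rw [Finset.sum_apply] at h'
  rw [h']
  apply Finset.sum_congr rfl
  intro χ _
  rw [Pi.smul_apply, smul_eq_mul, hk χ]

/-- The degrees of the constituents add up to the degree. -/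
theorem char_decomp_degree {X : Type u} [Group X] [Fintype X] [Fintype (IrrCharacter X)]
    {Θ : X → ℂ} (k : IrrCharacter X → ℕ)
    (hexp : ∀ x, Θ x = ∑ χ : IrrCharacter X, (k χ : ℂ) * (χ : X → ℂ) x) (n : ℕ) (hn : Θ 1 = n) :
    ∑ χ : IrrCharacter X, k χ * charDegree (χ : X → ℂ) = n := by
  have h1 := hexp 1
  rw [hn] at h1
  have h2 : ((n : ℕ) : ℂ) = ((∑ χ : IrrCharacter X, k χ * charDegree (χ : X → ℂ) : ℕ) : ℂ) := by
    rw [h1]
    push_cast
    refine Finset.sum_congr rfl fun χ _ => ?_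
    rw [(irr_apply_one_eq_charDegree χ.2).1]
  exact_mod_cast h2.symm

/-- A constituent has degree at most the degree of the character. -/
theorem char_decomp_le {X : Type u} [Group X] [Fintype X] [Fintype (IrrCharacter X)]
    {Θ : X → ℂ} (k : IrrCharacter X → ℕ)
    (hexp : ∀ x, Θ x = ∑ χ : IrrCharacter X, (k χ : ℂ) * (χ : X → ℂ) x) (n : ℕ) (hn : Θ 1 = n)
    (χ : IrrCharacter X) (hχ : k χ ≠ 0) : charDegree (χ : X → ℂ) ≤ n := by
  rw [← char_decomp_degree k hexp n hn]
  have h1 : k χ * charDegree (χ : X → ℂ) ≤ ∑ ψ : IrrCharacter X, k ψ * charDegree (ψ : X → ℂ) :=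
    Finset.single_le_sum (f := fun ψ : IrrCharacter X => k ψ * charDegree (ψ : X → ℂ))
      (fun _ _ => Nat.zero_le _) (Finset.mem_univ χ)
  have h2 : charDegree (χ : X → ℂ) ≤ k χ * charDegree (χ : X → ℂ) :=
    Nat.le_mul_of_pos_left _ (Nat.pos_of_ne_zero hχ)
  omega

/-- A `p`-group with a faithful character of degree less than `p` is abelian. -/
theorem comm_of_faithful_small {P : Type u} [Group P] [Finite P] (p : ℕ) [hp : Fact p.Prime]
    (hP : IsPGroup p P) {Θ : P → ℂ} (hΘ : IsCharacter P Θ) (hfaith : ∀ g, Θ g = Θ 1 → g = 1)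
    (n : ℕ) (hn : Θ 1 = n) (hnp : n < p) : ∀ x y : P, x * y = y * x := by
  classical
  haveI : Fintype P := Fintype.ofFinite P
  haveI : Fintype (IrrCharacter P) := Fintype.ofFinite _
  have hpp : p.Prime := hp.out
  obtain ⟨k, -, hexp⟩ := char_decomp hΘ
  obtain ⟨a, ha⟩ : ∃ a, Nat.card P = p ^ a := (IsPGroup.iff_card.1 hP)
  have hlin : ∀ χ : IrrCharacter P, k χ ≠ 0 → (χ : P → ℂ) 1 = 1 := by
    intro χ hχ
    have hle := char_decomp_le k hexp n hn χ hχ
    have h1 : charDegree (χ : P → ℂ) ∣ Nat.card P := charDegree_dvd_card χ.2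
    rw [ha] at h1
    obtain ⟨j, -, hj⟩ := (Nat.dvd_prime_pow hpp).1 h1
    have hj0 : j = 0 := by
      by_contra hne
      have h2 : p ∣ charDegree (χ : P → ℂ) := by
        rw [hj]
        exact dvd_pow_self p hne
      have h3 := Nat.le_of_dvd (irr_apply_one_eq_charDegree χ.2).2 h2
      omega
    rw [(irr_apply_one_eq_charDegree χ.2).1, hj, hj0, pow_zero, Nat.cast_one]
  intro x y
  have h1 := hexp (x * y * x⁻¹ * y⁻¹)
  have h2 : ∀ χ : IrrCharacter P, (k χ : ℂ) * (χ : P → ℂ) (x * y * x⁻¹ * y⁻¹) =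
      (k χ : ℂ) * (χ : P → ℂ) 1 := by
    intro χ
    by_cases hk0 : k χ = 0
    · rw [hk0]; simp
    · have hχ1 := hlin χ hk0
      obtain ⟨lam, hlam⟩ := exists_hom_of_isIrrCharacter χ.2 hχ1
      rw [hlam]
      have h3 : lam (x * y * x⁻¹ * y⁻¹) = 1 := by
        rw [map_mul, map_mul, map_mul, map_inv, map_inv, mul_comm (lam x) (lam y),
          mul_inv_cancel_right, mul_inv_cancel]
      simp only [h3, map_one]
  rw [Finset.sum_congr rfl (fun χ _ => h2 χ), ← hexp 1] at h1
  have h4 : x * y * x⁻¹ * y⁻¹ = 1 := hfaith _ h1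
  calc x * y = (x * y * x⁻¹ * y⁻¹) * (y * x) := by group
    _ = y * x := by rw [h4, one_mul]

/-- A faithful character has an irreducible constituent which is nontrivial at a given
nonidentity element. -/
theorem exists_constituent {X : Type u} [Group X] [Fintype X] [Fintype (IrrCharacter X)]
    {Θ : X → ℂ} (k : IrrCharacter X → ℕ)
    (hexp : ∀ x, Θ x = ∑ χ : IrrCharacter X, (k χ : ℂ) * (χ : X → ℂ) x) {h : X}
    (hh : Θ h ≠ Θ 1) : ∃ χ : IrrCharacter X, k χ ≠ 0 ∧ (χ : X → ℂ) h ≠ (χ : X → ℂ) 1 := by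
  by_contra hcon
  push Not at hcon
  apply hh
  rw [hexp h, hexp 1]
  refine Finset.sum_congr rfl fun χ _ => ?_
  by_cases hk0 : k χ = 0
  · rw [hk0]; simp
  · rw [hcon χ hk0]

end Cfsg.Agent.Lib.Helper8.FTB
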