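import Mathlib

/-!
# Feit–Thompson/Blichfeldt reduction: a transfer lemma

If a Sylow `p`-subgroup `P` of `G` is abelian then `P ∩ Z(G) ∩ G' = 1`.
-/

set_option autoImplicit false
set_option linter.unusedSectionVars false

namespace Cfsg.Agent.Lib.Helper8.FTB

universe u

open scoped IsMulCommutative in
/-- Transfer into an abelian Sylow subgroup: `P ∩ Z(G) ∩ G' = 1`. -/
theorem eq_one_of_mem_center_sylow_commutator {G : Type u} [Group G] [Finite G] (p : ℕ)
    [hp : Fact p.Prime] (P : Sylow p G)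
    (hab : ∀ x ∈ (P : Subgroup G), ∀ y ∈ (P : Subgroup G), x * y = y * x) {z : G}
    (hzP : z ∈ (P : Subgroup G)) (hzZ : z ∈ Subgroup.center G) (hzG : z ∈ commutator G) :
    z = 1 := by
  haveI : IsMulCommutative (P : Subgroup G) := ⟨⟨fun a b => Subtype.ext (hab a a.2 b b.2)⟩⟩
  have hkey : ∀ (k : ℕ) (g₀ : G), g₀⁻¹ * z ^ k * g₀ ∈ (P : Subgroup G) →
      g₀⁻¹ * z ^ k * g₀ = z ^ k := by
    intro k g₀ _
    have hc : z ^ k ∈ Subgroup.center G := Subgroup.pow_mem _ hzZ k
    rw [Subgroup.mem_center_iff] at hc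
    rw [mul_assoc, ← hc g₀, ← mul_assoc, inv_mul_cancel, one_mul]
  have h1 := MonoidHom.transfer_eq_pow (MonoidHom.id (P : Subgroup G)) z hkey
  have h2 : MonoidHom.transfer (MonoidHom.id (P : Subgroup G)) z = 1 := by
    have hle : commutator G ≤ (MonoidHom.transfer (MonoidHom.id (P : Subgroup G))).ker :=
      Abelianization.commutator_subset_ker _
    exact hle hzG
  have h3 : z ^ (P : Subgroup G).index = 1 := by
    have h4 := congrArg Subtype.val (h1.symm.trans h2)
    simpa using h4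
  obtain ⟨j, hj⟩ := P.isPGroup' ⟨z, hzP⟩
  have hj' : z ^ p ^ j = 1 := by
    have := congrArg Subtype.val hj
    simpa using this
  have hcop : Nat.Coprime (p ^ j) (P : Subgroup G).index :=
    Nat.Coprime.pow_left j ((Nat.Prime.coprime_iff_not_dvd hp.out).2 P.not_dvd_index)
  have h5 : orderOf z ∣ Nat.gcd (p ^ j) (P : Subgroup G).index :=
    Nat.dvd_gcd (orderOf_dvd_of_pow_eq_one hj') (orderOf_dvd_of_pow_eq_one h3)
  rw [hcop.gcd_eq_one, Nat.dvd_one] at h5
  exact orderOf_eq_one_iff.1 h5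

end Cfsg.Agent.Lib.Helper8.FTB
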