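import Mathlib

/-!
# Feit–Thompson/Blichfeldt reduction: the hypothesis and its inheritance by subgroups
-/

set_option autoImplicit false
set_option linter.unusedSectionVars false

namespace Cfsg.Agent.Lib.Helper8.FTB

universe u

/-- The hypothesis of the reduction theorem. -/
def Hyp (n p : ℕ) (G : Type u) [Group G] : Prop :=
  (n + 1) ^ 2 ≤ p ∨ (n + 1 < p ∧ ∀ K : Subgroup G, ¬ p ^ 2 ∣ Nat.card K →
    ∀ Q : Sylow p K, (Q : Subgroup K).Normal)

theorem Hyp.lt {n p : ℕ} {G : Type u} [Group G] (hp : p.Prime) (h : Hyp n p G) : n + 1 < p := by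
  rcases h with h | h
  · by_contra hcon
    push Not at hcon
    have h2 := hp.two_le
    nlinarith
  · exact h.1

/-- Normality of Sylow subgroups is transported along an isomorphism. -/
theorem normal_sylow_of_equiv {p : ℕ} [Fact p.Prime] {K K' : Type u} [Group K] [Group K']
    [Finite K] (e : K ≃* K') (h : ∀ Q' : Sylow p K', (Q' : Subgroup K').Normal) (Q : Sylow p K) :
    (Q : Subgroup K).Normal := by
  have hs : Function.Surjective e.toMonoidHom := e.surjective
  have h1 : ((Q.mapSurjective hs : Sylow p K') : Subgroup K').Normal := h _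
  have h2 : (Q : Subgroup K) = ((Q.mapSurjective hs : Sylow p K') : Subgroup K').comap
      e.toMonoidHom := by
    rw [Sylow.coe_mapSurjective, Subgroup.comap_map_eq_self_of_injective e.injective]
  rw [h2]
  exact h1.comap _

theorem Hyp.subgroup {n p : ℕ} [Fact p.Prime] {G : Type u} [Group G] [Finite G] (h : Hyp n p G)
    (H : Subgroup G) : Hyp n p ↥H := by
  rcases h with h | ⟨h1, h2⟩
  · exact Or.inl h
  · refine Or.inr ⟨h1, ?_⟩
    intro K hK Q
    have e : ↥K ≃* ↥(K.map H.subtype) := K.equivMapOfInjective H.subtype H.subtype_injective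
    have hcard : Nat.card ↥(K.map H.subtype) = Nat.card ↥K := (Nat.card_congr e.toEquiv).symm
    apply normal_sylow_of_equiv e
    · exact h2 (K.map H.subtype) (by rw [hcard]; exact hK)

end Cfsg.Agent.Lib.Helper8.FTB
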