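import Mathlib
import Cfsg.Agent.Lib.Helper8.FTB1
import Cfsg.Agent.Lib.Helper8.FTB2
import Cfsg.Agent.Lib.Helper8.FTB3
import Cfsg.Agent.Lib.Helper8.DH10

/-!
# Feit–Thompson/Blichfeldt reduction: group-theoretic lemmas for a minimal counterexample
-/

set_option autoImplicit false
set_option linter.unusedSectionVars false
set_option maxHeartbeats 800000

namespace Cfsg.Agent.Lib.Helper8.FTB

open Cfsg Cfsg.Agent.Lib.Helper8
open scoped Pointwise

universe u

variable {G : Type u} [Group G] [Finite G] {p : ℕ} [hp : Fact p.Prime]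

/-- If every proper subgroup has normal Sylow `p`-subgroups and the Sylow `p`-subgroups are
abelian, then the intersection of two distinct Sylow `p`-subgroups is central. -/
theorem mem_center_of_mem_inf
    (hsub : ∀ H : Subgroup G, H ≠ ⊤ → ∀ Q : Sylow p H, (Q : Subgroup H).Normal)
    (hab : ∀ P : Sylow p G, ∀ x ∈ (P : Subgroup G), ∀ y ∈ (P : Subgroup G), x * y = y * x)
    {P₁ P₂ : Sylow p G} (hne : P₁ ≠ P₂) {d : G} (h1 : d ∈ (P₁ : Subgroup G))
    (h2 : d ∈ (P₂ : Subgroup G)) : d ∈ Subgroup.center G := by
  have hP₁ : (P₁ : Subgroup G) ≤ Subgroup.centralizer ({d} : Set G) := by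
    intro y hy
    rw [Subgroup.mem_centralizer_iff]
    intro x hx
    rw [Set.mem_singleton_iff] at hx
    rw [hx]
    exact hab P₁ d h1 y hy
  have hP₂ : (P₂ : Subgroup G) ≤ Subgroup.centralizer ({d} : Set G) := by
    intro y hy
    rw [Subgroup.mem_centralizer_iff]
    intro x hx
    rw [Set.mem_singleton_iff] at hx
    rw [hx]
    exact hab P₂ d h2 y hy
  by_contra hd
  have hC : Subgroup.centralizer ({d} : Set G) ≠ ⊤ := by
    intro hC
    apply hd
    rw [Subgroup.mem_center_iff]
    intro g
    have hg : g ∈ Subgroup.centralizer ({d} : Set G) := by rw [hC]; trivial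
    rw [Subgroup.mem_centralizer_iff] at hg
    exact (hg d rfl).symm
  have hn := hsub _ hC (P₁.subtype hP₁)
  haveI : Subsingleton (Sylow p ↥(Subgroup.centralizer ({d} : Set G))) :=
    (Sylow.unique_of_normal (P₁.subtype hP₁) hn).instSubsingleton
  have huniq : P₁.subtype hP₁ = P₂.subtype hP₂ := Subsingleton.elim _ _
  exact hne (Sylow.subtype_injective huniq)

/-- In a minimal counterexample no proper normal subgroup contains a Sylow `p`-subgroup. -/
theorem eq_top_of_normal_of_le
    (hsub : ∀ H : Subgroup G, H ≠ ⊤ → ∀ Q : Sylow p H, (Q : Subgroup H).Normal)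
    (P : Sylow p G) (hPn : ¬ (P : Subgroup G).Normal) (M : Subgroup G) (hM : M.Normal)
    (hPM : (P : Subgroup G) ≤ M) : M = ⊤ := by
  by_contra hMt
  apply hPn
  have hn := hsub M hMt (P.subtype hPM)
  haveI := hM
  haveI := hn
  have hcop : Nat.Coprime (Nat.card ((P.subtype hPM : Sylow p M) : Subgroup M))
      ((P.subtype hPM : Sylow p M) : Subgroup M).index := (P.subtype hPM).card_coprime_index
  have h1 := DH.normal_map_of_hall M ((P.subtype hPM : Sylow p M) : Subgroup M) hcop
  rw [Sylow.coe_subtype, Subgroup.subgroupOf_map_subtype, inf_of_le_left hPM] at h1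
  exact h1

/-- A subgroup containing the commutator subgroup is normal. -/
theorem normal_of_commutator_le (M : Subgroup G) (h : commutator G ≤ M) : M.Normal := by
  constructor
  intro m hm g
  have h1 : g * m * g⁻¹ * m⁻¹ ∈ commutator G := by
    rw [commutator_def]
    exact Subgroup.commutator_mem_commutator (Subgroup.mem_top g) (Subgroup.mem_top m)
  have h2 : g * m * g⁻¹ = (g * m * g⁻¹ * m⁻¹) * m := by group
  rw [h2]
  exact M.mul_mem (h h1) hm

/-- In a minimal counterexample with abelian Sylow `p`-subgroups and `G' < G`, the derived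
subgroup is a `p'`-group and the quotient by it is a `p`-group. -/
theorem commutator_coprime_and_quotient
    (hsub : ∀ H : Subgroup G, H ≠ ⊤ → ∀ Q : Sylow p H, (Q : Subgroup H).Normal)
    (hab : ∀ P : Sylow p G, ∀ x ∈ (P : Subgroup G), ∀ y ∈ (P : Subgroup G), x * y = y * x)
    (P : Sylow p G) (hPn : ¬ (P : Subgroup G).Normal) (hG' : commutator G ≠ ⊤) :
    (Nat.card ↥(commutator G)).Coprime p ∧ IsPGroup p (G ⧸ commutator G) := by
  have hpp : p.Prime := hp.out
  obtain ⟨P₂, hP₂⟩ : ∃ P₂ : Sylow p G, P₂ ≠ P := by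
    by_contra hcon
    push Not at hcon
    haveI : Subsingleton (Sylow p G) := ⟨fun a b => (hcon a).trans (hcon b).symm⟩
    exact hPn (Sylow.normal_of_subsingleton P)
  obtain ⟨R⟩ : Nonempty (Sylow p ↥(commutator G)) := inferInstance
  have hRn : (R : Subgroup ↥(commutator G)).Normal := hsub _ hG' R
  haveI := hRn
  have hQn : ((R : Subgroup ↥(commutator G)).map (commutator G).subtype).Normal :=
    DH.normal_map_of_hall (commutator G) (R : Subgroup ↥(commutator G)) R.card_coprime_index
  haveI := hQn
  have hQp : IsPGroup p ↥((R : Subgroup ↥(commutator G)).map (commutator G).subtype) :=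
    R.isPGroup'.map _
  have hQle : ∀ P' : Sylow p G,
      (R : Subgroup ↥(commutator G)).map (commutator G).subtype ≤ (P' : Subgroup G) :=
    fun P' => hQp.le_sylow_of_normal P'
  have hQD : (R : Subgroup ↥(commutator G)).map (commutator G).subtype ≤ commutator G :=
    Subgroup.map_subtype_le _
  have hQbot : ∀ d ∈ (R : Subgroup ↥(commutator G)).map (commutator G).subtype, d = 1 := by
    intro d hd
    have hc := mem_center_of_mem_inf hsub hab hP₂ (hQle P₂ hd) (hQle P hd)
    exact eq_one_of_mem_center_sylow_commutator p P (hab P) (hQle P hd) hc (hQD hd)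
  have hR : (R : Subgroup ↥(commutator G)) = ⊥ := by
    rw [Subgroup.eq_bot_iff_forall]
    intro r hr
    have h1 : ((r : ↥(commutator G)) : G) ∈
        (R : Subgroup ↥(commutator G)).map (commutator G).subtype :=
      Subgroup.mem_map_of_mem (commutator G).subtype hr
    exact Subtype.ext (hQbot _ h1)
  refine ⟨?_, ?_⟩
  · rw [Nat.coprime_comm]
    apply (Nat.Prime.coprime_iff_not_dvd hpp).2
    intro hdvd
    exact R.ne_bot_of_dvd_card hdvd hR
  · have hPD : (P : Subgroup G) ⊔ commutator G = ⊤ :=
      eq_top_of_normal_of_le hsub P hPn _ (normal_of_commutator_le _ le_sup_right) le_sup_left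
    have hsurj : Function.Surjective
        ((QuotientGroup.mk' (commutator G)).comp (P : Subgroup G).subtype) := by
      intro q
      obtain ⟨g, rfl⟩ := QuotientGroup.mk'_surjective (commutator G) q
      have hg : g ∈ (P : Subgroup G) ⊔ commutator G := by rw [hPD]; trivial
      have hg' : g ∈ ((P : Subgroup G) : Set G) * ((commutator G : Subgroup G) : Set G) := by
        rw [← Subgroup.mul_normal]
        exact hg
      obtain ⟨y, hy, z, hz, rfl⟩ := Set.mem_mul.1 hg'
      refine ⟨⟨y, hy⟩, ?_⟩
      simp only [MonoidHom.coe_comp, Function.comp_apply, Subgroup.coe_subtype,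
        QuotientGroup.mk'_apply]
      rw [QuotientGroup.mk_mul_of_mem y hz]
    exact P.isPGroup'.of_surjective _ hsurj

end Cfsg.Agent.Lib.Helper8.FTB
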