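import Mathlib
import Cfsg.Agent.Lib.Helper8.FTB4
import Cfsg.Agent.Lib.Lead.SolvPSolv
import Cfsg.Agent.S0139
import Cfsg.Agent.S0898
import Cfsg.Agent.S4468

/-!
# Feit–Thompson/Blichfeldt reduction: the theorem
-/

set_option autoImplicit false
set_option linter.unusedSectionVars false
set_option maxHeartbeats 1600000

namespace Cfsg.Agent.Lib.Helper8.FTB

open Cfsg Cfsg.Agent.Lib.Helper1 Cfsg.Agent.Lib.Helper4 Cfsg.Agent.Lib.Helper8

universe u

/-- The `TI` case: `G' = G`. -/
theorem false_of_perfect {G : Type u} [Group G] [Fintype G] {p : ℕ} [hp : Fact p.Prime] (n : ℕ)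
    (hyp : Hyp n p G)
    (hsub : ∀ H : Subgroup G, H ≠ ⊤ → ∀ Q : Sylow p H, (Q : Subgroup H).Normal)
    (hab : ∀ P : Sylow p G, ∀ x ∈ (P : Subgroup G), ∀ y ∈ (P : Subgroup G), x * y = y * x)
    (P : Sylow p G) (hPn : ¬ (P : Subgroup G).Normal) (hG' : commutator G = ⊤)
    {Θ : G → ℂ} (hΘ : IsCharacter G Θ) (hΘ1 : Θ 1 = n) (hfaith : ∀ g, Θ g = Θ 1 → g = 1) :
    False := by
  classical
  have hpp : p.Prime := hp.out
  have hnp : n + 1 < p := hyp.lt hpp
  haveI : Fintype (IrrCharacter G) := Fintype.ofFinite _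
  -- P ∩ Z(G) = 1, TI
  have hZ : (P : Subgroup G) ⊓ Subgroup.center G = ⊥ := by
    rw [Subgroup.eq_bot_iff_forall]
    intro z hz
    exact eq_one_of_mem_center_sylow_commutator p P (hab P) hz.1 hz.2 (by rw [hG']; trivial)
  have hTI : ∀ P₁ P₂ : Sylow p G, P₁ ≠ P₂ → (P₁ : Subgroup G) ⊓ (P₂ : Subgroup G) = ⊥ := by
    intro P₁ P₂ hne
    rw [Subgroup.eq_bot_iff_forall]
    intro d hd
    have hc := mem_center_of_mem_inf hsub hab hne hd.1 hd.2
    exact eq_one_of_mem_center_sylow_commutator p P₁ (hab P₁) hd.1 hc (by rw [hG']; trivial)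
  -- the hypothesis `hone` of S0898
  have hconj : ∀ a : G, (P : Subgroup G).map (MulAut.conj a).toMonoidHom =
      ((a • P : Sylow p G) : Subgroup G) := by
    intro a
    rw [Sylow.coe_subgroup_smul, Subgroup.pointwise_smul_def]
    rfl
  have hone : ∀ g : G, g ∉ Subgroup.center G → ∀ a b : G,
      Subgroup.centralizer ({g} : Set G) ⊓ (P : Subgroup G).map (MulAut.conj a).toMonoidHom ≠ ⊥ →
      Subgroup.centralizer ({g} : Set G) ⊓ (P : Subgroup G).map (MulAut.conj b).toMonoidHom ≠ ⊥ →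
      (P : Subgroup G).map (MulAut.conj a).toMonoidHom =
        (P : Subgroup G).map (MulAut.conj b).toMonoidHom := by
    intro g hg a b ha hb
    rw [hconj a] at ha ⊢
    rw [hconj b] at hb ⊢
    have hC : Subgroup.centralizer ({g} : Set G) ≠ ⊤ := by
      intro hC
      apply hg
      rw [Subgroup.mem_center_iff]
      intro x
      have hx : x ∈ Subgroup.centralizer ({g} : Set G) := by rw [hC]; trivial
      rw [Subgroup.mem_centralizer_iff] at hx
      exact (hx g rfl).symm
    obtain ⟨R⟩ : Nonempty (Sylow p ↥(Subgroup.centralizer ({g} : Set G))) := inferInstance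
    have hRn := hsub _ hC R
    haveI : Subsingleton (Sylow p ↥(Subgroup.centralizer ({g} : Set G))) :=
      (Sylow.unique_of_normal R hRn).instSubsingleton
    obtain ⟨Pc, hPc⟩ := (R.isPGroup'.map (Subgroup.centralizer ({g} : Set G)).subtype).exists_le_sylow
    have key : ∀ P' : Sylow p G,
        Subgroup.centralizer ({g} : Set G) ⊓ (P' : Subgroup G) ≠ ⊥ → P' = Pc := by
      intro P' hP'
      by_contra hne
      apply hP'
      rw [Subgroup.eq_bot_iff_forall]
      intro d hd
      have hX : IsPGroup p ↥(((P' : Subgroup G)).subgroupOf (Subgroup.centralizer ({g} : Set G))) :=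
        P'.isPGroup'.comap_subtype
      obtain ⟨R', hR'⟩ := hX.exists_le_sylow
      have hRR : R' = R := Subsingleton.elim _ _
      have hdR : (⟨d, hd.1⟩ : ↥(Subgroup.centralizer ({g} : Set G))) ∈
          (R : Subgroup ↥(Subgroup.centralizer ({g} : Set G))) := by
        rw [← hRR]
        apply hR'
        rw [Subgroup.mem_subgroupOf]
        exact hd.2
      have hdPc : d ∈ (Pc : Subgroup G) :=
        hPc (Subgroup.mem_map_of_mem (Subgroup.centralizer ({g} : Set G)).subtype hdR)
      have h1 := hTI P' Pc hne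
      rw [Subgroup.eq_bot_iff_forall] at h1
      exact h1 d ⟨hd.2, hdPc⟩
    rw [key _ ha, key _ hb]
  -- the constituent
  obtain ⟨k, -, hexp⟩ := char_decomp hΘ
  have hPne : (P : Subgroup G) ≠ ⊥ := by
    intro h
    apply hPn
    rw [h]
    infer_instance
  obtain ⟨h, hh1⟩ := (Subgroup.ne_bot_iff_exists_ne_one.1 hPne)
  have hh1' : (h : G) ≠ 1 := fun hc => hh1 (Subtype.ext hc)
  have hΘh : Θ (h : G) ≠ Θ 1 := fun hc => hh1' (hfaith _ hc)
  obtain ⟨χ, hkχ, hχh⟩ := exists_constituent k hexp hΘh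
  have hdle := char_decomp_le k hexp n hΘ1 χ hkχ
  obtain ⟨hχd, hχpos⟩ := irr_apply_one_eq_charDegree χ.2
  have hχ1 : (χ : G → ℂ) 1 ≠ 1 := by
    intro h1
    obtain ⟨lam, hlam⟩ := exists_hom_of_isIrrCharacter χ.2 h1
    apply hχh
    have hle : commutator G ≤ lam.ker := Abelianization.commutator_subset_ker lam
    have hx : (h : G) ∈ lam.ker := hle (by rw [hG']; trivial)
    rw [MonoidHom.mem_ker] at hx
    rw [hlam]
    simp only [hx, map_one]
  have hnorm : ∀ M : Subgroup G, M.Normal → (P : Subgroup G) ≤ M → M = ⊤ :=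
    fun M hM hPM => eq_top_of_normal_of_le hsub P hPn M hM hPM
  haveI : Fintype ↥(P : Subgroup G) := Fintype.ofFinite _
  have hmain := (Cfsg.Agent.S0898.result (P : Subgroup G) (hab P) hZ hone (χ : G → ℂ) χ.2
    ⟨(h : G), h.2, hχh⟩).2 hχ1 hnorm
  rw [hχd] at hmain
  simp only [Complex.natCast_re] at hmain
  have hlt : Nat.card ↥(P : Subgroup G) < (1 + charDegree (χ : G → ℂ)) ^ 2 := by
    have : (Nat.card ↥(P : Subgroup G) : ℝ) < ((1 + charDegree (χ : G → ℂ) : ℕ) : ℝ) ^ 2 := by
      push_cast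
      exact hmain
    exact_mod_cast this
  have hle2 : (1 + charDegree (χ : G → ℂ)) ^ 2 ≤ (n + 1) ^ 2 :=
    Nat.pow_le_pow_left (by omega) 2
  -- lower bounds for |P|
  obtain ⟨a, ha⟩ : ∃ a, Nat.card ↥(P : Subgroup G) = p ^ a := (IsPGroup.iff_card.1 P.isPGroup')
  have ha0 : a ≠ 0 := by
    intro h0
    rw [h0, pow_zero] at ha
    exact hPne ((Subgroup.card_eq_one).1 ha)
  rcases hyp with hA | ⟨-, hB⟩
  · have : p ≤ p ^ a := Nat.le_self_pow ha0 p
    omega
  · have hp2 : p ^ 2 ∣ Nat.card G := by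
      by_contra hnd
      apply hPn
      have hnd' : ¬ p ^ 2 ∣ Nat.card ↥(⊤ : Subgroup G) := by
        rwa [Subgroup.card_top]
      exact normal_sylow_of_equiv (Subgroup.topEquiv (G := G)).symm (hB ⊤ hnd') P
    have h2 : p ^ 2 ∣ Nat.card ↥(P : Subgroup G) := P.pow_dvd_card_of_pow_dvd_card hp2
    have h3 : p ^ 2 ≤ p ^ a := by
      rw [← ha]
      exact Nat.le_of_dvd Nat.card_pos h2
    have h4 : p ^ 2 < (n + 1) ^ 2 := by omega
    have h5 : p < n + 1 := lt_of_pow_lt_pow_left₀ 2 (by omega) h4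
    omega

/-- **Feit–Thompson/Blichfeldt reduction.** -/
theorem main {p : ℕ} [hp : Fact p.Prime] (n : ℕ) :
    ∀ (c : ℕ) (G : Type u) [Group G] [Finite G], Nat.card G = c →
      ∀ (ρ : Representation ℂ G (Fin n → ℂ)), Function.Injective ρ → Hyp n p G →
        ∀ P : Sylow p G, (P : Subgroup G).Normal := by
  intro c
  induction c using Nat.strong_induction_on with
  | _ c ih =>
    intro G _ _ hc ρ hρ hyp P
    classical
    haveI : Fintype G := Fintype.ofFinite G
    have hpp : p.Prime := hp.out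
    have hnp : n + 1 < p := hyp.lt hpp
    have hsub : ∀ H : Subgroup G, H ≠ ⊤ → ∀ Q : Sylow p H, (Q : Subgroup H).Normal := by
      intro H hH Q
      have hlt : Nat.card H < c := by
        rw [← hc]
        exact lt_of_le_of_ne (Subgroup.card_le_card_group H)
          (fun h => hH ((Subgroup.card_eq_iff_eq_top H).1 h))
      exact ih _ hlt H rfl (ρ.comp H.subtype) (hρ.comp H.subtype_injective) (hyp.subgroup H) Q
    by_contra hPn
    set Θ : G → ℂ := ρ.character with hΘdef
    have hΘ : IsCharacter G Θ := ⟨n, ρ, rfl⟩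
    have hΘ1 : Θ 1 = n := by
      rw [hΘdef, Representation.char_one, Module.finrank_fin_fun]
    have hfaith : ∀ g, Θ g = Θ 1 → g = 1 := by
      intro g hg
      rw [hΘ1] at hg
      have h1 := (Cfsg.Agent.S0139.result ρ g).1 (by rw [Module.finrank_fin_fun]; exact hg)
      apply hρ
      rw [h1, map_one]
      rfl
    have hab : ∀ P' : Sylow p G, ∀ x ∈ (P' : Subgroup G), ∀ y ∈ (P' : Subgroup G),
        x * y = y * x := by
      intro P' x hx y hy
      have hres : IsCharacter ↥(P' : Subgroup G) (fun u => Θ ((P' : Subgroup G).subtype u)) :=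
        isCharacter_comp_hom hΘ (P' : Subgroup G).subtype
      have h1 := comm_of_faithful_small p P'.isPGroup' hres
        (fun g hg => Subtype.ext (hfaith g hg)) n hΘ1 (by omega) ⟨x, hx⟩ ⟨y, hy⟩
      exact congrArg Subtype.val h1
    by_cases hG' : commutator G = ⊤
    · exact false_of_perfect n hyp hsub hab P hPn hG' hΘ hΘ1 hfaith
    · obtain ⟨hcop, hquot⟩ := commutator_coprime_and_quotient hsub hab P hPn hG'
      haveI : Group.IsNilpotent (G ⧸ commutator G) := hquot.isNilpotent
      have hq : IsPSolvable p (G ⧸ commutator G) :=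
        Cfsg.Agent.Lib.Lead.SolvPSolv.isPSolvable_of_isSolvable' p (G ⧸ commutator G)
      have hsolv : IsPSolvable p G :=
        Cfsg.Agent.Lib.Lead.SolvPSolv.isPSolvable_of_quotient (commutator G) (Or.inr hcop) hq
      have hdeg : charDegree Θ = n := by
        unfold charDegree
        rw [hΘ1]
        simp
      have h1 := (Cfsg.Agent.S4468.result Θ hΘ hfaith n hdeg p hpp hsolv (by omega) P hPn).1
      omega

end Cfsg.Agent.Lib.Helper8.FTB
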