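import Mathlib
import Cfsg.Agent.Lib.Helper8.ClassAlgebra
import Cfsg.Agent.Lib.Helper1.CharFound3
import Cfsg.Agent.Lib.Helper4.Characters

set_option autoImplicit false

/-! Class-function identities used for fully ramified characters. -/

namespace Cfsg.Agent.Lib.Helper8.FU

open Cfsg Cfsg.Agent.Lib.Helper1 Cfsg.Agent.Lib.Helper4 ComplexConjugate

variable {G : Type*} [Group G] [Fintype G]

/-- If a twisted sum vanishes for all irreducible characters, it vanishes for all class
functions. -/
theorem twisted_sum_eq_zero (f : G → ℂ) (y : G)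
    (h : ∀ ψ : IrrCharacter G, ∑ g, f g * (ψ : G → ℂ) (y * g) = 0)
    (F : G → ℂ) (hF : IsClassFunction G F) : ∑ g, f g * F (y * g) = 0 := by
  classical
  haveI : Fintype (IrrCharacter G) := Fintype.ofFinite _
  have hexp := class_function_expansion F hF
  have h1 : ∀ g : G, F (y * g)
      = ∑ ψ : IrrCharacter G, classInner F (ψ : G → ℂ) * (ψ : G → ℂ) (y * g) := by
    intro g
    conv_lhs => rw [hexp]
    simp [Finset.sum_apply]
  simp_rw [h1, Finset.mul_sum]
  rw [Finset.sum_comm]
  refine Finset.sum_eq_zero fun ψ _ => ?_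
  have h2 : ∑ g, f g * (classInner F (ψ : G → ℂ) * (ψ : G → ℂ) (y * g))
      = classInner F (ψ : G → ℂ) * ∑ g, f g * (ψ : G → ℂ) (y * g) := by
    rw [Finset.mul_sum]
    refine Finset.sum_congr rfl fun g _ => ?_
    ring
  rw [h2, h ψ, mul_zero]

/-- The conjugation-counting class function. -/
theorem isClassFunction_conjCount [DecidableEq G] (y : G) :
    IsClassFunction G (fun h => ∑ x : G, if x * y * x⁻¹ = h then (1 : ℂ) else 0) := by
  intro g h
  show (∑ x : G, if x * y * x⁻¹ = h * g * h⁻¹ then (1 : ℂ) else 0)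
    = ∑ x : G, if x * y * x⁻¹ = g then (1 : ℂ) else 0
  rw [← Equiv.sum_comp (Equiv.mulLeft h)]
  refine Finset.sum_congr rfl fun x _ => ?_
  have : (Equiv.mulLeft h x) * y * (Equiv.mulLeft h x)⁻¹ = h * g * h⁻¹ ↔ x * y * x⁻¹ = g := by
    simp only [Equiv.coe_mulLeft, mul_inv_rev]
    constructor
    · intro h1
      have : h⁻¹ * (h * x * y * (x⁻¹ * h⁻¹)) * h = h⁻¹ * (h * g * h⁻¹) * h := by rw [h1]
      simpa [mul_assoc] using this
    · intro h1
      rw [← h1]; group
  simp only [this]

theorem sum_mul_conjCount [DecidableEq G] (f : G → ℂ) (y : G) :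
    ∑ g, f g * (∑ x : G, if x * y * x⁻¹ = y * g then (1 : ℂ) else 0)
      = ∑ x : G, f (y⁻¹ * (x * y * x⁻¹)) := by
  simp_rw [Finset.mul_sum]
  rw [Finset.sum_comm]
  refine Finset.sum_congr rfl fun x _ => ?_
  rw [Finset.sum_eq_single (y⁻¹ * (x * y * x⁻¹))]
  · simp
  · intro g _ hg
    have : ¬ (x * y * x⁻¹ = y * g) := by
      intro h
      apply hg
      rw [h]
      group
    simp [this]
  · intro h
    exact absurd (Finset.mem_univ _) h

/-- Combination: if the twisted sums vanish on irreducible characters then the sum over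
commutator-like elements vanishes. -/
theorem sum_comm_eq_zero (f : G → ℂ) (y : G)
    (h : ∀ ψ : IrrCharacter G, ∑ g, f g * (ψ : G → ℂ) (y * g) = 0) :
    ∑ x : G, f (y⁻¹ * (x * y * x⁻¹)) = 0 := by
  classical
  rw [← sum_mul_conjCount]
  exact twisted_sum_eq_zero f y h _ (isClassFunction_conjCount y)

end Cfsg.Agent.Lib.Helper8.FU
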