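import Mathlib
import Cfsg.Agent.Lib.Helper8.FU1
import Cfsg.Agent.Lib.Helper8.GH2
import Cfsg.Agent.Lib.Helper1.IndFun
import Cfsg.Agent.S0146

set_option autoImplicit false

/-! Fully ramified characters: vanishing of extensions on self-centralizing cosets. -/

namespace Cfsg.Agent.Lib.Helper8.FU

open Cfsg Cfsg.Agent.Lib.Helper1 Cfsg.Agent.Lib.Helper4 Cfsg.Agent.Lib.Helper8 ComplexConjugate

variable {H : Type*} [Group H] [Fintype H]

theorem isClassFunction_extendByZero (Z : Subgroup H) [hZ : Z.Normal] (φ : Z → ℂ)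
    (hinv : ∀ (g : H) (n : Z), φ ⟨g * n * g⁻¹, hZ.conj_mem n n.2 g⟩ = φ n) :
    IsClassFunction H (extendByZero Z φ) := by
  intro g h
  by_cases hg : g ∈ Z
  · rw [extendByZero_of_mem Z φ hg, extendByZero_of_mem Z φ (hZ.conj_mem g hg h)]
    exact hinv h ⟨g, hg⟩
  · have : h * g * h⁻¹ ∉ Z := by
      intro hc
      apply hg
      have := hZ.conj_mem _ hc h⁻¹
      simpa [mul_assoc] using this
    rw [extendByZero_of_notMem Z φ hg, extendByZero_of_notMem Z φ this]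

theorem ramified_twisted_zero (Z : Subgroup H) [hZ : Z.Normal] [Fintype Z]
    (χ : H → ℂ) (θ : Z → ℂ)
    (hθinv : ∀ (g : H) (n : Z), θ ⟨g * n * g⁻¹, hZ.conj_mem n n.2 g⟩ = θ n)
    (huniq : ∀ ψ : H → ℂ, IsIrrCharacter H ψ → classInner (indFun Z θ) ψ ≠ 0 → ψ = χ)
    (y : H) (hy : χ y = 0) (ψ : IrrCharacter H) :
    ∑ g, extendByZero Z (fun z => conj (θ z)) g * (ψ : H → ℂ) (y * g) = 0 := by
  have hf : IsClassFunction H (extendByZero Z (fun z => conj (θ z))) :=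
    isClassFunction_extendByZero Z _ (fun g n => by rw [hθinv g n])
  rw [sum_classFunction_mul_irr ψ.2 _ hf y]
  by_cases hψ : (ψ : H → ℂ) = χ
  · rw [hψ, hy, mul_zero]
  · have h0 : classInner (indFun Z θ) (ψ : H → ℂ) = 0 := by
      by_contra hne
      exact hψ (huniq _ ψ.2 hne)
    rw [Cfsg.Agent.S0146.result Z θ _ (isClassFunction_irr ψ.2), classInner_def] at h0
    have hZ0 : (Nat.card Z : ℂ) ≠ 0 := Nat.cast_ne_zero.2 Nat.card_pos.ne'
    have h1 : ∑ z : Z, θ z * conj ((ψ : H → ℂ) z) = 0 := by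
      rcases mul_eq_zero.1 h0 with h | h
      · exact absurd (inv_eq_zero.1 h) hZ0
      · exact h
    have h2 : ∑ g, extendByZero Z (fun z => conj (θ z)) g * (ψ : H → ℂ) g = 0 := by
      rw [sum_extendByZero_mul]
      have := congrArg conj h1
      rw [map_sum, map_zero] at this
      rw [← this]
      refine Finset.sum_congr rfl fun z _ => ?_
      rw [map_mul, Complex.conj_conj]
    rw [h2, zero_div, zero_mul]

theorem ext_vanish (Z : Subgroup H) [hZ : Z.Normal] [Fintype Z]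
    (χ : H → ℂ) (θ : Z → ℂ)
    (hθinv : ∀ (g : H) (n : Z), θ ⟨g * n * g⁻¹, hZ.conj_mem n n.2 g⟩ = θ n)
    (huniq : ∀ ψ : H → ℂ, IsIrrCharacter H ψ → classInner (indFun Z θ) ψ ≠ 0 → ψ = χ)
    (hvan : ∀ g : H, g ∉ Z → χ g = 0)
    (A : Subgroup H) [Fintype A] (hZA : Z ≤ A)
    (θh : A → ℂ) (hθh : IsIrrCharacter A θh) (hext : ∀ z : Z, θh ⟨z, hZA z.2⟩ = θ z)
    (y : H) (hyA : y ∈ A) (hyZ : y ∉ Z)
    (hcent : ∀ x : H, y⁻¹ * (x * y * x⁻¹) ∈ Z → x ∈ A)
    (hcent' : ∀ x ∈ A, y⁻¹ * (x * y * x⁻¹) ∈ Z) :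
    θh ⟨y, hyA⟩ = 0 := by
  have h0 := sum_comm_eq_zero (extendByZero Z (fun z => conj (θ z))) y
    (ramified_twisted_zero Z χ θ hθinv huniq y (hvan y hyZ))
  have h1 : ∑ x : H, extendByZero Z (fun z => conj (θ z)) (y⁻¹ * (x * y * x⁻¹))
      = ∑ x : A, conj (θh ((⟨y, hyA⟩ : A)⁻¹ * (x * ⟨y, hyA⟩ * x⁻¹))) := by
    rw [sum_eq_sum_subgroup_of_support A]
    · refine Finset.sum_congr rfl fun x _ => ?_
      by_cases hx : y⁻¹ * ((x : H) * y * (x : H)⁻¹) ∈ Z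
      · rw [extendByZero_of_mem Z _ hx, ← hext ⟨_, hx⟩]
        rfl
      · exact absurd (hcent' x x.2) hx
    · intro x hx
      apply extendByZero_of_notMem
      intro hc
      exact hx (hcent x hc)
  have h2 := sum_irr_mul_conj hθh ((⟨y, hyA⟩ : A)⁻¹) ⟨y, hyA⟩
  rw [h1, ← map_sum, h2] at h0
  have h3 := (map_eq_zero (starRingEnd ℂ)).1 h0
  obtain ⟨d, hdpos, hd⟩ := irr_apply_one_pos hθh
  have hd0 : (d : ℂ) ≠ 0 := Nat.cast_ne_zero.2 hdpos.ne'
  have hA0 : (Fintype.card A : ℂ) ≠ 0 := Nat.cast_ne_zero.2 Fintype.card_pos.ne'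
  rw [hd, div_eq_zero_iff] at h3
  rcases h3 with h3 | h3
  · rw [isCharacter_inv (isCharacter_of_irr hθh)] at h3
    rcases mul_eq_zero.1 h3 with h4 | h4
    · rcases mul_eq_zero.1 h4 with h5 | h5
      · exact absurd h5 hA0
      · exact (map_eq_zero (starRingEnd ℂ)).1 h5
    · exact h4
  · exact absurd h3 hd0

end Cfsg.Agent.Lib.Helper8.FU
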