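import Mathlib
import Cfsg.Agent.S0886
import Cfsg.Agent.S0146
import Cfsg.Agent.S0148
import Cfsg.Agent.Lib.Helper4.Gallagher
import Cfsg.Agent.Lib.Helper4.PF6b
import Cfsg.Agent.Lib.Helper1.CharFound3
import Cfsg.Agent.Lib.Helper1.CharFound6
import Cfsg.Agent.Lib.Helper4.Characters

set_option autoImplicit false

/-! Decomposition of a character lying over an invariant irreducible character of a normal
subgroup with cyclic quotient. -/

namespace Cfsg.Agent.Lib.Helper8.FZ

open Cfsg Cfsg.Agent.Lib.Helper1 Cfsg.Agent.Lib.Helper4 ComplexConjugate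

theorem cyclic_decomp {H : Type*} [Group H] [Fintype H] (N : Subgroup H) [hN : N.Normal]
    [Fintype N]
    (hcyc : IsCyclic (H ⧸ N)) (θ : N → ℂ) (hθ : IsIrrCharacter N θ)
    (hinv : ∀ (g : H) (n : N), θ ⟨g * n * g⁻¹, hN.conj_mem n n.2 g⟩ = θ n)
    (Ψ : H → ℂ) (hΨ : IsCharacter H Ψ) (e : ℕ) (hΨN : ∀ n : N, Ψ n = e * θ n) :
    ∃ (T : Finset (IrrCharacter H)) (b : IrrCharacter H → ℕ), T.card = N.index ∧
      ∑ ψ ∈ T, b ψ = e ∧ classInner Ψ Ψ = ∑ ψ ∈ T, ((b ψ : ℂ)) ^ 2 := by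
  classical
  haveI : Fintype (IrrCharacter H) := Fintype.ofFinite _
  obtain ⟨θh, hθh, hθhN⟩ := Cfsg.Agent.S0886.result N hcyc θ hθ hinv
  have hab : ∀ x y : H, x * y * x⁻¹ * y⁻¹ ∈ N := by
    intro x y
    rw [← QuotientGroup.eq_one_iff]
    haveI := hcyc
    letI : CommGroup (H ⧸ N) := IsCyclic.commGroup
    simp only [QuotientGroup.mk_mul, QuotientGroup.mk_inv]
    rw [mul_comm (x : H ⧸ N) (y : H ⧸ N)]
    group
  obtain ⟨e', he'pos, he'⟩ := gallagher_abelian N hab θ hθ hinv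
  set Θ := indFun N θ with hΘ
  have hΘθh : classInner Θ θh = 1 := by
    rw [hΘ, Cfsg.Agent.S0146.result N θ θh (isClassFunction_irr hθh)]
    have : (fun h : N => θh h) = θ := funext hθhN
    rw [this, classInner_irr_self hθ]
  have he'1 : (e' : ℂ) = 1 := by
    have := (he' θh hθh (by rw [hΘθh]; exact one_ne_zero)).1
    rw [hΘθh] at this
    exact this.symm
  have hT1 : ∀ ψ : IrrCharacter H, classInner Θ (ψ : H → ℂ) ≠ 0 →
      classInner Θ (ψ : H → ℂ) = 1 ∧ ∀ n : N, (ψ : H → ℂ) n = θ n := by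
    intro ψ hne
    obtain ⟨h1, h2⟩ := he' ψ ψ.2 hne
    rw [he'1] at h1
    refine ⟨h1, fun n => ?_⟩
    rw [h2 n, he'1, one_mul]
  obtain ⟨d, hdpos, hd⟩ := irr_apply_one_pos hθ
  have hd0 : (d : ℂ) ≠ 0 := Nat.cast_ne_zero.2 hdpos.ne'
  set T := Finset.univ.filter (fun ψ : IrrCharacter H => classInner Θ (ψ : H → ℂ) ≠ 0) with hTdef
  have hmemT : ∀ ψ : IrrCharacter H, ψ ∈ T ↔ classInner Θ (ψ : H → ℂ) ≠ 0 := by
    intro ψ
    rw [hTdef, Finset.mem_filter]
    simp
  have hdegT : ∀ ψ ∈ T, (ψ : H → ℂ) 1 = d := by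
    intro ψ hψ
    have := (hT1 ψ ((hmemT ψ).1 hψ)).2 1
    rw [OneMemClass.coe_one] at this
    rw [this, hd]
  have hb : ∀ ψ : IrrCharacter H, ∃ k : ℕ, classInner Ψ (ψ : H → ℂ) = k :=
    fun ψ => classInner_char_irr_nat hΨ ψ.2
  choose b hb using hb
  have hdeg : ∀ ψ : IrrCharacter H, ∃ k : ℕ, 0 < k ∧ (ψ : H → ℂ) 1 = k :=
    fun ψ => irr_apply_one_pos ψ.2
  choose dg hdgpos hdg using hdeg
  have hΨcf : IsClassFunction H Ψ := isClassFunction_of_isCharacter hΨ
  have hΘcf : IsClassFunction H Θ := indFun_isClassFunction N θ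
  have hΨexp := class_function_expansion Ψ hΨcf
  have hΘexp := class_function_expansion Θ hΘcf
  refine ⟨T, b, ?_, ?_, ?_⟩
  · -- cardinality
    have h1 : Θ 1 = (N.index : ℂ) * θ 1 := Cfsg.Agent.Lib.Helper4.PF6.indFun_one_index N θ
    have h2 : Θ 1 = ∑ ψ : IrrCharacter H, classInner Θ (ψ : H → ℂ) * (ψ : H → ℂ) 1 := by
      conv_lhs => rw [hΘexp]
      simp [Finset.sum_apply]
    have h3 : ∑ ψ : IrrCharacter H, classInner Θ (ψ : H → ℂ) * (ψ : H → ℂ) 1
        = ∑ ψ ∈ T, (d : ℂ) := by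
      rw [hTdef, Finset.sum_filter]
      refine Finset.sum_congr rfl fun ψ _ => ?_
      split_ifs with h
      · rw [(hT1 ψ h).1, one_mul]
        exact hdegT ψ ((hmemT ψ).2 h)
      · push Not at h
        rw [h, zero_mul]
    rw [h2, h3, Finset.sum_const, nsmul_eq_mul, hd] at h1
    have := mul_right_cancel₀ hd0 h1
    exact_mod_cast this
  · -- sum of b
    have h1 : classInner Θ Ψ = e := by
      rw [hΘ, Cfsg.Agent.S0146.result N θ Ψ hΨcf]
      have : (fun h : N => Ψ h) = (e : ℂ) • θ := by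
        funext n
        rw [hΨN n]
        rfl
      rw [this, classInner_smul_right, classInner_irr_self hθ]
      simp
    have h2 : classInner Θ Ψ = ∑ ψ ∈ T, (b ψ : ℂ) := by
      conv_lhs => rw [hΨexp]
      rw [classInner_sum_right, hTdef, Finset.sum_filter]
      refine Finset.sum_congr rfl fun ψ _ => ?_
      rw [classInner_smul_right, hb ψ]
      split_ifs with h
      · rw [(hT1 ψ h).1]
        simp
      · push Not at h
        rw [h, mul_zero]
    rw [h2] at h1
    exact_mod_cast h1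
  · -- norm
    have hoff : ∀ ψ : IrrCharacter H, ψ ∉ T → b ψ = 0 := by
      have hsumb : ∑ ψ ∈ T, (b ψ : ℂ) = e := by
        have h1 : classInner Θ Ψ = e := by
          rw [hΘ, Cfsg.Agent.S0146.result N θ Ψ hΨcf]
          have : (fun h : N => Ψ h) = (e : ℂ) • θ := by
            funext n
            rw [hΨN n]
            rfl
          rw [this, classInner_smul_right, classInner_irr_self hθ]
          simp
        have h2 : classInner Θ Ψ = ∑ ψ ∈ T, (b ψ : ℂ) := by
          conv_lhs => rw [hΨexp]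
          rw [classInner_sum_right, hTdef, Finset.sum_filter]
          refine Finset.sum_congr rfl fun ψ _ => ?_
          rw [classInner_smul_right, hb ψ]
          split_ifs with h
          · rw [(hT1 ψ h).1]
            simp
          · push Not at h
            rw [h, mul_zero]
        rw [← h2, h1]
      have hΨ1 : Ψ 1 = (e : ℂ) * d := by
        have := hΨN 1
        rw [OneMemClass.coe_one] at this
        rw [this, hd]
      have hΨ1' : Ψ 1 = ∑ ψ : IrrCharacter H, (b ψ : ℂ) * (dg ψ : ℂ) := by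
        conv_lhs => rw [hΨexp]
        simp only [Finset.sum_apply, Pi.smul_apply, smul_eq_mul]
        refine Finset.sum_congr rfl fun ψ _ => ?_
        rw [hb ψ, hdg ψ]
      have hsplit : ∑ ψ : IrrCharacter H, (b ψ : ℂ) * (dg ψ : ℂ)
          = ∑ ψ ∈ T, (b ψ : ℂ) * (dg ψ : ℂ) + ∑ ψ ∈ Tᶜ, (b ψ : ℂ) * (dg ψ : ℂ) :=
        (Finset.sum_add_sum_compl T _).symm
      have hTpart : ∑ ψ ∈ T, (b ψ : ℂ) * (dg ψ : ℂ) = (e : ℂ) * d := by
        rw [← hsumb, Finset.sum_mul]
        refine Finset.sum_congr rfl fun ψ hψ => ?_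
        rw [← hdg ψ, hdegT ψ hψ]
      have hzero : ∑ ψ ∈ Tᶜ, (b ψ : ℂ) * (dg ψ : ℂ) = 0 := by
        have := hΨ1'
        rw [hΨ1, hsplit, hTpart] at this
        linear_combination -this
      have hzeroN : ∑ ψ ∈ Tᶜ, b ψ * dg ψ = 0 := by
        exact_mod_cast hzero
      intro ψ hψ
      have := (Finset.sum_eq_zero_iff.1 hzeroN) ψ (Finset.mem_compl.2 hψ)
      rcases Nat.mul_eq_zero.1 this with h | h
      · exact h
      · exact absurd h (hdgpos ψ).ne'
    have h1 : classInner Ψ Ψ = ∑ ψ : IrrCharacter H, (b ψ : ℂ) ^ 2 := by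
      nth_rewrite 1 [hΨexp]
      rw [classInner_sum_left]
      refine Finset.sum_congr rfl fun ψ _ => ?_
      rw [classInner_smul_left, ← classInner_conj_symm Ψ, hb ψ]
      simp [sq]
    rw [h1, hTdef, Finset.sum_filter]
    refine Finset.sum_congr rfl fun ψ _ => ?_
    split_ifs with h
    · rfl
    · have : ψ ∉ T := fun hc => h ((hmemT ψ).1 hc)
      rw [hoff ψ this]
      simp

end Cfsg.Agent.Lib.Helper8.FZ
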