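import Mathlib
import Cfsg.Agent.Lib.Helper8.Rey1
import Cfsg.Agent.Lib.Helper8.FZ1
import Cfsg.Agent.Lib.Helper8.GL13
import Cfsg.Agent.Lib.Helper4.PF6b
import Cfsg.Agent.S0854

set_option autoImplicit false

/-! Type-level Clifford facts for a group with a unique irreducible character over an invariant
character of a normal subgroup. -/

namespace Cfsg.Agent.Lib.Helper8.FV

open Cfsg Cfsg.Agent.Lib.Helper1 Cfsg.Agent.Lib.Helper4 Cfsg.Agent.Lib.Helper8 ComplexConjugate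

universe u

variable {G : Type u} [Group G] [Fintype G] (Z L : Subgroup G) [hL : L.Normal]
  [Fintype Z] [Fintype L]

omit hL in
/-- Positivity of restriction in stages. -/
theorem classInner_stage_ne_zero (hZL : Z ≤ L) {χ : G → ℂ} (hχ : IsCharacter G χ)
    {ξ : L → ℂ} (hξ : IsIrrCharacter L ξ) {θ : Z → ℂ} (hθ : IsIrrCharacter Z θ)
    (h1 : classInner (fun l : L => χ l) ξ ≠ 0)
    (h2 : classInner (fun z : Z => ξ ⟨z, hZL z.2⟩) θ ≠ 0) :
    classInner (fun z : Z => χ z) θ ≠ 0 := by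
  classical
  haveI : Fintype (IrrCharacter L) := Fintype.ofFinite _
  have hχL : IsCharacter L (fun l : L => χ l) := Cfsg.Agent.S0148.isCharacter_restrict L hχ
  have hexp := class_function_expansion _ (isClassFunction_of_isCharacter hχL)
  have h3 : (fun z : Z => χ z) = ∑ η : IrrCharacter L,
      classInner (fun l : L => χ l) (η : L → ℂ) • (fun z : Z => (η : L → ℂ) ⟨z, hZL z.2⟩) := by
    funext z
    have := congrFun hexp ⟨z, hZL z.2⟩
    simp only [Finset.sum_apply, Pi.smul_apply] at this ⊢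
    exact this
  have ha : ∀ η : IrrCharacter L, ∃ k : ℕ, classInner (fun l : L => χ l) (η : L → ℂ) = k :=
    fun η => classInner_char_irr_nat hχL η.2
  choose a ha using ha
  have hb : ∀ η : IrrCharacter L, ∃ k : ℕ,
      classInner (fun z : Z => (η : L → ℂ) ⟨z, hZL z.2⟩) θ = k := by
    intro η
    have : IsCharacter Z (fun z : Z => (η : L → ℂ) ⟨z, hZL z.2⟩) :=
      isCharacter_comp_hom (isCharacter_of_irr η.2) (Subgroup.inclusion hZL)
    exact classInner_char_irr_nat this hθ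
  choose b hb using hb
  rw [h3, classInner_sum_left]
  simp only [classInner_smul_left]
  rw [Finset.sum_congr rfl fun η _ => by rw [ha η, hb η]]
  have hpos : 0 < ∑ η : IrrCharacter L, a η * b η := by
    apply Finset.sum_pos'
    · intro η _; exact Nat.zero_le _
    · refine ⟨⟨ξ, hξ⟩, Finset.mem_univ _, ?_⟩
      apply Nat.mul_pos
      · rcases Nat.eq_zero_or_pos (a ⟨ξ, hξ⟩) with h | h
        · exfalso; apply h1; rw [ha ⟨ξ, hξ⟩, h]; simp
        · exact h
      · rcases Nat.eq_zero_or_pos (b ⟨ξ, hξ⟩) with h | h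
        · exfalso; apply h2; rw [hb ⟨ξ, hξ⟩, h]; simp
        · exact h
  have : (∑ η : IrrCharacter L, (a η : ℂ) * (b η : ℂ)) = ((∑ η : IrrCharacter L, a η * b η : ℕ) : ℂ) := by
    push_cast; rfl
  rw [this]
  exact Nat.cast_ne_zero.2 hpos.ne'

/-- Every irreducible character of `L` over `θ` lies under the unique `ψ` over `θ`. -/
theorem under_of_unique (hZL : Z ≤ L) {θ : Z → ℂ} (hθ : IsIrrCharacter Z θ) {ψ : G → ℂ}
    (huniq : ∀ ψ' : G → ℂ, IsIrrCharacter G ψ' → classInner (fun z : Z => ψ' z) θ ≠ 0 → ψ' = ψ)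
    {ξ : L → ℂ} (hξ : IsIrrCharacter L ξ)
    (hξθ : classInner (fun z : Z => ξ ⟨z, hZL z.2⟩) θ ≠ 0) :
    classInner (fun l : L => ψ l) ξ ≠ 0 := by
  have hΞ : IsCharacter G (indFun L ξ) := Cfsg.Agent.S0148.result L ξ (isCharacter_of_irr hξ)
  obtain ⟨d, hdpos, hd⟩ := irr_apply_one_pos hξ
  have hΞ1 : indFun L ξ 1 ≠ 0 := by
    rw [Cfsg.Agent.Lib.Helper4.PF6.indFun_one_index, hd]
    apply mul_ne_zero
    · exact Nat.cast_ne_zero.2 Subgroup.index_ne_zero_of_finite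
    · exact Nat.cast_ne_zero.2 hdpos.ne'
  obtain ⟨ψ', hψ'⟩ := exists_irr_constituent hΞ hΞ1
  rw [Cfsg.Agent.S0146.result L ξ _ (isClassFunction_irr ψ'.2)] at hψ'
  have h1 : classInner (fun l : L => (ψ' : G → ℂ) l) ξ ≠ 0 := by
    rw [← classInner_conj_symm]
    exact (map_ne_zero (starRingEnd ℂ)).2 hψ'
  have h2 := classInner_stage_ne_zero Z L hZL (isCharacter_of_irr ψ'.2) hξ hθ h1 hξθ
  rw [← huniq _ ψ'.2 h2]
  exact h1

/-- Clifford: two constituents of `ψ_L` are conjugate. -/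
theorem conj_of_under {ψ : G → ℂ} (hψ : IsIrrCharacter G ψ) {ξ₁ ξ₂ : L → ℂ}
    (h₁ : IsIrrCharacter L ξ₁) (h₂ : IsIrrCharacter L ξ₂)
    (hc₁ : classInner (fun l : L => ψ l) ξ₁ ≠ 0) (hc₂ : classInner (fun l : L => ψ l) ξ₂ ≠ 0) :
    ∃ g : G, ξ₂ = conjFn L ξ₁ g := by
  obtain ⟨c, hc0, hres⟩ := restrict_eq_smul_indFun L hψ h₁ hc₁
  rw [hres, classInner_smul_left] at hc₂
  have h3 : classInner (fun n : L => indFun L ξ₁ n) ξ₂ ≠ 0 := fun h => hc₂ (by rw [h, mul_zero])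
  have h4 : classInner (indFun L ξ₂) (indFun L ξ₁) ≠ 0 := by
    rw [Cfsg.Agent.S0146.result L ξ₂ _ (indFun_isClassFunction L ξ₁), ← classInner_conj_symm]
    exact (map_ne_zero (starRingEnd ℂ)).2 h3
  exact exists_conjFn_eq_of_classInner_indFun L h₂ h₁ h4

/-- The order of the inertia group in the presence of a unique character above. -/
theorem card_inertia_of_unique (hZL : Z ≤ L) {θ : Z → ℂ} (hθ : IsIrrCharacter Z θ) {ψ : G → ℂ}
    (hψ : IsIrrCharacter G ψ)
    (huniq : ∀ ψ' : G → ℂ, IsIrrCharacter G ψ' → classInner (fun z : Z => ψ' z) θ ≠ 0 → ψ' = ψ)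
    {ξ : L → ℂ} (hξ : IsIrrCharacter L ξ)
    (hξθ : classInner (fun z : Z => ξ ⟨z, hZL z.2⟩) θ ≠ 0) :
    (Nat.card (inertiaFn L ξ) : ℂ)
      = (Nat.card L : ℂ) * classInner (fun l : L => ψ l) ξ ^ 2 := by
  classical
  haveI : Fintype (IrrCharacter G) := Fintype.ofFinite _
  rw [card_inertiaFn_eq_sum L hξ]
  congr 1
  rw [Finset.sum_eq_single (⟨ψ, hψ⟩ : IrrCharacter G)]
  · intro χ' _ hne
    by_contra h0
    apply hne
    apply Subtype.ext
    apply huniq _ χ'.2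
    apply classInner_stage_ne_zero Z L hZL (isCharacter_of_irr χ'.2) hξ hθ _ hξθ
    intro h
    apply h0
    rw [h]
    simp
  · intro h
    exact absurd (Finset.mem_univ _) h

/-- Restriction to a normal subgroup with cyclic quotient is multiplicity free. -/
theorem mult_one_of_cyclic (hcyc : IsCyclic (G ⧸ L)) {ψ : G → ℂ} (hψ : IsIrrCharacter G ψ)
    {ξ : L → ℂ} (hξ : IsIrrCharacter L ξ) (hc : classInner (fun l : L => ψ l) ξ ≠ 0) :
    classInner (fun l : L => ψ l) ξ = 1 := by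
  classical
  set T : Subgroup G := inertiaFn L ξ with hTdef
  haveI : Fintype T := Fintype.ofFinite T
  have hT : ∀ g : G, g ∈ T ↔ ∀ n : L, ξ ⟨g * n * g⁻¹, hL.conj_mem (n : G) n.2 g⟩ = ξ n := by
    intro g
    rw [hTdef, mem_inertiaFn]
    constructor
    · intro h n
      exact congrFun h n
    · intro h
      funext n
      exact h n
  have hLT : L ≤ T := le_inertiaFn L (isClassFunction_irr hξ)
  obtain ⟨ψ', hψ', -, hmult⟩ := Cfsg.Agent.S0854.result L ξ hξ T hT hLT ψ hψ hc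
  obtain ⟨c, hcn⟩ := classInner_char_irr_nat
    (Cfsg.Agent.S0148.isCharacter_restrict L (isCharacter_of_irr hψ)) hξ
  rw [hcn] at hmult hc ⊢
  haveI : Fintype (L.subgroupOf T) := Fintype.ofFinite _
  have hξ' : IsIrrCharacter (L.subgroupOf T) (fun n : L.subgroupOf T => ξ ⟨(n : T), n.2⟩) :=
    isIrrCharacter_comp_mulEquiv hξ (Subgroup.subgroupOfEquivOfLe hLT)
  have hξ'inv : ∀ (g : T) (n : L.subgroupOf T),
      (fun n : L.subgroupOf T => ξ ⟨(n : T), n.2⟩)
        ⟨g * n * g⁻¹, (inferInstance : (L.subgroupOf T).Normal).conj_mem n n.2 g⟩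
      = (fun n : L.subgroupOf T => ξ ⟨(n : T), n.2⟩) n :=
    fun g n => (hT g).1 g.2 ⟨n, n.2⟩
  have hcyc' : IsCyclic (↥T ⧸ L.subgroupOf T) := by
    haveI := hcyc
    let f : ↥T ⧸ L.subgroupOf T →* G ⧸ L :=
      QuotientGroup.map (L.subgroupOf T) L T.subtype (fun x hx => hx)
    apply isCyclic_of_injective f
    rw [injective_iff_map_eq_one]
    intro q hq
    obtain ⟨t, rfl⟩ := QuotientGroup.mk_surjective q
    rw [QuotientGroup.eq_one_iff, Subgroup.mem_subgroupOf]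
    have : f (QuotientGroup.mk t) = QuotientGroup.mk (t : G) := rfl
    rw [this, QuotientGroup.eq_one_iff] at hq
    exact hq
  have hinner : classInner (fun n : L.subgroupOf T => ψ' n)
      (fun n : L.subgroupOf T => ξ ⟨(n : T), n.2⟩) = c := by
    rw [← hmult]
    exact classInner_mulEquiv (Subgroup.subgroupOfEquivOfLe hLT)
      (fun n : L => ψ' ⟨(n : G), hLT n.2⟩) ξ
  have hc0 : (c : ℂ) ≠ 0 := hc
  have hΨN : ∀ n : L.subgroupOf T, ψ' n
      = c * (fun n : L.subgroupOf T => ξ ⟨(n : T), n.2⟩) n := by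
    intro n
    have := restrict_of_invariant (L.subgroupOf T) _ hξ' hξ'inv ψ' hψ'
      (by rw [hinner]; exact hc0) n
    rw [hinner] at this
    exact this
  obtain ⟨Tf, b, -, hbsum, hnorm⟩ := Cfsg.Agent.Lib.Helper8.FZ.cyclic_decomp (L.subgroupOf T)
    hcyc' _ hξ' hξ'inv ψ' (isCharacter_of_irr hψ') c hΨN
  rw [classInner_irr_self hψ'] at hnorm
  have hsq : ∑ ψ ∈ Tf, (b ψ) ^ 2 = 1 := by
    have : ((∑ ψ ∈ Tf, (b ψ) ^ 2 : ℕ) : ℂ) = 1 := by
      push_cast
      exact hnorm.symm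
    exact_mod_cast this
  have hle : ∑ ψ ∈ Tf, b ψ ≤ ∑ ψ ∈ Tf, (b ψ) ^ 2 := by
    apply Finset.sum_le_sum
    intro i _
    nlinarith [Nat.zero_le (b i)]
  have hc1 : c = 1 := by
    have h0 : c ≠ 0 := fun h => hc0 (by rw [h]; simp)
    omega
  rw [hc1]
  simp

/-- With cyclic quotient and a unique character above, inertia groups are trivial. -/
theorem inertia_le_of_cyclic (hZL : Z ≤ L) (hcyc : IsCyclic (G ⧸ L)) {θ : Z → ℂ}
    (hθ : IsIrrCharacter Z θ) {ψ : G → ℂ} (hψ : IsIrrCharacter G ψ)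
    (huniq : ∀ ψ' : G → ℂ, IsIrrCharacter G ψ' → classInner (fun z : Z => ψ' z) θ ≠ 0 → ψ' = ψ)
    {ξ : L → ℂ} (hξ : IsIrrCharacter L ξ)
    (hξθ : classInner (fun z : Z => ξ ⟨z, hZL z.2⟩) θ ≠ 0) (g : G)
    (hg : ∀ n : L, ξ ⟨g * n * g⁻¹, hL.conj_mem (n : G) n.2 g⟩ = ξ n) : g ∈ L := by
  have h1 := card_inertia_of_unique Z L hZL hθ hψ huniq hξ hξθ
  rw [mult_one_of_cyclic L hcyc hψ hξ (under_of_unique Z L hZL hθ huniq hξ hξθ)] at h1
  have h2 : Nat.card (inertiaFn L ξ) = Nat.card L := by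
    have : (Nat.card (inertiaFn L ξ) : ℂ) = (Nat.card L : ℂ) := by rw [h1]; ring
    exact_mod_cast this
  have hLT : L ≤ inertiaFn L ξ := le_inertiaFn L (isClassFunction_irr hξ)
  have h3 : L = inertiaFn L ξ := Subgroup.eq_of_le_of_card_ge hLT (by rw [h2])
  rw [h3, mem_inertiaFn]
  funext n
  exact hg n

end Cfsg.Agent.Lib.Helper8.FV
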