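import Mathlib
import Cfsg.Agent.Lib.Helper8.FV1

set_option autoImplicit false

/-! DeMeyer–Janusz: a fully ramified character stays fully ramified (has a unique character
above) on subgroups of coprime index. -/

namespace Cfsg.Agent.Lib.Helper8.FV

open Cfsg Cfsg.Agent.Lib.Helper1 Cfsg.Agent.Lib.Helper4 Cfsg.Agent.Lib.Helper8 ComplexConjugate

universe u

theorem unique_over {H : Type u} [Group H] [Fintype H] (Z : Subgroup H) [hZ : Z.Normal]
    [Fintype Z]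
    {χ : H → ℂ} (hχ : IsIrrCharacter H χ) {θ : Z → ℂ} (hθ : IsIrrCharacter Z θ)
    (hθinv : ∀ (g : H) (n : Z), θ ⟨g * n * g⁻¹, hZ.conj_mem n n.2 g⟩ = θ n)
    (huniq : ∀ χ' : H → ℂ, IsIrrCharacter H χ' → classInner (fun z : Z => χ' z) θ ≠ 0 → χ' = χ)
    (e : ℕ) (he2 : e ^ 2 = Z.index) (hχ1 : χ 1 = e * θ 1)
    (S : Subgroup H) [Fintype S] (hZS : Z ≤ S) (hcop : Nat.Coprime (Z.relIndex S) S.index) :
    ∃ ψ : S → ℂ, IsIrrCharacter S ψ ∧ classInner (fun z : Z => ψ ⟨z, hZS z.2⟩) θ ≠ 0 ∧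
      ∀ ψ' : S → ℂ, IsIrrCharacter S ψ' →
        classInner (fun z : Z => ψ' ⟨z, hZS z.2⟩) θ ≠ 0 → ψ' = ψ := by
  classical
  haveI : Fintype (IrrCharacter S) := Fintype.ofFinite _
  haveI : Fintype (IrrCharacter H) := Fintype.ofFinite _
  haveI : Fintype (Z.subgroupOf S) := Fintype.ofFinite _
  obtain ⟨d, hdpos, hd⟩ := irr_apply_one_pos hθ
  have hd0 : (d : ℂ) ≠ 0 := Nat.cast_ne_zero.2 hdpos.ne'
  have hθ' : IsIrrCharacter (Z.subgroupOf S) (fun n : Z.subgroupOf S => θ ⟨(n : S), n.2⟩) :=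
    isIrrCharacter_comp_mulEquiv hθ (Subgroup.subgroupOfEquivOfLe hZS)
  have hθ'inv : ∀ (g : S) (n : Z.subgroupOf S),
      (fun n : Z.subgroupOf S => θ ⟨(n : S), n.2⟩)
        ⟨g * n * g⁻¹, (inferInstance : (Z.subgroupOf S).Normal).conj_mem n n.2 g⟩
      = (fun n : Z.subgroupOf S => θ ⟨(n : S), n.2⟩) n :=
    fun g n => hθinv (g : H) ⟨n, n.2⟩
  have hf : ∀ ψ₁ : IrrCharacter S, ∃ k : ℕ,
      classInner (fun z : Z => (ψ₁ : S → ℂ) ⟨z, hZS z.2⟩) θ = k := by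
    intro ψ₁
    have : IsCharacter Z (fun z : Z => (ψ₁ : S → ℂ) ⟨z, hZS z.2⟩) :=
      isCharacter_comp_hom (isCharacter_of_irr ψ₁.2) (Subgroup.inclusion hZS)
    exact classInner_char_irr_nat this hθ
  choose f hf using hf
  have hf' : ∀ ψ₁ : IrrCharacter S, classInner (fun n : Z.subgroupOf S => (ψ₁ : S → ℂ) n)
      (fun n : Z.subgroupOf S => θ ⟨(n : S), n.2⟩) = f ψ₁ := by
    intro ψ₁
    rw [← hf ψ₁]
    exact classInner_mulEquiv (Subgroup.subgroupOfEquivOfLe hZS)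
      (fun z : Z => (ψ₁ : S → ℂ) ⟨z, hZS z.2⟩) θ
  set s := Z.relIndex S with hs
  set t := S.index with ht
  have hst : s * t = e ^ 2 := by
    rw [he2, hs, ht]
    exact Subgroup.relIndex_mul_index hZS
  have hs0 : 0 < s := Nat.pos_of_ne_zero (by
    rw [hs]
    show (Z.subgroupOf S).index ≠ 0
    exact Subgroup.index_ne_zero_of_finite)
  have ht0 : 0 < t := Nat.pos_of_ne_zero Subgroup.index_ne_zero_of_finite
  -- sum formula
  have hsum : ∑ ψ₁ : IrrCharacter S, (f ψ₁) ^ 2 = s := by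
    have h1 := card_inertiaFn_eq_sum (Z.subgroupOf S) hθ'
    have htop : inertiaFn (Z.subgroupOf S) (fun n : Z.subgroupOf S => θ ⟨(n : S), n.2⟩) = ⊤ := by
      rw [eq_top_iff]
      intro g _
      rw [mem_inertiaFn]
      funext n
      exact hθ'inv g n
    rw [htop, Finset.sum_congr rfl fun ψ₁ _ => by rw [hf' ψ₁]] at h1
    have h2 : Nat.card (⊤ : Subgroup S) = Nat.card (Z.subgroupOf S) * s := by
      rw [Subgroup.card_top, hs]
      exact ((Z.subgroupOf S).card_mul_index).symm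
    rw [h2] at h1
    have hZ0 : (Nat.card (Z.subgroupOf S) : ℂ) ≠ 0 := Nat.cast_ne_zero.2 Nat.card_pos.ne'
    push_cast at h1
    have h3 := mul_left_cancel₀ hZ0 h1
    exact_mod_cast h3.symm
  -- key inequality
  have hkey : ∀ ψ₁ : IrrCharacter S, f ψ₁ ≠ 0 → s ≤ (f ψ₁) ^ 2 := by
    intro ψ₁ hne
    have hne' : classInner (fun n : Z.subgroupOf S => (ψ₁ : S → ℂ) n)
        (fun n : Z.subgroupOf S => θ ⟨(n : S), n.2⟩) ≠ 0 := by
      rw [hf' ψ₁]
      exact Nat.cast_ne_zero.2 hne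
    have hdeg : (ψ₁ : S → ℂ) 1 = f ψ₁ * d := by
      have := restrict_of_invariant (Z.subgroupOf S) _ hθ' hθ'inv (ψ₁ : S → ℂ) ψ₁.2 hne' 1
      rw [hf' ψ₁] at this
      have h1' : (ψ₁ : S → ℂ) 1 = f ψ₁ * θ ⟨(((1 : Z.subgroupOf S) : S) : H),
          (1 : Z.subgroupOf S).2⟩ := this
      have h2' : θ ⟨(((1 : Z.subgroupOf S) : S) : H), (1 : Z.subgroupOf S).2⟩ = θ 1 :=
        congrArg θ (Subtype.ext rfl)
      rw [h1', h2', hd]
    have hΨ : IsCharacter H (indFun S (ψ₁ : S → ℂ)) :=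
      Cfsg.Agent.S0148.result S _ (isCharacter_of_irr ψ₁.2)
    obtain ⟨c, hc⟩ := classInner_char_irr_nat hΨ hχ
    have hexp := class_function_expansion _ (isClassFunction_of_isCharacter hΨ)
    have h1 : indFun S (ψ₁ : S → ℂ) 1 = (c : ℂ) * χ 1 := by
      conv_lhs => rw [hexp]
      rw [Finset.sum_apply, Finset.sum_eq_single (⟨χ, hχ⟩ : IrrCharacter H)]
      · simp only [Pi.smul_apply, smul_eq_mul]
        rw [hc]
      · intro χ' _ hne2
        have h0 : classInner (indFun S (ψ₁ : S → ℂ)) (χ' : H → ℂ) = 0 := by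
          by_contra hcon
          apply hne2
          apply Subtype.ext
          apply huniq _ χ'.2
          rw [Cfsg.Agent.S0146.result S _ _ (isClassFunction_irr χ'.2)] at hcon
          have h5 : classInner (fun l : S => (χ' : H → ℂ) l) (ψ₁ : S → ℂ) ≠ 0 := by
            rw [← classInner_conj_symm]
            exact (map_ne_zero (starRingEnd ℂ)).2 hcon
          refine classInner_stage_ne_zero Z S hZS (isCharacter_of_irr χ'.2) ψ₁.2 hθ h5 ?_
          rw [hf ψ₁]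
          exact Nat.cast_ne_zero.2 hne
        simp only [Pi.smul_apply, smul_eq_mul]
        rw [h0, zero_mul]
      · intro h
        exact absurd (Finset.mem_univ _) h
    rw [Cfsg.Agent.Lib.Helper4.PF6.indFun_one_index, hdeg, hχ1, hd] at h1
    have h2 : t * f ψ₁ = c * e := by
      have : ((t * f ψ₁ : ℕ) : ℂ) * d = ((c * e : ℕ) : ℂ) * d := by
        push_cast
        linear_combination h1
      exact_mod_cast mul_right_cancel₀ hd0 this
    have h3 : t * (f ψ₁) ^ 2 = c ^ 2 * s := by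
      have h4 : t * (t * (f ψ₁) ^ 2) = t * (c ^ 2 * s) := by
        calc t * (t * (f ψ₁) ^ 2) = (t * f ψ₁) ^ 2 := by ring
          _ = (c * e) ^ 2 := by rw [h2]
          _ = c ^ 2 * e ^ 2 := by ring
          _ = t * (c ^ 2 * s) := by rw [← hst]; ring
      exact Nat.eq_of_mul_eq_mul_left ht0 h4
    have h5 : s ∣ (f ψ₁) ^ 2 := by
      apply hcop.dvd_of_dvd_mul_left
      rw [h3]
      exact dvd_mul_left _ _
    exact Nat.le_of_dvd (by positivity) h5
  -- existence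
  have hex : ∃ ψ₁ : IrrCharacter S, f ψ₁ ≠ 0 := by
    by_contra hcon
    push Not at hcon
    rw [Finset.sum_eq_zero (fun ψ₁ _ => by rw [hcon ψ₁]; rfl)] at hsum
    omega
  obtain ⟨ψ, hψ0⟩ := hex
  refine ⟨ψ, ψ.2, by rw [hf ψ]; exact Nat.cast_ne_zero.2 hψ0, ?_⟩
  intro ψ' hψ' hne
  by_contra hneq
  have hψ'0 : f ⟨ψ', hψ'⟩ ≠ 0 := by
    intro h
    apply hne
    rw [hf ⟨ψ', hψ'⟩, h]
    simp
  have hne2 : (⟨ψ', hψ'⟩ : IrrCharacter S) ≠ ψ := fun h => hneq (congrArg Subtype.val h)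
  have h1 : (f ψ) ^ 2 + (f ⟨ψ', hψ'⟩) ^ 2 ≤ ∑ ψ₁ : IrrCharacter S, (f ψ₁) ^ 2 := by
    have hp := Finset.sum_pair (f := fun ψ₁ : IrrCharacter S => (f ψ₁) ^ 2) hne2.symm
    rw [← hp]
    apply Finset.sum_le_sum_of_subset
    exact Finset.subset_univ _
  have h2 := hkey ψ hψ0
  have h3 := hkey _ hψ'0
  omega

end Cfsg.Agent.Lib.Helper8.FV
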