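import Mathlib

set_option autoImplicit false

/-! A normal subgroup whose index over `L` is prime to `p` lies in every subgroup containing `L`
on whose cosets a `p`-group acts transitively. -/

namespace Cfsg.Agent.Lib.Helper8.FV

open MulAction

theorem normal_le_of_transitive {N : Type*} [Group N] [Finite N] (p : ℕ) [Fact p.Prime]
    (M₀ D L S₀ : Subgroup N) [hD : D.Normal] (hS₀ : IsPGroup p S₀) (hLM : L ≤ M₀)
    (hcop : Nat.Coprime (L.relIndex D) p)
    (htrans : ∀ n : N, ∃ s ∈ S₀, s * n ∈ M₀) : D ≤ M₀ := by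
  classical
  set x₀ : N ⧸ M₀ := ((1 : N) : N ⧸ M₀) with hx₀
  -- the orbit of `S₀` is everything
  have horb : orbit S₀ x₀ = Set.univ := by
    rw [Set.eq_univ_iff_forall]
    intro q
    obtain ⟨n, rfl⟩ := QuotientGroup.mk_surjective q
    obtain ⟨s, hs, hsn⟩ := htrans n
    refine ⟨⟨s⁻¹, S₀.inv_mem hs⟩, ?_⟩
    show (s⁻¹ • x₀ : N ⧸ M₀) = (n : N ⧸ M₀)
    rw [hx₀]
    change ((s⁻¹ * 1 : N) : N ⧸ M₀) = (n : N ⧸ M₀)
    rw [QuotientGroup.eq]
    simpa using hsn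
  obtain ⟨k, hk⟩ := hS₀.card_orbit x₀
  have hcardX : Nat.card (N ⧸ M₀) = p ^ k := by
    rw [← hk, Nat.card_coe_set_eq, horb, Set.ncard_univ]
  -- the orbit of `D` is a block
  have hblock : IsBlock N (orbit D x₀) := IsBlock.orbit_of_normal x₀
  have hdvd : Set.ncard (orbit D x₀) ∣ p ^ k := by
    rw [← hcardX]
    exact hblock.ncard_dvd_card ⟨x₀, mem_orbit_self x₀⟩
  -- the orbit size divides `|D : L|`
  have hstab : (L.subgroupOf D) ≤ stabilizer D x₀ := by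
    intro d hd
    rw [mem_stabilizer_iff]
    show ((d : N) • x₀ : N ⧸ M₀) = x₀
    rw [hx₀]
    change (((d : N) * 1 : N) : N ⧸ M₀) = ((1 : N) : N ⧸ M₀)
    rw [QuotientGroup.eq]
    have : (d : N) ∈ M₀ := hLM hd
    simpa using M₀.inv_mem this
  have hdvd2 : Set.ncard (orbit D x₀) ∣ L.relIndex D := by
    rw [← index_stabilizer]
    exact Subgroup.index_dvd_of_le hstab
  have hone : Set.ncard (orbit D x₀) = 1 := by
    have h1 : Set.ncard (orbit D x₀) ∣ Nat.gcd (L.relIndex D) (p ^ k) := Nat.dvd_gcd hdvd2 hdvd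
    rw [Nat.Coprime.gcd_eq_one (Nat.Coprime.pow_right k hcop)] at h1
    exact Nat.dvd_one.1 h1
  intro d hd
  have hmem : ((⟨d, hd⟩ : D) • x₀) ∈ orbit D x₀ := mem_orbit x₀ _
  obtain ⟨y, hy⟩ := Set.ncard_eq_one.1 hone
  have h1 : ((⟨d, hd⟩ : D) • x₀) = y := by rw [hy] at hmem; exact hmem
  have h2 : x₀ = y := by
    have := mem_orbit_self (M := D) x₀
    rw [hy] at this
    exact this
  have h3 : ((d : N) • x₀ : N ⧸ M₀) = x₀ := h1.trans h2.symm
  rw [hx₀] at h3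
  change (((d : N) * 1 : N) : N ⧸ M₀) = ((1 : N) : N ⧸ M₀) at h3
  rw [QuotientGroup.eq] at h3
  have : d⁻¹ ∈ M₀ := by simpa using h3
  simpa using M₀.inv_mem this

end Cfsg.Agent.Lib.Helper8.FV
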