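import Mathlib
import Cfsg.Agent.Lib.Helper8.FV3
import Cfsg.Agent.Lib.Lead.CoprimeTools

set_option autoImplicit false

/-! Construction of a `p`-complement modulo a normal subgroup from a subgroup `M₀` of the
normalizer of `L = (S₀ ∩ K) Z` on whose cosets the Sylow subgroup `S₀` acts regularly. -/

namespace Cfsg.Agent.Lib.Helper8.FV

open Cfsg.Agent.Lib.Lead

variable {H : Type*} [Group H]

/-- Normalizers of `Q` normalize `Q ⊔ Z` for normal `Z`. -/
theorem normalizer_le_normalizer_sup (Q Z : Subgroup H) [hZ : Z.Normal] :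
    Subgroup.normalizer (Q : Set H) ≤ Subgroup.normalizer ((Q ⊔ Z : Subgroup H) : Set H) := by
  have key : ∀ n ∈ Subgroup.normalizer (Q : Set H), ∀ x ∈ Q ⊔ Z, n * x * n⁻¹ ∈ Q ⊔ Z := by
    intro n hn x hx
    have hx' : x ∈ ((Q ⊔ Z : Subgroup H) : Set H) := hx
    rw [Subgroup.mul_normal] at hx'
    obtain ⟨q, hq, z, hz, rfl⟩ := hx'
    have h1 : n * q * n⁻¹ ∈ Q := (Subgroup.mem_normalizer_iff.1 hn q).1 hq
    have h2 : n * z * n⁻¹ ∈ Z := hZ.conj_mem z hz n
    have : n * (q * z) * n⁻¹ = (n * q * n⁻¹) * (n * z * n⁻¹) := by group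
    rw [this]
    exact Subgroup.mul_mem_sup h1 h2
  intro n hn
  rw [Subgroup.mem_normalizer_iff]
  intro x
  constructor
  · exact key n hn x
  · intro hx
    have := key n⁻¹ (Subgroup.inv_mem _ hn) _ hx
    have h2 : n⁻¹ * (n * x * n⁻¹) * n⁻¹⁻¹ = x := by group
    rwa [h2] at this

/-- The intersection of a Sylow subgroup with a normal subgroup has index prime to `p`. -/
theorem not_dvd_relIndex_inf [Finite H] (p : ℕ) [Fact p.Prime] (S₀ : Sylow p H) (K : Subgroup H)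
    [hK : K.Normal] : ¬ p ∣ ((S₀ : Subgroup H) ⊓ K).relIndex K := by
  have hnorm : (S₀ : Subgroup H) ≤ Subgroup.normalizer (K : Set H) := by
    rw [Subgroup.normalizer_eq_top]
    exact le_top
  have h1 := card_sup_mul_card_inf (S₀ : Subgroup H) K hnorm
  have h2 : Nat.card (((S₀ : Subgroup H) ⊓ K : Subgroup H)) * ((S₀ : Subgroup H) ⊓ K).relIndex K
      = Nat.card K := by
    have := (((S₀ : Subgroup H) ⊓ K).subgroupOf K).card_mul_index
    rwa [Nat.card_congr (Subgroup.subgroupOfEquivOfLe (inf_le_right : (S₀ : Subgroup H) ⊓ K ≤ K)).toEquiv] at this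
  have h3 : Nat.card (S₀ : Subgroup H) * (S₀ : Subgroup H).index = Nat.card H :=
    Subgroup.card_mul_index _
  have h4 : Nat.card ((S₀ : Subgroup H) ⊔ K : Subgroup H)
      = Nat.card (S₀ : Subgroup H) * ((S₀ : Subgroup H) ⊓ K).relIndex K := by
    have hpos : 0 < Nat.card (((S₀ : Subgroup H) ⊓ K : Subgroup H)) := Nat.card_pos
    apply Nat.eq_of_mul_eq_mul_right hpos
    rw [h1, ← h2]
    ring
  have h5 : ((S₀ : Subgroup H) ⊓ K).relIndex K ∣ (S₀ : Subgroup H).index := by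
    have h6 : Nat.card ((S₀ : Subgroup H) ⊔ K : Subgroup H) ∣ Nat.card H :=
      Subgroup.card_subgroup_dvd_card _
    rw [h4, ← h3] at h6
    exact Nat.dvd_of_mul_dvd_mul_left Nat.card_pos h6
  intro hp
  exact S₀.not_dvd_index (hp.trans h5)

theorem exists_pcomplement [Finite H] (p : ℕ) [Fact p.Prime]
    (Z K : Subgroup H) [hZ : Z.Normal] [hK : K.Normal] (hZK : Z ≤ K)
    (S₀ : Sylow p H) (M₀ : Subgroup H)
    (hM₀N : M₀ ≤ Subgroup.normalizer (((((S₀ : Subgroup H) ⊓ K) ⊔ Z : Subgroup H)) : Set H))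
    (hLM₀ : ((S₀ : Subgroup H) ⊓ K) ⊔ Z ≤ M₀)
    (hM₀S : ∀ s ∈ (S₀ : Subgroup H), s ∈ M₀ → s ∈ K)
    (htrans : ∀ n ∈ Subgroup.normalizer (((((S₀ : Subgroup H) ⊓ K) ⊔ Z : Subgroup H)) : Set H),
      ∃ s ∈ (S₀ : Subgroup H), n * s⁻¹ ∈ M₀) :
    ∃ M : Subgroup H, K ≤ M ∧ (∀ h : H, ∃ m ∈ M, ∃ s ∈ (S₀ : Subgroup H), h = m * s) ∧
      ∀ s ∈ (S₀ : Subgroup H), s ∈ M → s ∈ K := by
  classical
  set Q : Subgroup H := (S₀ : Subgroup H) ⊓ K with hQ
  set L : Subgroup H := Q ⊔ Z with hL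
  set N : Subgroup H := Subgroup.normalizer (L : Set H) with hN
  have hQK : Q ≤ K := inf_le_right
  have hLK : L ≤ K := sup_le hQK hZK
  have hQL : Q ≤ L := le_sup_left
  have hpQ : ¬ p ∣ Q.relIndex K := not_dvd_relIndex_inf p S₀ K
  -- Frattini
  have hfrat : ∀ h : H, ∃ k ∈ K, ∃ n ∈ N, h = k * n := by
    intro h
    have hQp : IsPGroup p ((Q.subgroupOf K : Subgroup K)) := by
      have h1 : IsPGroup p Q := S₀.2.to_le inf_le_left
      exact h1.comap_subtype
    have hQi : ¬ p ∣ (Q.subgroupOf K).index := hpQ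
    let Q' : Sylow p K := hQp.toSylow hQi
    have h1 := Sylow.normalizer_sup_eq_top Q'
    have h2 : ((Q' : Subgroup K).map K.subtype) = Q := by
      show (Q.subgroupOf K).map K.subtype = Q
      rw [Subgroup.subgroupOf_map_subtype, inf_of_le_left hQK]
    rw [h2] at h1
    have h3 : h ∈ ((Subgroup.normalizer (Q : Set H) ⊔ K : Subgroup H) : Set H) := by
      rw [h1]; trivial
    rw [Subgroup.mul_normal] at h3
    obtain ⟨n, hn, k, hk, rfl⟩ := h3
    refine ⟨n * k * n⁻¹, hK.conj_mem k hk n, n, normalizer_le_normalizer_sup Q Z hn, by group⟩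
  -- `S₀ ≤ N`
  have hS₀N : (S₀ : Subgroup H) ≤ N := by
    intro s hs
    apply normalizer_le_normalizer_sup Q Z
    rw [Subgroup.mem_normalizer_iff]
    intro x
    constructor
    · intro hx
      exact ⟨(S₀ : Subgroup H).mul_mem ((S₀ : Subgroup H).mul_mem hs hx.1)
        ((S₀ : Subgroup H).inv_mem hs), hK.conj_mem x hx.2 s⟩
    · intro hx
      have h1 : s⁻¹ * (s * x * s⁻¹) * s ∈ (S₀ : Subgroup H) :=
        (S₀ : Subgroup H).mul_mem ((S₀ : Subgroup H).mul_mem ((S₀ : Subgroup H).inv_mem hs) hx.1) hs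
      have h2 : s⁻¹ * (s * x * s⁻¹) * s⁻¹⁻¹ ∈ K := hK.conj_mem _ hx.2 s⁻¹
      have e1 : s⁻¹ * (s * x * s⁻¹) * s = x := by group
      have e2 : s⁻¹ * (s * x * s⁻¹) * s⁻¹⁻¹ = x := by group
      rw [e1] at h1
      rw [e2] at h2
      exact ⟨h1, h2⟩
  -- `N ⊓ K ≤ M₀`
  have hD : ∀ x ∈ N, x ∈ K → x ∈ M₀ := by
    have hkey := normal_le_of_transitive (N := ↥N) p (M₀.subgroupOf N) (K.subgroupOf N)
      (L.subgroupOf N) ((S₀ : Subgroup H).subgroupOf N) (S₀.2.comap_subtype)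
      (fun x hx => hLM₀ hx) ?_ ?_
    · intro x hxN hxK
      exact hkey (show (⟨x, hxN⟩ : N) ∈ K.subgroupOf N from hxK)
    · -- coprimality
      have h1 : (L.subgroupOf N).relIndex (K.subgroupOf N) = L.relIndex (N ⊓ K) := by
        rw [← Subgroup.inf_subgroupOf_left K N, Subgroup.relIndex_subgroupOf inf_le_left]
      rw [h1]
      have hLNK : L ≤ N ⊓ K := le_inf (Subgroup.le_normalizer) hLK
      have h2 : L.relIndex (N ⊓ K) ∣ Q.relIndex K := by
        have e1 : L.relIndex (N ⊓ K) * (N ⊓ K).relIndex K = L.relIndex K :=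
          Subgroup.relIndex_mul_relIndex _ _ _ hLNK inf_le_right
        have e2 : Q.relIndex L * L.relIndex K = Q.relIndex K :=
          Subgroup.relIndex_mul_relIndex _ _ _ hQL hLK
        rw [← e2, ← e1]
        exact ⟨Q.relIndex L * (N ⊓ K).relIndex K, by ring⟩
      apply Nat.Coprime.symm
      rw [Nat.Prime.coprime_iff_not_dvd Fact.out]
      intro hp
      exact hpQ (hp.trans h2)
    · -- transitivity
      intro n
      obtain ⟨s, hs, hsn⟩ := htrans (n⁻¹ : N) (N.inv_mem n.2)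
      have h1 : s * (n : H) ∈ M₀ := by
        have := M₀.inv_mem hsn
        simpa [mul_inv_rev] using this
      have hsN : s ∈ N := hS₀N hs
      exact ⟨⟨s, hsN⟩, hs, h1⟩
  refine ⟨K ⊔ M₀, le_sup_left, ?_, ?_⟩
  · intro h
    obtain ⟨k, hk, n, hn, rfl⟩ := hfrat h
    obtain ⟨s, hs, hns⟩ := htrans n hn
    refine ⟨k * (n * s⁻¹), Subgroup.mul_mem_sup hk hns, s, hs, by group⟩
  · intro s hs hsM
    have hsM' : s ∈ ((K ⊔ M₀ : Subgroup H) : Set H) := hsM
    rw [Subgroup.normal_mul] at hsM'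
    obtain ⟨k, hk, m₀, hm₀, rfl⟩ := hsM'
    have hkN : k ∈ N := by
      have h1 : k * m₀ ∈ N := hS₀N hs
      have h2 : m₀ ∈ N := hM₀N hm₀
      have : k = (k * m₀) * m₀⁻¹ := by group
      rw [this]
      exact N.mul_mem h1 (N.inv_mem h2)
    have hkM₀ : k ∈ M₀ := hD k hkN hk
    exact hM₀S _ hs (M₀.mul_mem hkM₀ hm₀)

end Cfsg.Agent.Lib.Helper8.FV
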