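import Mathlib
import Cfsg.Agent.Lib.Helper8.FV1

set_option autoImplicit false

/-! Further type-level Clifford facts: restriction in stages (sum form) and inertia groups of
multiplicity-one constituents. -/

namespace Cfsg.Agent.Lib.Helper8.FV

open Cfsg Cfsg.Agent.Lib.Helper1 Cfsg.Agent.Lib.Helper4 Cfsg.Agent.Lib.Helper8 ComplexConjugate

universe u

variable {G : Type u} [Group G] [Fintype G] (Z L : Subgroup G) [Fintype Z] [Fintype L]

theorem classInner_stage_sum [Fintype (IrrCharacter L)] (hZL : Z ≤ L) {χ : G → ℂ}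
    (hχ : IsCharacter G χ) (θ : Z → ℂ) :
    classInner (fun z : Z => χ z) θ = ∑ η : IrrCharacter L,
      classInner (fun l : L => χ l) (η : L → ℂ) *
        classInner (fun z : Z => (η : L → ℂ) ⟨z, hZL z.2⟩) θ := by
  classical
  have hχL : IsCharacter L (fun l : L => χ l) := Cfsg.Agent.S0148.isCharacter_restrict L hχ
  have hexp := class_function_expansion _ (isClassFunction_of_isCharacter hχL)
  have h3 : (fun z : Z => χ z) = ∑ η : IrrCharacter L,
      classInner (fun l : L => χ l) (η : L → ℂ) • (fun z : Z => (η : L → ℂ) ⟨z, hZL z.2⟩) := by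
    funext z
    have := congrFun hexp ⟨z, hZL z.2⟩
    simp only [Finset.sum_apply, Pi.smul_apply] at this ⊢
    exact this
  conv_lhs => rw [h3]
  rw [classInner_sum_left]
  simp only [classInner_smul_left]

theorem exists_over (hZL : Z ≤ L) {χ : G → ℂ} (hχ : IsCharacter G χ) (θ : Z → ℂ)
    (h : classInner (fun z : Z => χ z) θ ≠ 0) :
    ∃ ξ : IrrCharacter L, classInner (fun l : L => χ l) (ξ : L → ℂ) ≠ 0 ∧
      classInner (fun z : Z => (ξ : L → ℂ) ⟨z, hZL z.2⟩) θ ≠ 0 := by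
  classical
  haveI : Fintype (IrrCharacter L) := Fintype.ofFinite _
  by_contra hcon
  push Not at hcon
  apply h
  rw [classInner_stage_sum Z L hZL hχ θ]
  apply Finset.sum_eq_zero
  intro η _
  by_cases h1 : classInner (fun l : L => χ l) (η : L → ℂ) = 0
  · rw [h1, zero_mul]
  · rw [hcon η h1, mul_zero]

theorem inertia_le_of_mult_one [hL : L.Normal] (hZL : Z ≤ L) {θ : Z → ℂ}
    (hθ : IsIrrCharacter Z θ) {ψ : G → ℂ} (hψ : IsIrrCharacter G ψ)
    (huniq : ∀ ψ' : G → ℂ, IsIrrCharacter G ψ' → classInner (fun z : Z => ψ' z) θ ≠ 0 → ψ' = ψ)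
    {ξ : L → ℂ} (hξ : IsIrrCharacter L ξ)
    (hξθ : classInner (fun z : Z => ξ ⟨z, hZL z.2⟩) θ ≠ 0)
    (hone : classInner (fun l : L => ψ l) ξ = 1) (g : G)
    (hg : ∀ n : L, ξ ⟨g * n * g⁻¹, hL.conj_mem (n : G) n.2 g⟩ = ξ n) : g ∈ L := by
  have h1 := card_inertia_of_unique Z L hZL hθ hψ huniq hξ hξθ
  rw [hone] at h1
  have h2 : Nat.card (inertiaFn L ξ) = Nat.card L := by
    have : (Nat.card (inertiaFn L ξ) : ℂ) = (Nat.card L : ℂ) := by rw [h1]; ring
    exact_mod_cast this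
  have hLT : L ≤ inertiaFn L ξ := le_inertiaFn L (isClassFunction_irr hξ)
  have h3 : L = inertiaFn L ξ := Subgroup.eq_of_le_of_card_ge hLT (by rw [h2])
  rw [h3, mem_inertiaFn]
  funext n
  exact hg n

end Cfsg.Agent.Lib.Helper8.FV
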