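import Mathlib
import Cfsg.Agent.Lib.Helper8.FV2
import Cfsg.Agent.Lib.Helper8.FV4
import Cfsg.Agent.Lib.Helper8.FV5

set_option autoImplicit false

/-! A `p`-complement modulo `K` for a fully ramified character, given a multiplicity-one
constituent on `L = (S₀ ∩ K) Z`. -/

namespace Cfsg.Agent.Lib.Helper8.FV

open Cfsg Cfsg.Agent.Lib.Helper1 Cfsg.Agent.Lib.Helper4 Cfsg.Agent.Lib.Helper8 ComplexConjugate

universe u

variable {H : Type u} [Group H]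

theorem normalizes_of_normal' (K : Subgroup H) [hK : K.Normal] (g : H) : Normalizes g K := by
  intro x
  constructor
  · intro hx
    exact hK.conj_mem x hx g
  · intro hx
    have := hK.conj_mem _ hx g⁻¹
    simpa [mul_assoc] using this

theorem exists_pcomplement' [Finite H] (p : ℕ) [Fact p.Prime]
    (Z K : Subgroup H) [hZ : Z.Normal] [hK : K.Normal] (hZK : Z ≤ K)
    (S₀ : Sylow p H) (L : Subgroup H) (hL : L = ((S₀ : Subgroup H) ⊓ K) ⊔ Z) (M₀ : Subgroup H)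
    (hM₀N : M₀ ≤ Subgroup.normalizer (L : Set H))
    (hLM₀ : L ≤ M₀)
    (hM₀S : ∀ s ∈ (S₀ : Subgroup H), s ∈ M₀ → s ∈ K)
    (htrans : ∀ n ∈ Subgroup.normalizer (L : Set H), ∃ s ∈ (S₀ : Subgroup H), n * s⁻¹ ∈ M₀) :
    ∃ M : Subgroup H, K ≤ M ∧ (∀ h : H, ∃ m ∈ M, ∃ s ∈ (S₀ : Subgroup H), h = m * s) ∧
      ∀ s ∈ (S₀ : Subgroup H), s ∈ M → s ∈ K := by
  subst hL
  exact exists_pcomplement p Z K hZK S₀ M₀ hM₀N hLM₀ hM₀S htrans

/-- The stabilizer of a function on `L` in the normalizer of `L`. -/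
def stabSub (L : Subgroup H) (ξ : L → ℂ) : Subgroup H where
  carrier := {n | Normalizes n L ∧ InvElt n L ξ}
  mul_mem' := by
    intro a b ha hb
    exact ⟨ha.1.mul hb.1, InvElt.mul hb.1 ha.2 hb.2⟩
  one_mem' := ⟨Normalizes.one L, InvElt.one L ξ⟩
  inv_mem' := by
    intro a ha
    exact ⟨ha.1.inv, ha.2.inv ha.1⟩

theorem mem_stabSub {L : Subgroup H} {ξ : L → ℂ} {n : H} :
    n ∈ stabSub L ξ ↔ Normalizes n L ∧ InvElt n L ξ := Iff.rfl

theorem complement_of_mult_one [Fintype H] (Z K : Subgroup H) [hZ : Z.Normal] [hK : K.Normal]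
    [Fintype Z] (hZK : Z ≤ K)
    {χ : H → ℂ} (hχ : IsIrrCharacter H χ) {θ : Z → ℂ} (hθ : IsIrrCharacter Z θ)
    (hθinv : ∀ (g : H) (n : Z), θ ⟨g * n * g⁻¹, hZ.conj_mem n n.2 g⟩ = θ n)
    (huniq : ∀ χ' : H → ℂ, IsIrrCharacter H χ' → classInner (fun z : Z => χ' z) θ ≠ 0 → χ' = χ)
    (e : ℕ) (he2 : e ^ 2 = Z.index) (hχ1 : χ 1 = e * θ 1)
    (p : ℕ) [Fact p.Prime] (S₀ : Sylow p H)
    (S L : Subgroup H) (hS : S = (S₀ : Subgroup H) ⊔ Z)
    (hL : L = ((S₀ : Subgroup H) ⊓ K) ⊔ Z) [Fintype S] [Fintype L]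
    (hZS : Z ≤ S) (hZL : Z ≤ L) (hLS : L ≤ S)
    (hkey : ∀ ψ : S → ℂ, IsIrrCharacter S ψ →
      classInner (fun z : Z => ψ ⟨z, hZS z.2⟩) θ ≠ 0 →
      ∃ ξ : L → ℂ, IsIrrCharacter L ξ ∧ classInner (fun z : Z => ξ ⟨z, hZL z.2⟩) θ ≠ 0 ∧
        classInner (fun l : L => ψ ⟨l, hLS l.2⟩) ξ = 1) :
    ∃ M : Subgroup H, K ≤ M ∧ (∀ h : H, ∃ m ∈ M, ∃ s ∈ (S₀ : Subgroup H), h = m * s) ∧
      ∀ s ∈ (S₀ : Subgroup H), s ∈ M → s ∈ K := by
  classical
  haveI : Fintype (Z.subgroupOf S) := Fintype.ofFinite _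
  haveI : Fintype (L.subgroupOf S) := Fintype.ofFinite _
  have hS₀S : (S₀ : Subgroup H) ≤ S := by rw [hS]; exact le_sup_left
  have hLK : L ≤ K := by rw [hL]; exact sup_le inf_le_right hZK
  have hded : ∀ x ∈ S, x ∈ K → x ∈ L := by
    intro x hxS hxK
    rw [hS] at hxS
    have hx' : x ∈ (((S₀ : Subgroup H) ⊔ Z : Subgroup H) : Set H) := hxS
    rw [Subgroup.mul_normal] at hx'
    obtain ⟨s, hs, z, hz, rfl⟩ := hx'
    have hsK : s ∈ K := by
      have : s = (s * z) * z⁻¹ := by group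
      rw [this]
      exact K.mul_mem hxK (K.inv_mem (hZK hz))
    rw [hL]
    exact Subgroup.mul_mem_sup ⟨hs, hsK⟩ hz
  have hLn : (L.subgroupOf S).Normal := by
    have : L.subgroupOf S = K.subgroupOf S := by
      ext x
      simp only [Subgroup.mem_subgroupOf]
      exact ⟨fun h => hLK h, fun h => hded x x.2 h⟩
    rw [this]
    infer_instance
  have hcop : Nat.Coprime (Z.relIndex S) S.index := by
    have h1 : Z.relIndex S = (Z.subgroupOf (S₀ : Subgroup H)).index := by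
      rw [hS, Subgroup.relIndex_sup_right]
      rfl
    obtain ⟨k, hk⟩ := IsPGroup.index S₀.2 (Z.subgroupOf (S₀ : Subgroup H))
    rw [h1, hk]
    apply Nat.Coprime.pow_left
    rw [Nat.Prime.coprime_iff_not_dvd Fact.out]
    intro hp
    exact S₀.not_dvd_index (hp.trans (Subgroup.index_dvd_of_le hS₀S))
  obtain ⟨ψ, hψ, hψθ, huniqS⟩ := unique_over Z hχ hθ hθinv huniq e he2 hχ1 S hZS hcop
  obtain ⟨ξ, hξ, hξθ, hone⟩ := hkey ψ hψ hψθ
  have hθ' : IsIrrCharacter (Z.subgroupOf S) (fun n : Z.subgroupOf S => θ ⟨(n : S), n.2⟩) :=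
    isIrrCharacter_comp_mulEquiv hθ (Subgroup.subgroupOfEquivOfLe hZS)
  have hξ' : IsIrrCharacter (L.subgroupOf S) (fun n : L.subgroupOf S => ξ ⟨(n : S), n.2⟩) :=
    isIrrCharacter_comp_mulEquiv hξ (Subgroup.subgroupOfEquivOfLe hLS)
  have hZL' : Z.subgroupOf S ≤ L.subgroupOf S := fun x hx => hZL hx
  have huniqS' : ∀ ψ' : S → ℂ, IsIrrCharacter S ψ' →
      classInner (fun z : Z.subgroupOf S => ψ' z) (fun n : Z.subgroupOf S => θ ⟨(n : S), n.2⟩) ≠ 0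
      → ψ' = ψ := by
    intro ψ' hψ' hne
    apply huniqS ψ' hψ'
    rw [← classInner_mulEquiv (Subgroup.subgroupOfEquivOfLe hZS)
      (fun z : Z => ψ' ⟨z, hZS z.2⟩) θ]
    exact hne
  have hover' : ∀ (ξ₂ : L → ℂ), classInner (fun z : Z => ξ₂ ⟨z, hZL z.2⟩) θ ≠ 0 →
      classInner (fun z : Z.subgroupOf S =>
        (fun n : L.subgroupOf S => ξ₂ ⟨(n : S), n.2⟩) ⟨z, hZL' z.2⟩)
        (fun n : Z.subgroupOf S => θ ⟨(n : S), n.2⟩) ≠ 0 := by
    intro ξ₂ h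
    rw [← classInner_mulEquiv (Subgroup.subgroupOfEquivOfLe hZS)
      (fun z : Z => ξ₂ ⟨z, hZL z.2⟩) θ] at h
    exact h
  have hone' : classInner (fun l : L.subgroupOf S => ψ l)
      (fun n : L.subgroupOf S => ξ ⟨(n : S), n.2⟩) = 1 := by
    rw [← hone, ← classInner_mulEquiv (Subgroup.subgroupOfEquivOfLe hLS)
      (fun l : L => ψ ⟨l, hLS l.2⟩) ξ]
    rfl
  have hin := inertia_le_of_mult_one (Z.subgroupOf S) (L.subgroupOf S) hZL' hθ' hψ huniqS' hξ'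
    (hover' ξ hξθ) hone'
  have hLstab : L ≤ stabSub L ξ := by
    intro l hl
    refine ⟨normalizes_of_mem hl, ?_⟩
    intro g g' hg
    have : g' = ⟨l, hl⟩ * g * (⟨l, hl⟩ : L)⁻¹ := Subtype.ext (by simp [hg])
    rw [this]
    exact isClassFunction_irr hξ g ⟨l, hl⟩
  refine exists_pcomplement' p Z K hZK S₀ L hL (stabSub L ξ) ?_ hLstab ?_ ?_
  · intro n hn
    rw [Subgroup.mem_normalizer_iff]
    exact fun h => hn.1 h
  · intro s hs hsM
    have hsS := hS₀S hs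
    have h1 := hin ⟨s, hsS⟩ (fun n => hsM.2 ⟨(n : S), n.2⟩ ⟨_, _⟩ rfl)
    exact hLK h1
  · intro n hn
    have hnL : Normalizes n L := fun g => (Subgroup.mem_normalizer_iff.1 hn g)
    have hnZ : Normalizes n Z := normalizes_of_normal' Z n
    have hξ₂ : IsIrrCharacter L (conjChar hnL ξ) := isIrrCharacter_conjChar hnL hξ
    have hξ₂θ : classInner (fun z : Z => conjChar hnL ξ ⟨z, hZL z.2⟩) θ ≠ 0 := by
      have h1 := classInner_conjChar hZL hnL hnZ ξ θ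
      have h2 : conjChar hnZ θ = θ := by
        funext z
        exact hθinv n z
      rw [h2] at h1
      rw [h1]
      exact hξθ
    have hξ₂' : IsIrrCharacter (L.subgroupOf S)
        (fun n : L.subgroupOf S => conjChar hnL ξ ⟨(n : S), n.2⟩) :=
      isIrrCharacter_comp_mulEquiv hξ₂ (Subgroup.subgroupOfEquivOfLe hLS)
    have hc₂ := under_of_unique (Z.subgroupOf S) (L.subgroupOf S) hZL' hθ' huniqS' hξ₂'
      (hover' _ hξ₂θ)
    have hc₁ : classInner (fun l : L.subgroupOf S => ψ l)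
        (fun n : L.subgroupOf S => ξ ⟨(n : S), n.2⟩) ≠ 0 := by
      rw [hone']
      exact one_ne_zero
    obtain ⟨g, hg⟩ := conj_of_under (L.subgroupOf S) hψ hξ' hξ₂' hc₁ hc₂
    have hgL : Normalizes (g : H) L := by
      intro x
      constructor
      · intro hx
        exact hLn.conj_mem ⟨x, hLS hx⟩ hx g
      · intro hx
        have hxS : x ∈ S := by
          have h1 : (g : H)⁻¹ * ((g : H) * x * (g : H)⁻¹) * (g : H) ∈ S :=
            S.mul_mem (S.mul_mem (S.inv_mem g.2) (hLS hx)) g.2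
          have e : (g : H)⁻¹ * ((g : H) * x * (g : H)⁻¹) * (g : H) = x := by group
          rwa [e] at h1
        have h2 := hLn.conj_mem ⟨(g : H) * x * (g : H)⁻¹, hLS hx⟩ hx g⁻¹
        have h3 : (((g⁻¹ * (⟨(g : H) * x * (g : H)⁻¹, hLS hx⟩ : S) * g⁻¹⁻¹ : S)) : H)
            = x := by
          simp only [Subgroup.coe_mul, Subgroup.coe_inv]
          group
        rw [Subgroup.mem_subgroupOf, h3] at h2
        exact h2
    have hstar : ∀ (x : H) (hx : x ∈ L) (h1 : n * x * n⁻¹ ∈ L) (h2 : (g : H) * x * (g : H)⁻¹ ∈ L),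
        ξ ⟨n * x * n⁻¹, h1⟩ = ξ ⟨(g : H) * x * (g : H)⁻¹, h2⟩ := by
      intro x hx h1 h2
      exact congrFun hg ⟨⟨x, hLS hx⟩, hx⟩
    have hgS : (g : H) ∈ (((S₀ : Subgroup H) ⊔ Z : Subgroup H) : Set H) := by
      rw [← hS]
      exact g.2
    rw [Subgroup.mul_normal] at hgS
    obtain ⟨s₀, hs₀, z, hz, hsz⟩ := hgS
    refine ⟨s₀, hs₀, ?_⟩
    have h1 : n * (g : H)⁻¹ ∈ stabSub L ξ := by
      refine ⟨hnL.mul hgL.inv, ?_⟩
      intro a a' ha
      have hb : (g : H)⁻¹ * (a : H) * (g : H)⁻¹⁻¹ ∈ L := (hgL.inv (a : H)).1 a.2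
      have e1 : a' = ⟨n * ((g : H)⁻¹ * (a : H) * (g : H)⁻¹⁻¹) * n⁻¹, (hnL _).1 hb⟩ := by
        apply Subtype.ext
        rw [ha]
        group
      have e2 : a = ⟨(g : H) * ((g : H)⁻¹ * (a : H) * (g : H)⁻¹⁻¹) * (g : H)⁻¹,
          (hgL _).1 hb⟩ := by
        apply Subtype.ext
        show (a : H) = (g : H) * ((g : H)⁻¹ * (a : H) * (g : H)⁻¹⁻¹) * (g : H)⁻¹
        group
      rw [e1, hstar _ hb _ ((hgL _).1 hb), ← e2]
    have h2 : (g : H) * s₀⁻¹ ∈ stabSub L ξ := by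
      apply hLstab
      apply hZL
      rw [← hsz]
      have : s₀ * z * s₀⁻¹ ∈ Z := hZ.conj_mem z hz s₀
      exact this
    have e : n * s₀⁻¹ = (n * (g : H)⁻¹) * ((g : H) * s₀⁻¹) := by group
    rw [e]
    exact (stabSub L ξ).mul_mem h1 h2

end Cfsg.Agent.Lib.Helper8.FV
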