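import Mathlib
import Cfsg.Agent.Lib.Helper8.FV6

set_option autoImplicit false

/-! Glue lemmas for the `p`-complement construction. -/

namespace Cfsg.Agent.Lib.Helper8.FV

open Cfsg Cfsg.Agent.Lib.Helper1 Cfsg.Agent.Lib.Helper4 Cfsg.Agent.Lib.Helper8 ComplexConjugate

universe u

variable {H : Type u} [Group H]

theorem mem_L_of_mem (Z K : Subgroup H) [hZ : Z.Normal] (hZK : Z ≤ K) (S₀ S L : Subgroup H)
    (hS : S = S₀ ⊔ Z) (hL : L = (S₀ ⊓ K) ⊔ Z) {x : H} (hxS : x ∈ S) (hxK : x ∈ K) : x ∈ L := by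
  rw [hS] at hxS
  have hx' : x ∈ ((S₀ ⊔ Z : Subgroup H) : Set H) := hxS
  rw [Subgroup.mul_normal] at hx'
  obtain ⟨s, hs, z, hz, rfl⟩ := hx'
  have hsK : s ∈ K := by
    have : s = (s * z) * z⁻¹ := by group
    rw [this]
    exact K.mul_mem hxK (K.inv_mem (hZK hz))
  rw [hL]
  exact Subgroup.mul_mem_sup ⟨hs, hsK⟩ hz

theorem normal_L_subgroupOf (Z K : Subgroup H) [hZ : Z.Normal] [hK : K.Normal] (hZK : Z ≤ K)
    (S₀ S L : Subgroup H) (hS : S = S₀ ⊔ Z) (hL : L = (S₀ ⊓ K) ⊔ Z) :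
    (L.subgroupOf S).Normal := by
  have hLK : L ≤ K := by rw [hL]; exact sup_le inf_le_right hZK
  have : L.subgroupOf S = K.subgroupOf S := by
    ext x
    simp only [Subgroup.mem_subgroupOf]
    exact ⟨fun h => hLK h, fun h => mem_L_of_mem Z K hZK S₀ S L hS hL x.2 h⟩
  rw [this]
  infer_instance

/-- Transfer of a multiplicity-one constituent from the type-level to the ambient form. -/
theorem hkey_transfer (Z S L : Subgroup H) [Fintype Z] [Fintype S] [Fintype L]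
    [Fintype (Z.subgroupOf S)] [Fintype (L.subgroupOf S)]
    (hZS : Z ≤ S) (hZL : Z ≤ L) (hLS : L ≤ S) (hZL' : Z.subgroupOf S ≤ L.subgroupOf S)
    (θ : Z → ℂ) (ψ : S → ℂ)
    (ξ' : L.subgroupOf S → ℂ) (hξ' : IsIrrCharacter (L.subgroupOf S) ξ')
    (hone : classInner (fun l : L.subgroupOf S => ψ l) ξ' = 1)
    (hover : classInner (fun z : Z.subgroupOf S => ξ' ⟨z, hZL' z.2⟩)
      (fun n : Z.subgroupOf S => θ ⟨(n : S), n.2⟩) ≠ 0) :
    ∃ ξ : L → ℂ, IsIrrCharacter L ξ ∧ classInner (fun z : Z => ξ ⟨z, hZL z.2⟩) θ ≠ 0 ∧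
      classInner (fun l : L => ψ ⟨l, hLS l.2⟩) ξ = 1 := by
  refine ⟨fun l : L => ξ' ⟨⟨l, hLS l.2⟩, l.2⟩, ?_, ?_, ?_⟩
  · exact isIrrCharacter_comp_mulEquiv hξ' (Subgroup.subgroupOfEquivOfLe hLS).symm
  · rw [← classInner_mulEquiv (Subgroup.subgroupOfEquivOfLe hZS)
      (fun z : Z => (fun l : L => ξ' ⟨⟨l, hLS l.2⟩, l.2⟩) ⟨z, hZL z.2⟩) θ]
    exact hover
  · rw [← hone, ← classInner_mulEquiv (Subgroup.subgroupOfEquivOfLe hLS)
      (fun l : L => ψ ⟨l, hLS l.2⟩) (fun l : L => ξ' ⟨⟨l, hLS l.2⟩, l.2⟩)]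
    rfl

/-- From the subgroup `M` to a complement in the quotient. -/
theorem isComplement'_map (K : Subgroup H) [hK : K.Normal] (S₀ M : Subgroup H) (hKM : K ≤ M)
    (hprod : ∀ h : H, ∃ m ∈ M, ∃ s ∈ S₀, h = m * s) (hint : ∀ s ∈ S₀, s ∈ M → s ∈ K) :
    (M.map (QuotientGroup.mk' K)).IsComplement' (S₀.map (QuotientGroup.mk' K)) := by
  apply Subgroup.isComplement'_of_disjoint_and_mul_eq_univ
  · rw [Subgroup.disjoint_def]
    intro x hxM hxS
    obtain ⟨m, hm, rfl⟩ := hxM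
    obtain ⟨s, hs, hsm⟩ := hxS
    have h1 : m⁻¹ * s ∈ K := by
      rw [← QuotientGroup.eq]
      exact hsm.symm
    have h2 : s ∈ M := by
      have : s = m * (m⁻¹ * s) := by group
      rw [this]
      exact M.mul_mem hm (hKM h1)
    have h3 : s ∈ K := hint s hs h2
    rw [← hsm]
    exact (QuotientGroup.eq_one_iff s).2 h3
  · rw [Set.eq_univ_iff_forall]
    intro q
    obtain ⟨h, rfl⟩ := QuotientGroup.mk_surjective q
    obtain ⟨m, hm, s, hs, rfl⟩ := hprod h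
    exact ⟨QuotientGroup.mk' K m, ⟨m, hm, rfl⟩, QuotientGroup.mk' K s, ⟨s, hs, rfl⟩, rfl⟩

end Cfsg.Agent.Lib.Helper8.FV
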