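import Mathlib
import Cfsg.Agent.Lib.Helper8.FV7
import Cfsg.Agent.S0900

set_option autoImplicit false

/-! Degree and multiplicity bookkeeping for the induced case of the `p`-complement
construction. -/

namespace Cfsg.Agent.Lib.Helper8.FV

open Cfsg Cfsg.Agent.Lib.Helper1 Cfsg.Agent.Lib.Helper4 Cfsg.Agent.Lib.Helper8 ComplexConjugate

universe u

section typelevel

variable {G : Type u} [Group G] [Fintype G] (Z L : Subgroup G) [hL : L.Normal]
  [Fintype Z] [Fintype L]

/-- Multiplicity and degrees below a unique character. -/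
theorem mult_degree_of_unique (hZL : Z ≤ L) {θ : Z → ℂ} (hθ : IsIrrCharacter Z θ) {ψ : G → ℂ}
    (hψ : IsIrrCharacter G ψ)
    (huniq : ∀ ψ' : G → ℂ, IsIrrCharacter G ψ' → classInner (fun z : Z => ψ' z) θ ≠ 0 → ψ' = ψ)
    {ξ : L → ℂ} (hξ : IsIrrCharacter L ξ)
    (hξθ : classInner (fun z : Z => ξ ⟨z, hZL z.2⟩) θ ≠ 0) :
    ∃ n : ℕ, n ≠ 0 ∧ classInner (fun l : L => ψ l) ξ = n ∧
      (n : ℂ) * (Nat.card L : ℂ) * ψ 1 = (Nat.card G : ℂ) * ξ 1 ∧
      n ^ 2 * Nat.card L ∣ Nat.card G := by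
  have hc := under_of_unique Z L hZL hθ huniq hξ hξθ
  obtain ⟨n, hn⟩ := classInner_char_irr_nat
    (Cfsg.Agent.S0148.isCharacter_restrict L (isCharacter_of_irr hψ)) hξ
  have hn0 : n ≠ 0 := by
    rintro rfl
    apply hc
    rw [hn]
    simp
  have hnC : (n : ℂ) ≠ 0 := Nat.cast_ne_zero.2 hn0
  have h1 := card_inertia_of_unique Z L hZL hθ hψ huniq hξ hξθ
  have h2 := card_inertiaFn_mul_degree L hψ hξ hc
  rw [hn] at h1 h2
  refine ⟨n, hn0, hn, ?_, ?_⟩
  · rw [h1] at h2
    have h3 : (n : ℂ) * ((n : ℂ) * (Nat.card L : ℂ) * ψ 1) = (n : ℂ) * ((Nat.card G : ℂ) * ξ 1) := by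
      linear_combination h2
    exact mul_left_cancel₀ hnC h3
  · have h3 : Nat.card (inertiaFn L ξ) = n ^ 2 * Nat.card L := by
      have : (Nat.card (inertiaFn L ξ) : ℂ) = ((n ^ 2 * Nat.card L : ℕ) : ℂ) := by
        rw [h1]; push_cast; ring
      exact_mod_cast this
    rw [← h3]
    exact Subgroup.card_subgroup_dvd_card _

end typelevel

section ramified

variable {G : Type u} [Group G] [Fintype G] (N : Subgroup G) [hN : N.Normal] [Fintype N]

/-- A unique character over an invariant character is fully ramified. -/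
theorem ramified_of_unique {θ : N → ℂ} (hθ : IsIrrCharacter N θ) {ψ : G → ℂ}
    (hψ : IsIrrCharacter G ψ)
    (hθinv : ∀ (g : G) (n : N), θ ⟨g * n * g⁻¹, hN.conj_mem (n : G) n.2 g⟩ = θ n)
    (hcon : classInner (fun n : N => ψ n) θ ≠ 0)
    (huniq : ∀ ψ' : G → ℂ, IsIrrCharacter G ψ' → classInner (fun z : N => ψ' z) θ ≠ 0 → ψ' = ψ) :
    ∃ f : ℕ, (fun n : N => ψ n) = (f : ℂ) • θ ∧ f ^ 2 = N.index := by
  have h900 := Cfsg.Agent.S0900.result N ψ hψ θ hθ hcon
  apply h900.2.2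
  intro g n
  refine ⟨hθinv g n, ?_⟩
  intro ψ' hψ' hne
  apply huniq ψ' hψ'
  rw [Cfsg.Agent.S0146.result N θ ψ' (isClassFunction_irr hψ'), ← classInner_conj_symm] at hne
  intro h0
  apply hne
  rw [h0, map_zero]

end ramified

section ambient

variable {H : Type u} [Group H] [Fintype H]

/-- An irreducible constituent of the restriction of a character of the normal subgroup `K` is a
constituent of the restriction of the induced character. -/
theorem constituent_of_induced (K : Subgroup H) [hK : K.Normal] [Fintype K]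
    (L : Subgroup H) [Fintype L] (hLK : L ≤ K) {φ : K → ℂ} (hφ : IsCharacter K φ) {η : L → ℂ}
    (hη : IsIrrCharacter L η)
    (h : classInner (fun l : L => φ ⟨l, hLK l.2⟩) η ≠ 0) :
    classInner (fun l : L => indFun K φ l) η ≠ 0 := by
  classical
  have hK0 : (Nat.card K : ℂ) ≠ 0 := Nat.cast_ne_zero.2 Nat.card_pos.ne'
  have h1 : (fun l : L => indFun K φ l) = (Nat.card K : ℂ)⁻¹ •
      ∑ g : H, (fun l : L => conjFn K φ g ⟨l, hLK l.2⟩) := by
    funext l
    have := indFun_normal_apply K φ ⟨l, hLK l.2⟩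
    simp only [Pi.smul_apply, Finset.sum_apply, smul_eq_mul]
    exact this
  have h2 : ∀ g : H, ∃ m : ℕ,
      classInner (fun l : L => conjFn K φ g ⟨l, hLK l.2⟩) η = m := by
    intro g
    have hc1 : IsCharacter K (conjFn K φ g) :=
      isCharacter_comp_hom hφ ((MulAut.conjNormal g : K ≃* K) : K →* K)
    have hc2 : IsCharacter L (fun l : L => conjFn K φ g ⟨l, hLK l.2⟩) :=
      isCharacter_comp_hom hc1 (Subgroup.inclusion hLK)
    exact classInner_char_irr_nat hc2 hη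
  choose m hm using h2
  rw [h1, classInner_smul_left, classInner_sum_left]
  apply mul_ne_zero (inv_ne_zero hK0)
  simp only [hm]
  have h3 : m 1 ≠ 0 := by
    intro h0
    apply h
    have := hm 1
    rw [conjFn_one, h0] at this
    rw [this]
    simp
  have h4 : m 1 ≤ ∑ g : H, m g := Finset.single_le_sum (fun _ _ => Nat.zero_le _)
    (Finset.mem_univ 1)
  have h5 : (∑ g : H, m g) ≠ 0 := by omega
  exact_mod_cast h5

/-- Constituents of the restriction of a character homogeneous over `θ` lie over `θ`. -/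
theorem over_of_constituent (Z L : Subgroup H) [Fintype Z] [Fintype L] (hZL : Z ≤ L)
    {χ : H → ℂ} (hχ : IsCharacter H χ) {θ : Z → ℂ} (hθ : IsIrrCharacter Z θ) (e : ℂ)
    (hres : (fun n : Z => χ n) = e • θ) {η : L → ℂ} (hη : IsIrrCharacter L η)
    (h : classInner (fun l : L => χ l) η ≠ 0) :
    classInner (fun z : Z => η ⟨z, hZL z.2⟩) θ ≠ 0 := by
  have hηZ : IsCharacter Z (fun z : Z => η ⟨z, hZL z.2⟩) :=
    isCharacter_comp_hom (isCharacter_of_irr hη) (Subgroup.inclusion hZL)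
  obtain ⟨d, hdpos, hd⟩ := irr_apply_one_pos hη
  have h1 : (fun z : Z => η ⟨z, hZL z.2⟩) 1 ≠ 0 := by
    show η ⟨((1 : Z) : H), _⟩ ≠ 0
    have : (⟨((1 : Z) : H), hZL (1 : Z).2⟩ : L) = 1 := rfl
    rw [this, hd]
    exact Nat.cast_ne_zero.2 hdpos.ne'
  obtain ⟨θ₁, hθ₁⟩ := exists_irr_constituent hηZ h1
  have h2 := classInner_stage_ne_zero Z L hZL hχ hη θ₁.2 h hθ₁
  rw [hres, classInner_smul_left] at h2
  have h3 : classInner θ (θ₁ : Z → ℂ) ≠ 0 := fun h0 => h2 (by rw [h0, mul_zero])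
  have h4 : θ = (θ₁ : Z → ℂ) := by
    by_contra hne
    exact h3 (classInner_irr_ne hθ θ₁.2 hne)
  rw [h4]
  exact hθ₁

end ambient

/-- The arithmetic heart: the multiplicity is one. -/
theorem arith_one (p : ℕ) (hp : p.Prime) (e f n A r cS cL relL relZ idxS idxK k : ℕ)
    (hcS : 0 < cS) (hrelZ : 0 < relZ)
    (h1 : e * cS = idxK * A * n * cL * f)
    (h2 : idxK = relL * r) (h3 : relL * cL = cS)
    (h4 : e ^ 2 = relZ * idxS) (h5 : f ^ 2 = relZ)
    (h6 : n ^ 2 * cL ∣ cS) (h7 : relL ∣ relZ) (h8 : relZ = p ^ k) (h9 : ¬ p ∣ idxS) : n = 1 := by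
  have hcL : 0 < cL := by
    rcases Nat.eq_zero_or_pos cL with h | h
    · rw [h, mul_zero] at h3; omega
    · exact h
  have h10 : e * cS = (r * A * n * f) * cS := by
    rw [h1, h2, ← h3]; ring
  have h11 : e = r * A * n * f := Nat.eq_of_mul_eq_mul_right hcS h10
  have h12 : relZ * idxS = relZ * ((r * A) ^ 2 * n ^ 2) := by
    rw [← h4, h11, ← h5]; ring
  have h13 : idxS = (r * A) ^ 2 * n ^ 2 := Nat.eq_of_mul_eq_mul_left hrelZ h12
  have h14 : n ^ 2 ∣ idxS := ⟨(r * A) ^ 2, by rw [h13]; ring⟩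
  have h15 : n ^ 2 ∣ relL := by
    rw [← h3] at h6
    exact Nat.dvd_of_mul_dvd_mul_right hcL h6
  have h16 : n ^ 2 ∣ p ^ k := by
    rw [← h8]
    exact h15.trans h7
  obtain ⟨j, _, hj⟩ := (Nat.dvd_prime_pow hp).1 h16
  rcases Nat.eq_zero_or_pos j with hj0 | hjpos
  · rw [hj0, pow_zero] at hj
    have : n * n = 1 := by rw [← hj]; ring
    exact Nat.eq_one_of_mul_eq_one_left this
  · exfalso
    apply h9
    have : p ∣ n ^ 2 := by
      rw [hj]
      exact dvd_pow_self p (by omega)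
    exact this.trans h14

end Cfsg.Agent.Lib.Helper8.FV
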