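import Mathlib
import Cfsg.Agent.Lib.Helper8.FV8

set_option autoImplicit false

/-! The multiplicity-one key in the induced case. -/

namespace Cfsg.Agent.Lib.Helper8.FV

open Cfsg Cfsg.Agent.Lib.Helper1 Cfsg.Agent.Lib.Helper4 Cfsg.Agent.Lib.Helper8 ComplexConjugate

universe u

variable {H : Type u} [Group H]

theorem hkey_of_induced [Fintype H] (Z K : Subgroup H) [hZ : Z.Normal] [hK : K.Normal]
    [Fintype Z] [Fintype K] (hZK : Z ≤ K)
    {χ : H → ℂ} (hχ : IsIrrCharacter H χ) {θ : Z → ℂ} (hθ : IsIrrCharacter Z θ)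
    (hθinv : ∀ (g : H) (n : Z), θ ⟨g * n * g⁻¹, hZ.conj_mem n n.2 g⟩ = θ n)
    (huniq : ∀ χ' : H → ℂ, IsIrrCharacter H χ' → classInner (fun z : Z => χ' z) θ ≠ 0 → χ' = χ)
    (e : ℕ) (he2 : e ^ 2 = Z.index) (hres : (fun n : Z => χ n) = (e : ℂ) • θ)
    (p : ℕ) [Fact p.Prime] (S₀ : Sylow p H)
    (S L : Subgroup H) (hS : S = (S₀ : Subgroup H) ⊔ Z)
    (hL : L = ((S₀ : Subgroup H) ⊓ K) ⊔ Z) [Fintype S] [Fintype L]
    (hZS : Z ≤ S) (hZL : Z ≤ L) (hLS : L ≤ S)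
    (φ : K → ℂ) (hφ : IsCharacter K φ) (hind : indFun K φ = χ) :
    ∀ ψ : S → ℂ, IsIrrCharacter S ψ →
      classInner (fun z : Z => ψ ⟨z, hZS z.2⟩) θ ≠ 0 →
      ∃ ξ : L → ℂ, IsIrrCharacter L ξ ∧ classInner (fun z : Z => ξ ⟨z, hZL z.2⟩) θ ≠ 0 ∧
        classInner (fun l : L => ψ ⟨l, hLS l.2⟩) ξ = 1 := by
  classical
  intro ψ hψ hψθ
  haveI : Fintype (Z.subgroupOf S) := Fintype.ofFinite _
  haveI : Fintype (L.subgroupOf S) := Fintype.ofFinite _
  haveI : Fintype (IrrCharacter L) := Fintype.ofFinite _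
  have hχ1 : χ 1 = e * θ 1 := by
    have := congrFun hres 1
    simpa using this
  have hS₀S : (S₀ : Subgroup H) ≤ S := by rw [hS]; exact le_sup_left
  have hLK : L ≤ K := by rw [hL]; exact sup_le inf_le_right hZK
  haveI hLn : (L.subgroupOf S).Normal := normal_L_subgroupOf Z K hZK S₀ S L hS hL
  -- index facts
  obtain ⟨k, hk⟩ : ∃ k, Z.relIndex S = p ^ k := by
    have h1 : Z.relIndex S = (Z.subgroupOf (S₀ : Subgroup H)).index := by
      rw [hS, Subgroup.relIndex_sup_right]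
      rfl
    obtain ⟨k, hk⟩ := IsPGroup.index S₀.2 (Z.subgroupOf (S₀ : Subgroup H))
    exact ⟨k, by rw [h1, hk]⟩
  have hidxS : ¬ p ∣ S.index := fun hp =>
    S₀.not_dvd_index (hp.trans (Subgroup.index_dvd_of_le hS₀S))
  have hcop : Nat.Coprime (Z.relIndex S) S.index := by
    rw [hk]
    apply Nat.Coprime.pow_left
    rw [Nat.Prime.coprime_iff_not_dvd Fact.out]
    exact hidxS
  obtain ⟨ψ₀, hψ₀, hψ₀θ, huniqS₀⟩ := unique_over Z hχ hθ hθinv huniq e he2 hχ1 S hZS hcop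
  have hψeq : ψ = ψ₀ := huniqS₀ ψ hψ hψθ
  have huniqS : ∀ ψ' : S → ℂ, IsIrrCharacter S ψ' →
      classInner (fun z : Z => ψ' ⟨z, hZS z.2⟩) θ ≠ 0 → ψ' = ψ := by
    intro ψ' h1 h2
    rw [hψeq]
    exact huniqS₀ ψ' h1 h2
  have hθ' : IsIrrCharacter (Z.subgroupOf S) (fun n : Z.subgroupOf S => θ ⟨(n : S), n.2⟩) :=
    isIrrCharacter_comp_mulEquiv hθ (Subgroup.subgroupOfEquivOfLe hZS)
  have hθ'inv : ∀ (g : S) (n : Z.subgroupOf S),
      (fun n : Z.subgroupOf S => θ ⟨(n : S), n.2⟩)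
        ⟨g * n * g⁻¹, (inferInstance : (Z.subgroupOf S).Normal).conj_mem n n.2 g⟩
      = (fun n : Z.subgroupOf S => θ ⟨(n : S), n.2⟩) n :=
    fun g n => hθinv (g : H) ⟨n, n.2⟩
  have hZL' : Z.subgroupOf S ≤ L.subgroupOf S := fun x hx => hZL hx
  have huniqS' : ∀ ψ' : S → ℂ, IsIrrCharacter S ψ' →
      classInner (fun z : Z.subgroupOf S => ψ' z) (fun n : Z.subgroupOf S => θ ⟨(n : S), n.2⟩) ≠ 0
      → ψ' = ψ := by
    intro ψ' hψ' hne
    apply huniqS ψ' hψ'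
    rw [← classInner_mulEquiv (Subgroup.subgroupOfEquivOfLe hZS)
      (fun z : Z => ψ' ⟨z, hZS z.2⟩) θ]
    exact hne
  have hover' : ∀ (ξ₂ : L → ℂ), classInner (fun z : Z => ξ₂ ⟨z, hZL z.2⟩) θ ≠ 0 →
      classInner (fun z : Z.subgroupOf S =>
        (fun n : L.subgroupOf S => ξ₂ ⟨(n : S), n.2⟩) ⟨z, hZL' z.2⟩)
        (fun n : Z.subgroupOf S => θ ⟨(n : S), n.2⟩) ≠ 0 := by
    intro ξ₂ h
    rw [← classInner_mulEquiv (Subgroup.subgroupOfEquivOfLe hZS)
      (fun z : Z => ξ₂ ⟨z, hZL z.2⟩) θ] at h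
    exact h
  have hψθ' : classInner (fun z : Z.subgroupOf S => ψ z)
      (fun n : Z.subgroupOf S => θ ⟨(n : S), n.2⟩) ≠ 0 := by
    rw [← classInner_mulEquiv (Subgroup.subgroupOfEquivOfLe hZS)
      (fun z : Z => ψ ⟨z, hZS z.2⟩) θ] at hψθ
    exact hψθ
  -- ψ is fully ramified
  obtain ⟨f, hfres, hf2⟩ := ramified_of_unique (Z.subgroupOf S) hθ' hψ hθ'inv hψθ' huniqS'
  have hψ1 : ψ 1 = f * θ 1 := by
    have h1 := congrFun hfres 1
    simp only [Pi.smul_apply, smul_eq_mul, OneMemClass.coe_one] at h1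
    exact h1
  -- φ restricted to L
  obtain ⟨d, hdpos, hd⟩ := irr_apply_one_pos hθ
  have hd0 : (d : ℂ) ≠ 0 := Nat.cast_ne_zero.2 hdpos.ne'
  have he0 : e ≠ 0 := by
    rintro rfl
    exact Subgroup.index_ne_zero_of_finite (H := Z) (by simpa using he2.symm)
  have hχind : χ 1 = (K.index : ℂ) * φ 1 := by
    rw [← hind, PF6.indFun_one_index]
  have hφ1 : φ 1 ≠ 0 := by
    intro h0
    rw [h0, mul_zero, hχ1, hd] at hχind
    exact mul_ne_zero (Nat.cast_ne_zero.2 he0) hd0 hχind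
  have hφL : IsCharacter L (fun l : L => φ ⟨l, hLK l.2⟩) :=
    isCharacter_comp_hom hφ (Subgroup.inclusion hLK)
  have hφL1 : (fun l : L => φ ⟨l, hLK l.2⟩) 1 = φ 1 := rfl
  obtain ⟨η, hη⟩ := exists_irr_constituent hφL (hφL1 ▸ hφ1)
  have hover : ∀ η₂ : L → ℂ, IsIrrCharacter L η₂ →
      classInner (fun l : L => φ ⟨l, hLK l.2⟩) η₂ ≠ 0 →
      classInner (fun z : Z => η₂ ⟨z, hZL z.2⟩) θ ≠ 0 := by
    intro η₂ hη₂ h
    have h1 := constituent_of_induced K L hLK hφ hη₂ h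
    rw [hind] at h1
    exact over_of_constituent Z L hZL (isCharacter_of_irr hχ) hθ e hres hη₂ h1
  have hirr' : ∀ η₂ : L → ℂ, IsIrrCharacter L η₂ →
      IsIrrCharacter (L.subgroupOf S) (fun n : L.subgroupOf S => η₂ ⟨(n : S), n.2⟩) :=
    fun η₂ hη₂ => isIrrCharacter_comp_mulEquiv hη₂ (Subgroup.subgroupOfEquivOfLe hLS)
  have hunder : ∀ η₂ : L → ℂ, IsIrrCharacter L η₂ →
      classInner (fun l : L => φ ⟨l, hLK l.2⟩) η₂ ≠ 0 →
      classInner (fun l : L.subgroupOf S => ψ l)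
        (fun n : L.subgroupOf S => η₂ ⟨(n : S), n.2⟩) ≠ 0 := by
    intro η₂ hη₂ h
    exact under_of_unique (Z.subgroupOf S) (L.subgroupOf S) hZL' hθ' huniqS' (hirr' η₂ hη₂)
      (hover' _ (hover η₂ hη₂ h))
  have hdeg : ∀ η₂ : L → ℂ, IsIrrCharacter L η₂ →
      classInner (fun l : L => φ ⟨l, hLK l.2⟩) η₂ ≠ 0 → η₂ 1 = (η : L → ℂ) 1 := by
    intro η₂ hη₂ h
    obtain ⟨g, hg⟩ := conj_of_under (L.subgroupOf S) hψ (hirr' η η.2) (hirr' η₂ hη₂)
      (hunder η η.2 hη) (hunder η₂ hη₂ h)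
    have h1 := congrFun hg 1
    rw [conjFn_apply] at h1
    have h2 : (⟨((1 : L.subgroupOf S) : S), (1 : L.subgroupOf S).2⟩ : L) = 1 := rfl
    have h3 : (⟨((⟨g * ((1 : L.subgroupOf S) : S) * g⁻¹,
        hLn.conj_mem ((1 : L.subgroupOf S) : S) (1 : L.subgroupOf S).2 g⟩ : L.subgroupOf S) : S),
        (⟨g * ((1 : L.subgroupOf S) : S) * g⁻¹,
        hLn.conj_mem ((1 : L.subgroupOf S) : S) (1 : L.subgroupOf S).2 g⟩ : L.subgroupOf S).2⟩ : L)
        = 1 := by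
      apply Subtype.ext
      simp
    rw [h2] at h1
    rw [h1]
    exact congrArg (η : L → ℂ) h3
  -- degree of φ
  obtain ⟨A, hA⟩ : ∃ A : ℕ, φ 1 = A * (η : L → ℂ) 1 := by
    have hexp := class_function_expansion _ (isClassFunction_of_isCharacter hφL)
    have hm : ∀ η₂ : IrrCharacter L, ∃ m : ℕ,
        classInner (fun l : L => φ ⟨l, hLK l.2⟩) (η₂ : L → ℂ) = m :=
      fun η₂ => classInner_char_irr_nat hφL η₂.2
    choose m hm using hm
    refine ⟨∑ η₂, m η₂, ?_⟩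
    have h1 := congrFun hexp 1
    simp only [Finset.sum_apply, Pi.smul_apply, smul_eq_mul] at h1
    have h1' : φ 1 = ∑ x : IrrCharacter L,
        classInner (fun l : L => φ ⟨l, hLK l.2⟩) (x : L → ℂ) * (x : L → ℂ) 1 := h1
    rw [h1']
    push_cast
    rw [Finset.sum_mul]
    apply Finset.sum_congr rfl
    intro η₂ _
    by_cases h0 : classInner (fun l : L => φ ⟨l, hLK l.2⟩) (η₂ : L → ℂ) = 0
    · have : m η₂ = 0 := by
        have := hm η₂
        rw [h0] at this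
        exact_mod_cast this.symm
      rw [h0, this]
      simp
    · rw [hdeg η₂ η₂.2 h0, hm]
  -- the multiplicity
  obtain ⟨n, hn0, hn, hndeg, hndvd⟩ := mult_degree_of_unique (Z.subgroupOf S) (L.subgroupOf S)
    hZL' hθ' hψ huniqS' (hirr' η η.2) (hover' _ (hover η η.2 hη))
  have hcardL : Nat.card (L.subgroupOf S) = Nat.card L :=
    Nat.card_congr (Subgroup.subgroupOfEquivOfLe hLS).toEquiv
  have hndeg' : (n : ℂ) * (Nat.card L : ℂ) * ψ 1 = (Nat.card S : ℂ) * (η : L → ℂ) 1 := by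
    rw [← hcardL]
    exact hndeg
  rw [hcardL] at hndvd
  have hn1 : n = 1 := by
    apply arith_one p Fact.out e f n A (S ⊔ K).index (Nat.card S) (Nat.card L) (L.relIndex S)
      (Z.relIndex S) S.index K.index k
    · exact Nat.card_pos
    · rw [hk]
      exact pow_pos (Nat.Prime.pos Fact.out) k
    · -- e * |S| = |H:K| * A * n * |L| * f
      have hc : (e : ℂ) * (Nat.card S : ℂ) * (d : ℂ) =
          (K.index : ℂ) * A * n * (Nat.card L : ℂ) * f * (d : ℂ) := by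
        rw [hψ1, hd] at hndeg'
        rw [hχ1, hd, hA] at hχind
        linear_combination (Nat.card S : ℂ) * hχind - (K.index : ℂ) * (A : ℂ) * hndeg'
      have hc' := mul_right_cancel₀ hd0 hc
      exact_mod_cast hc'
    · -- K.index = L.relIndex S * (S ⊔ K).index
      have h1 : K.relIndex (S ⊔ K) * (S ⊔ K).index = K.index :=
        Subgroup.relIndex_mul_index le_sup_right
      have h2 : K.relIndex (S ⊔ K) = K.relIndex S := Subgroup.relIndex_sup_right S K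
      have h3 : L.relIndex S = K.relIndex S := by
        have : L.subgroupOf S = K.subgroupOf S := by
          ext x
          simp only [Subgroup.mem_subgroupOf]
          exact ⟨fun h => hLK h, fun h => mem_L_of_mem Z K hZK S₀ S L hS hL x.2 h⟩
        show (L.subgroupOf S).index = (K.subgroupOf S).index
        rw [this]
      rw [h3, ← h2, h1]
    · -- L.relIndex S * |L| = |S|
      have := (L.subgroupOf S).index_mul_card
      rw [hcardL] at this
      exact this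
    · rw [he2]
      exact (Subgroup.relIndex_mul_index hZS).symm
    · exact hf2
    · exact hndvd
    · exact Subgroup.relIndex_dvd_of_le_left S hZL
    · exact hk
    · exact hidxS
  refine ⟨η, η.2, hover η η.2 hη, ?_⟩
  rw [← classInner_mulEquiv (Subgroup.subgroupOfEquivOfLe hLS)
    (fun l : L => ψ ⟨l, hLS l.2⟩) (η : L → ℂ)]
  rw [hn1] at hn
  rw [Nat.cast_one] at hn
  exact hn

end Cfsg.Agent.Lib.Helper8.FV
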