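import Mathlib
import Cfsg.Agent.Lib.Helper1.CycloChar
import Cfsg.Agent.Lib.Helper8.GP1

/-!
# The degree of the field of values of a character as a Galois index

For a character `χ` of a finite group `X` all of whose elements satisfy `x ^ N = 1`,
`[ℚ(χ) : ℚ] * #{u ∈ (ℤ/N)ˣ | χ(x ^ u) = χ(x) for all x} = φ(N)`.
-/

set_option autoImplicit false

namespace Cfsg.Agent.Lib.Helper8.FVal

open Cfsg Cfsg.Agent.Lib.Helper1 Cfsg.Agent.Lib.Helper4 Cfsg.Agent.Lib.Helper8

universe u

section galdeg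

variable {X : Type u} [Group X] [Finite X]

/-- an automorphism of the cyclotomic field acts on all `N`-th roots of unity as the power
given by `autEquivPow`. -/
theorem aut_root_pow (N : ℕ) [NeZero N] {K : Type*} [Field K] [CharZero K]
    [IsCyclotomicExtension {N} ℚ K]
    (σ : K ≃ₐ[ℚ] K) (z : K) (hz : z ^ N = 1) :
    σ z = z ^ ((IsCyclotomicExtension.autEquivPow K
      (Polynomial.cyclotomic.irreducible_rat (NeZero.pos N)) σ : (ZMod N)ˣ) : ZMod N).val := by
  have hζ := IsCyclotomicExtension.zeta_spec N ℚ K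
  obtain ⟨j, -, hj⟩ := hζ.eq_pow_of_pow_eq_one hz
  have hk : (IsCyclotomicExtension.autEquivPow K
      (Polynomial.cyclotomic.irreducible_rat (NeZero.pos N)) σ : (ZMod N)ˣ) =
      hζ.autToPow ℚ σ := rfl
  rw [hk, ← hj, map_pow, ← hζ.autToPow_spec ℚ σ, ← pow_mul, ← pow_mul, mul_comm]

theorem finrank_mul_card_stab {χ : X → ℂ} (hχ : IsCharacter X χ) (N : ℕ) [NeZero N]
    (hN : ∀ x : X, x ^ N = 1) :
    Module.finrank ℚ (IntermediateField.adjoin ℚ (Set.range χ)) *
      Nat.card {u : (ZMod N)ˣ // ∀ x, χ (x ^ ((u : (ZMod N)ˣ) : ZMod N).val) = χ x} =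
        Nat.totient N := by
  classical
  have hirr : Irreducible (Polynomial.cyclotomic N ℚ) :=
    Polynomial.cyclotomic.irreducible_rat (NeZero.pos N)
  have : IsCyclotomicExtension {N} ℚ (CyclotomicField N ℚ) :=
    CyclotomicField.isCyclotomicExtension N ℚ
  let e : (CyclotomicField N ℚ ≃ₐ[ℚ] CyclotomicField N ℚ) ≃* (ZMod N)ˣ :=
    IsCyclotomicExtension.autEquivPow (CyclotomicField N ℚ) hirr
  have : IsGalois ℚ (CyclotomicField N ℚ) := IsCyclotomicExtension.isGalois {N} ℚ _
  have : FiniteDimensional ℚ (CyclotomicField N ℚ) :=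
    IsCyclotomicExtension.finiteDimensional {N} ℚ _
  let ι : CyclotomicField N ℚ →ₐ[ℚ] ℂ := IsAlgClosed.lift
  have hx : ∀ g : X, ∃ x : CyclotomicField N ℚ, IsIntegral ℤ x ∧
      ∀ (σ : CyclotomicField N ℚ ≃ₐ[ℚ] CyclotomicField N ℚ) (k : ℕ),
        (∀ z : CyclotomicField N ℚ, z ^ N = 1 → σ z = z ^ k) →
          (ι : CyclotomicField N ℚ →+* ℂ) (σ x) = χ (g ^ k) :=
    fun g => exists_cyclo_of_character N (ι : CyclotomicField N ℚ →+* ℂ) hχ g (hN g)
  choose x _ hxσ using hx
  have hιx : ∀ g, ι (x g) = χ g := by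
    intro g
    have := hxσ g 1 1 (fun z _ => by simp)
    simpa using this
  have hσx : ∀ (σ : CyclotomicField N ℚ ≃ₐ[ℚ] CyclotomicField N ℚ) (g : X),
      ι (σ (x g)) = χ (g ^ ((e σ : (ZMod N)ˣ) : ZMod N).val) := by
    intro σ g
    exact hxσ g σ _ (fun z hz => aut_root_pow N σ z hz)
  set L' : IntermediateField ℚ (CyclotomicField N ℚ) :=
    IntermediateField.adjoin ℚ (Set.range x) with hL'
  -- the image of L' is the field of values
  have hmap : L'.map ι = IntermediateField.adjoin ℚ (Set.range χ) := by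
    rw [hL', IntermediateField.adjoin_map]
    congr 1
    ext c
    constructor
    · rintro ⟨_, ⟨g, rfl⟩, rfl⟩
      exact ⟨g, (hιx g).symm⟩
    · rintro ⟨g, rfl⟩
      exact ⟨x g, ⟨g, rfl⟩, hιx g⟩
  have hfr : Module.finrank ℚ (IntermediateField.adjoin ℚ (Set.range χ)) =
      Module.finrank ℚ L' := by
    rw [← hmap]
    exact (IntermediateField.equivMap L' ι).toLinearEquiv.finrank_eq.symm
  -- the fixing subgroup
  have hfix : ∀ σ : CyclotomicField N ℚ ≃ₐ[ℚ] CyclotomicField N ℚ,
      σ ∈ L'.fixingSubgroup ↔ ∀ g, χ (g ^ ((e σ : (ZMod N)ˣ) : ZMod N).val) = χ g := by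
    intro σ
    rw [IntermediateField.mem_fixingSubgroup_iff]
    constructor
    · intro h g
      rw [← hσx, h (x g) (IntermediateField.subset_adjoin ℚ _ ⟨g, rfl⟩), hιx]
    · intro h
      have hσg : ∀ g, σ (x g) = x g := by
        intro g
        apply ι.injective
        show ι (σ (x g)) = ι (x g)
        rw [hσx, h g, hιx]
      intro y hy
      rw [hL'] at hy
      induction hy using IntermediateField.adjoin_induction with
      | mem y hy =>
        obtain ⟨g, rfl⟩ := hy
        exact hσg g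
      | algebraMap r => exact σ.commutes r
      | add y z _ _ hy hz => rw [map_add, hy, hz]
      | inv y _ hy => rw [map_inv₀, hy]
      | mul y z _ _ hy hz => rw [map_mul, hy, hz]
  have hcard : Nat.card L'.fixingSubgroup =
      Nat.card {u : (ZMod N)ˣ // ∀ x, χ (x ^ ((u : (ZMod N)ˣ) : ZMod N).val) = χ x} := by
    apply Nat.card_congr
    exact Equiv.subtypeEquiv e.toEquiv (fun σ => hfix σ)
  rw [hfr, IntermediateField.finrank_eq_fixingSubgroup_index, ← hcard,
    Subgroup.index_mul_card, Nat.card_congr e.toEquiv, Nat.card_eq_fintype_card,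
    ZMod.card_units_eq_totient]

end galdeg

end Cfsg.Agent.Lib.Helper8.FVal
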