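import Mathlib
import Cfsg.Agent.Lib.Helper8.FVal1

/-!
# The Galois action of `(ℤ/N)ˣ` on complex functions on a group of exponent dividing `N`
-/

set_option autoImplicit false

namespace Cfsg.Agent.Lib.Helper8.FVal

open Cfsg Cfsg.Agent.Lib.Helper1 Cfsg.Agent.Lib.Helper4 Cfsg.Agent.Lib.Helper8

universe u

section act

variable {X : Type u} [Group X] (N : ℕ) [NeZero N]

theorem pow_eq_pow_of_modEq' {x : X} (hx : x ^ N = 1) {a b : ℕ} (h : a ≡ b [MOD N]) :
    x ^ a = x ^ b :=
  pow_eq_pow_iff_modEq.2 (h.of_dvd (orderOf_dvd_of_pow_eq_one hx))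

theorem powFn_congr_of_exp (hN : ∀ x : X, x ^ N = 1) {a b : ℕ} (h : a ≡ b [MOD N])
    (f : X → ℂ) : powFn a f = powFn b f := by
  funext x
  show f (x ^ a) = f (x ^ b)
  rw [pow_eq_pow_of_modEq' N (hN x) h]

theorem val_one_modEq : (1 : ZMod N).val ≡ 1 [MOD N] := by
  rw [ZMod.val_one_eq_one_mod]
  exact Nat.mod_modEq 1 N

theorem val_mul_modEq (a b : ZMod N) : (a * b).val ≡ a.val * b.val [MOD N] := by
  rw [ZMod.val_mul]
  exact Nat.mod_modEq _ N

theorem val_pow_modEq (a : ZMod N) (i : ℕ) : (a ^ i).val ≡ a.val ^ i [MOD N] := by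
  induction i with
  | zero => simpa using val_one_modEq N
  | succ i ih =>
    rw [pow_succ, pow_succ]
    exact (val_mul_modEq N _ _).trans (ih.mul_right _)

/-- The Galois action on complex functions on a group of exponent dividing `N`. -/
@[reducible] def galAct (hN : ∀ x : X, x ^ N = 1) : MulAction (ZMod N)ˣ (X → ℂ) where
  smul u f := powFn ((u : ZMod N).val) f
  one_smul f := by
    show powFn (((1 : (ZMod N)ˣ) : ZMod N).val) f = f
    rw [Units.val_one, powFn_congr_of_exp N hN (val_one_modEq N), powFn_one]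
  mul_smul u v f := by
    show powFn (((u * v : (ZMod N)ˣ) : ZMod N).val) f =
      powFn ((u : ZMod N).val) (powFn ((v : ZMod N).val) f)
    rw [powFn_powFn, Units.val_mul, powFn_congr_of_exp N hN (val_mul_modEq N _ _)]

/-- The stabilizer of a function under the Galois action. -/
def galStab (hN : ∀ x : X, x ^ N = 1) (f : X → ℂ) : Subgroup (ZMod N)ˣ :=
  @MulAction.stabilizer _ _ _ (galAct N hN) f

theorem mem_galStab (hN : ∀ x : X, x ^ N = 1) (f : X → ℂ) (u : (ZMod N)ˣ) :
    u ∈ galStab N hN f ↔ powFn ((u : ZMod N).val) f = f := Iff.rfl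

theorem powFn_unit_pow (hN : ∀ x : X, x ^ N = 1) (u : (ZMod N)ˣ) (i : ℕ) (f : X → ℂ) :
    powFn (((u ^ i : (ZMod N)ˣ) : ZMod N).val) f = powFn ((u : ZMod N).val ^ i) f := by
  rw [Units.val_pow_eq_pow_val]
  exact powFn_congr_of_exp N hN (val_pow_modEq N _ i) f

theorem powFn_unit_inv (hN : ∀ x : X, x ^ N = 1) (u : (ZMod N)ˣ) (f : X → ℂ) :
    powFn (((u⁻¹ : (ZMod N)ˣ) : ZMod N).val) (powFn ((u : ZMod N).val) f) = f := by
  letI := galAct N hN
  exact inv_smul_smul u f

/-- orbit-stabilizer for the Galois action restricted to a subgroup. -/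
theorem card_galOrbit_mul (hN : ∀ x : X, x ^ N = 1) (A : Subgroup (ZMod N)ˣ) (f : X → ℂ) :
    Nat.card {g : X → ℂ // ∃ u ∈ A, powFn ((u : ZMod N).val) f = g} *
      Nat.card {u : (ZMod N)ˣ // u ∈ A ∧ powFn ((u : ZMod N).val) f = f} = Nat.card A := by
  classical
  letI := galAct N hN
  have h1 : Nat.card (MulAction.orbit A f) = (MulAction.stabilizer A f).index := by
    rw [MulAction.index_stabilizer, Nat.card_coe_set_eq]
  have h2 : Nat.card {g : X → ℂ // ∃ u ∈ A, powFn ((u : ZMod N).val) f = g} =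
      Nat.card (MulAction.orbit A f) := by
    apply Nat.card_congr
    apply Equiv.subtypeEquivRight
    intro g
    constructor
    · rintro ⟨u, hu, rfl⟩
      exact ⟨⟨u, hu⟩, rfl⟩
    · rintro ⟨⟨u, hu⟩, rfl⟩
      exact ⟨u, hu, rfl⟩
  have h3 : Nat.card {u : (ZMod N)ˣ // u ∈ A ∧ powFn ((u : ZMod N).val) f = f} =
      Nat.card (MulAction.stabilizer A f) := by
    apply Nat.card_congr
    exact
      { toFun := fun u => ⟨⟨u.1, u.2.1⟩, u.2.2⟩
        invFun := fun u => ⟨u.1.1, u.1.2, u.2⟩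
        left_inv := fun u => rfl
        right_inv := fun u => rfl }
  rw [h2, h3, h1, Subgroup.index_mul_card]

end act

end Cfsg.Agent.Lib.Helper8.FVal
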