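import Mathlib
import Cfsg.Agent.S0176
import Cfsg.Agent.S0148
import Cfsg.Agent.Lib.Helper4.TransferCore1
import Cfsg.Agent.Lib.Helper4.CharTools
import Cfsg.Agent.Lib.Helper8.RDG5
import Cfsg.Agent.Lib.Helper1.CliffordCorr

/-!
# A non-linear irreducible character of a `p`-group and a normal subgroup of index `p`
-/

set_option autoImplicit false

namespace Cfsg.Agent.Lib.Helper8.FVal

open Cfsg Cfsg.Agent.Lib.Helper1 Cfsg.Agent.Lib.Helper4 Cfsg.Agent.Lib.Helper8
open Cfsg.Agent.S0193 Cfsg.Agent.S0194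
open scoped ComplexConjugate

universe u

section struct

variable {P : Type u} [Group P] [Fintype P]

/-- a non-linear irreducible character of a `p`-group vanishes off a normal subgroup of
index `p`. -/
theorem exists_normal_vanishing {p : ℕ} (hp : p.Prime) (hP : IsPGroup p P) {χ : P → ℂ}
    (hχ : IsIrrCharacter P χ) (h1 : χ 1 ≠ 1) :
    ∃ M : Subgroup P, M.Normal ∧ M.index = p ∧ ∀ g : P, g ∉ M → χ g = 0 := by
  have : Fact p.Prime := ⟨hp⟩
  have : Group.IsNilpotent P := hP.isNilpotent
  obtain ⟨H, lam, hind⟩ := Cfsg.Agent.S0176.result χ hχ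
  have hH : H ≠ ⊤ := by
    rintro rfl
    apply h1
    rw [hind, indFun_apply]
    have : ∀ x : P, extendByZero (⊤ : Subgroup P) (fun h => (lam h : ℂ)) (x⁻¹ * 1 * x) = 1 := by
      intro x
      have hx : x⁻¹ * 1 * x = 1 := by group
      rw [hx, extendByZero_of_mem _ _ (Subgroup.mem_top _)]
      have : (⟨1, Subgroup.mem_top _⟩ : (⊤ : Subgroup P)) = 1 := rfl
      rw [this, map_one, Units.val_one]
    rw [Finset.sum_congr rfl fun x _ => this x, Finset.sum_const, Finset.card_univ,
      nsmul_eq_mul, mul_one, Nat.card_congr Subgroup.topEquiv.toEquiv, Nat.card_eq_fintype_card]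
    exact inv_mul_cancel₀ (Nat.cast_ne_zero.2 Fintype.card_ne_zero)
  obtain ⟨M, hMn, hHM, hidx⟩ := exists_normal_index_p_above hP H hH
  refine ⟨M, hMn, hidx, ?_⟩
  intro g hg
  rw [hind, indFun_apply]
  have : ∀ x : P, extendByZero H (fun h => (lam h : ℂ)) (x⁻¹ * g * x) = 0 := by
    intro x
    apply extendByZero_of_notMem
    intro hx
    apply hg
    have h2 := hMn.conj_mem _ (hHM hx) x
    have h3 : x * (x⁻¹ * g * x) * x⁻¹ = g := by group
    rwa [h3] at h2
  rw [Finset.sum_congr rfl fun x _ => this x, Finset.sum_const_zero, mul_zero]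

variable (M : Subgroup P) [Fintype M]

/-- the sum over `P` of a function vanishing off `M`. -/
theorem sum_eq_sum_subgroup (F : P → ℂ) (hF : ∀ g, g ∉ M → F g = 0) :
    ∑ g : P, F g = ∑ m : M, F m := by
  classical
  rw [← Finset.sum_subtype (Finset.univ.filter (· ∈ M)) (by simp) F]
  symm
  apply Finset.sum_subset (Finset.filter_subset _ _)
  intro g _ hg
  apply hF
  simpa using hg

theorem classInner_restrict_vanishing {χ : P → ℂ} (ψ : P → ℂ) (hvan : ∀ g, g ∉ M → χ g = 0) :
    classInner (fun m : M => χ m) (fun m : M => ψ m) = (M.index : ℂ) * classInner χ ψ := by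
  rw [classInner_def, classInner_def,
    sum_eq_sum_subgroup M (fun g => χ g * conj (ψ g)) (fun g hg => by rw [hvan g hg, zero_mul])]
  have h1 : (Nat.card P : ℂ) = (M.index : ℂ) * (Nat.card M : ℂ) := by
    rw [← Nat.cast_mul, Subgroup.index_mul_card]
  have h2 : (M.index : ℂ) ≠ 0 := Nat.cast_ne_zero.2 Subgroup.index_ne_zero_of_finite
  have h3 : (Nat.card M : ℂ) ≠ 0 := Nat.cast_ne_zero.2 Nat.card_pos.ne'
  rw [h1, mul_inv, ← mul_assoc, ← mul_assoc, mul_inv_cancel₀ h2, one_mul]

variable [hM : M.Normal]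

/-- Clifford theory for an irreducible character vanishing off a normal subgroup of prime
index: the restriction is the sum of exactly `p` conjugates and the inertia group is `M`. -/
theorem clifford_index_p {p : ℕ} (hp : p.Prime) (hidx : M.index = p) {χ : P → ℂ}
    (hχ : IsIrrCharacter P χ) (hvan : ∀ g, g ∉ M → χ g = 0) {θ : M → ℂ}
    (hθ : IsIrrCharacter M θ) (hover : classInner (fun m : M => χ m) θ ≠ 0) :
    (fun m : M => χ m) = ∑ ψ ∈ RDG.orbitFinset M θ, ψ ∧ (RDG.orbitFinset M θ).card = p ∧
      inertia M θ = M := by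
  obtain ⟨c, -, hc⟩ := irr_apply_one_pos hχ
  obtain ⟨d, -, hd⟩ := irr_apply_one_pos hθ
  obtain ⟨e, he0, he, -⟩ := RDG.clifford_degree M hχ hθ hover c d hc hd
  have hsum := RDG.clifford_sum M hχ hθ hover
  have hnorm : classInner (fun m : M => χ m) (fun m : M => χ m) = (p : ℂ) := by
    rw [classInner_restrict_vanishing M χ hvan, classInner_irr_self hχ, mul_one, hidx]
  have hterm : ∀ ψ ∈ RDG.orbitFinset M θ, classInner (fun m : M => χ m) ψ = (e : ℂ) := by
    intro ψ hψ
    obtain ⟨g, rfl⟩ := (RDG.mem_orbitFinset M).1 hψ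
    rw [RDG.classInner_conjFun M (isClassFunction_irr hχ) θ g, he]
  have hsum' : (fun m : M => χ m) = (e : ℂ) • ∑ ψ ∈ RDG.orbitFinset M θ, ψ := by
    rw [← he]
    exact hsum
  have hnorm2 : classInner (fun m : M => χ m) (fun m : M => χ m) =
      ((e * e * (RDG.orbitFinset M θ).card : ℕ) : ℂ) := by
    calc classInner (fun m : M => χ m) (fun m : M => χ m)
        = classInner (fun m : M => χ m) ((e : ℂ) • ∑ ψ ∈ RDG.orbitFinset M θ, ψ) :=
          congrArg (classInner (fun m : M => χ m)) hsum'
      _ = ((e * e * (RDG.orbitFinset M θ).card : ℕ) : ℂ) := by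
          rw [classInner_smul_right, classInner_sum_right, Finset.sum_congr rfl hterm,
            Finset.sum_const, nsmul_eq_mul, Complex.conj_natCast]
          push_cast
          ring
  have hnat : e * e * (RDG.orbitFinset M θ).card = p := by
    have : ((e * e * (RDG.orbitFinset M θ).card : ℕ) : ℂ) = (p : ℂ) := by
      rw [← hnorm2, hnorm]
    exact_mod_cast this
  have he1 : e = 1 := by
    have hdvd : e * e ∣ p := ⟨_, hnat.symm⟩
    rcases (Nat.dvd_prime hp).1 (Dvd.dvd.mul_left (dvd_refl e) e |>.trans hdvd) with h | h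
    · exact h
    · exfalso
      rw [h] at hdvd
      have := Nat.le_of_dvd hp.pos hdvd
      nlinarith [hp.two_le]
  have hcard : (RDG.orbitFinset M θ).card = p := by
    rw [he1] at hnat
    simpa using hnat
  refine ⟨?_, hcard, ?_⟩
  · rw [hsum', he1, Nat.cast_one, one_smul]
  · have hle : M ≤ inertia M θ := le_inertia M (isClassFunction_irr hθ)
    have h1 : (inertia M θ).index = M.index := by
      rw [← RDG.card_orbitFinset, hcard, hidx]
    have h2 := Subgroup.relIndex_mul_index hle
    rw [h1] at h2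
    have h3 : M.relIndex (inertia M θ) = 1 := by
      have : M.index ≠ 0 := Subgroup.index_ne_zero_of_finite
      exact Nat.eq_of_mul_eq_mul_right (Nat.pos_of_ne_zero this) (by rw [h2, one_mul])
    exact le_antisymm (Subgroup.relIndex_eq_one.1 h3) hle

end struct

end Cfsg.Agent.Lib.Helper8.FVal
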