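import Mathlib
import Cfsg.Agent.Lib.Helper8.FVal2
import Cfsg.Agent.Lib.Helper8.FVal3
import Cfsg.Agent.Lib.Helper8.GP2

/-!
# The Galois stabilizers of `χ` and of a constituent `θ` of its restriction to a normal
subgroup of index `p` off which `χ` vanishes
-/

set_option autoImplicit false
set_option linter.unusedSectionVars false

namespace Cfsg.Agent.Lib.Helper8.FVal

open Cfsg Cfsg.Agent.Lib.Helper1 Cfsg.Agent.Lib.Helper4 Cfsg.Agent.Lib.Helper8
open Cfsg.Agent.S0193 Cfsg.Agent.S0194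
open scoped ComplexConjugate

universe u

section gal

variable {P : Type u} [Group P] [Fintype P] (M : Subgroup P) [Fintype M]

theorem pow_card_sub (x : M) : x ^ Nat.card P = 1 := by
  apply Subtype.ext
  rw [Subgroup.coe_pow, pow_card_eq_one', Subgroup.coe_one]

theorem coprime_card_sub {k : ℕ} (hk : k.Coprime (Nat.card P)) : k.Coprime (Nat.card M) :=
  Nat.Coprime.coprime_dvd_right (Subgroup.card_subgroup_dvd_card M) hk

theorem notMem_pow_of_coprime {k : ℕ} (hk : k.Coprime (Nat.card P)) {g : P} (hg : g ∉ M) :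
    g ^ k ∉ M := by
  intro h
  have hk' : k.Coprime (orderOf g) :=
    Nat.Coprime.coprime_dvd_right (orderOf_dvd_natCard g) hk
  obtain ⟨m, hm⟩ := exists_pow_eq_self_of_coprime hk'
  apply hg
  rw [← hm]
  exact Subgroup.pow_mem _ h m

variable [hM : M.Normal]

/-- a power map fixing `θ` fixes all its conjugates. -/
theorem powFn_conj_fixed {k : ℕ} {θ : M → ℂ} (hfix : powFn k θ = θ) {ψ : M → ℂ}
    (hψ : ψ ∈ RDG.orbitFinset M θ) : powFn k ψ = ψ := by
  obtain ⟨g, rfl⟩ := (RDG.mem_orbitFinset M).1 hψ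
  rw [← conjFun_powFn, hfix]

/-- `Stab(θ) ≤ Stab(χ)`. -/
theorem powFn_fix_of_constituent {k : ℕ} (hk : k.Coprime (Nat.card P)) {χ : P → ℂ}
    (hvan : ∀ g, g ∉ M → χ g = 0) {θ : M → ℂ}
    (hsum : (fun m : M => χ m) = ∑ ψ ∈ RDG.orbitFinset M θ, ψ) (hfix : powFn k θ = θ) :
    powFn k χ = χ := by
  funext g
  rw [powFn_apply]
  by_cases hg : g ∈ M
  · have h1 : ∀ m : M, χ m = ∑ ψ ∈ RDG.orbitFinset M θ, ψ m := by
      intro m
      have := congrFun hsum m
      rw [Finset.sum_apply] at this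
      exact this
    have h2 : g ^ k = ((⟨g, hg⟩ ^ k : M) : P) := by rw [Subgroup.coe_pow]
    have h3 : g = ((⟨g, hg⟩ : M) : P) := rfl
    rw [h2, h1]
    conv_rhs => rw [h3, h1]
    refine Finset.sum_congr rfl fun ψ hψ => ?_
    have := congrFun (powFn_conj_fixed M hfix hψ) ⟨g, hg⟩
    rw [powFn_apply] at this
    exact this
  · rw [hvan g hg, hvan _ (notMem_pow_of_coprime M hk hg)]

/-- A power map fixing `χ` permutes the constituents of its restriction. -/
theorem powFn_mem_orbit {k : ℕ} (hk : k.Coprime (Nat.card P)) {χ : P → ℂ}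
    (hχ : IsIrrCharacter P χ) {θ : M → ℂ} (hθ : IsIrrCharacter M θ)
    (hover : classInner (fun m : M => χ m) θ ≠ 0) (hfix : powFn k χ = χ) :
    powFn k θ ∈ RDG.orbitFinset M θ := by
  have hk' := coprime_card_sub M hk
  have h1 : classInner (fun m : M => χ m) (powFn k θ) ≠ 0 := by
    have h2 : (fun m : M => χ m) = powFn k (fun m : M => χ m) := by
      rw [← powFn_restrict, hfix]
    rw [h2, classInner_powFn hk']
    exact hover
  obtain ⟨g, hg⟩ := RDG.exists_conj_of_over M hχ hθ (isIrrCharacter_powFn hk' hθ) hover h1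
  exact (RDG.mem_orbitFinset M).2 ⟨g, hg⟩

/-- if a power map moves `θ` to a different conjugate, then all conjugates are obtained by
iterating it. -/
theorem orbit_eq_powers {p : ℕ} (hp : p.Prime) (hidx : M.index = p) {k : ℕ} {θ : M → ℂ}
    (hθ : IsIrrCharacter M θ) (hmem : powFn k θ ∈ RDG.orbitFinset M θ) (hne : powFn k θ ≠ θ)
    {ψ : M → ℂ} (hψ : ψ ∈ RDG.orbitFinset M θ) : ∃ i : ℕ, ψ = powFn (k ^ i) θ := by
  have : Fact p.Prime := ⟨hp⟩
  obtain ⟨y, hy⟩ := (RDG.mem_orbitFinset M).1 hmem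
  obtain ⟨g, rfl⟩ := (RDG.mem_orbitFinset M).1 hψ
  have hyM : y ∉ M := by
    intro h
    apply hne
    rw [← hy]
    exact (mem_inertia M).1 (le_inertia M (isClassFunction_irr hθ) h)
  have hpow : ∀ i : ℕ, Cfsg.Agent.S0193.conjFun M θ (y ^ i) = powFn (k ^ i) θ := by
    intro i
    induction i with
    | zero => rw [pow_zero, pow_zero, conjFun_one, powFn_one]
    | succ i ih =>
      rw [pow_succ', ← conjFun_mul, hy, conjFun_powFn, ih, powFn_powFn, pow_succ']
  have hcard : Nat.card (P ⧸ M) = p := by rw [← Subgroup.index_eq_card]; exact hidx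
  have hy1 : (QuotientGroup.mk y : P ⧸ M) ≠ 1 := by
    intro h
    exact hyM ((QuotientGroup.eq_one_iff y).1 h)
  obtain ⟨i, hi⟩ := mem_powers_of_prime_card hcard hy1 (g' := (QuotientGroup.mk g : P ⧸ M))
  refine ⟨i, ?_⟩
  have hi' : (QuotientGroup.mk (y ^ i) : P ⧸ M) = QuotientGroup.mk g := by
    rw [QuotientGroup.mk_pow]
    exact hi
  have hm : (y ^ i)⁻¹ * g ∈ M := QuotientGroup.eq.1 hi'
  have hg : g = y ^ i * ((y ^ i)⁻¹ * g) := by group
  rw [hg, ← conjFun_mul, ← hpow i]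
  exact (mem_inertia M).1
    (le_inertia M (isClassFunction_irr (conjFun_irr M θ hθ (y ^ i))) hm)

end gal

end Cfsg.Agent.Lib.Helper8.FVal
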