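import Mathlib
import Cfsg.Agent.Lib.Helper8.FVal4

/-!
# The index of `Stab(θ)` in `Stab(χ)` is `1` or `p`
-/

set_option autoImplicit false
set_option linter.unusedSectionVars false

namespace Cfsg.Agent.Lib.Helper8.FVal

open Cfsg Cfsg.Agent.Lib.Helper1 Cfsg.Agent.Lib.Helper4 Cfsg.Agent.Lib.Helper8
open Cfsg.Agent.S0193 Cfsg.Agent.S0194
open scoped ComplexConjugate

universe u

section dich

variable {P : Type u} [Group P] [Fintype P] (M : Subgroup P) [Fintype M] [hM : M.Normal]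

theorem card_stab_dichotomy {p : ℕ} (hp : p.Prime) (hidx : M.index = p) (N : ℕ) [NeZero N]
    (hN : N = Nat.card P) {χ : P → ℂ} (hχ : IsIrrCharacter P χ)
    (hvan : ∀ g, g ∉ M → χ g = 0) {θ : M → ℂ} (hθ : IsIrrCharacter M θ)
    (hover : classInner (fun m : M => χ m) θ ≠ 0) :
    (Nat.card {u : (ZMod N)ˣ // ∀ x : P, χ (x ^ (u : ZMod N).val) = χ x} =
      Nat.card {u : (ZMod N)ˣ // ∀ x : M, θ (x ^ (u : ZMod N).val) = θ x}) ∨
    (Nat.card {u : (ZMod N)ˣ // ∀ x : P, χ (x ^ (u : ZMod N).val) = χ x} =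
      p * Nat.card {u : (ZMod N)ˣ // ∀ x : M, θ (x ^ (u : ZMod N).val) = θ x} ∧
      ∀ ψ ∈ RDG.orbitFinset M θ, ∃ k : ℕ, k.Coprime (Nat.card P) ∧ ψ = powFn k θ) := by
  classical
  have hNP : ∀ x : P, x ^ N = 1 := by
    intro x; rw [hN]; exact pow_card_eq_one'
  have hNM : ∀ x : M, x ^ N = 1 := by
    intro x; rw [hN]; exact pow_card_sub M x
  have hcop : ∀ u : (ZMod N)ˣ, (u : ZMod N).val.Coprime (Nat.card P) := by
    intro u; rw [← hN]; exact ZMod.val_coe_unit_coprime u
  obtain ⟨hsum, hcard, -⟩ := clifford_index_p M hp hidx hχ hvan hθ hover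
  set A : Subgroup (ZMod N)ˣ := galStab N hNP χ with hA
  have hOS := card_galOrbit_mul N hNM A θ
  have hAc : Nat.card A =
      Nat.card {u : (ZMod N)ˣ // ∀ x : P, χ (x ^ (u : ZMod N).val) = χ x} := by
    apply Nat.card_congr
    apply Equiv.subtypeEquivRight
    intro u
    rw [hA, mem_galStab]
    constructor
    · intro h x
      exact congrFun h x
    · intro h
      funext x
      exact h x
  have hBc : Nat.card {u : (ZMod N)ˣ // u ∈ A ∧ powFn ((u : ZMod N).val) θ = θ} =
      Nat.card {u : (ZMod N)ˣ // ∀ x : M, θ (x ^ (u : ZMod N).val) = θ x} := by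
    apply Nat.card_congr
    apply Equiv.subtypeEquivRight
    intro u
    constructor
    · intro h x
      exact congrFun h.2 x
    · intro h
      have hfix : powFn ((u : ZMod N).val) θ = θ := funext h
      refine ⟨?_, hfix⟩
      rw [hA, mem_galStab]
      exact powFn_fix_of_constituent M (hcop u) hvan hsum hfix
  rw [hBc] at hOS
  rw [← hAc, ← hOS]
  by_cases hall : ∀ u ∈ A, powFn ((u : ZMod N).val) θ = θ
  · left
    have h1 : Nat.card {g : M → ℂ // ∃ u ∈ A, powFn ((u : ZMod N).val) θ = g} = 1 := by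
      rw [Nat.card_eq_one_iff_unique]
      constructor
      · constructor
        rintro ⟨g, u, hu, rfl⟩ ⟨g', u', hu', rfl⟩
        apply Subtype.ext
        show powFn ((u : ZMod N).val) θ = powFn ((u' : ZMod N).val) θ
        rw [hall u hu, hall u' hu']
      · exact ⟨⟨θ, 1, A.one_mem, hall 1 A.one_mem⟩⟩
    rw [h1, one_mul]
  · right
    push Not at hall
    obtain ⟨u₀, hu₀, hne⟩ := hall
    have hfix₀ : powFn ((u₀ : ZMod N).val) χ = χ := by
      rw [hA, mem_galStab] at hu₀
      exact hu₀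
    have hmem := powFn_mem_orbit M (hcop u₀) hχ hθ hover hfix₀
    have h1 : Nat.card {g : M → ℂ // ∃ u ∈ A, powFn ((u : ZMod N).val) θ = g} = p := by
      rw [← hcard, ← Fintype.card_coe, ← Nat.card_eq_fintype_card]
      apply Nat.card_congr
      apply Equiv.subtypeEquivRight
      intro g
      constructor
      · rintro ⟨u, hu, rfl⟩
        rw [hA, mem_galStab] at hu
        exact powFn_mem_orbit M (hcop u) hχ hθ hover hu
      · intro hg
        obtain ⟨i, rfl⟩ := orbit_eq_powers M hp hidx hθ hmem hne hg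
        exact ⟨u₀ ^ i, A.pow_mem hu₀ i, powFn_unit_pow N hNM u₀ i θ⟩
    refine ⟨by rw [h1], ?_⟩
    intro ψ hψ
    obtain ⟨i, rfl⟩ := orbit_eq_powers M hp hidx hθ hmem hne hψ
    exact ⟨_, Nat.Coprime.pow_left i (hcop u₀), rfl⟩

end dich

end Cfsg.Agent.Lib.Helper8.FVal
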