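import Mathlib
import Cfsg.Agent.Lib.Helper8.FVal5
import Cfsg.Agent.Lib.Helper8.CharKernel
import Cfsg.Agent.Lib.Helper8.Deflation
import Cfsg.Agent.Lib.Helper1.LinearChar

/-!
# Faithful characters of `p`-groups: the linear case, and kernels of the constituents
-/

set_option autoImplicit false
set_option linter.unusedSectionVars false

namespace Cfsg.Agent.Lib.Helper8.FVal

open Cfsg Cfsg.Agent.Lib.Helper1 Cfsg.Agent.Lib.Helper4 Cfsg.Agent.Lib.Helper8
open Cfsg.Agent.S0193 Cfsg.Agent.S0194
open scoped ComplexConjugate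

universe u

section lin

variable {P : Type u} [Group P] [Finite P]

/-- the field of values of a faithful linear character of a group of order `N` has degree
`φ(N)`. -/
theorem finrank_faithful_linear {χ : P → ℂ} (hχ : IsIrrCharacter P χ) (h1 : χ 1 = 1)
    (hfaith : ∀ g : P, χ g = χ 1 → g = 1) :
    Module.finrank ℚ (IntermediateField.adjoin ℚ (Set.range χ)) = Nat.totient (Nat.card P) := by
  classical
  obtain ⟨φ, hφ⟩ := exists_hom_of_isIrrCharacter hχ h1
  have hinj : Function.Injective ((Units.coeHom ℂ).comp φ) := by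
    rw [injective_iff_map_eq_one]
    intro g hg
    apply hfaith
    rw [h1, hφ]
    exact hg
  have hcyc : IsCyclic P := isCyclic_of_injective_ringHom _ hinj
  obtain ⟨x, hx⟩ := hcyc.exists_generator
  have hord : orderOf x = Nat.card P := orderOf_eq_card_of_forall_mem_zpowers hx
  have hfv := finrank_mul_card_stab (isCharacter_of_irr hχ) (Nat.card P)
    (fun x => pow_card_eq_one')
  have hstab : Nat.card {u : (ZMod (Nat.card P))ˣ //
      ∀ x, χ (x ^ ((u : (ZMod (Nat.card P))ˣ) : ZMod (Nat.card P)).val) = χ x} = 1 := by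
    rw [Nat.card_eq_one_iff_unique]
    constructor
    · constructor
      have key : ∀ u : {u : (ZMod (Nat.card P))ˣ //
          ∀ x, χ (x ^ ((u : (ZMod (Nat.card P))ˣ) : ZMod (Nat.card P)).val) = χ x},
          u.1 = 1 := by
        rintro ⟨u, hu⟩
        have h2 := hu x
        have h3 : x ^ ((u : ZMod (Nat.card P)).val) = x ^ 1 := by
          apply hinj
          show ((φ (x ^ ((u : ZMod (Nat.card P)).val)) : ℂˣ) : ℂ) = ((φ (x ^ 1) : ℂˣ) : ℂ)
          rw [pow_one]
          have h4 := congrFun hφ (x ^ ((u : ZMod (Nat.card P)).val))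
          have h5 := congrFun hφ x
          rw [← h4, ← h5]
          exact h2
        rw [pow_eq_pow_iff_modEq, hord] at h3
        apply Units.ext
        rw [Units.val_one, ← ZMod.natCast_zmod_val (u : ZMod (Nat.card P)),
          ← Nat.cast_one (R := ZMod (Nat.card P)), ZMod.natCast_eq_natCast_iff]
        exact h3
      intro a b
      apply Subtype.ext
      rw [key a, key b]
    · refine ⟨⟨1, fun y => ?_⟩⟩
      congr 1
      rw [Units.val_one]
      have := pow_eq_pow_of_modEq' (Nat.card P) (pow_card_eq_one' (x := y))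
        (val_one_modEq (Nat.card P))
      rw [this, pow_one]
  rw [hstab, mul_one] at hfv
  exact hfv

end lin

section ker

variable {P : Type u} [Group P] [Fintype P] (M : Subgroup P) [Fintype M] [hM : M.Normal]

/-- an element lying in the kernels of all the constituents is trivial. -/
theorem eq_one_of_forall_orbit {χ : P → ℂ} (hfaith : ∀ g : P, χ g = χ 1 → g = 1) {θ : M → ℂ}
    (hsum : (fun m : M => χ m) = ∑ ψ ∈ RDG.orbitFinset M θ, ψ) {m : M}
    (hm : ∀ ψ ∈ RDG.orbitFinset M θ, ψ m = ψ 1) : m = 1 := by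
  have h1 : ∀ m : M, χ m = ∑ ψ ∈ RDG.orbitFinset M θ, ψ m := by
    intro m
    have := congrFun hsum m
    rw [Finset.sum_apply] at this
    exact this
  apply Subtype.ext
  rw [Subgroup.coe_one]
  apply hfaith
  have h2 : χ 1 = χ ((1 : M) : P) := by rw [Subgroup.coe_one]
  rw [h2, h1, h1]
  exact Finset.sum_congr rfl hm

/-- kernels of conjugate characters have the same index. -/
theorem index_ker_conj {θ : M → ℂ} (K K' : Subgroup M) (hK : ∀ m : M, m ∈ K ↔ θ m = θ 1)
    (g : P) (hK' : ∀ m : M, m ∈ K' ↔ Cfsg.Agent.S0193.conjFun M θ g m =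
      Cfsg.Agent.S0193.conjFun M θ g 1) : K'.index = K.index := by
  have h1 : K' = K.comap (MulAut.conjNormal g : M ≃* M).toMonoidHom := by
    ext m
    rw [hK', Subgroup.mem_comap, hK, RDG.conjFun_apply_one]
    rfl
  rw [h1]
  exact Subgroup.index_comap_of_surjective K (MulAut.conjNormal g : M ≃* M).surjective

/-- the embedding bound: if `χ` is faithful, then `|M| ≤ |M/ker θ|^p`. -/
theorem card_le_index_pow {χ : P → ℂ} (hfaith : ∀ g : P, χ g = χ 1 → g = 1) {θ : M → ℂ}
    (hθ : IsIrrCharacter M θ)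
    (hsum : (fun m : M => χ m) = ∑ ψ ∈ RDG.orbitFinset M θ, ψ)
    (K : Subgroup M) (hK : ∀ m : M, m ∈ K ↔ θ m = θ 1) :
    Nat.card M ≤ K.index ^ (RDG.orbitFinset M θ).card := by
  classical
  have hex : ∀ ψ : {ψ // ψ ∈ RDG.orbitFinset M θ}, ∃ K' : Subgroup M,
      (∀ m : M, m ∈ K' ↔ (ψ : M → ℂ) m = (ψ : M → ℂ) 1) ∧ K'.index = K.index := by
    rintro ⟨ψ, hψ⟩
    obtain ⟨g, rfl⟩ := (RDG.mem_orbitFinset M).1 hψ
    obtain ⟨K', -, hK'⟩ := exists_normal_ker (isCharacter_of_irr (conjFun_irr M θ hθ g))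
    exact ⟨K', hK', index_ker_conj M K K' hK g hK'⟩
  choose Kf hKf hidx using hex
  have hbot : (⨅ i, Kf i) = ⊥ := by
    rw [eq_bot_iff]
    intro m hm
    rw [Subgroup.mem_iInf] at hm
    rw [Subgroup.mem_bot]
    apply eq_one_of_forall_orbit M hfaith hsum
    intro ψ hψ
    exact (hKf ⟨ψ, hψ⟩ m).1 (hm ⟨ψ, hψ⟩)
  have h1 := Subgroup.index_iInf_le Kf
  rw [hbot, Subgroup.index_bot, Finset.prod_congr rfl fun i _ => hidx i, Finset.prod_const,
    Finset.card_univ, Fintype.card_coe] at h1
  exact h1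

end ker

end Cfsg.Agent.Lib.Helper8.FVal
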