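import Mathlib
import Cfsg.Agent.Lib.Helper8.FVal6

/-!
# The order of a `p`-group with a faithful irreducible character of given degree and field of
values
-/

set_option autoImplicit false
set_option linter.unusedSectionVars false

namespace Cfsg.Agent.Lib.Helper8.FVal

open Cfsg Cfsg.Agent.Lib.Helper1 Cfsg.Agent.Lib.Helper4 Cfsg.Agent.Lib.Helper8
open Cfsg.Agent.S0193 Cfsg.Agent.S0194
open scoped ComplexConjugate

universe u

theorem arith_s1 (p a a' f' t : ℕ) (hp : 1 ≤ p) (hf' : 1 ≤ f')
    (hIH : (p - 1) * a' ≤ (f' - 1) + (p - 1) * (t + 1) * f') (hemb : a - 1 ≤ a' * p) :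
    (p - 1) * a ≤ (p * f' - 1) + (p - 1) * (t + 1) * (p * f') := by
  obtain ⟨q, rfl⟩ : ∃ q, p = q + 1 := ⟨p - 1, by omega⟩
  obtain ⟨g, rfl⟩ : ∃ g, f' = g + 1 := ⟨f' - 1, by omega⟩
  simp only [Nat.add_sub_cancel] at *
  have h1 : (q + 1) * (g + 1) - 1 = q * g + q + g := by
    apply Nat.sub_eq_of_eq_add
    ring
  rw [h1]
  have h2 : a ≤ 1 + a' * (q + 1) := by omega
  nlinarith [Nat.mul_le_mul_left q h2, Nat.mul_le_mul_left (q + 1) hIH]

theorem arith_sp (p a f' t : ℕ) (hp : 2 ≤ p) (hf' : 1 ≤ f') (ha : 1 ≤ a)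
    (hIH : (p - 1) * (a - 1) ≤ (f' - 1) + (p - 1) * (t + 1 + 1) * f') :
    (p - 1) * a ≤ (p * f' - 1) + (p - 1) * (t + 1) * (p * f') := by
  obtain ⟨r, rfl⟩ : ∃ r, p = r + 2 := ⟨p - 2, by omega⟩
  obtain ⟨g, rfl⟩ : ∃ g, f' = g + 1 := ⟨f' - 1, by omega⟩
  obtain ⟨b, rfl⟩ : ∃ b, a = b + 1 := ⟨a - 1, by omega⟩
  have e1 : r + 2 - 1 = r + 1 := by omega
  simp only [Nat.add_sub_cancel, e1] at *
  have h1 : (r + 2) * (g + 1) - 1 = (r + 1) * g + (r + 1) + g := by
    apply Nat.sub_eq_of_eq_add
    ring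
  rw [h1]
  nlinarith [Nat.zero_le (r * g), Nat.zero_le (r * t), Nat.zero_le (r * g * t),
    Nat.zero_le (g * t), Nat.zero_le (r * r * g), Nat.zero_le (r * r * t),
    Nat.zero_le (r * r * g * t), Nat.zero_le (r * r)]

section main

/-- **The bound.**  A `p`-group of order `p ^ a` with a faithful irreducible character `χ` of
degree `f` and `[ℚ(χ) : ℚ] = (p - 1) p ^ t` satisfies
`(p - 1) a ≤ (f - 1) + (p - 1) (t + 1) f`. -/
theorem order_bound (p : ℕ) (hp : p.Prime) : ∀ (a : ℕ) (P : Type u) [Group P] [Finite P],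
    Nat.card P = p ^ a → ∀ (χ : P → ℂ), IsIrrCharacter P χ → (∀ g : P, χ g = χ 1 → g = 1) →
    ∀ t : ℕ, Module.finrank ℚ (IntermediateField.adjoin ℚ (Set.range χ)) = (p - 1) * p ^ t →
    (p - 1) * a ≤ (charDegree χ - 1) + (p - 1) * (t + 1) * charDegree χ := by
  intro a
  induction a using Nat.strong_induction_on with
  | _ a ih =>
  intro P _ _ hP χ hχ hfaith t hfield
  classical
  have : Fintype P := Fintype.ofFinite P
  obtain ⟨hχ1, hfpos⟩ := irr_apply_one_eq_charDegree hχ
  set f := charDegree χ with hf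
  rcases Nat.eq_zero_or_pos a with ha0 | ha
  · rw [ha0, mul_zero]
    exact Nat.zero_le _
  by_cases hf1 : f = 1
  · -- the linear case
    have h1 : χ 1 = 1 := by rw [hχ1, hf1, Nat.cast_one]
    have h2 := finrank_faithful_linear hχ h1 hfaith
    rw [hP, Nat.totient_prime_pow hp ha, hfield, mul_comm] at h2
    have hp1 : 0 < p - 1 := Nat.sub_pos_of_lt hp.one_lt
    have h3 : p ^ t = p ^ (a - 1) := Nat.eq_of_mul_eq_mul_right hp1 h2
    have h4 : t = a - 1 := Nat.pow_right_injective hp.two_le h3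
    have h5 : t + 1 = a := by omega
    rw [hf1, h5, mul_one]
    exact Nat.le_add_left _ _
  · -- the non-linear case
    have h1 : χ 1 ≠ 1 := by
      rw [hχ1]
      intro h
      apply hf1
      exact_mod_cast h
    have hPg : IsPGroup p P := IsPGroup.of_card hP
    obtain ⟨M, hMn, hidx, hvan⟩ := exists_normal_vanishing hp hPg hχ h1
    have := hMn
    have : Fintype M := Fintype.ofFinite M
    have hresχ : IsCharacter M (fun m : M => χ m) :=
      Cfsg.Agent.S0148.isCharacter_restrict M (isCharacter_of_irr hχ)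
    have hres1 : (fun m : M => χ m) 1 ≠ 0 := by
      show χ ((1 : M) : P) ≠ 0
      rw [Subgroup.coe_one]
      exact irr_apply_one_ne_zero hχ
    obtain ⟨θ, hθ, m, hm0, hm⟩ := exists_constituent hresχ hres1
    have hover : classInner (fun m : M => χ m) θ ≠ 0 := by
      rw [hm]
      exact Nat.cast_ne_zero.2 hm0.ne'
    obtain ⟨hsum, hcard, -⟩ := clifford_index_p M hp hidx hχ hvan hθ hover
    obtain ⟨hθ1, hf'pos⟩ := irr_apply_one_eq_charDegree hθ
    set f' := charDegree θ with hf'
    have hff' : f = p * f' := by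
      have h2 : χ 1 = ∑ ψ ∈ RDG.orbitFinset M θ, ψ 1 := by
        have := congrFun hsum 1
        rw [Finset.sum_apply] at this
        rw [← this]
        show χ 1 = χ ((1 : M) : P)
        rw [Subgroup.coe_one]
      have h3 : ∀ ψ ∈ RDG.orbitFinset M θ, ψ 1 = θ 1 := by
        intro ψ hψ
        obtain ⟨g, rfl⟩ := (RDG.mem_orbitFinset M).1 hψ
        exact RDG.conjFun_apply_one M θ g
      rw [Finset.sum_congr rfl h3, Finset.sum_const, hcard, hχ1, hθ1, nsmul_eq_mul] at h2
      exact_mod_cast h2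
    have hcM : Nat.card M = p ^ (a - 1) := by
      have h2 := Subgroup.card_mul_index M
      rw [hidx, hP] at h2
      have h3 : p ^ a = p ^ (a - 1) * p := by
        rw [← pow_succ]
        congr 1
        omega
      rw [h3] at h2
      exact Nat.eq_of_mul_eq_mul_right hp.pos h2
    have hfvχ := finrank_mul_card_stab (isCharacter_of_irr hχ) (Nat.card P)
      (fun x => pow_card_eq_one')
    have hfvθ := finrank_mul_card_stab (isCharacter_of_irr hθ) (Nat.card P) (pow_card_sub M)
    have hdich := card_stab_dichotomy M hp hidx (Nat.card P) rfl hχ hvan hθ hover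
    have htot : 0 < Nat.totient (Nat.card P) := Nat.totient_pos.2 Nat.card_pos
    -- the kernel and the deflation
    obtain ⟨K, hKn, hK⟩ := exists_normal_ker (isCharacter_of_irr hθ)
    have := hKn
    obtain ⟨θb, hθb, hθbval⟩ := exists_deflation K hθ (fun g hg => (hK g).1 hg)
    have hθbfaith : ∀ q : M ⧸ K, θb q = θb 1 → q = 1 := by
      intro q hq
      obtain ⟨m, rfl⟩ := QuotientGroup.mk_surjective q
      rw [QuotientGroup.eq_one_iff, hK, ← hθbval m, hq, ← QuotientGroup.mk_one, hθbval]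
    have hrange : Set.range θb = Set.range θ := by
      ext c
      constructor
      · rintro ⟨q, rfl⟩
        obtain ⟨m, rfl⟩ := QuotientGroup.mk_surjective q
        exact ⟨m, (hθbval m).symm⟩
      · rintro ⟨m, rfl⟩
        exact ⟨QuotientGroup.mk m, hθbval m⟩
    have hdegb : charDegree θb = f' := by
      rw [hf']
      unfold charDegree
      rw [← QuotientGroup.mk_one, hθbval]
    obtain ⟨a', ha'le, ha'⟩ : ∃ a' ≤ a - 1, K.index = p ^ a' :=
      (Nat.dvd_prime_pow hp).1 (hcM ▸ Subgroup.index_dvd_card K)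
    have hcQ : Nat.card (M ⧸ K) = p ^ a' := by rw [← Subgroup.index_eq_card, ha']
    have ha'lt : a' < a := by omega
    rw [hff']
    rcases hdich with hs1 | ⟨hsp, hgal⟩
    · -- `Stab(χ) = Stab(θ)`
      have hfθ : Module.finrank ℚ (IntermediateField.adjoin ℚ (Set.range θ)) =
          (p - 1) * p ^ t := by
        rw [← hfield]
        rw [hs1, ← hfvθ] at hfvχ
        have hB0 : 0 < Nat.card {u : (ZMod (Nat.card P))ˣ //
            ∀ x : M, θ (x ^ ((u : (ZMod (Nat.card P))ˣ) : ZMod (Nat.card P)).val) = θ x} := by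
          rcases Nat.eq_zero_or_pos (Nat.card {u : (ZMod (Nat.card P))ˣ //
            ∀ x : M, θ (x ^ ((u : (ZMod (Nat.card P))ˣ) : ZMod (Nat.card P)).val) = θ x})
            with h0 | h0
          · rw [h0, mul_zero] at hfvθ
            omega
          · exact h0
        exact (Nat.eq_of_mul_eq_mul_right hB0 hfvχ).symm
      have hIH := ih a' ha'lt (M ⧸ K) hcQ θb hθb hθbfaith t (by rw [hrange, hfθ])
      rw [hdegb] at hIH
      have hemb := card_le_index_pow M hfaith hθ hsum K hK
      rw [hcM, ha', hcard, ← pow_mul] at hemb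
      have h5 : a - 1 ≤ a' * p := (Nat.pow_le_pow_iff_right hp.one_lt).1 hemb
      exact arith_s1 p a a' f' t hp.pos hf'pos hIH h5
    · -- `|Stab(χ) : Stab(θ)| = p`
      have hfθ : Module.finrank ℚ (IntermediateField.adjoin ℚ (Set.range θ)) =
          (p - 1) * p ^ (t + 1) := by
        rw [pow_succ, ← mul_assoc, ← hfield]
        rw [hsp, ← hfvθ, ← mul_assoc] at hfvχ
        have hB0 : 0 < Nat.card {u : (ZMod (Nat.card P))ˣ //
            ∀ x : M, θ (x ^ ((u : (ZMod (Nat.card P))ˣ) : ZMod (Nat.card P)).val) = θ x} := by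
          rcases Nat.eq_zero_or_pos (Nat.card {u : (ZMod (Nat.card P))ˣ //
            ∀ x : M, θ (x ^ ((u : (ZMod (Nat.card P))ˣ) : ZMod (Nat.card P)).val) = θ x})
            with h0 | h0
          · rw [h0, mul_zero] at hfvθ
            omega
          · exact h0
        exact (Nat.eq_of_mul_eq_mul_right hB0 hfvχ).symm
      have hKbot : K = ⊥ := by
        rw [eq_bot_iff]
        intro m hm
        rw [Subgroup.mem_bot]
        apply eq_one_of_forall_orbit M hfaith hsum
        intro ψ hψ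
        obtain ⟨k, -, rfl⟩ := hgal ψ hψ
        rw [powFn_apply, powFn_apply, one_pow]
        exact (hK _).1 (K.pow_mem hm k)
      have ha'eq : a' = a - 1 := by
        rw [hKbot, Subgroup.index_bot, hcM] at ha'
        exact (Nat.pow_right_injective hp.two_le ha').symm
      have hIH := ih a' ha'lt (M ⧸ K) hcQ θb hθb hθbfaith (t + 1) (by rw [hrange, hfθ])
      rw [hdegb, ha'eq] at hIH
      exact arith_sp p a f' t hp.two_le hf'pos ha hIH

end main

end Cfsg.Agent.Lib.Helper8.FVal
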