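import Mathlib
import Cfsg.Agent.Lib.Helper8.GL15
import Cfsg.Agent.Lib.Helper8.GH1
import Cfsg.Agent.Lib.Helper2.DetChar
import Cfsg.Agent.S0148

/-!
# The Glauberman package for a single element normalising `G`, inside a larger group
-/

set_option autoImplicit false
set_option linter.unusedSectionVars false
set_option maxHeartbeats 800000

namespace Cfsg.Agent.Lib.Helper8.FX

open Cfsg Cfsg.Agent.Lib.Helper1 Cfsg.Agent.Lib.Helper4 Cfsg.Agent.Lib.Helper8
open scoped ComplexConjugate

universe u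

theorem detOrder_restrict_dvd {K : Type u} [Group K] [Finite K] (H : Subgroup K) {χ : K → ℂ}
    (hχ : IsCharacter K χ) : detOrder (fun h : H => χ h) ∣ detOrder χ := by
  unfold detOrder
  rw [Cfsg.Agent.Lib.Helper2.DetChar.detChar_restrict H hχ]
  apply orderOf_dvd_of_pow_eq_one
  funext h
  have := congrFun (pow_orderOf_eq_one (detChar χ)) (h : K)
  simpa using this

variable {Γ : Type u} [Group Γ] [Fintype Γ]

/-- Isaacs 13.6 for an element `x` normalising `G`, in terms of a character of the ambient group. -/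
theorem elt_package {G : Subgroup Γ} [hG : G.Normal] [Fintype G] {x : Γ}
    (hcop : (Nat.card G).Coprime (orderOf x)) (C : Subgroup Γ) [Fintype C] (hC : fixC G x = C)
    {χh : Γ → ℂ} (hχh : IsCharacter Γ χh) (hres : IsIrrCharacter G (fun g : G => χh g))
    (hdet : (detOrder χh).Coprime (orderOf x)) :
    ∃ β : IrrCharacter C, ∃ ε : ℤ, (ε = 1 ∨ ε = -1) ∧
      ∀ c : C, ∀ x' : Γ, Subgroup.zpowers x' = Subgroup.zpowers x →
        χh ((c : Γ) * x') = (ε : ℂ) * (β : C → ℂ) c := by
  classical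
  subst hC
  have hs : Normalizes x G := by
    intro g
    constructor
    · intro hg
      exact hG.conj_mem g hg x
    · intro hg
      have := hG.conj_mem _ hg x⁻¹
      simpa [mul_assoc] using this
  haveI := normal_G₀ hs
  have hsetup := setup₀ hcop
  haveI : Fintype (amb G x) := Fintype.ofFinite _
  haveI : Fintype (G₀ G x) := Fintype.ofFinite _
  haveI : Fintype (C₀ G x) := Fintype.ofFinite _
  let χA : amb G x → ℂ := fun a => χh a
  have hχAc : IsCharacter (amb G x) χA := Cfsg.Agent.S0148.isCharacter_restrict (amb G x) hχh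
  have hresA : IsIrrCharacter (G₀ G x) (fun g : G₀ G x => χA g) :=
    isIrrCharacter_comp_mulEquiv hres (eB G x)
  have hχA : IsIrrCharacter (amb G x) χA := isIrrCharacter_of_restrict_irr (G₀ G x) hχAc hresA
  have hdetA : (detOrder χA).Coprime (orderOf (s₀ G x)) := by
    rw [orderOf_s₀]
    exact Nat.Coprime.coprime_dvd_left (detOrder_restrict_dvd (amb G x) hχh) hdet
  obtain ⟨β₀, ε, hε, hval, -, -, -⟩ := cyc_package hsetup (C₀ G x) rfl hχA hresA hdetA
  -- transfer `β₀` to `fixC G x`
  have hmemC₀ : ∀ c : fixC G x, (⟨(c : Γ), le_amb G x (mem_fixC_iff.1 c.2).1⟩ : amb G x) ∈ C₀ G x := by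
    intro c
    rw [mem_fixC_iff]
    refine ⟨Subgroup.mem_subgroupOf.2 (mem_fixC_iff.1 c.2).1, ?_⟩
    apply Subtype.ext
    exact (mem_fixC_iff.1 c.2).2
  let e : fixC G x ≃* C₀ G x :=
    { toFun := fun c => ⟨⟨(c : Γ), le_amb G x (mem_fixC_iff.1 c.2).1⟩, hmemC₀ c⟩
      invFun := fun c₀ => ⟨((c₀ : amb G x) : Γ), by
        rw [← map_fixC₀]
        exact ⟨(c₀ : amb G x), c₀.2, rfl⟩⟩
      left_inv := fun c => rfl
      right_inv := fun c₀ => rfl
      map_mul' := fun a b => rfl }
  refine ⟨⟨fun c => (β₀ : C₀ G x → ℂ) (e c), isIrrCharacter_comp_mulEquiv β₀.2 e⟩, ε, hε, ?_⟩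
  intro c x' hx'
  have hx'mem : x' ∈ amb G x := by
    have : x' ∈ Subgroup.zpowers x := by rw [← hx']; exact Subgroup.mem_zpowers x'
    exact (le_sup_right : Subgroup.zpowers x ≤ amb G x) this
  have hz : Subgroup.zpowers (⟨x', hx'mem⟩ : amb G x) = Subgroup.zpowers (s₀ G x) := by
    apply Subgroup.map_injective (amb G x).subtype_injective
    rw [MonoidHom.map_zpowers, MonoidHom.map_zpowers]
    exact hx'
  have := hval (e c) ⟨x', hx'mem⟩ hz
  exact this

end Cfsg.Agent.Lib.Helper8.FX
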