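import Mathlib
import Cfsg.Agent.Lib.Helper8.FX1
import Cfsg.Agent.Lib.Helper8.GL8

/-!
# Constancy of the Glauberman correspondent along a cyclic group with uniform fixed points
-/

set_option autoImplicit false
set_option linter.unusedSectionVars false
set_option maxHeartbeats 800000

namespace Cfsg.Agent.Lib.Helper8.FX

open Cfsg Cfsg.Agent.Lib.Helper1 Cfsg.Agent.Lib.Helper4 Cfsg.Agent.Lib.Helper8
open scoped ComplexConjugate

universe u

section

variable {K : Type u} [Group K] [Fintype K]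

/-- A signed irreducible character determines the character and the sign. -/
theorem pm_irr_unique {β β' : IrrCharacter K} {ε ε' : ℤ} (hε : ε = 1 ∨ ε = -1)
    (hε' : ε' = 1 ∨ ε' = -1)
    (h : ∀ c : K, (ε : ℂ) * (β : K → ℂ) c = (ε' : ℂ) * (β' : K → ℂ) c) : β = β' ∧ ε = ε' := by
  have hεε : ε = ε' := by
    obtain ⟨d, hd0, hd⟩ := irr_apply_one_pos β.2
    obtain ⟨d', hd0', hd'⟩ := irr_apply_one_pos β'.2
    have h1 := h 1
    rw [hd, hd'] at h1
    have h2 : ε * (d : ℤ) = ε' * (d' : ℤ) := by exact_mod_cast h1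
    rcases hε with h3 | h3 <;> rcases hε' with h4 | h4 <;> rw [h3, h4] at h2 ⊢ <;>
      first | rfl | (exfalso; omega)
  refine ⟨?_, hεε⟩
  rw [hεε] at h
  apply Subtype.ext
  funext c
  have hne : (ε' : ℂ) ≠ 0 := by
    rcases hε' with h1 | h1 <;> rw [h1] <;> norm_num
  exact mul_left_cancel₀ hne (h c)

end

variable {Γ : Type u} [Group Γ] [Fintype Γ]

/-- The multiplicity function at a point where the coset values are a signed irreducible
character. -/
theorem multFn_of_signed {G : Subgroup Γ} {s : Γ} [Fintype (fixC G s)] (χh : Γ → ℂ)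
    (γ β : IrrCharacter (fixC G s)) (ε : ℤ) (z : Subgroup.zpowers s)
    (h : ∀ c : fixC G s, χh ((c : Γ) * (z : Γ)) = (ε : ℂ) * (β : fixC G s → ℂ) c) :
    multFn G s χh (γ : fixC G s → ℂ) z = if β = γ then (ε : ℂ) else 0 := by
  unfold multFn
  have : (fun c : fixC G s => χh ((c : Γ) * (z : Γ))) = (ε : ℂ) • (β : fixC G s → ℂ) := by
    funext c
    rw [h c]
    rfl
  rw [this, classInner_smul_left, classInner_irr β.2 γ.2]
  by_cases hβγ : β = γ
  · rw [if_pos hβγ, if_pos (congrArg Subtype.val hβγ), mul_one]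
  · rw [if_neg hβγ, if_neg (fun h' => hβγ (Subtype.ext h')), mul_zero]

/-- Multiplying by an element of prime power order does not change the correspondent. -/
theorem corr_eq_of_ppower {G : Subgroup Γ} {s : Γ} [Fintype (fixC G s)] {χh : Γ → ℂ}
    (hχh : IsCharacter Γ χh) {p j : ℕ} (hp : p.Prime) (u y : Subgroup.zpowers s)
    (hu : u ^ (p ^ j) = 1) (β₁ β₂ : IrrCharacter (fixC G s)) (ε₁ ε₂ : ℤ)
    (hε₁ : ε₁ = 1 ∨ ε₁ = -1) (hε₂ : ε₂ = 1 ∨ ε₂ = -1)
    (h₁ : ∀ c : fixC G s, χh ((c : Γ) * (y : Γ)) = (ε₁ : ℂ) * (β₁ : fixC G s → ℂ) c)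
    (h₂ : ∀ c : fixC G s, χh ((c : Γ) * ((u * y : Subgroup.zpowers s) : Γ))
      = (ε₂ : ℂ) * (β₂ : fixC G s → ℂ) c) : β₁ = β₂ := by
  haveI : Fact p.Prime := ⟨hp⟩
  obtain ⟨M, hM⟩ := exists_isPModular p
  have hΦ := isCharacter_multFn (G := G) (s := s) hχh β₁.2
  have h1 := memLocalIdeal_char_mul_sub hM hΦ u y j hu (mul_comm' u y)
  rw [multFn_of_signed χh β₁ β₁ ε₁ y h₁, multFn_of_signed χh β₁ β₂ ε₂ (u * y) h₂, if_pos rfl] at h1
  by_contra hne
  rw [if_neg (fun h' => hne h'.symm)] at h1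
  have h2 : ((0 : ℂ) - (ε₁ : ℂ)) = ((-ε₁ : ℤ) : ℂ) := by push_cast; ring
  rw [h2, memLocalIdeal_intCast_iff hM] at h1
  have h3 : (p : ℤ) ∣ 1 := by
    rcases hε₁ with h | h <;> rw [h] at h1
    · exact (dvd_neg.1 h1)
    · simpa using h1
  have h4 : p ∣ 1 := by exact_mod_cast h3
  exact hp.one_lt.ne' (Nat.dvd_one.1 h4)

/-- The gcd computation behind the induction. -/
theorem gcd_add_cofactor {a n q : ℕ} (hq : q.Prime) (hqa : q ∣ a) (hqn : q ∣ n) (hn : 0 < n) :
    ∃ v n' : ℕ, n = q ^ v * n' ∧ 0 < n' ∧ Nat.gcd (a + n') n < Nat.gcd a n ∧ n' < n := by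
  obtain ⟨v, n', hqn', hnn'⟩ := Nat.exists_eq_pow_mul_and_not_dvd hn.ne' q hq.ne_one
  have hv : 0 < v := by
    rcases Nat.eq_zero_or_pos v with h | h
    · rw [h, pow_zero, one_mul] at hnn'
      rw [hnn'] at hqn
      exact absurd hqn hqn'
    · exact h
  have hn'pos : 0 < n' := by
    rcases Nat.eq_zero_or_pos n' with h | h
    · rw [h, mul_zero] at hnn'
      omega
    · exact h
  have hcop : (q ^ v).Coprime n' := Nat.Coprime.pow_left v ((Nat.Prime.coprime_iff_not_dvd hq).2 hqn')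
  refine ⟨v, n', hnn', hn'pos, ?_, ?_⟩
  · have h1 : Nat.gcd (a + n') n = Nat.gcd (a + n') (q ^ v) * Nat.gcd (a + n') n' := by
      rw [hnn']
      exact Nat.Coprime.gcd_mul (a + n') hcop
    have h2 : Nat.gcd (a + n') (q ^ v) = 1 := by
      apply Nat.Coprime.pow_right
      rw [Nat.coprime_comm, Nat.Prime.coprime_iff_not_dvd hq]
      intro h
      exact hqn' ((Nat.dvd_add_right hqa).1 h)
    have h3 : Nat.gcd (a + n') n' = Nat.gcd a n' := by
      rw [Nat.gcd_add_self_left]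
    have h4 : Nat.gcd a n = Nat.gcd a (q ^ v) * Nat.gcd a n' := by
      rw [hnn']
      exact Nat.Coprime.gcd_mul a hcop
    have h5 : q ∣ Nat.gcd a (q ^ v) := Nat.dvd_gcd hqa (dvd_pow_self q hv.ne')
    have h6 : 0 < Nat.gcd a n' := Nat.gcd_pos_of_pos_right a hn'pos
    have h7 : 2 ≤ Nat.gcd a (q ^ v) := le_trans hq.two_le (Nat.le_of_dvd (Nat.gcd_pos_of_pos_right a (pow_pos hq.pos v)) h5)
    rw [h1, h2, one_mul, h3, h4]
    nlinarith
  · rw [hnn']
    have : 2 ≤ q ^ v := le_trans hq.two_le (Nat.le_self_pow hv.ne' q)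
    nlinarith

end Cfsg.Agent.Lib.Helper8.FX

namespace Cfsg.Agent.Lib.Helper8.FX

open Cfsg Cfsg.Agent.Lib.Helper1 Cfsg.Agent.Lib.Helper4 Cfsg.Agent.Lib.Helper8
open scoped ComplexConjugate

universe u

variable {Γ : Type u} [Group Γ] [Fintype Γ]

theorem zpowers_pow_eq_of_coprime (s : Γ) {a : ℕ} (h : (orderOf s).Coprime a) :
    Subgroup.zpowers (s ^ a) = Subgroup.zpowers s := by
  apply Subgroup.eq_of_le_of_card_ge
  · rw [Subgroup.zpowers_le]
    exact Subgroup.pow_mem _ (Subgroup.mem_zpowers s) a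
  · rw [Nat.card_zpowers, Nat.card_zpowers, Nat.Coprime.orderOf_pow h]

theorem exists_nat_pow_of_mem_zpowers {s y : Γ} (hy : y ∈ Subgroup.zpowers s) :
    ∃ a : ℕ, s ^ a = y := by
  rw [← mem_powers_iff_mem_zpowers] at hy
  exact hy

/-- **Constancy of the correspondent** along the nonidentity elements of `⟨s⟩`. -/
theorem corr_const {G : Subgroup Γ} {s : Γ} [Fintype (fixC G s)] {χh : Γ → ℂ}
    (hχh : IsCharacter Γ χh)
    (H : ∀ y : Γ, y ∈ Subgroup.zpowers s → y ≠ 1 → ∃ β : IrrCharacter (fixC G s), ∃ ε : ℤ,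
      (ε = 1 ∨ ε = -1) ∧ ∀ c : fixC G s, ∀ y' : Γ, Subgroup.zpowers y' = Subgroup.zpowers y →
        χh ((c : Γ) * y') = (ε : ℂ) * (β : fixC G s → ℂ) c)
    (β : IrrCharacter (fixC G s)) (ε₀ : ℤ) (hε₀ : ε₀ = 1 ∨ ε₀ = -1)
    (hβ : ∀ c : fixC G s, χh ((c : Γ) * s) = (ε₀ : ℂ) * (β : fixC G s → ℂ) c) :
    ∀ y : Γ, y ∈ Subgroup.zpowers s → y ≠ 1 → ∃ ε : ℤ, (ε = 1 ∨ ε = -1) ∧
      ∀ c : fixC G s, χh ((c : Γ) * y) = (ε : ℂ) * (β : fixC G s → ℂ) c := by
  have hn : 0 < orderOf s := orderOf_pos s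
  have key : ∀ g a : ℕ, Nat.gcd a (orderOf s) = g → s ^ a ≠ 1 →
      ∀ (β' : IrrCharacter (fixC G s)) (ε' : ℤ), (ε' = 1 ∨ ε' = -1) →
      (∀ c : fixC G s, χh ((c : Γ) * s ^ a) = (ε' : ℂ) * (β' : fixC G s → ℂ) c) → β' = β := by
    intro g
    induction g using Nat.strong_induction_on with
    | _ g ih =>
      intro a hg hne β' ε' hε' hval
      by_cases hg1 : g = 1
      · -- a generator
        have hcop : (orderOf s).Coprime a := by
          rw [Nat.coprime_comm]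
          rw [hg1] at hg
          exact hg
        have hs1 : s ≠ 1 := by
          intro h
          rw [h, one_pow] at hne
          exact hne rfl
        obtain ⟨βs, εs, hεs, hvs⟩ := H s (Subgroup.mem_zpowers s) hs1
        have e1 : βs = β := (pm_irr_unique hεs hε₀ (fun c => by
          rw [← hvs c s rfl, ← hβ c])).1
        have e2 : β' = βs := (pm_irr_unique hε' hεs (fun c => by
          rw [← hval c, ← hvs c (s ^ a) (zpowers_pow_eq_of_coprime s hcop)])).1
        rw [e2, e1]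
      · have hgpos : 0 < g := by
          rw [← hg]
          exact Nat.gcd_pos_of_pos_right a hn
        have hg2 : g ≠ 1 := hg1
        obtain ⟨q, hq, hqg⟩ := Nat.exists_prime_and_dvd hg2
        have hqa : q ∣ a := dvd_trans hqg (hg ▸ Nat.gcd_dvd_left a (orderOf s))
        have hqn : q ∣ orderOf s := dvd_trans hqg (hg ▸ Nat.gcd_dvd_right a (orderOf s))
        obtain ⟨v, n', hnn', hn'pos, hlt, hn'lt⟩ := gcd_add_cofactor hq hqa hqn hn
        rw [hg] at hlt
        let u : Subgroup.zpowers s := ⟨s ^ n', Subgroup.pow_mem _ (Subgroup.mem_zpowers s) n'⟩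
        let y : Subgroup.zpowers s := ⟨s ^ a, Subgroup.pow_mem _ (Subgroup.mem_zpowers s) a⟩
        have hu : u ^ (q ^ v) = 1 := by
          apply Subtype.ext
          show (s ^ n') ^ (q ^ v) = 1
          rw [← pow_mul, mul_comm, ← hnn']
          exact pow_orderOf_eq_one s
        have huy : ((u * y : Subgroup.zpowers s) : Γ) = s ^ (a + n') := by
          show s ^ n' * s ^ a = s ^ (a + n')
          rw [← pow_add, add_comm]
        have hne' : s ^ (a + n') ≠ 1 := by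
          intro h
          have h1 : orderOf s ∣ a + n' := orderOf_dvd_of_pow_eq_one h
          have h2 : Nat.gcd (a + n') (orderOf s) = orderOf s := Nat.gcd_eq_right h1
          have h3 : g ≤ orderOf s := Nat.le_of_dvd hn (hg ▸ Nat.gcd_dvd_right a (orderOf s))
          omega
        obtain ⟨β₂, ε₂, hε₂, hv₂⟩ := H (s ^ (a + n'))
          (Subgroup.pow_mem _ (Subgroup.mem_zpowers s) _) hne'
        have e1 : β₂ = β := ih _ hlt (a + n') rfl hne' β₂ ε₂ hε₂ (fun c => hv₂ c _ rfl)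
        have e2 : β' = β₂ := corr_eq_of_ppower hχh hq u y hu β' β₂ ε' ε₂ hε' hε₂
          (fun c => hval c) (fun c => by rw [huy]; exact hv₂ c _ rfl)
        rw [e2, e1]
  intro y hy hy1
  obtain ⟨a, rfl⟩ := exists_nat_pow_of_mem_zpowers hy
  obtain ⟨βy, εy, hεy, hvy⟩ := H (s ^ a) hy hy1
  have e := key _ a rfl hy1 βy εy hεy (fun c => hvy c _ rfl)
  refine ⟨εy, hεy, fun c => ?_⟩
  rw [hvy c _ rfl, e]

end Cfsg.Agent.Lib.Helper8.FX
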