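import Mathlib
import Cfsg.Agent.Lib.Helper8.CD4
import Cfsg.Agent.Lib.Helper8.ClassAlgebra2
import Cfsg.Agent.S0134

set_option autoImplicit false

namespace Cfsg.Agent.Lib.Helper8.FX

theorem consecutive_nonneg (x m : ℤ) : 0 ≤ (x - m) * (x - m - 1) := by
  rcases le_or_gt x m with h | h
  · nlinarith
  · have : m + 1 ≤ x := h
    nlinarith

theorem consecutive_eq_zero {x m : ℤ} (h : (x - m) * (x - m - 1) = 0) : x = m ∨ x = m + 1 := by
  rcases mul_eq_zero.1 h with h1 | h1
  · left; omega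
  · right; omega

/-- Natural numbers whose "variance" is as small as possible without being zero: all but one are
equal, and the exceptional one differs by one. -/
theorem almost_constant {ι : Type*} [Fintype ι] (a : ι → ℕ) (n : ℕ) (hcard : Fintype.card ι = n)
    (h : n * ∑ i, a i ^ 2 + 1 = (∑ i, a i) ^ 2 + n) :
    ∃ i₀ : ι, ∃ k : ℕ, ∃ ε : ℤ, (ε = 1 ∨ ε = -1) ∧ (∀ i, i ≠ i₀ → a i = k) ∧
      (a i₀ : ℤ) = (k : ℤ) + ε := by
  classical
  have hn : 0 < n := by
    rcases Nat.eq_zero_or_pos n with h0 | h0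
    · exfalso
      rw [h0] at hcard h
      haveI : IsEmpty ι := Fintype.card_eq_zero_iff.1 hcard
      simp at h
    · exact h0
  by_cases hn1 : n = 1
  · obtain ⟨i₀, hi₀⟩ := Fintype.card_eq_one_iff.1 (hcard.trans hn1)
    refine ⟨i₀, a i₀ + 1, -1, Or.inr rfl, fun i hi => absurd (hi₀ i) hi, ?_⟩
    push_cast
    ring
  have hn2 : 2 ≤ n := by omega
  set S1 : ℕ := ∑ i, a i with hS1
  set S2 : ℕ := ∑ i, a i ^ 2 with hS2
  set m : ℕ := S1 / n with hm
  set t : ℕ := S1 % n with ht
  have hdiv : S1 = n * m + t := (Nat.div_add_mod S1 n).symm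
  have htlt : t < n := Nat.mod_lt S1 hn
  -- integer versions
  have hEq : (n : ℤ) * (S2 : ℤ) + 1 = (S1 : ℤ) ^ 2 + n := by exact_mod_cast h
  have hdivZ : (S1 : ℤ) = n * m + t := by exact_mod_cast hdiv
  have hsum : ∑ i, ((a i : ℤ) - m) * ((a i : ℤ) - m - 1)
      = (S2 : ℤ) - (2 * m + 1) * S1 + n * (m * (m + 1)) := by
    have h1 : ∀ i, ((a i : ℤ) - m) * ((a i : ℤ) - m - 1)
        = (a i : ℤ) ^ 2 - (2 * m + 1) * (a i : ℤ) + m * (m + 1) := fun i => by ring
    simp only [h1, Finset.sum_add_distrib, Finset.sum_sub_distrib, ← Finset.mul_sum,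
      Finset.sum_const, Finset.card_univ, hcard, nsmul_eq_mul]
    rw [hS1, hS2]
    push_cast
    ring
  have hkey : (n : ℤ) * ∑ i, ((a i : ℤ) - m) * ((a i : ℤ) - m - 1)
      = ((t : ℤ) - 1) * ((t : ℤ) - n + 1) := by
    rw [hsum]
    linear_combination hEq + ((S1 : ℤ) - n * m - n + t) * hdivZ
  have hnonneg : 0 ≤ ∑ i, ((a i : ℤ) - m) * ((a i : ℤ) - m - 1) :=
    Finset.sum_nonneg (fun i _ => consecutive_nonneg _ _)
  have ht0 : t ≠ 0 := by
    intro h0
    rw [h0] at hkey
    have h1 : (n : ℤ) ∣ (n : ℤ) - 1 := ⟨_, by rw [hkey]; push_cast; ring⟩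
    have h2 : (n : ℤ) ∣ 1 := by
      have := dvd_sub (dvd_refl (n : ℤ)) h1
      simpa using this
    have h3 : n ∣ 1 := by exact_mod_cast h2
    have := Nat.le_of_dvd one_pos h3
    omega
  have hzero : ∑ i, ((a i : ℤ) - m) * ((a i : ℤ) - m - 1) = 0 := by
    have h1 : ((t : ℤ) - 1) * ((t : ℤ) - n + 1) ≤ 0 := by
      have h2 : (1 : ℤ) ≤ t := by exact_mod_cast Nat.pos_of_ne_zero ht0
      have h3 : (t : ℤ) + 1 ≤ n := by exact_mod_cast htlt
      nlinarith
    have h4 : (0 : ℤ) < n := by exact_mod_cast hn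
    nlinarith
  have hterm : ∀ i, a i = m ∨ a i = m + 1 := by
    intro i
    have h1 := (Finset.sum_eq_zero_iff_of_nonneg (fun i _ => consecutive_nonneg _ _)).1 hzero i
      (Finset.mem_univ i)
    rcases consecutive_eq_zero h1 with h2 | h2
    · left; exact_mod_cast h2
    · right; exact_mod_cast h2
  have ht1 : t = 1 ∨ t + 1 = n := by
    rw [hzero, mul_zero] at hkey
    rcases mul_eq_zero.1 hkey.symm with h1 | h1
    · left
      have : (t : ℤ) = 1 := by linarith
      exact_mod_cast this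
    · right
      have : (t : ℤ) + 1 = n := by linarith
      exact_mod_cast this
  -- the number of indices with value `m + 1` is `t`
  have hcount : ∑ i, (a i - m) = t := by
    have h1 : ∑ i, (a i - m) + n * m = S1 := by
      rw [hS1, ← hcard, ← Finset.card_univ, ← smul_eq_mul, ← Finset.sum_const,
        ← Finset.sum_add_distrib]
      apply Finset.sum_congr rfl
      intro i _
      rcases hterm i with h2 | h2 <;> omega
    omega
  rcases ht1 with ht1 | ht1
  · -- exactly one index with value `m + 1`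
    rw [ht1] at hcount
    have hex : ∃ i₀, a i₀ - m ≠ 0 := by
      by_contra hno
      push Not at hno
      rw [Finset.sum_eq_zero (fun i _ => hno i)] at hcount
      omega
    obtain ⟨i₀, hi₀⟩ := hex
    have hi₀' : a i₀ = m + 1 := by
      rcases hterm i₀ with h2 | h2
      · omega
      · exact h2
    refine ⟨i₀, m, 1, Or.inl rfl, ?_, by rw [hi₀']; push_cast; ring⟩
    intro i hi
    have h1 := Finset.add_sum_erase Finset.univ (fun i => a i - m) (Finset.mem_univ i₀)
    rw [hcount] at h1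
    have h2 : ∑ x ∈ Finset.univ.erase i₀, (a x - m) = 0 := by
      simp only [hi₀'] at h1
      omega
    have h3 := (Finset.sum_eq_zero_iff.1 h2) i (Finset.mem_erase.2 ⟨hi, Finset.mem_univ i⟩)
    rcases hterm i with h4 | h4
    · exact h4
    · omega
  · -- exactly one index with value `m`
    have hcount' : ∑ i, (m + 1 - a i) = 1 := by
      have h1 : ∑ i, (m + 1 - a i) + ∑ i, (a i - m) = n := by
        rw [← Finset.sum_add_distrib, ← hcard, ← Finset.card_univ, Finset.card_eq_sum_ones]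
        apply Finset.sum_congr rfl
        intro i _
        rcases hterm i with h2 | h2 <;> omega
      omega
    have hex : ∃ i₀, m + 1 - a i₀ ≠ 0 := by
      by_contra hno
      push Not at hno
      rw [Finset.sum_eq_zero (fun i _ => hno i)] at hcount'
      omega
    obtain ⟨i₀, hi₀⟩ := hex
    have hi₀' : a i₀ = m := by
      rcases hterm i₀ with h2 | h2
      · exact h2
      · omega
    refine ⟨i₀, m + 1, -1, Or.inr rfl, ?_, by rw [hi₀']; push_cast; ring⟩
    intro i hi
    have h1 := Finset.add_sum_erase Finset.univ (fun i => m + 1 - a i) (Finset.mem_univ i₀)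
    rw [hcount'] at h1
    have h2 : ∑ x ∈ Finset.univ.erase i₀, (m + 1 - a x) = 0 := by
      simp only [hi₀'] at h1
      omega
    have h3 := (Finset.sum_eq_zero_iff.1 h2) i (Finset.mem_erase.2 ⟨hi, Finset.mem_univ i⟩)
    rcases hterm i with h4 | h4
    · omega
    · exact h4


open Cfsg Cfsg.Agent.Lib.Helper1 Cfsg.Agent.Lib.Helper4 Cfsg.Agent.Lib.Helper8
open scoped ComplexConjugate

universe u

variable {A : Type u} [Group A] [Fintype A]

omit [Fintype A] in
/-- Irreducible characters of commutative groups are linear. -/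
theorem irr_apply_one_of_comm (hcomm : ∀ a b : A, a * b = b * a) (μ : IrrCharacter A) :
    (μ : A → ℂ) 1 = 1 := by
  obtain ⟨n, ρ, hirr, hρ⟩ := μ.2
  haveI := hirr
  haveI : IsMulCommutative A := ⟨⟨hcomm⟩⟩
  have h1 := Representation.IsIrreducible.finrank_eq_one_of_isMulCommutative ρ
  rw [← hρ, Representation.char_one, h1]
  simp

/-- A character of a finite commutative group with values `±1` off the identity is a multiple of
the regular character plus or minus a linear character. -/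
theorem pm_character_structure (hcomm : ∀ a b : A, a * b = b * a) {f : A → ℂ}
    (hf : IsCharacter A f) (hpm : ∀ a : A, a ≠ 1 → f a = 1 ∨ f a = -1) :
    ∃ ε : ℤ, (ε = 1 ∨ ε = -1) ∧ ∃ μ : IrrCharacter A, (μ : A → ℂ) 1 = 1 ∧
      (∀ a : A, a ≠ 1 → f a = (ε : ℂ) * (μ : A → ℂ) a) ∧
      ∃ k : ℕ, f 1 = (k : ℂ) * (Nat.card A : ℂ) + (ε : ℂ) := by
  classical
  haveI : Fintype (IrrCharacter A) := Fintype.ofFinite _
  have hlin := irr_apply_one_of_comm hcomm
  have hcardIrr : Fintype.card (IrrCharacter A) = Nat.card A := by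
    have h1 := Cfsg.Agent.S0134.sum_sq_degrees (G := A)
    simp only [hlin, one_pow, Finset.sum_const, Finset.card_univ, nsmul_eq_mul, mul_one] at h1
    exact_mod_cast h1
  obtain ⟨m, hm, hdec⟩ := exists_nat_mult hf
  have hval : ∀ a : A, f a = ∑ ζ : IrrCharacter A, (m ζ : ℂ) * (ζ : A → ℂ) a := by
    intro a
    conv_lhs => rw [hdec]
    rw [Finset.sum_apply]
    rfl
  have hD : f 1 = ((∑ ζ : IrrCharacter A, m ζ : ℕ) : ℂ) := by
    rw [hval 1]
    push_cast
    exact Finset.sum_congr rfl (fun ζ _ => by rw [hlin ζ, mul_one])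
  have hnorm1 : classInner f f = ((∑ ζ : IrrCharacter A, m ζ ^ 2 : ℕ) : ℂ) := by
    rw [classInner_eq_sum_mult f f (isClassFunction_of_isCharacter hf)]
    push_cast
    refine Finset.sum_congr rfl (fun ζ _ => ?_)
    rw [← classInner_conj_symm f (ζ : A → ℂ), hm ζ]
    simp [sq]
  have hcardne : (Nat.card A : ℂ) ≠ 0 := Nat.cast_ne_zero.2 Nat.card_pos.ne'
  have hnorm2 : (Nat.card A : ℂ) * classInner f f
      = ((∑ ζ : IrrCharacter A, m ζ : ℕ) : ℂ) ^ 2 + ((Nat.card A : ℂ) - 1) := by
    rw [classInner_def, ← mul_assoc, mul_inv_cancel₀ hcardne, one_mul,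
      ← Finset.add_sum_erase Finset.univ _ (Finset.mem_univ (1 : A))]
    congr 1
    · rw [hD]
      simp [sq]
    · have h1 : ∀ a ∈ Finset.univ.erase (1 : A), f a * conj (f a) = 1 := by
        intro a ha
        rcases hpm a (Finset.ne_of_mem_erase ha) with h | h <;> rw [h] <;> simp
      rw [Finset.sum_congr rfl h1, Finset.sum_const, Finset.card_erase_of_mem (Finset.mem_univ _),
        Finset.card_univ, ← Nat.card_eq_fintype_card, nsmul_eq_mul, mul_one,
        Nat.cast_sub Nat.card_pos]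
      simp
  have hEq : Nat.card A * ∑ ζ : IrrCharacter A, m ζ ^ 2 + 1
      = (∑ ζ : IrrCharacter A, m ζ) ^ 2 + Nat.card A := by
    rw [hnorm1] at hnorm2
    have h1 : ((Nat.card A * ∑ ζ : IrrCharacter A, m ζ ^ 2 + 1 : ℕ) : ℂ)
        = (((∑ ζ : IrrCharacter A, m ζ) ^ 2 + Nat.card A : ℕ) : ℂ) := by
      push_cast
      push_cast at hnorm2
      linear_combination hnorm2
    exact_mod_cast h1
  obtain ⟨μ, k, ε, hε, hk, hμ⟩ := almost_constant m (Nat.card A) hcardIrr hEq
  have hμ' : (m μ : ℂ) = (k : ℂ) + (ε : ℂ) := by exact_mod_cast hμ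
  have hsplit : ∀ a : A, f a = (k : ℂ) * ∑ ζ : IrrCharacter A, (ζ : A → ℂ) a
      + (ε : ℂ) * (μ : A → ℂ) a := by
    intro a
    rw [hval a, Finset.mul_sum]
    have h1 : ∀ ζ : IrrCharacter A, (m ζ : ℂ) * (ζ : A → ℂ) a
        = (k : ℂ) * (ζ : A → ℂ) a + (if ζ = μ then (ε : ℂ) * (μ : A → ℂ) a else 0) := by
      intro ζ
      by_cases hζ : ζ = μ
      · rw [if_pos hζ, hζ, hμ']
        ring
      · rw [if_neg hζ, hk ζ hζ, add_zero]
    rw [Finset.sum_congr rfl (fun ζ _ => h1 ζ), Finset.sum_add_distrib,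
      Finset.sum_ite_eq' Finset.univ μ, if_pos (Finset.mem_univ μ)]
  refine ⟨ε, hε, μ, hlin μ, ?_, k, ?_⟩
  · intro a ha
    rw [hsplit a]
    have h1 := sum_irr_one_mul (G := A) a
    rw [if_neg ha] at h1
    simp only [hlin, one_mul] at h1
    rw [h1, mul_zero, zero_add]
  · rw [hsplit 1]
    simp only [hlin, Finset.sum_const, Finset.card_univ, nsmul_eq_mul, mul_one]
    rw [hcardIrr]

end Cfsg.Agent.Lib.Helper8.FX
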