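import Mathlib
import Cfsg.Agent.Lib.Helper8.FX2
import Cfsg.Agent.Lib.Helper8.FX3
import Cfsg.Agent.S0161

/-!
# Cyclic coprime action with uniform fixed points: the restriction to the fixed points
-/

set_option autoImplicit false
set_option linter.unusedSectionVars false
set_option maxHeartbeats 1000000

namespace Cfsg.Agent.Lib.Helper8.FX

open Cfsg Cfsg.Agent.Lib.Helper1 Cfsg.Agent.Lib.Helper4 Cfsg.Agent.Lib.Helper8
open scoped ComplexConjugate

universe u

variable {Γ : Type u} [Group Γ] [Fintype Γ]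

theorem uniform_fixed_points {G : Subgroup Γ} [hG : G.Normal] [Fintype G] {s : Γ}
    (hcop : (Nat.card G).Coprime (orderOf s)) [Fintype (fixC G s)]
    (hfpf : ∀ y : Γ, y ∈ Subgroup.zpowers s → y ≠ 1 → fixC G y = fixC G s)
    {χh : Γ → ℂ} (hχh : IsCharacter Γ χh) (hres : IsIrrCharacter G (fun g : G => χh g))
    (hdet : (detOrder χh).Coprime (orderOf s))
    (β : IrrCharacter (fixC G s)) (ε₀ : ℤ) (hε₀ : ε₀ = 1 ∨ ε₀ = -1)
    (hβ : ∀ c : fixC G s, χh ((c : Γ) * s) = (ε₀ : ℂ) * (β : fixC G s → ℂ) c) :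
    ∃ ε : ℤ, (ε = 1 ∨ ε = -1) ∧
      (∃ μ : Subgroup.zpowers s → ℂ, IsCharacter (Subgroup.zpowers s) μ ∧ μ 1 = 1 ∧
        (∀ x, μ x * μ x = 1) ∧
        ∀ c : fixC G s, ∀ x : Subgroup.zpowers s, x ≠ 1 →
          χh ((c : Γ) * (x : Γ)) = (ε : ℂ) * (β : fixC G s → ℂ) c * μ x) ∧
      (∃ ϑ : fixC G s → ℂ, IsCharacter (fixC G s) ϑ ∧
        (fun c : fixC G s => χh (c : Γ))
          = fun c => (orderOf s : ℂ) * ϑ c + (ε : ℂ) * (β : fixC G s → ℂ) c) := by
  classical
  -- the package at every nonidentity element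
  have H : ∀ y : Γ, y ∈ Subgroup.zpowers s → y ≠ 1 → ∃ β' : IrrCharacter (fixC G s), ∃ ε' : ℤ,
      (ε' = 1 ∨ ε' = -1) ∧ ∀ c : fixC G s, ∀ y' : Γ,
        Subgroup.zpowers y' = Subgroup.zpowers y →
        χh ((c : Γ) * y') = (ε' : ℂ) * (β' : fixC G s → ℂ) c := by
    intro y hy hy1
    have hdvd : orderOf y ∣ orderOf s := orderOf_dvd_of_mem_zpowers hy
    exact elt_package (Nat.Coprime.coprime_dvd_right hdvd hcop) (fixC G s) (hfpf y hy hy1) hχh hres
      (Nat.Coprime.coprime_dvd_right hdvd hdet)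
  have hconst := corr_const hχh H β ε₀ hε₀ hβ
  haveI : Fintype (Subgroup.zpowers s) := Fintype.ofFinite _
  have hcomm : ∀ a b : Subgroup.zpowers s, a * b = b * a := fun a b => mul_comm' a b
  have hn : Nat.card (Subgroup.zpowers s) = orderOf s := Nat.card_zpowers s
  -- the multiplicity functions
  have hΦ : ∀ γ : IrrCharacter (fixC G s),
      IsCharacter (Subgroup.zpowers s) (multFn G s χh (γ : fixC G s → ℂ)) :=
    fun γ => isCharacter_multFn hχh γ.2
  have hΦval : ∀ (γ : IrrCharacter (fixC G s)) (z : Subgroup.zpowers s), z ≠ 1 →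
      ∃ εz : ℤ, (εz = 1 ∨ εz = -1) ∧
        (∀ c : fixC G s, χh ((c : Γ) * (z : Γ)) = (εz : ℂ) * (β : fixC G s → ℂ) c) ∧
        multFn G s χh (γ : fixC G s → ℂ) z = if β = γ then (εz : ℂ) else 0 := by
    intro γ z hz
    have hz1 : (z : Γ) ≠ 1 := fun h => hz (Subtype.ext h)
    obtain ⟨εz, hεz, hvz⟩ := hconst (z : Γ) z.2 hz1
    exact ⟨εz, hεz, hvz, multFn_of_signed χh γ β εz z hvz⟩
  have hpm : ∀ z : Subgroup.zpowers s, z ≠ 1 →
      multFn G s χh (β : fixC G s → ℂ) z = 1 ∨ multFn G s χh (β : fixC G s → ℂ) z = -1 := by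
    intro z hz
    obtain ⟨εz, hεz, -, hval⟩ := hΦval β z hz
    rw [hval, if_pos rfl]
    rcases hεz with h | h <;> rw [h]
    · left; simp
    · right; simp
  obtain ⟨ε, hε, μ, hμ1, hμv, k, hk⟩ := pm_character_structure hcomm (hΦ β) hpm
  have hεsq : (ε : ℂ) * (ε : ℂ) = 1 := by
    rcases hε with h | h <;> rw [h] <;> simp
  refine ⟨ε, hε, ⟨(μ : Subgroup.zpowers s → ℂ), isCharacter_of_irr μ.2, hμ1, ?_, ?_⟩, ?_⟩
  · intro x
    by_cases hx : x = 1
    · rw [hx, hμ1, mul_one]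
    · have h1 := hμv x hx
      rcases hpm x hx with h | h <;> rw [h] at h1
      · have : (μ : Subgroup.zpowers s → ℂ) x = (ε : ℂ) := by
          calc (μ : Subgroup.zpowers s → ℂ) x
              = ((ε : ℂ) * (ε : ℂ)) * (μ : Subgroup.zpowers s → ℂ) x := by rw [hεsq, one_mul]
            _ = (ε : ℂ) * ((ε : ℂ) * (μ : Subgroup.zpowers s → ℂ) x) := by ring
            _ = (ε : ℂ) := by rw [← h1, mul_one]
        rw [this, hεsq]
      · have : (μ : Subgroup.zpowers s → ℂ) x = -(ε : ℂ) := by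
          calc (μ : Subgroup.zpowers s → ℂ) x
              = ((ε : ℂ) * (ε : ℂ)) * (μ : Subgroup.zpowers s → ℂ) x := by rw [hεsq, one_mul]
            _ = (ε : ℂ) * ((ε : ℂ) * (μ : Subgroup.zpowers s → ℂ) x) := by ring
            _ = -(ε : ℂ) := by rw [← h1]; ring
        rw [this]
        linear_combination hεsq
  · intro c x hx
    obtain ⟨εz, hεz, hvz, hval⟩ := hΦval β x hx
    rw [if_pos rfl] at hval
    rw [hvz c, ← hval, hμv x hx]
    ring
  · -- the character `ϑ`
    have hn0 : (orderOf s : ℂ) ≠ 0 := Nat.cast_ne_zero.2 (orderOf_pos s).ne'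
    let ϑ : fixC G s → ℂ := fun c =>
      (orderOf s : ℂ)⁻¹ * (χh (c : Γ) - (ε : ℂ) * (β : fixC G s → ℂ) c)
    have hresC : IsCharacter (fixC G s) (fun c : fixC G s => χh (c : Γ)) :=
      Cfsg.Agent.S0148.isCharacter_restrict (fixC G s) hχh
    have hϑcl : IsClassFunction (fixC G s) ϑ := by
      intro g h
      show (orderOf s : ℂ)⁻¹ * (χh ((h * g * h⁻¹ : fixC G s) : Γ)
        - (ε : ℂ) * (β : fixC G s → ℂ) (h * g * h⁻¹)) = _
      have e1 : χh ((h * g * h⁻¹ : fixC G s) : Γ) = χh (g : Γ) :=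
        isClassFunction_of_isCharacter hresC g h
      rw [e1, isClassFunction_of_isCharacter (isCharacter_of_irr β.2) g h]
    have hϑ : IsCharacter (fixC G s) ϑ := by
      apply isCharacter_of_nat_mult ϑ hϑcl
      intro γ' hγ'
      obtain ⟨γ, rfl⟩ : ∃ γ : IrrCharacter (fixC G s), (γ : fixC G s → ℂ) = γ' := ⟨⟨γ', hγ'⟩, rfl⟩
      have hϑeq : ϑ = (orderOf s : ℂ)⁻¹ • ((fun c : fixC G s => χh (c : Γ))
          - (ε : ℂ) • (β : fixC G s → ℂ)) := by
        funext c
        rfl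
      have hinner : classInner ϑ (γ : fixC G s → ℂ) = (orderOf s : ℂ)⁻¹ *
          (multFn G s χh (γ : fixC G s → ℂ) 1 - (ε : ℂ) * (if β = γ then 1 else 0)) := by
        rw [hϑeq, classInner_smul_left, classInner_sub_left, classInner_smul_left, multFn_one,
          classInner_irr β.2 γ.2]
        congr 3
        by_cases hβγ : β = γ
        · rw [if_pos hβγ, if_pos (congrArg Subtype.val hβγ)]
        · rw [if_neg hβγ, if_neg (fun h' => hβγ (Subtype.ext h'))]
      rw [hinner]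
      by_cases hβγ : β = γ
      · subst hβγ
        refine ⟨k, ?_⟩
        rw [if_pos rfl, hk, hn]
        field_simp
        ring
      · rw [if_neg hβγ, mul_zero, sub_zero]
        -- `Φ_γ` vanishes off the identity
        have hvan : ∀ z : Subgroup.zpowers s, z ≠ 1 → multFn G s χh (γ : fixC G s → ℂ) z = 0 := by
          intro z hz
          obtain ⟨εz, -, -, hval⟩ := hΦval γ z hz
          rw [hval, if_neg hβγ]
        obtain ⟨kγ, hkγ⟩ := classInner_char_irr_nat (hΦ γ)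
          (Cfsg.Agent.S0161.isIrrCharacter_one (G := Subgroup.zpowers s))
        refine ⟨kγ, ?_⟩
        rw [← hkγ, classInner_def, hn]
        congr 1
        rw [← Finset.add_sum_erase Finset.univ _ (Finset.mem_univ (1 : Subgroup.zpowers s))]
        have h0 : ∑ x ∈ Finset.univ.erase (1 : Subgroup.zpowers s),
            multFn G s χh (γ : fixC G s → ℂ) x * conj ((fun _ => (1 : ℂ)) x) = 0 := by
          apply Finset.sum_eq_zero
          intro x hx
          rw [hvan x (Finset.ne_of_mem_erase hx), zero_mul]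
        rw [h0, add_zero]
        simp
    refine ⟨ϑ, hϑ, ?_⟩
    funext c
    show χh (c : Γ) = (orderOf s : ℂ) * ((orderOf s : ℂ)⁻¹ * (χh (c : Γ)
      - (ε : ℂ) * (β : fixC G s → ℂ) c)) + (ε : ℂ) * (β : fixC G s → ℂ) c
    field_simp
    ring

end Cfsg.Agent.Lib.Helper8.FX
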