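import Mathlib

set_option autoImplicit false

/-! Arithmetic lemma for fully ramified sections under a cyclic Frobenius action. -/

namespace Cfsg.Agent.Lib.Helper8.FZ

theorem arith {ι : Type*} (T : Finset ι) (b : ι → ℕ) (m e : ℕ) (hm : 2 ≤ m) (hT : T.card = m)
    (hsum : ∑ i ∈ T, b i = e) (hsq : m * ∑ i ∈ T, (b i) ^ 2 + 1 = e ^ 2 + m) :
    (m : ℤ) ∣ (e : ℤ) - 1 ∨ (m : ℤ) ∣ (e : ℤ) + 1 := by
  set q : ℕ := e / m with hq
  set r : ℕ := e % m with hr
  have her : e = m * q + r := (Nat.div_add_mod e m).symm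
  have hrm : r < m := Nat.mod_lt _ (by omega)
  -- integer versions
  have hsumZ : ∑ i ∈ T, (b i : ℤ) = e := by exact_mod_cast hsum
  have hsqZ : (m : ℤ) * ∑ i ∈ T, (b i : ℤ) ^ 2 + 1 = (e : ℤ) ^ 2 + m := by exact_mod_cast hsq
  have herZ : (e : ℤ) = m * q + r := by exact_mod_cast her
  have hexp : ∑ i ∈ T, ((b i : ℤ) - q) ^ 2
      = ∑ i ∈ T, (b i : ℤ) ^ 2 - 2 * q * ∑ i ∈ T, (b i : ℤ) + (m : ℤ) * q ^ 2 := by
    have : ∀ i ∈ T, ((b i : ℤ) - q) ^ 2 = (b i : ℤ) ^ 2 - 2 * q * (b i : ℤ) + (q : ℤ) ^ 2 := by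
      intro i _; ring
    rw [Finset.sum_congr rfl this, Finset.sum_add_distrib, Finset.sum_sub_distrib,
      ← Finset.mul_sum, Finset.sum_const, hT]
    simp
  have hlow : ∑ i ∈ T, ((b i : ℤ) - q) ≤ ∑ i ∈ T, ((b i : ℤ) - q) ^ 2 := by
    apply Finset.sum_le_sum
    intro i _
    have h1 : ∀ z : ℤ, z ≤ z ^ 2 := by
      intro z
      rcases le_or_gt z 0 with h | h
      · nlinarith [sq_nonneg z]
      · nlinarith
    exact h1 _
  have hlin : ∑ i ∈ T, ((b i : ℤ) - q) = r := by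
    rw [Finset.sum_sub_distrib, hsumZ, Finset.sum_const, hT, herZ]
    simp
  have hkey : (m : ℤ) * r ≤ (r : ℤ) ^ 2 + m - 1 := by
    have h1 : (m : ℤ) * ∑ i ∈ T, ((b i : ℤ) - q) ^ 2 = (r : ℤ) ^ 2 + m - 1 := by
      rw [hexp, hsumZ]
      have : (m : ℤ) * ∑ i ∈ T, (b i : ℤ) ^ 2 = (e : ℤ) ^ 2 + m - 1 := by linarith
      rw [mul_add, mul_sub, this, herZ]
      ring
    rw [← h1]
    apply mul_le_mul_of_nonneg_left _ (by positivity)
    rw [← hlin]
    exact hlow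
  have hm' : (2 : ℤ) ≤ m := by exact_mod_cast hm
  have hrm' : (r : ℤ) < m := by exact_mod_cast hrm
  have hr0 : (0 : ℤ) ≤ r := by positivity
  have hcases : r = 0 ∨ r = 1 ∨ r + 1 = m := by
    by_contra hcon
    push Not at hcon
    obtain ⟨h0, h1, h2⟩ := hcon
    have hr2 : (2 : ℤ) ≤ r := by
      have : 2 ≤ r := by omega
      exact_mod_cast this
    have hr3 : (r : ℤ) + 2 ≤ m := by
      have : r + 2 ≤ m := by omega
      exact_mod_cast this
    nlinarith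
  rcases hcases with h | h | h
  · exfalso
    rw [h] at herZ
    have h1 : (m : ℤ) ∣ 1 := by
      refine ⟨(m : ℤ) * q ^ 2 + 1 - ∑ i ∈ T, (b i : ℤ) ^ 2, ?_⟩
      rw [herZ] at hsqZ
      push_cast at hsqZ
      linear_combination hsqZ
    have h2 := Int.le_of_dvd one_pos h1
    omega
  · left
    refine ⟨q, ?_⟩
    rw [herZ, h]
    push_cast
    ring
  · right
    refine ⟨q + 1, ?_⟩
    rw [herZ]
    have : (r : ℤ) + 1 = m := by exact_mod_cast h
    linear_combination this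

end Cfsg.Agent.Lib.Helper8.FZ
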