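import Mathlib
import Cfsg.Agent.S0868
import Cfsg.Agent.Lib.Helper1.CharFound3

set_option autoImplicit false

/-! Coset sums under a Frobenius-type action. -/

namespace Cfsg.Agent.Lib.Helper8.FZ

open Cfsg Cfsg.Agent.Lib.Helper1 ComplexConjugate

variable {Γ : Type*} [Group Γ]

/-- Under the Frobenius condition, the commutator map `u ↦ x⁻¹ u x u⁻¹` is onto `G` modulo
`N`. -/
theorem exists_comm_mem [Finite Γ] (G N : Subgroup Γ) [hG : G.Normal] [hN : N.Normal] (hNG : N ≤ G)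
    (hfrob : ∀ x : Γ, x ∉ G → ∀ g : Γ, g ∈ G → x * g * x⁻¹ * g⁻¹ ∈ N → g ∈ N)
    {x : Γ} (hx : x ∉ G) {g : Γ} (hg : g ∈ G) :
    ∃ u ∈ G, (x⁻¹ * u * x * u⁻¹)⁻¹ * g ∈ N := by
  classical
  set K : Subgroup G := N.subgroupOf G with hK
  have hcmem : ∀ u : G, x⁻¹ * (u : Γ) * x * (u : Γ)⁻¹ ∈ G := by
    intro u
    have h1 : x⁻¹ * (u : Γ) * x⁻¹⁻¹ ∈ G := hG.conj_mem _ u.2 _
    rw [inv_inv] at h1
    exact G.mul_mem h1 (G.inv_mem u.2)
  let c : G → G := fun u => ⟨x⁻¹ * (u : Γ) * x * (u : Γ)⁻¹, hcmem u⟩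
  let φ : (G ⧸ K) → (G ⧸ K) := fun q => QuotientGroup.mk (c q.out)
  have hxinv : x⁻¹ ∉ G := fun h => hx (by simpa using G.inv_mem h)
  have hinj : Function.Injective φ := by
    intro q q' hqq
    simp only [φ] at hqq
    rw [QuotientGroup.eq] at hqq
    set u := q.out with hu
    set v := q'.out with hv
    have h1 : ((c u)⁻¹ * c v : G) ∈ K := hqq
    rw [hK, Subgroup.mem_subgroupOf] at h1
    have h2 : (((c u)⁻¹ * c v : G) : Γ)
        = (u : Γ) * (x⁻¹ * ((u : Γ)⁻¹ * v) * x⁻¹⁻¹ * ((u : Γ)⁻¹ * v)⁻¹) * (u : Γ)⁻¹ := by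
      simp only [c, Subgroup.coe_mul, Subgroup.coe_inv]
      group
    rw [h2] at h1
    have h3 := hN.conj_mem _ h1 (u : Γ)⁻¹
    have h4 : (u : Γ)⁻¹ * ((u : Γ) * (x⁻¹ * ((u : Γ)⁻¹ * v) * x⁻¹⁻¹ * ((u : Γ)⁻¹ * v)⁻¹) * (u : Γ)⁻¹)
        * (u : Γ)⁻¹⁻¹ = x⁻¹ * ((u : Γ)⁻¹ * v) * x⁻¹⁻¹ * ((u : Γ)⁻¹ * v)⁻¹ := by group
    rw [h4] at h3
    have h5 : (u : Γ)⁻¹ * v ∈ N :=
      hfrob x⁻¹ hxinv _ (G.mul_mem (G.inv_mem u.2) v.2) h3
    have h6 : (QuotientGroup.mk u : G ⧸ K) = QuotientGroup.mk v := by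
      rw [QuotientGroup.eq, hK, Subgroup.mem_subgroupOf]
      simpa using h5
    rw [hu, hv, QuotientGroup.out_eq', QuotientGroup.out_eq'] at h6
    exact h6
  have hsurj : Function.Surjective φ := Finite.injective_iff_surjective.1 hinj
  obtain ⟨q, hq⟩ := hsurj (QuotientGroup.mk ⟨g, hg⟩)
  simp only [φ] at hq
  rw [QuotientGroup.eq] at hq
  have hq' : ((c q.out)⁻¹ * ⟨g, hg⟩ : G) ∈ N.subgroupOf G := hq
  rw [Subgroup.mem_subgroupOf] at hq'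
  refine ⟨(q.out : G), (q.out : G).2, ?_⟩
  simpa [c] using hq'

/-- Coset sums of a `G`-invariant function over `x g N` do not depend on `g ∈ G`. -/
theorem sum_coset_eq [Finite Γ] (G N : Subgroup Γ) [hG : G.Normal] [hN : N.Normal] (hNG : N ≤ G)
    [Fintype N]
    (hfrob : ∀ x : Γ, x ∉ G → ∀ g : Γ, g ∈ G → x * g * x⁻¹ * g⁻¹ ∈ N → g ∈ N)
    {x : Γ} (hx : x ∉ G) (f : Γ → ℂ) (hf : ∀ u ∈ G, ∀ y : Γ, f (u * y * u⁻¹) = f y)
    {g : Γ} (hg : g ∈ G) :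
    ∑ n : N, f (x * g * n) = ∑ n : N, f (x * n) := by
  obtain ⟨u, hu, hk⟩ := exists_comm_mem G N hNG hfrob hx hg
  set cu := x⁻¹ * u * x * u⁻¹ with hcu
  have hgk : g = cu * (cu⁻¹ * g) := by group
  have h1 : ∑ n : N, f (x * g * n) = ∑ n : N, f (x * cu * n) := by
    rw [← Equiv.sum_comp (Equiv.mulLeft (⟨cu⁻¹ * g, hk⟩ : N)) (fun n : N => f (x * cu * n))]
    refine Finset.sum_congr rfl fun n _ => ?_
    congr 1
    simp only [Equiv.coe_mulLeft, Subgroup.coe_mul]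
    group
  have h2 : ∑ n : N, f (x * cu * n) = ∑ n : N, f (x * n) := by
    rw [← Equiv.sum_comp (MulAut.conjNormal u : N ≃* N).toEquiv (fun n : N => f (x * cu * n))]
    refine Finset.sum_congr rfl fun n _ => ?_
    rw [← hf u hu (x * n)]
    congr 1
    simp only [MulEquiv.toEquiv_eq_coe, MulEquiv.coe_toEquiv, MulAut.conjNormal_apply, hcu]
    group
  rw [h1, h2]

/-- Counting: `|N| Σ_{g ∈ G} F(xg) = |G| Σ_{n ∈ N} F(xn)`. -/
theorem card_mul_sum_coset [Finite Γ] (G N : Subgroup Γ) [hG : G.Normal] [hN : N.Normal]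
    (hNG : N ≤ G) [Fintype N] [Fintype G]
    (hfrob : ∀ x : Γ, x ∉ G → ∀ g : Γ, g ∈ G → x * g * x⁻¹ * g⁻¹ ∈ N → g ∈ N)
    {x : Γ} (hx : x ∉ G) (f : Γ → ℂ) (hf : ∀ u ∈ G, ∀ y : Γ, f (u * y * u⁻¹) = f y) :
    (Nat.card N : ℂ) * ∑ g : G, f (x * g) = (Nat.card G : ℂ) * ∑ n : N, f (x * n) := by
  have h1 : ∑ g : G, ∑ n : N, f (x * g * n) = (Nat.card G : ℂ) * ∑ n : N, f (x * n) := by
    rw [Finset.sum_congr rfl fun g _ => sum_coset_eq G N hNG hfrob hx f hf g.2]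
    rw [Finset.sum_const, Finset.card_univ, nsmul_eq_mul, Nat.card_eq_fintype_card]
  have h2 : ∑ g : G, ∑ n : N, f (x * g * n) = (Nat.card N : ℂ) * ∑ g : G, f (x * g) := by
    rw [Finset.sum_comm]
    have : ∀ n : N, ∑ g : G, f (x * g * n) = ∑ g : G, f (x * g) := by
      intro n
      rw [← Equiv.sum_comp (Equiv.mulRight (⟨n, hNG n.2⟩ : G)) (fun g : G => f (x * g))]
      refine Finset.sum_congr rfl fun g _ => ?_
      congr 1
      simp only [Equiv.coe_mulRight, Subgroup.coe_mul]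
      group
    rw [Finset.sum_congr rfl fun n _ => this n]
    rw [Finset.sum_const, Finset.card_univ, nsmul_eq_mul, Nat.card_eq_fintype_card]
  rw [← h1, ← h2]

/-- If `χ̂ ∈ Irr(Γ)` restricts irreducibly to `G`, then `Σ_{g ∈ G} |χ̂(xg)|² = |G|`. -/
theorem sum_normSq_coset [Fintype Γ] (G : Subgroup Γ) [hG : G.Normal] [Fintype G]
    {ψ : Γ → ℂ} (hψ : IsIrrCharacter Γ ψ) (hψG : IsIrrCharacter G (fun g : G => ψ g)) (x : Γ) :
    ∑ g : G, ψ (x * g) * conj (ψ (x * g)) = (Nat.card G : ℂ) := by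
  have h := (Cfsg.Agent.S0868.result G ψ hψ hψG ψ hψ _ rfl).2.2 rfl
  have h1 := congrFun h x
  have hG0 : (Nat.card G : ℂ) ≠ 0 := Nat.cast_ne_zero.2 Nat.card_pos.ne'
  have hcf := isClassFunction_irr hψ
  have h2 : ∀ g : G, ψ ((g : Γ) * x) = ψ (x * g) := by
    intro g
    have := hcf ((g : Γ) * x) x
    rw [← this]
    congr 1
    group
  have h3 : ∑ g : G, ψ (x * g) * conj (ψ (x * g))
      = ∑ n : G, ψ ((n : Γ) * x) * conj (ψ ((n : Γ) * x)) :=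
    Finset.sum_congr rfl fun g _ => by rw [h2 g]
  rw [h3]
  field_simp at h1
  linear_combination h1

/-- The key coset sum: for `x ∉ G`, `Σ_{n ∈ N} |χ̂(xn)|² = |N|`. -/
theorem sum_normSq_coset_N [Fintype Γ] (G N : Subgroup Γ) [hG : G.Normal] [hN : N.Normal]
    (hNG : N ≤ G) [Fintype N] [Fintype G]
    (hfrob : ∀ x : Γ, x ∉ G → ∀ g : Γ, g ∈ G → x * g * x⁻¹ * g⁻¹ ∈ N → g ∈ N)
    {ψ : Γ → ℂ} (hψ : IsIrrCharacter Γ ψ) (hψG : IsIrrCharacter G (fun g : G => ψ g))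
    {x : Γ} (hx : x ∉ G) :
    ∑ n : N, ψ (x * n) * conj (ψ (x * n)) = (Nat.card N : ℂ) := by
  have hcf := isClassFunction_irr hψ
  have h1 := card_mul_sum_coset G N hNG hfrob hx (fun y => ψ y * conj (ψ y))
    (fun u _ y => by rw [hcf y u])
  rw [sum_normSq_coset G hψ hψG x] at h1
  have hG0 : (Nat.card G : ℂ) ≠ 0 := Nat.cast_ne_zero.2 Nat.card_pos.ne'
  have := mul_left_cancel₀ hG0 (by rw [← h1]; ring : (Nat.card G : ℂ) * (Nat.card N : ℂ) = (Nat.card G : ℂ) * ∑ n : N, ψ (x * n) * conj (ψ (x * n)))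
  exact this.symm

end Cfsg.Agent.Lib.Helper8.FZ
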