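import Mathlib
import Cfsg.Agent.Lib.Helper1.IndFun

set_option autoImplicit false

/-! Auxiliary lemmas for fully ramified sections under a cyclic Frobenius action: the cyclic
complement, invariance of induced functions, and a sum over cosets. -/

namespace Cfsg.Agent.Lib.Helper8.FZ

open Cfsg Cfsg.Agent.Lib.Helper1 ComplexConjugate

variable {Γ : Type*} [Group Γ]

theorem exists_complement (G N : Subgroup Γ) [hG : G.Normal] [hN : N.Normal] (hNG : N ≤ G)
    (hGlt : G ≠ ⊤) (hcyc : IsCyclic (Γ ⧸ G))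
    (hfrob : ∀ x : Γ, x ∉ G → ∀ g : Γ, g ∈ G → x * g * x⁻¹ * g⁻¹ ∈ N → g ∈ N) :
    ∃ H : Subgroup Γ, N ≤ H ∧ (∀ h ∈ H, h ∈ G → h ∈ N) ∧ N.relIndex H = G.index ∧
      IsCyclic (↥H ⧸ N.subgroupOf H) := by
  obtain ⟨q₀, hq₀⟩ := hcyc.exists_zpow_surjective
  obtain ⟨x₀, rfl⟩ := QuotientGroup.mk_surjective q₀
  have hx₀ : x₀ ∉ G := by
    intro h
    apply hGlt
    rw [eq_top_iff]
    intro γ _
    obtain ⟨i, hi⟩ := hq₀ (γ : Γ ⧸ G)
    simp only at hi
    rw [(QuotientGroup.eq_one_iff x₀).2 h, one_zpow] at hi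
    exact (QuotientGroup.eq_one_iff γ).1 hi.symm
  set H : Subgroup Γ := Subgroup.comap (QuotientGroup.mk' N) (Subgroup.zpowers (x₀ : Γ ⧸ N))
    with hH
  have hmemH : ∀ h : Γ, h ∈ H ↔ ∃ i : ℤ, (x₀ ^ i)⁻¹ * h ∈ N := by
    intro h
    rw [hH, Subgroup.mem_comap, Subgroup.mem_zpowers_iff]
    constructor
    · rintro ⟨i, hi⟩
      refine ⟨i, ?_⟩
      rw [QuotientGroup.mk'_apply, ← QuotientGroup.mk_zpow, QuotientGroup.eq] at hi
      exact hi
    · rintro ⟨i, hi⟩
      refine ⟨i, ?_⟩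
      rw [QuotientGroup.mk'_apply, ← QuotientGroup.mk_zpow, QuotientGroup.eq]
      exact hi
  have hNH : N ≤ H := by
    intro n hn
    rw [hmemH]
    exact ⟨0, by simpa using hn⟩
  have hx₀H : x₀ ∈ H := by
    rw [hmemH]
    exact ⟨1, by simp⟩
  have hpowN : ∀ i : ℤ, x₀ ^ i ∈ G → x₀ ^ i ∈ N := by
    intro i hi
    apply hfrob x₀ hx₀ _ hi
    have : x₀ * x₀ ^ i * x₀⁻¹ * (x₀ ^ i)⁻¹ = 1 := by group
    rw [this]
    exact N.one_mem
  have hHG : ∀ h ∈ H, h ∈ G → h ∈ N := by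
    intro h hh hhG
    obtain ⟨i, hi⟩ := (hmemH h).1 hh
    have h1 : x₀ ^ i ∈ G := by
      have : x₀ ^ i = h * ((x₀ ^ i)⁻¹ * h)⁻¹ := by group
      rw [this]
      exact G.mul_mem hhG (G.inv_mem (hNG hi))
    have h2 := hpowN i h1
    have : h = x₀ ^ i * ((x₀ ^ i)⁻¹ * h) := by group
    rw [this]
    exact N.mul_mem h2 hi
  refine ⟨H, hNH, hHG, ?_, ?_⟩
  · have hsup : H ⊔ G = ⊤ := by
      rw [eq_top_iff]
      intro γ _
      obtain ⟨i, hi⟩ := hq₀ (γ : Γ ⧸ G)
      simp only at hi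
      rw [← QuotientGroup.mk_zpow, QuotientGroup.eq] at hi
      have : γ = x₀ ^ i * ((x₀ ^ i)⁻¹ * γ) := by group
      rw [this]
      exact Subgroup.mul_mem_sup (H.zpow_mem hx₀H i) hi
    have hinf : H ⊓ G = N := by
      apply le_antisymm
      · intro h hh
        exact hHG h hh.1 hh.2
      · exact le_inf hNH hNG
    rw [← Subgroup.relIndex_top_right, ← hsup, Subgroup.relIndex_sup_right]
    conv_lhs => rw [← hinf]
    rw [Subgroup.inf_relIndex_left]
  · refine ⟨⟨QuotientGroup.mk ⟨x₀, hx₀H⟩, ?_⟩⟩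
    intro q
    obtain ⟨h, rfl⟩ := QuotientGroup.mk_surjective q
    obtain ⟨i, hi⟩ := (hmemH h).1 h.2
    refine ⟨i, ?_⟩
    simp only
    rw [← QuotientGroup.mk_zpow, QuotientGroup.eq, Subgroup.mem_subgroupOf]
    simpa using hi

/-- Invariance of an induced function under an automorphism-like conjugation fixing the
inducing function. -/
theorem indFun_conj_invariant (G : Subgroup Γ) [hG : G.Normal] [Fintype G] (K : Subgroup G)
    (φ : K → ℂ) (x : Γ)
    (hφ : ∀ z : G, extendByZero K φ ⟨x * z * x⁻¹, hG.conj_mem z z.2 x⟩ = extendByZero K φ z)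
    (g : G) :
    indFun K φ ⟨x * g * x⁻¹, hG.conj_mem g g.2 x⟩ = indFun K φ g := by
  unfold indFun
  congr 1
  rw [← Equiv.sum_comp (MulAut.conjNormal x : G ≃* G).toEquiv]
  refine Finset.sum_congr rfl fun y _ => ?_
  rw [← hφ (y⁻¹ * g * y)]
  congr 1
  apply Subtype.ext
  simp only [MulEquiv.toEquiv_eq_coe, MulEquiv.coe_toEquiv, Subgroup.coe_mul, Subgroup.coe_inv,
    MulAut.conjNormal_apply]
  group

/-- Summation over `H` via coset sums over `N`. -/
theorem sum_of_coset_sums [Finite Γ] (N H : Subgroup Γ) (hNH : N ≤ H) [Fintype N] [Fintype H]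
    (F : Γ → ℂ) (A B : ℂ)
    (hN : ∀ h : H, (h : Γ) ∈ N → ∑ n : N, F (h * n) = A)
    (hH : ∀ h : H, (h : Γ) ∉ N → ∑ n : N, F (h * n) = B) :
    (Nat.card N : ℂ) * ∑ h : H, F h = (Nat.card N : ℂ) * A + ((Nat.card H : ℂ) - Nat.card N) * B := by
  classical
  have h1 : ∑ h : H, ∑ n : N, F (h * n) = (Nat.card N : ℂ) * ∑ h : H, F h := by
    rw [Finset.sum_comm]
    have : ∀ n : N, ∑ h : H, F (h * n) = ∑ h : H, F h := by
      intro n
      rw [← Equiv.sum_comp (Equiv.mulRight (⟨n, hNH n.2⟩ : H)) (fun h : H => F h)]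
      refine Finset.sum_congr rfl fun h _ => ?_
      simp
    rw [Finset.sum_congr rfl fun n _ => this n, Finset.sum_const, Finset.card_univ, nsmul_eq_mul,
      Nat.card_eq_fintype_card]
  have h2 : ∑ h : H, ∑ n : N, F (h * n) = ∑ h : H, (B + if (h : Γ) ∈ N then A - B else 0) := by
    refine Finset.sum_congr rfl fun h _ => ?_
    split_ifs with hh
    · rw [hN h hh]; ring
    · rw [hH h hh]; ring
  have hcount : (Finset.univ.filter (fun h : H => (h : Γ) ∈ N)).card = Nat.card N := by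
    rw [← Fintype.card_subtype, ← Nat.card_eq_fintype_card]
    exact Nat.card_congr (Subgroup.subgroupOfEquivOfLe hNH).toEquiv
  rw [← h1, h2, Finset.sum_add_distrib, Finset.sum_const, Finset.card_univ, nsmul_eq_mul,
    ← Finset.sum_filter, Finset.sum_const, hcount, nsmul_eq_mul]
  simp only [Nat.card_eq_fintype_card]
  ring

end Cfsg.Agent.Lib.Helper8.FZ
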