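import Mathlib
import Cfsg.Agent.Lib.Helper5.FlvDefs

/-! S3816 package B: the bridge from the internal formulation (`P H : Subgroup G`) to the statement
about an automorphism `x : MulAut H`, via `G = H ⋊ ⟨x⟩`. -/

set_option autoImplicit false

namespace Cfsg.Agent.Lib.Helper8.FlvB

open scoped Pointwise commutatorElement
open Cfsg.Agent.Lib.Helper5.FlvDefs

universe u

theorem pow_apply_eq_of_mem_zpowers {H : Type u} [Group H] (x : MulAut H) {c : H} (hc : x c = c)
    {b : MulAut H} (hb : b ∈ Subgroup.zpowers x) : b c = c := by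
  have h1 : Subgroup.zpowers x ≤ MulAction.stabilizer (MulAut H) c := by
    rw [Subgroup.zpowers_le]
    exact hc
  exact h1 hb

/-- the bridge -/
theorem bridge {p : ℕ}
    (hmain : ∀ (G : Type u) [Group G] [Finite G] (P H : Subgroup G), Ctx p P H → Goal P H)
    {H : Type u} [Group H] [Finite H] [Group.IsSolvable H] [Fact p.Prime] (hp : p ≠ 2)
    (hcop : (Nat.card H).Coprime p) (x : MulAut H) (hx : orderOf x = p) :
    Subgroup.closure {c : H | ∃ h : H, ∃ i : ℕ, c = h⁻¹ * (x ^ i) h} ⊓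
        (x : H →* H).eqLocus (MonoidHom.id H) =
      ⨆ h : H, Subgroup.closure {c : H | ∃ i : ℕ, c = h⁻¹ * (x ^ i) h} ⊓
        (x : H →* H).eqLocus (MonoidHom.id H) := by
  classical
  have hpp : p.Prime := Fact.out
  apply le_antisymm
  swap
  · apply iSup_le
    intro h
    apply inf_le_inf_right
    apply Subgroup.closure_mono
    rintro c ⟨i, rfl⟩
    exact ⟨h, i, rfl⟩
  -- the semidirect product
  obtain ⟨φ, hφ⟩ : ∃ φ : Subgroup.zpowers x →* MulAut H, φ = (Subgroup.zpowers x).subtype :=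
    ⟨_, rfl⟩
  have hφapp : ∀ b : Subgroup.zpowers x, φ b = (b : MulAut H) := by
    intro b; rw [hφ]; rfl
  have hxfin : IsOfFinOrder x := by
    rw [← orderOf_pos_iff, hx]; exact hpp.pos
  have : Finite (Subgroup.zpowers x) := by
    apply Nat.finite_of_card_ne_zero
    rw [Nat.card_zpowers, hx]
    exact hpp.pos.ne'
  have : Finite (H ⋊[φ] Subgroup.zpowers x) := Finite.of_equiv _ SemidirectProduct.equivProd.symm
  obtain ⟨ι, hι⟩ : ∃ ι : H →* H ⋊[φ] Subgroup.zpowers x, ι = SemidirectProduct.inl := ⟨_, rfl⟩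
  obtain ⟨κ, hκ⟩ : ∃ κ : Subgroup.zpowers x →* H ⋊[φ] Subgroup.zpowers x,
      κ = SemidirectProduct.inr := ⟨_, rfl⟩
  have hιinj : Function.Injective ι := by rw [hι]; exact SemidirectProduct.inl_injective
  have hκinj : Function.Injective κ := by rw [hκ]; exact SemidirectProduct.inr_injective
  -- conjugation formulas
  have hconj : ∀ (b : Subgroup.zpowers x) (h : H), κ b * ι h * (κ b)⁻¹ = ι ((b : MulAut H) h) := by
    intro b h
    rw [hι, hκ, ← map_inv, ← SemidirectProduct.inl_aut, hφapp]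
  have hconj' : ∀ (b : Subgroup.zpowers x) (h : H),
      (κ b)⁻¹ * ι h * κ b = ι (((b : MulAut H)⁻¹) h) := by
    intro b h
    have := hconj b⁻¹ h
    rw [map_inv, inv_inv] at this
    rw [this]
    rfl
  have hHn : (ι.range).Normal := by
    rw [hι, SemidirectProduct.range_inl_eq_ker_rightHom]
    infer_instance
  -- the context
  have hctx : Ctx p κ.range ι.range := by
    refine ⟨hpp, hp, ?_, ?_, ?_, ?_⟩
    · rw [Nat.card_congr (MonoidHom.ofInjective hκinj).symm.toEquiv, Nat.card_zpowers, hx]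
    · rw [Subgroup.normalizer_eq_top]
      exact le_top
    · exact Group.isSolvable_of_surjective (f := ι.rangeRestrict) ι.rangeRestrict_surjective
    · rw [Nat.card_congr (MonoidHom.ofInjective hιinj).symm.toEquiv]
      exact hcop
  have hgoal := hmain _ κ.range ι.range hctx
  -- fixed points
  have hfix : ∀ c : H, ι c ∈ Subgroup.centralizer (κ.range : Set _) ↔ x c = c := by
    intro c
    constructor
    · intro h1
      have h2 := h1 (κ ⟨x, Subgroup.mem_zpowers x⟩) ⟨_, rfl⟩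
      -- h2 : κ x * ι c = ι c * κ x
      have h3 := hconj ⟨x, Subgroup.mem_zpowers x⟩ c
      rw [h2, mul_inv_cancel_right] at h3
      exact (hιinj h3).symm
    · intro h1
      rintro _ ⟨b, rfl⟩
      have h3 := hconj b c
      rw [pow_apply_eq_of_mem_zpowers x h1 b.2] at h3
      calc κ b * ι c = κ b * ι c * (κ b)⁻¹ * κ b := by group
        _ = ι c * κ b := by rw [h3]
  intro c hc
  rw [Subgroup.mem_inf] at hc
  obtain ⟨hc1, hc2⟩ := hc
  have hc2' : x c = c := hc2
  -- `ι c` lies in `[H,P] ∩ C(P)`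
  have h1 : ι c ∈ ⁅ι.range, κ.range⁆ ⊓ Subgroup.centralizer (κ.range : Set _) := by
    refine ⟨?_, (hfix c).mpr hc2'⟩
    have h2 : Subgroup.closure {c : H | ∃ h : H, ∃ i : ℕ, c = h⁻¹ * (x ^ i) h} ≤
        (⁅ι.range, κ.range⁆).comap ι := by
      rw [Subgroup.closure_le]
      rintro _ ⟨h, i, rfl⟩
      show ι (h⁻¹ * (x ^ i) h) ∈ ⁅ι.range, κ.range⁆
      have h3 := hconj ⟨x ^ i, Subgroup.pow_mem _ (Subgroup.mem_zpowers x) i⟩ h
      have h4 : ι (h⁻¹ * (x ^ i) h) =
          ⁅ι h⁻¹, κ ⟨x ^ i, Subgroup.pow_mem _ (Subgroup.mem_zpowers x) i⟩⁆ := by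
        rw [map_mul, ← h3, commutatorElement_def, map_inv, inv_inv]
        group
      rw [h4]
      exact Subgroup.commutator_mem_commutator ⟨_, rfl⟩ ⟨_, rfl⟩
    exact h2 hc1
  have h5 := hgoal h1
  -- `KK` is the image of the right-hand side
  have h6 : KK κ.range ι.range ≤
      (⨆ h : H, Subgroup.closure {c : H | ∃ i : ℕ, c = h⁻¹ * (x ^ i) h} ⊓
        (x : H →* H).eqLocus (MonoidHom.id H)).map ι := by
    unfold KK
    apply iSup₂_le
    rintro _ ⟨h, rfl⟩
    refine le_trans ?_ (Subgroup.map_mono (le_iSup _ h))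
    have h7 : cmE κ.range (ι h) ≤
        (Subgroup.closure {c : H | ∃ i : ℕ, c = h⁻¹ * (x ^ i) h}).map ι := by
      unfold cmE
      rw [Subgroup.closure_le]
      rintro _ ⟨_, ⟨b, rfl⟩, rfl⟩
      rw [hconj', ← map_inv, ← map_mul]
      apply Subgroup.mem_map_of_mem
      apply Subgroup.subset_closure
      have hb : ((b : MulAut H)⁻¹) ∈ Subgroup.zpowers x := Subgroup.inv_mem _ b.2
      obtain ⟨i, -, hi⟩ := Finset.mem_image.mp ((hxfin.mem_zpowers_iff_mem_range_orderOf).mp hb)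
      exact ⟨i, by rw [hi]⟩
    intro y hy
    obtain ⟨c', hc', rfl⟩ := h7 hy.1
    exact Subgroup.mem_map_of_mem _ ⟨hc', (hfix c').mp hy.2⟩
  obtain ⟨c', hc', hcc⟩ := h6 h5
  rw [← hιinj hcc]
  exact hc'

end Cfsg.Agent.Lib.Helper8.FlvB
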