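import Mathlib
import Cfsg.Agent.Lib.Helper5.FlvDefs
import Cfsg.Agent.Lib.Helper5.FlvM
import Cfsg.Agent.Lib.Helper8.FlvC1

/-! S3816 package C2i: the chief factor `M/Z₁` is a `q`-group. -/

set_option autoImplicit false

namespace Cfsg.Agent.Lib.Helper8.FlvC2i

open scoped Pointwise commutatorElement
open Cfsg.Agent.Lib.Helper5.FlvDefs
open Cfsg.Agent.Lib.Helper5.FlvM
open Cfsg.Agent.Lib.Helper8.FlvC1

universe u

section
variable {G : Type u} [Group G] [Finite G] {p : ℕ} {P H : Subgroup G} {z : G} {q : ℕ}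
  {M : Subgroup G}

omit [Finite G] in
/-- an element of `Z₁` of order dividing a prime `s ≠ q` is trivial -/
theorem eq_one_of_mem_Z1 (hz : CData P H z q) {s : ℕ} (hs : s.Prime) (hsq : s ≠ q) {c : G}
    (hc : c ∈ Z1 P H) (hcs : c ^ s = 1) : c = 1 := by
  by_contra hc1
  obtain ⟨⟨hcH, hcZ⟩, hcP⟩ := hc
  have hW : NormBy P H (Subgroup.zpowers c) := by
    apply normBy_of_le_centralizer
    · apply Subgroup.le_centralizer_iff.mp
      rw [Subgroup.zpowers_le]; exact hcZ
    · rw [Subgroup.zpowers_le]; exact hcP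
  have hWne : Subgroup.zpowers c ≠ ⊥ := by
    intro hbot
    apply hc1
    have : c ∈ Subgroup.zpowers c := Subgroup.mem_zpowers c
    rw [hbot] at this
    exact Subgroup.mem_bot.mp this
  have hWH : Subgroup.zpowers c ≤ H := by
    rw [Subgroup.zpowers_le]; exact hcH
  obtain ⟨k, hk⟩ := Subgroup.mem_zpowers_iff.mp (hz.zmin _ hWH hWne hW)
  have hzs : z ^ s = 1 := by
    rw [← hk, ← zpow_natCast, ← zpow_mul, mul_comm, zpow_mul, zpow_natCast, hcs, one_zpow]
  have h1 : q ∣ s := by
    rw [← hz.zord]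
    exact orderOf_dvd_of_pow_eq_one hzs
  exact hsq ((Nat.prime_dvd_prime_iff_eq hz.hq hs).mp h1).symm

/-- PKG-C2i = case (i): the chief factor is a `q`-group -/
theorem C2i (h : MinCE p P H) (hz : CData P H z q) {s : ℕ} (hM : CChief P H (Z1 P H) M s) :
    s = q := by
  classical
  by_contra hsq
  have hs := hM.s_prime
  have hkey : ∀ c ∈ Z1 P H, c ^ s = 1 → c = 1 := fun c hc hcs =>
    eq_one_of_mem_Z1 hz hs hsq hc hcs
  -- elements of order dividing `s` in `M` commute
  have hcomm : ∀ a ∈ M, ∀ b ∈ M, b ^ s = 1 → a * b = b * a := by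
    intro a ha b hb hbs
    have hc : ⁅a, b⁆ ∈ Z1 P H := hM.comm_le (Subgroup.commutator_mem_commutator ha hb)
    have hcZ : ⁅a, b⁆ ∈ Subgroup.centralizer (H : Set G) := hc.1.2
    have hcb : Commute ⁅a, b⁆ b := (hcZ b (hM.MH hb)).symm
    have h1 : a * b * a⁻¹ = ⁅a, b⁆ * b := by rw [commutatorElement_def]; group
    have h2 : (a * b * a⁻¹) ^ s = 1 := by rw [conj_pow, hbs]; group
    rw [h1, hcb.mul_pow, hbs, mul_one] at h2
    have h3 := hkey _ hc h2
    rw [commutatorElement_def] at h3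
    calc a * b = (a * b * a⁻¹ * b⁻¹) * b * a := by group
      _ = b * a := by rw [h3, one_mul]
  -- the subgroup of elements of order dividing `s`
  let S : Subgroup G :=
    { carrier := {m | m ∈ M ∧ m ^ s = 1}
      one_mem' := ⟨M.one_mem, one_pow s⟩
      mul_mem' := by
        rintro a b ⟨ha, has⟩ ⟨hb, hbs⟩
        refine ⟨M.mul_mem ha hb, ?_⟩
        have hab : Commute a b := hcomm a ha b hb hbs
        rw [hab.mul_pow, has, hbs, one_mul]
      inv_mem' := by
        rintro a ⟨ha, has⟩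
        exact ⟨M.inv_mem ha, by rw [inv_pow, has, inv_one]⟩ }
  have hSM : S ≤ M := fun m hm => hm.1
  have hSn : NormBy P H S := by
    apply normBy_of_conj_invariant hM.nM
    rintro g hg x ⟨hx, hxs⟩
    refine ⟨(Subgroup.mem_normalizer_iff.mp hg x).mp hx, ?_⟩
    rw [conj_pow, hxs]; group
  have hzS : z ∉ S := by
    rintro ⟨-, hzs⟩
    have h1 : q ∣ s := by
      rw [← hz.zord]
      exact orderOf_dvd_of_pow_eq_one hzs
    exact hsq ((Nat.prime_dvd_prime_iff_eq hz.hq hs).mp h1).symm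
  have hSne : S ≠ ⊥ := by
    -- an element of `M` outside `Z₁`
    obtain ⟨m, hmM, hmZ⟩ : ∃ m ∈ M, m ∉ Z1 P H := by
      by_contra hcon
      push Not at hcon
      exact hM.ne (le_antisymm hcon hM.ZM)
    have hcop : (Nat.card (Z1 P H)).Coprime s := by
      rw [Nat.coprime_comm, Nat.Prime.coprime_iff_not_dvd hs]
      intro hdvd
      have : Fact s.Prime := ⟨hs⟩
      obtain ⟨c, hc⟩ := exists_prime_orderOf_dvd_card' (G := Z1 P H) s hdvd
      have hc1 : (c : G) ^ s = 1 := by
        have := pow_orderOf_eq_one c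
        rw [hc] at this
        exact_mod_cast congrArg Subtype.val this
      have hc2 := hkey _ c.2 hc1
      have hc3 : c = 1 := Subtype.ext hc2
      rw [hc3, orderOf_one] at hc
      exact hs.one_lt.ne hc
    have hmN : (m ^ Nat.card (Z1 P H)) ^ s = 1 := by
      rw [← pow_mul, mul_comm, pow_mul]
      exact orderOf_dvd_iff_pow_eq_one.mp
        (Subgroup.orderOf_dvd_natCard (Z1 P H) (hM.exp m hmM))
    intro hbot
    have h2 : m ^ Nat.card (Z1 P H) ∈ S := ⟨M.pow_mem hmM _, hmN⟩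
    rw [hbot, Subgroup.mem_bot] at h2
    -- then the order of `m` is prime to `s`
    have h3 : orderOf m ∣ Nat.card (Z1 P H) := orderOf_dvd_of_pow_eq_one h2
    have h4 : s.Coprime (orderOf m) :=
      (Nat.Coprime.coprime_dvd_left h3 hcop).symm
    obtain ⟨k, hk⟩ := exists_pow_eq_self_of_coprime h4
    apply hmZ
    rw [← hk]
    exact Subgroup.pow_mem _ (hM.exp m hmM) k
  exact hzS (hz.zmin S (hSM.trans hM.MH) hSne hSn)

end

end Cfsg.Agent.Lib.Helper8.FlvC2i
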