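import Mathlib
import Cfsg.Agent.Lib.Helper8.FpfLift1

set_option autoImplicit false

/-!
# Lifting fixed-point-free modules, part 4: from `ℤ` to `ℚ` to a characteristic zero field
-/

namespace Cfsg.Agent.Lib.Helper8.FpfLift

open MonoidAlgebra

variable {H : Type*} [Group H]

/-- The inclusion `ℤ[H] → ℚ[H]`. -/
noncomputable abbrev iotaQ (H : Type*) [Group H] :
    MonoidAlgebra ℤ H →+* MonoidAlgebra ℚ H :=
  MonoidAlgebra.mapRingHom H (Int.castRingHom ℚ)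

theorem iotaQ_injective : Function.Injective (iotaQ H) := by
  have := MonoidAlgebra.map_injective (M := H) (Int.castRingHom ℚ).toAddMonoidHom
    (Int.cast_injective)
  exact this

theorem exists_clear_denominators (a : MonoidAlgebra ℚ H) :
    ∃ d : ℤ, d ≠ 0 ∧ ∃ a' : MonoidAlgebra ℤ H, (d : ℚ) • a = iotaQ H a' := by
  induction a using MonoidAlgebra.induction_on with
  | of g =>
    refine ⟨1, one_ne_zero, MonoidAlgebra.of ℤ H g, ?_⟩
    simp [MonoidAlgebra.of_apply]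
  | add x y hx hy =>
    obtain ⟨d1, hd1, a1, h1⟩ := hx
    obtain ⟨d2, hd2, a2, h2⟩ := hy
    refine ⟨d1 * d2, mul_ne_zero hd1 hd2, (d2 : MonoidAlgebra ℤ H) * a1 + (d1 : MonoidAlgebra ℤ H) * a2, ?_⟩
    rw [map_add, map_mul, map_mul, ← h1, ← h2, map_intCast, map_intCast, smul_add]
    rw [← zsmul_eq_mul, ← zsmul_eq_mul]
    simp only [Int.cast_mul, ← smul_smul, Int.cast_smul_eq_zsmul]
    rw [smul_comm (d1 : ℤ) (d2 : ℤ) x]
  | smul r x hx =>
    obtain ⟨d, hd, a', h⟩ := hx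
    refine ⟨r.den * d, mul_ne_zero (by exact_mod_cast r.den_ne_zero) hd,
      (r.num : MonoidAlgebra ℤ H) * a', ?_⟩
    rw [map_mul, map_intCast, ← h, ← zsmul_eq_mul, ← Int.cast_smul_eq_zsmul ℚ, smul_smul, smul_smul]
    congr 1
    push_cast
    have := Rat.den_mul_eq_num r
    rw [mul_right_comm, this]

theorem exists_int_multiple {x : MonoidAlgebra ℚ H} (hx : x ∈ fpfIdeal ℚ H) :
    ∃ m : ℤ, m ≠ 0 ∧ ∃ y ∈ fpfIdeal ℤ H, (m : ℚ) • x = iotaQ H y := by
  unfold fpfIdeal at hx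
  induction hx using Submodule.span_induction with
  | mem x hx =>
    obtain ⟨h, b, hh, rfl⟩ := hx
    refine ⟨1, one_ne_zero, _, normEl_mul_of_mem_fpfIdeal (k := ℤ) hh b, ?_⟩
    rw [map_mul, map_normEl]
    simp [MonoidAlgebra.of_apply]
  | zero => exact ⟨1, one_ne_zero, 0, Ideal.zero_mem _, by simp⟩
  | add x y _ _ hx hy =>
    obtain ⟨m1, hm1, y1, hy1, h1⟩ := hx
    obtain ⟨m2, hm2, y2, hy2, h2⟩ := hy
    refine ⟨m1 * m2, mul_ne_zero hm1 hm2,
      (m2 : MonoidAlgebra ℤ H) * y1 + (m1 : MonoidAlgebra ℤ H) * y2,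
      Ideal.add_mem _ (Ideal.mul_mem_left _ _ hy1) (Ideal.mul_mem_left _ _ hy2), ?_⟩
    rw [map_add, map_mul, map_mul, ← h1, ← h2, map_intCast, map_intCast, smul_add]
    rw [← zsmul_eq_mul, ← zsmul_eq_mul]
    simp only [Int.cast_mul, ← smul_smul, Int.cast_smul_eq_zsmul]
    rw [smul_comm (m1 : ℤ) (m2 : ℤ) x]
  | smul a x _ hx =>
    obtain ⟨m, hm, y, hy, h⟩ := hx
    obtain ⟨d, hd, a', ha'⟩ := exists_clear_denominators a
    refine ⟨d * m, mul_ne_zero hd hm, a' * y, Ideal.mul_mem_left _ _ hy, ?_⟩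
    rw [map_mul, ← h, ← ha', smul_eq_mul, smul_mul_smul_comm, Int.cast_mul]

/-- **Claim 3.** -/
theorem one_notMem_fpfIdeal_rat
    (h : ∀ m : ℤ, (m : MonoidAlgebra ℤ H) ∈ fpfIdeal ℤ H → m = 0) :
    (1 : MonoidAlgebra ℚ H) ∉ fpfIdeal ℚ H := by
  intro h1
  obtain ⟨m, hm, y, hy, hmy⟩ := exists_int_multiple h1
  apply hm
  apply h
  have : y = (m : MonoidAlgebra ℤ H) := by
    apply iotaQ_injective
    rw [← hmy, map_intCast]
    rw [← mul_one (m : MonoidAlgebra ℚ H), ← zsmul_eq_mul, Int.cast_smul_eq_zsmul]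
  rwa [← this]

end Cfsg.Agent.Lib.Helper8.FpfLift
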