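import Mathlib
import Cfsg.Agent.Lib.Helper8.FpfLift1

set_option autoImplicit false

/-!
# Lifting fixed-point-free modules, part 5: from `ℚ` to an arbitrary field of characteristic zero
-/

namespace Cfsg.Agent.Lib.Helper8.FpfLift

open MonoidAlgebra

variable {H : Type*} [Group H] {F : Type*} [Field F] [CharZero F]

/-- The inclusion `ℚ[H] → F[H]`. -/
noncomputable abbrev iotaF (H : Type*) [Group H] (F : Type*) [Field F] [CharZero F] :
    MonoidAlgebra ℚ H →+* MonoidAlgebra F H :=
  MonoidAlgebra.mapRingHom H (algebraMap ℚ F)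

theorem exists_retraction (F : Type*) [Field F] [CharZero F] :
    ∃ l : F →ₗ[ℚ] ℚ, ∀ q : ℚ, l (algebraMap ℚ F q) = q := by
  obtain ⟨g, hg⟩ := LinearMap.exists_leftInverse_of_injective (Algebra.linearMap ℚ F)
    (LinearMap.ker_eq_bot.mpr (algebraMap ℚ F).injective)
  refine ⟨g, fun q => ?_⟩
  have := LinearMap.congr_fun hg q
  simpa using this

theorem map_mul_iotaF (l : F →ₗ[ℚ] ℚ) (a : MonoidAlgebra F H) (z : MonoidAlgebra ℚ H) :
    MonoidAlgebra.map l.toAddMonoidHom (a * iotaF H F z)
      = MonoidAlgebra.map l.toAddMonoidHom a * z := by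
  induction a using MonoidAlgebra.induction_linear with
  | zero => simp [MonoidAlgebra.map_zero]
  | add x y hx hy => rw [add_mul, MonoidAlgebra.map_add, hx, hy, MonoidAlgebra.map_add, add_mul]
  | single g c =>
    induction z using MonoidAlgebra.induction_linear with
    | zero => simp [MonoidAlgebra.map_zero]
    | add x y hx hy =>
      rw [map_add, mul_add, MonoidAlgebra.map_add, hx, hy, mul_add]
    | single g' q =>
      rw [MonoidAlgebra.mapRingHom_single, MonoidAlgebra.single_mul_single,
        MonoidAlgebra.map_single, MonoidAlgebra.map_single, MonoidAlgebra.single_mul_single]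
      congr 1
      have : c * algebraMap ℚ F q = q • c := by rw [Algebra.smul_def, mul_comm]
      simp only [LinearMap.toAddMonoidHom_coe]
      rw [this, map_smul, smul_eq_mul, mul_comm]

/-- **Claim 3'.** Base change to a field of characteristic zero. -/
theorem one_notMem_fpfIdeal_field (h : (1 : MonoidAlgebra ℚ H) ∉ fpfIdeal ℚ H) :
    (1 : MonoidAlgebra F H) ∉ fpfIdeal F H := by
  obtain ⟨l, hl⟩ := exists_retraction F
  have key : ∀ x ∈ fpfIdeal F H, ∀ a : MonoidAlgebra F H,
      MonoidAlgebra.map l.toAddMonoidHom (a * x) ∈ fpfIdeal ℚ H := by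
    intro x hx
    unfold fpfIdeal at hx
    induction hx using Submodule.span_induction with
    | mem x hx =>
      obtain ⟨h, b, hh, rfl⟩ := hx
      intro a
      have e : normEl F h * MonoidAlgebra.of F H b
          = iotaF H F (normEl ℚ h * MonoidAlgebra.of ℚ H b) := by
        rw [map_mul, map_normEl]
        simp [MonoidAlgebra.of_apply]
      rw [e, map_mul_iotaF]
      exact Ideal.mul_mem_left _ _ (normEl_mul_of_mem_fpfIdeal hh b)
    | zero => intro a; simp [MonoidAlgebra.map_zero]
    | add x y _ _ hx hy =>
      intro a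
      rw [mul_add, MonoidAlgebra.map_add]
      exact Ideal.add_mem _ (hx a) (hy a)
    | smul c x _ hx =>
      intro a
      rw [smul_eq_mul, ← mul_assoc]
      exact hx (a * c)
  intro h1
  apply h
  have := key 1 h1 1
  rw [mul_one, MonoidAlgebra.one_def, MonoidAlgebra.map_single] at this
  have h2 : l.toAddMonoidHom (1 : F) = 1 := by
    have := hl 1
    simpa using this
  rw [h2] at this
  rwa [MonoidAlgebra.one_def]

end Cfsg.Agent.Lib.Helper8.FpfLift
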