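import Mathlib
import Cfsg.Agent.Lib.Helper8.FpfLift2
import Cfsg.Agent.Lib.Helper8.FpfLift3
import Cfsg.Agent.Lib.Helper8.FpfLift4
import Cfsg.Agent.Lib.Helper8.FpfLift5
import Cfsg.Agent.Lib.Helper8.FpfLift6

set_option autoImplicit false

/-!
# Lifting fixed-point-free modules, part 7: summary theorems
-/

namespace Cfsg.Agent.Lib.Helper8.FpfLift

open MonoidAlgebra

variable {H : Type*} [Group H] [Finite H] {p : ℕ} [Fact p.Prime]
  {M : Type*} [AddCommGroup M] [Module (ZMod p) M] [Nontrivial M]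

/-- A nonzero fixed-point-free `𝔽_p[H]`-module with `p ∤ |H|` gives `1 ∉ fpfIdeal ℚ H`. -/
theorem one_notMem_fpfIdeal_rat_of_module (hp : ¬ p ∣ Nat.card H)
    (ρ : H →* (M →ₗ[ZMod p] M))
    (hfpf : ∀ h : H, h ≠ 1 → ∀ m : M, ρ h m = m → m = 0) :
    (1 : MonoidAlgebra ℚ H) ∉ fpfIdeal ℚ H :=
  one_notMem_fpfIdeal_rat
    (int_eq_zero_of_mem_fpfIdeal hp (one_notMem_fpfIdeal_of_fpf ρ hfpf))

/-- A nonzero fixed-point-free `𝔽_p[H]`-module with `p ∤ |H|` lifts to a faithful irreducible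
fixed-point-free matrix representation over any field of characteristic zero. -/
theorem exists_fpf_rep_of_module (hp : ¬ p ∣ Nat.card H)
    (ρ : H →* (M →ₗ[ZMod p] M))
    (hfpf : ∀ h : H, h ≠ 1 → ∀ m : M, ρ h m = m → m = 0)
    (F : Type*) [Field F] [CharZero F] :
    ∃ (n : ℕ) (ρ' : H →* GL (Fin n) F), 0 < n ∧ Function.Injective ρ' ∧
      (∀ W : Submodule F (Fin n → F),
        (∀ g : H, ∀ w ∈ W,
          ((ρ' g : GL (Fin n) F) : Matrix (Fin n) (Fin n) F).mulVec w ∈ W) → W = ⊥ ∨ W = ⊤) ∧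
      ∀ g : H, g ≠ 1 → ∀ v : Fin n → F,
        ((ρ' g : GL (Fin n) F) : Matrix (Fin n) (Fin n) F).mulVec v = v → v = 0 :=
  exists_matrix_rep
    (one_notMem_fpfIdeal_field (one_notMem_fpfIdeal_rat_of_module hp ρ hfpf))

end Cfsg.Agent.Lib.Helper8.FpfLift
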