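import Mathlib
import Cfsg.Agent.Lib.Helper2.G2LDefs
import Cfsg.Agent.Lib.Helper8.HW2
import Cfsg.Agent.Lib.Helper7.FrattRed
import Cfsg.Agent.Lib.Helper3.PComp1
import Cfsg.Agent.Lib.Helper6.PCore
import Cfsg.Agent.Lib.Lead.SolvPSolv

set_option autoImplicit false

/-! S3801 package G1: the exponent of the Sylow `2`-subgroups drops after two layers. -/

namespace Cfsg.Agent.Lib.Helper8.G2LG1

open Cfsg Cfsg.Agent.Lib.Helper2.G2L Cfsg.Agent.Lib.Helper7 Cfsg.Agent.Lib.Helper7.NormB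
open scoped IsMulCommutative

universe u

section equiv
variable {A B : Type*} [Group A] [Group B]

theorem pPrimePCore_map_le (p : ℕ) (e : A ≃* B) :
    (pPrimePCore p A).map (e : A →* B) ≤ pPrimePCore p B := by
  rintro _ ⟨x, hx, rfl⟩
  have hK : (pPrimeCore p A).map (e : A →* B) = pPrimeCore p B :=
    Cfsg.Agent.Lib.Helper3.pPrimeCore_map_mulEquiv p e
  have hx' : (QuotientGroup.mk' (pPrimeCore p A)) x ∈ pCore p (A ⧸ pPrimeCore p A) := hx
  have h2 : (QuotientGroup.congr (pPrimeCore p A) (pPrimeCore p B) e hK)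
      ((QuotientGroup.mk' (pPrimeCore p A)) x) ∈ pCore p (B ⧸ pPrimeCore p B) := by
    rw [← Cfsg.Agent.Lib.Helper6.pCore_map_equiv p
      (QuotientGroup.congr (pPrimeCore p A) (pPrimeCore p B) e hK)]
    exact ⟨_, hx', rfl⟩
  show (QuotientGroup.mk' (pPrimeCore p B)) (e x) ∈ pCore p (B ⧸ pPrimeCore p B)
  have h3 : (QuotientGroup.congr (pPrimeCore p A) (pPrimeCore p B) e hK)
      ((QuotientGroup.mk' (pPrimeCore p A)) x) = (QuotientGroup.mk' (pPrimeCore p B)) (e x) :=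
    QuotientGroup.congr_mk _ _ e hK x
  rw [← h3]
  exact h2

end equiv

/-- in characteristic `2`: `(X - 1)^(2^e - 1) = 1 + X + ⋯ + X^(2^e - 1)` -/
theorem sub_one_pow_eq_geom_sum {R : Type*} [Ring R] [Algebra (ZMod 2) R] (X : R) (e : ℕ) :
    (X - 1) ^ (2 ^ e - 1) = ∑ i ∈ Finset.range (2 ^ e), X ^ i := by
  have hpoly : ((Polynomial.X : Polynomial (ZMod 2)) - 1) ^ (2 ^ e - 1) =
      ∑ i ∈ Finset.range (2 ^ e), (Polynomial.X : Polynomial (ZMod 2)) ^ i := by
    have hne : ((Polynomial.X : Polynomial (ZMod 2)) - 1) ≠ 0 := by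
      have := Polynomial.X_sub_C_ne_zero (1 : ZMod 2)
      simpa using this
    apply mul_right_cancel₀ hne
    rw [geom_sum_mul, ← pow_succ]
    have h1 : 2 ^ e - 1 + 1 = 2 ^ e := Nat.sub_add_cancel Nat.one_le_two_pow
    rw [h1, sub_pow_char_pow, one_pow]
  have h2 := congrArg (Polynomial.aeval X) hpoly
  simpa using h2

/-- G1 : the exponent drops after two layers (wrapper core), `O_{2'}(G) = 1`; from Theorem GT over
`ZMod 2`. -/
theorem pow_mem_of_bot_of
    (hGT : ∀ (H : Type u) [Group H] [Finite H] (V : Type u) [AddCommGroup V] [Module (ZMod 2) V]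
      [FiniteDimensional (ZMod 2) V] (ρ : Representation (ZMod 2) H V), Function.Injective ρ →
      Group.IsSolvable H → pCore 2 H = ⊥ → ∀ (g : H) (n : ℕ), 1 ≤ n → Exc (ρ g) n →
      g ^ 2 ^ (n - 1) ∈ pPrimePCore 2 H)
    (G : Type u) [Group G] [Finite G] (hG : Group.IsSolvable G) (e : ℕ)
    (he : 1 ≤ e) (hexp : ∀ (P : Sylow 2 G), ∀ x ∈ (P : Subgroup G), x ^ 2 ^ e = 1)
    (hO : pPrimeCore 2 G = ⊥) (P : Sylow 2 G) (x : G) (hx : x ∈ (P : Subgroup G)) :
    QuotientGroup.mk' (pCore 2 G) (x ^ 2 ^ (e - 1)) ∈ pPrimePCore 2 (G ⧸ pCore 2 G) := by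
  classical
  have : Fact (Nat.Prime 2) := ⟨Nat.prime_two⟩
  have hPS : IsPSolvable 2 G := Cfsg.Agent.Lib.Lead.SolvPSolv.isPSolvable_of_isSolvable' 2 G
  have hP1n : (pCore 2 G).Normal := Cfsg.Agent.Lib.Lead.pCore_normal 2
  obtain ⟨U, hUmap⟩ : ∃ U : Subgroup (G ⧸ FrattRed.phi 2 G),
      U = (pCore 2 G).map (QuotientGroup.mk' (FrattRed.phi 2 G)) := ⟨_, rfl⟩
  have hUdef : U = pCore 2 (G ⧸ FrattRed.phi 2 G) := by rw [hUmap, FrattRed.pCore_quot]
  have hUn : U.Normal := by rw [hUdef]; exact Cfsg.Agent.Lib.Lead.pCore_normal 2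
  have hUc : ∀ a ∈ U, ∀ b ∈ U, a * b = b * a := by
    rw [hUdef]; exact FrattRed.quot_comm
  have hUcomm : IsMulCommutative U := ⟨⟨fun a b => Subtype.ext (hUc a a.2 b b.2)⟩⟩
  have hexpU : ∀ a ∈ U, a ^ 2 = 1 := by rw [hUdef]; exact FrattRed.quot_exp
  have hCU : ∀ z, (∀ v ∈ U, z * v = v * z) → z ∈ U := by
    rw [hUdef]; exact FrattRed.quot_selfcentralizing hPS hO
  have hUpg : IsPGroup 2 U := by rw [hUdef]; exact Cfsg.Agent.Lib.Lead.pCore_isPGroup 2
  have hOp : pCore 2 ((G ⧸ FrattRed.phi 2 G) ⧸ U) = ⊥ := by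
    rw [Cfsg.Agent.Lib.Helper6.pCore_quotient_of_isPGroup U hUpg, ← hUdef]
    exact QuotientGroup.map_mk'_self U
  have inst : Module (ZMod 2) (Additive U) := Cfsg.Agent.Lib.Helper8.HW.zmodInst U hexpU
  -- the representation
  obtain ⟨ρ, hρdef⟩ : ∃ ρ : Representation (ZMod 2) ((G ⧸ FrattRed.phi 2 G) ⧸ U) (Additive U),
      ρ = (Cfsg.Agent.Lib.Helper8.HW.linOf 2 (Additive U)).toMonoidHom.comp (quotAct U) :=
    ⟨_, rfl⟩
  have hρapp : ∀ γ, ρ γ = Cfsg.Agent.Lib.Helper8.HW.linOf 2 (Additive U) (quotAct U γ) := by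
    intro γ; rw [hρdef]; rfl
  have hρinj : Function.Injective ρ := by
    rw [injective_iff_map_eq_one]
    intro γ hγ
    rw [hρapp] at hγ
    have h1 : quotAct U γ = 1 := by
      apply Cfsg.Agent.Lib.Helper8.HW.linOf_injective 2 (Additive U)
      rw [hγ, map_one]
    obtain ⟨g, rfl⟩ := QuotientGroup.mk'_surjective U γ
    apply (QuotientGroup.eq_one_iff g).mpr
    apply hCU
    intro v hv
    have h2 := congrArg (fun E : AddMonoid.End (Additive U) =>
      ((Additive.toMul (E (Additive.ofMul (⟨v, hv⟩ : U))) : U) : G ⧸ FrattRed.phi 2 G)) h1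
    simp only [quotAct_mk_apply] at h2
    have h3 : g * v * g⁻¹ = v := h2
    calc g * v = (g * v * g⁻¹) * g := by group
      _ = v * g := by rw [h3]
  obtain ⟨xb, hxb⟩ : ∃ xb : G ⧸ FrattRed.phi 2 G, xb = QuotientGroup.mk' (FrattRed.phi 2 G) x :=
    ⟨_, rfl⟩
  have hxbpow : xb ^ 2 ^ e = 1 := by
    rw [hxb, ← map_pow, hexp P x hx, map_one]
  -- `Exc`
  have hExc : Exc (ρ (QuotientGroup.mk' U xb)) e := by
    refine ⟨?_, ?_⟩
    · rw [← map_pow, ← map_pow, hxbpow, map_one, map_one]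
    · rw [sub_one_pow_eq_geom_sum]
      refine LinearMap.ext (fun a => ?_)
      rw [LinearMap.sum_apply, LinearMap.zero_apply]
      have h1 : ∀ i ∈ Finset.range (2 ^ e), ((ρ (QuotientGroup.mk' U xb)) ^ i) a =
          quotAct U ((QuotientGroup.mk' U xb) ^ i) a := by
        intro i _
        rw [← map_pow, hρapp]
        rfl
      rw [Finset.sum_congr rfl h1]
      apply Additive.toMul.injective
      apply Subtype.ext
      rw [sum_range_eq_pnorm]
      show _ = (1 : G ⧸ FrattRed.phi 2 G)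
      obtain ⟨v, hv⟩ : ∃ v : G ⧸ FrattRed.phi 2 G, v = ((Additive.toMul a : U) : _) := ⟨_, rfl⟩
      rw [← hv]
      have hvU : v ∈ U := by rw [hv]; exact (Additive.toMul a).2
      rw [hUmap] at hvU
      obtain ⟨r, hr, hrv⟩ := Subgroup.mem_map.mp hvU
      have hrP : r ∈ (P : Subgroup G) := Cfsg.Agent.Lib.Helper6.pCore_le_sylow P hr
      have h2 : (v * xb) ^ 2 ^ e = 1 := by
        rw [← hrv, hxb, ← map_mul, ← map_pow, hexp P _ ((P : Subgroup G).mul_mem hrP hx), map_one]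
      rw [mul_pow_eq_pnorm, hxbpow, mul_one] at h2
      exact h2
  have hsol : Group.IsSolvable ((G ⧸ FrattRed.phi 2 G) ⧸ U) := inferInstance
  have hfd : FiniteDimensional (ZMod 2) (Additive U) := Module.Finite.of_finite
  have hmem := hGT ((G ⧸ FrattRed.phi 2 G) ⧸ U) (Additive U) ρ hρinj hsol hOp
    (QuotientGroup.mk' U xb) e he hExc
  -- transport to `G ⧸ O_2(G)`
  subst hUmap
  have hle : FrattRed.phi 2 G ≤ pCore 2 G := FrattRed.phi_le 2
  have h5 := pPrimePCore_map_le 2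
    (QuotientGroup.quotientQuotientEquivQuotient (FrattRed.phi 2 G) (pCore 2 G) hle)
    (Subgroup.mem_map_of_mem _ hmem)
  rw [hxb, ← map_pow, ← map_pow] at h5
  exact h5

end Cfsg.Agent.Lib.Helper8.G2LG1
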