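import Mathlib
import Cfsg.Agent.Lib.Helper8.GF2
import Cfsg.Agent.Lib.Helper8.Deflation
import Cfsg.Agent.S0161

set_option autoImplicit false
set_option linter.unusedSectionVars false
set_option linter.unusedVariables false

/-! Fixed extensions and their uniqueness, for an invariant character of a normal subgroup of
odd index. -/

namespace Cfsg.Agent.Lib.Helper8.GF

open Cfsg Cfsg.Agent.Lib.Helper1 Cfsg.Agent.Lib.Helper4 Cfsg.Agent.Lib.Helper8
open scoped ComplexConjugate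

universe u

variable {H : Type u} [Group H] [Fintype H] {k e : ℕ} (N : Subgroup H) [hN : N.Normal] [Fintype N]

/-- If `θ` is fixed and extends to `H`, then some extension is fixed. -/
theorem exists_fixed_extension (hG : GalInv H k e) (hodd : Odd N.index) {θ : N → ℂ}
    (hθ : IsIrrCharacter N θ)
    (hinv : ∀ (g : H) (n : N), θ ⟨g * n * g⁻¹, hN.conj_mem (n : H) n.2 g⟩ = θ n)
    (hθk : powFn k θ = θ) {χ₁ : H → ℂ} (hχ₁ : IsIrrCharacter H χ₁) (hext : ∀ n : N, χ₁ n = θ n) :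
    ∃ η : H → ℂ, IsIrrCharacter H η ∧ (∀ n : N, η n = θ n) ∧ powFn k η = η := by
  obtain ⟨-, -, hsurj⟩ := gallagher_abs N hθ hinv hχ₁ hext
  have hψ : IsIrrCharacter H (powFn k χ₁) := isIrrCharacter_powFn hG.hk hχ₁
  have hψN : ∀ n : N, powFn k χ₁ n = θ n := by
    intro n
    rw [powFn_apply]
    have h1 : ((n : H) ^ k) = ((n ^ k : N) : H) := by rw [Subgroup.coe_pow]
    rw [h1, hext (n ^ k)]
    exact congrFun hθk n
  have hover : classInner (fun n : N => powFn k χ₁ n) θ ≠ 0 := by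
    rw [funext hψN, classInner_irr_self hθ]
    exact one_ne_zero
  obtain ⟨β, hβ, hβN, hβψ⟩ := hsurj _ hψ hover
  have hχ10 : χ₁ 1 ≠ 0 := irr_apply_one_ne_zero hχ₁
  have hβ1 : β 1 = 1 := by
    have h1 := congrFun hβψ 1
    rw [powFn_apply, one_pow, Pi.mul_apply] at h1
    have h2 : 1 * χ₁ 1 = β 1 * χ₁ 1 := by rw [one_mul]; exact h1
    exact (mul_right_cancel₀ hχ10 h2).symm
  obtain ⟨lam, hlam⟩ := exists_hom_of_isIrrCharacter hβ hβ1
  have hlamN : ∀ n ∈ N, lam n = 1 := by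
    intro n hn
    apply Units.ext
    have h1 := hβN n hn
    rw [hlam] at h1
    simp only [map_one, Units.val_one] at h1
    exact h1
  set m := N.index with hm
  obtain ⟨j, hj⟩ := hodd
  set μ : H →* ℂˣ := lam ^ (j + 1) with hμ
  have hμN : ∀ n ∈ N, μ n = 1 := by
    intro n hn
    rw [hμ, MonoidHom.pow_apply, hlamN n hn, one_pow]
  have hμ2 : ∀ g : H, μ g * μ g = lam g := by
    intro g
    rw [hμ, MonoidHom.pow_apply, ← pow_add]
    have h1 : j + 1 + (j + 1) = N.index + 1 := by omega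
    rw [h1, pow_succ, hom_pow_index N lam hlamN g, one_mul]
  refine ⟨fun g => ((μ g : ℂˣ) : ℂ) * χ₁ g, isIrrCharacter_hom_mul μ hχ₁, ?_, ?_⟩
  · intro n
    show ((μ (n : H) : ℂˣ) : ℂ) * χ₁ n = θ n
    rw [hμN n n.2, Units.val_one, one_mul, hext n]
  · funext g
    rw [powFn_apply]
    have h1 : χ₁ (g ^ k) = ((lam g : ℂˣ) : ℂ) * χ₁ g := by
      have := congrFun hβψ g
      rw [powFn_apply, Pi.mul_apply, hlam] at this
      exact this
    rw [h1, hG.hom_pow N ⟨j, hj⟩ μ hμN g, ← hμ2 g]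
    rw [Units.val_mul, ← mul_assoc, ← mul_assoc, ← Units.val_mul, inv_mul_cancel, Units.val_one,
      one_mul]

/-- A fixed extension is the only fixed irreducible character over `θ`. -/
theorem fixed_unique (hG : GalInv H k e) (hodd : Odd N.index) {θ : N → ℂ}
    (hθ : IsIrrCharacter N θ)
    (hinv : ∀ (g : H) (n : N), θ ⟨g * n * g⁻¹, hN.conj_mem (n : H) n.2 g⟩ = θ n)
    {η : H → ℂ} (hη : IsIrrCharacter H η) (hηθ : ∀ n : N, η n = θ n) (hηk : powFn k η = η)
    {ψ : H → ℂ} (hψ : IsIrrCharacter H ψ) (hover : classInner (fun n : N => ψ n) θ ≠ 0)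
    (hψk : powFn k ψ = ψ) : ψ = η := by
  obtain ⟨-, hinj, hsurj⟩ := gallagher_abs N hθ hinv hη hηθ
  obtain ⟨β, hβ, hβN, hβψ⟩ := hsurj ψ hψ hover
  have hβk : IsIrrCharacter H (powFn k β) := isIrrCharacter_powFn hG.hk hβ
  have hβkN : ∀ n ∈ N, powFn k β n = powFn k β 1 := by
    intro n hn
    rw [powFn_apply, powFn_apply, one_pow]
    exact hβN _ (N.pow_mem hn k)
  have heq : powFn k β * η = β * η := by
    have h1 : powFn k ψ = powFn k β * powFn k η := by
      rw [hβψ]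
      rfl
    rw [hηk, hψk, hβψ] at h1
    exact h1.symm
  have hfix : powFn k β = β := hinj _ _ hβk hβkN hβ hβN heq
  obtain ⟨ψ', hψ', hψ'β⟩ := exists_deflation N hβ hβN
  have hcard : Odd (Nat.card (H ⧸ N)) := by
    rw [← Subgroup.index_eq_card]
    exact hodd
  haveI : Fintype (H ⧸ N) := Fintype.ofFinite _
  have hreal : ∀ q : H ⧸ N, (ψ' q).im = 0 := by
    intro q
    obtain ⟨g, rfl⟩ := QuotientGroup.mk_surjective q
    have h1 : conj (ψ' (g : H ⧸ N)) = ψ' (g : H ⧸ N) := by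
      rw [← isCharacter_inv (isCharacter_of_irr hψ') (g : H ⧸ N)]
      have h2 : ((g : H ⧸ N))⁻¹ = ((g ^ k : H) : H ⧸ N) := by
        have h3 := hG.pow_succ_mem N hodd g
        rw [← QuotientGroup.eq_one_iff, pow_succ, QuotientGroup.mk_mul] at h3
        exact (eq_inv_of_mul_eq_one_left h3).symm
      rw [h2, hψ'β, hψ'β]
      exact congrFun hfix g
    exact Complex.conj_eq_iff_im.1 h1
  have hone := Cfsg.Agent.S0161.result hcard ⟨ψ', hψ'⟩ hreal
  rw [hβψ]
  funext g
  rw [Pi.mul_apply, ← hψ'β g]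
  have := congrFun hone (g : H ⧸ N)
  simp only at this
  rw [this, one_mul]

end Cfsg.Agent.Lib.Helper8.GF
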