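import Mathlib
import Cfsg.Agent.Lib.Helper8.GF3
import Cfsg.Agent.S0886
import Cfsg.Agent.S0193

set_option autoImplicit false
set_option linter.unusedSectionVars false
set_option linter.unusedVariables false

/-! Transport to an intermediate subgroup, and extension over a quotient of prime power order. -/

namespace Cfsg.Agent.Lib.Helper8.GF

open Cfsg Cfsg.Agent.Lib.Helper1 Cfsg.Agent.Lib.Helper4 Cfsg.Agent.Lib.Helper8
open scoped ComplexConjugate

universe u

section Transport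

variable {H : Type u} [Group H] {N P : Subgroup H} (hNP : N ≤ P)

/-- The character `θ` of `N`, viewed on `N` as a subgroup of `P`. -/
def tr (θ : N → ℂ) : N.subgroupOf P → ℂ := fun x => θ (Subgroup.subgroupOfEquivOfLe hNP x)

theorem tr_apply (θ : N → ℂ) (x : N.subgroupOf P) :
    tr hNP θ x = θ ⟨((x : P) : H), Subgroup.mem_subgroupOf.1 x.2⟩ := rfl

theorem tr_irr {θ : N → ℂ} (hθ : IsIrrCharacter N θ) : IsIrrCharacter (N.subgroupOf P) (tr hNP θ) :=
  isIrrCharacter_comp_mulEquiv hθ (Subgroup.subgroupOfEquivOfLe hNP)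

theorem tr_powFn (k : ℕ) (θ : N → ℂ) : powFn k (tr hNP θ) = tr hNP (powFn k θ) := by
  funext x
  show θ (Subgroup.subgroupOfEquivOfLe hNP (x ^ k)) = θ ((Subgroup.subgroupOfEquivOfLe hNP x) ^ k)
  rw [map_pow]

theorem tr_inv [hN : N.Normal] {θ : N → ℂ}
    (hinv : ∀ (g : H) (n : N), θ ⟨g * n * g⁻¹, hN.conj_mem (n : H) n.2 g⟩ = θ n)
    (g : P) (x : N.subgroupOf P) :
    tr hNP θ ⟨g * x * g⁻¹, (inferInstance : (N.subgroupOf P).Normal).conj_mem (x : P) x.2 g⟩
      = tr hNP θ x := by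
  rw [tr_apply, tr_apply]
  exact hinv (g : H) ⟨((x : P) : H), Subgroup.mem_subgroupOf.1 x.2⟩

theorem index_subgroupOf : (N.subgroupOf P).index = N.relIndex P := rfl

end Transport

/-- A non-trivial finite `q`-group quotient contains a central (hence normal) subgroup of
order `q`; its preimage. -/
theorem exists_normal_step {H : Type u} [Group H] [Finite H] (N : Subgroup H) [hN : N.Normal]
    (q a : ℕ) (hq : q.Prime) (hidx : N.index = q ^ (a + 1)) :
    ∃ P₁ : Subgroup H, P₁.Normal ∧ N ≤ P₁ ∧ P₁.index = q ^ a ∧ N.relIndex P₁ = q := by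
  classical
  haveI : Fact q.Prime := ⟨hq⟩
  have hcard : Nat.card (H ⧸ N) = q ^ (a + 1) := by
    rw [← Subgroup.index_eq_card, hidx]
  have hP : IsPGroup q (H ⧸ N) := IsPGroup.of_card hcard
  haveI : Nontrivial (H ⧸ N) := by
    rw [← Finite.one_lt_card_iff_nontrivial, hcard]
    exact Nat.one_lt_pow (by omega) hq.one_lt
  haveI := hP.center_nontrivial
  have hcP : IsPGroup q (Subgroup.center (H ⧸ N)) := hP.to_subgroup _
  obtain ⟨j, hj⟩ := hcP.exists_card_eq
  have hj0 : j ≠ 0 := by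
    intro h0
    rw [h0, pow_zero] at hj
    have := (Finite.one_lt_card_iff_nontrivial (α := Subgroup.center (H ⧸ N))).2 inferInstance
    omega
  have hdvd : q ∣ Nat.card (Subgroup.center (H ⧸ N)) := by
    rw [hj]
    exact dvd_pow_self q hj0
  obtain ⟨z, hz⟩ := exists_prime_orderOf_dvd_card' q hdvd
  set K : Subgroup (H ⧸ N) := Subgroup.zpowers (z : H ⧸ N) with hK
  have hKc : K ≤ Subgroup.center (H ⧸ N) := by
    rw [hK, Subgroup.zpowers_le]
    exact z.2
  haveI hKn : K.Normal := by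
    constructor
    intro x hx g
    have hxc := hKc hx
    rw [Subgroup.mem_center_iff] at hxc
    rw [hxc g, mul_inv_cancel_right]
    exact hx
  have hKcard : Nat.card K = q := by
    rw [hK, Nat.card_zpowers, Subgroup.orderOf_coe, hz]
  set P₁ : Subgroup H := K.comap (QuotientGroup.mk' N) with hP₁
  have hP₁n : P₁.Normal := hKn.comap _
  have hNP₁ : N ≤ P₁ := by
    intro n hn
    rw [hP₁, Subgroup.mem_comap, QuotientGroup.mk'_apply, (QuotientGroup.eq_one_iff n).2 hn]
    exact K.one_mem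
  have hidx₁ : P₁.index = q ^ a := by
    rw [hP₁, Subgroup.index_comap_of_surjective K (QuotientGroup.mk'_surjective N)]
    have h1 := Subgroup.card_mul_index K
    rw [hKcard, hcard, pow_succ'] at h1
    exact Nat.eq_of_mul_eq_mul_left hq.pos h1
  refine ⟨P₁, hP₁n, hNP₁, hidx₁, ?_⟩
  have h2 := Subgroup.relIndex_mul_index hNP₁
  rw [hidx₁, hidx, pow_succ'] at h2
  exact Nat.eq_of_mul_eq_mul_right (pow_pos hq.pos a) h2

/-- Extension over a quotient of prime power order. -/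
theorem exists_extension_of_prime_power {k e : ℕ} (q : ℕ) (hq : q.Prime) {H : Type u} [Group H]
    [Fintype H] (hG : GalInv H k e) : ∀ (a : ℕ) (N : Subgroup H) [hN : N.Normal] [Fintype N],
    N.index = q ^ a → Odd N.index → ∀ θ : N → ℂ, IsIrrCharacter N θ →
    (∀ (g : H) (n : N), θ ⟨g * n * g⁻¹, hN.conj_mem (n : H) n.2 g⟩ = θ n) → powFn k θ = θ →
    ∃ χ : H → ℂ, IsIrrCharacter H χ ∧ ∀ n : N, χ n = θ n := by
  classical
  intro a
  induction a with
  | zero =>
    intro N hN _ hidx hodd θ hθ hinv hθk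
    have hcyc : IsCyclic (H ⧸ N) := by
      have hcard : Nat.card (H ⧸ N) = 1 := by
        rw [← Subgroup.index_eq_card, hidx, pow_zero]
      haveI : Subsingleton (H ⧸ N) := (Nat.card_eq_one_iff_unique.1 hcard).1
      infer_instance
    exact Cfsg.Agent.S0886.result N hcyc θ hθ hinv
  | succ a ih =>
    intro N hN _ hidx hodd θ hθ hinv hθk
    obtain ⟨P₁, hP₁n, hNP₁, hidx₁, hrel⟩ := exists_normal_step N q a hq hidx
    haveI := hP₁n
    haveI : Fintype P₁ := Fintype.ofFinite _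
    haveI : Fintype (N.subgroupOf P₁) := Fintype.ofFinite _
    have hqodd : Odd q := by
      rw [hidx] at hodd
      exact Nat.Odd.of_mul_right (by rw [← pow_succ]; exact hodd)
    -- the step N ≤ P₁
    have hN'idx : (N.subgroupOf P₁).index = q := hrel
    have hcyc : IsCyclic (P₁ ⧸ N.subgroupOf P₁) := by
      haveI : Fact q.Prime := ⟨hq⟩
      apply isCyclic_of_prime_card (p := q)
      rw [← Subgroup.index_eq_card, hN'idx]
    have hθ' := tr_irr hNP₁ hθ
    have hinv' := tr_inv hNP₁ hinv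
    have hθ'k : powFn k (tr hNP₁ θ) = tr hNP₁ θ := by rw [tr_powFn, hθk]
    obtain ⟨χ', hχ', hχ'N⟩ := Cfsg.Agent.S0886.result (N.subgroupOf P₁) hcyc (tr hNP₁ θ) hθ' hinv'
    have hG₁ : GalInv P₁ k e := hG.subgroup P₁
    have hodd' : Odd (N.subgroupOf P₁).index := by rw [hN'idx]; exact hqodd
    obtain ⟨η₁, hη₁, hη₁N, hη₁k⟩ := exists_fixed_extension (N.subgroupOf P₁) hG₁ hodd' hθ' hinv'
      hθ'k hχ' hχ'N
    -- η₁ is invariant in H
    have hη₁inv : ∀ (g : H) (x : P₁), η₁ ⟨g * x * g⁻¹, hP₁n.conj_mem (x : H) x.2 g⟩ = η₁ x := by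
      intro g x
      have hirr : IsIrrCharacter P₁ (Cfsg.Agent.S0193.conjFun P₁ η₁ g) :=
        Cfsg.Agent.S0193.conjFun_irr P₁ η₁ hη₁ g
      have hfix : powFn k (Cfsg.Agent.S0193.conjFun P₁ η₁ g) = Cfsg.Agent.S0193.conjFun P₁ η₁ g := by
        rw [← conjFun_powFn, hη₁k]
      have hres : ∀ y : N.subgroupOf P₁, Cfsg.Agent.S0193.conjFun P₁ η₁ g y = tr hNP₁ θ y := by
        intro y
        have hyN : ((y : P₁) : H) ∈ N := Subgroup.mem_subgroupOf.1 y.2
        have hmem : (⟨g * ((y : P₁) : H) * g⁻¹, hP₁n.conj_mem _ (y : P₁).2 g⟩ : P₁)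
            ∈ N.subgroupOf P₁ := by
          rw [Subgroup.mem_subgroupOf]
          exact hN.conj_mem _ hyN g
        show η₁ ⟨g * ((y : P₁) : H) * g⁻¹, _⟩ = _
        have h1 := hη₁N ⟨_, hmem⟩
        rw [h1, tr_apply, tr_apply]
        exact hinv g ⟨((y : P₁) : H), hyN⟩
      have hover : classInner (fun y : N.subgroupOf P₁ => Cfsg.Agent.S0193.conjFun P₁ η₁ g y)
          (tr hNP₁ θ) ≠ 0 := by
        rw [funext hres, classInner_irr_self hθ']
        exact one_ne_zero
      have := fixed_unique (N.subgroupOf P₁) hG₁ hodd' hθ' hinv' hη₁ hη₁N hη₁k hirr hover hfix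
      exact congrFun this x
    have hodd₁ : Odd P₁.index := by rw [hidx₁]; exact hqodd.pow
    obtain ⟨χ, hχ, hχP⟩ := ih P₁ hidx₁ hodd₁ η₁ hη₁ hη₁inv hη₁k
    refine ⟨χ, hχ, ?_⟩
    intro n
    have h1 := hχP ⟨n, hNP₁ n.2⟩
    have h2 := hη₁N ⟨⟨n, hNP₁ n.2⟩, Subgroup.mem_subgroupOf.2 n.2⟩
    rw [tr_apply] at h2
    show χ (n : H) = θ n
    rw [show χ (n : H) = χ ((⟨n, hNP₁ n.2⟩ : P₁) : H) from rfl, h1, h2]

end Cfsg.Agent.Lib.Helper8.GF
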