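import Mathlib
import Cfsg.Agent.Lib.Helper8.GF4
import Cfsg.Agent.S0888

set_option autoImplicit false
set_option linter.unusedSectionVars false
set_option linter.unusedVariables false

/-! The invariant case: a unique fixed irreducible character over `θ`, and it extends `θ`. -/

namespace Cfsg.Agent.Lib.Helper8.GF

open Cfsg Cfsg.Agent.Lib.Helper1 Cfsg.Agent.Lib.Helper4 Cfsg.Agent.Lib.Helper8
open scoped ComplexConjugate

universe u

variable {H : Type u} [Group H] [Fintype H] {k e : ℕ} (N : Subgroup H) [hN : N.Normal] [Fintype N]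

/-- An invariant fixed character of a normal subgroup of odd index extends. -/
theorem exists_extension_of_odd (hG : GalInv H k e) (hodd : Odd N.index) {θ : N → ℂ}
    (hθ : IsIrrCharacter N θ)
    (hinv : ∀ (g : H) (n : N), θ ⟨g * n * g⁻¹, hN.conj_mem (n : H) n.2 g⟩ = θ n)
    (hθk : powFn k θ = θ) : ∃ χ : H → ℂ, IsIrrCharacter H χ ∧ ∀ n : N, χ n = θ n := by
  classical
  apply Cfsg.Agent.S0888.result N θ hθ hinv
  intro p hp
  haveI : Fact p.Prime := ⟨hp⟩
  obtain ⟨S⟩ : Nonempty (Sylow p (H ⧸ N)) := inferInstance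
  set P : Subgroup H := (S : Subgroup (H ⧸ N)).comap (QuotientGroup.mk' N) with hP
  have hNP : N ≤ P := by
    intro n hn
    rw [hP, Subgroup.mem_comap, QuotientGroup.mk'_apply, (QuotientGroup.eq_one_iff n).2 hn]
    exact Subgroup.one_mem _
  have hPidx : P.index = (S : Subgroup (H ⧸ N)).index := by
    rw [hP, Subgroup.index_comap_of_surjective _ (QuotientGroup.mk'_surjective N)]
  have hcop : Nat.Coprime P.index p := by
    rw [hPidx, Nat.coprime_comm, Nat.Prime.coprime_iff_not_dvd hp]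
    exact S.not_dvd_index
  obtain ⟨j, hj⟩ := (S.isPGroup').exists_card_eq
  have hrel : N.relIndex P = p ^ j := by
    have h1 := Subgroup.relIndex_mul_index hNP
    have h2 := Subgroup.card_mul_index (S : Subgroup (H ⧸ N))
    rw [← Subgroup.index_eq_card N, ← hPidx] at h2
    have h3 : N.relIndex P * P.index = Nat.card (S : Subgroup (H ⧸ N)) * P.index := by
      rw [h1, h2]
    have h4 := Nat.eq_of_mul_eq_mul_right
      (Nat.pos_of_ne_zero (Subgroup.index_ne_zero_of_finite (H := P))) h3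
    rw [h4, hj]
  haveI : Fintype P := Fintype.ofFinite _
  haveI : Fintype (N.subgroupOf P) := Fintype.ofFinite _
  have hodd' : Odd (N.subgroupOf P).index := by
    have h1 := Subgroup.relIndex_mul_index hNP
    have h2 : (N.subgroupOf P).index = N.relIndex P := rfl
    rw [h2]
    rw [← h1] at hodd
    exact Nat.Odd.of_mul_left hodd
  obtain ⟨χ, hχ, hχN⟩ := exists_extension_of_prime_power p hp (hG.subgroup P) j
    (N.subgroupOf P) hrel hodd' (tr hNP θ) (tr_irr hNP hθ) (tr_inv hNP hinv)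
    (by rw [tr_powFn, hθk])
  refine ⟨P, hNP, χ, hcop, ⟨j, hrel⟩, hχ, ?_⟩
  intro n
  have h2 := hχN ⟨⟨n, hNP n.2⟩, Subgroup.mem_subgroupOf.2 n.2⟩
  rw [tr_apply] at h2
  exact h2

/-- The invariant case. -/
theorem exists_unique_fixed_of_invariant (hG : GalInv H k e) (hodd : Odd N.index) {θ : N → ℂ}
    (hθ : IsIrrCharacter N θ)
    (hinv : ∀ (g : H) (n : N), θ ⟨g * n * g⁻¹, hN.conj_mem (n : H) n.2 g⟩ = θ n)
    (hθk : powFn k θ = θ) :
    ∃ η : H → ℂ, IsIrrCharacter H η ∧ (∀ n : N, η n = θ n) ∧ powFn k η = η ∧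
      ∀ ψ : H → ℂ, IsIrrCharacter H ψ → classInner (fun n : N => ψ n) θ ≠ 0 → powFn k ψ = ψ →
        ψ = η := by
  obtain ⟨χ₁, hχ₁, hχ₁N⟩ := exists_extension_of_odd N hG hodd hθ hinv hθk
  obtain ⟨η, hη, hηN, hηk⟩ := exists_fixed_extension N hG hodd hθ hinv hθk hχ₁ hχ₁N
  refine ⟨η, hη, hηN, hηk, ?_⟩
  intro ψ hψ hover hψk
  exact fixed_unique N hG hodd hθ hinv hη hηN hηk hψ hover hψk

end Cfsg.Agent.Lib.Helper8.GF
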