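import Mathlib
import Cfsg.Agent.Lib.Helper8.GF5
import Cfsg.Agent.Lib.Helper8.GS1
import Cfsg.Agent.Lib.Helper4.CliffordInd
import Cfsg.Agent.Lib.Helper1.CliffordCorr

set_option autoImplicit false
set_option linter.unusedSectionVars false
set_option linter.unusedVariables false

/-! The general case, by the Clifford correspondence. -/

namespace Cfsg.Agent.Lib.Helper8.GF

open Cfsg Cfsg.Agent.Lib.Helper1 Cfsg.Agent.Lib.Helper4 Cfsg.Agent.Lib.Helper8
open scoped ComplexConjugate

universe u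

variable {G : Type u} [Group G] [Fintype G]

/-- Induction commutes with a power map coprime to the group order. -/
theorem powFn_indFun {k : ℕ} (hk : k.Coprime (Nat.card G)) (T : Subgroup G) (ψ : T → ℂ) :
    powFn k (Cfsg.indFun T ψ) = Cfsg.indFun T (powFn k ψ) := by
  obtain ⟨l, -, hl, -⟩ := exists_pow_inverse (G := G) hk
  funext g
  rw [powFn_apply]
  unfold Cfsg.indFun
  congr 1
  apply Finset.sum_congr rfl
  intro x _
  have h1 : x⁻¹ * g ^ k * x = (x⁻¹ * g * x) ^ k := by
    have := conj_pow (a := x⁻¹) (b := g) (i := k)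
    simpa using this.symm
  rw [h1]
  set y := x⁻¹ * g * x with hy
  by_cases hyT : y ∈ T
  · rw [extendByZero_of_mem T ψ (T.pow_mem hyT k), extendByZero_of_mem T (powFn k ψ) hyT,
      powFn_apply]
    rfl
  · have hykT : y ^ k ∉ T := by
      intro h
      apply hyT
      rw [← hl y]
      exact T.pow_mem h l
    rw [extendByZero_of_notMem T ψ hykT, extendByZero_of_notMem T (powFn k ψ) hyT]

variable (N : Subgroup G) [hN : N.Normal] [Fintype N]

/-- The induced character from the inertia group of an extension of `θ` lies over `θ`. -/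
theorem indFun_over {θ : N → ℂ} (hθ : IsIrrCharacter N θ) (T : Subgroup G) [Fintype T]
    (hT : T = inertia N θ) (hNT : N ≤ T) {ψ : T → ℂ} (hψN : ∀ n : N, ψ ⟨n, hNT n.2⟩ = θ n) :
    classInner (fun n : N => Cfsg.indFun T ψ n) θ = 1 := by
  classical
  have hval : ∀ n : N, Cfsg.indFun T ψ n
      = (Nat.card T : ℂ)⁻¹ * ∑ x : G, Cfsg.Agent.S0193.conjFun N θ x⁻¹ n := by
    intro n
    unfold Cfsg.indFun
    congr 1
    apply Finset.sum_congr rfl
    intro x _
    have hmem : x⁻¹ * (n : G) * x ∈ N := by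
      have := hN.conj_mem n n.2 x⁻¹
      simpa using this
    rw [extendByZero_of_mem T ψ (hNT hmem)]
    have := hψN ⟨_, hmem⟩
    rw [this]
    show θ _ = θ _
    congr 1
    apply Subtype.ext
    simp
  have hfun : (fun n : N => Cfsg.indFun T ψ n)
      = (Nat.card T : ℂ)⁻¹ • ∑ x : G, Cfsg.Agent.S0193.conjFun N θ x⁻¹ := by
    funext n
    rw [hval n, Pi.smul_apply, Finset.sum_apply, smul_eq_mul]
  rw [hfun, classInner_smul_left, classInner_sum_left]
  have hterm : ∀ x : G, classInner (Cfsg.Agent.S0193.conjFun N θ x⁻¹) θ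
      = if x⁻¹ ∈ T then 1 else 0 := by
    intro x
    by_cases hx : x⁻¹ ∈ T
    · rw [if_pos hx]
      have h1 : Cfsg.Agent.S0193.conjFun N θ x⁻¹ = θ := by
        rw [hT] at hx
        exact hx
      rw [h1, classInner_irr_self hθ]
    · rw [if_neg hx]
      apply classInner_irr_ne (Cfsg.Agent.S0193.conjFun_irr N θ hθ x⁻¹) hθ
      intro h
      apply hx
      rw [hT]
      exact h
  rw [Finset.sum_congr rfl (fun x _ => hterm x), Finset.sum_ite, Finset.sum_const_zero, add_zero,
    Finset.sum_const, nsmul_eq_mul, mul_one]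
  have hcard : (Finset.univ.filter (fun x : G => x⁻¹ ∈ T)).card = Nat.card T := by
    have h1 : (Finset.univ.filter (fun x : G => x⁻¹ ∈ T)) = Finset.univ.filter (fun x : G => x ∈ T) := by
      apply Finset.filter_congr
      intro x _
      exact T.inv_mem_iff
    rw [h1, Nat.card_eq_fintype_card, Fintype.card_subtype]
  rw [hcard]
  have hT0 : (Nat.card T : ℂ) ≠ 0 := Nat.cast_ne_zero.2 Nat.card_pos.ne'
  exact inv_mul_cancel₀ hT0

/-- The general case: a unique fixed irreducible character over a fixed character of a normal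
subgroup of odd index. -/
theorem exists_unique_fixed {k e : ℕ} (hG : GalInv G k e) (hodd : Odd N.index) {θ : N → ℂ}
    (hθ : IsIrrCharacter N θ) (hθk : powFn k θ = θ) :
    ∃ χ : G → ℂ, IsIrrCharacter G χ ∧ classInner (fun n : N => χ n) θ ≠ 0 ∧ powFn k χ = χ ∧
      ∀ χ' : G → ℂ, IsIrrCharacter G χ' → classInner (fun n : N => χ' n) θ ≠ 0 →
        powFn k χ' = χ' → χ' = χ := by
  classical
  set T : Subgroup G := inertia N θ with hT
  have hNT : N ≤ T := le_inertia N (isClassFunction_irr hθ)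
  haveI : Fintype T := Fintype.ofFinite _
  haveI : Fintype (N.subgroupOf T) := Fintype.ofFinite _
  have hθ' := tr_irr hNT hθ
  have hinvT : ∀ (t : T) (x : N.subgroupOf T),
      tr hNT θ ⟨t * x * t⁻¹, (inferInstance : (N.subgroupOf T).Normal).conj_mem (x : T) x.2 t⟩
        = tr hNT θ x := fun t x => inertia_fix N θ T hT t x
  have hoddT : Odd (N.subgroupOf T).index := by
    have h1 : (N.subgroupOf T).index ∣ N.index := Subgroup.relIndex_dvd_index_of_normal N T
    exact Odd.of_dvd_nat hodd h1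
  have hGT : GalInv T k e := hG.subgroup T
  have hθ'k : powFn k (tr hNT θ) = tr hNT θ := by rw [tr_powFn, hθk]
  obtain ⟨ψ₀, hψ₀, hψ₀N, hψ₀k, huniq⟩ := exists_unique_fixed_of_invariant (N.subgroupOf T) hGT
    hoddT hθ' hinvT hθ'k
  have hcl := clifford_induction N θ hθ T hT hNT
  have hover₀ : classInner (fun x : N.subgroupOf T => ψ₀ x) (tr hNT θ) ≠ 0 := by
    rw [funext hψ₀N, classInner_irr_self hθ']
    exact one_ne_zero
  have hcon₀ : classInner (Cfsg.indFun (N.subgroupOf T) (tr hNT θ)) ψ₀ ≠ 0 :=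
    (over_iff (N.subgroupOf T) _ hψ₀).2 hover₀
  have hχ : IsIrrCharacter G (Cfsg.indFun T ψ₀) := hcl.1 ψ₀ hψ₀ hcon₀
  have hψ₀N' : ∀ n : N, ψ₀ ⟨n, hNT n.2⟩ = θ n := by
    intro n
    have := hψ₀N ⟨⟨n, hNT n.2⟩, Subgroup.mem_subgroupOf.2 n.2⟩
    rw [tr_apply] at this
    exact this
  refine ⟨Cfsg.indFun T ψ₀, hχ, ?_, ?_, ?_⟩
  · rw [indFun_over N hθ T hT hNT hψ₀N']
    exact one_ne_zero
  · rw [powFn_indFun hG.hk, hψ₀k]
  · intro χ' hχ' hover' hχ'k
    obtain ⟨ψ', hψ', hχ'eq, c, hc⟩ := clifford_correspondence N θ hθ χ' hχ' hover' T hT hNT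
    have hc0 : c ≠ 0 := by
      intro h0
      have h1 := hc 1
      rw [h0, zero_mul] at h1
      exact irr_apply_one_ne_zero hψ' h1
    have hresψ' : (fun x : N.subgroupOf T => ψ' x) = c • tr hNT θ := by
      funext x
      rw [Pi.smul_apply, smul_eq_mul, tr_apply]
      exact hc ⟨((x : T) : G), Subgroup.mem_subgroupOf.1 x.2⟩
    have hoverψ' : classInner (fun x : N.subgroupOf T => ψ' x) (tr hNT θ) ≠ 0 := by
      rw [hresψ', classInner_smul_left, classInner_irr_self hθ', mul_one]
      exact hc0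
    have hψ'' : IsIrrCharacter T (powFn k ψ') := isIrrCharacter_powFn hGT.hk hψ'
    have hresψ'' : (fun x : N.subgroupOf T => powFn k ψ' x) = c • tr hNT θ := by
      funext x
      rw [Pi.smul_apply, smul_eq_mul, powFn_apply]
      have h1 : ((x : T) ^ k) = ((x ^ k : N.subgroupOf T) : T) := by rw [Subgroup.coe_pow]
      rw [h1]
      have h2 := congrFun hresψ' (x ^ k)
      rw [h2, Pi.smul_apply, smul_eq_mul]
      congr 1
      exact congrFun hθ'k x
    have hoverψ'' : classInner (fun x : N.subgroupOf T => powFn k ψ' x) (tr hNT θ) ≠ 0 := by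
      rw [hresψ'', classInner_smul_left, classInner_irr_self hθ', mul_one]
      exact hc0
    have hfix : powFn k ψ' = ψ' := by
      by_contra hne
      have h0 := hcl.2 (powFn k ψ') ψ' hψ'' hψ' ((over_iff (N.subgroupOf T) _ hψ'').2 hoverψ'')
        ((over_iff (N.subgroupOf T) _ hψ').2 hoverψ') hne
      rw [← powFn_indFun hG.hk, ← hχ'eq, hχ'k, classInner_irr_self hχ'] at h0
      exact one_ne_zero h0
    have := huniq ψ' hψ' hoverψ' hfix
    rw [hχ'eq, this]

end Cfsg.Agent.Lib.Helper8.GF
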