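import Mathlib
import Cfsg.Agent.Lib.Lead.CoprimeAction

/-!
# Coprime fixed-point-free action of an arbitrary finite group `A`: the internal setting

`A` stays an abstract group with a homomorphism `ι : A →* Γ` into the ambient group; `G ⊴ Γ` is
solvable of order prime to `|A|`, `Γ = G · ι(A)` and `C_G(ι A) = 1`.  The setting passes to quotients
and to subgroups containing `ι(A)`.
-/

set_option autoImplicit false
set_option linter.unusedSectionVars false
set_option linter.unusedVariables false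

namespace Cfsg.Agent.Lib.Helper8.GFpf

universe u w z

section defs

variable {A : Type z} [Group A] {Γ : Type w} [Group Γ]

/-- the internal setting for a coprime fixed-point-free action of `A` (through `ι`) on `G`. -/
structure GSetting (G : Subgroup Γ) (ι : A →* Γ) : Prop where
  hGn : G.Normal
  hsolv : Group.IsSolvable G
  hcop : (Nat.card A).Coprime (Nat.card G)
  hinj : Function.Injective ι
  hfpf : ∀ g ∈ G, (∀ a : A, ι a * g = g * ι a) → g = 1
  hgen : ∀ x : Γ, ∃ g ∈ G, ∃ a : A, x = g * ι a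

/-- the critical configuration: `T = H · ι(A)` acts on the `𝔽_ℓ`-module `V`, faithfully for `H`,
irreducibly, and `ι(A)` has no non-zero fixed vector. -/
structure GCrit (V : Type u) [AddCommGroup V] {T : Type w} [Group T] [DistribMulAction T V]
    (ℓ : ℕ) (H : Subgroup T) (ι : A →* T) : Prop where
  hℓ : ℓ.Prime
  hℓA : ¬ ℓ ∣ Nat.card A
  hVℓ : ∀ v : V, ℓ • v = 0
  hV : ∃ v : V, v ≠ 0
  hS : GSetting H ι
  hfaith : ∀ x ∈ H, (∀ v : V, x • v = v) → x = 1
  hfpfV : ∀ v : V, (∀ a : A, ι a • v = v) → v = 0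
  hirr : ∀ W : AddSubgroup V, (∀ x : T, ∀ w ∈ W, x • w ∈ W) → W = ⊥ ∨ W = ⊤

end defs

section basic

variable {A : Type z} [Group A] {Γ : Type w} [Group Γ] [Finite Γ] {G : Subgroup Γ} {ι : A →* Γ}

theorem GSetting.card_range (h : GSetting G ι) : Nat.card ι.range = Nat.card A :=
  (Nat.card_congr (MonoidHom.ofInjective h.hinj).toEquiv).symm

theorem GSetting.coprime_range (h : GSetting G ι) :
    (Nat.card ι.range).Coprime (Nat.card G) := by
  rw [h.card_range]
  exact h.hcop

theorem GSetting.range_inf_eq_bot (h : GSetting G ι) : ι.range ⊓ G = ⊥ := by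
  have h1 : Nat.card (ι.range ⊓ G : Subgroup Γ) ∣ Nat.card ι.range :=
    Subgroup.card_dvd_of_le inf_le_left
  have h2 : Nat.card (ι.range ⊓ G : Subgroup Γ) ∣ Nat.card G :=
    Subgroup.card_dvd_of_le inf_le_right
  exact Subgroup.card_eq_one.1 (Nat.eq_one_of_dvd_coprimes h.coprime_range h1 h2)

theorem GSetting.finite (h : GSetting G ι) : Finite A :=
  Finite.of_injective ι h.hinj

/-- an element of `G` commuting with `ι(A)` modulo a normal subgroup `N ≤ G` lies in `N`. -/
theorem GSetting.mem_of_comm_mod (h : GSetting G ι) (N : Subgroup Γ) [hN : N.Normal]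
    (hNG : N ≤ G) {g : Γ} (hg : g ∈ G) (hfix : ∀ a : A, ι a * g * (ι a)⁻¹ * g⁻¹ ∈ N) : g ∈ N := by
  have hGn := h.hGn
  have hfix' : ∀ b ∈ ι.range, b * g * b⁻¹ * g⁻¹ ∈ N := by
    rintro _ ⟨a, rfl⟩
    exact hfix a
  obtain ⟨c, hc, hcN⟩ := Cfsg.Agent.Lib.Lead.coprime_fixed_coset ι.range G
    (by rw [Subgroup.normalizer_eq_top]; exact le_top)
    h.coprime_range (Or.inr h.hsolv) N hNG
    (by rw [Subgroup.normalizer_eq_top]; exact le_top)
    (by rw [Subgroup.normalizer_eq_top]; exact le_top) g hg hfix'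
  have hc1 : c = 1 := by
    apply h.hfpf c hc.1
    intro a
    exact (Subgroup.mem_centralizer_iff.1 hc.2) (ι a) ⟨a, rfl⟩
  rw [hc1, mul_one] at hcN
  simpa using N.inv_mem hcN

/-- **the setting passes to quotients.** -/
theorem GSetting.quot (h : GSetting G ι) (N : Subgroup Γ) [N.Normal] (hNG : N ≤ G) :
    GSetting (G.map (QuotientGroup.mk' N)) ((QuotientGroup.mk' N).comp ι) := by
  have hGn := h.hGn
  have hsolv := h.hsolv
  refine ⟨Subgroup.Normal.map hGn _ (QuotientGroup.mk'_surjective N), ?_, ?_, ?_, ?_, ?_⟩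
  · exact Group.isSolvable_of_surjective (MonoidHom.subgroupMap_surjective (QuotientGroup.mk' N) G)
  · have hdvd : Nat.card (G.map (QuotientGroup.mk' N)) ∣ Nat.card G :=
      Subgroup.card_map_dvd G (QuotientGroup.mk' N)
    exact Nat.Coprime.coprime_dvd_right hdvd h.hcop
  · rw [injective_iff_map_eq_one]
    intro a ha
    rw [MonoidHom.comp_apply, QuotientGroup.mk'_apply, QuotientGroup.eq_one_iff] at ha
    have h1 : ι a ∈ ι.range ⊓ G := ⟨⟨a, rfl⟩, hNG ha⟩
    rw [h.range_inf_eq_bot, Subgroup.mem_bot] at h1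
    exact (injective_iff_map_eq_one ι).1 h.hinj a h1
  · rintro _ ⟨g, hg, rfl⟩ h1
    have key : ∀ a : A, ι a * g * (ι a)⁻¹ * g⁻¹ ∈ N := by
      intro a
      have ha := h1 a
      rw [MonoidHom.comp_apply] at ha
      rw [← QuotientGroup.eq_one_iff, ← QuotientGroup.mk'_apply, map_mul, map_mul, map_mul,
        map_inv, map_inv, ha]
      group
    have := h.mem_of_comm_mod N hNG hg key
    rw [QuotientGroup.mk'_apply, QuotientGroup.eq_one_iff]
    exact this
  · intro x
    obtain ⟨y, rfl⟩ := QuotientGroup.mk'_surjective N x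
    obtain ⟨g, hg, a, rfl⟩ := h.hgen y
    exact ⟨QuotientGroup.mk' N g, Subgroup.mem_map_of_mem _ hg, a, map_mul _ _ _⟩

/-- **the setting passes to subgroups containing `ι(A)`.** -/
theorem GSetting.sub (h : GSetting G ι) (Γ₀ : Subgroup Γ) (hι : ∀ a : A, ι a ∈ Γ₀) :
    GSetting (G.subgroupOf Γ₀) (ι.codRestrict Γ₀ hι) := by
  have hGn := h.hGn
  have hsolv := h.hsolv
  let f : ↥(G.subgroupOf Γ₀) →* ↥G :=
    { toFun := fun x => ⟨((x : Γ₀) : Γ), Subgroup.mem_subgroupOf.1 x.2⟩
      map_one' := rfl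
      map_mul' := fun _ _ => rfl }
  have hf : Function.Injective f := by
    intro x y hxy
    have : ((f x : G) : Γ) = ((f y : G) : Γ) := congrArg Subtype.val hxy
    exact Subtype.ext (Subtype.ext this)
  refine ⟨Subgroup.Normal.subgroupOf hGn Γ₀, ?_, ?_, ?_, ?_, ?_⟩
  · exact Group.isSolvable_of_isSolvable_injective hf
  · exact Nat.Coprime.coprime_dvd_right (Subgroup.card_dvd_of_injective f hf) h.hcop
  · intro a b hab
    apply h.hinj
    exact congrArg Subtype.val hab
  · intro g hg h1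
    have hg' : (g : Γ) ∈ G := Subgroup.mem_subgroupOf.1 hg
    apply Subtype.ext
    apply h.hfpf _ hg'
    intro a
    exact congrArg Subtype.val (h1 a)
  · intro x
    obtain ⟨g, hg, a, hx⟩ := h.hgen (x : Γ)
    have hgΓ : g ∈ Γ₀ := by
      have : g = (x : Γ) * (ι a)⁻¹ := by rw [hx]; group
      rw [this]
      exact Γ₀.mul_mem x.2 (Γ₀.inv_mem (hι a))
    exact ⟨⟨g, hgΓ⟩, Subgroup.mem_subgroupOf.2 hg, a, Subtype.ext hx⟩

end basic

end Cfsg.Agent.Lib.Helper8.GFpf
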