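import Mathlib
import Cfsg.Agent.Lib.Helper8.WardB
import Cfsg.Agent.Lib.Lead.CoprimeAction2
import Cfsg.Agent.S1324

/-!
# Ward's theorem, part C: the critical configuration
-/

set_option autoImplicit false
set_option linter.unusedSectionVars false
set_option linter.unusedVariables false

namespace Cfsg.Agent.Lib.Helper8.Ward

open Cfsg.Agent.Lib.Helper8.SBS
open scoped commutatorElement

universe u w

section grp

variable {T : Type w} [Group T]

theorem map_conj_of_mem_normalizer {H : Subgroup T} {t : T}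
    (ht : t ∈ Subgroup.normalizer (H : Set T)) : H.map (MulAut.conj t).toMonoidHom = H := by
  ext x
  constructor
  · rintro ⟨h, hh, rfl⟩
    exact (Subgroup.mem_normalizer_iff.1 ht h).1 hh
  · intro hx
    refine ⟨t⁻¹ * x * t, ?_, ?_⟩
    · have := (Subgroup.mem_normalizer_iff.1 ht (t⁻¹ * x * t)).2
      apply this
      have e : t * (t⁻¹ * x * t) * t⁻¹ = x := by group
      rw [e]; exact hx
    · show t * (t⁻¹ * x * t) * t⁻¹ = x
      group

theorem le_normalizer_commutator {H1 H2 K : Subgroup T}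
    (h1 : K ≤ Subgroup.normalizer (H1 : Set T)) (h2 : K ≤ Subgroup.normalizer (H2 : Set T)) :
    K ≤ Subgroup.normalizer ((⁅H1, H2⁆ : Subgroup T) : Set T) := by
  intro t ht
  have e : (⁅H1, H2⁆ : Subgroup T).map (MulAut.conj t).toMonoidHom = ⁅H1, H2⁆ := by
    rw [Subgroup.map_commutator, map_conj_of_mem_normalizer (h1 ht),
      map_conj_of_mem_normalizer (h2 ht)]
  have e' : (⁅H1, H2⁆ : Subgroup T).map (MulAut.conj t⁻¹).toMonoidHom = ⁅H1, H2⁆ := by
    rw [Subgroup.map_commutator, map_conj_of_mem_normalizer (Subgroup.inv_mem _ (h1 ht)),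
      map_conj_of_mem_normalizer (Subgroup.inv_mem _ (h2 ht))]
  rw [Subgroup.mem_normalizer_iff]
  intro x
  constructor
  · intro hx
    rw [← e]
    exact ⟨x, hx, rfl⟩
  · intro hx
    have : t⁻¹ * (t * x * t⁻¹) * t⁻¹⁻¹ ∈ (⁅H1, H2⁆ : Subgroup T) := by
      rw [← e']
      exact ⟨t * x * t⁻¹, hx, rfl⟩
    have e2 : t⁻¹ * (t * x * t⁻¹) * t⁻¹⁻¹ = x := by group
    rwa [e2] at this

theorem commutator_le_of_le_normalizer {Q R : Subgroup T}
    (hRQ : R ≤ Subgroup.normalizer (Q : Set T)) : ⁅Q, R⁆ ≤ Q := by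
  rw [Subgroup.commutator_le]
  intro q hq x hx
  rw [commutatorElement_def]
  have h1 : x * q⁻¹ * x⁻¹ ∈ Q := (Subgroup.mem_normalizer_iff.1 (hRQ hx) q⁻¹).1 (Q.inv_mem hq)
  have : q * x * q⁻¹ * x⁻¹ = q * (x * q⁻¹ * x⁻¹) := by group
  rw [this]
  exact Q.mul_mem hq h1

theorem conj_mem_of_le_normalizer {H K : Subgroup T} (h : K ≤ Subgroup.normalizer (H : Set T))
    {t : T} (ht : t ∈ K) {x : T} (hx : x ∈ H) : t * x * t⁻¹ ∈ H :=
  (Subgroup.mem_normalizer_iff.1 (h ht) x).1 hx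

theorem conj_mem_of_le_normalizer' {H K : Subgroup T} (h : K ≤ Subgroup.normalizer (H : Set T))
    {t : T} (ht : t ∈ K) {x : T} (hx : x ∈ H) : t⁻¹ * x * t ∈ H := by
  have := (Subgroup.mem_normalizer_iff.1 (h (K.inv_mem ht)) x).1 hx
  rwa [inv_inv] at this

/-- the derived subgroup of a nontrivial solvable subgroup is proper. -/
theorem commutator_ne_of_solvable (S : Subgroup T) (hS : S ≠ ⊥) (hsolv : Group.IsSolvable S) :
    ⁅S, S⁆ ≠ S := by
  intro heq
  have := hsolv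
  have : Nontrivial S := (Subgroup.nontrivial_iff_ne_bot S).mpr hS
  have h1 := Group.IsSolvable.commutator_lt_top_of_nontrivial (G := S)
  have h2 : (commutator S).map S.subtype = ⁅S, S⁆ := by
    rw [commutator_def, Subgroup.map_commutator, ← MonoidHom.range_eq_map, Subgroup.range_subtype]
  have h3 : (commutator S).map S.subtype = (⊤ : Subgroup S).map S.subtype := by
    rw [h2, heq, ← MonoidHom.range_eq_map, Subgroup.range_subtype]
  have h4 := Subgroup.map_injective S.subtype_injective h3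
  exact (ne_of_lt h1) h4

theorem isSolvable_of_isPGroup [Finite T] {l : ℕ} [Fact l.Prime] {Q : Subgroup T}
    (hQ : IsPGroup l Q) : Group.IsSolvable Q := by
  have := hQ.isNilpotent
  infer_instance

end grp

section cfg

variable (V : Type u) [AddCommGroup V] [Finite V] {T : Type w} [Group T] [Finite T]
  [DistribMulAction T V]

/-- the configuration of Theorem E. -/
structure Cfg (p l r : ℕ) (Q R A : Subgroup T) : Prop where
  hp : p.Prime
  hl : l.Prime
  hr : r.Prime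
  hlr : l ≠ r
  hpl : p ≠ l
  hpr : p ≠ r
  hVl : (Nat.card V).Coprime l
  hAc : ∀ x ∈ A, ∀ y ∈ A, x * y = y * x
  hAp : ∀ x ∈ A, x ^ p = 1
  hAcard : Nat.card A = p ^ 2
  hQ : IsPGroup l Q
  hR : IsPGroup r R
  hRQ : R ≤ Subgroup.normalizer (Q : Set T)
  hAQ : A ≤ Subgroup.normalizer (Q : Set T)
  hAR : A ≤ Subgroup.normalizer (R : Set T)
  hfQ : Q ⊓ Subgroup.centralizer (A : Set T) = ⊥
  hfR : R ⊓ Subgroup.centralizer (A : Set T) = ⊥
  hfaith : ∀ q ∈ Q, (∀ v : V, q • v = v) → q = 1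
  h6a : ∀ b ∈ A, b ≠ 1 → ∀ q ∈ Q, q * b = b * q → ∀ v : V, b • v = v → q • v = v
  h6b : ∀ b ∈ A, b ≠ 1 → ∀ q ∈ Q, q * b = b * q → ∀ x ∈ R, x * b = b * x → q * x = x * q

variable {V}

theorem Cfg.subQ {p l r : ℕ} {Q R A Q1 : Subgroup T} (c : Cfg V p l r Q R A) (hQ1 : Q1 ≤ Q)
    (hR1 : R ≤ Subgroup.normalizer (Q1 : Set T)) (hA1 : A ≤ Subgroup.normalizer (Q1 : Set T)) :
    Cfg V p l r Q1 R A :=
  { c with
    hQ := c.hQ.to_le hQ1
    hRQ := hR1
    hAQ := hA1
    hfQ := by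
      rw [eq_bot_iff, ← c.hfQ]
      exact inf_le_inf_right _ hQ1
    hfaith := fun q hq => c.hfaith q (hQ1 hq)
    h6a := fun b hb hb1 q hq => c.h6a b hb hb1 q (hQ1 hq)
    h6b := fun b hb hb1 q hq => c.h6b b hb hb1 q (hQ1 hq) }

theorem Cfg.subR {p l r : ℕ} {Q R A R1 : Subgroup T} (c : Cfg V p l r Q R A) (hR1 : R1 ≤ R)
    (hA1 : A ≤ Subgroup.normalizer (R1 : Set T)) :
    Cfg V p l r Q R1 A :=
  { c with
    hR := c.hR.to_le hR1
    hRQ := hR1.trans c.hRQ
    hAR := hA1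
    hfR := by
      rw [eq_bot_iff, ← c.hfR]
      exact inf_le_inf_right _ hR1
    h6b := fun b hb hb1 q hq hqb x hx => c.h6b b hb hb1 q hq hqb x (hR1 hx) }

/-- the critical configuration: a minimal pair. -/
structure Crit (p l r : ℕ) (Q R A : Subgroup T) : Prop where
  cfg : Cfg V p l r Q R A
  a1 : ∀ Q1 : Subgroup T, Q1 ≤ Q → Q1 ≠ Q → R ≤ Subgroup.normalizer (Q1 : Set T) →
    A ≤ Subgroup.normalizer (Q1 : Set T) → R ≤ Subgroup.centralizer (Q1 : Set T)
  a2 : ∀ R1 : Subgroup T, R1 ≤ R → R1 ≠ R → A ≤ Subgroup.normalizer (R1 : Set T) →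
    R1 ≤ Subgroup.centralizer (Q : Set T)
  hne : ¬ R ≤ Subgroup.centralizer (Q : Set T)

end cfg


section crit

variable {V : Type u} [AddCommGroup V] [Finite V] {T : Type w} [Group T] [Finite T]
  [DistribMulAction T V] {p l r : ℕ} {Q R A : Subgroup T}

theorem Cfg.card_zpowers (c : Cfg V p l r Q R A) {b : T} (hb : b ∈ A) (hb1 : b ≠ 1) :
    Nat.card (Subgroup.zpowers b) = p := by
  rw [Nat.card_zpowers]
  have h1 : orderOf b ∣ p := orderOf_dvd_of_pow_eq_one (c.hAp b hb)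
  rcases (Nat.dvd_prime c.hp).1 h1 with h2 | h2
  · exact absurd (orderOf_eq_one_iff.1 h2) hb1
  · exact h2

theorem Cfg.sup_zpowers (c : Cfg V p l r Q R A) {b0 b1 : T} (hb0 : b0 ∈ A) (hb01 : b0 ≠ 1)
    (hb1 : b1 ∈ A) (hb1n : b1 ∉ Subgroup.zpowers b0) :
    Subgroup.zpowers b0 ⊔ Subgroup.zpowers b1 = A := by
  apply sup_eq_of_hyp c.hp (Subgroup.zpowers_le.2 hb0)
    (by rw [c.card_zpowers hb0 hb01, c.hAcard, sq]) (Subgroup.zpowers_le.2 hb1)
  intro hle
  exact hb1n (hle (Subgroup.mem_zpowers b1))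

theorem Cfg.coprime_RQ (c : Cfg V p l r Q R A) : (Nat.card R).Coprime (Nat.card Q) := by
  have : Fact l.Prime := ⟨c.hl⟩
  have : Fact r.Prime := ⟨c.hr⟩
  exact IsPGroup.coprime_card_of_ne r l c.hlr.symm R Q c.hR c.hQ

theorem Cfg.not_dvd_card_R (c : Cfg V p l r Q R A) : ¬ p ∣ Nat.card R := by
  have : Fact r.Prime := ⟨c.hr⟩
  obtain ⟨k, hk⟩ := IsPGroup.iff_card.1 c.hR
  rw [hk]
  intro h
  have := (Nat.prime_dvd_prime_iff_eq c.hp c.hr).1 (c.hp.dvd_of_dvd_pow h)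
  exact c.hpr this

theorem Cfg.not_dvd_card_Q (c : Cfg V p l r Q R A) : ¬ p ∣ Nat.card Q := by
  have : Fact l.Prime := ⟨c.hl⟩
  obtain ⟨k, hk⟩ := IsPGroup.iff_card.1 c.hQ
  rw [hk]
  intro h
  have := (Nat.prime_dvd_prime_iff_eq c.hp c.hl).1 (c.hp.dvd_of_dvd_pow h)
  exact c.hpl this

theorem Cfg.elemAb (c : Cfg V p l r Q R A) : Cfsg.IsElementaryAbelian p A :=
  ⟨⟨⟨fun a b => Subtype.ext (c.hAc a a.2 b b.2)⟩⟩, c.hAp⟩

/-- L1: `Q = [Q, R]`. -/
theorem Crit.comm_eq (h : Crit (V := V) p l r Q R A) : ⁅Q, R⁆ = Q := by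
  have c := h.cfg
  have : Fact l.Prime := ⟨c.hl⟩
  by_contra hne
  have hle : ⁅Q, R⁆ ≤ Q := commutator_le_of_le_normalizer c.hRQ
  have hRn : R ≤ Subgroup.normalizer ((⁅Q, R⁆ : Subgroup T) : Set T) :=
    le_normalizer_commutator c.hRQ Subgroup.le_normalizer
  have hAn : A ≤ Subgroup.normalizer ((⁅Q, R⁆ : Subgroup T) : Set T) :=
    le_normalizer_commutator c.hAQ c.hAR
  have h1 := h.a1 _ hle hne hRn hAn
  have h2 : ⁅⁅Q, R⁆, R⁆ = ⊥ := by
    rw [Subgroup.commutator_eq_bot_iff_le_centralizer]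
    rw [Subgroup.le_centralizer_iff]
    exact h1
  have h3 := Cfsg.Agent.Lib.Lead.coprime_commutator_stable R Q c.hRQ c.coprime_RQ
    (Or.inr (isSolvable_of_isPGroup c.hQ))
  rw [h2] at h3
  apply h.hne
  rw [Subgroup.le_centralizer_iff]
  rw [← Subgroup.commutator_eq_bot_iff_le_centralizer]
  exact h3.symm

theorem Crit.Q_ne_bot (h : Crit (V := V) p l r Q R A) : Q ≠ ⊥ := by
  intro hQ
  apply h.hne
  rw [hQ]
  intro x _
  rw [Subgroup.mem_centralizer_iff]
  intro y hy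
  have : y = 1 := hy
  rw [this]; simp

/-- L2: `R` centralises `Q'`. -/
theorem Crit.R_cent_derived (h : Crit (V := V) p l r Q R A) :
    R ≤ Subgroup.centralizer ((⁅Q, Q⁆ : Subgroup T) : Set T) := by
  have c := h.cfg
  have : Fact l.Prime := ⟨c.hl⟩
  have hle : ⁅Q, Q⁆ ≤ Q := commutator_le_of_le_normalizer Subgroup.le_normalizer
  exact h.a1 _ hle (commutator_ne_of_solvable Q h.Q_ne_bot (isSolvable_of_isPGroup c.hQ))
    (le_normalizer_commutator c.hRQ c.hRQ) (le_normalizer_commutator c.hAQ c.hAQ)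

/-- L3: `C_Q(R)` is central in `Q`. -/
theorem Crit.centR_central (h : Crit (V := V) p l r Q R A) {d : T} (hd : d ∈ Q)
    (hdR : ∀ x ∈ R, x * d = d * x) : ∀ q ∈ Q, d * q = q * d := by
  have c := h.cfg
  let C : Subgroup T := Q ⊓ Subgroup.centralizer (R : Set T)
  have hdC : d ∈ C := by
    refine Subgroup.mem_inf.2 ⟨hd, ?_⟩
    rw [Subgroup.mem_centralizer_iff]
    intro x hx
    exact hdR x hx
  have h1 : ⁅⁅Q, C⁆, R⁆ = ⊥ := by
    rw [Subgroup.commutator_eq_bot_iff_le_centralizer]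
    have : ⁅Q, C⁆ ≤ ⁅Q, Q⁆ := Subgroup.commutator_mono le_rfl inf_le_left
    refine this.trans ?_
    rw [Subgroup.le_centralizer_iff]
    exact h.R_cent_derived
  have h2 : ⁅⁅C, R⁆, Q⁆ = ⊥ := by
    have : ⁅C, R⁆ = ⊥ := by
      rw [Subgroup.commutator_eq_bot_iff_le_centralizer]
      exact inf_le_right
    rw [this, Subgroup.commutator_bot_left]
  have h3 : ⁅⁅R, Q⁆, C⁆ = ⊥ := Subgroup.commutator_commutator_eq_bot_of_rotate h1 h2
  rw [Subgroup.commutator_comm R Q, h.comm_eq, Subgroup.commutator_eq_bot_iff_le_centralizer] at h3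
  intro q hq
  have := h3 hq
  rw [Subgroup.mem_centralizer_iff] at this
  exact this d hdC

/-- L4: some nonidentity element of `A` centralises `R`. -/
theorem Crit.exists_b0 (h : Crit (V := V) p l r Q R A) :
    ∃ b0 ∈ A, b0 ≠ 1 ∧ ∀ x ∈ R, x * b0 = b0 * x := by
  have c := h.cfg
  have : Fact p.Prime := ⟨c.hp⟩
  have hgen := Cfsg.Agent.S1324.result p A R c.elemAb (by rw [c.hAcard]) c.not_dvd_card_R c.hAR
  by_contra hcon
  push Not at hcon
  apply h.hne
  rw [hgen]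
  apply iSup_le
  rintro ⟨B, hBA, hidx⟩
  show R ⊓ Subgroup.centralizer (B : Set T) ≤ Subgroup.centralizer (Q : Set T)
  by_cases hB : B = ⊥
  · exfalso
    rw [hB, Subgroup.relIndex_bot_left, c.hAcard] at hidx
    have := c.hp.one_lt
    nlinarith
  by_cases hR1 : R ⊓ Subgroup.centralizer (B : Set T) = R
  · exfalso
    obtain ⟨b, hb1⟩ := (Subgroup.ne_bot_iff_exists_ne_one).1 hB
    have hb' : (b : T) ≠ 1 := fun e => hb1 (Subtype.ext e)
    obtain ⟨x, hx, hxb⟩ := hcon b (hBA b.2) hb'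
    rw [← hR1] at hx
    have := (Subgroup.mem_centralizer_iff.1 hx.2) b b.2
    exact hxb this.symm
  · apply h.a2 _ inf_le_left hR1
    intro a ha
    rw [Subgroup.mem_normalizer_iff]
    have hkey : ∀ a ∈ A, ∀ x ∈ R ⊓ Subgroup.centralizer (B : Set T),
        a * x * a⁻¹ ∈ R ⊓ Subgroup.centralizer (B : Set T) := by
      intro a ha x hx
      refine Subgroup.mem_inf.2 ⟨conj_mem_of_le_normalizer c.hAR ha hx.1, ?_⟩
      rw [Subgroup.mem_centralizer_iff]
      intro b hb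
      have h1 := (Subgroup.mem_centralizer_iff.1 hx.2) b hb
      have h2 : a * b = b * a := c.hAc a ha b (hBA hb)
      have h3 : a⁻¹ * b = b * a⁻¹ := by
        have : Commute a b := h2
        exact this.inv_left.eq
      calc b * (a * x * a⁻¹) = (b * a) * x * a⁻¹ := by group
        _ = a * (b * x) * a⁻¹ := by rw [← h2]; group
        _ = a * (x * b) * a⁻¹ := by rw [h1]
        _ = a * x * (b * a⁻¹) := by group
        _ = a * x * (a⁻¹ * b) := by rw [h3]
        _ = a * x * a⁻¹ * b := by group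
    intro x
    constructor
    · exact hkey a ha x
    · intro hx
      have := hkey a⁻¹ (A.inv_mem ha) _ hx
      have e : a⁻¹ * (a * x * a⁻¹) * a⁻¹⁻¹ = x := by group
      rwa [e] at this

end crit

end Cfsg.Agent.Lib.Helper8.Ward
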