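import Mathlib
import Cfsg.Agent.Lib.Helper8.WardC

/-!
# Ward's theorem, part D: the endgame on the module
-/

set_option autoImplicit false
set_option linter.unusedSectionVars false
set_option linter.unusedVariables false

namespace Cfsg.Agent.Lib.Helper8.Ward

open Cfsg.Agent.Lib.Helper8.SBS
open scoped commutatorElement

universe u w

section grp

variable {T : Type w} [Group T]

/-- `Ω₁(Z(Q))`. -/
def omegaZ (l : ℕ) (Q : Subgroup T) : Subgroup T where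
  carrier := {z | z ∈ Q ∧ (∀ q ∈ Q, z * q = q * z) ∧ z ^ l = 1}
  one_mem' := ⟨Q.one_mem, fun q _ => by simp, one_pow l⟩
  mul_mem' := by
    rintro a b ⟨ha, hac, hal⟩ ⟨hb, hbc, hbl⟩
    refine ⟨Q.mul_mem ha hb, ?_, ?_⟩
    · intro q hq
      rw [mul_assoc, hbc q hq, ← mul_assoc, hac q hq, mul_assoc]
    · have : Commute a b := hac b hb
      rw [this.mul_pow, hal, hbl, one_mul]
  inv_mem' := by
    rintro a ⟨ha, hac, hal⟩
    refine ⟨Q.inv_mem ha, ?_, by rw [inv_pow, hal, inv_one]⟩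
    intro q hq
    have : Commute a q := hac q hq
    exact this.inv_left.eq

theorem mem_omegaZ {l : ℕ} {Q : Subgroup T} {z : T} :
    z ∈ omegaZ l Q ↔ z ∈ Q ∧ (∀ q ∈ Q, z * q = q * z) ∧ z ^ l = 1 := Iff.rfl

theorem omegaZ_le (l : ℕ) (Q : Subgroup T) : omegaZ l Q ≤ Q := fun _ h => h.1

theorem omegaZ_comm {l : ℕ} {Q : Subgroup T} : ∀ x ∈ omegaZ l Q, ∀ y ∈ omegaZ l Q, x * y = y * x :=
  fun x hx y hy => hx.2.1 y hy.1

theorem omegaZ_isPGroup {l : ℕ} {Q : Subgroup T} : IsPGroup l (omegaZ l Q) := by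
  intro z
  refine ⟨1, ?_⟩
  apply Subtype.ext
  rw [pow_one, Subgroup.coe_pow, z.2.2.2, Subgroup.coe_one]

theorem conj_mem_omegaZ {l : ℕ} {Q : Subgroup T} {t : T}
    (ht : t ∈ Subgroup.normalizer (Q : Set T)) {z : T} (hz : z ∈ omegaZ l Q) :
    t * z * t⁻¹ ∈ omegaZ l Q := by
  obtain ⟨hzQ, hzc, hzl⟩ := hz
  refine ⟨(Subgroup.mem_normalizer_iff.1 ht z).1 hzQ, ?_, by rw [conj_pow, hzl]; group⟩
  intro q hq
  have hq' : t⁻¹ * q * t ∈ Q := by
    have := (Subgroup.mem_normalizer_iff.1 (Subgroup.inv_mem _ ht) q).1 hq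
    rwa [inv_inv] at this
  have h1 := hzc _ hq'
  calc t * z * t⁻¹ * q = t * (z * (t⁻¹ * q * t)) * t⁻¹ := by group
    _ = t * ((t⁻¹ * q * t) * z) * t⁻¹ := by rw [h1]
    _ = q * (t * z * t⁻¹) := by group

/-- elements of a join `K ⊔ C` with `K` normalised by `C` are products. -/
theorem exists_mul_of_mem_sup {K C : Subgroup T} (hn : ∀ c ∈ C, ∀ k ∈ K, c * k * c⁻¹ ∈ K)
    {x : T} (hx : x ∈ K ⊔ C) : ∃ k ∈ K, ∃ c ∈ C, x = k * c := by
  let S : Subgroup T :=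
    { carrier := {x | ∃ k ∈ K, ∃ c ∈ C, x = k * c}
      one_mem' := ⟨1, K.one_mem, 1, C.one_mem, by simp⟩
      mul_mem' := by
        rintro _ _ ⟨k, hk, c, hc, rfl⟩ ⟨k', hk', c', hc', rfl⟩
        refine ⟨k * (c * k' * c⁻¹), K.mul_mem hk (hn c hc k' hk'), c * c', C.mul_mem hc hc', ?_⟩
        group
      inv_mem' := by
        rintro _ ⟨k, hk, c, hc, rfl⟩
        refine ⟨c⁻¹ * k⁻¹ * c⁻¹⁻¹, hn c⁻¹ (C.inv_mem hc) k⁻¹ (K.inv_mem hk), c⁻¹, C.inv_mem hc, ?_⟩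
        group }
  have h1 : K ≤ S := fun k hk => ⟨k, hk, 1, C.one_mem, by simp⟩
  have h2 : C ≤ S := fun c hc => ⟨1, K.one_mem, c, hc, by simp⟩
  exact (sup_le h1 h2) hx

/-- conjugation moves `trivMod`. -/
theorem conj_mem_trivMod [Finite T] {Z Y Y' : Subgroup T} {hYZ : Y ≤ Z} {hY'Z : Y' ≤ Z} {s t : T}
    (hsZ : ∀ z ∈ Z, s⁻¹ * z * s ∈ Z) (hsY : ∀ y ∈ Y, s * y * s⁻¹ ∈ Y')
    (ht : t ∈ trivMod Z Y hYZ) : s * t * s⁻¹ ∈ trivMod Z Y' hY'Z := by
  intro z hz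
  have h1 := ht _ (hsZ z hz)
  have h2 := hsY _ h1
  have e : s * t * s⁻¹ * z * (s * t * s⁻¹)⁻¹ * z⁻¹ =
      s * (t * (s⁻¹ * z * s) * t⁻¹ * (s⁻¹ * z * s)⁻¹) * s⁻¹ := by group
  rw [e]
  exact h2

/-- extracting a root of coprime order. -/
theorem mem_of_pow_mem_of_coprime [Finite T] {H : Subgroup T} {y : T} {p : ℕ}
    (hcop : (orderOf y).Coprime p) (h : y ^ p ∈ H) : y ∈ H := by
  rcases Nat.lt_or_ge 1 (orderOf y) with h1 | h1
  · obtain ⟨m, -, hm⟩ := Nat.exists_mul_mod_eq_one_of_coprime hcop.symm h1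
    have h2 : (y ^ p) ^ m = y := by
      rw [← pow_mul, ← pow_mod_orderOf, hm, pow_one]
    rw [← h2]
    exact H.pow_mem h m
  · have h2 : orderOf y = 1 := le_antisymm h1 (orderOf_pos y)
    rw [orderOf_eq_one_iff.1 h2]
    exact H.one_mem

/-- a nontrivial `l`-group has an element of order `l`. -/
theorem exists_ne_one_pow_eq_one [Finite T] {l : ℕ} [hl : Fact l.Prime] {H : Subgroup T}
    (hH : IsPGroup l H) (hne : H ≠ ⊥) : ∃ y ∈ H, y ≠ 1 ∧ y ^ l = 1 := by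
  obtain ⟨h, hh1⟩ := (Subgroup.ne_bot_iff_exists_ne_one).1 hne
  obtain ⟨k, hk⟩ := (IsPGroup.iff_orderOf.1 hH) h
  have hk0 : k ≠ 0 := by
    intro h0
    rw [h0, pow_zero, orderOf_eq_one_iff] at hk
    exact hh1 hk
  obtain ⟨k', rfl⟩ := Nat.exists_eq_succ_of_ne_zero hk0
  refine ⟨((h ^ l ^ k' : H) : T), (h ^ l ^ k').2, ?_, ?_⟩
  · intro h1
    have h2 : h ^ l ^ k' = 1 := Subtype.ext h1
    have h3 := orderOf_dvd_of_pow_eq_one h2
    rw [hk, pow_succ] at h3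
    have h4 : l ^ k' * l ∣ l ^ k' * 1 := by rwa [mul_one]
    have := Nat.dvd_of_mul_dvd_mul_left (pow_pos hl.out.pos k') h4
    exact hl.out.one_lt.ne' (Nat.dvd_one.1 this)
  · have h2 : (h ^ l ^ k') ^ l = 1 := by
      rw [← pow_mul, ← pow_succ, ← hk, pow_orderOf_eq_one]
    have := congrArg Subtype.val h2
    simpa using this

end grp


section mod

variable {V : Type u} [AddCommGroup V] [Finite V] {T : Type w} [Group T] [Finite T]
  [DistribMulAction T V]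

/-- the kernel of `Q` on the component `FY`. -/
def KY (Q Z Y : Subgroup T) : Subgroup T where
  carrier := {q | q ∈ Q ∧ ∀ v ∈ FY (V := V) Z Y, q • v = v}
  one_mem' := ⟨Q.one_mem, fun v _ => one_smul _ v⟩
  mul_mem' := by
    rintro a b ⟨ha, hav⟩ ⟨hb, hbv⟩
    exact ⟨Q.mul_mem ha hb, fun v hv => by rw [mul_smul, hbv v hv, hav v hv]⟩
  inv_mem' := by
    rintro a ⟨ha, hav⟩
    refine ⟨Q.inv_mem ha, fun v hv => ?_⟩
    have := hav v hv
    calc a⁻¹ • v = a⁻¹ • a • v := by rw [this]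
      _ = v := inv_smul_smul a v

theorem mem_KY {Q Z Y : Subgroup T} {q : T} :
    q ∈ KY (V := V) Q Z Y ↔ q ∈ Q ∧ ∀ v ∈ FY (V := V) Z Y, q • v = v := Iff.rfl

theorem KY_le (Q Z Y : Subgroup T) : KY (V := V) Q Z Y ≤ Q := fun _ h => h.1

/-- an element normalising `Q`, `Z`, `Y` normalises `KY`. -/
theorem conj_mem_KY {Q Z Y : Subgroup T} {t : T} (hQ : ∀ q ∈ Q, t * q * t⁻¹ ∈ Q)
    (hZ : ∀ z ∈ Z, t⁻¹ * z * t ∈ Z) (hY : ∀ y ∈ Y, t⁻¹ * y * t ∈ Y) {k : T}
    (hk : k ∈ KY (V := V) Q Z Y) : t * k * t⁻¹ ∈ KY (V := V) Q Z Y := by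
  refine ⟨hQ k hk.1, fun v hv => ?_⟩
  have h1 : t⁻¹ • v ∈ FY (V := V) Z Y := by
    apply smul_mem_FY _ _ hv
    · intro z hz; simpa using hZ z hz
    · intro y hy; simpa using hY y hy
  rw [mul_smul, mul_smul, hk.2 _ h1, smul_inv_smul]

/-- if `Z` acts trivially on `FY` then `FY = 0`. -/
theorem FY_eq_bot_of_le {l : ℕ} [Fact l.Prime] (hVl : (Nat.card V).Coprime l) {Q Z Y : Subgroup T}
    (hZl : IsPGroup l Z) (h : Z ≤ KY (V := V) Q Z Y) : FY (V := V) Z Y = ⊥ := by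
  rw [eq_bot_iff]
  intro v hv
  have h1 : v ∈ fixedPts (V := V) Z := fun z hz => (h hz).2 v hv
  have h2 := nu_of_mem_fixedPts h1
  rw [(mem_FY.1 hv).2] at h2
  rw [AddSubgroup.mem_bot]
  exact eq_zero_of_nsmul_eq_zero (coprime_card_of_isPGroup hVl hZl) h2.symm

end mod


section core

variable {V : Type u} [AddCommGroup V] [Finite V] {T : Type w} [Group T] [Finite T]
  [DistribMulAction T V] {p l r : ℕ} {Q R A : Subgroup T}

theorem Cfg.Z_norm_R (c : Cfg V p l r Q R A) {x : T} (hx : x ∈ R) {z : T}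
    (hz : z ∈ omegaZ l Q) : x * z * x⁻¹ ∈ omegaZ l Q := conj_mem_omegaZ (c.hRQ hx) hz

theorem Cfg.Z_norm_A (c : Cfg V p l r Q R A) {x : T} (hx : x ∈ A) {z : T}
    (hz : z ∈ omegaZ l Q) : x * z * x⁻¹ ∈ omegaZ l Q := conj_mem_omegaZ (c.hAQ hx) hz

theorem Cfg.coprime_AZ (c : Cfg V p l r Q R A) :
    (Nat.card A).Coprime (Nat.card (omegaZ l Q)) := by
  have : Fact l.Prime := ⟨c.hl⟩
  obtain ⟨k, hk⟩ := IsPGroup.iff_card.1 (omegaZ_isPGroup (l := l) (Q := Q))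
  rw [hk, c.hAcard]
  exact Nat.Coprime.pow _ _ ((Nat.coprime_primes c.hp c.hl).2 c.hpl)

/-- `A` does not act trivially on `Z / Y` for a hyperplane `Y`. -/
theorem Cfg.not_A_triv (c : Cfg V p l r Q R A) {Y : Subgroup T} (hYZ : Y ≤ omegaZ l Q)
    (hYc : Nat.card Y * l = Nat.card (omegaZ l Q)) : ¬ A ≤ trivMod (omegaZ l Q) Y hYZ := by
  intro hA
  have : Fact l.Prime := ⟨c.hl⟩
  have hAZ : A ≤ Subgroup.normalizer ((omegaZ l Q : Subgroup T) : Set T) := by
    intro a ha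
    rw [Subgroup.mem_normalizer_iff]
    intro z
    constructor
    · exact fun hz => c.Z_norm_A ha hz
    · intro hz
      have := c.Z_norm_A (A.inv_mem ha) hz
      have e : a⁻¹ * (a * z * a⁻¹) * a⁻¹⁻¹ = z := by group
      rwa [e] at this
  have h1 := Cfsg.Agent.Lib.Lead.coprime_commutator_sup_centralizer A (omegaZ l Q) hAZ c.coprime_AZ
    (Or.inr (isSolvable_of_isPGroup omegaZ_isPGroup))
  have h2 : omegaZ l Q ⊓ Subgroup.centralizer (A : Set T) = ⊥ := by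
    rw [eq_bot_iff, ← c.hfQ]
    exact inf_le_inf_right _ (omegaZ_le l Q)
  rw [h2, sup_bot_eq] at h1
  have h3 : ⁅omegaZ l Q, A⁆ ≤ Y := by
    rw [Subgroup.commutator_le]
    intro z hz a ha
    have h4 := hA ha z⁻¹ (Subgroup.inv_mem _ hz)
    rw [inv_inv] at h4
    -- h4 : a * z⁻¹ * a⁻¹ * z ∈ Y
    have h5 : z * (a * z⁻¹ * a⁻¹ * z) * z⁻¹ = a * z⁻¹ * a⁻¹ * z := by
      have := omegaZ_comm z hz _ (hYZ h4)
      rw [this]; group
    rw [commutatorElement_def]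
    have e : z * a * z⁻¹ * a⁻¹ = z * (a * z⁻¹ * a⁻¹ * z) * z⁻¹ := by group
    rw [e, h5]
    exact h4
  rw [h1] at h3
  have h6 : Nat.card (omegaZ l Q) ≤ Nat.card Y := Subgroup.card_le_of_le h3
  have hYpos : 0 < Nat.card Y := Nat.card_pos
  have := c.hl.one_lt
  nlinarith

/-- **U2.** -/
theorem Crit.U2 (h : Crit (V := V) p l r Q R A) {Y : Subgroup T} (hYZ : Y ≤ omegaZ l Q)
    (hYc : Nat.card Y * l = Nat.card (omegaZ l Q))
    (hF : FY (V := V) (omegaZ l Q) Y ≠ ⊥) :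
    ∃ b ∈ A, b ≠ 1 ∧ b ∈ trivMod (omegaZ l Q) Y hYZ ∧
      (∀ b' ∈ A, b' ∈ trivMod (omegaZ l Q) Y hYZ → b' ∈ Subgroup.zpowers b) ∧
      (∀ q ∈ Q, ∃ k ∈ KY (V := V) Q (omegaZ l Q) Y, ∃ d ∈ Q, d * b = b * d ∧ q = k * d) := by
  have c := h.cfg
  have : Fact l.Prime := ⟨c.hl⟩
  have : Fact p.Prime := ⟨c.hp⟩
  -- U1 packaged
  have hU1 : ∀ b ∈ A, b ∉ trivMod (omegaZ l Q) Y hYZ → ∀ g ∈ Q, g * b = b * g →
      g ∈ KY (V := V) Q (omegaZ l Q) Y := by
    intro b hb hbt g hgQ hgb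
    have hb1 : b ≠ 1 := by
      rintro rfl
      exact hbt (Subgroup.one_mem _)
    rw [mem_trivMod] at hbt
    push Not at hbt
    obtain ⟨z1, hz1, hz1Y⟩ := hbt
    have hz1Y' : z1⁻¹ * (b * z1 * b⁻¹) ∉ Y := by
      have e : z1⁻¹ * (b * z1 * b⁻¹) = b * z1 * b⁻¹ * z1⁻¹ :=
        omegaZ_comm _ (Subgroup.inv_mem _ hz1) _ (c.Z_norm_A hb hz1)
      rwa [e]
    refine ⟨hgQ, ?_⟩
    exact U1 c.hp c.hpl c.hVl hYZ hYc omegaZ_isPGroup omegaZ_comm
      (fun z hz q hq => hz.2.1 q hq) (c.hAp b hb) (fun z hz => c.Z_norm_A hb hz) hz1 hz1Y' hgQ hgb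
      (c.h6a b hb hb1 g hgQ hgb)
  have hgen := Cfsg.Agent.S1324.result p A Q c.elemAb (by rw [c.hAcard]) c.not_dvd_card_Q c.hAQ
  have hBne : ∀ B : Subgroup T, B ≤ A → B.relIndex A ≤ p → B ≠ ⊥ := by
    intro B hBA hidx hB
    rw [hB, Subgroup.relIndex_bot_left, c.hAcard] at hidx
    have := c.hp.one_lt
    nlinarith
  -- Step A
  have hA : ∃ b ∈ A, b ≠ 1 ∧ b ∈ trivMod (omegaZ l Q) Y hYZ := by
    by_contra hcon
    push Not at hcon
    apply hF
    apply FY_eq_bot_of_le c.hVl omegaZ_isPGroup (Q := Q)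
    refine (omegaZ_le l Q).trans ?_
    have key : (⨆ B : {B : Subgroup T // B ≤ A ∧ B.relIndex A ≤ p},
        Q ⊓ Subgroup.centralizer ((B : Subgroup T) : Set T)) ≤ KY (V := V) Q (omegaZ l Q) Y := by
      apply iSup_le
      rintro ⟨B, hBA, hidx⟩
      obtain ⟨b, hb1⟩ := (Subgroup.ne_bot_iff_exists_ne_one).1 (hBne B hBA hidx)
      have hb' : (b : T) ≠ 1 := fun e => hb1 (Subtype.ext e)
      intro g hg
      have hg' : g ∈ Q ⊓ Subgroup.centralizer (B : Set T) := hg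
      exact hU1 b (hBA b.2) (fun ht => hcon b (hBA b.2) hb' ht) g hg'.1
        ((Subgroup.mem_centralizer_iff.1 hg'.2 b b.2).symm)
    intro g hg
    rw [hgen] at hg
    exact key hg
  obtain ⟨b, hbA, hb1, hbt⟩ := hA
  -- Step B
  have hB : ∀ b' ∈ A, b' ∈ trivMod (omegaZ l Q) Y hYZ → b' ∈ Subgroup.zpowers b := by
    intro b' hb'A hb't
    by_contra hn
    apply c.not_A_triv hYZ hYc
    rw [← c.sup_zpowers hbA hb1 hb'A hn]
    exact sup_le (Subgroup.zpowers_le.2 hbt) (Subgroup.zpowers_le.2 hb't)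
  refine ⟨b, hbA, hb1, hbt, hB, ?_⟩
  -- Step C
  let Cb : Subgroup T := Q ⊓ Subgroup.centralizer ({b} : Set T)
  have hQle : Q ≤ KY (V := V) Q (omegaZ l Q) Y ⊔ Cb := by
    intro g0 hg0
    rw [hgen] at hg0
    revert g0
    show (⨆ B : {B : Subgroup T // B ≤ A ∧ B.relIndex A ≤ p},
        Q ⊓ Subgroup.centralizer ((B : Subgroup T) : Set T)) ≤ KY (V := V) Q (omegaZ l Q) Y ⊔ Cb
    apply iSup_le
    rintro ⟨B, hBA, hidx⟩
    show Q ⊓ Subgroup.centralizer (B : Set T) ≤ _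
    by_cases hBt : B ≤ trivMod (omegaZ l Q) Y hYZ
    · have hBb : B ≤ Subgroup.zpowers b := fun x hx => hB x (hBA hx) (hBt hx)
      have hBeq : B = Subgroup.zpowers b := by
        apply Subgroup.eq_of_le_of_card_ge hBb
        have h1 : Nat.card B ∣ p := by
          rw [← c.card_zpowers hbA hb1]; exact Subgroup.card_dvd_of_le hBb
        rcases (Nat.dvd_prime c.hp).1 h1 with h2 | h2
        · exfalso
          exact hBne B hBA hidx (Subgroup.card_eq_one.1 h2)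
        · rw [h2, c.card_zpowers hbA hb1]
      refine le_trans ?_ le_sup_right
      intro g hg
      refine Subgroup.mem_inf.2 ⟨hg.1, ?_⟩
      rw [Subgroup.mem_centralizer_iff]
      intro x hx
      rw [Set.mem_singleton_iff] at hx
      rw [hx]
      exact Subgroup.mem_centralizer_iff.1 hg.2 b (by rw [hBeq]; exact Subgroup.mem_zpowers b)
    · refine le_trans ?_ le_sup_left
      rw [SetLike.not_le_iff_exists] at hBt
      obtain ⟨b', hb'B, hb't⟩ := hBt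
      intro g hg
      exact hU1 b' (hBA hb'B) hb't g hg.1 ((Subgroup.mem_centralizer_iff.1 hg.2 b' hb'B).symm)
  intro q hq
  have hn : ∀ c' ∈ Cb, ∀ k ∈ KY (V := V) Q (omegaZ l Q) Y, c' * k * c'⁻¹ ∈
      KY (V := V) Q (omegaZ l Q) Y := by
    intro c' hc' k hk
    have hc'Q : c' ∈ Q := hc'.1
    apply conj_mem_KY _ _ _ hk
    · intro q' hq'
      exact Q.mul_mem (Q.mul_mem hc'Q hq') (Q.inv_mem hc'Q)
    · intro z hz
      have : z * c' = c' * z := hz.2.1 c' hc'Q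
      have e : c'⁻¹ * z * c' = z := by rw [mul_assoc, this]; group
      rw [e]; exact hz
    · intro y hy
      have : y * c' = c' * y := (hYZ hy).2.1 c' hc'Q
      have e : c'⁻¹ * y * c' = y := by rw [mul_assoc, this]; group
      rw [e]; exact hy
  obtain ⟨k, hk, d, hd, hqd⟩ := exists_mul_of_mem_sup hn (hQle hq)
  refine ⟨k, hk, d, hd.1, ?_, hqd⟩
  have := Subgroup.mem_centralizer_iff.1 hd.2 b (Set.mem_singleton b)
  exact this.symm

end core


section core2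

variable {V : Type u} [AddCommGroup V] [Finite V] {T : Type w} [Group T] [Finite T]
  [DistribMulAction T V] {p l r : ℕ} {Q R A : Subgroup T}

theorem Cfg.zpowers_eq (c : Cfg V p l r Q R A) {b b' : T} (hb : b ∈ A) (hb1 : b ≠ 1)
    (hb' : b' ∈ A) (hb'1 : b' ≠ 1) (h : b' ∈ Subgroup.zpowers b) :
    Subgroup.zpowers b' = Subgroup.zpowers b := by
  apply Subgroup.eq_of_le_of_card_ge (Subgroup.zpowers_le.2 h)
  rw [c.card_zpowers hb hb1, c.card_zpowers hb' hb'1]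

/-- an element of `R` commuting with `b1 ∉ ⟨b0⟩` is trivial. -/
theorem Crit.fix_other (h : Crit (V := V) p l r Q R A) {b0 b1 : T} (hb0 : b0 ∈ A) (hb01 : b0 ≠ 1)
    (hb0R : ∀ x ∈ R, x * b0 = b0 * x) (hb1 : b1 ∈ A) (hb1n : b1 ∉ Subgroup.zpowers b0)
    {x : T} (hx : x ∈ R) (hxb : b1 * x = x * b1) : x = 1 := by
  have c := h.cfg
  have h1 : A ≤ Subgroup.centralizer ({x} : Set T) := by
    rw [← c.sup_zpowers hb0 hb01 hb1 hb1n]
    apply sup_le
    · rw [Subgroup.zpowers_le, Subgroup.mem_centralizer_iff]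
      intro y hy
      rw [Set.mem_singleton_iff] at hy
      rw [hy]; exact hb0R x hx
    · rw [Subgroup.zpowers_le, Subgroup.mem_centralizer_iff]
      intro y hy
      rw [Set.mem_singleton_iff] at hy
      rw [hy]; exact hxb.symm
  have h2 : x ∈ R ⊓ Subgroup.centralizer (A : Set T) := by
    refine Subgroup.mem_inf.2 ⟨hx, ?_⟩
    rw [Subgroup.mem_centralizer_iff]
    intro a ha
    have := Subgroup.mem_centralizer_iff.1 (h1 ha) x (Set.mem_singleton x)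
    exact this.symm
  rw [c.hfR] at h2
  exact h2

/-- **U4.** the distinguished subgroup of `A` attached to a hyperplane is `⟨b0⟩`. -/
theorem Crit.U4 (h : Crit (V := V) p l r Q R A) {Y : Subgroup T} (hYZ : Y ≤ omegaZ l Q)
    (hYc : Nat.card Y * l = Nat.card (omegaZ l Q))
    (hF : FY (V := V) (omegaZ l Q) Y ≠ ⊥)
    {b0 : T} (hb0 : b0 ∈ A) (hb01 : b0 ≠ 1) (hb0R : ∀ x ∈ R, x * b0 = b0 * x)
    {b1 : T} (hb1A : b1 ∈ A) (hb11 : b1 ≠ 1) (hb1t : b1 ∈ trivMod (omegaZ l Q) Y hYZ)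
    (huniq : ∀ b' ∈ A, b' ∈ trivMod (omegaZ l Q) Y hYZ → b' ∈ Subgroup.zpowers b1)
    (hdec : ∀ q ∈ Q, ∃ k ∈ KY (V := V) Q (omegaZ l Q) Y, ∃ d ∈ Q, d * b1 = b1 * d ∧ q = k * d) :
    b1 ∈ Subgroup.zpowers b0 := by
  have c := h.cfg
  have : Fact l.Prime := ⟨c.hl⟩
  have : Fact r.Prime := ⟨c.hr⟩
  by_contra hb1n
  have hfix : ∀ x ∈ R, b1 * x = x * b1 → x = 1 := fun x hx hxb =>
    h.fix_other hb0 hb01 hb0R hb1A hb1n hx hxb
  have hb1R : ∀ x ∈ R, b1⁻¹ * x * b1 ∈ R := fun x hx =>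
    conj_mem_of_le_normalizer' c.hAR hb1A hx
  have hne01 : Subgroup.zpowers b0 ≠ Subgroup.zpowers b1 := by
    intro e
    apply hb1n
    rw [e]; exact Subgroup.mem_zpowers b1
  -- (1)
  have h1 : ∀ x ∈ R, b1⁻¹ * x⁻¹ * b1 * x ∈ trivMod (omegaZ l Q) Y hYZ := by
    intro x hx
    have hYxZ : conjSub x Y ≤ omegaZ l Q := by
      rintro _ ⟨y, hy, rfl⟩
      exact c.Z_norm_R hx (hYZ hy)
    have hYxc : Nat.card (conjSub x Y) * l = Nat.card (omegaZ l Q) := by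
      rw [card_conjSub]; exact hYc
    have hFx : FY (V := V) (omegaZ l Q) (conjSub x Y) ≠ ⊥ := by
      intro h0
      apply hF
      rw [eq_bot_iff]
      intro v hv
      have h2 := smul_mem_FY_conj (t := x) (fun z hz => c.Z_norm_R hx hz) hv
      rw [h0, AddSubgroup.mem_bot] at h2
      rw [AddSubgroup.mem_bot]
      have : x⁻¹ • x • v = x⁻¹ • (0 : V) := by rw [h2]
      rwa [inv_smul_smul, smul_zero] at this
    obtain ⟨b', hb'A, hb'1, hb't, huniq', -⟩ := h.U2 hYxZ hYxc hFx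
    -- conjugating back
    have hback : ∀ t ∈ trivMod (omegaZ l Q) (conjSub x Y) hYxZ,
        x⁻¹ * t * x⁻¹⁻¹ ∈ trivMod (omegaZ l Q) Y hYZ := by
      intro t ht
      apply conj_mem_trivMod _ _ ht
      · intro z hz
        rw [inv_inv]
        exact c.Z_norm_R hx hz
      · intro y hy
        rw [inv_inv]
        exact mem_conjSub.1 hy
    have hb'n : b' ∉ Subgroup.zpowers b0 := by
      intro hb'0
      have e1 := c.zpowers_eq hb0 hb01 hb'A hb'1 hb'0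
      have hb0t : b0 ∈ trivMod (omegaZ l Q) (conjSub x Y) hYxZ := by
        have : Subgroup.zpowers b' ≤ trivMod (omegaZ l Q) (conjSub x Y) hYxZ :=
          Subgroup.zpowers_le.2 hb't
        apply this
        rw [e1]; exact Subgroup.mem_zpowers b0
      have h3 := hback b0 hb0t
      have e2 : x⁻¹ * b0 * x⁻¹⁻¹ = b0 := by
        rw [inv_inv, mul_assoc, ← hb0R x hx]; group
      rw [e2] at h3
      have h4 := huniq b0 hb0 h3
      have e3 := c.zpowers_eq hb1A hb11 hb0 hb01 h4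
      exact hne01 e3
    have hB'ne : Subgroup.zpowers b' ≠ Subgroup.zpowers b0 := by
      intro e
      apply hb'n
      rw [← e]; exact Subgroup.mem_zpowers b'
    obtain ⟨i, hi⟩ := exists_zpow_mul_mem c.hp c.hAc c.hAp c.hAcard hb0 hb1A
      (c.card_zpowers hb0 hb01) (c.card_zpowers hb1A hb11) hne01
      (Subgroup.zpowers_le.2 hb'A) (c.card_zpowers hb'A hb'1) hB'ne
    have hi' : b0 ^ i * b1 ∈ trivMod (omegaZ l Q) (conjSub x Y) hYxZ :=
      (Subgroup.zpowers_le.2 hb't) hi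
    have h5 := hback _ hi'
    have h6 := Subgroup.mul_mem _ (Subgroup.inv_mem _ hb1t) h5
    -- rewrite as b0^i * τ
    have hcx : Commute b0 x := (hb0R x hx).symm
    have hcb : Commute b0 b1 := c.hAc b0 hb0 b1 hb1A
    have hcxi : Commute (b0 ^ i) x⁻¹ := (hcx.zpow_left i).inv_right
    have hcbi : Commute (b0 ^ i) b1⁻¹ := (hcb.zpow_left i).inv_right
    have e4 : b1⁻¹ * (x⁻¹ * (b0 ^ i * b1) * x⁻¹⁻¹) = b0 ^ i * (b1⁻¹ * x⁻¹ * b1 * x) := by
      rw [inv_inv]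
      calc b1⁻¹ * (x⁻¹ * (b0 ^ i * b1) * x) = b1⁻¹ * ((x⁻¹ * b0 ^ i) * b1 * x) := by group
        _ = b1⁻¹ * ((b0 ^ i * x⁻¹) * b1 * x) := by rw [hcxi.eq]
        _ = (b1⁻¹ * b0 ^ i) * (x⁻¹ * b1 * x) := by group
        _ = (b0 ^ i * b1⁻¹) * (x⁻¹ * b1 * x) := by rw [hcbi.eq]
        _ = b0 ^ i * (b1⁻¹ * x⁻¹ * b1 * x) := by group
    rw [e4] at h6
    set τ := b1⁻¹ * x⁻¹ * b1 * x with hτ
    have hτR : τ ∈ R := by
      rw [hτ]
      exact R.mul_mem (hb1R _ (R.inv_mem hx)) hx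
    have hcτ0 : Commute b0 τ := (hb0R τ hτR).symm
    have hcτ : Commute (b0 ^ i) τ := hcτ0.zpow_left i
    have h7 := Subgroup.pow_mem _ h6 p
    rw [hcτ.mul_pow] at h7
    have e5 : (b0 ^ i) ^ p = 1 := by
      rw [← zpow_natCast, ← zpow_mul, mul_comm, zpow_mul, zpow_natCast, c.hAp b0 hb0, one_zpow]
    rw [e5, one_mul] at h7
    apply mem_of_pow_mem_of_coprime _ h7
    obtain ⟨k, hk⟩ := (IsPGroup.iff_orderOf.1 c.hR) ⟨τ, hτR⟩
    have hk' : orderOf τ = r ^ k := by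
      rw [← hk]
      exact (Subgroup.orderOf_mk τ hτR).symm
    rw [hk']
    exact Nat.Coprime.pow_left k ((Nat.coprime_primes c.hr c.hp).2 c.hpr.symm)
  -- (2)
  have h2 : R ≤ trivMod (omegaZ l Q) Y hYZ := by
    intro y hy
    obtain ⟨x, hx, rfl⟩ := exists_comm_eq hb1R hfix hy
    exact h1 x hx
  -- (3)
  have hKQ : KY (V := V) Q (omegaZ l Q) Y ≤ Q := KY_le Q _ Y
  have hnormK : ∀ t : T, (∀ q ∈ Q, t * q * t⁻¹ ∈ Q) → t⁻¹ ∈ trivMod (omegaZ l Q) Y hYZ →
      ∀ k ∈ KY (V := V) Q (omegaZ l Q) Y, t * k * t⁻¹ ∈ KY (V := V) Q (omegaZ l Q) Y := by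
    intro t htQ htt k hk
    apply conj_mem_KY htQ _ _ hk
    · intro z hz
      have := conj_mem_of_mem_trivMod htt hz
      rwa [inv_inv] at this
    · intro y hy
      have := conj_mem_Y_of_mem_trivMod htt hy
      rwa [inv_inv] at this
  have hb1K : b1 ∈ trivMod Q (KY (V := V) Q (omegaZ l Q) Y) hKQ := by
    intro q hq
    obtain ⟨k, hk, d, hd, hdb, rfl⟩ := hdec q hq
    have h3 : b1 * k * b1⁻¹ ∈ KY (V := V) Q (omegaZ l Q) Y :=
      hnormK b1 (fun q hq => conj_mem_of_le_normalizer c.hAQ hb1A hq)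
        (Subgroup.inv_mem _ hb1t) k hk
    have e : b1 * (k * d) * b1⁻¹ * (k * d)⁻¹ = (b1 * k * b1⁻¹) * k⁻¹ := by
      have : b1 * d * b1⁻¹ = d := by rw [← hdb]; group
      calc b1 * (k * d) * b1⁻¹ * (k * d)⁻¹ = (b1 * k * b1⁻¹) * (b1 * d * b1⁻¹) * d⁻¹ * k⁻¹ := by
            group
        _ = (b1 * k * b1⁻¹) * k⁻¹ := by rw [this]; group
    rw [e]
    exact Subgroup.mul_mem _ h3 (Subgroup.inv_mem _ hk)
  have h3 : R ≤ trivMod Q (KY (V := V) Q (omegaZ l Q) Y) hKQ := by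
    intro y hy
    obtain ⟨x, hx, rfl⟩ := exists_comm_eq hb1R hfix hy
    have hxt : x ∈ trivMod (omegaZ l Q) Y hYZ := h2 hx
    have h4 : x⁻¹ * b1 * x⁻¹⁻¹ ∈ trivMod Q (KY (V := V) Q (omegaZ l Q) Y) hKQ := by
      apply conj_mem_trivMod _ _ hb1K
      · intro q hq
        rw [inv_inv]
        exact conj_mem_of_le_normalizer c.hRQ hx hq
      · intro k hk
        apply hnormK x⁻¹ _ _ k hk
        · intro q hq
          rw [inv_inv]
          exact conj_mem_of_le_normalizer' c.hRQ hx hq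
        · rw [inv_inv]; exact hxt
    have h5 := Subgroup.mul_mem _ (Subgroup.inv_mem _ hb1K) h4
    have e : b1⁻¹ * (x⁻¹ * b1 * x⁻¹⁻¹) = b1⁻¹ * x⁻¹ * b1 * x := by group
    rwa [e] at h5
  -- (4)
  have h4 : ⁅Q, R⁆ ≤ KY (V := V) Q (omegaZ l Q) Y := by
    rw [Subgroup.commutator_le]
    intro q hq y hy
    have := h3 hy q hq
    have e : ⁅q, y⁆ = (y * q * y⁻¹ * q⁻¹)⁻¹ := by
      rw [commutatorElement_def]; group
    rw [e]
    exact Subgroup.inv_mem _ this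
  rw [h.comm_eq] at h4
  exact hF (FY_eq_bot_of_le c.hVl omegaZ_isPGroup ((omegaZ_le l Q).trans h4))

end core2


section final

variable {V : Type u} [AddCommGroup V] [Finite V] {T : Type w} [Group T] [Finite T]
  [DistribMulAction T V] {p l r : ℕ} {Q R A : Subgroup T}

theorem comm_mul_central {G : Type*} [Group G] {k d k' d' : G} (hd : ∀ y : G, y = k' * d' → d * y = y * d)
    (hd' : d' * k = k * d') : ⁅k * d, k' * d'⁆ = ⁅k, k'⁆ := by
  have h1 := hd _ rfl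
  rw [commutatorElement_def, commutatorElement_def]
  have e1 : k * d * (k' * d') * (k * d)⁻¹ * (k' * d')⁻¹ =
      k * (d * (k' * d') * d⁻¹) * k⁻¹ * (k' * d')⁻¹ := by group
  have e2 : d * (k' * d') * d⁻¹ = k' * d' := by rw [h1]; group
  rw [e1, e2]
  have e3 : k * (k' * d') * k⁻¹ * (k' * d')⁻¹ = k * k' * (d' * k⁻¹ * d'⁻¹) * k'⁻¹ := by group
  have hc : Commute d' k := hd'
  have e4 : d' * k⁻¹ * d'⁻¹ = k⁻¹ := by
    rw [hc.inv_right.eq]; group
  rw [e3, e4]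

theorem mem_fixedPts_zpowers' {a : T} {v : V} :
    v ∈ fixedPts (V := V) (Subgroup.zpowers a) ↔ a • v = v := by
  constructor
  · intro h
    exact h a (Subgroup.mem_zpowers a)
  · intro h
    have : Subgroup.zpowers a ≤ MulAction.stabilizer T v := by
      rw [Subgroup.zpowers_le]
      exact h
    exact this

/-- the critical configuration is impossible. -/
theorem Crit.false (h : Crit (V := V) p l r Q R A) : False := by
  have c := h.cfg
  have : Fact l.Prime := ⟨c.hl⟩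
  obtain ⟨b0, hb0, hb01, hb0R⟩ := h.exists_b0
  have key : ∀ (Y : Subgroup T) (hYZ : Y ≤ omegaZ l Q),
      Nat.card Y * l = Nat.card (omegaZ l Q) → FY (V := V) (omegaZ l Q) Y ≠ ⊥ →
      ∀ q ∈ Q, ∃ k ∈ KY (V := V) Q (omegaZ l Q) Y, ∃ d ∈ Q,
        (∀ x ∈ R, x * d = d * x) ∧ q = k * d := by
    intro Y hYZ hYc hF
    obtain ⟨b1, hb1A, hb11, hb1t, huniq, hdec⟩ := h.U2 hYZ hYc hF
    have hb10 := h.U4 hYZ hYc hF hb0 hb01 hb0R hb1A hb11 hb1t huniq hdec
    have e := c.zpowers_eq hb0 hb01 hb1A hb11 hb10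
    intro q hq
    obtain ⟨k, hk, d, hd, hdb, rfl⟩ := hdec q hq
    refine ⟨k, hk, d, hd, ?_, rfl⟩
    have hdb0 : d * b0 = b0 * d := by
      have hmem : b0 ∈ Subgroup.zpowers b1 := by rw [e]; exact Subgroup.mem_zpowers b0
      obtain ⟨n, rfl⟩ := Subgroup.mem_zpowers_iff.1 hmem
      have hc : Commute d b1 := hdb
      exact (hc.zpow_right n).eq
    intro x hx
    exact (c.h6b b0 hb0 hb01 d hd hdb0 x hx (hb0R x hx)).symm
  -- the element z0
  have hz : ∃ z0 ∈ omegaZ l Q, z0 ≠ 1 ∧ ∀ (Y : Subgroup T) (hYZ : Y ≤ omegaZ l Q),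
      Nat.card Y * l = Nat.card (omegaZ l Q) → FY (V := V) (omegaZ l Q) Y ≠ ⊥ →
      z0 ∈ KY (V := V) Q (omegaZ l Q) Y := by
    by_cases hQ' : (⁅Q, Q⁆ : Subgroup T) = ⊥
    · -- abelian case
      have hQc : ∀ x ∈ Q, ∀ y ∈ Q, x * y = y * x := by
        rw [Subgroup.commutator_eq_bot_iff_le_centralizer] at hQ'
        intro x hx y hy
        exact (Subgroup.mem_centralizer_iff.1 (hQ' hy) x hx)
      obtain ⟨z0, hz0Q, hz01, hz0l⟩ := exists_ne_one_pow_eq_one c.hQ h.Q_ne_bot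
      refine ⟨z0, ⟨hz0Q, fun q hq => hQc z0 hz0Q q hq, hz0l⟩, hz01, ?_⟩
      intro Y hYZ hYc hF
      obtain ⟨k, hk, d, hd, hdR, e⟩ := key Y hYZ hYc hF z0 hz0Q
      have hd1 : d = 1 := by
        apply cent_eq_one_of_abelian hQc _ c.coprime_RQ.symm (le_of_eq h.comm_eq.symm) hd hdR
        intro x hx q hq
        exact conj_mem_of_le_normalizer c.hRQ hx hq
      rw [hd1, mul_one] at e
      rw [e]; exact hk
    · -- nonabelian case
      have hle : ⁅Q, Q⁆ ≤ Q := commutator_le_of_le_normalizer Subgroup.le_normalizer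
      obtain ⟨z0, hz0D, hz01, hz0l⟩ := exists_ne_one_pow_eq_one (c.hQ.to_le hle) hQ'
      have hRD := h.R_cent_derived
      have hz0R : ∀ x ∈ R, x * z0 = z0 * x := by
        intro x hx
        exact (Subgroup.mem_centralizer_iff.1 (hRD hx) z0 hz0D).symm
      refine ⟨z0, ⟨hle hz0D, h.centR_central (hle hz0D) hz0R, hz0l⟩, hz01, ?_⟩
      intro Y hYZ hYc hF
      have hD : ⁅Q, Q⁆ ≤ KY (V := V) Q (omegaZ l Q) Y := by
        rw [Subgroup.commutator_le]
        intro q hq q' hq'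
        obtain ⟨k, hk, d, hd, hdR, rfl⟩ := key Y hYZ hYc hF q hq
        obtain ⟨k', hk', d', hd', hd'R, rfl⟩ := key Y hYZ hYc hF q' hq'
        have hdc := h.centR_central hd hdR
        have hd'c := h.centR_central hd' hd'R
        rw [comm_mul_central (fun y hy => by rw [hy]; exact hdc _ hq')
          (hd'c k (KY_le Q _ Y hk))]
        exact Subgroup.commutator_mem_commutator hk hk |> fun _ =>
          (Subgroup.mul_mem _ (Subgroup.mul_mem _ (Subgroup.mul_mem _ hk hk') (Subgroup.inv_mem _ hk))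
            (Subgroup.inv_mem _ hk'))
      exact hD hz0D
  obtain ⟨z0, hz0Z, hz01, hz0K⟩ := hz
  apply hz01
  apply c.hfaith z0 hz0Z.1
  intro v
  have hcV : (Nat.card V).Coprime (Nat.card (omegaZ l Q)) :=
    coprime_card_of_isPGroup c.hVl omegaZ_isPGroup
  have hS := span_hyperplanes (p := l) c.hVl (omegaZ l Q) omegaZ_comm (fun x hx => hx.2.2)
    (fixedPts (V := V) (Subgroup.zpowers z0))
  rw [← mem_fixedPts_zpowers']
  apply hS
  intro K hKZ hK u hu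
  rw [mem_fixedPts_zpowers']
  rcases hK with rfl | hKc
  · exact hu z0 hz0Z
  · -- hyperplane
    set Z := omegaZ l Q with hZ
    have hnu : nu Z u ∈ fixedPts (V := V) Z := nu_mem_fixedPts Z u
    let w : V := Nat.card Z • u - nu Z u
    have hw : w ∈ FY (V := V) Z K := by
      rw [mem_FY]
      constructor
      · intro y hy
        show y • (Nat.card Z • u - nu Z u) = Nat.card Z • u - nu Z u
        rw [smul_sub, smul_nu_of_mem (hKZ hy)]
        congr 1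
        rw [smul_comm y (Nat.card Z) u, hu y hy]
      · show nu Z (Nat.card Z • u - nu Z u) = 0
        rw [nu_sub, nu_nsmul, nu_of_mem_fixedPts hnu, sub_self]
    have hz0w : z0 • w = w := by
      by_cases hF : FY (V := V) Z K = ⊥
      · rw [hF, AddSubgroup.mem_bot] at hw
        rw [hw, smul_zero]
      · exact (hz0K K hKZ hKc hF).2 w hw
    have hz0nu : z0 • nu Z u = nu Z u := hnu z0 hz0Z
    have e1 : Nat.card Z • u = w + nu Z u := by
      show Nat.card Z • u = Nat.card Z • u - nu Z u + nu Z u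
      abel
    have e2 : z0 • (Nat.card Z • u) = Nat.card Z • u := by
      rw [e1, smul_add, hz0w, hz0nu]
    have e3 : Nat.card Z • (z0 • u - u) = 0 := by
      rw [smul_sub, sub_eq_zero]
      rw [← smul_comm z0 (Nat.card Z) u, e2]
    exact sub_eq_zero.1 (eq_zero_of_nsmul_eq_zero hcV e3)

/-- **Theorem E.** -/
theorem thmE {A : Subgroup T} : ∀ (n : ℕ) (Q R : Subgroup T), Nat.card Q + Nat.card R = n →
    Cfg V p l r Q R A → R ≤ Subgroup.centralizer (Q : Set T) := by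
  intro n
  induction n using Nat.strong_induction_on with
  | _ n ih =>
  intro Q R hn c
  by_contra hne
  apply Crit.false (V := V) (p := p) (l := l) (r := r) (Q := Q) (R := R) (A := A)
  refine ⟨c, ?_, ?_, hne⟩
  · intro Q1 hQ1 hQ1ne hR1 hA1
    have hlt : Nat.card Q1 < Nat.card Q := by
      by_contra hge
      push Not at hge
      exact hQ1ne (Subgroup.eq_of_le_of_card_ge hQ1 hge)
    exact ih (Nat.card Q1 + Nat.card R) (by omega) Q1 R rfl (c.subQ hQ1 hR1 hA1)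
  · intro R1 hR1 hR1ne hA1
    have hlt : Nat.card R1 < Nat.card R := by
      by_contra hge
      push Not at hge
      exact hR1ne (Subgroup.eq_of_le_of_card_ge hR1 hge)
    exact ih (Nat.card Q + Nat.card R1) (by omega) Q R1 rfl (c.subR hR1 hA1)

end final

end Cfsg.Agent.Lib.Helper8.Ward
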