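import Mathlib
import Cfsg.Agent.Lib.Helper8.WardA
import Cfsg.Agent.Lib.Helper8.WardE
import Cfsg.Agent.Lib.Lead.CoprimeAction
import Cfsg.Agent.Lib.Helper4.FM12

/-!
# Ward's theorem, part F: the internal fixed-point-free setting
-/

set_option autoImplicit false
set_option linter.unusedSectionVars false
set_option linter.unusedVariables false

namespace Cfsg.Agent.Lib.Helper8.Ward

open scoped commutatorElement

universe w

section setting

variable {Γ : Type w} [Group Γ]

/-- the internal setting: `A ≅ Z_p × Z_p` acts by conjugation, without fixed points, on the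
solvable normal subgroup `G`. -/
structure FpfSetting (G A : Subgroup Γ) (p : ℕ) : Prop where
  hp : p.Prime
  hGn : G.Normal
  hsolv : Group.IsSolvable G
  hAc : ∀ a ∈ A, ∀ b ∈ A, a * b = b * a
  hAp : ∀ a ∈ A, a ^ p = 1
  hAcard : Nat.card A = p ^ 2
  hfpf : ∀ g ∈ G, (∀ a ∈ A, a * g = g * a) → g = 1

variable {G A : Subgroup Γ} {p : ℕ}

theorem FpfSetting.inf_eq_bot (h : FpfSetting G A p) : A ⊓ G = ⊥ := by
  rw [eq_bot_iff]
  intro x hx
  rw [Subgroup.mem_bot]
  exact h.hfpf x hx.2 (fun a ha => h.hAc a ha x hx.1)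

theorem FpfSetting.le_normalizer (h : FpfSetting G A p) (H : Subgroup Γ) :
    H ≤ Subgroup.normalizer (G : Set Γ) := by
  have := h.hGn
  rw [Subgroup.normalizer_eq_top]
  exact le_top

theorem FpfSetting.not_dvd [Finite Γ] (h : FpfSetting G A p) : ¬ p ∣ Nat.card G := by
  have : Fact p.Prime := ⟨h.hp⟩
  have hGn := h.hGn
  let _ : MulAction A G :=
    { smul := fun a g => ⟨(a : Γ) * g * (a : Γ)⁻¹, hGn.conj_mem g g.2 a⟩
      one_smul := fun g => Subtype.ext (by
        show ((1 : A) : Γ) * g * ((1 : A) : Γ)⁻¹ = g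
        simp)
      mul_smul := fun a b g => Subtype.ext (by
        show ((a * b : A) : Γ) * g * ((a * b : A) : Γ)⁻¹ = (a : Γ) * ((b : Γ) * g * (b : Γ)⁻¹) * (a : Γ)⁻¹
        simp [mul_assoc]) }
  have hsm : ∀ (a : A) (g : G), ((a • g : G) : Γ) = (a : Γ) * g * (a : Γ)⁻¹ := fun a g => rfl
  have hA : IsPGroup p A := IsPGroup.of_card (n := 2) h.hAcard
  have key := hA.card_modEq_card_fixedPoints G
  have hfix : Nat.card (MulAction.fixedPoints A G) = 1 := by
    rw [Nat.card_eq_one_iff_unique]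
    constructor
    · constructor
      have h1 : ∀ x : MulAction.fixedPoints A G, x = ⟨1, fun a => Subtype.ext (by rw [hsm]; simp)⟩ := by
        rintro ⟨x, hx⟩
        apply Subtype.ext
        apply Subtype.ext
        show (x : Γ) = 1
        apply h.hfpf x x.2
        intro a ha
        have h2 := hx ⟨a, ha⟩
        have h3 : a * (x : Γ) * a⁻¹ = x := by
          have := congrArg Subtype.val h2
          rwa [hsm] at this
        calc a * (x : Γ) = a * (x : Γ) * a⁻¹ * a := by group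
          _ = x * a := by rw [h3]
      intro x y
      rw [h1 x, h1 y]
    · exact ⟨⟨1, fun a => Subtype.ext (by rw [hsm]; simp)⟩⟩
  rw [hfix] at key
  intro hd
  have := (Nat.ModEq.dvd_iff key (dvd_refl p)).1 hd
  exact h.hp.one_lt.ne' (Nat.dvd_one.1 this)

theorem FpfSetting.coprime [Finite Γ] (h : FpfSetting G A p) :
    (Nat.card A).Coprime (Nat.card G) := by
  rw [h.hAcard]
  exact Nat.Coprime.pow_left 2 ((Nat.Prime.coprime_iff_not_dvd h.hp).2 h.not_dvd)

theorem FpfSetting.quot [Finite Γ] (h : FpfSetting G A p) (V : Subgroup Γ) [V.Normal]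
    (hVG : V ≤ G) :
    FpfSetting (G.map (QuotientGroup.mk' V)) (A.map (QuotientGroup.mk' V)) p := by
  have hGn := h.hGn
  have hsolv := h.hsolv
  refine ⟨h.hp, Subgroup.Normal.map hGn _ (QuotientGroup.mk'_surjective V), ?_, ?_, ?_, ?_, ?_⟩
  · exact Group.isSolvable_of_surjective (MonoidHom.subgroupMap_surjective (QuotientGroup.mk' V) G)
  · rintro _ ⟨a, ha, rfl⟩ _ ⟨b, hb, rfl⟩
    rw [← map_mul, ← map_mul, h.hAc a ha b hb]
  · rintro _ ⟨a, ha, rfl⟩
    rw [← map_pow, h.hAp a ha, map_one]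
  · rw [← h.hAcard]
    have hinj : Function.Injective ((QuotientGroup.mk' V).comp A.subtype) := by
      rw [← MonoidHom.ker_eq_bot_iff, eq_bot_iff]
      intro x hx
      rw [MonoidHom.mem_ker] at hx
      have h1 : (x : Γ) ∈ V := by
        have : (QuotientGroup.mk' V) (x : Γ) = 1 := hx
        rwa [QuotientGroup.mk'_apply, QuotientGroup.eq_one_iff] at this
      have h2 : (x : Γ) ∈ A ⊓ G := ⟨x.2, hVG h1⟩
      rw [h.inf_eq_bot] at h2
      exact Subtype.ext h2
    have e : A.map (QuotientGroup.mk' V) = ((QuotientGroup.mk' V).comp A.subtype).range := by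
      rw [MonoidHom.range_comp, Subgroup.range_subtype]
    rw [e]
    exact (Nat.card_congr (MonoidHom.ofInjective hinj).toEquiv).symm
  · rintro _ ⟨g, hg, rfl⟩ hfix
    have hfix' : ∀ a ∈ A, a * g * a⁻¹ * g⁻¹ ∈ V := by
      intro a ha
      have h1 := hfix _ (Subgroup.mem_map_of_mem _ ha)
      rw [← QuotientGroup.eq_one_iff, ← QuotientGroup.mk'_apply]
      rw [map_mul, map_mul, map_mul, map_inv, map_inv, h1]
      group
    obtain ⟨c, hc, hcV⟩ := Cfsg.Agent.Lib.Lead.coprime_fixed_coset A G (h.le_normalizer A)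
      h.coprime (Or.inr hsolv) V hVG
      (by rw [Subgroup.normalizer_eq_top]; exact le_top)
      (by rw [Subgroup.normalizer_eq_top]; exact le_top) g hg hfix'
    have hc1 : c = 1 := by
      apply h.hfpf c hc.1
      intro a ha
      exact (Subgroup.mem_centralizer_iff.1 hc.2) a ha
    rw [hc1, mul_one] at hcV
    have : g ∈ V := by simpa using V.inv_mem hcV
    rw [QuotientGroup.mk'_apply, QuotientGroup.eq_one_iff]
    exact this

theorem zpowers_eq_of_mem [Finite Γ] (hp : p.Prime) {b b' : Γ} (hbp : b ^ p = 1) (hb'1 : b' ≠ 1)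
    (h : b' ∈ Subgroup.zpowers b) : Subgroup.zpowers b' = Subgroup.zpowers b := by
  have hle : Subgroup.zpowers b' ≤ Subgroup.zpowers b := Subgroup.zpowers_le.2 h
  have h1 : orderOf b ∣ p := orderOf_dvd_of_pow_eq_one hbp
  have hb'p : b' ^ p = 1 := by
    obtain ⟨k, rfl⟩ := Subgroup.mem_zpowers_iff.1 h
    rw [← zpow_natCast, ← zpow_mul, mul_comm, zpow_mul, zpow_natCast, hbp, one_zpow]
  have h2 : orderOf b' ∣ p := orderOf_dvd_of_pow_eq_one hb'p
  have h3 : orderOf b' = p := by
    rcases (Nat.dvd_prime hp).1 h2 with h4 | h4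
    · exact absurd (orderOf_eq_one_iff.1 h4) hb'1
    · exact h4
  apply Subgroup.eq_of_le_of_card_ge hle
  rw [Nat.card_zpowers, Nat.card_zpowers, h3]
  exact Nat.le_of_dvd hp.pos h1

theorem FpfSetting.card_zpowers (h : FpfSetting G A p) {b : Γ} (hb : b ∈ A) (hb1 : b ≠ 1) :
    Nat.card (Subgroup.zpowers b) = p := by
  rw [Nat.card_zpowers]
  have h1 : orderOf b ∣ p := orderOf_dvd_of_pow_eq_one (h.hAp b hb)
  rcases (Nat.dvd_prime h.hp).1 h1 with h2 | h2
  · exact absurd (orderOf_eq_one_iff.1 h2) hb1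
  · exact h2

theorem FpfSetting.exists_gen [Finite Γ] (h : FpfSetting G A p) {b : Γ} (hb : b ∈ A)
    (hb1 : b ≠ 1) :
    ∃ a ∈ A, a ∉ Subgroup.zpowers b ∧ Subgroup.zpowers b ⊔ Subgroup.zpowers a = A := by
  have hle : Subgroup.zpowers b ≤ A := Subgroup.zpowers_le.2 hb
  have hex : ∃ a ∈ A, a ∉ Subgroup.zpowers b := by
    by_contra hcon
    push Not at hcon
    have h1 : A ≤ Subgroup.zpowers b := hcon
    have h2 := Subgroup.card_le_of_le h1
    rw [h.card_zpowers hb hb1, h.hAcard] at h2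
    have := h.hp.one_lt
    nlinarith
  obtain ⟨a, ha, hna⟩ := hex
  refine ⟨a, ha, hna, ?_⟩
  apply sup_eq_of_hyp h.hp hle (by rw [h.card_zpowers hb hb1, h.hAcard, sq])
    (Subgroup.zpowers_le.2 ha)
  intro hle'
  exact hna (hle' (Subgroup.mem_zpowers a))

/-- Thompson: the centraliser in `G` of a nonidentity element of `A` is nilpotent. -/
theorem FpfSetting.cent_nilpotent [Finite Γ] (h : FpfSetting G A p) {b : Γ} (hb : b ∈ A)
    (hb1 : b ≠ 1) : Group.IsNilpotent ↥(G ⊓ Subgroup.centralizer ({b} : Set Γ)) := by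
  have hGn := h.hGn
  obtain ⟨a, ha, hna, hgen⟩ := h.exists_gen hb hb1
  have ha1 : a ≠ 1 := by
    intro e
    rw [e] at hna
    exact hna (Subgroup.one_mem _)
  have hzA : Subgroup.zpowers a ≤ A := Subgroup.zpowers_le.2 ha
  apply Cfsg.Agent.Lib.Helper4.FM.nilpotent_of_fpf_action
    (G ⊓ Subgroup.centralizer ({b} : Set Γ)) (Subgroup.zpowers a)
  · intro e
    apply ha1
    have : a ∈ Subgroup.zpowers a := Subgroup.mem_zpowers a
    rw [e] at this
    exact this
  · intro e he u hu
    refine Subgroup.mem_inf.2 ⟨hGn.conj_mem u hu.1 e, ?_⟩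
    rw [Subgroup.mem_centralizer_iff]
    intro x hx
    rw [Set.mem_singleton_iff] at hx
    subst hx
    have h1 : x * u = u * x := (Subgroup.mem_centralizer_iff.1 hu.2) x rfl
    have h2 : e * x = x * e := h.hAc e (hzA he) x hb
    have h3 : e⁻¹ * x = x * e⁻¹ := by
      have : Commute e x := h2
      exact this.inv_left.eq
    calc x * (e * u * e⁻¹) = (x * e) * u * e⁻¹ := by group
      _ = e * (x * u) * e⁻¹ := by rw [← h2]; group
      _ = e * (u * x) * e⁻¹ := by rw [h1]
      _ = e * u * (x * e⁻¹) := by group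
      _ = e * u * (e⁻¹ * x) := by rw [h3]
      _ = e * u * e⁻¹ * x := by group
  · intro e he he1 u hu heu
    apply h.hfpf u hu.1
    have hze : Subgroup.zpowers e = Subgroup.zpowers a :=
      zpowers_eq_of_mem h.hp (h.hAp a ha) he1 he
    have h1 : Subgroup.zpowers e ≤ Subgroup.centralizer ({u} : Set Γ) := by
      rw [Subgroup.zpowers_le, Subgroup.mem_centralizer_iff]
      intro x hx
      rw [Set.mem_singleton_iff] at hx
      subst hx
      exact heu.symm
    have h2 : Subgroup.zpowers b ≤ Subgroup.centralizer ({u} : Set Γ) := by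
      rw [Subgroup.zpowers_le, Subgroup.mem_centralizer_iff]
      intro x hx
      rw [Set.mem_singleton_iff] at hx
      subst hx
      exact ((Subgroup.mem_centralizer_iff.1 hu.2) b rfl).symm
    have h3 : A ≤ Subgroup.centralizer ({u} : Set Γ) := by
      rw [← hgen, ← hze]
      exact sup_le h2 h1
    intro a' ha'
    exact ((Subgroup.mem_centralizer_iff.1 (h3 ha')) u rfl).symm

end setting

section nilp

variable {N : Type w} [Group N] [Finite N]

/-- in a finite nilpotent group, elements of prime power order for different primes commute. -/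
theorem commute_of_nilpotent [hN : Group.IsNilpotent N] {l r : ℕ} (hl : l.Prime) (hr : r.Prime)
    (hlr : l ≠ r) {x y : N} {m m' : ℕ} (hx : x ^ (l ^ m) = 1) (hy : y ^ (r ^ m') = 1) :
    x * y = y * x := by
  have : Fact l.Prime := ⟨hl⟩
  have : Fact r.Prime := ⟨hr⟩
  have hzx : IsPGroup l (Subgroup.zpowers x) := by
    rintro ⟨g, hg⟩
    obtain ⟨k, rfl⟩ := Subgroup.mem_zpowers_iff.1 hg
    refine ⟨m, Subtype.ext ?_⟩
    show (x ^ k) ^ (l ^ m) = 1
    rw [← zpow_natCast, ← zpow_mul, mul_comm, zpow_mul, zpow_natCast, hx, one_zpow]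
  have hzy : IsPGroup r (Subgroup.zpowers y) := by
    rintro ⟨g, hg⟩
    obtain ⟨k, rfl⟩ := Subgroup.mem_zpowers_iff.1 hg
    refine ⟨m', Subtype.ext ?_⟩
    show (y ^ k) ^ (r ^ m') = 1
    rw [← zpow_natCast, ← zpow_mul, mul_comm, zpow_mul, zpow_natCast, hy, one_zpow]
  obtain ⟨P, hP⟩ := hzx.exists_le_sylow
  obtain ⟨P', hP'⟩ := hzy.exists_le_sylow
  have hdis := IsPGroup.disjoint_of_ne l r hlr (P : Subgroup N) (P' : Subgroup N) P.2 P'.2
  exact (Subgroup.commute_of_normal_of_disjoint (P : Subgroup N) (P' : Subgroup N)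
    inferInstance inferInstance hdis x y (hP (Subgroup.mem_zpowers x))
    (hP' (Subgroup.mem_zpowers y))).eq

end nilp

section setting2

variable {Γ : Type w} [Group Γ] [Finite Γ] {G A : Subgroup Γ} {p : ℕ}

theorem FpfSetting.commute_of_cent (h : FpfSetting G A p) {b : Γ} (hb : b ∈ A) (hb1 : b ≠ 1)
    {x y : Γ} (hx : x ∈ G) (hy : y ∈ G) (hxb : x * b = b * x) (hyb : y * b = b * y)
    {l r : ℕ} (hl : l.Prime) (hr : r.Prime) (hlr : l ≠ r) {m m' : ℕ}
    (hxl : x ^ (l ^ m) = 1) (hyr : y ^ (r ^ m') = 1) : x * y = y * x := by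
  have hnil := h.cent_nilpotent hb hb1
  have hxm : x ∈ G ⊓ Subgroup.centralizer ({b} : Set Γ) := by
    refine Subgroup.mem_inf.2 ⟨hx, ?_⟩
    rw [Subgroup.mem_centralizer_iff]
    intro z hz
    rw [Set.mem_singleton_iff] at hz
    subst hz
    exact hxb.symm
  have hym : y ∈ G ⊓ Subgroup.centralizer ({b} : Set Γ) := by
    refine Subgroup.mem_inf.2 ⟨hy, ?_⟩
    rw [Subgroup.mem_centralizer_iff]
    intro z hz
    rw [Set.mem_singleton_iff] at hz
    subst hz
    exact hyb.symm
  have := commute_of_nilpotent (N := ↥(G ⊓ Subgroup.centralizer ({b} : Set Γ))) hl hr hlr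
    (x := ⟨x, hxm⟩) (y := ⟨y, hym⟩) (m := m) (m' := m') (Subtype.ext hxl) (Subtype.ext hyr)
  exact congrArg Subtype.val this

end setting2

end Cfsg.Agent.Lib.Helper8.Ward
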