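import Mathlib
import Cfsg.Agent.Lib.Helper8.WardD
import Cfsg.Agent.Lib.Helper8.WardF
import Cfsg.Agent.Lib.Helper8.WardG
import Cfsg.Agent.Lib.Lead.CoprimeSylow3

/-!
# Ward's theorem, part H: the module step
-/

set_option autoImplicit false
set_option linter.unusedSectionVars false
set_option linter.unusedVariables false

namespace Cfsg.Agent.Lib.Helper8.Ward

open scoped commutatorElement

universe u w

section modstep

variable {V : Type u} [AddCommGroup V] [Finite V] {T : Type w} [Group T] [Finite T]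
  [DistribMulAction T V]

theorem prime_dvd_card_of_isPGroup_ne_bot {l : ℕ} [Fact l.Prime] {Q : Subgroup T}
    (hQ : IsPGroup l Q) (hne : Q ≠ ⊥) : l ∣ Nat.card Q := by
  obtain ⟨k, hk⟩ := IsPGroup.iff_card.1 hQ
  rcases Nat.eq_zero_or_pos k with h0 | h0
  · exfalso
    rw [h0, pow_zero] at hk
    exact hne (Subgroup.card_eq_one.1 hk)
  · rw [hk]
    exact dvd_pow_self l h0.ne'

/-- a normal `s`-subgroup acting faithfully on an irreducible `s`-module is trivial. -/
theorem normal_sgroup_eq_bot {G : Subgroup T} {s : ℕ} (hs : s.Prime) {m : ℕ}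
    (hVs : Nat.card V = s ^ m)
    (hfaith : ∀ x ∈ G, (∀ v : V, x • v = v) → x = 1)
    (hirr : ∀ U : AddSubgroup V, (∀ t : T, ∀ u ∈ U, t • u ∈ U) → U = ⊥ ∨ U = ⊤)
    {Q : Subgroup T} (hQG : Q ≤ G) [hQn : Q.Normal] (hQ : IsPGroup s Q) : Q = ⊥ := by
  have : Fact s.Prime := ⟨hs⟩
  rw [eq_bot_iff]
  intro q hq
  rw [Subgroup.mem_bot]
  apply hfaith q (hQG hq)
  rcases Nat.eq_zero_or_pos m with hm | hm
  · rw [hm, pow_zero] at hVs
    have : Subsingleton V := (Nat.card_eq_one_iff_unique.1 hVs).1
    intro v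
    exact Subsingleton.elim _ _
  · let U : AddSubgroup V :=
      { carrier := {v | ∀ q ∈ Q, q • v = v}
        zero_mem' := fun q _ => smul_zero q
        add_mem' := fun {a b} ha hb q hq => by
          show q • (a + b) = a + b
          rw [smul_add, ha q hq, hb q hq]
        neg_mem' := fun {a} ha q hq => by
          show q • (-a) = -a
          rw [smul_neg, ha q hq] }
    have hUinv : ∀ t : T, ∀ u ∈ U, t • u ∈ U := by
      intro t u hu q hq
      have h1 : t⁻¹ * q * t ∈ Q := by
        have := hQn.conj_mem q hq t⁻¹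
        rwa [inv_inv] at this
      have h2 := hu _ h1
      calc q • t • u = t • (t⁻¹ * q * t) • u := by
            rw [← mul_smul, ← mul_smul]
            congr 1
            group
        _ = t • u := by rw [h2]
    have hUne : U ≠ ⊥ := by
      have hdvd : s ∣ Nat.card V := by
        rw [hVs]
        exact dvd_pow_self s hm.ne'
      have h0 : (0 : V) ∈ MulAction.fixedPoints Q V := fun q => smul_zero q
      obtain ⟨b, hb, hb0⟩ := hQ.exists_fixed_point_of_prime_dvd_card_of_fixed_point V hdvd h0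
      intro hU
      have hbU : b ∈ U := fun q hq => hb ⟨q, hq⟩
      rw [hU, AddSubgroup.mem_bot] at hbU
      exact hb0 hbU.symm
    rcases hirr U hUinv with h | h
    · exact absurd h hUne
    · intro v
      have : v ∈ U := by rw [h]; exact AddSubgroup.mem_top v
      exact this q hq

/-- Theorem T: the module step of the induction. -/
theorem thmT {G A : Subgroup T} {p s : ℕ} (hS : FpfSetting G A p) (hs : s.Prime) {m : ℕ}
    (hVs : Nat.card V = s ^ m)
    (hfaith : ∀ x ∈ G, (∀ v : V, x • v = v) → x = 1)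
    (hirr : ∀ U : AddSubgroup V, (∀ t : T, ∀ u ∈ U, t • u ∈ U) → U = ⊥ ∨ U = ⊤)
    {n k : ℕ} (hmeta : (G.lowerCentralSeries n).lowerCentralSeries k = ⊥)
    (h6a : ∀ b ∈ A, b ≠ 1 → ∀ x ∈ G, ∀ l : ℕ, l.Prime → l ≠ s → ∀ e : ℕ, x ^ (l ^ e) = 1 →
      x * b = b * x → ∀ v : V, b • v = v → x • v = v) :
    ∃ c : ℕ, G.lowerCentralSeries c = ⊥ := by
  have hGn := hS.hGn
  have hNn : (G.lowerCentralSeries n).Normal := inferInstance
  have hNG : G.lowerCentralSeries n ≤ G := Subgroup.lowerCentralSeries_le_self G n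
  apply lcs_eq_bot_of_sylow G n
  intro r hr
  obtain ⟨P, hP⟩ := Cfsg.Agent.Lib.Lead.coprime_invariant_sylow_exists A G (hS.le_normalizer A)
    hS.coprime (Or.inr hS.hsolv) r
  refine ⟨P, ?_⟩
  have hRG : (P : Subgroup G).map G.subtype ≤ G := Subgroup.map_subtype_le _
  have hRr : IsPGroup r ((P : Subgroup G).map G.subtype) := P.2.map _
  apply le_of_sylows_le
  intro l hl
  have : Fact l.Prime := ⟨hl⟩
  obtain ⟨Q, hQN, hQn, hQl, hQc⟩ := exists_normal_sylow_of_nilpotent (G.lowerCentralSeries n) hmeta l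
  refine ⟨Q, hQN, ?_, hQc⟩
  have hQG : Q ≤ G := hQN.trans hNG
  by_cases hlr : l = r
  · subst hlr
    exact (normal_pgroup_le_sylow G P hQG hQl).trans Subgroup.le_normalizer
  by_cases hls : l = s
  · subst hls
    rw [normal_sgroup_eq_bot hs hVs hfaith hirr hQG hQl]
    exact bot_le
  by_cases hQ1 : Q = ⊥
  · rw [hQ1]; exact bot_le
  by_cases hR1 : (P : Subgroup G).map G.subtype = ⊥
  · rw [hR1, Subgroup.normalizer_eq_top]
    exact le_top
  have hnd := hS.not_dvd
  have hpl : p ≠ l := by
    intro e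
    apply hnd
    rw [e]
    exact (prime_dvd_card_of_isPGroup_ne_bot hQl hQ1).trans (Subgroup.card_dvd_of_le hQG)
  have hpr : p ≠ r := by
    intro e
    apply hnd
    rw [e]
    exact (prime_dvd_card_of_isPGroup_ne_bot hRr hR1).trans (Subgroup.card_dvd_of_le hRG)
  have hQtop : ∀ H : Subgroup T, H ≤ Subgroup.normalizer (Q : Set T) := by
    intro H
    rw [Subgroup.normalizer_eq_top]
    exact le_top
  have cfg : Cfg V p l r Q ((P : Subgroup G).map G.subtype) A :=
    { hp := hS.hp
      hl := hl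
      hr := hr.out
      hlr := hlr
      hpl := hpl
      hpr := hpr
      hVl := by
        rw [hVs]
        exact Nat.Coprime.pow_left m ((Nat.coprime_primes hs hl).2 (Ne.symm hls))
      hAc := hS.hAc
      hAp := hS.hAp
      hAcard := hS.hAcard
      hQ := hQl
      hR := hRr
      hRQ := hQtop _
      hAQ := hQtop _
      hAR := hP
      hfQ := by
        rw [eq_bot_iff]
        intro x hx
        rw [Subgroup.mem_bot]
        exact hS.hfpf x (hQG hx.1) (fun a ha => (Subgroup.mem_centralizer_iff.1 hx.2) a ha)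
      hfR := by
        rw [eq_bot_iff]
        intro x hx
        rw [Subgroup.mem_bot]
        exact hS.hfpf x (hRG hx.1) (fun a ha => (Subgroup.mem_centralizer_iff.1 hx.2) a ha)
      hfaith := fun q hq => hfaith q (hQG hq)
      h6a := by
        intro b hb hb1 q hq hqb v hv
        obtain ⟨e, he⟩ := hQl ⟨q, hq⟩
        have he' : q ^ (l ^ e) = 1 := congrArg Subtype.val he
        exact h6a b hb hb1 q (hQG hq) l hl hls e he' hqb v hv
      h6b := by
        intro b hb hb1 q hq hqb x hx hxb
        obtain ⟨e, he⟩ := hQl ⟨q, hq⟩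
        have he' : q ^ (l ^ e) = 1 := congrArg Subtype.val he
        obtain ⟨e2, he2⟩ := hRr ⟨x, hx⟩
        have he2' : x ^ (r ^ e2) = 1 := congrArg Subtype.val he2
        exact hS.commute_of_cent hb hb1 (hQG hq) (hRG hx) hqb hxb hl hr.out hlr he' he2' }
  have h1 := thmE _ Q _ rfl cfg
  rw [Subgroup.le_centralizer_iff] at h1
  exact h1.trans (Subgroup.centralizer_le_normalizer _)

end modstep

end Cfsg.Agent.Lib.Helper8.Ward
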