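import Mathlib
import Cfsg.Agent.Lib.Helper8.WardF

/-!
# Ward's theorem, part I: the conjugation module of an abelian normal subgroup, and lifting
-/

set_option autoImplicit false
set_option linter.unusedSectionVars false
set_option linter.unusedVariables false

namespace Cfsg.Agent.Lib.Helper8.Ward

open scoped commutatorElement

universe w

section action

variable {Γ : Type w} [Group Γ]

/-- hypotheses making `V` a module for `Γ ⧸ K`. -/
structure ModHyp (V K : Subgroup Γ) : Prop where
  hVc : ∀ x ∈ V, ∀ y ∈ V, x * y = y * x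
  hKV : ∀ k ∈ K, ∀ v ∈ V, k * v = v * k

variable {V K : Subgroup Γ}

/-- the abelian normal subgroup `V` written additively. -/
def VMod (h : ModHyp V K) : Type w := Additive ↥V

/-- constructor. -/
def VMod.mk (h : ModHyp V K) (v : ↥V) : VMod h := Additive.ofMul v

/-- destructor. -/
def VMod.val {h : ModHyp V K} (x : VMod h) : ↥V := Additive.toMul x

instance instAddGroupVMod (h : ModHyp V K) : AddGroup (VMod h) :=
  inferInstanceAs (AddGroup (Additive ↥V))

instance instAddCommGroupVMod (h : ModHyp V K) : AddCommGroup (VMod h) :=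
  { instAddGroupVMod h with
    add_comm := fun a b => by
      have : (Additive.toMul a : ↥V) * Additive.toMul b = Additive.toMul b * Additive.toMul a :=
        Subtype.ext (h.hVc _ (Additive.toMul a).2 _ (Additive.toMul b).2)
      exact congrArg Additive.ofMul this }

@[simp] theorem VMod.val_mk (h : ModHyp V K) (v : ↥V) : (VMod.mk h v).val = v := rfl
@[simp] theorem VMod.mk_val {h : ModHyp V K} (x : VMod h) : VMod.mk h x.val = x := rfl
@[simp] theorem VMod.val_zero (h : ModHyp V K) : (0 : VMod h).val = 1 := rfl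
@[simp] theorem VMod.val_add {h : ModHyp V K} (x y : VMod h) : (x + y).val = x.val * y.val := rfl
@[simp] theorem VMod.val_neg {h : ModHyp V K} (x : VMod h) : (-x).val = (x.val)⁻¹ := rfl

theorem VMod.ext {h : ModHyp V K} {x y : VMod h} (e : x.val = y.val) : x = y := e

theorem VMod.val_injective (h : ModHyp V K) : Function.Injective (VMod.val (h := h)) :=
  fun _ _ e => e

instance instFiniteVMod [Finite Γ] (h : ModHyp V K) : Finite (VMod h) :=
  inferInstanceAs (Finite (Additive ↥V))

theorem VMod.card (h : ModHyp V K) : Nat.card (VMod h) = Nat.card V := rfl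

variable [hVn : V.Normal] [hKn : K.Normal]

/-- conjugation by `g` on the module. -/
def conjEnd (h : ModHyp V K) (g : Γ) : VMod h →+ VMod h where
  toFun x := VMod.mk h ⟨g * (x.val : Γ) * g⁻¹, hVn.conj_mem _ x.val.2 g⟩
  map_zero' := by
    apply VMod.ext
    apply Subtype.ext
    simp
  map_add' x y := by
    apply VMod.ext
    apply Subtype.ext
    simp

theorem conjEnd_val (h : ModHyp V K) (g : Γ) (x : VMod h) :
    ((conjEnd h g x).val : Γ) = g * (x.val : Γ) * g⁻¹ := rfl

/-- the conjugation action as a homomorphism. -/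
def conjHom (h : ModHyp V K) : Γ →* AddMonoid.End (VMod h) where
  toFun := conjEnd h
  map_one' := by
    apply AddMonoidHom.ext
    intro x
    apply VMod.ext
    apply Subtype.ext
    show ((conjEnd h 1 x).val : Γ) = (x.val : Γ)
    rw [conjEnd_val]
    simp
  map_mul' a b := by
    apply AddMonoidHom.ext
    intro x
    apply VMod.ext
    apply Subtype.ext
    show ((conjEnd h (a * b) x).val : Γ) = ((conjEnd h a (conjEnd h b x)).val : Γ)
    rw [conjEnd_val, conjEnd_val, conjEnd_val]
    group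

theorem le_ker_conjHom (h : ModHyp V K) : K ≤ (conjHom h).ker := by
  intro k hk
  rw [MonoidHom.mem_ker]
  apply AddMonoidHom.ext
  intro x
  apply VMod.ext
  apply Subtype.ext
  show ((conjEnd h k x).val : Γ) = (x.val : Γ)
  rw [conjEnd_val, h.hKV k hk _ x.val.2]
  group

instance instDistribMulActionVMod (h : ModHyp V K) : DistribMulAction (Γ ⧸ K) (VMod h) :=
  DistribMulAction.compHom (VMod h) (QuotientGroup.lift K (conjHom h) (le_ker_conjHom h))

theorem mk_smul_val (h : ModHyp V K) (g : Γ) (x : VMod h) :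
    ((((QuotientGroup.mk' K g) • x : VMod h).val : ↥V) : Γ) = g * (x.val : Γ) * g⁻¹ := rfl

end action

section lifting

variable {Γ : Type w} [Group Γ] [Finite Γ] {G A : Subgroup Γ} {p : ℕ}

/-- lifting an `l`-element of `C_{G/K}(b)` to an `l`-element of `C_G(b)`. -/
theorem FpfSetting.lift_lelement (hS : FpfSetting G A p) (K : Subgroup Γ) [hKn : K.Normal]
    (hKG : K ≤ G) {b : Γ} (hb : b ∈ A) {g : Γ} (hg : g ∈ G) {l e : ℕ} (hl : l.Prime)
    (hcomm : (QuotientGroup.mk' K g) * (QuotientGroup.mk' K b) =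
      (QuotientGroup.mk' K b) * (QuotientGroup.mk' K g))
    (hpow : (QuotientGroup.mk' K g) ^ (l ^ e) = 1) :
    ∃ x ∈ G, x * b = b * x ∧ (∃ e' : ℕ, x ^ (l ^ e') = 1) ∧
      QuotientGroup.mk' K x = QuotientGroup.mk' K g := by
  have hzA : Subgroup.zpowers b ≤ A := Subgroup.zpowers_le.2 hb
  have hcop : (Nat.card (Subgroup.zpowers b)).Coprime (Nat.card G) :=
    Nat.Coprime.coprime_dvd_left (Subgroup.card_dvd_of_le hzA) hS.coprime
  have hfix : ∀ a ∈ Subgroup.zpowers b, a * g * a⁻¹ * g⁻¹ ∈ K := by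
    intro a ha
    obtain ⟨j, rfl⟩ := Subgroup.mem_zpowers_iff.1 ha
    rw [← QuotientGroup.eq_one_iff, ← QuotientGroup.mk'_apply]
    have hc : Commute (QuotientGroup.mk' K b) (QuotientGroup.mk' K g) := hcomm.symm
    have hc2 : Commute ((QuotientGroup.mk' K b) ^ j) (QuotientGroup.mk' K g) := hc.zpow_left j
    rw [map_mul, map_mul, map_mul, map_inv, map_inv, map_zpow, hc2.eq]
    group
  obtain ⟨c, hc, hcK⟩ := Cfsg.Agent.Lib.Lead.coprime_fixed_coset (Subgroup.zpowers b) G
    (hS.le_normalizer _) hcop (Or.inr hS.hsolv) K hKG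
    (by rw [Subgroup.normalizer_eq_top]; exact le_top)
    (by rw [Subgroup.normalizer_eq_top]; exact le_top) g hg hfix
  have hcg : QuotientGroup.mk' K c = QuotientGroup.mk' K g := by
    have : (QuotientGroup.mk' K) (g⁻¹ * c) = 1 := by
      rw [QuotientGroup.mk'_apply, QuotientGroup.eq_one_iff]; exact hcK
    rw [map_mul, map_inv] at this
    have h2 := congrArg (fun t => (QuotientGroup.mk' K g) * t) this
    simpa using h2
  have hcb : c * b = b * c :=
    ((Subgroup.mem_centralizer_iff.1 hc.2) b (Subgroup.mem_zpowers b)).symm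
  -- the `l`-part of `c`
  obtain ⟨f, m', hm', hN⟩ := Nat.exists_eq_pow_mul_and_not_dvd (orderOf_pos c).ne' l hl.ne_one
  have hcop2 : Nat.Coprime m' (l ^ e) :=
    Nat.Coprime.pow_right e ((Nat.Prime.coprime_iff_not_dvd hl).2 hm').symm
  obtain ⟨u, v, huv⟩ := (Nat.isCoprime_iff_coprime.2 hcop2 : IsCoprime (m' : ℤ) ((l ^ e : ℕ) : ℤ))
  refine ⟨c ^ ((m' : ℤ) * u), Subgroup.zpow_mem _ hc.1 _, ?_, ⟨f, ?_⟩, ?_⟩
  · have hc' : Commute c b := hcb
    exact (hc'.zpow_left _).eq
  · rw [← zpow_natCast, ← zpow_mul]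
    have e1 : (m' : ℤ) * u * ((l ^ f : ℕ) : ℤ) = ((orderOf c : ℕ) : ℤ) * u := by
      rw [hN]; push_cast; ring
    rw [e1, zpow_mul, zpow_natCast, pow_orderOf_eq_one, one_zpow]
  · rw [map_zpow, hcg]
    have e1 : (m' : ℤ) * u = 1 - v * ((l ^ e : ℕ) : ℤ) := by linarith
    rw [e1, zpow_sub, zpow_one, mul_comm v, zpow_mul, zpow_natCast, hpow, one_zpow, inv_one,
      mul_one]

end lifting

end Cfsg.Agent.Lib.Helper8.Ward
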