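import Mathlib
import Cfsg.Agent.Lib.Helper8.WardH
import Cfsg.Agent.Lib.Helper8.WardI

/-!
# Ward's theorem, part J: the induction
-/

set_option autoImplicit false
set_option linter.unusedSectionVars false
set_option linter.unusedVariables false

namespace Cfsg.Agent.Lib.Helper8.Ward

open scoped commutatorElement

universe w

section minimal

variable {Γ : Type w} [Group Γ] [Finite Γ]

/-- a minimal normal subgroup of `Γ` inside `G`. -/
structure MinNormal (G V : Subgroup Γ) : Prop where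
  hVn : V.Normal
  hVG : V ≤ G
  hV1 : V ≠ ⊥
  hmin : ∀ W : Subgroup Γ, W.Normal → W ≤ V → W ≠ ⊥ → W = V

theorem exists_minNormal (G : Subgroup Γ) [hGn : G.Normal] (hG : G ≠ ⊥) :
    ∃ V : Subgroup Γ, MinNormal G V := by
  let S : Set (Subgroup Γ) := {W | W.Normal ∧ W ≤ G ∧ W ≠ ⊥}
  have hne : S.Nonempty := ⟨G, hGn, le_rfl, hG⟩
  obtain ⟨V, hVS, hVmin⟩ :=
    WellFounded.has_min (measure fun W : Subgroup Γ => Nat.card W).wf S hne
  refine ⟨V, hVS.1, hVS.2.1, hVS.2.2, ?_⟩
  intro W hWn hWV hW1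
  have hWS : W ∈ S := ⟨hWn, hWV.trans hVS.2.1, hW1⟩
  have h1 := hVmin W hWS
  have h2 : ¬ Nat.card W < Nat.card V := h1
  exact Subgroup.eq_of_le_of_card_ge hWV (not_lt.1 h2)

variable {G V : Subgroup Γ}

theorem MinNormal.abelian (h : MinNormal G V) (hsolv : Group.IsSolvable G) :
    ∀ x ∈ V, ∀ y ∈ V, x * y = y * x := by
  have hVn := h.hVn
  have hsV : Group.IsSolvable V := Cfsg.Agent.Lib.Lead.isSolvable_of_le h.hVG
  have hle : ⁅V, V⁆ ≤ V := Subgroup.commutator_le_right V V
  have hbot : ⁅V, V⁆ = ⊥ := by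
    by_contra hne
    exact commutator_ne_of_solvable V h.hV1 hsV (h.hmin _ inferInstance hle hne)
  rw [Subgroup.commutator_eq_bot_iff_le_centralizer] at hbot
  intro x hx y hy
  exact ((Subgroup.mem_centralizer_iff.1 (hbot hx)) y hy).symm

theorem MinNormal.exponent (h : MinNormal G V) (hab : ∀ x ∈ V, ∀ y ∈ V, x * y = y * x) :
    ∃ s : ℕ, s.Prime ∧ ∀ v ∈ V, v ^ s = 1 := by
  have hVn := h.hVn
  have hc1 : Nat.card V ≠ 1 := fun e => h.hV1 (Subgroup.card_eq_one.1 e)
  have hs := Nat.minFac_prime hc1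
  have : Fact (Nat.card V).minFac.Prime := ⟨hs⟩
  obtain ⟨x, hx⟩ := exists_prime_orderOf_dvd_card' (G := V) _ (Nat.minFac_dvd _)
  refine ⟨(Nat.card V).minFac, hs, ?_⟩
  set s := (Nat.card V).minFac with hsdef
  let W : Subgroup Γ :=
    { carrier := {v | v ∈ V ∧ v ^ s = 1}
      one_mem' := ⟨V.one_mem, one_pow _⟩
      mul_mem' := fun {a b} ha hb => by
        refine ⟨V.mul_mem ha.1 hb.1, ?_⟩
        have hc : Commute a b := hab a ha.1 b hb.1
        rw [hc.mul_pow, ha.2, hb.2, one_mul]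
      inv_mem' := fun {a} ha => ⟨V.inv_mem ha.1, by rw [inv_pow, ha.2, inv_one]⟩ }
  have hWn : W.Normal := by
    constructor
    intro n hn g
    refine ⟨hVn.conj_mem n hn.1 g, ?_⟩
    rw [conj_pow, hn.2]
    simp
  have hWV : W ≤ V := fun v hv => hv.1
  have hW1 : W ≠ ⊥ := by
    intro e
    have hxW : (x : Γ) ∈ W := by
      refine ⟨x.2, ?_⟩
      have := pow_orderOf_eq_one x
      rw [hx] at this
      have h2 := congrArg Subtype.val this
      rwa [Subgroup.coe_pow] at h2
    rw [e, Subgroup.mem_bot] at hxW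
    have : x = 1 := Subtype.ext hxW
    rw [this, orderOf_one] at hx
    exact hs.one_lt.ne hx
  have hWeq := h.hmin W hWn hWV hW1
  intro v hv
  rw [← hWeq] at hv
  exact hv.2

end minimal

section main

/-- the internal form of Ward's theorem. -/
theorem metaNilp_of_fpf : ∀ (n : ℕ) (Γ : Type w) [Group Γ] [Finite Γ] (G A : Subgroup Γ) (p : ℕ),
    Nat.card Γ = n → FpfSetting G A p → MetaNilp G := by
  intro n
  induction n using Nat.strong_induction_on with
  | _ n ih =>
  intro Γ _ _ G A p hn hS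
  have hGn := hS.hGn
  by_cases hG : G = ⊥
  · exact ⟨0, 0, by simpa using hG⟩
  obtain ⟨V, hmn⟩ := exists_minNormal G hG
  have hVn := hmn.hVn
  have hVG := hmn.hVG
  have hV1 := hmn.hV1
  have hVab := hmn.abelian hS.hsolv
  obtain ⟨s, hs, hVs⟩ := hmn.exponent hVab
  have : Fact s.Prime := ⟨hs⟩
  -- induction hypothesis on the quotient
  have hlt : Nat.card (Γ ⧸ V) < n := by
    rw [← hn, ← Subgroup.index_eq_card, ← V.card_mul_index]
    have h1 : 1 < Nat.card V := (Subgroup.one_lt_card_iff_ne_bot V).2 hV1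
    have h2 : 0 < V.index := Nat.pos_of_ne_zero Subgroup.index_ne_zero_of_finite
    nlinarith
  have hq := ih _ hlt (Γ ⧸ V) (G.map (QuotientGroup.mk' V)) (A.map (QuotientGroup.mk' V)) p rfl
    (hS.quot V hVG)
  obtain ⟨n1, k1, hnk⟩ := lcs_lcs_le_of_quot hq
  have hVc : V ≤ Subgroup.centralizer (V : Set Γ) := by
    intro x hx
    rw [Subgroup.mem_centralizer_iff]
    intro y hy
    exact hVab y hy x hx
  apply MetaNilp.of_quot hVc ⟨n1, k1, hnk⟩
  -- the module
  have hKn : (G ⊓ Subgroup.centralizer (V : Set Γ)).Normal := inferInstance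
  have hKG : G ⊓ Subgroup.centralizer (V : Set Γ) ≤ G := inf_le_left
  have hVK : V ≤ G ⊓ Subgroup.centralizer (V : Set Γ) := le_inf hVG hVc
  have hmod : ModHyp V (G ⊓ Subgroup.centralizer (V : Set Γ)) :=
    ⟨hVab, fun k hk v hv => ((Subgroup.mem_centralizer_iff.1 hk.2) v hv).symm⟩
  have hS' := hS.quot (G ⊓ Subgroup.centralizer (V : Set Γ)) hKG
  have hVp : IsPGroup s ↥V := fun g => ⟨1, by
    rw [pow_one]
    exact Subtype.ext (hVs g g.2)⟩
  obtain ⟨m, hm⟩ := IsPGroup.iff_card.1 hVp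
  have hcard : Nat.card (VMod hmod) = s ^ m := by rw [VMod.card, hm]
  have hT := thmT (V := VMod hmod) (T := Γ ⧸ (G ⊓ Subgroup.centralizer (V : Set Γ))) hS' hs hcard
    ?_ ?_ (n := n1) (k := k1) ?_ ?_
  · obtain ⟨c, hc⟩ := hT
    refine ⟨c, ?_⟩
    rw [← Subgroup.map_lowerCentralSeries, Subgroup.map_eq_bot_iff, QuotientGroup.ker_mk'] at hc
    exact hc.trans inf_le_right
  · -- faithful
    rintro _ ⟨g, hg, rfl⟩ hfix
    rw [QuotientGroup.mk'_apply, QuotientGroup.eq_one_iff]
    refine ⟨hg, ?_⟩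
    show g ∈ Subgroup.centralizer (V : Set Γ)
    rw [Subgroup.mem_centralizer_iff]
    intro v hv
    have h1 := hfix (VMod.mk hmod ⟨v, hv⟩)
    have h2 : g * v * g⁻¹ = v := by
      have := congrArg (fun x : VMod hmod => ((x.val : ↥V) : Γ)) h1
      exact (mk_smul_val hmod g (VMod.mk hmod ⟨v, hv⟩)).symm.trans this
    calc v * g = g * v * g⁻¹ * g := by rw [h2]
      _ = g * v := by group
  · -- irreducible
    intro U hU
    let W : Subgroup Γ :=
      { carrier := {x | ∃ hx : x ∈ V, VMod.mk hmod ⟨x, hx⟩ ∈ U}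
        one_mem' := ⟨V.one_mem, U.zero_mem⟩
        mul_mem' := by
          rintro a b ⟨ha, haU⟩ ⟨hb, hbU⟩
          refine ⟨V.mul_mem ha hb, ?_⟩
          have := U.add_mem haU hbU
          exact this
        inv_mem' := by
          rintro a ⟨ha, haU⟩
          refine ⟨V.inv_mem ha, ?_⟩
          have := U.neg_mem haU
          exact this }
    have hWn : W.Normal := by
      constructor
      rintro x ⟨hx, hxU⟩ g
      refine ⟨hVn.conj_mem x hx g, ?_⟩
      have := hU (QuotientGroup.mk' _ g) _ hxU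
      exact this
    have hWV : W ≤ V := fun x hx => hx.1
    by_cases hW1 : W = ⊥
    · left
      rw [eq_bot_iff]
      intro u hu
      rw [AddSubgroup.mem_bot]
      have : ((u.val : ↥V) : Γ) ∈ W := ⟨u.val.2, hu⟩
      rw [hW1, Subgroup.mem_bot] at this
      apply VMod.ext
      apply Subtype.ext
      exact this
    · right
      have hWeq := hmn.hmin W hWn hWV hW1
      rw [eq_top_iff]
      intro u _
      have : ((u.val : ↥V) : Γ) ∈ W := by rw [hWeq]; exact u.val.2
      obtain ⟨_, h2⟩ := this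
      exact h2
  · -- metanilpotent
    rw [← Subgroup.map_lowerCentralSeries, ← Subgroup.map_lowerCentralSeries,
      Subgroup.map_eq_bot_iff, QuotientGroup.ker_mk']
    exact hnk.trans hVK
  · -- the centraliser condition
    rintro _ ⟨b, hb, rfl⟩ hb1 _ ⟨g, hg, rfl⟩ l hl hls e hpow hcomm v hv
    have hb1' : b ≠ 1 := by
      rintro rfl
      exact hb1 (map_one _)
    obtain ⟨x, hxG, hxb, ⟨e', hxe⟩, hxg⟩ :=
      hS.lift_lelement (G ⊓ Subgroup.centralizer (V : Set Γ)) hKG hb hg hl hcomm hpow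
    rw [← hxg]
    have hv0 : ((v.val : ↥V) : Γ) ∈ V := v.val.2
    have h1 : b * ((v.val : ↥V) : Γ) * b⁻¹ = ((v.val : ↥V) : Γ) := by
      have := congrArg (fun x : VMod hmod => ((x.val : ↥V) : Γ)) hv
      exact (mk_smul_val hmod b v).symm.trans this
    have h2 : ((v.val : ↥V) : Γ) * b = b * ((v.val : ↥V) : Γ) := by
      calc ((v.val : ↥V) : Γ) * b = b * ((v.val : ↥V) : Γ) * b⁻¹ * b := by rw [h1]
        _ = b * ((v.val : ↥V) : Γ) := by group
    have h3 := hS.commute_of_cent hb hb1' hxG (hVG hv0) hxb h2 hl hs hls hxe (m' := 1)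
      (by rw [pow_one]; exact hVs _ hv0)
    apply VMod.ext
    apply Subtype.ext
    rw [mk_smul_val, h3]
    group

end main

end Cfsg.Agent.Lib.Helper8.Ward
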