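import Mathlib
import Cfsg.Agent.Lib.Helper8.GFpf1
import Cfsg.Agent.Lib.Helper8.WardE
import Cfsg.Agent.Lib.Helper8.WardJ
import Cfsg.Agent.Lib.Helper5.NilSym2

/-!
# Coprime fixed-point-free action of an arbitrary finite group: the reduction (Theorem R')

`metaNilp_of_gsetting`: if in every critical configuration `GCrit V ℓ H ι` with `H` metanilpotent
and with `γ_n(H₁)` an `ℓ`-group for every proper `A`-invariant `H₁ < H` the group `H` is nilpotent,
then in every setting `GSetting G ι` the group `G` is metanilpotent (Fitting height at most 2).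
-/

set_option autoImplicit false
set_option linter.unusedSectionVars false
set_option linter.unusedVariables false

namespace Cfsg.Agent.Lib.Helper8.GFpf

open Cfsg.Agent.Lib.Helper8.Ward
open scoped commutatorElement

universe u w z

section lemmaA

variable {Γ : Type w} [Group Γ] [Finite Γ]

/-- if `N` is nilpotent and normalised by the normal elementary abelian `ℓ`-subgroup `V`, then the
`ℓ'`-part of every element of `N` centralises `V`. -/
theorem exists_pow_mem_centralizer {ℓ : ℕ} (hℓ : ℓ.Prime)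
    {V N : Subgroup Γ} [hVn : V.Normal] (hVN : ∀ v ∈ V, ∀ y ∈ N, v * y * v⁻¹ ∈ N)
    (hVℓ : ∀ v ∈ V, v ^ ℓ = 1) (hnil : Group.IsNilpotent ↥N) :
    ∀ x ∈ N, ∃ m : ℕ, x ^ (ℓ ^ m) ∈ Subgroup.centralizer (V : Set Γ) := by
  intro x hx
  have hn0 : orderOf x ≠ 0 := (orderOf_pos x).ne'
  obtain ⟨a, m', hm', hn⟩ := Nat.exists_eq_pow_mul_and_not_dvd hn0 ℓ hℓ.ne_one
  refine ⟨a, ?_⟩
  set y := x ^ (ℓ ^ a) with hy
  have hyN : y ∈ N := Subgroup.pow_mem _ hx _
  have hym : y ^ m' = 1 := by rw [hy, ← pow_mul, ← hn, pow_orderOf_eq_one]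
  have hcop : ℓ.Coprime m' := (Nat.Prime.coprime_iff_not_dvd hℓ).2 hm'
  rw [Subgroup.mem_centralizer_iff]
  intro v hv
  set w := ⁅v, y⁆ with hw
  have hwN : w ∈ N := by
    rw [hw, commutatorElement_def]
    exact N.mul_mem (hVN v hv y hyN) (N.inv_mem hyN)
  have hwV : w ∈ V := by
    rw [hw, commutatorElement_def]
    have h1 : y * v⁻¹ * y⁻¹ ∈ V := hVn.conj_mem _ (V.inv_mem hv) y
    have h2 := V.mul_mem hv h1
    have e : v * y * v⁻¹ * y⁻¹ = v * (y * v⁻¹ * y⁻¹) := by group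
    rw [e]
    exact h2
  have hwp : w ^ ℓ = 1 := hVℓ w hwV
  have hcomm : w * y = y * w := by
    have hco : (orderOf (⟨w, hwN⟩ : ↥N)).Coprime (orderOf (⟨y, hyN⟩ : ↥N)) := by
      rw [Subgroup.orderOf_mk, Subgroup.orderOf_mk]
      have h1 : orderOf w ∣ ℓ := orderOf_dvd_of_pow_eq_one hwp
      have h2 : orderOf y ∣ m' := orderOf_dvd_of_pow_eq_one hym
      exact Nat.Coprime.coprime_dvd_left h1 (Nat.Coprime.coprime_dvd_right h2 hcop)
    have := Cfsg.Agent.Lib.Helper5.NilSym.commute_of_coprime ↥N ⟨w, hwN⟩ ⟨y, hyN⟩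
      (isOfFinOrder_of_finite _) (isOfFinOrder_of_finite _) hco
    exact congrArg Subtype.val this.eq
  have e1 : v * y * v⁻¹ = w * y := by rw [hw, commutatorElement_def]; group
  have e2 : (w * y) ^ m' = w ^ m' := by
    rw [(show Commute w y from hcomm).mul_pow, hym, mul_one]
  have e3 : (v * y * v⁻¹) ^ m' = 1 := by rw [conj_pow, hym]; group
  have hwm : w ^ m' = 1 := by rw [← e2, ← e1, e3]
  have hw1 : w = 1 := by
    have h1 : orderOf w ∣ ℓ := orderOf_dvd_of_pow_eq_one hwp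
    have h2 : orderOf w ∣ m' := orderOf_dvd_of_pow_eq_one hwm
    exact orderOf_eq_one_iff.1 (Nat.eq_one_of_dvd_coprimes hcop h1 h2)
  have h3 : v * y * v⁻¹ * y⁻¹ = 1 := by rw [← commutatorElement_def, ← hw, hw1]
  calc v * y = (v * y * v⁻¹ * y⁻¹) * y * v := by group
    _ = y * v := by rw [h3, one_mul]

end lemmaA

section dedekind

variable {A : Type z} [Group A] {Γ : Type w} [Group Γ] [Finite Γ] {G : Subgroup Γ} {ι : A →* Γ}

/-- Dedekind's law in the setting. -/
theorem inf_sup_range (h : GSetting G ι) {G₀ : Subgroup Γ} (hG₀ : G₀ ≤ G)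
    (hinv : ∀ a : A, ∀ x ∈ G₀, ι a * x * (ι a)⁻¹ ∈ G₀) :
    G ⊓ (G₀ ⊔ ι.range) = G₀ := by
  apply le_antisymm
  · rintro x ⟨hxG, hx⟩
    have hnorm : ι.range ≤ Subgroup.normalizer (G₀ : Set Γ) := by
      rintro _ ⟨a, rfl⟩
      have hle : G₀.map (MulAut.conj (ι a)).toMonoidHom ≤ G₀ := by
        rintro _ ⟨x, hx, rfl⟩
        exact hinv a x hx
      have hcard : Nat.card (G₀.map (MulAut.conj (ι a)).toMonoidHom) = Nat.card G₀ :=
        Subgroup.card_map_of_injective (MulAut.conj (ι a)).injective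
      have heq : G₀.map (MulAut.conj (ι a)).toMonoidHom = G₀ :=
        Subgroup.eq_of_le_of_card_ge hle hcard.ge
      rw [Subgroup.mem_normalizer_iff]
      intro y
      constructor
      · intro hy
        exact hinv a y hy
      · intro hy
        have : ι a * y * (ι a)⁻¹ ∈ G₀.map (MulAut.conj (ι a)).toMonoidHom := by rw [heq]; exact hy
        obtain ⟨z, hz, hze⟩ := this
        have : z = y := by
          have h1 : ι a * z * (ι a)⁻¹ = ι a * y * (ι a)⁻¹ := hze
          have h2 := congrArg (fun u => (ι a)⁻¹ * u * ι a) h1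
          simpa [mul_assoc] using h2
        rw [← this]
        exact hz
    have hset := Subgroup.coe_mul_of_right_le_normalizer_left G₀ ι.range hnorm
    have hx' : x ∈ ((G₀ ⊔ ι.range : Subgroup Γ) : Set Γ) := hx
    rw [hset] at hx'
    obtain ⟨g, hg, b, hb, hgb⟩ := Set.mem_mul.1 hx'
    have hg' : g ∈ G₀ := hg
    have hb' : b ∈ ι.range := hb
    have hbG : b ∈ G := by
      have := G.mul_mem (G.inv_mem (hG₀ hg')) hxG
      rw [← hgb] at this
      simpa using this
    have h1 : b ∈ ι.range ⊓ G := ⟨hb', hbG⟩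
    rw [h.range_inf_eq_bot, Subgroup.mem_bot] at h1
    rw [← hgb, h1, mul_one]
    exact hg'
  · exact le_inf hG₀ le_sup_left

end dedekind

section main

/-- **Theorem R'** (generic in the acting group `A`). -/
theorem metaNilp_of_gsetting {A : Type z} [Group A]
    (hcrit : ∀ {V : Type w} [AddCommGroup V] [Finite V] {T : Type w} [Group T] [Finite T]
      [DistribMulAction T V] {ℓ : ℕ} {H : Subgroup T} {ι : A →* T},
      GCrit V ℓ H ι → MetaNilp H →
      (∀ H₁ : Subgroup T, H₁ ≤ H → H₁ ≠ H → (∀ a : A, ∀ x ∈ H₁, ι a * x * (ι a)⁻¹ ∈ H₁) →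
        ∃ n : ℕ, IsPGroup ℓ ↥(H₁.lowerCentralSeries n)) →
      ∃ c : ℕ, H.lowerCentralSeries c = ⊥) :
    ∀ (n : ℕ) (Γ : Type w) [Group Γ] [Finite Γ] (G : Subgroup Γ) (ι : A →* Γ),
      Nat.card Γ = n → GSetting G ι → MetaNilp G := by
  intro n
  induction n using Nat.strong_induction_on with
  | _ n ih =>
  intro Γ _ _ G ι hn hS
  have hGn := hS.hGn
  by_cases hG : G = ⊥
  · exact ⟨0, 0, by simpa using hG⟩
  obtain ⟨V, hmn⟩ := exists_minNormal G hG
  have hVn := hmn.hVn
  have hVG := hmn.hVG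
  have hV1 := hmn.hV1
  have hVab := hmn.abelian hS.hsolv
  obtain ⟨ℓ, hℓ, hVs⟩ := hmn.exponent hVab
  have : Fact ℓ.Prime := ⟨hℓ⟩
  -- the induction hypothesis on the quotient
  have hlt : Nat.card (Γ ⧸ V) < n := by
    rw [← hn, ← Subgroup.index_eq_card, ← V.card_mul_index]
    have h1 : 1 < Nat.card V := (Subgroup.one_lt_card_iff_ne_bot V).2 hV1
    have h2 : 0 < V.index := Nat.pos_of_ne_zero Subgroup.index_ne_zero_of_finite
    nlinarith
  have hq := ih _ hlt (Γ ⧸ V) (G.map (QuotientGroup.mk' V)) _ rfl (hS.quot V hVG)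
  obtain ⟨n1, k1, hnk⟩ := lcs_lcs_le_of_quot hq
  have hVc : V ≤ Subgroup.centralizer (V : Set Γ) := by
    intro x hx
    rw [Subgroup.mem_centralizer_iff]
    intro y hy
    exact hVab y hy x hx
  apply MetaNilp.of_quot hVc ⟨n1, k1, hnk⟩
  -- the module
  have hKn : (G ⊓ Subgroup.centralizer (V : Set Γ)).Normal := inferInstance
  have hKG : G ⊓ Subgroup.centralizer (V : Set Γ) ≤ G := inf_le_left
  have hVK : V ≤ G ⊓ Subgroup.centralizer (V : Set Γ) := le_inf hVG hVc
  have hmod : ModHyp V (G ⊓ Subgroup.centralizer (V : Set Γ)) :=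
    ⟨hVab, fun k hk v hv => ((Subgroup.mem_centralizer_iff.1 hk.2) v hv).symm⟩
  have hS' := hS.quot (G ⊓ Subgroup.centralizer (V : Set Γ)) hKG
  have hker : ∀ g : Γ, QuotientGroup.mk' (G ⊓ Subgroup.centralizer (V : Set Γ)) g = 1 ↔
      g ∈ G ⊓ Subgroup.centralizer (V : Set Γ) := by
    intro g
    rw [QuotientGroup.mk'_apply, QuotientGroup.eq_one_iff]
  obtain ⟨v0, hv0V, hv01⟩ : ∃ v ∈ V, v ≠ 1 := by
    by_contra hcon
    push Not at hcon
    apply hV1
    rw [eq_bot_iff]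
    intro v hv
    rw [Subgroup.mem_bot]
    exact hcon v hv
  have hℓG : ℓ ∣ Nat.card G := by
    have h1 : orderOf v0 = ℓ := orderOf_eq_prime (hVs v0 hv0V) hv01
    have h2 := orderOf_dvd_natCard (⟨v0, hVG hv0V⟩ : G)
    rwa [Subgroup.orderOf_mk, h1] at h2
  have hℓA : ¬ ℓ ∣ Nat.card A := by
    intro hd
    have h1 : ℓ ∣ Nat.gcd (Nat.card A) (Nat.card G) := Nat.dvd_gcd hd hℓG
    rw [hS.hcop] at h1
    exact hℓ.one_lt.ne' (Nat.dvd_one.1 h1)
  -- the critical configuration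
  have hC : GCrit (VMod hmod) ℓ
      (G.map (QuotientGroup.mk' (G ⊓ Subgroup.centralizer (V : Set Γ))))
      ((QuotientGroup.mk' (G ⊓ Subgroup.centralizer (V : Set Γ))).comp ι) := by
    refine ⟨hℓ, hℓA, ?_, ?_, hS', ?_, ?_, ?_⟩
    · intro v
      apply VMod.ext
      apply Subtype.ext
      show (((ℓ • v : VMod hmod).val : ↥V) : Γ) = 1
      have h1 : ((ℓ • v : VMod hmod).val : ↥V) = v.val ^ ℓ := rfl
      rw [h1, Subgroup.coe_pow]
      exact hVs _ v.val.2
    · refine ⟨VMod.mk hmod ⟨v0, hv0V⟩, ?_⟩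
      intro e
      have := congrArg (fun x : VMod hmod => ((x.val : ↥V) : Γ)) e
      exact hv01 this
    · rintro _ ⟨g, hg, rfl⟩ hfix
      rw [hker]
      refine ⟨hg, ?_⟩
      show g ∈ Subgroup.centralizer (V : Set Γ)
      rw [Subgroup.mem_centralizer_iff]
      intro v hv
      have h1 := hfix (VMod.mk hmod ⟨v, hv⟩)
      have h2 : g * v * g⁻¹ = v := by
        have := congrArg (fun x : VMod hmod => ((x.val : ↥V) : Γ)) h1
        exact (mk_smul_val hmod g (VMod.mk hmod ⟨v, hv⟩)).symm.trans this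
      calc v * g = g * v * g⁻¹ * g := by rw [h2]
        _ = g * v := by group
    · intro v hfix
      have h3 : ((v.val : ↥V) : Γ) = 1 := by
        apply hS.hfpf _ (hVG v.val.2)
        intro a
        have h1 : ι a * ((v.val : ↥V) : Γ) * (ι a)⁻¹ = ((v.val : ↥V) : Γ) := by
          have := congrArg (fun x : VMod hmod => ((x.val : ↥V) : Γ)) (hfix a)
          exact (mk_smul_val hmod (ι a) v).symm.trans this
        calc ι a * ((v.val : ↥V) : Γ) = ι a * ((v.val : ↥V) : Γ) * (ι a)⁻¹ * ι a := by group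
          _ = ((v.val : ↥V) : Γ) * ι a := by rw [h1]
      apply VMod.ext
      apply Subtype.ext
      exact h3
    · intro U hU
      let W : Subgroup Γ :=
        { carrier := {x | ∃ hx : x ∈ V, VMod.mk hmod ⟨x, hx⟩ ∈ U}
          one_mem' := ⟨V.one_mem, U.zero_mem⟩
          mul_mem' := by
            rintro a b ⟨ha, haU⟩ ⟨hb, hbU⟩
            refine ⟨V.mul_mem ha hb, ?_⟩
            have := U.add_mem haU hbU
            exact this
          inv_mem' := by
            rintro a ⟨ha, haU⟩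
            refine ⟨V.inv_mem ha, ?_⟩
            have := U.neg_mem haU
            exact this }
      have hWn : W.Normal := by
        constructor
        rintro x ⟨hx, hxU⟩ g
        refine ⟨hVn.conj_mem x hx g, ?_⟩
        have := hU (QuotientGroup.mk' _ g) _ hxU
        exact this
      have hWV : W ≤ V := fun x hx => hx.1
      by_cases hW1 : W = ⊥
      · left
        rw [eq_bot_iff]
        intro u hu
        rw [AddSubgroup.mem_bot]
        have : ((u.val : ↥V) : Γ) ∈ W := ⟨u.val.2, hu⟩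
        rw [hW1, Subgroup.mem_bot] at this
        apply VMod.ext
        apply Subtype.ext
        exact this
      · right
        have hWeq := hmn.hmin W hWn hWV hW1
        rw [eq_top_iff]
        intro u _
        have : ((u.val : ↥V) : Γ) ∈ W := by rw [hWeq]; exact u.val.2
        obtain ⟨_, h2⟩ := this
        exact h2
  -- the image of `G` is metanilpotent
  have hmetaH : MetaNilp (G.map (QuotientGroup.mk' (G ⊓ Subgroup.centralizer (V : Set Γ)))) := by
    refine ⟨n1, k1, ?_⟩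
    rw [← Subgroup.map_lowerCentralSeries, ← Subgroup.map_lowerCentralSeries, eq_bot_iff]
    refine (Subgroup.map_mono hnk).trans ?_
    rintro _ ⟨v, hv, rfl⟩
    rw [Subgroup.mem_bot, hker]
    exact hVK hv
  -- minimality
  have hminN : ∀ H₁ : Subgroup (Γ ⧸ (G ⊓ Subgroup.centralizer (V : Set Γ))),
      H₁ ≤ G.map (QuotientGroup.mk' (G ⊓ Subgroup.centralizer (V : Set Γ))) →
      H₁ ≠ G.map (QuotientGroup.mk' (G ⊓ Subgroup.centralizer (V : Set Γ))) →
      (∀ a : A, ∀ x ∈ H₁,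
        ((QuotientGroup.mk' (G ⊓ Subgroup.centralizer (V : Set Γ))).comp ι) a * x *
          (((QuotientGroup.mk' (G ⊓ Subgroup.centralizer (V : Set Γ))).comp ι) a)⁻¹ ∈ H₁) →
      ∃ n : ℕ, IsPGroup ℓ ↥(H₁.lowerCentralSeries n) := by
    intro K₁ hK₁ hK₁ne hK₁A
    have hG₀G : G ⊓ K₁.comap (QuotientGroup.mk' (G ⊓ Subgroup.centralizer (V : Set Γ))) ≤ G :=
      inf_le_left
    have hG₀A : ∀ a : A,
        ∀ x ∈ G ⊓ K₁.comap (QuotientGroup.mk' (G ⊓ Subgroup.centralizer (V : Set Γ))),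
        ι a * x * (ι a)⁻¹ ∈
          G ⊓ K₁.comap (QuotientGroup.mk' (G ⊓ Subgroup.centralizer (V : Set Γ))) := by
      intro a x hx
      refine ⟨hGn.conj_mem x hx.1 (ι a), ?_⟩
      show QuotientGroup.mk' (G ⊓ Subgroup.centralizer (V : Set Γ)) (ι a * x * (ι a)⁻¹) ∈ K₁
      rw [map_mul, map_mul, map_inv]
      exact hK₁A a _ hx.2
    have hmapG₀ : (G ⊓ K₁.comap (QuotientGroup.mk' (G ⊓ Subgroup.centralizer (V : Set Γ)))).map
        (QuotientGroup.mk' (G ⊓ Subgroup.centralizer (V : Set Γ))) = K₁ := by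
      apply le_antisymm
      · rintro _ ⟨x, hx, rfl⟩
        exact hx.2
      · intro y hy
        obtain ⟨x, hxG, rfl⟩ := hK₁ hy
        exact ⟨x, ⟨hxG, hy⟩, rfl⟩
    have hG₀ne : G ⊓ K₁.comap (QuotientGroup.mk' (G ⊓ Subgroup.centralizer (V : Set Γ))) ≠ G := by
      intro e
      apply hK₁ne
      rw [← hmapG₀, e]
    have hKG₀ : G ⊓ Subgroup.centralizer (V : Set Γ) ≤
        G ⊓ K₁.comap (QuotientGroup.mk' (G ⊓ Subgroup.centralizer (V : Set Γ))) := by
      intro k hk
      refine ⟨hKG hk, ?_⟩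
      show QuotientGroup.mk' (G ⊓ Subgroup.centralizer (V : Set Γ)) k ∈ K₁
      rw [(hker k).2 hk]
      exact K₁.one_mem
    have hVG₀ : V ≤ G ⊓ K₁.comap (QuotientGroup.mk' (G ⊓ Subgroup.centralizer (V : Set Γ))) :=
      hVK.trans hKG₀
    have hιΓ₀ : ∀ a : A,
        ι a ∈ G ⊓ K₁.comap (QuotientGroup.mk' (G ⊓ Subgroup.centralizer (V : Set Γ))) ⊔ ι.range :=
      fun a => Subgroup.mem_sup_right ⟨a, rfl⟩
    have hded := inf_sup_range hS hG₀G hG₀A
    have hΓ₀ne : G ⊓ K₁.comap (QuotientGroup.mk' (G ⊓ Subgroup.centralizer (V : Set Γ))) ⊔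
        ι.range ≠ ⊤ := by
      intro e
      apply hG₀ne
      rw [← hded, e, inf_top_eq]
    have hlt₀ : Nat.card ↥(G ⊓ K₁.comap (QuotientGroup.mk'
        (G ⊓ Subgroup.centralizer (V : Set Γ))) ⊔ ι.range) < n := by
      rw [← hn]
      by_contra hcon
      rw [not_lt] at hcon
      exact hΓ₀ne ((Subgroup.card_eq_iff_eq_top _).1
        (le_antisymm (Subgroup.card_le_card_group _) hcon))
    have hmeta₀ := ih _ hlt₀ _ _ _ rfl (hS.sub _ hιΓ₀)
    have hmeta₀' : MetaNilp
        (G ⊓ K₁.comap (QuotientGroup.mk' (G ⊓ Subgroup.centralizer (V : Set Γ)))) := by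
      have := hmeta₀.map (Subgroup.subtype _)
      rwa [Subgroup.subgroupOf_map_subtype, hded] at this
    obtain ⟨n0, k0, hnk0⟩ := hmeta₀'
    have hnil₀ : Group.IsNilpotent
        ↥((G ⊓ K₁.comap (QuotientGroup.mk' (G ⊓ Subgroup.centralizer (V : Set Γ)))).lowerCentralSeries
          n0) := Subgroup.isNilpotent_of_lowerCentralSeries_eq_bot hnk0
    have hVN : ∀ v ∈ V, ∀ y ∈ (G ⊓ K₁.comap (QuotientGroup.mk'
        (G ⊓ Subgroup.centralizer (V : Set Γ)))).lowerCentralSeries n0,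
        v * y * v⁻¹ ∈ (G ⊓ K₁.comap (QuotientGroup.mk'
          (G ⊓ Subgroup.centralizer (V : Set Γ)))).lowerCentralSeries n0 := by
      intro v hv y hy
      have h1 := Subgroup.self_le_normalizer_lowerCentralSeries
        (S := G ⊓ K₁.comap (QuotientGroup.mk' (G ⊓ Subgroup.centralizer (V : Set Γ)))) (n := n0)
        (hVG₀ hv)
      exact ((Subgroup.mem_normalizer_iff.1 h1) y).1 hy
    have hA := exists_pow_mem_centralizer hℓ hVN hVs hnil₀
    refine ⟨n0, ?_⟩
    rw [← hmapG₀, ← Subgroup.map_lowerCentralSeries]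
    rintro ⟨_, ⟨x, hx, rfl⟩⟩
    obtain ⟨m, hm⟩ := hA x hx
    refine ⟨m, Subtype.ext ?_⟩
    rw [Subgroup.coe_pow]
    show QuotientGroup.mk' (G ⊓ Subgroup.centralizer (V : Set Γ)) x ^ (ℓ ^ m) = 1
    rw [← map_pow, hker]
    have hxG : x ∈ G := hG₀G (Subgroup.lowerCentralSeries_le_self _ n0 hx)
    exact ⟨G.pow_mem hxG _, hm⟩
  obtain ⟨c, hc⟩ := hcrit hC hmetaH hminN
  refine ⟨c, ?_⟩
  rw [← Subgroup.map_lowerCentralSeries, Subgroup.map_eq_bot_iff, QuotientGroup.ker_mk'] at hc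
  exact hc.trans inf_le_right

end main

end Cfsg.Agent.Lib.Helper8.GFpf
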