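import Mathlib
import Cfsg.Agent.Lib.Helper8.GFpf2
import Cfsg.Agent.Lib.Helper8.WardH
import Cfsg.Agent.Lib.Helper9.S3B0
import Cfsg.Agent.Lib.Lead.CoprimeAction2

/-!
# Coprime fixed-point-free action: from the critical configuration to a tower (R6)–(R8)

In a critical configuration `GCrit V ℓ H ι` with `H` metanilpotent, not nilpotent, and with
`γ_n(H₁)` an `ℓ`-group for every proper `A`-invariant `H₁ < H`, the group `H` is a product `Q S`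
of a normal `t`-subgroup and an `A`-invariant `s`-subgroup which do not commute, and all proper
invariant subgroups of `S` (resp. of `Q`) centralise `Q` (resp. are centralised by `S`).
-/

set_option autoImplicit false
set_option linter.unusedSectionVars false
set_option linter.unusedVariables false

namespace Cfsg.Agent.Lib.Helper8.GFpf

open Cfsg.Agent.Lib.Helper8.Ward
open scoped commutatorElement

universe u w z

section tower

variable {A : Type z} [Group A] {V : Type u} [AddCommGroup V] [Finite V] {T : Type w} [Group T]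
  [Finite T] [DistribMulAction T V]

/-- the tower configuration. -/
structure GTower (V : Type u) [AddCommGroup V] {T : Type w} [Group T] [DistribMulAction T V]
    (ℓ s t : ℕ) (H Q S : Subgroup T) (ι : A →* T) : Prop where
  hC : GCrit V ℓ H ι
  hs : s.Prime
  ht : t.Prime
  hst : s ≠ t
  htℓ : t ≠ ℓ
  hQn : Q.Normal
  hQH : Q ≤ H
  hSH : S ≤ H
  hQ : IsPGroup t Q
  hS : IsPGroup s S
  hSA : ∀ a : A, ∀ x ∈ S, ι a * x * (ι a)⁻¹ ∈ S
  hQS : Q ⊔ S = H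
  hne : ∃ x ∈ S, ∃ y ∈ Q, x * y ≠ y * x
  hmin1 : ∀ S₁ : Subgroup T, S₁ ≤ S → S₁ ≠ S → (∀ a : A, ∀ x ∈ S₁, ι a * x * (ι a)⁻¹ ∈ S₁) →
    ∀ x ∈ S₁, ∀ y ∈ Q, x * y = y * x
  hmin2 : ∀ Q₁ : Subgroup T, Q₁ ≤ Q → Q₁ ≠ Q → (∀ x ∈ S, ∀ y ∈ Q₁, x * y * x⁻¹ ∈ Q₁) →
    (∀ a : A, ∀ y ∈ Q₁, ι a * y * (ι a)⁻¹ ∈ Q₁) → ∀ x ∈ S, ∀ y ∈ Q₁, x * y = y * x

variable {ℓ : ℕ} {H : Subgroup T} {ι : A →* T}

theorem GCrit.card_V (h : GCrit V ℓ H ι) : ∃ n, Nat.card V = ℓ ^ n := by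
  have : Fact ℓ.Prime := ⟨h.hℓ⟩
  have hpg : IsPGroup ℓ (Multiplicative V) := by
    intro g
    refine ⟨1, ?_⟩
    rw [pow_one]
    have := h.hVℓ (Multiplicative.toAdd g)
    exact congrArg Multiplicative.ofAdd this
  obtain ⟨n, hn⟩ := IsPGroup.iff_card.1 hpg
  exact ⟨n, hn⟩

/-- `O_ℓ(H) = 1`. -/
theorem GCrit.normal_pgroup_eq_bot (h : GCrit V ℓ H ι) {N : Subgroup T} (hN : N.Normal)
    (hNH : N ≤ H) (hNℓ : IsPGroup ℓ N) : N = ⊥ := by
  obtain ⟨m, hm⟩ := h.card_V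
  exact normal_sgroup_eq_bot h.hℓ hm h.hfaith h.hirr hNH hNℓ

/-- a group which is both a `t`-group and an `ℓ`-group, `t ≠ ℓ`, is trivial (elementwise). -/
theorem eq_one_of_two_primes {t ℓ : ℕ} (ht : t.Prime) (hℓ : ℓ.Prime) (htℓ : t ≠ ℓ) {x : T}
    {a b : ℕ} (h1 : x ^ (t ^ a) = 1) (h2 : x ^ (ℓ ^ b) = 1) : x = 1 := by
  have d1 : orderOf x ∣ t ^ a := orderOf_dvd_of_pow_eq_one h1
  have d2 : orderOf x ∣ ℓ ^ b := orderOf_dvd_of_pow_eq_one h2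
  have hcop : (t ^ a).Coprime (ℓ ^ b) :=
    Nat.Coprime.pow a b ((Nat.coprime_primes ht hℓ).2 htℓ)
  exact orderOf_eq_one_iff.1 (Nat.eq_one_of_dvd_coprimes hcop d1 d2)

/-- (R5) applied to a product `Q₁ S₁` of a `t`-group and an `s`-group: if it is proper, the
two factors commute. -/
theorem comm_of_proper (hC : GCrit V ℓ H ι)
    (hmin : ∀ H₁ : Subgroup T, H₁ ≤ H → H₁ ≠ H → (∀ a : A, ∀ x ∈ H₁, ι a * x * (ι a)⁻¹ ∈ H₁) →
      ∃ n : ℕ, IsPGroup ℓ ↥(H₁.lowerCentralSeries n))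
    {s t : ℕ} (hs : s.Prime) (ht : t.Prime) (hst : s ≠ t) (htℓ : t ≠ ℓ)
    {Q₁ S₁ : Subgroup T} (hQ₁H : Q₁ ≤ H) (hS₁H : S₁ ≤ H) (hQ₁ : IsPGroup t Q₁)
    (hS₁ : IsPGroup s S₁) (hSQ : ∀ x ∈ S₁, ∀ y ∈ Q₁, x * y * x⁻¹ ∈ Q₁)
    (hQ₁A : ∀ a : A, ∀ y ∈ Q₁, ι a * y * (ι a)⁻¹ ∈ Q₁)
    (hS₁A : ∀ a : A, ∀ x ∈ S₁, ι a * x * (ι a)⁻¹ ∈ S₁)
    (hne : Q₁ ⊔ S₁ ≠ H) : ∀ x ∈ S₁, ∀ y ∈ Q₁, x * y = y * x := by
  have : Fact s.Prime := ⟨hs⟩
  have : Fact t.Prime := ⟨ht⟩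
  have hXH : Q₁ ⊔ S₁ ≤ H := sup_le hQ₁H hS₁H
  have hXA : ∀ a : A, ∀ x ∈ Q₁ ⊔ S₁, ι a * x * (ι a)⁻¹ ∈ Q₁ ⊔ S₁ := fun a =>
    Cfsg.Agent.Lib.Helper9.S3B0.conj_mem_sup (hQ₁A a) (hS₁A a)
  obtain ⟨m, hm⟩ := hmin _ hXH hne hXA
  -- `S₁` normalises `Q₁`
  have hnorm : S₁ ≤ Subgroup.normalizer (Q₁ : Set T) := by
    intro x hx
    have hle : Q₁.map (MulAut.conj x).toMonoidHom ≤ Q₁ := by
      rintro _ ⟨y, hy, rfl⟩
      exact hSQ x hx y hy
    have hcard : Nat.card (Q₁.map (MulAut.conj x).toMonoidHom) = Nat.card Q₁ :=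
      Subgroup.card_map_of_injective (MulAut.conj x).injective
    have heq : Q₁.map (MulAut.conj x).toMonoidHom = Q₁ :=
      Subgroup.eq_of_le_of_card_ge hle hcard.ge
    rw [Subgroup.mem_normalizer_iff]
    intro y
    constructor
    · intro hy
      exact hSQ x hx y hy
    · intro hy
      have : x * y * x⁻¹ ∈ Q₁.map (MulAut.conj x).toMonoidHom := by rw [heq]; exact hy
      obtain ⟨z, hz, hze⟩ := this
      have : z = y := by
        have h1 : x * z * x⁻¹ = x * y * x⁻¹ := hze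
        have h2 := congrArg (fun u => x⁻¹ * u * x) h1
        simpa [mul_assoc] using h2
      rw [← this]
      exact hz
  have hcop : (Nat.card S₁).Coprime (Nat.card Q₁) := by
    obtain ⟨a, ha⟩ := IsPGroup.iff_card.1 hS₁
    obtain ⟨b, hb⟩ := IsPGroup.iff_card.1 hQ₁
    rw [ha, hb]
    exact Nat.Coprime.pow a b ((Nat.coprime_primes hs ht).2 hst)
  have hsolvQ : Group.IsSolvable Q₁ := by
    have : Group.IsNilpotent Q₁ := hQ₁.isNilpotent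
    infer_instance
  have hstable := Cfsg.Agent.Lib.Lead.coprime_commutator_stable S₁ Q₁ hnorm hcop (Or.inr hsolvQ)
  have hcQ : ⁅Q₁, S₁⁆ ≤ Q₁ :=
    Cfsg.Agent.Lib.Lead.commutator_le_left_of_le_normalizer Q₁ S₁ hnorm
  -- `[Q₁, S₁]` lies in every term of the lower central series of `Q₁ S₁`
  have hlcs : ∀ k : ℕ, ⁅Q₁, S₁⁆ ≤ (Q₁ ⊔ S₁).lowerCentralSeries k := by
    intro k
    induction k with
    | zero =>
      rw [Subgroup.lowerCentralSeries_zero]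
      exact hcQ.trans le_sup_left
    | succ k ih =>
      rw [Subgroup.lowerCentralSeries_succ, ← hstable]
      exact Subgroup.commutator_mono ih le_sup_right
  have hbot : ⁅Q₁, S₁⁆ = ⊥ := by
    rw [eq_bot_iff]
    intro c hc
    rw [Subgroup.mem_bot]
    obtain ⟨a, ha⟩ := hQ₁ ⟨c, hcQ hc⟩
    obtain ⟨b, hb⟩ := hm ⟨c, hlcs m hc⟩
    have ha' : c ^ (t ^ a) = 1 := congrArg Subtype.val ha
    have hb' : c ^ (ℓ ^ b) = 1 := congrArg Subtype.val hb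
    exact eq_one_of_two_primes ht hC.hℓ htℓ ha' hb'
  rw [Subgroup.commutator_eq_bot_iff_le_centralizer] at hbot
  intro x hx y hy
  exact (Subgroup.mem_centralizer_iff.1 (hbot hy)) x hx

/-- the order of a product of a `t`-group and an `s`-group. -/
theorem sup_ne_of_lt_left {s t : ℕ} (hs : s.Prime) (ht : t.Prime) (hst : s ≠ t)
    {Q Q₁ S : Subgroup T} (hQ : IsPGroup t Q) (hS : IsPGroup s S) (hQn : Q.Normal)
    (hQ₁Q : Q₁ ≤ Q) (hne : Q₁ ≠ Q) (hSQ₁ : ∀ x ∈ S, ∀ y ∈ Q₁, x * y * x⁻¹ ∈ Q₁) :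
    Q₁ ⊔ S ≠ Q ⊔ S := by
  have : Fact s.Prime := ⟨hs⟩
  have : Fact t.Prime := ⟨ht⟩
  intro e
  apply hne
  apply le_antisymm hQ₁Q
  intro y hy
  have hy' : y ∈ Q₁ ⊔ S := by rw [e]; exact Subgroup.mem_sup_left hy
  -- write `y = y₁ x` with `y₁ ∈ Q₁`, `x ∈ S`; then `x ∈ Q ⊓ S = ⊥`
  obtain ⟨y₁, hy₁, x, hx, hyx⟩ :=
    Cfsg.Agent.Lib.Helper9.S3B0.exists_mul_of_mem_sup_conj hSQ₁ hy'
  have hxQ : x ∈ Q := by
    have : x = y₁⁻¹ * y := by rw [hyx]; group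
    rw [this]
    exact Q.mul_mem (Q.inv_mem (hQ₁Q hy₁)) hy
  have hx1 : x = 1 := by
    obtain ⟨a, ha⟩ := hQ ⟨x, hxQ⟩
    obtain ⟨b, hb⟩ := hS ⟨x, hx⟩
    have ha' : x ^ (t ^ a) = 1 := congrArg Subtype.val ha
    have hb' : x ^ (s ^ b) = 1 := congrArg Subtype.val hb
    exact eq_one_of_two_primes ht hs (Ne.symm hst) ha' hb'
  rw [hyx, hx1, mul_one]
  exact hy₁

theorem sup_ne_of_lt_right {s t : ℕ} (hs : s.Prime) (ht : t.Prime) (hst : s ≠ t)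
    {Q S S₁ : Subgroup T} (hQ : IsPGroup t Q) (hS : IsPGroup s S) (hQn : Q.Normal)
    (hS₁S : S₁ ≤ S) (hne : S₁ ≠ S) : Q ⊔ S₁ ≠ Q ⊔ S := by
  have : Fact s.Prime := ⟨hs⟩
  have : Fact t.Prime := ⟨ht⟩
  intro e
  apply hne
  apply le_antisymm hS₁S
  intro x hx
  have hx' : x ∈ Q ⊔ S₁ := by rw [e]; exact Subgroup.mem_sup_right hx
  have hconj : ∀ x ∈ S₁, ∀ y ∈ Q, x * y * x⁻¹ ∈ Q := fun x _ y hy => hQn.conj_mem y hy x
  obtain ⟨y, hy, x₁, hx₁, hxy⟩ :=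
    Cfsg.Agent.Lib.Helper9.S3B0.exists_mul_of_mem_sup_conj hconj hx'
  have hyS : y ∈ S := by
    have : y = x * x₁⁻¹ := by rw [hxy]; group
    rw [this]
    exact S.mul_mem hx (S.inv_mem (hS₁S hx₁))
  have hy1 : y = 1 := by
    obtain ⟨a, ha⟩ := hQ ⟨y, hy⟩
    obtain ⟨b, hb⟩ := hS ⟨y, hyS⟩
    have ha' : y ^ (t ^ a) = 1 := congrArg Subtype.val ha
    have hb' : y ^ (s ^ b) = 1 := congrArg Subtype.val hb
    exact eq_one_of_two_primes ht hs (Ne.symm hst) ha' hb'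
  rw [hxy, hy1, one_mul]
  exact hx₁

/-- **(R6)–(R8)**: a critical configuration with `H` metanilpotent but not nilpotent, satisfying
(R5), contains a tower. -/
theorem exists_gtower (hC : GCrit V ℓ H ι) (hmeta : MetaNilp H)
    (hmin : ∀ H₁ : Subgroup T, H₁ ≤ H → H₁ ≠ H → (∀ a : A, ∀ x ∈ H₁, ι a * x * (ι a)⁻¹ ∈ H₁) →
      ∃ n : ℕ, IsPGroup ℓ ↥(H₁.lowerCentralSeries n))
    (hnn : ¬ ∃ c : ℕ, H.lowerCentralSeries c = ⊥) :
    ∃ (s t : ℕ) (Q S : Subgroup T), GTower V ℓ s t H Q S ι := by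
  have hHn := hC.hS.hGn
  obtain ⟨n, k, hnk⟩ := hmeta
  have hNn : (H.lowerCentralSeries n).Normal := inferInstance
  have hNH : H.lowerCentralSeries n ≤ H := Subgroup.lowerCentralSeries_le_self H n
  by_contra hno
  apply hnn
  apply lcs_eq_bot_of_sylow H n
  intro r hr
  obtain ⟨P, hP⟩ := Cfsg.Agent.Lib.Lead.coprime_invariant_sylow_exists ι.range H
    (by rw [Subgroup.normalizer_eq_top]; exact le_top)
    hC.hS.coprime_range (Or.inr hC.hS.hsolv) r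
  refine ⟨P, ?_⟩
  have hRH : (P : Subgroup H).map H.subtype ≤ H := Subgroup.map_subtype_le _
  have hRr : IsPGroup r ((P : Subgroup H).map H.subtype) := P.2.map _
  have hRA : ∀ a : A, ∀ x ∈ (P : Subgroup H).map H.subtype,
      ι a * x * (ι a)⁻¹ ∈ (P : Subgroup H).map H.subtype := by
    intro a x hx
    exact ((Subgroup.mem_normalizer_iff.1 (hP ⟨a, rfl⟩)) x).1 hx
  apply le_of_sylows_le
  intro l hl
  have : Fact l.Prime := ⟨hl⟩
  obtain ⟨Q, hQN, hQn, hQl, hQc⟩ := exists_normal_sylow_of_nilpotent (H.lowerCentralSeries n) hnk l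
  refine ⟨Q, hQN, ?_, hQc⟩
  have hQH : Q ≤ H := hQN.trans hNH
  by_cases hlr : l = r
  · subst hlr
    exact (normal_pgroup_le_sylow H P hQH hQl).trans Subgroup.le_normalizer
  by_cases hlℓ : l = ℓ
  · subst hlℓ
    rw [hC.normal_pgroup_eq_bot hQn hQH hQl]
    exact bot_le
  -- the candidate tower `(Q, S)`, `S := P`
  have hQA : ∀ a : A, ∀ y ∈ Q, ι a * y * (ι a)⁻¹ ∈ Q := fun a y hy => hQn.conj_mem y hy _
  have hSQ : ∀ x ∈ (P : Subgroup H).map H.subtype, ∀ y ∈ Q, x * y * x⁻¹ ∈ Q :=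
    fun x _ y hy => hQn.conj_mem y hy x
  by_cases hcomm : ∀ x ∈ (P : Subgroup H).map H.subtype, ∀ y ∈ Q, x * y = y * x
  · -- `Q` centralises `S`
    intro y hy
    rw [Subgroup.mem_normalizer_iff]
    intro x
    have key : ∀ z ∈ (P : Subgroup H).map H.subtype, y * z * y⁻¹ = z := by
      intro z hz
      rw [← hcomm z hz y hy]
      group
    constructor
    · intro hx
      rw [key x hx]
      exact hx
    · intro hx
      have h1 : y⁻¹ * (y * x * y⁻¹) * y ∈ (P : Subgroup H).map H.subtype := by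
        have h2 := key (y * x * y⁻¹) hx
        have h3 : y⁻¹ * (y * x * y⁻¹) * y = y⁻¹ * (y * (y * x * y⁻¹) * y⁻¹) * y := by rw [h2]
        rw [h3]
        have h4 : y⁻¹ * (y * (y * x * y⁻¹) * y⁻¹) * y = y * x * y⁻¹ := by group
        rw [h4]
        exact hx
      have h5 : y⁻¹ * (y * x * y⁻¹) * y = x := by group
      rwa [h5] at h1
  · -- they do not commute: this is a tower
    exfalso
    apply hno
    have hQSH : Q ⊔ (P : Subgroup H).map H.subtype = H := by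
      by_contra hne
      exact hcomm (comm_of_proper hC hmin hr.out hl (Ne.symm hlr) hlℓ hQH hRH hQl hRr hSQ hQA hRA hne)
    push Not at hcomm
    obtain ⟨x, hx, y, hy, hxy⟩ := hcomm
    refine ⟨r, l, Q, (P : Subgroup H).map H.subtype, hC, hr.out, hl, Ne.symm hlr, hlℓ, hQn, hQH,
      hRH, hQl, hRr, hRA, hQSH, ⟨x, hx, y, hy, hxy⟩, ?_, ?_⟩
    · intro S₁ hS₁S hS₁ne hS₁A
      apply comm_of_proper hC hmin hr.out hl (Ne.symm hlr) hlℓ hQH (hS₁S.trans hRH) hQl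
        (hRr.to_le hS₁S) (fun x _ y hy => hQn.conj_mem y hy x) hQA hS₁A
      exact fun e => sup_ne_of_lt_right hr.out hl (Ne.symm hlr) hQl hRr hQn hS₁S hS₁ne
        (e.trans hQSH.symm)
    · intro Q₁ hQ₁Q hQ₁ne hQ₁S hQ₁A
      apply comm_of_proper hC hmin hr.out hl (Ne.symm hlr) hlℓ (hQ₁Q.trans hQH) hRH
        (hQl.to_le hQ₁Q) hRr hQ₁S hQ₁A hRA
      exact fun e => sup_ne_of_lt_left hr.out hl (Ne.symm hlr) hQl hRr hQn hQ₁Q hQ₁ne hQ₁S
        (e.trans hQSH.symm)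

end tower

end Cfsg.Agent.Lib.Helper8.GFpf
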