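import Mathlib
import Cfsg.Agent.Lib.Helper8.GFpf3

/-!
# Coprime fixed-point-free action: from the internal reduction to the external statement

For a finite group `A` acting (`MulDistribMulAction`) coprimely and fixed-point-freely on a finite
solvable group `G`: if no tower configuration `GTower` exists (for this abstract `A`), then `G` has
a normal nilpotent subgroup with nilpotent quotient.
-/

set_option autoImplicit false
set_option linter.unusedSectionVars false
set_option linter.unusedVariables false

namespace Cfsg.Agent.Lib.Helper8.GFpf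

open Cfsg.Agent.Lib.Helper8.Ward

universe u z

/-- the external form of metanilpotency. -/
theorem exists_normal_nilpotent_of_metaNilp {G : Type u} [Group G]
    (h : MetaNilp (⊤ : Subgroup G)) :
    ∃ F : Subgroup G, ∃ hF : F.Normal, Group.IsNilpotent ↥F ∧ Group.IsNilpotent (G ⧸ F) := by
  obtain ⟨n, k, hnk⟩ := h
  have hF : ((⊤ : Subgroup G).lowerCentralSeries n).Normal := inferInstance
  refine ⟨(⊤ : Subgroup G).lowerCentralSeries n, hF,
    Subgroup.isNilpotent_of_lowerCentralSeries_eq_bot hnk, ?_⟩
  rw [Subgroup.nilpotent_iff_lowerCentralSeries]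
  refine ⟨n, ?_⟩
  have h1 : ((⊤ : Subgroup G).map (QuotientGroup.mk' ((⊤ : Subgroup G).lowerCentralSeries n))) = ⊤ :=
    Subgroup.map_top_of_surjective _ (QuotientGroup.mk'_surjective _)
  rw [← h1, ← Subgroup.map_lowerCentralSeries, QuotientGroup.map_mk'_self]

/-- **the glue, critical-configuration form.** -/
theorem exists_normal_nilpotent_of_crit {G : Type u} {A : Type z} [Group G] [Finite G]
    [Group.IsSolvable G] [Group A] [Finite A] [MulDistribMulAction A G]
    (hcop : (Nat.card A).Coprime (Nat.card G))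
    (hfpf : ∀ g : G, (∀ a : A, a • g = g) → g = 1)
    (hcrit : ∀ {V : Type (max u z)} [AddCommGroup V] [Finite V] {T : Type (max u z)} [Group T]
      [Finite T] [DistribMulAction T V] {ℓ : ℕ} {H : Subgroup T} {ι : A →* T},
      GCrit V ℓ H ι → MetaNilp H →
      (∀ H₁ : Subgroup T, H₁ ≤ H → H₁ ≠ H → (∀ a : A, ∀ x ∈ H₁, ι a * x * (ι a)⁻¹ ∈ H₁) →
        ∃ n : ℕ, IsPGroup ℓ ↥(H₁.lowerCentralSeries n)) →
      ∃ c : ℕ, H.lowerCentralSeries c = ⊥) :
    ∃ F : Subgroup G, ∃ hF : F.Normal, Group.IsNilpotent ↥F ∧ Group.IsNilpotent (G ⧸ F) := by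
  classical
  let φ : A →* MulAut G := MulDistribMulAction.toMulAut A G
  have hΓfin : Finite (G ⋊[φ] A) :=
    Finite.of_equiv _ (SemidirectProduct.equivProd (φ := φ)).symm
  have hinl : Function.Injective (SemidirectProduct.inl : G →* G ⋊[φ] A) :=
    SemidirectProduct.inl_injective
  have hinr : Function.Injective (SemidirectProduct.inr : A →* G ⋊[φ] A) :=
    SemidirectProduct.inr_injective
  set Gi : Subgroup (G ⋊[φ] A) := (SemidirectProduct.inl : G →* G ⋊[φ] A).range with hGi
  have hcardGi : Nat.card Gi = Nat.card G :=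
    (Nat.card_congr (MonoidHom.ofInjective hinl).toEquiv).symm
  have hact : ∀ (a : A) (g : G),
      (SemidirectProduct.inr a : G ⋊[φ] A) * SemidirectProduct.inl g =
        SemidirectProduct.inl g * SemidirectProduct.inr a → a • g = g := by
    intro a g h1
    have h2 : (SemidirectProduct.inl (φ a g) : G ⋊[φ] A) = SemidirectProduct.inl g := by
      rw [SemidirectProduct.inl_aut, h1, mul_assoc, ← map_mul, mul_inv_cancel, map_one, mul_one]
    exact hinl h2
  have hS : GSetting Gi (SemidirectProduct.inr : A →* G ⋊[φ] A) := by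
    refine ⟨?_, ?_, ?_, hinr, ?_, ?_⟩
    · rw [hGi, SemidirectProduct.range_inl_eq_ker_rightHom]
      infer_instance
    · exact Group.isSolvable_of_surjective
        (MonoidHom.rangeRestrict_surjective (SemidirectProduct.inl : G →* G ⋊[φ] A))
    · rw [hcardGi]; exact hcop
    · rintro _ ⟨g, rfl⟩ h1
      have hg : g = 1 := hfpf g (fun a => hact a g (h1 a))
      rw [hg, map_one]
    · intro x
      exact ⟨SemidirectProduct.inl x.left, ⟨x.left, rfl⟩, x.right,
        (SemidirectProduct.inl_left_mul_inr_right x).symm⟩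
  have hmeta := metaNilp_of_gsetting (A := A) hcrit _ (G ⋊[φ] A) Gi _ rfl hS
  rw [hGi, MonoidHom.range_eq_map] at hmeta
  exact exists_normal_nilpotent_of_metaNilp (MetaNilp.of_map_injective _ hinl hmeta)

/-- **the glue, tower form**: if the abstract group `A` admits no tower configuration, every
coprime fixed-point-free action of `A` on a finite solvable group has Fitting height `≤ 2`. -/
theorem exists_normal_nilpotent_of_no_tower {G : Type u} {A : Type z} [Group G] [Finite G]
    [Group.IsSolvable G] [Group A] [Finite A] [MulDistribMulAction A G]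
    (hcop : (Nat.card A).Coprime (Nat.card G))
    (hfpf : ∀ g : G, (∀ a : A, a • g = g) → g = 1)
    (hno : ∀ {V : Type (max u z)} [AddCommGroup V] [Finite V] {T : Type (max u z)} [Group T]
      [Finite T] [DistribMulAction T V] {ℓ s t : ℕ} {H Q S : Subgroup T} {ι : A →* T},
      GTower V ℓ s t H Q S ι → False) :
    ∃ F : Subgroup G, ∃ hF : F.Normal, Group.IsNilpotent ↥F ∧ Group.IsNilpotent (G ⧸ F) := by
  apply exists_normal_nilpotent_of_crit hcop hfpf
  intro V _ _ T _ _ _ ℓ H ι hC hmeta hmin
  by_contra hnn
  obtain ⟨s, t, Q, S, hT⟩ := exists_gtower hC hmeta hmin hnn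
  exact hno hT

end Cfsg.Agent.Lib.Helper8.GFpf
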