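import Mathlib
import Cfsg.Agent.Lib.Helper8.GFpf4
import Cfsg.Agent.Lib.Helper2.PQA
import Cfsg.Agent.Lib.Helper4.PQDefs

/-!
# S4306: the bridge from the abstract tower `GTower` to the internal `Tower` of `Helper4.PQDefs`

`A` abstract non-abelian of order `pq`, `ι : A →* T` injective: the internal group is `ι.range`,
with kernel `F.map ι` and complement `H₀.map ι` for the `IsPQ` pair `(F, H₀)` of `A`.
-/

set_option autoImplicit false
set_option linter.unusedSectionVars false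
set_option linter.unusedVariables false

namespace Cfsg.Agent.Lib.Helper8.GFpf

open Cfsg.Agent.Lib.Helper8.Ward
open Cfsg.Agent.Lib.Helper2.PQA
open Cfsg.Agent.Lib.Helper4.PQ

universe u w z

/-- an `IsPQ` pair is a `FrobPQ` triple with `A = F ⊔ H₀`. -/
theorem frobPQ_of_isPQ {T : Type w} [Group T] {p q : ℕ} {F H₀ : Subgroup T}
    (h : IsPQ p q F H₀) : FrobPQ (F ⊔ H₀) F H₀ p q where
  hp := h.hp
  hq := h.hq
  hpq := h.ne
  hFA := le_sup_left
  hHA := le_sup_right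
  hF := h.cardF
  hH := h.cardH
  hA := h.card_sup
  hFn := fun a ha f hf => h.norm_sup ha hf
  hfpf := fun x hx hx1 f hf hc => h.fpf hx hx1 hf hc

/-- a non-trivial `t`-group has order divisible by `t`. -/
theorem dvd_card_of_isPGroup_of_ne_one {T : Type w} [Group T] [Finite T] {t : ℕ} (ht : t.Prime)
    {Q : Subgroup T} (hQ : IsPGroup t Q) {y : T} (hy : y ∈ Q) (hy1 : y ≠ 1) : t ∣ Nat.card Q := by
  have : Fact t.Prime := ⟨ht⟩
  obtain ⟨n, hn⟩ := IsPGroup.iff_card.1 hQ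
  rcases Nat.eq_zero_or_pos n with h0 | hpos
  · exfalso
    rw [h0, pow_zero] at hn
    have hbot : Q = ⊥ := Subgroup.card_eq_one.1 hn
    rw [hbot, Subgroup.mem_bot] at hy
    exact hy1 hy
  · rw [hn]
    exact dvd_pow_self t hpos.ne'

section bridge

variable {A : Type z} [Group A] {V : Type u} [AddCommGroup V] [Finite V] {T : Type w} [Group T]
  [Finite T] [DistribMulAction T V]

/-- **the bridge**: an abstract tower for a non-abelian group of order `pq` is an internal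
`Tower`. -/
theorem exists_tower {p q : ℕ} (hp : p.Prime) (hq : q.Prime) (hpq : p ≠ q)
    (hA : Nat.card A = p * q) (hAna : ¬ IsMulCommutative A)
    {ℓ s t : ℕ} {H Q S : Subgroup T} {ι : A →* T} (hT : GTower V ℓ s t H Q S ι) :
    ∃ (p' q' : ℕ) (F H₀ : Subgroup T), Tower V ℓ t s p' q' Q S ι.range F H₀ ∧
      IsPQ p' q' F H₀ ∧ F ⊔ H₀ = ι.range ∧ (p' = p ∧ q' = q ∨ p' = q ∧ q' = p) := by
  have hC := hT.hC
  have hSet := hC.hS
  have hinj := hSet.hinj
  have hAfin : Finite A := hSet.finite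
  obtain ⟨p', q', hp'q', F₀, H₀₀, hPQ₀, hsup₀, hFn₀⟩ := exists_isPQ hp hq hpq hA hAna
  have hPQ : IsPQ p' q' (F₀.map ι) (H₀₀.map ι) := hPQ₀.map ι hinj
  have hsup : F₀.map ι ⊔ H₀₀.map ι = ι.range := by
    rw [← Subgroup.map_sup, hsup₀, ← MonoidHom.range_eq_map]
  have hfrob : FrobPQ ι.range (F₀.map ι) (H₀₀.map ι) p' q' := by
    have := frobPQ_of_isPQ hPQ
    rwa [hsup] at this
  have hcardA : Nat.card A = p' * q' := by
    rcases hp'q' with ⟨rfl, rfl⟩ | ⟨rfl, rfl⟩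
    · exact hA
    · rw [hA, mul_comm]
  have hQH := hT.hQH
  have hSH := hT.hSH
  have hQn := hT.hQn
  obtain ⟨x₀, hx₀, y₀, hy₀, hxy₀⟩ := hT.hne
  have hy₀1 : y₀ ≠ 1 := by
    rintro rfl
    exact hxy₀ (by rw [mul_one, one_mul])
  have hx₀1 : x₀ ≠ 1 := by
    rintro rfl
    exact hxy₀ (by rw [mul_one, one_mul])
  have hcopA : ∀ {r : ℕ}, r.Prime → r ∣ Nat.card H → r.Coprime (p' * q') := by
    intro r hr hdvd
    rw [← hcardA]
    exact (Nat.Coprime.coprime_dvd_right hdvd hSet.hcop).symm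
  refine ⟨p', q', F₀.map ι, H₀₀.map ι, ?_, hPQ, hsup, hp'q'⟩
  refine
    { frob := hfrob
      hr := hC.hℓ
      ht := hT.ht
      hs := hT.hs
      htr := hT.htℓ
      hts := hT.hst.symm
      hrA := ?_
      htA := ?_
      hsA := ?_
      hVr := hC.hVℓ
      hV := hC.hV
      hQ := hT.hQ
      hS := hT.hS
      hQn := hQn
      hAS := ?_
      hgen := ?_
      hfaith := fun u hu hv => hC.hfaith u (hQH hu) hv
      hfpfQ := ?_
      hfpfS := ?_
      hfpfV := ?_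
      hirr := hC.hirr
      hQS := ⟨y₀, hy₀, x₀, hx₀, fun h => hxy₀ h.symm⟩
      hmin1 := ?_
      hmin2 := ?_ }
  · rw [← hcardA]
    exact (Nat.Prime.coprime_iff_not_dvd hC.hℓ).2 hC.hℓA
  · exact hcopA hT.ht ((dvd_card_of_isPGroup_of_ne_one hT.ht hT.hQ hy₀ hy₀1).trans
      (Subgroup.card_dvd_of_le hQH))
  · exact hcopA hT.hs ((dvd_card_of_isPGroup_of_ne_one hT.hs hT.hS hx₀ hx₀1).trans
      (Subgroup.card_dvd_of_le hSH))
  · rintro _ ⟨a, rfl⟩ c hc
    exact hT.hSA a c hc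
  · intro x
    obtain ⟨g, hg, a, rfl⟩ := hSet.hgen x
    rw [← hT.hQS] at hg
    have hg' : g ∈ ((Q ⊔ S : Subgroup T) : Set T) := hg
    rw [Subgroup.normal_mul] at hg'
    obtain ⟨u, hu, c, hc, rfl⟩ := Set.mem_mul.1 hg'
    exact ⟨u, hu, c, hc, ι a, ⟨a, rfl⟩, rfl⟩
  · intro u hu hfix
    exact hSet.hfpf u (hQH hu) (fun a => hfix (ι a) ⟨a, rfl⟩)
  · intro c hc hfix
    exact hSet.hfpf c (hSH hc) (fun a => hfix (ι a) ⟨a, rfl⟩)
  · intro v hfix
    exact hC.hfpfV v (fun a => hfix (ι a) ⟨a, rfl⟩)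
  · intro S₁ hS₁ hne hinv u hu c hc
    exact (hT.hmin1 S₁ hS₁ hne (fun a x hx => hinv (ι a) ⟨a, rfl⟩ x hx) c hc u hu).symm
  · intro Q₁ hQ₁ hne hinvA hinvS u hu c hc
    exact (hT.hmin2 Q₁ hQ₁ hne hinvS (fun a y hy => hinvA (ι a) ⟨a, rfl⟩ y hy) c hc u hu).symm

end bridge

/-- **S4306 from "no internal tower"**: if no `Tower` exists (in the universe of `G ⋊ A`), the
statement follows. -/
theorem exists_normal_nilpotent_of_no_pq_tower {G : Type u} {A : Type z} [Group G] [Finite G]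
    [Group.IsSolvable G] [Group A] [Finite A] [MulDistribMulAction A G] (p q : ℕ) (hp : p.Prime)
    (hq : q.Prime) (hpq : p ≠ q) (hA : Nat.card A = p * q) (hAna : ¬ IsMulCommutative A)
    (hcop : (Nat.card G).Coprime (p * q))
    (hfpf : ∀ g : G, (∀ a : A, a • g = g) → g = 1)
    (hno : ∀ {V : Type (max u z)} [AddCommGroup V] [Finite V] {T : Type (max u z)} [Group T]
      [Finite T] [DistribMulAction T V] {r t s p' q' : ℕ} {Q S A' F H₀ : Subgroup T},
      Tower V r t s p' q' Q S A' F H₀ → False) :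
    ∃ F : Subgroup G, ∃ hF : F.Normal, Group.IsNilpotent ↥F ∧ Group.IsNilpotent (G ⧸ F) := by
  apply exists_normal_nilpotent_of_no_tower (by rw [hA]; exact hcop.symm) hfpf
  intro V _ _ T _ _ _ ℓ s t H Q S ι hT
  obtain ⟨p', q', F, H₀, hTow, -, -, -⟩ := exists_tower hp hq hpq hA hAna hT
  exact hno hTow

end Cfsg.Agent.Lib.Helper8.GFpf
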