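import Mathlib
import Cfsg.Agent.Lib.Helper4.PQDefs
import Cfsg.Agent.Lib.Helper8.SBS4
import Cfsg.Agent.Lib.Lead.CoprimeTools

/-!
# S4306: small unassigned leaves of the skeleton

`FrobPQ.conj`, `Tower.conj` (the complement `H₀` may be replaced by a conjugate under `F`) and
`relIndex_of_dec` (the index hypothesis of Theorem X from elementwise data).
-/

set_option autoImplicit false
set_option linter.unusedSectionVars false
set_option linter.unusedVariables false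

namespace Cfsg.Agent.Lib.Helper8.GFpf

open Cfsg.Agent.Lib.Helper4.PQ Cfsg.Agent.Lib.Helper8.SBS

universe u w

section conj

variable {T : Type w} [Group T] [Finite T] {A F H₀ : Subgroup T} {p q : ℕ}

/-- `H₀` can be replaced by a conjugate (under any element of `A` normalizing nothing special:
we only need `x ∈ A`). -/
theorem FrobPQ.conj_of_mem (h : FrobPQ A F H₀ p q) {x : T} (hx : x ∈ A) :
    FrobPQ A F (conjSub x H₀) p q where
  hp := h.hp
  hq := h.hq
  hpq := h.hpq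
  hFA := h.hFA
  hHA := by
    intro y hy
    rw [mem_conjSub] at hy
    have h1 : x * (x⁻¹ * y * x) * x⁻¹ ∈ A :=
      A.mul_mem (A.mul_mem hx (h.hHA hy)) (A.inv_mem hx)
    have h2 : x * (x⁻¹ * y * x) * x⁻¹ = y := by group
    rwa [h2] at h1
  hF := h.hF
  hH := by rw [card_conjSub]; exact h.hH
  hA := h.hA
  hFn := h.hFn
  hfpf := by
    intro y hy hy1 f hf hc
    rw [mem_conjSub] at hy
    have hy1' : x⁻¹ * y * x ≠ 1 := by
      intro h0
      apply hy1
      have : y = x * (x⁻¹ * y * x) * x⁻¹ := by group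
      rw [this, h0, mul_one, mul_inv_cancel]
    have hf' : x⁻¹ * f * (x⁻¹)⁻¹ ∈ F := h.hFn x⁻¹ (A.inv_mem hx) f hf
    have hc' : x⁻¹ * y * x * (x⁻¹ * f * (x⁻¹)⁻¹) = x⁻¹ * f * (x⁻¹)⁻¹ * (x⁻¹ * y * x) := by
      have e1 : x⁻¹ * y * x * (x⁻¹ * f * (x⁻¹)⁻¹) = x⁻¹ * (y * f) * x := by group
      have e2 : x⁻¹ * f * (x⁻¹)⁻¹ * (x⁻¹ * y * x) = x⁻¹ * (f * y) * x := by group
      rw [e1, e2, hc]
    have h1 := h.hfpf _ hy hy1' _ hf' hc'
    have : f = x * (x⁻¹ * f * (x⁻¹)⁻¹) * x⁻¹ := by group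
    rw [this, h1, mul_one, mul_inv_cancel]

/-- `H₀` can be replaced by a conjugate (skeleton statement). -/
theorem FrobPQ.conj (h : FrobPQ A F H₀ p q) {x : T} (hx : x ∈ F) :
    FrobPQ A F (conjSub x H₀) p q :=
  FrobPQ.conj_of_mem h (h.hFA hx)

end conj

section tower

variable {V : Type u} [AddCommGroup V] {T : Type w} [Group T] [Finite T]
  [DistribMulAction T V] {r t s p q : ℕ} {Q S A F H₀ : Subgroup T}

/-- `H₀` can be replaced by a conjugate under `A`. -/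
theorem Tower.conj_of_mem (h : Tower V r t s p q Q S A F H₀) {x : T} (hx : x ∈ A) :
    Tower V r t s p q Q S A F (conjSub x H₀) :=
  { h with frob := FrobPQ.conj_of_mem h.frob hx }

/-- `H₀` can be replaced by a conjugate (skeleton statement). -/
theorem Tower.conj (h : Tower V r t s p q Q S A F H₀) {x : T} (hx : x ∈ F) :
    Tower V r t s p q Q S A F (conjSub x H₀) :=
  Tower.conj_of_mem h (h.frob.hFA hx)

end tower

section relindex

variable {T : Type w} [Group T] [Finite T]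

/-- the index hypothesis `hidx` of Theorem X from elementwise data (`Z₁ = K₀ Z`, `K₀ ∩ Z = Z₀`,
`|Z : Z₀| = t`).  NB: the hypothesis `Z₀ ≤ Z` is needed (the skeleton statement omits it). -/
theorem relIndex_of_dec {t : ℕ} (K₀ Z₁ Z Z₀ : Subgroup T) (hK : K₀ ≤ Z₁) (hZ : Z ≤ Z₁)
    (hZ₀Z : Z₀ ≤ Z)
    (hK₀n : ∀ y ∈ Z₁, ∀ k ∈ K₀, y * k * y⁻¹ ∈ K₀)
    (hZ₀ : ∀ z ∈ Z, z ∈ K₀ ↔ z ∈ Z₀) (hcard : Nat.card Z₀ * t = Nat.card Z)
    (hdec : ∀ y ∈ Z₁, ∃ k ∈ K₀, ∃ z ∈ Z, y = k * z) : K₀.relIndex Z₁ = t := by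
  classical
  have hinf : K₀ ⊓ Z = Z₀ := by
    ext z
    constructor
    · rintro ⟨h1, h2⟩
      exact (hZ₀ z h2).1 h1
    · intro h1
      exact ⟨(hZ₀ z (hZ₀Z h1)).2 h1, hZ₀Z h1⟩
  have hsup : Z ⊔ K₀ = Z₁ := by
    apply le_antisymm (sup_le hZ hK)
    intro y hy
    obtain ⟨k, hk, z, hz, rfl⟩ := hdec y hy
    exact Subgroup.mul_mem _ (Subgroup.mem_sup_right hk) (Subgroup.mem_sup_left hz)
  have hnorm : Z ≤ Subgroup.normalizer (K₀ : Set T) := by
    intro z hz
    rw [Subgroup.mem_normalizer_iff]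
    intro k
    constructor
    · intro hk
      exact hK₀n z (hZ hz) k hk
    · intro hk
      have := hK₀n z⁻¹ (Z₁.inv_mem (hZ hz)) _ hk
      simpa [mul_assoc] using this
  have h1 : K₀.relIndex Z₁ = K₀.relIndex Z := by
    rw [← hsup]
    exact Cfsg.Agent.Lib.Lead.relIndex_sup_of_le_normalizer Z K₀ hnorm
  have h2 : K₀.relIndex Z = Z₀.relIndex Z := by
    rw [← Subgroup.inf_relIndex_right, hinf]
  have h3 : Nat.card Z₀ * Z₀.relIndex Z = Nat.card Z := by
    have := Subgroup.card_mul_index (Z₀.subgroupOf Z)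
    rwa [Nat.card_congr (Subgroup.subgroupOfEquivOfLe hZ₀Z).toEquiv] at this
  have hpos : 0 < Nat.card Z₀ := Nat.card_pos
  rw [h1, h2]
  exact Nat.eq_of_mul_eq_mul_left hpos (h3.trans hcard.symm)

end relindex

end Cfsg.Agent.Lib.Helper8.GFpf
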