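import Mathlib
import Cfsg.Prelude.Def_Characters

set_option autoImplicit false

namespace Cfsg.Agent.Lib.Helper8.GG

universe u

/-- The semidirect product of the power `K^p` by the Heisenberg group of order `p³`, the
Heisenberg group acting through its quotient `ZMod p` by cyclic shifts. -/
@[ext]
structure HW (K : Type u) (p : ℕ) where
  f : ZMod p → K
  x : ZMod p
  y : ZMod p
  z : ZMod p

namespace HW
variable {K : Type u} [Group K] {p : ℕ}

instance : Mul (HW K p) :=
  ⟨fun a b => ⟨fun i => a.f i * b.f (i - a.x), a.x + b.x, a.y + b.y, a.z + b.z + a.x * b.y⟩⟩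

instance : One (HW K p) := ⟨⟨fun _ => 1, 0, 0, 0⟩⟩

instance : Inv (HW K p) :=
  ⟨fun a => ⟨fun i => (a.f (i + a.x))⁻¹, -a.x, -a.y, -a.z + a.x * a.y⟩⟩

@[simp] theorem mul_f (a b : HW K p) (i : ZMod p) : (a * b).f i = a.f i * b.f (i - a.x) := rfl
@[simp] theorem mul_x (a b : HW K p) : (a * b).x = a.x + b.x := rfl
@[simp] theorem mul_y (a b : HW K p) : (a * b).y = a.y + b.y := rfl
@[simp] theorem mul_z (a b : HW K p) : (a * b).z = a.z + b.z + a.x * b.y := rfl
@[simp] theorem one_f (i : ZMod p) : (1 : HW K p).f i = 1 := rfl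
@[simp] theorem one_x : (1 : HW K p).x = 0 := rfl
@[simp] theorem one_y : (1 : HW K p).y = 0 := rfl
@[simp] theorem one_z : (1 : HW K p).z = 0 := rfl
@[simp] theorem inv_f (a : HW K p) (i : ZMod p) : (a⁻¹).f i = (a.f (i + a.x))⁻¹ := rfl
@[simp] theorem inv_x (a : HW K p) : (a⁻¹).x = -a.x := rfl
@[simp] theorem inv_y (a : HW K p) : (a⁻¹).y = -a.y := rfl
@[simp] theorem inv_z (a : HW K p) : (a⁻¹).z = -a.z + a.x * a.y := rfl

instance : Group (HW K p) where
  mul_assoc a b c := by
    ext i
    · simp [mul_assoc, sub_sub]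
    · simp [add_assoc]
    · simp [add_assoc]
    · simp
      ring
  one_mul a := by
    ext i <;> simp
  mul_one a := by
    ext i <;> simp
  inv_mul_cancel a := by
    ext i <;> simp

/-- The underlying product. -/
def equivProd : HW K p ≃ (ZMod p → K) × ZMod p × ZMod p × ZMod p where
  toFun a := (a.f, a.x, a.y, a.z)
  invFun t := ⟨t.1, t.2.1, t.2.2.1, t.2.2.2⟩
  left_inv _ := rfl
  right_inv _ := rfl

noncomputable instance [Fintype K] [NeZero p] : Fintype (HW K p) :=
  Fintype.ofEquiv _ equivProd.symm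

instance [Finite K] [NeZero p] : Finite (HW K p) := Finite.of_equiv _ equivProd.symm

theorem card [Finite K] [NeZero p] : Nat.card (HW K p) = Nat.card K ^ p * p ^ 3 := by
  rw [Nat.card_congr equivProd, Nat.card_prod, Nat.card_prod, Nat.card_prod, Nat.card_fun,
    Nat.card_zmod]
  ring

/-- The projection to the quotient `ZMod p` of the Heisenberg part. -/
def xHom : HW K p →* Multiplicative (ZMod p) where
  toFun a := Multiplicative.ofAdd a.x
  map_one' := rfl
  map_mul' _ _ := rfl

variable (K p) in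
/-- The kernel of the shift action: `K^p × (ZMod p)²`. -/
def L : Subgroup (HW K p) := (xHom : HW K p →* Multiplicative (ZMod p)).ker

instance L_normal : (L K p).Normal := MonoidHom.normal_ker _

theorem mem_L {a : HW K p} : a ∈ L K p ↔ a.x = 0 := by
  unfold L
  rw [MonoidHom.mem_ker]
  rfl

theorem xHom_surjective : Function.Surjective (xHom : HW K p →* Multiplicative (ZMod p)) := by
  intro q
  exact ⟨⟨fun _ => 1, Multiplicative.toAdd q, 0, 0⟩, rfl⟩

theorem card_L [Finite K] [NeZero p] : Nat.card (HW K p) = p * Nat.card (L K p) := by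
  have h1 := Subgroup.card_mul_index (L K p)
  have h2 : (L K p).index = p := by
    unfold L
    rw [Subgroup.index_ker, MonoidHom.range_eq_top.2 xHom_surjective, Subgroup.card_top,
      Nat.card_congr Multiplicative.toAdd, Nat.card_zmod]
  rw [h2] at h1
  rw [← h1, mul_comm]

theorem conj_f (w l : HW K p) (hl : l.x = 0) (i : ZMod p) :
    (w * l * w⁻¹).f i = w.f i * l.f (i - w.x) * (w.f i)⁻¹ := by
  simp [hl]

theorem conj_x (w l : HW K p) (hl : l.x = 0) : (w * l * w⁻¹).x = 0 := by
  simp [hl]

theorem conj_y (w l : HW K p) : (w * l * w⁻¹).y = l.y := by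
  simp

theorem conj_z (w l : HW K p) (hl : l.x = 0) : (w * l * w⁻¹).z = l.z + w.x * l.y := by
  simp [hl]
  ring

/-- `L` is the product `K^p × ZMod p × ZMod p`. -/
def eL : (ZMod p → K) × (Multiplicative (ZMod p) × Multiplicative (ZMod p)) ≃* L K p where
  toFun t := ⟨⟨t.1, 0, Multiplicative.toAdd t.2.1, Multiplicative.toAdd t.2.2⟩, mem_L.2 rfl⟩
  invFun l := (l.1.f, (Multiplicative.ofAdd l.1.y, Multiplicative.ofAdd l.1.z))
  left_inv t := rfl
  right_inv l := by
    apply Subtype.ext
    exact HW.ext rfl (mem_L.1 l.2).symm rfl rfl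
  map_mul' s t := by
    apply Subtype.ext
    ext i <;> simp

end HW

end Cfsg.Agent.Lib.Helper8.GG
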