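import Mathlib
import Cfsg.Prelude.Def_Characters
import Cfsg.Agent.Lib.Helper8.GG1
import Cfsg.Agent.Lib.Helper8.DD2
import Cfsg.Agent.Lib.Helper1.LinearChar
import Cfsg.Agent.S0146
import Cfsg.Agent.S0148
import Cfsg.Agent.S0170
import Cfsg.Agent.S0188
import Cfsg.Agent.S0193

set_option autoImplicit false

namespace Cfsg.Agent.Lib.Helper8.GG

open Cfsg.Agent.Lib.Helper1 Cfsg.Agent.Lib.Helper4 Cfsg.Agent.Lib.Helper8.DD
open scoped ComplexConjugate

universe u

section Pi0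
variable {ι : Type} [Fintype ι] [DecidableEq ι] {M : Type u} [Group M] [Fintype M]

/-- The product function on a power of `M` (index type in the lowest universe). -/
noncomputable def piFn0 (θ : ι → M → ℂ) : (ι → M) → ℂ := fun f => ∏ i, θ i (f i)

theorem piFn0_apply (θ : ι → M → ℂ) (f : ι → M) : piFn0 θ f = ∏ i, θ i (f i) := rfl

theorem isCharacter_piFn0 (θ : ι → M → ℂ) (h : ∀ i, Cfsg.IsCharacter M (θ i)) :
    Cfsg.IsCharacter (ι → M) (piFn0 θ) := by
  apply isCharacter_finset_prod Finset.univ (fun i (f : ι → M) => θ i (f i))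
  intro i _
  exact isCharacter_comp_hom (h i) (Pi.evalMonoidHom (fun _ : ι => M) i)

theorem classInner_piFn0 (θ θ' : ι → M → ℂ) :
    Cfsg.classInner (piFn0 θ) (piFn0 θ') = ∏ i, Cfsg.classInner (θ i) (θ' i) := by
  unfold Cfsg.classInner
  rw [Finset.prod_mul_distrib, Finset.prod_const, Finset.card_univ, Fintype.prod_sum]
  congr 1
  · rw [Nat.card_fun, Nat.card_eq_fintype_card (α := ι), Nat.cast_pow, inv_pow]
  · refine Finset.sum_congr rfl fun f _ => ?_
    rw [piFn0_apply, piFn0_apply, map_prod, Finset.prod_mul_distrib]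

theorem isIrrCharacter_piFn0 (θ : ι → M → ℂ) (h : ∀ i, Cfsg.IsIrrCharacter M (θ i)) :
    Cfsg.IsIrrCharacter (ι → M) (piFn0 θ) := by
  apply isIrrCharacter_of_norm_one (isCharacter_piFn0 θ fun i => isCharacter_of_irr (h i))
  rw [classInner_piFn0]
  exact Finset.prod_eq_one fun i _ => classInner_irr_self (h i)

end Pi0

section General
variable {G : Type u} [Group G] [Fintype G]

/-- An irreducible character of a normal subgroup whose stabilizer is the subgroup itself
induces irreducibly. -/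
theorem isIrr_ind_of_stab (N : Subgroup G) [hN : N.Normal] (θ : N → ℂ)
    (hθ : Cfsg.IsIrrCharacter N θ)
    (hst : ∀ g : G, (∀ h : N, θ ⟨g * h * g⁻¹, hN.conj_mem h h.2 g⟩ = θ h) → g ∈ N) :
    Cfsg.IsIrrCharacter G (Cfsg.indFun N θ) := by
  classical
  have hmem : ∀ g : G, (∀ h : N, θ ⟨g * h * g⁻¹, hN.conj_mem h h.2 g⟩ = θ h) ↔ g ∈ N := by
    intro g
    constructor
    · exact hst g
    · intro hg h
      exact isClassFunction_irr hθ h ⟨g, hg⟩
  have h193 := Cfsg.Agent.S0193.result N θ hθ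
  have hcard : Nat.card {g : G // ∀ h : N, θ ⟨g * h * g⁻¹, hN.conj_mem h h.2 g⟩ = θ h}
      = Nat.card N := Nat.card_congr (Equiv.subtypeEquivRight hmem)
  rw [hcard] at h193
  have hN0 : (Nat.card N : ℂ) ≠ 0 := Nat.cast_ne_zero.2 Nat.card_pos.ne'
  have hnorm : Cfsg.classInner (Cfsg.indFun N θ) (Cfsg.indFun N θ) = 1 :=
    mul_left_cancel₀ hN0 (h193.trans (mul_one _).symm)
  exact isIrrCharacter_of_norm_one (Cfsg.Agent.S0148.result N θ (isCharacter_of_irr hθ)) hnorm

/-- Value of an induced function at an element of the normal subgroup all of whose conjugates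
have the same value. -/
theorem indFun_apply_of_const (N : Subgroup G) [hN : N.Normal] (θ : N → ℂ) (h : N) (c : ℂ)
    (hc : ∀ g : G, θ ⟨g * h * g⁻¹, hN.conj_mem h h.2 g⟩ = c) :
    Cfsg.indFun N θ h = (Nat.card N : ℂ)⁻¹ * ((Nat.card G : ℂ) * c) := by
  have h1 := congrFun (Cfsg.Agent.S0193.indFun_restrict_normal N θ) h
  simp only [Pi.smul_apply, Finset.sum_apply, smul_eq_mul] at h1
  rw [h1]
  congr 1
  have h2 : ∀ g : G, Cfsg.Agent.S0193.conjFun N θ g h = c := fun g => hc g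
  rw [Finset.sum_congr rfl fun g _ => h2 g, Finset.sum_const, Finset.card_univ,
    ← Nat.card_eq_fintype_card, nsmul_eq_mul]

end General

section Eps
variable (p : ℕ) [NeZero p]

/-- The standard faithful linear character of `ZMod p`. -/
noncomputable def eps : Multiplicative (ZMod p) →* ℂˣ :=
  (ZMod.stdAddChar (N := p)).toMonoidHom.toHomUnits

theorem eps_coe (t : Multiplicative (ZMod p)) :
    ((eps p t : ℂˣ) : ℂ) = ZMod.stdAddChar (Multiplicative.toAdd t) := rfl

theorem eps_eq_one_iff (t : Multiplicative (ZMod p)) : eps p t = 1 ↔ t = 1 := by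
  constructor
  · intro h
    have h1 : ((eps p t : ℂˣ) : ℂ) = 1 := by rw [h]; rfl
    rw [eps_coe, ← AddChar.map_zero_eq_one (ZMod.stdAddChar (N := p))] at h1
    have h2 := ZMod.injective_stdAddChar h1
    exact Multiplicative.toAdd.injective h2
  · rintro rfl
    exact map_one _

theorem eps_pow (t : Multiplicative (ZMod p)) : eps p t ^ p = 1 := by
  rw [← map_pow]
  have : t ^ p = 1 := by
    apply Multiplicative.toAdd.injective
    rw [toAdd_pow, toAdd_one, nsmul_eq_mul]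
    simp
  rw [this, map_one]

end Eps

section Phi
open HW
variable {K : Type u} [Group K] [Fintype K] {p : ℕ} [NeZero p]

/-- The character `χ₁ × ⋯ × χ₁ × 1 × ε` of `L = K^p × ZMod p × ZMod p`. -/
noncomputable def phi (χ₁ : K → ℂ) : L K p → ℂ :=
  fun l => (∏ i, χ₁ (l.1.f i)) * ((eps p (Multiplicative.ofAdd l.1.z) : ℂˣ) : ℂ)

/-- eps on the second factor. -/
noncomputable def eps2 (p : ℕ) [NeZero p] :
    Multiplicative (ZMod p) × Multiplicative (ZMod p) →* ℂˣ :=
  (eps p).comp (MonoidHom.snd (Multiplicative (ZMod p)) (Multiplicative (ZMod p)))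

theorem eps2_apply (t : Multiplicative (ZMod p) × Multiplicative (ZMod p)) :
    eps2 p t = eps p t.2 := rfl

theorem phi_irr {χ₁ : K → ℂ} (hχ : Cfsg.IsIrrCharacter K χ₁) :
    Cfsg.IsIrrCharacter (L K p) (phi χ₁) := by
  have h1 : Cfsg.IsIrrCharacter (ZMod p → K) (piFn0 fun _ => χ₁) :=
    isIrrCharacter_piFn0 _ fun _ => hχ
  have h2 : Cfsg.IsIrrCharacter (Multiplicative (ZMod p) × Multiplicative (ZMod p))
      (fun t => ((eps2 p t : ℂˣ) : ℂ)) :=
    isIrrCharacter_of_hom (eps2 p)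
  have h3 := Cfsg.Agent.S0188.isIrrCharacter_prod h1 h2
  have h4 := isIrrCharacter_comp_mulEquiv h3 (eL (K := K) (p := p)).symm
  have h5 : phi χ₁ = fun l : L K p =>
      (fun x : (ZMod p → K) × (Multiplicative (ZMod p) × Multiplicative (ZMod p)) =>
        piFn0 (fun _ => χ₁) x.1 * ((eps2 p x.2 : ℂˣ) : ℂ))
        ((eL (K := K) (p := p)).symm l) := by
    funext l
    rfl
  rw [h5]
  exact h4

theorem phi_conj {χ₁ : K → ℂ} (hχ : Cfsg.IsClassFunction K χ₁) (w : HW K p) (l : L K p) :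
    phi χ₁ ⟨w * (l : HW K p) * w⁻¹, L_normal.conj_mem l l.2 w⟩
      = phi χ₁ l * ((eps p (Multiplicative.ofAdd (w.x * l.1.y)) : ℂˣ) : ℂ) := by
  have hl : l.1.x = 0 := mem_L.1 l.2
  unfold phi
  simp only
  rw [conj_z w l.1 hl, ofAdd_add, map_mul, Units.val_mul, ← mul_assoc]
  congr 2
  rw [← Equiv.prod_comp (Equiv.subRight w.x) (fun i => χ₁ (l.1.f i))]
  refine Finset.prod_congr rfl fun i _ => ?_
  rw [conj_f w l.1 hl]
  exact hχ _ _

theorem phi_one (χ₁ : K → ℂ) : phi (p := p) χ₁ 1 = χ₁ 1 ^ p := by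
  unfold phi
  simp

/-- The induced character `χ'` of `HW K p`. -/
noncomputable def chi' (χ₁ : K → ℂ) : HW K p → ℂ := Cfsg.indFun (L K p) (phi χ₁)

theorem chi'_irr {χ₁ : K → ℂ} (hχ : Cfsg.IsIrrCharacter K χ₁) :
    Cfsg.IsIrrCharacter (HW K p) (chi' (p := p) χ₁) := by
  apply isIrr_ind_of_stab (L K p) (phi χ₁) (phi_irr hχ)
  intro w hw
  rw [mem_L]
  -- test element
  let l₀ : L K p := ⟨⟨fun _ => 1, 0, 1, 0⟩, mem_L.2 rfl⟩
  have h1 := hw l₀
  rw [phi_conj (isClassFunction_irr hχ)] at h1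
  have h2 : phi (p := p) χ₁ l₀ ≠ 0 := by
    unfold phi
    simp only [l₀]
    rw [Finset.prod_const]
    simp only [ofAdd_zero, map_one, Units.val_one, mul_one]
    exact pow_ne_zero _ (irr_apply_one_ne_zero hχ)
  have h3 : ((eps p (Multiplicative.ofAdd (w.x * l₀.1.y)) : ℂˣ) : ℂ) = 1 := by
    have h4 : phi χ₁ l₀ * ((eps p (Multiplicative.ofAdd (w.x * l₀.1.y)) : ℂˣ) : ℂ)
        = phi χ₁ l₀ * 1 := by rw [h1, mul_one]
    exact mul_left_cancel₀ h2 h4
  have h5 : eps p (Multiplicative.ofAdd (w.x * l₀.1.y)) = 1 := Units.ext h3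
  rw [eps_eq_one_iff] at h5
  have h6 : w.x * (1 : ZMod p) = 0 := Multiplicative.ofAdd.injective h5
  rwa [mul_one] at h6

theorem chi'_one (χ₁ : K → ℂ) : chi' (p := p) χ₁ 1 = (p : ℂ) * χ₁ 1 ^ p := by
  unfold chi'
  rw [Cfsg.Agent.S0170.indFun_one]
  have h1 : phi (p := p) χ₁ (1 : L K p) = χ₁ 1 ^ p := phi_one χ₁
  rw [h1, card_L (K := K) (p := p)]
  have hL0 : (Nat.card (L K p) : ℂ) ≠ 0 := Nat.cast_ne_zero.2 Nat.card_pos.ne'
  push_cast
  field_simp

end Phi

end Cfsg.Agent.Lib.Helper8.GG
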