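import Mathlib
import Cfsg.Prelude.Def_Characters
import Cfsg.Agent.Lib.Helper8.GG1
import Cfsg.Agent.Lib.Helper8.GG2

set_option autoImplicit false

namespace Cfsg.Agent.Lib.Helper8.GG

open Cfsg.Agent.Lib.Helper1 Cfsg.Agent.Lib.Helper4 Cfsg.Agent.Lib.Helper8.DD
open scoped ComplexConjugate
open HW

universe u

section PhiMap
variable {K : Type u} [Group K] (A : Subgroup K) [hA : A.Normal] (p : ℕ)

/-- The quotient map to `(K/A ≀ Z_p) × Z_p`. -/
def PhiHom : HW K p →* ((K ⧸ A) ≀ᵣ Multiplicative (ZMod p)) × Multiplicative (ZMod p) where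
  toFun a := (⟨fun q => QuotientGroup.mk (a.f (Multiplicative.toAdd q)),
    Multiplicative.ofAdd a.x⟩, Multiplicative.ofAdd a.y)
  map_one' := by
    apply Prod.ext
    · apply RegularWreathProduct.ext
      · funext q
        rfl
      · rfl
    · rfl
  map_mul' a b := by
    apply Prod.ext
    · apply RegularWreathProduct.ext
      · funext q
        simp only [Prod.fst_mul, RegularWreathProduct.mul_left, Pi.mul_apply, mul_f,
          QuotientGroup.mk_mul]
        congr 3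
        simp only [toAdd_mul, toAdd_inv, toAdd_ofAdd]
        ring
      · rfl
    · rfl

/-- The new normal subgroup `A' = A^p × Z(Heis)`. -/
def A' : Subgroup (HW K p) := (PhiHom A p).ker

instance A'_normal : (A' A p).Normal := MonoidHom.normal_ker _

theorem mem_A' {a : HW K p} : a ∈ A' A p ↔ (∀ i, a.f i ∈ A) ∧ a.x = 0 ∧ a.y = 0 := by
  unfold A'
  rw [MonoidHom.mem_ker, Prod.ext_iff, RegularWreathProduct.ext_iff]
  constructor
  · rintro ⟨⟨h1, h2⟩, h3⟩
    refine ⟨fun i => ?_, Multiplicative.ofAdd.injective h2, Multiplicative.ofAdd.injective h3⟩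
    have h4 := congrFun h1 (Multiplicative.ofAdd i)
    exact (QuotientGroup.eq_one_iff _).1 h4
  · rintro ⟨h1, h2, h3⟩
    refine ⟨⟨?_, ?_⟩, ?_⟩
    · funext q
      exact (QuotientGroup.eq_one_iff _).2 (h1 _)
    · exact congrArg Multiplicative.ofAdd h2
    · exact congrArg Multiplicative.ofAdd h3

theorem PhiHom_surjective : Function.Surjective (PhiHom A p) := by
  rintro ⟨⟨g, q⟩, r⟩
  refine ⟨⟨fun i => Quotient.out (g (Multiplicative.ofAdd i)), Multiplicative.toAdd q,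
    Multiplicative.toAdd r, 0⟩, ?_⟩
  apply Prod.ext
  · apply RegularWreathProduct.ext
    · funext s
      exact QuotientGroup.out_eq' _
    · rfl
  · rfl

theorem index_A' [Finite K] [NeZero p] : (A' A p).index = A.index ^ p * p * p := by
  unfold A'
  have hc : Nat.card (Multiplicative (ZMod p)) = p := by
    rw [Nat.card_congr Multiplicative.toAdd, Nat.card_zmod]
  rw [Subgroup.index_ker, MonoidHom.range_eq_top.2 (PhiHom_surjective A p), Subgroup.card_top,
    Nat.card_prod, RegularWreathProduct.card, hc, Subgroup.index_eq_card]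

theorem A'_le_L : A' A p ≤ L K p := by
  intro a ha
  exact mem_L.2 ((mem_A' A p).1 ha).2.1

/-- The isomorphism of the quotient with the image. -/
noncomputable def quotEquiv :
    HW K p ⧸ A' A p ≃* ((K ⧸ A) ≀ᵣ Multiplicative (ZMod p)) × Multiplicative (ZMod p) :=
  QuotientGroup.quotientKerEquivOfSurjective (PhiHom A p) (PhiHom_surjective A p)

end PhiMap

section Lam
variable {K : Type u} [Group K] (A : Subgroup K) [hA : A.Normal] (p : ℕ) [NeZero p]

/-- The new linear character of `A'`. -/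
noncomputable def lam' (lam₁ : A →* ℂˣ) : A' A p →* ℂˣ where
  toFun a := (∏ i, lam₁ ⟨a.1.f i, ((mem_A' A p).1 a.2).1 i⟩) * eps p (Multiplicative.ofAdd a.1.z)
  map_one' := by
    have h1 : ∀ i : ZMod p, lam₁ ⟨(1 : A' A p).1.f i, ((mem_A' A p).1 (1 : A' A p).2).1 i⟩ = 1 := by
      intro i
      have : (⟨(1 : A' A p).1.f i, ((mem_A' A p).1 (1 : A' A p).2).1 i⟩ : A) = 1 := by
        apply Subtype.ext
        rfl
      rw [this, map_one]
    rw [Finset.prod_congr rfl fun i _ => h1 i, Finset.prod_const_one, one_mul]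
    exact map_one _
  map_mul' a b := by
    have hax : a.1.x = 0 := ((mem_A' A p).1 a.2).2.1
    have h1 : ∀ i : ZMod p, lam₁ ⟨(a * b).1.f i, ((mem_A' A p).1 (a * b).2).1 i⟩
        = lam₁ ⟨a.1.f i, ((mem_A' A p).1 a.2).1 i⟩ * lam₁ ⟨b.1.f i, ((mem_A' A p).1 b.2).1 i⟩ := by
      intro i
      rw [← map_mul]
      congr 1
      apply Subtype.ext
      simp [hax]
    have h2 : (a * b).1.z = a.1.z + b.1.z := by
      simp [hax]
    rw [Finset.prod_congr rfl fun i _ => h1 i, Finset.prod_mul_distrib, h2, ofAdd_add, map_mul]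
    exact mul_mul_mul_comm _ _ _ _

theorem lam'_apply (lam₁ : A →* ℂˣ) (a : A' A p) :
    lam' A p lam₁ a = (∏ i, lam₁ ⟨a.1.f i, ((mem_A' A p).1 a.2).1 i⟩)
      * eps p (Multiplicative.ofAdd a.1.z) := rfl

theorem lam'_pow (lam₁ : A →* ℂˣ) (n : ℕ) (hn : ∀ a : A, lam₁ a ^ n = 1) (hp : p ∣ n)
    (a : A' A p) : lam' A p lam₁ a ^ n = 1 := by
  rw [lam'_apply, mul_pow, ← Finset.prod_pow, Finset.prod_congr rfl fun i _ => hn _,
    Finset.prod_const_one, one_mul]
  obtain ⟨k, rfl⟩ := hp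
  rw [pow_mul, eps_pow, one_pow]

/-- The element of `A'` with a single nontrivial coordinate. -/
def sgl (a₁ : A) : A' A p :=
  ⟨⟨fun i => if i = 0 then (a₁ : K) else 1, 0, 0, 0⟩, by
    rw [mem_A']
    refine ⟨fun i => ?_, rfl, rfl⟩
    by_cases hi : i = 0
    · simp only [hi, if_true]
      exact a₁.2
    · simp only [hi, if_false]
      exact one_mem _⟩

theorem lam'_sgl (lam₁ : A →* ℂˣ) (a₁ : A) : lam' A p lam₁ (sgl A p a₁) = lam₁ a₁ := by
  rw [lam'_apply]
  have h0 : (sgl A p a₁).1.z = 0 := rfl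
  rw [h0, ofAdd_zero, map_one, mul_one]
  rw [Finset.prod_eq_single (0 : ZMod p)]
  · congr 1
    apply Subtype.ext
    exact if_pos rfl
  · intro i _ hi
    have : (⟨(sgl A p a₁).1.f i, ((mem_A' A p).1 (sgl A p a₁).2).1 i⟩ : A) = 1 := by
      apply Subtype.ext
      exact if_neg hi
    rw [this, map_one]
  · intro h
    exact absurd (Finset.mem_univ _) h

/-- The central element `z = t`. -/
def zel (t : ZMod p) : A' A p :=
  ⟨⟨fun _ => 1, 0, 0, t⟩, by
    rw [mem_A']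
    exact ⟨fun _ => one_mem _, rfl, rfl⟩⟩

theorem lam'_zel (lam₁ : A →* ℂˣ) (t : ZMod p) :
    lam' A p lam₁ (zel A p t) = eps p (Multiplicative.ofAdd t) := by
  rw [lam'_apply]
  have h1 : ∀ i : ZMod p,
      lam₁ ⟨(zel A p t).1.f i, ((mem_A' A p).1 (zel A p t).2).1 i⟩ = 1 := by
    intro i
    have : (⟨(zel A p t).1.f i, ((mem_A' A p).1 (zel A p t).2).1 i⟩ : A) = 1 := by
      apply Subtype.ext
      rfl
    rw [this, map_one]
  rw [Finset.prod_congr rfl fun i _ => h1 i, Finset.prod_const_one, one_mul]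
  rfl

theorem range_le_lam' (lam₁ : A →* ℂˣ) : lam₁.range ≤ (lam' A p lam₁).range := by
  rintro _ ⟨a₁, rfl⟩
  exact ⟨sgl A p a₁, lam'_sgl A p lam₁ a₁⟩

theorem eps_range_le_lam' (lam₁ : A →* ℂˣ) : (eps p).range ≤ (lam' A p lam₁).range := by
  rintro _ ⟨t, rfl⟩
  exact ⟨zel A p (Multiplicative.toAdd t), lam'_zel A p lam₁ _⟩

theorem eps_injective : Function.Injective (eps p) := by
  rw [injective_iff_map_eq_one]
  intro t ht
  exact (eps_eq_one_iff p t).1 ht

theorem card_eps_range : Nat.card (eps p).range = p := by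
  rw [Nat.card_congr (MonoidHom.ofInjective (eps_injective p)).toEquiv.symm,
    Nat.card_congr Multiplicative.toAdd, Nat.card_zmod]

end Lam

section Values
variable {K : Type u} [Group K] [Fintype K] (A : Subgroup K) [hA : A.Normal] (p : ℕ) [NeZero p]

theorem chi'_apply_A' (χ₁ : K → ℂ) (hcf : Cfsg.IsClassFunction K χ₁) (lam₁ : A →* ℂˣ)
    (h₁ : ∀ a : A, χ₁ a = χ₁ 1 * ((lam₁ a : ℂˣ) : ℂ)) (a : A' A p) :
    chi' (p := p) χ₁ (a : HW K p)
      = chi' (p := p) χ₁ 1 * ((lam' A p lam₁ a : ℂˣ) : ℂ) := by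
  have hx : a.1.x = 0 := ((mem_A' A p).1 a.2).2.1
  have hy : a.1.y = 0 := ((mem_A' A p).1 a.2).2.2
  have hconst : ∀ w : HW K p,
      phi χ₁ ⟨w * ((⟨a.1, mem_L.2 hx⟩ : L K p) : HW K p) * w⁻¹,
        L_normal.conj_mem _ (mem_L.2 hx) w⟩ = phi χ₁ ⟨a.1, mem_L.2 hx⟩ := by
    intro w
    rw [phi_conj hcf w ⟨a.1, mem_L.2 hx⟩]
    simp only [hy, mul_zero, ofAdd_zero, map_one, Units.val_one, mul_one]
  have h2 := indFun_apply_of_const (L K p) (phi χ₁) ⟨a.1, mem_L.2 hx⟩ _ hconst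
  have h3 : chi' (p := p) χ₁ (a : HW K p)
      = Cfsg.indFun (L K p) (phi χ₁) ((⟨a.1, mem_L.2 hx⟩ : L K p) : HW K p) := rfl
  rw [h3, h2, chi'_one, card_L (K := K) (p := p)]
  have hL0 : (Nat.card (L K p) : ℂ) ≠ 0 := Nat.cast_ne_zero.2 Nat.card_pos.ne'
  have h4 : phi χ₁ ⟨a.1, mem_L.2 hx⟩ = χ₁ 1 ^ p * ((lam' A p lam₁ a : ℂˣ) : ℂ) := by
    unfold phi
    rw [lam'_apply, Units.val_mul]
    simp only
    rw [← mul_assoc]
    congr 1
    have h5 : ∀ i : ZMod p, χ₁ (a.1.f i)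
        = χ₁ 1 * ((lam₁ ⟨a.1.f i, ((mem_A' A p).1 a.2).1 i⟩ : ℂˣ) : ℂ) := by
      intro i
      exact h₁ ⟨a.1.f i, ((mem_A' A p).1 a.2).1 i⟩
    rw [Finset.prod_congr rfl fun i _ => h5 i, Finset.prod_mul_distrib, Finset.prod_const,
      Finset.card_univ, ZMod.card]
    congr 1
    simp
  rw [h4]
  push_cast
  field_simp

theorem chi'_one_sq (χ₁ : K → ℂ) (h₁ : χ₁ 1 ^ 2 = (A.index : ℂ)) :
    chi' (p := p) χ₁ 1 ^ 2 = ((A' A p).index : ℂ) := by
  rw [chi'_one, index_A', mul_pow, ← pow_mul, mul_comm p 2, pow_mul, h₁]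
  push_cast
  ring

end Values

end Cfsg.Agent.Lib.Helper8.GG
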