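import Mathlib
import Cfsg.Prelude.Def_Characters
import Cfsg.Agent.Lib.Helper8.GG1
import Cfsg.Agent.Lib.Helper8.GG2
import Cfsg.Agent.Lib.Helper8.GG3
import Cfsg.Agent.Lib.Helper8.DD5
import Cfsg.Agent.Lib.Helper2.Schmidt2

set_option autoImplicit false

namespace Cfsg.Agent.Lib.Helper8.GG

open Cfsg.Agent.Lib.Helper1 Cfsg.Agent.Lib.Helper4 Cfsg.Agent.Lib.Helper8.DD
open scoped ComplexConjugate
open HW

universe u

/-- The product of the prime divisors. -/
def rad (n : ℕ) : ℕ := ∏ q ∈ n.primeFactors, q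

theorem rad_dvd_rad {m n : ℕ} (h : m ∣ n) (hn : n ≠ 0) : rad m ∣ rad n :=
  Finset.prod_dvd_prod_of_subset _ _ _ (Nat.primeFactors_mono h hn)

theorem prime_dvd_rad {q n : ℕ} (hq : q.Prime) (h : q ∣ n) (hn : n ≠ 0) : q ∣ rad n :=
  Finset.dvd_prod_of_mem _ (Nat.mem_primeFactors.2 ⟨hq, h, hn⟩)

theorem rad_squarefree (n : ℕ) : Squarefree (rad n) := by
  unfold rad
  rw [Nat.squarefree_iff_prime_squarefree]
  intro q hq hdvd
  -- q * q ∣ ∏ of distinct primes
  have h1 : ∀ s : Finset ℕ, (∀ r ∈ s, r.Prime) → ¬ q * q ∣ ∏ r ∈ s, r := by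
    intro s
    induction s using Finset.induction_on with
    | empty =>
      intro _ h
      rw [Finset.prod_empty, Nat.dvd_one] at h
      have := hq.two_le
      nlinarith
    | insert a s ha ih =>
      intro hs h
      rw [Finset.prod_insert ha] at h
      have hap : a.Prime := hs a (Finset.mem_insert_self _ _)
      have hs' : ∀ r ∈ s, r.Prime := fun r hr => hs r (Finset.mem_insert_of_mem hr)
      by_cases hqa : q = a
      · subst hqa
        have h2 : q ∣ ∏ r ∈ s, r := Nat.dvd_of_mul_dvd_mul_left hq.pos h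
        obtain ⟨r, hr, hqr⟩ := (Prime.dvd_finsetProd_iff hq.prime _).1 h2
        have : q = r := (Nat.prime_dvd_prime_iff_eq hq (hs' r hr)).1 hqr
        exact ha (this ▸ hr)
      · have hcop : Nat.Coprime (q * q) a := by
          have : Nat.Coprime q a := (Nat.coprime_primes hq hap).2 hqa
          exact Nat.Coprime.mul_left this this
        exact ih hs' (hcop.dvd_of_dvd_mul_left h)
  exact h1 _ (fun r hr => Nat.prime_of_mem_primeFactors hr) hdvd

/-- The inductive datum. -/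
def Datum (G : Type u) [Group G] : Prop :=
  ∃ (H : Type u) (_ : Group H) (_ : Fintype H) (A : Subgroup H) (_ : A.Normal) (χ : H → ℂ)
    (lam : A →* ℂˣ),
    Cfsg.IsIrrCharacter H χ ∧ (∀ a : A, χ a = χ 1 * ((lam a : ℂˣ) : ℂ)) ∧
    χ 1 ^ 2 = (A.index : ℂ) ∧
    (∃ f : G →* H ⧸ A, Function.Injective f) ∧
    (∀ q : ℕ, q.Prime → q ∣ Nat.card H → q ∣ Nat.card G) ∧
    (∀ a : A, lam a ^ rad (Nat.card G) = 1) ∧
    (∀ q : ℕ, q.Prime → q ∣ Nat.card G → q ∣ Nat.card lam.range)

theorem datum_of_subsingleton (G : Type u) [Group G] [Finite G] [Subsingleton G] : Datum G := by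
  have : Fintype G := Fintype.ofFinite G
  have hc : Nat.card G = 1 := Nat.card_eq_one_iff_unique.2 ⟨inferInstance, ⟨1⟩⟩
  refine ⟨G, inferInstance, inferInstance, ⊤, inferInstance,
    fun g => (((1 : G →* ℂˣ) g : ℂˣ) : ℂ), 1, isIrrCharacter_of_hom 1, ?_, ?_,
    ⟨QuotientGroup.mk' ⊤, Function.injective_of_subsingleton _⟩, fun q _ h => h, ?_, ?_⟩
  · intro a
    simp
  · simp
  · intro a
    simp
  · intro q hq h
    rw [hc] at h
    exact absurd (Nat.dvd_one.1 h) hq.ne_one

theorem datum_step (G : Type u) [Group G] [Finite G] (N : Subgroup G) [hN : N.Normal]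
    (hp : (Nat.card (G ⧸ N)).Prime) (hD : Datum N) : Datum G := by
  obtain ⟨H₁, iG, iF, A₁, iA, χ₁, lam₁, hirr, hval, hsq, ⟨f₁, hf₁⟩, hpr, hpow, hrg⟩ := hD
  set p : ℕ := Nat.card (G ⧸ N) with hpdef
  have : NeZero p := ⟨hp.ne_zero⟩
  have : Fact p.Prime := ⟨hp⟩
  have hcardG : Nat.card G = Nat.card N * p := by
    rw [hpdef, ← Subgroup.index_eq_card, Subgroup.card_mul_index]
  have hG0 : Nat.card G ≠ 0 := Nat.card_pos.ne'
  have hcyc : IsCyclic (G ⧸ N) := isCyclic_of_prime_card (p := p) rfl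
  let cyc : G ⧸ N ≃* Multiplicative (ZMod p) := (zmodCyclicMulEquiv hcyc).symm
  let e₂ : N ≀ᵣ (G ⧸ N) ≃* N ≀ᵣ Multiplicative (ZMod p) :=
    RegularWreathProduct.congr (MulEquiv.refl N) cyc
  refine ⟨HW H₁ p, inferInstance, inferInstance, A' A₁ p, inferInstance, chi' (p := p) χ₁,
    lam' A₁ p lam₁, chi'_irr hirr, ?_, chi'_one_sq A₁ p χ₁ hsq, ?_, ?_, ?_, ?_⟩
  · exact chi'_apply_A' A₁ p χ₁ (isClassFunction_irr hirr) lam₁ hval
  · refine ⟨(quotEquiv A₁ p).symm.toMonoidHom.comp
      ((MonoidHom.inl _ (Multiplicative (ZMod p))).comp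
        ((wrMap f₁).comp (e₂.toMonoidHom.comp (kk N)))), ?_⟩
    refine (quotEquiv A₁ p).symm.injective.comp ?_
    refine (Prod.mk_left_injective (1 : Multiplicative (ZMod p))).comp ?_
    refine (wrMap_injective f₁ hf₁).comp ?_
    exact e₂.injective.comp (kk_injective N)
  · intro q hq hdvd
    rw [HW.card] at hdvd
    rw [hcardG]
    rcases (Nat.Prime.dvd_mul hq).1 hdvd with h | h
    · have h1 : q ∣ Nat.card H₁ := hq.dvd_of_dvd_pow h
      exact Dvd.dvd.mul_right (hpr q hq h1) _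
    · have h1 : q ∣ p := hq.dvd_of_dvd_pow h
      exact Dvd.dvd.mul_left h1 _
  · intro a
    refine lam'_pow A₁ p lam₁ _ ?_ ?_ a
    · intro a₁
      have h1 : rad (Nat.card N) ∣ rad (Nat.card G) :=
        rad_dvd_rad (Subgroup.card_subgroup_dvd_card N) hG0
      obtain ⟨k, hk⟩ := h1
      rw [hk, pow_mul, hpow a₁, one_pow]
    · apply prime_dvd_rad hp _ hG0
      rw [hcardG]
      exact Dvd.intro_left _ rfl
  · intro q hq hdvd
    rw [hcardG] at hdvd
    rcases (Nat.Prime.dvd_mul hq).1 hdvd with h | h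
    · exact (hrg q hq h).trans (Subgroup.card_dvd_of_le (range_le_lam' A₁ p lam₁))
    · have h1 : q = p := (Nat.prime_dvd_prime_iff_eq hq hp).1 h
      rw [h1]
      have h2 := Subgroup.card_dvd_of_le (eps_range_le_lam' A₁ p lam₁)
      rwa [card_eps_range] at h2

/-- Every finite solvable group has a datum. -/
theorem datum_aux : ∀ n : ℕ, ∀ (G : Type u) [Group G] [Finite G], Group.IsSolvable G →
    Nat.card G = n → Datum G := by
  intro n
  induction n using Nat.strong_induction_on with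
  | _ n ih =>
  intro G _ _ hsolv hn
  by_cases htriv : Subsingleton G
  · exact datum_of_subsingleton G
  · have hnt : Nontrivial G := not_subsingleton_iff_nontrivial.1 htriv
    obtain ⟨N, hNn, hNp⟩ := Cfsg.Agent.Lib.Helper2.Schmidt.exists_normal_prime_index (G := G)
    have hlt : Nat.card N < n := by
      rw [← hn, ← Subgroup.card_mul_index N]
      have h2 := hNp.two_le
      have h0 : 0 < Nat.card N := Nat.card_pos
      nlinarith
    have hD := ih (Nat.card N) hlt N (inferInstance) rfl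
    refine datum_step G N ?_ hD
    rw [← Subgroup.index_eq_card]
    exact hNp

end Cfsg.Agent.Lib.Helper8.GG
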