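import Mathlib
import Cfsg.Prelude.Def_Characters
import Cfsg.Prelude.Def_Blocks
import Cfsg.Agent.Lib.Helper8.GG4
import Cfsg.Agent.Lib.Helper8.Deflation
import Cfsg.Agent.Lib.Helper1.CharCenter
import Cfsg.Agent.S0138

set_option autoImplicit false

namespace Cfsg.Agent.Lib.Helper8.GG

open Cfsg.Agent.Lib.Helper1 Cfsg.Agent.Lib.Helper4 Cfsg.Agent.Lib.Helper8.DD
open scoped ComplexConjugate

universe u

section Extract
variable {H : Type u} [Group H] [Fintype H] (A : Subgroup H) [hA : A.Normal]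

/-- A fully ramified character vanishes off the subgroup. -/
theorem vanish_off {χ : H → ℂ} (hirr : Cfsg.IsIrrCharacter H χ) (lam : A →* ℂˣ)
    (hval : ∀ a : A, χ a = χ 1 * ((lam a : ℂˣ) : ℂ))
    (hnorm : ∀ a : A, ‖((lam a : ℂˣ) : ℂ)‖ = 1)
    (hsq : χ 1 ^ 2 = (A.index : ℂ)) (h : H) (hh : h ∉ A) : χ h = 0 := by
  classical
  have h1 := classInner_irr_self hirr
  unfold Cfsg.classInner at h1
  have hH0 : (Nat.card H : ℂ) ≠ 0 := Nat.cast_ne_zero.2 Nat.card_pos.ne'
  have h2 : ∑ g : H, χ g * conj (χ g) = (Nat.card H : ℂ) := by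
    have := congrArg (fun t => (Nat.card H : ℂ) * t) h1
    simp only [mul_one] at this
    rw [← this, ← mul_assoc, mul_inv_cancel₀ hH0, one_mul]
  have h3 : ∑ g : H, Complex.normSq (χ g) = (Nat.card H : ℝ) := by
    have h4 : ∀ g : H, χ g * conj (χ g) = ((Complex.normSq (χ g) : ℝ) : ℂ) :=
      fun g => Complex.mul_conj _
    rw [Finset.sum_congr rfl fun g _ => h4 g, ← Complex.ofReal_sum] at h2
    have h5 : ((Nat.card H : ℝ) : ℂ) = (Nat.card H : ℂ) := by push_cast; rfl
    rw [← h5] at h2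
    exact Complex.ofReal_injective h2
  have hχ1 : Complex.normSq (χ 1) = (A.index : ℝ) := by
    rw [Complex.normSq_eq_norm_sq, ← norm_pow, hsq, Complex.norm_natCast]
  have h6 : ∑ g ∈ Finset.univ.filter (fun g : H => g ∈ A), Complex.normSq (χ g)
      = (Nat.card H : ℝ) := by
    rw [Finset.sum_subtype (Finset.univ.filter (fun g : H => g ∈ A)) (p := fun g => g ∈ A)
      (fun x => by simp) (fun g => Complex.normSq (χ g))]
    have h7 : ∀ a : A, Complex.normSq (χ (a : H)) = (A.index : ℝ) := by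
      intro a
      rw [hval a, Complex.normSq_mul, hχ1, Complex.normSq_eq_norm_sq, hnorm a]
      simp
    rw [Finset.sum_congr rfl fun a _ => h7 a, Finset.sum_const, Finset.card_univ,
      nsmul_eq_mul, ← Nat.card_eq_fintype_card, ← Nat.cast_mul, Subgroup.card_mul_index]
  have h8 := Finset.sum_filter_add_sum_filter_not Finset.univ (fun g : H => g ∈ A)
    (fun g => Complex.normSq (χ g))
  rw [h6, h3] at h8
  have h9 : ∑ g ∈ Finset.univ.filter (fun g : H => ¬ g ∈ A), Complex.normSq (χ g) = 0 := by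
    linarith
  have h10 := (Finset.sum_eq_zero_iff_of_nonneg
    (fun g _ => Complex.normSq_nonneg (χ g))).1 h9 h (by simp [hh])
  exact Complex.normSq_eq_zero.1 h10

end Extract

/-- Extraction of the central-type group from the datum. -/
theorem extract {G : Type u} [Group G] [Finite G] (hD : Datum G) :
    ∃ (H : Type u) (_ : Group H) (_ : Finite H) (χ : Cfsg.IrrCharacter H),
      (∀ h : H, (χ : H → ℂ) h = (χ : H → ℂ) 1 → h = 1) ∧
      (Cfsg.charDegree (χ : H → ℂ)) ^ 2 = (Subgroup.center H).index ∧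
      (∃ f : G →* H ⧸ Subgroup.center H, Function.Injective f) ∧
      (∀ p : ℕ, p.Prime → ((p ∣ Nat.card H ↔ p ∣ Nat.card G) ∧
        (p ∣ Nat.card (Subgroup.center H) ↔ p ∣ Nat.card G))) ∧
      Squarefree (Nat.card (Subgroup.center H)) := by
  obtain ⟨H, iG, iF, A, iA, χ, lam, hirr, hval, hsq, ⟨f, hf⟩, hpr, hpow, hrg⟩ := hD
  classical
  have hχ1 : χ 1 ≠ 0 := irr_apply_one_ne_zero hirr
  have hcf := isClassFunction_irr hirr
  have hG0 : Nat.card G ≠ 0 := Nat.card_pos.ne'
  have hrad0 : rad (Nat.card G) ≠ 0 := (rad_squarefree _).ne_zero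
  have hnorm : ∀ a : A, ‖((lam a : ℂˣ) : ℂ)‖ = 1 := by
    intro a
    apply Complex.norm_eq_one_of_pow_eq_one (n := rad (Nat.card G)) _ hrad0
    rw [← Units.val_pow_eq_pow_val, hpow a, Units.val_one]
  have hvan : ∀ h : H, h ∉ A → χ h = 0 := vanish_off A hirr lam hval hnorm hsq
  -- the kernel
  obtain ⟨K, hKdef⟩ : ∃ K : Subgroup H, K = lam.ker.map A.subtype := ⟨_, rfl⟩
  have hK_le : K ≤ A := by
    rw [hKdef]
    rintro _ ⟨a, _, rfl⟩
    exact a.2
  have hK_mem : ∀ a : A, (a : H) ∈ K ↔ lam a = 1 := by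
    intro a
    rw [hKdef]
    have := Subgroup.mem_map_iff_mem (f := A.subtype) (K := lam.ker) A.subtype_injective
      (x := a)
    rw [MonoidHom.mem_ker] at this
    exact this
  clear hKdef
  have hker : ∀ h : H, χ h = χ 1 ↔ h ∈ K := by
    intro h
    constructor
    · intro hh
      have hA : h ∈ A := by
        by_contra hn
        rw [hvan h hn] at hh
        exact hχ1 hh.symm
      have h1 := hval ⟨h, hA⟩
      have h2 : χ 1 * ((lam ⟨h, hA⟩ : ℂˣ) : ℂ) = χ 1 * 1 := by
        rw [← h1, mul_one]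
        exact hh
      have h3 := mul_left_cancel₀ hχ1 h2
      exact (hK_mem ⟨h, hA⟩).2 (Units.ext h3)
    · intro hh
      have hA : h ∈ A := hK_le hh
      have h1 := (hK_mem ⟨h, hA⟩).1 hh
      have h2 := hval ⟨h, hA⟩
      rw [h1] at h2
      simpa using h2
  have hKn : K.Normal := ⟨fun k hk g => (hker _).1 ((hcf k g).trans ((hker k).2 hk))⟩
  obtain ⟨ψ, hψirr, hψ⟩ := exists_deflation K hirr (fun g hg => (hker g).2 hg)
  have hψ1 : ψ 1 = χ 1 := by
    have := hψ 1
    rwa [QuotientGroup.mk_one] at this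
  -- conjugation invariance of lam
  have hlam_conj : ∀ (a : A) (h : H) (hb : h * a * h⁻¹ ∈ A), lam ⟨h * a * h⁻¹, hb⟩ = lam a := by
    intro a h hb
    have h1 := hval ⟨h * a * h⁻¹, hb⟩
    have h2 := hval a
    have h3 : χ (h * a * h⁻¹) = χ a := hcf a h
    have h4 : χ 1 * ((lam ⟨h * a * h⁻¹, hb⟩ : ℂˣ) : ℂ) = χ 1 * ((lam a : ℂˣ) : ℂ) := by
      rw [← h1, ← h2]
      exact h3
    exact Units.ext (mul_left_cancel₀ hχ1 h4)
  -- the center
  have hZ : Subgroup.center (H ⧸ K) = A.map (QuotientGroup.mk' K) := by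
    apply le_antisymm
    · intro x hx
      obtain ⟨h, rfl⟩ := QuotientGroup.mk_surjective x
      obtain ⟨n, ρ, hρirr, hρ⟩ := hψirr
      have hsc := central_scalar ρ hx
      have h1 := (Cfsg.Agent.S0138.result ρ (QuotientGroup.mk h : H ⧸ K)).2 hsc
      have h2 : ρ.character (1 : H ⧸ K) = (Module.finrank ℂ (Fin n → ℂ) : ℂ) :=
        Representation.char_one ρ
      have h3 : (Module.finrank ℂ (Fin n → ℂ) : ℂ) ≠ 0 := by
        rw [← h2, hρ, hψ1]
        exact hχ1
      have h4 : χ h ≠ 0 := by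
        rw [← hψ h, ← hρ]
        intro h0
        rw [h0, norm_zero] at h1
        apply h3
        have : (Module.finrank ℂ (Fin n → ℂ) : ℝ) = 0 := h1.symm
        exact_mod_cast this
      have hA : h ∈ A := by
        by_contra hn
        exact h4 (hvan h hn)
      exact ⟨h, hA, rfl⟩
    · rintro _ ⟨a, ha, rfl⟩
      rw [Subgroup.mem_center_iff]
      intro y
      obtain ⟨h, rfl⟩ := QuotientGroup.mk_surjective y
      have hb : h * a * h⁻¹ ∈ A := iA.conj_mem a ha h
      have h1 : h * a * h⁻¹ * a⁻¹ ∈ K := by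
        have h2 : h * a * h⁻¹ * a⁻¹ = (((⟨h * a * h⁻¹, hb⟩ : A) * (⟨a, ha⟩ : A)⁻¹ : A) : H) := rfl
        rw [h2, hK_mem, map_mul, map_inv, hlam_conj ⟨a, ha⟩ h hb, mul_inv_cancel]
      have h3 : (QuotientGroup.mk (h * a * h⁻¹ * a⁻¹) : H ⧸ K) = 1 :=
        (QuotientGroup.eq_one_iff _).2 h1
      simp only [QuotientGroup.mk'_apply]
      rw [QuotientGroup.mk_mul, QuotientGroup.mk_mul, QuotientGroup.mk_mul, QuotientGroup.mk_inv,
        QuotientGroup.mk_inv, mul_inv_eq_one, mul_inv_eq_iff_eq_mul] at h3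
      exact h3
  have hindex : (Subgroup.center (H ⧸ K)).index = A.index := by
    rw [hZ]
    have h1 : (QuotientGroup.mk' K).ker ≤ A := by
      rw [QuotientGroup.ker_mk']
      exact hK_le
    exact Subgroup.index_map_eq A (QuotientGroup.mk'_surjective K) h1
  -- order of the center
  have hcardZ : Nat.card (Subgroup.center (H ⧸ K)) = Nat.card lam.range := by
    rw [hZ]
    let ψ₀ : A →* H ⧸ K := (QuotientGroup.mk' K).comp A.subtype
    have h1 : A.map (QuotientGroup.mk' K) = ψ₀.range := by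
      ext x
      constructor
      · rintro ⟨a, ha, rfl⟩
        exact ⟨⟨a, ha⟩, rfl⟩
      · rintro ⟨a, rfl⟩
        exact ⟨a, a.2, rfl⟩
    have h2 : ψ₀.ker = lam.ker := by
      ext a
      rw [MonoidHom.mem_ker, MonoidHom.mem_ker]
      have : ψ₀ a = (QuotientGroup.mk (a : H) : H ⧸ K) := rfl
      rw [this, QuotientGroup.eq_one_iff, hK_mem]
    rw [h1, ← Subgroup.index_ker, h2, Subgroup.index_ker]
  have hfinr : Finite lam.range :=
    Finite.of_surjective lam.rangeRestrict lam.rangeRestrict_surjective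
  have hdvd : Nat.card lam.range ∣ rad (Nat.card G) := by
    have hcyc : IsCyclic lam.range := inferInstance
    rw [← IsCyclic.exponent_eq_card]
    apply Monoid.exponent_dvd_of_forall_pow_eq_one
    rintro ⟨_, ⟨a, rfl⟩⟩
    apply Subtype.ext
    simp only [OneMemClass.coe_one]
    exact hpow a
  have hcardH : Nat.card (H ⧸ K) ∣ Nat.card H := Subgroup.card_quotient_dvd_card K
  have hcardZ' : Nat.card (Subgroup.center (H ⧸ K)) ∣ Nat.card (H ⧸ K) :=
    Subgroup.card_subgroup_dvd_card _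
  refine ⟨H ⧸ K, inferInstance, inferInstance, ⟨ψ, hψirr⟩, ?_, ?_, ?_, ?_, ?_⟩
  · intro x hx
    obtain ⟨h, rfl⟩ := QuotientGroup.mk_surjective x
    change ψ (QuotientGroup.mk h) = ψ 1 at hx
    rw [hψ h, hψ1] at hx
    exact (QuotientGroup.eq_one_iff _).2 ((hker h).1 hx)
  · change (Cfsg.charDegree ψ) ^ 2 = (Subgroup.center (H ⧸ K)).index
    rw [hindex]
    have h1 := (irr_apply_one_eq_charDegree hψirr).1
    rw [hψ1] at h1
    rw [h1] at hsq
    exact_mod_cast hsq
  · have hle : A ≤ (Subgroup.center (H ⧸ K)).comap (QuotientGroup.mk' K) := by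
      intro a ha
      rw [Subgroup.mem_comap, hZ]
      exact ⟨a, ha, rfl⟩
    refine ⟨(QuotientGroup.map A (Subgroup.center (H ⧸ K)) (QuotientGroup.mk' K) hle).comp f, ?_⟩
    have hinj : Function.Injective
        (QuotientGroup.map A (Subgroup.center (H ⧸ K)) (QuotientGroup.mk' K) hle) := by
      rw [injective_iff_map_eq_one]
      intro x hx
      obtain ⟨h, rfl⟩ := QuotientGroup.mk_surjective x
      rw [QuotientGroup.map_mk, QuotientGroup.eq_one_iff, hZ] at hx
      obtain ⟨a, ha, hah⟩ := hx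
      have h1 : a⁻¹ * h ∈ K := QuotientGroup.eq.1 hah
      have h2 : h = a * (a⁻¹ * h) := by group
      rw [QuotientGroup.eq_one_iff, h2]
      exact mul_mem ha (hK_le h1)
    rw [MonoidHom.coe_comp]
    exact hinj.comp hf
  · intro q hq
    constructor
    · constructor
      · intro h
        exact hpr q hq (h.trans hcardH)
      · intro h
        have h1 := hrg q hq h
        rw [← hcardZ] at h1
        exact h1.trans hcardZ'
    · constructor
      · intro h
        exact hpr q hq ((h.trans hcardZ').trans hcardH)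
      · intro h
        rw [hcardZ]
        exact hrg q hq h
  · rw [hcardZ]
    exact (rad_squarefree _).squarefree_of_dvd hdvd

end Cfsg.Agent.Lib.Helper8.GG
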