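import Mathlib
import Cfsg.Agent.Lib.Helper8.GL1

/-!
# Interface lemmas: a cyclic subgroup `S` normalising `G` with `G ⊔ S = ⊤`
-/

set_option autoImplicit false

namespace Cfsg.Agent.Lib.Helper8

universe u

section

variable {Γ : Type u} [Group Γ] {G S : Subgroup Γ}

theorem normal_of_normalizes (hnorm : ∀ s ∈ S, ∀ g ∈ G, s * g * s⁻¹ ∈ G) (htop : G ⊔ S = ⊤) :
    G.Normal := by
  rw [← Subgroup.normalizer_eq_top_iff, eq_top_iff, ← htop]
  apply sup_le Subgroup.le_normalizer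
  intro s hs
  rw [Subgroup.mem_normalizer_iff]
  intro g
  constructor
  · exact hnorm s hs g
  · intro h1
    have := hnorm s⁻¹ (S.inv_mem hs) _ h1
    simpa [mul_assoc] using this

theorem exists_gen_setup [Finite Γ] (hcyc : IsCyclic S) (hcop : (Nat.card G).Coprime (Nat.card S))
    (htop : G ⊔ S = ⊤) : ∃ s₀ : Γ, Subgroup.zpowers s₀ = S ∧ CycSetup G s₀ := by
  obtain ⟨⟨s₀, hs₀S⟩, hgen⟩ := hcyc.exists_generator
  have hZ : Subgroup.zpowers s₀ = S := by
    apply le_antisymm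
    · exact Subgroup.zpowers_le.2 hs₀S
    · intro x hx
      obtain ⟨i, hi⟩ := Subgroup.mem_zpowers_iff.1 (hgen ⟨x, hx⟩)
      rw [Subgroup.mem_zpowers_iff]
      refine ⟨i, ?_⟩
      have := congrArg Subtype.val hi
      simpa using this
  have hord : orderOf s₀ = Nat.card S := by rw [← Nat.card_zpowers, hZ]
  exact ⟨s₀, hZ, ⟨by rw [hord]; exact hcop, by rw [hZ]; exact htop⟩⟩

theorem inf_centralizer_eq_fixC {s : Γ} (hs : Subgroup.zpowers s = S) :
    G ⊓ Subgroup.centralizer (S : Set Γ) = fixC G s := by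
  ext c
  rw [mem_fixC_iff, Subgroup.mem_inf, Subgroup.mem_centralizer_iff]
  constructor
  · rintro ⟨h1, h2⟩
    exact ⟨h1, h2 s (by rw [← hs]; exact Subgroup.mem_zpowers s)⟩
  · rintro ⟨h1, h2⟩
    refine ⟨h1, ?_⟩
    intro x hx
    have hx' : x ∈ Subgroup.zpowers s := by rw [hs]; exact hx
    obtain ⟨i, rfl⟩ := Subgroup.mem_zpowers_iff.1 hx'
    have hc : Commute s c := h2
    exact (hc.zpow_left i).eq

end

end Cfsg.Agent.Lib.Helper8
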