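import Mathlib
import Cfsg.Prelude.Def_Characters
import Cfsg.Prelude.Def_Blocks
import Cfsg.Agent.Lib.Helper8.GL24

/-!
# Linear characters of a group with a normal complement
-/

set_option autoImplicit false
set_option linter.unusedSectionVars false

namespace Cfsg.Agent.Lib.Helper8

open Cfsg
open scoped ComplexConjugate
open Cfsg.Agent.Lib.Helper1 Cfsg.Agent.Lib.Helper4

universe u

section

variable {Γ : Type u} [Group Γ]

/-- The complement `H` of the normal subgroup `K` is isomorphic to the quotient. -/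
noncomputable def complEquivQuot (K H : Subgroup Γ) [hK : K.Normal] (hsup : K ⊔ H = ⊤)
    (hinf : K ⊓ H = ⊥) : H ≃* Γ ⧸ K :=
  MulEquiv.ofBijective ((QuotientGroup.mk' K).comp H.subtype) (by
    constructor
    · rw [injective_iff_map_eq_one]
      intro h hh
      rw [MonoidHom.comp_apply, QuotientGroup.mk'_apply, QuotientGroup.eq_one_iff] at hh
      have : (h : Γ) ∈ K ⊓ H := Subgroup.mem_inf.2 ⟨hh, h.2⟩
      rw [hinf, Subgroup.mem_bot] at this
      exact Subtype.ext this
    · intro y
      induction y using QuotientGroup.induction_on with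
      | H x =>
        have hx : x ∈ ((K ⊔ H : Subgroup Γ) : Set Γ) := by rw [hsup]; trivial
        rw [Subgroup.normal_mul] at hx
        obtain ⟨k, hk, h, hh, rfl⟩ := Set.mem_mul.1 hx
        refine ⟨⟨h, hh⟩, ?_⟩
        rw [MonoidHom.comp_apply, QuotientGroup.mk'_apply, Subgroup.subtype_apply]
        symm
        rw [QuotientGroup.mk_mul, (QuotientGroup.eq_one_iff k).2 hk, one_mul])

theorem complEquivQuot_apply (K H : Subgroup Γ) [hK : K.Normal] (hsup : K ⊔ H = ⊤)
    (hinf : K ⊓ H = ⊥) (h : H) :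
    complEquivQuot K H hsup hinf h = ((h : Γ) : Γ ⧸ K) := rfl

/-- The linear characters of `Γ` trivial on `K` correspond to the linear characters of the
complement `H`. -/
theorem card_lin (K H : Subgroup Γ) [hK : K.Normal] (hsup : K ⊔ H = ⊤) (hinf : K ⊓ H = ⊥) :
    Nat.card {φ : Γ →* ℂˣ // ∀ n : K, φ (n : Γ) = 1} = Nat.card (H →* ℂˣ) := by
  apply Nat.card_congr
  refine
    { toFun := fun φ => φ.1.comp H.subtype
      invFun := fun ψ => ⟨ψ.comp ((complEquivQuot K H hsup hinf).symm.toMonoidHom.comp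
        (QuotientGroup.mk' K)), ?_⟩
      left_inv := ?_
      right_inv := ?_ }
  · intro n
    rw [MonoidHom.comp_apply, MonoidHom.comp_apply, QuotientGroup.mk'_apply,
      (QuotientGroup.eq_one_iff (n : Γ)).2 n.2]
    simp
  · rintro ⟨φ, hφ⟩
    apply Subtype.ext
    refine MonoidHom.ext fun g => ?_
    show φ (((complEquivQuot K H hsup hinf).symm ((g : Γ) : Γ ⧸ K) : H) : Γ) = φ g
    set h := (complEquivQuot K H hsup hinf).symm ((g : Γ) : Γ ⧸ K) with hh
    have h1 : complEquivQuot K H hsup hinf h = ((g : Γ) : Γ ⧸ K) := by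
      rw [hh, MulEquiv.apply_symm_apply]
    rw [complEquivQuot_apply, QuotientGroup.eq] at h1
    have h2 := hφ ⟨_, h1⟩
    rw [map_mul, map_inv] at h2
    exact inv_mul_eq_one.1 h2
  · intro ψ
    refine MonoidHom.ext fun h => ?_
    show ψ ((complEquivQuot K H hsup hinf).symm (((h : Γ)) : Γ ⧸ K)) = ψ h
    rw [← complEquivQuot_apply K H hsup hinf h, MulEquiv.symm_apply_apply]

end

end Cfsg.Agent.Lib.Helper8
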