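import Mathlib
import Cfsg.Prelude.Def_Characters
import Cfsg.Prelude.Def_Blocks
import Cfsg.Agent.Lib.Helper8.GL25

/-!
# Characters of degree prime to `|H|` in `K H` and in the normaliser of `H`
-/

set_option autoImplicit false
set_option linter.unusedSectionVars false

namespace Cfsg.Agent.Lib.Helper8

open Cfsg
open scoped ComplexConjugate
open Cfsg.Agent.Lib.Helper1 Cfsg.Agent.Lib.Helper4

universe u

theorem card_irr_congr {A B : Type u} [Group A] [Group B] (e : A ≃* B) :
    Nat.card (IrrCharacter A) = Nat.card (IrrCharacter B) := by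
  apply Nat.card_congr
  refine
    { toFun := fun χ => ⟨fun b => (χ : A → ℂ) (e.symm b), isIrrCharacter_comp_mulEquiv χ.2 e.symm⟩
      invFun := fun χ => ⟨fun a => (χ : B → ℂ) (e a), isIrrCharacter_comp_mulEquiv χ.2 e⟩
      left_inv := ?_
      right_inv := ?_ }
  · intro χ
    apply Subtype.ext
    funext a
    show (χ : A → ℂ) (e.symm (e a)) = (χ : A → ℂ) a
    rw [MulEquiv.symm_apply_apply]
  · intro χ
    apply Subtype.ext
    funext b
    show (χ : B → ℂ) (e (e.symm b)) = (χ : B → ℂ) b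
    rw [MulEquiv.apply_symm_apply]

theorem card_hom_congr {A B : Type*} [Group A] [Group B] (e : A ≃* B) :
    Nat.card (A →* ℂˣ) = Nat.card (B →* ℂˣ) := by
  apply Nat.card_congr
  refine
    { toFun := fun ψ => ψ.comp e.symm.toMonoidHom
      invFun := fun ψ => ψ.comp e.toMonoidHom
      left_inv := ?_
      right_inv := ?_ }
  · intro ψ
    refine MonoidHom.ext fun a => ?_
    show ψ (e.symm (e a)) = ψ a
    rw [MulEquiv.symm_apply_apply]
  · intro ψ
    refine MonoidHom.ext fun b => ?_
    show ψ (e (e.symm b)) = ψ b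
    rw [MulEquiv.apply_symm_apply]

section

variable {Γ : Type u} [Group Γ] [Fintype Γ]

/-- The number of `S`-invariant irreducible characters of `G` is the number of irreducible
characters of `C_G(S)`. -/
theorem glau_count_simple (G S : Subgroup Γ) (hnorm : ∀ s ∈ S, Normalizes s G)
    (hcop : (Nat.card G).Coprime (Nat.card S)) (hsolv : Group.IsSolvable S) :
    Nat.card {χ : IrrCharacter G // InvS S G (χ : G → ℂ)}
      = Nat.card (IrrCharacter (G ⊓ Subgroup.centralizer (S : Set Γ) : Subgroup Γ)) := by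
  classical
  haveI : Fintype G := Fintype.ofFinite _
  have hbot : ∀ (A : Subgroup Γ), ∀ x ∈ (⊥ : Subgroup Γ), Normalizes x A := by
    intro A x hx
    rw [Subgroup.mem_bot.1 hx]
    exact Normalizes.one A
  haveI : Fintype (G ⊓ Subgroup.centralizer (S : Set Γ) : Subgroup Γ) := Fintype.ofFinite _
  have h1 := glau_count (Nat.card S) G S ⊥ le_rfl hsolv hnorm (hbot G) (hbot S) hcop
    (G ⊓ Subgroup.centralizer (S : Set Γ)) rfl
  have e1 : Nat.card {χ : IrrCharacter G // InvS S G (χ : G → ℂ)}
      = Nat.card {χ : IrrCharacter G // InvS S G (χ : G → ℂ) ∧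
        InvS (⊥ : Subgroup Γ) G (χ : G → ℂ)} := by
    apply Nat.card_congr (Equiv.subtypeEquivRight ?_)
    intro χ
    constructor
    · intro h
      exact ⟨h, invS_bot _ _⟩
    · rintro ⟨h, _⟩
      exact h
  have e2 : Nat.card {β : IrrCharacter (G ⊓ Subgroup.centralizer (S : Set Γ) : Subgroup Γ) //
      InvS (⊥ : Subgroup Γ) (G ⊓ Subgroup.centralizer (S : Set Γ))
        (β : (G ⊓ Subgroup.centralizer (S : Set Γ) : Subgroup Γ) → ℂ)}
      = Nat.card (IrrCharacter (G ⊓ Subgroup.centralizer (S : Set Γ) : Subgroup Γ)) := by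
    apply Nat.card_congr
    exact Equiv.subtypeUnivEquiv (fun β => invS_bot _ _)
  rw [e1, h1, e2]

end

section

variable {G : Type u} [Group G] [Fintype G]

/-- `N_K(H) = C_K(H)` when `K` is normal and `K ∩ H = 1`. -/
theorem inf_normalizer_eq (K H : Subgroup G) [hK : K.Normal] (hinf : K ⊓ H = ⊥) :
    K ⊓ Subgroup.normalizer (H : Set G) = K ⊓ Subgroup.centralizer (H : Set G) := by
  apply le_antisymm
  · intro n hn
    obtain ⟨hnK, hnN⟩ := Subgroup.mem_inf.1 hn
    refine Subgroup.mem_inf.2 ⟨hnK, ?_⟩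
    rw [Subgroup.mem_centralizer_iff]
    intro h hh
    have h1 : n * h * n⁻¹ ∈ H := (Subgroup.mem_normalizer_iff.1 hnN h).1 hh
    have h2 : n * h * n⁻¹ * h⁻¹ ∈ K ⊓ H := by
      refine Subgroup.mem_inf.2 ⟨?_, H.mul_mem h1 (H.inv_mem hh)⟩
      have h3 : n * h * n⁻¹ * h⁻¹ = n * (h * n⁻¹ * h⁻¹) := by group
      rw [h3]
      exact K.mul_mem hnK (hK.conj_mem _ (K.inv_mem hnK) h)
    rw [hinf, Subgroup.mem_bot] at h2
    have h4 : n * h = (n * h * n⁻¹ * h⁻¹) * (h * n) := by group
    rw [h4, h2, one_mul]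
  · exact inf_le_inf_left _ (Subgroup.centralizer_le_normalizer _)

/-- The count on the side of the normaliser. -/
theorem card_coprime_degree_normalizer (K H : Subgroup G) [hK : K.Normal] (hsup : K ⊔ H = ⊤)
    (hcop : (Nat.card K).Coprime (Nat.card H)) :
    Nat.card {η : IrrCharacter (Subgroup.normalizer (H : Set G)) //
        (charDegree (η : Subgroup.normalizer (H : Set G) → ℂ)).Coprime (Nat.card H)}
      = Nat.card (IrrCharacter (K ⊓ Subgroup.centralizer (H : Set G) : Subgroup G)) *
        Nat.card (H →* ℂˣ) := by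
  classical
  have hinf : K ⊓ H = ⊥ := disjoint_iff.1 (Subgroup.disjoint_of_coprime_natCard hcop)
  have hHN : H ≤ Subgroup.normalizer (H : Set G) := Subgroup.le_normalizer
  set N : Subgroup G := Subgroup.normalizer (H : Set G) with hN
  set K' : Subgroup N := K.subgroupOf N with hK'
  set H' : Subgroup N := H.subgroupOf N with hH'
  haveI : K'.Normal := Subgroup.normal_subgroupOf
  have hcardH' : Nat.card H' = Nat.card H := card_subgroupOf_of_le hHN
  have hsup' : K' ⊔ H' = ⊤ := by
    rw [eq_top_iff]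
    intro n _
    have hn : (n : G) ∈ ((K ⊔ H : Subgroup G) : Set G) := by rw [hsup]; trivial
    rw [Subgroup.normal_mul] at hn
    obtain ⟨k, hk, h, hh, hkh⟩ := Set.mem_mul.1 hn
    have hkN : k ∈ N := by
      have : k = n * h⁻¹ := by rw [← hkh]; group
      rw [this]
      exact N.mul_mem n.2 (N.inv_mem (hHN hh))
    have : n = (⟨k, hkN⟩ : N) * (⟨h, hHN hh⟩ : N) := Subtype.ext hkh.symm
    rw [this]
    exact Subgroup.mul_mem_sup (Subgroup.mem_subgroupOf.2 hk) (Subgroup.mem_subgroupOf.2 hh)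
  have hcardK' : Nat.card K' ∣ Nat.card K := by
    rw [hK', ← Subgroup.inf_subgroupOf_right, card_subgroupOf_of_le inf_le_right]
    exact Subgroup.card_dvd_of_le inf_le_left
  have hcop' : (Nat.card K').Coprime (Nat.card H') := by
    rw [hcardH']
    exact Nat.Coprime.coprime_dvd_left hcardK' hcop
  have hinf' : K' ⊓ H' = ⊥ := disjoint_iff.1 (Subgroup.disjoint_of_coprime_natCard hcop')
  have h1 := card_coprime_degree K' H' hsup' hcop'
  rw [hcardH', card_lin K' H' hsup' hinf',
    card_hom_congr (Subgroup.subgroupOfEquivOfLe hHN)] at h1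
  rw [h1]
  congr 1
  -- all characters of `K'` are invariant
  have hcent : ∀ t ∈ H', ∀ b ∈ K', t * b = b * t := by
    intro t ht b hb
    have hb' : (b : G) ∈ K ⊓ Subgroup.centralizer (H : Set G) := by
      rw [← inf_normalizer_eq K H hinf]
      exact Subgroup.mem_inf.2 ⟨Subgroup.mem_subgroupOf.1 hb, b.2⟩
    have := (Subgroup.mem_centralizer_iff.1 (Subgroup.mem_inf.1 hb').2) (t : G)
      (Subgroup.mem_subgroupOf.1 ht)
    exact Subtype.ext this
  have e1 : Nat.card {θ : IrrCharacter K' // InvS H' K' (θ : K' → ℂ)}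
      = Nat.card (IrrCharacter K') := by
    apply Nat.card_congr
    exact Equiv.subtypeUnivEquiv (fun θ => invS_of_central hcent _)
  rw [e1]
  -- `K' ≃* K ⊓ N = K ⊓ C(H)`
  have e2 : K' = (K ⊓ N).subgroupOf N := (Subgroup.inf_subgroupOf_right K N).symm
  have e3 : K ⊓ N = K ⊓ Subgroup.centralizer (H : Set G) := inf_normalizer_eq K H hinf
  rw [e2, e3]
  exact card_irr_congr (Subgroup.subgroupOfEquivOfLe (by rw [← e3]; exact inf_le_right))

end

end Cfsg.Agent.Lib.Helper8
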