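import Mathlib
import Cfsg.Agent.Lib.Lead.Glauberman

/-!
# Glauberman's lemma in a form with a normal subgroup acting trivially
-/

set_option autoImplicit false

namespace Cfsg.Agent.Lib.Helper8.GLS

open scoped Pointwise

universe u v

theorem exists_fixed_of_quot {Ĝ : Type u} [Group Ĝ] [Finite Ĝ] (G' S' N' : Subgroup Ĝ)
    [hG : G'.Normal] [hN : N'.Normal] (hNG : N' ≤ G') (hsup : G' ⊔ S' = ⊤)
    (hcop : (N'.relIndex G').Coprime (Nat.card S'))
    (hsolv : Group.IsSolvable S' ∨ Group.IsSolvable (G'.map (QuotientGroup.mk' N')))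
    {X : Type v} [Nonempty X] [MulAction Ĝ X]
    (htriv : ∀ n ∈ N', ∀ x : X, n • x = x)
    (htrans : ∀ x y : X, ∃ g ∈ G', g • x = y) :
    ∃ x : X, ∀ s ∈ S', s • x = x := by
  classical
  have hπs : Function.Surjective (QuotientGroup.mk' N') := QuotientGroup.mk'_surjective N'
  -- the action of the quotient
  let φ : Ĝ →* Equiv.Perm X := MulAction.toPermHom Ĝ X
  have hker : N' ≤ φ.ker := by
    intro n hn
    rw [MonoidHom.mem_ker]
    ext x
    exact htriv n hn x
  let ψ : Ĝ ⧸ N' →* Equiv.Perm X := QuotientGroup.lift N' φ hker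
  let act : MulAction (Ĝ ⧸ N') X := MulAction.compHom X ψ
  have hsm : ∀ (g : Ĝ) (x : X), ((QuotientGroup.mk' N') g) • x = g • x := by
    intro g x
    rfl
  have hKn : (G'.map (QuotientGroup.mk' N')).Normal := Subgroup.Normal.map hG _ hπs
  -- cardinalities
  have hKidx : (G'.map (QuotientGroup.mk' N')).index = G'.index := by
    rw [Subgroup.index_map, QuotientGroup.ker_mk', sup_of_le_left hNG,
      MonoidHom.range_eq_top.2 hπs, Subgroup.index_top, mul_one]
  have hKcard : Nat.card (G'.map (QuotientGroup.mk' N')) = N'.relIndex G' := by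
    have h1 := Subgroup.card_mul_index (G'.map (QuotientGroup.mk' N'))
    have h2 : Nat.card (Ĝ ⧸ N') = N'.index := rfl
    have h3 := Subgroup.relIndex_mul_index hNG
    rw [hKidx, h2, ← h3] at h1
    have hpos : 0 < G'.index := Nat.pos_of_ne_zero Subgroup.index_ne_zero_of_finite
    exact Nat.eq_of_mul_eq_mul_right hpos h1
  have hHdvd : Nat.card (S'.map (QuotientGroup.mk' N')) ∣ Nat.card S' := Subgroup.card_map_dvd _ _
  have hcopKH : (Nat.card (G'.map (QuotientGroup.mk' N'))).Coprime
      (Nat.card (S'.map (QuotientGroup.mk' N'))) := by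
    rw [hKcard]
    exact Nat.Coprime.coprime_dvd_right hHdvd hcop
  have hsupQ : G'.map (QuotientGroup.mk' N') ⊔ S'.map (QuotientGroup.mk' N') = ⊤ := by
    rw [← Subgroup.map_sup, hsup, ← MonoidHom.range_eq_map, MonoidHom.range_eq_top.2 hπs]
  have hdisj : Disjoint (G'.map (QuotientGroup.mk' N')) (S'.map (QuotientGroup.mk' N')) :=
    Subgroup.disjoint_of_coprime_natCard hcopKH
  have hc : Subgroup.IsComplement' (G'.map (QuotientGroup.mk' N')) (S'.map (QuotientGroup.mk' N')) := by
    apply Subgroup.isComplement'_of_disjoint_and_mul_eq_univ hdisj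
    rw [← Subgroup.normal_mul, hsupQ, Subgroup.coe_top]
  have hHidx : (G'.map (QuotientGroup.mk' N')).index = Nat.card (S'.map (QuotientGroup.mk' N')) := by
    have h1 := hc.card_mul_card
    have h2 := Subgroup.card_mul_index (G'.map (QuotientGroup.mk' N'))
    rw [← h2] at h1
    exact (Nat.eq_of_mul_eq_mul_left Nat.card_pos h1).symm
  have hcop' : (Nat.card (G'.map (QuotientGroup.mk' N'))).Coprime (G'.map (QuotientGroup.mk' N')).index := by
    rw [hHidx]; exact hcopKH
  have hsolv' : Group.IsSolvable (G'.map (QuotientGroup.mk' N')) ∨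
      Group.IsSolvable ((Ĝ ⧸ N') ⧸ G'.map (QuotientGroup.mk' N')) := by
    rcases hsolv with h | h
    · right
      let f : S' →* (Ĝ ⧸ N') ⧸ G'.map (QuotientGroup.mk' N') :=
        (QuotientGroup.mk' _).comp ((QuotientGroup.mk' N').comp S'.subtype)
      have hf : Function.Surjective f := by
        intro q
        obtain ⟨q', rfl⟩ := QuotientGroup.mk'_surjective _ q
        obtain ⟨g, rfl⟩ := hπs q'
        have hg : g ∈ G' ⊔ S' := by rw [hsup]; exact Subgroup.mem_top g
        rw [← SetLike.mem_coe, Subgroup.normal_mul] at hg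
        obtain ⟨a, ha, s, hs, rfl⟩ := hg
        refine ⟨⟨s, hs⟩, ?_⟩
        show (QuotientGroup.mk' _) ((QuotientGroup.mk' N') s) =
          (QuotientGroup.mk' _) ((QuotientGroup.mk' N') (a * s))
        rw [map_mul, map_mul]
        have : (QuotientGroup.mk' (G'.map (QuotientGroup.mk' N'))) ((QuotientGroup.mk' N') a) = 1 := by
          rw [QuotientGroup.mk'_apply, QuotientGroup.eq_one_iff]
          exact Subgroup.mem_map_of_mem _ ha
        rw [this, one_mul]
      exact Group.isSolvable_of_surjective hf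
    · left; exact h
  have htransK : MulAction.IsPretransitive (G'.map (QuotientGroup.mk' N')) X := by
    constructor
    intro x y
    obtain ⟨g, hg, hgy⟩ := htrans x y
    refine ⟨⟨(QuotientGroup.mk' N') g, Subgroup.mem_map_of_mem _ hg⟩, ?_⟩
    show ((QuotientGroup.mk' N') g) • x = y
    rw [hsm, hgy]
  obtain ⟨⟨x, hx⟩, -⟩ := Cfsg.Agent.Lib.Lead.glauberman_lemma
    (G'.map (QuotientGroup.mk' N')) (S'.map (QuotientGroup.mk' N')) hc hcop' hsolv' htransK
  refine ⟨x, fun s hs => ?_⟩
  rw [← hsm]
  exact hx _ (Subgroup.mem_map_of_mem _ hs)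

end Cfsg.Agent.Lib.Helper8.GLS
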