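import Mathlib
import Cfsg.Agent.Lib.Helper8.GLS1
import Cfsg.Agent.Lib.Helper8.GA3
import Cfsg.Agent.Lib.Helper8.GP2
import Cfsg.Agent.Lib.Helper4.CharTools

/-!
# Isaacs 13.27: an invariant character has an invariant constituent on a normal subgroup
-/

set_option autoImplicit false
set_option linter.unusedSectionVars false

namespace Cfsg.Agent.Lib.Helper8.GLS

open Cfsg Cfsg.Agent.Lib.Helper8 Cfsg.Agent.Lib.Helper1 Cfsg.Agent.Lib.Helper4
open scoped ComplexConjugate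

universe u

section

variable {Γ : Type u} [Group Γ]

/-- The elements normalising `H`. -/
def normSub (H : Subgroup Γ) : Subgroup Γ where
  carrier := {x | Normalizes x H}
  mul_mem' := fun ha hb => Normalizes.mul ha hb
  one_mem' := Normalizes.one H
  inv_mem' := fun ha => Normalizes.inv ha

/-- The elements normalising `H` and fixing `χ`. -/
def invSub (H : Subgroup Γ) (χ : H → ℂ) : Subgroup Γ where
  carrier := {x | Normalizes x H ∧ InvElt x H χ}
  mul_mem' := fun ha hb => ⟨ha.1.mul hb.1, InvElt.mul hb.1 ha.2 hb.2⟩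
  one_mem' := ⟨Normalizes.one H, InvElt.one H χ⟩
  inv_mem' := fun ha => ⟨ha.1.inv, ha.2.inv ha.1⟩

/-- Clifford: two constituents of the restriction are conjugate. -/
theorem exists_conj_constituent {G N : Subgroup Γ} [Fintype G] [Fintype N] (hNG : N ≤ G)
    (hGN : ∀ g ∈ G, Normalizes g N) (χ : IrrCharacter G) (θ θ₂ : IrrCharacter N)
    (h1 : classInner (fun n : N => (χ : G → ℂ) ⟨n, hNG n.2⟩) (θ : N → ℂ) ≠ 0)
    (h2 : classInner (fun n : N => (χ : G → ℂ) ⟨n, hNG n.2⟩) (θ₂ : N → ℂ) ≠ 0) :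
    ∃ g : Γ, g ∈ G ∧ ∃ hg : Normalizes g N, (θ₂ : N → ℂ) = conjChar hg (θ : N → ℂ) := by
  classical
  set N' : Subgroup G := N.subgroupOf G with hN'
  haveI : N'.Normal := by
    constructor
    intro n hn g
    rw [hN', Subgroup.mem_subgroupOf] at hn ⊢
    exact (hGN g g.2 n).1 hn
  haveI : Fintype N' := Fintype.ofFinite _
  let e : N' ≃* N := Subgroup.subgroupOfEquivOfLe hNG
  have hθ' : IsIrrCharacter N' (fun x => (θ : N → ℂ) (e x)) := isIrrCharacter_comp_mulEquiv θ.2 e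
  have hθ₂' : IsIrrCharacter N' (fun x => (θ₂ : N → ℂ) (e x)) :=
    isIrrCharacter_comp_mulEquiv θ₂.2 e
  have hc1 : classInner (fun n : N' => (χ : G → ℂ) n) (fun x => (θ : N → ℂ) (e x)) ≠ 0 := by
    have := classInner_mulEquiv e (fun d : N => (χ : G → ℂ) ⟨d, hNG d.2⟩) (θ : N → ℂ)
    rw [← this] at h1
    exact h1
  have hc2 : classInner (fun n : N' => (χ : G → ℂ) n) (fun x => (θ₂ : N → ℂ) (e x)) ≠ 0 := by
    have := classInner_mulEquiv e (fun d : N => (χ : G → ℂ) ⟨d, hNG d.2⟩) (θ₂ : N → ℂ)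
    rw [← this] at h2
    exact h2
  obtain ⟨F, -, -, hFconj, -, hFmem⟩ := clifford_set N' χ.2 hθ' hc1
  have hmem := (hFmem _ hθ₂').1 hc2
  obtain ⟨g, hg⟩ := hFconj _ hmem
  refine ⟨(g : Γ), g.2, hGN g g.2, ?_⟩
  funext n
  have h3 := congrFun hg (e.symm n)
  simp only [MulEquiv.apply_symm_apply] at h3
  rw [h3]
  show (θ : N → ℂ) (e _) = (θ : N → ℂ) (conjE _ n)
  refine congrArg (θ : N → ℂ) (Subtype.ext ?_)
  rw [conjE_coe]
  rfl

variable [Fintype Γ]

/-- **Isaacs 13.27.** -/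
theorem exists_inv_constituent (G S N : Subgroup Γ) [Fintype G] [Fintype N]
    (hSG : ∀ s ∈ S, Normalizes s G) (hNG : N ≤ G) [hNn : (N.subgroupOf G).Normal]
    (hGN : ∀ g ∈ G, Normalizes g N) (hSN : ∀ s ∈ S, Normalizes s N)
    (hcop : (N.relIndex G).Coprime (Nat.card S))
    (hsolv : Group.IsSolvable S ∨ Group.IsSolvable (G ⧸ N.subgroupOf G))
    (χ : IrrCharacter G) (hinv : InvS S G (χ : G → ℂ)) :
    ∃ θ : IrrCharacter N, classInner (fun n : N => (χ : G → ℂ) ⟨n, hNG n.2⟩) (θ : N → ℂ) ≠ 0 ∧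
      InvS S N (θ : N → ℂ) := by
  classical
  have hTN : ∀ x ∈ G ⊔ S, Normalizes x N := fun x hx =>
    (sup_le (fun g hg => hGN g hg) (fun s hs => hSN s hs) : G ⊔ S ≤ normSub N) hx
  have hTG : ∀ x ∈ G ⊔ S, Normalizes x G ∧ InvElt x G (χ : G → ℂ) := fun x hx =>
    (sup_le (fun g hg => ⟨normalizes_of_mem hg, by
        intro a a' haa
        have h := isClassFunction_irr χ.2 a ⟨g, hg⟩
        rw [← h]
        exact congrArg _ (Subtype.ext haa)⟩)
      (fun s hs => ⟨hSG s hs, hinv s hs⟩) : G ⊔ S ≤ invSub G (χ : G → ℂ)) hx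
  letI actN : MulAction ↥(G ⊔ S) (IrrCharacter N) := irrAct (G ⊔ S) N hTN
  have hclosed : ∀ (x : ↥(G ⊔ S)) (θ : IrrCharacter N),
      classInner (fun n : N => (χ : G → ℂ) ⟨n, hNG n.2⟩) ((x • θ : IrrCharacter N) : N → ℂ) =
        classInner (fun n : N => (χ : G → ℂ) ⟨n, hNG n.2⟩) (θ : N → ℂ) := by
    intro x θ
    have hx := hTN (x : Γ)⁻¹ ((G ⊔ S).inv_mem x.2)
    have hxG := (hTG (x : Γ)⁻¹ ((G ⊔ S).inv_mem x.2)).1
    have e0 : ((x • θ : IrrCharacter N) : N → ℂ) = conjChar hx (θ : N → ℂ) := rfl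
    rw [e0]
    have h1 := classInner_conjChar hNG hxG hx (χ : G → ℂ) (θ : N → ℂ)
    have h2 : conjChar hxG (χ : G → ℂ) = (χ : G → ℂ) := by
      funext g
      exact (invElt_iff hxG _).1 (hTG _ ((G ⊔ S).inv_mem x.2)).2 g
    rw [h2] at h1
    exact h1
  let X := {θ : IrrCharacter N // classInner (fun n : N => (χ : G → ℂ) ⟨n, hNG n.2⟩) (θ : N → ℂ) ≠ 0}
  letI actX : MulAction ↥(G ⊔ S) X :=
    { smul := fun x θ => ⟨x • θ.1, by rw [hclosed]; exact θ.2⟩
      one_smul := fun θ => Subtype.ext (one_smul _ _)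
      mul_smul := fun x y θ => Subtype.ext (mul_smul _ _ _) }
  have hsmul_coe : ∀ (x : ↥(G ⊔ S)) (θ : X), ((x • θ : X) : IrrCharacter N) = x • θ.1 :=
    fun _ _ => rfl
  haveI : Nonempty X := by
    have hres : IsCharacter N (fun n : N => (χ : G → ℂ) ⟨n, hNG n.2⟩) :=
      isCharacter_comp_hom (isCharacter_of_irr χ.2) (Subgroup.inclusion hNG)
    have h1 : (fun n : N => (χ : G → ℂ) ⟨n, hNG n.2⟩) 1 ≠ 0 := irr_apply_one_ne_zero χ.2
    obtain ⟨φ, hφ, m, hm, hφm⟩ := exists_constituent hres h1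
    refine ⟨⟨⟨φ, hφ⟩, ?_⟩⟩
    show classInner _ φ ≠ 0
    rw [hφm]
    exact_mod_cast hm.ne'
  -- the subgroups of `G ⊔ S`
  haveI hG'n : (G.subgroupOf (G ⊔ S)).Normal := by
    constructor
    intro n hn g
    rw [Subgroup.mem_subgroupOf] at hn ⊢
    exact ((hTG g g.2).1 n).1 hn
  haveI hN'n : (N.subgroupOf (G ⊔ S)).Normal := by
    constructor
    intro n hn g
    rw [Subgroup.mem_subgroupOf] at hn ⊢
    exact (hTN g g.2 n).1 hn
  have hNG' : N.subgroupOf (G ⊔ S) ≤ G.subgroupOf (G ⊔ S) := by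
    intro x hx
    rw [Subgroup.mem_subgroupOf] at hx ⊢
    exact hNG hx
  have hsup : G.subgroupOf (G ⊔ S) ⊔ S.subgroupOf (G ⊔ S) = ⊤ :=
    codisjoint_iff.1 (Subgroup.codisjoint_subgroupOf_sup G S)
  have hcop' : ((N.subgroupOf (G ⊔ S)).relIndex (G.subgroupOf (G ⊔ S))).Coprime
      (Nat.card (S.subgroupOf (G ⊔ S))) := by
    rw [Subgroup.relIndex_subgroupOf le_sup_left,
      Nat.card_congr (Subgroup.subgroupOfEquivOfLe (le_sup_right : S ≤ G ⊔ S)).toEquiv]
    exact hcop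
  have hsolv' : Group.IsSolvable (S.subgroupOf (G ⊔ S)) ∨
      Group.IsSolvable ((G.subgroupOf (G ⊔ S)).map (QuotientGroup.mk' (N.subgroupOf (G ⊔ S)))) := by
    rcases hsolv with h | h
    · left
      haveI := h
      exact Group.isSolvable_of_surjective (f := ((Subgroup.subgroupOfEquivOfLe
        (le_sup_right : S ≤ G ⊔ S)).symm : S →* S.subgroupOf (G ⊔ S)))
        (Subgroup.subgroupOfEquivOfLe (le_sup_right : S ≤ G ⊔ S)).symm.surjective
    · right
      let f0 : G →* ↥(G ⊔ S) ⧸ N.subgroupOf (G ⊔ S) :=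
        (QuotientGroup.mk' (N.subgroupOf (G ⊔ S))).comp (Subgroup.inclusion le_sup_left)
      have hker : N.subgroupOf G ≤ f0.ker := by
        intro n hn
        rw [MonoidHom.mem_ker]
        show (QuotientGroup.mk' (N.subgroupOf (G ⊔ S))) (Subgroup.inclusion le_sup_left n) = 1
        rw [QuotientGroup.mk'_apply, QuotientGroup.eq_one_iff, Subgroup.mem_subgroupOf]
        exact Subgroup.mem_subgroupOf.1 hn
      let f1 : G ⧸ N.subgroupOf G →* ↥(G ⊔ S) ⧸ N.subgroupOf (G ⊔ S) :=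
        QuotientGroup.lift (N.subgroupOf G) f0 hker
      have hrange : f1.range =
          (G.subgroupOf (G ⊔ S)).map (QuotientGroup.mk' (N.subgroupOf (G ⊔ S))) := by
        ext q
        constructor
        · rintro ⟨a, rfl⟩
          obtain ⟨g, rfl⟩ := QuotientGroup.mk'_surjective _ a
          refine ⟨Subgroup.inclusion le_sup_left g, ?_, rfl⟩
          rw [SetLike.mem_coe, Subgroup.mem_subgroupOf]
          exact g.2
        · rintro ⟨x, hx, rfl⟩
          rw [SetLike.mem_coe, Subgroup.mem_subgroupOf] at hx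
          refine ⟨QuotientGroup.mk' _ ⟨(x : Γ), hx⟩, ?_⟩
          rfl
      rw [← hrange]
      exact Group.isSolvable_of_surjective f1.rangeRestrict_surjective
  have htriv : ∀ n ∈ N.subgroupOf (G ⊔ S), ∀ θ : X, n • θ = θ := by
    intro n hn θ
    rw [Subgroup.mem_subgroupOf] at hn
    apply Subtype.ext
    rw [hsmul_coe]
    apply Subtype.ext
    funext a
    have hx := hTN (n : Γ)⁻¹ ((G ⊔ S).inv_mem n.2)
    show (θ.1 : N → ℂ) (conjE hx a) = (θ.1 : N → ℂ) a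
    have h := isClassFunction_irr θ.1.2 a ⟨(n : Γ)⁻¹, N.inv_mem hn⟩
    rw [← h]
    exact congrArg _ (Subtype.ext rfl)
  have htrans : ∀ θ θ₂ : X, ∃ g ∈ G.subgroupOf (G ⊔ S), g • θ = θ₂ := by
    intro θ θ₂
    obtain ⟨g, hgG, hg, hconj⟩ := exists_conj_constituent hNG hGN χ θ.1 θ₂.1 θ.2 θ₂.2
    refine ⟨⟨g⁻¹, (G ⊔ S).inv_mem (Subgroup.mem_sup_left hgG)⟩, ?_, ?_⟩
    · rw [Subgroup.mem_subgroupOf]
      exact G.inv_mem hgG
    · apply Subtype.ext
      rw [hsmul_coe]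
      apply Subtype.ext
      rw [hconj]
      funext a
      show (θ.1 : N → ℂ) (conjE _ a) = (θ.1 : N → ℂ) (conjE hg a)
      refine congrArg _ (Subtype.ext ?_)
      rw [conjE_coe, conjE_coe]
      simp
  obtain ⟨θ, hθ⟩ := exists_fixed_of_quot (G.subgroupOf (G ⊔ S)) (S.subgroupOf (G ⊔ S))
    (N.subgroupOf (G ⊔ S)) hNG' hsup hcop' hsolv' htriv htrans
  refine ⟨θ.1, θ.2, ?_⟩
  rw [irrAct_fixed_iff S N hSN]
  intro s
  have h1 := hθ ⟨(s : Γ), Subgroup.mem_sup_right s.2⟩ (by rw [Subgroup.mem_subgroupOf]; exact s.2)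
  have h2 := congrArg (fun z : X => (z : IrrCharacter N)) h1
  simp only [hsmul_coe] at h2
  rw [irrAct_smul_coe]
  apply Subtype.ext
  have h3 := congrArg (fun z : IrrCharacter N => (z : N → ℂ)) h2
  exact h3

end

end Cfsg.Agent.Lib.Helper8.GLS
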