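import Mathlib
import Cfsg.Prelude.Def_Blocks
import Cfsg.Agent.Lib.Helper4.GaloisTwist
import Cfsg.Agent.Lib.Helper1.CycloGalois
import Cfsg.Agent.Lib.Helper8.GP3
import Cfsg.Agent.Lib.Helper8.BlockIdem

/-!
# Blocks do not depend on the choice of the maximal ideal over `p`
-/

set_option autoImplicit false

namespace Cfsg.Agent.Lib.Helper8

open Cfsg Cfsg.Agent.Lib.Helper4 Cfsg.Agent.Lib.Helper1 NumberField
open scoped Pointwise

universe u

/-- **Transitivity of the Galois group on the maximal ideals over `p`**, in concrete form: for two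
maximal ideals `M`, `M'` of the ring of all algebraic integers containing `p` there is an
automorphism `τ` of `ℂ`, acting on `n`-th roots of unity as the `k`-th power map, such that an
algebraic integer `z` in the `n`-th cyclotomic field lies in `M'` iff `τ z` lies in `M`. -/
theorem exists_aut_mem_iff (p n : ℕ) [hp : Fact p.Prime] [NeZero n] (M M' : Ideal AlgInt)
    (hM : IsPModular p M) (hM' : IsPModular p M') :
    ∃ (τ : ℂ ≃+* ℂ) (k : ℕ), k.Coprime n ∧ (∀ c : ℂ, c ^ n = 1 → τ c = c ^ k) ∧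
      ∀ z z' : AlgInt, (z : ℂ) ∈ Submodule.span ℚ {c : ℂ | c ^ n = 1} →
        (z' : ℂ) = τ (z : ℂ) → (z ∈ M' ↔ z' ∈ M) := by
  let L := CyclotomicField n ℚ
  haveI hcyc : IsCyclotomicExtension {n} ℚ L :=
    CyclotomicField.instIsCyclotomicExtensionSingletonNatSetOfCharZero n ℚ
  haveI : NumberField L := IsCyclotomicExtension.numberField {n} ℚ L
  haveI : IsGalois ℚ L := IsCyclotomicExtension.isGalois {n} ℚ L
  let ι : L →ₐ[ℚ] ℂ := IsAlgClosed.lift
  have hint : ∀ x : 𝓞 L, (ι.toRingHom.comp (algebraMap (𝓞 L) L)) x ∈ AlgInt := by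
    intro x
    have h1 : IsIntegral ℤ (x : L) := x.2
    exact h1.map ι.toRingHom.toIntAlgHom
  let j : 𝓞 L →+* AlgInt := RingHom.codRestrict (ι.toRingHom.comp (algebraMap (𝓞 L) L)) AlgInt hint
  have hj : ∀ x : 𝓞 L, ((j x : AlgInt) : ℂ) = ι (x : L) := fun x => rfl
  haveI hMprime : M.IsPrime := hM.2.1.isPrime
  haveI hM'prime : M'.IsPrime := hM'.2.1.isPrime
  let P : Ideal (𝓞 L) := M.comap j
  let P' : Ideal (𝓞 L) := M'.comap j
  haveI : P.IsPrime := Ideal.comap_isPrime j M
  haveI : P'.IsPrime := Ideal.comap_isPrime j M'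
  let pp : Ideal ℤ := Ideal.span {(p : ℤ)}
  haveI hppmax : pp.IsMaximal := by
    have : Prime (p : ℤ) := Nat.prime_iff_prime_int.1 hp.out
    exact PrincipalIdealRing.isMaximal_of_irreducible this.irreducible
  have hlies : ∀ (N : Ideal AlgInt), N.IsPrime → (p : AlgInt) ∈ N → (N.comap j).LiesOver pp := by
    intro N hN hpN
    constructor
    have hle : pp ≤ (N.comap j).under ℤ := by
      rw [Ideal.span_le]
      intro x hx
      rw [Set.mem_singleton_iff] at hx
      subst hx
      show j (algebraMap ℤ (𝓞 L) (p : ℤ)) ∈ N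
      have : j (algebraMap ℤ (𝓞 L) (p : ℤ)) = (p : AlgInt) := by
        simp
      rw [this]
      exact hpN
    have hne : (N.comap j).under ℤ ≠ ⊤ := by
      intro h
      have h1 : (1 : ℤ) ∈ (N.comap j).under ℤ := by rw [h]; trivial
      have h2 : j (algebraMap ℤ (𝓞 L) 1) ∈ N := h1
      rw [map_one, map_one] at h2
      exact hN.ne_top ((Ideal.eq_top_iff_one N).2 h2)
    exact hppmax.eq_of_le hne hle
  haveI : P.LiesOver pp := hlies M hMprime hM.2.2
  haveI : P'.LiesOver pp := hlies M' hM'prime hM'.2.2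
  obtain ⟨σ, hσ⟩ := Ideal.exists_smul_eq_of_isGaloisGroup pp P' P (L ≃ₐ[ℚ] L)
  -- σ • P' = P
  letI : Algebra L ℂ := ι.toRingHom.toAlgebra
  obtain ⟨τ, hτ⟩ := exists_ringEquiv_extend (K := L) (L := ℂ) σ.toRingEquiv
  obtain ⟨k, hk, hσk⟩ := aut_pow n σ
  refine ⟨τ, k, hk, ?_, fun z z' hz hz' => ?_⟩
  · intro c hc
    obtain ⟨y, hy1, hy⟩ := exists_preimage_of_pow_eq_one n ι.toRingHom c hc
    have h1 := hτ y
    have h2 : algebraMap L ℂ y = c := hy
    rw [h2] at h1
    rw [h1]
    have h3 : σ.toRingEquiv y = y ^ k := hσk y hy1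
    rw [h3, map_pow, h2]
  -- z comes from `𝓞 L`
  have hrange : Submodule.span ℚ {c : ℂ | c ^ n = 1} ≤ LinearMap.range ι.toLinearMap := by
    rw [Submodule.span_le]
    intro c hc
    obtain ⟨y, -, hy⟩ := exists_preimage_of_pow_eq_one n ι.toRingHom c hc
    exact ⟨y, hy⟩
  obtain ⟨y, hy⟩ := hrange hz
  have hyint : IsIntegral ℤ y := by
    have h1 : IsIntegral ℤ (ι y) := by
      have : ι y = (z : ℂ) := hy
      rw [this]
      exact z.2
    exact (isIntegral_algHom_iff (ι.restrictScalars ℤ) ι.injective).1 h1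
  let y' : 𝓞 L := ⟨y, hyint⟩
  have hjy : j y' = z := by
    apply Subtype.ext
    rw [hj]
    exact hy
  have hjy' : j (σ • y') = z' := by
    apply Subtype.ext
    rw [hj, hz', ← hjy, hj]
    have h1 := hτ (y' : L)
    show ι (σ (y' : L)) = τ (ι (y' : L))
    exact h1.symm
  -- membership
  have h1 : z ∈ M' ↔ y' ∈ P' := by rw [← hjy]; rfl
  have h2 : z' ∈ M ↔ σ • y' ∈ P := by rw [← hjy']; rfl
  rw [h1, h2, ← hσ, Ideal.smul_mem_pointwise_smul_iff]

section

variable {G : Type u} [Group G] [Finite G]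

/-- Power maps coprime to the group order are inverted by power maps. -/
theorem exists_pow_pow_eq_self {k : ℕ} (hk : k.Coprime (Nat.card G)) :
    ∃ l : ℕ, ∀ g : G, (g ^ k) ^ l = g := by
  rcases Nat.lt_or_ge 1 (Nat.card G) with h1 | h1
  · obtain ⟨l, -, hl⟩ := Nat.exists_mul_mod_eq_one_of_coprime hk h1
    refine ⟨l, fun g => ?_⟩
    rw [← pow_mul, ← pow_mod_natCard, hl, pow_one]
  · have : Nat.card G = 1 := le_antisymm h1 Nat.card_pos
    haveI : Subsingleton G := (Nat.card_eq_one_iff_unique.1 this).1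
    exact ⟨1, fun g => Subsingleton.elim _ _⟩

/-- Character values lie in the rational span of the `|G|`-th roots of unity. -/
theorem character_mem_span {χ : G → ℂ} (hχ : IsCharacter G χ) (g : G) :
    χ g ∈ Submodule.span ℚ {c : ℂ | c ^ Nat.card G = 1} := by
  obtain ⟨ι', _, m, c, hc, hsum⟩ := character_pow_eq_sum hχ g
  have h1 := hsum 1
  rw [pow_one] at h1
  rw [h1]
  apply Submodule.sum_mem
  intro j _
  have hcj : c j ∈ Submodule.span ℚ {c : ℂ | c ^ Nat.card G = 1} := by
    apply Submodule.subset_span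
    show c j ^ Nat.card G = 1
    obtain ⟨d, hd⟩ := orderOf_dvd_natCard g
    rw [hd, pow_mul, hc j, one_pow]
  have h2 : (m j : ℂ) * c j ^ 1 = (m j : ℚ) • c j := by
    rw [pow_one, Algebra.smul_def]
    simp
  rw [h2]
  exact Submodule.smul_mem _ _ hcj

end

section

variable {G : Type u} [Group G] [Fintype G]

/-- Central characters lie in the rational span of the `|G|`-th roots of unity. -/
theorem centralChar_mem_span {χ : G → ℂ} (hχ : IsIrrCharacter G χ) (g : G) :
    centralChar χ g ∈ Submodule.span ℚ {c : ℂ | c ^ Nat.card G = 1} := by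
  obtain ⟨hd1, hd0⟩ := irr_apply_one_eq_charDegree hχ
  have h1 : centralChar χ g = (((Subgroup.centralizer ({g} : Set G)).index : ℚ) /
      (charDegree χ : ℚ)) • χ g := by
    unfold centralChar
    rw [hd1, Algebra.smul_def]
    simp only [eq_ratCast, Rat.cast_div, Rat.cast_natCast]
    ring
  rw [h1]
  exact Submodule.smul_mem _ _ (character_mem_span (isCharacter_of_irr hχ) g)

/-- **Blocks are independent of the maximal ideal**: the difference of the central characters of
two characters in the same block relative to `M` lies in every maximal ideal over `p`. -/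
theorem centralChar_sub_mem_of_sameBlock (p : ℕ) [hp : Fact p.Prime] {M M' : Ideal AlgInt}
    (hM : IsPModular p M) (hM' : IsPModular p M') {χ ψ : G → ℂ} (hχ : IsIrrCharacter G χ)
    (hψ : IsIrrCharacter G ψ) (h : SameBlock M χ ψ) (g : G) :
    ∃ r : AlgInt, r ∈ M' ∧ (r : ℂ) = centralChar χ g - centralChar ψ g := by
  haveI : NeZero (Nat.card G) := ⟨Nat.card_pos.ne'⟩
  obtain ⟨τ, k, hk, hτ, hmem⟩ := exists_aut_mem_iff p (Nat.card G) M M' hM hM'
  obtain ⟨l, hl⟩ := exists_pow_pow_eq_self (G := G) hk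
  let r : AlgInt := ⟨centralChar χ g, isIntegral_centralChar hχ g⟩ -
    ⟨centralChar ψ g, isIntegral_centralChar hψ g⟩
  let r' : AlgInt := ⟨centralChar χ (g ^ k), isIntegral_centralChar hχ (g ^ k)⟩ -
    ⟨centralChar ψ (g ^ k), isIntegral_centralChar hψ (g ^ k)⟩
  have hr : (r : ℂ) = centralChar χ g - centralChar ψ g := rfl
  have hr' : (r' : ℂ) = centralChar χ (g ^ k) - centralChar ψ (g ^ k) := rfl
  refine ⟨r, ?_, hr⟩
  have hspan : (r : ℂ) ∈ Submodule.span ℚ {c : ℂ | c ^ Nat.card G = 1} := by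
    rw [hr]
    exact Submodule.sub_mem _ (centralChar_mem_span hχ g) (centralChar_mem_span hψ g)
  have htw : ∀ {φ : G → ℂ}, IsIrrCharacter G φ → τ (centralChar φ g) = centralChar φ (g ^ k) := by
    intro φ hφ
    obtain ⟨hd1, hd0⟩ := irr_apply_one_eq_charDegree hφ
    unfold centralChar
    rw [centralizer_pow_eq_of_pow_pow (hl g), map_div₀, map_mul, map_natCast, hd1, map_natCast]
    congr 2
    exact twist_apply (τ : ℂ →+* ℂ) (Nat.card G) k hτ (isCharacter_of_irr hφ) g pow_card_eq_one'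
  have hrr' : (r' : ℂ) = τ (r : ℂ) := by
    rw [hr, hr', map_sub, htw hχ, htw hψ]
  rw [hmem r r' hspan hrr']
  have hMp : M.IsPrime := hM.2.1.isPrime
  rw [← memLocalIdeal_algInt_iff hMp, hr']
  exact h (g ^ k)

/-- The block relation does not depend on the maximal ideal over `p`. -/
theorem sameBlock_of_isPModular (p : ℕ) [hp : Fact p.Prime] {M M' : Ideal AlgInt}
    (hM : IsPModular p M) (hM' : IsPModular p M') {χ ψ : G → ℂ} (hχ : IsIrrCharacter G χ)
    (hψ : IsIrrCharacter G ψ) (h : SameBlock M χ ψ) : SameBlock M' χ ψ := by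
  intro g
  obtain ⟨r, hr, hrc⟩ := centralChar_sub_mem_of_sameBlock p hM hM' hχ hψ h g
  rw [← hrc, memLocalIdeal_algInt_iff hM'.2.1.isPrime]
  exact hr

/-- The block of an irreducible character does not depend on the maximal ideal over `p`. -/
theorem blockOf_eq_of_isPModular (p : ℕ) [hp : Fact p.Prime] {M M' : Ideal AlgInt}
    (hM : IsPModular p M) (hM' : IsPModular p M') {χ : G → ℂ} (hχ : IsIrrCharacter G χ) :
    blockOf M χ = blockOf M' χ := by
  ext ψ
  exact ⟨fun h => sameBlock_of_isPModular p hM hM' hχ ψ.2 h,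
    fun h => sameBlock_of_isPModular p hM' hM hχ ψ.2 h⟩

/-- Being a block does not depend on the maximal ideal over `p`. -/
theorem isPBlock_of_isPModular (p : ℕ) [hp : Fact p.Prime] {M M' : Ideal AlgInt}
    (hM : IsPModular p M) (hM' : IsPModular p M') {B : Set (IrrCharacter G)}
    (hB : IsPBlock M B) : IsPBlock M' B := by
  obtain ⟨χ, rfl⟩ := hB
  exact ⟨χ, blockOf_eq_of_isPModular p hM hM' χ.2⟩

end

end Cfsg.Agent.Lib.Helper8
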