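import Mathlib
import Cfsg.Prelude.Def_Blocks
import Cfsg.Agent.Lib.Helper8.GM1
import Cfsg.Agent.Lib.Helper8.SM7
import Cfsg.Agent.Lib.Helper8.Sub14
import Cfsg.Agent.Lib.Helper8.Sub3
import Cfsg.Agent.Lib.Helper8.CharPPart
import Cfsg.Agent.Lib.Helper8.BlockCoeff
import Cfsg.Agent.Lib.Helper8.BlockDefect
import Cfsg.Agent.Lib.Helper8.BlockFirstMain5
import Cfsg.Agent.Lib.Helper8.BlockUnion

/-!
# Intersections of blocks for two primes in groups without elements of order `pq`
-/

set_option autoImplicit false

namespace Cfsg.Agent.Lib.Helper8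

open Cfsg
open scoped ComplexConjugate
open Cfsg.Agent.Lib.Helper1 Cfsg.Agent.Lib.Helper4

universe u

/-- A complex number lying in the localization of the ring of algebraic integers at every maximal
ideal is an algebraic integer. -/
theorem isIntegral_of_forall_memLocalRing (z : ℂ)
    (h : ∀ N : Ideal AlgInt, N.IsMaximal → MemLocalRing N z) : IsIntegral ℤ z := by
  let I : Ideal AlgInt :=
    { carrier := {b : AlgInt | ∃ a : AlgInt, (a : ℂ) = (b : ℂ) * z}
      add_mem' := by
        rintro b b' ⟨a, ha⟩ ⟨a', ha'⟩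
        refine ⟨a + a', ?_⟩
        push_cast
        rw [ha, ha', add_mul]
      zero_mem' := ⟨0, by simp⟩
      smul_mem' := by
        rintro c b ⟨a, ha⟩
        refine ⟨c * a, ?_⟩
        rw [smul_eq_mul]
        push_cast
        rw [ha, mul_assoc] }
  by_cases hI : I = ⊤
  · have h1 : (1 : AlgInt) ∈ I := by rw [hI]; trivial
    obtain ⟨a, ha⟩ := h1
    have : z = (a : ℂ) := by
      rw [ha]
      simp
    rw [this]
    exact a.2
  · exfalso
    obtain ⟨N, hN, hIN⟩ := Ideal.exists_le_maximal I hI
    obtain ⟨a, b, hb, hab⟩ := h N hN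
    apply hb
    apply hIN
    refine ⟨a, ?_⟩
    have hb0 : (b : ℂ) ≠ 0 := by
      intro h0
      apply hb
      have : b = 0 := Subtype.ext h0
      rw [this]
      exact N.zero_mem
    rw [← hab]
    field_simp

section

variable {G : Type u} [Group G] [Fintype G]

/-- The sum of a class function over the group, by conjugacy classes. -/
theorem sum_classFunction_eq_sum_classes [Fintype (ConjClasses G)] {F : G → ℂ}
    (hF : IsClassFunction G F) :
    ∑ u : G, F u = ∑ c : ConjClasses G,
      ((Subgroup.centralizer ({Quotient.out c} : Set G)).index : ℂ) * F (Quotient.out c) := by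
  classical
  have h1 : ∀ u : G, F u = ∑ c : ConjClasses G,
      F (Quotient.out c) * classIndicator (Quotient.out c) u := by
    intro u
    conv_lhs => rw [classFunction_eq_sum_classIndicator hF]
    rw [Finset.sum_apply]
    rfl
  rw [Finset.sum_congr rfl (fun u _ => h1 u)]
  rw [Finset.sum_comm]
  refine Finset.sum_congr rfl fun c _ => ?_
  rw [← Finset.mul_sum]
  have h2 := Cfsg.Agent.S0141.sum_classIndicator_mul (Quotient.out c) (fun _ : G => (1 : ℂ))
    (fun _ _ => rfl)
  simp only [mul_one] at h2
  rw [h2, mul_comm]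

variable {N : Ideal AlgInt} {q : ℕ}

/-- The sum of a class function with local-integral values, supported on elements with
`q'`-centralizers, is divisible by the full power of `q` dividing the group order. -/
theorem memLocalRing_sum_div_of_support (hN : IsPModular q N) {F : G → ℂ}
    (hF : IsClassFunction G F) (hFS : ∀ u, MemLocalRing N (F u))
    (hsupp : ∀ u, F u ≠ 0 → ¬ q ∣ Nat.card (Subgroup.centralizer ({u} : Set G))) :
    MemLocalRing N ((∑ u : G, F u) / ((q ^ (Nat.card G).factorization q : ℕ) : ℂ)) := by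
  classical
  haveI : Fintype (ConjClasses G) := Fintype.ofFinite _
  have hNp := isPModular_isPrime hN
  have hq := hN.1
  rw [sum_classFunction_eq_sum_classes hF, Finset.sum_div]
  apply memLocalRing_sum hNp
  intro c _
  by_cases h0 : F (Quotient.out c) = 0
  · rw [h0, mul_zero, zero_div]
    exact memLocalRing_zero hNp.ne_top
  · have h1 := hsupp _ h0
    set C := Subgroup.centralizer ({Quotient.out c} : Set G) with hC
    have h2 : (C.index : ℂ) * F (Quotient.out c) / ((q ^ (Nat.card G).factorization q : ℕ) : ℂ)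
        = ((C.index : ℂ) / ((q ^ (Nat.card G).factorization q : ℕ) : ℂ)) * F (Quotient.out c) := by
      ring
    rw [h2]
    apply memLocalRing_mul hNp _ (hFS _)
    apply memLocalRing_natCast_div hN Subgroup.index_ne_zero_of_finite (pow_pos hq.pos _).ne'
    rw [hq.factorization_pow, Finsupp.single_eq_same]
    have h3 : (Nat.card C).factorization q + C.index.factorization q =
        (Nat.card G).factorization q := by
      rw [← C.card_mul_index, Nat.factorization_mul Nat.card_pos.ne'
        Subgroup.index_ne_zero_of_finite, Finsupp.add_apply]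
    rw [Nat.factorization_eq_zero_of_not_dvd h1] at h3
    omega

end

section Main

variable {G : Type u} [Group G] [Fintype G] {Mp N : Ideal AlgInt} {p q : ℕ}

/-- In a group without elements of order `pq`, elements with non-trivial `p`-part have
`q'`-centralizers. -/
theorem not_dvd_card_centralizer_of_isPPart (hp : p.Prime) (hq : q.Prime) (hpq : p ≠ q)
    (hno : ∀ g : G, orderOf g ≠ p * q) {u z : G} (huz : IsPPart p u z) (hz : z ≠ 1) :
    ¬ q ∣ Nat.card (Subgroup.centralizer ({u} : Set G)) := by
  intro hdvd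
  haveI : Fact q.Prime := ⟨hq⟩
  obtain ⟨w, hw⟩ := exists_prime_orderOf_dvd_card' q hdvd
  obtain ⟨m, hm⟩ := IsPPart.exists_zpow hp huz
  obtain ⟨y', -, -, ⟨k, hk⟩, -⟩ := huz
  have hk0 : k ≠ 0 := by
    rintro rfl
    rw [pow_zero, orderOf_eq_one_iff] at hk
    exact hz hk
  -- an element of order `p`
  set z' := z ^ (p ^ (k - 1)) with hz'
  have hz'o : orderOf z' = p := by
    rw [hz', orderOf_pow' _ (pow_pos hp.pos _).ne', hk, Nat.gcd_eq_right (pow_dvd_pow p (by omega))]
    have : p ^ k = p ^ (k - 1) * p := by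
      rw [← pow_succ]
      congr 1
      omega
    rw [this, Nat.mul_div_cancel_left _ (pow_pos hp.pos _)]
  have hwu : Commute (w : G) u := Subgroup.mem_centralizer_singleton_iff.1 w.2
  have hwz : Commute (w : G) z := by
    rw [hm]
    exact hwu.zpow_right m
  have hwz' : Commute (w : G) z' := hwz.pow_right _
  have hwo : orderOf (w : G) = q := by rw [Subgroup.orderOf_coe, hw]
  have hcop : Nat.Coprime (orderOf (w : G)) (orderOf z') := by
    rw [hwo, hz'o]
    exact (Nat.coprime_primes hq hp).2 (Ne.symm hpq)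
  have := hwz'.orderOf_mul_eq_mul_orderOf_of_coprime hcop
  rw [hwo, hz'o, mul_comm] at this
  exact hno _ this

/-- **Brauer**: in a group without elements of order `pq`, the sum of `χ(1)χ(y)` over the
characters common to a `p`-block and a `q`-block, at a `p`-singular element `y`, is divisible by the
full power of `q` dividing the group order, locally at the maximal ideal defining the `q`-block. -/
theorem memLocalRing_sum_inter_div [Fintype (IrrCharacter G)] [hpf : Fact p.Prime]
    (hMp : IsPModular p Mp) (hN : IsPModular q N) (hpq : p ≠ q)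
    (hno : ∀ g : G, orderOf g ≠ p * q) {Bp Bq : Set (IrrCharacter G)} (hBp : IsPBlock Mp Bp)
    (hBq : IsPBlock N Bq) (y : G) (hy : p ∣ orderOf y) :
    MemLocalRing N ((∑ χ : IrrCharacter G, (by classical exact if χ ∈ Bp ∧ χ ∈ Bq then (1 : ℂ) else 0) *
      ((charDegree (χ : G → ℂ) : ℂ) * (χ : G → ℂ) y)) /
        ((q ^ (Nat.card G).factorization q : ℕ) : ℂ)) := by
  classical
  have hNp := isPModular_isPrime hN
  have hp := hMp.1
  have hq := hN.1
  have hG0 : (Nat.card G : ℂ) ≠ 0 := Nat.cast_ne_zero.2 Nat.card_pos.ne'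
  -- the `p`-part of `y`
  obtain ⟨yp, hyp⟩ := exists_isPPart hp y
  have hyp1 : yp ≠ 1 := by
    rintro rfl
    obtain ⟨y', hy', -, -, hy'o⟩ := hyp
    rw [one_mul] at hy'
    rw [hy'] at hy'o
    exact hy'o hy
  -- the function `f`
  set f : G → ℂ := fun x => (Nat.card G : ℂ) * blockCoeff Bq x⁻¹ with hf
  have hfχ : ∀ χ : IrrCharacter G, classInner f (χ : G → ℂ) =
      (if χ ∈ Bq then (1 : ℂ) else 0) * (charDegree (χ : G → ℂ) : ℂ) := by
    intro χ
    have h1 : ∀ x : G, f x = ∑ ψ : IrrCharacter G,
        ((if ψ ∈ Bq then (1 : ℂ) else 0) * (ψ : G → ℂ) 1) * (ψ : G → ℂ) x := by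
      intro x
      rw [hf]
      simp only
      rw [blockCoeff_eq_sum, ← mul_assoc, mul_inv_cancel₀ hG0, one_mul]
      refine Finset.sum_congr rfl fun ψ _ => ?_
      rw [isCharacter_inv (isCharacter_of_irr ψ.2), Complex.conj_conj]
    have h2 : f = ∑ ψ : IrrCharacter G,
        ((if ψ ∈ Bq then (1 : ℂ) else 0) * (ψ : G → ℂ) 1) • (ψ : G → ℂ) := by
      funext x
      rw [h1 x, Finset.sum_apply]
      rfl
    rw [h2, classInner_sum_left, Finset.sum_eq_single χ]
    · rw [classInner_smul_left, classInner_irr_self χ.2, mul_one,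
        (irr_apply_one_eq_charDegree χ.2).1]
    · intro ψ _ hne
      rw [classInner_smul_left, classInner_irr_ne ψ.2 χ.2 (fun h => hne (Subtype.ext h)), mul_zero]
    · intro h
      exact absurd (Finset.mem_univ _) h
  -- the target sum is the `Bp`-part of `f`
  have htarget : (∑ χ : IrrCharacter G, (if χ ∈ Bp ∧ χ ∈ Bq then (1 : ℂ) else 0) *
      ((charDegree (χ : G → ℂ) : ℂ) * (χ : G → ℂ) y)) = blockPart Bp f y := by
    rw [blockPart_eq_sum]
    refine Finset.sum_congr rfl fun χ _ => ?_
    rw [hfχ]
    by_cases h1 : χ ∈ Bp <;> by_cases h2 : χ ∈ Bq <;> simp [h1, h2]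
  rw [htarget]
  -- the section of `y`
  set S : G → Prop := fun u => ∃ z, IsPPart p u z ∧ IsConj yp z with hS
  set f₁ : G → ℂ := fun u => if S u then f u else 0 with hf₁
  have hzero : blockPart Bp (f - f₁) y = 0 := by
    apply blockPart_eq_zero_on_section hMp (x := yp) _ hBp hyp (IsConj.refl yp)
    intro u z huz hz
    rw [Pi.sub_apply, hf₁]
    simp only
    rw [if_pos ⟨z, huz, hz⟩, sub_self]
  rw [blockPart_sub, sub_eq_zero] at hzero
  rw [hzero]
  -- the section is invariant under conjugation
  have hSconj : ∀ u t : G, S (t * u * t⁻¹) ↔ S u := by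
    intro u t
    constructor
    · rintro ⟨z, hz1, hz2⟩
      refine ⟨t⁻¹ * z * t, ?_, ?_⟩
      · have := isPPart_conj hz1 t⁻¹
        have h1 : t⁻¹ * (t * u * t⁻¹) * t⁻¹⁻¹ = u := by group
        rw [h1, inv_inv] at this
        exact this
      · exact hz2.trans (isConj_iff.2 ⟨t⁻¹, by rw [inv_inv]⟩)
    · rintro ⟨z, hz1, hz2⟩
      exact ⟨t * z * t⁻¹, isPPart_conj hz1 t, hz2.trans (isConj_iff.2 ⟨t, rfl⟩)⟩
  -- the kernel
  set K : G → ℂ := fun u => ∑ χ : IrrCharacter G,
    (if χ ∈ Bp then (1 : ℂ) else 0) * (conj ((χ : G → ℂ) u) * (χ : G → ℂ) y) with hK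
  set h : G → ℂ := fun u => if S u then blockCoeff Bq u⁻¹ * K u else 0 with hh
  have hpart : blockPart Bp f₁ y = ∑ u : G, h u := by
    rw [blockPart_eq_sum]
    have h1 : ∀ χ : IrrCharacter G, (if χ ∈ Bp then (1 : ℂ) else 0) *
        (classInner f₁ (χ : G → ℂ) * (χ : G → ℂ) y) =
        ∑ u : G, (if S u then blockCoeff Bq u⁻¹ *
          ((if χ ∈ Bp then (1 : ℂ) else 0) * (conj ((χ : G → ℂ) u) * (χ : G → ℂ) y)) else 0) := by
      intro χ
      rw [classInner_def, Finset.mul_sum, Finset.sum_mul, Finset.mul_sum]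
      refine Finset.sum_congr rfl fun u _ => ?_
      rw [hf₁]
      simp only
      by_cases hu : S u
      · rw [if_pos hu, if_pos hu, hf]
        simp only
        field_simp
      · rw [if_neg hu, if_neg hu]
        ring
    simp only [h1]
    rw [Finset.sum_comm]
    refine Finset.sum_congr rfl fun u _ => ?_
    rw [hh]
    simp only
    by_cases hu : S u
    · simp only [if_pos hu]
      rw [hK]
      simp only
      rw [Finset.mul_sum]
    · simp only [if_neg hu]
      exact Finset.sum_const_zero
  rw [hpart]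
  have hKcf : IsClassFunction G K := by
    intro u t
    rw [hK]
    simp only
    refine Finset.sum_congr rfl fun χ _ => ?_
    rw [isClassFunction_irr χ.2 u t]
  have hhcf : IsClassFunction G h := by
    intro u t
    rw [hh]
    simp only
    by_cases hu : S u
    · rw [if_pos hu, if_pos ((hSconj u t).2 hu), hKcf u t]
      have h1 : (t * u * t⁻¹)⁻¹ = t * u⁻¹ * t⁻¹ := by group
      rw [h1, isClassFunction_blockCoeff Bq u⁻¹ t]
    · rw [if_neg hu, if_neg (fun h' => hu ((hSconj u t).1 h'))]
  apply memLocalRing_sum_div_of_support hN hhcf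
  · intro u
    rw [hh]
    simp only
    by_cases hu : S u
    · rw [if_pos hu]
      apply memLocalRing_mul hNp (blockCoeff_memLocalRing hNp hBq _)
      rw [hK]
      simp only
      apply memLocalRing_sum hNp
      intro χ _
      by_cases hχ : χ ∈ Bp
      · rw [if_pos hχ, one_mul]
        apply memLocalRing_mul hNp
        · rw [← isCharacter_inv (isCharacter_of_irr χ.2)]
          exact memLocalRing_of_isIntegral hNp.ne_top
            (isIntegral_char_apply (isCharacter_of_irr χ.2) _)
        · exact memLocalRing_of_isIntegral hNp.ne_top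
            (isIntegral_char_apply (isCharacter_of_irr χ.2) _)
      · rw [if_neg hχ, zero_mul]
        exact memLocalRing_zero hNp.ne_top
    · rw [if_neg hu]
      exact memLocalRing_zero hNp.ne_top
  · intro u hu0
    rw [hh] at hu0
    simp only at hu0
    by_cases hu : S u
    · obtain ⟨z, hz1, hz2⟩ := hu
      have hz1' : z ≠ 1 := by
        rintro rfl
        rw [isConj_one_left] at hz2
        exact hyp1 hz2
      exact not_dvd_card_centralizer_of_isPPart hp hq hpq hno hz1 hz1'
    · rw [if_neg hu] at hu0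
      exact absurd rfl hu0

end Main

end Cfsg.Agent.Lib.Helper8
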