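import Mathlib
import Cfsg.Prelude.Def_Blocks
import Cfsg.Agent.Lib.Helper8.GM2
import Cfsg.Agent.Lib.Helper8.BlockOrth2

/-!
# Intersections of blocks for two primes: the global statement
-/

set_option autoImplicit false

namespace Cfsg.Agent.Lib.Helper8

open Cfsg
open scoped ComplexConjugate
open Cfsg.Agent.Lib.Helper1 Cfsg.Agent.Lib.Helper4

universe u

section Main

variable {G : Type u} [Group G] [Fintype G] {Mp Mq : Ideal AlgInt} {p q : ℕ}

/-- **Brauer**: in a group without elements of order `pq`, the sum of `χ(1)χ(y)` over the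
characters common to a `p`-block and a `q`-block, at a `p`-singular element `y`, is `q ^ b` times
an algebraic integer, where `q ^ b` is the `q`-part of the group order. -/
theorem exists_algInt_sum_inter_eq [hpf : Fact p.Prime] [hqf : Fact q.Prime]
    (hMp : IsPModular p Mp) (hMq : IsPModular q Mq) (hpq : p ≠ q)
    (hno : ∀ g : G, orderOf g ≠ p * q) {Bp Bq : Set (IrrCharacter G)} (hBp : IsPBlock Mp Bp)
    (hBq : IsPBlock Mq Bq) (y : G) (hy : p ∣ orderOf y) :
    ∃ ω : AlgInt, ∑ᶠ χ ∈ Bp ∩ Bq, (charDegree (χ : G → ℂ) : ℂ) * (χ : G → ℂ) y =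
      (q : ℂ) ^ (Nat.card G).factorization q * (ω : ℂ) := by
  classical
  haveI : Fintype (IrrCharacter G) := Fintype.ofFinite _
  set b := (Nat.card G).factorization q with hb
  set F : ℂ := ∑ χ : IrrCharacter G, (if χ ∈ Bp ∧ χ ∈ Bq then (1 : ℂ) else 0) *
      ((charDegree (χ : G → ℂ) : ℂ) * (χ : G → ℂ) y) with hF
  have hsum : ∑ᶠ χ ∈ Bp ∩ Bq, (charDegree (χ : G → ℂ) : ℂ) * (χ : G → ℂ) y = F := by
    rw [finsum_mem_eq_sum_indicator, hF]
    refine Finset.sum_congr rfl fun χ _ => ?_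
    congr 1
    by_cases h1 : χ ∈ Bp ∧ χ ∈ Bq
    · rw [if_pos h1, if_pos (show χ ∈ Bp ∩ Bq from h1)]
    · rw [if_neg h1, if_neg (show ¬ χ ∈ Bp ∩ Bq from h1)]
  rw [hsum]
  have hFint : IsIntegral ℤ F := by
    rw [hF]
    apply IsIntegral.sum
    intro χ _
    apply IsIntegral.mul
    · split_ifs
      · exact isIntegral_one
      · exact isIntegral_zero
    · apply IsIntegral.mul
      · have h1 := isIntegral_algebraMap (R := ℤ) (A := ℂ) (x := (charDegree (χ : G → ℂ) : ℤ))
        simpa using h1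
      · exact isIntegral_char_apply (isCharacter_of_irr χ.2) y
  have hq0 : ((q ^ b : ℕ) : ℂ) ≠ 0 := Nat.cast_ne_zero.2 (pow_pos hqf.out.pos _).ne'
  have hint : IsIntegral ℤ (F / ((q ^ b : ℕ) : ℂ)) := by
    apply isIntegral_of_forall_memLocalRing
    intro N hN
    by_cases hqN : (q : AlgInt) ∈ N
    · have hNq : IsPModular q N := ⟨hqf.out, hN, hqN⟩
      have hBq' : IsPBlock N Bq := isPBlock_of_isPModular q hMq hNq hBq
      exact memLocalRing_sum_inter_div hMp hNq hpq hno hBp hBq' y hy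
    · refine ⟨⟨F, hFint⟩, ((q ^ b : ℕ) : AlgInt), ?_, ?_⟩
      · intro h
        have h1 : ((q : AlgInt)) ^ b ∈ N := by
          have : ((q ^ b : ℕ) : AlgInt) = (q : AlgInt) ^ b := by push_cast; rfl
          rw [← this]
          exact h
        exact hqN (hN.isPrime.mem_of_pow_mem b h1)
      · simp
  refine ⟨⟨F / ((q ^ b : ℕ) : ℂ), hint⟩, ?_⟩
  show F = (q : ℂ) ^ b * (F / ((q ^ b : ℕ) : ℂ))
  push_cast at hq0 ⊢
  field_simp

end Main

end Cfsg.Agent.Lib.Helper8
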