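import Mathlib

/-!
# Twisted fixed points for actions of groups with a normal subgroup of odd index acting trivially
-/

set_option autoImplicit false

namespace Cfsg.Agent.Lib.Helper8

universe u v

section

variable {G : Type u} {Z : Type v} [Group G]

/-- If `act (g * g)` fixes `z` and an odd power of `g` acts trivially, then `act g` fixes `z`. -/
theorem act_eq_of_act_sq_eq (act : G → Z → Z) (h1 : ∀ z, act 1 z = z)
    (hmul : ∀ g h z, act (g * h) z = act g (act h z)) {g : G} {m : ℕ} (hm : Odd m)
    (hgm : ∀ z, act (g ^ m) z = z) {z : Z} (hz : act (g * g) z = z) : act g z = z := by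
  obtain ⟨b, rfl⟩ := hm
  have hpow : ∀ (b : ℕ) (w : Z), act (g * g) w = w → act ((g * g) ^ b) w = w := by
    intro b
    induction b with
    | zero =>
      intro w _
      rw [pow_zero, h1]
    | succ b ih =>
      intro w hw
      rw [pow_succ, hmul, hw]
      exact ih w hw
  have h2 : g ^ (2 * b + 1) = (g * g) ^ b * g := by
    rw [pow_succ, pow_mul, pow_two]
  have h3 : act (g * g) (act g z) = act g z := by
    rw [← hmul, mul_assoc, hmul, hz]
  have h4 := hgm z
  rw [h2, hmul, hpow b _ h3] at h4
  exact h4

/-- The twisted fixed point condition splits, when an odd power of `g` acts trivially. -/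
theorem twisted_fixed_iff (act : G → Z → Z) (h1 : ∀ z, act 1 z = z)
    (hmul : ∀ g h z, act (g * h) z = act g (act h z)) (ι : Z → Z) (hι : ∀ z, ι (ι z) = z)
    (hcomm : ∀ g z, ι (act g z) = act g (ι z)) {g : G} {m : ℕ} (hm : Odd m)
    (hgm : ∀ z, act (g ^ m) z = z) (z : Z) :
    ι z = act g z ↔ (ι z = z ∧ act g z = z) := by
  constructor
  · intro h
    have h2 : act (g * g) z = z := by
      rw [hmul, ← h, ← hcomm, ← h, hι]
    have h3 := act_eq_of_act_sq_eq act h1 hmul hm hgm h2
    exact ⟨h.trans h3, h3⟩
  · rintro ⟨h2, h3⟩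
    rw [h2, h3]

end

end Cfsg.Agent.Lib.Helper8
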