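import Mathlib
import Cfsg.Prelude.Def_Characters
import Cfsg.Agent.Lib.Helper1.CharFound8
import Cfsg.Agent.Lib.Helper1.CliffordCorr
import Cfsg.Agent.Lib.Helper8.OR2

/-!
# The actions of a group on the irreducible characters and on the classes of a normal subgroup
-/

set_option autoImplicit false

namespace Cfsg.Agent.Lib.Helper8

open Cfsg
open scoped ComplexConjugate
open Cfsg.Agent.Lib.Helper1 Cfsg.Agent.Lib.Helper4 Cfsg.Agent.S0193 Cfsg.Agent.S0194

universe u

section

variable {G : Type u} [Group G] (K : Subgroup G) [hK : K.Normal]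

/-- The action of `G` on the irreducible characters of `K`. -/
noncomputable def actIrr (g : G) (θ : IrrCharacter K) : IrrCharacter K :=
  ⟨conjFun K (θ : K → ℂ) g⁻¹, conjFun_irr K _ θ.2 g⁻¹⟩

theorem actIrr_apply (g : G) (θ : IrrCharacter K) (k : K) :
    (actIrr K g θ : K → ℂ) k
      = (θ : K → ℂ) ⟨g⁻¹ * k * g, by simpa using hK.conj_mem k k.2 g⁻¹⟩ := by
  show conjFun K (θ : K → ℂ) g⁻¹ k = _
  unfold conjFun
  exact congrArg (θ : K → ℂ) (Subtype.ext (by simp))

theorem actIrr_one (θ : IrrCharacter K) : actIrr K 1 θ = θ := by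
  apply Subtype.ext
  show conjFun K (θ : K → ℂ) (1 : G)⁻¹ = _
  rw [inv_one, conjFun_one]

theorem actIrr_mul (g h : G) (θ : IrrCharacter K) :
    actIrr K (g * h) θ = actIrr K g (actIrr K h θ) := by
  apply Subtype.ext
  show conjFun K (θ : K → ℂ) (g * h)⁻¹ = conjFun K (conjFun K (θ : K → ℂ) h⁻¹) g⁻¹
  rw [conjFun_mul, mul_inv_rev]

/-- Complex conjugation on irreducible characters. -/
noncomputable def conjIrr {H : Type u} [Group H] [Finite H] (θ : IrrCharacter H) :
    IrrCharacter H :=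
  ⟨fun k => conj ((θ : H → ℂ) k), by
    classical
    haveI : Fintype H := Fintype.ofFinite _
    exact isIrrCharacter_conj θ.2⟩

theorem conjIrr_conjIrr {H : Type u} [Group H] [Finite H] (θ : IrrCharacter H) : conjIrr (conjIrr θ) = θ := by
  apply Subtype.ext
  funext k
  show conj (conj ((θ : H → ℂ) k)) = _
  simp

theorem conjIrr_actIrr [Finite G] (g : G) (θ : IrrCharacter K) :
    conjIrr (actIrr K g θ) = actIrr K g (conjIrr θ) := by
  apply Subtype.ext
  rfl

theorem conjIrr_eq_iff {H : Type u} [Group H] [Finite H] (θ : IrrCharacter H) :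
    conjIrr θ = θ ↔ ∀ k : H, ((θ : H → ℂ) k).im = 0 := by
  constructor
  · intro h k
    have h1 : conj ((θ : H → ℂ) k) = (θ : H → ℂ) k := congrFun (congrArg Subtype.val h) k
    exact Complex.conj_eq_iff_im.1 h1
  · intro h
    apply Subtype.ext
    funext k
    exact Complex.conj_eq_iff_im.2 (h k)

theorem actIrr_of_mem {g : G} (hg : g ∈ K) (θ : IrrCharacter K) : actIrr K g θ = θ := by
  apply Subtype.ext
  funext k
  rw [actIrr_apply]
  have h1 := isClassFunction_irr θ.2 k (⟨g, hg⟩ : K)⁻¹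
  rw [← h1]
  exact congrArg (θ : K → ℂ) (Subtype.ext (by simp))

/-- The twisting map used in Brauer's permutation lemma. -/
def twistMap (g : G) (k : K) : K :=
  ⟨g⁻¹ * (k : G)⁻¹ * g, by simpa using hK.conj_mem _ (K.inv_mem k.2) g⁻¹⟩

theorem comp_twistMap [Finite G] (g : G) (θ : IrrCharacter K) :
    (fun k => (θ : K → ℂ) (twistMap K g k)) = (conjIrr (actIrr K g θ) : K → ℂ) := by
  classical
  haveI : Fintype K := Fintype.ofFinite _
  funext k
  show _ = conj ((actIrr K g θ : K → ℂ) k)
  rw [← isCharacter_inv (isCharacter_of_irr (actIrr K g θ).2), actIrr_apply]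
  congr 1

theorem comp_twistMap_eq_iff [Finite G] (hodd : Odd K.index) (g : G) (θ : IrrCharacter K) :
    (fun k => (θ : K → ℂ) (twistMap K g k)) = (θ : K → ℂ) ↔
      ((∀ k : K, ((θ : K → ℂ) k).im = 0) ∧ actIrr K g θ = θ) := by
  rw [comp_twistMap, ← conjIrr_eq_iff]
  have h1 := twisted_fixed_iff (actIrr K) (actIrr_one K) (actIrr_mul K) conjIrr conjIrr_conjIrr
    (conjIrr_actIrr K) hodd (g := g)
    (fun z => actIrr_of_mem K (Subgroup.pow_index_mem K g) z) θ
  rw [← h1]
  constructor
  · intro h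
    have h2 : conjIrr (actIrr K g θ) = θ := Subtype.ext h
    rw [← h2, conjIrr_conjIrr, h2]
  · intro h
    rw [← h, conjIrr_conjIrr]

end

end Cfsg.Agent.Lib.Helper8
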