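import Mathlib
import Cfsg.Prelude.Def_Characters
import Cfsg.Agent.Lib.Helper8.GL17
import Cfsg.Agent.Lib.Helper8.GL19
import Cfsg.Agent.Lib.Helper8.OR3

/-!
# The Glauberman correspondence for `p`-groups preserves real characters
-/

set_option autoImplicit false

namespace Cfsg.Agent.Lib.Helper8

open Cfsg
open scoped ComplexConjugate
open Cfsg.Agent.Lib.Helper1 Cfsg.Agent.Lib.Helper4

universe u

section

variable {A : Type u} [Group A] [Fintype A]

/-- Inner product with a conjugated function. -/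
theorem classInner_conj_right (f g : A → ℂ) :
    classInner f (fun x => conj (g x)) = (Nat.card A : ℂ)⁻¹ * ∑ x : A, f x * g x := by
  rw [classInner_def]
  congr 1
  refine Finset.sum_congr rfl (fun x _ => ?_)
  simp

theorem classInner_conj_left (f g : A → ℂ) :
    classInner (fun x => conj (f x)) g = conj (classInner f (fun x => conj (g x))) := by
  rw [classInner_conj_right, classInner_def, map_mul, map_inv₀, Complex.conj_natCast, map_sum]
  congr 1
  refine Finset.sum_congr rfl (fun x _ => ?_)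
  rw [map_mul]

theorem classInner_conj_right_of_real {f : A → ℂ} (hf : ∀ x, (f x).im = 0) (g : A → ℂ) :
    classInner f (fun x => conj (g x)) = conj (classInner f g) := by
  rw [classInner_conj_right, classInner_def, map_mul, map_inv₀, Complex.conj_natCast, map_sum]
  congr 1
  refine Finset.sum_congr rfl (fun x _ => ?_)
  rw [map_mul, Complex.conj_conj, Complex.conj_eq_iff_im.2 (hf x)]

end

section

variable {Γ : Type u} [Group Γ] [Fintype Γ]

theorem invS_conjIrr {S H : Subgroup Γ} (χ : IrrCharacter H) (h : InvS S H (χ : H → ℂ)) :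
    InvS S H (conjIrr χ : H → ℂ) := by
  intro s hs g g' hg
  show conj ((χ : H → ℂ) g') = conj ((χ : H → ℂ) g)
  rw [h s hs g g' hg]

/-- Under the correspondence, real invariant characters of `H` correspond to real characters of
`C`. -/
theorem GlauProp.card_real {p : ℕ} (hp : p.Prime) {H C S : Subgroup Γ} [Fintype H] [Fintype C]
    {hCH : C ≤ H} (GP : GlauProp p H C hCH (fun χ => InvS S H (χ : H → ℂ))) :
    Nat.card {θ : IrrCharacter H // (∀ k : H, ((θ : H → ℂ) k).im = 0) ∧ InvS S H (θ : H → ℂ)}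
      = Nat.card {β : IrrCharacter C // ∀ c : C, ((β : C → ℂ) c).im = 0} := by
  classical
  apply card_eq_of_rel (fun θ β => ∃ m : ℕ,
    classInner (fun c : C => (θ.1 : H → ℂ) ⟨c, hCH c.2⟩) (β.1 : C → ℂ) = m ∧ ¬ p ∣ m)
  · -- existence
    rintro ⟨θ, hreal, hinv⟩
    obtain ⟨β, ε, hε, hc⟩ := GP.corr θ hinv
    obtain ⟨m, hm, hpm⟩ := GlauProp.not_dvd_self hp hε hc
    have hβreal : conjIrr β = β := by
      apply GlauProp.eq_of_not_dvd hc (m := m) _ hpm
      show classInner (fun c : C => (θ : H → ℂ) ⟨c, hCH c.2⟩) (fun c => conj ((β : C → ℂ) c)) = m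
      rw [classInner_conj_right_of_real (fun c => hreal _), hm]
      simp
    exact ⟨⟨β, (conjIrr_eq_iff β).1 hβreal⟩, m, hm, hpm⟩
  · -- surjectivity
    rintro ⟨β, hβ⟩
    obtain ⟨χ, hinv, m, hm, hpm⟩ := GP.surj β
    have hχreal : χ = conjIrr χ := by
      apply GP.inj χ (conjIrr χ) hinv (invS_conjIrr χ hinv) β m m hm hpm _ hpm
      show classInner (fun c : C => conj ((χ : H → ℂ) ⟨c, hCH c.2⟩)) (β : C → ℂ) = m
      rw [classInner_conj_left]
      have hβ' : (fun c => conj ((β : C → ℂ) c)) = (β : C → ℂ) := by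
        funext c
        exact Complex.conj_eq_iff_im.2 (hβ c)
      rw [hβ', hm]
      simp
    exact ⟨⟨χ, (conjIrr_eq_iff χ).1 hχreal.symm, hinv⟩, m, hm, hpm⟩
  · -- functional
    rintro ⟨θ, hreal, hinv⟩ ⟨β, hβ⟩ ⟨β', hβ'⟩ ⟨m, hm, hpm⟩ ⟨m', hm', hpm'⟩
    obtain ⟨β₀, ε, hε, hc⟩ := GP.corr θ hinv
    have h1 := GlauProp.eq_of_not_dvd hc hm hpm
    have h2 := GlauProp.eq_of_not_dvd hc hm' hpm'
    apply Subtype.ext
    exact h1.trans h2.symm
  · -- injective
    rintro ⟨θ, hreal, hinv⟩ ⟨θ', hreal', hinv'⟩ ⟨β, hβ⟩ ⟨m, hm, hpm⟩ ⟨m', hm', hpm'⟩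
    apply Subtype.ext
    exact GP.inj θ θ' hinv hinv' β m m' hm hpm hm' hpm'

end

end Cfsg.Agent.Lib.Helper8
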