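import Mathlib
import Cfsg.Prelude.Def_Characters
import Cfsg.Agent.Lib.Helper8.GL22
import Cfsg.Agent.Lib.Helper8.GR1

/-!
# Real invariant classes under coprime action
-/

set_option autoImplicit false

namespace Cfsg.Agent.Lib.Helper8

open Cfsg
open scoped ComplexConjugate
open Cfsg.Agent.Lib.Helper1 Cfsg.Agent.Lib.Helper4

universe u

section

/-- Realness of a class can be tested on one representative. -/
theorem real_class_iff {A : Type u} [Group A] (x : A) :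
    (∀ k : A, ConjClasses.mk k = ConjClasses.mk x → IsConj k k⁻¹) ↔ IsConj x x⁻¹ := by
  constructor
  · intro h
    exact h x rfl
  · intro h k hk
    obtain ⟨t, ht⟩ := isConj_iff.1 (ConjClasses.mk_eq_mk_iff_isConj.1 hk)
    obtain ⟨r, hr⟩ := isConj_iff.1 h
    rw [isConj_iff]
    refine ⟨t⁻¹ * r * t, ?_⟩
    rw [← ht] at hr
    have h1 : (t * k * t⁻¹)⁻¹ = t * k⁻¹ * t⁻¹ := by group
    rw [h1] at hr
    calc t⁻¹ * r * t * k * (t⁻¹ * r * t)⁻¹ = t⁻¹ * (r * (t * k * t⁻¹) * r⁻¹) * t := by group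
      _ = t⁻¹ * (t * k⁻¹ * t⁻¹) * t := by rw [hr]
      _ = k⁻¹ := by group

variable {Γ : Type u} [Group Γ] [Fintype Γ]

/-- The number of real `S`-invariant classes of `G` is the number of real classes of
`C_G(S)`. -/
theorem real_class_count {G S : Subgroup Γ} (hnorm : ∀ s ∈ S, Normalizes s G)
    (hcop : (Nat.card G).Coprime (Nat.card S)) (hsolv : Group.IsSolvable S)
    (C : Subgroup Γ) (hC : C = G ⊓ Subgroup.centralizer (S : Set Γ)) :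
    Nat.card {K : ConjClasses G // (∀ k : G, ConjClasses.mk k = K → IsConj k k⁻¹) ∧
        InvClass S G K}
      = Nat.card {κ : ConjClasses C // ∀ c : C, ConjClasses.mk c = κ → IsConj c c⁻¹} := by
  have hCG : C ≤ G := hC ▸ inf_le_left
  have hCS : ∀ c ∈ C, c ∈ Subgroup.centralizer (S : Set Γ) := fun c hc =>
    (Subgroup.mem_inf.1 (hC ▸ hc)).2
  apply card_eq_of_rel (fun K κ => ∃ c : C, ConjClasses.mk c = κ.1 ∧
      ConjClasses.mk (⟨c, hCG c.2⟩ : G) = K.1)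
  · rintro ⟨K, hKreal, hK⟩
    obtain ⟨⟨x, hx, hxc⟩, huniq⟩ := invClass_fixed hnorm hcop hsolv K hK
    have hxC : (x : Γ) ∈ C := by
      rw [hC]
      exact Subgroup.mem_inf.2 ⟨x.2, hxc⟩
    refine ⟨⟨ConjClasses.mk ⟨x, hxC⟩, ?_⟩, ⟨x, hxC⟩, rfl, hx⟩
    rw [real_class_iff]
    have hxinv : ConjClasses.mk x⁻¹ = K := by
      rw [← hx, ConjClasses.mk_eq_mk_iff_isConj]
      exact (hKreal x hx).symm
    have hxc' : ((x⁻¹ : G) : Γ) ∈ Subgroup.centralizer (S : Set Γ) := by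
      rw [Subgroup.coe_inv]
      exact Subgroup.inv_mem _ hxc
    obtain ⟨k, hk, hkc⟩ := huniq x x⁻¹ hx hxinv hxc hxc'
    rw [isConj_iff]
    refine ⟨⟨k, hC ▸ hk⟩, ?_⟩
    apply Subtype.ext
    simpa using hkc
  · rintro ⟨κ, hκ⟩
    obtain ⟨c, hc⟩ := ConjClasses.exists_rep κ
    refine ⟨⟨ConjClasses.mk ⟨c, hCG c.2⟩, ?_, ?_⟩, c, hc, rfl⟩
    · rw [real_class_iff]
      obtain ⟨r, hr⟩ := isConj_iff.1 (hκ c hc)
      rw [isConj_iff]
      refine ⟨⟨r, hCG r.2⟩, ?_⟩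
      apply Subtype.ext
      have := congrArg (fun z : C => (z : Γ)) hr
      simpa using this
    · intro s hs g g' hgg hg
      obtain ⟨a, haG, ha⟩ := (mk_eq_mk_iff_sub _ _).1 hg
      rw [mk_eq_mk_iff_sub]
      refine ⟨s * a * s⁻¹, (hnorm s hs a).1 haG, ?_⟩
      have h1 := (Subgroup.mem_centralizer_iff.1 (hCS c c.2)) s hs
      show s * a * s⁻¹ * (g' : Γ) * (s * a * s⁻¹)⁻¹ = (c : Γ)
      have ha' : a * (g : Γ) * a⁻¹ = (c : Γ) := ha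
      rw [hgg]
      calc s * a * s⁻¹ * (s * (g : Γ) * s⁻¹) * (s * a * s⁻¹)⁻¹
          = s * (a * (g : Γ) * a⁻¹) * s⁻¹ := by group
        _ = s * (c : Γ) * s⁻¹ := by rw [ha']
        _ = (c : Γ) * s * s⁻¹ := by rw [h1]
        _ = (c : Γ) := by group
  · rintro ⟨K, hKreal, hK⟩ ⟨κ, hκ⟩ ⟨κ', hκ'⟩ ⟨c, hc, hcK⟩ ⟨c', hc', hcK'⟩
    obtain ⟨_, huniq⟩ := invClass_fixed hnorm hcop hsolv K hK
    obtain ⟨k, hk, hkc⟩ := huniq ⟨c, hCG c.2⟩ ⟨c', hCG c'.2⟩ hcK hcK' (hCS c c.2) (hCS c' c'.2)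
    apply Subtype.ext
    show κ = κ'
    simp only at hc hc'
    rw [← hc, ← hc', mk_eq_mk_iff_sub]
    exact ⟨k, hC ▸ hk, hkc⟩
  · rintro ⟨K, hKreal, hK⟩ ⟨K', hKreal', hK'⟩ ⟨κ, hκ⟩ ⟨c, hc, hcK⟩ ⟨c', hc', hcK'⟩
    apply Subtype.ext
    show K = K'
    simp only at hcK hcK' hc hc'
    rw [← hcK, ← hcK']
    rw [← hc'] at hc
    obtain ⟨a, haC, ha⟩ := (mk_eq_mk_iff_sub _ _).1 hc
    rw [mk_eq_mk_iff_sub]
    exact ⟨a, hCG haC, ha⟩

end

end Cfsg.Agent.Lib.Helper8
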