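import Mathlib
import Cfsg.Prelude.Def_Characters
import Cfsg.Agent.Lib.Helper8.GR2
import Cfsg.Agent.S0160

/-!
# Real invariant characters and classes under the action of a `p`-group on a `p'`-group
-/

set_option autoImplicit false

namespace Cfsg.Agent.Lib.Helper8

open Cfsg
open scoped ComplexConjugate
open Cfsg.Agent.Lib.Helper1 Cfsg.Agent.Lib.Helper4

universe u

section

variable {G : Type u} [Group G] [Fintype G]

theorem real_inv_count (p : ℕ) [hp : Fact p.Prime] (P K : Subgroup G) (hP : IsPGroup p P)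
    (hK : ¬ p ∣ Nat.card K) (hPK : P ≤ Subgroup.normalizer (K : Set G)) :
    Nat.card {θ : IrrCharacter K // (∀ k : K, ((θ : K → ℂ) k).im = 0) ∧ InvS P K (θ : K → ℂ)}
      = Nat.card {c : ConjClasses K // (∀ k : K, ConjClasses.mk k = c → IsConj k k⁻¹) ∧
          InvClass P K c} := by
  classical
  haveI : Fintype K := Fintype.ofFinite _
  have hnorm : ∀ x ∈ P, Normalizes x K := fun x hx => Subgroup.mem_normalizer_iff.1 (hPK hx)
  obtain ⟨n, hn⟩ := IsPGroup.iff_card.1 hP
  have hcop' : (Nat.card K).Coprime p :=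
    Nat.Coprime.symm ((Nat.Prime.coprime_iff_not_dvd hp.out).2 hK)
  have hcop : (Nat.card K).Coprime (Nat.card P) := by
    rw [hn]
    exact Nat.Coprime.pow_right n hcop'
  haveI := hP.isNilpotent
  have hsolv : Group.IsSolvable P := inferInstance
  haveI : Fintype (K ⊓ Subgroup.centralizer (P : Set G) : Subgroup G) := Fintype.ofFinite _
  have GP := glauProp_pgroup hp.out n K P hn hnorm hcop'
    (K ⊓ Subgroup.centralizer (P : Set G)) rfl inf_le_left
  have e1 := GP.card_real hp.out
  have e2 := Cfsg.Agent.S0160.result (G := (K ⊓ Subgroup.centralizer (P : Set G) : Subgroup G))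
  have e3 := real_class_count hnorm hcop hsolv (K ⊓ Subgroup.centralizer (P : Set G)) rfl
  rw [e1, e2, e3]

/-- If all real characters are invariant, then all real classes are invariant. -/
theorem real_class_inv_of_all (p : ℕ) [hp : Fact p.Prime] (P K : Subgroup G) (hP : IsPGroup p P)
    (hK : ¬ p ∣ Nat.card K) (hPK : P ≤ Subgroup.normalizer (K : Set G))
    (hall : ∀ θ : IrrCharacter K, (∀ k : K, ((θ : K → ℂ) k).im = 0) → InvS P K (θ : K → ℂ))
    (c : ConjClasses K) (hc : ∀ k : K, ConjClasses.mk k = c → IsConj k k⁻¹) :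
    InvClass P K c := by
  classical
  haveI : Fintype K := Fintype.ofFinite _
  haveI : Fintype (ConjClasses K) := Fintype.ofFinite _
  have h1 := real_inv_count p P K hP hK hPK
  have h2 := Cfsg.Agent.S0160.result (G := K)
  have h3 : Nat.card {θ : IrrCharacter K // (∀ k : K, ((θ : K → ℂ) k).im = 0) ∧
      InvS P K (θ : K → ℂ)}
      = Nat.card {θ : IrrCharacter K // ∀ k : K, ((θ : K → ℂ) k).im = 0} :=
    Nat.card_congr (Equiv.subtypeEquivRight (fun θ => ⟨fun h => h.1, fun h => ⟨h, hall θ h⟩⟩))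
  rw [h3, h2, Nat.card_eq_fintype_card, Nat.card_eq_fintype_card, Fintype.card_subtype,
    Fintype.card_subtype] at h1
  have hsub : Finset.univ.filter (fun c : ConjClasses K =>
      (∀ k : K, ConjClasses.mk k = c → IsConj k k⁻¹) ∧ InvClass P K c)
      ⊆ Finset.univ.filter (fun c : ConjClasses K =>
      ∀ k : K, ConjClasses.mk k = c → IsConj k k⁻¹) := by
    intro c hc
    rw [Finset.mem_filter] at hc ⊢
    exact ⟨hc.1, hc.2.1⟩
  have heq := Finset.eq_of_subset_of_card_le hsub (le_of_eq h1)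
  have hmem : c ∈ Finset.univ.filter (fun c : ConjClasses K =>
      ∀ k : K, ConjClasses.mk k = c → IsConj k k⁻¹) := by
    rw [Finset.mem_filter]
    exact ⟨Finset.mem_univ _, hc⟩
  rw [← heq, Finset.mem_filter] at hmem
  exact hmem.2.2

/-- Real elements are conjugate to fixed elements, when all real characters are invariant. -/
theorem exists_fixed_conj_of_all (p : ℕ) [hp : Fact p.Prime] (P K : Subgroup G)
    (hP : IsPGroup p P) (hK : ¬ p ∣ Nat.card K) (hPK : P ≤ Subgroup.normalizer (K : Set G))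
    (hall : ∀ θ : IrrCharacter K, (∀ k : K, ((θ : K → ℂ) k).im = 0) → InvS P K (θ : K → ℂ))
    (k : K) (hk : IsConj k k⁻¹) :
    ∃ k' : K, IsConj k k' ∧ ∀ x ∈ P, x * (k' : G) * x⁻¹ = (k' : G) := by
  have hnorm : ∀ x ∈ P, Normalizes x K := fun x hx => Subgroup.mem_normalizer_iff.1 (hPK hx)
  obtain ⟨n, hn⟩ := IsPGroup.iff_card.1 hP
  have hcop' : (Nat.card K).Coprime p :=
    Nat.Coprime.symm ((Nat.Prime.coprime_iff_not_dvd hp.out).2 hK)
  have hcop : (Nat.card K).Coprime (Nat.card P) := by
    rw [hn]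
    exact Nat.Coprime.pow_right n hcop'
  haveI := hP.isNilpotent
  have hsolv : Group.IsSolvable P := inferInstance
  have hinv := real_class_inv_of_all p P K hP hK hPK hall (ConjClasses.mk k)
    ((real_class_iff k).2 hk)
  obtain ⟨⟨x, hx, hxc⟩, -⟩ := invClass_fixed hnorm hcop hsolv _ hinv
  refine ⟨x, (ConjClasses.mk_eq_mk_iff_isConj.1 hx).symm, ?_⟩
  intro s hs
  have h1 := Subgroup.mem_centralizer_iff.1 hxc s hs
  rw [h1]
  group

end

end Cfsg.Agent.Lib.Helper8
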