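import Mathlib
import Cfsg.Prelude.Def_Blocks
import Cfsg.Agent.Lib.Helper8.GS1
import Cfsg.Agent.Lib.Helper8.BP2
import Cfsg.Agent.Lib.Helper8.Inf2
import Cfsg.Agent.Lib.Helper8.Deflation
import Cfsg.Agent.Lib.Helper8.BlockFirstMain3
import Cfsg.Agent.S0161
import Cfsg.Agent.S0968
import Cfsg.Agent.S0973
import Cfsg.Agent.S0936

/-!
# A 2-block of full defect stable under inversion of odd-order elements is principal
-/

set_option autoImplicit false
set_option linter.unusedSectionVars false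

namespace Cfsg.Agent.Lib.Helper8

open Cfsg
open scoped ComplexConjugate
open Cfsg.Agent.Lib.Helper1 Cfsg.Agent.Lib.Helper4

universe u

section

variable {G : Type u} [Group G] [Fintype G] {M : Ideal AlgInt}

theorem conjAutOn_pow_succ (L : Subgroup G) (n : G) (j : ℕ)
    (hn : n ∈ Subgroup.normalizer (L : Set G))
    (hj : n ^ j ∈ Subgroup.normalizer (L : Set G))
    (hj1 : n ^ (j + 1) ∈ Subgroup.normalizer (L : Set G)) (x : L) :
    conjAutOn L (n ^ (j + 1)) hj1 x = conjAutOn L n hn (conjAutOn L (n ^ j) hj x) := by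
  apply Subtype.ext
  simp only [conjAutOn_apply_coe]
  rw [pow_succ']
  group

/-- The canonical character of the root block is trivial. -/
theorem canonical_eq_one (k l : ℕ) (h2 : ∀ g : G, (g ^ l) ^ k = g)
    (hk₂ : ∀ g : G, Odd (orderOf g) → g ^ k = g⁻¹)
    (P : Subgroup G) (hPcard : Nat.card P = 2 ^ (Nat.card G).factorization 2)
    (L : Subgroup G) (hL : L = P ⊔ Subgroup.centralizer (P : Set G)) [Fintype L]
    (hkL : k.Coprime (Nat.card L))
    (b : Set (IrrCharacter L))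
    (θ₀ : IrrCharacter L) (hθ₀ : θ₀ ∈ b)
    (hθ₀P : ∀ x : L, (x : G) ∈ P → (θ₀ : L → ℂ) x = (θ₀ : L → ℂ) 1)
    (huniq : ∀ θ ∈ b, (∀ x : L, (x : G) ∈ P → (θ : L → ℂ) x = (θ : L → ℂ) 1) → θ = θ₀)
    (n : G) (hn : n ∈ Subgroup.normalizer (P : Set G))
    (hconj : ∀ θ ∈ b, ∃ θ' ∈ powIrr k hkL '' b, ∀ x : L, ∀ hx : n * (x : G) * n⁻¹ ∈ L,
      (θ' : L → ℂ) x = (θ : L → ℂ) ⟨n * (x : G) * n⁻¹, hx⟩) :
    (θ₀ : L → ℂ) = fun _ => 1 := by
  classical
  haveI : Fact (Nat.Prime 2) := ⟨Nat.prime_two⟩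
  obtain ⟨hPL, hCL, hLN, hLC, hNL, hNC⟩ := pair_basic P _ L rfl hL
  have hnL : n ∈ Subgroup.normalizer (L : Set G) := hNL hn
  have hPS : (Sylow.ofCard P hPcard : Subgroup G) = P := Sylow.coe_ofCard P hPcard
  -- (★)
  have hstar : ∀ x : L, (θ₀ : L → ℂ) (x ^ k) = (θ₀ : L → ℂ) (conjAutOn L n hnL x) := by
    obtain ⟨θ', ⟨ξ, hξ, rfl⟩, hθ'⟩ := hconj θ₀ hθ₀
    have hmem : ∀ x : L, n * (x : G) * n⁻¹ ∈ L :=
      fun x => (Subgroup.mem_normalizer_iff.1 hnL x).1 x.2
    have hξ1 : (ξ : L → ℂ) 1 = (θ₀ : L → ℂ) 1 := by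
      have h3 := hθ' 1 (hmem 1)
      rw [powIrr_apply, one_pow] at h3
      rw [h3]
      have e : (⟨n * ((1 : L) : G) * n⁻¹, hmem 1⟩ : L) = 1 := by
        apply Subtype.ext
        simp
      rw [e]
    have hξθ : ξ = θ₀ := by
      apply huniq ξ hξ
      intro x hx
      have hxl : x = (x ^ l) ^ k := by
        apply Subtype.ext
        rw [Subgroup.coe_pow, Subgroup.coe_pow, h2]
      have h3 := hθ' (x ^ l) (hmem _)
      rw [powIrr_apply, ← hxl] at h3
      rw [h3, hξ1]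
      apply hθ₀P
      show n * ((x ^ l : L) : G) * n⁻¹ ∈ P
      rw [Subgroup.coe_pow]
      exact (Subgroup.mem_normalizer_iff.1 hn _).1 (P.pow_mem hx l)
    intro x
    have h3 := hθ' x (hmem x)
    rw [powIrr_apply, hξθ] at h3
    rw [h3]
    rfl
  -- the quotient
  have hPLn : (P.subgroupOf L).Normal := Subgroup.normal_subgroupOf_of_le_normalizer hLN
  obtain ⟨ψ, hψ, hψθ⟩ := exists_deflation (P.subgroupOf L) θ₀.2
    (fun g hg => hθ₀P g (Subgroup.mem_subgroupOf.1 hg))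
  have hodd : Odd (Nat.card (L ⧸ P.subgroupOf L)) := by
    have h3 : Nat.card L = Nat.card (L ⧸ P.subgroupOf L) * Nat.card (P.subgroupOf L) :=
      Subgroup.card_eq_card_quotient_mul_card_subgroup _
    have h4 : Nat.card (P.subgroupOf L) = Nat.card P :=
      Nat.card_congr (Subgroup.subgroupOfEquivOfLe hPL).toEquiv
    rw [h4, hPcard] at h3
    have h5 : Nat.card L ∣ Nat.card G := Subgroup.card_subgroup_dvd_card L
    rw [← Nat.not_even_iff_odd]
    intro hev
    obtain ⟨r, hr⟩ := hev.two_dvd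
    have h6 : 2 ^ ((Nat.card G).factorization 2 + 1) ∣ Nat.card G := by
      refine Dvd.dvd.trans ⟨r, ?_⟩ h5
      rw [h3, hr, pow_succ]
      ring
    exact Nat.pow_succ_factorization_not_dvd Nat.card_pos.ne' Nat.prime_two h6
  -- (c1)
  have hc1 : ∀ x : L, (θ₀ : L → ℂ) (x ^ k) = conj ((θ₀ : L → ℂ) x) := by
    intro x
    have hq : ¬ 2 ∣ orderOf (QuotientGroup.mk x : L ⧸ P.subgroupOf L) := by
      intro h
      have := h.trans (orderOf_dvd_natCard _)
      exact (Nat.not_even_iff_odd.2 hodd) (even_iff_two_dvd.2 this)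
    obtain ⟨g, hg, hg2⟩ := exists_regular_lift (p := 2) (P.subgroupOf L) _ hq
    have hgodd : Odd (orderOf (g : G)) := by
      rw [Subgroup.orderOf_coe, ← Nat.not_even_iff_odd, even_iff_two_dvd]
      exact hg2
    have hgk : g ^ k = g⁻¹ := by
      apply Subtype.ext
      rw [Subgroup.coe_pow, Subgroup.coe_inv]
      exact hk₂ _ hgodd
    rw [← hψθ (x ^ k), QuotientGroup.mk_pow, ← hg, ← QuotientGroup.mk_pow, hψθ, hgk,
      isCharacter_inv (isCharacter_of_irr θ₀.2), ← hψθ g, hg, hψθ]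
  have hss : ∀ x : L, (θ₀ : L → ℂ) (conjAutOn L n hnL x) = conj ((θ₀ : L → ℂ) x) := by
    intro x
    rw [← hstar, hc1]
  -- iterate
  have hpowN : ∀ j : ℕ, n ^ j ∈ Subgroup.normalizer (L : Set G) :=
    fun j => Subgroup.pow_mem _ hnL j
  have hiter : ∀ j : ℕ, ∀ x : L,
      (θ₀ : L → ℂ) (conjAutOn L (n ^ j) (hpowN j) x) = (conj : ℂ → ℂ)^[j] ((θ₀ : L → ℂ) x) := by
    intro j
    induction j with
    | zero =>
      intro x
      rw [Function.iterate_zero, id]
      have e : conjAutOn L (n ^ 0) (hpowN 0) x = x := by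
        apply Subtype.ext
        simp
      rw [e]
    | succ j ih =>
      intro x
      rw [conjAutOn_pow_succ L n j hnL (hpowN j) (hpowN (j + 1)) x, hss, ih,
        Function.iterate_succ_apply']
  -- the 2-part of `n`
  obtain ⟨a, m, hm, hord⟩ := Nat.exists_eq_two_pow_mul_odd (orderOf_pos n).ne'
  have ht2 : (n ^ m) ^ (2 ^ a) = 1 := by
    rw [← pow_mul, mul_comm, ← hord, pow_orderOf_eq_one]
  have htP : n ^ m ∈ P := by
    have hZ : IsPGroup 2 (Subgroup.zpowers (n ^ m)) := by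
      intro g
      obtain ⟨i, hi⟩ := Subgroup.mem_zpowers_iff.1 g.2
      refine ⟨a, ?_⟩
      apply Subtype.ext
      rw [Subgroup.coe_pow, ← hi, ← zpow_natCast, ← zpow_mul, mul_comm, zpow_mul, zpow_natCast, ht2,
        one_zpow]
      rfl
    have h3 := hZ.inf_normalizer_sylow (Sylow.ofCard P hPcard)
    have h4 := h3.le ⟨Subgroup.mem_zpowers _, by
      show n ^ m ∈ Subgroup.normalizer (P : Set G)
      exact Subgroup.pow_mem _ hn m⟩
    exact h4.2
  have hreal : ∀ x : L, conj ((θ₀ : L → ℂ) x) = (θ₀ : L → ℂ) x := by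
    intro x
    have h3 := hiter m x
    have h4 : (conj : ℂ → ℂ)^[m] ((θ₀ : L → ℂ) x) = conj ((θ₀ : L → ℂ) x) := by
      have hinv : Function.Involutive (conj : ℂ → ℂ) := fun z => Complex.conj_conj z
      rw [hinv.iterate_odd hm]
    rw [h4] at h3
    rw [← h3]
    have h5 : conjAutOn L (n ^ m) (hpowN m) x =
        (⟨n ^ m, hPL htP⟩ : L) * x * (⟨n ^ m, hPL htP⟩ : L)⁻¹ := by
      apply Subtype.ext
      simp
    rw [h5, isClassFunction_irr θ₀.2]
  have hψreal : ∀ q : L ⧸ P.subgroupOf L, (ψ q).im = 0 := by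
    intro q
    obtain ⟨x, rfl⟩ := QuotientGroup.mk_surjective q
    rw [hψθ]
    exact Complex.conj_eq_iff_im.1 (hreal x)
  have h7 := Cfsg.Agent.S0161.result hodd ⟨ψ, hψ⟩ hψreal
  funext x
  rw [← hψθ x]
  exact congrFun h7 _

end

end Cfsg.Agent.Lib.Helper8
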