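import Mathlib
import Cfsg.Prelude.Def_Blocks
import Cfsg.Agent.Lib.Helper8.GS2

/-!
# A 2-block of full defect stable under inversion of odd-order elements is principal (assembly)
-/

set_option autoImplicit false
set_option linter.unusedSectionVars false

namespace Cfsg.Agent.Lib.Helper8

open Cfsg
open scoped ComplexConjugate
open Cfsg.Agent.Lib.Helper1 Cfsg.Agent.Lib.Helper4

universe u

section

variable {G : Type u} [Group G] [Fintype G] {M : Ideal AlgInt}

theorem stable_full_defect_principal (hM : IsPModular 2 M) (k : ℕ) (hk : k.Coprime (Nat.card G))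
    (hk₂ : ∀ g : G, Odd (orderOf g) → g ^ k = g⁻¹) {B : Set (IrrCharacter G)}
    (hB : IsPBlock M B) (hdef : blockDefect 2 B = (Nat.card G).factorization 2)
    (hstab : ∀ χ ∈ B, powIrr k hk χ ∈ B) : B = principalBlock M G := by
  classical
  haveI : Fact (Nat.Prime 2) := ⟨Nat.prime_two⟩
  have hMp := isPModular_isPrime hM
  obtain ⟨l, hl, h1, h2⟩ := exists_pow_inverse hk
  obtain ⟨P, hP⟩ := exists_isDefectGroup (p := 2) hMp hB
  have hPcard : Nat.card P = 2 ^ (Nat.card G).factorization 2 := by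
    rw [card_of_isDefectGroup hM hB hP, hdef]
  have hPp : IsPGroup 2 P := isPGroup_of_isDefectGroup hP
  obtain ⟨⟨b, hbD, hind⟩, hconjAll⟩ := Cfsg.Agent.S0973.result 2 M hM B hB P hP
  have : Fintype ↥(P ⊔ Subgroup.centralizer (P : Set G)) := Fintype.ofFinite _
  obtain ⟨hPL, hCL, hLN, hLC, hNL, hNC⟩ := pair_basic P _ (P ⊔ Subgroup.centralizer (P : Set G))
    rfl rfl
  have hkL : k.Coprime (Nat.card ↥(P ⊔ Subgroup.centralizer (P : Set G))) :=
    Nat.Coprime.coprime_dvd_right (Subgroup.card_subgroup_dvd_card _) hk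
  have hb : IsPBlock M b := hind.1
  -- `P_L ⊔ C_L(P_L) = ⊤`
  have htop : P.subgroupOf (P ⊔ Subgroup.centralizer (P : Set G)) ⊔
      Subgroup.centralizer ((P.subgroupOf (P ⊔ Subgroup.centralizer (P : Set G)) :
        Subgroup ↥(P ⊔ Subgroup.centralizer (P : Set G))) :
        Set ↥(P ⊔ Subgroup.centralizer (P : Set G))) = ⊤ := by
    rw [eq_top_iff]
    intro x _
    obtain ⟨u, hu, c, hc, hx⟩ := exists_mul_of_mem_sup_centralizer P x.2
    have e : x = (⟨u, hPL hu⟩ : ↥(P ⊔ Subgroup.centralizer (P : Set G))) * ⟨c, hCL hc⟩ :=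
      Subtype.ext hx
    rw [e]
    apply Subgroup.mul_mem_sup
    · exact Subgroup.mem_subgroupOf.2 hu
    · rw [Subgroup.mem_centralizer_iff]
      intro y hy
      apply Subtype.ext
      exact Subgroup.mem_centralizer_iff.1 hc (y : G) (Subgroup.mem_subgroupOf.1 hy)
  obtain ⟨⟨θ₀, ⟨hθ₀, hθ₀P⟩, huniq⟩, -, -⟩ := Cfsg.Agent.S0968.result 2 M hM
    (P.subgroupOf (P ⊔ Subgroup.centralizer (P : Set G))) hPp.comap_subtype htop b hb hbD
  -- the twisted block also induces `B`
  have hBσ : powIrr k hk '' B = B := image_powIrr_eq_of_subset k hk hstab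
  have hindσ := isInducedBlock_powIrr k hk (P ⊔ Subgroup.centralizer (P : Set G)) hkL hind
  rw [hBσ] at hindσ
  obtain ⟨n, hn, hconj⟩ := hconjAll b _ hind hindσ
  have hone := canonical_eq_one k l h2 hk₂ P hPcard (P ⊔ Subgroup.centralizer (P : Set G)) rfl hkL b
    θ₀ hθ₀ (fun x hx => hθ₀P x (Subgroup.mem_subgroupOf.2 hx))
    (fun θ hθ h => huniq θ ⟨hθ, fun x hx => h x (Subgroup.mem_subgroupOf.1 hx)⟩) n hn hconj
  -- `b` is the principal block
  have hbprin : b = principalBlock M ↥(P ⊔ Subgroup.centralizer (P : Set G)) := by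
    rw [eq_blockOf_of_mem hMp hb hθ₀, hone]
    rfl
  have h3 := (Cfsg.Agent.S0936.result 2 M hM (P ⊔ Subgroup.centralizer (P : Set G)) b
    ⟨B, hind⟩).2 hbprin
  exact isInducedBlock_unique hMp _ hind h3

end

end Cfsg.Agent.Lib.Helper8
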