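import Mathlib
import Cfsg.Prelude.Def_Blocks
import Cfsg.Agent.Lib.Helper8.GS3
import Cfsg.Agent.Lib.Helper4.Gallagher

/-!
# Multiplying by a linear character of `p`-power order does not change the block
-/

set_option autoImplicit false
set_option linter.unusedSectionVars false

namespace Cfsg.Agent.Lib.Helper8

open Cfsg
open scoped ComplexConjugate
open Cfsg.Agent.Lib.Helper1 Cfsg.Agent.Lib.Helper4

universe u

section

variable {G : Type u} [Group G] [Fintype G] {M : Ideal AlgInt} {p : ℕ}

theorem centralChar_hom_mul (f : G →* ℂˣ) (χ : G → ℂ) (g : G) :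
    centralChar (fun g => ((f g : ℂˣ) : ℂ) * χ g) g = ((f g : ℂˣ) : ℂ) * centralChar χ g := by
  unfold centralChar
  simp only [map_one, Units.val_one, one_mul]
  ring

/-- Multiplying an irreducible character by a linear character of `p`-power order stays in the
same `p`-block. -/
theorem sameBlock_hom_mul (hM : IsPModular p M) (f : G →* ℂˣ) (k : ℕ)
    (hf : ∀ g, ((f g : ℂˣ) : ℂ) ^ (p ^ k) = 1) {χ : G → ℂ} (hχ : IsIrrCharacter G χ) :
    SameBlock M (fun g => ((f g : ℂˣ) : ℂ) * χ g) χ := by
  have hMp := isPModular_isPrime hM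
  intro g
  rw [centralChar_hom_mul]
  have h1 : ((f g : ℂˣ) : ℂ) * centralChar χ g - centralChar χ g =
      (((f g : ℂˣ) : ℂ) - 1) * centralChar χ g := by ring
  rw [h1]
  exact memLocalIdeal_mul_right hMp (memLocalIdeal_sub_one_of_pow_eq_one hM k (hf g))
    (memLocalRing_centralChar hMp.ne_top hχ g)

end

end Cfsg.Agent.Lib.Helper8
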