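import Mathlib

/-!
# A nonzero central idempotent of a modular group algebra is not killed by the sum of a `p`-subgroup

Group algebra elements are written as functions `G → k`; the product is convolution.
-/

set_option autoImplicit false

namespace Cfsg.Agent.Lib.Helper8.GT

open scoped BigOperators

section

variable {k : Type*} [Field k] {G : Type*} [Group G]

/-- Right translation of functions on a group. -/
def rtr (u : G) : (G → k) →ₗ[k] (G → k) where
  toFun f := fun x => f (x * u)
  map_add' _ _ := rfl
  map_smul' _ _ := rfl

@[simp] theorem rtr_apply (u : G) (f : G → k) (x : G) : rtr u f x = f (x * u) := rfl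

theorem rtr_mul (u v : G) (f : G → k) : rtr (u * v) f = rtr u (rtr v f) := by
  funext x
  simp [mul_assoc]

theorem rtr_one (f : G → k) : rtr (1 : G) f = f := by
  funext x
  simp

/-- Any nonzero function generates, under the right translations of a `p`-group, an additive
subgroup containing a nonzero fixed element (characteristic `p`). -/
theorem exists_fixed_of_closure {p : ℕ} [Fact p.Prime] (hp0 : (p : k) = 0) [Finite G]
    (P : Subgroup G) (hP : IsPGroup p P) (w₀ : G → k) (hw₀ : w₀ ≠ 0) :
    ∃ w ∈ AddSubgroup.closure (Set.range fun u : P => rtr (u : G) w₀),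
      w ≠ 0 ∧ ∀ u ∈ P, rtr u w = w := by
  classical
  set S : Set (G → k) := Set.range fun u : P => rtr (u : G) w₀ with hS
  set A : AddSubgroup (G → k) := AddSubgroup.closure S with hA
  have hSfin : S.Finite := Set.finite_range _
  -- stability
  have hstab : ∀ u ∈ P, ∀ a ∈ A, rtr u a ∈ A := by
    intro u hu a ha
    refine AddSubgroup.closure_induction (p := fun a _ => rtr u a ∈ A) ?_ ?_ ?_ ?_ ha
    · rintro _ ⟨v, rfl⟩
      apply AddSubgroup.subset_closure
      refine ⟨⟨u * v, P.mul_mem hu v.2⟩, ?_⟩
      simp only
      rw [rtr_mul]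
    · simp
    · intro x y _ _ hx hy
      rw [map_add]
      exact A.add_mem hx hy
    · intro x _ hx
      rw [map_neg]
      exact A.neg_mem hx
  -- finiteness
  haveI : Finite S := hSfin.to_subtype
  haveI : AddGroup.FG A := AddGroup.closure_finite_fg S
  have htors : IsAddTorsion A := by
    intro a
    rw [isOfFinAddOrder_iff_nsmul_eq_zero]
    refine ⟨p, (Fact.out : p.Prime).pos, ?_⟩
    apply Subtype.ext
    funext x
    simp [hp0]
  haveI : Finite A := AddCommGroup.finite_of_fg_isAddTorsion A htors
  -- the action
  letI : MulAction P A :=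
    { smul := fun u a => ⟨rtr (u : G) (a : G → k), hstab u u.2 a a.2⟩
      one_smul := by
        intro a
        apply Subtype.ext
        exact rtr_one _
      mul_smul := by
        intro u v a
        apply Subtype.ext
        exact rtr_mul _ _ _ }
  have hsmul : ∀ (u : P) (a : A), ((u • a : A) : G → k) = rtr (u : G) (a : G → k) := fun _ _ => rfl
  have hw₀A : w₀ ∈ A := by
    apply AddSubgroup.subset_closure
    exact ⟨1, by simp [rtr_one]⟩
  -- p divides the cardinality
  have hcard : p ∣ Nat.card A := by
    have hnt : Nat.card A ≠ 1 := by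
      intro h1
      have hsub : Subsingleton A := (Nat.card_eq_one_iff_unique.1 h1).1
      have : (⟨w₀, hw₀A⟩ : A) = 0 := Subsingleton.elim _ _
      exact hw₀ (congrArg Subtype.val this)
    obtain ⟨q, hq, hqd⟩ := Nat.exists_prime_and_dvd hnt
    haveI : Fact q.Prime := ⟨hq⟩
    haveI : Fintype A := Fintype.ofFinite A
    rw [Nat.card_eq_fintype_card] at hqd
    obtain ⟨a, ha⟩ := exists_prime_addOrderOf_dvd_card q hqd
    have hpa : p • a = 0 := by
      apply Subtype.ext
      funext x
      simp [hp0]
    have : q ∣ p := by
      rw [← ha]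
      exact addOrderOf_dvd_of_nsmul_eq_zero hpa
    have hqp : q = p := (Nat.prime_dvd_prime_iff_eq hq (Fact.out : p.Prime)).1 this
    rw [Nat.card_eq_fintype_card, ← hqp]
    exact hqd
  have hfix0 : (0 : A) ∈ MulAction.fixedPoints P A := by
    intro u
    apply Subtype.ext
    rw [hsmul]
    simp
  obtain ⟨b, hb, hb0⟩ := hP.exists_fixed_point_of_prime_dvd_card_of_fixed_point A hcard hfix0
  refine ⟨(b : G → k), b.2, ?_, ?_⟩
  · intro h
    apply hb0
    apply Subtype.ext
    exact h.symm
  · intro u hu
    have := hb ⟨u, hu⟩
    have h2 := congrArg Subtype.val this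
    rw [hsmul] at h2
    exact h2

end

end Cfsg.Agent.Lib.Helper8.GT
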