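import Mathlib
import Cfsg.Agent.Lib.Helper8.GT1

/-!
# A nonzero central idempotent of a modular group algebra has a nonzero coset sum
-/

set_option autoImplicit false

namespace Cfsg.Agent.Lib.Helper8.GT

open scoped BigOperators

section

variable {k : Type*} [Field k] {G : Type*} [Group G] [Fintype G]

/-- A function invariant under right translation by `P` is the `P`-norm of another function. -/
theorem exists_norm_eq (P : Subgroup G) [Fintype P] (w : G → k)
    (hw : ∀ u ∈ P, ∀ x, w (x * u) = w x) :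
    ∃ f₀ : G → k, ∀ x, ∑ u : P, f₀ (x * (u : G)) = w x := by
  classical
  let rep : G → G := fun x => (QuotientGroup.mk x : G ⧸ P).out
  have hrep : ∀ x, ∃ h : P, rep x = x * (h : G) := fun x => QuotientGroup.mk_out_eq_mul P x
  have hrep_mul : ∀ x, ∀ u : P, rep (x * (u : G)) = rep x := by
    intro x u
    simp only [rep]
    congr 1
    exact QuotientGroup.mk_mul_of_mem x u.2
  refine ⟨fun x => if rep x = x then w x else 0, ?_⟩
  intro x
  obtain ⟨h, hh⟩ := hrep x
  have : ∀ u : P, (if rep (x * (u : G)) = x * (u : G) then w (x * (u : G)) else 0)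
      = if u = h then w x else 0 := by
    intro u
    rw [hrep_mul, hw u u.2, hh]
    by_cases huh : u = h
    · rw [if_pos huh, if_pos (by rw [huh])]
    · rw [if_neg huh, if_neg]
      intro heq
      apply huh
      have := mul_left_cancel heq
      exact (Subtype.ext this).symm
  simp only [this]
  rw [Finset.sum_ite_eq' Finset.univ h (fun _ => w x)]
  simp

/-- **Key lemma**: a nonzero central idempotent of the group algebra in characteristic `p` has a
nonzero sum over some left coset of any `p`-subgroup. -/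
theorem exists_coset_sum_ne_zero {p : ℕ} [Fact p.Prime] (hp0 : (p : k) = 0)
    (P : Subgroup G) [Fintype P] (hP : IsPGroup p P) (e : G → k)
    (he : ∀ x, ∑ y, e y * e (y⁻¹ * x) = e x)
    (hc : ∀ x y, e (y * x * y⁻¹) = e x) (hne : e ≠ 0) :
    ∃ h : G, ∑ u : P, e (h * (u : G)) ≠ 0 := by
  classical
  by_contra hall
  push_neg at hall
  obtain ⟨w, hwA, hw0, hwfix⟩ := exists_fixed_of_closure hp0 P hP e hne
  -- `w` is fixed by left convolution with `e`
  have hEw : ∀ x, ∑ y, e y * w (y⁻¹ * x) = w x := by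
    refine AddSubgroup.closure_induction
      (p := fun w _ => ∀ x, ∑ y, e y * w (y⁻¹ * x) = w x) ?_ ?_ ?_ ?_ hwA
    · rintro _ ⟨u, rfl⟩ x
      simp only [rtr_apply]
      have := he (x * (u : G))
      rw [← this]
      refine Finset.sum_congr rfl fun y _ => ?_
      rw [mul_assoc]
    · intro x
      simp
    · intro a b _ _ ha hb x
      simp only [Pi.add_apply, mul_add, Finset.sum_add_distrib, ha x, hb x]
    · intro a _ ha x
      simp only [Pi.neg_apply, mul_neg, Finset.sum_neg_distrib, ha x]
  have hwinv : ∀ u ∈ P, ∀ x, w (x * u) = w x := by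
    intro u hu x
    have := congrFun (hwfix u hu) x
    simpa using this
  obtain ⟨f₀, hf₀⟩ := exists_norm_eq P w hwinv
  apply hw0
  funext x
  rw [← hEw x]
  have h1 : ∀ y, e y * w (y⁻¹ * x) = ∑ u : P, e y * f₀ (y⁻¹ * x * (u : G)) := by
    intro y
    rw [← hf₀ (y⁻¹ * x), Finset.mul_sum]
  simp only [h1]
  rw [Finset.sum_comm]
  have h2 : ∀ u : P, ∑ y, e y * f₀ (y⁻¹ * x * (u : G))
      = ∑ z, e (z⁻¹ * x * (u : G)) * f₀ z := by
    intro u
    let σ : G ≃ G := (Equiv.inv G).trans (Equiv.mulLeft (x * (u : G)))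
    rw [← Equiv.sum_comp σ (fun y => e y * f₀ (y⁻¹ * x * (u : G)))]
    refine Finset.sum_congr rfl fun z _ => ?_
    have hσ : σ z = x * (u : G) * z⁻¹ := rfl
    rw [hσ]
    have e1 : (x * (u : G) * z⁻¹)⁻¹ * x * (u : G) = z := by group
    rw [e1]
    congr 1
    have := hc (x * (u : G) * z⁻¹) z⁻¹
    rw [← this]
    congr 1
    group
  simp only [h2]
  rw [Finset.sum_comm]
  have h3 : ∀ z, ∑ u : P, e (z⁻¹ * x * (u : G)) * f₀ z = 0 := by
    intro z
    rw [← Finset.sum_mul, hall (z⁻¹ * x), zero_mul]
  simp only [h3]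
  simp

end

end Cfsg.Agent.Lib.Helper8.GT
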