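import Mathlib
import Cfsg.Prelude.Def_Blocks
import Cfsg.Agent.Lib.Helper8.BlockLocal
import Cfsg.Agent.Lib.Helper8.GT2

/-!
# The residue field of the local ring, and coset sums of idempotents with local coefficients
-/

set_option autoImplicit false

namespace Cfsg.Agent.Lib.Helper8.GT

open Cfsg Cfsg.Agent.Lib.Helper8
open scoped BigOperators

variable {M : Ideal AlgInt}

theorem localIdeal_isMaximal (hM : M.IsPrime) : (localIdeal M hM).IsMaximal := by
  rw [Ideal.isMaximal_iff]
  refine ⟨fun h => localIdeal_ne_top hM ((Ideal.eq_top_iff_one _).2 h), ?_⟩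
  intro J x _ hx hxJ
  have hxR : MemLocalRing M (x : ℂ) := x.2
  have hx' : ¬ MemLocalIdeal M (x : ℂ) := hx
  have hinv : MemLocalRing M (x : ℂ)⁻¹ := memLocalRing_inv hxR hx'
  have hx0 : (x : ℂ) ≠ 0 := by
    intro h0
    apply hx'
    rw [h0]
    exact memLocalIdeal_zero hM.ne_top
  have h1 : (⟨(x : ℂ)⁻¹, hinv⟩ : localRing M hM) * x = 1 := by
    apply Subtype.ext
    show (x : ℂ)⁻¹ * (x : ℂ) = 1
    exact inv_mul_cancel₀ hx0
  rw [← h1]
  exact J.mul_mem_left _ hxJ

/-- The residue field. -/
abbrev ResField (M : Ideal AlgInt) (hM : M.IsPrime) : Type :=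
  localRing M hM ⧸ localIdeal M hM

noncomputable instance resFieldField (hM : M.IsPrime) : Field (ResField M hM) :=
  haveI := localIdeal_isMaximal hM
  Ideal.Quotient.field (localIdeal M hM)

/-- Reduction of a complex number modulo the local ideal (`0` outside the local ring). -/
noncomputable def red (hM : M.IsPrime) (z : ℂ) : ResField M hM := by
  classical
  exact if h : MemLocalRing M z then Ideal.Quotient.mk (localIdeal M hM) ⟨z, h⟩ else 0

theorem red_of_mem (hM : M.IsPrime) {z : ℂ} (h : MemLocalRing M z) :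
    red hM z = Ideal.Quotient.mk (localIdeal M hM) ⟨z, h⟩ := by
  unfold red
  rw [dif_pos h]

theorem red_eq_zero_iff (hM : M.IsPrime) {z : ℂ} (h : MemLocalRing M z) :
    red hM z = 0 ↔ MemLocalIdeal M z := by
  rw [red_of_mem hM h, Ideal.Quotient.eq_zero_iff_mem]
  rfl

theorem red_add (hM : M.IsPrime) {z w : ℂ} (hz : MemLocalRing M z) (hw : MemLocalRing M w) :
    red hM (z + w) = red hM z + red hM w := by
  rw [red_of_mem hM hz, red_of_mem hM hw, red_of_mem hM (memLocalRing_add hM hz hw), ← map_add]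
  rfl

theorem red_mul (hM : M.IsPrime) {z w : ℂ} (hz : MemLocalRing M z) (hw : MemLocalRing M w) :
    red hM (z * w) = red hM z * red hM w := by
  rw [red_of_mem hM hz, red_of_mem hM hw, red_of_mem hM (memLocalRing_mul hM hz hw), ← map_mul]
  rfl

theorem red_zero (hM : M.IsPrime) : red hM (0 : ℂ) = 0 := by
  rw [red_eq_zero_iff hM (memLocalRing_zero hM.ne_top)]
  exact memLocalIdeal_zero hM.ne_top

theorem red_sum (hM : M.IsPrime) {ι : Type*} (s : Finset ι) (f : ι → ℂ)
    (hf : ∀ i ∈ s, MemLocalRing M (f i)) :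
    red hM (∑ i ∈ s, f i) = ∑ i ∈ s, red hM (f i) := by
  classical
  induction s using Finset.induction_on with
  | empty => simp [red_zero]
  | insert a s ha ih =>
    rw [Finset.sum_insert ha, Finset.sum_insert ha,
      red_add hM (hf a (Finset.mem_insert_self a s))
        (memLocalRing_sum hM s f (fun i hi => hf i (Finset.mem_insert_of_mem hi))),
      ih (fun i hi => hf i (Finset.mem_insert_of_mem hi))]

theorem red_natCast_prime {p : ℕ} (hM : IsPModular p M) :
    ((p : ℕ) : ResField M (isPModular_isPrime hM)) = 0 := by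
  have hMp := isPModular_isPrime hM
  have h1 : MemLocalRing M ((p : ℕ) : ℂ) := memLocalRing_natCast hMp.ne_top p
  have h2 : red hMp ((p : ℕ) : ℂ) = 0 := (red_eq_zero_iff hMp h1).2 (memLocalIdeal_prime hM)
  rw [red_of_mem hMp h1] at h2
  rw [← h2]
  have : (⟨((p : ℕ) : ℂ), h1⟩ : localRing M hMp) = ((p : ℕ) : localRing M hMp) := by
    apply Subtype.ext
    simp
  rw [this, map_natCast]

section

variable {G : Type*} [Group G] [Fintype G] {p : ℕ} [Fact p.Prime]

/-- A central idempotent with local coefficients, not all in the local ideal, has a coset sum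
outside the local ideal, for every `p`-subgroup. -/
theorem exists_coset_sum_not_memLocalIdeal (hM : IsPModular p M) (P : Subgroup G) [Fintype P]
    (hP : IsPGroup p P) (a : G → ℂ) (haR : ∀ x, MemLocalRing M (a x))
    (hidem : ∀ x, ∑ y, a y * a (y⁻¹ * x) = a x)
    (hc : ∀ x y, a (y * x * y⁻¹) = a x) (hne : ∃ x, ¬ MemLocalIdeal M (a x)) :
    ∃ h : G, ¬ MemLocalIdeal M (∑ u : P, a (h * (u : G))) := by
  have hMp := isPModular_isPrime hM
  let e : G → ResField M hMp := fun x => red hMp (a x)
  have he : ∀ x, ∑ y, e y * e (y⁻¹ * x) = e x := by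
    intro x
    simp only [e]
    rw [← hidem x, red_sum hMp _ _ (fun y _ => memLocalRing_mul hMp (haR y) (haR _))]
    refine Finset.sum_congr rfl fun y _ => ?_
    rw [red_mul hMp (haR y) (haR _)]
  have hce : ∀ x y, e (y * x * y⁻¹) = e x := by
    intro x y
    simp only [e]
    rw [hc]
  have hne' : e ≠ 0 := by
    obtain ⟨x, hx⟩ := hne
    intro h0
    apply hx
    have := congrFun h0 x
    exact (red_eq_zero_iff hMp (haR x)).1 this
  obtain ⟨h, hh⟩ := exists_coset_sum_ne_zero (red_natCast_prime hM) P hP e he hce hne'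
  refine ⟨h, ?_⟩
  intro hmem
  apply hh
  simp only [e]
  rw [← red_sum hMp _ _ (fun u _ => haR _)]
  exact (red_eq_zero_iff hMp (memLocalRing_sum hMp _ _ (fun u _ => haR _))).2 hmem

end

end Cfsg.Agent.Lib.Helper8.GT
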