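import Mathlib
import Cfsg.Prelude.Def_Blocks
import Cfsg.Agent.Lib.Helper1.ConjCount
import Cfsg.Agent.Lib.Helper8.BlockExactIdem
import Cfsg.Agent.Lib.Helper8.BlockOrth2
import Cfsg.Agent.Lib.Helper8.GT3

/-!
# Green's theorem for a normal defect group
-/

set_option autoImplicit false

namespace Cfsg.Agent.Lib.Helper8.GT

open Cfsg Cfsg.Agent.Lib.Helper8 Cfsg.Agent.Lib.Helper1
open scoped BigOperators

universe u

section

variable {G : Type u} [Group G] [Fintype G] {M : Ideal AlgInt} {p : ℕ} [Fact p.Prime]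

omit [Fintype G] in
/-- Conjugate elements have centralizers of the same order. -/
theorem card_centralizer_eq_of_isConj [Finite G] {s t : G} (h : IsConj s t) :
    Nat.card (Subgroup.centralizer ({s} : Set G)) = Nat.card (Subgroup.centralizer ({t} : Set G)) := by
  have h1 := card_isConj_mul_card_centralizer s
  have h2 := card_isConj_mul_card_centralizer t
  have e : Nat.card {v : G // IsConj s v} = Nat.card {v : G // IsConj t v} := by
    apply Nat.card_congr
    refine Equiv.subtypeEquivRight fun v => ?_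
    exact ⟨fun hv => h.symm.trans hv, fun hv => h.trans hv⟩
  have hpos : 0 < Nat.card {v : G // IsConj t v} := by
    haveI : Nonempty {v : G // IsConj t v} := ⟨⟨t, IsConj.refl t⟩⟩
    exact Nat.card_pos
  rw [e] at h1
  exact Nat.eq_of_mul_eq_mul_left hpos (h1.trans h2.symm)

/-- The `p`-subgroups of the centralizer of an element where the block idempotent has a unit
coefficient have order dividing the order of a defect group. -/
theorem card_dvd_card_defectGroup (hM : IsPModular p M) {B : Set (IrrCharacter G)}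
    (hB : IsPBlock M B) {D : Subgroup G} (hD : IsDefectGroup p M B D) {x : G}
    (hx : ¬ MemLocalIdeal M (blockCoeff B x)) (Q : Subgroup G) (hQ : IsPGroup p Q)
    (hQx : Q ≤ Subgroup.centralizer ({x} : Set G)) : Nat.card Q ∣ Nat.card D := by
  obtain ⟨g₀, hg₀, S₀, hS₀⟩ := hD
  obtain ⟨χ₀, hχ₀⟩ : ∃ χ₀ : IrrCharacter G, χ₀ ∈ B := by
    obtain ⟨χ, rfl⟩ := hB
    exact ⟨χ, sameBlock_refl (isPModular_ne_top hM) _⟩
  obtain ⟨y, hy, hQy⟩ := exists_isConj_le_centralizer hM hB (z := g₀) (w := x)
    ⟨χ₀, hχ₀, hg₀.2.2 χ₀ hχ₀⟩ hx Q hQ hQx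
  have hcardD : Nat.card D = p ^ (Nat.card (Subgroup.centralizer ({g₀} : Set G))).factorization p := by
    rw [hS₀, Subgroup.card_map_of_injective (Subgroup.subtype_injective _)]
    exact S₀.card_eq_multiplicity
  obtain ⟨j, hj⟩ := IsPGroup.iff_card.1 hQ
  have hdvd : Nat.card Q ∣ Nat.card (Subgroup.centralizer ({g₀} : Set G)) := by
    rw [card_centralizer_eq_of_isConj hy]
    exact Subgroup.card_dvd_of_le hQy
  rw [hcardD, hj]
  rw [hj] at hdvd
  apply pow_dvd_pow
  have hpos : Nat.card (Subgroup.centralizer ({g₀} : Set G)) ≠ 0 := Nat.card_pos.ne'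
  exact (Nat.Prime.pow_dvd_iff_le_factorization (Fact.out : p.Prime) hpos).1 hdvd

/-- Conjugating a subgroup by `h * u` with `u` in the subgroup is conjugating by `h`. -/
theorem map_conj_mul_of_mem (P : Subgroup G) (h : G) {u : G} (hu : u ∈ P) :
    P.map (MulAut.conj (h * u)).toMonoidHom = P.map (MulAut.conj h).toMonoidHom := by
  ext z
  simp only [Subgroup.mem_map, MulEquiv.coe_toMonoidHom, MulAut.conj_apply]
  constructor
  · rintro ⟨v, hv, rfl⟩
    refine ⟨u * v * u⁻¹, P.mul_mem (P.mul_mem hu hv) (P.inv_mem hu), ?_⟩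
    group
  · rintro ⟨v, hv, rfl⟩
    refine ⟨u⁻¹ * v * u, P.mul_mem (P.mul_mem (P.inv_mem hu) hv) hu, ?_⟩
    group

/-- **Green's theorem for a normal defect group.** -/
theorem green_normal (hM : IsPModular p M) {B : Set (IrrCharacter G)} (hB : IsPBlock M B)
    (D : Subgroup G) [hDn : D.Normal] (hD : IsDefectGroup p M B D) (P : Subgroup G)
    (hP : IsPGroup p P) (hDP : D ≤ P) :
    ∃ x : G, ¬ p ∣ orderOf x ∧ D ≤ Subgroup.centralizer ({x} : Set G) ∧
      (∀ Q : Subgroup G, IsPGroup p Q → Q ≤ Subgroup.centralizer ({x} : Set G) →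
        Nat.card Q ∣ Nat.card D) ∧
      P ⊓ P.map (MulAut.conj x).toMonoidHom = D := by
  classical
  have hMp := isPModular_isPrime hM
  set a : G → ℂ := blockCoeff B with ha
  have haR : ∀ x, MemLocalRing M (a x) := fun x => blockCoeff_memLocalRing hMp hB x
  have hidem : ∀ x, ∑ y, a y * a (y⁻¹ * x) = a x := by
    intro x
    have := congrFun (conv_blockCoeff_blockCoeff B B) x
    rw [Set.inter_self, conv_apply] at this
    exact this
  have hc : ∀ x y, a (y * x * y⁻¹) = a x := fun x y => isClassFunction_blockCoeff B x y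
  have hne : ∃ x, ¬ MemLocalIdeal M (a x) := by
    obtain ⟨g₀, hg₀, _⟩ := hD
    exact ⟨g₀, hg₀.2.1⟩
  obtain ⟨h, hh⟩ := exists_coset_sum_not_memLocalIdeal hM P hP a haR hidem hc hne
  -- the intersection
  set Q : Subgroup G := P ⊓ P.map (MulAut.conj h).toMonoidHom with hQdef
  have hQP : IsPGroup p Q := hP.to_le inf_le_left
  have hDQ : D ≤ Q := by
    refine le_inf hDP ?_
    intro d hd
    refine ⟨h⁻¹ * d * h, hDP ?_, ?_⟩
    · have := hDn.conj_mem d hd h⁻¹
      simpa using this
    · simp only [MulEquiv.coe_toMonoidHom, MulAut.conj_apply]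
      group
  -- the function supported on the coset
  let f : G → ℂ := fun x => if h⁻¹ * x ∈ P then a x else 0
  have hfsum : ∑ x, f x = ∑ u : P, a (h * (u : G)) := by
    simp only [f]
    rw [← Finset.sum_filter]
    symm
    refine Finset.sum_bij (fun (u : P) _ => h * (u : G)) ?_ ?_ ?_ ?_
    · intro u _
      simp only [Finset.mem_filter, Finset.mem_univ, true_and]
      have : h⁻¹ * (h * (u : G)) = u := by group
      rw [this]
      exact u.2
    · intro u _ v _ huv
      exact Subtype.ext (mul_left_cancel huv)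
    · intro x hx
      simp only [Finset.mem_filter, Finset.mem_univ, true_and] at hx
      exact ⟨⟨h⁻¹ * x, hx⟩, Finset.mem_univ _, by simp⟩
    · intro u _
      rfl
  have hfinv : ∀ w ∈ Q, ∀ x : G, f (w * x * w⁻¹) = f x := by
    intro w hw x
    have hwP : w ∈ P := hw.1
    obtain ⟨v, hv, hvw⟩ := hw.2
    simp only [MulEquiv.coe_toMonoidHom, MulAut.conj_apply] at hvw
    have key : h⁻¹ * (w * x * w⁻¹) = v * (h⁻¹ * x) * w⁻¹ := by
      rw [← hvw]
      group
    have hiff : h⁻¹ * (w * x * w⁻¹) ∈ P ↔ h⁻¹ * x ∈ P := by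
      rw [key]
      constructor
      · intro hmem
        have h1 : v⁻¹ * (v * (h⁻¹ * x) * w⁻¹) * w ∈ P :=
          P.mul_mem (P.mul_mem (P.inv_mem hv) hmem) hwP
        have h2 : v⁻¹ * (v * (h⁻¹ * x) * w⁻¹) * w = h⁻¹ * x := by group
        rwa [h2] at h1
      · intro hmem
        exact P.mul_mem (P.mul_mem hv hmem) (P.inv_mem hwP)
    simp only [f]
    by_cases hx : h⁻¹ * x ∈ P
    · rw [if_pos hx, if_pos (hiff.2 hx), hc]
    · rw [if_neg hx, if_neg (fun h' => hx (hiff.1 h'))]
  have hfS : ∀ x, MemLocalRing M (f x) := by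
    intro x
    simp only [f]
    split_ifs
    · exact haR x
    · exact memLocalRing_zero hMp.ne_top
  have key := memLocalIdeal_sum_sub_sum_centralizer hM Q hQP f hfinv hfS
  rw [hfsum] at key
  have hne2 : ¬ MemLocalIdeal M (∑ x ∈ Finset.univ.filter
      (fun x : G => x ∈ Subgroup.centralizer (Q : Set G)), f x) := by
    intro hmem
    apply hh
    have := memLocalIdeal_add hMp key hmem
    simpa using this
  obtain ⟨x, hxmem, hfx⟩ : ∃ x ∈ Finset.univ.filter
      (fun x : G => x ∈ Subgroup.centralizer (Q : Set G)), ¬ MemLocalIdeal M (f x) := by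
    by_contra hcon
    push_neg at hcon
    exact hne2 (memLocalIdeal_sum hMp _ _ hcon)
  have hxC : x ∈ Subgroup.centralizer (Q : Set G) := (Finset.mem_filter.1 hxmem).2
  have hxcoset : h⁻¹ * x ∈ P := by
    by_contra hcon
    apply hfx
    simp only [f]
    rw [if_neg hcon]
    exact memLocalIdeal_zero hMp.ne_top
  have hax : ¬ MemLocalIdeal M (a x) := by
    intro hmem
    apply hfx
    simp only [f]
    rw [if_pos hxcoset]
    exact hmem
  have hQx : Q ≤ Subgroup.centralizer ({x} : Set G) := by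
    intro w hw
    rw [Subgroup.mem_centralizer_iff]
    intro z hz
    rw [Set.mem_singleton_iff] at hz
    subst hz
    exact (Subgroup.mem_centralizer_iff.1 hxC w hw).symm
  have hdiv : ∀ Q' : Subgroup G, IsPGroup p Q' → Q' ≤ Subgroup.centralizer ({x} : Set G) →
      Nat.card Q' ∣ Nat.card D := fun Q' hQ' hQ'x =>
    card_dvd_card_defectGroup hM hB hD hax Q' hQ' hQ'x
  have hQD : Q = D := by
    symm
    apply Subgroup.eq_of_le_of_card_ge hDQ
    exact Nat.le_of_dvd Nat.card_pos (hdiv Q hQP hQx)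
  refine ⟨x, ?_, ?_, hdiv, ?_⟩
  · intro hpx
    apply hax
    rw [ha, blockCoeff_eq_zero_of_dvd_orderOf hM hB hpx]
    exact memLocalIdeal_zero hMp.ne_top
  · rw [← hQD]
    exact hQx
  · have hx_eq : x = h * (h⁻¹ * x) := by group
    rw [hx_eq, map_conj_mul_of_mem P h hxcoset]
    exact hQD

end

end Cfsg.Agent.Lib.Helper8.GT
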