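import Mathlib
import Cfsg.Prelude.Def_Blocks
import Cfsg.Agent.Lib.Helper8.BlockFirstMain3
import Cfsg.Agent.Lib.Helper8.BlockPairs6
import Cfsg.Agent.Lib.Helper8.GT4

/-!
# Green's theorem: defect groups are Sylow intersections
-/

set_option autoImplicit false

namespace Cfsg.Agent.Lib.Helper8.GT

open Cfsg Cfsg.Agent.Lib.Helper8
open scoped BigOperators

universe u

section

variable {G : Type u} [Group G] [Finite G] {M : Ideal AlgInt} {p : ℕ} [Fact p.Prime]

/-- **Green's theorem.** -/
theorem green (hM : IsPModular p M) {B : Set (IrrCharacter G)} (hB : IsPBlock M B)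
    (D : Subgroup G) (hD : IsDefectGroup p M B D) (P : Subgroup G) (hP : IsPGroup p P)
    (hDP : D ≤ P) :
    ∃ x : G, ¬ p ∣ orderOf x ∧ D ≤ Subgroup.centralizer ({x} : Set G) ∧
      (∀ Q : Subgroup G, IsPGroup p Q → Q ≤ Subgroup.centralizer ({x} : Set G) → D ≤ Q → Q = D) ∧
      P ⊓ P.map (MulAut.conj x).toMonoidHom = D := by
  classical
  have hDp : IsPGroup p D := hP.to_le hDP
  obtain ⟨b, hb, hbD, -⟩ := firstMain_exists hM D hDp hB hD
  set N : Subgroup G := Subgroup.normalizer (D : Set G) with hN
  have hDN : D ≤ N := Subgroup.le_normalizer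
  haveI : Fintype N := Fintype.ofFinite _
  have hP₁ : IsPGroup p (P.subgroupOf N) := hP.comap_subtype
  have hDP₁ : D.subgroupOf N ≤ P.subgroupOf N := Subgroup.comap_mono hDP
  obtain ⟨x, hxreg, hxD, hxdiv, hxint⟩ :=
    green_normal (G := N) hM hb (D.subgroupOf N) hbD (P.subgroupOf N) hP₁ hDP₁
  have hcardD : Nat.card (D.subgroupOf N) = Nat.card D :=
    Nat.card_congr (Subgroup.subgroupOfEquivOfLe hDN).toEquiv
  have hcomm : ∀ d ∈ D, d * (x : G) = (x : G) * d := by
    intro d hd
    have hmem : (⟨d, hDN hd⟩ : N) ∈ D.subgroupOf N := by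
      rw [Subgroup.mem_subgroupOf]
      exact hd
    have := Subgroup.mem_centralizer_iff.1 (hxD hmem) x (Set.mem_singleton x)
    have h2 := congrArg Subtype.val this
    simpa using h2.symm
  have hDx : D ≤ Subgroup.centralizer ({(x : G)} : Set G) := by
    intro d hd
    rw [Subgroup.mem_centralizer_iff]
    intro z hz
    rw [Set.mem_singleton_iff] at hz
    subst hz
    exact (hcomm d hd).symm
  refine ⟨(x : G), ?_, hDx, ?_, ?_⟩
  · rw [Subgroup.orderOf_coe]
    exact hxreg
  · -- maximality among `p`-subgroups of the centralizer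
    intro Q hQ hQx hDQ
    by_contra hne
    have hlt : D < Q := lt_of_le_of_ne hDQ (fun h => hne h.symm)
    obtain ⟨n, hnQ, hnD, hnN⟩ := exists_normalizer_grow hlt hQ
    set K : Subgroup G := Q ⊓ N with hK
    have hKN : K ≤ N := inf_le_right
    have hKp : IsPGroup p K := hQ.to_le inf_le_left
    have hDK : D ≤ K := le_inf hDQ hDN
    have hnK : n ∈ K := ⟨hnQ, hnN⟩
    have hDltK : D < K := lt_of_le_of_ne hDK (fun h => hnD (h ▸ hnK))
    have hK'p : IsPGroup p (K.subgroupOf N) := hKp.comap_subtype
    have hK'x : K.subgroupOf N ≤ Subgroup.centralizer ({x} : Set N) := by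
      intro k hk
      rw [Subgroup.mem_subgroupOf] at hk
      rw [Subgroup.mem_centralizer_iff]
      intro z hz
      rw [Set.mem_singleton_iff] at hz
      subst hz
      apply Subtype.ext
      have := Subgroup.mem_centralizer_iff.1 (hQx hk.1) (z : G) (Set.mem_singleton _)
      simpa using this
    have hdvd := hxdiv (K.subgroupOf N) hK'p hK'x
    have hcardK : Nat.card (K.subgroupOf N) = Nat.card K :=
      Nat.card_congr (Subgroup.subgroupOfEquivOfLe hKN).toEquiv
    rw [hcardK, hcardD] at hdvd
    have h1 := subgroup_card_lt_of_lt hDltK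
    have h2 := Nat.le_of_dvd Nat.card_pos hdvd
    omega
  · -- the Sylow intersection
    set I : Subgroup G := P ⊓ P.map (MulAut.conj (x : G)).toMonoidHom with hI
    have hDI : D ≤ I := by
      refine le_inf hDP ?_
      intro d hd
      refine ⟨d, hDP hd, ?_⟩
      simp only [MulEquiv.coe_toMonoidHom, MulAut.conj_apply]
      rw [← hcomm d hd]
      group
    by_contra hne
    have hlt : D < I := lt_of_le_of_ne hDI (fun h => hne h.symm)
    have hIp : IsPGroup p I := hP.to_le inf_le_left
    obtain ⟨n, hnI, hnD, hnN⟩ := exists_normalizer_grow hlt hIp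
    have hnP : n ∈ P := hnI.1
    obtain ⟨v, hvP, hvn⟩ := hnI.2
    simp only [MulEquiv.coe_toMonoidHom, MulAut.conj_apply] at hvn
    have hvN : v ∈ N := by
      have : v = (x : G)⁻¹ * n * (x : G) := by
        rw [← hvn]
        group
      rw [this]
      exact N.mul_mem (N.mul_mem (N.inv_mem x.2) hnN) x.2
    have hmem : (⟨n, hnN⟩ : N) ∈ P.subgroupOf N ⊓
        (P.subgroupOf N).map (MulAut.conj x).toMonoidHom := by
      refine Subgroup.mem_inf.2 ⟨?_, ?_⟩
      · rw [Subgroup.mem_subgroupOf]
        exact hnP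
      · refine Subgroup.mem_map.2 ⟨⟨v, hvN⟩, ?_, ?_⟩
        · rw [Subgroup.mem_subgroupOf]
          exact hvP
        · apply Subtype.ext
          simp only [MulEquiv.coe_toMonoidHom, MulAut.conj_apply]
          exact hvn
    rw [hxint, Subgroup.mem_subgroupOf] at hmem
    exact hnD hmem

end

end Cfsg.Agent.Lib.Helper8.GT
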