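import Mathlib
import Cfsg.Agent.Lib.Helper8.GZ1

set_option autoImplicit false

namespace Cfsg.Agent.Lib.Helper8.GZ

universe u

open Cfsg.Agent.Lib.Helper1 in
/-- In a group with abelian Sylow 2-subgroup `S` and trivial odd core, the elements of `S` fixed by
`N(S)` are central. -/
theorem fixed_mem_center : ∀ (k : ℕ) {H : Type u} [Group H] [Finite H]
    (_hO : ∀ K : Subgroup H, K.Normal → Odd (Nat.card K) → K = ⊥)
    (S : Sylow 2 H) (_hab : ∀ a ∈ S, ∀ b ∈ S, a * b = b * a)
    (x : H) (_hxS : x ∈ S)
    (_hfix : ∀ n ∈ Subgroup.normalizer ((S : Subgroup H) : Set H), n * x * n⁻¹ = x)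
    (_hk : x ^ (2 ^ k) = 1), x ∈ Subgroup.center H := by
  intro k
  induction k with
  | zero =>
    intro H _ _ hO S hab x hxS hfix hk
    simp at hk
    rw [hk]; exact Subgroup.one_mem _
  | succ k ih =>
    intro H _ _ hO S hab x hxS hfix hk
    set y := x ^ (2 ^ k) with hy
    have hy2 : y ^ 2 = 1 := by
      rw [hy, ← pow_mul, ← pow_succ]; exact hk
    by_cases hy1 : y = 1
    · exact ih hO S hab x hxS hfix hy1
    have hyord : orderOf y = 2 := orderOf_eq_prime hy2 hy1
    have hyS : y ∈ S := Subgroup.pow_mem _ hxS _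
    have hyfix : ∀ n ∈ Subgroup.normalizer ((S : Subgroup H) : Set H), n * y * n⁻¹ = y := by
      intro n hn
      rw [hy, ← conj_pow, hfix n hn]
    have hyc : y ∈ Subgroup.center H := by
      apply mem_center_of_isolated hO S y hyord hyS
      intro g hg
      obtain ⟨n, hn, hny⟩ := burnside_fusion S hab hyS hg rfl
      rw [← hny]; exact hyfix n hn
    have hycomm : ∀ g : H, g * y = y * g := Subgroup.mem_center_iff.mp hyc
    set Z := Subgroup.zpowers y with hZ
    haveI hZn : Z.Normal := by
      constructor
      intro n hn g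
      have hZle : Z ≤ Subgroup.center H := by
        rw [hZ, Subgroup.zpowers_le]; exact hyc
      have h1 := Subgroup.mem_center_iff.mp (hZle hn)
      have : g * n * g⁻¹ = n := by rw [h1 g]; group
      rw [this]; exact hn
    have hZS : Z ≤ (S : Subgroup H) := by
      rw [hZ, Subgroup.zpowers_le]; exact hyS
    set π := QuotientGroup.mk' Z with hπ
    have hπs : Function.Surjective π := QuotientGroup.mk'_surjective Z
    set S' : Sylow 2 (H ⧸ Z) := S.mapSurjective hπs with hS'
    have hS'coe : (S' : Subgroup (H ⧸ Z)) = (S : Subgroup H).map π := Sylow.coe_mapSurjective hπs S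
    have hmemS : ∀ h : H, π h ∈ (S' : Subgroup (H ⧸ Z)) → h ∈ S := by
      intro h hh
      rw [hS'coe] at hh
      obtain ⟨s, hs, hsh⟩ := hh
      have h1 : s⁻¹ * h ∈ Z := by
        rw [← QuotientGroup.eq]
        exact hsh
      have h2 : h = s * (s⁻¹ * h) := by group
      rw [h2]
      exact Subgroup.mul_mem _ hs (hZS h1)
    have hO' : ∀ K : Subgroup (H ⧸ Z), K.Normal → Odd (Nat.card K) → K = ⊥ :=
      fun K hK hodd => oddCore_quotient hO y hyc hy2 K hK hodd
    have hab' : ∀ a ∈ S', ∀ b ∈ S', a * b = b * a := by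
      intro a ha b hb
      have ha' : a ∈ (S' : Subgroup (H ⧸ Z)) := ha
      have hb' : b ∈ (S' : Subgroup (H ⧸ Z)) := hb
      rw [hS'coe] at ha' hb'
      obtain ⟨s, hs, rfl⟩ := ha'
      obtain ⟨t, ht, rfl⟩ := hb'
      rw [← map_mul, ← map_mul, hab s hs t ht]
    have hxS' : π x ∈ S' := by
      have : π x ∈ (S' : Subgroup (H ⧸ Z)) := by
        rw [hS'coe]; exact Subgroup.mem_map_of_mem _ hxS
      exact this
    have hnorm : ∀ n : H, π n ∈ Subgroup.normalizer ((S' : Subgroup (H ⧸ Z)) : Set (H ⧸ Z)) →
        n ∈ Subgroup.normalizer ((S : Subgroup H) : Set H) := by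
      intro n hn
      rw [Subgroup.mem_normalizer_iff] at hn ⊢
      intro h
      constructor
      · intro hh
        apply hmemS
        have h1 : π h ∈ (S' : Subgroup (H ⧸ Z)) := by
          rw [hS'coe]; exact Subgroup.mem_map_of_mem _ hh
        have h2 := (hn (π h)).mp h1
        rw [map_mul, map_mul, map_inv]; exact h2
      · intro hh
        apply hmemS
        have h1 : π (n * h * n⁻¹) ∈ (S' : Subgroup (H ⧸ Z)) := by
          rw [hS'coe]; exact Subgroup.mem_map_of_mem _ hh
        rw [map_mul, map_mul, map_inv] at h1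
        exact (hn (π h)).mpr h1
    have hfix' : ∀ n ∈ Subgroup.normalizer ((S' : Subgroup (H ⧸ Z)) : Set (H ⧸ Z)),
        n * π x * n⁻¹ = π x := by
      intro n hn
      obtain ⟨n0, rfl⟩ := hπs n
      have := hfix n0 (hnorm n0 hn)
      rw [← map_inv, ← map_mul, ← map_mul, this]
    have hk' : (π x) ^ (2 ^ k) = 1 := by
      rw [← map_pow, ← hy, hπ, QuotientGroup.mk'_apply, QuotientGroup.eq_one_iff, hZ]
      exact Subgroup.mem_zpowers y
    have hcen := ih hO' S' hab' (π x) hxS' hfix' hk'
    -- commutators of x lie in Z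
    have hcomm : ∀ h : H, x * h * x⁻¹ * h⁻¹ = 1 ∨ x * h * x⁻¹ * h⁻¹ = y := by
      intro h
      apply mem_zpowers_of_sq hy2
      have h1 := Subgroup.mem_center_iff.mp hcen (π h)
      have h2 : π (x * h * x⁻¹ * h⁻¹) = 1 := by
        rw [map_mul, map_mul, map_mul, map_inv, map_inv, ← h1]; group
      rw [hπ, QuotientGroup.mk'_apply, QuotientGroup.eq_one_iff] at h2
      exact h2
    -- centralizer of x
    set C := Subgroup.centralizer ({x} : Set H) with hC
    have hSC : (S : Subgroup H) ≤ C := by
      intro s hs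
      rw [hC, Subgroup.mem_centralizer_singleton_iff]
      exact hab s hs x hxS
    have hmemC : ∀ h : H, h ∈ C ↔ x * h * x⁻¹ * h⁻¹ = 1 := by
      intro h
      rw [hC, Subgroup.mem_centralizer_singleton_iff]
      constructor
      · intro hh
        have : x * h = h * x := hh.symm
        rw [this]; group
      · intro hh
        have : x * h = h * x := by
          have h1 : x * h * x⁻¹ * h⁻¹ * (h * x) = h * x := by rw [hh, one_mul]
          rw [← h1]; group
        exact this.symm
    have hCtop : C = ⊤ := by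
      by_contra hne
      obtain ⟨h0, -, hh0⟩ := SetLike.exists_of_lt (lt_top_iff_ne_top.mpr hne)
      have hidx : C.index = 2 := by
        rw [Subgroup.index_eq_two_iff]
        refine ⟨h0, fun b => ?_⟩
        by_cases hb : b ∈ C
        · refine Or.inr ⟨hb, fun hbh => hh0 ?_⟩
          have : h0 = b⁻¹ * (b * h0) := by group
          rw [this]; exact Subgroup.mul_mem _ (Subgroup.inv_mem _ hb) hbh
        · refine Or.inl ⟨?_, hb⟩
          have h1 : x * b * x⁻¹ * b⁻¹ = y := by
            rcases hcomm b with h | h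
            · exact absurd ((hmemC b).mpr h) hb
            · exact h
          have h2 : x * h0 * x⁻¹ * h0⁻¹ = y := by
            rcases hcomm h0 with h | h
            · exact absurd ((hmemC h0).mpr h) hh0
            · exact h
          rw [hmemC]
          have e1 : x * b * x⁻¹ = y * b := by rw [← h1]; group
          have e2 : x * h0 * x⁻¹ = y * h0 := by rw [← h2]; group
          have e3 : x * (b * h0) * x⁻¹ = (x * b * x⁻¹) * (x * h0 * x⁻¹) := by group
          rw [e3, e1, e2]
          have e4 : y * b * (y * h0) = y ^ 2 * (b * h0) := by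
            rw [pow_two, mul_assoc y b, ← mul_assoc b y, hycomm b]; group
          rw [e4, hy2]; group
      have h2 : C.index ∣ (S : Subgroup H).index := Subgroup.index_dvd_of_le hSC
      rw [hidx] at h2
      exact S.not_dvd_index h2
    rw [Subgroup.mem_center_iff]
    intro g
    have hg : g ∈ C := by rw [hCtop]; trivial
    rw [hC, Subgroup.mem_centralizer_singleton_iff] at hg
    exact hg

end Cfsg.Agent.Lib.Helper8.GZ
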