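import Mathlib
import Cfsg.Agent.Lib.Helper8.GZ2
import Cfsg.Agent.Lib.Helper6.PPrimeCore

set_option autoImplicit false

namespace Cfsg.Agent.Lib.Helper8.GZ

universe u

/-- Averaging over a finite group `Q` acting on an abelian subgroup `S` by conjugation. -/
theorem exists_avg {H : Type*} [Group H] (S Q : Subgroup H) [Finite Q]
    (hab : ∀ a ∈ S, ∀ b ∈ S, a * b = b * a)
    (hQ : ∀ q ∈ Q, ∀ s ∈ S, q * s * q⁻¹ ∈ S)
    {W : Type*} [Group W] (ρ : H →* W) (hρ : ∀ q ∈ Q, ∀ s ∈ S, ρ (q * s * q⁻¹) = ρ s)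
    (v : H) (hv : v ∈ S) :
    ∃ t ∈ S, (∀ q ∈ Q, q * t * q⁻¹ = t) ∧ ρ t = ρ v ^ Nat.card Q := by
  classical
  letI : CommGroup ↥S :=
    { (inferInstance : Group ↥S) with
      mul_comm := fun a b => Subtype.ext (hab a.1 a.2 b.1 b.2) }
  haveI : Fintype ↥Q := Fintype.ofFinite _
  let f : ↥Q → ↥S := fun q => ⟨q.1 * v * q.1⁻¹, hQ q.1 q.2 v hv⟩
  let t : ↥S := ∏ q : ↥Q, f q
  refine ⟨t.1, t.2, ?_, ?_⟩
  · intro q₀ hq₀
    let c : ↥S →* ↥S :=
      { toFun := fun s => ⟨q₀ * s.1 * q₀⁻¹, hQ q₀ hq₀ s.1 s.2⟩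
        map_one' := by ext; simp
        map_mul' := by intro a b; ext; simp }
    have h1 : c t = t := by
      show c (∏ q : ↥Q, f q) = ∏ q : ↥Q, f q
      rw [map_prod]
      have h2 : ∀ q : ↥Q, c (f q) = f (⟨q₀, hq₀⟩ * q) := by
        intro q
        ext
        show q₀ * (q.1 * v * q.1⁻¹) * q₀⁻¹ = (q₀ * q.1) * v * (q₀ * q.1)⁻¹
        group
      simp_rw [h2]
      exact Fintype.prod_equiv (Equiv.mulLeft (⟨q₀, hq₀⟩ : ↥Q)) _ _ (fun _ => rfl)
    have h3 := congrArg Subtype.val h1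
    exact h3
  · let ρ' : ↥S →* W := ρ.comp S.subtype
    have h1 : ∀ F : Finset ↥Q, ρ' (∏ q ∈ F, f q) = ρ v ^ F.card := by
      intro F
      induction F using Finset.induction_on with
      | empty => simp
      | insert a F ha ih =>
        rw [Finset.prod_insert ha, map_mul, ih, Finset.card_insert_of_notMem ha, pow_succ']
        congr 1
        exact hρ a.1 a.2 v hv
    have h2 := h1 Finset.univ
    rw [Finset.card_univ, ← Nat.card_eq_fintype_card] at h2
    exact h2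

/-- Elements of `zpowers α` fix what `α` fixes. -/
theorem fix_of_mem_zpowers {G : Type*} [Group G] {α a : MulAut G} (ha : a ∈ Subgroup.zpowers α)
    {x : G} (hx : α x = x) : a x = x := by
  have h1 : Subgroup.zpowers α ≤ MulAction.stabilizer (MulAut G) x := by
    rw [Subgroup.zpowers_le]
    exact hx
  exact h1 ha

theorem comm_of_mem_zpowers {M : Type*} [Group M] {α a b : M} (ha : a ∈ Subgroup.zpowers α)
    (hb : b ∈ Subgroup.zpowers α) : a * b = b * a := by
  obtain ⟨m, rfl⟩ := Subgroup.mem_zpowers_iff.mp ha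
  obtain ⟨n, rfl⟩ := Subgroup.mem_zpowers_iff.mp hb
  exact (Commute.zpow_zpow_self α m n).eq

end Cfsg.Agent.Lib.Helper8.GZ
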