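import Mathlib
import Cfsg.Agent.Lib.Helper8.GZ3

set_option autoImplicit false

namespace Cfsg.Agent.Lib.Helper8.GZ

universe u

open SemidirectProduct

/-- The subgroup `{(x, a) | x ∈ P}` of `G ⋊ A`, when `A` fixes `P` elementwise. -/
def liftSub {G : Type u} [Group G] (A : Subgroup (MulAut G)) (P : Subgroup G)
    (hf : ∀ a ∈ A, ∀ x ∈ P, a x = x) : Subgroup (G ⋊[A.subtype] ↥A) where
  carrier := {h | h.left ∈ P}
  one_mem' := by
    show (1 : G ⋊[A.subtype] ↥A).left ∈ P
    rw [SemidirectProduct.one_left]; exact P.one_mem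
  mul_mem' := by
    intro a b ha hb
    show (a * b).left ∈ P
    rw [SemidirectProduct.mul_left]
    have h1 : (A.subtype a.right) b.left = b.left := hf a.right.1 a.right.2 _ hb
    rw [h1]; exact P.mul_mem ha hb
  inv_mem' := by
    intro a ha
    show (a⁻¹).left ∈ P
    rw [SemidirectProduct.inv_left]
    have h1 : (A.subtype a.right⁻¹) a.left⁻¹ = a.left⁻¹ :=
      hf _ (a.right⁻¹).2 _ (P.inv_mem ha)
    rw [h1]; exact P.inv_mem ha

theorem mem_liftSub {G : Type u} [Group G] (A : Subgroup (MulAut G)) (P : Subgroup G)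
    (hf : ∀ a ∈ A, ∀ x ∈ P, a x = x) (h : G ⋊[A.subtype] ↥A) :
    h ∈ liftSub A P hf ↔ h.left ∈ P := Iff.rfl

/-- `liftSub` is in bijection with `P × A`. -/
def liftSubEquiv {G : Type u} [Group G] (A : Subgroup (MulAut G)) (P : Subgroup G)
    (hf : ∀ a ∈ A, ∀ x ∈ P, a x = x) : ↥(liftSub A P hf) ≃ ↥P × ↥A where
  toFun h := (⟨h.1.left, h.2⟩, h.1.right)
  invFun x := ⟨⟨x.1.1, x.2⟩, x.1.2⟩
  left_inv h := by ext <;> rfl
  right_inv x := by ext <;> rfl

theorem card_liftSub {G : Type u} [Group G] (A : Subgroup (MulAut G)) (P : Subgroup G)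
    (hf : ∀ a ∈ A, ∀ x ∈ P, a x = x) :
    Nat.card (liftSub A P hf) = Nat.card P * Nat.card A := by
  rw [Nat.card_congr (liftSubEquiv A P hf), Nat.card_prod]

theorem card_semidirect {G : Type u} [Group G] (A : Subgroup (MulAut G)) :
    Nat.card (G ⋊[A.subtype] ↥A) = Nat.card G * Nat.card A := by
  rw [Nat.card_congr SemidirectProduct.equivProd, Nat.card_prod]

theorem liftSub_comm {G : Type u} [Group G] (A : Subgroup (MulAut G)) (P : Subgroup G)
    (hf : ∀ a ∈ A, ∀ x ∈ P, a x = x) (hP : ∀ a ∈ P, ∀ b ∈ P, a * b = b * a)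
    (hA : ∀ a ∈ A, ∀ b ∈ A, a * b = b * a) :
    ∀ a ∈ liftSub A P hf, ∀ b ∈ liftSub A P hf, a * b = b * a := by
  intro a ha b hb
  have ha' : a.left ∈ P := ha
  have hb' : b.left ∈ P := hb
  ext1
  · rw [SemidirectProduct.mul_left, SemidirectProduct.mul_left]
    have h1 : (A.subtype a.right) b.left = b.left := hf a.right.1 a.right.2 _ hb'
    have h2 : (A.subtype b.right) a.left = a.left := hf b.right.1 b.right.2 _ ha'
    rw [h1, h2]; exact hP _ ha' _ hb'
  · rw [SemidirectProduct.mul_right, SemidirectProduct.mul_right]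
    exact Subtype.ext (hA _ a.right.2 _ b.right.2)

/-- The semidirect product of `G` (with trivial odd core) by a 2-group of automorphisms has
trivial odd core. -/
theorem oddCore_semidirect {G : Type u} [Group G] [Finite G] (A : Subgroup (MulAut G)) (j : ℕ)
    (hA : Nat.card A = 2 ^ j) (hcore : Cfsg.pPrimeCore 2 G = ⊥) :
    ∀ K : Subgroup (G ⋊[A.subtype] ↥A), K.Normal → Odd (Nat.card K) → K = ⊥ := by
  intro K hK hodd
  haveI : Finite A := Nat.finite_of_card_ne_zero (by rw [hA]; positivity)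
  haveI : Finite (G ⋊[A.subtype] ↥A) := Finite.of_equiv _ SemidirectProduct.equivProd.symm
  have hc2 : (Nat.card K).Coprime 2 := Nat.coprime_two_right.mpr hodd
  have h1 : K.comap (inl : G →* G ⋊[A.subtype] ↥A) = ⊥ := by
    rw [eq_bot_iff, ← hcore]
    apply Cfsg.Agent.Lib.Helper6.le_pPrimeCore (hK.comap _)
    exact Nat.Coprime.coprime_dvd_left
      (Subgroup.card_comap_dvd_of_injective K _ SemidirectProduct.inl_injective) hc2
  have h2 : K.map (rightHom : G ⋊[A.subtype] ↥A →* ↥A) = ⊥ := by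
    apply Subgroup.eq_bot_of_card_eq
    have h3 : Nat.card (K.map (rightHom : G ⋊[A.subtype] ↥A →* ↥A)) ∣ 2 ^ j := by
      rw [← hA]; exact Subgroup.card_subgroup_dvd_card _
    have h4 := Subgroup.card_map_dvd (H := K) (rightHom : G ⋊[A.subtype] ↥A →* ↥A)
    exact Nat.eq_one_of_dvd_coprimes (Nat.Coprime.pow_right j hc2) h4 h3
  rw [eq_bot_iff]
  intro k hk
  have h5 : rightHom k ∈ K.map (rightHom : G ⋊[A.subtype] ↥A →* ↥A) :=
    Subgroup.mem_map_of_mem _ hk
  rw [h2, Subgroup.mem_bot] at h5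
  have h6 : k = inl k.left := by
    ext1
    · rfl
    · exact h5
  have h7 : k.left ∈ K.comap (inl : G →* G ⋊[A.subtype] ↥A) := by
    rw [Subgroup.mem_comap, ← h6]; exact hk
  rw [h1, Subgroup.mem_bot] at h7
  rw [Subgroup.mem_bot, h6, h7, map_one]


/-- The semidirect product of `G` by the cyclic group generated by `α`. -/
abbrev SD {G : Type u} [Group G] (α : MulAut G) : Type u :=
  G ⋊[(Subgroup.zpowers α).subtype] ↥(Subgroup.zpowers α)

/-- Glauberman: an automorphism of 2-power order fixing an abelian Sylow 2-subgroup elementwise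
is inner, when `O(G) = 1`. -/
theorem inner_of_fix {G : Type u} [Group G] [Finite G] (hcore : Cfsg.pPrimeCore 2 G = ⊥)
    (P : Sylow 2 G) (hab : ∀ a ∈ P, ∀ b ∈ P, a * b = b * a)
    (α : MulAut G) (j : ℕ) (hj : orderOf α = 2 ^ j) (hfix : ∀ x ∈ P, α x = x) :
    ∃ g : G, ∀ x : G, α x = g * x * g⁻¹ := by
  classical
  haveI : Fact (Nat.Prime 2) := ⟨Nat.prime_two⟩
  by_cases hj0 : j = 0
  · subst hj0
    rw [pow_zero, orderOf_eq_one_iff] at hj
    exact ⟨1, fun x => by simp [hj]⟩
  have hAcard : Nat.card (Subgroup.zpowers α) = 2 ^ j := by rw [Nat.card_zpowers, hj]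
  haveI : Finite (Subgroup.zpowers α) := Nat.finite_of_card_ne_zero (by rw [hAcard]; positivity)
  haveI : Finite (SD α) :=
    Finite.of_equiv _ SemidirectProduct.equivProd.symm
  have hf : ∀ a ∈ Subgroup.zpowers α, ∀ x ∈ (P : Subgroup G), a x = x :=
    fun a ha x hx => fix_of_mem_zpowers ha (hfix x hx)
  have hO := oddCore_semidirect (Subgroup.zpowers α) j hAcard hcore
  -- the Sylow subgroup
  have hcardS := card_liftSub (Subgroup.zpowers α) (P : Subgroup G) hf
  have hcommS := liftSub_comm (Subgroup.zpowers α) (P : Subgroup G) hf hab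
    (fun a ha b hb => comm_of_mem_zpowers ha hb)
  obtain ⟨e, he⟩ := P.2.exists_card_eq
  have hpg : IsPGroup 2 (liftSub (Subgroup.zpowers α) (P : Subgroup G) hf) := by
    apply IsPGroup.of_card (n := e + j)
    rw [hcardS, hAcard, he, pow_add]
  have hidx : (liftSub (Subgroup.zpowers α) (P : Subgroup G) hf).index = (P : Subgroup G).index := by
    have h1 := Subgroup.card_mul_index (liftSub (Subgroup.zpowers α) (P : Subgroup G) hf)
    have h2 := Subgroup.card_mul_index (P : Subgroup G)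
    rw [card_semidirect, hcardS, ← h2] at h1
    have h3 : 0 < Nat.card (P : Subgroup G) * Nat.card (Subgroup.zpowers α) :=
      Nat.mul_pos Nat.card_pos Nat.card_pos
    apply Nat.eq_of_mul_eq_mul_left h3
    rw [h1]; ring
  have hnd : ¬ 2 ∣ (liftSub (Subgroup.zpowers α) (P : Subgroup G) hf).index := by
    rw [hidx]; exact Sylow.not_dvd_index P
  set S : Sylow 2 (SD α) :=
    hpg.toSylow hnd with hS
  have hSmem : ∀ h, h ∈ S ↔ h.left ∈ (P : Subgroup G) := fun h => Iff.rfl
  have hSab : ∀ a ∈ S, ∀ b ∈ S, a * b = b * a := hcommS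
  -- the complement
  set N : Subgroup (SD α) := Subgroup.normalizer ((S : Subgroup (SD α)) : Set (SD α)) with hN
  have hSN : (S : Subgroup (SD α)) ≤ N := Subgroup.le_normalizer
  haveI hSnorm : ((S : Subgroup (SD α)).subgroupOf N).Normal := Subgroup.normal_in_normalizer
  have hcop : (Nat.card ((S : Subgroup (SD α)).subgroupOf N)).Coprime ((S : Subgroup (SD α)).subgroupOf N).index := by
    have h1 : ((S : Subgroup (SD α)).subgroupOf N).index ∣ (S : Subgroup (SD α)).index :=
      Subgroup.relIndex_dvd_index_of_le hSN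
    have h2 : Nat.card ((S : Subgroup (SD α)).subgroupOf N) = Nat.card (S : Subgroup (SD α)) :=
      Nat.card_congr (Subgroup.subgroupOfEquivOfLe hSN).toEquiv
    rw [h2]
    obtain ⟨k, hk⟩ := S.2.exists_card_eq
    rw [hk]
    apply Nat.Coprime.pow_left
    rw [Nat.coprime_two_left]
    have h3 : Odd (S : Subgroup (SD α)).index := by
      rw [← Nat.not_even_iff_odd, even_iff_two_dvd]; exact hnd
    exact Odd.of_dvd_nat h3 h1
  obtain ⟨Q', hQ'⟩ := Subgroup.exists_right_complement'_of_coprime hcop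
  set Q := Q'.map N.subtype with hQ
  have hQN : Q ≤ N := by
    rw [hQ]; intro x hx
    obtain ⟨y, _, rfl⟩ := Subgroup.mem_map.mp hx
    exact y.2
  have hQcard : Nat.card Q = ((S : Subgroup (SD α)).subgroupOf N).index := by
    rw [hQ, Subgroup.card_map_of_injective N.subtype_injective, hQ'.symm.index_eq_card]
  have hSidx_odd : Odd (S : Subgroup (SD α)).index := by
    rw [← Nat.not_even_iff_odd, even_iff_two_dvd]; exact hnd
  have hQodd : Odd (Nat.card Q) := by
    rw [hQcard]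
    exact Odd.of_dvd_nat hSidx_odd (Subgroup.relIndex_dvd_index_of_le hSN)
  have hQS : ∀ q ∈ Q, ∀ s ∈ (S : Subgroup (SD α)), q * s * q⁻¹ ∈ (S : Subgroup (SD α)) := by
    intro q hq s hs
    have h1 := hQN hq
    rw [hN, Subgroup.mem_normalizer_iff] at h1
    exact (h1 s).mp hs
  -- decomposition of `N`
  have hdec : ∀ n ∈ N, ∃ s ∈ (S : Subgroup (SD α)), ∃ q ∈ Q, n = s * q := by
    intro n hn
    obtain ⟨x, hx, -⟩ := (Subgroup.isComplement_iff_existsUnique.mp hQ') ⟨n, hn⟩
    refine ⟨x.1.1.1, x.1.2, x.2.1.1, ?_, ?_⟩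
    · rw [hQ]; exact Subgroup.mem_map_of_mem _ x.2.2
    · have := congrArg Subtype.val hx
      simpa using this.symm
  -- the averaging
  have hρ : ∀ q ∈ Q, ∀ s ∈ (S : Subgroup (SD α)),
      (rightHom : SD α →* ↥(Subgroup.zpowers α)) (q * s * q⁻¹) = rightHom s := by
    intro q _ s _
    rw [map_mul, map_mul, map_inv]
    have h1 : (rightHom q : ↥(Subgroup.zpowers α)) * rightHom s = rightHom s * rightHom q :=
      Subtype.ext (comm_of_mem_zpowers (rightHom q).2 (rightHom s).2)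
    rw [h1, mul_inv_cancel_right]
  set v : SD α := inr ⟨α, Subgroup.mem_zpowers α⟩ with hv
  have hvS : v ∈ (S : Subgroup (SD α)) := by
    show v.left ∈ (P : Subgroup G)
    rw [hv, SemidirectProduct.left_inr]; exact Subgroup.one_mem _
  obtain ⟨t, htS, htQ, htρ⟩ := exists_avg (S : Subgroup (SD α)) Q hSab hQS
    (rightHom : SD α →* ↥(Subgroup.zpowers α)) hρ v hvS
  have hρv : (rightHom : SD α →* ↥(Subgroup.zpowers α)) v = ⟨α, Subgroup.mem_zpowers α⟩ := by
    rw [hv]; rfl
  have ha0 : (⟨α, Subgroup.mem_zpowers α⟩ : ↥(Subgroup.zpowers α)) ^ (2 ^ j) = 1 := by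
    apply Subtype.ext
    rw [Subgroup.coe_pow, Subgroup.coe_one, ← hj]
    exact pow_orderOf_eq_one α
  have h2j : 1 < 2 ^ j := Nat.one_lt_two_pow hj0
  obtain ⟨m', -, hm'⟩ := Nat.exists_mul_mod_eq_one_of_coprime
    (Nat.Coprime.pow_right j (Nat.coprime_two_right.mpr hQodd)) h2j
  set w := t ^ m' with hw
  have hwS : w ∈ (S : Subgroup (SD α)) := Subgroup.pow_mem _ htS _
  have hwQ : ∀ q ∈ Q, q * w * q⁻¹ = w := by
    intro q hq
    rw [hw, ← conj_pow, htQ q hq]
  have hwρ : (rightHom : SD α →* ↥(Subgroup.zpowers α)) w = ⟨α, Subgroup.mem_zpowers α⟩ := by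
    rw [hw, map_pow, htρ, hρv, ← pow_mul, pow_eq_pow_mod _ ha0, hm', pow_one]
  have hwN : ∀ n ∈ N, n * w * n⁻¹ = w := by
    intro n hn
    obtain ⟨s, hs, q, hq, rfl⟩ := hdec n hn
    have h1 : s * q * w * (s * q)⁻¹ = s * (q * w * q⁻¹) * s⁻¹ := by group
    rw [h1, hwQ q hq, hSab s hs w hwS, mul_inv_cancel_right]
  obtain ⟨k, hk⟩ := (IsPGroup.iff_orderOf.mp S.2) ⟨w, hwS⟩
  have hwk : w ^ (2 ^ k) = 1 := by
    have h1 := pow_orderOf_eq_one (⟨w, hwS⟩ : ↥(S : Subgroup (SD α)))
    rw [hk] at h1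
    have h2 := congrArg Subtype.val h1
    simpa using h2
  have hwc : w ∈ Subgroup.center (SD α) := fixed_mem_center k hO S hSab w hwS hwN hwk
  refine ⟨w.left⁻¹, fun x => ?_⟩
  have h1 := Subgroup.mem_center_iff.mp hwc (inl x)
  have h2 := congrArg SemidirectProduct.left h1
  rw [SemidirectProduct.mul_left, SemidirectProduct.mul_left] at h2
  have h3 : w.right = ⟨α, Subgroup.mem_zpowers α⟩ := hwρ
  simp only [SemidirectProduct.left_inl, SemidirectProduct.right_inl, map_one, MulAut.one_apply,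
    h3, Subgroup.coe_subtype] at h2
  rw [inv_inv, mul_assoc, h2, inv_mul_cancel_left]

end Cfsg.Agent.Lib.Helper8.GZ
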