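import Mathlib
import Cfsg.Prelude.Def_Transfer

/-!
# A criterion for a normal `p`-complement with commutative Sylow `p`-subgroups

If `K` is a normal subgroup of order prime to `p` containing all commutators, the group has a
normal `p`-complement and commutative Sylow `p`-subgroups.
-/

set_option autoImplicit false

namespace Cfsg.Agent.Lib.Helper8.GagS

open Cfsg

universe u

variable {Γ : Type u} [Group Γ]

/-- Sylow `p`-subgroups are commutative when all commutators lie in a `p'`-subgroup. -/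
theorem sylow_comm_of_comm_mem [Finite Γ] {p : ℕ} [hp : Fact p.Prime] (K : Subgroup Γ)
    (hcop : (Nat.card K).Coprime p) (hab : ∀ g h : Γ, g * h * g⁻¹ * h⁻¹ ∈ K) (Q : Sylow p Γ) :
    IsMulCommutative (Q : Subgroup Γ) := by
  refine ⟨⟨fun a b => ?_⟩⟩
  have h1 : (a : Γ) * b * (a : Γ)⁻¹ * (b : Γ)⁻¹ ∈ K := hab a b
  have h2 : (a : Γ) * b * (a : Γ)⁻¹ * (b : Γ)⁻¹ ∈ (Q : Subgroup Γ) :=
    Q.1.mul_mem (Q.1.mul_mem (Q.1.mul_mem a.2 b.2) (Q.1.inv_mem a.2)) (Q.1.inv_mem b.2)
  obtain ⟨k, hk⟩ := Q.isPGroup' ⟨_, h2⟩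
  have hk' : ((a : Γ) * b * (a : Γ)⁻¹ * (b : Γ)⁻¹) ^ p ^ k = 1 := by
    simpa using congrArg Subtype.val hk
  have h3 : orderOf ((a : Γ) * b * (a : Γ)⁻¹ * (b : Γ)⁻¹) ∣ p ^ k := orderOf_dvd_of_pow_eq_one hk'
  have h4 : orderOf ((a : Γ) * b * (a : Γ)⁻¹ * (b : Γ)⁻¹) ∣ Nat.card K := by
    have := orderOf_dvd_natCard (⟨_, h1⟩ : K)
    rwa [Subgroup.orderOf_mk] at this
  have h5 : orderOf ((a : Γ) * b * (a : Γ)⁻¹ * (b : Γ)⁻¹) = 1 :=
    Nat.eq_one_of_dvd_coprimes (Nat.Coprime.pow_right k hcop) h4 h3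
  have h6 : (a : Γ) * b * (a : Γ)⁻¹ * (b : Γ)⁻¹ = 1 := orderOf_eq_one_iff.1 h5
  apply Subtype.ext
  show (a : Γ) * b = b * a
  calc (a : Γ) * b = ((a : Γ) * b * (a : Γ)⁻¹ * (b : Γ)⁻¹) * (b * a) := by group
    _ = b * a := by rw [h6, one_mul]

/-- A normal `p'`-subgroup containing all commutators gives a normal `p`-complement. -/
theorem npc_of_comm_mem [Finite Γ] {p : ℕ} [hp : Fact p.Prime] (K : Subgroup Γ) [hK : K.Normal]
    (hcop : (Nat.card K).Coprime p) (hab : ∀ g h : Γ, g * h * g⁻¹ * h⁻¹ ∈ K) :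
    HasNormalPComplement p Γ := by
  classical
  have hcard0 : Nat.card Γ ≠ 0 := Nat.card_pos.ne'
  set s := (Nat.card Γ).factorization p with hs
  set t := Nat.card Γ / p ^ s with ht
  have hst : p ^ s * t = Nat.card Γ := Nat.ordProj_mul_ordCompl_eq_self _ _
  have htcop : Nat.Coprime p t := Nat.coprime_ordCompl hp.out hcard0
  -- the quotient is commutative
  have hcomm : ∀ x y : Γ ⧸ K, x * y = y * x := by
    intro x y
    obtain ⟨g, rfl⟩ := QuotientGroup.mk_surjective x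
    obtain ⟨h, rfl⟩ := QuotientGroup.mk_surjective y
    rw [← QuotientGroup.mk_mul, ← QuotientGroup.mk_mul, QuotientGroup.eq]
    have := hab h⁻¹ g⁻¹
    have e : (g * h)⁻¹ * (h * g) = h⁻¹ * g⁻¹ * h⁻¹⁻¹ * g⁻¹⁻¹ := by group
    rw [e]; exact this
  -- the subgroup of elements whose `t`-th power lies in `K`
  let L : Subgroup Γ :=
    { carrier := {g | g ^ t ∈ K}
      one_mem' := by simp [K.one_mem]
      mul_mem' := by
        intro a b ha hb
        simp only [Set.mem_ofPred_eq] at ha hb ⊢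
        rw [← QuotientGroup.eq_one_iff] at ha hb ⊢
        rw [QuotientGroup.mk_pow, QuotientGroup.mk_mul, (show Commute (a : Γ ⧸ K) (b : Γ ⧸ K) from
          hcomm _ _).mul_pow, ← QuotientGroup.mk_pow, ← QuotientGroup.mk_pow, ha, hb, one_mul]
      inv_mem' := by
        intro a ha
        simp only [Set.mem_ofPred_eq] at ha ⊢
        rw [inv_pow]; exact K.inv_mem ha }
  have hLmem : ∀ g : Γ, g ∈ L ↔ g ^ t ∈ K := fun g => Iff.rfl
  have hLn : L.Normal := by
    refine ⟨fun n hn g => ?_⟩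
    rw [hLmem] at hn ⊢
    rw [conj_pow]
    exact hK.conj_mem _ hn g
  -- `L` has order prime to `p`
  have hLcop : (Nat.card L).Coprime p := by
    rw [Nat.coprime_comm, Nat.Prime.coprime_iff_not_dvd hp.out]
    intro hdvd
    obtain ⟨g, hg⟩ := exists_prime_orderOf_dvd_card' p hdvd
    have hg' : orderOf (g : Γ) = p := by rw [Subgroup.orderOf_coe]; exact hg
    have h1 : (g : Γ) ^ t ∈ K := (hLmem _).1 g.2
    have h2 : orderOf ((g : Γ) ^ t) = p := by
      rw [Nat.Coprime.orderOf_pow (by rw [hg']; exact htcop), hg']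
    have h3 : p ∣ Nat.card K := by
      have := orderOf_dvd_natCard (⟨_, h1⟩ : K)
      rwa [Subgroup.orderOf_mk, h2] at this
    exact (Nat.Prime.coprime_iff_not_dvd hp.out).1 hcop.symm h3
  -- the index of `L` is a power of `p`
  have hidx : ∃ k : ℕ, L.index = p ^ k := by
    have hq : IsPGroup p (Γ ⧸ L) := by
      intro x
      obtain ⟨g, rfl⟩ := QuotientGroup.mk_surjective x
      refine ⟨s, ?_⟩
      rw [← QuotientGroup.mk_pow, QuotientGroup.eq_one_iff, hLmem, ← pow_mul, hst]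
      rw [pow_card_eq_one']
      exact K.one_mem
    obtain ⟨k, hk⟩ := IsPGroup.iff_card.1 hq
    exact ⟨k, by rw [Subgroup.index_eq_card]; exact hk⟩
  obtain ⟨k, hk⟩ := hidx
  obtain ⟨P⟩ : Nonempty (Sylow p Γ) := inferInstance
  refine ⟨P, L, hLn, ?_⟩
  have hLG : Nat.card L * p ^ k = Nat.card Γ := by rw [← hk]; exact L.card_mul_index
  have hks : k = s := by
    have h1 : (Nat.card L * p ^ k).factorization p = s := by rw [hLG]
    rw [Nat.factorization_mul Nat.card_pos.ne' (pow_ne_zero _ hp.out.ne_zero)] at h1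
    simp only [Finsupp.coe_add, Pi.add_apply] at h1
    rw [Nat.Prime.factorization_pow hp.out, Finsupp.single_eq_same,
      Nat.factorization_eq_zero_of_not_dvd
        ((Nat.Prime.coprime_iff_not_dvd hp.out).1 hLcop.symm), zero_add] at h1
    exact h1
  have hPcard : Nat.card P = p ^ s := P.card_eq_multiplicity
  apply Subgroup.isComplement'_of_coprime
  · rw [hPcard, ← hks]; exact hLG
  · rw [hPcard]; exact Nat.Coprime.pow_right s hLcop

end Cfsg.Agent.Lib.Helper8.GagS
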