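import Mathlib
import Cfsg.Prelude.Def_Solvable

/-!
# Transitive linear groups whose vector stabilizers are `p`-groups: basics

`TL p ρ`: the group `Γ` acts faithfully (via `ρ`) on the `ZMod p`-module `V`, transitively on the
nonzero vectors, and the stabilizer of every nonzero vector is a `p`-group.
-/

set_option autoImplicit false

namespace Cfsg.Agent.Lib.Helper8.GagS

open Cfsg

universe u v

/-- Fixed points of a permutation of prime power order, restricted to an invariant predicate. -/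
theorem card_fixed_modEq {α : Type*} [Finite α] {r n : ℕ} [hr : Fact r.Prime] (σ : Equiv.Perm α)
    (hσ : σ ^ r ^ n = 1) (P : α → Prop) (hP : ∀ a, P (σ a) ↔ P a) :
    Nat.card {a : α // P a ∧ σ a = a} ≡ Nat.card {a : α // P a} [MOD r] := by
  classical
  haveI : Fintype α := Fintype.ofFinite α
  set τ : Equiv.Perm {a : α // P a} := σ.subtypePerm hP with hτ
  have hτpow : τ ^ r ^ n = 1 := by
    rw [hτ, Equiv.Perm.subtypePerm_pow]
    ext a
    simp [hσ]
  have h1 := Equiv.Perm.card_compl_support_modEq hτpow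
  rw [Nat.card_eq_fintype_card, Nat.card_eq_fintype_card]
  have h2 : Fintype.card {a : α // P a ∧ σ a = a} = τ.supportᶜ.card := by
    rw [← Fintype.card_coe]
    apply Fintype.card_congr
    refine ⟨fun a => ⟨⟨a.1, a.2.1⟩, ?_⟩, fun b => ⟨b.1.1, b.1.2, ?_⟩, fun a => rfl, fun b => rfl⟩
    · rw [Finset.mem_compl, Equiv.Perm.mem_support, not_not]
      apply Subtype.ext
      simpa [hτ] using a.2.2
    · have := b.2
      rw [Finset.mem_compl, Equiv.Perm.mem_support, not_not] at this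
      have h3 := congrArg Subtype.val this
      simpa [hτ] using h3
  rw [h2]
  exact h1

section

variable {p : ℕ} {Γ : Type u} [Group Γ] {V : Type v} [AddCommGroup V] [Module (ZMod p) V]

/-- The permutation representation underlying a linear representation. -/
def permOf (ρ : Γ →* (V ≃ₗ[ZMod p] V)) : Γ →* Equiv.Perm V :=
  MonoidHom.mk' (fun g => (ρ g).toEquiv) (by
    intro a b
    ext v
    simp [map_mul])

@[simp] theorem permOf_apply (ρ : Γ →* (V ≃ₗ[ZMod p] V)) (g : Γ) (v : V) :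
    permOf ρ g v = ρ g v := rfl

/-- A transitive linear group whose vector stabilizers are `p`-groups. -/
structure TL (p : ℕ) {Γ : Type u} [Group Γ] {V : Type v} [AddCommGroup V] [Module (ZMod p) V]
    (ρ : Γ →* (V ≃ₗ[ZMod p] V)) : Prop where
  inj : Function.Injective ρ
  trans : ∀ v w : V, v ≠ 0 → w ≠ 0 → ∃ g : Γ, ρ g v = w
  stab : ∀ v : V, v ≠ 0 → ∀ g : Γ, ρ g v = v → ∃ k : ℕ, g ^ p ^ k = 1

namespace TL

variable {ρ : Γ →* (V ≃ₗ[ZMod p] V)}

/-- An element of order prime to `p` fixing a nonzero vector is trivial. -/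
theorem eq_one_of_fix (h : TL p ρ) {g : Γ} (hg : (orderOf g).Coprime p) {v : V} (hv : v ≠ 0)
    (hfix : ρ g v = v) : g = 1 := by
  obtain ⟨k, hk⟩ := h.stab v hv g hfix
  have h1 : orderOf g ∣ p ^ k := orderOf_dvd_of_pow_eq_one hk
  have h2 : orderOf g = 1 := Nat.Coprime.eq_one_of_dvd (Nat.Coprime.pow_right k hg) h1
  exact orderOf_eq_one_iff.1 h2

/-- A `p`-element of `Γ` and its fixed vectors: the number of fixed vectors in an invariant set
is congruent to the size of the set. -/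
theorem card_fix_modEq [Finite V] {r n : ℕ} [Fact r.Prime] {g : Γ} (hg : g ^ r ^ n = 1)
    (P : V → Prop) (hP : ∀ v, P (ρ g v) ↔ P v) :
    Nat.card {v : V // P v ∧ ρ g v = v} ≡ Nat.card {v : V // P v} [MOD r] := by
  have h1 : (permOf ρ g) ^ r ^ n = 1 := by rw [← map_pow, hg, map_one]
  exact card_fixed_modEq (permOf ρ g) h1 P hP

/-- `|Γ| = (|V| - 1) |Γ_v|`. -/
theorem card_eq_stab [Finite Γ] [Finite V] (h : TL p ρ) {v₀ : V} (hv₀ : v₀ ≠ 0) :
    Nat.card Γ = (Nat.card V - 1) * Nat.card {g : Γ // ρ g v₀ = v₀} := by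
  classical
  letI : MulAction Γ V := MulAction.compHom V (permOf ρ)
  have hsmul : ∀ (g : Γ) (v : V), g • v = ρ g v := fun g v => rfl
  have horb : MulAction.orbit Γ v₀ = ({0} : Set V)ᶜ := by
    ext w
    rw [MulAction.mem_orbit_iff, Set.mem_compl_iff, Set.mem_singleton_iff]
    constructor
    · rintro ⟨g, rfl⟩ h0
      rw [hsmul] at h0
      exact hv₀ ((ρ g).map_eq_zero_iff.1 h0)
    · intro hw
      obtain ⟨g, hg⟩ := h.trans v₀ w hv₀ hw
      exact ⟨g, hg⟩
  have h1 := (MulAction.stabilizer Γ v₀).card_mul_index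
  rw [MulAction.index_stabilizer, horb] at h1
  have h2 : Nat.card (MulAction.stabilizer Γ v₀) = Nat.card {g : Γ // ρ g v₀ = v₀} := rfl
  rw [← h1, mul_comm, Set.ncard_compl, Set.ncard_singleton, h2]

/-- The stabilizer of a nonzero vector has `p`-power order. -/
theorem card_stab [Finite Γ] [hp : Fact p.Prime] (h : TL p ρ) {v₀ : V} (hv₀ : v₀ ≠ 0) :
    ∃ c : ℕ, Nat.card {g : Γ // ρ g v₀ = v₀} = p ^ c := by
  classical
  letI : MulAction Γ V := MulAction.compHom V (permOf ρ)
  have hstab : IsPGroup p (MulAction.stabilizer Γ v₀) := by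
    rintro ⟨g, hg⟩
    obtain ⟨k, hk⟩ := h.stab v₀ hv₀ g (MulAction.mem_stabilizer_iff.1 hg)
    exact ⟨k, Subtype.ext hk⟩
  obtain ⟨c, hc⟩ := IsPGroup.iff_card.1 hstab
  exact ⟨c, hc⟩

/-- `|Γ| = (|V| - 1) p^c`. -/
theorem card_eq [Finite Γ] [Finite V] [Nontrivial V] [hp : Fact p.Prime] (h : TL p ρ) :
    ∃ c : ℕ, Nat.card Γ = (Nat.card V - 1) * p ^ c := by
  obtain ⟨v₀, hv₀⟩ := exists_ne (0 : V)
  obtain ⟨c, hc⟩ := h.card_stab hv₀
  exact ⟨c, by rw [h.card_eq_stab hv₀, hc]⟩

/-- Fixed vectors of an element of prime power order. -/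
theorem card_fix_modEq' [Finite V] {r n : ℕ} [Fact r.Prime] {g : Γ} (hg : g ^ r ^ n = 1) :
    Nat.card {v : V // ρ g v = v} ≡ Nat.card V [MOD r] := by
  have h1 := card_fix_modEq (ρ := ρ) hg (fun _ => True) (fun _ => Iff.rfl)
  have e1 : Nat.card {v : V // True ∧ ρ g v = v} = Nat.card {v : V // ρ g v = v} :=
    Nat.card_congr (Equiv.subtypeEquivRight (fun v => by simp))
  have e2 : Nat.card {v : V // True} = Nat.card V :=
    Nat.card_congr (Equiv.subtypeUnivEquiv (fun _ => trivial))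
  rw [e1, e2] at h1
  exact h1

/-- `p` divides `|V|`. -/
theorem dvd_card_V [Finite V] [Nontrivial V] [hp : Fact p.Prime] : p ∣ Nat.card V := by
  obtain ⟨v₀, hv₀⟩ := exists_ne (0 : V)
  have h1 : p • v₀ = 0 := by
    have : (p : ZMod p) • v₀ = 0 := by rw [ZMod.natCast_self, zero_smul]
    rwa [Nat.cast_smul_eq_nsmul] at this
  have h2 : addOrderOf v₀ ∣ p := addOrderOf_dvd_of_nsmul_eq_zero h1
  rcases (Nat.dvd_prime hp.out).1 h2 with h3 | h3
  · exact absurd (AddMonoid.addOrderOf_eq_one_iff.1 h3) hv₀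
  · rw [← h3]; exact addOrderOf_dvd_natCard v₀

/-- `p` odd: an involution acts as `-1`. -/
theorem involution_neg (h : TL p ρ) [hp : Fact p.Prime] (hp2 : p ≠ 2) {t : Γ} (ht : t * t = 1)
    (ht1 : t ≠ 1) (v : V) : ρ t v = -v := by
  have hto : orderOf t = 2 := orderOf_eq_prime (by rw [sq]; exact ht) ht1
  have hcop : (orderOf t).Coprime p := by
    rw [hto]; exact (Nat.coprime_primes Nat.prime_two hp.out).2 (Ne.symm hp2)
  have hfix : ρ t (ρ t v + v) = ρ t v + v := by
    rw [map_add, ← LinearEquiv.mul_apply, ← map_mul, ht, map_one, LinearEquiv.coe_one, id_eq,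
      add_comm]
  by_contra hne
  have hw : ρ t v + v ≠ 0 := fun h0 => hne (eq_neg_of_add_eq_zero_left h0)
  exact ht1 (h.eq_one_of_fix hcop hw hfix)

/-- `p` odd: any two involutions coincide. -/
theorem involution_unique (h : TL p ρ) [hp : Fact p.Prime] (hp2 : p ≠ 2) {t t' : Γ}
    (ht : t * t = 1) (ht1 : t ≠ 1) (ht' : t' * t' = 1) (ht'1 : t' ≠ 1) : t = t' := by
  apply h.inj
  ext v
  rw [h.involution_neg hp2 ht ht1, h.involution_neg hp2 ht' ht'1]

/-- `p` odd: an involution is central. -/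
theorem involution_central (h : TL p ρ) [hp : Fact p.Prime] (hp2 : p ≠ 2) {t : Γ}
    (ht : t * t = 1) (ht1 : t ≠ 1) (g : Γ) : g * t = t * g := by
  have h1 : (g * t * g⁻¹) * (g * t * g⁻¹) = 1 := by
    calc (g * t * g⁻¹) * (g * t * g⁻¹) = g * (t * t) * g⁻¹ := by group
      _ = 1 := by rw [ht]; group
  have h2 : g * t * g⁻¹ ≠ 1 := by
    intro h3
    apply ht1
    calc t = g⁻¹ * (g * t * g⁻¹) * g := by group
      _ = 1 := by rw [h3]; group
  have h3 := h.involution_unique hp2 h1 h2 ht ht1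
  calc g * t = (g * t * g⁻¹) * g := by group
    _ = t * g := by rw [h3]

end TL

end

end Cfsg.Agent.Lib.Helper8.GagS
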