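import Mathlib
import Cfsg.Agent.Lib.Helper8.GagS2

/-!
# Transitive linear groups with `p`-group stabilizers: the semilinear case

If every element of `Γ` acts on `V ≅ F` as `x ↦ a σ(x)`, the elements acting as multiplications
form a normal subgroup of order prime to `p` containing all commutators.
-/

set_option autoImplicit false

namespace Cfsg.Agent.Lib.Helper8.GagS

open Cfsg

universe u v

/-- Automorphisms of a finite field commute. -/
theorem ringAut_comm {F : Type*} [Field F] [Finite F] (σ τ : F ≃+* F) (x : F) :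
    σ (τ x) = τ (σ x) := by
  classical
  haveI : Fintype F := Fintype.ofFinite F
  by_cases hx : x = 0
  · rw [hx]; simp
  obtain ⟨ζ, hζ⟩ := IsCyclic.exists_generator (α := Fˣ)
  obtain ⟨i, hi⟩ := Subgroup.mem_zpowers_iff.1 (hζ (Units.map (σ : F →* F) ζ))
  obtain ⟨j, hj⟩ := Subgroup.mem_zpowers_iff.1 (hζ (Units.map (τ : F →* F) ζ))
  obtain ⟨k, hk⟩ := Subgroup.mem_zpowers_iff.1 (hζ (Units.mk0 x hx))
  have h1 : Units.map (σ : F →* F) (Units.map (τ : F →* F) (Units.mk0 x hx))
      = Units.map (τ : F →* F) (Units.map (σ : F →* F) (Units.mk0 x hx)) := by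
    have e1 : Units.map (σ : F →* F) (Units.map (τ : F →* F) ζ) = (ζ ^ i) ^ j := by
      rw [← hj, map_zpow, ← hi]
    have e2 : Units.map (τ : F →* F) (Units.map (σ : F →* F) ζ) = (ζ ^ j) ^ i := by
      rw [← hi, map_zpow, ← hj]
    have e3 : (ζ ^ i) ^ j = (ζ ^ j) ^ i := by
      rw [← zpow_mul, ← zpow_mul, mul_comm]
    rw [← hk, map_zpow, map_zpow, e1, map_zpow, map_zpow, e2, e3]
  have h2 := congrArg Units.val h1
  simpa using h2

section

variable {p : ℕ} {Γ : Type u} [Group Γ] {V : Type v} [AddCommGroup V] [Module (ZMod p) V]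
variable {ρ : Γ →* (V ≃ₗ[ZMod p] V)}

/-- The semilinear case. -/
theorem semilinear_case [Finite Γ] [Finite V] [Nontrivial V] [hp : Fact p.Prime]
    (hinj : Function.Injective ρ)
    {F : Type} [Field F] [Fintype F] (e : V ≃+ F)
    (hsl : ∀ g : Γ, ∃ (a : F) (σ : F ≃+* F), ∀ v : V, e (ρ g v) = a * σ (e v)) :
    ∃ K : Subgroup Γ, K.Normal ∧ (Nat.card K).Coprime p ∧ ∀ g h : Γ, g * h * g⁻¹ * h⁻¹ ∈ K := by
  classical
  obtain ⟨v₀, hv₀⟩ := exists_ne (0 : V)
  -- multipliers are nonzero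
  have hne : ∀ (g : Γ) (a : F) (σ : F ≃+* F), (∀ v : V, e (ρ g v) = a * σ (e v)) → a ≠ 0 := by
    intro g a σ hg ha
    have h1 := hg v₀
    rw [ha, zero_mul] at h1
    have h2 : ρ g v₀ = 0 := by
      have := e.map_eq_zero_iff.1 h1
      exact this
    exact hv₀ ((ρ g).map_eq_zero_iff.1 h2)
  -- uniqueness
  have huniq : ∀ (a b : F) (σ τ : F ≃+* F), a ≠ 0 → (∀ x : F, a * σ x = b * τ x) →
      a = b ∧ σ = τ := by
    intro a b σ τ ha hab
    have h1 : a = b := by simpa using hab 1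
    refine ⟨h1, RingEquiv.ext fun x => ?_⟩
    have h2 := hab x
    rw [← h1] at h2
    exact mul_left_cancel₀ ha h2
  have hsl' : ∀ g : Γ, ∃ (σ : F ≃+* F) (a : F), ∀ v : V, e (ρ g v) = a * σ (e v) := by
    intro g
    obtain ⟨a, σ, h1⟩ := hsl g
    exact ⟨σ, a, h1⟩
  choose sig hsig using hsl'
  have hsig_eq : ∀ (g : Γ) (a : F) (σ : F ≃+* F), (∀ v : V, e (ρ g v) = a * σ (e v)) →
      sig g = σ := by
    intro g a σ hg
    obtain ⟨b, hb⟩ := hsig g
    have h1 : ∀ x : F, b * sig g x = a * σ x := by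
      intro x
      obtain ⟨v, rfl⟩ := e.surjective x
      rw [← hb, ← hg]
    exact (huniq b a (sig g) σ (hne g b (sig g) hb) h1).2
  have hmul : ∀ g h : Γ, sig (g * h) = sig g * sig h := by
    intro g h
    obtain ⟨a, ha⟩ := hsig g
    obtain ⟨b, hb⟩ := hsig h
    apply hsig_eq (g * h) (a * sig g b) (sig g * sig h)
    intro v
    rw [map_mul, LinearEquiv.mul_apply, ha, hb, map_mul, RingAut.mul_apply, mul_assoc]
  set Φ : Γ →* (F ≃+* F) := MonoidHom.mk' sig hmul with hΦ
  have hΦapp : ∀ g, Φ g = sig g := fun g => rfl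
  refine ⟨Φ.ker, inferInstance, ?_, ?_⟩
  · -- the kernel has order prime to `p`
    have hker : ∀ g ∈ Φ.ker, ∃ a : F, a ≠ 0 ∧ ∀ v : V, e (ρ g v) = a * e v := by
      intro g hg
      rw [MonoidHom.mem_ker, hΦapp] at hg
      obtain ⟨a, ha⟩ := hsig g
      refine ⟨a, hne g a (sig g) ha, fun v => ?_⟩
      rw [ha, hg]; rfl
    have hpow : ∀ g ∈ Φ.ker, g ^ (Fintype.card F - 1) = 1 := by
      intro g hg
      obtain ⟨a, ha0, ha⟩ := hker g hg
      have h1 : ∀ n : ℕ, ∀ v : V, e (ρ (g ^ n) v) = a ^ n * e v := by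
        intro n
        induction n with
        | zero => intro v; simp
        | succ n ih =>
          intro v
          rw [pow_succ, map_mul, LinearEquiv.mul_apply, ih, ha, pow_succ, mul_assoc]
      apply hinj
      ext v
      apply e.injective
      rw [h1, FiniteField.pow_card_sub_one_eq_one a ha0, one_mul, map_one]
      rfl
    have hcardF : Fintype.card F = Nat.card V := by
      rw [← Nat.card_eq_fintype_card]; exact (Nat.card_congr e.toEquiv).symm
    rw [Nat.coprime_comm, Nat.Prime.coprime_iff_not_dvd hp.out]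
    intro hdvd
    obtain ⟨g, hg⟩ := exists_prime_orderOf_dvd_card' p hdvd
    have hg' : orderOf (g : Γ) = p := by rw [Subgroup.orderOf_coe]; exact hg
    have h1 : p ∣ Fintype.card F - 1 := by
      rw [← hg']; exact orderOf_dvd_of_pow_eq_one (hpow g g.2)
    have h2 : p ∣ Fintype.card F := by rw [hcardF]; exact TL.dvd_card_V
    have h3 : 0 < Fintype.card F := Fintype.card_pos
    have h4 : p ∣ 1 := by
      have : Fintype.card F = (Fintype.card F - 1) + 1 := by omega
      rw [this] at h2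
      exact (Nat.dvd_add_right h1).1 h2
    exact hp.out.one_lt.ne' (Nat.dvd_one.1 h4)
  · intro g h
    rw [MonoidHom.mem_ker, map_mul, map_mul, map_mul, map_inv, map_inv]
    have hcomm : Φ g * Φ h = Φ h * Φ g := by
      apply RingEquiv.ext
      intro x
      rw [RingAut.mul_apply, RingAut.mul_apply]
      exact ringAut_comm _ _ x
    calc Φ g * Φ h * (Φ g)⁻¹ * (Φ h)⁻¹ = (Φ g * Φ h) * ((Φ g)⁻¹ * (Φ h)⁻¹) := by group
      _ = (Φ h * Φ g) * ((Φ g)⁻¹ * (Φ h)⁻¹) := by rw [hcomm]
      _ = 1 := by group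

end

end Cfsg.Agent.Lib.Helper8.GagS
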