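import Mathlib
import Cfsg.Agent.Lib.Helper8.GagS2
import Cfsg.Agent.Lib.Helper8.TB11
import Cfsg.Agent.Lib.Lead.SolvPSolv

/-!
# Solvable linear groups in dimension two, `p ≥ 5`

By Theorem B of Hall and Higman, a solvable subgroup of `GL₂(p)`, `p ≥ 5`, with trivial `p`-core
has order prime to `p`.
-/

set_option autoImplicit false

namespace Cfsg.Agent.Lib.Helper8.GagS

open Cfsg

universe u v

variable {p : ℕ} {Γ : Type u} [Group Γ] {V : Type v} [AddCommGroup V] [Module (ZMod p) V]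
variable {ρ : Γ →* (V ≃ₗ[ZMod p] V)}

theorem coprime_of_dim_two [Finite Γ] [Finite V] [Nontrivial V] [hp : Fact p.Prime]
    (hinj : Function.Injective ρ) [hsol : Group.IsSolvable Γ] (hO : pCore p Γ = ⊥)
    (hdim : Module.finrank (ZMod p) V = 2) (hp5 : 5 ≤ p) : (Nat.card Γ).Coprime p := by
  classical
  rw [Nat.coprime_comm, Nat.Prime.coprime_iff_not_dvd hp.out]
  intro hdvd
  obtain ⟨x, hx⟩ := exists_prime_orderOf_dvd_card' p hdvd
  have hG : IsPSolvable p Γ := Cfsg.Agent.Lib.Lead.SolvPSolv.isPSolvable_of_isSolvable' p Γ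
  obtain ⟨ρ', hρ'def⟩ : ∃ ρ' : Representation (ZMod p) Γ V,
      ρ' = (LinearEquiv.automorphismGroup.toLinearMapMonoidHom (R := ZMod p) (M := V)).comp ρ :=
    ⟨_, rfl⟩
  have hρ'app : ∀ g : Γ, ρ' g = ((ρ g : V ≃ₗ[ZMod p] V) : Module.End (ZMod p) V) := by
    intro g; rw [hρ'def]; rfl
  have hρ'inj : Function.Injective ρ' := by
    intro a b hab
    rw [hρ'app, hρ'app] at hab
    exact hinj (LinearEquiv.toLinearMap_injective hab)
  have hxp : x ^ p = 1 := by
    have := pow_orderOf_eq_one x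
    rwa [hx] at this
  have hxpow : (ρ' x) ^ p = 1 := by
    rw [← map_pow, hxp, map_one]
  have h3 : Polynomial.aeval (ρ' x) ((Polynomial.X - 1 : Polynomial (ZMod p)) ^ p) = 0 := by
    rw [sub_pow_char, one_pow]
    simp [hxpow]
  have h4 : (ρ' x - 1) ^ p = 0 := by
    simpa using h3
  have h5 : (ρ' x - 1) ^ 2 = 0 := by
    have h6 := Module.End.ker_pow_le_ker_pow_finrank (ρ' x - 1) p
    rw [h4, hdim, LinearMap.ker_zero, top_le_iff] at h6
    exact LinearMap.ker_eq_top.1 h6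
  have hxo : orderOf x = p ^ 1 := by rw [pow_one]; exact hx
  rcases Cfsg.Agent.Lib.Helper8.TB.main_field p hG hO ρ' hρ'inj x 1 hxo 2 h5 with h | h
  · rw [pow_one] at h; omega
  · obtain ⟨n₀, q, m', h1, h2, -, -, -, -, h7⟩ := h
    have hn₀ : n₀ = 1 := le_antisymm h2 h1
    rw [hn₀, Nat.sub_self, pow_zero, one_mul, pow_one] at h7
    omega

end Cfsg.Agent.Lib.Helper8.GagS
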