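import Mathlib
import Cfsg.Agent.Lib.Helper8.GagS2
import Cfsg.Agent.Lib.Helper4.Rk2l
import Cfsg.Agent.Lib.Helper6.FStarAct
import Cfsg.Agent.Lib.Lead.Core

/-!
# Counting lemmas for elements of prime power order acting by conjugation
-/

set_option autoImplicit false

namespace Cfsg.Agent.Lib.Helper8.GagS

open Cfsg

universe u

variable {Γ : Type u} [Group Γ]

/-- An element of order a power of `r` normalizing `T`: `|C_T(y)| ≡ |T|` modulo `r`. -/
theorem card_centralizer_modEq [Finite Γ] {r n : ℕ} [hr : Fact r.Prime] {y : Γ}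
    (hy : y ^ r ^ n = 1) (T : Subgroup Γ) [hT : T.Normal] :
    Nat.card ↥(T ⊓ Subgroup.centralizer ({y} : Set Γ)) ≡ Nat.card T [MOD r] := by
  set σ : Equiv.Perm T := MulAut.toPerm T (MulAut.conjNormal y) with hσ
  have hσpow : σ ^ r ^ n = 1 := by
    rw [hσ, ← map_pow, ← map_pow, hy, map_one, map_one]
  have h1 := card_fixed_modEq σ hσpow (fun _ => True) (fun _ => Iff.rfl)
  have e2 : Nat.card {t : T // True} = Nat.card T :=
    Nat.card_congr (Equiv.subtypeUnivEquiv (fun _ => trivial))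
  have hfix : ∀ t : T, σ t = t ↔ (t : Γ) ∈ Subgroup.centralizer ({y} : Set Γ) := by
    intro t
    rw [Subgroup.mem_centralizer_singleton_iff]
    have h2 : ((σ t : T) : Γ) = y * t * y⁻¹ := by
      rw [hσ]; exact MulAut.conjNormal_apply y t
    constructor
    · intro h3
      have h4 : y * t * y⁻¹ = t := by rw [← h2, h3]
      calc (t : Γ) * y = (y * t * y⁻¹) * y := by rw [h4]
        _ = y * t := by group
    · intro h3
      apply Subtype.ext
      rw [h2]
      calc y * (t : Γ) * y⁻¹ = ((t : Γ) * y) * y⁻¹ := by rw [h3]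
        _ = t := by group
  have e1 : Nat.card {t : T // True ∧ σ t = t}
      = Nat.card ↥(T ⊓ Subgroup.centralizer ({y} : Set Γ)) := by
    apply Nat.card_congr
    refine ⟨fun t => ⟨t.1.1, t.1.2, (hfix t.1).1 t.2.2⟩,
      fun s => ⟨⟨s.1, s.2.1⟩, trivial, (hfix _).2 s.2.2⟩, fun t => rfl, fun s => rfl⟩
  rw [e1, e2] at h1
  exact h1

/-- An `r`-element centralizing every `O_q(Γ)`, `q ≠ r`, is trivial if `O_r(Γ) = 1`
(`Γ` solvable). -/
theorem eq_one_of_centralizes_cores [Finite Γ] [Group.IsSolvable Γ] {r n : ℕ} [hr : Fact r.Prime]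
    {y : Γ} (hy : y ^ r ^ n = 1) (hO : pCore r Γ = ⊥)
    (h : ∀ q : ℕ, q.Prime → q ≠ r → ∀ t ∈ pCore q Γ, t * y = y * t) : y = 1 := by
  have h1 : y ∈ fittingSubgroup Γ := by
    apply Cfsg.Agent.Lib.Helper4.Rk2.mem_fitting_of_centralizes
    intro q hq
    rw [Subgroup.mem_centralizer_iff]
    intro t ht
    by_cases hqr : q = r
    · rw [hqr, hO] at ht
      have ht1 : t = 1 := by simpa using ht
      rw [ht1, one_mul, mul_one]
    · exact h q hq hqr t ht
  have h2 := Cfsg.Agent.Lib.Helper6.coprime_card_fittingSubgroup (G := Γ) hO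
  have h3 : orderOf y ∣ Nat.card (fittingSubgroup Γ) := by
    have := orderOf_dvd_natCard (⟨y, h1⟩ : fittingSubgroup Γ)
    rwa [Subgroup.orderOf_mk] at this
  have h4 : orderOf y ∣ r ^ n := orderOf_dvd_of_pow_eq_one hy
  have h5 : orderOf y = 1 := Nat.eq_one_of_dvd_coprimes (Nat.Coprime.pow_right n h2) h3 h4
  exact orderOf_eq_one_iff.1 h5

/-- The counting argument: an `r`-element `y` centralizes a normal `2`-subgroup `T` of order
`2^a` all of whose involutions are central, when `2^k ≢ 1` modulo `r` for `0 < k < a`. -/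
theorem centralizes_two_group [Finite Γ] {r n : ℕ} [hr : Fact r.Prime] {y : Γ}
    (hy : y ^ r ^ n = 1) (T : Subgroup Γ) [hT : T.Normal] (hT2 : IsPGroup 2 T)
    (hinv : ∀ z : Γ, z * z = 1 → z ≠ 1 → ∀ g : Γ, g * z = z * g)
    (a : ℕ) (ha : Nat.card T = 2 ^ a) (hr2' : r ≠ 2)
    (hr2 : ∀ k : ℕ, 0 < k → k < a → ¬ 2 ^ k ≡ 1 [MOD r]) :
    ∀ t ∈ T, t * y = y * t := by
  haveI : Fact (Nat.Prime 2) := ⟨Nat.prime_two⟩
  have hmod := card_centralizer_modEq hy T
  set C := T ⊓ Subgroup.centralizer ({y} : Set Γ) with hC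
  have hCT : C ≤ T := inf_le_left
  have hC2 : IsPGroup 2 C := hT2.to_le hCT
  obtain ⟨b, hb⟩ := IsPGroup.iff_card.1 hC2
  have hba : b ≤ a := by
    have h1 : Nat.card C ∣ Nat.card T := Subgroup.card_dvd_of_le hCT
    rw [hb, ha] at h1
    exact (Nat.pow_dvd_pow_iff_le_right (by norm_num)).1 h1
  -- if `T` is nontrivial then so is `C`
  have hb0 : 0 < a → 0 < b := by
    intro ha0
    have h2 : 2 ∣ Nat.card T := by rw [ha]; exact dvd_pow_self 2 ha0.ne'
    obtain ⟨z, hz⟩ := exists_prime_orderOf_dvd_card' 2 h2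
    have hz' : orderOf (z : Γ) = 2 := by rw [Subgroup.orderOf_coe]; exact hz
    have hzz : (z : Γ) * z = 1 := by rw [← sq, ← hz']; exact pow_orderOf_eq_one _
    have hz1 : (z : Γ) ≠ 1 := by
      intro h1
      rw [h1, orderOf_one] at hz'
      omega
    have hzC : (z : Γ) ∈ C := by
      refine Subgroup.mem_inf.2 ⟨z.2, ?_⟩
      rw [Subgroup.mem_centralizer_singleton_iff]
      exact (hinv z hzz hz1 y).symm
    by_contra hb'
    have hb'' : b = 0 := by omega
    rw [hb'', pow_zero] at hb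
    have := (Subgroup.card_eq_one.1 hb)
    rw [this, Subgroup.mem_bot] at hzC
    exact hz1 hzC
  have hab : a = b := by
    by_contra hne
    have hlt : b < a := lt_of_le_of_ne hba (Ne.symm hne)
    have hb1 : 0 < b := hb0 (by omega)
    rw [hb, ha] at hmod
    -- `2^b ≡ 2^a = 2^b 2^(a-b)` so `2^(a-b) ≡ 1`
    have h1 : 2 ^ a = 2 ^ b * 2 ^ (a - b) := by rw [← pow_add]; congr 1; omega
    rw [h1] at hmod
    have hcop : Nat.Coprime (2 ^ b) r := by
      apply Nat.Coprime.pow_left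
      rw [Nat.coprime_primes Nat.prime_two hr.out]
      exact Ne.symm hr2'
    have h3 : 2 ^ b * 1 ≡ 2 ^ b * 2 ^ (a - b) [MOD r] := by rw [mul_one]; exact hmod
    have h4 := Nat.ModEq.cancel_left_of_coprime hcop.symm h3
    exact hr2 (a - b) (by omega) (by omega) h4.symm
  intro t ht
  have hCeq : C = T := by
    apply Subgroup.eq_of_le_of_card_ge hCT
    rw [hb, ha, hab]
  have htC : t ∈ C := by rw [hCeq]; exact ht
  have := (Subgroup.mem_inf.1 htC).2
  rw [Subgroup.mem_centralizer_singleton_iff] at this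
  exact this

end Cfsg.Agent.Lib.Helper8.GagS
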