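import Mathlib
import Cfsg.Agent.Lib.Helper8.GagS5

/-!
# Transitive linear groups with `3`-group stabilizers on `3^4` points

A solvable such group with trivial `3`-core has order prime to `3`.
-/

set_option autoImplicit false

namespace Cfsg.Agent.Lib.Helper8.GagS

open Cfsg

universe u v

variable {Γ : Type u} [Group Γ] {V : Type v} [AddCommGroup V] [Module (ZMod 3) V]
variable {ρ : Γ →* (V ≃ₗ[ZMod 3] V)}

/-- The fixed vectors of an element form a subgroup. -/
def fixSub (ρ : Γ →* (V ≃ₗ[ZMod 3] V)) (g : Γ) : AddSubgroup V where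
  carrier := {v | ρ g v = v}
  zero_mem' := by simp
  add_mem' := by
    intro a b ha hb
    simp only [Set.mem_ofPred_eq] at ha hb ⊢
    rw [map_add, ha, hb]
  neg_mem' := by
    intro a ha
    simp only [Set.mem_ofPred_eq] at ha ⊢
    rw [map_neg, ha]

theorem mem_fixSub (g : Γ) (v : V) : v ∈ fixSub ρ g ↔ ρ g v = v := Iff.rfl

theorem card_fix_dvd [Finite V] (g : Γ) : Nat.card {v : V // ρ g v = v} ∣ Nat.card V :=
  (fixSub ρ g).card_addSubgroup_dvd_card

theorem eq_one_of_card_fix [Finite V] (hinj : Function.Injective ρ) {g : Γ}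
    (hg : Nat.card {v : V // ρ g v = v} = Nat.card V) : g = 1 := by
  have h1 : fixSub ρ g = ⊤ := AddSubgroup.eq_top_of_card_eq _ hg
  apply hinj
  ext v
  have : v ∈ fixSub ρ g := by rw [h1]; trivial
  rw [map_one]
  exact this

theorem coprime_of_card_81 [Finite Γ] [Finite V] [Group.IsSolvable Γ] (h : TL 3 ρ)
    (hO : pCore 3 Γ = ⊥) (hV : Nat.card V = 81) : (Nat.card Γ).Coprime 3 := by
  classical
  haveI : Fact (Nat.Prime 3) := ⟨Nat.prime_three⟩
  haveI : Fact (Nat.Prime 5) := ⟨by norm_num⟩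
  haveI : Fact (Nat.Prime 2) := ⟨Nat.prime_two⟩
  haveI : Nontrivial V := by
    apply (Finite.one_lt_card_iff_nontrivial).1
    rw [hV]; norm_num
  obtain ⟨c, hc⟩ := h.card_eq
  rw [hV] at hc
  have hc' : Nat.card Γ = 80 * 3 ^ c := by rw [hc]
  have hinv : ∀ z : Γ, z * z = 1 → z ≠ 1 → ∀ g : Γ, g * z = z * g := fun z hzz hz1 g =>
    h.involution_central (by norm_num) hzz hz1 g
  -- primes dividing `|Γ|`
  have hprimes : ∀ q : ℕ, q.Prime → q ∣ Nat.card Γ → q = 2 ∨ q = 3 ∨ q = 5 := by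
    intro q hq hqd
    rw [hc'] at hqd
    rcases (Nat.Prime.dvd_mul hq).1 hqd with h1 | h1
    · have h2 : q ∣ 2 ^ 4 * 5 := by norm_num; exact h1
      rcases (Nat.Prime.dvd_mul hq).1 h2 with h3 | h3
      · left; exact (Nat.prime_dvd_prime_iff_eq hq Nat.prime_two).1 (hq.dvd_of_dvd_pow h3)
      · right; right; exact (Nat.prime_dvd_prime_iff_eq hq (by norm_num)).1 h3
    · right; left
      exact (Nat.prime_dvd_prime_iff_eq hq Nat.prime_three).1 (hq.dvd_of_dvd_pow h1)
  -- Step A: `O_5(Γ) ≠ 1`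
  have hS : pCore 5 Γ ≠ ⊥ := by
    intro hS
    have h5 : 5 ∣ Nat.card Γ := by rw [hc']; exact Dvd.dvd.mul_right (by norm_num) _
    obtain ⟨s, hs⟩ := exists_prime_orderOf_dvd_card' 5 h5
    have hs5 : s ^ 5 ^ 1 = 1 := by
      have := pow_orderOf_eq_one s
      rwa [hs] at this
    have hs1 : s = 1 := by
      apply eq_one_of_centralizes_cores hs5 hS
      intro q hq hq5 t ht
      by_cases hq3 : q = 3
      · rw [hq3, hO] at ht
        have ht1 : t = 1 := by simpa using ht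
        rw [ht1, one_mul, mul_one]
      by_cases hq2 : q = 2
      · subst hq2
        have hT2 : IsPGroup 2 (pCore 2 Γ) := Cfsg.Agent.Lib.Lead.pCore_isPGroup 2
        obtain ⟨a, ha⟩ := IsPGroup.iff_card.1 hT2
        have ha4 : a ≤ 4 := by
          have h1 : 2 ^ a ∣ Nat.card Γ := by rw [← ha]; exact Subgroup.card_subgroup_dvd_card _
          rw [hc'] at h1
          have h2 : 2 ^ a ∣ 80 :=
            (Nat.Coprime.pow a c (by norm_num : Nat.Coprime 2 3)).dvd_of_dvd_mul_right h1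
          have h3 : (80 : ℕ) = 2 ^ 4 * 5 := by norm_num
          rw [h3] at h2
          have h4 : 2 ^ a ∣ 2 ^ 4 :=
            (Nat.Coprime.pow_left a (by norm_num : Nat.Coprime 2 5)).dvd_of_dvd_mul_right h2
          exact (Nat.pow_dvd_pow_iff_le_right (by norm_num)).1 h4
        refine centralizes_two_group hs5 (pCore 2 Γ) hT2 hinv a ha (by norm_num) ?_ t ht
        intro k hk0 hka
        have hk3 : k ≤ 3 := by omega
        interval_cases k <;> decide
      · have hnd : ¬ q ∣ Nat.card Γ := by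
          intro hqd
          rcases hprimes q hq hqd with h1 | h1 | h1
          · exact hq2 h1
          · exact hq3 h1
          · exact hq5 h1
        haveI : Fact q.Prime := ⟨hq⟩
        rw [Cfsg.Agent.Lib.Lead.pCore_eq_bot_of_not_dvd q hnd] at ht
        have ht1 : t = 1 := by simpa using ht
        rw [ht1, one_mul, mul_one]
    rw [hs1, orderOf_one] at hs
    omega
  -- Step B: no element of order `3`
  rw [Nat.coprime_comm, Nat.Prime.coprime_iff_not_dvd Nat.prime_three]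
  intro h3
  obtain ⟨x, hx⟩ := exists_prime_orderOf_dvd_card' 3 h3
  have hx3 : x ^ 3 ^ 1 = 1 := by
    have := pow_orderOf_eq_one x
    rwa [hx] at this
  have hS5 : IsPGroup 5 (pCore 5 Γ) := Cfsg.Agent.Lib.Lead.pCore_isPGroup 5
  obtain ⟨j, hj⟩ := IsPGroup.iff_card.1 hS5
  have hj1 : j = 1 := by
    have h1 : 5 ^ j ∣ Nat.card Γ := by rw [← hj]; exact Subgroup.card_subgroup_dvd_card _
    rw [hc'] at h1
    have h2 : 5 ^ j ∣ 80 :=
      (Nat.Coprime.pow j c (by norm_num : Nat.Coprime 5 3)).dvd_of_dvd_mul_right h1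
    have h3 : (80 : ℕ) = 5 ^ 1 * 16 := by norm_num
    rw [h3] at h2
    have h4 : 5 ^ j ∣ 5 ^ 1 :=
      (Nat.Coprime.pow_left j (by norm_num : Nat.Coprime 5 16)).dvd_of_dvd_mul_right h2
    have h5 : j ≤ 1 := (Nat.pow_dvd_pow_iff_le_right (by norm_num)).1 h4
    have h6 : j ≠ 0 := by
      intro h0
      rw [h0, pow_zero] at hj
      exact hS (Subgroup.card_eq_one.1 hj)
    omega
  rw [hj1, pow_one] at hj
  -- `x` centralizes `O_5(Γ)`
  have hmod := card_centralizer_modEq hx3 (pCore 5 Γ)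
  have hCle : pCore 5 Γ ⊓ Subgroup.centralizer ({x} : Set Γ) ≤ pCore 5 Γ := inf_le_left
  have hCd : Nat.card ↥(pCore 5 Γ ⊓ Subgroup.centralizer ({x} : Set Γ)) ∣ 5 := by
    have := Subgroup.card_dvd_of_le hCle
    rwa [hj] at this
  have hC5 : Nat.card ↥(pCore 5 Γ ⊓ Subgroup.centralizer ({x} : Set Γ)) = 5 := by
    rcases (Nat.dvd_prime (by norm_num : Nat.Prime 5)).1 hCd with h1 | h1
    · rw [h1, hj] at hmod
      exact absurd hmod (by decide)
    · exact h1
  have hCeq : pCore 5 Γ ⊓ Subgroup.centralizer ({x} : Set Γ) = pCore 5 Γ :=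
    Subgroup.eq_of_le_of_card_ge hCle (by rw [hC5, hj])
  obtain ⟨s₁, hs₁1⟩ := (Subgroup.ne_bot_iff_exists_ne_one (H := pCore 5 Γ)).1 hS
  have hs₁x : x * (s₁ : Γ) = (s₁ : Γ) * x := by
    have h1 : (s₁ : Γ) ∈ pCore 5 Γ ⊓ Subgroup.centralizer ({x} : Set Γ) := by
      rw [hCeq]; exact s₁.2
    have h2 := (Subgroup.mem_inf.1 h1).2
    rw [Subgroup.mem_centralizer_singleton_iff] at h2
    exact h2.symm
  have hs₁5 : (s₁ : Γ) ^ 5 ^ 1 = 1 := by
    have h1 : s₁ ^ Nat.card (pCore 5 Γ) = 1 := pow_card_eq_one'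
    rw [hj] at h1
    rw [pow_one]
    exact_mod_cast congrArg Subtype.val h1
  have hs₁ne : (s₁ : Γ) ≠ 1 := fun h1 => hs₁1 (Subtype.ext h1)
  have hs₁cop : (orderOf (s₁ : Γ)).Coprime 3 := by
    have h1 : orderOf (s₁ : Γ) ∣ 5 := by
      have := orderOf_dvd_of_pow_eq_one hs₁5
      simpa using this
    exact Nat.Coprime.coprime_dvd_left h1 (by norm_num)
  -- the fixed space of `x` is invariant under `s₁`
  have hP : ∀ v : V, ρ x (ρ (s₁ : Γ) v) = ρ (s₁ : Γ) v ↔ ρ x v = v := by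
    intro v
    have h1 : ρ x (ρ (s₁ : Γ) v) = ρ (s₁ : Γ) (ρ x v) := by
      rw [← LinearEquiv.mul_apply, ← LinearEquiv.mul_apply, ← map_mul, ← map_mul, hs₁x]
    rw [h1]
    exact (ρ (s₁ : Γ)).injective.eq_iff
  have h1 := TL.card_fix_modEq (ρ := ρ) hs₁5 (fun v => ρ x v = v) hP
  have h2 : Nat.card {v : V // ρ x v = v ∧ ρ (s₁ : Γ) v = v} = 1 := by
    rw [Nat.card_eq_one_iff_unique]
    refine ⟨⟨fun a b => ?_⟩, ⟨⟨0, by simp⟩⟩⟩
    have ha : a.1 = 0 := by
      by_contra hne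
      exact hs₁ne (h.eq_one_of_fix hs₁cop hne a.2.2)
    have hb : b.1 = 0 := by
      by_contra hne
      exact hs₁ne (h.eq_one_of_fix hs₁cop hne b.2.2)
    exact Subtype.ext (by rw [ha, hb])
  rw [h2] at h1
  have h4 := TL.card_fix_modEq' (ρ := ρ) hx3
  rw [hV] at h4
  have h5 : Nat.card {v : V // ρ x v = v} ∣ 3 ^ 4 := by
    have := card_fix_dvd (ρ := ρ) x
    rw [hV] at this
    exact this
  obtain ⟨i, hi4, hi⟩ := (Nat.dvd_prime_pow Nat.prime_three).1 h5
  rw [hi] at h1 h4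
  have hi' : i = 4 := by
    interval_cases i
    · exact absurd h4 (by decide)
    · exact absurd h1 (by decide)
    · exact absurd h1 (by decide)
    · exact absurd h1 (by decide)
    · rfl
  have hx1 : x = 1 := by
    apply eq_one_of_card_fix h.inj
    rw [hi, hi', hV]; norm_num
  rw [hx1, orderOf_one] at hx
  omega

end Cfsg.Agent.Lib.Helper8.GagS
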