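import Mathlib
import Cfsg.Agent.Lib.Helper8.GagS6

/-!
# Transitive linear groups with `3`-group stabilizers on `3^2` points
-/

set_option autoImplicit false

namespace Cfsg.Agent.Lib.Helper8.GagS

open Cfsg

universe u v

variable {Γ : Type u} [Group Γ] {V : Type v} [AddCommGroup V] [Module (ZMod 3) V]
variable {ρ : Γ →* (V ≃ₗ[ZMod 3] V)}

/-- On `9` points, the stabilizer of a nonzero vector has order at most `3`. -/
theorem card_stab_le_of_card_9 [Finite Γ] [Finite V] (h : TL 3 ρ) (hV : Nat.card V = 9)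
    {v₀ : V} (hv₀ : v₀ ≠ 0) : Nat.card {g : Γ // ρ g v₀ = v₀} ≤ 8 := by
  classical
  haveI : Fintype V := Fintype.ofFinite V
  -- a vector outside `{0, v₀, -v₀}`
  have hex : ∃ w : V, w ≠ 0 ∧ w ≠ v₀ ∧ w ≠ -v₀ := by
    by_contra hcon
    push Not at hcon
    have hsub : (Finset.univ : Finset V) ⊆ {0, v₀, -v₀} := by
      intro w _
      by_cases h0 : w = 0
      · simp [h0]
      by_cases h1 : w = v₀
      · simp [h1]
      · have := hcon w h0 h1
        simp [this]
    have h1 := Finset.card_le_card hsub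
    have h2 : ({0, v₀, -v₀} : Finset V).card ≤ 3 := Finset.card_le_three
    rw [Finset.card_univ, ← Nat.card_eq_fintype_card, hV] at h1
    omega
  obtain ⟨w, hw0, hw1, hw2⟩ := hex
  -- an element fixing `v₀` and `w` is trivial
  have hfix : ∀ y : Γ, ρ y v₀ = v₀ → ρ y w = w → y = 1 := by
    intro y hy0 hyw
    apply eq_one_of_card_fix h.inj
    have hd := card_fix_dvd (ρ := ρ) y
    rw [hV] at hd ⊢
    have h4 : 4 ≤ Nat.card {v : V // ρ y v = v} := by
      have hinj : Function.Injective (fun i : Fin 4 =>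
          (match i with
            | 0 => (⟨0, by simp⟩ : {v : V // ρ y v = v})
            | 1 => ⟨v₀, hy0⟩
            | 2 => ⟨-v₀, by rw [map_neg, hy0]⟩
            | 3 => ⟨w, hyw⟩)) := by
        have hv₀' : v₀ ≠ -v₀ := by
          intro h1
          have h2 : (2 : ZMod 3) • v₀ = 0 := by
            rw [two_smul]
            nth_rewrite 2 [h1]
            exact add_neg_cancel v₀
          have h3 : (2 : ZMod 3) ≠ 0 := by decide
          exact hv₀ ((smul_eq_zero.1 h2).resolve_left h3)
        intro i j hij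
        fin_cases i <;> fin_cases j <;> simp_all [Subtype.ext_iff]
      have := Nat.card_le_card_of_injective _ hinj
      simpa using this
    have h9 : (9 : ℕ) = 3 ^ 2 := by norm_num
    rw [h9] at hd
    obtain ⟨i, hi2, hi⟩ := (Nat.dvd_prime_pow Nat.prime_three).1 hd
    rw [hi] at h4 ⊢
    interval_cases i <;> simp_all
  -- the stabilizer injects into the nonzero vectors
  have hinj : Function.Injective (fun g : {g : Γ // ρ g v₀ = v₀} =>
      (⟨ρ g.1 w, fun h0 => hw0 ((ρ g.1).map_eq_zero_iff.1 h0)⟩ : {v : V // v ≠ 0})) := by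
    intro a b hab
    have h1 : ρ a.1 w = ρ b.1 w := congrArg Subtype.val hab
    have h2 : b.1⁻¹ * a.1 = 1 := by
      apply hfix
      · rw [map_mul, LinearEquiv.mul_apply, a.2, map_inv, LinearEquiv.coe_inv,
          LinearEquiv.symm_apply_eq, b.2]
      · rw [map_mul, LinearEquiv.mul_apply, h1, map_inv, LinearEquiv.coe_inv,
          LinearEquiv.symm_apply_apply]
    exact Subtype.ext (inv_mul_eq_one.1 h2).symm
  have h1 := Nat.card_le_card_of_injective _ hinj
  have h2 : Nat.card {v : V // v ≠ 0} = 8 := by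
    have h3 : Nat.card {v : V // v ≠ 0} = Nat.card V - 1 := by
      rw [Nat.card_eq_fintype_card, Nat.card_eq_fintype_card, Fintype.card_subtype_compl,
        Fintype.card_subtype_eq]
    rw [h3, hV]
  rw [h2] at h1
  exact h1

theorem case_9 [Finite Γ] [Finite V] [Group.IsSolvable Γ] (h : TL 3 ρ)
    (hO : pCore 3 Γ = ⊥) (hV : Nat.card V = 9) :
    ∃ K : Subgroup Γ, K.Normal ∧ (Nat.card K).Coprime 3 ∧ ∀ g h : Γ, g * h * g⁻¹ * h⁻¹ ∈ K := by
  classical
  haveI : Fact (Nat.Prime 3) := ⟨Nat.prime_three⟩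
  haveI : Fact (Nat.Prime 2) := ⟨Nat.prime_two⟩
  haveI : Nontrivial V := by
    apply (Finite.one_lt_card_iff_nontrivial).1
    rw [hV]; norm_num
  obtain ⟨v₀, hv₀⟩ := exists_ne (0 : V)
  obtain ⟨c, hcs⟩ := h.card_stab hv₀
  have hc := h.card_eq_stab hv₀
  rw [hV, hcs] at hc
  have hc' : Nat.card Γ = 8 * 3 ^ c := by rw [hc]
  have hc1 : c ≤ 1 := by
    have h1 := card_stab_le_of_card_9 h hV hv₀
    rw [hcs] at h1
    by_contra hcon
    have h2 : 3 ^ 2 ≤ 3 ^ c := Nat.pow_le_pow_right (by norm_num) (by omega)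
    omega
  have hinv : ∀ z : Γ, z * z = 1 → z ≠ 1 → ∀ g : Γ, g * z = z * g := fun z hzz hz1 g =>
    h.involution_central (by norm_num) hzz hz1 g
  have hprimes : ∀ q : ℕ, q.Prime → q ∣ Nat.card Γ → q = 2 ∨ q = 3 := by
    intro q hq hqd
    rw [hc'] at hqd
    rcases (Nat.Prime.dvd_mul hq).1 hqd with h1 | h1
    · have h2 : q ∣ 2 ^ 3 := by norm_num; exact h1
      left; exact (Nat.prime_dvd_prime_iff_eq hq Nat.prime_two).1 (hq.dvd_of_dvd_pow h2)
    · right
      exact (Nat.prime_dvd_prime_iff_eq hq Nat.prime_three).1 (hq.dvd_of_dvd_pow h1)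
  have hT2 : IsPGroup 2 (pCore 2 Γ) := Cfsg.Agent.Lib.Lead.pCore_isPGroup 2
  obtain ⟨a, ha⟩ := IsPGroup.iff_card.1 hT2
  have ha3 : a ≤ 3 := by
    have h1 : 2 ^ a ∣ Nat.card Γ := by rw [← ha]; exact Subgroup.card_subgroup_dvd_card _
    rw [hc'] at h1
    have h2 : 2 ^ a ∣ 2 ^ 3 := by
      have := (Nat.Coprime.pow a c (by norm_num : Nat.Coprime 2 3)).dvd_of_dvd_mul_right h1
      simpa using this
    exact (Nat.pow_dvd_pow_iff_le_right (by norm_num)).1 h2
  by_cases ha2 : a ≤ 2
  · -- `Γ` has order prime to `3`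
    refine ⟨⊤, inferInstance, ?_, fun _ _ => Subgroup.mem_top _⟩
    rw [Subgroup.card_top, Nat.coprime_comm, Nat.Prime.coprime_iff_not_dvd Nat.prime_three]
    intro h3
    obtain ⟨x, hx⟩ := exists_prime_orderOf_dvd_card' 3 h3
    have hx3 : x ^ 3 ^ 1 = 1 := by
      have := pow_orderOf_eq_one x
      rwa [hx] at this
    have hx1 : x = 1 := by
      apply eq_one_of_centralizes_cores hx3 hO
      intro q hq hq3 t ht
      by_cases hq2 : q = 2
      · subst hq2
        refine centralizes_two_group hx3 (pCore 2 Γ) hT2 hinv a ha (by norm_num) ?_ t ht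
        intro k hk0 hka
        have hk1 : k = 1 := by omega
        rw [hk1]; decide
      · have hnd : ¬ q ∣ Nat.card Γ := by
          intro hqd
          rcases hprimes q hq hqd with h1 | h1
          · exact hq2 h1
          · exact hq3 h1
        haveI : Fact q.Prime := ⟨hq⟩
        rw [Cfsg.Agent.Lib.Lead.pCore_eq_bot_of_not_dvd q hnd] at ht
        have ht1 : t = 1 := by simpa using ht
        rw [ht1, one_mul, mul_one]
    rw [hx1, orderOf_one] at hx
    omega
  · -- `O_2(Γ)` is a normal Sylow `2`-subgroup with quotient of order at most `3`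
    have ha' : a = 3 := by omega
    rw [ha'] at ha
    refine ⟨pCore 2 Γ, inferInstance, by rw [ha]; norm_num, ?_⟩
    have hq : Nat.card (Γ ⧸ pCore 2 Γ) = 3 ^ c := by
      have h1 := (pCore 2 Γ).card_mul_index
      rw [ha, hc', Subgroup.index_eq_card] at h1
      have : (2 : ℕ) ^ 3 = 8 := by norm_num
      rw [this] at h1
      exact Nat.eq_of_mul_eq_mul_left (by norm_num) h1
    have hcomm : ∀ x y : Γ ⧸ pCore 2 Γ, x * y = y * x := by
      interval_cases c
      · rw [pow_zero] at hq
        haveI : Subsingleton (Γ ⧸ pCore 2 Γ) := (Nat.card_eq_one_iff_unique.1 hq).1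
        intro x y
        exact Subsingleton.elim _ _
      · rw [pow_one] at hq
        haveI := isCyclic_of_prime_card hq
        intro x y
        exact isMulCommutative_iff.1 IsCyclic.isMulCommutative x y
    intro g k
    rw [← QuotientGroup.eq_one_iff, QuotientGroup.mk_mul, QuotientGroup.mk_mul,
      QuotientGroup.mk_mul, QuotientGroup.mk_inv, QuotientGroup.mk_inv,
      hcomm (g : Γ ⧸ pCore 2 Γ) k]
    group

end Cfsg.Agent.Lib.Helper8.GagS
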