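import Mathlib
import Cfsg.Agent.Lib.Helper8.GagS1
import Cfsg.Agent.Lib.Helper8.GagS3
import Cfsg.Agent.Lib.Helper8.GagS4
import Cfsg.Agent.Lib.Helper8.GagS7
import Cfsg.Agent.S3360

/-!
# Solvable transitive linear groups with `p`-group stabilizers are `p`-nilpotent

A solvable group acting faithfully on a `ZMod p`-space, transitively on the nonzero vectors with
`p`-group stabilizers and with trivial `p`-core, has a normal `p`-complement and commutative
Sylow `p`-subgroups (Huppert's theorem on solvable transitive linear groups is the main input).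
-/

set_option autoImplicit false

namespace Cfsg.Agent.Lib.Helper8.GagS

open Cfsg

universe u v

/-- `p ^ d = q ^ 2` for primes `p`, `q`: then `p = q` and `d = 2`. -/
theorem eq_of_pow_eq_sq {p d q : ℕ} (hp : p.Prime) (hq : q.Prime) (h : p ^ d = q ^ 2) :
    p = q ∧ d = 2 := by
  have hd0 : d ≠ 0 := by
    intro h0
    rw [h0, pow_zero] at h
    have := Nat.one_lt_pow (n := 2) (by norm_num) hq.one_lt
    omega
  have h1 : p ∣ q ^ 2 := by rw [← h]; exact dvd_pow_self p hd0
  have h2 : p = q := (Nat.prime_dvd_prime_iff_eq hp hq).1 (hp.dvd_of_dvd_pow h1)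
  refine ⟨h2, ?_⟩
  rw [h2] at h
  exact Nat.pow_right_injective hq.two_le h

theorem main {p : ℕ} {Γ : Type u} [Group Γ] {V : Type v} [AddCommGroup V] [Module (ZMod p) V]
    {ρ : Γ →* (V ≃ₗ[ZMod p] V)} [Finite Γ] [Finite V] [Nontrivial V] [hp : Fact p.Prime]
    [hsol : Group.IsSolvable Γ] (h : TL p ρ) (hO : pCore p Γ = ⊥) :
    HasNormalPComplement p Γ ∧ ∀ Q : Sylow p Γ, IsMulCommutative (Q : Subgroup Γ) := by
  suffices hK : ∃ K : Subgroup Γ, K.Normal ∧ (Nat.card K).Coprime p ∧
      ∀ g k : Γ, g * k * g⁻¹ * k⁻¹ ∈ K by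
    obtain ⟨K, hKn, hKc, hKab⟩ := hK
    have := hKn
    exact ⟨npc_of_comm_mem K hKc hKab, fun Q => sylow_comm_of_comm_mem K hKc hKab Q⟩
  have htop : (Nat.card Γ).Coprime p → ∃ K : Subgroup Γ, K.Normal ∧ (Nat.card K).Coprime p ∧
      ∀ g k : Γ, g * k * g⁻¹ * k⁻¹ ∈ K := by
    intro hc
    exact ⟨⊤, inferInstance, by rw [Subgroup.card_top]; exact hc, fun _ _ => Subgroup.mem_top _⟩
  have hcardV : Nat.card V = p ^ Module.finrank (ZMod p) V := by
    rw [Module.natCard_eq_pow_finrank (K := ZMod p) (V := V), Nat.card_zmod]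
  rcases Cfsg.Agent.S3360.result p hsol ρ h.inj h.trans with ⟨F, _, _, e, hsl⟩ | hcard
  · exact semilinear_case h.inj e hsl
  · simp only [Set.mem_insert_iff, Set.mem_singleton_iff] at hcard
    have hdim2 : ∀ q : ℕ, q.Prime → 5 ≤ q → Nat.card V = q ^ 2 →
        ∃ K : Subgroup Γ, K.Normal ∧ (Nat.card K).Coprime p ∧
          ∀ g k : Γ, g * k * g⁻¹ * k⁻¹ ∈ K := by
      intro q hq hq5 hVq
      rw [hcardV] at hVq
      obtain ⟨hpq, hd⟩ := eq_of_pow_eq_sq hp.out hq hVq
      exact htop (coprime_of_dim_two h.inj hO hd (hpq ▸ hq5))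
    rcases hcard with h9 | h25 | h49 | h121 | h529 | h81
    · have hp3 : p = 3 := by
        have h1 : p ^ Module.finrank (ZMod p) V = 3 ^ 2 := by rw [← hcardV, h9]; norm_num
        exact (eq_of_pow_eq_sq hp.out Nat.prime_three h1).1
      subst hp3
      exact case_9 h hO h9
    · exact hdim2 5 (by norm_num) (by norm_num) (by rw [h25]; norm_num)
    · exact hdim2 7 (by norm_num) (by norm_num) (by rw [h49]; norm_num)
    · exact hdim2 11 (by norm_num) (by norm_num) (by rw [h121]; norm_num)
    · exact hdim2 23 (by norm_num) (by norm_num) (by rw [h529]; norm_num)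
    · have hp3 : p = 3 := by
        have h1 : p ^ Module.finrank (ZMod p) V = 9 ^ 2 := by rw [← hcardV, h81]; norm_num
        have hd0 : Module.finrank (ZMod p) V ≠ 0 := by
          intro h0
          rw [h0, pow_zero] at h1
          omega
        have h2 : p ∣ 3 ^ 4 := by
          have : (9 : ℕ) ^ 2 = 3 ^ 4 := by norm_num
          rw [← this, ← h1]; exact dvd_pow_self p hd0
        exact (Nat.prime_dvd_prime_iff_eq hp.out Nat.prime_three).1 (hp.out.dvd_of_dvd_pow h2)
      subst hp3
      exact htop (coprime_of_card_81 h hO h81)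

end Cfsg.Agent.Lib.Helper8.GagS
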