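import Mathlib
import Cfsg.Prelude.Def_Characters
import Cfsg.Agent.Lib.Helper8.TC2

/-!
# Gagola characters: centralizers of elements of `N` are Sylow subgroups
-/

set_option autoImplicit false

namespace Cfsg.Agent.Lib.Helper8

open Cfsg
open scoped ComplexConjugate
open Cfsg.Agent.Lib.Helper1 Cfsg.Agent.Lib.Helper4

universe u

section

variable {G : Type u} [Group G]

theorem orderOf_eq_of_isConj {a b : G} (h : IsConj a b) : orderOf a = orderOf b := by
  obtain ⟨c, hc⟩ := isConj_iff.1 h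
  rw [← hc]
  have := orderOf_injective (MulAut.conj c).toMonoidHom (MulAut.conj c).injective a
  simpa using this.symm

namespace Gagola

variable {χ : IrrCharacter G} {N : Subgroup G} {g₀ : G}

/-- The order of `N`. -/
theorem exists_card_N [Finite G] (_h : Gagola χ N g₀) {p : ℕ} [hp : Fact p.Prime]
    (hNp : IsPGroup p N) (hN1 : N ≠ ⊥) : ∃ m : ℕ, m ≠ 0 ∧ Nat.card N = p ^ m := by
  obtain ⟨m, hm⟩ := IsPGroup.iff_card.1 hNp
  refine ⟨m, ?_, hm⟩
  rintro rfl
  rw [pow_zero] at hm
  exact hN1 (Subgroup.card_eq_one.1 hm)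

/-- Prime divisors of the order of the centralizer of an element of `N`. -/
theorem prime_dvd_centralizer [Finite G] (h : Gagola χ N g₀) {p : ℕ} [hp : Fact p.Prime]
    (hNp : IsPGroup p N) {x : G} (hx : x ∈ N) (hx1 : x ≠ 1) {q : ℕ} (hq : q.Prime)
    (hqd : q ∣ Nat.card (Subgroup.centralizer ({x} : Set G))) : q = p := by
  by_contra hqp
  haveI : Fact q.Prime := ⟨hq⟩
  obtain ⟨y', hy'⟩ := exists_prime_orderOf_dvd_card' q hqd
  set y : G := (y' : G) with hy
  have hyo : orderOf y = q := by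
    rw [hy, Subgroup.orderOf_coe, hy']
  have hcomm : Commute y x := by
    have := Subgroup.mem_centralizer_iff.1 y'.2 x (Set.mem_singleton x)
    exact this.symm
  -- order of x
  obtain ⟨j, hj⟩ := hNp ⟨x, hx⟩
  have hxj : x ^ p ^ j = 1 := by
    have := congrArg Subtype.val hj
    simpa using this
  obtain ⟨i, -, hi⟩ := (Nat.dvd_prime_pow hp.out).1 (orderOf_dvd_of_pow_eq_one hxj)
  have hi0 : i ≠ 0 := by
    rintro rfl
    rw [pow_zero] at hi
    exact hx1 (orderOf_eq_one_iff.1 hi)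
  have hcop : Nat.Coprime q p := (Nat.coprime_primes hq hp.out).2 hqp
  -- y is not in N
  have hyN : y ∉ N := by
    intro hyN
    obtain ⟨k, hk⟩ := hNp ⟨y, hyN⟩
    have hyk : y ^ p ^ k = 1 := by
      have := congrArg Subtype.val hk
      simpa using this
    have h1 : q ∣ p ^ k := hyo ▸ orderOf_dvd_of_pow_eq_one hyk
    have h2 : q ∣ p := hq.dvd_of_dvd_pow h1
    exact hqp ((Nat.prime_dvd_prime_iff_eq hq hp.out).1 h2)
  have hconj := h.isConj_mul hyN hx
  have h1 := orderOf_eq_of_isConj hconj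
  have h2 : orderOf (y * x) = orderOf y * orderOf x := by
    apply Commute.orderOf_mul_eq_mul_orderOf_of_coprime hcomm
    rw [hyo, hi]
    exact Nat.Coprime.pow_right i hcop
  rw [h2, hyo, hi] at h1
  have h3 : p ^ i = 1 := by
    have hq0 : 0 < q := hq.pos
    have : q * 1 = q * p ^ i := by rw [mul_one]; exact h1
    exact (Nat.eq_of_mul_eq_mul_left hq0 this).symm
  have h4 : 1 < p ^ i := Nat.one_lt_pow hi0 hp.out.one_lt
  omega

/-- The centralizer of a nonidentity element of `N` has the order of a Sylow `p`-subgroup. -/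
theorem card_centralizer [Finite G] (h : Gagola χ N g₀) {p : ℕ} [hp : Fact p.Prime]
    (hNp : IsPGroup p N) (hN1 : N ≠ ⊥) {x : G} (hx : x ∈ N) (hx1 : x ≠ 1) :
    Nat.card (Subgroup.centralizer ({x} : Set G)) = p ^ (Nat.card G).factorization p := by
  have hC0 : Nat.card (Subgroup.centralizer ({x} : Set G)) ≠ 0 := Nat.card_pos.ne'
  have hpow := Nat.eq_prime_pow_of_unique_prime_dvd hC0
    (fun {d} hd hdd => h.prime_dvd_centralizer hNp hx hx1 hd hdd)
  set k := (Nat.card (Subgroup.centralizer ({x} : Set G))).primeFactorsList.length with hk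
  obtain ⟨m, hm0, hm⟩ := h.exists_card_N hNp hN1
  have hcard := h.card_eq hx hx1
  rw [hm, hpow] at hcard
  have hnd : ¬ p ∣ p ^ m - 1 := by
    intro hd
    have h1 : p ∣ p ^ m := dvd_pow_self p hm0
    have h2 : 1 ≤ p ^ m := Nat.one_le_pow _ _ hp.out.pos
    have h3 : p ∣ p ^ m - (p ^ m - 1) := Nat.dvd_sub h1 hd
    have h4 : p ^ m - (p ^ m - 1) = 1 := by omega
    rw [h4] at h3
    exact hp.out.one_lt.ne' (Nat.dvd_one.1 h3)
  have hne0 : p ^ m - 1 ≠ 0 := by
    intro h0
    exact hnd (h0 ▸ dvd_zero p)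
  rw [hpow, ← hcard, Nat.factorization_mul hne0 (pow_pos hp.out.pos k).ne', Finsupp.add_apply,
    Nat.factorization_eq_zero_of_not_dvd hnd, zero_add, hp.out.factorization_pow]
  simp

/-- The centralizer of a nonidentity element of `N` is a Sylow `p`-subgroup. -/
theorem exists_sylow_centralizer [Finite G] (h : Gagola χ N g₀) {p : ℕ} [hp : Fact p.Prime]
    (hNp : IsPGroup p N) (hN1 : N ≠ ⊥) {x : G} (hx : x ∈ N) (hx1 : x ≠ 1) :
    ∃ P : Sylow p G, Subgroup.centralizer ({x} : Set G) = P :=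
  ⟨Sylow.ofCard _ (h.card_centralizer hNp hN1 hx hx1), rfl⟩

end Gagola

end

end Cfsg.Agent.Lib.Helper8
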