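import Mathlib
import Cfsg.Prelude.Def_Characters
import Cfsg.Agent.Lib.Helper8.TC3
import Cfsg.Agent.Lib.Helper8.CD4
import Cfsg.Agent.Lib.Helper1.CliffordCorr
import Cfsg.Agent.Lib.Helper4.AbelianIrr

/-!
# Gagola characters: inertia groups of the characters of `N`
-/

set_option autoImplicit false

namespace Cfsg.Agent.Lib.Helper8

open Cfsg
open scoped ComplexConjugate
open Cfsg.Agent.Lib.Helper1 Cfsg.Agent.Lib.Helper4 Cfsg.Agent.S0193

universe u

section

variable {G : Type u} [Group G]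

namespace Gagola

variable {χ : IrrCharacter G} {N : Subgroup G} {g₀ : G}

/-- `N` is abelian. -/
theorem comm [Finite G] (h : Gagola χ N g₀) {p : ℕ} [hp : Fact p.Prime]
    (hNp : IsPGroup p N) (hN1 : N ≠ ⊥) : ∀ a b : N, a * b = b * a := by
  haveI := h.normal
  have hNnt : Nontrivial N := (Subgroup.nontrivial_iff_ne_bot N).mpr hN1
  have hZnt : Nontrivial (Subgroup.center N) := hNp.center_nontrivial
  obtain ⟨Z, hZ⟩ : ∃ Z, Z = (Subgroup.center N).map N.subtype := ⟨_, rfl⟩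
  have hZn : Z.Normal := hZ ▸ ConjAct.normal_of_characteristic_of_normal
  have hZne : Z ≠ ⊥ := by
    rw [hZ]
    intro hb
    rw [Subgroup.map_eq_bot_iff_of_injective _ N.subtype_injective] at hb
    exact (Subgroup.nontrivial_iff_ne_bot _).mp hZnt hb
  have hg₀Z : g₀ ∈ Z := h.tc.mem_of_normal Z hZne
  have hNZ : ∀ x ∈ N, x ∈ Z := by
    intro x hx
    by_cases hx1 : x = 1
    · rw [hx1]; exact Z.one_mem
    · obtain ⟨c, hc⟩ := isConj_iff.1 (h.isConj_of_mem hx hx1)
      rw [← hc]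
      exact hZn.conj_mem _ hg₀Z c
  intro a b
  obtain ⟨a', ha', haa⟩ := Subgroup.mem_map.mp (hZ ▸ hNZ a a.2)
  have : a' = a := Subtype.ext haa
  rw [← this]
  exact (Subgroup.mem_center_iff.mp ha' b).symm

/-- The basic relation `χ 1 + (|N| - 1) χ g₀ = 0`. -/
theorem apply_one_add [Finite G] (h : Gagola χ N g₀) :
    (χ : G → ℂ) 1 + ((Nat.card N : ℂ) - 1) * (χ : G → ℂ) g₀ = 0 := by
  classical
  haveI : Fintype G := Fintype.ofFinite _
  have e1 := h.tc.orth (trivIrr G) (h.tc.ne_triv h.big).symm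
  simp only [trivIrr_apply, map_one, mul_one] at e1
  have hcard : ((Finset.univ.filter (IsConj g₀)).card : ℂ) = (Nat.card N : ℂ) - 1 := by
    have h1 := h.card_class h.g₀_mem h.tc.ne_one
    rw [Nat.card_eq_fintype_card, Fintype.card_subtype] at h1
    rw [h1, Nat.cast_sub Nat.card_pos]
    simp
  rw [hcard] at e1
  exact e1

theorem apply_of_mem (h : Gagola χ N g₀) {x : G} (hx : x ∈ N) (hx1 : x ≠ 1) :
    (χ : G → ℂ) x = (χ : G → ℂ) g₀ := by
  obtain ⟨c, hc⟩ := isConj_iff.1 (h.isConj_of_mem hx hx1)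
  rw [← hc]
  exact isClassFunction_irr χ.2 g₀ c

end Gagola

/-- The sum of the values of a nontrivial irreducible character vanishes. -/
theorem sum_irr_eq_zero {H : Type u} [Group H] [Fintype H] (μ : IrrCharacter H)
    (hμ : (μ : H → ℂ) ≠ (fun _ => (1 : ℂ))) : ∑ n : H, (μ : H → ℂ) n = 0 := by
  have h1 : (μ : H → ℂ) ≠ ((trivIrr H : IrrCharacter H) : H → ℂ) := by
    intro h2
    apply hμ
    rw [h2]
    funext x
    exact trivIrr_apply x
  have h0 := classInner_irr_ne μ.2 (trivIrr H).2 h1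
  rw [classInner_def] at h0
  have hH0 : ((Nat.card H : ℂ))⁻¹ ≠ 0 := inv_ne_zero (Nat.cast_ne_zero.2 Nat.card_pos.ne')
  have h2 := (mul_eq_zero.1 h0).resolve_left hH0
  simpa [trivIrr_apply] using h2

namespace Gagola

variable {χ : IrrCharacter G} {N : Subgroup G} {g₀ : G}

/-- The multiplicity of a nontrivial character of `N` in `χ`. -/
theorem classInner_res [Fintype G] [Fintype N] (h : Gagola χ N g₀) (μ : IrrCharacter N)
    (hμ : (μ : N → ℂ) ≠ (fun _ => (1 : ℂ))) (hμ1 : (μ : N → ℂ) 1 = 1) :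
    classInner (fun n : N => (χ : G → ℂ) n) (μ : N → ℂ) = -(χ : G → ℂ) g₀ := by
  classical
  rw [classInner_def]
  have hN0 : (Nat.card N : ℂ) ≠ 0 := Nat.cast_ne_zero.2 Nat.card_pos.ne'
  have hsum : ∑ n : N, (χ : G → ℂ) n * conj ((μ : N → ℂ) n)
      = (χ : G → ℂ) 1 - (χ : G → ℂ) g₀ := by
    have h1 : ∀ n : N, (χ : G → ℂ) n * conj ((μ : N → ℂ) n)
        = (χ : G → ℂ) g₀ * conj ((μ : N → ℂ) n)
          + (if n = 1 then ((χ : G → ℂ) 1 - (χ : G → ℂ) g₀) else 0) := by
      intro n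
      by_cases hn : n = 1
      · rw [if_pos hn, hn, hμ1]
        simp
      · rw [if_neg hn, add_zero]
        have hn' : (n : G) ≠ 1 := fun h1 => hn (Subtype.ext h1)
        rw [h.apply_of_mem n.2 hn']
    rw [Finset.sum_congr rfl (fun n _ => h1 n), Finset.sum_add_distrib, ← Finset.mul_sum,
      ← map_sum, sum_irr_eq_zero μ hμ]
    simp
  rw [hsum]
  have h2 := h.apply_one_add
  have h3 : (χ : G → ℂ) 1 - (χ : G → ℂ) g₀ = -(Nat.card N : ℂ) * (χ : G → ℂ) g₀ := by
    linear_combination h2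
  rw [h3]
  field_simp

/-- Other characters do not contain nontrivial characters of `N`. -/
theorem classInner_res_other [Fintype G] [Fintype N] (h : Gagola χ N g₀) (μ : IrrCharacter N)
    (hμ : (μ : N → ℂ) ≠ (fun _ => (1 : ℂ))) (ψ : IrrCharacter G) (hψ : ψ ≠ χ) :
    classInner (fun n : N => (ψ : G → ℂ) n) (μ : N → ℂ) = 0 := by
  rw [classInner_def]
  have h1 : ∀ n : N, (ψ : G → ℂ) n * conj ((μ : N → ℂ) n)
      = (ψ : G → ℂ) 1 * conj ((μ : N → ℂ) n) := by
    intro n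
    rw [h.ker ψ hψ n.2]
  rw [Finset.sum_congr rfl (fun n _ => h1 n), ← Finset.mul_sum, ← map_sum, sum_irr_eq_zero μ hμ]
  simp

/-- The induced character of a nontrivial character of `N` is a multiple of `χ`. -/
theorem indFun_eq [Fintype G] [Fintype N] (h : Gagola χ N g₀) (μ : IrrCharacter N)
    (hμ : (μ : N → ℂ) ≠ (fun _ => (1 : ℂ))) (hμ1 : (μ : N → ℂ) 1 = 1) :
    indFun N (μ : N → ℂ) = conj (-(χ : G → ℂ) g₀) • (χ : G → ℂ) := by
  classical
  haveI : Fintype (IrrCharacter G) := Fintype.ofFinite _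
  have hexp := class_function_expansion (indFun N (μ : N → ℂ)) (indFun_isClassFunction N _)
  have hco : ∀ ψ : IrrCharacter G, classInner (indFun N (μ : N → ℂ)) (ψ : G → ℂ)
      = conj (classInner (fun n : N => (ψ : G → ℂ) n) (μ : N → ℂ)) := by
    intro ψ
    rw [Cfsg.Agent.S0146.result N (μ : N → ℂ) (ψ : G → ℂ) (isClassFunction_irr ψ.2),
      classInner_conj_symm]
  rw [hexp, Finset.sum_eq_single χ]
  · rw [hco χ, h.classInner_res μ hμ hμ1]
  · intro ψ _ hψ
    rw [hco ψ, h.classInner_res_other μ hμ ψ hψ]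
    simp
  · intro h1
    exact absurd (Finset.mem_univ χ) h1

/-- The order of the stabilizer of a nontrivial character of `N`. -/
theorem card_stab_mul [Fintype G] [hNn : N.Normal] (h : Gagola χ N g₀) (μ : IrrCharacter N)
    (hμ : (μ : N → ℂ) ≠ (fun _ => (1 : ℂ))) (hμ1 : (μ : N → ℂ) 1 = 1) :
    (Nat.card N - 1) * Nat.card {g : G // ∀ n : N, (μ : N → ℂ)
      ⟨g * n * g⁻¹, hNn.conj_mem n n.2 g⟩ = (μ : N → ℂ) n} = Nat.card G := by
  classical
  haveI : Fintype N := Fintype.ofFinite _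
  have h1 := Cfsg.Agent.S0193.result N (μ : N → ℂ) μ.2
  have h2 := h.indFun_eq μ hμ hμ1
  set c : ℂ := -(χ : G → ℂ) g₀ with hc
  rw [h2, classInner_smul_left, classInner_smul_right, classInner_irr_self χ.2, mul_one,
    Complex.conj_conj] at h1
  -- value at one
  have h3 := indFun_apply_one_nat N (μ : N → ℂ) (x := 1) (by rw [hμ1]; simp)
  rw [h2, Pi.smul_apply, smul_eq_mul, mul_one] at h3
  have h4 := h.apply_one_add
  have h5 : (χ : G → ℂ) 1 = ((Nat.card N : ℂ) - 1) * c := by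
    rw [hc]
    linear_combination h4
  rw [h5] at h3
  have hNG : (Nat.card G : ℂ) = (N.index : ℂ) * (Nat.card N : ℂ) := by
    exact_mod_cast (Subgroup.index_mul_card N).symm
  have hgoal : (((Nat.card N - 1) * Nat.card {g : G // ∀ n : N, (μ : N → ℂ)
      ⟨g * n * g⁻¹, hNn.conj_mem n n.2 g⟩ = (μ : N → ℂ) n} : ℕ) : ℂ) = (Nat.card G : ℂ) := by
    push_cast
    rw [Nat.cast_sub Nat.card_pos, ← h1, hNG, ← h3]
    push_cast
    ring
  exact_mod_cast hgoal

end Gagola

end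

end Cfsg.Agent.Lib.Helper8
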