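import Mathlib
import Cfsg.Prelude.Def_Characters
import Cfsg.Agent.Lib.Helper8.TC4

/-!
# Gagola characters: inertia groups are Sylow subgroups
-/

set_option autoImplicit false

namespace Cfsg.Agent.Lib.Helper8

open Cfsg
open scoped ComplexConjugate
open Cfsg.Agent.Lib.Helper1 Cfsg.Agent.Lib.Helper4 Cfsg.Agent.S0193

universe u

section

variable {G : Type u} [Group G]

namespace Gagola

variable {χ : IrrCharacter G} {N : Subgroup G} {g₀ : G}

theorem exists_sylow_inertia [Finite G] [hNn : N.Normal] (h : Gagola χ N g₀) {p : ℕ}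
    [hp : Fact p.Prime] (hNp : IsPGroup p N) (hN1 : N ≠ ⊥) (μ : IrrCharacter N)
    (hμ : (μ : N → ℂ) ≠ (fun _ => (1 : ℂ))) :
    ∃ P : Sylow p G, ∀ g : G, g ∈ (P : Subgroup G) ↔
      ∀ n n' : N, (n' : G) = g * n * g⁻¹ → (μ : N → ℂ) n' = (μ : N → ℂ) n := by
  classical
  haveI : Fintype G := Fintype.ofFinite _
  have hμ1 : (μ : N → ℂ) 1 = 1 := by
    obtain ⟨φ, hφ⟩ := exists_hom_of_comm (h.comm hNp hN1) μ.2
    rw [hφ]
    simp
  have h1 := h.card_stab_mul μ hμ hμ1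
  have h2 := h.card_eq h.g₀_mem h.tc.ne_one
  have h3 := h.card_centralizer hNp hN1 h.g₀_mem h.tc.ne_one
  obtain ⟨m, hm0, hm⟩ := h.exists_card_N hNp hN1
  have hpos : 0 < Nat.card N - 1 := by
    rw [hm]
    have : 1 < p ^ m := Nat.one_lt_pow hm0 hp.out.one_lt
    omega
  have h4 : Nat.card {g : G // ∀ n : N, (μ : N → ℂ)
      ⟨g * n * g⁻¹, hNn.conj_mem n n.2 g⟩ = (μ : N → ℂ) n}
      = Nat.card (Subgroup.centralizer ({g₀} : Set G)) :=
    Nat.eq_of_mul_eq_mul_left hpos (h1.trans h2.symm)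
  have hmem : ∀ g : G, g ∈ inertia N (μ : N → ℂ) ↔ ∀ n : N, (μ : N → ℂ)
      ⟨g * n * g⁻¹, hNn.conj_mem n n.2 g⟩ = (μ : N → ℂ) n := by
    intro g
    rw [mem_inertia]
    constructor
    · intro hg n
      exact congrFun hg n
    · intro hg
      funext n
      exact hg n
  have h5 : Nat.card (inertia N (μ : N → ℂ)) = p ^ (Nat.card G).factorization p := by
    rw [← h3, ← h4]
    exact Nat.card_congr (Equiv.subtypeEquivRight hmem)
  refine ⟨Sylow.ofCard _ h5, ?_⟩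
  intro g
  rw [Sylow.coe_ofCard, hmem]
  constructor
  · intro hg n n' hn'
    have : n' = ⟨g * n * g⁻¹, hNn.conj_mem n n.2 g⟩ := Subtype.ext hn'
    rw [this]
    exact hg n
  · intro hg n
    exact hg n ⟨g * n * g⁻¹, hNn.conj_mem n n.2 g⟩ rfl

/-- Building the setting from the hypotheses of the statements. -/
theorem mk' [Finite G] (hG : 2 < Nat.card G) (χ : IrrCharacter G)
    (hχ : Nat.card {C : ConjClasses G // ∃ g ∈ C.carrier, (χ : G → ℂ) g ≠ 0} = 2)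
    (N : Subgroup G) [hNn : N.Normal] (hN : ∀ g : G, g ∈ N ↔ (χ : G → ℂ) g ≠ 0) :
    ∃ g₀ : G, Gagola χ N g₀ := by
  obtain ⟨g₀, hg₀, hχg₀, hsupp⟩ := exists_of_two_classes χ hχ
  exact ⟨g₀, ⟨⟨hg₀, hχg₀, hsupp⟩, hG, hNn, hN⟩⟩

end Gagola

end

end Cfsg.Agent.Lib.Helper8
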