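import Mathlib
import Cfsg.Prelude.Def_Characters
import Cfsg.Agent.Lib.Helper8.TC5

/-!
# Gagola characters: centralizers of elements outside `N`
-/

set_option autoImplicit false

namespace Cfsg.Agent.Lib.Helper8

open Cfsg
open scoped ComplexConjugate
open Cfsg.Agent.Lib.Helper1 Cfsg.Agent.Lib.Helper4

universe u

section

variable {G : Type u} [Group G]

/-- The order of the full preimage of a subgroup of a quotient. -/
theorem card_comap_mk' [Finite G] (N : Subgroup G) [N.Normal] (C : Subgroup (G ⧸ N)) :
    Nat.card (C.comap (QuotientGroup.mk' N)) = Nat.card N * Nat.card C := by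
  have h1 : (C.comap (QuotientGroup.mk' N)).index = C.index :=
    Subgroup.index_comap_of_surjective C (QuotientGroup.mk'_surjective N)
  have h2 := Subgroup.card_mul_index (C.comap (QuotientGroup.mk' N))
  have h3 := Subgroup.card_mul_index C
  have h4 := Subgroup.card_eq_card_quotient_mul_card_subgroup N
  have hpos : 0 < C.index := Nat.pos_of_ne_zero Subgroup.index_ne_zero_of_finite
  rw [h1] at h2
  have h5 : Nat.card (C.comap (QuotientGroup.mk' N)) * C.index
      = (Nat.card N * Nat.card C) * C.index := by
    rw [h2, h4, ← h3]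
    ring
  exact Nat.eq_of_mul_eq_mul_right hpos h5

namespace Gagola

variable {χ : IrrCharacter G} {N : Subgroup G} {g₀ : G}

/-- For `x` outside `N`, the centralizers of `x` in `G` and of its image in `G ⧸ N` have the same
order. -/
theorem card_centralizer_quotient [Finite G] [hNn : N.Normal] (h : Gagola χ N g₀) {x : G}
    (hx : x ∉ N) :
    Nat.card (Subgroup.centralizer ({x} : Set G))
      = Nat.card (Subgroup.centralizer ({(x : G ⧸ N)} : Set (G ⧸ N))) := by
  classical
  set C : Subgroup (G ⧸ N) := Subgroup.centralizer ({(x : G ⧸ N)} : Set (G ⧸ N)) with hC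
  set D : Subgroup G := C.comap (QuotientGroup.mk' N) with hD
  have hmemD : ∀ g : G, g ∈ D ↔ (g : G ⧸ N) * (x : G ⧸ N) = (x : G ⧸ N) * (g : G ⧸ N) := by
    intro g
    rw [hD, Subgroup.mem_comap, hC, Subgroup.mem_centralizer_iff]
    constructor
    · intro h1
      exact (h1 _ (Set.mem_singleton _)).symm
    · intro h1 y hy
      rw [Set.mem_singleton_iff] at hy
      rw [hy]
      exact h1.symm
  have hxD : x ∈ D := (hmemD x).2 rfl
  set xD : D := ⟨x, hxD⟩ with hxDdef
  -- the class of x in D
  have hmemN : ∀ g : G, g ∈ D → x⁻¹ * (g * x * g⁻¹) ∈ N := by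
    intro g hg
    rw [← QuotientGroup.eq]
    have h1 := (hmemD g).1 hg
    show (x : G ⧸ N) = ((g * x * g⁻¹ : G) : G ⧸ N)
    rw [QuotientGroup.mk_mul, QuotientGroup.mk_mul, QuotientGroup.mk_inv, h1]
    group
  have hstep1 : Nat.card {v : D // IsConj xD v} = Nat.card N := by
    apply Nat.card_congr
    refine
      { toFun := fun v => ⟨x⁻¹ * (v.1 : G), ?_⟩
        invFun := fun n => ⟨⟨x * (n : G), ?_⟩, ?_⟩
        left_inv := ?_
        right_inv := ?_ }
    · obtain ⟨c, hc⟩ := isConj_iff.1 v.2
      have h1 : ((c : G)) * x * (c : G)⁻¹ = (v.1 : G) := by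
        have := congrArg Subtype.val hc
        simpa using this
      rw [← h1]
      exact hmemN c c.2
    · rw [hmemD]
      have h1 : ((x * (n : G) : G) : G ⧸ N) = (x : G ⧸ N) := by
        rw [QuotientGroup.mk_mul, (QuotientGroup.eq_one_iff (n : G)).2 n.2, mul_one]
      rw [h1]
    · obtain ⟨g, hg⟩ := isConj_iff.1 (h.isConj_mul hx n.2)
      have hgD : g ∈ D := by
        rw [hmemD]
        have h1 : ((g * x * g⁻¹ : G) : G ⧸ N) = (x : G ⧸ N) := by
          rw [hg, QuotientGroup.mk_mul, (QuotientGroup.eq_one_iff (n : G)).2 n.2, mul_one]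
        rw [QuotientGroup.mk_mul, QuotientGroup.mk_mul, QuotientGroup.mk_inv] at h1
        calc (g : G ⧸ N) * (x : G ⧸ N)
            = ((g : G ⧸ N) * (x : G ⧸ N) * (g : G ⧸ N)⁻¹) * (g : G ⧸ N) := by group
          _ = (x : G ⧸ N) * (g : G ⧸ N) := by rw [h1]
      rw [isConj_iff]
      refine ⟨⟨g, hgD⟩, ?_⟩
      apply Subtype.ext
      simpa using hg
    · intro v
      apply Subtype.ext
      apply Subtype.ext
      simp
    · intro n
      apply Subtype.ext
      simp
  have hstep2 : Nat.card (Subgroup.centralizer ({xD} : Set D))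
      = Nat.card (Subgroup.centralizer ({x} : Set G)) := by
    apply Nat.card_congr
    refine
      { toFun := fun c => ⟨(c.1 : G), ?_⟩
        invFun := fun c => ⟨⟨(c : G), ?_⟩, ?_⟩
        left_inv := fun c => rfl
        right_inv := fun c => rfl }
    · rw [Subgroup.mem_centralizer_iff]
      intro y hy
      rw [Set.mem_singleton_iff] at hy
      rw [hy]
      have h1 := Subgroup.mem_centralizer_iff.1 c.2 xD (Set.mem_singleton _)
      have := congrArg Subtype.val h1
      simpa using this
    · rw [hmemD]
      have h1 := Subgroup.mem_centralizer_iff.1 c.2 x (Set.mem_singleton _)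
      rw [← QuotientGroup.mk_mul, ← QuotientGroup.mk_mul, h1]
    · rw [Subgroup.mem_centralizer_iff]
      intro y hy
      rw [Set.mem_singleton_iff] at hy
      rw [hy]
      apply Subtype.ext
      have h1 := Subgroup.mem_centralizer_iff.1 c.2 x (Set.mem_singleton _)
      simpa using h1
  have hstep3 := card_isConj_mul_card_centralizer xD
  rw [hstep1, hstep2, hD, card_comap_mk' N C] at hstep3
  exact Nat.eq_of_mul_eq_mul_left Nat.card_pos hstep3

end Gagola

end

end Cfsg.Agent.Lib.Helper8
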