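import Mathlib
import Cfsg.Agent.Lib.Helper1.ConjCount
import Cfsg.Agent.Lib.Helper1.Conj

/-!
# A criterion for a subgroup to be a term of the upper central series
-/

set_option autoImplicit false

namespace Cfsg.Agent.Lib.Helper8

open Cfsg.Agent.Lib.Helper1
open scoped commutatorElement

universe u

section

variable {P : Type u} [Group P]

/-- The class of an element of `Z_{i+1}` injects into `Z_i`. -/
theorem card_class_le_of_mem_upperCentralSeries [Finite P] {i : ℕ} {z : P}
    (hz : z ∈ Subgroup.upperCentralSeries P (i + 1)) :
    Nat.card {v : P // IsConj z v} ≤ Nat.card (Subgroup.upperCentralSeries P i) := by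
  apply Nat.card_le_card_of_injective
    (fun v : {v : P // IsConj z v} => (⟨z * (v : P)⁻¹, by
      obtain ⟨c, hc⟩ := isConj_iff.1 v.2
      have h1 := Subgroup.mem_upperCentralSeries_succ_iff.1 hz c
      rw [← hc]
      have h2 : z * (c * z * c⁻¹)⁻¹ = ⁅z, c⁆ := by
        rw [commutatorElement_def]
        group
      rw [h2]
      exact h1⟩ : Subgroup.upperCentralSeries P i))
  intro v w hvw
  apply Subtype.ext
  have h1 : z * (v : P)⁻¹ = z * (w : P)⁻¹ := congrArg Subtype.val hvw
  have h2 := mul_left_cancel h1
  exact inv_injective h2

/-- If every element outside `M` has at least `|M|` conjugates, then `M` is a term of the upper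
central series of the nilpotent group `P`. -/
theorem exists_upperCentralSeries_eq [Finite P] [hnil : Group.IsNilpotent P] (M : Subgroup P)
    (hM : ∀ z : P, z ∉ M → Nat.card M ≤ Nat.card {v : P // IsConj z v}) :
    ∃ i : ℕ, Subgroup.upperCentralSeries P i = M := by
  have hclaim : ∀ i : ℕ, (∃ j : ℕ, Subgroup.upperCentralSeries P j = M) ∨
      Subgroup.upperCentralSeries P i ≤ M := by
    intro i
    induction i with
    | zero =>
      right
      rw [Subgroup.upperCentralSeries_zero]
      exact bot_le
    | succ i ih =>
      rcases ih with h | h
      · exact Or.inl h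
      · by_cases heq : Subgroup.upperCentralSeries P i = M
        · exact Or.inl ⟨i, heq⟩
        · right
          have hlt : Subgroup.upperCentralSeries P i < M := lt_of_le_of_ne h heq
          have hcard : Nat.card (Subgroup.upperCentralSeries P i) < Nat.card M := by
            obtain ⟨s, hsM, hsZ⟩ := SetLike.exists_of_lt hlt
            exact card_lt_of_le_of_mem h hsM hsZ
          intro z hz
          by_contra hzM
          have h1 := hM z hzM
          have h2 := card_class_le_of_mem_upperCentralSeries hz
          omega
  obtain ⟨c, hc⟩ := hnil.nilpotent'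
  rcases hclaim c with h | h
  · exact h
  · refine ⟨c, ?_⟩
    rw [hc] at h ⊢
    exact (top_le_iff.1 h).symm

end

end Cfsg.Agent.Lib.Helper8
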