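import Mathlib
import Cfsg.Prelude.Def_Characters
import Cfsg.Agent.Lib.Helper8.TC6
import Cfsg.Agent.Lib.Helper8.TC7

/-!
# Gagola characters: the centre and the upper central series of a Sylow subgroup
-/

set_option autoImplicit false

namespace Cfsg.Agent.Lib.Helper8

open Cfsg
open scoped ComplexConjugate
open Cfsg.Agent.Lib.Helper1 Cfsg.Agent.Lib.Helper4

universe u

section

variable {G : Type u} [Group G]

namespace Gagola

variable {χ : IrrCharacter G} {N : Subgroup G} {g₀ : G}

/-- `p`-subgroups of centralizers of elements outside `N` are small. -/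
theorem card_mul_dvd [Finite G] [hNn : N.Normal] (h : Gagola χ N g₀) {p : ℕ} [hp : Fact p.Prime]
    (hNp : IsPGroup p N) {x : G} (hx : x ∉ N) (Q : Subgroup G) (hQ : IsPGroup p Q)
    (hQx : Q ≤ Subgroup.centralizer ({x} : Set G)) :
    Nat.card Q * Nat.card N ∣ p ^ (Nat.card G).factorization p := by
  have h1 : Nat.card Q ∣ Nat.card (Subgroup.centralizer ({x} : Set G)) :=
    Subgroup.card_dvd_of_le hQx
  rw [h.card_centralizer_quotient hx] at h1
  have h2 : Nat.card (Subgroup.centralizer ({(x : G ⧸ N)} : Set (G ⧸ N))) ∣ Nat.card (G ⧸ N) :=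
    Subgroup.card_subgroup_dvd_card _
  have h3 := Subgroup.card_eq_card_quotient_mul_card_subgroup N
  have h4 : Nat.card Q * Nat.card N ∣ Nat.card G := by
    rw [h3]
    exact Nat.mul_dvd_mul (dvd_trans h1 h2) dvd_rfl
  obtain ⟨s, hs⟩ := IsPGroup.iff_card.1 hQ
  obtain ⟨m, hm⟩ := IsPGroup.iff_card.1 hNp
  rw [hs, hm, ← pow_add] at h4 ⊢
  have hG0 : Nat.card G ≠ 0 := Nat.card_pos.ne'
  exact pow_dvd_pow p ((hp.out.pow_dvd_iff_le_factorization hG0).1 h4)

theorem le_sylow (_h : Gagola χ N g₀) [hNn : N.Normal] {p : ℕ} [hp : Fact p.Prime]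
    (hNp : IsPGroup p N) (P : Sylow p G) : N ≤ P := by
  have h1 : IsPGroup p (N ⊔ (P : Subgroup G) : Subgroup G) :=
    IsPGroup.to_sup_of_normal_left hNp P.2
  have h2 := P.is_maximal' h1 le_sup_right
  rw [← h2]
  exact le_sup_left

/-- The centre of a Sylow `p`-subgroup lies in `N`. -/
theorem center_le [Finite G] [hNn : N.Normal] (h : Gagola χ N g₀) {p : ℕ} [hp : Fact p.Prime]
    (hNp : IsPGroup p N) (hN1 : N ≠ ⊥) (P : Sylow p G) :
    (Subgroup.center ↥(P : Subgroup G)).map (P : Subgroup G).subtype ≤ N := by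
  intro z hz
  by_contra hzN
  obtain ⟨z', hz', rfl⟩ := Subgroup.mem_map.1 hz
  have hle : (P : Subgroup G) ≤ Subgroup.centralizer ({((P : Subgroup G).subtype z')} : Set G) := by
    intro g hg
    rw [Subgroup.mem_centralizer_iff]
    intro y hy
    rw [Set.mem_singleton_iff] at hy
    rw [hy]
    have h1 := Subgroup.mem_center_iff.1 hz' ⟨g, hg⟩
    have := congrArg Subtype.val h1
    simpa using this.symm
  have h1 := h.card_mul_dvd hNp hzN (P : Subgroup G) P.2 hle
  rw [← P.card_eq_multiplicity] at h1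
  have hPpos : 0 < Nat.card (P : Subgroup G) := Nat.card_pos
  have h2 : Nat.card N ∣ 1 := by
    have : Nat.card (P : Subgroup G) * Nat.card N ∣ Nat.card (P : Subgroup G) * 1 := by
      rwa [mul_one]
    exact Nat.dvd_of_mul_dvd_mul_left hPpos this
  exact hN1 (Subgroup.card_eq_one.1 (Nat.dvd_one.1 h2))

/-- If `N` is the centre of `P` then `P` is normal. -/
theorem normal_of_center_eq [Finite G] [hNn : N.Normal] (h : Gagola χ N g₀) {p : ℕ}
    [hp : Fact p.Prime] (hNp : IsPGroup p N) (hN1 : N ≠ ⊥) (P : Sylow p G)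
    (hZ : (Subgroup.center ↥(P : Subgroup G)).map (P : Subgroup G).subtype = N) :
    (P : Subgroup G).Normal := by
  have hPC : ∀ x ∈ N, x ≠ 1 → (P : Subgroup G) = Subgroup.centralizer ({x} : Set G) := by
    intro x hx hx1
    have hle : (P : Subgroup G) ≤ Subgroup.centralizer ({x} : Set G) := by
      intro g hg
      rw [Subgroup.mem_centralizer_iff]
      intro y hy
      rw [Set.mem_singleton_iff] at hy
      rw [hy]
      rw [← hZ] at hx
      obtain ⟨z', hz', rfl⟩ := Subgroup.mem_map.1 hx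
      have h1 := Subgroup.mem_center_iff.1 hz' ⟨g, hg⟩
      have := congrArg Subtype.val h1
      simpa using this.symm
    apply Subgroup.eq_of_le_of_card_ge hle
    rw [h.card_centralizer hNp hN1 hx hx1, P.card_eq_multiplicity]
  constructor
  intro n hn g
  have hx : g * g₀ * g⁻¹ ∈ N := hNn.conj_mem _ h.g₀_mem g
  have hx1 : g * g₀ * g⁻¹ ≠ 1 := by
    intro h1
    apply h.tc.ne_one
    have : g₀ = g⁻¹ * (g * g₀ * g⁻¹) * g := by group
    rw [this, h1]
    group
  rw [hPC _ hx hx1, Subgroup.mem_centralizer_iff]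
  intro y hy
  rw [Set.mem_singleton_iff] at hy
  rw [hy]
  rw [hPC g₀ h.g₀_mem h.tc.ne_one, Subgroup.mem_centralizer_iff] at hn
  have h2 := hn g₀ (Set.mem_singleton _)
  calc g * g₀ * g⁻¹ * (g * n * g⁻¹) = g * (g₀ * n) * g⁻¹ := by group
    _ = g * (n * g₀) * g⁻¹ := by rw [h2]
    _ = g * n * g⁻¹ * (g * g₀ * g⁻¹) := by group

/-- If `P` is normal then `N` is the centre of `P`. -/
theorem center_eq_of_normal [Finite G] [hNn : N.Normal] (h : Gagola χ N g₀) {p : ℕ}
    [hp : Fact p.Prime] (hNp : IsPGroup p N) (hN1 : N ≠ ⊥) (P : Sylow p G)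
    (hP : (P : Subgroup G).Normal) :
    (Subgroup.center ↥(P : Subgroup G)).map (P : Subgroup G).subtype = N := by
  apply le_antisymm (h.center_le hNp hN1 P)
  haveI := hP
  have hNP : N ≤ P := h.le_sylow hNp P
  have hPnt : Nontrivial ↥(P : Subgroup G) := by
    rw [Subgroup.nontrivial_iff_ne_bot]
    intro hb
    apply hN1
    rw [eq_bot_iff, ← hb]
    exact hNP
  have hZnt : Nontrivial (Subgroup.center ↥(P : Subgroup G)) := P.2.center_nontrivial
  obtain ⟨Z, hZ⟩ : ∃ Z, Z = (Subgroup.center ↥(P : Subgroup G)).map (P : Subgroup G).subtype :=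
    ⟨_, rfl⟩
  have hZn : Z.Normal := hZ ▸ ConjAct.normal_of_characteristic_of_normal
  have hZne : Z ≠ ⊥ := by
    rw [hZ]
    intro hb
    rw [Subgroup.map_eq_bot_iff_of_injective _ (P : Subgroup G).subtype_injective] at hb
    exact (Subgroup.nontrivial_iff_ne_bot _).mp hZnt hb
  have hg₀Z : g₀ ∈ Z := h.tc.mem_of_normal Z hZne
  rw [← hZ]
  intro x hx
  by_cases hx1 : x = 1
  · rw [hx1]; exact Z.one_mem
  · obtain ⟨c, hc⟩ := isConj_iff.1 (h.isConj_of_mem hx hx1)
    rw [← hc]
    exact hZn.conj_mem _ hg₀Z c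

/-- `N` is a term of the upper central series of `P`. -/
theorem exists_upperCentralSeries [Finite G] [hNn : N.Normal] (h : Gagola χ N g₀) {p : ℕ}
    [hp : Fact p.Prime] (hNp : IsPGroup p N) (P : Sylow p G) :
    ∃ i : ℕ, Subgroup.upperCentralSeries ↥(P : Subgroup G) i = N.subgroupOf (P : Subgroup G) := by
  haveI : Group.IsNilpotent ↥(P : Subgroup G) := P.2.isNilpotent
  have hNP : N ≤ P := h.le_sylow hNp P
  apply exists_upperCentralSeries_eq
  intro z hz
  have hzN : (z : G) ∉ N := fun h1 => hz (Subgroup.mem_subgroupOf.2 h1)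
  set Q : Subgroup G := (Subgroup.centralizer ({z} : Set ↥(P : Subgroup G))).map
    (P : Subgroup G).subtype with hQ
  have hQP : Q ≤ P := by
    rw [hQ]
    exact Subgroup.map_subtype_le _
  have hQp : IsPGroup p Q := P.2.to_le hQP
  have hQz : Q ≤ Subgroup.centralizer ({(z : G)} : Set G) := by
    intro g hg
    obtain ⟨g', hg', rfl⟩ := Subgroup.mem_map.1 hg
    rw [Subgroup.mem_centralizer_iff]
    intro y hy
    rw [Set.mem_singleton_iff] at hy
    rw [hy]
    have h1 := Subgroup.mem_centralizer_iff.1 hg' z (Set.mem_singleton _)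
    have := congrArg Subtype.val h1
    simpa using this
  have h1 := h.card_mul_dvd hNp hzN Q hQp hQz
  rw [← P.card_eq_multiplicity] at h1
  have hcardQ : Nat.card Q = Nat.card (Subgroup.centralizer ({z} : Set ↥(P : Subgroup G))) := by
    rw [hQ]
    exact Nat.card_congr (Subgroup.equivMapOfInjective _ _
      (P : Subgroup G).subtype_injective).toEquiv.symm
  have hcardN : Nat.card (N.subgroupOf (P : Subgroup G)) = Nat.card N :=
    Nat.card_congr (Subgroup.subgroupOfEquivOfLe hNP).toEquiv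
  have h2 := card_isConj_mul_card_centralizer z
  rw [hcardN]
  rw [hcardQ, ← h2] at h1
  have hCpos : 0 < Nat.card (Subgroup.centralizer ({z} : Set ↥(P : Subgroup G))) := Nat.card_pos
  have h3 : Nat.card N ∣ Nat.card {v : ↥(P : Subgroup G) // IsConj z v} := by
    rw [mul_comm (Nat.card {v : ↥(P : Subgroup G) // IsConj z v})] at h1
    exact Nat.dvd_of_mul_dvd_mul_left hCpos h1
  apply Nat.le_of_dvd _ h3
  exact Nat.card_pos_iff.2 ⟨⟨⟨z, IsConj.refl z⟩⟩, inferInstance⟩

end Gagola

end

end Cfsg.Agent.Lib.Helper8
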