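import Mathlib
import Cfsg.Prelude.Def_CaseTheorems
import Cfsg.Agent.Lib.Helper8.GagS8
import Cfsg.Agent.Lib.Helper8.TC8
import Cfsg.Agent.Lib.Helper6.PRes
import Cfsg.Agent.Lib.Lead.Core

/-!
# Solvable groups with a Gagola character: the quotient by `O_p(G)`

The conjugation action of `G ⧸ O_p(G)` on the minimal normal subgroup `N` is a faithful
transitive linear group whose vector stabilizers are `p`-groups.
-/

set_option autoImplicit false

namespace Cfsg.Agent.Lib.Helper8.GagS

open Cfsg
open scoped IsMulCommutative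

universe u

section rep

variable {G : Type u} [Group G] (N : Subgroup G) [hNn : N.Normal] [IsMulCommutative N]
  (p : ℕ) [Module (ZMod p) (Additive N)]

/-- Conjugation by `g` on the abelian normal subgroup `N`, as a linear equivalence. -/
def conjLin (g : G) : Additive N ≃ₗ[ZMod p] Additive N :=
  { MulEquiv.toAdditive (MulAut.conjNormal g : N ≃* N) with
    map_smul' := fun c x =>
      ZMod.map_smul (MulEquiv.toAdditive (MulAut.conjNormal g : N ≃* N)).toAddMonoidHom c x }

theorem conjLin_apply (g : G) (x : Additive N) :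
    ((Additive.toMul (conjLin N p g x) : N) : G) = g * ((Additive.toMul x : N) : G) * g⁻¹ := rfl

/-- The conjugation representation of `G` on `N`. -/
def conjRep : G →* (Additive N ≃ₗ[ZMod p] Additive N) where
  toFun := conjLin N p
  map_one' := by
    apply LinearEquiv.ext
    intro x
    apply Additive.toMul.injective
    apply Subtype.ext
    rw [conjLin_apply]
    simp
  map_mul' a b := by
    apply LinearEquiv.ext
    intro x
    apply Additive.toMul.injective
    apply Subtype.ext
    rw [LinearEquiv.mul_apply, conjLin_apply, conjLin_apply, conjLin_apply]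
    simp [mul_assoc]

theorem conjRep_apply (g : G) (x : Additive N) :
    ((Additive.toMul (conjRep N p g x) : N) : G) = g * ((Additive.toMul x : N) : G) * g⁻¹ := rfl

theorem conjRep_eq_one_iff (g : G) :
    conjRep N p g = 1 ↔ g ∈ Subgroup.centralizer (N : Set G) := by
  rw [Subgroup.mem_centralizer_iff]
  constructor
  · intro h n hn
    have h1 := conjRep_apply N p g (Additive.ofMul ⟨n, hn⟩)
    rw [h] at h1
    have h2 : n = g * n * g⁻¹ := h1
    calc n * g = g * n * g⁻¹ * g := by rw [← h2]
      _ = g * n := by group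
  · intro h
    apply LinearEquiv.ext
    intro x
    apply Additive.toMul.injective
    apply Subtype.ext
    rw [conjRep_apply]
    have h1 := h _ (Additive.toMul x : N).2
    rw [LinearEquiv.coe_one, id_eq, ← h1]
    group

end rep

section gag

variable {G : Type u} [Group G] {χ : IrrCharacter G} {N : Subgroup G} {g₀ : G}

/-- `O_p(G)` is the centralizer of `N`. -/
theorem pCore_eq_centralizer [Finite G] [hNn : N.Normal] (h : Gagola χ N g₀) {p : ℕ}
    [hp : Fact p.Prime] (hNp : IsPGroup p N) (hN1 : N ≠ ⊥) :
    pCore p G = Subgroup.centralizer (N : Set G) := by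
  apply le_antisymm
  · intro k hk
    rw [Subgroup.mem_centralizer_iff]
    intro n hn
    by_cases hn1 : n = 1
    · rw [hn1, one_mul, mul_one]
    · obtain ⟨P, hP⟩ := h.exists_sylow_centralizer hNp hN1 hn hn1
      have h1 : k ∈ (P : Subgroup G) := by
        rw [Cfsg.Agent.Lib.Lead.pCore_eq_iInf_sylow, Subgroup.mem_iInf] at hk
        exact hk P
      rw [← hP, Subgroup.mem_centralizer_iff] at h1
      exact h1 n (Set.mem_singleton n)
  · apply Cfsg.Agent.Lib.Lead.le_pCore inferInstance
    obtain ⟨P, hP⟩ := h.exists_sylow_centralizer hNp hN1 h.g₀_mem h.tc.ne_one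
    apply P.isPGroup'.to_le
    rw [← hP]
    exact Subgroup.centralizer_le (Set.singleton_subset_iff.2 h.g₀_mem)

end gag

section gag2

variable {G : Type u} [Group G] {χ : IrrCharacter G} {N : Subgroup G} {g₀ : G}

/-- The lifted conjugation representation of `G ⧸ O_p(G)` on `N` is a `TL`. -/
theorem exists_tl [Finite G] [hNn : N.Normal] [IsMulCommutative N] (h : Gagola χ N g₀) {p : ℕ}
    [hp : Fact p.Prime] (hNp : IsPGroup p N) (hN1 : N ≠ ⊥) [Module (ZMod p) (Additive N)] :
    ∃ ρ : (G ⧸ pCore p G) →* (Additive N ≃ₗ[ZMod p] Additive N), TL p ρ := by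
  have hK := pCore_eq_centralizer h hNp hN1
  have hker : pCore p G ≤ (conjRep N p).ker := by
    intro x hx
    rw [MonoidHom.mem_ker, conjRep_eq_one_iff, ← hK]
    exact hx
  refine ⟨QuotientGroup.lift (pCore p G) (conjRep N p) hker, ?_, ?_, ?_⟩
  · rw [injective_iff_map_eq_one]
    intro γ hγ
    obtain ⟨g, rfl⟩ := QuotientGroup.mk_surjective γ
    rw [QuotientGroup.lift_mk, conjRep_eq_one_iff, ← hK] at hγ
    exact (QuotientGroup.eq_one_iff g).2 hγ
  · intro v w hv hw
    have hv1 : ((Additive.toMul v : N) : G) ≠ 1 := by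
      intro h1
      apply hv
      apply Additive.toMul.injective
      apply Subtype.ext
      rw [h1]; rfl
    have hw1 : ((Additive.toMul w : N) : G) ≠ 1 := by
      intro h1
      apply hw
      apply Additive.toMul.injective
      apply Subtype.ext
      rw [h1]; rfl
    have hc1 := h.isConj_of_mem (Additive.toMul v : N).2 hv1
    have hc2 := h.isConj_of_mem (Additive.toMul w : N).2 hw1
    obtain ⟨c, hc⟩ := isConj_iff.1 (hc1.symm.trans hc2)
    refine ⟨(c : G ⧸ pCore p G), ?_⟩
    rw [QuotientGroup.lift_mk]
    apply Additive.toMul.injective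
    apply Subtype.ext
    rw [conjRep_apply]
    exact hc
  · intro v hv γ hγ
    obtain ⟨g, rfl⟩ := QuotientGroup.mk_surjective γ
    rw [QuotientGroup.lift_mk] at hγ
    have hv1 : ((Additive.toMul v : N) : G) ≠ 1 := by
      intro h1
      apply hv
      apply Additive.toMul.injective
      apply Subtype.ext
      rw [h1]; rfl
    have h1 := conjRep_apply N p g v
    rw [hγ] at h1
    obtain ⟨P, hP⟩ := h.exists_sylow_centralizer hNp hN1 (Additive.toMul v : N).2 hv1
    have hgP : g ∈ (P : Subgroup G) := by
      rw [← hP, Subgroup.mem_centralizer_iff]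
      intro y hy
      rw [Set.mem_singleton_iff] at hy
      rw [hy]
      calc ((Additive.toMul v : N) : G) * g
          = g * ((Additive.toMul v : N) : G) * g⁻¹ * g := by rw [← h1]
        _ = g * ((Additive.toMul v : N) : G) := by group
    obtain ⟨k, hk⟩ := P.isPGroup' ⟨g, hgP⟩
    refine ⟨k, ?_⟩
    have hk' : g ^ p ^ k = 1 := by
      have := congrArg Subtype.val hk
      simpa using this
    rw [← QuotientGroup.mk_pow, hk', QuotientGroup.mk_one]

/-- The quotient by `O_p(G)` has trivial `O_p`. -/
theorem pCore_quotient_pCore (p : ℕ) : pCore p (G ⧸ pCore p G) = ⊥ := by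
  rw [Cfsg.Agent.Lib.Helper6.pCore_quotient_of_isPGroup (pCore p G)
    (Cfsg.Agent.Lib.Lead.pCore_isPGroup p)]
  exact QuotientGroup.map_mk'_self (pCore p G)

/-- The module structure of an elementary abelian subgroup. -/
@[reducible] def zmodInst' {p : ℕ} (U : Subgroup G) [IsMulCommutative U]
    (hexp : ∀ a ∈ U, a ^ p = 1) : Module (ZMod p) (Additive U) :=
  AddCommGroup.zmodModule (n := p) (fun a => by
    apply Additive.toMul.injective
    rw [toMul_nsmul, toMul_zero]
    apply Subtype.ext
    rw [Subgroup.coe_pow, Subgroup.coe_one]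
    exact hexp _ (Additive.toMul a).2)

theorem quotient_main [Finite G] [hsol : Group.IsSolvable G] [hNn : N.Normal]
    (h : Gagola χ N g₀) {p : ℕ} [hp : Fact p.Prime] (hN1 : N ≠ ⊥) (hNc : IsMulCommutative N)
    (hexp : ∀ a ∈ N, a ^ p = 1) :
    HasNormalPComplement p (G ⧸ pCore p G) ∧
      ∀ Q : Sylow p (G ⧸ pCore p G), IsMulCommutative (Q : Subgroup (G ⧸ pCore p G)) := by
  have hNp : IsPGroup p N := by
    intro a
    refine ⟨1, ?_⟩
    apply Subtype.ext
    rw [pow_one, Subgroup.coe_pow, Subgroup.coe_one]
    exact hexp _ a.2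
  letI : Module (ZMod p) (Additive N) := zmodInst' N hexp
  obtain ⟨ρ, hρ⟩ := exists_tl h hNp hN1
  haveI : Nontrivial (Additive N) := by
    have : Nontrivial N := (Subgroup.nontrivial_iff_ne_bot N).2 hN1
    exact Additive.ofMul.injective.nontrivial
  haveI : Finite (Additive N) := Finite.of_equiv N Additive.ofMul
  exact main hρ (pCore_quotient_pCore p)

end gag2

end Cfsg.Agent.Lib.Helper8.GagS
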