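import Mathlib
import Cfsg.Agent.Lib.Helper8.TC8

/-!
# Gagola characters: `N = O_p(G)` forces a doubly transitive Frobenius group, I

Basic consequences of the Camina property `g ∉ N → g ∼ g n`: elements of order prime to `p`
outside `N` act fixed point freely on `N`; `C_G(N) ≤ N` when `N = O_p(G)`; `p`-elements have
nontrivial fixed points on `N`.
-/

set_option autoImplicit false

namespace Cfsg.Agent.Lib.Helper8.Gagola

open Cfsg Cfsg.Agent.Lib.Helper8

universe u

variable {G : Type u} [Group G] {χ : IrrCharacter G} {N : Subgroup G} {g₀ : G}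

/-- An element outside `N` of order prime to `p` commutes with no nontrivial element of `N`. -/
theorem fpf [Finite G] (h : Gagola χ N g₀) {p : ℕ} [hp : Fact p.Prime] (hNp : IsPGroup p N)
    {y n : G} (hy : y ∉ N) (hyo : (orderOf y).Coprime p) (hn : n ∈ N) (hc : y * n = n * y) :
    n = 1 := by
  have h1 : IsConj y (y * n) := h.isConj_mul hy hn
  have h2 : orderOf (y * n) = orderOf y := (orderOf_eq_of_isConj h1).symm
  have h3 : (y * n) ^ orderOf y = 1 := by rw [← h2]; exact pow_orderOf_eq_one _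
  have hcomm : Commute y n := hc
  rw [hcomm.mul_pow, pow_orderOf_eq_one, one_mul] at h3
  obtain ⟨k, hk⟩ := hNp ⟨n, hn⟩
  have hk' : n ^ p ^ k = 1 := by simpa using congrArg Subtype.val hk
  have h4 : orderOf n ∣ orderOf y := orderOf_dvd_of_pow_eq_one h3
  have h5 : orderOf n ∣ p ^ k := orderOf_dvd_of_pow_eq_one hk'
  have h6 : orderOf n ∣ Nat.gcd (orderOf y) (p ^ k) := Nat.dvd_gcd h4 h5
  have h7 : Nat.gcd (orderOf y) (p ^ k) = 1 := Nat.Coprime.pow_right k hyo
  rw [h7, Nat.dvd_one] at h6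
  exact orderOf_eq_one_iff.1 h6

/-- If `N = O_p(G)` then `N` is self-centralizing. -/
theorem centralizer_le [Finite G] (h : Gagola χ N g₀) {p : ℕ} [hp : Fact p.Prime]
    (hNp : IsPGroup p N) (hN1 : N ≠ ⊥) (hO : N = pCore p G) :
    Subgroup.centralizer (N : Set G) ≤ N := by
  haveI := h.normal
  have hnormal : (Subgroup.centralizer (N : Set G)).Normal := inferInstance
  obtain ⟨P, hP⟩ := h.exists_sylow_centralizer hNp hN1 h.g₀_mem h.tc.ne_one
  have hle : Subgroup.centralizer (N : Set G) ≤ Subgroup.centralizer ({g₀} : Set G) :=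
    Subgroup.centralizer_le (by simpa using h.g₀_mem)
  have hpg : IsPGroup p (Subgroup.centralizer (N : Set G)) := by
    rw [hP] at hle
    exact P.isPGroup'.to_le hle
  have h1 : Subgroup.centralizer (N : Set G) ≤ pCore p G := le_sSup ⟨hnormal, hpg⟩
  exact h1.trans hO.ge

/-- A `p`-element commutes with some nontrivial element of `N`. -/
theorem exists_comm [Finite G] (h : Gagola χ N g₀) {p : ℕ} [hp : Fact p.Prime]
    (hNp : IsPGroup p N) (hN1 : N ≠ ⊥) {k : G} {a : ℕ} (hk : k ^ p ^ a = 1) :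
    ∃ n ∈ N, n ≠ 1 ∧ k * n = n * k := by
  haveI := h.normal
  have hz : IsPGroup p (Subgroup.zpowers k) := by
    rintro ⟨g, hg⟩
    obtain ⟨i, rfl⟩ := Subgroup.mem_zpowers_iff.1 hg
    refine ⟨a, Subtype.ext ?_⟩
    simp only [SubmonoidClass.mk_pow, Subgroup.coe_one]
    rw [← zpow_natCast, ← zpow_mul, mul_comm, zpow_mul, zpow_natCast, hk, one_zpow]
  obtain ⟨Q, hQ⟩ := hz.exists_le_sylow
  have hNQ : N ≤ Q := h.le_sylow hNp Q
  have hQnt : Nontrivial (Q : Subgroup G) := by
    obtain ⟨x, hx1⟩ := (Subgroup.ne_bot_iff_exists_ne_one (H := N)).1 hN1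
    refine ⟨⟨⟨x.1, hNQ x.2⟩, 1, fun h1 => hx1 (Subtype.ext ?_)⟩⟩
    simpa using congrArg Subtype.val h1
  have hcnt : Nontrivial (Subgroup.center (Q : Subgroup G)) := Q.isPGroup'.center_nontrivial
  obtain ⟨z, hz1⟩ := exists_ne (1 : Subgroup.center (Q : Subgroup G))
  have hzN : ((z : (Q : Subgroup G)) : G) ∈ N := by
    apply h.center_le hNp hN1 Q
    exact ⟨(z : (Q : Subgroup G)), z.2, rfl⟩
  refine ⟨_, hzN, ?_, ?_⟩
  · intro h1
    apply hz1
    apply Subtype.ext
    apply Subtype.ext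
    simpa using h1
  · have hkQ : k ∈ (Q : Subgroup G) := hQ (Subgroup.mem_zpowers k)
    have h2 := Subgroup.mem_center_iff.1 z.2 ⟨k, hkQ⟩
    have h3 := congrArg Subtype.val h2
    simpa using h3

end Cfsg.Agent.Lib.Helper8.Gagola
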