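import Mathlib
import Cfsg.Agent.Lib.Helper8.Gagola1

/-!
# Gagola characters: `N = O_p(G)` forces a doubly transitive Frobenius group, II (`p` odd)

For `p` odd an involution inverts `N`, so (as `C_G(N) = N`) it is central modulo `N` and `G`
splits over `N`; the Camina property then excludes `p`-elements outside `N`.
-/

set_option autoImplicit false

namespace Cfsg.Agent.Lib.Helper8.Gagola

open Cfsg Cfsg.Agent.Lib.Helper8

universe u

variable {G : Type u} [Group G] {χ : IrrCharacter G} {N : Subgroup G} {g₀ : G}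

/-- `p` odd: there is an involution, and it lies outside `N`. -/
theorem exists_involution [Finite G] (h : Gagola χ N g₀) {p : ℕ} [hp : Fact p.Prime]
    (hNp : IsPGroup p N) (hN1 : N ≠ ⊥) (hp2 : p ≠ 2) : ∃ z : G, orderOf z = 2 ∧ z ∉ N := by
  obtain ⟨m, hm0, hm⟩ := h.exists_card_N hNp hN1
  have hce := h.card_eq h.g₀_mem h.tc.ne_one
  have hodd : Odd (p ^ m) := (hp.out.odd_of_ne_two hp2).pow
  have heven : Even (p ^ m - 1) := Nat.Odd.sub_odd hodd odd_one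
  have h2 : 2 ∣ Nat.card G := by
    rw [← hce, hm]
    exact Dvd.dvd.mul_right heven.two_dvd _
  haveI : Fact (Nat.Prime 2) := ⟨Nat.prime_two⟩
  obtain ⟨z, hz⟩ := exists_prime_orderOf_dvd_card' 2 h2
  refine ⟨z, hz, fun hzN => ?_⟩
  obtain ⟨k, hk⟩ := hNp ⟨z, hzN⟩
  have hk' : z ^ p ^ k = 1 := by simpa using congrArg Subtype.val hk
  have h3 : 2 ∣ p ^ k := hz ▸ orderOf_dvd_of_pow_eq_one hk'
  have h4 : 2 ∣ p := Nat.Prime.dvd_of_dvd_pow Nat.prime_two h3
  exact hp2 ((Nat.prime_dvd_prime_iff_eq Nat.prime_two hp.out).1 h4).symm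

/-- `p` odd: an involution outside `N` inverts `N`. -/
theorem inv_of_involution [Finite G] (h : Gagola χ N g₀) {p : ℕ} [hp : Fact p.Prime]
    (hNp : IsPGroup p N) (hN1 : N ≠ ⊥) (hp2 : p ≠ 2) {z : G} (hz : orderOf z = 2) (hzN : z ∉ N)
    {n : G} (hn : n ∈ N) : z * n * z⁻¹ = n⁻¹ := by
  have hnorm := h.normal
  have hzz : z * z = 1 := by rw [← sq, ← hz]; exact pow_orderOf_eq_one z
  have hzi : z⁻¹ = z := inv_eq_of_mul_eq_one_left hzz
  have hzo : (orderOf z).Coprime p := by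
    rw [hz]; exact (Nat.coprime_primes Nat.prime_two hp.out).2 (Ne.symm hp2)
  have hcn : z * n * z⁻¹ ∈ N := hnorm.conj_mem n hn z
  rw [hzi] at hcn ⊢
  have hab : (z * n * z) * n = n * (z * n * z) := by
    have := h.comm hNp hN1 ⟨z * n * z, hcn⟩ ⟨n, hn⟩
    exact congrArg Subtype.val this
  have hmN : n * (z * n * z) ∈ N := N.mul_mem hn hcn
  have e1 : z * (n * (z * n * z)) * z = n * (z * n * z) := by
    calc z * (n * (z * n * z)) * z = (z * n * z) * n * (z * z) := by group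
      _ = n * (z * n * z) := by rw [hzz, mul_one, hab]
  have hcomm : z * (n * (z * n * z)) = (n * (z * n * z)) * z := by
    calc z * (n * (z * n * z)) = z * (n * (z * n * z)) * (z * z) := by rw [hzz, mul_one]
      _ = (z * (n * (z * n * z)) * z) * z := by group
      _ = (n * (z * n * z)) * z := by rw [e1]
  have h1 := fpf h hNp hzN hzo hmN hcomm
  exact eq_inv_of_mul_eq_one_right h1

/-- `p` odd, `C_G(N) ≤ N`: `G = N C_G(z)` for an involution `z`. -/
theorem exists_mul_comm [Finite G] (h : Gagola χ N g₀) {p : ℕ} [hp : Fact p.Prime]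
    (hNp : IsPGroup p N) (hN1 : N ≠ ⊥) (hC : Subgroup.centralizer (N : Set G) ≤ N) (hp2 : p ≠ 2)
    {z : G} (hz : orderOf z = 2) (hzN : z ∉ N) (g : G) :
    ∃ n ∈ N, (n⁻¹ * g) * z = z * (n⁻¹ * g) := by
  have hnorm := h.normal
  have hzz : z * z = 1 := by rw [← sq, ← hz]; exact pow_orderOf_eq_one z
  have hzi : z⁻¹ = z := inv_eq_of_mul_eq_one_left hzz
  have hz' : orderOf (g * z * g⁻¹) = 2 := by
    rw [← hz]; exact (orderOf_eq_of_isConj (isConj_iff.2 ⟨g, rfl⟩)).symm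
  have hz'N : g * z * g⁻¹ ∉ N := fun hmem => hzN (by
    have := hnorm.conj_mem _ hmem g⁻¹
    simpa [mul_assoc] using this)
  have hw : z * (g * z * g⁻¹) ∈ Subgroup.centralizer (N : Set G) := by
    rw [Subgroup.mem_centralizer_iff]
    intro n hn
    have e1 := inv_of_involution h hNp hN1 hp2 hz' hz'N hn
    have e2 := inv_of_involution h hNp hN1 hp2 hz hzN (N.inv_mem hn)
    rw [inv_inv] at e2
    have e3 : (z * (g * z * g⁻¹)) * n * (z * (g * z * g⁻¹))⁻¹ = n := by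
      calc (z * (g * z * g⁻¹)) * n * (z * (g * z * g⁻¹))⁻¹
          = z * ((g * z * g⁻¹) * n * (g * z * g⁻¹)⁻¹) * z⁻¹ := by group
        _ = n := by rw [e1, e2]
    calc n * (z * (g * z * g⁻¹))
        = ((z * (g * z * g⁻¹)) * n * (z * (g * z * g⁻¹))⁻¹) * (z * (g * z * g⁻¹)) := by rw [e3]
      _ = (z * (g * z * g⁻¹)) * n := by group
  have hwN : z * (g * z * g⁻¹) ∈ N := hC hw
  set w := z * (g * z * g⁻¹) with hwdef
  have hzw : g * z * g⁻¹ = z * w := by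
    rw [hwdef, ← mul_assoc z z, hzz, one_mul]
  -- the order of `w` is odd
  obtain ⟨k, hk⟩ := hNp ⟨w, hwN⟩
  have hk' : w ^ p ^ k = 1 := by simpa using congrArg Subtype.val hk
  have hodd : Odd (orderOf w) :=
    Odd.of_dvd_nat ((hp.out.odd_of_ne_two hp2).pow) (orderOf_dvd_of_pow_eq_one hk')
  obtain ⟨j, hj⟩ := hodd
  have hwj : w ^ j ∈ N := N.pow_mem hwN j
  have e4 := inv_of_involution h hNp hN1 hp2 hz hzN (N.inv_mem hwj)
  rw [inv_inv] at e4
  -- `z (w^j)⁻¹ = w^j z`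
  have e5 : w ^ j * z = z * (w ^ j)⁻¹ := by
    calc w ^ j * z = (z * (w ^ j)⁻¹ * z⁻¹) * z := by rw [e4]
      _ = z * (w ^ j)⁻¹ := by group
  have e6 : (w ^ j)⁻¹ * (w ^ j)⁻¹ = w := by
    have h1 : w ^ j * w ^ j * w = 1 := by
      rw [← pow_add, ← pow_succ, ← two_mul, ← hj]; exact pow_orderOf_eq_one w
    calc (w ^ j)⁻¹ * (w ^ j)⁻¹ = (w ^ j)⁻¹ * (w ^ j)⁻¹ * (w ^ j * w ^ j * w) := by rw [h1, mul_one]
      _ = w := by group
  have e7 : w ^ j * z * (w ^ j)⁻¹ = g * z * g⁻¹ := by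
    rw [hzw, e5, mul_assoc, e6]
  refine ⟨w ^ j, hwj, ?_⟩
  calc (w ^ j)⁻¹ * g * z = (w ^ j)⁻¹ * (g * z * g⁻¹) * g := by group
    _ = (w ^ j)⁻¹ * (w ^ j * z * (w ^ j)⁻¹) * g := by rw [e7]
    _ = z * ((w ^ j)⁻¹ * g) := by group

/-- `p` odd, `C_G(N) ≤ N`: every `p`-element lies in `N`. -/
theorem mem_of_pElement_odd [Finite G] (h : Gagola χ N g₀) {p : ℕ} [hp : Fact p.Prime]
    (hNp : IsPGroup p N) (hN1 : N ≠ ⊥) (hC : Subgroup.centralizer (N : Set G) ≤ N) (hp2 : p ≠ 2)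
    {x : G} {a : ℕ} (hx : x ^ p ^ a = 1) : x ∈ N := by
  have hnorm := h.normal
  by_contra hxN
  obtain ⟨z, hz, hzN⟩ := exists_involution h hNp hN1 hp2
  have hzo : (orderOf z).Coprime p := by
    rw [hz]; exact (Nat.coprime_primes Nat.prime_two hp.out).2 (Ne.symm hp2)
  obtain ⟨n, hn, hnc⟩ := exists_mul_comm h hNp hN1 hC hp2 hz hzN x
  set k := n⁻¹ * x with hk
  have hkN : k ∉ N := fun hmem => hxN (by
    have := N.mul_mem hn hmem
    simpa [hk] using this)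
  have hkz : Commute z k := hnc.symm
  have hkpN : k ^ p ^ a ∈ N := by
    rw [← QuotientGroup.eq_one_iff]
    have e1 : ((k : G) : G ⧸ N) = ((x : G) : G ⧸ N) := by
      rw [hk, QuotientGroup.mk_mul, QuotientGroup.mk_inv, (QuotientGroup.eq_one_iff n).2 hn,
        inv_one, one_mul]
    rw [QuotientGroup.mk_pow, e1, ← QuotientGroup.mk_pow, hx, QuotientGroup.mk_one]
  have hkp : k ^ p ^ a = 1 := fpf h hNp hzN hzo hkpN (hkz.pow_right _).eq
  -- the Camina property makes `n' ↦ k⁻¹ n' k n'⁻¹` surjective on `N`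
  have hsurj : ∀ m ∈ N, ∃ n' ∈ N, m = k⁻¹ * n' * k * n'⁻¹ := by
    intro m hm
    obtain ⟨g, hg⟩ := isConj_iff.1 (h.isConj_mul hkN hm)
    obtain ⟨n', hn', hc'⟩ := exists_mul_comm h hNp hN1 hC hp2 hz hzN g
    have hk'z : Commute z (n'⁻¹ * g) := hc'.symm
    have hk''z : Commute z ((n'⁻¹ * g) * k * (n'⁻¹ * g)⁻¹) :=
      (hk'z.mul_right hkz).mul_right hk'z.inv_right
    set k'' := (n'⁻¹ * g) * k * (n'⁻¹ * g)⁻¹ with hk''
    have hg' : n' * k'' * n'⁻¹ = k * m := by rw [← hg, hk'']; group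
    have hmeq : m = k⁻¹ * n' * k'' * n'⁻¹ := by
      calc m = k⁻¹ * (k * m) := by group
        _ = k⁻¹ * (n' * k'' * n'⁻¹) := by rw [hg']
        _ = k⁻¹ * n' * k'' * n'⁻¹ := by group
    have huN : k''⁻¹ * n' * k'' * n'⁻¹ ∈ N := by
      have h1 := hnorm.conj_mem n' hn' k''⁻¹
      rw [inv_inv] at h1
      exact N.mul_mem h1 (N.inv_mem hn')
    have hv : k⁻¹ * k'' = m * (k''⁻¹ * n' * k'' * n'⁻¹)⁻¹ := by
      rw [hmeq]; group
    have hvN : k⁻¹ * k'' ∈ N := by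
      rw [hv]; exact N.mul_mem hm (N.inv_mem huN)
    have hvz : Commute z (k⁻¹ * k'') := hkz.inv_right.mul_right hk''z
    have hv1 : k⁻¹ * k'' = 1 := fpf h hNp hzN hzo hvN hvz.eq
    have hkk : k'' = k := by
      have := inv_mul_eq_one.1 hv1
      exact this.symm
    refine ⟨n', hn', ?_⟩
    rw [hmeq, hkk]
  -- so it is injective, but `k` centralizes a nontrivial element of `N`
  have hmem : ∀ n' : N, k⁻¹ * (n' : G) * k * (n' : G)⁻¹ ∈ N := by
    intro n'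
    have h1 := hnorm.conj_mem n' n'.2 k⁻¹
    rw [inv_inv] at h1
    exact N.mul_mem h1 (N.inv_mem n'.2)
  have hφs : Function.Surjective (fun n' : N => (⟨_, hmem n'⟩ : N)) := by
    intro m
    obtain ⟨n', hn', hm⟩ := hsurj m m.2
    exact ⟨⟨n', hn'⟩, Subtype.ext hm.symm⟩
  have hφi := Finite.injective_iff_surjective.2 hφs
  obtain ⟨n₁, hn₁, hn₁1, hcomm⟩ := exists_comm h hNp hN1 hkp
  have h2 : (⟨n₁, hn₁⟩ : N) = 1 := by
    apply hφi
    apply Subtype.ext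
    show k⁻¹ * n₁ * k * n₁⁻¹ = k⁻¹ * ((1 : N) : G) * k * ((1 : N) : G)⁻¹
    rw [mul_assoc k⁻¹ n₁ k, ← hcomm]
    simp
  exact hn₁1 (congrArg Subtype.val h2)

end Cfsg.Agent.Lib.Helper8.Gagola
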