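import Mathlib
import Cfsg.Agent.Lib.Helper8.Gagola1
import Cfsg.Agent.S0200

/-!
# Gagola characters: `N = O_p(G)` forces a doubly transitive Frobenius group, III (`p = 2`)

If `N = O_2(G)` and some `2`-element lies outside `N`, an involution of `G/N` inverts a
nontrivial element of odd order (Baer–Suzuki); lifting, we find an involution of `G` outside `N`,
and the Camina property forces it to centralize `N`.
-/

set_option autoImplicit false

namespace Cfsg.Agent.Lib.Helper8.Gagola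

open Cfsg Cfsg.Agent.Lib.Helper8

universe u

variable {G : Type u} [Group G] {χ : IrrCharacter G} {N : Subgroup G} {g₀ : G}

/-- A `2`-element outside `N` has a power outside `N` whose square lies in `N`. -/
theorem exists_sq_mem (N : Subgroup G) :
    ∀ (a : ℕ) (x : G), x ^ 2 ^ a = 1 → x ∉ N → ∃ x' : G, x' ∉ N ∧ x' ^ 2 ∈ N := by
  intro a
  induction a with
  | zero =>
    intro x hx hxN
    rw [pow_zero, pow_one] at hx
    exact absurd (hx ▸ N.one_mem) hxN
  | succ a ih =>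
    intro x hx hxN
    by_cases h2 : x ^ 2 ∈ N
    · exact ⟨x, hxN, h2⟩
    · apply ih (x ^ 2) _ h2
      rw [← pow_mul, ← pow_succ']; exact hx

/-- `N` a `2`-group all of whose nonidentity elements are conjugate has exponent `2`. -/
theorem sq_eq_one [Finite G] (h : Gagola χ N g₀) (hNp : IsPGroup 2 N) (hN1 : N ≠ ⊥) {m : G}
    (hm : m ∈ N) : m * m = 1 := by
  haveI : Fact (Nat.Prime 2) := ⟨Nat.prime_two⟩
  obtain ⟨e, he0, he⟩ := h.exists_card_N hNp hN1
  have h2 : 2 ∣ Nat.card N := by rw [he]; exact dvd_pow_self 2 he0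
  obtain ⟨t, ht⟩ := exists_prime_orderOf_dvd_card' 2 h2
  have ht' : orderOf (t : G) = 2 := by rw [Subgroup.orderOf_coe]; exact ht
  have ht1 : (t : G) ≠ 1 := by
    intro h1
    rw [h1, orderOf_one] at ht'
    omega
  by_cases hm1 : m = 1
  · rw [hm1, one_mul]
  · have h3 : orderOf m = 2 := by
      rw [← orderOf_eq_of_isConj (h.isConj_of_mem hm hm1),
        orderOf_eq_of_isConj (h.isConj_of_mem t.2 ht1), ht']
    rw [← sq, ← h3]; exact pow_orderOf_eq_one m

/-- `N = O_2(G)`: every `2`-element lies in `N`. -/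
theorem mem_of_pElement_two [Finite G] (h : Gagola χ N g₀) (hNp : IsPGroup 2 N) (hN1 : N ≠ ⊥)
    (hO : N = pCore 2 G) {x : G} {a : ℕ} (hx : x ^ 2 ^ a = 1) : x ∈ N := by
  haveI : Fact (Nat.Prime 2) := ⟨Nat.prime_two⟩
  haveI hnorm := h.normal
  have hC := centralizer_le h hNp hN1 hO
  by_contra hxN
  obtain ⟨x', hx'N, hx'2⟩ := exists_sq_mem N a x hx hxN
  -- the image of `x'` in `G ⧸ N` is an involution outside every normal `2`-subgroup
  have ht1 : ((x' : G) : G ⧸ N) ≠ 1 := fun h1 => hx'N ((QuotientGroup.eq_one_iff x').1 h1)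
  have ht2 : ((x' : G) : G ⧸ N) ^ 2 = 1 := by
    rw [← QuotientGroup.mk_pow]; exact (QuotientGroup.eq_one_iff _).2 hx'2
  have hto : orderOf ((x' : G) : G ⧸ N) = 2 := orderOf_eq_prime ht2 ht1
  have hOt : ∀ M : Subgroup (G ⧸ N), M.Normal → IsPGroup 2 M → ((x' : G) : G ⧸ N) ∉ M := by
    intro M hMn hM2 hmem
    have h1 : IsPGroup 2 (M.comap (QuotientGroup.mk' N)) := by
      apply hM2.comap_of_ker_isPGroup
      rw [QuotientGroup.ker_mk']; exact hNp
    have h2 : (M.comap (QuotientGroup.mk' N)).Normal := hMn.comap _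
    have h3 : M.comap (QuotientGroup.mk' N) ≤ pCore 2 G := le_sSup ⟨h2, h1⟩
    rw [← hO] at h3
    exact hx'N (h3 (Subgroup.mem_comap.2 hmem))
  obtain ⟨hbar, hbar1, hbarodd, hbarinv⟩ := Cfsg.Agent.S0200.result _ hto hOt
  -- lift to an element `hh` of odd order
  obtain ⟨h₁, rfl⟩ := QuotientGroup.mk_surjective hbar
  set o := orderOf ((h₁ : G) : G ⧸ N) with ho
  have h₁oN : h₁ ^ o ∈ N := by
    rw [← QuotientGroup.eq_one_iff, QuotientGroup.mk_pow, ho]; exact pow_orderOf_eq_one _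
  obtain ⟨b, hb⟩ := hNp ⟨h₁ ^ o, h₁oN⟩
  have hb' : (h₁ ^ o) ^ 2 ^ b = 1 := by simpa using congrArg Subtype.val hb
  set hh := h₁ ^ 2 ^ b with hhdef
  have hho : hh ^ o = 1 := by
    rw [hhdef, ← pow_mul, mul_comm, pow_mul]; exact hb'
  have hhodd : Odd (orderOf hh) := Odd.of_dvd_nat hbarodd (orderOf_dvd_of_pow_eq_one hho)
  have hhcop : (orderOf hh).Coprime 2 := Nat.Coprime.symm (Nat.coprime_two_left.2 hhodd)
  have hhN : hh ∉ N := by
    intro hmem
    have h1 : ((h₁ : G) : G ⧸ N) ^ 2 ^ b = 1 := by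
      rw [← QuotientGroup.mk_pow]; exact (QuotientGroup.eq_one_iff _).2 hmem
    have h2 : o ∣ 2 ^ b := orderOf_dvd_of_pow_eq_one h1
    have h4 : Nat.Coprime o (2 ^ b) := Nat.Coprime.pow_right b (Nat.Coprime.symm
      (Nat.coprime_two_left.2 hbarodd))
    have h3 : o = 1 := Nat.Coprime.eq_one_of_dvd h4 h2
    exact hbar1 (orderOf_eq_one_iff.1 h3)
  -- `x'` inverts `hh` modulo `N`
  have hinv : ((x' : G) : G ⧸ N) * ((hh : G) : G ⧸ N) * ((x' : G) : G ⧸ N)⁻¹
      = ((hh : G) : G ⧸ N)⁻¹ := by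
    rw [hhdef, QuotientGroup.mk_pow, ← conj_pow, hbarinv, inv_pow]
  have hn₁N : hh * (x' * hh * x'⁻¹) ∈ N := by
    rw [← QuotientGroup.eq_one_iff, QuotientGroup.mk_mul, QuotientGroup.mk_mul,
      QuotientGroup.mk_mul, QuotientGroup.mk_inv, hinv, mul_inv_cancel]
  -- `n ↦ hh n hh⁻¹ n⁻¹` is a bijection of `N`
  have hmem : ∀ n : N, hh * (n : G) * hh⁻¹ * (n : G)⁻¹ ∈ N := fun n =>
    N.mul_mem (hnorm.conj_mem n n.2 hh) (N.inv_mem n.2)
  have hψi : Function.Injective (fun n : N => (⟨_, hmem n⟩ : N)) := by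
    intro n n' hnn
    have e1 : hh * (n : G) * hh⁻¹ * (n : G)⁻¹ = hh * (n' : G) * hh⁻¹ * (n' : G)⁻¹ :=
      congrArg Subtype.val hnn
    have e2 : hh * ((n' : G)⁻¹ * (n : G)) = ((n' : G)⁻¹ * (n : G)) * hh := by
      calc hh * ((n' : G)⁻¹ * (n : G))
          = (hh * (n' : G) * hh⁻¹)⁻¹ * (hh * (n : G) * hh⁻¹ * (n : G)⁻¹) * (n : G) * hh := by group
        _ = (hh * (n' : G) * hh⁻¹)⁻¹ * (hh * (n' : G) * hh⁻¹ * (n' : G)⁻¹) * (n : G) * hh := by
            rw [e1]
        _ = ((n' : G)⁻¹ * (n : G)) * hh := by group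
    have e3 := fpf h hNp hhN hhcop (N.mul_mem (N.inv_mem n'.2) n.2) e2
    apply Subtype.ext
    have := inv_mul_eq_one.1 e3
    exact this.symm
  have hψs := Finite.injective_iff_surjective.1 hψi
  obtain ⟨n, hn⟩ := hψs ⟨_, hn₁N⟩
  have hn' : hh * (n : G) * hh⁻¹ * (n : G)⁻¹ = hh * (x' * hh * x'⁻¹) := congrArg Subtype.val hn
  -- the corrected element `x''` inverts `hh` and is an involution
  set x'' := (n : G)⁻¹ * x' with hx''
  have hx''N : x'' ∉ N := fun hmem' => hx'N (by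
    have := N.mul_mem n.2 hmem'
    simpa [hx''] using this)
  have hx''inv : x'' * hh * x''⁻¹ = hh⁻¹ := by
    have e1 : x' * hh * x'⁻¹ = hh⁻¹ * (hh * (n : G) * hh⁻¹ * (n : G)⁻¹) := by
      rw [hn']; group
    calc x'' * hh * x''⁻¹ = (n : G)⁻¹ * (x' * hh * x'⁻¹) * (n : G) := by rw [hx'']; group
      _ = (n : G)⁻¹ * (hh⁻¹ * (hh * (n : G) * hh⁻¹ * (n : G)⁻¹)) * (n : G) := by rw [e1]
      _ = hh⁻¹ := by group
  have hx''2N : x'' * x'' ∈ N := by
    have e1 : ((x'' : G) : G ⧸ N) = ((x' : G) : G ⧸ N) := by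
      rw [hx'', QuotientGroup.mk_mul, QuotientGroup.mk_inv, (QuotientGroup.eq_one_iff _).2 n.2,
        inv_one, one_mul]
    rw [← QuotientGroup.eq_one_iff, QuotientGroup.mk_mul, e1, ← sq]; exact ht2
  have hx''c : hh * (x'' * x'') = (x'' * x'') * hh := by
    have e1 : x'' * hh⁻¹ * x''⁻¹ = hh := by
      calc x'' * hh⁻¹ * x''⁻¹ = (x'' * hh * x''⁻¹)⁻¹ := by group
        _ = hh := by rw [hx''inv, inv_inv]
    calc hh * (x'' * x'') = (x'' * hh⁻¹ * x''⁻¹) * (x'' * x'') := by rw [e1]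
      _ = x'' * hh⁻¹ * x'' := by group
      _ = x'' * (x'' * hh * x''⁻¹) * x'' := by rw [hx''inv]
      _ = (x'' * x'') * hh := by group
  have hx''sq : x'' * x'' = 1 := fpf h hNp hhN hhcop hx''2N hx''c
  have hx''1 : x'' ≠ 1 := fun h1 => hx''N (h1 ▸ N.one_mem)
  have hx''o : orderOf x'' = 2 := orderOf_eq_prime (by rw [sq]; exact hx''sq) hx''1
  have hx''i : x''⁻¹ = x'' := inv_eq_of_mul_eq_one_left hx''sq
  -- the Camina property makes `x''` centralize `N`
  apply hx''N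
  apply hC
  rw [Subgroup.mem_centralizer_iff]
  intro m hm
  have e1 : orderOf (x'' * m) = 2 := by
    rw [← orderOf_eq_of_isConj (h.isConj_mul hx''N hm), hx''o]
  have e2 : (x'' * m) * (x'' * m) = 1 := by
    rw [← sq, ← e1]; exact pow_orderOf_eq_one _
  have e3 : m * m = 1 := sq_eq_one h hNp hN1 hm
  calc m * x'' = (x'' * x'') * m * x'' * (m * m) := by rw [hx''sq, e3, one_mul, mul_one]
    _ = x'' * ((x'' * m) * (x'' * m)) * m := by group
    _ = x'' * m := by rw [e2, mul_one]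

end Cfsg.Agent.Lib.Helper8.Gagola
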