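import Mathlib
import Cfsg.Agent.Lib.Helper8.Gagola2
import Cfsg.Agent.Lib.Helper8.Gagola3
import Cfsg.Agent.Lib.Lead.Frobenius
import Cfsg.Agent.Lib.Lead.Core

/-!
# Gagola characters: `N = O_p(G)` iff `G` is a doubly transitive Frobenius group with kernel `N`
-/

set_option autoImplicit false

namespace Cfsg.Agent.Lib.Helper8.Gagola

open Cfsg Cfsg.Agent.Lib.Helper8 Cfsg.Agent.Lib.Lead

universe u

variable {G : Type u} [Group G] {χ : IrrCharacter G} {N : Subgroup G} {g₀ : G}

/-- `N = O_p(G)`: every `p`-element lies in `N`. -/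
theorem mem_of_pElement [Finite G] (h : Gagola χ N g₀) {p : ℕ} [hp : Fact p.Prime]
    (hNp : IsPGroup p N) (hN1 : N ≠ ⊥) (hO : N = pCore p G) {x : G} {a : ℕ}
    (hx : x ^ p ^ a = 1) : x ∈ N := by
  by_cases hp2 : p = 2
  · subst hp2
    exact mem_of_pElement_two h hNp hN1 hO hx
  · exact mem_of_pElement_odd h hNp hN1 (centralizer_le h hNp hN1 hO) hp2 hx

/-- `N = O_p(G)`: `|G| = (|N| - 1) |N|`. -/
theorem card_eq_of_core [Finite G] (h : Gagola χ N g₀) {p : ℕ} [hp : Fact p.Prime]
    (hNp : IsPGroup p N) (hN1 : N ≠ ⊥) (hO : N = pCore p G) :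
    Nat.card G = (Nat.card N - 1) * Nat.card N := by
  obtain ⟨P, hP⟩ := h.exists_sylow_centralizer hNp hN1 h.g₀_mem h.tc.ne_one
  have hPN : (P : Subgroup G) = N := by
    apply le_antisymm
    · intro x hxP
      obtain ⟨a, ha⟩ := P.isPGroup' ⟨x, hxP⟩
      have ha' : x ^ p ^ a = 1 := by simpa using congrArg Subtype.val ha
      exact mem_of_pElement h hNp hN1 hO ha'
    · haveI := h.normal
      exact h.le_sylow hNp P
  have h1 := h.card_eq h.g₀_mem h.tc.ne_one
  rw [hP, hPN] at h1
  exact h1.symm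

/-- `N = O_p(G)`: `G` is a Frobenius group with kernel `N` and a complement of order `|N| - 1`. -/
theorem exists_frobenius [Finite G] (h : Gagola χ N g₀) {p : ℕ} [hp : Fact p.Prime]
    (hNp : IsPGroup p N) (hN1 : N ≠ ⊥) (hO : N = pCore p G) :
    ∃ H : Subgroup G, IsFrobeniusComplement H ∧ frobeniusKernel H = (N : Set G) ∧
      Nat.card H + 1 = Nat.card N := by
  haveI := h.normal
  have hcard := card_eq_of_core h hNp hN1 hO
  obtain ⟨m, hm0, hm⟩ := h.exists_card_N hNp hN1
  have hNpos : 0 < Nat.card N := Nat.card_pos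
  have hN2 : 2 ≤ Nat.card N := by
    rw [hm]
    calc 2 ≤ p := hp.out.two_le
      _ = p ^ 1 := (pow_one p).symm
      _ ≤ p ^ m := Nat.pow_le_pow_right hp.out.pos (Nat.one_le_iff_ne_zero.2 hm0)
  have hN3 : Nat.card N ≠ 2 := by
    intro h2
    have := h.big
    rw [hcard, h2] at this
    omega
  have hidx : N.index = Nat.card N - 1 := by
    have h1 := N.card_mul_index
    rw [hcard, mul_comm] at h1
    exact Nat.eq_of_mul_eq_mul_right hNpos h1
  have hcop : Nat.Coprime (Nat.card N) N.index := by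
    rw [hidx]
    have h1 : Nat.card N = (Nat.card N - 1) + 1 := by omega
    rw [h1, Nat.add_sub_cancel]
    simp
  obtain ⟨H, hH⟩ := Subgroup.exists_right_complement'_of_coprime hcop
  have hHcard : Nat.card H = Nat.card N - 1 := by
    have h1 := hH.card_mul_card
    rw [hcard, mul_comm] at h1
    exact Nat.eq_of_mul_eq_mul_right hNpos h1
  have hdisj : ∀ x, x ∈ N → x ∈ H → x = 1 := fun x hxN hxH =>
    Subgroup.disjoint_def.1 hH.disjoint hxN hxH
  -- the centralizer of a nonidentity element of `N` lies in `N`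
  have hcent : ∀ n ∈ N, n ≠ 1 → ∀ b, b * n = n * b → b ∈ N := by
    intro n hn hn1 b hb
    obtain ⟨P, hP⟩ := h.exists_sylow_centralizer hNp hN1 hn hn1
    have hbP : b ∈ (P : Subgroup G) := by
      rw [← hP, Subgroup.mem_centralizer_singleton_iff]; exact hb
    obtain ⟨a, ha⟩ := P.isPGroup' ⟨b, hbP⟩
    exact mem_of_pElement h hNp hN1 hO (by simpa using congrArg Subtype.val ha)
  have hHfrob : IsFrobeniusComplement H := by
    refine ⟨?_, ?_, ?_⟩
    · intro hbot
      rw [hbot, Subgroup.card_bot] at hHcard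
      omega
    · intro htop
      rw [htop, Subgroup.card_top, hcard] at hHcard
      have : Nat.card N - 1 ≥ 1 := by omega
      nlinarith
    · intro g hg
      rw [eq_bot_iff]
      rintro a ⟨haH, haC⟩
      rw [Subgroup.mem_bot]
      obtain ⟨b, hbH, hba⟩ := (Subgroup.mem_smul_pointwise_iff_exists _ _ _).1 haC
      rw [MulAut.smul_def, MulAut.conj_apply] at hba
      obtain ⟨⟨⟨n, hn⟩, ⟨k, hk⟩⟩, hnk, -⟩ := hH.existsUnique g
      simp only at hnk
      have hn1 : n ≠ 1 := by
        intro h1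
        apply hg
        rw [← hnk, h1, one_mul]; exact hk
      -- `a = n b' n⁻¹` with `b' = k b k⁻¹ ∈ H`
      have hb'H : k * b * k⁻¹ ∈ H := H.mul_mem (H.mul_mem hk hbH) (H.inv_mem hk)
      have ha : a = n * (k * b * k⁻¹) * n⁻¹ := by
        rw [← hba, ← hnk]; group
      have h1 : a * (k * b * k⁻¹)⁻¹ ∈ N := by
        have h2 : a * (k * b * k⁻¹)⁻¹ = n * ((k * b * k⁻¹) * n⁻¹ * (k * b * k⁻¹)⁻¹) := by
          rw [ha]; group
        rw [h2]
        exact N.mul_mem hn (Subgroup.Normal.conj_mem inferInstance _ (N.inv_mem hn) _)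
      have h3 : a * (k * b * k⁻¹)⁻¹ = 1 :=
        hdisj _ h1 (H.mul_mem haH (H.inv_mem hb'H))
      have h4 : a = k * b * k⁻¹ := mul_inv_eq_one.1 h3
      have h5 : (k * b * k⁻¹) * n = n * (k * b * k⁻¹) := by
        calc (k * b * k⁻¹) * n = a * n := by rw [h4]
          _ = n * (k * b * k⁻¹) := by rw [ha]; group
      have h6 : k * b * k⁻¹ = 1 := hdisj _ (hcent n hn hn1 _ h5) hb'H
      rw [h4, h6]
  refine ⟨H, hHfrob, ?_, by rw [hHcard]; omega⟩
  -- the kernel
  have hsub : (N : Set G) ⊆ frobeniusKernel H := by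
    intro x hx
    by_cases hx1 : x = 1
    · exact Or.inl hx1
    · refine Or.inr fun g hxg => hx1 ?_
      obtain ⟨s, hsH, hsx⟩ := (Subgroup.mem_smul_pointwise_iff_exists _ _ _).1 hxg
      rw [MulAut.smul_def, MulAut.conj_apply] at hsx
      have hsN : s ∈ N := by
        have h1 : s = g⁻¹ * x * g⁻¹⁻¹ := by rw [← hsx]; group
        rw [h1]
        exact Subgroup.Normal.conj_mem inferInstance _ hx _
      have hs1 := hdisj s hsN hsH
      rw [← hsx, hs1]; group
  have hfin : (frobeniusKernel H).Finite := Set.toFinite _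
  symm
  apply Set.eq_of_subset_of_ncard_le hsub _ hfin
  rw [← Nat.card_coe_set_eq, ← Nat.card_coe_set_eq, card_frobeniusKernel hHfrob]
  have h1 := H.card_mul_index
  rw [hcard, hHcard] at h1
  have h2 : H.index = Nat.card N := by
    have h3 : 0 < Nat.card N - 1 := by omega
    exact Nat.eq_of_mul_eq_mul_left h3 h1
  rw [h2]
  exact le_of_eq rfl

/-- The converse: a Frobenius group with kernel the `p`-group `N` and complement of order
`|N| - 1` has `O_p(G) = N`. -/
theorem core_of_frobenius [Finite G] (N : Subgroup G) [hNn : N.Normal] {p : ℕ} [hp : Fact p.Prime]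
    (hNp : IsPGroup p N) (hN1 : N ≠ ⊥) (H : Subgroup G) (hH : IsFrobeniusComplement H)
    (hker : frobeniusKernel H = (N : Set G)) (hcard : Nat.card H + 1 = Nat.card N) :
    N = pCore p G := by
  have hle : N ≤ pCore p G := le_pCore hNn hNp
  have hidx : H.index = Nat.card N := by
    rw [← card_frobeniusKernel hH, hker]; rfl
  have hG : Nat.card G = Nat.card H * Nat.card N := by
    rw [← hidx]; exact H.card_mul_index.symm
  -- `|O_p(G)|` is a power of `p` dividing `|H| |N|`, prime to `|H| = |N| - 1`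
  obtain ⟨k, hk⟩ := (IsPGroup.iff_card.1 (pCore_isPGroup (G := G) p))
  obtain ⟨m, hm⟩ := (IsPGroup.iff_card.1 hNp)
  have hm0 : m ≠ 0 := by
    intro h0
    rw [h0, pow_zero] at hm
    exact hN1 (Subgroup.card_eq_one.1 hm)
  have hdvd : Nat.card (pCore p G) ∣ Nat.card H * Nat.card N := by
    rw [← hG]; exact Subgroup.card_subgroup_dvd_card _
  have hcop : Nat.Coprime (Nat.card (pCore p G)) (Nat.card H) := by
    rw [hk]
    apply Nat.Coprime.pow_left
    rw [Nat.Prime.coprime_iff_not_dvd hp.out]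
    intro hpd
    have h1 : p ∣ Nat.card N := by rw [hm]; exact dvd_pow_self p hm0
    rw [← hcard] at h1
    have h2 : p ∣ 1 := (Nat.dvd_add_right hpd).1 h1
    exact hp.out.one_lt.ne' (Nat.dvd_one.1 h2)
  have hdvd' : Nat.card (pCore p G) ∣ Nat.card N := hcop.dvd_of_dvd_mul_left hdvd
  have hle' : Nat.card (pCore p G) ≤ Nat.card N := Nat.le_of_dvd Nat.card_pos hdvd'
  exact (Subgroup.eq_of_le_of_card_ge hle hle')

end Cfsg.Agent.Lib.Helper8.Gagola
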