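import Mathlib

set_option autoImplicit false

namespace Cfsg.Agent.Lib.Helper8

/-- Span over `ZMod p` versus additive closure. -/
theorem span_eq_top_iff_closure_eq_top {p : ℕ} {V : Type*} [AddCommGroup V] [Module (ZMod p) V]
    (S : Set V) : Submodule.span (ZMod p) S = ⊤ ↔ AddSubgroup.closure S = ⊤ := by
  constructor
  · intro h
    rw [eq_top_iff]
    intro x _
    have h1 : Submodule.span (ZMod p) S ≤ AddSubgroup.toZModSubmodule p (AddSubgroup.closure S) := by
      rw [Submodule.span_le]
      intro y hy
      exact AddSubgroup.subset_closure hy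
    have h2 : x ∈ Submodule.span (ZMod p) S := by rw [h]; trivial
    exact h1 h2
  · intro h
    rw [eq_top_iff]
    intro x _
    have h1 : AddSubgroup.closure S ≤ (Submodule.span (ZMod p) S).toAddSubgroup := by
      rw [AddSubgroup.closure_le]
      intro y hy
      exact Submodule.subset_span hy
    have h2 : x ∈ AddSubgroup.closure S := by rw [h]; trivial
    exact h1 h2

/-- The number of generating `r`-tuples of an elementary abelian group of order `p ^ r`
(additive version). -/
theorem card_gen_tuples_add {p r : ℕ} [Fact p.Prime] {V : Type*} [AddCommGroup V] [Finite V]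
    [Module (ZMod p) V] (hcard : Nat.card V = p ^ r) :
    Nat.card {s : Fin r → V // AddSubgroup.closure (Set.range s) = ⊤}
      = ∏ i ∈ Finset.range r, (p ^ r - p ^ i) := by
  classical
  have hp : p.Prime := Fact.out
  have : Fintype (ZMod p) := ZMod.fintype p
  have hfin : Module.finrank (ZMod p) V = r := by
    have h1 := Module.natCard_eq_pow_finrank (K := ZMod p) (V := V)
    rw [hcard, Nat.card_zmod] at h1
    exact (Nat.pow_right_injective hp.two_le h1).symm
  have h2 := card_linearIndependent (K := ZMod p) (V := V) (k := r) (le_of_eq hfin.symm)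
  rw [hfin, ZMod.card, Fin.prod_univ_eq_prod_range (fun i => p ^ r - p ^ i) r] at h2
  rw [← h2]
  apply Nat.card_congr
  apply Equiv.subtypeEquivRight
  intro s
  rw [← span_eq_top_iff_closure_eq_top (p := p)]
  constructor
  · intro h
    apply linearIndependent_of_top_le_span_of_card_eq_finrank (le_of_eq h.symm)
    rw [Fintype.card_fin, hfin]
  · intro h
    apply Submodule.eq_top_of_finrank_eq
    rw [finrank_span_eq_card h, Fintype.card_fin, hfin]

/-- The number of generating `r`-tuples of an elementary abelian group of order `p ^ r`. -/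
theorem card_gen_tuples {p r : ℕ} [Fact p.Prime] {Q : Type*} [CommGroup Q] [Finite Q]
    (hexp : ∀ a : Q, a ^ p = 1) (hcard : Nat.card Q = p ^ r) :
    Nat.card {s : Fin r → Q // Subgroup.closure (Set.range s) = ⊤}
      = ∏ i ∈ Finset.range r, (p ^ r - p ^ i) := by
  let _ : Module (ZMod p) (Additive Q) := AddCommGroup.zmodModule (fun x => by
    show Additive.ofMul (x.toMul ^ p) = 0
    rw [hexp]
    rfl)
  have h1 := card_gen_tuples_add (p := p) (r := r) (V := Additive Q) hcard
  rw [← h1]
  apply Nat.card_congr
  refine Equiv.subtypeEquiv (Equiv.refl _) ?_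
  intro s
  have hset : (Additive.toMul ⁻¹' (Set.range s) : Set (Additive Q))
      = Set.range (show Fin r → Additive Q from s) := by
    ext x
    simp only [Set.mem_preimage, Set.mem_range]
    rfl
  have key : (Subgroup.closure (Set.range s)).toAddSubgroup
      = AddSubgroup.closure (Set.range (show Fin r → Additive Q from s)) := by
    rw [Subgroup.toAddSubgroup_closure, hset]
  show Subgroup.closure (Set.range s) = ⊤ ↔
    AddSubgroup.closure (Set.range (show Fin r → Additive Q from s)) = ⊤
  rw [← key]
  constructor
  · intro h
    rw [h]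
    rfl
  · intro h
    apply Subgroup.toAddSubgroup.injective
    rw [h]
    rfl

end Cfsg.Agent.Lib.Helper8
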