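import Mathlib
import Cfsg.Agent.Lib.Helper8.Gl69Defs

set_option autoImplicit false

/-! S4359, package G2a: windows of a `Seq`. -/

namespace Cfsg.Agent.Lib.Helper8.Gl69

open scoped Pointwise

universe u

variable {G : Type u} [Group G]

/-- the generators are conjugate under the powers of `g`. -/
theorem g2a_conj {p t : ℕ} {g : G} {x : ℤ → G} (hS : Seq p t g x) (i d : ℤ) :
    x (i + d) = (g ^ d)⁻¹ * x i * g ^ d := by
  induction d using Int.induction_on with
  | zero => simp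
  | succ n ih =>
    rw [← add_assoc, hS.shift, ih, zpow_add_one]
    group
  | pred n ih =>
    have h := hS.shift (i + (-(n : ℤ) - 1))
    have e : i + (-(n : ℤ) - 1) + 1 = i + -(n : ℤ) := by ring
    rw [e, ih] at h
    have h2 : x (i + (-(n : ℤ) - 1)) = g * ((g ^ (-(n : ℤ)))⁻¹ * x i * g ^ (-(n : ℤ))) * g⁻¹ := by
      rw [h]; group
    rw [h2, zpow_sub_one]
    group

/-- commutation of two generators only depends on the difference of the indices. -/
theorem g2a_commute_iff {p t : ℕ} {g : G} {x : ℤ → G} (hS : Seq p t g x) (i j d : ℤ) :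
    x (i + d) * x (j + d) = x (j + d) * x (i + d) ↔ x i * x j = x j * x i := by
  rw [g2a_conj hS i d, g2a_conj hS j d]
  constructor
  · intro h
    have h2 : (g ^ d)⁻¹ * (x i * x j) * g ^ d = (g ^ d)⁻¹ * (x j * x i) * g ^ d := by
      calc (g ^ d)⁻¹ * (x i * x j) * g ^ d
          = (g ^ d)⁻¹ * x i * g ^ d * ((g ^ d)⁻¹ * x j * g ^ d) := by group
        _ = (g ^ d)⁻¹ * x j * g ^ d * ((g ^ d)⁻¹ * x i * g ^ d) := h
        _ = (g ^ d)⁻¹ * (x j * x i) * g ^ d := by group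
    exact mul_left_cancel (mul_right_cancel h2)
  · intro h
    calc (g ^ d)⁻¹ * x i * g ^ d * ((g ^ d)⁻¹ * x j * g ^ d)
        = (g ^ d)⁻¹ * (x i * x j) * g ^ d := by group
      _ = (g ^ d)⁻¹ * (x j * x i) * g ^ d := by rw [h]
      _ = (g ^ d)⁻¹ * x j * g ^ d * ((g ^ d)⁻¹ * x i * g ^ d) := by group

/-- shift invariance of commutation. -/
theorem seq_commute_shift {p t : ℕ} {g : G} {x : ℤ → G} (hS : Seq p t g x) (i j : ℤ)
    (h : x 0 * x (j - i) = x (j - i) * x 0) : x i * x j = x j * x i := by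
  have h2 := (g2a_commute_iff hS 0 (j - i) i).2 h
  have e1 : (0 : ℤ) + i = i := by ring
  have e2 : j - i + i = j := by ring
  rwa [e1, e2] at h2

/-- a general step: a subgroup of index `p` in a `p`-group is normal with cyclic quotient. -/
theorem g2a_step {p : ℕ} (hp : p.Prime) {H : Type u} [Group H] [Finite H] (N : Subgroup H)
    (k : ℕ) (hH : Nat.card H = p ^ (k + 1)) (hN : Nat.card N = p ^ k) :
    (∀ y z : H, y * z * y⁻¹ * z⁻¹ ∈ N) ∧
    (∀ z : H, z ∉ N → ∀ y : H, ∃ e : ℕ, (z ^ e)⁻¹ * y ∈ N ∧ y * (z ^ e)⁻¹ ∈ N) := by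
  have hidx : N.index = p := by
    have h := Subgroup.card_mul_index N
    rw [hH, hN, pow_succ] at h
    exact Nat.eq_of_mul_eq_mul_left (pow_pos hp.pos k) h
  have hnorm : N.Normal := by
    apply Subgroup.normal_of_index_eq_minFac_card
    rw [hidx, hH, hp.pow_minFac (Nat.succ_ne_zero k)]
  have hQ : Nat.card (H ⧸ N) = p := by rw [← Subgroup.index_eq_card, hidx]
  haveI : Fact p.Prime := ⟨hp⟩
  constructor
  · intro y z
    haveI : IsCyclic (H ⧸ N) := isCyclic_of_prime_card hQ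
    have hc : ∀ a b : H ⧸ N, a * b = b * a :=
      isMulCommutative_iff.1 (IsCyclic.isMulCommutative (α := H ⧸ N))
    rw [← QuotientGroup.eq_one_iff]
    have e : ((y * z * y⁻¹ * z⁻¹ : H) : H ⧸ N)
        = (y : H ⧸ N) * (z : H ⧸ N) * (y : H ⧸ N)⁻¹ * (z : H ⧸ N)⁻¹ := by
      simp
    rw [e, hc (y : H ⧸ N) (z : H ⧸ N)]
    group
  · intro z hz y
    have hz1 : (z : H ⧸ N) ≠ 1 := by
      intro h
      exact hz ((QuotientGroup.eq_one_iff z).1 h)
    obtain ⟨e, he⟩ := (Submonoid.mem_powers_iff _ _).1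
      (mem_powers_of_prime_card hQ hz1 (g' := (y : H ⧸ N)))
    refine ⟨e, ?_, ?_⟩
    · rw [← QuotientGroup.eq_one_iff]
      have e1 : (((z ^ e)⁻¹ * y : H) : H ⧸ N) = ((z : H ⧸ N) ^ e)⁻¹ * (y : H ⧸ N) := by simp
      rw [e1, he]
      group
    · rw [← QuotientGroup.eq_one_iff]
      have e1 : ((y * (z ^ e)⁻¹ : H) : H ⧸ N) = (y : H ⧸ N) * ((z : H ⧸ N) ^ e)⁻¹ := by simp
      rw [e1, he]
      group

variable [Finite G]

/-- the step for two subgroups of `G`. -/
theorem g2a_step_sub {p : ℕ} (hp : p.Prime) {W N : Subgroup G} (hle : N ≤ W) (k : ℕ)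
    (hW : Nat.card W = p ^ (k + 1)) (hN : Nat.card N = p ^ k) :
    (∀ y ∈ W, ∀ z ∈ W, y * z * y⁻¹ * z⁻¹ ∈ N) ∧
    (∀ z ∈ W, z ∉ N → ∀ y ∈ W, ∃ e : ℕ, (z ^ e)⁻¹ * y ∈ N ∧ y * (z ^ e)⁻¹ ∈ N) := by
  have hN' : Nat.card (N.subgroupOf W) = p ^ k := by
    rw [← hN]
    exact Nat.card_congr (Subgroup.subgroupOfEquivOfLe hle).toEquiv
  obtain ⟨h1, h2⟩ := g2a_step hp (N.subgroupOf W) k hW hN'
  constructor
  · intro y hy z hz
    have := h1 ⟨y, hy⟩ ⟨z, hz⟩
    rw [Subgroup.mem_subgroupOf] at this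
    simpa using this
  · intro z hz hzN y hy
    have hz' : (⟨z, hz⟩ : W) ∉ N.subgroupOf W := by
      rw [Subgroup.mem_subgroupOf]
      exact hzN
    obtain ⟨e, he1, he2⟩ := h2 ⟨z, hz⟩ hz' ⟨y, hy⟩
    rw [Subgroup.mem_subgroupOf] at he1 he2
    exact ⟨e, by simpa using he1, by simpa using he2⟩

/-- a generator lies in each window containing its index. -/
theorem g2a_mem_win (x : ℤ → G) (a : ℤ) (k : ℕ) (i : ℤ) (h1 : a ≤ i) (h2 : i < a + k) :
    x i ∈ Subgroup.closure (x '' Set.Ico a (a + k)) :=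
  Subgroup.subset_closure ⟨i, ⟨h1, h2⟩, rfl⟩

theorem g2a_win_le (x : ℤ → G) (a : ℤ) (k : ℕ) (H : Subgroup G)
    (h : ∀ i : ℤ, a ≤ i → i < a + k → x i ∈ H) :
    Subgroup.closure (x '' Set.Ico a (a + k)) ≤ H := by
  rw [Subgroup.closure_le]
  rintro _ ⟨i, hi, rfl⟩
  exact h i hi.1 hi.2

theorem g2a_win_mono (x : ℤ → G) (a b : ℤ) (k l : ℕ) (h1 : b ≤ a) (h2 : a + k ≤ b + l) :
    Subgroup.closure (x '' Set.Ico a (a + k)) ≤ Subgroup.closure (x '' Set.Ico b (b + l)) := by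
  apply g2a_win_le
  intro i hi1 hi2
  exact g2a_mem_win x b l i (by omega) (by omega)

/-- the lowest generator of a window is not in the rest. -/
theorem g2a_low_not_mem {p t : ℕ} (hp : p.Prime) {g : G} {x : ℤ → G} (hS : Seq p t g x)
    (a : ℤ) (k : ℕ) (hk : k + 1 ≤ t) :
    x a ∉ Subgroup.closure (x '' Set.Ico (a + 1) (a + 1 + (k : ℕ))) := by
  intro hmem
  have hle : Subgroup.closure (x '' Set.Ico a (a + ((k + 1 : ℕ) : ℤ)))
      ≤ Subgroup.closure (x '' Set.Ico (a + 1) (a + 1 + (k : ℕ))) := by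
    apply g2a_win_le
    intro i hi1 hi2
    rcases eq_or_lt_of_le hi1 with h | h
    · rw [← h]; exact hmem
    · exact g2a_mem_win x (a + 1) k i (by omega) (by push_cast at hi2; omega)
  have h1 := Subgroup.card_le_of_le hle
  rw [hS.card a (k + 1) hk, hS.card (a + 1) k (by omega)] at h1
  have h2 : p ^ k < p ^ (k + 1) := Nat.pow_lt_pow_right hp.one_lt (Nat.lt_succ_self k)
  omega

/-- the highest generator of a window is not in the rest. -/
theorem g2a_high_not_mem {p t : ℕ} (hp : p.Prime) {g : G} {x : ℤ → G} (hS : Seq p t g x)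
    (a : ℤ) (k : ℕ) (hk : k + 1 ≤ t) :
    x (a + k) ∉ Subgroup.closure (x '' Set.Ico a (a + (k : ℕ))) := by
  intro hmem
  have hle : Subgroup.closure (x '' Set.Ico a (a + ((k + 1 : ℕ) : ℤ)))
      ≤ Subgroup.closure (x '' Set.Ico a (a + (k : ℕ))) := by
    apply g2a_win_le
    intro i hi1 hi2
    push_cast at hi2
    rcases eq_or_lt_of_le (show i ≤ a + k by omega) with h | h
    · rw [h]; exact hmem
    · exact g2a_mem_win x a k i hi1 h
  have h1 := Subgroup.card_le_of_le hle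
  rw [hS.card a (k + 1) hk, hS.card a k (by omega)] at h1
  have h2 : p ^ k < p ^ (k + 1) := Nat.pow_lt_pow_right hp.one_lt (Nat.lt_succ_self k)
  omega

theorem seq_orderOf {p t : ℕ} (hp : p.Prime) {g : G} {x : ℤ → G} (hS : Seq p t g x)
    (ht : 1 ≤ t) (i : ℤ) : orderOf (x i) = p := by
  have h := hS.card i 1 ht
  have e : x '' Set.Ico i (i + ((1 : ℕ) : ℤ)) = {x i} := by
    ext y
    constructor
    · rintro ⟨j, hj, rfl⟩
      have h1 := hj.1
      have h2 := hj.2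
      push_cast at h2
      have : j = i := by omega
      rw [this]
      exact Set.mem_singleton _
    · intro hy
      rw [Set.mem_singleton_iff] at hy
      exact ⟨i, ⟨le_rfl, by push_cast; omega⟩, hy.symm⟩
  rw [e, ← Subgroup.zpowers_eq_closure, Nat.card_zpowers, pow_one] at h
  exact h

/-- `[x_a, x_b] ∈ ⟨x_{a+1}, …, x_{b-1}⟩` when the window `[a, b]` has at most `t` members. -/
theorem seq_commutator_mem {p t : ℕ} (hp : p.Prime) {g : G} {x : ℤ → G} (hS : Seq p t g x)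
    (a : ℤ) (k : ℕ) (hk : k + 2 ≤ t) (y z : G)
    (hy : y ∈ Subgroup.closure (x '' Set.Ico a (a + (k + 2 : ℕ))))
    (hz : z ∈ Subgroup.closure (x '' Set.Ico a (a + (k + 2 : ℕ)))) :
    y * z * y⁻¹ * z⁻¹ ∈ Subgroup.closure (x '' Set.Ico (a + 1) (a + 1 + (k : ℕ))) := by
  obtain ⟨W, hWdef⟩ : ∃ W : Subgroup G,
      W = Subgroup.closure (x '' Set.Ico a (a + ((k + 1 + 1 : ℕ) : ℤ))) := ⟨_, rfl⟩
  obtain ⟨A, hAdef⟩ : ∃ A : Subgroup G,
      A = Subgroup.closure (x '' Set.Ico a (a + ((k + 1 : ℕ) : ℤ))) := ⟨_, rfl⟩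
  obtain ⟨B, hBdef⟩ : ∃ B : Subgroup G,
      B = Subgroup.closure (x '' Set.Ico (a + 1) (a + 1 + ((k + 1 : ℕ) : ℤ))) := ⟨_, rfl⟩
  obtain ⟨C, hCdef⟩ : ∃ C : Subgroup G,
      C = Subgroup.closure (x '' Set.Ico (a + 1) (a + 1 + ((k : ℕ) : ℤ))) := ⟨_, rfl⟩
  have hWc : Nat.card W = p ^ (k + 1 + 1) := by rw [hWdef]; exact hS.card a (k + 1 + 1) hk
  have hAc : Nat.card A = p ^ (k + 1) := by rw [hAdef]; exact hS.card a (k + 1) (by omega)
  have hBc : Nat.card B = p ^ (k + 1) := by rw [hBdef]; exact hS.card (a + 1) (k + 1) (by omega)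
  have hCc : Nat.card C = p ^ k := by rw [hCdef]; exact hS.card (a + 1) k (by omega)
  have hAW : A ≤ W := by
    rw [hAdef, hWdef]
    exact g2a_win_mono x _ _ _ _ le_rfl (by push_cast; omega)
  have hBW : B ≤ W := by
    rw [hBdef, hWdef]
    exact g2a_win_mono x _ _ _ _ (by omega) (by push_cast; omega)
  have hCA : C ≤ A := by
    rw [hCdef, hAdef]
    exact g2a_win_mono x _ _ _ _ (by omega) (by push_cast; omega)
  have hCB : C ≤ B := by
    rw [hCdef, hBdef]
    exact g2a_win_mono x _ _ _ _ le_rfl (by push_cast; omega)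
  have hyW : y ∈ W := by rw [hWdef]; exact hy
  have hzW : z ∈ W := by rw [hWdef]; exact hz
  have hmA := (g2a_step_sub hp hAW (k + 1) hWc hAc).1 y hyW z hzW
  have hmB := (g2a_step_sub hp hBW (k + 1) hWc hBc).1 y hyW z hzW
  -- `A ⊓ B = C`
  have hAB : A ⊓ B ≠ A := by
    intro h
    have hle : A ≤ B := by rw [← h]; exact inf_le_right
    have hAeqB : A = B := Subgroup.eq_of_le_of_card_ge hle (by rw [hAc, hBc])
    have hmem : x (a + ((k + 1 : ℕ) : ℤ)) ∈ A := by
      rw [hAeqB, hBdef]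
      exact g2a_mem_win x (a + 1) (k + 1) _ (by push_cast; omega) (by push_cast; omega)
    rw [hAdef] at hmem
    exact g2a_high_not_mem hp hS a (k + 1) hk hmem
  have hdvd : Nat.card (A ⊓ B : Subgroup G) ∣ p ^ (k + 1) := by
    rw [← hAc]
    exact Subgroup.card_dvd_of_le inf_le_left
  obtain ⟨j, hj, hcard⟩ := (Nat.dvd_prime_pow hp).1 hdvd
  have hj' : j ≤ k := by
    by_contra hcon
    have hjk : j = k + 1 := by omega
    apply hAB
    exact Subgroup.eq_of_le_of_card_ge inf_le_left (by rw [hAc, hcard, hjk])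
  have hCeq : C = A ⊓ B := by
    apply Subgroup.eq_of_le_of_card_ge (le_inf hCA hCB)
    rw [hcard, hCc]
    exact Nat.pow_le_pow_right hp.pos hj'
  rw [← hCdef, hCeq]
  exact ⟨hmA, hmB⟩

/-- peeling off the lowest generator: a nontrivial element of the window `[a, a+k)` lies in
`x_b ^ e * ⟨x_{b+1}, …⟩` for a unique lowest index `b`, with `x_b ^ e ≠ 1`. -/
theorem seq_lowest {p t : ℕ} (hp : p.Prime) {g : G} {x : ℤ → G} (hS : Seq p t g x)
    (a : ℤ) (k : ℕ) (hk : k ≤ t) (w : G)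
    (hw : w ∈ Subgroup.closure (x '' Set.Ico a (a + k))) (hw1 : w ≠ 1) :
    ∃ (b : ℤ) (e : ℕ) (r : G), a ≤ b ∧ b < a + k ∧ x b ^ e ≠ 1 ∧
      r ∈ Subgroup.closure (x '' Set.Ico (b + 1) (a + k)) ∧ w = x b ^ e * r := by
  induction k generalizing a w with
  | zero =>
    exfalso
    apply hw1
    have e : Set.Ico a (a + ((0 : ℕ) : ℤ)) = ∅ := by
      apply Set.Ico_eq_empty
      push_cast
      omega
    rw [e, Set.image_empty, Subgroup.closure_empty, Subgroup.mem_bot] at hw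
    exact hw
  | succ k ih =>
    have hWc := hS.card a (k + 1) hk
    have hNc := hS.card (a + 1) k (by omega)
    have hle : Subgroup.closure (x '' Set.Ico (a + 1) (a + 1 + ((k : ℕ) : ℤ)))
        ≤ Subgroup.closure (x '' Set.Ico a (a + ((k + 1 : ℕ) : ℤ))) :=
      g2a_win_mono x _ _ _ _ (by omega) (by push_cast; omega)
    have hxa : x a ∈ Subgroup.closure (x '' Set.Ico a (a + ((k + 1 : ℕ) : ℤ))) :=
      g2a_mem_win x a (k + 1) a le_rfl (by push_cast; omega)
    obtain ⟨e, he1, -⟩ := (g2a_step_sub hp hle k hWc hNc).2 (x a) hxa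
      (g2a_low_not_mem hp hS a k hk) w hw
    have hIco : a + 1 + ((k : ℕ) : ℤ) = a + ((k + 1 : ℕ) : ℤ) := by push_cast; ring
    by_cases hxe : x a ^ e = 1
    · rw [hxe, inv_one, one_mul] at he1
      obtain ⟨b, e', r, hb1, hb2, hbe, hr, hwr⟩ := ih (a + 1) (by omega) w he1 hw1
      refine ⟨b, e', r, by omega, by push_cast; omega, hbe, ?_, hwr⟩
      rw [← hIco]
      exact hr
    · refine ⟨a, e, (x a ^ e)⁻¹ * w, le_rfl, by push_cast; omega, hxe, ?_, by group⟩
      rw [← hIco]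
      exact he1

/-- the mirror image of `seq_lowest`. -/
theorem seq_highest {p t : ℕ} (hp : p.Prime) {g : G} {x : ℤ → G} (hS : Seq p t g x)
    (a : ℤ) (k : ℕ) (hk : k ≤ t) (w : G)
    (hw : w ∈ Subgroup.closure (x '' Set.Ico a (a + k))) (hw1 : w ≠ 1) :
    ∃ (b : ℤ) (e : ℕ) (r : G), a ≤ b ∧ b < a + k ∧ x b ^ e ≠ 1 ∧
      r ∈ Subgroup.closure (x '' Set.Ico a b) ∧ w = r * x b ^ e := by
  induction k generalizing w with
  | zero =>
    exfalso
    apply hw1
    have e : Set.Ico a (a + ((0 : ℕ) : ℤ)) = ∅ := by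
      apply Set.Ico_eq_empty
      push_cast
      omega
    rw [e, Set.image_empty, Subgroup.closure_empty, Subgroup.mem_bot] at hw
    exact hw
  | succ k ih =>
    have hWc := hS.card a (k + 1) hk
    have hNc := hS.card a k (by omega)
    have hle : Subgroup.closure (x '' Set.Ico a (a + ((k : ℕ) : ℤ)))
        ≤ Subgroup.closure (x '' Set.Ico a (a + ((k + 1 : ℕ) : ℤ))) :=
      g2a_win_mono x _ _ _ _ le_rfl (by push_cast; omega)
    have hxa : x (a + k) ∈ Subgroup.closure (x '' Set.Ico a (a + ((k + 1 : ℕ) : ℤ))) :=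
      g2a_mem_win x a (k + 1) (a + k) (by omega) (by push_cast; omega)
    obtain ⟨e, -, he2⟩ := (g2a_step_sub hp hle k hWc hNc).2 (x (a + k)) hxa
      (g2a_high_not_mem hp hS a k hk) w hw
    by_cases hxe : x (a + k) ^ e = 1
    · rw [hxe, inv_one, mul_one] at he2
      obtain ⟨b, e', r, hb1, hb2, hbe, hr, hwr⟩ := ih (by omega) w he2 hw1
      exact ⟨b, e', r, hb1, by push_cast; omega, hbe, hr, hwr⟩
    · exact ⟨a + k, e, w * (x (a + k) ^ e)⁻¹, by omega, by push_cast; omega, hxe, he2, by group⟩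

end Cfsg.Agent.Lib.Helper8.Gl69
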