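import Mathlib
import Cfsg.Agent.Lib.Helper8.Gl69Defs
import Cfsg.Agent.Lib.Helper8.Gl69G2a

set_option autoImplicit false

/-! S4359, package G2b: generators at distance `k` with `3 k < 2 t` commute. -/

namespace Cfsg.Agent.Lib.Helper8.Gl69

open scoped Pointwise

universe u

variable {G : Type u} [Group G]

/-- the generators are conjugate under the powers of `g`. -/
theorem g2b_conj {p t : ℕ} {g : G} {x : ℤ → G} (hS : Seq p t g x) (i d : ℤ) :
    x (i + d) = (g ^ d)⁻¹ * x i * g ^ d := by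
  induction d using Int.induction_on with
  | zero => simp
  | succ n ih =>
    rw [← add_assoc, hS.shift, ih, zpow_add_one]
    group
  | pred n ih =>
    have h := hS.shift (i + (-(n : ℤ) - 1))
    have e : i + (-(n : ℤ) - 1) + 1 = i + -(n : ℤ) := by ring
    rw [e, ih] at h
    have h2 : x (i + (-(n : ℤ) - 1)) = g * ((g ^ (-(n : ℤ)))⁻¹ * x i * g ^ (-(n : ℤ))) * g⁻¹ := by
      rw [h]; group
    rw [h2, zpow_sub_one]
    group

/-- commutation of two generators only depends on the difference of the indices. -/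
theorem g2b_commute_iff {p t : ℕ} {g : G} {x : ℤ → G} (hS : Seq p t g x) (i j d : ℤ) :
    x (i + d) * x (j + d) = x (j + d) * x (i + d) ↔ x i * x j = x j * x i := by
  rw [g2b_conj hS i d, g2b_conj hS j d]
  constructor
  · intro h
    have h2 : (g ^ d)⁻¹ * (x i * x j) * g ^ d = (g ^ d)⁻¹ * (x j * x i) * g ^ d := by
      calc (g ^ d)⁻¹ * (x i * x j) * g ^ d
          = (g ^ d)⁻¹ * x i * g ^ d * ((g ^ d)⁻¹ * x j * g ^ d) := by group
        _ = (g ^ d)⁻¹ * x j * g ^ d * ((g ^ d)⁻¹ * x i * g ^ d) := h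
        _ = (g ^ d)⁻¹ * (x j * x i) * g ^ d := by group
    exact mul_left_cancel (mul_right_cancel h2)
  · intro h
    calc (g ^ d)⁻¹ * x i * g ^ d * ((g ^ d)⁻¹ * x j * g ^ d)
        = (g ^ d)⁻¹ * (x i * x j) * g ^ d := by group
      _ = (g ^ d)⁻¹ * (x j * x i) * g ^ d := by rw [h]
      _ = (g ^ d)⁻¹ * x j * g ^ d * ((g ^ d)⁻¹ * x i * g ^ d) := by group

/-- an element commuting with all the generators of a window commutes with the window. -/
theorem g2b_commute_closure {x : ℤ → G} (c : G) (s : Set ℤ)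
    (h : ∀ i ∈ s, c * x i = x i * c) (y : G) (hy : y ∈ Subgroup.closure (x '' s)) :
    c * y = y * c := by
  have hle : Subgroup.closure (x '' s) ≤ Subgroup.centralizer ({c} : Set G) := by
    rw [Subgroup.closure_le]
    rintro _ ⟨i, hi, rfl⟩
    rw [SetLike.mem_coe, Subgroup.mem_centralizer_iff]
    intro z hz
    rw [Set.mem_singleton_iff] at hz
    rw [hz]
    exact h i hi
  have := hle hy
  rw [Subgroup.mem_centralizer_iff] at this
  exact this c (Set.mem_singleton c)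

/-- the key computation: if `c` commutes with `b` and `c⁻¹ a c = a u` with `u` commuting with `b`,
then `c` commutes with the commutator of `a` and `b`. -/
theorem g2b_key_left (a b c u : G) (hcb : c * b = b * c) (hu : u * b = b * u)
    (hac : c⁻¹ * a * c = a * u) : c * (a * b * a⁻¹ * b⁻¹) = (a * b * a⁻¹ * b⁻¹) * c := by
  have h1 : c⁻¹ * (a * b * a⁻¹ * b⁻¹) * c
      = (c⁻¹ * a * c) * (c⁻¹ * b * c) * (c⁻¹ * a * c)⁻¹ * (c⁻¹ * b * c)⁻¹ := by group
  have h2 : c⁻¹ * b * c = b := by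
    rw [mul_assoc, ← hcb, ← mul_assoc, inv_mul_cancel, one_mul]
  have h3 : a * u * b * (a * u)⁻¹ * b⁻¹ = a * b * a⁻¹ * b⁻¹ := by
    calc a * u * b * (a * u)⁻¹ * b⁻¹ = a * (u * b) * u⁻¹ * a⁻¹ * b⁻¹ := by group
      _ = a * (b * u) * u⁻¹ * a⁻¹ * b⁻¹ := by rw [hu]
      _ = a * b * a⁻¹ * b⁻¹ := by group
  rw [hac, h2, h3] at h1
  calc c * (a * b * a⁻¹ * b⁻¹) = c * (c⁻¹ * (a * b * a⁻¹ * b⁻¹) * c) := by rw [h1]
    _ = (a * b * a⁻¹ * b⁻¹) * c := by group

/-- the mirror computation. -/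
theorem g2b_key_right (a b c u : G) (hca : c * a = a * c) (hu : u * a = a * u)
    (hbc : c⁻¹ * b * c = b * u) : c * (a * b * a⁻¹ * b⁻¹) = (a * b * a⁻¹ * b⁻¹) * c := by
  have h1 : c⁻¹ * (a * b * a⁻¹ * b⁻¹) * c
      = (c⁻¹ * a * c) * (c⁻¹ * b * c) * (c⁻¹ * a * c)⁻¹ * (c⁻¹ * b * c)⁻¹ := by group
  have h2 : c⁻¹ * a * c = a := by
    rw [mul_assoc, ← hca, ← mul_assoc, inv_mul_cancel, one_mul]
  have hu' : u * a⁻¹ = a⁻¹ * u := by
    calc u * a⁻¹ = a⁻¹ * (a * u) * a⁻¹ := by group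
      _ = a⁻¹ * (u * a) * a⁻¹ := by rw [hu]
      _ = a⁻¹ * u := by group
  have h3 : a * (b * u) * a⁻¹ * (b * u)⁻¹ = a * b * a⁻¹ * b⁻¹ := by
    calc a * (b * u) * a⁻¹ * (b * u)⁻¹ = a * b * (u * a⁻¹) * u⁻¹ * b⁻¹ := by group
      _ = a * b * (a⁻¹ * u) * u⁻¹ * b⁻¹ := by rw [hu']
      _ = a * b * a⁻¹ * b⁻¹ := by group
  rw [hbc, h2, h3] at h1
  calc c * (a * b * a⁻¹ * b⁻¹) = c * (c⁻¹ * (a * b * a⁻¹ * b⁻¹) * c) := by rw [h1]
    _ = (a * b * a⁻¹ * b⁻¹) * c := by group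

/-- an element of prime order is a power of each of its nontrivial powers. -/
theorem g2b_commute_of_pow {p : ℕ} (hp : p.Prime) (y c : G) (hy : orderOf y = p) (e : ℕ)
    (he : y ^ e ≠ 1) (hc : c * y ^ e = y ^ e * c) : c * y = y * c := by
  have hcop : e.Coprime (orderOf y) := by
    rw [hy]
    apply Nat.Coprime.symm
    rw [hp.coprime_iff_not_dvd]
    intro hdvd
    apply he
    rw [← hy] at hdvd
    exact orderOf_dvd_iff_pow_eq_one.1 hdvd
  obtain ⟨m, hm⟩ := exists_pow_eq_self_of_coprime hcop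
  have h1 : Commute c (y ^ e) := hc
  have h2 : Commute c ((y ^ e) ^ m) := h1.pow_right m
  rw [hm] at h2
  exact h2

variable [Finite G]

/-- **G2b**: generators at distance `k` with `3 k < 2 t` commute. -/
theorem seq_commute {p t : ℕ} (hp : p.Prime) {g : G} {x : ℤ → G} (hS : Seq p t g x)
    (k : ℕ) (hk1 : 1 ≤ k) (hk : 3 * k < 2 * t) : x 0 * x k = x k * x 0 := by
  classical
  by_contra hcon
  have hex : ∃ l : ℕ, 1 ≤ l ∧ 3 * l < 2 * t ∧ x 0 * x (l : ℤ) ≠ x (l : ℤ) * x 0 :=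
    ⟨k, hk1, hk, hcon⟩
  obtain ⟨l, hlspec, hlmin⟩ : ∃ l : ℕ, (1 ≤ l ∧ 3 * l < 2 * t ∧ x 0 * x (l : ℤ) ≠ x (l : ℤ) * x 0) ∧
      ∀ j : ℕ, j < l → ¬ (1 ≤ j ∧ 3 * j < 2 * t ∧ x 0 * x (j : ℤ) ≠ x (j : ℤ) * x 0) :=
    ⟨Nat.find hex, Nat.find_spec hex, fun j hj => Nat.find_min hex hj⟩
  obtain ⟨hl1, hl, hlne⟩ := hlspec
  have ht1 : 1 ≤ t := by omega
  have hlt : l + 1 ≤ t := by omega
  -- generators at distance `< l` commute
  have hmin : ∀ j : ℕ, j < l → x 0 * x (j : ℤ) = x (j : ℤ) * x 0 := by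
    intro j hjl
    rcases Nat.eq_zero_or_pos j with h0 | h0
    · subst h0; simp
    · by_contra h
      exact hlmin j hjl ⟨h0, by omega, h⟩
  have hcomm : ∀ i j : ℤ, |i - j| < (l : ℤ) → x i * x j = x j * x i := by
    intro i j hij
    rcases le_total i j with h | h
    · obtain ⟨d, hd⟩ : ∃ d : ℕ, j - i = (d : ℤ) := ⟨(j - i).toNat, by omega⟩
      have hdl : d < l := by
        have : |i - j| = j - i := by rw [abs_sub_comm, abs_of_nonneg (by omega)]
        omega
      have h1 := hmin d hdl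
      have h2 := (g2b_commute_iff hS 0 (d : ℤ) i).2 h1
      have e1 : (0 : ℤ) + i = i := by ring
      have e2 : (d : ℤ) + i = j := by omega
      rwa [e1, e2] at h2
    · obtain ⟨d, hd⟩ : ∃ d : ℕ, i - j = (d : ℤ) := ⟨(i - j).toNat, by omega⟩
      have hdl : d < l := by
        have : |i - j| = i - j := abs_of_nonneg (by omega)
        omega
      have h1 := hmin d hdl
      have h2 := (g2b_commute_iff hS 0 (d : ℤ) j).2 h1
      have e1 : (0 : ℤ) + j = j := by ring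
      have e2 : (d : ℤ) + j = i := by omega
      rw [e1, e2] at h2
      exact h2.symm
  have hord : ∀ i : ℤ, orderOf (x i) = p := seq_orderOf hp hS ht1
  -- the commutator `w`
  obtain ⟨w, hwdef⟩ : ∃ w : G, w = x 0 * x (l : ℤ) * (x 0)⁻¹ * (x (l : ℤ))⁻¹ := ⟨_, rfl⟩
  have hw1 : w ≠ 1 := by
    intro h
    apply hlne
    rw [hwdef] at h
    have : x 0 * x (l : ℤ) * (x 0)⁻¹ * (x (l : ℤ))⁻¹ * (x (l : ℤ) * x 0) = x (l : ℤ) * x 0 := by
      rw [h, one_mul]
    rw [← this]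
    group
  have hmemgen : ∀ (a : ℤ) (m : ℕ) (i : ℤ), a ≤ i → i < a + m →
      x i ∈ Subgroup.closure (x '' Set.Ico a (a + m)) :=
    fun a m i h1 h2 => Subgroup.subset_closure ⟨i, ⟨h1, h2⟩, rfl⟩
  have hwmem : w ∈ Subgroup.closure (x '' Set.Ico (1 : ℤ) (1 + ((l - 1 : ℕ) : ℤ))) := by
    have h := seq_commutator_mem hp hS 0 (l - 1) (by omega) (x 0) (x (l : ℤ))
      (hmemgen 0 (l - 1 + 2) 0 le_rfl (by push_cast; omega))
      (hmemgen 0 (l - 1 + 2) (l : ℤ) (by omega) (by push_cast; omega))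
    rw [hwdef]
    simpa using h
  -- the lowest generator in `w`
  obtain ⟨b, e, r, hb1, hb2, hbe, hr, hwr⟩ := seq_lowest hp hS 1 (l - 1) (by omega) w hwmem hw1
  have hb2' : b < (l : ℤ) := by
    have : ((l - 1 : ℕ) : ℤ) = (l : ℤ) - 1 := by omega
    omega
  have hIco : (1 : ℤ) + ((l - 1 : ℕ) : ℤ) = (l : ℤ) := by omega
  rw [hIco] at hr hwmem
  -- CLAIM A
  have hA : (t : ℤ) ≤ b + l := by
    by_contra hlt'
    push Not at hlt'
    obtain ⟨s, hs⟩ : ∃ s : ℕ, b + (l : ℤ) = (s : ℤ) := ⟨(b + l).toNat, by omega⟩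
    have hst : s + 1 ≤ t := by omega
    have hcb : x (s : ℤ) * x (l : ℤ) = x (l : ℤ) * x (s : ℤ) := by
      apply hcomm
      rw [← hs, abs_of_nonneg (by omega)]
      omega
    obtain ⟨u, hudef⟩ : ∃ u : G, u = (x 0)⁻¹ * (x (s : ℤ))⁻¹ * x 0 * x (s : ℤ) := ⟨_, rfl⟩
    have humem : u ∈ Subgroup.closure (x '' Set.Ico (1 : ℤ) (1 + ((s - 1 : ℕ) : ℤ))) := by
      have h := seq_commutator_mem hp hS 0 (s - 1) (by omega) (x 0)⁻¹ (x (s : ℤ))⁻¹
        (Subgroup.inv_mem _ (hmemgen 0 (s - 1 + 2) 0 le_rfl (by push_cast; omega)))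
        (Subgroup.inv_mem _ (hmemgen 0 (s - 1 + 2) (s : ℤ) (by omega) (by push_cast; omega)))
      rw [hudef]
      simpa using h
    have hub : u * x (l : ℤ) = x (l : ℤ) * u := by
      have := g2b_commute_closure (x := x) (x (l : ℤ)) (Set.Ico (1 : ℤ) (1 + ((s - 1 : ℕ) : ℤ)))
        (by
          intro i hi
          apply hcomm
          have h1 := hi.1
          have h2 := hi.2
          rw [abs_lt]
          constructor <;> omega) u humem
      exact this.symm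
    have hac : (x (s : ℤ))⁻¹ * x 0 * x (s : ℤ) = x 0 * u := by
      rw [hudef]; group
    have hcw := g2b_key_left (x 0) (x (l : ℤ)) (x (s : ℤ)) u hcb hub hac
    rw [← hwdef] at hcw
    -- `x s` commutes with `r`
    have hcr : x (s : ℤ) * r = r * x (s : ℤ) := by
      apply g2b_commute_closure (x := x) (x (s : ℤ)) (Set.Ico (b + 1) (l : ℤ)) _ r hr
      intro i hi
      apply hcomm
      have h1 := hi.1
      have h2 := hi.2
      rw [abs_lt]
      constructor <;> omega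
    have hcbe : x (s : ℤ) * x b ^ e = x b ^ e * x (s : ℤ) := by
      have h1 : x b ^ e = w * r⁻¹ := by rw [hwr]; group
      rw [h1]
      have hcr' : x (s : ℤ) * r⁻¹ = r⁻¹ * x (s : ℤ) := by
        calc x (s : ℤ) * r⁻¹ = r⁻¹ * (r * x (s : ℤ)) * r⁻¹ := by group
          _ = r⁻¹ * (x (s : ℤ) * r) * r⁻¹ := by rw [hcr]
          _ = r⁻¹ * x (s : ℤ) := by group
      calc x (s : ℤ) * (w * r⁻¹) = (x (s : ℤ) * w) * r⁻¹ := by group
        _ = (w * x (s : ℤ)) * r⁻¹ := by rw [hcw]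
        _ = w * (x (s : ℤ) * r⁻¹) := by group
        _ = w * (r⁻¹ * x (s : ℤ)) := by rw [hcr']
        _ = w * r⁻¹ * x (s : ℤ) := by group
    have hcb' := g2b_commute_of_pow hp (x b) (x (s : ℤ)) (hord b) e hbe hcbe
    -- shift back
    have h3 := (g2b_commute_iff hS 0 (l : ℤ) b).1 (by
      have e1 : (0 : ℤ) + b = b := by ring
      have e2 : (l : ℤ) + b = (s : ℤ) := by omega
      rw [e1, e2]
      exact hcb'.symm)
    exact hlne h3
  -- the highest generator in `w`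
  have hwmem2 : w ∈ Subgroup.closure (x '' Set.Ico b (b + ((l - b.toNat : ℕ) : ℤ))) := by
    have hIco2 : b + ((l - b.toNat : ℕ) : ℤ) = (l : ℤ) := by omega
    rw [hIco2, hwr]
    apply Subgroup.mul_mem
    · apply Subgroup.pow_mem
      exact Subgroup.subset_closure ⟨b, ⟨le_rfl, hb2'⟩, rfl⟩
    · have hmono : Subgroup.closure (x '' Set.Ico (b + 1) (l : ℤ))
          ≤ Subgroup.closure (x '' Set.Ico b (l : ℤ)) := by
        apply Subgroup.closure_mono
        apply Set.image_mono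
        intro i hi
        exact ⟨by have := hi.1; omega, hi.2⟩
      exact hmono hr
  obtain ⟨ν, e', r', hν1, hν2, hνe, hr', hwr'⟩ :=
    seq_highest hp hS b (l - b.toNat) (by omega) w hwmem2 hw1
  have hν2' : ν < (l : ℤ) := by omega
  -- CLAIM B
  have hB : (t : ℤ) ≤ 2 * l - ν := by
    by_contra hlt'
    push Not at hlt'
    obtain ⟨s, hs⟩ : ∃ s : ℕ, 2 * (l : ℤ) - ν = (s : ℤ) := ⟨(2 * (l : ℤ) - ν).toNat, by omega⟩
    have hst : s + 1 ≤ t := by omega
    -- `c = x (ν - l)`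
    have hca : x (ν - l) * x 0 = x 0 * x (ν - l) := by
      apply hcomm
      rw [abs_lt]
      constructor <;> omega
    obtain ⟨u, hudef⟩ : ∃ u : G,
        u = (x (l : ℤ))⁻¹ * (x (ν - l))⁻¹ * x (l : ℤ) * x (ν - l) := ⟨_, rfl⟩
    have humem : u ∈ Subgroup.closure
        (x '' Set.Ico (ν - l + 1) (ν - l + 1 + ((s - 1 : ℕ) : ℤ))) := by
      have h := seq_commutator_mem hp hS (ν - l) (s - 1) (by omega) (x (l : ℤ))⁻¹ (x (ν - l))⁻¹
        (Subgroup.inv_mem _ (hmemgen (ν - l) (s - 1 + 2) (l : ℤ) (by omega)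
          (by push_cast; omega)))
        (Subgroup.inv_mem _ (hmemgen (ν - l) (s - 1 + 2) (ν - l) le_rfl (by push_cast; omega)))
      rw [hudef]
      simpa using h
    have hua : u * x 0 = x 0 * u := by
      have := g2b_commute_closure (x := x) (x 0)
        (Set.Ico (ν - l + 1) (ν - l + 1 + ((s - 1 : ℕ) : ℤ)))
        (by
          intro i hi
          apply hcomm
          have h1 := hi.1
          have h2 := hi.2
          rw [abs_lt]
          constructor <;> omega) u humem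
      exact this.symm
    have hbc : (x (ν - l))⁻¹ * x (l : ℤ) * x (ν - l) = x (l : ℤ) * u := by
      rw [hudef]; group
    have hcw := g2b_key_right (x 0) (x (l : ℤ)) (x (ν - l)) u hca hua hbc
    rw [← hwdef] at hcw
    have hcr : x (ν - l) * r' = r' * x (ν - l) := by
      apply g2b_commute_closure (x := x) (x (ν - l)) (Set.Ico b ν) _ r' hr'
      intro i hi
      apply hcomm
      have h1 := hi.1
      have h2 := hi.2
      rw [abs_lt]
      constructor <;> omega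
    have hcνe : x (ν - l) * x ν ^ e' = x ν ^ e' * x (ν - l) := by
      have h1 : x ν ^ e' = r'⁻¹ * w := by rw [hwr']; group
      rw [h1]
      have hcr' : x (ν - l) * r'⁻¹ = r'⁻¹ * x (ν - l) := by
        calc x (ν - l) * r'⁻¹ = r'⁻¹ * (r' * x (ν - l)) * r'⁻¹ := by group
          _ = r'⁻¹ * (x (ν - l) * r') * r'⁻¹ := by rw [hcr]
          _ = r'⁻¹ * x (ν - l) := by group
      calc x (ν - l) * (r'⁻¹ * w) = (x (ν - l) * r'⁻¹) * w := by group
        _ = (r'⁻¹ * x (ν - l)) * w := by rw [hcr']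
        _ = r'⁻¹ * (x (ν - l) * w) := by group
        _ = r'⁻¹ * (w * x (ν - l)) := by rw [hcw]
        _ = r'⁻¹ * w * x (ν - l) := by group
    have hcν := g2b_commute_of_pow hp (x ν) (x (ν - l)) (hord ν) e' hνe hcνe
    have h3 := (g2b_commute_iff hS 0 (l : ℤ) (ν - l)).1 (by
      have e1 : (0 : ℤ) + (ν - l) = ν - l := by ring
      have e2 : (l : ℤ) + (ν - l) = ν := by ring
      rw [e1, e2]
      exact hcν)
    exact hlne h3
  omega

end Cfsg.Agent.Lib.Helper8.Gl69
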