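import Mathlib
import Cfsg.Prelude.Def_Blocks
import Cfsg.Agent.S0866
import Cfsg.Agent.Lib.Helper8.GA3
import Cfsg.Agent.Lib.Helper8.GL24
import Cfsg.Agent.Lib.Helper8.Cover3
import Cfsg.Agent.Lib.Helper8.GS4
import Cfsg.Agent.Lib.Helper8.BlockIso
import Cfsg.Agent.Lib.Helper8.BlockCoeff
import Cfsg.Agent.Lib.Helper8.BlockDefect
import Cfsg.Agent.Lib.Helper8.Deflation
import Cfsg.Agent.Lib.Helper2.LinExt
import Cfsg.Agent.Lib.Helper2.DetChar

/-!
# Height zero characters of the principal block of equal degree: preparations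
-/

set_option autoImplicit false
set_option linter.unusedSectionVars false

namespace Cfsg.Agent.Lib.Helper8.HD

open Cfsg
open scoped ComplexConjugate
open Cfsg.Agent.Lib.Helper1 Cfsg.Agent.Lib.Helper4 Cfsg.Agent.Lib.Helper8

universe u

section

variable {K : Type u} [Group K] [Fintype K] {M : Ideal AlgInt} {p : ℕ}

/-- If `p` divides the group order, `p` divides the sum of the squares of the degrees of the
members of a block. -/
theorem dvd_sum_sq (hM : IsPModular p M) [Fintype (IrrCharacter K)] {b : Set (IrrCharacter K)}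
    (hb : IsPBlock M b) (hp : p ∣ Nat.card K) :
    p ∣ ∑ θ : IrrCharacter K,
      (by classical exact if θ ∈ b then (charDegree (θ : K → ℂ)) ^ 2 else 0) := by
  classical
  have hMp := isPModular_isPrime hM
  have h1 : MemLocalRing M (blockCoeff b 1) := (blockCoeff_spec hMp hb).2.1 1
  rw [blockCoeff_eq_sum] at h1
  have h2 : ∑ ψ : IrrCharacter K,
      (if ψ ∈ b then (1 : ℂ) else 0) * (ψ : K → ℂ) 1 * conj ((ψ : K → ℂ) 1) =
      ((∑ θ : IrrCharacter K, if θ ∈ b then (charDegree (θ : K → ℂ)) ^ 2 else 0 : ℕ) : ℂ) := by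
    rw [Nat.cast_sum]
    refine Finset.sum_congr rfl fun ψ _ => ?_
    obtain ⟨hd, -⟩ := irr_apply_one_eq_charDegree ψ.2
    rw [hd, Complex.conj_natCast]
    split_ifs
    · push_cast; ring
    · simp
  rw [h2] at h1
  set S := ∑ θ : IrrCharacter K, if θ ∈ b then (charDegree (θ : K → ℂ)) ^ 2 else 0 with hS
  have hK0 : (Nat.card K : ℂ) ≠ 0 := Nat.cast_ne_zero.2 Nat.card_pos.ne'
  have h3 : (S : ℂ) = (Nat.card K : ℂ) * ((Nat.card K : ℂ)⁻¹ * (S : ℂ)) := by
    field_simp
  have h4 : MemLocalIdeal M (S : ℂ) := by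
    rw [h3]
    exact memLocalIdeal_mul_right hMp ((memLocalIdeal_natCast_iff hM _).2 hp) h1
  exact (memLocalIdeal_natCast_iff hM S).1 h4

end

section

variable {G : Type u} [Group G] {p : ℕ} [Fact p.Prime]

/-- A normal subgroup of `p`-power index and a Sylow `p`-subgroup generate the group. -/
theorem sup_sylow_eq_top [Finite G] (N : Subgroup G) (hidx : ∃ k : ℕ, N.index = p ^ k)
    (P : Sylow p G) : N ⊔ (P : Subgroup G) = ⊤ := by
  have hp : p.Prime := Fact.out
  obtain ⟨k, hk⟩ := hidx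
  have h1 : (N ⊔ (P : Subgroup G)).index ∣ p ^ k := hk ▸ Subgroup.index_dvd_of_le le_sup_left
  have h2 : (N ⊔ (P : Subgroup G)).index ∣ (P : Subgroup G).index :=
    Subgroup.index_dvd_of_le le_sup_right
  have h3 : (p ^ k).Coprime (P : Subgroup G).index :=
    Nat.Coprime.pow_left k ((Nat.Prime.coprime_iff_not_dvd hp).2 P.not_dvd_index)
  have h4 : (N ⊔ (P : Subgroup G)).index = 1 := Nat.eq_one_of_dvd_coprimes h3 h1 h2
  exact Subgroup.index_eq_one.1 h4

/-- A class function of `N` fixed by a Sylow `p`-subgroup is invariant in `G` when `G / N` is a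
`p`-group. -/
theorem invariant_of_sylow_fixed [Finite G] (N : Subgroup G) [hN : N.Normal]
    (hidx : ∃ k : ℕ, N.index = p ^ k) (P : Sylow p G) {θ : N → ℂ} (hθ : IsClassFunction N θ)
    (hfix : InvS (P : Subgroup G) N θ) (g : G) (n : N) :
    θ ⟨g * n * g⁻¹, hN.conj_mem n n.2 g⟩ = θ n := by
  have h1 : g ∈ ((N ⊔ (P : Subgroup G) : Subgroup G) : Set G) := by
    rw [sup_sylow_eq_top N hidx P]; trivial
  rw [Subgroup.normal_mul] at h1
  obtain ⟨a, ha, b, hb, rfl⟩ := Set.mem_mul.1 h1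
  have h2 := hfix b hb n ⟨b * n * b⁻¹, hN.conj_mem n n.2 b⟩ rfl
  rw [← h2]
  have h3 := hθ ⟨b * n * b⁻¹, hN.conj_mem n n.2 b⟩ ⟨a, ha⟩
  rw [← h3]
  congr 1
  apply Subtype.ext
  simp only [Subgroup.coe_mul, Subgroup.coe_inv]
  group

end

end Cfsg.Agent.Lib.Helper8.HD
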