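import Mathlib
import Cfsg.Prelude.Def_Blocks
import Cfsg.Agent.S0866
import Cfsg.Agent.Lib.Helper8.GA3
import Cfsg.Agent.Lib.Helper8.GL24
import Cfsg.Agent.Lib.Helper8.Cover3
import Cfsg.Agent.Lib.Helper8.GS4
import Cfsg.Agent.Lib.Helper8.BlockIso
import Cfsg.Agent.Lib.Helper8.BlockCoeff
import Cfsg.Agent.Lib.Helper8.BlockDefect
import Cfsg.Agent.Lib.Helper8.Deflation
import Cfsg.Agent.Lib.Helper2.LinExt
import Cfsg.Agent.Lib.Helper2.DetChar

/-!
# Invariant characters of `p'`-degree in the principal block of a normal subgroup of `p`-power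
index extend into the principal block
-/

set_option autoImplicit false
set_option linter.unusedSectionVars false

namespace Cfsg.Agent.Lib.Helper8.HD

open Cfsg
open scoped ComplexConjugate
open Cfsg.Agent.Lib.Helper1 Cfsg.Agent.Lib.Helper4 Cfsg.Agent.Lib.Helper8
open Cfsg.Agent.Lib.Helper2.LinExt Cfsg.Agent.Lib.Helper2.DetChar

universe u

section

variable {G : Type u} [Group G] [Fintype G] (N : Subgroup G) [hN : N.Normal] [Fintype N]
  {M : Ideal AlgInt} {p : ℕ} [Fact p.Prime]

/-- The conjugation endomorphism of a normal subgroup. -/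
def cj (t : G) : N →* N where
  toFun n := ⟨t * n * t⁻¹, hN.conj_mem n n.2 t⟩
  map_one' := by apply Subtype.ext; simp
  map_mul' a b := by apply Subtype.ext; simp

/-- Invariance of a homomorphism `N →* ℂˣ` under `G`. -/
def HInv (φ : N →* ℂˣ) : Prop :=
  ∀ (t : G) (n : N), φ ⟨t * n * t⁻¹, hN.conj_mem n n.2 t⟩ = φ n

/-- An irreducible character of an extension restricting irreducibly into the principal block of
a normal subgroup of `p`-power index lies in the principal block. -/
theorem mem_principalBlock_of_restrict (hM : IsPModular p M) (hidx : ∃ k : ℕ, N.index = p ^ k)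
    (χ : IrrCharacter G) (θ : IrrCharacter N) (hθ : θ ∈ principalBlock M N)
    (hres : ∀ n : N, (χ : G → ℂ) n = (θ : N → ℂ) n) : χ ∈ principalBlock M G := by
  have hMp := isPModular_isPrime hM
  have hb : IsPBlock M (principalBlock M N) := ⟨trivIrr N, by
    unfold principalBlock; congr 1⟩
  have hB : IsPBlock M (principalBlock M G) := ⟨trivIrr G, by
    unfold principalBlock; congr 1⟩
  have hB' : IsPBlock M (blockOf M (χ : G → ℂ)) := ⟨χ, rfl⟩
  have hcov : Covers N (principalBlock M G) (principalBlock M N) := by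
    refine ⟨trivIrr G, trivIrr_mem_principalBlock hMp.ne_top, trivIrr N,
      trivIrr_mem_principalBlock hMp.ne_top, ?_⟩
    have : (fun n : N => (trivIrr G : G → ℂ) n) = (trivIrr N : N → ℂ) := by
      funext n
      rw [trivIrr_apply, trivIrr_apply]
    rw [this, classInner_irr_self (trivIrr N).2]
    exact one_ne_zero
  have hcov' : Covers N (blockOf M (χ : G → ℂ)) (principalBlock M N) := by
    refine ⟨χ, sameBlock_refl hMp.ne_top _, θ, hθ, ?_⟩
    have : (fun n : N => (χ : G → ℂ) n) = (θ : N → ℂ) := funext hres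
    rw [this, classInner_irr_self θ.2]
    exact one_ne_zero
  have h := covers_unique_of_index N hM hidx hB hB' hb hcov hcov'
  rw [h]
  exact sameBlock_refl hMp.ne_top _

/-- The determinant of an invariant character is invariant. -/
theorem hInv_det {ϑ : N → ℂ} (hϑ : IsCharacter N ϑ)
    (hinv : ∀ (g : G) (n : N), ϑ ⟨g * n * g⁻¹, hN.conj_mem n n.2 g⟩ = ϑ n) (δ : N →* ℂˣ)
    (hδ : detChar ϑ = coeHom N δ) : HInv N δ := by
  intro t n
  have h1 := detChar_comp_hom (cj N t) hϑ
  have h2 : (fun h : N => ϑ (cj N t h)) = ϑ := by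
    funext h
    exact hinv t h
  rw [h2] at h1
  have h3 := congrFun h1 n
  rw [hδ] at h3
  simp only [coeHom_apply] at h3
  exact (Units.ext h3).symm

/-- Powers of invariant homomorphisms are invariant. -/
theorem HInv.pow {φ : N →* ℂˣ} (h : HInv N φ) (k : ℕ) : HInv N (φ ^ k) := by
  intro t n
  rw [MonoidHom.pow_apply, MonoidHom.pow_apply, h t n]

theorem HInv.mul {φ ψ : N →* ℂˣ} (h : HInv N φ) (h' : HInv N ψ) : HInv N (φ * ψ) := by
  intro t n
  rw [MonoidHom.mul_apply, MonoidHom.mul_apply, h t n, h' t n]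

/-- If no invariant homomorphism has order `p`, invariant homomorphisms have order prime to
`p`. -/
theorem not_dvd_orderOf (hmin : ∀ φ : N →* ℂˣ, HInv N φ → orderOf φ ≠ p) {δ : N →* ℂˣ}
    (hδ : HInv N δ) : ¬ p ∣ orderOf δ := by
  have hp : p.Prime := Fact.out
  intro hdvd
  obtain ⟨m, hm⟩ := hdvd
  have ho : 0 < orderOf δ := orderOf_pos δ
  have hm0 : m ≠ 0 := by
    rintro rfl
    rw [mul_zero] at hm
    omega
  apply hmin (δ ^ m) (hδ.pow N m)
  rw [orderOf_pow_of_dvd hm0 ⟨p, by rw [hm]; ring⟩, hm]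
  exact Nat.mul_div_cancel _ (Nat.pos_of_ne_zero hm0)

/-- Under the hypothesis that `p'`-degree members of the principal block of `G` are linear and
that no invariant linear character of `N` has order `p`: invariant `p'`-degree members of the
principal block of `N` are linear. -/
theorem linear_of_invariant (hM : IsPModular p M) (hidx : ∃ k : ℕ, N.index = p ^ k)
    (hlin : ∀ χ : IrrCharacter G, χ ∈ principalBlock M G → ¬ p ∣ charDegree (χ : G → ℂ) →
      charDegree (χ : G → ℂ) = 1)
    (hmin : ∀ φ : N →* ℂˣ, HInv N φ → orderOf φ ≠ p)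
    (θ : IrrCharacter N) (hθ : θ ∈ principalBlock M N) (hθp : ¬ p ∣ charDegree (θ : N → ℂ))
    (hinv : ∀ (g : G) (n : N), (θ : N → ℂ) ⟨g * n * g⁻¹, hN.conj_mem n n.2 g⟩ = (θ : N → ℂ) n) :
    charDegree (θ : N → ℂ) = 1 := by
  have hp : p.Prime := Fact.out
  obtain ⟨k, hk⟩ := hidx
  obtain ⟨hd, -⟩ := irr_apply_one_eq_charDegree θ.2
  have hθc : IsCharacter N (θ : N → ℂ) := isCharacter_of_irr θ.2
  obtain ⟨δ, hδ⟩ := exists_detHom hθc
  have hδinv : HInv N δ := hInv_det N hθc hinv δ hδ
  have hcop : Nat.Coprime N.index (orderOf δ) := by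
    rw [hk]
    exact Nat.Coprime.pow_left k ((Nat.Prime.coprime_iff_not_dvd hp).2 (not_dvd_orderOf N hmin hδinv))
  obtain ⟨ψ, hψ, -⟩ := exists_extension_of_coprime N δ hδinv hcop
  have hcop2 : Nat.Coprime N.index (charDegree (θ : N → ℂ)) := by
    rw [hk]
    exact Nat.Coprime.pow_left k ((Nat.Prime.coprime_iff_not_dvd hp).2 hθp)
  obtain ⟨χ, hχ, hχθ⟩ := (Cfsg.Agent.S0866.result N (θ : N → ℂ) θ.2 hinv _ hd hcop2).2
    ⟨coeHom G ψ, (isLinear_coeHom ψ).1, (isLinear_coeHom ψ).2, fun n => by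
      rw [hδ, coeHom_apply, coeHom_apply, hψ n]⟩
  have hB := mem_principalBlock_of_restrict N hM ⟨k, hk⟩ ⟨χ, hχ⟩ θ hθ hχθ
  have hdeg : charDegree χ = charDegree (θ : N → ℂ) := by
    unfold charDegree
    have := hχθ 1
    rw [Subgroup.coe_one] at this
    rw [this]
  have := hlin ⟨χ, hχ⟩ hB (by show ¬ p ∣ charDegree χ; rw [hdeg]; exact hθp)
  rw [← hdeg]
  exact this

end

end Cfsg.Agent.Lib.Helper8.HD
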