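import Mathlib
import Cfsg.Prelude.Def_Blocks
import Cfsg.Agent.Lib.Helper8.HD1
import Cfsg.Agent.Lib.Helper8.HD2

/-!
# The group of invariant linear characters in the principal block, and an invariant linear
character of order `p`
-/

set_option autoImplicit false
set_option linter.unusedSectionVars false

namespace Cfsg.Agent.Lib.Helper8.HD

open Cfsg
open scoped ComplexConjugate
open Cfsg.Agent.Lib.Helper1 Cfsg.Agent.Lib.Helper4 Cfsg.Agent.Lib.Helper8
open Cfsg.Agent.Lib.Helper2.LinExt Cfsg.Agent.Lib.Helper2.DetChar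

universe u

section

variable {G : Type u} [Group G] [Fintype G] (N : Subgroup G) [hN : N.Normal] [Fintype N]
  {M : Ideal AlgInt} {p : ℕ} [Fact p.Prime]

/-- The irreducible character of a homomorphism to `ℂˣ`. -/
noncomputable def irrOf (φ : N →* ℂˣ) : IrrCharacter N :=
  ⟨fun g => ((φ g : ℂˣ) : ℂ), isIrrCharacter_of_hom φ⟩

theorem irrOf_apply (φ : N →* ℂˣ) (g : N) : (irrOf N φ : N → ℂ) g = ((φ g : ℂˣ) : ℂ) := rfl

theorem irrOf_injective : Function.Injective (irrOf N) := by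
  intro φ ψ h
  ext g
  have := congrFun (congrArg Subtype.val h) g
  exact this

/-- Membership in the principal block, for homomorphisms. -/
def InB (M : Ideal AlgInt) (φ : N →* ℂˣ) : Prop := irrOf N φ ∈ principalBlock M N

theorem inB_one (hM : M.IsPrime) : InB N M (1 : N →* ℂˣ) := by
  show SameBlock M (fun _ : N => (1 : ℂ)) (irrOf N 1 : N → ℂ)
  have : (irrOf N 1 : N → ℂ) = fun _ => 1 := by
    funext g
    rw [irrOf_apply]
    simp
  rw [this]
  exact sameBlock_refl hM.ne_top _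

theorem inB_mul (hM : M.IsPrime) {φ ψ : N →* ℂˣ} (h1 : InB N M φ) (h2 : InB N M ψ) :
    InB N M (φ * ψ) := by
  intro g
  have e1 : (irrOf N (φ * ψ) : N → ℂ) = fun g => ((φ g : ℂˣ) : ℂ) * (irrOf N ψ : N → ℂ) g := by
    funext g
    rw [irrOf_apply, irrOf_apply, MonoidHom.mul_apply, Units.val_mul]
  have e2 : (irrOf N φ : N → ℂ) = fun g => ((φ g : ℂˣ) : ℂ) * (fun _ : N => (1 : ℂ)) g := by
    funext g
    rw [irrOf_apply, mul_one]
  have h1g := h1 g
  have h2g := h2 g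
  rw [e2, centralChar_hom_mul] at h1g
  rw [e1, centralChar_hom_mul]
  have hφ : MemLocalRing M ((φ g : ℂˣ) : ℂ) :=
    memLocalRing_char_apply hM.ne_top (isCharacter_of_irr (irrOf N φ).2) g
  have e3 : centralChar (fun _ : N => (1 : ℂ)) g -
      ((φ g : ℂˣ) : ℂ) * centralChar (irrOf N ψ : N → ℂ) g =
      (centralChar (fun _ : N => (1 : ℂ)) g -
        ((φ g : ℂˣ) : ℂ) * centralChar (fun _ : N => (1 : ℂ)) g) +
      ((φ g : ℂˣ) : ℂ) * (centralChar (fun _ : N => (1 : ℂ)) g -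
        centralChar (irrOf N ψ : N → ℂ) g) := by ring
  rw [e3]
  exact memLocalIdeal_add hM h1g (memLocalIdeal_mul_left hM hφ h2g)

theorem inB_pow (hM : M.IsPrime) {φ : N →* ℂˣ} (h : InB N M φ) (k : ℕ) : InB N M (φ ^ k) := by
  induction k with
  | zero =>
    have e : φ ^ 0 = 1 := pow_zero φ
    rw [e]; exact inB_one N hM
  | succ k ih =>
    have e : φ ^ (k + 1) = φ ^ k * φ := pow_succ φ k
    rw [e]; exact inB_mul N hM ih h

theorem inv_eq_pow (φ : N →* ℂˣ) : φ⁻¹ = φ ^ (orderOf φ - 1) := by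
  have ho : 0 < orderOf φ := orderOf_pos φ
  symm
  refine @eq_inv_of_mul_eq_one_left (N →* ℂˣ) _ _ _ ?_
  have e1 : φ ^ (orderOf φ - 1) * φ = φ ^ (orderOf φ - 1 + 1) := (pow_succ φ (orderOf φ - 1)).symm
  have e2 : φ ^ (orderOf φ - 1 + 1) = φ ^ orderOf φ := congrArg (fun k => φ ^ k) (Nat.sub_add_cancel ho)
  have e3 : φ ^ orderOf φ = 1 := pow_orderOf_eq_one φ
  exact e1.trans (e2.trans e3)

/-- The group of invariant linear characters in the principal block. -/
def lam (hM : M.IsPrime) : Subgroup (N →* ℂˣ) where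
  carrier := {φ | HInv N φ ∧ InB N M φ}
  mul_mem' := fun ⟨h1, h2⟩ ⟨h1', h2'⟩ => ⟨h1.mul N h1', inB_mul N hM h2 h2'⟩
  one_mem' := ⟨fun t n => by simp, inB_one N hM⟩
  inv_mem' := fun {φ} ⟨h1, h2⟩ => by
    rw [inv_eq_pow]
    exact ⟨h1.pow N _, inB_pow N hM h2 _⟩

theorem mem_lam (hM : M.IsPrime) (φ : N →* ℂˣ) : φ ∈ lam N hM ↔ HInv N φ ∧ InB N M φ := Iff.rfl

end

end Cfsg.Agent.Lib.Helper8.HD
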