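import Mathlib
import Cfsg.Prelude.Def_Blocks
import Cfsg.Agent.Lib.Helper8.HD1
import Cfsg.Agent.Lib.Helper8.HD2
import Cfsg.Agent.Lib.Helper8.HD3

/-!
# An invariant linear character of order `p`
-/

set_option autoImplicit false
set_option linter.unusedSectionVars false

namespace Cfsg.Agent.Lib.Helper8.HD

open Cfsg
open scoped ComplexConjugate
open Cfsg.Agent.Lib.Helper1 Cfsg.Agent.Lib.Helper4 Cfsg.Agent.Lib.Helper8
open Cfsg.Agent.Lib.Helper2.LinExt Cfsg.Agent.Lib.Helper2.DetChar

universe u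

section

variable {G : Type u} [Group G] [Fintype G] (N : Subgroup G) [hN : N.Normal] [Fintype N]
  {M : Ideal AlgInt} {p : ℕ} [Fact p.Prime]

/-- If the `p'`-degree members of the principal block of `G` are linear, `N` is normal of
`p`-power index and of order divisible by `p`, then `N` has a `G`-invariant linear character of
order `p`. -/
theorem exists_hInv_orderOf (hM : IsPModular p M) (hidx : ∃ k : ℕ, N.index = p ^ k)
    (hpN : p ∣ Nat.card N)
    (hlin : ∀ χ : IrrCharacter G, χ ∈ principalBlock M G → ¬ p ∣ charDegree (χ : G → ℂ) →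
      charDegree (χ : G → ℂ) = 1) :
    ∃ φ : N →* ℂˣ, HInv N φ ∧ orderOf φ = p := by
  classical
  have hp : p.Prime := Fact.out
  have hMp := isPModular_isPrime hM
  by_contra hcon
  have hmin : ∀ φ : N →* ℂˣ, HInv N φ → orderOf φ ≠ p := fun φ h ho => hcon ⟨φ, h, ho⟩
  haveI : Fintype (IrrCharacter N) := Fintype.ofFinite _
  obtain ⟨P⟩ : Nonempty (Sylow p G) := inferInstance
  set P₀ : Subgroup G := (P : Subgroup G) with hP₀
  have hnorm : ∀ x ∈ P₀, Normalizes x N := fun x _ => normalizes_of_normal N x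
  letI act : MulAction P₀ (IrrCharacter N) := irrAct P₀ N hnorm
  have hb : IsPBlock M (principalBlock M N) := ⟨trivIrr N, by unfold principalBlock; congr 1⟩
  -- the action preserves the principal block and the degrees
  have hact_b : ∀ (x : P₀) (θ : IrrCharacter N), θ ∈ principalBlock M N →
      x • θ ∈ principalBlock M N := by
    intro x θ hθ
    have hx := hnorm (x : G)⁻¹ (P₀.inv_mem x.2)
    have e0 : x • θ = irrMap (conjE hx).symm θ := by
      apply Subtype.ext
      funext g
      rfl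
    rw [e0, ← irrMap_image_principalBlock (M := M) (conjE hx).symm]
    exact ⟨θ, hθ, rfl⟩
  have hact_b' : ∀ (x : P₀) (θ : IrrCharacter N), x • θ ∈ principalBlock M N ↔
      θ ∈ principalBlock M N := by
    intro x θ
    constructor
    · intro h
      have := hact_b x⁻¹ _ h
      rwa [inv_smul_smul] at this
    · exact hact_b x θ
  have hact_deg : ∀ (x : P₀) (θ : IrrCharacter N),
      charDegree ((x • θ : IrrCharacter N) : N → ℂ) = charDegree (θ : N → ℂ) := by
    intro x θ
    have hx := hnorm (x : G)⁻¹ (P₀.inv_mem x.2)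
    unfold charDegree
    show ⌊((θ : N → ℂ) (conjE hx 1)).re⌋₊ = _
    rw [map_one]
  let F : IrrCharacter N → ℤ := fun θ =>
    ((if θ ∈ principalBlock M N ∧ ¬ p ∣ charDegree (θ : N → ℂ) then
      (charDegree (θ : N → ℂ)) ^ 2 else 0 : ℕ) : ℤ)
  have hF : ∀ (x : P₀) (θ : IrrCharacter N), F (x • θ) = F θ := by
    intro x θ
    show ((if (x • θ) ∈ principalBlock M N ∧ ¬ p ∣ charDegree ((x • θ : IrrCharacter N) : N → ℂ) then
      (charDegree ((x • θ : IrrCharacter N) : N → ℂ)) ^ 2 else 0 : ℕ) : ℤ) = _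
    rw [hact_deg, hact_b']
  have hfix : ∀ φ : IrrCharacter N, InvS P₀ N (φ : N → ℂ) ↔ ∀ x : P₀, x • φ = φ :=
    fun φ => irrAct_fixed_iff P₀ N hnorm φ
  have hcount := sum_modEq_sum_fixedPoints P.isPGroup'
    (fun φ : IrrCharacter N => InvS P₀ N (φ : N → ℂ)) hfix F hF
  -- the left hand side is divisible by `p`
  have hL : (p : ℤ) ∣ ∑ θ : IrrCharacter N, F θ := by
    have h1 := dvd_sum_sq hM hb hpN
    have h2 : ∑ θ : IrrCharacter N,
        (if θ ∈ principalBlock M N then (charDegree (θ : N → ℂ)) ^ 2 else 0) =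
        (∑ θ : IrrCharacter N, (if θ ∈ principalBlock M N ∧ p ∣ charDegree (θ : N → ℂ) then
          (charDegree (θ : N → ℂ)) ^ 2 else 0)) +
        ∑ θ : IrrCharacter N, (if θ ∈ principalBlock M N ∧ ¬ p ∣ charDegree (θ : N → ℂ) then
          (charDegree (θ : N → ℂ)) ^ 2 else 0) := by
      rw [← Finset.sum_add_distrib]
      refine Finset.sum_congr rfl fun θ _ => ?_
      by_cases h1 : θ ∈ principalBlock M N <;> by_cases h2 : p ∣ charDegree (θ : N → ℂ) <;>
        simp [h1, h2]
    have h3 : p ∣ ∑ θ : IrrCharacter N,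
        (if θ ∈ principalBlock M N ∧ p ∣ charDegree (θ : N → ℂ) then
          (charDegree (θ : N → ℂ)) ^ 2 else 0) := by
      apply Finset.dvd_sum
      intro θ _
      split_ifs with h
      · exact Dvd.dvd.mul_left h.2 _ |>.trans (by rw [sq])
      · exact dvd_zero _
    rw [h2] at h1
    have h4 := (Nat.dvd_add_right h3).1 h1
    show (p : ℤ) ∣ ∑ θ : IrrCharacter N,
      ((if θ ∈ principalBlock M N ∧ ¬ p ∣ charDegree (θ : N → ℂ) then
        (charDegree (θ : N → ℂ)) ^ 2 else 0 : ℕ) : ℤ)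
    rw [← Nat.cast_sum]
    exact Int.natCast_dvd_natCast.2 h4
  -- the fixed points
  let Q : IrrCharacter N → Prop := fun θ => InvS P₀ N (θ : N → ℂ) ∧
    θ ∈ principalBlock M N ∧ ¬ p ∣ charDegree (θ : N → ℂ)
  have hQlin : ∀ θ : IrrCharacter N, Q θ → charDegree (θ : N → ℂ) = 1 := by
    rintro θ ⟨h1, h2, h3⟩
    exact linear_of_invariant N hM hidx hlin hmin θ h2 h3
      (invariant_of_sylow_fixed N hidx P (isClassFunction_of_isCharacter (isCharacter_of_irr θ.2)) h1)
  have hR : ∑ θ ∈ Finset.univ.filter (fun φ : IrrCharacter N => InvS P₀ N (φ : N → ℂ)), F θ =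
      ((Finset.univ.filter Q).card : ℤ) := by
    rw [Finset.sum_filter, Finset.card_filter, Nat.cast_sum]
    refine Finset.sum_congr rfl fun θ _ => ?_
    by_cases h1 : InvS P₀ N (θ : N → ℂ)
    · by_cases h2 : θ ∈ principalBlock M N ∧ ¬ p ∣ charDegree (θ : N → ℂ)
      · have hQ : Q θ := ⟨h1, h2⟩
        rw [if_pos h1, if_pos hQ]
        show ((if θ ∈ principalBlock M N ∧ ¬ p ∣ charDegree (θ : N → ℂ) then
          (charDegree (θ : N → ℂ)) ^ 2 else 0 : ℕ) : ℤ) = _
        rw [if_pos h2, hQlin θ hQ]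
        simp
      · have hQ : ¬ Q θ := fun h => h2 h.2
        rw [if_pos h1, if_neg hQ]
        show ((if θ ∈ principalBlock M N ∧ ¬ p ∣ charDegree (θ : N → ℂ) then
          (charDegree (θ : N → ℂ)) ^ 2 else 0 : ℕ) : ℤ) = _
        rw [if_neg h2]
    · have hQ : ¬ Q θ := fun h => h1 h.1
      rw [if_neg h1, if_neg hQ]
      simp
  -- the group of invariant linear characters in the principal block
  have hmemQ : ∀ φ : lam N hMp, Q (irrOf N (φ : N →* ℂˣ)) := by
    rintro ⟨φ, h1, h2⟩
    refine ⟨?_, h2, ?_⟩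
    · intro s _ g g' hgg'
      rw [irrOf_apply, irrOf_apply]
      have : g' = ⟨s * g * s⁻¹, hN.conj_mem g g.2 s⟩ := Subtype.ext hgg'
      rw [this, h1 s g]
    · have : charDegree (irrOf N φ : N → ℂ) = 1 := by
        apply charDegree_of_apply_one (n := 1)
        rw [irrOf_apply, map_one]
        simp
      rw [this]
      exact hp.one_lt.ne' ∘ Nat.dvd_one.1
  let f : lam N hMp → {θ : IrrCharacter N // Q θ} := fun φ => ⟨irrOf N (φ : N →* ℂˣ), hmemQ φ⟩
  have hf : Function.Bijective f := by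
    constructor
    · intro φ ψ h
      apply Subtype.ext
      apply irrOf_injective N
      exact congrArg Subtype.val h
    · rintro ⟨θ, hθ⟩
      have h1 := hQlin θ hθ
      obtain ⟨hd, -⟩ := irr_apply_one_eq_charDegree θ.2
      rw [h1, Nat.cast_one] at hd
      obtain ⟨φ, hφ⟩ := exists_hom_of_isIrrCharacter θ.2 hd
      have hθφ : irrOf N φ = θ := Subtype.ext hφ.symm
      have hφmem : φ ∈ lam N hMp := by
        refine ⟨?_, ?_⟩
        · intro t n
          have := invariant_of_sylow_fixed N hidx P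
            (isClassFunction_of_isCharacter (isCharacter_of_irr θ.2)) hθ.1 t n
          rw [hφ] at this
          exact Units.ext this
        · show irrOf N φ ∈ principalBlock M N
          rw [hθφ]
          exact hθ.2.1
      exact ⟨⟨φ, hφmem⟩, Subtype.ext hθφ⟩
  have hcard : Nat.card (lam N hMp) = (Finset.univ.filter Q).card := by
    rw [Nat.card_congr (Equiv.ofBijective f hf), Nat.card_eq_fintype_card, Fintype.card_subtype]
  have hdvd : p ∣ Nat.card (lam N hMp) := by
    rw [hcard]
    have h1 : (p : ℤ) ∣ ((Finset.univ.filter Q).card : ℤ) := by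
      rw [← hR]
      have h2 := hcount.dvd
      have h3 := dvd_add h2 hL
      rwa [sub_add_cancel] at h3
    exact Int.natCast_dvd_natCast.1 h1
  obtain ⟨x, hx⟩ := exists_prime_orderOf_dvd_card' p hdvd
  apply hmin (x : N →* ℂˣ) x.2.1
  rw [← hx]
  exact Subgroup.orderOf_coe x

end

end Cfsg.Agent.Lib.Helper8.HD
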