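import Mathlib
import Cfsg.Prelude.Def_Blocks
import Cfsg.Prelude.Def_BlockLocal
import Cfsg.Agent.Lib.Helper8.REL8

/-!
# Harris–Knörr, step 1: induced blocks cover induced blocks
-/

set_option autoImplicit false
set_option linter.unusedSectionVars false

namespace Cfsg.Agent.Lib.Helper8

open Cfsg
open scoped ComplexConjugate
open Cfsg.Agent.Lib.Helper1 Cfsg.Agent.Lib.Helper4

universe u

section

variable {G : Type u} [Group G] [Fintype G] (N : Subgroup G) [hN : N.Normal] [Fintype N]
  {M : Ideal AlgInt}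

/-- If `B` covers `b`, the central characters of `χ ∈ B` and `θ ∈ b` agree modulo the local ideal
on class functions supported on `N`. -/
theorem omega_cong_of_covers_supported (hM : M.IsPrime) {B : Set (IrrCharacter G)}
    (hB : IsPBlock M B) {b : Set (IrrCharacter N)} (hb : IsPBlock M b) (hcov : Covers N B b)
    {χ : IrrCharacter G} (hχ : χ ∈ B) {θ : IrrCharacter N} (hθ : θ ∈ b) {F : G → ℂ}
    (hF : IsClassFunction G F) (hFS : ∀ g, MemLocalRing M (F g))
    (hsupp : ∀ g, g ∉ N → F g = 0) :
    MemLocalIdeal M (omega (χ : G → ℂ) F - omega (θ : N → ℂ) (fun n : N => F n)) := by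
  classical
  have : Fintype (ConjClasses G) := Fintype.ofFinite _
  rw [omega_restrict_eq_sum_classes N _ hF, omega_eq_sum_classes χ.2 hF, ← Finset.sum_sub_distrib]
  apply memLocalIdeal_sum hM
  intro c _
  rw [← mul_sub]
  by_cases hc : Quotient.out c ∈ N
  · exact memLocalIdeal_mul_left hM (hFS _) (covers_cong N hM hB hb hcov hχ hθ ⟨_, hc⟩)
  · rw [hsupp _ hc, zero_mul]
    exact memLocalIdeal_zero hM.ne_top

end

section

variable {G : Type u} [Group G] [Fintype G] {M : Ideal AlgInt} (H L : Subgroup G) (hLH : L ≤ H)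
  [Fintype H] [Fintype L]

include hLH in
/-- If the block `c` of `H` covers the block `e` of `L ⊴ H`, the induced central characters to `G`
agree at elements `g` all of whose `H`-conjugates... all of whose conjugates in `H` lie in `L`. -/
theorem inducedCentralChar_cong_of_coversIn (hnorm : H ≤ Subgroup.normalizer (L : Set G))
    (hM : M.IsPrime) {c : Set (IrrCharacter H)} (hc : IsPBlock M c) {e : Set (IrrCharacter L)}
    (he : IsPBlock M e) (hcov : CoversIn H L hLH c e) {ψ : IrrCharacter H} (hψ : ψ ∈ c)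
    {ξ : IrrCharacter L} (hξ : ξ ∈ e) (g : G) (hg : ∀ h ∈ H, IsConj g h → h ∈ L) :
    MemLocalIdeal M (inducedCentralChar H (ψ : H → ℂ) g - inducedCentralChar L (ξ : L → ℂ) g) := by
  classical
  have : Fintype (L.subgroupOf H) := Fintype.ofFinite _
  have hL' : (L.subgroupOf H).Normal := (Subgroup.normal_subgroupOf_iff_le_normalizer hLH).2 hnorm
  have hcov' := (coversIn_iff H L hLH c e).1 hcov
  have hF : IsClassFunction H (fun h : H => classIndicator g (h : G)) :=
    isClassFunction_restrict H (classIndicator_isClassFunction g)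
  have hsupp : ∀ h : H, h ∉ L.subgroupOf H → classIndicator g (h : G) = 0 := by
    intro h hh
    unfold classIndicator
    rw [if_neg]
    intro hcon
    exact hh (Subgroup.mem_subgroupOf.2 (hg h h.2 hcon))
  have b := omega_cong_of_covers_supported (L.subgroupOf H) hM hc (isPBlock_trB H L hLH he) hcov'
    hψ (mem_trB H L hLH hξ) hF (fun h => memLocalRing_classIndicator hM.ne_top g _) hsupp
  have cc : omega (irrMap (Subgroup.subgroupOfEquivOfLe hLH).symm ξ : L.subgroupOf H → ℂ)
      (fun k' : L.subgroupOf H => classIndicator g ((k' : H) : G)) =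
      omega (ξ : L → ℂ) (fun k : L => classIndicator g (k : G)) :=
    omega_comp_mulEquiv (Subgroup.subgroupOfEquivOfLe hLH) (ξ : L → ℂ)
      (fun k : L => classIndicator g (k : G))
  rw [cc] at b
  rw [inducedCentralChar_eq_omega, inducedCentralChar_eq_omega]
  exact b

end

section

variable {G : Type u} [Group G] [Fintype G] {M : Ideal AlgInt} (N : Subgroup G) [hN : N.Normal]
  [Fintype N] (H L : Subgroup G) (hLH : L ≤ H) (hLN : L ≤ N) (hHN : H ⊓ N ≤ L)
  [Fintype H] [Fintype L]

include hLH hLN hHN in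
/-- **Induced blocks cover induced blocks.** -/
theorem covers_of_induced (hM : M.IsPrime) {c : Set (IrrCharacter H)} {e : Set (IrrCharacter L)}
    (hcov : CoversIn H L hLH c e) {B : Set (IrrCharacter G)} (hind : IsInducedBlock M H c B)
    {d : Set (IrrCharacter N)} (hed : IsInducedBlockIn M N L e d) : Covers N B d := by
  have hnorm : H ≤ Subgroup.normalizer (L : Set G) := by
    intro h hh
    rw [Subgroup.mem_normalizer_iff]
    intro x
    constructor
    · intro hx
      exact hHN ⟨H.mul_mem (H.mul_mem hh (hLH hx)) (H.inv_mem hh), hN.conj_mem x (hLN hx) h⟩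
    · intro hx
      have h1 : x = h⁻¹ * (h * x * h⁻¹) * h := by group
      rw [h1]
      refine hHN ⟨H.mul_mem (H.mul_mem (H.inv_mem hh) (hLH hx)) hh, ?_⟩
      have := hN.conj_mem _ (hLN hx) h⁻¹
      simpa using this
  apply covers_of_cong N hM hind.2.1 hed.2.1
  intro χ hχ θ hθ n
  obtain ⟨ψ, hψ⟩ := isPBlock_nonempty hM hind.1
  obtain ⟨ξ, hξ⟩ := isPBlock_nonempty hM hed.1
  have a := hind.2.2 ψ hψ χ hχ (n : G)
  have b := inducedCentralChar_cong_of_inducedIn N L hLN hM hed hξ hθ (n : G)
  have cc := inducedCentralChar_cong_of_coversIn H L hLH hnorm hM hind.1 hed.1 hcov hψ hξ (n : G)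
    (by
      intro h hh hconj
      refine hHN ⟨hh, ?_⟩
      obtain ⟨t, ht⟩ := isConj_iff.1 hconj
      rw [← ht]
      exact hN.conj_mem _ n.2 t)
  have := memLocalIdeal_add hM (memLocalIdeal_add hM (memLocalIdeal_neg a) cc) b
  have e1 : -(inducedCentralChar H (ψ : H → ℂ) (n : G) - centralChar (χ : G → ℂ) (n : G)) +
      (inducedCentralChar H (ψ : H → ℂ) (n : G) - inducedCentralChar L (ξ : L → ℂ) (n : G)) +
      (inducedCentralChar L (ξ : L → ℂ) (n : G) - inducedCentralChar N (θ : N → ℂ) (n : G)) =
      centralChar (χ : G → ℂ) (n : G) - inducedCentralChar N (θ : N → ℂ) (n : G) := by ring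
  rwa [e1] at this

end

end Cfsg.Agent.Lib.Helper8
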