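import Mathlib
import Cfsg.Prelude.Def_Blocks
import Cfsg.Prelude.Def_BlockLocal
import Cfsg.Agent.Lib.Helper8.HK1
import Cfsg.Agent.Lib.Helper8.ConjChar2
import Cfsg.Agent.Lib.Helper8.KN3

/-!
# Harris–Knörr, step 2: compatibility with conjugation
-/

set_option autoImplicit false
set_option linter.unusedSectionVars false

namespace Cfsg.Agent.Lib.Helper8

open Cfsg
open scoped ComplexConjugate
open Cfsg.Agent.Lib.Helper1 Cfsg.Agent.Lib.Helper4

universe u

section

variable {G : Type u} [Group G] {M : Ideal AlgInt} {p : ℕ} (H K : Subgroup G) (hKH : K ≤ H)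

theorem inducedCentralCharIn_conjIrr (y : G) (hyK : y ∈ Subgroup.normalizer (K : Set G))
    (hyH : y ∈ Subgroup.normalizer (H : Set G)) (ξ : IrrCharacter K) (h : G) :
    inducedCentralCharIn H K (conjIrr K y hyK ξ : K → ℂ) h =
      inducedCentralCharIn H K (ξ : K → ℂ) (y⁻¹ * h * y) := by
  unfold inducedCentralCharIn
  set σ := conjAutOn K y hyK with hσ
  have himg : σ '' {k : K | ∃ x : H, (x : G) * (k : G) * (x : G)⁻¹ = y⁻¹ * h * y} =
      {k : K | ∃ x : H, (x : G) * (k : G) * (x : G)⁻¹ = h} := by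
    ext k
    constructor
    · rintro ⟨k', ⟨x, hx⟩, rfl⟩
      refine ⟨conjAutOn H y hyH x, ?_⟩
      rw [conjAutOn_apply_coe, conjAutOn_apply_coe]
      have : y * (x : G) * y⁻¹ * (y * (k' : G) * y⁻¹) * (y * (x : G) * y⁻¹)⁻¹ =
          y * ((x : G) * (k' : G) * (x : G)⁻¹) * y⁻¹ := by group
      rw [this, hx]
      group
    · rintro ⟨x, hx⟩
      refine ⟨σ.symm k, ⟨(conjAutOn H y hyH).symm x, ?_⟩, σ.apply_symm_apply k⟩
      rw [conjAutOn_symm_apply_coe, conjAutOn_symm_apply_coe]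
      have : y⁻¹ * (x : G) * y * (y⁻¹ * (k : G) * y) * (y⁻¹ * (x : G) * y)⁻¹ =
          y⁻¹ * ((x : G) * (k : G) * (x : G)⁻¹) * y := by group
      rw [this, hx]
  rw [← himg, finsum_mem_image σ.injective.injOn]
  refine finsum_mem_congr rfl fun k _ => ?_
  rw [conjIrr_apply_conj, conjIrr_apply_one]

/-- Relative induction is compatible with conjugation. -/
theorem isInducedBlockIn_conj (y : G) (hyK : y ∈ Subgroup.normalizer (K : Set G))
    (hyH : y ∈ Subgroup.normalizer (H : Set G)) {e : Set (IrrCharacter K)}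
    {f : Set (IrrCharacter H)} (h : IsInducedBlockIn M H K e f) :
    IsInducedBlockIn M H K (conjIrr K y hyK '' e) (conjIrr H y hyH '' f) := by
  obtain ⟨he, hf, hc⟩ := h
  refine ⟨isPBlock_image_conjIrr K y hyK he, isPBlock_image_conjIrr H y hyH hf, ?_⟩
  rintro _ ⟨ξ, hξ, rfl⟩ _ ⟨χ, hχ, rfl⟩ h
  rw [inducedCentralCharIn_conjIrr H K y hyK hyH, centralChar_conjIrr']
  have := hc ξ hξ χ hχ ((conjAutOn H y hyH).symm h)
  rwa [conjAutOn_symm_apply_coe] at this

include hKH in
/-- Relative covering is compatible with conjugation. -/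
theorem coversIn_conj [Fintype K] (y : G) (hyK : y ∈ Subgroup.normalizer (K : Set G))
    (hyH : y ∈ Subgroup.normalizer (H : Set G)) {e : Set (IrrCharacter K)}
    {f : Set (IrrCharacter H)} (h : CoversIn H K hKH f e) :
    CoversIn H K hKH (conjIrr H y hyH '' f) (conjIrr K y hyK '' e) := by
  obtain ⟨χ, hχ, θ, hθ, h0⟩ := h
  refine ⟨_, ⟨χ, hχ, rfl⟩, _, ⟨θ, hθ, rfl⟩, ?_⟩
  have := classInner_comp_mulEquiv_aux (conjAutOn K y hyK).symm
    (fun k : K => (χ : H → ℂ) ⟨(k : G), hKH k.2⟩) (θ : K → ℂ)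
  rw [← this] at h0
  convert h0 using 2
  · funext k
    rw [conjIrr_apply]
    exact congrArg _ (Subtype.ext rfl)
  · rfl

/-- Conjugation by an element of `H` fixes every block of `H`. -/
theorem conjIrr_image_of_mem (y : G) (hy : y ∈ H) (f : Set (IrrCharacter H)) :
    conjIrr H y (Subgroup.le_normalizer hy) '' f = f := by
  conv_rhs => rw [← Set.image_id f]
  apply Set.image_congr
  intro χ _
  exact conjIrr_of_mem H y hy χ

theorem map_conjAutOn_subgroupOf (y : G) (hyK : y ∈ Subgroup.normalizer (K : Set G))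
    (Q : Subgroup G) :
    (Q.subgroupOf K).map (conjAutOn K y hyK).toMonoidHom =
      (Q.map (MulAut.conj y).toMonoidHom).subgroupOf K := by
  ext k
  rw [Subgroup.mem_subgroupOf]
  constructor
  · rintro ⟨k', hk', rfl⟩
    exact ⟨(k' : G), hk', rfl⟩
  · rintro ⟨q, hq, hqk⟩
    refine ⟨(conjAutOn K y hyK).symm k, ?_, (conjAutOn K y hyK).apply_symm_apply k⟩
    change (conjAutOn K y hyK).symm k ∈ Q.subgroupOf K
    rw [Subgroup.mem_subgroupOf, conjAutOn_symm_apply_coe, ← hqk]
    simp only [MulEquiv.coe_toMonoidHom, MulAut.conj_apply]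
    have : y⁻¹ * (y * q * y⁻¹) * y = q := by group
    rw [this]
    exact hq

/-- Defect groups are compatible with conjugation. -/
theorem isDefectGroup_conjIrr [Fact p.Prime] [Finite K] (y : G)
    (hyK : y ∈ Subgroup.normalizer (K : Set G)) {e : Set (IrrCharacter K)} {Q : Subgroup G}
    (h : IsDefectGroup p M e (Q.subgroupOf K)) :
    IsDefectGroup p M (conjIrr K y hyK '' e)
      ((Q.map (MulAut.conj y).toMonoidHom).subgroupOf K) := by
  have := isDefectGroup_image_irrMap (conjAutOn K y hyK) h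
  rw [map_conjAutOn_subgroupOf] at this
  exact this

end

section

variable {G : Type u} [Group G] [Fintype G] (N : Subgroup G) [hN : N.Normal] [Fintype N]
  {M : Ideal AlgInt}

/-- Two blocks of `N` covered by the same block are conjugate. -/
theorem exists_conj_of_covers (hM : M.IsPrime) {B : Set (IrrCharacter G)} (hB : IsPBlock M B)
    {d d' : Set (IrrCharacter N)} (hd : IsPBlock M d) (hd' : IsPBlock M d')
    (hcov : Covers N B d) (hcov' : Covers N B d') :
    ∃ (x : G) (hx : x ∈ Subgroup.normalizer (N : Set G)), d' = conjIrr N x hx '' d := by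
  obtain ⟨χ, hχ, θ', hθ', h0⟩ := hcov'
  obtain ⟨x, hx, θ, hθ, hθθ'⟩ := mem_gOrbit_of_covers N hM hB hd hcov hχ h0
  refine ⟨x, hx, ?_⟩
  have h1 : θ' ∈ conjIrr N x hx '' d := ⟨θ, hθ, hθθ'⟩
  rw [eq_blockOf_of_mem hM hd' hθ', eq_blockOf_of_mem hM (isPBlock_image_conjIrr N x hx hd) h1]

end

end Cfsg.Agent.Lib.Helper8
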