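import Mathlib
import Cfsg.Prelude.Def_Blocks
import Cfsg.Prelude.Def_BlockLocal
import Cfsg.Agent.Lib.Helper8.HK2

/-!
# Harris–Knörr, step 3: relative Knörr for a given defect group; the first main theorem over
subgroups containing the normalizer of the defect group
-/

set_option autoImplicit false
set_option linter.unusedSectionVars false

namespace Cfsg.Agent.Lib.Helper8

open Cfsg
open scoped ComplexConjugate
open Cfsg.Agent.Lib.Helper1 Cfsg.Agent.Lib.Helper4

universe u

section

variable {G : Type u} [Group G] [Fintype G] {M : Ideal AlgInt} {p : ℕ} [Fact p.Prime]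
  (A N : Subgroup G) (hNA : N ≤ A) [Fintype A] [Fintype N]

include hNA in
/-- **Relative Knörr theorem for a given defect group.** -/
theorem rel_knorr_given (hnorm : A ≤ Subgroup.normalizer (N : Set G)) (hM : IsPModular p M)
    {B : Set (IrrCharacter A)} (hB : IsPBlock M B) {P : Subgroup G} (hPA : P ≤ A)
    (hP : IsDefectGroup p M B (P.subgroupOf A)) :
    ∃ c : Set (IrrCharacter N), IsPBlock M c ∧ (∀ x ∈ P, StabilizesBlock N c x) ∧
      CoversIn A N hNA B c ∧ IsDefectGroup p M c ((P ⊓ N).subgroupOf N) := by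
  classical
  have : Fintype (N.subgroupOf A) := Fintype.ofFinite _
  have hN' : (N.subgroupOf A).Normal := (Subgroup.normal_subgroupOf_iff_le_normalizer hNA).2 hnorm
  obtain ⟨c', hc', hst, hcov, hd⟩ := knorr_given (N.subgroupOf A) hM hB hP
  have htr : trB A N hNA (trB' A N hNA c') = c' := trB_trB' A N hNA c'
  refine ⟨trB' A N hNA c', ?_, ?_, ?_, ?_⟩
  · rw [← isPBlock_trB_iff A N hNA, htr]
    exact hc'
  · intro x hx
    have := hst ⟨x, hPA hx⟩ (Subgroup.mem_subgroupOf.2 hx)
    rw [← htr] at this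
    exact (stabilizesBlock_trB A N hNA _ ⟨x, hPA hx⟩).1 this
  · rw [coversIn_iff A N hNA, htr]
    exact hcov
  · rw [← isDefectGroup_trB A N hNA, htr]
    have h5 : ((P.subgroupOf A ⊓ N.subgroupOf A).subgroupOf (N.subgroupOf A)) =
        (((P ⊓ N).subgroupOf A).subgroupOf (N.subgroupOf A)) := by
      ext x
      simp only [Subgroup.mem_subgroupOf, Subgroup.mem_inf]
    rw [← h5]
    exact hd

end

section

variable {G : Type u} [Group G] [Fintype G] {M : Ideal AlgInt} {p : ℕ} [Fact p.Prime]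
  (A D : Subgroup G) (hDA : Subgroup.normalizer (D : Set G) ≤ A) [Fintype A]

include hDA in
theorem firstMain_over_induce (hM : IsPModular p M) (hD : IsPGroup p D)
    {c : Set (IrrCharacter A)} (hc : IsPBlock M c) (hcD : IsDefectGroup p M c (D.subgroupOf A)) :
    ∃ B : Set (IrrCharacter G), IsPBlock M B ∧ IsDefectGroup p M B D ∧ IsInducedBlock M A c B := by
  classical
  have hMp := isPModular_isPrime hM
  have : Fintype (Subgroup.normalizer (D : Set G)) := Fintype.ofFinite _
  have hL : Subgroup.normalizer (D : Set G) = Subgroup.normalizer (D : Set G) ⊓ A :=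
    (inf_eq_left.2 hDA).symm
  have hDA' : D ≤ A := Subgroup.le_normalizer.trans hDA
  obtain ⟨β, hβ, hβD, hind⟩ := rel_firstMain_exists A D _ hDA' hL hM hD hDA hc hcD
  obtain ⟨B, hB, hBD, hind'⟩ := firstMain_induce hM D hD hβ hβD
  exact ⟨B, hB, hBD, isInducedBlock_trans' A _ hDA hMp hind hind'⟩

include hDA in
theorem firstMain_over_exists (hM : IsPModular p M) (hD : IsPGroup p D)
    {B : Set (IrrCharacter G)} (hB : IsPBlock M B) (hBD : IsDefectGroup p M B D) :
    ∃ c : Set (IrrCharacter A), IsPBlock M c ∧ IsDefectGroup p M c (D.subgroupOf A) ∧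
      IsInducedBlock M A c B := by
  classical
  have hMp := isPModular_isPrime hM
  have : Fintype (Subgroup.normalizer (D : Set G)) := Fintype.ofFinite _
  have hL : Subgroup.normalizer (D : Set G) = Subgroup.normalizer (D : Set G) ⊓ A :=
    (inf_eq_left.2 hDA).symm
  have hDA' : D ≤ A := Subgroup.le_normalizer.trans hDA
  obtain ⟨β, hβ, hβD, hind⟩ := firstMain_exists hM D hD hB hBD
  obtain ⟨c, hc, hcD, hind'⟩ := rel_firstMain_induce A D _ hDA' hL hM hD hDA hβ hβD
  exact ⟨c, hc, hcD, isInducedBlock_trans' A _ hDA hMp hind' hind⟩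

include hDA in
theorem firstMain_over_unique (hM : IsPModular p M) (hD : IsPGroup p D)
    {B : Set (IrrCharacter G)} {c₁ c₂ : Set (IrrCharacter A)} (hc₁ : IsPBlock M c₁)
    (hc₂ : IsPBlock M c₂) (hD₁ : IsDefectGroup p M c₁ (D.subgroupOf A))
    (hD₂ : IsDefectGroup p M c₂ (D.subgroupOf A)) (hi₁ : IsInducedBlock M A c₁ B)
    (hi₂ : IsInducedBlock M A c₂ B) : c₁ = c₂ := by
  classical
  have hMp := isPModular_isPrime hM
  have : Fintype (Subgroup.normalizer (D : Set G)) := Fintype.ofFinite _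
  have hL : Subgroup.normalizer (D : Set G) = Subgroup.normalizer (D : Set G) ⊓ A :=
    (inf_eq_left.2 hDA).symm
  have hDA' : D ≤ A := Subgroup.le_normalizer.trans hDA
  obtain ⟨β₁, hβ₁, hβ₁D, hind₁⟩ := rel_firstMain_exists A D _ hDA' hL hM hD hDA hc₁ hD₁
  obtain ⟨β₂, hβ₂, hβ₂D, hind₂⟩ := rel_firstMain_exists A D _ hDA' hL hM hD hDA hc₂ hD₂
  have h1 := isInducedBlock_trans A _ hDA hMp hind₁ hi₁
  have h2 := isInducedBlock_trans A _ hDA hMp hind₂ hi₂
  have hββ : β₁ = β₂ := firstMain_unique hM D hD hβ₁ hβ₂ hβ₁D hβ₂D h1 h2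
  subst hββ
  have e1 := (isInducedBlockIn_iff A _ hDA β₁ c₁).1 hind₁
  have e2 := (isInducedBlockIn_iff A _ hDA β₁ c₂).1 hind₂
  exact isInducedBlock_unique hMp _ e1 e2

end

end Cfsg.Agent.Lib.Helper8
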