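import Mathlib
import Cfsg.Prelude.Def_Blocks
import Cfsg.Prelude.Def_BlockLocal
import Cfsg.Agent.Lib.Helper8.HK3
import Cfsg.Agent.Lib.Helper8.BlockInduced
import Cfsg.Agent.Lib.Helper8.SylowIndex
import Cfsg.Agent.Lib.Helper8.BlockPairMax
import Cfsg.Agent.Lib.Helper8.PairConj3
import Cfsg.Agent.Lib.Helper8.PairFull
import Cfsg.Agent.Lib.Helper8.BlockNormalTrace2
import Cfsg.Agent.Lib.Helper8.KN2

/-!
# The Harris–Knörr correspondence
-/

set_option autoImplicit false
set_option linter.unusedSectionVars false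

namespace Cfsg.Agent.Lib.Helper8

open Cfsg
open scoped ComplexConjugate
open Cfsg.Agent.Lib.Helper1 Cfsg.Agent.Lib.Helper4

universe u

section

variable {G : Type u} [Group G] [Fintype G] {M : Ideal AlgInt} {p : ℕ} [Fact p.Prime]
  (N : Subgroup G) [hN : N.Normal] [Fintype N] (Q : Subgroup G)

theorem normalizer_le_of_inf_eq {D : Subgroup G} (hDN : D ⊓ N = Q) :
    Subgroup.normalizer (D : Set G) ≤ Subgroup.normalizer (Q : Set G) := by
  rw [← hDN]
  refine le_normalizer_inf (A := Subgroup.normalizer (D : Set G)) (X := D) (Y := N) le_rfl ?_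
  have : Subgroup.normalizer (N : Set G) = ⊤ := Subgroup.normalizer_eq_top N
  rw [this]
  exact le_top

theorem mem_normalizer_of_map_conj_inf {D₁ D₂ : Subgroup G} (hD₁ : D₁ ⊓ N = Q) (hD₂ : D₂ ⊓ N = Q)
    {g : G} (hg : D₁.map (MulAut.conj g).toMonoidHom = D₂) :
    g ∈ Subgroup.normalizer (Q : Set G) := by
  rw [Subgroup.mem_normalizer_iff_map_conj_eq]
  apply le_antisymm
  · rintro _ ⟨q, hq, rfl⟩
    rw [← hD₁] at hq
    rw [← hD₂]
    exact ⟨hg ▸ ⟨q, hq.1, rfl⟩, hN.conj_mem q hq.2 g⟩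
  · intro q hq
    rw [← hD₂, ← hg] at hq
    obtain ⟨⟨d, hd, hdq⟩, hqN⟩ := hq
    refine ⟨d, ?_, hdq⟩
    rw [← hD₁]
    refine ⟨hd, ?_⟩
    have h1 : d = g⁻¹ * q * g⁻¹⁻¹ := by
      rw [← hdq]
      simp [MulAut.conj_apply]
      group
    rw [h1]
    exact hN.conj_mem q hqN g⁻¹

theorem normalizer_le_normalizer_inf_normal :
    Subgroup.normalizer (Q : Set G) ≤
      Subgroup.normalizer ((Subgroup.normalizer (Q : Set G) ⊓ N : Subgroup G) : Set G) := by
  refine le_normalizer_inf (A := Subgroup.normalizer (Q : Set G))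
    (X := Subgroup.normalizer (Q : Set G)) (Y := N) Subgroup.le_normalizer ?_
  have : Subgroup.normalizer (N : Set G) = ⊤ := Subgroup.normalizer_eq_top N
  rw [this]
  exact le_top

/-- Harris–Knörr, part A: blocks of `N_G(Q)` covering `e` induce blocks covering `d`. -/
theorem hk_partA [Fintype ↥(Subgroup.normalizer (Q : Set G) ⊓ N)]
    (hM : IsPModular p M) (hQ : IsPGroup p Q)
    {d : Set (IrrCharacter N)} {e : Set (IrrCharacter ↥(Subgroup.normalizer (Q : Set G) ⊓ N))}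
    (hed : IsInducedBlockIn M N (Subgroup.normalizer (Q : Set G) ⊓ N) e d)
    {c : Set (IrrCharacter ↥(Subgroup.normalizer (Q : Set G)))} (hc : IsPBlock M c)
    (hcov : CoversIn (Subgroup.normalizer (Q : Set G)) (Subgroup.normalizer (Q : Set G) ⊓ N)
      inf_le_left c e) :
    ∃! B : Set (IrrCharacter G),
      IsInducedBlock M (Subgroup.normalizer (Q : Set G)) c B ∧ Covers N B d := by
  classical
  have : Fintype (Subgroup.normalizer (Q : Set G)) := Fintype.ofFinite _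
  have hMp := isPModular_isPrime hM
  obtain ⟨B, hB⟩ := inducedBlockDefined_of_le hM Q _ hQ Subgroup.le_normalizer
    (Subgroup.centralizer_le_normalizer _) le_rfl hc
  refine ⟨B, ⟨hB, covers_of_induced N _ _ inf_le_left inf_le_right le_rfl hMp hcov hB hed⟩, ?_⟩
  rintro B' ⟨hB', -⟩
  exact isInducedBlock_unique hMp _ hB' hB

/-- Harris–Knörr, uniqueness of the correspondent. -/
theorem hk_unique [Fintype ↥(Subgroup.normalizer (Q : Set G) ⊓ N)]
    (hM : IsPModular p M) (hQ : IsPGroup p Q) (hQN : Q ≤ N)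
    {e : Set (IrrCharacter ↥(Subgroup.normalizer (Q : Set G) ⊓ N))} (he : IsPBlock M e)
    (heQ : IsDefectGroup p M e (Q.subgroupOf (Subgroup.normalizer (Q : Set G) ⊓ N)))
    {B : Set (IrrCharacter G)}
    {c₁ c₂ : Set (IrrCharacter ↥(Subgroup.normalizer (Q : Set G)))}
    (hc₁ : IsPBlock M c₁) (hc₂ : IsPBlock M c₂)
    (hcov₁ : CoversIn (Subgroup.normalizer (Q : Set G)) (Subgroup.normalizer (Q : Set G) ⊓ N)
      inf_le_left c₁ e)
    (hcov₂ : CoversIn (Subgroup.normalizer (Q : Set G)) (Subgroup.normalizer (Q : Set G) ⊓ N)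
      inf_le_left c₂ e)
    (hi₁ : IsInducedBlock M (Subgroup.normalizer (Q : Set G)) c₁ B)
    (hi₂ : IsInducedBlock M (Subgroup.normalizer (Q : Set G)) c₂ B) : c₁ = c₂ := by
  classical
  have : Fintype (Subgroup.normalizer (Q : Set G)) := Fintype.ofFinite _
  have hMp := isPModular_isPrime hM
  have hnormL := normalizer_le_normalizer_inf_normal N Q
  have hQL : Q ≤ Subgroup.normalizer (Q : Set G) ⊓ N := le_inf Subgroup.le_normalizer hQN
  obtain ⟨D₁, hD₁H, hcD₁, hD₁L, -⟩ := rel_knorr (Subgroup.normalizer (Q : Set G))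
    (Subgroup.normalizer (Q : Set G) ⊓ N) inf_le_left hnormL hM he hc₁ hcov₁ hQL heQ
  obtain ⟨D₂, hD₂H, hcD₂, hD₂L, -⟩ := rel_knorr (Subgroup.normalizer (Q : Set G))
    (Subgroup.normalizer (Q : Set G) ⊓ N) inf_le_left hnormL hM he hc₂ hcov₂ hQL heQ
  have hD₁N : D₁ ⊓ N = Q := by
    rw [← hD₁L, ← inf_assoc, inf_eq_left.2 hD₁H]
  have hD₂N : D₂ ⊓ N = Q := by
    rw [← hD₂L, ← inf_assoc, inf_eq_left.2 hD₂H]
  have hn₁ := normalizer_le_of_inf_eq N Q hD₁N
  have hn₂ := normalizer_le_of_inf_eq N Q hD₂N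
  have hp₁ : IsPGroup p D₁ := by
    have := isPGroup_of_isDefectGroup hcD₁
    exact (this.map (Subgroup.subtype _)).to_le (by
      intro x hx
      exact ⟨⟨x, hD₁H hx⟩, hx, rfl⟩)
  have hp₂ : IsPGroup p D₂ := by
    have := isPGroup_of_isDefectGroup hcD₂
    exact (this.map (Subgroup.subtype _)).to_le (by
      intro x hx
      exact ⟨⟨x, hD₂H hx⟩, hx, rfl⟩)
  obtain ⟨B₁, hB₁, hB₁D, hind₁⟩ := firstMain_over_induce _ D₁ hn₁ hM hp₁ hc₁ hcD₁
  obtain ⟨B₂, hB₂, hB₂D, hind₂⟩ := firstMain_over_induce _ D₂ hn₂ hM hp₂ hc₂ hcD₂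
  have e₁ : B₁ = B := isInducedBlock_unique hMp _ hind₁ hi₁
  have e₂ : B₂ = B := isInducedBlock_unique hMp _ hind₂ hi₂
  subst e₁
  subst e₂
  obtain ⟨g, hg⟩ := exists_conj_eq_of_isDefectGroup hM hB₁ hB₂D hB₁D
  have hgH := mem_normalizer_of_map_conj_inf N Q hD₁N hD₂N hg
  have h3 := isDefectGroup_map_conj hcD₁ ⟨g, hgH⟩
  have h4 : (D₁.subgroupOf (Subgroup.normalizer (Q : Set G))).map
      (MulAut.conj (⟨g, hgH⟩ : Subgroup.normalizer (Q : Set G))).toMonoidHom =
      D₂.subgroupOf (Subgroup.normalizer (Q : Set G)) := by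
    ext x
    rw [Subgroup.mem_subgroupOf, ← hg]
    constructor
    · rintro ⟨y, hy, rfl⟩
      exact ⟨(y : G), hy, rfl⟩
    · rintro ⟨y, hy, hyx⟩
      refine ⟨⟨y, hD₁H hy⟩, hy, ?_⟩
      apply Subtype.ext
      rw [← hyx]
      rfl
  rw [h4] at h3
  exact firstMain_over_unique _ D₂ hn₂ hM hp₂ hc₁ hc₂ h3 hcD₂ hi₁ hi₂

/-- Harris–Knörr, existence of the correspondent. -/
theorem hk_exists [Fintype ↥(Subgroup.normalizer (Q : Set G) ⊓ N)]
    (hM : IsPModular p M) (hQ : IsPGroup p Q) (hQN : Q ≤ N)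
    {d : Set (IrrCharacter N)} (hd : IsPBlock M d)
    (hdQ : IsDefectGroup p M d (Q.subgroupOf N))
    {e : Set (IrrCharacter ↥(Subgroup.normalizer (Q : Set G) ⊓ N))} (he : IsPBlock M e)
    (heQ : IsDefectGroup p M e (Q.subgroupOf (Subgroup.normalizer (Q : Set G) ⊓ N)))
    (hed : IsInducedBlockIn M N (Subgroup.normalizer (Q : Set G) ⊓ N) e d)
    {B : Set (IrrCharacter G)} (hB : IsPBlock M B) (hcovB : Covers N B d) :
    ∃ c : Set (IrrCharacter ↥(Subgroup.normalizer (Q : Set G))), IsPBlock M c ∧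
      CoversIn (Subgroup.normalizer (Q : Set G)) (Subgroup.normalizer (Q : Set G) ⊓ N)
        inf_le_left c e ∧ IsInducedBlock M (Subgroup.normalizer (Q : Set G)) c B := by
  classical
  have : Fintype (Subgroup.normalizer (Q : Set G)) := Fintype.ofFinite _
  have hMp := isPModular_isPrime hM
  have hnormL := normalizer_le_normalizer_inf_normal N Q
  have hQL : Q ≤ Subgroup.normalizer (Q : Set G) ⊓ N := le_inf Subgroup.le_normalizer hQN
  have hNtop : ∀ x : G, x ∈ Subgroup.normalizer (N : Set G) := fun x => by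
    rw [Subgroup.normalizer_eq_top N]
    exact Subgroup.mem_top x
  -- Step 1: Knörr
  obtain ⟨D, hBD, hDN, -⟩ := knorr N hM hd hB hcovB hdQ
  rw [Subgroup.map_subgroupOf_eq_of_le hQN] at hDN
  have hDp : IsPGroup p D := isPGroup_of_isDefectGroup hBD
  have hDHn := normalizer_le_of_inf_eq N Q hDN
  have hDH : D ≤ Subgroup.normalizer (Q : Set G) := Subgroup.le_normalizer.trans hDHn
  -- Step 2: extended first main theorem
  obtain ⟨c, hc, hcD, hind⟩ := firstMain_over_exists _ D hDHn hM hDp hB hBD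
  -- Step 3: relative Knörr
  obtain ⟨e', he', -, hcov', he'D⟩ := rel_knorr_given (Subgroup.normalizer (Q : Set G))
    (Subgroup.normalizer (Q : Set G) ⊓ N) inf_le_left hnormL hM hc hDH hcD
  have hDL : D ⊓ (Subgroup.normalizer (Q : Set G) ⊓ N) = Q := by
    rw [← inf_assoc, inf_eq_left.2 hDH, hDN]
  rw [hDL] at he'D
  -- Step 4: induce e' to N
  obtain ⟨d', hd', hd'Q, hind'⟩ := rel_firstMain_induce N Q
    (Subgroup.normalizer (Q : Set G) ⊓ N) hQN rfl hM hQ inf_le_right he' he'D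
  have hcovB' : Covers N B d' :=
    covers_of_induced N _ _ inf_le_left inf_le_right le_rfl hMp hcov' hind hind'
  -- Step 5: d' is conjugate to d
  obtain ⟨x, hx, hd'x⟩ := exists_conj_of_covers N hMp hB hd hd' hcovB hcovB'
  have h8 := isDefectGroup_conjIrr (p := p) (M := M) N x hx hdQ
  rw [← hd'x] at h8
  obtain ⟨n, hn⟩ := exists_conj_eq_of_isDefectGroup hM hd' hd'Q h8
  -- g := n * x normalizes Q
  have hgQ : (n : G) * x ∈ Subgroup.normalizer (Q : Set G) := by
    rw [Subgroup.mem_normalizer_iff_map_conj_eq]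
    apply le_antisymm
    · rintro _ ⟨q, hq, rfl⟩
      have hm : x * q * x⁻¹ ∈ N := hN.conj_mem q (hQN hq) x
      have h1 : (⟨x * q * x⁻¹, hm⟩ : N) ∈
          (Q.map (MulAut.conj x).toMonoidHom).subgroupOf N := by
        rw [Subgroup.mem_subgroupOf]
        exact ⟨q, hq, rfl⟩
      have h2 : (MulAut.conj n).toMonoidHom (⟨x * q * x⁻¹, hm⟩ : N) ∈ Q.subgroupOf N := by
        rw [← hn]
        exact ⟨_, h1, rfl⟩
      rw [Subgroup.mem_subgroupOf] at h2
      convert h2 using 1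
      simp [MulAut.conj_apply, mul_assoc]
    · intro q hq
      have h2 : (⟨q, hQN hq⟩ : N) ∈ Q.subgroupOf N := by
        rw [Subgroup.mem_subgroupOf]
        exact hq
      rw [← hn] at h2
      obtain ⟨m, hm, hmq⟩ := h2
      change m ∈ (Q.map (MulAut.conj x).toMonoidHom).subgroupOf N at hm
      rw [Subgroup.mem_subgroupOf] at hm
      obtain ⟨q', hq', hq'm⟩ := hm
      refine ⟨q', hq', ?_⟩
      have := congrArg (Subtype.val) hmq
      simp only [MulEquiv.coe_toMonoidHom, MulAut.conj_apply, Subgroup.coe_mul,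
        Subgroup.coe_inv] at this
      rw [← this, ← hq'm]
      simp [MulAut.conj_apply, mul_assoc]
  have hd'g : d' = conjIrr N ((n : G) * x) (hNtop _) '' d := by
    have := conjIrr_image_mul N d (n : G) x (hNtop _) hx
    rw [this, ← hd'x]
    exact (conjIrr_image_of_mem N (n : G) n.2 d').symm
  -- Step 6: conjugate back by y = g⁻¹
  set g : G := (n : G) * x with hg
  have hyH : g⁻¹ ∈ Subgroup.normalizer (Q : Set G) := Subgroup.inv_mem _ hgQ
  have hyL := hnormL hyH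
  have hyN : g⁻¹ ∈ Subgroup.normalizer (N : Set G) := Subgroup.inv_mem _ (hNtop g)
  have hind'' := isInducedBlockIn_conj N (Subgroup.normalizer (Q : Set G) ⊓ N) g⁻¹ hyL hyN hind'
  have hdd : conjIrr N g⁻¹ hyN '' d' = d := by
    rw [hd'g]
    exact conjIrr_image_inv_image N d g (hNtop g)
  rw [hdd] at hind''
  have hD'' := isDefectGroup_conjIrr (p := p) (M := M) (Subgroup.normalizer (Q : Set G) ⊓ N)
    g⁻¹ hyL he'D
  have hQy : Q.map (MulAut.conj g⁻¹).toMonoidHom = Q :=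
    Subgroup.mem_normalizer_iff_map_conj_eq.1 hyH
  rw [hQy] at hD''
  have hee : conjIrr (Subgroup.normalizer (Q : Set G) ⊓ N) g⁻¹ hyL '' e' = e :=
    rel_firstMain_unique N Q (Subgroup.normalizer (Q : Set G) ⊓ N) hQN rfl hM hQ inf_le_right
      (isPBlock_image_conjIrr _ g⁻¹ hyL he') he hD'' heQ hind'' hed
  have hcov'' := coversIn_conj (Subgroup.normalizer (Q : Set G))
    (Subgroup.normalizer (Q : Set G) ⊓ N) inf_le_left g⁻¹ hyL (Subgroup.le_normalizer hyH) hcov'
  rw [hee, conjIrr_image_of_mem (Subgroup.normalizer (Q : Set G)) g⁻¹ hyH c] at hcov''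
  exact ⟨c, hc, hcov'', hind⟩

end

end Cfsg.Agent.Lib.Helper8
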