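import Mathlib
import Cfsg.Prelude.Def_Blocks
import Cfsg.Prelude.Def_BlockRank
import Cfsg.Agent.Lib.Helper8.MJ6

set_option autoImplicit false
set_option linter.unusedSectionVars false

namespace Cfsg.Agent.Lib.Helper8.HKS

open Cfsg
open scoped ComplexConjugate
open Cfsg.Agent.Lib.Helper1 Cfsg.Agent.Lib.Helper4 Cfsg.Agent.Lib.Helper8 Cfsg.Agent.Lib.Helper8.MJ

universe u

section F1
variable {H : Type u} [Group H] [Fintype H] {e : ℕ}

/-- the dual vectors of a basic set with Gram matrix `z⁻¹ (I - (t/P) J)` -/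
noncomputable def dualVec (z t : ℕ) (u : Fin e → H → ℂ) (i : Fin e) : H → ℂ :=
  (z : ℂ) • (u i + (t : ℂ) • ∑ j, u j)

theorem dualVec_mem {L : AddSubgroup (H → ℂ)} (z t : ℕ) {u : Fin e → H → ℂ}
    (hu : ∀ i, u i ∈ L) (i : Fin e) : dualVec z t u i ∈ L := by
  unfold dualVec
  rw [Nat.cast_smul_eq_nsmul, Nat.cast_smul_eq_nsmul]
  exact L.nsmul_mem (L.add_mem (hu i) (L.nsmul_mem (L.sum_mem fun j _ => hu j) t)) z

theorem classInner_dualVec {z t P : ℕ} (hz : z ≠ 0) (hP : e * t + 1 = P) {u : Fin e → H → ℂ}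
    (hgram : ∀ i j, classInner (u i) (u j) =
      (z : ℂ)⁻¹ * ((if i = j then (1 : ℂ) else 0) - (t : ℂ) / (P : ℂ))) (k i : Fin e) :
    classInner (u k) (dualVec z t u i) = if k = i then 1 else 0 := by
  have hz0 : (z : ℂ) ≠ 0 := Nat.cast_ne_zero.2 hz
  have hP0 : (P : ℂ) ≠ 0 := by
    rw [← hP]
    exact_mod_cast Nat.succ_ne_zero (e * t)
  have hPc : (P : ℂ) = (e : ℂ) * t + 1 := by
    rw [← hP]
    push_cast
    ring
  unfold dualVec
  rw [classInner_smul_right, classInner_add_right, classInner_smul_right, classInner_sum_right,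
    Complex.conj_natCast, Complex.conj_natCast]
  simp only [hgram]
  rw [← Finset.mul_sum, Finset.sum_sub_distrib, Finset.sum_ite_eq Finset.univ k
    (fun _ => (1 : ℂ))]
  simp only [Finset.mem_univ, if_true, Finset.sum_const, Finset.card_univ, Fintype.card_fin,
    nsmul_eq_mul]
  by_cases hki : k = i
  · simp only [if_pos hki]
    field_simp
    rw [hPc]
    ring
  · simp only [if_neg hki]
    field_simp
    rw [hPc]
    ring

theorem classInner_dualVec_dualVec {z t P : ℕ} (hz : z ≠ 0) (hP : e * t + 1 = P)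
    {u : Fin e → H → ℂ}
    (hgram : ∀ i j, classInner (u i) (u j) =
      (z : ℂ)⁻¹ * ((if i = j then (1 : ℂ) else 0) - (t : ℂ) / (P : ℂ))) (i j : Fin e) :
    classInner (dualVec z t u i) (dualVec z t u j) =
      (z : ℂ) * ((if i = j then (1 : ℂ) else 0) + t) := by
  have h := classInner_dualVec hz hP hgram
  have h0 : dualVec z t u i = (z : ℂ) • (u i + (t : ℂ) • ∑ k, u k) := rfl
  rw [h0, classInner_smul_left, classInner_add_left, classInner_smul_left, classInner_sum_left]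
  congr 1
  rw [h i j]
  simp only [h]
  rw [Finset.sum_ite_eq' Finset.univ j (fun _ => (1 : ℂ))]
  simp

/-- integral combinations of the dual vectors -/
noncomputable def dualCombo (z t : ℕ) (u : Fin e → H → ℂ) (c : Fin e → ℤ) : H → ℂ :=
  ∑ i, (c i : ℂ) • dualVec z t u i

theorem dualCombo_mem {L : AddSubgroup (H → ℂ)} (z t : ℕ) {u : Fin e → H → ℂ}
    (hu : ∀ i, u i ∈ L) (c : Fin e → ℤ) : dualCombo z t u c ∈ L := by
  unfold dualCombo
  refine L.sum_mem fun i _ => ?_
  rw [Int.cast_smul_eq_zsmul]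
  exact L.zsmul_mem (dualVec_mem z t hu i) _

theorem classInner_dualCombo_right (z t : ℕ) (u : Fin e → H → ℂ) (c : Fin e → ℤ) (α : H → ℂ) :
    classInner α (dualCombo z t u c) = ∑ i, (c i : ℂ) * classInner α (dualVec z t u i) := by
  unfold dualCombo
  rw [classInner_sum_right]
  refine Finset.sum_congr rfl fun i _ => ?_
  rw [classInner_smul_right, map_intCast]

theorem classInner_dualCombo_self {z t P : ℕ} (hz : z ≠ 0) (hP : e * t + 1 = P)
    {u : Fin e → H → ℂ}
    (hgram : ∀ i j, classInner (u i) (u j) =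
      (z : ℂ)⁻¹ * ((if i = j then (1 : ℂ) else 0) - (t : ℂ) / (P : ℂ))) (c : Fin e → ℤ) :
    classInner (dualCombo z t u c) (dualCombo z t u c) =
      (((z : ℝ) * (∑ i, (c i : ℝ) ^ 2 + (t : ℝ) * (∑ i, (c i : ℝ)) ^ 2) : ℝ) : ℂ) := by
  rw [classInner_dualCombo_right]
  have h1 : ∀ i, classInner (dualCombo z t u c) (dualVec z t u i) =
      ∑ j, (c j : ℂ) * ((z : ℂ) * ((if j = i then (1 : ℂ) else 0) + t)) := by
    intro i
    unfold dualCombo
    rw [classInner_sum_left]
    refine Finset.sum_congr rfl fun j _ => ?_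
    rw [classInner_smul_left, classInner_dualVec_dualVec hz hP hgram]
  have h2 : ∀ i : Fin e, ∑ j, (c j : ℂ) * ((z : ℂ) * ((if j = i then (1 : ℂ) else 0) + t)) =
      (z : ℂ) * ((c i : ℂ) + t * ∑ j, (c j : ℂ)) := by
    intro i
    have : ∀ j : Fin e, (c j : ℂ) * ((z : ℂ) * ((if j = i then (1 : ℂ) else 0) + t)) =
        (if j = i then (z : ℂ) * (c j : ℂ) else 0) + (z : ℂ) * t * (c j : ℂ) := by
      intro j
      split_ifs <;> ring
    simp only [this]
    rw [Finset.sum_add_distrib, Finset.sum_ite_eq' Finset.univ i, if_pos (Finset.mem_univ i),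
      ← Finset.mul_sum]
    ring
  simp only [h1, h2]
  push_cast
  obtain ⟨s, hs⟩ : ∃ s : ℂ, s = ∑ j, (c j : ℂ) := ⟨_, rfl⟩
  rw [← hs]
  have h3 : ∀ i : Fin e, (c i : ℂ) * ((z : ℂ) * ((c i : ℂ) + t * s)) =
      (z : ℂ) * (c i : ℂ) ^ 2 + (z : ℂ) * t * s * (c i : ℂ) := by
    intro i
    ring
  simp only [h3]
  rw [Finset.sum_add_distrib, ← Finset.mul_sum, ← Finset.mul_sum, ← hs]
  ring

end F1

end Cfsg.Agent.Lib.Helper8.HKS
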