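import Mathlib
import Cfsg.Prelude.Def_Blocks
import Cfsg.Prelude.Def_BlockRank
import Cfsg.Agent.Lib.Helper8.MJ19
import Cfsg.Agent.Lib.Helper8.HKS_F1

set_option autoImplicit false
set_option linter.unusedSectionVars false

namespace Cfsg.Agent.Lib.Helper8.HKS

open Cfsg
open scoped ComplexConjugate
open Cfsg.Agent.Lib.Helper1 Cfsg.Agent.Lib.Helper4 Cfsg.Agent.Lib.Helper8 Cfsg.Agent.Lib.Helper8.MJ

universe u

section F2
variable {H : Type u} [Group H] [Fintype H] {p : ℕ} [Fact p.Prime] {M : Ideal AlgInt} {e : ℕ}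

/-- a member of `lat p b` is orthogonal to the irreducible characters outside the block -/
theorem classInner_irr_lat_eq_zero (hM : IsPModular p M) {b : Set (IrrCharacter H)}
    (hb : IsPBlock M b) {ψ : IrrCharacter H} (hψ : ψ ∉ b) {W : H → ℂ} (hW : W ∈ lat p b) :
    classInner (ψ : H → ℂ) W = 0 := by
  unfold lat at hW
  induction hW using AddSubgroup.closure_induction with
  | mem x hx =>
    obtain ⟨φ, hφ, rfl⟩ := hx
    apply classInner_eq_zero_symm
    apply classInner_pRegularPart_eq_zero hM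
    intro h
    exact hψ ((mem_block_iff_sameBlock (isPModular_isPrime hM) hb hφ ψ).2 h)
  | zero => exact classInner_zero_right _
  | add x y _ _ ihx ihy => rw [classInner_add_right, ihx, ihy, add_zero]
  | neg x _ ih => rw [classInner_neg_right, ih, neg_zero]

theorem classInner_pReg_lat {b : Set (IrrCharacter H)} {W : H → ℂ} (hW : W ∈ lat p b)
    (α : H → ℂ) : classInner (pRegularPart p α) W = classInner α W := by
  rw [classInner_pRegularPart_left, ← classInner_pRegularPart_right, lat_pRegularPart hW]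

/-- integrality of the pairing of the closure of the basic set with the dual vectors -/
theorem exists_int_classInner_closure_dualVec {z t P : ℕ} (hz : z ≠ 0) (hP : e * t + 1 = P)
    {u : Fin e → H → ℂ}
    (hgram : ∀ i j, classInner (u i) (u j) =
      (z : ℂ)⁻¹ * ((if i = j then (1 : ℂ) else 0) - (t : ℂ) / (P : ℂ)))
    {α : H → ℂ} (hα : α ∈ AddSubgroup.closure (Set.range u)) (i : Fin e) :
    ∃ n : ℤ, classInner α (dualVec z t u i) = n := by
  induction hα using AddSubgroup.closure_induction with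
  | mem x hx =>
    obtain ⟨k, rfl⟩ := hx
    rw [classInner_dualVec hz hP hgram]
    by_cases h : k = i
    · exact ⟨1, by rw [if_pos h]; simp⟩
    · exact ⟨0, by rw [if_neg h]; simp⟩
  | zero => exact ⟨0, by rw [classInner_zero_left]; simp⟩
  | add x y _ _ ihx ihy =>
    obtain ⟨n, hn⟩ := ihx
    obtain ⟨m, hm⟩ := ihy
    exact ⟨n + m, by rw [classInner_add_left, hn, hm]; push_cast; rfl⟩
  | neg x _ ih =>
    obtain ⟨n, hn⟩ := ih
    exact ⟨-n, by rw [classInner_neg_left, hn]; push_cast; rfl⟩

theorem exists_int_classInner_irr_dualVec (hM : IsPModular p M) {b : Set (IrrCharacter H)}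
    (hb : IsPBlock M b) {z t P : ℕ} (hz : z ≠ 0) (hP : e * t + 1 = P)
    {u : Fin e → H → ℂ} (hu : ∀ i, u i ∈ lat p b)
    (hspan : ∀ ψ ∈ b, pRegularPart p (ψ : H → ℂ) ∈ AddSubgroup.closure (Set.range u))
    (hgram : ∀ i j, classInner (u i) (u j) =
      (z : ℂ)⁻¹ * ((if i = j then (1 : ℂ) else 0) - (t : ℂ) / (P : ℂ)))
    (ψ : IrrCharacter H) (i : Fin e) :
    ∃ n : ℤ, classInner (ψ : H → ℂ) (dualVec z t u i) = n := by
  have hW : dualVec z t u i ∈ lat p b := dualVec_mem z t hu i
  by_cases hψ : ψ ∈ b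
  · rw [← classInner_pReg_lat hW]
    exact exists_int_classInner_closure_dualVec hz hP hgram (hspan ψ hψ) i
  · exact ⟨0, by rw [classInner_irr_lat_eq_zero hM hb hψ hW]; simp⟩

theorem exists_int_classInner_irr_dualCombo (hM : IsPModular p M) {b : Set (IrrCharacter H)}
    (hb : IsPBlock M b) {z t P : ℕ} (hz : z ≠ 0) (hP : e * t + 1 = P)
    {u : Fin e → H → ℂ} (hu : ∀ i, u i ∈ lat p b)
    (hspan : ∀ ψ ∈ b, pRegularPart p (ψ : H → ℂ) ∈ AddSubgroup.closure (Set.range u))
    (hgram : ∀ i j, classInner (u i) (u j) =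
      (z : ℂ)⁻¹ * ((if i = j then (1 : ℂ) else 0) - (t : ℂ) / (P : ℂ)))
    (ψ : IrrCharacter H) (c : Fin e → ℤ) :
    ∃ n : ℤ, classInner (ψ : H → ℂ) (dualCombo z t u c) = n := by
  rw [classInner_dualCombo_right]
  choose n hn using fun i => exists_int_classInner_irr_dualVec hM hb hz hP hu hspan hgram ψ i
  refine ⟨∑ i, c i * n i, ?_⟩
  push_cast
  refine Finset.sum_congr rfl fun i _ => ?_
  rw [hn i]

/-- nondegeneracy: a complex combination of the basic set orthogonal to all dual vectors is `0` -/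
theorem eq_zero_of_classInner_dualVec {z t P : ℕ} (hz : z ≠ 0) (hP : e * t + 1 = P)
    {u : Fin e → H → ℂ}
    (hgram : ∀ i j, classInner (u i) (u j) =
      (z : ℂ)⁻¹ * ((if i = j then (1 : ℂ) else 0) - (t : ℂ) / (P : ℂ)))
    {α : H → ℂ} (hα : α ∈ Submodule.span ℂ (Set.range u))
    (h0 : ∀ i, classInner α (dualVec z t u i) = 0) : α = 0 := by
  obtain ⟨a, rfl⟩ := (Submodule.mem_span_range_iff_exists_fun ℂ).1 hα
  have h1 : ∀ i, a i = 0 := by
    intro i
    have := h0 i
    rw [classInner_sum_left] at this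
    simp only [classInner_smul_left, classInner_dualVec hz hP hgram] at this
    rw [Finset.sum_eq_single i] at this
    · simpa using this
    · intro k _ hk
      rw [if_neg hk, mul_zero]
    · intro h
      exact absurd (Finset.mem_univ i) h
  simp only [h1, zero_smul, Finset.sum_const_zero]

end F2

end Cfsg.Agent.Lib.Helper8.HKS
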