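import Mathlib
import Cfsg.Prelude.Def_Blocks
import Cfsg.Prelude.Def_BlockRank
import Cfsg.Agent.Lib.Helper8.MJ19
import Cfsg.Agent.Lib.Helper8.HKS_F2
import Cfsg.Agent.Lib.Helper2.HKS_A
import Cfsg.Agent.Lib.Helper1.HKS_B
import Cfsg.Agent.Lib.Helper5.HKS_E

set_option autoImplicit false
set_option linter.unusedSectionVars false

namespace Cfsg.Agent.Lib.Helper8.HKS

open Cfsg
open scoped ComplexConjugate
open Cfsg.Agent.Lib.Helper1 Cfsg.Agent.Lib.Helper4 Cfsg.Agent.Lib.Helper8 Cfsg.Agent.Lib.Helper8.MJ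

universe u

section F3
variable {G : Type u} [Group G] [Fintype G] {p : ℕ} [Fact p.Prime] {M : Ideal AlgInt} {e : ℕ}

theorem closure_le_span {X : Type*} (s : Set (X → ℂ)) {α : X → ℂ}
    (hα : α ∈ AddSubgroup.closure s) : α ∈ Submodule.span ℂ s := by
  have h : AddSubgroup.closure s ≤ (Submodule.span ℂ s).toAddSubgroup :=
    (AddSubgroup.closure_le _).2 Submodule.subset_span
  exact h hα

/-- the section part lies in the complex span of the basic set -/
theorem secPart_mem_span (C : Subgroup G) [Fintype C] {x : G} (hC : ∀ t, t ∈ C ↔ t * x = x * t)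
    (b : Set (IrrCharacter C)) {u : Fin e → C → ℂ}
    (hspan : ∀ ψ ∈ b, pRegularPart p (ψ : C → ℂ) ∈ AddSubgroup.closure (Set.range u))
    (ζ : G → ℂ) : secPart p C b x ζ ∈ Submodule.span ℂ (Set.range u) := by
  classical
  have : Fintype (IrrCharacter C) := Fintype.ofFinite _
  have h := secPart_pow_eq_sum (p := p) C hC b ζ 1
  rw [pow_one] at h
  rw [h]
  refine Submodule.sum_mem _ fun ψ _ => ?_
  refine Submodule.smul_mem _ _ ?_
  by_cases hψ : ψ ∈ b
  · rw [secVec_of_mem C ζ hψ]
    exact Submodule.smul_mem _ _ (closure_le_span _ (hspan ψ hψ))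
  · rw [secVec_of_not_mem C ζ hψ]
    exact Submodule.zero_mem _

theorem card_le_of_basicSet (hM : IsPModular p M)
    (C : Subgroup G) [Fintype C] {x : G} (hC : ∀ t, t ∈ C ↔ t * x = x * t)
    {q : ℕ} (hq : 0 < q) (hord : orderOf x = q * p) (hx : ∃ j : ℕ, orderOf x = p ^ j)
    {t z P : ℕ} (he : 1 ≤ e) (hz : z ≠ 0) (hP : e * t + 1 = P)
    (u : Fin e → C → ℂ) (hu : ∀ i, u i ∈ lat p (principalBlock M C))
    (hspan : ∀ ψ ∈ principalBlock M C,
      pRegularPart p (ψ : C → ℂ) ∈ AddSubgroup.closure (Set.range u))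
    (hgram : ∀ i j, classInner (u i) (u j) =
      (z : ℂ)⁻¹ * ((if i = j then (1 : ℂ) else 0) - (t : ℂ) / (P : ℂ))) :
    Nat.card {χ : IrrCharacter G // χ ∈ principalBlock M G ∧ ¬ p ∣ charDegree (χ : G → ℂ)} ≤
      z * (e + t) := by
  classical
  have : Fintype (IrrCharacter G) := Fintype.ofFinite _
  have hp : p.Prime := Fact.out
  have hb : IsPBlock M (principalBlock M C) := isPBlock_principalBlock
  set b := principalBlock M C with hbdef
  set S : Finset (IrrCharacter G) := Finset.univ.filter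
    (fun χ => χ ∈ principalBlock M G ∧ ¬ p ∣ charDegree (χ : G → ℂ)) with hS
  have hcard : Nat.card {χ : IrrCharacter G // χ ∈ principalBlock M G ∧
      ¬ p ∣ charDegree (χ : G → ℂ)} = S.card := by
    rw [Nat.card_eq_fintype_card]
    exact Fintype.card_of_subtype S (fun χ => by simp [hS])
  rw [hcard]
  set φ : ℝ := ((q * p : ℕ) : ℝ) - q with hφ
  have hφ0 : 0 < φ := by
    have h1 : q < q * p := by
      have := hp.two_le
      nlinarith
    have : (q : ℝ) < ((q * p : ℕ) : ℝ) := by exact_mod_cast h1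
    linarith
  have hK : ((unitsRange q p).card : ℝ) = φ := card_unitsRange_real q p hp.pos
  have hxq : x ^ (q * p) = 1 := by rw [← hord]; exact pow_orderOf_eq_one x
  have hcop : ∀ k ∈ unitsRange q p, k.Coprime (orderOf x) := by
    intro k hk
    obtain ⟨j, hj⟩ := hx
    rw [hj]
    have h1 : ¬ p ∣ k := (Finset.mem_filter.1 hk).2
    exact Nat.Coprime.pow_right j ((hp.coprime_iff_not_dvd.2 h1).symm)
  refine card_le_of_frames S he (unitsRange q p)
    (fun ζ k i => classInner (secFun C (x ^ k) (ζ : G → ℂ)) (dualVec z t u i)) φ hφ0 hK z t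
    ?_ ?_ ?_
  · intro k hk c
    have hCk := centralizer_pow_iff C hC (hcop k hk)
    have huk : ∃ j : ℕ, orderOf (x ^ k) = p ^ j := by
      obtain ⟨j, hj⟩ := hx
      exact ⟨j, by rw [(hcop k hk).symm.orderOf_pow, hj]⟩
    have hW : dualCombo z t u c ∈ lat p b := dualCombo_mem z t hu c
    have h1 := frame_classInner (p := p) C hCk huk (lat_isClassFunction hW) (lat_vanish hW)
    simp only [← classInner_dualCombo_right]
    rw [h1, classInner_dualCombo_self hz hP hgram c, Complex.ofReal_re]
  · intro ζ c hne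
    simp only [← classInner_dualCombo_right] at hne ⊢
    rw [pow_one] at hne
    exact galois_bound C hC hq hxq (isCharacter_of_irr ζ.2)
      (fun ψ => exists_int_classInner_irr_dualCombo hM hb hz hP hu hspan hgram ψ c) hne
  · intro ζ hζ
    have hζ' := (Finset.mem_filter.1 hζ).2
    by_contra hcon
    push Not at hcon
    have hs := secPart_principal_ne_zero hM C hC hx hζ'.1 hζ'.2
    apply hs
    apply eq_zero_of_classInner_dualVec hz hP hgram (secPart_mem_span C hC b hspan _)
    intro i
    rw [classInner_secPart_lat hM C hC hb (isClassFunction_irr ζ.2) (dualVec_mem z t hu i)]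
    have := hcon i
    simp only [pow_one] at this
    exact this

end F3

end Cfsg.Agent.Lib.Helper8.HKS
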