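import Mathlib
import Cfsg.Prelude.Def_Blocks
import Cfsg.Prelude.Def_BlockRank
import Cfsg.Agent.Lib.Helper8.MJ19
import Cfsg.Agent.Lib.Helper8.HKS_F3
import Cfsg.Agent.Lib.Lead.HKS_C4
import Cfsg.Agent.Lib.Helper1.HKS_C
import Cfsg.Agent.Lib.Helper9.HKS_Dn
import Cfsg.Agent.Lib.Helper5.HKS_Do

set_option autoImplicit false
set_option linter.unusedSectionVars false

namespace Cfsg.Agent.Lib.Helper8.HKS

open Cfsg
open scoped ComplexConjugate
open Cfsg.Agent.Lib.Helper1 Cfsg.Agent.Lib.Helper4 Cfsg.Agent.Lib.Helper8 Cfsg.Agent.Lib.Helper8.MJ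

universe u

section F4
variable {G : Type u} [Group G] [Fintype G] {p : ℕ} [Fact p.Prime] {M : Ideal AlgInt}

theorem normal_of_le_center' {H : Type*} [Group H] {Z : Subgroup H}
    (hZ : Z ≤ Subgroup.center H) : Z.Normal := by
  refine ⟨fun n hn g => ?_⟩
  have h := Subgroup.mem_center_iff.1 (hZ hn) g
  rw [h, mul_assoc, mul_inv_cancel, mul_one]
  exact hn

theorem hasSmallBasicSet_of_le_one {K : Type u} [Group K] [Fintype K] (hM : IsPModular p M)
    (h : (Nat.card K).factorization p ≤ 1) : HasSmallBasicSet p M K := by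
  rcases Nat.lt_or_ge ((Nat.card K).factorization p) 1 with h0 | h1
  · exact hasSmallBasicSet_of_two hM (Or.inl (by omega))
  · have h1' : (Nat.card K).factorization p = 1 := le_antisymm h h1
    by_cases hp2 : p = 2
    · exact hasSmallBasicSet_of_two hM (Or.inr ⟨hp2, h1'⟩)
    · exact hasSmallBasicSet_of_odd hM hp2 h1'

/-- the main case `x ≠ 1` -/
theorem card_le_of_ne_one (hM : IsPModular p M) {x : G} (hx1 : x ≠ 1)
    (hx : ∃ k : ℕ, orderOf x = p ^ k)
    (hcard : (Nat.card (Subgroup.centralizer ({x} : Set G))).factorization p ≤ 2) :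
    Nat.card {χ : IrrCharacter G // χ ∈ principalBlock M G ∧ ¬ p ∣ charDegree (χ : G → ℂ)} ≤
      p ^ 2 := by
  classical
  have hp : p.Prime := Fact.out
  obtain ⟨a, ha⟩ := hx
  have ha1 : 1 ≤ a := by
    rcases Nat.eq_zero_or_pos a with rfl | h
    · rw [pow_zero, orderOf_eq_one_iff] at ha
      exact absurd ha hx1
    · exact h
  set C : Subgroup G := Subgroup.centralizer ({x} : Set G) with hCdef
  have hC : ∀ t, t ∈ C ↔ t * x = x * t := by
    intro t
    rw [hCdef, Subgroup.mem_centralizer_iff]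
    constructor
    · intro h
      exact (h x rfl).symm
    · intro h y hy
      rw [Set.mem_singleton_iff] at hy
      rw [hy, h]
  have hxC : x ∈ C := (hC x).2 rfl
  set x' : C := ⟨x, hxC⟩ with hx'
  set Z : Subgroup C := Subgroup.zpowers x' with hZdef
  have hZc : Z ≤ Subgroup.center C := by
    rw [hZdef, Subgroup.zpowers_le]
    rw [Subgroup.mem_center_iff]
    intro c
    apply Subtype.ext
    exact (hC _).1 c.2
  have hZn : Z.Normal := normal_of_le_center' hZc
  have hox : orderOf x' = p ^ a := by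
    rw [← ha]
    exact Subgroup.orderOf_mk x hxC
  have hZcard : Nat.card Z = p ^ a := by
    rw [hZdef, Nat.card_zpowers, hox]
  have hZp : IsPGroup p Z := IsPGroup.of_card hZcard
  have : Fintype (C ⧸ Z) := Fintype.ofFinite _
  have hmul : Nat.card C = Nat.card (C ⧸ Z) * Nat.card Z :=
    Subgroup.card_eq_card_quotient_mul_card_subgroup Z
  have hK0 : Nat.card (C ⧸ Z) ≠ 0 := Nat.card_pos.ne'
  have hfac : (Nat.card C).factorization p = (Nat.card (C ⧸ Z)).factorization p + a := by
    rw [hmul, Nat.factorization_mul hK0 (by rw [hZcard]; exact pow_ne_zero _ hp.ne_zero),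
      hZcard, Finsupp.add_apply, hp.factorization_pow, Finsupp.single_eq_same]
  have hKle : (Nat.card (C ⧸ Z)).factorization p ≤ 1 := by omega
  obtain ⟨e, t, ub, he, hP, hle, hub, hspanb, hgramb⟩ :=
    hasSmallBasicSet_of_le_one (K := C ⧸ Z) hM hKle
  obtain ⟨hu, hspan, hgram⟩ := basicSet_inflation hM Z hZc hZp
    (fun ψ hψ => pReg_principal_mem_closure hM Z hZc hZp hψ) ub hub hspanb
  set f : ℕ := (Nat.card (C ⧸ Z)).factorization p with hf
  have hgram' : ∀ i j, classInner (pRegularPart p (fun h : C => ub i (QuotientGroup.mk h)))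
      (pRegularPart p (fun h : C => ub j (QuotientGroup.mk h))) =
      ((p ^ a : ℕ) : ℂ)⁻¹ * ((if i = j then (1 : ℂ) else 0) - (t : ℂ) / ((p ^ f : ℕ) : ℂ)) := by
    intro i j
    rw [hgram i j, hgramb i j, hZcard]
  have hord : orderOf x = p ^ (a - 1) * p := by
    rw [ha, ← pow_succ]
    congr 1
    omega
  have hmain := card_le_of_basicSet hM C hC (pow_pos hp.pos (a - 1)) hord ⟨a, ha⟩ he
    (pow_ne_zero a hp.ne_zero) hP _ hu hspan hgram'
  refine hmain.trans ?_
  calc p ^ a * (e + t) ≤ p ^ a * p ^ f := Nat.mul_le_mul_left _ hle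
    _ = p ^ (a + f) := (pow_add p a f).symm
    _ ≤ p ^ 2 := Nat.pow_le_pow_right hp.pos (by omega)

end F4

end Cfsg.Agent.Lib.Helper8.HKS
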