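import Mathlib
import Cfsg.Prelude.Def_Blocks
import Cfsg.Prelude.Def_BlockRank
import Cfsg.Agent.Lib.Helper8.MJ19
import Cfsg.Agent.Lib.Helper8.HKS_F4
import Cfsg.Agent.Lib.Helper8.KC1

set_option autoImplicit false
set_option linter.unusedSectionVars false

namespace Cfsg.Agent.Lib.Helper8.HKS

open Cfsg
open scoped ComplexConjugate
open Cfsg.Agent.Lib.Helper1 Cfsg.Agent.Lib.Helper4 Cfsg.Agent.Lib.Helper8 Cfsg.Agent.Lib.Helper8.MJ

universe u

section F5
variable {G : Type u} [Group G] [Fintype G] {p : ℕ} [Fact p.Prime] {M : Ideal AlgInt}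

/-- `p ∤ |G|`: the principal block consists of the trivial character only -/
theorem card_le_one_of_not_dvd (hM : IsPModular p M) (hG : ¬ p ∣ Nat.card G) :
    Nat.card {χ : IrrCharacter G // χ ∈ principalBlock M G ∧ ¬ p ∣ charDegree (χ : G → ℂ)} ≤
      1 := by
  classical
  have hsub : Subsingleton {χ : IrrCharacter G // χ ∈ principalBlock M G ∧
      ¬ p ∣ charDegree (χ : G → ℂ)} := by
    refine ⟨fun χ χ' => ?_⟩
    apply Subtype.ext
    by_contra hne
    have hY : ¬ p ∣ Nat.card (⊤ : Subgroup G) := by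
      rw [Subgroup.card_top]
      exact hG
    have hMp := isPModular_isPrime hM
    have hker := ker_of_exists_ker hM isPBlock_principalBlock (⊤ : Subgroup G) hY
      (trivIrr_mem_principalBlock hMp.ne_top) (fun y _ => by rw [trivIrr_apply, trivIrr_apply])
    have h1 := hker χ.1 χ.2.1
    have h2 := hker χ'.1 χ'.2.1
    have h3 : classInner (χ.1 : G → ℂ) (χ'.1 : G → ℂ) = 0 :=
      classInner_irr_ne χ.1.2 χ'.1.2 (fun h => hne (Subtype.ext h))
    rw [classInner_def] at h3
    have h4 : ∑ g : G, (χ.1 : G → ℂ) g * conj ((χ'.1 : G → ℂ) g) =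
        (Nat.card G : ℂ) * ((χ.1 : G → ℂ) 1 * conj ((χ'.1 : G → ℂ) 1)) := by
      rw [Finset.sum_congr rfl (fun g _ => by
        rw [h1 g (Subgroup.mem_top g), h2 g (Subgroup.mem_top g)])]
      rw [Finset.sum_const, Finset.card_univ, nsmul_eq_mul, Nat.card_eq_fintype_card]
    rw [h4] at h3
    have hG0 : (Nat.card G : ℂ) ≠ 0 := Nat.cast_ne_zero.2 Nat.card_pos.ne'
    have h5 : (χ.1 : G → ℂ) 1 ≠ 0 := irr_apply_one_ne_zero χ.1.2
    have h6 : (χ'.1 : G → ℂ) 1 ≠ 0 := irr_apply_one_ne_zero χ'.1.2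
    have h7 : conj ((χ'.1 : G → ℂ) 1) ≠ 0 := by
      intro h
      exact h6 ((map_eq_zero _).1 h)
    have : (Nat.card G : ℂ)⁻¹ * ((Nat.card G : ℂ) * ((χ.1 : G → ℂ) 1 *
        conj ((χ'.1 : G → ℂ) 1))) ≠ 0 :=
      mul_ne_zero (inv_ne_zero hG0) (mul_ne_zero hG0 (mul_ne_zero h5 h7))
    exact this h3
  exact Finite.card_le_one_iff_subsingleton.2 hsub

theorem card_le_main (hM : IsPModular p M)
    (hx : ∃ x : G, (∃ k : ℕ, orderOf x = p ^ k) ∧
      (Nat.card (Subgroup.centralizer ({x} : Set G))).factorization p ≤ 2) :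
    Nat.card {χ : IrrCharacter G // χ ∈ principalBlock M G ∧ ¬ p ∣ charDegree (χ : G → ℂ)} ≤
      p ^ 2 := by
  have hp : p.Prime := Fact.out
  obtain ⟨x, hxp, hxc⟩ := hx
  by_cases hx1 : x = 1
  · by_cases hG : p ∣ Nat.card G
    · obtain ⟨y, hy⟩ := exists_prime_orderOf_dvd_card' p hG
      have hy1 : y ≠ 1 := by
        intro h
        rw [h, orderOf_one] at hy
        exact hp.one_lt.ne hy
      have hcG : (Nat.card G).factorization p ≤ 2 := by
        have : Subgroup.centralizer ({x} : Set G) = ⊤ := by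
          rw [hx1, eq_top_iff]
          intro g _
          rw [Subgroup.mem_centralizer_iff]
          intro h hh
          rw [Set.mem_singleton_iff] at hh
          rw [hh, one_mul, mul_one]
        rw [this, Subgroup.card_top] at hxc
        exact hxc
      have hdvd : Nat.card (Subgroup.centralizer ({y} : Set G)) ∣ Nat.card G :=
        Subgroup.card_subgroup_dvd_card _
      have hle : (Nat.card (Subgroup.centralizer ({y} : Set G))).factorization p ≤
          (Nat.card G).factorization p :=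
        (Nat.factorization_le_iff_dvd Nat.card_pos.ne' Nat.card_pos.ne').2 hdvd p
      exact card_le_of_ne_one hM hy1 ⟨1, by rw [hy, pow_one]⟩ (hle.trans hcG)
    · refine (card_le_one_of_not_dvd hM hG).trans ?_
      exact Nat.one_le_pow _ _ hp.pos
  · exact card_le_of_ne_one hM hx1 hxp hxc

end F5

end Cfsg.Agent.Lib.Helper8.HKS
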