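import Mathlib
import Cfsg.Prelude.Def_OddOrderLocal
import Cfsg.Prelude.Def_HallClasses

/-! General lemmas on Hall subgroups: absolute versus relative, intersections with normal
subgroups. -/

namespace Cfsg.Agent.Lib.Helper8.HS

variable {Γ : Type*} [Group Γ] {π : Set ℕ}

theorem isPiHall_iff_hallOf_top (H : Subgroup Γ) :
    Cfsg.IsPiHall π H ↔ Cfsg.IsPiHallOf π H ⊤ := by
  unfold Cfsg.IsPiHall Cfsg.IsPiHallOf
  rw [Subgroup.relIndex_top_right]
  exact ⟨fun h => ⟨le_top, h⟩, fun h => h.2⟩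

theorem isPiHall_iff_hallOf_map (A : Subgroup Γ) (M : Subgroup A) :
    Cfsg.IsPiHall π M ↔ Cfsg.IsPiHallOf π (M.map A.subtype) A := by
  unfold Cfsg.IsPiHall Cfsg.IsPiHallOf
  have h1 : Nat.card (M.map A.subtype) = Nat.card M :=
    Nat.card_congr (M.equivMapOfInjective A.subtype A.subtype_injective).symm.toEquiv
  have h2 : (M.map A.subtype).relIndex A = M.index := by
    unfold Subgroup.relIndex Subgroup.subgroupOf
    rw [Subgroup.comap_map_eq_self_of_injective A.subtype_injective]
  rw [h1, h2]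
  constructor
  · intro h
    refine ⟨?_, h⟩
    rintro _ ⟨x, _, rfl⟩
    exact x.2
  · intro h; exact h.2

theorem map_subtype_subgroupOf (A K : Subgroup Γ) :
    (K.subgroupOf A).map A.subtype = A ⊓ K := by
  rw [Subgroup.subgroupOf_map_subtype, inf_comm]

/-- `M.map subtype = A ⊓ K` iff `M = K.subgroupOf A` -/
theorem eq_subgroupOf_iff (A K : Subgroup Γ) (M : Subgroup A) :
    M = K.subgroupOf A ↔ M.map A.subtype = A ⊓ K := by
  constructor
  · rintro rfl; exact map_subtype_subgroupOf A K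
  · intro h
    ext x
    rw [Subgroup.mem_subgroupOf]
    constructor
    · intro hx
      have : (x : Γ) ∈ M.map A.subtype := ⟨x, hx, rfl⟩
      rw [h] at this
      exact this.2
    · intro hx
      have : (x : Γ) ∈ A ⊓ K := ⟨x.2, hx⟩
      rw [← h] at this
      obtain ⟨y, hy, hyx⟩ := this
      have : y = x := Subtype.ext hyx
      rwa [← this]

/-- relative index of a Hall subgroup in a normal subgroup -/
theorem relIndex_dvd_index_of_normal_right [Finite Γ] (M A : Subgroup Γ) [A.Normal] :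
    M.relIndex A ∣ M.index := by
  have e1 := Subgroup.relIndex_mul_index (inf_le_left : A ⊓ M ≤ A)
  have e2 := Subgroup.relIndex_mul_index (inf_le_right : A ⊓ M ≤ M)
  rw [Subgroup.inf_relIndex_left] at e1
  rw [Subgroup.inf_relIndex_right] at e2
  obtain ⟨c, hc⟩ := Subgroup.relIndex_dvd_index_of_normal A M
  have hne : A.relIndex M ≠ 0 := by
    unfold Subgroup.relIndex
    exact Subgroup.FiniteIndex.index_ne_zero
  refine ⟨c, ?_⟩
  have : A.relIndex M * (M.relIndex A * c) = A.relIndex M * M.index := by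
    rw [e2, ← e1, hc]; ring
  exact (Nat.eq_of_mul_eq_mul_left (Nat.pos_of_ne_zero hne) this).symm

/-- a Hall subgroup meets a normal subgroup in a Hall subgroup -/
theorem hallOf_inf_normal [Finite Γ] {M A : Subgroup Γ} [A.Normal]
    (h : Cfsg.IsPiHallOf π M ⊤) : Cfsg.IsPiHallOf π (A ⊓ M) A := by
  refine ⟨inf_le_left, fun p hp hd => h.2.1 p hp (hd.trans (Subgroup.card_dvd_of_le inf_le_right)),
    fun p hp hpπ hd => h.2.2 p hp hpπ ?_⟩
  rw [Subgroup.inf_relIndex_left] at hd
  rw [Subgroup.relIndex_top_right]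
  exact hd.trans (relIndex_dvd_index_of_normal_right M A)

theorem isPiHall_subgroupOf_normal [Finite Γ] {M A : Subgroup Γ} [A.Normal]
    (h : Cfsg.IsPiHall π M) : Cfsg.IsPiHall π (M.subgroupOf A) := by
  rw [isPiHall_iff_hallOf_map, map_subtype_subgroupOf]
  exact hallOf_inf_normal ((isPiHall_iff_hallOf_top M).mp h)

/-- a Hall subgroup contained in a `π`-subgroup `K ≤ G` equals it -/
theorem hallOf_eq_of_le_pi [Finite Γ] {H K G : Subgroup Γ} (h : Cfsg.IsPiHallOf π H G)
    (hHK : H ≤ K) (hKG : K ≤ G) (hK : ∀ p : ℕ, p.Prime → p ∣ Nat.card K → p ∈ π) : H = K := by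
  refine le_antisymm hHK ?_
  rw [← Subgroup.relIndex_eq_one]
  by_contra hne
  obtain ⟨p, hp, hd⟩ := Nat.exists_prime_and_dvd hne
  refine h.2.2 p hp (hK p hp (hd.trans (Subgroup.relIndex_dvd_card H K))) ?_
  rw [← Subgroup.relIndex_mul_relIndex H K G hHK hKG]
  exact Dvd.dvd.mul_right hd _

end Cfsg.Agent.Lib.Helper8.HS
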