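import Mathlib
import Cfsg.Agent.Lib.Helper5.HallSn.H2
import Cfsg.Agent.Lib.Helper8.HS5

/-! Hall subgroups of symmetric groups: the three families of examples. -/

namespace Cfsg.Agent.Lib.Helper8.HS

open Equiv Equiv.Perm MulAction
open scoped Pointwise

variable {α : Type*} [Fintype α] [DecidableEq α] {π : Set ℕ}

/-- the symmetric group is transitive on the subsets of a given size -/
theorem exists_smul_set_eq {s t : Set α} (h : s.ncard = t.ncard) : ∃ g : Perm α, g • s = t := by
  classical
  have hs : (s.toFinite.toFinset).card = s.ncard :=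
    (Set.ncard_eq_toFinset_card s s.toFinite).symm
  have ht : (t.toFinite.toFinset).card = s.ncard := by
    rw [h]; exact (Set.ncard_eq_toFinset_card t t.toFinite).symm
  let S : Set.powersetCard α s.ncard := ⟨s.toFinite.toFinset, hs⟩
  let T : Set.powersetCard α s.ncard := ⟨t.toFinite.toFinset, ht⟩
  haveI : IsPretransitive (Perm α) (Set.powersetCard α s.ncard) :=
    Set.powersetCard.isPretransitive
  obtain ⟨g, hg⟩ := MulAction.exists_smul_eq (Perm α) S T
  refine ⟨g, ?_⟩
  have h1 := congrArg (fun u : Set.powersetCard α s.ncard => ((u : Finset α) : Set α)) hg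
  simpa [S, T] using h1

theorem card_stabilizer_point (x : α) :
    Nat.card (stabilizer (Perm α) x) = (Fintype.card α - 1).factorial := by
  haveI : Nonempty α := ⟨x⟩
  have h1 := Subgroup.card_mul_index (stabilizer (Perm α) x)
  rw [index_stabilizer_of_transitive, Nat.card_perm] at h1
  have hc : Nat.card α = Fintype.card α := Nat.card_eq_fintype_card
  rw [hc] at h1
  have hpos : 0 < Fintype.card α := Fintype.card_pos
  obtain ⟨m, hm⟩ : ∃ m, Fintype.card α = m + 1 := ⟨Fintype.card α - 1, by omega⟩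
  rw [hm] at h1 ⊢
  rw [Nat.factorial_succ] at h1
  have : m + 1 - 1 = m := by omega
  rw [this]
  apply Nat.eq_of_mul_eq_mul_right (show 0 < m + 1 by omega)
  rw [h1]; ring

/-- first family: point stabilizers in prime degree -/
theorem hall_stabilizer_point (x : α) (hn : (Fintype.card α).Prime)
    (hπ : ∀ r : ℕ, r.Prime → r ≤ Fintype.card α → (r ∈ π ↔ r < Fintype.card α)) :
    Cfsg.IsPiHall π (stabilizer (Perm α) x) := by
  haveI : Nonempty α := ⟨x⟩
  constructor
  · intro p hp hd
    rw [card_stabilizer_point] at hd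
    have hle := (hp.dvd_factorial).mp hd
    have hpos : 0 < Fintype.card α := Fintype.card_pos
    exact (hπ p hp (by omega)).mpr (by omega)
  · intro p hp hpπ hd
    rw [index_stabilizer_of_transitive, Nat.card_eq_fintype_card] at hd
    have := (Nat.prime_dvd_prime_iff_eq hp hn).mp hd
    have h2 := (hπ p hp this.le).mp hpπ
    omega

theorem prime_dvd_144 {p : ℕ} (hp : p.Prime) (hd : p ∣ 144) : p = 2 ∨ p = 3 := by
  have e : 144 = 2 ^ 4 * 3 ^ 2 := by norm_num
  rw [e] at hd
  rcases (hp.dvd_mul).mp hd with h | h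
  · left; exact (Nat.prime_dvd_prime_iff_eq hp Nat.prime_two).mp (hp.dvd_of_dvd_pow h)
  · right; exact (Nat.prime_dvd_prime_iff_eq hp Nat.prime_three).mp (hp.dvd_of_dvd_pow h)

theorem prime_dvd_1152 {p : ℕ} (hp : p.Prime) (hd : p ∣ 1152) : p = 2 ∨ p = 3 := by
  have e : 1152 = 2 ^ 7 * 3 ^ 2 := by norm_num
  rw [e] at hd
  rcases (hp.dvd_mul).mp hd with h | h
  · left; exact (Nat.prime_dvd_prime_iff_eq hp Nat.prime_two).mp (hp.dvd_of_dvd_pow h)
  · right; exact (Nat.prime_dvd_prime_iff_eq hp Nat.prime_three).mp (hp.dvd_of_dvd_pow h)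

theorem prime_dvd_35 {p : ℕ} (hp : p.Prime) (hd : p ∣ 35) : p = 5 ∨ p = 7 := by
  have e : 35 = 5 * 7 := by norm_num
  rw [e] at hd
  rcases (hp.dvd_mul).mp hd with h | h
  · left; exact (Nat.prime_dvd_prime_iff_eq hp (by norm_num)).mp h
  · right; exact (Nat.prime_dvd_prime_iff_eq hp (by norm_num)).mp h

/-- second family: stabilizers of 3-sets in degree 7 -/
theorem hall_stabilizer_three (s : Set α) (h7 : Fintype.card α = 7) (hs : s.ncard = 3)
    (hπ : ∀ r : ℕ, r.Prime → r ≤ 7 → (r ∈ π ↔ r = 2 ∨ r = 3)) :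
    Cfsg.IsPiHall π (stabilizer (Perm α) s) := by
  constructor
  · intro p hp hd
    rw [Cfsg.Agent.Lib.Helper5.HallSn.card_stabilizer_set, h7, hs] at hd
    have h144 : Nat.factorial 3 * Nat.factorial (7 - 3) = 144 := by decide
    rw [h144] at hd
    have h23 := prime_dvd_144 hp hd
    exact (hπ p hp (by rcases h23 with h | h <;> omega)).mpr h23
  · intro p hp hpπ hd
    rw [Cfsg.Agent.Lib.Helper5.HallSn.index_stabilizer_set, h7, hs] at hd
    have h35 : Nat.choose 7 3 = 35 := by decide
    rw [h35] at hd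
    have h57 := prime_dvd_35 hp hd
    have h23 := (hπ p hp (by rcases h57 with h | h <;> omega)).mp hpπ
    omega

end Cfsg.Agent.Lib.Helper8.HS
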