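import Mathlib
import Cfsg.Agent.Lib.Helper8.HS6

/-! Hall subgroups of symmetric groups: the stabilizer of a bisection in degree 8. -/

namespace Cfsg.Agent.Lib.Helper8.HS

open Equiv Equiv.Perm MulAction
open scoped Pointwise

variable {α : Type*} [Fintype α] [DecidableEq α] {π : Set ℕ}

theorem smul_pair (g : Perm α) (s : Set α) :
    g • ({s, sᶜ} : Set (Set α)) = {g • s, (g • s)ᶜ} := by
  rw [Set.smul_set_insert, Set.smul_set_singleton, Set.smul_set_compl]

theorem mem_stabilizer_pair {g : Perm α} {s : Set α} :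
    g ∈ stabilizer (Perm α) ({s, sᶜ} : Set (Set α)) ↔ g • s = s ∨ g • s = sᶜ := by
  rw [mem_stabilizer_iff, smul_pair]
  constructor
  · intro h
    have h1 : g • s ∈ ({g • s, (g • s)ᶜ} : Set (Set α)) := Set.mem_insert _ _
    rw [h] at h1
    simpa using h1
  · rintro (h | h)
    · rw [h]
    · rw [h, compl_compl, Set.pair_comm]

theorem stabilizer_le_stabilizer_pair (s : Set α) :
    stabilizer (Perm α) s ≤ stabilizer (Perm α) ({s, sᶜ} : Set (Set α)) := fun _ hg =>
  mem_stabilizer_pair.mpr (Or.inl (mem_stabilizer_iff.mp hg))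

theorem relIndex_stabilizer_pair [Nonempty α] (s : Set α) (hs : s.ncard = sᶜ.ncard) :
    (stabilizer (Perm α) s).relIndex (stabilizer (Perm α) ({s, sᶜ} : Set (Set α))) = 2 := by
  obtain ⟨g₀, hg₀⟩ := exists_smul_set_eq hs
  have hne : sᶜ ≠ s := compl_ne_self
  rw [Subgroup.relIndex_eq_two_iff]
  refine ⟨g₀, mem_stabilizer_pair.mpr (Or.inr hg₀), fun b hb => ?_⟩
  rw [mem_stabilizer_iff, mem_stabilizer_iff, mul_smul, hg₀, Set.smul_set_compl]
  rcases mem_stabilizer_pair.mp hb with h | h
  · rw [h]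
    exact Or.inr ⟨rfl, hne⟩
  · rw [h, compl_compl]
    exact Or.inl ⟨rfl, hne⟩

theorem card_stabilizer_pair [Nonempty α] (s : Set α) (hs : s.ncard = sᶜ.ncard) :
    Nat.card (stabilizer (Perm α) ({s, sᶜ} : Set (Set α))) =
      2 * (s.ncard.factorial * (Fintype.card α - s.ncard).factorial) := by
  have h1 := Subgroup.card_mul_index
    ((stabilizer (Perm α) s).subgroupOf (stabilizer (Perm α) ({s, sᶜ} : Set (Set α))))
  have h2 : ((stabilizer (Perm α) s).subgroupOf
      (stabilizer (Perm α) ({s, sᶜ} : Set (Set α)))).index = 2 := relIndex_stabilizer_pair s hs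
  rw [h2, Nat.card_congr (Subgroup.subgroupOfEquivOfLe (stabilizer_le_stabilizer_pair s)).toEquiv,
    Cfsg.Agent.Lib.Helper5.HallSn.card_stabilizer_set] at h1
  rw [← h1]; ring

theorem index_stabilizer_pair [Nonempty α] (s : Set α) (hs : s.ncard = sᶜ.ncard) :
    2 * (stabilizer (Perm α) ({s, sᶜ} : Set (Set α))).index =
      (Fintype.card α).choose s.ncard := by
  have h1 := Subgroup.relIndex_mul_index (stabilizer_le_stabilizer_pair s)
  rw [relIndex_stabilizer_pair s hs, Cfsg.Agent.Lib.Helper5.HallSn.index_stabilizer_set] at h1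
  exact h1

/-- third family: stabilizers of bisections in degree 8 -/
theorem hall_stabilizer_pair (s : Set α) (h8 : Fintype.card α = 8) (hs : s.ncard = 4)
    (hπ : ∀ r : ℕ, r.Prime → r ≤ 8 → (r ∈ π ↔ r = 2 ∨ r = 3)) :
    Cfsg.IsPiHall π (stabilizer (Perm α) ({s, sᶜ} : Set (Set α))) := by
  haveI : Nonempty α := Fintype.card_pos_iff.mp (by omega)
  have hsc : s.ncard = sᶜ.ncard := by
    have := Set.ncard_add_ncard_compl s
    rw [Nat.card_eq_fintype_card, h8] at this
    omega
  constructor
  · intro p hp hd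
    rw [card_stabilizer_pair s hsc, h8, hs] at hd
    have h1152 : 2 * (Nat.factorial 4 * Nat.factorial (8 - 4)) = 1152 := by decide
    rw [h1152] at hd
    have h23 := prime_dvd_1152 hp hd
    exact (hπ p hp (by rcases h23 with h | h <;> omega)).mpr h23
  · intro p hp hpπ hd
    have h1 := index_stabilizer_pair s hsc
    rw [h8, hs] at h1
    have h70 : Nat.choose 8 4 = 70 := by decide
    rw [h70] at h1
    have h35 : (stabilizer (Perm α) ({s, sᶜ} : Set (Set α))).index = 35 := by omega
    rw [h35] at hd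
    have h57 := prime_dvd_35 hp hd
    have h23 := (hπ p hp (by rcases h57 with h | h <;> omega)).mp hpπ
    omega

end Cfsg.Agent.Lib.Helper8.HS
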