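import Mathlib
import Cfsg.Agent.Lib.Helper8.HS7

/-! Hall subgroups of symmetric groups: conjugacy of the three families, in the symmetric and
in the alternating group. -/

namespace Cfsg.Agent.Lib.Helper8.HS

open Equiv Equiv.Perm MulAction
open scoped Pointwise

section general

variable {Γ : Type*} [Group Γ]

theorem mem_map_conj {K : Subgroup Γ} {g x : Γ} :
    x ∈ K.map (MulAut.conj g).toMonoidHom ↔ g⁻¹ * x * g ∈ K := by
  rw [Subgroup.mem_map_equiv]
  simp [MulAut.conj_symm_apply]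

/-- conjugating by `g * k` with `k ∈ K` is the same as conjugating by `g` -/
theorem map_conj_mul_of_mem {K : Subgroup Γ} {g k : Γ} (hk : k ∈ K) :
    K.map (MulAut.conj (g * k)).toMonoidHom = K.map (MulAut.conj g).toMonoidHom := by
  ext x
  rw [mem_map_conj, mem_map_conj]
  have e : (g * k)⁻¹ * x * (g * k) = k⁻¹ * (g⁻¹ * x * g) * k := by group
  rw [e]
  constructor
  · intro h
    have := K.mul_mem (K.mul_mem hk h) (K.inv_mem hk)
    simpa [mul_assoc] using this
  · intro h
    exact K.mul_mem (K.mul_mem (K.inv_mem hk) h) hk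

/-- transfer of conjugacy to a subgroup `A` containing the conjugating element -/
theorem conj_in_subgroup {A K₁ K₂ : Subgroup Γ} {M₁ M₂ : Subgroup A}
    (h1 : M₁.map A.subtype = A ⊓ K₁) (h2 : M₂.map A.subtype = A ⊓ K₂)
    (a : Γ) (ha : a ∈ A) (hK : K₂ = K₁.map (MulAut.conj a).toMonoidHom) :
    ∃ g : A, M₂ = M₁.map (MulAut.conj g).toMonoidHom := by
  refine ⟨⟨a, ha⟩, ?_⟩
  have hm1 : ∀ x : A, x ∈ M₁ ↔ (x : Γ) ∈ K₁ := by
    intro x
    constructor
    · intro hx
      have : (x : Γ) ∈ M₁.map A.subtype := ⟨x, hx, rfl⟩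
      rw [h1] at this; exact this.2
    · intro hx
      have : (x : Γ) ∈ A ⊓ K₁ := ⟨x.2, hx⟩
      rw [← h1] at this
      obtain ⟨y, hy, hyx⟩ := this
      have : y = x := Subtype.ext hyx
      rwa [← this]
  have hm2 : ∀ x : A, x ∈ M₂ ↔ (x : Γ) ∈ K₂ := by
    intro x
    constructor
    · intro hx
      have : (x : Γ) ∈ M₂.map A.subtype := ⟨x, hx, rfl⟩
      rw [h2] at this; exact this.2
    · intro hx
      have : (x : Γ) ∈ A ⊓ K₂ := ⟨x.2, hx⟩
      rw [← h2] at this
      obtain ⟨y, hy, hyx⟩ := this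
      have : y = x := Subtype.ext hyx
      rwa [← this]
  ext x
  rw [mem_map_conj, hm2, hm1, hK, mem_map_conj]
  rfl

end general

variable {α : Type*} [Fintype α] [DecidableEq α]

/-- a conjugacy in the symmetric group of a subgroup containing an odd permutation can be
realized by an even permutation -/
theorem exists_even_conj {K K' : Subgroup (Perm α)} (hodd : ∃ k ∈ K, sign k = -1) (g : Perm α)
    (h : K' = K.map (MulAut.conj g).toMonoidHom) :
    ∃ a ∈ alternatingGroup α, K' = K.map (MulAut.conj a).toMonoidHom := by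
  rcases Int.units_eq_one_or (sign g) with hg | hg
  · exact ⟨g, mem_alternatingGroup.mpr hg, h⟩
  · obtain ⟨k, hk, hks⟩ := hodd
    refine ⟨g * k, ?_, ?_⟩
    · rw [mem_alternatingGroup, Perm.sign_mul, hg, hks]; decide
    · rw [map_conj_mul_of_mem hk]; exact h

theorem stabilizer_point_conj (x y : α) :
    ∃ g : Perm α, stabilizer (Perm α) y = (stabilizer (Perm α) x).map (MulAut.conj g).toMonoidHom := by
  refine ⟨swap x y, ?_⟩
  rw [← stabilizer_smul_eq_stabilizer_map_conj]
  congr 1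
  simp

theorem stabilizer_set_conj {s t : Set α} (h : s.ncard = t.ncard) :
    ∃ g : Perm α, stabilizer (Perm α) t = (stabilizer (Perm α) s).map (MulAut.conj g).toMonoidHom := by
  obtain ⟨g, hg⟩ := exists_smul_set_eq h
  refine ⟨g, ?_⟩
  rw [← stabilizer_smul_eq_stabilizer_map_conj, hg]

theorem stabilizer_pair_conj {s t : Set α} (h : s.ncard = t.ncard) :
    ∃ g : Perm α, stabilizer (Perm α) ({t, tᶜ} : Set (Set α)) =
      (stabilizer (Perm α) ({s, sᶜ} : Set (Set α))).map (MulAut.conj g).toMonoidHom := by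
  obtain ⟨g, hg⟩ := exists_smul_set_eq h
  refine ⟨g, ?_⟩
  rw [← stabilizer_smul_eq_stabilizer_map_conj, smul_pair, hg]

theorem exists_odd_stabilizer_point (x : α) (h3 : 3 ≤ Fintype.card α) :
    ∃ k ∈ stabilizer (Perm α) x, sign k = -1 := by
  have h1 : 1 < Fintype.card {y : α // y ≠ x} := by
    rw [Fintype.card_subtype_compl, Fintype.card_subtype_eq]; omega
  obtain ⟨⟨y, hy⟩, ⟨z, hz⟩, hyz⟩ := Fintype.exists_pair_of_one_lt_card h1
  have hyz' : y ≠ z := fun h => hyz (Subtype.ext h)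
  refine ⟨swap y z, ?_, sign_swap hyz'⟩
  rw [mem_stabilizer_iff]
  exact swap_apply_of_ne_of_ne (Ne.symm hy) (Ne.symm hz)

theorem exists_odd_stabilizer_set (s : Set α) (h2 : 2 ≤ s.ncard) :
    ∃ k ∈ stabilizer (Perm α) s, sign k = -1 := by
  obtain ⟨y, z, hy, hz, hyz⟩ := (Set.one_lt_ncard_iff (s.toFinite)).mp h2
  refine ⟨swap y z, ?_, sign_swap hyz⟩
  rw [mem_stabilizer_iff]
  ext w
  rw [Set.mem_smul_set_iff_inv_smul_mem, swap_inv, Perm.smul_def]
  by_cases hwy : w = y
  · subst hwy; rw [swap_apply_left]; exact ⟨fun _ => hy, fun _ => hz⟩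
  · by_cases hwz : w = z
    · subst hwz; rw [swap_apply_right]; exact ⟨fun _ => hz, fun _ => hy⟩
    · rw [swap_apply_of_ne_of_ne hwy hwz]

theorem exists_odd_stabilizer_pair (s : Set α) (h2 : 2 ≤ s.ncard) :
    ∃ k ∈ stabilizer (Perm α) ({s, sᶜ} : Set (Set α)), sign k = -1 := by
  obtain ⟨k, hk, hks⟩ := exists_odd_stabilizer_set s h2
  exact ⟨k, stabilizer_le_stabilizer_pair s hk, hks⟩

end Cfsg.Agent.Lib.Helper8.HS
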