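import Mathlib
import Cfsg.Agent.Lib.Helper8.HS5

/-! The property `D_π`: general lemmas for finite groups. -/

namespace Cfsg.Agent.Lib.Helper8.HS

variable {Γ : Type*} [Group Γ] [Finite Γ] {π : Set ℕ}

theorem exists_maximal_pi {K : Subgroup Γ} (hK : Cfsg.IsPiSubgroup π K) :
    ∃ M, K ≤ M ∧ Maximal (Cfsg.IsPiSubgroup π) M :=
  Finite.exists_le_maximal hK

theorem isPiSubgroup_bot : Cfsg.IsPiSubgroup π (⊥ : Subgroup Γ) := by
  intro p hp hd
  rw [Subgroup.card_bot] at hd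
  exact absurd (Nat.dvd_one.mp hd) hp.one_lt.ne'

theorem card_map_conj (g : Γ) (H : Subgroup Γ) :
    Nat.card (H.map (MulAut.conj g).toMonoidHom) = Nat.card H :=
  Nat.card_congr (H.equivMapOfInjective _ (MulAut.conj g).injective).symm.toEquiv

/-- a Hall subgroup is a maximal `π`-subgroup -/
theorem maximal_of_isPiHall {H : Subgroup Γ} (h : Cfsg.IsPiHall π H) :
    Maximal (Cfsg.IsPiSubgroup π) H := by
  refine ⟨h.1, fun L hL hHL => ?_⟩
  have := hallOf_eq_of_le_pi ((isPiHall_iff_hallOf_top H).mp h) hHL le_top hL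
  exact this.ge

/-- under `D_π`, maximal `π`-subgroups are Hall subgroups -/
theorem isPiHall_of_maximal_of_D (hD : Cfsg.IsDPiGroup π Γ) {M : Subgroup Γ}
    (hM : Maximal (Cfsg.IsPiSubgroup π) M) : Cfsg.IsPiHall π M := by
  refine ⟨hM.prop, fun p hp hpπ hd => ?_⟩
  haveI := Fact.mk hp
  obtain ⟨P⟩ : Nonempty (Sylow p Γ) := inferInstance
  have hP : Cfsg.IsPiSubgroup π (P : Subgroup Γ) := by
    intro q hq hqd
    obtain ⟨k, hk⟩ := (IsPGroup.iff_card).mp P.isPGroup'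
    rw [hk] at hqd
    have := (Nat.prime_dvd_prime_iff_eq hq hp).mp (hq.dvd_of_dvd_pow hqd)
    rw [this]; exact hpπ
  obtain ⟨M', hPM', hM'⟩ := exists_maximal_pi hP
  obtain ⟨g, hg⟩ := hD M M' hM hM'
  have h1 : M'.index = M.index := by
    rw [hg]
    exact Subgroup.index_map_equiv M (MulAut.conj g)
  have h2 : M'.index ∣ (P : Subgroup Γ).index := Subgroup.index_dvd_of_le hPM'
  rw [← h1] at hd
  exact P.not_dvd_index (hd.trans h2)

/-- if no prime of `π` divides the order, the only `π`-subgroup is trivial -/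
theorem eq_bot_of_isPiSubgroup_of_forall_not_dvd
    (h0 : ∀ p : ℕ, p.Prime → p ∈ π → ¬ p ∣ Nat.card Γ) {L : Subgroup Γ}
    (hL : Cfsg.IsPiSubgroup π L) : L = ⊥ := by
  rw [← Subgroup.card_eq_one]
  by_contra hne
  obtain ⟨q, hq, hqd⟩ := Nat.exists_prime_and_dvd hne
  exact h0 q hq (hL q hq hqd) (hqd.trans (Subgroup.card_subgroup_dvd_card L))

/-- if `p` is the only prime of `π` dividing the order, `π`-subgroups are `p`-subgroups -/
theorem isPGroup_of_isPiSubgroup {p : ℕ} (hp : p.Prime)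
    (h1 : ∀ q : ℕ, q.Prime → q ∈ π → q ∣ Nat.card Γ → q = p) {L : Subgroup Γ}
    (hL : Cfsg.IsPiSubgroup π L) : IsPGroup p L := by
  haveI := Fact.mk hp
  have hne : Nat.card L ≠ 0 := Nat.card_pos.ne'
  have hall : ∀ {q : ℕ}, q.Prime → q ∣ Nat.card L → q = p := fun {q} hq hqd =>
    h1 q hq (hL q hq hqd) (hqd.trans (Subgroup.card_subgroup_dvd_card L))
  by_cases hc : Nat.card L = 1
  · exact IsPGroup.of_card (n := 0) (by rw [hc, pow_zero])
  · obtain ⟨q, hq, hqd⟩ := Nat.exists_prime_and_dvd hc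
    have hqp := hall hq hqd
    subst hqp
    have := Nat.eq_prime_pow_of_unique_prime_dvd hne (fun {r} hr hrd => hall hr hrd)
    exact IsPGroup.of_card this

theorem isPiSubgroup_of_isPGroup {p : ℕ} (hp : p.Prime) (hpπ : p ∈ π) {L : Subgroup Γ}
    (hL : IsPGroup p L) : Cfsg.IsPiSubgroup π L := by
  haveI := Fact.mk hp
  intro q hq hqd
  obtain ⟨k, hk⟩ := (IsPGroup.iff_card).mp hL
  rw [hk] at hqd
  have := (Nat.prime_dvd_prime_iff_eq hq hp).mp (hq.dvd_of_dvd_pow hqd)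
  rw [this]; exact hpπ

/-- `D_π` holds when at most one prime of `π` divides the order -/
theorem isDPi_of_one
    (h : ∀ r s : ℕ, r.Prime → s.Prime → r ∈ π → s ∈ π → r ∣ Nat.card Γ → s ∣ Nat.card Γ → r = s) :
    Cfsg.IsDPiGroup π Γ := by
  intro H K hH hK
  by_cases hex : ∃ p : ℕ, p.Prime ∧ p ∈ π ∧ p ∣ Nat.card Γ
  · obtain ⟨p, hp, hpπ, hpd⟩ := hex
    haveI := Fact.mk hp
    have h1 : ∀ q : ℕ, q.Prime → q ∈ π → q ∣ Nat.card Γ → q = p := fun q hq hqπ hqd =>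
      h q p hq hp hqπ hpπ hqd hpd
    let PH : Sylow p Γ := ⟨H, isPGroup_of_isPiSubgroup hp h1 hH.prop, fun {Q} hQ hHQ =>
      le_antisymm (hH.2 (isPiSubgroup_of_isPGroup hp hpπ hQ) hHQ) hHQ⟩
    let PK : Sylow p Γ := ⟨K, isPGroup_of_isPiSubgroup hp h1 hK.prop, fun {Q} hQ hKQ =>
      le_antisymm (hK.2 (isPiSubgroup_of_isPGroup hp hpπ hQ) hKQ) hKQ⟩
    obtain ⟨g, hg⟩ := MulAction.exists_smul_eq Γ PH PK
    refine ⟨g, ?_⟩
    have h2 := congrArg Sylow.toSubgroup hg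
    rw [Sylow.coe_subgroup_smul] at h2
    exact h2.symm
  · have h0 : ∀ p : ℕ, p.Prime → p ∈ π → ¬ p ∣ Nat.card Γ := fun p hp hpπ hd =>
      hex ⟨p, hp, hpπ, hd⟩
    refine ⟨1, ?_⟩
    rw [eq_bot_of_isPiSubgroup_of_forall_not_dvd h0 hH.prop,
      eq_bot_of_isPiSubgroup_of_forall_not_dvd h0 hK.prop, Subgroup.map_bot]

/-- `D_π` holds when every prime dividing the order lies in `π` -/
theorem isDPi_of_all (h : ∀ r : ℕ, r.Prime → r ∣ Nat.card Γ → r ∈ π) :
    Cfsg.IsDPiGroup π Γ := by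
  have htop : Cfsg.IsPiSubgroup π (⊤ : Subgroup Γ) := fun p hp hd =>
    h p hp (hd.trans (Subgroup.card_subgroup_dvd_card _))
  intro H K hH hK
  have hH' : H = ⊤ := top_le_iff.mp (hH.2 htop le_top)
  have hK' : K = ⊤ := top_le_iff.mp (hK.2 htop le_top)
  refine ⟨1, ?_⟩
  rw [hH', hK']
  exact (Subgroup.map_top_of_surjective _ (MulAut.conj (1 : Γ)).surjective).symm

/-- under `D_π` Hall subgroups are conjugate -/
theorem conj_of_D (hD : Cfsg.IsDPiGroup π Γ) {H K : Subgroup Γ} (hH : Cfsg.IsPiHall π H)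
    (hK : Cfsg.IsPiHall π K) : ∃ g : Γ, K = H.map (MulAut.conj g).toMonoidHom :=
  hD H K (maximal_of_isPiHall hH) (maximal_of_isPiHall hK)

end Cfsg.Agent.Lib.Helper8.HS
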