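import Mathlib
import Cfsg.Agent.Lib.Helper8.HS8
import Cfsg.Agent.Lib.Helper8.HS9

/-! Hall subgroups of alternating groups: failure of `D_π` in the point-stabilizer case. -/

namespace Cfsg.Agent.Lib.Helper8.HS

open Equiv Equiv.Perm MulAction
open scoped Pointwise

variable {α : Type*} [Fintype α] [DecidableEq α] {π : Set ℕ}

/-- if `Q ≤ g M g⁻¹` in a subgroup `A` of `Perm α` and `M` fixes `z`, then `Q` fixes `g z` -/
theorem fixes_of_le_conj {Z : Type*} [MulAction (Perm α) Z] {A : Subgroup (Perm α)}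
    {M Q : Subgroup A} (g : A) (z : Z)
    (hM : M.map A.subtype ≤ stabilizer (Perm α) z)
    (hQ : Q ≤ M.map (MulAut.conj g).toMonoidHom) :
    ∀ q ∈ Q, (q : Perm α) • ((g : Perm α) • z) = (g : Perm α) • z := by
  intro q hq
  have h1 := hQ hq
  rw [mem_map_conj] at h1
  have h2 : ((g⁻¹ * q * g : A) : Perm α) ∈ stabilizer (Perm α) z := hM ⟨_, h1, rfl⟩
  rw [mem_stabilizer_iff] at h2
  have h3 : ((g⁻¹ * q * g : A) : Perm α) = (g : Perm α)⁻¹ * (q : Perm α) * (g : Perm α) := by
    simp
  rw [h3, mul_smul, mul_smul] at h2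
  rw [inv_smul_eq_iff] at h2
  exact h2

theorem smul_pair_eq (g : Perm α) (a b : α) : g • ({a, b} : Set α) = {g a, g b} := by
  rw [Set.smul_set_insert, Set.smul_set_singleton]; rfl

/-- the stabilizer of a 2-set in the alternating group has no fixed point (degree `≥ 5`) -/
theorem exists_moving_of_two_set {a b : α} (hab : a ≠ b) (h5 : 5 ≤ Fintype.card α) (y : α) :
    ∃ σ ∈ alternatingGroup α ⊓ stabilizer (Perm α) ({a, b} : Set α), σ y ≠ y := by
  obtain ⟨c, -, hc⟩ : ∃ c ∈ (Finset.univ : Finset α), c ∉ ({a, b, y} : Finset α) := by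
    apply Finset.exists_mem_notMem_of_card_lt_card
    have : ({a, b, y} : Finset α).card ≤ 3 := Finset.card_le_three
    rw [Finset.card_univ]; omega
  obtain ⟨d, -, hd⟩ : ∃ d ∈ (Finset.univ : Finset α), d ∉ ({a, b, y, c} : Finset α) := by
    apply Finset.exists_mem_notMem_of_card_lt_card
    have : ({a, b, y, c} : Finset α).card ≤ 4 := Finset.card_le_four
    rw [Finset.card_univ]; omega
  simp only [Finset.mem_insert, Finset.mem_singleton, not_or] at hc hd
  obtain ⟨hca, hcb, hcy⟩ := hc
  obtain ⟨hda, hdb, hdy, hdc⟩ := hd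
  by_cases hy : y = a ∨ y = b
  · refine ⟨swap a b * swap c d, Subgroup.mem_inf.mpr ⟨?_, ?_⟩, ?_⟩
    · rw [mem_alternatingGroup, Perm.sign_mul, sign_swap hab, sign_swap (Ne.symm hdc)]; decide
    · rw [mem_stabilizer_iff, smul_pair_eq]
      have e1 : (swap a b * swap c d) a = b := by
        rw [Perm.mul_apply, swap_apply_of_ne_of_ne (Ne.symm hca) (Ne.symm hda), swap_apply_left]
      have e2 : (swap a b * swap c d) b = a := by
        rw [Perm.mul_apply, swap_apply_of_ne_of_ne (Ne.symm hcb) (Ne.symm hdb), swap_apply_right]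
      rw [e1, e2, Set.pair_comm]
    · rcases hy with rfl | rfl
      · rw [Perm.mul_apply, swap_apply_of_ne_of_ne (Ne.symm hca) (Ne.symm hda), swap_apply_left]
        exact Ne.symm hab
      · rw [Perm.mul_apply, swap_apply_of_ne_of_ne (Ne.symm hcb) (Ne.symm hdb), swap_apply_right]
        exact hab
  · push Not at hy
    obtain ⟨hya, hyb⟩ := hy
    refine ⟨swap a b * swap y c, Subgroup.mem_inf.mpr ⟨?_, ?_⟩, ?_⟩
    · rw [mem_alternatingGroup, Perm.sign_mul, sign_swap hab, sign_swap (Ne.symm hcy)]; decide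
    · rw [mem_stabilizer_iff, smul_pair_eq]
      have e1 : (swap a b * swap y c) a = b := by
        rw [Perm.mul_apply, swap_apply_of_ne_of_ne (Ne.symm hya) (Ne.symm hca), swap_apply_left]
      have e2 : (swap a b * swap y c) b = a := by
        rw [Perm.mul_apply, swap_apply_of_ne_of_ne (Ne.symm hyb) (Ne.symm hcb), swap_apply_right]
      rw [e1, e2, Set.pair_comm]
    · rw [Perm.mul_apply, swap_apply_left, swap_apply_of_ne_of_ne hca hcb]
      exact hcy

/-- the stabilizer of a 2-set is a `π`-group when `π` contains all primes below the degree -/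
theorem isPiSubgroup_two_set {a b : α} (hab : a ≠ b) (h5 : 5 ≤ Fintype.card α)
    (hπ : ∀ r : ℕ, r.Prime → r < Fintype.card α → r ∈ π) :
    Cfsg.IsPiSubgroup π
      ((stabilizer (Perm α) ({a, b} : Set α)).subgroupOf (alternatingGroup α)) := by
  intro p hp hd
  have h1 : Nat.card ((stabilizer (Perm α) ({a, b} : Set α)).subgroupOf (alternatingGroup α)) ∣
      Nat.card (stabilizer (Perm α) ({a, b} : Set α)) := by
    have := Subgroup.card_dvd_of_le
      (inf_le_right : alternatingGroup α ⊓ stabilizer (Perm α) ({a, b} : Set α) ≤ _)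
    rw [← map_subtype_subgroupOf,
      Nat.card_congr (Subgroup.equivMapOfInjective _ _
        (alternatingGroup α).subtype_injective).symm.toEquiv] at this
    exact this
  have h2 := hd.trans h1
  rw [Cfsg.Agent.Lib.Helper5.HallSn.card_stabilizer_set, Set.ncard_pair hab] at h2
  apply hπ p hp
  rcases (hp.dvd_mul).mp h2 with h3 | h3
  · have := (hp.dvd_factorial).mp h3; omega
  · have := (hp.dvd_factorial).mp h3; omega

end Cfsg.Agent.Lib.Helper8.HS
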