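import Mathlib
import Cfsg.Agent.Lib.Helper8.HS10

/-! A copy of the alternating group of degree 4 acting on six points, abstractly: data and
consequences. -/

namespace Cfsg.Agent.Lib.Helper8.HS

open Equiv Equiv.Perm MulAction
open scoped Pointwise

/-- an explicit list of twelve permutations forming a group, generated by elements of order 3,
transitive on the first six points -/
structure QData (n : ℕ) where
  L : List (Perm (Fin n))
  one_mem : 1 ∈ L
  mul_mem : ∀ a ∈ L, ∀ b ∈ L, a * b ∈ L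
  inv_mem : ∀ a ∈ L, a⁻¹ ∈ L
  card : L.toFinset.card = 12
  gen3 : ∀ q ∈ L, ∃ u ∈ L, ∃ v ∈ L, u ^ 3 = 1 ∧ v ^ 3 = 1 ∧ q = u * v
  trans : ∀ i j : Fin n, i.val < 6 → j.val < 6 → ∃ q ∈ L, q i = j

variable {n : ℕ} (D : QData n) {π : Set ℕ}

/-- the subgroup -/
def QData.sub : Subgroup (Perm (Fin n)) where
  carrier := {g | g ∈ D.L}
  mul_mem' := fun ha hb => D.mul_mem _ ha _ hb
  one_mem' := D.one_mem
  inv_mem' := fun ha => D.inv_mem _ ha

theorem QData.mem_sub {g : Perm (Fin n)} : g ∈ D.sub ↔ g ∈ D.L := Iff.rfl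

theorem QData.card_sub : Nat.card D.sub = 12 := by
  have e : (D.sub : Set (Perm (Fin n))) = (D.L.toFinset : Set (Perm (Fin n))) := by
    ext x
    rw [Finset.mem_coe, List.mem_toFinset]
    rfl
  rw [← D.card, ← Set.ncard_coe_finset, ← e]
  rfl

theorem sign_eq_one_of_pow_three {α : Type*} [Fintype α] [DecidableEq α] {u : Perm α}
    (h : u ^ 3 = 1) : sign u = 1 := by
  have h1 : sign u ^ 3 = 1 := by rw [← map_pow, h, map_one]
  rcases Int.units_eq_one_or (sign u) with h2 | h2
  · exact h2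
  · rw [h2] at h1; exact absurd h1 (by decide)

theorem QData.sub_le_alt : D.sub ≤ alternatingGroup (Fin n) := by
  intro q hq
  obtain ⟨u, -, v, -, hu, hv, rfl⟩ := D.gen3 q hq
  rw [mem_alternatingGroup, Perm.sign_mul, sign_eq_one_of_pow_three hu,
    sign_eq_one_of_pow_three hv, one_mul]

theorem QData.isPiSubgroup (h2 : 2 ∈ π) (h3 : 3 ∈ π) :
    Cfsg.IsPiSubgroup π (D.sub.subgroupOf (alternatingGroup (Fin n))) := by
  intro p hp hd
  rw [Nat.card_congr (Subgroup.subgroupOfEquivOfLe D.sub_le_alt).toEquiv, D.card_sub] at hd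
  have e : 12 = 2 ^ 2 * 3 := by norm_num
  rw [e] at hd
  rcases (hp.dvd_mul).mp hd with h | h
  · rw [(Nat.prime_dvd_prime_iff_eq hp Nat.prime_two).mp (hp.dvd_of_dvd_pow h)]; exact h2
  · rw [(Nat.prime_dvd_prime_iff_eq hp Nat.prime_three).mp h]; exact h3

/-- an invariant set contains the first six points or avoids them -/
theorem QData.invariant_dichotomy (t : Set (Fin n)) (ht : ∀ q ∈ D.sub, q • t = t) :
    (∀ j : Fin n, j.val < 6 → j ∈ t) ∨ (∀ j ∈ t, 6 ≤ j.val) := by
  by_cases h : ∃ i ∈ t, i.val < 6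
  · left
    obtain ⟨i, hit, hi⟩ := h
    intro j hj
    obtain ⟨q, hq, hqi⟩ := D.trans i j hi hj
    rw [← ht q hq, ← hqi]
    exact Set.smul_mem_smul_set hit
  · right
    push Not at h
    exact h

theorem QData.ncard_invariant (h6 : 6 ≤ n) (t : Set (Fin n)) (ht : ∀ q ∈ D.sub, q • t = t) :
    6 ≤ t.ncard ∨ t.ncard + 6 ≤ n := by
  have hr : (Set.range (Fin.castLE h6)).ncard = 6 := by
    rw [← Set.image_univ, Set.ncard_image_of_injective _ (Fin.castLE_injective h6),
      Set.ncard_univ, Nat.card_fin]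
  rcases D.invariant_dichotomy t ht with h | h
  · left
    rw [← hr]
    apply Set.ncard_le_ncard _ t.toFinite
    rintro _ ⟨i, rfl⟩
    exact h _ (by simp)
  · right
    have hsub : t ⊆ (Set.range (Fin.castLE h6))ᶜ := by
      intro j hj hjr
      obtain ⟨i, rfl⟩ := hjr
      have := h _ hj
      simp at this
      omega
    have h1 := Set.ncard_le_ncard hsub (Set.toFinite _)
    have h2 := Set.ncard_add_ncard_compl (Set.range (Fin.castLE h6))
    rw [hr, Nat.card_fin] at h2
    omega

/-- if every element maps `t` to `t` or its complement then every element stabilizes `t` -/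
theorem QData.pair_invariant [NeZero n] (t : Set (Fin n))
    (ht : ∀ q ∈ D.sub, q • t = t ∨ q • t = tᶜ) : ∀ q ∈ D.sub, q • t = t := by
  have h3 : ∀ u ∈ D.sub, u ^ 3 = 1 → u • t = t := by
    intro u hu h3
    rcases ht u hu with h | h
    · exact h
    · exfalso
      have h1 : (u ^ 3) • t = tᶜ := by
        rw [pow_succ, pow_two, mul_smul, mul_smul, h, Set.smul_set_compl, h, compl_compl, h]
      rw [h3, one_smul] at h1
      exact compl_ne_self h1.symm
  intro q hq
  obtain ⟨u, hu, v, hv, hu3, hv3, rfl⟩ := D.gen3 q hq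
  rw [mul_smul, h3 v hv hv3, h3 u hu hu3]

end Cfsg.Agent.Lib.Helper8.HS
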