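import Mathlib
import Cfsg.Agent.Lib.Helper8.HS11

/-! The explicit copy of `A₄` on six of 8 points. -/

namespace Cfsg.Agent.Lib.Helper8.HS

open Equiv Equiv.Perm

/-- twelve explicit permutations of `Fin 8` -/
def qlist8 : List (Perm (Fin 8)) :=
  [1,
    swap 0 2 * swap 2 4 * swap 1 3 * swap 3 5,
    swap 0 2 * swap 2 5 * swap 1 3 * swap 3 4,
    swap 0 3 * swap 3 5 * swap 1 2 * swap 2 4,
    swap 0 3 * swap 3 4 * swap 1 2 * swap 2 5,
    swap 0 4 * swap 4 2 * swap 1 5 * swap 5 3,
    swap 0 4 * swap 4 3 * swap 1 5 * swap 5 2,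
    swap 0 5 * swap 5 2 * swap 1 4 * swap 4 3,
    swap 0 5 * swap 5 3 * swap 1 4 * swap 4 2,
    swap 2 3 * swap 4 5,
    swap 0 1 * swap 4 5,
    swap 0 1 * swap 2 3]

set_option maxRecDepth 100000 in
theorem qlist8_one : 1 ∈ qlist8 := by decide +kernel

set_option maxRecDepth 100000 in
theorem qlist8_mul : ∀ a ∈ qlist8, ∀ b ∈ qlist8, a * b ∈ qlist8 := by
  have h : qlist8.all (fun a => qlist8.all (fun b => decide (a * b ∈ qlist8))) = true := by
    decide +kernel
  intro a ha b hb
  exact of_decide_eq_true (List.all_eq_true.mp (List.all_eq_true.mp h a ha) b hb)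

set_option maxRecDepth 100000 in
theorem qlist8_inv : ∀ a ∈ qlist8, a⁻¹ ∈ qlist8 := by
  have h : qlist8.all (fun a => decide (a⁻¹ ∈ qlist8)) = true := by decide +kernel
  intro a ha
  exact of_decide_eq_true (List.all_eq_true.mp h a ha)

set_option maxRecDepth 100000 in
theorem qlist8_card : qlist8.toFinset.card = 12 := by decide +kernel

set_option maxRecDepth 100000 in
theorem qlist8_gen3 : ∀ q ∈ qlist8, ∃ u ∈ qlist8, ∃ v ∈ qlist8,
    u ^ 3 = 1 ∧ v ^ 3 = 1 ∧ q = u * v := by
  have h : qlist8.all (fun q => qlist8.any (fun u => qlist8.any (fun v =>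
      decide (u ^ 3 = 1 ∧ v ^ 3 = 1 ∧ q = u * v)))) = true := by decide +kernel
  intro q hq
  obtain ⟨u, hu, h1⟩ := List.any_eq_true.mp (List.all_eq_true.mp h q hq)
  obtain ⟨v, hv, h2⟩ := List.any_eq_true.mp h1
  exact ⟨u, hu, v, hv, of_decide_eq_true h2⟩

set_option maxRecDepth 100000 in
theorem qlist8_trans : ∀ i j : Fin 8, i.val < 6 → j.val < 6 → ∃ q ∈ qlist8, q i = j := by
  have h : (List.finRange 8).all (fun i => (List.finRange 8).all (fun j =>
      decide (i.val < 6 → j.val < 6 → qlist8.any (fun q => decide (q i = j)) = true))) = true := by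
    decide +kernel
  intro i j hi hj
  have h1 := of_decide_eq_true
    (List.all_eq_true.mp (List.all_eq_true.mp h i (List.mem_finRange i)) j (List.mem_finRange j))
  obtain ⟨q, hq, h2⟩ := List.any_eq_true.mp (h1 hi hj)
  exact ⟨q, hq, of_decide_eq_true h2⟩

/-- the data -/
def qdata8 : QData 8 where
  L := qlist8
  one_mem := qlist8_one
  mul_mem := qlist8_mul
  inv_mem := qlist8_inv
  card := qlist8_card
  gen3 := qlist8_gen3
  trans := qlist8_trans

end Cfsg.Agent.Lib.Helper8.HS
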