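import Mathlib
import Cfsg.Agent.Lib.Helper8.HS10

/-! Hall subgroups of symmetric and alternating groups: the classification as a hypothesis
(`MainFin`), existence and the relation between `Sₙ` and `Aₙ`. -/

namespace Cfsg.Agent.Lib.Helper8.HS

open Equiv Equiv.Perm MulAction
open scoped Pointwise

/-- the classification of the Hall subgroups of `Sₙ` and `Aₙ` when `π` contains at least two
but not all primes up to `n` -/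
def MainFin (n : ℕ) (π : Set ℕ) : Prop :=
  ∀ G H : Subgroup (Perm (Fin n)), alternatingGroup (Fin n) ≤ G → Cfsg.IsPiHallOf π H G →
    (∃ r s : ℕ, r.Prime ∧ s.Prime ∧ r ≠ s ∧ r ∈ π ∧ s ∈ π ∧ r ≤ n ∧ s ≤ n) →
    (∃ r : ℕ, r.Prime ∧ r ≤ n ∧ r ∉ π) →
    (n.Prime ∧ (∀ r : ℕ, r.Prime → r ≤ n → (r ∈ π ↔ r < n)) ∧
        ∃ x : Fin n, H = G ⊓ stabilizer (Perm (Fin n)) x) ∨
    (n = 7 ∧ (∀ r : ℕ, r.Prime → r ≤ 7 → (r ∈ π ↔ r = 2 ∨ r = 3)) ∧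
        ∃ s : Set (Fin n), s.ncard = 3 ∧ H = G ⊓ stabilizer (Perm (Fin n)) s) ∨
    (n = 8 ∧ (∀ r : ℕ, r.Prime → r ≤ 8 → (r ∈ π ↔ r = 2 ∨ r = 3)) ∧
        ∃ s : Set (Fin n), s.ncard = 4 ∧
          H = G ⊓ stabilizer (Perm (Fin n)) ({s, sᶜ} : Set (Set (Fin n))))

/-- at most one prime of `π` is `≤ n` -/
def OneP (n : ℕ) (π : Set ℕ) : Prop :=
  ∀ r s : ℕ, r.Prime → s.Prime → r ∈ π → s ∈ π → r ≤ n → s ≤ n → r = s

/-- all primes `≤ n` lie in `π` -/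
def AllP (n : ℕ) (π : Set ℕ) : Prop := ∀ r : ℕ, r.Prime → r ≤ n → r ∈ π

theorem h2_of_not_oneP {n : ℕ} {π : Set ℕ} (h : ¬ OneP n π) :
    ∃ r s : ℕ, r.Prime ∧ s.Prime ∧ r ≠ s ∧ r ∈ π ∧ s ∈ π ∧ r ≤ n ∧ s ≤ n := by
  unfold OneP at h
  push Not at h
  obtain ⟨r, s, hr, hs, hrπ, hsπ, hrn, hsn, hne⟩ := h
  exact ⟨r, s, hr, hs, hne, hrπ, hsπ, hrn, hsn⟩

theorem hns_of_not_allP {n : ℕ} {π : Set ℕ} (h : ¬ AllP n π) :
    ∃ r : ℕ, r.Prime ∧ r ≤ n ∧ r ∉ π := by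
  unfold AllP at h
  push Not at h
  exact h

variable {n : ℕ} {π : Set ℕ}

theorem prime_le_of_dvd_card_perm {p : ℕ} (hp : p.Prime)
    (hd : p ∣ Nat.card (Perm (Fin n))) : p ≤ n := by
  rw [Nat.card_perm, Nat.card_fin] at hd
  exact (hp.dvd_factorial).mp hd

theorem prime_le_of_dvd_card_alt {p : ℕ} (hp : p.Prime)
    (hd : p ∣ Nat.card (alternatingGroup (Fin n))) : p ≤ n :=
  prime_le_of_dvd_card_perm hp (hd.trans (Subgroup.card_subgroup_dvd_card _))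

theorem isDPi_perm_of_one_or_all (h : OneP n π ∨ AllP n π) :
    Cfsg.IsDPiGroup π (Perm (Fin n)) := by
  rcases h with h | h
  · exact isDPi_of_one fun r s hr hs hrπ hsπ hrd hsd =>
      h r s hr hs hrπ hsπ (prime_le_of_dvd_card_perm hr hrd) (prime_le_of_dvd_card_perm hs hsd)
  · exact isDPi_of_all fun r hr hrd => h r hr (prime_le_of_dvd_card_perm hr hrd)

theorem isDPi_alt_of_one_or_all (h : OneP n π ∨ AllP n π) :
    Cfsg.IsDPiGroup π (alternatingGroup (Fin n)) := by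
  rcases h with h | h
  · exact isDPi_of_one fun r s hr hs hrπ hsπ hrd hsd =>
      h r s hr hs hrπ hsπ (prime_le_of_dvd_card_alt hr hrd) (prime_le_of_dvd_card_alt hs hsd)
  · exact isDPi_of_all fun r hr hrd => h r hr (prime_le_of_dvd_card_alt hr hrd)

/-- the three shapes are Hall subgroups of the symmetric group -/
theorem shape_hall {K : Subgroup (Perm (Fin n))}
    (h : (n.Prime ∧ (∀ r : ℕ, r.Prime → r ≤ n → (r ∈ π ↔ r < n)) ∧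
        ∃ x : Fin n, K = stabilizer (Perm (Fin n)) x) ∨
    (n = 7 ∧ (∀ r : ℕ, r.Prime → r ≤ 7 → (r ∈ π ↔ r = 2 ∨ r = 3)) ∧
        ∃ s : Set (Fin n), s.ncard = 3 ∧ K = stabilizer (Perm (Fin n)) s) ∨
    (n = 8 ∧ (∀ r : ℕ, r.Prime → r ≤ 8 → (r ∈ π ↔ r = 2 ∨ r = 3)) ∧
        ∃ s : Set (Fin n), s.ncard = 4 ∧
          K = stabilizer (Perm (Fin n)) ({s, sᶜ} : Set (Set (Fin n))))) :
    Cfsg.IsPiHall π K := by
  rcases h with ⟨hn, hπ, x, rfl⟩ | ⟨hn, hπ, s, hs, rfl⟩ | ⟨hn, hπ, s, hs, rfl⟩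
  · exact hall_stabilizer_point x (by rwa [Fintype.card_fin]) (by rwa [Fintype.card_fin])
  · exact hall_stabilizer_three s (by rw [Fintype.card_fin, hn]) hs hπ
  · exact hall_stabilizer_pair s (by rw [Fintype.card_fin, hn]) hs hπ

/-- existence of Hall subgroups in the exceptional cases -/
theorem exists_hall_of_shape
    (h : (n.Prime ∧ ∀ r : ℕ, r.Prime → r ≤ n → (r ∈ π ↔ r < n)) ∨
      ((n = 7 ∨ n = 8) ∧ ∀ r : ℕ, r.Prime → r ≤ n → (r ∈ π ↔ (r = 2 ∨ r = 3)))) :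
    Cfsg.IsEPiGroup π (Perm (Fin n)) := by
  rcases h with ⟨hn, hπ⟩ | ⟨rfl | rfl, hπ⟩
  · haveI : NeZero n := ⟨hn.pos.ne'⟩
    exact ⟨_, shape_hall (Or.inl ⟨hn, hπ, (0 : Fin n), rfl⟩)⟩
  · refine ⟨_, shape_hall (Or.inr (Or.inl ⟨rfl, hπ, ((({0, 1, 2} : Finset (Fin 7)) : Set (Fin 7))),
      ?_, rfl⟩))⟩
    rw [Set.ncard_coe_finset]; rfl
  · refine ⟨_, shape_hall (Or.inr (Or.inr ⟨rfl, hπ, ((({0, 1, 2, 3} : Finset (Fin 8)) : Set (Fin 8))),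
      ?_, rfl⟩))⟩
    rw [Set.ncard_coe_finset]; rfl

/-- **S2536** from the classification. -/
theorem s2536_of_main (hmain : MainFin n π)
    (h2 : ∃ r s : ℕ, r.Prime ∧ s.Prime ∧ r ≠ s ∧ r ∈ π ∧ s ∈ π ∧ r ≤ n ∧ s ≤ n)
    (hns : ∃ r : ℕ, r.Prime ∧ r ≤ n ∧ r ∉ π) :
    Cfsg.IsEPiGroup π (Perm (Fin n)) ↔
      ((n.Prime ∧ ∀ r : ℕ, r.Prime → r ≤ n → (r ∈ π ↔ r < n)) ∨
       ((n = 7 ∨ n = 8) ∧ ∀ r : ℕ, r.Prime → r ≤ n → (r ∈ π ↔ (r = 2 ∨ r = 3)))) := by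
  constructor
  · rintro ⟨H, hH⟩
    rcases hmain ⊤ H le_top ((isPiHall_iff_hallOf_top H).mp hH) h2 hns with
      ⟨hn, hπ, -⟩ | ⟨hn, hπ, -⟩ | ⟨hn, hπ, -⟩
    · exact Or.inl ⟨hn, hπ⟩
    · subst hn; exact Or.inr ⟨Or.inl rfl, hπ⟩
    · subst hn; exact Or.inr ⟨Or.inr rfl, hπ⟩
  · exact exists_hall_of_shape

end Cfsg.Agent.Lib.Helper8.HS
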