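import Mathlib
import Cfsg.Agent.Lib.Helper8.HS14

/-! Hall subgroups of the alternating group are the intersections with Hall subgroups of the
symmetric group. -/

namespace Cfsg.Agent.Lib.Helper8.HS

open Equiv Equiv.Perm MulAction
open scoped Pointwise

variable {n : ℕ} {π : Set ℕ}

/-- from a shape of `H = G ⊓ K` to the shape of `K` -/
theorem shape_split {G H : Subgroup (Perm (Fin n))}
    (h : (n.Prime ∧ (∀ r : ℕ, r.Prime → r ≤ n → (r ∈ π ↔ r < n)) ∧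
        ∃ x : Fin n, H = G ⊓ stabilizer (Perm (Fin n)) x) ∨
    (n = 7 ∧ (∀ r : ℕ, r.Prime → r ≤ 7 → (r ∈ π ↔ r = 2 ∨ r = 3)) ∧
        ∃ s : Set (Fin n), s.ncard = 3 ∧ H = G ⊓ stabilizer (Perm (Fin n)) s) ∨
    (n = 8 ∧ (∀ r : ℕ, r.Prime → r ≤ 8 → (r ∈ π ↔ r = 2 ∨ r = 3)) ∧
        ∃ s : Set (Fin n), s.ncard = 4 ∧
          H = G ⊓ stabilizer (Perm (Fin n)) ({s, sᶜ} : Set (Set (Fin n))))) :
    ∃ K : Subgroup (Perm (Fin n)), H = G ⊓ K ∧ Cfsg.IsPiHall π K := by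
  rcases h with ⟨hn, hπ, x, hx⟩ | ⟨hn, hπ, s, hs, hx⟩ | ⟨hn, hπ, s, hs, hx⟩
  · exact ⟨_, hx, shape_hall (Or.inl ⟨hn, hπ, x, rfl⟩)⟩
  · exact ⟨_, hx, shape_hall (Or.inr (Or.inl ⟨hn, hπ, s, hs, rfl⟩))⟩
  · exact ⟨_, hx, shape_hall (Or.inr (Or.inr ⟨hn, hπ, s, hs, rfl⟩))⟩

/-- **S2538** from the classification. -/
theorem s2538_of_main (hmain : MainFin n π) (M : Subgroup (alternatingGroup (Fin n))) :
    Cfsg.IsPiHall π M ↔ ∃ M₀ : Subgroup (Perm (Fin n)), Cfsg.IsPiHall π M₀ ∧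
      M = M₀.subgroupOf (alternatingGroup (Fin n)) := by
  constructor
  · intro hM
    have hH := (isPiHall_iff_hallOf_map (alternatingGroup (Fin n)) M).mp hM
    by_cases h1 : OneP n π ∨ AllP n π
    · have hD := isDPi_perm_of_one_or_all h1
      have hpi : Cfsg.IsPiSubgroup π (M.map (alternatingGroup (Fin n)).subtype) := hH.2.1
      obtain ⟨M₀, hle, hmax⟩ := exists_maximal_pi hpi
      have hM₀ := isPiHall_of_maximal_of_D hD hmax
      refine ⟨M₀, hM₀, ?_⟩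
      rw [eq_subgroupOf_iff]
      apply hallOf_eq_of_le_pi hH (le_inf hH.1 hle) inf_le_left
      intro p hp hd
      exact hM₀.1 p hp (hd.trans (Subgroup.card_dvd_of_le inf_le_right))
    · push Not at h1
      obtain ⟨K, hK, hKh⟩ := shape_split (hmain _ _ le_rfl hH (h2_of_not_oneP h1.1)
        (hns_of_not_allP h1.2))
      exact ⟨K, hKh, (eq_subgroupOf_iff _ _ _).mpr hK⟩
  · rintro ⟨M₀, hM₀, rfl⟩
    exact isPiHall_subgroupOf_normal hM₀

/-- `E_π(Sₙ) ↔ E_π(Aₙ)` from the classification. -/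
theorem e_iff_of_main (hmain : MainFin n π) :
    Cfsg.IsEPiGroup π (Perm (Fin n)) ↔ Cfsg.IsEPiGroup π (alternatingGroup (Fin n)) := by
  constructor
  · rintro ⟨H, hH⟩
    exact ⟨_, isPiHall_subgroupOf_normal hH⟩
  · rintro ⟨M, hM⟩
    obtain ⟨M₀, hM₀, -⟩ := (s2538_of_main hmain M).mp hM
    exact ⟨M₀, hM₀⟩

end Cfsg.Agent.Lib.Helper8.HS
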