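import Mathlib
import Cfsg.Agent.Lib.Helper8.HS15

/-! Hall subgroups of symmetric and alternating groups: conjugacy. -/

namespace Cfsg.Agent.Lib.Helper8.HS

open Equiv Equiv.Perm MulAction
open scoped Pointwise

variable {n : ℕ} {π : Set ℕ}

/-- the three shapes of Hall subgroups of the symmetric group -/
def Shape (n : ℕ) (π : Set ℕ) (K : Subgroup (Perm (Fin n))) : Prop :=
  (n.Prime ∧ (∀ r : ℕ, r.Prime → r ≤ n → (r ∈ π ↔ r < n)) ∧
      ∃ x : Fin n, K = stabilizer (Perm (Fin n)) x) ∨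
  (n = 7 ∧ (∀ r : ℕ, r.Prime → r ≤ 7 → (r ∈ π ↔ r = 2 ∨ r = 3)) ∧
      ∃ s : Set (Fin n), s.ncard = 3 ∧ K = stabilizer (Perm (Fin n)) s) ∨
  (n = 8 ∧ (∀ r : ℕ, r.Prime → r ≤ 8 → (r ∈ π ↔ r = 2 ∨ r = 3)) ∧
      ∃ s : Set (Fin n), s.ncard = 4 ∧
        K = stabilizer (Perm (Fin n)) ({s, sᶜ} : Set (Set (Fin n))))

theorem Shape.hall {K : Subgroup (Perm (Fin n))} (h : Shape n π K) : Cfsg.IsPiHall π K :=
  shape_hall h

/-- the conclusion of the classification, repackaged -/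
theorem shape_of_main (hmain : MainFin n π) {G H : Subgroup (Perm (Fin n))}
    (hG : alternatingGroup (Fin n) ≤ G) (hH : Cfsg.IsPiHallOf π H G)
    (h1 : ¬ OneP n π) (h2 : ¬ AllP n π) :
    ∃ K : Subgroup (Perm (Fin n)), H = G ⊓ K ∧ Shape n π K := by
  rcases hmain G H hG hH (h2_of_not_oneP h1) (hns_of_not_allP h2) with
    ⟨hn, hπ, x, hx⟩ | ⟨hn, hπ, s, hs, hx⟩ | ⟨hn, hπ, s, hs, hx⟩
  · exact ⟨_, hx, Or.inl ⟨hn, hπ, x, rfl⟩⟩
  · exact ⟨_, hx, Or.inr (Or.inl ⟨hn, hπ, s, hs, rfl⟩)⟩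
  · exact ⟨_, hx, Or.inr (Or.inr ⟨hn, hπ, s, hs, rfl⟩)⟩

theorem three_le_of_not_oneP (h1 : ¬ OneP n π) : 3 ≤ n := by
  obtain ⟨r, s, hr, hs, hne, -, -, hrn, hsn⟩ := h2_of_not_oneP h1
  have := hr.two_le
  have := hs.two_le
  omega

theorem Shape.conj {K₁ K₂ : Subgroup (Perm (Fin n))} (h1 : Shape n π K₁) (h2 : Shape n π K₂) :
    ∃ g : Perm (Fin n), K₂ = K₁.map (MulAut.conj g).toMonoidHom := by
  rcases h1 with ⟨hn, hπ, x, rfl⟩ | ⟨hn, hπ, s, hs, rfl⟩ | ⟨hn, hπ, s, hs, rfl⟩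
  · rcases h2 with ⟨-, -, y, rfl⟩ | ⟨hn', hπ', -⟩ | ⟨hn', -, -⟩
    · exact stabilizer_point_conj x y
    · exfalso
      subst hn'
      have h5 : Nat.Prime 5 := by norm_num
      have := (hπ 5 h5 (by norm_num)).mpr (by norm_num)
      have := (hπ' 5 h5 (by norm_num)).mp this
      omega
    · exfalso
      subst hn'
      exact absurd hn (by norm_num)
  · rcases h2 with ⟨-, hπ', -⟩ | ⟨-, -, t, ht, rfl⟩ | ⟨hn', -, -⟩
    · exfalso
      subst hn
      have h5 : Nat.Prime 5 := by norm_num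
      have := (hπ' 5 h5 (by norm_num)).mpr (by norm_num)
      have := (hπ 5 h5 (by norm_num)).mp this
      omega
    · exact stabilizer_set_conj (hs.trans ht.symm)
    · omega
  · rcases h2 with ⟨hn', -, -⟩ | ⟨hn', -, -⟩ | ⟨-, -, t, ht, rfl⟩
    · exfalso
      subst hn
      exact absurd hn' (by norm_num)
    · omega
    · exact stabilizer_pair_conj (hs.trans ht.symm)

theorem Shape.odd {K : Subgroup (Perm (Fin n))} (h : Shape n π K) (h3 : 3 ≤ n) :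
    ∃ k ∈ K, sign k = -1 := by
  rcases h with ⟨-, -, x, rfl⟩ | ⟨-, -, s, hs, rfl⟩ | ⟨-, -, s, hs, rfl⟩
  · exact exists_odd_stabilizer_point x (by rwa [Fintype.card_fin])
  · exact exists_odd_stabilizer_set s (by omega)
  · exact exists_odd_stabilizer_pair s (by omega)

/-- `E_π(Sₙ) → C_π(Sₙ)` from the classification. -/
theorem c_perm_of_main (hmain : MainFin n π) (hE : Cfsg.IsEPiGroup π (Perm (Fin n))) :
    Cfsg.IsCPiGroup π (Perm (Fin n)) := by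
  refine ⟨hE, fun H K hH hK => ?_⟩
  by_cases h1 : OneP n π ∨ AllP n π
  · exact conj_of_D (isDPi_perm_of_one_or_all h1) hH hK
  · push Not at h1
    obtain ⟨K₁, e1, s1⟩ := shape_of_main hmain le_top ((isPiHall_iff_hallOf_top H).mp hH) h1.1 h1.2
    obtain ⟨K₂, e2, s2⟩ := shape_of_main hmain le_top ((isPiHall_iff_hallOf_top K).mp hK) h1.1 h1.2
    rw [top_inf_eq] at e1 e2
    subst e1 e2
    exact s1.conj s2

/-- `E_π(Aₙ) → C_π(Aₙ)` from the classification. -/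
theorem c_alt_of_main (hmain : MainFin n π)
    (hE : Cfsg.IsEPiGroup π (alternatingGroup (Fin n))) :
    Cfsg.IsCPiGroup π (alternatingGroup (Fin n)) := by
  refine ⟨hE, fun H K hH hK => ?_⟩
  by_cases h1 : OneP n π ∨ AllP n π
  · exact conj_of_D (isDPi_alt_of_one_or_all h1) hH hK
  · push Not at h1
    obtain ⟨K₁, e1, s1⟩ := shape_of_main hmain le_rfl
      ((isPiHall_iff_hallOf_map _ H).mp hH) h1.1 h1.2
    obtain ⟨K₂, e2, s2⟩ := shape_of_main hmain le_rfl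
      ((isPiHall_iff_hallOf_map _ K).mp hK) h1.1 h1.2
    obtain ⟨g, hg⟩ := s1.conj s2
    obtain ⟨a, ha, hKa⟩ := exists_even_conj (s1.odd (three_le_of_not_oneP h1.1)) g hg
    exact conj_in_subgroup e1 e2 a ha hKa

/-- **S2535** from the classification. -/
theorem s2535_of_main (hmain : MainFin n π) :
    (Cfsg.IsEPiGroup π (Perm (Fin n)) ↔ Cfsg.IsCPiGroup π (Perm (Fin n))) ∧
    (Cfsg.IsEPiGroup π (Perm (Fin n)) ↔ Cfsg.IsEPiGroup π (alternatingGroup (Fin n))) ∧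
    (Cfsg.IsEPiGroup π (alternatingGroup (Fin n)) ↔
      Cfsg.IsCPiGroup π (alternatingGroup (Fin n))) :=
  ⟨⟨c_perm_of_main hmain, fun h => h.1⟩, e_iff_of_main hmain,
    ⟨c_alt_of_main hmain, fun h => h.1⟩⟩

end Cfsg.Agent.Lib.Helper8.HS
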