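import Mathlib
import Cfsg.Agent.Lib.Helper8.HS12
import Cfsg.Agent.Lib.Helper8.HS13
import Cfsg.Agent.Lib.Helper8.HS16

/-! The property `D_π` for alternating groups. -/

namespace Cfsg.Agent.Lib.Helper8.HS

open Equiv Equiv.Perm MulAction
open scoped Pointwise

variable {n : ℕ} {π : Set ℕ}

/-- under `D_π`, a `π`-subgroup `Q` of `Aₙ` fixes a conjugate of anything fixed by the maximal
`π`-subgroup `M` -/
theorem exists_fixed_of_D {Z : Type*} [MulAction (Perm (Fin n)) Z]
    (hD : Cfsg.IsDPiGroup π (alternatingGroup (Fin n)))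
    {M Q : Subgroup (alternatingGroup (Fin n))} (hM : Maximal (Cfsg.IsPiSubgroup π) M)
    (hQ : Cfsg.IsPiSubgroup π Q) (z : Z)
    (hz : M.map (alternatingGroup (Fin n)).subtype ≤ stabilizer (Perm (Fin n)) z) :
    ∃ g : Perm (Fin n), ∀ q ∈ Q, (q : Perm (Fin n)) • (g • z) = g • z := by
  obtain ⟨M', hQM', hM'⟩ := exists_maximal_pi hQ
  obtain ⟨g, hg⟩ := hD M M' hM hM'
  exact ⟨(g : Perm (Fin n)), fixes_of_le_conj g z hz (hg ▸ hQM')⟩

/-- failure of `D_π` for the alternating group in the three exceptional shapes -/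
theorem not_D_of_shape (h5 : 5 ≤ n) (hD : Cfsg.IsDPiGroup π (alternatingGroup (Fin n)))
    {M : Subgroup (alternatingGroup (Fin n))} (hM : Maximal (Cfsg.IsPiSubgroup π) M)
    {K : Subgroup (Perm (Fin n))}
    (hMK : M.map (alternatingGroup (Fin n)).subtype = alternatingGroup (Fin n) ⊓ K)
    (hK : Shape n π K) : False := by
  rcases hK with ⟨hn, hπ, x, rfl⟩ | ⟨hn, hπ, s, hs, rfl⟩ | ⟨hn, hπ, s, hs, rfl⟩
  · -- point stabilizers
    have h01 : (⟨0, by omega⟩ : Fin n) ≠ ⟨1, by omega⟩ := by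
      intro h; simp [Fin.ext_iff] at h
    have hQ := isPiSubgroup_two_set (π := π) h01 (by rw [Fintype.card_fin]; exact h5)
      (fun r hr hlt => by
        rw [Fintype.card_fin] at hlt
        exact (hπ r hr hlt.le).mpr hlt)
    obtain ⟨g, hg⟩ := exists_fixed_of_D hD hM hQ x (hMK.le.trans inf_le_right)
    obtain ⟨σ, hσ, hmove⟩ := exists_moving_of_two_set h01 (by rw [Fintype.card_fin]; exact h5)
      (g • x)
    have hσA : σ ∈ alternatingGroup (Fin n) := (Subgroup.mem_inf.mp hσ).1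
    have := hg ⟨σ, hσA⟩ (Subgroup.mem_subgroupOf.mpr (Subgroup.mem_inf.mp hσ).2)
    exact hmove this
  · -- 3-sets in degree 7
    subst hn
    have h2 : (2 : ℕ) ∈ π := (hπ 2 Nat.prime_two (by norm_num)).mpr (Or.inl rfl)
    have h3 : (3 : ℕ) ∈ π := (hπ 3 Nat.prime_three (by norm_num)).mpr (Or.inr rfl)
    have hQ := qdata7.isPiSubgroup h2 h3
    obtain ⟨g, hg⟩ := exists_fixed_of_D hD hM hQ s (hMK.le.trans inf_le_right)
    have hinv : ∀ q ∈ qdata7.sub, q • (g • s) = g • s := fun q hq =>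
      hg ⟨q, qdata7.sub_le_alt hq⟩ (Subgroup.mem_subgroupOf.mpr hq)
    have hc : (g • s).ncard = 3 := by rw [Set.ncard_smul_set, hs]
    rcases qdata7.ncard_invariant (by norm_num) _ hinv with h | h <;> omega
  · -- bisections in degree 8
    subst hn
    have h2 : (2 : ℕ) ∈ π := (hπ 2 Nat.prime_two (by norm_num)).mpr (Or.inl rfl)
    have h3 : (3 : ℕ) ∈ π := (hπ 3 Nat.prime_three (by norm_num)).mpr (Or.inr rfl)
    have hQ := qdata8.isPiSubgroup h2 h3
    obtain ⟨g, hg⟩ := exists_fixed_of_D hD hM hQ ({s, sᶜ} : Set (Set (Fin 8)))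
      (hMK.le.trans inf_le_right)
    have hpair : ∀ q ∈ qdata8.sub, q • (g • s) = g • s ∨ q • (g • s) = (g • s)ᶜ := by
      intro q hq
      have := hg ⟨q, qdata8.sub_le_alt hq⟩ (Subgroup.mem_subgroupOf.mpr hq)
      rw [smul_pair] at this
      exact mem_stabilizer_pair.mp (mem_stabilizer_iff.mpr this)
    have hinv := qdata8.pair_invariant _ hpair
    have hc : (g • s).ncard = 4 := by rw [Set.ncard_smul_set, hs]
    rcases qdata8.ncard_invariant (by norm_num) _ hinv with h | h <;> omega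

/-- **S2534** from the classification. -/
theorem s2534_of_main (hmain : MainFin n π) (h5 : 5 ≤ n) :
    Cfsg.IsDPiGroup π (alternatingGroup (Fin n)) ↔
      ((∀ r s : ℕ, r.Prime → s.Prime → r ∈ π → s ∈ π →
          r ∣ Nat.card (alternatingGroup (Fin n)) → s ∣ Nat.card (alternatingGroup (Fin n)) →
          r = s) ∨
        ∀ r : ℕ, r.Prime → r ∣ Nat.card (alternatingGroup (Fin n)) → r ∈ π) := by
  constructor
  · intro hD
    by_contra hcon
    push Not at hcon
    obtain ⟨⟨r, s, hr, hs, hrπ, hsπ, hrd, hsd, hne⟩, ⟨t, ht, htd, htπ⟩⟩ := hcon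
    have h1 : ¬ OneP n π := fun h =>
      hne (h r s hr hs hrπ hsπ (prime_le_of_dvd_card_alt hr hrd) (prime_le_of_dvd_card_alt hs hsd))
    have h2 : ¬ AllP n π := fun h => htπ (h t ht (prime_le_of_dvd_card_alt ht htd))
    obtain ⟨M, -, hM⟩ := exists_maximal_pi (π := π)
      (isPiSubgroup_bot (Γ := alternatingGroup (Fin n)))
    have hHall := isPiHall_of_maximal_of_D hD hM
    obtain ⟨K, hMK, hK⟩ := shape_of_main hmain le_rfl
      ((isPiHall_iff_hallOf_map _ M).mp hHall) h1 h2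
    exact not_D_of_shape h5 hD hM hMK hK
  · rintro (h | h)
    · exact isDPi_of_one h
    · exact isDPi_of_all h

end Cfsg.Agent.Lib.Helper8.HS
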