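import Mathlib
import Cfsg.Agent.Lib.Helper5.HallSn.Main
import Cfsg.Agent.Lib.Helper8.HS17

/-! The classification of Hall subgroups of symmetric and alternating groups, for `Fin n`. -/

namespace Cfsg.Agent.Lib.Helper8.HS

open Equiv Equiv.Perm MulAction
open scoped Pointwise

/-- the classification, in the form used by the assembly -/
theorem mainFin (n : ℕ) (π : Set ℕ) : MainFin n π := by
  intro G H hG hH h2 hns
  have h := Cfsg.Agent.Lib.Helper5.HallSn.main π G H hG hH
    (by rw [Fintype.card_fin]; exact h2) (by rw [Fintype.card_fin]; exact hns)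
  rw [Fintype.card_fin] at h
  exact h

end Cfsg.Agent.Lib.Helper8.HS
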