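import Mathlib
import Cfsg.Prelude.Def_Blocks
import Cfsg.Prelude.Def_Local
import Cfsg.Agent.Lib.Helper8.FO4
import Cfsg.Agent.Lib.Helper9.Hyperfocal1
import Cfsg.Agent.Lib.Helper4.Gallagher
import Cfsg.Agent.Lib.Lead.HallTools
import Cfsg.Agent.S0887
import Cfsg.Agent.S0629
import Cfsg.Agent.S0146

/-!
# Heights in `p`-solvable groups: the invariant case

If `θ` is a `G`-invariant irreducible character of `N = O_{p'}(G)`, `G` is `p`-constrained and `χ`
lies over `θ`, then `ν_p(χ(1)) + ν_p(|Z(P)|) ≤ ν_p(|G|)` for a Sylow `p`-subgroup `P`.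
-/

set_option autoImplicit false
set_option linter.unusedSectionVars false
set_option maxHeartbeats 1000000

namespace Cfsg.Agent.Lib.Helper8.HT

open Cfsg
open scoped ComplexConjugate
open Cfsg.Agent.Lib.Helper1 Cfsg.Agent.Lib.Helper4 Cfsg.Agent.Lib.Helper8
  Cfsg.Agent.Lib.Helper2.PConstrained

universe u

section

variable {G : Type u} [Group G] [Finite G] {p : ℕ} [Fact p.Prime]

/-- The centre of `O_p(G / O_{p'}(G))`, as a subgroup of the quotient. -/
noncomputable def zbar (p : ℕ) (G : Type u) [Group G] : Subgroup (G ⧸ pPrimeCore p G) :=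
  (Subgroup.center ↥(pCore p (G ⧸ pPrimeCore p G))).map (pCore p (G ⧸ pPrimeCore p G)).subtype

instance zbar_normal : (zbar p G).Normal := by
  unfold zbar
  infer_instance

/-- The preimage of the centre of `O_p(G / O_{p'}(G))`. -/
noncomputable def zA (p : ℕ) (G : Type u) [Group G] : Subgroup G :=
  (zbar p G).comap (QuotientGroup.mk' (pPrimeCore p G))

instance zA_normal : (zA p G).Normal := by
  unfold zA
  infer_instance

theorem pPrimeCore_le_zA : pPrimeCore p G ≤ zA p G := by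
  intro x hx
  unfold zA
  rw [Subgroup.mem_comap]
  have : (QuotientGroup.mk' (pPrimeCore p G)) x = 1 := (QuotientGroup.eq_one_iff x).mpr hx
  rw [this]
  exact Subgroup.one_mem _

theorem mem_zbar_iff {y : G ⧸ pPrimeCore p G} :
    y ∈ zbar p G ↔ y ∈ pCore p (G ⧸ pPrimeCore p G) ∧
      ∀ w ∈ pCore p (G ⧸ pPrimeCore p G), w * y = y * w := by
  unfold zbar
  constructor
  · rintro ⟨⟨y', hy'⟩, hyc, rfl⟩
    refine ⟨hy', ?_⟩
    intro w hw
    have := Subgroup.mem_center_iff.1 hyc ⟨w, hw⟩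
    exact congrArg Subtype.val this
  · rintro ⟨hy, hc⟩
    refine ⟨⟨y, hy⟩, ?_, rfl⟩
    rw [SetLike.mem_coe, Subgroup.mem_center_iff]
    intro w
    apply Subtype.ext
    exact hc w.1 w.2

/-- `A / O_{p'}(G)` is abelian. -/
theorem comm_mem_of_mem_zA {x y : G} (hx : x ∈ zA p G) (hy : y ∈ zA p G) :
    x * y * x⁻¹ * y⁻¹ ∈ pPrimeCore p G := by
  unfold zA at hx hy
  rw [Subgroup.mem_comap] at hx hy
  obtain ⟨hx1, hx2⟩ := mem_zbar_iff.1 hx
  obtain ⟨hy1, hy2⟩ := mem_zbar_iff.1 hy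
  rw [← QuotientGroup.eq_one_iff]
  have h := hy2 _ hx1
  have e : ((x * y * x⁻¹ * y⁻¹ : G) : G ⧸ pPrimeCore p G)
      = (QuotientGroup.mk' (pPrimeCore p G)) x * (QuotientGroup.mk' (pPrimeCore p G)) y
        * ((QuotientGroup.mk' (pPrimeCore p G)) x)⁻¹ * ((QuotientGroup.mk' (pPrimeCore p G)) y)⁻¹ := rfl
  rw [e, h]
  group

theorem card_zA : Nat.card (zA p G) = Nat.card (zbar p G) * Nat.card (pPrimeCore p G) := by
  unfold zA
  exact Cfsg.Agent.Lib.Lead.card_comap_mk _ _

theorem zbar_isPGroup : IsPGroup p (zbar p G) := by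
  have hle : zbar p G ≤ pCore p (G ⧸ pPrimeCore p G) := by
    intro y hy
    exact (mem_zbar_iff.1 hy).1
  exact (Cfsg.Agent.Lib.Helper6.pCore_isPGroup p).to_le hle

/-- In a `p`-constrained group the centre of a Sylow `p`-subgroup lies in `A`. -/
theorem center_sylow_le_zA (hc : IsPConstrained p G) (P : Sylow p G) {z : G}
    (hz : z ∈ (P : Subgroup G)) (hzc : ∀ y ∈ (P : Subgroup G), y * z = z * y) : z ∈ zA p G := by
  obtain ⟨T, hT⟩ := Cfsg.Agent.Lib.Helper9.exists_sylow_map_eq_inf P (pPrimePCore p G)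
  have hcen : z ∈ Subgroup.centralizer
      (((T : Subgroup ↥(pPrimePCore p G)).map (pPrimePCore p G).subtype : Subgroup G) : Set G) := by
    rw [Subgroup.mem_centralizer_iff]
    intro y hy
    rw [SetLike.mem_coe, hT] at hy
    exact hzc y hy.1
  have hzK : z ∈ pPrimePCore p G := hc T hcen
  unfold zA
  rw [Subgroup.mem_comap, mem_zbar_iff]
  refine ⟨hzK, ?_⟩
  intro w hw
  rw [← Cfsg.Agent.S0629.map_sylow_pPrimePCore T, hT] at hw
  obtain ⟨q, hq, rfl⟩ := hw
  have := hzc q hq.1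
  rw [← map_mul, ← map_mul, this]

end

end Cfsg.Agent.Lib.Helper8.HT
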