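import Mathlib
import Cfsg.Agent.Lib.Helper8.HT1
import Cfsg.Agent.Lib.Helper8.Deflation

/-!
# Heights in `p`-solvable groups: the degree bound in the invariant case
-/

set_option autoImplicit false
set_option linter.unusedSectionVars false
set_option maxHeartbeats 1000000

namespace Cfsg.Agent.Lib.Helper8.HT

open Cfsg
open scoped ComplexConjugate
open Cfsg.Agent.Lib.Helper1 Cfsg.Agent.Lib.Helper4 Cfsg.Agent.Lib.Helper8
  Cfsg.Agent.Lib.Helper2.PConstrained

universe u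

section

variable {G : Type u} [Group G] [Fintype G] {p : ℕ} [Fact p.Prime]

/-- Every irreducible character of `A` over the invariant character `θ` of `O_{p'}(G)` has degree
prime to `p`. -/
theorem not_dvd_degree_over (N : Subgroup G) [hN : N.Normal] [Fintype N]
    (hNdef : N = pPrimeCore p G) (θ : IrrCharacter N)
    (hinv : ∀ (g : G) (n : N), (θ : N → ℂ) ⟨g * n * g⁻¹, hN.conj_mem n n.2 g⟩ = (θ : N → ℂ) n)
    (A : Subgroup G) [Fintype A] (hA : A = zA p G) (hNA : N ≤ A) (φ : IrrCharacter A)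
    (hφ : classInner (fun n : N => (φ : A → ℂ) ⟨n, hNA n.2⟩) (θ : N → ℂ) ≠ 0) :
    ¬ p ∣ charDegree (φ : A → ℂ) := by
  classical
  have hp : p.Prime := Fact.out
  set N' : Subgroup A := N.subgroupOf A with hN'
  haveI hN'n : N'.Normal := Subgroup.normal_subgroupOf
  haveI : Fintype N' := Fintype.ofFinite _
  let e : N' ≃* N := Subgroup.subgroupOfEquivOfLe hNA
  have hcardN' : Nat.card N' = Nat.card N := Nat.card_congr e.toEquiv
  have hpN : ¬ p ∣ Nat.card N := by
    have := Cfsg.Agent.Lib.Helper6.pPrimeCore_coprime (G := G) p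
    rw [← hNdef] at this
    exact (Nat.Prime.coprime_iff_not_dvd hp).1 this.symm
  have hpN' : ¬ p ∣ Nat.card N' := by rw [hcardN']; exact hpN
  set θ' : IrrCharacter N' := ⟨fun x => (θ : N → ℂ) (e x), isIrrCharacter_comp_mulEquiv θ.2 e⟩
    with hθ'
  have hinv' : ∀ (g : A) (n : N'),
      (θ' : N' → ℂ) ⟨g * n * g⁻¹, hN'n.conj_mem (n : A) n.2 g⟩ = (θ' : N' → ℂ) n := by
    intro g n
    have h1 := hinv (g : G) (e n)
    show (θ : N → ℂ) (e ⟨g * n * g⁻¹, hN'n.conj_mem (n : A) n.2 g⟩) = (θ : N → ℂ) (e n)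
    rw [← h1]
    exact congrArg _ (Subtype.ext rfl)
  have htr : ∀ ψ : IrrCharacter A,
      classInner (fun n : N => (ψ : A → ℂ) ⟨n, hNA n.2⟩) (θ : N → ℂ) ≠ 0 →
      classInner (fun n : N' => (ψ : A → ℂ) n) (θ' : N' → ℂ) ≠ 0 := by
    intro ψ h
    have h1 := classInner_mulEquiv e (fun n : N => (ψ : A → ℂ) ⟨n, hNA n.2⟩) (θ : N → ℂ)
    rw [← h1] at h
    exact h
  have hab : ∀ x y : A, x * y * x⁻¹ * y⁻¹ ∈ N' := by
    intro x y
    rw [hN', Subgroup.mem_subgroupOf]
    have hx : (x : G) ∈ zA p G := hA ▸ x.2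
    have hy : (y : G) ∈ zA p G := hA ▸ y.2
    have := comm_mem_of_mem_zA hx hy
    rw [hNdef]
    exact this
  obtain ⟨k, hk0, hk⟩ := gallagher_abelian N' hab (θ' : N' → ℂ) θ'.2 hinv'
  obtain ⟨ψ₁, hψ₁, hψ₁p⟩ := exists_over_pPrime_degree N' hpN' θ' hinv'
  have hfr : ∀ ψ : IrrCharacter A, classInner (fun n : N' => (ψ : A → ℂ) n) (θ' : N' → ℂ) ≠ 0 →
      classInner (indFun N' (θ' : N' → ℂ)) (ψ : A → ℂ) ≠ 0 := by
    intro ψ h
    rw [Cfsg.Agent.S0146.result N' (θ' : N' → ℂ) (ψ : A → ℂ)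
      (isClassFunction_of_isCharacter (isCharacter_of_irr ψ.2)), ← classInner_conj_symm]
    intro h0
    apply h
    have := congrArg conj h0
    rwa [Complex.conj_conj, map_zero] at this
  have h1 := (hk (ψ₁ : A → ℂ) ψ₁.2 (hfr ψ₁ hψ₁)).2 1
  have h2 := (hk (φ : A → ℂ) φ.2 (hfr φ (htr φ hφ))).2 1
  have h3 : (φ : A → ℂ) 1 = (ψ₁ : A → ℂ) 1 := by
    have e1 : ((1 : N') : A) = 1 := rfl
    rw [e1] at h1 h2
    rw [h1, h2]
  have h4 : charDegree (φ : A → ℂ) = charDegree (ψ₁ : A → ℂ) := by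
    unfold charDegree
    rw [h3]
  rw [h4]
  exact hψ₁p

/-- The degree bound. -/
theorem degree_val_le (N : Subgroup G) [hN : N.Normal] [Fintype N]
    (hNdef : N = pPrimeCore p G) (θ : IrrCharacter N)
    (hinv : ∀ (g : G) (n : N), (θ : N → ℂ) ⟨g * n * g⁻¹, hN.conj_mem n n.2 g⟩ = (θ : N → ℂ) n)
    (χ : IrrCharacter G) (hχ : classInner (fun n : N => (χ : G → ℂ) n) (θ : N → ℂ) ≠ 0) :
    (charDegree (χ : G → ℂ)).factorization p + (Nat.card (zbar p G)).factorization p
      ≤ (Nat.card G).factorization p := by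
  classical
  have hp : p.Prime := Fact.out
  obtain ⟨A, hA⟩ : ∃ A : Subgroup G, A = zA p G := ⟨_, rfl⟩
  haveI : A.Normal := hA ▸ zA_normal
  haveI : Fintype A := Fintype.ofFinite _
  have hNA : N ≤ A := by
    rw [hA, hNdef]
    exact pPrimeCore_le_zA
  obtain ⟨φ, h1, h2⟩ := exists_middle N A hNA χ hχ
  have hφp := not_dvd_degree_over N hNdef θ hinv A hA hNA φ h2
  obtain ⟨hc1, hc0⟩ := irr_apply_one_eq_charDegree χ.2
  obtain ⟨hd1, hd0⟩ := irr_apply_one_eq_charDegree φ.2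
  obtain ⟨hdvd, hquot⟩ := Cfsg.Agent.S0887.result A (χ : G → ℂ) χ.2 (φ : A → ℂ) φ.2 h1
    (charDegree (χ : G → ℂ)) (charDegree (φ : A → ℂ)) hc1 hd1
  obtain ⟨m, hm⟩ := hdvd
  have hm0 : m ≠ 0 := by
    rintro rfl
    rw [mul_zero] at hm
    omega
  have hmq : charDegree (χ : G → ℂ) / charDegree (φ : A → ℂ) = m := by
    rw [hm, Nat.mul_div_cancel_left _ hd0]
  rw [hmq] at hquot
  have hidx0 : A.index ≠ 0 := Subgroup.index_ne_zero_of_finite
  have hv1 : (charDegree (χ : G → ℂ)).factorization p = m.factorization p := by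
    rw [hm, Nat.factorization_mul hd0.ne' hm0, Finsupp.add_apply,
      Nat.factorization_eq_zero_of_not_dvd hφp, zero_add]
  have hv2 : m.factorization p ≤ A.index.factorization p :=
    (Nat.factorization_le_iff_dvd hm0 hidx0).2 hquot p
  have hv3 : (Nat.card G).factorization p = (Nat.card A).factorization p + A.index.factorization p := by
    rw [← Subgroup.card_mul_index A, Nat.factorization_mul Nat.card_pos.ne' hidx0, Finsupp.add_apply]
  have hv4 : (Nat.card A).factorization p = (Nat.card (zbar p G)).factorization p := by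
    rw [hA, card_zA, Nat.factorization_mul Nat.card_pos.ne' Nat.card_pos.ne', Finsupp.add_apply]
    have := Cfsg.Agent.Lib.Helper6.pPrimeCore_coprime (G := G) p
    rw [Nat.factorization_eq_zero_of_not_dvd ((Nat.Prime.coprime_iff_not_dvd hp).1 this.symm),
      add_zero]
  omega

end

end Cfsg.Agent.Lib.Helper8.HT
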