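import Mathlib
import Cfsg.Agent.Lib.Helper8.HT2
import Cfsg.Agent.Lib.Helper8.BlockFirstMain3

/-!
# Heights in `p`-solvable groups: the invariant case
-/

set_option autoImplicit false
set_option linter.unusedSectionVars false
set_option maxHeartbeats 1000000

namespace Cfsg.Agent.Lib.Helper8.HT

open Cfsg
open scoped ComplexConjugate
open Cfsg.Agent.Lib.Helper1 Cfsg.Agent.Lib.Helper4 Cfsg.Agent.Lib.Helper8
  Cfsg.Agent.Lib.Helper2.PConstrained

universe u

section

variable {G : Type u} [Group G] [Fintype G] {p : ℕ} [Fact p.Prime] {M : Ideal AlgInt}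

theorem factorization_card_zA :
    (Nat.card (zA p G)).factorization p = (Nat.card (zbar p G)).factorization p := by
  have hp : p.Prime := Fact.out
  rw [card_zA, Nat.factorization_mul Nat.card_pos.ne' Nat.card_pos.ne', Finsupp.add_apply]
  have := Cfsg.Agent.Lib.Helper6.pPrimeCore_coprime (G := G) p
  rw [Nat.factorization_eq_zero_of_not_dvd ((Nat.Prime.coprime_iff_not_dvd hp).1 this.symm),
    add_zero]

/-- The centre of a Sylow `p`-subgroup of a `p`-constrained group is no larger than the centre of
`O_p(G / O_{p'}(G))`. -/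
theorem factorization_center_le (hc : IsPConstrained p G) (S : Sylow p G) :
    (Nat.card (Subgroup.center ↥(S : Subgroup G))).factorization p
      ≤ (Nat.card (zbar p G)).factorization p := by
  have hp : p.Prime := Fact.out
  have hle : (Subgroup.center ↥(S : Subgroup G)).map (S : Subgroup G).subtype ≤ zA p G := by
    rintro _ ⟨z, hz, rfl⟩
    apply center_sylow_le_zA hc S z.2
    intro y hy
    have := Subgroup.mem_center_iff.1 hz ⟨y, hy⟩
    exact congrArg Subtype.val this
  have hcard : Nat.card ((Subgroup.center ↥(S : Subgroup G)).map (S : Subgroup G).subtype)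
      = Nat.card (Subgroup.center ↥(S : Subgroup G)) :=
    Subgroup.card_map_of_injective (Subgroup.subtype_injective _)
  have hdvd := Subgroup.card_dvd_of_le hle
  rw [hcard] at hdvd
  rw [← factorization_card_zA]
  exact (Nat.factorization_le_iff_dvd Nat.card_pos.ne' Nat.card_pos.ne').2 hdvd p

theorem height_le_of_invariant (hM : IsPModular p M) (hG : IsPSolvable p G)
    (N : Subgroup G) [hN : N.Normal] [Fintype N] (hNdef : N = pPrimeCore p G) (θ : IrrCharacter N)
    (hinv : ∀ (g : G) (n : N), (θ : N → ℂ) ⟨g * n * g⁻¹, hN.conj_mem n n.2 g⟩ = (θ : N → ℂ) n)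
    {B : Set (IrrCharacter G)} (hB : IsPBlock M B) {P : Subgroup G} (hP : IsDefectGroup p M B P)
    (χ : IrrCharacter G) (hχB : χ ∈ B)
    (hχ : classInner (fun n : N => (χ : G → ℂ) n) (θ : N → ℂ) ≠ 0) :
    blockHeight p B (χ : G → ℂ) ≤ ((Subgroup.center P).index).factorization p := by
  classical
  have hp : p.Prime := Fact.out
  have hMp := isPModular_isPrime hM
  have hc := isPConstrained_of_isPSolvable hG
  have hpN : ¬ p ∣ Nat.card N := by
    have := Cfsg.Agent.Lib.Helper6.pPrimeCore_coprime (G := G) p
    rw [← hNdef] at this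
    exact (Nat.Prime.coprime_iff_not_dvd hp).1 this.symm
  obtain ⟨χ', hχ', hχ'p⟩ := exists_over_pPrime_degree N hpN θ hinv
  have hsame := fong_sameBlock hM hc N hNdef θ hinv χ χ' hχ hχ'
  have hχ'B : χ' ∈ B := by
    rw [eq_blockOf_of_mem hMp hB hχB]
    exact hsame
  have hfull := blockDefect_of_pPrime_degree hχ'B hχ'p
  obtain ⟨S, hS⟩ := exists_sylow_of_full_defect hM hB hfull hP
  subst hS
  have h1 := degree_val_le N hNdef θ hinv χ hχ
  have h2 := factorization_center_le hc S
  have h3 : Nat.card (S : Subgroup G) = p ^ (Nat.card G).factorization p :=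
    Sylow.card_eq_multiplicity S
  have h4 := Subgroup.card_mul_index (Subgroup.center ↥(S : Subgroup G))
  have hidx0 : (Subgroup.center ↥(S : Subgroup G)).index ≠ 0 := Subgroup.index_ne_zero_of_finite
  have h5 : (Nat.card (Subgroup.center ↥(S : Subgroup G))).factorization p
      + ((Subgroup.center ↥(S : Subgroup G)).index).factorization p
      = (Nat.card G).factorization p := by
    rw [← Finsupp.add_apply, ← Nat.factorization_mul Nat.card_pos.ne' hidx0, h4, h3,
      Nat.Prime.factorization_pow hp]
    simp
  have h6 : blockHeight p B (χ : G → ℂ) ≤ (charDegree (χ : G → ℂ)).factorization p := by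
    unfold blockHeight
    exact Nat.sub_le _ _
  omega

end

end Cfsg.Agent.Lib.Helper8.HT
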