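import Mathlib
import Cfsg.Agent.Lib.Helper8.HT3
import Cfsg.Agent.Lib.Helper8.FR8
import Cfsg.Agent.Lib.Helper8.Cover1
import Cfsg.Agent.Lib.Helper8.Cover4
import Cfsg.Agent.Lib.Helper8.PairConj3
import Cfsg.Agent.Lib.Helper2.SL2PSolv
import Cfsg.Agent.S0148

/-!
# Heights in `p`-solvable groups: `ht(χ) ≤ ν_p(|P : Z(P)|)`
-/

set_option autoImplicit false
set_option linter.unusedSectionVars false
set_option maxHeartbeats 1000000

namespace Cfsg.Agent.Lib.Helper8.HT

open Cfsg
open scoped ComplexConjugate
open Cfsg.Agent.Lib.Helper1 Cfsg.Agent.Lib.Helper4 Cfsg.Agent.Lib.Helper8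

universe u

/-- The index of the centre is an isomorphism invariant. -/
theorem index_center_congr {H H' : Type*} [Group H] [Group H'] [Finite H] (e : H ≃* H') :
    (Subgroup.center H).index = (Subgroup.center H').index := by
  haveI : Finite H' := Finite.of_equiv H e.toEquiv
  have h1 := Subgroup.card_mul_index (Subgroup.center H)
  have h2 := Subgroup.card_mul_index (Subgroup.center H')
  have h3 : Nat.card H = Nat.card H' := Nat.card_congr e.toEquiv
  have h4 : Nat.card (Subgroup.center H) = Nat.card (Subgroup.center H') :=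
    Nat.card_congr (Subgroup.centerCongr e).toEquiv
  rw [h3, h4] at h1
  have h5 : 0 < Nat.card (Subgroup.center H') := Nat.card_pos
  exact Nat.eq_of_mul_eq_mul_left h5 (h1.trans h2.symm)

variable {p : ℕ} [Fact p.Prime] {M : Ideal AlgInt}

theorem height_le_aux (hM : IsPModular p M) : ∀ n : ℕ, ∀ (G : Type u) [Group G] [Fintype G],
    Nat.card G = n → IsPSolvable p G → ∀ B : Set (IrrCharacter G), IsPBlock M B →
    ∀ P : Subgroup G, IsDefectGroup p M B P → ∀ χ : IrrCharacter G, χ ∈ B →
    blockHeight p B (χ : G → ℂ) ≤ ((Subgroup.center P).index).factorization p := by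
  intro n
  induction n using Nat.strong_induction_on with
  | _ n ih =>
    intro G _ _ hn hG B hB P hP χ hχB
    classical
    have hp : p.Prime := Fact.out
    have hMp := isPModular_isPrime hM
    obtain ⟨N, hNdef⟩ : ∃ N : Subgroup G, N = pPrimeCore p G := ⟨_, rfl⟩
    haveI hN : N.Normal := hNdef ▸ pPrimeCore_normal p G
    haveI : Fintype N := Fintype.ofFinite _
    have hpN : ¬ p ∣ Nat.card N := by
      have := Cfsg.Agent.Lib.Helper6.pPrimeCore_coprime (G := G) p
      rw [← hNdef] at this
      exact (Nat.Prime.coprime_iff_not_dvd hp).1 this.symm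
    -- a constituent of the restriction to `N`
    have hres : IsCharacter N (fun n : N => (χ : G → ℂ) n) :=
      Cfsg.Agent.S0148.isCharacter_restrict N (isCharacter_of_irr χ.2)
    obtain ⟨θ, hθ⟩ := exists_irr_constituent hres (by
      show (χ : G → ℂ) ((1 : N) : G) ≠ 0
      exact irr_apply_one_ne_zero χ.2)
    set b : Set (IrrCharacter N) := {θ} with hbdef
    have hb : IsPBlock M b := ⟨θ, (blockOf_eq_singleton_of_pPrime hM hpN θ).symm⟩
    set T : Subgroup G := pairStab (⊤ : Subgroup G) N b with hTdef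
    haveI : Fintype T := Fintype.ofFinite _
    have hT : ∀ g : G, g ∈ T ↔ StabilizesBlock N b g := fun g => by
      rw [hTdef, mem_pairStab]
      exact ⟨fun h => h.2, fun h => ⟨Subgroup.mem_top g, h⟩⟩
    have hNT : N ≤ T := fun n hn => (hT n).2 (stabilizesBlock_of_mem N b hn)
    by_cases htop : T = ⊤
    · -- `θ` is invariant
      have hinv : ∀ (g : G) (n : N),
          (θ : N → ℂ) ⟨g * n * g⁻¹, hN.conj_mem n n.2 g⟩ = (θ : N → ℂ) n := by
        intro g n
        have hg : g ∈ T := by rw [htop]; exact Subgroup.mem_top g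
        obtain ⟨-, hst⟩ := (hT g).1 hg
        obtain ⟨θ', hθ', hconj⟩ := hst θ rfl
        rw [hbdef, Set.mem_singleton_iff] at hθ'
        subst hθ'
        exact hconj n ⟨g * n * g⁻¹, hN.conj_mem n n.2 g⟩ rfl
      exact height_le_of_invariant hM hG N hNdef θ hinv hB hP χ hχB hθ
    · -- reduction to the stabilizer
      have hlt : Nat.card T < n := by
        rw [← hn]
        have hne : T ≠ ⊤ := htop
        have h1 : T.index ≠ 1 := fun h => hne (Subgroup.index_eq_one.1 h)
        have h2 := Subgroup.card_mul_index T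
        have h3 : 0 < T.index := Nat.pos_of_ne_zero Subgroup.index_ne_zero_of_finite
        have h4 : 0 < Nat.card T := Nat.card_pos
        have h5 : 2 ≤ T.index := by omega
        calc Nat.card T < Nat.card T * 2 := by omega
          _ ≤ Nat.card T * T.index := Nat.mul_le_mul_left _ h5
          _ = Nat.card G := h2
      obtain ⟨ψ, hψθ, hχψ, hind⟩ :=
        exists_isInducedBlock_of_covers N T hNT hM hb hT hB hχB (rfl : θ ∈ b) hθ
      set B' : Set (IrrCharacter T) := blockOf M (ψ : T → ℂ) with hB'def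
      have hB' : IsPBlock M B' := ⟨ψ, rfl⟩
      have hψB' : ψ ∈ B' := sameBlock_refl hMp.ne_top _
      have hcov : ∃ ψ' ∈ B', ∃ θ' ∈ b,
          classInner (fun n : N => (ψ' : T → ℂ) ⟨(n : G), hNT n.2⟩) (θ' : N → ℂ) ≠ 0 :=
        ⟨ψ, hψB', θ, rfl, hψθ⟩
      obtain ⟨hdef, hht⟩ := fongReynolds_defect_height N T hNT hM hb hT hB' hcov hind
      obtain ⟨D, hD⟩ := exists_isDefectGroup (p := p) hMp hB'
      have hDG := hdef D hD
      obtain ⟨χ₁, hχ₁B, hχ₁, hheight⟩ := hht ψ hψB'
      have hTsolv : IsPSolvable p T := Cfsg.Agent.Lib.Helper2.SL2Sections.isPSolvable_subgroup hG T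
      have hIH := ih (Nat.card T) hlt T rfl hTsolv B' hB' D hD ψ hψB'
      have e1 : blockHeight p B (χ : G → ℂ) = blockHeight p B' (ψ : T → ℂ) := by
        rw [hχψ, ← hχ₁]
        exact hheight
      rw [e1]
      refine hIH.trans (le_of_eq ?_)
      -- the defect groups are conjugate
      obtain ⟨x, hx⟩ := exists_conj_eq_of_isDefectGroup hM hB hP hDG
      -- `D ≃ D.map ≃ P`
      have eD : D ≃* (D.map T.subtype) := Subgroup.equivMapOfInjective D T.subtype T.subtype_injective
      have eP : (D.map T.subtype) ≃* ((D.map T.subtype).map (MulAut.conj x).toMonoidHom) :=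
        Subgroup.equivMapOfInjective _ _ (MulAut.conj x).injective
      have eQ : ((D.map T.subtype).map (MulAut.conj x).toMonoidHom) ≃* P :=
        MulEquiv.subgroupCongr hx
      rw [index_center_congr (eD.trans (eP.trans eQ))]

end Cfsg.Agent.Lib.Helper8.HT
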