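import Mathlib

set_option autoImplicit false

/-! The wreath product `C_p ≀ C_p` as a concrete group in `Type`, with the data that
characterises it. -/

namespace Cfsg.Agent.Lib.Helper8.HW

/-- the base group: functions `ZMod p → ZMod p`, written multiplicatively -/
abbrev Base (p : ℕ) : Type := Multiplicative (ZMod p → ZMod p)

/-- shifting a function by `a` -/
def shiftEquiv (p : ℕ) (a : ZMod p) : Base p ≃* Base p where
  toFun f := Multiplicative.ofAdd (fun j => (Multiplicative.toAdd f) (j + a))
  invFun f := Multiplicative.ofAdd (fun j => (Multiplicative.toAdd f) (j - a))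
  left_inv f := by
    apply Multiplicative.toAdd.injective
    funext j
    simp
  right_inv f := by
    apply Multiplicative.toAdd.injective
    funext j
    simp
  map_mul' f g := by
    apply Multiplicative.toAdd.injective
    funext j
    simp

theorem shiftEquiv_apply (p : ℕ) (a : ZMod p) (f : Base p) (j : ZMod p) :
    Multiplicative.toAdd (shiftEquiv p a f) j = Multiplicative.toAdd f (j + a) := rfl

/-- the shift action of `ZMod p` on the base group -/
def shiftHom (p : ℕ) : Multiplicative (ZMod p) →* MulAut (Base p) where
  toFun a := shiftEquiv p (Multiplicative.toAdd a)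
  map_one' := by
    apply MulEquiv.ext
    intro f
    apply Multiplicative.toAdd.injective
    funext j
    rw [shiftEquiv_apply]
    simp
  map_mul' a b := by
    apply MulEquiv.ext
    intro f
    apply Multiplicative.toAdd.injective
    funext j
    rw [MulAut.mul_apply, shiftEquiv_apply, shiftEquiv_apply, shiftEquiv_apply, toAdd_mul,
      add_assoc]

theorem shiftHom_apply (p : ℕ) (a : Multiplicative (ZMod p)) (f : Base p) (j : ZMod p) :
    Multiplicative.toAdd (shiftHom p a f) j = Multiplicative.toAdd f (j + Multiplicative.toAdd a) :=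
  rfl

/-- the wreath product `C_p ≀ C_p` -/
abbrev Wr (p : ℕ) : Type := Base p ⋊[shiftHom p] Multiplicative (ZMod p)


section data

variable (p : ℕ) [hp : Fact p.Prime]

open SemidirectProduct

/-- the data characterising `C_p ≀ C_p` holds for the concrete model -/
theorem wr_data : ∃ (B : Subgroup (Wr p)) (t : Wr p), B.Normal ∧ IsMulCommutative B ∧
    (∀ b ∈ B, b ^ p = 1) ∧ Nat.card B = p ^ p ∧ orderOf t = p ∧ t ∉ B ∧
    Nat.card (Wr p) = p ^ (p + 1) ∧
    Nat.card ↥(B ⊓ Subgroup.centralizer ({t} : Set (Wr p))) = p := by
  classical
  haveI : NeZero p := ⟨hp.out.ne_zero⟩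
  have hcardB : Nat.card (Base p) = p ^ p := by
    show Nat.card (Multiplicative (ZMod p → ZMod p)) = p ^ p
    rw [Nat.card_congr Multiplicative.toAdd, Nat.card_fun, Nat.card_zmod]
  have hcardZ : Nat.card (Multiplicative (ZMod p)) = p := by
    rw [Nat.card_congr Multiplicative.toAdd, Nat.card_zmod]
  obtain ⟨t, htdef⟩ : ∃ t : Wr p, t = inr (Multiplicative.ofAdd (1 : ZMod p)) := ⟨_, rfl⟩
  refine ⟨(inl : Base p →* Wr p).range, t, ?_, ?_, ?_, ?_, ?_, ?_, ?_, ?_⟩
  · rw [range_inl_eq_ker_rightHom]
    infer_instance
  · refine ⟨⟨?_⟩⟩
    rintro ⟨_, ⟨f, rfl⟩⟩ ⟨_, ⟨g, rfl⟩⟩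
    apply Subtype.ext
    show inl f * inl g = inl g * inl f
    rw [← map_mul, ← map_mul, mul_comm]
  · rintro _ ⟨f, rfl⟩
    rw [← map_pow]
    have : f ^ p = 1 := by
      apply Multiplicative.toAdd.injective
      rw [toAdd_pow, toAdd_one]
      funext j
      simp
    rw [this, map_one]
  · rw [Nat.card_congr (MonoidHom.ofInjective (inl_injective (φ := shiftHom p))).toEquiv.symm, hcardB]
  · rw [htdef, orderOf_injective (inr : Multiplicative (ZMod p) →* Wr p) inr_injective,
      orderOf_ofAdd_eq_addOrderOf, ZMod.addOrderOf_one]
  · rw [htdef, range_inl_eq_ker_rightHom, MonoidHom.mem_ker, rightHom_inr]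
    intro h
    have h1 : (1 : ZMod p) = 0 := by
      have := congrArg Multiplicative.toAdd h
      simpa using this
    haveI : Fact (1 < p) := ⟨hp.out.one_lt⟩
    exact one_ne_zero h1
  · rw [SemidirectProduct.card, hcardB, hcardZ, pow_succ]
  · -- the centralizer of `t` in the base group: the constant functions
    obtain ⟨c, hcdef⟩ : ∃ c : Multiplicative (ZMod p) →* Wr p,
        ∀ a, c a = inl (Multiplicative.ofAdd (fun _ : ZMod p => Multiplicative.toAdd a)) := by
      refine ⟨(inl : Base p →* Wr p).comp
        { toFun := fun a => Multiplicative.ofAdd (fun _ : ZMod p => Multiplicative.toAdd a)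
          map_one' := rfl
          map_mul' := fun a b => rfl }, fun a => rfl⟩
    have hcinj : Function.Injective c := by
      intro a b hab
      rw [hcdef, hcdef] at hab
      have h1 := inl_injective hab
      have h2 := congrFun (congrArg Multiplicative.toAdd h1) 0
      exact Multiplicative.toAdd.injective h2
    have hrange : c.range = (inl : Base p →* Wr p).range ⊓
        Subgroup.centralizer ({t} : Set (Wr p)) := by
      ext z
      rw [Subgroup.mem_inf, Subgroup.mem_centralizer_singleton_iff]
      constructor
      · rintro ⟨a, rfl⟩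
        rw [hcdef]
        refine ⟨⟨_, rfl⟩, ?_⟩
        have h1 := inl_aut (φ := shiftHom p) (Multiplicative.ofAdd (1 : ZMod p))
          (Multiplicative.ofAdd (fun _ : ZMod p => Multiplicative.toAdd a))
        have h2 : shiftHom p (Multiplicative.ofAdd (1 : ZMod p))
            (Multiplicative.ofAdd (fun _ : ZMod p => Multiplicative.toAdd a)) =
            Multiplicative.ofAdd (fun _ : ZMod p => Multiplicative.toAdd a) := rfl
        rw [h2, map_inv, ← htdef] at h1
        calc inl (Multiplicative.ofAdd fun _ => Multiplicative.toAdd a) * t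
            = (t * inl (Multiplicative.ofAdd fun _ => Multiplicative.toAdd a) * t⁻¹) * t := by
              rw [← h1]
          _ = t * inl (Multiplicative.ofAdd fun _ => Multiplicative.toAdd a) := by group
      · rintro ⟨⟨f, rfl⟩, hcomm⟩
        have h1 := inl_aut (φ := shiftHom p) (Multiplicative.ofAdd (1 : ZMod p)) f
        rw [map_inv, ← htdef] at h1
        have h2 : t * inl f * t⁻¹ = inl f := by
          rw [← hcomm]; group
        rw [h2] at h1
        have h3 := inl_injective h1
        have h4 : ∀ j : ZMod p, Multiplicative.toAdd f (j + 1) = Multiplicative.toAdd f j := by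
          intro j
          have := congrFun (congrArg Multiplicative.toAdd h3) j
          rw [shiftHom_apply] at this
          exact this
        have h5 : ∀ n : ℕ, Multiplicative.toAdd f (n : ZMod p) = Multiplicative.toAdd f 0 := by
          intro n
          induction n with
          | zero => simp
          | succ n ih => rw [Nat.cast_succ, h4, ih]
        refine ⟨Multiplicative.ofAdd (Multiplicative.toAdd f 0), ?_⟩
        rw [hcdef]
        congr 1
        apply Multiplicative.toAdd.injective
        funext j
        have := h5 j.val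
        rw [ZMod.natCast_zmod_val] at this
        rw [this]
        rfl
    rw [← hrange, Nat.card_congr (MonoidHom.ofInjective hcinj).toEquiv.symm, hcardZ]

end data

end Cfsg.Agent.Lib.Helper8.HW
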