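import Mathlib
import Cfsg.Agent.Lib.Helper8.HW1
import Cfsg.Agent.Lib.Helper9.Sections

set_option autoImplicit false

/-! Producing `C_p ≀ C_p` as a section: from an equivariant surjection of an abelian normal
subgroup `U` onto the base group and an element `t` of order `p` modulo `U`. -/

namespace Cfsg.Agent.Lib.Helper8.HW

open Cfsg Cfsg.Agent.Lib.Helper9

universe u

/-- a section from two homomorphisms out of a common group -/
theorem section_of_lifts {X S W : Type*} [Group X] [Group S] [Group W] (g₁ : X →* S) (g₂ : X →* W)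
    (hs : Function.Surjective g₂) (hk : g₁.ker ≤ g₂.ker) : IsSectionOf W S := by
  have hsr : Function.Surjective g₁.rangeRestrict := g₁.rangeRestrict_surjective
  have hk' : g₁.rangeRestrict.ker ≤ g₂.ker := by rw [MonoidHom.ker_rangeRestrict]; exact hk
  refine ⟨g₁.range, g₁.rangeRestrict.liftOfRightInverse (Function.surjInv hsr)
    (Function.rightInverse_surjInv hsr) ⟨g₂, hk'⟩, ?_⟩
  intro w
  obtain ⟨z, rfl⟩ := hs w
  refine ⟨g₁.rangeRestrict z, ?_⟩
  exact MonoidHom.liftOfRightInverse_comp_apply _ _ _ ⟨g₂, hk'⟩ z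

/-- semiconjugacy passes to integer powers -/
theorem semiconj_zpow {A B : Type*} [Group A] [Group B] (f : A →* B) (c : MulAut A) (s : MulAut B)
    (h : ∀ a, f (c a) = s (f a)) : ∀ (i : ℤ) (a : A), f ((c ^ i) a) = (s ^ i) (f a) := by
  have hinv : ∀ a, f (c⁻¹ a) = s⁻¹ (f a) := by
    intro a
    have h1 := h (c⁻¹ a)
    rw [MulAut.apply_inv_self] at h1
    rw [h1, MulAut.inv_apply_self]
  intro i
  induction i using Int.induction_on with
  | zero => intro a; simp
  | succ n ih =>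
    intro a
    rw [zpow_add_one, zpow_add_one, MulAut.mul_apply, MulAut.mul_apply, ih, h]
  | pred n ih =>
    intro a
    rw [zpow_sub_one, zpow_sub_one, MulAut.mul_apply, MulAut.mul_apply, ih, hinv]

variable {G : Type u} [Group G]

/-- powers of `t` lying in `U` -/
theorem dvd_of_zpow_mem (U : Subgroup G) [U.Normal] {p : ℕ} (hp : p.Prime) (t : G) (htp : t ^ p ∈ U)
    (htU : t ∉ U) (i : ℤ) (hi : t ^ i ∈ U) : (p : ℤ) ∣ i := by
  have h1 : (QuotientGroup.mk' U t) ^ p = 1 := by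
    rw [← map_pow]; exact (QuotientGroup.eq_one_iff _).mpr htp
  have h2 : QuotientGroup.mk' U t ≠ 1 := fun h => htU ((QuotientGroup.eq_one_iff _).mp h)
  have h3 : orderOf (QuotientGroup.mk' U t) = p := by
    haveI : Fact p.Prime := ⟨hp⟩
    exact orderOf_eq_prime h1 h2
  rw [← h3]
  apply orderOf_dvd_iff_zpow_eq_one.mpr
  rw [← map_zpow]
  exact (QuotientGroup.eq_one_iff _).mpr hi

open SemidirectProduct in
theorem section_of_hom (U : Subgroup G) [hUn : U.Normal] {p : ℕ} [hp : Fact p.Prime] (t : G)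
    (htp : t ^ p ∈ U) (htU : t ∉ U) (f₁ : ↥U →* Base p) (hsurj : Function.Surjective f₁)
    (hequiv : ∀ u : ↥U, f₁ (MulAut.conjNormal t u) = shiftHom p (Multiplicative.ofAdd 1) (f₁ u))
    (hker : f₁ ⟨t ^ p, htp⟩ = 1) (S : Subgroup G) (hUS : U ≤ S) (htS : t ∈ S) :
    IsSectionOf (Wr p) ↥S := by
  classical
  haveI : NeZero p := ⟨hp.out.ne_zero⟩
  obtain ⟨c, hcdef⟩ : ∃ c : MulAut ↥U, c = MulAut.conjNormal t := ⟨_, rfl⟩
  obtain ⟨ψ, hψdef⟩ : ∃ ψ : Multiplicative ℤ →* MulAut ↥U, ψ = zpowersHom (MulAut ↥U) c := ⟨_, rfl⟩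
  have hψapp : ∀ g : Multiplicative ℤ, ψ g = MulAut.conjNormal (t ^ (Multiplicative.toAdd g)) := by
    intro g
    rw [hψdef, zpowersHom_apply, hcdef, map_zpow]
  obtain ⟨τ, hτdef⟩ : ∃ τ : Multiplicative (ZMod p), τ = Multiplicative.ofAdd 1 := ⟨_, rfl⟩
  -- the homomorphism to `S`
  have h₁ : ∀ g : Multiplicative ℤ, (Subgroup.inclusion hUS).comp (ψ g).toMonoidHom =
      (MulAut.conj (zpowersHom ↥S ⟨t, htS⟩ g)).toMonoidHom.comp (Subgroup.inclusion hUS) := by
    intro g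
    apply MonoidHom.ext
    intro u
    apply Subtype.ext
    rw [MonoidHom.comp_apply, MonoidHom.comp_apply, hψapp]
    show ((MulAut.conjNormal (t ^ Multiplicative.toAdd g) u : ↥U) : G) =
      ((zpowersHom ↥S ⟨t, htS⟩ g * Subgroup.inclusion hUS u * (zpowersHom ↥S ⟨t, htS⟩ g)⁻¹ : ↥S) : G)
    rw [MulAut.conjNormal_apply, zpowersHom_apply]
    simp
  obtain ⟨g₁, hg₁def⟩ : ∃ g₁ : ↥U ⋊[ψ] Multiplicative ℤ →* ↥S,
      g₁ = SemidirectProduct.lift (Subgroup.inclusion hUS) (zpowersHom ↥S ⟨t, htS⟩) h₁ := ⟨_, rfl⟩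
  -- the homomorphism to the wreath product
  have h₂ : ∀ g : Multiplicative ℤ, ((inl : Base p →* Wr p).comp f₁).comp (ψ g).toMonoidHom =
      (MulAut.conj (((inr : Multiplicative (ZMod p) →* Wr p).comp
        (zpowersHom (Multiplicative (ZMod p)) τ)) g)).toMonoidHom.comp
          ((inl : Base p →* Wr p).comp f₁) := by
    intro g
    apply MonoidHom.ext
    intro u
    show inl (f₁ ((ψ g) u)) = inr ((zpowersHom (Multiplicative (ZMod p)) τ) g) * inl (f₁ u) *
      (inr ((zpowersHom (Multiplicative (ZMod p)) τ) g))⁻¹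
    rw [← map_inv, ← inl_aut, zpowersHom_apply, map_zpow, hψdef, zpowersHom_apply]
    congr 1
    rw [hτdef]
    exact semiconj_zpow f₁ c (shiftHom p (Multiplicative.ofAdd 1)) (by rw [hcdef]; exact hequiv) _ u
  obtain ⟨g₂, hg₂def⟩ : ∃ g₂ : ↥U ⋊[ψ] Multiplicative ℤ →* Wr p,
      g₂ = SemidirectProduct.lift ((inl : Base p →* Wr p).comp f₁)
        ((inr : Multiplicative (ZMod p) →* Wr p).comp (zpowersHom (Multiplicative (ZMod p)) τ)) h₂ :=
    ⟨_, rfl⟩
  have hg₁app : ∀ (u : ↥U) (i : ℤ), ((g₁ (inl u * inr (Multiplicative.ofAdd i)) : ↥S) : G) =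
      (u : G) * t ^ i := by
    intro u i
    rw [hg₁def, map_mul, lift_inl, lift_inr, zpowersHom_apply]
    simp
  have hg₂app : ∀ (u : ↥U) (i : ℤ), g₂ (inl u * inr (Multiplicative.ofAdd i)) =
      inl (f₁ u) * inr (τ ^ i) := by
    intro u i
    rw [hg₂def, map_mul, lift_inl, lift_inr]
    simp [zpowersHom_apply]
  have hτpow : ∀ i : ℤ, τ ^ i = Multiplicative.ofAdd ((i : ZMod p)) := by
    intro i
    rw [hτdef, ← ofAdd_zsmul]
    simp
  apply section_of_lifts g₁ g₂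
  · -- surjectivity
    intro w
    obtain ⟨u, hu⟩ := hsurj w.left
    refine ⟨inl u * inr (Multiplicative.ofAdd ((Multiplicative.toAdd w.right).val : ℤ)), ?_⟩
    rw [hg₂app, hu, hτpow]
    have : (((Multiplicative.toAdd w.right).val : ℤ) : ZMod p) = Multiplicative.toAdd w.right := by
      rw [Int.cast_natCast, ZMod.natCast_zmod_val]
    rw [this, ofAdd_toAdd]
    exact inl_left_mul_inr_right w
  · -- kernels
    intro z hz
    rw [MonoidHom.mem_ker] at hz ⊢
    have hzdec : z = inl z.left * inr (Multiplicative.ofAdd (Multiplicative.toAdd z.right)) := by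
      rw [ofAdd_toAdd]; exact (inl_left_mul_inr_right z).symm
    obtain ⟨u, hudef⟩ : ∃ u : ↥U, u = z.left := ⟨_, rfl⟩
    obtain ⟨i, hidef⟩ : ∃ i : ℤ, i = Multiplicative.toAdd z.right := ⟨_, rfl⟩
    rw [← hudef, ← hidef] at hzdec
    rw [hzdec] at hz ⊢
    have h1 : (u : G) * t ^ i = 1 := by
      rw [← hg₁app, hz]; rfl
    have h2 : t ^ i = (u : G)⁻¹ := eq_inv_of_mul_eq_one_right h1
    have h3 : t ^ i ∈ U := by rw [h2]; exact U.inv_mem u.2
    obtain ⟨m, hm⟩ := dvd_of_zpow_mem U hp.out t htp htU i h3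
    have h4 : u = (⟨t ^ p, htp⟩ : ↥U) ^ (-m) := by
      apply Subtype.ext
      rw [Subgroup.coe_zpow]
      show (u : G) = (t ^ p) ^ (-m)
      have h5 : (t ^ p) ^ (-m) = (t ^ i)⁻¹ := by
        rw [zpow_neg, ← zpow_natCast t p, ← zpow_mul, ← hm]
      rw [h5, h2, inv_inv]
    rw [hg₂app, h4, map_zpow, hker, one_zpow, map_one, one_mul, hτpow, hm]
    simp

end Cfsg.Agent.Lib.Helper8.HW
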