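import Mathlib
import Cfsg.Agent.Lib.Helper8.HB3

set_option autoImplicit false

/-! Linear algebra: a cyclic vector of a nilpotent operator gives an independent family; an
equivariant functional map onto the regular module of a cyclic group of order `p`. -/

namespace Cfsg.Agent.Lib.Helper8.HW

open Module

variable {K : Type*} [Field K] {V : Type*} [AddCommGroup V] [Module K V]

/-- if `N ^ m = 0` and `N ^ (m-1) w ≠ 0` then `w, N w, …, N^(m-1) w` are independent -/
theorem linearIndependent_pow_of_nilp (N : Module.End K V) (m : ℕ) (hN : N ^ m = 0) (w : V)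
    (hw : (N ^ (m - 1)) w ≠ 0) : LinearIndependent K (fun k : Fin m => (N ^ (k : ℕ)) w) := by
  rw [Fintype.linearIndependent_iff]
  intro g hg
  by_contra hcon
  push Not at hcon
  -- the least index with a nonzero coefficient
  classical
  obtain ⟨i₀, hi₀⟩ := hcon
  let Sset : Finset (Fin m) := Finset.univ.filter (fun i => g i ≠ 0)
  have hne : Sset.Nonempty := ⟨i₀, by simp [Sset, hi₀]⟩
  obtain ⟨j, hjmem, hjmin⟩ := Sset.exists_min_image (fun i => (i : ℕ)) hne
  have hgj : g j ≠ 0 := by simpa [Sset] using hjmem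
  have hzero : ∀ i : Fin m, (i : ℕ) < j → g i = 0 := by
    intro i hi
    by_contra h
    have := hjmin i (by simp [Sset, h])
    omega
  have hjm : (j : ℕ) < m := j.2
  have h1 := congrArg (N ^ (m - 1 - (j : ℕ))) hg
  rw [map_sum, map_zero] at h1
  have h2 : ∀ i : Fin m, (N ^ (m - 1 - (j : ℕ))) (g i • (N ^ (i : ℕ)) w) =
      if i = j then g j • (N ^ (m - 1)) w else 0 := by
    intro i
    rw [map_smul, ← Module.End.mul_apply, ← pow_add]
    split_ifs with hij
    · have : m - 1 - (j : ℕ) + (i : ℕ) = m - 1 := by rw [hij]; omega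
      rw [this, hij]
    · rcases Nat.lt_or_ge (i : ℕ) (j : ℕ) with hlt | hge
      · rw [hzero i hlt, zero_smul]
      · have hgt : (j : ℕ) < i := lt_of_le_of_ne hge (fun h => hij (Fin.ext h.symm))
        have h3 : N ^ (m - 1 - (j : ℕ) + (i : ℕ)) = 0 := by
          have : m - 1 - (j : ℕ) + (i : ℕ) = m + ((i : ℕ) - (j : ℕ) - 1) := by omega
          rw [this, pow_add, hN, zero_mul]
        rw [h3, LinearMap.zero_apply, smul_zero]
  rw [Finset.sum_congr rfl (fun i _ => h2 i), Finset.sum_ite_eq' Finset.univ j] at h1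
  simp only [Finset.mem_univ, if_true] at h1
  rcases smul_eq_zero.mp h1 with h | h
  · exact hgj h
  · exact hw h


section regular

variable (p : ℕ) [hp : Fact p.Prime] {A : Type*} [AddCommGroup A] [Module (ZMod p) A]

/-- the shift on functions `ZMod p → ZMod p` -/
def shiftLin : Module.End (ZMod p) (ZMod p → ZMod p) :=
  LinearMap.funLeft (ZMod p) (ZMod p) (fun j => j + 1)

theorem shiftLin_apply (f : ZMod p → ZMod p) (j : ZMod p) : shiftLin p f j = f (j + 1) := rfl

theorem shiftLin_pow_apply (k : ℕ) (f : ZMod p → ZMod p) (j : ZMod p) :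
    ((shiftLin p) ^ k) f j = f (j + k) := by
  induction k generalizing f j with
  | zero => simp
  | succ k ih =>
    rw [pow_succ, Module.End.mul_apply, ih, shiftLin_apply, Nat.cast_succ]
    congr 1
    ring

theorem shiftLin_pow_p : (shiftLin p) ^ p = 1 := by
  apply LinearMap.ext
  intro f
  funext j
  rw [shiftLin_pow_apply]
  simp

theorem exists_equivariant_onto (TL : Module.End (ZMod p) A) (hTp : TL ^ p = 1) (v : A)
    (hv : ((TL - 1) ^ (p - 1)) v ≠ 0) (y : A) (hy : TL y = y) :
    ∃ φ : A →ₗ[ZMod p] (ZMod p → ZMod p), Function.Surjective φ ∧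
      (∀ a j, φ (TL a) j = φ a (j + 1)) ∧
      ∃ a₀ : ZMod p, φ (a₀ • ((TL - 1) ^ (p - 1)) v + y) = 0 := by
  classical
  have hp1 : 1 ≤ p := hp.out.one_lt.le
  haveI : Fact (1 < p) := ⟨hp.out.one_lt⟩
  haveI : NeZero p := ⟨hp.out.ne_zero⟩
  obtain ⟨NL, hNLdef⟩ : ∃ NL : Module.End (ZMod p) A, NL = TL - 1 := ⟨_, rfl⟩
  rw [← hNLdef] at hv ⊢
  have hNp : NL ^ p = 0 := by
    have := Cfsg.Agent.Lib.Helper8.HB.sub_one_pow_char p TL 1
    rw [pow_one, hTp, sub_self, ← hNLdef] at this
    exact this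
  obtain ⟨s, hsdef⟩ : ∃ s : A, s = (NL ^ (p - 1)) v := ⟨_, rfl⟩
  rw [← hsdef] at hv ⊢
  have hNs : NL s = 0 := by
    rw [hsdef, ← Module.End.mul_apply, ← pow_succ', Nat.sub_add_cancel hp1, hNp]
    rfl
  have hTs : TL s = s := by
    have : TL = NL + 1 := by rw [hNLdef]; abel
    rw [this, LinearMap.add_apply, hNs, zero_add]; rfl
  have hTks : ∀ k : ℕ, (TL ^ k) s = s := by
    intro k
    induction k with
    | zero => simp
    | succ k ih => rw [pow_succ, Module.End.mul_apply, hTs, ih]
  have hTky : ∀ k : ℕ, (TL ^ k) y = y := by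
    intro k
    induction k with
    | zero => simp
    | succ k ih => rw [pow_succ, Module.End.mul_apply, hy, ih]
  obtain ⟨lam, hlam⟩ := Module.Projective.exists_dual_ne_zero (ZMod p) hv
  obtain ⟨φ, hφdef⟩ : ∃ φ : A →ₗ[ZMod p] (ZMod p → ZMod p),
      φ = LinearMap.pi (fun j : ZMod p => lam.comp (TL ^ j.val)) := ⟨_, rfl⟩
  have hφapp : ∀ a j, φ a j = lam ((TL ^ j.val) a) := by
    intro a j; rw [hφdef]; rfl
  have hequiv : ∀ a j, φ (TL a) j = φ a (j + 1) := by
    intro a j
    rw [hφapp, hφapp, ← Module.End.mul_apply, ← pow_succ, ZMod.val_add, ZMod.val_one,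
      ← pow_eq_pow_mod _ hTp]
  have hequiv' : ∀ a, φ (TL a) = shiftLin p (φ a) := by
    intro a; funext j; rw [hequiv, shiftLin_apply]
  have hequivN : ∀ (k : ℕ) a, φ ((NL ^ k) a) = ((shiftLin p - 1) ^ k) (φ a) := by
    intro k
    induction k with
    | zero => intro a; simp
    | succ k ih =>
      intro a
      rw [pow_succ, Module.End.mul_apply, ih, pow_succ, Module.End.mul_apply]
      congr 1
      rw [hNLdef, LinearMap.sub_apply, map_sub, hequiv', LinearMap.sub_apply]
      rfl
  have hφs : ∀ j, φ s j = lam s := by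
    intro j; rw [hφapp, hTks]
  have hφy : ∀ j, φ y j = lam y := by
    intro j; rw [hφapp, hTky]
  refine ⟨φ, ?_, hequiv, ?_⟩
  · -- surjectivity
    obtain ⟨M, hMdef⟩ : ∃ M : Module.End (ZMod p) (ZMod p → ZMod p), M = shiftLin p - 1 := ⟨_, rfl⟩
    have hMp : M ^ p = 0 := by
      have := Cfsg.Agent.Lib.Helper8.HB.sub_one_pow_char p (shiftLin p) 1
      rw [pow_one, shiftLin_pow_p, sub_self, ← hMdef] at this
      exact this
    have hMv : (M ^ (p - 1)) (φ v) ≠ 0 := by
      rw [hMdef, ← hequivN, ← hsdef]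
      intro h
      have := congrFun h 0
      rw [hφs] at this
      exact hlam this
    have hli := linearIndependent_pow_of_nilp M p hMp (φ v) hMv
    have hcard : Fintype.card (Fin p) = finrank (ZMod p) (ZMod p → ZMod p) := by
      rw [Module.finrank_fintype_fun_eq_card, ZMod.card, Fintype.card_fin]
    have hspan := hli.span_eq_top_of_card_eq_finrank' hcard
    have hle : Submodule.span (ZMod p) (Set.range fun k : Fin p => (M ^ (k : ℕ)) (φ v)) ≤
        LinearMap.range φ := by
      rw [Submodule.span_le]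
      rintro _ ⟨k, rfl⟩
      refine ⟨(NL ^ (k : ℕ)) v, ?_⟩
      rw [hequivN, hMdef]
    rw [hspan, top_le_iff] at hle
    exact LinearMap.range_eq_top.mp hle
  · refine ⟨-(lam y) / lam s, ?_⟩
    funext j
    rw [map_add, map_smul, Pi.add_apply, Pi.smul_apply, hφs, hφy, smul_eq_mul, Pi.zero_apply,
      div_mul_cancel₀ _ hlam, neg_add_cancel]

end regular

end Cfsg.Agent.Lib.Helper8.HW
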