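import Mathlib
import Cfsg.Agent.Lib.Helper8.HW2
import Cfsg.Agent.Lib.Helper8.HW3
import Cfsg.Agent.Lib.Helper8.HW4

set_option autoImplicit false

/-! A Jordan block of size `p` for an element of order `p` modulo an elementary abelian normal
subgroup gives a section `C_p ≀ C_p`. -/

namespace Cfsg.Agent.Lib.Helper8.HW

open Cfsg Cfsg.Agent.Lib.Helper7.NormB Cfsg.Agent.Lib.Helper9
open scoped IsMulCommutative

universe u

variable {G : Type u} [Group G]

theorem section_wr (U : Subgroup G) [hUn : U.Normal] [hUc : IsMulCommutative U] {p : ℕ}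
    [hp : Fact p.Prime] (hexp : ∀ a ∈ U, a ^ p = 1) (x : G) (hxp : x ^ p ∈ U) (hxU : x ∉ U)
    (v : Additive U) (hv : ((conjEndHom U x - 1) ^ (p - 1)) v ≠ 0)
    (S : Subgroup G) (hUS : U ≤ S) (hxS : x ∈ S) : IsSectionOf (Wr p) ↥S := by
  classical
  have inst : Module (ZMod p) (Additive U) := zmodInst U hexp
  obtain ⟨T, hTdef⟩ : ∃ T : AddMonoid.End (Additive U), T = conjEndHom U x := ⟨_, rfl⟩
  obtain ⟨TL, hTLdef⟩ : ∃ TL : Module.End (ZMod p) (Additive U), TL = linOf p (Additive U) T :=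
    ⟨_, rfl⟩
  rw [← hTdef] at hv
  have hTp : T ^ p = 1 := by
    rw [hTdef, ← map_pow]; exact conjEndHom_of_mem U hxp
  have hTLp : TL ^ p = 1 := by rw [hTLdef, ← map_pow, hTp, map_one]
  have hTLpow : ∀ (k : ℕ) (a : Additive U), (TL ^ k) a = (T ^ k) a := by
    intro k a
    rw [hTLdef, ← map_pow, linOf_apply]
  have hv' : ((TL - 1) ^ (p - 1)) v ≠ 0 := by
    have h1 : (TL - 1) ^ (p - 1) = linOf p (Additive U) ((T - 1) ^ (p - 1)) := by
      rw [map_pow, map_sub, map_one, hTLdef]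
    rw [h1, linOf_apply]
    exact hv
  obtain ⟨y, hydef⟩ : ∃ y : Additive U, y = Additive.ofMul (⟨x ^ p, hxp⟩ : U) := ⟨_, rfl⟩
  have hy : TL y = y := by
    rw [hTLdef, linOf_apply, hTdef]
    apply Additive.toMul.injective
    apply Subtype.ext
    rw [conjEndHom_apply, hydef]
    show x * x ^ p * x⁻¹ = x ^ p
    rw [← pow_succ', pow_succ, mul_inv_cancel_right]
  obtain ⟨φ, hsurj, hequiv, a₀, ha₀⟩ := exists_equivariant_onto p TL hTLp v hv' y hy
  obtain ⟨β, hβdef⟩ : ∃ β : Additive U, β = a₀ • v := ⟨_, rfl⟩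
  obtain ⟨b, hbdef⟩ : ∃ b : G, b = ((Additive.toMul β : U) : G) := ⟨_, rfl⟩
  have hbU : b ∈ U := by rw [hbdef]; exact (Additive.toMul β).2
  obtain ⟨t, htdef⟩ : ∃ t : G, t = b * x := ⟨_, rfl⟩
  -- the homomorphism onto the base group
  obtain ⟨f₁, hf₁def⟩ : ∃ f₁ : ↥U →* Base p,
      ∀ u, f₁ u = Multiplicative.ofAdd (φ (Additive.ofMul u)) := by
    refine ⟨{ toFun := fun u => Multiplicative.ofAdd (φ (Additive.ofMul u))
              map_one' := by rw [ofMul_one, map_zero]; rfl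
              map_mul' := fun u w => by rw [ofMul_mul, map_add]; rfl }, fun u => rfl⟩
  have hsurj₁ : Function.Surjective f₁ := by
    intro w
    obtain ⟨a, ha⟩ := hsurj (Multiplicative.toAdd w)
    refine ⟨Additive.toMul a, ?_⟩
    rw [hf₁def, ofMul_toMul, ha, ofAdd_toAdd]
  have hconj : ∀ u : ↥U, Additive.ofMul (MulAut.conjNormal t u) = T (Additive.ofMul u) := by
    intro u
    apply Additive.toMul.injective
    apply Subtype.ext
    rw [hTdef, conjEndHom_apply]
    show ((MulAut.conjNormal t u : ↥U) : G) = x * (u : G) * x⁻¹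
    rw [MulAut.conjNormal_apply, htdef]
    have hmem : x * (u : G) * x⁻¹ ∈ U := hUn.conj_mem _ u.2 x
    have hcomm : b * (x * (u : G) * x⁻¹) = (x * (u : G) * x⁻¹) * b :=
      congrArg Subtype.val (mul_comm' (⟨b, hbU⟩ : U) ⟨_, hmem⟩)
    calc b * x * ↑u * (b * x)⁻¹ = b * (x * ↑u * x⁻¹) * b⁻¹ := by group
      _ = x * ↑u * x⁻¹ := by rw [hcomm, mul_inv_cancel_right]
  have hequiv₁ : ∀ u : ↥U, f₁ (MulAut.conjNormal t u) =
      shiftHom p (Multiplicative.ofAdd 1) (f₁ u) := by
    intro u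
    rw [hf₁def, hf₁def, hconj]
    apply Multiplicative.toAdd.injective
    funext j
    rw [shiftHom_apply, toAdd_ofAdd, toAdd_ofAdd, toAdd_ofAdd]
    have := hequiv (Additive.ofMul u) j
    rw [hTLdef, linOf_apply] at this
    exact this
  -- the `p`-th power of `t`
  have hsum : ((Additive.toMul (∑ i ∈ Finset.range p, (T ^ i) β) : U) : G) = pnorm x b p := by
    have := sum_range_eq_pnorm U x β p
    rw [← hbdef] at this
    rw [← this]
    congr 3
    funext i
    rw [← map_pow, quotAct_mk, map_pow, ← hTdef]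
  have htpow : t ^ p = ((Additive.toMul ((∑ i ∈ Finset.range p, (T ^ i) β) + y) : U) : G) := by
    rw [htdef, mul_pow_eq_pnorm, toMul_add, Subgroup.coe_mul, hsum, hydef]
    rfl
  have htp : t ^ p ∈ U := by
    rw [htpow]
    exact (Additive.toMul ((∑ i ∈ Finset.range p, (T ^ i) β) + y) : U).2
  have hgeom : (∑ i ∈ Finset.range p, (T ^ i) β) = a₀ • ((TL - 1) ^ (p - 1)) v := by
    have h1 := Cfsg.Agent.Lib.Helper8.HB.geom_sum_char p (TL - 1) 1
    rw [pow_one, add_sub_cancel] at h1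
    have h2 := congrArg (fun L : Module.End (ZMod p) (Additive U) => L β) h1
    simp only [LinearMap.sum_apply] at h2
    rw [Finset.sum_congr rfl (fun i _ => (hTLpow i β).symm), h2, hβdef, map_smul]
  have hker : f₁ ⟨t ^ p, htp⟩ = 1 := by
    rw [hf₁def]
    have h1 : Additive.ofMul (⟨t ^ p, htp⟩ : U) = a₀ • ((TL - 1) ^ (p - 1)) v + y := by
      rw [← hgeom]
      apply Additive.toMul.injective
      apply Subtype.ext
      rw [← htpow]
      rfl
    rw [h1, ha₀]
    rfl
  have htU : t ∉ U := by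
    intro h
    apply hxU
    have : x = b⁻¹ * t := by rw [htdef]; group
    rw [this]
    exact U.mul_mem (U.inv_mem hbU) h
  have htS : t ∈ S := by rw [htdef]; exact S.mul_mem (hUS hbU) hxS
  exact section_of_hom U t htp htU f₁ hsurj₁ hequiv₁ hker S hUS htS

end Cfsg.Agent.Lib.Helper8.HW
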