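import Mathlib
import Cfsg.Agent.Lib.Helper8.HW5
import Cfsg.Agent.Lib.Helper7.NormB6

set_option autoImplicit false

/-! `p`-soluble groups, `p` odd and not a Fermat prime, whose Sylow `p`-subgroups do not involve
`C_p ≀ C_p` have `p`-length at most one. -/

namespace Cfsg.Agent.Lib.Helper8.HW

open Cfsg Cfsg.Agent.Lib.Helper7.NormB Cfsg.Agent.Lib.Helper9 Cfsg.Agent.Lib.Helper7
open scoped IsMulCommutative

universe u

variable {G : Type u} [Group G]

/-- a section of an image is a section -/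
theorem involves_of_map {W : Type*} [Group W] {H : Type*} [Group H] (f : G →* H) (P : Subgroup G)
    (h : Involves W ↥(P.map f)) : Involves W ↥P := by
  apply involves_of_isSectionOf
  refine (isSectionOf_of_involves h).trans ?_
  refine ⟨⊤, (f.subgroupMap P).comp (⊤ : Subgroup ↥P).subtype, ?_⟩
  intro y
  obtain ⟨z, hz⟩ := f.subgroupMap_surjective P y
  exact ⟨⟨z, Subgroup.mem_top z⟩, hz⟩

/-- no exceptional case for an element of order `p` when `p` is odd and not a Fermat prime -/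
theorem not_fermat_of_pow {p : ℕ} (hp : p.Prime) (hp2 : p ≠ 2) {q m' : ℕ} (hq : q.Prime)
    (hm : 1 ≤ m') (h : p ^ 1 - 1 = q ^ m') : ∃ k : ℕ, p = 2 ^ k + 1 := by
  rw [pow_one] at h
  have hodd : Odd p := hp.odd_of_ne_two hp2
  have h2 : 2 ∣ q ^ m' := by
    rw [← h]
    rcases hodd with ⟨k, hk⟩
    exact ⟨k, by omega⟩
  have h3 : 2 ∣ q := Nat.Prime.dvd_of_dvd_pow Nat.prime_two h2
  have h4 : q = 2 := ((Nat.prime_dvd_prime_iff_eq Nat.prime_two hq).mp h3).symm
  refine ⟨m', ?_⟩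
  rw [h4] at h
  have := hp.one_lt
  omega

variable [Finite G] {p : ℕ} [hp : Fact p.Prime]

theorem mem_pCore_of_selfcentralizing (hp2 : p ≠ 2) (hnf : ¬ ∃ k : ℕ, p = 2 ^ k + 1)
    (hG : IsPSolvable p G)
    (hVc : ∀ a ∈ pCore p G, ∀ b ∈ pCore p G, a * b = b * a)
    (hVe : ∀ a ∈ pCore p G, a ^ p = 1)
    (hCV : ∀ z : G, (∀ v ∈ pCore p G, z * v = v * z) → z ∈ pCore p G)
    (P : Sylow p G) (hfree : ¬ Involves (Wr p) ↥(P : Subgroup G)) (x : G)
    (hx : x ∈ (P : Subgroup G)) : x ∈ pCore p G := by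
  classical
  by_contra hxV
  obtain ⟨V, hVdef⟩ : ∃ V : Subgroup G, V = pCore p G := ⟨_, rfl⟩
  rw [← hVdef] at hVc hVe hCV hxV
  haveI hVn : V.Normal := by rw [hVdef]; exact Cfsg.Agent.Lib.Lead.pCore_normal p
  haveI hVcomm : IsMulCommutative V := ⟨⟨fun a b => Subtype.ext (hVc a a.2 b b.2)⟩⟩
  have hVP : V ≤ (P : Subgroup G) := by
    rw [hVdef]; exact Cfsg.Agent.Lib.Helper6.pCore_le_sylow P
  -- the order of the image of `x`
  obtain ⟨j, hj⟩ := (P.2 : IsPGroup p (P : Subgroup G)) ⟨x, hx⟩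
  have hj' : x ^ p ^ j = 1 := by
    have := congrArg Subtype.val hj
    simpa using this
  have hdvd : orderOf (QuotientGroup.mk' V x) ∣ p ^ j := by
    apply orderOf_dvd_of_pow_eq_one
    rw [← map_pow, hj', map_one]
  obtain ⟨k, -, hk⟩ := (Nat.dvd_prime_pow hp.out).mp hdvd
  have hk1 : 1 ≤ k := by
    by_contra hcon
    have hk0 : k = 0 := by omega
    rw [hk0, pow_zero, orderOf_eq_one_iff] at hk
    exact hxV ((QuotientGroup.eq_one_iff x).mp hk)
  obtain ⟨x₁, hx₁def⟩ : ∃ x₁ : G, x₁ = x ^ p ^ (k - 1) := ⟨_, rfl⟩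
  have hx₁P : x₁ ∈ (P : Subgroup G) := by rw [hx₁def]; exact (P : Subgroup G).pow_mem hx _
  have hord : orderOf (QuotientGroup.mk' V x₁) = p ^ 1 := by
    rw [hx₁def, map_pow, orderOf_pow' _ (pow_ne_zero _ hp.out.ne_zero), hk,
      Nat.gcd_eq_right (pow_dvd_pow p (Nat.sub_le k 1))]
    have : p ^ k = p ^ (k - 1) * p := by rw [← pow_succ, Nat.sub_add_cancel hk1]
    rw [this, Nat.mul_div_cancel_left _ (pow_pos hp.out.pos _), pow_one]
  have hx₁V : x₁ ∉ V := by
    intro h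
    have h1 : QuotientGroup.mk' V x₁ = 1 := (QuotientGroup.eq_one_iff x₁).mpr h
    rw [h1, orderOf_one, pow_one] at hord
    exact hp.out.one_lt.ne hord
  have hx₁p : x₁ ^ p ∈ V := by
    rw [← QuotientGroup.eq_one_iff (N := V)]
    have := pow_orderOf_eq_one (QuotientGroup.mk' V x₁)
    rw [hord, pow_one, ← map_pow] at this
    exact this
  have hne : (quotAct V (QuotientGroup.mk' V x₁) - 1) ^ (p - 1) ≠ 0 := by
    intro hr
    rcases thmB_quot hG V hVdef hVe hCV x₁ 1 le_rfl hord (p - 1) hr with h | h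
    · have := hp.out.one_lt
      rw [pow_one] at h
      omega
    · obtain ⟨n₀, q, m', h1, h2, hq, hm, heq, -, -⟩ := h
      have hn₀ : n₀ = 1 := by omega
      rw [hn₀] at heq
      exact hnf (not_fermat_of_pow hp.out hp2 hq hm heq)
  obtain ⟨v, hv⟩ : ∃ v : Additive V, ((conjEndHom V x₁ - 1) ^ (p - 1)) v ≠ 0 := by
    by_contra hall
    push Not at hall
    apply hne
    refine DFunLike.ext _ _ (fun a => ?_)
    rw [quotAct_mk]
    exact hall a
  exact hfree (involves_of_isSectionOf (section_wr V hVe x₁ hx₁p hx₁V v hv _ hVP hx₁P))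

theorem mem_pCore_of_bot (hp2 : p ≠ 2) (hnf : ¬ ∃ k : ℕ, p = 2 ^ k + 1)
    (hG : IsPSolvable p G) (hO : pPrimeCore p G = ⊥)
    (P : Sylow p G) (hfree : ¬ Involves (Wr p) ↥(P : Subgroup G)) (x : G)
    (hx : x ∈ (P : Subgroup G)) : x ∈ pCore p G := by
  apply FrattRed.mem_pCore_of_mk_mem p
  have hs := QuotientGroup.mk'_surjective (FrattRed.phi p G)
  have hcoe : ((P.mapSurjective hs : Sylow p (G ⧸ FrattRed.phi p G)) :
      Subgroup (G ⧸ FrattRed.phi p G)) = (P : Subgroup G).map (QuotientGroup.mk' _) :=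
    Sylow.coe_mapSurjective hs P
  have hmem : (QuotientGroup.mk' (FrattRed.phi p G)) x ∈
      ((P.mapSurjective hs : Sylow p (G ⧸ FrattRed.phi p G)) : Subgroup (G ⧸ FrattRed.phi p G)) := by
    rw [hcoe]
    exact Subgroup.mem_map_of_mem _ hx
  have hfree' : ¬ Involves (Wr p) ↥((P.mapSurjective hs : Sylow p (G ⧸ FrattRed.phi p G)) :
      Subgroup (G ⧸ FrattRed.phi p G)) := by
    rw [hcoe]
    exact fun h => hfree (involves_of_map _ _ h)
  exact mem_pCore_of_selfcentralizing hp2 hnf (isPSolvable_quotient hG _) FrattRed.quot_comm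
    FrattRed.quot_exp (FrattRed.quot_selfcentralizing hG hO) (P.mapSurjective hs) hfree' _ hmem

theorem mem_pPrimePCore (hp2 : p ≠ 2) (hnf : ¬ ∃ k : ℕ, p = 2 ^ k + 1)
    (hG : IsPSolvable p G)
    (P : Sylow p G) (hfree : ¬ Involves (Wr p) ↥(P : Subgroup G)) (x : G)
    (hx : x ∈ (P : Subgroup G)) : x ∈ pPrimePCore p G := by
  obtain ⟨N, hNdef⟩ : ∃ N : Subgroup G, N = pPrimeCore p G := ⟨_, rfl⟩
  haveI hNn : N.Normal := by
    rw [hNdef]; exact (Cfsg.Agent.Lib.Helper6.pPrimeCore_mem_set p).1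
  have hO : pPrimeCore p (G ⧸ N) = ⊥ := by
    subst hNdef
    exact Cfsg.Agent.Lib.Lead.PStabQuot.pPrimeCore_quotient_eq_bot p
  have hs := QuotientGroup.mk'_surjective N
  have hcoe : ((P.mapSurjective hs : Sylow p (G ⧸ N)) : Subgroup (G ⧸ N)) =
      (P : Subgroup G).map (QuotientGroup.mk' N) := Sylow.coe_mapSurjective hs P
  have hmem : (QuotientGroup.mk' N) x ∈
      ((P.mapSurjective hs : Sylow p (G ⧸ N)) : Subgroup (G ⧸ N)) := by
    rw [hcoe]
    exact Subgroup.mem_map_of_mem _ hx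
  have hfree' : ¬ Involves (Wr p) ↥((P.mapSurjective hs : Sylow p (G ⧸ N)) :
      Subgroup (G ⧸ N)) := by
    rw [hcoe]
    exact fun h => hfree (involves_of_map _ _ h)
  have h1 := mem_pCore_of_bot hp2 hnf (isPSolvable_quotient hG N) hO (P.mapSurjective hs) hfree'
    _ hmem
  unfold pPrimePCore
  rw [Subgroup.mem_comap]
  subst hNdef
  exact h1

theorem pLengthLE_one_of_wrFree (hp2 : p ≠ 2) (hnf : ¬ ∃ k : ℕ, p = 2 ^ k + 1)
    (hG : IsPSolvable p G)
    (P : Sylow p G) (hfree : ¬ Involves (Wr p) ↥(P : Subgroup G)) : PLengthLE p 1 G := by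
  apply Cfsg.Agent.Lib.Helper2.PSeries.pLengthLE_succ_of_quotient
  apply Cfsg.Agent.Lib.Helper2.PSeries.pLengthLE_zero_of_coprime
  haveI : (pPrimePCore p G).Normal := by
    unfold pPrimePCore
    haveI : (pPrimeCore p G).Normal := (Cfsg.Agent.Lib.Helper6.pPrimeCore_mem_set p).1
    haveI : (pCore p (G ⧸ pPrimeCore p G)).Normal := Cfsg.Agent.Lib.Lead.pCore_normal p
    infer_instance
  have hle : (P : Subgroup G) ≤ pPrimePCore p G := fun x hx => mem_pPrimePCore hp2 hnf hG P hfree x hx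
  have h1 : (pPrimePCore p G).index ∣ (P : Subgroup G).index := Subgroup.index_dvd_of_le hle
  have h2 : ¬ p ∣ (P : Subgroup G).index := P.not_dvd_index
  show (Nat.card (G ⧸ pPrimePCore p G)).Coprime p
  rw [← Subgroup.index_eq_card, Nat.coprime_comm, Nat.Prime.coprime_iff_not_dvd hp.out]
  exact fun h => h2 (h.trans h1)

end Cfsg.Agent.Lib.Helper8.HW
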