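import Mathlib
import Cfsg.Agent.Lib.Helper5.HigDefs
import Cfsg.Prelude.Def_BaumannBlocks
import Cfsg.Prelude.Def_Transfer

/-!
# S3050 swarm, package F (core): final assembly from a decomposition of `Q` into natural modules
-/

set_option autoImplicit false
set_option linter.unusedSectionVars false

namespace Cfsg.Agent.Lib.Helper5.Hig

open Matrix
open scoped IsMulCommutative

namespace Final

variable {K : Type*} [Field K] {Γ : Type*} [Group Γ] {Q : Subgroup Γ} [Q.Normal]

/-- the multiplicative map into `Γ` attached to an additive map into `Additive Q` -/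
def img (F : (Fin 2 → K) →+ Additive Q) : Multiplicative (Fin 2 → K) →* Γ where
  toFun a := ((Additive.toMul (F (Multiplicative.toAdd a)) : Q) : Γ)
  map_one' := by
    show ((Additive.toMul (F 0) : Q) : Γ) = 1
    rw [map_zero]; rfl
  map_mul' a b := by
    show ((Additive.toMul (F (Multiplicative.toAdd a + Multiplicative.toAdd b)) : Q) : Γ) = _
    rw [map_add]; rfl

theorem img_apply (F : (Fin 2 → K) →+ Additive Q) (n : Fin 2 → K) :
    img F (Multiplicative.ofAdd n) = ((Additive.toMul (F n) : Q) : Γ) := rfl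

theorem img_mem (F : (Fin 2 → K) →+ Additive Q) (a : Multiplicative (Fin 2 → K)) :
    img F a ∈ Q := (Additive.toMul (F (Multiplicative.toAdd a)) : Q).2

theorem img_injective {F : (Fin 2 → K) →+ Additive Q} (hF : Function.Injective F) :
    Function.Injective (img F) := by
  intro a b h
  have h1 : (Additive.toMul (F (Multiplicative.toAdd a)) : Q) =
      Additive.toMul (F (Multiplicative.toAdd b)) := Subtype.ext h
  have h2 : F (Multiplicative.toAdd a) = F (Multiplicative.toAdd b) := Additive.toMul.injective h1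
  exact Multiplicative.toAdd.injective (hF h2)

theorem img_conj (c : Cfg K Γ Q) [IsMulCommutative Q]
    (hQQ : Q ≤ Subgroup.centralizer (Q : Set Γ)) {F : (Fin 2 → K) →+ Additive Q}
    (hF : IsNat (secRep c.e Q hQQ) F) (γ : Γ) (n : Fin 2 → K) :
    γ * img F (Multiplicative.ofAdd n) * γ⁻¹ =
      img F (Multiplicative.ofAdd (c.e (γ : Γ ⧸ Q) • n)) := by
  have h := secRep_apply c.e Q hQQ γ (Additive.toMul (F n))
  rw [ofMul_toMul, ← hF] at h
  rw [img_apply, img_apply]
  exact h.symm

theorem sumMap_single {V : Type*} [AddCommGroup V] {k : ℕ} (f : Fin k → ((Fin 2 → K) →+ V))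
    (i : Fin k) (n : Fin 2 → K) : sumMap f (Pi.single i n) = f i n := by
  rw [sumMap_apply, Finset.sum_eq_single i]
  · rw [Pi.single_eq_same]
  · intro j _ hji
    rw [Pi.single_eq_of_ne hji, map_zero]
  · intro h
    exact absurd (Finset.mem_univ i) h

/-- the final assembly, from a decomposition into natural modules -/
theorem final_of_natSum (c : Cfg K Γ Q) [IsMulCommutative Q]
    (hQQ : Q ≤ Subgroup.centralizer (Q : Set Γ)) (hns : NatSum (secRep c.e Q hQQ)) :
    ∃ (k : ℕ) (V : Fin k → Subgroup Γ), (∀ i, V i ≤ Q ∧ (V i).Normal ∧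
        Cfsg.ActsAsSL2OnSection K ⊤ ⊤ (V i) ⊥) ∧ iSupIndep V ∧ ⨆ i, V i = Q := by
  classical
  obtain ⟨k, f, hf, hbij⟩ := hns
  have hfinj : ∀ i, Function.Injective (f i) := by
    intro i n m h
    have : sumMap f (Pi.single i n) = sumMap f (Pi.single i m) := by
      rw [sumMap_single, sumMap_single, h]
    exact Pi.single_injective i (hbij.1 this)
  have hVQ : ∀ i, (img (f i)).range ≤ Q := by
    rintro i _ ⟨a, rfl⟩
    exact img_mem (f i) a
  have hconj : ∀ i (γ : Γ) (a : Multiplicative (Fin 2 → K)),
      γ * img (f i) a * γ⁻¹ =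
        img (f i) (Multiplicative.ofAdd (c.e (γ : Γ ⧸ Q) • Multiplicative.toAdd a)) :=
    fun i γ a => img_conj c hQQ (hf i) γ (Multiplicative.toAdd a)
  have hVn : ∀ i, ((img (f i)).range).Normal := by
    intro i
    constructor
    rintro _ ⟨a, rfl⟩ γ
    rw [hconj i γ a]
    exact ⟨_, rfl⟩
  -- the inverse of the sum map
  obtain ⟨E, hE⟩ : ∃ E : Additive Q ≃+ (Fin k → Fin 2 → K), ∀ n, E (sumMap f n) = n :=
    ⟨(AddEquiv.ofBijective (sumMap f) hbij).symm, fun n =>
      (AddEquiv.ofBijective (sumMap f) hbij).symm_apply_apply n⟩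
  have hEf : ∀ i n, E (f i n) = Pi.single i n := fun i n => by rw [← sumMap_single f i n, hE]
  refine ⟨k, fun i => (img (f i)).range, ?_, ?_, ?_⟩
  · intro i
    refine ⟨hVQ i, hVn i, ?_, bot_le, ?_⟩
    · intro γ _
      have := hVn i
      rw [Subgroup.normalizer_eq_top]
      exact Subgroup.mem_top γ
    · refine ⟨(c.e.toMonoidHom.comp (QuotientGroup.mk' Q)).comp (⊤ : Subgroup Γ).subtype,
        (MonoidHom.ofInjective (img_injective (hfinj i))).symm.toMonoidHom, ?_, ?_, ?_, ?_⟩
      · rw [MonoidHom.range_eq_top]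
        intro g
        obtain ⟨γ, hγ⟩ := QuotientGroup.mk'_surjective Q (c.e.symm g)
        refine ⟨⟨γ, Subgroup.mem_top γ⟩, ?_⟩
        show c.e (QuotientGroup.mk' Q γ) = g
        rw [hγ, MulEquiv.apply_symm_apply]
      · exact (MonoidHom.ofInjective (img_injective (hfinj i))).symm.surjective
      · intro u
        show (MonoidHom.ofInjective (img_injective (hfinj i))).symm u = 1 ↔ _
        rw [map_eq_one_iff _ (MonoidHom.ofInjective (img_injective (hfinj i))).symm.injective,
          Subgroup.mem_bot]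
        constructor
        · intro h; rw [h]; rfl
        · intro h; exact Subtype.ext h
      · intro e' u
        obtain ⟨a, ha⟩ : ∃ a, (MonoidHom.ofInjective (img_injective (hfinj i))) a = u :=
          (MonoidHom.ofInjective (img_injective (hfinj i))).surjective u
        have hua : (u : Γ) = img (f i) a := by
          rw [← ha, MonoidHom.ofInjective_apply]
        refine ⟨(MonoidHom.ofInjective (img_injective (hfinj i)))
          (Multiplicative.ofAdd (c.e ((e' : Γ) : Γ ⧸ Q) • Multiplicative.toAdd a)), ?_, ?_⟩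
        · rw [MonoidHom.ofInjective_apply, hua, hconj i (e' : Γ) a]
        · show Multiplicative.toAdd ((MonoidHom.ofInjective (img_injective (hfinj i))).symm _) =
            (c.e ((e' : Γ) : Γ ⧸ Q) : Matrix (Fin 2) (Fin 2) K).mulVec
              (Multiplicative.toAdd ((MonoidHom.ofInjective (img_injective (hfinj i))).symm u))
          rw [MulEquiv.symm_apply_apply, ← ha, MulEquiv.symm_apply_apply]
          rfl
  · -- independence
    rw [iSupIndep_def]
    intro i
    rw [Subgroup.disjoint_def]
    intro x hxi hxs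
    -- the subgroup of elements of `Q` with vanishing `i`-th coordinate
    let N : Subgroup Γ :=
      { carrier := {y | ∃ hy : y ∈ Q, E (Additive.ofMul (⟨y, hy⟩ : Q)) i = 0}
        one_mem' := ⟨Q.one_mem, by
          have : (Additive.ofMul (⟨1, Q.one_mem⟩ : Q)) = 0 := rfl
          rw [this, map_zero]; rfl⟩
        mul_mem' := by
          rintro y z ⟨hy, hy0⟩ ⟨hz, hz0⟩
          refine ⟨Q.mul_mem hy hz, ?_⟩
          have : (Additive.ofMul (⟨y * z, Q.mul_mem hy hz⟩ : Q)) =
              Additive.ofMul (⟨y, hy⟩ : Q) + Additive.ofMul (⟨z, hz⟩ : Q) := rfl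
          rw [this, map_add, Pi.add_apply, hy0, hz0, add_zero]
        inv_mem' := by
          rintro y ⟨hy, hy0⟩
          refine ⟨Q.inv_mem hy, ?_⟩
          have : (Additive.ofMul (⟨y⁻¹, Q.inv_mem hy⟩ : Q)) =
              - Additive.ofMul (⟨y, hy⟩ : Q) := rfl
          rw [this, map_neg, Pi.neg_apply, hy0, neg_zero] }
    have hle : (⨆ j, ⨆ (_ : j ≠ i), (img (f j)).range) ≤ N := by
      apply iSup_le
      intro j
      apply iSup_le
      intro hji
      rintro _ ⟨a, rfl⟩
      refine ⟨img_mem (f j) a, ?_⟩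
      have : (Additive.ofMul (⟨img (f j) a, img_mem (f j) a⟩ : Q)) =
          f j (Multiplicative.toAdd a) := rfl
      rw [this, hEf, Pi.single_eq_of_ne hji.symm]
    obtain ⟨hxQ, hx0⟩ := hle hxs
    obtain ⟨a, rfl⟩ := hxi
    have : (Additive.ofMul (⟨img (f i) a, hxQ⟩ : Q)) = f i (Multiplicative.toAdd a) := rfl
    rw [this, hEf, Pi.single_eq_same] at hx0
    have ha : a = 1 := by
      apply Multiplicative.toAdd.injective
      rw [hx0]; rfl
    rw [ha, map_one]
  · -- the join is `Q`
    apply le_antisymm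
    · exact iSup_le hVQ
    · intro q hq
      obtain ⟨n, hn⟩ := hbij.2 (Additive.ofMul (⟨q, hq⟩ : Q))
      have hmem : (⟨q, hq⟩ : Q) ∈ (⨆ i, (img (f i)).range).comap Q.subtype := by
        have h1 : (⟨q, hq⟩ : Q) = Additive.toMul (sumMap f n) := by rw [hn]; rfl
        rw [h1, sumMap_apply, toMul_sum]
        apply Subgroup.prod_mem
        intro i _
        rw [Subgroup.mem_comap]
        apply Subgroup.mem_iSup_of_mem i
        exact ⟨Multiplicative.ofAdd (n i), rfl⟩
      exact hmem

end Final

end Cfsg.Agent.Lib.Helper5.Hig
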