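import Mathlib
import Cfsg.Agent.Lib.Helper5.HigDefs
import Cfsg.Agent.Lib.Helper6.HigRep
import Cfsg.Agent.Lib.Helper5.HigThmI
import Cfsg.Agent.Lib.Helper8.HigFinalA

/-!
# S3050 swarm, package F: final assembly
-/

set_option autoImplicit false
set_option linter.unusedSectionVars false

namespace Cfsg.Agent.Lib.Helper5.Hig

open Matrix
open scoped IsMulCommutative

section F
variable {K : Type*} [Field K] [Fintype K] [CharP K 2] {Γ : Type*} [Group Γ] [Finite Γ]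
  {Q : Subgroup Γ} [Q.Normal]

theorem final (c : Cfg K Γ Q) (hc : c.Ok) (hQ : IsPGroup 2 Q) (h4 : 4 ≤ Fintype.card K)
    (hab : ∀ p ∈ Q, ∀ q ∈ Q, p * q = q * p) (h2 : ∀ q ∈ Q, q ^ 2 = 1) :
    ∃ (k : ℕ) (V : Fin k → Subgroup Γ), (∀ i, V i ≤ Q ∧ (V i).Normal ∧
        Cfsg.ActsAsSL2OnSection K ⊤ ⊤ (V i) ⊥) ∧ iSupIndep V ∧ ⨆ i, V i = Q := by
  have : IsMulCommutative Q := ⟨⟨fun a b => Subtype.ext (hab a a.2 b b.2)⟩⟩
  have hQQ : Q ≤ Subgroup.centralizer (Q : Set Γ) := by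
    intro p hp
    rw [Subgroup.mem_centralizer_iff]
    intro q hq
    exact hab q hq p hp
  have hcm : CMod (secRep c.e Q hQQ) := secRep_cmod c hc Q hQQ le_rfl h2
  have : Finite (Additive Q) := inferInstanceAs (Finite Q)
  exact Final.final_of_natSum c hQQ (natSum_of_cmod _ hcm h4)

end F

end Cfsg.Agent.Lib.Helper5.Hig
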