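import Mathlib
import Cfsg.Agent.Lib.Lead.Hx3Defs
import Cfsg.Agent.Lib.Lead.Hx3Calc

set_option autoImplicit false

/-!
# S2933 / S1237 swarm, package K1A (`k1_step`)

Steps (1)-(4) of Claim (K1) of `notes/S2933_S1237_paper_lead.md`: in a minimal counterexample all
squares and commutators lie in `V` and the elements `σ x * x⁻¹` generate `T` (`σ = ρ₁ ^ 3`).
-/

namespace Cfsg.Agent.Lib.Lead.Hx3

open scoped commutatorElement

variable {T : Type*} [Group T]

namespace K1A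

/-- the subgroup generated by the squares -/
def sqSub (T : Type*) [Group T] : Subgroup T := Subgroup.closure {y : T | ∃ g : T, y = g ^ 2}

theorem sq_mem_sqSub (g : T) : g ^ 2 ∈ sqSub T := Subgroup.subset_closure ⟨g, rfl⟩

theorem sqSub_inv (φ : MulAut T) : Inv φ (sqSub T) := by
  intro n hn
  refine Subgroup.closure_induction (p := fun x _ => φ x ∈ sqSub T) ?_ ?_ ?_ ?_ hn
  · rintro x ⟨g, rfl⟩
    rw [map_pow]
    exact sq_mem_sqSub _
  · rw [map_one]
    exact one_mem _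
  · intro x y _ _ hx hy
    rw [map_mul]
    exact mul_mem hx hy
  · intro x _ hx
    rw [map_inv]
    exact inv_mem hx

theorem comm_mem_sqSub (x y : T) : ⁅x, y⁆ ∈ sqSub T := by
  have h : ⁅x, y⁆ = x ^ 2 * (x⁻¹ * y) ^ 2 * (y⁻¹) ^ 2 := by
    rw [commutatorElement_def, pow_two, pow_two, pow_two]
    group
  rw [h]
  exact mul_mem (mul_mem (sq_mem_sqSub _) (sq_mem_sqSub _)) (sq_mem_sqSub _)

theorem sqSub_ne_top [Finite T] (hT : IsPGroup 2 T) [Nontrivial T] : sqSub T ≠ ⊤ := by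
  have : Fact (Nat.Prime 2) := ⟨Nat.prime_two⟩
  obtain ⟨n, hn⟩ := hT.exists_card_eq
  have hn1 : 1 ≤ n := by
    by_contra h
    have h0 : n = 0 := by omega
    subst h0
    rw [pow_zero] at hn
    have := Finite.one_lt_card (α := T)
    omega
  obtain ⟨M, hM⟩ := Sylow.exists_subgroup_card_pow_prime (G := T) 2 (n := n - 1)
    (by rw [hn]; exact pow_dvd_pow 2 (by omega))
  have hidx : M.index = 2 := by
    have h1 := M.card_mul_index
    rw [hM, hn] at h1
    have h2 : 2 ^ n = 2 ^ (n - 1) * 2 := by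
      rw [← pow_succ]
      congr 1
      omega
    rw [h2] at h1
    exact Nat.eq_of_mul_eq_mul_left (by positivity) h1
  have hle : sqSub T ≤ M := by
    rw [sqSub, Subgroup.closure_le]
    rintro _ ⟨g, rfl⟩
    exact Subgroup.sq_mem_of_index_two hidx g
  intro htop
  rw [htop, top_le_iff] at hle
  rw [hle, Subgroup.index_top] at hidx
  omega

end K1A

open K1A in
/-- K1a: steps (1)-(4) of (K1) for a minimal counterexample. -/
theorem k1_step [Finite T] (hT : IsPGroup 2 T) (V : Subgroup T) (hV : ∀ x : T, x ∈ V ↔ x ^ 2 = 1)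
    (_hVc : V ≤ Subgroup.center T) (ρ₁ : MulAut T) (a : ℕ) (ha : ρ₁ ^ (3 ^ a) = 1)
    (hmin : ∀ S : Subgroup T, S ≠ ⊤ → Inv ρ₁ S → ∀ s ∈ S, (ρ₁ ^ 3) s = s) (hne : ρ₁ ^ 3 ≠ 1) :
    (∀ g : T, g ^ 2 ∈ V) ∧ (∀ g k : T, ⁅g, k⁆ ∈ V) ∧
      Subgroup.closure {y : T | ∃ x : T, y = (ρ₁ ^ 3) x * x⁻¹} = ⊤ := by
  obtain ⟨σ, hσ⟩ : ∃ σ : MulAut T, σ = ρ₁ ^ 3 := ⟨_, rfl⟩
  rw [← hσ] at hmin hne ⊢
  have hσn : σ ^ (3 ^ a) = 1 := by
    rw [hσ, ← pow_mul, mul_comm, pow_mul, ha, one_pow]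
  have hρσ : ∀ x : T, ρ₁ (σ x) = σ (ρ₁ x) := by
    intro x
    have h : ρ₁ * σ = σ * ρ₁ := by
      rw [hσ]
      exact (Commute.self_pow ρ₁ 3).eq
    have := DFunLike.congr_fun h x
    simpa [MulAut.mul_apply] using this
  -- `T` is nontrivial
  have : Nontrivial T := by
    by_contra h
    rw [not_nontrivial_iff_subsingleton] at h
    apply hne
    ext x
    exact Subsingleton.elim _ _
  -- the subgroup `X`
  obtain ⟨X, hXdef⟩ : ∃ X : Subgroup T,
      X = Subgroup.closure {y : T | ∃ x : T, y = σ x * x⁻¹} := ⟨_, rfl⟩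
  have hgen : ∀ x : T, σ x * x⁻¹ ∈ X := by
    intro x
    rw [hXdef]
    exact Subgroup.subset_closure ⟨x, rfl⟩
  have hXinv : Inv ρ₁ X := by
    intro n hn
    rw [hXdef] at hn
    refine Subgroup.closure_induction (p := fun x _ => ρ₁ x ∈ X) ?_ ?_ ?_ ?_ hn
    · rintro _ ⟨x, rfl⟩
      rw [map_mul, map_inv, hρσ]
      exact hgen _
    · rw [map_one]
      exact one_mem _
    · intro x y _ _ hx hy
      rw [map_mul]
      exact mul_mem hx hy
    · intro x _ hx
      rw [map_inv]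
      exact inv_mem hx
  have hXtop : X = ⊤ := by
    by_contra hX
    have hfix := hmin X hX hXinv
    apply hne
    ext x
    rw [MulAut.one_apply]
    obtain ⟨c, hc⟩ : ∃ c : T, c = σ x * x⁻¹ := ⟨_, rfl⟩
    have hcX : c ∈ X := hc ▸ hgen x
    have hσc : σ c = c := hfix c hcX
    have hσx : σ x = c * x := by
      rw [hc]
      group
    have hpow : ∀ k : ℕ, (σ ^ k) x = c ^ k * x := by
      intro k
      induction k with
      | zero => simp
      | succ k ih =>
        rw [pow_succ', MulAut.mul_apply, ih, map_mul, map_pow, hσc, hσx, pow_succ]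
        group
    have h1 := hpow (3 ^ a)
    rw [hσn, MulAut.one_apply] at h1
    have hc3 : c ^ (3 ^ a) = 1 := by
      have : c ^ (3 ^ a) * x = 1 * x := by rw [← h1, one_mul]
      exact mul_right_cancel this
    obtain ⟨j, hj⟩ := hT c
    have hd3 : orderOf c ∣ 3 ^ a := orderOf_dvd_of_pow_eq_one hc3
    have hd2 : orderOf c ∣ 2 ^ j := orderOf_dvd_of_pow_eq_one hj
    have hcop : Nat.Coprime (3 ^ a) (2 ^ j) := Nat.Coprime.pow _ _ (by norm_num)
    have h1' : orderOf c = 1 := Nat.Coprime.eq_one_of_dvd (Nat.Coprime.coprime_dvd_left hd3 hcop) hd2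
    have hc1 : c = 1 := orderOf_eq_one_iff.mp h1'
    rw [hσx, hc1, one_mul]
  -- the subgroup of squares is central
  have hS0ne : sqSub T ≠ ⊤ := sqSub_ne_top hT
  have hS0fix : ∀ s ∈ sqSub T, σ s = s := hmin _ hS0ne (sqSub_inv ρ₁)
  have hS0conj : ∀ z ∈ sqSub T, ∀ x : T, x⁻¹ * z * x ∈ sqSub T := by
    intro z hz x
    have := sqSub_inv (MulAut.conj x⁻¹) z hz
    simpa [MulAut.conj_apply] using this
  have hcomm_gen : ∀ z ∈ sqSub T, ∀ g : T, g * z = z * g := by
    intro z hz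
    have hle : X ≤ Subgroup.centralizer {z} := by
      rw [hXdef, Subgroup.closure_le]
      rintro _ ⟨x, rfl⟩
      rw [SetLike.mem_coe, Subgroup.mem_centralizer_iff]
      intro w hw
      rw [Set.mem_singleton_iff] at hw
      subst hw
      have h1 := hS0fix _ (hS0conj w hz x)
      rw [map_mul, map_mul, map_inv, hS0fix w hz] at h1
      calc w * (σ x * x⁻¹) = σ x * ((σ x)⁻¹ * w * σ x) * x⁻¹ := by group
        _ = σ x * (x⁻¹ * w * x) * x⁻¹ := by rw [h1]
        _ = σ x * x⁻¹ * w := by group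
    intro g
    have hg : g ∈ Subgroup.centralizer {z} := hle (hXtop ▸ Subgroup.mem_top g)
    rw [Subgroup.mem_centralizer_iff] at hg
    exact (hg z rfl).symm
  have hcen : sqSub T ≤ Subgroup.center T := by
    intro z hz
    rw [Subgroup.mem_center_iff]
    exact hcomm_gen z hz
  have hC2 : C2 T := fun x y => hcen (comm_mem_sqSub x y)
  have hsqc : ∀ x g : T, g * x ^ 2 = x ^ 2 * g := fun x g => hcomm_gen _ (sq_mem_sqSub x) g
  have hcomm_sq : ∀ x y : T, ⁅x, y⁆ ^ 2 = 1 := by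
    intro x y
    rw [← C2.comm_pow_left hC2 x y 2, commutatorElement_eq_one_iff_commute]
    exact (hsqc x y).symm
  have hcommV : ∀ g k : T, ⁅g, k⁆ ∈ V := fun g k => (hV _).mpr (hcomm_sq g k)
  -- fourth powers
  have hfour : ∀ x y : T, (x * y) ^ 4 = x ^ 4 * y ^ 4 := by
    intro x y
    have h1 := C2.mul_sq hC2 x y
    have hA : Commute (x ^ 2) (y ^ 2) := (hsqc x (y ^ 2)).symm
    have hAB : Commute (x ^ 2 * y ^ 2) ⁅y, x⁆ := by
      have := C2.comm_comm hC2 y x (x ^ 2 * y ^ 2)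
      exact this.symm
    calc (x * y) ^ 4 = ((x * y) ^ 2) ^ 2 := by rw [← pow_mul]
      _ = (x ^ 2 * y ^ 2 * ⁅y, x⁆) ^ 2 := by rw [h1]
      _ = (x ^ 2 * y ^ 2) ^ 2 * ⁅y, x⁆ ^ 2 := hAB.mul_pow 2
      _ = (x ^ 2) ^ 2 * (y ^ 2) ^ 2 := by rw [hcomm_sq, mul_one, hA.mul_pow]
      _ = x ^ 4 * y ^ 4 := by rw [← pow_mul, ← pow_mul]
  have hfour_all : ∀ g : T, g ^ 4 = 1 := by
    let K4 : Subgroup T :=
      { carrier := {g | g ^ 4 = 1}
        mul_mem' := by
          intro x y hx hy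
          show (x * y) ^ 4 = 1
          rw [hfour, hx, hy, mul_one]
        one_mem' := one_pow 4
        inv_mem' := by
          intro x hx
          show (x⁻¹) ^ 4 = 1
          rw [inv_pow, hx, inv_one] }
    have hle : X ≤ K4 := by
      rw [hXdef, Subgroup.closure_le]
      rintro _ ⟨x, rfl⟩
      show (σ x * x⁻¹) ^ 4 = 1
      have hx4 : σ (x ^ 4) = x ^ 4 := by
        apply hS0fix
        have : x ^ 4 = (x ^ 2) ^ 2 := by rw [← pow_mul]
        rw [this]
        exact sq_mem_sqSub _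
      rw [hfour, inv_pow, ← map_pow, hx4, mul_inv_cancel]
    intro g
    exact hle (hXtop ▸ Subgroup.mem_top g)
  refine ⟨?_, hcommV, ?_⟩
  · intro g
    rw [hV, ← pow_mul]
    exact hfour_all g
  · rw [← hXdef]
    exact hXtop

end Cfsg.Agent.Lib.Lead.Hx3
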