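import Mathlib
import Cfsg.Agent.Lib.Lead.Hx3Defs
import Cfsg.Agent.Lib.Lead.Hx3Calc
import Cfsg.Agent.Lib.Helper5.Hx3CW

set_option autoImplicit false

/-!
# S2933 / S1237 swarm, package K1B (`k1_final`)

Steps (5)-(7) of Claim (K1) of `notes/S2933_S1237_paper_lead.md`.
-/

namespace Cfsg.Agent.Lib.Lead.Hx3

open scoped commutatorElement

namespace K1B

/-- A permutation of 3-power order whose cube fixes exactly one point acts on a set whose size is
`1` modulo `9`. -/
theorem card_mod_nine {α : Type*} [Fintype α] [DecidableEq α] (f : Equiv.Perm α) (a : ℕ)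
    (hf : f ^ (3 ^ a) = 1) (x₀ : α) (hx₀ : f x₀ = x₀) (hfix : ∀ x, (f ^ 3) x = x → x = x₀) :
    ∃ k : ℕ, Fintype.card α = 9 * k + 1 := by
  have hsupp : f.support = Finset.univ.erase x₀ := by
    ext x
    rw [Equiv.Perm.mem_support, Finset.mem_erase]
    constructor
    · intro hx
      refine ⟨?_, Finset.mem_univ _⟩
      rintro rfl
      exact hx hx₀
    · rintro ⟨hx, _⟩ hfx
      apply hx
      apply hfix
      rw [pow_succ, pow_succ, pow_one, Equiv.Perm.mul_apply, Equiv.Perm.mul_apply, hfx, hfx, hfx]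
  have hcard : f.support.card = Fintype.card α - 1 := by
    rw [hsupp, Finset.card_erase_of_mem (Finset.mem_univ _), Finset.card_univ]
  have hdvd : ∀ c ∈ f.cycleType, 9 ∣ c := by
    intro c hc
    have h1 : c ∣ 3 ^ a := (Equiv.Perm.dvd_of_mem_cycleType hc).trans (orderOf_dvd_of_pow_eq_one hf)
    obtain ⟨j, _, rfl⟩ := (Nat.dvd_prime_pow Nat.prime_three).mp h1
    have h2 := Equiv.Perm.two_le_of_mem_cycleType hc
    have hj0 : j ≠ 0 := by
      rintro rfl
      norm_num at h2
    by_cases hj1 : j = 1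
    · exfalso
      subst hj1
      rw [Equiv.Perm.cycleType_def, Multiset.mem_map] at hc
      obtain ⟨τ, hτ, hτc⟩ := hc
      rw [Finset.mem_val, Equiv.Perm.mem_cycleFactorsFinset_iff] at hτ
      obtain ⟨hcyc, hτf⟩ := hτ
      simp only [Function.comp_apply, pow_one] at hτc
      have hne : τ.support.Nonempty := by
        rw [← Finset.card_pos, hτc]
        norm_num
      obtain ⟨y, hy⟩ := hne
      have hpow : ∀ k : ℕ, (f ^ k) y = (τ ^ k) y := by
        intro k
        induction k with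
        | zero => simp
        | succ k ih =>
          rw [pow_succ', pow_succ', Equiv.Perm.mul_apply, Equiv.Perm.mul_apply, ih]
          exact (hτf _ (Equiv.Perm.pow_apply_mem_support.mpr hy)).symm
      have hτ3 : τ ^ 3 = 1 := by
        have := hcyc.orderOf
        rw [hτc] at this
        rw [← this]
        exact pow_orderOf_eq_one τ
      have hy0 : y = x₀ := by
        apply hfix
        rw [hpow 3, hτ3, Equiv.Perm.one_apply]
      have hy' := Equiv.Perm.mem_support.mp hy
      rw [hτf y hy, hy0] at hy'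
      exact hy' hx₀
    · have hj2 : 2 ≤ j := by omega
      obtain ⟨i, rfl⟩ := Nat.exists_eq_add_of_le hj2
      rw [pow_add]
      exact Dvd.intro _ rfl
  have hsum : 9 ∣ f.cycleType.sum := Multiset.dvd_sum hdvd
  rw [Equiv.Perm.sum_cycleType, hcard] at hsum
  obtain ⟨k, hk⟩ := hsum
  refine ⟨k, ?_⟩
  have hpos : 0 < Fintype.card α := Fintype.card_pos_iff.mpr ⟨x₀⟩
  omega

end K1B

variable {T : Type*} [Group T]

theorem K1B.quotAut_pow_mk [Finite T] (N : Subgroup T) [N.Normal] (φ : MulAut T) (h : Inv φ N)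
    (n : ℕ) (x : T) :
    ((quotAut N φ h) ^ n) (QuotientGroup.mk x) = QuotientGroup.mk ((φ ^ n) x) := by
  induction n generalizing x with
  | zero => simp
  | succ n ih => rw [pow_succ, pow_succ, MulAut.mul_apply, MulAut.mul_apply, quotAut_mk, ih]

/-- K1b: steps (5)-(7): the structure found in K1a is impossible.  Uses `cw_bound`. -/
theorem k1_final [Finite T] (hT : IsPGroup 2 T) (V : Subgroup T) (hV : ∀ x : T, x ∈ V ↔ x ^ 2 = 1)
    (hVc : V ≤ Subgroup.center T) (hV4 : Nat.card V = 4) (ρ₁ : MulAut T) (a : ℕ)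
    (ha : ρ₁ ^ (3 ^ a) = 1) (hfixV : ∀ v ∈ V, (ρ₁ ^ 3) v = v)
    (hsq : ∀ g : T, g ^ 2 ∈ V) (hcomm : ∀ g k : T, ⁅g, k⁆ ∈ V)
    (hgen : Subgroup.closure {y : T | ∃ x : T, y = (ρ₁ ^ 3) x * x⁻¹} = ⊤) : False := by
  classical
  have hVn : V.Normal :=
    ⟨fun n hn g => by
      have := (Subgroup.mem_center_iff.mp (hVc hn)) g
      rw [this, mul_inv_cancel_right]
      exact hn⟩
  have hT64 : Nat.card T ≤ 64 :=
    cw_bound V hVc hV4 (fun v hv => (hV v).mp hv) hsq hcomm (fun g hg => (hV g).mpr hg)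
  have hVinv : Inv ρ₁ V := by
    intro n hn
    rw [hV] at hn ⊢
    rw [← map_pow, hn, map_one]
  -- the quotient
  obtain ⟨r, hr⟩ : ∃ r : MulAut (T ⧸ V), r = quotAut V ρ₁ hVinv := ⟨_, rfl⟩
  have hrpow : ∀ (n : ℕ) (x : T), (r ^ n) (QuotientGroup.mk x) = QuotientGroup.mk ((ρ₁ ^ n) x) := by
    intro n x
    rw [hr]
    exact K1B.quotAut_pow_mk V ρ₁ hVinv n x
  have hra : r ^ (3 ^ a) = 1 := by
    ext e
    induction e using QuotientGroup.induction_on with
    | H x => rw [hrpow, ha, MulAut.one_apply, MulAut.one_apply]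
  have hE2 : ∀ e : T ⧸ V, e ^ 2 = 1 := by
    intro e
    induction e using QuotientGroup.induction_on with
    | H x =>
      rw [← QuotientGroup.mk_pow]
      exact (QuotientGroup.eq_one_iff _).mpr (hsq x)
  have hEcomm : ∀ e f : T ⧸ V, e * f = f * e := by
    intro e f
    have h1 : (e * f) * (e * f) = 1 := by rw [← pow_two]; exact hE2 _
    have h2 : e * e = 1 := by rw [← pow_two]; exact hE2 _
    have h3 : f * f = 1 := by rw [← pow_two]; exact hE2 _
    calc e * f = e * ((e * f) * (e * f)) * f := by rw [h1, mul_one]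
      _ = (e * e) * (f * e) * (f * f) := by group
      _ = f * e := by rw [h2, h3, one_mul, mul_one]
  -- the image of `x ↦ σ x * x⁻¹` is everything
  obtain ⟨s, hs⟩ : ∃ s : MulAut (T ⧸ V), s = r ^ 3 := ⟨_, rfl⟩
  have hsn : s ^ (3 ^ a) = 1 := by
    rw [hs, ← pow_mul, mul_comm, pow_mul, hra, one_pow]
  have himg : ∀ e : T ⧸ V, ∃ y : T ⧸ V, e = s y * y⁻¹ := by
    let Im : Subgroup (T ⧸ V) :=
      { carrier := {e | ∃ y : T ⧸ V, e = s y * y⁻¹}
        mul_mem' := by
          rintro _ _ ⟨x, rfl⟩ ⟨y, rfl⟩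
          refine ⟨x * y, ?_⟩
          rw [map_mul, mul_inv_rev]
          calc s x * x⁻¹ * (s y * y⁻¹) = s x * (x⁻¹ * s y) * y⁻¹ := by group
            _ = s x * (s y * x⁻¹) * y⁻¹ := by rw [hEcomm x⁻¹ (s y)]
            _ = s x * s y * (x⁻¹ * y⁻¹) := by group
            _ = s x * s y * (y⁻¹ * x⁻¹) := by rw [hEcomm x⁻¹ y⁻¹]
        one_mem' := ⟨1, by simp⟩
        inv_mem' := by
          rintro _ ⟨x, rfl⟩
          refine ⟨x⁻¹, ?_⟩
          rw [map_inv, mul_inv_rev, inv_inv]
          exact hEcomm _ _ }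
    have htop : (⊤ : Subgroup (T ⧸ V)) ≤ Im := by
      have h1 : (Subgroup.closure {y : T | ∃ x : T, y = (ρ₁ ^ 3) x * x⁻¹}).map
          (QuotientGroup.mk' V) = ⊤ := by
        rw [hgen]
        exact Subgroup.map_top_of_surjective _ (QuotientGroup.mk'_surjective V)
      rw [← h1, MonoidHom.map_closure, Subgroup.closure_le]
      rintro _ ⟨_, ⟨x, rfl⟩, rfl⟩
      refine ⟨QuotientGroup.mk x, ?_⟩
      rw [hs, hrpow]
      rfl
    intro e
    exact htop (Subgroup.mem_top e)
  -- `s` has no nontrivial fixed point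
  have hfix : ∀ e : T ⧸ V, s e = e → e = 1 := by
    intro e he
    obtain ⟨y, hy⟩ := himg e
    have hsy : s y = e * y := by
      rw [hy]
      group
    have hpow : ∀ k : ℕ, (s ^ k) y = e ^ k * y := by
      intro k
      induction k with
      | zero => simp
      | succ k ih =>
        rw [pow_succ', MulAut.mul_apply, ih, map_mul, map_pow, he, hsy, pow_succ]
        group
    have h1 := hpow (3 ^ a)
    rw [hsn, MulAut.one_apply] at h1
    have he3 : e ^ (3 ^ a) = 1 := by
      have : e ^ (3 ^ a) * y = 1 * y := by rw [← h1, one_mul]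
      exact mul_right_cancel this
    have hd3 : orderOf e ∣ 3 ^ a := orderOf_dvd_of_pow_eq_one he3
    have hd2 : orderOf e ∣ 2 ^ 1 := orderOf_dvd_of_pow_eq_one (by rw [pow_one]; exact hE2 e)
    have hcop : Nat.Coprime (3 ^ a) (2 ^ 1) := Nat.Coprime.pow _ _ (by norm_num)
    have h1' : orderOf e = 1 :=
      Nat.Coprime.eq_one_of_dvd (Nat.Coprime.coprime_dvd_left hd3 hcop) hd2
    exact orderOf_eq_one_iff.mp h1'
  -- counting
  have : Fintype (T ⧸ V) := Fintype.ofFinite _
  obtain ⟨k, hk⟩ := K1B.card_mod_nine (MulAut.toPerm (T ⧸ V) r) a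
    (by rw [← map_pow, hra, map_one]) 1 (map_one r)
    (by
      intro x hx
      apply hfix
      rw [← map_pow] at hx
      rw [hs]
      exact hx)
  have hidx : V.index = 9 * k + 1 := by
    rw [Subgroup.index_eq_card, Nat.card_eq_fintype_card, hk]
  have hmul := V.index_mul_card
  rw [hidx, hV4] at hmul
  obtain ⟨n, hn⟩ := hT.exists_card_eq
  have hk0 : k = 0 := by
    rw [hn] at hT64 hmul
    have hn6 : n ≤ 6 := by
      by_contra h
      have : 2 ^ 7 ≤ 2 ^ n := Nat.pow_le_pow_right (by norm_num) (by omega)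
      omega
    interval_cases n <;> omega
  rw [hk0] at hidx
  have hVtop : V = ⊤ := Subgroup.index_eq_one.mp (by simpa using hidx)
  have hbot : Subgroup.closure {y : T | ∃ x : T, y = (ρ₁ ^ 3) x * x⁻¹} = ⊥ := by
    rw [Subgroup.closure_eq_bot_iff]
    rintro _ ⟨x, rfl⟩
    rw [Set.mem_singleton_iff, hfixV x (hVtop ▸ Subgroup.mem_top x), mul_inv_cancel]
  rw [hgen] at hbot
  have hc1 : Nat.card (⊤ : Subgroup T) = 1 := by rw [hbot, Subgroup.card_bot]
  rw [← hVtop, hV4] at hc1
  omega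

end Cfsg.Agent.Lib.Lead.Hx3
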