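import Mathlib
import Cfsg.Agent.Lib.Lead.Hx3Defs
import Cfsg.Agent.Lib.Lead.Hx3Calc
import Cfsg.Agent.Lib.Helper8.Hx3K1A
import Cfsg.Agent.Lib.Helper8.Hx3K1B

set_option autoImplicit false

/-!
# S2933 / S1237 swarm, package K1C (`k1_cube`)

Claim (K1) of `notes/S2933_S1237_paper_lead.md` by strong induction on the order, from K1A and K1B.
-/

universe u

namespace Cfsg.Agent.Lib.Lead.Hx3

open scoped commutatorElement

namespace K1C

theorem subAut_pow_coe {T : Type*} [Group T] [Finite T] (S : Subgroup T) (φ : MulAut T)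
    (h : Inv φ S) (n : ℕ) (s : S) :
    (((subAut S φ h) ^ n) s : T) = (φ ^ n) (s : T) := by
  induction n generalizing s with
  | zero => simp
  | succ n ih => rw [pow_succ, pow_succ, MulAut.mul_apply, MulAut.mul_apply, ih, subAut_coe]

/-- an automorphism of 3-power order of a group of order four has order dividing three -/
theorem aut_four_cube {W : Type*} [Group W] [Finite W] (hW : Nat.card W = 4) (φ : MulAut W)
    (a : ℕ) (hφ : φ ^ (3 ^ a) = 1) : φ ^ 3 = 1 := by
  classical
  have : Fintype W := Fintype.ofFinite W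
  have hcard : Fintype.card (Equiv.Perm W) = 24 := by
    rw [Fintype.card_perm, ← Nat.card_eq_fintype_card, hW]
    rfl
  have hf : (MulAut.toPerm W φ) ^ (3 ^ a) = 1 := by rw [← map_pow, hφ, map_one]
  have hd1 : orderOf (MulAut.toPerm W φ) ∣ 3 ^ a := orderOf_dvd_of_pow_eq_one hf
  have hd2 : orderOf (MulAut.toPerm W φ) ∣ 8 * 3 := by
    have := orderOf_dvd_card (x := MulAut.toPerm W φ)
    rwa [hcard] at this
  have hcop : Nat.Coprime (3 ^ a) 8 := by
    have : Nat.Coprime (3 ^ a) (2 ^ 3) := Nat.Coprime.pow _ _ (by norm_num)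
    simpa using this
  have hd3 : orderOf (MulAut.toPerm W φ) ∣ 3 :=
    (Nat.Coprime.coprime_dvd_left hd1 hcop).dvd_of_dvd_mul_left hd2
  have h3 : (MulAut.toPerm W φ) ^ 3 = 1 := orderOf_dvd_iff_pow_eq_one.mp hd3
  ext x
  have h3x : ((MulAut.toPerm W φ) ^ 3) x = x := by rw [h3]; rfl
  rw [← map_pow] at h3x
  exact h3x

theorem aux (n : ℕ) : ∀ (T : Type u) [Group T] [Finite T], Nat.card T = n → IsPGroup 2 T →
    ∀ V : Subgroup T, (∀ x : T, x ∈ V ↔ x ^ 2 = 1) → V ≤ Subgroup.center T → Nat.card V = 4 →
    ∀ (ρ₁ : MulAut T) (a : ℕ), ρ₁ ^ (3 ^ a) = 1 → (∀ v ∈ V, ρ₁ v = v → v = 1) → ρ₁ ^ 3 = 1 := by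
  induction n using Nat.strong_induction_on with
  | _ n ih =>
    intro T _ _ hn hT V hV hVc hV4 ρ₁ a ha hfix
    by_contra hne
    have hVinv : Inv ρ₁ V := by
      intro v hv
      rw [hV] at hv ⊢
      rw [← map_pow, hv, map_one]
    have hmin : ∀ S : Subgroup T, S ≠ ⊤ → Inv ρ₁ S → ∀ s ∈ S, (ρ₁ ^ 3) s = s := by
      intro S hS hSinv s hs
      by_cases hVS : V ≤ S
      · have hlt : Nat.card S < n := by
          rw [← hn]
          refine lt_of_le_of_ne (Subgroup.card_le_card_group S) ?_
          intro h
          exact hS (Subgroup.eq_top_of_card_eq S h)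
        have h4 : Nat.card (V.subgroupOf S) = 4 := by
          rw [← hV4]
          exact Nat.card_congr (Subgroup.subgroupOfEquivOfLe hVS).toEquiv
        have hcube := ih (Nat.card S) hlt S rfl (hT.to_subgroup S) (V.subgroupOf S)
          (by
            intro x
            rw [Subgroup.mem_subgroupOf, hV, ← Subgroup.coe_pow, ← Subgroup.coe_one S,
              Subtype.coe_inj])
          (by
            intro x hx
            rw [Subgroup.mem_subgroupOf] at hx
            rw [Subgroup.mem_center_iff]
            intro g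
            apply Subtype.ext
            rw [Subgroup.coe_mul, Subgroup.coe_mul]
            exact Subgroup.mem_center_iff.mp (hVc hx) g)
          h4 (subAut S ρ₁ hSinv) a
          (by
            ext x
            rw [subAut_pow_coe, ha, MulAut.one_apply, MulAut.one_apply])
          (by
            intro v hv hfv
            rw [Subgroup.mem_subgroupOf] at hv
            have h1 : ρ₁ (v : T) = v := by
              have := congrArg (fun y : S => (y : T)) hfv
              simpa using this
            have := hfix _ hv h1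
            exact Subtype.ext (by simpa using this))
        have h3 := subAut_pow_coe S ρ₁ hSinv 3 ⟨s, hs⟩
        rw [hcube, MulAut.one_apply] at h3
        exact h3.symm
      · have hSbot : S = ⊥ := by
          by_contra hSne
          apply hVS
          have : Fact (Nat.Prime 2) := ⟨Nat.prime_two⟩
          have hS2 : IsPGroup 2 S := hT.to_subgroup S
          obtain ⟨k, hk⟩ := hS2.exists_card_eq
          have hk0 : k ≠ 0 := by
            rintro rfl
            rw [pow_zero] at hk
            exact hSne (Subgroup.eq_bot_of_card_eq S hk)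
          have h2dvd : 2 ∣ Nat.card S := by
            rw [hk]
            exact dvd_pow_self 2 hk0
          obtain ⟨x, hx⟩ := exists_prime_orderOf_dvd_card' 2 h2dvd
          have hx2 : (x : T) ^ 2 = 1 := by
            have := pow_orderOf_eq_one x
            rw [hx] at this
            have := congrArg (fun y : S => (y : T)) this
            simpa using this
          have hx1 : (x : T) ≠ 1 := by
            intro h
            have : x = 1 := Subtype.ext (by simpa using h)
            rw [this, orderOf_one] at hx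
            omega
          have hxV : (x : T) ∈ V := (hV _).mpr hx2
          have hρx1 : ρ₁ (x : T) ≠ 1 := by
            intro h
            exact hx1 ((map_eq_one_iff ρ₁ ρ₁.injective).mp h)
          have hρxx : ρ₁ (x : T) ≠ x := fun h => hx1 (hfix _ hxV h)
          -- three distinct elements of `V ⊓ S`
          have hxW : (x : T) ∈ V ⊓ S := ⟨hxV, x.2⟩
          have hρW : ρ₁ (x : T) ∈ V ⊓ S := ⟨hVinv _ hxV, hSinv _ x.2⟩
          have hdvd : Nat.card ↥(V ⊓ S) ∣ 4 := by
            rw [← hV4]
            exact Subgroup.card_dvd_of_le inf_le_left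
          have hne1 : Nat.card ↥(V ⊓ S) ≠ 1 := by
            intro h1
            have hb := Subgroup.eq_bot_of_card_eq (V ⊓ S) h1
            rw [hb, Subgroup.mem_bot] at hxW
            exact hx1 hxW
          have hne2 : Nat.card ↥(V ⊓ S) ≠ 2 := by
            intro h2
            obtain ⟨y, _, huniq⟩ := (Nat.card_eq_two_iff' (1 : ↥(V ⊓ S))).mp h2
            have e1 : (⟨(x : T), hxW⟩ : ↥(V ⊓ S)) = y :=
              huniq _ (fun h => hx1 (by simpa using congrArg (fun w : ↥(V ⊓ S) => (w : T)) h))
            have e2 : (⟨ρ₁ (x : T), hρW⟩ : ↥(V ⊓ S)) = y :=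
              huniq _ (fun h => hρx1 (by simpa using congrArg (fun w : ↥(V ⊓ S) => (w : T)) h))
            have e3 := e2.trans e1.symm
            exact hρxx (by simpa using congrArg (fun w : ↥(V ⊓ S) => (w : T)) e3)
          have h4 : Nat.card ↥(V ⊓ S) = 4 := by
            have hle : Nat.card ↥(V ⊓ S) ≤ 4 := Nat.le_of_dvd (by norm_num) hdvd
            have hpos : 0 < Nat.card ↥(V ⊓ S) := Nat.card_pos
            obtain ⟨c, hc⟩ : ∃ c, c = Nat.card ↥(V ⊓ S) := ⟨_, rfl⟩
            rw [← hc] at hdvd hne1 hne2 hle hpos ⊢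
            interval_cases c
            · omega
            · omega
            · exfalso; revert hdvd; norm_num
            · rfl
          have hEq : V ⊓ S = V :=
            Subgroup.eq_of_le_of_card_ge inf_le_left (by rw [h4, hV4])
          rw [← hEq]
          exact inf_le_right
        rw [hSbot, Subgroup.mem_bot] at hs
        rw [hs, map_one]
    obtain ⟨hsq, hcomm, hgen⟩ := k1_step hT V hV hVc ρ₁ a ha hmin hne
    have hfixV : ∀ v ∈ V, (ρ₁ ^ 3) v = v := by
      intro v hv
      have hcube := aut_four_cube hV4 (subAut V ρ₁ hVinv) a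
        (by
          ext x
          rw [subAut_pow_coe, ha, MulAut.one_apply, MulAut.one_apply])
      have h3 := subAut_pow_coe V ρ₁ hVinv 3 ⟨v, hv⟩
      rw [hcube, MulAut.one_apply] at h3
      exact h3.symm
    exact k1_final hT V hV hVc hV4 ρ₁ a ha hfixV hsq hcomm hgen

end K1C

/-- K1c: (K1) by strong induction on the order (uses K1a, K1b, `subAut`). -/
theorem k1_cube {T : Type*} [Group T] [Finite T] (hT : IsPGroup 2 T) (V : Subgroup T)
    (hV : ∀ x : T, x ∈ V ↔ x ^ 2 = 1)
    (hVc : V ≤ Subgroup.center T) (hV4 : Nat.card V = 4) (ρ₁ : MulAut T) (a : ℕ)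
    (ha : ρ₁ ^ (3 ^ a) = 1) (hfix : ∀ v ∈ V, ρ₁ v = v → v = 1) : ρ₁ ^ 3 = 1 :=
  K1C.aux (Nat.card T) T rfl hT V hV hVc hV4 ρ₁ a ha hfix

end Cfsg.Agent.Lib.Lead.Hx3
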