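import Mathlib
import Cfsg.Agent.Lib.Helper8.ZS7
import Cfsg.Agent.Lib.Helper8.SylowConj

/-!
# Towards `Z(F_S(G)) = S ∩ Z*(G)`: conjugating `2`-elements modulo an odd normal subgroup
-/

set_option autoImplicit false
set_option maxHeartbeats 1600000

namespace Cfsg.Agent.Lib.Helper8

open Cfsg

universe u

section

variable {X : Type u} [Group X] [Finite X]

/-- If `y` and `w` are `2`-elements congruent modulo a normal subgroup `N` of odd order, they are
conjugate under `N`. -/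
theorem zq_conj_into (N : Subgroup X) [hNn : N.Normal] (hN : (Nat.card N).Coprime 2)
    {w y : X} (hw : ∃ k : ℕ, orderOf w = 2 ^ k) (hy : ∃ k : ℕ, orderOf y = 2 ^ k)
    (hyw : y * w⁻¹ ∈ N) : ∃ d ∈ N, d * y * d⁻¹ = w := by
  haveI : Fact (Nat.Prime 2) := ⟨Nat.prime_two⟩
  have hwL : Subgroup.zpowers w ≤ N ⊔ Subgroup.zpowers w := le_sup_right
  have hyL : Subgroup.zpowers y ≤ N ⊔ Subgroup.zpowers w := by
    rw [Subgroup.zpowers_le]
    have : y = (y * w⁻¹) * w := by group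
    rw [this]
    exact Subgroup.mul_mem _ (le_sup_left (a := N) hyw) (hwL (Subgroup.mem_zpowers w))
  have hVw : IsPGroup 2 (Subgroup.zpowers w) := by
    obtain ⟨k, hk⟩ := hw
    exact IsPGroup.of_card (n := k) (by rw [Nat.card_zpowers, hk])
  have hVy : IsPGroup 2 (Subgroup.zpowers y) := by
    obtain ⟨k, hk⟩ := hy
    exact IsPGroup.of_card (n := k) (by rw [Nat.card_zpowers, hk])
  obtain ⟨T, hT⟩ := exists_sylow_map_ge (N ⊔ Subgroup.zpowers w) hVw hwL
  have hT2 : IsPGroup 2 ((T : Subgroup ↥(N ⊔ Subgroup.zpowers w)).map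
      (N ⊔ Subgroup.zpowers w).subtype) := T.isPGroup'.map _
  have two_elt : ∀ n : X, n ∈ N → n ∈ (T : Subgroup ↥(N ⊔ Subgroup.zpowers w)).map
      (N ⊔ Subgroup.zpowers w).subtype → n = 1 := by
    intro n hnN hnT
    obtain ⟨k, hk⟩ := IsPGroup.iff_orderOf.mp hT2 ⟨n, hnT⟩
    rw [Subgroup.orderOf_mk] at hk
    exact Cfsg.Agent.Lib.Helper6.eq_one_of_pElement_of_coprime_card hN hnN ⟨k, hk⟩
  have hT'eq : ∀ t ∈ (T : Subgroup ↥(N ⊔ Subgroup.zpowers w)).map
      (N ⊔ Subgroup.zpowers w).subtype, t ∈ Subgroup.zpowers w := by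
    intro t ht
    have htL : t ∈ N ⊔ Subgroup.zpowers w := by
      obtain ⟨t', -, rfl⟩ := ht
      exact t'.2
    obtain ⟨n, hn, z, hz, rfl⟩ := Subgroup.mem_sup_of_normal_left.1 htL
    have hnT : n ∈ (T : Subgroup ↥(N ⊔ Subgroup.zpowers w)).map
        (N ⊔ Subgroup.zpowers w).subtype := by
      have : n = (n * z) * z⁻¹ := by group
      rw [this]
      exact Subgroup.mul_mem _ ht (Subgroup.inv_mem _ (hT hz))
    rw [two_elt n hn hnT, one_mul]
    exact hz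
  obtain ⟨l, hlL, hle⟩ := exists_conj_sylow_ge (N ⊔ Subgroup.zpowers w) T hVy hyL
  obtain ⟨t, ht, hty⟩ := hle (Subgroup.mem_zpowers y)
  have htw := hT'eq t ht
  obtain ⟨n, hn, z, hz, rfl⟩ := Subgroup.mem_sup_of_normal_left.1 hlL
  have hzt : z * t = t * z := by
    obtain ⟨i, rfl⟩ := Subgroup.mem_zpowers_iff.1 hz
    obtain ⟨j, rfl⟩ := Subgroup.mem_zpowers_iff.1 htw
    rw [← zpow_add, ← zpow_add, add_comm]
  have hy' : y = n * t * n⁻¹ := by
    have h1 : (n * z) * t * (n * z)⁻¹ = y := hty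
    rw [← h1]
    calc (n * z) * t * (n * z)⁻¹ = n * (z * t) * z⁻¹ * n⁻¹ := by group
      _ = n * (t * z) * z⁻¹ * n⁻¹ := by rw [hzt]
      _ = n * t * n⁻¹ := by group
  have htw1 : t * w⁻¹ ∈ N := by
    have h1 : n * t * n⁻¹ * w⁻¹ ∈ N := by rw [← hy']; exact hyw
    have h2 : t * n * t⁻¹ ∈ N := hNn.conj_mem n hn t
    have h3 : (t * n * t⁻¹) * n⁻¹ * (n * t * n⁻¹ * w⁻¹) ∈ N :=
      Subgroup.mul_mem _ (Subgroup.mul_mem _ h2 (Subgroup.inv_mem _ hn)) h1
    have e : (t * n * t⁻¹) * n⁻¹ * (n * t * n⁻¹ * w⁻¹) = t * w⁻¹ := by group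
    rwa [e] at h3
  have htw2 : t * w⁻¹ = 1 := by
    have hmem : t * w⁻¹ ∈ Subgroup.zpowers w :=
      Subgroup.mul_mem _ htw (Subgroup.inv_mem _ (Subgroup.mem_zpowers w))
    obtain ⟨k, hk⟩ := IsPGroup.iff_orderOf.mp hVw ⟨t * w⁻¹, hmem⟩
    rw [Subgroup.orderOf_mk] at hk
    exact Cfsg.Agent.Lib.Helper6.eq_one_of_pElement_of_coprime_card hN htw1 ⟨k, hk⟩
  have htw3 : t = w := mul_inv_eq_one.1 htw2
  refine ⟨n⁻¹, Subgroup.inv_mem _ hn, ?_⟩
  rw [hy', htw3]
  group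

/-- With trivial core, the quotient by a normal subgroup of order `2` has trivial core. -/
theorem zq_quot_core (hO : ∀ N : Subgroup X, N.Normal → Odd (Nat.card N) → N = ⊥)
    (Z : Subgroup X) [Z.Normal] (hZ : Nat.card Z = 2) :
    ∀ N' : Subgroup (X ⧸ Z), N'.Normal → Odd (Nat.card N') → N' = ⊥ := by
  intro N' hN'n hN'odd
  haveI : Fact (Nat.Prime 2) := ⟨Nat.prime_two⟩
  have hMn : (N'.comap (QuotientGroup.mk' Z)).Normal := hN'n.comap _
  have hMcard : Nat.card (N'.comap (QuotientGroup.mk' Z)) = 2 * Nat.card N' := by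
    rw [Cfsg.Agent.Lib.Helper3.card_comap_mk', hZ]
  obtain ⟨P⟩ : Nonempty (Sylow 2 (N'.comap (QuotientGroup.mk' Z))) := inferInstance
  have hPcard : Nat.card P = 2 := by
    rw [Sylow.card_eq_multiplicity, hMcard]
    have hn0 : Nat.card N' ≠ 0 := Nat.card_pos.ne'
    have h2 : ¬ 2 ∣ Nat.card N' := fun h => (Nat.not_even_iff_odd.2 hN'odd) (even_iff_two_dvd.2 h)
    rw [Nat.factorization_mul two_ne_zero hn0, Finsupp.add_apply,
      Nat.Prime.factorization_self Nat.prime_two, Nat.factorization_eq_zero_of_not_dvd h2]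
    norm_num
  have hPcyc : IsCyclic P := isCyclic_of_prime_card hPcard
  obtain ⟨M0, hM0n, hM0odd, -, hM0card⟩ :=
    Cfsg.Agent.Lib.Helper2.TwoComplement.exists_odd_normal P hPcyc
  have hbot := zs_normal_normal_trivial hO hMn hM0n hM0odd
  rw [hbot, Subgroup.card_bot, one_mul, hPcard, hMcard] at hM0card
  have h1 : Nat.card N' = 1 := by omega
  exact (Subgroup.card_le_one_iff_eq_bot N').1 h1.le

end

end Cfsg.Agent.Lib.Helper8
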