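import Mathlib
import Cfsg.Prelude.Def_CaseTheorems
import Cfsg.Agent.S1181
import Cfsg.Agent.Lib.Helper8.ZQ1
import Cfsg.Agent.Lib.Lead.CoprimeSylow3

/-!
# Invariant Sylow subgroups for an isolated involution
-/

set_option autoImplicit false
set_option maxHeartbeats 1600000

namespace Cfsg.Agent.Lib.Helper8

open Cfsg

universe u

section

variable {X : Type u} [Group X] [Finite X]

/-- `X = O(X) C_X(u)` for an isolated involution `u`. -/
theorem ii_sup_eq_top {u : X} (hu : IsIsolatedInvolution u) :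
    pPrimeCore 2 X ⊔ Subgroup.centralizer ({u} : Set X) = ⊤ := by
  haveI : Fact (Nat.Prime 2) := ⟨Nat.prime_two⟩
  rw [eq_top_iff]
  intro x _
  obtain ⟨hKn, hcop⟩ := Cfsg.Agent.Lib.Helper6.pPrimeCore_mem_set (G := X) 2
  haveI := hKn
  have huinv := Cfsg.Agent.Lib.Helper3.IsIsolatedInvolution.inv_eq hu
  have h1 := zstar_pPrimeCore hu x
  have hy : ∃ k : ℕ, orderOf (x * u * x⁻¹) = 2 ^ k := by
    refine ⟨1, ?_⟩
    have : x * u * x⁻¹ = MulAut.conj x u := by simp [MulAut.conj_apply]
    rw [this, MulEquiv.orderOf_eq, hu.1, pow_one]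
  have hw : ∃ k : ℕ, orderOf u = 2 ^ k := ⟨1, by rw [hu.1, pow_one]⟩
  have hyw : x * u * x⁻¹ * u⁻¹ ∈ pPrimeCore 2 X := by
    have := (pPrimeCore 2 X).inv_mem h1
    have e : (u * x * u⁻¹ * x⁻¹)⁻¹ = x * u * x⁻¹ * u⁻¹ := by group
    rwa [e] at this
  obtain ⟨d, hd, hdx⟩ := zq_conj_into (pPrimeCore 2 X) hcop hw hy hyw
  have hc : d * x ∈ Subgroup.centralizer ({u} : Set X) := by
    rw [Subgroup.mem_centralizer_singleton_iff]
    calc d * x * u = d * (x * u * x⁻¹) * d⁻¹ * (d * x) := by group
      _ = u * (d * x) := by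
        rw [hdx]
  have : x = d⁻¹ * (d * x) := by group
  rw [this]
  exact Subgroup.mul_mem _ (Subgroup.mem_sup_left ((pPrimeCore 2 X).inv_mem hd))
    (Subgroup.mem_sup_right hc)

/-- If `p` is odd and divides `|X|`, an isolated involution normalizes a nontrivial `p`-subgroup. -/
theorem ii_exists_invariant {u : X} (hu : IsIsolatedInvolution u) {p : ℕ} [hp : Fact p.Prime]
    (hp2 : p ≠ 2) (hdvd : p ∣ Nat.card X) :
    ∃ R : Subgroup X, IsPGroup p R ∧ R ≠ ⊥ ∧ u ∈ Subgroup.normalizer (R : Set X) := by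
  obtain ⟨hKn, hcop⟩ := Cfsg.Agent.Lib.Helper6.pPrimeCore_mem_set (G := X) 2
  haveI := hKn
  have huinv := Cfsg.Agent.Lib.Helper3.IsIsolatedInvolution.inv_eq hu
  by_cases hpK : p ∣ Nat.card (pPrimeCore 2 X)
  · have hzN : Subgroup.zpowers u ≤ Subgroup.normalizer ((pPrimeCore 2 X : Subgroup X) : Set X) := by
      rw [Subgroup.normalizer_eq_top]; exact le_top
    have hcop' : (Nat.card (Subgroup.zpowers u)).Coprime (Nat.card (pPrimeCore 2 X)) := by
      rw [Nat.card_zpowers, hu.1]; exact hcop.symm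
    have hsolv : Group.IsSolvable (Subgroup.zpowers u) ∨ Group.IsSolvable (pPrimeCore 2 X) :=
      Or.inl (Group.isSolvable_of_comm (fun a b => by
        obtain ⟨a, i, rfl⟩ := a
        obtain ⟨b, j, rfl⟩ := b
        apply Subtype.ext
        exact (Commute.zpow_zpow_self u i j).eq))
    obtain ⟨P, hP⟩ := Cfsg.Agent.Lib.Lead.coprime_invariant_sylow_exists (Subgroup.zpowers u)
      (pPrimeCore 2 X) hzN hcop' hsolv p
    refine ⟨(P : Subgroup (pPrimeCore 2 X)).map (pPrimeCore 2 X).subtype, P.2.map _, ?_,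
      hP (Subgroup.mem_zpowers u)⟩
    intro hbot
    obtain ⟨hcP, -, -⟩ := Cfsg.Agent.Lib.Lead.sylow_card_facts (pPrimeCore 2 X) p P
    rw [hbot, Subgroup.card_bot] at hcP
    have hpos : 0 < (Nat.card (pPrimeCore 2 X)).factorization p :=
      (hp.out.factorization_pos_of_dvd Nat.card_pos.ne' hpK)
    have : 1 < p ^ (Nat.card (pPrimeCore 2 X)).factorization p :=
      Nat.one_lt_pow hpos.ne' hp.out.one_lt
    omega
  · have hsurj : Function.Surjective ((QuotientGroup.mk' (pPrimeCore 2 X)).comp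
        (Subgroup.centralizer ({u} : Set X)).subtype) := by
      intro xbar
      obtain ⟨x, rfl⟩ := QuotientGroup.mk'_surjective _ xbar
      have hx : x ∈ pPrimeCore 2 X ⊔ Subgroup.centralizer ({u} : Set X) := by
        rw [ii_sup_eq_top hu]; trivial
      rw [Subgroup.mem_sup_of_normal_left] at hx
      obtain ⟨y, hy, c, hc, rfl⟩ := hx
      refine ⟨⟨c, hc⟩, ?_⟩
      simp only [MonoidHom.coe_comp, Function.comp_apply, Subgroup.subtype_apply,
        QuotientGroup.mk'_apply, QuotientGroup.mk_mul]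
      rw [(QuotientGroup.eq_one_iff y).mpr hy, one_mul]
    have h1 := Subgroup.card_dvd_of_surjective _ hsurj
    have h2 := Subgroup.card_eq_card_quotient_mul_card_subgroup (pPrimeCore 2 X)
    have h3 : p ∣ Nat.card (X ⧸ pPrimeCore 2 X) := by
      rw [h2] at hdvd
      rcases (Nat.Prime.dvd_mul hp.out).mp hdvd with h | h
      · exact h
      · exact absurd h hpK
    have h4 : p ∣ Nat.card (Subgroup.centralizer ({u} : Set X)) := dvd_trans h3 h1
    obtain ⟨c, hc⟩ := exists_prime_orderOf_dvd_card' p h4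
    have hc' : orderOf (c : X) = p := by rw [Subgroup.orderOf_coe]; exact hc
    refine ⟨Subgroup.zpowers (c : X), ?_, ?_, ?_⟩
    · exact IsPGroup.of_card (n := 1) (by rw [Nat.card_zpowers, hc', pow_one])
    · intro hbot
      rw [Subgroup.zpowers_eq_bot] at hbot
      rw [hbot, orderOf_one] at hc'
      exact hp.out.one_lt.ne hc'
    · have hcu : (c : X) * u = u * c := Subgroup.mem_centralizer_singleton_iff.mp c.2
      rw [Subgroup.mem_normalizer_iff]
      intro h
      have hfix : ∀ y ∈ Subgroup.zpowers (c : X), u * y * u⁻¹ = y := by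
        intro y hy
        obtain ⟨i, rfl⟩ := hy
        have : Commute u ((c : X) ^ i) := (Commute.zpow_right hcu.symm i)
        rw [this.eq]; group
      constructor
      · intro hh
        rw [hfix h hh]; exact hh
      · intro hh
        have := hfix _ hh
        have e : u * (u * h * u⁻¹) * u⁻¹ = h := by
          rw [huinv]
          have hzz := Cfsg.Agent.Lib.Helper3.IsIsolatedInvolution.mul_self hu
          calc u * (u * h * u) * u = (u * u) * h * (u * u) := by group
            _ = h := by rw [hzz]; group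
        rw [e] at this
        rw [this]; exact hh

end

end Cfsg.Agent.Lib.Helper8
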