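import Mathlib
import Cfsg.Prelude.Def_CaseTheorems
import Cfsg.Agent.Lib.Helper8.II1

/-!
# A maximal `z`-invariant `p`-subgroup is Sylow, for an isolated involution `z`
-/

set_option autoImplicit false
set_option maxHeartbeats 1600000

namespace Cfsg.Agent.Lib.Helper8

open Cfsg

universe u

section

variable {G : Type u} [Group G] [Finite G]

theorem ii_main (z : G) (hz : IsIsolatedInvolution z) {p : ℕ} [hp : Fact p.Prime] (Q : Subgroup G)
    (hQ : IsPGroup p Q) (hzQ : z ∈ Subgroup.normalizer (Q : Set G))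
    (hmax : ∀ R : Subgroup G, IsPGroup p R → z ∈ Subgroup.normalizer (R : Set G) → Q ≤ R → R = Q) :
    ∃ P : Sylow p G, (P : Subgroup G) = Q := by
  have hzinv := Cfsg.Agent.Lib.Helper3.IsIsolatedInvolution.inv_eq hz
  have hzz := Cfsg.Agent.Lib.Helper3.IsIsolatedInvolution.mul_self hz
  obtain ⟨P, hQP⟩ := hQ.exists_le_sylow
  refine ⟨P, ?_⟩
  by_cases hp2 : p = 2
  · -- `z ∈ Q`
    subst hp2
    have hzmem : z ∈ Q := by
      have hR : IsPGroup 2 (Q ⊔ Subgroup.zpowers z : Subgroup G) := by
        have hle : Subgroup.zpowers z ≤ Subgroup.normalizer (Q : Set G) :=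
          Subgroup.zpowers_le.mpr hzQ
        have hzp : IsPGroup 2 (Subgroup.zpowers z) :=
          IsPGroup.of_card (n := 1) (by rw [Nat.card_zpowers, hz.1, pow_one])
        exact IsPGroup.to_sup_of_normal_left' hQ hzp hle
      have hzn : z ∈ Subgroup.normalizer ((Q ⊔ Subgroup.zpowers z : Subgroup G) : Set G) :=
        Subgroup.le_normalizer (Subgroup.mem_sup_right (Subgroup.mem_zpowers z))
      have := hmax _ hR hzn le_sup_left
      rw [← this]
      exact Subgroup.mem_sup_right (Subgroup.mem_zpowers z)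
    exact hmax _ P.2 (Subgroup.le_normalizer (hQP hzmem)) hQP
  · by_contra hne
    -- `Q` is properly contained in `P`
    obtain ⟨n, hn⟩ := IsPGroup.iff_card.mp hQ
    have hPcard := P.card_eq_multiplicity
    have hlt : Nat.card Q < Nat.card P := by
      rcases lt_or_eq_of_le (Subgroup.card_le_of_le hQP) with h | h
      · exact h
      · exfalso
        apply hne
        exact (Subgroup.eq_of_le_of_card_ge hQP h.ge).symm
    have hdvd : p ^ (n + 1) ∣ Nat.card G := by
      rw [hn, hPcard] at hlt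
      have : n < (Nat.card G).factorization p := (Nat.pow_lt_pow_iff_right hp.out.one_lt).mp hlt
      exact dvd_trans (pow_dvd_pow p this) (Nat.ordProj_dvd _ _)
    have hquot := Sylow.prime_dvd_card_quotient_normalizer hdvd hn
    set M := Subgroup.normalizer (Q : Set G) with hM
    set Q' : Subgroup M := Q.comap M.subtype with hQ'
    haveI : Q'.Normal := by
      rw [hQ']; exact Subgroup.normal_in_normalizer
    have hzM := zs_isolated_subgroup hz M hzQ
    have hzQ' : (⟨z, hzQ⟩ : M) ∉ Q' := by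
      intro hmem
      have hmem' : z ∈ Q := hmem
      obtain ⟨k, hk⟩ := hQ ⟨z, hmem'⟩
      have hk' : z ^ p ^ k = 1 := by
        have := congrArg Subtype.val hk
        simpa using this
      have h2 : 2 ∣ p ^ k := by
        rw [← hz.1]; exact orderOf_dvd_of_pow_eq_one hk'
      have h3 : 2 ∣ p := Nat.Prime.dvd_of_dvd_pow Nat.prime_two h2
      exact hp2 ((Nat.prime_dvd_prime_iff_eq Nat.prime_two hp.out).mp h3).symm
    obtain ⟨-, hiso⟩ := Cfsg.Agent.S1181.result (⟨z, hzQ⟩ : M) hzM Q' hzQ'
    obtain ⟨Rb, hRp, hRne, hRn⟩ := ii_exists_invariant hiso hp2 hquot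
    set R : Subgroup G := (Rb.comap (QuotientGroup.mk' Q')).map M.subtype with hR
    have hQ'p : IsPGroup p Q' := hQ.comap_of_injective _ M.subtype_injective
    have hRpg : IsPGroup p R := by
      rw [hR]
      apply IsPGroup.map
      apply hRp.comap_of_ker_isPGroup
      rw [QuotientGroup.ker_mk']
      exact hQ'p
    have hQR : Q ≤ R := by
      intro q hq
      rw [hR]
      refine ⟨⟨q, Subgroup.le_normalizer hq⟩, ?_, rfl⟩
      show (QuotientGroup.mk' Q') ⟨q, Subgroup.le_normalizer hq⟩ ∈ Rb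
      have : (QuotientGroup.mk' Q') ⟨q, Subgroup.le_normalizer hq⟩ = 1 := by
        rw [QuotientGroup.mk'_apply, QuotientGroup.eq_one_iff]
        exact hq
      rw [this]; exact Rb.one_mem
    have hfwd : ∀ x ∈ R, z * x * z⁻¹ ∈ R := by
      intro x hx
      rw [hR] at hx ⊢
      obtain ⟨m, hm, rfl⟩ := hx
      refine ⟨⟨z, hzQ⟩ * m * (⟨z, hzQ⟩ : M)⁻¹, ?_, rfl⟩
      show (QuotientGroup.mk' Q') (⟨z, hzQ⟩ * m * (⟨z, hzQ⟩ : M)⁻¹) ∈ Rb
      rw [map_mul, map_mul, map_inv]
      exact ((Subgroup.mem_normalizer_iff.mp hRn) _).mp hm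
    have hzR : z ∈ Subgroup.normalizer (R : Set G) := by
      rw [Subgroup.mem_normalizer_iff]
      intro h
      refine ⟨hfwd h, fun hh => ?_⟩
      have := hfwd _ hh
      have e : z * (z * h * z⁻¹) * z⁻¹ = h := by
        rw [hzinv]
        calc z * (z * h * z) * z = (z * z) * h * (z * z) := by group
          _ = h := by rw [hzz]; group
      rwa [e] at this
    have hRQ := hmax R hRpg hzR hQR
    apply hRne
    rw [eq_bot_iff]
    intro rb hrb
    obtain ⟨m, rfl⟩ := QuotientGroup.mk'_surjective Q' rb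
    have hmR : (m : G) ∈ R := by
      rw [hR]
      exact ⟨m, hrb, rfl⟩
    rw [hRQ] at hmR
    rw [Subgroup.mem_bot, QuotientGroup.mk'_apply, QuotientGroup.eq_one_iff]
    exact hmR

end

end Cfsg.Agent.Lib.Helper8
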