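import Mathlib
import Cfsg.Prelude.Def_CaseTheorems
import Cfsg.Agent.S1180
import Cfsg.Agent.Lib.Helper8.II2
import Cfsg.Agent.Lib.Helper3.OddOrder
import Cfsg.Agent.Lib.Lead.InvProdP

/-!
# Invariant Sylow subgroups for an isolated involution meet the centralizer in a Sylow subgroup
-/

set_option autoImplicit false
set_option maxHeartbeats 1600000

namespace Cfsg.Agent.Lib.Helper8

open Cfsg
open scoped Pointwise

universe u

section

variable {G : Type u} [Group G] [Finite G]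

/-- Every `z`-invariant `p`-subgroup lies in a `z`-invariant Sylow `p`-subgroup. -/
theorem ii_exists_sylow (z : G) (hz : IsIsolatedInvolution z) {p : ℕ} [hp : Fact p.Prime]
    (Q₀ : Subgroup G) (hQ₀ : IsPGroup p Q₀) (hzQ₀ : z ∈ Subgroup.normalizer (Q₀ : Set G)) :
    ∃ P : Sylow p G, Q₀ ≤ P ∧ z ∈ Subgroup.normalizer ((P : Subgroup G) : Set G) := by
  obtain ⟨Q, hQ₀Q, hQmax⟩ := Finite.exists_le_maximal
    (p := fun R : Subgroup G => IsPGroup p R ∧ z ∈ Subgroup.normalizer (R : Set G) ∧ Q₀ ≤ R)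
    (a := Q₀) ⟨hQ₀, hzQ₀, le_refl _⟩
  obtain ⟨⟨hQp, hzQ, hQ₀Q'⟩, hmax⟩ := hQmax
  obtain ⟨P, hP⟩ := ii_main z hz Q hQp hzQ (fun R hRp hzR hQR =>
    le_antisymm (hmax ⟨hRp, hzR, hQ₀Q'.trans hQR⟩ hQR) hQR)
  refine ⟨P, ?_, ?_⟩
  · rw [hP]; exact hQ₀Q
  · rw [hP]; exact hzQ

/-- Two `z`-invariant Sylow `p`-subgroups are conjugate under `C(z)`. -/
theorem ii_conj (z : G) (hz : IsIsolatedInvolution z) {p : ℕ} [hp : Fact p.Prime]
    (P P₁ : Sylow p G) (hzP : z ∈ Subgroup.normalizer ((P : Subgroup G) : Set G))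
    (hzP₁ : z ∈ Subgroup.normalizer ((P₁ : Subgroup G) : Set G)) :
    ∃ c ∈ Subgroup.centralizer ({z} : Set G), c • P = P₁ := by
  obtain ⟨g, hg⟩ := MulAction.exists_smul_eq G P P₁
  have h1 : g * z * g⁻¹ ∈ Subgroup.normalizer ((P₁ : Subgroup G) : Set G) := by
    apply (Sylow.smul_eq_iff_mem_normalizer (g := g * z * g⁻¹) (P := P₁)).mp
    rw [← hg, ← mul_smul]
    have : g * z * g⁻¹ * g = g * z := by group
    rw [this, mul_smul, (Sylow.smul_eq_iff_mem_normalizer (g := z) (P := P)).mpr hzP]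
  obtain ⟨h, hh, hhz⟩ := Cfsg.Agent.S1180.result z hz _ hzP₁ g h1
  refine ⟨h⁻¹ * g, ?_, ?_⟩
  · rw [Subgroup.mem_centralizer_singleton_iff]
    calc h⁻¹ * g * z = h⁻¹ * (g * z * g⁻¹) * g := by group
      _ = h⁻¹ * (h * z * h⁻¹) * g := by rw [hhz]
      _ = z * (h⁻¹ * g) := by group
  · rw [mul_smul, hg]
    exact (Sylow.smul_eq_iff_mem_normalizer (g := h⁻¹) (P := P₁)).mpr (Subgroup.inv_mem _ hh)

theorem ii_normalizer_of_le_centralizer {z : G} {R : Subgroup G}
    (hR : R ≤ Subgroup.centralizer ({z} : Set G)) : z ∈ Subgroup.normalizer (R : Set G) := by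
  rw [Subgroup.mem_normalizer_iff]
  intro h
  constructor
  · intro hh
    have := Subgroup.mem_centralizer_singleton_iff.mp (hR hh)
    have e : z * h * z⁻¹ = h := by rw [← this]; group
    rw [e]; exact hh
  · intro hh
    have := Subgroup.mem_centralizer_singleton_iff.mp (hR hh)
    have e : z * h * z⁻¹ = h := by
      calc z * h * z⁻¹ = z⁻¹ * (z * h * z⁻¹ * z) := by rw [this]; group
        _ = h := by group
    rw [e] at hh; exact hh

/-- A `z`-invariant Sylow `p`-subgroup meets `C(z)` in a Sylow `p`-subgroup of `C(z)`. -/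
theorem ii_inf_sylow (z : G) (hz : IsIsolatedInvolution z) {p : ℕ} [hp : Fact p.Prime]
    (P : Sylow p G) (hzP : z ∈ Subgroup.normalizer ((P : Subgroup G) : Set G)) :
    ¬ p ∣ ((P : Subgroup G) ⊓ Subgroup.centralizer ({z} : Set G)).relIndex
      (Subgroup.centralizer ({z} : Set G)) := by
  set C := Subgroup.centralizer ({z} : Set G) with hC
  obtain ⟨R⟩ : Nonempty (Sylow p C) := inferInstance
  have hR₀C : (R : Subgroup C).map C.subtype ≤ C := Subgroup.map_subtype_le _
  have hR₀p : IsPGroup p ((R : Subgroup C).map C.subtype) := R.2.map _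
  obtain ⟨P₁, hRP₁, hzP₁⟩ := ii_exists_sylow z hz _ hR₀p (ii_normalizer_of_le_centralizer hR₀C)
  obtain ⟨c, hc, hcP⟩ := ii_conj z hz P P₁ hzP hzP₁
  have hconj : MulAut.conj c • ((P : Subgroup G) ⊓ C) = (P₁ : Subgroup G) ⊓ C := by
    rw [Subgroup.smul_inf, Subgroup.conj_smul_eq_self_of_mem hc, ← Sylow.coe_subgroup_smul, hcP]
  have hcard1 : Nat.card ((P : Subgroup G) ⊓ C : Subgroup G) =
      Nat.card ((P₁ : Subgroup G) ⊓ C : Subgroup G) := by
    rw [← hconj]
    exact Nat.card_congr (Subgroup.equivSMul (MulAut.conj c) _).toEquiv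
  have hcard2 : Nat.card R ≤ Nat.card ((P₁ : Subgroup G) ⊓ C : Subgroup G) := by
    have h1 : (R : Subgroup C).map C.subtype ≤ (P₁ : Subgroup G) ⊓ C := le_inf hRP₁ hR₀C
    have h2 := Subgroup.card_le_of_le h1
    have h3 : Nat.card ((R : Subgroup C).map C.subtype) = Nat.card R :=
      Subgroup.card_subtype _ _
    rw [h3] at h2
    exact h2
  set S' : Subgroup C := ((P : Subgroup G) ⊓ C).subgroupOf C with hS'
  have hS'p : IsPGroup p S' := by
    have : IsPGroup p ((P : Subgroup G) ⊓ C : Subgroup G) := P.2.to_le inf_le_left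
    exact this.comap_of_injective _ C.subtype_injective
  have hS'card : Nat.card S' = Nat.card ((P : Subgroup G) ⊓ C : Subgroup G) :=
    Nat.card_congr (Subgroup.subgroupOfEquivOfLe inf_le_right).toEquiv
  obtain ⟨R', hR'⟩ := hS'p.exists_le_sylow
  have hRR' : Nat.card R' = Nat.card R := by
    rw [Sylow.card_eq_multiplicity, Sylow.card_eq_multiplicity]
  have hle : Nat.card S' ≤ Nat.card R := by
    rw [← hRR']; exact Subgroup.card_le_of_le hR'
  have heq : Nat.card S' = Nat.card R := by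
    apply le_antisymm hle
    rw [hS'card, hcard1]; exact hcard2
  have h1 := S'.card_mul_index
  have h2 := (R : Subgroup C).card_mul_index
  have h3 : S'.index = (R : Subgroup C).index := by
    have : Nat.card S' * S'.index = Nat.card S' * (R : Subgroup C).index := by
      rw [h1, heq]; exact h2.symm
    exact Nat.eq_of_mul_eq_mul_left Nat.card_pos this
  show ¬ p ∣ S'.index
  rw [h3]
  exact R.not_dvd_index

/-- The number of elements of the odd-order group `P` inverted by the involution `z`. -/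
theorem ii_count (z : G) (hzz : z * z = 1) (P : Subgroup G) (hodd : Odd (Nat.card P))
    (hzP : z ∈ Subgroup.normalizer (P : Set G)) :
    (P ⊓ Subgroup.centralizer ({z} : Set G)).relIndex P =
      Nat.card {x : G // x ∈ P ∧ z * x * z⁻¹ = x⁻¹} := by
  have hzinv : z⁻¹ = z := inv_eq_of_mul_eq_one_left hzz
  have h1 := Cfsg.Agent.Lib.Lead.InvProdP.card_conjOrb_mul P z
  have h2 := ((P ⊓ Subgroup.centralizer ({z} : Set G)).subgroupOf P).card_mul_index
  have h3 : Nat.card ((P ⊓ Subgroup.centralizer ({z} : Set G)).subgroupOf P) =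
      Nat.card (P ⊓ Subgroup.centralizer ({z} : Set G) : Subgroup G) :=
    Nat.card_congr (Subgroup.subgroupOfEquivOfLe inf_le_left).toEquiv
  have h4 : (P ⊓ Subgroup.centralizer ({z} : Set G)).relIndex P =
      Nat.card (Cfsg.Agent.Lib.Lead.InvProdP.conjOrb P z) := by
    have : Nat.card (P ⊓ Subgroup.centralizer ({z} : Set G) : Subgroup G) *
        (P ⊓ Subgroup.centralizer ({z} : Set G)).relIndex P =
        Nat.card (P ⊓ Subgroup.centralizer ({z} : Set G) : Subgroup G) *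
        Nat.card (Cfsg.Agent.Lib.Lead.InvProdP.conjOrb P z) := by
      rw [← h3]
      show _ * ((P ⊓ Subgroup.centralizer ({z} : Set G)).subgroupOf P).index = _
      rw [h2, h3, mul_comm]; exact h1
    exact Nat.eq_of_mul_eq_mul_left Nat.card_pos this
  rw [h4]
  have hnorm : ∀ x ∈ P, z * x * z⁻¹ ∈ P := fun x hx =>
    ((Subgroup.mem_normalizer_iff.mp hzP) x).mp hx
  apply Nat.card_congr
  refine
    { toFun := fun a => ⟨a.1 * z⁻¹, ?_⟩
      invFun := fun x => ⟨x.1 * z, ?_⟩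
      left_inv := fun a => by apply Subtype.ext; simp
      right_inv := fun x => by apply Subtype.ext; simp }
  · obtain ⟨a, x, hx, rfl⟩ := a
    refine ⟨?_, ?_⟩
    · have e : x * z * x⁻¹ * z⁻¹ = x * (z * x * z⁻¹)⁻¹ := by group
      rw [e]
      exact P.mul_mem hx (P.inv_mem (hnorm x hx))
    · show z * (x * z * x⁻¹ * z⁻¹) * z⁻¹ = (x * z * x⁻¹ * z⁻¹)⁻¹
      have e : (x * z * x⁻¹ * z⁻¹)⁻¹ = z * x * z⁻¹ * x⁻¹ := by group
      rw [e, hzinv]
      calc z * (x * z * x⁻¹ * z) * z = z * x * z * x⁻¹ * (z * z) := by group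
        _ = z * x * z * x⁻¹ := by rw [hzz, mul_one]
  · obtain ⟨x, hx, hinv⟩ := x
    have hxodd : Odd (orderOf x) := by
      have : orderOf x ∣ Nat.card P := by
        have := orderOf_dvd_natCard (⟨x, hx⟩ : P)
        rwa [Subgroup.orderOf_mk] at this
      exact Odd.of_dvd_nat hodd this
    obtain ⟨n, hn⟩ := Cfsg.Agent.Lib.Helper3.exists_pow_sq_eq_of_odd_order x hxodd
    refine ⟨x ^ n, P.pow_mem hx n, ?_⟩
    show x * z = x ^ n * z * (x ^ n)⁻¹
    have hw : z * (x ^ n)⁻¹ * z⁻¹ = x ^ n := by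
      have : z * (x ^ n)⁻¹ * z⁻¹ = ((z * x * z⁻¹) ^ n)⁻¹ := by
        rw [conj_pow]; group
      rw [this, hinv, inv_pow, inv_inv]
    calc x * z = x ^ n * x ^ n * z := by rw [hn]
      _ = x ^ n * (z * (x ^ n)⁻¹ * z⁻¹) * z := by rw [hw]
      _ = x ^ n * z * (x ^ n)⁻¹ := by group

end

end Cfsg.Agent.Lib.Helper8
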