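import Mathlib
import Cfsg.Agent.Lib.Helper2.MinNormal

set_option autoImplicit false

/-! Ito–Winter (S4467), part 1: group-theoretic lemmas (fixed-point counting, primitive solvable
permutation groups). -/

namespace Cfsg.Agent.Lib.Helper8.IW

universe u

/-- the conclusion of the Ito–Winter theorem -/
def Good (p n : ℕ) : Prop :=
  ∃ q : ℕ, IsPrimePow q ∧ q ∣ n ∧
    ((q : ℤ) ≡ -1 [ZMOD p] ∨ (q : ℤ) ≡ 0 [ZMOD p] ∨ (q : ℤ) ≡ 1 [ZMOD p])

theorem Good.of_dvd {p m n : ℕ} (h : Good p m) (hmn : m ∣ n) : Good p n := by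
  obtain ⟨q, hq, hqm, hc⟩ := h
  exact ⟨q, hq, hqm.trans hmn, hc⟩

section Fix

variable {X : Type*} [Group X]

/-- fixed-point counting for a `p`-element normalising a finite subgroup -/
theorem fix_modEq {p : ℕ} [hp : Fact p.Prime] (V : Subgroup X) [Finite V] (t : X) (k : ℕ)
    (htV : ∀ v ∈ V, t * v * t⁻¹ ∈ V) (htk : t ^ p ^ k = 1) :
    Nat.card V ≡ Nat.card ↥(V ⊓ Subgroup.centralizer {t}) [MOD p] := by
  classical
  haveI : Fintype V := Fintype.ofFinite V
  let f : Function.End V := fun v => ⟨t * v * t⁻¹, htV v v.2⟩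
  have hpow : ∀ (m : ℕ) (v : V), (((f ^ m) v : V) : X) = t ^ m * v * (t ^ m)⁻¹ := by
    intro m
    induction m with
    | zero =>
      intro v
      rw [pow_zero, pow_zero]
      show (v : X) = 1 * v * 1⁻¹
      group
    | succ m ih =>
      intro v
      rw [pow_succ']
      show t * ((f ^ m) v : X) * t⁻¹ = _
      rw [ih v, pow_succ']
      group
  have hf : f ^ p ^ k = 1 := by
    funext v
    apply Subtype.ext
    rw [hpow, htk]
    show 1 * (v : X) * 1⁻¹ = v
    group
  have h1 := Equiv.Perm.card_fixedPoints_modEq (p := p) (n := k) hf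
  have e : ↥(V ⊓ Subgroup.centralizer {t}) ≃ Function.fixedPoints f :=
    { toFun := fun x => ⟨⟨x.1, x.2.1⟩, by
        show f ⟨x.1, x.2.1⟩ = ⟨x.1, x.2.1⟩
        apply Subtype.ext
        show t * (x : X) * t⁻¹ = x
        have := Subgroup.mem_centralizer_iff.1 x.2.2 t (Set.mem_singleton t)
        rw [this]; group⟩
      invFun := fun v => ⟨(v.1 : X), v.1.2, by
        show (v.1 : X) ∈ Subgroup.centralizer {t}
        rw [Subgroup.mem_centralizer_iff]
        intro g hg
        have hg' : g = t := hg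
        rw [hg']
        have h2 : f v.1 = v.1 := v.2
        have h3 : t * (v.1 : X) * t⁻¹ = v.1 := congrArg Subtype.val h2
        calc t * (v.1 : X) = t * (v.1 : X) * t⁻¹ * t := by group
          _ = (v.1 : X) * t := by rw [h3]⟩
      left_inv := fun x => rfl
      right_inv := fun v => rfl }
  rw [Nat.card_eq_fintype_card, Nat.card_congr e, Nat.card_eq_fintype_card]
  exact h1

end Fix

section MinNormal

variable {X : Type*} [Group X] [Finite X]

/-- a minimal normal subgroup below a nontrivial normal subgroup -/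
theorem exists_min_normal_le (K : Subgroup X) [K.Normal] (hK : K ≠ ⊥) :
    ∃ N : Subgroup X, N.Normal ∧ N ≠ ⊥ ∧ N ≤ K ∧
      ∀ M : Subgroup X, M.Normal → M ≤ N → M = ⊥ ∨ M = N := by
  classical
  let S : Set (Subgroup X) := {M | M.Normal ∧ M ≠ ⊥ ∧ M ≤ K}
  have hS : S.Finite := Set.toFinite _
  have hne : S.Nonempty := ⟨K, inferInstance, hK, le_rfl⟩
  obtain ⟨N, hNS, hmin⟩ := hS.exists_minimal hne
  refine ⟨N, hNS.1, hNS.2.1, hNS.2.2, ?_⟩
  intro M hM hMN
  by_cases hb : M = ⊥
  · exact Or.inl hb
  · right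
    have hMS : M ∈ S := ⟨hM, hb, hMN.trans hNS.2.2⟩
    exact le_antisymm hMN (hmin hMS hMN)

/-- structure of a minimal normal subgroup of a finite solvable group -/
theorem min_normal_data [hs : Group.IsSolvable X] (M : Subgroup X) [hMn : M.Normal] (hM : M ≠ ⊥)
    (hmin : ∀ K : Subgroup X, K.Normal → K ≤ M → K = ⊥ ∨ K = M) :
    (∀ a ∈ M, ∀ b ∈ M, a * b = b * a) ∧
      ∃ r d : ℕ, r.Prime ∧ 0 < d ∧ Nat.card M = r ^ d := by
  have hc := Cfsg.Agent.Lib.Helper2.isMulCommutative_of_minNormal_of_solvable M hM hmin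
  obtain ⟨r, hr, -, d, hd, hcard⟩ :=
    Cfsg.Agent.Lib.Helper2.exists_prime_pow_of_minNormal_abelian M hM hmin hc
  refine ⟨?_, r, d, hr, hd, hcard⟩
  intro a ha b hb
  have := hc.is_comm.comm ⟨a, ha⟩ ⟨b, hb⟩
  exact congrArg Subtype.val this

end MinNormal

section Prim

variable {X : Type*} [Group X] [Finite X]

/-- a subgroup normalised by `H` and `M` with `H ⊔ M = ⊤` is normal -/
theorem normal_of_sup_eq_top {H M L : Subgroup X} (hHM : H ⊔ M = ⊤)
    (hH : ∀ h ∈ H, ∀ x ∈ L, h * x * h⁻¹ ∈ L) (hM : ∀ m ∈ M, ∀ x ∈ L, m * x * m⁻¹ ∈ L) :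
    L.Normal := by
  rw [← Subgroup.normalizer_eq_top_iff, eq_top_iff, ← hHM, sup_le_iff]
  constructor
  · intro h hh
    rw [Subgroup.mem_normalizer_iff]
    intro x
    constructor
    · intro hx; exact hH h hh x hx
    · intro hx
      have := hH h⁻¹ (H.inv_mem hh) _ hx
      simpa [mul_assoc] using this
  · intro m hm
    rw [Subgroup.mem_normalizer_iff]
    intro x
    constructor
    · intro hx; exact hM m hm x hx
    · intro hx
      have := hM m⁻¹ (M.inv_mem hm) _ hx
      simpa [mul_assoc] using this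

/-- A finite solvable group with a core-free maximal subgroup `H` (a primitive permutation
group): if it contains a nontrivial `p`-element then a prime power `≡ 0, 1 mod p` divides
`|X : H|`. -/
theorem prim_perm [hs : Group.IsSolvable X] {p : ℕ} [hp : Fact p.Prime] (H : Subgroup X)
    (hH : IsCoatom H) (hcore : H.normalCore = ⊥) (y : X) (hy1 : y ≠ 1) (k : ℕ)
    (hyk : y ^ p ^ k = 1) : Good p H.index := by
  classical
  haveI : Nontrivial X := ⟨⟨y, 1, hy1⟩⟩
  have htop : (⊤ : Subgroup X) ≠ ⊥ := top_ne_bot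
  obtain ⟨M, hMn, hM1, -, hmin⟩ := exists_min_normal_le (⊤ : Subgroup X) htop
  haveI := hMn
  obtain ⟨hab, r, d, hr, hd, hcard⟩ := min_normal_data M hM1 hmin
  -- M is not inside H
  have hMH : ¬ M ≤ H := by
    intro h
    have : M ≤ H.normalCore := Subgroup.normal_le_normalCore.2 h
    rw [hcore] at this
    exact hM1 (le_bot_iff.1 this)
  have hsup : H ⊔ M = ⊤ := by
    by_contra hne
    have hlt : H < H ⊔ M := lt_of_le_of_ne le_sup_left (fun h => hMH (h ▸ le_sup_right))
    exact hne (hH.2 _ hlt)
  -- H ⊓ M is normal, hence trivial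
  have hinfn : (H ⊓ M).Normal := by
    apply normal_of_sup_eq_top hsup
    · intro h hh x hx
      exact ⟨H.mul_mem (H.mul_mem hh hx.1) (H.inv_mem hh), hMn.conj_mem x hx.2 h⟩
    · intro m hm x hx
      have : m * x * m⁻¹ = x := by
        rw [hab m hm x hx.2]; group
      rw [this]; exact hx
  have hinf : H ⊓ M = ⊥ := by
    have : H ⊓ M ≤ H.normalCore := Subgroup.normal_le_normalCore.2 inf_le_left
    rw [hcore] at this
    exact le_bot_iff.1 this
  have hcompl : H.IsComplement' M := by
    apply Subgroup.isComplement'_of_disjoint_and_mul_eq_univ (disjoint_iff.2 hinf)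
    rw [← Subgroup.mul_normal, hsup]; rfl
  have hidx : H.index = r ^ d := by
    have h1 := hcompl.symm.index_eq_card
    rw [h1, hcard]
  -- the centraliser of M is M
  let C : Subgroup X := Subgroup.centralizer (M : Set X)
  have hCn : C.Normal := Subgroup.normal_centralizer
  have hCHn : (C ⊓ H).Normal := by
    apply normal_of_sup_eq_top hsup
    · intro h hh x hx
      exact ⟨hCn.conj_mem x hx.1 h, H.mul_mem (H.mul_mem hh hx.2) (H.inv_mem hh)⟩
    · intro m hm x hx
      have h1 := Subgroup.mem_centralizer_iff.1 hx.1 m hm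
      have : m * x * m⁻¹ = x := by
        rw [h1]; group
      rw [this]; exact hx
  have hCH : C ⊓ H = ⊥ := by
    have : C ⊓ H ≤ H.normalCore := Subgroup.normal_le_normalCore.2 inf_le_right
    rw [hcore] at this
    exact le_bot_iff.1 this
  have hMC : M ≤ C := by
    intro m hm
    rw [Subgroup.mem_centralizer_iff]
    intro g hg
    exact hab g hg m hm
  have hCcard : Nat.card C ≤ Nat.card M := by
    have hinj : Function.Injective (fun c : C => (QuotientGroup.mk (c : X) : X ⧸ H)) := by
      intro c₁ c₂ h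
      have h1 : (c₁ : X)⁻¹ * c₂ ∈ H := QuotientGroup.eq.1 h
      have h2 : (c₁ : X)⁻¹ * c₂ ∈ C ⊓ H := ⟨C.mul_mem (C.inv_mem c₁.2) c₂.2, h1⟩
      rw [hCH, Subgroup.mem_bot] at h2
      apply Subtype.ext
      exact inv_mul_eq_one.1 h2
    have h3 := Nat.card_le_card_of_injective _ hinj
    have h4 : Nat.card (X ⧸ H) = H.index := rfl
    rw [h4, hidx, ← hcard] at h3
    exact h3
  have hCM : M = C := Subgroup.eq_of_le_of_card_ge hMC hCcard
  by_cases hpr : p = r
  · -- q = r ^ d ≡ 0
    refine ⟨r ^ d, hr.isPrimePow.pow hd.ne', by rw [hidx], Or.inr (Or.inl ?_)⟩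
    subst hpr
    rw [Int.modEq_zero_iff_dvd]
    push_cast
    exact dvd_pow_self _ hd.ne'
  · -- y does not centralise M
    have hyC : y ∉ C := by
      intro hyC
      rw [← hCM] at hyC
      have h1 : y ^ r ^ d = 1 := by
        have := pow_card_eq_one' (G := M) (x := ⟨y, hyC⟩)
        rw [hcard] at this
        exact congrArg Subtype.val this
      have hcop : (p ^ k).Coprime (r ^ d) :=
        Nat.Coprime.pow _ _ ((Nat.coprime_primes hp.out hr).2 hpr)
      have h2 : orderOf y ∣ (p ^ k).gcd (r ^ d) :=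
        Nat.dvd_gcd (orderOf_dvd_of_pow_eq_one hyk) (orderOf_dvd_of_pow_eq_one h1)
      rw [hcop, Nat.dvd_one, orderOf_eq_one_iff] at h2
      exact hy1 h2
    have hfix := fix_modEq (p := p) M y k (fun v hv => hMn.conj_mem v hv y) hyk
    set F : Subgroup X := M ⊓ Subgroup.centralizer {y} with hF
    have hFM : F ≤ M := inf_le_left
    have hFdvd : Nat.card F ∣ r ^ d := hcard ▸ Subgroup.card_dvd_of_le hFM
    obtain ⟨c, hcd, hFc⟩ := (Nat.dvd_prime_pow hr).1 hFdvd
    have hcd' : c < d := by
      rcases lt_or_eq_of_le hcd with h | h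
      · exact h
      · exfalso
        subst h
        have hFeq : F = M := Subgroup.eq_of_le_of_card_ge hFM (by rw [hFc, hcard])
        apply hyC
        rw [Subgroup.mem_centralizer_iff]
        intro m hm
        have hmF : m ∈ F := hFeq ▸ hm
        have := Subgroup.mem_centralizer_iff.1 hmF.2 y (Set.mem_singleton y)
        exact this.symm
    rw [hcard, hFc] at hfix
    have hdc : r ^ d = r ^ c * r ^ (d - c) := by
      rw [← pow_add]; congr 1; omega
    rw [hdc] at hfix
    have hfix' : r ^ c * r ^ (d - c) ≡ r ^ c * 1 [MOD p] := by rwa [mul_one]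
    have hcop : p.gcd (r ^ c) = 1 :=
      Nat.Coprime.pow_right _ ((Nat.coprime_primes hp.out hr).2 hpr)
    have h1 := Nat.ModEq.cancel_left_of_coprime hcop hfix'
    refine ⟨r ^ (d - c), hr.isPrimePow.pow (by omega), ?_, Or.inr (Or.inr ?_)⟩
    · rw [hidx]; exact pow_dvd_pow r (by omega)
    · have := (Int.natCast_modEq_iff).2 h1
      simpa using this

end Prim

section Quot

variable {G : Type*} [Group G] [Finite G]

/-- a maximal subgroup `H` of a finite solvable group, `P` a Sylow `p`-subgroup not contained in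
the core of `H`: then a prime power `≡ 0, 1 mod p` divides `|G : H|`. -/
theorem prim_perm_quot [hs : Group.IsSolvable G] {p : ℕ} [hp : Fact p.Prime] (H : Subgroup G)
    (hH : IsCoatom H) (P : Sylow p G) (hP : ¬ (P : Subgroup G) ≤ H.normalCore) :
    Good p H.index := by
  classical
  set K : Subgroup G := H.normalCore with hK
  have hKH : K ≤ H := Subgroup.normalCore_le H
  let π : G →* G ⧸ K := QuotientGroup.mk' K
  have hπ : Function.Surjective π := QuotientGroup.mk'_surjective K
  have hker : π.ker = K := QuotientGroup.ker_mk' K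
  set Hb : Subgroup (G ⧸ K) := H.map π with hHb
  have hcomap : Hb.comap π = H := by
    rw [hHb, Subgroup.comap_map_eq, hker]
    exact sup_eq_left.2 hKH
  have hHbco : IsCoatom Hb := by
    constructor
    · intro h
      have : Hb.comap π = ⊤ := by rw [h]; rfl
      rw [hcomap] at this
      exact hH.1 this
    · intro L hL
      have h1 : H < L.comap π := by
        refine hcomap.symm.trans_lt ?_
        refine lt_of_le_of_ne (Subgroup.comap_mono hL.le) ?_
        intro h
        have h2 := congrArg (Subgroup.map π) h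
        rw [Subgroup.map_comap_eq_self_of_surjective hπ, Subgroup.map_comap_eq_self_of_surjective hπ]
          at h2
        exact hL.ne h2
      have h3 := hH.2 _ h1
      have h4 := congrArg (Subgroup.map π) h3
      rw [Subgroup.map_comap_eq_self_of_surjective hπ] at h4
      rw [h4]
      exact (Subgroup.map_top_of_surjective π hπ)
  have hcore : Hb.normalCore = ⊥ := by
    have hn : (Hb.normalCore.comap π).Normal := inferInstance
    have h1 : Hb.normalCore.comap π ≤ H :=
      (Subgroup.comap_mono (Subgroup.normalCore_le Hb)).trans hcomap.le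
    have h2 : Hb.normalCore.comap π ≤ K := Subgroup.normal_le_normalCore.2 h1
    have h3 : (Hb.normalCore.comap π).map π ≤ K.map π := Subgroup.map_mono h2
    rw [Subgroup.map_comap_eq_self_of_surjective hπ] at h3
    have h4 : K.map π = ⊥ := (Subgroup.map_eq_bot_iff _).2 hker.ge
    rw [h4] at h3
    exact le_bot_iff.1 h3
  have hidx : Hb.index = H.index := by
    have h1 := Subgroup.index_comap_of_surjective Hb hπ
    rw [← h1]
    exact congrArg Subgroup.index hcomap
  -- a nontrivial p-element of the quotient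
  obtain ⟨u, huP, huK⟩ := SetLike.not_le_iff_exists.1 hP
  have hu1 : π u ≠ 1 := by
    intro h
    apply huK
    rw [← hker]
    exact h
  obtain ⟨k, hk⟩ := (IsPGroup.iff_card.1 P.isPGroup')
  have huk : (π u) ^ p ^ k = 1 := by
    have h1 : (⟨u, huP⟩ : (P : Subgroup G)) ^ p ^ k = 1 := by
      rw [← hk]; exact pow_card_eq_one'
    have h2 : u ^ p ^ k = 1 := congrArg Subtype.val h1
    rw [← map_pow, h2, map_one]
  haveI : Group.IsSolvable (G ⧸ K) := inferInstance
  have := prim_perm (p := p) Hb hHbco hcore (π u) hu1 k huk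
  rwa [hidx] at this

end Quot

end Cfsg.Agent.Lib.Helper8.IW
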