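import Mathlib
import Cfsg.Agent.Lib.Helper8.IW1

set_option autoImplicit false

/-! Ito–Winter (S4467), part 2: subgroups `N` with `[N, N] ≤ Z(G)`: the coprime commutator
argument, the averaging trick and the fixed-point congruence modulo the centre. -/

namespace Cfsg.Agent.Lib.Helper8.IW

section Comm

variable {G : Type*} [Group G]

theorem conj_pow_left_of_central {a b c : G} (hc : c ∈ Subgroup.center G)
    (h : a * b * a⁻¹ = c * b) (i : ℕ) : a ^ i * b * (a ^ i)⁻¹ = c ^ i * b := by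
  induction i with
  | zero => simp
  | succ i ih =>
    have hcc : ∀ g : G, c * g = g * c := fun g => (Subgroup.mem_center_iff.1 hc g).symm
    have hci : ∀ g : G, c ^ i * g = g * c ^ i := fun g =>
      (Subgroup.mem_center_iff.1 (Subgroup.pow_mem _ hc i) g).symm
    calc a ^ (i + 1) * b * (a ^ (i + 1))⁻¹ = a * (a ^ i * b * (a ^ i)⁻¹) * a⁻¹ := by
          rw [pow_succ']; group
      _ = a * (c ^ i * b) * a⁻¹ := by rw [ih]
      _ = c ^ i * (a * b * a⁻¹) := by
          rw [← mul_assoc a, ← hci a]; group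
      _ = c ^ i * (c * b) := by rw [h]
      _ = c ^ (i + 1) * b := by rw [pow_succ]; group

theorem conj_pow_right_of_central {a b c : G} (hc : c ∈ Subgroup.center G)
    (h : a * b * a⁻¹ = c * b) (i : ℕ) : a * b ^ i * a⁻¹ = c ^ i * b ^ i := by
  have hcb : Commute c b := (Subgroup.mem_center_iff.1 hc b).symm
  calc a * b ^ i * a⁻¹ = (a * b * a⁻¹) ^ i := (conj_pow (a := a) (b := b) (i := i)).symm
    _ = (c * b) ^ i := by rw [h]
    _ = c ^ i * b ^ i := hcb.mul_pow i

theorem eq_one_of_pow_coprime {c : G} {a b : ℕ} (hab : a.Coprime b) (ha : c ^ a = 1)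
    (hb : c ^ b = 1) : c = 1 := by
  have h2 : orderOf c ∣ a.gcd b :=
    Nat.dvd_gcd (orderOf_dvd_of_pow_eq_one ha) (orderOf_dvd_of_pow_eq_one hb)
  rw [hab, Nat.dvd_one, orderOf_eq_one_iff] at h2
  exact h2

/-- the coprime commutator argument: a central commutator of `x` and `y` with `x ^ a` and
`y ^ b` central, `a` and `b` coprime, is trivial. -/
theorem commute_of_central_comm_coprime {x y : G}
    (hc : x * y * x⁻¹ * y⁻¹ ∈ Subgroup.center G) {a b : ℕ} (hab : a.Coprime b)
    (hx : x ^ a ∈ Subgroup.center G) (hy : y ^ b ∈ Subgroup.center G) : x * y = y * x := by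
  set c := x * y * x⁻¹ * y⁻¹ with hcdef
  have h : x * y * x⁻¹ = c * y := by rw [hcdef]; group
  have h1 := conj_pow_left_of_central hc h a
  have h2 := conj_pow_right_of_central hc h b
  have ha : c ^ a = 1 := by
    have h3 : x ^ a * y * (x ^ a)⁻¹ = y := by
      rw [← Subgroup.mem_center_iff.1 hx y]; group
    rw [h3] at h1
    exact (mul_eq_right.1 h1.symm)
  have hb : c ^ b = 1 := by
    have h3 : x * y ^ b * x⁻¹ = y ^ b := by
      rw [Subgroup.mem_center_iff.1 hy x]; group
    rw [h3] at h2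
    exact (mul_eq_right.1 h2.symm)
  have hc1 := eq_one_of_pow_coprime hab ha hb
  rw [hc1, one_mul] at h
  calc x * y = x * y * x⁻¹ * x := by group
    _ = y * x := by rw [h]

end Comm

section Avg

variable {G : Type*} [Group G]

/-- the product `v * (y v y⁻¹) * ... * (y^(i-1) v y^(-(i-1)))` -/
def avg (y v : G) : ℕ → G
  | 0 => 1
  | i + 1 => avg y v i * (y ^ i * v * (y ^ i)⁻¹)

theorem avg_zero (y v : G) : avg y v 0 = 1 := rfl

theorem avg_succ (y v : G) (i : ℕ) : avg y v (i + 1) = avg y v i * (y ^ i * v * (y ^ i)⁻¹) := rfl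

theorem conj_pow_mem {N : Subgroup G} {y : G} (hyN : ∀ v ∈ N, y * v * y⁻¹ ∈ N) (i : ℕ) :
    ∀ v ∈ N, y ^ i * v * (y ^ i)⁻¹ ∈ N := by
  induction i with
  | zero => intro v hv; simpa using hv
  | succ i ih =>
    intro v hv
    have := hyN _ (ih v hv)
    have h2 : y ^ (i + 1) * v * (y ^ (i + 1))⁻¹ = y * (y ^ i * v * (y ^ i)⁻¹) * y⁻¹ := by
      rw [pow_succ']; group
    rw [h2]; exact this

theorem avg_mem {N : Subgroup G} {y : G} (hyN : ∀ v ∈ N, y * v * y⁻¹ ∈ N) {v : G} (hv : v ∈ N)
    (i : ℕ) : avg y v i ∈ N := by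
  induction i with
  | zero => exact N.one_mem
  | succ i ih => exact N.mul_mem ih (conj_pow_mem hyN i v hv)

theorem avg_conj (y v : G) (i : ℕ) : y * avg y v i * y⁻¹ = v⁻¹ * avg y v (i + 1) := by
  induction i with
  | zero => simp [avg]
  | succ i ih =>
    rw [avg_succ y v (i + 1), ← mul_assoc, ← ih, avg_succ]
    rw [pow_succ']; group

theorem avg_comm {x y v c : G} (hc : c ∈ Subgroup.center G) (hxy : x * y = y * x)
    (hxv : x * v * x⁻¹ = c * v) (i : ℕ) : x * avg y v i * x⁻¹ = c ^ i * avg y v i := by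
  have hcc : ∀ g : G, c * g = g * c := fun g => (Subgroup.mem_center_iff.1 hc g).symm
  induction i with
  | zero => simp [avg]
  | succ i ih =>
    have hxyi : x * y ^ i = y ^ i * x := ((Commute.pow_right (show Commute x y from hxy)) i)
    have h1 : x * (y ^ i * v * (y ^ i)⁻¹) * x⁻¹ = c * (y ^ i * v * (y ^ i)⁻¹) := by
      calc x * (y ^ i * v * (y ^ i)⁻¹) * x⁻¹ = (x * y ^ i) * v * (y ^ i)⁻¹ * x⁻¹ := by group
        _ = y ^ i * (x * v * x⁻¹) * (x * (y ^ i)⁻¹ * x⁻¹) := by rw [hxyi]; group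
        _ = y ^ i * (c * v) * (y ^ i)⁻¹ := by
            rw [hxv]
            have : x * (y ^ i)⁻¹ * x⁻¹ = (y ^ i)⁻¹ := by
              have h2 : x * (y ^ i)⁻¹ = (y ^ i)⁻¹ * x := by
                have := hxyi
                calc x * (y ^ i)⁻¹ = (y ^ i)⁻¹ * (y ^ i * x) * (y ^ i)⁻¹ := by group
                  _ = (y ^ i)⁻¹ * (x * y ^ i) * (y ^ i)⁻¹ := by rw [this]
                  _ = (y ^ i)⁻¹ * x := by group
              rw [h2]; group
            rw [this]
        _ = c * (y ^ i * v * (y ^ i)⁻¹) := by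
            rw [← mul_assoc (y ^ i) c v, ← hcc (y ^ i)]; group
    calc x * avg y v (i + 1) * x⁻¹
        = (x * avg y v i * x⁻¹) * (x * (y ^ i * v * (y ^ i)⁻¹) * x⁻¹) := by
          rw [avg_succ]; group
      _ = (c ^ i * avg y v i) * (c * (y ^ i * v * (y ^ i)⁻¹)) := by rw [ih, h1]
      _ = c ^ (i + 1) * avg y v (i + 1) := by
          rw [avg_succ, pow_succ]
          rw [mul_assoc (c ^ i), ← mul_assoc (avg y v i) c, ← hcc (avg y v i)]
          group

/-- the averaging trick: an element of `C_N(y)` centralising `C_N(y)` centralises `N`. -/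
theorem centralizes_of_centralizes_fixed {N : Subgroup G}
    (hNc : ∀ a ∈ N, ∀ b ∈ N, a * b * a⁻¹ * b⁻¹ ∈ Subgroup.center G)
    {y : G} (hyN : ∀ v ∈ N, y * v * y⁻¹ ∈ N) {o a : ℕ} (hyo : y ^ o = 1) (hao : a.Coprime o)
    (hexp : ∀ v ∈ N, v ^ a ∈ Subgroup.center G)
    {x : G} (hxN : x ∈ N) (hxy : x * y = y * x)
    (hxC : ∀ c ∈ N, c * y = y * c → x * c = c * x) :
    ∀ v ∈ N, x * v = v * x := by
  intro v hv
  set c := x * v * x⁻¹ * v⁻¹ with hcdef
  have hc : c ∈ Subgroup.center G := hNc x hxN v hv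
  have hxv : x * v * x⁻¹ = c * v := by rw [hcdef]; group
  set A := avg y v o with hA
  have hAN : A ∈ N := avg_mem hyN hv o
  -- A commutes with y
  have h1 : y * A * y⁻¹ = v⁻¹ * A * v := by
    rw [hA, avg_conj, avg_succ, hyo]; group
  have h2 : y * A * y⁻¹ * A⁻¹ ∈ Subgroup.center G := by
    rw [h1]
    have := hNc v⁻¹ (N.inv_mem hv) A hAN
    simpa using this
  have hyA : y * A = A * y := by
    apply commute_of_central_comm_coprime h2 hao.symm
    · rw [hyo]; exact Subgroup.one_mem _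
    · exact hexp A hAN
  have hxA : x * A = A * x := hxC A hAN hyA.symm
  have h3 := avg_comm hc hxy hxv o
  rw [← hA] at h3
  have hco : c ^ o = 1 := by
    have h4 : x * A * x⁻¹ = A := by rw [hxA]; group
    rw [h4] at h3
    exact mul_eq_right.1 h3.symm
  have hca : c ^ a = 1 := by
    have h5 := conj_pow_right_of_central hc hxv a
    have h6 : x * v ^ a * x⁻¹ = v ^ a := by
      rw [Subgroup.mem_center_iff.1 (hexp v hv) x]; group
    rw [h6] at h5
    exact mul_eq_right.1 h5.symm
  have hc1 := eq_one_of_pow_coprime hao hca hco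
  rw [hc1, one_mul] at hxv
  calc x * v = x * v * x⁻¹ * x := by group
    _ = v * x := by rw [hxv]

end Avg

section RelIndex

variable {G : Type*} [Group G] [Finite G]

theorem relIndex_eq_card_map (N : Subgroup G) :
    (Subgroup.center G).relIndex N =
      Nat.card ↥(N.map (QuotientGroup.mk' (Subgroup.center G))) := by
  have h1 := Subgroup.relIndex_comap (⊥ : Subgroup (G ⧸ Subgroup.center G))
    (QuotientGroup.mk' (Subgroup.center G)) N
  rw [MonoidHom.comap_bot, QuotientGroup.ker_mk', Subgroup.relIndex_bot_left] at h1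
  exact h1

/-- the fixed-point congruence modulo the centre -/
theorem relIndex_modEq {p : ℕ} [hp : Fact p.Prime] (N : Subgroup G)
    (hNc : ∀ a ∈ N, ∀ b ∈ N, a * b * a⁻¹ * b⁻¹ ∈ Subgroup.center G)
    {y : G} (hyN : ∀ v ∈ N, y * v * y⁻¹ ∈ N) {k a : ℕ} (hyk : y ^ p ^ k = 1)
    (ha : a.Coprime (p ^ k)) (hexp : ∀ v ∈ N, v ^ a ∈ Subgroup.center G) :
    (Subgroup.center G).relIndex N ≡
      (Subgroup.center G).relIndex (N ⊓ Subgroup.centralizer {y}) [MOD p] := by
  set π := QuotientGroup.mk' (Subgroup.center G) with hπ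
  have hker : π.ker = Subgroup.center G := QuotientGroup.ker_mk' _
  have h1 := fix_modEq (p := p) (N.map π) (π y) k (by
    rintro _ ⟨v, hv, rfl⟩
    exact ⟨y * v * y⁻¹, hyN v hv, by simp⟩) (by rw [← map_pow, hyk, map_one])
  have h2 : N.map π ⊓ Subgroup.centralizer {π y} = (N ⊓ Subgroup.centralizer {y}).map π := by
    apply le_antisymm
    · rintro _ ⟨⟨v, hv, rfl⟩, hcv⟩
      have h3 := Subgroup.mem_centralizer_iff.1 hcv (π y) (Set.mem_singleton _)
      have h4 : v * y * v⁻¹ * y⁻¹ ∈ Subgroup.center G := by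
        rw [← hker, MonoidHom.mem_ker]
        simp only [map_mul, map_inv]
        rw [← h3]; group
      have h5 : v * y = y * v := by
        apply commute_of_central_comm_coprime h4 ha (hexp v hv)
        rw [hyk]; exact Subgroup.one_mem _
      refine ⟨v, ⟨hv, ?_⟩, rfl⟩
      show v ∈ Subgroup.centralizer {y}
      rw [Subgroup.mem_centralizer_iff]
      intro g hg
      have hg' : g = y := hg
      rw [hg']; exact h5.symm
    · rintro _ ⟨v, ⟨hv, hcv⟩, rfl⟩
      refine ⟨⟨v, hv, rfl⟩, ?_⟩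
      have hcv' : v ∈ Subgroup.centralizer {y} := hcv
      show π v ∈ Subgroup.centralizer {π y}
      rw [Subgroup.mem_centralizer_iff]
      intro g hg
      have hg' : g = π y := hg
      rw [hg']
      have := Subgroup.mem_centralizer_iff.1 hcv' y (Set.mem_singleton _)
      rw [← map_mul, ← map_mul, this]
  rw [relIndex_eq_card_map, relIndex_eq_card_map, ← h2]
  exact h1

end RelIndex

end Cfsg.Agent.Lib.Helper8.IW
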