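import Mathlib
import Cfsg.Prelude
import Cfsg.Agent.Lib.Helper2.RelMAbelian
import Cfsg.Agent.Lib.Helper2.CliffordDeg
import Cfsg.Agent.Lib.Helper4.BLa
import Cfsg.Agent.Lib.Helper8.IW2

set_option autoImplicit false

/-! Ito–Winter (S4467), part 3: characters of subgroups `C ≥ Z(G)` with `[C, C] ≤ Z(G)` and
`Z(C) ≤ Z(G)`: `|C : Z(G)|` is a square. -/

namespace Cfsg.Agent.Lib.Helper8.IW

open Cfsg Cfsg.Agent.Lib.Helper1 Cfsg.Agent.Lib.Helper4 Cfsg.Agent.S0193
open scoped ComplexConjugate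

universe u

section Cons

variable {G : Type u} [Group G] [Fintype G]

/-- a constituent of the restriction of `χ` to `C` that is trivial at a central element `z` of
`G`: then `χ z = χ 1`. -/
theorem cons_central {χ : G → ℂ} (hχ : IsIrrCharacter G χ) (C : Subgroup G) [Fintype C]
    {μ : C → ℂ} (hμ : IsIrrCharacter C μ) (hcon : classInner (fun c : C => χ c) μ ≠ 0)
    (z : C) (hz : (z : G) ∈ Subgroup.center G) (hμz : μ z = μ 1) : χ z = χ 1 := by
  have hzC : z ∈ Subgroup.center C := by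
    rw [Subgroup.mem_center_iff]
    intro g
    apply Subtype.ext
    exact Subgroup.mem_center_iff.1 hz g
  have hμ1 : μ 1 ≠ 0 := irr_apply_one_ne_zero hμ
  have hχ1 : χ 1 ≠ 0 := irr_apply_one_ne_zero hχ
  have h1 : ∀ c : C, μ (z * c) = μ c := by
    intro c
    rw [Cfsg.Agent.Lib.Helper4.BL.irr_central_mul hμ hzC c, hμz, div_self hμ1, one_mul]
  have h2 : ∀ c : C, χ ((z * c : C) : G) = χ z / χ 1 * χ c := by
    intro c
    exact Cfsg.Agent.Lib.Helper4.BL.irr_central_mul hχ hz c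
  set S : ℂ := ∑ c : C, χ c * conj (μ c) with hS
  have hS0 : S ≠ 0 := by
    intro h
    apply hcon
    unfold classInner
    rw [← hS, h, mul_zero]
  have h3 : S = χ z / χ 1 * S := by
    have h4 : S = ∑ c : C, χ ((z * c : C) : G) * conj (μ (z * c)) := by
      rw [hS]
      exact (Equiv.sum_comp (Equiv.mulLeft z) (fun c : C => χ c * conj (μ c))).symm
    calc S = ∑ c : C, χ ((z * c : C) : G) * conj (μ (z * c)) := h4
      _ = ∑ c : C, χ z / χ 1 * (χ c * conj (μ c)) := by
          apply Finset.sum_congr rfl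
          intro c _
          rw [h1, h2]
          ring
      _ = χ z / χ 1 * S := by rw [hS, Finset.mul_sum]
  have h5 : χ z / χ 1 = 1 := by
    have h6 : (χ z / χ 1 - 1) * S = 0 := by
      rw [sub_mul, one_mul, ← h3, sub_self]
    rcases mul_eq_zero.1 h6 with h | h
    · exact sub_eq_zero.1 h
    · exact absurd h hS0
  rw [div_eq_one_iff_eq hχ1] at h5
  exact h5

/-- `|C : Z(G)|` is the square of the degree of a constituent of `χ_C`. -/
theorem exists_sq_relIndex {χ : G → ℂ} (hχ : IsIrrCharacter G χ)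
    (hfaith : ∀ g, χ g = χ 1 → g = 1) (C : Subgroup G) [Fintype C]
    (hCc : ∀ a ∈ C, ∀ b ∈ C, a * b * a⁻¹ * b⁻¹ ∈ Subgroup.center G)
    (hCZ : ∀ x ∈ C, (∀ c ∈ C, x * c = c * x) → x ∈ Subgroup.center G) :
    ∃ μ : C → ℂ, IsIrrCharacter C μ ∧ classInner (fun c : C => χ c) μ ≠ 0 ∧
      ∃ s : ℕ, μ 1 = s ∧ s ^ 2 = (Subgroup.center G).relIndex C := by
  classical
  have hres : IsCharacter C (fun c : C => χ c) :=
    Cfsg.Agent.S0148.isCharacter_restrict C (isCharacter_of_irr hχ)
  obtain ⟨μ, hμ, m0, hm0, hm0'⟩ := exists_constituent hres (irr_apply_one_ne_zero hχ)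
  have hcon : classInner (fun c : C => χ c) μ ≠ 0 := by
    rw [hm0']; exact Nat.cast_ne_zero.2 hm0.ne'
  refine ⟨μ, hμ, hcon, ?_⟩
  set Y : Subgroup C := (Subgroup.center G).subgroupOf C with hY
  haveI : Y.Normal := by rw [hY]; infer_instance
  haveI : Fintype Y := Fintype.ofFinite Y
  have hYc : ∀ y : C, y ∈ Y → y ∈ Subgroup.center C := by
    intro y hy
    rw [Subgroup.mem_center_iff]
    intro g
    apply Subtype.ext
    exact Subgroup.mem_center_iff.1 (Subgroup.mem_subgroupOf.1 hy) g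
  -- μ vanishes off Y
  have hvan : ∀ x : C, μ x ≠ 0 → x ∈ Y := by
    intro x hx
    by_contra hxY
    have hxZ : (x : G) ∉ Subgroup.center G := fun h => hxY (Subgroup.mem_subgroupOf.2 h)
    have : ¬ ∀ c ∈ C, (x : G) * c = c * x := fun h => hxZ (hCZ x x.2 h)
    push_neg at this
    obtain ⟨c, hcC, hcx⟩ := this
    let c' : C := ⟨c, hcC⟩
    let k : C := c' * x * c'⁻¹ * x⁻¹
    have hkZ : (k : G) ∈ Subgroup.center G := hCc c hcC x x.2
    have hkY : k ∈ Y := Subgroup.mem_subgroupOf.2 hkZ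
    have hk1 : k ≠ 1 := by
      intro h
      apply hcx
      have h2 : c' * x * c'⁻¹ * x⁻¹ = 1 := h
      have h3 : c' * x = x * c' := by
        calc c' * x = c' * x * c'⁻¹ * x⁻¹ * (x * c') := by group
          _ = x * c' := by rw [h2, one_mul]
      exact (congrArg Subtype.val h3).symm
    have h4 : c' * x * c'⁻¹ = k * x := by
      show c' * x * c'⁻¹ = c' * x * c'⁻¹ * x⁻¹ * x
      group
    have h5 : μ x = μ k / μ 1 * μ x := by
      have h6 := isClassFunction_irr hμ x c'
      rw [h4] at h6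
      calc μ x = μ (k * x) := h6.symm
        _ = μ k / μ 1 * μ x := Cfsg.Agent.Lib.Helper4.BL.irr_central_mul hμ (hYc k hkY) x
    have hμ1 : μ 1 ≠ 0 := irr_apply_one_ne_zero hμ
    have h7 : μ k / μ 1 = 1 := by
      have h8 : (μ k / μ 1 - 1) * μ x = 0 := by
        rw [sub_mul, one_mul, ← h5, sub_self]
      rcases mul_eq_zero.1 h8 with h | h
      · exact sub_eq_zero.1 h
      · exact absurd h hx
    rw [div_eq_one_iff_eq hμ1] at h7
    have h9 := cons_central hχ C hμ hcon k hkZ h7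
    have h10 : (k : G) = 1 := hfaith _ h9
    exact hk1 (Subtype.ext h10)
  -- the restriction of μ to Y is homogeneous
  have hresY : IsCharacter Y (fun y : Y => μ y) :=
    Cfsg.Agent.S0148.isCharacter_restrict Y (isCharacter_of_irr hμ)
  obtain ⟨φ, hφ, m1, hm1, hm1'⟩ := exists_constituent hresY (irr_apply_one_ne_zero hμ)
  have hconY : classInner (fun y : Y => μ y) φ ≠ 0 := by
    rw [hm1']; exact Nat.cast_ne_zero.2 hm1.ne'
  have hT : inertia Y φ = ⊤ := by
    rw [eq_top_iff]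
    intro g _
    rw [mem_inertia]
    funext y
    have hy : g * (y : C) * g⁻¹ = y := by
      have := Subgroup.mem_center_iff.1 (hYc y y.2) g
      rw [this]; group
    show φ ⟨g * (y : C) * g⁻¹, _⟩ = φ y
    congr 1
    exact Subtype.ext hy
  obtain ⟨m, hm, hmφ, hnorm⟩ :=
    Cfsg.Agent.Lib.Helper2.ChiefRestrict.restrict_of_inertia_top Y hμ hφ hconY hT
  have hsq := Cfsg.Agent.Lib.Helper2.ChiefRestrict.sq_eq_index_of_vanish Y hμ hnorm hvan
  have hφ1 : φ 1 = 1 := by
    apply Cfsg.Agent.S0176.irr_linear_of_comm _ hφ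
    intro a b
    have := Subgroup.mem_center_iff.1 (hYc a a.2) b
    apply Subtype.ext
    exact this.symm
  refine ⟨m, ?_, ?_⟩
  · have h1 := congrFun hmφ 1
    rw [Pi.smul_apply, hφ1, smul_eq_mul, mul_one] at h1
    exact h1
  · rw [hsq]; rfl

end Cons

end Cfsg.Agent.Lib.Helper8.IW
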