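import Mathlib
import Cfsg.Prelude
import Cfsg.Agent.Lib.Helper8.DH20
import Cfsg.Agent.Lib.Helper8.IW3

set_option autoImplicit false

/-! Isaacs–Passman (S4463), part 1: the largest irreducible character degree `bdeg`. -/

namespace Cfsg.Agent.Lib.Helper8.IP

open Cfsg Cfsg.Agent.Lib.Helper1 Cfsg.Agent.Lib.Helper4 Cfsg.Agent.S0193
open scoped ComplexConjugate

universe u

/-- the largest irreducible character degree -/
noncomputable def bdeg (G : Type u) [Group G] : ℕ :=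
  sSup {d : ℕ | ∃ χ : G → ℂ, IsIrrCharacter G χ ∧ χ 1 = d}

section Basic

variable {G : Type u} [Group G] [Finite G]

theorem degSet_bddAbove : BddAbove {d : ℕ | ∃ χ : G → ℂ, IsIrrCharacter G χ ∧ χ 1 = d} := by
  refine ⟨Nat.card G, ?_⟩
  rintro d ⟨χ, hχ, hd⟩
  obtain ⟨d', hd', -, hdvd⟩ := Cfsg.Agent.Lib.Helper4.TD.irr_degree hχ
  have : d = d' := by
    have : (d : ℂ) = (d' : ℂ) := by rw [← hd, hd']
    exact_mod_cast this
  rw [this]
  exact Nat.le_of_dvd Nat.card_pos hdvd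

theorem exists_irr (G : Type u) [Group G] [Finite G] : ∃ χ : G → ℂ, IsIrrCharacter G χ := by
  have h1 : Nat.card (IrrCharacter G) = Nat.card (ConjClasses G) := card_irr_eq_card_conjClasses
  have h2 : 0 < Nat.card (ConjClasses G) := Nat.card_pos
  rw [← h1] at h2
  haveI : Nonempty (IrrCharacter G) := (Nat.card_pos_iff.1 h2).1
  obtain ⟨χ⟩ := ‹Nonempty (IrrCharacter G)›
  exact ⟨χ.1, χ.2⟩

theorem degSet_nonempty :
    {d : ℕ | ∃ χ : G → ℂ, IsIrrCharacter G χ ∧ χ 1 = d}.Nonempty := by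
  obtain ⟨χ, hχ⟩ := exists_irr G
  obtain ⟨d, hd, -, -⟩ := Cfsg.Agent.Lib.Helper4.TD.irr_degree hχ
  exact ⟨d, χ, hχ, hd⟩

theorem le_bdeg {χ : G → ℂ} (hχ : IsIrrCharacter G χ) {d : ℕ} (hd : χ 1 = d) : d ≤ bdeg G :=
  le_csSup degSet_bddAbove ⟨χ, hχ, hd⟩

theorem exists_bdeg (G : Type u) [Group G] [Finite G] :
    ∃ χ : G → ℂ, IsIrrCharacter G χ ∧ χ 1 = bdeg G :=
  Nat.sSup_mem degSet_nonempty degSet_bddAbove

theorem bdeg_pos (G : Type u) [Group G] [Finite G] : 0 < bdeg G := by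
  obtain ⟨χ, hχ, hb⟩ := exists_bdeg G
  obtain ⟨d, hd, hd0, -⟩ := Cfsg.Agent.Lib.Helper4.TD.irr_degree hχ
  have : bdeg G = d := by
    have : (bdeg G : ℂ) = (d : ℂ) := by rw [← hd, hb]
    exact_mod_cast this
  rw [this]; exact hd0

theorem bdeg_le_of_forall {m : ℕ}
    (h : ∀ χ : G → ℂ, IsIrrCharacter G χ → ∀ d : ℕ, χ 1 = d → d ≤ m) : bdeg G ≤ m := by
  obtain ⟨χ, hχ, hb⟩ := exists_bdeg G
  exact h χ hχ _ hb

/-- a nonabelian group has `bdeg ≥ 2` -/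
theorem two_le_bdeg (h : ¬ ∀ a b : G, a * b = b * a) : 2 ≤ bdeg G := by
  obtain ⟨χ, hχ, hχ1⟩ := Cfsg.Agent.Lib.Helper4.TD.exists_nonlinear h
  obtain ⟨d, hd, hd0, -⟩ := Cfsg.Agent.Lib.Helper4.TD.irr_degree hχ
  have hd1 : d ≠ 1 := by
    intro h1
    apply hχ1
    rw [hd, h1]; simp
  have := le_bdeg hχ hd
  omega

theorem bdeg_quotient_le (N : Subgroup G) [N.Normal] : bdeg (G ⧸ N) ≤ bdeg G := by
  apply bdeg_le_of_forall
  intro ψ hψ d hd
  have h1 := Cfsg.Agent.Lib.Helper8.isIrrCharacter_inflation N hψ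
  apply le_bdeg h1
  show ψ (QuotientGroup.mk 1) = d
  rw [QuotientGroup.mk_one]; exact hd

theorem bdeg_normal_le (N : Subgroup G) [N.Normal] : bdeg N ≤ bdeg G := by
  classical
  haveI : Fintype G := Fintype.ofFinite G
  haveI : Fintype N := Fintype.ofFinite N
  apply bdeg_le_of_forall
  intro ψ hψ d hd
  obtain ⟨χ, hχ, hcon⟩ := Cfsg.Agent.Lib.Helper2.CliffordDeg.exists_irr_over N hψ
  obtain ⟨c, hc, hc0, -⟩ := Cfsg.Agent.Lib.Helper4.TD.irr_degree hχ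
  have hdvd := Cfsg.Agent.Lib.Helper2.CliffordDeg.degree_dvd_of_constituent N hχ hψ hcon hd hc
  exact (Nat.le_of_dvd hc0 hdvd).trans (le_bdeg hχ hc)

/-- `bdeg` agrees with the greatest element of the degree set of the statement -/
theorem eq_bdeg_of_isGreatest {b : ℕ}
    (hb : IsGreatest {d : ℕ | ∃ χ : IrrCharacter G, charDegree (χ : G → ℂ) = d} b) :
    b = bdeg G := by
  apply le_antisymm
  · obtain ⟨χ, hχ⟩ := hb.1
    obtain ⟨h1, -⟩ := Cfsg.Agent.Lib.Helper8.irr_apply_one_eq_charDegree χ.2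
    rw [hχ] at h1
    exact le_bdeg χ.2 h1
  · obtain ⟨χ, hχ, hχb⟩ := exists_bdeg G
    obtain ⟨h1, -⟩ := Cfsg.Agent.Lib.Helper8.irr_apply_one_eq_charDegree hχ
    have h2 : charDegree χ = bdeg G := by
      have : (charDegree χ : ℂ) = (bdeg G : ℂ) := by rw [← h1, hχb]
      exact_mod_cast this
    exact hb.2 ⟨⟨χ, hχ⟩, h2⟩

end Basic

end Cfsg.Agent.Lib.Helper8.IP
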