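import Mathlib
import Cfsg.Prelude
import Cfsg.Agent.Lib.Helper8.IP1
import Cfsg.Agent.Lib.Helper8.GF2
import Cfsg.Agent.Lib.Helper8.ClassCount

set_option autoImplicit false

/-! Isaacs–Passman (S4463), part 2: `2 b(K) ≤ b(G)` for `G/K` nonabelian, and the existence of a
nontrivial class of size at most `b(G)²`. -/

namespace Cfsg.Agent.Lib.Helper8.IP

open Cfsg Cfsg.Agent.Lib.Helper1 Cfsg.Agent.Lib.Helper4 Cfsg.Agent.S0193
open scoped ComplexConjugate

universe u

section Gal

variable {G : Type u} [Group G] [Finite G]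

theorem conjFun_apply_one (K : Subgroup G) [hK : K.Normal] (φ : K → ℂ) (g : G) :
    Cfsg.Agent.S0193.conjFun K φ g 1 = φ 1 := by
  show φ ⟨g * ((1 : K) : G) * g⁻¹, _⟩ = φ 1
  congr 1
  apply Subtype.ext
  show g * ((1 : K) : G) * g⁻¹ = ((1 : K) : G)
  simp

/-- If `G / K` is nonabelian then `2 b(K) ≤ b(G)`. -/
theorem two_mul_bdeg_le (K : Subgroup G) [hK : K.Normal]
    (hnab : ∃ a b : G, a * b * a⁻¹ * b⁻¹ ∉ K) : 2 * bdeg K ≤ bdeg G := by
  classical
  haveI : Fintype G := Fintype.ofFinite G
  haveI : Fintype K := Fintype.ofFinite K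
  obtain ⟨ψ, hψ, hψb⟩ := exists_bdeg K
  set c := bdeg K with hc
  obtain ⟨χ, hχ, hcon⟩ := Cfsg.Agent.Lib.Helper2.CliffordDeg.exists_irr_over K hψ
  obtain ⟨F, hF, hψF, hFconj, -, hFsum⟩ :=
    Cfsg.Agent.Lib.Helper2.ChiefRestrict.clifford_finset K hχ hψ hcon
  have hres : IsCharacter K (fun n : K => χ n) :=
    Cfsg.Agent.S0148.isCharacter_restrict K (isCharacter_of_irr hχ)
  obtain ⟨e, he⟩ := classInner_char_irr_nat hres hψ
  have he0 : e ≠ 0 := by
    intro h; apply hcon; rw [he, h]; simp
  obtain ⟨d, hd, -, -⟩ := Cfsg.Agent.Lib.Helper4.TD.irr_degree hχ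
  have hF1 : ∀ ψ' ∈ F, ψ' 1 = (c : ℂ) := by
    intro ψ' hψ'
    obtain ⟨g, rfl⟩ := hFconj ψ' hψ'
    rw [conjFun_apply_one, hψb]
  have hdeq : d = e * (F.card * c) := by
    have h1 := congrFun hFsum 1
    simp only [Pi.smul_apply, Finset.sum_apply, smul_eq_mul] at h1
    rw [Finset.sum_congr rfl hF1, Finset.sum_const, nsmul_eq_mul, he] at h1
    have h2 : χ ((1 : K) : G) = χ 1 := rfl
    rw [h2, hd] at h1
    exact_mod_cast h1
  have hFpos : 0 < F.card := Finset.card_pos.2 ⟨ψ, hψF⟩
  have hdb : d ≤ bdeg G := le_bdeg hχ hd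
  by_cases h2 : 2 ≤ e * F.card
  · calc 2 * c ≤ e * F.card * c := Nat.mul_le_mul_right c h2
      _ = d := by rw [hdeq]; ring
      _ ≤ bdeg G := hdb
  · -- e = 1 and F = {ψ}: χ extends ψ
    have he1 : e = 1 := by
      have : e * F.card < 2 := not_le.1 h2
      have h3 : 0 < e := Nat.pos_of_ne_zero he0
      nlinarith
    have hFc1 : F.card = 1 := by
      have : e * F.card < 2 := not_le.1 h2
      rw [he1, one_mul] at this
      omega
    obtain ⟨a, ha⟩ := Finset.card_eq_one.1 hFc1
    have haψ : a = ψ := by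
      rw [ha, Finset.mem_singleton] at hψF
      exact hψF.symm
    have hext : ∀ n : K, χ n = ψ n := by
      intro n
      have h1 := congrFun hFsum n
      rw [he, he1, ha, haψ] at h1
      simpa using h1
    have hinv : ∀ (g : G) (n : K), ψ ⟨g * n * g⁻¹, hK.conj_mem (n : G) n.2 g⟩ = ψ n := by
      intro g n
      rw [← hext, ← hext]
      exact isClassFunction_irr hχ n g
    obtain ⟨hgal, -, -⟩ := Cfsg.Agent.Lib.Helper8.GF.gallagher_abs K hψ hinv hχ hext
    -- a nonlinear irreducible character of G ⧸ K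
    have hQnab : ¬ ∀ a b : G ⧸ K, a * b = b * a := by
      intro h
      obtain ⟨a, b, hab⟩ := hnab
      apply hab
      rw [← QuotientGroup.eq_one_iff]
      simp only [QuotientGroup.mk_mul, QuotientGroup.mk_inv]
      rw [h (a : G ⧸ K) (b : G ⧸ K)]; group
    obtain ⟨β, hβ, hβ1⟩ := Cfsg.Agent.Lib.Helper4.TD.exists_nonlinear hQnab
    obtain ⟨f, hf, hf0, -⟩ := Cfsg.Agent.Lib.Helper4.TD.irr_degree hβ
    have hf2 : 2 ≤ f := by
      have : f ≠ 1 := by
        intro h; apply hβ1; rw [hf, h]; simp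
      omega
    have hβG := Cfsg.Agent.Lib.Helper8.isIrrCharacter_inflation K hβ
    have hβK : ∀ n ∈ K, (fun g : G => β (QuotientGroup.mk g)) n =
        (fun g : G => β (QuotientGroup.mk g)) 1 := by
      intro n hn
      show β (QuotientGroup.mk n) = β (QuotientGroup.mk 1)
      rw [(QuotientGroup.eq_one_iff n).2 hn, QuotientGroup.mk_one]
    obtain ⟨hirr, -⟩ := hgal _ hβG hβK
    have hdeg : ((fun g : G => β (QuotientGroup.mk g)) * χ) 1 = ((f * c : ℕ) : ℂ) := by
      show β (QuotientGroup.mk 1) * χ 1 = _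
      rw [QuotientGroup.mk_one, hf]
      have h3 : χ 1 = (c : ℂ) := by
        have := hext 1
        rw [hψb] at this
        exact this
      rw [h3]; push_cast; ring
    have h4 := le_bdeg hirr hdeg
    calc 2 * c ≤ f * c := Nat.mul_le_mul_right c hf2
      _ ≤ bdeg G := h4

end Gal

section SmallClass

open Finset

variable {X : Type u} [Group X] [Finite X]

theorem card_filter_commute_eq [Fintype X] [DecidableEq X] (a : X) :
    #(univ.filter (fun b : X => a * b = b * a)) = Nat.card (Subgroup.centralizer {a}) := by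
  classical
  rw [Nat.card_eq_fintype_card, Fintype.card_subtype]
  congr 1
  ext b
  simp only [mem_filter, mem_univ, true_and]
  rw [Subgroup.mem_centralizer_iff]
  constructor
  · intro h g hg
    have hg' : g = a := hg
    rw [hg']; exact h
  · intro h
    exact h a (Set.mem_singleton a)

/-- the sum of the squares of the irreducible degrees, bounded with the trivial character
separated -/
theorem card_le_one_add (X : Type u) [Group X] [Finite X] :
    Nat.card X + (bdeg X) ^ 2 ≤ 1 + Nat.card (ConjClasses X) * (bdeg X) ^ 2 := by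
  classical
  haveI : Fintype X := Fintype.ofFinite X
  haveI : Fintype (IrrCharacter X) := Fintype.ofFinite _
  have hcol := column_orthogonality (G := X) 1 1
  have hC1 : Nat.card (Subgroup.centralizer ({1} : Set X)) = Nat.card X := by
    have : Subgroup.centralizer ({1} : Set X) = ⊤ := by
      rw [eq_top_iff]
      intro g _
      rw [Subgroup.mem_centralizer_iff]
      intro h hh
      have : h = 1 := hh
      rw [this]; simp
    rw [this, Subgroup.card_top]
  have hci : classIndicator (1 : X) 1 = 1 := by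
    unfold classIndicator
    rw [if_pos (IsConj.refl 1)]
  rw [hC1, hci, mul_one] at hcol
  -- degrees as naturals
  have hdeg : ∀ χ : IrrCharacter X, (χ : X → ℂ) 1 = (charDegree (χ : X → ℂ) : ℂ) :=
    fun χ => (Cfsg.Agent.Lib.Helper8.irr_apply_one_eq_charDegree χ.2).1
  have hsum : ∑ χ : IrrCharacter X, (charDegree (χ : X → ℂ)) ^ 2 = Nat.card X := by
    have : ((∑ χ : IrrCharacter X, (charDegree (χ : X → ℂ)) ^ 2 : ℕ) : ℂ) = (Nat.card X : ℂ) := by
      rw [← hcol]
      push_cast
      apply Finset.sum_congr rfl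
      intro χ _
      rw [hdeg χ]
      simp [pow_two]
    exact_mod_cast this
  let t : IrrCharacter X := ⟨fun _ => (1 : ℂ), Cfsg.Agent.S0161.isIrrCharacter_one⟩
  have ht : charDegree (t : X → ℂ) = 1 := by
    have := hdeg t
    have h1 : (t : X → ℂ) 1 = 1 := rfl
    rw [h1] at this
    exact_mod_cast this.symm
  have hle : ∀ χ : IrrCharacter X, charDegree (χ : X → ℂ) ≤ bdeg X :=
    fun χ => le_bdeg χ.2 (hdeg χ)
  have hk : Nat.card (IrrCharacter X) = Nat.card (ConjClasses X) := card_irr_eq_card_conjClasses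
  rw [← hk, Nat.card_eq_fintype_card (α := IrrCharacter X)]
  rw [← hsum, ← Finset.add_sum_erase Finset.univ _ (Finset.mem_univ t), ht]
  have h2 : ∑ χ ∈ Finset.univ.erase t, (charDegree (χ : X → ℂ)) ^ 2 ≤
      ∑ _χ ∈ Finset.univ.erase t, (bdeg X) ^ 2 :=
    Finset.sum_le_sum (fun χ _ => Nat.pow_le_pow_left (hle χ) 2)
  rw [Finset.sum_const, smul_eq_mul, Finset.card_erase_of_mem (Finset.mem_univ t),
    Finset.card_univ] at h2
  have h3 : 0 < Fintype.card (IrrCharacter X) := Fintype.card_pos_iff.2 ⟨t⟩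
  have h4 : (Fintype.card (IrrCharacter X) - 1) * bdeg X ^ 2 + bdeg X ^ 2 =
      Fintype.card (IrrCharacter X) * bdeg X ^ 2 := by
    have : Fintype.card (IrrCharacter X) = (Fintype.card (IrrCharacter X) - 1) + 1 := by omega
    conv_rhs => rw [this]
    ring
  omega

/-- a nontrivial finite group has a nontrivial conjugacy class of size at most `b²` -/
theorem exists_small_class (X : Type u) [Group X] [Finite X] [Nontrivial X] :
    ∃ x : X, x ≠ 1 ∧ (Subgroup.centralizer {x}).index ≤ (bdeg X) ^ 2 := by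
  classical
  haveI : Fintype X := Fintype.ofFinite X
  by_contra hno
  push_neg at hno
  set n := Nat.card X with hn
  set k := Nat.card (ConjClasses X) with hk
  set b := bdeg X with hb
  have h1 := card_le_one_add X
  rw [← hn, ← hk, ← hb] at h1
  have h2 := Cfsg.Agent.Lib.Helper8.card_conjClasses_mul_card X
  rw [← hn, ← hk] at h2
  have hn2 : 2 ≤ n := by
    rw [hn]
    exact Finite.one_lt_card
  -- each nontrivial centraliser is small
  have hsmall : ∀ a : X, a ≠ 1 →
      #(univ.filter (fun c : X => a * c = c * a)) * (b ^ 2 + 1) ≤ n := by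
    intro a ha
    have h3 := hno a ha
    have h4 := Subgroup.card_mul_index (Subgroup.centralizer {a})
    have h5 : #(univ.filter (fun c : X => a * c = c * a)) =
        Nat.card (Subgroup.centralizer {a}) := by
      convert card_filter_commute_eq a
    rw [h5, hn, ← h4]
    exact Nat.mul_le_mul_left _ h3
  have hone : #(univ.filter (fun c : X => (1 : X) * c = c * 1)) = n := by
    rw [hn, Nat.card_eq_fintype_card, ← Finset.card_univ]
    congr 1
    ext c
    simp
  have hsum : (∑ a : X, #(univ.filter (fun c : X => a * c = c * a))) * (b ^ 2 + 1) ≤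
      n * (b ^ 2 + 1) + (n - 1) * n := by
    rw [← Finset.add_sum_erase Finset.univ _ (Finset.mem_univ (1 : X)), add_mul, hone,
      Finset.sum_mul]
    apply Nat.add_le_add_left
    calc ∑ a ∈ Finset.univ.erase (1 : X), #(univ.filter (fun c : X => a * c = c * a)) * (b ^ 2 + 1)
        ≤ ∑ _a ∈ Finset.univ.erase (1 : X), n :=
          Finset.sum_le_sum (fun a ha => hsmall a (Finset.ne_of_mem_erase ha))
      _ = (n - 1) * n := by
          rw [Finset.sum_const, smul_eq_mul, Finset.card_erase_of_mem (Finset.mem_univ _),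
            Finset.card_univ, ← Nat.card_eq_fintype_card]
  rw [← h2] at hsum
  -- k n (b²+1) ≤ n (b²+1) + (n-1) n, so k (b²+1) ≤ b² + n
  have h6 : k * (b ^ 2 + 1) ≤ (b ^ 2 + 1) + (n - 1) := by
    have h7 : n * (k * (b ^ 2 + 1)) ≤ n * ((b ^ 2 + 1) + (n - 1)) := by
      calc n * (k * (b ^ 2 + 1)) = k * n * (b ^ 2 + 1) := by ring
        _ ≤ n * (b ^ 2 + 1) + (n - 1) * n := hsum
        _ = n * ((b ^ 2 + 1) + (n - 1)) := by ring
    exact Nat.le_of_mul_le_mul_left h7 (by omega)
  -- combine with h1 : n + b² ≤ 1 + k b²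
  have h8 : k * (b ^ 2 + 1) = k * b ^ 2 + k := by ring
  have hk1 : 1 ≤ k := by
    rw [hk]
    exact Nat.card_pos
  have : k ≤ 1 := by omega
  have hk' : k = 1 := le_antisymm this hk1
  rw [hk', one_mul] at h1
  omega

end SmallClass

end Cfsg.Agent.Lib.Helper8.IP
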