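import Mathlib
import Cfsg.Prelude
import Cfsg.Agent.Lib.Helper8.IP2
import Cfsg.Agent.Lib.Helper4.TD14

set_option autoImplicit false

/-! Isaacs–Passman (S4463), part 3: a subgroup `H` having an irreducible character of degree
`b(G)`: the character vanishes off the core of `H` and `|H : core| ≤ b(G)²`. -/

namespace Cfsg.Agent.Lib.Helper8.IP

open Cfsg Cfsg.Agent.Lib.Helper1 Cfsg.Agent.Lib.Helper4 Cfsg.Agent.S0193
open Cfsg.Agent.Lib.Helper2.ChiefRestrict
open scoped ComplexConjugate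

universe u

section TPlus

variable {G : Type u} [Group G] [Fintype G]

/-- every constituent of `ψ^G` extends `ψ`, when `ψ(1) = b(G)` -/
theorem extends_of_degree_bdeg (H : Subgroup G) [Fintype H] {ψ : H → ℂ}
    (hψ : IsIrrCharacter H ψ) (hψb : ψ 1 = bdeg G) {χ : G → ℂ} (hχ : IsIrrCharacter G χ)
    (hcon : classInner (fun h : H => χ h) ψ ≠ 0) : (fun h : H => χ h) = ψ := by
  have hres : IsCharacter H (fun h : H => χ h) :=
    Cfsg.Agent.S0148.isCharacter_restrict H (isCharacter_of_irr hχ)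
  obtain ⟨d, hd, -, -⟩ := Cfsg.Agent.Lib.Helper4.TD.irr_degree hχ
  have hd' : (fun h : H => χ h) 1 = d := hd
  obtain ⟨h1, h2⟩ :=
    Cfsg.Agent.Lib.Helper2.RelMAbelian.degree_le_of_constituent hres hψ hcon hd' hψb
  have h3 : d ≤ bdeg G := le_bdeg hχ hd
  exact h2 (le_antisymm h3 h1)

theorem indFun_restrict_eq (H : Subgroup G) [Fintype H] {ψ : H → ℂ}
    (hψ : IsIrrCharacter H ψ) (hψb : ψ 1 = bdeg G) (h : H) :
    indFun H ψ h = (H.index : ℂ) * ψ h := by
  classical
  haveI : Fintype (IrrCharacter G) := Fintype.ofFinite _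
  have hI : IsCharacter G (indFun H ψ) := Cfsg.Agent.S0148.result H ψ (isCharacter_of_irr hψ)
  have hexp := class_function_expansion _ (isClassFunction_of_isCharacter hI)
  set a : IrrCharacter G → ℂ := fun χ => classInner (indFun H ψ) (χ : G → ℂ) with ha
  have hterm : ∀ (χ : IrrCharacter G) (x : H), a χ * (χ : G → ℂ) x = a χ * ψ x := by
    intro χ x
    by_cases h0 : a χ = 0
    · rw [h0, zero_mul, zero_mul]
    · have h1 := Cfsg.Agent.S0146.result H ψ (χ : G → ℂ) (isClassFunction_irr χ.2)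
      have h2 : classInner (fun h : H => (χ : G → ℂ) h) ψ ≠ 0 := by
        intro h3
        apply h0
        show classInner (indFun H ψ) (χ : G → ℂ) = 0
        rw [h1, ← Cfsg.Agent.Lib.Helper4.classInner_conj_symm, h3, map_zero]
      have h4 := extends_of_degree_bdeg H hψ hψb χ.2 h2
      rw [← congrFun h4 x]
  have hval : ∀ x : H, indFun H ψ x = (∑ χ : IrrCharacter G, a χ) * ψ x := by
    intro x
    have h1 := congrFun hexp x
    simp only [Finset.sum_apply, Pi.smul_apply, smul_eq_mul] at h1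
    rw [h1, Finset.sum_mul]
    exact Finset.sum_congr rfl (fun χ _ => hterm χ x)
  have hb0 : ψ 1 ≠ 0 := irr_apply_one_ne_zero hψ
  have hsum : (∑ χ : IrrCharacter G, a χ) = (H.index : ℂ) := by
    have h1 := hval 1
    have h2 := Cfsg.Agent.S0170.indFun_one H ψ
    have h3 : ((1 : H) : G) = 1 := rfl
    rw [h3, h2] at h1
    have h4 : (Nat.card H : ℂ)⁻¹ * ((Nat.card G : ℂ) * ψ 1) = (H.index : ℂ) * ψ 1 := by
      have hH0 : (Nat.card H : ℂ) ≠ 0 := Nat.cast_ne_zero.2 Nat.card_pos.ne'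
      have h5 : (Nat.card G : ℂ) = (Nat.card H : ℂ) * (H.index : ℂ) := by
        rw [← Nat.cast_mul, Subgroup.card_mul_index]
      rw [h5]
      field_simp
    rw [h4] at h1
    exact (mul_right_cancel₀ hb0 h1).symm
  rw [hval h, hsum]

/-- the `T+` lemma -/
theorem tplus (H : Subgroup G) [Fintype H] {ψ : H → ℂ}
    (hψ : IsIrrCharacter H ψ) (hψb : ψ 1 = bdeg G) :
    (∀ x : H, (x : G) ∉ H.normalCore → ψ x = 0) ∧
      H.normalCore.relIndex H ≤ (bdeg G) ^ 2 := by
  classical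
  -- an extension
  obtain ⟨χ₀, hχ₀, hcon₀⟩ := Cfsg.Agent.Lib.Helper8.DH.exists_irr_over' H hψ
  have hext := extends_of_degree_bdeg H hψ hψb hχ₀ hcon₀
  have hnorm : classInner (indFun H ψ) (indFun H ψ) = (H.index : ℂ) := by
    have hI : IsCharacter G (indFun H ψ) := Cfsg.Agent.S0148.result H ψ (isCharacter_of_irr hψ)
    have h1 := Cfsg.Agent.S0146.result H ψ (indFun H ψ) (isClassFunction_of_isCharacter hI)
    rw [h1]
    have h2 : (fun h : H => indFun H ψ h) = (H.index : ℂ) • ψ := by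
      funext h
      rw [indFun_restrict_eq H hψ hψb h]
      rfl
    rw [h2, Cfsg.Agent.Lib.Helper4.classInner_smul_right, classInner_irr_self hψ, mul_one]
    simp
  have hvan0 := Cfsg.Agent.Lib.Helper4.TD.vanish_of_ind_norm H χ₀ (isClassFunction_irr hχ₀)
    (by rw [hext]; exact classInner_irr_self hψ) (by rw [hext]; exact hnorm)
  have hvan : ∀ x : H, (x : G) ∉ H.normalCore → ψ x = 0 := by
    intro x hx
    have : ¬ ∀ g : G, g * (x : G) * g⁻¹ ∈ H := fun h => hx h
    push_neg at this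
    obtain ⟨g, hg⟩ := this
    have h1 := hvan0 x x.2 g hg
    rw [← congrFun hext x]
    exact h1
  refine ⟨hvan, ?_⟩
  -- the index bound
  set Y : Subgroup H := H.normalCore.subgroupOf H with hY
  haveI : Fintype Y := Fintype.ofFinite Y
  have hvanY : ∀ x : H, ψ x ≠ 0 → x ∈ Y := by
    intro x hx
    by_contra hxY
    exact hx (hvan x (fun h => hxY (Subgroup.mem_subgroupOf.2 h)))
  have h1 := nrm_restrict_eq Y ψ hvanY
  rw [nrm_irr hψ] at h1
  obtain ⟨d, hd, -, -⟩ := Cfsg.Agent.Lib.Helper4.TD.irr_degree hψ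
  have hdb : d = bdeg G := by
    have : (d : ℂ) = (bdeg G : ℂ) := by rw [← hd, hψb]
    exact_mod_cast this
  have hbound : ∀ y : Y, Complex.normSq (ψ y) ≤ ((bdeg G : ℝ)) ^ 2 := by
    intro y
    have h2 := Cfsg.Agent.Lib.Helper4.isCharacter_norm_le (isCharacter_of_irr hψ) (y : H)
    rw [hψb] at h2
    have h3 : ((bdeg G : ℂ)).re = (bdeg G : ℝ) := by simp
    rw [h3] at h2
    rw [Complex.normSq_eq_norm_sq]
    exact pow_le_pow_left₀ (norm_nonneg _) h2 2
  have h4 : nrm (fun y : Y => ψ y) ≤ (Nat.card Y : ℝ) * ((bdeg G : ℝ)) ^ 2 := by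
    unfold nrm
    calc ∑ y : Y, Complex.normSq (ψ y) ≤ ∑ _y : Y, ((bdeg G : ℝ)) ^ 2 :=
          Finset.sum_le_sum (fun y _ => hbound y)
      _ = (Nat.card Y : ℝ) * ((bdeg G : ℝ)) ^ 2 := by
          rw [Finset.sum_const, nsmul_eq_mul, Finset.card_univ, Nat.card_eq_fintype_card]
  rw [h1] at h4
  have h5 : Nat.card H ≤ Nat.card Y * (bdeg G) ^ 2 := by exact_mod_cast h4
  have h6 : Nat.card Y * Y.index = Nat.card H := Subgroup.card_mul_index Y
  have h7 : Y.index = H.normalCore.relIndex H := rfl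
  rw [← h7]
  rw [← h6] at h5
  exact Nat.le_of_mul_le_mul_left h5 Nat.card_pos

end TPlus

end Cfsg.Agent.Lib.Helper8.IP
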