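import Mathlib
import Cfsg.Prelude
import Cfsg.Agent.Lib.Helper8.IP3

set_option autoImplicit false

/-! Isaacs–Passman (S4463), part 4: maximal nonabelian quotients, fully ramified characters and
the case of a nonabelian `p`-group quotient. -/

namespace Cfsg.Agent.Lib.Helper8.IP

open Cfsg Cfsg.Agent.Lib.Helper1 Cfsg.Agent.Lib.Helper4 Cfsg.Agent.S0193
open Cfsg.Agent.Lib.Helper2.ChiefRestrict
open scoped ComplexConjugate

universe u

section MaxQuot

variable {G : Type u} [Group G] [Finite G]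

/-- a normal subgroup maximal subject to having a nonabelian quotient -/
theorem exists_max_nonabelian_quotient (M : Subgroup G) [hM : M.Normal]
    (hnab : ∃ a b : G, a * b * a⁻¹ * b⁻¹ ∉ M) :
    ∃ K : Subgroup G, K.Normal ∧ M ≤ K ∧ (∃ a b : G, a * b * a⁻¹ * b⁻¹ ∉ K) ∧
      ∀ L : Subgroup G, L.Normal → K < L → ∀ a b : G, a * b * a⁻¹ * b⁻¹ ∈ L := by
  classical
  obtain ⟨K, hK⟩ := exists_maximal_of_wellFoundedGT
    (fun K : Subgroup G => K.Normal ∧ M ≤ K ∧ ∃ a b : G, a * b * a⁻¹ * b⁻¹ ∉ K)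
    ⟨M, hM, le_refl M, hnab⟩
  obtain ⟨hKn, hMK, hab⟩ := hK.1
  refine ⟨K, hKn, hMK, hab, ?_⟩
  intro L hLn hKL a b
  by_contra h
  have h1 := hK.2 (y := L) ⟨hLn, hMK.trans hKL.le, a, b, h⟩ hKL.le
  exact hKL.not_ge h1

theorem commutator_le_of_max (K : Subgroup G) [hK : K.Normal]
    (hmax : ∀ L : Subgroup G, L.Normal → K < L → ∀ a b : G, a * b * a⁻¹ * b⁻¹ ∈ L)
    (L : Subgroup (G ⧸ K)) (hL : L.Normal) (hLb : L ≠ ⊥) : commutator (G ⧸ K) ≤ L := by
  set L₁ : Subgroup G := L.comap (QuotientGroup.mk' K) with hL₁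
  have hL₁n : L₁.Normal := hL.comap _
  have hKL₁ : K ≤ L₁ := by
    intro x hx
    rw [hL₁, Subgroup.mem_comap]
    have : (QuotientGroup.mk' K) x = 1 := (QuotientGroup.eq_one_iff x).2 hx
    rw [this]; exact L.one_mem
  have hne : K ≠ L₁ := by
    intro h
    apply hLb
    rw [eq_bot_iff]
    intro y hy
    obtain ⟨x, rfl⟩ := QuotientGroup.mk_surjective y
    have hx : x ∈ L₁ := hy
    rw [← h] at hx
    rw [Subgroup.mem_bot]
    exact (QuotientGroup.eq_one_iff x).2 hx
  have hall := hmax L₁ hL₁n (lt_of_le_of_ne hKL₁ hne)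
  rw [commutator_def, Subgroup.commutator_le]
  intro y₁ _ y₂ _
  obtain ⟨x₁, rfl⟩ := QuotientGroup.mk_surjective y₁
  obtain ⟨x₂, rfl⟩ := QuotientGroup.mk_surjective y₂
  have := hall x₁ x₂
  rw [hL₁, Subgroup.mem_comap] at this
  simpa [commutatorElement_def] using this

theorem quotient_nonabelian (K : Subgroup G) [hK : K.Normal]
    (hnab : ∃ a b : G, a * b * a⁻¹ * b⁻¹ ∉ K) : ¬ ∀ a b : G ⧸ K, a * b = b * a := by
  intro h
  obtain ⟨a, b, hab⟩ := hnab
  apply hab
  rw [← QuotientGroup.eq_one_iff]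
  simp only [QuotientGroup.mk_mul, QuotientGroup.mk_inv]
  rw [h (a : G ⧸ K) (b : G ⧸ K)]; group

end MaxQuot

section Ramified

variable {Q : Type u} [Group Q] [Fintype Q]

/-- a faithful irreducible character of a group of class two is fully ramified over the centre -/
theorem sq_center {β : Q → ℂ} (hβ : IsIrrCharacter Q β) (hfaith : ∀ g, β g = β 1 → g = 1)
    (hcl : ∀ a b : Q, a * b * a⁻¹ * b⁻¹ ∈ Subgroup.center Q) :
    ∃ s : ℕ, β 1 = s ∧ s ^ 2 = (Subgroup.center Q).index ∧
      (∀ x : Q, x ∉ Subgroup.center Q → β x = 0) ∧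
      ∀ z ∈ Subgroup.center Q, Complex.normSq (β z) = (s : ℝ) ^ 2 := by
  classical
  set Y : Subgroup Q := Subgroup.center Q with hY
  haveI : Fintype Y := Fintype.ofFinite Y
  have hβ1 : β 1 ≠ 0 := irr_apply_one_ne_zero hβ
  have hvan : ∀ x : Q, β x ≠ 0 → x ∈ Y := by
    intro x hx
    by_contra hxY
    have : ¬ ∀ c : Q, c * x = x * c := fun h => hxY (Subgroup.mem_center_iff.2 h)
    push_neg at this
    obtain ⟨c, hc⟩ := this
    set k : Q := c * x * c⁻¹ * x⁻¹ with hk
    have hkY : k ∈ Y := hcl c x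
    have hk1 : k ≠ 1 := by
      intro h
      apply hc
      calc c * x = c * x * c⁻¹ * x⁻¹ * (x * c) := by group
        _ = x * c := by rw [← hk, h, one_mul]
    have h4 : c * x * c⁻¹ = k * x := by rw [hk]; group
    have h5 : β x = β k / β 1 * β x := by
      have h6 := isClassFunction_irr hβ x c
      rw [h4] at h6
      calc β x = β (k * x) := h6.symm
        _ = β k / β 1 * β x := Cfsg.Agent.Lib.Helper4.BL.irr_central_mul hβ hkY x
    have h7 : β k / β 1 = 1 := by
      have h8 : (β k / β 1 - 1) * β x = 0 := by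
        rw [sub_mul, one_mul, ← h5, sub_self]
      rcases mul_eq_zero.1 h8 with h | h
      · exact sub_eq_zero.1 h
      · exact absurd h hx
    rw [div_eq_one_iff_eq hβ1] at h7
    exact hk1 (hfaith k h7)
  have hresY : IsCharacter Y (fun y : Y => β y) :=
    Cfsg.Agent.S0148.isCharacter_restrict Y (isCharacter_of_irr hβ)
  obtain ⟨φ, hφ, m1, hm1, hm1'⟩ := exists_constituent hresY hβ1
  have hconY : classInner (fun y : Y => β y) φ ≠ 0 := by
    rw [hm1']; exact Nat.cast_ne_zero.2 hm1.ne'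
  have hT : inertia Y φ = ⊤ := by
    rw [eq_top_iff]
    intro g _
    rw [mem_inertia]
    funext y
    have hy : g * (y : Q) * g⁻¹ = y := by
      have := Subgroup.mem_center_iff.1 y.2 g
      rw [this]; group
    show φ ⟨g * (y : Q) * g⁻¹, _⟩ = φ y
    congr 1
    exact Subtype.ext hy
  obtain ⟨m, hm, hmφ, hnorm⟩ := restrict_of_inertia_top Y hβ hφ hconY hT
  have hsq := sq_eq_index_of_vanish Y hβ hnorm hvan
  have hφ1 : φ 1 = 1 := by
    apply Cfsg.Agent.S0176.irr_linear_of_comm _ hφ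
    intro a b
    have := Subgroup.mem_center_iff.1 a.2 b
    apply Subtype.ext
    exact this.symm
  have hβm : β 1 = m := by
    have h1 := congrFun hmφ 1
    rw [Pi.smul_apply, hφ1, smul_eq_mul, mul_one] at h1
    exact h1
  refine ⟨m, hβm, hsq, ?_, ?_⟩
  · intro x hx
    by_contra h
    exact hx (hvan x h)
  · intro z hz
    have h1 := norm_eq_of_central_mod_ker hβ z (by
      intro c
      have : z * c * z⁻¹ * c⁻¹ = 1 := by
        rw [← Subgroup.mem_center_iff.1 hz c]; group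
      rw [this])
    rw [Complex.normSq_eq_norm_sq, h1, hβm]
    simp

end Ramified

section PrincipleP

variable {G : Type u} [Group G] [Fintype G]

/-- If `θ ∈ Irr(G)` is fully ramified over a normal subgroup `H` of index `θ(1)² > 1`, then
`b(H) < b(G)`. -/
theorem bdeg_lt_of_ramified (H : Subgroup G) [hH : H.Normal] {θ : G → ℂ}
    (hθ : IsIrrCharacter G θ) {s : ℕ} (hs2 : 2 ≤ s) (hθ1 : θ 1 = s) (hidx : H.index = s ^ 2)
    (hvan : ∀ x : G, x ∉ H → θ x = 0)
    (hnorm : ∀ h ∈ H, Complex.normSq (θ h) = (s : ℝ) ^ 2) : bdeg H < bdeg G := by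
  classical
  haveI : Fintype H := Fintype.ofFinite H
  have hle : bdeg H ≤ bdeg G := bdeg_normal_le H
  rcases lt_or_eq_of_le hle with h | heq
  · exact h
  exfalso
  obtain ⟨ψ, hψ, hψb⟩ := exists_bdeg H
  rw [heq] at hψb
  obtain ⟨χ, hχ, hcon⟩ := Cfsg.Agent.Lib.Helper8.DH.exists_irr_over' H hψ
  have hext := extends_of_degree_bdeg H hψ hψb hχ hcon
  set f : G → ℂ := fun g => θ g * χ g with hf
  have hfchar : IsCharacter G f :=
    Cfsg.Agent.S0177.isCharacter_mul (isCharacter_of_irr hθ) (isCharacter_of_irr hχ)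
  have hfvan : ∀ x, f x ≠ 0 → x ∈ H := by
    intro x hx
    by_contra hxH
    apply hx
    show θ x * χ x = 0
    rw [hvan x hxH, zero_mul]
  have h1 := nrm_restrict_eq H f hfvan
  have h2 : nrm (fun y : H => f y) = (s : ℝ) ^ 2 * nrm ψ := by
    unfold nrm
    rw [Finset.mul_sum]
    apply Finset.sum_congr rfl
    intro y _
    show Complex.normSq (θ y * χ y) = _
    rw [map_mul, hnorm y y.2, ← congrFun hext y]
  rw [nrm_irr hψ] at h2
  have h3 : (nrm f : ℝ) = (Nat.card G : ℝ) := by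
    rw [← h1, h2]
    have h4 : Nat.card H * H.index = Nat.card G := Subgroup.card_mul_index H
    rw [← h4, hidx]
    push_cast
    ring
  have h5 := nrm_eq f
  rw [h3] at h5
  have hG0 : (Nat.card G : ℂ) ≠ 0 := Nat.cast_ne_zero.2 Nat.card_pos.ne'
  have h6 : classInner f f = 1 := by
    have h7 : (Nat.card G : ℂ) * classInner f f = (Nat.card G : ℂ) * 1 := by
      rw [mul_one, ← h5]; simp
    exact mul_left_cancel₀ hG0 h7
  have hfirr := isIrrCharacter_of_norm_one hfchar h6
  have hf1 : f 1 = ((s * bdeg G : ℕ) : ℂ) := by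
    show θ 1 * χ 1 = _
    have h8 : χ 1 = (bdeg G : ℂ) := by
      have := congrFun hext 1
      rw [hψb] at this
      exact this
    rw [hθ1, h8]; push_cast; ring
  have h9 := le_bdeg hfirr hf1
  have hb0 := bdeg_pos G
  nlinarith

end PrincipleP

section PGroupCase

variable {G : Type u} [Group G] [Finite G]

/-- the case of a nonabelian `p`-group quotient -/
theorem exists_sub_of_pgroup_quotient (p k : ℕ) (hp : p.Prime) (K : Subgroup G)
    [hKn : K.Normal] (hidx : K.index = p ^ k) (hnab : ∃ a b : G, a * b * a⁻¹ * b⁻¹ ∉ K) :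
    ∃ H : Subgroup G, H.index ≤ (bdeg G) ^ 2 ∧ bdeg H < bdeg G := by
  classical
  haveI : Fact p.Prime := ⟨hp⟩
  haveI : Fintype G := Fintype.ofFinite G
  obtain ⟨K', hK'n, hKK', hnab', hmax⟩ := exists_max_nonabelian_quotient K hnab
  haveI := hK'n
  haveI : Fintype (G ⧸ K') := Fintype.ofFinite _
  have hQp : IsPGroup p (G ⧸ K') := by
    have h1 : K'.index ∣ p ^ k := hidx ▸ Subgroup.index_dvd_of_le hKK'
    obtain ⟨j, -, hj⟩ := (Nat.dvd_prime_pow hp).1 h1
    apply IsPGroup.of_card (n := j)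
    rw [← hj]; rfl
  have hQnab := quotient_nonabelian K' hnab'
  haveI : Nontrivial (G ⧸ K') := by
    by_contra h
    rw [not_nontrivial_iff_subsingleton] at h
    exact hQnab (fun a b => Subsingleton.elim _ _)
  have hZ1 : Subgroup.center (G ⧸ K') ≠ ⊥ := by
    have := hQp.center_nontrivial
    exact (Subgroup.nontrivial_iff_ne_bot _).1 this
  have hcomZ : commutator (G ⧸ K') ≤ Subgroup.center (G ⧸ K') :=
    commutator_le_of_max K' hmax _ inferInstance hZ1
  have hcl : ∀ a b : G ⧸ K', a * b * a⁻¹ * b⁻¹ ∈ Subgroup.center (G ⧸ K') := by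
    intro a b
    apply hcomZ
    have := Subgroup.commutator_mem_commutator (Subgroup.mem_top a) (Subgroup.mem_top b)
    rw [commutatorElement_def] at this
    exact this
  obtain ⟨β, hβ, hβ1⟩ := Cfsg.Agent.Lib.Helper4.TD.exists_nonlinear hQnab
  -- β is faithful
  obtain ⟨L, hLn, hL⟩ := Cfsg.Agent.Lib.Helper8.exists_normal_ker (isCharacter_of_irr hβ)
  have hLbot : L = ⊥ := by
    by_contra hLb
    have hcomL := commutator_le_of_max K' hmax L hLn hLb
    haveI := hLn
    obtain ⟨ψb, hψb, hψbmk⟩ := Cfsg.Agent.Lib.Helper8.exists_deflation L hβ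
      (fun g hg => (hL g).1 hg)
    have hcomm : ∀ a b : (G ⧸ K') ⧸ L, a * b = b * a := by
      intro a b
      obtain ⟨x, rfl⟩ := QuotientGroup.mk_surjective a
      obtain ⟨y, rfl⟩ := QuotientGroup.mk_surjective b
      have h1 : x * y * x⁻¹ * y⁻¹ ∈ L := by
        apply hcomL
        have := Subgroup.commutator_mem_commutator (Subgroup.mem_top x) (Subgroup.mem_top y)
        rw [commutatorElement_def] at this
        exact this
      have h2 : ((x * y * x⁻¹ * y⁻¹ : G ⧸ K') : (G ⧸ K') ⧸ L) = 1 :=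
        (QuotientGroup.eq_one_iff _).2 h1
      simp only [QuotientGroup.mk_mul, QuotientGroup.mk_inv] at h2
      calc (x : (G ⧸ K') ⧸ L) * y = (x * y * (x : (G ⧸ K') ⧸ L)⁻¹ * (y : (G ⧸ K') ⧸ L)⁻¹) * (y * x) := by
            group
        _ = y * x := by rw [h2, one_mul]
    have h3 := Cfsg.Agent.S0176.irr_linear_of_comm hcomm hψb
    apply hβ1
    have h4 := hψbmk 1
    rw [QuotientGroup.mk_one] at h4
    rw [← h4, h3]
  have hfaith : ∀ g, β g = β 1 → g = 1 := by
    intro g hg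
    have : g ∈ L := (hL g).2 hg
    rw [hLbot, Subgroup.mem_bot] at this
    exact this
  obtain ⟨s, hβs, hsq, hvan, hnorm⟩ := sq_center hβ hfaith hcl
  have hs2 : 2 ≤ s := by
    obtain ⟨d, hd, hd0, -⟩ := Cfsg.Agent.Lib.Helper4.TD.irr_degree hβ
    have hds : d = s := by
      have : (d : ℂ) = (s : ℂ) := by rw [← hd, hβs]
      exact_mod_cast this
    have : s ≠ 1 := by
      intro h; apply hβ1; rw [hβs, h]; simp
    omega
  set H : Subgroup G := (Subgroup.center (G ⧸ K')).comap (QuotientGroup.mk' K') with hH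
  haveI hHn : H.Normal := by rw [hH]; infer_instance
  have hHidx : H.index = s ^ 2 := by
    rw [hH, Subgroup.index_comap_of_surjective _ (QuotientGroup.mk'_surjective K'), hsq]
  have hθ := Cfsg.Agent.Lib.Helper8.isIrrCharacter_inflation K' hβ
  have hθ1 : (fun g : G => β (QuotientGroup.mk g)) 1 = s := by
    show β (QuotientGroup.mk 1) = s
    rw [QuotientGroup.mk_one]; exact hβs
  have hlt := bdeg_lt_of_ramified H hθ hs2 hθ1 hHidx
    (fun x hx => hvan _ (fun h => hx h)) (fun h hh => hnorm _ hh)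
  refine ⟨H, ?_, hlt⟩
  rw [hHidx]
  exact Nat.pow_le_pow_left (le_bdeg hθ hθ1) 2

end PGroupCase

end Cfsg.Agent.Lib.Helper8.IP
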