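import Mathlib
import Cfsg.Prelude
import Cfsg.Agent.Lib.Helper8.IP4

set_option autoImplicit false

/-! Isaacs–Passman (S4463), part 5: the Frobenius-type quotient case. -/

namespace Cfsg.Agent.Lib.Helper8.IP

open Cfsg Cfsg.Agent.Lib.Helper1 Cfsg.Agent.Lib.Helper4 Cfsg.Agent.S0193
open Cfsg.Agent.Lib.Helper2.ChiefRestrict Cfsg.Agent.Lib.Helper8.DH Cfsg.Agent.Lib.Helper8.RDG
open scoped ComplexConjugate

universe u

section Congr

theorem bdeg_le_of_equiv {A B : Type u} [Group A] [Group B] [Finite A] [Finite B] (e : A ≃* B) :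
    bdeg A ≤ bdeg B := by
  apply bdeg_le_of_forall
  intro χ hχ d hd
  have h1 := isIrrCharacter_comp_mulEquiv hχ e.symm
  apply le_bdeg h1
  show χ (e.symm 1) = d
  rw [map_one]; exact hd

theorem bdeg_congr {A B : Type u} [Group A] [Group B] [Finite A] [Finite B] (e : A ≃* B) :
    bdeg A = bdeg B :=
  le_antisymm (bdeg_le_of_equiv e) (bdeg_le_of_equiv e.symm)

end Congr

section FrobCase

variable {G : Type u} [Group G] [Finite G]

/-- characters of `N` of degree `b(G)` vanish off `K` -/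
theorem frob_vanish_of_degree_bdeg {N K : Subgroup G} {p : ℕ} (h : Frob N K p)
    [hN : N.Normal] {ψ : N → ℂ} (hψ : IsIrrCharacter N ψ) (hψb : ψ 1 = bdeg G) :
    ∀ x : N, (x : G) ∉ K → ψ x = 0 := by
  classical
  haveI : Fintype G := Fintype.ofFinite G
  haveI : Fintype N := Fintype.ofFinite N
  apply h.vanish_of_twists_fixed ψ hψ
  intro μ _
  obtain ⟨g, hg⟩ : ∃ g : G, g ∉ N := by
    by_contra hno
    push_neg at hno
    exact h.hNtop (eq_top_iff.2 (fun x _ => hno x))
  refine ⟨g, hg, ?_⟩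
  have hirr : IsIrrCharacter N (mulF N ψ μ) := isIrr_mulF N hψ μ
  have h1 : mulF N ψ μ 1 = bdeg G := by
    rw [mulF_apply, map_one, Units.val_one, mul_one, hψb]
  obtain ⟨χ, hχ, hcon⟩ := exists_irr_over' N hirr
  have hext := extends_of_degree_bdeg N hirr h1 hχ hcon
  rw [← hext]
  funext n
  show χ ((⟨g * (n : G) * g⁻¹, _⟩ : N) : G) = χ n
  exact isClassFunction_irr hχ n g

/-- the Frobenius-type case -/
theorem exists_sub_of_frob {N K : Subgroup G} {p : ℕ} (h : Frob N K p) :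
    ∃ H : Subgroup G, H.index ≤ (bdeg G) ^ 2 ∧ bdeg H < bdeg G := by
  classical
  haveI : Fintype G := Fintype.ofFinite G
  haveI hNn : N.Normal := h.hNn
  haveI hKn : K.Normal := h.hKn
  haveI : Fintype N := Fintype.ofFinite N
  have hp := h.hp
  haveI : Fact p.Prime := ⟨hp⟩
  have hb0 := bdeg_pos G
  -- |G : N| ≤ b
  have hfb : N.index ≤ bdeg G := by
    obtain ⟨χ, hχ, hχ1⟩ := h.exists_index
    exact le_bdeg hχ hχ1
  have hNle : bdeg N ≤ bdeg G := bdeg_normal_le N
  rcases lt_or_eq_of_le hNle with hlt | heq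
  · refine ⟨N, ?_, hlt⟩
    calc N.index ≤ bdeg G := hfb
      _ ≤ bdeg G ^ 2 := by nlinarith
  -- b(N) = b(G)
  obtain ⟨ψ, hψ, hψb⟩ := exists_bdeg N
  rw [heq] at hψb
  have hvanψ := frob_vanish_of_degree_bdeg h hψ hψb
  set Y : Subgroup N := K.subgroupOf N with hY
  haveI hYn : Y.Normal := by rw [hY]; infer_instance
  haveI : Fintype Y := Fintype.ofFinite Y
  obtain ⟨k, hk⟩ := h.hrel
  have hYidx : Y.index = p ^ k := hk
  have hk0 : k ≠ 0 := by
    intro h0
    rw [h0, pow_zero] at hk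
    rw [Subgroup.relIndex_eq_one] at hk
    exact h.hne (le_antisymm h.hKN hk)
  -- p ≤ b
  have hpb : p ≤ bdeg G := by
    have hres : IsCharacter Y (fun y : Y => ψ y) :=
      Cfsg.Agent.S0148.isCharacter_restrict Y (isCharacter_of_irr hψ)
    obtain ⟨φ, hφ, m0, hm0, hm0'⟩ := exists_constituent hres (irr_apply_one_ne_zero hψ)
    have hcon : classInner (fun y : Y => ψ y) φ ≠ 0 := by
      rw [hm0']; exact Nat.cast_ne_zero.2 hm0.ne'
    obtain ⟨F, hF, hφF, hFconj, -, hFsum⟩ := clifford_finset Y hψ hφ hcon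
    obtain ⟨c, hc, hc0, -⟩ := Cfsg.Agent.Lib.Helper4.TD.irr_degree hφ
    have hF1 : ∀ ψ' ∈ F, ψ' 1 = (c : ℂ) := by
      intro ψ' hψ'
      obtain ⟨g, rfl⟩ := hFconj ψ' hψ'
      rw [conjFun_apply_one, hc]
    have hdeq : bdeg G = m0 * (F.card * c) := by
      have h1 := congrFun hFsum 1
      simp only [Pi.smul_apply, Finset.sum_apply, smul_eq_mul] at h1
      rw [Finset.sum_congr rfl hF1, Finset.sum_const, nsmul_eq_mul, hm0'] at h1
      have h2 : ψ ((1 : Y) : N) = ψ 1 := rfl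
      rw [h2, hψb] at h1
      exact_mod_cast h1
    -- the norm of the restriction
    have hvanY : ∀ x : N, ψ x ≠ 0 → x ∈ Y := by
      intro x hx
      by_contra hxY
      exact hx (hvanψ x (fun hK => hxY (Subgroup.mem_subgroupOf.2 hK)))
    have h3 := nrm_restrict_eq Y ψ hvanY
    rw [nrm_irr hψ] at h3
    have h4 := nrm_eq (fun y : Y => ψ y)
    rw [h3] at h4
    have h5 : classInner (fun y : Y => ψ y) (fun y : Y => ψ y) =
        (m0 : ℂ) * conj (m0 : ℂ) * (F.card : ℂ) := by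
      conv_lhs => rw [hFsum, hm0']
      exact classInner_smul_sum_irr _ F hF
    rw [h5, Complex.conj_natCast] at h4
    have h6 : Nat.card N = Nat.card Y * (m0 * m0 * F.card) := by
      have : ((Nat.card N : ℝ) : ℂ) = ((Nat.card Y * (m0 * m0 * F.card) : ℕ) : ℂ) := by
        rw [h4]; push_cast; ring
      have h7 : ((Nat.card N : ℕ) : ℂ) = ((Nat.card Y * (m0 * m0 * F.card) : ℕ) : ℂ) := by
        rw [← this]; simp
      exact_mod_cast h7
    have h8 : Nat.card Y * Y.index = Nat.card N := Subgroup.card_mul_index Y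
    rw [← h8, hYidx] at h6
    have h9 : p ^ k = m0 * m0 * F.card := Nat.eq_of_mul_eq_mul_left Nat.card_pos h6
    have hpd : p ∣ m0 * m0 * F.card := h9 ▸ dvd_pow_self p hk0
    have hFpos : 0 < F.card := Finset.card_pos.2 ⟨φ, hφF⟩
    have hple : p ≤ m0 * F.card := by
      rcases (Nat.Prime.dvd_mul hp).1 hpd with h10 | h10
      · rcases (Nat.Prime.dvd_mul hp).1 h10 with h11 | h11
        · exact (Nat.le_of_dvd hm0 h11).trans (Nat.le_mul_of_pos_right _ hFpos)
        · exact (Nat.le_of_dvd hm0 h11).trans (Nat.le_mul_of_pos_right _ hFpos)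
      · exact (Nat.le_of_dvd hFpos h10).trans (Nat.le_mul_of_pos_left _ hm0)
    calc p ≤ m0 * F.card := hple
      _ ≤ m0 * F.card * c := Nat.le_mul_of_pos_right _ hc0
      _ = bdeg G := by rw [hdeq]; ring
  -- a subgroup N0 of index p in N containing K
  have hQcard : Nat.card (N ⧸ Y) = p ^ k := hYidx
  have hdvd : p ^ (k - 1) ∣ Nat.card (N ⧸ Y) := by
    rw [hQcard]; exact pow_dvd_pow p (Nat.sub_le k 1)
  obtain ⟨S, hS⟩ := Sylow.exists_subgroup_card_pow_prime p hdvd
  set N0 : Subgroup N := S.comap (QuotientGroup.mk' Y) with hN0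
  have hYN0 : Y ≤ N0 := by
    intro y hy
    rw [hN0, Subgroup.mem_comap]
    have : (QuotientGroup.mk' Y) y = 1 := (QuotientGroup.eq_one_iff y).2 hy
    rw [this]; exact S.one_mem
  have hN0idx : N0.index = p := by
    rw [hN0, Subgroup.index_comap_of_surjective _ (QuotientGroup.mk'_surjective Y)]
    have h1 : Nat.card S * S.index = Nat.card (N ⧸ Y) := Subgroup.card_mul_index S
    rw [hS, hQcard] at h1
    have h2 : p ^ k = p ^ (k - 1) * p := by
      rw [← pow_succ]; congr 1; omega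
    rw [h2] at h1
    exact Nat.eq_of_mul_eq_mul_left (pow_pos hp.pos _) h1
  haveI : Fintype N0 := Fintype.ofFinite N0
  -- b(N0) < b(G)
  have hN0lt : bdeg N0 < bdeg G := by
    by_contra hge
    have hge' : bdeg G ≤ bdeg N0 := not_lt.1 hge
    obtain ⟨ξ, hξ, hξb⟩ := exists_bdeg N0
    -- some irreducible character of N over ξ
    obtain ⟨ψ', hψ', hcon'⟩ := exists_irr_over' N0 hξ
    obtain ⟨d', hd', -, -⟩ := Cfsg.Agent.Lib.Helper4.TD.irr_degree hψ'
    have hres' : IsCharacter N0 (fun y : N0 => ψ' y) :=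
      Cfsg.Agent.S0148.isCharacter_restrict N0 (isCharacter_of_irr hψ')
    have hd'' : (fun y : N0 => ψ' y) 1 = d' := hd'
    obtain ⟨h1, h2⟩ :=
      Cfsg.Agent.Lib.Helper2.RelMAbelian.degree_le_of_constituent hres' hξ hcon' hd'' hξb
    have h3 : d' ≤ bdeg N := le_bdeg hψ' hd'
    rw [heq] at h3
    have h4 : d' = bdeg N0 := le_antisymm (h3.trans hge') h1
    have h5 : d' = bdeg G := le_antisymm h3 (hge'.trans h1)
    have hext' : (fun y : N0 => ψ' y) = ξ := h2 h4
    have hψ'b : ψ' 1 = bdeg G := by rw [hd', h5]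
    have hvan' := frob_vanish_of_degree_bdeg h hψ' hψ'b
    have hvanN0 : ∀ x : N, ψ' x ≠ 0 → x ∈ N0 := by
      intro x hx
      by_contra hxN0
      exact hx (hvan' x (fun hK => hxN0 (hYN0 (Subgroup.mem_subgroupOf.2 hK))))
    have h6 := nrm_restrict_eq N0 ψ' hvanN0
    rw [hext', nrm_irr hξ, nrm_irr hψ'] at h6
    have h7 : Nat.card N0 = Nat.card N := by exact_mod_cast h6
    have h8 : Nat.card N0 * N0.index = Nat.card N := Subgroup.card_mul_index N0
    rw [h7, hN0idx] at h8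
    have h9 : p = 1 := by
      have h10 : Nat.card N * p = Nat.card N * 1 := by rw [h8, mul_one]
      exact Nat.eq_of_mul_eq_mul_left Nat.card_pos h10
    exact hp.one_lt.ne' h9
  -- transfer to a subgroup of G
  refine ⟨N0.map N.subtype, ?_, ?_⟩
  · rw [Subgroup.index_map_subtype, hN0idx]
    calc p * N.index ≤ bdeg G * bdeg G := Nat.mul_le_mul hpb hfb
      _ = bdeg G ^ 2 := by ring
  · have e : N0 ≃* (N0.map N.subtype) := Subgroup.equivMapOfInjective N0 N.subtype
      N.subtype_injective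
    rw [← bdeg_congr e]
    exact hN0lt

end FrobCase

end Cfsg.Agent.Lib.Helper8.IP
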