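import Mathlib
import Cfsg.Prelude
import Cfsg.Agent.Lib.Helper8.IP1

set_option autoImplicit false

/-! Isaacs–Passman (S4463), part 6: a nonsolvable finite group has an irreducible character of
degree at least `5`. -/

namespace Cfsg.Agent.Lib.Helper8.IP

open Cfsg Cfsg.Agent.Lib.Helper1 Cfsg.Agent.Lib.Helper4
open scoped ComplexConjugate commutatorElement

universe u

section Mat

/-- a `2 × 2` complex matrix of determinant one squaring to the identity is `± 1` -/
theorem mat_two_eq_one_or_neg_one (M : Matrix (Fin 2) (Fin 2) ℂ) (hM : M * M = 1)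
    (hdet : M.det = 1) : M = 1 ∨ M = -1 := by
  have hη := Matrix.eta_fin_two M
  set a := M 0 0
  set b := M 0 1
  set c := M 1 0
  set d := M 1 1
  rw [hη] at hM hdet
  rw [Matrix.mul_fin_two, Matrix.one_fin_two] at hM
  rw [Matrix.det_fin_two_of] at hdet
  have h00 : a * a + b * c = 1 := by
    have := congrFun (congrFun hM 0) 0
    simpa using this
  have h01 : a * b + b * d = 0 := by
    have := congrFun (congrFun hM 0) 1
    simpa using this
  have h10 : c * a + d * c = 0 := by
    have := congrFun (congrFun hM 1) 0
    simpa using this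
  have h11 : c * b + d * d = 1 := by
    have := congrFun (congrFun hM 1) 1
    simpa using this
  have hs : a * (a + d) = 2 := by linear_combination h00 + hdet
  have hs0 : a + d ≠ 0 := by
    intro h
    rw [h, mul_zero] at hs
    norm_num at hs
  have hb : b = 0 := by
    have : b * (a + d) = 0 := by linear_combination h01
    exact (mul_eq_zero.1 this).resolve_right hs0
  have hc : c = 0 := by
    have : c * (a + d) = 0 := by linear_combination h10
    exact (mul_eq_zero.1 this).resolve_right hs0
  rw [hb, hc] at h00 hdet
  have ha2 : a * a = 1 := by linear_combination h00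
  have had : a * d = 1 := by linear_combination hdet
  have ha0 : a ≠ 0 := by
    intro h; rw [h, zero_mul] at ha2; norm_num at ha2
  have hda : d = a := by
    have : a * (d - a) = 0 := by linear_combination had - ha2
    have := (mul_eq_zero.1 this).resolve_left ha0
    exact sub_eq_zero.1 this
  have ha : a = 1 ∨ a = -1 := by
    have : (a - 1) * (a + 1) = 0 := by linear_combination ha2
    rcases mul_eq_zero.1 this with h | h
    · left; exact sub_eq_zero.1 h
    · right; exact eq_neg_of_add_eq_zero_left h
  rcases ha with h1 | h1
  · left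
    rw [hη, Matrix.one_fin_two, hb, hc, hda, h1]
  · right
    rw [hη, hb, hc, hda, h1, Matrix.one_fin_two]
    ext i j
    fin_cases i <;> fin_cases j <;> simp

end Mat

section Simple

variable {X : Type u} [Group X] [Finite X]

/-- a nonabelian simple group has no irreducible character of degree two -/
theorem no_degree_two_of_simple [hs : IsSimpleGroup X] (hnab : ¬ ∀ a b : X, a * b = b * a)
    {χ : X → ℂ} (hχ : IsIrrCharacter X χ) : χ 1 ≠ 2 := by
  classical
  haveI : Fintype X := Fintype.ofFinite X
  intro h2
  -- the kernel is trivial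
  obtain ⟨L, hLn, hL⟩ := Cfsg.Agent.Lib.Helper8.exists_normal_ker (isCharacter_of_irr hχ)
  have hLbot : L = ⊥ := by
    rcases hs.eq_bot_or_eq_top_of_normal L hLn with h | h
    · exact h
    · exfalso
      have hall : ∀ g : X, χ g = 2 := by
        intro g
        rw [← h2, ← hL g, h]; trivial
      have h1 := classInner_irr_self hχ
      rw [classInner_def] at h1
      have h3 : ∑ g : X, χ g * conj (χ g) = (Nat.card X : ℂ) * 4 := by
        have hterm : ∀ g : X, χ g * conj (χ g) = 4 := by
          intro g
          rw [hall g, show (2 : ℂ) = ((2 : ℝ) : ℂ) by norm_num, Complex.conj_ofReal]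
          norm_num
        rw [Finset.sum_congr rfl (fun g _ => hterm g)]
        rw [Finset.sum_const, Finset.card_univ, Nat.card_eq_fintype_card]
        simp
      rw [h3] at h1
      have hX0 : (Nat.card X : ℂ) ≠ 0 := Nat.cast_ne_zero.2 Nat.card_pos.ne'
      rw [← mul_assoc, inv_mul_cancel₀ hX0, one_mul] at h1
      norm_num at h1
  have hker : ∀ g : X, χ g = χ 1 → g = 1 := by
    intro g hg
    have : g ∈ L := (hL g).2 hg
    rw [hLbot, Subgroup.mem_bot] at this
    exact this
  -- an involution
  obtain ⟨d, hd, -, hdvd⟩ := Cfsg.Agent.Lib.Helper4.TD.irr_degree hχ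
  have hd2 : d = 2 := by
    have : (d : ℂ) = ((2 : ℕ) : ℂ) := by rw [← hd, h2]; simp
    exact_mod_cast this
  rw [hd2] at hdvd
  haveI : Fact (Nat.Prime 2) := ⟨Nat.prime_two⟩
  obtain ⟨t, ht⟩ := exists_prime_orderOf_dvd_card' 2 hdvd
  have ht1 : t ≠ 1 := by
    intro h; rw [h, orderOf_one] at ht; norm_num at ht
  have htt : t * t = 1 := by
    have := pow_orderOf_eq_one t
    rw [ht, pow_two] at this
    exact this
  -- the representation
  obtain ⟨n, ρ, hirr, hρχ⟩ := hχ
  have hn : n = 2 := by
    have h1 := Representation.char_one ρ
    rw [hρχ, h2, Module.finrank_fin_fun] at h1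
    exact_mod_cast h1.symm
  subst hn
  have hchar : ∀ x : X, χ x = LinearMap.trace ℂ (Fin 2 → ℂ) (ρ x) := by
    intro x; rw [← hρχ]; rfl
  have hone : ∀ x : X, ρ x = 1 → χ x = χ 1 := by
    intro x hx
    rw [hchar x, hchar 1, hx]
    congr 1
    exact (map_one ρ).symm
  -- the determinant is trivial
  have hcomm : commutator X = ⊤ := by
    rcases hs.eq_bot_or_eq_top_of_normal (commutator X) inferInstance with h | h
    · exfalso
      apply hnab
      intro a b
      have h3 : ⁅a, b⁆ ∈ commutator X :=
        Subgroup.commutator_mem_commutator (Subgroup.mem_top a) (Subgroup.mem_top b)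
      rw [h, Subgroup.mem_bot, commutatorElement_def] at h3
      calc a * b = a * b * a⁻¹ * b⁻¹ * (b * a) := by group
        _ = b * a := by rw [h3, one_mul]
    · exact h
  let δ : X →* ℂ := (LinearMap.det : ((Fin 2 → ℂ) →ₗ[ℂ] (Fin 2 → ℂ)) →* ℂ).comp ρ
  have hδ : ∀ x : X, δ x = 1 := by
    intro x
    have h1 := Abelianization.commutator_subset_ker δ.toHomUnits
    rw [hcomm] at h1
    have h3 : x ∈ δ.toHomUnits.ker := h1 (Subgroup.mem_top x)
    rw [MonoidHom.mem_ker] at h3
    have h4 := congrArg Units.val h3
    simpa using h4
  set A := ρ t with hA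
  have hAA : A * A = 1 := by
    rw [hA, ← map_mul, htt, map_one]
  have hdetA : LinearMap.det A = 1 := hδ t
  set M := LinearMap.toMatrix' A with hMdef
  have hMM : M * M = 1 := by
    rw [hMdef, ← LinearMap.toMatrix'_mul, hAA, LinearMap.toMatrix'_one]
  have hMdet : M.det = 1 := by
    rw [hMdef, LinearMap.det_toMatrix', hdetA]
  rcases mat_two_eq_one_or_neg_one M hMM hMdet with h1 | h1
  · -- ρ t = 1
    have hA1 : A = 1 := by
      apply LinearMap.toMatrix'.injective
      rw [← hMdef, h1, LinearMap.toMatrix'_one]
    exact ht1 (hker t (hone t hA1))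
  · -- ρ t = -1 : t is central
    have hA1 : A = -1 := by
      apply LinearMap.toMatrix'.injective
      rw [← hMdef, h1, map_neg, LinearMap.toMatrix'_one]
    have hcent : ∀ g : X, t * g = g * t := by
      intro g
      have h3 : ρ (t * g * t⁻¹ * g⁻¹) = 1 := by
        have htinv : t⁻¹ = t := inv_eq_of_mul_eq_one_right htt
        rw [htinv, map_mul, map_mul, map_mul, ← hA, hA1]
        have h4 : ρ g * ρ g⁻¹ = 1 := by rw [← map_mul, mul_inv_cancel, map_one]
        have hneg : ∀ B C : Module.End ℂ (Fin 2 → ℂ),
            (-1 : Module.End ℂ (Fin 2 → ℂ)) * B * (-1) * C = B * C := by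
          intro B C
          apply LinearMap.ext
          intro v
          simp [Module.End.mul_apply, LinearMap.neg_apply, map_neg]
        calc (-1 : Module.End ℂ (Fin 2 → ℂ)) * ρ g * (-1) * ρ g⁻¹ = ρ g * ρ g⁻¹ := hneg _ _
          _ = 1 := h4
      have h5 := hker _ (hone _ h3)
      calc t * g = t * g * t⁻¹ * g⁻¹ * (g * t) := by group
        _ = g * t := by rw [h5, one_mul]
    have hZ : Subgroup.center X = ⊤ := by
      rcases hs.eq_bot_or_eq_top_of_normal (Subgroup.center X) inferInstance with h | h
      · exfalso
        have : t ∈ Subgroup.center X := Subgroup.mem_center_iff.2 (fun g => (hcent g).symm)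
        rw [h, Subgroup.mem_bot] at this
        exact ht1 this
      · exact h
    apply hnab
    intro a b
    have : a ∈ Subgroup.center X := hZ ▸ Subgroup.mem_top a
    exact (Subgroup.mem_center_iff.1 this b).symm

/-- a nonabelian simple group has an irreducible character of degree at least `5` -/
theorem five_le_bdeg_of_simple [hs : IsSimpleGroup X] (hnab : ¬ ∀ a b : X, a * b = b * a) :
    5 ≤ bdeg X := by
  by_contra hlt
  have hb : bdeg X ≤ 4 := by omega
  have h3 : Cfsg.Agent.Lib.Helper8.DH.H3 X 3 4 := by
    intro χ hχ
    obtain ⟨d, hd, hd0, -⟩ := Cfsg.Agent.Lib.Helper4.TD.irr_degree hχ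
    have hdb : d ≤ 4 := (le_bdeg hχ hd).trans hb
    have hd2 : d ≠ 2 := by
      intro h
      apply no_degree_two_of_simple hnab hχ
      rw [hd, h]; simp
    rw [hd]
    have : d = 1 ∨ d = 3 ∨ d = 4 := by omega
    rcases this with h | h | h
    · left; simp [h]
    · right; left; simp [h]
    · right; right; simp [h]
  have hsolv := Cfsg.Agent.Lib.Helper8.DH.solvable_of_H3 (Nat.card X) X rfl 3 4 h3
  haveI := hsolv
  have h4 := Group.IsSolvable.commutator_lt_top_of_nontrivial X
  rcases hs.eq_bot_or_eq_top_of_normal (commutator X) inferInstance with h | h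
  · apply hnab
    intro a b
    have h5 : ⁅a, b⁆ ∈ commutator X :=
      Subgroup.commutator_mem_commutator (Subgroup.mem_top a) (Subgroup.mem_top b)
    rw [h, Subgroup.mem_bot, commutatorElement_def] at h5
    calc a * b = a * b * a⁻¹ * b⁻¹ * (b * a) := by group
      _ = b * a := by rw [h5, one_mul]
  · exact h4.ne h

end Simple

section NonSolvable

/-- a nonsolvable finite group has an irreducible character of degree at least `5` -/
theorem five_le_bdeg_of_not_solvable : ∀ (n : ℕ) (X : Type u) [Group X] [Finite X],
    Nat.card X = n → ¬ Group.IsSolvable X → 5 ≤ bdeg X := by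
  intro n
  induction n using Nat.strong_induction_on with
  | _ n ih =>
    intro X _ _ hcard hns
    classical
    have hnab : ¬ ∀ a b : X, a * b = b * a := fun h => hns (Group.isSolvable_of_comm h)
    by_cases hsimple : IsSimpleGroup X
    · exact five_le_bdeg_of_simple hnab
    · -- a proper nontrivial normal subgroup
      have hnt : Nontrivial X := by
        by_contra h
        rw [not_nontrivial_iff_subsingleton] at h
        exact hnab (fun a b => Subsingleton.elim _ _)
      have hex : ∃ L : Subgroup X, L.Normal ∧ L ≠ ⊥ ∧ L ≠ ⊤ := by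
        by_contra hno
        push_neg at hno
        apply hsimple
        exact { exists_pair_ne := hnt.exists_pair_ne
                eq_bot_or_eq_top_of_normal := fun H hH => by
                  by_cases hb : H = ⊥
                  · exact Or.inl hb
                  · exact Or.inr (hno H hH hb) }
      obtain ⟨L, hLn, hLb, hLt⟩ := hex
      haveI := hLn
      by_cases hLs : Group.IsSolvable L
      · -- the quotient is not solvable
        have hQns : ¬ Group.IsSolvable (X ⧸ L) := by
          intro hQs
          apply hns
          haveI := hLs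
          haveI := hQs
          apply Group.isSolvable_of_ker_le_range L.subtype (QuotientGroup.mk' L)
          rw [QuotientGroup.ker_mk', Subgroup.range_subtype]
        have hlt : Nat.card (X ⧸ L) < n := by
          rw [← hcard]
          have h1 : Nat.card L * L.index = Nat.card X := Subgroup.card_mul_index L
          have h2 : 1 < Nat.card L := by
            rw [Subgroup.one_lt_card_iff_ne_bot]; exact hLb
          have h3 : Nat.card (X ⧸ L) = L.index := rfl
          have h4 : 0 < L.index := Nat.pos_of_ne_zero Subgroup.index_ne_zero_of_finite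
          rw [h3]
          nlinarith
        exact (ih _ hlt (X ⧸ L) rfl hQns).trans (bdeg_quotient_le L)
      · have hlt : Nat.card L < n := by
          rw [← hcard]
          have h1 : Nat.card L ≤ Nat.card X := Subgroup.card_le_card_group L
          have h2 : Nat.card L ≠ Nat.card X := fun h => hLt (Subgroup.eq_top_of_card_eq L h)
          omega
        exact (ih _ hlt L rfl hLs).trans (bdeg_normal_le L)

end NonSolvable

end Cfsg.Agent.Lib.Helper8.IP
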