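import Mathlib
import Cfsg.Prelude
import Cfsg.Agent.Lib.Helper8.IP5
import Cfsg.Agent.Lib.Helper8.IP6

set_option autoImplicit false

/-! Isaacs–Passman (S4463), part 7: the induction. -/

namespace Cfsg.Agent.Lib.Helper8.IP

open Cfsg Cfsg.Agent.Lib.Helper1 Cfsg.Agent.Lib.Helper4 Cfsg.Agent.S0193
open Cfsg.Agent.Lib.Helper8.DH
open scoped ComplexConjugate commutatorElement

universe u

section Arith

theorem escape_arith {b c : ℕ} (hb : 5 ≤ b) (hc : 2 * c ≤ b) :
    b ^ 4 * (c.factorial) ^ 2 ≤ (b.factorial) ^ 2 := by
  obtain ⟨m, rfl⟩ : ∃ m, b = m + 3 := ⟨b - 3, by omega⟩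
  have hm : 2 ≤ m := by omega
  have hcm : c ≤ m := by omega
  have h1 : c.factorial ≤ m.factorial := Nat.factorial_le hcm
  have h2 : (m + 3).factorial = (m + 3) * ((m + 2) * ((m + 1) * m.factorial)) := by
    rw [Nat.factorial_succ, Nat.factorial_succ, Nat.factorial_succ]
  have h3 : (m + 3) ^ 2 * c.factorial ≤ (m + 3).factorial := by
    rw [h2]
    have h4 : (m + 3) ^ 2 ≤ (m + 3) * ((m + 2) * (m + 1)) := by nlinarith
    calc (m + 3) ^ 2 * c.factorial ≤ (m + 3) * ((m + 2) * (m + 1)) * m.factorial :=
          Nat.mul_le_mul h4 h1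
      _ = (m + 3) * ((m + 2) * ((m + 1) * m.factorial)) := by ring
  calc (m + 3) ^ 4 * c.factorial ^ 2 = ((m + 3) ^ 2 * c.factorial) ^ 2 := by ring
    _ ≤ ((m + 3).factorial) ^ 2 := Nat.pow_le_pow_left h3 2

theorem step_arith {b c i j : ℕ} (hcb : c < b) (hi : i ≤ c.factorial ^ 2) (hj : j ≤ b ^ 2) :
    i * j ≤ b.factorial ^ 2 := by
  obtain ⟨m, rfl⟩ : ∃ m, b = m + 1 := ⟨b - 1, by omega⟩
  have h1 : c.factorial ≤ m.factorial := Nat.factorial_le (by omega)
  rw [Nat.factorial_succ]
  calc i * j ≤ c.factorial ^ 2 * (m + 1) ^ 2 := Nat.mul_le_mul hi hj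
    _ ≤ m.factorial ^ 2 * (m + 1) ^ 2 := Nat.mul_le_mul_right _ (Nat.pow_le_pow_left h1 2)
    _ = ((m + 1) * m.factorial) ^ 2 := by ring

end Arith

section Tools

variable {G : Type u} [Group G] [Finite G]

theorem bdeg_subgroup_le (H : Subgroup G) : bdeg H ≤ bdeg G := by
  classical
  haveI : Fintype G := Fintype.ofFinite G
  haveI : Fintype H := Fintype.ofFinite H
  apply bdeg_le_of_forall
  intro ψ hψ d hd
  obtain ⟨χ, hχ, hcon⟩ := exists_irr_over' H hψ
  obtain ⟨c, hc, -, -⟩ := Cfsg.Agent.Lib.Helper4.TD.irr_degree hχ
  have hres : IsCharacter H (fun h : H => χ h) :=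
    Cfsg.Agent.S0148.isCharacter_restrict H (isCharacter_of_irr hχ)
  have hc' : (fun h : H => χ h) 1 = c := hc
  obtain ⟨h1, -⟩ :=
    Cfsg.Agent.Lib.Helper2.RelMAbelian.degree_le_of_constituent hres hψ hcon hc' hd
  exact h1.trans (le_bdeg hχ hc)

theorem normalCore_comap {Q : Type*} [Group Q] (π : G →* Q) (hπ : Function.Surjective π)
    (C : Subgroup Q) : (C.comap π).normalCore = C.normalCore.comap π := by
  apply le_antisymm
  · intro x hx
    show π x ∈ C.normalCore
    intro q
    obtain ⟨g, rfl⟩ := hπ q
    have h1 : g * x * g⁻¹ ∈ C.comap π := hx g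
    have h2 : π (g * x * g⁻¹) ∈ C := h1
    simpa using h2
  · have hn : (C.normalCore.comap π).Normal := inferInstance
    exact Subgroup.normal_le_normalCore.2 (Subgroup.comap_mono (Subgroup.normalCore_le C))

/-- the reduction step -/
theorem reduce_step (H : Subgroup G) (hidx : H.index ≤ (bdeg G) ^ 2) (hlt : bdeg H < bdeg G)
    (IH : ∃ A : Subgroup H, (∀ x ∈ A, ∀ y ∈ A, x * y = y * x) ∧
      A.index ≤ (bdeg H).factorial ^ 2) :
    ∃ A : Subgroup G, (∀ x ∈ A, ∀ y ∈ A, x * y = y * x) ∧
      A.index ≤ (bdeg G).factorial ^ 2 := by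
  obtain ⟨A, hA, hAidx⟩ := IH
  refine ⟨A.map H.subtype, ?_, ?_⟩
  · rintro _ ⟨x, hx, rfl⟩ _ ⟨y, hy, rfl⟩
    have := hA x hx y hy
    exact congrArg Subtype.val this
  · rw [Subgroup.index_map_subtype]
    exact step_arith hlt hAidx hidx

theorem card_lt_of_bdeg_lt (H : Subgroup G) (hlt : bdeg H < bdeg G) :
    Nat.card H < Nat.card G := by
  have h1 : Nat.card H ≤ Nat.card G := Subgroup.card_le_card_group H
  have h2 : Nat.card H ≠ Nat.card G := by
    intro h
    have htop := Subgroup.eq_top_of_card_eq H h
    subst htop
    have := bdeg_congr (Subgroup.topEquiv (G := G))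
    omega
  omega

end Tools

section Main

/-- Isaacs–Passman: an abelian subgroup of index at most `(b!)²`. -/
theorem main_aux : ∀ (n : ℕ) (G : Type u) [Group G] [Finite G], Nat.card G = n →
    ∃ A : Subgroup G, (∀ x ∈ A, ∀ y ∈ A, x * y = y * x) ∧
      A.index ≤ (bdeg G).factorial ^ 2 := by
  intro n
  induction n using Nat.strong_induction_on with
  | _ n ih =>
    intro G _ _ hcard
    classical
    haveI : Fintype G := Fintype.ofFinite G
    by_cases hcomm : ∀ a b : G, a * b = b * a
    · refine ⟨⊤, fun x _ y _ => hcomm x y, ?_⟩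
      rw [Subgroup.index_top]
      exact Nat.one_le_iff_ne_zero.2 (pow_ne_zero _ (Nat.factorial_ne_zero _))
    -- the reduction, packaged
    have hred : ∀ H : Subgroup G, H.index ≤ (bdeg G) ^ 2 → bdeg H < bdeg G →
        ∃ A : Subgroup G, (∀ x ∈ A, ∀ y ∈ A, x * y = y * x) ∧
          A.index ≤ (bdeg G).factorial ^ 2 := by
      intro H hidx hlt
      have hc := card_lt_of_bdeg_lt H hlt
      rw [hcard] at hc
      exact reduce_step H hidx hlt (ih _ hc H rfl)
    by_cases hS : ∃ a b : G, a * b * a⁻¹ * b⁻¹ ∉ derivedSeries G 2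
    · -- a nonabelian solvable quotient
      haveI hMn : (derivedSeries G 2).Normal := derivedSeries_normal G 2
      have hsolv : Group.IsSolvable (G ⧸ derivedSeries G 2) := by
        rw [Group.isSolvable_def]
        refine ⟨2, ?_⟩
        rw [← map_derivedSeries_eq (QuotientGroup.mk'_surjective (derivedSeries G 2)) 2]
        rw [Subgroup.map_eq_bot_iff, QuotientGroup.ker_mk']
      obtain ⟨p, K, N, hp, hKn, hNn, -, hKN, hnabK, halt⟩ :=
        exists_quotient_dichotomy_over (derivedSeries G 2) hsolv hS
      haveI := hKn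
      rcases halt with ⟨-, k, hk⟩ | ⟨hNtop, hne, hcommN, hab, hrel, hfpf⟩
      · obtain ⟨H, hidx, hlt⟩ := exists_sub_of_pgroup_quotient p k hp K hk hnabK
        exact hred H hidx hlt
      · have hF : Frob N K p :=
          { hp := hp, hNn := hNn, hKn := hKn, hKN := hKN, hne := hne, hNtop := hNtop,
            hcomm := hcommN, hab := hab, hrel := hrel, hfpf := hfpf }
        obtain ⟨H, hidx, hlt⟩ := exists_sub_of_frob hF
        exact hred H hidx hlt
    · -- G' is perfect
      push_neg at hS
      have hnab0 : ∃ a b : G, a * b * a⁻¹ * b⁻¹ ∉ (⊥ : Subgroup G) := by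
        by_contra hno
        push_neg at hno
        apply hcomm
        intro a b
        have := hno a b
        rw [Subgroup.mem_bot] at this
        calc a * b = a * b * a⁻¹ * b⁻¹ * (b * a) := by group
          _ = b * a := by rw [this, one_mul]
      obtain ⟨K, hKn, -, hnabK, hmax⟩ := exists_max_nonabelian_quotient (⊥ : Subgroup G) hnab0
      haveI := hKn
      set π : G →* G ⧸ K := QuotientGroup.mk' K with hπdef
      have hπ : Function.Surjective π := QuotientGroup.mk'_surjective K
      have hker : π.ker = K := QuotientGroup.ker_mk' K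
      have hQnab := quotient_nonabelian K hnabK
      haveI : Nontrivial (G ⧸ K) := by
        by_contra h
        rw [not_nontrivial_iff_subsingleton] at h
        exact hQnab (fun a b => Subsingleton.elim _ _)
      -- the derived series of the quotient is stationary from 1 on
      have hD12 : derivedSeries (G ⧸ K) 1 ≤ derivedSeries (G ⧸ K) 2 := by
        rw [← map_derivedSeries_eq hπ 1, ← map_derivedSeries_eq hπ 2]
        apply Subgroup.map_mono
        rw [derivedSeries_one, commutator_def, Subgroup.commutator_le]
        intro a _ b _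
        rw [commutatorElement_def]
        exact hS a b
      have hD2 : derivedSeries (G ⧸ K) 2 = derivedSeries (G ⧸ K) 1 :=
        le_antisymm (derivedSeries_antitone (G ⧸ K) (by norm_num)) hD12
      have hDn : ∀ m : ℕ, derivedSeries (G ⧸ K) (m + 1) = derivedSeries (G ⧸ K) 1 := by
        intro m
        induction m with
        | zero => rfl
        | succ m ihm => rw [derivedSeries_succ, ihm, ← derivedSeries_succ]; exact hD2
      have hD1 : derivedSeries (G ⧸ K) 1 ≠ ⊥ := by
        intro h
        apply hQnab
        intro a b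
        have h1 : ⁅a, b⁆ ∈ commutator (G ⧸ K) :=
          Subgroup.commutator_mem_commutator (Subgroup.mem_top a) (Subgroup.mem_top b)
        rw [← derivedSeries_one, h, Subgroup.mem_bot, commutatorElement_def] at h1
        calc a * b = a * b * a⁻¹ * b⁻¹ * (b * a) := by group
          _ = b * a := by rw [h1, one_mul]
      have hQns : ¬ Group.IsSolvable (G ⧸ K) := by
        intro hs
        rw [Group.isSolvable_def] at hs
        obtain ⟨m, hm⟩ := hs
        cases m with
        | zero =>
          rw [derivedSeries_zero] at hm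
          exact top_ne_bot hm
        | succ m => exact hD1 (hDn m ▸ hm)
      have hb5 : 5 ≤ bdeg G :=
        (five_le_bdeg_of_not_solvable _ (G ⧸ K) rfl hQns).trans (bdeg_quotient_le K)
      have hKtop : K ≠ ⊤ := by
        intro h
        obtain ⟨a, b, hab⟩ := hnabK
        exact hab (h ▸ Subgroup.mem_top _)
      have hKcard : Nat.card K < n := by
        rw [← hcard]
        have h1 : Nat.card K ≤ Nat.card G := Subgroup.card_le_card_group K
        have h2 : Nat.card K ≠ Nat.card G := fun h => hKtop (Subgroup.eq_top_of_card_eq K h)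
        omega
      have hgal := two_mul_bdeg_le K hnabK
      by_cases hQ : K.index ≤ (bdeg G) ^ 4
      · -- escape
        obtain ⟨A, hA, hAidx⟩ := ih _ hKcard K rfl
        refine ⟨A.map K.subtype, ?_, ?_⟩
        · rintro _ ⟨x, hx, rfl⟩ _ ⟨y, hy, rfl⟩
          have := hA x hx y hy
          exact congrArg Subtype.val this
        · rw [Subgroup.index_map_subtype]
          calc A.index * K.index ≤ (bdeg K).factorial ^ 2 * (bdeg G) ^ 4 :=
                Nat.mul_le_mul hAidx hQ
            _ = (bdeg G) ^ 4 * (bdeg K).factorial ^ 2 := by ring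
            _ ≤ (bdeg G).factorial ^ 2 := escape_arith hb5 hgal
      · -- a small class in the quotient
        obtain ⟨x, hx1, hxidx⟩ := exists_small_class (G ⧸ K)
        set C : Subgroup (G ⧸ K) := Subgroup.centralizer {x} with hC
        -- the core of C is trivial
        have hcore : C.normalCore = ⊥ := by
          by_contra hne
          have h1 := commutator_le_of_max K hmax C.normalCore inferInstance hne
          have h2 : commutator (G ⧸ K) ≤ C := h1.trans (Subgroup.normalCore_le C)
          set Z : Subgroup (G ⧸ K) := Subgroup.centralizer (commutator (G ⧸ K) : Set (G ⧸ K))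
            with hZ
          have hZn : Z.Normal := Subgroup.normal_centralizer
          have hxZ : x ∈ Z := by
            rw [hZ, Subgroup.mem_centralizer_iff]
            intro y hy
            have := Subgroup.mem_centralizer_iff.1 (h2 hy) x (Set.mem_singleton x)
            exact this.symm
          have hZb : Z ≠ ⊥ := by
            intro h
            rw [h, Subgroup.mem_bot] at hxZ
            exact hx1 hxZ
          have h3 := commutator_le_of_max K hmax Z hZn hZb
          -- the commutator subgroup is abelian, so the second derived subgroup is trivial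
          have h4 : derivedSeries (G ⧸ K) 2 = ⊥ := by
            rw [derivedSeries_succ, derivedSeries_one, Subgroup.commutator_eq_bot_iff_le_centralizer]
            exact h3
          exact hD1 (hD2 ▸ h4)
        set H : Subgroup G := C.comap π with hH
        have hHidx : H.index = C.index := Subgroup.index_comap_of_surjective C hπ
        have hHle : H.index ≤ (bdeg G) ^ 2 := by
          rw [hHidx]
          exact hxidx.trans (Nat.pow_le_pow_left (bdeg_quotient_le K) 2)
        have hlt : bdeg H < bdeg G := by
          by_contra hge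
          have heq : bdeg H = bdeg G := le_antisymm (bdeg_subgroup_le H) (not_lt.1 hge)
          haveI : Fintype H := Fintype.ofFinite H
          obtain ⟨ψ, hψ, hψb⟩ := exists_bdeg H
          rw [heq] at hψb
          obtain ⟨-, hrel⟩ := tplus H hψ hψb
          have hcoreH : H.normalCore = K := by
            rw [hH, normalCore_comap π hπ C, hcore, MonoidHom.comap_bot, hker]
          rw [hcoreH] at hrel
          have h5 : K.relIndex H = Nat.card C := by
            have h6 := Subgroup.relIndex_comap (⊥ : Subgroup (G ⧸ K)) π H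
            rw [MonoidHom.comap_bot, hker, Subgroup.relIndex_bot_left] at h6
            rw [h6, hH, Subgroup.map_comap_eq_self_of_surjective hπ]
          rw [h5] at hrel
          apply hQ
          have h7 : Nat.card C * C.index = Nat.card (G ⧸ K) := Subgroup.card_mul_index C
          have h8 : K.index = Nat.card (G ⧸ K) := rfl
          rw [h8, ← h7]
          calc Nat.card C * C.index ≤ (bdeg G) ^ 2 * (bdeg G) ^ 2 :=
                Nat.mul_le_mul hrel (hHidx ▸ hHle)
            _ = (bdeg G) ^ 4 := by ring
        exact hred H hHle hlt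

end Main

end Cfsg.Agent.Lib.Helper8.IP
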