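import Mathlib
import Cfsg.Prelude.Def_Characters
import Cfsg.Agent.Lib.Helper8.AV4
import Cfsg.Agent.Lib.Helper8.AV5
import Cfsg.Agent.Lib.Helper8.AV7
import Cfsg.Agent.Lib.Helper8.QB1
import Cfsg.Agent.Lib.Helper2.PermChar4

set_option autoImplicit false

/-!
# Characters of a triply transitive group: points, 2-subsets, and the alternating square
-/

namespace Cfsg.Agent.Lib.Helper8.IT

open MulAction Cfsg.Agent.Lib.Helper8.AV
open scoped ComplexConjugate

variable {H : Type*} [Group H] (Ω : Type*) [Fintype Ω] [DecidableEq Ω] [MulAction H Ω]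

/-- the permutation character on the points -/
def cP (g : H) : ℂ := ((fx Ω g : ℕ) : ℂ)

/-- the values of the permutation character on the 2-subsets, as real numbers -/
noncomputable def rA (g : H) : ℝ := (((fx Ω g).descFactorial 2 : ℕ) + (ts Ω g : ℕ) : ℝ) / 2

/-- the values of the alternating square of the permutation character, as real numbers -/
noncomputable def rB (g : H) : ℝ := (((fx Ω g).descFactorial 2 : ℕ) - (ts Ω g : ℕ) : ℝ) / 2

/-- the permutation character on the 2-subsets -/
noncomputable def cA (g : H) : ℂ := ((rA Ω g : ℝ) : ℂ)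

/-- the alternating square of the permutation character -/
noncomputable def cB (g : H) : ℂ := ((rB Ω g : ℝ) : ℂ)

theorem cA_apply (g : H) :
    cA Ω g = ((((fx Ω g).descFactorial 2 : ℕ) : ℂ) + ((ts Ω g : ℕ) : ℂ)) / 2 := by
  unfold cA rA
  push_cast
  ring

theorem cB_apply (g : H) :
    cB Ω g = ((((fx Ω g).descFactorial 2 : ℕ) : ℂ) - ((ts Ω g : ℕ) : ℂ)) / 2 := by
  unfold cB rB
  push_cast
  ring

theorem rB_sq_le (g : H) : rB Ω g ^ 2 ≤ rA Ω g ^ 2 := by
  unfold rA rB
  have h1 : (0 : ℝ) ≤ (((fx Ω g).descFactorial 2 : ℕ) : ℝ) := Nat.cast_nonneg _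
  have h2 : (0 : ℝ) ≤ ((ts Ω g : ℕ) : ℝ) := Nat.cast_nonneg _
  nlinarith [mul_nonneg h1 h2]

theorem rA_add_rB (g : H) : rA Ω g + rB Ω g = (((fx Ω g).descFactorial 2 : ℕ) : ℝ) := by
  unfold rA rB
  ring

section two

variable [Fintype H] [IsMultiplyPretransitive H Ω 2] (h2 : 2 ≤ Fintype.card Ω)

include h2

theorem isCharacter_cP : Cfsg.IsCharacter H (cP (H := H) Ω) := by
  have h1 : IsMultiplyPretransitive H Ω 1 :=
    isMultiplyPretransitive_of_le (n := 2) (by norm_num)
      (by rw [Nat.card_eq_fintype_card]; exact h2)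
  have : IsPretransitive H Ω := is_one_pretransitive_iff.1 h1
  have hne : Nonempty Ω := Fintype.card_pos_iff.1 (by omega)
  obtain ⟨a⟩ := hne
  have h := Cfsg.Agent.Lib.Helper2.PermChar.isCharacter_permChar (G := H) a
  have e : cP (H := H) Ω = fun g : H => (Nat.card (MulAction.fixedBy Ω g) : ℂ) := by
    funext g
    rw [natCard_fixedBy]
    rfl
  rw [e]
  exact h

theorem isCharacter_cA : Cfsg.IsCharacter H (cA (H := H) Ω) := by
  have : IsPretransitive H (Set.powersetCard Ω 2) :=
    Set.powersetCard.isPretransitive_of_isMultiplyPretransitive H inferInstance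
  have hne : Nonempty (Fin 2 ↪ Ω) :=
    Function.Embedding.nonempty_of_card_le (by simp only [Fintype.card_fin]; omega)
  obtain ⟨a⟩ := hne
  have h := Cfsg.Agent.Lib.Helper2.PermChar.isCharacter_permChar (G := H)
    (Set.powersetCard.mulActionHom_of_embedding H Ω 2 a)
  have e : cA (H := H) Ω =
      fun g : H => (Nat.card (MulAction.fixedBy (Set.powersetCard Ω 2) g) : ℂ) := by
    funext g
    rw [cA_apply]
    have h3 := two_mul_natCard_fixedBy_pc2 (H := H) Ω g
    have h4 : ((2 * Nat.card (fixedBy (Set.powersetCard Ω 2) g) : ℕ) : ℂ) =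
        (((fx Ω g).descFactorial 2 + ts Ω g : ℕ) : ℂ) := by rw [h3]
    push_cast at h4
    rw [← h4]
    ring
  rw [e]
  exact h

theorem isCharacter_cB : Cfsg.IsCharacter H (cB (H := H) Ω) := by
  obtain ⟨σ, α, hσ, hα, hadd, hsub⟩ :=
    Cfsg.Agent.Lib.Helper8.exists_sym_alt_square (isCharacter_cP (H := H) Ω h2)
  have e : cB (H := H) Ω = α := by
    funext g
    rw [cB_apply]
    have h3 := hadd g
    have h4 := hsub g
    unfold cP at h3 h4
    rw [fx_mul_self] at h4
    rw [cast_descFactorial_two]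
    push_cast at h4
    have h5 : α g = ((fx Ω g : ℂ) * (fx Ω g : ℂ) - ((fx Ω g : ℂ) + (ts Ω g : ℂ))) / 2 := by
      rw [← h3, ← h4]
      ring
    rw [h5]
    ring
  rw [e]
  exact hα

end two

end Cfsg.Agent.Lib.Helper8.IT
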