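import Mathlib
import Cfsg.Prelude.Def_Characters
import Cfsg.Agent.Lib.Helper8.IT1

set_option autoImplicit false

/-!
# Moments of the fixed point numbers of a triply transitive group and inner products
-/

namespace Cfsg.Agent.Lib.Helper8.IT

open MulAction Cfsg.Agent.Lib.Helper8.AV
open scoped ComplexConjugate

theorem real_descFactorial_two (n : ℕ) : ((n.descFactorial 2 : ℕ) : ℝ) = (n : ℝ) * (n - 1) := by
  rw [← descPochhammer_eval_eq_descFactorial ℝ n 2]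
  simp [descPochhammer_succ_right]

theorem real_descFactorial_three (n : ℕ) :
    ((n.descFactorial 3 : ℕ) : ℝ) = (n : ℝ) * (n - 1) * (n - 2) := by
  rw [← descPochhammer_eval_eq_descFactorial ℝ n 3]
  simp [descPochhammer_succ_right]

theorem real_descFactorial_four (n : ℕ) :
    ((n.descFactorial 4 : ℕ) : ℝ) = (n : ℝ) * (n - 1) * (n - 2) * (n - 3) := by
  rw [← descPochhammer_eval_eq_descFactorial ℝ n 4]
  simp [descPochhammer_succ_right]

section inner

variable {H : Type*} [Group H] [Fintype H]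

theorem classInner_ofReal (r s : H → ℝ) :
    Cfsg.classInner (fun g => ((r g : ℝ) : ℂ)) (fun g => ((s g : ℝ) : ℂ)) =
      ((((Fintype.card H : ℝ)⁻¹ * ∑ g, r g * s g : ℝ)) : ℂ) := by
  unfold Cfsg.classInner
  rw [Nat.card_eq_fintype_card]
  push_cast
  congr 1
  refine Finset.sum_congr rfl fun g _ => ?_
  rw [Complex.conj_ofReal]

end inner

variable {H : Type*} [Group H] (Ω : Type*) [Fintype Ω] [DecidableEq Ω] [MulAction H Ω]

section three

variable [Fintype H] [IsMultiplyPretransitive H Ω 3] (h3 : 3 ≤ Fintype.card Ω)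

include h3

theorem pretrans_two : IsMultiplyPretransitive H Ω 2 :=
  isMultiplyPretransitive_of_le (n := 3) (by norm_num)
    (by rw [Nat.card_eq_fintype_card]; exact h3)

theorem pretrans_one : IsMultiplyPretransitive H Ω 1 :=
  isMultiplyPretransitive_of_le (n := 3) (by norm_num)
    (by rw [Nat.card_eq_fintype_card]; exact h3)

theorem nsum1 : ∑ g : H, fx Ω g = Fintype.card H := by
  have : IsMultiplyPretransitive H Ω 1 := pretrans_one Ω h3
  have h := sum_tw (H := H) Ω (m := 1) (by omega) 1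
  rw [← h]
  refine Finset.sum_congr rfl fun g _ => ?_
  rw [tw_one, Nat.descFactorial_one]

theorem nsum2 : ∑ g : H, (fx Ω g).descFactorial 2 = Fintype.card H := by
  have : IsMultiplyPretransitive H Ω 2 := pretrans_two Ω h3
  have h := sum_tw (H := H) Ω (m := 2) (by omega) 1
  rw [← h]
  refine Finset.sum_congr rfl fun g _ => ?_
  rw [tw_one]

theorem nsum3 : ∑ g : H, (fx Ω g).descFactorial 3 = Fintype.card H := by
  have h := sum_tw (H := H) Ω (m := 3) (by omega) 1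
  rw [← h]
  refine Finset.sum_congr rfl fun g _ => ?_
  rw [tw_one]

theorem nsum5 : ∑ g : H, ts Ω g = Fintype.card H := by
  have : IsMultiplyPretransitive H Ω 2 := pretrans_two Ω h3
  have h := sum_tw (H := H) Ω (m := 2) (by omega) (Equiv.swap 0 1)
  rw [← h]
  refine Finset.sum_congr rfl fun g _ => ?_
  rw [tw_swap2]

theorem nsum6 : ∑ g : H, ts Ω g * fx Ω g = Fintype.card H := by
  have h := sum_tw (H := H) Ω (m := 3) (by omega) (Equiv.swap 0 1)
  rw [← h]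
  refine Finset.sum_congr rfl fun g _ => ?_
  rw [tw_swap3]

theorem rsum1 : ∑ g : H, ((fx Ω g : ℕ) : ℝ) = Fintype.card H := by
  rw [← nsum1 (H := H) Ω h3, Nat.cast_sum]

theorem rsum2 : ∑ g : H, (((fx Ω g).descFactorial 2 : ℕ) : ℝ) = Fintype.card H := by
  rw [← nsum2 (H := H) Ω h3, Nat.cast_sum]

theorem rsum3 : ∑ g : H, (((fx Ω g).descFactorial 3 : ℕ) : ℝ) = Fintype.card H := by
  rw [← nsum3 (H := H) Ω h3, Nat.cast_sum]

theorem rsum5 : ∑ g : H, ((ts Ω g : ℕ) : ℝ) = Fintype.card H := by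
  rw [← nsum5 (H := H) Ω h3, Nat.cast_sum]

theorem rsum6 : ∑ g : H, ((ts Ω g : ℕ) : ℝ) * ((fx Ω g : ℕ) : ℝ) = Fintype.card H := by
  rw [← nsum6 (H := H) Ω h3, Nat.cast_sum]
  refine Finset.sum_congr rfl fun g _ => ?_
  rw [Nat.cast_mul]

/-- `∑ f⁽²⁾ f = 3 |H|` -/
theorem rsum2f : ∑ g : H, (((fx Ω g).descFactorial 2 : ℕ) : ℝ) * ((fx Ω g : ℕ) : ℝ) =
    3 * (Fintype.card H : ℝ) := by
  have e : ∀ g : H, (((fx Ω g).descFactorial 2 : ℕ) : ℝ) * ((fx Ω g : ℕ) : ℝ) =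
      (((fx Ω g).descFactorial 3 : ℕ) : ℝ) + 2 * (((fx Ω g).descFactorial 2 : ℕ) : ℝ) := by
    intro g
    rw [real_descFactorial_two, real_descFactorial_three]
    ring
  rw [Finset.sum_congr rfl fun g _ => e g, Finset.sum_add_distrib, ← Finset.mul_sum,
    rsum2 (H := H) Ω h3, rsum3 (H := H) Ω h3]
  ring

theorem sum_rB : ∑ g : H, rB Ω g = 0 := by
  unfold rB
  rw [← Finset.sum_div, Finset.sum_sub_distrib, rsum2 (H := H) Ω h3, rsum5 (H := H) Ω h3]
  simp

theorem sum_rA : ∑ g : H, rA Ω g = Fintype.card H := by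
  unfold rA
  rw [← Finset.sum_div, Finset.sum_add_distrib, rsum2 (H := H) Ω h3, rsum5 (H := H) Ω h3]
  ring

theorem sum_rB_fx : ∑ g : H, rB Ω g * ((fx Ω g : ℕ) : ℝ) = Fintype.card H := by
  have e : ∀ g : H, rB Ω g * ((fx Ω g : ℕ) : ℝ) =
      ((((fx Ω g).descFactorial 2 : ℕ) : ℝ) * ((fx Ω g : ℕ) : ℝ)
        - ((ts Ω g : ℕ) : ℝ) * ((fx Ω g : ℕ) : ℝ)) / 2 := by
    intro g
    unfold rB
    ring
  rw [Finset.sum_congr rfl fun g _ => e g, ← Finset.sum_div, Finset.sum_sub_distrib,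
    rsum2f (H := H) Ω h3, rsum6 (H := H) Ω h3]
  ring

theorem sum_rA_fx : ∑ g : H, rA Ω g * ((fx Ω g : ℕ) : ℝ) = 2 * (Fintype.card H : ℝ) := by
  have e : ∀ g : H, rA Ω g * ((fx Ω g : ℕ) : ℝ) =
      ((((fx Ω g).descFactorial 2 : ℕ) : ℝ) * ((fx Ω g : ℕ) : ℝ)
        + ((ts Ω g : ℕ) : ℝ) * ((fx Ω g : ℕ) : ℝ)) / 2 := by
    intro g
    unfold rA
    ring
  rw [Finset.sum_congr rfl fun g _ => e g, ← Finset.sum_div, Finset.sum_add_distrib,
    rsum2f (H := H) Ω h3, rsum6 (H := H) Ω h3]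
  ring

theorem sum_fx_sq : ∑ g : H, ((fx Ω g : ℕ) : ℝ) * ((fx Ω g : ℕ) : ℝ) =
    2 * (Fintype.card H : ℝ) := by
  have e : ∀ g : H, ((fx Ω g : ℕ) : ℝ) * ((fx Ω g : ℕ) : ℝ) =
      (((fx Ω g).descFactorial 2 : ℕ) : ℝ) + ((fx Ω g : ℕ) : ℝ) := by
    intro g
    rw [real_descFactorial_two]
    ring
  rw [Finset.sum_congr rfl fun g _ => e g, Finset.sum_add_distrib,
    rsum2 (H := H) Ω h3, rsum1 (H := H) Ω h3]
  ring

theorem sum_T_sq : ∑ g : H, (rA Ω g + rB Ω g) * (rA Ω g + rB Ω g) =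
    (∑ g : H, (((fx Ω g).descFactorial 4 : ℕ) : ℝ)) + 6 * (Fintype.card H : ℝ) := by
  have e : ∀ g : H, (rA Ω g + rB Ω g) * (rA Ω g + rB Ω g) =
      (((fx Ω g).descFactorial 4 : ℕ) : ℝ) + (4 * (((fx Ω g).descFactorial 3 : ℕ) : ℝ)
        + 2 * (((fx Ω g).descFactorial 2 : ℕ) : ℝ)) := by
    intro g
    rw [rA_add_rB, real_descFactorial_two, real_descFactorial_three, real_descFactorial_four]
    ring
  rw [Finset.sum_congr rfl fun g _ => e g, Finset.sum_add_distrib, Finset.sum_add_distrib,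
    ← Finset.mul_sum, ← Finset.mul_sum, rsum2 (H := H) Ω h3, rsum3 (H := H) Ω h3]
  ring

end three

end Cfsg.Agent.Lib.Helper8.IT
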