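import Mathlib
import Cfsg.Prelude.Def_Characters
import Cfsg.Agent.Lib.Helper8.IT2
import Cfsg.Agent.Lib.Helper8.AV6
import Cfsg.Agent.Lib.Helper2.Exceptional

set_option autoImplicit false

/-!
# Inner products of the characters attached to a triply transitive group
-/

namespace Cfsg.Agent.Lib.Helper8.IT

open MulAction Cfsg.Agent.Lib.Helper8.AV Cfsg.Agent.Lib.Helper4
open scoped ComplexConjugate

variable {H : Type*} [Group H] (Ω : Type*) [Fintype Ω] [DecidableEq Ω] [MulAction H Ω]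

theorem cP_eq : cP (H := H) Ω = fun g => ((((fx Ω g : ℕ) : ℝ)) : ℂ) := by
  funext g
  unfold cP
  simp

theorem one_eq : (fun _ : H => (1 : ℂ)) = fun _ => (((1 : ℝ)) : ℂ) := by
  funext g
  simp

theorem cA_add_cB : cA (H := H) Ω + cB (H := H) Ω = fun g => ((rA Ω g + rB Ω g : ℝ) : ℂ) := by
  funext g
  unfold cA cB
  simp

section three

variable [Fintype H] [IsMultiplyPretransitive H Ω 3] (h3 : 3 ≤ Fintype.card Ω)

include h3

theorem card_ne_zero : (Fintype.card H : ℝ) ≠ 0 :=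
  Nat.cast_ne_zero.2 Fintype.card_ne_zero

theorem inner_cP_one : Cfsg.classInner (cP (H := H) Ω) (fun _ => (1 : ℂ)) = 1 := by
  rw [cP_eq, one_eq, classInner_ofReal]
  simp only [mul_one]
  rw [rsum1 (H := H) Ω h3, inv_mul_cancel₀ (card_ne_zero (H := H) Ω h3)]
  simp

theorem inner_cP_cP : Cfsg.classInner (cP (H := H) Ω) (cP (H := H) Ω) = 2 := by
  rw [cP_eq, classInner_ofReal, sum_fx_sq (H := H) Ω h3, ← mul_assoc, mul_comm _ (2 : ℝ),
    mul_assoc, inv_mul_cancel₀ (card_ne_zero (H := H) Ω h3)]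
  simp

theorem inner_cB_one : Cfsg.classInner (cB (H := H) Ω) (fun _ => (1 : ℂ)) = 0 := by
  unfold cB
  rw [one_eq, classInner_ofReal]
  simp only [mul_one]
  rw [sum_rB (H := H) Ω h3]
  simp

theorem inner_cA_one : Cfsg.classInner (cA (H := H) Ω) (fun _ => (1 : ℂ)) = 1 := by
  unfold cA
  rw [one_eq, classInner_ofReal]
  simp only [mul_one]
  rw [sum_rA (H := H) Ω h3, inv_mul_cancel₀ (card_ne_zero (H := H) Ω h3)]
  simp

theorem inner_cB_cP : Cfsg.classInner (cB (H := H) Ω) (cP (H := H) Ω) = 1 := by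
  unfold cB
  rw [cP_eq, classInner_ofReal, sum_rB_fx (H := H) Ω h3,
    inv_mul_cancel₀ (card_ne_zero (H := H) Ω h3)]
  simp

theorem inner_cA_cP : Cfsg.classInner (cA (H := H) Ω) (cP (H := H) Ω) = 2 := by
  unfold cA
  rw [cP_eq, classInner_ofReal, sum_rA_fx (H := H) Ω h3, ← mul_assoc, mul_comm _ (2 : ℝ),
    mul_assoc, inv_mul_cancel₀ (card_ne_zero (H := H) Ω h3)]
  simp

theorem inner_T : Cfsg.classInner (cA (H := H) Ω + cB (H := H) Ω)
    (cA (H := H) Ω + cB (H := H) Ω) =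
    (((Fintype.card H : ℝ)⁻¹ * (∑ g : H, (((fx Ω g).descFactorial 4 : ℕ) : ℝ)) + 6 : ℝ) : ℂ) := by
  rw [cA_add_cB, classInner_ofReal, sum_T_sq (H := H) Ω h3, mul_add, ← mul_assoc,
    mul_comm _ (6 : ℝ), mul_assoc, inv_mul_cancel₀ (card_ne_zero (H := H) Ω h3), mul_one]

omit h3 [IsMultiplyPretransitive H Ω 3] in
theorem inner_cB_le : (Cfsg.classInner (cB (H := H) Ω) (cB (H := H) Ω)).re ≤
    (Cfsg.classInner (cA (H := H) Ω) (cA (H := H) Ω)).re := by
  unfold cA cB
  rw [classInner_ofReal, classInner_ofReal, Complex.ofReal_re, Complex.ofReal_re]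
  refine mul_le_mul_of_nonneg_left ?_ (inv_nonneg.2 (Nat.cast_nonneg _))
  refine Finset.sum_le_sum fun g _ => ?_
  have := rB_sq_le (H := H) Ω g
  nlinarith [this]

/-- the nontrivial constituent of the permutation character -/
theorem isIrr_chi2 : Cfsg.IsIrrCharacter H (cP (H := H) Ω - fun _ => (1 : ℂ)) := by
  have h2 : 2 ≤ Fintype.card Ω := by omega
  have : IsMultiplyPretransitive H Ω 2 := pretrans_two Ω h3
  have hP := isCharacter_cP (H := H) Ω h2
  have h1 : Cfsg.IsCharacter H (fun _ : H => (1 : ℂ)) :=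
    Cfsg.Agent.Lib.Helper5.PermChar.isCharacter_one
  have hg : Cfsg.IsGeneralizedCharacter H (cP (H := H) Ω - fun _ => (1 : ℂ)) :=
    ⟨_, _, hP, h1, rfl⟩
  have h11 : Cfsg.classInner (fun _ : H => (1 : ℂ)) (fun _ : H => (1 : ℂ)) = 1 :=
    classInner_irr_self (Cfsg.Agent.Lib.Helper1.isIrrCharacter_of_hom (1 : H →* ℂˣ))
  have h1P : Cfsg.classInner (fun _ : H => (1 : ℂ)) (cP (H := H) Ω) = 1 := by
    rw [← classInner_conj_symm, inner_cP_one (H := H) Ω h3, map_one]
  have hn : Cfsg.classInner (cP (H := H) Ω - fun _ => (1 : ℂ))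
      (cP (H := H) Ω - fun _ => (1 : ℂ)) = 1 := by
    rw [classInner_sub_left, classInner_sub_right, classInner_sub_right,
      inner_cP_cP (H := H) Ω h3, inner_cP_one (H := H) Ω h3, h1P, h11]
    norm_num
  refine Cfsg.Agent.Lib.Helper2.Exceptional.irr_of_norm_one_pos hg hn (n := Fintype.card Ω - 1) (by omega) ?_
  rw [Pi.sub_apply]
  unfold cP
  rw [fx_one, Nat.cast_sub (by omega)]
  simp

end three

end Cfsg.Agent.Lib.Helper8.IT
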