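import Mathlib
import Cfsg.Prelude.Def_Characters
import Cfsg.Agent.Lib.Helper8.IT3
import Cfsg.Agent.Lib.Helper8.CD4

set_option autoImplicit false

/-!
# The norm inequality for a triply transitive group of prime degree
-/

namespace Cfsg.Agent.Lib.Helper8.IT

open MulAction Cfsg.Agent.Lib.Helper8.AV Cfsg.Agent.Lib.Helper4 Cfsg.Agent.Lib.Helper1
open scoped ComplexConjugate

variable {H : Type*} [Group H] (Ω : Type*) [Fintype Ω] [DecidableEq Ω] [MulAction H Ω]

section parseval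

variable [Fintype H] [Fintype (Cfsg.IrrCharacter H)]

omit [Fintype Ω] [DecidableEq Ω] [MulAction H Ω] in
/-- Parseval for two characters with natural multiplicities -/
theorem inner_eq_sum_mult {ψ φ : H → ℂ} (hψ : Cfsg.IsCharacter H ψ)
    (m n : Cfsg.IrrCharacter H → ℕ)
    (hm : ∀ ζ : Cfsg.IrrCharacter H, Cfsg.classInner ψ (ζ : H → ℂ) = m ζ)
    (hn : ∀ ζ : Cfsg.IrrCharacter H, Cfsg.classInner φ (ζ : H → ℂ) = n ζ) :
    Cfsg.classInner ψ φ = ((∑ ζ : Cfsg.IrrCharacter H, m ζ * n ζ : ℕ) : ℂ) := by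
  rw [classInner_eq_sum_mult ψ φ (isClassFunction_of_isCharacter hψ), Nat.cast_sum]
  refine Finset.sum_congr rfl fun ζ _ => ?_
  rw [hm ζ, ← classInner_conj_symm φ (ζ : H → ℂ), hn ζ, Complex.conj_natCast, Nat.cast_mul]

end parseval

section three

variable [Fintype H] [IsMultiplyPretransitive H Ω 3]

theorem core (p : ℕ) [Fact p.Prime] (hp5 : 5 ≤ p) (hΩ : Fintype.card Ω = p)
    (hlist : ∀ χ : Cfsg.IrrCharacter H, (χ : H → ℂ) = (fun _ => (1 : ℂ)) ∨
      (χ : H → ℂ) = (cP (H := H) Ω - fun _ => (1 : ℂ)) ∨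
      ((Cfsg.charDegree (χ : H → ℂ) : ℤ) ≡ -2 [ZMOD (p : ℤ)]) ∨
      p ∣ Cfsg.charDegree (χ : H → ℂ)) :
    (p - 3) * Fintype.card H ≤ ∑ g : H, (fx Ω g).descFactorial 4 := by
  classical
  have hp : p.Prime := Fact.out
  have h3 : 3 ≤ Fintype.card Ω := by omega
  have h2 : 2 ≤ Fintype.card Ω := by omega
  have : Fintype (Cfsg.IrrCharacter H) := Fintype.ofFinite _
  have h2t : IsMultiplyPretransitive H Ω 2 := pretrans_two Ω h3
  have hA := isCharacter_cA (H := H) Ω h2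
  have hB := isCharacter_cB (H := H) Ω h2
  obtain ⟨mA, hmA, hdecA⟩ := Cfsg.Agent.Lib.Helper8.exists_nat_mult hA
  obtain ⟨mB, hmB, hdecB⟩ := Cfsg.Agent.Lib.Helper8.exists_nat_mult hB
  have hirr1 : Cfsg.IsIrrCharacter H (fun _ : H => (1 : ℂ)) := isIrrCharacter_of_hom (1 : H →* ℂˣ)
  set χ₁ : Cfsg.IrrCharacter H := ⟨fun _ => (1 : ℂ), hirr1⟩ with hχ₁
  set χ₂ : Cfsg.IrrCharacter H := ⟨cP (H := H) Ω - fun _ => (1 : ℂ), isIrr_chi2 (H := H) Ω h3⟩
    with hχ₂
  -- multiplicities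
  have hB1 : mB χ₁ = 0 := by
    have h := hmB χ₁
    have h' : Cfsg.classInner (cB (H := H) Ω) (fun _ => (1 : ℂ)) = (mB χ₁ : ℂ) := h
    rw [inner_cB_one (H := H) Ω h3] at h'
    exact_mod_cast h'.symm
  have hB2 : mB χ₂ = 1 := by
    have h := hmB χ₂
    have h' : Cfsg.classInner (cB (H := H) Ω) (cP (H := H) Ω - fun _ => (1 : ℂ)) = (mB χ₂ : ℂ) := h
    rw [classInner_sub_right, inner_cB_cP (H := H) Ω h3, inner_cB_one (H := H) Ω h3] at h'
    have h'' : (mB χ₂ : ℂ) = ((1 : ℕ) : ℂ) := by rw [← h']; norm_num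
    exact_mod_cast h''
  have hA2 : mA χ₂ = 1 := by
    have h := hmA χ₂
    have h' : Cfsg.classInner (cA (H := H) Ω) (cP (H := H) Ω - fun _ => (1 : ℂ)) = (mA χ₂ : ℂ) := h
    rw [classInner_sub_right, inner_cA_cP (H := H) Ω h3, inner_cA_one (H := H) Ω h3] at h'
    have h'' : (mA χ₂ : ℂ) = ((1 : ℕ) : ℂ) := by rw [← h']; norm_num
    exact_mod_cast h''
  -- Parseval
  set nA : ℕ := ∑ ζ : Cfsg.IrrCharacter H, mA ζ * mA ζ with hnA
  set nB : ℕ := ∑ ζ : Cfsg.IrrCharacter H, mB ζ * mB ζ with hnB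
  set nAB : ℕ := ∑ ζ : Cfsg.IrrCharacter H, mA ζ * mB ζ with hnAB
  have hAA : Cfsg.classInner (cA (H := H) Ω) (cA (H := H) Ω) = (nA : ℂ) :=
    inner_eq_sum_mult hA mA mA hmA hmA
  have hBB : Cfsg.classInner (cB (H := H) Ω) (cB (H := H) Ω) = (nB : ℂ) :=
    inner_eq_sum_mult hB mB mB hmB hmB
  have hAB : Cfsg.classInner (cA (H := H) Ω) (cB (H := H) Ω) = (nAB : ℂ) :=
    inner_eq_sum_mult hA mA mB hmA hmB
  have hBA : Cfsg.classInner (cB (H := H) Ω) (cA (H := H) Ω) = (nAB : ℂ) := by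
    rw [← classInner_conj_symm, hAB, Complex.conj_natCast]
  have hT : Cfsg.classInner (cA (H := H) Ω + cB (H := H) Ω) (cA (H := H) Ω + cB (H := H) Ω) =
      ((nA + 2 * nAB + nB : ℕ) : ℂ) := by
    rw [classInner_add_left, classInner_add_right, classInner_add_right, hAA, hBB, hAB, hBA]
    push_cast
    ring
  -- the three inequalities
  have h_nAB : 1 ≤ nAB := by
    have h := Finset.single_le_sum (f := fun ζ => mA ζ * mB ζ) (fun ζ _ => Nat.zero_le _)
      (Finset.mem_univ χ₂)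
    simp only [hA2, hB2, mul_one] at h
    exact h
  have h_nBA : nB ≤ nA := by
    have h := inner_cB_le (H := H) Ω
    rw [hAA, hBB, Complex.natCast_re, Complex.natCast_re] at h
    exact_mod_cast h
  -- degrees
  have hχ₁₂ : χ₁ ≠ χ₂ := by
    intro h
    have h1 := congrArg (fun ζ : Cfsg.IrrCharacter H => (ζ : H → ℂ) 1) h
    simp only [hχ₁, hχ₂, Pi.sub_apply] at h1
    unfold cP at h1
    rw [fx_one, hΩ] at h1
    have h2' : ((p : ℕ) : ℂ) = ((2 : ℕ) : ℂ) := by
      push_cast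
      linear_combination -h1
    have : p = 2 := by exact_mod_cast h2'
    omega
  have hd1 : Cfsg.charDegree (χ₁ : H → ℂ) = 1 := by
    have h := (Cfsg.Agent.Lib.Helper8.irr_apply_one_eq_charDegree χ₁.2).1
    have h' : ((1 : ℕ) : ℂ) = (Cfsg.charDegree (χ₁ : H → ℂ) : ℂ) := by
      rw [← h]
      simp [hχ₁]
    exact_mod_cast h'.symm
  have hd2 : Cfsg.charDegree (χ₂ : H → ℂ) = p - 1 := by
    have h := (Cfsg.Agent.Lib.Helper8.irr_apply_one_eq_charDegree χ₂.2).1
    have h' : ((p - 1 : ℕ) : ℂ) = (Cfsg.charDegree (χ₂ : H → ℂ) : ℂ) := by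
      rw [← h]
      simp only [hχ₂, Pi.sub_apply]
      unfold cP
      rw [fx_one, hΩ, Nat.cast_sub (by omega)]
      simp
    exact_mod_cast h'.symm
  set C3 : Finset (Cfsg.IrrCharacter H) := Finset.univ.filter
    (fun χ => χ ≠ χ₁ ∧ χ ≠ χ₂ ∧ ¬ p ∣ Cfsg.charDegree (χ : H → ℂ)) with hC3
  set S : ℕ := ∑ χ ∈ C3, mB χ with hS
  have h2ne : (2 : ZMod p) ≠ 0 := by
    intro h
    have h4 : ((2 : ℕ) : ZMod p) = 0 := by exact_mod_cast h
    rw [ZMod.natCast_eq_zero_iff] at h4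
    have := Nat.le_of_dvd (by norm_num) h4
    omega
  have hF : ∀ χ : Cfsg.IrrCharacter H,
      ((mB χ * Cfsg.charDegree (χ : H → ℂ) : ℕ) : ZMod p) =
        (if χ = χ₁ then (mB χ : ZMod p) else 0) - (if χ = χ₂ then (mB χ : ZMod p) else 0)
          - 2 * (if χ ∈ C3 then (mB χ : ZMod p) else 0) := by
    intro χ
    by_cases h1 : χ = χ₁
    · have hn2 : χ ≠ χ₂ := by rw [h1]; exact hχ₁₂
      have hn3 : χ ∉ C3 := by
        rw [hC3, Finset.mem_filter]
        exact fun h => h.2.1 h1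
      rw [if_pos h1, if_neg hn2, if_neg hn3, h1, hd1]
      simp
    · by_cases h2' : χ = χ₂
      · have hn3 : χ ∉ C3 := by
          rw [hC3, Finset.mem_filter]
          exact fun h => h.2.2.1 h2'
        rw [if_neg h1, if_pos h2', if_neg hn3, h2', hd2, Nat.cast_mul, Nat.cast_sub (by omega)]
        simp
      · have hf1 : (χ : H → ℂ) ≠ (fun _ => (1 : ℂ)) := fun h => h1 (Subtype.ext h)
        have hf2 : (χ : H → ℂ) ≠ (cP (H := H) Ω - fun _ => (1 : ℂ)) := fun h => h2' (Subtype.ext h)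
        rcases hlist χ with h | h | h | h
        · exact absurd h hf1
        · exact absurd h hf2
        · have hz : ((Cfsg.charDegree (χ : H → ℂ) : ℤ) : ZMod p) = ((-2 : ℤ) : ZMod p) :=
            (ZMod.intCast_eq_intCast_iff _ _ p).2 h
          have hz' : ((Cfsg.charDegree (χ : H → ℂ) : ℕ) : ZMod p) = -2 := by
            have : ((Cfsg.charDegree (χ : H → ℂ) : ℤ) : ZMod p) =
                ((Cfsg.charDegree (χ : H → ℂ) : ℕ) : ZMod p) := by push_cast; rfl
            rw [← this, hz]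
            push_cast
            rfl
          have hnd : ¬ p ∣ Cfsg.charDegree (χ : H → ℂ) := by
            intro hd
            rw [← ZMod.natCast_eq_zero_iff, hz'] at hd
            exact h2ne (neg_eq_zero.1 hd)
          have h3' : χ ∈ C3 := by
            rw [hC3, Finset.mem_filter]
            exact ⟨Finset.mem_univ _, h1, h2', hnd⟩
          rw [if_neg h1, if_neg h2', if_pos h3', Nat.cast_mul, hz']
          ring
        · have hn3 : χ ∉ C3 := by
            rw [hC3, Finset.mem_filter]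
            exact fun h' => h'.2.2.2 h
          rw [if_neg h1, if_neg h2', if_neg hn3, Nat.cast_mul,
            (ZMod.natCast_eq_zero_iff _ _).2 h]
          simp
  have hdeg := Cfsg.Agent.Lib.Helper8.apply_one_eq_sum_mult mB hdecB
  have hcB1 : cB (H := H) Ω 1 = ((p * (p - 1) : ℕ) : ℂ) / 2 := by
    rw [cB_apply, fx_one, ts_one, hΩ]
    have : p.descFactorial 2 = p * (p - 1) := by
      rw [Nat.descFactorial_succ, Nat.descFactorial_one]
      ring
    rw [this]
    simp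
  have hsum2 : 2 * (∑ ζ : Cfsg.IrrCharacter H, mB ζ * Cfsg.charDegree (ζ : H → ℂ)) = p * (p - 1) := by
    rw [hcB1] at hdeg
    have h' : ((2 * (∑ ζ : Cfsg.IrrCharacter H, mB ζ * Cfsg.charDegree (ζ : H → ℂ)) : ℕ) : ℂ) =
        ((p * (p - 1) : ℕ) : ℂ) := by
      rw [Nat.cast_mul, ← hdeg]
      push_cast
      ring
    exact_mod_cast h'
  have hsumz : ((∑ ζ : Cfsg.IrrCharacter H, mB ζ * Cfsg.charDegree (ζ : H → ℂ) : ℕ) : ZMod p) = 0 := by
    have h' : ((2 * (∑ ζ : Cfsg.IrrCharacter H, mB ζ * Cfsg.charDegree (ζ : H → ℂ)) : ℕ) : ZMod p)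
        = 0 := by
      rw [hsum2, Nat.cast_mul]
      simp
    rw [Nat.cast_mul] at h'
    rcases mul_eq_zero.1 h' with h | h
    · exact absurd (by exact_mod_cast h) h2ne
    · exact h
  have hS2 : ((2 * S + 1 : ℕ) : ZMod p) = 0 := by
    rw [Nat.cast_sum, Finset.sum_congr rfl fun χ _ => hF χ, Finset.sum_sub_distrib,
      Finset.sum_sub_distrib, Finset.sum_ite_eq' Finset.univ χ₁, ← Finset.mul_sum,
      Finset.sum_ite_eq' Finset.univ χ₂, Finset.sum_ite_mem, Finset.univ_inter] at hsumz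
    simp only [Finset.mem_univ, if_true, hB1, hB2] at hsumz
    push_cast
    rw [hS, Nat.cast_sum]
    linear_combination -hsumz
  have hSle : (p - 1) / 2 ≤ S := by
    rw [ZMod.natCast_eq_zero_iff] at hS2
    have := Nat.le_of_dvd (by omega) hS2
    omega
  have h_nB : 1 + S ≤ nB := by
    have hχ₂C3 : χ₂ ∉ C3 := by
      rw [hC3, Finset.mem_filter]
      exact fun h => h.2.2.1 rfl
    have h1 : ∑ ζ ∈ insert χ₂ C3, mB ζ * mB ζ ≤ nB :=
      Finset.sum_le_sum_of_subset (Finset.subset_univ _)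
    rw [Finset.sum_insert hχ₂C3, hB2] at h1
    have h2' : S ≤ ∑ ζ ∈ C3, mB ζ * mB ζ :=
      Finset.sum_le_sum fun ζ _ => Nat.le_mul_self _
    omega
  -- the total
  have hreal : ((nA + 2 * nAB + nB : ℕ) : ℝ) =
      (Fintype.card H : ℝ)⁻¹ * (∑ g : H, (((fx Ω g).descFactorial 4 : ℕ) : ℝ)) + 6 := by
    have h := inner_T (H := H) Ω h3
    rw [hT] at h
    have h' : (((nA + 2 * nAB + nB : ℕ) : ℝ) : ℂ) =
        (((Fintype.card H : ℝ)⁻¹ * (∑ g : H, (((fx Ω g).descFactorial 4 : ℕ) : ℝ)) + 6 : ℝ) : ℂ) := by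
      rw [← h]
      simp
    exact Complex.ofReal_injective h'
  have hcard : (Fintype.card H : ℝ) ≠ 0 := Nat.cast_ne_zero.2 Fintype.card_ne_zero
  have hnat : (nA + 2 * nAB + nB) * Fintype.card H =
      (∑ g : H, (fx Ω g).descFactorial 4) + 6 * Fintype.card H := by
    have h' : (((nA + 2 * nAB + nB) * Fintype.card H : ℕ) : ℝ) =
        (((∑ g : H, (fx Ω g).descFactorial 4) + 6 * Fintype.card H : ℕ) : ℝ) := by
      rw [Nat.cast_mul, hreal]
      push_cast
      field_simp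
    exact_mod_cast h'
  have hodd : p % 2 = 1 := by
    rcases hp.eq_two_or_odd with h | h
    · omega
    · exact h
  have hbig : p + 3 ≤ nA + 2 * nAB + nB := by omega
  have hmul : (p + 3) * Fintype.card H ≤ (nA + 2 * nAB + nB) * Fintype.card H :=
    Nat.mul_le_mul_right _ hbig
  rw [hnat] at hmul
  have hsplit : (p + 3) * Fintype.card H = (p - 3) * Fintype.card H + 6 * Fintype.card H := by
    rw [← add_mul]
    congr 1
    omega
  omega

end three

end Cfsg.Agent.Lib.Helper8.IT
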