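import Mathlib
import Cfsg.Prelude.Def_Characters
import Cfsg.Agent.Lib.Helper8.IT4

set_option autoImplicit false

/-!
# Triply transitive groups of prime degree with a restricted character list are sharply
triply transitive
-/

namespace Cfsg.Agent.Lib.Helper8.IT

open MulAction Cfsg.Agent.Lib.Helper8.AV
open scoped ComplexConjugate

variable {H : Type*} [Group H] (Ω : Type*) [Fintype Ω] [DecidableEq Ω] [MulAction H Ω]

theorem fx_le_card (g : H) : fx Ω g ≤ Fintype.card Ω := by
  unfold fx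
  exact Fintype.card_subtype_le _

section three

variable [Fintype H] [IsMultiplyPretransitive H Ω 3]

theorem fx_eq_of_three_le (p : ℕ) [Fact p.Prime] (hp5 : 5 ≤ p) (hΩ : Fintype.card Ω = p)
    (hlist : ∀ χ : Cfsg.IrrCharacter H, (χ : H → ℂ) = (fun _ => (1 : ℂ)) ∨
      (χ : H → ℂ) = (cP (H := H) Ω - fun _ => (1 : ℂ)) ∨
      ((Cfsg.charDegree (χ : H → ℂ) : ℤ) ≡ -2 [ZMOD (p : ℤ)]) ∨
      p ∣ Cfsg.charDegree (χ : H → ℂ)) (g₀ : H) (hg₀ : 3 ≤ fx Ω g₀) : fx Ω g₀ = p := by
  by_contra hne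
  have hlt : fx Ω g₀ < p := by
    have := fx_le_card (H := H) Ω g₀
    omega
  have h3 : 3 ≤ Fintype.card Ω := by omega
  have hcore := core (H := H) Ω p hp5 hΩ hlist
  rw [← nsum3 (H := H) Ω h3, Finset.mul_sum] at hcore
  have hterm : ∀ g : H, (fx Ω g).descFactorial 4 ≤ (p - 3) * (fx Ω g).descFactorial 3 := by
    intro g
    rw [Nat.descFactorial_succ]
    refine Nat.mul_le_mul_right _ ?_
    have := fx_le_card (H := H) Ω g
    omega
  have hstrict : (fx Ω g₀).descFactorial 4 < (p - 3) * (fx Ω g₀).descFactorial 3 := by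
    rw [Nat.descFactorial_succ]
    refine Nat.mul_lt_mul_of_pos_right ?_ ?_
    · omega
    · exact Nat.descFactorial_pos.2 hg₀ |> fun h => h
  have := Finset.sum_lt_sum (fun g _ => hterm g) ⟨g₀, Finset.mem_univ _, hstrict⟩
  omega

end three

end Cfsg.Agent.Lib.Helper8.IT
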