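import Mathlib
import Cfsg.Prelude.Def_Blocks
import Cfsg.Agent.Lib.Helper8.DO18
import Cfsg.Agent.Lib.Helper8.TildeBlock
import Cfsg.Agent.Lib.Helper1.O7920b

set_option autoImplicit false
set_option maxHeartbeats 800000

/-!
# The irreducible characters of a group with a self-centralizing Sylow subgroup of prime order
whose normalizer has order `2p`, given a character of degree `p - 1`
-/

namespace Cfsg.Agent.Lib.Helper8.IT

open Cfsg
open scoped ComplexConjugate
open Cfsg.Agent.Lib.Helper1 Cfsg.Agent.Lib.Helper4 Cfsg.Agent.Lib.Helper8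

universe u

variable {G : Type u} [Group G] [Fintype G]

theorem not_dvd_small (p : ℕ) (hp5 : 5 ≤ p) (k : ℤ) (hk : k ≠ 0) (hk3 : |k| ≤ 3) :
    ¬ (p : ℤ) ∣ k := by
  intro h
  have h1 := Int.le_of_dvd (abs_pos.2 hk) ((dvd_abs _ _).2 h)
  have : (5 : ℤ) ≤ p := by exact_mod_cast hp5
  omega

theorem char_list (p : ℕ) [Fact p.Prime] (hp5 : 5 ≤ p)
    (x : G) (hx : orderOf x = p) (hsq : ¬ p ^ 2 ∣ Nat.card G)
    (hself : ∀ t : G, t * x = x * t → t ∈ Subgroup.zpowers x)
    (hN : Nat.card (Subgroup.normalizer ((Subgroup.zpowers x : Subgroup G) : Set G)) = 2 * p)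
    (χ₂ : IrrCharacter G) (hχ₂ : charDegree (χ₂ : G → ℂ) = p - 1) (χ : IrrCharacter G) :
    χ = trivIrr G ∨ χ = χ₂ ∨ ((charDegree (χ : G → ℂ) : ℤ) ≡ -2 [ZMOD (p : ℤ)]) ∨
      p ∣ charDegree (χ : G → ℂ) := by
  classical
  have hp : p.Prime := Fact.out
  have hp5' : (5 : ℤ) ≤ p := by exact_mod_cast hp5
  obtain ⟨M, hM⟩ := exists_isPModular p
  have hMp := isPModular_isPrime hM
  set P' : Subgroup G := Subgroup.zpowers x with hP'
  have hC : Subgroup.centralizer (P' : Set G) = P' := by
    ext t
    rw [d1_mem_centralizer_zpowers]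
    constructor
    · exact hself t
    · intro ht
      obtain ⟨i, rfl⟩ := Subgroup.mem_zpowers_iff.1 ht
      exact (Commute.zpow_left (Commute.refl x) i).eq
  have hcardP : Nat.card P' = p := by rw [hP', Nat.card_zpowers, hx]
  have he : (Subgroup.centralizer (P' : Set G)).relIndex (Subgroup.normalizer (P' : Set G)) = 2 := by
    rw [hC]
    have h1 := Subgroup.relIndex_mul_relIndex (⊥ : Subgroup G) P' (Subgroup.normalizer (P' : Set G))
      bot_le Subgroup.le_normalizer
    rw [Subgroup.relIndex_bot_left, Subgroup.relIndex_bot_left, hcardP, hN] at h1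
    have hp0 : 0 < p := hp.pos
    have : p * P'.relIndex (Subgroup.normalizer (P' : Set G)) = p * 2 := by rw [h1]; ring
    exact Nat.eq_of_mul_eq_mul_left hp0 this
  obtain ⟨-, X, Y, hXY, hdisj, hcX, hcY, εX, ε, hX, hε, hYdeg, -, hYsum⟩ :=
    d1_principal p M hM P' x hx rfl hsq 2 he
  -- degrees
  have hd1 : charDegree (trivIrr G : G → ℂ) = 1 := by
    have h := (irr_apply_one_eq_charDegree (trivIrr G).2).1
    rw [trivIrr_apply] at h
    have h' : ((1 : ℕ) : ℂ) = (charDegree (trivIrr G : G → ℂ) : ℂ) := by rw [← h]; simp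
    exact_mod_cast h'.symm
  have hne12 : trivIrr G ≠ χ₂ := by
    intro h
    rw [← h, hd1] at hχ₂
    omega
  -- membership in the principal block
  have hmem : ∀ ψ : IrrCharacter G, ¬ p ∣ charDegree (ψ : G → ℂ) → ψ ∈ X ∪ Y := by
    intro ψ hψ
    rw [← hXY]
    exact Cfsg.Agent.Lib.Helper1.O7920.mem_principal_of_self_centralizing p hM hx hsq hself ψ hψ
  have hεcases : ε = 1 ∨ ε = -1 := hε
  have h1X : trivIrr G ∈ X := by
    have hnd1 : ¬ p ∣ 1 := by
      intro h
      have := Nat.le_of_dvd (by norm_num) h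
      omega
    have h1 : trivIrr G ∈ X ∪ Y := hmem _ (by rw [hd1]; exact hnd1)
    rcases h1 with h | h
    · exact h
    · exfalso
      have h2 := hYdeg _ h
      rw [hd1] at h2
      have h3 := (Int.modEq_iff_dvd.1 h2)
      rcases hεcases with rfl | rfl
      · exact not_dvd_small p hp5 _ (by norm_num) (by norm_num) h3
      · exact not_dvd_small p hp5 _ (by norm_num) (by norm_num) h3
  have h2X : χ₂ ∈ X := by
    have hnd1 : ¬ p ∣ p - 1 := by
      intro h
      have := Nat.le_of_dvd (by omega) h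
      omega
    have h1 : χ₂ ∈ X ∪ Y := hmem _ (by rw [hχ₂]; exact hnd1)
    rcases h1 with h | h
    · exact h
    · exfalso
      have h2 := hYdeg _ h
      rw [hχ₂, Nat.cast_sub (by omega)] at h2
      have h3 := (Int.modEq_iff_dvd.1 h2)
      rcases hεcases with rfl | rfl
      · have h4 : (p : ℤ) ∣ 3 := by
          have : (1 * ((2 : ℕ) : ℤ) - ((p : ℤ) - ((1 : ℕ) : ℤ))) = 3 - p := by push_cast; ring
          rw [this] at h3
          have := dvd_add h3 (dvd_refl (p : ℤ))
          simpa using this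
        exact not_dvd_small p hp5 _ (by norm_num) (by norm_num) h4
      · have h4 : (p : ℤ) ∣ -1 := by
          have : (-1 * ((2 : ℕ) : ℤ) - ((p : ℤ) - ((1 : ℕ) : ℤ))) = -1 - p := by push_cast; ring
          rw [this] at h3
          have := dvd_add h3 (dvd_refl (p : ℤ))
          simpa using this
        exact not_dvd_small p hp5 _ (by norm_num) (by norm_num) h4
  have hXeq : X = {trivIrr G, χ₂} := by
    have hnc : X.ncard = 2 := by rw [← Nat.card_coe_set_eq, hcX]
    obtain ⟨u, v, huv, hX'⟩ := Set.ncard_eq_two.1 hnc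
    rw [hX'] at h1X h2X ⊢
    rcases h1X with h1 | h1 <;> rcases h2X with h2 | h2
    · exact absurd (h1.trans h2.symm) hne12
    · rw [h1, h2]
    · rw [h1, h2, Set.pair_comm]
    · exact absurd (h1.trans h2.symm) hne12
  have hε1 : εX (trivIrr G) = 1 := by
    obtain ⟨hor, hmod, -⟩ := hX _ h1X
    rcases hor with h | h
    · exact h
    · exfalso
      rw [hd1, h] at hmod
      have h3 := (Int.modEq_iff_dvd.1 hmod)
      exact not_dvd_small p hp5 _ (by norm_num) (by norm_num) h3
  have hε2 : εX χ₂ = -1 := by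
    obtain ⟨hor, hmod, -⟩ := hX _ h2X
    rcases hor with h | h
    · exfalso
      rw [hχ₂, h, Nat.cast_sub (by omega)] at hmod
      have h3 := (Int.modEq_iff_dvd.1 hmod)
      have h4 : (p : ℤ) ∣ 2 := by
        have : ((1 : ℤ) - ((p : ℤ) - ((1 : ℕ) : ℤ))) = 2 - p := by push_cast; ring
        rw [this] at h3
        have := dvd_add h3 (dvd_refl (p : ℤ))
        simpa using this
      exact not_dvd_small p hp5 _ (by norm_num) (by norm_num) h4
    · exact h
  -- the sign of the exceptional characters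
  have hεneg : ∀ θ ∈ Y, ε = -1 := by
    intro θ hθ
    rcases hεcases with h | h
    · exfalso
      have hnd1 : ¬ p ∣ 1 := by
        intro h
        have := Nat.le_of_dvd (by norm_num) h
        omega
      have h1 := hYsum θ hθ 1 (by rw [orderOf_one]; exact hnd1)
      rw [hXeq, finsum_mem_pair hne12, hε1, hε2, h, trivIrr_apply,
        (irr_apply_one_eq_charDegree θ.2).1, (irr_apply_one_eq_charDegree χ₂.2).1, hχ₂,
        Nat.cast_sub (by omega)] at h1
      have h2 : ((charDegree (θ : G → ℂ) + p : ℕ) : ℂ) = ((2 : ℕ) : ℂ) := by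
        push_cast at h1 ⊢
        linear_combination h1
      have h3 : charDegree (θ : G → ℂ) + p = 2 := by exact_mod_cast h2
      omega
    · exact h
  by_cases hpd : p ∣ charDegree (χ : G → ℂ)
  · exact Or.inr (Or.inr (Or.inr hpd))
  · rcases hmem χ hpd with h | h
    · rw [hXeq] at h
      rcases h with h | h
      · exact Or.inl h
      · exact Or.inr (Or.inl h)
    · right; right; left
      have h1 := hYdeg χ h
      rw [hεneg χ h] at h1
      simpa using h1

end Cfsg.Agent.Lib.Helper8.IT
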