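import Mathlib
import Cfsg.Agent.Lib.Helper2.PrimeDeg5
import Cfsg.Agent.Lib.Helper8.AV1

set_option autoImplicit false

/-!
# Permutation groups of prime degree: elementary facts about an element of order `p`
-/

namespace Cfsg.Agent.Lib.Helper8.IT

open MulAction Cfsg.Agent.Lib.Helper8.AV Cfsg.Agent.Lib.Helper2.PrimeDeg

variable {p : ℕ} [Fact p.Prime] {α : Type*} [Fintype α] [DecidableEq α]

/-- a group containing an element of order `p` is transitive -/
theorem pretransitive_of_orderOf (hα : Fintype.card α = p) (G : Subgroup (Equiv.Perm α))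
    (x : G) (hx : orderOf x = p) : IsPretransitive G α := by
  have hp : p.Prime := Fact.out
  have hσ : orderOf (x : Equiv.Perm α) = p := by rw [Subgroup.orderOf_coe, hx]
  refine ⟨fun a b => ?_⟩
  obtain ⟨e, he0, hσe⟩ := exists_coord_of hα (x : Equiv.Perm α) hσ a
  refine ⟨x ^ (e.symm b).val, ?_⟩
  show ((x ^ (e.symm b).val : G) : Equiv.Perm α) a = b
  rw [Subgroup.coe_pow, ← he0, coord_pow hσe, zero_add, ZMod.natCast_zmod_val,
    Equiv.apply_symm_apply]

/-- an element of order `p` generates its centralizer -/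
theorem self_centralizing (hα : Fintype.card α = p) (G : Subgroup (Equiv.Perm α))
    (x : G) (hx : orderOf x = p) (t : G) (ht : t * x = x * t) : t ∈ Subgroup.zpowers x := by
  have hp : p.Prime := Fact.out
  have hσ : orderOf (x : Equiv.Perm α) = p := by rw [Subgroup.orderOf_coe, hx]
  have hne : Nonempty α := by
    rw [← Fintype.card_pos_iff, hα]
    exact hp.pos
  obtain ⟨a⟩ := hne
  obtain ⟨e, he0, hσe⟩ := exists_coord_of hα (x : Equiv.Perm α) hσ a
  have hconj : (t : Equiv.Perm α) * (x : Equiv.Perm α) * (t : Equiv.Perm α)⁻¹ =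
      (x : Equiv.Perm α) ^ 1 := by
    have h1 : (t : Equiv.Perm α) * (x : Equiv.Perm α) = (x : Equiv.Perm α) * (t : Equiv.Perm α) := by
      have := congrArg (Subtype.val : G → Equiv.Perm α) ht
      simpa using this
    rw [h1, pow_one, mul_assoc, mul_inv_cancel, mul_one]
  have haff := affine_of_conj hσe hconj
  set c : ZMod p := e.symm ((t : Equiv.Perm α) (e 0)) with hc
  have heq : (t : Equiv.Perm α) = (x : Equiv.Perm α) ^ c.val := by
    ext b
    obtain ⟨j, rfl⟩ := e.surjective b
    rw [haff j, coord_pow hσe, ZMod.natCast_zmod_val]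
    congr 1
    rw [Nat.cast_one, one_mul]
  have heq' : t = x ^ c.val := by
    apply Subtype.ext
    rw [Subgroup.coe_pow]
    exact heq
  rw [heq']
  exact Subgroup.npow_mem_zpowers x _

/-- a permutation fixing all points is trivial -/
theorem eq_one_of_fx (G : Subgroup (Equiv.Perm α)) (g : G)
    (h : fx α g = Fintype.card α) : g = 1 := by
  apply Subtype.ext
  ext a
  by_contra hne
  have hlt : fx α g < Fintype.card α := by
    unfold fx
    exact Fintype.card_subtype_lt (x := a) hne
  omega

/-- in a solvable transitive group of prime degree the Sylow `p`-subgroup is normal -/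
theorem normal_of_solvable (hα : Fintype.card α = p) (G : Subgroup (Equiv.Perm α))
    [IsPretransitive G α] (hsolv : Group.IsSolvable G) (P : Sylow p G) :
    (P : Subgroup G).Normal := by
  classical
  have hp : p.Prime := Fact.out
  obtain ⟨τ, hτG, hτo, hτn⟩ := exists_normal_cycle hα G hsolv
  set τ' : G := ⟨τ, hτG⟩ with hτ'
  have hτ'o : orderOf τ' = p := by
    rw [← Subgroup.orderOf_coe]
    exact hτo
  set K : Subgroup G := Subgroup.zpowers τ' with hK
  have hKn : K.Normal := by
    refine ⟨fun k hk g => ?_⟩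
    obtain ⟨i, rfl⟩ := Subgroup.mem_zpowers_iff.1 hk
    obtain ⟨n, hn⟩ := hτn g g.2
    have h1 : g * τ' * g⁻¹ = τ' ^ n := by
      apply Subtype.ext
      simpa using hn
    have h2 : g * τ' ^ i * g⁻¹ = (τ' ^ n) ^ i := by
      rw [← h1, conj_zpow]
    rw [h2]
    exact Subgroup.zpow_mem _ (Subgroup.npow_mem_zpowers τ' n) i
  have hKcard : Nat.card K = p := by rw [hK, Nat.card_zpowers, hτ'o]
  have hKp : IsPGroup p K := IsPGroup.of_card (n := 1) (by rw [hKcard, pow_one])
  obtain ⟨Q, hKQ⟩ := hKp.exists_le_sylow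
  have hQcard : Nat.card Q = p := card_sylow hα G Q
  have hKQeq : K = (Q : Subgroup G) := by
    apply Subgroup.eq_of_le_of_card_ge hKQ
    rw [hKcard]
    exact hQcard.le
  have hQn : (Q : Subgroup G).Normal := hKQeq ▸ hKn
  have := Sylow.unique_of_normal Q hQn
  have hPQ : P = Q := Subsingleton.elim _ _
  rw [hPQ]
  exact hQn

end Cfsg.Agent.Lib.Helper8.IT
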