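import Mathlib
import Cfsg.Prelude.Def_Blocks
import Cfsg.Agent.Lib.Helper8.IT5
import Cfsg.Agent.Lib.Helper8.IT6
import Cfsg.Agent.Lib.Helper8.IT7
import Cfsg.Agent.S0676
import Cfsg.Agent.S4702

set_option autoImplicit false
set_option maxHeartbeats 800000

/-!
# Permutation groups of prime degree `p` whose Sylow `p`-normalizer has order `2p` (Ito)
-/

namespace Cfsg.Agent.Lib.Helper8.IT

open Cfsg MulAction Cfsg.Agent.Lib.Helper8.AV Cfsg.Agent.Lib.Helper2.PrimeDeg
open Cfsg.Agent.Lib.Helper8

theorem ito_main {α : Type*} [Fintype α] [DecidableEq α] {p : ℕ} [Fact p.Prime] (hp : 2 < p)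
    (hα : Fintype.card α = p) (G : Subgroup (Equiv.Perm α)) (P : Sylow p G)
    (hN : Nat.card (Subgroup.normalizer ((P : Subgroup G) : Set G)) = 2 * p) :
    (P : Subgroup G).Normal ∨ ∃ (a : ℕ) (F : Type) (_ : Field F) (_ : Fintype F),
      p = 2 ^ a + 1 ∧ Fintype.card F = 2 ^ a ∧
        Nonempty (G ≃* Matrix.SpecialLinearGroup (Fin 2) F) := by
  classical
  have hpp : p.Prime := Fact.out
  have : Fintype G := Fintype.ofFinite _
  have hdiv : p ∣ Nat.card G := by
    have h1 : Nat.card (Subgroup.normalizer ((P : Subgroup G) : Set G)) ∣ Nat.card G :=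
      Subgroup.card_subgroup_dvd_card _
    rw [hN] at h1
    exact (dvd_mul_left p 2).trans h1
  obtain ⟨x, hx⟩ := exists_prime_orderOf_dvd_card' p hdiv
  have htrans : IsPretransitive G α := pretransitive_of_orderOf hα G x hx
  by_cases hsolv : Group.IsSolvable G
  · left
    exact normal_of_solvable hα G hsolv P
  · by_cases hp5 : 5 ≤ p
    · right
      have heven : Even (Nat.card (Subgroup.normalizer ((P : Subgroup G) : Set G))) := by
        rw [hN]
        exact even_two_mul p
      have h3t : IsMultiplyPretransitive G α 3 := Cfsg.Agent.S0676.result hα G hsolv P heven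
      have hcardP := card_sylow hα G P
      obtain ⟨y, hy, hPy, hsq⟩ := d1_sylow_data p P hcardP
      have hself := self_centralizing hα G y hy
      have hN' : Nat.card (Subgroup.normalizer ((Subgroup.zpowers y : Subgroup G) : Set G)) =
          2 * p := by
        rw [← hPy]
        exact hN
      have h3 : 3 ≤ Fintype.card α := by omega
      set χ₂ : IrrCharacter G := ⟨cP (H := G) α - fun _ => (1 : ℂ), isIrr_chi2 (H := G) α h3⟩
        with hχ₂def
      have hχ₂ : charDegree (χ₂ : G → ℂ) = p - 1 := by
        have h := (irr_apply_one_eq_charDegree χ₂.2).1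
        have h' : ((p - 1 : ℕ) : ℂ) = (charDegree (χ₂ : G → ℂ) : ℂ) := by
          rw [← h]
          simp only [hχ₂def, Pi.sub_apply]
          unfold cP
          rw [fx_one, hα, Nat.cast_sub (by omega)]
          simp
        exact_mod_cast h'.symm
      have hlist : ∀ χ : IrrCharacter G, (χ : G → ℂ) = (fun _ => (1 : ℂ)) ∨
          (χ : G → ℂ) = (cP (H := G) α - fun _ => (1 : ℂ)) ∨
          ((charDegree (χ : G → ℂ) : ℤ) ≡ -2 [ZMOD (p : ℤ)]) ∨
          p ∣ charDegree (χ : G → ℂ) := by
        intro χ
        rcases char_list p hp5 y hy hsq hself hN' χ₂ hχ₂ χ with h | h | h | h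
        · left
          rw [h]
          funext g
          exact trivIrr_apply g
        · right; left
          rw [h]
        · exact Or.inr (Or.inr (Or.inl h))
        · exact Or.inr (Or.inr (Or.inr h))
      have hfx := fx_eq_of_three_le (H := G) α p hp5 hα hlist
      have hfix : ∀ g : G, 3 ≤ Nat.card (MulAction.fixedBy α g) → g = 1 := by
        intro g hg
        rw [natCard_fixedBy] at hg
        exact eq_one_of_fx G g ((hfx g hg).trans hα.symm)
      have hodd : Odd (Fintype.card α) := by
        rw [hα]
        exact hpp.odd_of_ne_two (by omega)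
      obtain ⟨a, -, hcard, F, iF, iFt, hF, hiso⟩ := Cfsg.Agent.S4702.result h3 hodd G h3t hfix
      exact ⟨a, F, iF, iFt, by rw [← hα, hcard], hF, hiso⟩
    · left
      have hp3 : p = 3 := by
        have h4 : p ≠ 4 := by
          intro h
          rw [h] at hpp
          norm_num at hpp
        omega
      have hle : Nat.card G ≤ 6 := by
        have h1 : Nat.card G ≤ Nat.card (Equiv.Perm α) := Subgroup.card_le_card_group G
        rw [Nat.card_eq_fintype_card (α := Equiv.Perm α), Fintype.card_perm, hα, hp3] at h1
        exact h1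
      have htop : Subgroup.normalizer ((P : Subgroup G) : Set G) = ⊤ := by
        apply Subgroup.eq_top_of_le_card
        rw [hN, hp3]
        exact hle
      exact Subgroup.normalizer_eq_top_iff.1 htop

end Cfsg.Agent.Lib.Helper8.IT
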