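import Mathlib
import Cfsg.Prelude
import Cfsg.Agent.Lib.Helper8.IW3

set_option autoImplicit false

/-! Ito–Winter (S4467), part 4: the primitive case. -/

namespace Cfsg.Agent.Lib.Helper8.IW

open Cfsg Cfsg.Agent.Lib.Helper1 Cfsg.Agent.Lib.Helper4
open scoped ComplexConjugate

universe u

section Arith

/-- arithmetic core of the case `q = p` -/
theorem good_of_sq_eq_pow_self {p e k d : ℕ} (hp : p.Prime) (hk : 0 < k) (he : e ^ 2 = p ^ k)
    (hed : e ∣ d) : Good p d := by
  have h1 : e ∣ p ^ k := he ▸ dvd_pow_self e two_ne_zero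
  obtain ⟨j, -, hj⟩ := (Nat.dvd_prime_pow hp).1 h1
  have hj0 : j ≠ 0 := by
    intro h
    rw [h, pow_zero] at hj
    rw [hj, one_pow] at he
    have := Nat.one_lt_pow hk.ne' hp.one_lt
    omega
  refine ⟨e, ?_, hed, Or.inr (Or.inl ?_)⟩
  · rw [hj]; exact hp.isPrimePow.pow hj0
  · rw [Int.modEq_zero_iff_dvd, hj]
    push_cast
    exact dvd_pow_self _ hj0

/-- arithmetic core of the case `q ≠ p` -/
theorem good_of_sq_modEq {p q e s r k d : ℕ} (hp : p.Prime) (hq : q.Prime) (hpq : q ≠ p)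
    (he : e ^ 2 = q ^ k) (hsr : s ^ 2 * r = e ^ 2) (hr : r ≠ 1)
    (hmod : e ^ 2 ≡ s ^ 2 [MOD p]) (hed : e ∣ d) : Good p d := by
  have he0 : e ≠ 0 := by
    intro h
    rw [h] at he
    have : q ^ k ≠ 0 := pow_ne_zero _ hq.ne_zero
    simp at he
    exact this he.symm
  have h1 : e ∣ q ^ k := he ▸ dvd_pow_self e two_ne_zero
  obtain ⟨j, -, hj⟩ := (Nat.dvd_prime_pow hq).1 h1
  have hse : s ∣ e := by
    have : s ^ 2 ∣ e ^ 2 := ⟨r, hsr.symm⟩
    exact (Nat.pow_dvd_pow_iff two_ne_zero).1 this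
  obtain ⟨t, ht⟩ := hse
  have hs0 : s ≠ 0 := by
    intro h; rw [h, zero_mul] at ht; exact he0 ht
  have ht1 : t ≠ 1 := by
    intro h
    rw [h, mul_one] at ht
    rw [ht] at hsr
    have h2 : s ^ 2 * r = s ^ 2 * 1 := by rw [hsr, mul_one]
    exact hr (Nat.eq_of_mul_eq_mul_left (pow_pos (Nat.pos_of_ne_zero hs0) 2) h2)
  have hte : t ∣ e := ⟨s, by rw [ht, mul_comm]⟩
  have hsq : s ∣ q ^ j := hj ▸ ⟨t, ht⟩
  obtain ⟨i, -, hi⟩ := (Nat.dvd_prime_pow hq).1 hsq
  have htq : t ∣ q ^ j := hj ▸ hte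
  obtain ⟨l, -, hl⟩ := (Nat.dvd_prime_pow hq).1 htq
  have hl0 : l ≠ 0 := by
    intro h; rw [h, pow_zero] at hl; exact ht1 hl
  have hcop : p.gcd (s ^ 2) = 1 := by
    rw [hi]
    exact Nat.Coprime.pow_right _ (Nat.Coprime.pow_right _ ((Nat.coprime_primes hp hq).2 hpq.symm))
  have h3 : s ^ 2 * t ^ 2 ≡ s ^ 2 * 1 [MOD p] := by
    rw [mul_one, ← mul_pow, ← ht]; exact hmod
  have h4 : t ^ 2 ≡ 1 [MOD p] := Nat.ModEq.cancel_left_of_coprime hcop h3
  have h5 : (p : ℤ) ∣ ((t : ℤ) - 1) * ((t : ℤ) + 1) := by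
    have h6 := (Int.natCast_modEq_iff).2 h4
    have h7 := (Int.modEq_iff_dvd.1 h6.symm)
    have h8 : ((t ^ 2 : ℕ) : ℤ) - ((1 : ℕ) : ℤ) = ((t : ℤ) - 1) * ((t : ℤ) + 1) := by
      push_cast; ring
    rw [h8] at h7
    exact h7
  refine ⟨t, ?_, hte.trans hed, ?_⟩
  · rw [hl]; exact hq.isPrimePow.pow hl0
  · rcases (Int.Prime.dvd_mul' hp h5) with h | h
    · right; right
      exact (Int.modEq_iff_dvd.2 (by
        have : (p : ℤ) ∣ -((t : ℤ) - 1) := (dvd_neg).2 h
        rwa [neg_sub] at this)).symm.symm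
    · left
      exact (Int.modEq_iff_dvd.2 (by
        have : (p : ℤ) ∣ -((t : ℤ) + 1) := (dvd_neg).2 h
        have h9 : -((t : ℤ) + 1) = -1 - (t : ℤ) := by ring
        rwa [h9] at this))

end Arith

section Primitive

variable {G : Type u} [Group G] [Fintype G]

/-- The primitive case of the Ito–Winter theorem. -/
theorem prim_case [hs : Group.IsSolvable G] {χ : G → ℂ} (hχ : IsIrrCharacter G χ)
    (hfaith : ∀ g, χ g = χ 1 → g = 1)
    (hprim : ∀ (J : Subgroup G) (ξ : J → ℂ), IsIrrCharacter J ξ → χ = indFun J ξ → J = ⊤)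
    {p : ℕ} [hp : Fact p.Prime] (P : Sylow p G) (hP : ¬ (P : Subgroup G).Normal)
    {d : ℕ} (hd : χ 1 = d) : Good p d := by
  classical
  have hC1 : ∀ (A : Subgroup G), A.Normal → (∀ a ∈ A, ∀ b ∈ A, a * b = b * a) →
      A ≤ Subgroup.center G := fun A hA hab =>
    @Cfsg.Agent.Lib.Helper2.RelMAbelian.le_center_of_primitive G _ _ χ hχ hfaith hprim A hA hab
  set Z : Subgroup G := Subgroup.center G with hZ
  let π : G →* G ⧸ Z := QuotientGroup.mk' Z
  have hπ : Function.Surjective π := QuotientGroup.mk'_surjective Z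
  have hker : π.ker = Z := QuotientGroup.ker_mk' Z
  -- P is not central
  have hPZ : ¬ (P : Subgroup G) ≤ Z := by
    intro h
    apply hP
    constructor
    intro x hx g
    have := Subgroup.mem_center_iff.1 (h hx) g
    have h2 : g * x * g⁻¹ = x := by rw [this]; group
    rw [h2]; exact hx
  obtain ⟨u, huP, huZ⟩ := SetLike.not_le_iff_exists.1 hPZ
  set T : Subgroup G := Subgroup.normalClosure ((P : Subgroup G) : Set G) with hT
  have hPT : (P : Subgroup G) ≤ T := Subgroup.le_normalClosure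
  set Tb : Subgroup (G ⧸ Z) := T.map π with hTb
  haveI hTbn : Tb.Normal := Subgroup.Normal.map Subgroup.normalClosure_normal π hπ
  have hTb1 : Tb ≠ ⊥ := by
    intro h
    have h1 : π u ∈ Tb := Subgroup.mem_map_of_mem π (hPT huP)
    rw [h, Subgroup.mem_bot] at h1
    apply huZ
    rw [← hker]; exact h1
  obtain ⟨Mb, hMbn, hMb1, hMbT, hmin⟩ := exists_min_normal_le Tb hTb1
  haveI := hMbn
  haveI : Group.IsSolvable (G ⧸ Z) := inferInstance
  obtain ⟨hMab, q, k, hq, hk, hMcard⟩ := min_normal_data Mb hMb1 hmin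
  set N : Subgroup G := Mb.comap π with hN
  haveI hNn : N.Normal := by rw [hN]; infer_instance
  have hZN : Z ≤ N := by
    intro z hz
    show π z ∈ Mb
    have : π z = 1 := by rw [← MonoidHom.mem_ker, hker]; exact hz
    rw [this]; exact Mb.one_mem
  have hNmap : N.map π = Mb := Subgroup.map_comap_eq_self_of_surjective hπ Mb
  have hNidx : Z.relIndex N = q ^ k := by
    rw [hZ, relIndex_eq_card_map]
    show Nat.card ↥(N.map π) = q ^ k
    rw [hNmap, hMcard]
  have hNc : ∀ a ∈ N, ∀ b ∈ N, a * b * a⁻¹ * b⁻¹ ∈ Subgroup.center G := by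
    intro a ha b hb
    show a * b * a⁻¹ * b⁻¹ ∈ Z
    rw [← hker, MonoidHom.mem_ker]
    simp only [map_mul, map_inv]
    rw [hMab (π a) ha (π b) hb]; group
  have hexp : ∀ v ∈ N, v ^ q ^ k ∈ Subgroup.center G := by
    intro v hv
    show v ^ q ^ k ∈ Z
    rw [← hker, MonoidHom.mem_ker, map_pow]
    have := pow_card_eq_one' (G := Mb) (x := ⟨π v, hv⟩)
    rw [hMcard] at this
    exact congrArg Subtype.val this
  have hNZ : ∀ x ∈ N, (∀ n ∈ N, x * n = n * x) → x ∈ Subgroup.center G := by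
    intro x hx hxn
    have hAn : (N ⊓ Subgroup.centralizer (N : Set G)).Normal := inferInstance
    have hA := hC1 (N ⊓ Subgroup.centralizer (N : Set G)) hAn (by
      intro a ha b hb
      exact (Subgroup.mem_centralizer_iff.1 hb.2 a ha.1))
    apply hA
    refine Subgroup.mem_inf.2 ⟨hx, ?_⟩
    rw [Subgroup.mem_centralizer_iff]
    intro n hn
    exact (hxn n hn).symm
  haveI : Fintype N := Fintype.ofFinite N
  obtain ⟨μ, hμ, hμcon, e, hμe, he⟩ := exists_sq_relIndex hχ hfaith N hNc hNZ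
  have hed : e ∣ d :=
    Cfsg.Agent.Lib.Helper2.CliffordDeg.degree_dvd_of_constituent N hχ hμ hμcon hμe hd
  rw [← hZ, hNidx] at he
  by_cases hqp : q = p
  · subst hqp
    exact good_of_sq_eq_pow_self hq hk he hed
  · -- some element of P does not centralise N
    have hex : ∃ y ∈ (P : Subgroup G), ∃ v ∈ N, y * v ≠ v * y := by
      by_contra hno
      push_neg at hno
      have hCn : (Subgroup.centralizer (N : Set G)).Normal := Subgroup.normal_centralizer
      have hPC : (P : Subgroup G) ≤ Subgroup.centralizer (N : Set G) := by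
        intro y hy
        rw [Subgroup.mem_centralizer_iff]
        intro v hv
        exact (hno y hy v hv).symm
      have hTC : T ≤ Subgroup.centralizer (N : Set G) :=
        Subgroup.normalClosure_le_normal hPC
      have hZC : Z ≤ Subgroup.centralizer (N : Set G) := by
        intro z hz
        rw [Subgroup.mem_centralizer_iff]
        intro v _
        exact (Subgroup.mem_center_iff.1 hz v)
      have hNTZ : N ≤ T ⊔ Z := by
        have h1 : N ≤ Tb.comap π := Subgroup.comap_mono hMbT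
        rw [hTb, Subgroup.comap_map_eq, hker] at h1
        exact h1
      have hNC : N ≤ Subgroup.centralizer (N : Set G) := hNTZ.trans (sup_le hTC hZC)
      have hNab : ∀ a ∈ N, ∀ b ∈ N, a * b = b * a := by
        intro a ha b hb
        exact (Subgroup.mem_centralizer_iff.1 (hNC hb) a ha)
      have hNle := hC1 N hNn hNab
      apply hMb1
      rw [← hNmap, Subgroup.map_eq_bot_iff, hker]
      exact hNle
    obtain ⟨y, hyP, v0, hv0N, hyv0⟩ := hex
    obtain ⟨kp, hkp⟩ := (IsPGroup.iff_card.1 P.isPGroup')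
    have hyk : y ^ p ^ kp = 1 := by
      have h1 : (⟨y, hyP⟩ : (P : Subgroup G)) ^ p ^ kp = 1 := by
        rw [← hkp]; exact pow_card_eq_one'
      exact congrArg Subtype.val h1
    have hyN : ∀ v ∈ N, y * v * y⁻¹ ∈ N := fun v hv => hNn.conj_mem v hv y
    have hcop : (q ^ k).Coprime (p ^ kp) :=
      Nat.Coprime.pow _ _ ((Nat.coprime_primes hq hp.out).2 hqp)
    set C : Subgroup G := N ⊓ Subgroup.centralizer {y} with hC
    have hmod := relIndex_modEq (p := p) N hNc hyN hyk hcop hexp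
    rw [← hZ, ← hC, hNidx] at hmod
    have hCN : C ≤ N := inf_le_left
    have hZC : Z ≤ C := by
      refine le_inf hZN ?_
      intro z hz
      rw [Subgroup.mem_centralizer_iff]
      intro g _
      exact (Subgroup.mem_center_iff.1 hz g)
    have hCc : ∀ a ∈ C, ∀ b ∈ C, a * b * a⁻¹ * b⁻¹ ∈ Subgroup.center G :=
      fun a ha b hb => hNc a (hCN ha) b (hCN hb)
    have hCZ : ∀ x ∈ C, (∀ c ∈ C, x * c = c * x) → x ∈ Subgroup.center G := by
      intro x hx hxc
      have hxy : x * y = y * x :=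
        (Subgroup.mem_centralizer_iff.1 hx.2 y (Set.mem_singleton y)).symm
      apply hNZ x hx.1
      apply centralizes_of_centralizes_fixed hNc hyN hyk hcop hexp hx.1 hxy
      intro c hcN hcy
      apply hxc c
      refine Subgroup.mem_inf.2 ⟨hcN, ?_⟩
      rw [Subgroup.mem_centralizer_iff]
      intro g hg
      have hg' : g = y := hg
      rw [hg']; exact hcy.symm
    haveI : Fintype C := Fintype.ofFinite C
    obtain ⟨μ', -, -, s, -, hs'⟩ := exists_sq_relIndex hχ hfaith C hCc hCZ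
    rw [← hZ] at hs'
    have hmul := Subgroup.relIndex_mul_relIndex Z C N hZC hCN
    rw [hNidx, ← hs', ← he] at hmul
    have hr1 : C.relIndex N ≠ 1 := by
      intro h
      rw [Subgroup.relIndex_eq_one] at h
      apply hyv0
      have := (h hv0N).2
      exact (Subgroup.mem_centralizer_iff.1 this y (Set.mem_singleton y))
    rw [← he, ← hs'] at hmod
    exact good_of_sq_modEq hp.out hq hqp he hmul hr1 hmod hed

end Primitive

end Cfsg.Agent.Lib.Helper8.IW
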