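import Mathlib
import Cfsg.Prelude
import Cfsg.Agent.Lib.Helper8.IW4

set_option autoImplicit false

/-! Ito–Winter (S4467), part 5: reduction to normal subgroups containing the Sylow subgroup, the
imprimitive case and the induction. -/

namespace Cfsg.Agent.Lib.Helper8.IW

open Cfsg Cfsg.Agent.Lib.Helper1 Cfsg.Agent.Lib.Helper4 Cfsg.Agent.S0193
open scoped ComplexConjugate

universe u

/-- the statement proved by induction on the group order -/
def IWHyp (p : ℕ) (n : ℕ) : Prop :=
  ∀ (G' : Type u) [Group G'] [Fintype G'], Nat.card G' < n → Group.IsSolvable G' →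
    ∀ χ' : G' → ℂ, IsIrrCharacter G' χ' → (∀ g, χ' g = χ' 1 → g = 1) →
      ∀ P' : Sylow p G', ¬ (P' : Subgroup G').Normal → ∀ d' : ℕ, χ' 1 = d' → Good p d'

section Step

variable {G : Type u} [Group G] [Fintype G]

/-- If the Sylow subgroup lies in a proper normal subgroup, induction applies. -/
theorem step_normal [hs : Group.IsSolvable G] {χ : G → ℂ} (hχ : IsIrrCharacter G χ)
    (hfaith : ∀ g, χ g = χ 1 → g = 1) {p : ℕ} [hp : Fact p.Prime] (P : Sylow p G)
    (hP : ¬ (P : Subgroup G).Normal) (K : Subgroup G) [hKn : K.Normal] (hPK : (P : Subgroup G) ≤ K)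
    (hKtop : K ≠ ⊤) {d : ℕ} (hd : χ 1 = d) (IH : IWHyp.{u} p (Nat.card G)) : Good p d := by
  classical
  haveI : Fintype K := Fintype.ofFinite K
  set P' : Sylow p K := P.subtype hPK with hP'
  have hP'coe : (P' : Subgroup K) = (P : Subgroup G).subgroupOf K := Sylow.coe_subtype P hPK
  -- P' is not normal in K
  have hP'n : ¬ (P' : Subgroup K).Normal := by
    intro hn
    haveI : (P' : Subgroup K).Characteristic := Sylow.characteristic_of_normal P' hn
    have h1 : ((P' : Subgroup K).map K.subtype).Normal :=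
      ConjAct.normal_of_characteristic_of_normal
    rw [hP'coe, Subgroup.subgroupOf_map_subtype, inf_eq_left.2 hPK] at h1
    exact hP h1
  -- constituents of the restriction
  have hres : IsCharacter K (fun c : K => χ c) :=
    Cfsg.Agent.S0148.isCharacter_restrict K (isCharacter_of_irr hχ)
  obtain ⟨φ, hφ, m0, hm0, hm0'⟩ := exists_constituent hres (irr_apply_one_ne_zero hχ)
  have hcon : classInner (fun c : K => χ c) φ ≠ 0 := by
    rw [hm0']; exact Nat.cast_ne_zero.2 hm0.ne'
  obtain ⟨F, hF, hφF, hFconj, -, hFsum⟩ :=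
    Cfsg.Agent.Lib.Helper2.ChiefRestrict.clifford_finset K hχ hφ hcon
  obtain ⟨hφ1, -⟩ := Cfsg.Agent.Lib.Helper8.irr_apply_one_eq_charDegree hφ
  set a : ℕ := charDegree φ with ha
  have had : a ∣ d :=
    Cfsg.Agent.Lib.Helper2.CliffordDeg.degree_dvd_of_constituent K hχ hφ hcon hφ1 hd
  have hF1 : ∀ ψ ∈ F, ψ 1 = a := by
    intro ψ hψ
    obtain ⟨g, rfl⟩ := hFconj ψ hψ
    rw [← hφ1]
    show φ ⟨g * ((1 : K) : G) * g⁻¹, _⟩ = φ 1
    congr 1
    apply Subtype.ext
    show g * ((1 : K) : G) * g⁻¹ = ((1 : K) : G)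
    simp
  -- kernels
  have hkerex : ∀ ψ ∈ F, ∃ Kψ : Subgroup K, Kψ.Normal ∧ ∀ g : K, g ∈ Kψ ↔ ψ g = ψ 1 :=
    fun ψ hψ => Cfsg.Agent.Lib.Helper8.exists_normal_ker (isCharacter_of_irr (hF ψ hψ))
  choose! Nk hNkn hNk using hkerex
  -- some P' ⊔ Nk ψ is not normal
  have hex : ∃ ψ ∈ F, ¬ ((P' : Subgroup K) ⊔ Nk ψ).Normal := by
    by_contra hno
    push_neg at hno
    set I : Subgroup K := ⨅ ψ : {ψ // ψ ∈ F}, ((P' : Subgroup K) ⊔ Nk ψ.1) with hI
    have hIn : I.Normal := Subgroup.normal_iInf_normal (fun ψ => hno ψ.1 ψ.2)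
    have hPI : (P' : Subgroup K) ≤ I := by
      rw [hI]
      exact le_iInf (fun ψ => le_sup_left)
    obtain ⟨kp, hkp⟩ := (IsPGroup.iff_card.1 P'.isPGroup')
    have hIp : IsPGroup p I := by
      intro x
      refine ⟨kp, ?_⟩
      apply Subtype.ext
      apply Subtype.ext
      show (((x : K) ^ p ^ kp : K) : G) = 1
      apply hfaith
      have hxN : ∀ ψ ∈ F, (x : K) ^ p ^ kp ∈ Nk ψ := by
        intro ψ hψ
        haveI := hNkn ψ hψ
        have hx : (x : K) ∈ (P' : Subgroup K) ⊔ Nk ψ :=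
          (Subgroup.mem_iInf.1 x.2) ⟨ψ, hψ⟩
        obtain ⟨u, hu, n, hn, hun⟩ := Subgroup.mem_sup_of_normal_right.1 hx
        have hu1 : u ^ p ^ kp = 1 := by
          have h1 : (⟨u, hu⟩ : (P' : Subgroup K)) ^ p ^ kp = 1 := by
            rw [← hkp]; exact pow_card_eq_one'
          exact congrArg Subtype.val h1
        rw [← QuotientGroup.eq_one_iff, QuotientGroup.mk_pow, ← hun, QuotientGroup.mk_mul,
          (QuotientGroup.eq_one_iff n).2 hn, mul_one, ← QuotientGroup.mk_pow, hu1]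
        rfl
      have h2 := congrFun hFsum ((x : K) ^ p ^ kp)
      have h3 := congrFun hFsum 1
      simp only [Pi.smul_apply, Finset.sum_apply, smul_eq_mul] at h2 h3
      show χ (((x : K) ^ p ^ kp : K) : G) = χ 1
      rw [h2]
      have h4 : χ ((1 : K) : G) = χ 1 := rfl
      rw [← h4, h3]
      congr 1
      apply Finset.sum_congr rfl
      intro ψ hψ
      exact (hNk ψ hψ _).1 (hxN ψ hψ)
    have hIeq : I = (P' : Subgroup K) := P'.is_maximal' hIp hPI
    exact hP'n (hIeq ▸ hIn)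
  obtain ⟨ψ, hψF, hψn⟩ := hex
  have hψ := hF ψ hψF
  haveI hNn : (Nk ψ).Normal := hNkn ψ hψF
  -- the quotient
  haveI : Fintype (K ⧸ Nk ψ) := Fintype.ofFinite _
  have hcard : Nat.card (K ⧸ Nk ψ) < Nat.card G := by
    have h1 : Nat.card (K ⧸ Nk ψ) ≤ Nat.card K :=
      Nat.le_of_dvd Nat.card_pos (Subgroup.card_quotient_dvd_card _)
    have h2 : Nat.card K ≤ Nat.card G := Subgroup.card_le_card_group K
    have h3 : Nat.card K ≠ Nat.card G := fun h => hKtop (Subgroup.eq_top_of_card_eq K h)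
    omega
  obtain ⟨ψb, hψb, hψbmk⟩ := Cfsg.Agent.Lib.Helper8.exists_deflation (Nk ψ) hψ
    (fun g hg => (hNk ψ hψF g).1 hg)
  have hψb1 : ψb 1 = a := by
    have := hψbmk 1
    rw [QuotientGroup.mk_one] at this
    rw [this, hF1 ψ hψF]
  have hfaithb : ∀ g : K ⧸ Nk ψ, ψb g = ψb 1 → g = 1 := by
    intro g
    induction g using QuotientGroup.induction_on with
    | H g =>
      intro h
      have h1 : ψb 1 = ψ 1 := by
        have := hψbmk 1
        rwa [QuotientGroup.mk_one] at this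
      rw [hψbmk, h1] at h
      exact (QuotientGroup.eq_one_iff g).2 ((hNk ψ hψF g).2 h)
  let Pb : Sylow p (K ⧸ Nk ψ) := P'.mapSurjective (QuotientGroup.mk'_surjective (Nk ψ))
  have hPb : ¬ (Pb : Subgroup (K ⧸ Nk ψ)).Normal := by
    intro hn
    have h1 := hn.comap (QuotientGroup.mk' (Nk ψ))
    rw [Sylow.coe_mapSurjective, Subgroup.comap_map_eq, QuotientGroup.ker_mk'] at h1
    exact hψn h1
  have hsolv : Group.IsSolvable (K ⧸ Nk ψ) := inferInstance
  exact (IH (K ⧸ Nk ψ) hcard hsolv ψb hψb hfaithb Pb hPb a hψb1).of_dvd had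

end Step

section Main

/-- The Ito–Winter theorem, by induction on the group order. -/
theorem iw_aux {p : ℕ} [hp : Fact p.Prime] : ∀ (n : ℕ) (G : Type u) [Group G] [Fintype G],
    Nat.card G = n → Group.IsSolvable G → ∀ χ : G → ℂ, IsIrrCharacter G χ →
      (∀ g, χ g = χ 1 → g = 1) → ∀ P : Sylow p G, ¬ (P : Subgroup G).Normal →
        ∀ d : ℕ, χ 1 = d → Good p d := by
  intro n
  induction n using Nat.strong_induction_on with
  | _ n ih =>
    intro G _ _ hcard hsolv χ hχ hfaith P hP d hd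
    classical
    haveI := hsolv
    have IH : IWHyp.{u} p (Nat.card G) := by
      intro G' _ _ hlt hs' χ' hχ' hf' P' hP' d' hd'
      exact ih (Nat.card G') (hcard ▸ hlt) G' rfl hs' χ' hχ' hf' P' hP' d' hd'
    by_cases hprim : ∀ (J : Subgroup G) (ξ : J → ℂ), IsIrrCharacter J ξ → χ = indFun J ξ → J = ⊤
    · exact prim_case hχ hfaith hprim P hP hd
    · push_neg at hprim
      obtain ⟨J, ξ, hξ, hind, hJ⟩ := hprim
      obtain ⟨H, hH, hJH⟩ := (eq_top_or_exists_le_coatom J).resolve_left hJ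
      by_cases hPK : (P : Subgroup G) ≤ H.normalCore
      · have hKtop : H.normalCore ≠ ⊤ := by
          intro h
          have := Subgroup.normalCore_le H
          rw [h, top_le_iff] at this
          exact hH.1 this
        exact step_normal hχ hfaith P hP H.normalCore hPK hKtop hd IH
      · have h1 := prim_perm_quot (p := p) H hH P hPK
        apply h1.of_dvd
        obtain ⟨hξ1, -⟩ := Cfsg.Agent.Lib.Helper8.irr_apply_one_eq_charDegree hξ
        have h2 := Cfsg.Agent.Lib.Helper2.RelMAbelian.indFun_one_nat J ξ hξ1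
        rw [← hind, hd] at h2
        have h3 : d = J.index * charDegree ξ := by exact_mod_cast h2
        rw [h3]
        exact (Subgroup.index_dvd_of_le hJH).trans (dvd_mul_right _ _)

end Main

end Cfsg.Agent.Lib.Helper8.IW
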