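import Mathlib
import Cfsg.Prelude.Def_Blocks
import Cfsg.Agent.Lib.Helper8.InducedTilde

/-!
# Blau's theorem on height-zero constituents (Navarro 6.?)
-/

set_option autoImplicit false

namespace Cfsg.Agent.Lib.Helper8

open Cfsg
open scoped ComplexConjugate
open Cfsg.Agent.Lib.Helper1 Cfsg.Agent.Lib.Helper4

universe u

section

variable {G : Type u} [Group G] {p : ℕ}

/-- A nonempty set of irreducible characters has a member of height zero. -/
theorem exists_height_zero {B : Set (IrrCharacter G)} (hB : B.Nonempty) :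
    ∃ ψ ∈ B, blockHeight p B (ψ : G → ℂ) = 0 := by
  have h1 := Nat.sInf_mem (hB.image (fun ψ : IrrCharacter G =>
    (charDegree (ψ : G → ℂ)).factorization p))
  obtain ⟨ψ, hψ, hψe⟩ := h1
  refine ⟨ψ, hψ, ?_⟩
  unfold blockHeight
  rw [Nat.sub_eq_zero_iff_le]
  exact hψe.le

end

section

variable {G : Type u} [Group G] [Fintype G] {M : Ideal AlgInt} {p : ℕ}

/-- `[φ̃, ψ]` expanded along the irreducible constituents of `φ`. -/
theorem classInner_tilde_eq_sum [Fintype (IrrCharacter G)] {φ : G → ℂ}
    (hφ : IsClassFunction G φ) (ψ : G → ℂ) :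
    classInner (tilde p φ) ψ =
      ∑ ξ : IrrCharacter G, classInner φ (ξ : G → ℂ) * classInner (tilde p (ξ : G → ℂ)) ψ := by
  have h1 : ∀ θ : G → ℂ, classInner (tilde p θ) ψ =
      ((p ^ (Nat.card G).factorization p : ℕ) : ℂ) * classInner θ (pRegularPart p ψ) := by
    intro θ
    rw [classInner_tilde, classInner_pRegularPart_left, ← classInner_pRegularPart_right]
  simp only [h1]
  conv_lhs => rw [class_function_expansion φ hφ]
  rw [classInner_sum_left, Finset.mul_sum]
  refine Finset.sum_congr rfl fun ξ _ => ?_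
  rw [classInner_smul_left]
  ring

end

end Cfsg.Agent.Lib.Helper8
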