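import Mathlib

/-!
# Joint eigenspaces of commuting endomorphisms of finite order
-/

set_option autoImplicit false

namespace Cfsg.Agent.Lib.Helper8

open Module.End

section

variable {E : Type*} [AddCommGroup E] [Module ℂ E] [FiniteDimensional ℂ E]

/-- An endomorphism of finite order is semisimple. -/
theorem jdSemisimple {f : Module.End ℂ E} {m : ℕ} (hm : 0 < m) (hf : f ^ m = 1) :
    f.IsSemisimple := by
  have hsep : (Polynomial.X ^ m - Polynomial.C (1 : ℂ)).Separable :=
    Polynomial.separable_X_pow_sub_C (1 : ℂ) (by exact_mod_cast hm.ne') one_ne_zero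
  apply Module.End.isSemisimple_of_squarefree_aeval_eq_zero hsep.squarefree
  rw [map_sub, map_pow, Polynomial.aeval_X, Polynomial.aeval_C, hf, map_one, sub_self]

/-- A commuting family of endomorphisms of finite order is simultaneously diagonalisable. -/
theorem jdJoint {ι : Type*} (f : ι → Module.End ℂ E) (hcomm : ∀ i j, Commute (f i) (f j))
    (hfin : ∀ i, ∃ m : ℕ, 0 < m ∧ f i ^ m = 1) :
    ⨆ χ : ι → ℂ, ⨅ i, (f i).eigenspace (χ i) = ⊤ := by
  have hss : ∀ i, (f i).IsSemisimple := fun i => by
    obtain ⟨m, hm, h⟩ := hfin i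
    exact jdSemisimple hm h
  have h1 : ⨆ χ : ι → ℂ, ⨅ i, (f i).maxGenEigenspace (χ i) = ⊤ := by
    apply iSup_iInf_maxGenEigenspace_eq_top_of_iSup_maxGenEigenspace_eq_top_of_commute f
      (fun i j _ => hcomm i j)
    intro i
    rw [eq_top_iff, ← (hss i).iSup_eigenspace_eq_top]
    apply iSup_mono
    intro μ
    rw [(hss i).isFinitelySemisimple.maxGenEigenspace_eq_eigenspace]
  rw [← h1]
  congr 1
  funext χ
  congr 1
  funext i
  rw [(hss i).isFinitelySemisimple.maxGenEigenspace_eq_eigenspace]

end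

end Cfsg.Agent.Lib.Helper8
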