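import Mathlib

/-!
# Isometric representations: basic estimates
-/

set_option autoImplicit false

namespace Cfsg.Agent.Lib.Helper8

open scoped ComplexConjugate InnerProductSpace

section

variable {E : Type*} [NormedAddCommGroup E] [InnerProductSpace ℂ E] {G : Type*} [Group G]
  (π : G →* (E →L[ℂ] E))

/-- The elements whose operators are within `1/2` of a scalar. -/
def jdS : Set G := {g | ∃ c : ℂ, ‖π g - c • (1 : E →L[ℂ] E)‖ < 1 / 2}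

variable {π}

theorem jd_mul_inv (g : G) : π g * π g⁻¹ = 1 := by
  rw [← map_mul, mul_inv_cancel, map_one]

theorem jd_inv_mul (g : G) : π g⁻¹ * π g = 1 := by
  rw [← map_mul, inv_mul_cancel, map_one]

theorem jd_norm_le_one (hiso : ∀ g v, ‖π g v‖ = ‖v‖) (g : G) : ‖π g‖ ≤ 1 :=
  ContinuousLinearMap.opNorm_le_bound _ zero_le_one (fun v => by rw [hiso, one_mul])

theorem jd_inner_map (hiso : ∀ g v, ‖π g v‖ = ‖v‖) (g : G) (v w : E) :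
    ⟪π g v, π g w⟫_ℂ = ⟪v, w⟫_ℂ := by
  let T : E →ₗᵢ[ℂ] E := ⟨(π g : E →ₗ[ℂ] E), hiso g⟩
  exact T.inner_map_map v w

theorem jd_eigen_norm (hiso : ∀ g v, ‖π g v‖ = ‖v‖) {g : G} {v : E} {a : ℂ}
    (hv : π g v = a • v) (hv0 : v ≠ 0) : ‖a‖ = 1 := by
  have h := hiso g v
  rw [hv, norm_smul] at h
  have : ‖v‖ ≠ 0 := norm_ne_zero_iff.2 hv0
  field_simp at h
  exact h

theorem jd_eigen_orth (hiso : ∀ g v, ‖π g v‖ = ‖v‖) {g : G} {v w : E} {a b : ℂ}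
    (hv : π g v = a • v) (hw : π g w = b • w) (hab : a ≠ b) : ⟪v, w⟫_ℂ = 0 := by
  by_cases hv0 : v = 0
  · rw [hv0, inner_zero_left]
  have ha : ‖a‖ = 1 := jd_eigen_norm hiso hv hv0
  have h := jd_inner_map hiso g v w
  rw [hv, hw, inner_smul_left, inner_smul_right] at h
  have ha2 : conj a * a = 1 := by
    rw [Complex.conj_mul', ha]
    norm_num
  have ha0 : a ≠ 0 := by
    intro h0
    rw [h0, norm_zero] at ha
    exact zero_ne_one ha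
  by_contra hne
  have h2 : conj a * b = 1 := by
    have : (conj a * b - 1) * ⟪v, w⟫_ℂ = 0 := by
      rw [sub_mul, one_mul, mul_assoc, h, sub_self]
    rcases mul_eq_zero.1 this with h3 | h3
    · exact sub_eq_zero.1 h3
    · exact absurd h3 hne
  apply hab
  have : conj a * a = conj a * b := by rw [ha2, h2]
  have hc : conj a ≠ 0 := by
    intro h0
    rw [h0, zero_mul] at ha2
    exact zero_ne_one ha2
  exact mul_left_cancel₀ hc this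

theorem jdS_conj (hiso : ∀ g v, ‖π g v‖ = ‖v‖) {g : G} (hg : g ∈ jdS π) (h : G) :
    h * g * h⁻¹ ∈ jdS π := by
  obtain ⟨c, hc⟩ := hg
  refine ⟨c, lt_of_le_of_lt ?_ hc⟩
  have e : π (h * g * h⁻¹) - c • (1 : E →L[ℂ] E) = π h * (π g - c • 1) * π h⁻¹ := by
    rw [map_mul, map_mul, mul_sub, sub_mul, mul_smul_comm, mul_one, smul_mul_assoc, jd_mul_inv]
  rw [e]
  calc ‖π h * (π g - c • 1) * π h⁻¹‖ ≤ ‖π h‖ * ‖π g - c • (1 : E →L[ℂ] E)‖ * ‖π h⁻¹‖ :=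
        (norm_mul_le _ _).trans (mul_le_mul_of_nonneg_right (norm_mul_le _ _) (norm_nonneg _))
    _ ≤ 1 * ‖π g - c • (1 : E →L[ℂ] E)‖ * 1 := by
        gcongr
        · exact jd_norm_le_one hiso h
        · exact jd_norm_le_one hiso h⁻¹
    _ = ‖π g - c • (1 : E →L[ℂ] E)‖ := by ring

/-- The numerical range of an element of `jdS` avoids zero. -/
theorem jdS_nr (hiso : ∀ g v, ‖π g v‖ = ‖v‖) {g : G} (hg : g ∈ jdS π) {v : E}
    (hv : ⟪π g v, v⟫_ℂ = 0) : v = 0 := by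
  obtain ⟨c, hc⟩ := hg
  by_contra hv0
  have hvpos : 0 < ‖v‖ := norm_pos_iff.2 hv0
  have h1 : ‖(π g - c • (1 : E →L[ℂ] E)) v‖ ≤ ‖π g - c • (1 : E →L[ℂ] E)‖ * ‖v‖ :=
    ContinuousLinearMap.le_opNorm _ _
  have h2 : (π g - c • (1 : E →L[ℂ] E)) v = π g v - c • v := by
    simp
  -- `|c| ‖v‖² ≤ ‖(π g - c) v‖ ‖v‖`
  have h3 : ⟪(π g - c • (1 : E →L[ℂ] E)) v, v⟫_ℂ = - (conj c * ⟪v, v⟫_ℂ) := by
    rw [h2, inner_sub_left, hv, inner_smul_left, zero_sub]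
  have h4 : ‖⟪(π g - c • (1 : E →L[ℂ] E)) v, v⟫_ℂ‖ ≤ ‖(π g - c • (1 : E →L[ℂ] E)) v‖ * ‖v‖ :=
    norm_inner_le_norm _ _
  rw [h3, norm_neg, norm_mul, RCLike.norm_conj, inner_self_eq_norm_sq_to_K, norm_pow] at h4
  rw [RCLike.norm_ofReal, abs_of_pos hvpos] at h4
  -- hence `|c| < 1/2`
  have h6 : ‖c‖ * ‖v‖ ≤ ‖π g - c • (1 : E →L[ℂ] E)‖ * ‖v‖ := by
    have : ‖c‖ * ‖v‖ ^ 2 ≤ ‖π g - c • (1 : E →L[ℂ] E)‖ * ‖v‖ * ‖v‖ :=
      h4.trans (mul_le_mul_of_nonneg_right h1 hvpos.le)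
    have h7 : ‖c‖ * ‖v‖ * ‖v‖ ≤ ‖π g - c • (1 : E →L[ℂ] E)‖ * ‖v‖ * ‖v‖ := by
      rw [mul_assoc, ← sq]
      exact this
    exact le_of_mul_le_mul_right h7 hvpos
  have h8 : ‖c‖ < 1 / 2 := by
    have := le_of_mul_le_mul_right h6 hvpos
    exact lt_of_le_of_lt this hc
  -- but `‖v‖ = ‖π g v‖ ≤ ‖(π g - c) v‖ + |c| ‖v‖`
  have h9 : ‖v‖ ≤ ‖(π g - c • (1 : E →L[ℂ] E)) v‖ + ‖c‖ * ‖v‖ := by
    have : π g v = (π g - c • (1 : E →L[ℂ] E)) v + c • v := by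
      rw [h2]
      abel
    calc ‖v‖ = ‖π g v‖ := (hiso g v).symm
      _ = ‖(π g - c • (1 : E →L[ℂ] E)) v + c • v‖ := by rw [← this]
      _ ≤ ‖(π g - c • (1 : E →L[ℂ] E)) v‖ + ‖c • v‖ := norm_add_le _ _
      _ = ‖(π g - c • (1 : E →L[ℂ] E)) v‖ + ‖c‖ * ‖v‖ := by rw [norm_smul]
  have h10 : ‖(π g - c • (1 : E →L[ℂ] E)) v‖ < 1 / 2 * ‖v‖ :=
    lt_of_le_of_lt h1 (mul_lt_mul_of_pos_right hc hvpos)
  have h11 : ‖c‖ * ‖v‖ < 1 / 2 * ‖v‖ := mul_lt_mul_of_pos_right h8 hvpos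
  linarith

/-- The commutator estimate. -/
theorem jd_comm_bound (hiso : ∀ g v, ‖π g v‖ = ‖v‖) (x y : G) (c c' : ℂ) :
    ‖π (x * y * x⁻¹ * y⁻¹) - 1‖
      ≤ 2 * ‖π x - c • (1 : E →L[ℂ] E)‖ * ‖π y - c' • (1 : E →L[ℂ] E)‖ := by
  have e : π (x * y * x⁻¹ * y⁻¹) - 1
      = ((π x - c • 1) * (π y - c' • 1) - (π y - c' • 1) * (π x - c • 1)) * π x⁻¹ * π y⁻¹ := by
    have e1 : (π x - c • (1 : E →L[ℂ] E)) * (π y - c' • 1) - (π y - c' • 1) * (π x - c • 1)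
        = π x * π y - π y * π x := by
      simp only [mul_sub, sub_mul, mul_smul_comm, smul_mul_assoc, mul_one, one_mul, smul_sub,
        smul_smul, mul_comm c' c]
      abel
    rw [e1, sub_mul, sub_mul, mul_assoc (π y), jd_mul_inv, mul_one, jd_mul_inv, map_mul, map_mul,
      map_mul]
  rw [e]
  calc ‖((π x - c • 1) * (π y - c' • 1) - (π y - c' • 1) * (π x - c • 1)) * π x⁻¹ * π y⁻¹‖
      ≤ ‖(π x - c • (1 : E →L[ℂ] E)) * (π y - c' • 1) - (π y - c' • 1) * (π x - c • 1)‖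
          * ‖π x⁻¹‖ * ‖π y⁻¹‖ :=
        (norm_mul_le _ _).trans (mul_le_mul_of_nonneg_right (norm_mul_le _ _) (norm_nonneg _))
    _ ≤ (‖π x - c • (1 : E →L[ℂ] E)‖ * ‖π y - c' • (1 : E →L[ℂ] E)‖
          + ‖π y - c' • (1 : E →L[ℂ] E)‖ * ‖π x - c • (1 : E →L[ℂ] E)‖) * 1 * 1 := by
        gcongr
        · exact (norm_sub_le _ _).trans (add_le_add (norm_mul_le _ _) (norm_mul_le _ _))
        · exact jd_norm_le_one hiso x⁻¹
        · exact jd_norm_le_one hiso y⁻¹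
    _ = 2 * ‖π x - c • (1 : E →L[ℂ] E)‖ * ‖π y - c' • (1 : E →L[ℂ] E)‖ := by ring

end

end Cfsg.Agent.Lib.Helper8
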