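import Mathlib
import Cfsg.Agent.Lib.Helper8.JD1
import Cfsg.Agent.Lib.Helper8.JD2

/-!
# Elements close to scalars commute (Frobenius)
-/

set_option autoImplicit false

namespace Cfsg.Agent.Lib.Helper8

open scoped ComplexConjugate InnerProductSpace

section

variable {E : Type*} [NormedAddCommGroup E] [InnerProductSpace ℂ E] [FiniteDimensional ℂ E]
  {G : Type*} [Group G] [Finite G] {π : G →* (E →L[ℂ] E)}

/-- The linear-map version of the representation. -/
noncomputable def jdLin (π : G →* (E →L[ℂ] E)) : G →* Module.End ℂ E :=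
  (ContinuousLinearMap.toLinearMapRingHom : (E →L[ℂ] E) →+* (E →ₗ[ℂ] E)).toMonoidHom.comp π

theorem jdLin_apply (g : G) (v : E) : jdLin π g v = π g v := rfl

theorem jdLin_finite_order (g : G) : ∃ m : ℕ, 0 < m ∧ jdLin π g ^ m = 1 :=
  ⟨orderOf g, orderOf_pos g, by rw [← map_pow, pow_orderOf_eq_one, map_one]⟩

/-- Frobenius' lemma: if `x` commutes with `[x, y]` and the numerical range of `y` avoids zero,
then `x` and `y` commute. -/
theorem jd_commute_of_commute_comm (hiso : ∀ g v, ‖π g v‖ = ‖v‖)
    (hinj : Function.Injective π) {x y : G} (hc : Commute x (x * y * x⁻¹ * y⁻¹))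
    (hnr : ∀ v : E, ⟪π y v, v⟫_ℂ = 0 → v = 0) : x * y = y * x := by
  -- `x` commutes with `x' = y x y⁻¹`
  have hc' : Commute x (y * x * y⁻¹) := by
    have h1 : x * (x * y * x⁻¹ * y⁻¹) = x * y * x⁻¹ * y⁻¹ * x := hc
    have h2 : x * (y * x⁻¹ * y⁻¹) = y * x⁻¹ * y⁻¹ * x := by
      have : x * (x * (y * x⁻¹ * y⁻¹)) = x * (y * x⁻¹ * y⁻¹ * x) := by
        calc x * (x * (y * x⁻¹ * y⁻¹)) = x * (x * y * x⁻¹ * y⁻¹) := by group
          _ = x * y * x⁻¹ * y⁻¹ * x := h1
          _ = x * (y * x⁻¹ * y⁻¹ * x) := by group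
      exact mul_left_cancel this
    have h3 : Commute x (y * x⁻¹ * y⁻¹) := h2
    have h4 : (y * x⁻¹ * y⁻¹)⁻¹ = y * x * y⁻¹ := by group
    rw [← h4]
    exact h3.inv_right
  let f : Bool → Module.End ℂ E := fun b => jdLin π (if b then x else y * x * y⁻¹)
  have hcomm : ∀ i j, Commute (f i) (f j) := by
    intro i j
    apply Commute.map
    cases i <;> cases j
    · exact Commute.refl _
    · exact hc'.symm
    · exact hc'
    · exact Commute.refl _
  have hjoint := jdJoint f hcomm (fun i => jdLin_finite_order _)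
  have hle : ∀ χ : Bool → ℂ, ⨅ b, (f b).eigenspace (χ b)
      ≤ LinearMap.eqLocus (jdLin π x) (jdLin π (y * x * y⁻¹)) := by
    intro χ z hz
    rw [Submodule.mem_iInf] at hz
    have hz1 : π x z = χ true • z := by
      have := hz true
      rw [Module.End.mem_eigenspace_iff] at this
      exact this
    have hz2 : π (y * x * y⁻¹) z = χ false • z := by
      have := hz false
      rw [Module.End.mem_eigenspace_iff] at this
      exact this
    rw [LinearMap.mem_eqLocus, jdLin_apply, jdLin_apply, hz1, hz2]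
    by_cases hab : χ true = χ false
    · rw [hab]
    · -- then `z = 0`
      have hu : π x (π y⁻¹ z) = χ false • π y⁻¹ z := by
        have e : π x (π y⁻¹ z) = π y⁻¹ (π (y * x * y⁻¹) z) := by
          rw [← ContinuousLinearMap.mul_apply, ← ContinuousLinearMap.mul_apply, ← map_mul,
            ← map_mul]
          congr 2
          group
        rw [e, hz2, map_smul]
      have horth : ⟪z, π y⁻¹ z⟫_ℂ = 0 := jd_eigen_orth hiso hz1 hu hab
      have hyy : π y (π y⁻¹ z) = z := by
        rw [← ContinuousLinearMap.mul_apply, jd_mul_inv, ContinuousLinearMap.one_apply]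
      have hu0 : π y⁻¹ z = 0 := by
        apply hnr
        rw [hyy]
        exact horth
      have hz0 : z = 0 := by
        rw [← hyy, hu0, map_zero]
      rw [hz0, smul_zero, smul_zero]
  have htop : LinearMap.eqLocus (jdLin π x) (jdLin π (y * x * y⁻¹)) = ⊤ := by
    rw [eq_top_iff, ← hjoint]
    exact iSup_le hle
  rw [LinearMap.eqLocus_eq_top] at htop
  have h5 : π x = π (y * x * y⁻¹) := by
    ext v
    have := LinearMap.congr_fun htop v
    exact this
  have h6 := hinj h5
  calc x * y = y * x * y⁻¹ * y := by rw [← h6]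
    _ = y * x := by group

/-- The iterated commutator sequence. -/
def jdSeq (x y : G) : ℕ → G
  | 0 => y
  | (i + 1) => x * jdSeq x y i * x⁻¹ * (jdSeq x y i)⁻¹

/-- Any two elements of `jdS` commute. -/
theorem jdS_commute (hiso : ∀ g v, ‖π g v‖ = ‖v‖) (hinj : Function.Injective π) {x y : G}
    (hx : x ∈ jdS π) (hy : y ∈ jdS π) : x * y = y * x := by
  obtain ⟨c, hc⟩ := hx
  have hc0 : 0 ≤ ‖π x - c • (1 : E →L[ℂ] E)‖ := norm_nonneg _
  -- all members of the sequence lie in `jdS`
  have hS : ∀ i, jdSeq x y i ∈ jdS π := by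
    intro i
    induction i with
    | zero => exact hy
    | succ i ih =>
      obtain ⟨ci, hci⟩ := ih
      refine ⟨1, ?_⟩
      rw [one_smul]
      have hb := jd_comm_bound hiso x (jdSeq x y i) c ci
      have hci0 : 0 ≤ ‖π (jdSeq x y i) - ci • (1 : E →L[ℂ] E)‖ := norm_nonneg _
      show ‖π (x * jdSeq x y i * x⁻¹ * (jdSeq x y i)⁻¹) - 1‖ < 1 / 2
      nlinarith
  -- contraction
  have hcontr : ∀ i, ‖π (jdSeq x y (i + 1)) - 1‖
      ≤ 2 * ‖π x - c • (1 : E →L[ℂ] E)‖ * ‖π (jdSeq x y i) - 1‖ := by
    intro i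
    have hb := jd_comm_bound hiso x (jdSeq x y i) c 1
    rw [one_smul] at hb
    exact hb
  -- some member is trivial
  have hex : ∃ k, jdSeq x y k = 1 := by
    by_contra hne
    push_neg at hne
    have hpos : ∀ i, 0 < ‖π (jdSeq x y i) - 1‖ := by
      intro i
      rw [norm_pos_iff, sub_ne_zero]
      intro h
      apply hne i
      apply hinj
      rw [h, map_one]
    have hanti : StrictAnti (fun i => ‖π (jdSeq x y i) - 1‖) := by
      apply strictAnti_nat_of_succ_lt
      intro i
      have h1 := hcontr i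
      have h2 := hpos i
      show ‖π (jdSeq x y (i + 1)) - 1‖ < ‖π (jdSeq x y i) - 1‖
      nlinarith
    have hinj' : Function.Injective (jdSeq x y) := by
      intro i j hij
      apply hanti.injective
      show ‖π (jdSeq x y i) - 1‖ = ‖π (jdSeq x y j) - 1‖
      rw [hij]
    exact not_injective_infinite_finite _ hinj'
  obtain ⟨k, hk⟩ := hex
  -- downward induction
  have hdown : ∀ j i, i + j = k → Commute x (jdSeq x y i) := by
    intro j
    induction j with
    | zero =>
      intro i hi
      rw [add_zero] at hi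
      rw [hi, hk]
      exact Commute.one_right x
    | succ j ih =>
      intro i hi
      have h1 : Commute x (jdSeq x y (i + 1)) := ih (i + 1) (by omega)
      have h2 : x * jdSeq x y i = jdSeq x y i * x :=
        jd_commute_of_commute_comm hiso hinj h1 (fun v hv => jdS_nr hiso (hS i) hv)
      exact h2
  exact hdown k 0 (by omega)

end

end Cfsg.Agent.Lib.Helper8
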