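import Mathlib

/-!
# Twelve arcs on the unit circle
-/

set_option autoImplicit false

namespace Cfsg.Agent.Lib.Helper8

/-- The index of the arc (of length `π / 6`) containing a complex number. -/
noncomputable def jdArc (z : ℂ) : ℤ := ⌊-(Complex.arg z) * 6 / Real.pi⌋

theorem jdArc_mem (z : ℂ) : jdArc z ∈ Finset.Icc (-6 : ℤ) 5 := by
  unfold jdArc
  have hpi := Real.pi_pos
  have h1 := Complex.neg_pi_lt_arg z
  have h2 := Complex.arg_le_pi z
  rw [Finset.mem_Icc]
  constructor
  · rw [Int.le_floor]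
    rw [le_div_iff₀ hpi]
    push_cast
    nlinarith
  · have : ⌊-(Complex.arg z) * 6 / Real.pi⌋ < 6 := by
      rw [Int.floor_lt]
      rw [div_lt_iff₀ hpi]
      push_cast
      nlinarith
    omega

theorem jdArc_close {z z' : ℂ} (hz : ‖z‖ = 1) (hz' : ‖z'‖ = 1) (h : jdArc z = jdArc z') :
    ‖z⁻¹ * z' - ((Real.sqrt 3 / 2 : ℝ) : ℂ)‖ < 1 / 2 := by
  have hpi := Real.pi_pos
  have h1 := Int.abs_sub_lt_one_of_floor_eq_floor h
  set δ : ℝ := Complex.arg z' - Complex.arg z with hδ
  have h2 : |δ| < Real.pi / 6 := by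
    have e : -(Complex.arg z) * 6 / Real.pi - -(Complex.arg z') * 6 / Real.pi
        = δ * (6 / Real.pi) := by
      rw [hδ]
      ring
    rw [e, abs_mul, abs_of_pos (div_pos (by norm_num : (0:ℝ) < 6) hpi)] at h1
    rw [lt_div_iff₀ (by norm_num : (0:ℝ) < 6)]
    have := (lt_div_iff₀ (div_pos (by norm_num : (0:ℝ) < 6) hpi)).2 h1
    rw [one_div, inv_div] at this
    linarith [this]
  have hcos : Real.sqrt 3 / 2 < Real.cos δ := by
    rw [← Real.cos_pi_div_six, ← Real.cos_abs δ]
    apply Real.strictAntiOn_cos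
    · exact ⟨abs_nonneg _, by linarith⟩
    · exact ⟨by positivity, by linarith⟩
    · exact h2
  have ez : z = Complex.exp (Complex.arg z * Complex.I) := by
    have := Complex.norm_mul_exp_arg_mul_I z
    rw [hz, Complex.ofReal_one, one_mul] at this
    exact this.symm
  have ez' : z' = Complex.exp (Complex.arg z' * Complex.I) := by
    have := Complex.norm_mul_exp_arg_mul_I z'
    rw [hz', Complex.ofReal_one, one_mul] at this
    exact this.symm
  have e3 : z⁻¹ * z' = Complex.exp ((δ : ℂ) * Complex.I) := by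
    rw [ez, ez', ← Complex.exp_neg, ← Complex.exp_add, hδ]
    congr 1
    push_cast
    ring
  have e4 : Complex.exp ((δ : ℂ) * Complex.I) = ((Real.cos δ : ℝ) : ℂ) + ((Real.sin δ : ℝ) : ℂ) * Complex.I := by
    rw [Complex.exp_mul_I, Complex.ofReal_cos, Complex.ofReal_sin]
  have hs3 : Real.sqrt 3 ^ 2 = 3 := Real.sq_sqrt (by norm_num)
  have hsq : ‖z⁻¹ * z' - ((Real.sqrt 3 / 2 : ℝ) : ℂ)‖ ^ 2 < (1 / 2) ^ 2 := by
    rw [e3, e4, Complex.sq_norm, Complex.normSq_apply]
    simp only [Complex.add_re, Complex.sub_re, Complex.ofReal_re, Complex.mul_re, Complex.I_re,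
      Complex.ofReal_im, Complex.I_im, Complex.add_im, Complex.sub_im, Complex.mul_im, mul_zero,
      mul_one, sub_zero, add_zero, zero_add]
    have hcs := Real.sin_sq_add_cos_sq δ
    have hs0 : 0 < Real.sqrt 3 := Real.sqrt_pos.2 (by norm_num)
    have hprod : 3 / 2 < Real.sqrt 3 * Real.cos δ := by nlinarith
    nlinarith
  exact lt_of_pow_lt_pow_left₀ 2 (by norm_num) hsq

end Cfsg.Agent.Lib.Helper8
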