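import Mathlib
import Cfsg.Agent.Lib.Helper8.JD3

/-!
# Joint eigenspaces of an abelian subgroup in an isometric representation
-/

set_option autoImplicit false

namespace Cfsg.Agent.Lib.Helper8

open scoped ComplexConjugate InnerProductSpace

section

variable {E : Type*} [NormedAddCommGroup E] [InnerProductSpace ℂ E] [FiniteDimensional ℂ E]
  {G : Type*} [Group G] [Finite G] (π : G →* (E →L[ℂ] E))

/-- The joint eigenspace of the subgroup `H` for the function `χ`. -/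
noncomputable def jdJ (H : Subgroup G) (χ : H → ℂ) : Submodule ℂ E :=
  ⨅ h : H, (jdLin π (h : G)).eigenspace (χ h)

variable {π}

theorem mem_jdJ {H : Subgroup G} {χ : H → ℂ} {v : E} :
    v ∈ jdJ π H χ ↔ ∀ h : H, π (h : G) v = χ h • v := by
  unfold jdJ
  rw [Submodule.mem_iInf]
  constructor
  · intro h k
    have := h k
    rw [Module.End.mem_eigenspace_iff] at this
    exact this
  · intro h k
    rw [Module.End.mem_eigenspace_iff]
    exact h k

theorem jdJ_iSup (H : Subgroup G) (hH : ∀ x ∈ H, ∀ y ∈ H, x * y = y * x) :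
    ⨆ χ : H → ℂ, jdJ π H χ = ⊤ := by
  apply jdJoint (fun h : H => jdLin π (h : G))
  · intro i j
    apply Commute.map
    exact hH i i.2 j j.2
  · intro i
    exact jdLin_finite_order _

theorem jdJ_orth (hiso : ∀ g v, ‖π g v‖ = ‖v‖) {H : Subgroup G} {χ χ' : H → ℂ} (hne : χ ≠ χ')
    {v w : E} (hv : v ∈ jdJ π H χ) (hw : w ∈ jdJ π H χ') : ⟪v, w⟫_ℂ = 0 := by
  obtain ⟨h, hh⟩ : ∃ h, χ h ≠ χ' h := by
    by_contra hcon
    push_neg at hcon
    exact hne (funext hcon)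
  exact jd_eigen_orth hiso (mem_jdJ.1 hv h) (mem_jdJ.1 hw h) hh

theorem jdJ_orthogonalFamily (hiso : ∀ g v, ‖π g v‖ = ‖v‖) (H : Subgroup G) :
    OrthogonalFamily ℂ (fun χ : H → ℂ => jdJ π H χ) (fun χ => (jdJ π H χ).subtypeₗᵢ) := by
  intro χ χ' hne v w
  exact jdJ_orth hiso hne v.2 w.2

/-- The operator norm of `π u - c` is bounded by the deviations of the joint eigenvalues. -/
theorem jdJ_norm_le (hiso : ∀ g v, ‖π g v‖ = ‖v‖) {H : Subgroup G}
    (hH : ∀ x ∈ H, ∀ y ∈ H, x * y = y * x) (u : H) (c : ℂ) {r : ℝ} (hr : 0 ≤ r)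
    (hχ : ∀ χ : H → ℂ, jdJ π H χ ≠ ⊥ → ‖χ u - c‖ ≤ r) :
    ‖π (u : G) - c • (1 : E →L[ℂ] E)‖ ≤ r := by
  classical
  apply ContinuousLinearMap.opNorm_le_bound _ hr
  intro v
  have hv : v ∈ ⨆ χ : H → ℂ, jdJ π H χ := by
    rw [jdJ_iSup H hH]
    exact Submodule.mem_top
  obtain ⟨f, hf⟩ := (Submodule.mem_iSup_iff_exists_dfinsupp' _ v).1 hv
  have hvsum : v = ∑ χ ∈ f.support, ((f χ : jdJ π H χ) : E) := by
    rw [← hf]
    rfl
  -- the image
  let l : ∀ χ : H → ℂ, jdJ π H χ := fun χ => (χ u - c) • f χ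
  have himg : (π (u : G) - c • (1 : E →L[ℂ] E)) v = ∑ χ ∈ f.support, ((l χ : jdJ π H χ) : E) := by
    rw [hvsum, map_sum]
    apply Finset.sum_congr rfl
    intro χ _
    have h1 : π (u : G) ((f χ : jdJ π H χ) : E) = χ u • ((f χ : jdJ π H χ) : E) :=
      mem_jdJ.1 (f χ).2 u
    simp only [ContinuousLinearMap.sub_apply, ContinuousLinearMap.smul_apply,
      ContinuousLinearMap.one_apply, l, Submodule.coe_smul]
    rw [h1, sub_smul]
  have hO := jdJ_orthogonalFamily hiso H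
  have h1 : ‖(π (u : G) - c • (1 : E →L[ℂ] E)) v‖ ^ 2 = ∑ χ ∈ f.support, ‖l χ‖ ^ 2 := by
    rw [himg]
    exact hO.norm_sum l f.support
  have h2 : ‖v‖ ^ 2 = ∑ χ ∈ f.support, ‖f χ‖ ^ 2 := by
    rw [hvsum]
    exact hO.norm_sum (fun χ => f χ) f.support
  have h3 : ‖(π (u : G) - c • (1 : E →L[ℂ] E)) v‖ ^ 2 ≤ (r * ‖v‖) ^ 2 := by
    rw [h1, mul_pow, h2, Finset.mul_sum]
    apply Finset.sum_le_sum
    intro χ hχs
    have hne : jdJ π H χ ≠ ⊥ := by
      intro hbot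
      have h4 : f χ ≠ 0 := (DFinsupp.mem_support_iff).1 hχs
      apply h4
      have h5 : ((f χ : jdJ π H χ) : E) ∈ (⊥ : Submodule ℂ E) := hbot ▸ (f χ).2
      rw [Submodule.mem_bot] at h5
      exact Subtype.ext h5
    have h6 : ‖l χ‖ = ‖χ u - c‖ * ‖f χ‖ := norm_smul _ _
    rw [h6, mul_pow]
    apply mul_le_mul_of_nonneg_right _ (sq_nonneg _)
    exact pow_le_pow_left₀ (norm_nonneg _) (hχ χ hne) 2
  exact (pow_le_pow_iff_left₀ (norm_nonneg _) (mul_nonneg hr (norm_nonneg _)) two_ne_zero).1 h3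

end

end Cfsg.Agent.Lib.Helper8
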