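import Mathlib
import Cfsg.Agent.Lib.Helper8.JD4
import Cfsg.Agent.Lib.Helper8.JD5

/-!
# Jordan-type theorem for isometric representations: abelian subgroups are almost inside an
abelian normal subgroup
-/

set_option autoImplicit false

namespace Cfsg.Agent.Lib.Helper8

open scoped ComplexConjugate InnerProductSpace

theorem jd_exists_bound {ι : Type*} [Fintype ι] (f : ι → ℝ) {b : ℝ} (hb : 0 < b)
    (hf : ∀ i, f i < b) : ∃ r : ℝ, 0 ≤ r ∧ r < b ∧ ∀ i, f i ≤ r := by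
  by_cases hne : Nonempty ι
  · obtain ⟨i₀, -, hi₀⟩ := Finset.exists_max_image Finset.univ f Finset.univ_nonempty
    refine ⟨max (f i₀) 0, le_max_right _ _, max_lt (hf i₀) hb, fun i => ?_⟩
    exact (hi₀ i (Finset.mem_univ i)).trans (le_max_left _ _)
  · refine ⟨0, le_rfl, hb, fun i => ?_⟩
    exact absurd ⟨i⟩ hne

section

variable {E : Type*} [NormedAddCommGroup E] [InnerProductSpace ℂ E] [FiniteDimensional ℂ E]
  {G : Type*} [Group G] [Finite G] {π : G →* (E →L[ℂ] E)}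

theorem jdJ_apply_inv_mul (hiso : ∀ g v, ‖π g v‖ = ‖v‖) {H : Subgroup G} {χ : H → ℂ}
    (hne : jdJ π H χ ≠ ⊥) (h h' : H) :
    ‖χ h‖ = 1 ∧ ‖χ h'‖ = 1 ∧ χ (h⁻¹ * h') = (χ h)⁻¹ * χ h' := by
  obtain ⟨v, hv, hv0⟩ := (Submodule.ne_bot_iff _).1 hne
  have hv' := mem_jdJ.1 hv
  have h1 : ‖χ h‖ = 1 := jd_eigen_norm hiso (hv' h) hv0
  have h2 : ‖χ h'‖ = 1 := jd_eigen_norm hiso (hv' h') hv0
  refine ⟨h1, h2, ?_⟩
  have h3 : χ h ≠ 0 := by
    intro h0
    rw [h0, norm_zero] at h1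
    exact zero_ne_one h1
  have h4 : π ((h⁻¹ : H) : G) v = (χ h)⁻¹ • v := by
    have e : π ((h⁻¹ : H) : G) (π (h : G) v) = v := by
      rw [← ContinuousLinearMap.mul_apply, Subgroup.coe_inv, jd_inv_mul,
        ContinuousLinearMap.one_apply]
    rw [hv' h, map_smul] at e
    calc π ((h⁻¹ : H) : G) v = (χ h)⁻¹ • (χ h • π ((h⁻¹ : H) : G) v) := by
          rw [smul_smul, inv_mul_cancel₀ h3, one_smul]
      _ = (χ h)⁻¹ • v := by rw [e]
  have h5 : π ((h⁻¹ * h' : H) : G) v = ((χ h)⁻¹ * χ h') • v := by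
    rw [Subgroup.coe_mul, map_mul, ContinuousLinearMap.mul_apply, hv' h', map_smul, h4, smul_smul,
      mul_comm]
  have h6 := hv' (h⁻¹ * h')
  rw [h5] at h6
  have h7 : ((χ h)⁻¹ * χ h' - χ (h⁻¹ * h')) • v = 0 := by
    rw [sub_smul, h6, sub_self]
  rcases smul_eq_zero.1 h7 with h8 | h8
  · exact (sub_eq_zero.1 h8).symm
  · exact absurd h8 hv0

theorem jd_main (hiso : ∀ g v, ‖π g v‖ = ‖v‖) (hinj : Function.Injective π) :
    ∃ A : Subgroup G, A.Normal ∧ (∀ x ∈ A, ∀ y ∈ A, x * y = y * x) ∧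
      ∀ H : Subgroup G, (∀ x ∈ H, ∀ y ∈ H, x * y = y * x) →
        (A.subgroupOf H).index ≤ 12 ^ Module.finrank ℂ E := by
  classical
  have hScomm : ∀ x ∈ jdS π, ∀ y ∈ jdS π, x * y = y * x :=
    fun x hx y hy => jdS_commute hiso hinj hx hy
  refine ⟨Subgroup.closure (jdS π), ⟨fun a ha g => ?_⟩, ?_, ?_⟩
  · induction ha using Subgroup.closure_induction with
    | mem x hx => exact Subgroup.subset_closure (jdS_conj hiso hx g)
    | one => rw [mul_one, mul_inv_cancel]; exact one_mem _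
    | mul x y _ _ hx hy =>
      have : g * (x * y) * g⁻¹ = (g * x * g⁻¹) * (g * y * g⁻¹) := by group
      rw [this]
      exact mul_mem hx hy
    | inv x _ hx =>
      have : g * x⁻¹ * g⁻¹ = (g * x * g⁻¹)⁻¹ := by group
      rw [this]
      exact inv_mem hx
  · intro x hx y hy
    have := (Subgroup.closureCommGroupOfComm hScomm).mul_comm ⟨x, hx⟩ ⟨y, hy⟩
    exact congrArg Subtype.val this
  · intro H hH
    by_contra hlt
    push_neg at hlt
    have hO := jdJ_orthogonalFamily hiso H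
    have hind : iSupIndep (fun χ : H → ℂ => jdJ π H χ) := hO.independent
    letI : Fintype {χ : H → ℂ // jdJ π H χ ≠ ⊥} := hind.fintypeNeBotOfFiniteDimensional
    have hcard : Fintype.card {χ : H → ℂ // jdJ π H χ ≠ ⊥} ≤ Module.finrank ℂ E :=
      hind.subtype_ne_bot_le_finrank
    haveI : Fintype (H ⧸ (Subgroup.closure (jdS π)).subgroupOf H) := Fintype.ofFinite _
    let T : Finset ({χ : H → ℂ // jdJ π H χ ≠ ⊥} → ℤ) :=
      Fintype.piFinset (fun _ => Finset.Icc (-6 : ℤ) 5)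
    have hT : T.card ≤ 12 ^ Module.finrank ℂ E := by
      rw [Fintype.card_piFinset, Finset.prod_const, Finset.card_univ]
      have : (Finset.Icc (-6 : ℤ) 5).card = 12 := by decide
      rw [this]
      exact Nat.pow_le_pow_right (by norm_num) hcard
    let cell : (H ⧸ (Subgroup.closure (jdS π)).subgroupOf H) →
        ({χ : H → ℂ // jdJ π H χ ≠ ⊥} → ℤ) := fun q χ => jdArc (χ.1 (Quotient.out q))
    have hmaps : Set.MapsTo cell
        ((Finset.univ : Finset (H ⧸ (Subgroup.closure (jdS π)).subgroupOf H)) : Set _) (T : Set _) := by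
      intro q _
      rw [Finset.mem_coe, Fintype.mem_piFinset]
      intro χ
      exact jdArc_mem _
    have hlt' : T.card < (Finset.univ :
        Finset (H ⧸ (Subgroup.closure (jdS π)).subgroupOf H)).card := by
      rw [Finset.card_univ, ← Nat.card_eq_fintype_card]
      exact lt_of_le_of_lt hT hlt
    obtain ⟨q, -, q', -, hqq', hcell⟩ := Finset.exists_ne_map_eq_of_card_lt_of_maps_to hlt' hmaps
    apply hqq'
    rw [← QuotientGroup.out_eq' q, ← QuotientGroup.out_eq' q', QuotientGroup.eq,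
      Subgroup.mem_subgroupOf]
    apply Subgroup.subset_closure
    -- the element `u = h⁻¹ h'` is close to a scalar
    have hclose : ∀ χ : {χ : H → ℂ // jdJ π H χ ≠ ⊥},
        ‖χ.1 ((Quotient.out q)⁻¹ * Quotient.out q') - ((Real.sqrt 3 / 2 : ℝ) : ℂ)‖ < 1 / 2 := by
      intro χ
      obtain ⟨h1, h2, h3⟩ := jdJ_apply_inv_mul hiso χ.2 (Quotient.out q) (Quotient.out q')
      rw [h3]
      exact jdArc_close h1 h2 (congrFun hcell χ)
    obtain ⟨r, hr0, hr, hle⟩ := jd_exists_bound _ (by norm_num : (0 : ℝ) < 1 / 2) hclose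
    refine ⟨((Real.sqrt 3 / 2 : ℝ) : ℂ), lt_of_le_of_lt ?_ hr⟩
    exact jdJ_norm_le hiso hH _ _ hr0 (fun χ hχ => hle ⟨χ, hχ⟩)

end

end Cfsg.Agent.Lib.Helper8
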