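import Mathlib
import Cfsg.Agent.Lib.Helper8.JD6

/-!
# Jordan-type theorem for faithful representations on coordinate spaces
-/

set_option autoImplicit false

namespace Cfsg.Agent.Lib.Helper8

open scoped ComplexConjugate InnerProductSpace

/-- The unitary trick: an embedding into a Euclidean space on which the group acts by permuting
coordinates, hence isometrically. -/
theorem jd_embed {G : Type*} [Group G] [Fintype G] {d : ℕ}
    (ρ : Representation ℂ G (Fin d → ℂ)) :
    ∃ emb : (Fin d → ℂ) →ₗ[ℂ] EuclideanSpace ℂ (G × Fin d), Function.Injective emb ∧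
      ∀ (h : G) (v : Fin d → ℂ), ‖emb (ρ h v)‖ = ‖emb v‖ := by
  classical
  let emb : (Fin d → ℂ) →ₗ[ℂ] EuclideanSpace ℂ (G × Fin d) :=
    { toFun := fun v => WithLp.toLp 2 (fun p : G × Fin d => ρ p.1 v p.2)
      map_add' := by
        intro v w
        ext p
        simp
      map_smul' := by
        intro c v
        ext p
        simp }
  have hemb_apply : ∀ (v : Fin d → ℂ) (p : G × Fin d), emb v p = ρ p.1 v p.2 := fun _ _ => rfl
  refine ⟨emb, ?_, ?_⟩
  · intro v w hvw
    funext i
    have := congrArg (fun f : EuclideanSpace ℂ (G × Fin d) => f (1, i)) hvw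
    simp only [hemb_apply, map_one, Module.End.one_apply] at this
    exact this
  · intro h v
    have h1 : ‖emb (ρ h v)‖ ^ 2 = ‖emb v‖ ^ 2 := by
      rw [EuclideanSpace.norm_sq_eq, EuclideanSpace.norm_sq_eq, Fintype.sum_prod_type,
        Fintype.sum_prod_type]
      apply Fintype.sum_equiv (Equiv.mulRight h)
      intro g
      apply Finset.sum_congr rfl
      intro i _
      show ‖emb (ρ h v) (g, i)‖ ^ 2 = ‖emb v (g * h, i)‖ ^ 2
      rw [hemb_apply, hemb_apply]
      show ‖ρ g (ρ h v) i‖ ^ 2 = ‖ρ (g * h) v i‖ ^ 2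
      rw [map_mul, Module.End.mul_apply]
    exact (sq_eq_sq₀ (norm_nonneg _) (norm_nonneg _)).1 h1

theorem jd_of_rep {G : Type*} [Group G] [Finite G] {d : ℕ} (ρ : Representation ℂ G (Fin d → ℂ))
    (hfaith : ∀ g : G, ρ g = 1 → g = 1) :
    ∃ A : Subgroup G, A.Normal ∧ (∀ x ∈ A, ∀ y ∈ A, x * y = y * x) ∧
      ∀ H : Subgroup G, (∀ x ∈ H, ∀ y ∈ H, x * y = y * x) → (A.subgroupOf H).index ≤ 12 ^ d := by
  classical
  haveI : Fintype G := Fintype.ofFinite G
  obtain ⟨emb, hemb_inj, hemb_norm⟩ := jd_embed ρ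
  obtain ⟨e, he_coe⟩ : ∃ e : (Fin d → ℂ) ≃ₗ[ℂ] LinearMap.range emb,
      ∀ v, ((e v : LinearMap.range emb) : EuclideanSpace ℂ (G × Fin d)) = emb v :=
    ⟨LinearEquiv.ofInjective emb hemb_inj, fun v => rfl⟩
  obtain ⟨π, hπ_apply⟩ : ∃ π : G →* (LinearMap.range emb →L[ℂ] LinearMap.range emb),
      ∀ (h : G) (w : LinearMap.range emb), π h w = e (ρ h (e.symm w)) := by
    refine ⟨{ toFun := fun h => LinearMap.toContinuousLinearMap
                ((e.toLinearMap ∘ₗ ρ h) ∘ₗ e.symm.toLinearMap)
              map_one' := ?_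
              map_mul' := ?_ }, fun h w => rfl⟩
    · ext w
      simp
    · intro h h'
      ext w
      simp
  have hiso : ∀ (g : G) (v : LinearMap.range emb), ‖π g v‖ = ‖v‖ := by
    intro g w
    rw [hπ_apply]
    show ‖((e (ρ g (e.symm w)) : LinearMap.range emb) : EuclideanSpace ℂ (G × Fin d))‖
      = ‖(w : EuclideanSpace ℂ (G × Fin d))‖
    rw [he_coe, hemb_norm, ← he_coe, LinearEquiv.apply_symm_apply]
  have hinj : Function.Injective π := by
    intro h h' hh
    have h1 : ρ h = ρ h' := by
      apply LinearMap.ext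
      intro v
      have := congrArg (fun T : LinearMap.range emb →L[ℂ] LinearMap.range emb => T (e v)) hh
      simp only [hπ_apply, LinearEquiv.symm_apply_apply] at this
      exact e.injective this
    have h2 : ρ (h⁻¹ * h') = 1 := by
      rw [map_mul, ← h1, ← map_mul, inv_mul_cancel, map_one]
    have := hfaith _ h2
    exact inv_mul_eq_one.1 this
  have key := @jd_main (LinearMap.range emb) _ _ _ G _ _ π hiso hinj
  have hfr : Module.finrank ℂ (LinearMap.range emb) = d := by
    rw [← LinearEquiv.finrank_eq e, Module.finrank_fin_fun]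
  rw [hfr] at key
  exact key

end Cfsg.Agent.Lib.Helper8
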