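import Mathlib
import Cfsg.Agent.Lib.Helper6.JL.JL5

/-! Abstract group lemmas for S2945: odd-order elements and subnormal subgroups of 2-power "index",
`O_2` normalizes subnormal subgroups generated by odd-order elements, automorphisms of a four-group
commuting with a fixed-point-free element. -/

set_option autoImplicit false

namespace Cfsg.Agent.Lib.Helper8.JT

open Cfsg Cfsg.Agent.Lib.Helper6.JC Cfsg.Agent.Lib.Helper6.JL

section abstract
variable {Y : Type*} [Group Y]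

/-- an element of odd order one of whose `2`-power powers lies in `M` lies in `M` -/
theorem mem_of_odd_of_pow_two_mem {M : Subgroup Y} {y : Y} (hy : Odd (orderOf y)) {n : ℕ}
    (h : y ^ 2 ^ n ∈ M) : y ∈ M := by
  have hc : Nat.Coprime (2 ^ n) (orderOf y) :=
    Nat.Coprime.pow_left n (Nat.Coprime.symm hy.coprime_two_right)
  obtain ⟨m, hm⟩ := exists_pow_eq_self_of_coprime hc
  rw [← hm]
  exact M.pow_mem h m

/-- powers of a product modulo a subgroup normalized by the second factor -/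
theorem mul_pow_mul_inv_mem {H : Subgroup Y} {h q : Y} (hh : h ∈ H)
    (hq : ∀ j : ℕ, ∀ x ∈ H, q ^ j * x * (q ^ j)⁻¹ ∈ H) :
    ∀ j : ℕ, (h * q) ^ j * (q ^ j)⁻¹ ∈ H := by
  intro j
  induction j with
  | zero => simp
  | succ j ih =>
    have e : (h * q) ^ (j + 1) * (q ^ (j + 1))⁻¹ =
        ((h * q) ^ j * (q ^ j)⁻¹) * (q ^ j * h * (q ^ j)⁻¹) := by
      rw [pow_succ, pow_succ]; group
    rw [e]
    exact H.mul_mem ih (hq j h hh)

/-- if `M` is subnormal, `Q` a normal `2`-subgroup and `M Q` the whole group, then `M` contains all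
elements of odd order -/
theorem mem_of_odd_of_isSubnormal {Q : Subgroup Y} [hQn : Q.Normal]
    (hQ : ∀ q ∈ Q, ∃ n : ℕ, q ^ 2 ^ n = 1) {M : Subgroup Y} (hM : M.IsSubnormal)
    (hMQ : M ⊔ Q = ⊤) {y : Y} (hy : Odd (orderOf y)) : y ∈ M := by
  induction hM with
  | top => trivial
  | step H K hle hK hN ih =>
    have hKQ : K ⊔ Q = ⊤ := top_le_iff.mp (hMQ ▸ sup_le_sup_right hle Q)
    have hyK : y ∈ K := ih hKQ
    have hyHQ : y ∈ H ⊔ Q := hMQ ▸ Subgroup.mem_top y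
    obtain ⟨h, hh, q, hq, rfl⟩ := Subgroup.mem_sup_of_normal_right.mp hyHQ
    have hqK : q ∈ K := by
      have : q = h⁻¹ * (h * q) := by group
      rw [this]
      exact K.mul_mem (K.inv_mem (hle hh)) hyK
    obtain ⟨n, hn⟩ := hQ q hq
    have hKN : K ≤ Subgroup.normalizer (H : Set Y) :=
      (Subgroup.normal_subgroupOf_iff_le_normalizer hle).mp hN
    have key := mul_pow_mul_inv_mem hh (fun j x hx =>
      (Subgroup.mem_normalizer_iff.mp (hKN (K.pow_mem hqK j)) x).mp hx) (2 ^ n)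
    rw [hn] at key
    simp only [inv_one, mul_one] at key
    exact mem_of_odd_of_pow_two_mem hy key

/-- a normal `2`-subgroup normalizes every subnormal subgroup generated by elements of odd order -/
theorem le_normalizer_of_isSubnormal {K Q : Subgroup Y} [hQn : Q.Normal]
    (hQ : ∀ q ∈ Q, ∃ n : ℕ, q ^ 2 ^ n = 1) (hK : K.IsSubnormal)
    (hgen : Subgroup.closure {g : Y | g ∈ K ∧ Odd (orderOf g)} = K) :
    Q ≤ Subgroup.normalizer (K : Set Y) := by
  have key : ∀ q ∈ Q, ∀ k ∈ K, q * k * q⁻¹ ∈ K := by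
    intro q hq k hk
    have hle : K ≤ K.comap (MulAut.conj q).toMonoidHom := by
      conv_lhs => rw [← hgen]
      rw [Subgroup.closure_le]
      rintro g ⟨hgK, hgodd⟩
      show q * g * q⁻¹ ∈ K
      have hgX : q * g * q⁻¹ ∈ K ⊔ Q := by
        have h1 : g ∈ K ⊔ Q := (le_sup_left : K ≤ K ⊔ Q) hgK
        have h2 : q ∈ K ⊔ Q := (le_sup_right : Q ≤ K ⊔ Q) hq
        exact Subgroup.mul_mem _ (Subgroup.mul_mem _ h2 h1) (Subgroup.inv_mem _ h2)
      have hsn : (K.subgroupOf (K ⊔ Q)).IsSubnormal := hK.subgroupOf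
      have hQ' : ∀ x ∈ Q.subgroupOf (K ⊔ Q), ∃ n : ℕ, x ^ 2 ^ n = 1 := by
        intro x hx
        obtain ⟨n, hn⟩ := hQ (x : Y) (Subgroup.mem_subgroupOf.mp hx)
        exact ⟨n, Subtype.ext (by simpa using hn)⟩
      have hsup : K.subgroupOf (K ⊔ Q) ⊔ Q.subgroupOf (K ⊔ Q) = ⊤ := by
        rw [← Subgroup.subgroupOf_sup le_sup_left le_sup_right, Subgroup.subgroupOf_self]
      have hodd : Odd (orderOf (⟨q * g * q⁻¹, hgX⟩ : ↥(K ⊔ Q))) := by
        rw [← Subgroup.orderOf_coe]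
        show Odd (orderOf (q * g * q⁻¹))
        rw [orderOf_conj_eq]
        exact hgodd
      have := mem_of_odd_of_isSubnormal hQ' hsn hsup hodd
      exact Subgroup.mem_subgroupOf.mp this
    exact hle hk
  intro q hq
  rw [Subgroup.mem_normalizer_iff]
  intro h
  constructor
  · exact key q hq h
  · intro hh
    have := key q⁻¹ (Q.inv_mem hq) _ hh
    simpa [mul_assoc] using this

end abstract

section four
variable {Y : Type*} [Group Y] [Finite Y]

/-- an element `r` normalizing a group `W` of order 4, acting on it with `2`-power order and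
commuting (modulo `C(W)`) with a fixed-point-free `k`, centralizes `W` -/
theorem centralizes_four {W : Subgroup Y} (hW4 : Nat.card W = 4) {r k : Y}
    (hrW : ∀ w ∈ W, r * w * r⁻¹ ∈ W) {n : ℕ}
    (hrn : ∀ w ∈ W, r ^ 2 ^ n * w * (r ^ 2 ^ n)⁻¹ = w)
    (hkW : ∀ w ∈ W, k * w * k⁻¹ ∈ W) (hkfix : ∀ w ∈ W, k * w * k⁻¹ = w → w = 1)
    (hrk : ∀ w ∈ W, (r * k * r⁻¹ * k⁻¹) * w * (r * k * r⁻¹ * k⁻¹)⁻¹ = w) :
    ∀ w ∈ W, r * w * r⁻¹ = w := by
  classical
  have : Fact (Nat.Prime 2) := ⟨Nat.prime_two⟩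
  have : Fintype ↥W := Fintype.ofFinite _
  obtain ⟨f, hf⟩ : ∃ f : Function.End ↥W, ∀ w : ↥W, ((f w : ↥W) : Y) = r * w * r⁻¹ :=
    ⟨fun w => ⟨r * w * r⁻¹, hrW w w.2⟩, fun _ => rfl⟩
  have hfpow : ∀ j : ℕ, ∀ w : ↥W, (((f ^ j) w : ↥W) : Y) = r ^ j * w * (r ^ j)⁻¹ := by
    intro j
    induction j with
    | zero => intro w; rw [pow_zero, pow_zero]; show ((w : ↥W) : Y) = 1 * w * 1⁻¹; group
    | succ j ih =>
      intro w
      have e : (f ^ (j + 1)) w = f ((f ^ j) w) := by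
        rw [pow_succ']; rfl
      rw [e, hf, ih, pow_succ']
      group
  have hf1 : f ^ 2 ^ n = 1 := by
    funext w
    apply Subtype.ext
    rw [hfpow]
    exact hrn w w.2
  have hmod := Equiv.Perm.card_fixedPoints_modEq (f := f) (p := 2) (n := n) hf1
  rw [Fintype.card_eq_nat_card, Fintype.card_eq_nat_card, hW4] at hmod
  have h1fix : (1 : ↥W) ∈ Function.fixedPoints f := by
    show f 1 = 1
    apply Subtype.ext
    rw [hf]
    simp
  have hcard : 1 < Nat.card ↥(Function.fixedPoints f) := by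
    have : Nonempty ↥(Function.fixedPoints f) := ⟨⟨1, h1fix⟩⟩
    have hpos : 0 < Nat.card ↥(Function.fixedPoints f) := Nat.card_pos
    have hm : 4 % 2 = Nat.card ↥(Function.fixedPoints f) % 2 := hmod
    omega
  have : Nontrivial ↥(Function.fixedPoints f) := Finite.one_lt_card_iff_nontrivial.mp hcard
  obtain ⟨⟨w₀, hw₀fix⟩, hw₀ne⟩ := exists_ne (⟨1, h1fix⟩ : ↥(Function.fixedPoints f))
  have hw₀1 : (w₀ : Y) ≠ 1 := by
    intro h
    apply hw₀ne
    apply Subtype.ext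
    apply Subtype.ext
    exact h
  have hrw₀ : r * (w₀ : Y) * r⁻¹ = w₀ := by
    have : f w₀ = w₀ := hw₀fix
    rw [← hf, this]
  have hw₁W : k * (w₀ : Y) * k⁻¹ ∈ W := hkW _ w₀.2
  have hrw₁ : r * (k * (w₀ : Y) * k⁻¹) * r⁻¹ = k * (w₀ : Y) * k⁻¹ := by
    have h1 := hrk _ hw₁W
    have e : r * (k * (w₀ : Y) * k⁻¹) * r⁻¹ =
        (r * k * r⁻¹ * k⁻¹) * (k * (r * (w₀ : Y) * r⁻¹) * k⁻¹) * (r * k * r⁻¹ * k⁻¹)⁻¹ := by
      group
    rw [e, hrw₀]
    exact h1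
  have hw₁ne : k * (w₀ : Y) * k⁻¹ ≠ w₀ := fun h => hw₀1 (hkfix _ w₀.2 h)
  have hw₁1 : k * (w₀ : Y) * k⁻¹ ≠ 1 := by
    intro h
    apply hw₀1
    have : (w₀ : Y) = k⁻¹ * (k * (w₀ : Y) * k⁻¹) * k := by group
    rw [this, h]
    group
  obtain ⟨F, hFdef⟩ : ∃ F : Subgroup Y, F = W ⊓ Subgroup.centralizer ({r} : Set Y) := ⟨_, rfl⟩
  have hmemF : ∀ x : Y, x ∈ F ↔ x ∈ W ∧ r * x * r⁻¹ = x := by
    intro x
    rw [hFdef, Subgroup.mem_inf, Subgroup.mem_centralizer_iff]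
    constructor
    · rintro ⟨hx, hc⟩
      refine ⟨hx, ?_⟩
      have := hc r (Set.mem_singleton r)
      rw [this]
      group
    · rintro ⟨hx, hc⟩
      refine ⟨hx, ?_⟩
      intro h hh
      rw [Set.mem_singleton_iff] at hh
      subst hh
      calc h * x = (h * x * h⁻¹) * h := by group
        _ = x * h := by rw [hc]
  have hFW : F ≤ W := by rw [hFdef]; exact inf_le_left
  have hw₀F : (w₀ : Y) ∈ F := (hmemF _).mpr ⟨w₀.2, hrw₀⟩
  have hw₁F : k * (w₀ : Y) * k⁻¹ ∈ F := (hmemF _).mpr ⟨hw₁W, hrw₁⟩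
  have hFne : F ≠ ⊥ := by
    intro h
    rw [h, Subgroup.mem_bot] at hw₀F
    exact hw₀1 hw₀F
  have hFeq : F = W := by
    by_contra hlt
    have h2 := card_eq_two_of_lt_of_ne_bot hW4 hFW hFne hlt
    exact hw₁ne (eq_of_card_two h2 hw₀F hw₁F hw₀1 hw₁1)
  intro w hw
  rw [← hFeq] at hw
  exact ((hmemF w).mp hw).2

/-- a fixed-point-free automorphism of an abelian group `W`: every element is a commutator -/
theorem exists_comm_of_fpf {W : Subgroup Y} {k : Y}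
    (hkW : ∀ w ∈ W, k * w * k⁻¹ ∈ W) (hkfix : ∀ w ∈ W, k * w * k⁻¹ = w → w = 1) :
    ∀ w ∈ W, ∃ w' ∈ W, w = w'⁻¹ * (k * w' * k⁻¹) := by
  obtain ⟨φ, hφ⟩ : ∃ φ : ↥W → ↥W, ∀ w : ↥W, ((φ w : ↥W) : Y) = (w : Y)⁻¹ * (k * w * k⁻¹) :=
    ⟨fun w => ⟨(w : Y)⁻¹ * (k * w * k⁻¹), W.mul_mem (W.inv_mem w.2) (hkW w w.2)⟩, fun _ => rfl⟩
  have hinj : Function.Injective φ := by
    intro a b hab
    have h1 : (a : Y)⁻¹ * (k * a * k⁻¹) = (b : Y)⁻¹ * (k * b * k⁻¹) := by
      rw [← hφ, ← hφ, hab]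
    have h2 : k * ((b : Y) * (a : Y)⁻¹) * k⁻¹ = (b : Y) * (a : Y)⁻¹ := by
      calc k * ((b : Y) * (a : Y)⁻¹) * k⁻¹
          = (k * b * k⁻¹) * (k * a * k⁻¹)⁻¹ := by group
        _ = (b : Y) * ((b : Y)⁻¹ * (k * b * k⁻¹)) * (k * a * k⁻¹)⁻¹ := by group
        _ = (b : Y) * ((a : Y)⁻¹ * (k * a * k⁻¹)) * (k * a * k⁻¹)⁻¹ := by rw [h1]
        _ = (b : Y) * (a : Y)⁻¹ := by group
    have h3 := hkfix _ (W.mul_mem b.2 (W.inv_mem a.2)) h2
    apply Subtype.ext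
    have : (b : Y) = ((b : Y) * (a : Y)⁻¹) * a := by group
    rw [this, h3, one_mul]
  have hsurj : Function.Surjective φ := Finite.injective_iff_surjective.mp hinj
  intro w hw
  obtain ⟨w', hw'⟩ := hsurj ⟨w, hw⟩
  refine ⟨w', w'.2, ?_⟩
  rw [← hφ, hw']

end four

end Cfsg.Agent.Lib.Helper8.JT
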