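import Mathlib
import Cfsg.Agent.Lib.Lead.KS93z
import Cfsg.Agent.Lib.Helper9.GroupFusion
import Cfsg.Agent.Lib.Helper8.JT2

/-! In the failure-of-factorization set-up (`Setup 2 V H Q`, `H` generated by best offenders): an
element `k` of order dividing 3 normalizing `V` and `H`, whose commutator `[V, k]` is a four-group
`W` on which `k` acts fixed-point-freely, has `W` normalized by `H`. -/

set_option autoImplicit false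

namespace Cfsg.Agent.Lib.Helper8.JT

open Cfsg Cfsg.Agent.Lib.Lead.KS93 Cfsg.Agent.Lib.Lead Cfsg.Agent.Lib.Helper6
open Cfsg.Agent.Lib.Helper6.JC Cfsg.Agent.Lib.Helper6.JL
open scoped commutatorElement

section gamma
variable {Γ : Type*} [Group Γ] [Finite Γ] {V H Q A : Subgroup Γ}

local instance instFactTwoJT3 : Fact (Nat.Prime 2) := ⟨Nat.prime_two⟩

local notation "cj[" g "] " A => Subgroup.map (MulEquiv.toMonoidHom (MulAut.conj g)) A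

omit [Finite Γ] in
theorem conj_mem_cj {A : Subgroup Γ} (k : Γ) {a : Γ} (ha : a ∈ A) : k * a * k⁻¹ ∈ cj[k] A :=
  ⟨a, ha, by simp [MulAut.conj_apply]⟩

omit [Finite Γ] in
theorem cj_cj_cj_of_pow_three {k : Γ} (hk3 : k ^ 3 = 1) (A : Subgroup Γ) :
    (cj[k] (cj[k] (cj[k] A))) = A := by
  rw [← KS93.map_conj_mul, ← KS93.map_conj_mul]
  have : k * k * k = 1 := by rw [← hk3, pow_succ, pow_two]
  rw [this]
  ext x
  constructor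
  · rintro ⟨a, ha, rfl⟩
    simpa using ha
  · intro hx
    exact ⟨x, hx, by simp⟩

omit [Finite Γ] in
theorem cj_injective (k : Γ) {A B : Subgroup Γ} (h : (cj[k] A) = cj[k] B) : A = B := by
  rw [← KS93.map_conj_inv_map_conj k A, h, KS93.map_conj_inv_map_conj k B]

omit [Finite Γ] in
/-- conjugates of minimal offenders under elements normalizing `V` and `H` -/
theorem minOff_conj (M : MinOff 2 V H A) {k : Γ} (hkV : k ∈ Subgroup.normalizer (V : Set Γ))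
    (hkH : k ∈ Subgroup.normalizer (H : Set Γ)) : MinOff 2 V H (cj[k] A) := by
  refine ⟨?_, bestOffender_conj hkV M.hA, ?_, minimal_conj hkV M.hmin⟩
  · rintro _ ⟨a, ha, rfl⟩
    simp only [MulEquiv.coe_toMonoidHom, MulAut.conj_apply]
    exact (Subgroup.mem_normalizer_iff.mp hkH a).mp (M.hAH ha)
  · intro h0
    apply M.hA1
    rw [← KS93.map_conj_inv_map_conj k A, h0, Subgroup.map_bot]

variable (hS3 : H = ⨆ A : {A : Subgroup Γ // A ≤ H ∧ Cfsg.IsBestOffenderOn 2 V A}, (A : Subgroup Γ))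
include hS3

/-- the block of a conjugate is the conjugate of the block -/
theorem EA_conj (S : Setup 2 V H Q) (M : MinOff 2 V H A) {k : Γ}
    (hkV : k ∈ Subgroup.normalizer (V : Set Γ)) (hkH : k ∈ Subgroup.normalizer (H : Set Γ)) :
    (cj[k] (⁅Q, A⁆ ⊔ A)) = ⁅Q, cj[k] A⁆ ⊔ cj[k] A := by
  have M' := minOff_conj M hkV hkH
  symm
  apply Subgroup.eq_of_le_of_card_ge
  · obtain ⟨B, -, -, hEB, x, hxQ, hB⟩ := M'.exists_tpair S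
    rw [hEB]
    apply sup_le
    · exact Subgroup.map_mono le_sup_right
    · rw [hB]
      have hHN : H ≤ Subgroup.normalizer ((cj[k] (⁅Q, A⁆ ⊔ A) : Subgroup Γ) : Set Γ) := by
        rw [Cfsg.Agent.Lib.Helper9.normalizer_map_conj]
        have h1 : (cj[k] H) = H := map_conj_eq_of_mem_normalizer hkH
        rw [← h1]
        exact Subgroup.map_mono (M.H_le_normalizer_EA hS3 S)
      have hx : x ∈ Subgroup.normalizer ((cj[k] (⁅Q, A⁆ ⊔ A) : Subgroup Γ) : Set Γ) :=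
        hHN (S.hQH hxQ)
      calc (cj[x] (cj[k] A)) ≤ cj[x] (cj[k] (⁅Q, A⁆ ⊔ A)) :=
            Subgroup.map_mono (Subgroup.map_mono le_sup_right)
        _ = cj[k] (⁅Q, A⁆ ⊔ A) := map_conj_eq_of_mem_normalizer hx
  · obtain ⟨e1⟩ := (M.iso S).2
    obtain ⟨e2⟩ := (M'.iso S).2
    rw [Cfsg.Agent.Lib.Helper9.card_map_conj, Nat.card_congr e1.toEquiv, Nat.card_congr e2.toEquiv]

/-- the commutator module of a conjugate block -/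
theorem W_conj (S : Setup 2 V H Q) (M : MinOff 2 V H A) {k : Γ}
    (hkV : k ∈ Subgroup.normalizer (V : Set Γ)) (hkH : k ∈ Subgroup.normalizer (H : Set Γ)) :
    ⁅V, ⁅Q, cj[k] A⁆ ⊔ cj[k] A⁆ = cj[k] ⁅V, ⁅Q, A⁆ ⊔ A⁆ := by
  rw [← EA_conj hS3 S M hkV hkH, commutator_map_conj_of_mem_normalizer hkV]

/-- the commutator module of a different block is centralized by the block -/
theorem W_le_fix_of_ne (S : Setup 2 V H Q) {A D : Subgroup Γ} (M : MinOff 2 V H A)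
    (MD : MinOff 2 V H D) (hne : ⁅Q, D⁆ ⊔ D ≠ ⁅Q, A⁆ ⊔ A) :
    ⁅V, ⁅Q, D⁆ ⊔ D⁆ ≤ V ⊓ Subgroup.centralizer ((⁅Q, A⁆ ⊔ A : Subgroup Γ) : Set Γ) :=
  le_trans (Subgroup.commutator_mono le_rfl (M.block_le_CW hS3 S MD hne))
    (M.commutator_V_CW hS3 S)

/-- case (a) is impossible: `k` fixes every block -/
theorem block_fixed (S : Setup 2 V H Q) (M : MinOff 2 V H A) {k : Γ}
    (hkV : k ∈ Subgroup.normalizer (V : Set Γ)) (hkH : k ∈ Subgroup.normalizer (H : Set Γ))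
    (hk3 : k ^ 3 = 1) {W : Subgroup Γ} (hW4 : Nat.card W = 4)
    (hkW : ∀ w ∈ W, k * w * k⁻¹ ∈ W) (hVk : ∀ v ∈ V, v⁻¹ * (k * v * k⁻¹) ∈ W) :
    (cj[k] (⁅Q, A⁆ ⊔ A)) = ⁅Q, A⁆ ⊔ A := by
  by_contra hne
  obtain ⟨A1, hA1⟩ : ∃ A1 : Subgroup Γ, A1 = cj[k] A := ⟨_, rfl⟩
  obtain ⟨A2, hA2⟩ : ∃ A2 : Subgroup Γ, A2 = cj[k] A1 := ⟨_, rfl⟩
  have M1 : MinOff 2 V H A1 := hA1 ▸ minOff_conj M hkV hkH
  have M2 : MinOff 2 V H A2 := hA2 ▸ minOff_conj M1 hkV hkH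
  have hE1 : ⁅Q, A1⁆ ⊔ A1 = cj[k] (⁅Q, A⁆ ⊔ A) := by
    rw [hA1]; exact (EA_conj hS3 S M hkV hkH).symm
  have hE2 : ⁅Q, A2⁆ ⊔ A2 = cj[k] (⁅Q, A1⁆ ⊔ A1) := by
    rw [hA2]; exact (EA_conj hS3 S M1 hkV hkH).symm
  have hW1 : ⁅V, ⁅Q, A1⁆ ⊔ A1⁆ = cj[k] ⁅V, ⁅Q, A⁆ ⊔ A⁆ := by
    rw [hA1]; exact W_conj hS3 S M hkV hkH
  have hW2 : ⁅V, ⁅Q, A2⁆ ⊔ A2⁆ = cj[k] ⁅V, ⁅Q, A1⁆ ⊔ A1⁆ := by
    rw [hA2]; exact W_conj hS3 S M1 hkV hkH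
  have hne1 : ⁅Q, A1⁆ ⊔ A1 ≠ ⁅Q, A⁆ ⊔ A := by rw [hE1]; exact hne
  have hne21 : ⁅Q, A1⁆ ⊔ A1 ≠ ⁅Q, A2⁆ ⊔ A2 := by
    intro h
    rw [hE2, hE1] at h
    exact hne (cj_injective k h).symm
  have hne20 : ⁅Q, A⁆ ⊔ A ≠ ⁅Q, A2⁆ ⊔ A2 := by
    intro h
    rw [hE2, hE1] at h
    apply hne
    have h' : (cj[k] (⁅Q, A⁆ ⊔ A)) = cj[k] (cj[k] (cj[k] (⁅Q, A⁆ ⊔ A))) := congrArg _ h
    rw [cj_cj_cj_of_pow_three hk3] at h'
    exact h'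
  have hK0 : ⁅V, ⁅Q, A1⁆ ⊔ A1⁆ ≤ V ⊓ Subgroup.centralizer ((⁅Q, A⁆ ⊔ A : Subgroup Γ) : Set Γ) :=
    W_le_fix_of_ne hS3 S M M1 hne1
  have hK2a : ⁅V, ⁅Q, A⁆ ⊔ A⁆ ≤ V ⊓ Subgroup.centralizer ((⁅Q, A2⁆ ⊔ A2 : Subgroup Γ) : Set Γ) :=
    W_le_fix_of_ne hS3 S M2 M hne20
  have hK2b : ⁅V, ⁅Q, A1⁆ ⊔ A1⁆ ≤ V ⊓ Subgroup.centralizer ((⁅Q, A2⁆ ⊔ A2 : Subgroup Γ) : Set Γ) :=
    W_le_fix_of_ne hS3 S M2 M1 hne21
  have hdisj0 := M.inf_fix S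
  have hdisj2 := M2.inf_fix S
  have hUV : ⁅V, ⁅Q, A⁆ ⊔ A⁆ ≤ V := M.W_le S
  have hcardU : Nat.card ↥(⁅V, ⁅Q, A⁆ ⊔ A⁆) = 4 := by rw [M.card_W S]; norm_num
  -- the commutator map on `U = [V, E_A]`
  obtain ⟨φ, hφ⟩ : ∃ φ : ↥(⁅V, ⁅Q, A⁆ ⊔ A⁆) → ↥W, ∀ u : ↥(⁅V, ⁅Q, A⁆ ⊔ A⁆),
      ((φ u : ↥W) : Γ) = (u : Γ)⁻¹ * (k * u * k⁻¹) :=
    ⟨fun u => ⟨(u : Γ)⁻¹ * (k * u * k⁻¹), hVk u (hUV u.2)⟩, fun _ => rfl⟩
  have hinj : Function.Injective φ := by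
    intro a b hab
    have h1 : (a : Γ)⁻¹ * (k * a * k⁻¹) = (b : Γ)⁻¹ * (k * b * k⁻¹) := by
      rw [← hφ, ← hφ, hab]
    have h2 : k * ((b : Γ) * (a : Γ)⁻¹) * k⁻¹ = (b : Γ) * (a : Γ)⁻¹ := by
      calc k * ((b : Γ) * (a : Γ)⁻¹) * k⁻¹
          = (k * b * k⁻¹) * (k * a * k⁻¹)⁻¹ := by group
        _ = (b : Γ) * ((b : Γ)⁻¹ * (k * b * k⁻¹)) * (k * a * k⁻¹)⁻¹ := by group
        _ = (b : Γ) * ((a : Γ)⁻¹ * (k * a * k⁻¹)) * (k * a * k⁻¹)⁻¹ := by rw [h1]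
        _ = (b : Γ) * (a : Γ)⁻¹ := by group
    have hz : (b : Γ) * (a : Γ)⁻¹ ∈ ⁅V, ⁅Q, A⁆ ⊔ A⁆ := Subgroup.mul_mem _ b.2 (Subgroup.inv_mem _ a.2)
    have hz1 : (b : Γ) * (a : Γ)⁻¹ ∈ ⁅V, ⁅Q, A1⁆ ⊔ A1⁆ := by
      rw [hW1, ← h2]
      exact conj_mem_cj k hz
    have hz0 : (b : Γ) * (a : Γ)⁻¹ ∈ (⊥ : Subgroup Γ) := by
      rw [← hdisj0]
      exact Subgroup.mem_inf.mpr ⟨hz, hK0 hz1⟩
    rw [Subgroup.mem_bot] at hz0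
    apply Subtype.ext
    have : (b : Γ) = ((b : Γ) * (a : Γ)⁻¹) * a := by group
    rw [this, hz0, one_mul]
  have hbij : Function.Bijective φ :=
    hinj.bijective_of_nat_card_le (by rw [hW4, hcardU])
  -- a nontrivial element of `U`
  have hUne : (⁅V, ⁅Q, A⁆ ⊔ A⁆ : Subgroup Γ) ≠ ⊥ := by
    intro h
    rw [h, Subgroup.card_bot] at hcardU
    omega
  obtain ⟨u₀, hu₀U, hu₀1⟩ : ∃ u₀ : Γ, u₀ ∈ ⁅V, ⁅Q, A⁆ ⊔ A⁆ ∧ u₀ ≠ 1 := by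
    obtain ⟨u, hu⟩ := (Subgroup.ne_bot_iff_exists_ne_one).mp hUne
    exact ⟨(u : Γ), u.2, fun h => hu (Subtype.ext h)⟩
  -- `k x k⁻¹` for `x = φ u₀` is again in the image
  have hx : k * ((u₀ : Γ)⁻¹ * (k * u₀ * k⁻¹)) * k⁻¹ ∈ W := hkW _ (hVk u₀ (hUV hu₀U))
  obtain ⟨u₁, hu₁⟩ := hbij.2 ⟨_, hx⟩
  have h3 : (u₁ : Γ)⁻¹ * (k * u₁ * k⁻¹) = k * ((u₀ : Γ)⁻¹ * (k * u₀ * k⁻¹)) * k⁻¹ := by
    rw [← hφ, hu₁]
  have h4 : k * (k * u₀ * k⁻¹) * k⁻¹ = (k * u₀ * k⁻¹) * ((u₁ : Γ)⁻¹ * (k * u₁ * k⁻¹)) := by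
    rw [h3]; group
  have hm1 : k * u₀ * k⁻¹ ∈ ⁅V, ⁅Q, A1⁆ ⊔ A1⁆ := by rw [hW1]; exact conj_mem_cj k hu₀U
  have hm2 : k * (k * u₀ * k⁻¹) * k⁻¹ ∈ ⁅V, ⁅Q, A2⁆ ⊔ A2⁆ := by rw [hW2]; exact conj_mem_cj k hm1
  have hm3 : k * (u₁ : Γ) * k⁻¹ ∈ ⁅V, ⁅Q, A1⁆ ⊔ A1⁆ := by rw [hW1]; exact conj_mem_cj k u₁.2
  have hm4 : k * (k * u₀ * k⁻¹) * k⁻¹ ∈
      V ⊓ Subgroup.centralizer ((⁅Q, A2⁆ ⊔ A2 : Subgroup Γ) : Set Γ) := by
    rw [h4]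
    exact Subgroup.mul_mem _ (hK2b hm1)
      (Subgroup.mul_mem _ (Subgroup.inv_mem _ (hK2a u₁.2)) (hK2b hm3))
  have hm5 : k * (k * u₀ * k⁻¹) * k⁻¹ ∈ (⊥ : Subgroup Γ) := by
    rw [← hdisj2]
    exact Subgroup.mem_inf.mpr ⟨hm2, hm4⟩
  rw [Subgroup.mem_bot] at hm5
  apply hu₀1
  have : u₀ = k⁻¹ * (k⁻¹ * (k * (k * u₀ * k⁻¹) * k⁻¹) * k) * k := by group
  rw [this, hm5]
  group

/-- **the four-group `[V, k]` is `H`-invariant** -/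
theorem H_le_normalizer_of_three (S : Setup 2 V H Q) {k : Γ}
    (hkV : k ∈ Subgroup.normalizer (V : Set Γ)) (hkH : k ∈ Subgroup.normalizer (H : Set Γ))
    (hk3 : k ^ 3 = 1) {W : Subgroup Γ} (hWV : W ≤ V) (hW4 : Nat.card W = 4)
    (hkW : ∀ w ∈ W, k * w * k⁻¹ ∈ W) (hfix : ∀ w ∈ W, k * w * k⁻¹ = w → w = 1)
    (hVk : ∀ v ∈ V, v⁻¹ * (k * v * k⁻¹) ∈ W) :
    H ≤ Subgroup.normalizer (W : Set Γ) := by
  by_cases hb : ∃ A : Subgroup Γ, MinOff 2 V H A ∧ ⁅V, ⁅Q, A⁆ ⊔ A⁆ = W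
  · obtain ⟨A, M, hA⟩ := hb
    rw [← hA]
    exact M.H_le_normalizer_W hS3 S
  · have hcomm : ∀ D : Subgroup Γ, MinOff 2 V H D →
        D ≤ Subgroup.centralizer ({k} : Set Γ) := by
      intro D M
      have hE := block_fixed hS3 S M hkV hkH hk3 hW4 hkW hVk
      have hWD : (cj[k] ⁅V, ⁅Q, D⁆ ⊔ D⁆) = ⁅V, ⁅Q, D⁆ ⊔ D⁆ := by
        rw [← commutator_map_conj_of_mem_normalizer hkV, hE]
      have hkWD : ∀ w ∈ ⁅V, ⁅Q, D⁆ ⊔ D⁆, k * w * k⁻¹ ∈ ⁅V, ⁅Q, D⁆ ⊔ D⁆ := by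
        intro w hw
        rw [← hWD]
        exact conj_mem_cj k hw
      have hcent : ∀ w ∈ ⁅V, ⁅Q, D⁆ ⊔ D⁆, k * w * k⁻¹ = w := by
        by_contra hcon
        push Not at hcon
        obtain ⟨w, hw, hwne⟩ := hcon
        apply hb
        refine ⟨D, M, ?_⟩
        have hc1 : w⁻¹ * (k * w * k⁻¹) ∈ W := hVk w (M.W_le S hw)
        have hc2 : w⁻¹ * (k * w * k⁻¹) ∈ ⁅V, ⁅Q, D⁆ ⊔ D⁆ :=
          Subgroup.mul_mem _ (Subgroup.inv_mem _ hw) (hkWD w hw)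
        have hcne : w⁻¹ * (k * w * k⁻¹) ≠ 1 := by
          intro h
          apply hwne
          have : k * w * k⁻¹ = w * (w⁻¹ * (k * w * k⁻¹)) := by group
          rw [this, h, mul_one]
        have hcC : w⁻¹ * (k * w * k⁻¹) ∈ W ⊓ ⁅V, ⁅Q, D⁆ ⊔ D⁆ := Subgroup.mem_inf.mpr ⟨hc1, hc2⟩
        have hCeq : W ⊓ ⁅V, ⁅Q, D⁆ ⊔ D⁆ = W := by
          by_contra hlt
          have hCne : W ⊓ ⁅V, ⁅Q, D⁆ ⊔ D⁆ ≠ ⊥ := by
            intro h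
            rw [h, Subgroup.mem_bot] at hcC
            exact hcne hcC
          have h2 := card_eq_two_of_lt_of_ne_bot hW4 inf_le_left hCne hlt
          have hkc : k * (w⁻¹ * (k * w * k⁻¹)) * k⁻¹ ∈ W ⊓ ⁅V, ⁅Q, D⁆ ⊔ D⁆ :=
            Subgroup.mem_inf.mpr ⟨hkW _ hc1, hkWD _ hc2⟩
          have hkc1 : k * (w⁻¹ * (k * w * k⁻¹)) * k⁻¹ ≠ 1 := by
            intro h
            apply hcne
            have : w⁻¹ * (k * w * k⁻¹) = k⁻¹ * (k * (w⁻¹ * (k * w * k⁻¹)) * k⁻¹) * k := by group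
            rw [this, h]
            group
          have h3 := eq_of_card_two h2 hcC hkc hcne hkc1
          exact hcne (hfix _ hc1 h3)
        have hle : W ≤ ⁅V, ⁅Q, D⁆ ⊔ D⁆ := inf_eq_left.mp hCeq
        exact (Subgroup.eq_of_le_of_card_ge hle (by rw [M.card_W S, hW4]; norm_num)).symm
      intro d hd
      have hdE : d ∈ ⁅Q, D⁆ ⊔ D := (le_sup_right : D ≤ ⁅Q, D⁆ ⊔ D) hd
      have h1 : k * d * k⁻¹ ∈ ⁅Q, D⁆ ⊔ D := by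
        rw [← hE]
        exact conj_mem_cj k hdE
      have hdN : d ∈ Subgroup.normalizer ((⁅V, ⁅Q, D⁆ ⊔ D⁆ : Subgroup Γ) : Set Γ) :=
        M.H_le_normalizer_W hS3 S (M.hAH hd)
      have h2 : k * d * k⁻¹ * d⁻¹ ∈ (⁅Q, D⁆ ⊔ D) ⊓
          Subgroup.centralizer ((⁅V, ⁅Q, D⁆ ⊔ D⁆ : Subgroup Γ) : Set Γ) := by
        refine Subgroup.mem_inf.mpr ⟨Subgroup.mul_mem _ h1 (Subgroup.inv_mem _ hdE), ?_⟩
        rw [Subgroup.mem_centralizer_iff]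
        intro w hw
        have hw' : d⁻¹ * w * d ∈ ⁅V, ⁅Q, D⁆ ⊔ D⁆ := by
          have := (Subgroup.mem_normalizer_iff.mp (Subgroup.inv_mem _ hdN) w).mp hw
          simpa using this
        have e1 := hcent _ hw'
        have e2 := hcent _ hw
        have e1' : k⁻¹ * (d⁻¹ * w * d) * k = d⁻¹ * w * d := by
          calc k⁻¹ * (d⁻¹ * w * d) * k = k⁻¹ * (k * (d⁻¹ * w * d) * k⁻¹) * k := by rw [e1]
            _ = d⁻¹ * w * d := by group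
        have e3 : (k * d * k⁻¹ * d⁻¹) * w * (k * d * k⁻¹ * d⁻¹)⁻¹ = w := by
          calc (k * d * k⁻¹ * d⁻¹) * w * (k * d * k⁻¹ * d⁻¹)⁻¹
              = k * d * (k⁻¹ * (d⁻¹ * w * d) * k) * d⁻¹ * k⁻¹ := by group
            _ = k * d * (d⁻¹ * w * d) * d⁻¹ * k⁻¹ := by rw [e1']
            _ = k * w * k⁻¹ := by group
            _ = w := e2
        calc w * (k * d * k⁻¹ * d⁻¹)
            = ((k * d * k⁻¹ * d⁻¹) * w * (k * d * k⁻¹ * d⁻¹)⁻¹) * (k * d * k⁻¹ * d⁻¹) := by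
              rw [e3]
          _ = (k * d * k⁻¹ * d⁻¹) * w := by group
      have h3 : k * d * k⁻¹ * d⁻¹ = 1 := by
        rw [← Subgroup.mem_bot, ← M.faithful S]
        exact h2
      rw [Subgroup.mem_centralizer_iff]
      intro x hx
      rw [Set.mem_singleton_iff] at hx
      subst hx
      calc x * d = (x * d * x⁻¹ * d⁻¹) * d * x := by group
        _ = d * x := by rw [h3, one_mul]
    have hHk : H ≤ Subgroup.centralizer ({k} : Set Γ) := le_of_minOff S hS3 hcomm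
    have key : ∀ h ∈ H, ∀ w ∈ W, h * w * h⁻¹ ∈ W := by
      intro h hh w hw
      obtain ⟨w', hw', rfl⟩ := exists_comm_of_fpf hkW hfix w hw
      have hkh : k * h = h * k :=
        (Subgroup.mem_centralizer_iff.mp (hHk hh)) k (Set.mem_singleton k)
      have hv : h * w' * h⁻¹ ∈ V := (Subgroup.mem_normalizer_iff.mp (S.hHV hh) w').mp (hWV hw')
      have h5 := hVk _ hv
      have e : h * (w'⁻¹ * (k * w' * k⁻¹)) * h⁻¹ =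
          (h * w' * h⁻¹)⁻¹ * (k * (h * w' * h⁻¹) * k⁻¹) := by
        calc h * (w'⁻¹ * (k * w' * k⁻¹)) * h⁻¹
            = (h * w' * h⁻¹)⁻¹ * ((h * k) * w' * (h * k)⁻¹) := by group
          _ = (h * w' * h⁻¹)⁻¹ * ((k * h) * w' * (k * h)⁻¹) := by rw [hkh]
          _ = (h * w' * h⁻¹)⁻¹ * (k * (h * w' * h⁻¹) * k⁻¹) := by group
      rw [e]
      exact h5
    intro h hh
    rw [Subgroup.mem_normalizer_iff]
    intro x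
    constructor
    · exact key h hh x
    · intro hx
      have := key h⁻¹ (H.inv_mem hh) _ hx
      simpa [mul_assoc] using this

end gamma

end Cfsg.Agent.Lib.Helper8.JT
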