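import Mathlib
import Cfsg.Agent.Lib.Lead.Holo12
import Cfsg.Agent.Lib.Lead.Core
import Cfsg.Agent.Lib.Helper8.JT3

/-! Type-level core of S2945: in a finite `2`-solvable group `Y` with a normal elementary abelian
`2`-subgroup `V`, `O_2(Y / C_Y(V)) = 1`, and an element `g₀` acting on `V` with cube `1` whose
commutator `[V, g₀]` is a four-group `W` with `g₀` fixed-point-free, the Thompson subgroup `J(Y)`
normalizes `W`; and a criterion for `O_2(Y / C_Y(V)) = 1`. -/

set_option autoImplicit false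

namespace Cfsg.Agent.Lib.Helper8.JT

open Cfsg Cfsg.Agent.Lib.Lead.KS93 Cfsg.Agent.Lib.Lead.Holo
open scoped commutatorElement

universe u

section typelevel
variable {Y : Type u} [Group Y] [Finite Y] (V : Subgroup Y) [hVn : V.Normal]

local instance instFactTwoJT4 : Fact (Nat.Prime 2) := ⟨Nat.prime_two⟩

/-- the image in the holomorph of `V` of a subgroup `W` (meant for `W ≤ V`) -/
def imgW (W : Subgroup Y) : Subgroup (Hol V) := (W.subgroupOf V).map SemidirectProduct.inl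

omit [Finite Y] hVn in
theorem mem_imgW_iff {W : Subgroup Y} {γ : Hol V} :
    γ ∈ imgW V W ↔ ∃ v : ↥V, (v : Y) ∈ W ∧ SemidirectProduct.inl v = γ := by
  unfold imgW
  constructor
  · rintro ⟨v, hv, rfl⟩
    exact ⟨v, hv, rfl⟩
  · rintro ⟨v, hv, rfl⟩
    exact ⟨v, hv, rfl⟩

omit [Finite Y] hVn in
theorem imgW_le_VH (W : Subgroup Y) : imgW V W ≤ VH V := by
  rintro _ ⟨v, -, rfl⟩
  exact ⟨v, rfl⟩

omit [Finite Y] hVn in
theorem card_imgW {W : Subgroup Y} (hWV : W ≤ V) : Nat.card (imgW V W) = Nat.card W := by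
  unfold imgW
  rw [Subgroup.card_map_of_injective SemidirectProduct.inl_injective]
  exact Nat.card_congr (Subgroup.subgroupOfEquivOfLe hWV).toEquiv

omit [Finite Y] in
theorem psi_conj_inl' (y : Y) (v : ↥V) :
    psi V y * SemidirectProduct.inl v * (psi V y)⁻¹ =
      SemidirectProduct.inl (⟨y * (v : Y) * y⁻¹, hVn.conj_mem v v.2 y⟩ : ↥V) := by
  rw [psi_conj_inl]
  congr 1

/-- **`J(Y)` normalizes the four-group `[V, g₀]`** -/
theorem thompson_le_normalizer_of_fpf (hVea : IsElementaryAbelian 2 V) (hsep : IsPSolvable 2 Y)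
    (hC : pCore 2 (Y ⧸ Subgroup.centralizer (V : Set Y)) = ⊥)
    {W : Subgroup Y} (hWV : W ≤ V) (hW4 : Nat.card W = 4) {g₀ : Y}
    (hg3 : g₀ ^ 3 ∈ Subgroup.centralizer (V : Set Y))
    (hgW : ∀ w ∈ W, g₀ * w * g₀⁻¹ ∈ W) (hfix : ∀ w ∈ W, g₀ * w * g₀⁻¹ = w → w = 1)
    (hVg : ∀ v ∈ V, v⁻¹ * (g₀ * v * g₀⁻¹) ∈ W) :
    thompsonSubgroup 2 Y ≤ Subgroup.normalizer (W : Set Y) := by
  obtain ⟨H', Q', hH', St, hS3⟩ := exists_setup V hVea hsep hC
  obtain ⟨k, hk⟩ : ∃ k : Hol V, k = psi V g₀ := ⟨_, rfl⟩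
  have hkV : k ∈ Subgroup.normalizer ((VH V : Subgroup (Hol V)) : Set (Hol V)) :=
    le_normalizer_VH V ⊤ (Subgroup.mem_top _)
  have hkH : k ∈ Subgroup.normalizer ((H' : Subgroup (Hol V)) : Set (Hol V)) := by
    have hle : (psi V).range ≤ Subgroup.normalizer ((H' : Subgroup (Hol V)) : Set (Hol V)) := by
      apply Cfsg.Agent.Lib.Lead.Subnormalizer.le_normalizer_of_forall_conj_mem
      rintro _ ⟨x, rfl⟩ b hb
      rw [hH'] at hb ⊢
      obtain ⟨j, hj, rfl⟩ := hb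
      have : (thompsonSubgroup 2 Y).Normal := thompsonSubgroup_normal 2
      refine ⟨x * j * x⁻¹, Subgroup.Normal.conj_mem inferInstance j hj x, ?_⟩
      rw [map_mul, map_mul, map_inv]
    rw [hk]
    exact hle ⟨_, rfl⟩
  have hk3 : k ^ 3 = 1 := by
    rw [hk, ← map_pow, psi_eq_one_iff]
    exact hg3
  have hWimgV : imgW V W ≤ VH V := imgW_le_VH V W
  have hcard : Nat.card (imgW V W) = 4 := by rw [card_imgW V hWV, hW4]
  have hkW : ∀ w ∈ imgW V W, k * w * k⁻¹ ∈ imgW V W := by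
    intro w hw
    obtain ⟨v, hv, rfl⟩ := (mem_imgW_iff V).mp hw
    rw [hk, psi_conj_inl']
    exact (mem_imgW_iff V).mpr ⟨_, hgW _ hv, rfl⟩
  have hkfix : ∀ w ∈ imgW V W, k * w * k⁻¹ = w → w = 1 := by
    intro w hw hfx
    obtain ⟨v, hv, rfl⟩ := (mem_imgW_iff V).mp hw
    rw [hk, psi_conj_inl'] at hfx
    have h1 := SemidirectProduct.inl_injective hfx
    have h2 : g₀ * (v : Y) * g₀⁻¹ = v := congrArg Subtype.val h1
    have h3 := hfix v hv h2
    have h4 : v = 1 := Subtype.ext h3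
    rw [h4, map_one]
  have hVk : ∀ v ∈ VH V, v⁻¹ * (k * v * k⁻¹) ∈ imgW V W := by
    rintro _ ⟨v, rfl⟩
    rw [hk, psi_conj_inl']
    refine (mem_imgW_iff V).mpr ⟨v⁻¹ * ⟨g₀ * (v : Y) * g₀⁻¹, hVn.conj_mem v v.2 g₀⟩, hVg v v.2, ?_⟩
    rw [map_mul, map_inv]
  have hN := H_le_normalizer_of_three hS3 St hkV hkH hk3 hWimgV hcard hkW hkfix hVk
  have key : ∀ j ∈ thompsonSubgroup 2 Y, ∀ w ∈ W, j * w * j⁻¹ ∈ W := by
    intro j hj w hw
    have hpj : psi V j ∈ H' := by
      rw [hH']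
      exact Subgroup.mem_map_of_mem _ hj
    have h1 := hN hpj
    have hwV := hWV hw
    have h2 : SemidirectProduct.inl (⟨w, hwV⟩ : ↥V) ∈ imgW V W :=
      (mem_imgW_iff V).mpr ⟨⟨w, hwV⟩, hw, rfl⟩
    have h3 := (Subgroup.mem_normalizer_iff.mp h1 _).mp h2
    rw [psi_conj_inl'] at h3
    obtain ⟨v', hv', he⟩ := (mem_imgW_iff V).mp h3
    have h4 := SemidirectProduct.inl_injective he
    have h5 : (v' : Y) = j * w * j⁻¹ := congrArg Subtype.val h4
    rw [← h5]
    exact hv'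
  intro j hj
  rw [Subgroup.mem_normalizer_iff]
  intro x
  constructor
  · exact key j hj x
  · intro hx
    have := key j⁻¹ (Subgroup.inv_mem _ hj) _ hx
    simpa [mul_assoc] using this

/-- **`O_2(Y / C_Y(V)) = 1`** when `V` is the normal closure of a four-group `W = [V, K]` for a
subnormal subgroup `K` generated by elements of odd order acting on `V` as a group of order 3 -/
theorem pCore_quotient_eq_bot {K W : Subgroup Y} (hKsn : K.IsSubnormal)
    (hKgen : Subgroup.closure {g : Y | g ∈ K ∧ Odd (orderOf g)} = K)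
    (hWV : W ≤ V) (hW4 : Nat.card W = 4)
    (hK3 : ∀ k ∈ K, k ^ 3 ∈ Subgroup.centralizer (V : Set Y))
    (hVK : ∀ k ∈ K, ∀ v ∈ V, v⁻¹ * (k * v * k⁻¹) ∈ W)
    {g₀ : Y} (hg₀ : g₀ ∈ K) (hgW : ∀ w ∈ W, g₀ * w * g₀⁻¹ ∈ W)
    (hfix : ∀ w ∈ W, g₀ * w * g₀⁻¹ = w → w = 1)
    (hVW : V ≤ Subgroup.normalClosure (W : Set Y)) :
    pCore 2 (Y ⧸ Subgroup.centralizer (V : Set Y)) = ⊥ := by
  obtain ⟨C, hCdef⟩ : ∃ C : Subgroup Y, C = Subgroup.centralizer (V : Set Y) := ⟨_, rfl⟩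
  have hCn : C.Normal := by rw [hCdef]; infer_instance
  have hgoal : pCore 2 (Y ⧸ C) = ⊥ := by
    obtain ⟨R, hRdef⟩ : ∃ R : Subgroup (Y ⧸ C), R = pCore 2 (Y ⧸ C) := ⟨_, rfl⟩
    have hRn : R.Normal := by rw [hRdef]; exact Cfsg.Agent.Lib.Lead.pCore_normal 2
    have hR2 : ∀ q ∈ R, ∃ n : ℕ, q ^ 2 ^ n = 1 := by
      intro q hq
      have hp : IsPGroup 2 R := by rw [hRdef]; exact Cfsg.Agent.Lib.Lead.pCore_isPGroup 2
      obtain ⟨n, hn⟩ := hp ⟨q, hq⟩
      exact ⟨n, by simpa using congrArg Subtype.val hn⟩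
    -- the image of `K`
    have hKtsn : (K.map (QuotientGroup.mk' C)).IsSubnormal :=
      hKsn.map (QuotientGroup.mk'_surjective C)
    have hKtgen : Subgroup.closure {g : Y ⧸ C | g ∈ K.map (QuotientGroup.mk' C) ∧
        Odd (orderOf g)} = K.map (QuotientGroup.mk' C) := by
      apply le_antisymm
      · rw [Subgroup.closure_le]
        exact fun g hg => hg.1
      · conv_lhs => rw [← hKgen]
        rw [MonoidHom.map_closure]
        apply Subgroup.closure_mono
        rintro _ ⟨s, ⟨hsK, hsodd⟩, rfl⟩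
        exact ⟨Subgroup.mem_map_of_mem _ hsK, Odd.of_dvd_nat hsodd (orderOf_map_dvd _ s)⟩
    have hRN : R ≤ Subgroup.normalizer ((K.map (QuotientGroup.mk' C) : Subgroup (Y ⧸ C)) :
        Set (Y ⧸ C)) := le_normalizer_of_isSubnormal hR2 hKtsn hKtgen
    -- Step A: commutators of the preimage of `R` with `K` lie in `C`
    have hA : ∀ r : Y, QuotientGroup.mk' C r ∈ R → ∀ k ∈ K, r * k * r⁻¹ * k⁻¹ ∈ C := by
      intro r hr k hk
      have hkt : QuotientGroup.mk' C k ∈ K.map (QuotientGroup.mk' C) :=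
        Subgroup.mem_map_of_mem _ hk
      have h1 : QuotientGroup.mk' C (r * k * r⁻¹ * k⁻¹) ∈ R := by
        have e : QuotientGroup.mk' C (r * k * r⁻¹ * k⁻¹) = QuotientGroup.mk' C r *
            (QuotientGroup.mk' C k * (QuotientGroup.mk' C r)⁻¹ * (QuotientGroup.mk' C k)⁻¹) := by
          simp only [map_mul, map_inv]; group
        rw [e]
        exact R.mul_mem hr (hRn.conj_mem _ (R.inv_mem hr) _)
      have h2 : QuotientGroup.mk' C (r * k * r⁻¹ * k⁻¹) ∈ K.map (QuotientGroup.mk' C) := by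
        have e : QuotientGroup.mk' C (r * k * r⁻¹ * k⁻¹) = (QuotientGroup.mk' C r *
            QuotientGroup.mk' C k * (QuotientGroup.mk' C r)⁻¹) * (QuotientGroup.mk' C k)⁻¹ := by
          simp only [map_mul, map_inv]
        rw [e]
        exact Subgroup.mul_mem _ ((Subgroup.mem_normalizer_iff.mp (hRN hr) _).mp hkt)
          (Subgroup.inv_mem _ hkt)
      obtain ⟨k', hk', hk'e⟩ := h2
      have h3 : (QuotientGroup.mk' C (r * k * r⁻¹ * k⁻¹)) ^ 3 = 1 := by
        rw [← hk'e, ← map_pow]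
        have : k' ^ 3 ∈ C := by rw [hCdef]; exact hK3 k' hk'
        exact (QuotientGroup.eq_one_iff _).mpr this
      obtain ⟨n, hn⟩ := hR2 _ h1
      have hodd : Odd (orderOf (QuotientGroup.mk' C (r * k * r⁻¹ * k⁻¹))) :=
        Odd.of_dvd_nat (by decide : Odd 3) (orderOf_dvd_of_pow_eq_one h3)
      have h4 : QuotientGroup.mk' C (r * k * r⁻¹ * k⁻¹) ∈ (⊥ : Subgroup (Y ⧸ C)) :=
        mem_of_odd_of_pow_two_mem hodd (by rw [hn]; exact Subgroup.one_mem _)
      rw [Subgroup.mem_bot] at h4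
      exact (QuotientGroup.eq_one_iff _).mp h4
    -- main: the preimage of `R` centralizes `W`
    have hB : ∀ r : Y, QuotientGroup.mk' C r ∈ R → ∀ w ∈ W, r * w * r⁻¹ = w := by
      intro r hr
      obtain ⟨n, hn⟩ := hR2 _ hr
      have hrn : r ^ 2 ^ n ∈ C := by
        rw [← map_pow] at hn
        exact (QuotientGroup.eq_one_iff _).mp hn
      have hc : r * g₀ * r⁻¹ * g₀⁻¹ ∈ C := hA r hr g₀ hg₀
      have hcent : ∀ c ∈ C, ∀ v ∈ V, c * v * c⁻¹ = v := by
        intro c hc v hv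
        rw [hCdef, Subgroup.mem_centralizer_iff] at hc
        have := hc v hv
        calc c * v * c⁻¹ = (v * c) * c⁻¹ := by rw [this]
          _ = v := by group
      have hrW : ∀ w ∈ W, r * w * r⁻¹ ∈ W := by
        intro w hw
        obtain ⟨w', hw', rfl⟩ := exists_comm_of_fpf hgW hfix w hw
        have hv : r * w' * r⁻¹ ∈ V := hVn.conj_mem _ (hWV hw') r
        have hv' : g₀ * (r * w' * r⁻¹) * g₀⁻¹ ∈ V := hVn.conj_mem _ hv g₀
        have e : r * (w'⁻¹ * (g₀ * w' * g₀⁻¹)) * r⁻¹ =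
            (r * w' * r⁻¹)⁻¹ * ((r * g₀ * r⁻¹ * g₀⁻¹) * (g₀ * (r * w' * r⁻¹) * g₀⁻¹) *
              (r * g₀ * r⁻¹ * g₀⁻¹)⁻¹) := by group
        rw [e, hcent _ hc _ hv']
        exact hVK g₀ hg₀ _ hv
      exact centralizes_four hW4 hrW (fun w hw => hcent _ hrn w (hWV hw)) hgW hfix
        (fun w hw => hcent _ hc w (hWV hw))
    -- the preimage of `R` centralizes `V`
    have hD : ∀ r : Y, QuotientGroup.mk' C r ∈ R → r ∈ C := by
      intro r hr
      rw [hCdef, Subgroup.mem_centralizer_iff]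
      have hle : V ≤ Subgroup.centralizer ({r} : Set Y) := by
        refine hVW.trans ?_
        unfold Subgroup.normalClosure
        rw [Subgroup.closure_le]
        intro x hx
        obtain ⟨w, hw, hconj⟩ := Group.mem_conjugatesOfSet_iff.mp hx
        obtain ⟨y, rfl⟩ := isConj_iff.mp hconj
        have hr' : QuotientGroup.mk' C (y⁻¹ * r * y) ∈ R := by
          have e : QuotientGroup.mk' C (y⁻¹ * r * y) = (QuotientGroup.mk' C y)⁻¹ *
              QuotientGroup.mk' C r * (QuotientGroup.mk' C y)⁻¹⁻¹ := by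
            simp only [map_mul, map_inv, inv_inv]
          rw [e]
          exact hRn.conj_mem _ hr _
        have h1 := hB _ hr' w hw
        show y * w * y⁻¹ ∈ Subgroup.centralizer ({r} : Set Y)
        rw [Subgroup.mem_centralizer_iff]
        intro z hz
        rw [Set.mem_singleton_iff] at hz
        subst hz
        calc z * (y * w * y⁻¹) = y * ((y⁻¹ * z * y) * w * (y⁻¹ * z * y)⁻¹) * y⁻¹ * z := by group
          _ = y * w * y⁻¹ * z := by rw [h1]
      intro v hv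
      have := (Subgroup.mem_centralizer_iff.mp (hle hv)) r (Set.mem_singleton r)
      exact this.symm
    rw [← hRdef, eq_bot_iff]
    intro x hx
    obtain ⟨r, rfl⟩ := QuotientGroup.mk'_surjective C x
    rw [Subgroup.mem_bot]
    exact (QuotientGroup.eq_one_iff _).mpr (hD r hx)
  subst hCdef
  exact hgoal

end typelevel

end Cfsg.Agent.Lib.Helper8.JT
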