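import Mathlib
import Cfsg.Agent.Lib.Lead.Subnormalizer1
import Cfsg.Agent.Lib.Helper6.JL.JL5
import Cfsg.Agent.Lib.Helper8.JT2

/-! G-level structure for S2945: a subgroup `K` with the internal data of a `J(T)`-component
(`KData K`) that is subnormal in a subgroup `X`: `O_2(X)` normalizes `K`, centralizes `W_K`, and the
normal closure of `W_K` in `X` is an elementary abelian subgroup of `Ω₁(Z(O_2(X)))` on which `K`
acts with `[V, K] = W_K`. -/

set_option autoImplicit false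

namespace Cfsg.Agent.Lib.Helper8.JT

open Cfsg Cfsg.Agent.Lib.Helper6 Cfsg.Agent.Lib.Helper6.JC Cfsg.Agent.Lib.Helper6.JL
open Cfsg.Agent.Lib.Lead.Subnormalizer
open scoped commutatorElement

universe u

variable {G : Type u} [Group G]

/-- `K` has the internal data of a `J(T)`-component and is subnormal in `X` -/
structure SCtx (K X : Subgroup G) : Prop where
  hK : KData K
  hKX : K ≤ X
  hsn : (K.subgroupOf X).IsSubnormal

/-- cubes of elements of `K` lie in `O_2(K)` -/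
theorem cube_mem_pCoreOf {K : Subgroup G} (hK : KData K) {k : G} (hk : k ∈ K) :
    k ^ 3 ∈ pCoreOf 2 K := by
  have : ((pCoreOf 2 K).subgroupOf K).Normal :=
    Subgroup.normal_subgroupOf_of_le_normalizer (le_normalizer_pCoreOf 2 K)
  have h := Subgroup.pow_index_mem ((pCoreOf 2 K).subgroupOf K) ⟨k, hk⟩
  have hidx : ((pCoreOf 2 K).subgroupOf K).index = 3 := hK.idx
  rw [hidx] at h
  exact Subgroup.mem_subgroupOf.mp h

section
variable [Finite G] {K X : Subgroup G} (h : SCtx K X)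
include h

local instance instFactTwoJT5 : Fact (Nat.Prime 2) := ⟨Nat.prime_two⟩

omit [Finite G] in
/-- `K.subgroupOf X` is generated by its elements of odd order -/
theorem SCtx.gen' : Subgroup.closure {g : ↥X | g ∈ K.subgroupOf X ∧ Odd (orderOf g)} =
    K.subgroupOf X := by
  apply Subgroup.map_injective X.subtype_injective
  rw [Subgroup.map_subgroupOf_eq_of_le h.hKX, MonoidHom.map_closure]
  conv_rhs => rw [← h.hK.gen]
  congr 1
  ext g
  constructor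
  · rintro ⟨x, ⟨hxK, hxodd⟩, rfl⟩
    refine ⟨Subgroup.mem_subgroupOf.mp hxK, ?_⟩
    rw [Subgroup.coe_subtype, Subgroup.orderOf_coe]
    exact hxodd
  · rintro ⟨hgK, hgodd⟩
    refine ⟨⟨g, h.hKX hgK⟩, ⟨Subgroup.mem_subgroupOf.mpr hgK, ?_⟩, rfl⟩
    rw [← Subgroup.orderOf_coe]
    exact hgodd

omit [Finite G] in
/-- `O_2(X)` normalizes `K` -/
theorem SCtx.conj_mem_K {q : G} (hq : q ∈ pCoreOf 2 X) {k : G} (hk : k ∈ K) :
    q * k * q⁻¹ ∈ K := by
  have : (pCore 2 ↥X).Normal := Cfsg.Agent.Lib.Lead.pCore_normal 2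
  have hQ2 : ∀ x ∈ pCore 2 ↥X, ∃ n : ℕ, x ^ 2 ^ n = 1 := by
    intro x hx
    obtain ⟨n, hn⟩ := (Cfsg.Agent.Lib.Lead.pCore_isPGroup (G := ↥X) 2) ⟨x, hx⟩
    exact ⟨n, by simpa using congrArg Subtype.val hn⟩
  have hN := le_normalizer_of_isSubnormal hQ2 h.hsn h.gen'
  obtain ⟨q', hq', rfl⟩ := hq
  have h1 := (Subgroup.mem_normalizer_iff.mp (hN hq') ⟨k, h.hKX hk⟩).mp
    (Subgroup.mem_subgroupOf.mpr hk)
  exact Subgroup.mem_subgroupOf.mp h1

omit [Finite G] in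
theorem SCtx.pCoreOf_le_normalizer : pCoreOf 2 X ≤ Subgroup.normalizer (K : Set G) := by
  apply le_normalizer_of_forall_conj_mem
  intro q hq k hk
  exact h.conj_mem_K hq hk

/-- `O_2(K) ≤ O_2(X)` -/
theorem SCtx.pCoreOf_le_pCoreOf : pCoreOf 2 K ≤ pCoreOf 2 X := by
  rw [← subnormal_iff ((pCoreOf_le K).trans h.hKX) (pCoreOf_isPGroup 2 K)]
  have hle : (pCoreOf 2 K).subgroupOf X ≤ K.subgroupOf X := by
    intro x hx
    exact Subgroup.mem_subgroupOf.mpr (pCoreOf_le K (Subgroup.mem_subgroupOf.mp hx))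
  refine Subgroup.IsSubnormal.step _ _ hle h.hsn ?_
  rw [Subgroup.normal_subgroupOf_iff_le_normalizer hle]
  intro k hk
  rw [Subgroup.mem_normalizer_iff]
  intro x
  have hkN := le_normalizer_pCoreOf 2 K (Subgroup.mem_subgroupOf.mp hk)
  have := Subgroup.mem_normalizer_iff.mp hkN (x : G)
  simpa [Subgroup.mem_subgroupOf] using this

omit [Finite G] in
/-- `K ∩ O_2(X) ≤ O_2(K)` -/
theorem SCtx.mem_pCoreOf_of_mem {x : G} (hxK : x ∈ K) (hxQ : x ∈ pCoreOf 2 X) :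
    x ∈ pCoreOf 2 K :=
  pCoreOf_inf_le h.hKX (Subgroup.mem_inf.mpr ⟨hxQ, hxK⟩)

omit [Finite G] in
/-- `[O_2(X), K] ≤ O_2(K)` -/
theorem SCtx.comm_mem {q : G} (hq : q ∈ pCoreOf 2 X) {k : G} (hk : k ∈ K) :
    q * k * q⁻¹ * k⁻¹ ∈ pCoreOf 2 K := by
  apply h.mem_pCoreOf_of_mem
  · exact K.mul_mem (h.conj_mem_K hq hk) (K.inv_mem hk)
  · have hkN := le_normalizer_pCoreOf 2 X (h.hKX hk)
    have h1 : k * q⁻¹ * k⁻¹ ∈ pCoreOf 2 X :=
      (Subgroup.mem_normalizer_iff.mp hkN _).mp (Subgroup.inv_mem _ hq)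
    have e : q * k * q⁻¹ * k⁻¹ = q * (k * q⁻¹ * k⁻¹) := by group
    rw [e]
    exact Subgroup.mul_mem _ hq h1

/-- `O_2(X)` centralizes `W_K` -/
theorem SCtx.pCoreOf_centralizes {q : G} (hq : q ∈ pCoreOf 2 X) {w : G} (hw : w ∈ wOf K) :
    q * w * q⁻¹ = w := by
  obtain ⟨g, hg, hodd, hgQ⟩ := h.hK.exists_odd
  have hqN : q ∈ Subgroup.normalizer (K : Set G) := h.pCoreOf_le_normalizer hq
  have hgN : g ∈ Subgroup.normalizer (K : Set G) := Subgroup.le_normalizer hg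
  obtain ⟨n, hn⟩ := (pCoreOf_isPGroup 2 X) ⟨q, hq⟩
  have hn' : q ^ 2 ^ n = 1 := by simpa using congrArg Subtype.val hn
  refine centralizes_four h.hK.w4 (fun w hw => conj_mem_wOf hqN hw) (n := n) ?_
    (fun w hw => conj_mem_wOf hgN hw) (fun w hw hfix => h.hK.fixes_none hg hodd hgQ hw hfix) ?_ w hw
  · intro w _
    rw [hn']
    group
  · intro w hw
    have hc := h.comm_mem hq hg
    have := pCoreOf_comm_wOf hc hw
    calc q * g * q⁻¹ * g⁻¹ * w * (q * g * q⁻¹ * g⁻¹)⁻¹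
        = (w * (q * g * q⁻¹ * g⁻¹)) * (q * g * q⁻¹ * g⁻¹)⁻¹ := by rw [this]
      _ = w := by group

/-- `W_K ≤ Ω₁(Z(O_2(X)))` -/
theorem SCtx.wOf_le_omega : wOf K ≤ omegaCenterOf (pCoreOf 2 X) := by
  intro w hw
  apply mem_omegaCenterOf (h.pCoreOf_le_pCoreOf (wOf_le_pCoreOf K hw)) _ (h.hK.w2 w hw)
  rw [Subgroup.mem_centralizer_iff]
  intro q hq
  have := h.pCoreOf_centralizes hq hw
  calc q * w = (q * w * q⁻¹) * q := by group
    _ = w * q := by rw [this]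

end

/-- the normal closure of `W_K` in `X`, as a subgroup of `↥X` -/
def vX (K X : Subgroup G) : Subgroup ↥X :=
  Subgroup.normalClosure ((((wOf K).subgroupOf X : Subgroup ↥X)) : Set ↥X)

instance vX_normal (K X : Subgroup G) : (vX K X).Normal := Subgroup.normalClosure_normal

theorem wOf_le_vX (K X : Subgroup G) : (wOf K).subgroupOf X ≤ vX K X := Subgroup.le_normalClosure

section
variable [Finite G] {K X : Subgroup G} (h : SCtx K X)
include h

/-- the elements of `V_X` lie in `Ω₁(Z(O_2(X)))` -/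
theorem SCtx.vX_le {v : ↥X} (hv : v ∈ vX K X) : (v : G) ∈ omegaCenterOf (pCoreOf 2 X) := by
  have hXN : X ≤ Subgroup.normalizer ((omegaCenterOf (pCoreOf 2 X) : Subgroup G) : Set G) := by
    apply le_normalizer_of_forall_conj_mem
    intro x hx z hz
    exact conj_mem_omegaCenterOf (le_normalizer_pCoreOf 2 X hx) hz
  have : ((omegaCenterOf (pCoreOf 2 X)).subgroupOf X).Normal :=
    Subgroup.normal_subgroupOf_of_le_normalizer hXN
  have hle : vX K X ≤ (omegaCenterOf (pCoreOf 2 X)).subgroupOf X := by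
    apply Subgroup.normalClosure_le_normal
    intro w hw
    exact Subgroup.mem_subgroupOf.mpr (h.wOf_le_omega (Subgroup.mem_subgroupOf.mp hw))
  exact Subgroup.mem_subgroupOf.mp (hle hv)

theorem SCtx.vX_mem_pCoreOf {v : ↥X} (hv : v ∈ vX K X) : (v : G) ∈ pCoreOf 2 X :=
  (Subgroup.mem_inf.mp (omegaCenterOf_le _ (h.vX_le hv))).1

theorem SCtx.vX_comm {v : ↥X} (hv : v ∈ vX K X) {q : G} (hq : q ∈ pCoreOf 2 X) :
    q * (v : G) = (v : G) * q :=
  (Subgroup.mem_centralizer_iff.mp (Subgroup.mem_inf.mp (omegaCenterOf_le _ (h.vX_le hv))).2) q hq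

theorem SCtx.vX_sq {v : ↥X} (hv : v ∈ vX K X) : (v : G) * (v : G) = 1 :=
  mul_self_of_mem_omegaCenterOf (h.vX_le hv)

/-- `V_X` is elementary abelian -/
theorem SCtx.vX_isEA : IsElementaryAbelian 2 (vX K X) := by
  refine ⟨⟨⟨fun a b => ?_⟩⟩, ?_⟩
  · apply Subtype.ext
    apply Subtype.ext
    show ((a : ↥X) : G) * ((b : ↥X) : G) = ((b : ↥X) : G) * ((a : ↥X) : G)
    exact h.vX_comm b.2 (h.vX_mem_pCoreOf a.2)
  · intro a ha
    apply Subtype.ext
    rw [pow_two]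
    exact h.vX_sq ha

/-- cubes of elements of `K` centralize `V_X` -/
theorem SCtx.cube_mem_centralizer {k : ↥X} (hk : k ∈ K.subgroupOf X) :
    k ^ 3 ∈ Subgroup.centralizer ((vX K X : Subgroup ↥X) : Set ↥X) := by
  rw [Subgroup.mem_centralizer_iff]
  intro v hv
  apply Subtype.ext
  have h3 : (k : G) ^ 3 ∈ pCoreOf 2 X :=
    h.pCoreOf_le_pCoreOf (cube_mem_pCoreOf h.hK (Subgroup.mem_subgroupOf.mp hk))
  have := h.vX_comm hv h3
  simpa using this.symm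

/-- `[V_X, K] ≤ W_K` -/
theorem SCtx.comm_mem_wOf {k : G} (hk : k ∈ K) {v : ↥X} (hv : v ∈ vX K X) :
    (v : G)⁻¹ * (k * (v : G) * k⁻¹) ∈ wOf K := by
  obtain ⟨u, hu⟩ : ∃ u : G, u = (v : G)⁻¹ * (k * (v : G) * k⁻¹) := ⟨_, rfl⟩
  rw [← hu]
  have hkX : k ∈ X := h.hKX hk
  -- `u` as an element of `V_X`
  have huX : u ∈ X := by
    rw [hu]
    exact X.mul_mem (X.inv_mem v.2) (X.mul_mem (X.mul_mem hkX v.2) (X.inv_mem hkX))
  have huV : (⟨u, huX⟩ : ↥X) ∈ vX K X := by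
    have h1 : v⁻¹ * ((⟨k, hkX⟩ : ↥X) * v * (⟨k, hkX⟩ : ↥X)⁻¹) ∈ vX K X :=
      Subgroup.mul_mem _ (Subgroup.inv_mem _ hv)
        ((vX_normal K X).conj_mem v hv ⟨k, hkX⟩)
    have e : (⟨u, huX⟩ : ↥X) = v⁻¹ * ((⟨k, hkX⟩ : ↥X) * v * (⟨k, hkX⟩ : ↥X)⁻¹) := by
      apply Subtype.ext
      exact hu
    rw [e]
    exact h1
  have huQX : u ∈ pCoreOf 2 X := h.vX_mem_pCoreOf huV
  have hucomm : ∀ q ∈ pCoreOf 2 X, q * u = u * q := fun q hq => h.vX_comm huV hq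
  have husq : u * u = 1 := h.vX_sq huV
  have hvQX : (v : G) ∈ pCoreOf 2 X := h.vX_mem_pCoreOf hv
  -- `u ∈ K`
  have huK : u ∈ K := by
    have h1 : (v : G)⁻¹ * k * ((v : G)⁻¹)⁻¹ ∈ K :=
      h.conj_mem_K (Subgroup.inv_mem _ hvQX) hk
    have e : u = ((v : G)⁻¹ * k * ((v : G)⁻¹)⁻¹) * k⁻¹ := by rw [hu]; group
    rw [e]
    exact K.mul_mem h1 (K.inv_mem hk)
  have huQK : u ∈ pCoreOf 2 K := h.mem_pCoreOf_of_mem huK huQX
  have huZ : u ∈ omegaCenterOf (pCoreOf 2 K) := by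
    apply mem_omegaCenterOf huQK _ husq
    rw [Subgroup.mem_centralizer_iff]
    intro q hq
    exact hucomm q (h.pCoreOf_le_pCoreOf hq)
  have hkN : k ∈ Subgroup.normalizer ((pCoreOf 2 K : Subgroup G) : Set G) :=
    le_normalizer_pCoreOf 2 K hk
  have hzZ : k * (k * u * k⁻¹) * k⁻¹ ∈ omegaCenterOf (pCoreOf 2 K) :=
    conj_mem_omegaCenterOf hkN (conj_mem_omegaCenterOf hkN huZ)
  have hcomm : ⁅k * (k * u * k⁻¹) * k⁻¹, k⁆ ∈ wOf K :=
    Subgroup.commutator_mem_commutator hzZ hk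
  have hk3 : k ^ 3 ∈ pCoreOf 2 X := h.pCoreOf_le_pCoreOf (cube_mem_pCoreOf h.hK hk)
  rw [pow_three'] at hk3
  have hcv : k * k * k * (v : G) * (k * k * k)⁻¹ = v := by
    rw [h.vX_comm hv hk3]; group
  have hcu : k * k * k * u * (k * k * k)⁻¹ = u := by
    rw [hucomm _ hk3]; group
  have hR : u * (k * u * k⁻¹) * (k * (k * u * k⁻¹) * k⁻¹) = 1 := by
    have e : u * (k * u * k⁻¹) * (k * (k * u * k⁻¹) * k⁻¹) =
        (v : G)⁻¹ * (k * k * k * (v : G) * (k * k * k)⁻¹) := by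
      rw [hu]; group
    rw [e, hcv]
    group
  have hz : ⁅k * (k * u * k⁻¹) * k⁻¹, k⁆ =
      (k * (k * u * k⁻¹) * k⁻¹) * (k * k * k * u * (k * k * k)⁻¹)⁻¹ := by
    rw [commutatorElement_def]; group
  rw [hz, hcu, eq_inv_of_mul_eq_one_right hR] at hcomm
  have e2 : (u * (k * u * k⁻¹))⁻¹ * u⁻¹ = (k * u * k⁻¹)⁻¹ * (u * u)⁻¹ := by group
  rw [e2, husq, inv_one, mul_one] at hcomm
  have h5 : k * u * k⁻¹ ∈ wOf K := by
    have := Subgroup.inv_mem _ hcomm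
    rwa [inv_inv] at this
  have hkinvN : k⁻¹ ∈ Subgroup.normalizer (K : Set G) := Subgroup.le_normalizer (K.inv_mem hk)
  have h6 := conj_mem_wOf hkinvN h5
  have e3 : k⁻¹ * (k * u * k⁻¹) * k⁻¹⁻¹ = u := by group
  rw [e3] at h6
  exact h6

end

end Cfsg.Agent.Lib.Helper8.JT
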