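import Mathlib
import Cfsg.Agent.Lib.Lead.SolvPSolv
import Cfsg.Agent.Lib.Helper6.JL.JL17
import Cfsg.Agent.Lib.Helper8.JT1
import Cfsg.Agent.Lib.Helper8.JT4
import Cfsg.Agent.Lib.Helper8.JT5

/-! S2945: if `K ≤ L ∈ 𝓛(T)` has the internal data of a `J`-component and is subnormal in
`⟨K, J(T)⟩`, then `J(T)` normalizes `W_K`; consequently a member of `jComponentsZero (T^g)` with these
properties is a `J(T)`-component. -/

set_option autoImplicit false

namespace Cfsg.Agent.Lib.Helper8.JT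

open Cfsg Cfsg.Agent.Lib.Helper9 Cfsg.Agent.Lib.Helper6 Cfsg.Agent.Lib.Helper6.JC
open Cfsg.Agent.Lib.Helper6.JL
open scoped commutatorElement

universe u

variable {G : Type u} [Group G] [Finite G]

local instance instFactTwoJT6 : Fact (Nat.Prime 2) := ⟨Nat.prime_two⟩

/-- maximal elementary abelian subgroups of `T` stay maximal in any `X ≤ L` containing them -/
theorem maxEA_subgroupOf_of_le {T L X A : Subgroup G} (hL : LCtx T L) (hXL : X ≤ L)
    (hA : A ∈ maxEA 2 T) (hAX : A ≤ X) :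
    A.subgroupOf X ∈ maxElementaryAbelianSubgroups 2 ↥X := by
  refine ⟨isElementaryAbelian_subgroupOf hA.2.1 X, fun B hB => ?_⟩
  have hB₀ : IsElementaryAbelian 2 (B.map X.subtype) := isElementaryAbelian_map hB _
  have hB₀L : B.map X.subtype ≤ L := (Subgroup.map_subtype_le B).trans hXL
  have hAL := hL.maxEA_subgroupOf hA
  have h1 := hAL.2 ((B.map X.subtype).subgroupOf L) (isElementaryAbelian_subgroupOf hB₀ L)
  rw [card_subgroupOf_of_le hB₀L, card_map_subtype,
    card_subgroupOf_of_le (hA.1.trans hL.hTL)] at h1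
  rw [card_subgroupOf_of_le hAX]
  exact h1

/-- **`J(T)` normalizes `W_K`** -/
theorem thompson_le_normalizer_wOf {T L K : Subgroup G} (hL : LCtx T L) (hK : KData K)
    (hKL : K ≤ L) (hsn : (K.subgroupOf (K ⊔ thompsonSubgroupOf 2 T)).IsSubnormal) :
    thompsonSubgroupOf 2 T ≤ Subgroup.normalizer ((wOf K : Subgroup G) : Set G) := by
  obtain ⟨X, hX⟩ : ∃ X : Subgroup G, X = K ⊔ thompsonSubgroupOf 2 T := ⟨_, rfl⟩
  rw [← hX] at hsn
  have hJX : thompsonSubgroupOf 2 T ≤ X := by rw [hX]; exact le_sup_right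
  have h : SCtx K X := ⟨hK, by rw [hX]; exact le_sup_left, hsn⟩
  have hXL : X ≤ L := by
    rw [hX]
    exact sup_le hKL ((thompsonSubgroupOf_le 2 T).trans hL.hTL)
  have := hL.hsolv
  have hsolv : Group.IsSolvable ↥X :=
    Group.isSolvable_of_isSolvable_injective (Subgroup.inclusion_injective hXL)
  have hsep : IsPSolvable 2 ↥X := Cfsg.Agent.Lib.Lead.SolvPSolv.isPSolvable_of_isSolvable' 2 ↥X
  obtain ⟨g, hg, hodd, hgQ⟩ := hK.exists_odd
  have hgX : g ∈ X := h.hKX hg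
  have hWX : wOf K ≤ X := ((wOf_le_pCoreOf K).trans (pCoreOf_le K)).trans h.hKX
  have hW'V : (wOf K).subgroupOf X ≤ vX K X := wOf_le_vX K X
  have hW'4 : Nat.card ((wOf K).subgroupOf X) = 4 := by
    rw [card_subgroupOf_of_le hWX]; exact hK.w4
  have hgN : g ∈ Subgroup.normalizer (K : Set G) := Subgroup.le_normalizer hg
  have hgW : ∀ w ∈ (wOf K).subgroupOf X,
      (⟨g, hgX⟩ : ↥X) * w * (⟨g, hgX⟩ : ↥X)⁻¹ ∈ (wOf K).subgroupOf X := by
    intro w hw
    exact Subgroup.mem_subgroupOf.mpr (conj_mem_wOf hgN (Subgroup.mem_subgroupOf.mp hw))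
  have hfix : ∀ w ∈ (wOf K).subgroupOf X,
      (⟨g, hgX⟩ : ↥X) * w * (⟨g, hgX⟩ : ↥X)⁻¹ = w → w = 1 := by
    intro w hw hf
    apply Subtype.ext
    exact hK.fixes_none hg hodd hgQ (Subgroup.mem_subgroupOf.mp hw) (congrArg Subtype.val hf)
  have hVK : ∀ k ∈ K.subgroupOf X, ∀ v ∈ vX K X,
      v⁻¹ * (k * v * k⁻¹) ∈ (wOf K).subgroupOf X := by
    intro k hk v hv
    exact Subgroup.mem_subgroupOf.mpr (h.comm_mem_wOf (Subgroup.mem_subgroupOf.mp hk) hv)
  have hgK' : (⟨g, hgX⟩ : ↥X) ∈ K.subgroupOf X := Subgroup.mem_subgroupOf.mpr hg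
  have hC := pCore_quotient_eq_bot (vX K X) h.hsn h.gen' hW'V hW'4
    (fun k hk => h.cube_mem_centralizer hk) hVK hgK' hgW hfix le_rfl
  have hY := thompson_le_normalizer_of_fpf (vX K X) h.vX_isEA hsep hC hW'V hW'4
    (h.cube_mem_centralizer hgK') hgW hfix (hVK _ hgK')
  -- back to `G`
  have key : ∀ a ∈ thompsonSubgroupOf 2 T, ∀ w ∈ wOf K, a * w * a⁻¹ ∈ wOf K := by
    intro a ha
    rw [thompsonSubgroupOf_eq] at ha
    have hle : sSup (maxEA 2 T) ≤ (Subgroup.normalizer (((wOf K).subgroupOf X : Subgroup ↥X) :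
        Set ↥X)).map X.subtype := by
      apply sSup_le
      intro A hA
      have hAX : A ≤ X := (le_thompson_of_mem_maxEA hA).trans hJX
      have hAmax := maxEA_subgroupOf_of_le hL hXL hA hAX
      have h1 : A.subgroupOf X ≤ thompsonSubgroup 2 ↥X := le_sSup hAmax
      intro x hx
      exact ⟨⟨x, hAX hx⟩, hY (h1 (Subgroup.mem_subgroupOf.mpr hx)), rfl⟩
    obtain ⟨a', ha', rfl⟩ := hle ha
    intro w hw
    have h2 := (Subgroup.mem_normalizer_iff.mp ha' ⟨w, hWX hw⟩).mp (Subgroup.mem_subgroupOf.mpr hw)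
    exact Subgroup.mem_subgroupOf.mp h2
  intro a ha
  rw [Subgroup.mem_normalizer_iff]
  intro x
  constructor
  · exact key a ha x
  · intro hx
    have := key a⁻¹ (Subgroup.inv_mem _ ha) _ hx
    simpa [mul_assoc] using this

/-- **S2945** -/
theorem isJComponent_of_subnormal (hL2 : IsCharacteristicTwoType G)
    (hN : ∀ N : Subgroup G, IsTwoLocal N → Group.IsSolvable ↥N)
    (hZ : ∀ S : Sylow 2 G, Subgroup.centralizer (omegaCenterOf (S : Subgroup G) : Set G) ≤
      Subgroup.normalizer ((S : Subgroup G) : Set G))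
    {T : Subgroup G} (hT : IsPGroup 2 T) (hT1 : T ≠ ⊥) {L : Subgroup G} (hLT : L ∈ jOvergroups T)
    {K : Subgroup G} (hKL : K ≤ L)
    (hKsn : (K.subgroupOf (K ⊔ thompsonSubgroupOf 2 T)).IsSubnormal) (g : G)
    (hKg : K ∈ jComponentsZero (T.map (MulAut.conj g).toMonoidHom)) : IsJComponent T K := by
  have hLc : LCtx T L := lctx_of_mem_jOvergroups hN hZ hT1 hLT
  have hKJ := hKg.1
  have hKD : KData K := ⟨hKJ.1, hKJ.2.2.1, hKJ.2.2.2.2.1, hKJ.2.2.2.2.2⟩
  have hJW := thompson_le_normalizer_wOf hLc hKD hKL hKsn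
  have hT' : IsPGroup 2 (T.map (MulAut.conj g).toMonoidHom) := hT.map _
  have hA := normalizer_eq_of_mem_jComponentsZero hL2 hN hZ hT' hKg
  have h1 := isJComponent_conj hT' hKg hA g⁻¹
    (by rw [JT.map_conj_inv_map_conj]; exact hJW)
  rwa [JT.map_conj_inv_map_conj] at h1

end Cfsg.Agent.Lib.Helper8.JT
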