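import Mathlib
import Cfsg.Agent.Lib.Helper6.JL.JL9
import Cfsg.Agent.Lib.Helper8.JT3

/-! (W3) for S2948/S2949: in the failure-of-factorization set-up two minimal offenders inside a
common `2`-subgroup commute; hence the images of the best offenders inside a `2`-subgroup generate
an abelian group, and for `LCtx T L` the Thompson subgroup `J(T)` is abelian modulo `C_L(V)`. -/

set_option autoImplicit false

namespace Cfsg.Agent.Lib.Helper8.JT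

open Cfsg Cfsg.Agent.Lib.Lead.KS93 Cfsg.Agent.Lib.Lead Cfsg.Agent.Lib.Helper6
open scoped commutatorElement

section gamma
variable {Γ : Type*} [Group Γ] [Finite Γ] {V H Q : Subgroup Γ}

local instance instFactTwoJT7 : Fact (Nat.Prime 2) := ⟨Nat.prime_two⟩

variable (hS3 : H = ⨆ A : {A : Subgroup Γ // A ≤ H ∧ Cfsg.IsBestOffenderOn 2 V A}, (A : Subgroup Γ))
include hS3

omit hS3 in
/-- two minimal offenders inside a common `2`-subgroup with the same block coincide -/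
theorem minOff_eq_of_block_eq (S : Setup 2 V H Q) {P D₁ D₂ : Subgroup Γ} (hP : IsPGroup 2 P)
    (M₁ : MinOff 2 V H D₁) (M₂ : MinOff 2 V H D₂) (h₁ : D₁ ≤ P) (h₂ : D₂ ≤ P)
    (hE : ⁅Q, D₂⁆ ⊔ D₂ = ⁅Q, D₁⁆ ⊔ D₁) : D₁ = D₂ := by
  -- `P ∩ E` is a 2-subgroup of `E ≅ SL(2,2)`, of order 6
  obtain ⟨e⟩ := (M₁.iso S).2
  have hcardE : Nat.card ↥(⁅Q, D₁⁆ ⊔ D₁) = 6 := by
    rw [Nat.card_congr e.toEquiv, Nat.card_eq_fintype_card]
    decide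
  have hPE2 : IsPGroup 2 ↥(P ⊓ (⁅Q, D₁⁆ ⊔ D₁)) := hP.to_le inf_le_left
  obtain ⟨n, hn⟩ := IsPGroup.iff_card.mp hPE2
  have hdvd : Nat.card ↥(P ⊓ (⁅Q, D₁⁆ ⊔ D₁)) ∣ 6 := by
    rw [← hcardE]
    exact Subgroup.card_dvd_of_le inf_le_right
  have hle2 : Nat.card ↥(P ⊓ (⁅Q, D₁⁆ ⊔ D₁)) ≤ 2 := by
    rw [hn] at hdvd ⊢
    rcases n with _ | _ | n
    · norm_num
    · norm_num
    · exfalso
      have h4 : 4 ∣ 6 := by
        refine Dvd.dvd.trans ?_ hdvd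
        exact ⟨2 ^ n, by ring⟩
      omega
  have hD₁ : D₁ ≤ P ⊓ (⁅Q, D₁⁆ ⊔ D₁) := le_inf h₁ le_sup_right
  have hD₂ : D₂ ≤ P ⊓ (⁅Q, D₁⁆ ⊔ D₁) := le_inf h₂ (hE ▸ (le_sup_right : D₂ ≤ ⁅Q, D₂⁆ ⊔ D₂))
  have e₁ : D₁ = P ⊓ (⁅Q, D₁⁆ ⊔ D₁) :=
    Subgroup.eq_of_le_of_card_ge hD₁ (by rw [M₁.card S]; exact hle2)
  have e₂ : D₂ = P ⊓ (⁅Q, D₁⁆ ⊔ D₁) :=
    Subgroup.eq_of_le_of_card_ge hD₂ (by rw [M₂.card S]; exact hle2)
  rw [e₂, ← e₁]

/-- two minimal offenders inside a common `2`-subgroup commute -/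
theorem minOff_commute (S : Setup 2 V H Q) {P D₁ D₂ : Subgroup Γ} (hP : IsPGroup 2 P)
    (M₁ : MinOff 2 V H D₁) (M₂ : MinOff 2 V H D₂) (h₁ : D₁ ≤ P) (h₂ : D₂ ≤ P) :
    D₂ ≤ Subgroup.centralizer (D₁ : Set Γ) := by
  by_cases hE : ⁅Q, D₂⁆ ⊔ D₂ = ⁅Q, D₁⁆ ⊔ D₁
  · have := minOff_eq_of_block_eq S hP M₁ M₂ h₁ h₂ hE
    rw [← this]
    intro x hx
    rw [Subgroup.mem_centralizer_iff]
    intro y hy
    exact (bestOffender_elementary S M₁.hAH M₁.hA).1 y hy x hx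
  · have h1 := M₁.block_le_CW hS3 S M₂ hE
    have h2 := M₁.commutator_CW hS3 S
    intro x hx
    rw [Subgroup.mem_centralizer_iff]
    intro y hy
    have hc : ⁅y, x⁆ ∈ (⊥ : Subgroup Γ) := by
      rw [← h2]
      exact Subgroup.commutator_mem_commutator ((le_sup_right : D₁ ≤ ⁅Q, D₁⁆ ⊔ D₁) hy)
        (h1 ((le_sup_right : D₂ ≤ ⁅Q, D₂⁆ ⊔ D₂) hx))
    rw [Subgroup.mem_bot] at hc
    exact commutatorElement_eq_one_iff_mul_comm.mp hc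

/-- two best offenders inside a common `2`-subgroup commute -/
theorem bestOffender_commute (S : Setup 2 V H Q) {P A₁ A₂ : Subgroup Γ} (hP : IsPGroup 2 P)
    (hA₁H : A₁ ≤ H) (hA₁ : IsBestOffenderOn 2 V A₁) (hA₂H : A₂ ≤ H) (hA₂ : IsBestOffenderOn 2 V A₂)
    (h₁ : A₁ ≤ P) (h₂ : A₂ ≤ P) : A₂ ≤ Subgroup.centralizer (A₁ : Set Γ) := by
  by_cases hA₁1 : A₁ = ⊥
  · rw [hA₁1]
    intro x _
    rw [Subgroup.mem_centralizer_iff]
    intro y hy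
    rw [SetLike.mem_coe, Subgroup.mem_bot] at hy
    rw [hy, one_mul, mul_one]
  by_cases hA₂1 : A₂ = ⊥
  · rw [hA₂1]; exact bot_le
  obtain ⟨n₁, B₁, hB₁, -, hsup₁⟩ := decomposition S _ A₁ rfl hA₁H hA₁ hA₁1
  obtain ⟨n₂, B₂, hB₂, -, hsup₂⟩ := decomposition S _ A₂ rfl hA₂H hA₂ hA₂1
  rw [← hsup₂]
  apply iSup_le
  intro j
  rw [← Subgroup.le_centralizer_iff, ← hsup₁]
  apply iSup_le
  intro i
  rw [← Subgroup.le_centralizer_iff]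
  have M₁ : MinOff 2 V H (B₁ i) :=
    ⟨(hB₁ i).1.trans hA₁H, (hB₁ i).2.1, (hB₁ i).2.2.1, (hB₁ i).2.2.2⟩
  have M₂ : MinOff 2 V H (B₂ j) :=
    ⟨(hB₂ j).1.trans hA₂H, (hB₂ j).2.1, (hB₂ j).2.2.1, (hB₂ j).2.2.2⟩
  exact minOff_commute hS3 S hP M₁ M₂ ((hB₁ i).1.trans h₁) ((hB₂ j).1.trans h₂)

end gamma

section glevel

open Cfsg.Agent.Lib.Helper9 Cfsg.Agent.Lib.Helper6.JC Cfsg.Agent.Lib.Helper6.JL
open Cfsg.Agent.Lib.Helper2.OmegaZ Cfsg.Agent.Lib.Lead.Holo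

universe u

variable {G : Type u} [Group G] [Finite G]

local instance instFactTwoJT7' : Fact (Nat.Prime 2) := ⟨Nat.prime_two⟩

local instance instVVNormalJT7 (L : Subgroup G) : (VV 2 ↥L).Normal := VV_normal

/-- **(W3)** `J(T)` is abelian modulo `C_L(V)` -/
theorem comm_thompson_mem_cOf {T L : Subgroup G} (h : LCtx T L) {s t : G}
    (hs : s ∈ thompsonSubgroupOf 2 T) (ht : t ∈ thompsonSubgroupOf 2 T) :
    s * t * s⁻¹ * t⁻¹ ∈ cOf L := by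
  have hVea : IsElementaryAbelian 2 (VV 2 ↥L) := isEA_of_le_omegaZ _ (VV_le_omegaZ h.hc')
  have hC := pCore_quotient_centralizer_VV (G := ↥L) (p := 2)
  obtain ⟨H', Q', hH', St, hS3⟩ := exists_setup (VV 2 ↥L) hVea h.isPSolvable hC
  have hJL : thompsonSubgroupOf 2 T ≤ L := (thompsonSubgroupOf_le 2 T).trans h.hTL
  -- the image of `T` is a `2`-group
  have hP : IsPGroup 2 ((T.subgroupOf L).map (psi (VV 2 ↥L))) :=
    (h.hT2.comap_of_injective L.subtype L.subtype_injective).map _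
  -- images of maximal elementary abelian subgroups of `T`
  have hA' : ∀ A ∈ maxEA 2 T, (A.subgroupOf L).map (psi (VV 2 ↥L)) ≤ H' ∧
      IsBestOffenderOn 2 (VH (VV 2 ↥L)) ((A.subgroupOf L).map (psi (VV 2 ↥L))) ∧
      (A.subgroupOf L).map (psi (VV 2 ↥L)) ≤ (T.subgroupOf L).map (psi (VV 2 ↥L)) := by
    intro A hA
    have hA0 := h.maxEA_subgroupOf hA
    refine ⟨?_, bestOffender_map (VV 2 ↥L) (Cfsg.Agent.S0606.result (VV 2 ↥L) hVea _ hA0), ?_⟩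
    · rw [hH']; exact Subgroup.map_mono (le_sSup hA0)
    · apply Subgroup.map_mono
      intro x hx
      exact Subgroup.mem_subgroupOf.mpr (hA.1 (Subgroup.mem_subgroupOf.mp hx))
  -- elements of two maximal elementary abelian subgroups commute under `ψ`
  have key1 : ∀ A₁ ∈ maxEA 2 T, ∀ A₂ ∈ maxEA 2 T, ∀ a₁ : ↥L, (a₁ : G) ∈ A₁ → ∀ a₂ : ↥L,
      (a₂ : G) ∈ A₂ → psi (VV 2 ↥L) a₁ * psi (VV 2 ↥L) a₂ =
        psi (VV 2 ↥L) a₂ * psi (VV 2 ↥L) a₁ := by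
    intro A₁ hA₁ A₂ hA₂ a₁ ha₁ a₂ ha₂
    obtain ⟨h1H, h1b, h1P⟩ := hA' A₁ hA₁
    obtain ⟨h2H, h2b, h2P⟩ := hA' A₂ hA₂
    have hc := bestOffender_commute hS3 St hP h1H h1b h2H h2b h1P h2P
    have hm1 : psi (VV 2 ↥L) a₁ ∈ (A₁.subgroupOf L).map (psi (VV 2 ↥L)) :=
      Subgroup.mem_map_of_mem _ (Subgroup.mem_subgroupOf.mpr ha₁)
    have hm2 : psi (VV 2 ↥L) a₂ ∈ (A₂.subgroupOf L).map (psi (VV 2 ↥L)) :=
      Subgroup.mem_map_of_mem _ (Subgroup.mem_subgroupOf.mpr ha₂)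
    exact (Subgroup.mem_centralizer_iff.mp (hc hm2)) _ hm1
  -- extend to `J(T)` on the left
  have key2 : ∀ A₂ ∈ maxEA 2 T, ∀ a₂ : ↥L, (a₂ : G) ∈ A₂ → ∀ x : ↥L,
      (x : G) ∈ thompsonSubgroupOf 2 T → psi (VV 2 ↥L) x * psi (VV 2 ↥L) a₂ =
        psi (VV 2 ↥L) a₂ * psi (VV 2 ↥L) x := by
    intro A₂ hA₂ a₂ ha₂ x hx
    have hle : thompsonSubgroupOf 2 T ≤ ((Subgroup.centralizer
        ({psi (VV 2 ↥L) a₂} : Set (Hol (VV 2 ↥L)))).comap (psi (VV 2 ↥L))).map L.subtype := by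
      rw [thompsonSubgroupOf_eq]
      apply sSup_le
      intro A₁ hA₁ a ha
      have haL : a ∈ L := h.hTL (hA₁.1 ha)
      refine ⟨⟨a, haL⟩, ?_, rfl⟩
      rw [SetLike.mem_coe, Subgroup.mem_comap, Subgroup.mem_centralizer_iff]
      intro c hc
      rw [Set.mem_singleton_iff] at hc
      subst hc
      exact (key1 A₁ hA₁ A₂ hA₂ ⟨a, haL⟩ ha a₂ ha₂).symm
    obtain ⟨x', hx', hxx'⟩ := hle hx
    have hxeq : x' = x := Subtype.ext hxx'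
    rw [hxeq, SetLike.mem_coe, Subgroup.mem_comap, Subgroup.mem_centralizer_iff] at hx'
    exact (hx' _ (Set.mem_singleton _)).symm
  -- extend to `J(T)` on the right
  have key3 : ∀ x : ↥L, (x : G) ∈ thompsonSubgroupOf 2 T → ∀ y : ↥L,
      (y : G) ∈ thompsonSubgroupOf 2 T → psi (VV 2 ↥L) x * psi (VV 2 ↥L) y =
        psi (VV 2 ↥L) y * psi (VV 2 ↥L) x := by
    intro x hx y hy
    have hle : thompsonSubgroupOf 2 T ≤ ((Subgroup.centralizer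
        ({psi (VV 2 ↥L) x} : Set (Hol (VV 2 ↥L)))).comap (psi (VV 2 ↥L))).map L.subtype := by
      rw [thompsonSubgroupOf_eq]
      apply sSup_le
      intro A₂ hA₂ a ha
      have haL : a ∈ L := h.hTL (hA₂.1 ha)
      refine ⟨⟨a, haL⟩, ?_, rfl⟩
      rw [SetLike.mem_coe, Subgroup.mem_comap, Subgroup.mem_centralizer_iff]
      intro c hc
      rw [Set.mem_singleton_iff] at hc
      subst hc
      exact key2 A₂ hA₂ ⟨a, haL⟩ ha x hx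
    obtain ⟨y', hy', hyy'⟩ := hle hy
    have hyeq : y' = y := Subtype.ext hyy'
    rw [hyeq, SetLike.mem_coe, Subgroup.mem_comap, Subgroup.mem_centralizer_iff] at hy'
    exact hy' _ (Set.mem_singleton _)
  have hsL : s ∈ L := hJL hs
  have htL : t ∈ L := hJL ht
  have hxL : s * t * s⁻¹ * t⁻¹ ∈ L :=
    L.mul_mem (L.mul_mem (L.mul_mem hsL htL) (L.inv_mem hsL)) (L.inv_mem htL)
  rw [mem_cOf_iff hxL]
  have e : (⟨s * t * s⁻¹ * t⁻¹, hxL⟩ : ↥L) = ⟨s, hsL⟩ * ⟨t, htL⟩ * ⟨s, hsL⟩⁻¹ * ⟨t, htL⟩⁻¹ := rfl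
  rw [e, map_mul, map_mul, map_mul, map_inv, map_inv, key3 ⟨s, hsL⟩ hs ⟨t, htL⟩ ht]
  group

end glevel

end Cfsg.Agent.Lib.Helper8.JT
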