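import Mathlib
import Cfsg.Agent.Lib.Helper6.JL.JL9
import Cfsg.Agent.Lib.Helper8.JT3

/-! (W1) for S2948/S2949: existence of a "good pair" `(a, A)`: `A ∈ 𝒜(T)`, `a ∈ A` not centralizing
`V`, and `A = ⟨a⟩ × (A ∩ C_L(V))`. -/

set_option autoImplicit false

namespace Cfsg.Agent.Lib.Helper8.JT

open Cfsg Cfsg.Agent.Lib.Lead.KS93 Cfsg.Agent.Lib.Lead Cfsg.Agent.Lib.Helper6
open Cfsg.Agent.Lib.Helper9 Cfsg.Agent.Lib.Helper6.JC Cfsg.Agent.Lib.Helper6.JL
open Cfsg.Agent.Lib.Helper2.OmegaZ Cfsg.Agent.Lib.Lead.Holo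
open scoped commutatorElement

universe u

variable {G : Type u} [Group G]

/-- a good pair: `A` a largest elementary abelian subgroup of `T`, `a ∈ A` outside `C_L(V)`, and
`A ∩ C_L(V)` of index two in `A` -/
def Good (T L : Subgroup G) (a : G) (A : Subgroup G) : Prop :=
  A ∈ maxEA 2 T ∧ a ∈ A ∧ a ∉ cOf L ∧ ∀ x ∈ A, x ∈ cOf L ∨ a * x ∈ cOf L

/-- `|H| |K| ≤ |H ⊔ K| |H ⊓ K|` -/
theorem card_mul_card_le [Finite G] (H K : Subgroup G) :
    Nat.card H * Nat.card K ≤ Nat.card (H ⊔ K : Subgroup G) * Nat.card (H ⊓ K : Subgroup G) := by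
  have h1 := Helper6.card_mul_relIndex_of_le (inf_le_right : H ⊓ K ≤ K)
  have h2 := Helper6.card_mul_relIndex_of_le (le_sup_left : H ≤ H ⊔ K)
  have h3 : (H ⊓ K).relIndex K = H.relIndex K := Subgroup.inf_relIndex_right H K
  have hne : H.relIndex (H ⊔ K) ≠ 0 := by
    show (H.subgroupOf (H ⊔ K)).index ≠ 0
    exact Subgroup.index_ne_zero_of_finite
  have h4 : H.relIndex K ≤ H.relIndex (H ⊔ K) :=
    Subgroup.relIndex_le_of_le_right le_sup_right hne
  rw [h3] at h1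
  calc Nat.card H * Nat.card K = Nat.card H * (Nat.card (H ⊓ K : Subgroup G) * H.relIndex K) := by
        rw [h1]
    _ ≤ Nat.card H * (Nat.card (H ⊓ K : Subgroup G) * H.relIndex (H ⊔ K)) :=
        Nat.mul_le_mul_left _ (Nat.mul_le_mul_left _ h4)
    _ = (Nat.card H * H.relIndex (H ⊔ K)) * Nat.card (H ⊓ K : Subgroup G) := by ring
    _ = Nat.card (H ⊔ K : Subgroup G) * Nat.card (H ⊓ K : Subgroup G) := by rw [h2]

/-- fixed points in a subgroup: transfer between `↥L` and `G` -/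
theorem map_inf_centralizer {L : Subgroup G} (X Y : Subgroup ↥L) :
    (X ⊓ Subgroup.centralizer (Y : Set ↥L)).map L.subtype =
      X.map L.subtype ⊓ Subgroup.centralizer ((Y.map L.subtype : Subgroup G) : Set G) := by
  ext g
  constructor
  · rintro ⟨x, hx, rfl⟩
    obtain ⟨hxX, hxc⟩ := Subgroup.mem_inf.mp hx
    refine Subgroup.mem_inf.mpr ⟨⟨x, hxX, rfl⟩, ?_⟩
    rw [Subgroup.mem_centralizer_iff]
    rintro _ ⟨y, hy, rfl⟩
    exact congrArg Subtype.val ((Subgroup.mem_centralizer_iff.mp hxc) y hy)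
  · intro hg
    obtain ⟨⟨x, hxX, rfl⟩, hc⟩ := Subgroup.mem_inf.mp hg
    refine ⟨x, Subgroup.mem_inf.mpr ⟨hxX, ?_⟩, rfl⟩
    rw [Subgroup.mem_centralizer_iff]
    intro y hy
    apply Subtype.ext
    exact (Subgroup.mem_centralizer_iff.mp hc) _ ⟨y, hy, rfl⟩

/-- elements of `⟨a⟩ × D` for an involution `a` centralizing `D` -/
theorem mem_or_mul_mem_of_mem_sup {a : G} (ha2 : a * a = 1) {D : Subgroup G}
    (hD : ∀ d ∈ D, a * d = d * a) {x : G} (hx : x ∈ Subgroup.zpowers a ⊔ D) :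
    x ∈ D ∨ a * x ∈ D := by
  have hcomm : ∀ y : G, (y ∈ D ∨ a * y ∈ D) → a * y = y * a := by
    intro y hy
    rcases hy with hy | hy
    · exact hD y hy
    · have h1 := hD _ hy
      calc a * y = a⁻¹ * (a * (a * y)) := by group
        _ = a⁻¹ * ((a * y) * a) := by rw [h1]
        _ = y * a := by group
  rw [Subgroup.zpowers_eq_closure, ← Subgroup.closure_eq D, ← Subgroup.closure_union] at hx
  induction hx using Subgroup.closure_induction with
  | mem y hy =>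
    rcases hy with hy | hy
    · rw [Set.mem_singleton_iff] at hy
      right
      rw [hy, ha2]
      exact D.one_mem
    · left; exact hy
  | one => left; exact D.one_mem
  | mul y z _ _ hy hz =>
    have cy := hcomm y hy
    rcases hy with hy | hy <;> rcases hz with hz | hz
    · left; exact D.mul_mem hy hz
    · right
      have e : a * (y * z) = y * (a * z) := by rw [← mul_assoc, cy, mul_assoc]
      rw [e]
      exact D.mul_mem hy hz
    · right
      rw [← mul_assoc]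
      exact D.mul_mem hy hz
    · left
      have e : y * z = (a * y) * (a * z) := by
        calc y * z = y * (a * a) * z := by rw [ha2, mul_one]
          _ = (y * a) * (a * z) := by group
          _ = (a * y) * (a * z) := by rw [cy]
      rw [e]
      exact D.mul_mem hy hz
  | inv y _ hy =>
    have cy := hcomm y hy
    rcases hy with hy | hy
    · left; exact D.inv_mem hy
    · right
      have ainv : a⁻¹ = a := inv_eq_of_mul_eq_one_left ha2
      have e : a * y⁻¹ = (a * y)⁻¹ := by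
        calc a * y⁻¹ = y⁻¹ * (y * a) * y⁻¹ := by group
          _ = y⁻¹ * (a * y) * y⁻¹ := by rw [cy]
          _ = y⁻¹ * a := by group
          _ = y⁻¹ * a⁻¹ := by rw [ainv]
          _ = (a * y)⁻¹ := by group
      rw [e]
      exact D.inv_mem hy

section
variable [Finite G] {T L : Subgroup G} (h : LCtx T L)
include h

local instance instFactTwoJT8 : Fact (Nat.Prime 2) := ⟨Nat.prime_two⟩

local instance instVVNormalJT8 (L : Subgroup G) : (VV 2 ↥L).Normal := VV_normal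

/-- no over-offenders, at the level of `G`: `|A₀| |C_V(A₀)| ≤ |C_{A₀}(V)| |V|` for `A₀ ∈ 𝒜(T)` -/
theorem lctx_card_maxEA_le {A₀ : Subgroup G} (hA₀ : A₀ ∈ maxEA 2 T) :
    Nat.card A₀ * Nat.card ↥(vOf L ⊓ Subgroup.centralizer (A₀ : Set G)) ≤
      Nat.card ↥(A₀ ⊓ Subgroup.centralizer (vOf L : Set G)) * Nat.card (vOf L) := by
  have hA₀L : A₀ ≤ L := hA₀.1.trans h.hTL
  have hA0 := h.maxEA_subgroupOf hA₀
  have hVea : IsElementaryAbelian 2 (VV 2 ↥L) := isEA_of_le_omegaZ _ (VV_le_omegaZ h.hc')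
  have hC := pCore_quotient_centralizer_VV (G := ↥L) (p := 2)
  have h1 := card_le_of_maxEA (VV 2 ↥L) hVea h.isPSolvable hC hA0
  have e0 : Nat.card (A₀.subgroupOf L) = Nat.card A₀ := Helper9.card_subgroupOf_of_le hA₀L
  have e1 : Nat.card ↥(VV 2 ↥L ⊓ Subgroup.centralizer ((A₀.subgroupOf L : Subgroup ↥L) : Set ↥L)) =
      Nat.card ↥(vOf L ⊓ Subgroup.centralizer (A₀ : Set G)) := by
    rw [← Helper9.card_map_subtype L, map_inf_centralizer, Subgroup.map_subgroupOf_eq_of_le hA₀L]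
    rfl
  have e2 : Nat.card ↥(A₀.subgroupOf L ⊓ Subgroup.centralizer ((VV 2 ↥L : Subgroup ↥L) : Set ↥L)) =
      Nat.card ↥(A₀ ⊓ Subgroup.centralizer (vOf L : Set G)) := by
    rw [← Helper9.card_map_subtype L, map_inf_centralizer, Subgroup.map_subgroupOf_eq_of_le hA₀L]
    rfl
  have e3 : Nat.card (VV 2 ↥L) = Nat.card (vOf L) := (Helper9.card_map_subtype L _).symm
  rw [e0, e1, e2, e3] at h1
  exact h1

/-- an element `a ∈ A₀ ∈ 𝒜(T)` outside `C_L(V)` with `|V : C_V(a)| ≤ 2` gives a good pair -/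
theorem good_of_card {A₀ : Subgroup G} (hA₀ : A₀ ∈ maxEA 2 T) {a : G} (ha : a ∈ A₀)
    (haC : a ∉ cOf L)
    (hcard : Nat.card (vOf L) ≤
      2 * Nat.card ↥(vOf L ⊓ Subgroup.centralizer ((Subgroup.zpowers a : Subgroup G) : Set G))) :
    Good T L a (Subgroup.zpowers a ⊔
      ((vOf L ⊓ Subgroup.centralizer ((Subgroup.zpowers a : Subgroup G) : Set G)) ⊔
        (A₀ ⊓ Subgroup.centralizer (vOf L : Set G)))) := by
  obtain ⟨hA₀c, hA₀2⟩ := isElementaryAbelian_iff_forall.mp hA₀.2.1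
  obtain ⟨hVc, hV2⟩ := isElementaryAbelian_iff_forall.mp h.vOf_isEA
  have ha2 : a * a = 1 := by rw [← pow_two]; exact hA₀2 a ha
  have hzA : Subgroup.zpowers a ≤ A₀ := Subgroup.zpowers_le.mpr ha
  obtain ⟨Va, hVa⟩ : ∃ Va : Subgroup G, Va = vOf L ⊓
      Subgroup.centralizer ((Subgroup.zpowers a : Subgroup G) : Set G) := ⟨_, rfl⟩
  obtain ⟨CA, hCA⟩ : ∃ CA : Subgroup G, CA = A₀ ⊓ Subgroup.centralizer (vOf L : Set G) :=
    ⟨_, rfl⟩
  rw [← hVa, ← hCA]
  rw [← hVa] at hcard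
  have hVaV : Va ≤ vOf L := by rw [hVa]; exact inf_le_left
  have hCAA : CA ≤ A₀ := by rw [hCA]; exact inf_le_left
  have hVT : vOf L ≤ T := h.vOf_le_pCoreOf.trans h.pCoreOf_le_T
  have hDT : Va ⊔ CA ≤ T := sup_le (hVaV.trans hVT) (hCAA.trans hA₀.1)
  -- `D` is elementary abelian
  have hDe : IsElementaryAbelian 2 (Va ⊔ CA) := by
    have hsup : Va ⊔ CA = Subgroup.closure ((Va : Set G) ∪ (CA : Set G)) := by
      rw [Subgroup.closure_union, Subgroup.closure_eq, Subgroup.closure_eq]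
    rw [hsup]
    apply isElementaryAbelian_closure
    · intro x hx y hy
      rcases hx with hx | hx <;> rcases hy with hy | hy
      · exact hVc x (hVaV hx) y (hVaV hy)
      · have hyc : y ∈ Subgroup.centralizer (vOf L : Set G) := by
          rw [hCA] at hy; exact (Subgroup.mem_inf.mp hy).2
        exact ((Subgroup.mem_centralizer_iff.mp hyc) x (hVaV hx))
      · have hxc : x ∈ Subgroup.centralizer (vOf L : Set G) := by
          rw [hCA] at hx; exact (Subgroup.mem_inf.mp hx).2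
        exact ((Subgroup.mem_centralizer_iff.mp hxc) y (hVaV hy)).symm
      · exact hA₀c x (hCAA hx) y (hCAA hy)
    · intro x hx
      rcases hx with hx | hx
      · exact hV2 x (hVaV hx)
      · exact hA₀2 x (hCAA hx)
  -- `D` centralizes `a`
  have hDW : Va ⊔ CA ≤ Subgroup.centralizer ((Subgroup.zpowers a : Subgroup G) : Set G) := by
    apply sup_le
    · rw [hVa]; exact inf_le_right
    · intro x hx
      rw [Subgroup.mem_centralizer_iff]
      intro y hy
      exact hA₀c y (hzA hy) x (hCAA hx)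
  have hDa : ∀ d ∈ Va ⊔ CA, a * d = d * a := fun d hd =>
    (Subgroup.mem_centralizer_iff.mp (hDW hd)) a (Subgroup.mem_zpowers a)
  -- `D ≤ C_L(V)`
  have hDC : Va ⊔ CA ≤ cOf L := by
    apply sup_le
    · exact hVaV.trans (h.vOf_le_pCoreOf.trans h.pCoreOf_le_cOf)
    · intro x hx
      have hxc : x ∈ Subgroup.centralizer (vOf L : Set G) := by
        rw [hCA] at hx; exact (Subgroup.mem_inf.mp hx).2
      exact Subgroup.mem_inf.mpr ⟨h.hTL (hA₀.1 (hCAA hx)), hxc⟩
  -- the order of `D`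
  have hI : Va ⊓ CA ≤ vOf L ⊓ Subgroup.centralizer (A₀ : Set G) := by
    intro x hx
    obtain ⟨hx1, hx2⟩ := Subgroup.mem_inf.mp hx
    refine Subgroup.mem_inf.mpr ⟨hVaV hx1, ?_⟩
    rw [Subgroup.mem_centralizer_iff]
    intro y hy
    exact hA₀c y hy x (hCAA hx2)
  have hcardD : Nat.card A₀ ≤ 2 * Nat.card (Va ⊔ CA : Subgroup G) := by
    have f2 := lctx_card_maxEA_le h hA₀
    rw [← hCA] at f2
    have f3 : Nat.card (Va ⊓ CA : Subgroup G) ≤
        Nat.card ↥(vOf L ⊓ Subgroup.centralizer (A₀ : Set G)) := Subgroup.card_le_of_le hI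
    have f4 := card_mul_card_le Va CA
    have hpos : 0 < Nat.card (Va ⊓ CA : Subgroup G) := Nat.card_pos
    have key : Nat.card A₀ * Nat.card (Va ⊓ CA : Subgroup G) ≤
        (2 * Nat.card (Va ⊔ CA : Subgroup G)) * Nat.card (Va ⊓ CA : Subgroup G) := by
      calc Nat.card A₀ * Nat.card (Va ⊓ CA : Subgroup G)
          ≤ Nat.card A₀ * Nat.card ↥(vOf L ⊓ Subgroup.centralizer (A₀ : Set G)) :=
            Nat.mul_le_mul_left _ f3
        _ ≤ Nat.card CA * Nat.card (vOf L) := f2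
        _ ≤ Nat.card CA * (2 * Nat.card Va) := Nat.mul_le_mul_left _ hcard
        _ = 2 * (Nat.card Va * Nat.card CA) := by ring
        _ ≤ 2 * (Nat.card (Va ⊔ CA : Subgroup G) * Nat.card (Va ⊓ CA : Subgroup G)) :=
            Nat.mul_le_mul_left _ f4
        _ = (2 * Nat.card (Va ⊔ CA : Subgroup G)) * Nat.card (Va ⊓ CA : Subgroup G) := by ring
    exact Nat.le_of_mul_le_mul_right key hpos
  have hW2 : ∀ w ∈ Subgroup.zpowers a, w * w = 1 := by
    intro w hw
    rcases mem_zpowers_involution ha2 hw with rfl | rfl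
    · simp
    · exact ha2
  have haD : a ∉ Va ⊔ CA := fun hcon => haC (hDC hcon)
  have hmax := maxEA_sup hA₀ hcardD hDT hDe (hzA.trans hA₀.1) hW2 hDW
    ⟨a, Subgroup.mem_zpowers a, haD⟩
  refine ⟨hmax, (le_sup_left : Subgroup.zpowers a ≤ _) (Subgroup.mem_zpowers a), haC, ?_⟩
  intro x hx
  rcases mem_or_mul_mem_of_mem_sup ha2 hDa hx with hx | hx
  · left; exact hDC hx
  · right; exact hDC hx


/-- some largest elementary abelian subgroup of `T` does not centralize `V` -/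
theorem exists_maxEA_not_le_cOf (hJ : ¬ thompsonSubgroupOf 2 T ≤ pCoreOf 2 L) :
    ∃ A₀ ∈ maxEA 2 T, ¬ A₀ ≤ cOf L := by
  by_contra hcon
  push Not at hcon
  apply hJ
  rw [← h.inf_cOf]
  apply le_inf (thompsonSubgroupOf_le 2 T)
  rw [thompsonSubgroupOf_eq]
  exact sSup_le hcon

/-- the general version: a minimal offender `D` inside the image of `A₀ ∈ 𝒜(T)` is generated by the
image of an element `a ∈ A₀`, and `a` lies in a good pair -/
theorem good_of_minOff {H' Q' : Subgroup (Hol (VV 2 ↥L))}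
    (St : Setup 2 (VH (VV 2 ↥L)) H' Q') {A₀ : Subgroup G} (hA₀ : A₀ ∈ maxEA 2 T)
    {D : Subgroup (Hol (VV 2 ↥L))} (M : MinOff 2 (VH (VV 2 ↥L)) H' D)
    (hD : D ≤ (A₀.subgroupOf L).map (psi (VV 2 ↥L))) :
    ∃ a ∈ A₀, ∃ haL : a ∈ L, psi (VV 2 ↥L) ⟨a, haL⟩ ∈ D ∧ psi (VV 2 ↥L) ⟨a, haL⟩ ≠ 1 ∧
      (∀ x ∈ D, x = 1 ∨ x = psi (VV 2 ↥L) ⟨a, haL⟩) ∧
      Good T L a (Subgroup.zpowers a ⊔
        ((vOf L ⊓ Subgroup.centralizer ((Subgroup.zpowers a : Subgroup G) : Set G)) ⊔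
          (A₀ ⊓ Subgroup.centralizer (vOf L : Set G)))) := by
  obtain ⟨d, hd, hd1, hd2, hDall⟩ := MinOff.exists_gen St M
  obtain ⟨a', ha', hda⟩ := hD hd
  rw [SetLike.mem_coe, Subgroup.mem_subgroupOf] at ha'
  have haC : (a' : G) ∉ cOf L := by
    intro hcon
    apply hd1
    rw [← hda]
    exact (mem_cOf_iff a'.2).mp hcon
  have hDz : D = (Subgroup.zpowers a').map (psi (VV 2 ↥L)) := by
    rw [MonoidHom.map_zpowers, hda]
    apply le_antisymm
    · intro x hx
      rcases hDall x hx with rfl | rfl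
      · exact Subgroup.one_mem _
      · exact Subgroup.mem_zpowers _
    · exact Subgroup.zpowers_le.mpr hd
  have hcard : Nat.card (vOf L) ≤
      2 * Nat.card ↥(vOf L ⊓
        Subgroup.centralizer ((Subgroup.zpowers (a' : G) : Subgroup G) : Set G)) := by
    have h1 := M.hA.1 ⊥ bot_le
    have hb : VH (VV 2 ↥L) ⊓ Subgroup.centralizer (((⊥ : Subgroup (Hol (VV 2 ↥L))) :
        Subgroup (Hol (VV 2 ↥L))) : Set (Hol (VV 2 ↥L))) = VH (VV 2 ↥L) := by
      apply inf_eq_left.mpr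
      intro x _
      rw [Subgroup.mem_centralizer_iff]
      intro y hy
      rw [SetLike.mem_coe, Subgroup.mem_bot] at hy
      rw [hy, one_mul, mul_one]
    rw [hb, Subgroup.card_bot, one_mul, M.card St, card_VH, hDz, card_fix] at h1
    have e1 : Nat.card ↥(VV 2 ↥L ⊓ Subgroup.centralizer
        ((Subgroup.zpowers a' : Subgroup ↥L) : Set ↥L)) =
        Nat.card ↥(vOf L ⊓
          Subgroup.centralizer ((Subgroup.zpowers (a' : G) : Subgroup G) : Set G)) := by
      rw [← Helper9.card_map_subtype L, map_inf_centralizer, MonoidHom.map_zpowers]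
      rfl
    have e3 : Nat.card (VV 2 ↥L) = Nat.card (vOf L) := (Helper9.card_map_subtype L _).symm
    rw [e1, e3] at h1
    exact h1
  refine ⟨(a' : G), ha', a'.2, ?_, ?_, ?_, good_of_card h hA₀ ha' haC hcard⟩
  · rw [show (⟨(a' : G), a'.2⟩ : ↥L) = a' from rfl, hda]; exact hd
  · rw [show (⟨(a' : G), a'.2⟩ : ↥L) = a' from rfl, hda]; exact hd1
  · rw [show (⟨(a' : G), a'.2⟩ : ↥L) = a' from rfl, hda]; exact hDall

/-- (W1): a good pair exists as soon as `J(T) ≰ O₂(L)` -/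
theorem exists_good (hJ : ¬ thompsonSubgroupOf 2 T ≤ pCoreOf 2 L) : ∃ a A, Good T L a A := by
  classical
  have hVea : IsElementaryAbelian 2 (VV 2 ↥L) := isEA_of_le_omegaZ _ (VV_le_omegaZ h.hc')
  have hC := pCore_quotient_centralizer_VV (G := ↥L) (p := 2)
  obtain ⟨H', Q', hH', St, -⟩ := exists_setup (VV 2 ↥L) hVea h.isPSolvable hC
  obtain ⟨A₀, hA₀, hA₀C⟩ := exists_maxEA_not_le_cOf h hJ
  have hA0 := h.maxEA_subgroupOf hA₀
  have hbest : IsBestOffenderOn 2 (VH (VV 2 ↥L)) ((A₀.subgroupOf L).map (psi (VV 2 ↥L))) :=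
    bestOffender_map (VV 2 ↥L) (Cfsg.Agent.S0606.result (VV 2 ↥L) hVea _ hA0)
  have hA'H : (A₀.subgroupOf L).map (psi (VV 2 ↥L)) ≤ H' := by
    rw [hH']; exact Subgroup.map_mono (le_sSup hA0)
  have hA'ne : (A₀.subgroupOf L).map (psi (VV 2 ↥L)) ≠ ⊥ := by
    intro h0
    apply hA₀C
    intro a ha
    have haL : a ∈ L := h.hTL (hA₀.1 ha)
    have h1 : psi (VV 2 ↥L) ⟨a, haL⟩ ∈ (A₀.subgroupOf L).map (psi (VV 2 ↥L)) :=
      ⟨⟨a, haL⟩, Subgroup.mem_subgroupOf.mpr ha, rfl⟩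
    rw [h0, Subgroup.mem_bot] at h1
    exact (mem_cOf_iff haL).mpr h1
  obtain ⟨n, B, hB, -, hsup⟩ := decomposition St _ _ rfl hA'H hbest hA'ne
  obtain ⟨i, -⟩ : ∃ i, ¬ B i ≤ ⊥ := by
    by_contra hcon
    push Not at hcon
    apply hA'ne
    rw [← hsup]
    exact le_bot_iff.mp (iSup_le hcon)
  have M : MinOff 2 (VH (VV 2 ↥L)) H' (B i) :=
    ⟨(hB i).1.trans hA'H, (hB i).2.1, (hB i).2.2.1, (hB i).2.2.2⟩
  obtain ⟨a, -, -, -, -, -, hgood⟩ := good_of_minOff h St hA₀ M (hB i).1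
  exact ⟨a, _, hgood⟩

end

end Cfsg.Agent.Lib.Helper8.JT
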