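import Mathlib
import Cfsg.Agent.Lib.Helper8.JT8

/-! Slices of (W4) for S2949: the block `E_D = [Q, D] D` of a minimal offender `D = ⟨d⟩` is generated
by `d` and any element of order three of `H` inverted by `d`; and a good pair `(a, A)` gives the
minimal offender `ψ(A ∩ L)`. -/

set_option autoImplicit false

namespace Cfsg.Agent.Lib.Helper8.JT

open Cfsg Cfsg.Agent.Lib.Lead.KS93 Cfsg.Agent.Lib.Lead Cfsg.Agent.Lib.Helper6
open Cfsg.Agent.Lib.Helper9 Cfsg.Agent.Lib.Helper6.JC Cfsg.Agent.Lib.Helper6.JL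
open Cfsg.Agent.Lib.Helper2.OmegaZ Cfsg.Agent.Lib.Lead.Holo
open scoped commutatorElement

section gamma
variable {Γ : Type*} [Group Γ] [Finite Γ] {V H Q : Subgroup Γ}

local instance instFactTwoJT9 : Fact (Nat.Prime 2) := ⟨Nat.prime_two⟩

variable (hS3 : H = ⨆ A : {A : Subgroup Γ // A ≤ H ∧ Cfsg.IsBestOffenderOn 2 V A}, (A : Subgroup Γ))
include hS3

/-- an element of order three of `H` inverted by the generator of a minimal offender `D` lies in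
the block of `D` -/
theorem mem_block_of_inverted (St : Setup 2 V H Q) {D : Subgroup Γ} (M : MinOff 2 V H D) {d κ : Γ}
    (hd : d ∈ D) (hκH : κ ∈ H) (hκ3 : κ ^ 3 = 1) (hinv : d * κ * d⁻¹ = κ⁻¹) :
    κ ∈ ⁅Q, D⁆ ⊔ D := by
  obtain ⟨e, he, c, hc, rfl⟩ := MinOff.exists_mul hS3 St M hκH
  have hec : e * c = c * e := MinOff.comm_CW hS3 St M he hc
  have hdE : d ∈ ⁅Q, D⁆ ⊔ D := (le_sup_right : D ≤ ⁅Q, D⁆ ⊔ D) hd
  have hdc : d * c = c * d := MinOff.comm_CW hS3 St M hdE hc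
  have hpow : e ^ 3 * c ^ 3 = 1 := by
    rw [← (show Commute e c from hec).mul_pow]; exact hκ3
  have he3m : e ^ 3 ∈ (⁅Q, D⁆ ⊔ D) ⊓
      (H ⊓ Subgroup.centralizer ((⁅V, ⁅Q, D⁆ ⊔ D⁆ : Subgroup Γ) : Set Γ)) := by
    refine Subgroup.mem_inf.mpr ⟨Subgroup.pow_mem _ he 3, ?_⟩
    have : e ^ 3 = (c ^ 3)⁻¹ := eq_inv_of_mul_eq_one_left hpow
    rw [this]
    exact Subgroup.inv_mem _ (Subgroup.pow_mem _ hc 3)
  rw [M.inf_CW hS3 St, Subgroup.mem_bot] at he3m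
  have hc3 : c ^ 3 = 1 := by rw [he3m, one_mul] at hpow; exact hpow
  -- `e * (d e d⁻¹) = c⁻²`
  have hde : d * e * d⁻¹ ∈ ⁅Q, D⁆ ⊔ D :=
    Subgroup.mul_mem _ (Subgroup.mul_mem _ hdE he) (Subgroup.inv_mem _ hdE)
  have e1 : d * (e * c) * d⁻¹ = (d * e * d⁻¹) * c := by
    calc d * (e * c) * d⁻¹ = d * e * (c * d⁻¹) := by group
      _ = d * e * (d⁻¹ * c) := by
          have : c * d⁻¹ = d⁻¹ * c := by
            calc c * d⁻¹ = d⁻¹ * (d * c) * d⁻¹ := by group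
              _ = d⁻¹ * (c * d) * d⁻¹ := by rw [hdc]
              _ = d⁻¹ * c := by group
          rw [this]
      _ = (d * e * d⁻¹) * c := by group
  have e2 : e * (d * e * d⁻¹) = (c * c)⁻¹ := by
    have h1 : (d * e * d⁻¹) * c = (e * c)⁻¹ := by rw [← e1]; exact hinv
    have h2 : d * e * d⁻¹ = (e * c)⁻¹ * c⁻¹ := by rw [← h1]; group
    rw [h2, hec]
    group
  have hcc : (c * c)⁻¹ ∈ (⁅Q, D⁆ ⊔ D) ⊓
      (H ⊓ Subgroup.centralizer ((⁅V, ⁅Q, D⁆ ⊔ D⁆ : Subgroup Γ) : Set Γ)) := by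
    refine Subgroup.mem_inf.mpr ⟨?_, Subgroup.inv_mem _ (Subgroup.mul_mem _ hc hc)⟩
    rw [← e2]
    exact Subgroup.mul_mem _ he hde
  rw [M.inf_CW hS3 St, Subgroup.mem_bot, inv_eq_one] at hcc
  have hc1 : c = 1 := by
    calc c = c ^ 3 * (c * c)⁻¹ := by group
      _ = 1 := by rw [hc3, hcc]; simp
  rw [hc1, mul_one]
  exact he

/-- the block of a minimal offender `D` is generated by the involution of `D` and any nontrivial
element of order three of `H` inverted by it -/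
theorem block_le_closure (St : Setup 2 V H Q) {D : Subgroup Γ} (M : MinOff 2 V H D) {d κ : Γ}
    (hd : d ∈ D) (hd1 : d ≠ 1) (hκH : κ ∈ H) (hκ1 : κ ≠ 1) (hκ3 : κ ^ 3 = 1)
    (hinv : d * κ * d⁻¹ = κ⁻¹) : ⁅Q, D⁆ ⊔ D ≤ Subgroup.closure {d, κ} := by
  have hκE := mem_block_of_inverted hS3 St M hd hκH hκ3 hinv
  have hdE : d ∈ ⁅Q, D⁆ ⊔ D := (le_sup_right : D ≤ ⁅Q, D⁆ ⊔ D) hd
  obtain ⟨d', hd', hd'1, hd'2, hDall⟩ := MinOff.exists_gen St M
  have hdd : d = d' := by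
    rcases hDall d hd with h | h
    · exact absurd h hd1
    · exact h
  have hd2 : d ^ 2 = 1 := by rw [hdd]; exact hd'2
  have hdc : d ∈ Subgroup.closure ({d, κ} : Set Γ) :=
    Subgroup.subset_closure (Set.mem_insert _ _)
  have hκc : κ ∈ Subgroup.closure ({d, κ} : Set Γ) :=
    Subgroup.subset_closure (Set.mem_insert_of_mem _ rfl)
  intro e he
  obtain ⟨r, hr, hr3, hcase⟩ := MinOff.E_split St M hdE he hd2 hd1
  have hrc : r ∈ Subgroup.closure ({d, κ} : Set Γ) := by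
    rcases MinOff.E_three St M hκE hr hκ3 hκ1 hr3 with h | h | h
    · rw [h]; exact Subgroup.one_mem _
    · rw [h]; exact hκc
    · rw [h]; exact Subgroup.pow_mem _ hκc 2
  rcases hcase with h | h
  · rw [h]; exact hrc
  · rw [h]; exact Subgroup.mul_mem _ hrc hdc

end gamma

section lctx

universe u

variable {G : Type u} [Group G] [Finite G] {T L : Subgroup G} (h : LCtx T L)
include h

local instance instVVNormalJT9 (L : Subgroup G) : (VV 2 ↥L).Normal := VV_normal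

omit h in
/-- the image in the holomorph of an element of `L ∩ P` -/
theorem psi_mem_map_subgroupOf {P : Subgroup G} {x : G} (hxL : x ∈ L) (hxP : x ∈ P) :
    psi (VV 2 ↥L) ⟨x, hxL⟩ ∈ (P.subgroupOf L).map (psi (VV 2 ↥L)) :=
  ⟨⟨x, hxL⟩, Subgroup.mem_subgroupOf.mpr hxP, rfl⟩

/-- slice (iii-a) of (W4): the block of a minimal offender inside the image of `A₀ ∈ 𝒜(T)` lies in
the image of `P`, when `P ≥ J(T)` contains for every good pair an element of order three modulo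
`C_L(V)` inverted by `a` -/
theorem block_le_map_of_good {H' Q' : Subgroup (Hol (VV 2 ↥L))}
    (hH' : H' = (thompsonSubgroup 2 ↥L).map (psi (VV 2 ↥L)))
    (hS3 : H' = ⨆ A : {A : Subgroup (Hol (VV 2 ↥L)) //
      A ≤ H' ∧ Cfsg.IsBestOffenderOn 2 (VH (VV 2 ↥L)) A}, (A : Subgroup (Hol (VV 2 ↥L))))
    (St : Setup 2 (VH (VV 2 ↥L)) H' Q') {P : Subgroup G}
    (hJP : thompsonSubgroupOf 2 T ≤ P)
    (hgood : ∀ a A, Good T L a A →
      ∃ g ∈ P, g ∈ jOf L ∧ g ∉ cOf L ∧ g ^ 3 ∈ cOf L ∧ a * g * a⁻¹ * g ∈ cOf L)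
    {A₀ : Subgroup G} (hA₀ : A₀ ∈ maxEA 2 T)
    {D : Subgroup (Hol (VV 2 ↥L))} (M : MinOff 2 (VH (VV 2 ↥L)) H' D)
    (hD : D ≤ (A₀.subgroupOf L).map (psi (VV 2 ↥L))) :
    ⁅Q', D⁆ ⊔ D ≤ (P.subgroupOf L).map (psi (VV 2 ↥L)) := by
  obtain ⟨a, haA, haL, haD, ha1, -, hG⟩ := good_of_minOff h St hA₀ M hD
  obtain ⟨g, hgP, hgJ, hgC, hg3, hinv⟩ := hgood a _ hG
  have hgL : g ∈ L := jOf_le L hgJ
  have haP : a ∈ P := by
    apply hJP
    rw [thompsonSubgroupOf_eq]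
    exact (le_sSup hA₀ : A₀ ≤ sSup (maxEA 2 T)) haA
  have hκH : psi (VV 2 ↥L) ⟨g, hgL⟩ ∈ H' := by
    rw [hH']
    exact ⟨⟨g, hgL⟩, (mem_jOf_iff hgL).mp hgJ, rfl⟩
  have hκ1 : psi (VV 2 ↥L) ⟨g, hgL⟩ ≠ 1 := fun hcon => hgC ((mem_cOf_iff hgL).mpr hcon)
  have hκ3 : psi (VV 2 ↥L) ⟨g, hgL⟩ ^ 3 = 1 := by
    have h1 := (mem_cOf_iff (L.pow_mem hgL 3)).mp hg3
    rw [← map_pow]
    exact h1
  have hinv' : psi (VV 2 ↥L) ⟨a, haL⟩ * psi (VV 2 ↥L) ⟨g, hgL⟩ * (psi (VV 2 ↥L) ⟨a, haL⟩)⁻¹ =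
      (psi (VV 2 ↥L) ⟨g, hgL⟩)⁻¹ := by
    have hmem : a * g * a⁻¹ * g ∈ L :=
      L.mul_mem (L.mul_mem (L.mul_mem haL hgL) (L.inv_mem haL)) hgL
    have h1 := (mem_cOf_iff hmem).mp hinv
    have h2 : psi (VV 2 ↥L) ⟨a, haL⟩ * psi (VV 2 ↥L) ⟨g, hgL⟩ * (psi (VV 2 ↥L) ⟨a, haL⟩)⁻¹ *
        psi (VV 2 ↥L) ⟨g, hgL⟩ = 1 := by
      rw [← map_inv, ← map_mul, ← map_mul, ← map_mul]
      exact h1
    exact eq_inv_of_mul_eq_one_left h2
  refine (block_le_closure hS3 St M haD ha1 hκH hκ1 hκ3 hinv').trans ?_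
  rw [Subgroup.closure_le]
  intro x hx
  rcases hx with rfl | hx
  · exact psi_mem_map_subgroupOf haL haP
  · rw [Set.mem_singleton_iff] at hx
    rw [hx]
    exact psi_mem_map_subgroupOf hgL hgP

end lctx

end Cfsg.Agent.Lib.Helper8.JT
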