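import Mathlib
import Cfsg.Agent.Lib.Helper1.CycloGalois

/-!
# Galois sums of roots of unity of `2`-power order
-/

set_option autoImplicit false

namespace Cfsg.Agent.Lib.Helper8

open scoped ComplexConjugate
open Cfsg.Agent.Lib.Helper1

/-- The normalized Galois sum of a `2`-power root of unity. -/
noncomputable def rootAvg (ω : ℂ) : ℤ :=
  by classical exact if ω = 1 then 1 else if ω = -1 then -1 else 0

theorem rootAvg_one : rootAvg 1 = 1 := by
  classical
  unfold rootAvg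
  rw [if_pos rfl]

theorem rootAvg_conj (ω : ℂ) : rootAvg (conj ω) = rootAvg ω := by
  classical
  unfold rootAvg
  have h1 : conj ω = 1 ↔ ω = 1 := by
    constructor
    · intro h
      have := congrArg conj h
      rwa [Complex.conj_conj, map_one] at this
    · intro h
      rw [h, map_one]
  have h2 : conj ω = -1 ↔ ω = -1 := by
    constructor
    · intro h
      have := congrArg conj h
      rwa [Complex.conj_conj, map_neg, map_one] at this
    · intro h
      rw [h, map_neg, map_one]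
  simp only [h1, h2]

section

variable (n : ℕ) [NeZero n] {K : Type*} [Field K] [CharZero K] [IsCyclotomicExtension {n} ℚ K]
  (ι : K →+* ℂ) [Fintype (K ≃ₐ[ℚ] K)] (k : (K ≃ₐ[ℚ] K) → ℕ)
  (hk : ∀ (σ : K ≃ₐ[ℚ] K) (z : K), z ^ n = 1 → σ z = z ^ k σ)
  (hcop : ∀ σ, (k σ).Coprime n)

include ι hk hcop

theorem sum_galois_root_two_pow {ω : ℂ} {j : ℕ} (hω : ω ^ (2 ^ j) = 1) (hj : 2 ^ j ∣ n) :
    ∑ σ : K ≃ₐ[ℚ] K, ω ^ k σ = (Fintype.card (K ≃ₐ[ℚ] K) : ℂ) * (rootAvg ω : ℂ) := by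
  classical
  unfold rootAvg
  by_cases h1 : ω = 1
  · rw [if_pos h1, h1]
    simp
  rw [if_neg h1]
  have hodd : 2 ∣ n → ∀ σ, Odd (k σ) := by
    intro h2 σ
    exact Nat.Coprime.odd_of_right (Nat.Coprime.coprime_dvd_right h2 (hcop σ))
  by_cases h2 : ω = -1
  · rw [if_pos h2, h2]
    have hj0 : j ≠ 0 := by
      rintro rfl
      rw [h2] at hω
      norm_num at hω
    have h2n : 2 ∣ n := dvd_trans (dvd_pow_self 2 hj0) hj
    have : ∀ σ : K ≃ₐ[ℚ] K, (-1 : ℂ) ^ k σ = -1 := fun σ => (hodd h2n σ).neg_one_pow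
    simp only [this, Finset.sum_const, Finset.card_univ, nsmul_eq_mul]
    push_cast
    ring
  rw [if_neg h2]
  push_cast
  rw [mul_zero]
  -- the order of `ω`
  have hω0 : ω ≠ 0 := by
    rintro rfl
    rw [zero_pow (pow_ne_zero _ two_ne_zero)] at hω
    exact zero_ne_one hω
  obtain ⟨m, hmj, hm⟩ := (Nat.dvd_prime_pow Nat.prime_two).1 (orderOf_dvd_of_pow_eq_one hω)
  have hm0 : m ≠ 0 := by
    rintro rfl
    rw [pow_zero, orderOf_eq_one_iff] at hm
    exact h1 hm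
  have hm1 : m ≠ 1 := by
    rintro rfl
    have h3 : ω ^ 2 = 1 := by
      have := pow_orderOf_eq_one ω
      rwa [hm, pow_one] at this
    have h4 : (ω - 1) * (ω + 1) = 0 := by
      linear_combination h3
    rcases mul_eq_zero.1 h4 with h5 | h5
    · exact h1 (sub_eq_zero.1 h5)
    · exact h2 (eq_neg_of_add_eq_zero_left h5)
  have hm2 : 2 ≤ m := by omega
  -- `η = ω ^ (2 ^ (m - 1)) = -1`
  have hη : ω ^ (2 ^ (m - 1)) = -1 := by
    have h3 : (ω ^ (2 ^ (m - 1))) ^ 2 = 1 := by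
      rw [← pow_mul, ← pow_succ, Nat.sub_add_cancel (by omega : 1 ≤ m), ← hm]
      exact pow_orderOf_eq_one ω
    have h4 : ω ^ (2 ^ (m - 1)) ≠ 1 := by
      intro h
      have := orderOf_dvd_of_pow_eq_one h
      rw [hm] at this
      have h5 := Nat.le_of_dvd (by positivity) this
      have h6 : 2 ^ (m - 1) < 2 ^ m := Nat.pow_lt_pow_right (by norm_num) (by omega)
      omega
    have h5 : (ω ^ (2 ^ (m - 1)) - 1) * (ω ^ (2 ^ (m - 1)) + 1) = 0 := by
      linear_combination h3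
    rcases mul_eq_zero.1 h5 with h6 | h6
    · exact absurd (sub_eq_zero.1 h6) h4
    · exact eq_neg_of_add_eq_zero_left h6
  have h2n : 2 ∣ n := dvd_trans (dvd_pow_self 2 (by omega : j ≠ 0)) hj
  obtain ⟨a, n', hn'odd, hn'⟩ := Nat.exists_eq_two_pow_mul_odd (NeZero.ne n)
  set k₀ : ℕ := 1 + 2 ^ (m - 1) * n' with hk₀
  have hk₀odd : Odd k₀ := by
    rw [hk₀]
    have : Even (2 ^ (m - 1) * n') := by
      apply Even.mul_right
      exact (Nat.even_pow' (by omega)).2 even_two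
    exact Even.one_add this
  have hk₀cop : k₀.Coprime n := by
    rw [hn']
    apply Nat.Coprime.mul_right
    · exact Nat.Coprime.pow_right _ hk₀odd.coprime_two_right
    · rw [hk₀, Nat.coprime_add_mul_right_left]
      exact Nat.coprime_one_left n'
  obtain ⟨σ₀, hσ₀⟩ := exists_aut_pow (K := K) n k₀ hk₀cop
  have hωn : ω ^ n = 1 := by
    obtain ⟨c, hc⟩ := hj
    rw [hc, pow_mul, hω, one_pow]
  obtain ⟨z, hz, hzω⟩ := exists_preimage_of_pow_eq_one n ι ω hωn
  have hval : ∀ σ : K ≃ₐ[ℚ] K, ι (σ z) = ω ^ k σ := by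
    intro σ
    rw [hk σ z hz, map_pow, hzω]
  have hshift : ∀ σ : K ≃ₐ[ℚ] K, ω ^ k (σ * σ₀) = -ω ^ k σ := by
    intro σ
    rw [← hval (σ * σ₀), AlgEquiv.mul_apply, hσ₀ z hz, map_pow, map_pow, hval σ, hk₀, pow_add,
      pow_one, ← pow_mul]
    have h3 : ω ^ (k σ * (2 ^ (m - 1) * n')) = -1 := by
      rw [mul_comm, pow_mul, pow_mul, hη, hn'odd.neg_one_pow, (hodd h2n σ).neg_one_pow]
    rw [h3]
    ring
  have hsum : ∑ σ : K ≃ₐ[ℚ] K, ω ^ k σ = ∑ σ : K ≃ₐ[ℚ] K, ω ^ k (σ * σ₀) :=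
    (Equiv.sum_comp (Equiv.mulRight σ₀) (fun σ => ω ^ k σ)).symm
  simp only [hshift, Finset.sum_neg_distrib] at hsum
  have h3 : (2 : ℂ) * ∑ σ : K ≃ₐ[ℚ] K, ω ^ k σ = 0 := by
    linear_combination hsum
  exact (mul_eq_zero.1 h3).resolve_left two_ne_zero

end

end Cfsg.Agent.Lib.Helper8
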