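import Mathlib
import Cfsg.Prelude.Def_Blocks
import Cfsg.Prelude.Def_BlockRank
import Cfsg.Agent.Lib.Helper8.KB8
import Cfsg.Agent.Lib.Helper8.KB10
import Cfsg.Agent.Lib.Helper8.KB11

/-!
# The Galois average of a diagonal contribution of a height zero character is an odd integer
(`p = 2`)
-/

set_option autoImplicit false

namespace Cfsg.Agent.Lib.Helper8

open Cfsg
open scoped ComplexConjugate
open Cfsg.Agent.Lib.Helper1 Cfsg.Agent.Lib.Helper4

universe u

section Parity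

theorem even_sum_offDiag {I : Type*} [DecidableEq I] (s : Finset I) (f : I → I → ℤ)
    (hf : ∀ a b, f a b = f b a) : Even (∑ x ∈ s.offDiag, f x.1 x.2) := by
  rw [← ZMod.intCast_eq_zero_iff_even, Int.cast_sum]
  refine Finset.sum_involution (fun x _ => (x.2, x.1)) ?_ ?_ ?_ ?_
  · intro x _
    show ((f x.1 x.2 : ℤ) : ZMod 2) + ((f x.2 x.1 : ℤ) : ZMod 2) = 0
    rw [hf x.2 x.1]
    exact CharTwo.add_self_eq_zero _
  · intro x hx _ h
    rw [Finset.mem_offDiag] at hx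
    apply hx.2.2
    have := congrArg Prod.fst h
    exact this.symm
  · intro x hx
    rw [Finset.mem_offDiag] at hx ⊢
    exact ⟨hx.2.1, hx.1, fun h => hx.2.2 h.symm⟩
  · intro x _
    rfl

/-- A symmetric double sum of integers has the parity of its diagonal. -/
theorem even_sum_sum_sub_diag {I : Type*} [Fintype I] [DecidableEq I] (f : I → I → ℤ)
    (hf : ∀ a b, f a b = f b a) : Even (∑ a, ∑ b, f a b - ∑ a, f a a) := by
  have h1 : ∑ a, ∑ b, f a b = ∑ x ∈ (Finset.univ : Finset I) ×ˢ (Finset.univ : Finset I),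
      f x.1 x.2 := (Finset.sum_product' _ _ _).symm
  have h2 : ∑ a, f a a = ∑ x ∈ (Finset.univ : Finset I).diag, f x.1 x.2 :=
    (Finset.sum_diag (Finset.univ : Finset I) (fun x : I × I => f x.1 x.2)).symm
  rw [h1, h2, ← Finset.diag_union_offDiag, Finset.sum_union (Finset.disjoint_diag_offDiag _),
    add_sub_cancel_left]
  exact even_sum_offDiag _ f hf

end Parity

section

variable {G : Type u} [Group G] [Fintype G] {M : Ideal AlgInt}

omit [Fintype G] in
/-- The central value of an irreducible character at a central element has absolute value one. -/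
theorem irr_central_div_mul_conj {H : Type u} [Group H] [Fintype H] {ψ : H → ℂ}
    (hψ : IsIrrCharacter H ψ) {z : H} (hz : z ∈ Subgroup.center H) :
    (ψ z / ψ 1) * conj (ψ z / ψ 1) = 1 := by
  have hψ1 := irr_apply_one_ne_zero hψ
  have h1 := irr_central_mul_conj hψ hz
  obtain ⟨n, hn⟩ := isCharacter_apply_one (isCharacter_of_irr hψ)
  rw [map_div₀, hn, Complex.conj_natCast, div_mul_div_comm, h1, hn]
  rw [hn] at hψ1
  field_simp

variable (n : ℕ) [NeZero n] {K : Type*} [Field K] [CharZero K] [IsCyclotomicExtension {n} ℚ K]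
  (ι : K →+* ℂ) [Fintype (K ≃ₐ[ℚ] K)] (k : (K ≃ₐ[ℚ] K) → ℕ)
  (hk : ∀ (σ : K ≃ₐ[ℚ] K) (z : K), z ^ n = 1 → σ z = z ^ k σ)
  (hcop : ∀ σ, (k σ).Coprime n)

include ι hk hcop

/-- For `p = 2` and a height zero character `ζ` of `B = b^G`, the sum over the Galois group of the
scaled diagonal contributions at the powers of `u` is `|Γ|` times an odd integer. -/
theorem exists_odd_avg_contrib (hM : IsPModular 2 M) (C : Subgroup G) [Fintype C] {u : G}
    (hC : ∀ t, t ∈ C ↔ t * u = u * t) (hu : ∃ j : ℕ, orderOf u = 2 ^ j) (hord : orderOf u ∣ n)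
    {b : Set (IrrCharacter C)} {B : Set (IrrCharacter G)} (hind : IsInducedBlock M C b B)
    {ζ : IrrCharacter G} (hζ : ζ ∈ B) (h0 : blockHeight 2 B (ζ : G → ℂ) = 0) :
    ∃ T : ℤ, Odd T ∧ ∑ σ : K ≃ₐ[ℚ] K, (2 : ℂ) ^ (blockDefect 2 b) *
      contrib 2 C b (u ^ k σ) (ζ : G → ℂ) (ζ : G → ℂ) =
        (Fintype.card (K ≃ₐ[ℚ] K) : ℂ) * (T : ℂ) := by
  classical
  haveI : Fact (Nat.Prime 2) := ⟨Nat.prime_two⟩
  have : Fintype (IrrCharacter C) := Fintype.ofFinite _
  have hMp := isPModular_isPrime hM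
  have hb := hind.1
  have hζc := isCharacter_of_irr ζ.2
  obtain ⟨j, hj⟩ := hu
  have huC : u ∈ C := (hC u).2 rfl
  set u' : C := ⟨u, huC⟩ with hu'
  have hcen : u' ∈ Subgroup.center C := by
    rw [Subgroup.mem_center_iff]
    intro c
    apply Subtype.ext
    exact (hC _).1 c.2
  have hu'pow : u' ^ (2 ^ j) = 1 := by
    apply Subtype.ext
    rw [Subgroup.coe_pow, Subgroup.coe_one, hu', ← hj]
    exact pow_orderOf_eq_one u
  set lam : IrrCharacter C → ℂ := fun ψ => (ψ : C → ℂ) u' / (ψ : C → ℂ) 1 with hlam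
  have hlampow : ∀ ψ : IrrCharacter C, lam ψ ^ (2 ^ j) = 1 := by
    intro ψ
    rw [hlam]
    simp only
    rw [irr_central_pow ψ.2 hcen, hu'pow, div_self (irr_apply_one_ne_zero ψ.2)]
  have hlamnorm : ∀ ψ : IrrCharacter C, lam ψ * conj (lam ψ) = 1 :=
    fun ψ => irr_central_div_mul_conj ψ.2 hcen
  set ω : IrrCharacter C → IrrCharacter C → ℂ := fun ψ ψ' => lam ψ' * conj (lam ψ) with hω
  have hωpow : ∀ ψ ψ', ω ψ ψ' ^ (2 ^ j) = 1 := by
    intro ψ ψ'
    rw [hω]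
    simp only
    rw [mul_pow, ← map_pow, hlampow, hlampow, map_one, one_mul]
  have hωdiag : ∀ ψ, ω ψ ψ = 1 := fun ψ => hlamnorm ψ
  have hωsymm : ∀ ψ ψ', ω ψ' ψ = conj (ω ψ ψ') := by
    intro ψ ψ'
    rw [hω]
    simp only
    rw [map_mul, Complex.conj_conj, mul_comm]
  -- the exponents
  have hkord : ∀ σ, (k σ).Coprime (orderOf u) :=
    fun σ => Nat.Coprime.coprime_dvd_right hord (hcop σ)
  have hCσ : ∀ σ, ∀ t, t ∈ C ↔ t * u ^ k σ = u ^ k σ * t :=
    fun σ => centralizer_pow_iff C hC (hkord σ)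
  have huσ : ∀ σ, ∃ i : ℕ, orderOf (u ^ k σ) = 2 ^ i :=
    fun σ => ⟨j, by rw [(hkord σ).symm.orderOf_pow, hj]⟩
  -- the formula
  have hformula : ∀ σ : K ≃ₐ[ℚ] K, (2 : ℂ) ^ (blockDefect 2 b) *
      contrib 2 C b (u ^ k σ) (ζ : G → ℂ) (ζ : G → ℂ) =
      ∑ ψ : IrrCharacter C, ∑ ψ' : IrrCharacter C,
        kbWeight 2 C b (ζ : G → ℂ) ψ ψ' * ω ψ ψ' ^ k σ := by
    intro σ
    have h1 := pow_mul_contrib_self_eq hM C (hCσ σ) hb hζc (fun ψ => lam ψ ^ k σ)
      (by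
        intro ψ
        rw [hlam]
        simp only
        rw [irr_central_pow ψ.2 hcen]
        congr 2)
    have h2 : ((2 : ℕ) : ℂ) = 2 := by norm_num
    rw [h2] at h1
    rw [h1]
    refine Finset.sum_congr rfl fun ψ _ => Finset.sum_congr rfl fun ψ' _ => ?_
    rw [hω]
    simp only
    rw [mul_pow, map_pow]
  -- integer weights
  have hwint : ∀ ψ ψ' : IrrCharacter C, ∃ m : ℤ, kbWeight 2 C b (ζ : G → ℂ) ψ ψ' = (m : ℂ) :=
    fun ψ ψ' => exists_int_kbWeight hM C hb hζc ψ ψ'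
  choose wz hwz using hwint
  have hwzsymm : ∀ ψ ψ', wz ψ ψ' = wz ψ' ψ := by
    intro ψ ψ'
    have h1 := kbWeight_symm hM C hb (ζ : G → ℂ) ψ ψ'
    rw [hwz, hwz] at h1
    exact_mod_cast h1
  -- the sum over the Galois group
  have h2jn : 2 ^ j ∣ n := hj ▸ hord
  set T : ℤ := ∑ ψ : IrrCharacter C, ∑ ψ' : IrrCharacter C, wz ψ ψ' * rootAvg (ω ψ ψ') with hT
  set W : ℤ := ∑ ψ : IrrCharacter C, ∑ ψ' : IrrCharacter C, wz ψ ψ' with hW
  have hsum : ∑ σ : K ≃ₐ[ℚ] K, (2 : ℂ) ^ (blockDefect 2 b) *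
      contrib 2 C b (u ^ k σ) (ζ : G → ℂ) (ζ : G → ℂ) =
        (Fintype.card (K ≃ₐ[ℚ] K) : ℂ) * (T : ℂ) := by
    rw [Finset.sum_congr rfl (fun σ _ => hformula σ), Finset.sum_comm]
    rw [hT]
    push_cast
    rw [Finset.mul_sum]
    refine Finset.sum_congr rfl fun ψ _ => ?_
    rw [Finset.sum_comm, Finset.mul_sum]
    refine Finset.sum_congr rfl fun ψ' _ => ?_
    rw [← Finset.mul_sum, sum_galois_root_two_pow n ι k hk hcop (hωpow ψ ψ') h2jn, hwz]
    ring
  refine ⟨T, ?_, hsum⟩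
  -- `W` is odd
  have hWodd : Odd W := by
    have hm1 := not_memLocalIdeal_pow_mul_contrib hM C (hCσ 1) (huσ 1) hind hζ hζ h0 h0
    have h2 : ((2 : ℕ) : ℂ) = 2 := by norm_num
    rw [h2, hformula 1] at hm1
    have hdiff : MemLocalIdeal M (∑ ψ : IrrCharacter C, ∑ ψ' : IrrCharacter C,
        kbWeight 2 C b (ζ : G → ℂ) ψ ψ' * ω ψ ψ' ^ k 1 - (W : ℂ)) := by
      rw [hW]
      push_cast
      rw [← Finset.sum_sub_distrib]
      apply memLocalIdeal_sum hMp
      intro ψ _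
      rw [← Finset.sum_sub_distrib]
      apply memLocalIdeal_sum hMp
      intro ψ' _
      rw [hwz]
      have : (wz ψ ψ' : ℂ) * ω ψ ψ' ^ k 1 - (wz ψ ψ' : ℂ) =
          (wz ψ ψ' : ℂ) * (ω ψ ψ' ^ k 1 - 1) := by ring
      rw [this]
      apply memLocalIdeal_mul_left hMp (memLocalRing_intCast hMp.ne_top _)
      apply memLocalIdeal_sub_one_of_pow_eq_one hM j
      rw [← pow_mul, mul_comm, pow_mul, hωpow, one_pow]
    have hWJ : ¬ MemLocalIdeal M (W : ℂ) := by
      intro hJ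
      apply hm1
      have := memLocalIdeal_add hMp hdiff hJ
      rwa [sub_add_cancel] at this
    rw [memLocalIdeal_intCast_iff hM] at hWJ
    rw [← Int.not_even_iff_odd]
    intro he
    apply hWJ
    exact_mod_cast he.two_dvd
  -- `T ≡ W mod 2`
  have hpar1 := even_sum_sum_sub_diag (fun ψ ψ' : IrrCharacter C => wz ψ ψ' * rootAvg (ω ψ ψ'))
    (by
      intro ψ ψ'
      rw [hwzsymm ψ ψ', hωsymm ψ' ψ, rootAvg_conj])
  have hpar2 := even_sum_sum_sub_diag (fun ψ ψ' : IrrCharacter C => wz ψ ψ') hwzsymm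
  have hdiag : ∑ ψ : IrrCharacter C, wz ψ ψ * rootAvg (ω ψ ψ) = ∑ ψ : IrrCharacter C, wz ψ ψ := by
    refine Finset.sum_congr rfl fun ψ _ => ?_
    rw [hωdiag, rootAvg_one, mul_one]
  rw [hdiag] at hpar1
  have hTW : Even (T - W) := by
    have : T - W = (T - ∑ ψ : IrrCharacter C, wz ψ ψ) - (W - ∑ ψ : IrrCharacter C, wz ψ ψ) := by
      ring
    rw [this]
    exact hpar1.sub hpar2
  have : T = (T - W) + W := by ring
  rw [this]
  exact hTW.add_odd hWodd

end

end Cfsg.Agent.Lib.Helper8
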