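import Mathlib
import Cfsg.Prelude.Def_Blocks
import Cfsg.Prelude.Def_BlockRank
import Cfsg.Agent.Lib.Helper8.KB12

/-!
# The `2`-block refinement of `k₀(B) ≤ 2^q √l(b)`
-/

set_option autoImplicit false

namespace Cfsg.Agent.Lib.Helper8

open Cfsg
open scoped ComplexConjugate
open Cfsg.Agent.Lib.Helper1 Cfsg.Agent.Lib.Helper4

universe u

section Arith

/-- The arithmetic behind the refinement. -/
theorem kzero_arith {I : Type*} (S : Finset I) (T : I → ℤ) (q l : ℕ)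
    (hodd : ∀ ζ ∈ S, Odd (T ζ)) (hrow : ∀ ζ ∈ S, (S.card : ℤ) ≤ 2 ^ q * T ζ)
    (htr : ∑ ζ ∈ S, T ζ ≤ 2 ^ q * (l : ℤ)) :
    (Odd (Nat.sqrt l) → S.card ≤ Nat.sqrt l * 2 ^ q) ∧
    (¬ Odd (Nat.sqrt l) → (Nat.sqrt l + 1) * S.card ≤ l * 2 ^ q) := by
  set s := Nat.sqrt l with hs
  have hs1 : s * s ≤ l := Nat.sqrt_le l
  have hs2 : l < (s + 1) * (s + 1) := Nat.lt_succ_sqrt l
  have h2q : (0 : ℤ) < 2 ^ q := by positivity
  constructor
  · intro hsodd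
    by_contra hcon
    push Not at hcon
    have hT : ∀ ζ ∈ S, (s : ℤ) + 2 ≤ T ζ := by
      intro ζ hζ
      have h1 := hrow ζ hζ
      have h2 : (s : ℤ) * 2 ^ q < 2 ^ q * T ζ := by
        have : ((s * 2 ^ q : ℕ) : ℤ) < (S.card : ℤ) := by exact_mod_cast hcon
        push_cast at this
        linarith
      have h3 : (s : ℤ) < T ζ := by
        rw [mul_comm] at h2
        exact lt_of_mul_lt_mul_left h2 h2q.le
      obtain ⟨a, ha⟩ := hodd ζ hζ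
      obtain ⟨c, hc⟩ := hsodd
      rw [hc] at h3 ⊢
      push_cast at h3 ⊢
      omega
    have hsum : (S.card : ℤ) * ((s : ℤ) + 2) ≤ ∑ ζ ∈ S, T ζ := by
      calc (S.card : ℤ) * ((s : ℤ) + 2) = ∑ _ζ ∈ S, ((s : ℤ) + 2) := by
            rw [Finset.sum_const, nsmul_eq_mul]
        _ ≤ ∑ ζ ∈ S, T ζ := Finset.sum_le_sum hT
    have hl : (l : ℤ) ≤ (s : ℤ) * ((s : ℤ) + 2) := by
      have : l ≤ s * (s + 2) := by nlinarith
      exact_mod_cast this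
    have h4 : (S.card : ℤ) * ((s : ℤ) + 2) ≤ (2 ^ q * (s : ℤ)) * ((s : ℤ) + 2) := by
      calc (S.card : ℤ) * ((s : ℤ) + 2) ≤ 2 ^ q * (l : ℤ) := hsum.trans htr
        _ ≤ 2 ^ q * ((s : ℤ) * ((s : ℤ) + 2)) := mul_le_mul_of_nonneg_left hl h2q.le
        _ = (2 ^ q * (s : ℤ)) * ((s : ℤ) + 2) := by ring
    have h5 : (S.card : ℤ) ≤ 2 ^ q * (s : ℤ) :=
      le_of_mul_le_mul_right h4 (by positivity)
    have h6 : ((s * 2 ^ q : ℕ) : ℤ) < (S.card : ℤ) := by exact_mod_cast hcon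
    push_cast at h6
    linarith
  · intro hseven
    by_contra hcon
    push Not at hcon
    have hT : ∀ ζ ∈ S, (s : ℤ) + 1 ≤ T ζ := by
      intro ζ hζ
      have h1 := hrow ζ hζ
      have h2 : ((l * 2 ^ q : ℕ) : ℤ) < (((s + 1) * S.card : ℕ) : ℤ) := by exact_mod_cast hcon
      push_cast at h2
      have h3 : (s : ℤ) * (s : ℤ) * 2 ^ q < ((s : ℤ) + 1) * (2 ^ q * T ζ) := by
        have h4 : (s : ℤ) * (s : ℤ) ≤ (l : ℤ) := by exact_mod_cast hs1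
        have h5 : (s : ℤ) * (s : ℤ) * 2 ^ q ≤ (l : ℤ) * 2 ^ q :=
          mul_le_mul_of_nonneg_right h4 h2q.le
        have h6 : ((s : ℤ) + 1) * (S.card : ℤ) ≤ ((s : ℤ) + 1) * (2 ^ q * T ζ) :=
          mul_le_mul_of_nonneg_left h1 (by positivity)
        linarith
      have h4 : (s : ℤ) * (s : ℤ) < ((s : ℤ) + 1) * T ζ := by
        have : (2 : ℤ) ^ q * ((s : ℤ) * (s : ℤ)) < 2 ^ q * (((s : ℤ) + 1) * T ζ) := by
          calc (2 : ℤ) ^ q * ((s : ℤ) * (s : ℤ)) = (s : ℤ) * (s : ℤ) * 2 ^ q := by ring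
            _ < ((s : ℤ) + 1) * (2 ^ q * T ζ) := h3
            _ = 2 ^ q * (((s : ℤ) + 1) * T ζ) := by ring
        exact lt_of_mul_lt_mul_left this h2q.le
      have h5 : (s : ℤ) ≤ T ζ := by
        by_contra h
        push Not at h
        have h6 : T ζ ≤ (s : ℤ) - 1 := by omega
        have h7 : ((s : ℤ) + 1) * T ζ ≤ ((s : ℤ) + 1) * ((s : ℤ) - 1) :=
          mul_le_mul_of_nonneg_left h6 (by positivity)
        nlinarith
      obtain ⟨a, ha⟩ := hodd ζ hζ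
      rw [Nat.not_odd_iff_even] at hseven
      obtain ⟨c, hc⟩ := hseven
      rw [hc] at h5 ⊢
      push_cast at h5 ⊢
      omega
    have hsum : (S.card : ℤ) * ((s : ℤ) + 1) ≤ ∑ ζ ∈ S, T ζ := by
      calc (S.card : ℤ) * ((s : ℤ) + 1) = ∑ _ζ ∈ S, ((s : ℤ) + 1) := by
            rw [Finset.sum_const, nsmul_eq_mul]
        _ ≤ ∑ ζ ∈ S, T ζ := Finset.sum_le_sum hT
    have h6 : ((l * 2 ^ q : ℕ) : ℤ) < (((s + 1) * S.card : ℕ) : ℤ) := by exact_mod_cast hcon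
    push_cast at h6
    have := hsum.trans htr
    linarith

end Arith

section

variable {G : Type u} [Group G] [Fintype G] {M : Ideal AlgInt}

/-- The odd integers attached to the height zero characters (`p = 2`). -/
theorem exists_odd_diag (hM : IsPModular 2 M) {B : Set (IrrCharacter G)} (C : Subgroup G)
    [Fintype C] {u : G} (hC : ∀ t, t ∈ C ↔ t * u = u * t) (hu : ∃ j : ℕ, orderOf u = 2 ^ j)
    {b : Set (IrrCharacter C)} (hind : IsInducedBlock M C b B) [Fintype (IrrCharacter G)]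
    (S : Finset (IrrCharacter G))
    (hS : ∀ ζ ∈ S, ζ ∈ B ∧ blockHeight 2 B (ζ : G → ℂ) = 0) :
    ∃ T : IrrCharacter G → ℤ, (∀ ζ ∈ S, Odd (T ζ)) ∧
      (∀ ζ ∈ S, (S.card : ℤ) ≤ 2 ^ (blockDefect 2 b) * T ζ) ∧
      ∑ ζ ∈ S, T ζ ≤ 2 ^ (blockDefect 2 b) * (blockRank 2 b : ℤ) := by
  classical
  haveI : Fact (Nat.Prime 2) := ⟨Nat.prime_two⟩
  have hMp := isPModular_isPrime hM
  have hb := hind.1
  obtain ⟨N, hN⟩ : ∃ N, N = Nat.card G := ⟨_, rfl⟩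
  have hN0 : NeZero N := ⟨hN ▸ Nat.card_pos.ne'⟩
  let K := CyclotomicField N ℚ
  have hcyc : IsCyclotomicExtension {N} ℚ K :=
    CyclotomicField.instIsCyclotomicExtensionSingletonNatSetOfCharZero N ℚ
  let ι : K →+* ℂ := ((IsAlgClosed.lift : K →ₐ[ℚ] ℂ) : K →+* ℂ)
  have hfd : FiniteDimensional ℚ K := IsCyclotomicExtension.finiteDimensional {N} ℚ K
  have hk : ∀ σ : K ≃ₐ[ℚ] K, ∃ k : ℕ, k.Coprime N ∧ ∀ z : K, z ^ N = 1 → σ z = z ^ k :=
    fun σ => aut_pow N σ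
  choose k hk1 hk2 using hk
  have hfin : Finite (K ≃ₐ[ℚ] K) := inferInstance
  have : Fintype (K ≃ₐ[ℚ] K) := Fintype.ofFinite _
  have hn : ∀ g : G, g ^ N = 1 := fun g => hN ▸ pow_card_eq_one'
  have hcop : ∀ σ, (Nat.card G).Coprime (k σ) := fun σ => (hN ▸ hk1 σ).symm
  have hord : orderOf u ∣ N := hN ▸ orderOf_dvd_natCard u
  set q := blockDefect 2 b with hq
  have hkord : ∀ σ, (k σ).Coprime (orderOf u) :=
    fun σ => Nat.Coprime.coprime_dvd_right (orderOf_dvd_natCard u) (hcop σ).symm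
  have hCσ : ∀ σ, ∀ t, t ∈ C ↔ t * u ^ k σ = u ^ k σ * t :=
    fun σ => centralizer_pow_iff C hC (hkord σ)
  have huσ : ∀ σ, ∃ j : ℕ, orderOf (u ^ k σ) = 2 ^ j := by
    intro σ
    obtain ⟨j, hj⟩ := hu
    exact ⟨j, by rw [(hkord σ).symm.orderOf_pow, hj]⟩
  have hcardpos : (0 : ℝ) < Fintype.card (K ≃ₐ[ℚ] K) := by
    exact_mod_cast Fintype.card_pos
  -- the diagonal entries
  set d : (K ≃ₐ[ℚ] K) → IrrCharacter G → ℝ := fun σ ζ =>
    ∑ ξ : IrrCharacter G, Complex.normSq (contrib 2 C b (u ^ k σ) (ζ : G → ℂ) (ξ : G → ℂ)) with hd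
  have hdC : ∀ σ ζ, ((d σ ζ : ℝ) : ℂ) = contrib 2 C b (u ^ k σ) (ζ : G → ℂ) (ζ : G → ℂ) :=
    fun σ ζ => sum_normSq_contrib_eq_self hM C (hCσ σ) (huσ σ) hb (isClassFunction_irr ζ.2)
  -- the odd integers
  have hex : ∀ ζ : IrrCharacter G, ∃ T : ℤ, ζ ∈ S → (Odd T ∧
      ∑ σ : K ≃ₐ[ℚ] K, (2 : ℝ) ^ q * d σ ζ = (Fintype.card (K ≃ₐ[ℚ] K) : ℝ) * (T : ℝ)) := by
    intro ζ
    by_cases hζ : ζ ∈ S
    · obtain ⟨T, hTodd, hT⟩ := exists_odd_avg_contrib N ι k hk2 hk1 hM C hC hu hord hind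
        (hS ζ hζ).1 (hS ζ hζ).2
      refine ⟨T, fun _ => ⟨hTodd, ?_⟩⟩
      apply Complex.ofReal_injective
      push_cast
      rw [← hT]
      refine Finset.sum_congr rfl fun σ _ => ?_
      rw [hdC]
    · exact ⟨0, fun h => absurd h hζ⟩
  choose T hT using hex
  refine ⟨T, fun ζ hζ => (hT ζ hζ).1, ?_, ?_⟩
  · -- rows
    intro ζ hζ
    have hζB := (hS ζ hζ).1
    have hζ0 := (hS ζ hζ).2
    have hζc := isCharacter_of_irr ζ.2
    have hpair : ∀ ξ ∈ S, (Fintype.card (K ≃ₐ[ℚ] K) : ℝ) ≤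
        (2 : ℝ) ^ (2 * q) * ∑ σ : K ≃ₐ[ℚ] K,
          Complex.normSq (contrib 2 C b (u ^ k σ) (ζ : G → ℂ) (ξ : G → ℂ)) := by
      intro ξ hξ
      have hξB := (hS ξ hξ).1
      have hξ0 := (hS ξ hξ).2
      have hξc := isCharacter_of_irr ξ.2
      have htr : Tracked ι (fun σ => ((2 ^ q : ℕ) : ℂ) *
          contrib 2 C b (u ^ k σ) (ζ : G → ℂ) (ξ : G → ℂ)) :=
        (tracked_natCast _).mul (tracked_contrib N ι k hk2 hn hcop 2 C hC b hζc hξc)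
      have hint : IsIntegral ℤ (((2 ^ q : ℕ) : ℂ) *
          contrib 2 C b (u ^ k 1) (ζ : G → ℂ) (ξ : G → ℂ)) := by
        have := isIntegral_pow_mul_contrib hM C (hCσ 1) hb hζc hξc
        push_cast at this ⊢
        exact this
      have hne : ((2 ^ q : ℕ) : ℂ) * contrib 2 C b (u ^ k 1) (ζ : G → ℂ) (ξ : G → ℂ) ≠ 0 := by
        intro h0
        have := not_memLocalIdeal_pow_mul_contrib hM C (hCσ 1) (huσ 1) hind hζB hξB hζ0 hξ0
        apply this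
        push_cast at h0 ⊢
        rw [h0]
        exact memLocalIdeal_zero hMp.ne_top
      have h1 := card_le_sum_normSq_of_tracked N ι htr hint hne
      have h2 : ∀ σ : K ≃ₐ[ℚ] K, Complex.normSq (((2 ^ q : ℕ) : ℂ) *
          contrib 2 C b (u ^ k σ) (ζ : G → ℂ) (ξ : G → ℂ)) =
          (2 : ℝ) ^ (2 * q) *
            Complex.normSq (contrib 2 C b (u ^ k σ) (ζ : G → ℂ) (ξ : G → ℂ)) := by
        intro σ
        rw [Complex.normSq_mul, Complex.normSq_natCast]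
        push_cast
        ring
      rw [Finset.sum_congr rfl (fun σ _ => h2 σ), ← Finset.mul_sum] at h1
      exact h1
    have h1 : (S.card : ℝ) * (Fintype.card (K ≃ₐ[ℚ] K) : ℝ) ≤
        (2 : ℝ) ^ (2 * q) * ∑ σ : K ≃ₐ[ℚ] K, d σ ζ := by
      calc (S.card : ℝ) * (Fintype.card (K ≃ₐ[ℚ] K) : ℝ)
          = ∑ _ξ ∈ S, (Fintype.card (K ≃ₐ[ℚ] K) : ℝ) := by
            rw [Finset.sum_const, nsmul_eq_mul]
        _ ≤ ∑ ξ ∈ S, (2 : ℝ) ^ (2 * q) * ∑ σ : K ≃ₐ[ℚ] K,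
              Complex.normSq (contrib 2 C b (u ^ k σ) (ζ : G → ℂ) (ξ : G → ℂ)) :=
            Finset.sum_le_sum hpair
        _ = (2 : ℝ) ^ (2 * q) * ∑ σ : K ≃ₐ[ℚ] K, ∑ ξ ∈ S,
              Complex.normSq (contrib 2 C b (u ^ k σ) (ζ : G → ℂ) (ξ : G → ℂ)) := by
            rw [← Finset.mul_sum, Finset.sum_comm]
        _ ≤ (2 : ℝ) ^ (2 * q) * ∑ σ : K ≃ₐ[ℚ] K, d σ ζ := by
            apply mul_le_mul_of_nonneg_left _ (by positivity)
            apply Finset.sum_le_sum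
            intro σ _
            exact Finset.sum_le_sum_of_subset_of_nonneg (Finset.subset_univ S)
              (fun ξ _ _ => Complex.normSq_nonneg _)
    have h2 := (hT ζ hζ).2
    rw [← Finset.mul_sum] at h2
    have h3 : (2 : ℝ) ^ (2 * q) * ∑ σ : K ≃ₐ[ℚ] K, d σ ζ =
        (2 : ℝ) ^ q * ((Fintype.card (K ≃ₐ[ℚ] K) : ℝ) * (T ζ : ℝ)) := by
      rw [← h2]
      ring
    rw [h3] at h1
    have h4 : (S.card : ℝ) * (Fintype.card (K ≃ₐ[ℚ] K) : ℝ) ≤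
        ((2 : ℝ) ^ q * (T ζ : ℝ)) * (Fintype.card (K ≃ₐ[ℚ] K) : ℝ) := by
      calc (S.card : ℝ) * (Fintype.card (K ≃ₐ[ℚ] K) : ℝ)
          ≤ (2 : ℝ) ^ q * ((Fintype.card (K ≃ₐ[ℚ] K) : ℝ) * (T ζ : ℝ)) := h1
        _ = ((2 : ℝ) ^ q * (T ζ : ℝ)) * (Fintype.card (K ≃ₐ[ℚ] K) : ℝ) := by ring
    have h5 := le_of_mul_le_mul_right h4 hcardpos
    exact_mod_cast h5
  · -- trace
    have h1 : (Fintype.card (K ≃ₐ[ℚ] K) : ℝ) * ∑ ζ ∈ S, (T ζ : ℝ) =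
        (2 : ℝ) ^ q * ∑ σ : K ≃ₐ[ℚ] K, ∑ ζ ∈ S, d σ ζ := by
      rw [Finset.mul_sum, Finset.sum_comm, Finset.mul_sum]
      refine Finset.sum_congr rfl fun ζ hζ => ?_
      rw [← (hT ζ hζ).2, Finset.mul_sum]
    have h2 : ∀ σ : K ≃ₐ[ℚ] K, ∑ ζ ∈ S, d σ ζ ≤ (blockRank 2 b : ℝ) := by
      intro σ
      rw [← sum_sum_normSq_contrib hM C (hCσ σ) (huσ σ) hb]
      exact Finset.sum_le_sum_of_subset_of_nonneg (Finset.subset_univ S)
        (fun ζ _ _ => Finset.sum_nonneg (fun ξ _ => Complex.normSq_nonneg _))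
    have h3 : (Fintype.card (K ≃ₐ[ℚ] K) : ℝ) * ∑ ζ ∈ S, (T ζ : ℝ) ≤
        ((2 : ℝ) ^ q * (blockRank 2 b : ℝ)) * (Fintype.card (K ≃ₐ[ℚ] K) : ℝ) := by
      rw [h1]
      calc (2 : ℝ) ^ q * ∑ σ : K ≃ₐ[ℚ] K, ∑ ζ ∈ S, d σ ζ
          ≤ (2 : ℝ) ^ q * ∑ _σ : K ≃ₐ[ℚ] K, (blockRank 2 b : ℝ) :=
            mul_le_mul_of_nonneg_left (Finset.sum_le_sum (fun σ _ => h2 σ)) (by positivity)
        _ = ((2 : ℝ) ^ q * (blockRank 2 b : ℝ)) * (Fintype.card (K ≃ₐ[ℚ] K) : ℝ) := by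
            rw [Finset.sum_const, Finset.card_univ, nsmul_eq_mul]
            ring
    rw [mul_comm] at h3
    have h4 := le_of_mul_le_mul_right h3 hcardpos
    exact_mod_cast h4

/-- **The refinement for `p = 2`.** -/
theorem kzero_bounds_two (hM : IsPModular 2 M) {B : Set (IrrCharacter G)} (C : Subgroup G)
    [Fintype C] {u : G} (hC : ∀ t, t ∈ C ↔ t * u = u * t) (hu : ∃ j : ℕ, orderOf u = 2 ^ j)
    {b : Set (IrrCharacter C)} (hind : IsInducedBlock M C b B) :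
    (Odd (Nat.sqrt (blockRank 2 b)) →
      Nat.card {χ : IrrCharacter G // χ ∈ B ∧ blockHeight 2 B (χ : G → ℂ) = 0} ≤
        Nat.sqrt (blockRank 2 b) * 2 ^ blockDefect 2 b) ∧
    (¬ Odd (Nat.sqrt (blockRank 2 b)) →
      (Nat.sqrt (blockRank 2 b) + 1) *
        Nat.card {χ : IrrCharacter G // χ ∈ B ∧ blockHeight 2 B (χ : G → ℂ) = 0} ≤
        blockRank 2 b * 2 ^ blockDefect 2 b) := by
  classical
  have : Fintype (IrrCharacter G) := Fintype.ofFinite _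
  set S : Finset (IrrCharacter G) :=
    Finset.univ.filter (fun ζ => ζ ∈ B ∧ blockHeight 2 B (ζ : G → ℂ) = 0) with hS
  have hcard : Nat.card {χ : IrrCharacter G // χ ∈ B ∧ blockHeight 2 B (χ : G → ℂ) = 0} =
      S.card := by
    rw [Nat.card_eq_fintype_card]
    exact Fintype.card_of_subtype S (fun x => by simp [hS])
  obtain ⟨T, hTodd, hrow, htr⟩ := exists_odd_diag hM C hC hu hind S
    (fun ζ hζ => (Finset.mem_filter.1 hζ).2)
  rw [hcard]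
  exact kzero_arith S T _ _ hTodd hrow htr

end

end Cfsg.Agent.Lib.Helper8
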