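import Mathlib
import Cfsg.Prelude.Def_Blocks
import Cfsg.Prelude.Def_BrauerPairs
import Cfsg.Agent.Lib.Helper8.KC5

/-!
# Brauer's theorems on cores of local subgroups in kernels of blocks
-/

set_option autoImplicit false
set_option linter.unusedSectionVars false

namespace Cfsg.Agent.Lib.Helper8

open Cfsg
open scoped ComplexConjugate
open Cfsg.Agent.Lib.Helper1 Cfsg.Agent.Lib.Helper4

universe u

section

variable {G : Type u} [Group G] [Fintype G] {M : Ideal AlgInt} {p : ℕ} [Fact p.Prime]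

/-- Under the hypothesis on the Brauer correspondent, every Brauer pair of `B` has the core of
its centralizer in its kernel. -/
theorem KP_of_hker (hM : IsPModular p M) {π : Set ℕ} (hpπ : p ∈ π)
    {B : Set (IrrCharacter G)} (hB : IsPBlock M B) {D : Subgroup G} (hBD : IsDefectGroup p M B D)
    {B₁ : Set (IrrCharacter ↥(Subgroup.normalizer (D : Set G)))}
    (hB₁ : IsInducedBlock M (Subgroup.normalizer (D : Set G)) B₁ B)
    (hB₁D : IsDefectGroup p M B₁ (D.subgroupOf (Subgroup.normalizer (D : Set G))))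
    (hker : ∀ n : ↥(Subgroup.normalizer (D : Set G)),
      n ∈ piCore {q | q ∉ π} ↥(Subgroup.normalizer (D : Set G)) → n ∈ blockKer B₁)
    {Q : Subgroup G} {f : Set (IrrCharacter (Subgroup.centralizer (Q : Set G)))}
    (hQf : IsBrauerPairOf p M B Q f) : KP π ⟨Q, f⟩ := by
  obtain ⟨fD, hmax, hiff⟩ := exists_top_pair hM hpπ hB hBD hB₁ hB₁D
  have h1 := hiff.1 hker
  apply KP_of_max hM hpπ hmax _ hQf
  intro c hc ξ hξ
  apply h1 ξ hξ c
  have hle := piCoreOf_le_piCoreOf_of_normal {q | q ∉ π}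
    (Subgroup.centralizer_le_normalizer (D : Set G))
    (normalizer_le_normalizer_centralizer D)
  exact hle ((mem_piCoreOf_iff _ _ c).2 hc)

/-- **Brauer**: cores of subgroups containing the centralizer of a defect group lie in the
kernel. -/
theorem core_le_blockKer (hM : IsPModular p M) {π : Set ℕ} (hpπ : p ∈ π)
    {B : Set (IrrCharacter G)} (hB : IsPBlock M B) {D : Subgroup G} (hBD : IsDefectGroup p M B D)
    {B₁ : Set (IrrCharacter ↥(Subgroup.normalizer (D : Set G)))}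
    (hB₁ : IsInducedBlock M (Subgroup.normalizer (D : Set G)) B₁ B)
    (hB₁D : IsDefectGroup p M B₁ (D.subgroupOf (Subgroup.normalizer (D : Set G))))
    (hker : ∀ n : ↥(Subgroup.normalizer (D : Set G)),
      n ∈ piCore {q | q ∉ π} ↥(Subgroup.normalizer (D : Set G)) → n ∈ blockKer B₁)
    (G₀ : Subgroup G) {B₀ : Set (IrrCharacter ↥G₀)} (hB₀ : IsInducedBlock M G₀ B₀ B)
    {D₀ : Subgroup ↥G₀} (hD₀ : IsDefectGroup p M B₀ D₀)
    (hC : Subgroup.centralizer ((D₀.map G₀.subtype : Subgroup G) : Set G) ≤ G₀) :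
    ∀ x : ↥G₀, x ∈ piCore {q | q ∉ π} ↥G₀ → x ∈ blockKer B₀ := by
  classical
  have : Fintype ↥G₀ := Fintype.ofFinite _
  obtain ⟨hKH, b₀, f, hind, hbe, hBf⟩ := exists_root_pair hM G₀ hD₀ _ rfl hC hB₀ _ rfl
  have hKP := KP_of_hker hM hpπ hB hBD hB₁ hB₁D hker hBf
  have hW : ¬ p ∣ Nat.card (piCore {q | q ∉ π} ↥G₀) := by
    intro h
    exact isPiNum_card_piCore (G := ↥G₀) {q | q ∉ π} p hM.1 h hpπ
  have key := ker_root_transfer hM G₀ _ hBf.1.1 _ rfl hKH hind hbe (piCore {q | q ∉ π} ↥G₀) hW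
  intro x hx ψ hψ
  refine key.2 ?_ ψ hψ x hx
  intro ξ hξ c hc
  exact hKP c (mem_piCore_of_mem_piCoreOf {q | q ∉ π} hC c hc) ξ hξ

/-- **Brauer**: the converse direction, from a local pair up to the Brauer correspondent. -/
theorem hker_of_pair (hM : IsPModular p M) {π : Set ℕ} (hpπ : p ∈ π)
    {B : Set (IrrCharacter G)} (hB : IsPBlock M B) {D : Subgroup G} (hBD : IsDefectGroup p M B D)
    {B₁ : Set (IrrCharacter ↥(Subgroup.normalizer (D : Set G)))}
    (hB₁ : IsInducedBlock M (Subgroup.normalizer (D : Set G)) B₁ B)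
    (hB₁D : IsDefectGroup p M B₁ (D.subgroupOf (Subgroup.normalizer (D : Set G))))
    (D₀ : Subgroup G) (hD₀ : IsPGroup p D₀) (H₀ : Subgroup G)
    (hH₀ : H₀ = D₀ ⊔ Subgroup.centralizer (D₀ : Set G))
    {b : Set (IrrCharacter ↥H₀)} (hb : IsInducedBlock M H₀ b B)
    (hcompl : ∀ x : ↥(Subgroup.centralizer (D₀ : Set G)),
      (∀ q : ℕ, q.Prime → q ∣ orderOf x → q ∉ π) →
        x ∈ piCore {q | q ∉ π} ↥(Subgroup.centralizer (D₀ : Set G)))
    (hkerb : ∀ x : ↥(Subgroup.centralizer (D₀ : Set G)),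
      x ∈ piCore {q | q ∉ π} ↥(Subgroup.centralizer (D₀ : Set G)) →
        ∀ θ ∈ b, ∀ h : ↥H₀, (h : G) = (x : G) → (θ : ↥H₀ → ℂ) h = (θ : ↥H₀ → ℂ) 1) :
    ∀ n : ↥(Subgroup.normalizer (D : Set G)),
      n ∈ piCore {q | q ∉ π} ↥(Subgroup.normalizer (D : Set G)) → n ∈ blockKer B₁ := by
  classical
  have : Fintype ↥H₀ := Fintype.ofFinite _
  obtain ⟨fD, hmax, hiff⟩ := exists_top_pair hM hpπ hB hBD hB₁ hB₁D
  obtain ⟨f₀, hbe, hBf⟩ := exists_pair_of_sup hM D₀ hD₀ H₀ hH₀ hb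
  obtain ⟨hPK, hCK, hKN, hKC, hNK, hNC⟩ := pair_basic D₀ _ H₀ rfl hH₀
  set σ : Set ℕ := {q | q ∉ π} with hσ
  -- the kernel property of the pair `(D₀, f₀)`
  have hKP : KP π ⟨D₀, f₀⟩ := by
    have heq : subgroupBlockCoeff H₀ b =
        subgroupBlockCoeff (Subgroup.centralizer (D₀ : Set G)) f₀ := by
      funext g
      by_cases hg : g ∈ H₀
      · rw [subgroupBlockCoeff_of_mem H₀ b hg, hbe, subgroupBlockCoeff_eq_extZ]
      · rw [subgroupBlockCoeff_of_not_mem H₀ b hg,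
          subgroupBlockCoeff_of_not_mem _ f₀ (fun h => hg (hCK h))]
    have hnorm := normalizer_le_normalizer_piCoreOf σ (Subgroup.centralizer (D₀ : Set G))
    have hT1 := ker_iff_of_subgroupBlockCoeff_eq H₀ (Subgroup.centralizer (D₀ : Set G)) b f₀ heq
      (piCoreOf σ (Subgroup.centralizer (D₀ : Set G)))
      ((piCoreOf_le _ _).trans hCK) (piCoreOf_le _ _) (hKC.trans hnorm)
      (Subgroup.le_normalizer.trans hnorm)
    intro c hc ξ hξ
    apply hT1.1 ?_ ξ hξ c ((mem_piCoreOf_iff σ _ c).2 hc)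
    intro θ hθ k hk
    have hkC : (k : G) ∈ Subgroup.centralizer (D₀ : Set G) := piCoreOf_le _ _ hk
    exact hkerb ⟨(k : G), hkC⟩ ((mem_piCoreOf_iff σ _ _).1 hk) θ hθ k rfl
  have hHP : HP π ⟨D₀, f₀⟩ := hcompl
  obtain ⟨hH, hK⟩ := HKP_max hM hpπ hmax hBf ⟨hHP, hKP⟩
  apply hiff.2
  intro ξ hξ c hc
  apply hK c _ ξ hξ
  apply hH c
  intro q hq hd
  have h1 : orderOf c = orderOf (c : G) := (Subgroup.orderOf_coe c).symm
  rw [h1] at hd
  have h2 := isPiNum_card_piCoreOf σ (Subgroup.normalizer (D : Set G)) q hq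
    (hd.trans (Subgroup.orderOf_dvd_natCard _ hc))
  exact h2

end

end Cfsg.Agent.Lib.Helper8
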