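import Mathlib
import Cfsg.Prelude.Def_Blocks
import Cfsg.Prelude.Def_BrauerPairs
import Cfsg.Agent.Lib.Helper8.KC6
import Cfsg.Agent.Lib.Helper8.Sub12

/-!
# Constancy of characters on sections under the kernel hypothesis
-/

set_option autoImplicit false
set_option linter.unusedSectionVars false

namespace Cfsg.Agent.Lib.Helper8

open Cfsg
open scoped ComplexConjugate
open Cfsg.Agent.Lib.Helper1 Cfsg.Agent.Lib.Helper4

universe u

section

variable {G : Type u} [Group G] [Fintype G] {M : Ideal AlgInt} {p : ℕ} [Fact p.Prime]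

/-- **Brauer**: under the kernel hypothesis, the members of `B` are constant on `y O_π'(C_G(y))`. -/
theorem section_const (hM : IsPModular p M) {π : Set ℕ} (hpπ : p ∈ π)
    {B : Set (IrrCharacter G)} (hB : IsPBlock M B) {D : Subgroup G} (hBD : IsDefectGroup p M B D)
    {B₁ : Set (IrrCharacter ↥(Subgroup.normalizer (D : Set G)))}
    (hB₁ : IsInducedBlock M (Subgroup.normalizer (D : Set G)) B₁ B)
    (hB₁D : IsDefectGroup p M B₁ (D.subgroupOf (Subgroup.normalizer (D : Set G))))
    (hker : ∀ n : ↥(Subgroup.normalizer (D : Set G)),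
      n ∈ piCore {q | q ∉ π} ↥(Subgroup.normalizer (D : Set G)) → n ∈ blockKer B₁)
    (y : G) (hy : ∃ k : ℕ, orderOf y = p ^ k)
    (hC : ∀ x : ↥(Subgroup.centralizer ({y} : Set G)),
      (∀ q : ℕ, q.Prime → q ∣ orderOf x → q ∉ π) →
        x ∈ piCore {q | q ∉ π} ↥(Subgroup.centralizer ({y} : Set G)))
    (χ : IrrCharacter G) (hχ : χ ∈ B) (x : G) (hx : x ∈ Subgroup.centralizer ({y} : Set G))
    (hxπ : ∀ q : ℕ, q.Prime → q ∣ orderOf x → q ∉ π) :
    (χ : G → ℂ) (y * x) = (χ : G → ℂ) y := by
  classical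
  have hMp := isPModular_isPrime hM
  have hp : p.Prime := Fact.out
  set C := Subgroup.centralizer ({y} : Set G) with hCdef
  have : Fintype C := Fintype.ofFinite _
  have hCmem : ∀ t, t ∈ C ↔ t * y = y * t := by
    intro t
    rw [hCdef, Subgroup.mem_centralizer_singleton_iff]
  have hyC : y ∈ C := (hCmem y).2 rfl
  set θ : C → ℂ := fun c => (χ : G → ℂ) (y * (c : G)) with hθdef
  have hθ : IsClassFunction C θ := by
    intro c t
    show (χ : G → ℂ) (y * ((t : G) * (c : G) * (t : G)⁻¹)) = (χ : G → ℂ) (y * (c : G))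
    have h2 : (t : G) * y = y * (t : G) := (hCmem t).1 t.2
    have : y * ((t : G) * (c : G) * (t : G)⁻¹) = (t : G) * (y * (c : G)) * (t : G)⁻¹ := by
      calc y * ((t : G) * (c : G) * (t : G)⁻¹) = (y * (t : G)) * (c : G) * (t : G)⁻¹ := by group
        _ = (t : G) * (y * (c : G)) * (t : G)⁻¹ := by rw [← h2]; group
    rw [this, isClassFunction_irr χ.2]
  set xC : C := ⟨x, hx⟩ with hxC
  have hord : orderOf xC = orderOf x := by
    rw [← Subgroup.orderOf_coe]
  have hxreg : ¬ p ∣ orderOf xC := by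
    rw [hord]
    intro h
    exact hxπ p hp h hpπ
  have hxcore : xC ∈ piCore {q | q ∉ π} ↥C := by
    apply hC xC
    intro q hq hd
    rw [hord] at hd
    exact hxπ q hq hd
  have h1reg : ¬ p ∣ orderOf (1 : C) := by
    rw [orderOf_one]
    exact hp.one_lt.ne' ∘ Nat.dvd_one.1
  -- termwise comparison
  have key : ∀ b ∈ blocksFinset M ↥C, blockPart b θ xC = blockPart b θ 1 := by
    intro b hb
    rw [mem_blocksFinset] at hb
    obtain ⟨B', hB'⟩ := inducedBlockDefined_centralizer hM hy hb
    by_cases hBB : B' = B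
    · subst hBB
      obtain ⟨D₀, hD₀⟩ := exists_isDefectGroup (p := p) hMp hb
      -- the central `p`-element lies in the defect group
      have hZn : (Subgroup.zpowers (⟨y, hyC⟩ : C)).Normal := by
        constructor
        intro n hn g
        obtain ⟨k, rfl⟩ := Subgroup.mem_zpowers_iff.1 hn
        have hcomm : g * (⟨y, hyC⟩ : C) = (⟨y, hyC⟩ : C) * g := by
          apply Subtype.ext
          exact (hCmem g).1 g.2
        have : g * (⟨y, hyC⟩ : C) ^ k * g⁻¹ = (⟨y, hyC⟩ : C) ^ k := by
          have hc : Commute g ((⟨y, hyC⟩ : C) ^ k) := (Commute.zpow_right hcomm k)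
          rw [hc.eq, mul_inv_cancel_right]
        rw [this]
        exact Subgroup.zpow_mem_zpowers _ k
      have hZp : IsPGroup p (Subgroup.zpowers (⟨y, hyC⟩ : C)) := by
        obtain ⟨k, hk⟩ := hy
        apply IsPGroup.of_card (n := k)
        rw [Nat.card_zpowers, ← Subgroup.orderOf_coe]
        exact hk
      have hZD := normal_le_of_isDefectGroup hM hb hD₀ (Subgroup.zpowers (⟨y, hyC⟩ : C)) hZp
      have hyD : y ∈ D₀.map C.subtype := ⟨⟨y, hyC⟩, hZD (Subgroup.mem_zpowers _), rfl⟩
      have hcent : Subgroup.centralizer ((D₀.map C.subtype : Subgroup G) : Set G) ≤ C := by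
        intro t ht
        rw [hCmem]
        exact ((Subgroup.mem_centralizer_iff.1 ht) y hyD).symm
      have hkerb := core_le_blockKer hM hpπ hB hBD hB₁ hB₁D hker C hB' hD₀ hcent xC hxcore
      have : Fintype (IrrCharacter ↥C) := Fintype.ofFinite _
      rw [blockPart_eq_sum, blockPart_eq_sum]
      refine Finset.sum_congr rfl fun ψ _ => ?_
      by_cases hψ : ψ ∈ b
      · rw [hkerb ψ hψ]
      · rw [if_neg hψ, zero_mul, zero_mul]
    · have hχB' : χ ∉ B' := by
        intro h
        apply hBB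
        rw [eq_blockOf_of_mem hMp hB'.2.1 h, eq_blockOf_of_mem hMp hB hχ]
      rw [blockPart_section_eq_zero hM C hCmem hy hB' hχB' hxreg,
        blockPart_section_eq_zero hM C hCmem hy hB' hχB' h1reg]
  have h1 := sum_blocks_blockPart (M := M) hMp hθ xC
  have h2 := sum_blocks_blockPart (M := M) hMp hθ 1
  rw [Finset.sum_congr rfl key, h2] at h1
  have h3 : θ 1 = (χ : G → ℂ) y := by
    show (χ : G → ℂ) (y * ((1 : C) : G)) = _
    rw [Subgroup.coe_one, mul_one]
  rw [h3] at h1
  exact h1.symm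

end

end Cfsg.Agent.Lib.Helper8
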