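import Mathlib
import Cfsg.Agent.Lib.Helper8.KF1
import Cfsg.Agent.Lib.Helper8.KF3
import Cfsg.Agent.Lib.Helper8.KF5

/-!
# Klein four Sylow 2-subgroups without normal 2-complement: one class of involutions
-/

set_option autoImplicit false

namespace Cfsg.Agent.Lib.Helper8

open scoped Pointwise

universe u

section

variable {G : Type u} [Group G]

/-- An element of the normalizer of a Klein four Sylow `2`-subgroup commuting with one of its
involutions centralizes it. -/
theorem kleinFour_commute_centralizes [Finite G] (P : Sylow 2 G)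
    (hP : IsK4 (P : Subgroup G)) {z n : G} (hzP : z ∈ (P : Subgroup G)) (hz1 : z ≠ 1)
    (hn : n ∈ Subgroup.normalizer ((P : Subgroup G) : Set G)) (hzn : n * z = z * n) :
    n ∈ Subgroup.centralizer ((P : Subgroup G) : Set G) := by
  rw [Subgroup.mem_centralizer_iff]
  intro x hx
  have hx : x ∈ (P : Subgroup G) := hx
  by_contra hne
  rw [Subgroup.mem_normalizer_iff] at hn
  set x' := n * x * n⁻¹ with hx'def
  have hx' : x' ∈ (P : Subgroup G) := (hn x).1 hx
  have hxx' : x ≠ x' := by
    intro h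
    apply hne
    have : x * n = n * x * n⁻¹ * n := by rw [← hx'def, ← h]
    rw [this, inv_mul_cancel_right]
  have hx1 : x ≠ 1 := by
    rintro rfl
    apply hxx'
    rw [hx'def, mul_one, mul_inv_cancel]
  have hx'1 : x' ≠ 1 := by
    intro h
    apply hx1
    have : n * x * n⁻¹ = n * 1 * n⁻¹ := by rw [mul_one, mul_inv_cancel]; exact h
    exact mul_left_cancel (mul_right_cancel this)
  have hzx : z ≠ x := by
    rintro rfl
    apply hxx'
    rw [hx'def, hzn, mul_inv_cancel_right]
  have hzx' : z ≠ x' := by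
    intro h
    apply hzx
    have : n * x * n⁻¹ = n * z * n⁻¹ := by rw [hzn, mul_inv_cancel_right]; exact h.symm
    exact (mul_left_cancel (mul_right_cancel this)).symm
  have h4 : x' = x * z := kleinFour_fourth hP hzP hx hx' hz1 hx1 hx'1 hzx hzx' hxx'
  have hz2 : z * z = 1 := hP.2 z hzP
  -- conjugation by powers of `n`
  have hpow : ∀ k : ℕ, n ^ k * x * (n ^ k)⁻¹ = x * z ^ k := by
    intro k
    induction k with
    | zero => simp
    | succ k ih =>
      have e1 : n ^ (k + 1) * x * (n ^ (k + 1))⁻¹ = n * (n ^ k * x * (n ^ k)⁻¹) * n⁻¹ := by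
        rw [pow_succ']
        group
      rw [e1, ih]
      have e2 : n * (x * z ^ k) * n⁻¹ = (n * x * n⁻¹) * (n * z ^ k * n⁻¹) := by group
      rw [e2, ← hx'def, h4]
      have e3 : n * z ^ k * n⁻¹ = z ^ k := by
        have : n * z ^ k = z ^ k * n := by
          have := Commute.pow_right (show Commute n z from hzn) k
          exact this.eq
        rw [this, mul_inv_cancel_right]
      rw [e3, pow_succ', mul_assoc]
  -- the odd part of the order of `n`
  obtain ⟨a, m, hm, hnm⟩ := Nat.exists_eq_two_pow_mul_odd (orderOf_pos n).ne'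
  set g := n ^ m with hg
  have hgord : g ^ (2 ^ a) = 1 := by
    rw [hg, ← pow_mul, mul_comm, ← hnm]
    exact pow_orderOf_eq_one n
  have hgN : g ∈ Subgroup.normalizer ((P : Subgroup G) : Set G) := by
    apply Subgroup.pow_mem
    rw [Subgroup.mem_normalizer_iff]
    exact hn
  have hgP : g ∈ (P : Subgroup G) := by
    have hpg : IsPGroup 2 (Subgroup.zpowers g) := by
      intro y
      refine ⟨a, ?_⟩
      obtain ⟨y, hy⟩ := y
      obtain ⟨k, rfl⟩ := Subgroup.mem_zpowers_iff.1 hy
      apply Subtype.ext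
      show (g ^ k) ^ (2 ^ a) = 1
      rw [← zpow_natCast, ← zpow_mul, mul_comm, zpow_mul, zpow_natCast, hgord, one_zpow]
    have h1 := hpg.inf_normalizer_sylow P
    have h2 : g ∈ Subgroup.zpowers g ⊓ Subgroup.normalizer ((P : Subgroup G) : Set G) :=
      ⟨Subgroup.mem_zpowers g, hgN⟩
    have h3 : g ∈ Subgroup.zpowers g ⊓ (P : Subgroup G) := by
      rw [← h1]
      exact h2
    exact h3.2
  have h5 := hpow m
  rw [← hg] at h5
  have hzm : z ^ m = z := by
    obtain ⟨j, rfl⟩ := hm
    rw [pow_succ, pow_mul, pow_two, hz2, one_pow, one_mul]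
  rw [hzm, kleinFour_comm hP hgP hx, mul_inv_cancel_right] at h5
  apply hz1
  have : x * 1 = x * z := by rw [mul_one]; exact h5
  exact (mul_left_cancel this).symm

/-- A noncyclic group of order four has exponent two. -/
theorem isK4_of_card_four (P : Subgroup G) (h4 : Nat.card P = 4) (hnc : ¬ IsCyclic P) :
    IsK4 P := by
  haveI : Finite P := Nat.finite_of_card_ne_zero (by rw [h4]; norm_num)
  refine ⟨h4, fun g hg => ?_⟩
  have hd : orderOf (⟨g, hg⟩ : P) ∣ 4 := by
    rw [← h4]; exact orderOf_dvd_natCard _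
  have hne : orderOf (⟨g, hg⟩ : P) ≠ 4 := by
    intro h
    apply hnc
    exact isCyclic_of_orderOf_eq_card (⟨g, hg⟩ : P) (by rw [h, h4])
  have hle : orderOf (⟨g, hg⟩ : P) ≤ 4 := Nat.le_of_dvd (by norm_num) hd
  have h2 : orderOf (⟨g, hg⟩ : P) ∣ 2 := by
    interval_cases h : orderOf (⟨g, hg⟩ : P)
    · norm_num at hd
    · norm_num
    · norm_num
    · norm_num at hd
    · exact absurd rfl hne
  have h3 : (⟨g, hg⟩ : P) ^ 2 = 1 := orderOf_dvd_iff_pow_eq_one.1 h2
  have h4' : g ^ 2 = 1 := congrArg Subtype.val h3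
  rw [← pow_two]
  exact h4'

/-- All Sylow `2`-subgroups are Klein four-groups as soon as one of them is. -/
theorem isK4_sylow [Finite G] (P P' : Sylow 2 G) (hP : IsK4 (P : Subgroup G)) :
    IsK4 (P' : Subgroup G) := by
  haveI : Fact (Nat.Prime 2) := ⟨Nat.prime_two⟩
  refine ⟨?_, fun g hg => ?_⟩
  · rw [Sylow.card_eq_multiplicity P', ← Sylow.card_eq_multiplicity P]
    exact hP.1
  · apply sq_eq_one_of_two_element P hP
    obtain ⟨k, hk⟩ := (IsPGroup.iff_orderOf.1 P'.2) ⟨g, hg⟩
    exact ⟨k, by rw [← hk]; exact (Subgroup.orderOf_mk g hg).symm⟩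

/-- If the normalizer of a Klein four Sylow `2`-subgroup does not centralize it, all involutions
of the group are conjugate. -/
theorem kf_one_class [Finite G] (P : Sylow 2 G) (hP : IsK4 (P : Subgroup G))
    (hN : ¬ Subgroup.normalizer ((P : Subgroup G) : Set G) ≤
      Subgroup.centralizer ((P : Subgroup G) : Set G)) :
    ∀ s t : G, orderOf s = 2 → orderOf t = 2 → IsConj s t := by
  haveI : Fact (Nat.Prime 2) := ⟨Nat.prime_two⟩
  obtain ⟨n, hnN, hnC⟩ := SetLike.not_le_iff_exists.1 hN
  obtain ⟨J, hJP, hJ2⟩ := hP.exists_involution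
  have hJ1 : J ≠ 1 := by
    rintro rfl
    rw [orderOf_one] at hJ2
    omega
  have hfix : ∀ z ∈ (P : Subgroup G), z ≠ 1 → n * z ≠ z * n := fun z hz hz1 h =>
    hnC (kleinFour_commute_centralizes P hP hz hz1 hnN h)
  have hnorm := Subgroup.mem_normalizer_iff.1 hnN
  have hconj1 : ∀ x : G, x ≠ 1 → n * x * n⁻¹ ≠ 1 := by
    intro x hx h
    apply hx
    have : n * x * n⁻¹ = n * 1 * n⁻¹ := by rw [mul_one, mul_inv_cancel]; exact h
    exact mul_left_cancel (mul_right_cancel this)
  have hconjne : ∀ x ∈ (P : Subgroup G), x ≠ 1 → x ≠ n * x * n⁻¹ := by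
    intro x hx hx1 h
    apply hfix x hx hx1
    have : x * n = n * x * n⁻¹ * n := by rw [← h]
    rw [this, inv_mul_cancel_right]
  set t := n * J * n⁻¹ with ht
  have htP : t ∈ (P : Subgroup G) := (hnorm J).1 hJP
  have ht1 : t ≠ 1 := hconj1 J hJ1
  have hJt : J ≠ t := hconjne J hJP hJ1
  set y := n * t * n⁻¹ with hy
  have hyP : y ∈ (P : Subgroup G) := (hnorm t).1 htP
  have hy1 : y ≠ 1 := hconj1 t ht1
  have hty : t ≠ y := hconjne t htP ht1
  have hJJ : J * J = 1 := hP.2 J hJP
  have hJy : J ≠ y := by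
    intro h
    have htJP : t * J ∈ (P : Subgroup G) := Subgroup.mul_mem _ htP hJP
    have htJ1 : t * J ≠ 1 := by
      intro h1
      apply hJt
      calc J = (t * J) * J := by rw [h1, one_mul]
        _ = t := by rw [mul_assoc, hJJ, mul_one]
    apply hfix (t * J) htJP htJ1
    have e : n * (t * J) * n⁻¹ = (n * t * n⁻¹) * (n * J * n⁻¹) := by group
    have e2 : n * (t * J) * n⁻¹ = t * J := by
      rw [e, ← hy, ← ht, ← h]
      exact kleinFour_comm hP hJP htP
    calc n * (t * J) = n * (t * J) * n⁻¹ * n := by rw [inv_mul_cancel_right]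
      _ = t * J * n := by rw [e2]
  have hytJ : y = t * J := kleinFour_fourth hP hJP htP hyP hJ1 ht1 hy1 hJt hJy hty
  have hall : ∀ x ∈ (P : Subgroup G), x ≠ 1 → IsConj J x := by
    intro x hx hx1
    by_cases h1 : x = J
    · rw [h1]
    by_cases h2 : x = t
    · rw [h2]
      exact isConj_iff.2 ⟨n, rfl⟩
    have h3 : x = t * J :=
      kleinFour_fourth hP hJP htP hx hJ1 ht1 hx1 hJt (Ne.symm h1) (Ne.symm h2)
    rw [h3, ← hytJ]
    refine isConj_iff.2 ⟨n * n, ?_⟩
    rw [hy, ht]
    group
  have hJall : ∀ s : G, orderOf s = 2 → IsConj J s := by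
    intro s hs
    have hpg : IsPGroup 2 (Subgroup.zpowers s) := by
      apply IsPGroup.of_card (n := 1)
      rw [Nat.card_zpowers, hs, pow_one]
    obtain ⟨Q, hQ⟩ := hpg.exists_le_sylow
    obtain ⟨c, hc⟩ := MulAction.exists_smul_eq G P Q
    have hsQ : s ∈ (Q : Subgroup G) := hQ (Subgroup.mem_zpowers s)
    rw [← hc, Sylow.smul_def] at hsQ
    have hsQ' : s ∈ MulAut.conj c • (P : Subgroup G) := hsQ
    obtain ⟨x, hx, hxs⟩ := hsQ'
    simp only [MulDistribMulAction.toMonoidEnd_apply, MulDistribMulAction.toMonoidHom_apply,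
      MulAut.smul_def, MulAut.conj_apply] at hxs
    have hx1 : x ≠ 1 := by
      rintro rfl
      rw [mul_one, mul_inv_cancel] at hxs
      rw [← hxs, orderOf_one] at hs
      omega
    exact (hall x hx hx1).trans (isConj_iff.2 ⟨c, hxs⟩)
  intro s t' hs ht'
  exact (hJall s hs).symm.trans (hJall t' ht')

/-- A group of order `4 g₀` (`g₀` odd) without normal subgroup of order `g₀` has Klein four Sylow
`2`-subgroups not centralized by their normalizers. -/
theorem kf_of_no_complement [Finite G] (g₀ : ℕ) (hg₀ : Odd g₀) (hG : Nat.card G = 4 * g₀)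
    (hnc : ¬ ∃ N : Subgroup G, N.Normal ∧ Nat.card N = g₀) (P : Sylow 2 G) :
    IsK4 (P : Subgroup G) ∧ ¬ Subgroup.normalizer ((P : Subgroup G) : Set G) ≤
      Subgroup.centralizer ((P : Subgroup G) : Set G) := by
  haveI : Fact (Nat.Prime 2) := ⟨Nat.prime_two⟩
  have hcard : Nat.card (P : Subgroup G) = 4 := by
    rw [Sylow.card_eq_multiplicity P, hG]
    have h4 : (4 : ℕ) = 2 ^ 2 := by norm_num
    have hg0 : g₀ ≠ 0 := by
      rintro rfl
      obtain ⟨k, hk⟩ := hg₀
      omega
    have hndvd : ¬ 2 ∣ g₀ := by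
      intro h
      exact (Nat.not_even_iff_odd.2 hg₀) (even_iff_two_dvd.2 h)
    rw [Nat.factorization_mul (by norm_num) hg0, h4, Nat.Prime.factorization_pow Nat.prime_two,
      Finsupp.add_apply, Finsupp.single_eq_same, Nat.factorization_eq_zero_of_not_dvd hndvd]
  have hN : ¬ Subgroup.normalizer ((P : Subgroup G) : Set G) ≤
      Subgroup.centralizer ((P : Subgroup G) : Set G) := by
    intro hNC
    apply hnc
    have hcompl := MonoidHom.ker_transferSylow_isComplement' P hNC
    refine ⟨(MonoidHom.transferSylow P hNC).ker, inferInstance, ?_⟩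
    have h1 := hcompl.card_mul_card
    rw [hcard, hG] at h1
    omega
  refine ⟨isK4_of_card_four _ hcard ?_, hN⟩
  intro hcyc
  apply hN
  have hmin : (Nat.card G).minFac = 2 := by
    rw [Nat.minFac_eq_two_iff, hG]
    exact ⟨2 * g₀, by ring⟩
  exact IsCyclic.normalizer_le_centralizer hmin hcyc

end

end Cfsg.Agent.Lib.Helper8
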