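import Mathlib
import Cfsg.Agent.Lib.Helper8.KF6
import Cfsg.Agent.Lib.Helper3.Count

/-!
# Counting pairs of involutions in a group with a central involution and Klein four Sylow
-/

set_option autoImplicit false

namespace Cfsg.Agent.Lib.Helper8

open scoped Pointwise

universe u

section

variable {H : Type u} [Group H] [Finite H]

/-- The retraction onto a Klein four Sylow `2`-subgroup containing a central involution. -/
theorem kf_exists_retraction (Q : Sylow 2 H) (hQ : IsK4 (Q : Subgroup H)) {J : H}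
    (hJQ : J ∈ (Q : Subgroup H)) (hJ1 : J ≠ 1) (hJc : J ∈ Subgroup.center H) :
    ∃ φ : H →* (Q : Subgroup H), (∀ q : (Q : Subgroup H), φ (q : H) = q) ∧
      ∀ n : H, φ n = 1 → Odd (orderOf n) := by
  haveI : Fact (Nat.Prime 2) := ⟨Nat.prime_two⟩
  have hNC := kleinFour_normalizer_le_centralizer Q hQ hJQ hJ1 hJc
  refine ⟨MonoidHom.transferSylow Q hNC, ?_, ?_⟩
  · intro q
    rw [MonoidHom.transferSylow_eq_pow Q hNC q q.2]
    apply Subtype.ext
    show (q : H) ^ (Q : Subgroup H).index = q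
    have hodd : Odd (Q : Subgroup H).index := by
      rw [← Nat.not_even_iff_odd, even_iff_two_dvd]
      exact Q.not_dvd_index
    obtain ⟨j, hj⟩ := hodd
    rw [hj, pow_succ, pow_mul, pow_two, hQ.2 q q.2, one_pow, one_mul]
  · intro n hn
    have hmem : n ∈ (MonoidHom.transferSylow Q hNC).ker := hn
    have h1 : orderOf n ∣ Nat.card (MonoidHom.transferSylow Q hNC).ker := by
      rw [← Subgroup.orderOf_mk n hmem]
      exact orderOf_dvd_natCard _
    have h2 := MonoidHom.not_dvd_card_ker_transferSylow Q hNC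
    rw [← Nat.not_even_iff_odd, even_iff_two_dvd]
    intro h
    exact h2 (h.trans h1)

variable (Q : Sylow 2 H) (hQ : IsK4 (Q : Subgroup H)) (φ : H →* (Q : Subgroup H))
  (hφ1 : ∀ q : (Q : Subgroup H), φ (q : H) = q) (hφ2 : ∀ n : H, φ n = 1 → Odd (orderOf n))

omit [Finite H] in
include hQ in
theorem kf_phi_conj (c u : H) : φ (c * u * c⁻¹) = φ u := by
  rw [map_mul, map_mul, map_inv]
  apply Subtype.ext
  show (φ c : H) * (φ u : H) * (φ c : H)⁻¹ = (φ u : H)
  rw [kleinFour_comm hQ (φ c).2 (φ u).2, mul_inv_cancel_right]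

include hQ hφ1 in
theorem kf_class_iff (t : (Q : Subgroup H)) (ht1 : (t : H) ≠ 1) (u : H) :
    (orderOf u = 2 ∧ φ u = t) ↔ IsConj (t : H) u := by
  haveI : Fact (Nat.Prime 2) := ⟨Nat.prime_two⟩
  have hto : orderOf (t : H) = 2 := orderOf_eq_two_of_sq (hQ.2 t t.2) ht1
  constructor
  · rintro ⟨hu, hφu⟩
    have hpg : IsPGroup 2 (Subgroup.zpowers u) := by
      apply IsPGroup.of_card (n := 1)
      rw [Nat.card_zpowers, hu, pow_one]
    obtain ⟨Q', hQ'⟩ := hpg.exists_le_sylow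
    obtain ⟨c, hc⟩ := MulAction.exists_smul_eq H Q Q'
    have huQ : u ∈ (Q' : Subgroup H) := hQ' (Subgroup.mem_zpowers u)
    rw [← hc, Sylow.smul_def] at huQ
    have huQ' : u ∈ MulAut.conj c • (Q : Subgroup H) := huQ
    obtain ⟨x, hx, hxu⟩ := huQ'
    simp only [MulDistribMulAction.toMonoidEnd_apply, MulDistribMulAction.toMonoidHom_apply,
      MulAut.smul_def, MulAut.conj_apply] at hxu
    have h1 : φ x = t := by
      rw [← hφu, ← hxu, kf_phi_conj Q hQ φ c x]
    have h2 : φ x = ⟨x, hx⟩ := hφ1 ⟨x, hx⟩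
    have h3 : (t : H) = x := by
      rw [← h1, h2]
    rw [h3]
    exact isConj_iff.2 ⟨c, hxu⟩
  · intro h
    obtain ⟨c, hc⟩ := isConj_iff.1 h
    constructor
    · rw [← hc]
      have : c * (t : H) * c⁻¹ = MulAut.conj c (t : H) := rfl
      rw [this, MulEquiv.orderOf_eq, hto]
    · rw [← hc, kf_phi_conj Q hQ φ c t, hφ1 t]

include hQ hφ1 in
theorem kf_card_type (t : (Q : Subgroup H)) (ht1 : (t : H) ≠ 1) :
    Nat.card {u : H // orderOf u = 2 ∧ φ u = t} *
      Nat.card (Subgroup.centralizer ({(t : H)} : Set H)) = Nat.card H := by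
  rw [← Cfsg.Agent.Lib.Helper3.card_conj_class_mul_card_centralizer (t : H)]
  congr 1
  exact Nat.card_congr (Equiv.subtypeEquivRight (kf_class_iff Q hQ φ hφ1 t ht1))

include hQ in
theorem kf_centralizer_eq {J : H} (hJQ : J ∈ (Q : Subgroup H)) (hJ1 : J ≠ 1)
    (hJc : J ∈ Subgroup.center H) {t : H} (htQ : t ∈ (Q : Subgroup H)) (ht1 : t ≠ 1)
    (htJ : t ≠ J) :
    Subgroup.centralizer ({t} : Set H) = Subgroup.centralizer ((Q : Subgroup H) : Set H) := by
  apply le_antisymm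
  · intro c hc
    rw [Subgroup.mem_centralizer_singleton_iff] at hc
    rw [Subgroup.mem_centralizer_iff]
    intro x hx
    have hx : x ∈ (Q : Subgroup H) := hx
    have hJcomm : J * c = c * J := (Subgroup.mem_center_iff.1 hJc c).symm
    by_cases hx1 : x = 1
    · rw [hx1, one_mul, mul_one]
    by_cases hxJ : x = J
    · rw [hxJ]; exact hJcomm
    by_cases hxt : x = t
    · rw [hxt]; exact hc.symm
    have h3 : x = t * J :=
      kleinFour_fourth hQ hJQ htQ hx hJ1 ht1 hx1 (Ne.symm htJ) (Ne.symm hxJ) (Ne.symm hxt)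
    rw [h3, mul_assoc, hJcomm, ← mul_assoc, ← hc, mul_assoc]
  · apply Subgroup.centralizer_le
    intro x hx
    rw [Set.mem_singleton_iff] at hx
    rw [hx]
    exact htQ

omit [Finite H] in
include hQ hφ1 hφ2 in
theorem kf_pair_iff {J : H} (hJQ : J ∈ (Q : Subgroup H))
    (hJc : J ∈ Subgroup.center H) (u v : H) :
    (∃ m : ℕ, Odd m ∧ (u * v) ^ m = J) ↔ φ u * φ v = ⟨J, hJQ⟩ := by
  have hJJ : J * J = 1 := hQ.2 J hJQ
  have hsq : ∀ q : (Q : Subgroup H), q * q = 1 := fun q => Subtype.ext (hQ.2 q q.2)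
  constructor
  · rintro ⟨m, hm, h⟩
    have h1 : φ (u * v) ^ m = ⟨J, hJQ⟩ := by
      rw [← map_pow, h]
      exact hφ1 ⟨J, hJQ⟩
    have h2 : φ (u * v) ^ m = φ (u * v) := by
      obtain ⟨j, rfl⟩ := hm
      rw [pow_succ, pow_mul, pow_two, hsq, one_pow, one_mul]
    rw [← map_mul, ← h2, h1]
  · intro h
    set n := u * v * J with hn_def
    have hn : φ n = 1 := by
      rw [hn_def, map_mul, map_mul, h]
      have : φ J = ⟨J, hJQ⟩ := hφ1 ⟨J, hJQ⟩
      rw [this]
      exact hsq _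
    have hodd := hφ2 n hn
    refine ⟨orderOf n, hodd, ?_⟩
    have huv : u * v = n * J := by rw [hn_def, mul_assoc, hJJ, mul_one]
    have hcomm : Commute n J := Subgroup.mem_center_iff.1 hJc n
    rw [huv, hcomm.mul_pow, pow_orderOf_eq_one, one_mul]
    obtain ⟨j, hj⟩ := hodd
    rw [hj, pow_succ, pow_mul, pow_two, hJJ, one_pow, one_mul]

include hQ hφ1 hφ2 in
theorem kf_card_pairs {J : H} (hJQ : J ∈ (Q : Subgroup H)) (hJ1 : J ≠ 1)
    (hJc : J ∈ Subgroup.center H) :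
    Nat.card {p : H × H // orderOf p.1 = 2 ∧ orderOf p.2 = 2 ∧
        ∃ m : ℕ, Odd m ∧ (p.1 * p.2) ^ m = J} *
      Nat.card (Subgroup.centralizer ((Q : Subgroup H) : Set H)) ^ 2 = 2 * Nat.card H ^ 2 := by
  classical
  haveI : Fintype (Q : Subgroup H) := Fintype.ofFinite _
  set J' : (Q : Subgroup H) := ⟨J, hJQ⟩ with hJ'
  have hJ'1 : J' ≠ 1 := fun h => hJ1 (congrArg Subtype.val h)
  have hsq : ∀ q : (Q : Subgroup H), q * q = 1 := fun q => Subtype.ext (hQ.2 q q.2)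
  -- choose `t`
  obtain ⟨t, -, ht⟩ : ∃ t ∈ (Finset.univ : Finset (Q : Subgroup H)), t ∉ ({1, J'} : Finset _) := by
    apply Finset.exists_mem_notMem_of_card_lt_card
    calc ({1, J'} : Finset (Q : Subgroup H)).card ≤ 2 := Finset.card_le_two
      _ < 4 := by norm_num
      _ = Finset.univ.card := by rw [Finset.card_univ, ← Nat.card_eq_fintype_card, hQ.1]
  rw [Finset.mem_insert, Finset.mem_singleton, not_or] at ht
  obtain ⟨ht1, htJ⟩ := ht
  set t' : (Q : Subgroup H) := t * J' with ht'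
  have ht'1 : t' ≠ 1 := by
    intro h
    apply htJ
    calc t = t * (J' * J') := by rw [hsq, mul_one]
      _ = (t * J') * J' := by rw [mul_assoc]
      _ = J' := by rw [← ht', h, one_mul]
  have ht't : t' ≠ t := by
    intro h
    apply hJ'1
    have : t * J' = t * 1 := by rw [mul_one]; exact h
    exact mul_left_cancel this
  have ht'J : t' ≠ J' := by
    intro h
    apply ht1
    have : t * J' = 1 * J' := by rw [one_mul]; exact h
    exact mul_right_cancel this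
  have htri : ∀ q : (Q : Subgroup H), q = 1 ∨ q = J' ∨ q = t ∨ q = t' := by
    intro q
    by_cases h1 : q = 1
    · exact Or.inl h1
    by_cases h2 : q = J'
    · exact Or.inr (Or.inl h2)
    by_cases h3 : q = t
    · exact Or.inr (Or.inr (Or.inl h3))
    refine Or.inr (Or.inr (Or.inr ?_))
    apply Subtype.ext
    have hv : ∀ {a b : (Q : Subgroup H)}, a ≠ b → (a : H) ≠ b := fun h h' => h (Subtype.ext h')
    exact kleinFour_fourth hQ hJQ t.2 q.2 hJ1 (hv ht1) (hv h1) (hv (Ne.symm htJ))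
      (hv (Ne.symm h2)) (hv (Ne.symm h3))
  have hne1 : ∀ u : H, orderOf u = 2 → φ u ≠ 1 := by
    intro u hu h
    have := hφ2 u h
    rw [hu] at this
    exact absurd this (by decide)
  have hcomm : ∀ a b : (Q : Subgroup H), a * b = b * a := fun a b =>
    Subtype.ext (kleinFour_comm hQ a.2 b.2)
  -- the predicate equivalence
  have hpred : ∀ p : H × H, (orderOf p.1 = 2 ∧ orderOf p.2 = 2 ∧
      ∃ m : ℕ, Odd m ∧ (p.1 * p.2) ^ m = J) ↔
      (((orderOf p.1 = 2 ∧ φ p.1 = t) ∧ (orderOf p.2 = 2 ∧ φ p.2 = t')) ∨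
        ((orderOf p.1 = 2 ∧ φ p.1 = t') ∧ (orderOf p.2 = 2 ∧ φ p.2 = t))) := by
    intro p
    rw [kf_pair_iff Q hQ φ hφ1 hφ2 hJQ hJc]
    constructor
    · rintro ⟨h1, h2, h3⟩
      have hv : φ p.2 = φ p.1 * J' := by
        calc φ p.2 = (φ p.1 * φ p.1) * φ p.2 := by rw [hsq, one_mul]
          _ = φ p.1 * (φ p.1 * φ p.2) := by rw [mul_assoc]
          _ = φ p.1 * J' := by rw [h3]
      rcases htri (φ p.1) with h | h | h | h
      · exact absurd h (hne1 _ h1)
      · exfalso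
        apply hne1 _ h2
        rw [hv, h, hsq]
      · left
        exact ⟨⟨h1, h⟩, ⟨h2, by rw [hv, h]⟩⟩
      · right
        refine ⟨⟨h1, h⟩, ⟨h2, ?_⟩⟩
        rw [hv, h, ht', mul_assoc, hsq, mul_one]
    · rintro (⟨⟨h1, h2⟩, ⟨h3, h4⟩⟩ | ⟨⟨h1, h2⟩, ⟨h3, h4⟩⟩)
      · refine ⟨h1, h3, ?_⟩
        rw [h2, h4, ht', ← mul_assoc, hsq, one_mul]
      · refine ⟨h1, h3, ?_⟩
        rw [h2, h4, ht', hcomm t J', mul_assoc, hsq, mul_one]
  rw [Nat.card_congr (Equiv.subtypeEquivRight hpred)]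
  have hdisj : Disjoint
      (fun p : H × H => (orderOf p.1 = 2 ∧ φ p.1 = t) ∧ (orderOf p.2 = 2 ∧ φ p.2 = t'))
      (fun p : H × H => (orderOf p.1 = 2 ∧ φ p.1 = t') ∧ (orderOf p.2 = 2 ∧ φ p.2 = t)) := by
    rw [Pi.disjoint_iff]
    intro p
    rw [Prop.disjoint_iff]
    rintro ⟨⟨⟨_, h1⟩, _⟩, ⟨⟨_, h2⟩, _⟩⟩
    exact ht't (h2.symm.trans h1)
  rw [Nat.card_congr (subtypeOrEquiv _ _ hdisj), Nat.card_sum,
    Nat.card_congr (Equiv.subtypeProdEquivProd (p := fun u : H => orderOf u = 2 ∧ φ u = t)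
      (q := fun v : H => orderOf v = 2 ∧ φ v = t')),
    Nat.card_congr (Equiv.subtypeProdEquivProd (p := fun u : H => orderOf u = 2 ∧ φ u = t')
      (q := fun v : H => orderOf v = 2 ∧ φ v = t)), Nat.card_prod, Nat.card_prod]
  have hv : ∀ {a b : (Q : Subgroup H)}, a ≠ b → (a : H) ≠ b := fun h h' => h (Subtype.ext h')
  have hk1 := kf_card_type Q hQ φ hφ1 t (hv ht1)
  have hk2 := kf_card_type Q hQ φ hφ1 t' (hv ht'1)
  rw [kf_centralizer_eq Q hQ hJQ hJ1 hJc t.2 (hv ht1) (hv htJ)] at hk1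
  rw [kf_centralizer_eq Q hQ hJQ hJ1 hJc t'.2 (hv ht'1) (hv ht'J)] at hk2
  set k1 := Nat.card {u : H // orderOf u = 2 ∧ φ u = t}
  set k2 := Nat.card {u : H // orderOf u = 2 ∧ φ u = t'}
  set c := Nat.card (Subgroup.centralizer ((Q : Subgroup H) : Set H))
  calc (k1 * k2 + k2 * k1) * c ^ 2 = 2 * ((k1 * c) * (k2 * c)) := by ring
    _ = 2 * Nat.card H ^ 2 := by rw [hk1, hk2]; ring

end

end Cfsg.Agent.Lib.Helper8
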