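import Mathlib
import Cfsg.Agent.Lib.Helper8.KF7

/-!
# Counting pairs of involutions whose product has a given involution as odd power
-/

set_option autoImplicit false

namespace Cfsg.Agent.Lib.Helper8

open scoped Pointwise

universe u

section

variable {G : Type u} [Group G]

/-- Two involutions commute with every involution which is a power of their product. -/
theorem involution_pair_commute {u v J : G} (hu : u * u = 1) (hv : v * v = 1) {m : ℕ}
    (h : (u * v) ^ m = J) (hJ : J * J = 1) : u * J = J * u ∧ v * J = J * v := by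
  have hu' : u⁻¹ = u := by rw [inv_eq_iff_mul_eq_one]; exact hu
  have hv' : v⁻¹ = v := by rw [inv_eq_iff_mul_eq_one]; exact hv
  have hJ' : J⁻¹ = J := by rw [inv_eq_iff_mul_eq_one]; exact hJ
  have hinv : (u * v)⁻¹ = v * u := by rw [mul_inv_rev, hu', hv']
  constructor
  · have h1 : u * (u * v) * u⁻¹ = (u * v)⁻¹ := by
      rw [hinv, ← mul_assoc, hu, one_mul, hu']
    have h2 : u * J * u⁻¹ = J := by
      rw [← h, ← conj_pow, h1, inv_pow, h, hJ']
    calc u * J = u * J * u⁻¹ * u := by rw [inv_mul_cancel_right]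
      _ = J * u := by rw [h2]
  · have h1 : v⁻¹ * (u * v) * v⁻¹⁻¹ = (u * v)⁻¹ := by
      rw [hinv, inv_inv, mul_assoc, mul_assoc, hv, mul_one, hv']
    have h2 : v⁻¹ * J * v⁻¹⁻¹ = J := by
      rw [← h, ← conj_pow, h1, inv_pow, h, hJ']
    rw [inv_inv, hv'] at h2
    calc v * J = v * (v * J * v) := by rw [h2]
      _ = (v * v) * J * v := by group
      _ = J * v := by rw [hv, one_mul]

theorem kf_card_pairs_centralizer [Finite G] (P : Sylow 2 G) (hP : IsK4 (P : Subgroup G))
    {J : G} (hJP : J ∈ (P : Subgroup G)) (hJ1 : J ≠ 1) :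
    Nat.card {p : G × G // orderOf p.1 = 2 ∧ orderOf p.2 = 2 ∧
        ∃ m : ℕ, Odd m ∧ (p.1 * p.2) ^ m = J} *
      Nat.card (Subgroup.centralizer ((P : Subgroup G) : Set G)) ^ 2 =
      2 * Nat.card (Subgroup.centralizer ({J} : Set G)) ^ 2 := by
  haveI : Fact (Nat.Prime 2) := ⟨Nat.prime_two⟩
  set C := Subgroup.centralizer ({J} : Set G) with hC
  have hle : (P : Subgroup G) ≤ C := by
    intro g hg
    rw [hC, Subgroup.mem_centralizer_singleton_iff]
    exact kleinFour_comm hP hg hJP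
  let Q : Sylow 2 C := P.subtype hle
  have hQcoe : (Q : Subgroup C) = (P : Subgroup G).subgroupOf C := rfl
  have hQcard : Nat.card (Q : Subgroup C) = 4 := by
    rw [hQcoe, Nat.card_congr (Subgroup.subgroupOfEquivOfLe hle).toEquiv]
    exact hP.1
  have hQ : IsK4 (Q : Subgroup C) := by
    refine ⟨hQcard, fun g hg => ?_⟩
    rw [hQcoe, Subgroup.mem_subgroupOf] at hg
    exact Subtype.ext (hP.2 _ hg)
  have hJC : J ∈ C := by
    rw [hC, Subgroup.mem_centralizer_singleton_iff]
  have hJQ : (⟨J, hJC⟩ : C) ∈ (Q : Subgroup C) := by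
    rw [hQcoe, Subgroup.mem_subgroupOf]
    exact hJP
  have hJ1' : (⟨J, hJC⟩ : C) ≠ 1 := by
    intro h
    exact hJ1 (congrArg Subtype.val h)
  have hJc : (⟨J, hJC⟩ : C) ∈ Subgroup.center C := by
    rw [Subgroup.mem_center_iff]
    intro h
    apply Subtype.ext
    have := Subgroup.mem_centralizer_singleton_iff.1 h.2
    exact this
  obtain ⟨φ, hφ1, hφ2⟩ := kf_exists_retraction Q hQ hJQ hJ1' hJc
  have hmain := kf_card_pairs Q hQ φ hφ1 hφ2 hJQ hJ1' hJc
  have hJJ : J * J = 1 := hP.2 J hJP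
  have hsq : ∀ u : G, orderOf u = 2 → u * u = 1 := by
    intro u hu
    rw [← pow_two, ← hu]
    exact pow_orderOf_eq_one u
  -- (i) the pairs
  have e1 : Nat.card {p : C × C // orderOf p.1 = 2 ∧ orderOf p.2 = 2 ∧
        ∃ m : ℕ, Odd m ∧ (p.1 * p.2) ^ m = (⟨J, hJC⟩ : C)} =
      Nat.card {p : G × G // orderOf p.1 = 2 ∧ orderOf p.2 = 2 ∧
        ∃ m : ℕ, Odd m ∧ (p.1 * p.2) ^ m = J} := by
    apply Nat.card_congr
    refine
      { toFun := fun p => ⟨((p.1.1 : G), (p.1.2 : G)), ?_⟩
        invFun := fun p => ⟨(⟨p.1.1, ?_⟩, ⟨p.1.2, ?_⟩), ?_⟩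
        left_inv := fun p => rfl
        right_inv := fun p => rfl }
    · obtain ⟨h1, h2, m, hm, h3⟩ := p.2
      refine ⟨?_, ?_, m, hm, ?_⟩
      · rw [Subgroup.orderOf_coe]; exact h1
      · rw [Subgroup.orderOf_coe]; exact h2
      · exact congrArg Subtype.val h3
    · obtain ⟨h1, h2, m, hm, h3⟩ := p.2
      rw [hC, Subgroup.mem_centralizer_singleton_iff]
      exact (involution_pair_commute (hsq _ h1) (hsq _ h2) h3 hJJ).1
    · obtain ⟨h1, h2, m, hm, h3⟩ := p.2
      rw [hC, Subgroup.mem_centralizer_singleton_iff]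
      exact (involution_pair_commute (hsq _ h1) (hsq _ h2) h3 hJJ).2
    · obtain ⟨h1, h2, m, hm, h3⟩ := p.2
      refine ⟨?_, ?_, m, hm, ?_⟩
      · rw [← Subgroup.orderOf_coe]; exact h1
      · rw [← Subgroup.orderOf_coe]; exact h2
      · exact Subtype.ext h3
  -- (ii) the centralizers
  have e2 : Nat.card (Subgroup.centralizer ((Q : Subgroup C) : Set C)) =
      Nat.card (Subgroup.centralizer ((P : Subgroup G) : Set G)) := by
    apply Nat.card_congr
    refine
      { toFun := fun c => ⟨(c.1 : G), ?_⟩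
        invFun := fun g => ⟨⟨g.1, ?_⟩, ?_⟩
        left_inv := fun c => rfl
        right_inv := fun g => rfl }
    · rw [Subgroup.mem_centralizer_iff]
      intro x hx
      have hx : x ∈ (P : Subgroup G) := hx
      have hxQ : (⟨x, hle hx⟩ : C) ∈ ((Q : Subgroup C) : Set C) := by
        show (⟨x, hle hx⟩ : C) ∈ (Q : Subgroup C)
        rw [hQcoe, Subgroup.mem_subgroupOf]
        exact hx
      have := Subgroup.mem_centralizer_iff.1 c.2 _ hxQ
      exact congrArg Subtype.val this
    · rw [hC, Subgroup.mem_centralizer_singleton_iff]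
      exact (Subgroup.mem_centralizer_iff.1 g.2 J hJP).symm
    · rw [Subgroup.mem_centralizer_iff]
      intro x hx
      have hx : x ∈ (Q : Subgroup C) := hx
      rw [hQcoe, Subgroup.mem_subgroupOf] at hx
      apply Subtype.ext
      exact Subgroup.mem_centralizer_iff.1 g.2 _ hx
  rw [e1, e2] at hmain
  exact hmain

end

end Cfsg.Agent.Lib.Helper8
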