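import Mathlib
import Cfsg.Agent.Lib.Helper8.KF8

/-!
# Pairs of involutions with product of even order, sorted by the involution in the product
-/

set_option autoImplicit false

namespace Cfsg.Agent.Lib.Helper8

open scoped Pointwise

universe u

section

variable {G : Type u} [Group G]

theorem odd_pow_involution_unique {g w w' : G} {m m' : ℕ} (hm : Odd m) (hm' : Odd m')
    (hw : w * w = 1) (hw' : w' * w' = 1) (h : g ^ m = w) (h' : g ^ m' = w') : w = w' := by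
  have h1 : w ^ m' = w := by
    obtain ⟨j, rfl⟩ := hm'
    rw [pow_succ, pow_mul, pow_two, hw, one_pow, one_mul]
  have h2 : w' ^ m = w' := by
    obtain ⟨j, rfl⟩ := hm
    rw [pow_succ, pow_mul, pow_two, hw', one_pow, one_mul]
  rw [← h1, ← h2, ← h, ← h', ← pow_mul, ← pow_mul, mul_comm]

theorem orderOf_half_pow [Finite G] {g : G} (h : 2 ∣ orderOf g) :
    orderOf (g ^ (orderOf g / 2)) = 2 := by
  have hpos : 0 < orderOf g := orderOf_pos g
  obtain ⟨k, hk⟩ := h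
  have hk0 : k ≠ 0 := by
    rintro rfl
    omega
  have hk2 : orderOf g / 2 = k := by omega
  rw [hk2, orderOf_pow_of_dvd hk0 ⟨2, by omega⟩, hk]
  exact Nat.mul_div_cancel _ (Nat.pos_of_ne_zero hk0)

theorem odd_half_order [Finite G] (P : Sylow 2 G) (hP : IsK4 (P : Subgroup G)) {g : G}
    (h : 2 ∣ orderOf g) : Odd (orderOf g / 2) := by
  rw [← Nat.not_even_iff_odd]
  intro heven
  obtain ⟨k, hk⟩ := heven
  have hpos : 0 < orderOf g := orderOf_pos g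
  obtain ⟨j, hj⟩ := h
  have hj2 : orderOf g / 2 = j := by omega
  have hk0 : k ≠ 0 := by
    rintro rfl
    omega
  have ho : orderOf (g ^ k) = 4 := by
    rw [orderOf_pow_of_dvd hk0 ⟨4, by omega⟩]
    have : orderOf g = 4 * k := by omega
    rw [this]
    exact Nat.mul_div_cancel _ (Nat.pos_of_ne_zero hk0)
  have h1 := sq_eq_one_of_two_element P hP (g := g ^ k) ⟨2, by rw [ho]; norm_num⟩
  have h2 : orderOf (g ^ k) ∣ 2 := by
    apply orderOf_dvd_of_pow_eq_one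
    rw [pow_two]
    exact h1
  rw [ho] at h2
  norm_num at h2

theorem kf_card_even_pairs [Finite G] (P : Sylow 2 G) (hP : IsK4 (P : Subgroup G))
    (hone : ∀ s t : G, orderOf s = 2 → orderOf t = 2 → IsConj s t) {J : G}
    (hJ2 : orderOf J = 2) :
    Nat.card {p : G × G // orderOf p.1 = 2 ∧ orderOf p.2 = 2 ∧ 2 ∣ orderOf (p.1 * p.2)} =
      Nat.card {w : G // orderOf w = 2} *
        Nat.card {p : G × G // orderOf p.1 = 2 ∧ orderOf p.2 = 2 ∧
          ∃ m : ℕ, Odd m ∧ (p.1 * p.2) ^ m = J} := by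
  have hsq : ∀ u : G, orderOf u = 2 → u * u = 1 := by
    intro u hu
    rw [← pow_two, ← hu]
    exact pow_orderOf_eq_one u
  let f : {p : G × G // orderOf p.1 = 2 ∧ orderOf p.2 = 2 ∧ 2 ∣ orderOf (p.1 * p.2)} →
      {w : G // orderOf w = 2} := fun p =>
    ⟨(p.1.1 * p.1.2) ^ (orderOf (p.1.1 * p.1.2) / 2), orderOf_half_pow p.2.2.2⟩
  apply Cfsg.Agent.Lib.Helper3.card_eq_mul_of_fibres f
  intro w
  obtain ⟨c, hc⟩ := isConj_iff.1 (hone J w.1 hJ2 w.2)
  apply Nat.card_congr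
  refine
    { toFun := fun a => ⟨(c⁻¹ * a.1.1.1 * c, c⁻¹ * a.1.1.2 * c), ?_⟩
      invFun := fun p => ⟨⟨(c * p.1.1 * c⁻¹, c * p.1.2 * c⁻¹), ?_⟩, ?_⟩
      left_inv := fun a => ?_
      right_inv := fun p => ?_ }
  · obtain ⟨⟨p, h1, h2, h3⟩, ha⟩ := a
    have ha' : (p.1 * p.2) ^ (orderOf (p.1 * p.2) / 2) = w.1 := congrArg Subtype.val ha
    refine ⟨?_, ?_, orderOf (p.1 * p.2) / 2, odd_half_order P hP h3, ?_⟩
    · have : c⁻¹ * p.1 * c = MulAut.conj c⁻¹ p.1 := by simp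
      rw [this, MulEquiv.orderOf_eq, h1]
    · have : c⁻¹ * p.2 * c = MulAut.conj c⁻¹ p.2 := by simp
      rw [this, MulEquiv.orderOf_eq, h2]
    · have e : c⁻¹ * p.1 * c * (c⁻¹ * p.2 * c) = c⁻¹ * (p.1 * p.2) * c⁻¹⁻¹ := by group
      rw [e, conj_pow, ha', ← hc]
      group
  · obtain ⟨h1, h2, m, hm, h3⟩ := p.2
    refine ⟨?_, ?_, ?_⟩
    · have : c * p.1.1 * c⁻¹ = MulAut.conj c p.1.1 := rfl
      rw [this, MulEquiv.orderOf_eq, h1]
    · have : c * p.1.2 * c⁻¹ = MulAut.conj c p.1.2 := rfl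
      rw [this, MulEquiv.orderOf_eq, h2]
    · have e : c * p.1.1 * c⁻¹ * (c * p.1.2 * c⁻¹) = c * (p.1.1 * p.1.2) * c⁻¹ := by group
      have h4 : (c * p.1.1 * c⁻¹ * (c * p.1.2 * c⁻¹)) ^ m = w.1 := by
        rw [e, conj_pow, h3, hc]
      have h5 := orderOf_pow_dvd (x := c * p.1.1 * c⁻¹ * (c * p.1.2 * c⁻¹)) m
      rw [h4, w.2] at h5
      exact h5
  · obtain ⟨h1, h2, m, hm, h3⟩ := p.2
    apply Subtype.ext
    show (c * p.1.1 * c⁻¹ * (c * p.1.2 * c⁻¹)) ^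
      (orderOf (c * p.1.1 * c⁻¹ * (c * p.1.2 * c⁻¹)) / 2) = w.1
    have e : c * p.1.1 * c⁻¹ * (c * p.1.2 * c⁻¹) = c * (p.1.1 * p.1.2) * c⁻¹ := by group
    have h4 : (c * p.1.1 * c⁻¹ * (c * p.1.2 * c⁻¹)) ^ m = w.1 := by
      rw [e, conj_pow, h3, hc]
    have h5 : 2 ∣ orderOf (c * p.1.1 * c⁻¹ * (c * p.1.2 * c⁻¹)) := by
      have h5 := orderOf_pow_dvd (x := c * p.1.1 * c⁻¹ * (c * p.1.2 * c⁻¹)) m
      rw [h4, w.2] at h5
      exact h5
    exact odd_pow_involution_unique (odd_half_order P hP h5) hm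
      (hsq _ (orderOf_half_pow h5)) (hsq _ w.2) rfl h4
  · apply Subtype.ext
    apply Subtype.ext
    apply Prod.ext
    · show c * (c⁻¹ * a.1.1.1 * c) * c⁻¹ = a.1.1.1
      group
    · show c * (c⁻¹ * a.1.1.2 * c) * c⁻¹ = a.1.1.2
      group
  · apply Subtype.ext
    apply Prod.ext
    · show c⁻¹ * (c * p.1.1 * c⁻¹) * c = p.1.1
      group
    · show c⁻¹ * (c * p.1.2 * c⁻¹) * c = p.1.2
      group

end

end Cfsg.Agent.Lib.Helper8
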