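import Mathlib
import Cfsg.Prelude.Def_Blocks
import Cfsg.Agent.Lib.Helper8.KF4
import Cfsg.Agent.Lib.Helper8.KF9
import Cfsg.Agent.S0942

/-!
# Klein four Sylow: principal block characters are constant on elements of even order
-/

set_option autoImplicit false

namespace Cfsg.Agent.Lib.Helper8

open Cfsg
open scoped ComplexConjugate Pointwise
open Cfsg.Agent.Lib.Helper1 Cfsg.Agent.Lib.Helper4

universe u

theorem mem_of_odd_order_of_index_four {X : Type*} [Group X] (N : Subgroup X) [N.Normal]
    (hN : N.index = 4) {x : X} (hx : Odd (orderOf x)) : x ∈ N := by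
  have h1 : orderOf ((QuotientGroup.mk' N) x) ∣ orderOf x := orderOf_map_dvd (QuotientGroup.mk' N) x
  have h2 : orderOf ((QuotientGroup.mk' N) x) ∣ 4 := by
    rw [← hN, Subgroup.index_eq_card]
    exact orderOf_dvd_natCard _
  have h3 : orderOf ((QuotientGroup.mk' N) x) = 1 := by
    have h4 : orderOf ((QuotientGroup.mk' N) x) ∣ Nat.gcd (orderOf x) 4 := Nat.dvd_gcd h1 h2
    have hc : Nat.Coprime (orderOf x) (2 ^ 2) := (Nat.Coprime.pow_right 2 hx.coprime_two_right)
    have hc' : Nat.gcd (orderOf x) 4 = 1 := hc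
    rw [hc'] at h4
    exact Nat.dvd_one.1 h4
  rw [orderOf_eq_one_iff] at h3
  exact (QuotientGroup.eq_one_iff x).1 h3

section

variable {G : Type u} [Group G] [Finite G] {M : Ideal AlgInt}

/-- With Klein four Sylow `2`-subgroups and one class of involutions, the characters in the
principal `2`-block are constant on the elements of even order. -/
theorem kf_irr_even_eq (hM : IsPModular 2 M) (P : Sylow 2 G) (hP : IsK4 (P : Subgroup G))
    (hone : ∀ s t : G, orderOf s = 2 → orderOf t = 2 → IsConj s t) {J : G}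
    (hJ2 : orderOf J = 2) (χ : IrrCharacter G) (hχ : χ ∈ principalBlock M G) {g : G}
    (hg : 2 ∣ orderOf g) : (χ : G → ℂ) g = (χ : G → ℂ) J := by
  haveI : Fact (Nat.Prime 2) := ⟨Nat.prime_two⟩
  set m := orderOf g / 2 with hm
  have hmodd : Odd m := odd_half_order P hP hg
  have hom : orderOf g = 2 * m := by omega
  set w := g ^ m with hw
  set s := g ^ (m + 1) with hs
  have hw2 : orderOf w = 2 := orderOf_half_pow hg
  have hws : w * s = g := by
    rw [hw, hs, ← pow_add]
    have : m + (m + 1) = orderOf g + 1 := by omega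
    rw [this, pow_succ, pow_orderOf_eq_one, one_mul]
  have hcomm : s * w = w * s := by
    rw [hw, hs, ← pow_add, ← pow_add, add_comm]
  have hsodd : Odd (orderOf s) := by
    have h1 : s ^ m = 1 := by
      obtain ⟨k, hk⟩ := hmodd
      rw [hs, ← pow_mul]
      have : (m + 1) * m = orderOf g * (k + 1) := by
        rw [hom, hk]; ring
      rw [this, pow_mul, pow_orderOf_eq_one, one_pow]
    exact Odd.of_dvd_nat hmodd (orderOf_dvd_of_pow_eq_one h1)
  have hw1 : w ≠ 1 := by
    intro h
    rw [h, orderOf_one] at hw2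
    omega
  -- a Sylow subgroup containing `w`
  have hpg : IsPGroup 2 (Subgroup.zpowers w) := by
    apply IsPGroup.of_card (n := 1)
    rw [Nat.card_zpowers, hw2, pow_one]
  obtain ⟨P', hP'⟩ := hpg.exists_le_sylow
  have hwP' : w ∈ (P' : Subgroup G) := hP' (Subgroup.mem_zpowers w)
  have hK' : IsK4 (P' : Subgroup G) := isK4_sylow P P' hP
  obtain ⟨hidx, -⟩ := kleinFour_centralizer_index P' hK' hwP' hw1
  have hsC : s ∈ Subgroup.centralizer ({w} : Set G) := by
    rw [Subgroup.mem_centralizer_singleton_iff]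
    exact hcomm
  haveI : (pPrimeCore 2 (Subgroup.centralizer ({w} : Set G))).Normal :=
    (Cfsg.Agent.Lib.Helper6.pPrimeCore_mem_set 2).1
  have hs' : (⟨s, hsC⟩ : Subgroup.centralizer ({w} : Set G)) ∈
      pPrimeCore 2 (Subgroup.centralizer ({w} : Set G)) := by
    apply mem_of_odd_order_of_index_four _ hidx
    rw [Subgroup.orderOf_mk]
    exact hsodd
  have hsmem : s ∈ centralizerPPrimeCore 2 w := ⟨⟨s, hsC⟩, hs', rfl⟩
  have h0 := Cfsg.Agent.S0942.result 2 M hM w ⟨1, by rw [hw2, pow_one]⟩ s hsmem χ hχ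
  rw [hws] at h0
  rw [h0]
  obtain ⟨c, hc⟩ := isConj_iff.1 (hone J w hJ2 hw2)
  rw [← hc, isClassFunction_irr χ.2 J c]

end

end Cfsg.Agent.Lib.Helper8
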