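import Mathlib
import Cfsg.Prelude.Def_Blocks
import Cfsg.Agent.Lib.Helper8.KF10
import Cfsg.Agent.Lib.Helper8.ClassAlgebra

/-!
# Klein four Sylow: the order formula
-/

set_option autoImplicit false

namespace Cfsg.Agent.Lib.Helper8

open Cfsg
open scoped ComplexConjugate Pointwise
open Cfsg.Agent.Lib.Helper1 Cfsg.Agent.Lib.Helper4

universe u

section

variable {G : Type u} [Group G] [Finite G] {M : Ideal AlgInt}

omit [Finite G] in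
theorem kf_finsum_four (χ₁ χ₂ χ₃ : IrrCharacter G)
    (hB : principalBlock M G = {χ : IrrCharacter G | (χ : G → ℂ) = (fun _ => 1) ∨ χ = χ₁ ∨
      χ = χ₂ ∨ χ = χ₃})
    (hdist : (χ₁ : G → ℂ) ≠ (fun _ => 1) ∧ (χ₂ : G → ℂ) ≠ (fun _ => 1) ∧
      (χ₃ : G → ℂ) ≠ (fun _ => 1) ∧ χ₁ ≠ χ₂ ∧ χ₁ ≠ χ₃ ∧ χ₂ ≠ χ₃) (f : IrrCharacter G → ℂ) :
    ∑ᶠ χ ∈ principalBlock M G, f χ = f (trivIrr G) + f χ₁ + f χ₂ + f χ₃ := by
  classical
  obtain ⟨h1, h2, h3, h12, h13, h23⟩ := hdist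
  have hset : principalBlock M G = ↑({trivIrr G, χ₁, χ₂, χ₃} : Finset (IrrCharacter G)) := by
    ext χ
    rw [hB, Set.mem_ofPred_eq, eq_trivIrr_iff]
    simp
  rw [hset, finsum_mem_coe_finset, Finset.sum_insert, Finset.sum_insert, Finset.sum_insert,
    Finset.sum_singleton]
  · ring
  · simp only [Finset.mem_singleton]; exact h23
  · simp only [Finset.mem_insert, Finset.mem_singleton, not_or]; exact ⟨h12, h13⟩
  · simp only [Finset.mem_insert, Finset.mem_singleton, not_or]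
    refine ⟨?_, ?_, ?_⟩
    · intro h; exact h1 ((eq_trivIrr_iff χ₁).2 h.symm)
    · intro h; exact h2 ((eq_trivIrr_iff χ₂).2 h.symm)
    · intro h; exact h3 ((eq_trivIrr_iff χ₃).2 h.symm)

theorem kf_psi (hM : IsPModular 2 M) (P : Sylow 2 G) (hP : IsK4 (P : Subgroup G))
    (hone : ∀ s t : G, orderOf s = 2 → orderOf t = 2 → IsConj s t) {J : G}
    (hJ2 : orderOf J = 2) (χ₁ χ₂ χ₃ : IrrCharacter G) (ε₁ ε₂ ε₃ : ℤ)
    (hB : principalBlock M G = {χ : IrrCharacter G | (χ : G → ℂ) = (fun _ => 1) ∨ χ = χ₁ ∨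
      χ = χ₂ ∨ χ = χ₃})
    (hdist : (χ₁ : G → ℂ) ≠ (fun _ => 1) ∧ (χ₂ : G → ℂ) ≠ (fun _ => 1) ∧
      (χ₃ : G → ℂ) ≠ (fun _ => 1) ∧ χ₁ ≠ χ₂ ∧ χ₁ ≠ χ₃ ∧ χ₂ ≠ χ₃)
    (hε : (ε₁ = 1 ∨ ε₁ = -1) ∧ (ε₂ = 1 ∨ ε₂ = -1) ∧ (ε₃ = 1 ∨ ε₃ = -1))
    (hval : (χ₁ : G → ℂ) J = ε₁ ∧ (χ₂ : G → ℂ) J = ε₂ ∧ (χ₃ : G → ℂ) J = ε₃) (g : G) :
    1 + (ε₁ : ℂ) * (χ₁ : G → ℂ) g + (ε₂ : ℂ) * (χ₂ : G → ℂ) g + (ε₃ : ℂ) * (χ₃ : G → ℂ) g =
      if 2 ∣ orderOf g then 4 else 0 := by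
  haveI : Fact (Nat.Prime 2) := ⟨Nat.prime_two⟩
  have h1B : χ₁ ∈ principalBlock M G := by rw [hB]; exact Or.inr (Or.inl rfl)
  have h2B : χ₂ ∈ principalBlock M G := by rw [hB]; exact Or.inr (Or.inr (Or.inl rfl))
  have h3B : χ₃ ∈ principalBlock M G := by rw [hB]; exact Or.inr (Or.inr (Or.inr rfl))
  have hsq : ∀ ε : ℤ, (ε = 1 ∨ ε = -1) → (ε : ℂ) * (ε : ℂ) = 1 := by
    rintro ε (rfl | rfl) <;> norm_num
  split_ifs with hg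
  · rw [kf_irr_even_eq hM P hP hone hJ2 χ₁ h1B hg, kf_irr_even_eq hM P hP hone hJ2 χ₂ h2B hg,
      kf_irr_even_eq hM P hP hone hJ2 χ₃ h3B hg, hval.1, hval.2.1, hval.2.2,
      hsq ε₁ hε.1, hsq ε₂ hε.2.1, hsq ε₃ hε.2.2]
    norm_num
  · have hJ : 2 ∣ orderOf J := by rw [hJ2]
    have h0 := Cfsg.Agent.S0907.result 2 M hM (principalBlock M G) isPBlock_principalBlock g J hg hJ
    rw [kf_finsum_four χ₁ χ₂ χ₃ hB hdist, hval.1, hval.2.1, hval.2.2, trivIrr_apply,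
      trivIrr_apply] at h0
    simp only [map_intCast, map_one] at h0
    linear_combination h0

end

section

variable {G : Type u} [Group G] [Fintype G]

theorem kf_double_sum (χ : IrrCharacter G) (J : G) :
    ∑ a : G, ∑ b : G, (χ : G → ℂ) ((a * J * a⁻¹) * (b * J * b⁻¹)) =
      (Fintype.card G : ℂ) ^ 2 * ((χ : G → ℂ) J) ^ 2 / (χ : G → ℂ) 1 := by
  have h1 : ∀ a : G, ∑ b : G, (χ : G → ℂ) ((a * J * a⁻¹) * (b * J * b⁻¹)) =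
      (Fintype.card G : ℂ) * ((χ : G → ℂ) J) ^ 2 / (χ : G → ℂ) 1 := by
    intro a
    rw [sum_irr_mul_conj χ.2, isClassFunction_irr χ.2 J a]
    ring
  rw [Finset.sum_congr rfl (fun a _ => h1 a), Finset.sum_const, Finset.card_univ, nsmul_eq_mul]
  ring

end

end Cfsg.Agent.Lib.Helper8
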