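import Mathlib
import Cfsg.Prelude.Def_Blocks
import Cfsg.Agent.Lib.Helper8.KF11

/-!
# Klein four Sylow: the order formula (assembly)
-/

set_option autoImplicit false

namespace Cfsg.Agent.Lib.Helper8

open Cfsg
open scoped ComplexConjugate Pointwise
open Cfsg.Agent.Lib.Helper1 Cfsg.Agent.Lib.Helper4

universe u

section

variable {G : Type u} [Group G] [Finite G] {M : Ideal AlgInt}

theorem kf_card_conj_pairs
    (hone : ∀ s t : G, orderOf s = 2 → orderOf t = 2 → IsConj s t) {J : G}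
    (hJ2 : orderOf J = 2) :
    Nat.card {p : G × G // 2 ∣ orderOf ((p.1 * J * p.1⁻¹) * (p.2 * J * p.2⁻¹))} =
      Nat.card {p : G × G // orderOf p.1 = 2 ∧ orderOf p.2 = 2 ∧ 2 ∣ orderOf (p.1 * p.2)} *
        (Nat.card (Subgroup.centralizer ({J} : Set G)) *
          Nat.card (Subgroup.centralizer ({J} : Set G))) := by
  have hconj : ∀ a : G, orderOf (a * J * a⁻¹) = 2 := by
    intro a
    have : a * J * a⁻¹ = MulAut.conj a J := rfl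
    rw [this, MulEquiv.orderOf_eq, hJ2]
  let f : {p : G × G // 2 ∣ orderOf ((p.1 * J * p.1⁻¹) * (p.2 * J * p.2⁻¹))} →
      {p : G × G // orderOf p.1 = 2 ∧ orderOf p.2 = 2 ∧ 2 ∣ orderOf (p.1 * p.2)} := fun p =>
    ⟨(p.1.1 * J * p.1.1⁻¹, p.1.2 * J * p.1.2⁻¹), hconj _, hconj _, p.2⟩
  apply Cfsg.Agent.Lib.Helper3.card_eq_mul_of_fibres f
  rintro ⟨⟨u, v⟩, hu, hv, huv⟩
  obtain ⟨cu, hcu⟩ := isConj_iff.1 (hone J u hJ2 hu)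
  obtain ⟨cv, hcv⟩ := isConj_iff.1 (hone J v hJ2 hv)
  have h1 := Cfsg.Agent.Lib.Helper3.card_conj_fibre' J u cu hcu
  have h2 := Cfsg.Agent.Lib.Helper3.card_conj_fibre' J v cv hcv
  have key : Nat.card (Subgroup.centralizer ({J} : Set G)) *
      Nat.card (Subgroup.centralizer ({J} : Set G)) =
      Nat.card {g : G // g * J * g⁻¹ = u} * Nat.card {g : G // g * J * g⁻¹ = v} := by
    rw [h1, h2]
  rw [key, ← Nat.card_prod]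
  apply Nat.card_congr
  refine
    { toFun := fun p => (⟨p.1.1.1, ?_⟩, ⟨p.1.1.2, ?_⟩)
      invFun := fun q => ⟨⟨(q.1.1, q.2.1), ?_⟩, ?_⟩
      left_inv := fun p => rfl
      right_inv := fun q => rfl }
  · have := congrArg (fun t : {p : G × G // orderOf p.1 = 2 ∧ orderOf p.2 = 2 ∧
      2 ∣ orderOf (p.1 * p.2)} => t.1.1) p.2
    exact this
  · have := congrArg (fun t : {p : G × G // orderOf p.1 = 2 ∧ orderOf p.2 = 2 ∧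
      2 ∣ orderOf (p.1 * p.2)} => t.1.2) p.2
    exact this
  · show 2 ∣ orderOf ((q.1.1 * J * q.1.1⁻¹) * (q.2.1 * J * q.2.1⁻¹))
    rw [q.1.2, q.2.2]
    exact huv
  · apply Subtype.ext
    show (q.1.1 * J * q.1.1⁻¹, q.2.1 * J * q.2.1⁻¹) = (u, v)
    rw [q.1.2, q.2.2]

theorem kf_order_formula (hM : IsPModular 2 M) (P : Sylow 2 G) (hP : IsK4 (P : Subgroup G))
    (hone : ∀ s t : G, orderOf s = 2 → orderOf t = 2 → IsConj s t) {J : G}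
    (hJP : J ∈ (P : Subgroup G)) (hJ2 : orderOf J = 2) (χ₁ χ₂ χ₃ : IrrCharacter G)
    (ε₁ ε₂ ε₃ : ℤ)
    (hB : principalBlock M G = {χ : IrrCharacter G | (χ : G → ℂ) = (fun _ => 1) ∨ χ = χ₁ ∨
      χ = χ₂ ∨ χ = χ₃})
    (hdist : (χ₁ : G → ℂ) ≠ (fun _ => 1) ∧ (χ₂ : G → ℂ) ≠ (fun _ => 1) ∧
      (χ₃ : G → ℂ) ≠ (fun _ => 1) ∧ χ₁ ≠ χ₂ ∧ χ₁ ≠ χ₃ ∧ χ₂ ≠ χ₃)
    (hε : (ε₁ = 1 ∨ ε₁ = -1) ∧ (ε₂ = 1 ∨ ε₂ = -1) ∧ (ε₃ = 1 ∨ ε₃ = -1))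
    (hval : (χ₁ : G → ℂ) J = ε₁ ∧ (χ₂ : G → ℂ) J = ε₂ ∧ (χ₃ : G → ℂ) J = ε₃) :
    (8 : ℤ) * (Nat.card (Subgroup.centralizer ({J} : Set G)) : ℤ) ^ 3 *
        ((charDegree (χ₁ : G → ℂ) : ℤ) * charDegree (χ₂ : G → ℂ) * charDegree (χ₃ : G → ℂ)) =
      (Nat.card G : ℤ) * (((charDegree (χ₁ : G → ℂ) : ℤ) + ε₁) *
        ((charDegree (χ₂ : G → ℂ) : ℤ) + ε₂) * ((charDegree (χ₃ : G → ℂ) : ℤ) + ε₃)) *
        (Nat.card (Subgroup.centralizer ((P : Subgroup G) : Set G)) : ℤ) ^ 2 := by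
  classical
  haveI : Fintype G := Fintype.ofFinite G
  set x₁ := charDegree (χ₁ : G → ℂ) with hx₁def
  set x₂ := charDegree (χ₂ : G → ℂ) with hx₂def
  set x₃ := charDegree (χ₃ : G → ℂ) with hx₃def
  have hx₁ : (χ₁ : G → ℂ) 1 = (x₁ : ℂ) := (irr_apply_one_eq_charDegree χ₁.2).1
  have hx₂ : (χ₂ : G → ℂ) 1 = (x₂ : ℂ) := (irr_apply_one_eq_charDegree χ₂.2).1
  have hx₃ : (χ₃ : G → ℂ) 1 = (x₃ : ℂ) := (irr_apply_one_eq_charDegree χ₃.2).1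
  have hx₁0 : (x₁ : ℂ) ≠ 0 := Nat.cast_ne_zero.2 (irr_apply_one_eq_charDegree χ₁.2).2.ne'
  have hx₂0 : (x₂ : ℂ) ≠ 0 := Nat.cast_ne_zero.2 (irr_apply_one_eq_charDegree χ₂.2).2.ne'
  have hx₃0 : (x₃ : ℂ) ≠ 0 := Nat.cast_ne_zero.2 (irr_apply_one_eq_charDegree χ₃.2).2.ne'
  have hJ1 : J ≠ 1 := by
    rintro rfl
    rw [orderOf_one] at hJ2
    omega
  have hsq : ∀ ε : ℤ, (ε = 1 ∨ ε = -1) → (ε : ℂ) * (ε : ℂ) = 1 := by
    rintro ε (rfl | rfl) <;> norm_num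
  have he₁ := hsq ε₁ hε.1
  have he₂ := hsq ε₂ hε.2.1
  have he₃ := hsq ε₃ hε.2.2
  have hΨ := kf_psi hM P hP hone hJ2 χ₁ χ₂ χ₃ ε₁ ε₂ ε₃ hB hdist hε hval
  have h6 : (1 : ℂ) + ε₁ * x₁ + ε₂ * x₂ + ε₃ * x₃ = 0 := by
    have := hΨ 1
    rw [orderOf_one, if_neg (by norm_num), hx₁, hx₂, hx₃] at this
    exact this
  set A := Nat.card {p : G × G // 2 ∣ orderOf ((p.1 * J * p.1⁻¹) * (p.2 * J * p.2⁻¹))} with hA
  -- the right-hand side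
  have hR : ∑ a : G, ∑ b : G,
      (if 2 ∣ orderOf ((a * J * a⁻¹) * (b * J * b⁻¹)) then (4 : ℂ) else 0) = 4 * (A : ℂ) := by
    rw [← Finset.sum_product'
      (f := fun a b : G => if 2 ∣ orderOf ((a * J * a⁻¹) * (b * J * b⁻¹)) then (4 : ℂ) else 0),
      Finset.univ_product_univ, Finset.sum_ite, Finset.sum_const, Finset.sum_const_zero,
      add_zero, nsmul_eq_mul, mul_comm]
    congr 2
    rw [hA, Nat.card_eq_fintype_card, Fintype.card_subtype]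
  -- the left-hand side
  have hL : ∑ a : G, ∑ b : G, ((1 : ℂ) +
      (ε₁ : ℂ) * (χ₁ : G → ℂ) ((a * J * a⁻¹) * (b * J * b⁻¹)) +
      (ε₂ : ℂ) * (χ₂ : G → ℂ) ((a * J * a⁻¹) * (b * J * b⁻¹)) +
      (ε₃ : ℂ) * (χ₃ : G → ℂ) ((a * J * a⁻¹) * (b * J * b⁻¹))) =
      (Fintype.card G : ℂ) ^ 2 * (1 + (ε₁ : ℂ) / x₁ + (ε₂ : ℂ) / x₂ + (ε₃ : ℂ) / x₃) := by
    simp only [Finset.sum_add_distrib, ← Finset.mul_sum, kf_double_sum, Finset.sum_const,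
      Finset.card_univ, nsmul_eq_mul, hval.1, hval.2.1, hval.2.2, hx₁, hx₂, hx₃]
    have e₁ : (ε₁ : ℂ) ^ 2 = 1 := by rw [pow_two]; exact he₁
    have e₂ : (ε₂ : ℂ) ^ 2 = 1 := by rw [pow_two]; exact he₂
    have e₃ : (ε₃ : ℂ) ^ 2 = 1 := by rw [pow_two]; exact he₃
    rw [e₁, e₂, e₃]
    ring
  have hmain : (Fintype.card G : ℂ) ^ 2 *
      (1 + (ε₁ : ℂ) / x₁ + (ε₂ : ℂ) / x₂ + (ε₃ : ℂ) / x₃) = 4 * (A : ℂ) := by
    rw [← hL, ← hR]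
    refine Finset.sum_congr rfl fun a _ => Finset.sum_congr rfl fun b _ => ?_
    exact hΨ _
  -- clear denominators
  have hpoly : (Fintype.card G : ℂ) ^ 2 *
      (((x₁ : ℂ) + ε₁) * ((x₂ : ℂ) + ε₂) * ((x₃ : ℂ) + ε₃)) =
      4 * (A : ℂ) * ((x₁ : ℂ) * x₂ * x₃) := by
    have h7 : ((x₁ : ℂ) + ε₁) * ((x₂ : ℂ) + ε₂) * ((x₃ : ℂ) + ε₃) =
        (1 + (ε₁ : ℂ) / x₁ + (ε₂ : ℂ) / x₂ + (ε₃ : ℂ) / x₃) * ((x₁ : ℂ) * x₂ * x₃) := by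
      field_simp
      linear_combination ((ε₁ : ℂ) * ε₂ * ε₃) * h6 +
        (-(ε₁ : ℂ) * ε₂ * x₃) * he₃ + (-(ε₁ : ℂ) * ε₃ * x₂) * he₂ + (-(ε₂ : ℂ) * ε₃ * x₁) * he₁
    rw [h7, ← mul_assoc, hmain]
  -- counting
  have hc1 := kf_card_conj_pairs hone hJ2
  have hc2 := kf_card_even_pairs P hP hone hJ2
  have hc3 := kf_card_pairs_centralizer P hP hJP hJ1
  have hc4 : Nat.card {w : G // orderOf w = 2} *
      Nat.card (Subgroup.centralizer ({J} : Set G)) = Nat.card G := by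
    rw [← Cfsg.Agent.Lib.Helper3.card_conj_class_mul_card_centralizer J]
    congr 1
    apply Nat.card_congr
    apply Equiv.subtypeEquivRight
    intro w
    constructor
    · intro hw
      exact hone J w hJ2 hw
    · intro hw
      obtain ⟨c, hc⟩ := isConj_iff.1 hw
      have : c * J * c⁻¹ = MulAut.conj c J := rfl
      rw [← hc, this, MulEquiv.orderOf_eq, hJ2]
  rw [← hA] at hc1
  set T := Nat.card {p : G × G // orderOf p.1 = 2 ∧ orderOf p.2 = 2 ∧ 2 ∣ orderOf (p.1 * p.2)}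
  set I := Nat.card {w : G // orderOf w = 2}
  set F := Nat.card {p : G × G // orderOf p.1 = 2 ∧ orderOf p.2 = 2 ∧
          ∃ m : ℕ, Odd m ∧ (p.1 * p.2) ^ m = J}
  set cJ := Nat.card (Subgroup.centralizer ({J} : Set G))
  set cP := Nat.card (Subgroup.centralizer ((P : Subgroup G) : Set G))
  rw [← Nat.card_eq_fintype_card] at hpoly
  have hG0 : (Nat.card G : ℂ) ≠ 0 := Nat.cast_ne_zero.2 Nat.card_pos.ne'
  have hc1' : (A : ℂ) = (T : ℂ) * ((cJ : ℂ) * cJ) := by exact_mod_cast congrArg (Nat.cast (R := ℂ)) hc1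
  have hc2' : (T : ℂ) = (I : ℂ) * F := by exact_mod_cast congrArg (Nat.cast (R := ℂ)) hc2
  have hc3' : (F : ℂ) * (cP : ℂ) ^ 2 = 2 * (cJ : ℂ) ^ 2 := by
    exact_mod_cast congrArg (Nat.cast (R := ℂ)) hc3
  have hc4' : (I : ℂ) * cJ = (Nat.card G : ℂ) := by exact_mod_cast congrArg (Nat.cast (R := ℂ)) hc4
  have hfinal : (8 : ℂ) * (cJ : ℂ) ^ 3 * ((x₁ : ℂ) * x₂ * x₃) =
      (Nat.card G : ℂ) * (((x₁ : ℂ) + ε₁) * ((x₂ : ℂ) + ε₂) * ((x₃ : ℂ) + ε₃)) * (cP : ℂ) ^ 2 := by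
    apply mul_left_cancel₀ hG0
    rw [hc1', hc2'] at hpoly
    linear_combination (-(cP : ℂ) ^ 2) * hpoly +
      (-4 * (F : ℂ) * cJ * ((x₁ : ℂ) * x₂ * x₃) * (cP : ℂ) ^ 2) * hc4' +
      (-4 * (Nat.card G : ℂ) * cJ * ((x₁ : ℂ) * x₂ * x₃)) * hc3'
  exact_mod_cast hfinal

end

end Cfsg.Agent.Lib.Helper8
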