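import Mathlib
import Cfsg.Prelude.Def_Blocks
import Cfsg.Agent.Lib.Helper8.KF12
import Cfsg.Agent.Lib.Helper8.FI2
import Cfsg.Agent.Lib.Helper1.CharFound8

/-!
# Klein four Sylow: when the signs are `(1, 1, -1)` the first two characters are complex conjugate
-/

set_option autoImplicit false

namespace Cfsg.Agent.Lib.Helper8

open Cfsg
open scoped ComplexConjugate Pointwise
open Cfsg.Agent.Lib.Helper1 Cfsg.Agent.Lib.Helper4

universe u

section

variable {G : Type u} [Group G] [Finite G] {M : Ideal AlgInt}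

/-- If `χ₁ + χ₂ - χ₃` is real valued and `χ₁` is not, then `χ₂` is the conjugate of `χ₁`. -/
theorem kf_conj_aux {χ₁ χ₂ χ₃ : G → ℂ} (h1 : IsIrrCharacter G χ₁) (h2 : IsIrrCharacter G χ₂)
    (h3 : IsIrrCharacter G χ₃) (h12 : χ₁ ≠ χ₂) (h13 : χ₁ ≠ χ₃)
    (hreal : ∀ g : G, conj (χ₁ g + χ₂ g - χ₃ g) = χ₁ g + χ₂ g - χ₃ g)
    (hnr : ¬ ∀ g : G, conj (χ₁ g) = χ₁ g) : χ₂ = fun g => conj (χ₁ g) := by
  classical
  haveI : Fintype G := Fintype.ofFinite G
  have c1 := isIrrCharacter_conj h1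
  have c2 := isIrrCharacter_conj h2
  have c3 := isIrrCharacter_conj h3
  set ψ : G → ℂ := fun g => conj (χ₁ g) with hψ
  have hF : (fun g => conj (χ₁ g)) + (fun g => conj (χ₂ g)) + χ₃ =
      χ₁ + χ₂ + (fun g => conj (χ₃ g)) := by
    funext g
    have := hreal g
    simp only [map_add, map_sub] at this
    simp only [Pi.add_apply]
    linear_combination this
  have hI := congrArg (fun F => classInner F ψ) hF
  simp only [classInner_add_left] at hI
  have e1 : classInner (fun g => conj (χ₁ g)) ψ = 1 := classInner_irr_self c1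
  have e2 : classInner (fun g => conj (χ₂ g)) ψ = 0 := by
    apply classInner_irr_ne c2 c1
    intro h
    apply h12
    funext g
    have := congrFun h g
    simp only [hψ] at this
    exact ((starRingEnd ℂ).injective this).symm
  have e4 : classInner χ₁ ψ = 0 := by
    apply classInner_irr_ne h1 c1
    intro h
    apply hnr
    intro g
    exact (congrFun h g).symm
  have e6 : classInner (fun g => conj (χ₃ g)) ψ = 0 := by
    apply classInner_irr_ne c3 c1
    intro h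
    apply h13
    funext g
    have := congrFun h g
    simp only [hψ] at this
    exact ((starRingEnd ℂ).injective this).symm
  rw [e1, e2, e4, e6, classInner_irr h3 c1, classInner_irr h2 c1] at hI
  by_contra hne
  rw [if_neg hne] at hI
  split_ifs at hI <;> norm_num at hI

/-- Squares are `2`-regular when the Sylow `2`-subgroups have exponent two. -/
theorem kf_sq_regular (P : Sylow 2 G) (hP : IsK4 (P : Subgroup G)) (h : G) :
    ¬ 2 ∣ orderOf (h * h) := by
  rw [← pow_two, orderOf_pow]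
  by_cases h2 : 2 ∣ orderOf h
  · have hodd := odd_half_order P hP h2
    have hg : Nat.gcd (orderOf h) 2 = 2 := Nat.gcd_eq_right h2
    rw [hg]
    exact fun hd => (Nat.not_even_iff_odd.2 hodd) (even_iff_two_dvd.2 hd)
  · have hg : Nat.gcd (orderOf h) 2 = 1 := by
      rw [Nat.gcd_comm]
      exact (Nat.Prime.coprime_iff_not_dvd Nat.prime_two).2 h2
    rw [hg, Nat.div_one]
    exact h2

/-- In the Klein four situation with signs `(1, 1, -1)` the two characters with sign `1` have the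
same degree (they are complex conjugates of each other). -/
theorem kf_degree_eq (hM : IsPModular 2 M) (P : Sylow 2 G) (hP : IsK4 (P : Subgroup G))
    (hone : ∀ s t : G, orderOf s = 2 → orderOf t = 2 → IsConj s t) {J : G}
    (hJ2 : orderOf J = 2) (χ₁ χ₂ χ₃ : IrrCharacter G)
    (hB : principalBlock M G = {χ : IrrCharacter G | (χ : G → ℂ) = (fun _ => 1) ∨ χ = χ₁ ∨
      χ = χ₂ ∨ χ = χ₃})
    (hdist : (χ₁ : G → ℂ) ≠ (fun _ => 1) ∧ (χ₂ : G → ℂ) ≠ (fun _ => 1) ∧
      (χ₃ : G → ℂ) ≠ (fun _ => 1) ∧ χ₁ ≠ χ₂ ∧ χ₁ ≠ χ₃ ∧ χ₂ ≠ χ₃)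
    (hval : (χ₁ : G → ℂ) J = ((1 : ℤ) : ℂ) ∧ (χ₂ : G → ℂ) J = ((1 : ℤ) : ℂ) ∧
      (χ₃ : G → ℂ) J = ((-1 : ℤ) : ℂ)) :
    charDegree (χ₁ : G → ℂ) = charDegree (χ₂ : G → ℂ) := by
  classical
  haveI : Fintype G := Fintype.ofFinite G
  have hΨ := kf_psi hM P hP hone hJ2 χ₁ χ₂ χ₃ 1 1 (-1) hB hdist
    ⟨Or.inl rfl, Or.inl rfl, Or.inr rfl⟩ hval
  have hΨ' : ∀ g : G, 1 + (χ₁ : G → ℂ) g + (χ₂ : G → ℂ) g - (χ₃ : G → ℂ) g =
      if 2 ∣ orderOf g then 4 else 0 := by
    intro g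
    have := hΨ g
    push_cast at this
    rw [← this]
    ring
  have hreal : ∀ g : G, conj ((χ₁ : G → ℂ) g + (χ₂ : G → ℂ) g - (χ₃ : G → ℂ) g) =
      (χ₁ : G → ℂ) g + (χ₂ : G → ℂ) g - (χ₃ : G → ℂ) g := by
    intro g
    have e : (χ₁ : G → ℂ) g + (χ₂ : G → ℂ) g - (χ₃ : G → ℂ) g =
        (if 2 ∣ orderOf g then (4 : ℂ) else 0) - 1 := by linear_combination hΨ' g
    rw [e]
    split_ifs
    · rw [map_sub, map_one, Complex.conj_ofNat]
    · rw [map_sub, map_one, map_zero]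
  have hx₁ : (χ₁ : G → ℂ) 1 = (charDegree (χ₁ : G → ℂ) : ℂ) := (irr_apply_one_eq_charDegree χ₁.2).1
  have hx₂ : (χ₂ : G → ℂ) 1 = (charDegree (χ₂ : G → ℂ) : ℂ) := (irr_apply_one_eq_charDegree χ₂.2).1
  have h12 : (χ₁ : G → ℂ) ≠ (χ₂ : G → ℂ) := fun h => hdist.2.2.2.1 (Subtype.ext h)
  have h13 : (χ₁ : G → ℂ) ≠ (χ₃ : G → ℂ) := fun h => hdist.2.2.2.2.1 (Subtype.ext h)
  have h23 : (χ₂ : G → ℂ) ≠ (χ₃ : G → ℂ) := fun h => hdist.2.2.2.2.2 (Subtype.ext h)
  by_cases hr1 : ∀ g : G, conj ((χ₁ : G → ℂ) g) = (χ₁ : G → ℂ) g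
  · by_cases hr2 : ∀ g : G, conj ((χ₂ : G → ℂ) g) = (χ₂ : G → ℂ) g
    · exfalso
      have hne : (Nat.card G : ℂ) ≠ 0 := by exact_mod_cast Nat.card_pos.ne'
      have hsum : ∑ h : G, (1 + (χ₁ : G → ℂ) (h * h) + (χ₂ : G → ℂ) (h * h) -
          (χ₃ : G → ℂ) (h * h)) = 0 := by
        apply Finset.sum_eq_zero
        intro h _
        rw [hΨ', if_neg (kf_sq_regular P hP h)]
      simp only [Finset.sum_add_distrib, Finset.sum_sub_distrib, Finset.sum_const, Finset.card_univ,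
        nsmul_eq_mul, mul_one] at hsum
      have hodd : ∀ χ : IrrCharacter G, (χ : G → ℂ) J = ((1 : ℤ) : ℂ) →
          (∀ g : G, conj ((χ : G → ℂ) g) = (χ : G → ℂ) g) →
          (Nat.card G : ℂ)⁻¹ * ∑ g : G, (χ : G → ℂ) (g * g) = 1 := by
        intro χ hχJ hr
        rcases fs_real_cases χ.2 hr with h | ⟨-, k, hk⟩
        · exact h
        · exfalso
          have h4 := kf_mod_four hP hone χ hJ2 hχJ
          rw [(irr_apply_one_eq_charDegree χ.2).1] at hk
          have hk' : charDegree (χ : G → ℂ) = 2 * k := by exact_mod_cast hk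
          rw [hk'] at h4
          obtain ⟨c, hc⟩ := h4
          push_cast at hc
          omega
      have hν₁ := hodd χ₁ hval.1 hr1
      have hν₂ := hodd χ₂ hval.2.1 hr2
      have hν₃ : (Nat.card G : ℂ)⁻¹ * ∑ g : G, (χ₃ : G → ℂ) (g * g) = 3 := by
        have h5 : ∑ g : G, (χ₃ : G → ℂ) (g * g) = (Fintype.card G : ℂ) +
            ∑ g : G, (χ₁ : G → ℂ) (g * g) + ∑ g : G, (χ₂ : G → ℂ) (g * g) := by
          linear_combination -hsum
        rw [h5, mul_add, mul_add, hν₁, hν₂, ← Nat.card_eq_fintype_card, inv_mul_cancel₀ hne]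
        norm_num
      rcases fs_indicator_cases χ₃.2 with h | ⟨-, h | h⟩ <;> rw [hν₃] at h <;> norm_num at h
    · have h := kf_conj_aux χ₂.2 χ₁.2 χ₃.2 (Ne.symm h12) h23
        (by intro g; rw [add_comm ((χ₂ : G → ℂ) g)]; exact hreal g) hr2
      have h1 := congrFun h 1
      rw [hx₁, hx₂, Complex.conj_natCast] at h1
      exact_mod_cast h1
  · have h := kf_conj_aux χ₁.2 χ₂.2 χ₃.2 h12 h13 hreal hr1
    have h1 := congrFun h 1
    rw [hx₁, hx₂, Complex.conj_natCast] at h1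
    exact_mod_cast h1.symm

end

end Cfsg.Agent.Lib.Helper8
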