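import Mathlib

/-!
# Klein four Sylow: arithmetic of the `PSL`-shaped order formula
-/

set_option autoImplicit false

namespace Cfsg.Agent.Lib.Helper8

theorem kf_arith (a t n x : ℕ) (ha : 0 < a) (ht : 0 < t) (hx : 0 < x)
    (h : 8 * (a * t) ^ 3 * (x * x * (2 * x + 1)) =
      (n * (a * t)) * ((x + 1) * (x + 1) * (2 * x)) * a ^ 2) :
    ∃ m : ℕ, 4 * (a * t) = m * a * ((2 * x + 1) + 1) ∧
      8 * (n * (a * t)) = m ^ 3 * a * ((2 * x + 1) ^ 3 - (2 * x + 1)) := by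
  have h1 : (2 * a ^ 3 * t * x) * (4 * t ^ 2 * x * (2 * x + 1)) =
      (2 * a ^ 3 * t * x) * (n * (x + 1) ^ 2) := by
    zify at h ⊢
    linear_combination h
  have hpos : 0 < 2 * a ^ 3 * t * x := by positivity
  have h2 : 4 * t ^ 2 * x * (2 * x + 1) = n * (x + 1) ^ 2 := Nat.eq_of_mul_eq_mul_left hpos h1
  have hc1 : Nat.Coprime (x + 1) x := by
    apply Nat.isCoprime_iff_coprime.1
    exact ⟨1, -1, by push_cast; ring⟩
  have hc2 : Nat.Coprime (x + 1) (2 * x + 1) := by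
    apply Nat.isCoprime_iff_coprime.1
    exact ⟨2, -1, by push_cast; ring⟩
  have hc : Nat.Coprime ((x + 1) ^ 2) (x * (2 * x + 1)) :=
    Nat.Coprime.pow_left 2 (Nat.Coprime.mul_right hc1 hc2)
  have hd : (x + 1) ^ 2 ∣ (2 * t) ^ 2 * (x * (2 * x + 1)) := by
    refine ⟨n, ?_⟩
    rw [mul_comm ((x + 1) ^ 2) n, ← h2]
    ring
  have hd2 : (x + 1) ^ 2 ∣ (2 * t) ^ 2 := hc.dvd_of_dvd_mul_right hd
  have hd3 : (x + 1) ∣ 2 * t := (Nat.pow_dvd_pow_iff (by norm_num)).1 hd2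
  obtain ⟨m, hm⟩ := hd3
  have hn : n = m ^ 2 * x * (2 * x + 1) := by
    have h3 : (x + 1) ^ 2 * n = (x + 1) ^ 2 * (m ^ 2 * x * (2 * x + 1)) := by
      have h4 : 4 * t ^ 2 = (x + 1) ^ 2 * m ^ 2 := by
        calc 4 * t ^ 2 = (2 * t) ^ 2 := by ring
          _ = ((x + 1) * m) ^ 2 := by rw [hm]
          _ = (x + 1) ^ 2 * m ^ 2 := by ring
      calc (x + 1) ^ 2 * n = n * (x + 1) ^ 2 := mul_comm _ _
        _ = 4 * t ^ 2 * x * (2 * x + 1) := h2.symm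
        _ = (x + 1) ^ 2 * m ^ 2 * x * (2 * x + 1) := by rw [h4]
        _ = (x + 1) ^ 2 * (m ^ 2 * x * (2 * x + 1)) := by ring
    exact Nat.eq_of_mul_eq_mul_left (by positivity) h3
  refine ⟨m, ?_, ?_⟩
  · calc 4 * (a * t) = 2 * a * (2 * t) := by ring
      _ = 2 * a * ((x + 1) * m) := by rw [hm]
      _ = m * a * ((2 * x + 1) + 1) := by ring
  · have hq : (2 * x + 1) ^ 3 - (2 * x + 1) = 4 * x * (x + 1) * (2 * x + 1) := by
      apply Nat.sub_eq_of_eq_add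
      ring
    rw [hq, hn]
    calc 8 * (m ^ 2 * x * (2 * x + 1) * (a * t)) = 4 * m ^ 2 * x * (2 * x + 1) * a * (2 * t) := by
          ring
      _ = 4 * m ^ 2 * x * (2 * x + 1) * a * ((x + 1) * m) := by rw [hm]
      _ = m ^ 3 * a * (4 * x * (x + 1) * (2 * x + 1)) := by ring

end Cfsg.Agent.Lib.Helper8
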