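import Mathlib
import Cfsg.Prelude.Def_Blocks
import Cfsg.Agent.Lib.Helper8.Deflation
import Cfsg.Agent.Lib.Helper8.PC6
import Cfsg.Agent.Lib.Helper8.CV1
import Cfsg.Agent.Lib.Helper8.IM1
import Cfsg.Agent.Lib.Helper8.GP3
import Cfsg.Agent.Lib.Helper8.GaloisAvg
import Cfsg.Agent.Lib.Helper2.PVanish
import Cfsg.Agent.Lib.Helper1.CharFound4

/-!
# The class number of a group with an abelian normal Sylow subgroup
-/

set_option autoImplicit false

namespace Cfsg.Agent.Lib.Helper8

open Cfsg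
open scoped ComplexConjugate
open Cfsg.Agent.Lib.Helper1 Cfsg.Agent.Lib.Helper4

universe u

section

variable {G : Type u} [Group G] [Finite G]

/-- An element is a power of each of its powers with exponent prime to the group order. -/
theorem exists_pow_pow_eq (g : G) {k : ℕ} (hk : k.Coprime (Nat.card G)) :
    ∃ l : ℕ, (g ^ k) ^ l = g := by
  have h1 : (orderOf g).Coprime k :=
    Nat.Coprime.coprime_dvd_left (orderOf_dvd_natCard g) hk.symm
  have h2 : orderOf (g ^ k) = orderOf g := h1.orderOf_pow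
  have h3 : Subgroup.zpowers (g ^ k) = Subgroup.zpowers g := by
    apply Subgroup.eq_of_le_of_card_ge
    · rw [Subgroup.zpowers_le]
      exact Subgroup.pow_mem _ (Subgroup.mem_zpowers g) k
    · rw [Nat.card_zpowers, Nat.card_zpowers, h2]
  have h4 : g ∈ Subgroup.zpowers (g ^ k) := h3 ▸ Subgroup.mem_zpowers g
  rw [← mem_powers_iff_mem_zpowers] at h4
  obtain ⟨l, hl⟩ := h4
  exact ⟨l, hl⟩

variable (N : Subgroup G) [N.Normal]

/-- The irreducible characters of `G ⧸ N` are those of `G` with `N` in the kernel. -/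
noncomputable def overKerEquiv :
    IrrCharacter (G ⧸ N) ≃
      {χ : IrrCharacter G // ∀ g ∈ N, (χ : G → ℂ) g = (χ : G → ℂ) 1} :=
  Equiv.ofBijective
    (fun ψ => ⟨⟨fun g => (ψ : G ⧸ N → ℂ) (QuotientGroup.mk g), isIrrCharacter_inflation N ψ.2⟩,
      fun g hg => by
        show (ψ : G ⧸ N → ℂ) (QuotientGroup.mk g) = (ψ : G ⧸ N → ℂ) (QuotientGroup.mk 1)
        rw [(QuotientGroup.eq_one_iff g).2 hg, QuotientGroup.mk_one]⟩)
    ⟨by
      intro ψ₁ ψ₂ h
      apply Subtype.ext
      funext q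
      obtain ⟨g, rfl⟩ := QuotientGroup.mk_surjective q
      have h1 := congrArg (fun x => (x.1 : G → ℂ) g) h
      exact h1,
     by
      intro χ
      obtain ⟨ψ, hψ, hψ2⟩ := exists_deflation N χ.1.2 χ.2
      refine ⟨⟨ψ, hψ⟩, ?_⟩
      apply Subtype.ext
      apply Subtype.ext
      funext g
      exact hψ2 g⟩

theorem overKerEquiv_apply (ψ : IrrCharacter (G ⧸ N)) (g : G) :
    ((overKerEquiv N ψ).1 : G → ℂ) g = (ψ : G ⧸ N → ℂ) (QuotientGroup.mk g) := rfl

theorem charDegree_overKerEquiv (ψ : IrrCharacter (G ⧸ N)) :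
    charDegree ((overKerEquiv N ψ).1 : G → ℂ) = charDegree (ψ : G ⧸ N → ℂ) := by
  unfold charDegree
  rw [overKerEquiv_apply, QuotientGroup.mk_one]

end

end Cfsg.Agent.Lib.Helper8
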