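import Mathlib
import Cfsg.Prelude.Def_Blocks
import Cfsg.Agent.Lib.Helper8.KG1

/-!
# The class number of a group with an abelian normal Sylow subgroup: the main inequality
-/

set_option autoImplicit false

namespace Cfsg.Agent.Lib.Helper8

open Cfsg
open scoped ComplexConjugate
open Cfsg.Agent.Lib.Helper1 Cfsg.Agent.Lib.Helper4

universe u

section

variable {G : Type u} [Group G] [Finite G]

/-- No irreducible character vanishes on an abelian normal Sylow subgroup. -/
theorem irr_apply_ne_zero_of_abelian_sylow (p : ℕ) [Fact p.Prime] (V : Subgroup G) [V.Normal]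
    (hVp : IsPGroup p V) (hidx : ¬ p ∣ V.index) (hab : ∀ a ∈ V, ∀ b ∈ V, a * b = b * a)
    {v : G} (hv : v ∈ V) (χ : IrrCharacter G) : (χ : G → ℂ) v ≠ 0 := by
  intro h0
  obtain ⟨n, hn⟩ := hVp ⟨v, hv⟩
  have hvn : v ^ (p ^ n) = 1 := by simpa using congrArg Subtype.val hn
  have h1 := Cfsg.Agent.Lib.Helper2.PVanish.dvd_degree_of_apply_eq_zero
    (isCharacter_of_irr χ.2) v n hvn h0 (irr_apply_one_eq_charDegree χ.2).1
  exact hidx (h1.trans (charDegree_dvd_index_of_abelian V hab χ))

/-- `k(G) + |G : V| ≤ |C_G(v)| + k(G ⧸ V)` for `v` in an abelian normal Sylow subgroup `V`. -/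
theorem card_conjClasses_add_index_le (p : ℕ) [Fact p.Prime] (V : Subgroup G) [V.Normal]
    (hVp : IsPGroup p V) (hidx : ¬ p ∣ V.index) (hab : ∀ a ∈ V, ∀ b ∈ V, a * b = b * a)
    {v : G} (hv : v ∈ V) :
    Nat.card (ConjClasses G) + V.index ≤
      Nat.card (Subgroup.centralizer ({v} : Set G)) + Nat.card (ConjClasses (G ⧸ V)) := by
  classical
  haveI : Fintype G := Fintype.ofFinite _
  haveI : Fintype (IrrCharacter G) := Fintype.ofFinite _
  haveI : Fintype (IrrCharacter (G ⧸ V)) := Fintype.ofFinite _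
  obtain ⟨Γ, _, hne, k, hk, hkey⟩ := exists_galois_family G
  have hm : (0 : ℝ) < Fintype.card Γ := by exact_mod_cast Fintype.card_pos
  have hnv := fun χ : IrrCharacter G =>
    irr_apply_ne_zero_of_abelian_sylow p V hVp hidx hab hv χ
  -- the column sums
  have hcol : ∀ σ, ∑ χ : IrrCharacter G, ‖(χ : G → ℂ) (v ^ k σ)‖ ^ 2 =
      (Nat.card (Subgroup.centralizer ({v} : Set G)) : ℝ) := by
    intro σ
    obtain ⟨l, hl⟩ := exists_pow_pow_eq v (hk σ)
    have h1 := sum_irr_apply_mul_conj (G := G) (v ^ k σ)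
    rw [centralizer_pow_eq_of_pow_pow hl] at h1
    have h2 : ((∑ χ : IrrCharacter G, ‖(χ : G → ℂ) (v ^ k σ)‖ ^ 2 : ℝ) : ℂ) =
        ((Nat.card (Subgroup.centralizer ({v} : Set G)) : ℝ) : ℂ) := by
      push_cast
      rw [← h1]
      refine Finset.sum_congr rfl fun χ _ => ?_
      rw [Complex.mul_conj, Complex.normSq_eq_norm_sq]
      push_cast
      rfl
    exact_mod_cast h2
  have htot : ∑ χ : IrrCharacter G, ∑ σ, ‖(χ : G → ℂ) (v ^ k σ)‖ ^ 2 =
      (Fintype.card Γ : ℝ) * (Nat.card (Subgroup.centralizer ({v} : Set G)) : ℝ) := by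
    rw [Finset.sum_comm]
    simp only [hcol]
    rw [Finset.sum_const, Finset.card_univ, nsmul_eq_mul]
  -- the two kinds of characters
  set P : IrrCharacter G → Prop := fun χ => ∀ g ∈ V, (χ : G → ℂ) g = (χ : G → ℂ) 1 with hP
  have hlow : ∀ χ : IrrCharacter G,
      (if P χ then (Fintype.card Γ : ℝ) * ((charDegree (χ : G → ℂ) : ℕ) : ℝ) ^ 2
        else (Fintype.card Γ : ℝ)) ≤ ∑ σ, ‖(χ : G → ℂ) (v ^ k σ)‖ ^ 2 := by
    intro χ
    split_ifs with h
    · have h1 : ∀ σ, ‖(χ : G → ℂ) (v ^ k σ)‖ ^ 2 = ((charDegree (χ : G → ℂ) : ℕ) : ℝ) ^ 2 := by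
        intro σ
        rw [h _ (Subgroup.pow_mem V hv _), (irr_apply_one_eq_charDegree χ.2).1]
        rw [Complex.norm_natCast]
      simp only [h1]
      rw [Finset.sum_const, Finset.card_univ, nsmul_eq_mul]
    · exact hkey _ (isCharacter_of_irr χ.2) v (hnv χ)
  have hsum := Finset.sum_le_sum (fun χ (_ : χ ∈ (Finset.univ : Finset (IrrCharacter G))) => hlow χ)
  rw [htot, Finset.sum_ite, Finset.sum_const, nsmul_eq_mul, ← Finset.mul_sum] at hsum
  -- the characters with `V` in the kernel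
  have hA_card : (Finset.univ.filter P).card = Nat.card (ConjClasses (G ⧸ V)) := by
    rw [← card_irr_eq_card_conjClasses, Nat.card_congr (overKerEquiv V), Nat.card_eq_fintype_card,
      Fintype.card_subtype]
  have hA_sum : ∑ χ ∈ Finset.univ.filter P, ((charDegree (χ : G → ℂ) : ℕ) : ℝ) ^ 2
      = (V.index : ℝ) := by
    have h1 : ∑ χ ∈ Finset.univ.filter P, (charDegree (χ : G → ℂ)) ^ 2 = V.index := by
      rw [Finset.sum_subtype (Finset.univ.filter P) (p := P) (fun x => by simp)
        (fun χ => (charDegree (χ : G → ℂ)) ^ 2)]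
      rw [← Equiv.sum_comp (overKerEquiv V)]
      simp only [charDegree_overKerEquiv]
      haveI : Fintype (G ⧸ V) := Fintype.ofFinite _
      rw [sum_charDegree_sq, Subgroup.index_eq_card]
    rw [← h1]
    push_cast
    rfl
  have hAB : (Finset.univ.filter P).card + (Finset.univ.filter (fun χ => ¬ P χ)).card
      = Nat.card (ConjClasses G) := by
    rw [Finset.card_filter_add_card_filter_not, Finset.card_univ,
      ← Nat.card_eq_fintype_card, card_irr_eq_card_conjClasses]
  rw [hA_sum] at hsum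
  have hfin : (V.index : ℝ) + ((Finset.univ.filter (fun χ => ¬ P χ)).card : ℝ)
      ≤ (Nat.card (Subgroup.centralizer ({v} : Set G)) : ℝ) := by
    have h1 : (Fintype.card Γ : ℝ) * ((V.index : ℝ) +
        ((Finset.univ.filter (fun χ => ¬ P χ)).card : ℝ)) ≤
        (Fintype.card Γ : ℝ) * (Nat.card (Subgroup.centralizer ({v} : Set G)) : ℝ) := by
      calc (Fintype.card Γ : ℝ) * ((V.index : ℝ) +
          ((Finset.univ.filter (fun χ => ¬ P χ)).card : ℝ))
          = (Fintype.card Γ : ℝ) * (V.index : ℝ) +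
            ((Finset.univ.filter (fun χ => ¬ P χ)).card : ℝ) * (Fintype.card Γ : ℝ) := by ring
        _ ≤ _ := hsum
    exact le_of_mul_le_mul_left h1 hm
  have hfin' : V.index + (Finset.univ.filter (fun χ => ¬ P χ)).card
      ≤ Nat.card (Subgroup.centralizer ({v} : Set G)) := by exact_mod_cast hfin
  omega

end

end Cfsg.Agent.Lib.Helper8
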