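import Mathlib
import Cfsg.Prelude.Def_Blocks
import Cfsg.Agent.Lib.Helper8.KG2
import Cfsg.Agent.Lib.Helper8.GL25

/-!
# The class number of a semidirect product with an abelian normal Sylow subgroup
-/

set_option autoImplicit false

namespace Cfsg.Agent.Lib.Helper8

open Cfsg

universe u

section

variable {X : Type u} [Group X]

/-- Isomorphic groups have the same number of conjugacy classes. -/
def conjClassesCongr {H : Type*} [Group H] (e : X ≃* H) : ConjClasses X ≃ ConjClasses H where
  toFun := ConjClasses.map e.toMonoidHom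
  invFun := ConjClasses.map e.symm.toMonoidHom
  left_inv c := by
    obtain ⟨a, rfl⟩ := ConjClasses.exists_rep c
    show ConjClasses.mk (e.symm (e a)) = ConjClasses.mk a
    rw [e.symm_apply_apply]
  right_inv c := by
    obtain ⟨a, rfl⟩ := ConjClasses.exists_rep c
    show ConjClasses.mk (e (e.symm a)) = ConjClasses.mk a
    rw [e.apply_symm_apply]

/-- The centralizer of an element of an abelian normal subgroup `V` with complement `G`. -/
theorem card_centralizer_of_complement (V G : Subgroup X)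
    (hab : ∀ a ∈ V, ∀ b ∈ V, a * b = b * a) (hGV : Subgroup.IsComplement' V G) {v : X}
    (hv : v ∈ V) :
    Nat.card (Subgroup.centralizer ({v} : Set X)) =
      Nat.card ↥(G ⊓ Subgroup.centralizer ({v} : Set X)) * Nat.card V := by
  have hVZ : V ≤ Subgroup.centralizer ({v} : Set X) := by
    intro a ha
    rw [Subgroup.mem_centralizer_singleton_iff]
    exact hab a ha v hv
  rw [mul_comm, ← Nat.card_prod]
  symm
  apply Nat.card_congr
  refine Equiv.ofBijective
    (fun x : V × ↥(G ⊓ Subgroup.centralizer ({v} : Set X)) =>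
      (⟨(x.1 : X) * (x.2 : X), Subgroup.mul_mem _ (hVZ x.1.2) (Subgroup.mem_inf.1 x.2.2).2⟩ :
        Subgroup.centralizer ({v} : Set X))) ⟨?_, ?_⟩
  · rintro ⟨a, c⟩ ⟨a', c'⟩ h
    have h1 : (a : X) * (c : X) = (a' : X) * (c' : X) := congrArg Subtype.val h
    have h2 := hGV.1 (a₁ := (⟨a, ⟨(c : X), (Subgroup.mem_inf.1 c.2).1⟩⟩ : V × G))
      (a₂ := (⟨a', ⟨(c' : X), (Subgroup.mem_inf.1 c'.2).1⟩⟩ : V × G)) h1
    have h3 : a = a' := congrArg Prod.fst h2
    have h4 : (c : X) = (c' : X) := congrArg (fun x : V × G => (x.2 : X)) h2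
    exact Prod.ext h3 (Subtype.ext h4)
  · rintro ⟨z, hz⟩
    obtain ⟨⟨a, g⟩, hag⟩ := hGV.2 z
    have hag' : (a : X) * (g : X) = z := hag
    have hg : (g : X) ∈ Subgroup.centralizer ({v} : Set X) := by
      have : (g : X) = (a : X)⁻¹ * z := by rw [← hag']; group
      rw [this]
      exact Subgroup.mul_mem _ (Subgroup.inv_mem _ (hVZ a.2)) hz
    refine ⟨⟨a, ⟨(g : X), Subgroup.mem_inf.2 ⟨g.2, hg⟩⟩⟩, ?_⟩
    exact Subtype.ext hag'

end

end Cfsg.Agent.Lib.Helper8
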