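import Mathlib
import Cfsg.Prelude.Def_Blocks
import Cfsg.Prelude.Def_BlockLocal
import Cfsg.Agent.Lib.Helper8.REL4

/-!
# The stabilizer of a covered block meets a `p`-power overgroup in the normal subgroup
-/

set_option autoImplicit false
set_option linter.unusedSectionVars false

namespace Cfsg.Agent.Lib.Helper8

open Cfsg
open scoped ComplexConjugate
open Cfsg.Agent.Lib.Helper1 Cfsg.Agent.Lib.Helper4

universe u

section

variable {G : Type u} [Group G] [Fintype G] {M : Ideal AlgInt} {p : ℕ} [Fact p.Prime]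

/-- A constituent on an intermediate subgroup. -/
theorem exists_middle_constituent (N T' T : Subgroup G) [Fintype N] [Fintype T'] [Fintype T]
    (hNT' : N ≤ T') (hT'T : T' ≤ T) {Χ : T → ℂ} (hΧ : IsClassFunction T Χ) {θ : N → ℂ}
    (h : classInner (fun n : N => Χ ⟨(n : G), hT'T (hNT' n.2)⟩) θ ≠ 0) :
    ∃ ψ : IrrCharacter T', classInner (fun t : T' => Χ ⟨(t : G), hT'T t.2⟩) (ψ : T' → ℂ) ≠ 0 ∧
      classInner (fun n : N => (ψ : T' → ℂ) ⟨(n : G), hNT' n.2⟩) θ ≠ 0 := by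
  classical
  have : Fintype (IrrCharacter T') := Fintype.ofFinite _
  have hΧ' : IsClassFunction T' (fun t : T' => Χ ⟨(t : G), hT'T t.2⟩) := by
    intro g t
    exact hΧ ⟨(g : G), hT'T g.2⟩ ⟨(t : G), hT'T t.2⟩
  have h1 := classInner_restrict_eq_sum N T' hNT' hΧ' θ
  rw [h1] at h
  obtain ⟨ψ, -, hψ⟩ := Finset.exists_ne_zero_of_sum_ne_zero h
  exact ⟨ψ, left_ne_zero_of_mul hψ, right_ne_zero_of_mul hψ⟩

theorem stab_inf_eq_of_defect_le (hM : IsPModular p M) (N L : Subgroup G) [hN : N.Normal]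
    [hL : L.Normal] [Fintype N] (hNL : N ≤ L) (hLN : ∃ k : ℕ, (N.subgroupOf L).index = p ^ k)
    {B : Set (IrrCharacter G)} (hB : IsPBlock M B) {c : Set (IrrCharacter N)} (hc : IsPBlock M c)
    (hcov : Covers N B c) (hD : ∃ D : Subgroup G, IsDefectGroup p M B D ∧ D ≤ N)
    (T : Subgroup G) (hT : ∀ x : G, x ∈ T ↔ StabilizesBlock N c x) : T ⊓ L = N := by
  classical
  have hMp := isPModular_isPrime hM
  have : Fintype T := Fintype.ofFinite _
  have : Fintype (T ⊓ L : Subgroup G) := Fintype.ofFinite _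
  have hNT : N ≤ T := fun n hn => (hT n).2 (stabilizesBlock_of_mem N c hn)
  have hNT' : N ≤ T ⊓ L := le_inf hNT hNL
  have hT'T : T ⊓ L ≤ T := inf_le_left
  obtain ⟨χ₀, hχ₀, θ₀, hθ₀, h0⟩ := hcov
  obtain ⟨ψ₀, hψ₀θ, hχψ, hind⟩ :=
    exists_isInducedBlock_of_covers N T hNT hM hc hT hB hχ₀ hθ₀ h0
  set BT := blockOf M (ψ₀ : T → ℂ) with hBT
  have hBTblock : IsPBlock M BT := ⟨ψ₀, rfl⟩
  have hψ₀BT : ψ₀ ∈ BT := sameBlock_refl hMp.ne_top _
  have hcovT : ∃ ψ ∈ BT, ∃ θ ∈ c,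
      classInner (fun n : N => (ψ : T → ℂ) ⟨(n : G), hNT n.2⟩) (θ : N → ℂ) ≠ 0 :=
    ⟨ψ₀, hψ₀BT, θ₀, hθ₀, hψ₀θ⟩
  have hdef := (fongReynolds_defect_height N T hNT hM hc hT hBTblock hcovT hind).1
  -- the middle block
  obtain ⟨ψ', hψ'1, hψ'2⟩ := exists_middle_constituent N (T ⊓ L) T hNT' hT'T
    (isClassFunction_irr ψ₀.2) hψ₀θ
  set eT := blockOf M (ψ' : (T ⊓ L : Subgroup G) → ℂ) with heT
  have heTblock : IsPBlock M eT := ⟨ψ', rfl⟩
  have hψ'eT : ψ' ∈ eT := sameBlock_refl hMp.ne_top _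
  have hcov1 : CoversIn T (T ⊓ L) hT'T BT eT := ⟨ψ₀, hψ₀BT, ψ', hψ'eT, hψ'1⟩
  have hcov2 : CoversIn (T ⊓ L) N hNT' eT c := ⟨ψ', hψ'eT, θ₀, hθ₀, hψ'2⟩
  obtain ⟨P'', hP''⟩ := exists_isDefectGroup (p := p) hMp heTblock
  set P' : Subgroup G := P''.map (T ⊓ L : Subgroup G).subtype with hP'
  have hP'T' : P' ≤ T ⊓ L := by
    rintro _ ⟨t, -, rfl⟩
    exact t.2
  have hP'sub : P'.subgroupOf (T ⊓ L) = P'' := subgroupOf_map_subtype_self _ P''
  have hnormN : ∀ K : Subgroup G, K ≤ Subgroup.normalizer (N : Set G) := fun K => by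
    rw [Subgroup.normalizer_eq_top]
    exact le_top
  -- `N P' = T ⊓ L`
  have hidx : ∃ k : ℕ, N.relIndex (T ⊓ L) = p ^ k := by
    obtain ⟨k, hk⟩ := hLN
    have h1 := Subgroup.relIndex_mul_relIndex N (T ⊓ L) L hNT' (inf_le_right : T ⊓ L ≤ L)
    have h2 : N.relIndex (T ⊓ L) ∣ p ^ k := by
      rw [← hk]
      exact Dvd.intro _ h1
    obtain ⟨j, -, hj⟩ := (Nat.dvd_prime_pow hM.1).1 h2
    exact ⟨j, hj⟩
  have hsup := (rel_sup_eq_of_pIndex (T ⊓ L) N hNT' (hnormN _) hM hidx hc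
    (fun x hx => (hT x).1 hx.1) heTblock hcov2 hP'T' (by rw [hP'sub]; exact hP'')).1
  -- Knörr
  have hnormT' : T ≤ Subgroup.normalizer ((T ⊓ L : Subgroup G) : Set G) := by
    intro t ht
    rw [Subgroup.mem_normalizer_iff]
    intro g
    constructor
    · rintro ⟨hgT, hgL⟩
      exact ⟨T.mul_mem (T.mul_mem ht hgT) (T.inv_mem ht), hL.conj_mem g hgL t⟩
    · rintro ⟨hgT, hgL⟩
      constructor
      · have h1 : g = t⁻¹ * (t * g * t⁻¹) * t := by group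
        rw [h1]
        exact T.mul_mem (T.mul_mem (T.inv_mem ht) hgT) ht
      · have h1 := hL.conj_mem _ hgL t⁻¹
        have h2 : t⁻¹ * (t * g * t⁻¹) * t⁻¹⁻¹ = g := by group
        rwa [h2] at h1
  obtain ⟨P, hPT, hPd, hPinf, -⟩ := rel_knorr T (T ⊓ L) hT'T hnormT' hM heTblock hBTblock hcov1
    hP'T' (by rw [hP'sub]; exact hP'')
  have hPB : IsDefectGroup p M B P := by
    have := hdef _ hPd
    rwa [Subgroup.map_subgroupOf_eq_of_le hPT] at this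
  obtain ⟨D, hDB, hDN⟩ := hD
  obtain ⟨x, hx⟩ := exists_conj_eq_of_isDefectGroup hM hB hPB hDB
  have hPN : P ≤ N := by
    rw [← hx]
    rintro _ ⟨d, hd, rfl⟩
    exact hN.conj_mem d (hDN hd) x
  have hP'N : P' ≤ N := by
    rw [← hPinf]
    exact inf_le_left.trans hPN
  rw [← hsup]
  exact sup_eq_left.2 hP'N

end

end Cfsg.Agent.Lib.Helper8
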