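import Mathlib

/-!
# Knörr–Robinson alternating sums, combinatorial part I: toggling involutions and normalizers
-/

set_option autoImplicit false

namespace Cfsg.Agent.Lib.Helper8.KR

section toggle

variable {α : Type*} [DecidableEq α]

/-- Toggle membership of the element `R s` in `s`. -/
def toggle (R : Finset α → α) (s : Finset α) : Finset α :=
  if R s ∈ s then s.erase (R s) else insert (R s) s

theorem toggle_toggle (R : Finset α → α) (s : Finset α) (h : R (toggle R s) = R s) :
    toggle R (toggle R s) = s := by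
  unfold toggle at h ⊢
  by_cases hs : R s ∈ s
  · rw [if_pos hs] at h ⊢
    rw [h, if_neg (Finset.notMem_erase _ _), Finset.insert_erase hs]
  · rw [if_neg hs] at h ⊢
    rw [h, if_pos (Finset.mem_insert_self _ _), Finset.erase_insert hs]

theorem toggle_of_mem {R : Finset α → α} {s : Finset α} (h : R s ∈ s) :
    toggle R s = s.erase (R s) := if_pos h

theorem toggle_of_notMem {R : Finset α → α} {s : Finset α} (h : R s ∉ s) :
    toggle R s = insert (R s) s := if_neg h

theorem sum_toggle_eq_zero (S : Finset (Finset α)) (R : Finset α → α) (Ψ : Finset α → ℤ)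
    (hne : ∀ s ∈ S, s.Nonempty)
    (hmem : ∀ s ∈ S, toggle R s ∈ S) (hR : ∀ s ∈ S, R (toggle R s) = R s)
    (hΨ : ∀ s ∈ S, Ψ (toggle R s) = Ψ s) :
    ∑ s ∈ S, (-1 : ℤ) ^ (s.card - 1) * Ψ s = 0 := by
  refine Finset.sum_involution (fun s _ => toggle R s) ?_ ?_ (fun s hs => hmem s hs) ?_
  · intro s hs
    rw [hΨ s hs]
    have h1 := hne s hs
    have h2 := hne _ (hmem s hs)
    unfold toggle at h2 ⊢
    by_cases h : R s ∈ s
    · rw [if_pos h] at h2 ⊢
      have hc2 := Finset.card_pos.2 h2
      have hc : s.card = (s.erase (R s)).card + 1 := by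
        rw [Finset.card_erase_of_mem h]
        have := Finset.card_pos.2 h1
        omega
      obtain ⟨k, hk⟩ : ∃ k, (s.erase (R s)).card = k + 1 := ⟨(s.erase (R s)).card - 1, by omega⟩
      rw [hc, hk]
      simp only [Nat.add_sub_cancel]
      ring
    · rw [if_neg h] at h2 ⊢
      rw [Finset.card_insert_of_notMem h]
      have hc1 := Finset.card_pos.2 h1
      obtain ⟨k, hk⟩ : ∃ k, s.card = k + 1 := ⟨s.card - 1, by omega⟩
      rw [hk]
      simp only [Nat.add_sub_cancel]
      ring
  · intro s hs _ heq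
    have hcard : (toggle R s).card = s.card := by rw [heq]
    unfold toggle at hcard
    by_cases h : R s ∈ s
    · rw [if_pos h, Finset.card_erase_of_mem h] at hcard
      have := Finset.card_pos.2 ⟨_, h⟩
      omega
    · rw [if_neg h, Finset.card_insert_of_notMem h] at hcard
      omega
  · intro s hs
    exact toggle_toggle R s (hR s hs)

end toggle

section subgroups

variable {G : Type*} [Group G]

theorem normalizer_inf_le_normalizer_sup (A B : Subgroup G) :
    Subgroup.normalizer (A : Set G) ⊓ Subgroup.normalizer (B : Set G) ≤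
      Subgroup.normalizer ((A ⊔ B : Subgroup G) : Set G) := by
  intro g hg
  obtain ⟨hA, hB⟩ := Subgroup.mem_inf.1 hg
  rw [Subgroup.mem_normalizer_iff_map_conj_eq] at hA hB ⊢
  rw [Subgroup.map_sup, hA, hB]

theorem centralizer_le_normalizer_zpowers (u : G) :
    Subgroup.centralizer ({u} : Set G) ≤
      Subgroup.normalizer ((Subgroup.zpowers u : Subgroup G) : Set G) := by
  intro g hg
  rw [Subgroup.mem_centralizer_singleton_iff] at hg
  rw [Subgroup.mem_normalizer_iff]
  intro h
  have hc : ∀ k : ℤ, g * u ^ k * g⁻¹ = u ^ k := by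
    intro k
    have : Commute g (u ^ k) := (Commute.zpow_right (show Commute g u from hg) k)
    rw [this.eq, mul_inv_cancel_right]
  constructor
  · rintro ⟨k, rfl⟩
    exact ⟨k, (hc k).symm⟩
  · rintro ⟨k, hk⟩
    refine ⟨k, ?_⟩
    have h2 : g * u ^ k * g⁻¹ = g * h * g⁻¹ := by rw [hc k]; exact hk
    have h3 : g * (u ^ k) = g * h := mul_right_cancel h2
    exact mul_left_cancel h3

/-- In a finite `p`-group, a proper subgroup is properly contained in its normalizer. -/
theorem exists_normalizing_of_lt [Finite G] {p : ℕ} [Fact p.Prime] {P R : Subgroup G}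
    (hP : IsPGroup p P) (hRP : R < P) :
    ∃ x ∈ P, x ∉ R ∧ x ∈ Subgroup.normalizer (R : Set G) := by
  have hnil : Group.IsNilpotent P := hP.isNilpotent
  have hnc : NormalizerCondition P := Group.normalizerCondition_of_isNilpotent
  have hlt : R.subgroupOf P < ⊤ := by
    rw [lt_top_iff_ne_top, Ne, Subgroup.subgroupOf_eq_top]
    exact not_le_of_gt hRP
  have h := hnc _ hlt
  obtain ⟨x, hxN, hxR⟩ := SetLike.exists_of_lt h
  refine ⟨(x : G), x.2, fun hx => hxR (Subgroup.mem_subgroupOf.2 hx), ?_⟩
  rw [Subgroup.mem_normalizer_iff] at hxN ⊢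
  intro h
  constructor
  · intro hh
    have := (hxN ⟨h, hRP.le hh⟩).1 (Subgroup.mem_subgroupOf.2 hh)
    exact Subgroup.mem_subgroupOf.1 this
  · intro hh
    have hhP : h ∈ P := by
      have h1 : (x : G)⁻¹ * ((x : G) * h * (x : G)⁻¹) * (x : G) ∈ P :=
        P.mul_mem (P.mul_mem (P.inv_mem x.2) (hRP.le hh)) x.2
      have h2 : (x : G)⁻¹ * ((x : G) * h * (x : G)⁻¹) * (x : G) = h := by group
      rwa [h2] at h1
    have := (hxN ⟨h, hhP⟩).2 (Subgroup.mem_subgroupOf.2 hh)
    exact Subgroup.mem_subgroupOf.1 this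

/-- The stabilizer of a finite set of subgroups: the intersection of their normalizers. -/
def stab (s : Finset (Subgroup G)) : Subgroup G :=
  ⨅ Q ∈ s, Subgroup.normalizer ((Q : Subgroup G) : Set G)

theorem mem_stab {s : Finset (Subgroup G)} {g : G} :
    g ∈ stab s ↔ ∀ Q ∈ s, g ∈ Subgroup.normalizer ((Q : Subgroup G) : Set G) := by
  unfold stab
  simp only [Subgroup.mem_iInf]

theorem stab_le_normalizer {s : Finset (Subgroup G)} {Q : Subgroup G} (hQ : Q ∈ s) :
    stab s ≤ Subgroup.normalizer ((Q : Subgroup G) : Set G) :=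
  fun _ hg => mem_stab.1 hg Q hQ

theorem stab_insert [DecidableEq (Subgroup G)] (s : Finset (Subgroup G)) (R : Subgroup G) :
    stab (insert R s) = Subgroup.normalizer ((R : Subgroup G) : Set G) ⊓ stab s := by
  ext g
  rw [Subgroup.mem_inf, mem_stab, mem_stab]
  constructor
  · intro h
    exact ⟨h R (Finset.mem_insert_self _ _), fun Q hQ => h Q (Finset.mem_insert_of_mem hQ)⟩
  · rintro ⟨h1, h2⟩ Q hQ
    rcases Finset.mem_insert.1 hQ with rfl | hQ
    · exact h1
    · exact h2 Q hQ

theorem stab_erase [DecidableEq (Subgroup G)] (s : Finset (Subgroup G)) {R : Subgroup G}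
    (hR : R ∈ s) :
    stab s = Subgroup.normalizer ((R : Subgroup G) : Set G) ⊓ stab (s.erase R) := by
  conv_lhs => rw [← Finset.insert_erase hR]
  exact stab_insert _ _

end subgroups

end Cfsg.Agent.Lib.Helper8.KR
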