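import Mathlib
import Cfsg.Prelude.Def_Blocks
import Cfsg.Prelude.Def_BlockLocal
import Cfsg.Prelude.Def_BlockRank
import Cfsg.Agent.Lib.Helper8.KR7
import Cfsg.Agent.Lib.Helper8.REL1
import Cfsg.Agent.Lib.Helper8.REL2
import Cfsg.Agent.Lib.Helper8.REL7
import Cfsg.Agent.Lib.Helper8.Sub12
import Cfsg.Agent.Lib.Helper8.BlockPairMax

/-!
# Subsections of a subgroup `H` and of the ambient group
-/

set_option autoImplicit false

namespace Cfsg.Agent.Lib.Helper8.KR

open Cfsg Cfsg.Agent.Lib.Helper8
open scoped ComplexConjugate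
open Cfsg.Agent.Lib.Helper1 Cfsg.Agent.Lib.Helper4

universe u

section

variable {G : Type u} [Group G] {M : Ideal AlgInt} {p : ℕ}

/-- The centralizer of `x` in `H`, as a subgroup of `G`. -/
def relCent (H : Subgroup G) (x : G) : Subgroup G := Subgroup.centralizer ({x} : Set G) ⊓ H

theorem relCent_le (H : Subgroup G) (x : G) : relCent H x ≤ H := inf_le_right

theorem centralizer_eq_subgroupOf (H : Subgroup G) (x : H) :
    Subgroup.centralizer ({x} : Set H) = (relCent H (x : G)).subgroupOf H := by
  ext h
  rw [Subgroup.mem_centralizer_singleton_iff, Subgroup.mem_subgroupOf]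
  unfold relCent
  rw [Subgroup.mem_inf, Subgroup.mem_centralizer_singleton_iff]
  constructor
  · intro hh
    exact ⟨by exact_mod_cast congrArg (fun z : H => (z : G)) hh, h.2⟩
  · rintro ⟨hh, -⟩
    apply Subtype.ext
    exact_mod_cast hh

variable [Fintype G]

/-- The rank sum in the group `↥H` at a subgroup `K.subgroupOf H`, through relative induction. -/
theorem lam_subgroupOf (H K : Subgroup G) (hKH : K ≤ H) (β : Set (IrrCharacter H)) :
    lam M p (K.subgroupOf H) β =
      ∑ᶠ e ∈ {e : Set (IrrCharacter K) | IsInducedBlockIn M H K e β}, blockRank p e := by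
  have himg : {γ : Set (IrrCharacter (K.subgroupOf H)) | IsInducedBlock M (K.subgroupOf H) γ β} =
      (fun e : Set (IrrCharacter K) => trB H K hKH e) ''
        {e : Set (IrrCharacter K) | IsInducedBlockIn M H K e β} := by
    ext γ
    constructor
    · intro h
      refine ⟨trB' H K hKH γ, ?_, trB_trB' H K hKH γ⟩
      rw [Set.mem_ofPred_eq, isInducedBlockIn_iff H K hKH, trB_trB']
      exact h
    · rintro ⟨e, he, rfl⟩
      exact (isInducedBlockIn_iff H K hKH e β).1 he
  unfold lam
  rw [himg, finsum_mem_image]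
  · exact finsum_mem_congr rfl fun e _ => blockRank_image_irrMap _ e
  · intro e₁ _ e₂ _ h
    have := congrArg (trB' H K hKH) h
    rwa [trB'_trB, trB'_trB] at this

/-- Blocks of the centralizer of a `p`-element of `H` induce blocks of `H`. -/
theorem exists_inducedIn_relCent (hM : IsPModular p M) (H : Subgroup G) (x : H)
    (hx : ∃ k : ℕ, orderOf (x : G) = p ^ k) {e : Set (IrrCharacter (relCent H (x : G)))}
    (he : IsPBlock M e) :
    ∃ β : Set (IrrCharacter H), IsInducedBlockIn M H (relCent H (x : G)) e β := by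
  classical
  have : Fintype H := Fintype.ofFinite _
  have hx' : ∃ k : ℕ, orderOf x = p ^ k := by
    obtain ⟨k, hk⟩ := hx
    exact ⟨k, by rw [← hk, Subgroup.orderOf_coe]⟩
  have key : ∀ (K' : Subgroup H), K' = Subgroup.centralizer ({x} : Set H) →
      ∀ γ : Set (IrrCharacter K'), IsPBlock M γ → InducedBlockDefined M K' γ := by
    intro K' hK' γ hγ
    subst hK'
    exact inducedBlockDefined_centralizer hM hx' hγ
  obtain ⟨β, hβ⟩ := key _ (centralizer_eq_subgroupOf H x).symm _
    (isPBlock_trB H (relCent H (x : G)) (relCent_le H _) he)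
  exact ⟨β, (isInducedBlockIn_iff H _ (relCent_le H _) e β).2 hβ⟩

/-- **Subsections of `H` and of `G`**: the blocks of `C_H(x)` inducing, through `H`, the
block `b` of `G` are those inducing `b` directly. -/
theorem finsum_lam_relCent (hM : IsPModular p M) (H : Subgroup G) (x : H)
    (hx : ∃ k : ℕ, orderOf (x : G) = p ^ k) (b : Set (IrrCharacter G)) :
    ∑ᶠ β ∈ {β : Set (IrrCharacter H) | IsInducedBlock M H β b},
      lam M p (Subgroup.centralizer ({x} : Set H)) β = lam M p (relCent H (x : G)) b := by
  classical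
  have : Fintype H := Fintype.ofFinite _
  have : Fintype (relCent H (x : G)) := Fintype.ofFinite _
  have hMp := isPModular_isPrime hM
  set K := relCent H (x : G) with hK
  have hKH : K ≤ H := relCent_le H _
  have h1 : ∀ β : Set (IrrCharacter H), lam M p (Subgroup.centralizer ({x} : Set H)) β =
      ∑ᶠ e ∈ {e : Set (IrrCharacter K) | IsInducedBlockIn M H K e β}, blockRank p e := by
    intro β
    rw [lam_congr (centralizer_eq_subgroupOf H x) β]
    exact lam_subgroupOf H K hKH β
  simp_rw [h1]
  have hTfin : {β : Set (IrrCharacter H) | IsInducedBlock M H β b}.Finite :=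
    (finite_setOf_isPBlock (M := M)).subset (fun β hβ => hβ.1)
  have hSfin : ∀ β : Set (IrrCharacter H),
      {e : Set (IrrCharacter K) | IsInducedBlockIn M H K e β}.Finite :=
    fun β => (finite_setOf_isPBlock (M := M)).subset (fun e he => he.1)
  have hdisj : ({β : Set (IrrCharacter H) | IsInducedBlock M H β b}).PairwiseDisjoint
      (fun β => {e : Set (IrrCharacter K) | IsInducedBlockIn M H K e β}) := by
    intro β _ β' _ hne
    rw [Function.onFun, Set.disjoint_left]
    intro e he he'
    apply hne
    have a := (isInducedBlockIn_iff H K hKH e β).1 he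
    have a' := (isInducedBlockIn_iff H K hKH e β').1 he'
    exact isInducedBlock_unique hMp _ a a'
  rw [← finsum_mem_biUnion hdisj hTfin (fun β _ => hSfin β)]
  unfold lam
  apply finsum_mem_congr _ (fun _ _ => rfl)
  ext e
  rw [Set.mem_iUnion₂]
  constructor
  · rintro ⟨β, hβ, he⟩
    exact isInducedBlock_trans H K hKH hMp he hβ
  · intro he
    obtain ⟨β, hβ⟩ := exists_inducedIn_relCent hM H x hx he.1
    exact ⟨β, isInducedBlock_trans' H K hKH hMp hβ he, hβ⟩

end

end Cfsg.Agent.Lib.Helper8.KR
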