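import Mathlib
import Cfsg.Prelude.Def_Blocks
import Cfsg.Prelude.Def_BlockLocal
import Cfsg.Prelude.Def_BlockRank
import Cfsg.Agent.Lib.Helper8.KR6
import Cfsg.Agent.Lib.Helper8.KR8
import Cfsg.Agent.Lib.Helper8.KR9

/-!
# The subsection formula for the blocks of a subgroup inducing a given block
-/

set_option autoImplicit false

namespace Cfsg.Agent.Lib.Helper8.KR

open Cfsg Cfsg.Agent.Lib.Helper8
open scoped ComplexConjugate
open Cfsg.Agent.Lib.Helper1 Cfsg.Agent.Lib.Helper4

universe u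

section

variable {G : Type u} [Group G] [Fintype G] {M : Ideal AlgInt} {p : ℕ}

/-- The function summed in the alternating sum: the order of `K` times the rank sum of the blocks
of `K` inducing `b`. -/
noncomputable def phi (M : Ideal AlgInt) (p : ℕ) (b : Set (IrrCharacter G)) (K : Subgroup G) : ℤ :=
  (Nat.card K : ℤ) * (lam M p K b : ℤ)

theorem card_centralizer_sub (H : Subgroup G) (y : H) :
    Nat.card (Subgroup.centralizer ({y} : Set H)) = Nat.card (relCent H (y : G)) := by
  rw [centralizer_eq_subgroupOf H y]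
  exact Nat.card_congr (Subgroup.subgroupOfEquivOfLe (relCent_le H _)).toEquiv

/-- **The subsection formula for the blocks of `H` inducing `b`.** -/
theorem card_mul_sub_rank_unionOf (hM : IsPModular p M) (H : Subgroup G)
    (b : Set (IrrCharacter G)) :
    (Nat.card H : ℤ) *
      ((Nat.card (unionOf (fun β : Set (IrrCharacter H) => IsInducedBlock M H β b)) : ℤ) -
        (blockRank p (unionOf (fun β : Set (IrrCharacter H) => IsInducedBlock M H β b)) : ℤ)) =
      ∑ᶠ u ∈ {u : G | u ∈ H ∧ u ≠ 1 ∧ ∃ k : ℕ, orderOf u = p ^ k},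
        phi M p b (relCent H u) := by
  classical
  have : Fintype H := Fintype.ofFinite _
  have hMp := isPModular_isPrime hM
  have hP : ∀ β : Set (IrrCharacter H), IsInducedBlock M H β b → IsPBlock M β := fun β h => h.1
  rw [card_unionOf hMp hP, blockRank_unionOf hM hP]
  have hTfin : {β : Set (IrrCharacter H) | IsInducedBlock M H β b}.Finite :=
    (finite_setOf_isPBlock (M := M)).subset (fun β hβ => hβ.1)
  rw [finsum_mem_eq_finite_toFinset_sum _ hTfin, finsum_mem_eq_finite_toFinset_sum _ hTfin,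
    Nat.cast_sum, Nat.cast_sum, ← Finset.sum_sub_distrib, Finset.mul_sum]
  have h1 : ∀ β ∈ hTfin.toFinset, (Nat.card H : ℤ) * ((Nat.card β : ℤ) - (blockRank p β : ℤ)) =
      ∑ y ∈ Finset.univ.filter (fun y : H => y ≠ 1 ∧ ∃ k : ℕ, orderOf y = p ^ k),
        (Nat.card (Subgroup.centralizer ({y} : Set H)) : ℤ) *
          (lam M p (Subgroup.centralizer ({y} : Set H)) β : ℤ) := by
    intro β hβ
    rw [Set.Finite.mem_toFinset] at hβ
    exact card_mul_card_sub_rank hM hβ.1
  rw [Finset.sum_congr rfl h1, Finset.sum_comm]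
  -- the right side as a sum over the elements of `H`
  have himg : {u : G | u ∈ H ∧ u ≠ 1 ∧ ∃ k : ℕ, orderOf u = p ^ k} =
      (fun y : H => (y : G)) '' {y : H | y ≠ 1 ∧ ∃ k : ℕ, orderOf y = p ^ k} := by
    ext u
    constructor
    · rintro ⟨huH, hu1, k, hk⟩
      refine ⟨⟨u, huH⟩, ⟨?_, k, ?_⟩, rfl⟩
      · intro h
        exact hu1 (congrArg (fun z : H => (z : G)) h)
      · rw [← hk, ← Subgroup.orderOf_coe]
    · rintro ⟨y, ⟨hy1, k, hk⟩, rfl⟩
      refine ⟨y.2, ?_, k, ?_⟩
      · intro h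
        exact hy1 (Subtype.ext h)
      · rw [← hk, Subgroup.orderOf_coe]
  rw [himg, finsum_mem_image Subtype.val_injective.injOn,
    finsum_mem_eq_finite_toFinset_sum _ (Set.toFinite _)]
  have hfs : (Set.toFinite {y : H | y ≠ 1 ∧ ∃ k : ℕ, orderOf y = p ^ k}).toFinset =
      Finset.univ.filter (fun y : H => y ≠ 1 ∧ ∃ k : ℕ, orderOf y = p ^ k) := by
    ext y
    simp only [Set.Finite.mem_toFinset, Set.mem_ofPred_eq, Finset.mem_filter, Finset.mem_univ,
      true_and]
  rw [hfs]
  refine Finset.sum_congr rfl fun y hy => ?_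
  obtain ⟨-, -, k, hk⟩ := Finset.mem_filter.1 hy
  have hx : ∃ k : ℕ, orderOf (y : G) = p ^ k := ⟨k, by rw [← hk, Subgroup.orderOf_coe]⟩
  rw [← Finset.mul_sum]
  unfold phi
  rw [card_centralizer_sub, ← finsum_lam_relCent hM H y hx b,
    finsum_mem_eq_finite_toFinset_sum _ hTfin, Nat.cast_sum]

end

end Cfsg.Agent.Lib.Helper8.KR
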