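import Mathlib
import Cfsg.Agent.Lib.Helper8.KR1

/-!
# Knörr–Robinson alternating sums, combinatorial part II: the pairing of non-normal chains
-/

set_option autoImplicit false

namespace Cfsg.Agent.Lib.Helper8.KR

variable {G : Type*} [Group G]

/-- `T` normalizes every member of `s` below it. -/
def NrmAt (s : Finset (Subgroup G)) (T : Subgroup G) : Prop :=
  ∀ Q ∈ s, Q ≤ T → T ≤ Subgroup.normalizer ((Q : Subgroup G) : Set G)

/-- `s` is totally ordered. -/
def IsCh (s : Finset (Subgroup G)) : Prop := ∀ Q ∈ s, ∀ R ∈ s, Q ≤ R ∨ R ≤ Q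

/-- The normality condition on chains of the statement. -/
def IsNrm (s : Finset (Subgroup G)) : Prop :=
  ∃ T ∈ s, ∀ Q ∈ s, Q ≤ T ∧ T ≤ Subgroup.normalizer ((Q : Subgroup G) : Set G)

/-- `T` is the first member of `s` which does not normalize all members below it. -/
def IsBreak (s : Finset (Subgroup G)) (T : Subgroup G) : Prop :=
  T ∈ s ∧ ¬ NrmAt s T ∧ ∀ Q ∈ s, Q < T → NrmAt s Q

/-- The stabilizer in `T` of the members of `s` below `T`. -/
def RA (s : Finset (Subgroup G)) (T : Subgroup G) : Subgroup G :=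
  T ⊓ ⨅ Q ∈ s, ⨅ (_ : Q < T), Subgroup.normalizer ((Q : Subgroup G) : Set G)

theorem mem_RA {s : Finset (Subgroup G)} {T : Subgroup G} {g : G} :
    g ∈ RA s T ↔ g ∈ T ∧ ∀ Q ∈ s, Q < T → g ∈ Subgroup.normalizer ((Q : Subgroup G) : Set G) := by
  unfold RA
  simp only [Subgroup.mem_inf, Subgroup.mem_iInf]

theorem RA_le (s : Finset (Subgroup G)) (T : Subgroup G) : RA s T ≤ T :=
  fun _ hg => (mem_RA.1 hg).1

theorem nrmAt_of_isNrm {s : Finset (Subgroup G)} (h : IsNrm s) {T : Subgroup G} (hT : T ∈ s) :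
    NrmAt s T := by
  obtain ⟨T0, hT0, h0⟩ := h
  intro Q hQ _
  exact (h0 T hT).1.trans (h0 Q hQ).2

theorem exists_isBreak {s : Finset (Subgroup G)} (hch : IsCh s) (hne : s.Nonempty)
    (hn : ¬ IsNrm s) : ∃ T, IsBreak s T := by
  classical
  have hbad : ∃ T ∈ s, ¬ NrmAt s T := by
    by_contra hcon
    push Not at hcon
    obtain ⟨T0, hT0, hmax⟩ := s.exists_maximal hne
    apply hn
    refine ⟨T0, hT0, fun Q hQ => ?_⟩
    have hle : Q ≤ T0 := by
      rcases hch Q hQ T0 hT0 with h | h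
      · exact h
      · exact hmax hQ h
    exact ⟨hle, hcon T0 hT0 Q hQ hle⟩
  obtain ⟨T1, hT1, hT1b⟩ := hbad
  have hne' : (s.filter (fun T => ¬ NrmAt s T)).Nonempty :=
    ⟨T1, Finset.mem_filter.2 ⟨hT1, hT1b⟩⟩
  obtain ⟨T, hT, hmin⟩ := (s.filter (fun T => ¬ NrmAt s T)).exists_minimal hne'
  obtain ⟨hTs, hTb⟩ := Finset.mem_filter.1 hT
  refine ⟨T, hTs, hTb, fun Q hQ hlt => ?_⟩
  by_contra hcon
  have hQf : Q ∈ s.filter (fun T => ¬ NrmAt s T) := Finset.mem_filter.2 ⟨hQ, hcon⟩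
  exact (not_le_of_gt hlt) (hmin hQf hlt.le)

theorem isBreak_unique {s : Finset (Subgroup G)} (hch : IsCh s) {T T' : Subgroup G}
    (h : IsBreak s T) (h' : IsBreak s T') : T = T' := by
  by_contra hne
  rcases hch T h.1 T' h'.1 with hle | hle
  · exact h.2.1 (h'.2.2 T h.1 (lt_of_le_of_ne hle hne))
  · exact h'.2.1 (h.2.2 T' h'.1 (lt_of_le_of_ne hle (Ne.symm hne)))

theorem le_RA {s : Finset (Subgroup G)} (hch : IsCh s) {T : Subgroup G} (h : IsBreak s T)
    {Q : Subgroup G} (hQ : Q ∈ s) (hlt : Q < T) : Q ≤ RA s T := by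
  intro g hg
  refine mem_RA.2 ⟨hlt.le hg, fun Q' hQ' hlt' => ?_⟩
  rcases hch Q' hQ' Q hQ with hle | hle
  · exact h.2.2 Q hQ hlt Q' hQ' hle hg
  · exact Subgroup.le_normalizer (hle hg)

theorem RA_ne {s : Finset (Subgroup G)} {T : Subgroup G} (h : IsBreak s T) : RA s T ≠ T := by
  intro heq
  apply h.2.1
  intro Q hQ hle
  rcases eq_or_lt_of_le hle with rfl | hlt
  · exact Subgroup.le_normalizer
  · intro g hg
    rw [← heq] at hg
    exact (mem_RA.1 hg).2 Q hQ hlt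

theorem RA_lt {s : Finset (Subgroup G)} {T : Subgroup G} (h : IsBreak s T) : RA s T < T :=
  lt_of_le_of_ne (RA_le s T) (RA_ne h)

theorem exists_lt_of_isBreak {s : Finset (Subgroup G)} {T : Subgroup G} (h : IsBreak s T) :
    ∃ Q ∈ s, Q < T := by
  have h1 := h.2.1
  unfold NrmAt at h1
  push Not at h1
  obtain ⟨Q, hQ, hle, hn⟩ := h1
  refine ⟨Q, hQ, lt_of_le_of_ne hle ?_⟩
  rintro rfl
  exact hn Subgroup.le_normalizer

theorem RA_ne_bot {s : Finset (Subgroup G)} (hch : IsCh s) {T : Subgroup G} (h : IsBreak s T)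
    (hnt : ∀ Q ∈ s, Q ≠ ⊥) : RA s T ≠ ⊥ := by
  obtain ⟨Q, hQ, hlt⟩ := exists_lt_of_isBreak h
  intro hbot
  have := le_RA hch h hQ hlt
  rw [hbot, le_bot_iff] at this
  exact hnt Q hQ this

theorem RA_comparable {s : Finset (Subgroup G)} (hch : IsCh s) {T : Subgroup G}
    (h : IsBreak s T) {Q : Subgroup G} (hQ : Q ∈ s) : Q ≤ RA s T ∨ RA s T ≤ Q := by
  rcases hch Q hQ T h.1 with hle | hle
  · rcases eq_or_lt_of_le hle with rfl | hlt
    · exact Or.inr (RA_le s Q)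
    · exact Or.inl (le_RA hch h hQ hlt)
  · exact Or.inr ((RA_le s T).trans hle)

theorem stab_le_normalizer_RA {s : Finset (Subgroup G)} {T : Subgroup G} (hT : T ∈ s) :
    stab s ≤ Subgroup.normalizer ((RA s T : Subgroup G) : Set G) := by
  intro g hg
  rw [mem_stab] at hg
  rw [Subgroup.mem_normalizer_iff]
  intro h
  rw [mem_RA, mem_RA]
  have hgT := hg T hT
  constructor
  · rintro ⟨h1, h2⟩
    refine ⟨(Subgroup.mem_normalizer_iff.1 hgT h).1 h1, fun Q hQ hlt => ?_⟩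
    have hgQ := hg Q hQ
    exact Subgroup.mul_mem _ (Subgroup.mul_mem _ hgQ (h2 Q hQ hlt)) (Subgroup.inv_mem _ hgQ)
  · rintro ⟨h1, h2⟩
    refine ⟨(Subgroup.mem_normalizer_iff.1 hgT h).2 h1, fun Q hQ hlt => ?_⟩
    have hgQ := hg Q hQ
    have h3 := Subgroup.mul_mem _ (Subgroup.mul_mem _ (Subgroup.inv_mem _ hgQ) (h2 Q hQ hlt)) hgQ
    have h4 : g⁻¹ * (g * h * g⁻¹) * g = h := by group
    rwa [h4] at h3

section insertCase

variable [DecidableEq (Subgroup G)]

theorem isBreak_insert {s : Finset (Subgroup G)} (hch : IsCh s) {T : Subgroup G}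
    (h : IsBreak s T) (hR : RA s T ∉ s) : IsBreak (insert (RA s T) s) T := by
  refine ⟨Finset.mem_insert_of_mem h.1, ?_, ?_⟩
  · intro hn
    apply h.2.1
    intro Q hQ hle
    exact hn Q (Finset.mem_insert_of_mem hQ) hle
  · intro Q hQ hlt Q' hQ' hle
    rcases Finset.mem_insert.1 hQ with rfl | hQs
    · rcases Finset.mem_insert.1 hQ' with rfl | hQ's
      · exact Subgroup.le_normalizer
      · have hlt' : Q' < T := lt_of_le_of_lt hle hlt
        intro g hg
        exact (mem_RA.1 hg).2 Q' hQ's hlt'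
    · rcases Finset.mem_insert.1 hQ' with rfl | hQ's
      · exfalso
        have h1 := le_RA hch h hQs hlt
        have : Q = RA s T := le_antisymm h1 hle
        rw [← this] at hR
        exact hR hQs
      · exact h.2.2 Q hQs hlt Q' hQ's hle

theorem RA_insert {s : Finset (Subgroup G)} {T : Subgroup G} :
    RA (insert (RA s T) s) T = RA s T := by
  ext g
  constructor
  · intro hg
    rw [mem_RA] at hg
    exact mem_RA.2 ⟨hg.1, fun Q hQ hlt => hg.2 Q (Finset.mem_insert_of_mem hQ) hlt⟩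
  · intro hg
    refine mem_RA.2 ⟨(mem_RA.1 hg).1, fun Q hQ hlt => ?_⟩
    rcases Finset.mem_insert.1 hQ with rfl | hQs
    · exact Subgroup.le_normalizer hg
    · exact (mem_RA.1 hg).2 Q hQs hlt

end insertCase

section eraseCase

variable [DecidableEq (Subgroup G)] [Finite G] {p : ℕ} [Fact p.Prime]

theorem isBreak_erase {s : Finset (Subgroup G)} {T : Subgroup G}
    (h : IsBreak s T) (hp : IsPGroup p T) :
    IsBreak (s.erase (RA s T)) T := by
  refine ⟨Finset.mem_erase.2 ⟨(RA_ne h).symm, h.1⟩, ?_, ?_⟩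
  · intro hn
    obtain ⟨x, hxT, hxR, hxN⟩ := exists_normalizing_of_lt hp (RA_lt h)
    apply hxR
    refine mem_RA.2 ⟨hxT, fun Q hQ hlt => ?_⟩
    by_cases hQR : Q = RA s T
    · rw [hQR]
      exact hxN
    · exact hn Q (Finset.mem_erase.2 ⟨hQR, hQ⟩) hlt.le hxT
  · intro Q hQ hlt Q' hQ' hle
    exact h.2.2 Q (Finset.mem_of_mem_erase hQ) hlt Q' (Finset.mem_of_mem_erase hQ') hle

theorem RA_erase {s : Finset (Subgroup G)} {T : Subgroup G}
    (hp : IsPGroup p T) :
    RA (s.erase (RA s T)) T = RA s T := by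
  have hle : RA s T ≤ RA (s.erase (RA s T)) T := by
    intro g hg
    exact mem_RA.2 ⟨(mem_RA.1 hg).1, fun Q hQ hlt =>
      (mem_RA.1 hg).2 Q (Finset.mem_of_mem_erase hQ) hlt⟩
  by_contra hne
  have hlt : RA s T < RA (s.erase (RA s T)) T := lt_of_le_of_ne hle (Ne.symm hne)
  have hp' : IsPGroup p (RA (s.erase (RA s T)) T) := hp.to_le (RA_le _ _)
  obtain ⟨x, hxR', hxR, hxN⟩ := exists_normalizing_of_lt hp' hlt
  apply hxR
  refine mem_RA.2 ⟨(mem_RA.1 hxR').1, fun Q hQ hlt => ?_⟩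
  by_cases hQR : Q = RA s T
  · rw [hQR]
    exact hxN
  · exact (mem_RA.1 hxR').2 Q (Finset.mem_erase.2 ⟨hQR, hQ⟩) hlt

end eraseCase

end Cfsg.Agent.Lib.Helper8.KR
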