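import Mathlib
import Cfsg.Agent.Lib.Helper8.KR2

/-!
# Knörr–Robinson alternating sums, combinatorial part III: the toggle on non-normal chains
-/

set_option autoImplicit false

namespace Cfsg.Agent.Lib.Helper8.KR

variable {G : Type*} [Group G]

open Classical in
/-- The break of a chain (junk value `⊥` if there is none). -/
noncomputable def brk (s : Finset (Subgroup G)) : Subgroup G :=
  if h : ∃ T, IsBreak s T then h.choose else ⊥

theorem isBreak_brk {s : Finset (Subgroup G)} (h : ∃ T, IsBreak s T) : IsBreak s (brk s) := by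
  unfold brk
  rw [dif_pos h]
  exact h.choose_spec

theorem brk_eq {s : Finset (Subgroup G)} (hch : IsCh s) {T : Subgroup G} (h : IsBreak s T) :
    brk s = T :=
  isBreak_unique hch (isBreak_brk ⟨T, h⟩) h

/-- The subgroup toggled by the pairing of non-normal chains. -/
noncomputable def RAf (s : Finset (Subgroup G)) : Subgroup G := RA s (brk s)

/-- Nonempty chains of nontrivial `p`-subgroups. -/
def IsPCh (p : ℕ) (s : Finset (Subgroup G)) : Prop :=
  s.Nonempty ∧ IsCh s ∧ ∀ Q ∈ s, Q ≠ ⊥ ∧ IsPGroup p Q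

variable [DecidableEq (Subgroup G)] [Finite G] {p : ℕ} [Fact p.Prime]

theorem toggleA_spec {s : Finset (Subgroup G)} (hs : IsPCh p s) (hn : ¬ IsNrm s) :
    IsPCh p (toggle RAf s) ∧ ¬ IsNrm (toggle RAf s) ∧ RAf (toggle RAf s) = RAf s ∧
      stab (toggle RAf s) = stab s := by
  obtain ⟨hne, hch, hmem⟩ := hs
  obtain ⟨T, hT⟩ := exists_isBreak hch hne hn
  have hbrk : brk s = T := brk_eq hch hT
  have hRAf : RAf s = RA s T := by unfold RAf; rw [hbrk]
  have hpT : IsPGroup p T := (hmem T hT.1).2
  by_cases hR : RAf s ∈ s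
  · rw [toggle_of_mem hR, hRAf]
    rw [hRAf] at hR
    have hb' : IsBreak (s.erase (RA s T)) T := isBreak_erase hT hpT
    have hch' : IsCh (s.erase (RA s T)) := fun Q hQ Q' hQ' =>
      hch Q (Finset.mem_of_mem_erase hQ) Q' (Finset.mem_of_mem_erase hQ')
    refine ⟨⟨⟨T, hb'.1⟩, hch', fun Q hQ => hmem Q (Finset.mem_of_mem_erase hQ)⟩, ?_, ?_, ?_⟩
    · intro hN
      exact hb'.2.1 (nrmAt_of_isNrm hN hb'.1)
    · unfold RAf
      rw [brk_eq hch' hb', RA_erase hpT]
    · rw [stab_erase s hR]
      symm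
      apply inf_eq_right.2
      have := stab_le_normalizer_RA (s := s.erase (RA s T)) hb'.1
      rwa [RA_erase hpT] at this
  · rw [toggle_of_notMem hR, hRAf]
    rw [hRAf] at hR
    have hb' : IsBreak (insert (RA s T) s) T := isBreak_insert hch hT hR
    have hch' : IsCh (insert (RA s T) s) := by
      intro Q hQ Q' hQ'
      rcases Finset.mem_insert.1 hQ with rfl | hQs
      · rcases Finset.mem_insert.1 hQ' with rfl | hQ's
        · exact Or.inl le_rfl
        · exact (RA_comparable hch hT hQ's).symm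
      · rcases Finset.mem_insert.1 hQ' with rfl | hQ's
        · exact RA_comparable hch hT hQs
        · exact hch Q hQs Q' hQ's
    refine ⟨⟨⟨T, hb'.1⟩, hch', ?_⟩, ?_, ?_, ?_⟩
    · intro Q hQ
      rcases Finset.mem_insert.1 hQ with rfl | hQs
      · exact ⟨RA_ne_bot hch hT (fun Q hQ => (hmem Q hQ).1), hpT.to_le (RA_le s T)⟩
      · exact hmem Q hQs
    · intro hN
      exact hb'.2.1 (nrmAt_of_isNrm hN hb'.1)
    · unfold RAf
      rw [brk_eq hch' hb', RA_insert]
    · rw [stab_insert]
      exact inf_eq_right.2 (stab_le_normalizer_RA hT.1)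

end Cfsg.Agent.Lib.Helper8.KR
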