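import Mathlib
import Cfsg.Agent.Lib.Helper8.KR3

/-!
# Knörr–Robinson alternating sums, combinatorial part IV: contraction of the `u`-stable chains
-/

set_option autoImplicit false

namespace Cfsg.Agent.Lib.Helper8.KR

variable {G : Type*} [Group G]

/-- `Q` is the largest member of `s` not containing `U`. -/
def IsTopOpen (U : Subgroup G) (s : Finset (Subgroup G)) (Q : Subgroup G) : Prop :=
  Q ∈ s ∧ ¬ U ≤ Q ∧ ∀ Q' ∈ s, Q < Q' → U ≤ Q'

theorem exists_isTopOpen {U : Subgroup G} {s : Finset (Subgroup G)}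
    (h : ∃ Q ∈ s, ¬ U ≤ Q) : ∃ Q, IsTopOpen U s Q := by
  classical
  obtain ⟨Q1, hQ1, hQ1U⟩ := h
  have hne : (s.filter (fun Q => ¬ U ≤ Q)).Nonempty := ⟨Q1, Finset.mem_filter.2 ⟨hQ1, hQ1U⟩⟩
  obtain ⟨Q, hQ, hmax⟩ := (s.filter (fun Q => ¬ U ≤ Q)).exists_maximal hne
  obtain ⟨hQs, hQU⟩ := Finset.mem_filter.1 hQ
  refine ⟨Q, hQs, hQU, fun Q' hQ' hlt => ?_⟩
  by_contra hcon
  have : Q' ∈ s.filter (fun Q => ¬ U ≤ Q) := Finset.mem_filter.2 ⟨hQ', hcon⟩
  exact (not_le_of_gt hlt) (hmax this hlt.le)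

theorem isTopOpen_unique {U : Subgroup G} {s : Finset (Subgroup G)} (hch : IsCh s)
    {Q Q' : Subgroup G} (h : IsTopOpen U s Q) (h' : IsTopOpen U s Q') : Q = Q' := by
  by_contra hne
  rcases hch Q h.1 Q' h'.1 with hle | hle
  · exact h'.2.1 (h.2.2 Q' h'.1 (lt_of_le_of_ne hle hne))
  · exact h.2.1 (h'.2.2 Q h.1 (lt_of_le_of_ne hle (Ne.symm hne)))

open Classical in
/-- The largest member not containing `U` (junk value `⊥` if there is none). -/
noncomputable def topOpen (U : Subgroup G) (s : Finset (Subgroup G)) : Subgroup G :=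
  if h : ∃ Q, IsTopOpen U s Q then h.choose else ⊥

theorem isTopOpen_topOpen {U : Subgroup G} {s : Finset (Subgroup G)}
    (h : ∃ Q, IsTopOpen U s Q) : IsTopOpen U s (topOpen U s) := by
  unfold topOpen
  rw [dif_pos h]
  exact h.choose_spec

theorem topOpen_eq {U : Subgroup G} {s : Finset (Subgroup G)} (hch : IsCh s) {Q : Subgroup G}
    (h : IsTopOpen U s Q) : topOpen U s = Q :=
  isTopOpen_unique hch (isTopOpen_topOpen ⟨Q, h⟩) h

/-- The subgroup toggled by the first contraction. -/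
noncomputable def RB (U : Subgroup G) (s : Finset (Subgroup G)) : Subgroup G := topOpen U s ⊔ U

variable [DecidableEq (Subgroup G)] {p : ℕ}

theorem toggleB_spec {u : G} (hU : IsPGroup p (Subgroup.zpowers u))
    {s : Finset (Subgroup G)} (hs : IsPCh p s) (hus : u ∈ stab s)
    (hopen : ∃ Q ∈ s, ¬ Subgroup.zpowers u ≤ Q) :
    IsPCh p (toggle (RB (Subgroup.zpowers u)) s) ∧
      u ∈ stab (toggle (RB (Subgroup.zpowers u)) s) ∧
      (∃ Q ∈ toggle (RB (Subgroup.zpowers u)) s, ¬ Subgroup.zpowers u ≤ Q) ∧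
      RB (Subgroup.zpowers u) (toggle (RB (Subgroup.zpowers u)) s) = RB (Subgroup.zpowers u) s ∧
      Subgroup.centralizer ({u} : Set G) ⊓ stab (toggle (RB (Subgroup.zpowers u)) s) =
        Subgroup.centralizer ({u} : Set G) ⊓ stab s := by
  obtain ⟨hne, hch, hmem⟩ := hs
  set U := Subgroup.zpowers u with hUdef
  obtain ⟨Q0, hQ0⟩ := exists_isTopOpen hopen
  have htop : topOpen U s = Q0 := topOpen_eq hch hQ0
  have hRB : RB U s = Q0 ⊔ U := by unfold RB; rw [htop]
  set R := Q0 ⊔ U with hRdef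
  have huQ0 : u ∈ Subgroup.normalizer ((Q0 : Subgroup G) : Set G) := mem_stab.1 hus Q0 hQ0.1
  have hUN : U ≤ Subgroup.normalizer ((Q0 : Subgroup G) : Set G) := by
    rw [hUdef, Subgroup.zpowers_le]
    exact huQ0
  have hRp : IsPGroup p R := IsPGroup.to_sup_of_normal_left' (hmem Q0 hQ0.1).2 hU hUN
  have hRbot : R ≠ ⊥ := by
    intro hbot
    have : Q0 ≤ R := le_sup_left
    rw [hbot, le_bot_iff] at this
    exact (hmem Q0 hQ0.1).1 this
  have hQ0R : Q0 ≠ R := by
    intro heq
    apply hQ0.2.1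
    rw [heq]
    exact le_sup_right
  have hcomp : ∀ Q ∈ s, Q ≤ R ∨ R ≤ Q := by
    intro Q hQ
    rcases hch Q hQ Q0 hQ0.1 with hle | hle
    · exact Or.inl (hle.trans le_sup_left)
    · rcases eq_or_lt_of_le hle with heq | hlt
      · exact Or.inl (heq ▸ le_sup_left)
      · exact Or.inr (sup_le hle (hQ0.2.2 Q hQ hlt))
  have hkey : Subgroup.centralizer ({u} : Set G) ⊓
      Subgroup.normalizer ((Q0 : Subgroup G) : Set G) ≤
      Subgroup.normalizer ((R : Subgroup G) : Set G) := by
    refine le_trans ?_ (normalizer_inf_le_normalizer_sup Q0 U)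
    exact le_inf inf_le_right (inf_le_left.trans (centralizer_le_normalizer_zpowers u))
  have huC : u ∈ Subgroup.centralizer ({u} : Set G) :=
    Subgroup.mem_centralizer_singleton_iff.2 rfl
  by_cases hR : RB U s ∈ s
  · rw [toggle_of_mem hR, hRB]
    rw [hRB] at hR
    have hQ0' : Q0 ∈ s.erase R := Finset.mem_erase.2 ⟨hQ0R, hQ0.1⟩
    have hch' : IsCh (s.erase R) := fun Q hQ Q' hQ' =>
      hch Q (Finset.mem_of_mem_erase hQ) Q' (Finset.mem_of_mem_erase hQ')
    have hto' : IsTopOpen U (s.erase R) Q0 :=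
      ⟨hQ0', hQ0.2.1, fun Q' hQ' hlt => hQ0.2.2 Q' (Finset.mem_of_mem_erase hQ') hlt⟩
    have hstab : Subgroup.centralizer ({u} : Set G) ⊓ stab (s.erase R) =
        Subgroup.centralizer ({u} : Set G) ⊓ stab s := by
      rw [stab_erase s hR]
      apply le_antisymm
      · refine le_inf inf_le_left (le_inf ?_ inf_le_right)
        exact le_trans (le_inf inf_le_left (inf_le_right.trans (stab_le_normalizer hQ0'))) hkey
      · exact le_inf inf_le_left (inf_le_right.trans inf_le_right)
    refine ⟨⟨⟨Q0, hQ0'⟩, hch', fun Q hQ => hmem Q (Finset.mem_of_mem_erase hQ)⟩, ?_,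
      ⟨Q0, hQ0', hQ0.2.1⟩, ?_, hstab⟩
    · have : u ∈ Subgroup.centralizer ({u} : Set G) ⊓ stab s := Subgroup.mem_inf.2 ⟨huC, hus⟩
      rw [← hstab] at this
      exact (Subgroup.mem_inf.1 this).2
    · unfold RB
      rw [topOpen_eq hch' hto']
  · rw [toggle_of_notMem hR, hRB]
    rw [hRB] at hR
    have hQ0' : Q0 ∈ insert R s := Finset.mem_insert_of_mem hQ0.1
    have hch' : IsCh (insert R s) := by
      intro Q hQ Q' hQ'
      rcases Finset.mem_insert.1 hQ with rfl | hQs
      · rcases Finset.mem_insert.1 hQ' with rfl | hQ's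
        · exact Or.inl le_rfl
        · exact (hcomp Q' hQ's).symm
      · rcases Finset.mem_insert.1 hQ' with rfl | hQ's
        · exact hcomp Q hQs
        · exact hch Q hQs Q' hQ's
    have hto' : IsTopOpen U (insert R s) Q0 := by
      refine ⟨hQ0', hQ0.2.1, fun Q' hQ' hlt => ?_⟩
      rcases Finset.mem_insert.1 hQ' with rfl | hQ's
      · exact le_sup_right
      · exact hQ0.2.2 Q' hQ's hlt
    have hstab : Subgroup.centralizer ({u} : Set G) ⊓ stab (insert R s) =
        Subgroup.centralizer ({u} : Set G) ⊓ stab s := by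
      rw [stab_insert]
      apply le_antisymm
      · exact le_inf inf_le_left (inf_le_right.trans inf_le_right)
      · refine le_inf inf_le_left (le_inf ?_ inf_le_right)
        exact le_trans (le_inf inf_le_left (inf_le_right.trans (stab_le_normalizer hQ0.1))) hkey
    refine ⟨⟨⟨Q0, hQ0'⟩, hch', ?_⟩, ?_, ⟨Q0, hQ0', hQ0.2.1⟩, ?_, hstab⟩
    · intro Q hQ
      rcases Finset.mem_insert.1 hQ with rfl | hQs
      · exact ⟨hRbot, hRp⟩
      · exact hmem Q hQs
    · have : u ∈ Subgroup.centralizer ({u} : Set G) ⊓ stab s := Subgroup.mem_inf.2 ⟨huC, hus⟩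
      rw [← hstab] at this
      exact (Subgroup.mem_inf.1 this).2
    · unfold RB
      rw [topOpen_eq hch' hto']

theorem toggleC_spec {u : G} (hu1 : u ≠ 1) (hU : IsPGroup p (Subgroup.zpowers u))
    {s : Finset (Subgroup G)} (hs : IsPCh p s) (hus : u ∈ stab s)
    (hclosed : ∀ Q ∈ s, Subgroup.zpowers u ≤ Q) (hsing : s ≠ {Subgroup.zpowers u}) :
    IsPCh p (toggle (fun _ => Subgroup.zpowers u) s) ∧
      u ∈ stab (toggle (fun _ => Subgroup.zpowers u) s) ∧
      (∀ Q ∈ toggle (fun _ => Subgroup.zpowers u) s, Subgroup.zpowers u ≤ Q) ∧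
      toggle (fun _ => Subgroup.zpowers u) s ≠ {Subgroup.zpowers u} ∧
      Subgroup.centralizer ({u} : Set G) ⊓ stab (toggle (fun _ => Subgroup.zpowers u) s) =
        Subgroup.centralizer ({u} : Set G) ⊓ stab s := by
  obtain ⟨hne, hch, hmem⟩ := hs
  set U := Subgroup.zpowers u with hUdef
  have hUbot : U ≠ ⊥ := by
    rw [hUdef, Ne, Subgroup.zpowers_eq_bot]
    exact hu1
  have hkey : Subgroup.centralizer ({u} : Set G) ≤ Subgroup.normalizer ((U : Subgroup G) : Set G) :=
    centralizer_le_normalizer_zpowers u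
  have huC : u ∈ Subgroup.centralizer ({u} : Set G) :=
    Subgroup.mem_centralizer_singleton_iff.2 rfl
  by_cases hR : U ∈ s
  · have ht : toggle (fun _ => U) s = s.erase U := toggle_of_mem (R := fun _ => U) hR
    rw [ht]
    have hex : ∃ Q ∈ s, Q ≠ U := by
      by_contra hcon
      push Not at hcon
      exact hsing (Finset.eq_singleton_iff_unique_mem.2 ⟨hR, hcon⟩)
    obtain ⟨Q1, hQ1, hQ1U⟩ := hex
    have hstab : Subgroup.centralizer ({u} : Set G) ⊓ stab (s.erase U) =
        Subgroup.centralizer ({u} : Set G) ⊓ stab s := by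
      rw [stab_erase s hR]
      apply le_antisymm
      · exact le_inf inf_le_left (le_inf (inf_le_left.trans hkey) inf_le_right)
      · exact le_inf inf_le_left (inf_le_right.trans inf_le_right)
    refine ⟨⟨⟨Q1, Finset.mem_erase.2 ⟨hQ1U, hQ1⟩⟩,
      fun Q hQ Q' hQ' => hch Q (Finset.mem_of_mem_erase hQ) Q' (Finset.mem_of_mem_erase hQ'),
      fun Q hQ => hmem Q (Finset.mem_of_mem_erase hQ)⟩, ?_,
      fun Q hQ => hclosed Q (Finset.mem_of_mem_erase hQ), ?_, hstab⟩
    · have : u ∈ Subgroup.centralizer ({u} : Set G) ⊓ stab s := Subgroup.mem_inf.2 ⟨huC, hus⟩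
      rw [← hstab] at this
      exact (Subgroup.mem_inf.1 this).2
    · intro heq
      have : U ∈ s.erase U := by rw [heq]; exact Finset.mem_singleton_self _
      exact Finset.notMem_erase _ _ this
  · have ht : toggle (fun _ => U) s = insert U s := toggle_of_notMem (R := fun _ => U) hR
    rw [ht]
    have hstab : Subgroup.centralizer ({u} : Set G) ⊓ stab (insert U s) =
        Subgroup.centralizer ({u} : Set G) ⊓ stab s := by
      rw [stab_insert]
      apply le_antisymm
      · exact le_inf inf_le_left (inf_le_right.trans inf_le_right)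
      · exact le_inf inf_le_left (le_inf (inf_le_left.trans hkey) inf_le_right)
    refine ⟨⟨⟨U, Finset.mem_insert_self _ _⟩, ?_, ?_⟩, ?_, ?_, ?_, hstab⟩
    · intro Q hQ Q' hQ'
      rcases Finset.mem_insert.1 hQ with rfl | hQs
      · rcases Finset.mem_insert.1 hQ' with rfl | hQ's
        · exact Or.inl le_rfl
        · exact Or.inl (hclosed Q' hQ's)
      · rcases Finset.mem_insert.1 hQ' with rfl | hQ's
        · exact Or.inr (hclosed Q hQs)
        · exact hch Q hQs Q' hQ's
    · intro Q hQ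
      rcases Finset.mem_insert.1 hQ with rfl | hQs
      · exact ⟨hUbot, hU⟩
      · exact hmem Q hQs
    · have : u ∈ Subgroup.centralizer ({u} : Set G) ⊓ stab s := Subgroup.mem_inf.2 ⟨huC, hus⟩
      rw [← hstab] at this
      exact (Subgroup.mem_inf.1 this).2
    · intro Q hQ
      rcases Finset.mem_insert.1 hQ with rfl | hQs
      · exact le_rfl
      · exact hclosed Q hQs
    · intro heq
      obtain ⟨Q, hQ⟩ := hne
      have : Q ∈ insert U s := Finset.mem_insert_of_mem hQ
      rw [heq, Finset.mem_singleton] at this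
      rw [this] at hQ
      exact hR hQ

end Cfsg.Agent.Lib.Helper8.KR
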