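import Mathlib
import Cfsg.Agent.Lib.Helper8.KR4

/-!
# Knörr–Robinson alternating sums, combinatorial part V: the alternating sum over the normal
chains stabilized by a `p`-element
-/

set_option autoImplicit false

namespace Cfsg.Agent.Lib.Helper8.KR

variable {G : Type*} [Group G] [Finite G] {p : ℕ} [Fact p.Prime]

theorem stab_singleton (U : Subgroup G) :
    stab ({U} : Finset (Subgroup G)) = Subgroup.normalizer ((U : Subgroup G) : Set G) := by
  ext g
  rw [mem_stab]
  constructor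
  · intro h
    exact h U (Finset.mem_singleton_self _)
  · intro h Q hQ
    rw [Finset.mem_singleton] at hQ
    rw [hQ]
    exact h

open Classical in
/-- **The alternating sum over the normal chains normalized by a nontrivial `p`-element `u`** of
any function of `C_G(u) ∩ N_G(s)` is its value at `C_G(u)`. -/
theorem chain_sum_finset [Fintype (Subgroup G)] (Φ : Subgroup G → ℤ) {u : G} (hu1 : u ≠ 1)
    (hU : IsPGroup p (Subgroup.zpowers u)) :
    ∑ s ∈ (Finset.univ : Finset (Finset (Subgroup G))).filter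
        (fun s => IsPCh p s ∧ IsNrm s ∧ u ∈ stab s),
      (-1 : ℤ) ^ (s.card - 1) * Φ (Subgroup.centralizer ({u} : Set G) ⊓ stab s) =
      Φ (Subgroup.centralizer ({u} : Set G)) := by
  set U := Subgroup.zpowers u with hUdef
  set Ψ : Finset (Subgroup G) → ℤ := fun s => Φ (Subgroup.centralizer ({u} : Set G) ⊓ stab s)
    with hΨ
  set SP := (Finset.univ : Finset (Finset (Subgroup G))).filter
    (fun s => IsPCh p s ∧ u ∈ stab s) with hSP
  have hmemSP : ∀ s, s ∈ SP ↔ IsPCh p s ∧ u ∈ stab s := by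
    intro s
    rw [hSP, Finset.mem_filter]
    simp only [Finset.mem_univ, true_and]
  -- step 1: the non-normal chains cancel
  have h1 : ∑ s ∈ SP.filter (fun s => ¬ IsNrm s), (-1 : ℤ) ^ (s.card - 1) * Ψ s = 0 := by
    apply sum_toggle_eq_zero _ RAf Ψ
    · intro s hs
      exact ((hmemSP s).1 (Finset.mem_filter.1 hs).1).1.1
    · intro s hs
      obtain ⟨hs1, hs2⟩ := Finset.mem_filter.1 hs
      obtain ⟨hP, hus⟩ := (hmemSP s).1 hs1
      obtain ⟨a, b, c, d⟩ := toggleA_spec hP hs2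
      refine Finset.mem_filter.2 ⟨(hmemSP _).2 ⟨a, ?_⟩, b⟩
      rw [d]
      exact hus
    · intro s hs
      obtain ⟨hs1, hs2⟩ := Finset.mem_filter.1 hs
      exact (toggleA_spec ((hmemSP s).1 hs1).1 hs2).2.2.1
    · intro s hs
      obtain ⟨hs1, hs2⟩ := Finset.mem_filter.1 hs
      rw [hΨ]
      beta_reduce
      rw [(toggleA_spec ((hmemSP s).1 hs1).1 hs2).2.2.2]
  -- step 2: the chains with a member not containing `U` cancel
  have h2 : ∑ s ∈ SP.filter (fun s => ¬ ∀ Q ∈ s, U ≤ Q), (-1 : ℤ) ^ (s.card - 1) * Ψ s = 0 := by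
    apply sum_toggle_eq_zero _ (RB U) Ψ
    · intro s hs
      exact ((hmemSP s).1 (Finset.mem_filter.1 hs).1).1.1
    · intro s hs
      obtain ⟨hs1, hs2⟩ := Finset.mem_filter.1 hs
      obtain ⟨hP, hus⟩ := (hmemSP s).1 hs1
      push Not at hs2
      obtain ⟨a, b, c, d, e⟩ := toggleB_spec hU hP hus hs2
      refine Finset.mem_filter.2 ⟨(hmemSP _).2 ⟨a, b⟩, ?_⟩
      push Not
      exact c
    · intro s hs
      obtain ⟨hs1, hs2⟩ := Finset.mem_filter.1 hs
      obtain ⟨hP, hus⟩ := (hmemSP s).1 hs1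
      push Not at hs2
      exact (toggleB_spec hU hP hus hs2).2.2.2.1
    · intro s hs
      obtain ⟨hs1, hs2⟩ := Finset.mem_filter.1 hs
      obtain ⟨hP, hus⟩ := (hmemSP s).1 hs1
      push Not at hs2
      rw [hΨ]
      beta_reduce
      rw [(toggleB_spec hU hP hus hs2).2.2.2.2]
  -- step 3: the chains above `U` other than `{U}` cancel
  have h3 : ∑ s ∈ (SP.filter (fun s => ∀ Q ∈ s, U ≤ Q)).filter (fun s => ¬ s = {U}),
      (-1 : ℤ) ^ (s.card - 1) * Ψ s = 0 := by
    apply sum_toggle_eq_zero _ (fun _ => U) Ψ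
    · intro s hs
      exact ((hmemSP s).1 (Finset.mem_filter.1 (Finset.mem_filter.1 hs).1).1).1.1
    · intro s hs
      obtain ⟨hs0, hs3⟩ := Finset.mem_filter.1 hs
      obtain ⟨hs1, hs2⟩ := Finset.mem_filter.1 hs0
      obtain ⟨hP, hus⟩ := (hmemSP s).1 hs1
      obtain ⟨a, b, c, d, e⟩ := toggleC_spec hu1 hU hP hus hs2 hs3
      exact Finset.mem_filter.2 ⟨Finset.mem_filter.2 ⟨(hmemSP _).2 ⟨a, b⟩, c⟩, d⟩
    · intro s hs
      rfl
    · intro s hs
      obtain ⟨hs0, hs3⟩ := Finset.mem_filter.1 hs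
      obtain ⟨hs1, hs2⟩ := Finset.mem_filter.1 hs0
      obtain ⟨hP, hus⟩ := (hmemSP s).1 hs1
      rw [hΨ]
      beta_reduce
      rw [(toggleC_spec hu1 hU hP hus hs2 hs3).2.2.2.2]
  -- the chain `{U}`
  have hkey : Subgroup.centralizer ({u} : Set G) ≤ Subgroup.normalizer ((U : Subgroup G) : Set G) :=
    centralizer_le_normalizer_zpowers u
  have hUbot : U ≠ ⊥ := by
    rw [hUdef, Ne, Subgroup.zpowers_eq_bot]
    exact hu1
  have hUmem : ({U} : Finset (Subgroup G)) ∈ SP.filter (fun s => ∀ Q ∈ s, U ≤ Q) := by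
    refine Finset.mem_filter.2 ⟨(hmemSP _).2 ⟨⟨⟨U, Finset.mem_singleton_self _⟩, ?_, ?_⟩, ?_⟩, ?_⟩
    · intro Q hQ Q' hQ'
      rw [Finset.mem_singleton] at hQ hQ'
      rw [hQ, hQ']
      exact Or.inl le_rfl
    · intro Q hQ
      rw [Finset.mem_singleton] at hQ
      rw [hQ]
      exact ⟨hUbot, hU⟩
    · rw [stab_singleton]
      exact hkey (Subgroup.mem_centralizer_singleton_iff.2 rfl)
    · intro Q hQ
      rw [Finset.mem_singleton] at hQ
      rw [hQ]
  have h4 : ∑ s ∈ (SP.filter (fun s => ∀ Q ∈ s, U ≤ Q)).filter (fun s => s = {U}),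
      (-1 : ℤ) ^ (s.card - 1) * Ψ s = Φ (Subgroup.centralizer ({u} : Set G)) := by
    rw [Finset.filter_eq' _ ({U} : Finset (Subgroup G)), if_pos hUmem, Finset.sum_singleton,
      Finset.card_singleton, Nat.sub_self, pow_zero, one_mul, hΨ]
    beta_reduce
    rw [stab_singleton, inf_eq_left.2 hkey]
  -- assemble
  have hfil : (Finset.univ : Finset (Finset (Subgroup G))).filter
      (fun s => IsPCh p s ∧ IsNrm s ∧ u ∈ stab s) = SP.filter (fun s => IsNrm s) := by
    ext s
    rw [Finset.mem_filter, Finset.mem_filter, hmemSP]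
    simp only [Finset.mem_univ, true_and]
    tauto
  rw [hfil]
  have e1 := Finset.sum_filter_add_sum_filter_not SP (fun s => IsNrm s)
    (fun s => (-1 : ℤ) ^ (s.card - 1) * Ψ s)
  have e2 := Finset.sum_filter_add_sum_filter_not SP (fun s => ∀ Q ∈ s, U ≤ Q)
    (fun s => (-1 : ℤ) ^ (s.card - 1) * Ψ s)
  have e3 := Finset.sum_filter_add_sum_filter_not (SP.filter (fun s => ∀ Q ∈ s, U ≤ Q))
    (fun s => s = {U}) (fun s => (-1 : ℤ) ^ (s.card - 1) * Ψ s)
  rw [h1, add_zero] at e1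
  rw [h2, add_zero] at e2
  rw [h3, add_zero, h4] at e3
  rw [e1, ← e2, ← e3]

/-- The same with a `finsum`. -/
theorem chain_sum (Φ : Subgroup G → ℤ) {u : G} (hu1 : u ≠ 1)
    (hU : IsPGroup p (Subgroup.zpowers u)) :
    ∑ᶠ s ∈ {s : Finset (Subgroup G) | IsPCh p s ∧ IsNrm s ∧ u ∈ stab s},
      (-1 : ℤ) ^ (s.card - 1) * Φ (Subgroup.centralizer ({u} : Set G) ⊓ stab s) =
      Φ (Subgroup.centralizer ({u} : Set G)) := by
  classical
  have : Fintype (Subgroup G) := Fintype.ofFinite _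
  rw [← chain_sum_finset Φ hu1 hU]
  rw [finsum_mem_eq_finite_toFinset_sum _ (Set.toFinite _)]
  apply Finset.sum_congr _ (fun _ _ => rfl)
  ext s
  simp only [Set.Finite.mem_toFinset, Set.mem_ofPred_eq, Finset.mem_filter, Finset.mem_univ, true_and]

end Cfsg.Agent.Lib.Helper8.KR
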