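import Mathlib
import Cfsg.Prelude.Def_Blocks
import Cfsg.Prelude.Def_BlockLocal
import Cfsg.Prelude.Def_BlockRank
import Cfsg.Agent.Lib.Helper8.KR5
import Cfsg.Agent.Lib.Helper8.KR10

/-!
# The Knörr–Robinson alternating sum for `k(b) - l(b)` over the normal chains of `p`-subgroups
-/

set_option autoImplicit false

namespace Cfsg.Agent.Lib.Helper8.KR

open Cfsg Cfsg.Agent.Lib.Helper8
open scoped ComplexConjugate
open Cfsg.Agent.Lib.Helper1 Cfsg.Agent.Lib.Helper4

universe u

section

variable {G : Type u} [Group G] [Fintype G] {M : Ideal AlgInt} {p : ℕ} [Fact p.Prime]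

theorem kr_main (hM : IsPModular p M) {b : Set (IrrCharacter G)} (hb : IsPBlock M b) :
    (Nat.card G : ℤ) * ((Nat.card b : ℤ) - (blockRank p b : ℤ)) =
      ∑ᶠ s ∈ {s : Finset (Subgroup G) | IsPCh p s ∧ IsNrm s},
        (-1 : ℤ) ^ (s.card - 1) * ((Nat.card (stab s) : ℤ) *
          ((Nat.card (unionOf (fun β : Set (IrrCharacter (stab s)) =>
              IsInducedBlock M (stab s) β b)) : ℤ) -
            (blockRank p (unionOf (fun β : Set (IrrCharacter (stab s)) =>
              IsInducedBlock M (stab s) β b)) : ℤ))) := by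
  classical
  have hNfin : {s : Finset (Subgroup G) | IsPCh p s ∧ IsNrm s}.Finite := Set.toFinite _
  set U : Finset G := Finset.univ.filter (fun y : G => y ≠ 1 ∧ ∃ k : ℕ, orderOf y = p ^ k)
    with hU
  -- the right side
  have hterm : ∀ s : Finset (Subgroup G), (Nat.card (stab s) : ℤ) *
      ((Nat.card (unionOf (fun β : Set (IrrCharacter (stab s)) =>
          IsInducedBlock M (stab s) β b)) : ℤ) -
        (blockRank p (unionOf (fun β : Set (IrrCharacter (stab s)) =>
          IsInducedBlock M (stab s) β b)) : ℤ)) =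
      ∑ u ∈ U, if u ∈ stab s then phi M p b (Subgroup.centralizer ({u} : Set G) ⊓ stab s)
        else 0 := by
    intro s
    rw [card_mul_sub_rank_unionOf hM (stab s) b,
      finsum_mem_eq_finite_toFinset_sum _ (Set.toFinite _), ← Finset.sum_filter]
    apply Finset.sum_congr _ (fun _ _ => rfl)
    ext u
    simp only [Set.Finite.mem_toFinset, Set.mem_ofPred_eq, Finset.mem_filter, hU,
      Finset.mem_univ, true_and]
    tauto
  simp_rw [hterm]
  rw [finsum_mem_eq_finite_toFinset_sum _ hNfin]
  simp_rw [Finset.mul_sum]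
  rw [Finset.sum_comm]
  -- the left side
  rw [card_mul_card_sub_rank hM hb]
  refine Finset.sum_congr rfl fun u hu => ?_
  obtain ⟨-, hu1, k, hk⟩ := Finset.mem_filter.1 hu
  have hUp : IsPGroup p (Subgroup.zpowers u) := by
    apply IsPGroup.of_card (n := k)
    rw [Nat.card_zpowers, hk]
  have hcs := chain_sum (p := p) (phi M p b) hu1 hUp
  have e1 : (Nat.card (Subgroup.centralizer ({u} : Set G)) : ℤ) *
      (lam M p (Subgroup.centralizer ({u} : Set G)) b : ℤ) =
      phi M p b (Subgroup.centralizer ({u} : Set G)) := rfl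
  rw [e1, ← hcs, finsum_mem_eq_finite_toFinset_sum _ (Set.toFinite _)]
  have hsub : (Set.toFinite {s : Finset (Subgroup G) | IsPCh p s ∧ IsNrm s ∧ u ∈ stab s}).toFinset
      = hNfin.toFinset.filter (fun s => u ∈ stab s) := by
    ext s
    simp only [Set.Finite.mem_toFinset, Set.mem_ofPred_eq, Finset.mem_filter]
    tauto
  rw [hsub, Finset.sum_filter]
  refine Finset.sum_congr rfl fun s _ => ?_
  by_cases hus : u ∈ stab s
  · rw [if_pos hus, if_pos hus]
  · rw [if_neg hus, if_neg hus, mul_zero]

end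

end Cfsg.Agent.Lib.Helper8.KR
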