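import Mathlib
import Cfsg.Agent.Lib.Helper1.CycloGalois
import Cfsg.Agent.Lib.Helper8.GaloisAvg

/-!
# Cyclotomic integers in the complex numbers and a counting lemma

`cycInt N` is the ring generated by the complex `N`-th roots of unity. If finitely many nonzero
elements `z i` of it satisfy `∑ z i * conj (z i) = M`, then there are at most `M` of them.
-/

set_option autoImplicit false

namespace Cfsg.Agent.Lib.Helper8

open scoped ComplexConjugate
open Cfsg.Agent.Lib.Helper1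

/-- The ring generated by the complex `N`-th roots of unity. -/
def cycInt (N : ℕ) : Subring ℂ := Subring.closure {z : ℂ | z ^ N = 1}

theorem mem_cycInt_of_pow {N : ℕ} {z : ℂ} (hz : z ^ N = 1) : z ∈ cycInt N :=
  Subring.subset_closure hz

theorem conj_mem_cycInt {N : ℕ} {z : ℂ} (hz : z ∈ cycInt N) : conj z ∈ cycInt N := by
  have h : cycInt N ≤ (cycInt N).comap (starRingEnd ℂ) := by
    apply (Subring.closure_le (t := (cycInt N).comap (starRingEnd ℂ))).2
    intro w hw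
    show conj w ∈ cycInt N
    apply mem_cycInt_of_pow
    have hw' : w ^ N = 1 := hw
    rw [← map_pow, hw', map_one]
  exact h hz

theorem isIntegral_of_mem_cycInt {N : ℕ} [NeZero N] {z : ℂ} (hz : z ∈ cycInt N) :
    IsIntegral ℤ z := by
  have h : cycInt N ≤ (integralClosure ℤ ℂ).toSubring := by
    apply (Subring.closure_le (t := (integralClosure ℤ ℂ).toSubring)).2
    intro w hw
    have hw' : w ^ N = 1 := hw
    show IsIntegral ℤ w
    exact IsIntegral.of_pow (NeZero.pos N) (by rw [hw']; exact isIntegral_one)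
  exact h hz

section Cyclo

variable (N : ℕ) [NeZero N] {K : Type*} [Field K] [CharZero K] [IsCyclotomicExtension {N} ℚ K]

/-- Two algebra homomorphisms out of a cyclotomic field agreeing on the roots of unity agree. -/
theorem cyclo_algHom_ext {L : Type*} [Semiring L] [Algebra ℚ L] (f g : K →ₐ[ℚ] L)
    (h : ∀ b : K, b ^ N = 1 → f b = g b) (y : K) : f y = g y := by
  have hle : Algebra.adjoin ℚ {b : K | ∃ n : ℕ, n ∈ ({N} : Set ℕ) ∧ n ≠ 0 ∧ b ^ n = 1}
      ≤ AlgHom.equalizer f g := by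
    apply Algebra.adjoin_le
    rintro b ⟨n, hn, _, hb⟩
    rw [Set.mem_singleton_iff] at hn
    subst hn
    exact h b hb
  exact hle (IsCyclotomicExtension.adjoin_roots (S := {N}) (A := ℚ) y)

/-- Cyclotomic integers come from integral elements of the cyclotomic field. -/
theorem exists_lift_of_mem_cycInt (ι₀ : K →+* ℂ) {z : ℂ} (hz : z ∈ cycInt N) :
    ∃ x : K, IsIntegral ℤ x ∧ ι₀ x = z := by
  have h : cycInt N ≤ ((integralClosure ℤ K).toSubring).map ι₀ := by
    apply (Subring.closure_le (t := ((integralClosure ℤ K).toSubring).map ι₀)).2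
    intro w hw
    have hw' : w ^ N = 1 := hw
    obtain ⟨b, hb, hbw⟩ := exists_preimage_of_pow_eq_one N ι₀ w hw'
    refine ⟨b, ?_, hbw⟩
    show IsIntegral ℤ b
    exact IsIntegral.of_pow (NeZero.pos N) (by rw [hb]; exact isIntegral_one)
  obtain ⟨x, hx, hxz⟩ := h hz
  exact ⟨x, hx, hxz⟩

end Cyclo

/-- The counting lemma. -/
theorem card_le_of_sum_mul_conj {N : ℕ} [NeZero N] {ι : Type*} [Fintype ι] (z : ι → ℂ)
    (hz : ∀ i, z i ∈ cycInt N) (hz0 : ∀ i, z i ≠ 0) (M : ℕ)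
    (hsum : ∑ i, z i * conj (z i) = M) : Fintype.card ι ≤ M := by
  classical
  let K := CyclotomicField N ℚ
  have hcyc : IsCyclotomicExtension {N} ℚ K :=
    CyclotomicField.instIsCyclotomicExtensionSingletonNatSetOfCharZero N ℚ
  let ιA : K →ₐ[ℚ] ℂ := IsAlgClosed.lift
  let ι₀ : K →+* ℂ := (ιA : K →+* ℂ)
  have hfd : FiniteDimensional ℚ K := IsCyclotomicExtension.finiteDimensional {N} ℚ K
  haveI : Fintype (K ≃ₐ[ℚ] K) := Fintype.ofFinite _
  have hlift := fun i => exists_lift_of_mem_cycInt N ι₀ (hz i)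
  choose x hxint hx using hlift
  have hx0 : ∀ i, x i ≠ 0 := by
    intro i h0
    apply hz0 i
    rw [← hx i, h0, map_zero]
  -- complex conjugation on `K`
  have hcop : (N - 1).Coprime N := by
    have hN : 1 ≤ N := NeZero.pos N
    have h1 : Nat.Coprime (N - 1) (N - 1 + 1) := by simp
    rwa [Nat.sub_add_cancel hN] at h1
  obtain ⟨τ, hτ⟩ := exists_aut_pow (K := K) N (N - 1) hcop
  have hτ' : ∀ y : K, ι₀ (τ y) = conj (ι₀ y) := by
    intro y
    have := cyclo_algHom_ext N (ιA.comp (τ : K →ₐ[ℚ] K))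
      (((Complex.conjAe : ℂ →ₐ[ℝ] ℂ).restrictScalars ℚ).comp ιA) ?_ y
    · have h2 : ιA (τ y) = conj (ιA y) := by simpa using this
      exact h2
    · intro b hb
      show ιA (τ b) = conj (ιA b)
      rw [hτ b hb, map_pow]
      have hw : (ιA b) ^ N = 1 := by rw [← map_pow, hb, map_one]
      have hnorm : ‖ιA b‖ = 1 := Complex.norm_eq_one_of_pow_eq_one hw (NeZero.ne N)
      have h1 : (ιA b) ^ (N - 1) * ιA b = 1 := by
        rw [← pow_succ, Nat.sub_add_cancel (NeZero.pos N), hw]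
      have h2 : conj (ιA b) * ιA b = 1 := by
        rw [Complex.conj_mul', hnorm]
        simp
      have hne : ιA b ≠ 0 := by
        intro h0
        rw [h0, mul_zero] at h1
        exact zero_ne_one h1
      exact mul_right_cancel₀ hne (h1.trans h2.symm)
  have hcomm : ∀ (σ : K ≃ₐ[ℚ] K) (y : K), τ (σ y) = σ (τ y) := by
    intro σ y
    refine cyclo_algHom_ext N ((τ : K →ₐ[ℚ] K).comp (σ : K →ₐ[ℚ] K))
      ((σ : K →ₐ[ℚ] K).comp (τ : K →ₐ[ℚ] K)) ?_ y
    intro b hb
    show τ (σ b) = σ (τ b)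
    have hσb : (σ b) ^ N = 1 := by rw [← map_pow, hb, map_one]
    rw [hτ b hb, hτ _ hσb, map_pow]
  have hK : ∑ i, x i * τ (x i) = (M : K) := by
    apply ι₀.injective
    rw [map_sum, map_natCast, ← hsum]
    refine Finset.sum_congr rfl fun i _ => ?_
    rw [map_mul, hτ', hx]
  have hσsum : ∀ σ : K ≃ₐ[ℚ] K, ∑ i, ‖ι₀ (σ (x i))‖ ^ 2 = (M : ℝ) := by
    intro σ
    have h1 : ((∑ i, ‖ι₀ (σ (x i))‖ ^ 2 : ℝ) : ℂ) = ((M : ℝ) : ℂ) := by
      push_cast
      have h2 : ∀ i, (‖ι₀ (σ (x i))‖ : ℂ) ^ 2 = ι₀ (σ (x i * τ (x i))) := by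
        intro i
        rw [map_mul, map_mul, ← hcomm, hτ', Complex.mul_conj']
      simp only [h2]
      rw [← map_sum, ← map_sum, hK, map_natCast, map_natCast]
    exact_mod_cast h1
  have hlow : ∀ i, (Fintype.card (K ≃ₐ[ℚ] K) : ℝ) ≤ ∑ σ : K ≃ₐ[ℚ] K, ‖ι₀ (σ (x i))‖ ^ 2 := by
    intro i
    have hprod := one_le_prod_norm N ι₀ (x i) (hxint i) (hx0 i)
    have hprod2 : 1 ≤ ∏ σ : K ≃ₐ[ℚ] K, ‖ι₀ (σ (x i))‖ ^ 2 := by
      rw [Finset.prod_pow]
      exact one_le_pow₀ hprod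
    have := card_le_sum_of_one_le_prod Finset.univ (fun σ : K ≃ₐ[ℚ] K => ‖ι₀ (σ (x i))‖ ^ 2)
      (fun σ _ => by positivity) hprod2
    rwa [Finset.card_univ] at this
  have hm : (0 : ℝ) < Fintype.card (K ≃ₐ[ℚ] K) := by
    exact_mod_cast Fintype.card_pos
  have htot : ∑ i, ∑ σ : K ≃ₐ[ℚ] K, ‖ι₀ (σ (x i))‖ ^ 2
      = (Fintype.card (K ≃ₐ[ℚ] K) : ℝ) * M := by
    rw [Finset.sum_comm]
    simp only [hσsum]
    rw [Finset.sum_const, Finset.card_univ, nsmul_eq_mul]
  have h3 := Finset.sum_le_sum (fun i (_ : i ∈ (Finset.univ : Finset ι)) => hlow i)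
  rw [htot, Finset.sum_const, Finset.card_univ, nsmul_eq_mul, mul_comm] at h3
  have h4 : (Fintype.card ι : ℝ) ≤ M := le_of_mul_le_mul_left h3 hm
  exact_mod_cast h4

end Cfsg.Agent.Lib.Helper8
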