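import Mathlib
import Cfsg.Prelude.Def_Blocks
import Cfsg.Agent.Lib.Helper2.PVanish

/-!
# Congruences modulo a prime ideal of the ring of algebraic integers
-/

set_option autoImplicit false

namespace Cfsg.Agent.Lib.Helper8

open Cfsg

/-- The image in `ℂ` of an ideal of algebraic integers. -/
def idealImage (𝔓 : Ideal AlgInt) : Submodule AlgInt ℂ :=
  Submodule.map (Algebra.linearMap AlgInt ℂ) 𝔓

theorem mem_idealImage {𝔓 : Ideal AlgInt} {z : ℂ} :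
    z ∈ idealImage 𝔓 ↔ ∃ r ∈ 𝔓, (r : ℂ) = z := by
  unfold idealImage
  rw [Submodule.mem_map]
  rfl

theorem mul_mem_idealImage {𝔓 : Ideal AlgInt} {z w : ℂ} (hz : IsIntegral ℤ z)
    (hw : w ∈ idealImage 𝔓) : z * w ∈ idealImage 𝔓 := by
  have := (idealImage 𝔓).smul_mem (⟨z, hz⟩ : AlgInt) hw
  exact this

theorem mul_mem_idealImage' {𝔓 : Ideal AlgInt} {z w : ℂ} (hz : IsIntegral ℤ z)
    (hw : w ∈ idealImage 𝔓) : w * z ∈ idealImage 𝔓 := by
  rw [mul_comm]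
  exact mul_mem_idealImage hz hw

theorem isIntegral_of_mem_idealImage {𝔓 : Ideal AlgInt} {z : ℂ} (hz : z ∈ idealImage 𝔓) :
    IsIntegral ℤ z := by
  obtain ⟨r, _, rfl⟩ := mem_idealImage.1 hz
  exact r.2

/-- There is a maximal ideal containing a given prime number. -/
theorem exists_maximal_ideal_over (p : ℕ) [Fact p.Prime] :
    ∃ 𝔓 : Ideal AlgInt, 𝔓.IsMaximal ∧ ((p : ℕ) : AlgInt) ∈ 𝔓 := by
  have hne : Ideal.span ({((p : ℕ) : AlgInt)} : Set AlgInt) ≠ ⊤ := by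
    rw [Ne, Ideal.span_singleton_eq_top]
    exact Cfsg.Agent.Lib.Helper2.PVanish.prime_mem_nonunits p
  obtain ⟨𝔓, h𝔓, hle⟩ := Ideal.exists_le_maximal _ hne
  exact ⟨𝔓, h𝔓, hle (Ideal.mem_span_singleton_self _)⟩

variable {p : ℕ} [Fact p.Prime] {𝔓 : Ideal AlgInt}

/-- A `p`-th root of unity is congruent to one. -/
theorem sub_one_mem_idealImage_of_pow (h𝔓 : 𝔓.IsPrime) (hp : ((p : ℕ) : AlgInt) ∈ 𝔓) {z : ℂ}
    (hz : z ^ p = 1) : z - 1 ∈ idealImage 𝔓 := by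
  have hp0 : 0 < p := (Fact.out : p.Prime).pos
  have hzint : IsIntegral ℤ z := IsIntegral.of_pow hp0 (by rw [hz]; exact isIntegral_one)
  set zz : AlgInt := ⟨z, hzint⟩ with hzz
  have hzzp : zz ^ p = 1 := by
    apply Subtype.ext
    simpa [hzz] using hz
  haveI := CharP.quotient AlgInt p (Cfsg.Agent.Lib.Helper2.PVanish.prime_mem_nonunits p)
  have h1 : (zz - 1) ^ p ∈ Ideal.span ({((p : ℕ) : AlgInt)} : Set AlgInt) := by
    rw [← Ideal.Quotient.eq_zero_iff_mem, map_pow, map_sub, map_one, sub_pow_char, ← map_pow,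
      hzzp, map_one, one_pow, sub_self]
  have h2 : (zz - 1) ^ p ∈ 𝔓 :=
    (Ideal.span_singleton_le_iff_mem (I := 𝔓)).2 hp h1
  have h3 : zz - 1 ∈ 𝔓 := h𝔓.mem_of_pow_mem _ h2
  exact mem_idealImage.2 ⟨zz - 1, h3, by simp [hzz]⟩

/-- A natural number congruent to zero is divisible by `p`. -/
theorem dvd_of_natCast_mem_idealImage (hne : 𝔓 ≠ ⊤) (hp : ((p : ℕ) : AlgInt) ∈ 𝔓) {d : ℕ}
    (hd : (d : ℂ) ∈ idealImage 𝔓) : p ∣ d := by
  obtain ⟨r, hr, hrd⟩ := mem_idealImage.1 hd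
  have hrd' : r = ((d : ℕ) : AlgInt) := by
    apply Subtype.ext
    rw [hrd]
    simp
  rw [hrd'] at hr
  by_contra hnd
  have hcop : p.Coprime d := ((Fact.out : p.Prime).coprime_iff_not_dvd).2 hnd
  have h1 := Nat.gcd_eq_gcd_ab p d
  rw [hcop.gcd_eq_one] at h1
  have h2 : (1 : AlgInt) = ((p : ℕ) : AlgInt) * ((Nat.gcdA p d : ℤ) : AlgInt)
      + ((d : ℕ) : AlgInt) * ((Nat.gcdB p d : ℤ) : AlgInt) := by
    have := congrArg (fun t : ℤ => (t : AlgInt)) h1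
    simpa using this
  apply hne
  rw [Ideal.eq_top_iff_one, h2]
  exact 𝔓.add_mem (𝔓.mul_mem_right _ hp) (𝔓.mul_mem_right _ hr)

end Cfsg.Agent.Lib.Helper8
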