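import Mathlib
import Cfsg.Agent.Lib.Helper8.KV1
import Cfsg.Agent.Lib.Helper8.KV2

/-!
# Combinations of linear characters and Gauss sums
-/

set_option autoImplicit false

namespace Cfsg.Agent.Lib.Helper8

open scoped ComplexConjugate

section Span

variable (p : ℕ) (C : Type*) [Group C]

/-- Combinations of linear characters with cyclotomic integer coefficients. -/
def linSpan : Submodule (cycInt p) (C → ℂ) :=
  Submodule.span (cycInt p) (Set.range fun μ : C →* ℂˣ => fun c => (μ c : ℂ))

variable {p C}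

theorem hom_mem_linSpan (μ : C →* ℂˣ) : (fun c => (μ c : ℂ)) ∈ linSpan p C :=
  Submodule.subset_span ⟨μ, rfl⟩

theorem one_mem_linSpan : (fun _ : C => (1 : ℂ)) ∈ linSpan p C := by
  have := hom_mem_linSpan (p := p) (1 : C →* ℂˣ)
  simpa using this

theorem mul_mem_linSpan {f g : C → ℂ} (hf : f ∈ linSpan p C) (hg : g ∈ linSpan p C) :
    f * g ∈ linSpan p C := by
  induction hf using Submodule.span_induction with
  | mem f hf =>
    obtain ⟨μ, rfl⟩ := hf
    induction hg using Submodule.span_induction with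
    | mem g hg =>
      obtain ⟨ν, rfl⟩ := hg
      have := hom_mem_linSpan (p := p) (μ * ν)
      convert this using 1
      funext c
      simp
    | zero => rw [mul_zero]; exact zero_mem _
    | add x y _ _ hx hy => rw [mul_add]; exact add_mem hx hy
    | smul a x _ hx =>
      have : (fun c => ((μ c : ℂˣ) : ℂ)) * (a • x) = a • ((fun c => ((μ c : ℂˣ) : ℂ)) * x) := by
        funext c
        simp only [Pi.mul_apply, Pi.smul_apply, Subring.smul_def, smul_eq_mul]
        ring
      rw [this]
      exact Submodule.smul_mem _ a hx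
  | zero => rw [zero_mul]; exact zero_mem _
  | add x y _ _ hx hy => rw [add_mul]; exact add_mem hx hy
  | smul a x _ hx =>
    have : (a • x) * g = a • (x * g) := by
      funext c
      simp only [Pi.mul_apply, Pi.smul_apply, Subring.smul_def, smul_eq_mul]
      ring
    rw [this]
    exact Submodule.smul_mem _ a hx

theorem isIntegral_of_mem_linSpan [Finite C] [NeZero p] {f : C → ℂ} (hf : f ∈ linSpan p C)
    (c : C) : IsIntegral ℤ (f c) := by
  induction hf using Submodule.span_induction with
  | mem f hf =>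
    obtain ⟨μ, rfl⟩ := hf
    have h1 : ((μ c : ℂˣ) : ℂ) ^ Nat.card C = 1 := by
      rw [← Units.val_pow_eq_pow_val, ← map_pow, pow_card_eq_one', map_one, Units.val_one]
    exact IsIntegral.of_pow Nat.card_pos (by rw [h1]; exact isIntegral_one)
  | zero => exact isIntegral_zero
  | add x y _ _ hx hy => exact hx.add hy
  | smul a x _ hx =>
    have : (a • x) c = (a : ℂ) * x c := by
      simp only [Pi.smul_apply, Subring.smul_def, smul_eq_mul]
    rw [this]
    exact (isIntegral_of_mem_cycInt a.2).mul hx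

end Span

/-- A primitive additive character of a finite field with values among the roots of unity of
order the characteristic. -/
theorem exists_primitive_addChar (E : Type*) [Field E] [Finite E] :
    ∃ ψ : AddChar E ℂ, ψ.IsPrimitive ∧ ∀ x, ψ x ^ ringChar E = 1 := by
  obtain ⟨p, hpdef⟩ : ∃ p, p = ringChar E := ⟨_, rfl⟩
  haveI : CharP E p := hpdef ▸ ringChar.charP E
  haveI hp : Fact p.Prime := ⟨CharP.char_is_prime E _⟩
  haveI : NeZero p := ⟨hp.1.ne_zero⟩
  have hζ := Complex.isPrimitiveRoot_exp p (NeZero.ne p)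
  have hψ₀ := AddChar.zmodChar_primitive_of_primitive_root p hζ
  letI : Algebra (ZMod p) E := ZMod.algebra _ _
  refine ⟨(AddChar.zmodChar p ((IsPrimitiveRoot.iff_def _ p).mp hζ).left).compAddMonoidHom
    (Algebra.trace (ZMod p) E).toAddMonoidHom, AddChar.IsPrimitive.of_ne_one ?_, ?_⟩
  · subst hpdef
    obtain ⟨a, ha⟩ := FiniteField.trace_to_zmod_nondegenerate E (one_ne_zero (α := E))
    rw [one_mul] at ha
    exact AddChar.ne_one_iff.2
      ⟨a, fun hf => ha ((hψ₀.zmod_char_eq_one_iff (ringChar E) _).mp hf)⟩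
  · intro x
    rw [← hpdef, ← AddChar.map_nsmul_eq_pow]
    have : p • x = 0 := by
      rw [nsmul_eq_mul, CharP.cast_eq_zero E p, zero_mul]
    rw [this, AddChar.map_zero_eq_one]

section Gauss

variable {E : Type*} [Field E] [Fintype E] {C : Type*} [Group C] (Φ : C →* MulChar E ℂ)
  (ψ : AddChar E ℂ)

/-- Minus the Gauss sum of the multiplicative character attached to a group element. -/
noncomputable def gaussDelta (c : C) : ℂ := - gaussSum (Φ c) ψ

variable {Φ ψ}

theorem gaussDelta_of_eq_one (hψ : ψ ≠ 1) {c : C} (h : Φ c = 1) : gaussDelta Φ ψ c = 1 := by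
  unfold gaussDelta
  rw [h, gaussSum_one_left hψ, neg_neg]

theorem gaussDelta_mul_conj (hψ : ψ.IsPrimitive) {c : C} (h : Φ c ≠ 1) :
    gaussDelta Φ ψ c * conj (gaussDelta Φ ψ c) = Fintype.card E := by
  unfold gaussDelta
  rw [map_neg, neg_mul_neg, starRingEnd_apply, star_gaussSum_eq, gaussSum_mul_gaussSum_eq_card h hψ]

theorem isIntegral_mulChar_apply (χ : MulChar E ℂ) (a : E) : IsIntegral ℤ (χ a) := by
  by_cases ha : IsUnit a
  · obtain ⟨u, rfl⟩ := ha
    have h1 : (χ (u : E)) ^ Nat.card Eˣ = 1 := by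
      rw [← map_pow, ← Units.val_pow_eq_pow_val, pow_card_eq_one', Units.val_one, map_one]
    exact IsIntegral.of_pow Nat.card_pos (by rw [h1]; exact isIntegral_one)
  · rw [MulChar.map_nonunit _ ha]
    exact isIntegral_zero

theorem gaussDelta_mem_linSpan {p : ℕ} (hψp : ∀ x, ψ x ^ p = 1) :
    gaussDelta Φ ψ ∈ linSpan p C := by
  have h : gaussDelta Φ ψ = - ∑ a : E, (⟨ψ a, mem_cycInt_of_pow (hψp a)⟩ : cycInt p) •
      (fun c => (Φ c) a) := by
    funext c
    simp only [gaussDelta, gaussSum, Pi.neg_apply, Finset.sum_apply, Pi.smul_apply,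
      Subring.smul_def, smul_eq_mul]
    congr 1
    exact Finset.sum_congr rfl fun a _ => mul_comm _ _
  rw [h]
  refine neg_mem (sum_mem fun a _ => Submodule.smul_mem _ _ ?_)
  by_cases ha : IsUnit a
  · let μ : C →* ℂˣ := (MonoidHom.eval ha.unit).comp
      ((MulChar.mulEquivToUnitHom (R := E) (R' := ℂ)).toMonoidHom.comp Φ)
    have := hom_mem_linSpan (p := p) μ
    convert this using 1
    funext c
    simp [μ, MulChar.mulEquivToUnitHom]
  · have : (fun c => (Φ c) a) = 0 := by
      funext c
      exact MulChar.map_nonunit _ ha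
    rw [this]
    exact zero_mem _

theorem gaussDelta_mem_idealImage {p : ℕ} [Fact p.Prime] {𝔓 : Ideal AlgInt} (h𝔓 : 𝔓.IsPrime)
    (hp : ((p : ℕ) : AlgInt) ∈ 𝔓) (hψp : ∀ x, ψ x ^ p = 1) {c : C} (h : Φ c ≠ 1) :
    gaussDelta Φ ψ c ∈ idealImage 𝔓 := by
  have h0 : ∑ a, (Φ c) a = 0 := MulChar.sum_eq_zero_of_ne_one h
  have h1 : gaussDelta Φ ψ c = - ∑ a, (Φ c) a * (ψ a - 1) := by
    unfold gaussDelta gaussSum
    simp only [mul_sub, mul_one, Finset.sum_sub_distrib, h0, sub_zero]
  rw [h1]
  exact neg_mem (sum_mem fun a _ => mul_mem_idealImage (isIntegral_mulChar_apply _ _)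
    (sub_one_mem_idealImage_of_pow h𝔓 hp (hψp a)))

end Gauss

end Cfsg.Agent.Lib.Helper8
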