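import Mathlib
import Cfsg.Prelude.Def_Blocks
import Cfsg.Agent.Lib.Helper8.KV3
import Cfsg.Agent.Lib.Helper8.KV4
import Cfsg.Agent.Lib.Helper1.CharFound5

/-!
# The numbers `⟨χ_v, δ⟩`: integrality, nonvanishing, sum of squares
-/

set_option autoImplicit false

namespace Cfsg.Agent.Lib.Helper8

open Cfsg
open scoped ComplexConjugate
open Cfsg.Agent.Lib.Helper1 Cfsg.Agent.Lib.Helper4

universe u

section

variable {X : Type u} [Group X] [Finite X]

theorem isIntegral_charValue {χ : X → ℂ} (hχ : IsCharacter X χ) (g : X) : IsIntegral ℤ (χ g) := by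
  obtain ⟨ι', _, m, c, hc, hpow⟩ := character_pow_eq_sum hχ g
  have h1 := hpow 1
  rw [pow_one] at h1
  rw [h1]
  refine IsIntegral.sum _ fun j _ => IsIntegral.mul ?_ ?_
  · exact isIntegral_algebraMap (R := ℤ) (x := (m j : ℤ)) |> fun h => by simpa using h
  · rw [pow_one]
    exact IsIntegral.of_pow (orderOf_pos g) (by rw [hc j]; exact isIntegral_one)

variable {p : ℕ} [Fact p.Prime]

/-- The inner product of `c ↦ χ (v * c)` with a combination of linear characters is a cyclotomic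
integer. -/
theorem functional_mem_cycInt {χ : X → ℂ} (hχ : IsCharacter X χ) (C : Subgroup X) [Fintype C]
    {v : X} (hvp : v ^ p = 1) (hvC : ∀ c ∈ C, v * c = c * v)
    (hCab : ∀ a ∈ C, ∀ b ∈ C, a * b = b * a) {f : C → ℂ} (hf : f ∈ linSpan p C) :
    (Nat.card C : ℂ)⁻¹ * ∑ c : C, χ (v * c) * f c ∈ cycInt p := by
  classical
  obtain ⟨A, hAdef⟩ : ∃ A : Subgroup X, A = Subgroup.closure (insert v (C : Set X)) := ⟨_, rfl⟩
  have hvA : v ∈ A := hAdef ▸ Subgroup.subset_closure (Set.mem_insert _ _)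
  have hCA : ∀ c ∈ C, c ∈ A := fun c hc =>
    hAdef ▸ Subgroup.subset_closure (Set.mem_insert_of_mem _ hc)
  have hAcomm : ∀ a ∈ A, ∀ b ∈ A, a * b = b * a := by
    have hk : ∀ x ∈ insert v (C : Set X), ∀ y ∈ insert v (C : Set X), x * y = y * x := by
      rintro x (rfl | hx) y (rfl | hy)
      · rfl
      · exact hvC y hy
      · exact (hvC x hx).symm
      · exact hCab x hx y hy
    have := Subgroup.isMulCommutative_closure hk
    intro a ha b hb
    rw [hAdef] at ha hb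
    exact congrArg Subtype.val ((IsMulCommutative.is_comm
      (M := Subgroup.closure (insert v (C : Set X)))).comm ⟨a, ha⟩ ⟨b, hb⟩)
  obtain ⟨ι', _, m, lam, hlam⟩ := exists_linear_decomp hχ A hAcomm
  let lamC : ι' → (C →* ℂˣ) := fun j =>
    (lam j).comp (Subgroup.inclusion (fun c hc => hCA c hc))
  have hval : ∀ c : C, χ (v * c) =
      ∑ j, (m j : ℂ) * ((lam j ⟨v, hvA⟩ : ℂˣ) : ℂ) * ((lamC j c : ℂˣ) : ℂ) := by
    intro c
    have h := hlam ⟨v * c, A.mul_mem hvA (hCA c c.2)⟩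
    rw [h]
    refine Finset.sum_congr rfl fun j _ => ?_
    have h2 : (⟨v * c, A.mul_mem hvA (hCA c c.2)⟩ : A) = ⟨v, hvA⟩ * ⟨c, hCA c c.2⟩ := rfl
    rw [h2, map_mul, Units.val_mul, mul_assoc]
    rfl
  have hroot : ∀ j, ((lam j ⟨v, hvA⟩ : ℂˣ) : ℂ) ^ p = 1 := by
    intro j
    rw [← Units.val_pow_eq_pow_val, ← map_pow]
    have h2 : (⟨v, hvA⟩ : A) ^ p = 1 := Subtype.ext (by simpa using hvp)
    rw [h2, map_one, Units.val_one]
  induction hf using Submodule.span_induction with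
  | mem f hf =>
    obtain ⟨μ, rfl⟩ := hf
    have h1 : ∑ c : C, χ (v * c) * ((μ c : ℂˣ) : ℂ) =
        ∑ j, (m j : ℂ) * ((lam j ⟨v, hvA⟩ : ℂˣ) : ℂ) *
          ∑ c : C, (((lamC j * μ) c : ℂˣ) : ℂ) := by
      simp only [hval, Finset.sum_mul, Finset.mul_sum]
      rw [Finset.sum_comm]
      refine Finset.sum_congr rfl fun j _ => Finset.sum_congr rfl fun c _ => ?_
      rw [MonoidHom.mul_apply, Units.val_mul]
      ring
    rw [h1, Finset.mul_sum]
    refine sum_mem fun j _ => ?_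
    have h2 := sum_hom_units ((Units.coeHom ℂ).comp (lamC j * μ))
    have h3 : ∑ c : C, (((lamC j * μ) c : ℂˣ) : ℂ) =
        ∑ c : C, ((Units.coeHom ℂ).comp (lamC j * μ)) c := rfl
    rw [h3, h2]
    have hmem : (m j : ℂ) * ((lam j ⟨v, hvA⟩ : ℂˣ) : ℂ) ∈ cycInt p :=
      mul_mem (natCast_mem _ _) (mem_cycInt_of_pow (hroot j))
    split_ifs with h
    · have hC0 : (Fintype.card C : ℂ) ≠ 0 := Nat.cast_ne_zero.2 Fintype.card_pos.ne'
      rw [Nat.card_eq_fintype_card]
      have : (Fintype.card C : ℂ)⁻¹ * ((m j : ℂ) * ((lam j ⟨v, hvA⟩ : ℂˣ) : ℂ) *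
          (Fintype.card C : ℂ)) = (m j : ℂ) * ((lam j ⟨v, hvA⟩ : ℂˣ) : ℂ) := by
        field_simp
      rw [this]
      exact hmem
    · rw [Nat.cast_zero, mul_zero, mul_zero]
      exact zero_mem _
  | zero =>
    simp only [Pi.zero_apply, mul_zero, Finset.sum_const_zero]
    exact zero_mem _
  | add x y _ _ hx hy =>
    simp only [Pi.add_apply, mul_add, Finset.sum_add_distrib]
    exact add_mem hx hy
  | smul a x _ hx =>
    have h1 : (Nat.card C : ℂ)⁻¹ * ∑ c : C, χ (v * c) * (a • x) c =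
        (a : ℂ) * ((Nat.card C : ℂ)⁻¹ * ∑ c : C, χ (v * c) * x c) := by
      simp only [Pi.smul_apply, Subring.smul_def, smul_eq_mul, Finset.mul_sum]
      refine Finset.sum_congr rfl fun c _ => ?_
      ring
    rw [h1]
    exact mul_mem a.2 hx

/-- The congruence `∑ χ (v * c) * δ c ≡ χ 1`. -/
theorem sum_sub_degree_mem_idealImage {𝔓 : Ideal AlgInt} (h𝔓 : 𝔓.IsPrime)
    (hp : ((p : ℕ) : AlgInt) ∈ 𝔓) {χ : X → ℂ} (hχ : IsCharacter X χ) (C : Subgroup X)
    [Fintype C] {v : X} (hvp : v ^ p = 1) (δ : C → ℂ) (h1 : δ 1 - 1 ∈ idealImage 𝔓)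
    (h2 : ∀ c : C, c ≠ 1 → δ c ∈ idealImage 𝔓) {d : ℕ} (hd : χ 1 = d) :
    (∑ c : C, χ (v * c) * δ c) - d ∈ idealImage 𝔓 := by
  classical
  have hχv : χ v - d ∈ idealImage 𝔓 := by
    obtain ⟨ι', _, m, cc, hc, hpow⟩ := character_pow_eq_sum hχ v
    have e1 := hpow 1
    have e0 := hpow 0
    simp only [pow_one, pow_zero, mul_one] at e1 e0
    have hccp : ∀ j, cc j ^ p = 1 := by
      intro j
      obtain ⟨t, ht⟩ := orderOf_dvd_of_pow_eq_one hvp
      rw [ht, pow_mul, hc j, one_pow]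
    have : χ v - d = ∑ j, (m j : ℂ) * (cc j - 1) := by
      rw [← hd, e0, e1, ← Finset.sum_sub_distrib]
      refine Finset.sum_congr rfl fun j _ => ?_
      ring
    rw [this]
    refine sum_mem fun j _ => mul_mem_idealImage ?_ (sub_one_mem_idealImage_of_pow h𝔓 hp (hccp j))
    exact isIntegral_algebraMap (R := ℤ) (x := (m j : ℤ)) |> fun h => by simpa using h
  have hsplit : (∑ c : C, χ (v * c) * δ c) - d =
      ∑ c : C, (χ (v * c) * δ c - if c = 1 then (d : ℂ) else 0) := by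
    rw [Finset.sum_sub_distrib, Finset.sum_ite_eq' Finset.univ (1 : C)]
    simp
  rw [hsplit]
  refine sum_mem fun c _ => ?_
  split_ifs with hc
  · subst hc
    have : χ (v * ((1 : C) : X)) * δ 1 - d = χ v * (δ 1 - 1) + (χ v - d) := by
      rw [Subgroup.coe_one, mul_one]
      ring
    rw [this]
    exact add_mem (mul_mem_idealImage (isIntegral_charValue hχ v) h1) hχv
  · rw [sub_zero]
    exact mul_mem_idealImage (isIntegral_charValue hχ _) (h2 c hc)

/-- The sum of the squares of the numbers `⟨χ_v, δ⟩`. -/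
theorem sum_mul_conj_eq [Fintype (IrrCharacter X)] (C : Subgroup X) [Fintype C] (v : X)
    (δ : C → ℂ) (N : ℕ)
    (hconj : ∀ c c' : C, IsConj (v * (c : X)) (v * (c' : X)) → c = c')
    (hcard : ∀ c : C, δ c * conj (δ c) *
      (Nat.card (Subgroup.centralizer ({v * (c : X)} : Set X)) : ℂ) = (Nat.card C : ℂ) * N) :
    ∑ χ : IrrCharacter X, ((Nat.card C : ℂ)⁻¹ * ∑ c : C, (χ : X → ℂ) (v * c) * δ c) *
      conj ((Nat.card C : ℂ)⁻¹ * ∑ c : C, (χ : X → ℂ) (v * c) * δ c) = N := by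
  classical
  haveI : Fintype X := Fintype.ofFinite X
  have hC0 : (Nat.card C : ℂ) ≠ 0 := Nat.cast_ne_zero.2 Nat.card_pos.ne'
  have key : ∑ χ : IrrCharacter X, (∑ c : C, (χ : X → ℂ) (v * c) * δ c) *
      conj (∑ c : C, (χ : X → ℂ) (v * c) * δ c) = (Nat.card C : ℂ) * ((Nat.card C : ℂ) * N) := by
    have h1 : ∀ χ : IrrCharacter X, (∑ c : C, (χ : X → ℂ) (v * c) * δ c) *
        conj (∑ c : C, (χ : X → ℂ) (v * c) * δ c) =
        ∑ c : C, ∑ c' : C, (δ c * conj (δ c')) *
          ((χ : X → ℂ) (v * c) * conj ((χ : X → ℂ) (v * c'))) := by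
      intro χ
      rw [map_sum, Finset.sum_mul_sum]
      refine Finset.sum_congr rfl fun c _ => Finset.sum_congr rfl fun c' _ => ?_
      rw [map_mul]
      ring
    simp only [h1]
    rw [Finset.sum_comm]
    have h2 : ∀ c : C, ∑ χ : IrrCharacter X, ∑ c' : C, (δ c * conj (δ c')) *
        ((χ : X → ℂ) (v * c) * conj ((χ : X → ℂ) (v * c'))) = (Nat.card C : ℂ) * N := by
      intro c
      rw [Finset.sum_comm]
      have h3 : ∀ c' : C, ∑ χ : IrrCharacter X, (δ c * conj (δ c')) *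
          ((χ : X → ℂ) (v * c) * conj ((χ : X → ℂ) (v * c'))) =
          if c' = c then (Nat.card C : ℂ) * N else 0 := by
        intro c'
        rw [← Finset.mul_sum, column_orthogonality]
        unfold classIndicator
        split_ifs with h4 h5 h5
        · subst h5
          rw [mul_one]
          exact hcard c'
        · exact absurd (hconj c' c h4) h5
        · subst h5
          exact absurd (IsConj.refl _) h4
        · rw [mul_zero, mul_zero]
      simp only [h3]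
      rw [Finset.sum_ite_eq' Finset.univ c]
      simp
    simp only [h2]
    rw [Finset.sum_const, Finset.card_univ, nsmul_eq_mul, ← Nat.card_eq_fintype_card]
  have h5 : ∀ χ : IrrCharacter X, ((Nat.card C : ℂ)⁻¹ * ∑ c : C, (χ : X → ℂ) (v * c) * δ c) *
      conj ((Nat.card C : ℂ)⁻¹ * ∑ c : C, (χ : X → ℂ) (v * c) * δ c) =
      ((Nat.card C : ℂ)⁻¹ * (Nat.card C : ℂ)⁻¹) * ((∑ c : C, (χ : X → ℂ) (v * c) * δ c) *
      conj (∑ c : C, (χ : X → ℂ) (v * c) * δ c)) := by
    intro χ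
    rw [map_mul, map_inv₀, Complex.conj_natCast]
    ring
  simp only [h5]
  rw [← Finset.mul_sum, key]
  field_simp

end

end Cfsg.Agent.Lib.Helper8
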