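import Mathlib
import Cfsg.Agent.Lib.Helper8.KV4

/-!
# The Gauss sum function attached to a homomorphism into the units of a finite field
-/

set_option autoImplicit false

namespace Cfsg.Agent.Lib.Helper8

open scoped ComplexConjugate

/-- For a homomorphism `θ` from a group to the units of a finite field of characteristic `p`
there is a combination `δ` of linear characters with `δ c = 1` when `θ c = 1`, and otherwise
`|δ c| ^ 2` the order of the field and `δ c` congruent to zero. -/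
theorem exists_gauss_function {p : ℕ} [Fact p.Prime] {𝔓 : Ideal AlgInt} (h𝔓 : 𝔓.IsPrime)
    (hp : ((p : ℕ) : AlgInt) ∈ 𝔓) (E : Type*) [Field E] [Finite E] [CharP E p]
    {C : Type*} [Group C] (θ : C →* Eˣ) :
    ∃ δ : C → ℂ, δ ∈ linSpan p C ∧ (∀ c, θ c = 1 → δ c = 1) ∧
      ∀ c, θ c ≠ 1 → δ c * conj (δ c) = (Nat.card E : ℂ) ∧ δ c ∈ idealImage 𝔓 := by
  classical
  haveI : Fintype E := Fintype.ofFinite E
  obtain ⟨ψ, hψ, hψp⟩ := exists_primitive_addChar E
  rw [ringChar.eq E p] at hψp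
  haveI : NeZero (Monoid.exponent Eˣ) := ⟨Monoid.exponent_ne_zero_of_finite⟩
  obtain ⟨j⟩ := MulChar.mulEquiv_units E ℂ
  let Φ : C →* MulChar E ℂ := j.symm.toMonoidHom.comp θ
  have hΦ : ∀ c, Φ c = 1 ↔ θ c = 1 := by
    intro c
    show j.symm (θ c) = 1 ↔ θ c = 1
    rw [MulEquiv.map_eq_one_iff]
  have hψ1 : ψ ≠ 1 := by
    intro h1
    have := hψ (a := 1) one_ne_zero
    apply this
    rw [h1]
    ext x
    simp
  refine ⟨gaussDelta Φ ψ, gaussDelta_mem_linSpan hψp, ?_, ?_⟩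
  · intro c hc
    exact gaussDelta_of_eq_one hψ1 ((hΦ c).2 hc)
  · intro c hc
    have hc' : Φ c ≠ 1 := fun h => hc ((hΦ c).1 h)
    refine ⟨?_, gaussDelta_mem_idealImage h𝔓 hp hψp hc'⟩
    rw [gaussDelta_mul_conj hψ hc', Nat.card_eq_fintype_card]

end Cfsg.Agent.Lib.Helper8
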