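import Mathlib

/-!
# Irreducible representations of abelian groups: the field generated by the group
-/

set_option autoImplicit false

namespace Cfsg.Agent.Lib.Helper8

open MonoidAlgebra

section

variable {F : Type*} [Field F] {H : Type*} [CommGroup H] {V : Type*} [AddCommGroup V] [Module F V]
  (ρ : Representation F H V)

/-- The group algebra modulo the annihilator of the module. -/
abbrev RepQuot := MonoidAlgebra F H ⧸ RingHom.ker ρ.asAlgebraHom

/-- The action of `RepQuot` on the module. -/
noncomputable abbrev repEmb : RepQuot ρ →ₐ[F] Module.End F V := Ideal.kerLiftAlg ρ.asAlgebraHom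

/-- The image of a group element in `RepQuot`. -/
noncomputable def repChar : H →* RepQuot ρ :=
  ((Ideal.Quotient.mk (RingHom.ker ρ.asAlgebraHom) : MonoidAlgebra F H →+* RepQuot ρ) :
    MonoidAlgebra F H →* RepQuot ρ).comp (MonoidAlgebra.of F H)

variable {ρ}

theorem repEmb_injective : Function.Injective (repEmb ρ) := Ideal.kerLiftAlg_injective _

theorem repChar_apply (h : H) :
    repChar ρ h = Ideal.Quotient.mk (RingHom.ker ρ.asAlgebraHom) (MonoidAlgebra.of F H h) := rfl

theorem repEmb_repChar (h : H) : repEmb ρ (repChar ρ h) = ρ h := by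
  rw [repChar_apply]
  show Ideal.kerLiftAlg ρ.asAlgebraHom (Ideal.Quotient.mk _ _) = _
  rw [Ideal.kerLiftAlg_mk, Representation.asAlgebraHom_of]

theorem repChar_injective (hfaith : Function.Injective ρ) : Function.Injective (repChar ρ) := by
  intro a b hab
  apply hfaith
  rw [← repEmb_repChar, ← repEmb_repChar, hab]

theorem repEmb_comm (a : RepQuot ρ) (h : H) : repEmb ρ a * ρ h = ρ h * repEmb ρ a := by
  rw [← repEmb_repChar, ← map_mul, ← map_mul, mul_comm]

theorem repEmb_apply_comm (a : RepQuot ρ) (h : H) (x : V) :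
    repEmb ρ a (ρ h x) = ρ h (repEmb ρ a x) := by
  have := congrArg (fun f : Module.End F V => f x) (repEmb_comm a h)
  simpa using this

/-- Two algebra homomorphisms out of `RepQuot` agreeing on the group elements are equal. -/
theorem repQuot_algHom_ext {A : Type*} [Semiring A] [Algebra F A] {f g : RepQuot ρ →ₐ[F] A}
    (h : ∀ x : H, f (repChar ρ x) = g (repChar ρ x)) : f = g := by
  apply Ideal.Quotient.algHom_ext
  apply MonoidAlgebra.algHom_ext
  · intro x
    exact h x
  · exact Subsingleton.elim _ _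

variable (hirr : ∀ U : Submodule F V, (∀ h : H, ∀ u ∈ U, ρ h u ∈ U) → U = ⊥ ∨ U = ⊤)

include hirr

theorem range_repEmb_eq_top {a : RepQuot ρ} (ha : a ≠ 0) : LinearMap.range (repEmb ρ a) = ⊤ := by
  have hne : repEmb ρ a ≠ 0 := fun h => ha (repEmb_injective (by rw [h, map_zero]))
  rcases hirr (LinearMap.range (repEmb ρ a)) (by
    rintro h u ⟨x, rfl⟩
    exact ⟨ρ h x, repEmb_apply_comm a h x⟩) with h | h
  · exact absurd (LinearMap.range_eq_bot.mp h) hne
  · exact h

theorem ker_repEmb_eq_bot {a : RepQuot ρ} (ha : a ≠ 0) : LinearMap.ker (repEmb ρ a) = ⊥ := by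
  have hne : repEmb ρ a ≠ 0 := fun h => ha (repEmb_injective (by rw [h, map_zero]))
  rcases hirr (LinearMap.ker (repEmb ρ a)) (by
    intro h u hu
    rw [LinearMap.mem_ker] at hu ⊢
    rw [repEmb_apply_comm, hu, map_zero]) with h | h
  · exact h
  · exact absurd (LinearMap.ker_eq_top.mp h) hne

theorem repQuot_noZeroDivisors : NoZeroDivisors (RepQuot ρ) := by
  refine ⟨fun {a b} hab => ?_⟩
  by_contra hcon
  push Not at hcon
  have h1 := range_repEmb_eq_top hirr hcon.2
  have h2 : repEmb ρ a = 0 := by
    apply LinearMap.ext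
    intro x
    have hx : x ∈ LinearMap.range (repEmb ρ b) := by rw [h1]; trivial
    obtain ⟨y, rfl⟩ := hx
    have := congrArg (fun f : Module.End F V => f y) (congrArg (repEmb ρ) hab)
    simpa using this
  exact hcon.1 (repEmb_injective (by rw [h2, map_zero]))

omit hirr in
theorem repQuot_nontrivial [Nontrivial V] : Nontrivial (RepQuot ρ) := by
  refine ⟨⟨1, 0, ?_⟩⟩
  intro h
  obtain ⟨v, hv⟩ := exists_ne (0 : V)
  have := congrArg (fun a => repEmb ρ a v) h
  simp at this
  exact hv this

/-- Evaluation at a vector. -/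
noncomputable def repEval (v : V) : RepQuot ρ →ₗ[F] V :=
  (LinearMap.applyₗ v).comp (repEmb ρ).toLinearMap

omit hirr in
theorem repEval_apply (v : V) (a : RepQuot ρ) : repEval (ρ := ρ) v a = repEmb ρ a v := rfl

theorem repEval_bijective {v : V} (hv : v ≠ 0) : Function.Bijective (repEval (ρ := ρ) v) := by
  constructor
  · rw [← LinearMap.ker_eq_bot, eq_bot_iff]
    intro a ha
    rw [LinearMap.mem_ker, repEval_apply] at ha
    rw [Submodule.mem_bot]
    by_contra hne
    have h1 := ker_repEmb_eq_bot hirr hne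
    have h2 : v ∈ LinearMap.ker (repEmb ρ a) := ha
    rw [h1, Submodule.mem_bot] at h2
    exact hv h2
  · rw [← LinearMap.range_eq_top]
    rcases hirr (LinearMap.range (repEval (ρ := ρ) v)) (by
      rintro h u ⟨a, rfl⟩
      refine ⟨repChar ρ h * a, ?_⟩
      rw [repEval_apply, repEval_apply, map_mul, repEmb_repChar]
      rfl) with h | h
    · exfalso
      have h1 : v ∈ LinearMap.range (repEval (ρ := ρ) v) := ⟨1, by rw [repEval_apply, map_one]; rfl⟩
      rw [h, Submodule.mem_bot] at h1
      exact hv h1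
    · exact h

/-- The module is a copy of `RepQuot`. -/
noncomputable def repEquiv {v : V} (hv : v ≠ 0) : RepQuot ρ ≃ₗ[F] V :=
  LinearEquiv.ofBijective (repEval v) (repEval_bijective hirr hv)

theorem repEquiv_apply {v : V} (hv : v ≠ 0) (a : RepQuot ρ) :
    repEquiv hirr hv a = repEmb ρ a v := rfl

theorem repEquiv_mul {v : V} (hv : v ≠ 0) (h : H) (a : RepQuot ρ) :
    repEquiv hirr hv (repChar ρ h * a) = ρ h (repEquiv hirr hv a) := by
  rw [repEquiv_apply, repEquiv_apply, map_mul, repEmb_repChar]
  rfl

theorem repEquiv_symm_apply {v : V} (hv : v ≠ 0) (h : H) (x : V) :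
    (repEquiv hirr hv).symm (ρ h x) = repChar ρ h * (repEquiv hirr hv).symm x := by
  apply (repEquiv hirr hv).injective
  rw [LinearEquiv.apply_symm_apply, repEquiv_mul, LinearEquiv.apply_symm_apply]

end

end Cfsg.Agent.Lib.Helper8
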