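import Mathlib
import Cfsg.Agent.Lib.Helper8.SD1

/-!
# Self-dual irreducible representations of abelian groups over finite fields: the Frobenius exponent
-/

set_option autoImplicit false

namespace Cfsg.Agent.Lib.Helper8

open MonoidAlgebra

section

variable {F : Type*} [Field F] {H : Type*} [CommGroup H] {V : Type*} [AddCommGroup V] [Module F V]
  {ρ : Representation F H V}

/-- The automorphism of the group algebra inverting the group elements. -/
noncomputable def invAlg (F : Type*) [Field F] (H : Type*) [CommGroup H] :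
    MonoidAlgebra F H →ₐ[F] MonoidAlgebra F H :=
  MonoidAlgebra.mapDomainAlgHom F F (invMonoidHom : H →* H)

theorem invAlg_of (h : H) : invAlg F H (MonoidAlgebra.of F H h) = MonoidAlgebra.of F H h⁻¹ := by
  unfold invAlg
  rw [MonoidAlgebra.of_apply, MonoidAlgebra.of_apply, MonoidAlgebra.mapDomainAlgHom_apply,
    MonoidAlgebra.mapDomain_single]
  rfl

/-- An invariant form turns the action of the group algebra into the action twisted by
inversion. -/
theorem form_adjoint (B : LinearMap.BilinForm F V)
    (hBinv : ∀ (h : H) (x y : V), B (ρ h x) (ρ h y) = B x y) (a : MonoidAlgebra F H) (x y : V) :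
    B (ρ.asAlgebraHom a x) y = B x (ρ.asAlgebraHom (invAlg F H a) y) := by
  induction a using MonoidAlgebra.induction_on with
  | of h =>
    rw [invAlg_of, Representation.asAlgebraHom_of, Representation.asAlgebraHom_of]
    have h1 := hBinv h x (ρ h⁻¹ y)
    rw [← h1]
    congr 1
    have : ρ h (ρ h⁻¹ y) = (ρ h * ρ h⁻¹) y := rfl
    rw [this, ← map_mul, mul_inv_cancel, map_one]
    rfl
  | add a b ha hb =>
    simp only [map_add, LinearMap.add_apply, ha, hb]
  | smul r a ha =>
    simp only [map_smul, LinearMap.smul_apply, ha, smul_eq_mul]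

theorem invAlg_mem_ker (B : LinearMap.BilinForm F V) (hB : B.Nondegenerate)
    (hBinv : ∀ (h : H) (x y : V), B (ρ h x) (ρ h y) = B x y) {a : MonoidAlgebra F H}
    (ha : a ∈ RingHom.ker ρ.asAlgebraHom) : invAlg F H a ∈ RingHom.ker ρ.asAlgebraHom := by
  rw [RingHom.mem_ker] at ha ⊢
  apply LinearMap.ext
  intro y
  apply hB.2
  intro x
  rw [← form_adjoint B hBinv, ha]
  simp

/-- The automorphism of `RepQuot` induced by an invariant nondegenerate form. -/
noncomputable def dualHom (B : LinearMap.BilinForm F V) (hB : B.Nondegenerate)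
    (hBinv : ∀ (h : H) (x y : V), B (ρ h x) (ρ h y) = B x y) : RepQuot ρ →ₐ[F] RepQuot ρ :=
  Ideal.quotientMapₐ (RingHom.ker ρ.asAlgebraHom) (invAlg F H)
    (fun _ ha => Ideal.mem_comap.mpr (invAlg_mem_ker B hB hBinv ha))

theorem dualHom_repChar (B : LinearMap.BilinForm F V) (hB : B.Nondegenerate)
    (hBinv : ∀ (h : H) (x y : V), B (ρ h x) (ρ h y) = B x y) (h : H) :
    dualHom B hB hBinv (repChar ρ h) = repChar ρ h⁻¹ := by
  rw [repChar_apply, repChar_apply]
  unfold dualHom
  rw [Ideal.quotient_map_mkₐ, invAlg_of]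
  rfl

end

section

variable {F : Type*} [Field F] [Fintype F] {H : Type*} [CommGroup H] {V : Type*} [AddCommGroup V]
  [Module F V] [FiniteDimensional F V] [Nontrivial V] {ρ : Representation F H V}
  (hirr : ∀ U : Submodule F V, (∀ h : H, ∀ u ∈ U, ρ h u ∈ U) → U = ⊥ ∨ U = ⊤)

include hirr

theorem repQuot_module_finite : Module.Finite F (RepQuot ρ) := by
  obtain ⟨v, hv⟩ := exists_ne (0 : V)
  exact Module.Finite.equiv (repEquiv hirr hv).symm

theorem finrank_repQuot : Module.finrank F (RepQuot ρ) = Module.finrank F V := by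
  obtain ⟨v, hv⟩ := exists_ne (0 : V)
  exact LinearEquiv.finrank_eq (repEquiv hirr hv)

theorem repQuot_finite : Finite (RepQuot ρ) := by
  haveI := repQuot_module_finite hirr
  exact Module.finite_of_finite F

theorem repQuot_isMaximal : (RingHom.ker ρ.asAlgebraHom).IsMaximal := by
  haveI := repQuot_noZeroDivisors hirr
  haveI : Nontrivial (RepQuot ρ) := repQuot_nontrivial
  haveI : IsDomain (RepQuot ρ) := NoZeroDivisors.to_isDomain _
  haveI := repQuot_finite hirr
  exact Ideal.Quotient.maximal_of_isField _ (Finite.isField_of_domain _)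

/-- A self-dual faithful irreducible module: the group has exponent dividing `q ^ j + 1` for some
`j` less than the dimension. -/
theorem exists_frob_exponent (hfaith : Function.Injective ρ) (B : LinearMap.BilinForm F V)
    (hB : B.Nondegenerate) (hBinv : ∀ (h : H) (x y : V), B (ρ h x) (ρ h y) = B x y) :
    ∃ j, j < Module.finrank F V ∧ ∀ h : H, h ^ (Fintype.card F ^ j + 1) = 1 := by
  haveI hmax := repQuot_isMaximal hirr
  letI := Ideal.Quotient.field (RingHom.ker ρ.asAlgebraHom)
  haveI := repQuot_finite hirr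
  obtain ⟨j, hj⟩ := (FiniteField.bijective_frobeniusAlgHom_pow F (RepQuot ρ)).2 (dualHom B hB hBinv)
  refine ⟨j.1, ?_, ?_⟩
  · exact lt_of_lt_of_eq j.2 (finrank_repQuot hirr)
  · intro h
    apply repChar_injective hfaith
    have h1 := congrArg (fun f : RepQuot ρ →ₐ[F] RepQuot ρ => f (repChar ρ h)) hj
    simp only [AlgHom.coe_pow, FiniteField.coe_frobeniusAlgHom, pow_iterate, dualHom_repChar] at h1
    rw [map_pow, pow_succ, h1, ← map_mul, inv_mul_cancel]

end

end Cfsg.Agent.Lib.Helper8
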