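import Mathlib
import Cfsg.Agent.Lib.Helper8.KV5
import Cfsg.Agent.Lib.Helper8.SD2

/-!
# The Gauss sum function of a minimal invariant subspace
-/

set_option autoImplicit false

namespace Cfsg.Agent.Lib.Helper8

open scoped ComplexConjugate

section

variable {p : ℕ} [Fact p.Prime] {C : Type*} [CommGroup C] {M : Type*} [AddCommGroup M]
  [Module (ZMod p) M] (ρ : Representation (ZMod p) C M)

/-- The fixed points of `c` in the submodule `U`. -/
def fixIn (U : Submodule (ZMod p) M) (c : C) : Submodule (ZMod p) M :=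
  U ⊓ LinearMap.ker (ρ c - 1)

variable {ρ}

theorem mem_fixIn {U : Submodule (ZMod p) M} {c : C} {x : M} :
    x ∈ fixIn ρ U c ↔ x ∈ U ∧ ρ c x = x := by
  unfold fixIn
  rw [Submodule.mem_inf, LinearMap.mem_ker, LinearMap.sub_apply, Module.End.one_apply,
    sub_eq_zero]

variable (ρ)

/-- The properties of the function `δ` attached to an invariant subspace `U`. -/
def GoodDelta (𝔓 : Ideal AlgInt) (U : Submodule (ZMod p) M) (δ : C → ℂ) : Prop :=
  δ ∈ linSpan p C ∧
  (∀ c, δ c * conj (δ c) * (p : ℂ) ^ Module.finrank (ZMod p) (fixIn ρ U c)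
    = (p : ℂ) ^ Module.finrank (ZMod p) U) ∧
  (∀ c, (∀ u ∈ U, ρ c u = u) → δ c - 1 ∈ idealImage 𝔓) ∧
  (∀ c, (¬ ∀ u ∈ U, ρ c u = u) → δ c ∈ idealImage 𝔓)

variable {ρ}

theorem exists_goodDelta_of_minimal [Finite M] {𝔓 : Ideal AlgInt} (h𝔓 : 𝔓.IsPrime)
    (hp : ((p : ℕ) : AlgInt) ∈ 𝔓) (W : Subrepresentation ρ) (hW : W ≠ ⊥)
    (hmin : ∀ Y : Subrepresentation ρ, Y ≤ W → Y = ⊥ ∨ Y = W) :
    ∃ δ, GoodDelta ρ 𝔓 W.toSubmodule δ := by
  classical
  haveI : NeZero p := ⟨(Fact.out : p.Prime).ne_zero⟩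
  obtain ⟨ρW, hρW⟩ : ∃ ρW : Representation (ZMod p) C W.toSubmodule, ρW = W.toRepresentation :=
    ⟨_, rfl⟩
  have hρW_apply : ∀ (c : C) (u : W.toSubmodule), ((ρW c u : W.toSubmodule) : M) = ρ c u := by
    intro c u
    rw [hρW]
    rfl
  have hirr : ∀ Y : Submodule (ZMod p) W.toSubmodule, (∀ h : C, ∀ u ∈ Y, ρW h u ∈ Y) →
      Y = ⊥ ∨ Y = ⊤ := by
    intro Y hY
    let Y' : Subrepresentation ρ := ⟨Y.map W.toSubmodule.subtype, by
      rintro g _ ⟨y, hy, rfl⟩
      exact ⟨ρW g y, hY g y hy, hρW_apply g y⟩⟩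
    have hle : Y' ≤ W := by
      intro x hx
      obtain ⟨y, _, rfl⟩ := hx
      exact y.2
    have hinj := Submodule.map_injective_of_injective (W.toSubmodule.injective_subtype)
    rcases hmin Y' hle with h | h
    · left
      have h1 : Y.map W.toSubmodule.subtype = ⊥ := congrArg Subrepresentation.toSubmodule h
      apply hinj
      rw [h1, Submodule.map_bot]
    · right
      have h1 : Y.map W.toSubmodule.subtype = W.toSubmodule :=
        congrArg Subrepresentation.toSubmodule h
      apply hinj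
      rw [h1, Submodule.map_subtype_top]
  have hWne : W.toSubmodule ≠ ⊥ := by
    intro h
    apply hW
    apply Subrepresentation.toSubmodule_injective
    rw [h]
    rfl
  haveI : Nontrivial W.toSubmodule := (Submodule.nontrivial_iff_ne_bot).2 hWne
  haveI hmax := repQuot_isMaximal hirr
  letI := Ideal.Quotient.field (RingHom.ker ρW.asAlgebraHom)
  haveI := repQuot_finite hirr
  haveI : CharP (RepQuot ρW) p :=
    charP_of_injective_algebraMap (algebraMap (ZMod p) (RepQuot ρW)).injective p
  obtain ⟨δ, hδ1, hδ2, hδ3⟩ := exists_gauss_function h𝔓 hp (RepQuot ρW) (repChar ρW).toHomUnits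
  -- the equivalences
  have hθ : ∀ c : C, (repChar ρW).toHomUnits c = 1 ↔ repChar ρW c = 1 := by
    intro c
    rw [Units.ext_iff, MonoidHom.coe_toHomUnits, Units.val_one]
  have hfix_iff : ∀ c : C, repChar ρW c = 1 ↔ ∀ u ∈ W.toSubmodule, ρ c u = u := by
    intro c
    constructor
    · intro h u hu
      have h1 : ρW c = 1 := by rw [← repEmb_repChar, h, map_one]
      have h2 := congrArg (fun f : Module.End (ZMod p) W.toSubmodule => ((f ⟨u, hu⟩ :
        W.toSubmodule) : M)) h1
      simp only [hρW_apply, Module.End.one_apply] at h2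
      exact h2
    · intro h
      apply repEmb_injective (ρ := ρW)
      rw [repEmb_repChar, map_one]
      apply LinearMap.ext
      intro u
      apply Subtype.ext
      rw [hρW_apply, Module.End.one_apply]
      exact h u u.2
  have hcard : (Nat.card (RepQuot ρW) : ℂ) = (p : ℂ) ^ Module.finrank (ZMod p) W.toSubmodule := by
    haveI : Fintype (RepQuot ρW) := Fintype.ofFinite _
    haveI := repQuot_module_finite hirr
    rw [Nat.card_eq_fintype_card, Module.card_eq_pow_finrank (K := ZMod p) (V := RepQuot ρW),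
      ZMod.card, finrank_repQuot hirr]
    push_cast
    rfl
  refine ⟨δ, hδ1, ?_, ?_, ?_⟩
  · intro c
    by_cases hc : repChar ρW c = 1
    · have h1 : fixIn ρ W.toSubmodule c = W.toSubmodule := by
        apply le_antisymm inf_le_left
        intro u hu
        exact mem_fixIn.2 ⟨hu, (hfix_iff c).1 hc u hu⟩
      rw [h1, hδ2 c ((hθ c).2 hc), map_one, one_mul, one_mul]
    · have h1 : fixIn ρ W.toSubmodule c = ⊥ := by
        rw [eq_bot_iff]
        intro x hx
        obtain ⟨hxW, hxc⟩ := mem_fixIn.1 hx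
        have ha : repChar ρW c - 1 ≠ 0 := sub_ne_zero.2 hc
        have hker := ker_repEmb_eq_bot hirr ha
        have h2 : (⟨x, hxW⟩ : W.toSubmodule) ∈ LinearMap.ker (repEmb ρW (repChar ρW c - 1)) := by
          rw [LinearMap.mem_ker, map_sub, map_one, repEmb_repChar, LinearMap.sub_apply,
            Module.End.one_apply, sub_eq_zero]
          apply Subtype.ext
          rw [hρW_apply]
          exact hxc
        rw [hker, Submodule.mem_bot] at h2
        rw [Submodule.mem_bot]
        exact congrArg Subtype.val h2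
      rw [h1, (hδ3 c (fun h => hc ((hθ c).1 h))).1, hcard, finrank_bot, pow_zero, mul_one]
  · intro c hc
    rw [hδ2 c ((hθ c).2 ((hfix_iff c).2 hc)), sub_self]
    exact zero_mem _
  · intro c hc
    exact (hδ3 c (fun h => hc ((hfix_iff c).1 ((hθ c).1 h)))).2

end

end Cfsg.Agent.Lib.Helper8
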