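import Mathlib
import Cfsg.Agent.Lib.Helper8.KV6

/-!
# The Gauss sum function of a coprime module for an abelian group
-/

set_option autoImplicit false

namespace Cfsg.Agent.Lib.Helper8

open scoped ComplexConjugate

section

variable {p : ℕ} [Fact p.Prime] {C : Type*} [CommGroup C] {M : Type*} [AddCommGroup M]
  [Module (ZMod p) M] {ρ : Representation (ZMod p) C M}

theorem fixIn_mono {U U' : Submodule (ZMod p) M} (h : U ≤ U') (c : C) :
    fixIn ρ U c ≤ fixIn ρ U' c := by
  intro x hx
  obtain ⟨h1, h2⟩ := mem_fixIn.1 hx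
  exact mem_fixIn.2 ⟨h h1, h2⟩

theorem fixIn_sup (W U' : Subrepresentation ρ) (hdisj : W.toSubmodule ⊓ U'.toSubmodule = ⊥)
    (c : C) : fixIn ρ (W.toSubmodule ⊔ U'.toSubmodule) c
      = fixIn ρ W.toSubmodule c ⊔ fixIn ρ U'.toSubmodule c := by
  apply le_antisymm
  · intro x hx
    obtain ⟨hx1, hx2⟩ := mem_fixIn.1 hx
    obtain ⟨w, hw, u, hu, rfl⟩ := Submodule.mem_sup.1 hx1
    rw [map_add] at hx2
    have hd1 : ρ c w - w ∈ W.toSubmodule :=
      sub_mem (W.apply_mem_toSubmodule c hw) hw
    have hd2 : ρ c w - w ∈ U'.toSubmodule := by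
      have : ρ c w - w = u - ρ c u := by
        have h := hx2
        rw [← sub_eq_zero] at h ⊢
        rw [← h]
        abel
      rw [this]
      exact sub_mem hu (U'.apply_mem_toSubmodule c hu)
    have hd : ρ c w - w ∈ W.toSubmodule ⊓ U'.toSubmodule := ⟨hd1, hd2⟩
    rw [hdisj, Submodule.mem_bot, sub_eq_zero] at hd
    have hu' : ρ c u = u := by
      rw [hd] at hx2
      exact add_left_cancel hx2
    exact Submodule.add_mem_sup (mem_fixIn.2 ⟨hw, hd⟩) (mem_fixIn.2 ⟨hu, hu'⟩)
  · exact sup_le (fixIn_mono le_sup_left c) (fixIn_mono le_sup_right c)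

theorem exists_goodDelta [Finite C] [Finite M] (hcop : ¬ p ∣ Nat.card C) {𝔓 : Ideal AlgInt}
    (h𝔓 : 𝔓.IsPrime) (hp : ((p : ℕ) : AlgInt) ∈ 𝔓) :
    ∀ (n : ℕ) (U : Subrepresentation ρ), Module.finrank (ZMod p) U.toSubmodule = n →
      ∃ δ, GoodDelta ρ 𝔓 U.toSubmodule δ := by
  classical
  haveI : NeZero p := ⟨(Fact.out : p.Prime).ne_zero⟩
  haveI : NeZero (Nat.card C : ZMod p) := ⟨by
    rw [Ne, ZMod.natCast_eq_zero_iff]
    exact hcop⟩
  intro n
  induction n using Nat.strong_induction_on with
  | _ n ih =>
    intro U hU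
    by_cases hbot : U = ⊥
    · subst hbot
      have hb : (⊥ : Subrepresentation ρ).toSubmodule = ⊥ := rfl
      refine ⟨fun _ => 1, one_mem_linSpan, ?_, ?_, ?_⟩
      · intro c
        have h1 : fixIn ρ (⊥ : Subrepresentation ρ).toSubmodule c = ⊥ := by
          rw [eq_bot_iff, hb]
          exact inf_le_left
        rw [h1, hb]
        simp
      · intro c _
        rw [sub_self]
        exact zero_mem _
      · intro c hc
        exfalso
        apply hc
        intro u hu
        rw [hb, Submodule.mem_bot] at hu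
        rw [hu, map_zero]
    · -- a minimal nonzero subrepresentation
      obtain ⟨W, ⟨hW0, hWU⟩, hWmin⟩ := WellFounded.has_min
        (InvImage.wf (fun W : Subrepresentation ρ => Module.finrank (ZMod p) W.toSubmodule)
          Nat.lt_wfRel.wf) {W : Subrepresentation ρ | W ≠ ⊥ ∧ W ≤ U} ⟨U, hbot, le_rfl⟩
      have hmin : ∀ Y : Subrepresentation ρ, Y ≤ W → Y = ⊥ ∨ Y = W := by
        intro Y hY
        by_cases hY0 : Y = ⊥
        · exact Or.inl hY0
        right
        have h1 := hWmin Y ⟨hY0, hY.trans hWU⟩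
        have hY' : Y.toSubmodule ≤ W.toSubmodule := hY
        have h2 := Submodule.finrank_mono hY'
        have h3 : Module.finrank (ZMod p) Y.toSubmodule = Module.finrank (ZMod p) W.toSubmodule :=
          le_antisymm h2 (not_lt.1 h1)
        exact Subrepresentation.toSubmodule_injective (Submodule.eq_of_le_of_finrank_eq hY' h3)
      obtain ⟨W', hW'⟩ := exists_isCompl W
      have hWW'1 : W.toSubmodule ⊓ W'.toSubmodule = ⊥ :=
        congrArg Subrepresentation.toSubmodule hW'.inf_eq_bot
      have hWW'2 : W.toSubmodule ⊔ W'.toSubmodule = ⊤ :=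
        congrArg Subrepresentation.toSubmodule hW'.sup_eq_top
      obtain ⟨U', hU'def⟩ : ∃ U' : Subrepresentation ρ, U' = U ⊓ W' := ⟨_, rfl⟩
      have hU'sub : U'.toSubmodule = U.toSubmodule ⊓ W'.toSubmodule := by
        rw [hU'def]
        rfl
      have hdisj : W.toSubmodule ⊓ U'.toSubmodule = ⊥ := by
        rw [eq_bot_iff, ← hWW'1, hU'sub]
        exact inf_le_inf_left _ inf_le_right
      have hWU' : W.toSubmodule ≤ U.toSubmodule := hWU
      have hsup : W.toSubmodule ⊔ U'.toSubmodule = U.toSubmodule := by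
        rw [hU'sub, inf_comm, ← sup_inf_assoc_of_le _ hWU', hWW'2, top_inf_eq]
      have hWne : W.toSubmodule ≠ ⊥ := by
        intro h
        apply hW0
        apply Subrepresentation.toSubmodule_injective
        rw [h]
        rfl
      have hrank : Module.finrank (ZMod p) U.toSubmodule
          = Module.finrank (ZMod p) W.toSubmodule + Module.finrank (ZMod p) U'.toSubmodule := by
        have := Submodule.finrank_sup_add_finrank_inf_eq W.toSubmodule U'.toSubmodule
        rw [hdisj, finrank_bot, add_zero, hsup] at this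
        exact this
      have hWpos : 0 < Module.finrank (ZMod p) W.toSubmodule := by
        rw [Nat.pos_iff_ne_zero, Ne, Submodule.finrank_eq_zero]
        exact hWne
      obtain ⟨δW, hW1, hW2, hW3, hW4⟩ := exists_goodDelta_of_minimal h𝔓 hp W hW0 hmin
      obtain ⟨δ', h'1, h'2, h'3, h'4⟩ := ih (Module.finrank (ZMod p) U'.toSubmodule)
        (by omega) U' rfl
      have hintW := fun c => isIntegral_of_mem_linSpan hW1 c
      have hint' := fun c => isIntegral_of_mem_linSpan h'1 c
      refine ⟨δW * δ', mul_mem_linSpan hW1 h'1, ?_, ?_, ?_⟩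
      · intro c
        have hfr : Module.finrank (ZMod p) (fixIn ρ U.toSubmodule c)
            = Module.finrank (ZMod p) (fixIn ρ W.toSubmodule c)
              + Module.finrank (ZMod p) (fixIn ρ U'.toSubmodule c) := by
          have := Submodule.finrank_sup_add_finrank_inf_eq (fixIn ρ W.toSubmodule c)
            (fixIn ρ U'.toSubmodule c)
          have hd : fixIn ρ W.toSubmodule c ⊓ fixIn ρ U'.toSubmodule c = ⊥ := by
            rw [eq_bot_iff, ← hdisj]
            exact inf_le_inf inf_le_left inf_le_left
          rw [hd, finrank_bot, add_zero, ← fixIn_sup W U' hdisj c, hsup] at this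
          exact this
        rw [hfr, hrank, pow_add, pow_add, ← hW2 c, ← h'2 c, Pi.mul_apply, map_mul]
        ring
      · intro c hc
        have hcW : ∀ u ∈ W.toSubmodule, ρ c u = u := fun u hu => hc u (hWU' hu)
        have hcU' : ∀ u ∈ U'.toSubmodule, ρ c u = u := fun u hu =>
          hc u (by rw [← hsup]; exact (le_sup_right : U'.toSubmodule ≤ _) hu)
        have h1 := hW3 c hcW
        have h2 := h'3 c hcU'
        have : (δW * δ') c - 1 = (δW c - 1) * δ' c + (δ' c - 1) := by
          rw [Pi.mul_apply]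
          ring
        rw [this]
        exact add_mem (mul_mem_idealImage' (hint' c) h1) h2
      · intro c hc
        rw [Pi.mul_apply]
        by_cases hcW : ∀ u ∈ W.toSubmodule, ρ c u = u
        · have hcU' : ¬ ∀ u ∈ U'.toSubmodule, ρ c u = u := by
            intro hcU'
            apply hc
            intro u hu
            rw [← hsup] at hu
            obtain ⟨w, hw, u', hu', rfl⟩ := Submodule.mem_sup.1 hu
            rw [map_add, hcW w hw, hcU' u' hu']
          exact mul_mem_idealImage (hintW c) (h'4 c hcU')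
        · exact mul_mem_idealImage' (hint' c) (hW4 c hcW)

end

end Cfsg.Agent.Lib.Helper8
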