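import Mathlib
import Cfsg.Agent.Lib.Helper8.KV7

/-!
# The Gauss sum function for a coprime action of an abelian group on an elementary abelian group
-/

set_option autoImplicit false

namespace Cfsg.Agent.Lib.Helper8

open scoped ComplexConjugate

theorem natCard_eq_pow_finrank {p : ℕ} [Fact p.Prime] {M : Type*} [AddCommGroup M]
    [Module (ZMod p) M] [Finite M] : (Nat.card M : ℂ) = (p : ℂ) ^ Module.finrank (ZMod p) M := by
  haveI : NeZero p := ⟨(Fact.out : p.Prime).ne_zero⟩
  haveI : Fintype M := Fintype.ofFinite M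
  rw [Nat.card_eq_fintype_card, Module.card_eq_pow_finrank (K := ZMod p) (V := M), ZMod.card]
  push_cast
  rfl

section

variable (p : ℕ) {C A M : Type*} [Group C] [Group A] [AddCommGroup M] [Module (ZMod p) M]
  (e : A ≃ M) (he : ∀ a b, e (a * b) = e a + e b) (φ : C →* MulAut A)

/-- The representation on `M` attached to an action by automorphisms on a group identified with
`M`. -/
noncomputable def actionRep : Representation (ZMod p) C M where
  toFun c := AddMonoidHom.toZModLinearMap p
    { toFun := fun x => e (φ c (e.symm x))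
      map_zero' := by
        have h1 : e 1 = 0 := by
          have := he 1 1
          rw [mul_one] at this
          exact left_eq_add.mp this
        have h2 : e.symm 0 = 1 := by rw [← h1, e.symm_apply_apply]
        rw [h2, map_one, h1]
      map_add' := fun x y => by
        have h : e.symm (x + y) = e.symm x * e.symm y := by
          apply e.injective
          rw [e.apply_symm_apply, he, e.apply_symm_apply, e.apply_symm_apply]
        rw [h, map_mul, he] }
  map_one' := by
    apply LinearMap.ext
    intro x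
    show e (φ 1 (e.symm x)) = x
    rw [map_one]
    exact e.apply_symm_apply x
  map_mul' c c' := by
    apply LinearMap.ext
    intro x
    show e (φ (c * c') (e.symm x)) = e (φ c (e.symm (e (φ c' (e.symm x)))))
    rw [map_mul, e.symm_apply_apply]
    rfl

theorem actionRep_apply (c : C) (a : A) : actionRep p e he φ c (e a) = e (φ c a) := by
  show e (φ c (e.symm (e a))) = e (φ c a)
  rw [e.symm_apply_apply]

end

theorem exists_delta_of_action_aux {p : ℕ} [Fact p.Prime] {C : Type*} [CommGroup C] [Finite C]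
    (hcop : ¬ p ∣ Nat.card C)
    {A : Type*} [Group A] {M : Type*} [AddCommGroup M] [Module (ZMod p) M] [Finite M]
    (e : A ≃ M) (he : ∀ a b, e (a * b) = e a + e b)
    (φ : C →* MulAut A) {𝔓 : Ideal AlgInt} (h𝔓 : 𝔓.IsPrime) (hp : ((p : ℕ) : AlgInt) ∈ 𝔓) :
    ∃ δ : C → ℂ, δ ∈ linSpan p C ∧
      (∀ c, δ c * conj (δ c) * (Nat.card {a : A // φ c a = a} : ℂ) = (Nat.card A : ℂ)) ∧
      (∀ c, (∀ a, φ c a = a) → δ c - 1 ∈ idealImage 𝔓) ∧
      (∀ c, (¬ ∀ a, φ c a = a) → δ c ∈ idealImage 𝔓) := by
  classical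
  obtain ⟨ρ, hρdef⟩ : ∃ ρ : Representation (ZMod p) C M, ρ = actionRep p e he φ := ⟨_, rfl⟩
  have hρ : ∀ (c : C) (a : A), ρ c (e a) = e (φ c a) := by
    intro c a
    rw [hρdef]
    exact actionRep_apply p e he φ c a
  obtain ⟨δ, h1, h2, h3, h4⟩ := exists_goodDelta (ρ := ρ) hcop h𝔓 hp _ ⊤ rfl
  have htop : (⊤ : Subrepresentation ρ).toSubmodule = ⊤ := rfl
  rw [htop] at h2 h3 h4
  have hall : ∀ c : C, (∀ u ∈ (⊤ : Submodule (ZMod p) M), ρ c u = u) ↔ ∀ a, φ c a = a := by
    intro c
    constructor
    · intro h a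
      have := h (e a) trivial
      rw [hρ] at this
      exact e.injective this
    · intro h u _
      have := hρ c (e.symm u)
      rw [h, e.apply_symm_apply] at this
      exact this
  refine ⟨δ, h1, ?_, ?_, ?_⟩
  · intro c
    have hc1 : Nat.card {a : A // φ c a = a} = Nat.card (fixIn ρ ⊤ c) := by
      apply Nat.card_congr
      refine Equiv.subtypeEquiv e ?_
      intro a
      rw [mem_fixIn, hρ]
      constructor
      · intro h
        exact ⟨trivial, by rw [h]⟩
      · intro h
        exact e.injective h.2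
    have hc2 : Nat.card A = Nat.card (⊤ : Submodule (ZMod p) M) := by
      apply Nat.card_congr
      exact e.trans (Submodule.topEquiv (R := ZMod p) (M := M)).symm.toEquiv
    rw [hc1, hc2, natCard_eq_pow_finrank (p := p), natCard_eq_pow_finrank (p := p)]
    exact h2 c
  · intro c hc
    exact h3 c ((hall c).2 hc)
  · intro c hc
    exact h4 c (fun h => hc ((hall c).1 h))

theorem exists_delta_of_action {p : ℕ} [Fact p.Prime] {C : Type*} [Group C] [Finite C]
    (hCcomm : ∀ a b : C, a * b = b * a) (hcop : ¬ p ∣ Nat.card C)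
    {A : Type*} [Group A] [Finite A] (hAcomm : ∀ a b : A, a * b = b * a)
    (hexp : ∀ a : A, a ^ p = 1)
    (φ : C →* MulAut A) {𝔓 : Ideal AlgInt} (h𝔓 : 𝔓.IsPrime) (hp : ((p : ℕ) : AlgInt) ∈ 𝔓) :
    ∃ δ : C → ℂ, δ ∈ linSpan p C ∧
      (∀ c, δ c * conj (δ c) * (Nat.card {a : A // φ c a = a} : ℂ) = (Nat.card A : ℂ)) ∧
      (∀ c, (∀ a, φ c a = a) → δ c - 1 ∈ idealImage 𝔓) ∧
      (∀ c, (¬ ∀ a, φ c a = a) → δ c ∈ idealImage 𝔓) := by
  classical
  letI : CommGroup C := { (inferInstance : Group C) with mul_comm := hCcomm }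
  letI : CommGroup A := { (inferInstance : Group A) with mul_comm := hAcomm }
  letI : Module (ZMod p) (Additive A) := AddCommGroup.zmodModule (n := p) (by
    intro x
    show Additive.ofMul (x.toMul ^ p) = 0
    rw [hexp]
    rfl)
  exact exists_delta_of_action_aux (M := Additive A) hcop Additive.ofMul (fun _ _ => rfl) φ h𝔓 hp

end Cfsg.Agent.Lib.Helper8
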