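import Mathlib

/-!
# Conjugacy and centralizers of the elements `v * c` in a semidirect product
-/

set_option autoImplicit false
set_option linter.unusedSectionVars false

namespace Cfsg.Agent.Lib.Helper8

universe u

section

variable {X : Type u} [Group X] [Finite X]

/-- An exponent that kills the complement and fixes the elementary abelian normal subgroup. -/
theorem exists_pow_split (p : ℕ) [Fact p.Prime] (V G : Subgroup X) (hVexp : ∀ u ∈ V, u ^ p = 1)
    (hcop : ¬ p ∣ Nat.card G) :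
    ∃ k : ℕ, (∀ u ∈ V, u ^ k = u) ∧ (∀ g ∈ G, g ^ k = 1) := by
  have hp : p.Prime := Fact.out
  have hc : (Nat.card G).Coprime p := ((hp.coprime_iff_not_dvd).2 hcop).symm
  obtain ⟨m, -, hm⟩ := Nat.exists_mul_mod_eq_one_of_coprime hc hp.one_lt
  refine ⟨Nat.card G * m, ?_, ?_⟩
  · intro u hu
    rw [pow_eq_pow_mod _ (hVexp u hu), hm, pow_one]
  · intro g hg
    have h1 : (⟨g, hg⟩ : G) ^ Nat.card G = 1 := pow_card_eq_one'
    have h2 : g ^ Nat.card G = 1 := by
      have h := congrArg (fun t : G => (t : X)) h1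
      rw [Subgroup.coe_pow, Subgroup.coe_one] at h
      exact h
    rw [pow_mul, h2, one_pow]

variable (p : ℕ) [Fact p.Prime] (V G : Subgroup X) [V.Normal]
  (hVab : ∀ a ∈ V, ∀ b ∈ V, a * b = b * a) (hVexp : ∀ u ∈ V, u ^ p = 1)
  (hcop : ¬ p ∣ Nat.card G) (hGV : Subgroup.IsComplement' V G) {v : X} (hv : v ∈ V)
  (hab : ∀ a ∈ G ⊓ Subgroup.centralizer ({v} : Set X),
    ∀ b ∈ G ⊓ Subgroup.centralizer ({v} : Set X), a * b = b * a)

include hVexp hcop in
/-- Conjugating `v * c` to `v * c'` fixes `v`. -/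
theorem conj_fix_of_conj_mul {v c c' x : X} (hv : v ∈ V) (hc : c ∈ G) (hc' : c' ∈ G)
    (hvc : v * c = c * v) (hvc' : v * c' = c' * v)
    (hx : x * (v * c) * x⁻¹ = v * c') : x * v * x⁻¹ = v ∧ x * c * x⁻¹ = c' := by
  obtain ⟨k, hk1, hk2⟩ := exists_pow_split p V G hVexp hcop
  have h1 : (v * c) ^ k = v := by
    rw [(show Commute v c from hvc).mul_pow, hk1 v hv, hk2 c hc, mul_one]
  have h2 : (v * c') ^ k = v := by
    rw [(show Commute v c' from hvc').mul_pow, hk1 v hv, hk2 c' hc', mul_one]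
  have h3 : x * v * x⁻¹ = v := by
    have := congrArg (fun t => t ^ k) hx
    simp only [conj_pow, h1, h2] at this
    exact this
  refine ⟨h3, ?_⟩
  have h4 : x * (v * c) * x⁻¹ = (x * v * x⁻¹) * (x * c * x⁻¹) := by group
  rw [h4, h3] at hx
  exact mul_left_cancel hx

include hVab hGV in
/-- Elements centralizing `v` decompose inside the centralizer. -/
theorem exists_decomp_of_comm {v x : X} (hv : v ∈ V) (hx : x * v * x⁻¹ = v) :
    ∃ a ∈ V, ∃ g ∈ G ⊓ Subgroup.centralizer ({v} : Set X), x = a * g := by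
  obtain ⟨⟨a, g⟩, hag⟩ := hGV.2 x
  have hag' : (a : X) * (g : X) = x := hag
  refine ⟨a, a.2, g, Subgroup.mem_inf.2 ⟨g.2, ?_⟩, hag'.symm⟩
  rw [Subgroup.mem_centralizer_singleton_iff]
  have h1 : (a : X) * v = v * (a : X) := hVab a a.2 v hv
  have h2 : x * v = v * x := by
    have := congrArg (fun t => t * x) hx
    simpa using this
  have h3 : (g : X) = (a : X)⁻¹ * x := by rw [← hag']; group
  rw [h3]
  have h4 : (a : X)⁻¹ * v = v * (a : X)⁻¹ := by
    have := congrArg (fun t => (a : X)⁻¹ * t * (a : X)⁻¹) h1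
    simp only [mul_assoc, mul_inv_cancel, mul_one, inv_mul_cancel_left] at this
    exact this.symm
  calc (a : X)⁻¹ * x * v = (a : X)⁻¹ * (x * v) := by group
    _ = (a : X)⁻¹ * (v * x) := by rw [h2]
    _ = ((a : X)⁻¹ * v) * x := by group
    _ = (v * (a : X)⁻¹) * x := by rw [h4]
    _ = v * ((a : X)⁻¹ * x) := by group

include hVab hVexp hcop hGV hab in
/-- Distinct elements `c` of the centralizer of `v` in `G` give non-conjugate elements `v * c`. -/
theorem eq_of_isConj_mul (hv : v ∈ V) {c c' : X}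
    (hc : c ∈ G ⊓ Subgroup.centralizer ({v} : Set X))
    (hc' : c' ∈ G ⊓ Subgroup.centralizer ({v} : Set X)) (h : IsConj (v * c) (v * c')) :
    c = c' := by
  obtain ⟨x, hx⟩ := isConj_iff.1 h
  have hvc : v * c = c * v :=
    (Subgroup.mem_centralizer_singleton_iff.1 (Subgroup.mem_inf.1 hc).2).symm
  have hvc' : v * c' = c' * v :=
    (Subgroup.mem_centralizer_singleton_iff.1 (Subgroup.mem_inf.1 hc').2).symm
  obtain ⟨h1, h2⟩ := conj_fix_of_conj_mul p V G hVexp hcop hv (Subgroup.mem_inf.1 hc).1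
    (Subgroup.mem_inf.1 hc').1 hvc hvc' hx
  obtain ⟨a, ha, g, hg, rfl⟩ := exists_decomp_of_comm V G hVab hGV hv h1
  have h3 : g * c * g⁻¹ = c := by
    rw [hab g hg c hc]
    group
  have h4 : a * c * a⁻¹ = c' := by
    rw [← h2]
    calc a * c * a⁻¹ = a * (g * c * g⁻¹) * a⁻¹ := by rw [h3]
      _ = a * g * c * (a * g)⁻¹ := by group
  have h5 : c⁻¹ * c' ∈ V := by
    rw [← h4]
    have : c⁻¹ * (a * c * a⁻¹) = (c⁻¹ * a * c⁻¹⁻¹) * a⁻¹ := by group
    rw [this]
    exact V.mul_mem (Subgroup.Normal.conj_mem inferInstance a ha c⁻¹) (V.inv_mem ha)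
  have h6 : c⁻¹ * c' ∈ G :=
    G.mul_mem (G.inv_mem (Subgroup.mem_inf.1 hc).1) (Subgroup.mem_inf.1 hc').1
  have h7 : c⁻¹ * c' ∈ V ⊓ G := ⟨h5, h6⟩
  rw [disjoint_iff.1 hGV.disjoint, Subgroup.mem_bot] at h7
  exact inv_mul_eq_one.1 h7

include hVab hVexp hcop hGV hab in
/-- The centralizer of `v * c`. -/
theorem card_centralizer_mul (hv : v ∈ V) {c : X}
    (hc : c ∈ G ⊓ Subgroup.centralizer ({v} : Set X)) :
    Nat.card (Subgroup.centralizer ({v * c} : Set X)) =
      Nat.card ↥(G ⊓ Subgroup.centralizer ({v} : Set X)) *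
        Nat.card ↥(V ⊓ Subgroup.centralizer ({c} : Set X)) := by
  have hvc : v * c = c * v :=
    (Subgroup.mem_centralizer_singleton_iff.1 (Subgroup.mem_inf.1 hc).2).symm
  rw [mul_comm, ← Nat.card_prod]
  symm
  apply Nat.card_congr
  refine Equiv.ofBijective
    (fun x : ↥(V ⊓ Subgroup.centralizer ({c} : Set X)) ×
        ↥(G ⊓ Subgroup.centralizer ({v} : Set X)) =>
      (⟨(x.1 : X) * (x.2 : X), ?_⟩ : Subgroup.centralizer ({v * c} : Set X))) ⟨?_, ?_⟩
  · rw [Subgroup.mem_centralizer_singleton_iff]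
    have h1 : (x.1 : X) * v = v * (x.1 : X) := hVab _ (Subgroup.mem_inf.1 x.1.2).1 v hv
    have h2 : (x.1 : X) * c = c * (x.1 : X) :=
      Subgroup.mem_centralizer_singleton_iff.1 (Subgroup.mem_inf.1 x.1.2).2
    have h3 : (x.2 : X) * v = v * (x.2 : X) :=
      Subgroup.mem_centralizer_singleton_iff.1 (Subgroup.mem_inf.1 x.2.2).2
    have h4 : (x.2 : X) * c = c * (x.2 : X) := hab _ x.2.2 c hc
    calc (x.1 : X) * (x.2 : X) * (v * c) = (x.1 : X) * ((x.2 : X) * v) * c := by group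
      _ = (x.1 : X) * (v * (x.2 : X)) * c := by rw [h3]
      _ = ((x.1 : X) * v) * ((x.2 : X) * c) := by group
      _ = (v * (x.1 : X)) * (c * (x.2 : X)) := by rw [h1, h4]
      _ = v * ((x.1 : X) * c) * (x.2 : X) := by group
      _ = v * (c * (x.1 : X)) * (x.2 : X) := by rw [h2]
      _ = v * c * ((x.1 : X) * (x.2 : X)) := by group
  · rintro ⟨a, g⟩ ⟨a', g'⟩ h
    have h1 : (a : X) * (g : X) = (a' : X) * (g' : X) := congrArg Subtype.val h
    have h2 := hGV.1 (a₁ := (⟨⟨(a : X), (Subgroup.mem_inf.1 a.2).1⟩,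
        ⟨(g : X), (Subgroup.mem_inf.1 g.2).1⟩⟩ : V × G))
      (a₂ := (⟨⟨(a' : X), (Subgroup.mem_inf.1 a'.2).1⟩,
        ⟨(g' : X), (Subgroup.mem_inf.1 g'.2).1⟩⟩ : V × G)) h1
    have h3 : (a : X) = (a' : X) := congrArg (fun x : V × G => (x.1 : X)) h2
    have h4 : (g : X) = (g' : X) := congrArg (fun x : V × G => (x.2 : X)) h2
    exact Prod.ext (Subtype.ext h3) (Subtype.ext h4)
  · rintro ⟨z, hz⟩
    have hz' : z * (v * c) * z⁻¹ = v * c := by
      rw [Subgroup.mem_centralizer_singleton_iff.1 hz]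
      group
    obtain ⟨h1, h2⟩ := conj_fix_of_conj_mul p V G hVexp hcop hv (Subgroup.mem_inf.1 hc).1
      (Subgroup.mem_inf.1 hc).1 hvc hvc hz'
    obtain ⟨a, ha, g, hg, rfl⟩ := exists_decomp_of_comm V G hVab hGV hv h1
    have hgc : g * c = c * g := hab g hg c hc
    have hac : a * c = c * a := by
      have h3 : a * g * c * (a * g)⁻¹ = a * (g * c * g⁻¹) * a⁻¹ := by group
      rw [h3, hgc] at h2
      have h4 : a * (c * g * g⁻¹) * a⁻¹ = a * c * a⁻¹ := by group
      rw [h4] at h2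
      have := congrArg (fun t => t * a) h2
      simpa using this
    refine ⟨⟨⟨a, Subgroup.mem_inf.2 ⟨ha, Subgroup.mem_centralizer_singleton_iff.2 hac⟩⟩,
      ⟨g, hg⟩⟩, ?_⟩
    rfl

end

end Cfsg.Agent.Lib.Helper8
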