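import Mathlib
import Cfsg.Prelude.Def_Blocks
import Cfsg.Agent.Lib.Helper8.KV1
import Cfsg.Agent.Lib.Helper8.KV8
import Cfsg.Agent.Lib.Helper8.KV9
import Cfsg.Agent.Lib.Helper8.KV10
import Cfsg.Agent.Lib.Helper8.IM1
import Cfsg.Agent.Lib.Helper8.Deflation
import Cfsg.Agent.Lib.Helper1.CharFound4

/-!
# The class number of `V ⋊ G` when some vector has an abelian centralizer
-/

set_option autoImplicit false

namespace Cfsg.Agent.Lib.Helper8

open Cfsg
open scoped ComplexConjugate
open Cfsg.Agent.Lib.Helper1 Cfsg.Agent.Lib.Helper4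

universe u

theorem card_conjClasses_le_of_abelian_centralizer {X : Type u} [Group X] [Finite X] (p : ℕ)
    [Fact p.Prime] (V : Subgroup X) [V.Normal] (hVexp : ∀ v ∈ V, v ^ p = 1)
    (hidx : ¬ p ∣ V.index) (hself : Subgroup.centralizer (V : Set X) = V) (G : Subgroup X)
    (hGV : Subgroup.IsComplement' V G) (v : X) (hv : v ∈ V)
    (hab : ∀ a ∈ G ⊓ Subgroup.centralizer ({v} : Set X),
      ∀ b ∈ G ⊓ Subgroup.centralizer ({v} : Set X), a * b = b * a) :
    Nat.card (ConjClasses X) ≤ Nat.card V := by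
  classical
  haveI : Fintype (IrrCharacter X) := Fintype.ofFinite _
  have hp : p.Prime := Fact.out
  haveI : NeZero p := ⟨hp.ne_zero⟩
  have hVab : ∀ a ∈ V, ∀ b ∈ V, a * b = b * a := by
    intro a ha b hb
    have h1 : a ∈ Subgroup.centralizer (V : Set X) := by rw [hself]; exact ha
    exact (Subgroup.mem_centralizer_iff.1 h1 b hb).symm
  have hVG : V.index = Nat.card G := hGV.symm.index_eq_card
  have hcopG : ¬ p ∣ Nat.card G := by rw [← hVG]; exact hidx
  obtain ⟨C, hCdef⟩ : ∃ C : Subgroup X, C = G ⊓ Subgroup.centralizer ({v} : Set X) := ⟨_, rfl⟩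
  have habC : ∀ a ∈ C, ∀ b ∈ C, a * b = b * a := by
    rw [hCdef]
    exact hab
  have hCG : C ≤ G := hCdef ▸ inf_le_left
  have hcopC : ¬ p ∣ Nat.card C := fun h => hcopG (h.trans (Subgroup.card_dvd_of_le hCG))
  haveI : Fintype C := Fintype.ofFinite _
  have hvC : ∀ c ∈ C, v * c = c * v := by
    intro c hc
    rw [hCdef] at hc
    exact (Subgroup.mem_centralizer_singleton_iff.1 (Subgroup.mem_inf.1 hc).2).symm
  -- the action
  obtain ⟨φ, hφdef⟩ : ∃ φ : C →* MulAut V, φ = (MulAut.conjNormal (H := V)).comp C.subtype :=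
    ⟨_, rfl⟩
  have hφ : ∀ (c : C) (a : V), ((φ c a : V) : X) = (c : X) * (a : X) * (c : X)⁻¹ := by
    intro c a
    rw [hφdef]
    rfl
  obtain ⟨𝔓, h𝔓max, hp𝔓⟩ := exists_maximal_ideal_over p
  have h𝔓 := h𝔓max.isPrime
  obtain ⟨δ, hδ1, hδ2, hδ3, hδ4⟩ := exists_delta_of_action (C := C)
    (fun a b => Subtype.ext (habC a a.2 b b.2)) hcopC (A := V)
    (fun a b => Subtype.ext (hVab a a.2 b b.2))
    (fun a => Subtype.ext (by
      rw [Subgroup.coe_pow, Subgroup.coe_one]
      exact hVexp a a.2)) φ h𝔓 hp𝔓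
  have hfaith : ∀ c : C, (∀ a : V, φ c a = a) → c = 1 := by
    intro c hc
    have h1 : (c : X) ∈ Subgroup.centralizer (V : Set X) := by
      rw [Subgroup.mem_centralizer_iff]
      intro u hu
      have h2 := congrArg Subtype.val (hc ⟨u, hu⟩)
      rw [hφ] at h2
      have h3 := congrArg (fun t => t * (c : X)) h2
      simp only [inv_mul_cancel_right] at h3
      exact h3.symm
    rw [hself] at h1
    have h2 : (c : X) ∈ V ⊓ G := ⟨h1, hCG c.2⟩
    rw [disjoint_iff.1 hGV.disjoint, Subgroup.mem_bot] at h2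
    exact Subtype.ext h2
  -- the numbers
  obtain ⟨z, hzdef⟩ : ∃ z : IrrCharacter X → ℂ, z = fun χ : IrrCharacter X =>
      (Nat.card C : ℂ)⁻¹ * ∑ c : C, (χ : X → ℂ) (v * c) * δ c := ⟨_, rfl⟩
  have hC0 : (Nat.card C : ℂ) ≠ 0 := Nat.cast_ne_zero.2 Nat.card_pos.ne'
  have hz1 : ∀ χ, z χ ∈ cycInt p := by
    intro χ
    rw [hzdef]
    exact functional_mem_cycInt (isCharacter_of_irr χ.2) C (hVexp v hv) hvC habC hδ1
  have hz2 : ∀ χ, z χ ≠ 0 := by
    intro χ h0
    have hd := (irr_apply_one_eq_charDegree χ.2).1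
    have h1 := sum_sub_degree_mem_idealImage h𝔓 hp𝔓 (isCharacter_of_irr χ.2) C (hVexp v hv) δ
      (hδ3 1 (by
        intro a
        rw [map_one]
        rfl))
      (fun c hc => hδ4 c (fun h => hc (hfaith c h))) hd
    have h2 : ∑ c : C, (χ : X → ℂ) (v * c) * δ c = 0 := by
      rw [hzdef] at h0
      rcases mul_eq_zero.1 h0 with h | h
      · exact absurd (inv_eq_zero.1 h) hC0
      · exact h
    rw [h2, zero_sub] at h1
    have h3 : ((charDegree (χ : X → ℂ) : ℕ) : ℂ) ∈ idealImage 𝔓 := by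
      have := neg_mem h1
      rwa [neg_neg] at this
    have h4 := dvd_of_natCast_mem_idealImage h𝔓max.ne_top hp𝔓 h3
    exact hidx (h4.trans (charDegree_dvd_index_of_abelian V hVab χ))
  have hz3 : ∑ χ, z χ * conj (z χ) = ((Nat.card V : ℕ) : ℂ) := by
    rw [hzdef]
    apply sum_mul_conj_eq C v δ (Nat.card V)
    · intro c c' h
      have hc : (c : X) ∈ G ⊓ Subgroup.centralizer ({v} : Set X) := hCdef ▸ c.2
      have hc' : (c' : X) ∈ G ⊓ Subgroup.centralizer ({v} : Set X) := hCdef ▸ c'.2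
      exact Subtype.ext (eq_of_isConj_mul p V G hVab hVexp hcopG hGV hab hv hc hc' h)
    · intro c
      have hc : (c : X) ∈ G ⊓ Subgroup.centralizer ({v} : Set X) := hCdef ▸ c.2
      rw [card_centralizer_mul p V G hVab hVexp hcopG hGV hab hv hc, ← hCdef]
      have hfix : Nat.card {a : V // φ c a = a}
          = Nat.card ↥(V ⊓ Subgroup.centralizer ({(c : X)} : Set X)) := by
        apply Nat.card_congr
        refine
          { toFun := fun a => ⟨(a.1 : X), Subgroup.mem_inf.2 ⟨a.1.2, ?_⟩⟩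
            invFun := fun u => ⟨⟨u.1, (Subgroup.mem_inf.1 u.2).1⟩, ?_⟩
            left_inv := fun a => rfl
            right_inv := fun u => rfl }
        · rw [Subgroup.mem_centralizer_singleton_iff]
          have h2 := congrArg Subtype.val a.2
          rw [hφ] at h2
          have h3 := congrArg (fun t => t * (c : X)) h2
          simp only [inv_mul_cancel_right] at h3
          exact h3.symm
        · apply Subtype.ext
          rw [hφ]
          have h2 := Subgroup.mem_centralizer_singleton_iff.1 (Subgroup.mem_inf.1 u.2).2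
          show (c : X) * (u : X) * (c : X)⁻¹ = (u : X)
          rw [← h2]
          group
      have h5 := hδ2 c
      rw [hfix] at h5
      push_cast
      rw [← h5]
      ring
  have hfinal := card_le_of_sum_mul_conj (N := p) z hz1 hz2 (Nat.card V) hz3
  rw [← card_irr_eq_card_conjClasses, Nat.card_eq_fintype_card]
  exact hfinal

end Cfsg.Agent.Lib.Helper8
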