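import Mathlib

/-! S4648 (Külshammer), package G0: an element of finite order prime to the characteristic is a
linear combination of idempotents (spectral decomposition via Lagrange interpolation). -/

set_option autoImplicit false

namespace Cfsg.Agent.Lib.Helper8.Kuls

open Polynomial

section

variable {k : Type*} [Field k]

/-- a polynomial vanishing on the finite set `s` is a multiple of the nodal polynomial -/
theorem kuls_nodal_dvd (s : Finset k) (P : k[X]) (hP : ∀ x ∈ s, P.eval x = 0) :
    Lagrange.nodal s id ∣ P := by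
  have hmon : (Lagrange.nodal s (id : k → k)).Monic := Lagrange.nodal_monic
  rw [← Polynomial.modByMonic_eq_zero_iff_dvd hmon]
  apply Polynomial.eq_zero_of_degree_lt_of_eval_finset_eq_zero s
  · have h1 := Polynomial.degree_modByMonic_lt P hmon
    rwa [Lagrange.degree_nodal] at h1
  · intro x hx
    have h2 := Polynomial.modByMonic_add_div P (Lagrange.nodal s (id : k → k))
    have h3 : (P %ₘ Lagrange.nodal s id).eval x =
        P.eval x - (Lagrange.nodal s id * (P /ₘ Lagrange.nodal s id)).eval x := by
      rw [← Polynomial.eval_sub]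
      congr 1
      rw [eq_sub_iff_add_eq]
      exact h2
    rw [h3, hP x hx, Polynomial.eval_mul]
    have h4 : (Lagrange.nodal s (id : k → k)).eval x = 0 :=
      Lagrange.eval_nodal_at_node (v := (id : k → k)) hx
    rw [h4, zero_mul, sub_zero]

variable [IsAlgClosed k] {A : Type*} [Ring A] [Algebra k A]

/-- **Spectral decomposition.** -/
theorem kuls_mem_span_idem (a : A) (n : ℕ) (hn : a ^ n = 1) (hnk : (n : k) ≠ 0) :
    a ∈ Submodule.span k {e : A | ∃ P : k[X], e = Polynomial.aeval a P ∧ IsIdempotentElem e} := by
  classical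
  have hn0 : 0 < n := by
    rcases Nat.eq_zero_or_pos n with h | h
    · rw [h] at hnk
      simp at hnk
    · exact h
  have : NeZero (n : k) := ⟨hnk⟩
  obtain ⟨ζ, hζ⟩ := (HasEnoughRootsOfUnity.prim : ∃ m : k, IsPrimitiveRoot m n)
  set s : Finset k := nthRootsFinset n (1 : k) with hs
  have hcard : s.card = n := hζ.card_nthRootsFinset
  have hmem : ∀ x, x ∈ s ↔ x ^ n = 1 := fun x => Polynomial.mem_nthRootsFinset hn0 1
  have hinj : Set.InjOn (id : k → k) (s : Set k) := Function.injective_id.injOn
  -- the nodal polynomial is `X ^ n - 1`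
  have hnodal : Lagrange.nodal s (id : k → k) = X ^ n - 1 := by
    symm
    apply Polynomial.eq_of_degree_sub_lt_of_eval_finset_eq s
    · have h1 : (X ^ n - 1 - Lagrange.nodal s (id : k → k) : k[X]).degree
          < (X ^ n - 1 : k[X]).degree := by
        apply Polynomial.degree_sub_lt_left
        · rw [Lagrange.degree_nodal, hcard]
          exact Polynomial.degree_X_pow_sub_C hn0 (1 : k)
        · exact Polynomial.X_pow_sub_C_ne_zero hn0 (1 : k)
        · have h2 : (X ^ n - 1 : k[X]).Monic := Polynomial.monic_X_pow_sub_C (1 : k) hn0.ne'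
          rw [h2.leadingCoeff, (Lagrange.nodal_monic).leadingCoeff]
      have h3 : (X ^ n - 1 : k[X]).degree = n := Polynomial.degree_X_pow_sub_C hn0 (1 : k)
      rw [h3] at h1
      rw [hcard]
      exact h1
    · intro x hx
      have h4 : (Lagrange.nodal s (id : k → k)).eval x = 0 :=
        Lagrange.eval_nodal_at_node (v := (id : k → k)) hx
      rw [h4]
      simp [(hmem x).1 hx]
  have hkill : ∀ Q : k[X], Polynomial.aeval a (Lagrange.nodal s (id : k → k) * Q) = 0 := by
    intro Q
    rw [map_mul, hnodal]
    simp [hn]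
  -- the idempotents
  set ℓ : k → k[X] := fun x => Lagrange.basis s id x with hℓ
  have hidem : ∀ x ∈ s, IsIdempotentElem (Polynomial.aeval a (ℓ x)) := by
    intro x hx
    have hdvd : Lagrange.nodal s (id : k → k) ∣ ℓ x * ℓ x - ℓ x := by
      apply kuls_nodal_dvd
      intro y hy
      rw [Polynomial.eval_sub, Polynomial.eval_mul]
      by_cases hxy : x = y
      · subst hxy
        have : (ℓ x).eval x = 1 := Lagrange.eval_basis_self (v := (id : k → k)) hinj hx
        rw [this]
        ring
      · have : (ℓ x).eval y = 0 := Lagrange.eval_basis_of_ne (v := (id : k → k)) hxy hy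
        rw [this]
        ring
    obtain ⟨Q, hQ⟩ := hdvd
    have h1 := hkill Q
    rw [← hQ, map_sub, map_mul, sub_eq_zero] at h1
    exact h1
  -- `X` is interpolated
  rcases Nat.lt_or_ge 1 n with h1n | h1n
  · have hX : (X : k[X]) = ∑ x ∈ s, C x * ℓ x := by
      have h2 := Lagrange.eq_interpolate (s := s) (v := (id : k → k)) (f := (X : k[X])) hinj
        (by rw [Polynomial.degree_X, hcard]; exact_mod_cast h1n)
      rw [Lagrange.interpolate_apply] at h2
      simpa using h2
    have ha : ∑ x ∈ s, x • Polynomial.aeval a (ℓ x) = a := by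
      have h3 := congrArg (Polynomial.aeval a) hX
      rw [Polynomial.aeval_X, map_sum] at h3
      conv_rhs => rw [h3]
      refine Finset.sum_congr rfl fun x _ => ?_
      rw [map_mul, Polynomial.aeval_C, Algebra.algebraMap_eq_smul_one, smul_mul_assoc, one_mul]
    have hsum : ∑ x ∈ s, x • Polynomial.aeval a (ℓ x) ∈
        Submodule.span k {e : A | ∃ P : k[X], e = Polynomial.aeval a P ∧ IsIdempotentElem e} := by
      refine Submodule.sum_mem _ fun x hx => Submodule.smul_mem _ _ (Submodule.subset_span ?_)
      exact ⟨ℓ x, rfl, hidem x hx⟩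
    convert hsum using 1
    exact ha.symm
  · have hn1 : n = 1 := by omega
    rw [hn1, pow_one] at hn
    rw [hn]
    refine Submodule.subset_span ⟨1, by simp, ?_⟩
    exact IsIdempotentElem.one

end

end Cfsg.Agent.Lib.Helper8.Kuls
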