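import Mathlib
import Cfsg.Prelude.Def_Blocks
import Cfsg.Prelude.Def_BlockRank
import Cfsg.Agent.Lib.Helper8.BF8
import Cfsg.Agent.Lib.Helper8.PC10

/-!
# Blocks of rank one: the Cartan invariant
-/

set_option autoImplicit false

namespace Cfsg.Agent.Lib.Helper8

open Cfsg
open scoped ComplexConjugate
open Cfsg.Agent.Lib.Helper1 Cfsg.Agent.Lib.Helper4

universe u

section

/-- Bezout for a finite family of natural numbers. -/
theorem exists_int_sum_eq_gcd {β : Type*} [DecidableEq β] (s : Finset β) (n : β → ℕ) :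
    ∃ a : β → ℤ, ∑ b ∈ s, a b * (n b : ℤ) = ((s.gcd n : ℕ) : ℤ) := by
  induction s using Finset.induction_on with
  | empty => exact ⟨fun _ => 0, by simp⟩
  | insert b s hb ih =>
    obtain ⟨a, ha⟩ := ih
    rw [Finset.gcd_insert]
    have h1 : (GCDMonoid.gcd (n b) (s.gcd n) : ℕ) = Nat.gcd (n b) (s.gcd n) := rfl
    rw [h1, Nat.gcd_eq_gcd_ab]
    refine ⟨fun c => if c = b then Nat.gcdA (n b) (s.gcd n) else
      Nat.gcdB (n b) (s.gcd n) * a c, ?_⟩
    rw [Finset.sum_insert hb]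
    beta_reduce
    rw [if_pos rfl]
    have h2 : ∑ x ∈ s, (if x = b then Nat.gcdA (n b) (s.gcd n) else
        Nat.gcdB (n b) (s.gcd n) * a x) * (n x : ℤ) =
        Nat.gcdB (n b) (s.gcd n) * ∑ x ∈ s, a x * (n x : ℤ) := by
      rw [Finset.mul_sum]
      refine Finset.sum_congr rfl fun x hx => ?_
      have hxb : x ≠ b := fun h => hb (h ▸ hx)
      rw [if_neg hxb, mul_assoc]
    rw [h2, ha]
    ring

end

section

variable {G : Type u} [Group G] [Fintype G] {M : Ideal AlgInt} {p : ℕ}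

/-- For `χ₀` of height zero, the integer `p ^ d m(χ₀, χ₀)` is prime to `p`. -/
theorem not_dvd_contrib_self (hM : IsPModular p M) {B : Set (IrrCharacter G)}
    (hB : IsPBlock M B) {χ₀ : IrrCharacter G} (hχ₀ : χ₀ ∈ B)
    (h0 : blockHeight p B (χ₀ : G → ℂ) = 0) {N : ℤ}
    (hN : (N : ℂ) = (p : ℂ) ^ (blockDefect p B) * mreg p (χ₀ : G → ℂ) (χ₀ : G → ℂ)) :
    ¬ (p : ℤ) ∣ N := by
  have hMp := isPModular_isPrime hM
  have hp := hM.1
  have : Fact p.Prime := ⟨hp⟩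
  intro hdvd
  apply contrib_not_memLocalIdeal hM hB hχ₀ h0 hχ₀
  obtain ⟨hdeg, hdegpos⟩ := irr_apply_one_eq_charDegree χ₀.2
  obtain ⟨hv, hda⟩ := block_valuations (p := p) hχ₀
  have hG0 : (Nat.card G : ℂ) ≠ 0 := Nat.cast_ne_zero.2 Nat.card_pos.ne'
  have hp0 : (p : ℂ) ≠ 0 := Nat.cast_ne_zero.2 hp.ne_zero
  have hd0 : ((charDegree (χ₀ : G → ℂ) : ℕ) : ℂ) ≠ 0 := Nat.cast_ne_zero.2 hdegpos.ne'
  have e : (Nat.card G : ℂ) * mreg p (χ₀ : G → ℂ) (χ₀ : G → ℂ) / (χ₀ : G → ℂ) 1 =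
      (N : ℂ) * ((Nat.card G : ℂ) /
        ((p ^ blockDefect p B * charDegree (χ₀ : G → ℂ) : ℕ) : ℂ)) := by
    rw [hN, hdeg]
    push_cast
    field_simp
  rw [e]
  apply memLocalIdeal_mul_right hMp ((memLocalIdeal_intCast_iff hM N).2 hdvd)
  apply memLocalRing_natCast_div hM Nat.card_pos.ne'
    (Nat.mul_ne_zero (pow_ne_zero _ hp.ne_zero) hdegpos.ne')
  rw [factorization_pow_mul hp _ hdegpos.ne']
  omega

end

end Cfsg.Agent.Lib.Helper8
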