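import Mathlib
import Cfsg.Prelude.Def_Blocks
import Cfsg.Prelude.Def_BlockRank
import Cfsg.Agent.Lib.Helper8.RO1
import Cfsg.Agent.Lib.Helper8.PC5
import Cfsg.Agent.Lib.Helper8.BF7
import Cfsg.Agent.Lib.Helper8.BlockFirstMain3

/-!
# Blocks of rank one: the Cartan invariant is the order of the defect group
-/

set_option autoImplicit false

namespace Cfsg.Agent.Lib.Helper8

open Cfsg
open scoped ComplexConjugate
open Cfsg.Agent.Lib.Helper1 Cfsg.Agent.Lib.Helper4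

universe u

section

variable {G : Type u} [Group G] [Fintype G] {M : Ideal AlgInt} {p : ℕ} [Fact p.Prime]

theorem rank_one_cartan (hM : IsPModular p M) {B : Set (IrrCharacter G)} (hB : IsPBlock M B)
    {P : Subgroup G} (hP : IsDefectGroup p M B P) (hl : blockRank p B = 1) :
    ∃ φ : G → ℂ, ∃ d : IrrCharacter G → ℕ,
      (∃ n : IrrCharacter G → ℤ, ∀ x : G, ¬ p ∣ orderOf x →
        φ x = ∑ᶠ ψ ∈ B, (n ψ : ℂ) * (ψ : G → ℂ) x) ∧
      (∀ χ ∈ B, ∀ x : G, ¬ p ∣ orderOf x → (χ : G → ℂ) x = (d χ : ℂ) * φ x) ∧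
      ∑ᶠ χ ∈ B, d χ ^ 2 = Nat.card P := by
  classical
  have hp : p.Prime := Fact.out
  have hMp := isPModular_isPrime hM
  have : Fintype (IrrCharacter G) := Fintype.ofFinite _
  set s : Finset (IrrCharacter G) := Finset.univ.filter (fun χ => χ ∈ B) with hs
  have hmem : ∀ χ : IrrCharacter G, χ ∈ s ↔ χ ∈ B := by
    intro χ
    rw [hs, Finset.mem_filter]
    simp
  set n : IrrCharacter G → ℕ := fun χ => charDegree (χ : G → ℂ) with hn
  have hnpos : ∀ χ : IrrCharacter G, 0 < n χ := fun χ => (irr_apply_one_eq_charDegree χ.2).2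
  have hn1 : ∀ χ : IrrCharacter G, (χ : G → ℂ) 1 = (n χ : ℂ) :=
    fun χ => (irr_apply_one_eq_charDegree χ.2).1
  obtain ⟨χ₀, hχ₀, h0⟩ := exists_height_zero (p := p) hMp hB
  set g := s.gcd n with hg
  have hg0 : g ≠ 0 := Finset.gcd_ne_zero_iff.2 ⟨χ₀, (hmem χ₀).2 hχ₀, (hnpos χ₀).ne'⟩
  have hgC : (g : ℂ) ≠ 0 := Nat.cast_ne_zero.2 hg0
  obtain ⟨a, ha⟩ := exists_int_sum_eq_gcd s n
  set d : IrrCharacter G → ℕ := fun χ => n χ / g with hd
  have hnd : ∀ χ ∈ s, n χ = g * d χ := fun χ hχ =>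
    (Nat.mul_div_cancel' (Finset.gcd_dvd hχ)).symm
  set φ : G → ℂ := fun x => ∑ χ ∈ s, (a χ : ℂ) * (χ : G → ℂ) x with hφ
  -- the key proportionality
  have hK : ∀ χ ∈ B, ∀ θ ∈ B, ∀ x : G, ¬ p ∣ orderOf x →
      (n χ : ℂ) * (θ : G → ℂ) x = (n θ : ℂ) * (χ : G → ℂ) x := by
    intro χ hχ θ hθ x hx
    obtain ⟨c, hc⟩ := exists_smul_pRegularPart_of_blockRank_one hl hχ hθ
    have h1 := hc 1 not_dvd_orderOf_one
    rw [hn1, hn1] at h1
    rw [hc x hx, h1]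
    ring
  have hφ2 : ∀ χ ∈ B, ∀ x : G, ¬ p ∣ orderOf x → (χ : G → ℂ) x = (d χ : ℂ) * φ x := by
    intro χ hχ x hx
    have h1 : (n χ : ℂ) * φ x = (g : ℂ) * (χ : G → ℂ) x := by
      rw [hφ]
      beta_reduce
      rw [Finset.mul_sum]
      have h2 : ∀ θ ∈ s, (n χ : ℂ) * ((a θ : ℂ) * (θ : G → ℂ) x) =
          ((a θ * (n θ : ℤ) : ℤ) : ℂ) * (χ : G → ℂ) x := by
        intro θ hθ
        push_cast
        rw [mul_left_comm, hK χ hχ θ ((hmem θ).1 hθ) x hx]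
        ring
      rw [Finset.sum_congr rfl h2, ← Finset.sum_mul, ← Int.cast_sum, ha]
      norm_cast
    rw [hnd χ ((hmem χ).2 hχ)] at h1
    push_cast at h1
    rw [mul_assoc] at h1
    exact (mul_left_cancel₀ hgC h1).symm
  refine ⟨φ, d, ⟨a, fun x _ => ?_⟩, hφ2, ?_⟩
  · rw [finsum_mem_eq_sum_indicator, hφ]
    beta_reduce
    rw [hs, Finset.sum_filter]
    refine Finset.sum_congr rfl fun χ _ => ?_
    split_ifs <;> simp
  -- the Cartan invariant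
  set r : ℂ := (Nat.card G : ℂ)⁻¹ * ∑ x : G, if p ∣ orderOf x then 0 else φ x * conj (φ x) with hr
  have hmreg : ∀ χ ∈ B, ∀ χ' ∈ B, mreg p (χ : G → ℂ) (χ' : G → ℂ) =
      (d χ : ℂ) * (d χ' : ℂ) * r := by
    intro χ hχ χ' hχ'
    have h1 : ∀ x : G, (if p ∣ orderOf x then (0 : ℂ) else
        (χ : G → ℂ) x * conj ((χ' : G → ℂ) x)) = (d χ : ℂ) * (d χ' : ℂ) *
        (if p ∣ orderOf x then 0 else φ x * conj (φ x)) := by
      intro x
      by_cases hx : p ∣ orderOf x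
      · rw [if_pos hx, if_pos hx, mul_zero]
      · rw [if_neg hx, if_neg hx, hφ2 χ hχ x hx, hφ2 χ' hχ' x hx, map_mul,
          Complex.conj_natCast]
        ring
    rw [mreg_eq_sum_ite, hr, Finset.sum_congr rfl fun x _ => h1 x, ← Finset.mul_sum]
    ring
  set c : ℕ := ∑ χ ∈ s, d χ ^ 2 with hc
  have hcr : (c : ℂ) * r = 1 := by
    have h1 := sum_mreg_self_eq_blockRank hM hB
    rw [hl, Nat.cast_one] at h1
    rw [← h1, hc, Nat.cast_sum, Finset.sum_mul, hs, Finset.sum_filter]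
    refine Finset.sum_congr rfl fun χ _ => ?_
    by_cases hχ : χ ∈ B
    · rw [if_pos hχ]
      have : (by classical exact if χ ∈ B then (1 : ℂ) else 0) = (1 : ℂ) := by
        simp only [hχ, if_true]
      rw [this, one_mul, hmreg χ hχ χ hχ]
      push_cast
      ring
    · rw [if_neg hχ]
      have : (by classical exact if χ ∈ B then (1 : ℂ) else 0) = (0 : ℂ) := by
        simp only [hχ, if_false]
      rw [this, zero_mul]
  have hc0 : c ≠ 0 := by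
    rintro h
    rw [h, Nat.cast_zero, zero_mul] at hcr
    exact zero_ne_one hcr
  -- integrality
  have hN : ∀ χ χ' : IrrCharacter G, ∃ N : ℤ, χ ∈ B →
      (N : ℂ) = (p : ℂ) ^ (blockDefect p B) * mreg p (χ : G → ℂ) (χ' : G → ℂ) := by
    intro χ χ'
    by_cases hχ : χ ∈ B
    · obtain ⟨N, hN, -⟩ := exists_int_contrib_general hM hχ (χ' := χ') (B := B)
      exact ⟨N, fun _ => hN⟩
    · exact ⟨0, fun h => absurd h hχ⟩
  choose N hN using hN
  have had : ∑ χ ∈ s, a χ * (d χ : ℤ) = 1 := by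
    have h1 : (g : ℤ) * ∑ χ ∈ s, a χ * (d χ : ℤ) = (g : ℤ) * 1 := by
      have h2 : (g : ℤ) * ∑ χ ∈ s, a χ * (d χ : ℤ) = ∑ χ ∈ s, a χ * (n χ : ℤ) := by
        rw [Finset.mul_sum]
        refine Finset.sum_congr rfl fun χ hχ => ?_
        rw [hnd χ hχ]
        push_cast
        ring
      rw [h2, ha, mul_one]
    exact mul_left_cancel₀ (Int.natCast_ne_zero.2 hg0) h1
  set Z : ℤ := ∑ χ ∈ s, ∑ χ' ∈ s, a χ * a χ' * N χ χ' with hZ
  have hZc : Z * (c : ℤ) = (p : ℤ) ^ (blockDefect p B) := by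
    have h1 : ((Z * (c : ℤ) : ℤ) : ℂ) = (((p : ℤ) ^ (blockDefect p B) : ℤ) : ℂ) := by
      push_cast
      rw [hZ]
      push_cast
      have h2 : ∀ χ ∈ s, ∀ χ' ∈ s, (a χ : ℂ) * (a χ' : ℂ) * (N χ χ' : ℂ) =
          (p : ℂ) ^ (blockDefect p B) * r * (((a χ * (d χ : ℤ) : ℤ) : ℂ) *
            ((a χ' * (d χ' : ℤ) : ℤ) : ℂ)) := by
        intro χ hχ χ' hχ'
        rw [hN χ χ' ((hmem χ).1 hχ), hmreg χ ((hmem χ).1 hχ) χ' ((hmem χ').1 hχ')]
        push_cast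
        ring
      rw [Finset.sum_congr rfl fun χ hχ => Finset.sum_congr rfl fun χ' hχ' => h2 χ hχ χ' hχ']
      simp_rw [← Finset.mul_sum]
      rw [← Finset.sum_mul, ← Int.cast_sum, had, Int.cast_one, one_mul, mul_one, mul_assoc,
        mul_comm r, hcr, mul_one]
    exact_mod_cast h1
  have hcdvd : c ∣ p ^ (blockDefect p B) := by
    have h1 : (c : ℤ) ∣ ((p ^ (blockDefect p B) : ℕ) : ℤ) := by
      push_cast
      exact Dvd.intro_left _ hZc
    exact Int.natCast_dvd_natCast.1 h1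
  obtain ⟨j, hj, hcj⟩ := (Nat.dvd_prime_pow hp).1 hcdvd
  -- the lower bound
  have hN0 : N χ₀ χ₀ * (c : ℤ) = (p : ℤ) ^ (blockDefect p B) * (d χ₀ : ℤ) ^ 2 := by
    have h1 : ((N χ₀ χ₀ * (c : ℤ) : ℤ) : ℂ) =
        (((p : ℤ) ^ (blockDefect p B) * (d χ₀ : ℤ) ^ 2 : ℤ) : ℂ) := by
      push_cast
      rw [hN χ₀ χ₀ hχ₀, hmreg χ₀ hχ₀ χ₀ hχ₀]
      have : (p : ℂ) ^ blockDefect p B * ((d χ₀ : ℂ) * (d χ₀ : ℂ) * r) * (c : ℂ) =
          (p : ℂ) ^ blockDefect p B * (d χ₀ : ℂ) ^ 2 * ((c : ℂ) * r) := by ring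
      rw [this, hcr, mul_one]
    exact_mod_cast h1
  have hjd : j = blockDefect p B := by
    by_contra hne
    have hlt : j < blockDefect p B := lt_of_le_of_ne hj hne
    apply not_dvd_contrib_self hM hB hχ₀ h0 (hN χ₀ χ₀ hχ₀)
    rw [hcj] at hN0
    have hpj : ((p ^ j : ℕ) : ℤ) ≠ 0 := by
      exact_mod_cast pow_ne_zero j hp.ne_zero
    have h2 : N χ₀ χ₀ * ((p ^ j : ℕ) : ℤ) =
        ((p : ℤ) ^ (blockDefect p B - j) * (d χ₀ : ℤ) ^ 2) * ((p ^ j : ℕ) : ℤ) := by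
      rw [hN0]
      push_cast
      have : (p : ℤ) ^ blockDefect p B = (p : ℤ) ^ (blockDefect p B - j) * (p : ℤ) ^ j := by
        rw [← pow_add, Nat.sub_add_cancel hj]
      rw [this]
      ring
    have h3 := mul_right_cancel₀ hpj h2
    rw [h3]
    apply Dvd.dvd.mul_right
    exact dvd_pow_self _ (by omega)
  have hBfin : B.Finite := Set.toFinite B
  rw [finsum_mem_eq_finite_toFinset_sum _ hBfin]
  have h5 : hBfin.toFinset = s := by
    ext χ
    rw [Set.Finite.mem_toFinset, hmem]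
  rw [h5, ← hc, hcj, hjd, card_of_isDefectGroup hM hB hP]

end

end Cfsg.Agent.Lib.Helper8
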