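import Mathlib
import Cfsg.Prelude.Def_Blocks
import Cfsg.Prelude.Def_BlockRank
import Cfsg.Agent.Lib.Helper8.BlockLocal
import Cfsg.Agent.Lib.Helper8.BlockOrth2
import Cfsg.Agent.Lib.Helper8.RO2
import Cfsg.Agent.Lib.Lead.BrandtDefs
import Cfsg.Agent.Lib.Lead.Brandt_B1
import Cfsg.Agent.Lib.Lead.Brandt_B3
import Cfsg.Agent.Lib.Helper3.Brandt_B5
import Cfsg.Agent.Lib.Helper8.Brandt_B4
import Cfsg.Agent.Lib.Helper8.Kuls_G0
import Cfsg.Agent.Lib.Helper6.Kuls_G1a
import Cfsg.Agent.Lib.Helper6.Kuls_G1bc
import Cfsg.Agent.Lib.Helper6.Kuls_G1u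

/-! S4648 swarm, package G2 (helper8): the function `c` on `kG` and its two properties
(`notes/S4648_PROOF_helper8.md`, G2). -/

set_option autoImplicit false
set_option linter.unusedSectionVars false
set_option linter.unusedVariables false

open Cfsg Cfsg.Agent.Lib.Helper8
open scoped ComplexConjugate

namespace Cfsg.Agent.Lib.Lead.Brandt


section G2

variable {M : Ideal AlgInt} {G : Type*} [Group G] [Fintype G]

/-- an element of the group algebra is the sum of its terms -/
theorem kuls_sum_single {k : Type*} [Field k] (x : MonoidAlgebra k G) :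
    x = ∑ w : G, x.coeff w • MonoidAlgebra.single w (1 : k) := by
  classical
  apply MonoidAlgebra.ext
  ext g
  simp [MonoidAlgebra.coeff_sum]

/-- a functional killing commutators is a class function on the group elements -/
theorem kuls_tau_conj {k : Type*} [Field k] (τ : MonoidAlgebra k G →ₗ[k] k)
    (hτ : ∀ a b, τ (a * b) = τ (b * a)) (g h : G) :
    τ (MonoidAlgebra.single (h * g * h⁻¹) 1) = τ (MonoidAlgebra.single g 1) := by
  have h1 : (MonoidAlgebra.single (h * g * h⁻¹) (1 : k)) =
      MonoidAlgebra.single h 1 * (MonoidAlgebra.single g 1 * MonoidAlgebra.single h⁻¹ 1) := by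
    rw [MonoidAlgebra.single_mul_single, MonoidAlgebra.single_mul_single, mul_one, mul_one,
      mul_assoc]
  have h2 : (MonoidAlgebra.single g (1 : k) * MonoidAlgebra.single h⁻¹ 1) *
      MonoidAlgebra.single h 1 = MonoidAlgebra.single g 1 := by
    rw [mul_assoc, MonoidAlgebra.single_mul_single, inv_mul_cancel, mul_one,
      ← MonoidAlgebra.one_def, mul_one]
  rw [h1, hτ, h2]

/-- the proportionality of class-function functionals, transported to `kG` -/
theorem kuls_prop_tau {p : ℕ} (hM : IsPModular p M) {k : Type*} [Field k]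
    (res : ↥(localRing M (isPModular_isPrime hM)) →+* k) (hres : Function.Surjective res)
    {B : Set (IrrCharacter G)} (d : IrrCharacter G → ℕ)
    (F F' : MonoidAlgebra ↥(localRing M (isPModular_isPrime hM)) G) (z z' : ℤ)
    (hz : ∀ χ : IrrCharacter G, χ ∈ B → evalC (χ : G → ℂ)
      (MonoidAlgebra.mapRingHom G (localRing M (isPModular_isPrime hM)).subtype F) =
        (z : ℂ) * (d χ : ℂ))
    (hz0 : ∀ χ : IrrCharacter G, χ ∉ B → evalC (χ : G → ℂ)
      (MonoidAlgebra.mapRingHom G (localRing M (isPModular_isPrime hM)).subtype F) = 0)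
    (hz' : ∀ χ : IrrCharacter G, χ ∈ B → evalC (χ : G → ℂ)
      (MonoidAlgebra.mapRingHom G (localRing M (isPModular_isPrime hM)).subtype F') =
        (z' : ℂ) * (d χ : ℂ))
    (hz0' : ∀ χ : IrrCharacter G, χ ∉ B → evalC (χ : G → ℂ)
      (MonoidAlgebra.mapRingHom G (localRing M (isPModular_isPrime hM)).subtype F') = 0)
    (τ : MonoidAlgebra k G →ₗ[k] k) (hτ : ∀ a b, τ (a * b) = τ (b * a)) :
    (z' : k) * τ (MonoidAlgebra.mapRingHom G res F) =
      (z : k) * τ (MonoidAlgebra.mapRingHom G res F') := by
  classical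
  have : Fintype (IrrCharacter G) := Fintype.ofFinite _
  let s : k → ↥(localRing M (isPModular_isPrime hM)) := Function.surjInv hres
  have hs : ∀ c, res (s c) = c := Function.surjInv_eq hres
  let TO : G → ↥(localRing M (isPModular_isPrime hM)) := fun w => s (τ (MonoidAlgebra.single w 1))
  let T : G → ℂ := fun w => ((TO w : ↥(localRing M (isPModular_isPrime hM))) : ℂ)
  have hTcl : IsClassFunction G T := by
    intro g h
    show ((TO (h * g * h⁻¹) : ↥(localRing M (isPModular_isPrime hM))) : ℂ) = ((TO g : ↥(localRing M (isPModular_isPrime hM))) : ℂ)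
    show ((s (τ (MonoidAlgebra.single (h * g * h⁻¹) 1)) : ↥(localRing M (isPModular_isPrime hM))) : ℂ) = _
    rw [kuls_tau_conj τ hτ g h]
  have key1 : ∀ X : MonoidAlgebra ↥(localRing M (isPModular_isPrime hM)) G,
      evalC T (MonoidAlgebra.mapRingHom G (localRing M (isPModular_isPrime hM)).subtype X) =
        ((∑ w, X.coeff w * TO w : ↥(localRing M (isPModular_isPrime hM))) : ℂ) := by
    intro X
    unfold evalC
    push_cast
    refine Finset.sum_congr rfl fun w _ => ?_
    rw [MonoidAlgebra.coeff_mapRingHom]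
    rfl
  have key2 : ∀ X : MonoidAlgebra ↥(localRing M (isPModular_isPrime hM)) G,
      res (∑ w, X.coeff w * TO w) = τ (MonoidAlgebra.mapRingHom G res X) := by
    intro X
    conv_rhs => rw [kuls_sum_single (MonoidAlgebra.mapRingHom G res X)]
    rw [map_sum, map_sum]
    refine Finset.sum_congr rfl fun w _ => ?_
    rw [map_mul, map_smul, smul_eq_mul, MonoidAlgebra.coeff_mapRingHom]
    congr 1
    exact hs _
  have h1 := kuls_card_mul_evalC d _ z hz hz0 T hTcl
  have h2 := kuls_card_mul_evalC d _ z' hz' hz0' T hTcl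
  have hG0 : (Nat.card G : ℂ) ≠ 0 := Nat.cast_ne_zero.2 Nat.card_pos.ne'
  have h3 : (z' : ℂ) * evalC T (MonoidAlgebra.mapRingHom G (localRing M (isPModular_isPrime hM)).subtype F) =
      (z : ℂ) * evalC T (MonoidAlgebra.mapRingHom G (localRing M (isPModular_isPrime hM)).subtype F') := by
    apply mul_left_cancel₀ hG0
    calc (Nat.card G : ℂ) * ((z' : ℂ) * evalC T (MonoidAlgebra.mapRingHom G (localRing M (isPModular_isPrime hM)).subtype F))
        = (z' : ℂ) * ((Nat.card G : ℂ) * evalC T (MonoidAlgebra.mapRingHom G (localRing M (isPModular_isPrime hM)).subtype F)) := by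
          ring
      _ = (z : ℂ) * ((Nat.card G : ℂ) * evalC T (MonoidAlgebra.mapRingHom G (localRing M (isPModular_isPrime hM)).subtype F')) := by
          rw [h1, h2]; ring
      _ = _ := by ring
  rw [key1, key1] at h3
  have h4 : ((z' : ↥(localRing M (isPModular_isPrime hM)))) * (∑ w, F.coeff w * TO w) = ((z : ↥(localRing M (isPModular_isPrime hM)))) * (∑ w, F'.coeff w * TO w) := by
    apply Subtype.coe_injective
    push_cast
    push_cast at h3
    exact h3
  have h5 := congrArg res h4
  rw [map_mul, map_mul, key2, key2, map_intCast, map_intCast] at h5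
  exact h5

/-- **G2**: the function `c` on `kG` with the two properties needed by `kuls_alg`. -/
theorem kuls_exists_c {p : ℕ} [Fact p.Prime] (hM : IsPModular p M) {k : Type*} [Field k]
    [IsAlgClosed k]
    (res : ↥(localRing M (isPModular_isPrime hM)) →+* k) (hres : Function.Surjective res)
    (hker : ∀ z, res z = 0 ↔ MemLocalIdeal M (z : ℂ))
    {B : Set (IrrCharacter G)} (hB : IsPBlock M B) (D : Subgroup G) (hD : IsDefectGroup p M B D)
    (φ : G → ℂ) (d : IrrCharacter G → ℕ) (n : IrrCharacter G → ℤ)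
    (hR1 : ∀ x : G, ¬ p ∣ orderOf x → φ x = ∑ᶠ ψ ∈ B, (n ψ : ℂ) * (ψ : G → ℂ) x)
    (hR2 : ∀ χ ∈ B, ∀ x : G, ¬ p ∣ orderOf x → (χ : G → ℂ) x = (d χ : ℂ) * φ x)
    (hR3 : ∑ᶠ χ ∈ B, d χ ^ 2 = Nat.card D)
    (eB : MonoidAlgebra ↥(localRing M (isPModular_isPrime hM)) G)
    (heB : ∀ g, ((eB.coeff g : ↥(localRing M (isPModular_isPrime hM))) : ℂ) = blockCoeff B g)
    (heBid : IsIdempotentElem eB) (heBc : ∀ x, eB * x = x * eB) :
    ∃ c : MonoidAlgebra k G → k,
      (∀ f f' : MonoidAlgebra k G, IsIdempotentElem f →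
        f * MonoidAlgebra.mapRingHom G res eB = f → IsIdempotentElem f' →
        f' * MonoidAlgebra.mapRingHom G res eB = f' →
        ∀ τ : MonoidAlgebra k G →ₗ[k] k, (∀ a b, τ (a * b) = τ (b * a)) →
          c f' * τ f = c f * τ f') ∧
      ∃ f0 : MonoidAlgebra k G, IsIdempotentElem f0 ∧
        f0 * MonoidAlgebra.mapRingHom G res eB = f0 ∧ c f0 ≠ 0 := by
  classical
  have : Fintype (IrrCharacter G) := Fintype.ofFinite _
  have hp : p.Prime := Fact.out
  have hMp := isPModular_isPrime hM
  set ε : MonoidAlgebra k G := MonoidAlgebra.mapRingHom G res eB with hε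
  -- the lifting predicate
  let Lift : MonoidAlgebra k G → ℤ × MonoidAlgebra ↥(localRing M (isPModular_isPrime hM)) G → Prop :=
    fun f zF => IsIdempotentElem zF.2 ∧ zF.2 * eB = zF.2 ∧
      MonoidAlgebra.mapRingHom G res zF.2 = f ∧
      (∀ χ : IrrCharacter G, χ ∈ B → evalC (χ : G → ℂ)
        (MonoidAlgebra.mapRingHom G (localRing M (isPModular_isPrime hM)).subtype zF.2) =
          (zF.1 : ℂ) * (d χ : ℂ)) ∧
      (∀ χ : IrrCharacter G, χ ∉ B → evalC (χ : G → ℂ)
        (MonoidAlgebra.mapRingHom G (localRing M (isPModular_isPrime hM)).subtype zF.2) = 0)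
  have hE : ∀ f : MonoidAlgebra k G, IsIdempotentElem f → f * ε = f → ∃ zF, Lift f zF := by
    intro f hf hfε
    obtain ⟨ê, hê, hêe, hêE⟩ := exists_lift_idem hM res hres hker eB heBid heBc f hf hfε
    obtain ⟨z, hz, hz0⟩ := kuls_evalC_eq hM hB φ d n hR1 hR2
      (MonoidAlgebra.mapRingHom G (localRing M (isPModular_isPrime hM)).subtype eB)
      (MonoidAlgebra.mapRingHom G (localRing M (isPModular_isPrime hM)).subtype ê)
      (fun g => by rw [MonoidAlgebra.coeff_mapRingHom]; exact heB g)
      (hê.map (MonoidAlgebra.mapRingHom G (localRing M (isPModular_isPrime hM)).subtype))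
      (by rw [← map_mul, hêE])
      (fun g => by
        rw [MonoidAlgebra.coeff_mapRingHom]
        exact (mem_localRing_iff _ _).1 (ê.coeff g).2)
    exact ⟨(z, ê), hê, hêE, hêe, hz, hz0⟩
  let c : MonoidAlgebra k G → k := fun f =>
    if h : ∃ zF, Lift f zF then ((Classical.choose h).1 : k) else 0
  have hcdef : ∀ f (h : ∃ zF, Lift f zF), c f = ((Classical.choose h).1 : k) := by
    intro f h
    show (if h : ∃ zF, Lift f zF then ((Classical.choose h).1 : k) else 0) = _
    rw [dif_pos h]
  -- `ε` is central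
  have hεc : ∀ x, ε * x = x * ε := by
    apply central_of_coeff_conj
    intro g t
    rw [hε, MonoidAlgebra.coeff_mapRingHom, MonoidAlgebra.coeff_mapRingHom]
    congr 1
    exact b4_coeff_conj_of_central heBc g t
  have hε0 : ε ≠ 0 := res_blockIdem_ne_zero hM res hker hB eB heB
  have hεid : IsIdempotentElem ε := heBid.map (MonoidAlgebra.mapRingHom G res)
  refine ⟨c, ?_, ?_⟩
  · intro f f' hf hfε hf' hf'ε τ hτ
    have h := hE f hf hfε
    have h' := hE f' hf' hf'ε
    rw [hcdef f h, hcdef f' h']
    obtain ⟨-, -, h3, h4, h5⟩ := Classical.choose_spec h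
    obtain ⟨-, -, h3', h4', h5'⟩ := Classical.choose_spec h'
    have key := kuls_prop_tau hM res hres d (Classical.choose h).2 (Classical.choose h').2
      (Classical.choose h).1 (Classical.choose h').1 h4 h5 h4' h5' τ hτ
    rw [h3, h3'] at key
    exact key
  · by_contra hcon
    push Not at hcon
    -- the local integer `u0`
    have hu0 := kuls_u0_mem hM hB D hD φ n hR1
    have hG0 : (Nat.card G : ℂ) ≠ 0 := Nat.cast_ne_zero.2 Nat.card_pos.ne'
    have hp1 : ¬ p ∣ 1 := fun h => hp.one_lt.ne' (Nat.dvd_one.1 h)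
    -- every idempotent below `ε` has coefficient `0` at `1`
    have hcoeff1 : ∀ f0 : MonoidAlgebra k G, IsIdempotentElem f0 → f0 * ε = f0 →
        f0.coeff 1 = 0 := by
      intro f0 hf0 hf0ε
      have h := hE f0 hf0 hf0ε
      have hc0 := hcon f0 hf0 hf0ε
      rw [hcdef f0 h] at hc0
      obtain ⟨-, -, h3, h4, h5⟩ := Classical.choose_spec h
      set F := (Classical.choose h).2 with hF
      set z := (Classical.choose h).1 with hz
      have h6 := kuls_coeff_one φ d hR2 D hR3 hp1
        (MonoidAlgebra.mapRingHom G (localRing M (isPModular_isPrime hM)).subtype F) z h4 h5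
      rw [MonoidAlgebra.coeff_mapRingHom] at h6
      let u0 : ↥(localRing M (isPModular_isPrime hM)) :=
        ⟨φ 1 * (Nat.card D : ℂ) / (Nat.card G : ℂ), (mem_localRing_iff _ _).2 hu0⟩
      have h7 : F.coeff 1 = (z : ↥(localRing M (isPModular_isPrime hM))) * u0 := by
        apply Subtype.coe_injective
        push_cast
        show ((F.coeff 1 : ↥(localRing M (isPModular_isPrime hM))) : ℂ) =
          (z : ℂ) * (φ 1 * (Nat.card D : ℂ) / (Nat.card G : ℂ))
        have h8 : ((localRing M (isPModular_isPrime hM)).subtype (F.coeff 1)) =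
            ((F.coeff 1 : ↥(localRing M (isPModular_isPrime hM))) : ℂ) := rfl
        rw [h8] at h6
        field_simp
        rw [mul_comm, h6]
        ring
      rw [← h3, MonoidAlgebra.coeff_mapRingHom, h7, map_mul, map_intCast, hc0, zero_mul]
    -- coefficients of `ε` at inverses of `p`-regular elements vanish
    have hreg : ∀ g : G, ¬ p ∣ orderOf g → ε.coeff g⁻¹ = 0 := by
      intro g hg
      have hnk : ((orderOf g : ℕ) : k) ≠ 0 := by
        intro h0
        apply hg
        rw [← memLocalIdeal_natCast_iff hM (orderOf g)]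
        have h1 : res ((orderOf g : ℕ) : ↥(localRing M (isPModular_isPrime hM))) = 0 := by
          rw [map_natCast]
          exact h0
        have h2 := (hker _).1 h1
        simpa using h2
      have hpow : (MonoidAlgebra.single g (1 : k)) ^ (orderOf g) = 1 := by
        rw [MonoidAlgebra.single_pow, pow_orderOf_eq_one, one_pow]
        rfl
      have hmem := Cfsg.Agent.Lib.Helper8.Kuls.kuls_mem_span_idem (k := k)
        (MonoidAlgebra.single g (1 : k)) (orderOf g) hpow hnk
      let lam : MonoidAlgebra k G →ₗ[k] k := (tr1 k G).comp (LinearMap.mulLeft k ε)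
      have hlam : ∀ x, lam x = (ε * x).coeff 1 := fun x => rfl
      have hle : Submodule.span k {e : MonoidAlgebra k G | ∃ P : Polynomial k,
          e = Polynomial.aeval (MonoidAlgebra.single g (1 : k)) P ∧ IsIdempotentElem e} ≤
          LinearMap.ker lam := by
        rw [Submodule.span_le]
        rintro e ⟨P, -, he⟩
        rw [SetLike.mem_coe, LinearMap.mem_ker, hlam]
        apply hcoeff1
        · show ε * e * (ε * e) = ε * e
          calc ε * e * (ε * e) = ε * (e * ε) * e := by noncomm_ring
            _ = ε * (ε * e) * e := by rw [hεc e]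
            _ = (ε * ε) * (e * e) := by noncomm_ring
            _ = ε * e := by rw [hεid.eq, he.eq]
        · calc ε * e * ε = ε * (e * ε) := by rw [mul_assoc]
            _ = ε * (ε * e) := by rw [hεc e]
            _ = (ε * ε) * e := by rw [mul_assoc]
            _ = ε * e := by rw [hεid.eq]
      have h1 := hle hmem
      rw [LinearMap.mem_ker, hlam, MonoidAlgebra.coeff_mul_single_apply, one_mul, mul_one] at h1
      exact h1
    apply hε0
    apply b4_ext
    intro h
    by_cases hh : p ∣ orderOf h
    · rw [hε, MonoidAlgebra.coeff_mapRingHom]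
      have h1 : eB.coeff h = 0 := by
        apply Subtype.coe_injective
        show ((eB.coeff h : ↥(localRing M (isPModular_isPrime hM))) : ℂ) = 0
        rw [heB h, blockCoeff_eq_zero_of_dvd_orderOf hM hB hh]
      rw [h1, map_zero]
      simp
    · have h1 := hreg h⁻¹ (by rw [orderOf_inv]; exact hh)
      rw [inv_inv] at h1
      rw [h1]
      simp

end G2

end Cfsg.Agent.Lib.Lead.Brandt
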