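import Mathlib
import Cfsg.Prelude.Def_Blocks
import Cfsg.Prelude.Def_BlockRank
import Cfsg.Agent.Lib.Helper8.BlockLocal
import Cfsg.Agent.Lib.Helper8.RO2
import Cfsg.Agent.Lib.Lead.BrandtDefs
import Cfsg.Agent.Lib.Lead.Brandt_B1
import Cfsg.Agent.Lib.Lead.Brandt_B3
import Cfsg.Agent.Lib.Helper7.Brandt_B2
import Cfsg.Agent.Lib.Helper3.Brandt_B5
import Cfsg.Agent.Lib.Helper6.Brandt_B6
import Cfsg.Agent.Lib.Helper8.Brandt_B4
import Cfsg.Agent.Lib.Helper8.Kuls_G2
import Cfsg.Agent.Lib.Helper6.Kuls_G1a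
import Cfsg.Agent.Lib.Helper6.Kuls_G1d
import Cfsg.Agent.Lib.Helper7.Kuls_G3
import Cfsg.Agent.Lib.Helper2.Kuls_K2

/-! S4648 swarm, package G4 (helper8): assembly of `|D| = k(B)`. -/

set_option autoImplicit false
set_option linter.unusedSectionVars false
set_option linter.unusedVariables false

open Cfsg Cfsg.Agent.Lib.Helper8
open scoped ComplexConjugate

namespace Cfsg.Agent.Lib.Lead.Brandt


/-- **G4**: a block of rank one with at most four characters has `|D| = k(B)`. -/
theorem card_defect_eq_card_block_of_rank_one {G : Type*} [Group G] [Finite G] (p : ℕ)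
    [Fact p.Prime] (M : Ideal AlgInt) (hM : IsPModular p M) (B : Set (IrrCharacter G))
    (hB : IsPBlock M B) (D : Subgroup G) (hD : IsDefectGroup p M B D)
    (hl : blockRank p B = 1) (hk : Nat.card B ≤ 4) : Nat.card D = Nat.card B := by
  classical
  have : Fintype G := Fintype.ofFinite G
  have : Fintype (IrrCharacter G) := Fintype.ofFinite _
  have hp : p.Prime := Fact.out
  obtain ⟨k, _, _, res, hres, hker⟩ := exists_resField hM
  obtain ⟨eB, heB, heBid, heBc, -⟩ := exists_blockIdem hM hB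
  obtain ⟨φ, d, ⟨n, hR1⟩, hR2, hR3⟩ := rank_one_cartan hM hB hD hl
  have hε : IsIdempotentElem (MonoidAlgebra.mapRingHom G res eB) :=
    heBid.map (MonoidAlgebra.mapRingHom G res)
  have hεc : ∀ x, MonoidAlgebra.mapRingHom G res eB * x = x * MonoidAlgebra.mapRingHom G res eB := by
    apply central_of_coeff_conj
    intro g t
    rw [MonoidAlgebra.coeff_mapRingHom, MonoidAlgebra.coeff_mapRingHom]
    congr 1
    exact b4_coeff_conj_of_central heBc g t
  have hε0 : MonoidAlgebra.mapRingHom G res eB ≠ 0 := res_blockIdem_ne_zero hM res hker hB eB heB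
  obtain ⟨c, hc, hc0⟩ := kuls_exists_c hM res hres hker hB D hD φ d n hR1 hR2 hR3 eB heB heBid heBc
  obtain ⟨e, he, he0, heε, hdim⟩ := kuls_alg (tr1 k G) (tr1_mul_comm k G) (tr1_nondeg k G)
    (MonoidAlgebra.mapRingHom G res eB) hε hεc hε0 (Nat.card B) hk
    (fun z hz hzε => no_indep_of_card hM res hres (Nat.card B) rfl eB heB z hz hzε) c hc hc0
  obtain ⟨ê, hê, hêe, hêE⟩ := exists_lift_idem hM res hres hker eB heBid heBc e he heε
  have hιinj : Function.Injective
      (MonoidAlgebra.mapRingHom G (localRing M (isPModular_isPrime hM)).subtype) := by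
    intro x y hxy
    apply b4_ext
    intro g
    have := congrArg (fun w => w.coeff g) hxy
    simp only [MonoidAlgebra.coeff_mapRingHom] at this
    exact Subtype.ext this
  have hf : IsIdempotentElem
      (MonoidAlgebra.mapRingHom G (localRing M (isPModular_isPrime hM)).subtype ê) :=
    hê.map (MonoidAlgebra.mapRingHom G (localRing M (isPModular_isPrime hM)).subtype)
  have hrank := finrank_corner_eq (isPModular_isPrime hM) res hres ê hê
  rw [hêe] at hrank
  set f : MonoidAlgebra ℂ G :=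
    MonoidAlgebra.mapRingHom G (localRing M (isPModular_isPrime hM)).subtype ê with hfdef
  obtain ⟨z, hz, hz0⟩ := kuls_evalC_eq hM hB φ d n hR1 hR2
    (MonoidAlgebra.mapRingHom G (localRing M (isPModular_isPrime hM)).subtype eB) f
    (fun g => by rw [MonoidAlgebra.coeff_mapRingHom]; exact heB g) hf
    (by rw [hfdef, ← map_mul, hêE])
    (fun g => by
      rw [hfdef, MonoidAlgebra.coeff_mapRingHom]
      exact (mem_localRing_iff _ _).1 (ê.coeff g).2)
  have hfin := kuls_finrank_corner d D hR3 f hf z hz hz0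
  -- the corner is not zero
  have hf0 : f ≠ 0 := by
    intro h0
    have h1 : ê = 0 := hιinj (by rw [← hfdef, h0, map_zero])
    rw [h1, map_zero] at hêe
    exact he0 hêe.symm
  have hpos : 1 ≤ Module.finrank ℂ ↥(corner ℂ f) := by
    have hfmem : f ∈ corner ℂ f := (mem_corner f f).2 ⟨f, by rw [hf.eq, hf.eq]⟩
    have : 0 < Module.finrank ℂ ↥(corner ℂ f) := by
      rw [Module.finrank_pos_iff_exists_ne_zero]
      exact ⟨⟨f, hfmem⟩, fun h => hf0 (congrArg Subtype.val h)⟩
    omega
  -- `|D| ≤ k(B)`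
  have hle1 : Nat.card D ≤ Nat.card B := by
    have h1 : (Module.finrank ℂ ↥(corner ℂ f) : ℤ) ≤ (Nat.card B : ℤ) := by
      rw [hrank]
      exact_mod_cast hdim
    rw [hfin] at h1
    have hz2 : 1 ≤ z ^ 2 := by
      have hz0' : z ≠ 0 := by
        intro h0
        have h9 : (Module.finrank ℂ ↥(corner ℂ f) : ℤ) = 0 := by
          rw [hfin, h0]
          ring
        have h10 := hpos
        omega
      have := sq_nonneg z
      have h3 : z ^ 2 ≠ 0 := pow_ne_zero 2 hz0'
      omega
    have h4 : (Nat.card D : ℤ) ≤ z ^ 2 * (Nat.card D : ℤ) := by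
      have h5 : (0 : ℤ) ≤ (Nat.card D : ℤ) := by positivity
      nlinarith
    have h6 : (Nat.card D : ℤ) ≤ (Nat.card B : ℤ) := le_trans h4 h1
    exact_mod_cast h6
  -- `k(B) ≤ |D|`
  have hle2 : Nat.card B ≤ Nat.card D := by
    have hp1 : ¬ p ∣ orderOf (1 : G) := by
      rw [orderOf_one]
      exact fun h => hp.one_lt.ne' (Nat.dvd_one.1 h)
    have hd1 : ∀ χ ∈ B, 1 ≤ d χ ^ 2 := by
      intro χ hχ
      have h1 := hR2 χ hχ 1 hp1
      have h2 : (χ : G → ℂ) 1 ≠ 0 := by
        rw [(irr_apply_one_eq_charDegree χ.2).1]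
        exact Nat.cast_ne_zero.2 (irr_apply_one_eq_charDegree χ.2).2.ne'
      have h3 : d χ ≠ 0 := by
        intro h0
        rw [h0, Nat.cast_zero, zero_mul] at h1
        exact h2 h1
      exact Nat.one_le_pow _ _ (Nat.pos_of_ne_zero h3)
    have hBfin : B.Finite := Set.toFinite B
    rw [← hR3, finsum_mem_eq_finite_toFinset_sum _ hBfin]
    calc Nat.card B = hBfin.toFinset.card := by
          rw [Nat.card_coe_set_eq, Set.ncard_eq_toFinset_card B hBfin]
      _ = ∑ χ ∈ hBfin.toFinset, 1 := by simp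
      _ ≤ ∑ χ ∈ hBfin.toFinset, d χ ^ 2 :=
          Finset.sum_le_sum fun χ hχ => hd1 χ ((Set.Finite.mem_toFinset hBfin).1 hχ)
  exact le_antisymm hle1 hle2

end Cfsg.Agent.Lib.Lead.Brandt
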