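import Mathlib

set_option autoImplicit false

namespace Cfsg.Agent.Lib.Helper8.LD

open scoped BigOperators

/-- The bound function for Landau's lemma. -/
def landauBound : ℕ → ℕ → ℕ
  | 0, _ => 0
  | (k + 1), D => max ((k + 1) * D) (landauBound k ((k + 1) * D * D))

theorem landauBound_mono (k : ℕ) {D D' : ℕ} (h : D ≤ D') : landauBound k D ≤ landauBound k D' := by
  induction k generalizing D D' with
  | zero => simp [landauBound]
  | succ k ih =>
    simp only [landauBound]
    apply max_le_max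
    · exact Nat.mul_le_mul_left _ h
    · apply ih
      exact Nat.mul_le_mul (Nat.mul_le_mul_left _ h) h

/-- **Landau's lemma**: positive integers `f i` (`i ∈ s`, `#s = k`) whose reciprocals sum to a
positive rational with denominator at most `D` are bounded by `landauBound k D`. -/
theorem le_landauBound {ι : Type*} [DecidableEq ι] (k : ℕ) :
    ∀ (D : ℕ) (s : Finset ι) (f : ι → ℕ), s.card = k → (∀ i ∈ s, 0 < f i) →
      (∃ D' : ℕ, 0 < D' ∧ D' ≤ D ∧ ∃ z : ℕ, ∑ i ∈ s, (1 : ℚ) / (f i : ℚ) = (z : ℚ) / (D' : ℚ)) →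
      ∀ i ∈ s, f i ≤ landauBound k D := by
  induction k with
  | zero =>
    intro D s f hs _ _ i hi
    rw [Finset.card_eq_zero] at hs
    rw [hs] at hi
    exact absurd hi (Finset.notMem_empty i)
  | succ k ih =>
    intro D s f hs hpos hsum i hi
    obtain ⟨D', hD'0, hD'D, z, hz⟩ := hsum
    have hne : s.Nonempty := ⟨i, hi⟩
    obtain ⟨i₀, hi₀, hmin⟩ := Finset.exists_min_image s f hne
    -- the sum is positive, so z ≥ 1
    have hsumpos : 0 < ∑ j ∈ s, (1 : ℚ) / (f j : ℚ) := by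
      apply Finset.sum_pos
      · intro j hj
        have : (0 : ℚ) < (f j : ℚ) := by exact_mod_cast hpos j hj
        positivity
      · exact hne
    have hD'q : (0 : ℚ) < (D' : ℚ) := by exact_mod_cast hD'0
    have hz1 : 1 ≤ z := by
      rcases Nat.eq_zero_or_pos z with h0 | h0
      · rw [hz, h0] at hsumpos
        simp at hsumpos
      · exact h0
    have hf0q : (0 : ℚ) < (f i₀ : ℚ) := by exact_mod_cast hpos i₀ hi₀
    -- f i₀ ≤ (k+1) * D'
    have hle : ∑ j ∈ s, (1 : ℚ) / (f j : ℚ) ≤ ((k + 1 : ℕ) : ℚ) * ((1 : ℚ) / (f i₀ : ℚ)) := by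
      calc ∑ j ∈ s, (1 : ℚ) / (f j : ℚ) ≤ ∑ _j ∈ s, (1 : ℚ) / (f i₀ : ℚ) := by
            apply Finset.sum_le_sum
            intro j hj
            have h1 : (f i₀ : ℚ) ≤ (f j : ℚ) := by exact_mod_cast hmin j hj
            exact one_div_le_one_div_of_le hf0q h1
        _ = ((k + 1 : ℕ) : ℚ) * ((1 : ℚ) / (f i₀ : ℚ)) := by
            rw [Finset.sum_const, hs, nsmul_eq_mul]
    have hfi0 : f i₀ ≤ (k + 1) * D' := by
      have h1 : (1 : ℚ) / (D' : ℚ) ≤ ((k + 1 : ℕ) : ℚ) * ((1 : ℚ) / (f i₀ : ℚ)) := by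
        calc (1 : ℚ) / (D' : ℚ) ≤ (z : ℚ) / (D' : ℚ) := by
              apply div_le_div_of_nonneg_right _ hD'q.le
              exact_mod_cast hz1
          _ = ∑ j ∈ s, (1 : ℚ) / (f j : ℚ) := hz.symm
          _ ≤ _ := hle
      have h2 : (f i₀ : ℚ) ≤ ((k + 1 : ℕ) : ℚ) * (D' : ℚ) := by
        rw [div_le_iff₀ hD'q] at h1
        have h3 : ((k + 1 : ℕ) : ℚ) * ((1 : ℚ) / (f i₀ : ℚ)) * (D' : ℚ)
            = ((k + 1 : ℕ) : ℚ) * (D' : ℚ) / (f i₀ : ℚ) := by ring
        rw [h3, le_div_iff₀ hf0q] at h1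
        linarith
      exact_mod_cast h2
    have hfi0D : f i₀ ≤ (k + 1) * D := hfi0.trans (Nat.mul_le_mul_left _ hD'D)
    by_cases hii : i = i₀
    · rw [hii]
      simp only [landauBound]
      exact le_max_of_le_left hfi0D
    · -- apply the induction hypothesis to s.erase i₀
      have hcard : (s.erase i₀).card = k := by
        rw [Finset.card_erase_of_mem hi₀, hs]
        rfl
      have hi' : i ∈ s.erase i₀ := Finset.mem_erase.2 ⟨hii, hi⟩
      have hsum' : ∑ j ∈ s.erase i₀, (1 : ℚ) / (f j : ℚ)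
          = ((z * f i₀ - D' : ℕ) : ℚ) / ((D' * f i₀ : ℕ) : ℚ) := by
        have h1 : ∑ j ∈ s.erase i₀, (1 : ℚ) / (f j : ℚ)
            = (z : ℚ) / (D' : ℚ) - (1 : ℚ) / (f i₀ : ℚ) := by
          rw [← hz, ← Finset.add_sum_erase s _ hi₀]
          ring
        have h2 : D' ≤ z * f i₀ := by
          -- the erased sum is nonnegative
          have h3 : 0 ≤ ∑ j ∈ s.erase i₀, (1 : ℚ) / (f j : ℚ) := by
            apply Finset.sum_nonneg
            intro j hj
            have : (0 : ℚ) < (f j : ℚ) := by exact_mod_cast hpos j (Finset.mem_of_mem_erase hj)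
            positivity
          rw [h1] at h3
          have h4 : (1 : ℚ) / (f i₀ : ℚ) ≤ (z : ℚ) / (D' : ℚ) := by linarith
          rw [div_le_div_iff₀ hf0q hD'q] at h4
          have h5 : (D' : ℚ) ≤ (z : ℚ) * (f i₀ : ℚ) := by linarith
          exact_mod_cast h5
        rw [h1]
        push_cast [Nat.cast_sub h2]
        field_simp
      have key := ih ((k + 1) * D * D) (s.erase i₀) f hcard
        (fun j hj => hpos j (Finset.mem_of_mem_erase hj))
        ⟨D' * f i₀, Nat.mul_pos hD'0 (hpos i₀ hi₀), ?_, z * f i₀ - D', hsum'⟩ i hi'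
      · simp only [landauBound]
        exact le_max_of_le_right key
      · calc D' * f i₀ ≤ D * ((k + 1) * D) := Nat.mul_le_mul hD'D hfi0D
          _ = (k + 1) * D * D := by ring

end Cfsg.Agent.Lib.Helper8.LD
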