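import Mathlib
import Cfsg.Agent.Lib.Helper8.LD1
import Cfsg.Agent.Lib.Helper1.ConjCount

set_option autoImplicit false

namespace Cfsg.Agent.Lib.Helper8.LD

open scoped BigOperators
open Cfsg.Agent.Lib.Helper1

/-- **Landau's theorem**: the order of a finite group is bounded in terms of its class number. -/
theorem card_le_landauBound (G : Type*) [Group G] [Finite G] :
    Nat.card G ≤ landauBound (Nat.card (ConjClasses G)) 1 := by
  classical
  have : Fintype G := Fintype.ofFinite G
  have : Fintype (ConjClasses G) := Fintype.ofFinite _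
  set f : ConjClasses G → ℕ := fun c =>
    Nat.card (Subgroup.centralizer ({Quotient.out c} : Set G)) with hf
  have hGpos : (0 : ℚ) < (Nat.card G : ℚ) := by exact_mod_cast Nat.card_pos
  have hfpos : ∀ c, 0 < f c := fun c => Nat.card_pos
  have hcard : ∀ c : ConjClasses G, (c.carrier.toFinset.card : ℚ) * (f c : ℚ) = (Nat.card G : ℚ) := by
    intro c
    have h1 := card_isConj_mul_card_centralizer (Quotient.out c)
    have h2 : Nat.card {v : G // IsConj (Quotient.out c) v} = c.carrier.toFinset.card := by
      rw [Nat.card_eq_fintype_card, Fintype.card_subtype]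
      congr 1
      ext v
      simp only [Set.mem_toFinset, Finset.mem_filter, Finset.mem_univ, true_and]
      rw [ConjClasses.mem_carrier_iff_mk_eq]
      constructor
      · intro h
        rw [← ConjClasses.mk_eq_mk_iff_isConj.2 h]
        exact Quotient.out_eq c
      · intro h
        apply ConjClasses.mk_eq_mk_iff_isConj.1
        rw [h]
        exact Quotient.out_eq c
    rw [h2] at h1
    exact_mod_cast h1
  have hsum : ∑ c : ConjClasses G, (1 : ℚ) / (f c : ℚ) = ((1 : ℕ) : ℚ) / ((1 : ℕ) : ℚ) := by
    have h1 : ∀ c : ConjClasses G, (1 : ℚ) / (f c : ℚ)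
        = (c.carrier.toFinset.card : ℚ) / (Nat.card G : ℚ) := by
      intro c
      have hfq : (0 : ℚ) < (f c : ℚ) := by exact_mod_cast hfpos c
      rw [div_eq_div_iff hfq.ne' hGpos.ne', one_mul, hcard c]
    simp only [h1]
    rw [← Finset.sum_div]
    have h2 : ∑ c : ConjClasses G, (c.carrier.toFinset.card : ℚ) = (Nat.card G : ℚ) := by
      have := sum_conjClasses_card_eq_card G
      rw [Nat.card_eq_fintype_card]
      exact_mod_cast this
    rw [h2, div_self hGpos.ne']
    simp
  have key := le_landauBound (Nat.card (ConjClasses G)) 1 (Finset.univ : Finset (ConjClasses G)) f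
    (by rw [Finset.card_univ, Nat.card_eq_fintype_card]) (fun c _ => hfpos c)
    ⟨1, Nat.one_pos, le_refl 1, 1, hsum⟩ (ConjClasses.mk (1 : G)) (Finset.mem_univ _)
  have hone : Quotient.out (ConjClasses.mk (1 : G)) = 1 := by
    have h1 : ConjClasses.mk (Quotient.out (ConjClasses.mk (1 : G))) = ConjClasses.mk (1 : G) :=
      Quotient.out_eq _
    have h2 := ConjClasses.mk_eq_mk_iff_isConj.1 h1
    exact isConj_one_left.1 h2
  have hf1 : f (ConjClasses.mk (1 : G)) = Nat.card G := by
    simp only [hf, hone]
    have : Subgroup.centralizer ({(1 : G)} : Set G) = ⊤ := by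
      ext g
      simp [Subgroup.mem_centralizer_iff]
    rw [this]
    exact Subgroup.card_top
  rw [hf1] at key
  exact key

end Cfsg.Agent.Lib.Helper8.LD
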