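import Mathlib
import Cfsg.Agent.Lib.Helper1.LW.Defs
import Cfsg.Agent.Lib.Helper1.LW.Basic
import Cfsg.Agent.Lib.Helper8.LW_BIV

/-!
# Livingstone–Wagner (S0746), package B-II (alternative proof, NOT the canonical one: see Helper1/LW/BII.lean)

For `|Γ| = k - 1 ≥ 6` all double transpositions of `Γ` have the same fixed point outside `Γ`
(Johnson graph connectivity on the supports).
-/

set_option autoImplicit false

namespace Cfsg.Agent.Lib.Helper1.LW

variable {α : Type*} [Fintype α] [DecidableEq α] {G : Subgroup (Equiv.Perm α)} {k : ℕ}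

namespace BII

open BIV

/-- `g'` fixes every fixed point of `g` outside `Γ` -/
def SF (Γ : Finset α) (g g' : Equiv.Perm α) : Prop := ∀ δ, δ ∉ Γ → g δ = δ → g' δ = δ

omit [Fintype α] [DecidableEq α] in
theorem SF.trans {Γ : Finset α} {g g' g'' : Equiv.Perm α} (h1 : SF Γ g g') (h2 : SF Γ g' g'') :
    SF Γ g g'' := fun δ hδ hg => h2 δ hδ (h1 δ hδ hg)

omit [Fintype α] in
theorem invol_apply {Γ : Finset α} {g : Equiv.Perm α} (hg : IsDT G Γ g) (x : α) : g (g x) = x := by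
  rw [← Equiv.Perm.mul_apply, hg.2.1, Equiv.Perm.one_apply]

omit [Fintype α] in
theorem map_supp {Γ : Finset α} {g : Equiv.Perm α} (hg : IsDT G Γ g) {x : α}
    (hx : x ∈ supp Γ g) : g x ∈ supp Γ g := by
  rw [mem_supp] at hx ⊢
  refine ⟨hg.2.2.1 x hx.1, ?_⟩
  rw [invol_apply hg]
  exact fun h => hx.2 h.symm

omit [Fintype α] in
/-- two double transpositions with the same support commute on `Γ` -/
theorem comm_of_supp_eq {Γ : Finset α} {g g' : Equiv.Perm α} (hg : IsDT G Γ g)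
    (hg' : IsDT G Γ g') (hs : supp Γ g = supp Γ g') : ∀ x ∈ Γ, g (g' x) = g' (g x) := by
  intro x hxΓ
  by_cases hx : x ∈ supp Γ g
  · have hx' : x ∈ supp Γ g' := hs ▸ hx
    by_cases huv : g x = g' x
    · rw [← huv, invol_apply hg, huv, invol_apply hg']
    · have hu : g x ∈ supp Γ g := map_supp hg hx
      have hv : g' x ∈ supp Γ g := hs ▸ map_supp hg' hx'
      have hux : g x ≠ x := (mem_supp.mp hx).2
      have hvx : g' x ≠ x := (mem_supp.mp hx').2
      have hc1 : ((((supp Γ g).erase x).erase (g x)).erase (g' x)).card = 1 := by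
        have h4 : (supp Γ g).card = 4 := hg.2.2.2
        rw [Finset.card_erase_of_mem, Finset.card_erase_of_mem, Finset.card_erase_of_mem hx, h4]
        · rw [Finset.mem_erase]; exact ⟨hux, hu⟩
        · rw [Finset.mem_erase, Finset.mem_erase]
          exact ⟨fun h => huv h.symm, hvx, hv⟩
      have hp : g (g' x) ∈ (((supp Γ g).erase x).erase (g x)).erase (g' x) := by
        rw [Finset.mem_erase, Finset.mem_erase, Finset.mem_erase]
        refine ⟨?_, ?_, ?_, map_supp hg hv⟩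
        · exact (mem_supp.mp hv).2
        · intro h
          exact hvx (g.injective h)
        · intro h
          have e : g (g (g' x)) = g x := by rw [h]
          rw [invol_apply hg] at e
          exact huv e.symm
      have hq : g' (g x) ∈ (((supp Γ g).erase x).erase (g x)).erase (g' x) := by
        rw [Finset.mem_erase, Finset.mem_erase, Finset.mem_erase]
        refine ⟨?_, ?_, ?_, hs ▸ map_supp hg' (hs ▸ hu)⟩
        · intro h
          exact hux (g'.injective h)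
        · exact (mem_supp.mp (hs ▸ hu : g x ∈ supp Γ g')).2
        · intro h
          have e : g' (g' (g x)) = g' x := by rw [h]
          rw [invol_apply hg'] at e
          exact huv e
      exact Finset.card_le_one.mp (le_of_eq hc1) _ hp _ hq
  · have hx' : x ∉ supp Γ g' := hs ▸ hx
    have h1 : g x = x := by
      by_contra hne
      exact hx (mem_supp.mpr ⟨hxΓ, hne⟩)
    have h2 : g' x = x := by
      by_contra hne
      exact hx' (mem_supp.mpr ⟨hxΓ, hne⟩)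
    rw [h2, h1, h2]

omit [Fintype α] in
/-- elements of types `(a b)(c d)` and `(a b)(e f)` commute on `Γ` -/
theorem comm_type {Γ : Finset α} {a b c d e f : α} (hc : c ∈ Γ) (hd : d ∈ Γ) (he : e ∈ Γ)
    (hf : f ∈ Γ) (hac : a ≠ c) (had : a ≠ d) (hae : a ≠ e) (haf : a ≠ f)
    (hbc : b ≠ c) (hbd : b ≠ d) (hbe : b ≠ e) (hbf : b ≠ f) (hce : c ≠ e) (hcf : c ≠ f)
    (hde : d ≠ e) (hdf : d ≠ f)
    {g₁ g₂ : Equiv.Perm α} (hfix₁ : FixOn g₁ (Γ \ {a, b, c, d})) (h1 : Swaps g₁ a b)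
    (h1' : Swaps g₁ c d) (hfix₂ : FixOn g₂ (Γ \ {a, b, e, f})) (h2 : Swaps g₂ a b)
    (h2' : Swaps g₂ e f) : ∀ x ∈ Γ, g₁ (g₂ x) = g₂ (g₁ x) := by
  have k1 : ∀ x ∈ Γ, x ≠ a → x ≠ b → x ≠ c → x ≠ d → g₁ x = x := by
    intro x hx h1 h2 h3 h4
    apply hfix₁ x
    rw [Finset.mem_sdiff]
    refine ⟨hx, ?_⟩
    simp only [Finset.mem_insert, Finset.mem_singleton, not_or]
    exact ⟨h1, h2, h3, h4⟩
  have k2 : ∀ x ∈ Γ, x ≠ a → x ≠ b → x ≠ e → x ≠ f → g₂ x = x := by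
    intro x hx h1 h2 h3 h4
    apply hfix₂ x
    rw [Finset.mem_sdiff]
    refine ⟨hx, ?_⟩
    simp only [Finset.mem_insert, Finset.mem_singleton, not_or]
    exact ⟨h1, h2, h3, h4⟩
  intro x hx
  by_cases hxa : x = a
  · subst hxa; rw [h2.1, h1.2, h1.1, h2.2]
  by_cases hxb : x = b
  · subst hxb; rw [h2.2, h1.1, h1.2, h2.1]
  by_cases hxc : x = c
  · subst hxc
    rw [k2 x hc hac.symm hbc.symm hce hcf, h1'.1, k2 d hd had.symm hbd.symm hde hdf]
  by_cases hxd : x = d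
  · subst hxd
    rw [k2 x hd had.symm hbd.symm hde hdf, h1'.2, k2 c hc hac.symm hbc.symm hce hcf]
  by_cases hxe : x = e
  · subst hxe
    rw [h2'.1, k1 f hf haf.symm hbf.symm hcf.symm hdf.symm, k1 x he hae.symm hbe.symm hce.symm
      hde.symm, h2'.1]
  by_cases hxf : x = f
  · subst hxf
    rw [h2'.2, k1 e he hae.symm hbe.symm hce.symm hde.symm, k1 x hf haf.symm hbf.symm hcf.symm
      hdf.symm, h2'.2]
  rw [k2 x hx hxa hxb hxe hxf, k1 x hx hxa hxb hxc hxd, k2 x hx hxa hxb hxe hxf]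

/-- `R S S'`: all double transpositions with supports `S` and `S'` share their fixed point -/
def R (G : Subgroup (Equiv.Perm α)) (Γ S S' : Finset α) : Prop :=
  ∀ g g', IsDT G Γ g → IsDT G Γ g' → supp Γ g = S → supp Γ g' = S' → SF Γ g g'

omit [Fintype α] in
theorem R.refl (bk : BK G k) {Γ : Finset α} (hΓ : Γ.card + 1 = k) (S : Finset α) : R G Γ S S := by
  intro g g' hg hg' hs hs'
  exact bk.dt_comm Γ hΓ g g' hg hg' (comm_of_supp_eq hg hg' (hs.trans hs'.symm))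

/-- every four-subset of `Γ` is the support of a double transposition -/
theorem exists_dt (h : Cfg G k) (bk : BK G k) {Γ : Finset α} (hΓ : Γ.card + 1 = k)
    {a b c d : α} (ha : a ∈ Γ) (hb : b ∈ Γ) (hc : c ∈ Γ) (hd : d ∈ Γ)
    (hab : a ≠ b) (hac : a ≠ c) (had : a ≠ d) (hbc : b ≠ c) (hbd : b ≠ d) (hcd : c ≠ d) :
    ∃ g, IsDT G Γ g ∧ supp Γ g = {a, b, c, d} ∧ FixOn g (Γ \ {a, b, c, d}) ∧ Swaps g a b ∧
      Swaps g c d := by
  obtain ⟨g, hg, hfix, hs1, hs2⟩ := bk.dt_exists Γ hΓ a ha b hb c hc d hd hab hac had hbc hbd hcd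
  obtain ⟨hdt, hsupp⟩ := isDT_of_type h hΓ ha hb hc hd hab hac had hbc hbd hcd hg hfix hs1 hs2
  exact ⟨g, hdt, hsupp, hfix, hs1, hs2⟩

omit [Fintype α] in
theorem R.trans {Γ S S' S'' : Finset α} (hne : ∃ g, IsDT G Γ g ∧ supp Γ g = S')
    (h1 : R G Γ S S') (h2 : R G Γ S' S'') : R G Γ S S'' := by
  obtain ⟨g₀, hg₀, hs₀⟩ := hne
  intro g g'' hg hg'' hs hs''
  exact (h1 g g₀ hg hg₀ hs hs₀).trans (h2 g₀ g'' hg₀ hg'' hs₀ hs'')

/-- supports meeting in two points -/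
theorem R.adj2 (h : Cfg G k) (bk : BK G k) {Γ : Finset α} (hΓ : Γ.card + 1 = k)
    {a b c d e f : α} (ha : a ∈ Γ) (hb : b ∈ Γ) (hc : c ∈ Γ) (hd : d ∈ Γ) (he : e ∈ Γ)
    (hf : f ∈ Γ) (hab : a ≠ b) (hac : a ≠ c) (had : a ≠ d) (hae : a ≠ e) (haf : a ≠ f)
    (hbc : b ≠ c) (hbd : b ≠ d) (hbe : b ≠ e) (hbf : b ≠ f) (hcd : c ≠ d) (hce : c ≠ e)
    (hcf : c ≠ f) (hde : d ≠ e) (hdf : d ≠ f) (hef : e ≠ f) :
    R G Γ {a, b, c, d} {a, b, e, f} := by
  obtain ⟨g₁, hdt₁, hs₁, hfix₁, h1, h1'⟩ :=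
    exists_dt h bk hΓ ha hb hc hd hab hac had hbc hbd hcd
  obtain ⟨g₂, hdt₂, hs₂, hfix₂, h2, h2'⟩ :=
    exists_dt h bk hΓ ha hb he hf hab hae haf hbe hbf hef
  have h12 : SF Γ g₁ g₂ := bk.dt_comm Γ hΓ g₁ g₂ hdt₁ hdt₂
    (comm_type hc hd he hf hac had hae haf hbc hbd hbe hbf hce hcf hde hdf hfix₁ h1 h1' hfix₂ h2 h2')
  intro g g' hg hg' hs hs'
  exact ((R.refl bk hΓ _ g g₁ hg hdt₁ hs hs₁).trans h12).trans
    (R.refl bk hΓ _ g₂ g' hdt₂ hg' hs₂ hs')

/-- exchanging one point of the support -/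
theorem R.adj3 (h : Cfg G k) (bk : BK G k) {Γ : Finset α} (hΓ : Γ.card + 1 = k) (hk7 : 7 ≤ k)
    {S : Finset α} (hS : S ⊆ Γ) (hS4 : S.card = 4) {x y : α} (hx : x ∈ S) (hy : y ∈ Γ)
    (hyS : y ∉ S) : R G Γ S (insert y (S.erase x)) := by
  have h3 : (S.erase x).card = 3 := by rw [Finset.card_erase_of_mem hx, hS4]
  obtain ⟨c, p, q, hcp, hcq, hpq, hE⟩ := Finset.card_eq_three.mp h3
  have hcE : c ∈ S.erase x := by rw [hE]; simp
  have hpE : p ∈ S.erase x := by rw [hE]; simp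
  have hqE : q ∈ S.erase x := by rw [hE]; simp
  rw [Finset.mem_erase] at hcE hpE hqE
  have hSeq : S = {x, c, p, q} := by
    rw [← Finset.insert_erase hx, hE]
  -- a sixth point
  have hcard5 : (insert y S).card < Γ.card := by
    rw [Finset.card_insert_of_notMem hyS, hS4]
    omega
  obtain ⟨f, hfΓ, hfn⟩ := Finset.exists_mem_notMem_of_card_lt_card hcard5
  rw [Finset.mem_insert, not_or] at hfn
  have hxy : x ≠ y := fun e => hyS (e ▸ hx)
  have hcy : c ≠ y := fun e => hyS (e ▸ hcE.2)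
  have hpy : p ≠ y := fun e => hyS (e ▸ hpE.2)
  have hqy : q ≠ y := fun e => hyS (e ▸ hqE.2)
  have hxf : x ≠ f := fun e => hfn.2 (e ▸ hx)
  have hcf : c ≠ f := fun e => hfn.2 (e ▸ hcE.2)
  have hpf : p ≠ f := fun e => hfn.2 (e ▸ hpE.2)
  have hqf : q ≠ f := fun e => hfn.2 (e ▸ hqE.2)
  have hyf : y ≠ f := fun e => hfn.1 e.symm
  have hxΓ := hS hx
  have hcΓ := hS hcE.2
  have hpΓ := hS hpE.2
  have hqΓ := hS hqE.2
  -- `S = {x,c,p,q}`, `T = {x,c,y,f}`, `S' = {c,y,p,q}`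
  have r1 : R G Γ {x, c, p, q} {x, c, y, f} :=
    R.adj2 h bk hΓ hxΓ hcΓ hpΓ hqΓ hy hfΓ hcE.1.symm hpE.1.symm hqE.1.symm hxy hxf hcp hcq hcy hcf
      hpq hpy hpf hqy hqf hyf
  have r2 : R G Γ {c, y, x, f} {c, y, p, q} :=
    R.adj2 h bk hΓ hcΓ hy hxΓ hfΓ hpΓ hqΓ hcy hcE.1 hcf hcp hcq hxy.symm hyf hpy.symm hqy.symm hxf
      hpE.1.symm hqE.1.symm hpf.symm hqf.symm hpq
  have e1 : ({c, y, x, f} : Finset α) = {x, c, y, f} := by
    ext z; simp only [Finset.mem_insert, Finset.mem_singleton]; tauto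
  have e2 : insert y (S.erase x) = {c, y, p, q} := by
    rw [hE]
    ext z; simp only [Finset.mem_insert, Finset.mem_singleton]; tauto
  rw [e1] at r2
  rw [e2, hSeq]
  obtain ⟨g₀, hdt₀, hs₀, _⟩ := exists_dt h bk hΓ hxΓ hcΓ hy hfΓ hcE.1.symm hxy hxf hcy hcf hyf
  exact R.trans ⟨g₀, hdt₀, hs₀⟩ r1 r2

/-- Johnson graph connectivity -/
theorem R.all (h : Cfg G k) (bk : BK G k) {Γ : Finset α} (hΓ : Γ.card + 1 = k) (hk7 : 7 ≤ k) :
    ∀ (n : ℕ) (S S' : Finset α), S ⊆ Γ → S' ⊆ Γ → S.card = 4 → S'.card = 4 → (S \ S').card = n →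
      R G Γ S S' := by
  intro n
  induction n with
  | zero =>
    intro S S' _ _ hS4 hS'4 hn
    have hsub : S ⊆ S' := by
      rw [Finset.card_eq_zero, Finset.sdiff_eq_empty_iff_subset] at hn
      exact hn
    have : S = S' := Finset.eq_of_subset_of_card_le hsub (by rw [hS4, hS'4])
    rw [this]
    exact R.refl bk hΓ S'
  | succ n ih =>
    intro S S' hS hS' hS4 hS'4 hn
    obtain ⟨x, hx⟩ : (S \ S').Nonempty := by rw [← Finset.card_pos, hn]; omega
    have hcardeq : (S' \ S).card = (S \ S').card := by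
      have h1 := Finset.card_sdiff_add_card_inter S S'
      have h2 := Finset.card_sdiff_add_card_inter S' S
      rw [Finset.inter_comm] at h2
      omega
    obtain ⟨y, hy⟩ : (S' \ S).Nonempty := by rw [← Finset.card_pos, hcardeq, hn]; omega
    rw [Finset.mem_sdiff] at hx hy
    have hS₁ : insert y (S.erase x) ⊆ Γ := by
      intro z hz
      rw [Finset.mem_insert] at hz
      rcases hz with rfl | hz
      · exact hS' hy.1
      · exact hS (Finset.mem_of_mem_erase hz)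
    have hS₁4 : (insert y (S.erase x)).card = 4 := by
      rw [Finset.card_insert_of_notMem (fun hm => hy.2 (Finset.mem_of_mem_erase hm)),
        Finset.card_erase_of_mem hx.1, hS4]
    have hdiff : (insert y (S.erase x) \ S').card = n := by
      have : insert y (S.erase x) \ S' = (S \ S').erase x := by
        ext z
        simp only [Finset.mem_sdiff, Finset.mem_insert, Finset.mem_erase]
        constructor
        · rintro ⟨hz | hz, hzn⟩
          · exact absurd (hz ▸ hy.1) hzn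
          · exact ⟨hz.1, hz.2, hzn⟩
        · rintro ⟨hzx, hzS, hzn⟩
          exact ⟨Or.inr ⟨hzx, hzS⟩, hzn⟩
      rw [this, Finset.card_erase_of_mem (Finset.mem_sdiff.mpr hx), hn]
      rfl
    have r1 : R G Γ S (insert y (S.erase x)) := R.adj3 h bk hΓ hk7 hS hS4 hx.1 (hS' hy.1) hy.2
    have r2 : R G Γ (insert y (S.erase x)) S' := ih _ _ hS₁ hS' hS₁4 hS'4 hdiff
    -- nonemptiness for the middle support
    have h3 : ((insert y (S.erase x)).erase y).card = 3 := by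
      rw [Finset.card_erase_of_mem (Finset.mem_insert_self _ _), hS₁4]
    obtain ⟨c, p, q, hcp, hcq, hpq, hE⟩ := Finset.card_eq_three.mp h3
    have hcE : c ∈ (insert y (S.erase x)).erase y := by rw [hE]; simp
    have hpE : p ∈ (insert y (S.erase x)).erase y := by rw [hE]; simp
    have hqE : q ∈ (insert y (S.erase x)).erase y := by rw [hE]; simp
    rw [Finset.mem_erase] at hcE hpE hqE
    have hSeq : insert y (S.erase x) = {y, c, p, q} := by
      rw [← Finset.insert_erase (Finset.mem_insert_self y (S.erase x)), hE]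
    obtain ⟨g₀, hdt₀, hs₀, _⟩ := exists_dt h bk hΓ (hS' hy.1) (hS₁ hcE.2) (hS₁ hpE.2) (hS₁ hqE.2)
      hcE.1.symm hpE.1.symm hqE.1.symm hcp hcq hpq
    exact R.trans ⟨g₀, hdt₀, hs₀.trans hSeq.symm⟩ r1 r2

end BII

open BIV BII in
theorem common_fix_of_seven_le_alt (h : Cfg G k) (_w : WK G k) (bk : BK G k) (hk7 : 7 ≤ k) :
    ∀ Γ : Finset α, Γ.card + 1 = k → ∃ δ, δ ∉ Γ ∧ ∀ g, IsDT G Γ g → g δ = δ := by
  intro Γ hΓ
  obtain ⟨a, ha, b, hb, c, hc, d, hd, hab, hac, had, hbc, hbd, hcd⟩ :=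
    exists_four (Γ := Γ) (by omega)
  obtain ⟨g₀, hdt₀, hs₀, _⟩ := exists_dt h bk hΓ ha hb hc hd hab hac had hbc hbd hcd
  obtain ⟨δ, hδΓ, hδfix, _⟩ := bk.dt_fix Γ hΓ g₀ hdt₀
  refine ⟨δ, hδΓ, ?_⟩
  intro g hg
  have hsub₀ : supp Γ g₀ ⊆ Γ := Finset.filter_subset _ _
  have hsub : supp Γ g ⊆ Γ := Finset.filter_subset _ _
  have hr := R.all h bk hΓ hk7 _ (supp Γ g₀) (supp Γ g) hsub₀ hsub hdt₀.2.2.2 hg.2.2.2 rfl
  exact hr g₀ g hdt₀ hg rfl rfl δ hδΓ hδfix

end Cfsg.Agent.Lib.Helper1.LW
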