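import Mathlib
import Cfsg.Agent.Lib.Helper2.Basic

/-!
# Groups in which every noncentral element has a maximal centralizer: structure of centralizers
-/

set_option autoImplicit false

namespace Cfsg.Agent.Lib.Helper8

universe u

section

variable {G : Type u} [Group G]

/-- Every noncentral element has a maximal centralizer. -/
def MaxCent (G : Type u) [Group G] : Prop :=
  ∀ g : G, g ∉ Subgroup.center G → IsCoatom (Subgroup.centralizer ({g} : Set G))

theorem centralizer_singleton_le_pow (m : G) (k : ℕ) :
    Subgroup.centralizer ({m} : Set G) ≤ Subgroup.centralizer ({m ^ k} : Set G) := by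
  intro g hg
  rw [Subgroup.mem_centralizer_singleton_iff] at hg ⊢
  exact ((Commute.pow_right (show Commute g m from hg) k)).eq

theorem not_mem_center_of_ne_one (hZ : Subgroup.center G = ⊥) {t : G} (ht : t ≠ 1) :
    t ∉ Subgroup.center G := by
  rw [hZ, Subgroup.mem_bot]
  exact ht

/-- The quotient by the centre inherits the hypothesis. -/
theorem maxCent_quotient_center (hG : MaxCent G) : MaxCent (G ⧸ Subgroup.center G) := by
  intro gb hgb
  obtain ⟨g, rfl⟩ := QuotientGroup.mk_surjective gb
  have hg : g ∉ Subgroup.center G := by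
    intro hg
    apply hgb
    have : (QuotientGroup.mk g : G ⧸ Subgroup.center G) = 1 := (QuotientGroup.eq_one_iff g).2 hg
    rw [this]
    exact Subgroup.one_mem _
  have hC := hG g hg
  have hZC : Subgroup.center G ≤ Subgroup.centralizer ({g} : Set G) :=
    Subgroup.center_le_centralizer _
  have hmap := Cfsg.Agent.Lib.Helper2.isCoatom_map_mk (Subgroup.center G) hC hZC
  have hle : (Subgroup.centralizer ({g} : Set G)).map (QuotientGroup.mk' (Subgroup.center G)) ≤
      Subgroup.centralizer ({(QuotientGroup.mk g : G ⧸ Subgroup.center G)} : Set _) := by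
    rintro _ ⟨c, hc, rfl⟩
    rw [Subgroup.mem_centralizer_singleton_iff]
    rw [SetLike.mem_coe, Subgroup.mem_centralizer_singleton_iff] at hc
    rw [QuotientGroup.mk'_apply, ← QuotientGroup.mk_mul, ← QuotientGroup.mk_mul, hc]
  have hne : Subgroup.centralizer ({(QuotientGroup.mk g : G ⧸ Subgroup.center G)} : Set _) ≠ ⊤ := by
    intro h
    apply hgb
    rw [Subgroup.mem_center_iff]
    intro y
    have hy : y ∈ Subgroup.centralizer ({(QuotientGroup.mk g : G ⧸ Subgroup.center G)} : Set _) := by
      rw [h]; exact Subgroup.mem_top y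
    rw [Subgroup.mem_centralizer_singleton_iff] at hy
    exact hy
  have := (hmap.le_iff_eq hne).1 hle
  rw [this]
  exact hmap

/-- In a group with trivial centre in which all nontrivial centralizers are maximal, every
centralizer of a nonidentity element is abelian or of prime exponent. -/
theorem maxCent_exponent (hG : MaxCent G) (hZ : Subgroup.center G = ⊥) {x : G}
    (hx : x ≠ 1)
    (hna : ¬ ∀ a ∈ Subgroup.centralizer ({x} : Set G), ∀ b ∈ Subgroup.centralizer ({x} : Set G),
      a * b = b * a) (hfin : ∀ g : G, 0 < orderOf g) :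
    ∃ r : ℕ, r.Prime ∧ ∀ m ∈ Subgroup.centralizer ({x} : Set G), m ^ r = 1 := by
  set M := Subgroup.centralizer ({x} : Set G) with hMdef
  have hM : IsCoatom M := hG x (not_mem_center_of_ne_one hZ hx)
  have hco : ∀ t : G, t ≠ 1 → IsCoatom (Subgroup.centralizer ({t} : Set G)) := fun t ht =>
    hG t (not_mem_center_of_ne_one hZ ht)
  -- the centre of `M` as a predicate
  let inA : G → Prop := fun a => a ∈ M ∧ ∀ m ∈ M, m * a = a * m
  -- (ii) centralizers of nonidentity elements of `A`
  have hii : ∀ a : G, inA a → a ≠ 1 → Subgroup.centralizer ({a} : Set G) = M := by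
    intro a ha ha1
    have hle : M ≤ Subgroup.centralizer ({a} : Set G) := by
      intro m hm
      rw [Subgroup.mem_centralizer_singleton_iff]
      exact ha.2 m hm
    exact (hM.le_iff_eq (hco a ha1).1).1 hle
  have hpowA : ∀ a : G, inA a → ∀ k : ℕ, inA (a ^ k) := by
    intro a ha k
    refine ⟨M.pow_mem ha.1 k, fun m hm => ?_⟩
    exact ((Commute.pow_right (show Commute m a from ha.2 m hm) k)).eq
  -- (iii) the key comparison of orders
  have hiii : ∀ a : G, inA a → a ≠ 1 → ∀ m ∈ M, ¬ inA m → orderOf a = orderOf m := by
    intro a ha ha1 m hm hmA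
    have hm1 : m ≠ 1 := by
      rintro rfl
      apply hmA
      exact ⟨M.one_mem, fun m' _ => by rw [mul_one, one_mul]⟩
    have hcomm : Commute a m := (ha.2 m hm).symm
    have hCa := hii a ha ha1
    by_contra hne
    rcases lt_or_gt_of_ne hne with hlt | hgt
    · -- `o(a) < o(m)`
      set t := m ^ orderOf a with ht
      have ht1 : t ≠ 1 := by
        intro h
        have hdvd : orderOf m ∣ orderOf a := orderOf_dvd_of_pow_eq_one h
        exact absurd (Nat.le_of_dvd (hfin a) hdvd) (not_le.2 hlt)
      have hw : (a * m) ^ orderOf a = t := by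
        rw [hcomm.mul_pow, pow_orderOf_eq_one, one_mul]
      have hw1 : a * m ≠ 1 := by
        intro h
        rw [h, one_pow] at hw
        exact ht1 hw.symm
      have h1 : Subgroup.centralizer ({t} : Set G) = Subgroup.centralizer ({m} : Set G) :=
        ((hco m hm1).le_iff_eq (hco t ht1).1).1 (centralizer_singleton_le_pow m _)
      have h2 : Subgroup.centralizer ({t} : Set G) = Subgroup.centralizer ({a * m} : Set G) := by
        have := centralizer_singleton_le_pow (a * m) (orderOf a)
        rw [hw] at this
        exact ((hco (a * m) hw1).le_iff_eq (hco t ht1).1).1 this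
      have h3 : Subgroup.centralizer ({m} : Set G) ≤ M := by
        intro g hg
        have hg2 : g ∈ Subgroup.centralizer ({a * m} : Set G) := by rw [← h2, h1]; exact hg
        rw [Subgroup.mem_centralizer_singleton_iff] at hg hg2
        rw [← hCa, Subgroup.mem_centralizer_singleton_iff]
        -- g commutes with a*m and with m, hence with a
        have e1 : g * a * m = a * g * m := by
          calc g * a * m = g * (a * m) := by rw [mul_assoc]
            _ = a * m * g := hg2
            _ = a * (m * g) := by rw [mul_assoc]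
            _ = a * (g * m) := by rw [hg]
            _ = a * g * m := by rw [mul_assoc]
        exact mul_right_cancel e1
      have h4 : Subgroup.centralizer ({m} : Set G) = M :=
        ((hco m hm1).le_iff_eq hM.1).1 h3 |>.symm
      apply hmA
      refine ⟨hm, fun m' hm' => ?_⟩
      have : m' ∈ Subgroup.centralizer ({m} : Set G) := by rw [h4]; exact hm'
      rwa [Subgroup.mem_centralizer_singleton_iff] at this
    · -- `o(m) < o(a)`
      set t := a ^ orderOf m with ht
      have ht1 : t ≠ 1 := by
        intro h
        have hdvd : orderOf a ∣ orderOf m := orderOf_dvd_of_pow_eq_one h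
        exact absurd (Nat.le_of_dvd (hfin m) hdvd) (not_le.2 hgt)
      have htA : inA t := hpowA a ha _
      have hCt := hii t htA ht1
      have hw : (a * m) ^ orderOf m = t := by
        rw [hcomm.mul_pow, pow_orderOf_eq_one, mul_one]
      have hw1 : a * m ≠ 1 := by
        intro h
        rw [h, one_pow] at hw
        exact ht1 hw.symm
      have h2 : M = Subgroup.centralizer ({a * m} : Set G) := by
        have := centralizer_singleton_le_pow (a * m) (orderOf m)
        rw [hw, hCt] at this
        exact ((hco (a * m) hw1).le_iff_eq hM.1).1 this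
      apply hmA
      refine ⟨hm, fun g hg => ?_⟩
      have hg2 : g ∈ Subgroup.centralizer ({a * m} : Set G) := by rw [← h2]; exact hg
      rw [Subgroup.mem_centralizer_singleton_iff] at hg2
      have hga : g * a = a * g := ha.2 g hg
      -- g commutes with a*m and a, hence with m
      have e1 : a * (g * m) = a * (m * g) := by
        calc a * (g * m) = a * g * m := by rw [mul_assoc]
          _ = g * a * m := by rw [hga]
          _ = g * (a * m) := by rw [mul_assoc]
          _ = a * m * g := hg2
          _ = a * (m * g) := by rw [mul_assoc]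
      exact mul_left_cancel e1
  -- `x` lies in `A`
  have hxM : x ∈ M := by
    rw [hMdef, Subgroup.mem_centralizer_singleton_iff]
  have hxA : inA x := by
    refine ⟨hxM, fun m hm => ?_⟩
    rw [hMdef, Subgroup.mem_centralizer_singleton_iff] at hm
    exact hm
  -- an element outside `A`
  obtain ⟨m₀, hm₀, hm₀A⟩ : ∃ m₀ ∈ M, ¬ inA m₀ := by
    by_contra hcon
    push Not at hcon
    apply hna
    intro a ha b hb
    exact ((hcon b hb).2 a ha)
  set n := orderOf x with hn
  have hn1 : n ≠ 1 := by
    rw [hn, Ne, orderOf_eq_one_iff]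
    exact hx
  have hAll : ∀ m ∈ M, m ≠ 1 → orderOf m = n := by
    intro m hm hm1
    by_cases hmA : inA m
    · rw [hiii m hmA hm1 m₀ hm₀ hm₀A, hn, hiii x hxA hx m₀ hm₀ hm₀A]
    · rw [hn, hiii x hxA hx m hm hmA]
  -- `n` is prime
  have hr : (n.minFac).Prime := Nat.minFac_prime hn1
  have hrn : n.minFac ∣ n := Nat.minFac_dvd n
  have hn0 : 0 < n := hfin x
  obtain ⟨k, hk⟩ := hrn
  have hk0 : k ≠ 0 := by
    rintro rfl
    rw [mul_zero] at hk
    omega
  have hord : orderOf (x ^ k) = n.minFac := by
    rw [orderOf_pow' x hk0, ← hn]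
    conv_lhs => rw [hk]
    rw [Nat.gcd_mul_left_left, Nat.mul_div_cancel _ (Nat.pos_of_ne_zero hk0)]
  have hxk1 : x ^ k ≠ 1 := by
    intro h
    rw [h, orderOf_one] at hord
    exact hr.ne_one hord.symm
  have hnr : n.minFac = n := by
    rw [← hord]
    exact hAll _ (M.pow_mem hxM k) hxk1
  refine ⟨n, hnr ▸ hr, fun m hm => ?_⟩
  by_cases hm1 : m = 1
  · rw [hm1, one_pow]
  · rw [← hAll m hm hm1]
    exact pow_orderOf_eq_one m

end

end Cfsg.Agent.Lib.Helper8
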