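import Mathlib
import Cfsg.Agent.Lib.Helper8.MC1
import Cfsg.Agent.S4040
import Cfsg.Agent.S0035
import Cfsg.Agent.S0042

/-!
# Groups in which every noncentral element has a maximal centralizer are solvable
-/

set_option autoImplicit false

namespace Cfsg.Agent.Lib.Helper8

open Cfsg
open scoped Pointwise

universe u

section

variable {G : Type u} [Group G]

theorem isSolvable_of_abelian_normal_coatom [Finite G] (M : Subgroup G) (hM : IsCoatom M)
    (hab : ∀ a ∈ M, ∀ b ∈ M, a * b = b * a) (hn : M.Normal) : Group.IsSolvable G := by
  obtain ⟨g, hg⟩ : ∃ g : G, g ∉ M := by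
    by_contra h
    push Not at h
    exact hM.1 (eq_top_iff.2 fun y _ => h y)
  have htop : M ⊔ Subgroup.zpowers g = ⊤ := by
    apply hM.2
    refine lt_of_le_of_ne le_sup_left ?_
    intro h
    apply hg
    rw [h]
    exact (le_sup_right : Subgroup.zpowers g ≤ _) (Subgroup.mem_zpowers g)
  have hgen : ∀ y : G ⧸ M, ∃ k : ℤ, (QuotientGroup.mk g : G ⧸ M) ^ k = y := by
    intro y
    obtain ⟨y, rfl⟩ := QuotientGroup.mk_surjective y
    have hy : y ∈ M ⊔ Subgroup.zpowers g := by rw [htop]; exact Subgroup.mem_top y
    rw [← SetLike.mem_coe, Subgroup.normal_mul] at hy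
    obtain ⟨m, hm, z, hz, rfl⟩ := hy
    obtain ⟨k, rfl⟩ := Subgroup.mem_zpowers_iff.1 hz
    refine ⟨k, ?_⟩
    rw [QuotientGroup.mk_mul, (QuotientGroup.eq_one_iff m).2 hm, one_mul, QuotientGroup.mk_zpow]
  have hcomm : ∀ a b : G ⧸ M, a * b = b * a := by
    intro a b
    obtain ⟨i, rfl⟩ := hgen a
    obtain ⟨j, rfl⟩ := hgen b
    rw [← zpow_add, ← zpow_add, add_comm]
  haveI : Group.IsSolvable (G ⧸ M) := Group.isSolvable_of_comm hcomm
  haveI : Group.IsSolvable M := Group.isSolvable_of_comm (fun a b => Subtype.ext (hab a a.2 b b.2))
  exact Group.isSolvable_of_ker_le_range M.subtype (QuotientGroup.mk' M) (by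
    rw [QuotientGroup.ker_mk', Subgroup.range_subtype])

theorem isSolvable_of_abelian_frobenius [Finite G] (M : Subgroup G)
    (hab : ∀ a ∈ M, ∀ b ∈ M, a * b = b * a) (hF : IsFrobeniusComplement M) : Group.IsSolvable G := by
  obtain ⟨N, hN, hNn, hNnil⟩ := Cfsg.Agent.S0042.result M hF
  obtain ⟨N', hN', _, hcompl⟩ := Cfsg.Agent.S0035.result M hF
  have hNN : N' = N := SetLike.coe_injective (hN'.trans hN.symm)
  subst hNN
  have hcomm : ∀ a b : G ⧸ N', a * b = b * a := by
    have hrep : ∀ y : G ⧸ N', ∃ m ∈ M, (QuotientGroup.mk m : G ⧸ N') = y := by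
      intro y
      obtain ⟨y, rfl⟩ := QuotientGroup.mk_surjective y
      obtain ⟨⟨n, m⟩, hnm, -⟩ := hcompl.existsUnique y
      refine ⟨m, m.2, ?_⟩
      rw [← hnm]
      simp only
      rw [QuotientGroup.mk_mul, (QuotientGroup.eq_one_iff (n : G)).2 n.2, one_mul]
    intro a b
    obtain ⟨m1, hm1, rfl⟩ := hrep a
    obtain ⟨m2, hm2, rfl⟩ := hrep b
    rw [← QuotientGroup.mk_mul, ← QuotientGroup.mk_mul, hab m1 hm1 m2 hm2]
  haveI : Group.IsSolvable (G ⧸ N') := Group.isSolvable_of_comm hcomm
  haveI : Group.IsSolvable N' := by
    haveI := hNnil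
    infer_instance
  exact Group.isSolvable_of_ker_le_range N'.subtype (QuotientGroup.mk' N') (by
    rw [QuotientGroup.ker_mk', Subgroup.range_subtype])

end

theorem isSolvable_of_maxCent_aux : ∀ (n : ℕ) (G : Type u) [Group G] [Finite G],
    Nat.card G = n → MaxCent G → Group.IsSolvable G := by
  intro n
  induction n using Nat.strong_induction_on with
  | _ n ih =>
  intro G _ _ hcard hG
  by_cases hZ : Subgroup.center G = ⊥
  · by_cases htriv : ∀ x : G, x = 1
    · exact Group.isSolvable_of_comm (fun a b => by rw [htriv a, htriv b])
    push Not at htriv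
    obtain ⟨x, hx⟩ := htriv
    have hfin : ∀ g : G, 0 < orderOf g := fun g => orderOf_pos g
    have hco : ∀ t : G, t ≠ 1 → IsCoatom (Subgroup.centralizer ({t} : Set G)) := fun t ht =>
      hG t (not_mem_center_of_ne_one hZ ht)
    set M := Subgroup.centralizer ({x} : Set G) with hMdef
    have hM : IsCoatom M := hco x hx
    have hxM : x ∈ M := by
      rw [hMdef, Subgroup.mem_centralizer_singleton_iff]
    by_cases hab : ∀ a ∈ M, ∀ b ∈ M, a * b = b * a
    · by_cases hn : M.Normal
      · exact isSolvable_of_abelian_normal_coatom M hM hab hn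
      · apply isSolvable_of_abelian_frobenius M hab
        refine ⟨?_, hM.1, ?_⟩
        · intro h
          rw [h, Subgroup.mem_bot] at hxM
          exact hx hxM
        · intro g hg
          rw [Subgroup.eq_bot_iff_forall]
          intro t ht
          by_contra ht1
          have htM : t ∈ M := ht.1
          have htg : t ∈ MulAut.conj g • M := ht.2
          have hCt := hco t ht1
          have h1 : M ≤ Subgroup.centralizer ({t} : Set G) := by
            intro m hm
            rw [Subgroup.mem_centralizer_singleton_iff]
            exact hab m hm t htM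
          have h1' : Subgroup.centralizer ({t} : Set G) = M := (hM.le_iff_eq hCt.1).1 h1
          have h2 : MulAut.conj g • M ≤ M := by
            refine le_trans ?_ h1'.le
            intro y hy
            rw [Subgroup.mem_centralizer_singleton_iff]
            obtain ⟨m, hm, rfl⟩ := hy
            obtain ⟨m', hm', rfl⟩ := htg
            simp only [MulDistribMulAction.toMonoidEnd_apply, MulDistribMulAction.toMonoidHom_apply,
              MulAut.smul_def, MulAut.conj_apply]
            have := hab m hm m' hm'
            calc g * m * g⁻¹ * (g * m' * g⁻¹) = g * (m * m') * g⁻¹ := by group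
              _ = g * (m' * m) * g⁻¹ := by rw [this]
              _ = g * m' * g⁻¹ * (g * m * g⁻¹) := by group
          have h3 : MulAut.conj g • M = M := by
            apply Subgroup.eq_of_le_of_card_ge h2
            exact (Nat.card_congr (Subgroup.equivSMul (MulAut.conj g) M).toEquiv).le
          have h4 : g ∈ Subgroup.normalizer (M : Set G) := by
            rw [Subgroup.mem_normalizer_iff]
            intro h
            constructor
            · intro hh
              have : g * h * g⁻¹ ∈ MulAut.conj g • M := ⟨h, hh, by simp [MulAut.smul_def]⟩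
              rwa [h3] at this
            · intro hh
              rw [← h3] at hh
              obtain ⟨m, hm, hmeq⟩ := hh
              simp only [MulDistribMulAction.toMonoidEnd_apply,
                MulDistribMulAction.toMonoidHom_apply, MulAut.smul_def, MulAut.conj_apply] at hmeq
              have : m = h := by
                have := congrArg (fun z => g⁻¹ * z * g) hmeq
                simpa [mul_assoc] using this
              rw [← this]
              exact hm
          have h5 : M ≤ Subgroup.normalizer (M : Set G) := Subgroup.le_normalizer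
          rcases (hM.le_iff).1 h5 with h6 | h6
          · exact hn (Subgroup.normalizer_eq_top_iff.1 h6)
          · rw [h6] at h4
            exact hg h4
    · obtain ⟨r, hr, hexp⟩ := maxCent_exponent hG hZ hx hab hfin
      haveI : Fact r.Prime := ⟨hr⟩
      have hr2 : r ≠ 2 := by
        rintro rfl
        apply hab
        intro a ha b hb
        have h1 := hexp a ha
        have h2 := hexp b hb
        have h3 := hexp (a * b) (M.mul_mem ha hb)
        have ha' : a⁻¹ = a := by
          rw [inv_eq_iff_mul_eq_one, ← pow_two]; exact h1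
        have hb' : b⁻¹ = b := by
          rw [inv_eq_iff_mul_eq_one, ← pow_two]; exact h2
        have hab' : (a * b)⁻¹ = a * b := by
          rw [inv_eq_iff_mul_eq_one, ← pow_two]; exact h3
        rw [← hab', mul_inv_rev, ha', hb']
      have hP : IsPGroup r M := by
        intro m
        refine ⟨1, ?_⟩
        rw [pow_one]
        exact Subtype.ext (by simpa using hexp m m.2)
      obtain ⟨k, hk⟩ := hP.exists_card_eq
      have hodd : Odd (Nat.card M) := by
        rw [hk]
        exact (hr.eq_two_or_odd'.resolve_left hr2).pow
      exact Cfsg.Agent.S4040.result M hM hP.isNilpotent hodd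
  · -- nontrivial centre: pass to the quotient
    have hlt : Nat.card (G ⧸ Subgroup.center G) < n := by
      rw [← hcard, Subgroup.card_eq_card_quotient_mul_card_subgroup (Subgroup.center G)]
      have h1 : 1 < Nat.card (Subgroup.center G) := by
        rw [Subgroup.one_lt_card_iff_ne_bot]
        exact hZ
      have h0 : 0 < Nat.card (G ⧸ Subgroup.center G) := Nat.card_pos
      nlinarith
    haveI : Group.IsSolvable (G ⧸ Subgroup.center G) :=
      ih _ hlt (G ⧸ Subgroup.center G) rfl (maxCent_quotient_center hG)
    haveI : Group.IsSolvable (Subgroup.center G) :=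
      Group.isSolvable_of_comm (fun a b => Subtype.ext ((Subgroup.mem_center_iff.1 a.2 b).symm))
    exact Group.isSolvable_of_ker_le_range (Subgroup.center G).subtype
      (QuotientGroup.mk' (Subgroup.center G)) (by
        rw [QuotientGroup.ker_mk', Subgroup.range_subtype])

theorem isSolvable_of_maxCent {G : Type u} [Group G] [Finite G] (hG : MaxCent G) : Group.IsSolvable G :=
  isSolvable_of_maxCent_aux _ G rfl hG

end Cfsg.Agent.Lib.Helper8
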