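import Mathlib

set_option autoImplicit false

/-!
# McLaughlin's theorem: abstract root relations (part 1)

An abstract "root relation" `R φ w` on `Module.Dual F V × V` modelling
`φ w = 0 ∧ (x ↦ x + φ x • w) ∈ H` for a subgroup `H` of `GL(V)`.
-/

namespace Cfsg.Agent.Lib.Helper8.ML

open Module

variable {F : Type*} [Field F] {V : Type*} [AddCommGroup V] [Module F V]

/-- abstract root relation -/
structure RootRel (F : Type*) [Field F] (V : Type*) [AddCommGroup V] [Module F V] where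
  R : Dual F V → V → Prop
  ort : ∀ {φ : Dual F V} {w : V}, R φ w → φ w = 0
  zl : ∀ w : V, R 0 w
  zr : ∀ φ : Dual F V, R φ 0
  addl : ∀ {φ φ' : Dual F V} {w : V}, R φ w → R φ' w → R (φ + φ') w
  addr : ∀ {φ : Dual F V} {w w' : V}, R φ w → R φ w' → R φ (w + w')
  smul : ∀ {φ : Dual F V} {w : V} (a : F), R φ w → R (a • φ) w
  swap : ∀ {φ : Dual F V} {w : V} (a : F), R (a • φ) w ↔ R φ (a • w)
  conj : ∀ {ψ φ : Dual F V} {u w : V}, R ψ u → R φ w → R (φ - φ u • ψ) (w + ψ w • u)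
  sp3 : ∀ {β γ : Dual F V} {u c : V}, R (β + γ) (u + c) → R (β - γ) (u - c) → R β u →
    β c = 0 → γ u = 0 → R γ c

namespace RootRel

variable (X : RootRel F V)

/-- nontrivial root pair -/
def NT (φ : Dual F V) (w : V) : Prop := X.R φ w ∧ φ ≠ 0 ∧ w ≠ 0

theorem congr {φ φ' : Dual F V} {w w' : V} (h : X.R φ w) (h1 : φ = φ') (h2 : w = w') :
    X.R φ' w' := by subst h1; subst h2; exact h

theorem smulr {φ : Dual F V} {w : V} (a : F) (h : X.R φ w) : X.R φ (a • w) :=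
  (X.swap a).mp (X.smul a h)

theorem negl {φ : Dual F V} {w : V} (h : X.R φ w) : X.R (-φ) w :=
  X.congr (X.smul (-1) h) (neg_one_smul F φ) rfl

theorem negr {φ : Dual F V} {w : V} (h : X.R φ w) : X.R φ (-w) :=
  X.congr (X.smulr (-1) h) rfl (neg_one_smul F w)

theorem subl {φ φ' : Dual F V} {w : V} (h : X.R φ w) (h' : X.R φ' w) : X.R (φ - φ') w :=
  X.congr (X.addl h (X.negl h')) (by rw [sub_eq_add_neg]) rfl

theorem subr {φ : Dual F V} {w w' : V} (h : X.R φ w) (h' : X.R φ w') : X.R φ (w - w') :=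
  X.congr (X.addr h (X.negr h')) rfl (by rw [sub_eq_add_neg])

/-- scaled conjugation -/
theorem conjk {ψ φ : Dual F V} {u w : V} (k : F) (h1 : X.R ψ u) (h2 : X.R φ w) :
    X.R (φ - (k * φ u) • ψ) (w + (k * ψ w) • u) := by
  have h := X.conj (X.smul k h1) h2
  refine X.congr h ?_ ?_
  · rw [smul_smul, mul_comm]
  · rw [LinearMap.smul_apply, smul_eq_mul]

/-- the commutator relation -/
theorem comm {ψ φ : Dual F V} {u w : V} (h1 : X.R ψ u) (h2 : X.R φ w) (hw : ψ w = 0)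
    (hu : φ u ≠ 0) : X.R ψ w := by
  have h := X.conj h1 h2
  rw [hw, zero_smul, add_zero] at h
  have h3 := X.subl h h2
  have h4 := X.smul (-(φ u)⁻¹) h3
  refine X.congr h4 ?_ rfl
  rw [sub_sub_cancel_left, smul_neg, neg_smul, neg_neg, smul_smul, inv_mul_cancel₀ hu, one_smul]

/-- every nontrivial pair has an opposite partner -/
def Opp : Prop := ∀ (φ : Dual F V) (w : V), X.R φ w → φ ≠ 0 → w ≠ 0 →
  ∃ (ψ : Dual F V) (u : V), X.R ψ u ∧ φ u ≠ 0 ∧ ψ w ≠ 0

/-- connectedness of the non-commuting graph on nontrivial pairs -/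
def Conn : Prop := ∀ S : Dual F V → V → Prop,
  (∀ (φ : Dual F V) (w : V) (a : F), a ≠ 0 → S φ w → S (a • φ) (a⁻¹ • w)) →
  (∃ (φ : Dual F V) (w : V), X.NT φ w ∧ S φ w) →
  (∀ (φ : Dual F V) (w : V) (ψ : Dual F V) (u : V), X.NT φ w → X.NT ψ u → S φ w → ¬ S ψ u →
    φ u = 0 ∧ ψ w = 0) →
  ∀ (φ : Dual F V) (w : V), X.NT φ w → S φ w

/-- the centre determines the axis (negation: some centre has two independent axes) -/
def D1 : Prop := ∀ (φ φ' : Dual F V) (w : V), X.NT φ w → X.NT φ' w → ∃ k : F, φ' = k • φ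

end RootRel

end Cfsg.Agent.Lib.Helper8.ML
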