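import Mathlib
import Cfsg.Agent.Lib.Helper8.ML1

set_option autoImplicit false

/-!
# McLaughlin's theorem: linear frames (part 2)
-/

namespace Cfsg.Agent.Lib.Helper8.ML

open Module

variable {F : Type*} [Field F] {V : Type*} [AddCommGroup V] [Module F V]

namespace RootRel

variable (X : RootRel F V)

/-- linear frame: an idempotent all of whose orthogonal pairs are root pairs -/
def IsSLFrame (π : V →ₗ[F] V) : Prop :=
  (∀ v, π (π v) = π v) ∧ ∀ (ψ : Dual F V) (v : V), ψ (π v) = 0 → X.R (ψ ∘ₗ π) (π v)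

/-- the projection onto the plane spanned by an opposite pair -/
def proj2 (φ ψ : Dual F V) (u w : V) : V →ₗ[F] V :=
  (φ u)⁻¹ • φ.smulRight u + (ψ w)⁻¹ • ψ.smulRight w

theorem proj2_apply (φ ψ : Dual F V) (u w v : V) :
    proj2 φ ψ u w v = ((φ u)⁻¹ * φ v) • u + ((ψ w)⁻¹ * ψ v) • w := by
  simp [proj2, LinearMap.smulRight_apply, smul_smul]

theorem base_aux {φ ψ : Dual F V} {u w : V} (h1 : X.R ψ u) (h2 : X.R φ w)
    (hu : φ u ≠ 0) (hw : ψ w ≠ 0) (a b α β : F)
    (h : α * a * φ u + β * b * ψ w = 0) : X.R (a • φ + b • ψ) (α • u + β • w) := by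
  by_cases hβ : β = 0
  · subst hβ
    rw [zero_smul, add_zero]
    by_cases hα : α = 0
    · subst hα
      rw [zero_smul]; exact X.zr _
    · have ha : a = 0 := by
        have : α * a * φ u = 0 := by simpa using h
        rcases mul_eq_zero.mp this with h3 | h3
        · rcases mul_eq_zero.mp h3 with h4 | h4
          · exact absurd h4 hα
          · exact h4
        · exact absurd h3 hu
      subst ha
      rw [zero_smul, zero_add]
      exact X.smulr α (X.smul b h1)
  · set k : F := α / (β * ψ w) with hk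
    have h3 := X.conjk k h1 h2
    have h4 := X.smulr β (X.smul a h3)
    refine X.congr h4 ?_ ?_
    · rw [smul_sub, smul_smul]
      have : -(a * (k * φ u)) = b := by
        rw [hk]
        field_simp
        linear_combination -h
      rw [sub_eq_add_neg, ← neg_smul, this]
    · rw [smul_add, smul_smul, add_comm]
      congr 2
      rw [hk]; field_simp

theorem slframe_base {φ ψ : Dual F V} {u w : V} (h1 : X.R ψ u) (h2 : X.R φ w)
    (hu : φ u ≠ 0) (hw : ψ w ≠ 0) : X.IsSLFrame (proj2 φ ψ u w) := by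
  have hψu : ψ u = 0 := X.ort h1
  have hφw : φ w = 0 := X.ort h2
  constructor
  · intro v
    rw [proj2_apply, proj2_apply]
    simp only [map_add, map_smul, smul_eq_mul, hψu, hφw, mul_zero, add_zero, zero_add]
    congr 2
    · field_simp
    · field_simp
  · intro ψ' v hv
    have e1 : ψ' ∘ₗ proj2 φ ψ u w = (ψ' u * (φ u)⁻¹) • φ + (ψ' w * (ψ w)⁻¹) • ψ := by
      ext x
      simp only [LinearMap.comp_apply, proj2_apply, map_add, map_smul, smul_eq_mul,
        LinearMap.add_apply, LinearMap.smul_apply]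
      ring
    rw [e1, proj2_apply]
    apply X.base_aux h1 h2 hu hw
    rw [proj2_apply] at hv
    simp only [map_add, map_smul, smul_eq_mul] at hv
    have : (φ u)⁻¹ * φ v * (ψ' u * (φ u)⁻¹) * φ u = (φ u)⁻¹ * φ v * ψ' u := by
      field_simp
    have h' : (ψ w)⁻¹ * ψ v * (ψ' w * (ψ w)⁻¹) * ψ w = (ψ w)⁻¹ * ψ v * ψ' w := by
      field_simp
    rw [this, h']
    exact hv

theorem proj2_left {φ ψ : Dual F V} {u w : V} (hψu : ψ u = 0) (hu : φ u ≠ 0) :
    proj2 φ ψ u w u = u := by
  rw [proj2_apply, hψu, mul_zero, zero_smul, add_zero, inv_mul_cancel₀ hu, one_smul]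

theorem proj2_right {φ ψ : Dual F V} {u w : V} (hφw : φ w = 0) (hw : ψ w ≠ 0) :
    proj2 φ ψ u w w = w := by
  rw [proj2_apply, hφw, mul_zero, zero_smul, zero_add, inv_mul_cancel₀ hw, one_smul]

theorem comp_proj2_left {φ ψ : Dual F V} {u w : V} (hφw : φ w = 0) (hu : φ u ≠ 0) :
    φ ∘ₗ proj2 φ ψ u w = φ := by
  ext x
  simp only [LinearMap.comp_apply, proj2_apply, map_add, map_smul, smul_eq_mul, hφw, mul_zero,
    add_zero]
  field_simp

theorem comp_proj2_right {φ ψ : Dual F V} {u w : V} (hψu : ψ u = 0) (hw : ψ w ≠ 0) :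
    ψ ∘ₗ proj2 φ ψ u w = ψ := by
  ext x
  simp only [LinearMap.comp_apply, proj2_apply, map_add, map_smul, smul_eq_mul, hψu, mul_zero,
    zero_add]
  field_simp

/-- extension of a linear frame by one dimension -/
theorem slframe_ext {π : V →ₗ[F] V} (hπ : X.IsSLFrame π) {c : V} {γ : Dual F V}
    (hc : π c = 0) (hγ : ∀ v, γ (π v) = 0) (hγc : γ c = 1)
    (hE : ∀ ψ : Dual F V, X.R (ψ ∘ₗ π) c) (hE' : ∀ v, X.R γ (π v)) :
    X.IsSLFrame (π + γ.smulRight c) := by
  have happ : ∀ v, (π + γ.smulRight c) v = π v + γ v • c := by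
    intro v; simp [LinearMap.smulRight_apply]
  constructor
  · intro v
    rw [happ, happ]
    simp only [map_add, map_smul, hc, smul_zero, add_zero, hπ.1, hγ, smul_eq_mul, hγc, mul_one,
      zero_add]
  · intro ψ v hv
    rw [happ] at hv ⊢
    have e1 : ψ ∘ₗ (π + γ.smulRight c) = ψ ∘ₗ π + ψ c • γ := by
      ext x
      simp only [LinearMap.comp_apply, happ, map_add, map_smul, smul_eq_mul, LinearMap.add_apply,
        LinearMap.smul_apply]
      ring
    rw [e1]
    simp only [map_add, map_smul, smul_eq_mul] at hv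
    by_cases ha : ψ c = 0
    · rw [ha, zero_smul, add_zero]
      rw [ha, mul_zero, add_zero] at hv
      exact X.addr (hπ.2 ψ v hv) (X.smulr _ (hE ψ))
    · -- conjugate (aγ, πv) by (ψ₁, c)
      have h1 : X.R ((-(ψ c)⁻¹ • ψ) ∘ₗ π) c := hE _
      have h2 : X.R (ψ c • γ) (π v) := X.smul _ (hE' v)
      have h3 := X.conj h1 h2
      refine X.congr h3 ?_ ?_
      · ext x
        simp only [LinearMap.sub_apply, LinearMap.smul_apply, LinearMap.comp_apply, smul_eq_mul,
          LinearMap.add_apply, hγc, mul_one, neg_mul]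
        field_simp
        ring
      · simp only [LinearMap.comp_apply, LinearMap.smul_apply, smul_eq_mul, hπ.1, neg_mul]
        congr 1
        congr 1
        have : ψ (π v) = -(γ v * ψ c) := by linear_combination hv
        rw [this]
        field_simp

end RootRel

end Cfsg.Agent.Lib.Helper8.ML
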