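import Mathlib
import Cfsg.Agent.Lib.Helper8.ML2

set_option autoImplicit false

/-!
# McLaughlin's theorem: maximal linear frames (part 3)
-/

namespace Cfsg.Agent.Lib.Helper8.ML

open Module

variable {F : Type*} [Field F] {V : Type*} [AddCommGroup V] [Module F V]

theorem exists_dual_vanish2 [FiniteDimensional F V] {π : V →ₗ[F] V} (hidem : ∀ v, π (π v) = π v)
    (h3 : 3 ≤ finrank F (LinearMap.range π)) (x y : V) :
    ∃ ψ : Dual F V, ψ ∘ₗ π ≠ 0 ∧ ψ (π x) = 0 ∧ ψ (π y) = 0 := by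
  let a : LinearMap.range π := ⟨π x, LinearMap.mem_range_self π x⟩
  let b : LinearMap.range π := ⟨π y, LinearMap.mem_range_self π y⟩
  let L : Dual F (LinearMap.range π) →ₗ[F] F × F :=
    (LinearMap.applyₗ a).prod (LinearMap.applyₗ b)
  have hlt : finrank F (F × F) < finrank F (Dual F (LinearMap.range π)) := by
    rw [Subspace.dual_finrank_eq, Module.finrank_prod, finrank_self]; omega
  have hker := LinearMap.ker_ne_bot_of_finrank_lt (f := L) hlt
  obtain ⟨ψ₀, hψ₀, hne⟩ := Submodule.exists_mem_ne_zero_of_ne_bot hker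
  rw [LinearMap.mem_ker] at hψ₀
  have h1 : ψ₀ a = 0 := congrArg Prod.fst hψ₀
  have h2 : ψ₀ b = 0 := congrArg Prod.snd hψ₀
  refine ⟨ψ₀ ∘ₗ π.rangeRestrict, ?_, ?_, ?_⟩
  · intro h0
    apply hne
    ext ⟨z, hz⟩
    obtain ⟨v, rfl⟩ := hz
    have := LinearMap.congr_fun h0 v
    simp only [LinearMap.comp_apply, LinearMap.zero_apply] at this
    rw [LinearMap.zero_apply, ← this]
    congr 1
    apply Subtype.ext
    simp [hidem]
  · have : π.rangeRestrict (π x) = a := Subtype.ext (by simp [a, hidem])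
    rw [LinearMap.comp_apply, this, h1]
  · have : π.rangeRestrict (π y) = b := Subtype.ext (by simp [b, hidem])
    rw [LinearMap.comp_apply, this, h2]

theorem exists_vec_vanish2 [FiniteDimensional F V] {π : V →ₗ[F] V} (_hidem : ∀ v, π (π v) = π v)
    (h3 : 3 ≤ finrank F (LinearMap.range π)) (φ ψ : Dual F V) :
    ∃ v : V, π v ≠ 0 ∧ φ (π v) = 0 ∧ ψ (π v) = 0 := by
  let L : LinearMap.range π →ₗ[F] F × F :=
    (φ ∘ₗ (LinearMap.range π).subtype).prod (ψ ∘ₗ (LinearMap.range π).subtype)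
  have hlt : finrank F (F × F) < finrank F (LinearMap.range π) := by
    rw [Module.finrank_prod, finrank_self]; omega
  have hker := LinearMap.ker_ne_bot_of_finrank_lt (f := L) hlt
  obtain ⟨⟨z, hz⟩, hz0, hne⟩ := Submodule.exists_mem_ne_zero_of_ne_bot hker
  rw [LinearMap.mem_ker] at hz0
  have h1 : φ z = 0 := congrArg Prod.fst hz0
  have h2 : ψ z = 0 := congrArg Prod.snd hz0
  obtain ⟨v, rfl⟩ := hz
  refine ⟨v, ?_, h1, h2⟩
  intro h0
  apply hne
  exact Subtype.ext h0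

theorem rank_lt_ext [FiniteDimensional F V] {π : V →ₗ[F] V} (hidem : ∀ v, π (π v) = π v)
    {c : V} {γ : Dual F V} (hc : π c = 0) (hc0 : c ≠ 0) (hγ : ∀ v, γ (π v) = 0) (hγc : γ c = 1) :
    finrank F (LinearMap.range π) < finrank F (LinearMap.range (π + γ.smulRight c)) := by
  have happ : ∀ v, (π + γ.smulRight c) v = π v + γ v • c := by
    intro v; simp [LinearMap.smulRight_apply]
  apply Submodule.finrank_lt_finrank_of_lt
  rw [SetLike.lt_iff_le_and_exists]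
  refine ⟨?_, c, ?_, ?_⟩
  · rintro _ ⟨v, rfl⟩
    refine ⟨π v, ?_⟩
    rw [happ, hidem, hγ, zero_smul, add_zero]
  · refine ⟨c, ?_⟩
    rw [happ, hc, hγc, one_smul, zero_add]
  · rintro ⟨v, hv⟩
    apply hc0
    rw [← hv, ← hidem v, hv, hc]

theorem rank_proj2 [FiniteDimensional F V] {φ ψ : Dual F V} {u w : V} (hψu : ψ u = 0)
    (hφw : φ w = 0) (hu : φ u ≠ 0) (hw : ψ w ≠ 0) :
    2 ≤ finrank F (LinearMap.range (RootRel.proj2 φ ψ u w)) := by
  have hu0 : u ≠ 0 := by rintro rfl; simp at hu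
  have h1 : finrank F (Submodule.span F {u}) = 1 := finrank_span_singleton hu0
  have hlt : Submodule.span F {u} < LinearMap.range (RootRel.proj2 φ ψ u w) := by
    rw [SetLike.lt_iff_le_and_exists]
    refine ⟨?_, w, ⟨w, RootRel.proj2_right hφw hw⟩, ?_⟩
    · rw [Submodule.span_singleton_le_iff_mem]
      exact ⟨u, RootRel.proj2_left hψu hu⟩
    · intro hmem
      obtain ⟨a, rfl⟩ := Submodule.mem_span_singleton.mp hmem
      rw [map_smul, hψu, smul_zero] at hw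
      exact hw rfl
  have := Submodule.finrank_lt_finrank_of_lt hlt
  omega

namespace RootRel

variable (X : RootRel F V)

theorem comp_proj2 (φ ψ ψ' : Dual F V) (u w : V) :
    ψ' ∘ₗ proj2 φ ψ u w = (ψ' u * (φ u)⁻¹) • φ + (ψ' w * (ψ w)⁻¹) • ψ := by
  ext x
  simp only [LinearMap.comp_apply, proj2_apply, map_add, map_smul, smul_eq_mul,
    LinearMap.add_apply, LinearMap.smul_apply]
  ring

/-- a centre with two independent axes yields a linear frame of rank three -/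
theorem exists_slframe_three [FiniteDimensional F V] (hopp : X.Opp) {ψ₁ ψ₂ : Dual F V} {u : V}
    (h1 : X.NT ψ₁ u) (h2 : X.NT ψ₂ u) (hind : ¬ ∃ k : F, ψ₂ = k • ψ₁) :
    ∃ π : V →ₗ[F] V, X.IsSLFrame π ∧ 3 ≤ finrank F (LinearMap.range π) := by
  obtain ⟨φ, w, hφw, hψ₁w, hφu⟩ := hopp ψ₁ u h1.1 h1.2.1 h1.2.2
  have hψ₁u : ψ₁ u = 0 := X.ort h1.1
  have hφw0 : φ w = 0 := X.ort hφw
  set ψ₂' : Dual F V := ψ₂ - (ψ₂ w / ψ₁ w) • ψ₁ with hψ₂'
  have hR2 : X.R ψ₂' u := X.subl h2.1 (X.smul _ h1.1)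
  have hψ₂'w : ψ₂' w = 0 := by
    simp only [hψ₂', LinearMap.sub_apply, LinearMap.smul_apply, smul_eq_mul]
    field_simp
    ring
  have hψ₂'u : ψ₂' u = 0 := X.ort hR2
  have hψ₂'ne : ψ₂' ≠ 0 := by
    intro h0
    apply hind
    exact ⟨ψ₂ w / ψ₁ w, sub_eq_zero.mp h0⟩
  have hR2w : X.R ψ₂' w := X.comm hR2 hφw hψ₂'w hφu
  set π := proj2 φ ψ₁ u w with hπdef
  have hfr : X.IsSLFrame π := X.slframe_base h1.1 hφw hφu hψ₁w
  have hψ₂'π : ∀ v, ψ₂' (π v) = 0 := by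
    intro v
    rw [hπdef, proj2_apply, map_add, map_smul, map_smul, hψ₂'u, hψ₂'w, smul_zero, smul_zero,
      add_zero]
  have hR2π : ∀ v, X.R ψ₂' (π v) := by
    intro v
    rw [hπdef, proj2_apply]
    exact X.addr (X.smulr _ hR2) (X.smulr _ hR2w)
  obtain ⟨φ', w', hφ'w', hψ₂'w', hφ'u⟩ := hopp ψ₂' u hR2 hψ₂'ne h1.2.2
  set x : V := (-(ψ₂' w')⁻¹) • π w' with hx
  have hRx : X.R ψ₂' x := X.smulr _ (hR2π w')
  have hcj := X.conj hRx hφ'w'
  set c : V := w' - π w' with hc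
  set φ'' : Dual F V := φ' - φ' x • ψ₂' with hφ''
  have hcR : X.R φ'' c := by
    refine X.congr hcj rfl ?_
    rw [hx, smul_smul, mul_neg, mul_inv_cancel₀ hψ₂'w', neg_one_smul, hc, sub_eq_add_neg]
  have hπc : π c = 0 := by rw [hc, map_sub, hfr.1, sub_self]
  have hψ₂'c : ψ₂' c ≠ 0 := by
    rw [hc, map_sub, hψ₂'π, sub_zero]; exact hψ₂'w'
  have hφ''u : φ'' u ≠ 0 := by
    rw [hφ'', LinearMap.sub_apply, LinearMap.smul_apply, hψ₂'u, smul_zero, sub_zero]
    exact hφ'u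
  have hψ₁c : ψ₁ c = 0 := by
    have := comp_proj2_right (φ := φ) (w := w) hψ₁u hψ₁w
    rw [← this, LinearMap.comp_apply, ← hπdef, hπc, map_zero]
  have hφc : φ c = 0 := by
    have := comp_proj2_left (ψ := ψ₁) (u := u) hφw0 hφu
    rw [← this, LinearMap.comp_apply, ← hπdef, hπc, map_zero]
  have hR1c : X.R ψ₁ c := X.comm h1.1 hcR hψ₁c hφ''u
  have hRφc : X.R φ c := X.comm hφw hR1c hφc hψ₁w
  have hE : ∀ ψ : Dual F V, X.R (ψ ∘ₗ π) c := by
    intro ψ
    rw [hπdef, comp_proj2]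
    exact X.addl (X.smul _ hRφc) (X.smul _ hR1c)
  have hc0 : c ≠ 0 := by rintro h0; rw [h0, map_zero] at hψ₂'c; exact hψ₂'c rfl
  refine ⟨π + ((ψ₂' c)⁻¹ • ψ₂').smulRight c, ?_, ?_⟩
  · apply X.slframe_ext hfr hπc
    · intro v; rw [LinearMap.smul_apply, hψ₂'π, smul_zero]
    · rw [LinearMap.smul_apply, smul_eq_mul, inv_mul_cancel₀ hψ₂'c]
    · exact hE
    · intro v; exact X.smul _ (hR2π v)
  · have hr2 : 2 ≤ finrank F (LinearMap.range π) := rank_proj2 hψ₁u hφw0 hφu hψ₁w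
    have hlt := rank_lt_ext (γ := (ψ₂' c)⁻¹ • ψ₂') hfr.1 hπc hc0
      (by intro v; rw [LinearMap.smul_apply, hψ₂'π, smul_zero])
      (by rw [LinearMap.smul_apply, smul_eq_mul, inv_mul_cancel₀ hψ₂'c])
    omega

end RootRel

end Cfsg.Agent.Lib.Helper8.ML
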