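import Mathlib
import Cfsg.Agent.Lib.Helper8.ML3

set_option autoImplicit false

/-!
# McLaughlin's theorem: the maximal linear frame argument (part 4)
-/

namespace Cfsg.Agent.Lib.Helper8.ML

open Module

variable {F : Type*} [Field F] {V : Type*} [AddCommGroup V] [Module F V]

namespace RootRel

variable (X : RootRel F V)

/-- Step 1: a root pair sticking out of the frame on the vector side gives an `E`-type vector. -/
theorem etype_of [FiniteDimensional F V] {π : V →ₗ[F] V} (hπ : X.IsSLFrame π)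
    (h3 : 3 ≤ finrank F (LinearMap.range π)) {φ : Dual F V} {w : V} (h : X.R φ w)
    (hφ : φ ∘ₗ π ≠ 0) : ∀ ψ : Dual F V, X.R (ψ ∘ₗ π) (w - π w) := by
  obtain ⟨v₀, hv₀⟩ : ∃ v₀, φ (π v₀) ≠ 0 := by
    by_contra hcon
    push Not at hcon
    exact hφ (LinearMap.ext hcon)
  obtain ⟨ψ₀, hψ₀ne, hψ₀u, hψ₀w⟩ := exists_dual_vanish2 hπ.1 h3 v₀ w
  have hf1 : X.R (ψ₀ ∘ₗ π) (π v₀) := hπ.2 ψ₀ v₀ hψ₀u
  have hc : X.R (ψ₀ ∘ₗ π) w := X.comm hf1 h hψ₀w hv₀
  have hf2 : X.R (ψ₀ ∘ₗ π) (π w) := hπ.2 ψ₀ w hψ₀w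
  have hc' : X.R (ψ₀ ∘ₗ π) (w - π w) := X.subr hc hf2
  obtain ⟨v₁, hv₁⟩ : ∃ v₁, ψ₀ (π v₁) ≠ 0 := by
    by_contra hcon
    push Not at hcon
    exact hψ₀ne (LinearMap.ext hcon)
  intro ψ
  set k : F := ψ (π v₁) / ψ₀ (π v₁) with hk
  set ψ₁ : Dual F V := ψ - k • ψ₀ with hψ₁
  have hψ₁v : ψ₁ (π v₁) = 0 := by
    simp only [hψ₁, hk, LinearMap.sub_apply, LinearMap.smul_apply, smul_eq_mul]
    field_simp
    ring
  have hf3 : X.R (ψ₁ ∘ₗ π) (π v₁) := hπ.2 ψ₁ v₁ hψ₁v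
  have h4 := X.conj hf3 hc'
  have e0 : (ψ₁ ∘ₗ π) (w - π w) = 0 := by
    rw [LinearMap.comp_apply, map_sub, hπ.1, sub_self, map_zero]
  rw [e0, zero_smul, add_zero] at h4
  have h5 := X.subl hc' h4
  rw [sub_sub_cancel] at h5
  have h6 := X.smul ((ψ₀ ∘ₗ π) (π v₁))⁻¹ h5
  rw [smul_smul, inv_mul_cancel₀ (by rw [LinearMap.comp_apply, hπ.1]; exact hv₁), one_smul] at h6
  have e1 : ψ ∘ₗ π = k • (ψ₀ ∘ₗ π) + ψ₁ ∘ₗ π := by
    ext z
    simp only [hψ₁, LinearMap.comp_apply, LinearMap.add_apply, LinearMap.smul_apply,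
      LinearMap.sub_apply, smul_eq_mul]
    ring
  rw [e1]
  exact X.addl (X.smul k hc') h6

/-- Step 1*: a root pair sticking out of the frame on the functional side gives an `E*`-type
functional. -/
theorem etype'_of [FiniteDimensional F V] {π : V →ₗ[F] V} (hπ : X.IsSLFrame π)
    (h3 : 3 ≤ finrank F (LinearMap.range π)) {φ : Dual F V} {w : V} (h : X.R φ w)
    (hw : π w ≠ 0) : ∀ v : V, X.R (φ - φ ∘ₗ π) (π v) := by
  obtain ⟨ψ₀, hψ₀⟩ : ∃ ψ₀ : Dual F V, ψ₀ (π w) ≠ 0 := by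
    by_contra hcon
    push Not at hcon
    exact hw ((Module.forall_dual_apply_eq_zero_iff F (π w)).mp hcon)
  obtain ⟨v₀, hv₀ne, h1, h2⟩ := exists_vec_vanish2 hπ.1 h3 ψ₀ φ
  have hf1 : X.R (ψ₀ ∘ₗ π) (π v₀) := hπ.2 ψ₀ v₀ h1
  have hc : X.R φ (π v₀) := X.comm h hf1 h2 hψ₀
  have hf2 : X.R (φ ∘ₗ π) (π v₀) := hπ.2 φ v₀ h2
  have hc' : X.R (φ - φ ∘ₗ π) (π v₀) := X.subl hc hf2
  obtain ⟨ψ₁, hψ₁⟩ : ∃ ψ₁ : Dual F V, ψ₁ (π v₀) ≠ 0 := by
    by_contra hcon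
    push Not at hcon
    exact hv₀ne ((Module.forall_dual_apply_eq_zero_iff F (π v₀)).mp hcon)
  intro v
  set k : F := ψ₁ (π v) / ψ₁ (π v₀) with hk
  have hu₁ : ψ₁ (π (v - k • v₀)) = 0 := by
    simp only [hk, map_sub, map_smul, smul_eq_mul]
    field_simp
    ring
  have hf3 : X.R (ψ₁ ∘ₗ π) (π (v - k • v₀)) := hπ.2 ψ₁ _ hu₁
  have h4 := X.conj hf3 hc'
  have e0 : (φ - φ ∘ₗ π) (π (v - k • v₀)) = 0 := by
    rw [LinearMap.sub_apply, LinearMap.comp_apply, hπ.1, sub_self]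
  rw [e0, zero_smul, sub_zero] at h4
  have h5 := X.subr h4 hc'
  rw [add_sub_cancel_left] at h5
  have h6 := X.smulr ((ψ₁ ∘ₗ π) (π v₀))⁻¹ h5
  rw [smul_smul, inv_mul_cancel₀ (by rw [LinearMap.comp_apply, hπ.1]; exact hψ₁), one_smul] at h6
  have e1 : π v = k • π v₀ + π (v - k • v₀) := by
    rw [map_sub, map_smul]; abel
  rw [e1]
  exact X.addr (X.smulr k hc') h6

/-- Step 2 -/
theorem no_both [FiniteDimensional F V] {π : V →ₗ[F] V} (hπ : X.IsSLFrame π)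
    (hmax : ∀ π' : V →ₗ[F] V, X.IsSLFrame π' →
      finrank F (LinearMap.range π') ≤ finrank F (LinearMap.range π))
    {c : V} {γ : Dual F V} (hc : π c = 0) (hE : ∀ ψ : Dual F V, X.R (ψ ∘ₗ π) c)
    (hγ : ∀ v, γ (π v) = 0) (hE' : ∀ v, X.R γ (π v)) : γ c = 0 := by
  by_contra hne
  have hc0 : c ≠ 0 := by rintro rfl; exact hne (map_zero γ)
  have h1 : ∀ v, ((γ c)⁻¹ • γ) (π v) = 0 := by
    intro v; rw [LinearMap.smul_apply, hγ, smul_zero]
  have h2 : ((γ c)⁻¹ • γ) c = 1 := by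
    rw [LinearMap.smul_apply, smul_eq_mul, inv_mul_cancel₀ hne]
  have hfr := X.slframe_ext hπ hc h1 h2 hE (fun v => X.smul _ (hE' v))
  have hlt := rank_lt_ext hπ.1 hc hc0 h1 h2
  exact absurd (hmax _ hfr) (not_le.mpr hlt)

/-- Step 3 -/
theorem no_etype [FiniteDimensional F V] (hopp : X.Opp) {π : V →ₗ[F] V} (hπ : X.IsSLFrame π)
    (h3 : 3 ≤ finrank F (LinearMap.range π))
    (hmax : ∀ π' : V →ₗ[F] V, X.IsSLFrame π' →
      finrank F (LinearMap.range π') ≤ finrank F (LinearMap.range π))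
    {c : V} (hc : π c = 0) (hE : ∀ ψ : Dual F V, X.R (ψ ∘ₗ π) c) : c = 0 := by
  by_contra hc0
  obtain ⟨ψ₀, hψ₀, -, -⟩ := exists_dual_vanish2 hπ.1 h3 0 0
  obtain ⟨φ, w, hφw, h1, h2⟩ := hopp (ψ₀ ∘ₗ π) c (hE ψ₀) hψ₀ hc0
  have h3' : X.R (((φ c)⁻¹ • φ) ∘ₗ π) c := hE _
  have h4 := X.conj h3' hφw
  set w' : V := w + (((φ c)⁻¹ • φ) ∘ₗ π) w • c with hw'
  have e1 : φ - φ c • (((φ c)⁻¹ • φ) ∘ₗ π) = φ - φ ∘ₗ π := by
    ext z
    simp only [LinearMap.sub_apply, LinearMap.smul_apply, LinearMap.comp_apply, smul_eq_mul]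
    field_simp
  rw [e1] at h4
  have hπw' : π w' = π w := by
    rw [hw', map_add, map_smul, hc, smul_zero, add_zero]
  have hπw : π w ≠ 0 := by
    intro h0
    apply h1
    rw [LinearMap.comp_apply, h0, map_zero]
  have h5 := X.etype'_of hπ h3 h4 (by rw [hπw']; exact hπw)
  have e2 : (φ - φ ∘ₗ π) - (φ - φ ∘ₗ π) ∘ₗ π = φ - φ ∘ₗ π := by
    ext z
    simp only [LinearMap.sub_apply, LinearMap.comp_apply, hπ.1, sub_self, sub_zero]
  rw [e2] at h5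
  have h6 := X.no_both hπ hmax hc hE
    (by intro v; rw [LinearMap.sub_apply, LinearMap.comp_apply, hπ.1, sub_self]) h5
  rw [LinearMap.sub_apply, LinearMap.comp_apply, hc, map_zero, sub_zero] at h6
  exact h2 h6

/-- Step 3* -/
theorem no_etype' [FiniteDimensional F V] (hopp : X.Opp) {π : V →ₗ[F] V} (hπ : X.IsSLFrame π)
    (h3 : 3 ≤ finrank F (LinearMap.range π))
    (hmax : ∀ π' : V →ₗ[F] V, X.IsSLFrame π' →
      finrank F (LinearMap.range π') ≤ finrank F (LinearMap.range π))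
    {γ : Dual F V} (hγ : ∀ v, γ (π v) = 0) (hE' : ∀ v, X.R γ (π v)) : γ = 0 := by
  by_contra hγ0
  obtain ⟨v₀, hv₀, -, -⟩ := exists_vec_vanish2 hπ.1 h3 0 0
  obtain ⟨φ, w, hφw, h1, h2⟩ := hopp γ (π v₀) (hE' v₀) hγ0 hv₀
  -- h1 : γ w ≠ 0, h2 : φ (π v₀) ≠ 0
  have h3' : X.R γ (π ((-(γ w)⁻¹) • w)) := hE' _
  have h4 := X.conj h3' hφw
  have e1 : w + γ w • π ((-(γ w)⁻¹) • w) = w - π w := by
    rw [map_smul, smul_smul, mul_neg, mul_inv_cancel₀ h1, neg_one_smul, sub_eq_add_neg]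
  rw [e1] at h4
  set φ' : Dual F V := φ - φ (π ((-(γ w)⁻¹) • w)) • γ with hφ'
  have hφ'π : φ' ∘ₗ π ≠ 0 := by
    intro h0
    apply h2
    have := LinearMap.congr_fun h0 (π v₀)
    simp only [hφ', LinearMap.comp_apply, LinearMap.sub_apply, LinearMap.smul_apply, hγ,
      smul_zero, sub_zero, LinearMap.zero_apply, hπ.1] at this
    exact this
  have h5 := X.etype_of hπ h3 h4 hφ'π
  have e2 : (w - π w) - π (w - π w) = w - π w := by
    rw [map_sub, hπ.1, sub_self, sub_zero]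
  rw [e2] at h5
  have h6 := X.no_both hπ hmax (by rw [map_sub, hπ.1, sub_self]) h5 hγ hE'
  rw [map_sub, hγ, sub_zero] at h6
  exact h1 h6

/-- Step 4: with a maximal linear frame of rank at least three, every nontrivial root pair lies
in the frame or commutes with it. -/
theorem msl [FiniteDimensional F V] (hopp : X.Opp) {π : V →ₗ[F] V} (hπ : X.IsSLFrame π)
    (h3 : 3 ≤ finrank F (LinearMap.range π))
    (hmax : ∀ π' : V →ₗ[F] V, X.IsSLFrame π' →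
      finrank F (LinearMap.range π') ≤ finrank F (LinearMap.range π))
    {φ : Dual F V} {w : V} (h : X.NT φ w) :
    (π w = w ∧ φ ∘ₗ π = φ) ∨ (π w = 0 ∧ φ ∘ₗ π = 0) := by
  have hA : w - π w = 0 ∨ φ ∘ₗ π = 0 := by
    by_contra hcon
    push Not at hcon
    have h5 := X.etype_of hπ h3 h.1 hcon.2
    exact hcon.1 (X.no_etype hopp hπ h3 hmax (by rw [map_sub, hπ.1, sub_self]) h5)
  have hB : φ - φ ∘ₗ π = 0 ∨ π w = 0 := by
    by_contra hcon
    push Not at hcon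
    have h5 := X.etype'_of hπ h3 h.1 hcon.2
    exact hcon.1 (X.no_etype' hopp hπ h3 hmax
      (by intro v; rw [LinearMap.sub_apply, LinearMap.comp_apply, hπ.1, sub_self]) h5)
  rcases hA with hA | hA
  · rcases hB with hB | hB
    · left
      exact ⟨(sub_eq_zero.mp hA).symm, (sub_eq_zero.mp hB).symm⟩
    · exfalso
      apply h.2.2
      rw [← sub_eq_zero.mp hA] at hB
      exact hB
  · rcases hB with hB | hB
    · exfalso
      apply h.2.1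
      rw [← sub_eq_zero.mp hB] at hA
      exact hA
    · right
      exact ⟨hB, hA⟩

/-- The linear case of the connected theorem. -/
theorem thmC_SL [FiniteDimensional F V] (hopp : X.Opp) (hconn : X.Conn)
    (hex : ∃ π : V →ₗ[F] V, X.IsSLFrame π ∧ 3 ≤ finrank F (LinearMap.range π)) :
    ∃ π : V →ₗ[F] V, X.IsSLFrame π ∧ 3 ≤ finrank F (LinearMap.range π) ∧
      ∀ (φ : Dual F V) (w : V), X.NT φ w → π w = w ∧ φ ∘ₗ π = φ := by
  classical
  -- choose a frame of maximal rank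
  let P : ℕ → Prop := fun n => ∃ π : V →ₗ[F] V, X.IsSLFrame π ∧
    3 ≤ finrank F (LinearMap.range π) ∧ finrank F (LinearMap.range π) = n
  have hP : ∃ n, n ≤ finrank F V ∧ P n := by
    obtain ⟨π, h1, h2⟩ := hex
    exact ⟨_, Submodule.finrank_le _, π, h1, h2, rfl⟩
  obtain ⟨n₀, hn₀, hPn₀⟩ := hP
  have hg := Nat.findGreatest_spec (P := P) hn₀ hPn₀
  obtain ⟨π, hπ, h3, hr⟩ := hg
  have hmax : ∀ π' : V →ₗ[F] V, X.IsSLFrame π' →
      finrank F (LinearMap.range π') ≤ finrank F (LinearMap.range π) := by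
    intro π' hπ'
    by_contra hlt
    push Not at hlt
    have h3' : 3 ≤ finrank F (LinearMap.range π') := by omega
    have := Nat.le_findGreatest (P := P) (Submodule.finrank_le (LinearMap.range π'))
      ⟨π', hπ', h3', rfl⟩
    omega
  refine ⟨π, hπ, h3, ?_⟩
  -- use connectedness
  have hS := hconn (fun φ w => π w = w ∧ φ ∘ₗ π = φ) ?_ ?_ ?_
  · exact hS
  · rintro φ w a ha ⟨h1, h2⟩
    refine ⟨?_, ?_⟩
    · rw [map_smul, h1]
    · rw [LinearMap.smul_comp, h2]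
  · -- a nontrivial frame pair
    obtain ⟨v₀, hv₀, -, -⟩ := exists_vec_vanish2 hπ.1 h3 0 0
    obtain ⟨ψ, hψ, hψv, -⟩ := exists_dual_vanish2 hπ.1 h3 v₀ v₀
    refine ⟨ψ ∘ₗ π, π v₀, ⟨hπ.2 ψ v₀ hψv, hψ, hv₀⟩, hπ.1 v₀, ?_⟩
    ext z
    simp only [LinearMap.comp_apply, hπ.1]
  · rintro φ w ψ u hNT hNT' ⟨h1, h2⟩ hnS
    rcases X.msl hopp hπ h3 hmax hNT' with h | h
    · exact absurd h hnS
    · constructor
      · rw [← h2, LinearMap.comp_apply, h.1, map_zero]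
      · rw [← h1, ← LinearMap.comp_apply, h.2, LinearMap.zero_apply]

end RootRel

end Cfsg.Agent.Lib.Helper8.ML
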