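import Mathlib
import Cfsg.Agent.Lib.Helper8.ML4

set_option autoImplicit false

/-!
# McLaughlin's theorem: symplectic frames (part 5)
-/

namespace Cfsg.Agent.Lib.Helper8.ML

open Module

variable {F : Type*} [Field F] {V : Type*} [AddCommGroup V] [Module F V]

/-- the wedge of two functionals -/
noncomputable def wedge (φ ψ : Dual F V) : LinearMap.BilinForm F V :=
  LinearMap.BilinForm.linMulLin φ ψ - LinearMap.BilinForm.linMulLin ψ φ

theorem wedge_apply (φ ψ : Dual F V) (x y : V) : wedge φ ψ x y = φ x * ψ y - ψ x * φ y := rfl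

/-- `beta B x = B(·, x)` -/
def beta (B : LinearMap.BilinForm F V) : V →ₗ[F] Dual F V := LinearMap.flip B

theorem beta_apply (B : LinearMap.BilinForm F V) (x y : V) : beta B x y = B y x := rfl

/-- a symplectic pre-frame: idempotent together with an alternating form living on its range -/
def IsSpPre (π : V →ₗ[F] V) (B : LinearMap.BilinForm F V) : Prop :=
  (∀ v, π (π v) = π v) ∧ (∀ x, B x x = 0) ∧ (∀ x y, B (π x) (π y) = B x y) ∧
  (∀ x, (∀ y, B y x = 0) → π x = 0)

namespace IsSpPre

variable {π : V →ₗ[F] V} {B : LinearMap.BilinForm F V}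

theorem anti (h : IsSpPre π B) (x y : V) : B x y = -B y x := by
  have h1 := h.2.1 (x + y)
  simp only [map_add, LinearMap.add_apply, h.2.1 x, h.2.1 y, zero_add, add_zero] at h1
  linear_combination h1

theorem left (h : IsSpPre π B) (x y : V) : B (π x) y = B x y := by
  have h1 := h.2.2.1 (π x) y
  rw [h.1] at h1
  rw [← h1, h.2.2.1]

theorem right (h : IsSpPre π B) (x y : V) : B x (π y) = B x y := by
  have h1 := h.2.2.1 x (π y)
  rw [h.1] at h1
  rw [← h1, h.2.2.1]

theorem ker_left (h : IsSpPre π B) {x : V} (hx : π x = 0) (y : V) : B x y = 0 := by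
  rw [← h.left, hx, map_zero, LinearMap.zero_apply]

theorem ker_right (h : IsSpPre π B) {y : V} (hy : π y = 0) (x : V) : B x y = 0 := by
  rw [← h.right, hy, map_zero]

theorem flip_comp (h : IsSpPre π B) (x : V) : beta B x ∘ₗ π = beta B x := by
  ext y
  rw [LinearMap.comp_apply, beta_apply, beta_apply, h.left]

theorem flip_ne_zero (h : IsSpPre π B) {x : V} (hx : π x ≠ 0) : beta B x ≠ 0 := by
  intro h0
  apply hx
  apply h.2.2.2
  intro y
  have := LinearMap.congr_fun h0 y
  rwa [beta_apply] at this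

/-- Riesz representation on the range of `π`. -/
theorem exists_riesz [FiniteDimensional F V] (h : IsSpPre π B) (φ : Dual F V) :
    ∃ a : V, π a = a ∧ ∀ x, φ (π x) = B x a := by
  set J : V →ₗ[F] Dual F V := beta B ∘ₗ π with hJ
  have hker : LinearMap.ker J = LinearMap.ker π := by
    ext a
    rw [LinearMap.mem_ker, LinearMap.mem_ker]
    constructor
    · intro ha
      have := h.2.2.2 (π a) (by
        intro y
        have := LinearMap.congr_fun ha y
        simpa [hJ, beta_apply] using this)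
      rwa [h.1] at this
    · intro ha
      rw [hJ, LinearMap.comp_apply, ha, map_zero]
  have hle : LinearMap.range J ≤ LinearMap.range π.dualMap := by
    rintro _ ⟨a, rfl⟩
    refine ⟨J a, ?_⟩
    rw [LinearMap.dualMap_apply', hJ, LinearMap.comp_apply, h.flip_comp]
  have hdim : finrank F (LinearMap.range J) = finrank F (LinearMap.range π.dualMap) := by
    rw [LinearMap.finrank_range_dualMap_eq_finrank_range]
    have h1 := LinearMap.finrank_range_add_finrank_ker J
    have h2 := LinearMap.finrank_range_add_finrank_ker π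
    rw [hker] at h1
    omega
  have heq := Submodule.eq_of_le_of_finrank_eq hle hdim
  have hmem : φ ∘ₗ π ∈ LinearMap.range J := by
    rw [heq]
    exact ⟨φ, rfl⟩
  obtain ⟨a', ha'⟩ := hmem
  refine ⟨π a', h.1 a', ?_⟩
  intro x
  have := LinearMap.congr_fun ha' x
  simp only [hJ, LinearMap.comp_apply, beta_apply] at this
  rw [this]

end IsSpPre

/-- two functionals with the same zeros are proportional -/
theorem exists_smul_of_zero_iff {f g : Dual F V} (hg : g ≠ 0) (h : ∀ x, f x = 0 ↔ g x = 0) :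
    ∃ k : F, k ≠ 0 ∧ f = k • g := by
  obtain ⟨x₀, hx₀⟩ : ∃ x₀, g x₀ ≠ 0 := by
    by_contra hcon
    push Not at hcon
    exact hg (LinearMap.ext hcon)
  have hf₀ : f x₀ ≠ 0 := fun h0 => hx₀ ((h x₀).mp h0)
  refine ⟨f x₀ / g x₀, div_ne_zero hf₀ hx₀, ?_⟩
  ext x
  have h1 : g (x - (g x / g x₀) • x₀) = 0 := by
    rw [map_sub, map_smul, smul_eq_mul]
    field_simp
    ring
  have h2 := (h _).mpr h1
  rw [map_sub, map_smul, smul_eq_mul] at h2
  rw [LinearMap.smul_apply, smul_eq_mul]
  field_simp
  field_simp at h2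
  linear_combination h2

/-- a vector avoiding two hyperplanes -/
theorem exists_avoid2 {f g : Dual F V} (hf : f ≠ 0) (hg : g ≠ 0) :
    ∃ z : V, f z ≠ 0 ∧ g z ≠ 0 := by
  obtain ⟨x, hx⟩ : ∃ x, f x ≠ 0 := by
    by_contra hcon
    push Not at hcon
    exact hf (LinearMap.ext hcon)
  obtain ⟨y, hy⟩ : ∃ y, g y ≠ 0 := by
    by_contra hcon
    push Not at hcon
    exact hg (LinearMap.ext hcon)
  by_cases h1 : g x = 0
  · by_cases h2 : f y = 0
    · refine ⟨x + y, ?_, ?_⟩
      · rw [map_add, h2, add_zero]; exact hx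
      · rw [map_add, h1, zero_add]; exact hy
    · exact ⟨y, h2, hy⟩
  · exact ⟨x, hx, h1⟩

namespace RootRel

variable (X : RootRel F V)

/-- symplectic frame -/
def IsSpFrame (π : V →ₗ[F] V) (B : LinearMap.BilinForm F V) : Prop :=
  IsSpPre π B ∧ ∀ v, X.R (beta B (π v)) (π v)

/-- the set of good vectors of a pre-frame -/
def SpGood (π : V →ₗ[F] V) (B : LinearMap.BilinForm F V) (x : V) : Prop :=
  π x = x ∧ X.R (beta B x) x

variable {X}

theorem SpGood.zero {π : V →ₗ[F] V} {B : LinearMap.BilinForm F V} : X.SpGood π B 0 :=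
  ⟨map_zero π, X.zr _⟩

theorem SpGood.smul {π : V →ₗ[F] V} {B : LinearMap.BilinForm F V} {x : V} (hx : X.SpGood π B x)
    (k : F) : X.SpGood π B (k • x) := by
  refine ⟨by rw [map_smul, hx.1], ?_⟩
  rw [map_smul]
  exact X.smulr k (X.smul k hx.2)

theorem SpGood.step {π : V →ₗ[F] V} {B : LinearMap.BilinForm F V} (hB : IsSpPre π B) {x y : V}
    (hx : X.SpGood π B x) (hy : X.SpGood π B y) (k : F) :
    X.SpGood π B (y + (k * B y x) • x) := by
  refine ⟨by rw [map_add, map_smul, hx.1, hy.1], ?_⟩
  have h := X.conjk k hx.2 hy.2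
  refine X.congr h ?_ ?_
  · ext z
    simp only [map_add, map_smul, beta_apply, LinearMap.sub_apply, LinearMap.add_apply,
      LinearMap.smul_apply, smul_eq_mul]
    rw [hB.anti x y]
    ring
  · rw [beta_apply]

/-- if `x, y` are good and not orthogonal then `y + k x` is good -/
theorem SpGood.add_smul {π : V →ₗ[F] V} {B : LinearMap.BilinForm F V} (hB : IsSpPre π B) {x y : V}
    (hx : X.SpGood π B x) (hy : X.SpGood π B y) (hxy : B y x ≠ 0) (k : F) :
    X.SpGood π B (y + k • x) := by
  have h := hx.step hB hy (k / B y x)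
  rwa [div_mul_cancel₀ _ hxy] at h

/-- moving inside the good set: from `y` to `z` when `B y z ≠ 0` and `z - y` is good -/
theorem SpGood.move {π : V →ₗ[F] V} {B : LinearMap.BilinForm F V} (hB : IsSpPre π B) {y z : V}
    (hy : X.SpGood π B y) (hd : X.SpGood π B (z - y)) (hyz : B y z ≠ 0) :
    X.SpGood π B z := by
  have h1 : B y (z - y) ≠ 0 := by
    rw [map_sub, hB.2.1, sub_zero]; exact hyz
  have h := hd.add_smul hB hy h1 1
  rwa [one_smul, add_sub_cancel] at h

end RootRel

end Cfsg.Agent.Lib.Helper8.ML
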