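import Mathlib
import Cfsg.Agent.Lib.Helper8.ML5

set_option autoImplicit false

/-!
# McLaughlin's theorem: symplectic frames, classification of root pairs (part 6)
-/

namespace Cfsg.Agent.Lib.Helper8.ML

open Module

variable {F : Type*} [Field F] {V : Type*} [AddCommGroup V] [Module F V]

namespace RootRel

variable (X : RootRel F V)

/-- symmetry of orthogonality when centres determine axes -/
theorem sym_of_D1 (hD : X.D1) {ψ φ : Dual F V} {u w : V} (h1 : X.NT ψ u) (h2 : X.NT φ w)
    (hw : ψ w = 0) : φ u = 0 := by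
  by_contra hu
  have h3 : X.R ψ w := X.comm h1.1 h2.1 hw hu
  obtain ⟨k, hk⟩ := hD φ ψ w h2 ⟨h3, h1.2.1, h2.2.2⟩
  have h4 : ψ u = 0 := X.ort h1.1
  rw [hk, LinearMap.smul_apply, smul_eq_mul] at h4
  rcases mul_eq_zero.mp h4 with h5 | h5
  · apply h1.2.1
    rw [hk, h5, zero_smul]
  · exact hu h5

/-- axes determine centres when centres determine axes -/
theorem omega1_of_D1 (hD : X.D1) (hopp : X.Opp) {φ : Dual F V} {w w' : V} (h1 : X.NT φ w)
    (h2 : X.NT φ w') : ∃ k : F, w' = k • w := by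
  obtain ⟨ψ, u, hψu, hφu, hψw⟩ := hopp φ w h1.1 h1.2.1 h1.2.2
  set k : F := ψ w' / ψ w with hk
  by_cases h0 : w' - k • w = 0
  · exact ⟨k, sub_eq_zero.mp h0⟩
  · exfalso
    have h3 : X.R φ (w' - k • w) := X.subr h2.1 (X.smulr k h1.1)
    have h4 : ψ (w' - k • w) = 0 := by
      rw [map_sub, map_smul, smul_eq_mul, hk]
      field_simp
      ring
    have h5 : X.R ψ (w' - k • w) := X.comm hψu h3 h4 hφu
    have hψ0 : ψ ≠ 0 := by rintro rfl; exact hψw rfl
    obtain ⟨k', hk'⟩ := hD φ ψ (w' - k • w) ⟨h3, h1.2.1, h0⟩ ⟨h5, hψ0, h0⟩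
    have h6 : ψ u = 0 := X.ort hψu
    rw [hk', LinearMap.smul_apply, smul_eq_mul] at h6
    rcases mul_eq_zero.mp h6 with h7 | h7
    · apply hψ0
      rw [hk', h7, zero_smul]
    · exact hφu h7

/-- the symplectic frame attached to an opposite pair -/
theorem spframe_base {φ ψ : Dual F V} {u w : V} (h1 : X.R ψ u) (h2 : X.R φ w)
    (hu : φ u ≠ 0) (hw : ψ w ≠ 0) :
    ∃ B : LinearMap.BilinForm F V, X.IsSpFrame (proj2 φ ψ u w) B := by
  have hψu : ψ u = 0 := X.ort h1
  have hφw : φ w = 0 := X.ort h2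
  set B : LinearMap.BilinForm F V := (-(φ u)⁻¹) • wedge φ ψ with hB
  have hBapp : ∀ x y, B x y = (-(φ u)⁻¹) * (φ x * ψ y - ψ x * φ y) := by
    intro x y
    rw [hB, LinearMap.smul_apply, LinearMap.smul_apply, wedge_apply, smul_eq_mul]
  have hφπ : ∀ x, φ (proj2 φ ψ u w x) = φ x := by
    intro x
    have := LinearMap.congr_fun (comp_proj2_left (ψ := ψ) (u := u) hφw hu) x
    exact this
  have hψπ : ∀ x, ψ (proj2 φ ψ u w x) = ψ x := by
    intro x
    have := LinearMap.congr_fun (comp_proj2_right (φ := φ) (w := w) hψu hw) x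
    exact this
  have hpre : IsSpPre (proj2 φ ψ u w) B := by
    refine ⟨(X.slframe_base h1 h2 hu hw).1, ?_, ?_, ?_⟩
    · intro x; rw [hBapp]; ring
    · intro x y; rw [hBapp, hBapp, hφπ, hφπ, hψπ, hψπ]
    · intro x hx
      have e1 := hx u
      have e2 := hx w
      rw [hBapp, hψu, zero_mul, sub_zero] at e1
      rw [hBapp, hφw, zero_mul, zero_sub] at e2
      have hψx : ψ x = 0 := by
        rcases mul_eq_zero.mp e1 with h | h
        · exact absurd h (neg_ne_zero.mpr (inv_ne_zero hu))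
        · rcases mul_eq_zero.mp h with h | h
          · exact absurd h hu
          · exact h
      have hφx : φ x = 0 := by
        rcases mul_eq_zero.mp e2 with h | h
        · exact absurd h (neg_ne_zero.mpr (inv_ne_zero hu))
        · rcases mul_eq_zero.mp (neg_eq_zero.mp h) with h | h
          · exact absurd h hw
          · exact h
      rw [proj2_apply, hψx, hφx, mul_zero, mul_zero, zero_smul, zero_smul, add_zero]
  refine ⟨B, hpre, ?_⟩
  have hgu : X.SpGood (proj2 φ ψ u w) B u := by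
    refine ⟨proj2_left hψu hu, ?_⟩
    refine X.congr h1 ?_ rfl
    ext x
    rw [beta_apply, hBapp, hψu, mul_zero, zero_sub]
    field_simp
  have hgw : X.SpGood (proj2 φ ψ u w) B w := by
    refine ⟨proj2_right hφw hw, ?_⟩
    refine X.congr (X.smul (-(φ u)⁻¹ * ψ w) h2) ?_ rfl
    ext x
    rw [beta_apply, hBapp, hφw, mul_zero, sub_zero, LinearMap.smul_apply, smul_eq_mul]
    ring
  have hwu : B w u ≠ 0 := by
    rw [hBapp, hφw, zero_mul, zero_sub]
    field_simp
    exact hw
  intro v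
  have hgood : X.SpGood (proj2 φ ψ u w) B (proj2 φ ψ u w v) := by
    rw [proj2_apply]
    set a : F := (φ u)⁻¹ * φ v
    set b : F := (ψ w)⁻¹ * ψ v
    by_cases hb : b = 0
    · rw [hb, zero_smul, add_zero]
      exact hgu.smul a
    · have h3 := (hgu.add_smul hpre hgw hwu (a / b)).smul b
      have e : b • (w + (a / b) • u) = a • u + b • w := by
        rw [smul_add, smul_smul, mul_div_cancel₀ _ hb, add_comm]
      rwa [e] at h3
  exact hgood.2

variable {X}

/-- conjugating a mixed pair by a frame transvection -/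
theorem mixed_step {π : V →ₗ[F] V} {B : LinearMap.BilinForm F V} (hfr : X.IsSpFrame π B)
    {a' c : V} {γ : Dual F V} (hc : π c = 0) (hγ : ∀ v, γ (π v) = 0)
    (h : X.R (beta B a' + γ) (a' + c)) (y : V) (k : F) :
    X.R (beta B (a' + (k * B a' (π y)) • π y) + γ) (a' + (k * B a' (π y)) • π y + c) := by
  have h1 := X.conjk k (hfr.2 y) h
  refine X.congr h1 ?_ ?_
  · ext z
    simp only [LinearMap.sub_apply, LinearMap.add_apply, LinearMap.smul_apply, beta_apply,
      smul_eq_mul, map_add, map_smul, hγ, add_zero]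
    rw [hfr.1.anti (π y) a']
    ring
  · simp only [beta_apply, map_add, hfr.1.ker_left hc, add_zero]
    abel

/-- a mixed pair yields its commuting part -/
theorem mixed_comm {π : V →ₗ[F] V} {B : LinearMap.BilinForm F V} (hfr : X.IsSpFrame π B)
    {a c : V} {γ : Dual F V} (ha : π a = a) (ha0 : a ≠ 0) (hc : π c = 0)
    (hγ : ∀ v, γ (π v) = 0) (h : X.R (beta B a + γ) (a + c)) : X.R γ c := by
  have hpre := hfr.1
  -- a vector `x` in the range with `B a x = 1`
  obtain ⟨x, hx1⟩ : ∃ x, B a (π x) = 1 := by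
    have hne : beta B a ≠ 0 := hpre.flip_ne_zero (by rw [ha]; exact ha0)
    obtain ⟨x₀, hx₀⟩ : ∃ x₀, B a x₀ ≠ 0 := by
      by_contra hcon
      push Not at hcon
      apply hne
      ext y
      rw [beta_apply, hpre.anti, hcon, neg_zero, LinearMap.zero_apply]
    refine ⟨(B a x₀)⁻¹ • x₀, ?_⟩
    rw [hpre.right, map_smul, smul_eq_mul, inv_mul_cancel₀ hx₀]
  have hxa : B (π x) a = -1 := by rw [hpre.anti, hx1]
  -- step 1
  have s1 := mixed_step hfr hc hγ h x 1
  rw [hx1, mul_one, one_smul] at s1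
  -- step 2 : y = a, k = 2
  have s2 := mixed_step hfr hc hγ s1 a 2
  have e2 : (2 : F) * B (a + π x) (π a) = -2 := by
    rw [ha, map_add, LinearMap.add_apply, hpre.2.1, hxa]; ring
  rw [e2, ha] at s2
  have e2' : a + π x + (-2 : F) • a = -a + π x := by
    rw [neg_smul, two_smul]; abel
  rw [e2'] at s2
  -- step 3 : y = x, k = 1
  have s3 := mixed_step hfr hc hγ s2 x 1
  have e3 : (1 : F) * B (-a + π x) (π x) = -1 := by
    rw [map_add, LinearMap.add_apply, map_neg, LinearMap.neg_apply, hx1, hpre.2.1]; ring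
  rw [e3] at s3
  have e3' : -a + π x + (-1 : F) • π x = -a := by
    rw [neg_one_smul]; abel
  rw [e3'] at s3
  -- now flip signs
  have s4 := X.negr (X.negl s3)
  have s5 : X.R (beta B a - γ) (a - c) := by
    refine X.congr s4 ?_ ?_
    · rw [map_neg]; abel
    · abel
  refine X.sp3 h s5 ?_ ?_ ?_
  · have := hfr.2 a
    rwa [ha] at this
  · rw [beta_apply]; exact hpre.ker_left hc a
  · rw [← ha]; exact hγ a

end RootRel

end Cfsg.Agent.Lib.Helper8.ML
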