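import Mathlib
import Cfsg.Agent.Lib.Helper8.ML6

set_option autoImplicit false

/-!
# McLaughlin's theorem: classification of root pairs relative to a symplectic frame (part 7)
-/

namespace Cfsg.Agent.Lib.Helper8.ML

open Module

variable {F : Type*} [Field F] {V : Type*} [AddCommGroup V] [Module F V]

namespace RootRel

variable {X : RootRel F V}

/-- classification of a nontrivial root pair relative to a symplectic frame -/
theorem cp [FiniteDimensional F V] (hD : X.D1) (hopp : X.Opp) {π : V →ₗ[F] V}
    {B : LinearMap.BilinForm F V} (hfr : X.IsSpFrame π B) {φ : Dual F V} {w : V}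
    (h : X.NT φ w) :
    (π w = w ∧ ∃ k : F, φ = k • beta B w) ∨ (π w = 0 ∧ φ ∘ₗ π = 0) ∨
    (∃ a c : V, π a = a ∧ a ≠ 0 ∧ π c = 0 ∧ c ≠ 0 ∧ φ - φ ∘ₗ π ≠ 0 ∧
      X.R (beta B a + (φ - φ ∘ₗ π)) (a + c) ∧ X.R (φ - φ ∘ₗ π) c ∧
      ∃ k : F, k ≠ 0 ∧ w - π w = k • c) := by
  have hpre := hfr.1
  obtain ⟨a, ha, hriesz⟩ := hpre.exists_riesz φ
  have hφπ : φ ∘ₗ π = beta B a := by
    ext x
    rw [LinearMap.comp_apply, hriesz, beta_apply]
  -- the functionals `B w` and `B a` have the same zeros
  have hzero : ∀ x, B w x = 0 ↔ B a x = 0 := by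
    intro x
    by_cases hx : π x = 0
    · rw [← hpre.right w x, ← hpre.right a x, hx, map_zero, map_zero]
    · have hNT : X.NT (beta B (π x)) (π x) :=
        ⟨hfr.2 x, hpre.flip_ne_zero (by rw [hpre.1]; exact hx), hx⟩
      constructor
      · intro h1
        have h2 : beta B (π x) w = 0 := by rw [beta_apply, hpre.right]; exact h1
        have h3 := X.sym_of_D1 hD hNT h h2
        rw [hriesz] at h3
        rw [hpre.anti, h3, neg_zero]
      · intro h1
        have h2 : φ (π x) = 0 := by rw [hriesz, hpre.anti, h1, neg_zero]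
        have h3 := X.sym_of_D1 hD h hNT h2
        rw [beta_apply, hpre.right] at h3
        exact h3
  by_cases hg : B a = 0
  · -- commuting type
    right; left
    have ha0 : a = 0 := by
      rw [← ha]
      apply hpre.2.2.2
      intro y
      rw [hpre.anti, hg, LinearMap.zero_apply, neg_zero]
    constructor
    · apply hpre.2.2.2
      intro y
      rw [hpre.anti, (hzero y).mpr (by rw [hg, LinearMap.zero_apply]), neg_zero]
    · rw [hφπ, ha0, map_zero]
  · obtain ⟨k, hk0, hk⟩ := exists_smul_of_zero_iff hg hzero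
    have hπw : π w = k • a := by
      have h1 : π (w - k • a) = 0 := by
        apply hpre.2.2.2
        intro y
        rw [hpre.anti, map_sub, LinearMap.sub_apply, map_smul, hk, sub_self, neg_zero]
      rw [map_sub, map_smul, ha] at h1
      exact sub_eq_zero.mp h1
    have ha0 : a ≠ 0 := by
      rintro rfl
      exact hg (map_zero B)
    by_cases hc0 : w - π w = 0
    · -- frame type
      left
      have hw : π w = w := (sub_eq_zero.mp hc0).symm
      refine ⟨hw, ?_⟩
      have hNT : X.NT (beta B w) w := by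
        refine ⟨?_, hpre.flip_ne_zero (by rw [hw]; exact h.2.2), h.2.2⟩
        have := hfr.2 w
        rwa [hw] at this
      exact hD (beta B w) φ w hNT h
    · right; right
      have hγ0 : φ - φ ∘ₗ π ≠ 0 := by
        intro h0
        have hφ : φ = beta B a := by rw [← hφπ]; exact sub_eq_zero.mp h0
        have hNTa : X.NT φ a := by
          refine ⟨?_, h.2.1, ha0⟩
          rw [hφ]
          have := hfr.2 a
          rwa [ha] at this
        obtain ⟨k'', hk''⟩ := X.omega1_of_D1 hD hopp hNTa h
        apply hc0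
        rw [hk'', map_smul, ha, sub_self]
      refine ⟨a, k⁻¹ • (w - π w), ha, ha0, ?_, ?_, hγ0, ?_, ?_, k, hk0, ?_⟩
      · rw [map_smul, map_sub, hpre.1, sub_self, smul_zero]
      · exact smul_ne_zero (inv_ne_zero hk0) hc0
      · have h1 := X.smulr k⁻¹ h.1
        refine X.congr h1 ?_ ?_
        · rw [hφπ]; abel
        · rw [hπw, smul_sub, smul_smul, inv_mul_cancel₀ hk0, one_smul]; abel
      · have h1 := X.smulr k⁻¹ h.1
        have h2 : X.R (beta B a + (φ - φ ∘ₗ π)) (a + k⁻¹ • (w - π w)) := by
          refine X.congr h1 ?_ ?_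
          · rw [hφπ]; abel
          · rw [hπw, smul_sub, smul_smul, inv_mul_cancel₀ hk0, one_smul]; abel
        refine mixed_comm hfr ha ha0 ?_ ?_ h2
        · rw [map_smul, map_sub, hpre.1, sub_self, smul_zero]
        · intro v
          rw [LinearMap.sub_apply, LinearMap.comp_apply, hpre.1, sub_self]
      · rw [smul_smul, mul_inv_cancel₀ hk0, one_smul]

end RootRel

end Cfsg.Agent.Lib.Helper8.ML
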