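import Mathlib
import Cfsg.Agent.Lib.Helper8.ML7

set_option autoImplicit false

/-!
# McLaughlin's theorem: extension of a symplectic frame by a hyperbolic plane (part 8)
-/

namespace Cfsg.Agent.Lib.Helper8.ML

open Module

variable {F : Type*} [Field F] {V : Type*} [AddCommGroup V] [Module F V]

namespace RootRel

variable {X : RootRel F V}

set_option maxHeartbeats 800000 in
/-- extension of a symplectic frame -/
theorem spframe_ext [FiniteDimensional F V] {π : V →ₗ[F] V} {B : LinearMap.BilinForm F V}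
    (hfr : X.IsSpFrame π B) {a c c₂ : V} {γ γ₂ : Dual F V}
    (ha : π a = a) (ha0 : a ≠ 0) (hc : π c = 0) (hc₂ : π c₂ = 0)
    (hγ : ∀ v, γ (π v) = 0) (hγ₂ : ∀ v, γ₂ (π v) = 0)
    (hR : X.R γ c) (hR₂ : X.R γ₂ c₂) (h1 : γ c₂ ≠ 0) (h2 : γ₂ c ≠ 0)
    (hmix : X.R (beta B a + γ) (a + c)) :
    ∃ (π' : V →ₗ[F] V) (B' : LinearMap.BilinForm F V), X.IsSpFrame π' B' ∧
      finrank F (LinearMap.range π) < finrank F (LinearMap.range π') := by
  have hpre := hfr.1
  have hγc : γ c = 0 := X.ort hR
  have hγ₂c₂ : γ₂ c₂ = 0 := X.ort hR₂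
  have hc0 : c ≠ 0 := by rintro rfl; exact h2 (map_zero γ₂)
  set π' : V →ₗ[F] V := π + ((γ₂ c)⁻¹ • γ₂).smulRight c + ((γ c₂)⁻¹ • γ).smulRight c₂ with hπ'
  set B' : LinearMap.BilinForm F V := B + (γ₂ c)⁻¹ • wedge γ γ₂ with hB'
  have hπ'app : ∀ v, π' v = π v + ((γ₂ c)⁻¹ * γ₂ v) • c + ((γ c₂)⁻¹ * γ v) • c₂ := by
    intro v
    simp [hπ', LinearMap.smulRight_apply]
  have hB'app : ∀ x y, B' x y = B x y + (γ₂ c)⁻¹ * (γ x * γ₂ y - γ₂ x * γ y) := by
    intro x y
    simp [hB', wedge_apply]
  have hππ' : ∀ v, π (π' v) = π v := by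
    intro v
    rw [hπ'app, map_add, map_add, map_smul, map_smul, hc, hc₂, smul_zero, smul_zero, add_zero,
      add_zero, hpre.1]
  have hγπ' : ∀ v, γ (π' v) = γ v := by
    intro v
    rw [hπ'app, map_add, map_add, map_smul, map_smul, hγ, hγc, smul_zero, zero_add, zero_add,
      smul_eq_mul]
    field_simp
  have hγ₂π' : ∀ v, γ₂ (π' v) = γ₂ v := by
    intro v
    rw [hπ'app, map_add, map_add, map_smul, map_smul, hγ₂, hγ₂c₂, smul_zero, zero_add, add_zero,
      smul_eq_mul]
    field_simp
  have hpre' : IsSpPre π' B' := by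
    refine ⟨?_, ?_, ?_, ?_⟩
    · intro v
      rw [hπ'app (π' v), hππ', hγπ', hγ₂π', ← hπ'app]
    · intro x
      rw [hB'app, hpre.2.1]; ring
    · intro x y
      rw [hB'app, hB'app, hγπ', hγπ', hγ₂π', hγ₂π', ← hpre.2.2.1 (π' x) (π' y), hππ', hππ',
        hpre.2.2.1]
    · intro x hx
      have e1 : π x = 0 := by
        apply hpre.2.2.2
        intro y
        have := hx (π y)
        rw [hB'app, hγ, hγ₂, hpre.left] at this
        simpa using this
      have e2 : γ x = 0 := by
        have := hx c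
        rw [hB'app, hpre.ker_left hc, hγc, zero_mul, zero_sub, zero_add, mul_neg, ← mul_assoc,
          inv_mul_cancel₀ h2, one_mul] at this
        exact neg_eq_zero.mp this
      have e3 : γ₂ x = 0 := by
        have := hx c₂
        rw [hB'app, hpre.ker_left hc₂, hγ₂c₂, zero_mul, sub_zero, zero_add] at this
        rcases mul_eq_zero.mp this with h | h
        · exact absurd h (inv_ne_zero h2)
        · rcases mul_eq_zero.mp h with h | h
          · exact absurd h h1
          · exact h
      rw [hπ'app, e1, e2, e3]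
      simp
  -- the functionals `beta B'`
  have hβU : ∀ v, beta B' (π v) = beta B (π v) := by
    intro v
    ext z
    rw [beta_apply, beta_apply, hB'app, hγ, hγ₂]
    ring
  have hβc : beta B' c = γ := by
    ext z
    rw [beta_apply, hB'app, hpre.ker_right hc, hγc]
    field_simp
    ring
  have hβc₂ : beta B' c₂ = (-(γ₂ c)⁻¹ * γ c₂) • γ₂ := by
    ext z
    rw [beta_apply, hB'app, hpre.ker_right hc₂, hγ₂c₂, LinearMap.smul_apply, smul_eq_mul]
    ring
  have hπ'U : ∀ v, π' (π v) = π v := by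
    intro v
    rw [hπ'app, hpre.1, hγ, hγ₂]
    simp
  have hπ'c : π' c = c := by
    rw [hπ'app, hc, hγc, mul_zero, zero_smul, add_zero, zero_add, inv_mul_cancel₀ h2, one_smul]
  have hπ'c₂ : π' c₂ = c₂ := by
    rw [hπ'app, hc₂, hγ₂c₂, mul_zero, zero_smul, add_zero, zero_add, inv_mul_cancel₀ h1,
      one_smul]
  -- good vectors
  have gU : ∀ v, X.SpGood π' B' (π v) := by
    intro v
    refine ⟨hπ'U v, ?_⟩
    rw [hβU]; exact hfr.2 v
  have gc : X.SpGood π' B' c := ⟨hπ'c, by rw [hβc]; exact hR⟩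
  have gc₂ : X.SpGood π' B' c₂ := ⟨hπ'c₂, by rw [hβc₂]; exact X.smul _ hR₂⟩
  have gac : X.SpGood π' B' (a + c) := by
    refine ⟨by rw [map_add, hπ'c, ← ha, hπ'U], ?_⟩
    rw [map_add, hβc, ← ha, hβU, ha]
    exact hmix
  have hc₂c : B' c₂ c ≠ 0 := by
    have : B' c₂ c = γ c₂ := by
      rw [← beta_apply, hβc]
    rw [this]; exact h1
  have gE : ∀ α β : F, X.SpGood π' B' (α • c + β • c₂) := by
    intro α β
    by_cases hβ : β = 0
    · rw [hβ, zero_smul, add_zero]; exact gc.smul α
    · have h3 := (gc.add_smul hpre' gc₂ hc₂c (α / β)).smul β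
      have e : β • (c₂ + (α / β) • c) = α • c + β • c₂ := by
        rw [smul_add, smul_smul, mul_div_cancel₀ _ hβ, add_comm]
      rwa [e] at h3
  have hBUc : ∀ z v, B' (π z + c) (π v + c) = B z v := by
    intro z v
    rw [hB'app]
    simp only [map_add, LinearMap.add_apply, hγ, hγ₂, hγc, zero_add, zero_mul, mul_zero,
      hpre.ker_left hc, hpre.ker_right hc, add_zero, hpre.2.2.1, sub_zero]
  have gUc : ∀ v, X.SpGood π' B' (π v + c) := by
    intro v
    by_cases hu₁ : π v = 0
    · rw [hu₁, zero_add]; exact gc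
    · have hBa : B a ≠ 0 := by
        intro h0
        apply ha0
        rw [← ha]
        apply hpre.2.2.2
        intro y
        rw [hpre.anti, h0, LinearMap.zero_apply, neg_zero]
      have gac' : X.SpGood π' B' (π a + c) := by rw [ha]; exact gac
      by_cases hB : B a v = 0
      · have hg : beta B (π v) ≠ 0 := hpre.flip_ne_zero (by rw [hpre.1]; exact hu₁)
        obtain ⟨z, hz1, hz2⟩ := exists_avoid2 hBa hg
        rw [beta_apply, hpre.right] at hz2
        have g1 : X.SpGood π' B' (π z + c) := by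
          refine gac'.move hpre' ?_ ?_
          · have : π z + c - (π a + c) = π (z - a) := by rw [map_sub]; abel
            rw [this]; exact gU _
          · rw [hBUc]; exact hz1
        refine g1.move hpre' ?_ ?_
        · have : π v + c - (π z + c) = π (v - z) := by rw [map_sub]; abel
          rw [this]; exact gU _
        · rw [hBUc]; exact hz2
      · refine gac'.move hpre' ?_ ?_
        · have : π v + c - (π a + c) = π (v - a) := by rw [map_sub]; abel
          rw [this]; exact gU _
        · rw [hBUc]; exact hB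
  have gall : ∀ v, X.SpGood π' B' (π' v) := by
    intro v
    rw [hπ'app]
    set α : F := (γ₂ c)⁻¹ * γ₂ v
    set β : F := (γ c₂)⁻¹ * γ v
    by_cases hβ : β = 0
    · rw [hβ, zero_smul, add_zero]
      by_cases hα : α = 0
      · rw [hα, zero_smul, add_zero]; exact gU v
      · have h3 := (gUc (α⁻¹ • v)).smul α
        have e : α • (π (α⁻¹ • v) + c) = π v + α • c := by
          rw [map_smul, smul_add, smul_smul, mul_inv_cancel₀ hα, one_smul]
        rwa [e] at h3
    · refine (gUc v).move hpre' ?_ ?_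
      · have : π v + α • c + β • c₂ - (π v + c) = (α - 1) • c + β • c₂ := by
          rw [sub_smul, one_smul]; abel
        rw [this]; exact gE _ _
      · have hB0 : B (π v + c) (π v + α • c + β • c₂) = 0 := by
          simp only [map_add, map_smul, LinearMap.add_apply, smul_eq_mul, hpre.ker_left hc,
            hpre.ker_right hc, hpre.ker_right hc₂, hpre.2.1, mul_zero, add_zero]
        have hg1 : γ (π v + c) = 0 := by rw [map_add, hγ, hγc, add_zero]
        have hg2 : γ₂ (π v + c) = γ₂ c := by rw [map_add, hγ₂, zero_add]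
        have hg3 : γ (π v + α • c + β • c₂) = β * γ c₂ := by
          simp only [map_add, map_smul, smul_eq_mul, hγ, hγc, mul_zero, add_zero, zero_add]
        rw [hB'app, hB0, hg1, hg2, hg3, zero_mul, zero_sub, zero_add, mul_neg, ← mul_assoc,
          inv_mul_cancel₀ h2, one_mul]
        exact neg_ne_zero.mpr (mul_ne_zero hβ h1)
  refine ⟨π', B', ⟨hpre', fun v => (gall v).2⟩, ?_⟩
  apply Submodule.finrank_lt_finrank_of_lt
  rw [SetLike.lt_iff_le_and_exists]
  refine ⟨?_, c, ⟨c, hπ'c⟩, ?_⟩
  · rintro _ ⟨v, rfl⟩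
    exact ⟨π v, hπ'U v⟩
  · rintro ⟨v, hv⟩
    apply hc0
    rw [← hv, ← hpre.1 v, hv, hc]

end RootRel

end Cfsg.Agent.Lib.Helper8.ML
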