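import Mathlib
import Cfsg.Agent.Lib.Helper8.ML8

set_option autoImplicit false

/-!
# McLaughlin's theorem: the connected case for abstract root relations (part 9)
-/

namespace Cfsg.Agent.Lib.Helper8.ML

open Module

variable {F : Type*} [Field F] {V : Type*} [AddCommGroup V] [Module F V]

namespace RootRel

variable {X : RootRel F V}

/-- with a symplectic frame of maximal rank, every nontrivial root pair lies in the frame or
commutes with it -/
theorem msp [FiniteDimensional F V] (hD : X.D1) (hopp : X.Opp) {π : V →ₗ[F] V}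
    {B : LinearMap.BilinForm F V} (hfr : X.IsSpFrame π B)
    (hmax : ∀ (π' : V →ₗ[F] V) (B' : LinearMap.BilinForm F V), X.IsSpFrame π' B' →
      finrank F (LinearMap.range π') ≤ finrank F (LinearMap.range π))
    {φ : Dual F V} {w : V} (h : X.NT φ w) :
    (π w = w ∧ ∃ k : F, φ = k • beta B w) ∨ (π w = 0 ∧ φ ∘ₗ π = 0) := by
  have hpre := hfr.1
  rcases cp hD hopp hfr h with h1 | h1 | ⟨a, c, ha, ha0, hc, hc0, hγ0, hmix, hRγc, -⟩
  · exact Or.inl h1
  · exact Or.inr h1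
  · exfalso
    set γ : Dual F V := φ - φ ∘ₗ π with hγdef
    have hγ : ∀ v, γ (π v) = 0 := by
      intro v
      rw [hγdef, LinearMap.sub_apply, LinearMap.comp_apply, hpre.1, sub_self]
    obtain ⟨γ', c', hR', hγc', hγ'c⟩ := hopp γ c hRγc hγ0 hc0
    have hNT' : X.NT γ' c' := by
      refine ⟨hR', ?_, ?_⟩
      · rintro rfl; exact hγ'c rfl
      · rintro rfl; exact hγc' (map_zero γ)
    -- extract a commuting-type opposite partner
    have key : ∃ (γ₂ : Dual F V) (c₂ : V), X.R γ₂ c₂ ∧ π c₂ = 0 ∧ (∀ v, γ₂ (π v) = 0) ∧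
        γ c₂ ≠ 0 ∧ γ₂ c ≠ 0 := by
      rcases cp hD hopp hfr hNT' with h2 | h2 | ⟨a', c₂, -, -, hc₂, -, -, -, hR₂, k, hk0, hk⟩
      · exfalso
        apply hγc'
        rw [← h2.1, hγ]
      · refine ⟨γ', c', hR', h2.1, ?_, hγc', hγ'c⟩
        intro v
        have := LinearMap.congr_fun h2.2 v
        simpa using this
      · refine ⟨γ' - γ' ∘ₗ π, c₂, hR₂, hc₂, ?_, ?_, ?_⟩
        · intro v
          rw [LinearMap.sub_apply, LinearMap.comp_apply, hpre.1, sub_self]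
        · intro h0
          apply hγc'
          have e : c' = π c' + k • c₂ := by rw [← hk]; abel
          rw [e, map_add, hγ, map_smul, h0, smul_zero, add_zero]
        · rw [LinearMap.sub_apply, LinearMap.comp_apply, hc, map_zero, sub_zero]
          exact hγ'c
    obtain ⟨γ₂, c₂, hR₂, hc₂, hγ₂, h3, h4⟩ := key
    obtain ⟨π', B', hfr', hlt⟩ := spframe_ext hfr ha ha0 hc hc₂ hγ hγ₂ hRγc hR₂ h3 h4 hmix
    exact absurd (hmax π' B' hfr') (not_le.mpr hlt)

/-- The symplectic case of the connected theorem. -/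
theorem thmC_Sp [FiniteDimensional F V] (hD : X.D1) (hopp : X.Opp) (hconn : X.Conn)
    (hex : ∃ (φ : Dual F V) (w : V), X.NT φ w) :
    ∃ (π : V →ₗ[F] V) (B : LinearMap.BilinForm F V), X.IsSpFrame π B ∧
      ∀ (φ : Dual F V) (w : V), X.NT φ w → π w = w ∧ ∃ k : F, φ = k • beta B w := by
  classical
  obtain ⟨φ₀, w₀, hNT₀⟩ := hex
  obtain ⟨ψ₀, u₀, hR₀, hφ₀u₀, hψ₀w₀⟩ := hopp φ₀ w₀ hNT₀.1 hNT₀.2.1 hNT₀.2.2
  -- base frame: (ψ,u) := (φ₀, w₀), (φ,w) := (ψ₀,u₀)
  obtain ⟨B₀, hfr₀⟩ := X.spframe_base hNT₀.1 hR₀ hψ₀w₀ hφ₀u₀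
  have hr₀ : 2 ≤ finrank F (LinearMap.range (proj2 ψ₀ φ₀ w₀ u₀)) :=
    rank_proj2 (X.ort hNT₀.1) (X.ort hR₀) hψ₀w₀ hφ₀u₀
  let P : ℕ → Prop := fun n => ∃ (π : V →ₗ[F] V) (B : LinearMap.BilinForm F V),
    X.IsSpFrame π B ∧ finrank F (LinearMap.range π) = n
  have hP₀ : P (finrank F (LinearMap.range (proj2 ψ₀ φ₀ w₀ u₀))) := ⟨_, B₀, hfr₀, rfl⟩
  have hg := Nat.findGreatest_spec (P := P) (Submodule.finrank_le _) hP₀
  obtain ⟨π, B, hfr, hr⟩ := hg
  have hge : finrank F (LinearMap.range (proj2 ψ₀ φ₀ w₀ u₀)) ≤ finrank F (LinearMap.range π) := by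
    rw [hr]
    exact Nat.le_findGreatest (P := P) (Submodule.finrank_le _) hP₀
  have hmax : ∀ (π' : V →ₗ[F] V) (B' : LinearMap.BilinForm F V), X.IsSpFrame π' B' →
      finrank F (LinearMap.range π') ≤ finrank F (LinearMap.range π) := by
    intro π' B' hfr'
    rw [hr]
    exact Nat.le_findGreatest (P := P) (Submodule.finrank_le (LinearMap.range π'))
      ⟨π', B', hfr', rfl⟩
  have hpre := hfr.1
  refine ⟨π, B, hfr, ?_⟩
  have hS := hconn (fun φ w => π w = w ∧ ∃ k : F, φ = k • beta B w) ?_ ?_ ?_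
  · exact hS
  · rintro φ w a ha ⟨h1, k, hk⟩
    refine ⟨by rw [map_smul, h1], a * k * a, ?_⟩
    rw [hk, map_smul, smul_smul, smul_smul]
    congr 1
    field_simp
  · -- a nontrivial frame pair
    have hpos : 0 < finrank F (LinearMap.range π) := by omega
    obtain ⟨⟨z, hz⟩, hz0⟩ := Module.finrank_pos_iff_exists_ne_zero.mp hpos
    obtain ⟨v, rfl⟩ := hz
    have hv : π v ≠ 0 := fun h0 => hz0 (Subtype.ext h0)
    refine ⟨beta B (π v), π v, ⟨hfr.2 v, hpre.flip_ne_zero (by rw [hpre.1]; exact hv), hv⟩,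
      hpre.1 v, 1, (one_smul _ _).symm⟩
  · rintro φ w ψ u hNT hNT' ⟨h1, k, hk⟩ hnS
    rcases msp hD hopp hfr hmax hNT' with h | h
    · exact absurd h hnS
    · constructor
      · rw [hk, LinearMap.smul_apply, beta_apply, hpre.ker_left h.1, smul_zero]
      · rw [← h1, ← LinearMap.comp_apply, h.2, LinearMap.zero_apply]

/-- The connected case: either linear or symplectic. -/
theorem thmC [FiniteDimensional F V] (hopp : X.Opp) (hconn : X.Conn)
    (hex : ∃ (φ : Dual F V) (w : V), X.NT φ w) :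
    (∃ π : V →ₗ[F] V, X.IsSLFrame π ∧ 3 ≤ finrank F (LinearMap.range π) ∧
      ∀ (φ : Dual F V) (w : V), X.NT φ w → π w = w ∧ φ ∘ₗ π = φ) ∨
    (∃ (π : V →ₗ[F] V) (B : LinearMap.BilinForm F V), X.IsSpFrame π B ∧
      ∀ (φ : Dual F V) (w : V), X.NT φ w → π w = w ∧ ∃ k : F, φ = k • beta B w) := by
  by_cases hD : X.D1
  · exact Or.inr (thmC_Sp hD hopp hconn hex)
  · left
    unfold D1 at hD
    push Not at hD
    obtain ⟨φ, φ', w, h1, h2, h3⟩ := hD
    apply X.thmC_SL hopp hconn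
    apply X.exists_slframe_three hopp h1 h2
    rintro ⟨k, hk⟩
    exact h3 k hk

end RootRel

end Cfsg.Agent.Lib.Helper8.ML
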