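import Mathlib
import Cfsg.Agent.Lib.Helper8.ML9

set_option autoImplicit false

/-!
# McLaughlin's theorem: the root relation of a subgroup of `GL(V)` over `ZMod p` (part 10)
-/

namespace Cfsg.Agent.Lib.Helper8.ML

open Module

section general

variable {F : Type*} [Field F] {V : Type*} [AddCommGroup V] [Module F V]

/-- `g` is the transvection `x ↦ x + φ x • w` -/
def IsTv (g : V ≃ₗ[F] V) (φ : Dual F V) (w : V) : Prop := ∀ x, g x = x + φ x • w

theorem one_app (x : V) : (1 : V ≃ₗ[F] V) x = x := rfl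

theorem IsTv.unique {g g' : V ≃ₗ[F] V} {φ : Dual F V} {w : V} (h : IsTv g φ w)
    (h' : IsTv g' φ w) : g = g' := by
  apply LinearEquiv.ext
  intro x
  rw [h x, h' x]

theorem isTv_one_left (w : V) : IsTv (1 : V ≃ₗ[F] V) 0 w := by
  intro x
  simp

theorem isTv_one_right (φ : Dual F V) : IsTv (1 : V ≃ₗ[F] V) φ 0 := by
  intro x
  simp

theorem IsTv.mul_left {g g' : V ≃ₗ[F] V} {φ φ' : Dual F V} {w : V} (h : IsTv g φ w)
    (h' : IsTv g' φ' w) (hw : φ w = 0) : IsTv (g * g') (φ + φ') w := by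
  intro x
  rw [LinearEquiv.mul_apply, h' x, h (x + φ' x • w), map_add, map_smul, hw, smul_zero, add_zero,
    LinearMap.add_apply, add_smul]
  abel

theorem IsTv.mul_right {g g' : V ≃ₗ[F] V} {φ : Dual F V} {w w' : V} (h : IsTv g φ w)
    (h' : IsTv g' φ w') (hw' : φ w' = 0) : IsTv (g * g') φ (w + w') := by
  intro x
  rw [LinearEquiv.mul_apply, h' x, h (x + φ x • w'), map_add, map_smul, hw', smul_zero, add_zero,
    smul_add]
  abel

theorem IsTv.pow {g : V ≃ₗ[F] V} {φ : Dual F V} {w : V} (h : IsTv g φ w) (hw : φ w = 0)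
    (n : ℕ) : IsTv (g ^ n) (n • φ) w := by
  induction n with
  | zero => rw [pow_zero, zero_smul]; exact isTv_one_left w
  | succ n ih =>
    rw [pow_succ, succ_nsmul]
    refine ih.mul_left h ?_
    rw [LinearMap.smul_apply, hw, smul_zero]

theorem IsTv.swap {g : V ≃ₗ[F] V} {φ : Dual F V} {w : V} (a : F) :
    IsTv g (a • φ) w ↔ IsTv g φ (a • w) := by
  unfold IsTv
  constructor
  · intro h x
    rw [h x, LinearMap.smul_apply, smul_eq_mul, smul_smul, mul_comm]
  · intro h x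
    rw [h x, LinearMap.smul_apply, smul_eq_mul, smul_smul, mul_comm]

theorem IsTv.inv_apply {g : V ≃ₗ[F] V} {φ : Dual F V} {w : V} (h : IsTv g φ w) (hw : φ w = 0)
    (x : V) : g⁻¹ x = x - φ x • w := by
  have h1 : g (x - φ x • w) = x := by
    rw [h, map_sub, map_smul, hw, smul_zero, sub_zero]
    abel
  have h2 : g⁻¹ (g (x - φ x • w)) = x - φ x • w := by
    rw [← LinearEquiv.mul_apply, inv_mul_cancel, one_app]
  rw [h1] at h2
  exact h2

theorem IsTv.inv {g : V ≃ₗ[F] V} {φ : Dual F V} {w : V} (h : IsTv g φ w) (hw : φ w = 0) :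
    IsTv g⁻¹ (-φ) w := by
  intro x
  rw [h.inv_apply hw, LinearMap.neg_apply, neg_smul, sub_eq_add_neg]

theorem IsTv.conj {s t : V ≃ₗ[F] V} {ψ φ : Dual F V} {u w : V} (hs : IsTv s ψ u)
    (ht : IsTv t φ w) (hu : ψ u = 0) :
    IsTv (s * t * s⁻¹) (φ - φ u • ψ) (w + ψ w • u) := by
  intro x
  rw [LinearEquiv.mul_apply, LinearEquiv.mul_apply, hs.inv_apply hu, ht, hs]
  simp only [map_sub, map_add, map_smul, smul_eq_mul, hu, mul_zero, sub_zero, LinearMap.sub_apply,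
    LinearMap.smul_apply, smul_add, add_smul, sub_smul, smul_smul]
  module

/-- general conjugation -/
theorem IsTv.conj' {g t : V ≃ₗ[F] V} {φ : Dual F V} {w : V} (ht : IsTv t φ w) :
    IsTv (g * t * g⁻¹) (φ ∘ₗ (g⁻¹ : V ≃ₗ[F] V).toLinearMap) (g w) := by
  intro x
  rw [LinearEquiv.mul_apply, LinearEquiv.mul_apply, ht, map_add, map_smul,
    ← LinearEquiv.mul_apply, mul_inv_cancel, one_app]
  rfl

theorem IsTv.commute {g g' : V ≃ₗ[F] V} {φ ψ : Dual F V} {w u : V} (h : IsTv g φ w)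
    (h' : IsTv g' ψ u) (h1 : φ u = 0) (h2 : ψ w = 0) : Commute g g' := by
  apply LinearEquiv.ext
  intro x
  rw [LinearEquiv.mul_apply, LinearEquiv.mul_apply, h' x, h x, h, h', map_add, map_add, map_smul,
    map_smul, h1, h2, smul_zero, smul_zero, add_zero, add_zero]
  abel

/-- commuting nontrivial transvections have orthogonal data -/
theorem IsTv.of_commute {g g' : V ≃ₗ[F] V} {φ ψ : Dual F V} {w u : V} (h : IsTv g φ w)
    (h' : IsTv g' ψ u) (_hw : φ w = 0) (hu : ψ u = 0) (hφ : φ ≠ 0) (hψ : ψ ≠ 0) (hw0 : w ≠ 0)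
    (hu0 : u ≠ 0) (hc : Commute g g') : φ u = 0 ∧ ψ w = 0 := by
  have key : ∀ x, (ψ x * φ u) • w = (φ x * ψ w) • u := by
    intro x
    have h3 : g (g' x) = g' (g x) := by
      rw [← LinearEquiv.mul_apply, ← LinearEquiv.mul_apply, hc.eq]
    rw [h' x, h x, h, h', map_add, map_add, map_smul, map_smul, smul_eq_mul, smul_eq_mul] at h3
    have h4 : x + ψ x • u + (φ x + ψ x * φ u) • w = x + φ x • w + (ψ x + φ x * ψ w) • u := h3
    rw [add_smul, add_smul] at h4
    have h5 : (ψ x * φ u) • w - (φ x * ψ w) • u = 0 := by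
      have : x + ψ x • u + (φ x • w + (ψ x * φ u) • w) -
          (x + φ x • w + (ψ x • u + (φ x * ψ w) • u)) = 0 := sub_eq_zero.mpr h4
      rw [← this]; abel
    exact sub_eq_zero.mp h5
  -- evaluate the key identity with `φ` and `ψ`
  obtain ⟨x₁, hx₁⟩ : ∃ x₁, ψ x₁ ≠ 0 := by
    by_contra hcon
    push Not at hcon
    exact hψ (LinearMap.ext hcon)
  obtain ⟨x₂, hx₂⟩ : ∃ x₂, φ x₂ ≠ 0 := by
    by_contra hcon
    push Not at hcon
    exact hφ (LinearMap.ext hcon)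
  have hφu : φ u = 0 := by
    by_contra hne
    -- apply `ψ` to the identity at `x₁`: ψ x₁ * φ u * ψ w = 0, so ψ w = 0; then w = 0
    have e1 := congrArg ψ (key x₁)
    rw [map_smul, map_smul, hu, smul_zero, smul_eq_mul] at e1
    have hψw : ψ w = 0 := by
      rcases mul_eq_zero.mp e1 with h | h
      · exact absurd h (mul_ne_zero hx₁ hne)
      · exact h
    have e2 := key x₁
    rw [hψw, mul_zero, zero_smul] at e2
    exact hw0 ((smul_eq_zero.mp e2).resolve_left (mul_ne_zero hx₁ hne))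
  refine ⟨hφu, ?_⟩
  by_contra hne
  have e2 := key x₂
  rw [hφu, mul_zero, zero_smul] at e2
  exact hu0 ((smul_eq_zero.mp e2.symm).resolve_left (mul_ne_zero hx₂ hne))

/-- uniqueness of the data of a nontrivial transvection -/
theorem IsTv.data_unique {g : V ≃ₗ[F] V} {φ φ' : Dual F V} {w w' : V} (h : IsTv g φ w)
    (h' : IsTv g φ' w') (hφ : φ ≠ 0) (hw : w ≠ 0) :
    ∃ a : F, a ≠ 0 ∧ φ' = a • φ ∧ w' = a⁻¹ • w := by
  have key : ∀ x, φ x • w = φ' x • w' := by
    intro x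
    have := (h x).symm.trans (h' x)
    exact add_left_cancel this
  obtain ⟨x₀, hx₀⟩ : ∃ x₀, φ x₀ ≠ 0 := by
    by_contra hcon
    push Not at hcon
    exact hφ (LinearMap.ext hcon)
  have hw' : w = (φ' x₀ / φ x₀) • w' := by
    have := key x₀
    rw [div_eq_inv_mul, ← smul_smul, ← this, smul_smul, inv_mul_cancel₀ hx₀, one_smul]
  have hb : φ' x₀ / φ x₀ ≠ 0 := by
    intro h0
    rw [h0, zero_smul] at hw'
    exact hw hw'
  have hw'0 : w' ≠ 0 := by
    rintro rfl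
    rw [smul_zero] at hw'
    exact hw hw'
  refine ⟨φ' x₀ / φ x₀, hb, ?_, ?_⟩
  · ext x
    have := key x
    rw [hw', smul_smul] at this
    have h3 := smul_left_injective F hw'0 this
    rw [LinearMap.smul_apply, smul_eq_mul, ← h3, mul_comm]
  · rw [hw', smul_smul, inv_mul_cancel₀ hb, one_smul]

theorem IsTv.eq_one_iff {g : V ≃ₗ[F] V} {φ : Dual F V} {w : V} (h : IsTv g φ w) :
    g = 1 ↔ φ = 0 ∨ w = 0 := by
  constructor
  · intro h1
    by_contra hcon
    push Not at hcon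
    obtain ⟨x₀, hx₀⟩ : ∃ x₀, φ x₀ ≠ 0 := by
      by_contra hc
      push Not at hc
      exact hcon.1 (LinearMap.ext hc)
    have := h x₀
    rw [h1, one_app] at this
    have h2 : φ x₀ • w = 0 := by
      have h3 : x₀ + 0 = x₀ + φ x₀ • w := by rw [add_zero]; exact this
      exact (add_left_cancel h3).symm
    exact hcon.2 ((smul_eq_zero.mp h2).resolve_left hx₀)
  · rintro (rfl | rfl)
    · exact h.unique (isTv_one_left w)
    · exact h.unique (isTv_one_right φ)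

end general

section zmodp

variable {p : ℕ} [Fact p.Prime] {V : Type*} [AddCommGroup V] [Module (ZMod p) V]

theorem IsTv.smul {g : V ≃ₗ[ZMod p] V} {φ : Dual (ZMod p) V} {w : V} (h : IsTv g φ w)
    (hw : φ w = 0) (a : ZMod p) : IsTv (g ^ a.val) (a • φ) w := by
  have h1 := h.pow hw a.val
  have e : (a.val • φ : Dual (ZMod p) V) = a • φ := by
    rw [← Nat.cast_smul_eq_nsmul (ZMod p), ZMod.natCast_zmod_val]
  rwa [e] at h1

/-- the root relation of a subgroup -/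
def RH (H : Subgroup (V ≃ₗ[ZMod p] V)) (φ : Dual (ZMod p) V) (w : V) : Prop :=
  φ w = 0 ∧ ∃ g ∈ H, IsTv g φ w

theorem rh_sp3 (hp : Odd p) (H : Subgroup (V ≃ₗ[ZMod p] V)) {β γ : Dual (ZMod p) V} {u c : V}
    (h1 : RH H (β + γ) (u + c)) (h2 : RH H (β - γ) (u - c)) (h3 : RH H β u)
    (hβc : β c = 0) (hγu : γ u = 0) : RH H γ c := by
  obtain ⟨o1, g₁, hg₁, t1⟩ := h1
  obtain ⟨o2, g₂, hg₂, t2⟩ := h2
  obtain ⟨o3, g₃, hg₃, t3⟩ := h3
  have hγc : γ c = 0 := by
    simp only [LinearMap.add_apply, map_add, o3, hβc, hγu, zero_add] at o1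
    exact o1
  have h2ne : (2 : ZMod p) ≠ 0 := by
    have hp2 : p ≠ 2 := by
      rintro rfl
      exact (by decide : ¬ Odd 2) hp
    intro h0
    have : ((2 : ℕ) : ZMod p) = 0 := by exact_mod_cast h0
    rw [ZMod.natCast_eq_zero_iff] at this
    have := (Nat.prime_dvd_prime_iff_eq (Fact.out : p.Prime) Nat.prime_two).mp this
    exact hp2 this
  refine ⟨hγc, ?_⟩
  -- the element with data (2γ, c)
  have ht : IsTv (g₃⁻¹ * g₃⁻¹ * (g₁ * g₂)) ((2 : ZMod p) • γ) c := by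
    intro x
    rw [LinearEquiv.mul_apply, LinearEquiv.mul_apply, LinearEquiv.mul_apply, t2 x, t1,
      t3.inv_apply o3, t3.inv_apply o3]
    simp only [map_sub, map_add, map_smul, smul_eq_mul, LinearMap.sub_apply, LinearMap.add_apply,
      LinearMap.smul_apply, o3, hβc, hγu, hγc, mul_zero, sub_zero, add_zero, sub_self]
    module
  have hmem : g₃⁻¹ * g₃⁻¹ * (g₁ * g₂) ∈ H :=
    H.mul_mem (H.mul_mem (H.inv_mem hg₃) (H.inv_mem hg₃)) (H.mul_mem hg₁ hg₂)
  have h4 := ht.smul (by rw [LinearMap.smul_apply, hγc, smul_zero]) (2 : ZMod p)⁻¹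
  rw [smul_smul, inv_mul_cancel₀ h2ne, one_smul] at h4
  exact ⟨_, H.pow_mem hmem _, h4⟩

/-- the abstract root relation attached to a subgroup of `GL(V)` over `ZMod p`, `p` odd -/
def rootRelOf (hp : Odd p) (H : Subgroup (V ≃ₗ[ZMod p] V)) : RootRel (ZMod p) V where
  R := RH H
  ort h := h.1
  zl w := ⟨LinearMap.zero_apply w, 1, H.one_mem, isTv_one_left w⟩
  zr φ := ⟨map_zero φ, 1, H.one_mem, isTv_one_right φ⟩
  addl := by
    rintro φ φ' w ⟨o1, g, hg, t⟩ ⟨o2, g', hg', t'⟩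
    exact ⟨by rw [LinearMap.add_apply, o1, o2, add_zero], g * g', H.mul_mem hg hg',
      t.mul_left t' o1⟩
  addr := by
    rintro φ w w' ⟨o1, g, hg, t⟩ ⟨o2, g', hg', t'⟩
    exact ⟨by rw [map_add, o1, o2, add_zero], g * g', H.mul_mem hg hg', t.mul_right t' o2⟩
  smul := by
    rintro φ w a ⟨o1, g, hg, t⟩
    exact ⟨by rw [LinearMap.smul_apply, o1, smul_zero], g ^ a.val, H.pow_mem hg _, t.smul o1 a⟩
  swap := by
    intro φ w a
    constructor
    · rintro ⟨o1, g, hg, t⟩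
      exact ⟨by rw [map_smul]; exact o1, g, hg, (IsTv.swap a).mp t⟩
    · rintro ⟨o1, g, hg, t⟩
      exact ⟨by rw [LinearMap.smul_apply, ← map_smul]; exact o1, g, hg, (IsTv.swap a).mpr t⟩
  conj := by
    rintro ψ φ u w ⟨o1, s, hs, ts⟩ ⟨o2, t, ht, tt⟩
    refine ⟨?_, s * t * s⁻¹, H.mul_mem (H.mul_mem hs ht) (H.inv_mem hs), ts.conj tt o1⟩
    simp only [LinearMap.sub_apply, LinearMap.smul_apply, map_add, map_smul, o1, o2, smul_eq_mul,
      mul_zero]
    ring
  sp3 := by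
    intro β γ u c h1 h2 h3 h4 h5
    exact rh_sp3 hp H h1 h2 h3 h4 h5

theorem rootRelOf_R (hp : Odd p) (H : Subgroup (V ≃ₗ[ZMod p] V)) (φ : Dual (ZMod p) V) (w : V) :
    (rootRelOf hp H).R φ w ↔ (φ w = 0 ∧ ∃ g ∈ H, IsTv g φ w) := Iff.rfl

end zmodp

end Cfsg.Agent.Lib.Helper8.ML
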