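import Mathlib
import Cfsg.Prelude.Def_Solvable
import Cfsg.Agent.Lib.Helper8.ML10
import Cfsg.Agent.Lib.Helper7.Wielandt6

set_option autoImplicit false

/-!
# McLaughlin's theorem: opposite partners from `O_p(H) = 1` (part 11)
-/

namespace Cfsg.Agent.Lib.Helper8.ML

open Module

section flag

variable {F : Type*} [Field F] {V : Type*} [AddCommGroup V] [Module F V]

/-- the stabiliser of the flag `0 ≤ ⟨w⟩ ≤ ⟨u, w⟩ ≤ V` acting trivially on the factors -/
def flagSub (u w : V) : Subgroup (V ≃ₗ[F] V) where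
  carrier := {k | (∀ x, ∃ a b : F, k x = x + a • u + b • w) ∧ (∃ b : F, k u = u + b • w) ∧ k w = w}
  one_mem' := by
    refine ⟨fun x => ⟨0, 0, by simp⟩, ⟨0, by simp⟩, rfl⟩
  mul_mem' := by
    rintro k k' ⟨h1, ⟨b₁, h2⟩, h3⟩ ⟨h1', ⟨b₁', h2'⟩, h3'⟩
    refine ⟨?_, ?_, ?_⟩
    · intro x
      obtain ⟨a', b', hx'⟩ := h1' x
      obtain ⟨a, b, hx⟩ := h1 x
      refine ⟨a + a', b + a' * b₁ + b', ?_⟩
      rw [LinearEquiv.mul_apply, hx', map_add, map_add, map_smul, map_smul, hx, h2, h3]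
      module
    · refine ⟨b₁ + b₁', ?_⟩
      rw [LinearEquiv.mul_apply, h2', map_add, map_smul, h2, h3]
      module
    · rw [LinearEquiv.mul_apply, h3', h3]
  inv_mem' := by
    rintro k ⟨h1, ⟨b₁, h2⟩, h3⟩
    have hw : k⁻¹ w = w := by
      have : k⁻¹ (k w) = w := by rw [← LinearEquiv.mul_apply, inv_mul_cancel, one_app]
      rwa [h3] at this
    have hu : k⁻¹ u = u - b₁ • w := by
      have : k⁻¹ (k u) = u := by rw [← LinearEquiv.mul_apply, inv_mul_cancel, one_app]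
      rw [h2, map_add, map_smul, hw] at this
      exact eq_sub_of_add_eq this
    refine ⟨?_, ⟨-b₁, by rw [hu, neg_smul, sub_eq_add_neg]⟩, hw⟩
    intro x
    obtain ⟨a, b, hx⟩ := h1 x
    have : k⁻¹ (k x) = x := by rw [← LinearEquiv.mul_apply, inv_mul_cancel, one_app]
    rw [hx, map_add, map_add, map_smul, map_smul, hw, hu] at this
    refine ⟨-a, a * b₁ - b, ?_⟩
    have e : k⁻¹ x = x - b • w - a • (u - b₁ • w) :=
      eq_sub_of_add_eq (eq_sub_of_add_eq this)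
    rw [e]
    module

theorem mem_flagSub_of_center {k : V ≃ₗ[F] V} {φ : Dual F V} {w : V} (h : IsTv k φ w)
    (hw : φ w = 0) (u : V) : k ∈ flagSub u w := by
  refine ⟨fun x => ⟨0, φ x, by rw [h x, zero_smul, add_zero]⟩, ⟨φ u, h u⟩, ?_⟩
  rw [h w, hw, zero_smul, add_zero]

theorem mem_flagSub_of_mid {k : V ≃ₗ[F] V} {ψ : Dual F V} {u : V} (h : IsTv k ψ u)
    (hu : ψ u = 0) {w : V} (hw : ψ w = 0) : k ∈ flagSub u w := by
  refine ⟨fun x => ⟨ψ x, 0, by rw [h x, zero_smul, add_zero]⟩, ⟨0, ?_⟩, ?_⟩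
  · rw [h u, hu, zero_smul, zero_smul]
  · rw [h w, hw, zero_smul, add_zero]

theorem pow_apply_of_nil {k : V ≃ₗ[F] V} {x y z : V} (hx : k x = x + y) (hy : k y = y + z)
    (hz : k z = z) (n : ℕ) : (k ^ n) x = x + n • y + (n.choose 2) • z := by
  induction n with
  | zero => simp
  | succ n ih =>
    rw [pow_succ', LinearEquiv.mul_apply, ih, map_add, map_add, map_nsmul, map_nsmul, hx, hy, hz,
      Nat.choose_succ_succ' n 1, Nat.choose_one_right]
    simp only [smul_add, add_smul, one_smul]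
    abel

end flag

section zmodp

variable {p : ℕ} [Fact p.Prime] {V : Type*} [AddCommGroup V] [Module (ZMod p) V]

theorem nsmul_eq_zero_of_dvd {m : ℕ} (hm : p ∣ m) (y : V) : m • y = 0 := by
  rw [← Nat.cast_smul_eq_nsmul (ZMod p), (ZMod.natCast_eq_zero_iff m p).mpr hm, zero_smul]

theorem pow_p_eq_one_of_mem_flagSub (hp : Odd p) {u w : V} {k : V ≃ₗ[ZMod p] V}
    (hk : k ∈ flagSub u w) : k ^ p = 1 := by
  obtain ⟨h1, ⟨b₁, h2⟩, h3⟩ := hk
  apply LinearEquiv.ext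
  intro x
  obtain ⟨a, b, hx⟩ := h1 x
  have hpp : p.Prime := Fact.out
  have hp3 : 2 < p := by
    rcases hpp.eq_two_or_odd with h | h
    · subst h; exact absurd hp (by decide)
    · have := hpp.two_le; omega
  have hy : k (a • u + b • w) = (a • u + b • w) + (a * b₁) • w := by
    rw [map_add, map_smul, map_smul, h2, h3]; module
  have hz : k ((a * b₁) • w) = (a * b₁) • w := by rw [map_smul, h3]
  have hx' : k x = x + (a • u + b • w) := by rw [hx]; abel
  rw [pow_apply_of_nil hx' hy hz p, nsmul_eq_zero_of_dvd (dvd_refl p),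
    nsmul_eq_zero_of_dvd (hpp.dvd_choose_self (by norm_num) hp3), add_zero, add_zero, one_app]

end zmodp

section opp

variable {p : ℕ} [Fact p.Prime] {V : Type*} [AddCommGroup V] [Module (ZMod p) V] [Finite V]

open Cfsg.Agent.Lib.Helper7 in
/-- if `O_p(H) = 1` then every nontrivial transvection of `H` has an opposite partner in `H` -/
theorem opp_of_pCore (hp : Odd p) (H : Subgroup (V ≃ₗ[ZMod p] V))
    (hOp : Cfsg.pCore p ↥H = ⊥) : (rootRelOf hp H).Opp := by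
  rintro φ w ⟨o, g, hg, t⟩ hφ hw
  by_contra hcon
  push Not at hcon
  -- hcon : ∀ ψ u, R ψ u → φ u ≠ 0 → ψ w = 0
  have : Finite (V ≃ₗ[ZMod p] V) := Finite.of_injective (fun e => (e : V → V))
    (fun a b h => LinearEquiv.ext (congrFun h))
  set gH : ↥H := ⟨g, hg⟩ with hgH
  set X : Subgroup ↥H := Subgroup.zpowers gH with hX
  have hpg : ∀ h : ↥H, IsPGroup p ↥(X ⊔ cj h X) := by
    intro h
    -- the conjugate transvection
    have t' : IsTv ((h : V ≃ₗ[ZMod p] V) * g * (h : V ≃ₗ[ZMod p] V)⁻¹)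
        (φ ∘ₗ ((h : V ≃ₗ[ZMod p] V)⁻¹ : V ≃ₗ[ZMod p] V).toLinearMap) ((h : V ≃ₗ[ZMod p] V) w) :=
      t.conj'
    have o' : (φ ∘ₗ ((h : V ≃ₗ[ZMod p] V)⁻¹ : V ≃ₗ[ZMod p] V).toLinearMap)
        ((h : V ≃ₗ[ZMod p] V) w) = 0 := by
      rw [LinearMap.comp_apply]
      have : ((h : V ≃ₗ[ZMod p] V)⁻¹ : V ≃ₗ[ZMod p] V).toLinearMap ((h : V ≃ₗ[ZMod p] V) w) = w := by
        show (h : V ≃ₗ[ZMod p] V)⁻¹ ((h : V ≃ₗ[ZMod p] V) w) = w
        rw [← LinearEquiv.mul_apply, inv_mul_cancel, one_app]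
      rw [this, o]
    have hmem' : (h : V ≃ₗ[ZMod p] V) * g * (h : V ≃ₗ[ZMod p] V)⁻¹ ∈ H :=
      H.mul_mem (H.mul_mem h.2 hg) (H.inv_mem h.2)
    have hR' : (rootRelOf hp H).R (φ ∘ₗ ((h : V ≃ₗ[ZMod p] V)⁻¹ : V ≃ₗ[ZMod p] V).toLinearMap)
        ((h : V ≃ₗ[ZMod p] V) w) := ⟨o', _, hmem', t'⟩
    -- a flag subgroup containing both
    obtain ⟨u', w', hgf, hg'f⟩ : ∃ u' w' : V, g ∈ flagSub u' w' ∧
        (h : V ≃ₗ[ZMod p] V) * g * (h : V ≃ₗ[ZMod p] V)⁻¹ ∈ flagSub u' w' := by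
      by_cases hc : φ ((h : V ≃ₗ[ZMod p] V) w) = 0
      · exact ⟨w, (h : V ≃ₗ[ZMod p] V) w, mem_flagSub_of_mid t o hc,
          mem_flagSub_of_center t' o' w⟩
      · have hc' := hcon _ _ hR' hc
        exact ⟨(h : V ≃ₗ[ZMod p] V) w, w, mem_flagSub_of_center t o _,
          mem_flagSub_of_mid t' o' hc'⟩
    have hle : X ⊔ cj h X ≤ (flagSub u' w').comap H.subtype := by
      apply sup_le
      · rw [hX, Subgroup.zpowers_le]
        exact hgf
      · rw [Subgroup.map_le_iff_le_comap, hX, Subgroup.zpowers_le]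
        exact hg'f
    intro k
    refine ⟨1, ?_⟩
    rw [pow_one]
    have h1 := pow_p_eq_one_of_mem_flagSub hp (hle k.2)
    apply Subtype.ext
    apply Subtype.ext
    simpa using h1
  have hbs := (baer_suzuki X hpg).2
  have hpc : Cfsg.piCore {p} ↥H ≤ Cfsg.pCore p ↥H :=
    le_sSup ⟨Cfsg.piCore_normal _ _, isPGroup_piCore_singleton p⟩
  have hgmem : gH ∈ X := Subgroup.mem_zpowers gH
  have h1 := hpc (hbs hgmem)
  rw [hOp, Subgroup.mem_bot] at h1
  have hg1 : g = 1 := congrArg Subtype.val h1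
  rcases t.eq_one_iff.mp hg1 with h | h
  · exact hφ h
  · exact hw h

end opp

end Cfsg.Agent.Lib.Helper8.ML
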