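import Mathlib
import Cfsg.Agent.Lib.Helper8.ML11

set_option autoImplicit false

/-!
# McLaughlin's theorem: the non-commuting graph on transvections (part 12)
-/

namespace Cfsg.Agent.Lib.Helper8.ML

open Module

section general

variable {F : Type*} [Field F] {V : Type*} [AddCommGroup V] [Module F V]

/-- `g` is a nontrivial transvection -/
def NTv (g : V ≃ₗ[F] V) : Prop :=
  ∃ (φ : Dual F V) (w : V), φ ≠ 0 ∧ w ≠ 0 ∧ φ w = 0 ∧ IsTv g φ w

/-- the nontrivial transvections of `H` -/
def tset (H : Subgroup (V ≃ₗ[F] V)) : Set (V ≃ₗ[F] V) := {g | g ∈ H ∧ NTv g}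

/-- adjacency in the non-commuting graph -/
def adj (H : Subgroup (V ≃ₗ[F] V)) (a b : V ≃ₗ[F] V) : Prop := b ∈ tset H ∧ ¬ Commute a b

/-- the connected component of `t` -/
def comp (H : Subgroup (V ≃ₗ[F] V)) (t : V ≃ₗ[F] V) : Set (V ≃ₗ[F] V) :=
  {s | Relation.ReflTransGen (adj H) t s}

/-- the subgroup generated by the component of `t` -/
def Kof (H : Subgroup (V ≃ₗ[F] V)) (t : V ≃ₗ[F] V) : Subgroup (V ≃ₗ[F] V) :=
  Subgroup.closure (comp H t)

variable {H : Subgroup (V ≃ₗ[F] V)}

theorem self_mem_comp (t : V ≃ₗ[F] V) : t ∈ comp H t := Relation.ReflTransGen.refl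

theorem comp_subset {t : V ≃ₗ[F] V} (ht : t ∈ tset H) : comp H t ⊆ tset H := by
  intro s hs
  induction hs with
  | refl => exact ht
  | tail _ h _ => exact h.1

theorem comp_symm {t s : V ≃ₗ[F] V} (ht : t ∈ tset H) (hs : s ∈ comp H t) : t ∈ comp H s := by
  induction hs with
  | refl => exact Relation.ReflTransGen.refl
  | @tail b c hb hbc ih =>
    have hbT : b ∈ tset H := comp_subset ht hb
    have : adj H c b := ⟨hbT, fun h => hbc.2 h.symm⟩
    exact Relation.ReflTransGen.head this ih

theorem comp_trans {t s r : V ≃ₗ[F] V} (hs : s ∈ comp H t) (hr : r ∈ comp H s) : r ∈ comp H t :=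
  Relation.ReflTransGen.trans hs hr

theorem comp_eq_of_mem {t s : V ≃ₗ[F] V} (ht : t ∈ tset H) (hs : s ∈ comp H t) :
    comp H s = comp H t := by
  ext r
  constructor
  · intro hr; exact comp_trans hs hr
  · intro hr; exact comp_trans (comp_symm ht hs) hr

theorem comp_le_Kof (t : V ≃ₗ[F] V) : comp H t ⊆ Kof H t := Subgroup.subset_closure

theorem Kof_le {t : V ≃ₗ[F] V} (ht : t ∈ tset H) : Kof H t ≤ H := by
  rw [Kof, Subgroup.closure_le]
  intro s hs
  exact (comp_subset ht hs).1

/-- a transvection of `H` outside the component commutes with the component -/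
theorem commute_of_not_mem_comp {t s r : V ≃ₗ[F] V} (hs : s ∈ tset H) (hns : s ∉ comp H t)
    (hr : r ∈ comp H t) : Commute r s := by
  by_contra hc
  exact hns (Relation.ReflTransGen.tail hr ⟨hs, hc⟩)

theorem commute_Kof_of_not_mem_comp {t s : V ≃ₗ[F] V} (hs : s ∈ tset H) (hns : s ∉ comp H t)
    {k : V ≃ₗ[F] V} (hk : k ∈ Kof H t) : Commute k s := by
  have hle : Kof H t ≤ Subgroup.centralizer {s} := by
    rw [Kof, Subgroup.closure_le]
    intro r hr
    rw [SetLike.mem_coe, Subgroup.mem_centralizer_iff]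
    intro x hx
    rw [Set.mem_singleton_iff] at hx
    subst hx
    exact (commute_of_not_mem_comp hs hns hr).eq.symm
  have := hle hk
  rw [Subgroup.mem_centralizer_iff] at this
  exact (this s rfl).symm

/-- the component subgroups are normalised by `H` when `H` is generated by transvections -/
theorem conj_mem_Kof (hgen : H ≤ Subgroup.closure (tset H)) {t : V ≃ₗ[F] V} {h k : V ≃ₗ[F] V}
    (hh : h ∈ H) (hk : k ∈ Kof H t) : h * k * h⁻¹ ∈ Kof H t := by
  have hle : Subgroup.closure (tset H) ≤ Subgroup.normalizer (Kof H t : Set (V ≃ₗ[F] V)) := by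
    rw [Subgroup.closure_le]
    intro s hs
    by_cases hsc : s ∈ comp H t
    · exact Subgroup.le_normalizer (comp_le_Kof t hsc)
    · rw [SetLike.mem_coe, Subgroup.mem_normalizer_iff]
      intro x
      constructor
      · intro hx
        have hc := commute_Kof_of_not_mem_comp hs hsc hx
        have : s * x * s⁻¹ = x := by rw [← hc.eq, mul_inv_cancel_right]
        rw [this]; exact hx
      · intro hx
        have hc := commute_Kof_of_not_mem_comp hs hsc hx
        have : s⁻¹ * (s * x * s⁻¹) * s = x := by group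
        have h2 : s⁻¹ * (s * x * s⁻¹) * s = s * x * s⁻¹ := by
          rw [mul_assoc, hc.eq, inv_mul_cancel_left]
        rw [← this, h2]; exact hx
  have := hle (hgen hh)
  rw [Subgroup.mem_normalizer_iff] at this
  exact (this k).mp hk

/-- distinct components commute elementwise -/
theorem commute_Kof_Kof {t t' : V ≃ₗ[F] V} (ht : t ∈ tset H) (ht' : t' ∈ tset H)
    (hne : t' ∉ comp H t) {a b : V ≃ₗ[F] V} (ha : a ∈ Kof H t) (hb : b ∈ Kof H t') :
    Commute a b := by
  have hle : Kof H t' ≤ Subgroup.centralizer {a} := by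
    rw [Kof, Subgroup.closure_le]
    intro r' hr'
    have hr'T : r' ∈ tset H := comp_subset ht' hr'
    have hr'n : r' ∉ comp H t := by
      intro hcon
      apply hne
      have h1 : comp H r' = comp H t := comp_eq_of_mem ht hcon
      rw [← h1]
      exact comp_symm ht' hr'
    rw [SetLike.mem_coe, Subgroup.mem_centralizer_iff]
    intro x hx
    rw [Set.mem_singleton_iff] at hx
    subst hx
    exact (commute_Kof_of_not_mem_comp hr'T hr'n ha).eq
  have := hle hb
  rw [Subgroup.mem_centralizer_iff] at this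
  exact (this a rfl)

end general

section zmodp

variable {p : ℕ} [Fact p.Prime] {V : Type*} [AddCommGroup V] [Module (ZMod p) V] [Finite V]

/-- an element of order `p` fixing a hyperplane pointwise is a nontrivial transvection -/
theorem ntv_of_order (t : V ≃ₗ[ZMod p] V) (ho : orderOf t = p)
    (hr : Module.finrank (ZMod p) ↥(LinearMap.ker ((t : V →ₗ[ZMod p] V) - LinearMap.id)) + 1 =
      Module.finrank (ZMod p) V) : NTv t := by
  have hpp : p.Prime := Fact.out
  set N : V →ₗ[ZMod p] V := (t : V →ₗ[ZMod p] V) - LinearMap.id with hN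
  have hNapp : ∀ x, t x = x + N x := by
    intro x
    simp [hN]
  have hrange : finrank (ZMod p) (LinearMap.range N) = 1 := by
    have := LinearMap.finrank_range_add_finrank_ker N
    omega
  obtain ⟨⟨w, hwr⟩, hw0, hspan⟩ := finrank_eq_one_iff'.mp hrange
  have hw : w ≠ 0 := fun h => hw0 (Subtype.ext h)
  obtain ⟨ℓ₀, hℓ₀⟩ : ∃ ℓ₀ : Dual (ZMod p) V, ℓ₀ w ≠ 0 := by
    by_contra hcon
    push Not at hcon
    exact hw ((Module.forall_dual_apply_eq_zero_iff (ZMod p) w).mp hcon)
  set ℓ : Dual (ZMod p) V := (ℓ₀ w)⁻¹ • ℓ₀ with hℓ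
  have hℓw : ℓ w = 1 := by
    rw [hℓ, LinearMap.smul_apply, smul_eq_mul, inv_mul_cancel₀ hℓ₀]
  set φ : Dual (ZMod p) V := ℓ ∘ₗ N with hφ
  have hNφ : ∀ x, N x = φ x • w := by
    intro x
    obtain ⟨c, hc⟩ := hspan ⟨N x, LinearMap.mem_range_self N x⟩
    have hc' : c • w = N x := congrArg Subtype.val hc
    rw [hφ, LinearMap.comp_apply, ← hc', map_smul, hℓw, smul_eq_mul, mul_one]
  have htv : IsTv t φ w := by
    intro x
    rw [hNapp, hNφ]
  have hφw : φ w = 0 := by
    by_contra hc
    have h1 : ∀ n : ℕ, (t ^ n) w = (1 + φ w) ^ n • w := by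
      intro n
      induction n with
      | zero => simp
      | succ n ih =>
        rw [pow_succ', LinearEquiv.mul_apply, ih, map_smul, htv w, pow_succ, ← smul_smul]
        congr 1
        rw [add_smul, one_smul]
    have h2 : (t ^ p) w = w := by
      have htp : t ^ p = 1 := by
        have := pow_orderOf_eq_one t
        rwa [ho] at this
      rw [htp, one_app]
    rw [h1 p, ZMod.pow_card] at h2
    have h3 : (1 + φ w) • w = (1 : ZMod p) • w := by rw [h2, one_smul]
    have h4 := smul_left_injective (ZMod p) hw h3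
    apply hc
    linear_combination h4
  refine ⟨φ, w, ?_, hw, hφw, htv⟩
  intro h0
  have : t = 1 := htv.eq_one_iff.mpr (Or.inl h0)
  rw [this, orderOf_one] at ho
  exact hpp.one_lt.ne ho

/-- a group generated by such elements is generated by its nontrivial transvections -/
theorem le_closure_tset (H : Subgroup (V ≃ₗ[ZMod p] V)) (T : Set (V ≃ₗ[ZMod p] V))
    (hHT : H = Subgroup.closure T)
    (hT : ∀ t ∈ T, orderOf t = p ∧
      Module.finrank (ZMod p) ↥(LinearMap.ker ((t : V →ₗ[ZMod p] V) - LinearMap.id)) + 1 =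
        Module.finrank (ZMod p) V) : H ≤ Subgroup.closure (tset H) := by
  conv_lhs => rw [hHT]
  apply Subgroup.closure_mono
  intro t ht
  refine ⟨?_, ntv_of_order t (hT t ht).1 (hT t ht).2⟩
  rw [hHT]
  exact Subgroup.subset_closure ht

end zmodp

end Cfsg.Agent.Lib.Helper8.ML
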