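import Mathlib
import Cfsg.Agent.Lib.Helper8.ML12

set_option autoImplicit false

/-!
# McLaughlin's theorem: components satisfy the abstract hypotheses (part 13)
-/

namespace Cfsg.Agent.Lib.Helper8.ML

open Module

section general

variable {F : Type*} [Field F] {V : Type*} [AddCommGroup V] [Module F V]

/-- the fixed space of a subgroup -/
def fixSub (K : Subgroup (V ≃ₗ[F] V)) : Submodule F V where
  carrier := {v | ∀ k ∈ K, k v = v}
  add_mem' := by
    intro a b ha hb k hk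
    rw [map_add, ha k hk, hb k hk]
  zero_mem' := by
    intro k _
    exact map_zero k
  smul_mem' := by
    intro c v hv k hk
    rw [map_smul, hv k hk]

theorem mem_fixSub {K : Subgroup (V ≃ₗ[F] V)} {v : V} : v ∈ fixSub K ↔ ∀ k ∈ K, k v = v :=
  Iff.rfl

/-- the fixed space of a closure -/
theorem mem_fixSub_closure {S : Set (V ≃ₗ[F] V)} {v : V} (h : ∀ s ∈ S, s v = v) :
    v ∈ fixSub (Subgroup.closure S) := by
  intro k hk
  induction hk using Subgroup.closure_induction with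
  | mem s hs => exact h s hs
  | one => rfl
  | mul a b _ _ ha hb => rw [LinearEquiv.mul_apply, hb, ha]
  | inv a _ ha =>
    have : a⁻¹ (a v) = v := by rw [← LinearEquiv.mul_apply, inv_mul_cancel, one_app]
    rwa [ha] at this

/-- restriction of a subgroup preserving `W` to `W` -/
noncomputable def resHom (K : Subgroup (V ≃ₗ[F] V)) (W : Submodule F V)
    (hW : ∀ k ∈ K, ∀ v ∈ W, k v ∈ W) : ↥K →* (↥W ≃ₗ[F] ↥W) where
  toFun k := LinearEquiv.ofLinearMap
    (LinearMap.restrict ((k : V ≃ₗ[F] V) : V →ₗ[F] V) (hW k k.2))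
    (LinearMap.restrict (((k : V ≃ₗ[F] V)⁻¹ : V ≃ₗ[F] V) : V →ₗ[F] V) (hW _ (K.inv_mem k.2)))
    (by
      ext v
      simp only [LinearMap.comp_apply, LinearMap.coe_restrict_apply, LinearEquiv.coe_coe,
        LinearMap.id_apply]
      rw [← LinearEquiv.mul_apply, mul_inv_cancel, one_app])
    (by
      ext v
      simp only [LinearMap.comp_apply, LinearMap.coe_restrict_apply, LinearEquiv.coe_coe,
        LinearMap.id_apply]
      rw [← LinearEquiv.mul_apply, inv_mul_cancel, one_app])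
  map_one' := by
    apply LinearEquiv.ext
    intro v
    apply Subtype.ext
    rfl
  map_mul' a b := by
    apply LinearEquiv.ext
    intro v
    apply Subtype.ext
    rfl

theorem resHom_apply (K : Subgroup (V ≃ₗ[F] V)) (W : Submodule F V)
    (hW : ∀ k ∈ K, ∀ v ∈ W, k v ∈ W) (k : ↥K) (v : ↥W) :
    ((resHom K W hW k v : ↥W) : V) = (k : V ≃ₗ[F] V) (v : V) := rfl

end general

section zmodp

variable {p : ℕ} [Fact p.Prime] {V : Type*} [AddCommGroup V] [Module (ZMod p) V]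
  (hp : Odd p) {H : Subgroup (V ≃ₗ[ZMod p] V)}

include hp in
/-- the nontrivial transvections of `H` inside a component subgroup form the component -/
theorem tset_inter_Kof (hopp : (rootRelOf hp H).Opp) {t s : V ≃ₗ[ZMod p] V} (_ht : t ∈ tset H)
    (hs : s ∈ tset H) (hsK : s ∈ Kof H t) : s ∈ comp H t := by
  by_contra hns
  obtain ⟨hsH, φ, w, hφ, hw, o, tv⟩ := hs
  obtain ⟨ψ, u, ⟨o', g', hg', tv'⟩, hφu, hψw⟩ := hopp φ w ⟨o, s, hsH, tv⟩ hφ hw
  have hψ : ψ ≠ 0 := by rintro rfl; exact hψw rfl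
  have hu : u ≠ 0 := by rintro rfl; exact hφu (map_zero φ)
  have hg'T : g' ∈ tset H := ⟨hg', ψ, u, hψ, hu, o', tv'⟩
  have hsT : s ∈ tset H := ⟨hsH, φ, w, hφ, hw, o, tv⟩
  have hnc : ¬ Commute s g' := by
    intro hc
    exact hφu (tv.of_commute tv' o o' hφ hψ hw hu hc).1
  by_cases hg'c : g' ∈ comp H t
  · exact hnc (commute_of_not_mem_comp hsT hns hg'c).symm
  · exact hnc (commute_Kof_of_not_mem_comp hg'T hg'c hsK)

include hp in
theorem opp_Kof (hopp : (rootRelOf hp H).Opp) {t : V ≃ₗ[ZMod p] V} (ht : t ∈ tset H) :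
    (rootRelOf hp (Kof H t)).Opp := by
  rintro φ w ⟨o, g, hgK, tv⟩ hφ hw
  have hgH : g ∈ H := Kof_le ht hgK
  have hgT : g ∈ tset H := ⟨hgH, φ, w, hφ, hw, o, tv⟩
  have hgc : g ∈ comp H t := tset_inter_Kof hp hopp ht hgT hgK
  obtain ⟨ψ, u, ⟨o', g', hg', tv'⟩, hφu, hψw⟩ := hopp φ w ⟨o, g, hgH, tv⟩ hφ hw
  have hψ : ψ ≠ 0 := by rintro rfl; exact hψw rfl
  have hu : u ≠ 0 := by rintro rfl; exact hφu (map_zero φ)
  have hg'T : g' ∈ tset H := ⟨hg', ψ, u, hψ, hu, o', tv'⟩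
  have hnc : ¬ Commute g g' := by
    intro hc
    exact hφu (tv.of_commute tv' o o' hφ hψ hw hu hc).1
  have hg'c : g' ∈ comp H t := Relation.ReflTransGen.tail hgc ⟨hg'T, hnc⟩
  exact ⟨ψ, u, ⟨o', g', comp_le_Kof t hg'c, tv'⟩, hφu, hψw⟩

include hp in
theorem conn_Kof (hopp : (rootRelOf hp H).Opp) {t : V ≃ₗ[ZMod p] V} (ht : t ∈ tset H) :
    (rootRelOf hp (Kof H t)).Conn := by
  rintro S hscale ⟨φ₀, w₀, ⟨⟨o₀, g₀, hg₀K, tv₀⟩, hφ₀, hw₀⟩, hS₀⟩ hcomm φ w
    ⟨⟨o, g, hgK, tv⟩, hφ, hw⟩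
  have hg₀T : g₀ ∈ tset H := ⟨Kof_le ht hg₀K, φ₀, w₀, hφ₀, hw₀, o₀, tv₀⟩
  have hgT : g ∈ tset H := ⟨Kof_le ht hgK, φ, w, hφ, hw, o, tv⟩
  have hg₀c : g₀ ∈ comp H t := tset_inter_Kof hp hopp ht hg₀T hg₀K
  have hgc : g ∈ comp H t := tset_inter_Kof hp hopp ht hgT hgK
  have hpath : g ∈ comp H g₀ := comp_trans (comp_symm ht hg₀c) hgc
  have hcompeq : comp H g₀ = comp H t := comp_eq_of_mem ht hg₀c
  have claim : ∀ g', g' ∈ comp H g₀ → ∀ (φ' : Dual (ZMod p) V) (w' : V), φ' ≠ 0 → w' ≠ 0 →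
      φ' w' = 0 → IsTv g' φ' w' → S φ' w' := by
    intro g' hg'
    induction hg' with
    | refl =>
      intro φ' w' _ _ _ tv'
      obtain ⟨a, ha, h1, h2⟩ := tv₀.data_unique tv' hφ₀ hw₀
      rw [h1, h2]
      exact hscale φ₀ w₀ a ha hS₀
    | @tail b c hb hbc ih =>
      intro φ' w' hφ' hw' o' tv'
      by_contra hnS
      have hbc' : b ∈ comp H t := by rw [← hcompeq]; exact hb
      have hcc' : c ∈ comp H t := by
        rw [← hcompeq]; exact Relation.ReflTransGen.tail hb hbc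
      obtain ⟨hbH, φb, wb, hφb, hwb, ob, tvb⟩ := comp_subset ht hbc'
      have hSb := ih φb wb hφb hwb ob tvb
      have hNTb : (rootRelOf hp (Kof H t)).NT φb wb :=
        ⟨⟨ob, b, comp_le_Kof t hbc', tvb⟩, hφb, hwb⟩
      have hNTc : (rootRelOf hp (Kof H t)).NT φ' w' :=
        ⟨⟨o', c, comp_le_Kof t hcc', tv'⟩, hφ', hw'⟩
      obtain ⟨e1, e2⟩ := hcomm φb wb φ' w' hNTb hNTc hSb hnS
      exact hbc.2 (tvb.commute tv' e1 e2)
  exact claim g hpath φ w hφ hw o tv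

include hp in
theorem exNT_Kof {t : V ≃ₗ[ZMod p] V} (ht : t ∈ tset H) :
    ∃ (φ : Dual (ZMod p) V) (w : V), (rootRelOf hp (Kof H t)).NT φ w := by
  obtain ⟨_, φ, w, hφ, hw, o, tv⟩ := ht
  exact ⟨φ, w, ⟨o, t, comp_le_Kof t (self_mem_comp t), tv⟩, hφ, hw⟩

end zmodp

end Cfsg.Agent.Lib.Helper8.ML
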