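import Mathlib
import Cfsg.Agent.Lib.Helper8.ML13
import Cfsg.Agent.Lib.Helper1.SLn

set_option autoImplicit false

/-!
# McLaughlin's theorem: `SL(W)` is generated by transvections (part 14)
-/

namespace Cfsg.Agent.Lib.Helper8.ML

open Module Matrix

variable {F : Type*} [Field F] {W : Type*} [AddCommGroup W] [Module F W]

/-- the linear automorphism attached to a matrix of determinant one in a basis -/
noncomputable def PsiSL {n : ℕ} (b : Basis (Fin n) F W) :
    Matrix.SpecialLinearGroup (Fin n) F →* (W ≃ₗ[F] W) where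
  toFun A := LinearEquiv.ofLinearMap (Matrix.toLin b b A.1)
    (Matrix.toLin b b (A⁻¹ : Matrix.SpecialLinearGroup (Fin n) F).1)
    (by
      rw [← Matrix.toLin_mul b b b]
      have : A.1 * (A⁻¹ : Matrix.SpecialLinearGroup (Fin n) F).1 =
        ((A * A⁻¹ : Matrix.SpecialLinearGroup (Fin n) F) : Matrix _ _ F) := rfl
      rw [this, mul_inv_cancel]
      exact Matrix.toLin_one b)
    (by
      rw [← Matrix.toLin_mul b b b]
      have : (A⁻¹ : Matrix.SpecialLinearGroup (Fin n) F).1 * A.1 =
        ((A⁻¹ * A : Matrix.SpecialLinearGroup (Fin n) F) : Matrix _ _ F) := rfl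
      rw [this, inv_mul_cancel]
      exact Matrix.toLin_one b)
  map_one' := by
    apply LinearEquiv.ext
    intro x
    show Matrix.toLin b b (1 : Matrix _ _ F) x = x
    rw [Matrix.toLin_one]
    rfl
  map_mul' A A' := by
    apply LinearEquiv.ext
    intro x
    show Matrix.toLin b b (A.1 * A'.1) x = Matrix.toLin b b A.1 (Matrix.toLin b b A'.1 x)
    rw [Matrix.toLin_mul b b b]
    rfl

theorem PsiSL_apply {n : ℕ} (b : Basis (Fin n) F W)
    (A : Matrix.SpecialLinearGroup (Fin n) F) (x : W) :
    PsiSL b A x = Matrix.toLin b b A.1 x := rfl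

theorem equivFun_PsiSL {n : ℕ} (b : Basis (Fin n) F W)
    (A : Matrix.SpecialLinearGroup (Fin n) F) (x : W) :
    b.equivFun (PsiSL b A x) = A.1 *ᵥ b.equivFun x := by
  rw [PsiSL_apply]
  have h := LinearMap.toMatrix_mulVec_repr b b (Matrix.toLin b b A.1) x
  rw [LinearMap.toMatrix_toLin] at h
  rw [Basis.equivFun_apply, Basis.equivFun_apply]
  exact h.symm

theorem PsiSL_transvection_isTv {n : ℕ} (b : Basis (Fin n) F W) {i j : Fin n} (hij : i ≠ j)
    (c : F) : IsTv (PsiSL b (Matrix.SpecialLinearGroup.transvection hij c)) (c • b.coord j) (b i) := by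
  intro x
  apply b.equivFun.injective
  rw [equivFun_PsiSL, Matrix.SpecialLinearGroup.transvection_coe, Matrix.add_mulVec,
    Matrix.one_mulVec, map_add, map_smul]
  congr 1
  ext k
  simp only [LinearMap.smul_apply, Basis.coord_apply, smul_eq_mul, Pi.smul_apply,
    Basis.equivFun_apply, Basis.repr_self, Finsupp.single_apply]
  by_cases hik : i = k
  · subst hik
    simp [Matrix.mulVec, dotProduct, Matrix.single_apply]
  · simp [Matrix.mulVec, dotProduct, hik]

theorem matrix_eq_one_of_det {n : ℕ} (hn : n < 2) (M : Matrix (Fin n) (Fin n) F)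
    (hd : M.det = 1) : M = 1 := by
  interval_cases n
  · exact Subsingleton.elim _ _
  · ext i j
    have hi : i = 0 := Subsingleton.elim _ _
    have hj : j = 0 := Subsingleton.elim _ _
    subst hi hj
    rw [Matrix.det_fin_one] at hd
    simp [hd]

/-- every automorphism of determinant one is a product of transvections -/
theorem mem_closure_isTv_of_det [FiniteDimensional F W] (f : W ≃ₗ[F] W)
    (hf : LinearMap.det (f : W →ₗ[F] W) = 1) :
    f ∈ Subgroup.closure {τ : W ≃ₗ[F] W | ∃ (ψ : Dual F W) (u : W), ψ u = 0 ∧ IsTv τ ψ u} := by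
  classical
  set n := finrank F W with hn
  let b : Basis (Fin n) F W := Module.finBasis F W
  have hdet : (LinearMap.toMatrix b b (f : W →ₗ[F] W)).det = 1 := by
    rw [LinearMap.det_toMatrix]; exact hf
  set As : Matrix.SpecialLinearGroup (Fin n) F :=
    ⟨LinearMap.toMatrix b b (f : W →ₗ[F] W), hdet⟩ with hAs
  have hfPsi : f = PsiSL b As := by
    apply LinearEquiv.ext
    intro x
    rw [PsiSL_apply]
    show f x = Matrix.toLin b b (LinearMap.toMatrix b b (f : W →ₗ[F] W)) x
    rw [Matrix.toLin_toMatrix]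
    rfl
  rcases Nat.lt_or_ge n 2 with hn2 | hn2
  · -- `n ≤ 1`: the matrix is the identity
    have hA1 : As = 1 := by
      apply Subtype.ext
      show LinearMap.toMatrix b b (f : W →ₗ[F] W) = 1
      exact matrix_eq_one_of_det hn2 _ hdet
    rw [hfPsi, hA1, map_one]
    exact Subgroup.one_mem _
  · have : Nontrivial (Fin n) := Fin.nontrivial_iff_two_le.2 hn2
    set S : Set (Matrix.SpecialLinearGroup (Fin n) F) :=
      {A | ∃ (i j : Fin n) (hij : i ≠ j) (c : F),
        A = Matrix.SpecialLinearGroup.transvection hij c} with hS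
    have htop : Subgroup.closure S = ⊤ := by
      apply Cfsg.Agent.Lib.Helper1.eq_top_of_transvection_mem
      intro i j hij c
      exact Subgroup.subset_closure ⟨i, j, hij, c, rfl⟩
    have hin : As ∈ Subgroup.closure S := by rw [htop]; trivial
    have hmap := Subgroup.mem_map_of_mem (PsiSL b) hin
    rw [MonoidHom.map_closure] at hmap
    rw [hfPsi]
    refine Subgroup.closure_mono ?_ hmap
    rintro τ ⟨A, ⟨i, j, hij, c, rfl⟩, rfl⟩
    refine ⟨c • b.coord j, b i, ?_, PsiSL_transvection_isTv b hij c⟩
    rw [LinearMap.smul_apply, Basis.coord_apply, Basis.repr_self, Finsupp.single_apply,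
      if_neg hij, smul_zero]

end Cfsg.Agent.Lib.Helper8.ML
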