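import Mathlib
import Cfsg.Agent.Lib.Helper8.ML14

set_option autoImplicit false

/-!
# McLaughlin's theorem: structure of a connected component, linear case (part 15)
-/

namespace Cfsg.Agent.Lib.Helper8.ML

open Module

section general

variable {F : Type*} [Field F] {V : Type*} [AddCommGroup V] [Module F V]

/-- centres of the nontrivial transvections of `K` -/
def centers (K : Subgroup (V ≃ₗ[F] V)) : Set V :=
  {w | ∃ g ∈ tset K, ∃ φ : Dual F V, φ ≠ 0 ∧ φ w = 0 ∧ IsTv g φ w}

theorem sub_mem_range_of_gen {K : Subgroup (V ≃ₗ[F] V)} (hgen : K ≤ Subgroup.closure (tset K))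
    {π : V →ₗ[F] V}
    (hall : ∀ g ∈ tset K, ∀ (φ : Dual F V) (w : V), φ ≠ 0 → w ≠ 0 → φ w = 0 → IsTv g φ w →
      π w = w ∧ φ ∘ₗ π = φ) :
    ∀ k ∈ K, ∀ v, k v - v ∈ LinearMap.range π := by
  intro k hk
  have hk' := hgen hk
  induction hk' using Subgroup.closure_induction with
  | mem g hg =>
    intro v
    obtain ⟨_, φ, w, hφ, hw, o, tv⟩ := id hg
    obtain ⟨h1, _⟩ := hall g hg φ w hφ hw o tv
    rw [tv v, add_sub_cancel_left, ← h1, ← map_smul]
    exact LinearMap.mem_range_self π _
  | one =>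
    intro v
    rw [one_app, sub_self]
    exact Submodule.zero_mem _
  | mul a b ha hb iha ihb =>
    intro v
    have ha' : a ∈ K := (Subgroup.closure_le K).mpr (fun x hx => hx.1) ha
    have hb' : b ∈ K := (Subgroup.closure_le K).mpr (fun x hx => hx.1) hb
    have e : (a * b) v - v = (a (b v) - b v) + (b v - v) := by
      rw [LinearEquiv.mul_apply]; abel
    rw [e]
    exact Submodule.add_mem _ (iha ha' (b v)) (ihb hb' v)
  | inv a ha iha =>
    intro v
    have ha' : a ∈ K := (Subgroup.closure_le K).mpr (fun x hx => hx.1) ha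
    have e : a⁻¹ v - v = -(a (a⁻¹ v) - a⁻¹ v) := by
      rw [← LinearEquiv.mul_apply, mul_inv_cancel, one_app]; abel
    rw [e]
    exact Submodule.neg_mem _ (iha ha' (a⁻¹ v))

theorem ker_le_fixSub_of_gen {K : Subgroup (V ≃ₗ[F] V)} (hgen : K ≤ Subgroup.closure (tset K))
    {π : V →ₗ[F] V}
    (hall : ∀ g ∈ tset K, ∀ (φ : Dual F V) (w : V), φ ≠ 0 → w ≠ 0 → φ w = 0 → IsTv g φ w →
      π w = w ∧ φ ∘ₗ π = φ) {v : V} (hv : π v = 0) : v ∈ fixSub K := by
  have h1 : v ∈ fixSub (Subgroup.closure (tset K)) := by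
    apply mem_fixSub_closure
    intro g hg
    obtain ⟨_, φ, w, hφ, hw, o, tv⟩ := id hg
    obtain ⟨_, h2⟩ := hall g hg φ w hφ hw o tv
    rw [tv v, ← h2, LinearMap.comp_apply, hv, map_zero, zero_smul, add_zero]
  intro k hk
  exact h1 k (hgen hk)

/-- range and kernel of an idempotent are complementary -/
theorem isCompl_range_of_idem {π : V →ₗ[F] V} (hidem : ∀ v, π (π v) = π v)
    {C : Submodule F V} (hC : ∀ v, v ∈ C ↔ π v = 0) : IsCompl (LinearMap.range π) C := by
  constructor
  · rw [Submodule.disjoint_def]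
    rintro x ⟨y, rfl⟩ hx
    have := (hC _).mp hx
    rwa [hidem] at this
  · rw [codisjoint_iff, eq_top_iff]
    intro v _
    have e : v = π v + (v - π v) := by abel
    rw [e]
    apply Submodule.add_mem_sup (LinearMap.mem_range_self π v)
    rw [hC, map_sub, hidem, sub_self]

theorem det_of_isTv [FiniteDimensional F V] {τ : V ≃ₗ[F] V} {ψ : Dual F V} {u : V}
    (h : IsTv τ ψ u) (hu : ψ u = 0) : LinearMap.det (τ : V →ₗ[F] V) = 1 := by
  have e : (τ : V →ₗ[F] V) = LinearMap.transvection ψ u := by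
    ext x
    rw [LinearEquiv.coe_coe, h x, LinearMap.transvection.apply]
  rw [e, LinearMap.transvection.det, hu, add_zero]

end general

section zmodp

variable {p : ℕ} [Fact p.Prime] {V : Type*} [AddCommGroup V] [Module (ZMod p) V] [Finite V]

/-- structure of a component in the linear case -/
theorem component_SL (hp : Odd p) (K : Subgroup (V ≃ₗ[ZMod p] V))
    (hgen : K ≤ Subgroup.closure (tset K)) {π : V →ₗ[ZMod p] V}
    (hfr : (rootRelOf hp K).IsSLFrame π)
    (h3 : 3 ≤ finrank (ZMod p) (LinearMap.range π))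
    (hall : ∀ (φ : Dual (ZMod p) V) (w : V), (rootRelOf hp K).NT φ w → π w = w ∧ φ ∘ₗ π = φ) :
    ∃ W : Submodule (ZMod p) V, IsCompl W (fixSub K) ∧
      (∀ v ∈ W, v ∈ Submodule.span (ZMod p) (centers K)) ∧
      ∃ hW : ∀ k ∈ K, ∀ v ∈ W, k v ∈ W,
        Set.range (resHom K W hW) =
          {f : ↥W ≃ₗ[ZMod p] ↥W | LinearMap.det (f : ↥W →ₗ[ZMod p] ↥W) = 1} := by
  have hidem := hfr.1
  have hall' : ∀ g ∈ tset K, ∀ (φ : Dual (ZMod p) V) (w : V), φ ≠ 0 → w ≠ 0 → φ w = 0 →
      IsTv g φ w → π w = w ∧ φ ∘ₗ π = φ := by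
    intro g hg φ w hφ hw o tv
    exact hall φ w ⟨⟨o, g, hg.1, tv⟩, hφ, hw⟩
  have hfix : ∀ v, v ∈ fixSub K ↔ π v = 0 := by
    intro v
    constructor
    · intro hv
      by_contra hne
      obtain ⟨ψ₀, hψ₀⟩ : ∃ ψ₀ : Dual (ZMod p) V, ψ₀ (π v) ≠ 0 := by
        by_contra hcon
        push Not at hcon
        exact hne ((Module.forall_dual_apply_eq_zero_iff (ZMod p) (π v)).mp hcon)
      obtain ⟨z, hz, hz1, _⟩ := exists_vec_vanish2 hidem h3 ψ₀ ψ₀
      obtain ⟨_, g, hgK, tv⟩ := hfr.2 ψ₀ z hz1
      have h1 := hv g hgK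
      rw [tv v, LinearMap.comp_apply] at h1
      have h2 : ψ₀ (π v) • π z = 0 := by
        have : v + ψ₀ (π v) • π z = v + 0 := by rw [add_zero]; exact h1
        exact add_left_cancel this
      exact hz ((smul_eq_zero.mp h2).resolve_left hψ₀)
    · intro hv
      exact ker_le_fixSub_of_gen hgen hall' hv
  have hmove := sub_mem_range_of_gen hgen hall'
  have hW : ∀ k ∈ K, ∀ v ∈ LinearMap.range π, k v ∈ LinearMap.range π := by
    intro k hk v hv
    have e : k v = (k v - v) + v := by abel
    rw [e]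
    exact Submodule.add_mem _ (hmove k hk v) hv
  have hπW : ∀ v : ↥(LinearMap.range π), π (v : V) = v := by
    rintro ⟨v, y, rfl⟩
    exact hidem y
  refine ⟨LinearMap.range π, isCompl_range_of_idem hidem hfix, ?_, hW, ?_⟩
  · rintro _ ⟨y, rfl⟩
    by_cases hy : π y = 0
    · rw [hy]; exact Submodule.zero_mem _
    · obtain ⟨ψ, hψ, hψy, _⟩ := exists_dual_vanish2 hidem h3 y y
      obtain ⟨o, g, hgK, tv⟩ := hfr.2 ψ y hψy
      apply Submodule.subset_span
      exact ⟨g, ⟨hgK, ψ ∘ₗ π, π y, hψ, hy, o, tv⟩, ψ ∘ₗ π, hψ, o, tv⟩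
  · apply Set.Subset.antisymm
    · -- every element has determinant one
      rintro _ ⟨⟨k, hk⟩, rfl⟩
      show LinearMap.det ((resHom K (LinearMap.range π) hW ⟨k, hk⟩ :
        ↥(LinearMap.range π) ≃ₗ[ZMod p] ↥(LinearMap.range π)) :
        ↥(LinearMap.range π) →ₗ[ZMod p] ↥(LinearMap.range π)) = 1
      have hk' := hgen hk
      have key : ∀ x (_ : x ∈ Subgroup.closure (tset K)), ∀ hx : x ∈ K,
          LinearMap.det ((resHom K (LinearMap.range π) hW ⟨x, hx⟩ :
            ↥(LinearMap.range π) ≃ₗ[ZMod p] ↥(LinearMap.range π)) :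
            ↥(LinearMap.range π) →ₗ[ZMod p] ↥(LinearMap.range π)) = 1 := by
        intro x hx
        induction hx using Subgroup.closure_induction with
        | mem g hg =>
          intro hgK
          obtain ⟨_, φ, w, hφ, hw, o, tv⟩ := id hg
          obtain ⟨h1, _⟩ := hall' g hg φ w hφ hw o tv
          have hwW : w ∈ LinearMap.range π := ⟨w, h1⟩
          have tvW : IsTv (resHom K (LinearMap.range π) hW ⟨g, hgK⟩)
              (φ ∘ₗ (LinearMap.range π).subtype) ⟨w, hwW⟩ := by
            intro v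
            apply Subtype.ext
            rw [resHom_apply]
            exact tv v
          exact det_of_isTv tvW o
        | one =>
          intro h1
          have : (⟨1, h1⟩ : ↥K) = 1 := rfl
          rw [this, map_one]
          exact LinearMap.det_id
        | mul a b ha hb iha ihb =>
          intro hab
          have ha' : a ∈ K := (Subgroup.closure_le K).mpr (fun x hx => hx.1) ha
          have hb' : b ∈ K := (Subgroup.closure_le K).mpr (fun x hx => hx.1) hb
          have : (⟨a * b, hab⟩ : ↥K) = ⟨a, ha'⟩ * ⟨b, hb'⟩ := rfl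
          rw [this, map_mul]
          have e : ((resHom K (LinearMap.range π) hW ⟨a, ha'⟩ *
              resHom K (LinearMap.range π) hW ⟨b, hb'⟩ :
              ↥(LinearMap.range π) ≃ₗ[ZMod p] ↥(LinearMap.range π)) :
              ↥(LinearMap.range π) →ₗ[ZMod p] ↥(LinearMap.range π)) =
              ((resHom K (LinearMap.range π) hW ⟨a, ha'⟩ :
              ↥(LinearMap.range π) ≃ₗ[ZMod p] ↥(LinearMap.range π)) :
              ↥(LinearMap.range π) →ₗ[ZMod p] ↥(LinearMap.range π)) ∘ₗ
              ((resHom K (LinearMap.range π) hW ⟨b, hb'⟩ :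
              ↥(LinearMap.range π) ≃ₗ[ZMod p] ↥(LinearMap.range π)) :
              ↥(LinearMap.range π) →ₗ[ZMod p] ↥(LinearMap.range π)) := rfl
          rw [e, LinearMap.det_comp, iha ha', ihb hb', mul_one]
        | inv a ha iha =>
          intro hai
          have ha' : a ∈ K := (Subgroup.closure_le K).mpr (fun x hx => hx.1) ha
          have : (⟨a⁻¹, hai⟩ : ↥K) = (⟨a, ha'⟩ : ↥K)⁻¹ := rfl
          rw [this, map_inv]
          have h2 := iha ha'
          have e : ((resHom K (LinearMap.range π) hW ⟨a, ha'⟩ :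
              ↥(LinearMap.range π) ≃ₗ[ZMod p] ↥(LinearMap.range π)) :
              ↥(LinearMap.range π) →ₗ[ZMod p] ↥(LinearMap.range π)) ∘ₗ
              (((resHom K (LinearMap.range π) hW ⟨a, ha'⟩)⁻¹ :
              ↥(LinearMap.range π) ≃ₗ[ZMod p] ↥(LinearMap.range π)) :
              ↥(LinearMap.range π) →ₗ[ZMod p] ↥(LinearMap.range π)) = LinearMap.id := by
            ext v
            simp only [LinearMap.comp_apply, LinearEquiv.coe_coe, LinearMap.id_apply]
            rw [← LinearEquiv.mul_apply, mul_inv_cancel, one_app]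
          have h3' := congrArg LinearMap.det e
          rw [LinearMap.det_comp, h2, one_mul, LinearMap.det_id] at h3'
          exact h3'
      exact key k hk' hk
    · -- every automorphism of determinant one is induced
      intro f hf
      have hcl := mem_closure_isTv_of_det f hf
      have hle : Subgroup.closure {τ : ↥(LinearMap.range π) ≃ₗ[ZMod p] ↥(LinearMap.range π) |
          ∃ (ψ : Dual (ZMod p) ↥(LinearMap.range π)) (u : ↥(LinearMap.range π)),
            ψ u = 0 ∧ IsTv τ ψ u} ≤ (resHom K (LinearMap.range π) hW).range := by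
        rw [Subgroup.closure_le]
        rintro τ ⟨ψ, u, hψu, tvτ⟩
        set ψ' : Dual (ZMod p) V := ψ ∘ₗ π.rangeRestrict with hψ'
        have hψ'π : ∀ v : ↥(LinearMap.range π), ψ' (v : V) = ψ v := by
          intro v
          rw [hψ', LinearMap.comp_apply]
          congr 1
          apply Subtype.ext
          exact hπW v
        have h0 : ψ' (π (u : V)) = 0 := by
          rw [hπW u, hψ'π, hψu]
        obtain ⟨o, g, hgK, tv⟩ := hfr.2 ψ' (u : V) h0
        refine ⟨⟨g, hgK⟩, ?_⟩
        apply LinearEquiv.ext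
        intro v
        apply Subtype.ext
        rw [resHom_apply, tvτ v]
        show g (v : V) = ((v : V) + ψ v • (u : V))
        rw [tv (v : V), LinearMap.comp_apply, hπW v, hπW u, hψ'π]
      exact hle hcl

end zmodp

end Cfsg.Agent.Lib.Helper8.ML
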