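import Mathlib
import Cfsg.Agent.Lib.Helper8.ML15
import Cfsg.Agent.Lib.Helper2.AbsSp

set_option autoImplicit false

/-!
# McLaughlin's theorem: structure of a connected component, symplectic case (part 16)
-/

namespace Cfsg.Agent.Lib.Helper8.ML

open Module

section zmodp

variable {p : ℕ} [Fact p.Prime] {V : Type*} [AddCommGroup V] [Module (ZMod p) V] [Finite V]

/-- structure of a component in the symplectic case -/
theorem component_Sp (hp : Odd p) (K : Subgroup (V ≃ₗ[ZMod p] V))
    (hgen : K ≤ Subgroup.closure (tset K)) {π : V →ₗ[ZMod p] V}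
    {B : LinearMap.BilinForm (ZMod p) V}
    (hfr : (rootRelOf hp K).IsSpFrame π B)
    (hall : ∀ (φ : Dual (ZMod p) V) (w : V), (rootRelOf hp K).NT φ w →
      π w = w ∧ ∃ k : ZMod p, φ = k • beta B w) :
    ∃ W : Submodule (ZMod p) V, IsCompl W (fixSub K) ∧
      (∀ v ∈ W, v ∈ Submodule.span (ZMod p) (centers K)) ∧
      ∃ hW : ∀ k ∈ K, ∀ v ∈ W, k v ∈ W,
        ∃ B' : LinearMap.BilinForm (ZMod p) ↥W, B'.IsAlt ∧ B'.Nondegenerate ∧
          Set.range (resHom K W hW) =
            {f : ↥W ≃ₗ[ZMod p] ↥W | ∀ x y, B' (f x) (f y) = B' x y} := by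
  have hpre := hfr.1
  have hidem := hpre.1
  have hall' : ∀ g ∈ tset K, ∀ (φ : Dual (ZMod p) V) (w : V), φ ≠ 0 → w ≠ 0 → φ w = 0 →
      IsTv g φ w → π w = w ∧ φ ∘ₗ π = φ := by
    intro g hg φ w hφ hw o tv
    obtain ⟨h1, k, hk⟩ := hall φ w ⟨⟨o, g, hg.1, tv⟩, hφ, hw⟩
    refine ⟨h1, ?_⟩
    rw [hk, LinearMap.smul_comp, hpre.flip_comp]
  have hfix : ∀ v, v ∈ fixSub K ↔ π v = 0 := by
    intro v
    constructor
    · intro hv
      apply hpre.2.2.2
      intro y
      rw [hpre.anti, neg_eq_zero, ← hpre.right]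
      by_cases hy : π y = 0
      · rw [hy, map_zero]
      · obtain ⟨_, g, hgK, tv⟩ := hfr.2 y
        have h1 := hv g hgK
        rw [tv v, beta_apply] at h1
        have h2 : B v (π y) • π y = 0 := by
          have : v + B v (π y) • π y = v + 0 := by rw [add_zero]; exact h1
          exact add_left_cancel this
        exact (smul_eq_zero.mp h2).resolve_right hy
    · intro hv
      exact ker_le_fixSub_of_gen hgen hall' hv
  have hmove := sub_mem_range_of_gen hgen hall'
  have hW : ∀ k ∈ K, ∀ v ∈ LinearMap.range π, k v ∈ LinearMap.range π := by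
    intro k hk v hv
    have e : k v = (k v - v) + v := by abel
    rw [e]
    exact Submodule.add_mem _ (hmove k hk v) hv
  have hπW : ∀ v : ↥(LinearMap.range π), π (v : V) = v := by
    rintro ⟨v, y, rfl⟩
    exact hidem y
  -- `K` preserves the form
  have hiso : ∀ k ∈ K, ∀ x y, B (k x) (k y) = B x y := by
    intro k hk
    have hk' := hgen hk
    induction hk' using Subgroup.closure_induction with
    | mem g hg =>
      intro x y
      obtain ⟨_, φ, w, hφ, hw, o, tv⟩ := id hg
      obtain ⟨_, c, hc⟩ := hall φ w ⟨⟨o, g, hg.1, tv⟩, hφ, hw⟩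
      rw [tv x, tv y, hc]
      simp only [map_add, map_smul, LinearMap.add_apply, LinearMap.smul_apply, beta_apply,
        smul_eq_mul, hpre.2.1 w, mul_zero, add_zero]
      rw [hpre.anti w y]
      ring
    | one => intro x y; rfl
    | mul a b ha hb iha ihb =>
      intro x y
      have ha' : a ∈ K := (Subgroup.closure_le K).mpr (fun x hx => hx.1) ha
      have hb' : b ∈ K := (Subgroup.closure_le K).mpr (fun x hx => hx.1) hb
      rw [LinearEquiv.mul_apply, LinearEquiv.mul_apply, iha ha', ihb hb']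
    | inv a ha iha =>
      intro x y
      have ha' : a ∈ K := (Subgroup.closure_le K).mpr (fun x hx => hx.1) ha
      have h1 := iha ha' (a⁻¹ x) (a⁻¹ y)
      rw [← LinearEquiv.mul_apply, ← LinearEquiv.mul_apply, mul_inv_cancel, one_app, one_app] at h1
      exact h1.symm
  set B' : LinearMap.BilinForm (ZMod p) ↥(LinearMap.range π) := B.restrict (LinearMap.range π)
    with hB'
  have hB'app : ∀ x y : ↥(LinearMap.range π), B' x y = B (x : V) (y : V) := fun _ _ => rfl
  have hsepL : ∀ x : ↥(LinearMap.range π), (∀ y : ↥(LinearMap.range π), B' x y = 0) → x = 0 := by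
    intro x hx
    apply Subtype.ext
    rw [← hπW x]
    apply hpre.2.2.2
    intro z
    rw [hpre.anti, neg_eq_zero, ← hpre.right]
    exact hx ⟨π z, LinearMap.mem_range_self π z⟩
  have hsepR : ∀ y : ↥(LinearMap.range π), (∀ x : ↥(LinearMap.range π), B' x y = 0) → y = 0 := by
    intro y hy
    apply hsepL
    intro x
    rw [hB'app, hpre.anti, ← hB'app, hy, neg_zero]
  refine ⟨LinearMap.range π, isCompl_range_of_idem hidem hfix, ?_, hW, B', ?_, ⟨hsepL, hsepR⟩, ?_⟩
  · rintro _ ⟨y, rfl⟩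
    by_cases hy : π y = 0
    · rw [hy]; exact Submodule.zero_mem _
    · obtain ⟨o, g, hgK, tv⟩ := hfr.2 y
      have hne : beta B (π y) ≠ 0 := hpre.flip_ne_zero (by rw [hidem]; exact hy)
      apply Submodule.subset_span
      exact ⟨g, ⟨hgK, beta B (π y), π y, hne, hy, o, tv⟩, beta B (π y), hne, o, tv⟩
  · intro x
    exact hpre.2.1 (x : V)
  · apply Set.Subset.antisymm
    · rintro _ ⟨⟨k, hk⟩, rfl⟩
      intro x y
      rw [hB'app, hB'app, resHom_apply, resHom_apply]
      exact hiso k hk _ _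
    · intro f hf
      have hcl := Cfsg.Agent.Lib.Helper2.AbsSp.mem_closure_transv B' (fun x => hpre.2.1 (x : V))
        hsepL f hf
      have hle : Subgroup.closure {τ : ↥(LinearMap.range π) ≃ₗ[ZMod p] ↥(LinearMap.range π) |
          Cfsg.Agent.Lib.Helper2.AbsSp.IsTransv B' τ} ≤
          (resHom K (LinearMap.range π) hW).range := by
        rw [Subgroup.closure_le]
        rintro τ ⟨w, c, hτ⟩
        have h1 := (rootRelOf hp K).smul c (hfr.2 (w : V))
        rw [hπW w] at h1
        obtain ⟨o, g, hgK, tv⟩ := h1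
        refine ⟨⟨g, hgK⟩, ?_⟩
        apply LinearEquiv.ext
        intro v
        apply Subtype.ext
        rw [resHom_apply, hτ v]
        show g (v : V) = (v : V) + (c * B' v w) • (w : V)
        rw [tv (v : V), LinearMap.smul_apply, beta_apply, smul_eq_mul, hB'app]
      exact hle hcl

/-- structure of a connected component -/
theorem component_structure (hp : Odd p) (K : Subgroup (V ≃ₗ[ZMod p] V))
    (hgen : K ≤ Subgroup.closure (tset K))
    (hopp : (rootRelOf hp K).Opp) (hconn : (rootRelOf hp K).Conn)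
    (hex : ∃ (φ : Dual (ZMod p) V) (w : V), (rootRelOf hp K).NT φ w) :
    ∃ W : Submodule (ZMod p) V, IsCompl W (fixSub K) ∧
      (∀ v ∈ W, v ∈ Submodule.span (ZMod p) (centers K)) ∧
      ∃ hW : ∀ k ∈ K, ∀ v ∈ W, k v ∈ W,
        (Set.range (resHom K W hW) =
          {f : ↥W ≃ₗ[ZMod p] ↥W | LinearMap.det (f : ↥W →ₗ[ZMod p] ↥W) = 1}) ∨
        ∃ B' : LinearMap.BilinForm (ZMod p) ↥W, B'.IsAlt ∧ B'.Nondegenerate ∧
          Set.range (resHom K W hW) =
            {f : ↥W ≃ₗ[ZMod p] ↥W | ∀ x y, B' (f x) (f y) = B' x y} := by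
  rcases RootRel.thmC hopp hconn hex with ⟨π, hfr, h3, hall⟩ | ⟨π, B, hfr, hall⟩
  · obtain ⟨W, h1, h2, hW, h4⟩ := component_SL hp K hgen hfr h3 hall
    exact ⟨W, h1, h2, hW, Or.inl h4⟩
  · obtain ⟨W, h1, h2, hW, h4⟩ := component_Sp hp K hgen hfr hall
    exact ⟨W, h1, h2, hW, Or.inr h4⟩

end zmodp

end Cfsg.Agent.Lib.Helper8.ML
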