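import Mathlib
import Cfsg.Agent.Lib.Helper8.ML16

set_option autoImplicit false

/-!
# McLaughlin's theorem: assembling the components (part 17)
-/

namespace Cfsg.Agent.Lib.Helper8.ML

open Module

section general

variable {F : Type*} [Field F] {V : Type*} [AddCommGroup V] [Module F V]

theorem family_aux {n : ℕ} (W' C : Fin n → Submodule F V)
    (hcompl : ∀ j, IsCompl (W' j) (C j)) (hle : ∀ i j, i ≠ j → W' j ≤ C i)
    (s : Finset (Fin n)) :
    Disjoint (⨆ k ∈ s, W' k) (⨅ k ∈ s, C k) ∧ (⨆ k ∈ s, W' k) ⊔ (⨅ k ∈ s, C k) = ⊤ := by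
  classical
  induction s using Finset.induction_on with
  | empty => simp
  | insert a s ha ih =>
    obtain ⟨ih1, ih2⟩ := ih
    rw [Finset.iSup_insert, Finset.iInf_insert]
    have hS : (⨆ k ∈ s, W' k) ≤ C a := by
      apply iSup₂_le
      intro k hk
      exact hle a k (fun h => ha (h ▸ hk))
    have hWa : W' a ≤ ⨅ k ∈ s, C k := by
      apply le_iInf₂
      intro k hk
      exact hle k a (fun h => ha (h ▸ hk))
    constructor
    · rw [Submodule.disjoint_def]
      intro x hx1 hx2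
      obtain ⟨z, hz, y, hy, rfl⟩ := Submodule.mem_sup.mp hx1
      obtain ⟨hxa, hxD⟩ := Submodule.mem_inf.mp hx2
      have hzC : z ∈ C a := by
        have : z = (z + y) - y := by abel
        rw [this]
        exact Submodule.sub_mem _ hxa (hS hy)
      have hz0 : z = 0 := (Submodule.disjoint_def.mp (hcompl a).disjoint) z hz hzC
      rw [hz0, zero_add] at hxD ⊢
      exact (Submodule.disjoint_def.mp ih1) y hy hxD
    · rw [eq_top_iff]
      intro v _
      have hv : v ∈ (⨆ k ∈ s, W' k) ⊔ (⨅ k ∈ s, C k) := by rw [ih2]; trivial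
      obtain ⟨y, hy, d, hd, rfl⟩ := Submodule.mem_sup.mp hv
      have hd' : d ∈ W' a ⊔ C a := by rw [(hcompl a).sup_eq_top]; trivial
      obtain ⟨z, hz, c, hc, rfl⟩ := Submodule.mem_sup.mp hd'
      have hcD : c ∈ ⨅ k ∈ s, C k := by
        have : c = (z + c) - z := by abel
        rw [this]
        exact Submodule.sub_mem _ hd (hWa hz)
      have e : y + (z + c) = (z + y) + c := by abel
      rw [e]
      exact Submodule.add_mem_sup (Submodule.add_mem_sup hz hy) (Submodule.mem_inf.mpr ⟨hc, hcD⟩)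

/-- the internal direct sum decomposition attached to a family of complemented subspaces -/
theorem internal_of_family {n : ℕ} (W' C : Fin n → Submodule F V)
    (hcompl : ∀ j, IsCompl (W' j) (C j)) (hle : ∀ i j, i ≠ j → W' j ≤ C i) :
    DirectSum.IsInternal (Fin.cons (⨅ j, C j) W' : Fin (n + 1) → Submodule F V) := by
  classical
  obtain ⟨h1, h2⟩ := family_aux W' C hcompl hle Finset.univ
  simp only [Finset.mem_univ, iSup_pos, iInf_pos] at h1 h2
  apply DirectSum.isInternal_submodule_of_iSupIndep_of_iSup_eq_top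
  · rw [iSupIndep_def]
    intro i
    refine Fin.cases ?_ (fun k => ?_) i
    · -- i = 0
      rw [Fin.cons_zero]
      refine Disjoint.mono_right ?_ h1.symm
      apply iSup₂_le
      intro j hj
      obtain ⟨k, rfl⟩ := Fin.exists_succ_eq.mpr hj
      rw [Fin.cons_succ]
      exact le_iSup W' k
    · rw [Fin.cons_succ]
      refine Disjoint.mono_right ?_ (hcompl k).disjoint
      apply iSup₂_le
      intro j hj
      revert hj
      refine Fin.cases ?_ (fun k' => ?_) j
      · intro _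
        rw [Fin.cons_zero]
        exact iInf_le C k
      · intro hj
        rw [Fin.cons_succ]
        apply hle k k'
        intro h
        apply hj
        rw [h]
  · rw [eq_top_iff, ← h2]
    apply sup_le
    · apply iSup_le
      intro k
      have := le_iSup (Fin.cons (⨅ j, C j) W' : Fin (n + 1) → Submodule F V) k.succ
      rwa [Fin.cons_succ] at this
    · have := le_iSup (Fin.cons (⨅ j, C j) W' : Fin (n + 1) → Submodule F V) 0
      rwa [Fin.cons_zero] at this

theorem fix_of_mem_iSup {ι : Sort*} {K : ι → Subgroup (V ≃ₗ[F] V)} {v : V}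
    (h : ∀ i, v ∈ fixSub (K i)) {g : V ≃ₗ[F] V} (hg : g ∈ ⨆ i, K i) : g v = v := by
  refine Subgroup.iSup_induction K (C := fun g => g v = v) hg ?_ ?_ ?_
  · intro i x hx; exact h i x hx
  · rfl
  · intro a b ha hb; rw [LinearEquiv.mul_apply, hb, ha]

theorem fix_of_mem_biSup {ι : Type*} {K : ι → Subgroup (V ≃ₗ[F] V)} {S : Set ι} {v : V}
    (h : ∀ i ∈ S, v ∈ fixSub (K i)) {g : V ≃ₗ[F] V} (hg : g ∈ ⨆ i ∈ S, K i) : g v = v := by
  refine Subgroup.iSup_induction (fun i => ⨆ (_ : i ∈ S), K i) (C := fun g => g v = v) hg ?_ ?_ ?_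
  · intro i x hx
    refine Subgroup.iSup_induction (fun _ : i ∈ S => K i) (C := fun g => g v = v) hx ?_ ?_ ?_
    · intro hi y hy; exact h i hi y hy
    · rfl
    · intro a b ha hb; rw [LinearEquiv.mul_apply, hb, ha]
  · rfl
  · intro a b ha hb; rw [LinearEquiv.mul_apply, hb, ha]

theorem inf_biSup_eq_bot {n : ℕ} (K : Fin n → Subgroup (V ≃ₗ[F] V)) (W' : Fin n → Submodule F V)
    (hcompl : ∀ j, IsCompl (W' j) (fixSub (K j)))
    (hle : ∀ i j, i ≠ j → W' j ≤ fixSub (K i)) (j : Fin n) :
    K j ⊓ (⨆ j' ∈ {j' : Fin n | j' ≠ j}, K j') = ⊥ := by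
  rw [eq_bot_iff]
  rintro g ⟨hg1, hg2⟩
  rw [Subgroup.mem_bot]
  apply LinearEquiv.ext
  intro v
  have hv : v ∈ W' j ⊔ fixSub (K j) := by rw [(hcompl j).sup_eq_top]; trivial
  obtain ⟨w, hw, c, hc, rfl⟩ := Submodule.mem_sup.mp hv
  have h1 : g c = c := hc g hg1
  have h2 : g w = w := by
    apply fix_of_mem_biSup (K := K) (S := {j' : Fin n | j' ≠ j}) _ hg2
    intro i hi
    exact hle i j hi hw
  rw [map_add, h1, h2, one_app]

theorem invariant_of_mem_iSup {n : ℕ} (K : Fin n → Subgroup (V ≃ₗ[F] V))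
    (W' : Fin n → Submodule F V)
    (hle : ∀ i j, i ≠ j → W' j ≤ fixSub (K i))
    (hinv : ∀ j, ∀ k ∈ K j, ∀ v ∈ W' j, k v ∈ W' j) {h : V ≃ₗ[F] V} (hh : h ∈ ⨆ j, K j)
    (i : Fin (n + 1)) :
    ((Fin.cons (⨅ j, fixSub (K j)) W' : Fin (n + 1) → Submodule F V) i).map
      (h : V →ₗ[F] V) = (Fin.cons (⨅ j, fixSub (K j)) W' : Fin (n + 1) → Submodule F V) i := by
  have key : ∀ g ∈ ⨆ j, K j, ∀ (i : Fin (n + 1)) (v : V),
      v ∈ (Fin.cons (⨅ j, fixSub (K j)) W' : Fin (n + 1) → Submodule F V) i →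
      g v ∈ (Fin.cons (⨅ j, fixSub (K j)) W' : Fin (n + 1) → Submodule F V) i := by
    intro g hg
    refine Subgroup.iSup_induction K (C := fun g => ∀ (i : Fin (n + 1)) (v : V),
      v ∈ (Fin.cons (⨅ j, fixSub (K j)) W' : Fin (n + 1) → Submodule F V) i →
      g v ∈ (Fin.cons (⨅ j, fixSub (K j)) W' : Fin (n + 1) → Submodule F V) i) hg ?_ ?_ ?_
    · intro j x hx i
      refine Fin.cases ?_ (fun k => ?_) i
      · intro v hv
        rw [Fin.cons_zero] at hv ⊢
        have : v ∈ fixSub (K j) := (Submodule.mem_iInf _).mp hv j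
        rw [this x hx]
        exact hv
      · intro v hv
        rw [Fin.cons_succ] at hv ⊢
        by_cases hkj : k = j
        · subst hkj
          exact hinv k x hx v hv
        · have : v ∈ fixSub (K j) := hle j k (fun h => hkj h.symm) hv
          rw [this x hx]
          exact hv
    · intro i v hv; exact hv
    · intro a b ha hb i v hv; exact ha i _ (hb i v hv)
  apply le_antisymm
  · rintro _ ⟨v, hv, rfl⟩
    exact key h hh i v hv
  · intro v hv
    refine ⟨h⁻¹ v, key h⁻¹ (Subgroup.inv_mem _ hh) i v hv, ?_⟩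
    show h (h⁻¹ v) = v
    rw [← LinearEquiv.mul_apply, mul_inv_cancel, one_app]

end general

end Cfsg.Agent.Lib.Helper8.ML
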