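import Mathlib
import Cfsg.Agent.Lib.Helper8.ML17

set_option autoImplicit false

/-!
# McLaughlin's theorem: the final assembly (part 18)
-/

namespace Cfsg.Agent.Lib.Helper8.ML

open Module

section zmodp

variable {p : ℕ} [Fact p.Prime] {V : Type*} [AddCommGroup V] [Module (ZMod p) V]

/-- packaging the data of the components into the conclusion of McLaughlin's theorem -/
theorem assemble (H : Subgroup (V ≃ₗ[ZMod p] V)) (n : ℕ) (hn : 1 ≤ n)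
    (K : Fin n → Subgroup (V ≃ₗ[ZMod p] V)) (W' : Fin n → Submodule (ZMod p) V)
    (hKH : ∀ j, K j ≤ H) (hnorm : ∀ j, ∀ h ∈ H, ∀ k ∈ K j, h * k * h⁻¹ ∈ K j)
    (hsup : ⨆ j, K j = H)
    (hcomm : ∀ j j', j ≠ j' → ∀ a ∈ K j, ∀ b ∈ K j', a * b = b * a)
    (hcompl : ∀ j, IsCompl (W' j) (fixSub (K j)))
    (hle : ∀ i j, i ≠ j → W' j ≤ fixSub (K i))
    (hinv : ∀ j, ∀ k ∈ K j, ∀ v ∈ W' j, k v ∈ W' j)
    (hρ : ∀ j, (Set.range (resHom (K j) (W' j) (hinv j)) =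
          {f : ↥(W' j) ≃ₗ[ZMod p] ↥(W' j) |
            LinearMap.det (f : ↥(W' j) →ₗ[ZMod p] ↥(W' j)) = 1}) ∨
        ∃ B' : LinearMap.BilinForm (ZMod p) ↥(W' j), B'.IsAlt ∧ B'.Nondegenerate ∧
          Set.range (resHom (K j) (W' j) (hinv j)) =
            {f : ↥(W' j) ≃ₗ[ZMod p] ↥(W' j) | ∀ x y, B' (f x) (f y) = B' x y}) :
    ∃ (n : ℕ) (W : Fin (n + 1) → Submodule (ZMod p) V) (K : Fin n → Subgroup (V ≃ₗ[ZMod p] V)),
      1 ≤ n ∧ DirectSum.IsInternal W ∧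
      (∀ h ∈ H, ∀ i, (W i).map (h : V →ₗ[ZMod p] V) = W i) ∧
      (∀ j, K j ≤ H ∧ ((K j).subgroupOf H).Normal) ∧ ⨆ j, K j = H ∧
      (∀ j, K j ⊓ (⨆ j' ∈ {j' : Fin n | j' ≠ j}, K j') = ⊥) ∧
      (∀ j j', j ≠ j' → ∀ a ∈ K j, ∀ b ∈ K j', a * b = b * a) ∧
      (∀ j, ∀ h ∈ K j, ∀ i : Fin (n + 1), i ≠ j.succ → ∀ v ∈ W i, h v = v) ∧
      (∀ j, ∃ ρ : ↥(K j) →* (↥(W j.succ) ≃ₗ[ZMod p] ↥(W j.succ)),
        (∀ (h : ↥(K j)) (v : ↥(W j.succ)), ((ρ h v : ↥(W j.succ)) : V) = (h : V ≃ₗ[ZMod p] V) (v : V)) ∧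
        ((ρ.range : Set (↥(W j.succ) ≃ₗ[ZMod p] ↥(W j.succ))) =
            {f : ↥(W j.succ) ≃ₗ[ZMod p] ↥(W j.succ) | LinearMap.det (f : ↥(W j.succ) →ₗ[ZMod p] ↥(W j.succ)) = 1} ∨
          ∃ B : LinearMap.BilinForm (ZMod p) ↥(W j.succ), B.IsAlt ∧ B.Nondegenerate ∧
            (ρ.range : Set (↥(W j.succ) ≃ₗ[ZMod p] ↥(W j.succ))) = {f : ↥(W j.succ) ≃ₗ[ZMod p] ↥(W j.succ) | ∀ x y, B (f x) (f y) = B x y})) := by
  refine ⟨n, Fin.cons (⨅ j, fixSub (K j)) W', K, hn,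
    internal_of_family W' (fun j => fixSub (K j)) hcompl hle, ?_, ?_, hsup,
    inf_biSup_eq_bot K W' hcompl hle, hcomm, ?_, ?_⟩
  · intro h hh i
    exact invariant_of_mem_iSup K W' hle hinv (by rw [hsup]; exact hh) i
  · intro j
    refine ⟨hKH j, ?_⟩
    constructor
    intro x hx g
    rw [Subgroup.mem_subgroupOf] at hx ⊢
    exact hnorm j g g.2 x hx
  · intro j h hh i
    refine Fin.cases ?_ (fun k => ?_) i
    · intro _ v hv
      rw [Fin.cons_zero] at hv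
      exact (Submodule.mem_iInf _).mp hv j h hh
    · intro hk v hv
      rw [Fin.cons_succ] at hv
      have hkj : j ≠ k := by
        intro h'
        apply hk
        rw [h']
      exact hle j k hkj hv h hh
  · intro j
    refine ⟨resHom (K j) (W' j) (hinv j), ?_, ?_⟩
    · intro h v
      rfl
    · have h := hρ j
      rw [← MonoidHom.coe_range] at h
      exact h

end zmodp

end Cfsg.Agent.Lib.Helper8.ML
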