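import Mathlib
import Cfsg.Prelude.Def_Blocks
import Cfsg.Prelude.Def_BlockRank
import Cfsg.Agent.Lib.Helper8.Rey2
import Cfsg.Agent.Lib.Helper8.TildeBlock3
import Cfsg.Agent.Lib.Helper8.GL5
import Cfsg.Agent.Lib.Helper4.Gallagher
import Cfsg.Agent.Lib.Helper1.LinearChar

/-!
# Murai's theorem: central characters under height zero characters extend to the defect group
-/

set_option autoImplicit false

namespace Cfsg.Agent.Lib.Helper8

open Cfsg
open scoped ComplexConjugate
open Cfsg.Agent.Lib.Helper1 Cfsg.Agent.Lib.Helper4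

universe u

section

variable {G : Type u} [Group G] [Fintype G] {M : Ideal AlgInt} {p : ℕ} [Fact p.Prime]
  {P : Subgroup G}

/-- In a block of `G = P C_G(P)` with defect group `P`, the `P`-constituent of a height zero
character is linear. -/
theorem pcConst_linear_of_height_zero (hM : IsPModular p M) (hP : IsPGroup p P)
    (hG : P ⊔ Subgroup.centralizer (P : Set G) = ⊤) {B : Set (IrrCharacter G)}
    (hB : IsPBlock M B) (hD : IsDefectGroup p M B P) {θ : IrrCharacter G} (hθ : θ ∈ B)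
    (h0 : blockHeight p B (θ : G → ℂ) = 0) : charDegree (pcConst hG θ : P → ℂ) = 1 := by
  classical
  have hp : p.Prime := Fact.out
  have hn := normal_of_sup_centralizer hG
  obtain ⟨χ, hχ, hker⟩ := exists_mem_block_ker hM P hP hB
  obtain ⟨_, h2⟩ := height_zero_of_trivial_on_defectGroup hM hB hD hχ hker
  have h3 := (blockHeight_eq_zero_iff (p := p) ⟨θ, hθ⟩ (θ : G → ℂ)).1 h0 χ hχ
  have h4 := factorization_charDegree_of_sup_centralizer hM hP hG hB hD hθ
  have h5 : (charDegree (pcConst hG θ : P → ℂ)).factorization p = 0 := by omega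
  have h6 : charDegree (pcConst hG θ : P → ℂ) ∣ Nat.card P := charDegree_dvd_card (pcConst hG θ).2
  obtain ⟨d, hd⟩ := IsPGroup.iff_card.1 hP
  rw [hd] at h6
  obtain ⟨j, _, hj⟩ := (Nat.dvd_prime_pow hp).1 h6
  rw [hj, hp.factorization_pow, Finsupp.single_eq_same] at h5
  rw [hj, h5, pow_zero]

end

section

variable {G : Type u} [Group G] [Fintype G]

omit [Fintype G] in
/-- Translation by a central subgroup over whose character `lam` the irreducible `χ` lies. -/
theorem apply_mul_central (Z : Subgroup G) (hZc : Z ≤ Subgroup.center G) (lam : ↥Z →* ℂˣ)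
    (χ : IrrCharacter G)
    (hover : ∀ z : ↥Z, (χ : G → ℂ) z = (χ : G → ℂ) 1 * (lam z : ℂ)) (x : G) (z : Z) :
    (χ : G → ℂ) (x * (z : G)) = (χ : G → ℂ) x * (lam z : ℂ) := by
  obtain ⟨μ, hμ⟩ := exists_hom_central Z.subtype (fun a => hZc a.2) χ.2
  have h1 := hμ 1 z
  rw [one_mul] at h1
  have h2 : ((μ z : ℂˣ) : ℂ) = (lam z : ℂ) := by
    have := hover z
    rw [Subgroup.coe_subtype] at h1
    rw [h1] at this
    exact mul_left_cancel₀ (irr_apply_one_ne_zero χ.2) this
  rw [← h2]
  exact hμ x z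

/-- A constituent of the restriction lies over the same central character. -/
theorem constituent_over_central (Z : Subgroup G) (hZc : Z ≤ Subgroup.center G) (lam : ↥Z →* ℂˣ)
    (χ : IrrCharacter G)
    (hover : ∀ z : ↥Z, (χ : G → ℂ) z = (χ : G → ℂ) 1 * (lam z : ℂ))
    (H : Subgroup G) [Fintype H] (hZH : Z ≤ H) (ξ : IrrCharacter H)
    (hne : classInner (fun h : H => (χ : G → ℂ) h) (ξ : H → ℂ) ≠ 0) (z : Z) :
    (ξ : H → ℂ) ⟨(z : G), hZH z.2⟩ = (ξ : H → ℂ) 1 * (lam z : ℂ) := by
  classical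
  have : Fintype Z := Fintype.ofFinite _
  let ι : Z →* H := Subgroup.inclusion hZH
  have hι : ∀ a, ι a ∈ Subgroup.center H := by
    intro a
    rw [Subgroup.mem_center_iff]
    intro h
    apply Subtype.ext
    exact (Subgroup.mem_center_iff.1 (hZc a.2)) h
  obtain ⟨μ, hμ⟩ := exists_hom_central ι hι ξ.2
  -- reindexing the inner product
  have hsum : ∑ h : H, (χ : G → ℂ) (h : G) * conj ((ξ : H → ℂ) h) =
      ((lam z : ℂ) * conj ((μ z : ℂˣ) : ℂ)) *
        ∑ h : H, (χ : G → ℂ) (h : G) * conj ((ξ : H → ℂ) h) := by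
    conv_lhs => rw [← Equiv.sum_comp (Equiv.mulRight (ι z))
      (fun h : H => (χ : G → ℂ) (h : G) * conj ((ξ : H → ℂ) h))]
    rw [Finset.mul_sum]
    refine Finset.sum_congr rfl fun h _ => ?_
    rw [Equiv.coe_mulRight, hμ h z]
    have : (χ : G → ℂ) ((h * ι z : H) : G) = (χ : G → ℂ) (h : G) * (lam z : ℂ) := by
      rw [Subgroup.coe_mul]
      exact apply_mul_central Z hZc lam χ hover (h : G) z
    rw [this, map_mul]
    ring
  have key : classInner (fun h : H => (χ : G → ℂ) h) (ξ : H → ℂ) =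
      ((lam z : ℂ) * conj ((μ z : ℂˣ) : ℂ)) *
        classInner (fun h : H => (χ : G → ℂ) h) (ξ : H → ℂ) := by
    rw [classInner_def]
    conv_lhs => rw [hsum]
    ring
  have h1 : (lam z : ℂ) * conj ((μ z : ℂˣ) : ℂ) = 1 := by
    have : (1 - (lam z : ℂ) * conj ((μ z : ℂˣ) : ℂ)) *
        classInner (fun h : H => (χ : G → ℂ) h) (ξ : H → ℂ) = 0 := by
      rw [sub_mul, one_mul, ← key, sub_self]
    rcases mul_eq_zero.1 this with h | h
    · linear_combination -h
    · exact absurd h hne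
  have h2 : ((μ z : ℂˣ) : ℂ) * conj ((μ z : ℂˣ) : ℂ) = 1 := by
    rw [Complex.mul_conj, Complex.normSq_eq_norm_sq, norm_hom_apply]
    simp
  have h3 : ((μ z : ℂˣ) : ℂ) = (lam z : ℂ) := by
    have hc : conj ((μ z : ℂˣ) : ℂ) ≠ 0 := by
      intro h
      rw [h, mul_zero] at h2
      exact zero_ne_one h2
    exact mul_right_cancel₀ hc (h2.trans h1.symm)
  have h4 := hμ 1 z
  rw [one_mul] at h4
  rw [← h3]
  exact h4

end

end Cfsg.Agent.Lib.Helper8
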