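import Mathlib
import Cfsg.Prelude.Def_Blocks
import Cfsg.Prelude.Def_BlockRank
import Cfsg.Agent.Lib.Helper8.MU1
import Cfsg.Agent.S0937

/-!
# Murai's theorem: the main statement
-/

set_option autoImplicit false

namespace Cfsg.Agent.Lib.Helper8

open Cfsg
open scoped ComplexConjugate
open Cfsg.Agent.Lib.Helper1 Cfsg.Agent.Lib.Helper4

universe u

section

variable {G : Type u} [Group G] [Fintype G] {M : Ideal AlgInt} {p : ℕ} [Fact p.Prime]

theorem murai_extends (hM : IsPModular p M) {B : Set (IrrCharacter G)} (hB : IsPBlock M B)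
    {D : Subgroup G} (hD : IsDefectGroup p M B D) (Z : Subgroup G)
    (hZc : Z ≤ Subgroup.center G) (hZD : Z ≤ D) (lam : ↥Z →* ℂˣ) (χ : IrrCharacter G)
    (hχ : χ ∈ B) (hover : ∀ z : ↥Z, (χ : G → ℂ) z = (χ : G → ℂ) 1 * (lam z : ℂ))
    (h0 : blockHeight p B (χ : G → ℂ) = 0) :
    ∃ μ : ↥D →* ℂˣ, ∀ z : ↥Z, μ ⟨(z : G), hZD z.2⟩ = lam z := by
  classical
  have hp : p.Prime := Fact.out
  have hDp := isPGroup_of_isDefectGroup hD
  have hDL : D ≤ D ⊔ Subgroup.centralizer (D : Set G) := le_sup_left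
  have : Fintype ↥(D ⊔ Subgroup.centralizer (D : Set G)) := Fintype.ofFinite _
  obtain ⟨b, hbD, hind⟩ := extFirstMain_exists hM hB hD (D ⊔ Subgroup.centralizer (D : Set G))
    le_sup_left le_sup_right
    (sup_le Subgroup.le_normalizer (Subgroup.centralizer_le_normalizer _))
  obtain ⟨ξ, hξb, hξ0, n, hn, hpn⟩ := Cfsg.Agent.S0937.result p M hM _ b B hind χ hχ h0
  have hne : classInner (fun h : ↥(D ⊔ Subgroup.centralizer (D : Set G)) => (χ : G → ℂ) h)
      (ξ : ↥(D ⊔ Subgroup.centralizer (D : Set G)) → ℂ) ≠ 0 := by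
    rw [hn]
    intro h
    have : n = 0 := by exact_mod_cast h
    exact hpn (this ▸ dvd_zero p)
  have hG' := subgroupOf_sup_centralizer_eq_top D
  have hP' : IsPGroup p (D.subgroupOf (D ⊔ Subgroup.centralizer (D : Set G))) :=
    hDp.comap_subtype
  have hbB := hind.1
  have hlin := pcConst_linear_of_height_zero hM hP' hG' hbB hbD hξb hξ0
  have hn' := normal_of_sup_centralizer hG'
  obtain ⟨χ0, hχ0, hker⟩ := exists_mem_block_ker hM _ hP' hbB
  have hζ1 : (pcConst hG' ξ : ↥(D.subgroupOf (D ⊔ Subgroup.centralizer (D : Set G))) → ℂ) 1 = 1 := by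
    rw [(irr_apply_one_eq_charDegree (pcConst hG' ξ).2).1, hlin, Nat.cast_one]
  obtain ⟨φ, hφ⟩ := exists_hom_of_isIrrCharacter (pcConst hG' ξ).2 hζ1
  let e : ↥D ≃* ↥(D.subgroupOf (D ⊔ Subgroup.centralizer (D : Set G))) :=
    (Subgroup.subgroupOfEquivOfLe hDL).symm
  refine ⟨φ.comp e.toMonoidHom, ?_⟩
  intro z
  have hZL : Z ≤ D ⊔ Subgroup.centralizer (D : Set G) := hZD.trans hDL
  have h1 := constituent_over_central Z hZc lam χ hover _ hZL ξ hne z
  set y : ↥(D.subgroupOf (D ⊔ Subgroup.centralizer (D : Set G))) :=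
    ⟨⟨(z : G), hZL z.2⟩, Subgroup.mem_subgroupOf.2 (hZD z.2)⟩ with hy
  have h2 := apply_mul_of_mem_block hM hP' hG' hbB hbD hχ0 hker hξb y (x := 1) not_dvd_orderOf_one
  have h3 := apply_mul_of_mem_block hM hP' hG' hbB hbD hχ0 hker hξb 1 (x := 1) not_dvd_orderOf_one
  rw [mul_one] at h2 h3
  rw [OneMemClass.coe_one, hζ1, one_mul] at h3
  have h4 : (pcConst hG' ξ : ↥(D.subgroupOf (D ⊔ Subgroup.centralizer (D : Set G))) → ℂ) y =
      (lam z : ℂ) := by
    have h5 : (ξ : ↥(D ⊔ Subgroup.centralizer (D : Set G)) → ℂ) ⟨(z : G), hZL z.2⟩ =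
        (pcConst hG' ξ : ↥(D.subgroupOf (D ⊔ Subgroup.centralizer (D : Set G))) → ℂ) y *
          (χ0 : ↥(D ⊔ Subgroup.centralizer (D : Set G)) → ℂ) 1 := h2
    rw [h1, h3] at h5
    have hχ01 := irr_apply_one_ne_zero χ0.2
    have : (χ0 : ↥(D ⊔ Subgroup.centralizer (D : Set G)) → ℂ) 1 * (lam z : ℂ) =
        (χ0 : ↥(D ⊔ Subgroup.centralizer (D : Set G)) → ℂ) 1 *
        (pcConst hG' ξ : ↥(D.subgroupOf (D ⊔ Subgroup.centralizer (D : Set G))) → ℂ) y := by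
      rw [h5]; ring
    exact (mul_left_cancel₀ hχ01 this).symm
  apply Units.ext
  rw [← h4, hφ]
  show ((φ (e ⟨(z : G), hZD z.2⟩) : ℂˣ) : ℂ) = ((φ y : ℂˣ) : ℂ)
  congr 2

end

end Cfsg.Agent.Lib.Helper8
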