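import Mathlib
import Cfsg.Agent.Lib.Lead.MinIdxDefs
import Cfsg.Agent.Lib.Helper8.MinIdxW0

/-!
# S2140, package W4 (`n = 4`), part a: abstract counting lemmas on `pmult`
-/

set_option autoImplicit false
set_option linter.unusedSectionVars false

namespace Cfsg.Agent.Lib.Lead.MinIdx

section W4Fa
variable {R : Type*} [CommGroup R] [Finite R] {Ω : Type*} [Finite Ω] [MulAction R Ω]

/-- the dual group of a finite abelian group is finite -/
theorem w4f_finite_dual : Finite (R →* ℂˣ) := by
  apply Nat.finite_of_card_ne_zero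
  rw [CommGroup.card_monoidHom_of_hasEnoughRootsOfUnity R ℂ]
  exact Nat.card_pos.ne'

/-- a point of `pset χ` forces positive multiplicity -/
theorem w4f_pmult_pos_of_mem_pset {χ : R →* ℂˣ} {ω : Ω} (h : ω ∈ pset χ) : 1 ≤ pmult Ω χ := by
  unfold pmult
  have hne : Nonempty {o : MulAction.orbitRel.Quotient R Ω // o.orbit ⊆ pset χ} :=
    ⟨⟨Quotient.mk'' ω, (w0_orbit_subset_pset_iff χ ω).2 h⟩⟩
  exact Nat.card_pos

/-- positive multiplicity gives a point of `pset χ` -/
theorem w4f_exists_mem_pset_of_pmult_pos {χ : R →* ℂˣ} (h : 1 ≤ pmult Ω χ) :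
    ∃ ω : Ω, ω ∈ pset χ := by
  by_contra hcon
  push Not at hcon
  have h0 : pmult Ω χ = 0 := by
    rw [pmult_eq_zero_iff]
    exact Set.eq_empty_iff_forall_notMem.2 hcon
  omega

/-- the trivial character has positive multiplicity on a nonempty set -/
theorem w4f_pmult_one_pos [Nonempty Ω] : 1 ≤ pmult Ω (1 : R →* ℂˣ) := by
  obtain ⟨ω⟩ := ‹Nonempty Ω›
  apply w4f_pmult_pos_of_mem_pset (ω := ω)
  intro r _
  rfl

/-- an injective family of nontrivial characters of positive multiplicity has fewer members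
than `Ω` has points -/
theorem w4f_card_add_one_le [Nonempty Ω] {X : Type*} [Finite X] (f : X → (R →* ℂˣ))
    (hinj : Function.Injective f) (h1 : ∀ x, f x ≠ 1) (hp : ∀ x, 1 ≤ pmult Ω (f x)) :
    Nat.card X + 1 ≤ Nat.card Ω := by
  classical
  have : Finite (R →* ℂˣ) := w4f_finite_dual
  have : Fintype (R →* ℂˣ) := Fintype.ofFinite _
  have : Fintype X := Fintype.ofFinite X
  rw [← sum_pmult (R := R) (Ω := Ω)]
  have hsub : insert (1 : R →* ℂˣ) (Finset.univ.image f) ⊆ Finset.univ := Finset.subset_univ _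
  have h2 : ∑ χ ∈ insert (1 : R →* ℂˣ) (Finset.univ.image f), pmult Ω χ ≤
      ∑ χ : R →* ℂˣ, pmult Ω χ :=
    Finset.sum_le_sum_of_subset hsub
  refine le_trans ?_ h2
  have h3 : (1 : R →* ℂˣ) ∉ Finset.univ.image f := by
    intro h
    obtain ⟨x, _, hx⟩ := Finset.mem_image.1 h
    exact h1 x hx
  have h4 : (insert (1 : R →* ℂˣ) (Finset.univ.image f)).card = Nat.card X + 1 := by
    rw [Finset.card_insert_of_notMem h3, Finset.card_image_of_injective _ hinj, Finset.card_univ,
      Nat.card_eq_fintype_card]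
  rw [← h4, Finset.card_eq_sum_ones]
  apply Finset.sum_le_sum
  intro χ hχ
  rcases Finset.mem_insert.1 hχ with rfl | hχ
  · exact w4f_pmult_one_pos
  · obtain ⟨x, _, rfl⟩ := Finset.mem_image.1 hχ
    exact hp x


/-- an injective family of nontrivial characters of positive multiplicity, together with the
orbits, has at most `|Ω|` members -/
theorem w4f_card_add_pmult_one_le {X : Type*} [Finite X] (f : X → (R →* ℂˣ))
    (hinj : Function.Injective f) (h1 : ∀ x, f x ≠ 1) (hp : ∀ x, 1 ≤ pmult Ω (f x)) :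
    Nat.card X + pmult Ω (1 : R →* ℂˣ) ≤ Nat.card Ω := by
  classical
  have : Finite (R →* ℂˣ) := w4f_finite_dual
  have : Fintype (R →* ℂˣ) := Fintype.ofFinite _
  have : Fintype X := Fintype.ofFinite X
  rw [← sum_pmult (R := R) (Ω := Ω)]
  have hsub : insert (1 : R →* ℂˣ) (Finset.univ.image f) ⊆ Finset.univ := Finset.subset_univ _
  have h2 : ∑ χ ∈ insert (1 : R →* ℂˣ) (Finset.univ.image f), pmult Ω χ ≤
      ∑ χ : R →* ℂˣ, pmult Ω χ :=
    Finset.sum_le_sum_of_subset hsub
  refine le_trans ?_ h2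
  have h3 : (1 : R →* ℂˣ) ∉ Finset.univ.image f := by
    intro h
    obtain ⟨x, _, hx⟩ := Finset.mem_image.1 h
    exact h1 x hx
  rw [Finset.sum_insert h3, add_comm]
  apply Nat.add_le_add_left
  have h4 : (Finset.univ.image f).card = Nat.card X := by
    rw [Finset.card_image_of_injective _ hinj, Finset.card_univ, Nat.card_eq_fintype_card]
  rw [← h4, Finset.card_eq_sum_ones]
  apply Finset.sum_le_sum
  intro χ hχ
  obtain ⟨x, _, rfl⟩ := Finset.mem_image.1 hχ
  exact hp x

/-- if all nontrivial characters have multiplicity zero, the action is trivial -/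
theorem w4f_trivial_of_pmult_zero (h : ∀ χ : R →* ℂˣ, χ ≠ 1 → pmult Ω χ = 0) (r : R) (ω : Ω) :
    r • ω = ω := by
  classical
  have : Finite (R →* ℂˣ) := w4f_finite_dual
  have : Fintype (R →* ℂˣ) := Fintype.ofFinite _
  have hsum := sum_pmult (R := R) (Ω := Ω)
  rw [Finset.sum_eq_single (1 : R →* ℂˣ) (fun χ _ hχ => h χ hχ)
    (fun h' => absurd (Finset.mem_univ _) h'), pmult_one] at hsum
  have hsurj : Function.Surjective
      (Quotient.mk'' : Ω → MulAction.orbitRel.Quotient R Ω) := Quotient.mk''_surjective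
  have hbij := hsurj.bijective_of_nat_card_le (le_of_eq hsum.symm)
  apply hbij.1
  apply Quotient.sound'
  exact MulAction.mem_orbit ω r

/-- the characters with `ω ∈ pset χ` are as many as the points of the orbit of `ω` -/
theorem w4f_card_pset_chars (ω : Ω) :
    Nat.card {χ : R →* ℂˣ // ω ∈ pset χ} = Nat.card (MulAction.orbit R ω) := by
  have h1 : Nat.card {χ : R →* ℂˣ // ω ∈ pset χ} =
      Nat.card {χ : R →* ℂˣ // MulAction.stabilizer R ω ≤ χ.ker} := by
    apply Nat.card_congr
    exact Equiv.subtypeEquivRight fun χ => w0_mem_pset_iff χ ω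
  rw [h1, w0_card_char_trivial_on, MulAction.index_stabilizer, _root_.Nat.card_coe_set_eq]

/-- if every orbit has at most `c` points then `|Ω| ≤ c * #orbits` -/
theorem w4f_card_le_mul (c : ℕ) (h : ∀ ω : Ω, Nat.card (MulAction.orbit R ω) ≤ c) :
    Nat.card Ω ≤ c * Nat.card (MulAction.orbitRel.Quotient R Ω) := by
  classical
  have : Fintype (MulAction.orbitRel.Quotient R Ω) := Fintype.ofFinite _
  rw [Nat.card_congr (MulAction.selfEquivSigmaOrbits R Ω), Nat.card_sigma]
  have h2 : ∀ o : MulAction.orbitRel.Quotient R Ω, Nat.card (MulAction.orbit R o.out) ≤ c :=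
    fun o => h _
  calc ∑ o : MulAction.orbitRel.Quotient R Ω, Nat.card (MulAction.orbit R o.out)
      ≤ ∑ _o : MulAction.orbitRel.Quotient R Ω, c := Finset.sum_le_sum fun o _ => h2 o
    _ = c * Nat.card (MulAction.orbitRel.Quotient R Ω) := by
      rw [Finset.sum_const, Finset.card_univ, Nat.card_eq_fintype_card, smul_eq_mul, mul_comm]

end W4Fa

end Cfsg.Agent.Lib.Lead.MinIdx
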