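import Mathlib
import Cfsg.Agent.Lib.Lead.MinIdxDefs
import Cfsg.Agent.Lib.Helper8.MinIdxW0

/-!
# S2140, package W4 (`n = 4`), part b: the radical `R = M₂(F)`, the Levi elements, the characters
-/

set_option autoImplicit false
set_option linter.unusedSectionVars false

namespace Cfsg.Agent.Lib.Lead.MinIdx

open Matrix Cfsg.Agent.H9SLRoot

section W4Fb
variable {F : Type*} [Field F]

/-- a `2 + 2` block matrix, indexed by `Fin 4` -/
def w4f_blk (A B C D : Matrix (Fin 2) (Fin 2) F) : Matrix (Fin 4) (Fin 4) F :=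
  Matrix.reindex finSumFinEquiv finSumFinEquiv (Matrix.fromBlocks A B C D)

theorem w4f_blk_mul (A B C D A' B' C' D' : Matrix (Fin 2) (Fin 2) F) :
    w4f_blk A B C D * w4f_blk A' B' C' D' =
      w4f_blk (A * A' + B * C') (A * B' + B * D') (C * A' + D * C') (C * B' + D * D') := by
  unfold w4f_blk
  rw [Matrix.reindex_apply, Matrix.reindex_apply, Matrix.reindex_apply,
    Matrix.submatrix_mul_equiv, Matrix.fromBlocks_multiply]

theorem w4f_blk_one : w4f_blk (1 : Matrix (Fin 2) (Fin 2) F) 0 0 1 = 1 := by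
  unfold w4f_blk
  rw [Matrix.fromBlocks_one, Matrix.reindex_apply, Matrix.submatrix_one_equiv]

theorem w4f_det_blk (A B D : Matrix (Fin 2) (Fin 2) F) :
    (w4f_blk A B 0 D).det = A.det * D.det := by
  unfold w4f_blk
  rw [Matrix.det_reindex_self, Matrix.det_fromBlocks_zero₂₁]

theorem w4f_blk_injective {A B C D A' B' C' D' : Matrix (Fin 2) (Fin 2) F}
    (h : w4f_blk A B C D = w4f_blk A' B' C' D') : A = A' ∧ B = B' ∧ C = C' ∧ D = D' := by
  unfold w4f_blk at h
  have h' := (Matrix.reindex finSumFinEquiv finSumFinEquiv).injective h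
  exact Matrix.fromBlocks_inj.1 h'

/-- the elements of the radical -/
def w4f_rho (B : Matrix (Fin 2) (Fin 2) F) : Matrix.SpecialLinearGroup (Fin 4) F :=
  ⟨w4f_blk 1 B 0 1, by rw [w4f_det_blk, Matrix.det_one, one_mul]⟩

theorem w4f_rho_coe (B : Matrix (Fin 2) (Fin 2) F) :
    ((w4f_rho B : Matrix.SpecialLinearGroup (Fin 4) F) : Matrix (Fin 4) (Fin 4) F) =
      w4f_blk 1 B 0 1 := rfl

theorem w4f_rho_add (B B' : Matrix (Fin 2) (Fin 2) F) :
    w4f_rho (B + B') = w4f_rho B * w4f_rho B' := by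
  apply Subtype.ext
  rw [Matrix.SpecialLinearGroup.coe_mul, w4f_rho_coe, w4f_rho_coe, w4f_rho_coe, w4f_blk_mul]
  simp only [mul_one, one_mul, mul_zero, zero_mul, add_zero, zero_add]
  rw [add_comm]

theorem w4f_rho_zero : w4f_rho (0 : Matrix (Fin 2) (Fin 2) F) = 1 := by
  apply Subtype.ext
  rw [w4f_rho_coe, w4f_blk_one]
  rfl

theorem w4f_rho_injective : Function.Injective (w4f_rho : Matrix (Fin 2) (Fin 2) F → _) := by
  intro B B' h
  have h' := congrArg Subtype.val h
  exact (w4f_blk_injective h').2.1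

/-- the radical as a homomorphic image of the additive group of `M₂(F)` -/
def w4f_rhoHom : Multiplicative (Matrix (Fin 2) (Fin 2) F) →*
    Matrix.SpecialLinearGroup (Fin 4) F where
  toFun B := w4f_rho (Multiplicative.toAdd B)
  map_one' := w4f_rho_zero
  map_mul' _ _ := w4f_rho_add _ _

theorem w4f_rhoHom_apply (B : Multiplicative (Matrix (Fin 2) (Fin 2) F)) :
    w4f_rhoHom B = w4f_rho (Multiplicative.toAdd B) := rfl

/-- the Levi elements -/
def w4f_lev (a b : Matrix (Fin 2) (Fin 2) F) (h : a.det * b.det = 1) :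
    Matrix.SpecialLinearGroup (Fin 4) F :=
  ⟨w4f_blk a 0 0 b, by rw [w4f_det_blk, h]⟩

theorem w4f_lev_coe (a b : Matrix (Fin 2) (Fin 2) F) (h : a.det * b.det = 1) :
    ((w4f_lev a b h : Matrix.SpecialLinearGroup (Fin 4) F) : Matrix (Fin 4) (Fin 4) F) =
      w4f_blk a 0 0 b := rfl

theorem w4f_lev_rho (a b : Matrix (Fin 2) (Fin 2) F) (h : a.det * b.det = 1)
    (B : Matrix (Fin 2) (Fin 2) F) :
    w4f_lev a b h * w4f_rho B = w4f_rho (a * B * b⁻¹) * w4f_lev a b h := by
  have hb : IsUnit b.det := by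
    apply IsUnit.mk0
    intro h0
    rw [h0, mul_zero] at h
    exact zero_ne_one h
  apply Subtype.ext
  rw [Matrix.SpecialLinearGroup.coe_mul, Matrix.SpecialLinearGroup.coe_mul, w4f_rho_coe,
    w4f_rho_coe, w4f_lev_coe, w4f_blk_mul, w4f_blk_mul]
  simp only [mul_one, one_mul, mul_zero, zero_mul, add_zero, zero_add]
  rw [Matrix.nonsing_inv_mul_cancel_right _ _ hb]

theorem w4f_lev_conj (a b : Matrix (Fin 2) (Fin 2) F) (h : a.det * b.det = 1)
    (B : Matrix (Fin 2) (Fin 2) F) :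
    w4f_lev a b h * w4f_rho B * (w4f_lev a b h)⁻¹ = w4f_rho (a * B * b⁻¹) := by
  rw [w4f_lev_rho, mul_inv_cancel_right]

/-- the automorphism `B ↦ a B b⁻¹` of the radical -/
noncomputable def w4f_sig (a b : Matrix (Fin 2) (Fin 2) F) (ha : IsUnit a.det) (hb : IsUnit b.det) :
    Multiplicative (Matrix (Fin 2) (Fin 2) F) ≃* Multiplicative (Matrix (Fin 2) (Fin 2) F) :=
  AddEquiv.toMultiplicative
    { toFun := fun B => a * B * b⁻¹
      invFun := fun B => a⁻¹ * B * b
      left_inv := fun B => by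
        show a⁻¹ * (a * B * b⁻¹) * b = B
        rw [Matrix.mul_assoc a, Matrix.nonsing_inv_mul_cancel_left _ _ ha,
          Matrix.nonsing_inv_mul_cancel_right _ _ hb]
      right_inv := fun B => by
        show a * (a⁻¹ * B * b) * b⁻¹ = B
        rw [Matrix.mul_assoc a⁻¹, Matrix.mul_nonsing_inv_cancel_left _ _ ha,
          Matrix.mul_nonsing_inv_cancel_right _ _ hb]
      map_add' := fun B B' => by
        show a * (B + B') * b⁻¹ = a * B * b⁻¹ + a * B' * b⁻¹
        rw [Matrix.mul_add, Matrix.add_mul] }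

theorem w4f_sig_apply (a b : Matrix (Fin 2) (Fin 2) F) (ha : IsUnit a.det) (hb : IsUnit b.det)
    (B : Multiplicative (Matrix (Fin 2) (Fin 2) F)) :
    Multiplicative.toAdd (w4f_sig a b ha hb B) = a * Multiplicative.toAdd B * b⁻¹ := rfl

/-- the characters of `M₂(F)` -/
def w4f_chi (ψ : Multiplicative F →* ℂˣ) (C : Matrix (Fin 2) (Fin 2) F) :
    Multiplicative (Matrix (Fin 2) (Fin 2) F) →* ℂˣ where
  toFun B := ψ (Multiplicative.ofAdd (Matrix.trace (C * Multiplicative.toAdd B)))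
  map_one' := by simp
  map_mul' a b := by
    rw [toAdd_mul, Matrix.mul_add, Matrix.trace_add, ofAdd_add, map_mul]

theorem w4f_chi_apply (ψ : Multiplicative F →* ℂˣ) (C : Matrix (Fin 2) (Fin 2) F)
    (B : Multiplicative (Matrix (Fin 2) (Fin 2) F)) :
    w4f_chi ψ C B = ψ (Multiplicative.ofAdd (Matrix.trace (C * Multiplicative.toAdd B))) := rfl

theorem w4f_chi_add (ψ : Multiplicative F →* ℂˣ) (C C' : Matrix (Fin 2) (Fin 2) F) :
    w4f_chi ψ (C + C') = w4f_chi ψ C * w4f_chi ψ C' := by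
  apply MonoidHom.ext; intro B
  rw [MonoidHom.mul_apply, w4f_chi_apply, w4f_chi_apply, w4f_chi_apply, Matrix.add_mul,
    Matrix.trace_add, ofAdd_add, map_mul]

theorem w4f_chi_zero (ψ : Multiplicative F →* ℂˣ) :
    w4f_chi ψ (0 : Matrix (Fin 2) (Fin 2) F) = 1 := by
  apply MonoidHom.ext; intro B
  rw [w4f_chi_apply, Matrix.zero_mul, Matrix.trace_zero, ofAdd_zero, map_one]
  rfl

theorem w4f_chi_comp_sig (ψ : Multiplicative F →* ℂˣ) (C a b : Matrix (Fin 2) (Fin 2) F)
    (ha : IsUnit a.det) (hb : IsUnit b.det) :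
    (w4f_chi ψ C).comp (w4f_sig a b ha hb).toMonoidHom = w4f_chi ψ (b⁻¹ * C * a) := by
  apply MonoidHom.ext; intro B
  rw [MonoidHom.comp_apply, MulEquiv.coe_toMonoidHom, w4f_chi_apply, w4f_chi_apply, w4f_sig_apply]
  congr 2
  simp only [Matrix.mul_assoc]
  rw [Matrix.trace_mul_comm b⁻¹]
  simp only [Matrix.mul_assoc]

theorem w4f_exists_psi_ne [Finite F] {ψ : Multiplicative F →* ℂˣ} (hψ : ψ ≠ 1) :
    ∃ c : F, ψ (Multiplicative.ofAdd c) ≠ 1 := by
  by_contra hcon
  push Not at hcon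
  apply hψ
  apply MonoidHom.ext; intro x
  exact hcon (Multiplicative.toAdd x)

theorem w4f_chi_eq_one_iff [Finite F] {ψ : Multiplicative F →* ℂˣ} (hψ : ψ ≠ 1)
    (C : Matrix (Fin 2) (Fin 2) F) : w4f_chi ψ C = 1 ↔ C = 0 := by
  constructor
  · intro h
    by_contra hC
    obtain ⟨i, j, hij⟩ : ∃ i j, C i j ≠ 0 := by
      by_contra hcon
      push Not at hcon
      exact hC (Matrix.ext hcon)
    obtain ⟨c, hc⟩ := w4f_exists_psi_ne hψ
    apply hc
    have := DFunLike.congr_fun h (Multiplicative.ofAdd (Matrix.single j i (c / C i j)))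
    rw [w4f_chi_apply, toAdd_ofAdd, Matrix.trace_mul_comm, Matrix.trace_single_mul, smul_eq_mul,
      div_mul_cancel₀ _ hij] at this
    rw [this]; rfl
  · rintro rfl
    exact w4f_chi_zero ψ

theorem w4f_chi_injective [Finite F] {ψ : Multiplicative F →* ℂˣ} (hψ : ψ ≠ 1) :
    Function.Injective (w4f_chi ψ : Matrix (Fin 2) (Fin 2) F → _) := by
  intro C C' h
  have : w4f_chi ψ (C - C') = 1 := by
    apply MonoidHom.ext; intro B
    have h1 : w4f_chi ψ (C - C') * w4f_chi ψ C' = w4f_chi ψ C := by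
      rw [← w4f_chi_add, sub_add_cancel]
    have h2 := DFunLike.congr_fun h1 B
    rw [h, MonoidHom.mul_apply] at h2
    exact mul_eq_right.mp h2
  exact sub_eq_zero.mp ((w4f_chi_eq_one_iff hψ _).mp this)

theorem w4f_chi_bijective [Finite F] {ψ : Multiplicative F →* ℂˣ} (hψ : ψ ≠ 1) :
    Function.Bijective (w4f_chi ψ : Matrix (Fin 2) (Fin 2) F → _) := by
  have : Finite (Multiplicative (Matrix (Fin 2) (Fin 2) F) →* ℂˣ) := by
    apply Nat.finite_of_card_ne_zero
    rw [CommGroup.card_monoidHom_of_hasEnoughRootsOfUnity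
      (Multiplicative (Matrix (Fin 2) (Fin 2) F)) ℂ]
    exact Nat.card_pos.ne'
  apply Function.Injective.bijective_of_nat_card_le (w4f_chi_injective hψ)
  rw [CommGroup.card_monoidHom_of_hasEnoughRootsOfUnity
    (Multiplicative (Matrix (Fin 2) (Fin 2) F)) ℂ]
  exact le_of_eq rfl

theorem w4f_exists_psi [Finite F] : ∃ ψ : Multiplicative F →* ℂˣ, ψ ≠ 1 := by
  have hne : (Multiplicative.ofAdd (1 : F)) ≠ 1 := by
    intro h
    have : (1 : F) = 0 := h
    exact one_ne_zero this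
  obtain ⟨ψ, hψ⟩ := CommGroup.exists_apply_ne_one_of_hasEnoughRootsOfUnity (Multiplicative F) ℂ hne
  refine ⟨ψ, ?_⟩
  rintro rfl
  exact hψ rfl

end W4Fb

end Cfsg.Agent.Lib.Lead.MinIdx
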