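import Mathlib
import Cfsg.Agent.Lib.Lead.MinIdxDefs
import Cfsg.Agent.Lib.Helper8.MinIdxW0
import Cfsg.Agent.Lib.Helper8.MinIdxW4Fa
import Cfsg.Agent.Lib.Helper8.MinIdxW4Fb

/-!
# S2140, package W4 (`n = 4`), part c: the action on the cosets of `M`, invariance of the
multiplicities under the Levi elements, and the transvection in the radical
-/

set_option autoImplicit false
set_option linter.unusedSectionVars false

namespace Cfsg.Agent.Lib.Lead.MinIdx

open Matrix Cfsg.Agent.H9SLRoot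

section W4Fc
variable {F : Type*} [Field F] [Fintype F] [DecidableEq F]

/-- the action of `M₂(F)` on the cosets of `M` through `w4f_rhoHom` -/
@[instance_reducible]
noncomputable def w4f_act (M : Subgroup (Matrix.SpecialLinearGroup (Fin 4) F)) :
    MulAction (Multiplicative (Matrix (Fin 2) (Fin 2) F))
      (Matrix.SpecialLinearGroup (Fin 4) F ⧸ M) :=
  MulAction.compHom _ w4f_rhoHom

attribute [local instance] w4f_act

variable (M : Subgroup (Matrix.SpecialLinearGroup (Fin 4) F))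

theorem w4f_act_smul (r : Multiplicative (Matrix (Fin 2) (Fin 2) F))
    (ω : Matrix.SpecialLinearGroup (Fin 4) F ⧸ M) : r • ω = w4f_rhoHom r • ω := rfl

theorem w4f_tau_compat (a b : Matrix (Fin 2) (Fin 2) F) (h : a.det * b.det = 1)
    (ha : IsUnit a.det) (hb : IsUnit b.det) (r : Multiplicative (Matrix (Fin 2) (Fin 2) F))
    (ω : Matrix.SpecialLinearGroup (Fin 4) F ⧸ M) :
    (MulAction.toPerm (w4f_lev a b h) : Equiv.Perm (Matrix.SpecialLinearGroup (Fin 4) F ⧸ M))
        (r • ω) =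
      w4f_sig a b ha hb r • (MulAction.toPerm (w4f_lev a b h) :
        Equiv.Perm (Matrix.SpecialLinearGroup (Fin 4) F ⧸ M)) ω := by
  rw [MulAction.toPerm_apply, MulAction.toPerm_apply, w4f_act_smul, w4f_act_smul, smul_smul,
    smul_smul, w4f_rhoHom_apply, w4f_rhoHom_apply, w4f_sig_apply, w4f_lev_rho]

theorem w4f_pmult_move (ψ : Multiplicative F →* ℂˣ) (C a b : Matrix (Fin 2) (Fin 2) F)
    (h : a.det * b.det = 1) :
    pmult (Matrix.SpecialLinearGroup (Fin 4) F ⧸ M) (w4f_chi ψ (b⁻¹ * C * a)) =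
      pmult (Matrix.SpecialLinearGroup (Fin 4) F ⧸ M) (w4f_chi ψ C) := by
  have ha : IsUnit a.det := by
    apply IsUnit.mk0
    intro h0
    rw [h0, zero_mul] at h
    exact zero_ne_one h
  have hb : IsUnit b.det := by
    apply IsUnit.mk0
    intro h0
    rw [h0, mul_zero] at h
    exact zero_ne_one h
  rw [← w4f_chi_comp_sig ψ C a b ha hb]
  exact pmult_comp (w4f_sig a b ha hb) (MulAction.toPerm (w4f_lev a b h))
    (w4f_tau_compat M a b h ha hb) (w4f_chi ψ C)

/-- the multiplicity is invariant under `C ↦ a C b` with `det a = det b ≠ 0` -/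
theorem w4f_pmult_inv (ψ : Multiplicative F →* ℂˣ) (C a b : Matrix (Fin 2) (Fin 2) F)
    (ha : a.det ≠ 0) (hab : a.det = b.det) :
    pmult (Matrix.SpecialLinearGroup (Fin 4) F ⧸ M) (w4f_chi ψ (a * C * b)) =
      pmult (Matrix.SpecialLinearGroup (Fin 4) F ⧸ M) (w4f_chi ψ C) := by
  have hau : IsUnit a.det := IsUnit.mk0 _ ha
  have h : b.det * (a⁻¹).det = 1 := by
    rw [Matrix.det_nonsing_inv, ← hab, Ring.mul_inverse_cancel _ hau]
  have := w4f_pmult_move M ψ C b a⁻¹ h
  rwa [Matrix.nonsing_inv_nonsing_inv _ hau] at this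

/-- the radical contains a transvection -/
theorem w4f_rho_single_eq_tv :
    w4f_rho (Matrix.single 0 0 1 : Matrix (Fin 2) (Fin 2) F) =
      tv (Pi.single 0 1 : Fin 4 → F) (Pi.single 2 1) 1 := by
  have hinc : (Pi.single 2 1 : Fin 4 → F) ⬝ᵥ (Pi.single 0 1 : Fin 4 → F) = 0 := by
    rw [single_dotProduct, one_mul, Pi.single_apply, if_neg (by decide)]
  apply Subtype.ext
  rw [tv_coe hinc, w4f_rho_coe]
  have s0 : (finSumFinEquiv.symm (0 : Fin 4) : Fin 2 ⊕ Fin 2) = Sum.inl 0 := rfl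
  have s1 : (finSumFinEquiv.symm (1 : Fin 4) : Fin 2 ⊕ Fin 2) = Sum.inl 1 := rfl
  have s2 : (finSumFinEquiv.symm (2 : Fin 4) : Fin 2 ⊕ Fin 2) = Sum.inr 0 := rfl
  have s3 : (finSumFinEquiv.symm (3 : Fin 4) : Fin 2 ⊕ Fin 2) = Sum.inr 1 := rfl
  ext i j
  have hblk : w4f_blk (1 : Matrix (Fin 2) (Fin 2) F) (Matrix.single 0 0 1) 0 1 i j =
      Matrix.fromBlocks (1 : Matrix (Fin 2) (Fin 2) F) (Matrix.single 0 0 1)
        (0 : Matrix (Fin 2) (Fin 2) F) (1 : Matrix (Fin 2) (Fin 2) F)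
        ((finSumFinEquiv (m := 2) (n := 2)).symm i) ((finSumFinEquiv (m := 2) (n := 2)).symm j) :=
    rfl
  rw [hblk]
  fin_cases i <;> fin_cases j <;>
    simp [tmat, Matrix.vecMulVec_apply, s0, s1, s2, s3]

/-- a transvection-free subgroup cannot contain the whole radical -/
theorem w4f_not_trivial (hTF : TransvFree M)
    (h : ∀ (r : Multiplicative (Matrix (Fin 2) (Fin 2) F))
      (ω : Matrix.SpecialLinearGroup (Fin 4) F ⧸ M), r • ω = ω) : False := by
  have h1 := h (Multiplicative.ofAdd (Matrix.single 0 0 1))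
    ((1 : Matrix.SpecialLinearGroup (Fin 4) F) : Matrix.SpecialLinearGroup (Fin 4) F ⧸ M)
  rw [w4f_act_smul, w4f_rhoHom_apply, toAdd_ofAdd] at h1
  have h2 : w4f_rho (Matrix.single 0 0 1 : Matrix (Fin 2) (Fin 2) F) ∈ M := by
    have h3 : ((w4f_rho (Matrix.single 0 0 1 : Matrix (Fin 2) (Fin 2) F) * 1 :
        Matrix.SpecialLinearGroup (Fin 4) F) : Matrix.SpecialLinearGroup (Fin 4) F ⧸ M) =
        ((1 : Matrix.SpecialLinearGroup (Fin 4) F) : Matrix.SpecialLinearGroup (Fin 4) F ⧸ M) := h1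
    rw [mul_one] at h3
    have h4 := QuotientGroup.eq.1 h3
    rw [mul_one] at h4
    exact inv_mem_iff.1 h4
  have hinc : (Pi.single 2 1 : Fin 4 → F) ⬝ᵥ (Pi.single 0 1 : Fin 4 → F) = 0 := by
    rw [single_dotProduct, one_mul, Pi.single_apply, if_neg (by decide)]
  rw [w4f_rho_single_eq_tv] at h2
  have h5 := hTF _ _ _ hinc h2
  rw [← w4f_rho_single_eq_tv, ← w4f_rho_zero] at h5
  have h6 := w4f_rho_injective h5
  have h7 := congrFun (congrFun h6 0) 0
  simp at h7

end W4Fc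

end Cfsg.Agent.Lib.Lead.MinIdx
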