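import Mathlib

/-!
# S2140, package W4 (`n = 4`), part d: `2 × 2` matrices — rank one normal form and the two
counting families
-/

set_option autoImplicit false
set_option linter.unusedSectionVars false

namespace Cfsg.Agent.Lib.Lead.MinIdx

open Matrix

section W4Fd
variable {F : Type*} [Field F]

/-- a nonzero singular `2 × 2` matrix is a column times a row -/
theorem w4f_rank_one (C : Matrix (Fin 2) (Fin 2) F) (hC : C ≠ 0) (hdet : C.det = 0) :
    ∃ v φ : Fin 2 → F, v ≠ 0 ∧ φ ≠ 0 ∧ C = Matrix.vecMulVec v φ := by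
  obtain ⟨i, j, hij⟩ : ∃ i j, C i j ≠ 0 := by
    by_contra hcon
    push Not at hcon
    exact hC (Matrix.ext hcon)
  rw [Matrix.det_fin_two] at hdet
  have key : ∀ i j k l : Fin 2, C k l * C i j = C k j * C i l := by
    simp only [Fin.forall_fin_two]
    repeat' constructor
    all_goals first | ring1 | linear_combination hdet | linear_combination -hdet
  refine ⟨fun k => C k j / C i j, C i, ?_, ?_, ?_⟩
  · intro h
    have := congrFun h i
    simp only [Pi.zero_apply] at this
    rw [div_self hij] at this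
    exact one_ne_zero this
  · intro h
    exact hij (congrFun h j)
  · ext k l
    rw [Matrix.vecMulVec_apply, div_mul_eq_mul_div, eq_div_iff hij]
    exact key i j k l

/-- a nonzero vector can be moved to `e₀` by a matrix of determinant one -/
theorem w4f_exists_sl_vec (v : Fin 2 → F) (hv : v ≠ 0) :
    ∃ a : Matrix (Fin 2) (Fin 2) F, a.det = 1 ∧ a *ᵥ v = ![1, 0] := by
  obtain ⟨x, y, hxy⟩ : ∃ x y : F, x * v 0 + y * v 1 = 1 := by
    by_cases h0 : v 0 = 0
    · have h1 : v 1 ≠ 0 := by
        intro h1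
        apply hv
        ext k
        fin_cases k
        · exact h0
        · exact h1
      exact ⟨0, (v 1)⁻¹, by rw [zero_mul, zero_add, inv_mul_cancel₀ h1]⟩
    · exact ⟨(v 0)⁻¹, 0, by rw [zero_mul, add_zero, inv_mul_cancel₀ h0]⟩
  refine ⟨!![x, y; -v 1, v 0], ?_, ?_⟩
  · rw [Matrix.det_fin_two_of]
    linear_combination hxy
  · ext k
    fin_cases k
    · simp [Matrix.mulVec, dotProduct, Fin.sum_univ_two]
      exact hxy
    · simp [Matrix.mulVec, dotProduct, Fin.sum_univ_two]
      ring

/-- rank one matrices are equivalent to the matrix unit `E₀₀` -/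
theorem w4f_rank_one_equiv (C : Matrix (Fin 2) (Fin 2) F) (hC : C ≠ 0) (hdet : C.det = 0) :
    ∃ a b : Matrix (Fin 2) (Fin 2) F, a.det = 1 ∧ b.det = 1 ∧
      a * C * b = Matrix.single 0 0 1 := by
  obtain ⟨v, φ, hv, hφ, rfl⟩ := w4f_rank_one C hC hdet
  obtain ⟨a, ha, hav⟩ := w4f_exists_sl_vec v hv
  obtain ⟨b, hb, hbφ⟩ := w4f_exists_sl_vec φ hφ
  refine ⟨a, bᵀ, ha, by rw [Matrix.det_transpose, hb], ?_⟩
  rw [Matrix.mul_vecMulVec, Matrix.vecMulVec_mul, Matrix.vecMul_transpose, hav, hbφ]
  ext k l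
  fin_cases k <;> fin_cases l <;> simp [Matrix.vecMulVec_apply, Matrix.single_apply]

theorem w4f_det_vecMulVec (v φ : Fin 2 → F) : (Matrix.vecMulVec v φ).det = 0 := by
  rw [Matrix.det_fin_two]
  simp only [Matrix.vecMulVec_apply]
  ring

/-- the index set of the rank one family -/
abbrev w4f_X1 (F : Type*) [Field F] : Type _ :=
  ({v : Fin 2 → F // v ≠ 0} × F) ⊕ {v : Fin 2 → F // v ≠ 0}

/-- the rank one family -/
def w4f_g1 : w4f_X1 F → Matrix (Fin 2) (Fin 2) F
  | Sum.inl (v, c) => Matrix.vecMulVec v.1 ![1, c]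
  | Sum.inr v => Matrix.vecMulVec v.1 ![0, 1]

theorem w4f_g1_det (x : w4f_X1 F) : (w4f_g1 x).det = 0 := by
  rcases x with ⟨v, c⟩ | v <;> exact w4f_det_vecMulVec _ _

theorem w4f_exists_ne_zero {v : Fin 2 → F} (hv : v ≠ 0) : ∃ k, v k ≠ 0 := by
  by_contra hcon
  push Not at hcon
  exact hv (funext hcon)

theorem w4f_g1_ne_zero (x : w4f_X1 F) : w4f_g1 x ≠ 0 := by
  rcases x with ⟨v, c⟩ | v
  · obtain ⟨k, hk⟩ := w4f_exists_ne_zero v.2
    intro h
    have := congrFun (congrFun h k) 0
    simp [w4f_g1, Matrix.vecMulVec_apply] at this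
    exact hk this
  · obtain ⟨k, hk⟩ := w4f_exists_ne_zero v.2
    intro h
    have := congrFun (congrFun h k) 1
    simp [w4f_g1, Matrix.vecMulVec_apply] at this
    exact hk this

theorem w4f_g1_injective : Function.Injective (w4f_g1 : w4f_X1 F → _) := by
  rintro (⟨v, c⟩ | v) (⟨v', c'⟩ | v') h
  · have hv : v = v' := by
      apply Subtype.ext
      ext k
      have := congrFun (congrFun h k) 0
      simpa [w4f_g1, Matrix.vecMulVec_apply] using this
    subst hv
    obtain ⟨k, hk⟩ := w4f_exists_ne_zero v.2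
    have := congrFun (congrFun h k) 1
    simp only [w4f_g1, Matrix.vecMulVec_apply, Matrix.cons_val_one, Matrix.cons_val_zero] at this
    rw [mul_right_inj' hk] at this
    rw [this]
  · exfalso
    obtain ⟨k, hk⟩ := w4f_exists_ne_zero v.2
    have := congrFun (congrFun h k) 0
    simp [w4f_g1, Matrix.vecMulVec_apply] at this
    exact hk this
  · exfalso
    obtain ⟨k, hk⟩ := w4f_exists_ne_zero v'.2
    have := congrFun (congrFun h k) 0
    simp [w4f_g1, Matrix.vecMulVec_apply] at this
    exact hk this.symm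
  · have hv : v = v' := by
      apply Subtype.ext
      ext k
      have := congrFun (congrFun h k) 1
      simpa [w4f_g1, Matrix.vecMulVec_apply] using this
    rw [hv]

/-- the index set of a determinant class -/
abbrev w4f_X2 (F : Type*) [Field F] : Type _ :=
  ({a : F // a ≠ 0} × F × F) ⊕ ({b : F // b ≠ 0} × F)

/-- the family of all matrices of determinant `d` -/
def w4f_g2 (d : F) : w4f_X2 F → Matrix (Fin 2) (Fin 2) F
  | Sum.inl (a, b, c) => !![a.1, b; c, (d + b * c) / a.1]
  | Sum.inr (b, e) => !![0, b.1; -d / b.1, e]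

theorem w4f_g2_det (d : F) (x : w4f_X2 F) : (w4f_g2 d x).det = d := by
  rcases x with ⟨a, b, c⟩ | ⟨b, e⟩
  · simp only [w4f_g2, Matrix.det_fin_two_of]
    have := a.2
    field_simp
    ring
  · simp only [w4f_g2, Matrix.det_fin_two_of]
    have := b.2
    field_simp
    ring

theorem w4f_g2_injective (d : F) : Function.Injective (w4f_g2 d : w4f_X2 F → _) := by
  rintro (⟨a, b, c⟩ | ⟨b, e⟩) (⟨a', b', c'⟩ | ⟨b', e'⟩) h
  · have h00 := congrFun (congrFun h 0) 0
    have h01 := congrFun (congrFun h 0) 1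
    have h10 := congrFun (congrFun h 1) 0
    simp [w4f_g2] at h00 h01 h10
    have ha : a = a' := Subtype.ext h00
    rw [ha, h01, h10]
  · exfalso
    have h00 := congrFun (congrFun h 0) 0
    simp [w4f_g2] at h00
    exact a.2 h00
  · exfalso
    have h00 := congrFun (congrFun h 0) 0
    simp [w4f_g2] at h00
    exact a'.2 h00.symm
  · have h01 := congrFun (congrFun h 0) 1
    have h11 := congrFun (congrFun h 1) 1
    simp [w4f_g2] at h01 h11
    have hb : b = b' := Subtype.ext h01
    rw [hb, h11]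

/-- two determinant classes together -/
def w4f_g22 (d d' : F) : w4f_X2 F ⊕ w4f_X2 F → Matrix (Fin 2) (Fin 2) F :=
  Sum.elim (w4f_g2 d) (w4f_g2 d')

theorem w4f_g22_injective {d d' : F} (h : d ≠ d') : Function.Injective (w4f_g22 d d') := by
  rintro (x | x) (y | y) hxy
  · rw [w4f_g2_injective d hxy]
  · exfalso
    apply h
    have := congrArg Matrix.det hxy
    simpa [w4f_g22, w4f_g2_det] using this
  · exfalso
    apply h
    have := congrArg Matrix.det hxy
    simpa [w4f_g22, w4f_g2_det] using this.symm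
  · rw [w4f_g2_injective d' hxy]

theorem w4f_g22_det_ne_zero {d d' : F} (hd : d ≠ 0) (hd' : d' ≠ 0) (x : w4f_X2 F ⊕ w4f_X2 F) :
    (w4f_g22 d d' x).det ≠ 0 := by
  rcases x with x | x
  · simpa [w4f_g22, w4f_g2_det] using hd
  · simpa [w4f_g22, w4f_g2_det] using hd'

theorem w4f_card_ne_zero [Fintype F] : Nat.card {a : F // a ≠ 0} = Fintype.card F - 1 := by
  classical
  rw [Nat.card_eq_fintype_card, Fintype.card_subtype_compl, Fintype.card_subtype_eq]

theorem w4f_card_vec_ne_zero [Fintype F] :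
    Nat.card {v : Fin 2 → F // v ≠ 0} = Fintype.card F ^ 2 - 1 := by
  classical
  rw [Nat.card_eq_fintype_card, Fintype.card_subtype_compl, Fintype.card_subtype_eq,
    Fintype.card_fun, Fintype.card_fin]

theorem w4f_card_X1 [Fintype F] :
    Nat.card (w4f_X1 F) =
      (Fintype.card F ^ 2 - 1) * Fintype.card F + (Fintype.card F ^ 2 - 1) := by
  rw [Nat.card_sum, Nat.card_prod, w4f_card_vec_ne_zero, Nat.card_eq_fintype_card (α := F)]

theorem w4f_card_X2 [Fintype F] :
    Nat.card (w4f_X2 F) =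
      (Fintype.card F - 1) * (Fintype.card F * Fintype.card F) +
        (Fintype.card F - 1) * Fintype.card F := by
  rw [Nat.card_sum, Nat.card_prod, Nat.card_prod, Nat.card_prod, w4f_card_ne_zero,
    Nat.card_eq_fintype_card (α := F)]

end W4Fd

end Cfsg.Agent.Lib.Lead.MinIdx
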