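import Mathlib

/-!
# S2140, package W4 (`n = 4`), part p: the `q = 3` endgame lemma
-/

set_option linter.unusedSectionVars false

set_option autoImplicit false

namespace Cfsg.Agent.Lib.Lead.MinIdx

/-- the polar form of the `2 × 2` determinant -/
theorem w4f_det_add_two {F : Type*} [CommRing F] (y z : Matrix (Fin 2) (Fin 2) F) :
    (y + z).det + (y - z).det = 2 * y.det + 2 * z.det := by
  simp only [Matrix.det_fin_two, Matrix.add_apply, Matrix.sub_apply]
  ring

/-- (W4, `q = 3` endgame) an additive subgroup of `M₂(F)`, `|F| = 3`, on whose nonzero elements the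
determinant is a nonzero constant, has at most `3` elements -/
theorem w4f_card_le_three {F : Type*} [Field F] [Fintype F] (hF : Fintype.card F = 3)
    (D : AddSubgroup (Matrix (Fin 2) (Fin 2) F)) (δ : F) (hδ : δ ≠ 0)
    (hD : ∀ y ∈ D, y ≠ 0 → y.det = δ) : Nat.card D ≤ 3 := by
  classical
  have h3 : (3 : F) = 0 := by
    have := Nat.cast_card_eq_zero F
    rwa [hF] at this
  by_contra hlt
  push Not at hlt
  have : Finite D := inferInstance
  have : Fintype D := Fintype.ofFinite D
  -- a nonzero element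
  have h1 : 1 < Nat.card D := by omega
  obtain ⟨y, hy⟩ : ∃ y : D, y ≠ 0 := by
    rw [Nat.card_eq_fintype_card, Fintype.one_lt_card_iff_nontrivial] at h1
    exact exists_ne 0
  -- an element outside `{0, y, -y}`
  obtain ⟨z, hz0, hzy, hzy'⟩ : ∃ z : D, z ≠ 0 ∧ z ≠ y ∧ z ≠ -y := by
    by_contra hcon
    push Not at hcon
    have hsub : (Finset.univ : Finset D) ⊆ {0, y, -y} := by
      intro z _
      by_cases hz0 : z = 0
      · simp [hz0]
      by_cases hzy : z = y
      · simp [hzy]
      · simp [hcon z hz0 hzy]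
    have := Finset.card_le_card hsub
    have h4 : ({0, y, -y} : Finset D).card ≤ 3 := Finset.card_le_three
    rw [Finset.card_univ, ← Nat.card_eq_fintype_card] at this
    omega
  have e1 : (y : Matrix (Fin 2) (Fin 2) F) ≠ 0 := fun h => hy (Subtype.ext h)
  have e2 : (z : Matrix (Fin 2) (Fin 2) F) ≠ 0 := fun h => hz0 (Subtype.ext h)
  have e3 : (y : Matrix (Fin 2) (Fin 2) F) + z ≠ 0 := by
    intro h
    apply hzy'
    apply Subtype.ext
    rw [AddSubgroup.coe_neg]
    exact (eq_neg_of_add_eq_zero_right h)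
  have e4 : (y : Matrix (Fin 2) (Fin 2) F) - z ≠ 0 := by
    intro h
    apply hzy
    apply Subtype.ext
    exact (sub_eq_zero.1 h).symm
  have d1 := hD _ y.2 e1
  have d2 := hD _ z.2 e2
  have d3 := hD _ (D.add_mem y.2 z.2) e3
  have d4 := hD _ (D.sub_mem y.2 z.2) e4
  have key := w4f_det_add_two (y : Matrix (Fin 2) (Fin 2) F) z
  rw [d1, d2, d3, d4] at key
  -- `2 δ = 4 δ`, so `2 δ = 0`, so `δ = 0` as `3 = 0`
  apply hδ
  have : δ = 3 * δ - (2 * δ + 2 * δ - (δ + δ)) := by ring
  rw [this, ← key, h3]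
  ring

end Cfsg.Agent.Lib.Lead.MinIdx
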