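import Mathlib
import Cfsg.Agent.Lib.Lead.MinIdxDefs
import Cfsg.Agent.Lib.Helper8.MinIdxW0
import Cfsg.Agent.Lib.Helper8.MinIdxW4Fa
import Cfsg.Agent.Lib.Helper8.MinIdxW4Fb
import Cfsg.Agent.Lib.Helper8.MinIdxW4Fc
import Cfsg.Agent.Lib.Helper8.MinIdxW4Fd
import Cfsg.Agent.Lib.Helper8.MinIdxW4Fp

/-!
# S2140, package W4 (`n = 4`), part e: there is no transvection-free subgroup of index `q³`
in `SL₄(q)`, `q ≠ 2`
-/

set_option autoImplicit false
set_option linter.unusedSectionVars false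

namespace Cfsg.Agent.Lib.Lead.MinIdx

open Matrix Cfsg.Agent.H9SLRoot

section W4Fe
variable {F : Type*} [Field F] [Fintype F] [DecidableEq F]

attribute [local instance] w4f_act

variable (M : Subgroup (Matrix.SpecialLinearGroup (Fin 4) F))

theorem w4f_card_Om (hidx : M.index = Fintype.card F ^ 3) :
    Nat.card (Matrix.SpecialLinearGroup (Fin 4) F ⧸ M) = Fintype.card F ^ 3 := hidx

/-- the basic count: an injective family of nonzero matrices of positive multiplicity -/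
theorem w4f_count (hidx : M.index = Fintype.card F ^ 3) {ψ : Multiplicative F →* ℂˣ}
    (hψ : ψ ≠ 1) {X : Type*} [Finite X] (g : X → Matrix (Fin 2) (Fin 2) F)
    (hinj : Function.Injective g) (h0 : ∀ x, g x ≠ 0)
    (hp : ∀ x, 1 ≤ pmult (Matrix.SpecialLinearGroup (Fin 4) F ⧸ M) (w4f_chi ψ (g x))) :
    Nat.card X + pmult (Matrix.SpecialLinearGroup (Fin 4) F ⧸ M)
      (1 : Multiplicative (Matrix (Fin 2) (Fin 2) F) →* ℂˣ) ≤ Fintype.card F ^ 3 := by
  rw [← w4f_card_Om M hidx]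
  exact w4f_card_add_pmult_one_le (fun x => w4f_chi ψ (g x)) ((w4f_chi_injective hψ).comp hinj)
    (fun x h => h0 x ((w4f_chi_eq_one_iff hψ _).1 h)) hp

theorem w4f_pmult_triv_pos :
    1 ≤ pmult (Matrix.SpecialLinearGroup (Fin 4) F ⧸ M)
      (1 : Multiplicative (Matrix (Fin 2) (Fin 2) F) →* ℂˣ) := by
  have : Nonempty (Matrix.SpecialLinearGroup (Fin 4) F ⧸ M) :=
    ⟨((1 : Matrix.SpecialLinearGroup (Fin 4) F) : Matrix.SpecialLinearGroup (Fin 4) F ⧸ M)⟩
  exact w4f_pmult_one_pos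

/-- the rank one characters do not occur -/
theorem w4f_no_rank_one (hidx : M.index = Fintype.card F ^ 3) {ψ : Multiplicative F →* ℂˣ}
    (hψ : ψ ≠ 1) (C : Matrix (Fin 2) (Fin 2) F) (hC : C ≠ 0) (hdet : C.det = 0) :
    pmult (Matrix.SpecialLinearGroup (Fin 4) F ⧸ M) (w4f_chi ψ C) = 0 := by
  by_contra hne
  have hpos : 1 ≤ pmult (Matrix.SpecialLinearGroup (Fin 4) F ⧸ M) (w4f_chi ψ C) :=
    Nat.one_le_iff_ne_zero.2 hne
  have hall : ∀ C' : Matrix (Fin 2) (Fin 2) F, C' ≠ 0 → C'.det = 0 →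
      pmult (Matrix.SpecialLinearGroup (Fin 4) F ⧸ M) (w4f_chi ψ C') =
        pmult (Matrix.SpecialLinearGroup (Fin 4) F ⧸ M) (w4f_chi ψ (Matrix.single 0 0 1)) := by
    intro C' h1 h2
    obtain ⟨a, b, ha, hb, hab⟩ := w4f_rank_one_equiv C' h1 h2
    rw [← hab, w4f_pmult_inv M ψ C' a b (by rw [ha]; exact one_ne_zero) (by rw [ha, hb])]
  have h1 := w4f_count M hidx hψ w4f_g1 w4f_g1_injective w4f_g1_ne_zero (fun x => by
    rw [hall _ (w4f_g1_ne_zero x) (w4f_g1_det x), ← hall C hC hdet]; exact hpos)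
  have h2 := w4f_pmult_triv_pos M
  rw [w4f_card_X1] at h1
  have hq : 2 ≤ Fintype.card F := Fintype.one_lt_card
  generalize Fintype.card F = q at h1 hq
  have hN : q ^ 2 - 1 + 1 = q ^ 2 := Nat.sub_add_cancel (Nat.one_le_pow _ _ (by omega))
  generalize q ^ 2 - 1 = N at h1 hN
  have h3 : q ^ 3 = N * q + q := by
    rw [pow_succ, ← hN]; ring
  have h4 : q * 2 ≤ q ^ 2 := by nlinarith
  generalize pmult (Matrix.SpecialLinearGroup (Fin 4) F ⧸ M)
    (1 : Multiplicative (Matrix (Fin 2) (Fin 2) F) →* ℂˣ) = p at h1 h2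
  linarith

/-- the multiplicity is constant on the classes of nonzero determinant -/
theorem w4f_pmult_det_class (ψ : Multiplicative F →* ℂˣ) (C C' : Matrix (Fin 2) (Fin 2) F)
    (hd : C.det ≠ 0) (h : C'.det = C.det) :
    pmult (Matrix.SpecialLinearGroup (Fin 4) F ⧸ M) (w4f_chi ψ C') =
      pmult (Matrix.SpecialLinearGroup (Fin 4) F ⧸ M) (w4f_chi ψ C) := by
  have hu : IsUnit C.det := IsUnit.mk0 _ hd
  have h1 : (C' * C⁻¹).det = 1 := by
    rw [Matrix.det_mul, Matrix.det_nonsing_inv, h, Ring.mul_inverse_cancel _ hu]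
  have h2 := w4f_pmult_inv M ψ C (C' * C⁻¹) 1 (by rw [h1]; exact one_ne_zero)
    (by rw [h1, Matrix.det_one])
  rwa [Matrix.mul_one, Matrix.nonsing_inv_mul_cancel_right _ _ hu] at h2

/-- two different nonzero determinants cannot both occur -/
theorem w4f_no_two_dets (hidx : M.index = Fintype.card F ^ 3) {ψ : Multiplicative F →* ℂˣ}
    (hψ : ψ ≠ 1) (C₁ C₂ : Matrix (Fin 2) (Fin 2) F) (h1 : C₁.det ≠ 0) (h2 : C₂.det ≠ 0)
    (hne : C₁.det ≠ C₂.det)
    (p1 : 1 ≤ pmult (Matrix.SpecialLinearGroup (Fin 4) F ⧸ M) (w4f_chi ψ C₁))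
    (p2 : 1 ≤ pmult (Matrix.SpecialLinearGroup (Fin 4) F ⧸ M) (w4f_chi ψ C₂)) : False := by
  have hne0 : ∀ x, w4f_g22 C₁.det C₂.det x ≠ 0 := by
    intro x h
    apply w4f_g22_det_ne_zero h1 h2 x
    rw [h, Matrix.det_zero]
  have hc := w4f_count M hidx hψ (w4f_g22 C₁.det C₂.det) (w4f_g22_injective hne) hne0 (fun x => by
    rcases x with x | x
    · show 1 ≤ pmult (Matrix.SpecialLinearGroup (Fin 4) F ⧸ M) (w4f_chi ψ (w4f_g2 C₁.det x))
      rw [w4f_pmult_det_class M ψ C₁ _ h1 (w4f_g2_det _ x)]; exact p1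
    · show 1 ≤ pmult (Matrix.SpecialLinearGroup (Fin 4) F ⧸ M) (w4f_chi ψ (w4f_g2 C₂.det x))
      rw [w4f_pmult_det_class M ψ C₂ _ h2 (w4f_g2_det _ x)]; exact p2)
  have hp := w4f_pmult_triv_pos M
  rw [Nat.card_sum, w4f_card_X2] at hc
  have hq : 2 ≤ Fintype.card F := Fintype.one_lt_card
  generalize Fintype.card F = q at hc hq
  have hK : q - 1 + 1 = q := Nat.sub_add_cancel (by omega)
  have hK1 : 1 ≤ q - 1 := by omega
  generalize q - 1 = K at hc hK hK1
  have h3 : q ^ 3 = K * (q * q) + q * q := by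
    rw [pow_succ, pow_two]
    nth_rewrite 3 [← hK]
    ring
  have h4 : q * q ≤ K * (q * q) := Nat.le_mul_of_pos_left _ hK1
  generalize pmult (Matrix.SpecialLinearGroup (Fin 4) F ⧸ M)
    (1 : Multiplicative (Matrix (Fin 2) (Fin 2) F) →* ℂˣ) = p at hc hp
  have h5 : 0 ≤ K * q := Nat.zero_le _
  linarith

theorem w4f_exists_scalar (h4 : 4 ≤ Fintype.card F) : ∃ s : F, s ≠ 0 ∧ s * s ≠ 1 := by
  by_contra hcon
  push Not at hcon
  have hsub : (Finset.univ : Finset F) ⊆ {0, 1, -1} := by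
    intro s _
    by_cases hs : s = 0
    · simp [hs]
    have h1 := hcon s hs
    have h2 : (s - 1) * (s + 1) = 0 := by linear_combination h1
    rcases mul_eq_zero.1 h2 with h | h
    · simp [sub_eq_zero.1 h]
    · simp [eq_neg_of_add_eq_zero_left h]
  have := Finset.card_le_card hsub
  have h3 : ({0, 1, -1} : Finset F).card ≤ 3 := Finset.card_le_three
  rw [Finset.card_univ] at this
  omega

/-- the endgame for `q = 3` -/
theorem w4f_endgame (hidx : M.index = Fintype.card F ^ 3) {ψ : Multiplicative F →* ℂˣ}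
    (hψ : ψ ≠ 1) (h3 : Fintype.card F = 3) (C₀ : Matrix (Fin 2) (Fin 2) F) (hdet0 : C₀.det ≠ 0)
    (hpos : 1 ≤ pmult (Matrix.SpecialLinearGroup (Fin 4) F ⧸ M) (w4f_chi ψ C₀)) : False := by
  -- every nonzero `C` of positive multiplicity has the determinant of `C₀`
  have hδ : ∀ C : Matrix (Fin 2) (Fin 2) F, C ≠ 0 →
      1 ≤ pmult (Matrix.SpecialLinearGroup (Fin 4) F ⧸ M) (w4f_chi ψ C) → C.det = C₀.det := by
    intro C hC hp
    by_contra hne
    have hd : C.det ≠ 0 := fun h => by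
      have := w4f_no_rank_one M hidx hψ C hC h
      omega
    exact w4f_no_two_dets M hidx hψ C C₀ hd hdet0 hne hp hpos
  -- every orbit has at most three points
  have horb : ∀ ω : Matrix.SpecialLinearGroup (Fin 4) F ⧸ M,
      Nat.card (MulAction.orbit (Multiplicative (Matrix (Fin 2) (Fin 2) F)) ω) ≤ 3 := by
    intro ω
    let D : AddSubgroup (Matrix (Fin 2) (Fin 2) F) :=
      { carrier := {C | ω ∈ pset (w4f_chi ψ C)}
        zero_mem' := by
          show ω ∈ pset (w4f_chi ψ 0)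
          rw [w4f_chi_zero]
          intro r _
          rfl
        add_mem' := by
          intro C C' hC hC'
          show ω ∈ pset (w4f_chi ψ (C + C'))
          intro r hr
          rw [w4f_chi_add, MonoidHom.mul_apply, hC r hr, hC' r hr, one_mul]
        neg_mem' := by
          intro C hC
          show ω ∈ pset (w4f_chi ψ (-C))
          intro r hr
          have h1 : w4f_chi ψ (-C) * w4f_chi ψ C = 1 := by
            rw [← w4f_chi_add, neg_add_cancel, w4f_chi_zero]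
          have h2 := DFunLike.congr_fun h1 r
          rw [MonoidHom.mul_apply, hC r hr, mul_one] at h2
          exact h2 }
    have hD : Nat.card D ≤ 3 := w4f_card_le_three h3 D C₀.det hdet0
      (fun C hC hC0 => hδ C hC0 (w4f_pmult_pos_of_mem_pset hC))
    rw [← w4f_card_pset_chars]
    have hbij : Function.Bijective (fun C : D =>
        (⟨w4f_chi ψ C.1, C.2⟩ : {χ : Multiplicative (Matrix (Fin 2) (Fin 2) F) →* ℂˣ //
          ω ∈ pset χ})) := by
      constructor
      · intro C C' h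
        apply Subtype.ext
        exact w4f_chi_injective hψ (congrArg Subtype.val h)
      · rintro ⟨χ, hχ⟩
        obtain ⟨C, rfl⟩ := (w4f_chi_bijective hψ).2 χ
        exact ⟨⟨C, hχ⟩, rfl⟩
    rw [← Nat.card_congr (Equiv.ofBijective _ hbij)]
    exact hD
  have h27 := w4f_card_le_mul (R := Multiplicative (Matrix (Fin 2) (Fin 2) F))
    (Ω := Matrix.SpecialLinearGroup (Fin 4) F ⧸ M) 3 horb
  rw [← pmult_one, w4f_card_Om M hidx, h3] at h27
  have hne0 : ∀ x, w4f_g2 C₀.det x ≠ 0 := by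
    intro x h
    have := w4f_g2_det C₀.det x
    rw [h, Matrix.det_zero] at this
    exact hdet0 this.symm
  have hc := w4f_count M hidx hψ (w4f_g2 C₀.det) (w4f_g2_injective _) hne0 (fun x => by
    rw [w4f_pmult_det_class M ψ C₀ _ hdet0 (w4f_g2_det _ x)]; exact hpos)
  rw [w4f_card_X2, h3] at hc
  omega

/-- no character of `M₂(F)` other than the trivial one occurs -/
theorem w4f_all_zero (hq : Fintype.card F ≠ 2) (hidx : M.index = Fintype.card F ^ 3)
    {ψ : Multiplicative F →* ℂˣ} (hψ : ψ ≠ 1) (C : Matrix (Fin 2) (Fin 2) F) (hC : C ≠ 0) :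
    pmult (Matrix.SpecialLinearGroup (Fin 4) F ⧸ M) (w4f_chi ψ C) = 0 := by
  by_cases hdet : C.det = 0
  · exact w4f_no_rank_one M hidx hψ C hC hdet
  by_contra hne
  exfalso
  have hpos : 1 ≤ pmult (Matrix.SpecialLinearGroup (Fin 4) F ⧸ M) (w4f_chi ψ C) :=
    Nat.one_le_iff_ne_zero.2 hne
  have hq2 : 2 ≤ Fintype.card F := Fintype.one_lt_card
  rcases (show Fintype.card F = 3 ∨ 4 ≤ Fintype.card F by omega) with h3 | h4
  · exact w4f_endgame M hidx hψ h3 C hdet hpos
  · obtain ⟨s, hs0, hs1⟩ := w4f_exists_scalar h4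
    have hda : (!![s, 0; 0, 1] : Matrix (Fin 2) (Fin 2) F).det = s := by
      rw [Matrix.det_fin_two_of]; ring
    have hinv := w4f_pmult_inv M ψ C !![s, 0; 0, 1] !![s, 0; 0, 1] (by rw [hda]; exact hs0) rfl
    have hdet' : (!![s, 0; 0, 1] * C * !![s, 0; 0, 1]).det = s * s * C.det := by
      rw [Matrix.det_mul, Matrix.det_mul, hda]; ring
    apply w4f_no_two_dets M hidx hψ C (!![s, 0; 0, 1] * C * !![s, 0; 0, 1]) hdet
      (by rw [hdet']; exact mul_ne_zero (mul_ne_zero hs0 hs0) hdet)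
      (by
        rw [hdet']
        intro h
        apply hs1
        have h' : 1 * C.det = s * s * C.det := by rw [one_mul]; exact h
        exact (mul_right_cancel₀ hdet h').symm)
      hpos (by rw [hinv]; exact hpos)

end W4Fe

section final
variable {F : Type*} [Field F] [Fintype F] [DecidableEq F]

/-- (W4, `n = 4`) -/
theorem no_transvFree_four (hq : Fintype.card F ≠ 2)
    (M : Subgroup (Matrix.SpecialLinearGroup (Fin 4) F))
    (hidx : M.index = Fintype.card F ^ 3) (hTF : TransvFree M) : False := by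
  obtain ⟨ψ, hψ⟩ := w4f_exists_psi (F := F)
  let _ := w4f_act M
  apply w4f_not_trivial M hTF
  apply w4f_trivial_of_pmult_zero
  intro χ hχ
  obtain ⟨C, rfl⟩ := (w4f_chi_bijective hψ).2 χ
  apply w4f_all_zero M hq hidx hψ
  rintro rfl
  exact hχ (w4f_chi_zero ψ)

end final

end Cfsg.Agent.Lib.Lead.MinIdx
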