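import Mathlib
import Cfsg.Prelude.Def_Characters
import Cfsg.Agent.Lib.Helper8.ClassAlgebra
import Cfsg.Agent.Lib.Helper8.LinearCount
import Cfsg.Agent.Lib.Helper1.CharFound6
import Cfsg.Agent.Lib.Helper1.CharFound7

set_option autoImplicit false

/-! Characters multiplicative on coprime prime power elements: generic character lemmas. -/

namespace Cfsg.Agent.Lib.Helper8.MulChar

open scoped ComplexConjugate
open Cfsg Cfsg.Agent.Lib.Helper1 Cfsg.Agent.Lib.Helper4 Cfsg.Agent.Lib.Helper8

universe u

variable {G : Type u} [Group G] [Fintype G]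

/-- If `χ` is a nonlinear irreducible character with `χ (x * y^g) = χ x * χ y` for all `g`,
then `χ x * χ y = 0`. -/
theorem mul_eq_zero_of_forall_conj {χ : G → ℂ} (hχ : IsIrrCharacter G χ) (h1 : χ 1 ≠ 1)
    (x y : G) (h : ∀ g : G, χ (x * (g * y * g⁻¹)) = χ x * χ y) : χ x * χ y = 0 := by
  have hs := sum_irr_mul_conj hχ x y
  have h0 : χ 1 ≠ 0 := irr_apply_one_ne_zero hχ
  rw [Finset.sum_congr rfl (fun g _ => h g), Finset.sum_const, Finset.card_univ,
    nsmul_eq_mul] at hs
  have hG : (Fintype.card G : ℂ) ≠ 0 := by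
    exact_mod_cast Fintype.card_ne_zero
  have h2 : (Fintype.card G : ℂ) * (χ x * χ y) * (χ 1 - 1) = 0 := by
    field_simp at hs
    linear_combination (Fintype.card G : ℂ) * hs
  rcases mul_eq_zero.mp h2 with h3 | h3
  · rcases mul_eq_zero.mp h3 with h4 | h4
    · exact absurd h4 hG
    · exact h4
  · exact absurd (sub_eq_zero.mp h3) h1

/-- A character vanishing on the nonidentity elements of a subgroup `R` has degree divisible
by `|R|`. -/
theorem card_dvd_degree_of_vanish {χ : G → ℂ} (hχ : IsCharacter G χ) (R : Subgroup G)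
    (hv : ∀ x ∈ R, x ≠ 1 → χ x = 0) : ∃ c : ℕ, χ 1 = (Nat.card R : ℂ) * c := by
  classical
  have hψ : IsCharacter R (fun h : R => χ (R.subtype h)) := isCharacter_comp_hom hχ R.subtype
  have h1 : IsCharacter R (fun _ : R => (1 : ℂ)) := by
    have := isIrrCharacter_of_hom (1 : R →* ℂˣ)
    exact isCharacter_of_irr (by simpa using this)
  obtain ⟨m, hm⟩ := classInner_char_nat hψ h1
  refine ⟨m, ?_⟩
  rw [← hm, classInner_def]
  have hsum : ∑ g : R, (fun h : R => χ (R.subtype h)) g * conj ((fun _ : R => (1 : ℂ)) g)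
      = χ 1 := by
    rw [Finset.sum_eq_single (1 : R)]
    · simp
    · intro b _ hb
      have : χ (b : G) = 0 := hv b b.2 (fun h => hb (Subtype.ext h))
      simp [this]
    · intro h; exact absurd (Finset.mem_univ _) h
  rw [hsum]
  have hR : (Nat.card R : ℂ) ≠ 0 := by
    exact_mod_cast Nat.card_pos.ne'
  field_simp

/-- Splitting a sum over irreducible characters: linear ones contribute `|G : G'|` when the
summand is `1` on them. -/
theorem sum_irr_split [Fintype (IrrCharacter G)] (F : IrrCharacter G → ℂ)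
    (hlin : ∀ χ : IrrCharacter G, (χ : G → ℂ) 1 = 1 → F χ = 1) :
    ∑ χ : IrrCharacter G, F χ = ((commutator G).index : ℂ) +
      ∑ χ ∈ Finset.univ.filter (fun χ : IrrCharacter G => ¬ (χ : G → ℂ) 1 = 1), F χ := by
  classical
  rw [← Finset.sum_filter_add_sum_filter_not Finset.univ
    (fun χ : IrrCharacter G => (χ : G → ℂ) 1 = 1) F]
  congr 1
  rw [Finset.sum_congr rfl (fun χ hχ => hlin χ (Finset.mem_filter.mp hχ).2), Finset.sum_const,
    nsmul_eq_mul, mul_one, ← card_linear_irr, Nat.card_eq_fintype_card, Fintype.card_subtype]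

/-- If all nonlinear irreducible characters vanish at `y ∈ G'`, then `y = 1`. -/
theorem eq_one_of_mem_commutator_of_vanish {y : G} (hy : y ∈ commutator G)
    (hv : ∀ χ : G → ℂ, IsIrrCharacter G χ → χ 1 ≠ 1 → χ y = 0) : y = 1 := by
  classical
  by_contra hne
  have : Fintype (IrrCharacter G) := Fintype.ofFinite _
  have hco := column_orthogonality (G := G) 1 y
  have hci : classIndicator (1 : G) y = 0 := by
    unfold classIndicator
    rw [if_neg]
    intro hc
    exact hne (isConj_one_right.mp hc)
  rw [hci, mul_zero] at hco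
  rw [sum_irr_split (fun χ : IrrCharacter G => (χ : G → ℂ) y * conj ((χ : G → ℂ) 1))] at hco
  · rw [Finset.sum_eq_zero, add_zero] at hco
    · have : (commutator G).index ≠ 0 := Subgroup.index_ne_zero_of_finite
      exact this (by exact_mod_cast hco)
    · intro χ hχ
      rw [hv χ χ.2 (Finset.mem_filter.mp hχ).2, zero_mul]
  · intro χ h1
    rw [linear_irr_commutator χ.2 h1 hy, h1]
    simp

/-- If all nonlinear irreducible characters vanish at `a` and `d ∈ G'`, then `a * d` is
conjugate to `a`. -/
theorem isConj_mul_of_vanish {a d : G} (hd : d ∈ commutator G)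
    (hv : ∀ χ : G → ℂ, IsIrrCharacter G χ → χ 1 ≠ 1 → χ a = 0) : IsConj a (a * d) := by
  classical
  by_contra hne
  have : Fintype (IrrCharacter G) := Fintype.ofFinite _
  have hco := column_orthogonality (G := G) a (a * d)
  have hci : classIndicator a (a * d) = 0 := by
    unfold classIndicator
    rw [if_neg hne]
  rw [hci, mul_zero] at hco
  rw [sum_irr_split (fun χ : IrrCharacter G => (χ : G → ℂ) (a * d) * conj ((χ : G → ℂ) a))] at hco
  · rw [Finset.sum_eq_zero, add_zero] at hco
    · have : (commutator G).index ≠ 0 := Subgroup.index_ne_zero_of_finite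
      exact this (by exact_mod_cast hco)
    · intro χ hχ
      rw [hv χ χ.2 (Finset.mem_filter.mp hχ).2, map_zero, mul_zero]
  · intro χ h1
    rw [linear_irr_mul χ.2 h1, linear_irr_commutator χ.2 h1 hd, mul_one,
      linear_irr_mul_conj χ.2 h1]

/-- If `|C_G(g)| ≤ |G : G'|` then all nonlinear irreducible characters vanish at `g`. -/
theorem vanish_of_card_centralizer_le {g : G}
    (hle : Nat.card (Subgroup.centralizer ({g} : Set G)) ≤ (commutator G).index)
    {χ : G → ℂ} (hχ : IsIrrCharacter G χ) (h1 : χ 1 ≠ 1) : χ g = 0 := by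
  classical
  have : Fintype (IrrCharacter G) := Fintype.ofFinite _
  have hco := column_orthogonality (G := G) g g
  have hci : classIndicator g g = 1 := by
    unfold classIndicator
    rw [if_pos (IsConj.refl g)]
  rw [hci, mul_one] at hco
  rw [sum_irr_split (fun χ : IrrCharacter G => (χ : G → ℂ) g * conj ((χ : G → ℂ) g))] at hco
  swap
  · intro χ h1
    exact linear_irr_mul_conj χ.2 h1 g
  -- take real parts
  have hre : ((commutator G).index : ℝ) +
      ∑ χ ∈ Finset.univ.filter (fun χ : IrrCharacter G => ¬ (χ : G → ℂ) 1 = 1),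
        Complex.normSq ((χ : G → ℂ) g) =
      (Nat.card (Subgroup.centralizer ({g} : Set G)) : ℝ) := by
    have := congrArg Complex.re hco
    simp only [Complex.add_re, Complex.natCast_re, Complex.re_sum] at this
    rw [← this]
    congr 1
    refine Finset.sum_congr rfl fun χ _ => ?_
    rw [Complex.mul_conj]
    simp
  have hle' : (Nat.card (Subgroup.centralizer ({g} : Set G)) : ℝ) ≤ ((commutator G).index : ℝ) := by
    exact_mod_cast hle
  have hnn : ∀ χ ∈ Finset.univ.filter (fun χ : IrrCharacter G => ¬ (χ : G → ℂ) 1 = 1),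
      0 ≤ Complex.normSq ((χ : G → ℂ) g) := fun χ _ => Complex.normSq_nonneg _
  have hsum0 : ∑ χ ∈ Finset.univ.filter (fun χ : IrrCharacter G => ¬ (χ : G → ℂ) 1 = 1),
      Complex.normSq ((χ : G → ℂ) g) = 0 := by
    have h2 := Finset.sum_nonneg hnn
    linarith
  have := (Finset.sum_eq_zero_iff_of_nonneg hnn).mp hsum0 ⟨χ, hχ⟩
    (Finset.mem_filter.mpr ⟨Finset.mem_univ _, h1⟩)
  exact Complex.normSq_eq_zero.mp this

end Cfsg.Agent.Lib.Helper8.MulChar
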