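import Mathlib
import Cfsg.Prelude.Def_Characters
import Cfsg.Agent.Lib.Helper8.MulChar1

set_option autoImplicit false

/-! Characters multiplicative on coprime prime power elements: the character-theoretic core
of the direction "multiplicative ⇒ structure". -/

namespace Cfsg.Agent.Lib.Helper8.MulChar

open scoped ComplexConjugate
open Cfsg Cfsg.Agent.Lib.Helper1 Cfsg.Agent.Lib.Helper4 Cfsg.Agent.Lib.Helper8

universe u

variable {G : Type u} [Group G] [Fintype G]

/-- The multiplicativity hypothesis. -/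
def MulHyp (G : Type u) [Group G] : Prop :=
  ∀ (x y : G) (χ : IrrCharacter G), x ≠ 1 → y ≠ 1 →
    (∃ p q a b : ℕ, p.Prime ∧ q.Prime ∧ p ≠ q ∧ orderOf x = p ^ a ∧ orderOf y = q ^ b) →
    (χ : G → ℂ) (x * y) = (χ : G → ℂ) x * (χ : G → ℂ) y

omit [Fintype G] in
theorem orderOf_conj_aux (g x : G) : orderOf (g * x * g⁻¹) = orderOf x := by
  have := (MulAut.conj g).orderOf_eq x
  rwa [MulAut.conj_apply] at this

/-- Vanishing away from `p`. -/
def VanishAway (χ : G → ℂ) (p : ℕ) : Prop :=
  ∀ r : ℕ, r.Prime → r ≠ p → ∀ x : G, x ≠ 1 → (∃ a : ℕ, orderOf x = r ^ a) → χ x = 0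

theorem exists_vanishAway (hmul : MulHyp G) {χ : G → ℂ} (hχ : IsIrrCharacter G χ)
    (h1 : χ 1 ≠ 1) : ∃ p : ℕ, p.Prime ∧ VanishAway χ p := by
  by_cases h : ∃ (r : ℕ) (x : G), r.Prime ∧ x ≠ 1 ∧ (∃ a : ℕ, orderOf x = r ^ a) ∧ χ x ≠ 0
  · obtain ⟨r0, x0, hr0, hx0, ⟨a0, ha0⟩, hne⟩ := h
    refine ⟨r0, hr0, ?_⟩
    intro r hr hrr x hx ⟨a, ha⟩
    have hcf := isClassFunction_irr hχ
    have key : χ x0 * χ x = 0 := by
      apply mul_eq_zero_of_forall_conj hχ h1
      intro g
      have hgx : g * x * g⁻¹ ≠ 1 := by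
        intro h2
        apply hx
        have : x = g⁻¹ * (g * x * g⁻¹) * g := by group
        rw [this, h2]; group
      have := hmul x0 (g * x * g⁻¹) ⟨χ, hχ⟩ hx0 hgx
        ⟨r0, r, a0, a, hr0, hr, hrr.symm, ha0, by rw [orderOf_conj_aux]; exact ha⟩
      simp only at this
      rw [this, hcf x g]
    rcases mul_eq_zero.mp key with h3 | h3
    · exact absurd h3 hne
    · exact h3
  · refine ⟨2, Nat.prime_two, ?_⟩
    intro r hr _ x hx hax
    by_contra hne
    exact h ⟨r, x, hr, hx, hax, hne⟩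

omit [Fintype G] in
/-- degree as a natural number -/
theorem exists_degree {χ : G → ℂ} (hχ : IsIrrCharacter G χ) : ∃ n : ℕ, 0 < n ∧ χ 1 = n :=
  irr_apply_one_pos hχ

/-- For a nonlinear irreducible character, `n ^ 2 < |G|`. -/
theorem degree_sq_lt {χ : G → ℂ} (hχ : IsIrrCharacter G χ) (h1 : χ 1 ≠ 1) {n : ℕ}
    (hn : χ 1 = n) : n ^ 2 < Fintype.card G := by
  classical
  have : Fintype (IrrCharacter G) := Fintype.ofFinite _
  have hco := column_orthogonality (G := G) 1 1
  have hci : classIndicator (1 : G) 1 = 1 := by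
    unfold classIndicator
    rw [if_pos (IsConj.refl 1)]
  rw [hci, mul_one] at hco
  rw [sum_irr_split (fun χ : IrrCharacter G => (χ : G → ℂ) 1 * conj ((χ : G → ℂ) 1))] at hco
  swap
  · intro χ h1
    rw [h1]; simp
  have hcent : Nat.card (Subgroup.centralizer ({(1 : G)} : Set G)) = Fintype.card G := by
    have : Subgroup.centralizer ({(1 : G)} : Set G) = ⊤ := by
      ext x
      simp [Subgroup.mem_centralizer_iff]
    rw [this, Subgroup.card_top, Nat.card_eq_fintype_card]
  rw [hcent] at hco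
  have hre : ((commutator G).index : ℝ) +
      ∑ χ ∈ Finset.univ.filter (fun χ : IrrCharacter G => ¬ (χ : G → ℂ) 1 = 1),
        Complex.normSq ((χ : G → ℂ) 1) = (Fintype.card G : ℝ) := by
    have := congrArg Complex.re hco
    simp only [Complex.add_re, Complex.natCast_re, Complex.re_sum] at this
    rw [← this]
    congr 1
    refine Finset.sum_congr rfl fun χ _ => ?_
    rw [Complex.mul_conj]
    simp
  have hnn : ∀ χ ∈ Finset.univ.filter (fun χ : IrrCharacter G => ¬ (χ : G → ℂ) 1 = 1),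
      0 ≤ Complex.normSq ((χ : G → ℂ) 1) := fun χ _ => Complex.normSq_nonneg _
  have hmem : (⟨χ, hχ⟩ : IrrCharacter G) ∈
      Finset.univ.filter (fun χ : IrrCharacter G => ¬ (χ : G → ℂ) 1 = 1) :=
    Finset.mem_filter.mpr ⟨Finset.mem_univ _, h1⟩
  have hge := Finset.single_le_sum hnn hmem
  simp only at hge
  rw [hn] at hge
  have hn2 : Complex.normSq (n : ℂ) = (n : ℝ) ^ 2 := by
    rw [Complex.normSq_natCast]; ring
  rw [hn2] at hge
  have hidx : (1 : ℝ) ≤ ((commutator G).index : ℝ) := by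
    have : 0 < (commutator G).index := Nat.pos_of_ne_zero Subgroup.index_ne_zero_of_finite
    exact_mod_cast this
  have : (n : ℝ) ^ 2 < (Fintype.card G : ℝ) := by linarith
  exact_mod_cast this

/-- The `p'`-part of `|G|` divides the degree of a character vanishing away from `p`. -/
theorem ordCompl_dvd_degree {χ : G → ℂ} (hχ : IsIrrCharacter G χ) {p : ℕ}
    (hv : VanishAway χ p) {n : ℕ} (hn0 : 0 < n) (hn : χ 1 = n) :
    (Fintype.card G) / p ^ (Fintype.card G).factorization p ∣ n := by
  classical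
  set N := Fintype.card G with hN
  have hN0 : N ≠ 0 := Fintype.card_ne_zero
  rw [← Nat.factorization_le_iff_dvd (Nat.ordCompl_pos p hN0).ne' hn0.ne']
  rw [Nat.factorization_ordCompl]
  intro r
  by_cases hr : r.Prime
  · by_cases hrp : r = p
    · subst hrp
      simp
    · rw [Finsupp.erase_ne hrp]
      have : Fact r.Prime := ⟨hr⟩
      obtain ⟨R⟩ : Nonempty (Sylow r G) := inferInstance
      have hRv : ∀ x ∈ (R : Subgroup G), x ≠ 1 → χ x = 0 := by
        intro x hx hx1
        obtain ⟨k, hk⟩ := (IsPGroup.iff_orderOf.mp R.isPGroup') ⟨x, hx⟩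
        refine hv r hr hrp x hx1 ⟨k, ?_⟩
        rw [← hk]
        exact (Subgroup.orderOf_mk x hx).symm
      obtain ⟨c, hc⟩ := card_dvd_degree_of_vanish (isCharacter_of_irr hχ) (R : Subgroup G) hRv
      have hdvd : Nat.card (R : Subgroup G) ∣ n := by
        refine ⟨c, ?_⟩
        have : (n : ℂ) = ((Nat.card (R : Subgroup G) * c : ℕ) : ℂ) := by
          rw [← hn, hc]; push_cast; ring
        exact_mod_cast this
      rw [Sylow.card_eq_multiplicity, Nat.card_eq_fintype_card] at hdvd
      exact (hr.pow_dvd_iff_le_factorization hn0.ne').mp hdvd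
  · rw [Finsupp.erase_apply]
    split_ifs
    · exact Nat.zero_le _
    · rw [Nat.factorization_eq_zero_of_not_prime _ hr]
      exact Nat.zero_le _

/-- For a nonlinear character vanishing away from `p`, the `p`-part of `|G|` exceeds the
`p'`-part. -/
theorem ordCompl_lt_ordProj {χ : G → ℂ} (hχ : IsIrrCharacter G χ) (h1 : χ 1 ≠ 1) {p : ℕ}
    (hv : VanishAway χ p) :
    (Fintype.card G) / p ^ (Fintype.card G).factorization p <
      p ^ (Fintype.card G).factorization p := by
  obtain ⟨n, hn0, hn⟩ := exists_degree hχ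
  have hd := ordCompl_dvd_degree hχ hv hn0 hn
  have hlt := degree_sq_lt hχ h1 hn
  set N := Fintype.card G with hN
  have hle : N / p ^ N.factorization p ≤ n := Nat.le_of_dvd hn0 hd
  have hmul : p ^ N.factorization p * (N / p ^ N.factorization p) = N :=
    Nat.ordProj_mul_ordCompl_eq_self N p
  by_contra hcon
  push Not at hcon
  have h2 : N ≤ n ^ 2 := by
    calc N = p ^ N.factorization p * (N / p ^ N.factorization p) := hmul.symm
      _ ≤ (N / p ^ N.factorization p) * (N / p ^ N.factorization p) :=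
          Nat.mul_le_mul_right _ hcon
      _ ≤ n * n := Nat.mul_le_mul hle hle
      _ = n ^ 2 := by ring
  omega


/-- Two nonlinear characters vanish away from a common prime. -/
theorem vanishAway_unique {χ ψ : G → ℂ} (hχ : IsIrrCharacter G χ) (h1 : χ 1 ≠ 1)
    (hψ : IsIrrCharacter G ψ) (h1' : ψ 1 ≠ 1) {p q : ℕ} (hp : p.Prime) (hq : q.Prime)
    (hv : VanishAway χ p) (hw : VanishAway ψ q) : p = q := by
  by_contra hpq
  have h2 := ordCompl_lt_ordProj hχ h1 hv
  have h3 := ordCompl_lt_ordProj hψ h1' hw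
  set N := Fintype.card G with hN
  have hN0 : N ≠ 0 := Fintype.card_ne_zero
  have hcop : Nat.Coprime (p ^ N.factorization p) (q ^ N.factorization q) :=
    Nat.Coprime.pow _ _ ((Nat.coprime_primes hp hq).mpr hpq)
  have hd1 : p ^ N.factorization p ∣ N := Nat.ordProj_dvd N p
  have hd2 : q ^ N.factorization q ∣ N := Nat.ordProj_dvd N q
  have hd := Nat.Coprime.mul_dvd_of_dvd_of_dvd hcop hd1 hd2
  have hpp : 0 < p ^ N.factorization p := pow_pos hp.pos _
  have hqq : 0 < q ^ N.factorization q := pow_pos hq.pos _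
  -- q-part divides p'-part and conversely
  have e1 : q ^ N.factorization q ∣ N / p ^ N.factorization p := by
    apply Nat.dvd_of_mul_dvd_mul_left hpp
    rw [Nat.ordProj_mul_ordCompl_eq_self]
    exact hd
  have e2 : p ^ N.factorization p ∣ N / q ^ N.factorization q := by
    apply Nat.dvd_of_mul_dvd_mul_left hqq
    rw [Nat.ordProj_mul_ordCompl_eq_self, mul_comm]
    exact hd
  have l1 := Nat.le_of_dvd (Nat.ordCompl_pos p hN0) e1
  have l2 := Nat.le_of_dvd (Nat.ordCompl_pos q hN0) e2
  omega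

/-- There is a prime `p` such that all nonlinear irreducible characters vanish on all
nontrivial elements of prime power order for primes other than `p`. -/
theorem exists_prime_vanish (hmul : MulHyp G) :
    ∃ p : ℕ, p.Prime ∧ ∀ χ : G → ℂ, IsIrrCharacter G χ → χ 1 ≠ 1 → VanishAway χ p := by
  by_cases h : ∃ χ : G → ℂ, IsIrrCharacter G χ ∧ χ 1 ≠ 1
  · obtain ⟨χ0, hχ0, h10⟩ := h
    obtain ⟨p, hp, hv⟩ := exists_vanishAway hmul hχ0 h10
    refine ⟨p, hp, ?_⟩
    intro ψ hψ h1
    obtain ⟨q, hq, hw⟩ := exists_vanishAway hmul hψ h1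
    have := vanishAway_unique hχ0 h10 hψ h1 hp hq hv hw
    rw [this]
    exact hw
  · refine ⟨2, Nat.prime_two, ?_⟩
    intro χ hχ h1
    exact absurd ⟨χ, hχ, h1⟩ h

/-- Under the vanishing property the commutator subgroup is a `p`-group. -/
theorem isPGroup_commutator {p : ℕ} (hp : p.Prime)
    (hv : ∀ χ : G → ℂ, IsIrrCharacter G χ → χ 1 ≠ 1 → VanishAway χ p) :
    IsPGroup p (commutator G) := by
  have : Fact p.Prime := ⟨hp⟩
  have hcard : ∀ {d : ℕ}, d.Prime → d ∣ Nat.card (commutator G) → d = p := by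
    intro d hd hdvd
    by_contra hdp
    have : Fact d.Prime := ⟨hd⟩
    obtain ⟨y, hy⟩ := exists_prime_orderOf_dvd_card' d hdvd
    have hyG : ((y : G)) ∈ commutator G := y.2
    have hord : orderOf (y : G) = d := by
      rw [← hy]; exact (Subgroup.orderOf_coe y)
    have hy1 : (y : G) ≠ 1 := by
      intro h
      rw [h, orderOf_one] at hord
      exact hd.one_lt.ne hord
    have := eq_one_of_mem_commutator_of_vanish hyG
      (fun χ hχ h1 => hv χ hχ h1 d hd hdp (y : G) hy1 ⟨1, by rw [hord, pow_one]⟩)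
    exact hy1 this
  have hne : Nat.card (commutator G) ≠ 0 := Nat.card_pos.ne'
  have := Nat.eq_prime_pow_of_unique_prime_dvd hne hcard
  exact IsPGroup.of_card this

end Cfsg.Agent.Lib.Helper8.MulChar
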