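import Mathlib
import Cfsg.Agent.Lib.Lead.FpfCyclic

set_option autoImplicit false

/-! Characters multiplicative on coprime prime power elements: the group-theoretic part of the
direction "multiplicative ⇒ structure". -/

namespace Cfsg.Agent.Lib.Helper8.MulChar

open scoped commutatorElement

variable {G : Type*} [Group G] [Finite G]

/-- fixed-point-freeness from the conjugacy property -/
theorem fpf_of_conj {p : ℕ} (hp : p.Prime) (hD : IsPGroup p (commutator G))
    (hconj : ∀ r : ℕ, r.Prime → r ≠ p → ∀ a : G, orderOf a = r → ∀ d ∈ commutator G,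
      IsConj a (a * d))
    {a : G} (ha1 : a ≠ 1) (hcop : (orderOf a).Coprime p) {d : G} (hd : d ∈ commutator G)
    (hcomm : a * d = d * a) : d = 1 := by
  have : Fact p.Prime := ⟨hp⟩
  have ho1 : orderOf a ≠ 1 := fun h => ha1 (orderOf_eq_one_iff.mp h)
  obtain ⟨r, hr, hra⟩ := Nat.exists_prime_and_dvd ho1
  have hrp : r ≠ p := by
    rintro rfl
    have := Nat.Coprime.eq_one_of_dvd hcop.symm hra
    exact hr.one_lt.ne' this
  set a' := a ^ (orderOf a / r) with ha'
  have hoa' : orderOf a' = r := orderOf_pow_orderOf_div (orderOf_pos a).ne' hra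
  have hc' : Commute a' d := (Commute.pow_left (show Commute a d from hcomm) _)
  have hcj := hconj r hr hrp a' hoa' d hd
  have hoeq : orderOf (a' * d) = r := by
    obtain ⟨g, hg⟩ := isConj_iff.mp hcj
    rw [← hg]
    have := (MulAut.conj g).orderOf_eq a'
    rw [MulAut.conj_apply] at this
    rw [this, hoa']
  obtain ⟨k, hk⟩ := (IsPGroup.iff_orderOf.mp hD) ⟨d, hd⟩
  have hod : orderOf d = p ^ k := by
    rw [← hk]; exact (Subgroup.orderOf_mk d hd).symm
  have hcop2 : (orderOf a').Coprime (orderOf d) := by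
    rw [hoa', hod]
    exact Nat.Coprime.pow_right _ ((Nat.coprime_primes hr hp).mpr hrp)
  have := hc'.orderOf_mul_eq_mul_orderOf_of_coprime hcop2
  rw [hoeq, hoa'] at this
  have hod1 : orderOf d = 1 := by
    have hr0 : 0 < r := hr.pos
    have : r * 1 = r * orderOf d := by rw [mul_one]; exact this
    exact (Nat.eq_of_mul_eq_mul_left hr0 this).symm
  exact orderOf_eq_one_iff.mp hod1

/-- the map `d ↦ d⁻¹ * (a * d * a⁻¹)` is onto `G'` when `a` acts without fixed points -/
theorem exists_comm_eq {a : G}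
    (hfpf : ∀ d ∈ commutator G, a * d = d * a → d = 1) {w : G} (hw : w ∈ commutator G) :
    ∃ d ∈ commutator G, d⁻¹ * (a * d * a⁻¹) = w := by
  classical
  have hnorm : (commutator G).Normal := inferInstance
  let f : commutator G → commutator G := fun d =>
    ⟨(d : G)⁻¹ * (a * d * a⁻¹), (commutator G).mul_mem ((commutator G).inv_mem d.2)
      (hnorm.conj_mem d d.2 a)⟩
  have hinj : Function.Injective f := by
    intro d d' h
    have h1 : (d : G)⁻¹ * (a * d * a⁻¹) = (d' : G)⁻¹ * (a * d' * a⁻¹) := congrArg Subtype.val h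
    have h2 : a * ((d' : G) * (d : G)⁻¹) = ((d' : G) * (d : G)⁻¹) * a := by
      have h3 : (d : G)⁻¹ * a * d = (d' : G)⁻¹ * a * d' := by
        have := congrArg (fun z => z * a) h1
        simpa [mul_assoc] using this
      calc a * ((d' : G) * (d : G)⁻¹) = d' * ((d' : G)⁻¹ * a * d') * (d : G)⁻¹ := by group
        _ = d' * ((d : G)⁻¹ * a * d) * (d : G)⁻¹ := by rw [h3]
        _ = ((d' : G) * (d : G)⁻¹) * a := by group
    have h4 := hfpf _ ((commutator G).mul_mem d'.2 ((commutator G).inv_mem d.2)) h2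
    apply Subtype.ext
    have : (d' : G) = d := by
      have := mul_inv_eq_one.mp h4
      exact this
    exact this.symm
  have hsurj : Function.Surjective f := Finite.injective_iff_surjective.mp hinj
  obtain ⟨d, hd⟩ := hsurj ⟨w, hw⟩
  exact ⟨d, d.2, congrArg Subtype.val hd⟩


/-- The structure theorem from the conjugacy property. -/
theorem structure_of_conj {p : ℕ} (hp : p.Prime) (hD : IsPGroup p (commutator G))
    (hconj : ∀ r : ℕ, r.Prime → r ≠ p → ∀ a : G, orderOf a = r → ∀ d ∈ commutator G,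
      IsConj a (a * d))
    (hnp : ¬ IsPGroup p G) (hna : ¬ IsMulCommutative G) :
    ∃ (_ : Fact p.Prime) (P : Sylow p G) (A : Subgroup G),
      (P : Subgroup G).Normal ∧ IsCyclic ↥A ∧ A ≠ ⊥ ∧ (Nat.card ↥A).Coprime p ∧
      A ⊔ (P : Subgroup G) = ⊤ ∧
      IsMulCommutative ↥((P : Subgroup G) ⊓ Subgroup.centralizer (A : Set G)) ∧
      (⁅A, (P : Subgroup G)⁆).Normal ∧
      ((P : Subgroup G) ⊓ Subgroup.centralizer (A : Set G)) ⊔ ⁅A, (P : Subgroup G)⁆
        = (P : Subgroup G) ∧
      ((P : Subgroup G) ⊓ Subgroup.centralizer (A : Set G)) ⊓ ⁅A, (P : Subgroup G)⁆ = ⊥ ∧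
      ∀ a ∈ A, a ≠ 1 → ∀ d ∈ ⁅A, (P : Subgroup G)⁆, a * d = d * a → d = 1 := by
  classical
  have hF : Fact p.Prime := ⟨hp⟩
  obtain ⟨P, hDP⟩ := hD.exists_le_sylow
  have hcomm_mem : ∀ g x : G, ⁅g, x⁆ ∈ commutator G := fun g x => by
    rw [commutator_def]
    exact Subgroup.commutator_mem_commutator (Subgroup.mem_top g) (Subgroup.mem_top x)
  have hPn : (P : Subgroup G).Normal := by
    constructor
    intro x hx g
    have : g * x * g⁻¹ = ⁅g, x⁆ * x := by
      rw [commutatorElement_def]; group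
    rw [this]
    exact (P : Subgroup G).mul_mem (hDP (hcomm_mem g x)) hx
  obtain ⟨A, hPA⟩ := Subgroup.exists_right_complement'_of_coprime (N := (P : Subgroup G))
    P.card_coprime_index
  have hsup : A ⊔ (P : Subgroup G) = ⊤ := by rw [sup_comm]; exact hPA.sup_eq_top
  have hdisj : (P : Subgroup G) ⊓ A = ⊥ := hPA.disjoint.eq_bot
  have hAcard : Nat.card A = (P : Subgroup G).index := (hPA.symm.index_eq_card).symm
  have hAcop : (Nat.card ↥A).Coprime p := by
    rw [hAcard]
    exact ((Nat.Prime.coprime_iff_not_dvd hp).mpr P.not_dvd_index).symm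
  -- A is commutative
  have hAcomm : ∀ a ∈ A, ∀ b ∈ A, a * b = b * a := by
    intro a ha b hb
    have h1 : ⁅a, b⁆ ∈ (P : Subgroup G) ⊓ A :=
      ⟨hDP (hcomm_mem a b), by
        rw [commutatorElement_def]
        exact A.mul_mem (A.mul_mem (A.mul_mem ha hb) (A.inv_mem ha)) (A.inv_mem hb)⟩
    rw [hdisj, Subgroup.mem_bot] at h1
    exact commutatorElement_eq_one_iff_mul_comm.mp h1
  have hAmc : IsMulCommutative ↥A :=
    ⟨⟨fun a b => Subtype.ext (hAcomm a a.2 b b.2)⟩⟩
  -- A is nontrivial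
  have hAne : A ≠ ⊥ := by
    intro hA
    apply hnp
    rw [hA, bot_sup_eq] at hsup
    have hPp := P.isPGroup'
    rw [hsup] at hPp
    exact hPp.of_equiv Subgroup.topEquiv
  -- fpf
  have hfpf : ∀ a ∈ A, a ≠ 1 → ∀ d ∈ commutator G, a * d = d * a → d = 1 := by
    intro a ha ha1 d hd hc
    have hoa : (orderOf a).Coprime p :=
      Nat.Coprime.coprime_dvd_left (Subgroup.orderOf_dvd_natCard A ha) hAcop
    exact fpf_of_conj hp hD hconj ha1 hoa hd hc
  -- G' ≠ ⊥
  have hDne : commutator G ≠ ⊥ := by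
    intro h
    apply hna
    refine ⟨⟨fun a b => ?_⟩⟩
    have := hcomm_mem a b
    rw [h, Subgroup.mem_bot] at this
    exact commutatorElement_eq_one_iff_mul_comm.mp this
  -- A cyclic
  have hAcyc : IsCyclic ↥A := by
    apply Cfsg.Agent.Lib.Lead.isCyclic_of_fpf_abelian A (commutator G) hDne
    · rw [Subgroup.normalizer_eq_top]; exact le_top
    · intro a ha ha1
      rw [eq_bot_iff]
      rintro d ⟨hd1, hd2⟩
      rw [Subgroup.mem_bot]
      have hd3 := Subgroup.mem_centralizer_iff.mp hd2 a (Set.mem_singleton a)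
      exact hfpf a ha ha1 d hd1 hd3
    · exact hAmc
  -- generator
  obtain ⟨a0, ha0⟩ := hAcyc.exists_generator
  have ha01 : (a0 : G) ≠ 1 := by
    intro h
    apply hAne
    rw [eq_bot_iff]
    intro x hx
    have := ha0 ⟨x, hx⟩
    have ha0' : a0 = 1 := Subtype.ext h
    rw [ha0', Subgroup.zpowers_one_eq_bot, Subgroup.mem_bot] at this
    rw [Subgroup.mem_bot]
    exact congrArg Subtype.val this
  have hfpf0 := hfpf a0 a0.2 ha01
  -- D = ⁅A, P⁆ = G'
  have hDeq : ⁅A, (P : Subgroup G)⁆ = commutator G := by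
    apply le_antisymm
    · rw [commutator_def]
      exact Subgroup.commutator_mono le_top le_top
    · intro w hw
      obtain ⟨d, hd, hdw⟩ := exists_comm_eq hfpf0 hw
      rw [← hdw, Subgroup.commutator_comm]
      have : (d⁻¹ * ((a0 : G) * d * (a0 : G)⁻¹)) = ⁅d⁻¹, (a0 : G)⁆ := by
        rw [commutatorElement_def]; group
      rw [this]
      exact Subgroup.commutator_mem_commutator ((P : Subgroup G).inv_mem (hDP hd)) a0.2
  have hcentA : ∀ c : G, c * (a0 : G) = (a0 : G) * c → c ∈ Subgroup.centralizer (A : Set G) := by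
    intro c hc
    rw [Subgroup.mem_centralizer_iff]
    intro x hx
    obtain ⟨k, hk⟩ := Subgroup.mem_zpowers_iff.mp (ha0 ⟨x, hx⟩)
    have hx' : x = (a0 : G) ^ k := by
      have := congrArg Subtype.val hk
      simpa using this.symm
    rw [hx']
    exact ((show Commute c (a0 : G) from hc).zpow_right k).symm.eq
  refine ⟨hF, P, A, hPn, hAcyc, hAne, hAcop, hsup, ?_, ?_, ?_, ?_, ?_⟩
  · -- C commutative
    refine ⟨⟨fun x y => Subtype.ext ?_⟩⟩
    have hx := x.2
    have hy := y.2
    have hxc := Subgroup.mem_centralizer_iff.mp hx.2 (a0 : G) a0.2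
    have hyc := Subgroup.mem_centralizer_iff.mp hy.2 (a0 : G) a0.2
    have hcx : Commute (a0 : G) (x : G) := hxc
    have hcy : Commute (a0 : G) (y : G) := hyc
    have h1 : ⁅(x : G), (y : G)⁆ ∈ commutator G := hcomm_mem _ _
    have h2 : (a0 : G) * ⁅(x : G), (y : G)⁆ = ⁅(x : G), (y : G)⁆ * (a0 : G) := by
      rw [commutatorElement_def]
      exact (((hcx.mul_right hcy).mul_right hcx.inv_right).mul_right hcy.inv_right).eq
    have h3 := hfpf0 _ h1 h2
    exact commutatorElement_eq_one_iff_mul_comm.mp h3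
  · rw [hDeq]; infer_instance
  · rw [hDeq]
    apply le_antisymm
    · exact sup_le inf_le_left hDP
    · intro u hu
      have hw : ⁅u⁻¹, (a0 : G)⁆ ∈ commutator G := hcomm_mem _ _
      obtain ⟨d, hd, hdw⟩ := exists_comm_eq hfpf0 hw
      have hc : (u * d⁻¹) * (a0 : G) = (a0 : G) * (u * d⁻¹) := by
        have h3 : d⁻¹ * (a0 : G) * d = u⁻¹ * (a0 : G) * u := by
          have := congrArg (fun z => z * (a0 : G)) hdw
          simp only [commutatorElement_def] at this
          simpa [mul_assoc] using this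
        calc (u * d⁻¹) * (a0 : G) = u * (d⁻¹ * (a0 : G) * d) * d⁻¹ := by group
          _ = u * (u⁻¹ * (a0 : G) * u) * d⁻¹ := by rw [h3]
          _ = (a0 : G) * (u * d⁻¹) := by group
      have hmem : u * d⁻¹ ∈ (P : Subgroup G) ⊓ Subgroup.centralizer (A : Set G) :=
        ⟨(P : Subgroup G).mul_mem hu ((P : Subgroup G).inv_mem (hDP hd)), hcentA _ hc⟩
      have : u = (u * d⁻¹) * d := by group
      rw [this]
      exact Subgroup.mul_mem_sup hmem hd
  · rw [hDeq, eq_bot_iff]
    rintro x ⟨⟨_, hx2⟩, hx3⟩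
    rw [Subgroup.mem_bot]
    have hxc := Subgroup.mem_centralizer_iff.mp hx2 (a0 : G) a0.2
    exact hfpf0 x hx3 hxc
  · rw [hDeq]
    exact hfpf

end Cfsg.Agent.Lib.Helper8.MulChar
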