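import Mathlib
import Cfsg.Prelude.Def_Characters
import Cfsg.Agent.Lib.Helper8.MulChar2
import Cfsg.Agent.Lib.Helper8.MulChar3

set_option autoImplicit false

/-! Characters multiplicative on coprime prime power elements: the direction
"structure ⇒ multiplicative". -/

namespace Cfsg.Agent.Lib.Helper8.MulChar

open scoped commutatorElement
open scoped ComplexConjugate
open Cfsg Cfsg.Agent.Lib.Helper1 Cfsg.Agent.Lib.Helper4 Cfsg.Agent.Lib.Helper8

universe u

section group

variable {G : Type u} [Group G] [Finite G]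

/-- the map `d ↦ d⁻¹ * (a * d * a⁻¹)` is onto a normal subgroup `N` when `a` acts on it
without fixed points -/
theorem exists_comm_eq' (N : Subgroup G) [hnorm : N.Normal] {a : G}
    (hfpf : ∀ d ∈ N, a * d = d * a → d = 1) {w : G} (hw : w ∈ N) :
    ∃ d ∈ N, d⁻¹ * (a * d * a⁻¹) = w := by
  classical
  let f : N → N := fun d =>
    ⟨(d : G)⁻¹ * (a * d * a⁻¹), N.mul_mem (N.inv_mem d.2) (hnorm.conj_mem d d.2 a)⟩
  have hinj : Function.Injective f := by
    intro d d' h
    have h1 : (d : G)⁻¹ * (a * d * a⁻¹) = (d' : G)⁻¹ * (a * d' * a⁻¹) := congrArg Subtype.val h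
    have h2 : a * ((d' : G) * (d : G)⁻¹) = ((d' : G) * (d : G)⁻¹) * a := by
      have h3 : (d : G)⁻¹ * a * d = (d' : G)⁻¹ * a * d' := by
        have := congrArg (fun z => z * a) h1
        simpa [mul_assoc] using this
      calc a * ((d' : G) * (d : G)⁻¹) = d' * ((d' : G)⁻¹ * a * d') * (d : G)⁻¹ := by group
        _ = d' * ((d : G)⁻¹ * a * d) * (d : G)⁻¹ := by rw [h3]
        _ = ((d' : G) * (d : G)⁻¹) * a := by group
    have h4 := hfpf _ (N.mul_mem d'.2 (N.inv_mem d.2)) h2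
    apply Subtype.ext
    have : (d' : G) = d := mul_inv_eq_one.mp h4
    exact this.symm
  have hsurj : Function.Surjective f := Finite.injective_iff_surjective.mp hinj
  obtain ⟨d, hd⟩ := hsurj ⟨w, hw⟩
  exact ⟨d, d.2, congrArg Subtype.val hd⟩

/-- The group-theoretic data of the third alternative. -/
structure Data (p : ℕ) (P A : Subgroup G) : Prop where
  hp : p.Prime
  hPp : IsPGroup p P
  hPn : P.Normal
  hAc : ∀ a ∈ A, ∀ b ∈ A, a * b = b * a
  hcop : (Nat.card ↥A).Coprime p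
  hsup : A ⊔ P = ⊤
  hCc : ∀ x ∈ P ⊓ Subgroup.centralizer (A : Set G), ∀ y ∈ P ⊓ Subgroup.centralizer (A : Set G),
    x * y = y * x
  hDn : (⁅A, P⁆).Normal
  hCD : (P ⊓ Subgroup.centralizer (A : Set G)) ⊔ ⁅A, P⁆ = P
  hfpf : ∀ a ∈ A, a ≠ 1 → ∀ d ∈ ⁅A, P⁆, a * d = d * a → d = 1

variable {p : ℕ} {P A : Subgroup G}

omit [Finite G] in
theorem Data.exists_decomp (h : Data p P A) (g : G) :
    ∃ a ∈ A, ∃ c ∈ P ⊓ Subgroup.centralizer (A : Set G), ∃ d ∈ ⁅A, P⁆, g = a * c * d := by
  have hPn := h.hPn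
  have hDn := h.hDn
  have hg : g ∈ A ⊔ P := by rw [h.hsup]; exact Subgroup.mem_top g
  have hg' : g ∈ ((A ⊔ P : Subgroup G) : Set G) := hg
  rw [Subgroup.mul_normal] at hg'
  obtain ⟨a, ha, u, hu, rfl⟩ := Set.mem_mul.mp hg'
  have hu' : u ∈ (((P ⊓ Subgroup.centralizer (A : Set G)) ⊔ ⁅A, P⁆ : Subgroup G) : Set G) := by
    rw [h.hCD]; exact hu
  rw [Subgroup.mul_normal] at hu'
  obtain ⟨c, hc, d, hd, rfl⟩ := Set.mem_mul.mp hu'
  exact ⟨a, ha, c, hc, d, hd, by group⟩

omit [Finite G] in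
theorem Data.commutator_eq (h : Data p P A) : commutator G = ⁅A, P⁆ := by
  have hDn := h.hDn
  apply le_antisymm
  · rw [commutator_def, Subgroup.commutator_le]
    intro g _ g' _
    obtain ⟨a, ha, c, hc, d, hd, rfl⟩ := h.exists_decomp g
    obtain ⟨a', ha', c', hc', d', hd', rfl⟩ := h.exists_decomp g'
    -- work in the quotient
    rw [← QuotientGroup.eq_one_iff, commutatorElement_def]
    have e1 : ((d : G) : G ⧸ ⁅A, P⁆) = 1 := (QuotientGroup.eq_one_iff d).mpr hd
    have e2 : ((d' : G) : G ⧸ ⁅A, P⁆) = 1 := (QuotientGroup.eq_one_iff d').mpr hd'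
    have hac' : a * c' = c' * a := (Subgroup.mem_centralizer_iff.mp hc'.2 a ha)
    have ha'c : a' * c = c * a' := (Subgroup.mem_centralizer_iff.mp hc.2 a' ha')
    have hac : a * c = c * a := (Subgroup.mem_centralizer_iff.mp hc.2 a ha)
    have ha'c' : a' * c' = c' * a' := (Subgroup.mem_centralizer_iff.mp hc'.2 a' ha')
    have haa' : a * a' = a' * a := h.hAc a ha a' ha'
    have hcc' : c * c' = c' * c := h.hCc c hc c' hc'
    have key : (a * c) * (a' * c') = (a' * c') * (a * c) := by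
      calc (a * c) * (a' * c') = a * (c * a') * c' := by group
        _ = a * (a' * c) * c' := by rw [ha'c]
        _ = (a * a') * (c * c') := by group
        _ = (a' * a) * (c' * c) := by rw [haa', hcc']
        _ = a' * (a * c') * c := by group
        _ = a' * (c' * a) * c := by rw [hac']
        _ = (a' * c') * (a * c) := by group
    simp only [QuotientGroup.mk_mul, QuotientGroup.mk_inv, e1, e2, mul_one]
    have key' := congrArg (fun z : G => (z : G ⧸ ⁅A, P⁆)) key
    simp only [QuotientGroup.mk_mul] at key'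
    rw [key']
    group
  · rw [commutator_def]
    exact Subgroup.commutator_mono le_top le_top

/-- elements outside `P` have trivial centralizer in `D` -/
theorem Data.fpf_of_not_mem (h : Data p P A) {g : G} (hg : g ∉ P) {x : G} (hx : x ∈ ⁅A, P⁆)
    (hc : g * x = x * g) : x = 1 := by
  have hPn := h.hPn
  have hDn := h.hDn
  have : Fact p.Prime := ⟨h.hp⟩
  obtain ⟨a, ha, c, hc', d, hd, rfl⟩ := h.exists_decomp g
  have hDP : ⁅A, P⁆ ≤ P := by
    rw [Subgroup.commutator_comm]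
    exact Subgroup.commutator_le_left P A
  have ha1 : a ≠ 1 := by
    rintro rfl
    apply hg
    rw [one_mul]
    exact P.mul_mem hc'.1 (hDP hd)
  -- a' = a ^ (p ^ k) where p ^ k = orderOf c
  obtain ⟨k, hk⟩ := (IsPGroup.iff_orderOf.mp h.hPp) ⟨c, hc'.1⟩
  have hoc : orderOf c = p ^ k := by
    rw [← hk]; exact (Subgroup.orderOf_mk c hc'.1).symm
  have hac : Commute a c := (Subgroup.mem_centralizer_iff.mp hc'.2 a ha)
  have hpow : (a * c) ^ (p ^ k) = a ^ (p ^ k) := by
    rw [hac.mul_pow, ← hoc, pow_orderOf_eq_one, mul_one]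
  have ha'1 : a ^ (p ^ k) ≠ 1 := by
    intro h1
    have h2 : orderOf a ∣ p ^ k := orderOf_dvd_of_pow_eq_one h1
    have h3 : (orderOf a).Coprime (p ^ k) :=
      Nat.Coprime.pow_right _
        (Nat.Coprime.coprime_dvd_left (Subgroup.orderOf_dvd_natCard A ha) h.hcop)
    have := Nat.Coprime.eq_one_of_dvd h3 h2
    exact ha1 (orderOf_eq_one_iff.mp this)
  -- fixed-point-freeness of `a * c` on `D`
  have hfpf' : ∀ y ∈ ⁅A, P⁆, (a * c) * y = y * (a * c) → y = 1 := by
    intro y hy hcy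
    have h1 : Commute (a * c) y := hcy
    have h2 : Commute (a ^ (p ^ k)) y := by
      rw [← hpow]; exact h1.pow_left _
    exact h.hfpf _ (A.pow_mem ha _) ha'1 y hy h2.eq
  -- `a * c * d` is conjugate to `a * c` under `D`
  have hw : (a * c) * d * (a * c)⁻¹ ∈ ⁅A, P⁆ := hDn.conj_mem d hd _
  obtain ⟨d', hd', hdw⟩ := exists_comm_eq' ⁅A, P⁆ hfpf' hw
  have hconj : a * c * d = d'⁻¹ * (a * c) * d' := by
    calc a * c * d = ((a * c) * d * (a * c)⁻¹) * (a * c) := by group
      _ = (d'⁻¹ * ((a * c) * d' * (a * c)⁻¹)) * (a * c) := by rw [hdw]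
      _ = d'⁻¹ * (a * c) * d' := by group
  -- transport
  have hy : d' * x * d'⁻¹ ∈ ⁅A, P⁆ := hDn.conj_mem x hx d'
  have hcy : (a * c) * (d' * x * d'⁻¹) = (d' * x * d'⁻¹) * (a * c) := by
    have h1 : d'⁻¹ * (a * c) * d' * x = x * (d'⁻¹ * (a * c) * d') := by
      rw [← hconj]; exact hc
    calc (a * c) * (d' * x * d'⁻¹) = d' * (d'⁻¹ * (a * c) * d' * x) * d'⁻¹ := by group
      _ = d' * (x * (d'⁻¹ * (a * c) * d')) * d'⁻¹ := by rw [h1]
      _ = (d' * x * d'⁻¹) * (a * c) := by group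
  have := hfpf' _ hy hcy
  have h2 : x = d'⁻¹ * (d' * x * d'⁻¹) * d' := by group
  rw [h2, this]; group

/-- centralizers of elements outside `P` are small -/
theorem Data.card_centralizer_le (h : Data p P A) {g : G} (hg : g ∉ P) :
    Nat.card (Subgroup.centralizer ({g} : Set G)) ≤ (commutator G).index := by
  have hDn := h.hDn
  rw [h.commutator_eq]
  let φ : Subgroup.centralizer ({g} : Set G) →* G ⧸ ⁅A, P⁆ :=
    (QuotientGroup.mk' ⁅A, P⁆).comp (Subgroup.centralizer ({g} : Set G)).subtype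
  have hinj : Function.Injective φ := by
    rw [injective_iff_map_eq_one]
    intro x hx
    have hx' : ((x : G) : G ⧸ ⁅A, P⁆) = 1 := hx
    rw [QuotientGroup.eq_one_iff] at hx'
    have hcx := Subgroup.mem_centralizer_iff.mp x.2 g (Set.mem_singleton g)
    exact Subtype.ext (h.fpf_of_not_mem hg hx' hcx)
  have := Nat.card_le_card_of_injective φ hinj
  rwa [Subgroup.index_eq_card]

end group

section char

variable {G : Type u} [Group G] [Fintype G] {p : ℕ} {P A : Subgroup G}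

theorem Data.vanish (h : Data p P A) {g : G} (hg : g ∉ P) {χ : G → ℂ}
    (hχ : IsIrrCharacter G χ) (h1 : χ 1 ≠ 1) : χ g = 0 :=
  vanish_of_card_centralizer_le (h.card_centralizer_le hg) hχ h1

theorem Data.mulHyp (h : Data p P A) : MulHyp G := by
  intro x y χ hx hy ⟨p1, q1, a, b, hp1, hq1, hpq, hox, hoy⟩
  have hPn := h.hPn
  have hp := h.hp
  have : Fact p.Prime := ⟨hp⟩
  by_cases h1 : (χ : G → ℂ) 1 = 1
  · exact linear_irr_mul χ.2 h1 x y
  · -- not both in P
    have hprime : ∀ {z : G} {r c : ℕ}, r.Prime → z ≠ 1 → z ∈ P → orderOf z = r ^ c → r = p := by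
      intro z r c hr hz hzP hoz
      obtain ⟨k, hk⟩ := (IsPGroup.iff_orderOf.mp h.hPp) ⟨z, hzP⟩
      have hoz' : orderOf z = p ^ k := by
        rw [← hk]; exact (Subgroup.orderOf_mk z hzP).symm
      have hk0 : k ≠ 0 := by
        rintro rfl
        rw [pow_zero] at hoz'
        exact hz (orderOf_eq_one_iff.mp hoz')
      have hdvd : p ∣ r ^ c := by
        rw [← hoz, hoz']
        exact dvd_pow_self p hk0
      exact ((Nat.prime_dvd_prime_iff_eq hp hr).mp (hp.dvd_of_dvd_pow hdvd)).symm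
    have hnotboth : ¬ (x ∈ P ∧ y ∈ P) := by
      rintro ⟨hxP, hyP⟩
      exact hpq ((hprime hp1 hx hxP hox).trans (hprime hq1 hy hyP hoy).symm)
    have hxy : x * y ∉ P := by
      intro hxyP
      have e : ((x : G) : G ⧸ P) * ((y : G) : G ⧸ P) = 1 := by
        rw [← QuotientGroup.mk_mul]; exact (QuotientGroup.eq_one_iff _).mpr hxyP
      have e' : ((x : G) : G ⧸ P) = ((y : G) : G ⧸ P)⁻¹ := eq_inv_of_mul_eq_one_left e
      have d1 : orderOf ((x : G) : G ⧸ P) ∣ p1 ^ a := by
        rw [← hox]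
        apply orderOf_dvd_of_pow_eq_one
        rw [← QuotientGroup.mk_pow, pow_orderOf_eq_one]; rfl
      have d2 : orderOf ((x : G) : G ⧸ P) ∣ q1 ^ b := by
        rw [e', orderOf_inv, ← hoy]
        apply orderOf_dvd_of_pow_eq_one
        rw [← QuotientGroup.mk_pow, pow_orderOf_eq_one]; rfl
      have hcop : (p1 ^ a).Coprime (q1 ^ b) :=
        Nat.Coprime.pow _ _ ((Nat.coprime_primes hp1 hq1).mpr hpq)
      have ho1 : orderOf ((x : G) : G ⧸ P) = 1 :=
        Nat.eq_one_of_dvd_coprimes hcop d1 d2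
      have hx1 : ((x : G) : G ⧸ P) = 1 := orderOf_eq_one_iff.mp ho1
      have hxP : x ∈ P := (QuotientGroup.eq_one_iff x).mp hx1
      have hy1 : ((y : G) : G ⧸ P) = 1 := by
        rw [hx1, one_mul] at e; exact e
      exact hnotboth ⟨hxP, (QuotientGroup.eq_one_iff y).mp hy1⟩
    rw [h.vanish hxy χ.2 h1]
    by_cases hxP : x ∈ P
    · have hyP : y ∉ P := fun hyP => hnotboth ⟨hxP, hyP⟩
      rw [h.vanish hyP χ.2 h1, mul_zero]
    · rw [h.vanish hxP χ.2 h1, zero_mul]

end char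

end Cfsg.Agent.Lib.Helper8.MulChar
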