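import Mathlib
import Cfsg.Prelude.Def_Blocks
import Cfsg.Prelude.Def_BrauerPairs
import Cfsg.Prelude.Def_BlockRank
import Cfsg.Agent.S4688
import Cfsg.Agent.Lib.Helper8.VK13
import Cfsg.Agent.Lib.Helper8.BlockInducedDefect
import Cfsg.Agent.Lib.Helper8.PairFull

set_option autoImplicit false
set_option linter.unusedSectionVars false

namespace Cfsg.Agent.Lib.Helper8.NA

open Cfsg
open scoped ComplexConjugate
open Cfsg.Agent.Lib.Helper1 Cfsg.Agent.Lib.Helper4 Cfsg.Agent.Lib.Helper8

universe u

/-- The induction hypothesis: nilpotent blocks with abelian defect groups of groups of order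
less than `n` have rank one. -/
def RankOneBelow (p : ℕ) (M : Ideal AlgInt) (n : ℕ) : Prop :=
  ∀ (H : Type u) [Group H] [Finite H], Nat.card H < n →
    ∀ b : Set (IrrCharacter H), IsNilpotentBlock p M b →
      ∀ D : Subgroup H, IsDefectGroup p M b D → (∀ x ∈ D, ∀ y ∈ D, x * y = y * x) →
        blockRank p b = 1

section

variable {G : Type u} [Group G] [Fintype G] {M : Ideal AlgInt} {p : ℕ} [Fact p.Prime]

/-- A proper centralizer is smaller. -/
theorem card_centralizer_zpowers_lt {x : G} (hx : x ∉ Subgroup.center G) :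
    Nat.card (Subgroup.centralizer ((Subgroup.zpowers x : Subgroup G) : Set G)) < Nat.card G := by
  apply lt_of_le_of_ne (Subgroup.card_le_card_group _)
  intro h
  have htop := (Subgroup.card_eq_iff_eq_top _).1 h
  apply hx
  rw [Subgroup.mem_center_iff]
  intro g
  have hg : g ∈ Subgroup.centralizer ((Subgroup.zpowers x : Subgroup G) : Set G) := by
    rw [htop]; exact Subgroup.mem_top g
  exact ((VK.mem_centralizer_zpowers_iff x g).1 hg)

/-- **Non-central subsections of a nilpotent block with abelian defect group have rank one**,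
under the induction hypothesis. -/
theorem rank_one_of_noncentral (hM : IsPModular p M) (hIH : RankOneBelow.{u} p M (Nat.card G))
    {B : Set (IrrCharacter G)} (hnil : IsNilpotentBlock p M B) {P : Subgroup G}
    (hPD : IsDefectGroup p M B P) (hab : ∀ x ∈ P, ∀ y ∈ P, x * y = y * x)
    {c : Set (IrrCharacter (Subgroup.centralizer (P : Set G)))}
    (hmax : IsMaximalBrauerPair p M B P c) {x : G} (hx : ∃ k : ℕ, orderOf x = p ^ k)
    (hxc : x ∉ Subgroup.center G)
    {f : Set (IrrCharacter (Subgroup.centralizer ((Subgroup.zpowers x : Subgroup G) : Set G)))}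
    (hf : IsInducedBlock M (Subgroup.centralizer ((Subgroup.zpowers x : Subgroup G) : Set G)) f B) :
    blockRank p f = 1 := by
  classical
  have hMp := isPModular_isPrime hM
  have hB : IsPBlock M B := hnil.1
  have hpair := VK.pair_of_induced_zpowers hM hx hf
  have hfnil := (Cfsg.Agent.S4688.result p M hM B P c hmax hnil _ f hpair).1
  obtain ⟨D, hD⟩ := exists_isDefectGroup (p := p) hMp hf.1
  obtain ⟨E, hE, hDE⟩ := exists_defectGroup_ge_of_induced hM _ hf hD
  obtain ⟨g, hg⟩ := exists_conj_eq_of_isDefectGroup hM hB hE hPD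
  refine hIH _ (card_centralizer_zpowers_lt hxc) f hfnil D hD ?_
  intro a ha b hb
  have ha' : (a : G) ∈ E := hDE ⟨a, ha, rfl⟩
  have hb' : (b : G) ∈ E := hDE ⟨b, hb, rfl⟩
  rw [← hg] at ha' hb'
  obtain ⟨a₀, ha₀, ha₀e⟩ := ha'
  obtain ⟨b₀, hb₀, hb₀e⟩ := hb'
  apply Subtype.ext
  rw [Subgroup.coe_mul, Subgroup.coe_mul, ← ha₀e, ← hb₀e, ← map_mul, ← map_mul, hab a₀ ha₀ b₀ hb₀]

end

end Cfsg.Agent.Lib.Helper8.NA
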