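import Mathlib
import Cfsg.Prelude.Def_Blocks
import Cfsg.Prelude.Def_BrauerPairs
import Cfsg.Prelude.Def_BlockRank
import Cfsg.Agent.Lib.Helper8.NA1
import Cfsg.Agent.Lib.Helper8.MJ19

set_option autoImplicit false
set_option linter.unusedSectionVars false

namespace Cfsg.Agent.Lib.Helper8.NA

open Cfsg
open scoped ComplexConjugate
open Cfsg.Agent.Lib.Helper1 Cfsg.Agent.Lib.Helper4 Cfsg.Agent.Lib.Helper8

universe u

section

variable {G : Type u} [Group G] [Fintype G] {M : Ideal AlgInt} {p : ℕ} [Fact p.Prime]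

theorem exists_orderOf_of_mem_pGroup {P : Subgroup G} (hP : IsPGroup p P) {u : G} (hu : u ∈ P) :
    ∃ k : ℕ, orderOf u = p ^ k := by
  obtain ⟨k, hk⟩ := (IsPGroup.iff_orderOf.1 hP) ⟨u, hu⟩
  exact ⟨k, by rw [← hk, Subgroup.orderOf_mk]⟩

/-- **The upper bound**: a non-central element of the defect group gives a major subsection of
rank one, hence `k(B) ≤ |P|`. -/
theorem card_le_of_noncentral (hM : IsPModular p M) (hIH : RankOneBelow.{u} p M (Nat.card G))
    {B : Set (IrrCharacter G)} (hnil : IsNilpotentBlock p M B) {P : Subgroup G}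
    (hPD : IsDefectGroup p M B P) (hab : ∀ x ∈ P, ∀ y ∈ P, x * y = y * x)
    {c : Set (IrrCharacter (Subgroup.centralizer (P : Set G)))}
    (hmax : IsMaximalBrauerPair p M B P c) {u : G} (hu : u ∈ P)
    (huc : u ∉ Subgroup.center G) : Nat.card B ≤ Nat.card P := by
  classical
  have hp : p.Prime := Fact.out
  have hMp := isPModular_isPrime hM
  have hB : IsPBlock M B := hnil.1
  have hPp : IsPGroup p P := hmax.1.1.1
  obtain ⟨j, hj⟩ := exists_orderOf_of_mem_pGroup hPp hu
  have hu1 : u ≠ 1 := by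
    intro h
    apply huc
    rw [h]
    exact Subgroup.one_mem _
  have hj0 : j ≠ 0 := by
    intro h
    rw [h, pow_zero, orderOf_eq_one_iff] at hj
    exact hu1 hj
  obtain ⟨b₀, hle, hb₀⟩ := VK.exists_subpair_zpowers hM hmax hu
  have hind := VK.induced_of_pair_zpowers hM hb₀
  have hl : blockRank p b₀ = 1 :=
    rank_one_of_noncentral hM hIH hnil hPD hab hmax ⟨j, hj⟩ huc hind
  have hdg := (Cfsg.Agent.S4688.result p M hM B P c hmax hnil _ b₀ hb₀).2 hle
  have hPC : P ≤ Subgroup.centralizer ((Subgroup.zpowers u : Subgroup G) : Set G) := by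
    intro y hy
    rw [VK.mem_centralizer_zpowers_iff]
    exact hab y hy u hu
  have hcard : Nat.card ((P ⊓ Subgroup.centralizer ((Subgroup.zpowers u : Subgroup G) : Set G)).subgroupOf
      (Subgroup.centralizer ((Subgroup.zpowers u : Subgroup G) : Set G))) = Nat.card P := by
    rw [Nat.card_congr (Subgroup.subgroupOfEquivOfLe (inf_le_right)).toEquiv, inf_eq_left.2 hPC]
  have hdef : blockDefect p b₀ = blockDefect p B := by
    have h1 := card_of_isDefectGroup hM hb₀.1.2 hdg
    have h2 := card_of_isDefectGroup hM hB hPD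
    rw [hcard, h2] at h1
    exact (Nat.pow_right_injective hp.two_le h1).symm
  have : Fintype (Subgroup.centralizer ((Subgroup.zpowers u : Subgroup G) : Set G)) :=
    Fintype.ofFinite _
  have hqp : p ^ (j - 1) * p = p ^ j := by
    rw [← pow_succ, Nat.sub_add_cancel (Nat.one_le_iff_ne_zero.2 hj0)]
  have ctx : MJ.MajorCtx p M (Subgroup.centralizer ((Subgroup.zpowers u : Subgroup G) : Set G))
      u b₀ B (p ^ (j - 1)) :=
    { hM := hM
      hC := fun t => VK.mem_centralizer_zpowers_iff u t
      hq := pow_pos hp.pos _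
      hz := by rw [hqp, ← hj, pow_orderOf_eq_one]
      hP := ⟨j, hqp⟩
      hu := ⟨j, hj⟩
      hind := hind
      hdef := hdef }
  have h := ctx.card_le (by rw [hl]; norm_num)
  rw [hdef, ← card_of_isDefectGroup hM hB hPD] at h
  exact h

end

end Cfsg.Agent.Lib.Helper8.NA
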