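import Mathlib
import Cfsg.Prelude.Def_Blocks
import Cfsg.Prelude.Def_BrauerPairs
import Cfsg.Prelude.Def_BlockRank
import Cfsg.Agent.Lib.Helper8.VK13
import Cfsg.Agent.Lib.Helper8.Sub13
import Cfsg.Agent.Lib.Helper8.VK10

set_option autoImplicit false
set_option linter.unusedSectionVars false

namespace Cfsg.Agent.Lib.Helper8.NA

open Cfsg
open scoped ComplexConjugate
open Cfsg.Agent.Lib.Helper1 Cfsg.Agent.Lib.Helper4 Cfsg.Agent.Lib.Helper8

universe u

section

variable {G : Type u} [Group G] [Fintype G] {M : Ideal AlgInt} {p : ℕ} [Fact p.Prime]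

/-- A block of the whole group inducing `B` has the rank of `B`. -/
theorem blockRank_of_induced_top (hM : M.IsPrime) {B : Set (IrrCharacter G)} (hB : IsPBlock M B)
    (H : Subgroup G) (hH : H = ⊤) {f : Set (IrrCharacter H)} (hf : IsInducedBlock M H f B) :
    blockRank p f = blockRank p B := by
  subst hH
  rw [(VK.isInducedBlock_top_iff hM hB f).1 hf, blockRank_image_irrMap]

/-- The subsection with element in the set of representatives attached to an element of `P`
(the identity allowed). -/
theorem exists_subsection_of_mem' (hM : IsPModular p M) {B : Set (IrrCharacter G)}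
    {P : Subgroup G} {c : Set (IrrCharacter (Subgroup.centralizer (P : Set G)))}
    (hmax : IsMaximalBrauerPair p M B P c) (X : Finset G)
    (hXrep : ∀ g : G, (∃ k : ℕ, orderOf g = p ^ k) → ∃! x, x ∈ X ∧ IsConj g x)
    {y : G} (hyP : y ∈ P) (hyo : ∃ k : ℕ, orderOf y = p ^ k) :
    ∃ (x g : G)
      (f : Set (IrrCharacter (Subgroup.centralizer ((Subgroup.zpowers y : Subgroup G) : Set G))))
      (f' : Set (IrrCharacter (Subgroup.centralizer ((Subgroup.zpowers x : Subgroup G) : Set G)))),
      x ∈ X ∧ g * y * g⁻¹ = x ∧ SubpairLE p M (Subgroup.zpowers y) f P c ∧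
      pairConj g ⟨Subgroup.zpowers y, f⟩ = ⟨Subgroup.zpowers x, f'⟩ ∧
      IsInducedBlock M (Subgroup.centralizer ((Subgroup.zpowers x : Subgroup G) : Set G)) f' B := by
  obtain ⟨f, hle, hf⟩ := VK.exists_subpair_zpowers hM hmax hyP
  obtain ⟨x, ⟨hxX, hyx⟩, -⟩ := hXrep y hyo
  obtain ⟨g, hg⟩ := isConj_iff.1 hyx
  have hfst : (pairConj g ⟨Subgroup.zpowers y, f⟩).1 = Subgroup.zpowers x := by
    show (Subgroup.zpowers y).map (MulAut.conj g).toMonoidHom = Subgroup.zpowers x
    rw [VK.map_conj_zpowers, hg]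
  obtain ⟨f', hf'⟩ := eq_mk_of_fst_eq (pairConj g ⟨Subgroup.zpowers y, f⟩) hfst
  have h1 : IsBrauerPairOf p M B (pairConj g ⟨Subgroup.zpowers y, f⟩).1
      (pairConj g ⟨Subgroup.zpowers y, f⟩).2 := isBrauerPairOf_conj g hf
  rw [hf'] at h1
  exact ⟨x, g, f, f', hxX, hg, hle, hf', VK.induced_of_pair_zpowers hM h1⟩

/-- The type of all subsections of `B` with element in the set `X` of representatives. -/
abbrev Sec (M : Ideal AlgInt) (B : Set (IrrCharacter G)) (X : Finset G) : Type u :=
  Σ x : {x : G // x ∈ X},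
    ↥{f : Set (IrrCharacter (Subgroup.centralizer ((Subgroup.zpowers (x : G) : Subgroup G) : Set G))) |
      IsInducedBlock M (Subgroup.centralizer ((Subgroup.zpowers (x : G) : Subgroup G) : Set G)) f B}

instance (B : Set (IrrCharacter G)) (X : Finset G) : Finite (Sec M B X) := by
  unfold Sec
  have : ∀ x : {x : G // x ∈ X}, Finite ↥{f : Set (IrrCharacter
      (Subgroup.centralizer ((Subgroup.zpowers (x : G) : Subgroup G) : Set G))) |
      IsInducedBlock M (Subgroup.centralizer ((Subgroup.zpowers (x : G) : Subgroup G) : Set G)) f B} :=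
    fun x => ((finite_setOf_isPBlock (M := M)).subset (fun b hb => hb.1)).to_subtype
  infer_instance

/-- **The subsection formula** as a sum over the type of subsections. -/
theorem card_eq_finsum_sec (hM : IsPModular p M) {B : Set (IrrCharacter G)}
    (hB : IsPBlock M B) (X : Finset G) (hX : ∀ x ∈ X, ∃ k : ℕ, orderOf x = p ^ k)
    (hXrep : ∀ g : G, (∃ k : ℕ, orderOf g = p ^ k) → ∃! x, x ∈ X ∧ IsConj g x) :
    Nat.card B = ∑ᶠ σ : Sec M B X, blockRank p σ.2.1 := by
  classical
  have hkey := card_block_eq_sum_blockRank hM hB X hX hXrep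
  have hcent : ∀ x : G, Subgroup.centralizer ({x} : Set G) =
      Subgroup.centralizer ((Subgroup.zpowers x : Subgroup G) : Set G) := by
    intro x
    rw [Subgroup.zpowers_eq_closure, Subgroup.centralizer_closure]
  have : ∀ x : {x : G // x ∈ X}, Fintype ↥{f : Set (IrrCharacter
      (Subgroup.centralizer ((Subgroup.zpowers (x : G) : Subgroup G) : Set G))) |
      IsInducedBlock M (Subgroup.centralizer ((Subgroup.zpowers (x : G) : Subgroup G) : Set G)) f B} :=
    fun x => Fintype.ofFinite _
  rw [hkey, finsum_eq_sum_of_fintype, Fintype.sum_sigma]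
  rw [← Finset.sum_coe_sort X]
  refine Finset.sum_congr rfl fun x _ => ?_
  rw [VK.finsum_induced_congr _ _ (hcent (x : G)), ← finsum_set_coe_eq_finsum_mem,
    finsum_eq_sum_of_fintype]

end

end Cfsg.Agent.Lib.Helper8.NA
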