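import Mathlib
import Cfsg.Prelude.Def_Blocks
import Cfsg.Prelude.Def_BrauerPairs
import Cfsg.Prelude.Def_BlockRank
import Cfsg.Agent.Lib.Helper8.NA3
import Cfsg.Agent.Lib.Helper8.KR8

set_option autoImplicit false
set_option linter.unusedSectionVars false

namespace Cfsg.Agent.Lib.Helper8.NA

open Cfsg
open scoped ComplexConjugate
open Cfsg.Agent.Lib.Helper1 Cfsg.Agent.Lib.Helper4 Cfsg.Agent.Lib.Helper8

universe u

section

variable {G : Type u} [Group G] [Fintype G] {M : Ideal AlgInt} {p : ℕ} [Fact p.Prime]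

/-- **The lower bound**: with abelian defect group and trivial inertial quotient, the elements of
`P` give pairwise non-conjugate subsections; the central ones have the rank of `B`, the others
have rank one by hypothesis. -/
theorem exists_le_card (hM : IsPModular p M) {B : Set (IrrCharacter G)}
    {P : Subgroup G} {c : Set (IrrCharacter (Subgroup.centralizer (P : Set G)))}
    (hmax : IsMaximalBrauerPair p M B P c) (hab : ∀ x ∈ P, ∀ y ∈ P, x * y = y * x)
    (hT1 : ∀ t : G, t ∈ Subgroup.normalizer (P : Set G) →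
      StabilizesBlock (Subgroup.centralizer (P : Set G)) c t →
        t ∈ Subgroup.centralizer (P : Set G))
    (hrank : ∀ x : G, (∃ k : ℕ, orderOf x = p ^ k) → x ∉ Subgroup.center G →
      ∀ f : Set (IrrCharacter (Subgroup.centralizer ((Subgroup.zpowers x : Subgroup G) : Set G))),
        IsInducedBlock M (Subgroup.centralizer ((Subgroup.zpowers x : Subgroup G) : Set G)) f B →
          blockRank p f = 1) :
    ∃ z : ℕ, 1 ≤ z ∧ z ≤ Nat.card P ∧
      z * blockRank p B + (Nat.card P - z) ≤ Nat.card B := by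
  classical
  have hMp := isPModular_isPrime hM
  have hB : IsPBlock M B := hmax.1.2.1
  have hPp : IsPGroup p P := hmax.1.1.1
  obtain ⟨X, hX, hXrep⟩ := KR.exists_pReps (G := G) p
  have hord : ∀ y : G, y ∈ P → ∃ k : ℕ, orderOf y = p ^ k := by
    intro y hy
    obtain ⟨k, hk⟩ := (IsPGroup.iff_orderOf.1 hPp) ⟨y, hy⟩
    exact ⟨k, by rw [← hk, Subgroup.orderOf_mk]⟩
  have hex : ∀ y : P, ∃ (x g : G)
      (f : Set (IrrCharacter (Subgroup.centralizer
        ((Subgroup.zpowers (y : G) : Subgroup G) : Set G))))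
      (f' : Set (IrrCharacter (Subgroup.centralizer ((Subgroup.zpowers x : Subgroup G) : Set G)))),
      x ∈ X ∧ g * (y : G) * g⁻¹ = x ∧ SubpairLE p M (Subgroup.zpowers (y : G)) f P c ∧
      pairConj g ⟨Subgroup.zpowers (y : G), f⟩ = ⟨Subgroup.zpowers x, f'⟩ ∧
      IsInducedBlock M (Subgroup.centralizer ((Subgroup.zpowers x : Subgroup G) : Set G)) f' B :=
    fun y => exists_subsection_of_mem' hM hmax X hXrep y.2 (hord y y.2)
  choose x g f f' hxX hg hle hf' hind using hex
  set j : P → Sec M B X := fun y => ⟨⟨x y, hxX y⟩, ⟨f' y, hind y⟩⟩ with hj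
  have hjinj : Function.Injective j := by
    intro y y' h
    have h2 : x y = x y' := by
      have := congrArg (fun σ : Sec M B X => (σ.1 : G)) h
      exact this
    have h1 : (⟨Subgroup.zpowers (x y), f' y⟩ : BrauerPairIdx G) =
        ⟨Subgroup.zpowers (x y'), f' y'⟩ := by
      have := congrArg (fun σ : Sec M B X =>
        (⟨Subgroup.zpowers (σ.1 : G), σ.2.1⟩ : BrauerPairIdx G)) h
      exact this
    have h3 : pairConj (g y) ⟨Subgroup.zpowers (y : G), f y⟩ =
        pairConj (g y') ⟨Subgroup.zpowers (y' : G), f y'⟩ := by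
      rw [hf' y, hf' y']
      exact h1
    obtain ⟨t, htN, htst, ht⟩ :=
      VK.exists_stab_of_pairConj_eq hM hmax hab y.2 (hle y) (hle y') h3
    have htC := hT1 t htN htst
    have h4 : t * (y : G) * t⁻¹ = y := by
      have := Subgroup.mem_centralizer_iff.1 htC y y.2
      rw [← this]
      group
    rw [h4] at ht
    have h5 : (g y')⁻¹ * g y * (y : G) * ((g y')⁻¹ * g y)⁻¹ = y' := by
      have e1 : (g y')⁻¹ * g y * (y : G) * ((g y')⁻¹ * g y)⁻¹ =
          (g y')⁻¹ * (g y * (y : G) * (g y)⁻¹) * g y' := by group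
      rw [e1, hg y, h2, ← hg y']
      group
    apply Subtype.ext
    rw [ht, h5]
  -- the ranks
  have hrk : ∀ y : P, blockRank p (j y).2.1 =
      if (y : G) ∈ Subgroup.center G then blockRank p B else 1 := by
    intro y
    show blockRank p (f' y) = _
    by_cases hy : (y : G) ∈ Subgroup.center G
    · rw [if_pos hy]
      have hxy : x y = y := by
        rw [← hg y, Subgroup.mem_center_iff.1 hy (g y), mul_inv_cancel_right]
      have hxc : x y ∈ Subgroup.center G := by rw [hxy]; exact hy
      refine blockRank_of_induced_top hMp hB _ ?_ (hind y)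
      rw [eq_top_iff]
      intro a _
      rw [VK.mem_centralizer_zpowers_iff]
      exact (Subgroup.mem_center_iff.1 hxc a)
    · rw [if_neg hy]
      refine hrank (x y) (hX _ (hxX y)) ?_ _ (hind y)
      intro hxc
      apply hy
      have : (y : G) = (g y)⁻¹ * (x y) * (g y) := by rw [← hg y]; group
      rw [this]
      have h := (inferInstance : (Subgroup.center G).Normal).conj_mem _ hxc (g y)⁻¹
      rwa [inv_inv] at h
  have : Fintype (Sec M B X) := Fintype.ofFinite _
  have : Fintype P := Fintype.ofFinite _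
  have hsum : ∑ y : P, blockRank p (j y).2.1 ≤ ∑ σ : Sec M B X, blockRank p σ.2.1 := by
    rw [← Finset.sum_image (f := fun σ : Sec M B X => blockRank p σ.2.1)
      (s := Finset.univ) (g := j) (fun a _ b _ h => hjinj h)]
    exact Finset.sum_le_sum_of_subset (Finset.subset_univ _)
  have hcard := card_eq_finsum_sec hM hB X hX hXrep
  rw [finsum_eq_sum_of_fintype] at hcard
  rw [← hcard] at hsum
  refine ⟨(Finset.univ.filter (fun y : P => (y : G) ∈ Subgroup.center G)).card, ?_, ?_, ?_⟩
  · rw [Nat.succ_le_iff, Finset.card_pos]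
    exact ⟨1, Finset.mem_filter.2 ⟨Finset.mem_univ _, Subgroup.one_mem _⟩⟩
  · rw [Nat.card_eq_fintype_card]
    exact Finset.card_filter_le _ _
  · refine le_trans (le_of_eq ?_) hsum
    simp_rw [hrk]
    rw [Finset.sum_ite, Finset.sum_const, Finset.sum_const, smul_eq_mul, smul_eq_mul, mul_one]
    congr 1
    rw [Nat.card_eq_fintype_card, ← Finset.card_univ,
      ← Finset.card_filter_add_card_filter_not (s := (Finset.univ : Finset P))
        (fun y : P => (y : G) ∈ Subgroup.center G), Nat.add_sub_cancel_left]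

end

end Cfsg.Agent.Lib.Helper8.NA
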