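import Mathlib
import Cfsg.Prelude.Def_Blocks
import Cfsg.Prelude.Def_BrauerPairs
import Cfsg.Prelude.Def_BlockRank
import Cfsg.Agent.Lib.Helper8.NA2
import Cfsg.Agent.Lib.Helper8.NA4
import Cfsg.Agent.Lib.Helper8.PC8
import Cfsg.Agent.Lib.Helper8.DC1
import Cfsg.Agent.Lib.Helper8.VK14
import Cfsg.Agent.S4687

set_option autoImplicit false
set_option linter.unusedSectionVars false

namespace Cfsg.Agent.Lib.Helper8.NA

open Cfsg
open scoped ComplexConjugate
open Cfsg.Agent.Lib.Helper1 Cfsg.Agent.Lib.Helper4 Cfsg.Agent.Lib.Helper8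

universe u

section

variable {G : Type u} [Group G] [Fintype G] {M : Ideal AlgInt} {p : ℕ} [Fact p.Prime]

/-- The induction step. -/
theorem rank_one_step (hM : IsPModular p M) (hIH : RankOneBelow.{u} p M (Nat.card G))
    {B : Set (IrrCharacter G)} (hnil : IsNilpotentBlock p M B) {P : Subgroup G}
    (hPD : IsDefectGroup p M B P) (hab : ∀ x ∈ P, ∀ y ∈ P, x * y = y * x) :
    blockRank p B = 1 := by
  classical
  have hMp := isPModular_isPrime hM
  have hB : IsPBlock M B := hnil.1
  obtain ⟨c, hmax⟩ := exists_isMaximalBrauerPair_defectGroup hM hB hPD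
  have hPp : IsPGroup p P := hmax.1.1.1
  have hT1 := (Cfsg.Agent.S4687.result p M hM B P c hmax hab).1 hnil
  by_cases hcen : ∀ u ∈ P, u ∈ Subgroup.center G
  · have hC : Subgroup.centralizer (P : Set G) = ⊤ := by
      rw [Subgroup.centralizer_eq_top_iff_subset]
      exact fun u hu => hcen u hu
    have hG : P ⊔ Subgroup.centralizer (P : Set G) = ⊤ := by
      rw [hC, sup_top_eq]
    exact blockRank_eq_one_of_sup_centralizer hM hPp hG hB hPD
  · push Not at hcen
    obtain ⟨u, hu, huc⟩ := hcen
    have hup := card_le_of_noncentral hM hIH hnil hPD hab hmax hu huc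
    obtain ⟨z, hz1, hzP, hlow⟩ := exists_le_card hM hmax hab hT1
      (fun x hx hxc f hf => rank_one_of_noncentral hM hIH hnil hPD hab hmax hx hxc hf)
    obtain ⟨χ₀, hχ₀⟩ := isPBlock_nonempty hMp hB
    have h1 : 1 ≤ blockRank p B := VK.one_le_blockRank hχ₀
    apply le_antisymm _ h1
    by_contra hcon
    push Not at hcon
    have h2 : 2 * z ≤ z * blockRank p B := by
      rw [mul_comm 2 z]
      exact Nat.mul_le_mul_left z hcon
    omega

end

/-- **Nilpotent blocks with abelian defect groups have a single irreducible Brauer character**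
(`p`-regular rank one). -/
theorem rankOneBelow_all {M : Ideal AlgInt} {p : ℕ} [Fact p.Prime] (hM : IsPModular p M) :
    ∀ n : ℕ, RankOneBelow.{u} p M n := by
  intro n
  induction n using Nat.strong_induction_on with
  | _ n ih =>
    intro H _ _ hcard b hnil D hD hab
    have : Fintype H := Fintype.ofFinite H
    exact rank_one_step hM (ih _ hcard) hnil hD hab

theorem blockRank_eq_one_of_nilpotent_abelian {G : Type u} [Group G] [Finite G]
    {M : Ideal AlgInt} {p : ℕ} [Fact p.Prime] (hM : IsPModular p M)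
    {B : Set (IrrCharacter G)} (hnil : IsNilpotentBlock p M B) {P : Subgroup G}
    (hPD : IsDefectGroup p M B P) (hab : ∀ x ∈ P, ∀ y ∈ P, x * y = y * x) :
    blockRank p B = 1 :=
  rankOneBelow_all hM (Nat.card G + 1) G (Nat.lt_succ_self _) B hnil P hPD hab

end Cfsg.Agent.Lib.Helper8.NA
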