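import Mathlib
import Cfsg.Prelude.Def_Blocks
import Cfsg.Prelude.Def_BrauerPairs
import Cfsg.Prelude.Def_BlockRank
import Cfsg.Agent.Lib.Helper8.HK2
import Cfsg.Agent.Lib.Helper8.REL8
import Cfsg.Agent.Lib.Helper8.AF3
import Cfsg.Agent.Lib.Helper8.VK11

set_option autoImplicit false
set_option linter.unusedSectionVars false

namespace Cfsg.Agent.Lib.Helper8.NA

open Cfsg
open scoped ComplexConjugate
open Cfsg.Agent.Lib.Helper1 Cfsg.Agent.Lib.Helper4 Cfsg.Agent.Lib.Helper8

universe u

section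

variable {G : Type u} [Group G] [Fintype G]

/-- The normalizer of a cyclic subgroup normalizes all its subgroups. -/
theorem normalizer_cyclic_le {P Q : Subgroup G} (hcyc : IsCyclic P) (hQP : Q ≤ P) :
    Subgroup.normalizer (P : Set G) ≤ Subgroup.normalizer (Q : Set G) := by
  intro g hg
  obtain ⟨x₀, hx₀⟩ := IsCyclic.exists_generator (α := P)
  have hgx : g * (x₀ : G) * g⁻¹ ∈ P := (Subgroup.mem_normalizer_iff.1 hg (x₀ : G)).1 x₀.2
  obtain ⟨m, hm⟩ := Subgroup.mem_zpowers_iff.1 (hx₀ ⟨_, hgx⟩)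
  have hm' : (x₀ : G) ^ m = g * (x₀ : G) * g⁻¹ := by
    have := congrArg (fun y : P => (y : G)) hm
    simpa using this
  have hpow : ∀ y ∈ P, g * y * g⁻¹ = y ^ m := by
    intro y hy
    obtain ⟨k, hk⟩ := Subgroup.mem_zpowers_iff.1 (hx₀ ⟨y, hy⟩)
    have hk' : (x₀ : G) ^ k = y := by
      have := congrArg (fun y : P => (y : G)) hk
      simpa using this
    rw [← hk', ← conj_zpow, ← hm', ← zpow_mul, ← zpow_mul, mul_comm]
  rw [Subgroup.mem_normalizer_iff_map_conj_eq]
  apply Subgroup.eq_of_le_of_card_ge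
  · rintro _ ⟨q, hq, rfl⟩
    show g * q * g⁻¹ ∈ Q
    rw [hpow q (hQP hq)]
    exact Subgroup.zpow_mem _ hq m
  · rw [Subgroup.card_map_of_injective (MulAut.conj g).injective]

variable {M : Ideal AlgInt}

/-- Relative induction has a unique target. -/
theorem isInducedBlockIn_unique (hM : M.IsPrime) (H K : Subgroup G) (hKH : K ≤ H)
    {e : Set (IrrCharacter K)} {f₁ f₂ : Set (IrrCharacter H)}
    (h₁ : IsInducedBlockIn M H K e f₁) (h₂ : IsInducedBlockIn M H K e f₂) : f₁ = f₂ := by
  classical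
  have : Fintype H := Fintype.ofFinite _
  exact isInducedBlock_unique hM _ ((isInducedBlockIn_iff H K hKH e f₁).1 h₁)
    ((isInducedBlockIn_iff H K hKH e f₂).1 h₂)

/-- An element stabilizing a block stabilizes the block it induces in a larger normalized
subgroup. -/
theorem stabilizesBlock_of_inducedIn (hM : M.IsPrime) (H K : Subgroup G) (hKH : K ≤ H)
    {e : Set (IrrCharacter K)} {f : Set (IrrCharacter H)} (hf : IsInducedBlockIn M H K e f)
    {g : G} (hgH : g ∈ Subgroup.normalizer (H : Set G)) (hst : StabilizesBlock K e g) :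
    StabilizesBlock H f g := by
  obtain ⟨hgK, himg⟩ := (stabilizesBlock_iff_image K e g).1 hst
  have h1 := isInducedBlockIn_conj H K g hgK hgH hf
  rw [himg] at h1
  exact (stabilizesBlock_iff_image H f g).2
    ⟨hgH, isInducedBlockIn_unique hM H K hKH h1 hf⟩

end

section

variable {G : Type u} [Group G] [Fintype G] {M : Ideal AlgInt} {p : ℕ} [Fact p.Prime]

/-- For an abelian `P` and `Q ≤ P`, the block of `C_G(Q)` induced by `c` gives a pair below
`(P, c)`. -/
theorem subpairLE_of_inducedIn (hM : IsPModular p M) {P Q : Subgroup G}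
    {c : Set (IrrCharacter (Subgroup.centralizer (P : Set G)))} (hPc : IsBrauerPair p M P c)
    (hab : ∀ x ∈ P, ∀ y ∈ P, x * y = y * x) (hQP : Q ≤ P)
    {f : Set (IrrCharacter (Subgroup.centralizer (Q : Set G)))}
    (hf : IsInducedBlockIn M (Subgroup.centralizer (Q : Set G))
      (Subgroup.centralizer (P : Set G)) c f) : SubpairLE p M Q f P c := by
  have hKX : Subgroup.centralizer (P : Set G) ≤ Subgroup.centralizer (Q : Set G) :=
    Subgroup.centralizer_le (by exact_mod_cast hQP)
  have hPX : P ≤ Subgroup.centralizer (Q : Set G) := by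
    intro u hu
    rw [Subgroup.mem_centralizer_iff]
    intro q hq
    exact hab q (hQP hq) u hu
  apply Relation.ReflTransGen.single
  refine ⟨⟨hPc.1.to_le hQP, hf.2.1⟩, hPc, hQP,
    hPX.trans (Subgroup.centralizer_le_normalizer _), ?_, ?_⟩
  · intro x hx
    exact stabilizesBlock_of_mem _ f (hPX hx)
  · intro ξ hξ
    exact AF.brauerOmega_of_inducedIn hM P _ hKX hf hξ

/-- **The stabilizer of the pair `(Q, f)`** for `Q` a subgroup of a cyclic defect group. -/
theorem pairStab_eq_sup (hM : IsPModular p M) {B : Set (IrrCharacter G)} {P : Subgroup G}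
    {c : Set (IrrCharacter (Subgroup.centralizer (P : Set G)))}
    (hmax : IsMaximalBrauerPair p M B P c) (hcyc : IsCyclic P)
    (hab : ∀ x ∈ P, ∀ y ∈ P, x * y = y * x)
    (T : Subgroup G) (hT : ∀ g : G, g ∈ T ↔ (g ∈ Subgroup.normalizer (P : Set G) ∧
      StabilizesBlock (Subgroup.centralizer (P : Set G)) c g))
    {Q : Subgroup G} (hQP : Q ≤ P)
    {f : Set (IrrCharacter (Subgroup.centralizer (Q : Set G)))}
    (hf : IsInducedBlockIn M (Subgroup.centralizer (Q : Set G))
      (Subgroup.centralizer (P : Set G)) c f)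
    (T' : Subgroup G) (hT' : ∀ g : G, g ∈ T' ↔ (g ∈ Subgroup.normalizer (Q : Set G) ∧
      StabilizesBlock (Subgroup.centralizer (Q : Set G)) f g)) :
    T' = T ⊔ Subgroup.centralizer (Q : Set G) := by
  classical
  have hMp := isPModular_isPrime hM
  have hKX : Subgroup.centralizer (P : Set G) ≤ Subgroup.centralizer (Q : Set G) :=
    Subgroup.centralizer_le (by exact_mod_cast hQP)
  have hle := subpairLE_of_inducedIn hM hmax.1.1 hab hQP hf
  apply le_antisymm
  · intro g hg
    obtain ⟨hgN, hgst⟩ := (hT' g).1 hg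
    have hfix := VK.pairConj_eq_self_of_stab Q f hgN hgst
    have hleg : SubpairLE p M (Q.map (MulAut.conj g).toMonoidHom) (conjBlock Q g f) P c := by
      show Relation.ReflTransGen (NormalSubpairRel p M) (pairConj g ⟨Q, f⟩) ⟨P, c⟩
      rw [hfix]
      exact hle
    obtain ⟨t, htN, htst, c₀, hc₀, hgt⟩ := VK.abelian_fusion_factor hM hmax hab hQP hle hleg
    rw [hgt]
    exact Subgroup.mul_mem _ (Subgroup.mem_sup_left ((hT t).2 ⟨htN, htst⟩))
      (Subgroup.mem_sup_right hc₀)
  · apply sup_le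
    · intro g hg
      obtain ⟨hgN, hgst⟩ := (hT g).1 hg
      have hgQ : g ∈ Subgroup.normalizer (Q : Set G) := normalizer_cyclic_le hcyc hQP hgN
      refine (hT' g).2 ⟨hgQ, ?_⟩
      exact stabilizesBlock_of_inducedIn hMp _ _ hKX hf
        (normalizer_le_normalizer_centralizer Q hgQ) hgst
    · intro g hg
      exact (hT' g).2 ⟨Subgroup.centralizer_le_normalizer _ hg, stabilizesBlock_of_mem _ f hg⟩

end

end Cfsg.Agent.Lib.Helper8.NA
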