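import Mathlib
import Cfsg.Prelude.Def_Blocks
import Cfsg.Prelude.Def_BrauerPairs
import Cfsg.Prelude.Def_BlockRank
import Cfsg.Agent.Lib.Helper8.NA5
import Cfsg.Agent.Lib.Helper8.NA6

set_option autoImplicit false
set_option linter.unusedSectionVars false

namespace Cfsg.Agent.Lib.Helper8.NA

open Cfsg
open scoped ComplexConjugate
open Cfsg.Agent.Lib.Helper1 Cfsg.Agent.Lib.Helper4 Cfsg.Agent.Lib.Helper8

universe u

section

variable {G : Type u} [Group G]

/-- The index of a normalized subgroup in the product. -/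
theorem relIndex_sup_of_le_normalizer {H K : Subgroup G}
    (h : H ≤ Subgroup.normalizer (K : Set G)) : K.relIndex (H ⊔ K) = K.relIndex H := by
  have hN : H ⊔ K ≤ Subgroup.normalizer (K : Set G) := sup_le h Subgroup.le_normalizer
  have : (K.subgroupOf (H ⊔ K)).Normal := Subgroup.normal_subgroupOf_of_le_normalizer hN
  rw [← Subgroup.relIndex_subgroupOf (le_refl (H ⊔ K)),
    Subgroup.subgroupOf_sup le_sup_left le_sup_right, Subgroup.relIndex_sup_right,
    Subgroup.relIndex_subgroupOf le_sup_left]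

end

section

variable {G : Type u} [Group G] [Fintype G] {M : Ideal AlgInt} {p : ℕ} [Fact p.Prime]

/-- A block of a subgroup inducing a block with abelian defect groups has abelian defect
groups. -/
theorem abelian_defect_of_induced (hM : IsPModular p M) {B : Set (IrrCharacter G)}
    {P : Subgroup G} (hPD : IsDefectGroup p M B P) (hab : ∀ x ∈ P, ∀ y ∈ P, x * y = y * x)
    (H : Subgroup G) {f : Set (IrrCharacter H)} (hf : IsInducedBlock M H f B)
    {D : Subgroup H} (hD : IsDefectGroup p M f D) : ∀ x ∈ D, ∀ y ∈ D, x * y = y * x := by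
  obtain ⟨E, hE, hDE⟩ := exists_defectGroup_ge_of_induced hM _ hf hD
  obtain ⟨g, hg⟩ := exists_conj_eq_of_isDefectGroup hM hf.2.1 hE hPD
  intro a ha b hb
  have ha' : (a : G) ∈ E := hDE ⟨a, ha, rfl⟩
  have hb' : (b : G) ∈ E := hDE ⟨b, hb, rfl⟩
  rw [← hg] at ha' hb'
  obtain ⟨a₀, ha₀, ha₀e⟩ := ha'
  obtain ⟨b₀, hb₀, hb₀e⟩ := hb'
  apply Subtype.ext
  rw [Subgroup.coe_mul, Subgroup.coe_mul, ← ha₀e, ← hb₀e, ← map_mul, ← map_mul, hab a₀ ha₀ b₀ hb₀]

end

end Cfsg.Agent.Lib.Helper8.NA
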