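import Mathlib
import Cfsg.Prelude.Def_Blocks
import Cfsg.Agent.Lib.Helper8.BlockOmega
import Cfsg.Agent.Lib.Helper8.BlockIdem
import Cfsg.Agent.Lib.Helper8.BlockLocal

/-!
# Powers of class sums: counting functions, convolution powers and the group algebra
-/

set_option autoImplicit false

namespace Cfsg.Agent.Lib.Helper8

open Cfsg
open scoped ComplexConjugate
open Cfsg.Agent.Lib.Helper1 Cfsg.Agent.Lib.Helper4

universe u

section Radical

/-- An algebraic integer lying in every maximal ideal over `p` has a power divisible by `p`. -/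
theorem exists_pow_eq_natCast_mul {p : ℕ} (hp : p.Prime) (a : AlgInt)
    (h : ∀ M : Ideal AlgInt, IsPModular p M → a ∈ M) :
    ∃ m : ℕ, ∃ b : AlgInt, a ^ m = (p : AlgInt) * b := by
  have hrad : a ∈ (Ideal.span {(p : AlgInt)}).radical := by
    rw [Ideal.radical_eq_sInf, Ideal.mem_sInf]
    rintro J ⟨hJ, hJp⟩
    apply h
    have hpJ : (p : AlgInt) ∈ J := hJ (Ideal.subset_span rfl)
    refine ⟨hp, ?_, hpJ⟩
    haveI := hJp
    apply Ideal.isMaximal_of_isIntegral_of_isMaximal_comap (R := ℤ) J
    haveI : (J.comap (algebraMap ℤ AlgInt)).IsPrime := Ideal.comap_isPrime _ _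
    apply IsPrime.to_maximal_ideal
    intro hbot
    have h1 : (p : ℤ) ∈ J.comap (algebraMap ℤ AlgInt) := by
      rw [Ideal.mem_comap]
      simpa using hpJ
    rw [hbot, Ideal.mem_bot] at h1
    exact hp.ne_zero (by exact_mod_cast h1)
  obtain ⟨m, hm⟩ := hrad
  rw [Ideal.mem_span_singleton'] at hm
  obtain ⟨b, hb⟩ := hm
  exact ⟨m, b, by rw [← hb, mul_comm]⟩

end Radical

section Count

variable {G : Type u} [Group G] [Fintype G]

open scoped Classical in
/-- The number of ways of writing `y` as a product of `n` conjugates of `g`. -/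
noncomputable def classPowCount (g : G) : ℕ → G → ℕ
  | 0 => fun y => if y = 1 then 1 else 0
  | n + 1 => fun y => ∑ x ∈ Finset.univ.filter (fun x => IsConj g x), classPowCount g n (x⁻¹ * y)

/-- Convolution powers of the indicator function of a class. -/
noncomputable def classConvPow (g : G) : ℕ → G → ℂ
  | 0 => deltaOne
  | n + 1 => conv (classIndicator g) (classConvPow g n)

theorem isClassFunction_classConvPow (g : G) (n : ℕ) : IsClassFunction G (classConvPow g n) := by
  induction n with
  | zero => exact isClassFunction_deltaOne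
  | succ n ih => exact isClassFunction_conv (classIndicator_isClassFunction g) ih

theorem omega_classConvPow {χ : G → ℂ} (hχ : IsIrrCharacter G χ) (g : G) (n : ℕ) :
    omega χ (classConvPow g n) = centralChar χ g ^ n := by
  induction n with
  | zero =>
    rw [pow_zero]
    exact omega_deltaOne (irr_apply_one_ne_zero hχ)
  | succ n ih =>
    show omega χ (conv (classIndicator g) (classConvPow g n)) = _
    rw [omega_conv hχ (isClassFunction_classConvPow g n), ih,
      omega_classIndicator (isClassFunction_irr hχ), pow_succ']

theorem classConvPow_eq_count (g : G) (n : ℕ) (y : G) :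
    classConvPow g n y = (classPowCount g n y : ℂ) := by
  classical
  induction n generalizing y with
  | zero =>
    show deltaOne y = ((if y = 1 then 1 else 0 : ℕ) : ℂ)
    unfold deltaOne
    by_cases hy : y = 1
    · simp [hy]
    · simp [hy]
  | succ n ih =>
    show conv (classIndicator g) (classConvPow g n) y = _
    rw [conv_apply]
    show _ = ((∑ x ∈ Finset.univ.filter (fun x => IsConj g x), classPowCount g n (x⁻¹ * y) : ℕ) : ℂ)
    rw [Nat.cast_sum, Finset.sum_filter]
    refine Finset.sum_congr rfl fun x _ => ?_
    rw [ih]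
    by_cases hx : IsConj g x
    · rw [show classIndicator g x = 1 by unfold classIndicator; rw [if_pos hx], if_pos hx, one_mul]
    · rw [show classIndicator g x = 0 by unfold classIndicator; rw [if_neg hx], if_neg hx, zero_mul]

open scoped Classical in
/-- Powers of a class sum in a group algebra. -/
theorem classSum_pow (F : Type*) [Semiring F] (g : G) (n : ℕ) :
    (∑ x ∈ Finset.univ.filter (fun x => IsConj g x), MonoidAlgebra.single x (1 : F)) ^ n =
      ∑ y : G, MonoidAlgebra.single y (classPowCount g n y : F) := by
  induction n with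
  | zero =>
    rw [pow_zero, MonoidAlgebra.one_def]
    rw [Finset.sum_eq_single (1 : G)]
    · simp [classPowCount]
    · intro y _ hy
      simp [classPowCount, hy]
    · intro h
      exact absurd (Finset.mem_univ _) h
  | succ n ih =>
    rw [pow_succ', ih, Finset.sum_mul_sum]
    have h1 : ∀ y : G, MonoidAlgebra.single y ((classPowCount g (n + 1) y : ℕ) : F) =
        ∑ x ∈ Finset.univ.filter (fun x => IsConj g x),
          MonoidAlgebra.single y ((classPowCount g n (x⁻¹ * y) : ℕ) : F) := by
      intro y
      show MonoidAlgebra.single y (((∑ x ∈ Finset.univ.filter (fun x => IsConj g x),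
        classPowCount g n (x⁻¹ * y) : ℕ)) : F) = _
      rw [Nat.cast_sum]
      exact map_sum (MonoidAlgebra.singleAddHom y) _ _
    simp only [h1]
    conv_rhs => rw [Finset.sum_comm]
    refine Finset.sum_congr rfl fun x _ => ?_
    rw [← Equiv.sum_comp (Equiv.mulLeft x)
      (fun y => MonoidAlgebra.single y ((classPowCount g n (x⁻¹ * y) : ℕ) : F))]
    refine Finset.sum_congr rfl fun y _ => ?_
    rw [MonoidAlgebra.single_mul_single, one_mul, Equiv.coe_mulLeft, inv_mul_cancel_left]

end Count

end Cfsg.Agent.Lib.Helper8
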