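import Mathlib
import Cfsg.Prelude.Def_Blocks
import Cfsg.Prelude.Def_BrauerPairs
import Cfsg.Prelude.Def_BlockFusion
import Cfsg.Agent.Lib.Helper8.FS5
import Cfsg.Agent.Lib.Helper8.BlockPairSylow
import Cfsg.Agent.Lib.Helper8.Cover3

/-!
# Blocks with a normal defect group centralized by a normal subgroup of `p`-power index
-/

set_option autoImplicit false
set_option linter.unusedSectionVars false

namespace Cfsg.Agent.Lib.Helper8

open Cfsg
open scoped ComplexConjugate
open Cfsg.Agent.Lib.Helper1 Cfsg.Agent.Lib.Helper4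

universe u

section

variable {H : Type u} [Group H] [Fintype H] {M : Ideal AlgInt} {p : ℕ} [Fact p.Prime]

/-- A block with normal defect group `D`, such that a normal subgroup of `p`-power index
centralizes `D`, is nilpotent. -/
theorem nilpotent_of_normal_defect (hM : IsPModular p M) {F' : Set (IrrCharacter H)}
    (hF' : IsPBlock M F') (D : Subgroup H) [hDn : D.Normal] (hD : IsDefectGroup p M F' D)
    (N : Subgroup H) [N.Normal] (hidx : ∃ k : ℕ, N.index = p ^ k)
    (hND : N ≤ Subgroup.centralizer (D : Set H)) : IsNilpotentBlock p M F' := by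
  classical
  refine ⟨hF', ?_⟩
  intro R' g' hR'g' x _ _ hxreg
  obtain ⟨P', e', hmax', hle'⟩ := exists_isMaximalBrauerPair_ge F' _ R' g' hR'g' le_rfl
  have hP'D := isDefectGroup_of_isMaximalBrauerPair hM hmax'
  obtain ⟨z, hz⟩ := exists_conj_eq_of_isDefectGroup hM hF' hD hP'D
  have hP'eq : P' = D := by
    have h1 : P' = D.map (MulAut.conj z⁻¹).toMonoidHom := by
      rw [← hz, Subgroup.map_map]
      have : (MulAut.conj z⁻¹).toMonoidHom.comp (MulAut.conj z).toMonoidHom = MonoidHom.id H := by
        ext y
        simp [mul_assoc]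
      rw [this, Subgroup.map_id]
    rw [h1]
    have hzn : z⁻¹ ∈ Subgroup.normalizer (D : Set H) := by
      rw [Subgroup.normalizer_eq_top]
      exact Subgroup.mem_top _
    exact Subgroup.mem_normalizer_iff_map_conj_eq.1 hzn
  have hR'D : R' ≤ D := hP'eq ▸ subpairLE_le hle'
  have hxN : x ∈ N := by
    by_contra hx
    exact hxreg (dvd_orderOf_of_not_mem N Fact.out hidx hx)
  exact Subgroup.centralizer_le (by exact_mod_cast hR'D) (hND hxN)

end

end Cfsg.Agent.Lib.Helper8
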