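import Mathlib
import Cfsg.Prelude.Def_Blocks
import Cfsg.Prelude.Def_BrauerPairs
import Cfsg.Prelude.Def_BlockFusion
import Cfsg.Agent.Lib.Helper8.PairFusion

/-!
# Centric subgroups in the fusion system of a block
-/

set_option autoImplicit false
set_option linter.unusedSectionVars false

namespace Cfsg.Agent.Lib.Helper8

open Cfsg
open scoped ComplexConjugate
open Cfsg.Agent.Lib.Helper1 Cfsg.Agent.Lib.Helper4

universe u

section

variable {G : Type u} [Group G]

/-- Conjugation carries `Z(Q)` (inside `C_G(Q)`) onto `Z(Q^x)` (inside `C_G(Q^x)`). -/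
theorem map_centConj_center (Q : Subgroup G) (x : G) :
    ((Q ⊓ Subgroup.centralizer (Q : Set G)).subgroupOf
        (Subgroup.centralizer (Q : Set G))).map (centConj Q x).toMonoidHom =
      ((Q.map (MulAut.conj x).toMonoidHom) ⊓ Subgroup.centralizer
        ((Q.map (MulAut.conj x).toMonoidHom : Subgroup G) : Set G)).subgroupOf
        (Subgroup.centralizer ((Q.map (MulAut.conj x).toMonoidHom : Subgroup G) : Set G)) := by
  ext c
  constructor
  · rintro ⟨y, hy, rfl⟩
    rw [SetLike.mem_coe, Subgroup.mem_subgroupOf] at hy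
    rw [Subgroup.mem_subgroupOf]
    refine ⟨⟨(y : G), hy.1, ?_⟩, (centConj Q x y).2⟩
    rfl
  · intro hc
    rw [Subgroup.mem_subgroupOf] at hc
    obtain ⟨⟨q, hq, hqc⟩, _⟩ := hc
    refine ⟨(centConj Q x).symm c, ?_, ?_⟩
    · rw [SetLike.mem_coe, Subgroup.mem_subgroupOf]
      refine ⟨?_, ((centConj Q x).symm c).2⟩
      rw [centConj_symm_apply_coe, ← hqc]
      simp only [MulEquiv.coe_toMonoidHom, MulAut.conj_apply]
      have : x⁻¹ * (x * q * x⁻¹) * x = q := by group
      rw [this]
      exact hq
    · exact (centConj Q x).apply_symm_apply c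

end

end Cfsg.Agent.Lib.Helper8
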