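import Mathlib
import Cfsg.Prelude.Def_Blocks
import Cfsg.Prelude.Def_BrauerPairs
import Cfsg.Prelude.Def_BlockFusion
import Cfsg.Agent.Lib.Helper8.NL1
import Cfsg.Agent.Lib.Helper8.BlockNormalTrace3
import Cfsg.Agent.Lib.Helper8.REL4
import Cfsg.Agent.S4680

/-!
# Centric subpairs normal in `G`: the block of `Q C_G(Q)` is nilpotent
-/

set_option autoImplicit false
set_option linter.unusedSectionVars false

namespace Cfsg.Agent.Lib.Helper8

open Cfsg
open scoped ComplexConjugate
open Cfsg.Agent.Lib.Helper1 Cfsg.Agent.Lib.Helper4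

universe u

section

variable {G : Type u} [Group G] [Fintype G] {M : Ideal AlgInt} {p : ℕ} [Fact p.Prime]

theorem centric_stable_block (hM : IsPModular p M) {B : Set (IrrCharacter G)}
    {P : Subgroup G} {e : Set (IrrCharacter (Subgroup.centralizer (P : Set G)))}
    (hmax : IsMaximalBrauerPair p M B P e) {F : FusionSystem P}
    (hF : IsBlockFusionSystemOn p M B P e F) {Q : Subgroup G}
    {f : Set (IrrCharacter (Subgroup.centralizer (Q : Set G)))} (hQP : Q ≤ P)
    (hf : IsPBlock M f) (hle : SubpairLE p M Q f P e) (hcen : F.IsCentric Q)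
    (hG : ∀ x : G, x ∈ Subgroup.normalizer (Q : Set G) ∧
      StabilizesBlock (Subgroup.centralizer (Q : Set G)) f x) :
    (∀ g : G, blockCoeff B g = subgroupBlockCoeff (Subgroup.centralizer (Q : Set G)) f g) ∧
    ∃ F' : Set (IrrCharacter ↥(Q ⊔ Subgroup.centralizer (Q : Set G))), IsPBlock M F' ∧
      (∀ t : ↥(Q ⊔ Subgroup.centralizer (Q : Set G)), blockCoeff F' t =
        subgroupBlockCoeff (Subgroup.centralizer (Q : Set G)) f (t : G)) ∧
      IsNilpotentBlock p M F' := by
  classical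
  have hp : p.Prime := Fact.out
  have hMp := isPModular_isPrime hM
  have hPe := hmax.1.1
  have hQ : IsPGroup p Q := hPe.1.to_le hQP
  have hQn : Q.Normal := by
    rw [← Subgroup.normalizer_eq_top_iff]
    exact eq_top_iff.2 fun x _ => (hG x).1
  have hQfB : IsBrauerPairOf p M B Q f :=
    (Cfsg.Agent.S4658.result p M hM P Q e f hPe ⟨hQ, hf⟩ hle B hmax.1.2.1).1 hmax.1
  have : Fintype (Subgroup.centralizer (Q : Set G)) := Fintype.ofFinite _
  -- Part 1
  have horb : orbitUnion (Subgroup.centralizer (Q : Set G)) f = f := by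
    apply Set.Subset.antisymm
    · rintro ψ ⟨x, hx, hψ⟩
      obtain ⟨hx', himg⟩ := (stabilizesBlock_iff_image _ f x).1 (hG x).2
      rwa [himg] at hψ
    · exact subset_orbitUnion _ f
  have h1 := blockCoeff_eq_extZ_orbitUnion hM Q hQ hQfB
  rw [horb] at h1
  refine ⟨fun g => by rw [h1, subgroupBlockCoeff_eq_extZ], ?_⟩
  -- Part 2
  obtain ⟨X, hXdef⟩ : ∃ X : Subgroup G, X = Q ⊔ Subgroup.centralizer (Q : Set G) := ⟨_, rfl⟩
  rw [← hXdef]
  have hCX : Subgroup.centralizer (Q : Set G) ≤ X := hXdef ▸ le_sup_right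
  have hQX : Q ≤ X := hXdef ▸ le_sup_left
  obtain ⟨F', hF', hF'e⟩ := exists_block_stabilizer hM Q hQ hf X (fun x _ => (hG x).2) hCX hQX
  refine ⟨F', hF', hF'e, ?_⟩
  have hGC : ∀ x : G, x ∈ Subgroup.normalizer
      ((Subgroup.centralizer (Q : Set G) : Subgroup G) : Set G) :=
    fun x => normalizer_le_normalizer_centralizer Q (hG x).1
  have hXC : X ≤ Subgroup.normalizer ((Subgroup.centralizer (Q : Set G) : Subgroup G) : Set G) :=
    fun x _ => hGC x
  have hCn : (Subgroup.centralizer (Q : Set G)).Normal := by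
    rw [← Subgroup.normalizer_eq_top_iff]
    exact eq_top_iff.2 fun x _ => hGC x
  have : Fintype X := Fintype.ofFinite _
  have hFe' : ∀ t : X, blockCoeff F' t =
      extZ (Subgroup.centralizer (Q : Set G)) (blockCoeff f) (t : G) := by
    intro t
    rw [hF'e]
    rfl
  have hcov : CoversIn X (Subgroup.centralizer (Q : Set G)) hCX F' f :=
    (coversIn_iff_eq_of_blockCoeff X _ hCX hXC hMp hf hF' hFe' hF').2 rfl
  have hZ := (Cfsg.Agent.S4680.result p M hM B P e hmax F hF Q f hQP hf hle).1 hcen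
  obtain ⟨P₁, hP₁X, hP₁D, hP₁C, -⟩ := rel_knorr X _ hCX hXC hM hf hF' hcov
    (inf_le_right : Q ⊓ Subgroup.centralizer (Q : Set G) ≤ _) hZ
  have : (Q.subgroupOf X).Normal := Subgroup.normal_subgroupOf
  have hQP₁' : Q.subgroupOf X ≤ P₁.subgroupOf X :=
    normal_le_of_isDefectGroup hM hF' hP₁D (Q.subgroupOf X) hQ.comap_subtype
  have hQP₁ : Q ≤ P₁ := by
    intro q hq
    have : (⟨q, hQX hq⟩ : X) ∈ Q.subgroupOf X := Subgroup.mem_subgroupOf.2 hq
    exact Subgroup.mem_subgroupOf.1 (hQP₁' this)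
  have hP₁Q : P₁ = Q := by
    apply le_antisymm _ hQP₁
    intro y hy
    have hyX : y ∈ Q ⊔ Subgroup.centralizer (Q : Set G) := hXdef ▸ hP₁X hy
    have hy' : y ∈ ((Q ⊔ Subgroup.centralizer (Q : Set G) : Subgroup G) : Set G) := hyX
    rw [Subgroup.mul_normal] at hy'
    obtain ⟨q, hq, c, hc, rfl⟩ := Set.mem_mul.1 hy'
    have hcP : c ∈ P₁ := by
      have : c = q⁻¹ * (q * c) := by group
      rw [this]
      exact P₁.mul_mem (P₁.inv_mem (hQP₁ hq)) hy
    have hcQ : c ∈ Q ⊓ Subgroup.centralizer (Q : Set G) := hP₁C ▸ ⟨hcP, hc⟩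
    exact Q.mul_mem hq hcQ.1
  rw [hP₁Q] at hP₁D
  have : ((Subgroup.centralizer (Q : Set G)).subgroupOf X).Normal := Subgroup.normal_subgroupOf
  have hidx : ∃ k : ℕ, ((Subgroup.centralizer (Q : Set G)).subgroupOf X).index = p ^ k := by
    have h2 : ((Subgroup.centralizer (Q : Set G)).subgroupOf X).index =
        (Subgroup.centralizer (Q : Set G)).relIndex Q := by
      show (Subgroup.centralizer (Q : Set G)).relIndex X = _
      rw [hXdef, sup_comm, Subgroup.relIndex_sup_left]
    rw [h2]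
    obtain ⟨n, hn⟩ := IsPGroup.iff_card.1 hQ
    have h3 : (Subgroup.centralizer (Q : Set G)).relIndex Q ∣ p ^ n := by
      rw [← hn]
      exact Subgroup.index_dvd_card _
    obtain ⟨j, -, hj⟩ := (Nat.dvd_prime_pow hp).1 h3
    exact ⟨j, hj⟩
  have hND : (Subgroup.centralizer (Q : Set G)).subgroupOf X ≤
      Subgroup.centralizer ((Q.subgroupOf X : Subgroup X) : Set X) := by
    intro x hx
    rw [Subgroup.mem_centralizer_iff]
    intro q hq
    apply Subtype.ext
    exact Subgroup.mem_centralizer_iff.1 (Subgroup.mem_subgroupOf.1 hx) (q : G)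
      (Subgroup.mem_subgroupOf.1 hq)
  exact nilpotent_of_normal_defect hM hF' (Q.subgroupOf X) hP₁D _ hidx hND

end

end Cfsg.Agent.Lib.Helper8
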