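import Mathlib

set_option autoImplicit false

/-!
# S3894, the case `n = 2`: basic `2 × 2` computations in `GL (Fin 2) F`.
-/

namespace Cfsg.Agent.Lib.Helper8.NMC

open Matrix

variable {F : Type*} [Field F]

theorem mul00 (x y : GL (Fin 2) F) : (x * y) 0 0 = x 0 0 * y 0 0 + x 0 1 * y 1 0 := by
  simp [Matrix.mul_apply, Fin.sum_univ_two]

theorem mul01 (x y : GL (Fin 2) F) : (x * y) 0 1 = x 0 0 * y 0 1 + x 0 1 * y 1 1 := by
  simp [Matrix.mul_apply, Fin.sum_univ_two]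

theorem mul10 (x y : GL (Fin 2) F) : (x * y) 1 0 = x 1 0 * y 0 0 + x 1 1 * y 1 0 := by
  simp [Matrix.mul_apply, Fin.sum_univ_two]

theorem mul11 (x y : GL (Fin 2) F) : (x * y) 1 1 = x 1 0 * y 0 1 + x 1 1 * y 1 1 := by
  simp [Matrix.mul_apply, Fin.sum_univ_two]

theorem one00 : (1 : GL (Fin 2) F) 0 0 = 1 := by simp
theorem one01 : (1 : GL (Fin 2) F) 0 1 = 0 := by simp
theorem one10 : (1 : GL (Fin 2) F) 1 0 = 0 := by simp
theorem one11 : (1 : GL (Fin 2) F) 1 1 = 1 := by simp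

theorem ext2 (x y : GL (Fin 2) F) (h00 : x 0 0 = y 0 0) (h01 : x 0 1 = y 0 1)
    (h10 : x 1 0 = y 1 0) (h11 : x 1 1 = y 1 1) : x = y := by
  apply Units.ext
  ext i j
  fin_cases i <;> fin_cases j <;> assumption

/-- The element of `GL₂` with the given entries. -/
noncomputable def mk2 (a b c d : F) (h : a * d - b * c ≠ 0) : GL (Fin 2) F :=
  Matrix.GeneralLinearGroup.mkOfDetNeZero !![a, b; c, d] (by rw [Matrix.det_fin_two_of]; exact h)

@[simp] theorem mk2_00 (a b c d : F) (h : a * d - b * c ≠ 0) : (mk2 a b c d h) 0 0 = a := rfl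
@[simp] theorem mk2_01 (a b c d : F) (h : a * d - b * c ≠ 0) : (mk2 a b c d h) 0 1 = b := rfl
@[simp] theorem mk2_10 (a b c d : F) (h : a * d - b * c ≠ 0) : (mk2 a b c d h) 1 0 = c := rfl
@[simp] theorem mk2_11 (a b c d : F) (h : a * d - b * c ≠ 0) : (mk2 a b c d h) 1 1 = d := rfl

theorem det_ne (x : GL (Fin 2) F) : x 0 0 * x 1 1 - x 0 1 * x 1 0 ≠ 0 := by
  have h := Matrix.GeneralLinearGroup.det_ne_zero x
  rwa [Matrix.det_fin_two] at h

theorem det_val (x : GL (Fin 2) F) :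
    ((Matrix.GeneralLinearGroup.det x : Fˣ) : F) = x 0 0 * x 1 1 - x 0 1 * x 1 0 := by
  rw [Matrix.GeneralLinearGroup.val_det_apply, Matrix.det_fin_two]

/-- Scalar matrices. -/
def IsScal (x : GL (Fin 2) F) : Prop := x 0 1 = 0 ∧ x 1 0 = 0 ∧ x 0 0 = x 1 1

theorem mem_center_iff (x : GL (Fin 2) F) :
    x ∈ Subgroup.center (GL (Fin 2) F) ↔ IsScal x := by
  rw [Matrix.GeneralLinearGroup.mem_center_iff_val_mem_range_scalar]
  constructor
  · rintro ⟨a, ha⟩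
    have h : ∀ i j, (x : Matrix (Fin 2) (Fin 2) F) i j = (Matrix.scalar (Fin 2) a) i j := by
      intro i j; rw [ha]
    refine ⟨?_, ?_, ?_⟩
    · rw [h 0 1]; simp
    · rw [h 1 0]; simp
    · rw [h 0 0, h 1 1]; simp
  · rintro ⟨h1, h2, h3⟩
    refine ⟨x 0 0, ?_⟩
    ext i j
    fin_cases i <;> fin_cases j
    · simp
    · simpa using h1.symm
    · simpa using h2.symm
    · simpa using h3

/-- Upper triangular matrices. -/
def Bor (F : Type*) [Field F] : Subgroup (GL (Fin 2) F) where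
  carrier := {x | x 1 0 = 0}
  mul_mem' := by
    intro x y hx hy
    change x 1 0 = 0 at hx; change y 1 0 = 0 at hy; change (x * y) 1 0 = 0
    rw [mul10, hx, hy]; ring
  one_mem' := by simp
  inv_mem' := by
    intro x hx
    change x 1 0 = 0 at hx; change (x⁻¹ : GL (Fin 2) F) 1 0 = 0
    have h1 : (x⁻¹ * x) 1 0 = 0 := by rw [inv_mul_cancel]; exact one10
    rw [mul10, hx, mul_zero, add_zero] at h1
    have h2 := det_ne x
    rw [hx, mul_zero, sub_zero] at h2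
    rcases mul_eq_zero.1 h1 with h | h
    · exact h
    · exact absurd h (left_ne_zero_of_mul h2)

theorem mem_Bor (x : GL (Fin 2) F) : x ∈ Bor F ↔ x 1 0 = 0 := Iff.rfl

/-- Upper triangular matrices with equal diagonal entries: `Z · U`. -/
def Up (F : Type*) [Field F] : Subgroup (GL (Fin 2) F) where
  carrier := {x | x 1 0 = 0 ∧ x 0 0 = x 1 1}
  mul_mem' := by
    rintro x y ⟨hx, hx'⟩ ⟨hy, hy'⟩
    refine ⟨?_, ?_⟩
    · rw [mul10, hx, hy]; ring
    · rw [mul00, mul11, hx, hy, hx', hy']; ring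
  one_mem' := by
    refine ⟨?_, ?_⟩ <;> simp
  inv_mem' := by
    rintro x ⟨hx, hx'⟩
    have hB : (x⁻¹ : GL (Fin 2) F) 1 0 = 0 := (Bor F).inv_mem (show x ∈ Bor F from hx)
    refine ⟨hB, ?_⟩
    have h1 : (x⁻¹ * x) 0 0 = 1 := by rw [inv_mul_cancel]; exact one00
    have h2 : (x⁻¹ * x) 1 1 = 1 := by rw [inv_mul_cancel]; exact one11
    rw [mul00, hx, mul_zero, add_zero] at h1
    rw [mul11, hB, zero_mul, zero_add, ← hx'] at h2
    have h3 := det_ne x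
    rw [hx, mul_zero, sub_zero] at h3
    have h4 : x 0 0 ≠ 0 := left_ne_zero_of_mul h3
    exact mul_right_cancel₀ h4 (h1.trans h2.symm)

theorem mem_Up (x : GL (Fin 2) F) : x ∈ Up F ↔ x 1 0 = 0 ∧ x 0 0 = x 1 1 := Iff.rfl

theorem Up_le_Bor : Up F ≤ Bor F := fun _ hx => hx.1

/-- Matrices whose determinant is a square: `SL₂ · Z`. -/
def sqDet (F : Type*) [Field F] : Subgroup (GL (Fin 2) F) :=
  ((powMonoidHom 2 : Fˣ →* Fˣ).range).comap Matrix.GeneralLinearGroup.det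

instance sqDet_normal : (sqDet F).Normal := by
  unfold sqDet
  infer_instance

theorem mem_sqDet_iff (x : GL (Fin 2) F) :
    x ∈ sqDet F ↔ ∃ ζ : F, ζ ≠ 0 ∧ ζ ^ 2 = x 0 0 * x 1 1 - x 0 1 * x 1 0 := by
  unfold sqDet
  rw [Subgroup.mem_comap, MonoidHom.mem_range]
  constructor
  · rintro ⟨ζ, hζ⟩
    refine ⟨(ζ : F), ζ.ne_zero, ?_⟩
    rw [← det_val, ← hζ]
    simp
  · rintro ⟨ζ, hζ0, hζ⟩
    refine ⟨Units.mk0 ζ hζ0, ?_⟩
    apply Units.ext
    rw [det_val, ← hζ]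
    simp

/-- Conjugate subgroup `g S g⁻¹`. -/
def cj (g : GL (Fin 2) F) (S : Subgroup (GL (Fin 2) F)) : Subgroup (GL (Fin 2) F) :=
  S.map (MulAut.conj g).toMonoidHom

theorem mem_cj (g x : GL (Fin 2) F) (S : Subgroup (GL (Fin 2) F)) :
    x ∈ cj g S ↔ ∃ v ∈ S, x * g = g * v := by
  unfold cj
  rw [Subgroup.mem_map]
  constructor
  · rintro ⟨v, hv, rfl⟩
    refine ⟨v, hv, ?_⟩
    simp [MulAut.conj_apply]
  · rintro ⟨v, hv, h⟩
    refine ⟨v, hv, ?_⟩
    simp only [MulEquiv.coe_toMonoidHom, MulAut.conj_apply]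
    rw [← h]; group

theorem cj_one (S : Subgroup (GL (Fin 2) F)) : cj 1 S = S := by
  ext x
  rw [mem_cj]
  constructor
  · rintro ⟨v, hv, h⟩
    rw [mul_one, one_mul] at h
    rw [h]; exact hv
  · intro hx
    exact ⟨x, hx, by rw [mul_one, one_mul]⟩

theorem cj_mono (g : GL (Fin 2) F) {S T : Subgroup (GL (Fin 2) F)} (h : S ≤ T) :
    cj g S ≤ cj g T := Subgroup.map_mono h

theorem cj_le_of_normal (g : GL (Fin 2) F) {S N : Subgroup (GL (Fin 2) F)} [hN : N.Normal]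
    (h : S ≤ N) : cj g S ≤ N := by
  intro x hx
  rw [mem_cj] at hx
  obtain ⟨v, hv, hxv⟩ := hx
  have : x = g * v * g⁻¹ := by rw [← hxv]; group
  rw [this]
  exact hN.conj_mem v (h hv) g

theorem center_le_cj (g : GL (Fin 2) F) {S : Subgroup (GL (Fin 2) F)}
    (h : Subgroup.center (GL (Fin 2) F) ≤ S) : Subgroup.center (GL (Fin 2) F) ≤ cj g S := by
  intro x hx
  rw [mem_cj]
  exact ⟨x, h hx, (Subgroup.mem_center_iff.1 hx g).symm⟩

theorem mem_range_toGL (x : GL (Fin 2) F) :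
    x ∈ (Matrix.SpecialLinearGroup.toGL :
      Matrix.SpecialLinearGroup (Fin 2) F →* GL (Fin 2) F).range ↔
      x 0 0 * x 1 1 - x 0 1 * x 1 0 = 1 := by
  rw [MonoidHom.mem_range]
  constructor
  · rintro ⟨s, rfl⟩
    have h := s.det_coe
    rw [Matrix.det_fin_two] at h
    exact h
  · intro h
    refine ⟨⟨(x : Matrix (Fin 2) (Fin 2) F), by rw [Matrix.det_fin_two]; exact h⟩, ?_⟩
    apply Units.ext
    rfl

theorem range_le_sqDet :
    (Matrix.SpecialLinearGroup.toGL :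
      Matrix.SpecialLinearGroup (Fin 2) F →* GL (Fin 2) F).range ≤ sqDet F := by
  intro x hx
  rw [mem_range_toGL] at hx
  rw [mem_sqDet_iff]
  exact ⟨1, one_ne_zero, by rw [hx]; ring⟩

theorem center_le_sqDet : Subgroup.center (GL (Fin 2) F) ≤ sqDet F := by
  intro x hx
  rw [mem_center_iff] at hx
  obtain ⟨h1, h2, h3⟩ := hx
  rw [mem_sqDet_iff]
  have hd := det_ne x
  rw [h1, zero_mul, sub_zero, ← h3] at hd
  refine ⟨x 0 0, left_ne_zero_of_mul hd, ?_⟩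
  rw [h1, ← h3]; ring

theorem Up_le_sqDet : Up F ≤ sqDet F := by
  rintro x ⟨h1, h2⟩
  rw [mem_sqDet_iff]
  have hd := det_ne x
  rw [h1, mul_zero, sub_zero, ← h2] at hd
  refine ⟨x 0 0, left_ne_zero_of_mul hd, ?_⟩
  rw [h1, ← h2]; ring

theorem sqDet_le_sup :
    sqDet F ≤ (Matrix.SpecialLinearGroup.toGL :
      Matrix.SpecialLinearGroup (Fin 2) F →* GL (Fin 2) F).range ⊔
        Subgroup.center (GL (Fin 2) F) := by
  intro x hx
  rw [mem_sqDet_iff] at hx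
  obtain ⟨ζ, hζ0, hζ⟩ := hx
  have hz : ζ * ζ - 0 * 0 ≠ 0 := by
    rw [mul_zero, sub_zero]; exact mul_ne_zero hζ0 hζ0
  set s : GL (Fin 2) F := mk2 ζ 0 0 ζ hz with hs
  have hsc : s ∈ Subgroup.center (GL (Fin 2) F) := by
    rw [mem_center_iff]
    exact ⟨rfl, rfl, rfl⟩
  have hx' : x = (x * s⁻¹) * s := by group
  rw [hx']
  refine Subgroup.mul_mem_sup ?_ hsc
  rw [mem_range_toGL]
  have hsi : s⁻¹ ∈ Subgroup.center (GL (Fin 2) F) := Subgroup.inv_mem _ hsc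
  rw [mem_center_iff] at hsi
  obtain ⟨i1, i2, i3⟩ := hsi
  have h00 : (s⁻¹ * s) 0 0 = 1 := by rw [inv_mul_cancel]; exact one00
  rw [mul00, i1, zero_mul, add_zero] at h00
  have hs00 : s 0 0 = ζ := rfl
  rw [hs00] at h00
  rw [mul00, mul01, mul10, mul11, i1, i2, ← i3]
  have : (s⁻¹ : GL (Fin 2) F) 0 0 = ζ⁻¹ := eq_inv_of_mul_eq_one_left h00
  rw [this]
  have hζ2 : ζ ^ 2 ≠ 0 := pow_ne_zero 2 hζ0
  field_simp
  rw [hζ]; ring

end Cfsg.Agent.Lib.Helper8.NMC
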