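import Mathlib
import Cfsg.Agent.Lib.Helper8.NMC1

set_option autoImplicit false

/-!
# S3894, the case `n = 2`: nilpotent subgroups containing a non-scalar element of `Z·U`,
and the entrywise lemmas about "commuting up to a scalar".
-/

namespace Cfsg.Agent.Lib.Helper8.NMC

open Matrix

/-- In a nilpotent subgroup `A` not contained in `Z` there is an element outside `Z` which is
central modulo `Z`. -/
theorem exists_central_mod {Γ : Type*} [Group Γ] (Z A : Subgroup Γ) [hnil : Group.IsNilpotent A]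
    (hA : ¬ A ≤ Z) :
    ∃ z ∈ A, z ∉ Z ∧ ∀ a ∈ A, z * a * z⁻¹ * a⁻¹ ∈ Z := by
  obtain ⟨n, hn⟩ := hnil.nilpotent'
  have key : ∃ i, (∀ x : A, x ∈ Subgroup.upperCentralSeries A i → (x : Γ) ∈ Z) ∧
      ¬ (∀ x : A, x ∈ Subgroup.upperCentralSeries A (i + 1) → (x : Γ) ∈ Z) := by
    by_contra hcon
    push Not at hcon
    have hall : ∀ i, ∀ x : A, x ∈ Subgroup.upperCentralSeries A i → (x : Γ) ∈ Z := by
      intro i
      induction i with
      | zero =>
        intro x hx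
        rw [Subgroup.upperCentralSeries_zero, Subgroup.mem_bot] at hx
        rw [hx]; exact Z.one_mem
      | succ i ih => exact hcon i ih
    apply hA
    intro a ha
    exact hall n ⟨a, ha⟩ (by rw [hn]; exact Subgroup.mem_top _)
  obtain ⟨i, hi, hi'⟩ := key
  push Not at hi'
  obtain ⟨x, hx, hxZ⟩ := hi'
  refine ⟨(x : Γ), x.2, hxZ, ?_⟩
  intro a ha
  have h1 := (Subgroup.mem_upperCentralSeries_succ_iff.1 hx) ⟨a, ha⟩
  have h2 := hi _ h1
  rw [commutatorElement_def] at h2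
  simpa using h2

variable {F : Type*} [Field F]

theorem rel_of_comm {Γ : Type*} [Group Γ] (z a s : Γ) (h : z * a * z⁻¹ * a⁻¹ = s) :
    z * a = s * (a * z) := by
  rw [← h]; group

theorem rel_conj {Γ : Type*} [Group Γ] (g z a s : Γ) (hs : s ∈ Subgroup.center Γ)
    (h : z * a = s * (a * z)) :
    (g⁻¹ * z * g) * (g⁻¹ * a * g) = s * ((g⁻¹ * a * g) * (g⁻¹ * z * g)) := by
  have h1 : (g⁻¹ * z * g) * (g⁻¹ * a * g) = g⁻¹ * (z * a) * g := by group
  have h2 : (g⁻¹ * a * g) * (g⁻¹ * z * g) = g⁻¹ * (a * z) * g := by group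
  rw [h1, h2, h]
  have h3 : g⁻¹ * s = s * g⁻¹ := (Subgroup.mem_center_iff.1 hs g⁻¹)
  calc g⁻¹ * (s * (a * z)) * g = (g⁻¹ * s) * (a * z) * g := by group
    _ = (s * g⁻¹) * (a * z) * g := by rw [h3]
    _ = s * (g⁻¹ * (a * z) * g) := by group

theorem rel_symm {Γ : Type*} [Group Γ] (x y s : Γ) (hs : s ∈ Subgroup.center Γ)
    (h : y * x = s * (x * y)) : x * y = s⁻¹ * (y * x) := by
  rw [h]; group

/-- Entries of a relation `x y = s y x` with `s` scalar. -/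
theorem rel_entries (x y s : GL (Fin 2) F) (hs : s ∈ Subgroup.center (GL (Fin 2) F))
    (h : x * y = s * (y * x)) :
    x 0 0 * y 0 0 + x 0 1 * y 1 0 = s 0 0 * (y 0 0 * x 0 0 + y 0 1 * x 1 0) ∧
    x 0 0 * y 0 1 + x 0 1 * y 1 1 = s 0 0 * (y 0 0 * x 0 1 + y 0 1 * x 1 1) ∧
    x 1 0 * y 0 0 + x 1 1 * y 1 0 = s 0 0 * (y 1 0 * x 0 0 + y 1 1 * x 1 0) ∧
    x 1 0 * y 0 1 + x 1 1 * y 1 1 = s 0 0 * (y 1 0 * x 0 1 + y 1 1 * x 1 1) := by
  rw [mem_center_iff] at hs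
  obtain ⟨s1, s2, s3⟩ := hs
  have e00 : (x * y) 0 0 = (s * (y * x)) 0 0 := by rw [h]
  have e01 : (x * y) 0 1 = (s * (y * x)) 0 1 := by rw [h]
  have e10 : (x * y) 1 0 = (s * (y * x)) 1 0 := by rw [h]
  have e11 : (x * y) 1 1 = (s * (y * x)) 1 1 := by rw [h]
  rw [mul00, mul00 s, mul00 y, mul10 y, s1, zero_mul, add_zero] at e00
  rw [mul01, mul01 s, mul01 y, mul11 y, s1, zero_mul, add_zero] at e01
  rw [mul10, mul10 s, mul00 y, mul10 y, s2, zero_mul, zero_add, ← s3] at e10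
  rw [mul11, mul11 s, mul01 y, mul11 y, s2, zero_mul, zero_add, ← s3] at e11
  exact ⟨e00, e01, e10, e11⟩

theorem not_scal_of_Up {x : GL (Fin 2) F} (hx : x ∈ Up F)
    (hxZ : x ∉ Subgroup.center (GL (Fin 2) F)) : x 0 1 ≠ 0 := by
  intro h
  apply hxZ
  rw [mem_center_iff]
  exact ⟨h, hx.1, hx.2⟩

/-- (E1) -/
theorem Up_of_rel (x y s : GL (Fin 2) F) (hs : s ∈ Subgroup.center (GL (Fin 2) F))
    (hx : x ∈ Up F) (hx01 : x 0 1 ≠ 0) (h : x * y = s * (y * x)) : y ∈ Up F := by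
  obtain ⟨e00, e01, e10, e11⟩ := rel_entries x y s hs h
  obtain ⟨hx10, hx00⟩ := hx
  have hdx := det_ne x
  have hdy := det_ne y
  rw [hx10, mul_zero, sub_zero, ← hx00] at hdx
  have hα : x 0 0 ≠ 0 := left_ne_zero_of_mul hdx
  rw [hx10] at e00 e10 e11
  rw [← hx00] at e01 e10 e11
  by_cases hy : y 1 0 = 0
  · rw [hy, mul_zero, sub_zero] at hdy
    have hy00 : y 0 0 ≠ 0 := left_ne_zero_of_mul hdy
    rw [hy] at e00
    have hl : s 0 0 = 1 := by
      have : (s 0 0 - 1) * (x 0 0 * y 0 0) = 0 := by linear_combination -e00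
      rcases mul_eq_zero.1 this with h1 | h1
      · exact sub_eq_zero.1 h1
      · exact absurd h1 (mul_ne_zero hα hy00)
    rw [hl] at e01
    refine ⟨hy, ?_⟩
    have : x 0 1 * (y 1 1 - y 0 0) = 0 := by linear_combination e01
    rcases mul_eq_zero.1 this with h1 | h1
    · exact absurd h1 hx01
    · exact (sub_eq_zero.1 h1).symm
  · exfalso
    have hl : s 0 0 = 1 := by
      have : (s 0 0 - 1) * (x 0 0 * y 1 0) = 0 := by linear_combination -e10
      rcases mul_eq_zero.1 this with h1 | h1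
      · exact sub_eq_zero.1 h1
      · exact absurd h1 (mul_ne_zero hα hy)
    rw [hl] at e00
    have : x 0 1 * y 1 0 = 0 := by linear_combination e00
    exact (mul_ne_zero hx01 hy) this

/-- (E1') -/
theorem Up_of_rel' (x y s : GL (Fin 2) F) (hs : s ∈ Subgroup.center (GL (Fin 2) F))
    (hx : x ∈ Up F) (hx01 : x 0 1 ≠ 0) (h : y * x = s * (x * y)) : y ∈ Up F :=
  Up_of_rel x y s⁻¹ (Subgroup.inv_mem _ hs) hx hx01 (rel_symm x y s hs h)

/-- Monomial matrices. -/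
def IsMon (y : GL (Fin 2) F) : Prop := (y 0 1 = 0 ∧ y 1 0 = 0) ∨ (y 0 0 = 0 ∧ y 1 1 = 0)

/-- (E2) -/
theorem mon_of_rel (x y s : GL (Fin 2) F) (hs : s ∈ Subgroup.center (GL (Fin 2) F))
    (hx1 : x 0 1 = 0) (hx2 : x 1 0 = 0) (hx3 : x 0 0 ≠ x 1 1) (h : x * y = s * (y * x)) :
    (y 0 1 = 0 ∧ y 1 0 = 0) ∨ (y 0 0 = 0 ∧ y 1 1 = 0 ∧ x 0 0 = - x 1 1) := by
  obtain ⟨e00, e01, e10, e11⟩ := rel_entries x y s hs h
  have hdx := det_ne x
  have hdy := det_ne y
  rw [hx1, zero_mul, sub_zero] at hdx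
  have hp : x 0 0 ≠ 0 := left_ne_zero_of_mul hdx
  have hr : x 1 1 ≠ 0 := right_ne_zero_of_mul hdx
  rw [hx1] at e00 e01 e11
  rw [hx2] at e00 e10 e11
  have hdiag : s 0 0 = 1 → (y 0 1 = 0 ∧ y 1 0 = 0) := by
    intro hl
    rw [hl] at e01 e10
    have h1 : (x 0 0 - x 1 1) * y 0 1 = 0 := by linear_combination e01
    have h2 : (x 0 0 - x 1 1) * y 1 0 = 0 := by linear_combination -e10
    have hne : x 0 0 - x 1 1 ≠ 0 := sub_ne_zero.2 hx3
    exact ⟨(mul_eq_zero.1 h1).resolve_left hne, (mul_eq_zero.1 h2).resolve_left hne⟩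
  by_cases h0 : y 0 0 = 0
  · by_cases h1 : y 1 1 = 0
    · right
      refine ⟨h0, h1, ?_⟩
      rw [h0, h1, zero_mul, zero_sub, neg_ne_zero] at hdy
      have hy01 : y 0 1 ≠ 0 := left_ne_zero_of_mul hdy
      have hy10 : y 1 0 ≠ 0 := right_ne_zero_of_mul hdy
      have a1 : x 0 0 = s 0 0 * x 1 1 := by
        have : y 0 1 * (x 0 0 - s 0 0 * x 1 1) = 0 := by linear_combination e01
        exact sub_eq_zero.1 ((mul_eq_zero.1 this).resolve_left hy01)
      have a2 : x 1 1 = s 0 0 * x 0 0 := by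
        have : y 1 0 * (x 1 1 - s 0 0 * x 0 0) = 0 := by linear_combination e10
        exact sub_eq_zero.1 ((mul_eq_zero.1 this).resolve_left hy10)
      have a3 : (s 0 0 - 1) * (s 0 0 + 1) = 0 := by
        have : x 0 0 * ((s 0 0 - 1) * (s 0 0 + 1)) = 0 := by
          have e : x 0 0 = s 0 0 * (s 0 0 * x 0 0) := by rw [← a2]; exact a1
          linear_combination -e
        exact (mul_eq_zero.1 this).resolve_left hp
      rcases mul_eq_zero.1 a3 with h2 | h2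
      · exfalso
        have : s 0 0 = 1 := sub_eq_zero.1 h2
        rw [this, one_mul] at a1
        exact hx3 a1
      · have : s 0 0 = -1 := eq_neg_of_add_eq_zero_left h2
        rw [this] at a1
        rw [a1]; ring
    · left
      apply hdiag
      have : (s 0 0 - 1) * (x 1 1 * y 1 1) = 0 := by linear_combination -e11
      rcases mul_eq_zero.1 this with h2 | h2
      · exact sub_eq_zero.1 h2
      · exact absurd h2 (mul_ne_zero hr h1)
  · left
    apply hdiag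
    have : (s 0 0 - 1) * (x 0 0 * y 0 0) = 0 := by linear_combination -e00
    rcases mul_eq_zero.1 this with h2 | h2
    · exact sub_eq_zero.1 h2
    · exact absurd h2 (mul_ne_zero hp h0)

/-- (E2') -/
theorem mon_of_rel' (x y s : GL (Fin 2) F) (hs : s ∈ Subgroup.center (GL (Fin 2) F))
    (hx1 : x 0 1 = 0) (hx2 : x 1 0 = 0) (hx3 : x 0 0 ≠ x 1 1) (h : y * x = s * (x * y)) :
    (y 0 1 = 0 ∧ y 1 0 = 0) ∨ (y 0 0 = 0 ∧ y 1 1 = 0 ∧ x 0 0 = - x 1 1) :=
  mon_of_rel x y s⁻¹ (Subgroup.inv_mem _ hs) hx1 hx2 hx3 (rel_symm x y s hs h)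

/-- (E3) An antidiagonal matrix `y` with `y₀₁ y₁₀ = κ²` is conjugate into the Borel subgroup. -/
theorem antidiag_mem_cj (y : GL (Fin 2) F) (h0 : y 0 0 = 0) (h1 : y 1 1 = 0) (κ : F)
    (hκ : κ ^ 2 = y 0 1 * y 1 0) : ∃ g : GL (Fin 2) F, y ∈ cj g (Bor F) := by
  have hdy := det_ne y
  rw [h0, h1, zero_mul, zero_sub, neg_ne_zero] at hdy
  have hy01 : y 0 1 ≠ 0 := left_ne_zero_of_mul hdy
  have hκ0 : κ ≠ 0 := by
    intro h
    rw [h] at hκ
    apply hdy
    rw [← hκ]; ring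
  have hg : y 0 1 * 1 - 0 * κ ≠ 0 := by rw [mul_one, zero_mul, sub_zero]; exact hy01
  have hb : κ * (-κ) - 1 * 0 ≠ 0 := by
    rw [mul_zero, sub_zero, mul_neg, neg_ne_zero]; exact mul_ne_zero hκ0 hκ0
  refine ⟨mk2 (y 0 1) 0 κ 1 hg, ?_⟩
  rw [mem_cj]
  refine ⟨mk2 κ 1 0 (-κ) hb, rfl, ?_⟩
  apply ext2
  · rw [mul00, mul00]; simp only [mk2_00, mk2_01, mk2_10, mk2_11]; rw [h0]; ring
  · rw [mul01, mul01]; simp only [mk2_00, mk2_01, mk2_10, mk2_11]; rw [h0]; ring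
  · rw [mul10, mul10]; simp only [mk2_00, mk2_01, mk2_10, mk2_11]; rw [h1]
    linear_combination -hκ
  · rw [mul11, mul11]; simp only [mk2_00, mk2_01, mk2_10, mk2_11]; rw [h1]; ring

/-- (E4) a diagonal matrix with distinct entries is in no conjugate of `Z·U`. -/
theorem diag_notMem_cj_Up (x g : GL (Fin 2) F) (hx1 : x 0 1 = 0) (hx2 : x 1 0 = 0)
    (hx3 : x 0 0 ≠ x 1 1) : x ∉ cj g (Up F) := by
  intro hx
  rw [mem_cj] at hx
  obtain ⟨v, ⟨hv1, hv2⟩, h⟩ := hx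
  have e00 : (x * g) 0 0 = (g * v) 0 0 := by rw [h]
  have e01 : (x * g) 0 1 = (g * v) 0 1 := by rw [h]
  have e10 : (x * g) 1 0 = (g * v) 1 0 := by rw [h]
  have e11 : (x * g) 1 1 = (g * v) 1 1 := by rw [h]
  rw [mul00, mul00, hx1, hv1] at e00
  rw [mul01, mul01, hx1, ← hv2] at e01
  rw [mul10, mul10, hx2, hv1] at e10
  rw [mul11, mul11, hx2, ← hv2] at e11
  have hdg := det_ne g
  by_cases hg10 : g 1 0 = 0
  · rw [hg10, mul_zero, sub_zero] at hdg
    have hg00 : g 0 0 ≠ 0 := left_ne_zero_of_mul hdg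
    have hg11 : g 1 1 ≠ 0 := right_ne_zero_of_mul hdg
    rw [hg10] at e11
    have a1 : x 0 0 = v 0 0 := by
      have : g 0 0 * (x 0 0 - v 0 0) = 0 := by linear_combination e00
      exact sub_eq_zero.1 ((mul_eq_zero.1 this).resolve_left hg00)
    have a2 : x 1 1 = v 0 0 := by
      have : g 1 1 * (x 1 1 - v 0 0) = 0 := by linear_combination e11
      exact sub_eq_zero.1 ((mul_eq_zero.1 this).resolve_left hg11)
    exact hx3 (a1.trans a2.symm)
  · have a2 : x 1 1 = v 0 0 := by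
      have : g 1 0 * (x 1 1 - v 0 0) = 0 := by linear_combination e10
      exact sub_eq_zero.1 ((mul_eq_zero.1 this).resolve_left hg10)
    by_cases hg00 : g 0 0 = 0
    · rw [hg00, zero_mul, zero_sub, neg_ne_zero] at hdg
      have hg01 : g 0 1 ≠ 0 := left_ne_zero_of_mul hdg
      rw [hg00] at e01
      have a1 : x 0 0 = v 0 0 := by
        have : g 0 1 * (x 0 0 - v 0 0) = 0 := by linear_combination e01
        exact sub_eq_zero.1 ((mul_eq_zero.1 this).resolve_left hg01)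
      exact hx3 (a1.trans a2.symm)
    · have a1 : x 0 0 = v 0 0 := by
        have : g 0 0 * (x 0 0 - v 0 0) = 0 := by linear_combination e00
        exact sub_eq_zero.1 ((mul_eq_zero.1 this).resolve_left hg00)
      exact hx3 (a1.trans a2.symm)

/-- (i), conjugate form: a nilpotent subgroup containing `Z` and a non-scalar element of
`g (Z·U) g⁻¹` is contained in `g (Z·U) g⁻¹`. -/
theorem le_cj_Up (A : Subgroup (GL (Fin 2) F)) [Group.IsNilpotent A] (g v : GL (Fin 2) F)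
    (hvA : v ∈ A) (hvZ : v ∉ Subgroup.center (GL (Fin 2) F)) (hv : v ∈ cj g (Up F)) :
    A ≤ cj g (Up F) := by
  have hA : ¬ A ≤ Subgroup.center (GL (Fin 2) F) := fun h => hvZ (h hvA)
  obtain ⟨z, hzA, hzZ, hz⟩ := exists_central_mod (Subgroup.center (GL (Fin 2) F)) A hA
  rw [mem_cj] at hv
  obtain ⟨v', hv'U, hv'⟩ := hv
  have hv'eq : v' = g⁻¹ * v * g := by rw [mul_assoc, hv']; group
  have hconjZ : ∀ w : GL (Fin 2) F, g⁻¹ * w * g ∈ Subgroup.center (GL (Fin 2) F) →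
      w ∈ Subgroup.center (GL (Fin 2) F) := by
    intro w hw
    have hn : (Subgroup.center (GL (Fin 2) F)).Normal := inferInstance
    have := hn.conj_mem _ hw g
    have e : g * (g⁻¹ * w * g) * g⁻¹ = w := by group
    rwa [e] at this
  have hv'Z : v' ∉ Subgroup.center (GL (Fin 2) F) := by
    intro h; rw [hv'eq] at h; exact hvZ (hconjZ v h)
  have hv'01 : v' 0 1 ≠ 0 := not_scal_of_Up hv'U hv'Z
  -- z' ∈ Up
  have r1 := rel_conj g z v _ (hz v hvA) (rel_of_comm z v _ rfl)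
  rw [← hv'eq] at r1
  have hz'U : g⁻¹ * z * g ∈ Up F := Up_of_rel' v' _ _ (hz v hvA) hv'U hv'01 r1
  have hz'Z : g⁻¹ * z * g ∉ Subgroup.center (GL (Fin 2) F) := fun h => hzZ (hconjZ z h)
  have hz'01 : (g⁻¹ * z * g) 0 1 ≠ 0 := not_scal_of_Up hz'U hz'Z
  intro a ha
  have r2 := rel_conj g z a _ (hz a ha) (rel_of_comm z a _ rfl)
  have ha'U : g⁻¹ * a * g ∈ Up F := Up_of_rel _ _ _ (hz a ha) hz'U hz'01 r2
  rw [mem_cj]
  exact ⟨_, ha'U, by group⟩

end Cfsg.Agent.Lib.Helper8.NMC
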