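import Mathlib
import Cfsg.Agent.Lib.Helper8.NMC2
import Cfsg.Agent.Lib.Helper7.NilCov1

set_option autoImplicit false

/-!
# S3894, the case `n = 2`: the cover argument (parts (ii), (iii), (vi)).
-/

namespace Cfsg.Agent.Lib.Helper8.NMC

open Matrix Cfsg.Agent.Lib.Helper7.NilCov

variable {F : Type*} [Field F]

/-- `[[1,1],[0,1]]` -/
noncomputable def uU (F : Type*) [Field F] : GL (Fin 2) F :=
  mk2 1 1 0 1 (by norm_num)

/-- `[[1,0],[1,1]]` -/
noncomputable def lU (F : Type*) [Field F] : GL (Fin 2) F :=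
  mk2 1 0 1 1 (by norm_num)

/-- `[[0,1],[1,0]]` -/
noncomputable def wW (F : Type*) [Field F] : GL (Fin 2) F :=
  mk2 0 1 1 0 (by norm_num)

theorem uU_mem_Up : uU F ∈ Up F := ⟨rfl, rfl⟩

theorem uU_mem_range : uU F ∈ (Matrix.SpecialLinearGroup.toGL :
    Matrix.SpecialLinearGroup (Fin 2) F →* GL (Fin 2) F).range := by
  rw [mem_range_toGL]
  simp [uU]

theorem lU_mem_range : lU F ∈ (Matrix.SpecialLinearGroup.toGL :
    Matrix.SpecialLinearGroup (Fin 2) F →* GL (Fin 2) F).range := by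
  rw [mem_range_toGL]
  simp [lU]

theorem uU_notMem_center : uU F ∉ Subgroup.center (GL (Fin 2) F) := by
  intro h
  rw [mem_center_iff] at h
  have : (uU F) 0 1 = 0 := h.1
  simp [uU] at this

theorem lU_notMem_Bor : lU F ∉ Bor F := by
  intro h
  have : (lU F) 1 0 = 0 := h
  simp [lU] at this

theorem lU_mem_cj : lU F ∈ cj (wW F) (Up F) := by
  rw [mem_cj]
  refine ⟨uU F, uU_mem_Up, ?_⟩
  apply ext2
  · rw [mul00, mul00]; simp [lU, wW, uU]
  · rw [mul01, mul01]; simp [lU, wW, uU]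
  · rw [mul10, mul10]; simp [lU, wW, uU]
  · rw [mul11, mul11]; simp [lU, wW, uU]

theorem conj_mem_cj (g v : GL (Fin 2) F) {S : Subgroup (GL (Fin 2) F)} (hv : v ∈ S) :
    g * v * g⁻¹ ∈ cj g S := by
  rw [mem_cj]
  exact ⟨v, hv, by group⟩

theorem conj_notMem_center (g v : GL (Fin 2) F) (hv : v ∉ Subgroup.center (GL (Fin 2) F)) :
    g * v * g⁻¹ ∉ Subgroup.center (GL (Fin 2) F) := by
  intro h
  apply hv
  have hn : (Subgroup.center (GL (Fin 2) F)).Normal := inferInstance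
  have := hn.conj_mem _ h g⁻¹
  have e : g⁻¹ * (g * v * g⁻¹) * g⁻¹⁻¹ = v := by group
  rwa [e] at this

theorem conj_notMem_cj_Bor (g v : GL (Fin 2) F) (hv : v ∉ Bor F) :
    g * v * g⁻¹ ∉ cj g (Bor F) := by
  intro h
  rw [mem_cj] at h
  obtain ⟨b, hb, hgb⟩ := h
  have : v = b := by
    have e : g * v * g⁻¹ * g = g * v := by group
    rw [e] at hgb
    exact mul_left_cancel hgb
  exact hv (this ▸ hb)

theorem center_le_Bor : Subgroup.center (GL (Fin 2) F) ≤ Bor F := by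
  intro x hx
  rw [mem_center_iff] at hx
  exact hx.2.1

theorem sqDet_le {H : Subgroup (GL (Fin 2) F)} (hZ : Subgroup.center (GL (Fin 2) F) ≤ H)
    (hSL : (Matrix.SpecialLinearGroup.toGL :
      Matrix.SpecialLinearGroup (Fin 2) F →* GL (Fin 2) F).range ≤ H) : sqDet F ≤ H :=
  sqDet_le_sup.trans (sup_le hSL hZ)

/-- (ii) -/
theorem false_of_ne_sqDet (H : Subgroup (GL (Fin 2) F))
    (hZ : Subgroup.center (GL (Fin 2) F) ≤ H)
    (hSL : (Matrix.SpecialLinearGroup.toGL :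
      Matrix.SpecialLinearGroup (Fin 2) F →* GL (Fin 2) F).range ≤ H)
    (C : Finset (Subgroup (GL (Fin 2) F)))
    (hC : NilMinLiftedCover (Subgroup.center (GL (Fin 2) F)) H C) (hH : sqDet F ≠ H) : False := by
  obtain ⟨hcov, hmin, hnil⟩ := hC
  have hsq := sqDet_le hZ hSL
  obtain ⟨A1, hA1, hu1⟩ := hcov.cover (uU F) (hSL uU_mem_range)
  obtain ⟨A2, hA2, hl2⟩ := hcov.cover (lU F) (hSL lU_mem_range)
  have := hnil A1 hA1
  have := hnil A2 hA2
  have h1 : A1 ≤ Up F := by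
    have := le_cj_Up A1 1 (uU F) hu1 uU_notMem_center (by rw [cj_one]; exact uU_mem_Up)
    rwa [cj_one] at this
  have hlZ : lU F ∉ Subgroup.center (GL (Fin 2) F) := fun h => lU_notMem_Bor (center_le_Bor h)
  have h2 : A2 ≤ cj (wW F) (Up F) := le_cj_Up A2 (wW F) (lU F) hl2 hlZ lU_mem_cj
  have h1M : A1 ≤ sqDet F := h1.trans Up_le_sqDet
  have h2M : A2 ≤ sqDet F := h2.trans (cj_le_of_normal _ Up_le_sqDet)
  have e := hcov.merge hmin center_le_sqDet hsq hH hA1 hA2 h1M h2M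
  rw [← e] at hl2
  exact lU_notMem_Bor (Up_le_Bor (h1 hl2))

/-- (iii) -/
theorem cj_Up_mem (C : Finset (Subgroup (GL (Fin 2) F)))
    (hC : NilMinLiftedCover (Subgroup.center (GL (Fin 2) F)) (sqDet F) C) (g : GL (Fin 2) F) :
    cj g (Up F) ∈ C ∧ ∀ A ∈ C, A ≤ cj g (Bor F) → A = cj g (Up F) := by
  obtain ⟨hcov, hmin, hnil⟩ := hC
  have hN : (sqDet F).Normal := inferInstance
  set M : Subgroup (GL (Fin 2) F) := cj g (Bor F) ⊓ sqDet F with hM
  have hZM : Subgroup.center (GL (Fin 2) F) ≤ M :=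
    le_inf (center_le_cj g center_le_Bor) center_le_sqDet
  have hMH : M ≤ sqDet F := inf_le_right
  have hMne : M ≠ sqDet F := by
    intro h
    have h1 : g * lU F * g⁻¹ ∈ sqDet F := hN.conj_mem _ (range_le_sqDet lU_mem_range) g
    rw [← h] at h1
    exact conj_notMem_cj_Bor g (lU F) lU_notMem_Bor h1.1
  have hug : g * uU F * g⁻¹ ∈ sqDet F := hN.conj_mem _ (range_le_sqDet uU_mem_range) g
  obtain ⟨A, hA, huA⟩ := hcov.cover _ hug
  have := hnil A hA
  have hAU : A ≤ cj g (Up F) :=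
    le_cj_Up A g _ huA (conj_notMem_center g _ uU_notMem_center) (conj_mem_cj g _ uU_mem_Up)
  have hAM : A ≤ M := le_inf (hAU.trans (cj_mono g Up_le_Bor)) (hcov.mem A hA).2.1
  have hUA : cj g (Up F) ≤ A := by
    intro x hx
    by_cases hxZ : x ∈ Subgroup.center (GL (Fin 2) F)
    · exact (hcov.mem A hA).1 hxZ
    · have hxH : x ∈ sqDet F := cj_le_of_normal g Up_le_sqDet hx
      obtain ⟨Ax, hAx, hxAx⟩ := hcov.cover x hxH
      have := hnil Ax hAx
      have h1 : Ax ≤ cj g (Up F) := le_cj_Up Ax g x hxAx hxZ hx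
      have h2 : Ax ≤ M := le_inf (h1.trans (cj_mono g Up_le_Bor)) (hcov.mem Ax hAx).2.1
      have e := hcov.merge hmin hZM hMH hMne hAx hA h2 hAM
      rw [← e]; exact hxAx
  have hAeq : A = cj g (Up F) := le_antisymm hAU hUA
  refine ⟨hAeq ▸ hA, ?_⟩
  intro A' hA' hA'B
  have h2 : A' ≤ M := le_inf hA'B (hcov.mem A' hA').2.1
  rw [← hAeq]
  exact hcov.merge hmin hZM hMH hMne hA' hA h2 hAM

/-- Lemma W: `g (Z·U) g⁻¹` determines `g B g⁻¹`. -/
theorem cj_Bor_eq_of_cj_Up_eq (g g' : GL (Fin 2) F) (h : cj g (Up F) = cj g' (Up F)) :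
    cj g (Bor F) = cj g' (Bor F) := by
  have h1 : g * uU F * g⁻¹ ∈ cj g' (Up F) := by
    rw [← h]; exact conj_mem_cj g _ uU_mem_Up
  rw [mem_cj] at h1
  obtain ⟨v, ⟨hv1, hv2⟩, hv⟩ := h1
  -- k = g'⁻¹ g
  obtain ⟨k, hk⟩ : ∃ k : GL (Fin 2) F, k = g'⁻¹ * g := ⟨_, rfl⟩
  have hkv : k * uU F = v * k := by
    have e1 : k * uU F = g'⁻¹ * (g * uU F * g⁻¹ * g') * (g'⁻¹ * g) := by rw [hk]; group
    rw [e1, hv, hk]; group
  have e10 : (k * uU F) 1 0 = (v * k) 1 0 := by rw [hkv]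
  have e11 : (k * uU F) 1 1 = (v * k) 1 1 := by rw [hkv]
  rw [mul10, mul10, hv1] at e10
  rw [mul11, mul11, hv1] at e11
  have u00 : (uU F) 0 0 = 1 := rfl
  have u01 : (uU F) 0 1 = 1 := rfl
  have u10 : (uU F) 1 0 = 0 := rfl
  have u11 : (uU F) 1 1 = 1 := rfl
  rw [u00, u10] at e10
  rw [u01, u11] at e11
  have hk10 : k 1 0 = 0 := by
    by_contra hne
    have hv11 : v 1 1 = 1 := by
      have : k 1 0 * (v 1 1 - 1) = 0 := by linear_combination -e10
      exact sub_eq_zero.1 ((mul_eq_zero.1 this).resolve_left hne)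
    rw [hv11] at e11
    apply hne
    linear_combination e11
  have hkB : k ∈ Bor F := hk10
  have hg : g = g' * k := by rw [hk]; group
  ext x
  rw [mem_cj, mem_cj]
  constructor
  · rintro ⟨b, hb, hxb⟩
    refine ⟨k * b * k⁻¹, (Bor F).mul_mem ((Bor F).mul_mem hkB hb) ((Bor F).inv_mem hkB), ?_⟩
    have : x * g' = x * g * k⁻¹ := by rw [hg]; group
    rw [this, hxb, hg]; group
  · rintro ⟨b, hb, hxb⟩
    refine ⟨k⁻¹ * b * k, (Bor F).mul_mem ((Bor F).mul_mem ((Bor F).inv_mem hkB) hb) hkB, ?_⟩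
    have : x * g = x * g' * k := by rw [hg]; group
    rw [this, hxb, hg]; group

/-- (vi): the member through the torus element cannot exist. -/
theorem false_of_torus_member (C : Finset (Subgroup (GL (Fin 2) F)))
    (hC : NilMinLiftedCover (Subgroup.center (GL (Fin 2) F)) (sqDet F) C)
    (At : Subgroup (GL (Fin 2) F)) (hAt : At ∈ C)
    (hnot : ∀ g : GL (Fin 2) F, ¬ At ≤ cj g (Bor F))
    (hfix : ∀ x ∈ At, ∃ g : GL (Fin 2) F, x ∈ cj g (Bor F)) : False := by
  classical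
  have hiii := cj_Up_mem C hC
  obtain ⟨hcov, hmin, hnil⟩ := hC
  have hN : (sqDet F).Normal := inferInstance
  let φ : Subgroup (GL (Fin 2) F) → Subgroup (GL (Fin 2) F) := fun A =>
    if h : ∃ g : GL (Fin 2) F, A = cj g (Up F) then cj (Classical.choose h) (Bor F) ⊓ sqDet F
    else A
  have hφ1 : ∀ A (h : ∃ g : GL (Fin 2) F, A = cj g (Up F)),
      φ A = cj (Classical.choose h) (Bor F) ⊓ sqDet F := by
    intro A h
    simp only [φ, dif_pos h]
  have hφ2 : ∀ A, (¬ ∃ g : GL (Fin 2) F, A = cj g (Up F)) → φ A = A := by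
    intro A h
    simp only [φ, dif_neg h]
  have hproper : ∀ g : GL (Fin 2) F, cj g (Bor F) ⊓ sqDet F ≠ sqDet F := by
    intro g h
    have h1 : g * lU F * g⁻¹ ∈ sqDet F := hN.conj_mem _ (range_le_sqDet lU_mem_range) g
    rw [← h] at h1
    exact conj_notMem_cj_Bor g (lU F) lU_notMem_Bor h1.1
  let C' : Finset (Subgroup (GL (Fin 2) F)) := (C.erase At).image φ
  have hC' : LiftedCover (Subgroup.center (GL (Fin 2) F)) (sqDet F) C' := by
    refine ⟨?_, ?_⟩
    · intro B' hB'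
      obtain ⟨A, hA, rfl⟩ := Finset.mem_image.1 hB'
      have hAC : A ∈ C := Finset.mem_of_mem_erase hA
      by_cases h : ∃ g : GL (Fin 2) F, A = cj g (Up F)
      · rw [hφ1 A h]
        exact ⟨le_inf (center_le_cj _ center_le_Bor) center_le_sqDet, inf_le_right, hproper _⟩
      · rw [hφ2 A h]; exact hcov.mem A hAC
    · intro x hx
      obtain ⟨A, hA, hxA⟩ := hcov.cover x hx
      by_cases hAt' : A = At
      · rw [hAt'] at hxA
        obtain ⟨g, hg⟩ := hfix x hxA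
        have hAg : cj g (Up F) ∈ C := (hiii g).1
        have hne : cj g (Up F) ≠ At := by
          intro h
          apply hnot g
          rw [← h]; exact cj_mono g Up_le_Bor
        have hex : ∃ g' : GL (Fin 2) F, cj g (Up F) = cj g' (Up F) := ⟨g, rfl⟩
        refine ⟨φ (cj g (Up F)), Finset.mem_image.2 ⟨_, Finset.mem_erase.2 ⟨hne, hAg⟩, rfl⟩, ?_⟩
        rw [hφ1 _ hex]
        have := cj_Bor_eq_of_cj_Up_eq g (Classical.choose hex) (Classical.choose_spec hex)
        rw [← this]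
        exact ⟨hg, hx⟩
      · refine ⟨φ A, Finset.mem_image.2 ⟨A, Finset.mem_erase.2 ⟨hAt', hA⟩, rfl⟩, ?_⟩
        by_cases h : ∃ g : GL (Fin 2) F, A = cj g (Up F)
        · rw [hφ1 A h]
          refine ⟨?_, hx⟩
          have hA' := Classical.choose_spec h
          have : x ∈ cj (Classical.choose h) (Up F) := by rw [← hA']; exact hxA
          exact cj_mono _ Up_le_Bor this
        · rw [hφ2 A h]; exact hxA
  have hcard : C'.card < C.card := by
    have h1 : C'.card ≤ (C.erase At).card := Finset.card_image_le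
    have h2 : (C.erase At).card = C.card - 1 := Finset.card_erase_of_mem hAt
    have h3 : 0 < C.card := Finset.card_pos.2 ⟨At, hAt⟩
    omega
  exact absurd (hmin C' hC') (by omega)

/-- (iv) -/
theorem not_le_cj_Bor_of_diag (C : Finset (Subgroup (GL (Fin 2) F)))
    (hC : NilMinLiftedCover (Subgroup.center (GL (Fin 2) F)) (sqDet F) C)
    (At : Subgroup (GL (Fin 2) F)) (hAt : At ∈ C) (t : GL (Fin 2) F) (ht : t ∈ At)
    (ht1 : t 0 1 = 0) (ht2 : t 1 0 = 0) (ht3 : t 0 0 ≠ t 1 1) (g : GL (Fin 2) F) :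
    ¬ At ≤ cj g (Bor F) := by
  intro h
  have e := (cj_Up_mem C hC g).2 At hAt h
  rw [e] at ht
  exact diag_notMem_cj_Up t g ht1 ht2 ht3 ht

theorem exists_sq_ne_one [Fintype F] (hq : 4 ≤ Fintype.card F) : ∃ a : F, a ≠ 0 ∧ a ^ 2 ≠ 1 := by
  classical
  by_contra hcon
  push Not at hcon
  have hsub : (Finset.univ : Finset F) ⊆ {0, 1, -1} := by
    intro a _
    by_cases ha : a = 0
    · simp [ha]
    · have h1 := hcon a ha
      have h2 : (a - 1) * (a + 1) = 0 := by linear_combination h1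
      rcases mul_eq_zero.1 h2 with h3 | h3
      · have : a = 1 := sub_eq_zero.1 h3
        simp [this]
      · have : a = -1 := eq_neg_of_add_eq_zero_left h3
        simp [this]
  have h1 := Finset.card_le_card hsub
  have h2 : ({0, 1, -1} : Finset F).card ≤ 3 := Finset.card_le_three
  rw [Finset.card_univ] at h1
  omega

end Cfsg.Agent.Lib.Helper8.NMC
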