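import Mathlib
import Cfsg.Agent.Lib.Helper8.NMC3

set_option autoImplicit false

/-!
# S3894, the case `n = 2`: the torus member (parts (iv), (v)) and the final statement.
-/

namespace Cfsg.Agent.Lib.Helper8.NMC

open Matrix Cfsg.Agent.Lib.Helper7.NilCov

variable {F : Type*} [Field F]

/-- A conjugate of a monomial matrix of square determinant fixes a line, if `-1` is a square. -/
theorem mem_cj_Bor_of_mon (i : F) (hi : i ^ 2 = -1) (x h : GL (Fin 2) F) (hx : x ∈ sqDet F)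
    (hmon : IsMon (h⁻¹ * x * h)) : ∃ g : GL (Fin 2) F, x ∈ cj g (Bor F) := by
  have hN : (sqDet F).Normal := inferInstance
  obtain ⟨y, hy⟩ : ∃ y : GL (Fin 2) F, y = h⁻¹ * x * h := ⟨_, rfl⟩
  rw [← hy] at hmon
  have hxy : x * h = h * y := by rw [hy]; group
  rcases hmon with ⟨h1, h2⟩ | ⟨h1, h2⟩
  · refine ⟨h, ?_⟩
    rw [mem_cj]
    exact ⟨y, h2, hxy⟩
  · have hyS : y ∈ sqDet F := by
      have := hN.conj_mem x hx h⁻¹
      rw [inv_inv] at this
      rw [hy]; exact this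
    rw [mem_sqDet_iff] at hyS
    obtain ⟨ζ, hζ0, hζ⟩ := hyS
    rw [h1, h2, zero_mul, zero_sub] at hζ
    have hκ : (i * ζ) ^ 2 = y 0 1 * y 1 0 := by
      rw [mul_pow, hi, hζ]; ring
    obtain ⟨g, hg⟩ := antidiag_mem_cj y h1 h2 (i * ζ) hκ
    rw [mem_cj] at hg
    obtain ⟨b, hb, hyb⟩ := hg
    refine ⟨h * g, ?_⟩
    rw [mem_cj]
    refine ⟨b, hb, ?_⟩
    calc x * (h * g) = (x * h) * g := by group
      _ = h * (y * g) := by rw [hxy]; group
      _ = h * g * b := by rw [hyb]; group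

/-- (v) -/
theorem torus_fix (At : Subgroup (GL (Fin 2) F)) [Group.IsNilpotent At] (hAtH : At ≤ sqDet F)
    (t : GL (Fin 2) F) (ht : t ∈ At) (ht1 : t 0 1 = 0) (ht2 : t 1 0 = 0) (ht3 : t 0 0 ≠ t 1 1)
    (hnotB : ¬ At ≤ Bor F) : ∀ x ∈ At, ∃ g : GL (Fin 2) F, x ∈ cj g (Bor F) := by
  have htZ : t ∉ Subgroup.center (GL (Fin 2) F) := by
    intro h
    rw [mem_center_iff] at h
    exact ht3 h.2.2
  have hA : ¬ At ≤ Subgroup.center (GL (Fin 2) F) := fun h => htZ (h ht)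
  obtain ⟨z, hzA, hzZ, hz⟩ := exists_central_mod (Subgroup.center (GL (Fin 2) F)) At hA
  have r1 := rel_of_comm z t _ (rfl : z * t * z⁻¹ * t⁻¹ = _)
  rcases mon_of_rel' t z _ (hz t ht) ht1 ht2 ht3 r1 with ⟨z1, z2⟩ | ⟨z1, z2, z3⟩
  · -- case (a): z diagonal
    have hz3 : z 0 0 ≠ z 1 1 := by
      intro h
      apply hzZ
      rw [mem_center_iff]
      exact ⟨z1, z2, h⟩
    have hmon : ∀ x ∈ At, (x 0 1 = 0 ∧ x 1 0 = 0) ∨ (x 0 0 = 0 ∧ x 1 1 = 0 ∧ z 0 0 = - z 1 1) := by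
      intro x hx
      exact mon_of_rel z x _ (hz x hx) z1 z2 hz3 (rel_of_comm z x _ rfl)
    have hneg : z 0 0 = - z 1 1 := by
      by_contra hne
      apply hnotB
      intro x hx
      rcases hmon x hx with ⟨-, h2⟩ | ⟨-, -, h3⟩
      · exact h2
      · exact absurd h3 hne
    -- -1 is a square
    have hzS := hAtH hzA
    rw [mem_sqDet_iff] at hzS
    obtain ⟨ζ, hζ0, hζ⟩ := hzS
    have hdz := det_ne z
    rw [z1, zero_mul, sub_zero] at hdz hζ
    have hz11 : z 1 1 ≠ 0 := right_ne_zero_of_mul hdz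
    have hi : (ζ / z 1 1) ^ 2 = -1 := by
      rw [div_pow, hζ, hneg]
      field_simp
    intro x hx
    apply mem_cj_Bor_of_mon _ hi x 1 (hAtH hx)
    rw [inv_one, one_mul, mul_one]
    rcases hmon x hx with h | ⟨h1, h2, -⟩
    · exact Or.inl h
    · exact Or.inr ⟨h1, h2⟩
  · -- case (b): z antidiagonal, t₀₀ = - t₁₁
    have h2ne : (2 : F) ≠ 0 := by
      intro h2
      apply ht3
      rw [z3]
      have : (2 : F) * t 1 1 = 0 := by rw [h2, zero_mul]
      linear_combination -this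
    -- -1 is a square
    have htS := hAtH ht
    rw [mem_sqDet_iff] at htS
    obtain ⟨ζ, hζ0, hζ⟩ := htS
    have hdt := det_ne t
    rw [ht1, zero_mul, sub_zero] at hdt hζ
    have ht11 : t 1 1 ≠ 0 := right_ne_zero_of_mul hdt
    have hi : (ζ / t 1 1) ^ 2 = -1 := by
      rw [div_pow, hζ, z3]
      field_simp
    obtain ⟨i, hi'⟩ : ∃ i : F, i = ζ / t 1 1 := ⟨_, rfl⟩
    rw [← hi'] at hi
    have hi0 : i ≠ 0 := by
      intro h
      rw [h] at hi
      norm_num at hi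
    -- eigen-decomposition of z
    have hzS := hAtH hzA
    rw [mem_sqDet_iff] at hzS
    obtain ⟨ζz, hζz0, hζz⟩ := hzS
    rw [z1, z2, zero_mul, zero_sub] at hζz
    obtain ⟨κ, hκdef⟩ : ∃ κ : F, κ = i * ζz := ⟨_, rfl⟩
    have hκ0 : κ ≠ 0 := by rw [hκdef]; exact mul_ne_zero hi0 hζz0
    have hκ : κ ^ 2 = z 0 1 * z 1 0 := by
      rw [hκdef, mul_pow, hi, hζz]; ring
    have hdz := det_ne z
    rw [z1, z2, zero_mul, zero_sub, neg_ne_zero] at hdz
    have hz01 : z 0 1 ≠ 0 := left_ne_zero_of_mul hdz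
    have hdh : z 0 1 * (-κ) - z 0 1 * κ ≠ 0 := by
      have : z 0 1 * (-κ) - z 0 1 * κ = -(2 * (z 0 1 * κ)) := by ring
      rw [this, neg_ne_zero]
      exact mul_ne_zero h2ne (mul_ne_zero hz01 hκ0)
    have hdd : κ * (-κ) - 0 * 0 ≠ 0 := by
      rw [mul_zero, sub_zero, mul_neg, neg_ne_zero]; exact mul_ne_zero hκ0 hκ0
    obtain ⟨h, hh⟩ : ∃ h : GL (Fin 2) F, h = mk2 (z 0 1) (z 0 1) κ (-κ) hdh := ⟨_, rfl⟩
    obtain ⟨d, hd⟩ : ∃ d : GL (Fin 2) F, d = mk2 κ 0 0 (-κ) hdd := ⟨_, rfl⟩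
    have hzh : z * h = h * d := by
      apply ext2
      · rw [mul00, mul00, hh, hd]; simp only [mk2_00, mk2_01, mk2_10, mk2_11]; rw [z1]; ring
      · rw [mul01, mul01, hh, hd]; simp only [mk2_00, mk2_01, mk2_10, mk2_11]; rw [z1]; ring
      · rw [mul10, mul10, hh, hd]; simp only [mk2_00, mk2_01, mk2_10, mk2_11]; rw [z2]
        linear_combination -hκ
      · rw [mul11, mul11, hh, hd]; simp only [mk2_00, mk2_01, mk2_10, mk2_11]; rw [z2]
        linear_combination -hκ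
    have hd_eq : h⁻¹ * z * h = d := by
      rw [mul_assoc, hzh]; group
    have hd1 : d 0 1 = 0 := by rw [hd]; rfl
    have hd2 : d 1 0 = 0 := by rw [hd]; rfl
    have hd3 : d 0 0 ≠ d 1 1 := by
      rw [hd]
      simp only [mk2_00, mk2_11]
      intro hkk
      have : (2 : F) * κ = 0 := by linear_combination hkk
      rcases mul_eq_zero.1 this with h' | h'
      · exact h2ne h'
      · exact hκ0 h'
    intro x hx
    apply mem_cj_Bor_of_mon i hi x h (hAtH hx)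
    have r2 := rel_conj h z x _ (hz x hx) (rel_of_comm z x _ rfl)
    rw [hd_eq] at r2
    rcases mon_of_rel d _ _ (hz x hx) hd1 hd2 hd3 r2 with h' | ⟨h1, h2, -⟩
    · exact Or.inl h'
    · exact Or.inr ⟨h1, h2⟩

/-- **The case `n = 2` of S3894** (statement fixed by helper7's assembly file). -/
theorem no_nilMin_two {F : Type*} [Field F] [Fintype F] (hq : 4 ≤ Fintype.card F)
    (H : Subgroup (GL (Fin 2) F)) (hZ : Subgroup.center (GL (Fin 2) F) ≤ H)
    (hSL : (Matrix.SpecialLinearGroup.toGL :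
      Matrix.SpecialLinearGroup (Fin 2) F →* GL (Fin 2) F).range ≤ H)
    (C : Finset (Subgroup (GL (Fin 2) F)))
    (hC : Cfsg.Agent.Lib.Helper7.NilCov.NilMinLiftedCover (Subgroup.center (GL (Fin 2) F)) H C) :
    False := by
  by_cases hH : sqDet F = H
  · subst hH
    obtain ⟨a, ha0, ha2⟩ := exists_sq_ne_one hq
    have hdt : a * a⁻¹ - 0 * 0 ≠ 0 := by
      rw [mul_inv_cancel₀ ha0]; norm_num
    obtain ⟨t, htdef⟩ : ∃ t : GL (Fin 2) F, t = mk2 a 0 0 a⁻¹ hdt := ⟨_, rfl⟩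
    have ht1 : t 0 1 = 0 := by rw [htdef]; rfl
    have ht2 : t 1 0 = 0 := by rw [htdef]; rfl
    have ht3 : t 0 0 ≠ t 1 1 := by
      rw [htdef]
      simp only [mk2_00, mk2_11]
      intro h
      apply ha2
      have : a * a = a * a⁻¹ := by rw [← h]
      rw [mul_inv_cancel₀ ha0] at this
      rw [pow_two]; exact this
    have htS : t ∈ sqDet F := by
      apply range_le_sqDet
      rw [mem_range_toGL, htdef]
      simp only [mk2_00, mk2_01, mk2_10, mk2_11]
      rw [mul_inv_cancel₀ ha0]; ring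
    obtain ⟨At, hAt, htA⟩ := hC.1.cover t htS
    have hnot := not_le_cj_Bor_of_diag C hC At hAt t htA ht1 ht2 ht3
    have hnil := hC.2.2 At hAt
    have hnotB : ¬ At ≤ Bor F := by
      have := hnot 1
      rwa [cj_one] at this
    have hfix := torus_fix At (hC.1.mem At hAt).2.1 t htA ht1 ht2 ht3 hnotB
    exact false_of_torus_member C hC At hAt hnot hfix
  · exact false_of_ne_sqDet H hZ hSL C hC hH

end Cfsg.Agent.Lib.Helper8.NMC
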