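import Mathlib
import Cfsg.Prelude.Def_Blocks
import Cfsg.Prelude.Def_BrauerPairs
import Cfsg.Agent.Lib.Helper8.LP2

/-!
# Subgroups of a subgroup `X` versus their images in `G`: transport of blocks and stabilizers
-/

set_option autoImplicit false
set_option linter.unusedSectionVars false

namespace Cfsg.Agent.Lib.Helper8

open Cfsg
open scoped ComplexConjugate
open Cfsg.Agent.Lib.Helper1 Cfsg.Agent.Lib.Helper4

universe u

section

variable {G : Type u} [Group G] (X : Subgroup G)

theorem mapIso_le (K' : Subgroup X) (K : Subgroup G) (h : K'.map X.subtype = K) : K ≤ X := by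
  rw [← h]
  rintro _ ⟨c, _, rfl⟩
  exact c.2

theorem mapIso_mem_iff (K' : Subgroup X) (K : Subgroup G) (h : K'.map X.subtype = K) (c : X) :
    (c : G) ∈ K ↔ c ∈ K' := by
  rw [← h]
  exact Subgroup.mem_map_iff_mem X.subtype_injective

/-- `K' ≃* K` when `K` is the image of `K'` in `G`. -/
def mapIso (K' : Subgroup X) (K : Subgroup G) (h : K'.map X.subtype = K) : K' ≃* K where
  toFun c := ⟨((c : X) : G), (mapIso_mem_iff X K' K h c).2 c.2⟩
  invFun c := ⟨⟨(c : G), mapIso_le X K' K h c.2⟩,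
    (mapIso_mem_iff X K' K h ⟨c, mapIso_le X K' K h c.2⟩).1 c.2⟩
  left_inv _ := rfl
  right_inv _ := rfl
  map_mul' _ _ := rfl

@[simp] theorem mapIso_apply_coe (K' : Subgroup X) (K : Subgroup G) (h : K'.map X.subtype = K)
    (c : K') : ((mapIso X K' K h c : _) : G) = ((c : X) : G) := rfl

@[simp] theorem mapIso_symm_apply_coe (K' : Subgroup X) (K : Subgroup G)
    (h : K'.map X.subtype = K) (c : K) :
    ((((mapIso X K' K h).symm c : _) : X) : G) = (c : G) := rfl

/-- The centralizer in `X` of a subgroup of `X`, viewed in `G`. -/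
theorem centralizer_map_subtype_eq_inf (R' : Subgroup X) :
    (Subgroup.centralizer (R' : Set X)).map X.subtype =
      Subgroup.centralizer ((R'.map X.subtype : Subgroup G) : Set G) ⊓ X := by
  ext y
  constructor
  · rintro ⟨c, hc, rfl⟩
    exact ⟨(mem_centralizer_map_subtype X R' c).2 hc, c.2⟩
  · rintro ⟨hy, hyX⟩
    exact ⟨⟨y, hyX⟩, (mem_centralizer_map_subtype X R' ⟨y, hyX⟩).1 hy, rfl⟩

end

section

variable {G : Type u} [Group G] [Fintype G] {M : Ideal AlgInt} {p : ℕ} (X : Subgroup G)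

theorem stabilizesBlock_mapIso_iff (K' : Subgroup X) (K : Subgroup G)
    (h : K'.map X.subtype = K) (g' : Set (IrrCharacter K')) (x : X) :
    StabilizesBlock K (irrMap (mapIso X K' K h) '' g') (x : G) ↔ StabilizesBlock K' g' x := by
  have hnorm : (x : G) ∈ Subgroup.normalizer (K : Set G) ↔
      x ∈ Subgroup.normalizer (K' : Set X) := by
    rw [← h]
    exact mem_normalizer_map_subtype_iff X _ x
  unfold StabilizesBlock
  rw [hnorm]
  apply and_congr_right
  intro _
  constructor
  · intro hh χ hχ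
    obtain ⟨_, ⟨χ', hχ', rfl⟩, hc⟩ := hh _ ⟨χ, hχ, rfl⟩
    refine ⟨χ', hχ', ?_⟩
    intro k k' hk
    have := hc (mapIso X K' K h k) (mapIso X K' K h k') (by
      rw [mapIso_apply_coe, mapIso_apply_coe, hk]
      rfl)
    rwa [irrMap_apply_map, irrMap_apply_map] at this
  · rintro hh _ ⟨χ, hχ, rfl⟩
    obtain ⟨χ', hχ', hc⟩ := hh χ hχ
    refine ⟨_, ⟨χ', hχ', rfl⟩, ?_⟩
    intro k k' hk
    rw [irrMap_apply, irrMap_apply]
    apply hc
    apply Subtype.ext
    rw [mapIso_symm_apply_coe, hk]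
    rfl

end

end Cfsg.Agent.Lib.Helper8
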