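import Mathlib
import Cfsg.Prelude.Def_Blocks
import Cfsg.Prelude.Def_BrauerPairs
import Cfsg.Agent.Lib.Helper8.NP1
import Cfsg.Agent.Lib.Helper8.HK1
import Cfsg.Agent.Lib.Helper8.REL3
import Cfsg.Agent.Lib.Helper8.BlockPairs

/-!
# Brauer pairs of a normal subgroup `N` and of `G` at a subgroup of `N`

`c` is a block of `N ⊴ G` and `B` a block of `G` with the same idempotent.
-/

set_option autoImplicit false
set_option linter.unusedSectionVars false

namespace Cfsg.Agent.Lib.Helper8

open Cfsg
open scoped ComplexConjugate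
open Cfsg.Agent.Lib.Helper1 Cfsg.Agent.Lib.Helper4

universe u

section

variable {G : Type u} [Group G] [Fintype G] {M : Ideal AlgInt} {p : ℕ} (N : Subgroup G)
  [hNn : N.Normal]

/-- The Brauer functional of `c` at `R' ≤ N`, computed in `G`. -/
theorem brauerOmega_normal_eq {c : Set (IrrCharacter N)} {B : Set (IrrCharacter G)}
    (hBc : ∀ g : G, blockCoeff B g = subgroupBlockCoeff N c g) (R' : Subgroup N)
    [Fintype ↥(Subgroup.centralizer ((R'.map N.subtype : Subgroup G) : Set G) ⊓ N)]
    (ξ' : IrrCharacter (Subgroup.centralizer (R' : Set N))) :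
    brauerOmega R' (blockCoeff c) (ξ' : Subgroup.centralizer (R' : Set N) → ℂ) =
      omega (irrMap (mapIso N _ _ (centralizer_map_subtype_eq_inf N R')) ξ' : _ → ℂ)
        (fun k : ↥(Subgroup.centralizer ((R'.map N.subtype : Subgroup G) : Set G) ⊓ N) =>
          blockCoeff B (k : G)) := by
  classical
  have : Fintype N := Fintype.ofFinite _
  have : Fintype (Subgroup.centralizer (R' : Set N)) := Fintype.ofFinite _
  rw [brauerOmega_eq_omega, omega_irrMap]
  congr 1
  funext x
  rw [mapIso_apply_coe, hBc, subgroupBlockCoeff_of_mem _ _ (x : N).2]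

/-- Central characters of a covering block of `C_G(R)` and of the covered block of `C_N(R)` agree on
the truncated idempotent. -/
theorem brauerOmega_cong_of_coversIn (hM : M.IsPrime) {c : Set (IrrCharacter N)}
    {B : Set (IrrCharacter G)}
    (hBc : ∀ g : G, blockCoeff B g = subgroupBlockCoeff N c g) (hBS : ∀ g, MemLocalRing M (blockCoeff B g))
    (R : Subgroup G)
    {f₁ : Set (IrrCharacter (Subgroup.centralizer (R : Set G)))} (hf₁ : IsPBlock M f₁)
    {g : Set (IrrCharacter ↥(Subgroup.centralizer (R : Set G) ⊓ N))} (hg : IsPBlock M g)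
    [Fintype (Subgroup.centralizer (R : Set G))]
    [Fintype ↥(Subgroup.centralizer (R : Set G) ⊓ N)]
    (hcov : CoversIn (Subgroup.centralizer (R : Set G)) (Subgroup.centralizer (R : Set G) ⊓ N)
      inf_le_left f₁ g)
    {ζ : IrrCharacter (Subgroup.centralizer (R : Set G))} (hζ : ζ ∈ f₁)
    {ξ : IrrCharacter ↥(Subgroup.centralizer (R : Set G) ⊓ N)} (hξ : ξ ∈ g) :
    MemLocalIdeal M (brauerOmega R (blockCoeff B) (ζ : _ → ℂ) -
      omega (ξ : _ → ℂ) (fun k : ↥(Subgroup.centralizer (R : Set G) ⊓ N) => blockCoeff B (k : G))) := by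
  classical
  obtain ⟨C, hC⟩ : ∃ C : Subgroup G, C = Subgroup.centralizer (R : Set G) := ⟨_, rfl⟩
  have hKC : Subgroup.centralizer (R : Set G) ⊓ N ≤ Subgroup.centralizer (R : Set G) := inf_le_left
  have hnorm : Subgroup.centralizer (R : Set G) ≤
      Subgroup.normalizer ((Subgroup.centralizer (R : Set G) ⊓ N : Subgroup G) : Set G) := by
    intro x hx
    rw [Subgroup.mem_normalizer_iff]
    intro k
    constructor
    · rintro ⟨h1, h2⟩
      exact ⟨Subgroup.mul_mem _ (Subgroup.mul_mem _ hx h1) (Subgroup.inv_mem _ hx),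
        hNn.conj_mem k h2 x⟩
    · rintro ⟨h1, h2⟩
      have e1 : k = x⁻¹ * (x * k * x⁻¹) * x := by group
      refine ⟨?_, ?_⟩
      · rw [e1]
        exact Subgroup.mul_mem _ (Subgroup.mul_mem _ (Subgroup.inv_mem _ hx) h1) hx
      · have := hNn.conj_mem _ h2 x⁻¹
        rw [inv_inv] at this
        rw [e1]
        exact this
  have hN' : ((Subgroup.centralizer (R : Set G) ⊓ N).subgroupOf
      (Subgroup.centralizer (R : Set G))).Normal :=
    (Subgroup.normal_subgroupOf_iff_le_normalizer hKC).2 hnorm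
  have : Fintype ((Subgroup.centralizer (R : Set G) ⊓ N).subgroupOf
      (Subgroup.centralizer (R : Set G))) := Fintype.ofFinite _
  have hcov' := (coversIn_iff _ _ hKC f₁ g).1 hcov
  set F : Subgroup.centralizer (R : Set G) → ℂ := fun x => blockCoeff B (x : G) with hF
  have hFcl : IsClassFunction (Subgroup.centralizer (R : Set G)) F := by
    intro a b
    exact isClassFunction_blockCoeff B (a : G) (b : G)
  have hFS : ∀ x, MemLocalRing M (F x) := fun x => hBS _
  have hsupp : ∀ x : Subgroup.centralizer (R : Set G),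
      x ∉ (Subgroup.centralizer (R : Set G) ⊓ N).subgroupOf (Subgroup.centralizer (R : Set G)) →
      F x = 0 := by
    intro x hx
    have hxN : (x : G) ∉ N := fun h => hx (Subgroup.mem_subgroupOf.2 ⟨x.2, h⟩)
    rw [hF]
    simp only
    rw [hBc, subgroupBlockCoeff_of_not_mem _ _ hxN]
  have key := omega_cong_of_covers_supported _ hM hf₁ (isPBlock_trB _ _ hKC hg) hcov' hζ
    (mem_trB _ _ hKC hξ) hFcl hFS hsupp
  rw [brauerOmega_eq_omega]
  convert key using 2
  rw [omega_irrMap]
  rfl

end

end Cfsg.Agent.Lib.Helper8
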