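import Mathlib
import Cfsg.Prelude.Def_Blocks
import Cfsg.Prelude.Def_BrauerPairs
import Cfsg.Agent.Lib.Helper8.NP2
import Cfsg.Agent.Lib.Helper8.HK2
import Cfsg.Agent.Lib.Helper8.BlockFirstMain3

/-!
# Pairs of `N` and of `G`; relative conjugacy of covered blocks
-/

set_option autoImplicit false
set_option linter.unusedSectionVars false

namespace Cfsg.Agent.Lib.Helper8

open Cfsg
open scoped ComplexConjugate
open Cfsg.Agent.Lib.Helper1 Cfsg.Agent.Lib.Helper4

universe u

section

variable {G : Type u} [Group G] [Fintype G] {M : Ideal AlgInt} {p : ℕ} [Fact p.Prime]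
  (N : Subgroup G) [hNn : N.Normal]

/-- **Pairs at `R ≤ N`**: if the block `f₁` of `C_G(R)` covers the block `g` of `C_N(R)`, then
`(R, f₁)` is a `B`-pair iff `(R, g)` is a `c`-pair. -/
theorem pair_iff_of_coversIn (hM : IsPModular p M) {c : Set (IrrCharacter N)}
    {B : Set (IrrCharacter G)} (hc : IsPBlock M c) (hB : IsPBlock M B)
    (hBc : ∀ g : G, blockCoeff B g = subgroupBlockCoeff N c g) (R' : Subgroup N)
    [Fintype (Subgroup.centralizer ((R'.map N.subtype : Subgroup G) : Set G))]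
    [Fintype ↥(Subgroup.centralizer ((R'.map N.subtype : Subgroup G) : Set G) ⊓ N)]
    {g' : Set (IrrCharacter (Subgroup.centralizer (R' : Set N)))} (hg' : IsPBlock M g')
    {f₁ : Set (IrrCharacter (Subgroup.centralizer ((R'.map N.subtype : Subgroup G) : Set G)))}
    (hf₁ : IsPBlock M f₁)
    (hcov : CoversIn (Subgroup.centralizer ((R'.map N.subtype : Subgroup G) : Set G))
      (Subgroup.centralizer ((R'.map N.subtype : Subgroup G) : Set G) ⊓ N) inf_le_left f₁
      (irrMap (mapIso N _ _ (centralizer_map_subtype_eq_inf N R')) '' g')) :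
    IsBrauerPairOf p M B (R'.map N.subtype) f₁ ↔ IsBrauerPairOf p M c R' g' := by
  classical
  have hMp := isPModular_isPrime hM
  have hBS := (blockCoeff_spec hMp hB).2.1
  have hgb := isPBlock_image_irrMap (M := M)
    (mapIso N _ _ (centralizer_map_subtype_eq_inf N R')) hg'
  constructor
  · rintro ⟨⟨hRp, _⟩, _, h3⟩
    refine ⟨⟨(isPGroup_map_subtype_iff N R').1 hRp, hg'⟩, hc, ?_⟩
    intro ξ' hξ'
    obtain ⟨ζ, hζ⟩ := isPBlock_nonempty hMp hf₁
    rw [brauerOmega_normal_eq N hBc R' ξ']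
    have h1 := brauerOmega_cong_of_coversIn N hMp hBc hBS _ hf₁ hgb hcov hζ ⟨ξ', hξ', rfl⟩
    exact cong_trans hMp (cong_symm h1) (h3 ζ hζ)
  · rintro ⟨⟨hRp, _⟩, _, h3⟩
    refine ⟨⟨hRp.map _, hf₁⟩, hB, ?_⟩
    intro ζ hζ
    obtain ⟨ξ', hξ'⟩ := isPBlock_nonempty hMp hg'
    have h1 := brauerOmega_cong_of_coversIn N hMp hBc hBS _ hf₁ hgb hcov hζ ⟨ξ', hξ', rfl⟩
    have h2 := h3 ξ' hξ'
    rw [brauerOmega_normal_eq N hBc R' ξ'] at h2
    exact cong_trans hMp h1 h2

end

section

variable {G : Type u} [Group G] [Fintype G] {M : Ideal AlgInt} (H K : Subgroup G) (hKH : K ≤ H)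
  [Fintype H] [Fintype K]

theorem conjIrr_trB (x : H)
    (hx : x ∈ Subgroup.normalizer ((K.subgroupOf H : Subgroup H) : Set H))
    (hx' : (x : G) ∈ Subgroup.normalizer (K : Set G)) (θ : IrrCharacter K) :
    conjIrr (K.subgroupOf H) x hx (irrMap (Subgroup.subgroupOfEquivOfLe hKH).symm θ) =
      irrMap (Subgroup.subgroupOfEquivOfLe hKH).symm (conjIrr K (x : G) hx' θ) := by
  apply Subtype.ext
  funext k'
  rw [conjIrr_apply, irrMap_apply, irrMap_apply, conjIrr_apply]
  congr 1

include hKH in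
/-- Blocks of `K ⊴ H` covered by the same block of `H` are `H`-conjugate. -/
theorem rel_exists_conj_of_coversIn (hnorm : H ≤ Subgroup.normalizer (K : Set G))
    (hM : M.IsPrime) {f : Set (IrrCharacter H)} (hf : IsPBlock M f)
    {d d' : Set (IrrCharacter K)} (hd : IsPBlock M d) (hd' : IsPBlock M d')
    (hcov : CoversIn H K hKH f d) (hcov' : CoversIn H K hKH f d') :
    ∃ (x : G) (_ : x ∈ H) (hx : x ∈ Subgroup.normalizer (K : Set G)),
      d' = conjIrr K x hx '' d := by
  classical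
  have : Fintype (K.subgroupOf H) := Fintype.ofFinite _
  have hN' : (K.subgroupOf H).Normal := (Subgroup.normal_subgroupOf_iff_le_normalizer hKH).2 hnorm
  obtain ⟨x, hx, hxd⟩ := exists_conj_of_covers (G := H) (K.subgroupOf H) hM hf
    (isPBlock_trB H K hKH hd) (isPBlock_trB H K hKH hd')
    ((coversIn_iff H K hKH f d).1 hcov) ((coversIn_iff H K hKH f d').1 hcov')
  have hx' : (x : G) ∈ Subgroup.normalizer (K : Set G) := hnorm x.2
  refine ⟨(x : G), x.2, hx', ?_⟩
  have h1 : conjIrr (K.subgroupOf H) x hx '' trB H K hKH d =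
      trB H K hKH (conjIrr K (x : G) hx' '' d) := by
    unfold trB
    rw [Set.image_image, Set.image_image]
    apply Set.image_congr
    intro θ _
    exact conjIrr_trB H K hKH x hx hx' θ
  rw [h1] at hxd
  have := congrArg (trB' H K hKH) hxd
  rwa [trB'_trB, trB'_trB] at this

end

end Cfsg.Agent.Lib.Helper8
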