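import Mathlib
import Cfsg.Prelude.Def_Blocks
import Cfsg.Prelude.Def_BrauerPairs

/-!
# A coprime action lemma
-/

set_option autoImplicit false

namespace Cfsg.Agent.Lib.Helper8

universe u

section

variable {G : Type u} [Group G]

/-- If `x ∈ N ⊴ G` has order prime to `p`, normalizes the `p`-group `Q` and centralizes `Q ∩ N`,
then it centralizes `Q`. -/
theorem mem_centralizer_of_centralizes_inf (p : ℕ) [Fact p.Prime] {Q N : Subgroup G}
    [hNn : N.Normal] (hQ : IsPGroup p Q) {x : G} (hxN : x ∈ N)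
    (hxQ : x ∈ Subgroup.normalizer (Q : Set G)) (hreg : ¬ p ∣ orderOf x)
    (hc : x ∈ Subgroup.centralizer ((Q ⊓ N : Subgroup G) : Set G)) :
    x ∈ Subgroup.centralizer (Q : Set G) := by
  rw [Subgroup.mem_centralizer_iff]
  intro q hq
  obtain ⟨r, hr⟩ : ∃ r : G, r = q⁻¹ * (x * q * x⁻¹) := ⟨_, rfl⟩
  have hrQ : r ∈ Q := by
    rw [hr]
    exact Q.mul_mem (Q.inv_mem hq) ((Subgroup.mem_normalizer_iff.1 hxQ q).1 hq)
  have hrN : r ∈ N := by
    have e1 : r = (q⁻¹ * x * q⁻¹⁻¹) * x⁻¹ := by rw [hr]; group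
    rw [e1]
    exact N.mul_mem (hNn.conj_mem x hxN q⁻¹) (N.inv_mem hxN)
  have hcomm : r * x = x * r := Subgroup.mem_centralizer_iff.1 hc r ⟨hrQ, hrN⟩
  have hcomm' : Commute x r := hcomm.symm
  have hqr : x * q * x⁻¹ = q * r := by rw [hr]; group
  have key : ∀ n : ℕ, x ^ n * q * (x ^ n)⁻¹ = q * r ^ n := by
    intro n
    induction n with
    | zero => simp
    | succ n ih =>
      have e1 : x ^ (n + 1) * q * (x ^ (n + 1))⁻¹ = x * (x ^ n * q * (x ^ n)⁻¹) * x⁻¹ := by
        rw [pow_succ']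
        group
      rw [e1, ih]
      have e2 : x * (q * r ^ n) * x⁻¹ = (x * q * x⁻¹) * (x * r ^ n * x⁻¹) := by group
      rw [e2, hqr]
      have e3 : x * r ^ n * x⁻¹ = r ^ n := by
        rw [(hcomm'.pow_right n).eq]
        group
      rw [e3, pow_succ', mul_assoc]
  have h1 := key (orderOf x)
  rw [pow_orderOf_eq_one, one_mul, inv_one, mul_one] at h1
  have h2 : r ^ orderOf x = 1 := by
    have := mul_left_cancel (a := q) (b := 1) (c := r ^ orderOf x) (by rw [mul_one]; exact h1)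
    exact this.symm
  obtain ⟨k, hk⟩ := hQ ⟨r, hrQ⟩
  have hk' : r ^ (p ^ k) = 1 := by
    have := congrArg Subtype.val hk
    simpa using this
  have h3 : orderOf r ∣ orderOf x := orderOf_dvd_of_pow_eq_one h2
  have h4 : orderOf r ∣ p ^ k := orderOf_dvd_of_pow_eq_one hk'
  have hcop : Nat.Coprime (orderOf x) (p ^ k) :=
    Nat.Coprime.pow_right k ((Nat.Prime.coprime_iff_not_dvd Fact.out).2 hreg).symm
  have h5 : orderOf r = 1 := Nat.eq_one_of_dvd_coprimes hcop h3 h4
  have h6 : r = 1 := orderOf_eq_one_iff.1 h5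
  rw [h6, mul_one] at hqr
  calc q * x = (x * q * x⁻¹) * x := by rw [hqr]
    _ = x * q := by group

end

end Cfsg.Agent.Lib.Helper8
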