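import Mathlib
import Cfsg.Prelude.Def_Blocks
import Cfsg.Prelude.Def_BrauerPairs
import Cfsg.Agent.Lib.Helper8.NP3
import Cfsg.Agent.Lib.Helper8.NP4
import Cfsg.Agent.Lib.Helper8.FS5
import Cfsg.Agent.Lib.Helper8.REL7
import Cfsg.Agent.Lib.Helper8.REL6

/-!
# Nilpotent blocks and normal subgroups of `p`-power index: the local steps
-/

set_option autoImplicit false
set_option linter.unusedSectionVars false

namespace Cfsg.Agent.Lib.Helper8

open Cfsg
open scoped ComplexConjugate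
open Cfsg.Agent.Lib.Helper1 Cfsg.Agent.Lib.Helper4

universe u

section

variable {G : Type u} [Group G]

theorem mem_normalizer_inf_normal (C N : Subgroup G) [hNn : N.Normal] {x : G}
    (hx : x ∈ Subgroup.normalizer (C : Set G)) :
    x ∈ Subgroup.normalizer ((C ⊓ N : Subgroup G) : Set G) := by
  rw [Subgroup.mem_normalizer_iff] at hx ⊢
  intro k
  constructor
  · rintro ⟨h1, h2⟩
    exact ⟨(hx k).1 h1, hNn.conj_mem k h2 x⟩
  · rintro ⟨h1, h2⟩
    refine ⟨(hx k).2 h1, ?_⟩
    have := hNn.conj_mem _ h2 x⁻¹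
    rw [inv_inv] at this
    have e1 : k = x⁻¹ * (x * k * x⁻¹) * x := by group
    rw [e1]
    exact this

end

section

variable {G : Type u} [Group G] [Fintype G] {M : Ideal AlgInt} {p : ℕ} [Fact p.Prime]
  (N : Subgroup G) [hNn : N.Normal]

/-- **Local step, upwards**: if `c` is nilpotent, a `p`-regular element of `N` stabilizing a `B`-pair
`(R, f₁)` with `R ≤ N` centralizes `R`. -/
theorem nilpotent_ext_step (hM : IsPModular p M) (hN : ∃ k : ℕ, N.index = p ^ k)
    {c : Set (IrrCharacter N)} (hc : IsPBlock M c) {B : Set (IrrCharacter G)} (hB : IsPBlock M B)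
    (hBc : ∀ g : G, blockCoeff B g = subgroupBlockCoeff N c g)
    (hnil : IsNilpotentBlock p M c) (R : Subgroup G) (hRN : R ≤ N)
    (f₁ : Set (IrrCharacter (Subgroup.centralizer (R : Set G))))
    (hRf₁ : IsBrauerPairOf p M B R f₁) {x : G}
    (hxR : x ∈ Subgroup.normalizer (R : Set G))
    (hxst : StabilizesBlock (Subgroup.centralizer (R : Set G)) f₁ x) (hxreg : IsPRegular p x) :
    x ∈ Subgroup.centralizer (R : Set G) := by
  classical
  obtain ⟨R', rfl⟩ : ∃ R' : Subgroup N, R = R'.map N.subtype :=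
    ⟨R.subgroupOf N, (Subgroup.map_subgroupOf_eq_of_le hRN).symm⟩
  have hMp := isPModular_isPrime hM
  have : Fintype (Subgroup.centralizer ((R'.map N.subtype : Subgroup G) : Set G)) :=
    Fintype.ofFinite _
  have : Fintype ↥(Subgroup.centralizer ((R'.map N.subtype : Subgroup G) : Set G) ⊓ N) :=
    Fintype.ofFinite _
  have hf₁ : IsPBlock M f₁ := hRf₁.1.2
  have hKC : Subgroup.centralizer ((R'.map N.subtype : Subgroup G) : Set G) ⊓ N ≤
      Subgroup.centralizer ((R'.map N.subtype : Subgroup G) : Set G) := inf_le_left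
  obtain ⟨g, hg, hcov⟩ := rel_exists_covered _ _ hKC hMp hf₁
  obtain ⟨g', hg'def⟩ : ∃ g' : Set (IrrCharacter (Subgroup.centralizer (R' : Set N))),
      g' = irrMap (mapIso N _ _ (centralizer_map_subtype_eq_inf N R')).symm '' g := ⟨_, rfl⟩
  have hgg' : irrMap (mapIso N _ _ (centralizer_map_subtype_eq_inf N R')) '' g' = g := by
    rw [hg'def]
    exact irrMap_image_symm_image _ g
  have hg' : IsPBlock M g' := by
    rw [hg'def]
    exact isPBlock_image_irrMap _ hg
  have hcov' : CoversIn _ _ hKC f₁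
      (irrMap (mapIso N _ _ (centralizer_map_subtype_eq_inf N R')) '' g') := by
    rw [hgg']
    exact hcov
  have hpair : IsBrauerPairOf p M c R' g' :=
    (pair_iff_of_coversIn N hM hc hB hBc R' hg' hf₁ hcov').1 hRf₁
  -- normalizers
  have hCK : Subgroup.centralizer ((R'.map N.subtype : Subgroup G) : Set G) ≤ Subgroup.normalizer
      ((Subgroup.centralizer ((R'.map N.subtype : Subgroup G) : Set G) ⊓ N : Subgroup G) : Set G) :=
    fun y hy => mem_normalizer_inf_normal _ N (Subgroup.le_normalizer hy)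
  have hxC := normalizer_le_normalizer_centralizer _ hxR
  have hxK := mem_normalizer_inf_normal _ N hxC
  obtain ⟨_, hf₁x⟩ := (stabilizesBlock_iff_image _ f₁ x).1 hxst
  have hcovx := coversIn_conj _ _ hKC x hxK hxC hcov
  rw [hf₁x] at hcovx
  obtain ⟨c₀, hc₀C, hc₀K, hconj⟩ := rel_exists_conj_of_coversIn _ _ hKC hCK hMp hf₁ hg
    (isPBlock_image_conjIrr _ x hxK hg) hcov hcovx
  -- the element `c₀⁻¹ x` stabilizes `g`
  have hy₀K : c₀⁻¹ * x ∈ Subgroup.normalizer
      ((Subgroup.centralizer ((R'.map N.subtype : Subgroup G) : Set G) ⊓ N : Subgroup G) : Set G) :=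
    Subgroup.mul_mem _ (Subgroup.inv_mem _ hc₀K) hxK
  have hy₀S : c₀⁻¹ * x ∈ pairStab (Subgroup.normalizer
      ((Subgroup.centralizer ((R'.map N.subtype : Subgroup G) : Set G) ⊓ N : Subgroup G) : Set G))
      _ g := by
    refine ⟨hy₀K, ?_⟩
    rw [stabilizesBlock_iff_image]
    refine ⟨hy₀K, ?_⟩
    rw [conjIrr_image_mul _ g c₀⁻¹ x (Subgroup.inv_mem _ hc₀K) hxK, hconj]
    exact conjIrr_image_inv_image _ g c₀ hc₀K
  obtain ⟨u, v, hu, hv, huv, ⟨k, hk⟩, hcop⟩ :=
    Cfsg.Agent.Lib.Helper6.exists_pPart_decomp_zpowers p (c₀⁻¹ * x)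
  have hvS := (Subgroup.zpowers_le.2 hy₀S) hv
  have hy₀R : c₀⁻¹ * x ∈ Subgroup.normalizer ((R'.map N.subtype : Subgroup G) : Set G) :=
    Subgroup.mul_mem _ (Subgroup.inv_mem _ (Subgroup.centralizer_le_normalizer _ hc₀C)) hxR
  have hzR := Subgroup.zpowers_le.2 hy₀R
  have hvreg : ¬ p ∣ orderOf v := (Nat.Prime.coprime_iff_not_dvd Fact.out).1 hcop.symm
  have hvN : v ∈ N := by
    by_contra h
    exact hvreg (dvd_orderOf_of_not_mem N Fact.out hN h)
  have hv1 : (⟨v, hvN⟩ : N) ∈ Subgroup.normalizer (R' : Set N) :=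
    (mem_normalizer_map_subtype_iff N R' ⟨v, hvN⟩).1 (hzR hv)
  have hv2 : StabilizesBlock (Subgroup.centralizer (R' : Set N)) g' ⟨v, hvN⟩ := by
    apply (stabilizesBlock_mapIso_iff N _ _ (centralizer_map_subtype_eq_inf N R') g' ⟨v, hvN⟩).1
    rw [hgg']
    exact hvS.2
  have hv3 : IsPRegular p (⟨v, hvN⟩ : N) := by
    unfold IsPRegular
    rw [← Subgroup.orderOf_coe]
    exact hvreg
  have hvc := hnil.2 R' g' hpair ⟨v, hvN⟩ hv1 hv2 hv3
  have hvC : v ∈ Subgroup.centralizer ((R'.map N.subtype : Subgroup G) : Set G) :=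
    (mem_centralizer_map_subtype N R' ⟨v, hvN⟩).2 hvc
  apply mem_centralizer_of_pRegular_of_eq_conj p _ hxR hxreg hk
  intro y
  have hx_eq : x = c₀ * (u * v) := by rw [← huv]; group
  have huR := hzR hu
  have h1 : v * (y : G) * v⁻¹ = y := by
    have := Subgroup.mem_centralizer_iff.1 hvC (y : G) y.2
    rw [← this]
    group
  have h2 : u * (y : G) * u⁻¹ ∈ R'.map N.subtype := (Subgroup.mem_normalizer_iff.1 huR y).1 y.2
  have h3 : c₀ * (u * (y : G) * u⁻¹) * c₀⁻¹ = u * (y : G) * u⁻¹ := by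
    have := Subgroup.mem_centralizer_iff.1 hc₀C _ h2
    rw [← this]
    group
  calc x * (y : G) * x⁻¹ = c₀ * (u * (v * (y : G) * v⁻¹) * u⁻¹) * c₀⁻¹ := by rw [hx_eq]; group
    _ = u * (y : G) * u⁻¹ := by rw [h1, h3]

end

end Cfsg.Agent.Lib.Helper8
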