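import Mathlib
import Cfsg.Prelude.Def_Blocks
import Cfsg.Prelude.Def_BrauerPairs
import Cfsg.Agent.Lib.Helper8.NP5
import Cfsg.Agent.Lib.Helper8.REL5

/-!
# Nilpotent blocks and normal subgroups of `p`-power index
-/

set_option autoImplicit false
set_option linter.unusedSectionVars false

namespace Cfsg.Agent.Lib.Helper8

open Cfsg
open scoped ComplexConjugate
open Cfsg.Agent.Lib.Helper1 Cfsg.Agent.Lib.Helper4

universe u

section

variable {G : Type u} [Group G] [Fintype G] {M : Ideal AlgInt} {p : ℕ} [Fact p.Prime]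
  (N : Subgroup G) [hNn : N.Normal]

/-- **Local step, downwards**: if `B` is nilpotent, a `p`-regular element of `N` stabilizing a
`c`-pair `(R', g')` centralizes `R'`. -/
theorem nilpotent_res_step (hM : IsPModular p M) (hN : ∃ k : ℕ, N.index = p ^ k)
    {c : Set (IrrCharacter N)} (hc : IsPBlock M c) {B : Set (IrrCharacter G)} (hB : IsPBlock M B)
    (hBc : ∀ g : G, blockCoeff B g = subgroupBlockCoeff N c g)
    (hnil : IsNilpotentBlock p M B) (R' : Subgroup N)
    (g' : Set (IrrCharacter (Subgroup.centralizer (R' : Set N))))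
    (hpair : IsBrauerPairOf p M c R' g') (x' : N)
    (hxN : x' ∈ Subgroup.normalizer (R' : Set N))
    (hxst : StabilizesBlock (Subgroup.centralizer (R' : Set N)) g' x')
    (hxreg : IsPRegular p x') : x' ∈ Subgroup.centralizer (R' : Set N) := by
  classical
  have hp : p.Prime := Fact.out
  have hMp := isPModular_isPrime hM
  have : Fintype (Subgroup.centralizer ((R'.map N.subtype : Subgroup G) : Set G)) :=
    Fintype.ofFinite _
  have : Fintype ↥(Subgroup.centralizer ((R'.map N.subtype : Subgroup G) : Set G) ⊓ N) :=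
    Fintype.ofFinite _
  have hKC : Subgroup.centralizer ((R'.map N.subtype : Subgroup G) : Set G) ⊓ N ≤
      Subgroup.centralizer ((R'.map N.subtype : Subgroup G) : Set G) := inf_le_left
  have hCK : Subgroup.centralizer ((R'.map N.subtype : Subgroup G) : Set G) ≤ Subgroup.normalizer
      ((Subgroup.centralizer ((R'.map N.subtype : Subgroup G) : Set G) ⊓ N : Subgroup G) : Set G) :=
    fun y hy => mem_normalizer_inf_normal _ N (Subgroup.le_normalizer hy)
  have hg' : IsPBlock M g' := hpair.1.2
  have hg := isPBlock_image_irrMap (M := M)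
    (mapIso N _ _ (centralizer_map_subtype_eq_inf N R')) hg'
  obtain ⟨f₁, hf₁, hcov⟩ := rel_exists_covers _ _ hKC hCK hMp hg
  have hBpair := (pair_iff_of_coversIn N hM hc hB hBc R' hg' hf₁ hcov).2 hpair
  have hxR : (x' : G) ∈ Subgroup.normalizer ((R'.map N.subtype : Subgroup G) : Set G) :=
    (mem_normalizer_map_subtype_iff N R' x').2 hxN
  have hxC := normalizer_le_normalizer_centralizer _ hxR
  have hxK := mem_normalizer_inf_normal _ N hxC
  have hxg := (stabilizesBlock_mapIso_iff N _ _ (centralizer_map_subtype_eq_inf N R') g' x').2 hxst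
  obtain ⟨_, hgx⟩ := (stabilizesBlock_iff_image _ _ (x' : G)).1 hxg
  have hcovx := coversIn_conj _ _ hKC (x' : G) hxK hxC hcov
  rw [hgx] at hcovx
  have hidx : ∃ k : ℕ, (Subgroup.centralizer ((R'.map N.subtype : Subgroup G) : Set G) ⊓ N).relIndex
      (Subgroup.centralizer ((R'.map N.subtype : Subgroup G) : Set G)) = p ^ k := by
    rw [Subgroup.inf_relIndex_left]
    obtain ⟨k, hk⟩ := hN
    have h1 : N.relIndex (Subgroup.centralizer ((R'.map N.subtype : Subgroup G) : Set G)) ∣ p ^ k := by
      rw [← hk]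
      exact Subgroup.relIndex_dvd_index_of_normal _ _
    obtain ⟨j, -, hj⟩ := (Nat.dvd_prime_pow hp).1 h1
    exact ⟨j, hj⟩
  have huniq := rel_covers_unique_of_pIndex _ _ hKC hCK hM hidx hg hf₁
    (isPBlock_image_conjIrr _ (x' : G) hxC hf₁) hcov hcovx
  have hst : StabilizesBlock (Subgroup.centralizer ((R'.map N.subtype : Subgroup G) : Set G)) f₁
      (x' : G) := (stabilizesBlock_iff_image _ f₁ (x' : G)).2 ⟨hxC, huniq.symm⟩
  have hreg : IsPRegular p (x' : G) := by
    unfold IsPRegular at hxreg ⊢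
    rwa [Subgroup.orderOf_coe]
  have := hnil.2 _ f₁ hBpair (x' : G) hxR hst hreg
  exact (mem_centralizer_map_subtype N R' x').1 this

/-- **S4692**: for a `G`-stable block `c` of a normal subgroup `N` of `p`-power index and the block
`B` of `G` with the same idempotent, `c` is nilpotent iff `B` is. -/
theorem nilpotent_iff_of_pIndex (hM : IsPModular p M) (hN : ∃ k : ℕ, N.index = p ^ k)
    {c : Set (IrrCharacter N)} (hc : IsPBlock M c) {B : Set (IrrCharacter G)} (hB : IsPBlock M B)
    (hBc : ∀ g : G, blockCoeff B g = subgroupBlockCoeff N c g) :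
    IsNilpotentBlock p M c ↔ IsNilpotentBlock p M B := by
  classical
  constructor
  · intro hnil
    refine ⟨hB, ?_⟩
    intro Q f hQf x hxQ hxst hxreg
    have hxN : x ∈ N := by
      by_contra h
      exact hxreg (dvd_orderOf_of_not_mem N Fact.out hN h)
    obtain ⟨f₁, hRf₁, hle⟩ := exists_subpairLE hM _ Q (Q ⊓ N) f hQf.1 inf_le_left le_rfl
    have hBR : IsBrauerPairOf p M B (Q ⊓ N) f₁ :=
      (Cfsg.Agent.S4658.result p M hM Q (Q ⊓ N) f f₁ hQf.1 hRf₁ hle B hB).1 hQf
    have hxR : x ∈ Subgroup.normalizer ((Q ⊓ N : Subgroup G) : Set G) :=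
      mem_normalizer_inf_normal Q N hxQ
    have hxQ' := normalizer_le_normalizer_centralizer Q hxQ
    have hst₁ : StabilizesBlock (Subgroup.centralizer ((Q ⊓ N : Subgroup G) : Set G)) f₁ x := by
      apply (subpairLE_conj_iff_stabilizes hM hQf.1 hle hxR).1
      have h1 := subpairRel_pairConj x hle
      have h2 := pairConj_of_mem_normalizer x Q f hxQ hxQ'
      obtain ⟨_, himg⟩ := (stabilizesBlock_iff_image _ f x).1 hxst
      rw [h2, himg] at h1
      exact h1
    have hcen := nilpotent_ext_step N hM hN hc hB hBc hnil (Q ⊓ N) inf_le_right f₁ hBR hxR hst₁ hxreg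
    exact mem_centralizer_of_centralizes_inf p hQf.1.1 hxN hxQ hxreg hcen
  · intro hnil
    refine ⟨hc, ?_⟩
    intro R' g' hpair x' h1 h2 h3
    exact nilpotent_res_step N hM hN hc hB hBc hnil R' g' hpair x' h1 h2 h3

end

end Cfsg.Agent.Lib.Helper8
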