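import Mathlib
import Cfsg.Agent.Lib.Helper7.Ito1

/-!
# Normal subgroups all of whose noncentral elements have the same class size: basics
-/

set_option autoImplicit false

namespace Cfsg.Agent.Lib.Helper8.NTC

open Cfsg.Agent.Lib.Helper7.CM Cfsg.Agent.Lib.Helper7.Ito

variable {G : Type*} [Group G]

/-- all elements of `N` outside the center of `G` have centralizers of index `m` -/
def IsECN (N : Subgroup G) (m : ℕ) : Prop :=
  ∀ x ∈ N, x ∉ Subgroup.center G → (Cen x).index = m

variable {N : Subgroup G} {m : ℕ}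

theorem IsECN.Cen_eq_of_le [Finite G] (h : IsECN N m) {x y : G} (hx : x ∈ N)
    (hxZ : x ∉ Subgroup.center G) (hy : y ∈ N) (hyZ : y ∉ Subgroup.center G)
    (hle : Cen x ≤ Cen y) : Cen x = Cen y := by
  apply le_antisymm hle
  have h1 := Subgroup.relIndex_mul_index hle
  rw [h x hx hxZ, h y hy hyZ] at h1
  have hn : m ≠ 0 := by rw [← h x hx hxZ]; exact Subgroup.index_ne_zero_of_finite
  have h2 : (Cen x).relIndex (Cen y) = 1 :=
    Nat.eq_of_mul_eq_mul_right (Nat.pos_of_ne_zero hn) (by rw [h1, one_mul])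
  exact Subgroup.relIndex_eq_one.mp h2

theorem IsECN.card_Cen_eq [Finite G] (h : IsECN N m) {x y : G} (hx : x ∈ N)
    (hxZ : x ∉ Subgroup.center G) (hy : y ∈ N) (hyZ : y ∉ Subgroup.center G) :
    Nat.card (Cen x) = Nat.card (Cen y) := by
  have h1 := Subgroup.card_mul_index (Cen x)
  have h2 := Subgroup.card_mul_index (Cen y)
  rw [h x hx hxZ] at h1
  rw [h y hy hyZ, ← h1] at h2
  have hn : 0 < m := by
    rw [← h x hx hxZ]; exact Nat.pos_of_ne_zero Subgroup.index_ne_zero_of_finite
  exact (Nat.eq_of_mul_eq_mul_right hn h2).symm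

/-- the centralizer of a noncentral element of `N` is contained in the centralizer of any element
of `N` of coprime order commuting with it -/
theorem IsECN.Cen_le_of_coprime [Finite G] (h : IsECN N m) {x y : G} (hx : x ∈ N) (hy : y ∈ N)
    (hxZ : x ∉ Subgroup.center G) (hc : Commute x y)
    (hcop : (orderOf x).Coprime (orderOf y)) : Cen x ≤ Cen y := by
  obtain ⟨k, hk⟩ := exists_pow_mul_eq_left hc hcop
  obtain ⟨k', hk'⟩ := exists_pow_mul_eq_left hc.symm hcop.symm
  rw [hc.symm.eq] at hk'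
  have hxy : x * y ∉ Subgroup.center G := by
    intro h0
    apply hxZ
    rw [← hk]
    exact (Subgroup.center G).pow_mem h0 k
  have h1 : Cen (x * y) ≤ Cen x := by
    have := Cen_le_Cen_pow (x * y) k
    rwa [hk] at this
  have h2 : Cen (x * y) = Cen x := h.Cen_eq_of_le (N.mul_mem hx hy) hxy hx hxZ h1
  have h3 : Cen (x * y) ≤ Cen y := by
    have := Cen_le_Cen_pow (x * y) k'
    rwa [hk'] at this
  rw [← h2]; exact h3

/-- centralizers of commuting noncentral elements of coprime orders coincide -/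
theorem IsECN.Cen_eq_of_coprime [Finite G] (h : IsECN N m) {x y : G} (hx : x ∈ N) (hy : y ∈ N)
    (hxZ : x ∉ Subgroup.center G) (hyZ : y ∉ Subgroup.center G) (hc : Commute x y)
    (hcop : (orderOf x).Coprime (orderOf y)) : Cen x = Cen y :=
  h.Cen_eq_of_le hx hxZ hy hyZ (h.Cen_le_of_coprime hx hy hxZ hc hcop)

/-- a noncentral element has a noncentral power of prime power order -/
theorem exists_primary_not_mem_center [Finite G] :
    ∀ (n : ℕ) (x : G), orderOf x = n → x ∉ Subgroup.center G →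
      ∃ (q : ℕ) (y : G), q.Prime ∧ y ∈ Subgroup.zpowers x ∧ y ∉ Subgroup.center G ∧
        ∃ k : ℕ, orderOf y = q ^ k := by
  intro n
  induction n using Nat.strong_induction_on with
  | _ n ih =>
    intro x hxn hx
    have hx1 : x ≠ 1 := fun h0 => hx (h0 ▸ (Subgroup.center G).one_mem)
    have hn1 : n ≠ 1 := fun h0 => hx1 (orderOf_eq_one_iff.mp (hxn.trans h0))
    obtain ⟨p, hp, hpn⟩ := Nat.exists_prime_and_dvd hn1
    haveI : Fact p.Prime := ⟨hp⟩
    obtain ⟨a, b, ha, hb, hab, hao, k, hbo⟩ := pdecomp p x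
    by_cases hbZ : b ∈ Subgroup.center G
    · have haZ : a ∉ Subgroup.center G := by
        intro h0
        apply hx
        rw [hab]
        exact (Subgroup.center G).mul_mem h0 hbZ
      have hao' : orderOf a ∣ n := by
        rw [← hxn]
        exact orderOf_dvd_of_mem_zpowers ha
      have hlt : orderOf a < n := by
        apply lt_of_le_of_ne (Nat.le_of_dvd (by rw [← hxn]; exact orderOf_pos x) hao')
        intro h0
        rw [h0] at hao
        exact (Nat.Prime.coprime_iff_not_dvd hp).mp hao.symm hpn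
      obtain ⟨q, y, hq, hy1, hy2, hy3⟩ := ih (orderOf a) hlt a rfl haZ
      refine ⟨q, y, hq, ?_, hy2, hy3⟩
      have hle : Subgroup.zpowers a ≤ Subgroup.zpowers x := by
        rw [Subgroup.zpowers_le]; exact ha
      exact hle hy1
    · exact ⟨p, b, hp, hb, hbZ, ⟨k, hbo⟩⟩

/-- elements of `r`-power order lie in a normal subgroup containing a Sylow `r`-subgroup -/
theorem mem_of_prime_pow_order [Finite G] {r : ℕ} [hr : Fact r.Prime] (R : Sylow r G)
    [hN : N.Normal] (hRN : (R : Subgroup G) ≤ N) {v : G} (hv : ∃ k : ℕ, orderOf v = r ^ k) :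
    v ∈ N := by
  obtain ⟨k, hk⟩ := hv
  have hvp : IsPGroup r (Subgroup.zpowers v) := by
    apply IsPGroup.of_card (n := k)
    rw [Nat.card_zpowers, hk]
  obtain ⟨P, hP⟩ := hvp.exists_le_sylow
  obtain ⟨g, hg⟩ := MulAction.exists_smul_eq G R P
  have hvP : v ∈ (P : Subgroup G) := hP (Subgroup.mem_zpowers v)
  rw [← hg, Sylow.coe_subgroup_smul, Subgroup.mem_pointwise_smul_iff_inv_smul_mem] at hvP
  have h1 : (MulAut.conj g)⁻¹ • v ∈ N := hRN hvP
  have h2 : (MulAut.conj g)⁻¹ • v = g⁻¹ * v * g := by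
    simp [MulAut.smul_def, MulAut.conj_apply]
  rw [h2] at h1
  have h3 := hN.conj_mem _ h1 g
  have h4 : g * (g⁻¹ * v * g) * g⁻¹ = v := by group
  rwa [h4] at h3

end Cfsg.Agent.Lib.Helper8.NTC
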