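import Mathlib
import Cfsg.Agent.Lib.Helper8.NTC1

/-!
# Two class sizes in a normal subgroup: centralizers contain noncentral `r`-elements, and the
centralizers of noncentral elements of prime power order for the other primes
-/

set_option autoImplicit false

namespace Cfsg.Agent.Lib.Helper8.NTC

open Cfsg.Agent.Lib.Helper7.CM Cfsg.Agent.Lib.Helper7.Ito

variable {G : Type*} [Group G] {N : Subgroup G} {m : ℕ}

/-- Step A: every centralizer of a noncentral element of `N` contains a noncentral `r`-element. -/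
theorem exists_rElt_in_Cen [Finite G] (h : IsECN N m) {r : ℕ} [hr : Fact r.Prime] (R : Sylow r G)
    (hRN : (R : Subgroup G) ≤ N) (hR : ¬ (R : Subgroup G) ≤ Subgroup.center G) {x : G}
    (hx : x ∈ N) (hxZ : x ∉ Subgroup.center G) :
    ∃ w : G, w ∈ Cen x ∧ w ∉ Subgroup.center G ∧ ∃ k : ℕ, orderOf w = r ^ k := by
  classical
  obtain ⟨y, hyR, hy⟩ := SetLike.not_le_iff_exists.1 hR
  have hyN : y ∈ N := hRN hyR
  obtain ⟨ky, hyo⟩ : ∃ k : ℕ, orderOf y = r ^ k := by
    obtain ⟨k, hk⟩ := (IsPGroup.iff_orderOf.mp R.2) ⟨y, hyR⟩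
    exact ⟨k, by rw [← hk]; simp⟩
  by_contra hcon
  push Not at hcon
  -- a Sylow `r`-subgroup of the center
  obtain ⟨S⟩ : Nonempty (Sylow r (Subgroup.center G)) := inferInstance
  set v := (Nat.card (Subgroup.center G)).factorization r with hv
  have hScard : Nat.card S = r ^ v := Sylow.card_eq_multiplicity S
  obtain ⟨S', hS'def⟩ : ∃ S' : Subgroup G, S' = (S : Subgroup (Subgroup.center G)).map
      (Subgroup.center G).subtype := ⟨_, rfl⟩
  have hS'Z : S' ≤ Subgroup.center G := by rw [hS'def]; exact Subgroup.map_subtype_le _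
  have hS'card : Nat.card S' = r ^ v := by
    rw [hS'def, Subgroup.card_map_of_injective (Subgroup.subtype_injective _)]; exact hScard
  have hS'p : IsPGroup r S' := IsPGroup.of_card hS'card
  haveI hS'n : S'.Normal := by
    refine ⟨fun s hs g => ?_⟩
    have := Subgroup.mem_center_iff.mp (hS'Z hs) g
    rw [this, mul_inv_cancel_right]
    exact hs
  have hyp : IsPGroup r (Subgroup.zpowers y) := by
    apply IsPGroup.of_card (n := ky)
    rw [Nat.card_zpowers, hyo]
  have hTp : IsPGroup r (Subgroup.zpowers y ⊔ S' : Subgroup G) := hyp.to_sup_of_normal_right hS'p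
  have hTle : Subgroup.zpowers y ⊔ S' ≤ Cen y := by
    apply sup_le
    · rw [Subgroup.zpowers_le]; exact self_mem_Cen y
    · exact hS'Z.trans (center_le_Cen y)
  have hlt : S' < Subgroup.zpowers y ⊔ S' := by
    apply lt_of_le_of_ne le_sup_right
    intro h0
    apply hy
    apply hS'Z
    rw [h0]
    exact Subgroup.mem_sup_left (Subgroup.mem_zpowers y)
  obtain ⟨j, hj⟩ := IsPGroup.iff_card.mp hTp
  have hjv : v < j := by
    have h1 : Nat.card S' < Nat.card (Subgroup.zpowers y ⊔ S' : Subgroup G) := by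
      apply lt_of_le_of_ne (Subgroup.card_le_of_le hlt.le)
      intro h0
      exact hlt.ne (Subgroup.eq_of_le_of_card_ge hlt.le h0.ge)
    rw [hS'card, hj] at h1
    exact (Nat.pow_lt_pow_iff_right hr.out.one_lt).mp h1
  have hdvd : r ^ (v + 1) ∣ Nat.card (Cen x) := by
    rw [h.card_Cen_eq hx hxZ hyN hy]
    have h1 : r ^ (v + 1) ∣ r ^ j := pow_dvd_pow r hjv
    rw [← hj] at h1
    exact h1.trans (Subgroup.card_dvd_of_le hTle)
  obtain ⟨H, hH⟩ := Sylow.exists_subgroup_card_pow_prime r hdvd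
  have hHZ : H.map (Cen x).subtype ≤ Subgroup.center G := by
    rintro _ ⟨w, hw, rfl⟩
    by_contra hwZ
    have hwo : ∃ k : ℕ, orderOf ((Cen x).subtype w) = r ^ k := by
      have hHp : IsPGroup r H := IsPGroup.of_card hH
      obtain ⟨k, hk⟩ := IsPGroup.iff_orderOf.mp hHp ⟨w, hw⟩
      refine ⟨k, ?_⟩
      rw [← hk]
      simp [Subgroup.orderOf_mk]
    obtain ⟨k, hk⟩ := hwo
    exact hcon _ w.2 hwZ k hk
  have h2 : r ^ (v + 1) ∣ Nat.card (Subgroup.center G) := by
    rw [← hH, ← Subgroup.card_map_of_injective (Subgroup.subtype_injective (Cen x))]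
    exact Subgroup.card_dvd_of_le hHZ
  exact Nat.pow_succ_factorization_not_dvd Nat.card_pos.ne' hr.out h2

/-- Step B: if `y ∈ N` is noncentral of `q`-power order, `q ≠ r`, then every element of
`C_N(y)` is central in `C_G(y)`. -/
theorem Cen_le_Cen_of_mem [Finite G] (h : IsECN N m) {r : ℕ} [hr : Fact r.Prime] (R : Sylow r G)
    [hN : N.Normal] (hRN : (R : Subgroup G) ≤ N) (hR : ¬ (R : Subgroup G) ≤ Subgroup.center G)
    {q : ℕ} (hq : q.Prime) (hqr : q ≠ r) {y : G} (hy : y ∈ N) (hyZ : y ∉ Subgroup.center G)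
    (hyo : ∃ k : ℕ, orderOf y = q ^ k) {b : G} (hbC : b ∈ Cen y) (hbN : b ∈ N) :
    Cen y ≤ Cen b := by
  obtain ⟨ky, hky⟩ := hyo
  have hcoprq : Nat.Coprime r q := (Nat.coprime_primes hr.out hq).mpr (Ne.symm hqr)
  obtain ⟨x, hxC, hxZ, kx, hkx⟩ := exists_rElt_in_Cen h R hRN hR hy hyZ
  have hxN : x ∈ N := mem_of_prime_pow_order R hRN ⟨kx, hkx⟩
  have hyx : Commute y x := (mem_Cen.mp hxC).symm
  have hCxy : Cen y = Cen x := by
    apply h.Cen_eq_of_coprime hy hxN hyZ hxZ hyx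
    rw [hky, hkx]
    exact Nat.Coprime.pow _ _ hcoprq.symm
  obtain ⟨a', a'', ha', ha'', haa, ha'o, j, ha''o⟩ := pdecomp r b
  have hzleC : Subgroup.zpowers b ≤ Cen y := by rw [Subgroup.zpowers_le]; exact hbC
  have hzleN : Subgroup.zpowers b ≤ N := by rw [Subgroup.zpowers_le]; exact hbN
  -- the `r'`-part is central in `Cen x`
  have h1 : Cen x ≤ Cen a' := by
    have ha'x : a' ∈ Cen x := by rw [← hCxy]; exact hzleC ha'
    apply h.Cen_le_of_coprime hxN (hzleN ha') hxZ (mem_Cen.mp ha'x).symm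
    rw [hkx]
    exact Nat.Coprime.pow_left _ ha'o.symm
  -- the `r`-part is central in `Cen y`
  have h2 : Cen y ≤ Cen a'' := by
    apply h.Cen_le_of_coprime hy (hzleN ha'') hyZ (mem_Cen.mp (hzleC ha'')).symm
    rw [hky, ha''o]
    exact Nat.Coprime.pow _ _ hcoprq.symm
  intro g hg
  have hg1 : g * a' = a' * g := mem_Cen.mp (h1 (hCxy ▸ hg))
  have hg2 : g * a'' = a'' * g := mem_Cen.mp (h2 hg)
  rw [mem_Cen, haa]
  calc g * (a' * a'') = (g * a') * a'' := by group
    _ = (a' * g) * a'' := by rw [hg1]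
    _ = a' * (g * a'') := by group
    _ = a' * (a'' * g) := by rw [hg2]
    _ = a' * a'' * g := by group

/-- all noncentral elements of `C_N(y)` have the same centralizer as `y` -/
theorem Cen_eq_of_mem [Finite G] (h : IsECN N m) {r : ℕ} [hr : Fact r.Prime] (R : Sylow r G)
    [hN : N.Normal] (hRN : (R : Subgroup G) ≤ N) (hR : ¬ (R : Subgroup G) ≤ Subgroup.center G)
    {q : ℕ} (hq : q.Prime) (hqr : q ≠ r) {y : G} (hy : y ∈ N) (hyZ : y ∉ Subgroup.center G)
    (hyo : ∃ k : ℕ, orderOf y = q ^ k) {b : G} (hbC : b ∈ Cen y) (hbN : b ∈ N)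
    (hbZ : b ∉ Subgroup.center G) : Cen b = Cen y :=
  (h.Cen_eq_of_le hy hyZ hbN hbZ (Cen_le_Cen_of_mem h R hRN hR hq hqr hy hyZ hyo hbC hbN)).symm

/-- `C_N(y)` is abelian -/
theorem comm_of_mem [Finite G] (h : IsECN N m) {r : ℕ} [hr : Fact r.Prime] (R : Sylow r G)
    [hN : N.Normal] (hRN : (R : Subgroup G) ≤ N) (hR : ¬ (R : Subgroup G) ≤ Subgroup.center G)
    {q : ℕ} (hq : q.Prime) (hqr : q ≠ r) {y : G} (hy : y ∈ N) (hyZ : y ∉ Subgroup.center G)
    (hyo : ∃ k : ℕ, orderOf y = q ^ k) {a b : G} (haC : a ∈ Cen y) (hbC : b ∈ Cen y)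
    (hbN : b ∈ N) : a * b = b * a :=
  mem_Cen.mp (Cen_le_Cen_of_mem h R hRN hR hq hqr hy hyZ hyo hbC hbN haC)

end Cfsg.Agent.Lib.Helper8.NTC
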