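import Mathlib
import Cfsg.Agent.Lib.Helper8.NTC2
import Cfsg.Agent.Lib.Helper7.Ito5
import Cfsg.Agent.Lib.Helper4.LBal1

/-!
# Two class sizes in a normal subgroup: almost central elements of Sylow subgroups and the
primary parts of abelian subgroups
-/

set_option autoImplicit false
open scoped commutatorElement

namespace Cfsg.Agent.Lib.Helper8.NTC

open Cfsg.Agent.Lib.Helper7.CM Cfsg.Agent.Lib.Helper7.Ito

variable {G : Type*} [Group G]

theorem commutator_mem_center_iff {a t : G} :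
    ⁅a, t⁆ ∈ Subgroup.center G ↔
      Commute (QuotientGroup.mk a : G ⧸ Subgroup.center G) (QuotientGroup.mk t) := by
  rw [← QuotientGroup.eq_one_iff, ← commutatorElement_eq_one_iff_commute]
  rfl

theorem commutator_pow_mem_center {a t : G} (h : ⁅a, t⁆ ∈ Subgroup.center G) (n : ℕ) :
    ⁅a ^ n, t⁆ ∈ Subgroup.center G := by
  rw [commutator_mem_center_iff] at h ⊢
  rw [QuotientGroup.mk_pow]
  exact h.pow_left n

theorem commutator_comm_mem_center {a t : G} (h : ⁅a, t⁆ ∈ Subgroup.center G) :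
    ⁅t, a⁆ ∈ Subgroup.center G := by
  rw [commutator_mem_center_iff] at h ⊢
  exact h.symm

/-- conjugating by `g` with `⁅u, g⁆` central preserves `C_G(u)` -/
theorem conj_mem_Cen_of_commutator {u g : G} (h : ⁅u, g⁆ ∈ Subgroup.center G) {c : G}
    (hc : c ∈ Cen u) : g * c * g⁻¹ ∈ Cen u := by
  have h1 : g * u * g⁻¹ * u⁻¹ ∈ Subgroup.center G := by
    have := commutator_comm_mem_center h
    rwa [commutatorElement_def] at this
  exact conj_mem_Cen h1 hc

/-- a normal subgroup with a noncentral `q`-element has, in a suitable Sylow `q`-subgroup `P` of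
`G`, a noncentral element `u` with `[u, P]` central and `u ^ q` central -/
theorem exists_sylow_almost_central [Finite G] {N : Subgroup G} [hN : N.Normal] {q : ℕ}
    [hq : Fact q.Prime] {y₀ : G} (hy₀ : y₀ ∈ N) (hy₀Z : y₀ ∉ Subgroup.center G)
    (hy₀o : ∃ k : ℕ, orderOf y₀ = q ^ k) :
    ∃ (P : Sylow q G) (u : G), u ∈ (P : Subgroup G) ∧ u ∈ N ∧ u ∉ Subgroup.center G ∧
      u ^ q ∈ Subgroup.center G ∧ ∀ g ∈ (P : Subgroup G), ⁅u, g⁆ ∈ Subgroup.center G := by
  obtain ⟨k₀, hk₀⟩ := hy₀o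
  have hyp : IsPGroup q (Subgroup.zpowers y₀) := by
    apply IsPGroup.of_card (n := k₀)
    rw [Nat.card_zpowers, hk₀]
  obtain ⟨P, hP⟩ := hyp.exists_le_sylow
  have hyP : y₀ ∈ (P : Subgroup G) := hP (Subgroup.mem_zpowers y₀)
  have hnil : Group.IsNilpotent (P : Subgroup G) := P.2.isNilpotent
  have hAT : (P : Subgroup G) ⊓ N ≤ (P : Subgroup G) := inf_le_left
  have hT : (P : Subgroup G) ≤ Subgroup.normalizer (((P : Subgroup G) ⊓ N : Subgroup G) : Set G) := by
    intro g hg
    rw [Subgroup.mem_normalizer_iff]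
    intro x
    constructor
    · rintro ⟨hx1, hx2⟩
      exact ⟨(P : Subgroup G).mul_mem ((P : Subgroup G).mul_mem hg hx1)
        ((P : Subgroup G).inv_mem hg), hN.conj_mem x hx2 g⟩
    · rintro ⟨hx1, hx2⟩
      have e : x = g⁻¹ * (g * x * g⁻¹) * g := by group
      constructor
      · rw [e]
        exact (P : Subgroup G).mul_mem ((P : Subgroup G).mul_mem
          ((P : Subgroup G).inv_mem hg) hx1) hg
      · have := hN.conj_mem _ hx2 g⁻¹
        rw [inv_inv] at this
        rw [e]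
        exact this
  have hAB : ¬ (P : Subgroup G) ⊓ N ≤ Subgroup.center G := fun h => hy₀Z (h ⟨hyP, hy₀⟩)
  obtain ⟨s, hsA, hsZ, hsc⟩ := Cfsg.Agent.Lib.Helper4.LBal.exists_central_mod hnil hAT hT hAB
  -- reduce to an element whose `q`-th power is central
  obtain ⟨e, he⟩ := (IsPGroup.iff_orderOf.mp P.2) ⟨s, hsA.1⟩
  have hex : ∃ j : ℕ, s ^ (q ^ j) ∈ Subgroup.center G := by
    refine ⟨e, ?_⟩
    have h1 : orderOf s = q ^ e := by rw [← he]; simp
    rw [← h1, pow_orderOf_eq_one]
    exact Subgroup.one_mem _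
  classical
  set j := Nat.find hex with hj
  have hj1 : s ^ (q ^ j) ∈ Subgroup.center G := Nat.find_spec hex
  have hj0 : j ≠ 0 := by
    intro h0
    rw [h0, pow_zero, pow_one] at hj1
    exact hsZ hj1
  obtain ⟨i, hi⟩ := Nat.exists_eq_succ_of_ne_zero hj0
  have hi1 : s ^ (q ^ i) ∉ Subgroup.center G :=
    Nat.find_min hex (by rw [← hj, hi]; exact Nat.lt_succ_self i)
  refine ⟨P, s ^ (q ^ i), (P : Subgroup G).pow_mem hsA.1 _, N.pow_mem hsA.2 _, hi1, ?_, ?_⟩
  · rw [← pow_mul, ← pow_succ, ← Nat.succ_eq_add_one, ← hi]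
    exact hj1
  · intro g hg
    exact commutator_pow_mem_center (hsc g hg) _

/-- the `s`-torsion of a finite abelian subgroup has order the `s`-part of the order -/
theorem card_qTorsion [Finite G] (C : Subgroup G) (hab : ∀ a ∈ C, ∀ b ∈ C, a * b = b * a)
    (s : ℕ) [hs : Fact s.Prime] : Nat.card (qTorsion C hab s) = ordProj[s] (Nat.card C) := by
  have hC0 : Nat.card C ≠ 0 := Nat.card_pos.ne'
  apply le_antisymm
  · obtain ⟨j, hj⟩ := IsPGroup.iff_card.mp (qTorsion_isPGroup C hab s)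
    have h1 : s ^ j ∣ Nat.card C := by
      rw [← hj]
      exact Subgroup.card_dvd_of_le (qTorsion_le C hab s)
    rw [hj]
    exact Nat.pow_le_pow_right hs.out.pos ((hs.out.pow_dvd_iff_le_factorization hC0).mp h1)
  · obtain ⟨H, hH⟩ := Sylow.exists_subgroup_card_pow_prime s (Nat.ordProj_dvd (Nat.card C) s)
    have hHp : IsPGroup s H := IsPGroup.of_card hH
    have hle : H.map C.subtype ≤ qTorsion C hab s := by
      rintro _ ⟨w, hw, rfl⟩
      refine ⟨w.2, ?_⟩
      obtain ⟨k, hk⟩ := hHp ⟨w, hw⟩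
      refine ⟨k, ?_⟩
      have := congrArg (fun x : H => ((x : C) : G)) hk
      simpa using this
    rw [← hH, ← Subgroup.card_map_of_injective (Subgroup.subtype_injective C)]
    exact Subgroup.card_le_of_le hle

end Cfsg.Agent.Lib.Helper8.NTC
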