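import Mathlib
import Cfsg.Agent.Lib.Helper7.Ito5

/-!
# Two class sizes in a normal subgroup: general helper lemmas on Sylow subgroups of subgroups,
coprime action and indices
-/

set_option autoImplicit false

namespace Cfsg.Agent.Lib.Helper8.NTC

open Cfsg.Agent.Lib.Helper7.CM Cfsg.Agent.Lib.Helper7.Ito

variable {G : Type*} [Group G]

/-- a Sylow subgroup of a subgroup, as a subgroup of the group -/
theorem exists_sylow_subgroup_le [Finite G] (K : Subgroup G) (p : ℕ) [hp : Fact p.Prime] :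
    ∃ S : Subgroup G, S ≤ K ∧ IsPGroup p S ∧ Nat.card S = ordProj[p] (Nat.card K) := by
  obtain ⟨S⟩ : Nonempty (Sylow p K) := inferInstance
  refine ⟨(S : Subgroup K).map K.subtype, Subgroup.map_subtype_le _, ?_, ?_⟩
  · exact S.2.map K.subtype
  · rw [Subgroup.card_map_of_injective (Subgroup.subtype_injective _)]
    exact Sylow.card_eq_multiplicity S

theorem card_dvd_ordProj_of_isPGroup [Finite G] {p : ℕ} [hp : Fact p.Prime] {T K : Subgroup G}
    (hT : IsPGroup p T) (hTK : T ≤ K) : Nat.card T ∣ ordProj[p] (Nat.card K) := by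
  obtain ⟨j, hj⟩ := IsPGroup.iff_card.mp hT
  have h1 : Nat.card T ∣ Nat.card K := Subgroup.card_dvd_of_le hTK
  have h2 := Nat.ordProj_dvd_ordProj_of_dvd (Nat.card_pos.ne') h1 p
  rw [hj, Nat.ordProj_self_pow hp.out] at h2
  rw [hj]
  exact h2

theorem orderOf_eq_prime_pow_of_mem [Finite G] {p : ℕ} [hp : Fact p.Prime] {T : Subgroup G}
    (hT : IsPGroup p T) {w : G} (hw : w ∈ T) : ∃ k : ℕ, orderOf w = p ^ k := by
  obtain ⟨k, hk⟩ := (IsPGroup.iff_orderOf.mp hT) ⟨w, hw⟩
  exact ⟨k, by rw [← hk]; simp⟩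

theorem isPGroup_zpowers {p : ℕ} {w : G} (hw : ∃ k : ℕ, orderOf w = p ^ k) :
    IsPGroup p (Subgroup.zpowers w) := by
  obtain ⟨k, hk⟩ := hw
  apply IsPGroup.of_card (n := k)
  rw [Nat.card_zpowers, hk]

/-- if all `p`-elements of `K` lie in `L ≤ K` then the `p`-parts of the orders agree -/
theorem ordProj_card_eq_of_forall_mem [Finite G] {p : ℕ} [hp : Fact p.Prime] {L K : Subgroup G}
    (hLK : L ≤ K) (hall : ∀ w ∈ K, (∃ k : ℕ, orderOf w = p ^ k) → w ∈ L) :
    ordProj[p] (Nat.card L) = ordProj[p] (Nat.card K) := by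
  obtain ⟨S, hSK, hSp, hScard⟩ := exists_sylow_subgroup_le K p
  have hSL : S ≤ L := fun s hs => hall s (hSK hs) (orderOf_eq_prime_pow_of_mem hSp hs)
  apply Nat.dvd_antisymm
  · exact Nat.ordProj_dvd_ordProj_of_dvd (Nat.card_pos.ne') (Subgroup.card_dvd_of_le hLK) p
  · rw [← hScard]
    exact card_dvd_ordProj_of_isPGroup hSp hSL

/-- an element acting on another one of coprime order as multiplication by a central element
commutes with it -/
theorem commute_of_commutator_central_of_coprime [Finite G] {a b : G}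
    (h : a * b * a⁻¹ * b⁻¹ ∈ Subgroup.center G) (hcop : (orderOf a).Coprime (orderOf b)) :
    a * b = b * a := by
  set ζ := a * b * a⁻¹ * b⁻¹ with hζ
  have hζc : ∀ g : G, g * ζ = ζ * g := fun g => Subgroup.mem_center_iff.mp h g
  have hk : a * b * a⁻¹ = b * ζ := by
    rw [hζc b, hζ]; group
  have h1 : ζ ^ orderOf a = 1 := by
    have := conj_pow_central h hk (orderOf a)
    rw [pow_orderOf_eq_one, one_mul, inv_one, mul_one] at this
    have h2 : b * 1 = b * ζ ^ orderOf a := by rw [mul_one]; exact this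
    exact (mul_left_cancel h2).symm
  have h2 : ζ ^ orderOf b = 1 := by
    have h3 : (a * b * a⁻¹) ^ orderOf b = (b * ζ) ^ orderOf b := by rw [hk]
    have hcomm : Commute b ζ := hζc b
    rw [conj_pow, pow_orderOf_eq_one, mul_one, mul_inv_cancel, hcomm.mul_pow, pow_orderOf_eq_one,
      one_mul] at h3
    exact h3.symm
  have h3 : orderOf ζ ∣ 1 := by
    have := Nat.dvd_gcd (orderOf_dvd_of_pow_eq_one h1) (orderOf_dvd_of_pow_eq_one h2)
    rwa [Nat.Coprime.gcd_eq_one hcop] at this
  have h4 : ζ = 1 := orderOf_eq_one_iff.mp (Nat.dvd_one.mp h3)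
  rw [h4, mul_one] at hk
  calc a * b = (a * b * a⁻¹) * a := by group
    _ = b * a := by rw [hk]

/-- an element of `q`-power order has a conjugate in any subgroup of index prime to `q` -/
theorem exists_conj_mem_of_not_dvd_index {q : ℕ} [hq : Fact q.Prime] (C : Subgroup G)
    (hC : ¬ q ∣ C.index) {y : G} (hy : ∃ k : ℕ, orderOf y = q ^ k) :
    ∃ g : G, g⁻¹ * y * g ∈ C := by
  have hp : IsPGroup q (Subgroup.zpowers y) := isPGroup_zpowers hy
  obtain ⟨x, hx⟩ := hp.nonempty_fixed_point_of_prime_not_dvd_card (G ⧸ C) hC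
  induction x using QuotientGroup.induction_on with
  | H g =>
    refine ⟨g, ?_⟩
    have h1 := hx ⟨y, Subgroup.mem_zpowers y⟩
    have h2 : ((y * g : G) : G ⧸ C) = (g : G ⧸ C) := h1
    rw [QuotientGroup.eq] at h2
    have h3 := C.inv_mem h2
    have e : ((y * g)⁻¹ * g)⁻¹ = g⁻¹ * y * g := by group
    rwa [e] at h3

/-- a subgroup containing a noncentral `s`-element has index over its central part divisible
by `s` -/
theorem prime_dvd_relIndex_center [Finite G] {s : ℕ} [hs : Fact s.Prime] {B : Subgroup G} {w : G}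
    (hwB : w ∈ B) (hwZ : w ∉ Subgroup.center G) (hwo : ∃ k : ℕ, orderOf w = s ^ k) :
    s ∣ (Subgroup.center G).relIndex B := by
  obtain ⟨k, hk⟩ := hwo
  set K : Subgroup B := (Subgroup.center G).subgroupOf B with hK
  set w' : B ⧸ K := QuotientGroup.mk (⟨w, hwB⟩ : B) with hw'
  have h1 : w' ≠ 1 := by
    intro h0
    rw [hw', QuotientGroup.eq_one_iff, hK, Subgroup.mem_subgroupOf] at h0
    exact hwZ h0
  have h2 : w' ^ (s ^ k) = 1 := by
    rw [hw', ← QuotientGroup.mk_pow, QuotientGroup.eq_one_iff]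
    have : (⟨w, hwB⟩ : B) ^ (s ^ k) = 1 := by
      apply Subtype.ext
      show w ^ (s ^ k) = 1
      rw [← hk]; exact pow_orderOf_eq_one w
    rw [this]
    exact K.one_mem
  obtain ⟨j, _, hj⟩ := (Nat.dvd_prime_pow hs.out).mp (orderOf_dvd_of_pow_eq_one h2)
  have hj0 : j ≠ 0 := by
    intro h0
    rw [h0, pow_zero, orderOf_eq_one_iff] at hj
    exact h1 hj
  have h3 : s ∣ orderOf w' := by
    rw [hj]; exact dvd_pow_self s hj0
  have h4 : orderOf w' ∣ Nat.card (B ⧸ K) := orderOf_dvd_natCard w'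
  exact h3.trans h4

/-- in a `q`-group `V`, a subgroup `W` strictly containing a subgroup `K` of index at most `q`
in `V` is all of `V` -/
theorem le_of_relIndex_le_prime [Finite G] {q : ℕ} [hq : Fact q.Prime] {K W V : Subgroup G}
    (hV : IsPGroup q V) (hKW : K ≤ W) (hWV : W ≤ V) (hidx : K.relIndex V ≤ q) {y : G}
    (hyW : y ∈ W) (hyK : y ∉ K) : V ≤ W := by
  have h1 := Subgroup.relIndex_mul_relIndex K W V hKW hWV
  have hW : IsPGroup q W := hV.to_le hWV
  have h2 : K.relIndex W ≠ 1 := by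
    intro h0
    rw [Subgroup.relIndex_eq_one] at h0
    exact hyK (h0 hyW)
  obtain ⟨j, hj⟩ := IsPGroup.iff_card.mp hW
  have h3 : K.relIndex W ∣ q ^ j := by
    rw [← hj]; exact Subgroup.relIndex_dvd_card K W
  obtain ⟨i, _, hi⟩ := (Nat.dvd_prime_pow hq.out).mp h3
  have hi0 : i ≠ 0 := by
    intro h0
    rw [h0, pow_zero] at hi
    exact h2 hi
  have h4 : q ≤ K.relIndex W := by
    rw [hi]
    calc q = q ^ 1 := (pow_one q).symm
      _ ≤ q ^ i := Nat.pow_le_pow_right hq.out.pos (Nat.one_le_iff_ne_zero.mpr hi0)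
  have h5 : W.relIndex V ≠ 0 := by
    have : W.relIndex V ∣ Nat.card V := Subgroup.relIndex_dvd_card W V
    intro h0
    rw [h0, zero_dvd_iff] at this
    exact Nat.card_pos.ne' this
  have h6 : W.relIndex V = 1 := by
    by_contra h7
    have h8 : 2 ≤ W.relIndex V := by omega
    have h9 : q * 2 ≤ K.relIndex W * W.relIndex V := Nat.mul_le_mul h4 h8
    have := hq.out.pos
    omega
  exact Subgroup.relIndex_eq_one.mp h6

end Cfsg.Agent.Lib.Helper8.NTC
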