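import Mathlib
import Cfsg.Agent.Lib.Helper8.NTC4
import Cfsg.Agent.Lib.Helper8.NTC8

/-!
# Two class sizes in a normal subgroup: centralizers of noncentral elements of prime power order
(for the primes other than `r`) are not normal when `r` divides the class size
-/

set_option autoImplicit false
open scoped commutatorElement

namespace Cfsg.Agent.Lib.Helper8.NTC

open Cfsg.Agent.Lib.Helper7.CM Cfsg.Agent.Lib.Helper7.Ito

variable {G : Type*} [Group G] {N : Subgroup G} {m : ℕ}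

theorem conj_mem_Cen_conj {y c : G} (g : G) (hc : c ∈ Cen y) :
    g * c * g⁻¹ ∈ Cen (g * y * g⁻¹) := by
  rw [mem_Cen] at hc ⊢
  calc g * c * g⁻¹ * (g * y * g⁻¹) = g * (c * y) * g⁻¹ := by group
    _ = g * (y * c) * g⁻¹ := by rw [hc]
    _ = g * y * g⁻¹ * (g * c * g⁻¹) := by group

/-- Step C: the centralizer of a noncentral `q`-element of `N` is not normal in `G`. -/
theorem exists_conj_Cen_ne [Finite G] (h : IsECN N m) {r : ℕ} [hr : Fact r.Prime] (R : Sylow r G)
    [hN : N.Normal] (hRN : (R : Subgroup G) ≤ N) (hR : ¬ (R : Subgroup G) ≤ Subgroup.center G)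
    (hrm : r ∣ m) {q : ℕ} (hq : q.Prime) (hqr : q ≠ r) {y : G} (hy : y ∈ N)
    (hyZ : y ∉ Subgroup.center G) (hyo : ∃ k : ℕ, orderOf y = q ^ k) :
    ∃ g : G, Cen (g * y * g⁻¹) ≠ Cen y := by
  classical
  haveI : Fact q.Prime := ⟨hq⟩
  by_contra hcon
  push Not at hcon
  have hnorm : ∀ (g c : G), c ∈ Cen y → g * c * g⁻¹ ∈ Cen y := by
    intro g c hc
    rw [← hcon g]
    exact conj_mem_Cen_conj g hc
  have hm : (Cen y).index = m := h y hy hyZ
  obtain ⟨g₀, hg₀R, hg₀C⟩ : ∃ g₀ ∈ (R : Subgroup G), g₀ ∉ Cen y := by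
    by_contra h0
    push Not at h0
    have hle : (R : Subgroup G) ≤ Cen y := h0
    have h1 : (Cen y).index ∣ (R : Subgroup G).index := Subgroup.index_dvd_of_le hle
    rw [hm] at h1
    exact R.not_dvd_index (hrm.trans h1)
  have hg₀N : g₀ ∈ N := hRN hg₀R
  have hg₀Z : g₀ ∉ Subgroup.center G := fun h0 => hg₀C (center_le_Cen y h0)
  -- a noncentral element of `C ⊓ R`
  obtain ⟨w, hwC, hwZ, hwo⟩ := exists_rElt_in_Cen h R hRN hR hy hyZ
  have hAB : ¬ (Cen y ⊓ (R : Subgroup G)) ≤ Subgroup.center G := by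
    have hwp : IsPGroup r (Subgroup.zpowers w) := isPGroup_zpowers hwo
    obtain ⟨P, hP⟩ := hwp.exists_le_sylow
    obtain ⟨g, hg⟩ := MulAction.exists_smul_eq G R P
    have hwP : w ∈ (P : Subgroup G) := hP (Subgroup.mem_zpowers w)
    rw [← hg, Sylow.coe_subgroup_smul, Subgroup.mem_pointwise_smul_iff_inv_smul_mem] at hwP
    have h2 : (MulAut.conj g)⁻¹ • w = g⁻¹ * w * g := by
      simp [MulAut.smul_def, MulAut.conj_apply]
    rw [h2] at hwP
    intro hle
    have h3 : g⁻¹ * w * g ∈ Cen y := by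
      have := hnorm g⁻¹ w hwC
      rwa [inv_inv] at this
    have h4 := hle ⟨h3, hwP⟩
    apply hwZ
    have := (inferInstance : (Subgroup.center G).Normal).conj_mem _ h4 g
    have e : g * (g⁻¹ * w * g) * g⁻¹ = w := by group
    rwa [e] at this
  have hnil : Group.IsNilpotent (R : Subgroup G) := R.2.isNilpotent
  have hAT : Cen y ⊓ (R : Subgroup G) ≤ (R : Subgroup G) := inf_le_right
  have hT : (R : Subgroup G) ≤
      Subgroup.normalizer ((Cen y ⊓ (R : Subgroup G) : Subgroup G) : Set G) := by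
    intro g hg
    rw [Subgroup.mem_normalizer_iff]
    intro x
    constructor
    · rintro ⟨hx1, hx2⟩
      exact ⟨hnorm g x hx1, (R : Subgroup G).mul_mem ((R : Subgroup G).mul_mem hg hx2)
        ((R : Subgroup G).inv_mem hg)⟩
    · rintro ⟨hx1, hx2⟩
      have e : x = g⁻¹ * (g * x * g⁻¹) * g⁻¹⁻¹ := by group
      constructor
      · rw [e]; exact hnorm g⁻¹ _ hx1
      · rw [e, inv_inv]
        exact (R : Subgroup G).mul_mem ((R : Subgroup G).mul_mem
          ((R : Subgroup G).inv_mem hg) hx2) hg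
  obtain ⟨v, hvA, hvZ, hvc⟩ := Cfsg.Agent.Lib.Helper4.LBal.exists_central_mod hnil hAT hT hAB
  have hvN : v ∈ N := hRN hvA.2
  have hCv : Cen v = Cen y := Cen_eq_of_mem h R hRN hR hq hqr hy hyZ hyo hvA.1 hvN hvZ
  obtain ⟨kv, hkv⟩ : ∃ k : ℕ, orderOf v = r ^ k := orderOf_eq_prime_pow_of_mem R.2 hvA.2
  -- every `q`-element of `Cen g₀` lies in `Cen y`
  have hd : ∀ d : G, d ∈ Cen g₀ → (∃ k : ℕ, orderOf d = q ^ k) → d ∈ Cen y := by
    rintro d hdg ⟨kd, hkd⟩
    set w' := d * v * d⁻¹ * v⁻¹ with hw'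
    have hw'C : w' ∈ Cen y := (Cen y).mul_mem (hnorm d v hvA.1) ((Cen y).inv_mem hvA.1)
    have hw'N : w' ∈ N := N.mul_mem (hN.conj_mem v hvN d) (N.inv_mem hvN)
    have hw'g : w' ∈ Cen g₀ := by
      have h1 : ⁅g₀, v⁆ ∈ Subgroup.center G := commutator_comm_mem_center (hvc g₀ hg₀R)
      have h2 : v * d⁻¹ * v⁻¹ ∈ Cen g₀ :=
        conj_mem_Cen_of_commutator h1 ((Cen g₀).inv_mem hdg)
      have e : w' = d * (v * d⁻¹ * v⁻¹) := by rw [hw']; group
      rw [e]
      exact (Cen g₀).mul_mem hdg h2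
    have hw'Z : w' ∈ Subgroup.center G := by
      by_contra h0
      have h1 : Cen w' = Cen y := Cen_eq_of_mem h R hRN hR hq hqr hy hyZ hyo hw'C hw'N h0
      apply hg₀C
      rw [← h1, mem_Cen]
      exact (mem_Cen.mp hw'g).symm
    have hcop : (orderOf d).Coprime (orderOf v) := by
      rw [hkd, hkv]
      exact Nat.Coprime.pow _ _ ((Nat.coprime_primes hq hr.out).mpr hqr)
    have h2 := commute_of_commutator_central_of_coprime hw'Z hcop
    rw [← hCv, mem_Cen]
    exact h2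
  -- a Sylow `q`-subgroup of `Cen g₀` contains `y`
  obtain ⟨S, hSle, hSp, hScard⟩ := exists_sylow_subgroup_le (Cen g₀) q
  have hSC : S ≤ Cen y := fun s hs => hd s (hSle hs) (orderOf_eq_prime_pow_of_mem hSp hs)
  have hyp : IsPGroup q (Subgroup.zpowers y) := isPGroup_zpowers hyo
  have hnorm' : S ≤ Subgroup.normalizer ((Subgroup.zpowers y : Subgroup G) : Set G) := by
    intro s hs
    have hsy : Commute s y := mem_Cen.mp (hSC hs)
    rw [Subgroup.mem_normalizer_iff]
    intro x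
    constructor
    · rintro ⟨k, rfl⟩
      refine ⟨k, ?_⟩
      have := (hsy.zpow_right k).eq
      show y ^ k = s * y ^ k * s⁻¹
      rw [this]; group
    · rintro ⟨k, hk⟩
      refine ⟨k, ?_⟩
      have := (hsy.zpow_right k).eq
      have hk' : y ^ k = s * x * s⁻¹ := hk
      have e : x = s⁻¹ * (s * x * s⁻¹) * s := by group
      rw [e, ← hk']
      calc y ^ k = s⁻¹ * (s * y ^ k) := by group
        _ = s⁻¹ * (y ^ k * s) := by rw [this]
        _ = s⁻¹ * y ^ k * s := by group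
  have hTp : IsPGroup q (Subgroup.zpowers y ⊔ S : Subgroup G) :=
    hyp.to_sup_of_normal_left' hSp hnorm'
  have hTle : Subgroup.zpowers y ⊔ S ≤ Cen y :=
    sup_le ((Subgroup.zpowers_le).mpr (self_mem_Cen y)) hSC
  have hcard : Nat.card (Subgroup.zpowers y ⊔ S : Subgroup G) ∣ ordProj[q] (Nat.card (Cen y)) :=
    card_dvd_ordProj_of_isPGroup hTp hTle
  have hcardeq : Nat.card (Cen g₀) = Nat.card (Cen y) := h.card_Cen_eq hg₀N hg₀Z hy hyZ
  rw [← hcardeq, ← hScard] at hcard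
  have hle : Subgroup.zpowers y ⊔ S ≤ S := by
    have h1 : Nat.card (Subgroup.zpowers y ⊔ S : Subgroup G) ≤ Nat.card S :=
      Nat.le_of_dvd Nat.card_pos hcard
    have h2 : S ≤ Subgroup.zpowers y ⊔ S := le_sup_right
    exact (Subgroup.eq_of_le_of_card_ge h2 h1).symm.le
  have hyS : y ∈ S := hle (Subgroup.mem_sup_left (Subgroup.mem_zpowers y))
  apply hg₀C
  rw [mem_Cen]
  exact (mem_Cen.mp (hSle hyS)).symm

end Cfsg.Agent.Lib.Helper8.NTC
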