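import Mathlib
import Cfsg.Agent.Lib.Helper8.NTC9

/-!
# Two class sizes in a normal subgroup: the centralizer in `N` of a noncentral element of prime
power order is small
-/

set_option autoImplicit false
open scoped commutatorElement

namespace Cfsg.Agent.Lib.Helper8.NTC

open Cfsg.Agent.Lib.Helper7.CM Cfsg.Agent.Lib.Helper7.Ito

variable {G : Type*} [Group G] {N : Subgroup G} {m : ℕ}

theorem card_inf_mul_relIndex (H K : Subgroup G) :
    Nat.card (H ⊓ K : Subgroup G) * H.relIndex K = Nat.card K := by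
  have := Subgroup.relIndex_mul_relIndex ⊥ (H ⊓ K) K bot_le inf_le_right
  rwa [Subgroup.relIndex_bot_left, Subgroup.relIndex_bot_left, Subgroup.inf_relIndex_right] at this

theorem card_mul_relIndex_of_le {H K : Subgroup G} (hHK : H ≤ K) :
    Nat.card H * H.relIndex K = Nat.card K := by
  have := card_inf_mul_relIndex H K
  rwa [inf_of_le_left hHK] at this

/-- the index of `C ⊓ N` in a normal subgroup `N` divides the index of `C` -/
theorem relIndex_dvd_index_of_normal_right [Finite G] (C N : Subgroup G) [N.Normal] :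
    C.relIndex N ∣ C.index := by
  have h1 : Nat.card N * N.relIndex (C ⊔ N) = Nat.card (C ⊔ N : Subgroup G) :=
    card_mul_relIndex_of_le le_sup_right
  rw [Subgroup.relIndex_sup_right] at h1
  have h2 : Nat.card (C ⊓ N : Subgroup G) * N.relIndex C = Nat.card C := by
    rw [inf_comm]; exact card_inf_mul_relIndex N C
  have h3 : Nat.card (C ⊓ N : Subgroup G) * C.relIndex N = Nat.card N :=
    card_inf_mul_relIndex C N
  have h4 : Nat.card C * C.index = Nat.card G := Subgroup.card_mul_index C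
  have h5 : Nat.card (C ⊔ N : Subgroup G) ∣ Nat.card G := Subgroup.card_subgroup_dvd_card _
  have h6 : Nat.card (C ⊔ N : Subgroup G) = Nat.card C * C.relIndex N := by
    rw [← h1, ← h3, ← h2]; ring
  rw [h6, ← h4] at h5
  exact Nat.dvd_of_mul_dvd_mul_left Nat.card_pos h5

theorem card_Cen_conj_inf (g y : G) [hN : N.Normal] :
    Nat.card (Cen (g * y * g⁻¹) ⊓ N : Subgroup G) = Nat.card (Cen y ⊓ N : Subgroup G) := by
  have e1 : g⁻¹ * (g * y * g⁻¹) * g⁻¹⁻¹ = y := by group
  apply Nat.card_congr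
  refine
    { toFun := fun b => ⟨g⁻¹ * b * g, ?_, ?_⟩
      invFun := fun b => ⟨g * b * g⁻¹, conj_mem_Cen_conj g b.2.1, hN.conj_mem _ b.2.2 g⟩
      left_inv := ?_
      right_inv := ?_ }
  · have := conj_mem_Cen_conj g⁻¹ b.2.1
    rw [e1, inv_inv] at this
    exact this
  · have := hN.conj_mem _ b.2.2 g⁻¹
    rwa [inv_inv] at this
  · intro b
    apply Subtype.ext
    show g * (g⁻¹ * (b : G) * g) * g⁻¹ = b
    group
  · intro b
    apply Subtype.ext
    show g⁻¹ * (g * (b : G) * g⁻¹) * g = b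
    group

theorem center_inf_Cen_inf (y : G) :
    Subgroup.center G ⊓ (Cen y ⊓ N) = Subgroup.center G ⊓ N := by
  ext z
  constructor
  · rintro ⟨hz, _, hzN⟩
    exact ⟨hz, hzN⟩
  · rintro ⟨hz, hzN⟩
    exact ⟨hz, center_le_Cen y hz, hzN⟩

/-- Step E: `|C_N(y) : Z ∩ N| ≤ |N : C_N(y)|` -/
theorem relIndex_center_le_relIndex [Finite G] (h : IsECN N m) {r : ℕ} [hr : Fact r.Prime]
    (R : Sylow r G) [hN : N.Normal] (hRN : (R : Subgroup G) ≤ N)
    (hR : ¬ (R : Subgroup G) ≤ Subgroup.center G) (hrm : r ∣ m) {q : ℕ} (hq : q.Prime)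
    (hqr : q ≠ r) {y : G} (hy : y ∈ N) (hyZ : y ∉ Subgroup.center G)
    (hyo : ∃ k : ℕ, orderOf y = q ^ k) :
    (Subgroup.center G).relIndex (Cen y ⊓ N) ≤ (Cen y ⊓ N).relIndex N := by
  obtain ⟨g, hg⟩ := exists_conj_Cen_ne h R hRN hR hrm hq hqr hy hyZ hyo
  set y' := g * y * g⁻¹ with hy'
  have hy'N : y' ∈ N := hN.conj_mem y hy g
  have hy'Z : y' ∉ Subgroup.center G := by
    intro h0
    apply hyZ
    have := (inferInstance : (Subgroup.center G).Normal).conj_mem _ h0 g⁻¹
    have e : g⁻¹ * y' * g⁻¹⁻¹ = y := by rw [hy']; group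
    rwa [e] at this
  have hy'o : ∃ k : ℕ, orderOf y' = q ^ k := by
    obtain ⟨k, hk⟩ := hyo
    refine ⟨k, ?_⟩
    rw [← hk]
    have : y' = MulAut.conj g y := by rw [MulAut.conj_apply]
    rw [this]
    exact MulEquiv.orderOf_eq (MulAut.conj g) y
  set B := Cen y ⊓ N with hB
  set B' := Cen y' ⊓ N with hB'
  have h1 : B ⊓ B' ≤ Subgroup.center G := by
    rintro b ⟨hb, hb'⟩
    by_contra hbZ
    have e1 : Cen b = Cen y := Cen_eq_of_mem h R hRN hR hq hqr hy hyZ hyo hb.1 hb.2 hbZ
    have e2 : Cen b = Cen y' := Cen_eq_of_mem h R hRN hR hq hqr hy'N hy'Z hy'o hb'.1 hb'.2 hbZ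
    exact hg (e2.symm.trans e1)
  have h2 : Subgroup.center G ⊓ B' = B ⊓ B' := by
    apply le_antisymm
    · rintro z ⟨hz, hzB'⟩
      exact ⟨⟨center_le_Cen y hz, hzB'.2⟩, hzB'⟩
    · exact le_inf h1 inf_le_right
  have h3 : (Subgroup.center G).relIndex B' = B.relIndex B' := by
    rw [← Subgroup.inf_relIndex_right, h2, Subgroup.inf_relIndex_right]
  have hne : B.relIndex N ≠ 0 := by
    have := card_mul_relIndex_of_le (inf_le_right : B ≤ N)
    intro h0
    rw [h0, mul_zero] at this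
    exact Nat.card_pos.ne' this.symm
  have h4 : B.relIndex B' ≤ B.relIndex N := Subgroup.relIndex_le_of_le_right inf_le_right hne
  have h5 : (Subgroup.center G).relIndex B' = (Subgroup.center G).relIndex B := by
    have e1 := card_inf_mul_relIndex (Subgroup.center G) B
    have e2 := card_inf_mul_relIndex (Subgroup.center G) B'
    rw [hB, center_inf_Cen_inf, ← hB] at e1
    rw [hB', center_inf_Cen_inf, ← hB'] at e2
    have e3 : Nat.card B' = Nat.card B := card_Cen_conj_inf g y
    rw [e3, ← e1] at e2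
    exact Nat.eq_of_mul_eq_mul_left Nat.card_pos e2
  rw [← h5, h3]
  exact h4

end Cfsg.Agent.Lib.Helper8.NTC
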