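import Mathlib

/-!
# A counting lemma: a subgroup acting by conjugation with constant stabilizers
-/

set_option autoImplicit false

namespace Cfsg.Agent.Lib.Helper8.NTC

variable {G : Type*} [Group G]

/-- if all stabilizers of an action on a finite set have index `d`, then `d` divides the size of
the set -/
theorem dvd_card_of_forall_stabilizer_index {α β : Type*} [Group α] [MulAction α β] [Finite α]
    [Finite β]
    (d : ℕ) (h : ∀ b : β, (MulAction.stabilizer α b).index = d) : d ∣ Nat.card β := by
  classical
  haveI : Fintype (Quotient (MulAction.orbitRel α β)) := Fintype.ofFinite _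
  have e := MulAction.selfEquivSigmaOrbitsQuotientStabilizer α β
  rw [Nat.card_congr e, Nat.card_sigma]
  apply Finset.dvd_sum
  intro ω _
  have : Nat.card (α ⧸ MulAction.stabilizer α ω.out) = d := by
    rw [← h ω.out]
    rfl
  rw [this]

/-- A subgroup `P` normalizing `V` such that the centralizer in `P` of every element of `V`
outside the center is `P ⊓ C`: then `|P : P ⊓ C|` divides `|V| - |V ⊓ Z(G)|`. -/
theorem exists_card_eq_add_mul [Finite G] {P V C : Subgroup G}
    (hPV : P ≤ Subgroup.normalizer (V : Set G))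
    (hstab : ∀ v ∈ V, v ∉ Subgroup.center G → ∀ g ∈ P, g * v = v * g → g ∈ C)
    (hC : ∀ g ∈ P, g ∈ C → ∀ v ∈ V, g * v = v * g) :
    ∃ k : ℕ, Nat.card V = Nat.card (Subgroup.center G ⊓ V : Subgroup G) + k * C.relIndex P := by
  classical
  -- the set acted on
  have hconjV : ∀ g ∈ P, ∀ v ∈ V, g * v * g⁻¹ ∈ V := by
    intro g hg v hv
    exact (Subgroup.mem_normalizer_iff.mp (hPV hg) v).mp hv
  have hconjZ : ∀ g v : G, v ∉ Subgroup.center G → g * v * g⁻¹ ∉ Subgroup.center G := by
    intro g v hv h0
    apply hv
    have := (inferInstance : (Subgroup.center G).Normal).conj_mem _ h0 g⁻¹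
    have e : g⁻¹ * (g * v * g⁻¹) * g⁻¹⁻¹ = v := by group
    rwa [e] at this
  let S := {v : V // (v : G) ∉ Subgroup.center G}
  letI : MulAction P S :=
    { smul := fun g v => ⟨⟨(g : G) * (v.1 : G) * (g : G)⁻¹, hconjV g g.2 v.1 v.1.2⟩,
        hconjZ g v.1 v.2⟩
      one_smul := by
        intro v
        apply Subtype.ext
        apply Subtype.ext
        show ((1 : P) : G) * (v.1 : G) * ((1 : P) : G)⁻¹ = (v.1 : G)
        simp
      mul_smul := by
        intro g g' v
        apply Subtype.ext
        apply Subtype.ext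
        show ((g * g' : P) : G) * (v.1 : G) * ((g * g' : P) : G)⁻¹
          = (g : G) * ((g' : G) * (v.1 : G) * (g' : G)⁻¹) * (g : G)⁻¹
        simp only [Subgroup.coe_mul]
        group }
  have hsmul : ∀ (g : P) (v : S), (((g • v : S).1 : V) : G) = (g : G) * (v.1 : G) * (g : G)⁻¹ :=
    fun _ _ => rfl
  have hstabeq : ∀ v : S, MulAction.stabilizer P v = C.subgroupOf P := by
    intro v
    ext g
    rw [MulAction.mem_stabilizer_iff, Subgroup.mem_subgroupOf]
    constructor
    · intro hg
      apply hstab v.1 v.1.2 v.2 g g.2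
      have h1 := congrArg (fun s : S => ((s.1 : V) : G)) hg
      simp only [hsmul] at h1
      calc (g : G) * (v.1 : G) = ((g : G) * (v.1 : G) * (g : G)⁻¹) * g := by group
        _ = (v.1 : G) * g := by rw [h1]
    · intro hg
      apply Subtype.ext
      apply Subtype.ext
      rw [hsmul, hC g g.2 hg v.1 v.1.2]
      group
  have hdvd : C.relIndex P ∣ Nat.card S := by
    apply dvd_card_of_forall_stabilizer_index (α := P)
    intro v
    rw [hstabeq v]
    rfl
  obtain ⟨k, hk⟩ := hdvd
  refine ⟨k, ?_⟩
  have h1 : Nat.card V = Nat.card {v : V // (v : G) ∈ Subgroup.center G} + Nat.card S := by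
    rw [← Nat.card_sum]
    exact Nat.card_congr (Equiv.sumCompl (fun v : V => (v : G) ∈ Subgroup.center G)).symm
  have h2 : Nat.card {v : V // (v : G) ∈ Subgroup.center G}
      = Nat.card (Subgroup.center G ⊓ V : Subgroup G) := by
    have e1 : Nat.card {v : V // (v : G) ∈ Subgroup.center G}
        = Nat.card ((Subgroup.center G).subgroupOf V) := rfl
    rw [e1, ← Subgroup.inf_subgroupOf_right]
    exact Nat.card_congr (Subgroup.subgroupOfEquivOfLe
      (inf_le_right : Subgroup.center G ⊓ V ≤ V)).toEquiv
  rw [h1, h2, hk, mul_comm]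

end Cfsg.Agent.Lib.Helper8.NTC
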