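import Mathlib
import Cfsg.Agent.Lib.Helper8.NTC3
import Cfsg.Agent.Lib.Helper8.NTC4

/-!
# Two class sizes in a normal subgroup: the orbit lemma
-/

set_option autoImplicit false
open scoped commutatorElement

namespace Cfsg.Agent.Lib.Helper8.NTC

open Cfsg.Agent.Lib.Helper7.CM Cfsg.Agent.Lib.Helper7.Ito

variable {G : Type*} [Group G] {N : Subgroup G} {m : ℕ}

/-- The orbit lemma: a `p`-subgroup `P` with `[u, P]` central, `C_N(u)` central in `C_G(u)`:
then `|P : C_P(u)|` divides `b_s - 1`, where `b_s` is the `s`-part of `|C_N(u) : C_N(u) ∩ Z(G)|`,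
for every prime `s ≠ p`. -/
theorem relIndex_dvd_ordProj_sub_one [Finite G] (h : IsECN N m) [hN : N.Normal] {p s : ℕ}
    [hp : Fact p.Prime] [hs : Fact s.Prime] (hps : p ≠ s) {P : Subgroup G} (hP : IsPGroup p P)
    {u : G} (huN : u ∈ N) (huZ : u ∉ Subgroup.center G)
    (hcent : ∀ g ∈ P, ⁅u, g⁆ ∈ Subgroup.center G)
    (hcen : ∀ b ∈ Cen u, b ∈ N → Cen u ≤ Cen b) :
    (Cen u).relIndex P ∣ ordProj[s] ((Subgroup.center G).relIndex (Cen u ⊓ N)) - 1 := by
  classical
  set B : Subgroup G := Cen u ⊓ N with hB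
  have hab : ∀ a ∈ B, ∀ b ∈ B, a * b = b * a := by
    intro a ha b hb
    exact mem_Cen.mp (hcen b hb.1 hb.2 ha.1)
  have hab' : ∀ a ∈ Subgroup.center G ⊓ B, ∀ b ∈ Subgroup.center G ⊓ B, a * b = b * a :=
    fun a ha b hb => hab a ha.2 b hb.2
  set V : Subgroup G := qTorsion B hab s with hV
  have hconj : ∀ g ∈ P, ∀ x ∈ V, g * x * g⁻¹ ∈ V := by
    intro g hg x hx
    obtain ⟨hxB, k, hk⟩ := hx
    refine ⟨⟨conj_mem_Cen_of_commutator (hcent g hg) hxB.1, hN.conj_mem x hxB.2 g⟩, k, ?_⟩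
    rw [conj_pow, hk]
    group
  have hPV : P ≤ Subgroup.normalizer (V : Set G) := by
    intro g hg
    rw [Subgroup.mem_normalizer_iff]
    intro x
    constructor
    · exact hconj g hg x
    · intro hx
      have := hconj g⁻¹ (P.inv_mem hg) _ hx
      have e : g⁻¹ * (g * x * g⁻¹) * g⁻¹⁻¹ = x := by group
      rwa [e] at this
  have hstab : ∀ v ∈ V, v ∉ Subgroup.center G → ∀ g ∈ P, g * v = v * g → g ∈ Cen u := by
    intro v hv hvZ g _ hgv
    have hvB : v ∈ B := hv.1
    have h1 : Cen u = Cen v := h.Cen_eq_of_le huN huZ hvB.2 hvZ (hcen v hvB.1 hvB.2)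
    rw [h1]
    exact mem_Cen.mpr hgv
  have hC : ∀ g ∈ P, g ∈ Cen u → ∀ v ∈ V, g * v = v * g := by
    intro g _ hgu v hv
    have hvB : v ∈ B := hv.1
    exact mem_Cen.mp (hcen v hvB.1 hvB.2 hgu)
  obtain ⟨k, hk⟩ := exists_card_eq_add_mul hPV hstab hC
  -- the cardinalities
  have hcV : Nat.card V = ordProj[s] (Nat.card B) := card_qTorsion B hab s
  have hZV : Subgroup.center G ⊓ V = qTorsion (Subgroup.center G ⊓ B) hab' s := by
    ext w
    constructor
    · rintro ⟨hwZ, hwB, hw⟩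
      exact ⟨⟨hwZ, hwB⟩, hw⟩
    · rintro ⟨⟨hwZ, hwB⟩, hw⟩
      exact ⟨hwZ, hwB, hw⟩
  have hcZV : Nat.card (Subgroup.center G ⊓ V : Subgroup G)
      = ordProj[s] (Nat.card (Subgroup.center G ⊓ B : Subgroup G)) := by
    rw [hZV]
    exact card_qTorsion _ hab' s
  have hcB : Nat.card (Subgroup.center G ⊓ B : Subgroup G) * (Subgroup.center G).relIndex B
      = Nat.card B := by
    have := Subgroup.relIndex_mul_relIndex ⊥ (Subgroup.center G ⊓ B) B bot_le inf_le_right
    rwa [Subgroup.relIndex_bot_left, Subgroup.relIndex_bot_left, Subgroup.inf_relIndex_right] at this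
  set z := Nat.card (Subgroup.center G ⊓ B : Subgroup G) with hz
  set b := (Subgroup.center G).relIndex B with hb
  have hz0 : z ≠ 0 := Nat.card_pos.ne'
  have hb0 : b ≠ 0 := by
    intro h0
    rw [h0, mul_zero] at hcB
    exact Nat.card_pos.ne' hcB.symm
  have hmul : ordProj[s] (Nat.card B) = ordProj[s] z * ordProj[s] b := by
    rw [← hcB]
    exact Nat.ordProj_mul s hz0 hb0
  rw [hcV, hcZV, hmul] at hk
  -- `o` is a power of `p`
  obtain ⟨e, he⟩ : ∃ e : ℕ, (Cen u).relIndex P = p ^ e := by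
    haveI : Fact p.Prime := hp
    have := IsPGroup.index hP ((Cen u).subgroupOf P)
    exact this
  have hbs : 1 ≤ ordProj[s] b := Nat.ordProj_pos b s
  have hk' : ordProj[s] z * (ordProj[s] b - 1) = k * (Cen u).relIndex P := by
    have : ordProj[s] z * (ordProj[s] b - 1) + ordProj[s] z = ordProj[s] z * ordProj[s] b := by
      rw [← Nat.mul_succ, Nat.succ_eq_add_one, Nat.sub_add_cancel hbs]
    omega
  have hcop : Nat.Coprime ((Cen u).relIndex P) (ordProj[s] z) := by
    rw [he]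
    apply Nat.Coprime.pow
    exact (Nat.coprime_primes hp.out hs.out).mpr hps
  exact hcop.dvd_of_dvd_mul_left (Dvd.intro_left k hk'.symm)

end Cfsg.Agent.Lib.Helper8.NTC
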