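import Mathlib
import Cfsg.Agent.Lib.Helper8.NTC5
import Cfsg.Agent.Lib.Helper8.NTC10
import Cfsg.Agent.Lib.Helper7.Ito6

/-!
# Two class sizes in a normal subgroup: the arithmetic of the centralizers in `N`
-/

set_option autoImplicit false
open scoped commutatorElement

namespace Cfsg.Agent.Lib.Helper8.NTC

open Cfsg.Agent.Lib.Helper7.CM Cfsg.Agent.Lib.Helper7.Ito

variable {G : Type*} [Group G] {N : Subgroup G} {m : ℕ}

theorem ordProj_card_Cen_inf [Finite G] {r : ℕ} [hr : Fact r.Prime] (R : Sylow r G)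
    [hN : N.Normal] (hRN : (R : Subgroup G) ≤ N) (x : G) :
    ordProj[r] (Nat.card (Cen x ⊓ N : Subgroup G)) = ordProj[r] (Nat.card (Cen x)) :=
  ordProj_card_eq_of_forall_mem inf_le_left
    (fun _ hw hwo => ⟨hw, mem_of_prime_pow_order R hRN hwo⟩)

theorem relIndex_center_ne_zero [Finite G] (B : Subgroup G) :
    (Subgroup.center G).relIndex B ≠ 0 := by
  have e1 := card_inf_mul_relIndex (Subgroup.center G) B
  intro h0
  rw [h0, mul_zero] at e1
  exact Nat.card_pos.ne' e1.symm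

theorem relIndex_ne_zero_of_finite [Finite G] (B K : Subgroup G) : B.relIndex K ≠ 0 := by
  have e1 := card_inf_mul_relIndex B K
  intro h0
  rw [h0, mul_zero] at e1
  exact Nat.card_pos.ne' e1.symm

theorem ordProj_center_mul [Finite G] {r : ℕ} [hr : Fact r.Prime] (R : Sylow r G)
    [hN : N.Normal] (hRN : (R : Subgroup G) ≤ N) (x : G) :
    ordProj[r] (Nat.card (Subgroup.center G ⊓ N : Subgroup G)) *
      ordProj[r] ((Subgroup.center G).relIndex (Cen x ⊓ N)) = ordProj[r] (Nat.card (Cen x)) := by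
  have e1 := card_inf_mul_relIndex (Subgroup.center G) (Cen x ⊓ N)
  rw [center_inf_Cen_inf] at e1
  rw [← ordProj_card_Cen_inf R hRN x, ← e1,
    Nat.ordProj_mul r Nat.card_pos.ne' (relIndex_center_ne_zero _)]

/-- the `r`-part of `|C_N(x) : Z ∩ N|` is the same for all noncentral `x ∈ N` -/
theorem ordProj_relIndex_center_eq [Finite G] (h : IsECN N m) {r : ℕ} [hr : Fact r.Prime]
    (R : Sylow r G) [hN : N.Normal] (hRN : (R : Subgroup G) ≤ N) {x x' : G} (hx : x ∈ N)
    (hxZ : x ∉ Subgroup.center G) (hx' : x' ∈ N) (hx'Z : x' ∉ Subgroup.center G) :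
    ordProj[r] ((Subgroup.center G).relIndex (Cen x ⊓ N)) =
      ordProj[r] ((Subgroup.center G).relIndex (Cen x' ⊓ N)) := by
  have e1 := ordProj_center_mul R hRN x
  have e2 := ordProj_center_mul R hRN x'
  rw [h.card_Cen_eq hx hxZ hx' hx'Z, ← e2] at e1
  exact Nat.eq_of_mul_eq_mul_left (Nat.ordProj_pos _ _) e1

theorem IsECN.ne_zero [Finite G] (h : IsECN N m) {x : G} (hx : x ∈ N)
    (hxZ : x ∉ Subgroup.center G) : m ≠ 0 := by
  rw [← h x hx hxZ]; exact Subgroup.index_ne_zero_of_finite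

/-- the `r`-part of `|N : C_N(x)|` is the `r`-part of the class size -/
theorem ordProj_relIndex_eq [Finite G] (h : IsECN N m) {r : ℕ} [hr : Fact r.Prime]
    (R : Sylow r G) [hN : N.Normal] (hRN : (R : Subgroup G) ≤ N) {x : G} (hx : x ∈ N)
    (hxZ : x ∉ Subgroup.center G) :
    ordProj[r] ((Cen x ⊓ N).relIndex N) = ordProj[r] m := by
  have e1 := card_mul_relIndex_of_le (inf_le_right : Cen x ⊓ N ≤ N)
  have e2 := Subgroup.card_mul_index (Cen x)
  rw [h x hx hxZ] at e2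
  have e4 : ordProj[r] (Nat.card N) = ordProj[r] (Nat.card G) := by
    have := ordProj_card_eq_of_forall_mem (p := r) (le_top : N ≤ ⊤)
      (fun w _ hwo => mem_of_prime_pow_order R hRN hwo)
    rwa [Subgroup.card_top] at this
  rw [← e1, Nat.ordProj_mul r Nat.card_pos.ne' (relIndex_ne_zero_of_finite _ _),
    ordProj_card_Cen_inf R hRN x, ← e2,
    Nat.ordProj_mul r Nat.card_pos.ne' (h.ne_zero hx hxZ)] at e4
  exact Nat.eq_of_mul_eq_mul_left (Nat.ordProj_pos _ _) e4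

theorem relIndex_dvd_of_isECN [Finite G] (h : IsECN N m) [hN : N.Normal] {x : G} (hx : x ∈ N)
    (hxZ : x ∉ Subgroup.center G) : (Cen x ⊓ N).relIndex N ∣ m := by
  rw [Subgroup.inf_relIndex_right, ← h x hx hxZ]
  exact relIndex_dvd_index_of_normal_right (Cen x) N

/-- prime powers (for primes other than `r`) dividing `|N : C_N(x)|` divide `ρ - 1`, where `ρ` is
the `r`-part of `|C_N(x) : Z ∩ N|` -/
theorem prime_pow_dvd_sub_one [Finite G] (h : IsECN N m) {r : ℕ} [hr : Fact r.Prime]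
    (R : Sylow r G) [hN : N.Normal] (hRN : (R : Subgroup G) ≤ N)
    (hR : ¬ (R : Subgroup G) ≤ Subgroup.center G) {x : G} (hx : x ∈ N)
    (hxZ : x ∉ Subgroup.center G) {q' : ℕ} (hq' : q'.Prime) (hq'r : q' ≠ r) {k : ℕ}
    (hdvd : q' ^ k ∣ (Cen x ⊓ N).relIndex N) :
    q' ^ k ∣ ordProj[r] ((Subgroup.center G).relIndex (Cen x ⊓ N)) - 1 := by
  haveI : Fact q'.Prime := ⟨hq'⟩
  rcases Nat.eq_zero_or_pos k with hk0 | hkpos
  · rw [hk0, pow_zero]; exact one_dvd _
  have hi0 : (Cen x ⊓ N).relIndex N ≠ 0 := relIndex_ne_zero_of_finite _ _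
  have hq'idx : q' ∣ (Cen x ⊓ N).relIndex N := (dvd_pow_self q' hkpos.ne').trans hdvd
  have hm0 : m ≠ 0 := h.ne_zero hx hxZ
  -- a noncentral `q'`-element
  have hex : ∃ y' ∈ N, y' ∉ Subgroup.center G ∧ ∃ k : ℕ, orderOf y' = q' ^ k := by
    by_contra hcon
    push Not at hcon
    have e : ordProj[q'] (Nat.card (Cen x ⊓ N : Subgroup G)) = ordProj[q'] (Nat.card N) := by
      apply ordProj_card_eq_of_forall_mem inf_le_right
      rintro w hw ⟨k, hk⟩
      by_contra hwB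
      have hwZ : w ∉ Subgroup.center G := fun h0 => hwB ⟨center_le_Cen x h0, hw⟩
      exact hcon w hw hwZ k hk
    have e1 := card_mul_relIndex_of_le (inf_le_right : Cen x ⊓ N ≤ N)
    rw [← e1, Nat.ordProj_mul q' Nat.card_pos.ne' hi0] at e
    have e2 : ordProj[q'] ((Cen x ⊓ N).relIndex N) = 1 := by
      have h2 : ordProj[q'] (Nat.card (Cen x ⊓ N : Subgroup G)) * 1 =
          ordProj[q'] (Nat.card (Cen x ⊓ N : Subgroup G)) *
            ordProj[q'] ((Cen x ⊓ N).relIndex N) := by rw [mul_one]; exact e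
      exact (Nat.eq_of_mul_eq_mul_left (Nat.ordProj_pos _ _) h2).symm
    have h3 := Nat.dvd_ordProj_of_dvd hi0 hq' hq'idx
    rw [e2] at h3
    exact hq'.one_lt.ne' (Nat.dvd_one.mp h3)
  obtain ⟨y', hy'N, hy'Z, hy'o⟩ := hex
  obtain ⟨P, u, huP, huN, huZ, -, hcent⟩ := exists_sylow_almost_central hy'N hy'Z hy'o
  have huo : ∃ k : ℕ, orderOf u = q' ^ k := orderOf_eq_prime_pow_of_mem P.2 huP
  have hcen : ∀ b ∈ Cen u, b ∈ N → Cen u ≤ Cen b := fun b hbC hbN =>
    Cen_le_Cen_of_mem h R hRN hR hq' hq'r huN huZ huo hbC hbN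
  have hD2 := relIndex_dvd_ordProj_sub_one h (p := q') (s := r) hq'r P.2 huN huZ hcent hcen
  rw [ordProj_relIndex_center_eq h R hRN huN huZ hx hxZ] at hD2
  have hD1 := ordProj_index_le P (Cen u)
  rw [h u huN huZ] at hD1
  obtain ⟨e, he⟩ : ∃ e : ℕ, (Cen u).relIndex (P : Subgroup G) = q' ^ e :=
    IsPGroup.index P.2 ((Cen u).subgroupOf (P : Subgroup G))
  have h1 : q' ^ k ∣ m := hdvd.trans (relIndex_dvd_of_isECN h hx hxZ)
  have h2 : q' ^ k ∣ ordProj[q'] m := (hq'.pow_dvd_iff_dvd_ordProj hm0).mp h1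
  have h3 : ordProj[q'] m ∣ q' ^ e := by
    rw [he] at hD1
    exact (Nat.pow_dvd_pow_iff_le_right hq'.one_lt).mpr
      ((Nat.pow_le_pow_iff_right hq'.one_lt).mp hD1)
  rw [he] at hD2
  exact h2.trans (h3.trans hD2)

/-- Step F: the `r'`-part of `|C_N(y) : Z ∩ N|` is smaller than the `r`-part of the class size -/
theorem ordCompl_relIndex_center_lt [Finite G] (h : IsECN N m) {r : ℕ} [hr : Fact r.Prime]
    (R : Sylow r G) [hN : N.Normal] (hRN : (R : Subgroup G) ≤ N)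
    (hR : ¬ (R : Subgroup G) ≤ Subgroup.center G) (hrm : r ∣ m) {q : ℕ} (hq : q.Prime)
    (hqr : q ≠ r) {y : G} (hy : y ∈ N) (hyZ : y ∉ Subgroup.center G)
    (hyo : ∃ k : ℕ, orderOf y = q ^ k) :
    ordCompl[r] ((Subgroup.center G).relIndex (Cen y ⊓ N)) < ordProj[r] m := by
  have hE := relIndex_center_le_relIndex h R hRN hR hrm hq hqr hy hyZ hyo
  have hF1 := ordProj_relIndex_eq h R hRN hy hyZ
  set b := (Subgroup.center G).relIndex (Cen y ⊓ N) with hb
  set idx := (Cen y ⊓ N).relIndex N with hidx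
  have hb0 : b ≠ 0 := relIndex_center_ne_zero _
  have hi0 : idx ≠ 0 := relIndex_ne_zero_of_finite _ _
  have hρ : r ∣ b := by
    obtain ⟨w, hwC, hwZ, hwo⟩ := exists_rElt_in_Cen h R hRN hR hy hyZ
    exact prime_dvd_relIndex_center ⟨hwC, mem_of_prime_pow_order R hRN hwo⟩ hwZ hwo
  have hρ2 : 2 ≤ ordProj[r] b := by
    have h1 := Nat.dvd_ordProj_of_dvd hb0 hr.out hρ
    have h2 := Nat.le_of_dvd (Nat.ordProj_pos b r) h1
    exact hr.out.two_le.trans h2
  have hF6 : ordCompl[r] idx ∣ ordProj[r] b - 1 := by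
    rw [Nat.dvd_iff_prime_pow_dvd_dvd]
    intro p k hp hpk
    rcases Nat.eq_zero_or_pos k with hk0 | hkpos
    · rw [hk0, pow_zero]; exact one_dvd _
    have hpr : p ≠ r := by
      intro h0
      rw [h0] at hpk
      have : r ∣ ordCompl[r] idx := (dvd_pow_self r hkpos.ne').trans hpk
      exact Nat.not_dvd_ordCompl hr.out hi0 this
    have h1 : p ^ k ∣ idx := hpk.trans (Nat.ordCompl_dvd idx r)
    exact prime_pow_dvd_sub_one h R hRN hR hy hyZ hp hpr h1
  have hi_le : ordCompl[r] idx ≤ ordProj[r] b - 1 := Nat.le_of_dvd (by omega) hF6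
  have e1 : ordProj[r] b * ordCompl[r] b = b := Nat.ordProj_mul_ordCompl_eq_self b r
  have e2 : ordProj[r] m * ordCompl[r] idx = idx := by
    rw [← hF1]; exact Nat.ordProj_mul_ordCompl_eq_self idx r
  by_contra hlt
  push Not at hlt
  have h1 : ordProj[r] b * ordProj[r] m ≤ ordProj[r] b * ordCompl[r] b :=
    Nat.mul_le_mul_left _ hlt
  have h2 : ordProj[r] m * ordCompl[r] idx ≤ ordProj[r] m * (ordProj[r] b - 1) :=
    Nat.mul_le_mul_left _ hi_le
  have h3 : ordProj[r] m * (ordProj[r] b - 1) + ordProj[r] m = ordProj[r] m * ordProj[r] b := by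
    rw [← Nat.mul_succ]
    congr 1
    omega
  have h4 : ordProj[r] m * ordProj[r] b = ordProj[r] b * ordProj[r] m := Nat.mul_comm _ _
  have h5 : 0 < ordProj[r] m := Nat.ordProj_pos m r
  omega

end Cfsg.Agent.Lib.Helper8.NTC
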