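import Mathlib
import Cfsg.Agent.Lib.Helper8.NTC11

/-!
# Two class sizes in a normal subgroup: almost central `r`-elements centralizing a noncentral
element of prime power order for another prime do not exist; the structure of the
`q`-subgroups of `N` in the remaining case
-/

set_option autoImplicit false
open scoped commutatorElement

namespace Cfsg.Agent.Lib.Helper8.NTC

open Cfsg.Agent.Lib.Helper7.CM Cfsg.Agent.Lib.Helper7.Ito

variable {G : Type*} [Group G] {N : Subgroup G} {m : ℕ}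

/-- Step G1 -/
theorem false_of_typeI [Finite G] (h : IsECN N m) {r : ℕ} [hr : Fact r.Prime]
    (R : Sylow r G) [hN : N.Normal] (hRN : (R : Subgroup G) ≤ N)
    (hR : ¬ (R : Subgroup G) ≤ Subgroup.center G) (hrm : r ∣ m) (R' : Sylow r G) {u : G}
    (huR : u ∈ (R' : Subgroup G)) (huN : u ∈ N) (huZ : u ∉ Subgroup.center G)
    (hcent : ∀ t ∈ (R' : Subgroup G), ⁅u, t⁆ ∈ Subgroup.center G) {q' : ℕ} (hq' : q'.Prime)
    (hq'r : q' ≠ r) {w : G} (hwC : w ∈ Cen u) (hwN : w ∈ N) (hwZ : w ∉ Subgroup.center G)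
    (hwo : ∃ k : ℕ, orderOf w = q' ^ k) : False := by
  haveI : Fact q'.Prime := ⟨hq'⟩
  obtain ⟨ku, hku⟩ : ∃ k : ℕ, orderOf u = r ^ k := orderOf_eq_prime_pow_of_mem R'.2 huR
  have hcop : Nat.Coprime r q' := (Nat.coprime_primes hr.out hq').mpr (Ne.symm hq'r)
  have hCuw : Cen u = Cen w := by
    obtain ⟨kw, hkw⟩ := hwo
    apply h.Cen_eq_of_coprime huN hwN huZ hwZ (mem_Cen.mp hwC).symm
    rw [hku, hkw]
    exact Nat.Coprime.pow _ _ hcop
  have hcen : ∀ b ∈ Cen u, b ∈ N → Cen u ≤ Cen b := by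
    intro b hbC hbN
    rw [hCuw] at hbC ⊢
    exact Cen_le_Cen_of_mem h R hRN hR hq' hq'r hwN hwZ hwo hbC hbN
  have hD2 := relIndex_dvd_ordProj_sub_one h (p := r) (s := q') (Ne.symm hq'r) R'.2 huN huZ
    hcent hcen
  have hD1 := ordProj_index_le R' (Cen u)
  rw [h u huN huZ] at hD1
  set b' := (Subgroup.center G).relIndex (Cen u ⊓ N) with hb'
  have hb0 : b' ≠ 0 := relIndex_center_ne_zero _
  have hq'b : q' ∣ b' := prime_dvd_relIndex_center ⟨hwC, hwN⟩ hwZ hwo
  have h2 : 2 ≤ ordProj[q'] b' := by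
    have h1 := Nat.dvd_ordProj_of_dvd hb0 hq' hq'b
    exact hq'.two_le.trans (Nat.le_of_dvd (Nat.ordProj_pos b' q') h1)
  have h3 : (Cen u).relIndex (R' : Subgroup G) ≤ ordProj[q'] b' - 1 :=
    Nat.le_of_dvd (by omega) hD2
  have hF := ordCompl_relIndex_center_lt h R hRN hR hrm hq' hq'r hwN hwZ hwo
  rw [← hCuw, ← hb'] at hF
  have h4 : ordProj[q'] b' ∣ ordCompl[r] b' := by
    have e1 : ordProj[r] b' * ordCompl[r] b' = b' := Nat.ordProj_mul_ordCompl_eq_self b' r
    have h5 : ordProj[q'] b' ∣ ordProj[r] b' * ordCompl[r] b' := by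
      rw [e1]; exact Nat.ordProj_dvd b' q'
    have hc : Nat.Coprime (ordProj[q'] b') (ordProj[r] b') := Nat.Coprime.pow _ _ hcop.symm
    exact hc.dvd_of_dvd_mul_left h5
  have h5 : ordProj[q'] b' ≤ ordCompl[r] b' :=
    Nat.le_of_dvd (Nat.pos_of_ne_zero (by
      intro h0
      have e1 : ordProj[r] b' * ordCompl[r] b' = b' := Nat.ordProj_mul_ordCompl_eq_self b' r
      rw [h0, mul_zero] at e1
      exact hb0 e1.symm)) h4
  omega

/-- the index over the central part divides, for subgroups of `N` -/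
theorem relIndex_center_dvd [Finite G] {H : Subgroup G} (hHN : H ≤ N) :
    (Subgroup.center G).relIndex H ∣ (Subgroup.center G).relIndex N := by
  have e1 : (Subgroup.center G).relIndex (Subgroup.center G ⊔ H) = (Subgroup.center G).relIndex H :=
    Subgroup.relIndex_sup_left _ _
  have e2 : (Subgroup.center G).relIndex (Subgroup.center G ⊔ N) = (Subgroup.center G).relIndex N :=
    Subgroup.relIndex_sup_left _ _
  have e3 := Subgroup.relIndex_mul_relIndex (Subgroup.center G) (Subgroup.center G ⊔ H)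
    (Subgroup.center G ⊔ N) le_sup_left (sup_le_sup_left hHN _)
  rw [e1, e2] at e3
  exact Dvd.intro _ e3

/-- if all `q`-elements of `C_N(u)` are central and the `q`-part of the class size is at most
`q`, then every `q`-subgroup of `N` has index at most `q` over its central part -/
theorem relIndex_center_le_of_typeII [Finite G] (h : IsECN N m) [hN : N.Normal] {q : ℕ}
    [hq : Fact q.Prime] (hmq : ordProj[q] m ≤ q) {u : G} (huN : u ∈ N)
    (huZ : u ∉ Subgroup.center G)
    (hII : ∀ w ∈ Cen u, w ∈ N → (∃ k : ℕ, orderOf w = q ^ k) → w ∈ Subgroup.center G)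
    {H : Subgroup G} (hHN : H ≤ N) (hH : IsPGroup q H) :
    (Subgroup.center G).relIndex H ≤ q := by
  have hm0 : m ≠ 0 := h.ne_zero huN huZ
  have e1 := card_inf_mul_relIndex (Subgroup.center G) N
  have e2 : ordProj[q] (Nat.card (Subgroup.center G ⊓ N : Subgroup G)) =
      ordProj[q] (Nat.card (Cen u ⊓ N : Subgroup G)) := by
    apply ordProj_card_eq_of_forall_mem
    · exact inf_le_inf_right N (center_le_Cen u)
    · intro w hw hwo
      exact ⟨hII w hw.1 hw.2 hwo, hw.2⟩
  have e3 := card_mul_relIndex_of_le (inf_le_right : Cen u ⊓ N ≤ N)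
  have e4 : (Cen u ⊓ N).relIndex N ∣ m := relIndex_dvd_of_isECN h huN huZ
  have hZN0 : (Subgroup.center G).relIndex N ≠ 0 := relIndex_center_ne_zero N
  have e5 : ordProj[q] ((Subgroup.center G).relIndex N) = ordProj[q] ((Cen u ⊓ N).relIndex N) := by
    have h1 : ordProj[q] (Nat.card (Subgroup.center G ⊓ N : Subgroup G)) *
        ordProj[q] ((Subgroup.center G).relIndex N) =
        ordProj[q] (Nat.card (Cen u ⊓ N : Subgroup G)) * ordProj[q] ((Cen u ⊓ N).relIndex N) := by
      rw [← Nat.ordProj_mul q Nat.card_pos.ne' hZN0,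
        ← Nat.ordProj_mul q Nat.card_pos.ne' (relIndex_ne_zero_of_finite _ _), e1, e3]
    rw [e2] at h1
    exact Nat.eq_of_mul_eq_mul_left (Nat.ordProj_pos _ _) h1
  have e6 : ordProj[q] ((Subgroup.center G).relIndex N) ≤ q := by
    rw [e5]
    have h1 := Nat.ordProj_dvd_ordProj_of_dvd hm0 e4 q
    exact (Nat.le_of_dvd (Nat.ordProj_pos m q) h1).trans hmq
  obtain ⟨j, hj⟩ := IsPGroup.iff_card.mp hH
  have h1 : (Subgroup.center G).relIndex H ∣ q ^ j := by
    rw [← hj]; exact Subgroup.relIndex_dvd_card _ H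
  obtain ⟨i, _, hi⟩ := (Nat.dvd_prime_pow hq.out).mp h1
  have h2 : q ^ i ∣ (Subgroup.center G).relIndex N := by
    rw [← hi]; exact relIndex_center_dvd hHN
  have h3 : q ^ i ∣ ordProj[q] ((Subgroup.center G).relIndex N) :=
    (hq.out.pow_dvd_iff_dvd_ordProj hZN0).mp h2
  rw [hi]
  exact (Nat.le_of_dvd (Nat.ordProj_pos _ _) h3).trans e6

end Cfsg.Agent.Lib.Helper8.NTC
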