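import Mathlib
import Cfsg.Agent.Lib.Helper7.TwoCS1

/-!
# Conjugation automorphisms of a normalized subgroup and fixed norms
-/

set_option autoImplicit false

namespace Cfsg.Agent.Lib.Helper8.NTC

open Cfsg.Agent.Lib.Helper7.TwoCS

variable {G : Type*} [Group G]

/-- conjugation by the elements of a subgroup `P` normalizing `V`, as automorphisms of `V` -/
def conjHom (P V : Subgroup G) (hPV : P ≤ Subgroup.normalizer (V : Set G)) : P →* MulAut V :=
  MonoidHom.mk'
    (fun g =>
      { toFun := fun v => ⟨(g : G) * v * (g : G)⁻¹,
          (Subgroup.mem_normalizer_iff.mp (hPV g.2) v).mp v.2⟩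
        invFun := fun v => ⟨(g : G)⁻¹ * v * (g : G), by
          have := (Subgroup.mem_normalizer_iff.mp (hPV (P.inv_mem g.2)) v).mp v.2
          simpa using this⟩
        left_inv := by
          intro v
          apply Subtype.ext
          show (g : G)⁻¹ * ((g : G) * v * (g : G)⁻¹) * (g : G) = v
          group
        right_inv := by
          intro v
          apply Subtype.ext
          show (g : G) * ((g : G)⁻¹ * v * (g : G)) * (g : G)⁻¹ = v
          group
        map_mul' := by
          intro v w
          apply Subtype.ext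
          show (g : G) * ((v : G) * w) * (g : G)⁻¹
            = ((g : G) * v * (g : G)⁻¹) * ((g : G) * w * (g : G)⁻¹)
          group })
    (by
      intro g g'
      apply MulEquiv.ext
      intro v
      apply Subtype.ext
      show ((g * g' : P) : G) * v * ((g * g' : P) : G)⁻¹
        = (g : G) * ((g' : G) * v * (g' : G)⁻¹) * (g : G)⁻¹
      simp only [Subgroup.coe_mul]
      group)

theorem conjHom_apply (P V : Subgroup G) (hPV : P ≤ Subgroup.normalizer (V : Set G)) (g : P)
    (v : V) : ((conjHom P V hPV g v : V) : G) = (g : G) * v * (g : G)⁻¹ := rfl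

section abstract

variable {A : Type*} [CommGroup A]

/-- the norm with respect to an automorphism of order dividing `p` is fixed -/
theorem Nm_fixed (p : ℕ) (φ : MulAut A) (hφ : φ ^ p = 1) (c : A) : φ (Nm p φ c) = Nm p φ c := by
  unfold Nm
  rw [map_prod]
  have h1 : ∀ k ∈ Finset.range p, φ ((φ ^ k) c) = (φ ^ (k + 1)) c := by
    intro k _
    rw [pow_succ', MulAut.mul_apply]
  rw [Finset.prod_congr rfl h1]
  have h2 := Finset.prod_range_succ (fun k => (φ ^ k) c) p
  have h3 := Finset.prod_range_succ' (fun k => (φ ^ k) c) p
  rw [h2] at h3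
  have h4 : (φ ^ p) c = c := by rw [hφ]; rfl
  have h5 : (φ ^ 0) c = c := by rw [pow_zero]; rfl
  rw [h4, h5] at h3
  exact (mul_right_cancel h3).symm

end abstract

end Cfsg.Agent.Lib.Helper8.NTC
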