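import Mathlib
import Cfsg.Agent.Lib.Helper8.NTC5
import Cfsg.Agent.Lib.Helper8.NTC6
import Cfsg.Agent.Lib.Helper7.TwoCS3

/-!
# Two class sizes in a normal subgroup: the index `|P : C_P(u)|` is at most `q`
-/

set_option autoImplicit false
open scoped commutatorElement IsMulCommutative

namespace Cfsg.Agent.Lib.Helper8.NTC

open Cfsg.Agent.Lib.Helper7.CM Cfsg.Agent.Lib.Helper7.Ito Cfsg.Agent.Lib.Helper7.TwoCS

variable {G : Type*} [Group G] {N : Subgroup G} {m : ℕ}

/-- a `q`-subgroup `P ∋ u` with `[u, P]` central, `u ^ q` central and `C_N(u)` central in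
`C_G(u)`, containing a noncentral `r`-element: then `|P : C_P(u)| ≤ q`. -/
theorem relIndex_le_prime [Finite G] (h : IsECN N m) [hN : N.Normal] {q r : ℕ}
    [hq : Fact q.Prime] [hr : Fact r.Prime] (hqr : q ≠ r) {P : Subgroup G}
    {u : G} (huP : u ∈ P) (huN : u ∈ N) (huZ : u ∉ Subgroup.center G)
    (huq : u ^ q ∈ Subgroup.center G) (hcent : ∀ g ∈ P, ⁅u, g⁆ ∈ Subgroup.center G)
    (hcen : ∀ b ∈ Cen u, b ∈ N → Cen u ≤ Cen b) {x : G} (hxC : x ∈ Cen u) (hxN : x ∈ N)
    (hxZ : x ∉ Subgroup.center G) (hxo : ∃ k : ℕ, orderOf x = r ^ k) :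
    (Cen u).relIndex P ≤ q := by
  classical
  by_contra hlt
  push Not at hlt
  set B : Subgroup G := Cen u ⊓ N with hB
  have hab : ∀ a ∈ B, ∀ b ∈ B, a * b = b * a := by
    intro a ha b hb
    exact mem_Cen.mp (hcen b hb.1 hb.2 ha.1)
  set V : Subgroup G := qTorsion B hab r with hV
  have hconj : ∀ g ∈ P, ∀ v ∈ V, g * v * g⁻¹ ∈ V := by
    intro g hg v hv
    obtain ⟨hvB, k, hk⟩ := hv
    refine ⟨⟨conj_mem_Cen_of_commutator (hcent g hg) hvB.1, hN.conj_mem v hvB.2 g⟩, k, ?_⟩
    rw [conj_pow, hk]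
    group
  have hPV : P ≤ Subgroup.normalizer (V : Set G) := by
    intro g hg
    rw [Subgroup.mem_normalizer_iff]
    intro v
    constructor
    · exact hconj g hg v
    · intro hv
      have := hconj g⁻¹ (P.inv_mem hg) _ hv
      have e : g⁻¹ * (g * v * g⁻¹) * g⁻¹⁻¹ = v := by group
      rwa [e] at this
  haveI hVc : IsMulCommutative V :=
    ⟨⟨fun a b => Subtype.ext (hab a a.2.1 b b.2.1)⟩⟩
  -- the homomorphism `κ` on `P`
  set u' : P := ⟨u, huP⟩ with hu'
  have hzc : ∀ g : P, u' * g * u'⁻¹ * g⁻¹ ∈ Subgroup.center P := by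
    intro g
    rw [Subgroup.mem_center_iff]
    intro t
    apply Subtype.ext
    have h1 := hcent g g.2
    rw [commutatorElement_def] at h1
    have h2 := Subgroup.mem_center_iff.mp h1 (t : G)
    simpa using h2
  set κ := Cfsg.Agent.Lib.Helper7.TwoCS.kappa u' hzc with hκ
  have hker : ∀ g : P, κ g = 1 ↔ (g : G) ∈ Cen u := by
    intro g
    rw [← MonoidHom.mem_ker, hκ, Cfsg.Agent.Lib.Helper7.TwoCS.ker_kappa, mem_Cen, mem_Cen]
    constructor
    · intro h1
      exact congrArg Subtype.val h1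
    · intro h1
      exact Subtype.ext h1
  -- `κ` has exponent `q`
  have hexp : ∀ g : P, (κ g) ^ q = 1 := by
    intro g
    have hζ : ((κ g : Subgroup.center P) : P) ∈ Subgroup.center P := (κ g).2
    have hk : u' * g * u'⁻¹ = g * ((κ g : Subgroup.center P) : P) := by
      have e : ((κ g : Subgroup.center P) : P) = u' * g * u'⁻¹ * g⁻¹ := rfl
      rw [e, Subgroup.mem_center_iff.mp (hzc g) g]
      group
    have h1 := conj_pow_central hζ hk q
    have h2 : u' ^ q ∈ Subgroup.center P := by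
      rw [Subgroup.mem_center_iff]
      intro t
      apply Subtype.ext
      have := Subgroup.mem_center_iff.mp huq (t : G)
      simpa using this
    have h3 : u' ^ q * g * (u' ^ q)⁻¹ = g := by
      rw [← Subgroup.mem_center_iff.mp h2 g]
      group
    rw [h3] at h1
    have h4 : ((κ g : Subgroup.center P) : P) ^ q = 1 := by
      have : g * 1 = g * ((κ g : Subgroup.center P) : P) ^ q := by rw [mul_one]; exact h1
      exact (mul_left_cancel this).symm
    apply Subtype.ext
    exact h4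
  -- the size of the image
  have hidx : κ.ker.index = (Cen u).relIndex P := by
    have : κ.ker = (Cen u).subgroupOf P := by
      ext g
      rw [MonoidHom.mem_ker, hker, Subgroup.mem_subgroupOf]
    rw [this]
    rfl
  have hcardrange : Nat.card κ.range = (Cen u).relIndex P := by
    rw [← hidx, Subgroup.index_ker]
  -- the elements `a` and `b`
  have hnt : ∃ a : P, κ a ≠ 1 := by
    by_contra hcon
    push Not at hcon
    have : κ.range = ⊥ := by
      rw [eq_bot_iff]
      rintro _ ⟨g, rfl⟩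
      rw [Subgroup.mem_bot]
      exact hcon g
    rw [this, Subgroup.card_bot] at hcardrange
    have := hq.out.two_le
    omega
  obtain ⟨a, ha⟩ := hnt
  have hoa : orderOf (κ a) = q := orderOf_eq_prime (hexp a) ha
  have hb : ∃ b : P, κ b ∉ Subgroup.zpowers (κ a) := by
    by_contra hcon
    push Not at hcon
    have hle : κ.range ≤ (Subgroup.zpowers (κ a)) := by
      rintro _ ⟨g, rfl⟩
      exact hcon g
    have h1 := Subgroup.card_le_of_le hle
    rw [Nat.card_zpowers, hoa, hcardrange] at h1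
    omega
  obtain ⟨b, hb⟩ := hb
  have hbai : ∀ i : ℕ, κ (b * a ^ i) ≠ 1 := by
    intro i h0
    apply hb
    rw [map_mul, map_pow] at h0
    have : κ b = ((κ a) ^ i)⁻¹ := eq_inv_of_mul_eq_one_left h0
    rw [this]
    exact Subgroup.inv_mem _ (Subgroup.pow_mem _ (Subgroup.mem_zpowers _) _)
  -- the automorphisms
  set Φ := conjHom P V hPV with hΦ
  have hΦker : ∀ g : P, κ g = 1 → Φ g = 1 := by
    intro g hg
    rw [hker] at hg
    apply MulEquiv.ext
    intro v
    apply Subtype.ext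
    rw [hΦ, conjHom_apply]
    have hvB : (v : G) ∈ B := v.2.1
    have := mem_Cen.mp (hcen v hvB.1 hvB.2 hg)
    rw [this]
    simp
  have hΦq : ∀ g : P, (Φ g) ^ q = 1 := by
    intro g
    rw [← map_pow]
    apply hΦker
    rw [map_pow]
    exact hexp g
  have hcomm : Commute (Φ b) (Φ a) := by
    show Φ b * Φ a = Φ a * Φ b
    rw [← map_mul, ← map_mul]
    have h1 : b * a = (a * b) * ((a * b)⁻¹ * (b * a)) := by group
    rw [h1, map_mul, hΦker ((a * b)⁻¹ * (b * a)), mul_one]
    rw [map_mul, map_inv, map_mul, map_mul, mul_comm (κ a) (κ b)]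
    group
  -- the subgroup of central elements
  set Zs : Subgroup V := (Subgroup.center G).subgroupOf V with hZs
  have hfix : ∀ (t : P), κ t ≠ 1 → ∀ c : V, Φ t c = c → c ∈ Zs := by
    intro t ht c hc
    rw [hZs, Subgroup.mem_subgroupOf]
    by_contra hcZ
    apply ht
    rw [hker]
    have hcB : (c : G) ∈ B := c.2.1
    have h1 : Cen u = Cen (c : G) := h.Cen_eq_of_le huN huZ hcB.2 hcZ (hcen c hcB.1 hcB.2)
    rw [h1, mem_Cen]
    have h2 := congrArg Subtype.val hc
    rw [hΦ, conjHom_apply] at h2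
    calc (t : G) * c = ((t : G) * c * (t : G)⁻¹) * t := by group
      _ = c * t := by rw [h2]
  have hδ : ∀ ζ ∈ Zs, Φ b ζ = ζ := by
    intro ζ hζ
    rw [hZs, Subgroup.mem_subgroupOf] at hζ
    apply Subtype.ext
    rw [hΦ, conjHom_apply, Subgroup.mem_center_iff.mp hζ (b : G)]
    group
  have hpow : ∀ c : V, c ^ q ∈ Zs := by
    intro c
    apply norm_trick hq.out (Φ a) (Φ b) hcomm (hΦq a) Zs hδ c
    · exact hfix a ha _ (Nm_fixed q (Φ a) (hΦq a) c)
    · intro i _
      have e : Φ b * Φ a ^ i = Φ (b * a ^ i) := by rw [map_mul, map_pow]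
      rw [e]
      exact hfix (b * a ^ i) (hbai i) _ (Nm_fixed q _ (hΦq _) c)
  -- the contradiction
  obtain ⟨k, hk⟩ := hxo
  have hxV : x ∈ V := ⟨⟨hxC, hxN⟩, k, by rw [← hk]; exact pow_orderOf_eq_one x⟩
  have h1 := hpow ⟨x, hxV⟩
  rw [hZs, Subgroup.mem_subgroupOf] at h1
  have h2 : x ^ q ∈ Subgroup.center G := h1
  have hcop : (orderOf x).Coprime q := by
    rw [hk]
    apply Nat.Coprime.pow_left
    exact (Nat.coprime_primes hr.out hq.out).mpr (Ne.symm hqr)
  obtain ⟨j, hj⟩ := exists_pow_eq_self_of_coprime hcop.symm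
  apply hxZ
  rw [← hj]
  exact Subgroup.pow_mem _ h2 j

end Cfsg.Agent.Lib.Helper8.NTC
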