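import Mathlib
import Cfsg.Agent.Lib.Helper8.NTC7
import Cfsg.Agent.Lib.Helper8.NTC12

/-!
# Two class sizes in a normal subgroup: the case of an almost central `r`-element whose
centralizer in `N` has only central `q`-elements
-/

set_option autoImplicit false
open scoped commutatorElement

namespace Cfsg.Agent.Lib.Helper8.NTC

open Cfsg.Agent.Lib.Helper7.CM Cfsg.Agent.Lib.Helper7.Ito

theorem commute_comm_conj_aux {Q : Type*} [Group Q] {a b c : Q} (hb : Commute b c)
    (hb' : Commute b (a⁻¹ * c * a)) : Commute (a * b * a⁻¹ * b⁻¹) c := by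
  have h1 : b⁻¹ * c = c * b⁻¹ := (hb.inv_left).eq
  have h2 : b * (a⁻¹ * c * a) = (a⁻¹ * c * a) * b := hb'.eq
  show a * b * a⁻¹ * b⁻¹ * c = c * (a * b * a⁻¹ * b⁻¹)
  calc a * b * a⁻¹ * b⁻¹ * c = a * b * a⁻¹ * (b⁻¹ * c) := by group
    _ = a * b * a⁻¹ * (c * b⁻¹) := by rw [h1]
    _ = a * (b * (a⁻¹ * c * a)) * a⁻¹ * b⁻¹ := by group
    _ = a * ((a⁻¹ * c * a) * b) * a⁻¹ * b⁻¹ := by rw [h2]
    _ = c * (a * b * a⁻¹ * b⁻¹) := by group

variable {G : Type*} [Group G] {N : Subgroup G} {m : ℕ}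

/-- Step G2 -/
theorem false_of_typeII [Finite G] (h : IsECN N m) {r : ℕ} [hr : Fact r.Prime] (R : Sylow r G)
    [hN : N.Normal] (hRN : (R : Subgroup G) ≤ N) (hR : ¬ (R : Subgroup G) ≤ Subgroup.center G)
    {q : ℕ} [hq : Fact q.Prime] (hqr : q ≠ r) (P : Sylow q G) {y : G}
    (hyP : y ∈ (P : Subgroup G)) (hyN : y ∈ N) (hyZ : y ∉ Subgroup.center G)
    (hyq : y ^ q ∈ Subgroup.center G)
    (hcentP : ∀ g ∈ (P : Subgroup G), ⁅y, g⁆ ∈ Subgroup.center G)
    {x : G} (hxC : x ∈ Cen y) (hxZ : x ∉ Subgroup.center G) (hxo : ∃ k : ℕ, orderOf x = r ^ k)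
    {u : G} (huN : u ∈ N) (huZ : u ∉ Subgroup.center G) (huo : ∃ k : ℕ, orderOf u = r ^ k)
    (hux : ⁅u, x⁆ ∈ Subgroup.center G)
    (hII : ∀ w ∈ Cen u, w ∈ N → (∃ k : ℕ, orderOf w = q ^ k) → w ∈ Subgroup.center G) :
    False := by
  classical
  have hyo : ∃ k : ℕ, orderOf y = q ^ k := orderOf_eq_prime_pow_of_mem P.2 hyP
  have hxN : x ∈ N := mem_of_prime_pow_order R hRN hxo
  have hcen : ∀ b ∈ Cen y, b ∈ N → Cen y ≤ Cen b := fun b hbC hbN =>
    Cen_le_Cen_of_mem h R hRN hR hq.out hqr hyN hyZ hyo hbC hbN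
  have hCx : Cen x = Cen y := Cen_eq_of_mem h R hRN hR hq.out hqr hyN hyZ hyo hxC hxN hxZ
  have hD3 : (Cen y).relIndex (P : Subgroup G) ≤ q :=
    relIndex_le_prime h hqr hyP hyN hyZ hyq hcentP hcen hxC hxN hxZ hxo
  have hD1 := ordProj_index_le P (Cen y)
  rw [h y hyN hyZ] at hD1
  have hmq : ordProj[q] m ≤ q := hD1.trans hD3
  have hm0 : m ≠ 0 := h.ne_zero hyN hyZ
  -- `u` does not centralize `y`
  have huC : u ∉ Cen y := by
    intro h0
    apply hyZ
    exact hII y (mem_Cen.mpr (mem_Cen.mp h0).symm) hyN hyo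
  -- `q` divides `m`
  have hqm : q ∣ m := by
    by_contra hndvd
    have h1 : ¬ q ∣ (Cen u).index := by rw [h u huN huZ]; exact hndvd
    obtain ⟨g, hg⟩ := exists_conj_mem_of_not_dvd_index (Cen u) h1 hyo
    have hgN : g⁻¹ * y * g ∈ N := by
      have := hN.conj_mem y hyN g⁻¹
      rwa [inv_inv] at this
    have hgo : ∃ k : ℕ, orderOf (g⁻¹ * y * g) = q ^ k := by
      obtain ⟨k, hk⟩ := hyo
      refine ⟨k, ?_⟩
      rw [← hk]
      have : g⁻¹ * y * g = MulAut.conj g⁻¹ y := by rw [MulAut.conj_apply, inv_inv]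
      rw [this]
      exact MulEquiv.orderOf_eq _ y
    have hgZ := hII _ hg hgN hgo
    apply hyZ
    have := (inferInstance : (Subgroup.center G).Normal).conj_mem _ hgZ g
    have e : g * (g⁻¹ * y * g) * g⁻¹ = y := by group
    rwa [e] at this
  have hstruct : ∀ H : Subgroup G, H ≤ N → IsPGroup q H →
      (Subgroup.center G).relIndex H ≤ q := fun H hHN hH =>
    relIndex_center_le_of_typeII h hmq huN huZ hII hHN hH
  -- the subgroups `B` and `V`
  set B := Cen y ⊓ N with hB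
  have hab : ∀ a ∈ B, ∀ b ∈ B, a * b = b * a := fun a ha b hb =>
    mem_Cen.mp (hcen b hb.1 hb.2 ha.1)
  set V := qTorsion B hab q with hV
  have hVp : IsPGroup q V := qTorsion_isPGroup B hab q
  have hVN : V ≤ N := fun v hv => hv.1.2
  have hyV : y ∈ V := by
    obtain ⟨k, hk⟩ := hyo
    exact ⟨⟨self_mem_Cen y, hyN⟩, k, by rw [← hk]; exact pow_orderOf_eq_one y⟩
  have hVidx : (Subgroup.center G ⊓ V).relIndex V ≤ q := by
    rw [Subgroup.inf_relIndex_right]; exact hstruct V hVN hVp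
  have hconjV : ∀ t : G, (∀ c ∈ Cen y, t * c * t⁻¹ ∈ Cen y) → ∀ v ∈ V, t * v * t⁻¹ ∈ V := by
    intro t ht v hv
    obtain ⟨hvB, k, hk⟩ := hv
    refine ⟨⟨ht v hvB.1, hN.conj_mem v hvB.2 t⟩, k, ?_⟩
    rw [conj_pow, hk]
    group
  have hnormV : ∀ t : G, (∀ c ∈ Cen y, t * c * t⁻¹ ∈ Cen y) →
      (∀ c ∈ Cen y, t⁻¹ * c * t ∈ Cen y) → t ∈ Subgroup.normalizer (V : Set G) := by
    intro t ht ht'
    rw [Subgroup.mem_normalizer_iff]
    intro v
    constructor
    · exact hconjV t ht v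
    · intro hv
      have h1 : ∀ c ∈ Cen y, t⁻¹ * c * t⁻¹⁻¹ ∈ Cen y := by
        intro c hc
        rw [inv_inv]
        exact ht' c hc
      have := hconjV t⁻¹ h1 _ hv
      have e : t⁻¹ * (t * v * t⁻¹) * t⁻¹⁻¹ = v := by group
      rwa [e] at this
  -- `u` normalizes `Cen y`
  have hxu : ⁅x, u⁆ ∈ Subgroup.center G := commutator_comm_mem_center hux
  have hxu' : ⁅x, u⁻¹⁆ ∈ Subgroup.center G := by
    rw [commutator_mem_center_iff] at hxu ⊢
    rw [QuotientGroup.mk_inv]
    exact hxu.inv_right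
  have hu1 : ∀ c ∈ Cen y, u * c * u⁻¹ ∈ Cen y := by
    intro c hc
    rw [← hCx] at hc ⊢
    exact conj_mem_Cen_of_commutator hxu hc
  have hu2 : ∀ c ∈ Cen y, u⁻¹ * c * u ∈ Cen y := by
    intro c hc
    rw [← hCx] at hc ⊢
    have := conj_mem_Cen_of_commutator hxu' hc
    rwa [inv_inv] at this
  have huV : u ∈ Subgroup.normalizer (V : Set G) := hnormV u hu1 hu2
  have hg1 : ∀ g ∈ (P : Subgroup G), ∀ c ∈ Cen y, g * c * g⁻¹ ∈ Cen y := fun g hg c hc =>
    conj_mem_Cen_of_commutator (hcentP g hg) hc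
  have hPV : ∀ g ∈ (P : Subgroup G), g ∈ Subgroup.normalizer (V : Set G) := by
    intro g hg
    apply hnormV g (hg1 g hg)
    intro c hc
    have := hg1 g⁻¹ ((P : Subgroup G).inv_mem hg) c hc
    rwa [inv_inv] at this
  -- the elements of `V` almost central in `P`
  let W : Subgroup G :=
    { carrier := {v | v ∈ V ∧ ∀ g ∈ (P : Subgroup G), ⁅v, g⁆ ∈ Subgroup.center G}
      mul_mem' := by
        rintro a b ⟨ha, ha'⟩ ⟨hb, hb'⟩
        refine ⟨V.mul_mem ha hb, fun g hg => ?_⟩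
        have h1 := ha' g hg
        have h2 := hb' g hg
        rw [commutator_mem_center_iff] at h1 h2 ⊢
        rw [QuotientGroup.mk_mul]
        exact h1.mul_left h2
      one_mem' := ⟨V.one_mem, fun g _ => by
        rw [commutator_mem_center_iff]
        exact Commute.one_left _⟩
      inv_mem' := by
        rintro a ⟨ha, ha'⟩
        refine ⟨V.inv_mem ha, fun g hg => ?_⟩
        have h1 := ha' g hg
        rw [commutator_mem_center_iff] at h1 ⊢
        rw [QuotientGroup.mk_inv]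
        exact h1.inv_left }
  have hWV : W ≤ V := fun v hv => hv.1
  have hKW : Subgroup.center G ⊓ V ≤ W := by
    rintro z ⟨hz, hzV⟩
    refine ⟨hzV, fun g _ => ?_⟩
    rw [commutator_mem_center_iff]
    have : (QuotientGroup.mk z : G ⧸ Subgroup.center G) = 1 := (QuotientGroup.eq_one_iff z).mpr hz
    rw [this]
    exact Commute.one_left _
  have hyW : y ∈ W := ⟨hyV, hcentP⟩
  have hyK : y ∉ Subgroup.center G ⊓ V := fun h0 => hyZ h0.1
  have hVW : V ≤ W := le_of_relIndex_le_prime hVp hKW hWV hVidx hyW hyK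
  -- elements of `N` normalizing `V` and acting centrally on `y` centralize `y`
  have hS : ∀ t ∈ N, t ∈ Subgroup.normalizer (V : Set G) →
      t * y * t⁻¹ * y⁻¹ ∈ Subgroup.center G → t ∈ Cen y := by
    intro t htN htV htZ
    obtain ⟨a, b, ha, hb, hab', hao, kb, hbo⟩ := pdecomp q t
    have hpow : ∀ s ∈ Subgroup.zpowers t, s * y * s⁻¹ * y⁻¹ ∈ Subgroup.center G := by
      intro s hs
      obtain ⟨k, rfl⟩ := Subgroup.mem_zpowers_iff.mp hs
      have h1 : ⁅t, y⁆ ∈ Subgroup.center G := by rw [commutatorElement_def]; exact htZ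
      have h2 : ⁅t ^ k, y⁆ ∈ Subgroup.center G := by
        rw [commutator_mem_center_iff] at h1 ⊢
        rw [QuotientGroup.mk_zpow]
        exact h1.zpow_left k
      rwa [commutatorElement_def] at h2
    have haC : a ∈ Cen y := by
      rw [mem_Cen]
      apply commute_of_commutator_central_of_coprime (hpow a ha)
      obtain ⟨k, hk⟩ := hyo
      rw [hk]
      exact Nat.Coprime.pow_right _ hao
    have hbC : b ∈ Cen y := by
      have hbN : b ∈ N := (Subgroup.zpowers_le.mpr htN) hb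
      have hbV : Subgroup.zpowers b ≤ Subgroup.normalizer (V : Set G) := by
        rw [Subgroup.zpowers_le]
        exact (Subgroup.zpowers_le.mpr htV) hb
      have hbp : IsPGroup q (Subgroup.zpowers b) := isPGroup_zpowers ⟨kb, hbo⟩
      set H := Subgroup.zpowers b ⊔ V with hH
      have hHp : IsPGroup q H := hbp.to_sup_of_normal_right' hVp hbV
      have hHN : H ≤ N := sup_le (Subgroup.zpowers_le.mpr hbN) hVN
      have hHidx : (Subgroup.center G ⊓ H).relIndex H ≤ q := by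
        rw [Subgroup.inf_relIndex_right]; exact hstruct H hHN hHp
      have hyH : y ∈ H := Subgroup.mem_sup_right hyV
      have h1 := le_of_relIndex_le_prime (K := Subgroup.center G ⊓ H) (W := Cen y ⊓ H) hHp
        (inf_le_inf_right H (center_le_Cen y)) inf_le_right hHidx ⟨self_mem_Cen y, hyH⟩
        (fun h0 => hyZ h0.1)
      exact (h1 (Subgroup.mem_sup_left (Subgroup.mem_zpowers b))).1
    rw [hab']
    exact (Cen y).mul_mem haC hbC
  -- the element `w`
  set y' := u⁻¹ * y * u with hy'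
  have hy'V : y' ∈ V := by
    have := (Subgroup.mem_normalizer_iff.mp (Subgroup.inv_mem _ huV) y).mp hyV
    rwa [inv_inv] at this
  set w := y' * y⁻¹ with hw
  have hwB : w ∈ B := B.mul_mem (hy'V.1) (B.inv_mem hyV.1)
  have hwZ : w ∉ Subgroup.center G := by
    intro h0
    apply huC
    have h1 : u⁻¹ * y * u⁻¹⁻¹ * y⁻¹ ∈ Subgroup.center G := by rw [inv_inv]; exact h0
    have hcop : (orderOf u⁻¹).Coprime (orderOf y) := by
      obtain ⟨k, hk⟩ := hyo
      obtain ⟨j, hj⟩ := huo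
      rw [orderOf_inv, hk, hj]
      exact Nat.Coprime.pow _ _ ((Nat.coprime_primes hr.out hq.out).mpr (Ne.symm hqr))
    have h2 := commute_of_commutator_central_of_coprime h1 hcop
    rw [mem_Cen]
    calc u * y = u * (y * u⁻¹) * u := by group
      _ = u * (u⁻¹ * y) * u := by rw [h2]
      _ = y * u := by group
  have hCw : Cen w = Cen y := Cen_eq_of_mem h R hRN hR hq.out hqr hyN hyZ hyo hwB.1 hwB.2 hwZ
  -- every element of `P` centralizes `w`
  have hPw : (P : Subgroup G) ≤ Cen y := by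
    intro g hg
    rw [← hCw, mem_Cen]
    have hz : g * y * g⁻¹ * y⁻¹ ∈ Subgroup.center G := by
      have := commutator_comm_mem_center (hcentP g hg)
      rwa [commutatorElement_def] at this
    have hζ : g * y' * g⁻¹ * y'⁻¹ ∈ Subgroup.center G := by
      have := commutator_comm_mem_center ((hVW hy'V).2 g hg)
      rwa [commutatorElement_def] at this
    set z := g * y * g⁻¹ * y⁻¹ with hzdef
    set ζ := g * y' * g⁻¹ * y'⁻¹ with hζdef
    have hzc : ∀ t : G, t * z = z * t := fun t => Subgroup.mem_center_iff.mp hz t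
    have hζc : ∀ t : G, t * ζ = ζ * t := fun t => Subgroup.mem_center_iff.mp hζ t
    set n' := u * g * u⁻¹ * g⁻¹ with hn'
    have hn'N : n' ∈ N := by
      have h1 : g * u⁻¹ * g⁻¹ ∈ N := hN.conj_mem _ (N.inv_mem huN) g
      have e : n' = u * (g * u⁻¹ * g⁻¹) := by rw [hn']; group
      rw [e]
      exact N.mul_mem huN h1
    have hn'V : n' ∈ Subgroup.normalizer (V : Set G) := by
      rw [hn']
      exact Subgroup.mul_mem _ (Subgroup.mul_mem _ (Subgroup.mul_mem _ huV (hPV g hg))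
        (Subgroup.inv_mem _ huV)) (Subgroup.inv_mem _ (hPV g hg))
    have hn'Z : n' * y * n'⁻¹ * y⁻¹ ∈ Subgroup.center G := by
      have h1 : ⁅n', y⁆ ∈ Subgroup.center G := by
        rw [commutator_mem_center_iff]
        have hb : Commute (QuotientGroup.mk g : G ⧸ Subgroup.center G) (QuotientGroup.mk y) :=
          commutator_mem_center_iff.mp (commutator_comm_mem_center (hcentP g hg))
        have hb' : Commute (QuotientGroup.mk g : G ⧸ Subgroup.center G) (QuotientGroup.mk y') :=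
          commutator_mem_center_iff.mp (commutator_comm_mem_center ((hVW hy'V).2 g hg))
        exact commute_comm_conj_aux (a := (QuotientGroup.mk u : G ⧸ Subgroup.center G)) hb hb'
      rwa [commutatorElement_def] at h1
    have hn'C : n' ∈ Cen y := hS n' hn'N hn'V hn'Z
    have e2 : g * y * g⁻¹ = z * y := by rw [hzdef]; group
    have eA : (u * g * u⁻¹) * y * (u * g * u⁻¹)⁻¹ = z * y := by
      have e1 : u * g * u⁻¹ = n' * g := by rw [hn']; group
      have hn'y : n' * y = y * n' := mem_Cen.mp hn'C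
      calc (u * g * u⁻¹) * y * (u * g * u⁻¹)⁻¹ = n' * (g * y * g⁻¹) * n'⁻¹ := by rw [e1]; group
        _ = n' * (z * y) * n'⁻¹ := by rw [e2]
        _ = (n' * z) * y * n'⁻¹ := by group
        _ = (z * n') * y * n'⁻¹ := by rw [hzc n']
        _ = z * (n' * y) * n'⁻¹ := by group
        _ = z * (y * n') * n'⁻¹ := by rw [hn'y]
        _ = z * y := by group
    have eB : (u * g * u⁻¹) * y * (u * g * u⁻¹)⁻¹ = ζ * y := by
      have e3 : g * y' * g⁻¹ = ζ * y' := by rw [hζdef]; group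
      calc (u * g * u⁻¹) * y * (u * g * u⁻¹)⁻¹ = u * (g * (u⁻¹ * y * u) * g⁻¹) * u⁻¹ := by group
        _ = u * (g * y' * g⁻¹) * u⁻¹ := by rw [hy']
        _ = u * (ζ * y') * u⁻¹ := by rw [e3]
        _ = (u * ζ) * y' * u⁻¹ := by group
        _ = (ζ * u) * y' * u⁻¹ := by rw [hζc u]
        _ = ζ * (u * y' * u⁻¹) := by group
        _ = ζ * y := by rw [hy']; group
    have ezζ : z = ζ := mul_right_cancel (eA.symm.trans eB)
    have e3 : g * y' * g⁻¹ = z * y' := by rw [ezζ, hζdef]; group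
    calc g * w = (g * y' * g⁻¹) * (g * y * g⁻¹)⁻¹ * g := by rw [hw]; group
      _ = (z * y') * (z * y)⁻¹ * g := by rw [e2, e3]
      _ = z * (y' * y⁻¹) * z⁻¹ * g := by group
      _ = (y' * y⁻¹) * z * z⁻¹ * g := by rw [← hzc (y' * y⁻¹)]
      _ = w * g := by rw [hw]; group
  have h1 : (Cen y).relIndex (P : Subgroup G) = 1 := Subgroup.relIndex_eq_one.mpr hPw
  rw [h1] at hD1
  have h2 := Nat.dvd_ordProj_of_dvd hm0 hq.out hqm
  have h3 := Nat.le_of_dvd (Nat.ordProj_pos m q) h2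
  have := hq.out.two_le
  omega

end Cfsg.Agent.Lib.Helper8.NTC
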