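import Mathlib
import Cfsg.Agent.Lib.Helper8.NTC13
import Cfsg.Agent.Lib.Helper8.ConjCover

/-!
# Two class sizes in a normal subgroup containing a noncentral Sylow subgroup: nilpotency
-/

set_option autoImplicit false
open scoped commutatorElement Pointwise

namespace Cfsg.Agent.Lib.Helper8.NTC

open Cfsg.Agent.Lib.Helper7.CM Cfsg.Agent.Lib.Helper7.Ito

variable {G : Type*} [Group G] {N : Subgroup G} {m : ℕ}

/-- a Sylow subgroup meeting the normal subgroup `N` outside the center has a noncentral element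
in `N` which is central modulo the center -/
theorem exists_almost_central_of_sylow [Finite G] [hN : N.Normal] {p : ℕ} [hp : Fact p.Prime]
    (P : Sylow p G) (hAB : ¬ (P : Subgroup G) ⊓ N ≤ Subgroup.center G) :
    ∃ u : G, u ∈ (P : Subgroup G) ∧ u ∈ N ∧ u ∉ Subgroup.center G ∧
      ∀ g ∈ (P : Subgroup G), ⁅u, g⁆ ∈ Subgroup.center G := by
  have hnil : Group.IsNilpotent (P : Subgroup G) := P.2.isNilpotent
  have hAT : (P : Subgroup G) ⊓ N ≤ (P : Subgroup G) := inf_le_left
  have hT : (P : Subgroup G) ≤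
      Subgroup.normalizer (((P : Subgroup G) ⊓ N : Subgroup G) : Set G) := by
    intro g hg
    rw [Subgroup.mem_normalizer_iff]
    intro x
    constructor
    · rintro ⟨hx1, hx2⟩
      exact ⟨(P : Subgroup G).mul_mem ((P : Subgroup G).mul_mem hg hx1)
        ((P : Subgroup G).inv_mem hg), hN.conj_mem x hx2 g⟩
    · rintro ⟨hx1, hx2⟩
      have e : x = g⁻¹ * (g * x * g⁻¹) * g := by group
      constructor
      · rw [e]
        exact (P : Subgroup G).mul_mem ((P : Subgroup G).mul_mem
          ((P : Subgroup G).inv_mem hg) hx1) hg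
      · have := hN.conj_mem _ hx2 g⁻¹
        rw [inv_inv] at this
        rw [e]
        exact this
  obtain ⟨s, hsA, hsZ, hsc⟩ := Cfsg.Agent.Lib.Helper4.LBal.exists_central_mod hnil hAT hT hAB
  exact ⟨s, hsA.1, hsA.2, hsZ, hsc⟩

/-- if `r` divides the class size, the elements of `N` of prime power order, for the primes
other than `r`, are central in `G` -/
theorem central_of_prime_pow_order [Finite G] (h : IsECN N m) {r : ℕ} [hr : Fact r.Prime]
    (R : Sylow r G) [hN : N.Normal] (hRN : (R : Subgroup G) ≤ N)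
    (hR : ¬ (R : Subgroup G) ≤ Subgroup.center G) (hrm : r ∣ m) {q : ℕ} (hq : q.Prime)
    (hqr : q ≠ r) {y₀ : G} (hy₀ : y₀ ∈ N) (hy₀o : ∃ k : ℕ, orderOf y₀ = q ^ k) :
    y₀ ∈ Subgroup.center G := by
  by_contra hy₀Z
  haveI : Fact q.Prime := ⟨hq⟩
  obtain ⟨P, y, hyP, hyN, hyZ, hyq, hcentP⟩ := exists_sylow_almost_central hy₀ hy₀Z hy₀o
  obtain ⟨x, hxC, hxZ, hxo⟩ := exists_rElt_in_Cen h R hRN hR hyN hyZ
  have hxN : x ∈ N := mem_of_prime_pow_order R hRN hxo
  obtain ⟨R', hR'⟩ := (isPGroup_zpowers hxo).exists_le_sylow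
  have hxR' : x ∈ (R' : Subgroup G) := hR' (Subgroup.mem_zpowers x)
  have hAB : ¬ (R' : Subgroup G) ⊓ N ≤ Subgroup.center G := fun h0 => hxZ (h0 ⟨hxR', hxN⟩)
  obtain ⟨u, huR', huN, huZ, hcent⟩ := exists_almost_central_of_sylow R' hAB
  by_cases hI : ∃ w ∈ Cen u, w ∈ N ∧ w ∉ Subgroup.center G ∧ ∃ k : ℕ, orderOf w = q ^ k
  · obtain ⟨w, hwC, hwN, hwZ, hwo⟩ := hI
    exact false_of_typeI h R hRN hR hrm R' huR' huN huZ hcent hq hqr hwC hwN hwZ hwo
  · push Not at hI
    have hII : ∀ w ∈ Cen u, w ∈ N → (∃ k : ℕ, orderOf w = q ^ k) → w ∈ Subgroup.center G := by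
      intro w hwC hwN hwo
      by_contra hwZ
      obtain ⟨k, hk⟩ := hwo
      exact hI w hwC hwN hwZ k hk
    exact false_of_typeII h R hRN hR hqr P hyP hyN hyZ hyq hcentP hxC hxZ hxo huN huZ
      (orderOf_eq_prime_pow_of_mem R'.2 huR') (hcent x hxR') hII

/-- a subgroup whose elements of order prime to `r` are central in it is nilpotent -/
theorem isNilpotent_of_coprime_commute [Finite G] (N : Subgroup G) {r : ℕ} [hr : Fact r.Prime]
    (hc : ∀ a ∈ N, (orderOf a).Coprime r → ∀ n ∈ N, n * a = a * n) : Group.IsNilpotent N := by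
  have hp : IsPGroup r (N ⧸ Subgroup.center N) := by
    intro g
    induction g using QuotientGroup.induction_on with
    | H n =>
      obtain ⟨a, b, -, -, hab, hao, k, hbo⟩ := pdecomp r n
      have haZ : a ∈ Subgroup.center N := by
        rw [Subgroup.mem_center_iff]
        intro t
        apply Subtype.ext
        have hao' : (orderOf (a : G)).Coprime r := by rw [Subgroup.orderOf_coe]; exact hao
        exact hc a a.2 hao' t t.2
      refine ⟨k, ?_⟩
      rw [hab, QuotientGroup.mk_mul, (QuotientGroup.eq_one_iff a).mpr haZ, one_mul,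
        ← QuotientGroup.mk_pow, ← hbo, pow_orderOf_eq_one]
      rfl
  haveI : Group.IsNilpotent (N ⧸ Subgroup.center N) := hp.isNilpotent
  apply Subgroup.isNilpotent_of_ker_le_center (QuotientGroup.mk' (Subgroup.center N))
  rw [QuotientGroup.ker_mk']

/-- if `r` does not divide the class size, `N` centralizes the Sylow `r`-subgroup -/
theorem commute_sylow_of_not_dvd [Finite G] (h : IsECN N m) {r : ℕ} [hr : Fact r.Prime]
    (R : Sylow r G) [hN : N.Normal] (hRN : (R : Subgroup G) ≤ N) (hrm : ¬ r ∣ m) :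
    ∀ n ∈ N, ∀ t ∈ (R : Subgroup G), n * t = t * n := by
  classical
  set RN : Subgroup N := (R : Subgroup G).subgroupOf N with hRNdef
  have hRNp : IsPGroup r RN := R.2.comap_subtype
  set M : Subgroup N := Subgroup.centralizer (RN : Set N) with hM
  have key : ∀ x : N, ∃ g : N, x ∈ MulAut.conj g • M := by
    intro x
    set Cx : Subgroup N := (Cen (x : G)).subgroupOf N with hCx
    have hidx : ¬ r ∣ Nat.card (N ⧸ Cx) := by
      have h1 : Nat.card (N ⧸ Cx) = (Cen (x : G)).relIndex N := rfl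
      rw [h1]
      intro h0
      have h2 := h0.trans (relIndex_dvd_index_of_normal_right (Cen (x : G)) N)
      by_cases hxZ : (x : G) ∈ Subgroup.center G
      · have h3 : Cen (x : G) = ⊤ := by
          rw [eq_top_iff]
          intro g _
          rw [mem_Cen]
          exact Subgroup.mem_center_iff.mp hxZ g
        rw [h3, Subgroup.index_top] at h2
        exact hr.out.one_lt.ne' (Nat.dvd_one.mp h2)
      · rw [h x x.2 hxZ] at h2
        exact hrm h2
    obtain ⟨c, hc⟩ := hRNp.nonempty_fixed_point_of_prime_not_dvd_card (N ⧸ Cx) hidx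
    induction c using QuotientGroup.induction_on with
    | H g =>
      refine ⟨g⁻¹, ?_⟩
      rw [Subgroup.mem_pointwise_smul_iff_inv_smul_mem]
      have e : (MulAut.conj g⁻¹)⁻¹ • x = g * x * g⁻¹ := by
        simp [MulAut.smul_def]
      rw [e, hM, Subgroup.mem_centralizer_iff]
      intro t ht
      have h1 := hc ⟨t, ht⟩
      have h2 : ((t * g : N) : N ⧸ Cx) = (g : N ⧸ Cx) := h1
      rw [QuotientGroup.eq] at h2
      have h3 := Cx.inv_mem h2
      have e2 : ((t * g)⁻¹ * g)⁻¹ = g⁻¹ * t * g := by group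
      rw [e2, hCx, Subgroup.mem_subgroupOf, mem_Cen] at h3
      apply Subtype.ext
      have h4 : (g : G)⁻¹ * t * g * x = x * ((g : G)⁻¹ * t * g) := by
        simpa using h3
      show (t : G) * ((g : G) * x * (g : G)⁻¹) = (g : G) * x * (g : G)⁻¹ * t
      calc (t : G) * ((g : G) * x * (g : G)⁻¹) = g * ((g : G)⁻¹ * t * g * x) * (g : G)⁻¹ := by group
        _ = g * (x * ((g : G)⁻¹ * t * g)) * (g : G)⁻¹ := by rw [h4]
        _ = (g : G) * x * (g : G)⁻¹ * t := by group
  have hMtop : M = ⊤ := by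
    by_contra hne
    obtain ⟨x, hx⟩ := exists_not_mem_conj_smul M hne
    obtain ⟨g, hg⟩ := key x
    exact hx g hg
  intro n hn t ht
  have h1 : (⟨n, hn⟩ : N) ∈ M := by rw [hMtop]; exact Subgroup.mem_top _
  rw [hM, Subgroup.mem_centralizer_iff] at h1
  have h2 := h1 ⟨t, hRN ht⟩ ht
  exact (congrArg Subtype.val h2).symm

/-- **Nilpotency** of a normal subgroup with two class sizes containing a noncentral Sylow
subgroup -/
theorem isNilpotent_of_isECN [Finite G] (h : IsECN N m) {r : ℕ} [hr : Fact r.Prime]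
    (R : Sylow r G) [hN : N.Normal] (hRN : (R : Subgroup G) ≤ N)
    (hR : ¬ (R : Subgroup G) ≤ Subgroup.center G) : Group.IsNilpotent N := by
  apply isNilpotent_of_coprime_commute N (r := r)
  intro a ha hao n hn
  by_cases hrm : r ∣ m
  · -- `a` is central
    have haZ : a ∈ Subgroup.center G := by
      by_contra haZ
      obtain ⟨q, y, hq, hy1, hy2, k, hk⟩ := exists_primary_not_mem_center (orderOf a) a rfl haZ
      have hyN : y ∈ N := (Subgroup.zpowers_le.mpr ha) hy1
      have hqr : q ≠ r := by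
        intro h0
        have h1 : orderOf y ∣ orderOf a := orderOf_dvd_of_mem_zpowers hy1
        rw [hk, h0] at h1
        have h2 : r ^ k ∣ 1 := by
          have := Nat.dvd_gcd h1 (dvd_refl (r ^ k))
          rwa [Nat.Coprime.gcd_eq_one (Nat.Coprime.pow_right k hao)] at this
        apply hy2
        have h3 : orderOf y = 1 := by rw [hk, h0]; exact Nat.dvd_one.mp h2
        rw [orderOf_eq_one_iff.mp h3]
        exact Subgroup.one_mem _
      exact hy2 (central_of_prime_pow_order h R hRN hR hrm hq hqr hyN ⟨k, hk⟩)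
    exact Subgroup.mem_center_iff.mp haZ n
  · have hcomm := commute_sylow_of_not_dvd h R hRN hrm
    obtain ⟨x, hxR, hxZ⟩ := SetLike.not_le_iff_exists.1 hR
    have hxN : x ∈ N := hRN hxR
    obtain ⟨kx, hkx⟩ := orderOf_eq_prime_pow_of_mem R.2 hxR
    have hxa : Commute x a := (hcomm a ha x hxR).symm
    have hle : Cen x ≤ Cen a := by
      apply h.Cen_le_of_coprime hxN ha hxZ hxa
      rw [hkx]
      exact Nat.Coprime.pow_left _ hao.symm
    exact mem_Cen.mp (hle (mem_Cen.mpr (hcomm n hn x hxR)))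

end Cfsg.Agent.Lib.Helper8.NTC
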