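import Mathlib
import Cfsg.Prelude.Def_Characters
import Cfsg.Agent.Lib.Helper8.OR3

/-!
# The action of a group on the classes of a normal subgroup
-/

set_option autoImplicit false

namespace Cfsg.Agent.Lib.Helper8

open Cfsg
open scoped ComplexConjugate

universe u

section

/-- Inversion on conjugacy classes. -/
def invCl {H : Type u} [Group H] (c : ConjClasses H) : ConjClasses H :=
  Quotient.lift (fun x : H => ConjClasses.mk x⁻¹) (fun a b hab => by
    apply ConjClasses.mk_eq_mk_iff_isConj.2
    obtain ⟨t, ht⟩ := isConj_iff.1 hab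
    rw [isConj_iff]
    refine ⟨t, ?_⟩
    rw [← ht]
    group) c

theorem invCl_mk {H : Type u} [Group H] (x : H) :
    invCl (ConjClasses.mk x) = ConjClasses.mk x⁻¹ := rfl

theorem invCl_invCl {H : Type u} [Group H] (c : ConjClasses H) : invCl (invCl c) = c := by
  obtain ⟨x, rfl⟩ := ConjClasses.mk_surjective c
  rw [invCl_mk, invCl_mk, inv_inv]

theorem invCl_eq_iff {H : Type u} [Group H] (x : H) :
    invCl (ConjClasses.mk x) = ConjClasses.mk x ↔ IsConj x x⁻¹ := by
  rw [invCl_mk, ConjClasses.mk_eq_mk_iff_isConj]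
  exact ⟨fun h => h.symm, fun h => h.symm⟩

variable {G : Type u} [Group G] (K : Subgroup G) [hK : K.Normal]

/-- The action of `G` on the classes of `K`. -/
def actCl (g : G) (c : ConjClasses K) : ConjClasses K :=
  ConjClasses.map (MulAut.conjNormal g : K ≃* K).toMonoidHom c

theorem actCl_mk (g : G) (x : K) :
    actCl K g (ConjClasses.mk x) = ConjClasses.mk (MulAut.conjNormal g x : K) := rfl

theorem actCl_one (c : ConjClasses K) : actCl K 1 c = c := by
  obtain ⟨x, rfl⟩ := ConjClasses.mk_surjective c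
  rw [actCl_mk, map_one]
  rfl

theorem actCl_mul (g h : G) (c : ConjClasses K) :
    actCl K (g * h) c = actCl K g (actCl K h c) := by
  obtain ⟨x, rfl⟩ := ConjClasses.mk_surjective c
  rw [actCl_mk, actCl_mk, actCl_mk, map_mul]
  rfl

theorem invCl_actCl (g : G) (c : ConjClasses K) :
    invCl (actCl K g c) = actCl K g (invCl c) := by
  obtain ⟨x, rfl⟩ := ConjClasses.mk_surjective c
  rw [actCl_mk, invCl_mk, invCl_mk, actCl_mk, map_inv]

theorem actCl_of_mem {g : G} (hg : g ∈ K) (c : ConjClasses K) : actCl K g c = c := by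
  obtain ⟨x, rfl⟩ := ConjClasses.mk_surjective c
  rw [actCl_mk, ConjClasses.mk_eq_mk_iff_isConj, isConj_comm, isConj_iff]
  refine ⟨⟨g, hg⟩, ?_⟩
  apply Subtype.ext
  simp [MulAut.conjNormal_apply]

theorem mk_twistMap (g : G) (x : K) :
    ConjClasses.mk (twistMap K g x) = actCl K g⁻¹ (invCl (ConjClasses.mk x)) := by
  rw [invCl_mk, actCl_mk]
  congr 1
  apply Subtype.ext
  simp [twistMap, mul_assoc]

theorem isConj_twistMap_iff [Finite G] (hodd : Odd K.index) (g : G) (c : ConjClasses K) :
    IsConj (twistMap K g (Quotient.out c)) (Quotient.out c) ↔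
      (invCl c = c ∧ actCl K g c = c) := by
  rw [← ConjClasses.mk_eq_mk_iff_isConj, mk_twistMap]
  have hout : ConjClasses.mk (Quotient.out c) = c := Quotient.out_eq c
  rw [hout]
  have h1 := twisted_fixed_iff (actCl K) (actCl_one K) (actCl_mul K) invCl invCl_invCl
    (invCl_actCl K) hodd (g := g)
    (fun z => actCl_of_mem K (Subgroup.pow_index_mem K g) z) c
  rw [← h1]
  constructor
  · intro h
    have h2 := congrArg (actCl K g) h
    rw [← actCl_mul, mul_inv_cancel, actCl_one] at h2
    exact h2
  · intro h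
    rw [h, ← actCl_mul, inv_mul_cancel, actCl_one]

end

end Cfsg.Agent.Lib.Helper8
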