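import Mathlib
import Cfsg.Prelude.Def_Characters
import Cfsg.Agent.Lib.Helper8.OR1
import Cfsg.Agent.Lib.Helper8.OR4

/-!
# Orbits on real characters and real classes of a normal subgroup of odd index
-/

set_option autoImplicit false

namespace Cfsg.Agent.Lib.Helper8

open Cfsg
open scoped ComplexConjugate
open Cfsg.Agent.Lib.Helper1 Cfsg.Agent.Lib.Helper4

universe u

section

variable {G : Type u} [Group G] (K : Subgroup G) [hK : K.Normal]

/-- Equality of the numbers of fixed points of `g` on real characters and real classes. -/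
theorem card_fixed_eq [Finite G] (hodd : Odd K.index) (g : G) :
    Nat.card {θ : {θ : IrrCharacter K // ∀ k : K, ((θ : K → ℂ) k).im = 0} //
        actIrr K g θ.1 = θ.1}
      = Nat.card {c : {c : ConjClasses K // invCl c = c} // actCl K g c.1 = c.1} := by
  classical
  haveI : Fintype K := Fintype.ofFinite _
  haveI : Fintype (IrrCharacter K) := Fintype.ofFinite _
  haveI : Fintype (ConjClasses K) := Fintype.ofFinite _
  have hβ : ∀ χ : K → ℂ, IsIrrCharacter K χ →
      IsIrrCharacter K (fun k => χ (twistMap K g k)) := by
    intro χ hχ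
    have := comp_twistMap K g ⟨χ, hχ⟩
    rw [this]
    exact (conjIrr (actIrr K g ⟨χ, hχ⟩)).2
  have hB := brauer_perm_generic (twistMap K g) hβ
  have hB' : (Finset.univ.filter (fun χ : IrrCharacter K =>
      (fun k => (χ : K → ℂ) (twistMap K g k)) = (χ : K → ℂ))).card
      = (Finset.univ.filter (fun c : ConjClasses K =>
        IsConj (twistMap K g (Quotient.out c)) (Quotient.out c))).card := by
    exact_mod_cast hB
  have hL : Nat.card {θ : {θ : IrrCharacter K // ∀ k : K, ((θ : K → ℂ) k).im = 0} //
        actIrr K g θ.1 = θ.1}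
      = (Finset.univ.filter (fun χ : IrrCharacter K =>
      (fun k => (χ : K → ℂ) (twistMap K g k)) = (χ : K → ℂ))).card := by
    rw [← Fintype.card_subtype, ← Nat.card_eq_fintype_card]
    apply Nat.card_congr
    refine (Equiv.subtypeSubtypeEquivSubtypeInter
      (fun θ : IrrCharacter K => ∀ k : K, ((θ : K → ℂ) k).im = 0)
      (fun θ : IrrCharacter K => actIrr K g θ = θ)).trans ?_
    exact Equiv.subtypeEquivRight (fun θ => (comp_twistMap_eq_iff K hodd g θ).symm)
  have hR : Nat.card {c : {c : ConjClasses K // invCl c = c} // actCl K g c.1 = c.1}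
      = (Finset.univ.filter (fun c : ConjClasses K =>
        IsConj (twistMap K g (Quotient.out c)) (Quotient.out c))).card := by
    rw [← Fintype.card_subtype, ← Nat.card_eq_fintype_card]
    apply Nat.card_congr
    refine (Equiv.subtypeSubtypeEquivSubtypeInter
      (fun c : ConjClasses K => invCl c = c)
      (fun c : ConjClasses K => actCl K g c = c)).trans ?_
    exact Equiv.subtypeEquivRight (fun c => (isConj_twistMap_iff K hodd g c).symm)
  rw [hL, hR, hB']

/-- The action on real characters. -/
noncomputable def actRealIrr [Finite G] (g : G)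
    (θ : {θ : IrrCharacter K // ∀ k : K, ((θ : K → ℂ) k).im = 0}) :
    {θ : IrrCharacter K // ∀ k : K, ((θ : K → ℂ) k).im = 0} :=
  ⟨actIrr K g θ.1, by
    rw [← conjIrr_eq_iff, conjIrr_actIrr, (conjIrr_eq_iff θ.1).2 θ.2]⟩

/-- The action on real classes. -/
def actRealCl (g : G) (c : {c : ConjClasses K // invCl c = c}) :
    {c : ConjClasses K // invCl c = c} :=
  ⟨actCl K g c.1, by rw [invCl_actCl, c.2]⟩

/-- The numbers of orbits on real characters and on real classes agree. -/
theorem card_quot_real_eq [Finite G] (hodd : Odd K.index) :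
    Nat.card (Quot (fun θ η : {θ : IrrCharacter K // ∀ k : K, ((θ : K → ℂ) k).im = 0} =>
        ∃ g : G, η = actRealIrr K g θ))
      = Nat.card (Quot (fun c d : {c : ConjClasses K // invCl c = c} =>
        ∃ g : G, d = actRealCl K g c)) := by
  classical
  haveI : Fintype K := Fintype.ofFinite _
  have h1 := card_quot_mul_card_eq_sum (G := G) (actRealIrr K)
    (fun x => Subtype.ext (actIrr_one K x.1)) (fun g h x => Subtype.ext (actIrr_mul K g h x.1))
  have h2 := card_quot_mul_card_eq_sum (G := G) (actRealCl K)
    (fun x => Subtype.ext (actCl_one K x.1)) (fun g h x => Subtype.ext (actCl_mul K g h x.1))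
  have h3 : ∀ g : G, Nat.card {x : {θ : IrrCharacter K // ∀ k : K, ((θ : K → ℂ) k).im = 0} //
        actRealIrr K g x = x}
      = Nat.card {x : {c : ConjClasses K // invCl c = c} // actRealCl K g x = x} := by
    intro g
    have := card_fixed_eq K hodd g
    convert this using 1
    · apply Nat.card_congr
      exact Equiv.subtypeEquivRight (fun x => Subtype.ext_iff)
    · apply Nat.card_congr
      exact Equiv.subtypeEquivRight (fun x => Subtype.ext_iff)
  rw [finsum_congr h3, ← h2] at h1
  exact Nat.eq_of_mul_eq_mul_right Nat.card_pos h1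

end

end Cfsg.Agent.Lib.Helper8
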