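import Mathlib
import Cfsg.Prelude.Def_Characters
import Cfsg.Agent.Lib.Helper8.OR5

/-!
# Orbits on real characters and real elements of a normal subgroup of odd index
-/

set_option autoImplicit false

namespace Cfsg.Agent.Lib.Helper8

open Cfsg
open scoped ComplexConjugate
open Cfsg.Agent.Lib.Helper1 Cfsg.Agent.Lib.Helper4

universe u

section

variable {G : Type u} [Group G] (K : Subgroup G) [hK : K.Normal]

/-- The orbit relation on real characters, in the form of the statement. -/
theorem rel_real_irr_iff [Finite G]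
    (θ η : {θ : IrrCharacter K // ∀ k : K, ((θ : K → ℂ) k).im = 0}) :
    (∃ g : G, ∀ k k' : K, (k' : G) = g * (k : G) * g⁻¹ →
        (η.1 : K → ℂ) k' = (θ.1 : K → ℂ) k) ↔ ∃ g : G, η = actRealIrr K g θ := by
  constructor
  · rintro ⟨g, hg⟩
    refine ⟨g, ?_⟩
    apply Subtype.ext
    apply Subtype.ext
    funext k'
    show (η.1 : K → ℂ) k' = (actIrr K g θ.1 : K → ℂ) k'
    rw [actIrr_apply]
    apply hg
    simp [mul_assoc]
  · rintro ⟨g, rfl⟩
    refine ⟨g, ?_⟩
    intro k k' hk'
    show (actIrr K g θ.1 : K → ℂ) k' = _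
    rw [actIrr_apply]
    exact congrArg (θ.1 : K → ℂ) (Subtype.ext (by simp [hk', mul_assoc]))

/-- The map from real elements to real classes. -/
def realClOf (x : {x : K // IsConj x x⁻¹}) : {c : ConjClasses K // invCl c = c} :=
  ⟨ConjClasses.mk x.1, (invCl_eq_iff x.1).2 x.2⟩

theorem rel_realCl_iff (x y : {x : K // IsConj x x⁻¹}) :
    (∃ g : G, realClOf K y = actRealCl K g (realClOf K x)) ↔
      ∃ g : G, (y.1 : G) = g * x.1 * g⁻¹ := by
  constructor
  · rintro ⟨g, hg⟩
    have h1 : ConjClasses.mk y.1 = actCl K g (ConjClasses.mk x.1) := congrArg Subtype.val hg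
    rw [actCl_mk, ConjClasses.mk_eq_mk_iff_isConj, isConj_comm, isConj_iff] at h1
    obtain ⟨k, hk⟩ := h1
    refine ⟨k * g, ?_⟩
    have h2 := congrArg Subtype.val hk
    simp only [Subgroup.coe_mul, Subgroup.coe_inv, MulAut.conjNormal_apply] at h2
    rw [← h2]
    simp [mul_assoc]
  · rintro ⟨g, hg⟩
    refine ⟨g, ?_⟩
    apply Subtype.ext
    show ConjClasses.mk y.1 = actCl K g (ConjClasses.mk x.1)
    rw [actCl_mk]
    congr 1
    apply Subtype.ext
    rw [hg]
    simp [MulAut.conjNormal_apply]

theorem equivalence_realCl :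
    Equivalence (fun c d : {c : ConjClasses K // invCl c = c} =>
      ∃ g : G, d = actRealCl K g c) := by
  refine ⟨fun c => ⟨1, ?_⟩, ?_, ?_⟩
  · exact Subtype.ext (actCl_one K c.1).symm
  · rintro c d ⟨g, rfl⟩
    refine ⟨g⁻¹, ?_⟩
    apply Subtype.ext
    show c.1 = actCl K g⁻¹ (actCl K g c.1)
    rw [← actCl_mul, inv_mul_cancel, actCl_one]
  · rintro c d e ⟨g, rfl⟩ ⟨h, rfl⟩
    refine ⟨h * g, ?_⟩
    apply Subtype.ext
    show actCl K h (actCl K g c.1) = actCl K (h * g) c.1
    rw [actCl_mul]

/-- The orbits on real elements correspond to the orbits on real classes. -/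
theorem card_quot_real_elements :
    Nat.card (Quot (fun x y : {x : K // IsConj x x⁻¹} => ∃ g : G, (y.1 : G) = g * x.1 * g⁻¹))
      = Nat.card (Quot (fun c d : {c : ConjClasses K // invCl c = c} =>
        ∃ g : G, d = actRealCl K g c)) := by
  apply Nat.card_congr
  refine Equiv.ofBijective (Quot.map (realClOf K) (fun x y h => (rel_realCl_iff K x y).2 h)) ⟨?_, ?_⟩
  · intro a b
    induction a using Quot.ind with
    | _ x =>
      induction b using Quot.ind with
      | _ y =>
        intro h
        have h1 : Quot.mk _ (realClOf K x) = Quot.mk _ (realClOf K y) := h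
        rw [Quot.eq, (equivalence_realCl K).eqvGen_iff] at h1
        exact Quot.sound ((rel_realCl_iff K x y).1 h1)
  · intro c
    induction c using Quot.ind with
    | _ c =>
      obtain ⟨x, hx⟩ := ConjClasses.mk_surjective c.1
      have hreal : IsConj x x⁻¹ := by
        have := c.2
        rw [← hx] at this
        exact (invCl_eq_iff x).1 this
      refine ⟨Quot.mk _ ⟨x, hreal⟩, ?_⟩
      show Quot.mk _ (realClOf K ⟨x, hreal⟩) = Quot.mk _ c
      congr 1
      exact Subtype.ext hx

/-- Main result: orbits on real characters versus orbits on real elements. -/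
theorem card_quot_real_irr_eq_elements [Finite G] (hodd : Odd K.index) :
    Nat.card (Quot (fun θ η : {θ : IrrCharacter K // (∀ k : K, ((θ : K → ℂ) k).im = 0)} =>
        ∃ g : G, ∀ k k' : K, (k' : G) = g * (k : G) * g⁻¹ →
          (η.1 : K → ℂ) k' = (θ.1 : K → ℂ) k))
      = Nat.card (Quot (fun x y : {x : K // IsConj x x⁻¹} =>
        ∃ g : G, (y.1 : G) = g * x.1 * g⁻¹)) := by
  rw [card_quot_real_elements K, ← card_quot_real_eq K hodd]
  apply Nat.card_congr
  exact Quot.congrRight (fun θ η => rel_real_irr_iff K θ η)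

end

end Cfsg.Agent.Lib.Helper8
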