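import Mathlib

/-!
# S2493 swarm, package G2: the anticommuting certificate

In a double cover `π : G → A_n` with central kernel `{1, z}` in which every lift of a double
transposition squares to `z`, an even permutation `β` with two `2`-cycles `(a b)(c d)` has a
"partner": a lift `c'` of `(a c)(b d)` such that `c' b' c'⁻¹ b'⁻¹ = z` for every lift `b'` of `β`.
-/

set_option autoImplicit false
set_option linter.unusedSimpArgs false

namespace Cfsg.Agent.Lib.Lead.Ore

open Equiv Equiv.Perm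

namespace G2

section grp

variable {H : Type*} [Group H]

/-- twisted commutation is multiplicative (central twists) -/
theorem tw_mul {B x y e f : H} (hx : x * B = e * (B * x)) (hy : y * B = f * (B * y))
    (he : ∀ g : H, e * g = g * e) (hf : ∀ g : H, f * g = g * f) :
    (x * y) * B = (e * f) * (B * (x * y)) := by
  calc (x * y) * B = x * (y * B) := by rw [mul_assoc]
    _ = x * (f * (B * y)) := by rw [hy]
    _ = (x * f) * (B * y) := by rw [mul_assoc]
    _ = (f * x) * (B * y) := by rw [hf x]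
    _ = f * ((x * B) * y) := by simp only [mul_assoc]
    _ = f * ((e * (B * x)) * y) := by rw [hx]
    _ = (f * e) * (B * (x * y)) := by simp only [mul_assoc]
    _ = (e * f) * (B * (x * y)) := by rw [he f]

theorem cen_mul {e f : H} (he : ∀ g : H, e * g = g * e) (hf : ∀ g : H, f * g = g * f) :
    ∀ g : H, (e * f) * g = g * (e * f) := fun g => by
  rw [mul_assoc, hf g, ← mul_assoc, he g, mul_assoc]

/-- the key cancellation: `D2` commutes with `B` -/
theorem e2_eq_one {B D1 D2 R K e1 e2 eR : H}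
    (h1 : D1 * B = e1 * (B * D1)) (h2 : D2 * B = e2 * (B * D2)) (hR : R * B = eR * (B * R))
    (hK : R * D1 = K * ((D1 * D2) * R))
    (c1 : ∀ g : H, e1 * g = g * e1) (c2 : ∀ g : H, e2 * g = g * e2)
    (cR : ∀ g : H, eR * g = g * eR) (cK : ∀ g : H, K * g = g * K) : e2 = 1 := by
  have hKB : K * B = 1 * (B * K) := by rw [one_mul, cK B]
  have c0 : ∀ g : H, (1 : H) * g = g * 1 := fun g => by rw [one_mul, mul_one]
  have A1 := tw_mul hR h1 cR c1
  have A2 := tw_mul h1 h2 c1 c2
  have c12 := cen_mul c1 c2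
  have A3 := tw_mul A2 hR c12 cR
  have c12R := cen_mul c12 cR
  have A4 := tw_mul hKB A3 c0 c12R
  rw [← hK] at A4
  rw [A1] at A4
  have A5 := mul_right_cancel A4
  rw [one_mul, cR e1, mul_assoc e1 e2 eR, c2 eR, ← mul_assoc] at A5
  exact left_eq_mul.mp A5

/-- three elements squaring to the central involution `z` anticommute -/
theorem anti_of_sq {x y z : H} (hz2 : z * z = 1) (hzc : ∀ g : H, z * g = g * z)
    (hx : x * x = z) (hy : y * y = z) (hxy : (x * y) * (x * y) = z) : y * x = z * (x * y) := by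
  have h : x * (y * x) * y = x * (z * (x * y)) * y := by
    calc x * (y * x) * y = (x * y) * (x * y) := by simp only [mul_assoc]
      _ = z := hxy
      _ = z * (z * z) := by rw [hz2, mul_one]
      _ = z * ((x * x) * (y * y)) := by rw [hx, hy]
      _ = (z * x) * (x * y) * y := by simp only [mul_assoc]
      _ = (x * z) * (x * y) * y := by rw [hzc x]
      _ = x * (z * (x * y)) * y := by simp only [mul_assoc]
  exact mul_left_cancel (mul_right_cancel h)

end grp

section perm

variable {α : Type*} [DecidableEq α]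

/-- `ρ d₁ = d₁ d₂ ρ` for `ρ = (a b c)`, `d₁ = (a b)(c d)`, `d₂ = (a c)(b d)` -/
theorem rho_mul {a b c d : α} (hab : a ≠ b) (hac : a ≠ c) (had : a ≠ d) (hbc : b ≠ c)
    (hbd : b ≠ d) (hcd : c ≠ d) :
    (swap a b * swap b c) * (swap a b * swap c d) =
      (swap a b * swap c d) * (swap a c * swap b d) * (swap a b * swap b c) := by
  ext x
  simp only [Perm.mul_apply]
  by_cases hxa : x = a
  · subst hxa
    simp [swap_apply_def, hab, hac, had, hbc, hbd, hcd, hab.symm, hac.symm, had.symm, hbc.symm,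
      hbd.symm, hcd.symm]
  by_cases hxb : x = b
  · subst hxb
    simp [swap_apply_def, hab, hac, had, hbc, hbd, hcd, hab.symm, hac.symm, had.symm, hbc.symm,
      hbd.symm, hcd.symm]
  by_cases hxc : x = c
  · subst hxc
    simp [swap_apply_def, hab, hac, had, hbc, hbd, hcd, hab.symm, hac.symm, had.symm, hbc.symm,
      hbd.symm, hcd.symm]
  by_cases hxd : x = d
  · subst hxd
    simp [swap_apply_def, hab, hac, had, hbc, hbd, hcd, hab.symm, hac.symm, had.symm, hbc.symm,
      hbd.symm, hcd.symm]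
  simp [swap_apply_def, hxa, hxb, hxc, hxd]

/-- a permutation fixing `a, b, c, d` is disjoint from one supported on `{a, b, c, d}` -/
theorem disjoint_of_fix {a b c d : α} {f g : Perm α} (ha : f a = a) (hb : f b = b) (hc : f c = c)
    (hd : f d = d) (hg : ∀ x, x ≠ a → x ≠ b → x ≠ c → x ≠ d → g x = x) : Perm.Disjoint f g := by
  intro x
  by_cases hxa : x = a
  · left; rw [hxa]; exact ha
  by_cases hxb : x = b
  · left; rw [hxb]; exact hb
  by_cases hxc : x = c
  · left; rw [hxc]; exact hc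
  by_cases hxd : x = d
  · left; rw [hxd]; exact hd
  right; exact hg x hxa hxb hxc hxd

end perm

end G2

section grp

variable {G : Type*} [Group G] [Finite G]

/-- **G2**. the anticommuting certificate. -/
theorem anticomm_cert {n : ℕ} (π : G →* alternatingGroup (Fin n))
    (hπ : Function.Surjective π) (z : G) (hz2 : z * z = 1)
    (hzc : ∀ g : G, z * g = g * z) (hker : ∀ g : G, π g = 1 ↔ g = 1 ∨ g = z)
    (hdt : ∀ d : G, ((π d : alternatingGroup (Fin n)) : Perm (Fin n)).cycleType = {2, 2} →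
      d * d = z)
    (β : Perm (Fin n)) (hβ : Perm.sign β = 1) (a b c d : Fin n)
    (hab : a ≠ b) (hac : a ≠ c) (had : a ≠ d) (hbc : b ≠ c) (hbd : b ≠ d) (hcd : c ≠ d)
    (h1 : β a = b) (h2 : β b = a) (h3 : β c = d) (h4 : β d = c) :
    ∃ c' : G, ∀ b' : G, ((π b' : alternatingGroup (Fin n)) : Perm (Fin n)) = β →
      c' * b' * c'⁻¹ * b'⁻¹ = z := by
  -- elements of the kernel are central
  have hcen : ∀ k : G, π k = 1 → ∀ g : G, k * g = g * k := by
    intro k hk g
    rcases (hker k).mp hk with rfl | rfl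
    · rw [one_mul, mul_one]
    · exact hzc g
  -- the permutations
  obtain ⟨d1, hd1⟩ : ∃ d1 : Perm (Fin n), d1 = swap a b * swap c d := ⟨_, rfl⟩
  obtain ⟨d2, hd2⟩ : ∃ d2 : Perm (Fin n), d2 = swap a c * swap b d := ⟨_, rfl⟩
  obtain ⟨ρ, hρ⟩ : ∃ ρ : Perm (Fin n), ρ = swap a b * swap b c := ⟨_, rfl⟩
  obtain ⟨β', hβ'⟩ : ∃ β' : Perm (Fin n), β' = d1 * β := ⟨_, rfl⟩
  have s1 : Perm.sign d1 = 1 := by rw [hd1, Perm.sign_mul, Perm.sign_swap hab, Perm.sign_swap hcd]; rfl
  have s2 : Perm.sign d2 = 1 := by rw [hd2, Perm.sign_mul, Perm.sign_swap hac, Perm.sign_swap hbd]; rfl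
  have sρ : Perm.sign ρ = 1 := by rw [hρ, Perm.sign_mul, Perm.sign_swap hab, Perm.sign_swap hbc]; rfl
  have sβ' : Perm.sign β' = 1 := by rw [hβ', Perm.sign_mul, s1, hβ, one_mul]
  have ct1 : d1.cycleType = {2, 2} := by
    rw [hd1]; exact cycleType_swap_mul_swap_of_nodup (by simp [hab, hac, had, hbc, hbd, hcd])
  have ct2 : d2.cycleType = {2, 2} := by
    rw [hd2]; exact cycleType_swap_mul_swap_of_nodup
      (by simp [hab, hac, had, hbc, hbd, hcd, hbc.symm])
  have hρd : ρ * d1 = d1 * d2 * ρ := by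
    rw [hρ, hd1, hd2]; exact G2.rho_mul hab hac had hbc hbd hcd
  have hconj : ρ * d1 * ρ⁻¹ = d1 * d2 := by rw [hρd, mul_inv_cancel_right]
  have ct3 : (d1 * d2).cycleType = {2, 2} := by rw [← hconj, cycleType_conj, ct1]
  have hd1sq : d1 * d1 = 1 := by
    have hdis : Perm.Disjoint (swap a b) (swap c d) :=
      disjoint_swap_swap (by simp [hab, hac, had, hbc, hbd, hcd])
    rw [hd1]
    calc swap a b * swap c d * (swap a b * swap c d)
        = swap a b * (swap c d * swap a b) * swap c d := by simp only [mul_assoc]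
      _ = swap a b * (swap a b * swap c d) * swap c d := by rw [hdis.commute.eq]
      _ = (swap a b * swap a b) * (swap c d * swap c d) := by simp only [mul_assoc]
      _ = 1 := by rw [swap_mul_self, swap_mul_self, one_mul]
  have hβeq : d1 * β' = β := by rw [hβ', ← mul_assoc, hd1sq, one_mul]
  -- β' fixes a, b, c, d
  have fa : β' a = a := by
    rw [hβ', hd1, Perm.mul_apply, Perm.mul_apply, h1, swap_apply_of_ne_of_ne hbc hbd,
      swap_apply_right]
  have fb : β' b = b := by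
    rw [hβ', hd1, Perm.mul_apply, Perm.mul_apply, h2, swap_apply_of_ne_of_ne hac had,
      swap_apply_left]
  have fc : β' c = c := by
    rw [hβ', hd1, Perm.mul_apply, Perm.mul_apply, h3, swap_apply_right,
      swap_apply_of_ne_of_ne hac.symm hbc.symm]
  have fd : β' d = d := by
    rw [hβ', hd1, Perm.mul_apply, Perm.mul_apply, h4, swap_apply_left,
      swap_apply_of_ne_of_ne had.symm hbd.symm]
  have cm1 : β' * d1 = d1 * β' := by
    apply (G2.disjoint_of_fix fa fb fc fd ?_).commute.eq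
    intro x hxa hxb hxc hxd
    rw [hd1, Perm.mul_apply, swap_apply_of_ne_of_ne hxc hxd, swap_apply_of_ne_of_ne hxa hxb]
  have cm2 : β' * d2 = d2 * β' := by
    apply (G2.disjoint_of_fix fa fb fc fd ?_).commute.eq
    intro x hxa hxb hxc hxd
    rw [hd2, Perm.mul_apply, swap_apply_of_ne_of_ne hxb hxd, swap_apply_of_ne_of_ne hxa hxc]
  have cmρ : β' * ρ = ρ * β' := by
    apply (G2.disjoint_of_fix fa fb fc fd ?_).commute.eq
    intro x hxa hxb hxc hxd
    rw [hρ, Perm.mul_apply, swap_apply_of_ne_of_ne hxb hxc, swap_apply_of_ne_of_ne hxa hxb]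
  -- lifts
  obtain ⟨D1, hD1⟩ := hπ ⟨d1, mem_alternatingGroup.mpr s1⟩
  obtain ⟨D2, hD2⟩ := hπ ⟨d2, mem_alternatingGroup.mpr s2⟩
  obtain ⟨R, hR⟩ := hπ ⟨ρ, mem_alternatingGroup.mpr sρ⟩
  obtain ⟨B, hB⟩ := hπ ⟨β', mem_alternatingGroup.mpr sβ'⟩
  -- twisted commutation with `B`
  have htw : ∀ (x : G) (σ : Perm (Fin n)), ((π x : alternatingGroup (Fin n)) : Perm (Fin n)) = σ →
      β' * σ = σ * β' → ∃ e : G, x * B = e * (B * x) ∧ ∀ g : G, e * g = g * e := by
    intro x σ hx hcomm
    refine ⟨x * B * x⁻¹ * B⁻¹, by group, hcen _ ?_⟩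
    apply Subtype.ext
    rw [map_mul, map_mul, map_mul, map_inv, map_inv, hB]
    simp only [Subgroup.coe_mul, Subgroup.coe_inv, Subgroup.coe_one, hx]
    rw [← hcomm, mul_inv_cancel_right, mul_inv_cancel]
  obtain ⟨e1, hE1, c1⟩ := htw D1 d1 (by rw [hD1]) cm1
  obtain ⟨e2, hE2, c2⟩ := htw D2 d2 (by rw [hD2]) cm2
  obtain ⟨eR, hER, cR⟩ := htw R ρ (by rw [hR]) cmρ
  -- `R D1 R⁻¹ = K D1 D2`
  have hKc : ∀ g : G, (R * D1 * R⁻¹ * (D1 * D2)⁻¹) * g = g * (R * D1 * R⁻¹ * (D1 * D2)⁻¹) := by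
    apply hcen
    apply Subtype.ext
    rw [map_mul, map_mul, map_mul, map_inv, map_inv, map_mul, hR, hD1, hD2]
    simp only [Subgroup.coe_mul, Subgroup.coe_inv, Subgroup.coe_one]
    rw [hconj, mul_inv_cancel]
  have hK : R * D1 = (R * D1 * R⁻¹ * (D1 * D2)⁻¹) * ((D1 * D2) * R) := by group
  have he2 : e2 = 1 := G2.e2_eq_one hE1 hE2 hER hK c1 c2 cR hKc
  rw [he2, one_mul] at hE2
  -- squares
  have q1 : D1 * D1 = z := hdt D1 (by rw [hD1]; exact ct1)
  have q2 : D2 * D2 = z := hdt D2 (by rw [hD2]; exact ct2)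
  have q3 : (D1 * D2) * (D1 * D2) = z := by
    apply hdt
    rw [map_mul, hD1, hD2]
    exact ct3
  have hanti : D2 * D1 = z * (D1 * D2) := G2.anti_of_sq hz2 hzc q1 q2 q3
  have hanti' : D1 * D2 = z * (D2 * D1) := by
    rw [hanti, ← mul_assoc, hz2, one_mul]
  refine ⟨D2, ?_⟩
  intro b' hb'
  -- `b' = k * (D1 * B)` with `k` central
  have hkc : ∀ g : G, (b' * (D1 * B)⁻¹) * g = g * (b' * (D1 * B)⁻¹) := by
    apply hcen
    apply Subtype.ext
    rw [map_mul, map_inv, map_mul, hD1, hB]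
    simp only [Subgroup.coe_mul, Subgroup.coe_inv, Subgroup.coe_one]
    rw [hb', hβeq, mul_inv_cancel]
  have hb'eq : b' = (b' * (D1 * B)⁻¹) * (D1 * B) := by group
  have c0 : ∀ g : G, (1 : G) * g = g * 1 := fun g => by rw [one_mul, mul_one]
  have hBD2 : B * D2 = 1 * (D2 * B) := by rw [one_mul, hE2]
  have hkD2 : (b' * (D1 * B)⁻¹) * D2 = 1 * (D2 * (b' * (D1 * B)⁻¹)) := by
    rw [one_mul, hkc D2]
  have T1 := G2.tw_mul hanti' hBD2 hzc c0
  have T2 := G2.tw_mul hkD2 T1 c0 (G2.cen_mul hzc c0)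
  rw [← hb'eq, one_mul, mul_one] at T2
  -- T2 : b' * D2 = z * (D2 * b')
  have T3 : D2 * b' = z * (b' * D2) := by rw [T2, ← mul_assoc, hz2, one_mul]
  calc D2 * b' * D2⁻¹ * b'⁻¹ = z * (b' * D2) * D2⁻¹ * b'⁻¹ := by rw [T3]
    _ = z := by group

end grp

end Cfsg.Agent.Lib.Lead.Ore
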