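import Mathlib

/-!
# S2493 swarm, package K1a: a cycle `formPerm (x :: l)` is a product of two reversal involutions
-/

set_option autoImplicit false

namespace Cfsg.Agent.Lib.Lead.Ore

open Equiv Equiv.Perm

namespace K1

variable {α : Type*} [DecidableEq α]

/-- the reversal map of a list: `L[i] ↦ L[N-1-i]`, identity off `L` -/
def lrevFun (L : List α) (y : α) : α :=
  if h : y ∈ L then L[L.length - 1 - L.idxOf y]'(by
    have := List.idxOf_lt_length_iff.mpr h; omega) else y

theorem lrevFun_getElem (L : List α) (hnd : L.Nodup) (i : ℕ) (hi : i < L.length) :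
    lrevFun L L[i] = L[L.length - 1 - i]'(by omega) := by
  unfold lrevFun
  rw [dif_pos (List.getElem_mem hi)]
  simp only [hnd.idxOf_getElem i hi]

theorem lrevFun_of_notMem (L : List α) (y : α) (h : y ∉ L) : lrevFun L y = y := by
  unfold lrevFun; rw [dif_neg h]

theorem lrevFun_invol (L : List α) (hnd : L.Nodup) : Function.Involutive (lrevFun L) := by
  intro y
  by_cases h : y ∈ L
  · obtain ⟨i, hi, rfl⟩ := List.getElem_of_mem h
    rw [lrevFun_getElem L hnd i hi, lrevFun_getElem L hnd _ (by omega)]
    simp only [show L.length - 1 - (L.length - 1 - i) = i by omega]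
  · rw [lrevFun_of_notMem L y h, lrevFun_of_notMem L y h]

/-- the reversal involution of a nodup list -/
def lrev (L : List α) (hnd : L.Nodup) : Perm α := (lrevFun_invol L hnd).toPerm _

theorem lrev_getElem (L : List α) (hnd : L.Nodup) (i : ℕ) (hi : i < L.length) :
    lrev L hnd L[i] = L[L.length - 1 - i]'(by omega) := lrevFun_getElem L hnd i hi

theorem lrev_of_notMem (L : List α) (hnd : L.Nodup) (y : α) (h : y ∉ L) : lrev L hnd y = y :=
  lrevFun_of_notMem L y h

theorem lrev_mul_self (L : List α) (hnd : L.Nodup) : lrev L hnd * lrev L hnd = 1 := by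
  ext y
  exact lrevFun_invol L hnd y

theorem card_filter_rev (N : ℕ) :
    ((Finset.range N).filter (fun i => N - 1 - i ≠ i)).card = 2 * (N / 2) := by
  rcases Nat.even_or_odd' N with ⟨m, rfl | rfl⟩
  · rw [Finset.filter_true_of_mem, Finset.card_range]
    · omega
    · intro i hi
      have := Finset.mem_range.mp hi
      omega
  · have : (Finset.range (2 * m + 1)).filter (fun i => 2 * m + 1 - 1 - i ≠ i) =
        (Finset.range (2 * m + 1)).erase m := by
      ext i
      rw [Finset.mem_filter, Finset.mem_erase, Finset.mem_range]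
      constructor
      · rintro ⟨h1, h2⟩
        exact ⟨fun h => h2 (by omega), h1⟩
      · rintro ⟨h1, h2⟩
        exact ⟨h2, fun h => h1 (by omega)⟩
    rw [this, Finset.card_erase_of_mem (Finset.mem_range.mpr (by omega)), Finset.card_range]
    omega

theorem lrev_support_card [Fintype α] (L : List α) (hnd : L.Nodup) :
    (lrev L hnd).support.card = 2 * (L.length / 2) := by
  rw [← card_filter_rev L.length]
  symm
  apply Finset.card_bij (fun i hi => L[i]'(Finset.mem_range.mp (Finset.mem_filter.mp hi).1))
  · intro i hi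
    have hi' := Finset.mem_range.mp (Finset.mem_filter.mp hi).1
    rw [Perm.mem_support, lrev_getElem L hnd i hi']
    intro heq
    exact (Finset.mem_filter.mp hi).2 (hnd.getElem_inj_iff.mp heq)
  · intro i hi j hj heq
    exact hnd.getElem_inj_iff.mp heq
  · intro y hy
    rw [Perm.mem_support] at hy
    have hyL : y ∈ L := by
      by_contra hn
      exact hy (lrev_of_notMem L hnd y hn)
    obtain ⟨i, hi, rfl⟩ := List.getElem_of_mem hyL
    refine ⟨i, Finset.mem_filter.mpr ⟨Finset.mem_range.mpr hi, ?_⟩, rfl⟩
    intro heq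
    apply hy
    rw [lrev_getElem L hnd i hi]
    simp only [heq]

end K1

section comb

variable {α : Type*} [Fintype α] [DecidableEq α]

/-- **K1a** (lists). Reversal involutions of a nodup list `x :: l`: `ι₁` reverses `l`, `ι₂` reverses `x :: l`. -/
theorem list_inv_decomp (x : α) (l : List α) (hnd : (x :: l).Nodup) (hl : l ≠ []) :
    ∃ ι₁ ι₂ : Perm α, ι₁ * ι₁ = 1 ∧ ι₂ * ι₂ = 1 ∧ ι₁ * ι₂ = (x :: l).formPerm ∧
      (∀ y, y ∉ x :: l → ι₁ y = y ∧ ι₂ y = y) ∧ ι₁ x = x ∧ ι₂ x ≠ x ∧
      ι₁.support.card = 2 * (l.length / 2) ∧ ι₂.support.card = 2 * ((l.length + 1) / 2) := by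
  have hndl : l.Nodup := (List.nodup_cons.mp hnd).2
  have hxl : x ∉ l := (List.nodup_cons.mp hnd).1
  have hlen : 0 < l.length := List.length_pos_iff.mpr hl
  have hN : (x :: l).length = l.length + 1 := List.length_cons
  refine ⟨K1.lrev l hndl, K1.lrev (x :: l) hnd, K1.lrev_mul_self _ _, K1.lrev_mul_self _ _,
    ?_, ?_, ?_, ?_, ?_, ?_⟩
  · -- the product
    ext y
    rw [Perm.mul_apply]
    by_cases hy : y ∈ x :: l
    · obtain ⟨k, hk, rfl⟩ := List.getElem_of_mem hy
      rw [K1.lrev_getElem _ hnd k hk, List.formPerm_apply_getElem _ hnd k hk]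
      by_cases hk' : k = l.length
      · subst hk'
        simp only [hN, show l.length + 1 - 1 - l.length = 0 by omega, Nat.mod_self,
          List.getElem_cons_zero]
        exact K1.lrev_of_notMem l hndl x hxl
      · have hk2 : k < l.length := by rw [hN] at hk; omega
        have e1 : (x :: l).length - 1 - k = (l.length - 1 - k) + 1 := by rw [hN]; omega
        have e2 : (k + 1) % (x :: l).length = k + 1 := by
          rw [hN]; exact Nat.mod_eq_of_lt (by omega)
        simp only [e1, e2, List.getElem_cons_succ]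
        rw [K1.lrev_getElem l hndl _ (by omega)]
        simp only [show l.length - 1 - (l.length - 1 - k) = k by omega]
    · have hy' : y ∉ l := fun h => hy (List.mem_cons_of_mem _ h)
      rw [K1.lrev_of_notMem _ hnd y hy, K1.lrev_of_notMem _ hndl y hy',
        List.formPerm_apply_of_notMem hy]
  · intro y hy
    have hy' : y ∉ l := fun h => hy (List.mem_cons_of_mem _ h)
    exact ⟨K1.lrev_of_notMem _ hndl y hy', K1.lrev_of_notMem _ hnd y hy⟩
  · exact K1.lrev_of_notMem l hndl x hxl
  · have h := K1.lrev_getElem (x :: l) hnd 0 (by rw [hN]; omega)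
    have e1 : (x :: l).length - 1 - 0 = (l.length - 1) + 1 := by rw [hN]; omega
    simp only [List.getElem_cons_zero, e1, List.getElem_cons_succ] at h
    intro heq
    rw [heq] at h
    apply hxl
    rw [h]
    exact List.getElem_mem _
  · exact K1.lrev_support_card l hndl
  · have := K1.lrev_support_card (x :: l) hnd
    rw [hN] at this
    exact this

end comb

end Cfsg.Agent.Lib.Lead.Ore
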