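import Mathlib
import Cfsg.Agent.Lib.Helper8.Ore_K1a

/-!
# S2493 swarm, package K1b: a cycle is a product of two involutions with controlled supports
-/

set_option autoImplicit false

namespace Cfsg.Agent.Lib.Lead.Ore

open Equiv Equiv.Perm

section comb

variable {α : Type*} [Fintype α] [DecidableEq α]

/-- **K1b** (cycles). -/
theorem cycle_inv_decomp (σ : Perm α) (hσ : σ.IsCycle) :
    ∃ ι₁ ι₂ : Perm α, ι₁ * ι₁ = 1 ∧ ι₂ * ι₂ = 1 ∧ ι₁ * ι₂ = σ ∧
      ι₁.support ⊆ σ.support ∧ ι₂.support ⊆ σ.support ∧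
      ι₂.support.card = ι₁.support.card + (if Perm.sign σ = -1 then 2 else 0) ∧
      ι₁.support ≠ ι₂.support := by
  have hσ' : σ.IsCycle := hσ
  obtain ⟨x, hx, -⟩ := hσ
  have hxs : x ∈ σ.support := Perm.mem_support.mpr hx
  have hnd := Perm.nodup_toList σ x
  have hform := Perm.formPerm_toList σ x
  rw [hσ'.cycleOf_eq hx] at hform
  have hlen := Perm.length_toList σ x
  rw [hσ'.cycleOf_eq hx] at hlen
  have hmem : ∀ y, y ∈ σ.toList x → y ∈ σ.support := by
    intro y hy
    rw [Perm.mem_toList_iff] at hy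
    exact hy.1.mem_support_iff.mp hy.2
  obtain ⟨L, hL⟩ : ∃ L, L = σ.toList x := ⟨_, rfl⟩
  rw [← hL] at hnd hform hlen hmem
  match L, hL, hnd, hform, hlen, hmem with
  | [], hL, _, _, _, _ =>
    exact absurd (Perm.toList_eq_nil_iff.mp hL.symm) (not_not.mpr hxs)
  | [y], hL, _, _, _, _ =>
    exact absurd hL.symm (Perm.toList_ne_singleton σ x y)
  | x0 :: y :: l', hL, hnd, hform, hlen, hmem =>
    obtain ⟨ι₁, ι₂, h1, h2, hprod, hfix, hx1, hx2, hc1, hc2⟩ :=
      list_inv_decomp x0 (y :: l') hnd (List.cons_ne_nil _ _)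
    refine ⟨ι₁, ι₂, h1, h2, by rw [hprod, hform], ?_, ?_, ?_, ?_⟩
    · intro w hw
      by_contra hn
      have : w ∉ x0 :: y :: l' := fun h => hn (hmem w h)
      exact (Perm.mem_support.mp hw) (hfix w this).1
    · intro w hw
      by_contra hn
      have : w ∉ x0 :: y :: l' := fun h => hn (hmem w h)
      exact (Perm.mem_support.mp hw) (hfix w this).2
    · have hsign : Perm.sign σ = (-1) ^ (y :: l').length := by
        rw [hσ'.sign, ← hlen, List.length_cons, pow_succ]
        simp
      rw [hc1, hc2, hsign]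
      rcases Nat.even_or_odd (y :: l').length with he | ho
      · rw [he.neg_one_pow, if_neg (by decide)]
        obtain ⟨m, hm⟩ := he
        omega
      · rw [ho.neg_one_pow, if_pos rfl]
        obtain ⟨m, hm⟩ := ho
        omega
    · intro heq
      have : x0 ∈ ι₂.support := Perm.mem_support.mpr hx2
      rw [← heq] at this
      exact (Perm.mem_support.mp this) hx1

end comb

end Cfsg.Agent.Lib.Lead.Ore
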