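import Mathlib
import Cfsg.Agent.Lib.Helper9.GroupFusion

/-! S4587 swarm, core of packages P4/P5 (helper8):
a `p`-element `x` can be conjugated into the Sylow subgroup `P` together with a full Sylow
`p`-subgroup of its centralizer. -/

set_option autoImplicit false

namespace Cfsg.Agent.Lib.Helper2.PAb

variable {G : Type*} [Group G]

namespace P5

open Cfsg.Agent.Lib.Helper9 in
/-- The centralizer of a conjugate is the conjugate of the centralizer. -/
theorem centralizer_conj (g x : G) :
    Subgroup.centralizer ({g * x * g⁻¹} : Set G) =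
      (Subgroup.centralizer ({x} : Set G)).map (MulAut.conj g).toMonoidHom := by
  ext y
  rw [mem_map_conj_iff, Subgroup.mem_centralizer_singleton_iff, Subgroup.mem_centralizer_singleton_iff]
  constructor
  · intro h
    have : g⁻¹ * (y * (g * x * g⁻¹)) * g = g⁻¹ * ((g * x * g⁻¹) * y) * g := by rw [h]
    calc g⁻¹ * y * g * x = g⁻¹ * (y * (g * x * g⁻¹)) * g := by group
      _ = g⁻¹ * ((g * x * g⁻¹) * y) * g := this
      _ = x * (g⁻¹ * y * g) := by group
  · intro h
    calc y * (g * x * g⁻¹) = g * (g⁻¹ * y * g * x) * g⁻¹ := by group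
      _ = g * (x * (g⁻¹ * y * g)) * g⁻¹ := by rw [h]
      _ = g * x * g⁻¹ * y := by group

open Cfsg.Agent.Lib.Helper9 in
theorem card_centralizer_conj [Finite G] (g x : G) :
    Nat.card (Subgroup.centralizer ({g * x * g⁻¹} : Set G)) =
      Nat.card (Subgroup.centralizer ({x} : Set G)) := by
  rw [centralizer_conj, card_map_conj]

open Cfsg.Agent.Lib.Helper9 in
/-- Core: a `p`-element `x` has a conjugate `x' = g x g⁻¹ ∈ P` such that `C_P(x')` has order
`p ^ v_p(|C_G(x)|)`, i.e. `C_P(x')` is a Sylow `p`-subgroup of `C_G(x')`. -/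
theorem exists_conj_mem_sylow_card [Finite G] {p : ℕ} [Fact p.Prime] (P : Sylow p G) (x : G)
    (hx : ∃ k : ℕ, orderOf x = p ^ k) :
    ∃ g : G, g * x * g⁻¹ ∈ (P : Subgroup G) ∧
      Nat.card ↥((P : Subgroup G) ⊓ Subgroup.centralizer ({g * x * g⁻¹} : Set G)) =
        p ^ (Nat.card (Subgroup.centralizer ({x} : Set G))).factorization p := by
  classical
  have hp : p.Prime := Fact.out
  set C : Subgroup G := Subgroup.centralizer ({x} : Set G) with hC
  have hxC : x ∈ C := Subgroup.mem_centralizer_singleton_iff.mpr rfl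
  -- the cyclic p-subgroup of `↥C` generated by `x`
  have hZ : IsPGroup p ↥(Subgroup.zpowers (⟨x, hxC⟩ : ↥C)) := by
    obtain ⟨k, hk⟩ := hx
    apply IsPGroup.of_card (n := k)
    rw [Nat.card_zpowers, ← hk]
    exact Subgroup.orderOf_mk x hxC
  obtain ⟨T, hT⟩ := hZ.exists_le_sylow
  have hTcard : Nat.card ↥(T : Subgroup ↥C) = p ^ (Nat.card ↥C).factorization p :=
    T.card_eq_multiplicity
  set T' : Subgroup G := (T : Subgroup ↥C).map C.subtype with hT'
  have hT'p : IsPGroup p ↥T' := T.isPGroup'.map _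
  have hT'card : Nat.card ↥T' = p ^ (Nat.card ↥C).factorization p := by
    rw [← hTcard]
    exact Nat.card_congr ((T : Subgroup ↥C).equivMapOfInjective _ C.subtype_injective).symm.toEquiv
  have hxT' : x ∈ T' := ⟨⟨x, hxC⟩, hT (Subgroup.mem_zpowers _), rfl⟩
  have hT'C : T' ≤ C := by
    rintro _ ⟨y, -, rfl⟩
    exact y.2
  obtain ⟨g, hg⟩ := exists_map_conj_le_sylow P hT'p
  refine ⟨g, hg (conj_mem_map_conj T' g hxT'), ?_⟩
  -- lower bound
  have hle : T'.map (MulAut.conj g).toMonoidHom ≤
      (P : Subgroup G) ⊓ Subgroup.centralizer ({g * x * g⁻¹} : Set G) := by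
    refine le_inf hg ?_
    rw [centralizer_conj]
    exact Subgroup.map_mono hT'C
  have hlow : p ^ (Nat.card ↥C).factorization p ≤
      Nat.card ↥((P : Subgroup G) ⊓ Subgroup.centralizer ({g * x * g⁻¹} : Set G)) := by
    rw [← hT'card, ← card_map_conj T' g]
    exact Subgroup.card_le_of_le hle
  -- upper bound
  have hQp : IsPGroup p ↥((P : Subgroup G) ⊓ Subgroup.centralizer ({g * x * g⁻¹} : Set G)) :=
    P.isPGroup'.to_le inf_le_left
  obtain ⟨m, hm⟩ := IsPGroup.iff_card.mp hQp
  have hdvd : p ^ m ∣ Nat.card ↥C := by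
    rw [← hm, ← card_centralizer_conj g x]
    exact Subgroup.card_dvd_of_le inf_le_right
  have hCpos : Nat.card ↥C ≠ 0 := Nat.card_pos.ne'
  have hmle : m ≤ (Nat.card ↥C).factorization p :=
    (hp.pow_dvd_iff_le_factorization hCpos).mp hdvd
  rw [hm] at hlow ⊢
  have : (Nat.card ↥C).factorization p ≤ m := (Nat.pow_le_pow_iff_right hp.one_lt).mp hlow
  rw [le_antisymm hmle this]

end P5

end Cfsg.Agent.Lib.Helper2.PAb
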