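import Mathlib
import Cfsg.Agent.Lib.Helper8.PAb_P5core
import Cfsg.Agent.Lib.Helper5.PAb_L2

/-! S4587 swarm, package P4 (helper8): final step of `⇒`. -/

set_option autoImplicit false

namespace Cfsg.Agent.Lib.Helper2.PAb

variable {G : Type*} [Group G]

/-- **P4 (Final step of ⇒)** (uses P3). -/
theorem exists_of_abelian_index_p [Finite G] {p : ℕ} [Fact p.Prime] (P : Sylow p G)
    (hidx : (⁅(P : Subgroup G), (P : Subgroup G)⁆).relIndex (P : Subgroup G) = p ^ 2)
    (M : Subgroup G) [M.Normal]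
    (hab : ∀ a ∈ (P : Subgroup G) ⊓ M, ∀ b ∈ (P : Subgroup G) ⊓ M, a * b = b * a)
    (hind : ((P : Subgroup G) ⊓ M).relIndex (P : Subgroup G) = p) :
    ∃ x : G, (∃ k : ℕ, orderOf x = p ^ k) ∧
      (Nat.card (Subgroup.centralizer ({x} : Set G))).factorization p = 2 := by
  have hp : p.Prime := Fact.out
  -- an element of `P` outside `M`
  have hex : ∃ x ∈ (P : Subgroup G), x ∉ M := by
    by_contra hcon
    push Not at hcon
    have hle : (P : Subgroup G) ≤ (P : Subgroup G) ⊓ M := fun y hy => ⟨hy, hcon y hy⟩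
    have h1 : ((P : Subgroup G) ⊓ M).relIndex (P : Subgroup G) = 1 :=
      Subgroup.relIndex_eq_one.mpr hle
    rw [hind] at h1
    exact hp.one_lt.ne' h1
  obtain ⟨x, hxP, hxM⟩ := hex
  have hxord : ∃ k : ℕ, orderOf x = p ^ k := by
    obtain ⟨k, hk⟩ := (IsPGroup.iff_orderOf.mp P.isPGroup') ⟨x, hxP⟩
    exact ⟨k, by rw [← hk]; exact (Subgroup.orderOf_mk x hxP).symm⟩
  refine ⟨x, hxord, ?_⟩
  obtain ⟨g, hgP, hcard⟩ := P5.exists_conj_mem_sylow_card P x hxord
  have hgM : g * x * g⁻¹ ∉ (P : Subgroup G) ⊓ M := by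
    intro h
    apply hxM
    have := (inferInstance : M.Normal).conj_mem _ h.2 g⁻¹
    simpa [mul_assoc] using this
  have hnorm : (P : Subgroup G) ≤ Subgroup.normalizer (((P : Subgroup G) ⊓ M : Subgroup G) : Set G) := by
    intro y hy
    rw [Subgroup.mem_normalizer_iff]
    intro h
    rw [Subgroup.mem_inf, Subgroup.mem_inf]
    constructor
    · rintro ⟨h1, h2⟩
      exact ⟨(P : Subgroup G).mul_mem ((P : Subgroup G).mul_mem hy h1) ((P : Subgroup G).inv_mem hy),
        (inferInstance : M.Normal).conj_mem _ h2 y⟩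
    · rintro ⟨h1, h2⟩
      refine ⟨?_, ?_⟩
      · have := (P : Subgroup G).mul_mem ((P : Subgroup G).mul_mem ((P : Subgroup G).inv_mem hy) h1) hy
        have e : y⁻¹ * (y * h * y⁻¹) * y = h := by group
        rwa [e] at this
      · have := (inferInstance : M.Normal).conj_mem _ h2 y⁻¹
        have e : y⁻¹ * (y * h * y⁻¹) * y⁻¹⁻¹ = h := by group
        rwa [e] at this
  have h2 := card_centralizer_of_abelian_index_p (P : Subgroup G) P.isPGroup' hidx
    ((P : Subgroup G) ⊓ M) inf_le_left hnorm hab hind (g * x * g⁻¹) hgP hgM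
  rw [h2] at hcard
  exact (Nat.pow_right_injective hp.two_le hcard).symm

end Cfsg.Agent.Lib.Helper2.PAb
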