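import Mathlib
import Cfsg.Agent.Lib.Helper8.PAb_P5core
import Cfsg.Agent.Lib.Helper5.PAb_L1

/-! S4587 swarm, package P5 (helper8): the direction `⇐` (uses P1 = Helper5.PAb_L1). -/

set_option autoImplicit false

namespace Cfsg.Agent.Lib.Helper2.PAb

variable {G : Type*} [Group G]

/-- **P5 (⇐)** (uses P1). -/
theorem relIndex_of_exists [Finite G] {p : ℕ} [Fact p.Prime] (P : Sylow p G) (x : G)
    (hx : ∃ k : ℕ, orderOf x = p ^ k)
    (hc : (Nat.card (Subgroup.centralizer ({x} : Set G))).factorization p = 2) :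
    (⁅(P : Subgroup G), (P : Subgroup G)⁆).relIndex (P : Subgroup G) = p ^ 2 := by
  obtain ⟨g, hgP, hcard⟩ := P5.exists_conj_mem_sylow_card P x hx
  rw [hc] at hcard
  exact relIndex_commutator_of_card_centralizer (P : Subgroup G) P.isPGroup' (g * x * g⁻¹) hgP hcard

end Cfsg.Agent.Lib.Helper2.PAb
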