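import Mathlib
import Cfsg.Prelude.Def_Blocks
import Cfsg.Agent.Lib.Helper8.BlockLocal
import Cfsg.Agent.Lib.Helper8.BlockUnion
import Cfsg.Agent.Lib.Helper8.Deflation

/-!
# Characters of `G/N` in the principal block
-/

set_option autoImplicit false
set_option maxHeartbeats 800000

namespace Cfsg.Agent.Lib.Helper8

open Cfsg
open scoped ComplexConjugate
open Cfsg.Agent.Lib.Helper1 Cfsg.Agent.Lib.Helper4

universe u

section

variable {G : Type u} [Group G] [Finite G] {M : Ideal AlgInt} {p : ℕ} [Fact p.Prime]

theorem mem_principalBlock_of_ker (hM : IsPModular p M) (P : Sylow p G) (N : Subgroup G)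
    [N.Normal] (hidx : ¬ p ∣ N.index)
    (hC : Subgroup.centralizer ((P : Subgroup G) : Set G) ≤ N) (χ : IrrCharacter G)
    (hker : ∀ n ∈ N, (χ : G → ℂ) n = (χ : G → ℂ) 1) : χ ∈ principalBlock M G := by
  classical
  have hp : p.Prime := Fact.out
  have hMp := isPModular_isPrime hM
  have : Fintype G := Fintype.ofFinite G
  have hdeg := charDegree_dvd_index N χ.2 hker
  have hpdeg : ¬ p ∣ charDegree (χ : G → ℂ) := fun h => hidx (h.trans hdeg)
  obtain ⟨hχ1, hpos⟩ := irr_apply_one_eq_charDegree χ.2
  show SameBlock M (fun _ : G => (1 : ℂ)) (χ : G → ℂ)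
  intro x
  unfold centralChar
  rw [mul_one, div_one]
  by_cases hx : x ∈ N
  · rw [hker x hx, mul_div_assoc, div_self (irr_apply_one_ne_zero χ.2), mul_one, sub_self]
    exact memLocalIdeal_zero hMp.ne_top
  · -- the class size is divisible by `p`
    have hdvd : p ∣ (Subgroup.centralizer ({x} : Set G)).index := by
      by_contra hnd
      -- a Sylow subgroup of the centralizer is a Sylow subgroup of `G`
      obtain ⟨Q⟩ : Nonempty (Sylow p (Subgroup.centralizer ({x} : Set G))) := inferInstance
      have hQcard : Nat.card (Q : Subgroup (Subgroup.centralizer ({x} : Set G))) =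
          p ^ (Nat.card (Subgroup.centralizer ({x} : Set G))).factorization p :=
        Sylow.card_eq_multiplicity Q
      set R : Subgroup G := (Q : Subgroup (Subgroup.centralizer ({x} : Set G))).map
        (Subgroup.centralizer ({x} : Set G)).subtype with hR
      have hRcard : Nat.card R = p ^ (Nat.card G).factorization p := by
        rw [hR, Subgroup.card_map_of_injective (Subgroup.subtype_injective _), hQcard]
        congr 1
        have h1 := Subgroup.card_mul_index (Subgroup.centralizer ({x} : Set G))
        rw [← h1, Nat.factorization_mul Nat.card_pos.ne' Subgroup.index_ne_zero_of_finite,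
          Finsupp.add_apply, Nat.factorization_eq_zero_of_not_dvd hnd, add_zero]
      have hRp : IsPGroup p R := IsPGroup.of_card hRcard
      obtain ⟨g, hg⟩ := hRp.exists_le_sylow
      have hRx : R ≤ Subgroup.centralizer ({x} : Set G) := by
        rw [hR]
        rintro _ ⟨y, _, rfl⟩
        exact y.2
      have hPcard : Nat.card (P : Subgroup G) = p ^ (Nat.card G).factorization p :=
        Sylow.card_eq_multiplicity P
      -- `R` is a Sylow subgroup, conjugate to `P`
      have hReq : R = (g : Subgroup G) := by
        apply Subgroup.eq_of_le_of_card_ge hg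
        rw [hRcard, Sylow.card_eq_multiplicity g]
      obtain ⟨c, hc⟩ := MulAction.exists_smul_eq G g P
      -- so `x` is conjugate into the centralizer of `P`
      have hxc : c * x * c⁻¹ ∈ Subgroup.centralizer ((P : Subgroup G) : Set G) := by
        rw [Subgroup.mem_centralizer_iff]
        intro u hu
        have hu' : u ∈ ((c • g : Sylow p G) : Subgroup G) := by rw [hc]; exact hu
        rw [Sylow.coe_subgroup_smul, Subgroup.mem_pointwise_smul_iff_inv_smul_mem] at hu'
        have h2 : c⁻¹ * u * c ∈ R := by
          rw [hReq]
          simpa [MulAut.smul_def] using hu'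
        have h3 := hRx h2
        rw [Subgroup.mem_centralizer_singleton_iff] at h3
        calc u * (c * x * c⁻¹) = c * ((c⁻¹ * u * c) * x) * c⁻¹ := by group
          _ = c * (x * (c⁻¹ * u * c)) * c⁻¹ := by rw [h3]
          _ = c * x * c⁻¹ * u := by group
      have h4 := hC hxc
      have h5 : x ∈ N := by
        have := (inferInstance : N.Normal).conj_mem _ h4 c⁻¹
        simpa [mul_assoc] using this
      exact hx h5
    have h1 : MemLocalIdeal M ((Subgroup.centralizer ({x} : Set G)).index : ℂ) :=
      (memLocalIdeal_natCast_iff hM _).2 hdvd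
    have h2 : MemLocalRing M ((χ : G → ℂ) x / (χ : G → ℂ) 1) := by
      rw [hχ1, div_eq_mul_inv]
      exact memLocalRing_mul hMp
        (memLocalRing_of_isIntegral hMp.ne_top (isIntegral_char_apply (isCharacter_of_irr χ.2) x))
        (memLocalRing_inv_natCast hM hpdeg)
    have h3 := memLocalIdeal_mul_right hMp h1 h2
    rw [← mul_div_assoc] at h3
    exact memLocalIdeal_sub hMp h1 h3

end

end Cfsg.Agent.Lib.Helper8
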