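import Mathlib
import Cfsg.Prelude.Def_Blocks
import Cfsg.Agent.Lib.Helper8.CA8
import Cfsg.Agent.Lib.Helper8.BlockPairPrincipal
import Cfsg.Agent.Lib.Helper8.Deflation

/-!
# Principal blocks and normal subgroups: degree square sums
-/

set_option autoImplicit false
set_option linter.unusedSectionVars false

namespace Cfsg.Agent.Lib.Helper8

open Cfsg
open scoped ComplexConjugate
open Cfsg.Agent.Lib.Helper1 Cfsg.Agent.Lib.Helper4

universe u

section

variable {G : Type u} [Group G] [Fintype G] (N : Subgroup G) [hN : N.Normal] [Fintype N]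
  {M : Ideal AlgInt}

/-- The principal block of `G` covers the principal block of `N`. -/
theorem covers_principalBlock (hM : M ≠ ⊤) :
    Covers N (principalBlock M G) (principalBlock M N) := by
  refine ⟨trivIrr G, trivIrr_mem_principalBlock hM, trivIrr N, trivIrr_mem_principalBlock hM, ?_⟩
  have : (fun n : N => (trivIrr G : G → ℂ) n) = (trivIrr N : N → ℂ) := by
    funext n
    rw [trivIrr_apply, trivIrr_apply]
  rw [this, classInner_irr_self (trivIrr N).2]
  exact one_ne_zero

/-- Constituents of the restriction of a member of the principal block lie in the principal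
block. -/
theorem mem_principalBlock_of_constituent (hM : M.IsPrime) {χ : IrrCharacter G}
    (hχ : χ ∈ principalBlock M G) {θ : IrrCharacter N}
    (h : classInner (fun n : N => (χ : G → ℂ) n) (θ : N → ℂ) ≠ 0) : θ ∈ principalBlock M N := by
  have h1 := mem_gOrbit_of_covers N hM isPBlock_principalBlock isPBlock_principalBlock
    (covers_principalBlock N hM.ne_top) hχ h
  obtain ⟨x, hx, θ', hθ', rfl⟩ := h1
  rw [← conjIrr_image_principalBlock (M := M) N x hx]
  exact ⟨θ', hθ', rfl⟩

/-- The degree of a character is the sum of the degrees of the constituents of its restriction. -/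
theorem apply_one_eq_sum_restrict [Fintype (IrrCharacter N)] (χ : G → ℂ)
    (hχ : IsClassFunction G χ) :
    χ 1 = ∑ θ : IrrCharacter N, classInner (fun n : N => χ n) (θ : N → ℂ) * (θ : N → ℂ) 1 := by
  have h1 := class_function_expansion (fun n : N => χ n) (isClassFunction_restrict N hχ)
  have h2 := congrFun h1 1
  rw [Finset.sum_apply] at h2
  simpa using h2

/-- The restriction of the regular character. -/
theorem sum_degree_mul_classInner_restrict [Fintype (IrrCharacter G)] (θ : IrrCharacter N) :
    ∑ χ : IrrCharacter G, (χ : G → ℂ) 1 * classInner (fun n : N => (χ : G → ℂ) n) (θ : N → ℂ)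
      = (N.index : ℂ) * (θ : N → ℂ) 1 := by
  have hc : IsCharacter G (indFun N (θ : N → ℂ)) :=
    Cfsg.Agent.S0148.result N _ (isCharacter_of_irr θ.2)
  have h1 := class_function_expansion (indFun N (θ : N → ℂ)) (isClassFunction_of_isCharacter hc)
  have h2 := congrFun h1 1
  rw [Finset.sum_apply, Cfsg.Agent.S0170.indFun_one] at h2
  have hN0 : (Nat.card N : ℂ) ≠ 0 := Nat.cast_ne_zero.2 Nat.card_pos.ne'
  have h3 : (Nat.card G : ℂ) = (Nat.card N : ℂ) * (N.index : ℂ) := by
    rw [← Nat.cast_mul, Subgroup.card_mul_index]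
  have h4 : (N.index : ℂ) * (θ : N → ℂ) 1 = (Nat.card N : ℂ)⁻¹ * ((Nat.card G : ℂ) * (θ : N → ℂ) 1) := by
    rw [h3]
    field_simp
  rw [h4, h2]
  refine Finset.sum_congr rfl fun χ _ => ?_
  rw [Pi.smul_apply, smul_eq_mul, Cfsg.Agent.S0146.result N _ _ (isClassFunction_irr χ.2)]
  obtain ⟨m, hm⟩ := classInner_char_nat
    (Cfsg.Agent.S0148.isCharacter_restrict N (isCharacter_of_irr χ.2)) (isCharacter_of_irr θ.2)
  have e1 : classInner (θ : N → ℂ) (fun n : N => (χ : G → ℂ) n) = (m : ℂ) := by
    rw [← classInner_conj_symm, hm, map_natCast]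
  rw [hm, e1, mul_comm]

end

end Cfsg.Agent.Lib.Helper8
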