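import Mathlib
import Cfsg.Agent.Lib.Helper8.DH20
import Cfsg.Agent.Lib.Helper8.DO18
import Cfsg.Agent.Lib.Helper1.CycloNorm
import Cfsg.Agent.S0887
import Cfsg.Agent.S0138

/-!
# Groups whose nonlinear irreducible characters have prime degree: basics

`PD G`: every irreducible character of `G` has degree `1` or a prime.  The property passes to
quotients and to normal subgroups.  In a nonabelian simple group no nontrivial element acts as a
scalar in a nontrivial irreducible representation.
-/

set_option autoImplicit false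
set_option linter.unusedSectionVars false

namespace Cfsg.Agent.Lib.Helper8.PD

open Cfsg Cfsg.Agent.Lib.Helper1 Cfsg.Agent.Lib.Helper4 Cfsg.Agent.Lib.Helper8
open scoped ComplexConjugate

universe u

/-- Every irreducible character has degree `1` or a prime. -/
def PD (G : Type u) [Group G] : Prop :=
  ∀ χ : G → ℂ, Cfsg.IsIrrCharacter G χ → ∀ d : ℕ, χ 1 = (d : ℂ) → d = 1 ∨ d.Prime

theorem PD.of_surjective {G H : Type u} [Group G] [Group H] (h : PD G)
    (f : G →* H) (hf : Function.Surjective f) : PD H := by
  intro χ hχ d hd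
  have h1 := h _ (Cfsg.Agent.Lib.Helper2.PiSection.isIrrCharacter_comp_surjective hχ f hf) d
  apply h1
  simpa using hd

theorem PD.quotient {G : Type u} [Group G] (h : PD G) (N : Subgroup G) [N.Normal] :
    PD (G ⧸ N) :=
  h.of_surjective (QuotientGroup.mk' N) (QuotientGroup.mk'_surjective N)

theorem PD.normal {G : Type u} [Group G] [Finite G] (h : PD G) (N : Subgroup G) [N.Normal] :
    PD N := by
  classical
  haveI : Fintype G := Fintype.ofFinite G
  haveI : Fintype N := Fintype.ofFinite N
  intro θ hθ d hd
  obtain ⟨χ, hχ, hover⟩ := Cfsg.Agent.Lib.Helper8.DH.exists_irr_over' N hθ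
  obtain ⟨hc, -⟩ := irr_apply_one_eq_charDegree hχ
  have h1 := (Cfsg.Agent.S0887.result N χ hχ θ hθ hover (charDegree χ) d hc hd).1
  rcases h χ hχ _ hc with h2 | h2
  · left
    rw [h2] at h1
    exact Nat.dvd_one.1 h1
  · rcases (Nat.dvd_prime h2).1 h1 with h3 | h3
    · left; exact h3
    · right; rw [h3]; exact h2

section Simple

variable {S : Type u} [Group S] [Fintype S] [IsSimpleGroup S]

/-- In a nonabelian simple group, a nontrivial irreducible character has absolute value less
than its degree at every nontrivial element. -/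
theorem simple_norm_ne (hnc : ∃ a b : S, a * b ≠ b * a)
    {χ : S → ℂ} (hχ : IsIrrCharacter S χ) (hχ1 : χ ≠ fun _ => 1) {z : S} (hz1 : z ≠ 1) (d : ℕ)
    (hd : χ 1 = d) : ‖χ z‖ ≠ d := by
  intro hnorm
  have hself := classInner_irr_self hχ
  obtain ⟨n, ρ, hirr, rfl⟩ := hχ
  have hn : n = d := by
    rw [Representation.char_one, Module.finrank_fin_fun] at hd
    exact_mod_cast hd
  have h1 : ‖ρ.character z‖ = (Module.finrank ℂ (Fin n → ℂ) : ℝ) := by
    rw [hnorm, Module.finrank_fin_fun, hn]
  obtain ⟨ω, hω⟩ := (Cfsg.Agent.S0138.result ρ z).1 h1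
  have hcomm : ∀ h : S, z * h * z⁻¹ * h⁻¹ ∈ MonoidHom.ker ρ := by
    intro h
    rw [MonoidHom.mem_ker]
    have h2 : ρ (z * h) = ρ (h * z) := by
      rw [map_mul, map_mul, hω]
      ext v
      simp
    have h3 : z * h * z⁻¹ * h⁻¹ = (z * h) * (h * z)⁻¹ := by group
    rw [h3, map_mul, h2, ← map_mul, mul_inv_cancel, map_one]
  have hLn : (MonoidHom.ker ρ).Normal := MonoidHom.normal_ker ρ
  rcases hLn.eq_bot_or_eq_top with hL | hL
  · have hzc : z ∈ Subgroup.center S := by
      rw [Subgroup.mem_center_iff]
      intro g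
      have h1 := hcomm g
      rw [hL, Subgroup.mem_bot] at h1
      have h2 : z * g = g * z := by
        have := congrArg (fun x => x * g * z) h1
        simpa [mul_assoc] using this
      exact h2.symm
    rcases (Subgroup.normal_of_characteristic (Subgroup.center S)).eq_bot_or_eq_top with hc | hc
    · rw [hc, Subgroup.mem_bot] at hzc
      exact hz1 hzc
    · obtain ⟨a, b, hab⟩ := hnc
      apply hab
      have ha : a ∈ Subgroup.center S := by rw [hc]; trivial
      rw [Subgroup.mem_center_iff] at ha
      exact (ha b).symm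
  · have hconst : ∀ g : S, ρ.character g = (n : ℂ) := by
      intro g
      have : g ∈ MonoidHom.ker ρ := by rw [hL]; trivial
      rw [MonoidHom.mem_ker] at this
      have h2 := (Cfsg.Agent.S0139.result ρ g).2 this
      rw [h2, Module.finrank_fin_fun]
    rw [classInner_def] at hself
    simp only [hconst] at hself
    rw [Finset.sum_const, Finset.card_univ, nsmul_eq_mul, Nat.card_eq_fintype_card] at hself
    have hG0 : (Fintype.card S : ℂ) ≠ 0 := Nat.cast_ne_zero.mpr Fintype.card_pos.ne'
    rw [Complex.conj_natCast, ← mul_assoc, inv_mul_cancel₀ hG0, one_mul] at hself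
    have hn1 : n = 1 := by
      have : n * n = 1 := by exact_mod_cast hself
      exact Nat.eq_one_of_mul_eq_one_right this
    apply hχ1
    funext g
    rw [hconst g, hn1, Nat.cast_one]

/-- Nontrivial irreducible characters of a nonabelian simple group are faithful. -/
theorem simple_faithful (hnc : ∃ a b : S, a * b ≠ b * a)
    {χ : S → ℂ} (hχ : IsIrrCharacter S χ) (hχ1 : χ ≠ fun _ => 1) {z : S} (hz : χ z = χ 1) :
    z = 1 := by
  by_contra hz1
  obtain ⟨hc, -⟩ := irr_apply_one_eq_charDegree hχ
  apply simple_norm_ne hnc hχ hχ1 hz1 _ hc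
  rw [hz, hc]
  simp

/-- A linear character of a nonabelian simple group is trivial. -/
theorem simple_linear_trivial (hnc : ∃ a b : S, a * b ≠ b * a)
    {χ : S → ℂ} (hχ : IsIrrCharacter S χ) (h1 : χ 1 = 1) : χ = fun _ => 1 := by
  obtain ⟨lam, rfl⟩ := exists_hom_of_isIrrCharacter hχ h1
  have hLn : (MonoidHom.ker lam).Normal := MonoidHom.normal_ker lam
  rcases hLn.eq_bot_or_eq_top with hL | hL
  · exfalso
    obtain ⟨a, b, hab⟩ := hnc
    apply hab
    have hinj : Function.Injective lam := (MonoidHom.ker_eq_bot_iff lam).1 hL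
    apply hinj
    rw [map_mul, map_mul, mul_comm]
  · funext g
    have : g ∈ MonoidHom.ker lam := by rw [hL]; trivial
    rw [MonoidHom.mem_ker] at this
    rw [this, Units.val_one]

end Simple

end Cfsg.Agent.Lib.Helper8.PD
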