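import Mathlib
import Cfsg.Agent.Lib.Helper8.PD1

/-!
# Prime degrees in simple groups: the Sylow subgroup for a prime degree has prime order
-/

set_option autoImplicit false
set_option linter.unusedSectionVars false
set_option maxHeartbeats 800000

namespace Cfsg.Agent.Lib.Helper8.PD

open Cfsg Cfsg.Agent.Lib.Helper1 Cfsg.Agent.Lib.Helper4 Cfsg.Agent.Lib.Helper8
open scoped ComplexConjugate

universe u

section Simple

variable {S : Type u} [Group S] [Fintype S] [IsSimpleGroup S]

/-- A character of prime degree `q` of a nonabelian simple group vanishes at the nontrivial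
elements of the centre of a Sylow `q`-subgroup. -/
theorem vanish_center_sylow (hnc : ∃ a b : S, a * b ≠ b * a) (q : ℕ) [hq : Fact q.Prime]
    (P : Sylow q S) {χ : S → ℂ} (hχ : IsIrrCharacter S χ) (hχq : χ 1 = q) {z : S}
    (hzc : ∀ y ∈ (P : Subgroup S), z * y = y * z) (hz1 : z ≠ 1) : χ z = 0 := by
  have hqp : q.Prime := hq.out
  have hχ1 : χ ≠ fun _ => 1 := by
    intro h
    have := congrFun h 1
    rw [hχq] at this
    have h2 : q = 1 := by exact_mod_cast this
    exact hqp.one_lt.ne' h2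
  have hle : (P : Subgroup S) ≤ Subgroup.centralizer ({z} : Set S) := by
    intro y hy
    rw [Subgroup.mem_centralizer_iff]
    intro h hh
    rw [Set.mem_singleton_iff] at hh
    rw [hh]
    exact hzc y hy
  have hdvd : (Subgroup.centralizer ({z} : Set S)).index ∣ (P : Subgroup S).index :=
    Subgroup.index_dvd_of_le hle
  have hnd : ¬ q ∣ (Subgroup.centralizer ({z} : Set S)).index := fun h =>
    P.not_dvd_index (h.trans hdvd)
  have hcop : Nat.Coprime (Subgroup.centralizer ({z} : Set S)).index q :=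
    ((Nat.Prime.coprime_iff_not_dvd hqp).2 hnd).symm
  obtain ⟨a, b, hab⟩ := (Nat.Coprime.isCoprime hcop)
  have hint : IsIntegral ℤ (χ z / (q : ℂ)) := by
    have h1 : χ z / (q : ℂ) = (a : ℂ) * centralChar χ z + (b : ℂ) * χ z := by
      have hq0 : (q : ℂ) ≠ 0 := Nat.cast_ne_zero.2 hqp.ne_zero
      have hab' : (a : ℂ) * ((Subgroup.centralizer ({z} : Set S)).index : ℂ) + (b : ℂ) * (q : ℂ)
          = 1 := by exact_mod_cast hab
      unfold centralChar
      rw [hχq]
      have h2 : χ z / (q : ℂ) = χ z * ((a : ℂ) * ((Subgroup.centralizer ({z} : Set S)).index : ℂ)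
          + (b : ℂ) * (q : ℂ)) / (q : ℂ) := by rw [hab', mul_one]
      rw [h2]
      field_simp
    rw [h1]
    exact IsIntegral.add (IsIntegral.mul isIntegral_algebraMap (isIntegral_centralChar hχ z))
      (IsIntegral.mul isIntegral_algebraMap (isIntegral_char_apply (isCharacter_of_irr hχ) z))
  rcases character_eq_zero_or_norm_eq (isCharacter_of_irr hχ) z q hχq hqp.ne_zero hint with h | h
  · exact h
  · exact absurd h (simple_norm_ne hnc hχ hχ1 hz1 q hχq)

/-- In a nonabelian simple group with an irreducible character of prime degree `q` the Sylow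
`q`-subgroups have order `q`. -/
theorem card_sub_of_degree (hnc : ∃ a b : S, a * b ≠ b * a) (q : ℕ) [hq : Fact q.Prime]
    (Q : Subgroup S) (hQ : IsPGroup q Q) (hqQ : q ∣ Nat.card Q)
    {χ : S → ℂ} (hχ : IsIrrCharacter S χ) (hχq : χ 1 = q)
    (hvanish : ∀ z : S, (∀ y ∈ Q, z * y = y * z) → z ≠ 1 → χ z = 0) : Nat.card Q = q := by
  classical
  have hqp : q.Prime := hq.out
  haveI : Fintype (IrrCharacter Q) := Fintype.ofFinite _
  have hχ1 : χ ≠ fun _ => 1 := by
    intro h
    have := congrFun h 1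
    rw [hχq] at this
    have h2 : q = 1 := by exact_mod_cast this
    exact hqp.one_lt.ne' h2
  obtain ⟨a, ha⟩ : ∃ a, Nat.card Q = q ^ a := (IsPGroup.iff_card.1 hQ)
  have ha0 : a ≠ 0 := by
    intro h0
    rw [h0, pow_zero] at ha
    rw [ha] at hqQ
    exact hqp.one_lt.ne' (Nat.dvd_one.1 hqQ)
  set χ' : IrrCharacter S := ⟨χ, hχ⟩ with hχ'
  set m : IrrCharacter Q → ℕ := fun ξ => d1m Q χ' ξ with hm
  have hexp : ∀ c : Q, χ c = ∑ ξ, (m ξ : ℂ) * (ξ : Q → ℂ) c :=
    d1_restrict_expansion Q χ'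
  have hdeg : ∀ ξ : IrrCharacter Q,
      (ξ : Q → ℂ) 1 = charDegree (ξ : Q → ℂ) ∧
        0 < charDegree (ξ : Q → ℂ) := fun ξ => irr_apply_one_eq_charDegree ξ.2
  have hsum : ∑ ξ, m ξ * charDegree (ξ : Q → ℂ) = q := by
    have h1 := hexp 1
    rw [Subgroup.coe_one, hχq] at h1
    have h2 : ((q : ℕ) : ℂ) = ((∑ ξ, m ξ * charDegree (ξ : Q → ℂ) : ℕ) : ℂ) := by
      rw [h1]
      push_cast
      refine Finset.sum_congr rfl fun ξ _ => ?_
      rw [(hdeg ξ).1]
    exact_mod_cast h2.symm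
  have hpow : ∀ ξ : IrrCharacter Q,
      ∃ j, charDegree (ξ : Q → ℂ) = q ^ j := by
    intro ξ
    have h1 : charDegree (ξ : Q → ℂ) ∣ Nat.card Q :=
      charDegree_dvd_card ξ.2
    rw [ha] at h1
    obtain ⟨j, -, hj⟩ := (Nat.dvd_prime_pow hqp).1 h1
    exact ⟨j, hj⟩
  by_cases hA : ∃ ξ₀, m ξ₀ ≠ 0 ∧ charDegree (ξ₀ : Q → ℂ) ≠ 1
  · exfalso
    obtain ⟨ξ₀, hm0, hd1⟩ := hA
    obtain ⟨j, hj⟩ := hpow ξ₀
    have hj0 : j ≠ 0 := by
      rintro rfl
      exact hd1 (by rw [hj, pow_zero])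
    have hqd : q ∣ charDegree (ξ₀ : Q → ℂ) := by
      rw [hj]
      exact dvd_pow_self q hj0
    have hle : m ξ₀ * charDegree (ξ₀ : Q → ℂ) ≤ q := by
      rw [← hsum]
      exact Finset.single_le_sum (f := fun ξ => m ξ * charDegree (ξ : Q → ℂ))
        (fun _ _ => Nat.zero_le _) (Finset.mem_univ ξ₀)
    have hdq : charDegree (ξ₀ : Q → ℂ) = q := by
      have h1 : q ≤ charDegree (ξ₀ : Q → ℂ) := Nat.le_of_dvd (hdeg ξ₀).2 hqd
      have h2 : charDegree (ξ₀ : Q → ℂ) ≤
          m ξ₀ * charDegree (ξ₀ : Q → ℂ) :=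
        Nat.le_mul_of_pos_left _ (Nat.pos_of_ne_zero hm0)
      omega
    have hm1 : m ξ₀ = 1 := by
      rw [hdq] at hle
      have h1 : m ξ₀ ≤ 1 := by
        by_contra hcon
        push Not at hcon
        have h2 : 2 * q ≤ m ξ₀ * q := Nat.mul_le_mul_right q hcon
        have := hqp.pos
        omega
      have := Nat.pos_of_ne_zero hm0
      omega
    have hothers : ∀ ξ, ξ ≠ ξ₀ → m ξ = 0 := by
      intro ξ hξ
      by_contra hne
      have h2 : ∑ η ∈ ({ξ₀, ξ} : Finset (IrrCharacter Q)),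
          m η * charDegree (η : Q → ℂ) ≤
          ∑ η, m η * charDegree (η : Q → ℂ) :=
        Finset.sum_le_sum_of_subset (Finset.subset_univ _)
      rw [Finset.sum_pair hξ.symm, hsum, hm1, hdq] at h2
      have h3 : 0 < m ξ * charDegree (ξ : Q → ℂ) :=
        Nat.mul_pos (Nat.pos_of_ne_zero hne) (hdeg ξ).2
      omega
    haveI : Nontrivial Q := by
      rw [← Finite.one_lt_card_iff_nontrivial, ha]
      exact Nat.one_lt_pow ha0 hqp.one_lt
    haveI := IsPGroup.center_nontrivial hQ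
    obtain ⟨⟨z, hz⟩, hz1⟩ := exists_ne (1 : Subgroup.center Q)
    have hzc : ∀ c : Q, z * c = c * z := fun c =>
      (Subgroup.mem_center_iff.1 hz c).symm
    have hz1' : z ≠ 1 := fun h => hz1 (Subtype.ext h)
    have hv : χ (z : S) = 0 := hvanish (z : S)
      (fun y hy => congrArg Subtype.val (hzc ⟨y, hy⟩))
      (fun h => hz1' (Subtype.ext h))
    have h1 := hexp z
    rw [hv, Finset.sum_eq_single ξ₀ (fun ξ _ hξ => by rw [hothers ξ hξ]; simp)
      (fun h => absurd (Finset.mem_univ _) h), hm1] at h1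
    have h2 := d1om_mul hzc ξ₀ 1
    rw [mul_one] at h2
    have h3 : (ξ₀ : Q → ℂ) z ≠ 0 := by
      rw [h2]
      exact mul_ne_zero (d1om_ne_zero hzc ξ₀) (irr_apply_one_ne_zero ξ₀.2)
    apply h3
    simpa using h1.symm
  · push Not at hA
    have hab : ∀ x y : Q, x * y = y * x := by
      intro x y
      have h1 := hexp (x * y * x⁻¹ * y⁻¹)
      have h2 : ∀ ξ : IrrCharacter Q,
          (m ξ : ℂ) * (ξ : Q → ℂ) (x * y * x⁻¹ * y⁻¹) =
            (m ξ : ℂ) * (ξ : Q → ℂ) 1 := by
        intro ξ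
        by_cases hm0 : m ξ = 0
        · rw [hm0]; simp
        · have hd := hA ξ hm0
          have hξ1 : (ξ : Q → ℂ) 1 = 1 := by
            rw [(hdeg ξ).1, hd, Nat.cast_one]
          obtain ⟨lam, hlam⟩ := exists_hom_of_isIrrCharacter ξ.2 hξ1
          rw [hlam]
          have h3 : lam (x * y * x⁻¹ * y⁻¹) = 1 := by
            rw [map_mul, map_mul, map_mul, map_inv, map_inv, mul_comm (lam x) (lam y),
              mul_inv_cancel_right, mul_inv_cancel]
          simp only [h3, map_one]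
      rw [Finset.sum_congr rfl (fun ξ _ => h2 ξ), ← hexp 1] at h1
      have h3 : ((x * y * x⁻¹ * y⁻¹ : Q) : S) = 1 := by
        apply simple_faithful hnc hχ hχ1
        rw [h1]
        simp
      have h4 : x * y * x⁻¹ * y⁻¹ = 1 := Subtype.ext h3
      calc x * y = (x * y * x⁻¹ * y⁻¹) * (y * x) := by group
        _ = y * x := by rw [h4, one_mul]
    have hvan : ∀ c : Q, c ≠ 1 → χ (c : S) = 0 := by
      intro c hc
      exact hvanish (c : S)
        (fun y hy => congrArg Subtype.val (hab c ⟨y, hy⟩)) (fun h => hc (Subtype.ext h))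
    have hmt := d1m_spec Q χ' (trivIrr Q)
    rw [classInner_def] at hmt
    have hs : ∑ g : Q, (χ' : S → ℂ) g *
        conj ((trivIrr Q : Q → ℂ) g) = (q : ℂ) := by
      rw [Finset.sum_eq_single (1 : Q)]
      · rw [trivIrr_apply, map_one, mul_one, Subgroup.coe_one]
        exact hχq
      · intro c _ hc
        have : (χ' : S → ℂ) c = 0 := hvan c hc
        rw [this, zero_mul]
      · intro h
        exact absurd (Finset.mem_univ _) h
    rw [hs, ha] at hmt
    have hq0 : ((q ^ a : ℕ) : ℂ) ≠ 0 := Nat.cast_ne_zero.2 (pow_pos hqp.pos a).ne'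
    have h5 : q = d1m Q χ' (trivIrr Q) * q ^ a := by
      have h6 : (q : ℂ) = (d1m Q χ' (trivIrr Q) : ℂ) *
          ((q ^ a : ℕ) : ℂ) := by
        rw [← hmt]
        field_simp
      exact_mod_cast h6
    have h7 : q ^ a ∣ q := ⟨_, by rw [mul_comm]; exact h5⟩
    have h8 : a ≤ 1 := by
      have h9 : q ^ a ∣ q ^ 1 := by rwa [pow_one]
      exact (Nat.pow_dvd_pow_iff_le_right hqp.one_lt).1 h9
    have h10 : a = 1 := by omega
    rw [ha, h10, pow_one]

/-- In a nonabelian simple group with an irreducible character of prime degree `q` the Sylow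
`q`-subgroups have order `q`. -/
theorem card_sylow_of_degree (hnc : ∃ a b : S, a * b ≠ b * a) (q : ℕ) [hq : Fact q.Prime]
    (P : Sylow q S) {χ : S → ℂ} (hχ : IsIrrCharacter S χ) (hχq : χ 1 = q) :
    Nat.card (P : Subgroup S) = q := by
  have hqS : q ∣ Nat.card S := by
    obtain ⟨hc, -⟩ := irr_apply_one_eq_charDegree hχ
    have h1 := charDegree_dvd_card hχ
    have h2 : charDegree χ = q := by
      rw [hχq] at hc
      exact_mod_cast hc.symm
    rwa [h2] at h1
  exact card_sub_of_degree hnc q (P : Subgroup S) P.isPGroup' (P.dvd_card_of_dvd_card hqS) hχ hχq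
    (fun z hzc hz1 => vanish_center_sylow hnc q P hχ hχq hzc hz1)

end Simple

end Cfsg.Agent.Lib.Helper8.PD
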