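import Mathlib
import Cfsg.Agent.Lib.Helper8.PD2
import Cfsg.Agent.Lib.Helper8.PSol1

/-!
# Prime degrees: nonabelian simple groups are excluded, hence solvability
-/

set_option autoImplicit false
set_option linter.unusedSectionVars false
set_option maxHeartbeats 800000

namespace Cfsg.Agent.Lib.Helper8.PD

open Cfsg Cfsg.Agent.Lib.Helper1 Cfsg.Agent.Lib.Helper4 Cfsg.Agent.Lib.Helper8
open scoped ComplexConjugate

universe u

/-- A nonabelian simple group has an irreducible character whose degree is neither `1` nor a
prime. -/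
theorem PD.false_of_simple {S : Type u} [Group S] [Fintype S] [IsSimpleGroup S]
    (hnc : ∃ a b : S, a * b ≠ b * a) (h : PD S) : False := by
  classical
  obtain ⟨χ₁, hχ₁⟩ := exists_irr_ne_one (G := S)
  haveI : Nonempty (IrrCharacter S) := ⟨χ₁⟩
  obtain ⟨χ₀, hmax⟩ := Finite.exists_max (fun χ : IrrCharacter S => charDegree (χ : S → ℂ))
  set q := charDegree (χ₀ : S → ℂ) with hq
  have hdeg : ∀ χ : IrrCharacter S, (χ : S → ℂ) 1 = charDegree (χ : S → ℂ) :=
    fun χ => (irr_apply_one_eq_charDegree χ.2).1
  have hnl : ∀ χ : IrrCharacter S, (χ : S → ℂ) ≠ (fun _ => 1) →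
      (charDegree (χ : S → ℂ)).Prime := by
    intro χ hχ
    rcases h _ χ.2 _ (hdeg χ) with h1 | h1
    · exfalso
      apply hχ
      apply simple_linear_trivial hnc χ.2
      rw [hdeg χ, h1, Nat.cast_one]
    · exact h1
  have hq1 : (charDegree (χ₁ : S → ℂ)).Prime := hnl χ₁ hχ₁
  have hq2 : 2 ≤ q := le_trans hq1.two_le (hmax χ₁)
  have hχ₀ : (χ₀ : S → ℂ) ≠ fun _ => 1 := by
    intro h0
    have h1 : ((q : ℕ) : ℂ) = 1 := by rw [hq, ← hdeg χ₀, congrFun h0 1]
    have h2 : q = 1 := by exact_mod_cast h1
    omega
  have hqp : q.Prime := hnl χ₀ hχ₀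
  haveI : Fact q.Prime := ⟨hqp⟩
  obtain ⟨P⟩ : Nonempty (Sylow q S) := inferInstance
  have hP : Nat.card (P : Subgroup S) = q := card_sylow_of_degree hnc q P χ₀.2 (hdeg χ₀)
  obtain ⟨x, hx, hPx, hsq⟩ := d1_sylow_data q P hP
  obtain ⟨M, hM⟩ := exists_isPModular q
  obtain ⟨-, X, Y, -, -, hX, -, εX, ε, hXprop, -⟩ := d1_principal q M hM (P : Subgroup S) x hx hPx
    hsq _ rfl
  -- Burnside: e ≥ 2
  have he2 : 2 ≤ (Subgroup.centralizer ((P : Subgroup S) : Set S)).relIndex
      (Subgroup.normalizer ((P : Subgroup S) : Set S)) := by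
    by_contra hcon
    have he0 : (Subgroup.centralizer ((P : Subgroup S) : Set S)).relIndex
        (Subgroup.normalizer ((P : Subgroup S) : Set S)) ≠ 0 :=
      Subgroup.index_ne_zero_of_finite
    have he1 : (Subgroup.centralizer ((P : Subgroup S) : Set S)).relIndex
        (Subgroup.normalizer ((P : Subgroup S) : Set S)) = 1 := by omega
    have hNC : Subgroup.normalizer ((P : Subgroup S) : Set S) ≤
        Subgroup.centralizer ((P : Subgroup S) : Set S) := Subgroup.relIndex_eq_one.1 he1
    have hcompl := MonoidHom.ker_transferSylow_isComplement' P hNC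
    have hcard := hcompl.card_mul_card
    have hKn : (MonoidHom.transferSylow P hNC).ker.Normal := MonoidHom.normal_ker _
    rcases hKn.eq_bot_or_eq_top with hK | hK
    · rw [hK, Subgroup.card_bot, one_mul] at hcard
      have hPtop : (P : Subgroup S) = ⊤ := Subgroup.eq_top_of_card_eq _ hcard
      obtain ⟨a, b, hab⟩ := hnc
      apply hab
      have ha : a ∈ Subgroup.zpowers x := by rw [← hPx, hPtop]; trivial
      have hb : b ∈ Subgroup.zpowers x := by rw [← hPx, hPtop]; trivial
      obtain ⟨i, rfl⟩ := Subgroup.mem_zpowers_iff.1 ha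
      obtain ⟨j, rfl⟩ := Subgroup.mem_zpowers_iff.1 hb
      exact (Commute.zpow_zpow_self x i j)
    · rw [hK, Subgroup.card_top] at hcard
      have hS0 : 0 < Nat.card S := Nat.card_pos
      have hP1 : Nat.card (P : Subgroup S) = 1 := by
        have : Nat.card S * Nat.card (P : Subgroup S) = Nat.card S * 1 := by rw [hcard, mul_one]
        exact Nat.eq_of_mul_eq_mul_left hS0 this
      omega
  -- a nontrivial member of X
  have hex : ∃ χ ∈ X, (χ : S → ℂ) ≠ fun _ => 1 := by
    by_contra hcon
    push Not at hcon
    have hsub : X.Subsingleton := fun a ha b hb => Subtype.ext ((hcon a ha).trans (hcon b hb).symm)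
    have h1 : Nat.card X ≤ 1 := by
      rw [Nat.card_coe_set_eq]
      exact Set.ncard_le_one_iff_subsingleton.2 hsub
    omega
  obtain ⟨χ, hχX, hχne⟩ := hex
  obtain ⟨hε, hcong, -⟩ := hXprop χ hχX
  have hrp : (charDegree (χ : S → ℂ)).Prime := hnl χ hχne
  have hrq : charDegree (χ : S → ℂ) ≤ q := hmax χ
  set r := charDegree (χ : S → ℂ) with hr
  have hr2 := hrp.two_le
  rcases hε with h1 | h1
  · rw [h1] at hcong
    have h2 : (q : ℤ) ∣ (r : ℤ) - 1 := (Int.modEq_iff_dvd.1 hcong.symm)
    have h3 := Int.le_of_dvd (by omega) h2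
    omega
  · rw [h1] at hcong
    have h2 : (q : ℤ) ∣ (r : ℤ) + 1 := by
      have := Int.modEq_iff_dvd.1 hcong
      have h3 : (r : ℤ) + 1 = -(-1 - (r : ℤ)) := by ring
      rw [h3]
      exact (dvd_neg).2 this
    obtain ⟨k, hk⟩ := h2
    have hk1 : k = 1 := by
      have hkpos : 0 < k := by
        by_contra hcon
        push Not at hcon
        have : (q : ℤ) * k ≤ 0 := mul_nonpos_of_nonneg_of_nonpos (by positivity) hcon
        omega
      by_contra hne
      have hk2 : 2 ≤ k := by omega
      have : (q : ℤ) * 2 ≤ (q : ℤ) * k := mul_le_mul_of_nonneg_left hk2 (by positivity)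
      omega
    rw [hk1, mul_one] at hk
    have hrq' : r + 1 = q := by exact_mod_cast hk
    have hr2' : r = 2 := by
      rcases hrp.eq_two_or_odd with h | h
      · exact h
      · exfalso
        rcases hqp.eq_two_or_odd with h' | h' <;> omega
    have hq3 : q = 3 := by omega
    have h3 : DH.H3 S 2 3 := by
      intro ψ hψ
      by_cases hψ1 : ψ = fun _ => 1
      · left
        rw [hψ1]
      · have hp := hnl ⟨ψ, hψ⟩ hψ1
        have hle := hmax ⟨ψ, hψ⟩
        have hd := hdeg ⟨ψ, hψ⟩
        simp only at hp hle hd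
        have h23 : charDegree ψ = 2 ∨ charDegree ψ = 3 := by
          have h2 := hp.two_le
          omega
        rcases h23 with h | h
        · right; left
          rw [hd, h]
        · right; right
          rw [hd, h]
    have hsolv := DH.solvable_of_H3 (Nat.card S) S rfl 2 3 h3
    obtain ⟨a, b, hab⟩ := hnc
    exact hab (IsSimpleGroup.comm_iff_isSolvable.2 hsolv a b)

/-- A finite group all of whose nonlinear irreducible characters have prime degree is
solvable. -/
theorem PD.solvable : ∀ (c : ℕ) (G : Type u) [Group G] [Finite G], Nat.card G = c → PD G →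
    Group.IsSolvable G := by
  intro c
  induction c using Nat.strong_induction_on with
  | _ c ih =>
    intro G _ _ hc h
    classical
    by_cases hsub : Subsingleton G
    · exact Group.isSolvable_of_comm (fun a b => by rw [Subsingleton.elim a 1, Subsingleton.elim b 1])
    · haveI : Nontrivial G := not_subsingleton_iff_nontrivial.1 hsub
      by_cases hN : ∃ N : Subgroup G, N.Normal ∧ N ≠ ⊥ ∧ N ≠ ⊤
      · obtain ⟨N, hNn, hNb, hNt⟩ := hN
        haveI := hNn
        have h1 : Nat.card N < c := by
          rw [← hc]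
          exact lt_of_le_of_ne (Subgroup.card_le_card_group N)
            (fun h => hNt ((Subgroup.card_eq_iff_eq_top N).1 h))
        have h2 : Nat.card (G ⧸ N) < c := by
          rw [← hc, ← Subgroup.index_eq_card, ← Subgroup.index_mul_card N]
          have h3 : 1 < Nat.card N := (Subgroup.one_lt_card_iff_ne_bot N).2 hNb
          have h4 : 0 < N.index := Nat.pos_of_ne_zero Subgroup.index_ne_zero_of_finite
          nlinarith
        haveI := ih _ h1 N rfl (h.normal N)
        haveI := ih _ h2 (G ⧸ N) rfl (h.quotient N)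
        exact Group.isSolvable_of_ker_le_range N.subtype (QuotientGroup.mk' N) (by simp)
      · push Not at hN
        haveI : IsSimpleGroup G :=
          { toNontrivial := inferInstance
            eq_bot_or_eq_top_of_normal := fun N hN' => by
              by_contra hcon
              push Not at hcon
              exact hcon.2 (hN N hN' hcon.1) }
        by_cases hab : ∀ a b : G, a * b = b * a
        · exact Group.isSolvable_of_comm hab
        · exfalso
          push Not at hab
          haveI := Fintype.ofFinite G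
          exact h.false_of_simple hab

end Cfsg.Agent.Lib.Helper8.PD
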