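import Mathlib

set_option autoImplicit false

/-! A transfer lemma: an invariant linear character of a normal subgroup `N ≤ G'` whose restriction
to `R ∩ N` extends to a linear character of `R` has order dividing `|G : R|`. -/

namespace Cfsg.Agent.Lib.Helper8.RDG

universe u

variable {G : Type u} [Group G] [Finite G] (N : Subgroup G) [hN : N.Normal]

theorem pow_index_eq_one_of_extends (hNG : N ≤ commutator G) (θ : N →* ℂˣ)
    (hinv : ∀ (g : G) (n : N), θ ⟨g * n * g⁻¹, hN.conj_mem n n.2 g⟩ = θ n)
    (R : Subgroup G) (ε : R →* ℂˣ)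
    (hε : ∀ (x : G) (hx : x ∈ R) (hn : x ∈ N), ε ⟨x, hx⟩ = θ ⟨x, hn⟩) (n : N) :
    θ n ^ R.index = 1 := by
  classical
  have : R.FiniteIndex := Subgroup.finiteIndex_of_finite
  haveI : Fintype (Quotient (MulAction.orbitRel (Subgroup.zpowers (n : G)) (G ⧸ R))) :=
    Fintype.ofFinite _
  have h1 : MonoidHom.transfer ε (n : G) = 1 := by
    have h2 : commutator G ≤ (MonoidHom.transfer ε).ker :=
      Abelianization.commutator_subset_ker _
    exact h2 (hNG n.2)
  rw [MonoidHom.transfer_eq_prod_quotient_orbitRel_zpowers_quot] at h1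
  have h3 : ∀ q : Quotient (MulAction.orbitRel (Subgroup.zpowers (n : G)) (G ⧸ R)),
      ε ⟨q.out.out⁻¹ * (n : G) ^ Function.minimalPeriod ((n : G) • ·) q.out * q.out.out,
        QuotientGroup.out_conj_pow_minimalPeriod_mem R (n : G) q.out⟩
      = θ n ^ Function.minimalPeriod ((n : G) • ·) q.out := by
    intro q
    set k := Function.minimalPeriod ((n : G) • ·) q.out with hk
    set y : G := q.out.out with hy
    have hmemN : y⁻¹ * (n : G) ^ k * y ∈ N := by
      have := hN.conj_mem ((n : G) ^ k) (N.pow_mem n.2 k) y⁻¹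
      simpa using this
    rw [hε _ _ hmemN]
    have h4 := hinv y⁻¹ (n ^ k)
    rw [map_pow] at h4
    rw [← h4]
    congr 1
    apply Subtype.ext
    simp
  rw [Finset.prod_congr rfl (fun q _ => h3 q), Finset.prod_pow_eq_pow_sum] at h1
  rw [Subgroup.index_eq_sum_minimalPeriod R (n : G)]
  exact h1

end Cfsg.Agent.Lib.Helper8.RDG
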