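import Mathlib
import Cfsg.Agent.Lib.Helper4.PS4
import Cfsg.Agent.Lib.Helper8.RDG1

set_option autoImplicit false

/-! Degrees of irreducible characters lying over an invariant linear character of a normal subgroup
contained in the commutator subgroup. -/

namespace Cfsg.Agent.Lib.Helper8.RDG

open Cfsg Cfsg.Agent.Lib.Helper1 Cfsg.Agent.Lib.Helper4 Cfsg.Agent.Lib.Helper4.TD
open scoped ComplexConjugate

universe u

variable {G : Type u} [Group G] [Finite G] (N : Subgroup G) [hN : N.Normal]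

omit [Finite G] in
theorem hom_apply_eq_one_of_coprime {A : Type*} [Group A] (μ : A →* ℂˣ) (r : ℕ) (hr : r.Prime)
    (hrμ : ¬ r ∣ orderOf μ) (x : A) (k : ℕ) (hx : x ^ r ^ k = 1) : μ x = 1 := by
  have h1 : (μ x) ^ r ^ k = 1 := by rw [← map_pow, hx, map_one]
  have h2 : (μ x) ^ orderOf μ = 1 := by
    have h3 : (μ ^ orderOf μ) x = (1 : A →* ℂˣ) x := by rw [pow_orderOf_eq_one]
    rwa [MonoidHom.pow_apply, MonoidHom.one_apply] at h3
  have h4 : orderOf (μ x) ∣ Nat.gcd (r ^ k) (orderOf μ) :=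
    Nat.dvd_gcd (orderOf_dvd_of_pow_eq_one h1) (orderOf_dvd_of_pow_eq_one h2)
  have h5 : Nat.Coprime (r ^ k) (orderOf μ) :=
    Nat.Coprime.pow_left k ((Nat.Prime.coprime_iff_not_dvd hr).2 hrμ)
  rw [h5] at h4
  exact orderOf_eq_one_iff.1 (Nat.dvd_one.1 h4)

/-- If `θ` is a `G`-invariant linear character of `N ≤ G'` of order divisible by the prime `r`
and `μ` is a linear character of `N` of order prime to `r`, then every irreducible character of
`G` lying over `θ μ` has degree divisible by `r`. -/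
theorem prime_dvd_degree_of_invariant (hNG : N ≤ commutator G) (θ μ : N →* ℂˣ)
    (hinv : ∀ (g : G) (n : N), θ ⟨g * n * g⁻¹, hN.conj_mem n n.2 g⟩ = θ n) [Fintype N]
    (r : ℕ) [hr : Fact r.Prime] (hrθ : r ∣ orderOf θ) (hrμ : ¬ r ∣ orderOf μ)
    {ξ : G → ℂ} (hξ : Cfsg.IsIrrCharacter G ξ)
    (hover : Cfsg.classInner (fun n : N => ξ n)
      (fun n : N => ((θ n : ℂˣ) : ℂ) * ((μ n : ℂˣ) : ℂ)) ≠ 0)
    (d : ℕ) (hd : ξ 1 = d) : r ∣ d := by
  classical
  haveI : Fintype G := Fintype.ofFinite G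
  by_contra hrd
  obtain ⟨R⟩ : Nonempty (Sylow r G) := inferInstance
  haveI : Fintype (R : Subgroup G) := Fintype.ofFinite _
  obtain ⟨ε, m, hm, hin⟩ := Cfsg.Agent.Lib.Helper4.PS.exists_linear_constituent r (R : Subgroup G)
    R.2 (isCharacter_of_irr hξ) d hd hrd
  -- the restriction of ξ to N
  set ν : N → ℂ := fun n : N => ((θ n : ℂˣ) : ℂ) * ((μ n : ℂˣ) : ℂ) with hν
  have hνirr : Cfsg.IsIrrCharacter N ν := by
    have := isIrrCharacter_of_hom (θ * μ)
    convert this using 2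
    rename_i n
    simp [hν]
  have hcl := Cfsg.Agent.S0174.result N hN ξ hξ ν hνirr hover
  set S : Set (N → ℂ) := {ψ : N → ℂ | ∃ g : G, ψ = fun n : N => ν ⟨g * n * g⁻¹, hN.conj_mem n n.2 g⟩}
    with hS
  have hSfin : S.Finite := by
    have : S = Set.range (fun g : G => fun n : N => ν ⟨g * n * g⁻¹, hN.conj_mem n n.2 g⟩) := by
      ext ψ
      simp only [hS, Set.mem_ofPred_eq, Set.mem_range]
      constructor
      · rintro ⟨g, rfl⟩; exact ⟨g, rfl⟩
      · rintro ⟨g, rfl⟩; exact ⟨g, rfl⟩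
    rw [this]
    exact Set.finite_range _
  -- values on r-elements of N
  have hval : ∀ x : N, (∃ k : ℕ, x ^ r ^ k = 1) → ξ x = (d : ℂ) * ((θ x : ℂˣ) : ℂ) := by
    intro x ⟨k, hk⟩
    have h1 : ∀ ψ ∈ S, ψ x = ((θ x : ℂˣ) : ℂ) * ψ 1 := by
      rintro ψ ⟨g, rfl⟩
      show ν _ = ((θ x : ℂˣ) : ℂ) * ν _
      simp only [hν]
      have e1 : μ ⟨g * x * g⁻¹, hN.conj_mem x x.2 g⟩ = 1 := by
        apply hom_apply_eq_one_of_coprime μ r hr.out hrμ _ k
        apply Subtype.ext
        have : (x : G) ^ r ^ k = 1 := by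
          have := congrArg (Subtype.val) hk
          simpa using this
        simp [conj_pow, this]
      have e2 : (⟨g * ((1 : N) : G) * g⁻¹, hN.conj_mem _ (1 : N).2 g⟩ : N) = 1 := by
        apply Subtype.ext
        simp
      rw [e1, hinv g x, e2]
      simp
    have h2 : (∑ᶠ ψ ∈ S, ψ) x = ((θ x : ℂˣ) : ℂ) * (∑ᶠ ψ ∈ S, ψ) 1 := by
      have e1 := AddMonoidHom.map_finsum_mem (fun ψ : N → ℂ => ψ)
        (Pi.evalAddMonoidHom (fun _ : N => ℂ) x) hSfin
      have e2 := AddMonoidHom.map_finsum_mem (fun ψ : N → ℂ => ψ)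
        (Pi.evalAddMonoidHom (fun _ : N => ℂ) 1) hSfin
      simp only [Pi.evalAddMonoidHom_apply] at e1 e2
      rw [e1, e2, mul_finsum_mem]
      exact finsum_mem_congr rfl h1
    have h3 := congrFun hcl x
    have h4 := congrFun hcl 1
    simp only [Pi.smul_apply, smul_eq_mul] at h3 h4
    rw [h3, h2, ← mul_assoc, mul_comm _ ((θ x : ℂˣ) : ℂ), mul_assoc, ← h4]
    show _ = _
    rw [Subgroup.coe_one, hd, mul_comm]
  -- ε agrees with θ on R ∩ N
  have hεθ : ∀ (x : G) (hx : x ∈ (R : Subgroup G)) (hn : x ∈ N), ε ⟨x, hx⟩ = θ ⟨x, hn⟩ := by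
    intro x hx hn
    have hres : Cfsg.IsCharacter (R : Subgroup G) (fun y : (R : Subgroup G) => ξ y) :=
      Cfsg.Agent.S0148.isCharacter_restrict _ (isCharacter_of_irr hξ)
    have hεirr : Cfsg.IsIrrCharacter (R : Subgroup G)
        (fun y : (R : Subgroup G) => ((ε y : ℂˣ) : ℂ)) := isIrrCharacter_of_hom ε
    have hσ := isCharacter_sub_irr hres hεirr hm hin
    have hpow : ∃ k : ℕ, (⟨x, hn⟩ : N) ^ r ^ k = 1 := by
      obtain ⟨k, hk⟩ := R.2 ⟨x, hx⟩
      refine ⟨k, ?_⟩
      apply Subtype.ext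
      have := congrArg Subtype.val hk
      simpa using this
    have h1 := hval ⟨x, hn⟩ hpow
    have h2 := isCharacter_norm_le hσ ⟨x, hx⟩
    simp only [Pi.sub_apply] at h2
    have h3 : ((fun y : (R : Subgroup G) => ξ y) 1 - ((ε 1 : ℂˣ) : ℂ)).re = (d : ℝ) - 1 := by
      show (ξ ((1 : (R : Subgroup G)) : G) - ((ε 1 : ℂˣ) : ℂ)).re = _
      rw [Subgroup.coe_one, hd, map_one]
      simp
    rw [h3] at h2
    change ‖ξ x - ((ε ⟨x, hx⟩ : ℂˣ) : ℂ)‖ ≤ (d : ℝ) - 1 at h2
    change ξ x = _ at h1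
    rw [h1] at h2
    -- now complex arithmetic
    set a : ℂ := ((θ ⟨x, hn⟩ : ℂˣ) : ℂ) with ha
    set b : ℂ := ((ε ⟨x, hx⟩ : ℂˣ) : ℂ) with hb
    have hna : ‖a‖ = 1 := norm_hom_apply θ ⟨x, hn⟩
    have hnb : ‖b‖ = 1 := norm_hom_apply ε ⟨x, hx⟩
    have hab : a = b := by
      have h5 : ‖(d : ℂ) * a - b‖ ≤ (d : ℝ) - 1 := h2
      have h6 : ‖(d : ℂ) - b * conj a‖ ≤ (d : ℝ) - 1 := by
        have : (d : ℂ) - b * conj a = ((d : ℂ) * a - b) * conj a := by
          have haa : a * conj a = 1 := by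
            rw [Complex.mul_conj, Complex.normSq_eq_norm_sq, hna]; simp
          calc (d : ℂ) - b * conj a = (d : ℂ) * (a * conj a) - b * conj a := by rw [haa, mul_one]
            _ = _ := by ring
        rw [this, norm_mul, Complex.norm_conj, hna, mul_one]
        exact h5
      set z : ℂ := b * conj a with hz
      have hnz : ‖z‖ = 1 := by rw [hz, norm_mul, Complex.norm_conj, hna, hnb, mul_one]
      have h7 : (d : ℝ) - z.re ≤ (d : ℝ) - 1 := by
        have := (Complex.re_le_norm ((d : ℂ) - z)).trans h6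
        simpa using this
      have h8 : z.re ≤ 1 := (Complex.re_le_norm z).trans hnz.le
      have h9 : z.re = 1 := by linarith
      have h10 : z = 1 := by
        have hsq : ‖z‖ ^ 2 = 1 := by rw [hnz]; norm_num
        rw [Complex.sq_norm, Complex.normSq_apply, h9] at hsq
        have him : z.im = 0 := by nlinarith
        exact Complex.ext (by simpa using h9) (by simpa using him)
      have haa : conj a * a = 1 := by
        rw [mul_comm, Complex.mul_conj, Complex.normSq_eq_norm_sq, hna]; simp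
      calc a = 1 * a := (one_mul a).symm
        _ = z * a := by rw [h10]
        _ = b * (conj a * a) := by rw [hz]; ring
        _ = b := by rw [haa, mul_one]
    exact Units.ext hab.symm
  have hT := pow_index_eq_one_of_extends N hNG θ hinv (R : Subgroup G) ε hεθ
  have h1 : θ ^ (R : Subgroup G).index = 1 := by
    ext n
    have := hT n
    simp [this]
  have h2 : orderOf θ ∣ (R : Subgroup G).index := orderOf_dvd_of_pow_eq_one h1
  haveI : (R : Subgroup G).FiniteIndex := Subgroup.finiteIndex_of_finite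
  exact R.not_dvd_index (hrθ.trans h2)

end Cfsg.Agent.Lib.Helper8.RDG
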