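import Mathlib
import Cfsg.Agent.Lib.Helper8.RDG2
import Cfsg.Agent.Lib.Helper8.RDG5

set_option autoImplicit false

/-! Multiplicities of an invariant linear character of order `p` of `N ≤ G'` in restrictions of
characters of `G` are divisible by `p`; consequence for the degrees of characters over `θ μ`. -/

namespace Cfsg.Agent.Lib.Helper8.RDG

open Cfsg Cfsg.Agent.Lib.Helper1 Cfsg.Agent.Lib.Helper4 Cfsg.Agent.Lib.Helper4.TD
open Cfsg.Agent.S0193 Cfsg.Agent.S0194
open scoped ComplexConjugate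

universe u

variable {G : Type u} [Group G] [Finite G] (N : Subgroup G) [hN : N.Normal]

omit [Finite G] in
theorem inertia_eq_top_of_invariant {ν : N → ℂ} (h : ∀ g : G, S0193.conjFun N ν g = ν) :
    inertia N ν = ⊤ := by
  ext g
  simp only [Subgroup.mem_top, iff_true]
  exact h g

omit [Finite G] in
theorem conjFun_lin_of_invariant {μ : N →* ℂˣ} (hinv : ∀ g : G, conjHom N μ g = μ) (g : G) :
    S0193.conjFun N (lin N μ) g = lin N μ := by
  rw [conjFun_lin, hinv]

omit [Finite G] in
theorem hinv_apply {μ : N →* ℂˣ} (hinv : ∀ g : G, conjHom N μ g = μ) (g : G) (n : N) :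
    μ ⟨g * n * g⁻¹, hN.conj_mem n n.2 g⟩ = μ n := by
  rw [← conjHom_apply, hinv]

/-- Over an invariant linear character the multiplicity is the degree. -/
theorem mult_eq_degree_of_invariant [Fintype N] {μ : N →* ℂˣ} (hinv : ∀ g : G, conjHom N μ g = μ)
    {ω : G → ℂ} (hω : Cfsg.IsIrrCharacter G ω)
    (hover : Cfsg.classInner (fun n : N => ω n) (lin N μ) ≠ 0) (c : ℕ) (hc : ω 1 = c) :
    Cfsg.classInner (fun n : N => ω n) (lin N μ) = c := by
  obtain ⟨e, -, he, hce⟩ := clifford_degree N hω (isIrr_lin N μ) hover c 1 hc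
    (by rw [lin_one_apply]; simp)
  rw [inertia_eq_top_of_invariant N (conjFun_lin_of_invariant N hinv), Subgroup.index_top] at hce
  rw [he, hce]
  simp

/-- The multiplicity of an invariant linear character of order divisible by `p` of `N ≤ G'` in the
restriction of any character of `G` is divisible by `p`. -/
theorem prime_dvd_mult_of_invariant [Fintype N] (hNG : N ≤ commutator G) (p : ℕ)
    [hp : Fact p.Prime] {μ : N →* ℂˣ} (hinv : ∀ g : G, conjHom N μ g = μ) (hpμ : p ∣ orderOf μ)
    {ρ : G → ℂ} (hρ : Cfsg.IsCharacter G ρ) :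
    ∃ k : ℕ, Cfsg.classInner (fun n : N => ρ n) (lin N μ) = ((p * k : ℕ) : ℂ) := by
  classical
  haveI : Fintype G := Fintype.ofFinite G
  haveI : Fintype (Cfsg.IrrCharacter G) := Fintype.ofFinite _
  have hexp := class_function_expansion ρ (isClassFunction_of_isCharacter hρ)
  have h1 : (fun n : N => ρ n) = ∑ ω : Cfsg.IrrCharacter G,
      Cfsg.classInner ρ (ω : G → ℂ) • (fun n : N => (ω : G → ℂ) n) := by
    funext n
    have := congrFun hexp n
    simp only [Finset.sum_apply, Pi.smul_apply, smul_eq_mul] at this ⊢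
    exact this
  rw [h1, classInner_sum_left]
  have hterm : ∀ ω : Cfsg.IrrCharacter G, ∃ k : ℕ,
      Cfsg.classInner (Cfsg.classInner ρ (ω : G → ℂ) • (fun n : N => (ω : G → ℂ) n)) (lin N μ)
        = ((p * k : ℕ) : ℂ) := by
    intro ω
    obtain ⟨m, hm⟩ := classInner_char_irr_nat hρ ω.2
    rw [classInner_smul_left, hm]
    by_cases hover : Cfsg.classInner (fun n : N => (ω : G → ℂ) n) (lin N μ) = 0
    · refine ⟨0, ?_⟩
      rw [hover]; simp
    · obtain ⟨c, hc, -, -⟩ := irr_degree ω.2
      rw [mult_eq_degree_of_invariant N hinv ω.2 hover c hc]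
      have hover' : Cfsg.classInner (fun n : N => (ω : G → ℂ) n)
          (fun n : N => ((μ n : ℂˣ) : ℂ) * (((1 : N →* ℂˣ) n : ℂˣ) : ℂ)) ≠ 0 := by
        have : (fun n : N => ((μ n : ℂˣ) : ℂ) * (((1 : N →* ℂˣ) n : ℂˣ) : ℂ)) = lin N μ := by
          funext n; simp [lin]
        rw [this]; exact hover
      have hdvd := prime_dvd_degree_of_invariant N hNG μ 1 (hinv_apply N hinv) p hpμ
        (by rw [orderOf_one]; exact hp.out.one_lt.ne' ∘ Nat.dvd_one.1) ω.2 hover' c hc
      obtain ⟨j, rfl⟩ := hdvd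
      refine ⟨m * j, ?_⟩
      push_cast
      ring
  choose kf hkf using hterm
  refine ⟨∑ ω : Cfsg.IrrCharacter G, kf ω, ?_⟩
  rw [Finset.sum_congr rfl (fun ω _ => hkf ω), Finset.mul_sum]
  push_cast
  rfl

/-- The key consequence: if `μ` is invariant of order `p`, `χ` has degree prime to `p` and lies over
`θ`, then every irreducible character over `θ μ` has degree divisible by `p`. -/
theorem prime_dvd_degree_of_twist [Fintype N] (hNG : N ≤ commutator G) (p : ℕ)
    [hp : Fact p.Prime] {μ : N →* ℂˣ} (hinv : ∀ g : G, conjHom N μ g = μ) (hpμ : p ∣ orderOf μ)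
    {χ ξ : G → ℂ} (hχ : Cfsg.IsIrrCharacter G χ) (hξ : Cfsg.IsIrrCharacter G ξ)
    {θ : N → ℂ} (hθ : Cfsg.IsIrrCharacter N θ)
    (hoverχ : Cfsg.classInner (fun n : N => χ n) θ ≠ 0)
    (hoverξ : Cfsg.classInner (fun n : N => ξ n) (mulF N θ μ) ≠ 0)
    (a b : ℕ) (ha : χ 1 = a) (hpa : ¬ p ∣ a) (hb : ξ 1 = b) : p ∣ b := by
  classical
  haveI : Fintype G := Fintype.ofFinite G
  obtain ⟨d, hd, -, -⟩ := irr_degree hθ
  have hθμ : Cfsg.IsIrrCharacter N (mulF N θ μ) := isIrr_mulF N hθ μ
  have hd' : mulF N θ μ 1 = d := by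
    rw [mulF_apply, hd, map_one, Units.val_one, mul_one]
  obtain ⟨e, he0, he, hae⟩ := clifford_degree N hχ hθ hoverχ a d ha hd
  obtain ⟨e', he'0, he', hbe⟩ := clifford_degree N hξ hθμ hoverξ b d hb hd'
  set s := (inertia N θ).index with hs
  -- the character conj χ * ξ
  have hρ : Cfsg.IsCharacter G (fun g => conj (χ g) * ξ g) :=
    Cfsg.Agent.S4996.isCharacter_mul (isCharacter_of_irr (isIrrCharacter_conj hχ))
      (isCharacter_of_irr hξ)
  obtain ⟨k, hk⟩ := prime_dvd_mult_of_invariant N hNG p hinv hpμ hρ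
  -- compute the multiplicity
  have hcomp : Cfsg.classInner (fun n : N => conj (χ n) * ξ n) (lin N μ)
      = ((e * e' * s : ℕ) : ℂ) := by
    have h1 : Cfsg.classInner (fun n : N => conj (χ n) * ξ n) (lin N μ)
        = Cfsg.classInner (fun n : N => ξ n) (fun n : N => χ n * lin N μ n) := by
      unfold Cfsg.classInner
      congr 1
      refine Finset.sum_congr rfl fun n _ => ?_
      show conj (χ n) * ξ n * conj (lin N μ n) = ξ n * conj (χ n * lin N μ n)
      rw [map_mul]
      ring
    have h2 : (fun n : N => χ n * lin N μ n)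
        = (e : ℂ) • ∑ ψ ∈ orbitFinset N θ, mulF N ψ μ := by
      have h3 := clifford_sum N hχ hθ hoverχ
      rw [he] at h3
      funext n
      have h4 := congrFun h3 n
      simp only [Pi.smul_apply, Finset.sum_apply, smul_eq_mul] at h4 ⊢
      rw [h4, mul_assoc, Finset.sum_mul]
      rfl
    rw [h1, h2, classInner_smul_right, classInner_sum_right]
    have h5 : ∀ ψ ∈ orbitFinset N θ, Cfsg.classInner (fun n : N => ξ n) (mulF N ψ μ) = (e' : ℂ) := by
      intro ψ hψ
      obtain ⟨g, rfl⟩ := (mem_orbitFinset N).1 hψ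
      have h6 : mulF N (S0193.conjFun N θ g) μ = S0193.conjFun N (mulF N θ μ) g := by
        rw [conjFun_mulF, hinv]
      rw [h6, classInner_conjFun N (isClassFunction_irr hξ), he']
    rw [Finset.sum_congr rfl h5, Finset.sum_const, card_orbitFinset]
    simp only [Complex.conj_natCast, nsmul_eq_mul]
    push_cast
    ring
  have hk' : Cfsg.classInner (fun n : N => conj (χ n) * ξ n) (lin N μ) = ((p * k : ℕ) : ℂ) := hk
  rw [hcomp] at hk'
  have h7 : e * e' * s = p * k := by exact_mod_cast hk'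
  have h8 : p ∣ e * e' * s := ⟨k, h7⟩
  have hpe : ¬ p ∣ e := fun h => hpa (by rw [hae]; exact Dvd.dvd.mul_right h _)
  have hps : ¬ p ∣ s := fun h => hpa (by
    rw [hae]; exact Dvd.dvd.mul_left (Dvd.dvd.mul_right h _) _)
  have h9 : p ∣ e' := by
    rcases (Nat.Prime.dvd_mul hp.out).1 h8 with h | h
    · rcases (Nat.Prime.dvd_mul hp.out).1 h with h | h
      · exact absurd h hpe
      · exact h
    · exact absurd h hps
  rw [hbe]
  exact Dvd.dvd.mul_right h9 _

end Cfsg.Agent.Lib.Helper8.RDG
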