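import Mathlib
import Cfsg.Agent.Lib.Helper8.RDG4
import Cfsg.Agent.Lib.Helper8.RDG6
import Cfsg.Agent.Lib.Helper8.RDG7

set_option autoImplicit false

/-! Helper lemmas on inertia groups of products, and on characters over an invariant linear
character, for the connecting lemma of the relative degree graph. -/

namespace Cfsg.Agent.Lib.Helper8.RDG

open Cfsg.Agent.Lib.Helper1 Cfsg.Agent.Lib.Helper4 Cfsg.Agent.Lib.Helper4.TD
open Cfsg.Agent.S0193 Cfsg.Agent.S0194
open scoped ComplexConjugate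

universe u

variable {G : Type u} [Group G] [Finite G] (N : Subgroup G) [hN : N.Normal]

theorem one_lt_gcd_of_dvd {x a b : ℕ} (hx : 1 < x) (ha : x ∣ a) (hb : x ∣ b) (hb0 : 0 < b) :
    1 < Nat.gcd a b :=
  lt_of_lt_of_le hx (Nat.le_of_dvd (Nat.gcd_pos_of_pos_right _ hb0) (Nat.dvd_gcd ha hb))

omit [Finite G] in
theorem inertia_inf_le (θ : N → ℂ) (μ : N →* ℂˣ) :
    inertia N θ ⊓ inertia N (lin N μ) ≤ inertia N (mulF N θ μ) := by
  intro g hg
  rw [mem_inertia, conjFun_mulF, conjHom_eq_of_mem_inertia N hg.2]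
  have : S0193.conjFun N θ g = θ := hg.1
  rw [this]

omit [Finite G] hN in
theorem mulF_right_cancel {a b : N → ℂ} {μ : N →* ℂˣ} (h : mulF N a μ = mulF N b μ) : a = b := by
  have h1 := eq_mulF_of_mulF_eq N h
  rw [h1]
  have : μ * μ⁻¹ = 1 := by ext n; simp
  rw [this, mulF_one]

omit [Finite G] in
theorem inertia_mulF_le_of_invariant (θ : N → ℂ) {μ : N →* ℂˣ}
    (hinv : ∀ g : G, conjHom N μ g = μ) : inertia N (mulF N θ μ) ≤ inertia N θ := by
  intro g hg
  have h1 : S0193.conjFun N (mulF N θ μ) g = mulF N θ μ := hg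
  rw [conjFun_mulF, hinv] at h1
  exact mulF_right_cancel N h1

omit [Finite G] hN in
theorem mulF_lin (θ' μ : N →* ℂˣ) : mulF N (lin N θ') μ = lin N (θ' * μ) := by
  funext n
  simp [mulF, lin]

omit [Finite G] in
theorem inertia_lin_mul_le (p : ℕ) (θ' μ : N →* ℂˣ) (hμp : μ ^ p = 1)
    (hcop : Nat.Coprime p (orderOf θ')) :
    inertia N (lin N (θ' * μ)) ≤ inertia N (lin N θ') := by
  intro g hg
  have h1 : conjHom N (θ' * μ) g = θ' * μ := conjHom_eq_of_mem_inertia N hg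
  rw [conjHom_mul_hom] at h1
  have h2 : (conjHom N θ' g) ^ p = θ' ^ p := by
    ext n
    have h3 := DFunLike.congr_fun h1 n
    rw [MonoidHom.mul_apply, MonoidHom.mul_apply] at h3
    have h4 := hom_pow_apply N (conjHom_pow_eq_one N hμp g) n
    have h5 := hom_pow_apply N hμp n
    rw [MonoidHom.pow_apply, MonoidHom.pow_apply]
    have h6 : (conjHom N θ' g n * conjHom N μ g n) ^ p = (θ' n * μ n) ^ p := by rw [h3]
    rw [mul_pow, mul_pow, h4, h5, mul_one, mul_one] at h6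
    rw [h6]
  obtain ⟨j, hj⟩ := exists_pow_eq_self_of_coprime hcop
  have h7 : conjHom N θ' g = θ' := by
    have e1 : conjHom N θ' g = conjHom N ((θ' ^ p) ^ j) g := by rw [hj]
    rw [e1, conjHom_pow_hom, conjHom_pow_hom, h2, hj]
  rw [mem_inertia, conjFun_lin, h7]

omit [Finite G] hN in
theorem orderOf_eq_of_pow_prime {μ : N →* ℂˣ} {p : ℕ} (hp : p.Prime) (hμp : μ ^ p = 1)
    (hμ1 : μ ≠ 1) : orderOf μ = p := by
  haveI := Fact.mk hp
  exact orderOf_eq_prime hμp hμ1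

omit [Finite G] hN in
/-- An irreducible character of `G` lying over a nontrivial irreducible character of `N` does not
contain `N` in its kernel. -/
theorem rel_of_over [Fintype N] {ξ : G → ℂ} {ν : N → ℂ}
    (hν : Cfsg.IsIrrCharacter N ν) (hν1 : ν ≠ fun _ => 1)
    (hover : Cfsg.classInner (fun n : N => ξ n) ν ≠ 0) : ∃ x ∈ N, ξ x ≠ ξ 1 := by
  by_contra hcon
  push Not at hcon
  apply hover
  have h1 : (fun n : N => ξ n) = (ξ 1) • (fun _ : N => (1 : ℂ)) := by
    funext n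
    rw [Pi.smul_apply, smul_eq_mul, mul_one]
    exact hcon n n.2
  have h2 : Cfsg.IsIrrCharacter N (fun _ : N => (1 : ℂ)) := by
    have := isIrrCharacter_of_hom (1 : N →* ℂˣ)
    simpa using this
  rw [h1, classInner_smul_left, classInner_irr_ne h2 hν (Ne.symm hν1), mul_zero]

/-- Helper: a common prime divisor coming from an invariant linear character of `N`. -/
theorem one_lt_gcd_of_invariant_linear [Fintype N] (hNG : N ≤ commutator G) (p : ℕ)
    [hp : Fact p.Prime] (θ' μ : N →* ℂˣ) (hθ'1 : θ' ≠ 1)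
    (hinv : ∀ g : G, conjHom N θ' g = θ') (hμp : μ ^ p = 1)
    {χ ξ : G → ℂ} (hχ : Cfsg.IsIrrCharacter G χ) (hξ : Cfsg.IsIrrCharacter G ξ)
    (hoverχ : Cfsg.classInner (fun n : N => χ n) (lin N θ') ≠ 0)
    (hoverξ : Cfsg.classInner (fun n : N => ξ n) (mulF N (lin N θ') μ) ≠ 0)
    (a c : ℕ) (ha : χ 1 = a) (hpa : ¬ p ∣ a) (hc : ξ 1 = c) (hc0 : 0 < c) : 1 < Nat.gcd a c := by
  have hord : orderOf θ' ≠ 1 := fun h => hθ'1 (orderOf_eq_one_iff.1 h)
  obtain ⟨r, hr, hrdvd⟩ := Nat.exists_prime_and_dvd hord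
  haveI := Fact.mk hr
  have h1ord : ¬ r ∣ orderOf (1 : N →* ℂˣ) := by
    rw [orderOf_one]
    exact fun h => hr.one_lt.ne' (Nat.dvd_one.1 h)
  have hoverχ' : Cfsg.classInner (fun n : N => χ n)
      (fun n : N => ((θ' n : ℂˣ) : ℂ) * (((1 : N →* ℂˣ) n : ℂˣ) : ℂ)) ≠ 0 := by
    have : (fun n : N => ((θ' n : ℂˣ) : ℂ) * (((1 : N →* ℂˣ) n : ℂˣ) : ℂ)) = lin N θ' := by
      funext n; simp [lin]
    rw [this]; exact hoverχ
  have hra : r ∣ a := prime_dvd_degree_of_invariant N hNG θ' 1 (hinv_apply N hinv) r hrdvd h1ord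
    hχ hoverχ' a ha
  have hrp : r ≠ p := fun h => hpa (h ▸ hra)
  have hrμ : ¬ r ∣ orderOf μ := by
    intro h
    have h2 : orderOf μ ∣ p := orderOf_dvd_of_pow_eq_one hμp
    have h3 : r ∣ p := h.trans h2
    exact hrp ((Nat.prime_dvd_prime_iff_eq hr hp.out).1 h3)
  have hrc : r ∣ c := prime_dvd_degree_of_invariant N hNG θ' μ (hinv_apply N hinv) r hrdvd hrμ
    hξ hoverξ c hc
  exact one_lt_gcd_of_dvd hr.one_lt hra hrc hc0

end Cfsg.Agent.Lib.Helper8.RDG
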