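import Mathlib
import Cfsg.Agent.Lib.Helper8.RDG8

set_option autoImplicit false

/-! If every irreducible character of `G` over a linear character of order `p` of `N` has degree
divisible by `p`, then a linear character of `N` under a character of degree prime to `p` has order
prime to `p`. -/

namespace Cfsg.Agent.Lib.Helper8.RDG

open Cfsg.Agent.Lib.Helper1 Cfsg.Agent.Lib.Helper4 Cfsg.Agent.Lib.Helper4.TD
open Cfsg.Agent.S0193 Cfsg.Agent.S0194
open scoped ComplexConjugate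

universe u

variable {G : Type u} [Group G] [Finite G] (N : Subgroup G) [hN : N.Normal]

omit [Finite G] in
theorem mem_inertia_lin {κ : N →* ℂˣ} {g : G} :
    g ∈ inertia N (lin N κ) ↔ conjHom N κ g = κ := by
  rw [mem_inertia, conjFun_lin]
  exact ⟨fun h => lin_injective N h, fun h => by rw [h]⟩

omit hN in
theorem orderOf_hom_ne_zero (κ : N →* ℂˣ) : orderOf κ ≠ 0 := by
  have h1 : κ ^ Nat.card N = 1 := by
    ext n
    rw [MonoidHom.pow_apply, ← map_pow, pow_card_eq_one', map_one, MonoidHom.one_apply]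
  have h2 : orderOf κ ∣ Nat.card N := orderOf_dvd_of_pow_eq_one h1
  intro h0
  rw [h0] at h2
  exact Nat.card_pos.ne' (Nat.eq_zero_of_zero_dvd h2)

theorem not_dvd_orderOf_of_allDvd [Fintype N] (p : ℕ) [hp : Fact p.Prime] (θ' : N →* ℂˣ)
    {χ : G → ℂ} (hχ : Cfsg.IsIrrCharacter G χ)
    (hoverχ : Cfsg.classInner (fun n : N => χ n) (lin N θ') ≠ 0) (a : ℕ) (ha : χ 1 = a)
    (hpa : ¬ p ∣ a)
    (hall : ∀ κ : N →* ℂˣ, κ ^ p = 1 → κ ≠ 1 → ∀ ω : G → ℂ, Cfsg.IsIrrCharacter G ω →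
      Cfsg.classInner (fun n : N => ω n) (lin N κ) ≠ 0 → ∀ k : ℕ, ω 1 = k → p ∣ k) :
    ¬ p ∣ orderOf θ' := by
  classical
  intro hdvd
  obtain ⟨k, hk⟩ := hdvd
  obtain ⟨P⟩ : Nonempty (Sylow p G) := inferInstance
  have hNH : N ≤ N ⊔ (P : Subgroup G) := le_sup_left
  obtain ⟨g, κ, hκ, hκN⟩ := exists_extension_of_le N p (N ⊔ (P : Subgroup G)) hNH
    (relIndex_sup_sylow N p P) hχ (isIrr_lin N θ') hoverχ a ha hpa
  have hκ1 : κ 1 = 1 := by
    have h1 := hκN 1
    rw [conjFun_apply_one, lin_one_apply] at h1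
    rw [← h1]
    congr 1
  obtain ⟨ε', hε'⟩ := exists_hom_of_isIrrCharacter hκ hκ1
  set lam : N →* ℂˣ := (conjHom N θ' g) ^ k with hlam
  have hε : ∀ n : N, (ε' ^ k) ⟨n, hNH n.2⟩ = lam n := by
    intro n
    have h1 := hκN n
    rw [conjFun_lin, lin_apply, hε'] at h1
    have h2 : ε' ⟨n, hNH n.2⟩ = conjHom N θ' g n := Units.ext h1
    rw [MonoidHom.pow_apply, hlam, MonoidHom.pow_apply, h2]
  have hlamp : lam ^ p = 1 := by
    rw [hlam, ← conjHom_pow_hom, ← conjHom_pow_hom]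
    have : (θ' ^ k) ^ p = 1 := by
      ext n
      rw [MonoidHom.pow_apply, MonoidHom.pow_apply, ← pow_mul, mul_comm, ← hk,
        ← MonoidHom.pow_apply, pow_orderOf_eq_one]
    rw [this, conjHom_one_hom]
  have hlam1 : lam ≠ 1 := by
    intro h1
    rw [hlam, ← conjHom_pow_hom] at h1
    have h2 : θ' ^ k = 1 := by
      have h3 : conjHom N (conjHom N (θ' ^ k) g) g⁻¹ = conjHom N 1 g⁻¹ := by rw [h1]
      rw [conjHom_mul', mul_inv_cancel, conjHom_one, conjHom_one_hom] at h3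
      exact h3
    have h4 : orderOf θ' ∣ k := orderOf_dvd_of_pow_eq_one h2
    rw [hk] at h4
    have hk0 : k ≠ 0 := by
      rintro rfl
      rw [mul_zero] at hk
      exact orderOf_hom_ne_zero N θ' hk
    have h5 : p * k ≤ k := Nat.le_of_dvd (Nat.pos_of_ne_zero hk0) h4
    have h6 : 2 ≤ p := hp.out.two_le
    nlinarith [Nat.pos_of_ne_zero hk0]
  obtain ⟨ω, hω, hoverω, j, hj, hpj⟩ := exists_over_not_dvd_of_extends N p (N ⊔ (P : Subgroup G))
    hNH (not_dvd_index_sup_sylow N p P) lam (ε' ^ k) hε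
  exact hpj (hall lam hlamp hlam1 ω hω hoverω j hj)

end Cfsg.Agent.Lib.Helper8.RDG
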