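import Mathlib
import Cfsg.Agent.Lib.Helper8.RDG9

set_option autoImplicit false

/-! The connecting lemma for the relative degree graph: a character of degree `a` prime to `p`
not containing `N` in its kernel, and a character of degree `b` over a linear character of order
`p` of `N`, with `a, b` coprime, have a common neighbour. -/

namespace Cfsg.Agent.Lib.Helper8.RDG

open Cfsg.Agent.Lib.Helper1 Cfsg.Agent.Lib.Helper4 Cfsg.Agent.Lib.Helper4.TD
open Cfsg.Agent.S0193 Cfsg.Agent.S0194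
open scoped ComplexConjugate

universe u

variable {G : Type u} [Group G] [Finite G] (N : Subgroup G) [hN : N.Normal]

omit [Finite G] in
theorem invariant_of_index_eq_one {ν : N → ℂ} (h : (inertia N ν).index = 1) (g : G) :
    S0193.conjFun N ν g = ν := by
  have h1 : inertia N ν = ⊤ := Subgroup.index_eq_one.1 h
  have h2 : g ∈ inertia N ν := by rw [h1]; exact Subgroup.mem_top g
  exact h2

theorem connect_aux [Fintype N] (hNG : N ≤ commutator G) (p : ℕ) [hp : Fact p.Prime]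
    {χ ψ ξ : G → ℂ} (hχ : Cfsg.IsIrrCharacter G χ) (hψ : Cfsg.IsIrrCharacter G ψ)
    (hξ : Cfsg.IsIrrCharacter G ξ)
    {θ : N → ℂ} (hθ : Cfsg.IsIrrCharacter N θ) (hθ1 : θ ≠ fun _ => 1)
    (μ : N →* ℂˣ) (hμp : μ ^ p = 1) (hμ1 : μ ≠ 1)
    (hoverχ : Cfsg.classInner (fun n : N => χ n) θ ≠ 0)
    (hoverψ : Cfsg.classInner (fun n : N => ψ n) (lin N μ) ≠ 0)
    (hoverξ : Cfsg.classInner (fun n : N => ξ n) (mulF N θ μ) ≠ 0)
    (a b c : ℕ) (ha : χ 1 = a) (hb : ψ 1 = b) (hc : ξ 1 = c) (hpa : ¬ p ∣ a)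
    (hvar : ¬ p ∣ b ∨ ∀ κ : N →* ℂˣ, κ ^ p = 1 → κ ≠ 1 → ∀ ω : G → ℂ, Cfsg.IsIrrCharacter G ω →
      Cfsg.classInner (fun n : N => ω n) (lin N κ) ≠ 0 → ∀ k : ℕ, ω 1 = k → p ∣ k)
    (hcop : Nat.Coprime a b) :
    (∃ x ∈ N, ξ x ≠ ξ 1) ∧ 1 < Nat.gcd a c ∧ 1 < Nat.gcd c b := by
  classical
  haveI : Fintype G := Fintype.ofFinite G
  obtain ⟨d, hd, hd0, -⟩ := irr_degree hθ
  have hθμ : Cfsg.IsIrrCharacter N (mulF N θ μ) := isIrr_mulF N hθ μ
  have hd' : mulF N θ μ 1 = d := by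
    rw [mulF_apply, hd, map_one, Units.val_one, mul_one]
  obtain ⟨e₁, he₁0, -, hae⟩ := clifford_degree N hχ hθ hoverχ a d ha hd
  obtain ⟨e₂, he₂0, -, hbe⟩ := clifford_degree N hψ (isIrr_lin N μ) hoverψ b 1 hb
    (by rw [lin_one_apply]; simp)
  obtain ⟨e₃, he₃0, -, hce⟩ := clifford_degree N hξ hθμ hoverξ c d hc hd'
  set s₁ := (inertia N θ).index with hs₁
  set s₂ := (inertia N (lin N μ)).index with hs₂
  set s₃ := (inertia N (mulF N θ μ)).index with hs₃
  have hs₁a : s₁ ∣ a := ⟨e₁ * d, by rw [hae]; ring⟩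
  have hda : d ∣ a := ⟨e₁ * s₁, by rw [hae]; ring⟩
  have hs₂b : s₂ ∣ b := ⟨e₂, by rw [hbe]; ring⟩
  have hs₃c : s₃ ∣ c := ⟨e₃ * d, by rw [hce]; ring⟩
  have hdc : d ∣ c := ⟨e₃ * s₃, by rw [hce]; ring⟩
  have hs₁0 : 0 < s₁ := Nat.pos_of_ne_zero Subgroup.index_ne_zero_of_finite
  have hs₂0 : 0 < s₂ := Nat.pos_of_ne_zero Subgroup.index_ne_zero_of_finite
  have hs₃0 : 0 < s₃ := Nat.pos_of_ne_zero Subgroup.index_ne_zero_of_finite
  have ha0 : 0 < a := by rw [hae]; positivity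
  have hb0 : 0 < b := by rw [hbe]; positivity
  have hc0 : 0 < c := by rw [hce]; positivity
  have hpd : ¬ p ∣ d := fun h => hpa (h.trans hda)
  have hps₁ : ¬ p ∣ s₁ := fun h => hpa (h.trans hs₁a)
  have h21 : Nat.Coprime s₂ s₁ :=
    Nat.Coprime.coprime_dvd_left hs₂b (Nat.Coprime.coprime_dvd_right hs₁a hcop.symm)
  have hordμ : orderOf μ = p := orderOf_eq_of_pow_prime N hp.out hμp hμ1
  have hfree : ∀ (g : G) (κ : N →* ℂˣ), κ ^ p = 1 →
      mulF N (S0193.conjFun N θ g) κ = S0193.conjFun N θ g → κ = 1 := by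
    intro g κ hκp hfix
    refine hom_eq_one_of_mul_eq p hp.out (isCharacter_of_irr (conjFun_irr N θ hθ g)) d
      (by rw [conjFun_apply_one, hd]) hpd κ hκp (fun n => ?_)
    exact congrFun hfix n
  have h1ord : ¬ p ∣ orderOf (1 : N →* ℂˣ) := by
    rw [orderOf_one]
    exact fun h => hp.out.one_lt.ne' (Nat.dvd_one.1 h)
  have hlin1 : ∀ κ : N →* ℂˣ, (fun n : N => ((κ n : ℂˣ) : ℂ) * (((1 : N →* ℂˣ) n : ℂˣ) : ℂ))
      = lin N κ := by
    intro κ; funext n; simp [lin]
  -- Step 0: θ μ is not the principal character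
  have hν1 : mulF N θ μ ≠ fun _ => 1 := by
    intro h
    have hθeq : θ = lin N μ⁻¹ := by
      funext n
      have h1 := congrFun h n
      rw [mulF_apply] at h1
      rw [lin_apply, MonoidHom.inv_apply, Units.val_inv_eq_inv_val]
      exact eq_inv_of_mul_eq_one_left h1
    have hin : inertia N θ = inertia N (lin N μ) := by
      ext g
      rw [hθeq, mem_inertia_lin N, mem_inertia_lin N, conjHom_inv_hom]
      constructor
      · intro h2
        ext n
        have h3 := DFunLike.congr_fun h2 n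
        rw [MonoidHom.inv_apply, MonoidHom.inv_apply] at h3
        rw [inv_inj.1 h3]
      · intro h2
        rw [h2]
    have hs12 : s₁ = s₂ := by rw [hs₁, hs₂, hin]
    rw [hs12] at h21
    have hs21 : s₂ = 1 := (Nat.coprime_self s₂).1 h21
    have hinvμ : ∀ g : G, conjHom N μ g = μ := fun g =>
      (mem_inertia_lin N).1 (invariant_of_index_eq_one N hs21 g)
    have hinvμ' : ∀ g : G, conjHom N μ⁻¹ g = μ⁻¹ := fun g => by
      rw [conjHom_inv_hom, hinvμ]
    have hord' : p ∣ orderOf μ⁻¹ := by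
      have : orderOf μ⁻¹ = p := by
        refine orderOf_eq_of_pow_prime N hp.out (inv_pow_eq_one N hμp) ?_
        intro h1
        apply hμ1
        ext n
        have h3 := DFunLike.congr_fun h1 n
        rw [MonoidHom.inv_apply, MonoidHom.one_apply] at h3
        rw [MonoidHom.one_apply, inv_eq_one.1 h3]
      rw [this]
    have hover' : Cfsg.classInner (fun n : N => χ n)
        (fun n : N => ((μ⁻¹ n : ℂˣ) : ℂ) * (((1 : N →* ℂˣ) n : ℂˣ) : ℂ)) ≠ 0 := by
      rw [hlin1, ← hθeq]; exact hoverχ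
    exact hpa (prime_dvd_degree_of_invariant N hNG μ⁻¹ 1 (hinv_apply N hinvμ') p hord' h1ord hχ
      hover' a ha)
  refine ⟨rel_of_over N hθμ hν1 hoverξ, ?_⟩
  -- linear case helper
  have hlinear : d = 1 → (∀ g : G, S0193.conjFun N θ g = θ) → 1 < Nat.gcd a c := by
    intro hd1 hinvθ
    obtain ⟨θ', hθ'⟩ := exists_hom_of_isIrrCharacter hθ (by rw [hd, hd1]; simp)
    have hθlin : θ = lin N θ' := hθ'
    have hθ'1 : θ' ≠ 1 := by
      intro h
      apply hθ1
      rw [hθlin, h]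
      funext n
      simp [lin]
    have hinvθ' : ∀ g : G, conjHom N θ' g = θ' := by
      intro g
      have := hinvθ g
      rw [hθlin] at this
      exact (mem_inertia_lin N).1 this
    exact one_lt_gcd_of_invariant_linear N hNG p θ' μ hθ'1 hinvθ' hμp hχ hξ (hθlin ▸ hoverχ)
      (hθlin ▸ hoverξ) a c ha hpa hc hc0
  by_cases h23 : Nat.Coprime s₂ s₃
  · -- Case A
    have hinvμ : ∀ g : G, conjHom N μ g = μ :=
      invariant_of_coprime_A N p θ μ hμp hfree hps₁ h21 h23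
    have hoverψ' : Cfsg.classInner (fun n : N => ψ n)
        (fun n : N => ((μ n : ℂˣ) : ℂ) * (((1 : N →* ℂˣ) n : ℂˣ) : ℂ)) ≠ 0 := by
      rw [hlin1]; exact hoverψ
    have hpμ : p ∣ orderOf μ := by rw [hordμ]
    have hpb : p ∣ b := prime_dvd_degree_of_invariant N hNG μ 1 (hinv_apply N hinvμ) p hpμ h1ord
      hψ hoverψ' b hb
    have hpc : p ∣ c := prime_dvd_degree_of_twist N hNG p hinvμ hpμ hχ hξ hθ hoverχ hoverξ a c ha
      hpa hc
    refine ⟨?_, one_lt_gcd_of_dvd hp.out.one_lt hpc hpb hb0⟩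
    have hs13 : s₁ ∣ s₃ := Subgroup.index_dvd_of_le (inertia_mulF_le_of_invariant N θ hinvμ)
    by_cases hs1 : s₁ = 1
    · by_cases hd1 : d = 1
      · exact hlinear hd1 (invariant_of_index_eq_one N hs1)
      · exact one_lt_gcd_of_dvd (by omega) hda hdc hc0
    · exact one_lt_gcd_of_dvd (by omega) hs₁a (hs13.trans hs₃c) hc0
  · -- gcd(s₂, s₃) > 1
    have hg : 1 < Nat.gcd s₂ s₃ := by
      have h0 : 0 < Nat.gcd s₂ s₃ := Nat.gcd_pos_of_pos_left _ hs₂0
      have h1 : Nat.gcd s₂ s₃ ≠ 1 := h23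
      omega
    have hcb : 1 < Nat.gcd c b :=
      one_lt_gcd_of_dvd hg ((Nat.gcd_dvd_right s₂ s₃).trans hs₃c)
        ((Nat.gcd_dvd_left s₂ s₃).trans hs₂b) hb0
    refine ⟨?_, hcb⟩
    by_cases hd1 : d = 1
    · by_cases h13 : Nat.Coprime s₁ s₃
      · -- Case B
        apply hlinear hd1
        rcases hvar with hpb | hall
        · have hps₂ : ¬ p ∣ s₂ := fun h => hpb (h.trans hs₂b)
          refine invariant_of_coprime_B N p θ μ hμp (fun κ hκp hfix => ?_) hps₂ h21 h13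
          refine hfree 1 κ hκp ?_
          rw [conjFun_one]
          exact hfix
        · obtain ⟨θ', hθ'⟩ := exists_hom_of_isIrrCharacter hθ (by rw [hd, hd1]; simp)
          have hθlin : θ = lin N θ' := hθ'
          have hnd : ¬ p ∣ orderOf θ' :=
            not_dvd_orderOf_of_allDvd N p θ' hχ (hθlin ▸ hoverχ) a ha hpa hall
          have hcopθ' : Nat.Coprime p (orderOf θ') :=
            (Nat.Prime.coprime_iff_not_dvd hp.out).2 hnd
          have hT := inertia_lin_mul_le N p θ' μ hμp hcopθ'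
          rw [← mulF_lin, ← hθlin] at hT
          have hs13 : s₁ ∣ s₃ := Subgroup.index_dvd_of_le hT
          have hs1 : s₁ = 1 := by
            have := Nat.dvd_gcd (dvd_refl s₁) hs13
            rw [h13] at this
            exact Nat.dvd_one.1 this
          exact invariant_of_index_eq_one N hs1
      · have hg' : 1 < Nat.gcd s₁ s₃ := by
          have h0 : 0 < Nat.gcd s₁ s₃ := Nat.gcd_pos_of_pos_left _ hs₁0
          have h1 : Nat.gcd s₁ s₃ ≠ 1 := h13
          omega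
        exact one_lt_gcd_of_dvd hg' ((Nat.gcd_dvd_left s₁ s₃).trans hs₁a)
          ((Nat.gcd_dvd_right s₁ s₃).trans hs₃c) hc0
    · exact one_lt_gcd_of_dvd (by omega) hda hdc hc0

end Cfsg.Agent.Lib.Helper8.RDG
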