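import Mathlib
import Cfsg.Agent.Lib.Helper8.RDG10
import Cfsg.Agent.Lib.Helper2.CliffordDeg

set_option autoImplicit false

/-! The connecting lemma in its final form, the existence of a linear character of order `p`, and
the hub lemma for the degrees prime to `p`. -/

namespace Cfsg.Agent.Lib.Helper8.RDG

open Cfsg.Agent.Lib.Helper1 Cfsg.Agent.Lib.Helper4 Cfsg.Agent.Lib.Helper4.TD
open Cfsg.Agent.S0193 Cfsg.Agent.S0194
open scoped ComplexConjugate

universe u

section Dual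

variable {X : Type u} [Group X] [Finite X]

/-- If `p` divides the index of the commutator subgroup, there is a linear character of order
`p`. -/
theorem exists_hom_of_prime_dvd_index (p : ℕ) [hp : Fact p.Prime]
    (hdvd : p ∣ (commutator X).index) : ∃ μ : X →* ℂˣ, μ ^ p = 1 ∧ μ ≠ 1 := by
  classical
  let A := Abelianization X
  haveI : Finite A := inferInstanceAs (Finite (X ⧸ commutator X))
  have hcard : Nat.card A = (commutator X).index := (Subgroup.index_eq_card _).symm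
  haveI : NeZero ((Monoid.exponent A : ℕ) : ℂ) :=
    ⟨Nat.cast_ne_zero.2 Monoid.exponent_ne_zero_of_finite⟩
  obtain ⟨e⟩ := CommGroup.monoidHom_mulEquiv_of_hasEnoughRootsOfUnity A ℂ
  rw [← hcard] at hdvd
  obtain ⟨x, hx⟩ := exists_prime_orderOf_dvd_card' p hdvd
  set φ : A →* ℂˣ := e.symm x with hφ
  have hφord : orderOf φ = p := by
    rw [hφ, MulEquiv.orderOf_eq, hx]
  refine ⟨φ.comp Abelianization.of, ?_, ?_⟩
  · ext n
    have h1 : φ ^ p = 1 := by rw [← hφord]; exact pow_orderOf_eq_one φ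
    have h2 := DFunLike.congr_fun h1 (Abelianization.of n)
    rw [MonoidHom.pow_apply, MonoidHom.one_apply] at h2
    rw [MonoidHom.pow_apply, MonoidHom.comp_apply, h2, MonoidHom.one_apply]
  · intro h
    have h1 : φ = 1 := Abelianization.hom_ext φ 1 (by rw [h, MonoidHom.one_comp])
    rw [h1, orderOf_one] at hφord
    exact hp.out.one_lt.ne' hφord.symm

end Dual

variable {G : Type u} [Group G] [Finite G] (N : Subgroup G) [hN : N.Normal]

omit [Finite G] hN in
theorem relIndex_commutator_eq : ⁅N, N⁆.relIndex N = (commutator N).index := by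
  have h1 : ⁅N, N⁆.subgroupOf N = commutator N := by
    rw [← Subgroup.map_subtype_commutator]
    exact Subgroup.comap_map_eq_self_of_injective (Subgroup.subtype_injective N) _
  rw [Subgroup.relIndex, h1]

omit [Finite G] hN in
theorem lin_ne_one {μ : N →* ℂˣ} (hμ1 : μ ≠ 1) : lin N μ ≠ fun _ => 1 := by
  intro h
  apply hμ1
  apply lin_injective N
  rw [h]
  funext n
  simp [lin]

omit hN in
/-- A character whose kernel does not contain `N` lies over a nonprincipal character of `N`. -/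
theorem exists_nontrivial_under [Fintype N] {χ : G → ℂ} (hχ : Cfsg.IsIrrCharacter G χ)
    (hrel : ∃ x ∈ N, χ x ≠ χ 1) :
    ∃ θ : N → ℂ, Cfsg.IsIrrCharacter N θ ∧ θ ≠ (fun _ => 1) ∧
      Cfsg.classInner (fun n : N => χ n) θ ≠ 0 := by
  classical
  haveI : Fintype (Cfsg.IrrCharacter N) := Fintype.ofFinite _
  by_contra hcon
  push Not at hcon
  obtain ⟨x, hxN, hx⟩ := hrel
  apply hx
  have hres : Cfsg.IsCharacter N (fun n : N => χ n) :=
    Cfsg.Agent.S0148.isCharacter_restrict N (isCharacter_of_irr hχ)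
  have hexp := class_function_expansion _ (isClassFunction_of_isCharacter hres)
  have h1 : ∀ φ : Cfsg.IrrCharacter N, ∀ y : N,
      (Cfsg.classInner (fun n : N => χ n) (φ : N → ℂ) • (φ : N → ℂ)) y
      = (Cfsg.classInner (fun n : N => χ n) (φ : N → ℂ) • (φ : N → ℂ)) 1 := by
    intro φ y
    by_cases hφ : (φ : N → ℂ) = fun _ => 1
    · rw [Pi.smul_apply, Pi.smul_apply, hφ]
    · have := hcon φ φ.2 hφ
      rw [this, zero_smul]
      rfl
  have h2 := congrFun hexp ⟨x, hxN⟩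
  have h3 := congrFun hexp 1
  simp only [Finset.sum_apply] at h2 h3
  have h4 : χ x = χ ((1 : N) : G) := by
    have h5 : χ x = χ ((⟨x, hxN⟩ : N) : G) := rfl
    rw [h5, h2, h3]
    exact Finset.sum_congr rfl fun φ _ => h1 φ ⟨x, hxN⟩
  rw [h4, Subgroup.coe_one]

/-- The connecting lemma. -/
theorem connect [Fintype N] (hNG : N ≤ commutator G) (p : ℕ) [hp : Fact p.Prime]
    {χ ψ : G → ℂ} (hχ : Cfsg.IsIrrCharacter G χ) (hψ : Cfsg.IsIrrCharacter G ψ)
    (hrel : ∃ x ∈ N, χ x ≠ χ 1)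
    (μ : N →* ℂˣ) (hμp : μ ^ p = 1) (hμ1 : μ ≠ 1)
    (hoverψ : Cfsg.classInner (fun n : N => ψ n) (lin N μ) ≠ 0)
    (a b : ℕ) (ha : χ 1 = a) (hb : ψ 1 = b) (hpa : ¬ p ∣ a)
    (hvar : ¬ p ∣ b ∨ ∀ κ : N →* ℂˣ, κ ^ p = 1 → κ ≠ 1 → ∀ ω : G → ℂ, Cfsg.IsIrrCharacter G ω →
      Cfsg.classInner (fun n : N => ω n) (lin N κ) ≠ 0 → ∀ k : ℕ, ω 1 = k → p ∣ k)
    (hcop : Nat.Coprime a b) :
    ∃ ξ : G → ℂ, Cfsg.IsIrrCharacter G ξ ∧ (∃ x ∈ N, ξ x ≠ ξ 1) ∧
      ∃ c : ℕ, ξ 1 = c ∧ 1 < Nat.gcd a c ∧ 1 < Nat.gcd c b := by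
  classical
  haveI : Fintype G := Fintype.ofFinite G
  obtain ⟨θ, hθ, hθ1, hoverχ⟩ := exists_nontrivial_under N hχ hrel
  have hprod : Cfsg.IsCharacter G (χ * ψ) :=
    Cfsg.Agent.S4996.isCharacter_mul (isCharacter_of_irr hχ) (isCharacter_of_irr hψ)
  have hprod1 : (χ * ψ) 1 ≠ 0 := by
    rw [Pi.mul_apply]
    exact mul_ne_zero (irr_apply_one_ne_zero hχ) (irr_apply_one_ne_zero hψ)
  obtain ⟨ξ, hξ, m, hm0, hm⟩ := exists_constituent hprod hprod1
  have hcon : Cfsg.classInner (χ * ψ) ξ ≠ 0 := by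
    rw [hm]; exact Nat.cast_ne_zero.2 hm0.ne'
  obtain ⟨g, h, hoverξ⟩ := product_over N hχ hψ hξ hθ μ hoverχ hoverψ hcon
  obtain ⟨c, hc, -, -⟩ := irr_degree hξ
  have hθg : Cfsg.IsIrrCharacter N (S0193.conjFun N θ g) := conjFun_irr N θ hθ g
  have hθg1 : S0193.conjFun N θ g ≠ fun _ => 1 := by
    intro h1
    apply hθ1
    have h2 : S0193.conjFun N (S0193.conjFun N θ g) g⁻¹ = S0193.conjFun N (fun _ => 1) g⁻¹ := by
      rw [h1]
    rw [conjFun_mul, mul_inv_cancel, conjFun_one] at h2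
    rw [h2]
    rfl
  have hμh1 : conjHom N μ h ≠ 1 := by
    intro h1
    apply hμ1
    have h2 : conjHom N (conjHom N μ h) h⁻¹ = conjHom N 1 h⁻¹ := by rw [h1]
    rw [conjHom_mul', mul_inv_cancel, conjHom_one, conjHom_one_hom] at h2
    exact h2
  have hoverχ' : Cfsg.classInner (fun n : N => χ n) (S0193.conjFun N θ g) ≠ 0 := by
    rw [classInner_conjFun N (isClassFunction_irr hχ)]
    exact hoverχ
  have hoverψ' : Cfsg.classInner (fun n : N => ψ n) (lin N (conjHom N μ h)) ≠ 0 := by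
    rw [← conjFun_lin, classInner_conjFun N (isClassFunction_irr hψ)]
    exact hoverψ
  obtain ⟨h1, h2, h3⟩ := connect_aux N hNG p hχ hψ hξ hθg hθg1 (conjHom N μ h)
    (conjHom_pow_eq_one N hμp h) hμh1 hoverχ' hoverψ' hoverξ a b c ha hb hc hpa hvar hcop
  exact ⟨ξ, hξ, h1, c, hc, h2, h3⟩

end Cfsg.Agent.Lib.Helper8.RDG
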