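import Mathlib
import Cfsg.Prelude.Def_DegreeGraph
import Cfsg.Agent.Lib.Helper8.RDG11
import Cfsg.Agent.Lib.Helper8.DG5

set_option autoImplicit false

/-! Graph-level statements for the relative degree graph: reachability from common divisors, the
hub lemma for the degrees prime to `p`, and the lemma for two different primes. -/

namespace Cfsg.Agent.Lib.Helper8.RDG

open Cfsg.Agent.Lib.Helper1 Cfsg.Agent.Lib.Helper4 Cfsg.Agent.Lib.Helper4.TD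
open Cfsg.Agent.S0193 Cfsg.Agent.S0194
open scoped ComplexConjugate

universe u

variable {G : Type u} [Group G] [Finite G] (N : Subgroup G) [hN : N.Normal]

omit hN in
theorem mem_rel {χ : G → ℂ} (hχ : Cfsg.IsIrrCharacter G χ) (hrel : ∃ x ∈ N, χ x ≠ χ 1) (a : ℕ)
    (ha : χ 1 = a) : a ∈ Cfsg.relCharDegrees N := by
  refine ⟨⟨χ, hχ⟩, hrel, ?_⟩
  obtain ⟨h1, -⟩ := Cfsg.Agent.Lib.Helper8.irr_apply_one_eq_charDegree hχ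
  have : ((Cfsg.charDegree χ : ℕ) : ℂ) = (a : ℂ) := by rw [← h1, ha]
  exact_mod_cast this

omit hN in
theorem exists_of_mem_rel {a : ℕ} (ha : a ∈ Cfsg.relCharDegrees N) :
    ∃ χ : G → ℂ, Cfsg.IsIrrCharacter G χ ∧ (∃ x ∈ N, χ x ≠ χ 1) ∧ χ 1 = a ∧ 0 < a := by
  obtain ⟨χ, hrel, hdeg⟩ := ha
  obtain ⟨h1, h2⟩ := Cfsg.Agent.Lib.Helper8.irr_apply_one_eq_charDegree χ.2
  refine ⟨χ, χ.2, hrel, ?_, ?_⟩
  · rw [h1, hdeg]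
  · rw [← hdeg]; exact h2

omit [Finite G] hN in
theorem reach_of_gcd (u v : ↥(Cfsg.relCharDegrees N)) (h : 1 < Nat.gcd (u : ℕ) (v : ℕ)) :
    (Cfsg.commonDivisorGraph.induce (Cfsg.relCharDegrees N)).Reachable u v := by
  by_cases huv : u = v
  · rw [huv]
  · apply SimpleGraph.Adj.reachable
    rw [SimpleGraph.induce_adj]
    exact ⟨fun h' => huv (Subtype.ext h'), h⟩

/-- The hub lemma. -/
theorem exists_hub [Fintype N] (hNG : N ≤ commutator G) (p : ℕ) [hp : Fact p.Prime]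
    (hμex : ∃ μ : N →* ℂˣ, μ ^ p = 1 ∧ μ ≠ 1) :
    ∃ (b₀ : ℕ) (hb₀ : b₀ ∈ Cfsg.relCharDegrees N),
      (∀ (a : ℕ) (ha : a ∈ Cfsg.relCharDegrees N), ¬ p ∣ a →
        (Cfsg.commonDivisorGraph.induce (Cfsg.relCharDegrees N)).Reachable ⟨a, ha⟩ ⟨b₀, hb₀⟩) ∧
      (¬ p ∣ b₀ → ∃ (ψ₀ : G → ℂ) (μ₀ : N →* ℂˣ), Cfsg.IsIrrCharacter G ψ₀ ∧ μ₀ ^ p = 1 ∧ μ₀ ≠ 1 ∧
        Cfsg.classInner (fun n : N => ψ₀ n) (lin N μ₀) ≠ 0 ∧ ψ₀ 1 = b₀) := by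
  classical
  haveI : Fintype G := Fintype.ofFinite G
  -- the common argument
  have key : ∀ (ψ₀ : G → ℂ) (μ₀ : N →* ℂˣ) (b₀ : ℕ), Cfsg.IsIrrCharacter G ψ₀ → μ₀ ^ p = 1 →
      μ₀ ≠ 1 → Cfsg.classInner (fun n : N => ψ₀ n) (lin N μ₀) ≠ 0 → ψ₀ 1 = b₀ →
      (¬ p ∣ b₀ ∨ ∀ κ : N →* ℂˣ, κ ^ p = 1 → κ ≠ 1 → ∀ ω : G → ℂ, Cfsg.IsIrrCharacter G ω →
        Cfsg.classInner (fun n : N => ω n) (lin N κ) ≠ 0 → ∀ k : ℕ, ω 1 = k → p ∣ k) →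
      ∃ (hb₀ : b₀ ∈ Cfsg.relCharDegrees N),
        ∀ (a : ℕ) (ha : a ∈ Cfsg.relCharDegrees N), ¬ p ∣ a →
        (Cfsg.commonDivisorGraph.induce (Cfsg.relCharDegrees N)).Reachable ⟨a, ha⟩ ⟨b₀, hb₀⟩ := by
    intro ψ₀ μ₀ b₀ hψ₀ hμ₀p hμ₀1 hover₀ hb₀ hvar
    have hrel₀ := rel_of_over N (isIrr_lin N μ₀) (lin_ne_one N hμ₀1) hover₀
    have hb₀mem := mem_rel N hψ₀ hrel₀ b₀ hb₀
    refine ⟨hb₀mem, fun a ha hpa => ?_⟩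
    obtain ⟨χ, hχ, hrel, hχa, ha0⟩ := exists_of_mem_rel N ha
    by_cases hcop : Nat.Coprime a b₀
    · obtain ⟨ξ, hξ, hrelξ, c, hc, h1, h2⟩ := connect N hNG p hχ hψ₀ hrel μ₀ hμ₀p hμ₀1 hover₀ a b₀
        hχa hb₀ hpa hvar hcop
      have hcmem := mem_rel N hξ hrelξ c hc
      exact (reach_of_gcd N ⟨a, ha⟩ ⟨c, hcmem⟩ h1).trans (reach_of_gcd N ⟨c, hcmem⟩ ⟨b₀, hb₀mem⟩ h2)
    · apply reach_of_gcd
      have h0 : 0 < Nat.gcd a b₀ := Nat.gcd_pos_of_pos_left _ ha0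
      have h1 : Nat.gcd a b₀ ≠ 1 := hcop
      show 1 < Nat.gcd a b₀
      omega
  by_cases hex : ∃ (κ : N →* ℂˣ) (ω : G → ℂ), κ ^ p = 1 ∧ κ ≠ 1 ∧ Cfsg.IsIrrCharacter G ω ∧
      Cfsg.classInner (fun n : N => ω n) (lin N κ) ≠ 0 ∧ ∃ k : ℕ, ω 1 = k ∧ ¬ p ∣ k
  · obtain ⟨κ, ω, hκp, hκ1, hω, hover, k, hk, hpk⟩ := hex
    obtain ⟨hmem, hreach⟩ := key ω κ k hω hκp hκ1 hover hk (Or.inl hpk)
    exact ⟨k, hmem, hreach, fun _ => ⟨ω, κ, hω, hκp, hκ1, hover, hk⟩⟩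
  · have hall : ∀ κ : N →* ℂˣ, κ ^ p = 1 → κ ≠ 1 → ∀ ω : G → ℂ, Cfsg.IsIrrCharacter G ω →
        Cfsg.classInner (fun n : N => ω n) (lin N κ) ≠ 0 → ∀ k : ℕ, ω 1 = k → p ∣ k := by
      intro κ hκp hκ1 ω hω hover k hk
      by_contra hpk
      exact hex ⟨κ, ω, hκp, hκ1, hω, hover, k, hk, hpk⟩
    obtain ⟨μ₀, hμ₀p, hμ₀1⟩ := hμex
    obtain ⟨ψ₀, hψ₀, hover₀⟩ := Cfsg.Agent.Lib.Helper2.CliffordDeg.exists_irr_over N (isIrr_lin N μ₀)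
    obtain ⟨b₀, hb₀, -, -⟩ := irr_degree hψ₀
    obtain ⟨hmem, hreach⟩ := key ψ₀ μ₀ b₀ hψ₀ hμ₀p hμ₀1 hover₀ hb₀ (Or.inr hall)
    exact ⟨b₀, hmem, hreach, fun hpb => absurd (hall μ₀ hμ₀p hμ₀1 ψ₀ hψ₀ hover₀ b₀ hb₀) hpb⟩

/-- Two different primes. -/
theorem connect_two_primes [Fintype N] (hNG : N ≤ commutator G) (p q : ℕ) [hp : Fact p.Prime]
    [hq : Fact q.Prime] (hpq : p ≠ q) {ψ₀ ψ₁ : G → ℂ} (hψ₀ : Cfsg.IsIrrCharacter G ψ₀)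
    (hψ₁ : Cfsg.IsIrrCharacter G ψ₁) (μ₀ ν₀ : N →* ℂˣ) (hμ₀p : μ₀ ^ p = 1) (hμ₀1 : μ₀ ≠ 1)
    (hν₀q : ν₀ ^ q = 1) (hν₀1 : ν₀ ≠ 1)
    (hover₀ : Cfsg.classInner (fun n : N => ψ₀ n) (lin N μ₀) ≠ 0)
    (hover₁ : Cfsg.classInner (fun n : N => ψ₁ n) (lin N ν₀) ≠ 0)
    (b₀ b₁ : ℕ) (hb₀ : ψ₀ 1 = b₀) (hb₁ : ψ₁ 1 = b₁) (hpb₀ : ¬ p ∣ b₀) (hqb₁ : ¬ q ∣ b₁) :
    ∃ ξ : G → ℂ, Cfsg.IsIrrCharacter G ξ ∧ (∃ x ∈ N, ξ x ≠ ξ 1) ∧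
      ∃ c : ℕ, ξ 1 = c ∧ 1 < Nat.gcd b₀ c ∧ 1 < Nat.gcd c b₁ := by
  classical
  haveI : Fintype G := Fintype.ofFinite G
  have hprod : Cfsg.IsCharacter G (ψ₀ * ψ₁) :=
    Cfsg.Agent.S4996.isCharacter_mul (isCharacter_of_irr hψ₀) (isCharacter_of_irr hψ₁)
  have hprod1 : (ψ₀ * ψ₁) 1 ≠ 0 := by
    rw [Pi.mul_apply]
    exact mul_ne_zero (irr_apply_one_ne_zero hψ₀) (irr_apply_one_ne_zero hψ₁)
  obtain ⟨ξ, hξ, m, hm0, hm⟩ := exists_constituent hprod hprod1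
  have hcon : Cfsg.classInner (ψ₀ * ψ₁) ξ ≠ 0 := by
    rw [hm]; exact Nat.cast_ne_zero.2 hm0.ne'
  obtain ⟨g, h, hoverξ⟩ := product_over N hψ₀ hψ₁ hξ (isIrr_lin N μ₀) ν₀ hover₀ hover₁ hcon
  rw [conjFun_lin, mulF_lin] at hoverξ
  set μ₁ := conjHom N μ₀ g with hμ₁
  set ν₁ := conjHom N ν₀ h with hν₁
  have hμ₁p : μ₁ ^ p = 1 := conjHom_pow_eq_one N hμ₀p g
  have hν₁q : ν₁ ^ q = 1 := conjHom_pow_eq_one N hν₀q h
  have hμ₁1 : μ₁ ≠ 1 := by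
    intro h1
    apply hμ₀1
    have h2 : conjHom N (conjHom N μ₀ g) g⁻¹ = conjHom N 1 g⁻¹ := by rw [← hμ₁, h1]
    rw [conjHom_mul', mul_inv_cancel, conjHom_one, conjHom_one_hom] at h2
    exact h2
  have hν₁1 : ν₁ ≠ 1 := by
    intro h1
    apply hν₀1
    have h2 : conjHom N (conjHom N ν₀ h) h⁻¹ = conjHom N 1 h⁻¹ := by rw [← hν₁, h1]
    rw [conjHom_mul', mul_inv_cancel, conjHom_one, conjHom_one_hom] at h2
    exact h2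
  have hordμ : orderOf μ₁ = p := orderOf_eq_of_pow_prime N hp.out hμ₁p hμ₁1
  have hordν : orderOf ν₁ = q := orderOf_eq_of_pow_prime N hq.out hν₁q hν₁1
  have hover₀' : Cfsg.classInner (fun n : N => ψ₀ n) (lin N μ₁) ≠ 0 := by
    rw [hμ₁, ← conjFun_lin, classInner_conjFun N (isClassFunction_irr hψ₀)]
    exact hover₀
  have hover₁' : Cfsg.classInner (fun n : N => ψ₁ n) (lin N ν₁) ≠ 0 := by
    rw [hν₁, ← conjFun_lin, classInner_conjFun N (isClassFunction_irr hψ₁)]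
    exact hover₁
  obtain ⟨c, hc, hc0, -⟩ := irr_degree hξ
  obtain ⟨e₀, -, -, hbe₀⟩ := clifford_degree N hψ₀ (isIrr_lin N μ₁) hover₀' b₀ 1 hb₀
    (by rw [lin_one_apply]; simp)
  obtain ⟨e₁, -, -, hbe₁⟩ := clifford_degree N hψ₁ (isIrr_lin N ν₁) hover₁' b₁ 1 hb₁
    (by rw [lin_one_apply]; simp)
  obtain ⟨e₂, -, -, hce⟩ := clifford_degree N hξ (isIrr_lin N (μ₁ * ν₁)) hoverξ c 1 hc
    (by rw [lin_one_apply]; simp)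
  set s₀ := (inertia N (lin N μ₁)).index with hs₀
  set s₁ := (inertia N (lin N ν₁)).index with hs₁
  set s₂ := (inertia N (lin N (μ₁ * ν₁))).index with hs₂
  have hs₀b : s₀ ∣ b₀ := ⟨e₀, by rw [hbe₀]; ring⟩
  have hs₁b : s₁ ∣ b₁ := ⟨e₁, by rw [hbe₁]; ring⟩
  have hs₂c : s₂ ∣ c := ⟨e₂, by rw [hce]; ring⟩
  have h1ordp : ¬ p ∣ orderOf (1 : N →* ℂˣ) := by
    rw [orderOf_one]
    exact fun h => hp.out.one_lt.ne' (Nat.dvd_one.1 h)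
  have h1ordq : ¬ q ∣ orderOf (1 : N →* ℂˣ) := by
    rw [orderOf_one]
    exact fun h => hq.out.one_lt.ne' (Nat.dvd_one.1 h)
  have hlin1 : ∀ κ : N →* ℂˣ, (fun n : N => ((κ n : ℂˣ) : ℂ) * (((1 : N →* ℂˣ) n : ℂˣ) : ℂ))
      = lin N κ := by
    intro κ; funext n; simp [lin]
  have hs₀1 : s₀ ≠ 1 := by
    intro h1
    have hinv : ∀ g : G, conjHom N μ₁ g = μ₁ := fun g =>
      (mem_inertia_lin N).1 (invariant_of_index_eq_one N h1 g)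
    apply hpb₀
    exact prime_dvd_degree_of_invariant N hNG μ₁ 1 (hinv_apply N hinv) p (by rw [hordμ]) h1ordp hψ₀
      (by rw [hlin1]; exact hover₀') b₀ hb₀
  have hs₁1 : s₁ ≠ 1 := by
    intro h1
    have hinv : ∀ g : G, conjHom N ν₁ g = ν₁ := fun g =>
      (mem_inertia_lin N).1 (invariant_of_index_eq_one N h1 g)
    apply hqb₁
    exact prime_dvd_degree_of_invariant N hNG ν₁ 1 (hinv_apply N hinv) q (by rw [hordν]) h1ordq hψ₁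
      (by rw [hlin1]; exact hover₁') b₁ hb₁
  have hs₀0 : 0 < s₀ := Nat.pos_of_ne_zero Subgroup.index_ne_zero_of_finite
  have hs₁0 : 0 < s₁ := Nat.pos_of_ne_zero Subgroup.index_ne_zero_of_finite
  have hcop1 : Nat.Coprime q (orderOf μ₁) := by
    rw [hordμ]; exact (Nat.coprime_primes hq.out hp.out).2 (Ne.symm hpq)
  have hcop2 : Nat.Coprime p (orderOf ν₁) := by
    rw [hordν]; exact (Nat.coprime_primes hp.out hq.out).2 hpq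
  have hT0 : inertia N (lin N (μ₁ * ν₁)) ≤ inertia N (lin N μ₁) :=
    inertia_lin_mul_le N q μ₁ ν₁ hν₁q hcop1
  have hT1 : inertia N (lin N (μ₁ * ν₁)) ≤ inertia N (lin N ν₁) := by
    have hcomm : lin N (μ₁ * ν₁) = lin N (ν₁ * μ₁) := by
      funext n; simp [lin, mul_comm]
    rw [hcomm]
    exact inertia_lin_mul_le N p ν₁ μ₁ hμ₁p hcop2
  have hs02 : s₀ ∣ s₂ := Subgroup.index_dvd_of_le hT0
  have hs12 : s₁ ∣ s₂ := Subgroup.index_dvd_of_le hT1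
  have hb₁0 : 0 < b₁ := by
    obtain ⟨b', hb', hb'0, -⟩ := irr_degree hψ₁
    have : (b₁ : ℂ) = (b' : ℂ) := by rw [← hb₁, hb']
    have : b₁ = b' := by exact_mod_cast this
    rw [this]; exact hb'0
  have hne1 : μ₁ * ν₁ ≠ 1 := by
    intro h1
    have h2 : s₂ = 1 := by
      rw [hs₂, h1]
      have : inertia N (lin N (1 : N →* ℂˣ)) = ⊤ := by
        ext g
        simp only [Subgroup.mem_top, iff_true]
        rw [mem_inertia_lin, conjHom_one_hom]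
      rw [this, Subgroup.index_top]
    rw [h2] at hs02
    exact hs₀1 (Nat.dvd_one.1 hs02)
  refine ⟨ξ, hξ, rel_of_over N (isIrr_lin N (μ₁ * ν₁)) (lin_ne_one N hne1) hoverξ, c, hc, ?_, ?_⟩
  · exact one_lt_gcd_of_dvd (by omega) hs₀b (hs02.trans hs₂c) hc0
  · exact one_lt_gcd_of_dvd (by omega) (hs12.trans hs₂c) hs₁b hb₁0

end Cfsg.Agent.Lib.Helper8.RDG
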