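import Mathlib
import Cfsg.Agent.Lib.Helper8.PD3
import Cfsg.Agent.Lib.Helper4.TE1
import Cfsg.Agent.S4776

/-!
# Prime degrees: at most three character degrees
-/

set_option autoImplicit false
set_option linter.unusedSectionVars false
set_option maxHeartbeats 800000

namespace Cfsg.Agent.Lib.Helper8.PD

open Cfsg Cfsg.Agent.Lib.Helper1 Cfsg.Agent.Lib.Helper4 Cfsg.Agent.Lib.Helper8
open scoped ComplexConjugate

universe u

/-- A finite group all of whose nonlinear irreducible characters have prime degree has at most
three character degrees. -/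
theorem PD.card_degrees_le {G : Type u} [Group G] [Finite G] (h : PD G) :
    Nat.card ↥(Cfsg.charDegrees G) ≤ 3 := by
  classical
  haveI : Group.IsSolvable G := PD.solvable _ G rfl h
  have hdeg : ∀ χ : IrrCharacter G, (χ : G → ℂ) 1 = charDegree (χ : G → ℂ) :=
    fun χ => (irr_apply_one_eq_charDegree χ.2).1
  set N := commutator G with hN
  set R := Cfsg.relCharDegrees N with hR
  have hsub : Cfsg.charDegrees G ⊆ insert 1 R := by
    rintro d ⟨χ, rfl⟩
    by_cases h1 : charDegree (χ : G → ℂ) = 1
    · left; exact h1
    · right
      refine ⟨χ, ?_, rfl⟩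
      by_contra hcon
      push Not at hcon
      apply h1
      have h2 := Cfsg.Agent.Lib.Helper4.TE.linear_of_trivial_on_commutator χ.2 hcon
      rw [hdeg χ] at h2
      exact_mod_cast h2
  have hRp : ∀ d ∈ R, d.Prime := by
    rintro d ⟨χ, ⟨x, hxN, hx⟩, rfl⟩
    rcases h _ χ.2 _ (hdeg χ) with h1 | h1
    · exfalso
      apply hx
      obtain ⟨lam, hlam⟩ := exists_hom_of_isIrrCharacter χ.2 (by rw [hdeg, h1, Nat.cast_one])
      rw [hlam]
      have hle : commutator G ≤ lam.ker := Abelianization.commutator_subset_ker lam
      have hx1 : lam x = 1 := hle hxN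
      simp only [hx1, map_one]
    · exact h1
  have hfin : (Cfsg.charDegrees G).Finite := by
    have : Cfsg.charDegrees G = Set.range (fun χ : IrrCharacter G => charDegree (χ : G → ℂ)) := by
      ext d
      simp [Cfsg.charDegrees]
    rw [this]
    exact Set.finite_range _
  have hRsub : R ⊆ Cfsg.charDegrees G := by
    rintro d ⟨χ, -, rfl⟩
    exact ⟨χ, rfl⟩
  have hRfin : R.Finite := hfin.subset hRsub
  have hR2 : R.ncard ≤ 2 := by
    by_cases hNb : N = ⊥
    · have : R = ∅ := by
        ext d
        simp only [Set.mem_empty_iff_false, iff_false]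
        rintro ⟨χ, ⟨x, hxN, hx⟩, -⟩
        rw [hNb, Subgroup.mem_bot] at hxN
        exact hx (by rw [hxN])
      rw [this, Set.ncard_empty]
      norm_num
    · have hlt : ⁅N, N⁆ < N := Group.IsSolvable.commutator_lt_of_ne_bot hNb
      have h2 : Nat.card (Cfsg.commonDivisorGraph.induce R).ConnectedComponent ≤ 2 :=
        (Cfsg.Agent.S4776.result N hlt le_rfl).1
      haveI : Finite ↥R := hRfin.to_subtype
      haveI : Finite ((Cfsg.commonDivisorGraph.induce R).ConnectedComponent) :=
        Finite.of_surjective (Cfsg.commonDivisorGraph.induce R).connectedComponentMk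
          (fun c => c.exists_rep)
      have hinj : Function.Injective
          (Cfsg.commonDivisorGraph.induce R).connectedComponentMk := by
        intro u v huv
        have hreach : (Cfsg.commonDivisorGraph.induce R).Reachable u v :=
          SimpleGraph.ConnectedComponent.exact huv
        obtain ⟨w⟩ := hreach
        cases w with
        | nil => rfl
        | @cons _ w' _ hadj _ =>
          exfalso
          have hadj' : Cfsg.commonDivisorGraph.Adj (u : ℕ) (w' : ℕ) := hadj
          obtain ⟨hne, hgcd⟩ := hadj'
          have hu := hRp _ u.2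
          have hw := hRp _ w'.2
          have hcop : Nat.Coprime (u : ℕ) (w' : ℕ) := (Nat.coprime_primes hu hw).2 hne
          rw [Nat.Coprime] at hcop
          omega
      have h3 := Nat.card_le_card_of_injective _ hinj
      rw [← Nat.card_coe_set_eq]
      omega
  have h1 : (Cfsg.charDegrees G).ncard ≤ (insert 1 R).ncard :=
    Set.ncard_le_ncard hsub (hRfin.insert 1)
  have h2 : (insert 1 R).ncard ≤ R.ncard + 1 := Set.ncard_insert_le 1 R
  rw [Nat.card_coe_set_eq]
  omega

end Cfsg.Agent.Lib.Helper8.PD
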