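import Mathlib
import Cfsg.Agent.Lib.Helper4.PF6l
import Cfsg.Agent.Lib.Helper4.Dade6
import Cfsg.Agent.S1500
import Cfsg.Agent.S1501

set_option autoImplicit false
set_option linter.unusedSectionVars false
set_option linter.unusedVariables false

/-!
# Generic facts on the Dade map used for Peterfalvi Section 12 statements
-/

namespace Cfsg.Agent.Lib.Helper8.PFa

open Cfsg Cfsg.Agent.Lib.Helper4 Cfsg.Agent.Lib.Helper1 Cfsg.Agent.Lib.Helper4.FrobTI
  Cfsg.Agent.Lib.Helper4.Coh Cfsg.Agent.Lib.Helper4.PF6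
open scoped ComplexConjugate

section Gen

variable {L : Type*} [Group L] [Fintype L]

/-- integer combinations of characters induced from a normal subgroup are generalized
characters vanishing off that subgroup -/
theorem zspan_induced_props (K : Subgroup L) [hK : K.Normal] {α : L → ℂ}
    (hα : α ∈ zspan (inducedIrrAbove K ⊥)) :
    IsGeneralizedCharacter L α ∧ ∀ x : L, x ∉ K → α x = 0 := by
  rw [mem_zspan_iff] at hα
  induction hα using Submodule.span_induction with
  | mem χ hχ =>
    obtain ⟨θ, hθ, rfl⟩ := mem_induced_iff.mp hχ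
    refine ⟨isGenChar_of_isCharacter (induced_isCharacter hθ.1), fun x hx => ?_⟩
    exact indFun_normal_of_notMem _ θ hx
  | zero => exact ⟨isGenChar_zero, fun x _ => rfl⟩
  | add a b _ _ iha ihb =>
    exact ⟨isGenChar_add iha.1 ihb.1, fun x hx => by
      rw [Pi.add_apply, iha.2 x hx, ihb.2 x hx, add_zero]⟩
  | smul n a _ iha =>
    exact ⟨Cfsg.Agent.Lib.Helper4.Coh.isGenChar_zsmul iha.1 n, fun x hx => by
      rw [Pi.smul_apply, iha.2 x hx, smul_zero]⟩

end Gen

section Dade

variable {G : Type*} [Group G] [Fintype G] {A : Set G} {L : Subgroup G} [Fintype L]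
  {H : G → Subgroup G}

omit [Fintype G] [Fintype L] in
theorem dade_add (α β : L → ℂ) :
    dadeIsometry A L H (α + β) = dadeIsometry A L H α + dadeIsometry A L H β := by
  classical
  funext g
  show dadeIsometry A L H (α + β) g = dadeIsometry A L H α g + dadeIsometry A L H β g
  unfold dadeIsometry
  by_cases h : ∃ a : ↥L, (a : G) ∈ A ∧ ∃ x : G, ∃ u ∈ H (a : G), x * g * x⁻¹ = (a : G) * u
  · rw [dif_pos h, dif_pos h, dif_pos h]; rfl
  · rw [dif_neg h, dif_neg h, dif_neg h]; simp

omit [Fintype G] [Fintype L] in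
theorem dade_zsmul (n : ℤ) (α : L → ℂ) :
    dadeIsometry A L H (n • α) = n • dadeIsometry A L H α := by
  classical
  funext g
  show dadeIsometry A L H (n • α) g = n • dadeIsometry A L H α g
  unfold dadeIsometry
  by_cases h : ∃ a : ↥L, (a : G) ∈ A ∧ ∃ x : G, ∃ u ∈ H (a : G), x * g * x⁻¹ = (a : G) * u
  · rw [dif_pos h, dif_pos h]; rfl
  · rw [dif_neg h, dif_neg h]; simp

omit [Fintype G] [Fintype L] in
/-- the Dade image vanishes at `1` -/
theorem dade_one (hD : DadeHypothesis A L H) (α : L → ℂ) : dadeIsometry A L H α 1 = 0 := by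
  apply dade_apply_of_not
  rintro ⟨a, ha, u, hu, x, hx⟩
  have h1 : (a : G) * u = 1 := by rw [← hx]; group
  have h2 : (a : G) = u⁻¹ := eq_inv_of_mul_eq_one_left h1
  have h3 : (a : G) ∈ H a := by
    have := Subgroup.inv_mem _ hu
    rwa [← h2] at this
  have h4 : (a : G) ∈ H a ⊓ (L ⊓ Subgroup.centralizer ({(a : G)} : Set G)) := by
    refine ⟨h3, a.2, ?_⟩
    show (a : G) ∈ Subgroup.centralizer ({(a : G)} : Set G)
    rw [Subgroup.mem_centralizer_iff]
    intro y hy
    rw [Set.mem_singleton_iff] at hy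
    rw [hy]
  rw [hD.inf_eq_bot a ha, Subgroup.mem_bot] at h4
  exact hD.one_not_mem (h4 ▸ ha)

/-- the Dade map is a linear isometry on any set of generalized characters supported on `A` -/
theorem dade_lio (hD : DadeHypothesis A L H) (E : Set (L → ℂ))
    (hE : ∀ α ∈ E, IsGeneralizedCharacter L α ∧ ∀ x : L, (x : G) ∉ A → α x = 0) :
    IsLinearIsometryOn E (dadeIsometry A L H) ∧ ∀ α ∈ E, dadeIsometry A L H α 1 = 0 := by
  refine ⟨⟨?_, ?_, ?_, ?_⟩, ?_⟩
  · intro α _ β _
    exact dade_add α β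
  · intro α _ n
    exact dade_zsmul n α
  · intro α hα β hβ
    obtain ⟨hαg, hαv⟩ := hE α hα
    obtain ⟨hβg, hβv⟩ := hE β hβ
    exact (Cfsg.Agent.S1500.result A L H hD α (isGenChar_isClassFunction hαg) hαv).1 β
      (isGenChar_isClassFunction hβg) hβv
  · intro α hα
    obtain ⟨hαg, hαv⟩ := hE α hα
    exact Cfsg.Agent.S1501.result A L H hD α hαg hαv
  · intro α _
    exact dade_one hD α

/-- when all the supporting subgroups are trivial, the Dade map is induction -/
theorem dade_eq_indFun (hD : DadeHypothesis A L H) (hbot : ∀ a ∈ A, H a = ⊥) (α : L → ℂ)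
    (hα : IsClassFunction L α) (hαA : ∀ x : L, (x : G) ∉ A → α x = 0) :
    dadeIsometry A L H α = indFun L α := by
  classical
  funext g
  by_cases h : ∃ a : ↥L, (a : G) ∈ A ∧ ∃ u ∈ H (a : G), ∃ x : G, x * g * x⁻¹ = (a : G) * u
  · obtain ⟨a, ha, u, hu, x, hx⟩ := h
    rw [dade_apply hD α hα g a ha u x hu hx]
    have hu1 : u = 1 := by
      have := hu
      rw [hbot a ha, Subgroup.mem_bot] at this
      exact this
    rw [hu1, mul_one] at hx
    have h1 := indFun_dade_apply hD α hα hαA a ha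
    rw [hbot a ha] at h1
    simp only [Subgroup.card_bot, Nat.cast_one, one_mul] at h1
    rw [← h1, ← hx]
    exact (indFun_isClassFunction L α) g x
  · rw [dade_apply_of_not α g h]
    symm
    apply indFun_dade_zero α hαA
    intro x hx
    apply h
    refine ⟨⟨x⁻¹ * g * x, hD.subset hx⟩, hx, 1, Subgroup.one_mem _, x⁻¹, ?_⟩
    simp

end Dade

end Cfsg.Agent.Lib.Helper8.PFa
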