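import Mathlib
import Cfsg.Agent.Lib.Lead.GenCentralizers
import Cfsg.Agent.Lib.Lead.NormalRankTwo
import Cfsg.Agent.Lib.Helper4.FrobTI1

set_option autoImplicit false
set_option linter.unusedSectionVars false
set_option linter.unusedVariables false

/-!
# Frobenius complements of odd order have exponent equal to their order;
nonabelian `p`-groups have abelianization of order at least `p ^ 2`
-/

namespace Cfsg.Agent.Lib.Helper8.PFb

open scoped commutatorElement

section Nil

/-- a nilpotent group generated by one element modulo its commutator subgroup is commutative -/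
theorem comm_of_generator_mod_commutator (X : Type*) [Group X] [hX : Group.IsNilpotent X] :
    (∃ x : X, ∀ y : X, ∃ k : ℤ, ∃ c ∈ commutator X, y = x ^ k * c) → ∀ a b : X, a * b = b * a := by
  refine Group.nilpotent_center_quotient_ind
    (P := fun X _ _ => (∃ x : X, ∀ y : X, ∃ k : ℤ, ∃ c ∈ commutator X, y = x ^ k * c) →
      ∀ a b : X, a * b = b * a) X ?_ ?_
  · intro X _ _ _ a b; exact Subsingleton.elim _ _
  · intro X _ _ ih
    rintro ⟨x, hx⟩
    have h1 : ∀ a b : X ⧸ Subgroup.center X, a * b = b * a := by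
      apply ih
      refine ⟨QuotientGroup.mk x, ?_⟩
      intro y
      obtain ⟨y, rfl⟩ := QuotientGroup.mk_surjective y
      obtain ⟨k, c, hc, rfl⟩ := hx y
      refine ⟨k, QuotientGroup.mk c, ?_, by simp⟩
      have h2 : Subgroup.map (QuotientGroup.mk' (Subgroup.center X)) (commutator X)
          ≤ commutator (X ⧸ Subgroup.center X) := by
        rw [commutator_def, commutator_def, Subgroup.map_commutator]
        exact Subgroup.commutator_mono le_top le_top
      exact h2 ⟨c, hc, rfl⟩
    have h3 : commutator X ≤ Subgroup.center X := by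
      rw [commutator_def, Subgroup.commutator_le]
      intro a _ b _
      have h4 : (QuotientGroup.mk (⁅a, b⁆) : X ⧸ Subgroup.center X) = 1 := by
        have : (QuotientGroup.mk (⁅a, b⁆) : X ⧸ Subgroup.center X)
            = ⁅(QuotientGroup.mk a : X ⧸ Subgroup.center X), QuotientGroup.mk b⁆ := by
          simp [commutatorElement_def]
        rw [this, commutatorElement_eq_one_iff_mul_comm]
        exact h1 _ _
      exact (QuotientGroup.eq_one_iff _).mp h4
    intro a b
    obtain ⟨k, c, hc, rfl⟩ := hx a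
    obtain ⟨l, d, hd, rfl⟩ := hx b
    have hcz := Subgroup.mem_center_iff.mp (h3 hc)
    have hdz := Subgroup.mem_center_iff.mp (h3 hd)
    have hxx : x ^ k * x ^ l = x ^ l * x ^ k := by
      rw [← zpow_add, ← zpow_add, add_comm]
    calc x ^ k * c * (x ^ l * d) = x ^ k * (c * x ^ l) * d := by group
      _ = x ^ k * (x ^ l * c) * d := by rw [← hcz (x ^ l)]
      _ = (x ^ k * x ^ l) * (c * d) := by group
      _ = (x ^ l * x ^ k) * (d * c) := by rw [hxx, ← hcz d]
      _ = x ^ l * (x ^ k * d) * c := by group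
      _ = x ^ l * (d * x ^ k) * c := by rw [hdz (x ^ k)]
      _ = x ^ l * d * (x ^ k * c) := by group

/-- a finite `p`-group whose commutator subgroup has index at most `p` is commutative -/
theorem comm_of_index_commutator_le {p : ℕ} [hp : Fact p.Prime] (X : Type*) [Group X] [Finite X]
    (hX : IsPGroup p X) (hidx : (commutator X).index ≤ p) : ∀ a b : X, a * b = b * a := by
  have : Group.IsNilpotent X := hX.isNilpotent
  apply comm_of_generator_mod_commutator X
  have hdvd : (commutator X).index ∣ Nat.card X := Subgroup.index_dvd_card _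
  obtain ⟨n, hn⟩ := IsPGroup.iff_card.mp hX
  rw [hn] at hdvd
  obtain ⟨j, hj, hj2⟩ := (Nat.dvd_prime_pow hp.out).mp hdvd
  have hj1 : j ≤ 1 := by
    by_contra h
    have h2 : 2 ≤ j := by omega
    have : p ^ 2 ≤ p ^ j := Nat.pow_le_pow_right hp.out.pos h2
    have h3 : p < p ^ 2 := by
      have := hp.out.one_lt
      nlinarith
    omega
  have hcyc : IsCyclic (X ⧸ commutator X) := by
    have hcard : Nat.card (X ⧸ commutator X) = p ^ j := by
      rw [← hj2]; rfl
    interval_cases j
    · rw [pow_zero] at hcard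
      have : Subsingleton (X ⧸ commutator X) := (Nat.card_eq_one_iff_unique.mp hcard).1
      infer_instance
    · rw [pow_one] at hcard
      exact isCyclic_of_prime_card hcard
  obtain ⟨g, hg⟩ := IsCyclic.exists_generator (α := X ⧸ commutator X)
  obtain ⟨x, rfl⟩ := QuotientGroup.mk_surjective g
  refine ⟨x, fun y => ?_⟩
  obtain ⟨k, hk⟩ := Subgroup.mem_zpowers_iff.mp (hg (QuotientGroup.mk y))
  refine ⟨k, (x ^ k)⁻¹ * y, ?_, by group⟩
  rw [← QuotientGroup.eq]
  rw [← hk]
  simp

end Nil

section Frob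

variable {N : Type*} [Group N] [Finite N]

/-- a `q`-subgroup (`q` odd) acting fixed-point-freely on a nontrivial normal subgroup of
order prime to `q` is cyclic -/
theorem isCyclic_of_fpf {q : ℕ} [hq : Fact q.Prime] (hq2 : q ≠ 2) (K : Subgroup N) [hKn : K.Normal]
    (hK1 : K ≠ ⊥) (T : Subgroup N) (hT : IsPGroup q T) (hqK : ¬ q ∣ Nat.card K)
    (hfpf : ∀ t ∈ T, t ≠ 1 → K ⊓ Subgroup.centralizer {t} = ⊥) : IsCyclic T := by
  classical
  by_contra hnc
  obtain ⟨W, -, hWc, hWe, hWcard⟩ := Cfsg.Agent.Lib.Lead.exists_normal_elementary_sq hq2 hT hnc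
  set A : Subgroup N := W.map T.subtype with hA
  have hAT : A ≤ T := Subgroup.map_subtype_le _
  have hAcard : Nat.card A = q ^ 2 := by
    rw [hA, Subgroup.card_map_of_injective T.subtype_injective, hWcard]
  have hAc : IsMulCommutative A := by
    refine ⟨⟨?_⟩⟩
    rintro ⟨_, ⟨a, ha, rfl⟩⟩ ⟨_, ⟨b, hb, rfl⟩⟩
    apply Subtype.ext
    have := hWc.is_comm.comm ⟨a, ha⟩ ⟨b, hb⟩
    have h2 := congrArg (fun x : ↥W => ((x : ↥T) : N)) this
    simpa using h2
  have hAe : ∀ a ∈ A, a ^ q = 1 := by
    rintro _ ⟨a, ha, rfl⟩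
    have := congrArg Subtype.val (hWe a ha)
    simpa using this
  have hAnc : ¬ IsCyclic A := by
    intro hcyc
    obtain ⟨g, hg⟩ := IsCyclic.exists_generator (α := A)
    have h1 : orderOf g = Nat.card A := orderOf_eq_card_of_forall_mem_zpowers hg
    have h2 : g ^ q = 1 := Subtype.ext (by simpa using hAe g.1 g.2)
    have h3 : orderOf g ∣ q := orderOf_dvd_of_pow_eq_one h2
    rw [h1, hAcard] at h3
    have h4 := Nat.le_of_dvd hq.out.pos h3
    have := hq.out.one_lt
    nlinarith
  have hAK : A ≤ Subgroup.normalizer (K : Set N) := by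
    rw [Subgroup.normalizer_eq_top_iff.mpr hKn]
    exact le_top
  have hcop : (Nat.card A).Coprime (Nat.card K) := by
    rw [hAcard]
    exact Nat.Coprime.pow_left 2 ((Nat.Prime.coprime_iff_not_dvd hq.out).mpr hqK)
  have hgen := Cfsg.Agent.Lib.Lead.generated_by_centralizers A K hAnc hAK hcop
  apply hK1
  rw [← hgen, eq_bot_iff]
  apply iSup₂_le
  rintro a ⟨haA, ha1⟩
  rw [hfpf a (hAT haA) ha1]

/-- in a Frobenius group of odd order the index of the kernel divides the exponent of the
quotient by the kernel -/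
theorem index_dvd_exponent (K : Subgroup N) [hKn : K.Normal] (hK1 : K ≠ ⊥)
    (hodd : Odd (Nat.card N))
    (hC : ∀ k ∈ K, k ≠ 1 → Subgroup.centralizer ({k} : Set N) ≤ K) :
    K.index ∣ Monoid.exponent (N ⧸ K) := by
  classical
  have hcop := Cfsg.Agent.Lib.Helper4.FrobTI.coprime_card_index K hC
  have hexp0 : Monoid.exponent (N ⧸ K) ≠ 0 := Monoid.exponent_ne_zero_of_finite
  have hidx0 : K.index ≠ 0 := Subgroup.index_ne_zero_of_finite
  rw [← Nat.factorization_prime_le_iff_dvd hidx0 hexp0]
  intro q hq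
  have : Fact q.Prime := ⟨hq⟩
  by_cases hqi : q ∣ K.index
  swap
  · rw [Nat.factorization_eq_zero_of_not_dvd hqi]; exact Nat.zero_le _
  have hqK : ¬ q ∣ Nat.card K := by
    intro h
    have := Nat.dvd_gcd h hqi
    rw [hcop] at this
    exact hq.one_lt.ne' (Nat.dvd_one.mp this)
  have hq2 : q ≠ 2 := by
    rintro rfl
    have h2 : 2 ∣ Nat.card N := by
      rw [← Subgroup.card_mul_index K]
      exact Dvd.dvd.mul_left hqi _
    exact (Nat.not_even_iff_odd.mpr hodd) (even_iff_two_dvd.mpr h2)
  obtain T : Sylow q N := default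
  have hTK : (T : Subgroup N) ⊓ K = ⊥ := by
    refine (Subgroup.disjoint_of_coprime_natCard ?_).eq_bot
    obtain ⟨n, hn⟩ := IsPGroup.iff_card.mp T.2
    rw [hn]
    exact Nat.Coprime.pow_left n ((Nat.Prime.coprime_iff_not_dvd hq).mpr hqK)
  have hfpf : ∀ t ∈ (T : Subgroup N), t ≠ 1 → K ⊓ Subgroup.centralizer {t} = ⊥ := by
    intro t ht ht1
    rw [eq_bot_iff]
    intro k hk
    rw [Subgroup.mem_bot]
    by_contra hk1
    have h1 : t ∈ Subgroup.centralizer ({k} : Set N) := by
      rw [Subgroup.mem_centralizer_iff]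
      intro y hy
      rw [Set.mem_singleton_iff] at hy
      rw [hy]
      have := Subgroup.mem_centralizer_iff.mp hk.2 t (Set.mem_singleton t)
      exact this.symm
    have h2 : t ∈ (T : Subgroup N) ⊓ K := ⟨ht, hC k hk.1 hk1 h1⟩
    rw [hTK, Subgroup.mem_bot] at h2
    exact ht1 h2
  have hcyc : IsCyclic (T : Subgroup N) := isCyclic_of_fpf hq2 K hK1 T T.2 hqK hfpf
  obtain ⟨g, hg⟩ := IsCyclic.exists_generator (α := (T : Subgroup N))
  have h1 : orderOf g = Nat.card (T : Subgroup N) := orderOf_eq_card_of_forall_mem_zpowers hg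
  have h2 : Nat.card (T : Subgroup N) = q ^ (Nat.card N).factorization q := T.card_eq_multiplicity
  have h3 : (Nat.card N).factorization q = K.index.factorization q := by
    rw [← Subgroup.card_mul_index K, Nat.factorization_mul Nat.card_pos.ne' hidx0]
    simp [Nat.factorization_eq_zero_of_not_dvd hqK]
  have h4 : orderOf (g : N) ∣ orderOf (QuotientGroup.mk (g : N) : N ⧸ K) := by
    apply orderOf_dvd_of_pow_eq_one
    have h5 : (QuotientGroup.mk ((g : N) ^ orderOf (QuotientGroup.mk (g : N) : N ⧸ K)) : N ⧸ K) = 1 := by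
      rw [QuotientGroup.mk_pow, pow_orderOf_eq_one]
    have h6 : (g : N) ^ orderOf (QuotientGroup.mk (g : N) : N ⧸ K) ∈ (T : Subgroup N) ⊓ K :=
      ⟨Subgroup.pow_mem _ g.2 _, (QuotientGroup.eq_one_iff _).mp h5⟩
    rw [hTK, Subgroup.mem_bot] at h6
    exact h6
  have h7 : q ^ K.index.factorization q ∣ Monoid.exponent (N ⧸ K) := by
    rw [← h3, ← h2, ← h1, ← Subgroup.orderOf_coe]
    exact h4.trans (Monoid.order_dvd_exponent _)
  exact (Nat.Prime.pow_dvd_iff_le_factorization hq hexp0).mp h7

end Frob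

end Cfsg.Agent.Lib.Helper8.PFb
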