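import Mathlib
import Cfsg.Agent.Lib.Helper8.PFa
import Cfsg.Agent.Lib.Helper8.PFb
import Cfsg.Agent.Lib.Helper4.PF7d
import Cfsg.Agent.Lib.Helper4.PF8g
import Cfsg.Agent.Lib.Helper4.BG8a
import Cfsg.Agent.S1537

set_option autoImplicit false
set_option linter.unusedSectionVars false
set_option linter.unusedVariables false
set_option maxHeartbeats 800000

/-!
# Peterfalvi: coherence for a maximal subgroup of Type I which is a Frobenius group
-/

namespace Cfsg.Agent.Lib.Helper8.PFc

open Cfsg Cfsg.Agent.Lib.Helper4 Cfsg.Agent.Lib.Helper8.PFa Cfsg.Agent.Lib.Helper8.PFb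

section Transport

variable {G : Type*} [Group G] [Fintype G]

/-- transport of coherence along an equality of subgroups -/
theorem coherent_transport {L N : Subgroup G} [iL : Fintype L] [iN : Fintype N] (h : N = L)
    (K : Subgroup G)
    (hc : IsCoherent (inducedIrrAbove (K.subgroupOf N) ⊥) {1}ᶜ (fun α => indFun N α)) :
    IsCoherent (inducedIrrAbove (K.subgroupOf L) ⊥) {1}ᶜ (fun α => indFun L α) := by
  subst h
  have : iL = iN := Subsingleton.elim _ _
  subst this
  exact hc

/-- replacing the map in a coherence statement by one agreeing on the relevant span -/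
theorem coherent_congr {L : Type*} [Group L] [Fintype L] {S : Set (L → ℂ)} {A : Set L}
    {τ τ' : (L → ℂ) → (G → ℂ)} (hc : IsCoherent S A τ) (h : ∀ α ∈ zspanOn S A, τ α = τ' α) :
    IsCoherent S A τ' := by
  obtain ⟨h1, τ₁, h2, h3⟩ := hc
  exact ⟨h1, τ₁, h2, fun α hα => (h3 α hα).trans (h α hα)⟩

end Transport

section Main

variable {G : Type*} [Group G] [Fintype G]

theorem mem_fittingHallOf_iff (L : Subgroup G) (x : L) :
    (x : G) ∈ fittingHallOf L ↔ x ∈ fittingHall L := by
  unfold fittingHallOf
  constructor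
  · rintro ⟨y, hy, hyx⟩
    have : y = x := Subtype.ext hyx
    rwa [← this]
  · intro h
    exact ⟨x, h, rfl⟩

theorem fittingHallOf_le (L : Subgroup G) : fittingHallOf L ≤ L := by
  unfold fittingHallOf
  exact Subgroup.map_subtype_le _

theorem subgroupOf_fittingHallOf (L : Subgroup G) :
    (fittingHallOf L).subgroupOf L = fittingHall L := by
  ext x
  rw [Subgroup.mem_subgroupOf, mem_fittingHallOf_iff]

theorem result_aux (hG : IsMinSimpleOddOrder G) (L : Subgroup G) [Fintype L] (hL : IsCoatom L)
    (hI : IsOfTypeI L)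
    (hfrob : ∀ x ∈ fittingHallOf L, x ≠ 1 →
      L ⊓ Subgroup.centralizer ({x} : Set G) ≤ fittingHallOf L) :
    (∀ χ ∈ inducedIrrAbove (fittingHall L) ⊥, IsIrrCharacter L χ) ∧
      IsCoherent (inducedIrrAbove (fittingHall L) ⊥) {1}ᶜ
        (dadeIsometry (typeA L) L (supportR L)) := by
  classical
  have hIorig := hI
  obtain ⟨hF, hcases⟩ := hI
  obtain ⟨hsolv, hodd, hH1, hH2, -⟩ := hF
  have : Fintype (fittingHall L) := Fintype.ofFinite _
  -- the Frobenius condition inside `L`
  have hC : ∀ h ∈ fittingHall L, h ≠ 1 →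
      Subgroup.centralizer ({h} : Set L) ≤ fittingHall L := by
    intro h hh hh1 c hc
    rw [← mem_fittingHallOf_iff]
    apply hfrob (h : G) ((mem_fittingHallOf_iff L h).mpr hh)
      (fun h0 => hh1 (Subtype.ext h0))
    refine ⟨c.2, ?_⟩
    show (c : G) ∈ Subgroup.centralizer ({(h : G)} : Set G)
    rw [Subgroup.mem_centralizer_iff]
    intro y hy
    rw [Set.mem_singleton_iff] at hy
    rw [hy]
    have := Subgroup.mem_centralizer_iff.mp hc h (Set.mem_singleton h)
    exact congrArg Subtype.val this
  have hirr := PF7.frob_irr (fittingHall L) hC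
  refine ⟨hirr, ?_⟩
  -- the set `A(L)`
  have hA : typeA L = {a | a ∈ fittingHallOf L ∧ a ≠ 1} := by
    unfold typeA
    rw [if_pos hIorig]
    ext a
    constructor
    · rintro ⟨haL, ha1, x, hx, hx1, hax⟩
      refine ⟨hfrob x hx hx1 ⟨haL, ?_⟩, ha1⟩
      show a ∈ Subgroup.centralizer ({x} : Set G)
      rw [Subgroup.mem_centralizer_iff]
      intro y hy
      rw [Set.mem_singleton_iff] at hy
      rw [hy]
      exact hax.symm
    · rintro ⟨ha, ha1⟩
      exact ⟨fittingHallOf_le L ha, ha1, a, ha, ha1, rfl⟩
  have hD := (Cfsg.Agent.S1537.result hG L hL (typeA L) (Or.inr (Or.inl rfl))).2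
  -- the isometry property
  have hE : ∀ α ∈ zspanOn (inducedIrrAbove (fittingHall L) ⊥) ({1}ᶜ : Set L),
      IsGeneralizedCharacter L α ∧ ∀ x : L, (x : G) ∉ typeA L → α x = 0 := by
    intro α hα
    obtain ⟨h1, h2⟩ := zspan_induced_props (fittingHall L) hα.1
    refine ⟨h1, fun x hx => ?_⟩
    by_cases hx1 : x = 1
    · exact hα.2 x (by simp [hx1])
    · apply h2
      intro hxH
      apply hx
      rw [hA]
      exact ⟨(mem_fittingHallOf_iff L x).mpr hxH, fun h0 => hx1 (Subtype.ext h0)⟩
  obtain ⟨hτ, hτ1⟩ := dade_lio hD _ hE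
  -- parity
  have hoddL : Odd (Nat.card L) := hodd
  have he : Nat.card (fittingHall L) ≠ (fittingHall L).index + 1 := by
    intro h
    have h1 := Subgroup.card_mul_index (fittingHall L)
    have h23 : Odd (Nat.card (fittingHall L)) ∧ Odd (fittingHall L).index := by
      rw [← Nat.odd_mul, h1]; exact hoddL
    obtain ⟨h2, h3⟩ := h23
    rw [h] at h2
    exact (Nat.not_even_iff_odd.mpr h2) (Odd.add_odd h3 odd_one)
  rcases PF7.feit_frobenius (fittingHall L) hH1 hH2 hC he _ hτ hτ1 with
    h | ⟨⟨p, hp, m, hm⟩, hnab, hbound⟩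
  · exact h
  have : Fact p.Prime := ⟨hp⟩
  have hm0 : m ≠ 0 := by
    rintro rfl
    rw [pow_zero] at hm
    exact hH1 ((Subgroup.eq_bot_iff_card _).mpr hm)
  have hKp' : IsPGroup p (fittingHall L) := IsPGroup.of_card hm
  have hcardK : Nat.card (fittingHallOf L) = Nat.card (fittingHall L) := by
    unfold fittingHallOf
    exact Subgroup.card_map_of_injective L.subtype_injective
  -- `|H : H'| ≥ p ^ 2`
  have hsq : p ^ 2 ≤ (⁅fittingHall L, fittingHall L⁆).relIndex (fittingHall L) := by
    by_contra hlt
    push Not at hlt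
    apply hnab
    have hidx : (commutator (fittingHall L)).index ≤ p := by
      have h1 : (⁅fittingHall L, fittingHall L⁆).relIndex (fittingHall L)
          = (commutator (fittingHall L)).index := by
        have h2 := Subgroup.relIndex_map_map_of_injective (commutator (fittingHall L)) ⊤
          (Subgroup.subtype_injective (fittingHall L))
        rw [commutator_def, Subgroup.map_commutator, ← MonoidHom.range_eq_map,
          Subgroup.range_subtype, Subgroup.relIndex_top_right] at h2
        rw [commutator_def]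
        exact h2
      rw [← h1]
      have hdvd : (⁅fittingHall L, fittingHall L⁆).relIndex (fittingHall L) ∣ p ^ m := by
        rw [← hm]; exact Subgroup.relIndex_dvd_card _ _
      obtain ⟨j, -, hj⟩ := (Nat.dvd_prime_pow hp).mp hdvd
      rw [hj] at hlt ⊢
      have hj1 : j < 2 := (Nat.pow_lt_pow_iff_right hp.one_lt).mp hlt
      calc p ^ j ≤ p ^ 1 := Nat.pow_le_pow_right hp.pos (by omega)
        _ = p := pow_one p
    have hcomm := comm_of_index_commutator_le (p := p) (fittingHall L) hKp' hidx
    rw [Subgroup.commutator_eq_bot_iff_le_centralizer]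
    intro a ha
    rw [Subgroup.mem_centralizer_iff]
    intro b hb
    have := hcomm ⟨b, hb⟩ ⟨a, ha⟩
    exact congrArg Subtype.val this
  rcases hcases with hTI | ⟨hab, -, -⟩ | ⟨hexp, -⟩
  · -- the TI case: Sibley's theorem
    have hK1 : fittingHallOf L ≠ ⊥ := by
      intro h
      apply hH1
      rw [← subgroupOf_fittingHallOf, h]
      exact Subgroup.bot_subgroupOf L
    have hKL : fittingHallOf L ≤ L := fittingHallOf_le L
    have hLn : L ≤ Subgroup.normalizer ((fittingHallOf L : Subgroup G) : Set G) := by
      intro l hl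
      rw [Subgroup.mem_normalizer_iff]
      intro x
      have key : ∀ (l : G) (hl : l ∈ L) (x : G), x ∈ fittingHallOf L →
          l * x * l⁻¹ ∈ fittingHallOf L := by
        intro l hl x hx
        have hxL := hKL hx
        have h1 : (⟨x, hxL⟩ : L) ∈ fittingHall L := (mem_fittingHallOf_iff L ⟨x, hxL⟩).mp hx
        have h2 := (fittingHall_normal L).conj_mem _ h1 ⟨l, hl⟩
        exact (mem_fittingHallOf_iff L _).mpr h2
      constructor
      · exact key l hl x
      · intro h
        have := key l⁻¹ (Subgroup.inv_mem _ hl) _ h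
        simpa [mul_assoc] using this
    have hN : Subgroup.normalizer ((fittingHallOf L : Subgroup G) : Set G) = L :=
      Cfsg.Agent.Lib.Helper4.BG8.normalizer_eq_of_isCoatom hG hL hK1 hKL hLn
    have hKp : IsPGroup p (fittingHallOf L) := IsPGroup.of_card (hcardK.trans hm)
    have hcopr := Cfsg.Agent.Lib.Helper4.FrobTI.coprime_card_index (fittingHall L) hC
    have hcop : ¬ p ∣ ((fittingHallOf L).subgroupOf
        (Subgroup.normalizer ((fittingHallOf L : Subgroup G) : Set G))).index := by
      rw [hN, subgroupOf_fittingHallOf]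
      intro hdvd
      have h2 : p ∣ Nat.gcd (Nat.card (fittingHall L)) (fittingHall L).index :=
        Nat.dvd_gcd (hm ▸ dvd_pow_self p hm0) hdvd
      rw [hcopr] at h2
      exact hp.one_lt.ne' (Nat.dvd_one.mp h2)
    obtain ⟨P, hP⟩ := Cfsg.Agent.Lib.Helper4.PF8.sylow_of_normalizer p (fittingHallOf L) hKp hcop
    have hp2 : p ≠ 2 := by
      rintro rfl
      have h2 : 2 ∣ Nat.card L := by
        rw [← Subgroup.card_mul_index (fittingHall L), hm]
        exact Dvd.dvd.mul_right (dvd_pow_self 2 hm0) _
      exact (Nat.not_even_iff_odd.mpr hoddL) (even_iff_two_dvd.mpr h2)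
    have hna : ¬ IsMulCommutative (P : Subgroup G) := by
      rw [hP]
      intro hc
      apply hnab
      rw [Subgroup.commutator_eq_bot_iff_le_centralizer]
      intro a ha
      rw [Subgroup.mem_centralizer_iff]
      intro b hb
      have ha' := (mem_fittingHallOf_iff L a).mpr ha
      have hb' := (mem_fittingHallOf_iff L b).mpr hb
      have := hc.is_comm.comm (⟨b.1, hb'⟩ : ↥(fittingHallOf L)) ⟨a.1, ha'⟩
      have h2 : (b : G) * (a : G) = (a : G) * (b : G) := congrArg Subtype.val this
      exact Subtype.ext h2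
    have hTI' : IsTISubset ((P : Subgroup G) : Set G) := by rw [hP]; exact hTI
    have hlt : (P : Subgroup G) < Subgroup.normalizer ((P : Subgroup G) : Set G) := by
      rw [hP, hN]
      refine lt_of_le_of_ne hKL ?_
      intro heq
      apply hH2
      rw [← subgroupOf_fittingHallOf, heq]
      exact Subgroup.subgroupOf_self L
    have hCG : ∀ k ∈ (P : Subgroup G), k ≠ 1 →
        Subgroup.centralizer ({k} : Set G) ≤ (P : Subgroup G) := by
      rw [hP]
      intro k hk hk1 c hc
      have hcN : c ∈ Subgroup.normalizer ((fittingHallOf L : Subgroup G) : Set G) := by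
        by_contra hcn
        apply hk1
        apply hTI c hcn k hk
        have := Subgroup.mem_centralizer_iff.mp hc k (Set.mem_singleton k)
        rw [← this]
        simpa using hk
      rw [hN] at hcN
      exact hfrob k hk hk1 ⟨hcN, hc⟩
    have : Fintype ↥(Subgroup.normalizer ((P : Subgroup G) : Set G)) := Fintype.ofFinite _
    have hsib := Cfsg.Agent.Lib.Helper4.PF8.sibley_sylow p hp2 P hna hTI' hlt hCG
    have hNP : Subgroup.normalizer ((P : Subgroup G) : Set G) = L := by rw [hP]; exact hN
    have hcoh := coherent_transport hNP (P : Subgroup G) hsib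
    rw [hP, subgroupOf_fittingHallOf] at hcoh
    refine coherent_congr hcoh ?_
    intro α hα
    obtain ⟨hαg, hαv⟩ := hE α hα
    symm
    apply dade_eq_indFun hD _ α (isGenChar_isClassFunction hαg) hαv
    intro a ha
    rw [hA] at ha
    unfold supportR
    rw [dif_neg]
    rintro ⟨hnle, -⟩
    apply hnle
    intro c hc
    have hcN : c ∈ Subgroup.normalizer ((fittingHallOf L : Subgroup G) : Set G) := by
      by_contra hcn
      apply ha.2
      apply hTI c hcn a ha.1
      have := Subgroup.mem_centralizer_iff.mp hc a (Set.mem_singleton a)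
      rw [← this]
      simpa using ha.1
    rw [hN] at hcN
    exact hcN
  · -- abelian kernel: impossible
    exfalso
    apply hnab
    rw [Subgroup.commutator_eq_bot_iff_le_centralizer]
    intro a ha
    rw [Subgroup.mem_centralizer_iff]
    intro b hb
    have ha' := (mem_fittingHallOf_iff L a).mpr ha
    have hb' := (mem_fittingHallOf_iff L b).mpr hb
    have := hab.is_comm.comm (⟨b.1, hb'⟩ : ↥(fittingHallOf L)) ⟨a.1, ha'⟩
    have h2 : (b : G) * (a : G) = (a : G) * (b : G) := congrArg Subtype.val this
    exact Subtype.ext h2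
  · -- exponent condition: arithmetic contradiction
    exfalso
    have hpd : p ∣ Nat.card (fittingHallOf L) := by
      rw [hcardK, hm]; exact dvd_pow_self p hm0
    have h1 := hexp p hp hpd
    have h2 := index_dvd_exponent (fittingHall L) hH1 hoddL hC
    have h3 : (fittingHall L).index ∣ p - 1 := h2.trans h1
    have hp1 : 0 < p - 1 := by have := hp.one_lt; omega
    have h4 : (fittingHall L).index ≤ p - 1 := Nat.le_of_dvd hp1 h3
    have hoddI : Odd (fittingHall L).index := by
      have h23 : Odd (Nat.card (fittingHall L)) ∧ Odd (fittingHall L).index := by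
        rw [← Nat.odd_mul, Subgroup.card_mul_index]; exact hoddL
      exact h23.2
    have hp2 : p ≠ 2 := by
      rintro rfl
      have h2 : 2 ∣ Nat.card L := by
        rw [← Subgroup.card_mul_index (fittingHall L), hm]
        exact Dvd.dvd.mul_right (dvd_pow_self 2 hm0) _
      exact (Nat.not_even_iff_odd.mpr hoddL) (even_iff_two_dvd.mpr h2)
    have hpodd : Odd p := hp.odd_of_ne_two hp2
    -- `2 e ≤ p - 1`
    obtain ⟨c, hc⟩ := h3
    obtain ⟨a, ha⟩ := hoddI
    obtain ⟨b, hb⟩ := hpodd
    have hceven : 2 ≤ c := by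
      rcases Nat.even_or_odd c with ⟨d, hd⟩ | ⟨d, hd⟩
      · have : c ≠ 0 := by
          rintro rfl
          omega
        omega
      · exfalso
        have : p - 1 = 2 * b := by omega
        rw [this, ha, hd] at hc
        have : (2 * a + 1) * (2 * d + 1) = 2 * (2 * a * d + a + d) + 1 := by ring
        omega
    have h5 : 2 * (fittingHall L).index ≤ p - 1 := by
      rw [hc]
      calc 2 * (fittingHall L).index = (fittingHall L).index * 2 := by ring
        _ ≤ (fittingHall L).index * c := Nat.mul_le_mul_left _ hceven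
    have h6 : 4 * (fittingHall L).index ^ 2 + 1 < p ^ 2 := by
      have h7 : (2 * (fittingHall L).index) ^ 2 ≤ (p - 1) ^ 2 := Nat.pow_le_pow_left h5 2
      have h8 : (p - 1) ^ 2 + 1 < p ^ 2 := by
        obtain ⟨k, rfl⟩ : ∃ k, p = k + 2 := ⟨p - 2, by have := hp.two_le; omega⟩
        simp only [show k + 2 - 1 = k + 1 by omega]
        ring_nf
        omega
      calc 4 * (fittingHall L).index ^ 2 + 1 = (2 * (fittingHall L).index) ^ 2 + 1 := by ring
        _ ≤ (p - 1) ^ 2 + 1 := by omega
        _ < p ^ 2 := h8
    omega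

end Main

end Cfsg.Agent.Lib.Helper8.PFc
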