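import Mathlib

set_option autoImplicit false

/-!
# Power graphs: comparability, cyclic subgroups
-/

namespace Cfsg.Agent.Lib.Helper8.PG

variable {G : Type*} [Group G]

/-- comparability in the power graph -/
def R (x y : G) : Prop := x ∈ Subgroup.zpowers y ∨ y ∈ Subgroup.zpowers x

theorem R_comm {x y : G} : R x y ↔ R y x := or_comm

theorem R_self (x : G) : R x x := Or.inl (Subgroup.mem_zpowers x)

theorem R_one_left (x : G) : R 1 x := Or.inl (one_mem _)

theorem R_one_right (x : G) : R x 1 := Or.inr (one_mem _)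

/-- twins: same closed neighbourhood -/
def Tw (x y : G) : Prop := ∀ v : G, R x v ↔ R y v

theorem Tw.symm {x y : G} (h : Tw x y) : Tw y x := fun v => (h v).symm

theorem Tw.R {x y : G} (h : Tw x y) : R x y := (h y).mpr (R_self y)

theorem mem_zpowers_trans {x y z : G} (h1 : x ∈ Subgroup.zpowers y)
    (h2 : y ∈ Subgroup.zpowers z) : x ∈ Subgroup.zpowers z :=
  (Subgroup.zpowers_le.mpr h2) h1

theorem Tw_of_zpowers_eq {x y : G} (h : Subgroup.zpowers x = Subgroup.zpowers y) : Tw x y := by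
  intro v
  have hxy : x ∈ Subgroup.zpowers y := h ▸ Subgroup.mem_zpowers x
  have hyx : y ∈ Subgroup.zpowers x := h.symm ▸ Subgroup.mem_zpowers y
  constructor
  · rintro (h1 | h1)
    · exact Or.inl (mem_zpowers_trans hyx h1)
    · exact Or.inr (mem_zpowers_trans h1 hxy)
  · rintro (h1 | h1)
    · exact Or.inl (mem_zpowers_trans hxy h1)
    · exact Or.inr (mem_zpowers_trans h1 hyx)

theorem zpowers_eq_of_mem {x y : G} (h1 : x ∈ Subgroup.zpowers y) (h2 : y ∈ Subgroup.zpowers x) :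
    Subgroup.zpowers x = Subgroup.zpowers y :=
  le_antisymm (Subgroup.zpowers_le.mpr h1) (Subgroup.zpowers_le.mpr h2)

/-- In a finite cyclic group, an element whose order divides the order of `u` is a power of
`u`. -/
theorem mem_zpowers_of_dvd_aux {Y : Type*} [Group Y] [Finite Y] [IsCyclic Y] (u v : Y)
    (h : orderOf v ∣ orderOf u) : v ∈ Subgroup.zpowers u := by
  classical
  haveI := Fintype.ofFinite Y
  set d := orderOf u with hd
  have hdpos : 0 < d := orderOf_pos u
  have h1 := IsCyclic.card_pow_eq_one_le (α := Y) hdpos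
  set F := Finset.univ.filter (fun b : Y => b ^ d = 1) with hF
  set Z : Finset Y := (Subgroup.zpowers u : Set Y).toFinset with hZ
  have hZF : Z ⊆ F := by
    intro b hb
    rw [hZ, Set.mem_toFinset] at hb
    rw [hF, Finset.mem_filter]
    refine ⟨Finset.mem_univ _, ?_⟩
    obtain ⟨i, rfl⟩ := Subgroup.mem_zpowers_iff.mp hb
    rw [← zpow_natCast, ← zpow_mul, mul_comm, zpow_mul, zpow_natCast, hd, pow_orderOf_eq_one,
      one_zpow]
  have hZcard : Z.card = d := by
    rw [hZ, Set.toFinset_card, ← Nat.card_eq_fintype_card]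
    exact Nat.card_zpowers u
  have hFZ : F = Z := (Finset.eq_of_subset_of_card_le hZF (by rw [hZcard]; exact h1)).symm
  have hvF : v ∈ F := by
    rw [hF, Finset.mem_filter]
    refine ⟨Finset.mem_univ _, ?_⟩
    exact orderOf_dvd_iff_pow_eq_one.mp h
  rw [hFZ, hZ, Set.mem_toFinset] at hvF
  exact hvF

/-- inside a finite cyclic subgroup, divisibility of orders gives membership -/
theorem mem_zpowers_of_dvd [Finite G] {w u v : G} (hu : u ∈ Subgroup.zpowers w)
    (hv : v ∈ Subgroup.zpowers w) (h : orderOf v ∣ orderOf u) : v ∈ Subgroup.zpowers u := by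
  have h' : orderOf (⟨v, hv⟩ : Subgroup.zpowers w) ∣ orderOf (⟨u, hu⟩ : Subgroup.zpowers w) := by
    rw [← Subgroup.orderOf_coe, ← Subgroup.orderOf_coe]
    exact h
  have := mem_zpowers_of_dvd_aux (⟨u, hu⟩ : Subgroup.zpowers w) ⟨v, hv⟩ h'
  obtain ⟨i, hi⟩ := Subgroup.mem_zpowers_iff.mp this
  rw [Subgroup.mem_zpowers_iff]
  refine ⟨i, ?_⟩
  have := congrArg Subtype.val hi
  simpa using this

theorem mem_zpowers_iff_dvd [Finite G] {w u v : G} (hu : u ∈ Subgroup.zpowers w)
    (hv : v ∈ Subgroup.zpowers w) : v ∈ Subgroup.zpowers u ↔ orderOf v ∣ orderOf u :=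
  ⟨orderOf_dvd_of_mem_zpowers, mem_zpowers_of_dvd hu hv⟩

theorem R_iff_dvd [Finite G] {w u v : G} (hu : u ∈ Subgroup.zpowers w)
    (hv : v ∈ Subgroup.zpowers w) : R u v ↔ orderOf u ∣ orderOf v ∨ orderOf v ∣ orderOf u := by
  unfold R
  rw [mem_zpowers_iff_dvd hv hu, mem_zpowers_iff_dvd hu hv]

/-- in a cyclic group of prime power order any two elements are comparable -/
theorem R_of_prime_pow [Finite G] {w u v : G} {r k : ℕ} (hr : r.Prime)
    (hw : orderOf w = r ^ k) (hu : u ∈ Subgroup.zpowers w) (hv : v ∈ Subgroup.zpowers w) :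
    R u v := by
  rw [R_iff_dvd hu hv]
  have h1 : orderOf u ∣ r ^ k := hw ▸ orderOf_dvd_of_mem_zpowers hu
  have h2 : orderOf v ∣ r ^ k := hw ▸ orderOf_dvd_of_mem_zpowers hv
  obtain ⟨i, -, hi⟩ := (Nat.dvd_prime_pow hr).mp h1
  obtain ⟨j, -, hj⟩ := (Nat.dvd_prime_pow hr).mp h2
  rw [hi, hj]
  rcases le_total i j with h | h
  · exact Or.inl (pow_dvd_pow r h)
  · exact Or.inr (pow_dvd_pow r h)

/-- the `r`-primary part of `x` -/
noncomputable def ppart (x : G) (r : ℕ) : G := x ^ (ordCompl[r] (orderOf x))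

theorem ppart_mem (x : G) (r : ℕ) : ppart x r ∈ Subgroup.zpowers x :=
  Subgroup.npow_mem_zpowers x _

theorem orderOf_ppart [Finite G] (x : G) (r : ℕ) :
    orderOf (ppart x r) = ordProj[r] (orderOf x) := by
  have hn : orderOf x ≠ 0 := (orderOf_pos x).ne'
  have hdvd : ordCompl[r] (orderOf x) ∣ orderOf x := Nat.ordCompl_dvd _ _
  have hne : ordCompl[r] (orderOf x) ≠ 0 := (Nat.ordCompl_pos r hn).ne'
  unfold ppart
  rw [orderOf_pow_of_dvd hne hdvd]
  have h1 : ordProj[r] (orderOf x) * ordCompl[r] (orderOf x) = orderOf x :=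
    Nat.ordProj_mul_ordCompl_eq_self _ _
  exact Nat.div_eq_of_eq_mul_left (Nat.pos_of_ne_zero hne) h1.symm

/-- a number which is neither `1` nor a prime power has, besides any given prime, another prime
divisor -/
theorem exists_other_prime {n : ℕ} (hn1 : n ≠ 1) (hpp : ¬ IsPrimePow n) (r : ℕ) :
    ∃ s : ℕ, s.Prime ∧ s ∣ n ∧ s ≠ r := by
  by_contra hcon
  push Not at hcon
  apply hpp
  rw [isPrimePow_iff_unique_prime_dvd]
  obtain ⟨s, hs, hsn⟩ := Nat.exists_prime_and_dvd hn1
  have hsr : s = r := hcon s hs hsn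
  refine ⟨s, ⟨hs, hsn⟩, ?_⟩
  rintro t ⟨ht, htn⟩
  rw [hsr]
  exact hcon t ht htn

end Cfsg.Agent.Lib.Helper8.PG
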