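import Mathlib
import Cfsg.Agent.Lib.Helper8.PG1

set_option autoImplicit false

/-!
# Power graphs: non-comparable primary parts, twins of elements of non-prime-power order
-/

namespace Cfsg.Agent.Lib.Helper8.PG

variable {G : Type*} [Group G]

/-- primary parts for distinct primes dividing the order are not comparable -/
theorem not_R_ppart [Finite G] (x : G) {r s : ℕ} (hr : r.Prime) (hs : s.Prime) (hrs : r ≠ s)
    (hrx : r ∣ orderOf x) (hsx : s ∣ orderOf x) : ¬ R (ppart x r) (ppart x s) := by
  have hn : orderOf x ≠ 0 := (orderOf_pos x).ne'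
  have h1 : orderOf (ppart x r) = r ^ (orderOf x).factorization r := orderOf_ppart x r
  have h2 : orderOf (ppart x s) = s ^ (orderOf x).factorization s := orderOf_ppart x s
  have hkr : 0 < (orderOf x).factorization r := hr.factorization_pos_of_dvd hn hrx
  have hks : 0 < (orderOf x).factorization s := hs.factorization_pos_of_dvd hn hsx
  rintro (h | h)
  · have := orderOf_dvd_of_mem_zpowers h
    rw [h1, h2] at this
    have h3 : r ∣ s ^ (orderOf x).factorization s := (dvd_pow_self r hkr.ne').trans this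
    exact hrs ((Nat.prime_dvd_prime_iff_eq hr hs).mp (hr.dvd_of_dvd_pow h3))
  · have := orderOf_dvd_of_mem_zpowers h
    rw [h1, h2] at this
    have h3 : s ∣ r ^ (orderOf x).factorization r := (dvd_pow_self s hks.ne').trans this
    exact hrs ((Nat.prime_dvd_prime_iff_eq hs hr).mp (hs.dvd_of_dvd_pow h3)).symm

/-- a proper nontrivial element of a cyclic group of non-prime-power order is not comparable to
some primary part of the generator -/
theorem exists_not_R_ppart [Finite G] {x d : G} (hn : ¬ IsPrimePow (orderOf x))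
    (hd : d ∈ Subgroup.zpowers x) (hd1 : d ≠ 1) (hdx : x ∉ Subgroup.zpowers d) :
    ∃ r : ℕ, r.Prime ∧ r ∣ orderOf x ∧ ¬ R d (ppart x r) := by
  have hn0 : orderOf x ≠ 0 := (orderOf_pos x).ne'
  have hδ0 : orderOf d ≠ 0 := (orderOf_pos d).ne'
  have hδn : orderOf d ∣ orderOf x := orderOf_dvd_of_mem_zpowers hd
  have hnδ : ¬ orderOf x ∣ orderOf d := fun h =>
    hdx (mem_zpowers_of_dvd hd (Subgroup.mem_zpowers x) h)
  have hx1 : orderOf x ≠ 1 := by
    intro h
    apply hnδ
    rw [h]; exact one_dvd _
  -- a prime with smaller exponent in `δ`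
  obtain ⟨r, hr⟩ : ∃ r : ℕ, (orderOf d).factorization r < (orderOf x).factorization r := by
    by_contra hcon
    push Not at hcon
    apply hnδ
    rw [← Nat.factorization_le_iff_dvd hn0 hδ0]
    intro r
    exact hcon r
  have hrpos : 0 < (orderOf x).factorization r := lt_of_le_of_lt (Nat.zero_le _) hr
  have hrprime : r.Prime := by
    by_contra hnp
    rw [Nat.factorization_eq_zero_of_not_prime _ hnp] at hrpos
    exact lt_irrefl 0 hrpos
  have hrn : r ∣ orderOf x := Nat.dvd_of_factorization_pos hrpos.ne'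
  have ho : orderOf (ppart x r) = r ^ (orderOf x).factorization r := orderOf_ppart x r
  have hnot1 : ppart x r ∉ Subgroup.zpowers d := by
    intro h
    have h1 := orderOf_dvd_of_mem_zpowers h
    rw [ho] at h1
    have := (hrprime.pow_dvd_iff_le_factorization hδ0).mp h1
    omega
  by_cases hmem : d ∈ Subgroup.zpowers (ppart x r)
  · -- `d` is an `r`-element; use another prime
    have h1 := orderOf_dvd_of_mem_zpowers hmem
    rw [ho] at h1
    obtain ⟨j, -, hj⟩ := (Nat.dvd_prime_pow hrprime).mp h1
    have hj0 : j ≠ 0 := by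
      rintro rfl
      rw [pow_zero] at hj
      exact hd1 (orderOf_eq_one_iff.mp hj)
    obtain ⟨s, hs, hsn, hsr⟩ := exists_other_prime hx1 hn r
    refine ⟨s, hs, hsn, ?_⟩
    have hos : orderOf (ppart x s) = s ^ (orderOf x).factorization s := orderOf_ppart x s
    have hks : 0 < (orderOf x).factorization s := hs.factorization_pos_of_dvd hn0 hsn
    rintro (h | h)
    · have := orderOf_dvd_of_mem_zpowers h
      rw [hj, hos] at this
      have h3 : r ∣ s ^ (orderOf x).factorization s := (dvd_pow_self r hj0).trans this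
      exact hsr ((Nat.prime_dvd_prime_iff_eq hrprime hs).mp (hrprime.dvd_of_dvd_pow h3)).symm
    · have := orderOf_dvd_of_mem_zpowers h
      rw [hj, hos] at this
      have h3 : s ∣ r ^ j := (dvd_pow_self s hks.ne').trans this
      exact hsr ((Nat.prime_dvd_prime_iff_eq hs hrprime).mp (hs.dvd_of_dvd_pow h3))
  · refine ⟨r, hrprime, hrn, ?_⟩
    rintro (h | h)
    · exact hmem h
    · exact hnot1 h

/-- a proper nontrivial element of a cyclic group of non-prime-power order is not comparable to
some element of the group -/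
theorem exists_not_R [Finite G] {x d : G} (hn : ¬ IsPrimePow (orderOf x))
    (hd : d ∈ Subgroup.zpowers x) (hd1 : d ≠ 1) (hdx : x ∉ Subgroup.zpowers d) :
    ∃ v ∈ Subgroup.zpowers x, ¬ R d v := by
  obtain ⟨r, -, -, h⟩ := exists_not_R_ppart hn hd hd1 hdx
  exact ⟨ppart x r, ppart_mem x r, h⟩

/-- twins of a non-dominating element of non-prime-power order generate the same subgroup -/
theorem zpowers_eq_of_Tw [Finite G] {x y : G} (hn : ¬ IsPrimePow (orderOf x))
    (hnd : ∃ v : G, ¬ R x v) (h : Tw x y) : Subgroup.zpowers y = Subgroup.zpowers x := by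
  obtain ⟨v₀, hv₀⟩ := hnd
  have hx1 : x ≠ 1 := by
    rintro rfl
    exact hv₀ (R_one_left v₀)
  have hy1 : y ≠ 1 := by
    rintro rfl
    exact hv₀ ((h v₀).mpr (R_one_left v₀))
  rcases h.R with hxy | hyx
  · -- `x ∈ ⟨y⟩`
    apply zpowers_eq_of_mem _ hxy
    by_contra hcon
    have hny : ¬ IsPrimePow (orderOf y) := by
      intro hpp
      obtain ⟨r, k, hr, hk, hrk⟩ := hpp
      have h1 : orderOf x ∣ r ^ k := hrk ▸ orderOf_dvd_of_mem_zpowers hxy
      obtain ⟨j, -, hj⟩ := (Nat.dvd_prime_pow hr.nat_prime).mp h1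
      rcases Nat.eq_zero_or_pos j with rfl | hjpos
      · rw [pow_zero] at hj
        exact hx1 (orderOf_eq_one_iff.mp hj)
      · exact hn ⟨r, j, hr, hjpos, hj.symm⟩
    obtain ⟨v, hv, hnv⟩ := exists_not_R hny hxy hx1 hcon
    exact hnv ((h v).mpr (Or.inr hv))
  · -- `y ∈ ⟨x⟩`
    apply zpowers_eq_of_mem hyx
    by_contra hcon
    obtain ⟨v, hv, hnv⟩ := exists_not_R hn hyx hy1 hcon
    exact hnv ((h v).mp (Or.inr hv))

theorem Tw_iff_zpowers_eq [Finite G] {x : G} (hn : ¬ IsPrimePow (orderOf x))
    (hnd : ∃ v : G, ¬ R x v) (y : G) : Tw x y ↔ Subgroup.zpowers y = Subgroup.zpowers x :=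
  ⟨zpowers_eq_of_Tw hn hnd, fun h => Tw_of_zpowers_eq h.symm⟩

/-- a group with a nonidentity element comparable to all elements has prime power order or is
cyclic -/
theorem card_eq_prime_pow_or_forall_mem_zpowers [Finite G] {x : G} (hx1 : x ≠ 1)
    (hdom : ∀ v : G, R x v) :
    (∃ r k : ℕ, r.Prime ∧ Nat.card G = r ^ k) ∨ ∀ y : G, y ∈ Subgroup.zpowers x := by
  by_cases hall : ∀ y : G, y ∈ Subgroup.zpowers x
  · exact Or.inr hall
  left
  push Not at hall
  obtain ⟨y, hy⟩ := hall
  have hxy : x ∈ Subgroup.zpowers y := by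
    rcases hdom y with h | h
    · exact h
    · exact absurd h hy
  have hpp : IsPrimePow (orderOf y) := by
    by_contra hpp
    obtain ⟨v, -, hnv⟩ := exists_not_R hpp hxy hx1 hy
    exact hnv (hdom v)
  obtain ⟨r, k, hr, hk, hrk⟩ := hpp
  have hrp : r.Prime := hr.nat_prime
  refine ⟨r, (Nat.card G).primeFactorsList.length, hrp, ?_⟩
  apply Nat.eq_prime_pow_of_unique_prime_dvd Nat.card_pos.ne'
  intro s hs hsG
  haveI : Fact s.Prime := ⟨hs⟩
  obtain ⟨z, hz⟩ := exists_prime_orderOf_dvd_card' s hsG
  have hsx : s ∣ orderOf x := by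
    rcases hdom z with h | h
    · have h1 := orderOf_dvd_of_mem_zpowers h
      rw [hz] at h1
      rcases (Nat.dvd_prime hs).mp h1 with h2 | h2
      · exact absurd (orderOf_eq_one_iff.mp h2) hx1
      · rw [h2]
    · have h1 := orderOf_dvd_of_mem_zpowers h
      rwa [hz] at h1
  have h2 : s ∣ r ^ k := by
    rw [hrk]
    exact hsx.trans (orderOf_dvd_of_mem_zpowers hxy)
  exact (Nat.prime_dvd_prime_iff_eq hs hrp).mp (hs.dvd_of_dvd_pow h2)

/-- the number of generators of a finite cyclic subgroup -/
theorem card_zpowers_eq [Finite G] (x : G) :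
    Nat.card {y : G // Subgroup.zpowers y = Subgroup.zpowers x} = Nat.totient (orderOf x) := by
  classical
  haveI := Fintype.ofFinite G
  haveI : Fintype (Subgroup.zpowers x) := Fintype.ofFinite _
  have hcyc : IsCyclic (Subgroup.zpowers x) := inferInstance
  have hcard : Fintype.card (Subgroup.zpowers x) = orderOf x := by
    rw [← Nat.card_eq_fintype_card]; exact Nat.card_zpowers x
  have h1 := IsCyclic.card_orderOf_eq_totient (α := Subgroup.zpowers x) (d := orderOf x)
    (by rw [hcard])
  rw [← h1, ← Fintype.card_subtype, ← Nat.card_eq_fintype_card]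
  apply Nat.card_congr
  refine
    { toFun := fun y => ⟨⟨y.1, by
          have := y.2 ▸ Subgroup.mem_zpowers y.1
          exact this⟩, by
        rw [← Subgroup.orderOf_coe]
        show orderOf y.1 = orderOf x
        rw [← Nat.card_zpowers, ← Nat.card_zpowers x, y.2]⟩
      invFun := fun z => ⟨z.1.1, by
        have hz : orderOf (z.1 : G) = orderOf x := by
          rw [Subgroup.orderOf_coe]; exact z.2
        apply zpowers_eq_of_mem z.1.2
        exact mem_zpowers_of_dvd z.1.2 (Subgroup.mem_zpowers x) (by rw [hz])⟩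
      left_inv := fun y => rfl
      right_inv := fun z => rfl }

end Cfsg.Agent.Lib.Helper8.PG
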