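import Mathlib
import Cfsg.Agent.Lib.Helper8.PG2

set_option autoImplicit false

/-!
# Power graph isomorphisms: basics, elements of order `p * q`
-/

namespace Cfsg.Agent.Lib.Helper8.PG

variable {G : Type*} [Group G] {H : Type*} [Group H]

/-- an isomorphism of (undirected) power graphs -/
structure Iso (G : Type*) [Group G] (H : Type*) [Group H] where
  /-- the underlying bijection -/
  e : G ≃ H
  /-- comparability is preserved -/
  he : ∀ x y : G, R x y ↔ R (e x) (e y)

/-- the inverse isomorphism -/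
def Iso.symm (φ : Iso G H) : Iso H G where
  e := φ.e.symm
  he := fun x y => by
    have := φ.he (φ.e.symm x) (φ.e.symm y)
    rw [Equiv.apply_symm_apply, Equiv.apply_symm_apply] at this
    exact this.symm

@[simp] theorem Iso.symm_e (φ : Iso G H) : φ.symm.e = φ.e.symm := rfl

theorem Iso.R_symm_iff (φ : Iso G H) (x : G) (y : H) : R x (φ.e.symm y) ↔ R (φ.e x) y := by
  have := φ.he x (φ.e.symm y)
  rwa [Equiv.apply_symm_apply] at this

theorem Iso.Tw_iff (φ : Iso G H) (x y : G) : Tw x y ↔ Tw (φ.e x) (φ.e y) := by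
  constructor
  · intro h v
    rw [← φ.R_symm_iff, ← φ.R_symm_iff]
    exact h _
  · intro h v
    rw [φ.he, φ.he y]
    exact h _

theorem Iso.card_Tw (φ : Iso G H) (x : G) :
    Nat.card {w : G // Tw x w} = Nat.card {w : H // Tw (φ.e x) w} :=
  Nat.card_congr (φ.e.subtypeEquiv (fun w => φ.Tw_iff x w))

/-- only the identity is comparable to all elements -/
def NoDom (G : Type*) [Group G] : Prop := ∀ x : G, x ≠ 1 → ∃ v : G, ¬ R x v

theorem Iso.map_one (φ : Iso G H) (hH : NoDom H) : φ.e 1 = 1 := by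
  by_contra hne
  obtain ⟨v, hv⟩ := hH _ hne
  apply hv
  rw [← φ.R_symm_iff]
  exact R_one_left _

theorem Iso.symm_map_one (φ : Iso G H) (hG : NoDom G) : φ.e.symm 1 = 1 :=
  φ.symm.map_one hG

/-- divisors of a product of two primes -/
theorem dvd_prime_mul_prime {p q d : ℕ} (hp : p.Prime) (hq : q.Prime) (h : d ∣ p * q) :
    d = 1 ∨ d = p ∨ d = q ∨ d = p * q := by
  obtain ⟨d₁, d₂, h1, h2, rfl⟩ := (Nat.dvd_mul).mp h
  rcases (Nat.dvd_prime hp).mp h1 with rfl | rfl <;> rcases (Nat.dvd_prime hq).mp h2 with rfl | rfl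
  · left; rfl
  · right; right; left; rw [one_mul]
  · right; left; rw [mul_one]
  · right; right; right; rfl

theorem not_isPrimePow_prime_mul_prime {p q : ℕ} (hp : p.Prime) (hq : q.Prime) (hpq : p ≠ q) :
    ¬ IsPrimePow (p * q) := by
  intro h
  rw [isPrimePow_iff_unique_prime_dvd] at h
  obtain ⟨r, -, hr⟩ := h
  have h1 := hr p ⟨hp, dvd_mul_right p q⟩
  have h2 := hr q ⟨hq, dvd_mul_left q p⟩
  exact hpq (h1.trans h2.symm)

/-- if two elements are not comparable but both comparable to `g`, they lie on the same side of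
`g` -/
theorem mem_zpowers_of_not_R {g c₁ c₂ : G} (h2 : R c₂ g) (hn : ¬ R c₁ c₂)
    (h : c₁ ∈ Subgroup.zpowers g) : c₂ ∈ Subgroup.zpowers g := by
  rcases h2 with h2 | h2
  · exact h2
  · exact absurd (Or.inl (mem_zpowers_trans h h2)) hn

theorem orderOf_pow_right [Finite G] {g : G} {p q : ℕ} (hq : q ≠ 0) (hg : orderOf g = p * q) :
    orderOf (g ^ q) = p := by
  rw [orderOf_pow_of_dvd hq (hg ▸ dvd_mul_left q p), hg]
  exact Nat.mul_div_cancel p (Nat.pos_of_ne_zero hq)

theorem zpowers_eq_of_orderOf_eq [Finite G] {w u v : G} (hu : u ∈ Subgroup.zpowers w)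
    (hv : v ∈ Subgroup.zpowers w) (h : orderOf u = orderOf v) :
    Subgroup.zpowers u = Subgroup.zpowers v :=
  zpowers_eq_of_mem (mem_zpowers_of_dvd hv hu (by rw [h])) (mem_zpowers_of_dvd hu hv (by rw [h]))

/-- elements of distinct prime orders are not comparable -/
theorem not_R_of_prime_orders {a b : G} {p q : ℕ} (hp : p.Prime) (hq : q.Prime) (hpq : p ≠ q)
    (ha : orderOf a = p) (hb : orderOf b = q) : ¬ R a b := by
  rintro (h | h)
  · have := orderOf_dvd_of_mem_zpowers h
    rw [ha, hb] at this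
    exact hpq ((Nat.prime_dvd_prime_iff_eq hp hq).mp this)
  · have := orderOf_dvd_of_mem_zpowers h
    rw [ha, hb] at this
    exact hpq ((Nat.prime_dvd_prime_iff_eq hq hp).mp this).symm

/-- the twins of an element of order `p` in a cyclic group of order `p * q` -/
theorem zpowers_eq_of_Tw_prime [Finite G] {g a b : G} {p q : ℕ} (hp : p.Prime) (hq : q.Prime)
    (hpq : p ≠ q) (hg : orderOf g = p * q) (ha : a ∈ Subgroup.zpowers g)
    (hb : b ∈ Subgroup.zpowers g) (hao : orderOf a = p) (hbo : orderOf b = q) {w : G}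
    (hw : Tw a w) : Subgroup.zpowers w = Subgroup.zpowers a := by
  have hnab : ¬ R a b := not_R_of_prime_orders hp hq hpq hao hbo
  have hwg : R w g := (hw g).mp (Or.inl ha)
  have hnwb : ¬ R w b := fun h => hnab ((hw b).mpr h)
  have hwmem : w ∈ Subgroup.zpowers g := by
    rcases hwg with h | h
    · exact h
    · exact absurd (Or.inr (mem_zpowers_trans hb h)) hnwb
  have hd : orderOf w ∣ p * q := hg ▸ orderOf_dvd_of_mem_zpowers hwmem
  rw [R_iff_dvd hwmem hb, hbo] at hnwb
  push Not at hnwb
  obtain ⟨h1, h2⟩ := hnwb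
  have hwo : orderOf w = p := by
    rcases dvd_prime_mul_prime hp hq hd with h | h | h | h
    · rw [h] at h1; exact absurd (one_dvd q) h1
    · exact h
    · rw [h] at h1; exact absurd (dvd_refl q) h1
    · rw [h] at h2; exact absurd (dvd_mul_left q p) h2
  exact zpowers_eq_of_orderOf_eq hwmem ha (hwo.trans hao.symm)

/-- the number of twins of an element of order `p` in a cyclic group of order `p * q` -/
theorem card_Tw_prime [Finite G] {g a b : G} {p q : ℕ} (hp : p.Prime) (hq : q.Prime)
    (hpq : p ≠ q) (hg : orderOf g = p * q) (ha : a ∈ Subgroup.zpowers g)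
    (hb : b ∈ Subgroup.zpowers g) (hao : orderOf a = p) (hbo : orderOf b = q) :
    Nat.card {w : G // Tw a w} = p - 1 := by
  rw [← Nat.totient_prime hp, ← hao, ← card_zpowers_eq a]
  apply Nat.card_congr
  apply Equiv.subtypeEquivRight
  intro w
  exact ⟨zpowers_eq_of_Tw_prime hp hq hpq hg ha hb hao hbo, fun h => Tw_of_zpowers_eq h.symm⟩

/-- the number of twins of a non-dominating element of non-prime-power order -/
theorem card_Tw_of_not_isPrimePow [Finite G] {x : G} (hn : ¬ IsPrimePow (orderOf x))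
    (hnd : ∃ v : G, ¬ R x v) : Nat.card {w : G // Tw x w} = Nat.totient (orderOf x) := by
  rw [← card_zpowers_eq x]
  apply Nat.card_congr
  apply Equiv.subtypeEquivRight
  intro w
  exact Tw_iff_zpowers_eq hn hnd w

end Cfsg.Agent.Lib.Helper8.PG
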