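import Mathlib
import Cfsg.Agent.Lib.Helper8.PG3

set_option autoImplicit false

/-!
# Power graph isomorphisms: the image of an element of order `p * q`, first case
-/

namespace Cfsg.Agent.Lib.Helper8.PG

variable {G : Type*} [Group G] {H : Type*} [Group H]

/-- if the images of the elements of prime order of `⟨g⟩` are powers of the image of `g`, then
the image of `g` has order `p * q` -/
theorem orderOf_map_of_below [Finite G] [Finite H] (φ : Iso G H) (hG : NoDom G) (hH : NoDom H)
    {p q : ℕ} (hp : p.Prime) (hq : q.Prime) (hpq : p ≠ q) {g : G} (hg : orderOf g = p * q)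
    (ha' : φ.e (g ^ q) ∈ Subgroup.zpowers (φ.e g))
    (hb' : φ.e (g ^ p) ∈ Subgroup.zpowers (φ.e g)) : orderOf (φ.e g) = p * q := by
  have hao : orderOf (g ^ q) = p := orderOf_pow_right hq.ne_zero hg
  have hbo : orderOf (g ^ p) = q := orderOf_pow_right hp.ne_zero (by rw [hg, mul_comm])
  have ha : g ^ q ∈ Subgroup.zpowers g := Subgroup.npow_mem_zpowers g q
  have hb : g ^ p ∈ Subgroup.zpowers g := Subgroup.npow_mem_zpowers g p
  have hnab : ¬ R (g ^ q) (g ^ p) := not_R_of_prime_orders hp hq hpq hao hbo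
  have hnab' : ¬ R (φ.e (g ^ q)) (φ.e (g ^ p)) := fun h => hnab ((φ.he _ _).mpr h)
  have hg1 : g ≠ 1 := by
    rintro rfl
    rw [orderOf_one] at hg
    have := hp.two_le
    have := hq.two_le
    nlinarith
  have hh1 : φ.e g ≠ 1 := by
    intro h
    rw [← φ.map_one hH] at h
    exact hg1 (φ.e.injective h)
  have hgnd := hG g hg1
  have hhnd := hH _ hh1
  have hnppg : ¬ IsPrimePow (orderOf g) := hg ▸ not_isPrimePow_prime_mul_prime hp hq hpq
  have hnpp : ¬ IsPrimePow (orderOf (φ.e g)) := by
    rintro ⟨r, k, hr, -, hrk⟩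
    exact hnab' (R_of_prime_pow hr.nat_prime hrk.symm ha' hb')
  have key : ∀ c : G, c ∈ Subgroup.zpowers g ↔ φ.e c ∈ Subgroup.zpowers (φ.e g) := by
    intro c
    constructor
    · intro hc
      have hd : orderOf c ∣ p * q := hg ▸ orderOf_dvd_of_mem_zpowers hc
      rcases dvd_prime_mul_prime hp hq hd with h | h | h | h
      · rw [orderOf_eq_one_iff.mp h, φ.map_one hH]
        exact one_mem _
      · have hca : Subgroup.zpowers c = Subgroup.zpowers (g ^ q) :=
          zpowers_eq_of_orderOf_eq hc ha (h.trans hao.symm)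
        have tw : Tw (φ.e (g ^ q)) (φ.e c) := (φ.Tw_iff _ _).mp (Tw_of_zpowers_eq hca.symm)
        rcases (tw (φ.e g)).mp (Or.inl ha') with h1 | h1
        · exact h1
        · exfalso
          apply hnab'
          exact (tw _).mpr (Or.inr (mem_zpowers_trans hb' h1))
      · have hcb : Subgroup.zpowers c = Subgroup.zpowers (g ^ p) :=
          zpowers_eq_of_orderOf_eq hc hb (h.trans hbo.symm)
        have tw : Tw (φ.e (g ^ p)) (φ.e c) := (φ.Tw_iff _ _).mp (Tw_of_zpowers_eq hcb.symm)
        rcases (tw (φ.e g)).mp (Or.inl hb') with h1 | h1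
        · exact h1
        · exfalso
          apply hnab'
          exact R_comm.mp ((tw _).mpr (Or.inr (mem_zpowers_trans ha' h1)))
      · have hcg : Subgroup.zpowers c = Subgroup.zpowers g :=
          zpowers_eq_of_orderOf_eq hc (Subgroup.mem_zpowers g) (h.trans hg.symm)
        have tw : Tw (φ.e g) (φ.e c) := (φ.Tw_iff _ _).mp (Tw_of_zpowers_eq hcg.symm)
        have := zpowers_eq_of_Tw hnpp hhnd tw
        rw [← this]
        exact Subgroup.mem_zpowers _
    · intro hd
      by_cases hd1 : φ.e c = 1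
      · rw [← φ.map_one hH] at hd1
        rw [φ.e.injective hd1]
        exact one_mem _
      by_cases hhd : φ.e g ∈ Subgroup.zpowers (φ.e c)
      · have tw : Tw g c := (φ.Tw_iff _ _).mpr (Tw_of_zpowers_eq (zpowers_eq_of_mem hhd hd))
        have := zpowers_eq_of_Tw hnppg hgnd tw
        rw [← this]
        exact Subgroup.mem_zpowers _
      -- the chain
      obtain ⟨r, hr, hrn, hnR⟩ := exists_not_R_ppart hnpp hd hd1 hhd
      have ha'1 : φ.e (g ^ q) ≠ 1 := by
        intro h
        apply hnab'
        rw [h]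
        exact R_one_left _
      have hha' : φ.e g ∉ Subgroup.zpowers (φ.e (g ^ q)) := by
        intro h
        exact hnab' (Or.inr (mem_zpowers_trans hb' h))
      obtain ⟨s, hs, hsn, hnS⟩ := exists_not_R_ppart hnpp ha' ha'1 hha'
      -- step 1
      have hRu : ∀ t : ℕ, R (φ.e.symm (ppart (φ.e g) t)) g := by
        intro t
        rw [R_comm, φ.R_symm_iff]
        exact Or.inr (ppart_mem _ _)
      have h1 : φ.e.symm (ppart (φ.e g) s) ∈ Subgroup.zpowers g := by
        apply mem_zpowers_of_not_R (hRu s) _ ha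
        rw [φ.R_symm_iff]
        exact hnS
      -- step 2
      have h2 : φ.e.symm (ppart (φ.e g) r) ∈ Subgroup.zpowers g := by
        by_cases hrs : r = s
        · rw [hrs]; exact h1
        · apply mem_zpowers_of_not_R (hRu r) _ h1
          rw [← Iso.symm_e, ← φ.symm.he]
          exact not_R_ppart _ hs hr (Ne.symm hrs) hsn hrn
      -- step 3
      apply mem_zpowers_of_not_R ((φ.he _ _).mpr (Or.inl hd)) _ h2
      rw [R_comm, φ.R_symm_iff]
      exact hnR
  have hcard : Nat.card (Subgroup.zpowers g) = Nat.card (Subgroup.zpowers (φ.e g)) :=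
    Nat.card_congr (φ.e.subtypeEquiv key)
  rw [Nat.card_zpowers, Nat.card_zpowers] at hcard
  rw [← hcard, hg]

end Cfsg.Agent.Lib.Helper8.PG
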