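import Mathlib
import Cfsg.Agent.Lib.Helper8.PG3

set_option autoImplicit false

/-!
# Power graph isomorphisms: the image of an element of order `p * q`, second case
-/

namespace Cfsg.Agent.Lib.Helper8.PG

variable {G : Type*} [Group G] {H : Type*} [Group H]

/-- generators of `⟨x⟩` are twins of `x` -/
theorem totient_le_card_Tw [Finite H] (x : H) :
    Nat.totient (orderOf x) ≤ Nat.card {w : H // Tw x w} := by
  rw [← card_zpowers_eq x]
  apply Nat.card_le_card_of_injective
    (fun y : {y : H // Subgroup.zpowers y = Subgroup.zpowers x} =>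
      (⟨y.1, Tw_of_zpowers_eq y.2.symm⟩ : {w : H // Tw x w}))
  intro y z hyz
  apply Subtype.ext
  have := congrArg (fun t : {w : H // Tw x w} => t.1) hyz
  exact this

/-- arithmetic for the prime power case -/
theorem arith_aux {P Q x y t : ℕ} (hP : 1 ≤ P) (hQ : 1 ≤ Q) (hPQ : P ≠ Q) (hx : 1 ≤ x)
    (hy : 1 ≤ y) (ht : 1 ≤ t) (hA : x * t ≤ P) (hB : y * t ≤ Q)
    (hC1 : P * Q + 1 ≤ x * (t + 1)) (hC2 : P * Q + 1 ≤ y * (t + 1)) : False := by
  have h1 : x * t * (y * t) ≤ P * Q := Nat.mul_le_mul hA hB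
  have ht1 : t = 1 := by
    by_contra hne
    have ht2 : 2 ≤ t := by omega
    have h2 : x * (t + 1) ≤ x * t * (y * t) := by
      have h3 : t + 1 ≤ t * (y * t) := by nlinarith
      calc x * (t + 1) ≤ x * (t * (y * t)) := Nat.mul_le_mul_left x h3
        _ = x * t * (y * t) := by ring
    omega
  subst ht1
  simp only [mul_one] at h1 hA hB
  have hy1 : y = 1 := by
    by_contra hne
    have hy2 : 2 ≤ y := by omega
    have : x * 2 ≤ x * y := Nat.mul_le_mul_left x hy2
    omega
  have hx1 : x = 1 := by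
    by_contra hne
    have hx2 : 2 ≤ x := by omega
    have : 2 * y ≤ x * y := Nat.mul_le_mul_right y hx2
    omega
  subst hx1 hy1
  have hPQ1 : P * Q ≤ 1 := by omega
  have hP1 : P = 1 := by
    by_contra hne
    have : 2 ≤ P := by omega
    nlinarith
  have hQ1 : Q = 1 := by
    by_contra hne
    have : 2 ≤ Q := by omega
    nlinarith
  exact hPQ (hP1.trans hQ1.symm)

/-- twins of an element `h` of prime power order `r ^ k` lying below two non-comparable elements
are `r`-elements below them -/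
theorem mem_zpowers_ppart_of_Tw [Finite H] (hH : NoDom H) {h a' b' w : H} {r k : ℕ}
    (hr : r.Prime) (hk : 0 < k) (hrk : orderOf h = r ^ k) (hh1 : h ≠ 1)
    (ha' : h ∈ Subgroup.zpowers a') (hb' : h ∈ Subgroup.zpowers b') (hnab' : ¬ R a' b')
    (tw : Tw h w) : w ≠ 1 ∧ w ∈ Subgroup.zpowers (ppart a' r) := by
  obtain ⟨v₀, hv₀⟩ := hH h hh1
  have hw1 : w ≠ 1 := by
    rintro rfl
    exact hv₀ ((tw v₀).mpr (R_one_left v₀))
  refine ⟨hw1, ?_⟩
  -- the order of `w` is a power of `r`
  have hwo : ∃ j : ℕ, orderOf w = r ^ j := by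
    by_cases hpp : IsPrimePow (orderOf w)
    · obtain ⟨s, j, hs, hj, hsj⟩ := hpp
      have hsp : s.Prime := hs.nat_prime
      have hrs : r = s := by
        rcases tw.R with h1 | h1
        · have := orderOf_dvd_of_mem_zpowers h1
          rw [hrk, ← hsj] at this
          have h3 : r ∣ s ^ j := (dvd_pow_self r hk.ne').trans this
          exact (Nat.prime_dvd_prime_iff_eq hr hsp).mp (hr.dvd_of_dvd_pow h3)
        · have := orderOf_dvd_of_mem_zpowers h1
          rw [hrk, ← hsj] at this
          have h3 : s ∣ r ^ k := (dvd_pow_self s hj.ne').trans this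
          exact ((Nat.prime_dvd_prime_iff_eq hsp hr).mp (hsp.dvd_of_dvd_pow h3)).symm
      exact ⟨j, by rw [← hsj, hrs]⟩
    · exfalso
      have := zpowers_eq_of_Tw hpp (hH w hw1) tw.symm
      apply hpp
      have ho : orderOf w = orderOf h := by
        rw [← Nat.card_zpowers, ← Nat.card_zpowers h, this]
      rw [ho, hrk]
      exact ⟨r, k, hr.prime, hk, rfl⟩
  obtain ⟨j, hj⟩ := hwo
  -- `w` is a power of `a'`
  have hwa : w ∈ Subgroup.zpowers a' := by
    rcases (tw a').mp (Or.inl ha') with h1 | h1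
    · exact h1
    · exfalso
      rcases (tw b').mp (Or.inl hb') with h2 | h2
      · exact hnab' (Or.inl (mem_zpowers_trans h1 h2))
      · exact hnab' (R_of_prime_pow hr hj h1 h2)
  apply mem_zpowers_of_dvd (ppart_mem a' r) hwa
  rw [orderOf_ppart, hj]
  have h1 : r ^ j ∣ orderOf a' := hj ▸ orderOf_dvd_of_mem_zpowers hwa
  have h2 := (hr.pow_dvd_iff_le_factorization (orderOf_pos a').ne').mp h1
  exact pow_dvd_pow r h2

/-- the size of the twin class of an element of prime power order lying below two non-comparable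
elements -/
theorem card_Tw_add_one_le [Finite H] (hH : NoDom H) {h a' b' : H} {r k : ℕ}
    (hr : r.Prime) (hk : 0 < k) (hrk : orderOf h = r ^ k) (hh1 : h ≠ 1)
    (ha' : h ∈ Subgroup.zpowers a') (hb' : h ∈ Subgroup.zpowers b') (hnab' : ¬ R a' b') :
    Nat.card {w : H // Tw h w} + 1 ≤ r ^ (orderOf a').factorization r := by
  have hcard : Nat.card (Subgroup.zpowers (ppart a' r)) = r ^ (orderOf a').factorization r := by
    rw [Nat.card_zpowers, orderOf_ppart]
  rw [← hcard]
  have hsub : {w : H | Tw h w} ⊆ ((Subgroup.zpowers (ppart a' r) : Set H) \ {1}) := by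
    intro w hw
    obtain ⟨h1, h2⟩ := mem_zpowers_ppart_of_Tw hH hr hk hrk hh1 ha' hb' hnab' hw
    exact ⟨h2, h1⟩
  have h1 : Set.ncard {w : H | Tw h w} ≤
      Set.ncard ((Subgroup.zpowers (ppart a' r) : Set H) \ {1}) :=
    Set.ncard_le_ncard hsub (Set.toFinite _)
  have h2 : Set.ncard ((Subgroup.zpowers (ppart a' r) : Set H) \ {1}) + 1 =
      Set.ncard (Subgroup.zpowers (ppart a' r) : Set H) :=
    Set.ncard_sdiff_singleton_add_one (one_mem _) (Set.toFinite _)
  have h3 : Nat.card {w : H // Tw h w} = Set.ncard {w : H | Tw h w} := rfl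
  have h4 : Nat.card (Subgroup.zpowers (ppart a' r)) =
      Set.ncard (Subgroup.zpowers (ppart a' r) : Set H) := rfl
  omega

end Cfsg.Agent.Lib.Helper8.PG
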