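import Mathlib
import Cfsg.Agent.Lib.Helper8.PG4
import Cfsg.Agent.Lib.Helper8.PG5

set_option autoImplicit false

/-!
# Power graph isomorphisms preserve the prime graph
-/

namespace Cfsg.Agent.Lib.Helper8.PG

variable {G : Type*} [Group G] {H : Type*} [Group H]

/-- the images of the elements of prime order of `⟨g⟩` cannot both lie above the image of `g` -/
theorem false_of_above [Finite G] [Finite H] (φ : Iso G H) (hG : NoDom G) (hH : NoDom H)
    {p q : ℕ} (hp : p.Prime) (hq : q.Prime) (hpq : p ≠ q) {g : G} (hg : orderOf g = p * q)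
    (ha' : φ.e g ∈ Subgroup.zpowers (φ.e (g ^ q)))
    (hb' : φ.e g ∈ Subgroup.zpowers (φ.e (g ^ p))) : False := by
  have hao : orderOf (g ^ q) = p := orderOf_pow_right hq.ne_zero hg
  have hbo : orderOf (g ^ p) = q := orderOf_pow_right hp.ne_zero (by rw [hg, mul_comm])
  have ha : g ^ q ∈ Subgroup.zpowers g := Subgroup.npow_mem_zpowers g q
  have hb : g ^ p ∈ Subgroup.zpowers g := Subgroup.npow_mem_zpowers g p
  have hnab : ¬ R (g ^ q) (g ^ p) := not_R_of_prime_orders hp hq hpq hao hbo
  have hnab' : ¬ R (φ.e (g ^ q)) (φ.e (g ^ p)) := fun h => hnab ((φ.he _ _).mpr h)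
  have hg1 : g ≠ 1 := by
    rintro rfl
    rw [orderOf_one] at hg
    have := hp.two_le
    have := hq.two_le
    nlinarith
  have hh1 : φ.e g ≠ 1 := by
    intro h
    rw [← φ.map_one hH] at h
    exact hg1 (φ.e.injective h)
  have hgnd := hG g hg1
  have hhnd := hH _ hh1
  have hnppg : ¬ IsPrimePow (orderOf g) := hg ▸ not_isPrimePow_prime_mul_prime hp hq hpq
  have hP : 1 ≤ p - 1 := by have := hp.two_le; omega
  have hQ : 1 ≤ q - 1 := by have := hq.two_le; omega
  have hPQ : p - 1 ≠ q - 1 := by omega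
  -- twin classes
  have hcA : Nat.card {w : H // Tw (φ.e (g ^ q)) w} = p - 1 := by
    rw [← φ.card_Tw]
    exact card_Tw_prime hp hq hpq hg ha hb hao hbo
  have hcB : Nat.card {w : H // Tw (φ.e (g ^ p)) w} = q - 1 := by
    rw [← φ.card_Tw]
    exact card_Tw_prime hq hp (Ne.symm hpq) (by rw [hg, mul_comm]) hb ha hbo hao
  have hcH : Nat.card {w : H // Tw (φ.e g) w} = (p - 1) * (q - 1) := by
    rw [← φ.card_Tw, card_Tw_of_not_isPrimePow hnppg hgnd, hg,
      Nat.totient_mul ((Nat.coprime_primes hp hq).mpr hpq), Nat.totient_prime hp,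
      Nat.totient_prime hq]
  have hA : Nat.totient (orderOf (φ.e (g ^ q))) ≤ p - 1 := hcA ▸ totient_le_card_Tw _
  have hB : Nat.totient (orderOf (φ.e (g ^ p))) ≤ q - 1 := hcB ▸ totient_le_card_Tw _
  have hda : orderOf (φ.e g) ∣ orderOf (φ.e (g ^ q)) := orderOf_dvd_of_mem_zpowers ha'
  have hdb : orderOf (φ.e g) ∣ orderOf (φ.e (g ^ p)) := orderOf_dvd_of_mem_zpowers hb'
  by_cases hpp : IsPrimePow (orderOf (φ.e g))
  · obtain ⟨r, k, hr, hk, hrk⟩ := hpp
    have hrp : r.Prime := hr.nat_prime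
    have hC1 := card_Tw_add_one_le hH hrp hk hrk.symm hh1 ha' hb' hnab'
    have hC2 := card_Tw_add_one_le hH hrp hk hrk.symm hh1 hb' ha' (fun h => hnab' (R_comm.mp h))
    rw [hcH] at hC1 hC2
    have hra : r ∣ orderOf (φ.e (g ^ q)) := by
      refine dvd_trans ?_ hda
      rw [← hrk]; exact dvd_pow_self r hk.ne'
    have hrb : r ∣ orderOf (φ.e (g ^ p)) := by
      refine dvd_trans ?_ hdb
      rw [← hrk]; exact dvd_pow_self r hk.ne'
    have hca : 0 < (orderOf (φ.e (g ^ q))).factorization r :=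
      hrp.factorization_pos_of_dvd (orderOf_pos _).ne' hra
    have hcb : 0 < (orderOf (φ.e (g ^ p))).factorization r :=
      hrp.factorization_pos_of_dvd (orderOf_pos _).ne' hrb
    set ca := (orderOf (φ.e (g ^ q))).factorization r with hca_def
    set cb := (orderOf (φ.e (g ^ p))).factorization r with hcb_def
    have hta : Nat.totient (r ^ ca) ≤ p - 1 := by
      refine le_trans (Nat.le_of_dvd (Nat.totient_pos.mpr (orderOf_pos _)) ?_) hA
      exact Nat.totient_dvd_of_dvd (Nat.ordProj_dvd _ _)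
    have htb : Nat.totient (r ^ cb) ≤ q - 1 := by
      refine le_trans (Nat.le_of_dvd (Nat.totient_pos.mpr (orderOf_pos _)) ?_) hB
      exact Nat.totient_dvd_of_dvd (Nat.ordProj_dvd _ _)
    rw [Nat.totient_prime_pow hrp hca] at hta
    rw [Nat.totient_prime_pow hrp hcb] at htb
    have hr2 := hrp.two_le
    have e1 : r ^ ca = r ^ (ca - 1) * (r - 1 + 1) := by
      rw [Nat.sub_add_cancel (by omega), ← pow_succ, Nat.sub_add_cancel hca]
    have e2 : r ^ cb = r ^ (cb - 1) * (r - 1 + 1) := by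
      rw [Nat.sub_add_cancel (by omega), ← pow_succ, Nat.sub_add_cancel hcb]
    rw [e1] at hC1
    rw [e2] at hC2
    exact arith_aux hP hQ hPQ (Nat.one_le_pow _ _ (by omega)) (Nat.one_le_pow _ _ (by omega))
      (by omega) hta htb hC1 hC2
  · have hcH' := card_Tw_of_not_isPrimePow hpp hhnd
    rw [hcH] at hcH'
    have h1 : (p - 1) * (q - 1) ≤ p - 1 := by
      rw [hcH']
      exact le_trans (Nat.le_of_dvd (Nat.totient_pos.mpr (orderOf_pos _))
        (Nat.totient_dvd_of_dvd hda)) hA
    have h2 : (p - 1) * (q - 1) ≤ q - 1 := by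
      rw [hcH']
      exact le_trans (Nat.le_of_dvd (Nat.totient_pos.mpr (orderOf_pos _))
        (Nat.totient_dvd_of_dvd hdb)) hB
    have hQ1 : q - 1 = 1 := by
      by_contra hne
      have : 2 ≤ q - 1 := by omega
      nlinarith
    have hP1 : p - 1 = 1 := by
      by_contra hne
      have : 2 ≤ p - 1 := by omega
      nlinarith
    omega

/-- **Key lemma**: if only the identity is comparable to all elements, a power graph isomorphism
maps elements of order `p * q` to elements of order `p * q` -/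
theorem orderOf_map [Finite G] [Finite H] (φ : Iso G H) (hG : NoDom G) (hH : NoDom H)
    {p q : ℕ} (hp : p.Prime) (hq : q.Prime) (hpq : p ≠ q) {g : G} (hg : orderOf g = p * q) :
    orderOf (φ.e g) = p * q := by
  have hao : orderOf (g ^ q) = p := orderOf_pow_right hq.ne_zero hg
  have hbo : orderOf (g ^ p) = q := orderOf_pow_right hp.ne_zero (by rw [hg, mul_comm])
  have ha : g ^ q ∈ Subgroup.zpowers g := Subgroup.npow_mem_zpowers g q
  have hb : g ^ p ∈ Subgroup.zpowers g := Subgroup.npow_mem_zpowers g p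
  have hnab : ¬ R (g ^ q) (g ^ p) := not_R_of_prime_orders hp hq hpq hao hbo
  have hnab' : ¬ R (φ.e (g ^ q)) (φ.e (g ^ p)) := fun h => hnab ((φ.he _ _).mpr h)
  have hRa : R (φ.e (g ^ q)) (φ.e g) := (φ.he _ _).mp (Or.inl ha)
  have hRb : R (φ.e (g ^ p)) (φ.e g) := (φ.he _ _).mp (Or.inl hb)
  rcases hRa with h1 | h1 <;> rcases hRb with h2 | h2
  · exact orderOf_map_of_below φ hG hH hp hq hpq hg h1 h2
  · exact absurd (Or.inl (mem_zpowers_trans h1 h2)) hnab'
  · exact absurd (Or.inr (mem_zpowers_trans h2 h1)) hnab'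
  · exact (false_of_above φ hG hH hp hq hpq hg h1 h2).elim

/-- a finite cyclic group has an element of order `n` exactly when `n` divides its order -/
theorem exists_orderOf_eq_iff_of_cyclic [Finite G] {x : G}
    (hx : ∀ y : G, y ∈ Subgroup.zpowers x) {n : ℕ} (hn : n ≠ 0) : (∃ g : G, orderOf g = n) ↔ n ∣ Nat.card G := by
  have hox : orderOf x = Nat.card G := orderOf_eq_card_of_forall_mem_zpowers hx
  constructor
  · rintro ⟨g, rfl⟩
    exact orderOf_dvd_natCard g
  · intro h
    obtain ⟨m, hm⟩ := h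
    have hm0 : m ≠ 0 := by
      rintro rfl
      rw [mul_zero] at hm
      exact Nat.card_pos.ne' hm
    refine ⟨x ^ m, ?_⟩
    rw [orderOf_pow_of_dvd hm0 (by rw [hox, hm]; exact dvd_mul_left m n), hox, hm]
    exact Nat.mul_div_cancel n (Nat.pos_of_ne_zero hm0)

/-- no element of order `p * q` in a group of prime power order -/
theorem not_exists_orderOf_of_prime_pow [Finite G] {p q : ℕ} (hp : p.Prime) (hq : q.Prime)
    (hpq : p ≠ q) (hK : ∃ r k : ℕ, r.Prime ∧ Nat.card G = r ^ k) :
    ¬ ∃ g : G, orderOf g = p * q := by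
  obtain ⟨r, k, hr, hrk⟩ := hK
  rintro ⟨g, hgo⟩
  have h1 : p * q ∣ r ^ k := by
    rw [← hgo, ← hrk]; exact orderOf_dvd_natCard g
  have h2 : p = r :=
    (Nat.prime_dvd_prime_iff_eq hp hr).mp (hp.dvd_of_dvd_pow ((dvd_mul_right p q).trans h1))
  have h3 : q = r :=
    (Nat.prime_dvd_prime_iff_eq hq hr).mp (hq.dvd_of_dvd_pow ((dvd_mul_left q p).trans h1))
  exact hpq (h2.trans h3.symm)

/-- **Isomorphic power graphs give the same prime graph.** -/
theorem exists_orderOf_iff [Finite G] [Finite H] (φ : Iso G H) {p q : ℕ} (hp : p.Prime)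
    (hq : q.Prime) (hpq : p ≠ q) :
    (∃ g : G, orderOf g = p * q) ↔ (∃ h : H, orderOf h = p * q) := by
  have hcard : Nat.card G = Nat.card H := Nat.card_congr φ.e
  have hpq0 : p * q ≠ 0 := Nat.mul_ne_zero hp.ne_zero hq.ne_zero
  by_cases hG : NoDom G
  · by_cases hH : NoDom H
    · constructor
      · rintro ⟨g, hg⟩
        exact ⟨φ.e g, orderOf_map φ hG hH hp hq hpq hg⟩
      · rintro ⟨h, hh⟩
        exact ⟨φ.symm.e h, orderOf_map φ.symm hH hG hp hq hpq hh⟩
    · -- a dominating vertex of `H` gives one of `G`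
      exfalso
      apply hH
      intro y hy1
      by_contra hcon
      push Not at hcon
      have hx1 : φ.e.symm y ≠ 1 := by
        intro h
        rw [← φ.symm_map_one hG] at h
        exact hy1 (φ.e.symm.injective h)
      obtain ⟨v, hv⟩ := hG _ hx1
      apply hv
      rw [R_comm, φ.R_symm_iff, R_comm]
      exact hcon _
  · -- a dominating vertex of `G`
    unfold NoDom at hG
    push Not at hG
    obtain ⟨x, hx1, hxdom⟩ := hG
    -- a dominating vertex of `H`
    obtain ⟨y, hy1, hydom⟩ : ∃ y : H, y ≠ 1 ∧ ∀ v : H, R y v := by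
      by_cases h1 : φ.e x = 1
      · refine ⟨φ.e 1, ?_, ?_⟩
        · intro h
          rw [← h1] at h
          exact hx1 (φ.e.injective h).symm
        · intro v
          rw [← φ.R_symm_iff]
          exact R_one_left _
      · refine ⟨φ.e x, h1, ?_⟩
        intro v
        rw [← φ.R_symm_iff]
        exact hxdom _
    rcases card_eq_prime_pow_or_forall_mem_zpowers hx1 hxdom with hGp | hGc
    · have hHp : ∃ r k : ℕ, r.Prime ∧ Nat.card H = r ^ k := by rwa [← hcard]
      exact iff_of_false (not_exists_orderOf_of_prime_pow hp hq hpq hGp)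
        (not_exists_orderOf_of_prime_pow hp hq hpq hHp)
    · rcases card_eq_prime_pow_or_forall_mem_zpowers hy1 hydom with hHp | hHc
      · have hGp : ∃ r k : ℕ, r.Prime ∧ Nat.card G = r ^ k := by rwa [hcard]
        exact iff_of_false (not_exists_orderOf_of_prime_pow hp hq hpq hGp)
          (not_exists_orderOf_of_prime_pow hp hq hpq hHp)
      · rw [exists_orderOf_eq_iff_of_cyclic hGc hpq0, exists_orderOf_eq_iff_of_cyclic hHc hpq0,
          hcard]

end Cfsg.Agent.Lib.Helper8.PG
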