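import Mathlib
import Cfsg.Agent.Lib.Lead.Nilpotent
import Cfsg.Prelude.Def_Transfer
import Cfsg.Agent.Lib.Lead.SylowNum1
import Cfsg.Agent.Lib.Helper8.CX2

/-!
# Group theory for the kernel of the characters of `p'`-degree
-/

set_option autoImplicit false
set_option linter.unusedSectionVars false

namespace Cfsg.Agent.Lib.Helper8.PK

open Cfsg.Agent.Lib.Lead

universe u

variable {G : Type u} [Group G] [Finite G] {p : ℕ} [hp : Fact p.Prime]

/-- A normal subgroup in which the Sylow subgroup `P` has trivial centralizer meets `P`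
trivially. -/
theorem inf_sylow_eq_bot (P : Sylow p G) (N : Subgroup G) [hNn : N.Normal]
    (hN : N ⊓ Subgroup.centralizer ((P : Subgroup G) : Set G) = ⊥) :
    N ⊓ (P : Subgroup G) = ⊥ := by
  by_contra hne
  haveI : Group.IsNilpotent (P : Subgroup G) := P.2.isNilpotent
  haveI : (N.subgroupOf (P : Subgroup G)).Normal := hNn.subgroupOf _
  have h1 : N.subgroupOf (P : Subgroup G) ≠ ⊥ := by
    intro h
    apply hne
    rw [Subgroup.subgroupOf_eq_bot] at h
    rw [inf_comm]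
    exact disjoint_iff.1 h.symm
  have h2 := inf_center_ne_bot (N.subgroupOf (P : Subgroup G)) h1
  obtain ⟨⟨x, hx⟩, hx1⟩ := (Subgroup.ne_bot_iff_exists_ne_one).mp h2
  have hxN : (x : G) ∈ N := hx.1
  have hxZ : x ∈ Subgroup.center (P : Subgroup G) := hx.2
  have hxC : (x : G) ∈ Subgroup.centralizer ((P : Subgroup G) : Set G) := by
    rw [Subgroup.mem_centralizer_iff]
    intro y hy
    have := (Subgroup.mem_center_iff.1 hxZ) ⟨y, hy⟩
    exact congrArg Subtype.val this
  have h3 : (x : G) ∈ N ⊓ Subgroup.centralizer ((P : Subgroup G) : Set G) := ⟨hxN, hxC⟩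
  rw [hN, Subgroup.mem_bot] at h3
  apply hx1
  apply Subtype.ext
  apply Subtype.ext
  exact h3

/-- A normal subgroup meeting a Sylow `p`-subgroup trivially has order prime to `p`. -/
theorem not_dvd_card_of_inf_sylow (P : Sylow p G) (N : Subgroup G) [hNn : N.Normal]
    (hN : N ⊓ (P : Subgroup G) = ⊥) : ¬ p ∣ Nat.card N := by
  intro hdvd
  obtain ⟨x, hx⟩ := exists_prime_orderOf_dvd_card' p hdvd
  have hxp : IsPGroup p (Subgroup.zpowers (x : G)) := by
    rw [IsPGroup.iff_card, Nat.card_zpowers, Subgroup.orderOf_coe, hx]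
    exact ⟨1, (pow_one p).symm⟩
  obtain ⟨Q, hQ⟩ := hxp.exists_le_sylow
  obtain ⟨g, hg⟩ := MulAction.exists_smul_eq G Q P
  have hxQ : (x : G) ∈ (Q : Subgroup G) := hQ (Subgroup.mem_zpowers _)
  have h1 : g * (x : G) * g⁻¹ ∈ (P : Subgroup G) := by
    rw [← hg, Sylow.coe_subgroup_smul]
    exact Subgroup.smul_mem_pointwise_smul _ _ _ hxQ
  have h2 : g * (x : G) * g⁻¹ ∈ N := hNn.conj_mem _ x.2 g
  have h3 : g * (x : G) * g⁻¹ ∈ N ⊓ (P : Subgroup G) := ⟨h2, h1⟩
  rw [hN, Subgroup.mem_bot] at h3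
  have h4 : (x : G) = 1 := by
    have := congrArg (fun y => g⁻¹ * y * g) h3
    simpa [mul_assoc] using this
  have h5 : orderOf x = 1 := by
    rw [orderOf_eq_one_iff]
    exact Subtype.ext h4
  rw [hx] at h5
  exact hp.out.one_lt.ne' h5

/-- Dedekind: `(N P') ∩ P = P'`. -/
theorem sup_inf_sylow (P : Sylow p G) (N D : Subgroup G) [hNn : N.Normal]
    (hN : N ⊓ (P : Subgroup G) = ⊥) (hD : D ≤ (P : Subgroup G)) :
    (N ⊔ D) ⊓ (P : Subgroup G) = D := by
  apply le_antisymm
  · rintro x ⟨hx1, hx2⟩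
    have h1 : x ∈ ((N ⊔ D : Subgroup G) : Set G) := hx1
    rw [Subgroup.normal_mul] at h1
    obtain ⟨n, hn, d, hd, rfl⟩ := Set.mem_mul.1 h1
    have h2 : n ∈ (P : Subgroup G) := by
      have := (P : Subgroup G).mul_mem hx2 ((P : Subgroup G).inv_mem (hD hd))
      simpa using this
    have h3 : n ∈ N ⊓ (P : Subgroup G) := ⟨hn, h2⟩
    rw [hN, Subgroup.mem_bot] at h3
    rw [h3, one_mul]
    exact hd
  · exact le_inf le_sup_right hD

/-- The intersection of a normal subgroup with a Sylow `p`-subgroup has index prime to `p`. -/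
theorem card_eq_inf_sylow_mul (P : Sylow p G) (K : Subgroup G) [hKn : K.Normal] :
    ∃ r : ℕ, ¬ p ∣ r ∧ Nat.card K = Nat.card (K ⊓ (P : Subgroup G) : Subgroup G) * r := by
  refine ⟨(P : Subgroup G).relIndex ((P : Subgroup G) ⊔ K), ?_, ?_⟩
  · intro h
    apply P.not_dvd_index
    rw [← Subgroup.relIndex_mul_index (le_sup_left : (P : Subgroup G) ≤ (P : Subgroup G) ⊔ K)]
    exact Dvd.dvd.mul_right h _
  · rw [inf_comm]
    exact (SylowNum.card_inf_mul_relIndex_sup (P : Subgroup G) K).symm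

/-- A normal subgroup of `G` with a normal `p`-complement: the complement is normal in `G`. -/
theorem exists_normal_compl (K : Subgroup G) [hKn : K.Normal]
    (h : Cfsg.HasNormalPComplement p K) :
    ∃ L : Subgroup G, L.Normal ∧ L ≤ K ∧ ¬ p ∣ Nat.card L ∧
      ∃ v : ℕ, Nat.card K = Nat.card L * p ^ v := by
  obtain ⟨Q, M, hMn, hc⟩ := h
  haveI := hMn
  have hcardL : Nat.card (M.map K.subtype) = Nat.card M :=
    Nat.card_congr (M.equivMapOfInjective K.subtype K.subtype_injective).symm.toEquiv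
  obtain ⟨v, hv⟩ := IsPGroup.iff_card.mp Q.2
  have hmul : Nat.card M * Nat.card (Q : Subgroup K) = Nat.card K := hc.card_mul_card
  have hidx : (Q : Subgroup K).index = Nat.card M := hc.index_eq_card
  have hMp : ¬ p ∣ Nat.card M := by
    rw [← hidx]
    exact Q.not_dvd_index
  have hMidx : M.index = p ^ v := by
    rw [← hv]
    exact hc.symm.index_eq_card
  have hcop : (Nat.card M).Coprime M.index := by
    rw [hMidx]
    exact Nat.Coprime.pow_right _ ((Nat.Prime.coprime_iff_not_dvd hp.out).2 hMp).symm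
  refine ⟨M.map K.subtype, ?_, Subgroup.map_subtype_le M, by rw [hcardL]; exact hMp, v, ?_⟩
  · constructor
    intro x hx g
    obtain ⟨m, hm, rfl⟩ := Subgroup.mem_map.1 hx
    have hk : g * (m : G) * g⁻¹ ∈ K := hKn.conj_mem _ m.2 g
    refine Subgroup.mem_map.2 ⟨⟨_, hk⟩, ?_, rfl⟩
    apply CX.mem_of_pow_eq_one_of_coprime (k := Nat.card M) _ hcop
    apply Subtype.ext
    have h1 : (⟨m, hm⟩ : M) ^ Nat.card M = 1 := pow_card_eq_one'
    have h2 : (m : K) ^ Nat.card M = 1 := congrArg Subtype.val h1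
    have h3 : ((m : K) : G) ^ Nat.card M = 1 := congrArg Subtype.val h2
    show (g * (m : G) * g⁻¹) ^ Nat.card M = 1
    rw [conj_pow, h3]
    group
  · rw [hcardL, ← hmul, hv]

/-- `K = L (K ∩ P)` when `L` is a normal `p`-complement of the normal subgroup `K`. -/
theorem le_sup_inf_sylow (P : Sylow p G) (K L : Subgroup G) [hKn : K.Normal] [hLn : L.Normal]
    (hLK : L ≤ K) (hL : ¬ p ∣ Nat.card L) (v : ℕ) (hK : Nat.card K = Nat.card L * p ^ v) :
    K ≤ L ⊔ (K ⊓ (P : Subgroup G)) := by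
  have hpp := hp.out
  obtain ⟨r, hr, hKr⟩ := card_eq_inf_sylow_mul P K
  obtain ⟨n, hn⟩ := IsPGroup.iff_card.mp P.2
  have hdvd : Nat.card (K ⊓ (P : Subgroup G) : Subgroup G) ∣ p ^ n := by
    rw [← hn]
    exact Subgroup.card_dvd_of_le inf_le_right
  obtain ⟨b, -, hb⟩ := (Nat.dvd_prime_pow hpp).mp hdvd
  have hLc : (Nat.card L).Coprime p := ((Nat.Prime.coprime_iff_not_dvd hpp).2 hL).symm
  have hrc : r.Coprime p := ((Nat.Prime.coprime_iff_not_dvd hpp).2 hr).symm
  have heq : Nat.card L * p ^ v = p ^ b * r := by rw [← hK, hKr, hb]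
  have h1 : p ^ v ∣ p ^ b := by
    have : p ^ v ∣ p ^ b * r := ⟨Nat.card L, by rw [← heq]; ring⟩
    exact (Nat.Coprime.dvd_mul_right (Nat.Coprime.pow_left v hrc.symm)).1 this
  have h2 : p ^ b ∣ p ^ v := by
    have : p ^ b ∣ Nat.card L * p ^ v := ⟨r, heq⟩
    exact (Nat.Coprime.dvd_mul_left (Nat.Coprime.pow_left b hLc.symm)).1 this
  have h3 : p ^ v = p ^ b := Nat.dvd_antisymm h1 h2
  have hbot : (K ⊓ (P : Subgroup G)) ⊓ L = ⊥ := by
    rw [← Subgroup.card_eq_one]
    have d1 : Nat.card ((K ⊓ (P : Subgroup G)) ⊓ L : Subgroup G) ∣ Nat.card L :=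
      Subgroup.card_dvd_of_le inf_le_right
    have d2 : Nat.card ((K ⊓ (P : Subgroup G)) ⊓ L : Subgroup G) ∣ p ^ b := by
      rw [← hb]
      exact Subgroup.card_dvd_of_le inf_le_left
    exact Nat.eq_one_of_dvd_coprimes (Nat.Coprime.pow_right b hLc) d1 d2
  have hcard := card_sup_mul_card_inf (K ⊓ (P : Subgroup G)) L Subgroup.le_normalizer_of_normal
  rw [hbot, Subgroup.card_bot, mul_one, hb] at hcard
  have hle : (K ⊓ (P : Subgroup G)) ⊔ L ≤ K := sup_le inf_le_left hLK
  have hge : Nat.card K ≤ Nat.card ((K ⊓ (P : Subgroup G)) ⊔ L : Subgroup G) := by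
    rw [hcard, hK, h3, mul_comm]
  have := Subgroup.eq_of_le_of_card_ge hle hge
  rw [sup_comm] at this
  exact this.ge

end Cfsg.Agent.Lib.Helper8.PK
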