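import Mathlib
import Cfsg.Prelude.Def_Characters
import Cfsg.Agent.Lib.Helper8.RV5
import Cfsg.Agent.Lib.Helper8.PSol1
import Cfsg.Agent.S4444

/-!
# Character lemmas for the kernel of the characters of `p'`-degree
-/

set_option autoImplicit false
set_option linter.unusedSectionVars false

namespace Cfsg.Agent.Lib.Helper8.PK

open Cfsg
open scoped ComplexConjugate
open Cfsg.Agent.Lib.Helper1 Cfsg.Agent.Lib.Helper4 Cfsg.Agent.Lib.Helper8
open Cfsg.Agent.Lib.Helper8.RV Cfsg.Agent.Lib.Helper8.CX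

universe u

noncomputable local instance subFtPK2 {G : Type u} [Group G] [Finite G] (H : Subgroup G) :
    Fintype H := Fintype.ofFinite H

section

variable {H : Type u} [Group H] [Fintype H]

/-- A character whose degree is prime to `p` has an irreducible constituent of degree prime to
`p`. -/
theorem exists_constituent_not_dvd {χ : H → ℂ} (hχ : IsCharacter H χ) {p : ℕ}
    {d : ℕ} (hd : χ 1 = d) (hpd : ¬ p ∣ d) :
    ∃ ψ : H → ℂ, IsIrrCharacter H ψ ∧ classInner χ ψ ≠ 0 ∧ ∃ e : ℕ, ψ 1 = e ∧ ¬ p ∣ e := by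
  classical
  haveI : Fintype (IrrCharacter H) := Fintype.ofFinite _
  have ha : ∀ ζ : IrrCharacter H, ∃ m : ℕ, classInner χ (ζ : H → ℂ) = m :=
    fun ζ => classInner_char_irr_nat hχ ζ.2
  choose a ha using ha
  have he : ∀ ζ : IrrCharacter H, ∃ n : ℕ, 0 < n ∧ (ζ : H → ℂ) 1 = n :=
    fun ζ => irr_apply_one_pos ζ.2
  choose e he0 he using he
  have hexp := class_function_expansion χ (isClassFunction_of_isCharacter hχ)
  have h1 : (d : ℂ) = ((∑ ζ : IrrCharacter H, a ζ * e ζ : ℕ) : ℂ) := by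
    rw [← hd]
    conv_lhs => rw [hexp]
    rw [Finset.sum_apply]
    push_cast
    refine Finset.sum_congr rfl fun ζ _ => ?_
    rw [Pi.smul_apply, smul_eq_mul, ha ζ, he ζ]
  have h2 : d = ∑ ζ : IrrCharacter H, a ζ * e ζ := by exact_mod_cast h1
  by_contra hcon
  push Not at hcon
  apply hpd
  rw [h2]
  apply Finset.dvd_sum
  intro ζ _
  by_cases h0 : a ζ = 0
  · rw [h0, zero_mul]
    exact dvd_zero _
  · have h3 : classInner χ (ζ : H → ℂ) ≠ 0 := by
      rw [ha ζ]
      exact_mod_cast h0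
    exact Dvd.dvd.mul_left (hcon ζ ζ.2 h3 (e ζ) (he ζ)) _

/-- A character of nonzero degree has an irreducible constituent. -/
theorem exists_constituent {χ : H → ℂ} (hχ : IsCharacter H χ) (h1 : χ 1 ≠ 0) :
    ∃ ψ : H → ℂ, IsIrrCharacter H ψ ∧ classInner χ ψ ≠ 0 := by
  classical
  haveI : Fintype (IrrCharacter H) := Fintype.ofFinite _
  by_contra hcon
  push Not at hcon
  have hexp := class_function_expansion χ (isClassFunction_of_isCharacter hχ)
  apply h1
  rw [hexp, Finset.sum_apply]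
  apply Finset.sum_eq_zero
  intro ζ _
  rw [Pi.smul_apply, hcon ζ ζ.2, zero_smul]

/-- Irreducible characters of a trivial group coincide. -/
theorem irr_eq_of_subsingleton [Subsingleton H] {β β' : H → ℂ} (hβ : IsIrrCharacter H β)
    (hβ' : IsIrrCharacter H β') : β = β' := by
  classical
  by_contra hne
  have h0 := classInner_irr_ne hβ hβ' hne
  rw [classInner_def] at h0
  haveI : Unique H := ⟨⟨1⟩, fun x => Subsingleton.elim _ _⟩
  rw [Fintype.sum_unique] at h0
  have hc : (Nat.card H : ℂ) ≠ 0 := Nat.cast_ne_zero.2 Nat.card_pos.ne'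
  have e1 : (default : H) = 1 := Subsingleton.elim _ _
  rw [e1] at h0
  rcases mul_eq_zero.1 h0 with h | h
  · exact absurd h (by simp)
  · rcases mul_eq_zero.1 h with h | h
    · exact irr_apply_one_ne_zero hβ h
    · apply irr_apply_one_ne_zero hβ'
      have := congrArg conj h
      simpa using this

end

section

variable {Γ : Type u} [Group Γ] [Finite Γ]

/-- The index of the stabilizer of a constituent divides the degree (Clifford). -/
theorem relIndex_stab_dvd {N L : Subgroup Γ} (hNL : N ≤ L) (hLN : ∀ l ∈ L, Normalizes l N)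
    {θ : N → ℂ} (hθ : IsIrrCharacter N θ) {χ : L → ℂ} (hχ : IsIrrCharacter L χ)
    (hc : classInner (res hNL χ) θ ≠ 0) {d : ℕ} (hd : χ 1 = d) :
    (stab L N hLN θ).relIndex L ∣ d := by
  have hNT : N ≤ stab L N hLN θ := by
    intro n hn
    refine ⟨hNL hn, ?_⟩
    intro g g' hg
    have h1 : g' = ⟨n, hn⟩ * g * (⟨n, hn⟩ : N)⁻¹ := Subtype.ext hg
    rw [h1]
    exact isClassFunction_irr hθ g ⟨n, hn⟩
  have hTL : stab L N hLN θ ≤ L := fun g hg => hg.1
  obtain ⟨ψ, hψ, -, hχψ⟩ := clifford_rel_surj hNL hLN hθ (fun g => Iff.rfl) hNT hTL hχ hc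
  obtain ⟨k, -, hk⟩ := irr_apply_one_pos hψ
  have h1 : (d : ℂ) = (((stab L N hLN θ).relIndex L * k : ℕ) : ℂ) := by
    rw [← hd, hχψ, rInd_one hTL, hk]
    push_cast
    rfl
  have h2 : d = (stab L N hLN θ).relIndex L * k := by exact_mod_cast h1
  exact ⟨k, h2⟩

/-- If `|L : N|` is a power of `p` and `χ ∈ Irr(L)` has degree prime to `p`, the constituents of
`χ_N` are `L`-invariant. -/
theorem invS_of_not_dvd {p : ℕ} (hp : p.Prime) {N L : Subgroup Γ} (hNL : N ≤ L)
    (hLN : ∀ l ∈ L, Normalizes l N) {k : ℕ} (hk : N.relIndex L = p ^ k)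
    {θ : N → ℂ} (hθ : IsIrrCharacter N θ) {χ : L → ℂ} (hχ : IsIrrCharacter L χ)
    (hc : classInner (res hNL χ) θ ≠ 0) {d : ℕ} (hd : χ 1 = d) (hpd : ¬ p ∣ d) :
    InvS L N θ := by
  have h1 := relIndex_stab_dvd hNL hLN hθ hχ hc hd
  have hNT : N ≤ stab L N hLN θ := by
    intro n hn
    refine ⟨hNL hn, ?_⟩
    intro g g' hg
    have h1 : g' = ⟨n, hn⟩ * g * (⟨n, hn⟩ : N)⁻¹ := Subtype.ext hg
    rw [h1]
    exact isClassFunction_irr hθ g ⟨n, hn⟩
  have h2 : (stab L N hLN θ).relIndex L ∣ p ^ k := by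
    rw [← hk]
    exact Subgroup.relIndex_dvd_of_le_left L hNT
  obtain ⟨j, -, hj⟩ := (Nat.dvd_prime_pow hp).mp h2
  have hj0 : j = 0 := by
    by_contra hne
    apply hpd
    apply dvd_trans _ h1
    rw [hj]
    exact dvd_pow_self p hne
  rw [hj0, pow_zero, Subgroup.relIndex_eq_one] at hj
  intro l hl
  exact (hj hl).2

/-- An irreducible character of `L` having the trivial character of the normal subgroup `N` as
a constituent is trivial on `N`. -/
theorem trivOn_of_one_constituent {N L : Subgroup Γ} (hNL : N ≤ L)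
    (hLN : ∀ l ∈ L, Normalizes l N) {χ : L → ℂ} (hχ : IsIrrCharacter L χ)
    (hc : classInner (res hNL χ) (fun _ : N => (1 : ℂ)) ≠ 0) : TrivOn N L χ := by
  intro t ht
  have hinv : InvS L N (fun _ : N => (1 : ℂ)) := fun _ _ _ _ _ => rfl
  have h3 := restrict_of_invS hNL hLN (isIrrCharacter_one N) hinv hχ hc
  have h4 := h3 ⟨t, ht⟩
  have h5 := h3 1
  rw [mul_one] at h4 h5
  have e1 : (⟨((⟨(t : Γ), ht⟩ : N) : Γ), hNL ht⟩ : L) = t := Subtype.ext rfl
  have e2 : (⟨((1 : N) : Γ), hNL (1 : N).2⟩ : L) = 1 := rfl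
  rw [e1] at h4
  rw [e2] at h5
  rw [h4, h5]

/-- **Glauberman**: if the `p`-group `S` acts coprimely on `N` without fixed points, the only
`S`-invariant irreducible character of `N` is the trivial one. -/
theorem eq_one_of_invS {p : ℕ} (hp : p.Prime) {N S : Subgroup Γ}
    (hSN : ∀ s ∈ S, Normalizes s N) (hcop : (Nat.card N).Coprime (Nat.card S))
    (hS : IsPGroup p S) (hC : N ⊓ Subgroup.centralizer (S : Set Γ) = ⊥) {θ : N → ℂ}
    (hθ : IsIrrCharacter N θ) (hinv : InvS S N θ) : θ = fun _ => 1 := by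
  classical
  haveI : Fintype Γ := Fintype.ofFinite Γ
  have hCN : N ⊓ Subgroup.centralizer (S : Set Γ) ≤ N := inf_le_left
  obtain ⟨h1, -, h3, -⟩ := Cfsg.Agent.S4444.result N S (fun s hs g hg => ((hSN s hs) g).1 hg)
    hcop p hp hS (N ⊓ Subgroup.centralizer (S : Set Γ)) rfl hCN
  have hinv1 : InvS S N (fun _ : N => (1 : ℂ)) := fun _ _ _ _ _ => rfl
  obtain ⟨β, ⟨m, hm, hpm⟩, -⟩ := h1 ⟨θ, hθ⟩ hinv
  obtain ⟨β', ⟨m', hm', hpm'⟩, -⟩ := h1 ⟨fun _ => 1, isIrrCharacter_one N⟩ hinv1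
  haveI : Subsingleton ↥(N ⊓ Subgroup.centralizer (S : Set Γ)) := by
    rw [hC]
    infer_instance
  have hββ' : β' = β := Subtype.ext (irr_eq_of_subsingleton β'.2 β.2)
  rw [hββ'] at hm'
  have h4 := h3 ⟨θ, hθ⟩ ⟨fun _ => 1, isIrrCharacter_one N⟩ hinv hinv1 β m m' hm hpm hm' hpm'
  exact congrArg Subtype.val h4

/-- **Glauberman**: if the `p`-group `S` acts coprimely on `N` with a nontrivial fixed point,
there is a nontrivial `S`-invariant irreducible character of `N`. -/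
theorem exists_invS_ne_one {p : ℕ} (hp : p.Prime) {N S : Subgroup Γ}
    (hSN : ∀ s ∈ S, Normalizes s N) (hcop : (Nat.card N).Coprime (Nat.card S))
    (hS : IsPGroup p S) (hC : N ⊓ Subgroup.centralizer (S : Set Γ) ≠ ⊥) :
    ∃ θ : N → ℂ, IsIrrCharacter N θ ∧ InvS S N θ ∧ θ ≠ fun _ => 1 := by
  classical
  haveI : Fintype Γ := Fintype.ofFinite Γ
  have hCN : N ⊓ Subgroup.centralizer (S : Set Γ) ≤ N := inf_le_left
  obtain ⟨-, -, -, h4⟩ := Cfsg.Agent.S4444.result N S (fun s hs g hg => ((hSN s hs) g).1 hg)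
    hcop p hp hS (N ⊓ Subgroup.centralizer (S : Set Γ)) rfl hCN
  haveI : Nontrivial ↥(N ⊓ Subgroup.centralizer (S : Set Γ)) :=
    (Subgroup.nontrivial_iff_ne_bot _).2 hC
  obtain ⟨β, hβ⟩ := exists_irr_ne_one (G := ↥(N ⊓ Subgroup.centralizer (S : Set Γ)))
  obtain ⟨χ, hχinv, m, hm, hpm⟩ := h4 β
  refine ⟨χ, χ.2, hχinv, ?_⟩
  intro h1
  apply hpm
  rw [h1] at hm
  have h0 : classInner (fun _ : ↥(N ⊓ Subgroup.centralizer (S : Set Γ)) => (1 : ℂ))
      (β : ↥(N ⊓ Subgroup.centralizer (S : Set Γ)) → ℂ) = 0 :=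
    classInner_irr_ne (isIrrCharacter_one _) β.2 (fun h => hβ h.symm)
  have h5 : (m : ℂ) = 0 := by
    rw [← hm]
    exact h0
  have h6 : m = 0 := by exact_mod_cast h5
  rw [h6]
  exact dvd_zero p

end

end Cfsg.Agent.Lib.Helper8.PK
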