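import Mathlib
import Cfsg.Prelude.Def_Characters
import Cfsg.Agent.Lib.Helper8.PK1
import Cfsg.Agent.Lib.Helper8.PK2
import Cfsg.Agent.Lib.Lead.CoprimeTools

/-!
# The core of `N P'` lies in the kernel of every character of `p'`-degree
-/

set_option autoImplicit false
set_option linter.unusedSectionVars false

namespace Cfsg.Agent.Lib.Helper8.PK

open Cfsg
open scoped ComplexConjugate
open Cfsg.Agent.Lib.Helper1 Cfsg.Agent.Lib.Helper4 Cfsg.Agent.Lib.Helper8
open Cfsg.Agent.Lib.Helper8.RV Cfsg.Agent.Lib.Helper8.CX Cfsg.Agent.Lib.Lead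

universe u

noncomputable local instance subFtPK3 {G : Type u} [Group G] [Finite G] (H : Subgroup G) :
    Fintype H := Fintype.ofFinite H

variable {Γ : Type u} [Group Γ] [Finite Γ] {p : ℕ} [hp : Fact p.Prime]

/-- Every element normalizes a normal subgroup. -/
theorem normalizes_of_normal' (N : Subgroup Γ) [hN : N.Normal] (g : Γ) : Normalizes g N := by
  intro x
  constructor
  · intro hx
    exact hN.conj_mem x hx g
  · intro hx
    have := hN.conj_mem _ hx g⁻¹
    simpa [mul_assoc] using this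

/-- `|N P : N|` is a power of `p`. -/
theorem relIndex_sup_sylow (P : Sylow p Γ) (N : Subgroup Γ) [hN : N.Normal] :
    ∃ k : ℕ, N.relIndex (N ⊔ (P : Subgroup Γ)) = p ^ k := by
  have h1 : N.relIndex ((P : Subgroup Γ) ⊔ N) = N.relIndex (P : Subgroup Γ) :=
    Cfsg.Agent.Lib.Lead.relIndex_sup_of_le_normalizer _ N (by
      rw [Subgroup.normalizer_eq_top_iff.mpr hN]; exact le_top)
  have h2 : N.relIndex (P : Subgroup Γ) ∣ Nat.card (P : Subgroup Γ) := Subgroup.index_dvd_card _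
  obtain ⟨n, hn⟩ := IsPGroup.iff_card.mp P.2
  rw [hn] at h2
  obtain ⟨k, -, hk⟩ := (Nat.dvd_prime_pow hp.out).mp h2
  exact ⟨k, by rw [sup_comm, h1, hk]⟩

/-- The restriction to the whole group, as a function on `⊤`. -/
abbrev topFn (χ : Γ → ℂ) : (⊤ : Subgroup Γ) → ℂ := fun x => χ x

theorem isIrrCharacter_topFn {χ : Γ → ℂ} (hχ : IsIrrCharacter Γ χ) :
    IsIrrCharacter (⊤ : Subgroup Γ) (topFn χ) :=
  isIrrCharacter_comp_mulEquiv hχ Subgroup.topEquiv

/-- The core of `N P'` lies in the kernel of every irreducible character of degree prime to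
`p`. -/
theorem ker_of_not_dvd (P : Sylow p Γ) (N : Subgroup Γ) [hNn : N.Normal]
    (hN : N ⊓ Subgroup.centralizer ((P : Subgroup Γ) : Set Γ) = ⊥) {χ : Γ → ℂ}
    (hχ : IsIrrCharacter Γ χ) {d : ℕ} (hd : χ 1 = d) (hpd : ¬ p ∣ d) :
    ∀ g ∈ (N ⊔ ⁅(P : Subgroup Γ), (P : Subgroup Γ)⁆).normalCore, χ g = χ 1 := by
  classical
  have hpp := hp.out
  have hNP : N ⊓ (P : Subgroup Γ) = ⊥ := inf_sylow_eq_bot P N hN
  have hNp : ¬ p ∣ Nat.card N := not_dvd_card_of_inf_sylow P N hNP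
  set H : Subgroup Γ := N ⊔ (P : Subgroup Γ) with hH
  have hNH : N ≤ H := le_sup_left
  have hPH : (P : Subgroup Γ) ≤ H := le_sup_right
  have hHN : ∀ h ∈ H, Normalizes h N := fun h _ => normalizes_of_normal' N h
  -- a constituent of degree prime to `p`
  have hχH : IsCharacter H (fun x : H => χ x) :=
    Cfsg.Agent.S0148.isCharacter_restrict H (isCharacter_of_irr hχ)
  obtain ⟨ψ, hψ, hχψ, e, he, hpe⟩ := exists_constituent_not_dvd hχH (p := p) (d := d)
    (by show χ ((1 : H) : Γ) = d; rw [Subgroup.coe_one]; exact hd) hpd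
  -- a constituent of `ψ_N`
  have hψN : IsCharacter N (res hNH ψ) := isCharacter_res hNH (isCharacter_of_irr hψ)
  obtain ⟨θ, hθ, hψθ⟩ := exists_constituent hψN (by
    show ψ ⟨((1 : N) : Γ), _⟩ ≠ 0
    exact irr_apply_one_ne_zero hψ)
  obtain ⟨k, hk⟩ := relIndex_sup_sylow P N
  have hinvH : InvS H N θ := invS_of_not_dvd hpp hNH hHN hk hθ hψ hψθ he hpe
  have hinvP : InvS (P : Subgroup Γ) N θ := fun s hs => hinvH s (hPH hs)
  obtain ⟨n, hn⟩ := IsPGroup.iff_card.mp P.2
  have hcop : (Nat.card N).Coprime (Nat.card (P : Subgroup Γ)) := by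
    rw [hn]
    exact Nat.Coprime.pow_right n ((Nat.Prime.coprime_iff_not_dvd hpp).2 hNp).symm
  have hθ1 : θ = fun _ => 1 :=
    eq_one_of_invS hpp (fun s _ => normalizes_of_normal' N s) hcop P.2 hN hθ hinvP
  rw [hθ1] at hψθ
  have htriv : TrivOn N H ψ := trivOn_of_one_constituent hNH hHN hψ hψθ
  -- `ψ` is linear
  haveI hNHn : (N.subgroupOf H).Normal := hNn.subgroupOf H
  have hdvd : charDegree ψ ∣ (N.subgroupOf H).index :=
    charDegree_dvd_index (N.subgroupOf H) hψ (fun g hg => htriv g (Subgroup.mem_subgroupOf.1 hg))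
  obtain ⟨hdeg, hdeg0⟩ := irr_apply_one_eq_charDegree hψ
  have hee : e = charDegree ψ := by
    have : (e : ℂ) = (charDegree ψ : ℂ) := by rw [← he, hdeg]
    exact_mod_cast this
  have he1 : e = 1 := by
    have h1 : e ∣ p ^ k := by
      rw [hee, ← hk]
      exact hdvd
    obtain ⟨j, -, hj⟩ := (Nat.dvd_prime_pow hpp).mp h1
    rcases Nat.eq_zero_or_pos j with h0 | h0
    · rw [hj, h0, pow_zero]
    · exfalso
      apply hpe
      rw [hj]
      exact dvd_pow_self p h0.ne'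
  have hψ1 : ψ 1 = 1 := by rw [he, he1, Nat.cast_one]
  obtain ⟨φ, hφ⟩ := exists_hom_of_isIrrCharacter hψ hψ1
  -- the kernel of `φ` contains `N` and `P'`
  have hker : N ⊔ ⁅(P : Subgroup Γ), (P : Subgroup Γ)⁆ ≤ φ.ker.map H.subtype := by
    apply sup_le
    · intro x hx
      refine Subgroup.mem_map.2 ⟨⟨x, hNH hx⟩, ?_, rfl⟩
      rw [MonoidHom.mem_ker]
      have h1 := htriv ⟨x, hNH hx⟩ hx
      rw [hψ1, hφ] at h1
      exact Units.ext h1
    · have h1 : ⁅(P : Subgroup Γ), (P : Subgroup Γ)⁆ ≤ ⁅H, H⁆ := Subgroup.commutator_mono hPH hPH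
      refine h1.trans ?_
      rw [← Subgroup.map_subtype_commutator]
      apply Subgroup.map_mono
      exact Abelianization.commutator_subset_ker φ
  set J : Subgroup Γ := (N ⊔ ⁅(P : Subgroup Γ), (P : Subgroup Γ)⁆).normalCore with hJ
  have hJle : J ≤ N ⊔ ⁅(P : Subgroup Γ), (P : Subgroup Γ)⁆ := Subgroup.normalCore_le _
  have hJH : J ≤ H := fun x hx => by
    obtain ⟨y, -, rfl⟩ := Subgroup.mem_map.1 (hker (hJle hx))
    exact y.2
  have hψJ : res hJH ψ = fun _ => 1 := by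
    funext x
    obtain ⟨y, hy, hyx⟩ := Subgroup.mem_map.1 (hker (hJle x.2))
    have e1 : (⟨(x : Γ), hJH x.2⟩ : H) = y := Subtype.ext hyx.symm
    show ψ ⟨(x : Γ), hJH x.2⟩ = 1
    rw [e1, hφ]
    rw [MonoidHom.mem_ker] at hy
    show ((φ y : ℂˣ) : ℂ) = 1
    rw [hy]
    rfl
  have hχ' := isIrrCharacter_topFn hχ
  have hc : classInner (res (hJH.trans le_top) (topFn χ)) (fun _ : J => (1 : ℂ)) ≠ 0 := by
    apply over_trans (le_top : H ≤ ⊤) hJH (isCharacter_of_irr hχ') hψ (isIrrCharacter_one J)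
    · exact hχψ
    · rw [hψJ, classInner_irr_self (isIrrCharacter_one J)]
      exact one_ne_zero
  haveI hJn : J.Normal := Subgroup.normalCore_normal _
  have hfinal : TrivOn J ⊤ (topFn χ) :=
    trivOn_of_one_constituent (hJH.trans le_top) (fun g _ => normalizes_of_normal' J g) hχ' hc
  intro g hg
  exact hfinal ⟨g, Subgroup.mem_top g⟩ hg

end Cfsg.Agent.Lib.Helper8.PK
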