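import Mathlib
import Cfsg.Prelude.Def_Characters
import Cfsg.Agent.Lib.Helper8.PK3

/-!
# A normal `p'`-subgroup in the kernel of all characters of `p'`-degree has no `P`-fixed points
-/

set_option autoImplicit false
set_option linter.unusedSectionVars false

namespace Cfsg.Agent.Lib.Helper8.PK

open Cfsg
open scoped ComplexConjugate
open Cfsg.Agent.Lib.Helper1 Cfsg.Agent.Lib.Helper4 Cfsg.Agent.Lib.Helper8
open Cfsg.Agent.Lib.Helper8.RV Cfsg.Agent.Lib.Helper8.CX Cfsg.Agent.Lib.Lead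

universe u

noncomputable local instance subFtPK4 {G : Type u} [Group G] [Finite G] (H : Subgroup G) :
    Fintype H := Fintype.ofFinite H

variable {Γ : Type u} [Group Γ] [Finite Γ] {p : ℕ} [hp : Fact p.Prime]

/-- A normal `p'`-subgroup lying in the kernel of every irreducible character of degree prime to
`p` has no nontrivial fixed points under the Sylow `p`-subgroup. -/
theorem centralizer_inf_eq_bot (P : Sylow p Γ) (L : Subgroup Γ) [hLn : L.Normal]
    (hL : ¬ p ∣ Nat.card L)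
    (hker : ∀ χ : Γ → ℂ, IsIrrCharacter Γ χ → ∀ d : ℕ, χ 1 = d → ¬ p ∣ d → ∀ x ∈ L, χ x = χ 1) :
    L ⊓ Subgroup.centralizer ((P : Subgroup Γ) : Set Γ) = ⊥ := by
  classical
  by_contra hC
  have hpp := hp.out
  obtain ⟨n, hn⟩ := IsPGroup.iff_card.mp P.2
  have hcop : (Nat.card L).Coprime (Nat.card (P : Subgroup Γ)) := by
    rw [hn]
    exact Nat.Coprime.pow_right n ((Nat.Prime.coprime_iff_not_dvd hpp).2 hL).symm
  obtain ⟨θ, hθ, hθP, hθ1⟩ := exists_invS_ne_one hpp
    (fun s _ => normalizes_of_normal' L s) hcop P.2 hC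
  have hΓL : ∀ g ∈ (⊤ : Subgroup Γ), Normalizes g L := fun g _ => normalizes_of_normal' L g
  set T : Subgroup Γ := stab ⊤ L hΓL θ with hT
  have hLT : L ≤ T := by
    intro x hx
    refine ⟨Subgroup.mem_top x, ?_⟩
    intro g g' hg
    have h1 : g' = ⟨x, hx⟩ * g * (⟨x, hx⟩ : L)⁻¹ := Subtype.ext hg
    rw [h1]
    exact isClassFunction_irr hθ g ⟨x, hx⟩
  have hPT : (P : Subgroup Γ) ≤ T := fun x hx => ⟨Subgroup.mem_top x, hθP x hx⟩
  set H : Subgroup Γ := L ⊔ (P : Subgroup Γ) with hH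
  have hLH : L ≤ H := le_sup_left
  have hPH : (P : Subgroup Γ) ≤ H := le_sup_right
  have hHT : H ≤ T := sup_le hLT hPT
  have hHL : ∀ h ∈ H, Normalizes h L := fun h _ => normalizes_of_normal' L h
  have hinvH : InvS H L θ := fun h hh => (hHT hh).2
  obtain ⟨k, hk⟩ := relIndex_sup_sylow P L
  have hcop2 : (L.relIndex H).Coprime (Nat.card L) := by
    rw [hk]
    exact Nat.Coprime.pow_left k ((Nat.Prime.coprime_iff_not_dvd hpp).2 hL)
  -- the extension to `L P`
  obtain ⟨η, hη, hηθ, -⟩ := exists_inv_extension (P := (⊥ : Subgroup Γ)) hLH hHL hθ hinvH hcop2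
    (fun x hx => by rw [Subgroup.mem_bot] at hx; rw [hx]; exact Normalizes.one L)
    (fun x hx => by rw [Subgroup.mem_bot] at hx; rw [hx]; exact Normalizes.one H)
    (fun x hx => by rw [Subgroup.mem_bot] at hx; rw [hx]; exact InvElt.one L θ)
  -- the induced character to `T`
  have hindc : IsCharacter T (rInd H T η) := isCharacter_rInd hHT (isCharacter_of_irr hη)
  obtain ⟨hdeg, hdeg0⟩ := irr_apply_one_eq_charDegree hθ
  have hdvdθ : charDegree θ ∣ Nat.card L := charDegree_dvd_card hθ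
  have hη1 : η 1 = (charDegree θ : ℂ) := by
    rw [← hdeg, ← hηθ]
    rfl
  have hpT : ¬ p ∣ H.relIndex T := by
    intro h
    apply P.not_dvd_index
    have h1 : (P : Subgroup Γ).relIndex T ∣ (P : Subgroup Γ).index :=
      Subgroup.relIndex_dvd_index_of_le hPT
    have h2 : (P : Subgroup Γ).relIndex H * H.relIndex T = (P : Subgroup Γ).relIndex T :=
      Subgroup.relIndex_mul_relIndex _ _ _ hPH hHT
    exact dvd_trans (dvd_trans (Dvd.dvd.mul_left h _) (dvd_of_eq h2)) h1
  have hpθ : ¬ p ∣ charDegree θ := fun h => hL (dvd_trans h hdvdθ)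
  have hind1 : rInd H T η 1 = ((H.relIndex T * charDegree θ : ℕ) : ℂ) := by
    rw [rInd_one hHT, hη1]
    push_cast
    rfl
  obtain ⟨ψ, hψ, hindψ, e, he, hpe⟩ := exists_constituent_not_dvd hindc (p := p) hind1
    (fun h => by
      rcases (Nat.Prime.dvd_mul hpp).1 h with h | h
      · exact hpT h
      · exact hpθ h)
  -- `ψ` lies over `θ`
  have hψη : classInner (res hHT ψ) η ≠ 0 := by
    rw [← frobenius' hHT η ψ (isClassFunction_irr hψ)]
    intro h0
    apply hindψ
    rw [← classInner_conj_symm, h0, map_zero]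
  have hψθ : classInner (res hLT ψ) θ ≠ 0 := by
    apply over_trans hHT hLH (isCharacter_of_irr hψ) hη hθ hψη
    rw [hηθ, classInner_irr_self hθ]
    exact one_ne_zero
  -- the Clifford correspondent
  have hcl := (clifford_rel (le_top : L ≤ ⊤) hΓL hθ (fun g => Iff.rfl) hLT le_top hψ hψ hψθ hψθ).1
  set χ' : (⊤ : Subgroup Γ) → ℂ := rInd T ⊤ ψ with hχ'
  set χ : Γ → ℂ := fun g => χ' ⟨g, Subgroup.mem_top g⟩ with hχ
  have hχirr : IsIrrCharacter Γ χ := isIrrCharacter_comp_mulEquiv hcl Subgroup.topEquiv.symm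
  have hχ1 : χ 1 = ((T.index * e : ℕ) : ℂ) := by
    show χ' 1 = _
    rw [hχ', rInd_one le_top, he, Subgroup.relIndex_top_right]
    push_cast
    rfl
  have hpTi : ¬ p ∣ T.index := fun h => P.not_dvd_index (dvd_trans h (Subgroup.index_dvd_of_le hPT))
  have hχker := hker χ hχirr _ hχ1 (fun h => by
    rcases (Nat.Prime.dvd_mul hpp).1 h with h | h
    · exact hpTi h
    · exact hpe h)
  -- `χ` lies over `θ`
  have hχψ : classInner (res (le_top : T ≤ ⊤) χ') ψ ≠ 0 := by
    rw [← frobenius' le_top ψ χ' (isClassFunction_irr hcl), classInner_irr_self hcl]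
    exact one_ne_zero
  have hχθ : classInner (res (le_top : L ≤ ⊤) χ') θ ≠ 0 :=
    over_trans le_top hLT (isCharacter_of_irr hcl) hψ hθ hχψ hψθ
  apply hχθ
  have h1 : res (le_top : L ≤ ⊤) χ' = (χ 1) • (fun _ : L => (1 : ℂ)) := by
    funext x
    rw [Pi.smul_apply, smul_eq_mul, mul_one]
    exact hχker x x.2
  rw [h1, classInner_smul_left, classInner_irr_ne (isIrrCharacter_one L) hθ (fun h => hθ1 h.symm),
    mul_zero]

end Cfsg.Agent.Lib.Helper8.PK
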