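import Mathlib

set_option autoImplicit false

namespace Cfsg.Agent.Lib.Helper8.PL

open Module Polynomial

variable {V : Type*} [AddCommGroup V] [Module ℂ V] [FiniteDimensional ℂ V]

omit [FiniteDimensional ℂ V] in
theorem eq_zero_of_pow_eq_one (T : Module.End ℂ V) {n : ℕ} (hn : 0 < n) (hT : T ^ n = 1)
    {v : V} (hv : T v = 0) : v = 0 := by
  obtain ⟨m, rfl⟩ : ∃ m, n = m + 1 := ⟨n - 1, by omega⟩
  have h1 : (T ^ (m + 1)) v = v := by rw [hT]; rfl
  rw [pow_succ, Module.End.mul_apply, hv, map_zero] at h1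
  exact h1.symm

/-- A finite-order operator on a 2-dimensional complex space has a basis of eigenvectors. -/
theorem exists_eigenbasis (T : Module.End ℂ V) {n : ℕ} (hn : 0 < n) (hT : T ^ n = 1)
    (hfin : finrank ℂ V = 2) :
    ∃ (v₁ v₂ : V) (μ₁ μ₂ : ℂ), T v₁ = μ₁ • v₁ ∧ T v₂ = μ₂ • v₂ ∧ μ₁ ≠ 0 ∧ μ₂ ≠ 0 ∧
      LinearIndependent ℂ ![v₁, v₂] ∧ (∀ u : V, ∃ a b : ℂ, u = a • v₁ + b • v₂) := by
  have hss : T.IsSemisimple := by
    have hsep : (X ^ n - C (1 : ℂ)).Separable :=
      separable_X_pow_sub_C (1 : ℂ) (by exact_mod_cast hn.ne') one_ne_zero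
    refine Module.End.isSemisimple_of_squarefree_aeval_eq_zero hsep.squarefree ?_
    simp [hT]
  have : Nontrivial V := Module.nontrivial_of_finrank_pos (R := ℂ) (by omega)
  obtain ⟨μ₁, hμ₁⟩ := Module.End.exists_eigenvalue T
  obtain ⟨v₁, hv₁⟩ := hμ₁.exists_hasEigenvector
  have hTv₁ : T v₁ = μ₁ • v₁ := Module.End.mem_eigenspace_iff.1 hv₁.1
  have hE : (ℂ ∙ v₁) ∈ Module.End.invtSubmodule T := by
    rw [Module.End.mem_invtSubmodule]
    intro x hx
    obtain ⟨c, rfl⟩ := Submodule.mem_span_singleton.1 hx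
    rw [Submodule.mem_comap, map_smul, hTv₁]
    exact Submodule.smul_mem _ _ (Submodule.smul_mem _ _ (Submodule.mem_span_singleton_self v₁))
  obtain ⟨q, hq, hc⟩ := (Module.End.isSemisimple_iff.1 hss) _ hE
  have hq1 : finrank ℂ q = 1 := by
    have h1 := Submodule.finrank_add_eq_of_isCompl hc
    rw [finrank_span_singleton hv₁.2, hfin] at h1
    omega
  obtain ⟨⟨v₂, hv₂q⟩, hne, hall⟩ := finrank_eq_one_iff'.1 hq1
  have hv₂0 : v₂ ≠ 0 := fun h => hne (Subtype.ext h)
  have hTq : T v₂ ∈ q := ((Module.End.mem_invtSubmodule T).1 hq) hv₂q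
  obtain ⟨μ₂, hμ₂⟩ := hall ⟨T v₂, hTq⟩
  have hTv₂ : T v₂ = μ₂ • v₂ := by
    have := congrArg Subtype.val hμ₂
    simpa using this.symm
  refine ⟨v₁, v₂, μ₁, μ₂, hTv₁, hTv₂, ?_, ?_, ?_, ?_⟩
  · intro h
    rw [h, zero_smul] at hTv₁
    exact hv₁.2 (eq_zero_of_pow_eq_one T hn hT hTv₁)
  · intro h
    rw [h, zero_smul] at hTv₂
    exact hv₂0 (eq_zero_of_pow_eq_one T hn hT hTv₂)
  · rw [LinearIndependent.pair_iff]
    intro s t hst
    have h1 : s • v₁ ∈ (ℂ ∙ v₁) ⊓ q := by
      refine ⟨Submodule.smul_mem _ _ (Submodule.mem_span_singleton_self v₁), ?_⟩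
      have : s • v₁ = -(t • v₂) := eq_neg_of_add_eq_zero_left hst
      rw [this]
      exact Submodule.neg_mem _ (Submodule.smul_mem _ _ hv₂q)
    rw [hc.inf_eq_bot, Submodule.mem_bot] at h1
    have hs : s = 0 := (smul_eq_zero.1 h1).resolve_right hv₁.2
    rw [hs, zero_smul, zero_add] at hst
    exact ⟨hs, (smul_eq_zero.1 hst).resolve_right hv₂0⟩
  · intro u
    have hu : u ∈ (ℂ ∙ v₁) ⊔ q := by rw [hc.sup_eq_top]; trivial
    obtain ⟨y, hy, z, hz, rfl⟩ := Submodule.mem_sup.1 hu
    obtain ⟨a, rfl⟩ := Submodule.mem_span_singleton.1 hy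
    obtain ⟨b, hb⟩ := hall ⟨z, hz⟩
    refine ⟨a, b, ?_⟩
    have := congrArg Subtype.val hb
    simp only [Submodule.coe_smul] at this
    rw [this]

/-- The lines fixed by a non-scalar finite-order operator on a 2-dimensional space:
exactly two. -/
theorem ncard_fixedLines (T : Module.End ℂ V) {n : ℕ} (hn : 0 < n) (hT : T ^ n = 1)
    (hfin : finrank ℂ V = 2) (hns : ¬ ∃ c : ℂ, T = c • (1 : Module.End ℂ V)) :
    {L : Submodule ℂ V | finrank ℂ L = 1 ∧ L.map T = L}.ncard = 2 := by
  obtain ⟨v₁, v₂, μ₁, μ₂, h1, h2, hμ₁, hμ₂, hli, hsp⟩ := exists_eigenbasis T hn hT hfin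
  rw [LinearIndependent.pair_iff] at hli
  have hv₁ : v₁ ≠ 0 := by
    intro h
    have := hli 1 0 (by rw [h]; simp)
    exact one_ne_zero this.1
  have hv₂ : v₂ ≠ 0 := by
    intro h
    have := hli 0 1 (by rw [h]; simp)
    exact one_ne_zero this.2
  have hμ : μ₁ ≠ μ₂ := by
    intro h
    apply hns
    refine ⟨μ₁, ?_⟩
    ext u
    obtain ⟨a, b, rfl⟩ := hsp u
    simp only [map_add, map_smul, h1, h2, LinearMap.smul_apply, Module.End.one_apply, h]
  have hset : {L : Submodule ℂ V | finrank ℂ L = 1 ∧ L.map T = L} = {ℂ ∙ v₁, ℂ ∙ v₂} := by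
    ext L
    simp only [Set.mem_ofPred_eq, Set.mem_insert_iff, Set.mem_singleton_iff]
    constructor
    · rintro ⟨hL1, hLT⟩
      obtain ⟨⟨u, huL⟩, hne, hall⟩ := finrank_eq_one_iff'.1 hL1
      have hu0 : u ≠ 0 := fun h => hne (Subtype.ext h)
      have hLu : L = ℂ ∙ u := by
        apply le_antisymm
        · intro w hw
          obtain ⟨c, hc⟩ := hall ⟨w, hw⟩
          have := congrArg Subtype.val hc
          simp only [Submodule.coe_smul] at this
          rw [← this]
          exact Submodule.smul_mem _ _ (Submodule.mem_span_singleton_self u)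
        · rw [Submodule.span_singleton_le_iff_mem]; exact huL
      have hTu : T u ∈ L := by
        rw [← hLT]; exact Submodule.mem_map_of_mem huL
      obtain ⟨c, hc⟩ := hall ⟨T u, hTu⟩
      have hc' : c • u = T u := by
        have := congrArg Subtype.val hc
        simpa using this
      obtain ⟨a, b, hab⟩ := hsp u
      have hrel : (a * μ₁ - c * a) • v₁ + (b * μ₂ - c * b) • v₂ = 0 := by
        have e1 : T u = (a * μ₁) • v₁ + (b * μ₂) • v₂ := by
          rw [hab, map_add, map_smul, map_smul, h1, h2, smul_smul, smul_smul]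
        have e2 : c • u = (c * a) • v₁ + (c * b) • v₂ := by
          rw [hab, smul_add, smul_smul, smul_smul]
        rw [sub_smul, sub_smul]
        have : (a * μ₁) • v₁ + (b * μ₂) • v₂ = (c * a) • v₁ + (c * b) • v₂ := by
          rw [← e1, ← e2, hc']
        rw [← sub_eq_zero] at this
        rw [← this]; abel
      obtain ⟨ha, hb⟩ := hli _ _ hrel
      by_cases ha0 : a = 0
      · right
        rw [hLu, hab, ha0, zero_smul, zero_add]
        have hb0 : b ≠ 0 := by
          intro hb0
          apply hu0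
          rw [hab, ha0, hb0, zero_smul, zero_smul, add_zero]
        exact Submodule.span_singleton_smul_eq (IsUnit.mk0 b hb0) v₂
      · left
        have hb0 : b = 0 := by
          by_contra hb0
          apply hμ
          have e1 : μ₁ = c := by
            have : a * (μ₁ - c) = 0 := by rw [mul_sub, mul_comm a c]; exact ha
            rcases mul_eq_zero.1 this with h | h
            · exact absurd h ha0
            · exact sub_eq_zero.1 h
          have e2 : μ₂ = c := by
            have : b * (μ₂ - c) = 0 := by rw [mul_sub, mul_comm b c]; exact hb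
            rcases mul_eq_zero.1 this with h | h
            · exact absurd h hb0
            · exact sub_eq_zero.1 h
          rw [e1, e2]
        rw [hLu, hab, hb0, zero_smul, add_zero]
        exact Submodule.span_singleton_smul_eq (IsUnit.mk0 a ha0) v₁
    · rintro (rfl | rfl)
      · refine ⟨finrank_span_singleton hv₁, ?_⟩
        rw [Submodule.map_span, Set.image_singleton, h1]
        exact Submodule.span_singleton_smul_eq (IsUnit.mk0 μ₁ hμ₁) v₁
      · refine ⟨finrank_span_singleton hv₂, ?_⟩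
        rw [Submodule.map_span, Set.image_singleton, h2]
        exact Submodule.span_singleton_smul_eq (IsUnit.mk0 μ₂ hμ₂) v₂
  rw [hset]
  apply Set.ncard_pair
  intro h
  have : v₁ ∈ ℂ ∙ v₂ := by rw [← h]; exact Submodule.mem_span_singleton_self v₁
  obtain ⟨c, hc⟩ := Submodule.mem_span_singleton.1 this
  have := hli 1 (-c) (by rw [neg_smul, hc, one_smul]; abel)
  exact one_ne_zero this.1

omit [FiniteDimensional ℂ V] in
/-- Trace of an operator on a 2-dimensional space in terms of a basis pair. -/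
theorem trace_of_pair (T : Module.End ℂ V) (hfin : finrank ℂ V = 2) {v w : V}
    (hli : LinearIndependent ℂ ![v, w]) {a b c d : ℂ} (hv : T v = a • v + c • w)
    (hw : T w = b • v + d • w) : LinearMap.trace ℂ V T = a + d := by
  let bs : Basis (Fin 2) ℂ V := basisOfLinearIndependentOfCardEqFinrank hli (by simp [hfin])
  have hb0 : bs 0 = v := by simp [bs]
  have hb1 : bs 1 = w := by simp [bs]
  rw [LinearMap.trace_eq_matrix_trace ℂ bs, Matrix.trace_fin_two, LinearMap.toMatrix_apply,
    LinearMap.toMatrix_apply, hb0, hb1, hv, hw, ← hb0, ← hb1]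
  simp

end Cfsg.Agent.Lib.Helper8.PL
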