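import Mathlib
import Cfsg.Agent.Lib.Helper8.PL1

set_option autoImplicit false

namespace Cfsg.Agent.Lib.Helper8.PL

open Module

variable {G : Type*} [Group G] {V : Type*} [AddCommGroup V] [Module ℂ V]

/-- `g` acts as a scalar. -/
def IsScal (ρ : Representation ℂ G V) (g : G) : Prop :=
  ∃ c : ℂ, ρ g = c • (1 : Module.End ℂ V)

theorem rho_inv_apply (ρ : Representation ℂ G V) (g : G) (v : V) : ρ g⁻¹ (ρ g v) = v := by
  have : ρ g⁻¹ * ρ g = 1 := by rw [← map_mul, inv_mul_cancel, map_one]
  have h := LinearMap.congr_fun this v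
  rw [Module.End.mul_apply, Module.End.one_apply] at h
  exact h

theorem rho_apply_inv (ρ : Representation ℂ G V) (g : G) (v : V) : ρ g (ρ g⁻¹ v) = v := by
  have := rho_inv_apply ρ g⁻¹ v
  rwa [inv_inv] at this

theorem rho_injective (ρ : Representation ℂ G V) (g : G) : Function.Injective (ρ g) :=
  Function.LeftInverse.injective (rho_inv_apply ρ g)

theorem map_map_rho (ρ : Representation ℂ G V) (g h : G) (L : Submodule ℂ V) :
    (L.map (ρ h)).map (ρ g) = L.map (ρ (g * h)) := by
  rw [map_mul, Module.End.mul_eq_comp, Submodule.map_comp]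

theorem map_rho_one (ρ : Representation ℂ G V) (L : Submodule ℂ V) : L.map (ρ 1) = L := by
  rw [map_one]; exact Submodule.map_id L

theorem finrank_map_rho (ρ : Representation ℂ G V) (g : G) (L : Submodule ℂ V) :
    finrank ℂ (L.map (ρ g)) = finrank ℂ L :=
  (Submodule.equivMapOfInjective (ρ g) (rho_injective ρ g) L).finrank_eq.symm

theorem isScal_conj (ρ : Representation ℂ G V) {g : G} (x : G) (h : IsScal ρ (x * g * x⁻¹)) :
    IsScal ρ g := by
  obtain ⟨c, hc⟩ := h
  refine ⟨c, ?_⟩
  have : ρ g = ρ x⁻¹ * ρ (x * g * x⁻¹) * ρ x := by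
    rw [← map_mul, ← map_mul]; congr 1; group
  rw [this, hc]
  ext v
  simp only [Module.End.mul_apply, LinearMap.smul_apply, Module.End.one_apply, map_smul]
  rw [rho_inv_apply]

theorem isScal_map (ρ : Representation ℂ G V) {g : G} (h : IsScal ρ g) (L : Submodule ℂ V) :
    L.map (ρ g) = L := by
  obtain ⟨c, hc⟩ := h
  by_cases hc0 : c = 0
  · rw [hc0, zero_smul] at hc
    have h1 : ρ g⁻¹ * ρ g = 1 := by rw [← map_mul, inv_mul_cancel, map_one]
    rw [hc, mul_zero] at h1
    have hz : ∀ w : V, w = 0 := by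
      intro w
      have := LinearMap.congr_fun h1 w
      simp only [LinearMap.zero_apply, Module.End.one_apply] at this
      exact this.symm
    apply le_antisymm
    · intro w _
      rw [hz w]; exact L.zero_mem
    · intro w _
      rw [hz w]; exact Submodule.zero_mem _
  apply le_antisymm
  · rintro w ⟨v, hv, rfl⟩
    rw [hc]
    simp only [LinearMap.smul_apply, Module.End.one_apply]
    exact L.smul_mem c hv
  · intro w hw
    refine ⟨c⁻¹ • w, L.smul_mem _ hw, ?_⟩
    rw [hc]
    simp only [LinearMap.smul_apply, Module.End.one_apply]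
    rw [smul_smul, mul_inv_cancel₀ hc0, one_smul]

/-- The poles: lines fixed by some non-scalar group element. -/
def Pole (ρ : Representation ℂ G V) : Type _ :=
  {L : Submodule ℂ V // finrank ℂ L = 1 ∧ ∃ g : G, ¬ IsScal ρ g ∧ L.map (ρ g) = L}

instance (ρ : Representation ℂ G V) : MulAction G (Pole ρ) where
  smul g x := ⟨x.1.map (ρ g), by
    obtain ⟨L, h1, g₀, hg₀, hfix⟩ := x
    refine ⟨by rw [finrank_map_rho]; exact h1, g * g₀ * g⁻¹, fun h => hg₀ (isScal_conj ρ g h), ?_⟩
    change (L.map (ρ g)).map (ρ (g * g₀ * g⁻¹)) = L.map (ρ g)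
    rw [map_map_rho, inv_mul_cancel_right, ← map_map_rho, hfix]⟩
  one_smul x := Subtype.ext (map_rho_one ρ x.1)
  mul_smul g h x := Subtype.ext (map_map_rho ρ g h x.1).symm

theorem smul_val (ρ : Representation ℂ G V) (g : G) (x : Pole ρ) :
    (g • x).1 = x.1.map (ρ g) := rfl

theorem mem_stabilizer_iff (ρ : Representation ℂ G V) (g : G) (x : Pole ρ) :
    g ∈ MulAction.stabilizer G x ↔ x.1.map (ρ g) = x.1 := by
  rw [MulAction.mem_stabilizer_iff]
  constructor
  · intro h; exact congrArg Subtype.val h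
  · intro h; exact Subtype.ext h

theorem rho_pow_orderOf (ρ : Representation ℂ G V) (g : G) : ρ g ^ orderOf g = 1 := by
  rw [← map_pow, pow_orderOf_eq_one, map_one]

variable [Finite G] [FiniteDimensional ℂ V]

theorem finite_pole (ρ : Representation ℂ G V) (hfin : finrank ℂ V = 2) : Finite (Pole ρ) := by
  have hfin' : (⋃ g ∈ {g : G | ¬ IsScal ρ g},
      {L : Submodule ℂ V | finrank ℂ L = 1 ∧ L.map (ρ g) = L}).Finite := by
    apply Set.Finite.biUnion (Set.toFinite _)
    intro g hg
    apply Set.finite_of_ncard_ne_zero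
    rw [ncard_fixedLines (ρ g) (orderOf_pos g) (rho_pow_orderOf ρ g) hfin hg]
    norm_num
  have : Finite ↥(⋃ g ∈ {g : G | ¬ IsScal ρ g},
      {L : Submodule ℂ V | finrank ℂ L = 1 ∧ L.map (ρ g) = L}) := hfin'
  refine Finite.of_injective (fun x : Pole ρ => (⟨x.1, ?_⟩ : ↥(⋃ g ∈ {g : G | ¬ IsScal ρ g},
      {L : Submodule ℂ V | finrank ℂ L = 1 ∧ L.map (ρ g) = L}))) ?_
  · obtain ⟨L, h1, g₀, hg₀, hfix⟩ := x
    simp only [Set.mem_iUnion]
    exact ⟨g₀, hg₀, h1, hfix⟩
  · intro x y h
    exact Subtype.ext (Subtype.mk.inj h)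

omit [Finite G] [FiniteDimensional ℂ V] in
theorem card_fixedBy_of_isScal (ρ : Representation ℂ G V) {g : G} (h : IsScal ρ g) :
    Nat.card (MulAction.fixedBy (Pole ρ) g) = Nat.card (Pole ρ) := by
  have : MulAction.fixedBy (Pole ρ) g = Set.univ := by
    ext x
    simp only [MulAction.mem_fixedBy, Set.mem_univ, iff_true]
    exact Subtype.ext (isScal_map ρ h x.1)
  rw [this, Nat.card_coe_set_eq, Set.ncard_univ]

theorem card_fixedBy_of_not_isScal (ρ : Representation ℂ G V) (hfin : finrank ℂ V = 2) {g : G}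
    (h : ¬ IsScal ρ g) : Nat.card (MulAction.fixedBy (Pole ρ) g) = 2 := by
  rw [← ncard_fixedLines (ρ g) (orderOf_pos g) (rho_pow_orderOf ρ g) hfin h,
    ← Nat.card_coe_set_eq]
  apply Nat.card_congr
  refine ⟨fun x => ⟨x.1.1, x.1.2.1, congrArg Subtype.val x.2⟩,
    fun L => ⟨⟨L.1, L.2.1, g, h, L.2.2⟩, Subtype.ext L.2.2⟩, ?_, ?_⟩
  · intro x; rfl
  · intro L; rfl

/-- Burnside count for the action on poles. -/
theorem burnside_poles [Fintype G] (ρ : Representation ℂ G V) (hfin : finrank ℂ V = 2)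
    [Fintype (MulAction.orbitRel.Quotient G (Pole ρ))] :
    Nat.card {g : G // IsScal ρ g} *
        (∑ ω : MulAction.orbitRel.Quotient G (Pole ρ), (MulAction.stabilizer G ω.out).index)
      + 2 * (Nat.card G - Nat.card {g : G // IsScal ρ g})
      = Fintype.card (MulAction.orbitRel.Quotient G (Pole ρ)) * Nat.card G := by
  classical
  have hX : Finite (Pole ρ) := finite_pole ρ hfin
  have : Fintype (Pole ρ) := Fintype.ofFinite _
  have hB := MulAction.sum_card_fixedBy_eq_card_orbits_mul_card_group G (Pole ρ)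
  rw [← Nat.card_eq_fintype_card (α := G)] at hB
  rw [← hB]
  have hcardX : Nat.card (Pole ρ)
      = ∑ ω : MulAction.orbitRel.Quotient G (Pole ρ), (MulAction.stabilizer G ω.out).index := by
    rw [Nat.card_congr (MulAction.selfEquivSigmaOrbitsQuotientStabilizer G (Pole ρ)),
      Nat.card_sigma]
    rfl
  have hterm : ∀ g : G, Fintype.card (MulAction.fixedBy (Pole ρ) g)
      = if IsScal ρ g then Nat.card (Pole ρ) else 2 := by
    intro g
    rw [← Nat.card_eq_fintype_card]
    split_ifs with h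
    · exact card_fixedBy_of_isScal ρ h
    · exact card_fixedBy_of_not_isScal ρ hfin h
  rw [Finset.sum_congr rfl (fun g _ => hterm g), Finset.sum_ite, Finset.sum_const,
    Finset.sum_const, smul_eq_mul, smul_eq_mul, ← hcardX]
  have h1 : (Finset.univ.filter (fun g : G => IsScal ρ g)).card = Nat.card {g : G // IsScal ρ g} := by
    rw [Nat.card_eq_fintype_card, Fintype.card_subtype]
  have h2 : (Finset.univ.filter (fun g : G => ¬ IsScal ρ g)).card
      = Nat.card G - Nat.card {g : G // IsScal ρ g} := by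
    have := Finset.card_filter_add_card_filter_not (s := (Finset.univ : Finset G))
      (fun g : G => IsScal ρ g)
    rw [Finset.card_univ, h1, ← Nat.card_eq_fintype_card] at this
    omega
  rw [h1, h2, mul_comm 2]

end Cfsg.Agent.Lib.Helper8.PL
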