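import Mathlib

set_option autoImplicit false

namespace Cfsg.Agent.Lib.Helper8.PL

theorem three_sorted {N x1 x2 x3 e1 e2 e3 : ℕ} (h1 : e1 * x1 = N) (h2 : e2 * x2 = N)
    (h3 : e3 * x3 = N) (he1 : 2 ≤ e1) (he2 : 2 ≤ e2) (he3 : 2 ≤ e3)
    (hs : x1 + x2 + x3 = N + 2) (h12 : x2 ≤ x1) (h23 : x3 ≤ x2) :
    x3 = 2 ∨ N = 12 ∨ N = 24 ∨ N = 60 := by
  have e1lt : e1 < 3 := by
    by_contra h
    push Not at h
    have := Nat.mul_le_mul_right x1 h
    omega
  have e1eq : e1 = 2 := by omega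
  subst e1eq
  have e2lt : e2 < 4 := by
    by_contra h
    push Not at h
    have := Nat.mul_le_mul_right x2 h
    omega
  have e3lt : e3 < 6 ∨ e2 = 2 := by
    by_cases h2' : e2 = 2
    · right; exact h2'
    · left
      have e2eq : e2 = 3 := by omega
      subst e2eq
      by_contra h
      push Not at h
      have := Nat.mul_le_mul_right x3 h
      omega
  rcases e3lt with h | h
  · interval_cases e2 <;> interval_cases e3 <;> omega
  · subst h
    left; omega

theorem three {N x1 x2 x3 e1 e2 e3 : ℕ} (h1 : e1 * x1 = N) (h2 : e2 * x2 = N)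
    (h3 : e3 * x3 = N) (he1 : 2 ≤ e1) (he2 : 2 ≤ e2) (he3 : 2 ≤ e3)
    (hs : x1 + x2 + x3 = N + 2) :
    (x1 = 2 ∨ x2 = 2 ∨ x3 = 2) ∨ N = 12 ∨ N = 24 ∨ N = 60 := by
  rcases le_total x1 x2 with a | a <;> rcases le_total x2 x3 with b | b <;>
    rcases le_total x1 x3 with c | c
  · -- x1 ≤ x2 ≤ x3
    rcases three_sorted h3 h2 h1 he3 he2 he1 (by omega) b a with h | h
    · left; left; exact h
    · right; exact h
  · rcases three_sorted h3 h2 h1 he3 he2 he1 (by omega) b a with h | h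
    · left; left; exact h
    · right; exact h
  · -- x1 ≤ x2, x3 ≤ x2, x1 ≤ x3 : x1 ≤ x3 ≤ x2
    rcases three_sorted h2 h3 h1 he2 he3 he1 (by omega) b c with h | h
    · left; left; exact h
    · right; exact h
  · -- x3 ≤ x1 ≤ x2
    rcases three_sorted h2 h1 h3 he2 he1 he3 (by omega) a c with h | h
    · left; right; right; exact h
    · right; exact h
  · -- x2 ≤ x1, x2 ≤ x3, x1 ≤ x3 : x2 ≤ x1 ≤ x3
    rcases three_sorted h3 h1 h2 he3 he1 he2 (by omega) c a with h | h
    · left; right; left; exact h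
    · right; exact h
  · -- x2 ≤ x3 ≤ x1
    rcases three_sorted h1 h3 h2 he1 he3 he2 (by omega) c b with h | h
    · left; right; left; exact h
    · right; exact h
  · -- x2 ≤ x1, x3 ≤ x2, x1 ≤ x3: all equal
    rcases three_sorted h1 h2 h3 he1 he2 he3 hs a b with h | h
    · left; right; right; exact h
    · right; exact h
  · rcases three_sorted h1 h2 h3 he1 he2 he3 hs a b with h | h
    · left; right; right; exact h
    · right; exact h

theorem arith {Ω : Type*} [Fintype Ω] (N : ℕ) (hN : 2 ≤ N) (x e : Ω → ℕ)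
    (hxe : ∀ ω, e ω * x ω = N) (he : ∀ ω, 2 ≤ e ω)
    (hsum : ∑ ω, x ω + 2 * (N - 1) = Fintype.card Ω * N) :
    (∃ ω, x ω = 1) ∨ (∃ ω, x ω = 2) ∨ N = 12 ∨ N = 24 ∨ N = 60 := by
  classical
  have hx1 : ∀ ω, 1 ≤ x ω := by
    intro ω
    rcases Nat.eq_zero_or_pos (x ω) with h | h
    · have := hxe ω; rw [h, mul_zero] at this; omega
    · exact h
  have hx2 : ∀ ω, 2 * x ω ≤ N := by
    intro ω
    have := Nat.mul_le_mul_right (x ω) (he ω)
    rw [hxe ω] at this; exact this
  have hle : 2 * ∑ ω, x ω ≤ Fintype.card Ω * N := by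
    rw [Finset.mul_sum]
    calc ∑ ω, 2 * x ω ≤ ∑ _ω : Ω, N := Finset.sum_le_sum (fun ω _ => hx2 ω)
      _ = Fintype.card Ω * N := by rw [Finset.sum_const, Finset.card_univ, smul_eq_mul]
  have hk : Fintype.card Ω < 4 := by
    by_contra h
    push Not at h
    have := Nat.mul_le_mul_right N h
    omega
  obtain ⟨k, hk'⟩ : ∃ k, Fintype.card Ω = k := ⟨_, rfl⟩
  rw [hk'] at hsum hk
  have eqv := Fintype.equivFinOfCardEq hk'
  have hsum' : ∑ i : Fin k, x (eqv.symm i) = ∑ ω, x ω := Equiv.sum_comp eqv.symm x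
  interval_cases k
  · rw [← hsum'] at hsum; simp at hsum; omega
  · rw [← hsum', Fin.sum_univ_one] at hsum
    have := hx1 (eqv.symm 0)
    omega
  · rw [← hsum', Fin.sum_univ_two] at hsum
    have := hx1 (eqv.symm 0)
    have := hx1 (eqv.symm 1)
    left; exact ⟨eqv.symm 0, by omega⟩
  · rw [← hsum', Fin.sum_univ_three] at hsum
    rcases three (hxe (eqv.symm 0)) (hxe (eqv.symm 1)) (hxe (eqv.symm 2)) (he _) (he _) (he _)
      (by omega) with (h | h | h) | h
    · right; left; exact ⟨_, h⟩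
    · right; left; exact ⟨_, h⟩
    · right; left; exact ⟨_, h⟩
    · right; right; exact h

end Cfsg.Agent.Lib.Helper8.PL
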