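import Mathlib
import Cfsg.Prelude.Def_Characters
import Cfsg.Agent.Lib.Helper1.CharCenter
import Cfsg.Agent.Lib.Helper1.LinearChar
import Cfsg.Agent.Lib.Helper1.IndFun
import Cfsg.Agent.Lib.Helper4.Characters
import Cfsg.Agent.Lib.Helper4.IndNormal
import Cfsg.Agent.Lib.Helper8.PL2

set_option autoImplicit false

namespace Cfsg.Agent.Lib.Helper8.PL

open Module Cfsg Cfsg.Agent.Lib.Helper1 Cfsg.Agent.Lib.Helper4

variable {G : Type*} [Group G] {V : Type*} [AddCommGroup V] [Module ℂ V] [FiniteDimensional ℂ V]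

theorem mem_center_iff_isScal (ρ : Representation ℂ G V) [ρ.IsIrreducible]
    (hinj : Function.Injective ρ) (g : G) : g ∈ Subgroup.center G ↔ IsScal ρ g := by
  constructor
  · intro hg
    obtain ⟨c, hc⟩ := central_scalar ρ hg
    exact ⟨c, hc⟩
  · rintro ⟨c, hc⟩
    rw [Subgroup.mem_center_iff]
    intro h
    apply hinj
    rw [map_mul, map_mul, hc]
    ext v
    simp

omit [FiniteDimensional ℂ V] in
theorem no_invariant_line (ρ : Representation ℂ G V) [ρ.IsIrreducible] (hfin : finrank ℂ V = 2)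
    (L : Submodule ℂ V) (hL : finrank ℂ L = 1) (h : ∀ g : G, L.map (ρ g) = L) : False := by
  let S : Subrepresentation ρ :=
    { toSubmodule := L
      apply_mem_toSubmodule := by
        intro g w hw
        rw [← h g]
        exact Submodule.mem_map_of_mem hw }
  rcases eq_bot_or_eq_top S with h1 | h1
  · have : L = ⊥ := congrArg Subrepresentation.toSubmodule h1
    rw [this, finrank_bot] at hL
    omega
  · have : L = ⊤ := congrArg Subrepresentation.toSubmodule h1
    rw [this, finrank_top, hfin] at hL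
    omega

omit [FiniteDimensional ℂ V] in
theorem exists_not_isScal (ρ : Representation ℂ G V) [ρ.IsIrreducible] (hfin : finrank ℂ V = 2) :
    ∃ g : G, ¬ IsScal ρ g := by
  by_contra hcon
  push Not at hcon
  have : Nontrivial V := Module.nontrivial_of_finrank_pos (R := ℂ) (by omega)
  obtain ⟨v, hv⟩ := exists_ne (0 : V)
  exact no_invariant_line ρ hfin (ℂ ∙ v) (finrank_span_singleton hv)
    (fun g => isScal_map ρ (hcon g) _)

/-- If an index-2 subgroup is the stabilizer of a line, the character is induced from it. -/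
theorem character_eq_indFun [Fintype G] (ρ : Representation ℂ G V) (hfin : finrank ℂ V = 2)
    (S : Subgroup G) (hS : S.index = 2) (L : Submodule ℂ V) (hL : finrank ℂ L = 1)
    (hst : ∀ g : G, g ∈ S ↔ L.map (ρ g) = L) :
    ∃ θ : S → ℂ, IsCharacter S θ ∧ ρ.character = indFun S θ := by
  classical
  have hN : S.Normal := Subgroup.normal_of_index_eq_two hS
  obtain ⟨⟨v, hvL⟩, hne, hall⟩ := finrank_eq_one_iff'.1 hL
  have hv0 : v ≠ 0 := fun h => hne (Subtype.ext h)
  have hLv : ∀ w ∈ L, ∃ c : ℂ, c • v = w := by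
    intro w hw
    obtain ⟨c, hc⟩ := hall ⟨w, hw⟩
    exact ⟨c, by simpa using congrArg Subtype.val hc⟩
  -- eigenvalue function
  have hex : ∀ s : S, ∃ c : ℂ, c • v = ρ (s : G) v := by
    intro s
    apply hLv
    rw [← (hst s).1 s.2]
    exact Submodule.mem_map_of_mem hvL
  choose c hc using hex
  have hinjv : ∀ a b : ℂ, a • v = b • v → a = b := fun a b h => smul_left_injective ℂ hv0 h
  let φ₀ : S →* ℂ :=
    { toFun := c
      map_one' := by
        apply hinjv
        rw [hc 1, one_smul]
        simp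
      map_mul' := by
        intro s t
        apply hinjv
        rw [hc (s * t), Subgroup.coe_mul, map_mul, Module.End.mul_apply, ← hc t, map_smul, ← hc s,
          smul_smul, mul_comm] }
  let φ : S →* ℂˣ := φ₀.toHomUnits
  have hφ : ∀ s : S, ((φ s : ℂˣ) : ℂ) = c s := fun s => rfl
  refine ⟨fun s => ((φ s : ℂˣ) : ℂ), isCharacter_of_irr (isIrrCharacter_of_hom φ), ?_⟩
  -- an element outside S
  obtain ⟨t, ht⟩ : ∃ t : G, t ∉ S := by
    by_contra hcon
    push Not at hcon
    have : S = ⊤ := (Subgroup.eq_top_iff' S).2 hcon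
    rw [this, Subgroup.index_top] at hS
    omega
  have hmul : ∀ a b : G, a * b ∈ S ↔ (a ∈ S ↔ b ∈ S) :=
    fun a b => Subgroup.mul_mem_iff_of_index_two hS
  have htinv : t⁻¹ ∉ S := fun h => ht (by simpa using S.inv_mem h)
  set w : V := ρ t v with hw
  -- w is an eigenvector for S with twisted eigenvalue
  have hcw : ∀ (s : G) (hs' : t⁻¹ * s * t ∈ S), ρ s w = c ⟨t⁻¹ * s * t, hs'⟩ • w := by
    intro s hs'
    have h1 : ρ s * ρ t = ρ t * ρ (t⁻¹ * s * t) := by
      rw [← map_mul, ← map_mul]; congr 1; group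
    rw [hw, ← Module.End.mul_apply, h1, Module.End.mul_apply, ← hc ⟨t⁻¹ * s * t, hs'⟩, map_smul]
  -- independence
  have hli : LinearIndependent ℂ ![v, w] := by
    rw [LinearIndependent.pair_iff]
    intro a b hab
    by_cases hb : b = 0
    · rw [hb, zero_smul, add_zero] at hab
      exact ⟨(smul_eq_zero.1 hab).resolve_right hv0, hb⟩
    · exfalso
      apply ht
      rw [hst t]
      have hwL : w ∈ L := by
        have : w = (-(b⁻¹ * a)) • v := by
          have h1 : b • w = -(a • v) := eq_neg_of_add_eq_zero_right hab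
          have h2 : w = b⁻¹ • (b • w) := by rw [smul_smul, inv_mul_cancel₀ hb, one_smul]
          rw [h2, h1, smul_neg, smul_smul, neg_smul]
        rw [this]; exact L.smul_mem _ hvL
      have hle : L.map (ρ t) ≤ L := by
        rintro x ⟨y, hy, rfl⟩
        obtain ⟨d, rfl⟩ := hLv y hy
        rw [map_smul]
        exact L.smul_mem _ hwL
      exact Submodule.eq_of_le_of_finrank_eq hle (by rw [finrank_map_rho])
  funext g
  by_cases hg : g ∈ S
  · -- value on S
    have hgt : t⁻¹ * g * t ∈ S := by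
      have := hN.conj_mem g hg t⁻¹; simpa [mul_assoc] using this
    have htr : ρ.character g = c ⟨g, hg⟩ + c ⟨t⁻¹ * g * t, hgt⟩ := by
      unfold Representation.character
      apply trace_of_pair (ρ g) hfin hli (a := c ⟨g, hg⟩) (c := 0) (b := 0)
      · rw [zero_smul, add_zero, hc ⟨g, hg⟩]
      · rw [zero_smul, zero_add]; exact hcw g hgt
    rw [htr, indFun_apply]
    have hterm : ∀ x : G, extendByZero S (fun s => ((φ s : ℂˣ) : ℂ)) (x⁻¹ * g * x)
        = if x ∈ S then c ⟨g, hg⟩ else c ⟨t⁻¹ * g * t, hgt⟩ := by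
      intro x
      have hx' : x⁻¹ * g * x ∈ S := by
        have := hN.conj_mem g hg x⁻¹; simpa [mul_assoc] using this
      rw [extendByZero_of_mem S _ hx']
      split_ifs with hx
      · have : (⟨x⁻¹ * g * x, hx'⟩ : S) = (⟨x, hx⟩ : S)⁻¹ * ⟨g, hg⟩ * ⟨x, hx⟩ := by
          apply Subtype.ext; simp
        rw [this, map_mul, map_mul, map_inv, mul_comm, ← mul_assoc, mul_inv_cancel, one_mul]
        rfl
      · have hy : t⁻¹ * x ∈ S := by
          rw [hmul]; exact ⟨fun h => absurd h htinv, fun h => absurd h hx⟩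
        have : (⟨x⁻¹ * g * x, hx'⟩ : S)
            = (⟨t⁻¹ * x, hy⟩ : S)⁻¹ * ⟨t⁻¹ * g * t, hgt⟩ * ⟨t⁻¹ * x, hy⟩ := by
          apply Subtype.ext; simp; group
        rw [this, map_mul, map_mul, map_inv, mul_comm, ← mul_assoc, mul_inv_cancel, one_mul]
        rfl
    rw [Finset.sum_congr rfl (fun x _ => hterm x), Finset.sum_ite, Finset.sum_const,
      Finset.sum_const]
    have h1 : (Finset.univ.filter (fun x : G => x ∈ S)).card = Nat.card S := by
      rw [Nat.card_eq_fintype_card, Fintype.card_subtype]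
    have hGS : Nat.card G = 2 * Nat.card S := by
      rw [← hS, mul_comm]; exact (Subgroup.card_mul_index S).symm
    have h2 : (Finset.univ.filter (fun x : G => ¬ x ∈ S)).card = Nat.card S := by
      have := Finset.card_filter_add_card_filter_not (s := (Finset.univ : Finset G))
        (fun x : G => x ∈ S)
      rw [Finset.card_univ, h1, ← Nat.card_eq_fintype_card, hGS] at this
      omega
    rw [h1, h2]
    have hS0 : (Nat.card S : ℂ) ≠ 0 := by
      exact_mod_cast (Nat.card_pos (α := S)).ne'
    simp only [nsmul_eq_mul]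
    field_simp
  · -- value off S
    rw [indFun_normal_of_notMem S _ hg]
    have h1 : t⁻¹ * g ∈ S := by
      rw [hmul]; exact ⟨fun h => absurd h htinv, fun h => absurd h hg⟩
    have h2 : g * t ∈ S := by
      rw [hmul]; exact ⟨fun h => absurd h hg, fun h => absurd h ht⟩
    unfold Representation.character
    have := trace_of_pair (ρ g) hfin hli (a := 0) (c := c ⟨t⁻¹ * g, h1⟩) (b := c ⟨g * t, h2⟩)
      (d := 0) ?_ ?_
    · rw [this, add_zero]
    · rw [zero_smul, zero_add, hw, ← map_smul, hc ⟨t⁻¹ * g, h1⟩, ← Module.End.mul_apply, ← map_mul]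
      simp
    · rw [zero_smul, add_zero, hw, ← Module.End.mul_apply, ← map_mul, hc ⟨g * t, h2⟩]

end Cfsg.Agent.Lib.Helper8.PL
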