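import Mathlib
import Cfsg.Agent.Lib.Helper4.PPDefs
import Cfsg.Agent.Lib.Helper7.CoprimeHall2

set_option autoImplicit false

/-!
# S3793 (Shult–Gross), package G-D: the key theorem `kt` by induction on `|G|`

`kt_of` proves `KTStatement` from the statements of `PPS.quot`, `PPS.exists_mul_comm` (package G-A)
and `kt_step` (package G-C), taken as hypotheses.
-/

namespace Cfsg.Agent.Lib.Helper8.PPGD

open Cfsg.Agent.Lib.Helper4.PP

universe u

theorem kt_of
    (hquot : ∀ {Γ : Type u} [Group Γ] [Finite Γ] {G : Subgroup Γ} {x : Γ} {p : ℕ}, PPS G x p →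
      ∀ (N : Subgroup Γ) [N.Normal], N ≤ G →
        PPS (G.map (QuotientGroup.mk' N)) (QuotientGroup.mk' N x) p)
    (hmc : ∀ {Γ : Type u} [Group Γ] [Finite Γ] {G : Subgroup Γ} {x : Γ} {p : ℕ}, PPS G x p →
      ∀ (k : ℕ) (H : Subgroup Γ) [H.Normal], H ≤ G →
        (∀ g ∈ G, g⁻¹ * x ^ k * g * (x ^ k)⁻¹ ∈ H) →
        ∀ g ∈ G, ∃ c ∈ G, ∃ h' ∈ H, x ^ k * c = c * x ^ k ∧ g = c * h')
    (hstep : ∀ {Γ : Type u} [Group Γ] [Finite Γ] {G : Subgroup Γ} {x : Γ} {p : ℕ}, PPS G x p →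
      ∀ (n : ℕ), (∀ g ∈ G, x ^ (p ^ (n + 1)) * g = g * x ^ (p ^ (n + 1))) →
      ∀ (H M : Subgroup Γ) [H.Normal] [M.Normal], H ≤ G → M ≤ H →
      ∀ r : ℕ, r.Prime → IsPGroup r M →
      Group.IsNilpotent (H.map (QuotientGroup.mk' M)) →
      ∃ D : Subgroup Γ, D ≤ H ∧ D.Normal ∧ Group.IsNilpotent D ∧
        ∀ g ∈ H, g⁻¹ * x ^ (p ^ n) * g * (x ^ (p ^ n))⁻¹ ∈ D) :
    KTStatement.{u} := by
  suffices key : ∀ N : ℕ, ∀ {Γ : Type u} [Group Γ] [Finite Γ] (G : Subgroup Γ) (x : Γ) (p n : ℕ),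
      Nat.card G = N → PPS G x p →
      (∀ g ∈ G, x ^ (p ^ (n + 1)) * g = g * x ^ (p ^ (n + 1))) →
      ∃ D : Subgroup Γ, D ≤ G ∧ D.Normal ∧ Group.IsNilpotent D ∧
        ∀ g ∈ G, g⁻¹ * x ^ (p ^ n) * g * (x ^ (p ^ n))⁻¹ ∈ D by
    intro Γ _ _ G x p n h hx
    exact key _ G x p n rfl h hx
  intro N
  induction N using Nat.strong_induction_on with
  | _ N ih =>
  intro Γ _ _ G x p n hN h hx
  by_cases hG : G = ⊥
  · refine ⟨⊥, bot_le, inferInstance, inferInstance, ?_⟩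
    intro g hg
    rw [hG, Subgroup.mem_bot] at hg
    subst hg
    simp
  · have hGn := h.hGn
    obtain ⟨M, hMn, hM1, hMG, r, d, hr, hMc⟩ :=
      Cfsg.Agent.Lib.Helper7.exists_normal_prime_pow_le G h.hsolv hG
    set π := QuotientGroup.mk' M with hπ
    have hπs : Function.Surjective π := QuotientGroup.mk'_surjective M
    have hker : π.ker = M := QuotientGroup.ker_mk' M
    have hq : PPS (G.map π) (π x) p := hquot h M hMG
    have hxq : ∀ g ∈ G.map π, (π x) ^ (p ^ (n + 1)) * g = g * (π x) ^ (p ^ (n + 1)) := by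
      rintro _ ⟨g, hg, rfl⟩
      rw [← map_pow, ← map_mul, ← map_mul, hx g hg]
    have hcard : Nat.card (G.map π) < N := by
      have h1 : Nat.card M * M.relIndex G = Nat.card G := by
        have := Subgroup.relIndex_mul_relIndex (⊥ : Subgroup Γ) M G bot_le hMG
        rwa [Subgroup.relIndex_bot_left, Subgroup.relIndex_bot_left] at this
      have h2 : Nat.card (G.map π) = M.relIndex G := by
        rw [← Subgroup.relIndex_ker, hker]
      have h3 : 1 < Nat.card M := by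
        rw [Subgroup.one_lt_card_iff_ne_bot]; exact hM1
      have h4 : 0 < M.relIndex G := by
        rcases Nat.eq_zero_or_pos (M.relIndex G) with h0 | h0
        · rw [h0, mul_zero] at h1
          exact absurd h1.symm Nat.card_pos.ne'
        · exact h0
      rw [h2, ← hN, ← h1]
      nlinarith
    obtain ⟨Db, hDbG, hDbn, hDbnil, hDb⟩ := ih _ hcard (G.map π) (π x) p n rfl hq hxq
    set H : Subgroup Γ := Db.comap π with hH
    have hHn : H.Normal := hDbn.comap π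
    have hMH : M ≤ H := by
      rw [← hker]; exact Subgroup.ker_le_comap π Db
    have hHG : H ≤ G := by
      intro g hg
      have h1 : π g ∈ G.map π := hDbG hg
      obtain ⟨g', hg', he⟩ := h1
      have h2 : g'⁻¹ * g ∈ M := by
        rw [← hker, MonoidHom.mem_ker, map_mul, map_inv, he, inv_mul_cancel]
      have : g = g' * (g'⁻¹ * g) := by group
      rw [this]
      exact G.mul_mem hg' (hMG h2)
    have hmap : H.map π = Db := Subgroup.map_comap_eq_self_of_surjective hπs Db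
    have hMp : IsPGroup r M := IsPGroup.of_card hMc
    obtain ⟨D, hDH, hDn, hDnil, hD⟩ := hstep h n hx H M hHG hMH r hr hMp (by rw [hmap]; exact hDbnil)
    refine ⟨D, hDH.trans hHG, hDn, hDnil, ?_⟩
    have hτH : ∀ g ∈ G, g⁻¹ * x ^ (p ^ n) * g * (x ^ (p ^ n))⁻¹ ∈ H := by
      intro g hg
      rw [hH, Subgroup.mem_comap]
      have := hDb (π g) (Subgroup.mem_map_of_mem π hg)
      simpa only [map_mul, map_inv, map_pow] using this
    intro g hg
    obtain ⟨c, hcG, h', hh', hcomm, rfl⟩ := hmc h (p ^ n) H hHG hτH g hg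
    have e : (c * h')⁻¹ * x ^ (p ^ n) * (c * h') * (x ^ (p ^ n))⁻¹ =
        h'⁻¹ * x ^ (p ^ n) * h' * (x ^ (p ^ n))⁻¹ := by
      have : (c * h')⁻¹ * x ^ (p ^ n) * (c * h') * (x ^ (p ^ n))⁻¹ =
          h'⁻¹ * c⁻¹ * (x ^ (p ^ n) * c) * h' * (x ^ (p ^ n))⁻¹ := by group
      rw [this, hcomm]
      group
    rw [e]
    exact hD h' hh'

end Cfsg.Agent.Lib.Helper8.PPGD
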