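import Mathlib
import Cfsg.Agent.Lib.Helper4.PPDefs
import Cfsg.Agent.Lib.Helper1.PPGA
import Cfsg.Agent.Lib.Helper8.PPGC
import Cfsg.Agent.Lib.Helper8.PPGD

set_option autoImplicit false

/-!
# S3793 (Shult–Gross), packages G-C and G-D modulo package G-B

`GBStatement` is the exact statement of the skeleton's `comm_centralizes` (package G-B).
`kt_step_of_GB` is the skeleton's `kt_step` and `kt_of_GB` the skeleton's `kt`, both with
`GBStatement` as an extra hypothesis.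
-/

namespace Cfsg.Agent.Lib.Helper8.PPGC

open Cfsg.Agent.Lib.Helper4.PP Cfsg.Agent.Lib.Helper1.PPGA

universe u

/-- the statement of package G-B (`comm_centralizes`). -/
def GBStatement : Prop :=
  ∀ {Γ : Type u} [Group Γ] [Finite Γ] {G : Subgroup Γ} {x : Γ} {p : ℕ},
    MTStatement.{u} → PPS G x p → ∀ (n : ℕ),
    (∀ g ∈ G, x ^ (p ^ (n + 1)) * g = g * x ^ (p ^ (n + 1))) →
    ∀ (R : Subgroup Γ) [R.Normal], R ≤ G → ∀ (r : ℕ), r.Prime → IsPGroup r R →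
    ∀ (Q : Subgroup Γ), Q ≤ G → ∀ (q : ℕ), q.Prime → q ≠ r → IsPGroup q Q →
    (∀ u ∈ Q, x * u * x⁻¹ ∈ Q) →
    ∀ u ∈ Q, ∀ v ∈ R, (u⁻¹ * x ^ (p ^ n) * u * (x ^ (p ^ n))⁻¹) * v =
      v * (u⁻¹ * x ^ (p ^ n) * u * (x ^ (p ^ n))⁻¹)

section

variable {Γ : Type u} [Group Γ] [Finite Γ] {G : Subgroup Γ} {x : Γ} {p : ℕ}

/-- the skeleton's `kt_step`, modulo package G-B. -/
theorem kt_step_of_GB (hGB : GBStatement.{u}) (hMT : MTStatement.{u}) (h : PPS G x p) (n : ℕ)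
    (hx : ∀ g ∈ G, x ^ (p ^ (n + 1)) * g = g * x ^ (p ^ (n + 1)))
    (H M : Subgroup Γ) [H.Normal] [M.Normal] (hHG : H ≤ G) (hMH : M ≤ H)
    (r : ℕ) (hr : r.Prime) (hM : IsPGroup r M)
    (hnil : Group.IsNilpotent (H.map (QuotientGroup.mk' M))) :
    ∃ D : Subgroup Γ, D ≤ H ∧ D.Normal ∧ Group.IsNilpotent D ∧
      ∀ g ∈ H, g⁻¹ * x ^ (p ^ n) * g * (x ^ (p ^ n))⁻¹ ∈ D := by
  have hcop : (Nat.card (Subgroup.zpowers x)).Coprime (Nat.card G) := by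
    have := PPS.coprime_pow h 1
    rwa [pow_one] at this
  exact kt_step_of (x ^ (p ^ n)) (Subgroup.pow_mem _ (Subgroup.mem_zpowers x) _) hcop
    (fun R _ hRG r hr hR Q hQG q hq hqr hQ hxQ =>
      hGB hMT h n hx R hRG r hr hR Q hQG q hq hqr hQ hxQ)
    H M hHG hMH r hr hM hnil

end

/-- the skeleton's `kt`, modulo package G-B. -/
theorem kt_of_GB (hGB : GBStatement.{u}) (hMT : MTStatement.{u}) : KTStatement.{u} :=
  Cfsg.Agent.Lib.Helper8.PPGD.kt_of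
    (fun h N _ hNG => PPS.quot h N hNG)
    (fun h k H _ hHG hτ => PPS.exists_mul_comm h k H hHG hτ)
    (fun h n hx H M _ _ hHG hMH r hr hM hnil =>
      kt_step_of_GB hGB hMT h n hx H M hHG hMH r hr hM hnil)

end Cfsg.Agent.Lib.Helper8.PPGC
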