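import Mathlib
import Cfsg.Agent.Lib.Helper8.PPGC2
import Cfsg.Agent.Lib.Helper5.PPGB

set_option autoImplicit false

/-!
# S3793 (Shult–Gross), packages G-C and G-D: the exact `kt_step` and `kt` of the skeleton
-/

namespace Cfsg.Agent.Lib.Helper8.PPGD

open Cfsg.Agent.Lib.Helper4.PP

universe u

/-- package G-B in the form of `GBStatement`. -/
theorem gbStatement : Cfsg.Agent.Lib.Helper8.PPGC.GBStatement.{u} :=
  fun hMT h n hx R _ hRG r hr hR Q hQG q hq hqr hQ hxQ =>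
    Cfsg.Agent.Lib.Helper5.PPGB.comm_centralizes hMT h n hx R hRG r hr hR Q hQG q hq hqr hQ hxQ

section

variable {Γ : Type u} [Group Γ] [Finite Γ] {G : Subgroup Γ} {x : Γ} {p : ℕ}

/-- the nilpotent-by-`r`-group step (skeleton statement). -/
theorem kt_step (hMT : MTStatement.{u}) (h : PPS G x p) (n : ℕ)
    (hx : ∀ g ∈ G, x ^ (p ^ (n + 1)) * g = g * x ^ (p ^ (n + 1)))
    (H M : Subgroup Γ) [H.Normal] [M.Normal] (hHG : H ≤ G) (hMH : M ≤ H)
    (r : ℕ) (hr : r.Prime) (hM : IsPGroup r M)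
    (hnil : Group.IsNilpotent (H.map (QuotientGroup.mk' M))) :
    ∃ D : Subgroup Γ, D ≤ H ∧ D.Normal ∧ Group.IsNilpotent D ∧
      ∀ g ∈ H, g⁻¹ * x ^ (p ^ n) * g * (x ^ (p ^ n))⁻¹ ∈ D :=
  Cfsg.Agent.Lib.Helper8.PPGC.kt_step_of_GB gbStatement hMT h n hx H M hHG hMH r hr hM hnil

end

/-- the key theorem (skeleton statement). -/
theorem kt (hMT : MTStatement.{u}) : KTStatement.{u} :=
  Cfsg.Agent.Lib.Helper8.PPGC.kt_of_GB gbStatement hMT

end Cfsg.Agent.Lib.Helper8.PPGD
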