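import Mathlib
import Cfsg.Agent.S0139
import Cfsg.Agent.Lib.Helper2.ThompsonDeg
import Cfsg.Agent.Lib.Helper8.Deflation

/-!
# Normal subgroups in the kernel of all irreducible characters of `p'`-degree
(a Berkovich type variation on Thompson's theorem)
-/

set_option autoImplicit false
set_option linter.unusedSectionVars false

namespace Cfsg.Agent.Lib.Helper8.PQ

open Cfsg
open scoped ComplexConjugate
open Cfsg.Agent.Lib.Helper1 Cfsg.Agent.Lib.Helper4 Cfsg.Agent.Lib.Helper8

/-- An element where a character takes its degree may be cancelled inside the character. -/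
theorem apply_mul_of_ker {H : Type*} [Group H] [Finite H] {χ : H → ℂ} (hχ : IsCharacter H χ)
    {x : H} (hx : χ x = χ 1) (y : H) : χ (x * y) = χ y := by
  obtain ⟨n, ρ, rfl⟩ := hχ
  rw [Representation.char_one] at hx
  have h1 := (Cfsg.Agent.S0139.result ρ x).1 hx
  unfold Representation.character
  rw [map_mul, h1]
  rfl

/-- If every irreducible character of `p'`-degree is trivial on `N`, every linear character of a
Sylow `p`-subgroup is trivial on its intersection with `N`. -/
theorem linear_trivial {H : Type*} [Group H] [Finite H] (p : ℕ) [Fact p.Prime] (N : Subgroup H)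
    (hN : ∀ χ : IrrCharacter H, ¬ p ∣ charDegree (χ : H → ℂ) →
      ∀ n ∈ N, (χ : H → ℂ) n = (χ : H → ℂ) 1)
    (P : Sylow p H) (μ : (P : Subgroup H) →* ℂˣ) (x : (P : Subgroup H))
    (hx : (x : H) ∈ N) : μ x = 1 := by
  classical
  by_contra hne
  haveI : Fintype H := Fintype.ofFinite H
  haveI : Fintype (P : Subgroup H) := Fintype.ofFinite _
  haveI : Fintype (IrrCharacter H) := Fintype.ofFinite _
  set μ' : ↥(P : Subgroup H) → ℂ := fun y => (μ y : ℂ) with hμ'def
  have hμ' : IsIrrCharacter (P : Subgroup H) μ' := isIrrCharacter_of_hom μ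
  have ha : ∀ χ : IrrCharacter H, ∃ a : ℕ,
      classInner (fun y : (P : Subgroup H) => (χ : H → ℂ) y) μ' = a := fun χ =>
    classInner_char_irr_nat
      (Cfsg.Agent.S0148.isCharacter_restrict (P : Subgroup H) (isCharacter_of_irr χ.2)) hμ'
  choose a ha using ha
  have hd : ∀ χ : IrrCharacter H, (χ : H → ℂ) 1 = (charDegree (χ : H → ℂ) : ℂ) := fun χ =>
    (irr_apply_one_eq_charDegree χ.2).1
  -- characters of `p'`-degree do not contain μ
  have hlin : ∀ χ : IrrCharacter H, ¬ p ∣ charDegree (χ : H → ℂ) → a χ = 0 := by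
    intro χ hp
    have hker := hN χ hp (x : H) hx
    have hmul : ∀ y : H, (χ : H → ℂ) ((x : H) * y) = (χ : H → ℂ) y :=
      apply_mul_of_ker (isCharacter_of_irr χ.2) hker
    have hsum : ∑ y : (P : Subgroup H), (χ : H → ℂ) y * conj (μ' y) =
        conj (μ' x) * ∑ y : (P : Subgroup H), (χ : H → ℂ) y * conj (μ' y) := by
      conv_lhs => rw [← Equiv.sum_comp (Equiv.mulLeft x)
        (fun y : (P : Subgroup H) => (χ : H → ℂ) y * conj (μ' y))]
      rw [Finset.mul_sum]
      refine Finset.sum_congr rfl fun y _ => ?_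
      simp only [Equiv.coe_mulLeft, Subgroup.coe_mul, hmul, hμ'def, map_mul, Units.val_mul]
      ring
    have h1 : classInner (fun y : (P : Subgroup H) => (χ : H → ℂ) y) μ' =
        conj (μ' x) * classInner (fun y : (P : Subgroup H) => (χ : H → ℂ) y) μ' := by
      rw [classInner_def]
      conv_lhs => rw [hsum]
      ring
    have h2 : μ' x ≠ 1 := by
      intro h
      apply hne
      exact Units.ext h
    have h3 : conj (μ' x) ≠ 1 := by
      intro h
      apply h2
      have := congrArg conj h
      simpa using this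
    have h4 : (1 - conj (μ' x)) * classInner (fun y : (P : Subgroup H) => (χ : H → ℂ) y) μ' = 0 := by
      rw [sub_mul, one_mul, ← h1, sub_self]
    have h5 : classInner (fun y : (P : Subgroup H) => (χ : H → ℂ) y) μ' = 0 := by
      rcases mul_eq_zero.1 h4 with h | h
      · exact absurd (sub_eq_zero.1 h).symm h3
      · exact h
    have : (a χ : ℂ) = 0 := by rw [← ha, h5]
    exact_mod_cast this
  -- the regular character
  have hP0 : (Nat.card (P : Subgroup H) : ℂ) ≠ 0 := Nat.cast_ne_zero.2 Nat.card_pos.ne'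
  have hreg : ∑ χ : IrrCharacter H, (χ : H → ℂ) 1 * (a χ : ℂ)
      = ((P : Subgroup H).index : ℂ) := by
    have h1 : ∀ χ : IrrCharacter H, (χ : H → ℂ) 1 * (a χ : ℂ)
        = (Nat.card (P : Subgroup H) : ℂ)⁻¹ * ∑ y : (P : Subgroup H),
          ((χ : H → ℂ) 1 * (χ : H → ℂ) y) * conj (μ' y) := by
      intro χ
      rw [← ha, classInner_def, Finset.mul_sum, Finset.mul_sum,
        Finset.mul_sum]
      refine Finset.sum_congr rfl fun y _ => ?_
      ring
    rw [Finset.sum_congr rfl fun χ _ => h1 χ, ← Finset.mul_sum, Finset.sum_comm]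
    have h2 : ∀ y : (P : Subgroup H), ∑ χ : IrrCharacter H,
        ((χ : H → ℂ) 1 * (χ : H → ℂ) y) * conj (μ' y)
        = if y = 1 then (Nat.card H : ℂ) else 0 := by
      intro y
      rw [← Finset.sum_mul, Cfsg.Agent.Lib.Helper2.ThompsonDeg.sum_degree_mul_apply]
      by_cases hy : y = 1
      · subst hy
        simp [hμ'def]
      · have : ¬ ((y : H) = 1) := fun h => hy (Subtype.ext h)
        rw [if_neg this, if_neg hy, zero_mul]
    rw [Finset.sum_congr rfl fun y _ => h2 y, Finset.sum_ite_eq' Finset.univ (1 : (P : Subgroup H)),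
      if_pos (Finset.mem_univ _)]
    have h3 : (Nat.card H : ℂ) = (Nat.card (P : Subgroup H) : ℂ) * ((P : Subgroup H).index : ℂ) := by
      rw [← Nat.cast_mul, Subgroup.card_mul_index]
    rw [h3]
    field_simp
  have hnat : (P : Subgroup H).index = ∑ χ : IrrCharacter H, charDegree (χ : H → ℂ) * a χ := by
    have : (((P : Subgroup H).index : ℕ) : ℂ) =
        ((∑ χ : IrrCharacter H, charDegree (χ : H → ℂ) * a χ : ℕ) : ℂ) := by
      rw [← hreg]
      push_cast
      refine Finset.sum_congr rfl fun χ _ => ?_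
      rw [hd χ]
    exact_mod_cast this
  apply P.not_dvd_index
  rw [hnat]
  apply Finset.dvd_sum
  intro χ _
  by_cases h1 : p ∣ charDegree (χ : H → ℂ)
  · exact Dvd.dvd.mul_right h1 _
  · rw [hlin χ h1, mul_zero]; exact dvd_zero _

/-- Under the same hypothesis, `P ∩ N ≤ P'`. -/
theorem mem_commutator_sylow {H : Type*} [Group H] [Finite H] (p : ℕ) [Fact p.Prime]
    (N : Subgroup H)
    (hN : ∀ χ : IrrCharacter H, ¬ p ∣ charDegree (χ : H → ℂ) →
      ∀ n ∈ N, (χ : H → ℂ) n = (χ : H → ℂ) 1)
    (P : Sylow p H) (x : (P : Subgroup H)) (hx : (x : H) ∈ N) :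
    x ∈ commutator (P : Subgroup H) := by
  by_contra hnot
  have hne : (Abelianization.of x : Abelianization (P : Subgroup H)) ≠ 1 := by
    intro h
    apply hnot
    rw [← Abelianization.ker_of, MonoidHom.mem_ker]
    exact h
  have : NeZero (Monoid.exponent (Abelianization (P : Subgroup H))) :=
    ⟨Monoid.exponent_ne_zero_of_finite⟩
  obtain ⟨φ, hφ⟩ := CommGroup.exists_apply_ne_one_of_hasEnoughRootsOfUnity
    (Abelianization (P : Subgroup H)) ℂ hne
  exact hφ (linear_trivial p N hN P (φ.comp Abelianization.of) x hx)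

end Cfsg.Agent.Lib.Helper8.PQ
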