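import Mathlib
import Cfsg.Prelude.Def_Local
import Cfsg.Agent.Lib.Helper8.PQ1
import Cfsg.Agent.Lib.Lead.TateE
import Cfsg.Agent.Lib.Lead.Frattini
import Cfsg.Agent.Lib.Lead.FrobNPC5
import Cfsg.Agent.Lib.Helper6.PPrimeCore

/-!
# A normal subgroup in the kernel of all `p'`-degree characters admits no normal `p'`-section
on top of it when `O_{p'} = 1`
-/

set_option autoImplicit false
set_option linter.unusedSectionVars false

namespace Cfsg.Agent.Lib.Helper8.PQ

open Cfsg
open Cfsg.Agent.Lib.Helper1 Cfsg.Agent.Lib.Helper4 Cfsg.Agent.Lib.Helper8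

/-- `p`-elements of `W` lie in a normal subgroup of `p'`-index in `W`. -/
theorem mem_of_pElement {H : Type*} [Group H] [Finite H] {p : ℕ} [Fact p.Prime]
    (N W : Subgroup H) [hNn : N.Normal] (hrel : (N.relIndex W).Coprime p) {x : H} (hx : x ∈ W)
    {k : ℕ} (hk : x ^ (p ^ k) = 1) : x ∈ N := by
  haveI : (N.subgroupOf W).Normal := hNn.subgroupOf W
  set y : W := ⟨x, hx⟩ with hy
  have h1 : y ^ (N.subgroupOf W).index ∈ N.subgroupOf W := Subgroup.pow_index_mem _ y
  have h2 : orderOf y ∣ p ^ k := by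
    apply orderOf_dvd_of_pow_eq_one
    apply Subtype.ext
    rw [Subgroup.coe_pow]
    exact hk
  have h3 : ((N.subgroupOf W).index).Coprime (orderOf y) := by
    show (N.relIndex W).Coprime (orderOf y)
    exact Nat.Coprime.coprime_dvd_right h2 (Nat.Coprime.pow_right k hrel)
  obtain ⟨m, hm⟩ := exists_pow_eq_self_of_coprime h3
  have h4 : y ∈ N.subgroupOf W := by
    rw [← hm]
    exact Subgroup.pow_mem _ h1 m
  exact Subgroup.mem_subgroupOf.1 h4

/-- Suppose `O_{p'}(H) = 1`, `N ≤ W` are normal subgroups of `H` with `[W : N]` prime to `p`, and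
every irreducible character of `p'`-degree of `H` is trivial on `N`. Then `W = N`. -/
theorem le_of_coprime_relIndex {H : Type*} [Group H] [Finite H] (p : ℕ) [Fact p.Prime]
    (hcore : pPrimeCore p H = ⊥) (N W : Subgroup H) [hNn : N.Normal] [hWn : W.Normal]
    (hrel : (N.relIndex W).Coprime p)
    (hN : ∀ χ : IrrCharacter H, ¬ p ∣ charDegree (χ : H → ℂ) →
      ∀ n ∈ N, (χ : H → ℂ) n = (χ : H → ℂ) 1) : W ≤ N := by
  have hp : p.Prime := Fact.out
  obtain ⟨P⟩ : Nonempty (Sylow p H) := inferInstance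
  have htate : W ⊓ (P : Subgroup H) ≤
      (frattini (P : Subgroup H)).map (P : Subgroup H).subtype := by
    rintro x ⟨hxW, hxP⟩
    obtain ⟨k, hk⟩ := P.isPGroup' ⟨x, hxP⟩
    have hk' : x ^ (p ^ k) = 1 := by
      have := congrArg Subtype.val hk
      simpa using this
    have hxN : x ∈ N := mem_of_pElement N W hrel hxW hk'
    have h1 := mem_commutator_sylow p N hN P ⟨x, hxP⟩ hxN
    have h2 := Cfsg.Agent.Lib.Lead.commutator_le_frattini_of_isPGroup P.isPGroup' h1
    exact ⟨⟨x, hxP⟩, h2, rfl⟩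
  obtain ⟨T, C, hCn, hc⟩ := Cfsg.Agent.Lib.Lead.tate P W htate
  have hCc := Cfsg.Agent.Lib.Lead.card_coprime_of_isComplement' T C hc
  have hCi := Cfsg.Agent.Lib.Lead.index_eq_pow_of_isComplement' T C hc
  haveI := hCn
  have hC'n : (C.map W.subtype).Normal := by
    constructor
    rintro _ ⟨c, hcC, rfl⟩ g
    have hmem : g * (c : H) * g⁻¹ ∈ W := hWn.conj_mem _ c.2 g
    refine ⟨⟨_, hmem⟩, ?_, rfl⟩
    apply Cfsg.Agent.Lib.Lead.mem_of_coprime_orderOf C hCi
    have h1 : orderOf (⟨g * (c : H) * g⁻¹, hmem⟩ : W) = orderOf c := by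
      rw [← Subgroup.orderOf_coe, ← Subgroup.orderOf_coe]
      show orderOf (g * (c : H) * g⁻¹) = orderOf (c : H)
      have hs : SemiconjBy g (c : H) (g * (c : H) * g⁻¹) := by
        unfold SemiconjBy
        group
      exact (SemiconjBy.orderOf_eq g hs).symm
    rw [h1]
    have h2 : orderOf c ∣ Nat.card C := by
      have := orderOf_dvd_natCard (⟨c, hcC⟩ : C)
      rwa [Subgroup.orderOf_mk] at this
    exact Nat.Coprime.coprime_dvd_left h2 hCc
  have hC'c : (Nat.card (C.map W.subtype)).Coprime p := by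
    rw [Subgroup.card_map_of_injective W.subtype_injective]
    exact hCc
  have hC'bot : C.map W.subtype = ⊥ := by
    have := Cfsg.Agent.Lib.Helper6.le_pPrimeCore hC'n hC'c
    rw [hcore] at this
    exact le_bot_iff.1 this
  have hCbot : Nat.card C = 1 := by
    rw [← Subgroup.card_map_of_injective W.subtype_injective, hC'bot, Subgroup.card_bot]
  obtain ⟨k, hk⟩ := IsPGroup.iff_card.1 T.isPGroup'
  have hWcard : Nat.card W = p ^ k := by
    have := hc.card_mul_card
    rw [hCbot, one_mul] at this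
    rw [← this]
    exact hk
  have hWp : IsPGroup p W := IsPGroup.of_card hWcard
  intro w hw
  obtain ⟨j, hj⟩ := hWp ⟨w, hw⟩
  have hj' : w ^ (p ^ j) = 1 := by
    have := congrArg Subtype.val hj
    simpa using this
  exact mem_of_pElement N W hrel hw hj'

end Cfsg.Agent.Lib.Helper8.PQ
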