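import Mathlib
import Cfsg.Prelude.Def_Local
import Cfsg.Agent.Lib.Helper8.PQ2
import Cfsg.Agent.Lib.Helper8.CharKernel
import Cfsg.Agent.Lib.Helper4.SolvBalance

/-!
# Characters of `p'`-degree of `G / O_{p'}(G)` trivial on a normal subgroup: consequences in `G`
-/

set_option autoImplicit false
set_option linter.unusedSectionVars false

namespace Cfsg.Agent.Lib.Helper8.PQ

open Cfsg
open Cfsg.Agent.Lib.Helper1 Cfsg.Agent.Lib.Helper4 Cfsg.Agent.Lib.Helper8

universe u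

/-- The hypothesis on characters passes to the quotient by `O_{p'}(G)`. -/
theorem quotient_hyp {G : Type u} [Group G] [Finite G] (p : ℕ) [Fact p.Prime] (S : Subgroup G)
    (hX : ∀ χ : IrrCharacter G, (∀ r ∈ pPrimeCore p G, (χ : G → ℂ) r = (χ : G → ℂ) 1) →
      ¬ p ∣ charDegree (χ : G → ℂ) → ∀ s ∈ S, (χ : G → ℂ) s = (χ : G → ℂ) 1)
    (ψ : IrrCharacter (G ⧸ pPrimeCore p G)) (hψ : ¬ p ∣ charDegree (ψ : G ⧸ pPrimeCore p G → ℂ)) :
    ∀ n ∈ S.map (QuotientGroup.mk' (pPrimeCore p G)),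
      (ψ : G ⧸ pPrimeCore p G → ℂ) n = (ψ : G ⧸ pPrimeCore p G → ℂ) 1 := by
  rintro _ ⟨s, hs, rfl⟩
  set χ : IrrCharacter G := ⟨_, isIrrCharacter_inflation (pPrimeCore p G) ψ.2⟩ with hχ
  have h1 : ∀ r ∈ pPrimeCore p G, (χ : G → ℂ) r = (χ : G → ℂ) 1 := by
    intro r hr
    show (ψ : G ⧸ pPrimeCore p G → ℂ) (QuotientGroup.mk r) =
      (ψ : G ⧸ pPrimeCore p G → ℂ) (QuotientGroup.mk 1)
    rw [(QuotientGroup.eq_one_iff r).2 hr, QuotientGroup.mk_one]
  have h2 : charDegree (χ : G → ℂ) = charDegree (ψ : G ⧸ pPrimeCore p G → ℂ) := by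
    unfold charDegree
    show ⌊((ψ : G ⧸ pPrimeCore p G → ℂ) (QuotientGroup.mk 1)).re⌋₊ = _
    rw [QuotientGroup.mk_one]
  have h3 := hX χ h1 (by rw [h2]; exact hψ) s hs
  have h4 : (χ : G → ℂ) 1 = (ψ : G ⧸ pPrimeCore p G → ℂ) 1 := by
    show (ψ : G ⧸ pPrimeCore p G → ℂ) (QuotientGroup.mk 1) = _
    rw [QuotientGroup.mk_one]
  rw [← h4, ← h3]
  rfl

/-- If every `p'`-degree irreducible character of `G / O_{p'}(G)` is trivial on `S`, no normal
subgroup `W > O_{p'}(G) S` has `[W : O_{p'}(G) S]` prime to `p`. -/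
theorem le_sup_of_coprime_relIndex {G : Type u} [Group G] [Finite G] (p : ℕ) [Fact p.Prime]
    (S W : Subgroup G) [hSn : S.Normal] [hWn : W.Normal]
    (hrel : ((pPrimeCore p G ⊔ S).relIndex W).Coprime p)
    (hX : ∀ χ : IrrCharacter G, (∀ r ∈ pPrimeCore p G, (χ : G → ℂ) r = (χ : G → ℂ) 1) →
      ¬ p ∣ charDegree (χ : G → ℂ) → ∀ s ∈ S, (χ : G → ℂ) s = (χ : G → ℂ) 1) :
    W ≤ pPrimeCore p G ⊔ S := by
  set R := pPrimeCore p G with hR
  set mk := QuotientGroup.mk' R with hmk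
  have hsurj : Function.Surjective mk := QuotientGroup.mk'_surjective R
  haveI : (S.map mk).Normal := hSn.map mk hsurj
  haveI : (W.map mk).Normal := hWn.map mk hsurj
  have hcore : pPrimeCore p (G ⧸ R) = ⊥ := pPrimeCore_quotient_self p
  have hcomap : (S.map mk).comap mk = R ⊔ S := by
    rw [Subgroup.comap_map_eq, QuotientGroup.ker_mk', sup_comm]
  have hrel' : ((S.map mk).relIndex (W.map mk)).Coprime p := by
    rw [← Subgroup.relIndex_comap, hcomap]
    exact hrel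
  have h := le_of_coprime_relIndex p hcore (S.map mk) (W.map mk) hrel'
    (fun ψ hψ => quotient_hyp p S hX ψ hψ)
  intro w hw
  have h1 : mk w ∈ S.map mk := h ⟨w, hw, rfl⟩
  have h2 : w ∈ (S.map mk).comap mk := h1
  rw [hcomap] at h2
  exact h2

/-- If every `p'`-degree irreducible character of `G / O_{p'}(G)` is trivial, then `p` does not
divide the order of `G`. -/
theorem not_dvd_card_of_trivial {G : Type u} [Group G] [Finite G] (p : ℕ) [Fact p.Prime]
    (hX : ∀ χ : IrrCharacter G, (∀ r ∈ pPrimeCore p G, (χ : G → ℂ) r = (χ : G → ℂ) 1) →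
      ¬ p ∣ charDegree (χ : G → ℂ) → ∀ s : G, (χ : G → ℂ) s = (χ : G → ℂ) 1) :
    ¬ p ∣ Nat.card G := by
  intro hdvd
  have hp : p.Prime := Fact.out
  set R := pPrimeCore p G with hR
  have hRc : (Nat.card R).Coprime p := Cfsg.Agent.Lib.Helper6.pPrimeCore_coprime p
  have hH : p ∣ Nat.card (G ⧸ R) := by
    have h1 : Nat.card G = Nat.card (G ⧸ R) * Nat.card R :=
      Subgroup.card_eq_card_quotient_mul_card_subgroup R
    rw [h1] at hdvd
    exact (Nat.Coprime.dvd_mul_right hRc.symm).1 hdvd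
  obtain ⟨P⟩ : Nonempty (Sylow p (G ⧸ R)) := inferInstance
  have hne : (P : Subgroup (G ⧸ R)) ≠ ⊥ := P.ne_bot_of_dvd_card hH
  haveI : Nontrivial (P : Subgroup (G ⧸ R)) := (Subgroup.nontrivial_iff_ne_bot _).2 hne
  haveI : Group.IsNilpotent (P : Subgroup (G ⧸ R)) := P.isPGroup'.isNilpotent
  have hlt := Group.IsSolvable.commutator_lt_top_of_nontrivial (P : Subgroup (G ⧸ R))
  obtain ⟨x, -, hx⟩ := SetLike.exists_of_lt hlt
  apply hx
  apply mem_commutator_sylow p (⊤ : Subgroup (G ⧸ R)) ?_ P x (Subgroup.mem_top _)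
  intro ψ hψ n _
  have h := quotient_hyp p (⊤ : Subgroup G) (fun χ h1 h2 s _ => hX χ h1 h2 s) ψ hψ n
  apply h
  obtain ⟨g, rfl⟩ := QuotientGroup.mk'_surjective R n
  exact ⟨g, Subgroup.mem_top _, rfl⟩

end Cfsg.Agent.Lib.Helper8.PQ
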