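import Mathlib
import Cfsg.Agent.Lib.Helper4.PQDefs
import Cfsg.Agent.Lib.Helper8.SBS6
import Cfsg.Agent.Lib.Helper8.GFpf6
import Cfsg.Agent.Lib.Helper7.PQSp1
import Cfsg.Agent.Lib.Helper7.PQHH
import Cfsg.Agent.Lib.Lead.S3F1
import Cfsg.Agent.Lib.Lead.CoprimeAction

/-!
# S4306, package T-Sp2 (c): the stabilizer of `Z₀` is `H₀`, type (α)

With `W = C_V(Z₀)`, `K₀ = C_Q(W)`, `Y₀ = {u ∈ Q | [u, Q] ≤ Z₀}` and `a ∈ H₀`, `a ≠ 1`, we verify all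
the hypotheses of helper4's Theorem X (`extraspecial_false`, taken here as the hypothesis
`XStatement V T`); its conclusion `Y₀ = Q` contradicts `Q' = Z ≰ Z₀`.
-/

set_option autoImplicit false
set_option linter.unusedSectionVars false
set_option linter.unusedVariables false

namespace Cfsg.Agent.Lib.Helper8.PQSpC

open Cfsg.Agent.Lib.Helper4.PQ Cfsg.Agent.Lib.Helper8.SBS Cfsg.Agent.Lib.Helper2.PQA
open Cfsg.Agent.Lib.Helper7.PQSp1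

universe u w

section general

variable {T : Type w} [Group T]

/-- the elements normalizing `Y` and acting trivially on `Y/K`. -/
def trivOn (Y K : Subgroup T) : Subgroup T where
  carrier := {g | (∀ y ∈ Y, g * y * g⁻¹ ∈ Y) ∧ (∀ y ∈ Y, g⁻¹ * y * g ∈ Y) ∧
    ∀ y ∈ Y, g * y * g⁻¹ * y⁻¹ ∈ K}
  one_mem' := by
    refine ⟨fun y hy => by simpa using hy, fun y hy => by simpa using hy, fun y hy => ?_⟩
    have : (1 : T) * y * 1⁻¹ * y⁻¹ = 1 := by group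
    rw [this]; exact K.one_mem
  mul_mem' := by
    rintro a b ⟨ha1, ha2, ha3⟩ ⟨hb1, hb2, hb3⟩
    refine ⟨fun y hy => ?_, fun y hy => ?_, fun y hy => ?_⟩
    · have := ha1 _ (hb1 y hy)
      have e : a * b * y * (a * b)⁻¹ = a * (b * y * b⁻¹) * a⁻¹ := by group
      rw [e]; exact this
    · have := hb2 _ (ha2 y hy)
      have e : (a * b)⁻¹ * y * (a * b) = b⁻¹ * (a⁻¹ * y * a) * b := by group
      rw [e]; exact this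
    · have h1 := ha3 _ (hb1 y hy)
      have h2 := hb3 y hy
      have e : a * b * y * (a * b)⁻¹ * y⁻¹ =
          (a * (b * y * b⁻¹) * a⁻¹ * (b * y * b⁻¹)⁻¹) * (b * y * b⁻¹ * y⁻¹) := by group
      rw [e]; exact K.mul_mem h1 h2
  inv_mem' := by
    rintro a ⟨ha1, ha2, ha3⟩
    refine ⟨fun y hy => ?_, fun y hy => ?_, fun y hy => ?_⟩
    · simpa using ha2 y hy
    · simpa using ha1 y hy
    · have h1 := ha3 _ (ha2 y hy)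
      have e : a⁻¹ * y * a⁻¹⁻¹ * y⁻¹ = (a * (a⁻¹ * y * a) * a⁻¹ * (a⁻¹ * y * a)⁻¹)⁻¹ := by group
      rw [e]; exact K.inv_mem h1

theorem mem_trivOn {Y K : Subgroup T} {g : T} : g ∈ trivOn Y K ↔
    (∀ y ∈ Y, g * y * g⁻¹ ∈ Y) ∧ (∀ y ∈ Y, g⁻¹ * y * g ∈ Y) ∧
      ∀ y ∈ Y, g * y * g⁻¹ * y⁻¹ ∈ K := Iff.rfl

theorem conj_mem_trivOn {Y K : Subgroup T} {g d : T} (hg : g ∈ trivOn Y K)
    (hdY : ∀ y ∈ Y, d * y * d⁻¹ ∈ Y) (hdY' : ∀ y ∈ Y, d⁻¹ * y * d ∈ Y)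
    (hdK : ∀ k ∈ K, d * k * d⁻¹ ∈ K) : d * g * d⁻¹ ∈ trivOn Y K := by
  obtain ⟨h1, h2, h3⟩ := mem_trivOn.1 hg
  refine mem_trivOn.2 ⟨fun y hy => ?_, fun y hy => ?_, fun y hy => ?_⟩
  · have := hdY _ (h1 _ (hdY' y hy))
    have e : d * g * d⁻¹ * y * (d * g * d⁻¹)⁻¹ = d * (g * (d⁻¹ * y * d) * g⁻¹) * d⁻¹ := by group
    rw [e]; exact this
  · have := hdY _ (h2 _ (hdY' y hy))
    have e : (d * g * d⁻¹)⁻¹ * y * (d * g * d⁻¹) = d * (g⁻¹ * (d⁻¹ * y * d) * g) * d⁻¹ := by group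
    rw [e]; exact this
  · have := hdK _ (h3 _ (hdY' y hy))
    have e : d * g * d⁻¹ * y * (d * g * d⁻¹)⁻¹ * y⁻¹ =
        d * (g * (d⁻¹ * y * d) * g⁻¹ * (d⁻¹ * y * d)⁻¹) * d⁻¹ := by group
    rw [e]; exact this

/-- the elements normalizing `C` and fixing the coset `c C`. -/
def fixCoset (C : Subgroup T) (c : T) : Subgroup T where
  carrier := {g | (∀ e ∈ C, g * e * g⁻¹ ∈ C) ∧ (∀ e ∈ C, g⁻¹ * e * g ∈ C) ∧
    g * c * g⁻¹ * c⁻¹ ∈ C}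
  one_mem' := by
    refine ⟨fun y hy => by simpa using hy, fun y hy => by simpa using hy, ?_⟩
    have : (1 : T) * c * 1⁻¹ * c⁻¹ = 1 := by group
    rw [this]; exact C.one_mem
  mul_mem' := by
    rintro a b ⟨ha1, ha2, ha3⟩ ⟨hb1, hb2, hb3⟩
    refine ⟨fun y hy => ?_, fun y hy => ?_, ?_⟩
    · have := ha1 _ (hb1 y hy)
      have e : a * b * y * (a * b)⁻¹ = a * (b * y * b⁻¹) * a⁻¹ := by group
      rw [e]; exact this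
    · have := hb2 _ (ha2 y hy)
      have e : (a * b)⁻¹ * y * (a * b) = b⁻¹ * (a⁻¹ * y * a) * b := by group
      rw [e]; exact this
    · have h1 := ha1 _ hb3
      have e : a * b * c * (a * b)⁻¹ * c⁻¹ =
          (a * (b * c * b⁻¹ * c⁻¹) * a⁻¹) * (a * c * a⁻¹ * c⁻¹) := by group
      rw [e]; exact C.mul_mem h1 ha3
  inv_mem' := by
    rintro a ⟨ha1, ha2, ha3⟩
    refine ⟨fun y hy => ?_, fun y hy => ?_, ?_⟩
    · simpa using ha2 y hy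
    · simpa using ha1 y hy
    · have h1 := ha2 _ (C.inv_mem ha3)
      have e : a⁻¹ * c * a⁻¹⁻¹ * c⁻¹ = a⁻¹ * (a * c * a⁻¹ * c⁻¹)⁻¹ * a := by group
      rw [e]; exact h1

theorem mem_fixCoset {C : Subgroup T} {c g : T} : g ∈ fixCoset C c ↔
    (∀ e ∈ C, g * e * g⁻¹ ∈ C) ∧ (∀ e ∈ C, g⁻¹ * e * g ∈ C) ∧ g * c * g⁻¹ * c⁻¹ ∈ C := Iff.rfl

theorem le_normalizer_of_conj {B K : Subgroup T} (h : ∀ x ∈ B, ∀ k ∈ K, x * k * x⁻¹ ∈ K) :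
    B ≤ Subgroup.normalizer (K : Set T) := by
  intro x hx
  rw [Subgroup.mem_normalizer_iff]
  intro k
  constructor
  · exact h x hx k
  · intro hk
    have := h x⁻¹ (B.inv_mem hx) _ hk
    have e : x⁻¹ * (x * k * x⁻¹) * x⁻¹⁻¹ = k := by group
    rwa [e] at this

/-- `Y₀`: the preimage in `Q` of the centre of `Q/Z₀` (`Z₀` normalized by `Q`). -/
def Y0 (Q Z₀ : Subgroup T) (hn : ∀ u ∈ Q, ∀ z ∈ Z₀, u * z * u⁻¹ ∈ Z₀) : Subgroup T where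
  carrier := {u | u ∈ Q ∧ ∀ v ∈ Q, u * v * u⁻¹ * v⁻¹ ∈ Z₀}
  one_mem' := by
    refine ⟨Q.one_mem, fun v hv => ?_⟩
    have : (1 : T) * v * 1⁻¹ * v⁻¹ = 1 := by group
    rw [this]; exact Z₀.one_mem
  mul_mem' := by
    rintro a b ⟨ha, ha'⟩ ⟨hb, hb'⟩
    refine ⟨Q.mul_mem ha hb, fun v hv => ?_⟩
    have e : a * b * v * (a * b)⁻¹ * v⁻¹ =
        (a * (b * v * b⁻¹ * v⁻¹) * a⁻¹) * (a * v * a⁻¹ * v⁻¹) := by group
    rw [e]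
    exact Z₀.mul_mem (hn a ha _ (hb' v hv)) (ha' v hv)
  inv_mem' := by
    rintro a ⟨ha, ha'⟩
    refine ⟨Q.inv_mem ha, fun v hv => ?_⟩
    have e : a⁻¹ * v * a⁻¹⁻¹ * v⁻¹ = a⁻¹ * (a * v * a⁻¹ * v⁻¹)⁻¹ * a⁻¹⁻¹ := by group
    rw [e]
    exact hn a⁻¹ (Q.inv_mem ha) _ (Z₀.inv_mem (ha' v hv))

theorem mem_Y0 {Q Z₀ : Subgroup T} {hn : ∀ u ∈ Q, ∀ z ∈ Z₀, u * z * u⁻¹ ∈ Z₀} {u : T} :
    u ∈ Y0 Q Z₀ hn ↔ u ∈ Q ∧ ∀ v ∈ Q, u * v * u⁻¹ * v⁻¹ ∈ Z₀ := Iff.rfl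

end general

section main

variable {V : Type u} [AddCommGroup V] [Finite V] {T : Type w} [Group T] [Finite T]
  [DistribMulAction T V]

/-- an element of `E` fixing the fixed points of a hyperplane `K` of `E` lies in `K`
(when `C_V(E) = 0`). -/
theorem mem_of_fix_fixedPts {t : ℕ} (ht : t.Prime) {E K : Subgroup T}
    (hK : IsHyp (V := V) t E K) (hE0 : fixedPts (V := V) E = ⊥) {z : T} (hz : z ∈ E)
    (hfix : ∀ w ∈ fixedPts (V := V) K, z • w = w) : z ∈ K := by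
  obtain ⟨hKE, hcard, hne⟩ := hK
  by_contra hzK
  have hKL : K ≤ K ⊔ Subgroup.zpowers z := le_sup_left
  have hLE : K ⊔ Subgroup.zpowers z ≤ E := sup_le hKE ((Subgroup.zpowers_le).2 hz)
  have hzL : z ∈ K ⊔ Subgroup.zpowers z :=
    (le_sup_right : Subgroup.zpowers z ≤ K ⊔ Subgroup.zpowers z) (Subgroup.mem_zpowers z)
  have h1 : Nat.card K ∣ Nat.card (K ⊔ Subgroup.zpowers z : Subgroup T) :=
    Subgroup.card_dvd_of_le hKL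
  have h2 : Nat.card (K ⊔ Subgroup.zpowers z : Subgroup T) ∣ Nat.card E :=
    Subgroup.card_dvd_of_le hLE
  obtain ⟨m, hm⟩ := h1
  have hKpos : 0 < Nat.card K := Nat.card_pos
  have h3 : m ∣ t := by
    rw [hm, ← hcard] at h2
    exact Nat.dvd_of_mul_dvd_mul_left hKpos h2
  rcases (Nat.dvd_prime ht).1 h3 with rfl | rfl
  · apply hzK
    have : K = K ⊔ Subgroup.zpowers z :=
      Subgroup.eq_of_le_of_card_ge hKL (by rw [hm, mul_one])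
    rw [this]; exact hzL
  · have hLeq : K ⊔ Subgroup.zpowers z = E :=
      Subgroup.eq_of_le_of_card_ge hLE (by rw [hm, hcard])
    apply hne
    rw [eq_bot_iff, ← hE0, ← hLeq, fixedPts_sup]
    intro w hw
    exact ⟨hw, mem_fixedPts_zpowers.2 (hfix w hw)⟩

/-- the statement of Theorem X (helper4's `extraspecial_false`) for the pair `(V, T)`. -/
def XStatement (V : Type u) [AddCommGroup V] (T : Type w) [Group T] [DistribMulAction T V] :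
    Prop :=
  ∀ {r t s p : ℕ} (hr : r.Prime) (ht : t.Prime) (hs : s.Prime) (hp : p.Prime)
    (htr : t ≠ r) (hpr : p ≠ r) (hpt : p ≠ t) (hps : p ≠ s) (hts : t ≠ s)
    (hVr : ∀ v : V, r • v = 0)
    (Q S Z₁ : Subgroup T) (h : T) (W : AddSubgroup V)
    (hQ : IsPGroup t Q) (hS : IsPGroup s S)
    (hSQ : ∀ c ∈ S, ∀ u ∈ Q, c * u * c⁻¹ ∈ Q) (hhQ : ∀ u ∈ Q, h * u * h⁻¹ ∈ Q)
    (hhS : ∀ c ∈ S, h * c * h⁻¹ ∈ S) (hh : h ^ p = 1) (hh1 : h ≠ 1)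
    (hWQ : ∀ u ∈ Q, ∀ w ∈ W, u • w ∈ W) (hWS : ∀ c ∈ S, ∀ w ∈ W, c • w ∈ W)
    (hWh : ∀ w ∈ W, h • w ∈ W) (hWfix : ∀ w ∈ W, h • w = w → w = 0)
    (hKZ₁ : CW Q W ≤ Z₁) (hZ₁Q : Z₁ ≤ Q) (hidx : (CW Q W).relIndex Z₁ = t)
    (hcomm : ∀ u ∈ Q, ∀ v ∈ Q, u * v * u⁻¹ * v⁻¹ ∈ Z₁)
    (hcent : ∀ z ∈ Z₁, ∀ u ∈ Q, z * u * z⁻¹ * u⁻¹ ∈ CW Q W)
    (hcenter : ∀ u ∈ Q, (∀ v ∈ Q, u * v * u⁻¹ * v⁻¹ ∈ CW Q W) → u ∈ Z₁)
    (hpow : ∀ u ∈ Q, u ^ t ∈ Z₁)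
    (hSZ₁ : ∀ c ∈ S, ∀ z ∈ Z₁, c * z * c⁻¹ * z⁻¹ ∈ CW Q W)
    (hhZ₁ : ∀ z ∈ Z₁, h * z * h⁻¹ * z⁻¹ ∈ CW Q W)
    (hCS : ∀ u ∈ Q, (∀ c ∈ S, c * u * c⁻¹ * u⁻¹ ∈ Z₁) → u ∈ Z₁)
    (hSab : ∀ c ∈ S, ∀ d ∈ S, c * d * c⁻¹ * d⁻¹ ∈ CS Q S) (hSexp : ∀ c ∈ S, c ^ s ∈ CS Q S)
    (hSfpf : ∀ c ∈ S, h * c * h⁻¹ * c⁻¹ ∈ CS Q S → c ∈ CS Q S)
    (hSsurj : ∀ c ∈ S, ∃ d ∈ S, ∃ e ∈ CS Q S, c = (h * d * h⁻¹ * d⁻¹) * e),
    Z₁ = Q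

variable {r t s p q : ℕ} {Q S A F H₀ : Subgroup T}

/-- **T-Sp2 (c)**, hypothesis form: the stabilizer of `Z₀` is `H₀` and the tower has type (α). -/
theorem false_of_stab_H_alpha_of (h : Tower V r t s p q Q S A F H₀)
    (hcomm : ∀ u ∈ Q, ∀ v ∈ Q, u * v * u⁻¹ * v⁻¹ ∈ Zc Q S)
    (hZcl : Zc Q S ≤ Subgroup.closure {x | ∃ u ∈ Q, ∃ v ∈ Q, x = u * v * u⁻¹ * v⁻¹})
    (hcen : ∀ z ∈ Zc Q S, ∀ u ∈ Q, z * u = u * z)
    (hpowQ : ∀ u ∈ Q, u ^ t ∈ Zc Q S)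
    (hpow : ∀ z ∈ Zc Q S, z ^ t = 1)
    (hSab : ∀ c ∈ S, ∀ d ∈ S, c * d * c⁻¹ * d⁻¹ ∈ CS Q S)
    (hSexp : ∀ c ∈ S, c ^ s ∈ CS Q S)
    (hCSA : ∀ c ∈ S, (∀ a ∈ A, a * c * a⁻¹ * c⁻¹ ∈ CS Q S) → c ∈ CS Q S)
    (hsurj : (∀ f ∈ F, ∀ c ∈ S, f * c * f⁻¹ * c⁻¹ ∈ CS Q S) → ∀ a ∈ H₀, a ≠ 1 →
      ∀ c ∈ S, ∃ d ∈ S, ∃ e ∈ CS Q S, c = (a * d * a⁻¹ * d⁻¹) * e)
    (hX : XStatement V T)
    (Z₀ : Subgroup T) (hZ₀ : IsHyp (V := V) t (Zc Q S) Z₀)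
    (hst : ∀ a ∈ A, (∀ z ∈ Z₀, a * z * a⁻¹ ∈ Z₀) ↔ a ∈ H₀)
    (hα : ∀ f ∈ F, ∀ c ∈ S, f * c * f⁻¹ * c⁻¹ ∈ CS Q S) : False := by
  classical
  have htf : Fact t.Prime := ⟨h.ht⟩
  have hsf : Fact s.Prime := ⟨h.hs⟩
  have hp := h.frob.hp
  have hQn := h.hQn
  have hZ₀Z : Z₀ ≤ Zc Q S := hZ₀.1
  have hcardZ₀ : Nat.card Z₀ * t = Nat.card (Zc Q S) := hZ₀.2.1
  have hZQ : Zc Q S ≤ Q := fun x hx => (mem_Zc.1 hx).1
  have hZ₀Q : Z₀ ≤ Q := hZ₀Z.trans hZQ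
  have hZne : Zc Q S ≠ ⊥ := by
    intro h0
    have h1 : Nat.card (Zc Q S) = 1 := by rw [h0]; exact Subgroup.card_bot
    rw [h1] at hcardZ₀
    have h2 : t ∣ 1 := ⟨Nat.card Z₀, by rw [mul_comm]; exact hcardZ₀.symm⟩
    exact h.ht.one_lt.ne' (Nat.dvd_one.1 h2)
  have hZn : (Zc Q S).Normal := Zc_normal h hcen
  have hfixZ : fixedPts (V := V) (Zc Q S) = ⊥ := tower_fixedPts_Zc h hcen hpow hZne
  obtain ⟨hpqA, hAeq⟩ := isPQ_of_frob h.frob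
  -- the element `a`
  obtain ⟨a, haH, ha1⟩ := exists_ne_one_of_card_prime hp h.frob.hH
  have haA : a ∈ A := h.frob.hHA haH
  have haN : ∀ z ∈ Z₀, a * z * a⁻¹ ∈ Z₀ := (hst a haA).2 haH
  have haN' : ∀ z ∈ Z₀, a⁻¹ * z * a⁻¹⁻¹ ∈ Z₀ :=
    (hst a⁻¹ (A.inv_mem haA)).2 (H₀.inv_mem haH)
  have hap : a ^ p = 1 := by
    have h1 : (⟨a, haH⟩ : H₀) ^ Nat.card H₀ = 1 := pow_card_eq_one'
    rw [h.frob.hH] at h1
    have := congrArg Subtype.val h1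
    simpa using this
  have hpr : p ≠ r := (ne_of_coprime_mul_left h.hr h.hrA).symm
  have hpt : p ≠ t := (ne_of_coprime_mul_left h.ht h.htA).symm
  have hps : p ≠ s := (ne_of_coprime_mul_left h.hs h.hsA).symm
  -- `Z₀` is centralized by `Q` and `S`
  have hnQ : ∀ u ∈ Q, ∀ z ∈ Z₀, u * z * u⁻¹ ∈ Z₀ := by
    intro u hu z hz
    have : u * z * u⁻¹ = z := by rw [← hcen z (hZ₀Z hz) u hu]; group
    rw [this]; exact hz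
  have hnS : ∀ c ∈ S, ∀ z ∈ Z₀, c * z * c⁻¹ ∈ Z₀ := by
    intro c hc z hz
    have : c * z * c⁻¹ = z := by rw [(mem_Zc.1 (hZ₀Z hz)).2 c hc]; group
    rw [this]; exact hz
  -- `W`
  have hWstab : ∀ g : T, (∀ z ∈ Z₀, g * z * g⁻¹ ∈ Z₀) →
      ∀ w ∈ fixedPts (V := V) Z₀, g • w ∈ fixedPts (V := V) Z₀ := by
    intro g hg w hw
    have h1 := smul_mem_fixedPts_conjSub hw g
    rwa [conjSub_eq_iff.2 hg] at h1
  have hWQ : ∀ u ∈ Q, ∀ w ∈ fixedPts (V := V) Z₀, u • w ∈ fixedPts (V := V) Z₀ :=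
    fun u hu => hWstab u (hnQ u hu)
  have hWS : ∀ c ∈ S, ∀ w ∈ fixedPts (V := V) Z₀, c • w ∈ fixedPts (V := V) Z₀ :=
    fun c hc => hWstab c (hnS c hc)
  have hWa : ∀ w ∈ fixedPts (V := V) Z₀, a • w ∈ fixedPts (V := V) Z₀ := hWstab a haN
  have hWa' : ∀ w ∈ fixedPts (V := V) Z₀, a⁻¹ • w ∈ fixedPts (V := V) Z₀ := hWstab a⁻¹ haN'
  -- `K₀`
  have hK₀Q : CW Q (fixedPts (V := V) Z₀) ≤ Q := CW_le Q _
  have hK₀norm : ∀ g : T, (∀ w ∈ fixedPts (V := V) Z₀, g⁻¹ • w ∈ fixedPts (V := V) Z₀) →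
      ∀ k ∈ CW Q (fixedPts (V := V) Z₀), g * k * g⁻¹ ∈ CW Q (fixedPts (V := V) Z₀) := by
    intro g hg' k hk
    rw [mem_CW] at hk ⊢
    refine ⟨hQn.conj_mem k hk.1 g, fun w hw => ?_⟩
    rw [mul_smul, mul_smul, hk.2 _ (hg' w hw), smul_inv_smul]
  have hK₀nQ : ∀ u ∈ Q, ∀ k ∈ CW Q (fixedPts (V := V) Z₀),
      u * k * u⁻¹ ∈ CW Q (fixedPts (V := V) Z₀) :=
    fun u hu => hK₀norm u (hWQ u⁻¹ (Q.inv_mem hu))
  have hK₀nS : ∀ c ∈ S, ∀ k ∈ CW Q (fixedPts (V := V) Z₀),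
      c * k * c⁻¹ ∈ CW Q (fixedPts (V := V) Z₀) :=
    fun c hc => hK₀norm c (hWS c⁻¹ (S.inv_mem hc))
  -- `K₀ ∩ Z = Z₀`
  have hK₀Z : ∀ z ∈ Zc Q S, z ∈ CW Q (fixedPts (V := V) Z₀) ↔ z ∈ Z₀ := by
    intro z hz
    constructor
    · intro hk
      exact mem_of_fix_fixedPts h.ht hZ₀ hfixZ hz (mem_CW.1 hk).2
    · intro hz0
      exact mem_CW.2 ⟨hZ₀Q hz0, fun w hw => hw z hz0⟩
  -- `Y₀`
  have hY₀Q : Y0 Q Z₀ hnQ ≤ Q := fun u hu => (mem_Y0.1 hu).1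
  have hZY₀ : Zc Q S ≤ Y0 Q Z₀ hnQ := by
    intro z hz
    refine mem_Y0.2 ⟨hZQ hz, fun v hv => ?_⟩
    have : z * v * z⁻¹ * v⁻¹ = 1 := by rw [hcen z hz v hv]; group
    rw [this]; exact Z₀.one_mem
  have hK₀Y₀ : CW Q (fixedPts (V := V) Z₀) ≤ Y0 Q Z₀ hnQ := by
    intro k hk
    refine mem_Y0.2 ⟨hK₀Q hk, fun v hv => ?_⟩
    have h1 : k * v * k⁻¹ * v⁻¹ ∈ Zc Q S := hcomm k (hK₀Q hk) v hv
    have h2 : k * v * k⁻¹ * v⁻¹ ∈ CW Q (fixedPts (V := V) Z₀) := by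
      have : k * v * k⁻¹ * v⁻¹ = k * (v * k⁻¹ * v⁻¹) := by group
      rw [this]
      exact Subgroup.mul_mem _ hk (hK₀nQ v hv _ (Subgroup.inv_mem _ hk))
    exact (hK₀Z _ h1).1 h2
  have hY₀norm : ∀ g : T, (∀ z ∈ Z₀, g * z * g⁻¹ ∈ Z₀) →
      ∀ y ∈ Y0 Q Z₀ hnQ, g * y * g⁻¹ ∈ Y0 Q Z₀ hnQ := by
    intro g hg y hy
    refine mem_Y0.2 ⟨hQn.conj_mem y (mem_Y0.1 hy).1 g, fun v hv => ?_⟩
    have hv' : g⁻¹ * v * g ∈ Q := by simpa using hQn.conj_mem v hv g⁻¹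
    have := hg _ ((mem_Y0.1 hy).2 _ hv')
    have e : g * y * g⁻¹ * v * (g * y * g⁻¹)⁻¹ * v⁻¹ =
        g * (y * (g⁻¹ * v * g) * y⁻¹ * (g⁻¹ * v * g)⁻¹) * g⁻¹ := by group
    rw [e]; exact this
  have hY₀norm' : ∀ g : T, (∀ z ∈ Z₀, g⁻¹ * z * g⁻¹⁻¹ ∈ Z₀) →
      ∀ y ∈ Y0 Q Z₀ hnQ, g⁻¹ * y * g ∈ Y0 Q Z₀ hnQ := by
    intro g hg y hy
    simpa using hY₀norm g⁻¹ hg y hy
  -- (L-proj): `C_W(a) = 0`
  have hcopt : (Nat.card V).Coprime t :=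
    coprime_card_V h.hr h.hVr ((Nat.coprime_primes h.hr h.ht).2 (Ne.symm h.htr))
  have hcopA : (Nat.card V).Coprime (Nat.card A) := by
    rw [h.frob.hA]
    exact coprime_card_V h.hr h.hVr h.hrA
  have hZt : IsPGroup t (Zc Q S) := h.hQ.to_le hZQ
  have hcopZ : (Nat.card V).Coprime (Nat.card (Zc Q S)) := by
    obtain ⟨k, hk⟩ := IsPGroup.iff_card.1 hZt
    rw [hk]; exact Nat.Coprime.pow_right k hcopt
  have hAfix : fixedPts (V := V) A = ⊥ := by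
    rw [eq_bot_iff]
    intro v hv
    exact (AddSubgroup.mem_bot).2 (h.hfpfV v hv)
  have hzpow : ∀ x ∈ H₀, ∃ i : ℤ, a ^ i = x := fun x hx =>
    Subgroup.mem_zpowers_iff.1 (mem_zpowers_of_card_prime hp h.frob.hH haH ha1 hx)
  have hWfix : ∀ w ∈ fixedPts (V := V) Z₀, a • w = w → w = 0 := by
    intro w hw hfix
    by_contra hw0
    apply Cfsg.Agent.Lib.Lead.S3F1.fixedPts_ne_bot_of_hyp (V := V) (E := Zc Q S) (A := A)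
      (hEn := hZn) (fun x hx y hy => hcen x hx y (hZQ hy)) hfixZ hcopZ hcopA hZ₀ hw hw0 ?_ hAfix
    intro a' ha' ha'N
    have ha'H : a' ∈ H₀ := (hst a' ha').1 (conjSub_eq_iff.1 ha'N)
    obtain ⟨i, rfl⟩ := hzpow a' ha'H
    have hst' : a ∈ MulAction.stabilizer T w := hfix
    exact (MulAction.stabilizer T w).zpow_mem hst' i
  -- (HH): `[Y₀, a] ≤ K₀`
  have hY₀t : IsPGroup t (Y0 Q Z₀ hnQ) := h.hQ.to_le hY₀Q
  have haY₀ : ∀ y ∈ Y0 Q Z₀ hnQ, a * y * a⁻¹ ∈ Y0 Q Z₀ hnQ := hY₀norm a haN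
  have hHH : ∀ y ∈ Y0 Q Z₀ hnQ, a * y * a⁻¹ * y⁻¹ ∈ CW Q (fixedPts (V := V) Z₀) := by
    intro y hy
    have hyQ := hY₀Q hy
    have key := Cfsg.Agent.Lib.Helper7.PQHH.hh_sub_exc (V := V) (T := T) h.hr h.ht hp h.hVr
      (Ne.symm h.htr) (Ne.symm hpr) (Ne.symm hpt) (Y0 Q Z₀ hnQ) hY₀t a hap haY₀
      (fixedPts (V := V) Z₀) (fun x hx => hWQ x (hY₀Q hx)) hWa hWfix
      (by
        intro _ _ x hx y' hy' w hw
        have hc := (mem_Y0.1 hx).2 y' (hY₀Q hy')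
        have hw' : y' • x • w ∈ fixedPts (V := V) Z₀ :=
          hWQ y' (hY₀Q hy') _ (hWQ x (hY₀Q hx) w hw)
        have e : x * y' = (x * y' * x⁻¹ * y'⁻¹) * (y' * x) := by group
        rw [← mul_smul, e, mul_smul _ (y' * x), mul_smul y' x]
        exact hw' _ hc) y hy
    refine mem_CW.2 ⟨?_, key⟩
    exact Q.mul_mem (hQn.conj_mem y hyQ a) (Q.inv_mem hyQ)
  -- `S` acts trivially on `Y₀/K₀`
  have haTr : a ∈ trivOn (Y0 Q Z₀ hnQ) (CW Q (fixedPts (V := V) Z₀)) :=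
    mem_trivOn.2 ⟨haY₀, hY₀norm' a haN', hHH⟩
  have hSTr : ∀ c ∈ S, c ∈ trivOn (Y0 Q Z₀ hnQ) (CW Q (fixedPts (V := V) Z₀)) := by
    intro c hc
    obtain ⟨d, hd, e, he, rfl⟩ := hsurj hα a haH ha1 c hc
    have h1 : d * a * d⁻¹ ∈ trivOn (Y0 Q Z₀ hnQ) (CW Q (fixedPts (V := V) Z₀)) :=
      conj_mem_trivOn haTr (hY₀norm d (hnS d hd))
        (hY₀norm' d (hnS d⁻¹ (S.inv_mem hd))) (hK₀nS d hd)
    have h2 : e ∈ trivOn (Y0 Q Z₀ hnQ) (CW Q (fixedPts (V := V) Z₀)) := by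
      have hecen : ∀ y ∈ Y0 Q Z₀ hnQ, e * y * e⁻¹ = y := by
        intro y hy
        rw [← (mem_CS.1 he).2 y (hY₀Q hy)]; group
      have hecen' : ∀ y ∈ Y0 Q Z₀ hnQ, e⁻¹ * y * e = y := by
        intro y hy
        rw [mul_assoc, (mem_CS.1 he).2 y (hY₀Q hy)]; group
      refine mem_trivOn.2 ⟨fun y hy => ?_, fun y hy => ?_, fun y hy => ?_⟩
      · rw [hecen y hy]; exact hy
      · rw [hecen' y hy]; exact hy
      · rw [hecen y hy, mul_inv_cancel]; exact Subgroup.one_mem _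
    have e1 : a * d * a⁻¹ * d⁻¹ = a * (d * a * d⁻¹)⁻¹ := by group
    rw [e1]
    exact Subgroup.mul_mem _ (Subgroup.mul_mem _ haTr (Subgroup.inv_mem _ h1)) h2
  -- coprime action of `S`
  have hSnil : Group.IsNilpotent S := h.hS.isNilpotent
  have hSsolv : Group.IsSolvable S := inferInstance
  have hcop_of_le : ∀ {Y : Subgroup T}, Y ≤ Q → (Nat.card S).Coprime (Nat.card Y) := by
    intro Y hY
    obtain ⟨i, hi⟩ := IsPGroup.iff_card.1 h.hS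
    obtain ⟨j, hj⟩ := IsPGroup.iff_card.1 (h.hQ.to_le hY)
    rw [hi, hj]
    exact Nat.Coprime.pow _ _ ((Nat.coprime_primes h.hs h.ht).2 (Ne.symm h.hts))
  have hSY₀norm : S ≤ Subgroup.normalizer ((Y0 Q Z₀ hnQ : Subgroup T) : Set T) :=
    le_normalizer_of_conj (fun c hc y hy => hY₀norm c (hnS c hc) y hy)
  have hSK₀norm : S ≤ Subgroup.normalizer ((CW Q (fixedPts (V := V) Z₀) : Subgroup T) : Set T) :=
    le_normalizer_of_conj hK₀nS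
  have hmemZ : ∀ {Y : Subgroup T}, Y ≤ Q → ∀ c' ∈ Y ⊓ Subgroup.centralizer (S : Set T),
      c' ∈ Zc Q S := by
    intro Y hY c' hc'
    exact mem_Zc.2 ⟨hY hc'.1, fun c hc => (Subgroup.mem_centralizer_iff.1 hc'.2) c hc⟩
  have hdec : ∀ y ∈ Y0 Q Z₀ hnQ, ∃ k ∈ CW Q (fixedPts (V := V) Z₀), ∃ z ∈ Zc Q S, y = k * z := by
    intro y hy
    obtain ⟨c', hc', hk⟩ := Cfsg.Agent.Lib.Lead.coprime_fixed_coset S (Y0 Q Z₀ hnQ) hSY₀norm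
      (hcop_of_le hY₀Q) (Or.inl hSsolv) (CW Q (fixedPts (V := V) Z₀)) hK₀Y₀
      (le_normalizer_of_conj (fun y hy k hk => hK₀nQ y (hY₀Q hy) k hk)) hSK₀norm y hy
      (fun c hc => (mem_trivOn.1 (hSTr c hc)).2.2 y hy)
    have hc'Z : c' ∈ Zc Q S := hmemZ hY₀Q c' hc'
    refine ⟨c' * (y⁻¹ * c')⁻¹ * c'⁻¹, hK₀nQ c' (hZQ hc'Z) _ (Subgroup.inv_mem _ hk), c', hc'Z, ?_⟩
    group
  have hidx : (CW Q (fixedPts (V := V) Z₀)).relIndex (Y0 Q Z₀ hnQ) = t :=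
    Cfsg.Agent.Lib.Helper8.GFpf.relIndex_of_dec _ _ (Zc Q S) Z₀ hK₀Y₀ hZY₀ hZ₀Z
      (fun y hy k hk => hK₀nQ y (hY₀Q hy) k hk) hK₀Z hcardZ₀ hdec
  -- `C_{Q/Y₀}(S) = 1`
  have hCSQ : ∀ u ∈ Q, (∀ c ∈ S, c * u * c⁻¹ * u⁻¹ ∈ Y0 Q Z₀ hnQ) → u ∈ Y0 Q Z₀ hnQ := by
    intro u hu hfix
    obtain ⟨c', hc', hk⟩ := Cfsg.Agent.Lib.Lead.coprime_fixed_coset S Q
      (le_normalizer_of_conj (fun c hc u hu => hQn.conj_mem u hu c))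
      (hcop_of_le le_rfl) (Or.inl hSsolv) (Y0 Q Z₀ hnQ) hY₀Q
      (le_normalizer_of_conj (fun u hu y hy => hY₀norm u (hnQ u hu) y hy)) hSY₀norm u hu hfix
    have hc'Z : c' ∈ Zc Q S := hmemZ le_rfl c' hc'
    have e : u = c' * (u⁻¹ * c')⁻¹ := by group
    rw [e]
    exact Subgroup.mul_mem _ (hZY₀ hc'Z) (Subgroup.inv_mem _ hk)
  -- `a` acts without fixed points on `S/C_S(Q)`
  have hCSnormA : ∀ g ∈ A, ∀ e ∈ CS Q S, g * e * g⁻¹ ∈ CS Q S := by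
    intro g hg e he
    rw [mem_CS] at he ⊢
    refine ⟨h.hAS g hg e he.1, fun u hu => ?_⟩
    have hu' : g⁻¹ * u * g ∈ Q := by simpa using hQn.conj_mem u hu g⁻¹
    have h1 := he.2 _ hu'
    calc u * (g * e * g⁻¹) = g * ((g⁻¹ * u * g) * e) * g⁻¹ := by group
      _ = g * (e * (g⁻¹ * u * g)) * g⁻¹ := by rw [h1]
      _ = g * e * g⁻¹ * u := by group
  have hCSnormA' : ∀ g ∈ A, ∀ e ∈ CS Q S, g⁻¹ * e * g ∈ CS Q S := by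
    intro g hg e he
    simpa using hCSnormA g⁻¹ (A.inv_mem hg) e he
  have hSfpf : ∀ c ∈ S, a * c * a⁻¹ * c⁻¹ ∈ CS Q S → c ∈ CS Q S := by
    intro c hc hac
    apply hCSA c hc
    have hle : A ≤ fixCoset (CS Q S) c := by
      rw [← hAeq]
      apply sup_le
      · intro f hf
        exact mem_fixCoset.2 ⟨hCSnormA f (h.frob.hFA hf), hCSnormA' f (h.frob.hFA hf),
          hα f hf c hc⟩
      · intro x hx
        obtain ⟨i, rfl⟩ := hzpow x hx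
        apply Subgroup.zpow_mem
        exact mem_fixCoset.2 ⟨hCSnormA a haA, hCSnormA' a haA, hac⟩
    intro a' ha'
    exact (mem_fixCoset.1 (hle ha')).2.2
  -- Theorem X
  have hY₀eq : Y0 Q Z₀ hnQ = Q :=
    hX h.hr h.ht h.hs hp h.htr hpr hpt hps h.hts h.hVr Q S (Y0 Q Z₀ hnQ) a (fixedPts (V := V) Z₀)
      h.hQ h.hS (fun c hc u hu => hQn.conj_mem u hu c) (fun u hu => hQn.conj_mem u hu a)
      (fun c hc => h.hAS a haA c hc) hap ha1 hWQ hWS hWa hWfix hK₀Y₀ hY₀Q hidx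
      (fun u hu v hv => hZY₀ (hcomm u hu v hv))
      (fun z hz u hu => (hK₀Z _ (hZ₀Z ((mem_Y0.1 hz).2 u hu))).2 ((mem_Y0.1 hz).2 u hu))
      (fun u hu hv => mem_Y0.2 ⟨hu, fun v hv' => (hK₀Z _ (hcomm u hu v hv')).1 (hv v hv')⟩)
      (fun u hu => hZY₀ (hpowQ u hu))
      (fun c hc z hz => (mem_trivOn.1 (hSTr c hc)).2.2 z hz)
      hHH hCSQ hSab hSexp hSfpf (hsurj hα a haH ha1)
  -- contradiction: `Z = Q' ≤ Z₀`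
  have hle : Zc Q S ≤ Z₀ := by
    refine hZcl.trans ((Subgroup.closure_le _).2 ?_)
    rintro x ⟨u, hu, v, hv, rfl⟩
    have huY : u ∈ Y0 Q Z₀ hnQ := by rw [hY₀eq]; exact hu
    exact (mem_Y0.1 huY).2 v hv
  have hcard_le : Nat.card (Zc Q S) ≤ Nat.card Z₀ := Subgroup.card_le_of_le hle
  have hpos : 0 < Nat.card Z₀ := Nat.card_pos
  have ht2 := h.ht.two_le
  rw [← hcardZ₀] at hcard_le
  nlinarith

end main

end Cfsg.Agent.Lib.Helper8.PQSpC
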