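import Mathlib
import Cfsg.Agent.Lib.Helper8.PQSpC
import Cfsg.Agent.Lib.Lead.PQT
import Cfsg.Agent.Lib.Helper9.PQT
import Cfsg.Agent.Lib.Helper9.PQT2
import Cfsg.Agent.Lib.Helper7.PQSp1b
import Cfsg.Agent.Lib.Helper2.PQSp2b

/-!
# S4306: T-Sp2 (c) in exact form and the assembly of §4, modulo Theorem X

`XStatement V T` (helper4's `extraspecial_false`) is the only remaining hypothesis.
-/

set_option autoImplicit false
set_option linter.unusedSectionVars false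
set_option linter.unusedVariables false

namespace Cfsg.Agent.Lib.Helper8.PQSpC

open Cfsg.Agent.Lib.Helper4.PQ Cfsg.Agent.Lib.Helper8.SBS

universe u w

variable {V : Type u} [AddCommGroup V] [Finite V] {T : Type w} [Group T] [Finite T]
  [DistribMulAction T V] {r t s p q : ℕ} {Q S A F H₀ : Subgroup T}

/-- `A₀ = H₀`, type (α): the skeleton's `Tower.false_of_stab_H_alpha`, modulo Theorem X. -/
theorem Tower.false_of_stab_H_alpha (hX : XStatement V T) (h : Tower V r t s p q Q S A F H₀)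
    (Z₀ : Subgroup T) (hZ₀ : IsHyp (V := V) t (Zc Q S) Z₀)
    (hst : ∀ a ∈ A, (∀ z ∈ Z₀, a * z * a⁻¹ ∈ Z₀) ↔ a ∈ H₀)
    (hα : ∀ f ∈ F, ∀ c ∈ S, f * c * f⁻¹ * c⁻¹ ∈ CS Q S) : False :=
  false_of_stab_H_alpha_of h (Cfsg.Agent.Lib.Lead.PQT.Tower.comm_mem_Zc h)
    (Cfsg.Agent.Lib.Lead.PQT.Tower.Zc_le_closure_comm h)
    (Cfsg.Agent.Lib.Lead.PQT.Tower.Zc_central h)
    (Cfsg.Agent.Lib.Lead.PQT.Tower.pow_mem_Zc h)
    (Cfsg.Agent.Lib.Lead.PQT.Tower.Zc_pow h)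
    (Cfsg.Agent.Lib.Helper9.PQT.Tower.S_comm_mem_CS h)
    (Cfsg.Agent.Lib.Helper9.PQT.Tower.S_pow_mem_CS h)
    (fun _ hc hA => Cfsg.Agent.Lib.Helper9.PQT.Tower.mem_CS_of_comm_A h hc hA)
    (fun hα' _ ha ha1 => Cfsg.Agent.Lib.Helper9.PQT.Tower.alpha_comm_surj h hα' ha ha1)
    hX Z₀ hZ₀ hst hα

/-- (T6), exact form. -/
theorem Tower.exists_not_comm_F (h : Tower V r t s p q Q S A F H₀) :
    ∃ u ∈ Q, ∃ f ∈ F, u * f ≠ f * u :=
  Cfsg.Agent.Lib.Helper9.PQT.Tower.exists_not_comm_F_of h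
    (Cfsg.Agent.Lib.Lead.PQT.Tower.comm_mem_Zc h)
    (fun _ hu hc => Cfsg.Agent.Lib.Lead.PQT.Tower.mem_Zc_of_comm h hu hc)
    (fun _ hu hc => Cfsg.Agent.Lib.Lead.PQT.Tower.mem_Zc_of_comm_A h hu hc)

/-- §4 assembled, modulo Theorem X: the case `Z = C_Q(S) ≠ 1` is impossible. -/
theorem Tower.false_of_Zc_ne_bot (hX : XStatement V T) (h : Tower V r t s p q Q S A F H₀)
    (hZ : Zc Q S ≠ ⊥) : False :=
  Cfsg.Agent.Lib.Helper7.PQSp1.false_of_Zc_ne_bot_of h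
    (Cfsg.Agent.Lib.Lead.PQT.Tower.Zc_central h) (Cfsg.Agent.Lib.Lead.PQT.Tower.Zc_pow h)
    (Tower.exists_not_comm_F h)
    (fun x hx Z₀ hZ₀ hst =>
      (Cfsg.Agent.Lib.Helper9.PQT.Tower.alpha_or_beta
        (Cfsg.Agent.Lib.Helper7.PQSp1.tower_conj h hx)).elim
        (fun hα => Tower.false_of_stab_H_alpha hX
          (Cfsg.Agent.Lib.Helper7.PQSp1.tower_conj h hx) Z₀ hZ₀ hst hα)
        (fun hβ => Cfsg.Agent.Lib.Helper2.PQSp2.Tower.false_of_stab_H_beta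
          (Cfsg.Agent.Lib.Helper7.PQSp1.tower_conj h hx) Z₀ hZ₀ hst hβ))
    hZ

end Cfsg.Agent.Lib.Helper8.PQSpC
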