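import Mathlib
import Cfsg.Agent.Lib.Helper8.PQSpC2
import Cfsg.Agent.Lib.Helper8.GFpf5
import Cfsg.Agent.Lib.Helper3.PQAb2
import Cfsg.Agent.Lib.Helper9.PQT3

/-!
# S4306: the whole proof modulo Theorem X

`Tower.false_of_X`: no tower exists, given `XStatement V T` (helper4's `extraspecial_false`);
`fitting_two_of_X`: the statement S4306, given Theorem X in the universe of `G ⋊ A`.
-/

set_option autoImplicit false
set_option linter.unusedSectionVars false
set_option linter.unusedVariables false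

namespace Cfsg.Agent.Lib.Helper8.PQSpC

open Cfsg.Agent.Lib.Helper4.PQ Cfsg.Agent.Lib.Helper8.SBS

universe u w z

section tower

variable {V : Type u} [AddCommGroup V] [Finite V] {T : Type w} [Group T] [Finite T]
  [DistribMulAction T V] {r t s p q : ℕ} {Q S A F H₀ : Subgroup T}

/-- §3: the case `Z = C_Q(S) = 1`. -/
theorem Tower.false_of_Zc_eq_bot (h : Tower V r t s p q Q S A F H₀) (hZ : Zc Q S = ⊥) : False :=
  Cfsg.Agent.Lib.Helper3.PQAb.false_of_Zc_eq_bot_of h hZ
    (Cfsg.Agent.Lib.Lead.PQT.Tower.comm_mem_Zc h) (Cfsg.Agent.Lib.Lead.PQT.Tower.pow_mem_Zc h)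
    (fun _ ha ha1 hao _ hu h1 h2 =>
      Cfsg.Agent.Lib.Helper9.PQT.Tower.lemmaU h hZ ha ha1 hao hu h1 h2)

/-- **Theorem C'**, modulo Theorem X: no tower exists. -/
theorem Tower.false_of_X (hX : XStatement V T) (h : Tower V r t s p q Q S A F H₀) : False := by
  by_cases hZ : Zc Q S = ⊥
  · exact Tower.false_of_Zc_eq_bot h hZ
  · exact Tower.false_of_Zc_ne_bot hX h hZ

end tower

/-- **S4306 modulo Theorem X.** -/
theorem fitting_two_of_X {G : Type u} {A : Type z} [Group G] [Finite G]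
    [Group.IsSolvable G] [Group A] [Finite A] [MulDistribMulAction A G] (p q : ℕ) (hp : p.Prime)
    (hq : q.Prime) (hpq : p ≠ q) (hA : Nat.card A = p * q) (hAna : ¬ IsMulCommutative A)
    (hcop : (Nat.card G).Coprime (p * q))
    (hfpf : ∀ g : G, (∀ a : A, a • g = g) → g = 1)
    (hX : ∀ {V : Type (max u z)} [AddCommGroup V] [Finite V] {T : Type (max u z)} [Group T]
      [Finite T] [DistribMulAction T V], XStatement V T) :
    ∃ F : Subgroup G, ∃ hF : F.Normal, Group.IsNilpotent ↥F ∧ Group.IsNilpotent (G ⧸ F) :=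
  Cfsg.Agent.Lib.Helper8.GFpf.exists_normal_nilpotent_of_no_pq_tower p q hp hq hpq hA hAna hcop
    hfpf (fun h => Tower.false_of_X hX h)

end Cfsg.Agent.Lib.Helper8.PQSpC
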