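import Mathlib
import Cfsg.Prelude.Def_Blocks
import Cfsg.Agent.Lib.Helper8.BlockOrth2
import Cfsg.Agent.Lib.Helper8.BlockUnion
import Cfsg.Agent.Lib.Helper8.BlockDefect
import Cfsg.Agent.Lib.Helper8.TildeBlock
import Cfsg.Agent.Lib.Helper8.TwoClass
import Cfsg.Agent.Lib.Helper8.CV2
import Cfsg.Agent.Lib.Helper1.CharInt
import Cfsg.Agent.S0907
import Cfsg.Agent.S0144
import Cfsg.Agent.S4710

/-!
# Groups of order `p ^ a * q ^ b * r ^ c` with `a ≤ 2`: characters of prime power degree
-/

set_option autoImplicit false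
set_option linter.unusedSectionVars false
set_option linter.unusedVariables false

namespace Cfsg.Agent.Lib.Helper8.PQR

open Cfsg
open scoped ComplexConjugate
open Cfsg.Agent.Lib.Helper1 Cfsg.Agent.Lib.Helper4 Cfsg.Agent.Lib.Helper8

universe u

section

variable {G : Type u} [Group G] [Fintype G]

/-- the defect of the principal block is the full exponent -/
theorem blockDefect_principal (p : ℕ) [Fact p.Prime] {M : Ideal AlgInt} (hM : IsPModular p M) :
    blockDefect p (principalBlock M G) = (Nat.card G).factorization p ∧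
    ∀ χ : IrrCharacter G, blockHeight p (principalBlock M G) (χ : G → ℂ) =
      (charDegree (χ : G → ℂ)).factorization p := by
  have hMp := isPModular_isPrime hM
  have h1 : sInf ((fun χ : IrrCharacter G => (charDegree (χ : G → ℂ)).factorization p) ''
      principalBlock M G) = 0 := by
    rw [Nat.sInf_eq_zero]
    left
    refine ⟨trivIrr G, trivIrr_mem_principalBlock hMp.ne_top, ?_⟩
    simp only
    have hd : charDegree (trivIrr G : G → ℂ) = 1 := by
      have h := (irr_apply_one_eq_charDegree (trivIrr G).2).1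
      rw [trivIrr_apply] at h
      have h' : ((1 : ℕ) : ℂ) = (charDegree (trivIrr G : G → ℂ) : ℂ) := by rw [← h]; simp
      exact_mod_cast h'.symm
    rw [hd]
    simp
  constructor
  · unfold blockDefect
    rw [h1, Nat.sub_zero]
  · intro χ
    unfold blockHeight
    rw [h1, Nat.sub_zero]

/-- **A nonprincipal character of `q`-power degree.** -/
theorem exists_prime_power_degree [Nontrivial G] (p q r a b c : ℕ) (hp : p.Prime) (hq : q.Prime)
    (hr : r.Prime) (hpq : p ≠ q) (hpr : p ≠ r) (hqr : q ≠ r) (ha : a ≤ 2)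
    (hG : Nat.card G = p ^ a * q ^ b * r ^ c) :
    ∃ χ : IrrCharacter G, (χ : G → ℂ) ≠ (fun _ => 1) ∧ ∃ k : ℕ,
      charDegree (χ : G → ℂ) = q ^ k := by
  classical
  by_cases ha0 : a = 0
  · -- solvable case
    have hcard : Nat.card G = q ^ b * r ^ c := by rw [hG, ha0, pow_zero, one_mul]
    have hsolv : Group.IsSolvable G := Cfsg.Agent.S0144.result q r b c hq hr hcard
    have hlt : commutator G < ⊤ := Group.IsSolvable.commutator_lt_top_of_nontrivial G
    obtain ⟨χ, hχ1, hχ2⟩ := exists_linear_of_commutator_ne_top hlt.ne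
    refine ⟨χ, hχ1, 0, ?_⟩
    have h := (irr_apply_one_eq_charDegree χ.2).1
    rw [hχ2] at h
    have h' : ((1 : ℕ) : ℂ) = (charDegree (χ : G → ℂ) : ℂ) := by rw [← h]; simp
    rw [pow_zero]
    exact_mod_cast h'.symm
  · have hpF : Fact p.Prime := ⟨hp⟩
    have : Fintype (IrrCharacter G) := Fintype.ofFinite _
    obtain ⟨M, hM⟩ := exists_isPModular p
    have hMp := isPModular_isPrime hM
    by_contra hcon
    push Not at hcon
    -- the exponent of `p`
    have hfac : (Nat.card G).factorization p = a := by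
      have hp0 : p ^ a ≠ 0 := pow_ne_zero _ hp.ne_zero
      have hq0 : q ^ b ≠ 0 := pow_ne_zero _ hq.ne_zero
      have hr0 : r ^ c ≠ 0 := pow_ne_zero _ hr.ne_zero
      rw [hG, Nat.factorization_mul (mul_ne_zero hp0 hq0) hr0,
        Nat.factorization_mul hp0 hq0]
      simp only [Finsupp.coe_add, Pi.add_apply, Nat.factorization_pow, Finsupp.coe_smul,
        Pi.smul_apply, smul_eq_mul]
      rw [hp.factorization_self, Nat.factorization_eq_zero_of_not_dvd
        (fun h => hpq ((Nat.prime_dvd_prime_iff_eq hp hq).1 h)),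
        Nat.factorization_eq_zero_of_not_dvd
        (fun h => hpr ((Nat.prime_dvd_prime_iff_eq hp hr).1 h))]
      ring
    obtain ⟨hdef, hheight⟩ := blockDefect_principal (G := G) p hM
    have hS := (Cfsg.Agent.S4710.result p M hM (principalBlock M G) isPBlock_principalBlock a
      (by rw [hdef, hfac])).2
    -- degrees in the principal block are prime to `p`
    have hnd : ∀ χ ∈ principalBlock M G, ¬ p ∣ charDegree (χ : G → ℂ) := by
      intro χ hχ hdvd
      obtain ⟨h1, h2⟩ := hS χ hχ
      have h0 : blockHeight p (principalBlock M G) (χ : G → ℂ) = 0 := by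
        by_cases ha1 : a ≤ 1
        · exact h1 ha1
        · have := h2 (by omega)
          omega
      rw [hheight] at h0
      have hpos := (irr_apply_one_eq_charDegree χ.2).2
      have := (hp.dvd_iff_one_le_factorization hpos.ne').1 hdvd
      omega
    -- an element of order `p`
    have hpG : p ∣ Nat.card G := by
      rw [hG]
      exact dvd_mul_of_dvd_left (dvd_mul_of_dvd_left (dvd_pow_self p ha0) _) _
    obtain ⟨y, hy⟩ := exists_prime_orderOf_dvd_card' p hpG
    have hsum := Cfsg.Agent.S0907.result p M hM (principalBlock M G) isPBlock_principalBlock 1 y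
      (by rw [orderOf_one]; exact hp.not_dvd_one) (by rw [hy])
    rw [finsum_mem_eq_sum_indicator] at hsum
    have hterm : ∀ ψ : IrrCharacter G, ψ ≠ trivIrr G → ∃ z : ℂ, IsIntegral ℤ z ∧
        (if ψ ∈ principalBlock M G then (1 : ℂ) else 0) *
          ((ψ : G → ℂ) 1 * conj ((ψ : G → ℂ) y)) = (r : ℂ) * z := by
      intro ψ hψ
      by_cases hmem : ψ ∈ principalBlock M G
      swap
      · exact ⟨0, isIntegral_zero, by rw [if_neg hmem, zero_mul, mul_zero]⟩
      rw [if_pos hmem, one_mul]
      obtain ⟨hd1, hd0⟩ := irr_apply_one_eq_charDegree ψ.2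
      have hdvd : charDegree (ψ : G → ℂ) ∣ p ^ a * q ^ b * r ^ c := hG ▸ charDegree_dvd_card ψ.2
      have hψne : (ψ : G → ℂ) ≠ fun _ => 1 := by
        intro h
        apply hψ
        apply Subtype.ext
        rw [h]
        funext x
        rw [trivIrr_apply]
      have hrd : r ∣ charDegree (ψ : G → ℂ) := by
        by_contra hrd
        have hc1 : Nat.Coprime (charDegree (ψ : G → ℂ)) (r ^ c) :=
          (((Nat.Prime.coprime_iff_not_dvd hr).2 hrd).symm).pow_right c
        have hc2 : Nat.Coprime (charDegree (ψ : G → ℂ)) (p ^ a) :=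
          (((Nat.Prime.coprime_iff_not_dvd hp).2 (hnd ψ hmem)).symm).pow_right a
        have h1 : charDegree (ψ : G → ℂ) ∣ p ^ a * q ^ b := hc1.dvd_of_dvd_mul_right hdvd
        have h2 : charDegree (ψ : G → ℂ) ∣ q ^ b := hc2.dvd_of_dvd_mul_left h1
        obtain ⟨k, -, hk⟩ := (Nat.dvd_prime_pow hq).1 h2
        exact hcon ψ hψne k hk
      obtain ⟨m, hm⟩ := hrd
      refine ⟨(m : ℂ) * conj ((ψ : G → ℂ) y),
        IsIntegral.mul (isIntegral_algebraMap (R := ℤ) (A := ℂ) (x := (m : ℤ)) |> fun h => by
          simpa using h) (isIntegral_conj (isIntegral_char_apply (isCharacter_of_irr ψ.2) y)), ?_⟩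
      rw [hd1, hm]
      push_cast
      ring
    choose! z hz1 hz2 using hterm
    rw [← Finset.add_sum_erase Finset.univ _ (Finset.mem_univ (trivIrr G))] at hsum
    have h1 : (if trivIrr G ∈ principalBlock M G then (1 : ℂ) else 0) *
        ((trivIrr G : G → ℂ) 1 * conj ((trivIrr G : G → ℂ) y)) = 1 := by
      rw [if_pos (trivIrr_mem_principalBlock hMp.ne_top), trivIrr_apply, trivIrr_apply, map_one,
        mul_one, mul_one]
    rw [h1, Finset.sum_congr rfl fun ψ hψ => hz2 ψ (Finset.ne_of_mem_erase hψ), ← Finset.mul_sum]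
      at hsum
    have hC : IsIntegral ℤ (∑ ψ ∈ Finset.univ.erase (trivIrr G), z ψ) :=
      IsIntegral.sum _ fun ψ hψ => hz1 ψ (Finset.ne_of_mem_erase hψ)
    have hr0 : (r : ℂ) ≠ 0 := Nat.cast_ne_zero.2 hr.ne_zero
    have h2 : ((1 : ℕ) : ℂ) / (r : ℂ) = -∑ ψ ∈ Finset.univ.erase (trivIrr G), z ψ := by
      rw [Nat.cast_one]
      field_simp
      linear_combination hsum
    have h3 := nat_dvd_of_isIntegral_div 1 r hr.ne_zero (h2 ▸ hC.neg)
    exact hr.one_lt.ne' (Nat.dvd_one.1 h3)

end

end Cfsg.Agent.Lib.Helper8.PQR
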