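import Mathlib
import Cfsg.Prelude.Def_Blocks
import Cfsg.Prelude.Def_BlockRank
import Cfsg.Agent.Lib.Helper8.BF8
import Cfsg.Agent.Lib.Helper8.BlockRank

/-!
# `p ^ d` times the `p`-regular part of a generalized character of a block
-/

set_option autoImplicit false
set_option maxHeartbeats 800000

namespace Cfsg.Agent.Lib.Helper8

open Cfsg
open scoped ComplexConjugate
open Cfsg.Agent.Lib.Helper1 Cfsg.Agent.Lib.Helper4

universe u

section

variable {G : Type u} [Group G] [Fintype G] {M : Ideal AlgInt} {p : ℕ}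

theorem pRegular_int_combination (hM : IsPModular p M) {B : Set (IrrCharacter G)}
    (hB : IsPBlock M B) (χ : G → ℂ) (n : IrrCharacter G → ℤ)
    (hχ : ∀ g : G, χ g = ∑ᶠ ψ ∈ B, (n ψ : ℂ) * (ψ : G → ℂ) g) :
    ∃ n' : IrrCharacter G → ℤ, ∀ g : G,
      (p ^ blockDefect p B : ℂ) * pRegularPart p χ g = ∑ᶠ ψ ∈ B, (n' ψ : ℂ) * (ψ : G → ℂ) g := by
  classical
  have hMp := isPModular_isPrime hM
  have : Fintype (IrrCharacter G) := Fintype.ofFinite _
  set Bf : Finset (IrrCharacter G) := Finset.univ.filter (fun ψ => ψ ∈ B) with hBf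
  have hfin : ∀ f : IrrCharacter G → ℂ, ∑ᶠ ψ ∈ B, f ψ = ∑ ψ ∈ Bf, f ψ := by
    intro f
    rw [finsum_mem_eq_finite_toFinset_sum _ (Set.toFinite B)]
    apply Finset.sum_congr _ (fun _ _ => rfl)
    ext ψ
    rw [Set.Finite.mem_toFinset, hBf, Finset.mem_filter]
    simp
  -- integrality of the contributions
  have hN : ∀ φ : IrrCharacter G, ∀ ψ : IrrCharacter G, ∃ N : ℤ, φ ∈ B →
      (N : ℂ) = (p : ℂ) ^ (blockDefect p B) * mreg p (φ : G → ℂ) (ψ : G → ℂ) := by
    intro φ ψ
    by_cases hφ : φ ∈ B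
    · obtain ⟨N, hN, -⟩ := exists_int_contrib_general hM hφ (χ' := ψ) (B := B)
      exact ⟨N, fun _ => hN⟩
    · exact ⟨0, fun h => absurd h hφ⟩
  choose N hNeq using hN
  refine ⟨fun ψ => ∑ φ ∈ Bf, n φ * N φ ψ, ?_⟩
  -- `χ` as a finite sum
  have hχ' : χ = ∑ φ ∈ Bf, (n φ : ℂ) • (φ : G → ℂ) := by
    funext g
    rw [hχ g, hfin, Finset.sum_apply]
    rfl
  have hχcf : IsClassFunction G χ := by
    intro g h
    rw [hχ, hχ]
    refine finsum_congr fun ψ => finsum_congr fun _ => ?_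
    rw [isClassFunction_irr ψ.2]
  have hreg : pRegularPart p χ = ∑ φ ∈ Bf, (n φ : ℂ) • pRegularPart p (φ : G → ℂ) := by
    funext g
    rw [Finset.sum_apply]
    by_cases hg : p ∣ orderOf g
    · rw [pRegularPart_of_dvd _ hg]
      symm
      apply Finset.sum_eq_zero
      intro φ _
      rw [Pi.smul_apply, pRegularPart_of_dvd _ hg, smul_zero]
    · rw [pRegularPart_of_not_dvd _ hg, hχ', Finset.sum_apply]
      refine Finset.sum_congr rfl fun φ _ => ?_
      rw [Pi.smul_apply, Pi.smul_apply, pRegularPart_of_not_dvd _ hg]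
  have hinner : ∀ ψ : IrrCharacter G, classInner (pRegularPart p χ) (ψ : G → ℂ) =
      ∑ φ ∈ Bf, (n φ : ℂ) * mreg p (φ : G → ℂ) (ψ : G → ℂ) := by
    intro ψ
    rw [hreg, classInner_sum_left]
    refine Finset.sum_congr rfl fun φ _ => ?_
    rw [classInner_smul_left]
    rfl
  intro g
  have hexp := congrFun (class_function_expansion (pRegularPart p χ)
    (isClassFunction_pRegularPart hχcf)) g
  rw [Finset.sum_apply] at hexp
  rw [hexp, hfin, Finset.mul_sum]
  rw [← Finset.sum_subset (Finset.subset_univ Bf)]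
  · refine Finset.sum_congr rfl fun ψ hψ => ?_
    rw [Pi.smul_apply, smul_eq_mul, hinner, ← mul_assoc, Finset.mul_sum]
    congr 1
    push_cast
    refine Finset.sum_congr rfl fun φ hφ => ?_
    have hφB : φ ∈ B := (Finset.mem_filter.1 hφ).2
    rw [hNeq φ ψ hφB]
    ring
  · intro ψ _ hψ
    have hψB : ψ ∉ B := by
      intro h
      apply hψ
      rw [hBf, Finset.mem_filter]
      exact ⟨Finset.mem_univ _, h⟩
    rw [Pi.smul_apply, smul_eq_mul, hinner]
    have : ∑ φ ∈ Bf, (n φ : ℂ) * mreg p (φ : G → ℂ) (ψ : G → ℂ) = 0 := by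
      apply Finset.sum_eq_zero
      intro φ hφ
      have hφB : φ ∈ B := (Finset.mem_filter.1 hφ).2
      have hns : ¬ SameBlock M (φ : G → ℂ) (ψ : G → ℂ) := by
        intro hs
        apply hψB
        rw [eq_blockOf_of_mem hMp hB hφB]
        exact hs
      have := classInner_pRegularPart_eq_zero hM hns
      unfold mreg
      rw [this, mul_zero]
    rw [this, zero_mul, mul_zero]

end

end Cfsg.Agent.Lib.Helper8
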