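import Mathlib
import Cfsg.Prelude.Def_Blocks
import Cfsg.Prelude.Def_BlockRank
import Cfsg.Prelude.Def_Transfer
import Cfsg.Agent.Lib.Helper8.PR2
import Cfsg.Agent.Lib.Helper8.BlockOrth2
import Cfsg.Agent.Lib.Helper8.BlockNormalP
import Cfsg.Agent.Lib.Helper8.ClassAlgebra2
import Cfsg.Agent.Lib.Helper6.PRes

/-!
# Rank one principal block ⇒ normal `p`-complement
-/

set_option autoImplicit false
set_option linter.unusedSectionVars false

namespace Cfsg.Agent.Lib.Helper8

open Cfsg
open scoped ComplexConjugate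
open Cfsg.Agent.Lib.Helper1 Cfsg.Agent.Lib.Helper4

universe u

section

variable {G : Type u} [Group G] [Finite G] {M : Ideal AlgInt} {p : ℕ} [Fact p.Prime]

/-- The common kernel of a set of irreducible characters. -/
def kerOfSet (B : Set (IrrCharacter G)) : Subgroup G where
  carrier := {g | ∀ χ ∈ B, (χ : G → ℂ) g = (χ : G → ℂ) 1}
  one_mem' := fun _ _ => rfl
  mul_mem' := by
    intro a b ha hb χ hχ
    rw [character_mul_of_ker (isCharacter_of_irr χ.2) (ha χ hχ) b]
    exact hb χ hχ
  inv_mem' := by
    intro a ha χ hχ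
    classical
    have : Fintype G := Fintype.ofFinite G
    rw [isCharacter_inv (isCharacter_of_irr χ.2), ha χ hχ]
    exact irr_conj_one χ.2

theorem mem_kerOfSet (B : Set (IrrCharacter G)) (g : G) :
    g ∈ kerOfSet B ↔ ∀ χ ∈ B, (χ : G → ℂ) g = (χ : G → ℂ) 1 := Iff.rfl

instance kerOfSet_normal (B : Set (IrrCharacter G)) : (kerOfSet B).Normal := by
  constructor
  intro n hn g χ hχ
  rw [isClassFunction_irr χ.2 n g]
  exact hn χ hχ

/-- **Rank one ⇒ normal `p`-complement.** -/
theorem npc_of_principal_rank_one (hM : IsPModular p M)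
    (h : blockRank p (principalBlock M G) = 1) : HasNormalPComplement p G := by
  classical
  have : Fintype G := Fintype.ofFinite G
  have hp : p.Prime := Fact.out
  have hMp := isPModular_isPrime hM
  have h1 := trivIrr_mem_principalBlock (G := G) hMp.ne_top
  have hconst := const_of_blockRank_eq_one h1 h
  have hregK : ∀ x : G, IsPRegular p x → x ∈ kerOfSet (principalBlock M G) :=
    fun x hx χ hχ => hconst χ hχ x hx
  have hKsing : ∀ y ∈ kerOfSet (principalBlock M G), ¬ p ∣ orderOf y := by
    intro y hy hdvd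
    have h0 := blockCoeff_eq_zero_of_dvd_orderOf hM (isPBlock_principalBlock (M := M) (G := G)) hdvd
    have h2 : blockCoeff (principalBlock M G) y = blockCoeff (principalBlock M G) 1 := by
      unfold blockCoeff
      congr 1
      exact finsum_mem_congr rfl (fun χ hχ => by rw [hy χ hχ])
    rw [h2] at h0
    exact blockCoeff_one_ne_zero ⟨trivIrr G, h1⟩ h0
  have hKc : (Nat.card (kerOfSet (principalBlock M G))).Coprime p := by
    rw [Nat.coprime_comm, Nat.Prime.coprime_iff_not_dvd hp]
    intro hdvd
    obtain ⟨y, hy⟩ := exists_prime_orderOf_dvd_card' p hdvd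
    apply hKsing (y : G) y.2
    rw [Subgroup.orderOf_coe, hy]
  have hquot : IsPGroup p (G ⧸ kerOfSet (principalBlock M G)) := by
    intro q
    induction q using QuotientGroup.induction_on with
    | H g =>
      obtain ⟨u, v, hu, hv, huv, ⟨k, hk⟩, hcop⟩ :=
        Cfsg.Agent.Lib.Helper6.exists_pPart_decomp_zpowers p g
      have hvK : v ∈ kerOfSet (principalBlock M G) :=
        hregK v ((Nat.Prime.coprime_iff_not_dvd hp).1 hcop.symm)
      refine ⟨k, ?_⟩
      rw [← QuotientGroup.mk_pow, QuotientGroup.eq_one_iff]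
      have hcomm : Commute u v := by
        obtain ⟨a, rfl⟩ := hu
        obtain ⟨b, rfl⟩ := hv
        exact (Commute.refl g).zpow_zpow a b
      rw [huv, hcomm.mul_pow, hk, one_mul]
      exact Subgroup.pow_mem _ hvK _
  obtain ⟨k, hk⟩ := IsPGroup.iff_card.1 hquot
  exact hasNormalPComplement_of_normal_coprime _ (kerOfSet_normal _) hKc k
    (by rw [Subgroup.index_eq_card]; exact hk)

end

end Cfsg.Agent.Lib.Helper8
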