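import Mathlib
import Cfsg.Agent.Lib.Helper4.GaloisTwist

/-!
# Galois descent for cyclotomic fields inside `ℂ`
-/

set_option autoImplicit false

namespace Cfsg.Agent.Lib.Helper8.PRX

open Cfsg.Agent.Lib.Helper4

/-- The standard primitive root of unity. -/
noncomputable def zeta (n : ℕ) : ℂ := Complex.exp (2 * Real.pi * Complex.I / (n : ℂ))

theorem zeta_pow_of_mul {n d : ℕ} (hd : d ≠ 0) : zeta (n * d) ^ d = zeta n := by
  unfold zeta
  rw [← Complex.exp_nat_mul]
  congr 1
  have : (d : ℂ) ≠ 0 := Nat.cast_ne_zero.2 hd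
  by_cases hn : (n : ℂ) = 0
  · simp [hn]
  · push_cast
    field_simp

/-- An element of the `c`-th cyclotomic field fixed by every field automorphism of `ℂ` fixing
`ζ_{n₀}` lies in the `n₀`-th cyclotomic field (`n₀ ∣ c`). -/
theorem mem_adjoin_of_fixed {c n₀ : ℕ} (hc : c ≠ 0) (hn : n₀ ∣ c) {z : ℂ}
    (hz : z ∈ IntermediateField.adjoin ℚ ({zeta c} : Set ℂ))
    (hfix : ∀ τ : ℂ ≃+* ℂ, τ (zeta n₀) = zeta n₀ → τ z = z) :
    z ∈ IntermediateField.adjoin ℚ ({zeta n₀} : Set ℂ) := by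
  obtain ⟨d, rfl⟩ := hn
  have hd : d ≠ 0 := fun h => hc (by rw [h, mul_zero])
  have hpow : zeta (n₀ * d) ^ d = zeta n₀ := zeta_pow_of_mul hd
  set ζ : ℂ := zeta (n₀ * d) with hζ
  have hprim : IsPrimitiveRoot ζ (n₀ * d) := Complex.isPrimitiveRoot_exp _ hc
  have : NeZero (n₀ * d) := ⟨hc⟩
  have hint : IsIntegral ℚ ζ := (hprim.isIntegral (Nat.pos_of_ne_zero hc)).tower_top
  let E : IntermediateField ℚ ℂ := IntermediateField.adjoin ℚ {ζ}
  have hcyc : IsCyclotomicExtension {n₀ * d} ℚ E := by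
    change IsCyclotomicExtension {n₀ * d} ℚ (IntermediateField.adjoin ℚ {ζ}).toSubalgebra
    rw [IntermediateField.adjoin_simple_toSubalgebra_of_isAlgebraic hint.isAlgebraic]
    exact hprim.adjoin_isCyclotomicExtension ℚ
  have hgal : IsGalois ℚ E := IsCyclotomicExtension.isGalois {n₀ * d} ℚ E
  have hfd : FiniteDimensional ℚ E := IsCyclotomicExtension.finiteDimensional {n₀ * d} ℚ E
  let ζE : E := ⟨ζ, IntermediateField.mem_adjoin_simple_self ℚ ζ⟩
  let F : IntermediateField ℚ E := IntermediateField.adjoin ℚ {ζE ^ d}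
  let zE : E := ⟨z, hz⟩
  have hfixed : ∀ f : E ≃ₐ[F] E, f zE = zE := by
    intro f
    obtain ⟨τ, hτ⟩ := exists_ringEquiv_extend (K := E) (L := ℂ) (f : E ≃+* E)
    have h0 : f (ζE ^ d) = ζE ^ d := by
      have hmem : ζE ^ d ∈ F := IntermediateField.mem_adjoin_simple_self ℚ _
      exact f.commutes ⟨ζE ^ d, hmem⟩
    have h1 : τ (zeta n₀) = zeta n₀ := by
      have h2 := hτ (ζE ^ d)
      have h3 : algebraMap E ℂ (ζE ^ d) = zeta n₀ := by
        rw [map_pow]
        exact hpow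
      have h4 : ((f : E ≃+* E) (ζE ^ d)) = ζE ^ d := h0
      rw [h4, h3] at h2
      exact h2
    have h5 := hfix τ h1
    have h6 := hτ zE
    have h7 : algebraMap E ℂ zE = z := rfl
    rw [h7, h5] at h6
    have h8 : algebraMap E ℂ zE = algebraMap E ℂ ((f : E ≃+* E) zE) := by rw [h7]; exact h6
    exact ((algebraMap E ℂ).injective h8).symm
  obtain ⟨w, hw⟩ := (IsGalois.mem_range_algebraMap_iff_fixed (F := F) (E := E) zE).2 hfixed
  have hw1 : ((w : E) : ℂ) = z := by
    have : (w : E) = zE := hw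
    rw [this]
  have hmap : ∀ x : E, x ∈ F → (x : ℂ) ∈ IntermediateField.adjoin ℚ ({zeta n₀} : Set ℂ) := by
    intro x hx
    induction hx using IntermediateField.adjoin_induction with
    | mem x hx =>
      rw [Set.mem_singleton_iff.1 hx]
      have : ((ζE ^ d : E) : ℂ) = zeta n₀ := by
        rw [← hpow]
        rfl
      rw [this]
      exact IntermediateField.mem_adjoin_simple_self ℚ _
    | algebraMap q =>
      have : ((algebraMap ℚ E q : E) : ℂ) = (q : ℂ) := by
        simp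
      rw [this]
      exact (IntermediateField.adjoin ℚ ({zeta n₀} : Set ℂ)).algebraMap_mem q
    | add x y _ _ hx hy => exact add_mem hx hy
    | inv x _ hx =>
      have : ((x⁻¹ : E) : ℂ) = (x : ℂ)⁻¹ := rfl
      rw [this]
      exact inv_mem hx
    | mul x y _ _ hx hy => exact mul_mem hx hy
  rw [← hw1]
  exact hmap (w : E) w.2

end Cfsg.Agent.Lib.Helper8.PRX
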