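import Mathlib
import Cfsg.Prelude.Def_Characters
import Cfsg.Agent.Lib.Helper4.Characters
import Cfsg.Agent.Lib.Helper4.GaloisTwist
import Cfsg.Agent.Lib.Helper1.CycloChar

/-!
# Schur's bound: Galois stability and the key relation on a cyclic `p`-subgroup
-/

set_option autoImplicit false
set_option linter.unusedSectionVars false

namespace Cfsg.Agent.Lib.Helper8.SB

open Cfsg
open scoped ComplexConjugate
open Cfsg.Agent.Lib.Helper1 Cfsg.Agent.Lib.Helper4

universe u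

/-- A field automorphism of `ℂ` fixing `ζ` fixes `ℚ(ζ)`. -/
theorem fixes_adjoin (τ : ℂ ≃+* ℂ) {ζ : ℂ} (hζ : τ ζ = ζ) {z : ℂ}
    (hz : z ∈ IntermediateField.adjoin ℚ ({ζ} : Set ℂ)) : τ z = z := by
  induction hz using IntermediateField.adjoin_induction with
  | mem x hx => rw [Set.mem_singleton_iff.1 hx]; exact hζ
  | algebraMap q => exact map_ratCast τ q
  | add x y _ _ hx hy => rw [map_add, hx, hy]
  | inv x _ hx => rw [map_inv₀, hx]
  | mul x y _ _ hx hy => rw [map_mul, hx, hy]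

variable {G : Type u} [Group G] [Finite G]

/-- Galois stability of a `p`-rational character on `p`-elements. -/
theorem char_pow_eq_of_rational {p : ℕ} (hp : p.Prime) {χ : G → ℂ} (hχ : IsCharacter G χ)
    {r : ℕ} (hr0 : 0 < r) (hpr : ¬ p ∣ r)
    (hrat : ∀ g : G, χ g ∈ IntermediateField.adjoin ℚ
      ({Complex.exp (2 * Real.pi * Complex.I / r)} : Set ℂ))
    {x : G} {e : ℕ} (hx : x ^ (p ^ e) = 1) {u : ℕ} (hu : Nat.Coprime u p) :
    χ (x ^ u) = χ x := by
  have hcop : Nat.Coprime r (p ^ e) :=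
    Nat.Coprime.pow_right e ((Nat.Prime.coprime_iff_not_dvd hp).2 hpr).symm
  obtain ⟨J, hJ1, hJu⟩ := Nat.chineseRemainder hcop 1 u
  have hN0 : r * p ^ e ≠ 0 := Nat.mul_ne_zero hr0.ne' (pow_ne_zero e hp.pos.ne')
  haveI : NeZero (r * p ^ e) := ⟨hN0⟩
  have hJr : Nat.Coprime J r := by
    have := hJ1.gcd_eq
    unfold Nat.Coprime
    rw [this]
    simp
  have hJp : Nat.Coprime J (p ^ e) := by
    have := hJu.gcd_eq
    unfold Nat.Coprime
    rw [this]
    exact Nat.Coprime.pow_right e hu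
  have hJN : Nat.Coprime J (r * p ^ e) := Nat.Coprime.mul_right hJr hJp
  obtain ⟨τ, hτ⟩ := exists_complex_aut_pow (r * p ^ e) J hJN
  have hxN : x ^ (r * p ^ e) = 1 := by
    rw [mul_comm, pow_mul, hx, one_pow]
  have h1 := twist_apply (τ : ℂ →+* ℂ) (r * p ^ e) J hτ hχ x hxN
  have h2 : x ^ J = x ^ u := by
    rw [pow_eq_pow_iff_modEq]
    exact hJu.of_dvd (orderOf_dvd_of_pow_eq_one hx)
  rw [h2] at h1
  rw [← h1]
  -- τ fixes χ x
  set ζ : ℂ := Complex.exp (2 * Real.pi * Complex.I / r) with hζdef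
  have hζr : ζ ^ r = 1 := (Complex.isPrimitiveRoot_exp r hr0.ne').pow_eq_one
  have hζN : ζ ^ (r * p ^ e) = 1 := by rw [pow_mul, hζr, one_pow]
  have hτζ : τ ζ = ζ := by
    rw [hτ ζ hζN]
    have h3 : J % r = 1 % r := hJ1
    rw [pow_eq_pow_mod J hζr, h3, ← pow_eq_pow_mod 1 hζr, pow_one]
  exact fixes_adjoin τ hτζ (hrat x)

/-- Geometric sum of a root of unity. -/
theorem sum_pow_root {c : ℂ} {m : ℕ} (hc : c ^ m = 1) :
    ∑ k ∈ Finset.range m, c ^ k = if c = 1 then (m : ℂ) else 0 := by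
  by_cases h : c = 1
  · rw [if_pos h, h]
    simp
  · rw [if_neg h]
    have h1 := geom_sum_mul c m
    rw [hc, sub_self] at h1
    rcases mul_eq_zero.1 h1 with h2 | h2
    · exact h2
    · exact absurd (sub_eq_zero.1 h2) h

/-- The key relation: for a `p`-element `x` of order dividing `p^(e+1)` on which `χ` is Galois
stable, `p f₀ = (p - 1) χ(x) + f₁` with `f₀ ≤ f₁ ≤ χ(1)` natural numbers. -/
theorem key_relation {p : ℕ} (hp : p.Prime) {χ : G → ℂ} (hχ : IsCharacter G χ) {n : ℕ}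
    (hn : χ 1 = n) {x : G} {e : ℕ} (hx : x ^ (p ^ (e + 1)) = 1)
    (hstab : ∀ u : ℕ, Nat.Coprime u p → χ (x ^ u) = χ x) :
    ∃ f₀ f₁ : ℕ, f₀ ≤ f₁ ∧ f₁ ≤ n ∧ (p : ℂ) * f₀ = ((p : ℂ) - 1) * χ x + f₁ := by
  classical
  obtain ⟨ι', _, m, c, hc, hsum⟩ := character_pow_eq_sum hχ x
  have hdvd : orderOf x ∣ p ^ (e + 1) := orderOf_dvd_of_pow_eq_one hx
  have hcE : ∀ j, c j ^ (p ^ (e + 1)) = 1 := by
    intro j
    obtain ⟨d, hd⟩ := hdvd
    rw [hd, pow_mul, hc j, one_pow]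
  have hcE' : ∀ j, (c j ^ p) ^ (p ^ e) = 1 := by
    intro j
    rw [← pow_mul, ← pow_succ']
    exact hcE j
  set f₀ : ℕ := ∑ j ∈ Finset.univ.filter (fun j => c j = 1), m j with hf₀
  set f₁ : ℕ := ∑ j ∈ Finset.univ.filter (fun j => c j ^ p = 1), m j with hf₁
  have hle01 : f₀ ≤ f₁ := by
    apply Finset.sum_le_sum_of_subset
    intro j hj
    rw [Finset.mem_filter] at hj ⊢
    refine ⟨hj.1, ?_⟩
    rw [hj.2, one_pow]
  have hsumm : ((∑ j, m j : ℕ) : ℂ) = n := by
    rw [← hn]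
    have h1 := hsum 0
    rw [pow_zero] at h1
    rw [h1]
    push_cast
    refine Finset.sum_congr rfl fun j _ => ?_
    rw [pow_zero, mul_one]
  have hle1n : f₁ ≤ n := by
    have h1 : f₁ ≤ ∑ j, m j := Finset.sum_le_sum_of_subset (Finset.filter_subset _ _)
    have h2 : (∑ j, m j : ℕ) = n := by exact_mod_cast hsumm
    rw [← h2]
    exact h1
  refine ⟨f₀, f₁, hle01, hle1n, ?_⟩
  -- the full sum
  have hall : ∑ k ∈ Finset.range (p ^ (e + 1)), χ (x ^ k) = (p ^ (e + 1) : ℕ) * (f₀ : ℂ) := by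
    have h1 : ∀ k, χ (x ^ k) = ∑ j, (m j : ℂ) * c j ^ k := hsum
    rw [Finset.sum_congr rfl fun k _ => h1 k, Finset.sum_comm]
    have h2 : ∀ j, ∑ k ∈ Finset.range (p ^ (e + 1)), (m j : ℂ) * c j ^ k
        = if c j = 1 then ((p ^ (e + 1) : ℕ) : ℂ) * m j else 0 := by
      intro j
      rw [← Finset.mul_sum, sum_pow_root (hcE j)]
      by_cases h : c j = 1
      · rw [if_pos h, if_pos h, mul_comm]
      · rw [if_neg h, if_neg h, mul_zero]
    rw [Finset.sum_congr rfl fun j _ => h2 j, ← Finset.sum_filter, hf₀]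
    push_cast
    rw [Finset.mul_sum]
  -- the sum over multiples of p
  have hpsum : ∑ k ∈ Finset.range (p ^ e), χ (x ^ (p * k)) = (p ^ e : ℕ) * (f₁ : ℂ) := by
    have h1 : ∀ k, χ (x ^ (p * k)) = ∑ j, (m j : ℂ) * (c j ^ p) ^ k := by
      intro k
      rw [hsum (p * k)]
      refine Finset.sum_congr rfl fun j _ => ?_
      rw [pow_mul]
    rw [Finset.sum_congr rfl fun k _ => h1 k, Finset.sum_comm]
    have h2 : ∀ j, ∑ k ∈ Finset.range (p ^ e), (m j : ℂ) * (c j ^ p) ^ k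
        = if c j ^ p = 1 then ((p ^ e : ℕ) : ℂ) * m j else 0 := by
      intro j
      rw [← Finset.mul_sum, sum_pow_root (hcE' j)]
      by_cases h : c j ^ p = 1
      · rw [if_pos h, if_pos h, mul_comm]
      · rw [if_neg h, if_neg h, mul_zero]
    rw [Finset.sum_congr rfl fun j _ => h2 j, ← Finset.sum_filter, hf₁]
    push_cast
    rw [Finset.mul_sum]
  -- splitting the full sum
  have hsplit : ∑ k ∈ Finset.range (p ^ (e + 1)), χ (x ^ k)
      = ∑ k ∈ Finset.range (p ^ e), χ (x ^ (p * k))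
        + ((p ^ (e + 1) - p ^ e : ℕ) : ℂ) * χ x := by
    rw [← Finset.sum_filter_add_sum_filter_not (Finset.range (p ^ (e + 1))) (fun k => p ∣ k)]
    have himg : (Finset.range (p ^ (e + 1))).filter (fun k => p ∣ k)
        = (Finset.range (p ^ e)).image (fun k => p * k) := by
      ext k
      simp only [Finset.mem_filter, Finset.mem_range, Finset.mem_image]
      constructor
      · rintro ⟨hk, k', rfl⟩
        refine ⟨k', ?_, rfl⟩
        rw [pow_succ'] at hk
        exact lt_of_mul_lt_mul_left hk (Nat.zero_le p)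
      · rintro ⟨k', hk', rfl⟩
        refine ⟨?_, Dvd.intro k' rfl⟩
        rw [pow_succ']
        exact Nat.mul_lt_mul_of_pos_left hk' hp.pos
    have hinj : Set.InjOn (fun k => p * k) (Finset.range (p ^ e) : Set ℕ) := by
      intro a _ b _ hab
      exact Nat.eq_of_mul_eq_mul_left hp.pos hab
    rw [himg, Finset.sum_image hinj]
    congr 1
    have h3 : ∀ k ∈ (Finset.range (p ^ (e + 1))).filter (fun k => ¬ p ∣ k), χ (x ^ k) = χ x := by
      intro k hk
      rw [Finset.mem_filter] at hk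
      exact hstab k ((Nat.Prime.coprime_iff_not_dvd hp).2 hk.2).symm
    rw [Finset.sum_congr rfl h3, Finset.sum_const, nsmul_eq_mul]
    congr 2
    have hc1 := Finset.card_filter_add_card_filter_not
      (s := Finset.range (p ^ (e + 1))) (fun k => p ∣ k)
    rw [himg, Finset.card_image_of_injOn hinj, Finset.card_range, Finset.card_range] at hc1
    omega
  rw [hall, hpsum] at hsplit
  have hpe0 : ((p ^ e : ℕ) : ℂ) ≠ 0 := by
    exact_mod_cast (pow_ne_zero e hp.pos.ne')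
  have hle : p ^ e ≤ p ^ (e + 1) := Nat.pow_le_pow_right hp.pos (Nat.le_succ e)
  rw [Nat.cast_sub hle] at hsplit
  have h5 : ((p ^ (e + 1) : ℕ) : ℂ) = (p : ℂ) * ((p ^ e : ℕ) : ℂ) := by
    push_cast
    rw [pow_succ']
  rw [h5] at hsplit
  have h6 : ((p ^ e : ℕ) : ℂ) * ((p : ℂ) * f₀) = ((p ^ e : ℕ) : ℂ) * (((p : ℂ) - 1) * χ x + f₁) := by
    linear_combination hsplit
  exact mul_left_cancel₀ hpe0 h6

end Cfsg.Agent.Lib.Helper8.SB
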