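import Mathlib
import Cfsg.Agent.Lib.Helper8.PRX1
import Cfsg.Agent.Lib.Helper8.SB1
import Cfsg.Agent.Lib.Helper8.GP1
import Cfsg.Agent.S4664

/-!
# `p`-rationality of characters in terms of power maps
-/

set_option autoImplicit false

namespace Cfsg.Agent.Lib.Helper8.PRX

open Cfsg Cfsg.Agent.Lib.Helper4 Cfsg.Agent.Lib.Helper1 Cfsg.Agent.Lib.Helper8

universe u

/-- A character whose values lie in the `m`-th cyclotomic field is fixed by the power maps
`k` prime to the group order with `k ≡ 1` modulo `gcd(|X|, m)`. -/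
theorem pow_eq_of_mem_adjoin {X : Type u} [Group X] [Finite X] {χ : X → ℂ}
    (hχ : IsCharacter X χ) {m : ℕ} (hm : m ≠ 0)
    (hrat : ∀ x, χ x ∈ IntermediateField.adjoin ℚ ({zeta m} : Set ℂ)) {k : ℕ}
    (hk : k.Coprime (Nat.card X)) (hk1 : k ≡ 1 [MOD Nat.gcd (Nat.card X) m]) (x : X) :
    χ (x ^ k) = χ x := by
  obtain ⟨k', hk'1, hk'2⟩ := Nat.chineseRemainder' hk1
  have hc0 : Nat.card X ≠ 0 := Nat.card_pos.ne'
  have hN0 : Nat.card X * m ≠ 0 := Nat.mul_ne_zero hc0 hm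
  have : NeZero (Nat.card X * m) := ⟨hN0⟩
  have hcop1 : k'.Coprime (Nat.card X) := by
    have := hk'1.gcd_eq
    unfold Nat.Coprime
    rw [this]
    exact hk
  have hcop2 : k'.Coprime m := by
    have := hk'2.gcd_eq
    unfold Nat.Coprime
    rw [this]
    simp
  obtain ⟨τ, hτ⟩ := exists_complex_aut_pow (Nat.card X * m) k' (Nat.Coprime.mul_right hcop1 hcop2)
  have hxN : x ^ (Nat.card X * m) = 1 := by rw [pow_mul, pow_card_eq_one', one_pow]
  have h1 := twist_apply (τ : ℂ →+* ℂ) (Nat.card X * m) k' hτ hχ x hxN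
  have h2 : x ^ k' = x ^ k := by
    rw [pow_eq_pow_iff_modEq]
    exact hk'1.of_dvd (orderOf_dvd_natCard x)
  rw [h2] at h1
  rw [← h1]
  have hζm : zeta m ^ m = 1 := (Complex.isPrimitiveRoot_exp m hm).pow_eq_one
  have hζN : zeta m ^ (Nat.card X * m) = 1 := by rw [mul_comm, pow_mul, hζm, one_pow]
  have hτζ : τ (zeta m) = zeta m := by
    rw [hτ _ hζN]
    have h3 : k' % m = 1 % m := hk'2
    rw [pow_eq_pow_mod k' hζm, h3, ← pow_eq_pow_mod 1 hζm, pow_one]
  exact SB.fixes_adjoin τ hτζ (hrat x)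

/-- A character fixed by the power maps `k ≡ 1` modulo `n₀` has its values in the `n₀`-th
cyclotomic field. -/
theorem mem_adjoin_of_pow_eq {X : Type u} [Group X] [Finite X] {χ : X → ℂ}
    (hχ : IsCharacter X χ) {n₀ : ℕ} (hn : n₀ ∣ Nat.card X)
    (hfix : ∀ k : ℕ, k.Coprime (Nat.card X) → k ≡ 1 [MOD n₀] → ∀ x, χ (x ^ k) = χ x) (x : X) :
    χ x ∈ IntermediateField.adjoin ℚ ({zeta n₀} : Set ℂ) := by
  have hc0 : Nat.card X ≠ 0 := Nat.card_pos.ne'
  have : NeZero (Nat.card X) := ⟨hc0⟩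
  refine mem_adjoin_of_fixed hc0 hn
    (Cfsg.Agent.S4664.char_mem_adjoin hχ x (Nat.card X) hc0 (orderOf_dvd_natCard x)) ?_
  intro τ hτ
  obtain ⟨d, hd⟩ := hn
  have hd0 : d ≠ 0 := fun h => hc0 (by rw [hd, h, mul_zero])
  have hprim : IsPrimitiveRoot (zeta (Nat.card X)) (Nat.card X) :=
    Complex.isPrimitiveRoot_exp _ hc0
  have hprim' : IsPrimitiveRoot (τ (zeta (Nat.card X))) (Nat.card X) :=
    hprim.map_of_injective τ.injective
  obtain ⟨k, -, hk⟩ := hprim.eq_pow_of_pow_eq_one hprim'.pow_eq_one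
  have hkc : k.Coprime (Nat.card X) := by
    rw [← hk] at hprim'
    exact (hprim.pow_iff_coprime Nat.card_pos k).1 hprim'
  have hτall : ∀ ω : ℂ, ω ^ Nat.card X = 1 → τ ω = ω ^ k := by
    intro ω hω
    obtain ⟨j, -, rfl⟩ := hprim.eq_pow_of_pow_eq_one hω
    rw [map_pow, ← hk, ← pow_mul, ← pow_mul, mul_comm]
  have hk1 : k ≡ 1 [MOD n₀] := by
    have hpow : zeta (Nat.card X) ^ d = zeta n₀ := by
      have := zeta_pow_of_mul (n := n₀) hd0
      rwa [← hd] at this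
    have h1 : τ (zeta n₀) = zeta n₀ ^ k := by
      apply hτall
      rw [← hpow, ← pow_mul, mul_comm, pow_mul, hprim.pow_eq_one, one_pow]
    rw [hτ, ← hpow, ← pow_mul] at h1
    have h2 : d ≡ d * k [MOD Nat.card X] := by
      obtain ⟨u, hu⟩ := hprim.isUnit Nat.card_pos.ne'
      have hu' : u ^ d = u ^ (d * k) := by
        apply Units.ext
        rw [Units.val_pow_eq_pow_val, Units.val_pow_eq_pow_val, hu]
        exact h1
      have := (pow_eq_pow_iff_modEq (x := u) (n := d) (m := d * k)).1 hu'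
      rwa [← orderOf_units, hu, ← hprim.eq_orderOf] at this
    have h2' : d * k ≡ d * 1 [MOD d * n₀] := by
      rw [mul_one, mul_comm d n₀, ← hd]
      exact h2.symm
    exact Nat.ModEq.mul_left_cancel' hd0 h2'
  have h3 := twist_apply (τ : ℂ →+* ℂ) (Nat.card X) k hτall hχ x pow_card_eq_one'
  have h4 : (τ : ℂ →+* ℂ) (χ x) = τ (χ x) := rfl
  rw [← h4, h3]
  exact hfix k hkc hk1 x


/-- The exponents used for Galois conjugation: prime to `c` and congruent to one modulo the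
`p'`-part of `c`. -/
def expSet (p c : ℕ) : Set ℕ := {k | k.Coprime c ∧ k ≡ 1 [MOD c / p ^ c.factorization p]}

theorem exists_mem_expSet_not_modEq {p c : ℕ} (hp : p.Prime) (hp2 : p ≠ 2) (hc : c ≠ 0) :
    ∃ k₀ ∈ expSet p c, ¬ k₀ ≡ 1 [MOD p] := by
  set n₀ := c / p ^ c.factorization p with hn₀
  set a := c.factorization p with ha
  have hco : n₀.Coprime (p ^ (a + 1)) :=
    Nat.Coprime.pow_right _ (Nat.coprime_ordCompl hp hc).symm
  obtain ⟨k, hk1, hk2⟩ := Nat.chineseRemainder hco 1 2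
  have hk2' : k ≡ 2 [MOD p] := hk2.of_dvd (dvd_pow_self p (Nat.succ_ne_zero a))
  have hkp : k.Coprime p := by
    have := hk2'.gcd_eq
    unfold Nat.Coprime
    rw [this]
    have h2 : Nat.Coprime 2 p := by
      rw [Nat.coprime_primes Nat.prime_two hp]
      exact fun h => hp2 h.symm
    exact h2
  have hkn : k.Coprime n₀ := by
    have := hk1.gcd_eq
    unfold Nat.Coprime
    rw [this]
    simp
  refine ⟨k, ⟨?_, hk1⟩, ?_⟩
  · have hc' : p ^ a * n₀ = c := Nat.ordProj_mul_ordCompl_eq_self c p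
    rw [← hc']
    exact Nat.Coprime.mul_right (Nat.Coprime.pow_right _ hkp) hkn
  · intro h
    have h3 : 2 ≡ 1 [MOD p] := hk2'.symm.trans h
    have h4 : p ∣ 2 - 1 := (Nat.modEq_iff_dvd' (by norm_num)).1 h3.symm
    have h5 : p ∣ 1 := by simpa using h4
    exact hp.one_lt.ne' (Nat.dvd_one.1 h5)

theorem coprime_card_of_mem_expSet {Γ : Type u} [Group Γ] [Finite Γ] {p k : ℕ}
    (hk : k ∈ expSet p (Nat.card Γ)) (J : Subgroup Γ) : k.Coprime (Nat.card J) :=
  Nat.Coprime.coprime_dvd_right (Subgroup.card_subgroup_dvd_card J) hk.1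

/-- A `p`-rational character of a subgroup is fixed by the power maps in `expSet`. -/
theorem pow_eq_of_rational {Γ : Type u} [Group Γ] [Finite Γ] {p : ℕ} (hp : p.Prime)
    (N : Subgroup Γ) {θ : N → ℂ} (hθ : IsCharacter N θ) {m : ℕ} (hpm : ¬ p ∣ m)
    (hrat : ∀ x, θ x ∈ IntermediateField.adjoin ℚ ({zeta m} : Set ℂ)) {k : ℕ}
    (hk : k ∈ expSet p (Nat.card Γ)) (x : N) : θ (x ^ k) = θ x := by
  have hm : m ≠ 0 := fun h => hpm (h ▸ dvd_zero p)
  refine pow_eq_of_mem_adjoin hθ hm hrat (coprime_card_of_mem_expSet hk N) ?_ x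
  refine hk.2.of_dvd ?_
  have hc0 : Nat.card Γ ≠ 0 := Nat.card_pos.ne'
  have h1 : Nat.gcd (Nat.card N) m ∣ Nat.card Γ :=
    (Nat.gcd_dvd_left _ _).trans (Subgroup.card_subgroup_dvd_card N)
  have h2 : (Nat.gcd (Nat.card N) m).Coprime (p ^ (Nat.card Γ).factorization p) := by
    apply Nat.Coprime.pow_right
    apply Nat.Coprime.coprime_dvd_left (Nat.gcd_dvd_right _ _)
    exact ((Nat.Prime.coprime_iff_not_dvd hp).2 hpm).symm
  have h3 : p ^ (Nat.card Γ).factorization p * (Nat.card Γ / p ^ (Nat.card Γ).factorization p)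
      = Nat.card Γ := Nat.ordProj_mul_ordCompl_eq_self _ p
  rw [← h3] at h1
  exact h2.dvd_of_dvd_mul_left h1

end Cfsg.Agent.Lib.Helper8.PRX
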