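import Mathlib
import Cfsg.Agent.Lib.Helper8.PRX2
import Cfsg.Agent.Lib.Helper4.Gallagher
import Cfsg.Agent.S0886

/-!
# The unique Galois-fixed extension over a normal subgroup of odd prime index
-/

set_option autoImplicit false
set_option linter.unusedSectionVars false

namespace Cfsg.Agent.Lib.Helper8.PRX

open Cfsg Cfsg.Agent.Lib.Helper1 Cfsg.Agent.Lib.Helper4 Cfsg.Agent.Lib.Helper8
  Cfsg.Agent.Lib.Helper8.SB
open scoped ComplexConjugate

universe u

section IndexP

variable {G : Type u} [Group G] [Fintype G] {p : ℕ} [hp : Fact p.Prime]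

/-- Twist of a function by a power of a linear character. -/
noncomputable def twistFn (lam : G →* ℂˣ) (i : ℕ) (χ : G → ℂ) : G → ℂ :=
  fun g => ((lam g : ℂˣ) : ℂ) ^ i * χ g

omit [Fintype G] in
theorem twistFn_apply (lam : G →* ℂˣ) (i : ℕ) (χ : G → ℂ) (g : G) :
    twistFn lam i χ g = ((lam g : ℂˣ) : ℂ) ^ i * χ g := rfl

theorem isIrrCharacter_twistFn (lam : G →* ℂˣ) (i : ℕ) {χ : G → ℂ} (hχ : IsIrrCharacter G χ) :
    IsIrrCharacter G (twistFn lam i χ) := by
  have h := isIrrCharacter_hom_mul (lam ^ i) hχ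
  have h2 : (fun g => (((lam ^ i) g : ℂˣ) : ℂ) * χ g) = twistFn lam i χ := by
    funext g
    rw [twistFn_apply, MonoidHom.pow_apply, Units.val_pow_eq_pow_val]
  rwa [h2] at h

omit [Fintype G] in
theorem twistFn_twistFn (lam : G →* ℂˣ) (a b : ℕ) (χ : G → ℂ) :
    twistFn lam a (twistFn lam b χ) = twistFn lam (a + b) χ := by
  funext g
  rw [twistFn_apply, twistFn_apply, twistFn_apply, pow_add, mul_assoc]

omit [Fintype G] in
theorem powFn_twistFn (lam : G →* ℂˣ) (k i : ℕ) (χ : G → ℂ) :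
    powFn k (twistFn lam i χ) = twistFn lam (k * i) (powFn k χ) := by
  funext g
  rw [powFn_apply, twistFn_apply, twistFn_apply, powFn_apply, map_pow, Units.val_pow_eq_pow_val,
    ← pow_mul]

omit [Fintype G] hp in
theorem twistFn_mod {lam : G →* ℂˣ} (hpow : ∀ g, lam g ^ p = 1) (i : ℕ) (χ : G → ℂ) :
    twistFn lam (i % p) χ = twistFn lam i χ := by
  funext g
  rw [twistFn_apply, twistFn_apply]
  congr 1
  have h : ((lam g : ℂˣ) : ℂ) ^ p = 1 := by
    rw [← Units.val_pow_eq_pow_val, hpow g, Units.val_one]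
  exact (pow_eq_pow_mod i h).symm

omit [Fintype G] hp in
theorem twistFn_congr {lam : G →* ℂˣ} (hpow : ∀ g, lam g ^ p = 1) {i j : ℕ}
    (h : i ≡ j [MOD p]) (χ : G → ℂ) : twistFn lam i χ = twistFn lam j χ := by
  rw [← twistFn_mod hpow i, ← twistFn_mod hpow j, h]

omit [Fintype G] in
/-- A linear character with kernel a given normal subgroup of prime index. -/
theorem exists_lin (L : Subgroup G) [L.Normal] [Finite G] (hidx : L.index = p) :
    ∃ lam : G →* ℂˣ, (∀ g, lam g = 1 ↔ g ∈ L) ∧ ∀ g, lam g ^ p = 1 := by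
  have hcard : Nat.card (G ⧸ L) = p := by rw [← Subgroup.index_eq_card]; exact hidx
  have hcyc : IsCyclic (G ⧸ L) := isCyclic_of_prime_card hcard
  let _ : CommGroup (G ⧸ L) := IsCyclic.commGroup
  have hne : NeZero (Monoid.exponent (G ⧸ L)) := ⟨Monoid.exponent_ne_zero_of_finite⟩
  have hnt : Nontrivial (G ⧸ L) := by
    rw [← Finite.one_lt_card_iff_nontrivial, hcard]
    exact hp.out.one_lt
  obtain ⟨a, ha⟩ := exists_ne (1 : G ⧸ L)
  obtain ⟨μ, hμ⟩ := CommGroup.exists_apply_ne_one_of_hasEnoughRootsOfUnity (G ⧸ L) ℂ ha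
  have hprime : Fact (Nat.card (G ⧸ L)).Prime := ⟨by rw [hcard]; exact hp.out⟩
  have hker : μ.ker = ⊥ := by
    rcases Subgroup.eq_bot_or_eq_top_of_prime_card μ.ker with h | h
    · exact h
    · exfalso
      apply hμ
      have : a ∈ μ.ker := by rw [h]; trivial
      exact this
  refine ⟨μ.comp (QuotientGroup.mk' L), fun g => ?_, fun g => ?_⟩
  · constructor
    · intro h
      have h1 : (QuotientGroup.mk' L g) ∈ μ.ker := h
      rw [hker, Subgroup.mem_bot] at h1
      exact (QuotientGroup.eq_one_iff g).1 h1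
    · intro h
      show μ (QuotientGroup.mk' L g) = 1
      have : QuotientGroup.mk' L g = 1 := (QuotientGroup.eq_one_iff g).2 h
      rw [this, map_one]
  · rw [← map_pow]
    show μ (QuotientGroup.mk' L (g ^ p)) = 1
    rw [map_pow]
    have : (QuotientGroup.mk' L g) ^ p = 1 := by
      rw [← hcard]
      exact pow_card_eq_one'
    rw [this, map_one]

variable (L : Subgroup G) [hL : L.Normal] [Fintype L]

/-- Orthogonality: the twists of an extension exhaust the extensions. -/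
theorem sum_classInner_twistFn (hidx : L.index = p) {lam : G →* ℂˣ}
    (hker : ∀ g, lam g = 1 ↔ g ∈ L) (hpow : ∀ g, lam g ^ p = 1) {χ ψ : G → ℂ}
    (hχL : IsIrrCharacter L (fun x : L => χ x)) (hres : ∀ x : L, ψ x = χ x) :
    ∑ i ∈ Finset.range p, classInner ψ (twistFn lam i χ) = 1 := by
  classical
  have hG0 : (Nat.card G : ℂ) ≠ 0 := Nat.cast_ne_zero.2 Nat.card_pos.ne'
  have hL0 : (Nat.card L : ℂ) ≠ 0 := Nat.cast_ne_zero.2 Nat.card_pos.ne'
  have hcard : (Nat.card L : ℂ) * (p : ℂ) = (Nat.card G : ℂ) := by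
    have := Subgroup.card_mul_index L
    rw [hidx] at this
    exact_mod_cast this
  have hgeo : ∀ g : G, ∑ i ∈ Finset.range p, (conj ((lam g : ℂˣ) : ℂ)) ^ i
      = if g ∈ L then (p : ℂ) else 0 := by
    intro g
    have h1 : (conj ((lam g : ℂˣ) : ℂ)) ^ p = 1 := by
      rw [← map_pow, ← Units.val_pow_eq_pow_val, hpow g, Units.val_one, map_one]
    rw [sum_pow_root h1]
    have h2 : conj ((lam g : ℂˣ) : ℂ) = 1 ↔ g ∈ L := by
      rw [← hker g]
      constructor
      · intro h
        apply Units.ext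
        have := congrArg conj h
        rw [Complex.conj_conj, map_one] at this
        rw [this, Units.val_one]
      · intro h
        rw [h, Units.val_one, map_one]
    by_cases hg : g ∈ L
    · rw [if_pos (h2.2 hg), if_pos hg]
    · rw [if_neg (fun h => hg (h2.1 h)), if_neg hg]
  have h1 : ∑ i ∈ Finset.range p, classInner ψ (twistFn lam i χ)
      = (Nat.card G : ℂ)⁻¹ * ∑ g : G, (if g ∈ L then (p : ℂ) * (ψ g * conj (χ g)) else 0) := by
    simp only [classInner_def]
    rw [← Finset.mul_sum, Finset.sum_comm]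
    congr 1
    refine Finset.sum_congr rfl fun g _ => ?_
    have h2 : ∀ i, ψ g * conj (twistFn lam i χ g)
        = (ψ g * conj (χ g)) * (conj ((lam g : ℂˣ) : ℂ)) ^ i := by
      intro i
      rw [twistFn_apply, map_mul, map_pow]
      ring
    rw [Finset.sum_congr rfl fun i _ => h2 i, ← Finset.mul_sum, hgeo g]
    split_ifs
    · ring
    · ring
  have h3 : ∑ g : G, (if g ∈ L then (p : ℂ) * (ψ g * conj (χ g)) else 0)
      = ∑ x : L, (p : ℂ) * (ψ x * conj (χ x)) := by
    rw [← Finset.sum_filter]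
    exact (Finset.sum_subtype (Finset.univ.filter (fun g : G => g ∈ L))
      (fun x => by simp) (fun g => (p : ℂ) * (ψ g * conj (χ g))))
  have h4 : ∑ x : L, (ψ x * conj (χ x)) = (Nat.card L : ℂ) := by
    have h5 := classInner_irr_self hχL
    rw [classInner_def] at h5
    have h6 : ∑ x : L, (ψ x * conj (χ x)) = ∑ x : L, (χ x * conj (χ x)) :=
      Finset.sum_congr rfl fun x _ => by rw [hres x]
    rw [h6]
    field_simp at h5
    exact h5
  have hp0 : (p : ℂ) ≠ 0 := Nat.cast_ne_zero.2 hp.out.pos.ne'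
  rw [h1, h3, ← Finset.mul_sum, h4, ← hcard]
  field_simp

theorem exists_twistFn_eq (hidx : L.index = p) {lam : G →* ℂˣ}
    (hker : ∀ g, lam g = 1 ↔ g ∈ L) (hpow : ∀ g, lam g ^ p = 1) {χ ψ : G → ℂ}
    (hχ : IsIrrCharacter G χ) (hψ : IsIrrCharacter G ψ)
    (hχL : IsIrrCharacter L (fun x : L => χ x)) (hres : ∀ x : L, ψ x = χ x) :
    ∃ i, i < p ∧ ψ = twistFn lam i χ := by
  by_contra hcon
  push Not at hcon
  have h1 := sum_classInner_twistFn L hidx hker hpow hχL hres
  have h2 : ∑ i ∈ Finset.range p, classInner ψ (twistFn lam i χ) = 0 := by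
    refine Finset.sum_eq_zero fun i hi => ?_
    exact classInner_irr_ne hψ (isIrrCharacter_twistFn lam i hχ) (hcon i (Finset.mem_range.1 hi))
  rw [h2] at h1
  exact zero_ne_one h1

theorem twistFn_ne_self (hidx : L.index = p) {lam : G →* ℂˣ}
    (hker : ∀ g, lam g = 1 ↔ g ∈ L) (hpow : ∀ g, lam g ^ p = 1) {χ : G → ℂ}
    (hχ : IsIrrCharacter G χ) (hχL : IsIrrCharacter L (fun x : L => χ x)) {d : ℕ} (hd0 : 0 < d)
    (hd : d < p) : twistFn lam d χ ≠ χ := by
  classical
  intro heq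
  have h1 := sum_classInner_twistFn L hidx hker hpow (ψ := χ) hχL (fun _ => rfl)
  have h0 : twistFn lam 0 χ = χ := by
    funext g
    rw [twistFn_apply, pow_zero, one_mul]
  have hnn : ∀ i ∈ Finset.range p, (0 : ℝ) ≤ (classInner χ (twistFn lam i χ)).re := by
    intro i _
    rw [classInner_irr hχ (isIrrCharacter_twistFn lam i hχ)]
    split_ifs <;> simp
  have h2 : ((∑ i ∈ Finset.range p, classInner χ (twistFn lam i χ)).re : ℝ) = 1 := by
    rw [h1]; simp
  rw [Complex.re_sum] at h2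
  have h0m : 0 ∈ Finset.range p := Finset.mem_range.2 (hd0.trans hd)
  have hdm : d ∈ (Finset.range p).erase 0 :=
    Finset.mem_erase.2 ⟨hd0.ne', Finset.mem_range.2 hd⟩
  rw [← Finset.add_sum_erase _ _ h0m, ← Finset.add_sum_erase _ _ hdm] at h2
  have e0 : (classInner χ (twistFn lam 0 χ)).re = 1 := by
    rw [h0, classInner_irr_self hχ]; simp
  have ed : (classInner χ (twistFn lam d χ)).re = 1 := by
    rw [heq, classInner_irr_self hχ]; simp
  have hrest : (0 : ℝ) ≤ ∑ i ∈ ((Finset.range p).erase 0).erase d,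
      (classInner χ (twistFn lam i χ)).re :=
    Finset.sum_nonneg fun i hi =>
      hnn i (Finset.mem_of_mem_erase (Finset.mem_of_mem_erase hi))
  rw [e0, ed] at h2
  linarith

theorem twistFn_inj (hidx : L.index = p) {lam : G →* ℂˣ}
    (hker : ∀ g, lam g = 1 ↔ g ∈ L) (hpow : ∀ g, lam g ^ p = 1) {χ : G → ℂ}
    (hχ : IsIrrCharacter G χ) (hχL : IsIrrCharacter L (fun x : L => χ x)) {i j : ℕ}
    (h : twistFn lam i χ = twistFn lam j χ) : i ≡ j [MOD p] := by
  -- reduce to `i ≤ j`
  wlog hij : i ≤ j generalizing i j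
  · exact (this h.symm (le_of_not_ge hij)).symm
  obtain ⟨d, rfl⟩ := Nat.exists_eq_add_of_le hij
  have h1 : twistFn lam (d % p) χ = χ := by
    rw [twistFn_mod hpow]
    funext g
    have h2 := congrFun h g
    rw [twistFn_apply, twistFn_apply, pow_add, mul_assoc] at h2
    have h3 : ((lam g : ℂˣ) : ℂ) ^ i ≠ 0 := pow_ne_zero _ (Units.ne_zero _)
    rw [twistFn_apply]
    exact (mul_left_cancel₀ h3 h2).symm
  have h4 : d % p = 0 := by
    by_contra hne
    exact twistFn_ne_self L hidx hker hpow hχ hχL (Nat.pos_of_ne_zero hne)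
      (Nat.mod_lt _ hp.out.pos) h1
  have h5 : d ≡ 0 [MOD p] := h4
  have := Nat.ModEq.add_left i h5
  simpa using this.symm


/-- **Index `p` step.** Let `L` be normal of index `p` in `G`, `η` a `G`-invariant irreducible
character of `L` fixed by the power maps in `S` (all prime to `|G|`), and suppose some member of
`S` is not congruent to one modulo `p`. Then `η` has exactly one irreducible extension to `G`
fixed by the power maps in `S`. -/
theorem existsUnique_fixed_ext (hidx : L.index = p) (S : Set ℕ)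
    (hS : ∀ k ∈ S, k.Coprime (Nat.card G)) {k₀ : ℕ} (hk₀ : k₀ ∈ S) (hk₀p : ¬ k₀ ≡ 1 [MOD p])
    {η : L → ℂ} (hη : IsIrrCharacter L η)
    (hinv : ∀ (g : G) (n : L), η ⟨g * n * g⁻¹, hL.conj_mem (n : G) n.2 g⟩ = η n)
    (hfix : ∀ k ∈ S, powFn k η = η) :
    ∃! ξ : G → ℂ, IsIrrCharacter G ξ ∧ (∀ x : L, ξ x = η x) ∧ ∀ k ∈ S, powFn k ξ = ξ := by
  classical
  have hcardQ : Nat.card (G ⧸ L) = p := by rw [← Subgroup.index_eq_card]; exact hidx
  have hcyc : IsCyclic (G ⧸ L) := isCyclic_of_prime_card hcardQ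
  obtain ⟨χ, hχ, hχη⟩ := Cfsg.Agent.S0886.result L hcyc η hη hinv
  obtain ⟨lam, hker, hpow⟩ := exists_lin (p := p) L hidx
  have hχL : IsIrrCharacter L (fun x : L => χ x) := by
    have : (fun x : L => χ x) = η := funext hχη
    rw [this]; exact hη
  -- power maps preserve extensions of `η`
  have hext : ∀ k ∈ S, ∀ ψ : G → ℂ, IsIrrCharacter G ψ → (∀ x : L, ψ x = η x) →
      IsIrrCharacter G (powFn k ψ) ∧ ∀ x : L, powFn k ψ x = χ x := by
    intro k hk ψ hψ hψη
    refine ⟨isIrrCharacter_powFn (hS k hk) hψ, fun x => ?_⟩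
    rw [powFn_apply, ← Subgroup.coe_pow, hψη, hχη]
    exact congrFun (hfix k hk) x
  obtain ⟨c, -, hc⟩ := exists_twistFn_eq L hidx hker hpow hχ (hext k₀ hk₀ χ hχ hχη).1 hχL
    (hext k₀ hk₀ χ hχ hχη).2
  -- the action of `k₀` on the extensions
  have hact : ∀ j, powFn k₀ (twistFn lam j χ) = twistFn lam (k₀ * j + c) χ := by
    intro j
    rw [powFn_twistFn, hc, twistFn_twistFn]
  have hunit : ((k₀ : ZMod p) - 1) ≠ 0 := by
    intro h
    apply hk₀p
    have h1 : (k₀ : ZMod p) = ((1 : ℕ) : ZMod p) := by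
      rw [Nat.cast_one]; exact sub_eq_zero.1 h
    exact (ZMod.natCast_eq_natCast_iff _ _ _).1 h1
  set I : ZMod p := -(c : ZMod p) * ((k₀ : ZMod p) - 1)⁻¹ with hI
  have hIeq : (k₀ : ZMod p) * I + c = I := by
    have h1 : ((k₀ : ZMod p) - 1) * I = -(c : ZMod p) := by
      rw [hI]
      field_simp
    linear_combination h1
  set i : ℕ := I.val with hi
  have hiI : (i : ZMod p) = I := ZMod.natCast_zmod_val I
  have hfixed_iff : ∀ j : ℕ, powFn k₀ (twistFn lam j χ) = twistFn lam j χ ↔ j ≡ i [MOD p] := by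
    intro j
    rw [hact]
    constructor
    · intro h
      have h1 := twistFn_inj L hidx hker hpow hχ hχL h
      have h2 : ((k₀ * j + c : ℕ) : ZMod p) = (j : ZMod p) :=
        (ZMod.natCast_eq_natCast_iff _ _ _).2 h1
      push_cast at h2
      have h3 : ((k₀ : ZMod p) - 1) * ((j : ZMod p) - I) = 0 := by
        linear_combination h2 - hIeq
      rcases mul_eq_zero.1 h3 with h4 | h4
      · exact absurd h4 hunit
      · rw [← (ZMod.natCast_eq_natCast_iff _ _ _), hiI]
        exact sub_eq_zero.1 h4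
    · intro h
      apply twistFn_congr hpow
      rw [← (ZMod.natCast_eq_natCast_iff _ _ _)]
      have h1 : (j : ZMod p) = I := by
        rw [← hiI]; exact (ZMod.natCast_eq_natCast_iff _ _ _).2 h
      push_cast
      rw [h1]
      exact hIeq
  set ξ : G → ℂ := twistFn lam i χ with hξ
  have hξirr : IsIrrCharacter G ξ := isIrrCharacter_twistFn lam i hχ
  have hξη : ∀ x : L, ξ x = η x := by
    intro x
    rw [hξ, twistFn_apply, (hker x).2 x.2, Units.val_one, one_pow, one_mul, hχη]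
  have hξk₀ : powFn k₀ ξ = ξ := (hfixed_iff i).2 (Nat.ModEq.refl i)
  -- uniqueness among `k₀`-fixed extensions
  have huniq : ∀ ψ : G → ℂ, IsIrrCharacter G ψ → (∀ x : L, ψ x = η x) → powFn k₀ ψ = ψ →
      ψ = ξ := by
    intro ψ hψ hψη hψk
    obtain ⟨j, -, rfl⟩ := exists_twistFn_eq L hidx hker hpow hχ hψ hχL
      (fun x => by rw [hψη, hχη])
    exact twistFn_congr hpow ((hfixed_iff j).1 hψk) χ
  refine ⟨ξ, ⟨hξirr, hξη, ?_⟩, ?_⟩
  · intro k hk
    have h1 := hext k hk ξ hξirr hξη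
    refine huniq _ h1.1 (fun x => by rw [h1.2 x, hχη]) ?_
    rw [powFn_powFn, mul_comm, ← powFn_powFn, hξk₀]
  · rintro ψ ⟨hψ, hψη, hψS⟩
    exact huniq ψ hψ hψη (hψS k₀ hk₀)

end IndexP

end Cfsg.Agent.Lib.Helper8.PRX
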