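import Mathlib
import Cfsg.Agent.Lib.Helper8.PRX3
import Cfsg.Agent.Lib.Helper8.AD1
import Cfsg.Agent.Lib.Helper8.RV1

/-!
# The unique Galois-fixed extension over a normal subgroup of odd prime power index
-/

set_option autoImplicit false
set_option linter.unusedSectionVars false

namespace Cfsg.Agent.Lib.Helper8.PRX

open Cfsg Cfsg.Agent.Lib.Helper1 Cfsg.Agent.Lib.Helper4 Cfsg.Agent.Lib.Helper8
  Cfsg.Agent.Lib.Helper8.RV
open scoped ComplexConjugate

universe u

section Chain

variable {p : ℕ} [hp : Fact p.Prime]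

/-- Between a normal subgroup of index `p ^ (b + 1)` and the group there is a normal subgroup of
index `p`. -/
theorem exists_normal_index_prime {G : Type u} [Group G] [Finite G] (K : Subgroup G) [K.Normal]
    {b : ℕ} (hidx : K.index = p ^ (b + 1)) :
    ∃ L : Subgroup G, L.Normal ∧ K ≤ L ∧ L.index = p := by
  have hcard : Nat.card (G ⧸ K) = p ^ (b + 1) := by rw [← Subgroup.index_eq_card]; exact hidx
  have hdvd : p ^ b ∣ Nat.card (G ⧸ K) := by rw [hcard]; exact pow_dvd_pow p (Nat.le_succ b)
  obtain ⟨Lb, hLb⟩ := Sylow.exists_subgroup_card_pow_prime p hdvd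
  have hLbidx : Lb.index = p := by
    have h1 := Subgroup.card_mul_index Lb
    rw [hLb, hcard, pow_succ] at h1
    exact Nat.eq_of_mul_eq_mul_left (pow_pos hp.out.pos b) h1
  have hLbn : Lb.Normal := by
    apply Subgroup.normal_of_index_eq_minFac_card
    rw [hLbidx, hcard, Nat.Prime.pow_minFac hp.out (Nat.succ_ne_zero b)]
  refine ⟨Lb.comap (QuotientGroup.mk' K), inferInstance, ?_, ?_⟩
  · intro x hx
    rw [Subgroup.mem_comap]
    have : QuotientGroup.mk' K x = 1 := (QuotientGroup.eq_one_iff x).2 hx
    rw [this]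
    exact Lb.one_mem
  · rw [Subgroup.index_comap_of_surjective Lb (QuotientGroup.mk'_surjective K), hLbidx]

/-- **Prime power index.** Let `K` be normal of index `p ^ b` in `G`, `η` a `G`-invariant
irreducible character of `K` fixed by the power maps in `S` (all prime to `|G|`), and suppose some
member of `S` is not congruent to one modulo `p`. Then `η` has exactly one irreducible extension
to `G` fixed by the power maps in `S`. -/
theorem existsUnique_fixed_ext_pow (S : Set ℕ) {k₀ : ℕ} (hk₀ : k₀ ∈ S)
    (hk₀p : ¬ k₀ ≡ 1 [MOD p]) :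
    ∀ (b : ℕ) (G : Type u) [Group G] [Finite G] (K : Subgroup G) [hK : K.Normal],
      K.index = p ^ b → (∀ k ∈ S, k.Coprime (Nat.card G)) →
      ∀ η : K → ℂ, IsIrrCharacter K η →
      (∀ (g : G) (n : K), η ⟨g * n * g⁻¹, hK.conj_mem (n : G) n.2 g⟩ = η n) →
      (∀ k ∈ S, powFn k η = η) →
      ∃! ξ : G → ℂ, IsIrrCharacter G ξ ∧ (∀ x : K, ξ x = η x) ∧ ∀ k ∈ S, powFn k ξ = ξ := by
  intro b
  induction b with
  | zero =>
    intro G _ _ K hK hidx hS η hη hinv hfix
    rw [pow_zero, Subgroup.index_eq_one] at hidx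
    subst hidx
    refine ⟨fun g => η ⟨g, trivial⟩, ⟨?_, fun x => rfl, ?_⟩, ?_⟩
    · exact isIrrCharacter_comp_mulEquiv hη Subgroup.topEquiv.symm
    · intro k hk
      funext g
      have := congrFun (hfix k hk) ⟨g, trivial⟩
      rw [powFn_apply] at this ⊢
      exact this
    · rintro ξ' ⟨-, hξ', -⟩
      funext g
      exact hξ' ⟨g, trivial⟩
  | succ b ih =>
    intro G _ _ K hK hidx hS η hη hinv hfix
    classical
    have : Fintype G := Fintype.ofFinite G
    obtain ⟨L, hL, hKL, hLidx⟩ := exists_normal_index_prime K hidx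
    have : Fintype L := Fintype.ofFinite L
    have : Fintype K := Fintype.ofFinite K
    have hidx' : (K.subgroupOf L).index = p ^ b := by
      have h1 : K.relIndex L * L.index = K.index := Subgroup.relIndex_mul_index hKL
      rw [hLidx, hidx, pow_succ] at h1
      exact Nat.eq_of_mul_eq_mul_right hp.out.pos h1
    have hS' : ∀ k ∈ S, k.Coprime (Nat.card L) := fun k hk =>
      Nat.Coprime.coprime_dvd_right (Subgroup.card_subgroup_dvd_card L) (hS k hk)
    set η' : K.subgroupOf L → ℂ := fun a => η (eSub hKL a) with hη'def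
    have hη' : IsIrrCharacter (K.subgroupOf L) η' := isIrrCharacter_comp_mulEquiv hη (eSub hKL)
    have hinv' : ∀ (g : L) (n : K.subgroupOf L),
        η' ⟨g * n * g⁻¹, (inferInstance : (K.subgroupOf L).Normal).conj_mem (n : L) n.2 g⟩
          = η' n := by
      intro g n
      have := hinv (g : G) (eSub hKL n)
      rw [hη'def]
      simp only
      rw [← this]
      congr 1
    have hfix' : ∀ k ∈ S, powFn k η' = η' := by
      intro k hk
      funext a
      rw [powFn_apply, hη'def]
      simp only
      rw [map_pow]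
      exact congrFun (hfix k hk) (eSub hKL a)
    obtain ⟨ξL, ⟨hξL, hξLη, hξLS⟩, hξLu⟩ := ih L (K.subgroupOf L) hidx' hS' η' hη' hinv' hfix'
    -- invariance of `ξL`
    have hξLinv : ∀ (g : G) (n : L), ξL ⟨g * n * g⁻¹, hL.conj_mem (n : G) n.2 g⟩ = ξL n := by
      intro g n
      have h1 : (fun x : L => ξL ⟨g * x * g⁻¹, hL.conj_mem (x : G) x.2 g⟩) = ξL := by
        apply hξLu
        refine ⟨?_, ?_, ?_⟩
        · have := isIrrCharacter_comp_mulEquiv hξL (MulAut.conjNormal g : L ≃* L)
          have h2 : (fun x : L => ξL ((MulAut.conjNormal g : L ≃* L) x))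
              = fun x : L => ξL ⟨g * x * g⁻¹, hL.conj_mem (x : G) x.2 g⟩ := by
            funext x
            congr 1
          rwa [h2] at this
        · intro x
          have hx : g * ((x : L) : G) * g⁻¹ ∈ K := hK.conj_mem _ x.2 g
          have h2 := hξLη ⟨⟨g * ((x : L) : G) * g⁻¹, hL.conj_mem _ (x : L).2 g⟩, hx⟩
          simp only at h2 ⊢
          rw [h2, hη'def]
          simp only
          have h3 := hinv g (eSub hKL x)
          rw [← h3]
          congr 1
        · intro k hk
          funext x
          rw [powFn_apply]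
          have h2 := congrFun (hξLS k hk) ⟨g * x * g⁻¹, hL.conj_mem (x : G) x.2 g⟩
          rw [powFn_apply] at h2
          rw [← h2]
          congr 1
          apply Subtype.ext
          simp only [Subgroup.coe_pow]
          rw [conj_pow]
      exact congrFun h1 n
    obtain ⟨ξ, ⟨hξ, hξL', hξS⟩, hξu⟩ := existsUnique_fixed_ext L hLidx S hS hk₀ hk₀p hξL hξLinv hξLS
    refine ⟨ξ, ⟨hξ, ?_, hξS⟩, ?_⟩
    · intro x
      rw [hξL' ⟨x, hKL x.2⟩]
      exact hξLη ⟨⟨x, hKL x.2⟩, x.2⟩
    · rintro ξ' ⟨hξ', hξ'η, hξ'S⟩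
      apply hξu
      refine ⟨hξ', ?_, hξ'S⟩
      have hKirr : IsIrrCharacter K (fun x : K => ξ' x) := by
        have : (fun x : K => ξ' x) = η := funext hξ'η
        rw [this]; exact hη
      have h1 : (fun x : L => ξ' x) = ξL := by
        apply hξLu
        refine ⟨AD.irr_res_of_irr_res hξ' K hKirr L hKL, ?_, ?_⟩
        · intro x
          exact hξ'η (eSub hKL x)
        · intro k hk
          funext x
          rw [powFn_apply]
          have := congrFun (hξ'S k hk) (x : G)
          rw [powFn_apply] at this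
          rw [← this]
          rfl
      exact fun x => congrFun h1 x

end Chain

end Cfsg.Agent.Lib.Helper8.PRX
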