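import Mathlib
import Cfsg.Agent.Lib.Helper8.AD6
import Cfsg.Agent.Lib.Helper2.BrauerInd
import Cfsg.Agent.Lib.Helper2.Exceptional
import Cfsg.Agent.S0164

/-!
# Gluing canonical extensions into an irreducible character

An abstract form of the gluing argument of Dade's extension theorem: a family of canonical
extensions of `θ` to the subgroups `N E` (`E` nilpotent), unique, compatible with restriction and
conjugation, is the family of restrictions of an irreducible character of the whole group.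
-/

set_option autoImplicit false

namespace Cfsg.Agent.Lib.Helper8.PRX

open Cfsg Cfsg.Agent.Lib.Helper8 Cfsg.Agent.Lib.Helper1 Cfsg.Agent.Lib.Helper4
  Cfsg.Agent.Lib.Helper8.RV Cfsg.Agent.Lib.Helper8.RelSch Cfsg.Agent.Lib.Helper8.AD
open scoped ComplexConjugate

universe u

noncomputable local instance subFtPRX5 {G : Type u} [Group G] [Finite G] (H : Subgroup G) :
    Fintype H := Fintype.ofFinite H

section Glue

variable {Γ : Type u} [Group Γ]

/-- The data of a compatible family of canonical extensions. -/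
structure Glue (N : Subgroup Γ) (θ : N → ℂ) (Can : (J : Subgroup Γ) → (J → ℂ) → Prop) :
    Prop where
  le : ∀ {J : Subgroup Γ} {ξ : J → ℂ}, Can J ξ → N ≤ J
  irr : ∀ {J : Subgroup Γ} {ξ : J → ℂ}, Can J ξ → IsIrrCharacter J ξ
  ext : ∀ {J : Subgroup Γ} {ξ : J → ℂ}, Can J ξ →
    ∀ (x : Γ) (hx : x ∈ N) (hj : x ∈ J), ξ ⟨x, hj⟩ = θ ⟨x, hx⟩
  unique : ∀ {J : Subgroup Γ} {ξ ξ' : J → ℂ}, Can J ξ → Can J ξ' → ξ = ξ'
  res : ∀ {J' J : Subgroup Γ} (hJ : J' ≤ J) {ξ : J → ℂ}, N ≤ J' → Can J ξ →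
    Can J' (fun x : J' => ξ ⟨x, hJ x.2⟩)
  conjg : ∀ (h : Γ) {J : Subgroup Γ} {ξ : J → ℂ}, Can J ξ →
    ∃ ξ' : (J.map (MulAut.conj h).toMonoidHom) → ℂ,
      Can (J.map (MulAut.conj h).toMonoidHom) ξ' ∧
      ∀ (g : Γ) (hg : g ∈ J) (hg' : h * g * h⁻¹ ∈ J.map (MulAut.conj h).toMonoidHom),
        ξ' ⟨h * g * h⁻¹, hg'⟩ = ξ ⟨g, hg⟩
  exists_nil : ∀ (E : Subgroup Γ), Group.IsNilpotent E → ∃ ξ : ↥(N ⊔ E) → ℂ, Can (N ⊔ E) ξ

variable {N : Subgroup Γ} {θ : N → ℂ} {Can : (J : Subgroup Γ) → (J → ℂ) → Prop}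

/-- `z` is the value at `g` of a canonical extension. -/
def GlueAt (Can : (J : Subgroup Γ) → (J → ℂ) → Prop) (g : Γ) (z : ℂ) : Prop :=
  ∃ (J : Subgroup Γ) (ξ : J → ℂ) (hg : g ∈ J), Can J ξ ∧ ξ ⟨g, hg⟩ = z

theorem Glue.glueAt_unique (G : Glue N θ Can) {g : Γ} {z z' : ℂ} (h : GlueAt Can g z)
    (h' : GlueAt Can g z') : z = z' := by
  obtain ⟨J, ξ, hg, hc, rfl⟩ := h
  obtain ⟨J', ξ', hg', hc', rfl⟩ := h'
  have hle : N ≤ J ⊓ J' := le_inf (G.le hc) (G.le hc')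
  have h1 := G.res (inf_le_left : J ⊓ J' ≤ J) hle hc
  have h2 := G.res (inf_le_right : J ⊓ J' ≤ J') hle hc'
  have h3 := G.unique h1 h2
  exact congrFun h3 ⟨g, ⟨hg, hg'⟩⟩

theorem Glue.exists_glueAt (G : Glue N θ Can) (g : Γ) : ∃ z, GlueAt Can g z := by
  have hnil : Group.IsNilpotent (Subgroup.zpowers g) := by
    have hc : IsCyclic (Subgroup.zpowers g) := inferInstance
    let _ : CommGroup (Subgroup.zpowers g) := hc.commGroup
    exact CommGroup.isNilpotent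
  obtain ⟨ξ, hξ⟩ := G.exists_nil (Subgroup.zpowers g) hnil
  have hg : g ∈ N ⊔ Subgroup.zpowers g :=
    (le_sup_right : Subgroup.zpowers g ≤ N ⊔ Subgroup.zpowers g) (Subgroup.mem_zpowers g)
  exact ⟨ξ ⟨g, hg⟩, _, ξ, hg, hξ, rfl⟩

open Classical in
/-- The glued function. -/
noncomputable def glueVal (Can : (J : Subgroup Γ) → (J → ℂ) → Prop) (g : Γ) : ℂ :=
  if h : ∃ z, GlueAt Can g z then Classical.choose h else 0

theorem Glue.glueVal_eq (G : Glue N θ Can) {g : Γ} {z : ℂ} (h : GlueAt Can g z) :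
    glueVal Can g = z := by
  unfold glueVal
  rw [dif_pos ⟨z, h⟩]
  exact G.glueAt_unique (Classical.choose_spec ⟨z, h⟩) h

theorem Glue.glueVal_can (G : Glue N θ Can) {J : Subgroup Γ} {ξ : J → ℂ} (hc : Can J ξ) (g : Γ)
    (hg : g ∈ J) : glueVal Can g = ξ ⟨g, hg⟩ :=
  G.glueVal_eq ⟨J, ξ, hg, hc, rfl⟩

theorem Glue.glueVal_conj (G : Glue N θ Can) (h g : Γ) :
    glueVal Can (h * g * h⁻¹) = glueVal Can g := by
  obtain ⟨z, hz⟩ := G.exists_glueAt g
  rw [G.glueVal_eq hz]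
  obtain ⟨J, ξ, hg, hc, rfl⟩ := hz
  obtain ⟨ξ', hc', hval⟩ := G.conjg h hc
  have hg' : h * g * h⁻¹ ∈ J.map (MulAut.conj h).toMonoidHom :=
    Subgroup.mem_map.2 ⟨g, hg, by simp [MulAut.conj_apply]⟩
  exact G.glueVal_eq ⟨_, ξ', hg', hc', hval g hg hg'⟩

theorem Glue.glueVal_of_mem (G : Glue N θ Can) (x : N) : glueVal Can x = θ x := by
  have hnil : Group.IsNilpotent (⊥ : Subgroup Γ) := inferInstance
  obtain ⟨ξ, hξ⟩ := G.exists_nil ⊥ hnil
  have hx : (x : Γ) ∈ N ⊔ (⊥ : Subgroup Γ) := (le_sup_left : N ≤ N ⊔ ⊥) x.2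
  rw [G.glueVal_can hξ x hx]
  exact G.ext hξ x x.2 hx

variable [Finite Γ]

theorem Glue.glueVal_res_char (G : Glue N θ Can) (E : Subgroup Γ) [hE : Group.IsNilpotent E] :
    IsCharacter E (fun e : E => glueVal Can e) := by
  obtain ⟨ξ, hξ⟩ := G.exists_nil E hE
  have h1 : (fun e : E => glueVal Can e) = RV.res (le_sup_right : E ≤ N ⊔ E) ξ :=
    funext fun e => G.glueVal_can hξ e ((le_sup_right : E ≤ N ⊔ E) e.2)
  rw [h1]
  exact isCharacter_res le_sup_right (isCharacter_of_irr (G.irr hξ))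

theorem Glue.glueVal_genChar (G : Glue N θ Can) : IsGeneralizedCharacter Γ (glueVal Can) := by
  refine Cfsg.Agent.S0164.result (glueVal Can) (fun g h => G.glueVal_conj h g) ?_
  intro E q hq hE
  have : Fact q.Prime := ⟨hq⟩
  have hnil : Group.IsNilpotent E :=
    Cfsg.Agent.Lib.Helper2.BrauerInd.isNilpotent_of_isElementary hE
  exact isGenChar_of_isCharacter (G.glueVal_res_char E)

theorem Glue.glueVal_coset_sum (G : Glue N θ Can) (hθ : IsIrrCharacter N θ) (g : Γ) :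
    ∑ n : N, glueVal Can (g * n) * conj (glueVal Can (g * n)) = (Nat.card N : ℂ) := by
  obtain ⟨z, J, ξ, hg, hc, -⟩ := G.exists_glueAt g
  have hNJ : N ≤ J := G.le hc
  have hval : ∀ n : N, glueVal Can (g * n) = ξ ⟨g * n, J.mul_mem hg (hNJ n.2)⟩ :=
    fun n => G.glueVal_can hc _ _
  obtain ⟨d, ρ, hirr, hρ⟩ := G.irr hc
  subst hρ
  have hirrN : IsIrrCharacter (N.subgroupOf J)
      (fun x : N.subgroupOf J => ρ.character (x : J)) := by
    have h1 : (fun x : N.subgroupOf J => ρ.character (x : J)) = fun a => θ (eSub hNJ a) :=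
      funext fun a => G.ext hc _ _ _
    rw [h1]
    exact irr_transport hNJ hθ
  have hnorm := normOneOn_of_irr_res ρ (N.subgroupOf J) hirrN
  have hsum := sum_coset_char ρ (N.subgroupOf J) hnorm ⟨g, hg⟩
  rw [← Equiv.sum_comp (eSub hNJ).toEquiv, ← Nat.card_congr (eSub hNJ).toEquiv, ← hsum]
  refine Finset.sum_congr rfl fun a _ => ?_
  rw [hval, character_inv, mul_comm]
  rfl

theorem Glue.glueVal_norm [Fintype Γ] (G : Glue N θ Can) (hθ : IsIrrCharacter N θ) :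
    ∑ g : Γ, glueVal Can g * conj (glueVal Can g) = (Nat.card Γ : ℂ) := by
  set F : Γ → ℂ := fun g => glueVal Can g * conj (glueVal Can g) with hF
  have h1 : ∀ n : N, ∑ g : Γ, F (g * n) = ∑ g : Γ, F g :=
    fun n => Equiv.sum_comp (Equiv.mulRight (n : Γ)) F
  have h2 : ∑ n : N, ∑ g : Γ, F (g * n) = (Nat.card N : ℂ) * ∑ g : Γ, F g := by
    rw [Finset.sum_congr rfl fun n _ => h1 n, Finset.sum_const, Finset.card_univ,
      ← Nat.card_eq_fintype_card, nsmul_eq_mul]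
  have h3 : ∑ n : N, ∑ g : Γ, F (g * n) = (Nat.card Γ : ℂ) * (Nat.card N : ℂ) := by
    rw [Finset.sum_comm]
    rw [Finset.sum_congr rfl fun g _ => G.glueVal_coset_sum hθ g, Finset.sum_const,
      Finset.card_univ, ← Nat.card_eq_fintype_card, nsmul_eq_mul]
  have hN0 : (Nat.card N : ℂ) ≠ 0 := Nat.cast_ne_zero.2 Nat.card_pos.ne'
  have h4 : (Nat.card N : ℂ) * ∑ g : Γ, F g = (Nat.card N : ℂ) * (Nat.card Γ : ℂ) := by
    rw [← h2, h3, mul_comm]
  exact mul_left_cancel₀ hN0 h4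

/-- **Gluing.** A compatible family of canonical extensions is the family of restrictions of an
irreducible character. -/
theorem Glue.exists_irr (G : Glue N θ Can) (hθ : IsIrrCharacter N θ) :
    ∃ Θ : Γ → ℂ, IsIrrCharacter Γ Θ ∧ (∀ x : N, Θ x = θ x) ∧
      ∀ (J : Subgroup Γ) (ξ : J → ℂ), Can J ξ → ∀ (g : Γ) (hg : g ∈ J), Θ g = ξ ⟨g, hg⟩ := by
  have : Fintype Γ := Fintype.ofFinite Γ
  refine ⟨glueVal Can, ?_, G.glueVal_of_mem, fun J ξ hc g hg => G.glueVal_can hc g hg⟩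
  obtain ⟨m, hm, hθ1⟩ := irr_apply_one_pos hθ
  refine Cfsg.Agent.Lib.Helper2.Exceptional.irr_of_norm_one_pos G.glueVal_genChar ?_ hm ?_
  · rw [classInner_def, G.glueVal_norm hθ]
    have hG0 : (Nat.card Γ : ℂ) ≠ 0 := Nat.cast_ne_zero.2 Nat.card_pos.ne'
    field_simp
  · have h1 := G.glueVal_of_mem 1
    rw [← hθ1, ← h1]
    rfl

end Glue

end Cfsg.Agent.Lib.Helper8.PRX
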