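import Mathlib
import Cfsg.Agent.Lib.Helper8.AD8
import Cfsg.Agent.Lib.Helper8.GP3
import Cfsg.Agent.Lib.Helper8.PRX2

/-!
# Canonical extensions in the Alperin–Dade setting, with a local hypothesis
-/

set_option autoImplicit false

namespace Cfsg.Agent.Lib.Helper8.PRX

open Cfsg Cfsg.Agent.Lib.Helper8 Cfsg.Agent.Lib.Helper1 Cfsg.Agent.Lib.Helper4
  Cfsg.Agent.Lib.Helper8.RV Cfsg.Agent.Lib.Helper8.AD
open scoped ComplexConjugate

universe u

noncomputable local instance subFtPRX6 {G : Type u} [Group G] [Finite G] (H : Subgroup G) :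
    Fintype H := Fintype.ofFinite H

section Local

variable {Γ : Type u} [Group Γ] [Finite Γ] {p : ℕ} [Fact p.Prime] {M : Ideal AlgInt}

omit [Finite Γ] in
/-- The Alperin–Dade setting holds in every `K` between `N` and `N C(Q₀)` with `p ∤ |K : N|`. -/
theorem setup_of_le {N Q₀ K : Subgroup Γ} [N.Normal] (hQN : Q₀ ≤ N)
    (hQ : ¬ p ∣ Q₀.relIndex N) (hNK : N ≤ K)
    (hKH : K ≤ N ⊔ Subgroup.centralizer (Q₀ : Set Γ)) (hK : ¬ p ∣ N.relIndex K) :
    Setup p (N.subgroupOf K) := by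
  have hp : p.Prime := Fact.out
  refine ⟨Q₀.subgroupOf K, ?_, ?_, ?_⟩
  · intro x hx
    exact hQN hx
  · intro hd
    have h1 : Q₀.relIndex N * N.relIndex K = Q₀.relIndex K :=
      Subgroup.relIndex_mul_relIndex _ _ _ hQN hNK
    have h2 : p ∣ Q₀.relIndex N * N.relIndex K := by rw [h1]; exact hd
    rcases (Nat.Prime.dvd_mul hp).1 h2 with h | h
    · exact hQ h
    · exact hK h
  · rw [eq_top_iff]
    intro x _
    have hx : (x : Γ) ∈ N ⊔ Subgroup.centralizer (Q₀ : Set Γ) := hKH x.2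
    obtain ⟨a, ha, c, hc, hac⟩ := Subgroup.mem_sup_of_normal_left.1 hx
    have hcK : c ∈ K := by
      have : c = a⁻¹ * (x : Γ) := by rw [← hac]; group
      rw [this]
      exact K.mul_mem (K.inv_mem (hNK ha)) x.2
    have hx' : x = (⟨a, hNK ha⟩ : K) * ⟨c, hcK⟩ := Subtype.ext hac.symm
    rw [hx']
    apply Subgroup.mul_mem_sup
    · exact ha
    · rw [Subgroup.mem_centralizer_iff]
      intro y hy
      apply Subtype.ext
      exact Subgroup.mem_centralizer_iff.1 hc (y : Γ) hy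

theorem exists_isCanon' (hM : IsPModular p M) (N : Subgroup Γ) [N.Normal]
    {θ : N → ℂ} (hθ : IsIrrCharacter N θ) (hprin : SameBlock M (fun _ : N => (1 : ℂ)) θ)
    (K : Subgroup Γ) (hNK : N ≤ K) (hS' : Setup p (N.subgroupOf K)) :
    ∃ ξ : K → ℂ, IsCanon M N K θ ξ := by
  obtain ⟨χ, hχ, hχθ, hχB⟩ := exists_principal_ext hM (N.subgroupOf K) hS'
    (irr_transport hNK hθ) (prin_transport hNK hprin)
  exact ⟨χ, hχ, fun x hx hj => hχθ ⟨⟨x, hj⟩, hx⟩, hχB⟩

omit [Fact p.Prime] in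
theorem isCanon_unique' (hM : IsPModular p M) (N : Subgroup Γ) [N.Normal]
    {θ : N → ℂ} (hθ : IsIrrCharacter N θ) (K : Subgroup Γ) (hNK : N ≤ K)
    (hS' : Setup p (N.subgroupOf K)) {ξ ξ' : K → ℂ}
    (h : IsCanon M N K θ ξ) (h' : IsCanon M N K θ ξ') : ξ' = ξ := by
  refine eq_of_over hM (N.subgroupOf K) hS' (irr_transport hNK hθ) h.1 (fun n => h.2.1 _ _ _)
    h.2.2 h'.1 ?_ h'.2.2
  have h1 : (fun n : N.subgroupOf K => ξ' n) = fun a => θ (eSub hNK a) :=
    funext fun n => h'.2.1 _ _ _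
  rw [h1, classInner_irr_self (irr_transport hNK hθ)]
  exact one_ne_zero

theorem isCanon_cong' (hM : IsPModular p M) (N : Subgroup Γ) [N.Normal]
    {θ : N → ℂ} (hθ : IsIrrCharacter N θ) (hprin : SameBlock M (fun _ : N => (1 : ℂ)) θ)
    (K : Subgroup Γ) (hNK : N ≤ K) (hS' : Setup p (N.subgroupOf K)) {ξ : K → ℂ}
    (h : IsCanon M N K θ ξ) : Cong M (N.subgroupOf K) ξ := by
  obtain ⟨χ, hχ, hχθ, hcong⟩ := exists_cong_ext hM (N.subgroupOf K) hS'
    (fun a => θ (eSub hNK a)) (irr_transport hNK hθ) (prin_transport hNK hprin) ξ h.1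
    (fun n => h.2.1 _ _ _)
  have hχc : IsCanon M N K θ χ :=
    ⟨hχ, fun x hx hj => hχθ ⟨⟨x, hj⟩, hx⟩, hcong.sameBlock (isClassFunction_irr hχ)⟩
  rw [isCanon_unique' hM N hθ K hNK hS' hχc h]
  exact hcong

theorem isCanon_res' (hM : IsPModular p M) (N : Subgroup Γ) [N.Normal]
    {θ : N → ℂ} (hθ : IsIrrCharacter N θ) (hprin : SameBlock M (fun _ : N => (1 : ℂ)) θ)
    {K' K : Subgroup Γ} (hNK' : N ≤ K') (hK : K' ≤ K) (hS' : Setup p (N.subgroupOf K))
    {ξ : K → ℂ} (h : IsCanon M N K θ ξ) : IsCanon M N K' θ (res hK ξ) := by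
  have hNK := hNK'.trans hK
  have hcong := isCanon_cong' hM N hθ hprin K hNK hS' h
  have hle : N.subgroupOf K ≤ K'.subgroupOf K := fun x hx => hNK' hx
  have hirr0 : IsIrrCharacter (N.subgroupOf K) (fun x : N.subgroupOf K => ξ x) := by
    have h1 : (fun x : N.subgroupOf K => ξ x) = fun a => θ (eSub hNK a) :=
      funext fun n => h.2.1 _ _ _
    rw [h1]
    exact irr_transport hNK hθ
  have hirr1 := irr_res_of_irr_res h.1 (N.subgroupOf K) hirr0 (K'.subgroupOf K) hle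
  have hirr2 := isIrrCharacter_comp_mulEquiv hirr1 (eSub hK).symm
  have hsb1 := hcong.sameBlock_res (isClassFunction_irr h.1) (K'.subgroupOf K) hle
  have hsb2 := sameBlock_comp_mulEquiv (M := M) (eSub hK).symm hsb1
  refine ⟨hirr2, ?_, hsb2⟩
  intro x hx hj
  exact h.2.1 x hx (hK hj)

omit [Finite Γ] [Fact p.Prime] in
theorem isCanon_cast {N : Subgroup Γ} {θ : N → ℂ} {K K' : Subgroup Γ} (hK : K = K') {ξ : K → ℂ}
    (hc : IsCanon M N K θ ξ) : IsCanon M N K' θ (fun x : K' => ξ ⟨x, hK ▸ x.2⟩) := by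
  subst hK
  exact hc

omit [Fact p.Prime] [Finite Γ] in
/-- A uniform inverse of a power map prime to the group order. -/
theorem exists_uniform_inv {G : Type u} [Group G] [Finite G] {k : ℕ}
    (hk : k.Coprime (Nat.card G)) : ∃ l : ℕ, ∀ g : G, (g ^ k) ^ l = g := by
  by_cases h1 : Nat.card G = 1
  · refine ⟨0, fun g => ?_⟩
    have : Subsingleton G := (Nat.card_eq_one_iff_unique.1 h1).1
    exact Subsingleton.elim _ _
  · have h2 : 1 < Nat.card G := lt_of_le_of_ne Nat.card_pos (Ne.symm h1)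
    obtain ⟨l, -, hl⟩ := Nat.exists_mul_mod_eq_one_of_coprime hk h2
    refine ⟨l, fun g => ?_⟩
    rw [← pow_mul]
    have h3 : g ^ (k * l) = g ^ (k * l % Nat.card G) :=
      (pow_mod_natCard g (k * l)).symm
    rw [h3, hl, pow_one]

/-- A power map prime to the order preserves canonical extensions, if it fixes `θ`. -/
theorem isCanon_powFn {N : Subgroup Γ} {θ : N → ℂ} {K : Subgroup Γ} {ξ : K → ℂ}
    (hc : IsCanon M N K θ ξ) {k : ℕ} (hk : k.Coprime (Nat.card K)) (hθk : powFn k θ = θ) :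
    IsCanon M N K θ (powFn k ξ) := by
  refine ⟨isIrrCharacter_powFn hk hc.1, ?_, ?_⟩
  · intro x hx hj
    rw [powFn_apply]
    have h1 : (⟨x, hj⟩ : K) ^ k = ⟨x ^ k, K.pow_mem hj k⟩ := rfl
    rw [h1, hc.2.1 (x ^ k) (N.pow_mem hx k) _]
    have := congrFun hθk ⟨x, hx⟩
    rw [powFn_apply] at this
    exact this
  · obtain ⟨l, hl⟩ := exists_uniform_inv (G := K) hk
    have h1 := sameBlock_powFn (M := M) hl hc.2.2
    have h2 : powFn k (fun _ : K => (1 : ℂ)) = fun _ : K => (1 : ℂ) := rfl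
    rwa [h2] at h1

end Local

end Cfsg.Agent.Lib.Helper8.PRX
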