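import Mathlib

/-!
# Group-theoretic lemmas for the `p`-rational extension theorem
-/

set_option autoImplicit false

namespace Cfsg.Agent.Lib.Helper8.PRX

universe u

section Grp

variable {Γ : Type u} [Group Γ] {p : ℕ} [hp : Fact p.Prime]

/-- Normality of `K` in `J`, for subgroups of an ambient group. -/
def NormalIn (K J : Subgroup Γ) : Prop := ∀ j ∈ J, ∀ x ∈ K, j * x * j⁻¹ ∈ K

omit hp in
theorem NormalIn.normal {K J : Subgroup Γ} (h : NormalIn K J) : (K.subgroupOf J).Normal :=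
  ⟨fun n hn g => h g g.2 n hn⟩

omit hp in
theorem NormalIn.inf {K J : Subgroup Γ} (h : NormalIn K J) {J' : Subgroup Γ} (hJ : J' ≤ J) :
    NormalIn (K ⊓ J') J' := by
  intro j hj x hx
  exact ⟨h j (hJ hj) x hx.1, J'.mul_mem (J'.mul_mem hj hx.2) (J'.inv_mem hj)⟩

/-- A `p'`-over-`N` subgroup lies in any normal `p`-power-index-over... subgroup. -/
theorem hall_le {N K₁ K₂ J : Subgroup Γ} (hN1 : N ≤ K₁) (hN2 : N ≤ K₂) (h1 : K₁ ≤ J)
    (hn2 : NormalIn K₂ J) (hp1 : ¬ p ∣ N.relIndex K₁) {b : ℕ} (hb2 : K₂.relIndex J = p ^ b) :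
    K₁ ≤ K₂ := by
  have hnorm : (K₂.subgroupOf J).Normal := hn2.normal
  have hd1 : K₂.relIndex K₁ ∣ p ^ b := by
    have := Subgroup.relIndex_dvd_index_of_normal (K₂.subgroupOf J) (K₁.subgroupOf J)
    rw [Subgroup.relIndex_subgroupOf h1] at this
    rw [← hb2]
    exact this
  have hd2 : K₂.relIndex K₁ ∣ N.relIndex K₁ := by
    rw [← Subgroup.inf_relIndex_left]
    exact Subgroup.relIndex_dvd_of_le_left K₁ (le_inf hN1 hN2)
  obtain ⟨j, -, hj⟩ := (Nat.dvd_prime_pow hp.out).1 hd1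
  rw [← Subgroup.relIndex_eq_one, hj]
  rcases Nat.eq_zero_or_pos j with h0 | h0
  · rw [h0, pow_zero]
  · exfalso
    apply hp1
    refine dvd_trans ?_ hd2
    rw [hj]
    exact dvd_pow_self p h0.ne'

theorem relIndex_inf_pow {K J J' : Subgroup Γ} (hJ' : J' ≤ J) (hn : NormalIn K J) {b : ℕ}
    (hb : K.relIndex J = p ^ b) : ∃ b' : ℕ, (K ⊓ J').relIndex J' = p ^ b' := by
  have hnorm : (K.subgroupOf J).Normal := hn.normal
  rw [Subgroup.inf_relIndex_right]
  have := Subgroup.relIndex_dvd_index_of_normal (K.subgroupOf J) (J'.subgroupOf J)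
  rw [Subgroup.relIndex_subgroupOf hJ'] at this
  have h2 : K.relIndex J' ∣ p ^ b := by rw [← hb]; exact this
  obtain ⟨j, -, hj⟩ := (Nat.dvd_prime_pow hp.out).1 h2
  exact ⟨j, hj⟩

/-- A subgroup of order prime to `p` lies in every normal subgroup of `p`-power index. -/
theorem le_of_not_dvd_card [Finite Γ] {H E' : Subgroup Γ} [H.Normal] {a : ℕ}
    (hH : H.index = p ^ a) (hE : ¬ p ∣ Nat.card E') : E' ≤ H := by
  intro x hx
  have h1 : orderOf (QuotientGroup.mk' H x) ∣ orderOf x := orderOf_map_dvd _ x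
  have h2 : orderOf x ∣ Nat.card E' := Subgroup.orderOf_dvd_natCard E' hx
  have h3 : orderOf (QuotientGroup.mk' H x) ∣ p ^ a := by
    rw [← hH, Subgroup.index_eq_card]
    exact orderOf_dvd_natCard _
  obtain ⟨j, -, hj⟩ := (Nat.dvd_prime_pow hp.out).1 h3
  rcases Nat.eq_zero_or_pos j with h0 | h0
  · rw [h0, pow_zero, orderOf_eq_one_iff] at hj
    exact (QuotientGroup.eq_one_iff x).1 hj
  · exfalso
    apply hE
    refine dvd_trans ?_ (h1.trans h2)
    rw [hj]
    exact dvd_pow_self p h0.ne'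

/-- A finite nilpotent group has a normal Hall `p'`-subgroup. -/
theorem exists_normal_hall (E : Type u) [Group E] [Finite E] [Group.IsNilpotent E] :
    ∃ E' : Subgroup E, E'.Normal ∧ ¬ p ∣ Nat.card E' ∧ ∃ b : ℕ, E'.index = p ^ b := by
  classical
  by_cases hpE : p ∣ Nat.card E
  · have hmem : p ∈ (Nat.card E).primeFactors :=
      Nat.mem_primeFactors.2 ⟨hp.out, hpE, Nat.card_pos.ne'⟩
    let e : (∀ q : (Nat.card E).primeFactors, ∀ P : Sylow q E, (P : Subgroup E)) ≃* E :=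
      Sylow.directProductOfNormal (fun {q} _ P => inferInstance)
    let P₀ : Sylow p E := default
    let π₁ : (∀ q : (Nat.card E).primeFactors, ∀ P : Sylow q E, (P : Subgroup E)) →*
        (∀ P : Sylow p E, (P : Subgroup E)) :=
      Pi.evalMonoidHom (fun q : (Nat.card E).primeFactors => ∀ P : Sylow q E, (P : Subgroup E))
        ⟨p, hmem⟩
    let π₂ : (∀ P : Sylow p E, (P : Subgroup E)) →* (P₀ : Subgroup E) :=
      Pi.evalMonoidHom (fun P : Sylow p E => (P : Subgroup E)) P₀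
    let ψ : E →* (P₀ : Subgroup E) := (π₂.comp π₁).comp e.symm.toMonoidHom
    have hsurj : Function.Surjective ψ := by
      intro y
      refine ⟨e (Pi.mulSingle (⟨p, hmem⟩ : (Nat.card E).primeFactors)
        (Pi.mulSingle P₀ y)), ?_⟩
      show π₂ (π₁ (e.symm (e _))) = y
      rw [MulEquiv.symm_apply_apply]
      show (Pi.mulSingle (⟨p, hmem⟩ : (Nat.card E).primeFactors) (Pi.mulSingle P₀ y) :
        ∀ q : (Nat.card E).primeFactors, ∀ P : Sylow q E, (P : Subgroup E)) ⟨p, hmem⟩ P₀ = y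
      rw [Pi.mulSingle_eq_same, Pi.mulSingle_eq_same]
    have hidx : ψ.ker.index = p ^ (Nat.card E).factorization p := by
      rw [Subgroup.index_ker, MonoidHom.range_eq_top.2 hsurj, Subgroup.card_top]
      exact P₀.card_eq_multiplicity
    refine ⟨ψ.ker, inferInstance, ?_, ⟨_, hidx⟩⟩
    have h1 := Subgroup.card_mul_index ψ.ker
    rw [hidx] at h1
    have h2 : Nat.card ψ.ker = Nat.card E / p ^ (Nat.card E).factorization p :=
      (Nat.div_eq_of_eq_mul_left (pow_pos hp.out.pos _) h1.symm).symm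
    rw [h2]
    exact Nat.not_dvd_ordCompl hp.out Nat.card_pos.ne'
  · refine ⟨⊤, inferInstance, ?_, ⟨0, ?_⟩⟩
    · rw [Subgroup.card_top]; exact hpE
    · rw [Subgroup.index_top, pow_zero]

end Grp

end Cfsg.Agent.Lib.Helper8.PRX
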