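import Mathlib
import Cfsg.Agent.Lib.Helper8.PRX4
import Cfsg.Agent.Lib.Helper8.PRX5
import Cfsg.Agent.Lib.Helper8.PRX6
import Cfsg.Agent.Lib.Helper8.PRX7

/-!
# The canonical `p`-rational extensions: definition, uniqueness, restriction
-/

set_option autoImplicit false

namespace Cfsg.Agent.Lib.Helper8.PRX

open Cfsg Cfsg.Agent.Lib.Helper8 Cfsg.Agent.Lib.Helper1 Cfsg.Agent.Lib.Helper4
  Cfsg.Agent.Lib.Helper8.RV Cfsg.Agent.Lib.Helper8.AD
open scoped ComplexConjugate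

universe u

noncomputable local instance subFtPRX8 {G : Type u} [Group G] [Finite G] (H : Subgroup G) :
    Fintype H := Fintype.ofFinite H

section Defs

variable {Γ : Type u} [Group Γ]

/-- The global hypotheses. -/
structure PCtx (p : ℕ) (M : Ideal AlgInt) (N Q₀ : Subgroup Γ) (θ : N → ℂ) : Prop where
  hM : IsPModular p M
  hp2 : p ≠ 2
  hQN : Q₀ ≤ N
  hQ : ¬ p ∣ Q₀.relIndex N
  hHn : (N ⊔ Subgroup.centralizer (Q₀ : Set Γ)).Normal
  hHidx : ∃ a : ℕ, (N ⊔ Subgroup.centralizer (Q₀ : Set Γ)).index = p ^ a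
  hθ : IsIrrCharacter N θ
  hinv : ∀ (h : Γ) (x y : N), (y : Γ) = h⁻¹ * x * h → θ y = θ x
  hprin : SameBlock M (fun _ : N => (1 : ℂ)) θ
  hfix : ∀ k ∈ expSet p (Nat.card Γ), powFn k θ = θ

/-- The canonical extension of `θ` to `J`: the `p`-rational extension whose restriction to the
`p'`-part `K` of `J` over `N` lies in the principal block. -/
def PCan (p : ℕ) (M : Ideal AlgInt) (N Q₀ : Subgroup Γ) (θ : N → ℂ) (J : Subgroup Γ)
    (ξ : J → ℂ) : Prop :=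
  N ≤ J ∧ IsIrrCharacter J ξ ∧
  (∀ (x : Γ) (hx : x ∈ N) (hj : x ∈ J), ξ ⟨x, hj⟩ = θ ⟨x, hx⟩) ∧
  (∀ k ∈ expSet p (Nat.card Γ), powFn k ξ = ξ) ∧
  ∃ (K : Subgroup Γ) (hKJ : K ≤ J), N ≤ K ∧ K ≤ N ⊔ Subgroup.centralizer (Q₀ : Set Γ) ∧
    NormalIn K J ∧ ¬ p ∣ N.relIndex K ∧ (∃ b : ℕ, K.relIndex J = p ^ b) ∧
    SameBlock M (fun _ : K => (1 : ℂ)) (res hKJ ξ)

end Defs

section Props

variable {Γ : Type u} [Group Γ] [Finite Γ] {p : ℕ} [hp : Fact p.Prime] {M : Ideal AlgInt}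
  {N Q₀ : Subgroup Γ} [hN : N.Normal] {θ : N → ℂ}

omit hp hN in
/-- Restrictions of an extension of `θ` to intermediate subgroups are irreducible. -/
theorem irr_res_of_ext {J' J : Subgroup Γ} (hNJ' : N ≤ J') (hJ : J' ≤ J)
    (hθ : IsIrrCharacter N θ) {ξ : J → ℂ} (hξ : IsIrrCharacter J ξ)
    (hext : ∀ (x : Γ) (hx : x ∈ N) (hj : x ∈ J), ξ ⟨x, hj⟩ = θ ⟨x, hx⟩) :
    IsIrrCharacter (J'.subgroupOf J) (fun x : J'.subgroupOf J => ξ x) ∧
      IsIrrCharacter J' (res hJ ξ) := by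
  have hNJ := hNJ'.trans hJ
  have hle : N.subgroupOf J ≤ J'.subgroupOf J := fun x hx => hNJ' hx
  have hirr0 : IsIrrCharacter (N.subgroupOf J) (fun x : N.subgroupOf J => ξ x) := by
    have h1 : (fun x : N.subgroupOf J => ξ x) = fun a => θ (eSub hNJ a) :=
      funext fun n => hext _ _ _
    rw [h1]
    exact irr_transport hNJ hθ
  have hirr1 := irr_res_of_irr_res hξ (N.subgroupOf J) hirr0 (J'.subgroupOf J) hle
  exact ⟨hirr1, isIrrCharacter_comp_mulEquiv hirr1 (eSub hJ).symm⟩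

theorem PCan.unique (C : PCtx p M N Q₀ θ) {J : Subgroup Γ} {ξ ξ' : J → ℂ}
    (h : PCan p M N Q₀ θ J ξ) (h' : PCan p M N Q₀ θ J ξ') : ξ = ξ' := by
  obtain ⟨hNJ, hξ, hext, hS, K, hKJ, hNK, hKH, hKn, hKp, ⟨b, hb⟩, hB⟩ := h
  obtain ⟨-, hξ', hext', hS', K', hKJ', hNK', hKH', hKn', hKp', ⟨b', hb'⟩, hB'⟩ := h'
  have hKK : K = K' :=
    le_antisymm (hall_le hNK hNK' hKJ hKn' hKp hb') (hall_le hNK' hNK hKJ' hKn hKp' hb)
  subst hKK
  have hSet := setup_of_le C.hQN C.hQ hNK hKH hKp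
  have hc : IsCanon M N K θ (res hKJ ξ) :=
    ⟨(irr_res_of_ext hNK hKJ C.hθ hξ hext).2, fun x hx hj => hext x hx (hKJ hj), hB⟩
  have hc' : IsCanon M N K θ (res hKJ ξ') :=
    ⟨(irr_res_of_ext hNK hKJ C.hθ hξ' hext').2, fun x hx hj => hext' x hx (hKJ hj), hB'⟩
  have heq := isCanon_unique' C.hM N C.hθ K hNK hSet hc hc'
  -- uniqueness along the `p`-group quotient
  have hnorm : (K.subgroupOf J).Normal := hKn.normal
  obtain ⟨k₀, hk₀, hk₀p⟩ := exists_mem_expSet_not_modEq hp.out C.hp2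
    (Nat.card_pos (α := Γ)).ne'
  have hcop : ∀ k ∈ expSet p (Nat.card Γ), k.Coprime (Nat.card J) :=
    fun k hk => coprime_card_of_mem_expSet hk J
  have hηirr := (irr_res_of_ext hNK hKJ C.hθ hξ hext).1
  have hcf := isClassFunction_irr hξ
  have hηinv : ∀ (g : J) (n : K.subgroupOf J),
      (fun x : K.subgroupOf J => ξ x) ⟨g * n * g⁻¹, hnorm.conj_mem (n : J) n.2 g⟩
        = (fun x : K.subgroupOf J => ξ x) n := fun g n => hcf (n : J) g
  have hηS : ∀ k ∈ expSet p (Nat.card Γ),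
      powFn k (fun x : K.subgroupOf J => ξ x) = fun x : K.subgroupOf J => ξ x := by
    intro k hk
    funext x
    rw [powFn_apply]
    have := congrFun (hS k hk) (x : J)
    rw [powFn_apply] at this
    rw [← this]
    rfl
  have hU := existsUnique_fixed_ext_pow (p := p) (expSet p (Nat.card Γ)) hk₀ hk₀p b J
    (K.subgroupOf J) hb hcop (fun x : K.subgroupOf J => ξ x) hηirr hηinv hηS
  refine hU.unique ⟨hξ, fun _ => rfl, hS⟩ ⟨hξ', ?_, hS'⟩
  intro x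
  have := congrFun heq ⟨x, x.2⟩
  exact this

theorem PCan.res (C : PCtx p M N Q₀ θ) {J' J : Subgroup Γ} (hJ : J' ≤ J) {ξ : J → ℂ}
    (hNJ' : N ≤ J') (h : PCan p M N Q₀ θ J ξ) :
    PCan p M N Q₀ θ J' (fun x : J' => ξ ⟨x, hJ x.2⟩) := by
  obtain ⟨hNJ, hξ, hext, hS, K, hKJ, hNK, hKH, hKn, hKp, ⟨b, hb⟩, hB⟩ := h
  refine ⟨hNJ', (irr_res_of_ext hNJ' hJ C.hθ hξ hext).2, fun x hx hj => hext x hx (hJ hj), ?_,
    K ⊓ J', inf_le_right, le_inf hNK hNJ', inf_le_left.trans hKH, hKn.inf hJ, ?_,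
    relIndex_inf_pow hJ hKn hb, ?_⟩
  · intro k hk
    funext x
    rw [powFn_apply]
    have := congrFun (hS k hk) ⟨x, hJ x.2⟩
    rw [powFn_apply] at this
    rw [← this]
    rfl
  · intro hd
    apply hKp
    have h1 : N.relIndex (K ⊓ J') * (K ⊓ J').relIndex K = N.relIndex K :=
      Subgroup.relIndex_mul_relIndex _ _ _ (le_inf hNK hNJ') inf_le_left
    rw [← h1]
    exact Dvd.dvd.mul_right hd _
  · have hSet := setup_of_le C.hQN C.hQ hNK hKH hKp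
    have hc : IsCanon M N K θ (RV.res hKJ ξ) :=
      ⟨(irr_res_of_ext hNK hKJ C.hθ hξ hext).2, fun x hx hj => hext x hx (hKJ hj), hB⟩
    have hc' := isCanon_res' C.hM N C.hθ C.hprin (le_inf hNK hNJ') (inf_le_left : K ⊓ J' ≤ K)
      hSet hc
    exact hc'.2.2

end Props

end Cfsg.Agent.Lib.Helper8.PRX
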