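import Mathlib
import Cfsg.Agent.Lib.Helper8.PRX8

/-!
# The canonical `p`-rational extensions: conjugation
-/

set_option autoImplicit false

namespace Cfsg.Agent.Lib.Helper8.PRX

open Cfsg Cfsg.Agent.Lib.Helper8 Cfsg.Agent.Lib.Helper1 Cfsg.Agent.Lib.Helper4
  Cfsg.Agent.Lib.Helper8.RV Cfsg.Agent.Lib.Helper8.AD
open scoped ComplexConjugate

universe u

noncomputable local instance subFtPRX9 {G : Type u} [Group G] [Finite G] (H : Subgroup G) :
    Fintype H := Fintype.ofFinite H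

section Conj

variable {Γ : Type u} [Group Γ]

/-- Conjugation by `h`, as a monoid homomorphism. -/
abbrev cj (h : Γ) : Γ →* Γ := (MulAut.conj h).toMonoidHom

theorem cj_apply (h z : Γ) : cj h z = h * z * h⁻¹ := by
  simp [cj, MulAut.conj_apply]

theorem cj_injective (h : Γ) : Function.Injective (cj h) := (MulAut.conj h).injective

theorem mem_map_cj {J : Subgroup Γ} {h g : Γ} (hg : g ∈ J) : h * g * h⁻¹ ∈ J.map (cj h) :=
  Subgroup.mem_map.2 ⟨g, hg, cj_apply h g⟩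

theorem conj_mem_of_mem_map_cj {J : Subgroup Γ} {h y : Γ} (hy : y ∈ J.map (cj h)) :
    h⁻¹ * y * h ∈ J := by
  obtain ⟨g, hg, rfl⟩ := Subgroup.mem_map.1 hy
  rw [cj_apply]
  have : h⁻¹ * (h * g * h⁻¹) * h = g := by group
  rw [this]
  exact hg

/-- The conjugation isomorphism `J ≃* h J h⁻¹`. -/
noncomputable def conjEquiv (h : Γ) (J : Subgroup Γ) : ↥J ≃* ↥(J.map (cj h)) :=
  J.equivMapOfInjective (cj h) (cj_injective h)

theorem conjEquiv_coe (h : Γ) (J : Subgroup Γ) (x : J) :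
    ((conjEquiv h J x : J.map (cj h)) : Γ) = h * x * h⁻¹ := by
  rw [conjEquiv, Subgroup.coe_equivMapOfInjective_apply, cj_apply]

theorem conjEquiv_symm_coe (h : Γ) (J : Subgroup Γ) (y : J.map (cj h)) :
    (((conjEquiv h J).symm y : J) : Γ) = h⁻¹ * y * h := by
  have h1 := conjEquiv_coe h J ((conjEquiv h J).symm y)
  rw [MulEquiv.apply_symm_apply] at h1
  rw [h1]
  group

/-- Transport of a function along conjugation. -/
noncomputable def conjFun (h : Γ) (J : Subgroup Γ) (ξ : J → ℂ) : ↥(J.map (cj h)) → ℂ :=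
  fun y => ξ ((conjEquiv h J).symm y)

theorem conjFun_eq (h : Γ) (J : Subgroup Γ) (ξ : J → ℂ) (y : J.map (cj h)) :
    conjFun h J ξ y = ξ ⟨h⁻¹ * y * h, conj_mem_of_mem_map_cj y.2⟩ := by
  unfold conjFun
  congr 1
  exact Subtype.ext (conjEquiv_symm_coe h J y)

theorem conjFun_apply (h : Γ) (J : Subgroup Γ) (ξ : J → ℂ) (g : Γ) (hg : g ∈ J)
    (hg' : h * g * h⁻¹ ∈ J.map (cj h)) : conjFun h J ξ ⟨h * g * h⁻¹, hg'⟩ = ξ ⟨g, hg⟩ := by
  rw [conjFun_eq]
  congr 1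
  apply Subtype.ext
  show h⁻¹ * (h * g * h⁻¹) * h = g
  group

theorem isIrrCharacter_conjFun (h : Γ) (J : Subgroup Γ) {ξ : J → ℂ} (hξ : IsIrrCharacter J ξ) :
    IsIrrCharacter (J.map (cj h)) (conjFun h J ξ) :=
  isIrrCharacter_comp_mulEquiv hξ (conjEquiv h J).symm

theorem sameBlock_conjFun {M : Ideal AlgInt} (h : Γ) (J : Subgroup Γ) {ξ : J → ℂ}
    (hξ : SameBlock M (fun _ : J => (1 : ℂ)) ξ) :
    SameBlock M (fun _ : J.map (cj h) => (1 : ℂ)) (conjFun h J ξ) :=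
  sameBlock_comp_mulEquiv (conjEquiv h J).symm hξ

theorem powFn_conjFun (h : Γ) (J : Subgroup Γ) (ξ : J → ℂ) (k : ℕ) :
    powFn k (conjFun h J ξ) = conjFun h J (powFn k ξ) := by
  funext y
  rw [powFn_apply]
  unfold conjFun
  rw [map_pow, powFn_apply]

theorem res_conjFun (h : Γ) {K J : Subgroup Γ} (hKJ : K ≤ J) (ξ : J → ℂ) :
    (fun y : K.map (cj h) => conjFun h J ξ ⟨y, Subgroup.map_mono hKJ y.2⟩)
      = conjFun h K (fun x : K => ξ ⟨x, hKJ x.2⟩) := by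
  funext y
  rw [conjFun_eq, conjFun_eq]

theorem map_cj_eq_of_normal (h : Γ) (N : Subgroup Γ) [hN : N.Normal] : N.map (cj h) = N := by
  ext x
  constructor
  · intro hx
    obtain ⟨g, hg, rfl⟩ := Subgroup.mem_map.1 hx
    rw [cj_apply]
    exact hN.conj_mem g hg h
  · intro hx
    refine Subgroup.mem_map.2 ⟨h⁻¹ * x * h, ?_, ?_⟩
    · have := hN.conj_mem x hx h⁻¹
      rwa [inv_inv] at this
    · rw [cj_apply]; group

theorem NormalIn.map_cj {K J : Subgroup Γ} (hn : NormalIn K J) (h : Γ) :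
    NormalIn (K.map (cj h)) (J.map (cj h)) := by
  intro j hj x hx
  obtain ⟨j', hj', rfl⟩ := Subgroup.mem_map.1 hj
  obtain ⟨x', hx', rfl⟩ := Subgroup.mem_map.1 hx
  refine Subgroup.mem_map.2 ⟨j' * x' * j'⁻¹, hn j' hj' x' hx', ?_⟩
  rw [map_mul, map_mul, map_inv]

end Conj

section PConj

variable {Γ : Type u} [Group Γ] [Finite Γ] {p : ℕ} [hp : Fact p.Prime] {M : Ideal AlgInt}
  {N Q₀ : Subgroup Γ} [hN : N.Normal] {θ : N → ℂ}

omit [Finite Γ] hp in
theorem PCan.conjg (C : PCtx p M N Q₀ θ) (h : Γ) {J : Subgroup Γ} {ξ : J → ℂ}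
    (hc : PCan p M N Q₀ θ J ξ) :
    ∃ ξ' : (J.map (MulAut.conj h).toMonoidHom) → ℂ,
      PCan p M N Q₀ θ (J.map (MulAut.conj h).toMonoidHom) ξ' ∧
      ∀ (g : Γ) (hg : g ∈ J) (hg' : h * g * h⁻¹ ∈ J.map (MulAut.conj h).toMonoidHom),
        ξ' ⟨h * g * h⁻¹, hg'⟩ = ξ ⟨g, hg⟩ := by
  obtain ⟨hNJ, hξ, hext, hS, K, hKJ, hNK, hKH, hKn, hKp, ⟨b, hb⟩, hB⟩ := hc
  have hHn := C.hHn
  refine ⟨conjFun h J ξ, ⟨?_, isIrrCharacter_conjFun h J hξ, ?_, ?_, K.map (cj h),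
    Subgroup.map_mono hKJ, ?_, ?_, hKn.map_cj h, ?_, ⟨b, ?_⟩, ?_⟩,
    fun g hg hg' => conjFun_apply h J ξ g hg hg'⟩
  · rw [← map_cj_eq_of_normal h N]
    exact Subgroup.map_mono hNJ
  · intro x hx hj
    rw [conjFun_eq]
    have hx' : h⁻¹ * x * h ∈ N := by
      have := hN.conj_mem x hx h⁻¹
      rwa [inv_inv] at this
    rw [hext _ hx' _]
    exact C.hinv h ⟨x, hx⟩ ⟨h⁻¹ * x * h, hx'⟩ rfl
  · intro k hk
    rw [powFn_conjFun, hS k hk]
  · rw [← map_cj_eq_of_normal h N]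
    exact Subgroup.map_mono hNK
  · intro y hy
    obtain ⟨x, hx, rfl⟩ := Subgroup.mem_map.1 hy
    rw [cj_apply]
    exact hHn.conj_mem x (hKH hx) h
  · have h1 : N.relIndex (K.map (cj h)) = N.relIndex K := by
      conv_lhs => rw [← map_cj_eq_of_normal h N]
      exact Subgroup.relIndex_map_map_of_injective N K (cj_injective h)
    rw [h1]
    exact hKp
  · rw [← hb]
    exact Subgroup.relIndex_map_map_of_injective K J (cj_injective h)
  · have h1 := res_conjFun h hKJ ξ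
    have h2 := sameBlock_conjFun (M := M) h K hB
    have h3 : RV.res (Subgroup.map_mono hKJ) (conjFun h J ξ)
        = conjFun h K (RV.res hKJ ξ) := h1
    rw [h3]
    exact h2

end PConj

end Cfsg.Agent.Lib.Helper8.PRX
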