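import Mathlib
import Cfsg.Agent.Lib.Helper8.PRX9

/-!
# The canonical `p`-rational extensions: existence over nilpotent sections
-/

set_option autoImplicit false

namespace Cfsg.Agent.Lib.Helper8.PRX

open Cfsg Cfsg.Agent.Lib.Helper8 Cfsg.Agent.Lib.Helper1 Cfsg.Agent.Lib.Helper4
  Cfsg.Agent.Lib.Helper8.RV Cfsg.Agent.Lib.Helper8.AD
open scoped ComplexConjugate

universe u

noncomputable local instance subFtPRX10 {G : Type u} [Group G] [Finite G] (H : Subgroup G) :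
    Fintype H := Fintype.ofFinite H

section Ex

variable {Γ : Type u} [Group Γ]

theorem map_cj_eq_of_normalIn {K J : Subgroup Γ} (hn : NormalIn K J) {j : Γ} (hj : j ∈ J) :
    K.map (cj j) = K := by
  ext x
  constructor
  · intro hx
    obtain ⟨g, hg, rfl⟩ := Subgroup.mem_map.1 hx
    rw [cj_apply]
    exact hn j hj g hg
  · intro hx
    refine Subgroup.mem_map.2 ⟨j⁻¹ * x * j, ?_, ?_⟩
    · have := hn j⁻¹ (J.inv_mem hj) x hx
      rwa [inv_inv] at this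
    · rw [cj_apply]; group

/-- `N E'` is normal in `N E` when `E'` is normal in `E`. -/
theorem normalIn_sup {N E E' : Subgroup Γ} [hN : N.Normal]
    (hn : ∀ e ∈ E, ∀ x ∈ E', e * x * e⁻¹ ∈ E') : NormalIn (N ⊔ E') (N ⊔ E) := by
  intro j hj x hx
  obtain ⟨n, hn', e, he, rfl⟩ := Subgroup.mem_sup_of_normal_left.1 hj
  obtain ⟨n', hn'', e', he', rfl⟩ := Subgroup.mem_sup_of_normal_left.1 hx
  have h1 : n * e * (n' * e') * (n * e)⁻¹ = n * ((e * n' * e⁻¹) * (e * e' * e⁻¹)) * n⁻¹ := by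
    group
  rw [h1]
  have hnK : n ∈ N ⊔ E' := (le_sup_left : N ≤ N ⊔ E') hn'
  have h2 : (e * n' * e⁻¹) * (e * e' * e⁻¹) ∈ N ⊔ E' :=
    Subgroup.mul_mem_sup (hN.conj_mem n' hn'' e) (hn e he e' he')
  exact (N ⊔ E').mul_mem ((N ⊔ E').mul_mem hnK h2) ((N ⊔ E').inv_mem hnK)

end Ex

section PEx

variable {Γ : Type u} [Group Γ] [Finite Γ] {p : ℕ} [hp : Fact p.Prime] {M : Ideal AlgInt}
  {N Q₀ : Subgroup Γ} [hN : N.Normal] {θ : N → ℂ}

theorem PCan.exists_nil (C : PCtx p M N Q₀ θ) (E : Subgroup Γ) (hE : Group.IsNilpotent E) :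
    ∃ ξ : ↥(N ⊔ E) → ℂ, PCan p M N Q₀ θ (N ⊔ E) ξ := by
  classical
  have hHn := C.hHn
  obtain ⟨a, hHidx⟩ := C.hHidx
  obtain ⟨E₀, hE₀n, hE₀p, b, hE₀b⟩ := exists_normal_hall (p := p) ↥E
  set E' : Subgroup Γ := E₀.map E.subtype with hE'def
  have hE'E : E' ≤ E := Subgroup.map_subtype_le E₀
  have hE'card : Nat.card E' = Nat.card E₀ :=
    (Nat.card_congr (E₀.equivMapOfInjective E.subtype E.subtype_injective).toEquiv).symm
  have hE'p : ¬ p ∣ Nat.card E' := by rw [hE'card]; exact hE₀p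
  have hE'idx : E'.relIndex E = p ^ b := by
    show ((E₀.map E.subtype).comap E.subtype).index = p ^ b
    rw [Subgroup.comap_map_eq_self_of_injective E.subtype_injective]
    exact hE₀b
  have hE'n : ∀ e ∈ E, ∀ x ∈ E', e * x * e⁻¹ ∈ E' := by
    intro e he x hx
    obtain ⟨x₀, hx₀, rfl⟩ := Subgroup.mem_map.1 hx
    refine Subgroup.mem_map.2 ⟨⟨e, he⟩ * x₀ * ⟨e, he⟩⁻¹, hE₀n.conj_mem x₀ hx₀ ⟨e, he⟩, rfl⟩
  set J : Subgroup Γ := N ⊔ E with hJdef
  set K : Subgroup Γ := N ⊔ E' with hKdef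
  have hNK : N ≤ K := le_sup_left
  have hNJ : N ≤ J := le_sup_left
  have hKJ : K ≤ J := sup_le_sup_left hE'E N
  have hKH : K ≤ N ⊔ Subgroup.centralizer (Q₀ : Set Γ) :=
    sup_le le_sup_left (le_of_not_dvd_card hHidx hE'p)
  have hKn : NormalIn K J := normalIn_sup hE'n
  have hKp : ¬ p ∣ N.relIndex K := by
    rw [hKdef, Subgroup.relIndex_sup_left]
    intro hd
    exact hE'p (hd.trans (Subgroup.relIndex_dvd_card N E'))
  have hKb : ∃ b' : ℕ, K.relIndex J = p ^ b' := by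
    have hnorm : (K.subgroupOf J).Normal := hKn.normal
    have hEJ : E ≤ J := le_sup_right
    have htop : K.subgroupOf J ⊔ E.subgroupOf J = ⊤ := by
      rw [eq_top_iff]
      intro x _
      obtain ⟨n, hn, e, he, hx⟩ := Subgroup.mem_sup_of_normal_left.1 x.2
      have hx' : x = (⟨n, hNJ hn⟩ : J) * ⟨e, hEJ he⟩ := Subtype.ext hx.symm
      rw [hx']
      exact Subgroup.mul_mem_sup (hNK hn) he
    have h1 : K.relIndex J = K.relIndex E := by
      have h2 := Subgroup.relIndex_sup_left (E.subgroupOf J) (K.subgroupOf J)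
      rw [htop, Subgroup.relIndex_top_right, Subgroup.relIndex_subgroupOf hEJ] at h2
      exact h2
    have h3 : K.relIndex E ∣ p ^ b := by
      rw [← hE'idx]
      exact Subgroup.relIndex_dvd_of_le_left E (le_sup_right : E' ≤ K)
    obtain ⟨j, -, hj⟩ := (Nat.dvd_prime_pow hp.out).1 h3
    exact ⟨j, by rw [h1, hj]⟩
  obtain ⟨b', hb'⟩ := hKb
  have hSet := setup_of_le C.hQN C.hQ hNK hKH hKp
  obtain ⟨ξK, hcK⟩ := exists_isCanon' C.hM N C.hθ C.hprin K hNK hSet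
  -- Galois stability of `ξK`
  have hKS : ∀ k ∈ expSet p (Nat.card Γ), powFn k ξK = ξK := by
    intro k hk
    exact isCanon_unique' C.hM N C.hθ K hNK hSet hcK
      (isCanon_powFn hcK (coprime_card_of_mem_expSet hk K) (C.hfix k hk))
  -- invariance of `ξK` in `J`
  have hKinv : ∀ (j : Γ) (hj : j ∈ J) (g : Γ) (hg : g ∈ K),
      ξK ⟨j * g * j⁻¹, hKn j hj g hg⟩ = ξK ⟨g, hg⟩ := by
    intro j hj g hg
    obtain ⟨ξ', hc', -, hval⟩ := isCanon_conj N j (C.hinv j) hNK hcK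
    have hmap : K.map (MulAut.conj j).toMonoidHom = K := map_cj_eq_of_normalIn hKn hj
    have hc'' := isCanon_cast hmap hc'
    have heq := isCanon_unique' C.hM N C.hθ K hNK hSet hcK hc''
    have h1 := congrFun heq ⟨j * g * j⁻¹, hKn j hj g hg⟩
    simp only at h1
    rw [← h1]
    exact hval g hg _
  -- extend along the `p`-group quotient
  have hnorm : (K.subgroupOf J).Normal := hKn.normal
  obtain ⟨k₀, hk₀, hk₀p⟩ := exists_mem_expSet_not_modEq hp.out C.hp2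
    (Nat.card_pos (α := Γ)).ne'
  have hcop : ∀ k ∈ expSet p (Nat.card Γ), k.Coprime (Nat.card J) :=
    fun k hk => coprime_card_of_mem_expSet hk J
  set η : K.subgroupOf J → ℂ := fun a => ξK (eSub hKJ a) with hηdef
  have hηirr : IsIrrCharacter (K.subgroupOf J) η := isIrrCharacter_comp_mulEquiv hcK.1 (eSub hKJ)
  have hηinv : ∀ (g : J) (n : K.subgroupOf J),
      η ⟨g * n * g⁻¹, hnorm.conj_mem (n : J) n.2 g⟩ = η n := by
    intro g n
    exact hKinv (g : Γ) g.2 ((n : J) : Γ) n.2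
  have hηS : ∀ k ∈ expSet p (Nat.card Γ), powFn k η = η := by
    intro k hk
    funext x
    rw [powFn_apply, hηdef]
    simp only
    rw [map_pow]
    exact congrFun (hKS k hk) (eSub hKJ x)
  obtain ⟨ξ, ⟨hξ, hξη, hξS⟩, -⟩ := existsUnique_fixed_ext_pow (p := p) (expSet p (Nat.card Γ))
    hk₀ hk₀p b' J (K.subgroupOf J) hb' hcop η hηirr hηinv hηS
  have hresK : RV.res hKJ ξ = ξK := by
    funext x
    exact hξη ⟨⟨x, hKJ x.2⟩, x.2⟩
  refine ⟨ξ, hNJ, hξ, ?_, hξS, K, hKJ, hNK, hKH, hKn, hKp, ⟨b', hb'⟩, ?_⟩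
  · intro x hx hj
    have h1 := congrFun hresK ⟨x, hNK hx⟩
    have h2 : ξ ⟨x, hj⟩ = ξK ⟨x, hNK hx⟩ := h1
    rw [h2]
    exact hcK.2.1 x hx (hNK hx)
  · rw [hresK]
    exact hcK.2.2

end PEx

end Cfsg.Agent.Lib.Helper8.PRX
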