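import Mathlib
import Cfsg.Agent.Lib.Helper8.PRX10
import Cfsg.Agent.Lib.Helper8.Cover3

/-!
# The `p`-rational extension theorem
-/

set_option autoImplicit false
set_option linter.unusedSectionVars false

namespace Cfsg.Agent.Lib.Helper8.PRX

open Cfsg Cfsg.Agent.Lib.Helper8 Cfsg.Agent.Lib.Helper1 Cfsg.Agent.Lib.Helper4
  Cfsg.Agent.Lib.Helper8.RV Cfsg.Agent.Lib.Helper8.AD
open scoped ComplexConjugate

universe u

noncomputable local instance subFtPRX11 {G : Type u} [Group G] [Finite G] (H : Subgroup G) :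
    Fintype H := Fintype.ofFinite H

section Idx

variable {Γ : Type u} [Group Γ] [Finite Γ]

theorem card_mul_relIndex_of_le {H K : Subgroup Γ} (h : H ≤ K) :
    Nat.card H * H.relIndex K = Nat.card K := by
  have := Subgroup.relIndex_mul_relIndex ⊥ H K bot_le h
  rwa [Subgroup.relIndex_bot_left, Subgroup.relIndex_bot_left] at this

/-- `|N A : A| = |N : N ∩ A|` for `N` normal. -/
theorem relIndex_sup_of_normal (N A : Subgroup Γ) [N.Normal] :
    A.relIndex (N ⊔ A) = A.relIndex N := by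
  have h1 := card_mul_relIndex_of_le (le_sup_left : N ≤ N ⊔ A)
  rw [Subgroup.relIndex_sup_left] at h1
  have h3 := card_mul_relIndex_of_le (le_sup_right : A ≤ N ⊔ A)
  have h4 := card_mul_relIndex_of_le (inf_le_right : N ⊓ A ≤ A)
  rw [Subgroup.inf_relIndex_right] at h4
  have h5 := card_mul_relIndex_of_le (inf_le_left : N ⊓ A ≤ N)
  rw [Subgroup.inf_relIndex_left] at h5
  have ha : 0 < Nat.card ↥(N ⊓ A) := Nat.card_pos
  have hA : 0 < Nat.card ↥A := Nat.card_pos
  have hr : 0 < N.relIndex A := by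
    rcases Nat.eq_zero_or_pos (N.relIndex A) with h | h
    · rw [h, mul_zero] at h4
      omega
    · exact h
  have h6 : Nat.card ↥(N ⊓ A) * N.relIndex A * A.relIndex (N ⊔ A)
      = Nat.card ↥(N ⊓ A) * N.relIndex A * A.relIndex N := by
    calc Nat.card ↥(N ⊓ A) * N.relIndex A * A.relIndex (N ⊔ A)
        = Nat.card ↥A * A.relIndex (N ⊔ A) := by rw [h4]
      _ = Nat.card ↥(N ⊔ A) := h3
      _ = Nat.card ↥N * N.relIndex A := h1.symm
      _ = Nat.card ↥(N ⊓ A) * A.relIndex N * N.relIndex A := by rw [h5]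
      _ = Nat.card ↥(N ⊓ A) * N.relIndex A * A.relIndex N := by ring
  exact Nat.eq_of_mul_eq_mul_left (Nat.mul_pos ha hr) h6

omit [Finite Γ] in
theorem centralizer_subtype (J : Subgroup Γ) (g : Γ) (hg : g ∈ J) :
    Subgroup.centralizer ({(⟨g, hg⟩ : J)} : Set J)
      = (Subgroup.centralizer ({g} : Set Γ)).subgroupOf J := by
  ext x
  rw [Subgroup.mem_subgroupOf, Subgroup.mem_centralizer_iff, Subgroup.mem_centralizer_iff]
  constructor
  · intro h y hy
    rw [Set.mem_singleton_iff] at hy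
    subst hy
    have := h ⟨y, hg⟩ (Set.mem_singleton _)
    exact congrArg Subtype.val this
  · intro h y hy
    rw [Set.mem_singleton_iff] at hy
    subst hy
    apply Subtype.ext
    exact h g (Set.mem_singleton _)

/-- The class size in `N⟨g⟩` divides the class size in `Γ`. -/
theorem index_centralizer_dvd (N : Subgroup Γ) [N.Normal] {J : Subgroup Γ} (hNJ : N ≤ J)
    (g : Γ) (hg : g ∈ J)
    (hJ : J ≤ N ⊔ (Subgroup.centralizer ({g} : Set Γ) ⊓ J)) :
    (Subgroup.centralizer ({(⟨g, hg⟩ : J)} : Set J)).index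
      ∣ (Subgroup.centralizer ({g} : Set Γ)).index := by
  set C := Subgroup.centralizer ({g} : Set Γ) with hC
  rw [centralizer_subtype J g hg]
  show C.relIndex J ∣ C.index
  have h1 := relIndex_sup_of_normal N (C ⊓ J)
  have h2 : N ⊔ (C ⊓ J) = J := le_antisymm (sup_le hNJ inf_le_right) hJ
  rw [h2, Subgroup.inf_relIndex_right] at h1
  have h3 : (C ⊓ J).relIndex N = C.relIndex N := by
    rw [← Subgroup.inf_relIndex_right (C ⊓ J) N, inf_assoc, inf_of_le_right hNJ,
      Subgroup.inf_relIndex_right]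
  rw [h3] at h1
  have h4 := relIndex_sup_of_normal N C
  have h5 : C.relIndex (N ⊔ C) * (N ⊔ C).index = C.index :=
    Subgroup.relIndex_mul_index le_sup_right
  rw [h1, ← h4, ← h5]
  exact Dvd.intro _ rfl

end Idx

section Prin

variable {G : Type u} [Group G] [Finite G] {p : ℕ} [hp : Fact p.Prime] {M : Ideal AlgInt}

/-- An irreducible character restricting irreducibly into the principal block of a normal
subgroup of `p`-power index lies in the principal block. -/
theorem principal_of_res_principal (hM : IsPModular p M) (L : Subgroup G) [L.Normal]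
    (hidx : ∃ b : ℕ, L.index = p ^ b) {χ : G → ℂ} (hχ : IsIrrCharacter G χ)
    (hχL : IsIrrCharacter L (fun x : L => χ x))
    (hB : SameBlock M (fun _ : L => (1 : ℂ)) (fun x : L => χ x)) :
    SameBlock M (fun _ : G => (1 : ℂ)) χ := by
  classical
  have : Fintype G := Fintype.ofFinite G
  have hMt := isPModular_ne_top hM
  have h1G : IsIrrCharacter G (fun _ : G => (1 : ℂ)) := by
    simpa using isIrrCharacter_of_hom (1 : G →* ℂˣ)
  have h1L : IsIrrCharacter L (fun _ : L => (1 : ℂ)) := by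
    simpa using isIrrCharacter_of_hom (1 : L →* ℂˣ)
  have hcov : Covers L (principalBlock M G) (principalBlock M L) := by
    refine ⟨⟨fun _ => (1 : ℂ), h1G⟩, sameBlock_refl hMt _, ⟨fun _ => (1 : ℂ), h1L⟩,
      sameBlock_refl hMt _, ?_⟩
    show classInner (fun _ : L => (1 : ℂ)) (fun _ : L => (1 : ℂ)) ≠ 0
    rw [classInner_irr_self h1L]
    exact one_ne_zero
  have hcov' : Covers L (blockOf M χ) (principalBlock M L) := by
    refine ⟨⟨χ, hχ⟩, sameBlock_refl hMt _, ⟨fun x : L => χ x, hχL⟩, hB, ?_⟩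
    show classInner (fun x : L => χ x) (fun x : L => χ x) ≠ 0
    rw [classInner_irr_self hχL]
    exact one_ne_zero
  have heq := covers_unique_of_index L hM hidx (AD.isPBlock_principalBlock G)
    ⟨⟨χ, hχ⟩, rfl⟩ (AD.isPBlock_principalBlock L) hcov hcov'
  have hmem : (⟨χ, hχ⟩ : IrrCharacter G) ∈ blockOf M χ := sameBlock_refl hMt _
  rw [← heq] at hmem
  exact hmem

end Prin

section Main

variable {Γ : Type u} [Group Γ] [Finite Γ] {p : ℕ} [hp : Fact p.Prime] {M : Ideal AlgInt}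
  {N Q₀ : Subgroup Γ} [hN : N.Normal] {θ : N → ℂ}

theorem glue_of_ctx (C : PCtx p M N Q₀ θ) : Glue N θ (PCan p M N Q₀ θ) where
  le := fun h => h.1
  irr := fun h => h.2.1
  ext := fun h => h.2.2.1
  unique := fun h h' => PCan.unique C h h'
  res := fun hJ _ hNJ' h => PCan.res C hJ hNJ' h
  conjg := fun h _ _ hc => PCan.conjg C h hc
  exists_nil := fun E hE => PCan.exists_nil C E hE

/-- A canonical extension lies in the principal block. -/
theorem PCan.principal (C : PCtx p M N Q₀ θ) {J : Subgroup Γ} {ξ : J → ℂ}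
    (h : PCan p M N Q₀ θ J ξ) : SameBlock M (fun _ : J => (1 : ℂ)) ξ := by
  obtain ⟨hNJ, hξ, hext, hS, K, hKJ, hNK, hKH, hKn, hKp, ⟨b, hb⟩, hB⟩ := h
  have hnorm : (K.subgroupOf J).Normal := hKn.normal
  refine principal_of_res_principal C.hM (K.subgroupOf J) ⟨b, hb⟩ hξ
    (irr_res_of_ext hNK hKJ C.hθ hξ hext).1 ?_
  exact sameBlock_comp_mulEquiv (M := M) (eSub hKJ) hB

/-- **The `p`-rational extension theorem.** -/
theorem exists_prational_ext (C : PCtx p M N Q₀ θ) :
    ∃ Θ : Γ → ℂ, IsIrrCharacter Γ Θ ∧ (∀ x : N, Θ x = θ x) ∧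
      (∀ k ∈ expSet p (Nat.card Γ), powFn k Θ = Θ) ∧
      SameBlock M (fun _ : Γ => (1 : ℂ)) Θ := by
  classical
  have G := glue_of_ctx C
  obtain ⟨Θ, hΘ, hΘθ, hΘc⟩ := G.exists_irr C.hθ
  have hMp := isPModular_isPrime C.hM
  have hMt := isPModular_ne_top C.hM
  -- the canonical extension to `N⟨g⟩`
  have hloc : ∀ g : Γ, ∃ (J : Subgroup Γ) (ξ : J → ℂ) (hg : g ∈ J), PCan p M N Q₀ θ J ξ ∧
      J ≤ N ⊔ (Subgroup.centralizer ({g} : Set Γ) ⊓ J) := by
    intro g
    have hnil : Group.IsNilpotent (Subgroup.zpowers g) := by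
      have hc : IsCyclic (Subgroup.zpowers g) := inferInstance
      let _ : CommGroup (Subgroup.zpowers g) := hc.commGroup
      exact CommGroup.isNilpotent
    obtain ⟨ξ, hξ⟩ := PCan.exists_nil C (Subgroup.zpowers g) hnil
    have hg : g ∈ N ⊔ Subgroup.zpowers g :=
      (le_sup_right : Subgroup.zpowers g ≤ N ⊔ Subgroup.zpowers g) (Subgroup.mem_zpowers g)
    refine ⟨_, ξ, hg, hξ, ?_⟩
    refine sup_le_sup_left (le_inf ?_ le_sup_right) N
    rw [Subgroup.zpowers_le]
    rw [Subgroup.mem_centralizer_iff]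
    intro y hy
    rw [Set.mem_singleton_iff] at hy
    rw [hy]
  refine ⟨Θ, hΘ, hΘθ, ?_, ?_⟩
  · intro k hk
    funext g
    obtain ⟨J, ξ, hg, hc, -⟩ := hloc g
    rw [powFn_apply, hΘc J ξ hc g hg, hΘc J ξ hc (g ^ k) (J.pow_mem hg k)]
    have := congrFun (hc.2.2.2.1 k hk) ⟨g, hg⟩
    rw [powFn_apply] at this
    exact this
  · intro g
    obtain ⟨J, ξ, hg, hc, hJ⟩ := hloc g
    have hNJ : N ≤ J := hc.1
    have hB := PCan.principal C hc ⟨g, hg⟩
    obtain ⟨t, ht⟩ := index_centralizer_dvd N hNJ g hg hJ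
    have h1 : Θ g = ξ ⟨g, hg⟩ := hΘc J ξ hc g hg
    have h2 : Θ 1 = ξ 1 := hΘc J ξ hc 1 J.one_mem
    unfold centralChar at hB ⊢
    rw [h1, h2, ht]
    have h3 : ((fun _ : Γ => (1 : ℂ)) g) = 1 := rfl
    have h4 : ((fun _ : Γ => (1 : ℂ)) 1) = 1 := rfl
    simp only [Nat.cast_mul] at hB ⊢
    have h5 : ((Subgroup.centralizer ({(⟨g, hg⟩ : J)} : Set J)).index : ℂ) * (t : ℂ) * 1 / 1
        - ((Subgroup.centralizer ({(⟨g, hg⟩ : J)} : Set J)).index : ℂ) * (t : ℂ) * ξ ⟨g, hg⟩ / ξ 1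
        = (t : ℂ) * (((Subgroup.centralizer ({(⟨g, hg⟩ : J)} : Set J)).index : ℂ) * 1 / 1
          - ((Subgroup.centralizer ({(⟨g, hg⟩ : J)} : Set J)).index : ℂ) * ξ ⟨g, hg⟩ / ξ 1) := by
      ring
    rw [h5]
    exact memLocalIdeal_mul_left hMp (memLocalRing_natCast hMt t) hB

end Main

end Cfsg.Agent.Lib.Helper8.PRX
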