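import Mathlib

/-!
# `N C_G(Q)` is normal for a Sylow subgroup `Q` of a normal subgroup `N` (Frattini)
-/

set_option autoImplicit false

namespace Cfsg.Agent.Lib.Helper8.PRX

universe u

open Pointwise

variable {Γ : Type u} [Group Γ] [Finite Γ] {p : ℕ} [hp : Fact p.Prime]

theorem normal_sup_centralizer_sylow (N : Subgroup Γ) [hN : N.Normal] (Q : Sylow p N) :
    (N ⊔ Subgroup.centralizer ((((Q : Subgroup N).map N.subtype : Subgroup Γ)) : Set Γ)).Normal := by
  set Q₀ : Subgroup Γ := (Q : Subgroup N).map N.subtype with hQ₀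
  set H := N ⊔ Subgroup.centralizer (Q₀ : Set Γ) with hH
  have key : ∀ (g c : Γ), c ∈ Subgroup.centralizer (Q₀ : Set Γ) → g * c * g⁻¹ ∈ H := by
    intro g c hc
    obtain ⟨n, hn⟩ := MulAction.exists_smul_eq N ((MulAut.conjNormal g⁻¹ : MulAut N) • Q) Q
    set m : Γ := (n : Γ) * g⁻¹ with hm
    have hmQ : ∀ y ∈ Q₀, m * y * m⁻¹ ∈ Q₀ := by
      intro y hy
      obtain ⟨q, hq, rfl⟩ := Subgroup.mem_map.1 hy
      have h1 : (MulAut.conjNormal g⁻¹ : MulAut N) • q
          ∈ (MulAut.conjNormal g⁻¹ : MulAut N) • (Q : Subgroup N) :=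
        Subgroup.smul_mem_pointwise_smul q _ _ hq
      have h2 : MulAut.conj n • ((MulAut.conjNormal g⁻¹ : MulAut N) • q)
          ∈ MulAut.conj n • ((MulAut.conjNormal g⁻¹ : MulAut N) • (Q : Subgroup N)) :=
        Subgroup.smul_mem_pointwise_smul _ _ _ h1
      have h3 : MulAut.conj n • ((MulAut.conjNormal g⁻¹ : MulAut N) • (Q : Subgroup N))
          = (Q : Subgroup N) := by
        have := congrArg (fun P : Sylow p N => (P : Subgroup N)) hn
        exact this
      rw [h3] at h2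
      refine Subgroup.mem_map.2 ⟨_, h2, ?_⟩
      rw [MulAut.smul_def, MulAut.smul_def, MulAut.conj_apply]
      simp only [Subgroup.coe_subtype, Subgroup.coe_mul, Subgroup.coe_inv,
        MulAut.conjNormal_apply, hm]
      group
    set d : Γ := m⁻¹ * c * m with hd
    have hdC : d ∈ Subgroup.centralizer (Q₀ : Set Γ) := by
      rw [Subgroup.mem_centralizer_iff]
      intro y hy
      have hz := hmQ y hy
      have hcz := Subgroup.mem_centralizer_iff.1 hc _ hz
      rw [hd]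
      calc y * (m⁻¹ * c * m) = m⁻¹ * ((m * y * m⁻¹) * c) * m := by group
        _ = m⁻¹ * (c * (m * y * m⁻¹)) * m := by rw [hcz]
        _ = m⁻¹ * c * m * y := by group
    have hgn : g * (n : Γ) * g⁻¹ ∈ N := hN.conj_mem n n.2 g
    have hgn' : g * (n : Γ)⁻¹ * g⁻¹ ∈ N := hN.conj_mem _ (N.inv_mem n.2) g
    have heq : g * c * g⁻¹ = (g * (n : Γ) * g⁻¹) * d * (g * (n : Γ)⁻¹ * g⁻¹) := by
      rw [hd, hm]
      group
    rw [heq]
    exact H.mul_mem (H.mul_mem ((le_sup_left : N ≤ H) hgn) ((le_sup_right : _ ≤ H) hdC))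
      ((le_sup_left : N ≤ H) hgn')
  constructor
  intro x hx g
  obtain ⟨a, ha, c, hc, rfl⟩ := Subgroup.mem_sup_of_normal_left.1 hx
  have : g * (a * c) * g⁻¹ = (g * a * g⁻¹) * (g * c * g⁻¹) := by group
  rw [this]
  exact H.mul_mem ((le_sup_left : N ≤ H) (hN.conj_mem a ha g)) (key g c hc)

end Cfsg.Agent.Lib.Helper8.PRX
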