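import Mathlib
import Cfsg.Prelude.Def_Blocks
import Cfsg.Agent.S0174
import Cfsg.Agent.S0187
import Cfsg.Agent.Lib.Helper1.LinearChar

/-!
# `χ(g)^(p^n) ≡ χ(g^(p^n))` modulo `p`
-/

set_option autoImplicit false

namespace Cfsg.Agent.Lib.Helper8

open Cfsg Cfsg.Agent.Lib.Helper1 Cfsg.Agent.Lib.Helper4
open scoped ComplexConjugate

universe u

theorem sum_pow_sub_mem_span {R : Type*} [CommRing R] {p : ℕ} (hp : p.Prime) (n : ℕ)
    {ι : Type*} (s : Finset ι) (f : ι → R) :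
    (∑ i ∈ s, f i) ^ (p ^ n) - ∑ i ∈ s, f i ^ (p ^ n) ∈ Ideal.span {(p : R)} := by
  rw [← Ideal.Quotient.eq_zero_iff_mem, map_sub, map_pow, map_sum, map_sum]
  simp only [map_pow]
  rcases subsingleton_or_nontrivial (R ⧸ Ideal.span {(p : R)}) with h | h
  · exact Subsingleton.elim _ _
  · haveI : Fact p.Prime := ⟨hp⟩
    haveI : CharP (R ⧸ Ideal.span {(p : R)}) p := by
      rw [CharP.charP_iff_prime_eq_zero hp]
      have : ((p : R ⧸ Ideal.span {(p : R)})) = Ideal.Quotient.mk _ (p : R) := by simp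
      rw [this, Ideal.Quotient.eq_zero_iff_mem]
      exact Ideal.mem_span_singleton_self _
    rw [sum_pow_char_pow, sub_self]

section

variable {G : Type u} [Group G] [Finite G]

/-- Values of a character on the powers of an element: power sums of roots of unity. -/
theorem exists_power_sum_expansion {χ : G → ℂ} (hχ : IsCharacter G χ) (g : G) :
    ∃ (ι : Type u) (_ : Fintype ι) (m : ι → ℕ) (a : ι → AlgInt),
      ∀ k : ℕ, χ (g ^ k) = ∑ i, (m i : ℂ) * (a i : ℂ) ^ k := by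
  classical
  set A := Subgroup.zpowers g with hA
  haveI : Fintype A := Fintype.ofFinite _
  haveI : Fintype (IrrCharacter A) := Fintype.ofFinite _
  have hres : IsCharacter A (fun a : A => χ a) := Cfsg.Agent.S0148.isCharacter_restrict A hχ
  have hexp := class_function_expansion _ (isClassFunction_of_isCharacter hres)
  have hm : ∀ φ : IrrCharacter A, ∃ m : ℕ, classInner (fun a : A => χ a) φ = m := fun φ =>
    classInner_char_irr_nat hres φ.2
  choose m hm using hm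
  have hcomm : ∀ a b : A, a * b = b * a := by
    intro a b
    obtain ⟨i, hi⟩ := Subgroup.mem_zpowers_iff.1 a.2
    obtain ⟨j, hj⟩ := Subgroup.mem_zpowers_iff.1 b.2
    apply Subtype.ext
    rw [Subgroup.coe_mul, Subgroup.coe_mul, ← hi, ← hj, ← zpow_add, ← zpow_add, add_comm]
  have hdeg : ∀ φ : IrrCharacter A, (φ : A → ℂ) 1 = 1 := (Cfsg.Agent.S0187.result).1 hcomm
  have hhom : ∀ φ : IrrCharacter A, ∃ ψ : A →* ℂˣ, (φ : A → ℂ) = fun a => (ψ a : ℂ) := fun φ =>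
    exists_hom_of_isIrrCharacter φ.2 (hdeg φ)
  choose ψ hψ using hhom
  let gA : A := ⟨g, Subgroup.mem_zpowers g⟩
  have hint : ∀ φ : IrrCharacter A, IsIntegral ℤ ((ψ φ gA : ℂˣ) : ℂ) := by
    intro φ
    have h1 : ((ψ φ gA : ℂˣ) : ℂ) ^ orderOf gA = 1 := by
      rw [← Units.val_pow_eq_pow_val, ← map_pow, pow_orderOf_eq_one, map_one, Units.val_one]
    exact IsIntegral.of_pow (orderOf_pos gA) (h1 ▸ isIntegral_one)
  refine ⟨IrrCharacter A, inferInstance, m, fun φ => ⟨_, hint φ⟩, ?_⟩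
  intro k
  have h1 := congrFun hexp (gA ^ k)
  rw [Finset.sum_apply] at h1
  have h2 : ((gA ^ k : A) : G) = g ^ k := by
    rw [SubmonoidClass.coe_pow]
  rw [h2] at h1
  rw [h1]
  refine Finset.sum_congr rfl fun φ _ => ?_
  rw [Pi.smul_apply, smul_eq_mul, hm φ]
  congr 1
  rw [hψ φ]
  show ((ψ φ (gA ^ k) : ℂˣ) : ℂ) = ((ψ φ gA : ℂˣ) : ℂ) ^ k
  rw [map_pow, Units.val_pow_eq_pow_val]

/-- `χ(g)^(p^n) ≡ χ(g^(p^n))` modulo `p` in the ring of algebraic integers. -/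
theorem isCharacter_pow_prime_pow_sub {p : ℕ} (hp : p.Prime) {χ : G → ℂ} (hχ : IsCharacter G χ)
    (g : G) (n : ℕ) :
    ∃ γ : AlgInt, χ g ^ (p ^ n) - χ (g ^ (p ^ n)) = (p : ℂ) * (γ : ℂ) := by
  classical
  obtain ⟨ι, _, m, a, hexp⟩ := exists_power_sum_expansion hχ g
  have key := sum_pow_sub_mem_span (R := AlgInt) hp n (Finset.univ : Finset ι)
    (fun i => ∑ _k ∈ Finset.range (m i), a i)
  have key2 : ∀ i : ι, (∑ _k ∈ Finset.range (m i), a i) ^ (p ^ n) -
      ∑ _k ∈ Finset.range (m i), a i ^ (p ^ n) ∈ Ideal.span {(p : AlgInt)} := fun i =>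
    sum_pow_sub_mem_span (R := AlgInt) hp n (Finset.range (m i)) (fun _ => a i)
  have key3 : (∑ i : ι, ∑ _k ∈ Finset.range (m i), a i) ^ (p ^ n) -
      ∑ i : ι, ∑ _k ∈ Finset.range (m i), a i ^ (p ^ n) ∈ Ideal.span {(p : AlgInt)} := by
    have : (∑ i : ι, ∑ _k ∈ Finset.range (m i), a i) ^ (p ^ n) -
        ∑ i : ι, ∑ _k ∈ Finset.range (m i), a i ^ (p ^ n) =
        ((∑ i : ι, ∑ _k ∈ Finset.range (m i), a i) ^ (p ^ n) -
          ∑ i : ι, (∑ _k ∈ Finset.range (m i), a i) ^ (p ^ n)) +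
        ∑ i : ι, ((∑ _k ∈ Finset.range (m i), a i) ^ (p ^ n) -
          ∑ _k ∈ Finset.range (m i), a i ^ (p ^ n)) := by
      rw [Finset.sum_sub_distrib]; ring
    rw [this]
    exact Ideal.add_mem _ key (Ideal.sum_mem _ fun i _ => key2 i)
  obtain ⟨γ, hγ⟩ := Ideal.mem_span_singleton'.1 key3
  refine ⟨γ, ?_⟩
  have h1 := hexp 1
  have h2 := hexp (p ^ n)
  rw [pow_one] at h1
  rw [h1, h2]
  have hγ' := congrArg (fun z : AlgInt => (z : ℂ)) hγ
  simp only [Finset.sum_const, Finset.card_range, nsmul_eq_mul] at hγ'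
  push_cast at hγ'
  simp only [pow_one]
  rw [mul_comm, hγ']

end

end Cfsg.Agent.Lib.Helper8
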