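import Mathlib
import Cfsg.Prelude.Def_Blocks
import Cfsg.Agent.S0174
import Cfsg.Agent.S0161
import Cfsg.Agent.Lib.Helper1.CliffordCorr
import Cfsg.Agent.Lib.Helper1.IndFun
import Cfsg.Agent.Lib.Helper8.KB5
import Cfsg.Agent.Lib.Helper8.TildeBlock

/-!
# Irreducible characters separate `p`-regular classes modulo `p`
-/

set_option autoImplicit false

namespace Cfsg.Agent.Lib.Helper8

open Cfsg Cfsg.Agent.Lib.Helper1 Cfsg.Agent.Lib.Helper4
open scoped ComplexConjugate

universe u

section

variable {H : Type u} [Group H] [Fintype H]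

theorem indFun_one_ne_zero (Q : Subgroup H) {c : H}
    (h : indFun Q (fun _ => (1 : ℂ)) c ≠ 0) : ∃ y : H, y⁻¹ * c * y ∈ Q := by
  by_contra hno
  push Not at hno
  apply h
  rw [indFun_apply]
  rw [Finset.sum_eq_zero, mul_zero]
  intro y _
  exact extendByZero_of_notMem Q _ (hno y)

theorem indFun_one_one (Q : Subgroup H) :
    indFun Q (fun _ => (1 : ℂ)) 1 = (Q.index : ℂ) := by
  classical
  rw [indFun_apply]
  have h1 : ∀ y : H, extendByZero Q (fun _ => (1 : ℂ)) (y⁻¹ * 1 * y) = 1 := by
    intro y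
    have : y⁻¹ * 1 * y = 1 := by group
    rw [this, extendByZero_of_mem Q _ Q.one_mem]
  rw [Finset.sum_congr rfl (fun y _ => h1 y)]
  simp only [Finset.sum_const, Finset.card_univ, nsmul_eq_mul, mul_one]
  have hmul := Q.card_mul_index
  have hQ0 : (Nat.card Q : ℂ) ≠ 0 := Nat.cast_ne_zero.2 Nat.card_pos.ne'
  rw [← Nat.card_eq_fintype_card, ← hmul]
  push_cast
  field_simp

end

section

variable {G : Type u} [Group G] [Fintype G] {p : ℕ}

/-- A character of `G` whose irreducible constituents all take values at `u` and `v` congruent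
modulo `p` does so itself. -/
theorem isCharacter_sub_eq_mul {u v : G}
    (h : ∀ χ : IrrCharacter G, ∃ γ : AlgInt, (χ : G → ℂ) u - (χ : G → ℂ) v = (p : ℂ) * (γ : ℂ))
    {θ : G → ℂ} (hθ : IsCharacter G θ) : ∃ γ : AlgInt, θ u - θ v = (p : ℂ) * (γ : ℂ) := by
  classical
  haveI : Fintype (IrrCharacter G) := Fintype.ofFinite _
  have hexp := class_function_expansion _ (isClassFunction_of_isCharacter hθ)
  have hk : ∀ χ : IrrCharacter G, ∃ k : ℕ, classInner θ χ = k := fun χ =>
    classInner_char_irr_nat hθ χ.2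
  choose k hk using hk
  choose γ hγ using h
  refine ⟨∑ χ : IrrCharacter G, (k χ : AlgInt) * γ χ, ?_⟩
  have hu := congrFun hexp u
  have hv := congrFun hexp v
  rw [Finset.sum_apply] at hu hv
  rw [hu, hv, ← Finset.sum_sub_distrib]
  push_cast
  rw [Finset.mul_sum]
  refine Finset.sum_congr rfl fun χ _ => ?_
  rw [Pi.smul_apply, Pi.smul_apply, smul_eq_mul, smul_eq_mul, hk χ, ← mul_sub, hγ χ]
  ring

theorem isConj_of_forall_irr_sub [hpf : Fact p.Prime] {u v : G} (hu : ¬ p ∣ orderOf u)
    (hv : ¬ p ∣ orderOf v)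
    (h : ∀ χ : IrrCharacter G, ∃ γ : AlgInt, (χ : G → ℂ) u - (χ : G → ℂ) v = (p : ℂ) * (γ : ℂ)) :
    IsConj u v := by
  classical
  by_contra hnc
  obtain ⟨M, hM⟩ := exists_isPModular p
  set C := Subgroup.centralizer ({u} : Set G) with hC
  haveI : Fintype C := Fintype.ofFinite _
  haveI : Fintype (IrrCharacter C) := Fintype.ofFinite _
  have huC' : u ∈ C := by
    rw [hC, Subgroup.mem_centralizer_singleton_iff]
  let uC : C := ⟨u, huC'⟩
  have hcomm : ∀ c : C, (c : G) * u = u * (c : G) := by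
    intro c
    exact Subgroup.mem_centralizer_singleton_iff.1 c.2
  have huC : uC⁻¹ ∈ Subgroup.center C := by
    apply Subgroup.inv_mem
    rw [Subgroup.mem_center_iff]
    intro c
    apply Subtype.ext
    exact hcomm c
  let P : Sylow p C := default
  set π : C → ℂ := indFun (P : Subgroup C) (fun _ => (1 : ℂ)) with hπ
  have hπc : IsCharacter C π :=
    Cfsg.Agent.S0148.result _ _ (isCharacter_of_irr Cfsg.Agent.S0161.isIrrCharacter_one)
  have hn : ∀ ψ : IrrCharacter C, ∃ n : ℕ, classInner π ψ = n := fun ψ =>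
    classInner_char_irr_nat hπc ψ.2
  choose n hn using hn
  have hπexp := class_function_expansion _ (isClassFunction_of_isCharacter hπc)
  set β : C → ℂ := fun c => π (c * uC⁻¹) with hβ
  have hβexp : β = ∑ ψ : IrrCharacter C,
      ((n ψ : ℂ) * ((ψ : C → ℂ) uC⁻¹ / (ψ : C → ℂ) 1)) • (ψ : C → ℂ) := by
    funext c
    rw [hβ]
    simp only
    rw [hπexp, Finset.sum_apply, Finset.sum_apply]
    refine Finset.sum_congr rfl fun ψ _ => ?_
    rw [Pi.smul_apply, Pi.smul_apply, smul_eq_mul, smul_eq_mul, hn ψ, irr_mul_central ψ.2 c huC]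
    ring
  have hF : indFun C β = ∑ ψ : IrrCharacter C,
      ((n ψ : ℂ) * ((ψ : C → ℂ) uC⁻¹ / (ψ : C → ℂ) 1)) • indFun C (ψ : C → ℂ) := by
    rw [hβexp, indFun_sum]
    refine Finset.sum_congr rfl fun ψ _ => ?_
    rw [indFun_smul]
  -- each induced irreducible character has congruent values
  have hterm : ∀ ψ : IrrCharacter C, ∃ γ : AlgInt,
      indFun C (ψ : C → ℂ) u - indFun C (ψ : C → ℂ) v = (p : ℂ) * (γ : ℂ) := fun ψ =>
    isCharacter_sub_eq_mul h (Cfsg.Agent.S0148.result C _ (isCharacter_of_irr ψ.2))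
  choose γ hγ using hterm
  have hsum : ∃ δ : AlgInt, indFun C β u - indFun C β v = (p : ℂ) * (δ : ℂ) := by
    refine ⟨∑ ψ : IrrCharacter C, ((n ψ : AlgInt) *
      ⟨(ψ : C → ℂ) uC⁻¹ / (ψ : C → ℂ) 1, isIntegral_irr_central_div ψ.2 huC⟩) * γ ψ, ?_⟩
    rw [hF, Finset.sum_apply, Finset.sum_apply, ← Finset.sum_sub_distrib]
    push_cast
    rw [Finset.mul_sum]
    refine Finset.sum_congr rfl fun ψ _ => ?_
    rw [Pi.smul_apply, Pi.smul_apply, smul_eq_mul, smul_eq_mul, ← mul_sub, hγ ψ]
    ring
  -- the key vanishing property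
  have hkey : ∀ w : C, ¬ p ∣ orderOf (w : G) → π (w * uC⁻¹) ≠ 0 → (w : G) = u := by
    intro w hw hne
    obtain ⟨y, hy⟩ := indFun_one_ne_zero (P : Subgroup C) hne
    obtain ⟨k, hk⟩ := P.isPGroup' ⟨_, hy⟩
    have h1 : (y⁻¹ * (w * uC⁻¹) * y) ^ (p ^ k) = 1 := by
      have := congrArg Subtype.val hk
      simpa using this
    have h2 : (w * uC⁻¹) ^ (p ^ k) = 1 := by
      have h3 : (y⁻¹ * (w * uC⁻¹) * y) ^ (p ^ k) = y⁻¹ * (w * uC⁻¹) ^ (p ^ k) * y := by
        have := conj_pow (a := y⁻¹) (b := w * uC⁻¹) (i := p ^ k)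
        simpa using this
      rw [h3] at h1
      have : (w * uC⁻¹) ^ (p ^ k) = y * (y⁻¹ * (w * uC⁻¹) ^ (p ^ k) * y) * y⁻¹ := by group
      rw [this, h1]; group
    have h4 : ((w : G) * u⁻¹) ^ (p ^ k) = 1 := by
      have := congrArg Subtype.val h2
      simpa using this
    have hcm : Commute (w : G) u⁻¹ := by
      have := hcomm w
      exact (Commute.inv_right this)
    have h5 : ((w : G) * u⁻¹) ^ (orderOf (w : G) * orderOf u) = 1 := by
      rw [hcm.mul_pow, pow_mul, pow_orderOf_eq_one, one_pow, mul_comm (orderOf (w : G)), pow_mul,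
        inv_pow, pow_orderOf_eq_one, inv_one, one_pow, one_mul]
    have hd1 := orderOf_dvd_of_pow_eq_one h4
    have hd2 := orderOf_dvd_of_pow_eq_one h5
    have hcop : Nat.Coprime (p ^ k) (orderOf (w : G) * orderOf u) := by
      apply Nat.Coprime.pow_left
      apply Nat.Coprime.mul_right
      · exact (Nat.Prime.coprime_iff_not_dvd hpf.1).2 hw
      · exact (Nat.Prime.coprime_iff_not_dvd hpf.1).2 hu
    have h6 : orderOf ((w : G) * u⁻¹) = 1 := Nat.eq_one_of_dvd_coprimes hcop hd1 hd2
    rw [orderOf_eq_one_iff] at h6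
    exact mul_inv_eq_one.1 h6
  -- the value at `v`
  have hFv : indFun C β v = 0 := by
    rw [indFun_apply, Finset.sum_eq_zero, mul_zero]
    intro x _
    by_cases hx : x⁻¹ * v * x ∈ C
    · rw [extendByZero_of_mem C β hx]
      by_contra hne
      have hord : orderOf (x⁻¹ * v * x) = orderOf v := by
        have := MulEquiv.orderOf_eq (MulAut.conj x⁻¹) v
        simpa [MulAut.conj_apply] using this
      have h1 := hkey ⟨_, hx⟩ (by simpa [hord] using hv) hne
      apply hnc
      rw [isConj_comm, isConj_iff]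
      exact ⟨x⁻¹, by rw [inv_inv]; exact h1⟩
    · exact extendByZero_of_notMem C β hx
  -- the value at `u`
  have hFu : indFun C β u = ((P : Subgroup C).index : ℂ) := by
    rw [indFun_apply]
    have h1 : ∀ x : G, extendByZero C β (x⁻¹ * u * x) =
        if x ∈ C then ((P : Subgroup C).index : ℂ) else 0 := by
      intro x
      by_cases hx : x ∈ C
      · rw [if_pos hx]
        have h2 : x⁻¹ * u * x = u := by
          have := hcomm ⟨x, hx⟩
          simp only at this
          rw [mul_assoc, ← this, ← mul_assoc, inv_mul_cancel, one_mul]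
        rw [h2, extendByZero_of_mem C β huC']
        show π (uC * uC⁻¹) = _
        rw [mul_inv_cancel, hπ, indFun_one_one]
      · rw [if_neg hx]
        by_cases hx2 : x⁻¹ * u * x ∈ C
        · rw [extendByZero_of_mem C β hx2]
          by_contra hne
          have hord : orderOf (x⁻¹ * u * x) = orderOf u := by
            have := MulEquiv.orderOf_eq (MulAut.conj x⁻¹) u
            simpa [MulAut.conj_apply] using this
          have h3 := hkey ⟨_, hx2⟩ (by simpa [hord] using hu) hne
          apply hx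
          rw [hC, Subgroup.mem_centralizer_singleton_iff]
          have h4 : x⁻¹ * u * x = u := h3
          calc x * u = x * (x⁻¹ * u * x) := by rw [h4]
            _ = u * x := by group
        · exact extendByZero_of_notMem C β hx2
    rw [Finset.sum_congr rfl (fun x _ => h1 x), ← Finset.sum_filter, Finset.sum_const]
    have hcard : (Finset.univ.filter (fun x : G => x ∈ C)).card = Nat.card C := by
      rw [Nat.card_eq_fintype_card, Fintype.card_subtype]
    rw [hcard, nsmul_eq_mul]
    have hC0 : (Nat.card C : ℂ) ≠ 0 := Nat.cast_ne_zero.2 Nat.card_pos.ne'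
    field_simp
  obtain ⟨δ, hδ⟩ := hsum
  rw [hFu, hFv, sub_zero] at hδ
  have hmem : (((P : Subgroup C).index : ℤ) : AlgInt) ∈ M := by
    have h1 : (((P : Subgroup C).index : ℤ) : AlgInt) = (p : AlgInt) * δ := by
      apply Subtype.ext
      push_cast
      exact hδ
    rw [h1]
    exact M.mul_mem_right _ hM.2.2
  rw [intCast_mem_iff hM] at hmem
  have hdvd : p ∣ (P : Subgroup C).index := by exact_mod_cast hmem
  exact P.not_dvd_index hdvd

end

end Cfsg.Agent.Lib.Helper8
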