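import Mathlib
import Cfsg.Prelude.Def_Blocks
import Cfsg.Agent.Lib.Helper8.PS1
import Cfsg.Agent.Lib.Helper8.PS2

/-!
# Conjugacy of `p`-regular parts and congruences of character values
-/

set_option autoImplicit false

namespace Cfsg.Agent.Lib.Helper8

open Cfsg Cfsg.Agent.Lib.Helper1 Cfsg.Agent.Lib.Helper4
open scoped ComplexConjugate

universe u

section

variable {G : Type u} [Group G] [Finite G] {p : ℕ}

/-- The `p^a`-th power of an element equals that of its `p`-regular part. -/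
theorem pow_eq_pow_regular_part (hp : p.Prime) {x x' : G}
    (hx : (∃ k : ℕ, orderOf (x * x'⁻¹) = p ^ k) ∧ Commute (x * x'⁻¹) x') :
    x ^ (p ^ (Nat.card G).factorization p) = x' ^ (p ^ (Nat.card G).factorization p) := by
  obtain ⟨⟨k, hk⟩, hcomm⟩ := hx
  have hdvd : p ^ k ∣ Nat.card G := by
    rw [← hk]
    exact orderOf_dvd_natCard _
  have hle : k ≤ (Nat.card G).factorization p :=
    (hp.pow_dvd_iff_le_factorization Nat.card_pos.ne').1 hdvd
  have h1 : (x * x'⁻¹) ^ (p ^ (Nat.card G).factorization p) = 1 := by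
    apply orderOf_dvd_iff_pow_eq_one.1
    rw [hk]
    exact pow_dvd_pow p hle
  have h2 : x = (x * x'⁻¹) * x' := by group
  conv_lhs => rw [h2]
  rw [hcomm.mul_pow, h1, one_mul]

omit [Finite G] in
/-- Recovering an element of order prime to `p` from its `p^a`-th power. -/
theorem exists_zpow_eq_of_regular (hp : p.Prime) {x' y' : G} (hx : ¬ p ∣ orderOf x')
    (hy : ¬ p ∣ orderOf y') (N : ℕ) :
    ∃ a : ℤ, (x' ^ (p ^ N)) ^ a = x' ∧ (y' ^ (p ^ N)) ^ a = y' := by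
  set m := orderOf x' * orderOf y' with hm
  have hcop : Nat.Coprime (p ^ N) m := by
    apply Nat.Coprime.pow_left
    apply Nat.Coprime.mul_right
    · exact (Nat.Prime.coprime_iff_not_dvd hp).2 hx
    · exact (Nat.Prime.coprime_iff_not_dvd hp).2 hy
  have hb := Nat.gcd_eq_gcd_ab (p ^ N) m
  rw [hcop.gcd_eq_one] at hb
  refine ⟨Nat.gcdA (p ^ N) m, ?_, ?_⟩
  · have h1 : x' ^ ((m : ℤ) * Nat.gcdB (p ^ N) m) = 1 := by
      have h0 : x' ^ (m : ℤ) = 1 := by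
        rw [zpow_natCast, hm, pow_mul, pow_orderOf_eq_one, one_pow]
      rw [zpow_mul, h0, one_zpow]
    calc (x' ^ (p ^ N)) ^ (Nat.gcdA (p ^ N) m)
        = x' ^ (((p ^ N : ℕ) : ℤ) * Nat.gcdA (p ^ N) m) := by
          rw [zpow_mul, zpow_natCast]
      _ = x' ^ (((p ^ N : ℕ) : ℤ) * Nat.gcdA (p ^ N) m) * x' ^ ((m : ℤ) * Nat.gcdB (p ^ N) m) := by
          rw [h1, mul_one]
      _ = x' ^ ((1 : ℕ) : ℤ) := by rw [← zpow_add, hb]
      _ = x' := by simp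
  · have h1 : y' ^ ((m : ℤ) * Nat.gcdB (p ^ N) m) = 1 := by
      have h0 : y' ^ (m : ℤ) = 1 := by
        rw [zpow_natCast, hm, mul_comm, pow_mul, pow_orderOf_eq_one, one_pow]
      rw [zpow_mul, h0, one_zpow]
    calc (y' ^ (p ^ N)) ^ (Nat.gcdA (p ^ N) m)
        = y' ^ (((p ^ N : ℕ) : ℤ) * Nat.gcdA (p ^ N) m) := by
          rw [zpow_mul, zpow_natCast]
      _ = y' ^ (((p ^ N : ℕ) : ℤ) * Nat.gcdA (p ^ N) m) * y' ^ ((m : ℤ) * Nat.gcdB (p ^ N) m) := by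
          rw [h1, mul_one]
      _ = y' ^ ((1 : ℕ) : ℤ) := by rw [← zpow_add, hb]
      _ = y' := by simp

theorem isConj_regular_parts_iff [hpf : Fact p.Prime] (x y x' y' : G)
    (hx : (∃ k : ℕ, orderOf (x * x'⁻¹) = p ^ k) ∧ Commute (x * x'⁻¹) x' ∧ ¬ p ∣ orderOf x')
    (hy : (∃ k : ℕ, orderOf (y * y'⁻¹) = p ^ k) ∧ Commute (y * y'⁻¹) y' ∧ ¬ p ∣ orderOf y') :
    IsConj x' y' ↔ ∀ χ : IrrCharacter G, ∃ γ : AlgInt,
      (χ : G → ℂ) x ^ (p ^ (Nat.card G).factorization p) -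
        (χ : G → ℂ) y ^ (p ^ (Nat.card G).factorization p) = (p : ℂ) * (γ : ℂ) := by
  classical
  haveI : Fintype G := Fintype.ofFinite G
  set N := (Nat.card G).factorization p with hN
  have hxN := pow_eq_pow_regular_part hpf.1 ⟨hx.1, hx.2.1⟩
  have hyN := pow_eq_pow_regular_part hpf.1 ⟨hy.1, hy.2.1⟩
  rw [← hN] at hxN hyN
  constructor
  · intro hconj χ
    obtain ⟨γ₁, h₁⟩ := isCharacter_pow_prime_pow_sub hpf.1 (isCharacter_of_irr χ.2) x N
    obtain ⟨γ₂, h₂⟩ := isCharacter_pow_prime_pow_sub hpf.1 (isCharacter_of_irr χ.2) y N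
    have hc : (χ : G → ℂ) (x ^ (p ^ N)) = (χ : G → ℂ) (y ^ (p ^ N)) := by
      rw [hxN, hyN]
      obtain ⟨g, hg⟩ := isConj_iff.1 hconj
      rw [← hg, conj_pow]
      exact (isClassFunction_irr χ.2 _ g).symm
    refine ⟨γ₁ - γ₂, ?_⟩
    push_cast
    rw [mul_sub, ← h₁, ← h₂, hc]
    ring
  · intro h
    have hreg : ∀ z : G, ¬ p ∣ orderOf z → ¬ p ∣ orderOf (z ^ (p ^ N)) := by
      intro z hz hd
      exact hz (hd.trans (orderOf_pow_dvd _))
    have hconj : IsConj (x' ^ (p ^ N)) (y' ^ (p ^ N)) := by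
      apply isConj_of_forall_irr_sub (hreg x' hx.2.2) (hreg y' hy.2.2)
      intro χ
      obtain ⟨γ, hγ⟩ := h χ
      obtain ⟨γ₁, h₁⟩ := isCharacter_pow_prime_pow_sub hpf.1 (isCharacter_of_irr χ.2) x N
      obtain ⟨γ₂, h₂⟩ := isCharacter_pow_prime_pow_sub hpf.1 (isCharacter_of_irr χ.2) y N
      refine ⟨γ - γ₁ + γ₂, ?_⟩
      push_cast
      rw [← hxN, ← hyN, mul_add, mul_sub, ← hγ, ← h₁, ← h₂]
      ring
    obtain ⟨a, ha₁, ha₂⟩ := exists_zpow_eq_of_regular hpf.1 hx.2.2 hy.2.2 N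
    obtain ⟨g, hg⟩ := isConj_iff.1 hconj
    rw [isConj_iff]
    refine ⟨g, ?_⟩
    rw [← ha₁, ← ha₂, ← hg, conj_zpow]

end

end Cfsg.Agent.Lib.Helper8
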