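import Mathlib
import Cfsg.Prelude.Def_Characters
import Cfsg.Agent.Lib.Helper4.Gallagher
import Cfsg.Agent.Lib.Helper1.CharFound6

/-!
# Characters over a normal subgroup with abelian quotient

For a normal subgroup `N` of `G` with `G/N` abelian, the linear characters `λ` of `G/N` satisfy
`∑_λ ⟨λ α, β⟩_G = ⟨α|_N, β|_N⟩_N`.  Consequences: an irreducible character moved by all non-trivial
`λ` restricts irreducibly, and two irreducible characters with the same irreducible restriction
differ by some `λ`.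
-/

set_option autoImplicit false
set_option linter.unusedSectionVars false

namespace Cfsg.Agent.Lib.Helper8.PX

open Cfsg Cfsg.Agent.Lib.Helper1 Cfsg.Agent.Lib.Helper4
open scoped ComplexConjugate

universe u

variable {G : Type u} [Group G] [Fintype G] (N : Subgroup G) [hN : N.Normal] [Fintype N]

/-- the commutative group structure on an abelian quotient -/
@[reducible] def commGroupQuot (hab : ∀ x y : G, x * y * x⁻¹ * y⁻¹ ∈ N) : CommGroup (G ⧸ N) :=
  { (inferInstance : Group (G ⧸ N)) with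
    mul_comm := by
      intro a b
      induction a using QuotientGroup.induction_on with
      | H x =>
      induction b using QuotientGroup.induction_on with
      | H y =>
      rw [← QuotientGroup.mk_mul, ← QuotientGroup.mk_mul, QuotientGroup.eq]
      have := hab y⁻¹ x⁻¹
      simpa [mul_assoc] using this }

/-- the linear character of `G` attached to a homomorphism of `G ⧸ N` -/
noncomputable def lin (f : (G ⧸ N) →* ℂˣ) : G →* ℂˣ := f.comp (QuotientGroup.mk' N)

theorem lin_apply (f : (G ⧸ N) →* ℂˣ) (g : G) : lin N f g = f (g : G ⧸ N) := rfl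

theorem lin_of_mem (f : (G ⧸ N) →* ℂˣ) {g : G} (hg : g ∈ N) : lin N f g = 1 := by
  rw [lin_apply, (QuotientGroup.eq_one_iff g).2 hg, map_one]

theorem lin_one : lin N (1 : (G ⧸ N) →* ℂˣ) = 1 := rfl

/-- the twist of a function by a linear character of the quotient -/
noncomputable def tw (f : (G ⧸ N) →* ℂˣ) (α : G → ℂ) : G → ℂ :=
  fun g => ((lin N f g : ℂˣ) : ℂ) * α g

theorem tw_apply (f : (G ⧸ N) →* ℂˣ) (α : G → ℂ) (g : G) :
    tw N f α g = ((lin N f g : ℂˣ) : ℂ) * α g := rfl

theorem tw_one (α : G → ℂ) : tw N (1 : (G ⧸ N) →* ℂˣ) α = α := by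
  funext g
  rw [tw_apply, lin_one, MonoidHom.one_apply, Units.val_one, one_mul]

theorem tw_of_mem (f : (G ⧸ N) →* ℂˣ) (α : G → ℂ) {g : G} (hg : g ∈ N) : tw N f α g = α g := by
  rw [tw_apply, lin_of_mem N f hg, Units.val_one, one_mul]

theorem isIrrCharacter_tw (f : (G ⧸ N) →* ℂˣ) {ψ : G → ℂ} (hψ : IsIrrCharacter G ψ) :
    IsIrrCharacter G (tw N f ψ) := isIrrCharacter_hom_mul (lin N f) hψ

/-- orthogonality on the quotient, pulled back to `G` -/
theorem sum_lin_apply (hab : ∀ x y : G, x * y * x⁻¹ * y⁻¹ ∈ N)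
    [Fintype ((G ⧸ N) →* ℂˣ)] (g : G) [Decidable (g ∈ N)] :
    ∑ f : (G ⧸ N) →* ℂˣ, ((lin N f g : ℂˣ) : ℂ) = if g ∈ N then (N.index : ℂ) else 0 := by
  let _ := commGroupQuot N hab
  by_cases hg : g ∈ N
  · rw [if_pos hg]
    have h1 : ∀ f : (G ⧸ N) →* ℂˣ, ((lin N f g : ℂˣ) : ℂ) = ((f 1 : ℂˣ) : ℂ) := by
      intro f
      rw [lin_of_mem N f hg, map_one]
    rw [Finset.sum_congr rfl fun f _ => h1 f, sum_hom_apply_one (G ⧸ N)]
    rfl
  · rw [if_neg hg]
    have hne : (g : G ⧸ N) ≠ 1 := fun h => hg ((QuotientGroup.eq_one_iff g).1 h)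
    exact sum_hom_apply_ne (G ⧸ N) hne

/-- **the key identity**: `∑_λ ⟨λ α, β⟩_G = ⟨α|_N, β|_N⟩_N` -/
theorem sum_classInner_tw (hab : ∀ x y : G, x * y * x⁻¹ * y⁻¹ ∈ N)
    [Fintype ((G ⧸ N) →* ℂˣ)] (α β : G → ℂ) :
    ∑ f : (G ⧸ N) →* ℂˣ, classInner (tw N f α) β =
      classInner (fun n : N => α n) (fun n : N => β n) := by
  classical
  unfold classInner
  rw [← Finset.mul_sum, Finset.sum_comm]
  have h1 : ∀ g : G, ∑ f : (G ⧸ N) →* ℂˣ, tw N f α g * conj (β g) =
      (if g ∈ N then (N.index : ℂ) else 0) * (α g * conj (β g)) := by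
    intro g
    rw [← sum_lin_apply N hab g, Finset.sum_mul]
    refine Finset.sum_congr rfl fun f _ => ?_
    rw [tw_apply, mul_assoc]
  rw [Finset.sum_congr rfl fun g _ => h1 g]
  have h2 : ∑ g : G, (if g ∈ N then (N.index : ℂ) else 0) * (α g * conj (β g)) =
      (N.index : ℂ) * ∑ n : N, α n * conj (β n) := by
    rw [Finset.mul_sum]
    have : ∑ g : G, (if g ∈ N then (N.index : ℂ) else 0) * (α g * conj (β g)) =
        ∑ g : G, if g ∈ N then (N.index : ℂ) * (α g * conj (β g)) else 0 := by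
      refine Finset.sum_congr rfl fun g _ => ?_
      split_ifs <;> simp
    rw [this, ← Finset.sum_filter]
    exact Finset.sum_subtype (Finset.univ.filter fun g => g ∈ N) (p := fun g => g ∈ N)
      (fun g => by simp) (fun g => (N.index : ℂ) * (α g * conj (β g)))
  rw [h2, ← mul_assoc]
  congr 1
  have hcard : (Nat.card G : ℂ) = (N.index : ℂ) * (Nat.card N : ℂ) := by
    rw [← Nat.cast_mul, mul_comm, Subgroup.card_mul_index]
  have hN0 : (Nat.card N : ℂ) ≠ 0 := Nat.cast_ne_zero.2 Nat.card_pos.ne'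
  have hI0 : (N.index : ℂ) ≠ 0 := Nat.cast_ne_zero.2 (Subgroup.index_ne_zero_of_finite)
  rw [hcard]
  field_simp


theorem tw_mul (f f' : (G ⧸ N) →* ℂˣ) (α : G → ℂ) : tw N (f * f') α = tw N f (tw N f' α) := by
  funext g
  rw [tw_apply, tw_apply, tw_apply, lin_apply, lin_apply, lin_apply, MonoidHom.mul_apply,
    Units.val_mul, mul_assoc]

theorem card_dual (hab : ∀ x y : G, x * y * x⁻¹ * y⁻¹ ∈ N) :
    Nat.card ((G ⧸ N) →* ℂˣ) = N.index := by
  let _ := commGroupQuot N hab
  have hne : NeZero (Monoid.exponent (G ⧸ N)) := ⟨Monoid.exponent_ne_zero_of_finite⟩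
  rw [CommGroup.card_monoidHom_of_hasEnoughRootsOfUnity (G ⧸ N) ℂ]
  rfl

/-- an irreducible character which is moved by every non-trivial linear character of the abelian
quotient restricts irreducibly -/
theorem isIrrCharacter_restrict_of_free (hab : ∀ x y : G, x * y * x⁻¹ * y⁻¹ ∈ N)
    {χ : G → ℂ} (hχ : IsIrrCharacter G χ)
    (hfree : ∀ f : (G ⧸ N) →* ℂˣ, tw N f χ = χ → f = 1) :
    IsIrrCharacter N (fun n : N => χ n) := by
  classical
  have : Fintype ((G ⧸ N) →* ℂˣ) := Fintype.ofFinite _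
  apply isIrrCharacter_of_norm_one
    (Cfsg.Agent.S0148.isCharacter_restrict N (isCharacter_of_irr hχ))
  rw [← sum_classInner_tw N hab χ χ, Finset.sum_eq_single (1 : (G ⧸ N) →* ℂˣ)]
  · rw [tw_one, classInner_irr_self hχ]
  · intro f _ hf
    apply classInner_irr_ne (isIrrCharacter_tw N f hχ) hχ
    intro h
    exact hf (hfree f h)
  · intro h
    exact absurd (Finset.mem_univ _) h

/-- two irreducible characters with the same irreducible restriction differ by a linear character
of the abelian quotient -/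
theorem exists_tw_eq_of_restrict_eq (hab : ∀ x y : G, x * y * x⁻¹ * y⁻¹ ∈ N)
    {χ ψ : G → ℂ} (hχ : IsIrrCharacter G χ) (hψ : IsIrrCharacter G ψ)
    (hres : IsIrrCharacter N (fun n : N => χ n)) (heq : ∀ n : N, χ n = ψ n) :
    ∃ f : (G ⧸ N) →* ℂˣ, tw N f χ = ψ := by
  classical
  have : Fintype ((G ⧸ N) →* ℂˣ) := Fintype.ofFinite _
  by_contra hcon
  push Not at hcon
  have h1 := sum_classInner_tw N hab χ ψ
  have h2 : (fun n : N => ψ n) = fun n : N => χ n := by
    funext n
    exact (heq n).symm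
  rw [h2, classInner_irr_self hres, Finset.sum_eq_zero] at h1
  · exact zero_ne_one h1
  · intro f _
    exact classInner_irr_ne (isIrrCharacter_tw N f hχ) hψ (hcon f)

theorem tw_injective_of_free {χ : G → ℂ}
    (hfree : ∀ f : (G ⧸ N) →* ℂˣ, tw N f χ = χ → f = 1) :
    Function.Injective (fun f : (G ⧸ N) →* ℂˣ => tw N f χ) := by
  intro f f' h
  have h1 : tw N (f⁻¹ * f') χ = χ := by
    funext g
    have h' : tw N f' χ g = tw N f χ g := (congrFun h g).symm
    rw [tw_apply, lin_apply] at h'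
    rw [tw_apply, lin_apply, MonoidHom.mul_apply, MonoidHom.inv_apply, Units.val_mul, mul_assoc,
      h', tw_apply, lin_apply, ← mul_assoc, ← Units.val_mul, inv_mul_cancel, Units.val_one, one_mul]
  have h2 := hfree _ h1
  apply MonoidHom.ext
  intro x
  have h3 := DFunLike.congr_fun h2 x
  rw [MonoidHom.mul_apply, MonoidHom.inv_apply, MonoidHom.one_apply, inv_mul_eq_one] at h3
  exact h3

end Cfsg.Agent.Lib.Helper8.PX
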