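import Mathlib
import Cfsg.Prelude.Def_Blocks
import Cfsg.Prelude.Def_BrauerPairs
import Cfsg.Agent.Lib.Helper8.PX1
import Cfsg.Agent.Lib.Helper4.NilB15
import Cfsg.Agent.Lib.Helper8.Cover3
import Cfsg.Agent.Lib.Helper8.BHI8

/-!
# The linear characters of a `p`-power index quotient act freely on a block with abelian defect
-/

set_option autoImplicit false
set_option linter.unusedSectionVars false

namespace Cfsg.Agent.Lib.Helper8.PX

open Cfsg Cfsg.Agent.Lib.Helper1 Cfsg.Agent.Lib.Helper4 Cfsg.Agent.Lib.Helper8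
  Cfsg.Agent.Lib.Helper8.BPS Cfsg.Agent.Lib.Helper8.BHI Cfsg.Agent.Lib.Helper4.NilB
open scoped ComplexConjugate

universe u

variable {G : Type u} [Group G] [Fintype G] (N : Subgroup G) [hN : N.Normal] [Fintype N]
  {M : Ideal AlgInt} {p : ℕ} [Fact p.Prime]

/-- a character fixed by a twist vanishes on the `p`-section of an element where the twist is
non-trivial -/
theorem apply_eq_zero_of_tw_eq (hM : IsPModular p M) (hidx : ∃ k : ℕ, N.index = p ^ k)
    {χ : G → ℂ} {f : (G ⧸ N) →* ℂˣ} (hf : tw N f χ = χ) {v : G} (hv : lin N f v ≠ 1)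
    {s : G} (hs : ¬ p ∣ orderOf s) : χ (v * s) = 0 := by
  have hsN : s ∈ N := by
    by_contra h
    exact hs (dvd_orderOf_of_not_mem N hM.1 hidx h)
  have h1 := congrFun hf (v * s)
  rw [tw_apply, map_mul, lin_of_mem N f hsN, mul_one] at h1
  have h2 : (((lin N f v : ℂˣ) : ℂ) - 1) * χ (v * s) = 0 := by
    rw [sub_mul, h1, one_mul, sub_self]
  rcases mul_eq_zero.1 h2 with h | h
  · exfalso
    apply hv
    apply Units.ext
    rw [Units.val_one]
    linear_combination h
  · exact h

/-- **freeness**: in a block with an abelian defect group `P` and `G = N P`, no non-trivial linear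
character of `G ⧸ N` fixes a character of the block -/
theorem eq_one_of_tw_eq (hM : IsPModular p M) (hidx : ∃ k : ℕ, N.index = p ^ k)
    {B : Set (IrrCharacter G)} {P : Subgroup G}
    {e : Set (IrrCharacter ↥(Subgroup.centralizer (P : Set G)))}
    (hmax : IsMaximalBrauerPair p M B P e) (hab : ∀ x ∈ P, ∀ y ∈ P, x * y = y * x)
    (hNP : N ⊔ P = ⊤) {χ : IrrCharacter G} (hχ : χ ∈ B) (f : (G ⧸ N) →* ℂˣ)
    (hf : tw N f (χ : G → ℂ) = (χ : G → ℂ)) : f = 1 := by
  classical
  have hχcf : IsClassFunction G (χ : G → ℂ) := isClassFunction_irr χ.2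
  -- the twist is trivial on `P`
  have hP : ∀ v ∈ P, lin N f v = 1 := by
    intro v hv
    by_contra hne
    have : Fintype ↥(cent v) := Fintype.ofFinite _
    have hC : ∀ t, t ∈ cent v ↔ t * v = v * t := fun t => mem_cent_iff
    have hpair := aOf_isBrauerPairOf hM hmax hv
    have hb : IsPBlock M (subB p M P e (Subgroup.zpowers v)) := hpair.1.2
    have hpos := yy_pos_of_central hM hmax hχ hv (fun d hd => hab d hd v hv)
    unfold yy at hpos
    rw [contribF_eq] at hpos
    have hpos' : 0 < (contrib p (cent v) (subB p M P e (Subgroup.zpowers v)) v (χ : G → ℂ)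
        (χ : G → ℂ)).re := by
      rw [Complex.mul_re, Complex.natCast_re, Complex.natCast_im, zero_mul, sub_zero] at hpos
      have hC0 : (0 : ℝ) < (Nat.card ↥(cent v) : ℝ) := by exact_mod_cast Nat.card_pos
      exact (mul_pos_iff_of_pos_left hC0).1 hpos
    -- the whole section vanishes
    have hzero : ∑ b ∈ blocksFinset M ↥(cent v), (contrib p (cent v) b v (χ : G → ℂ)
        (χ : G → ℂ)).re = 0 := by
      rw [sum_blocks_contrib_re hM (cent v) hC hχcf]
      apply mul_eq_zero_of_right
      apply Finset.sum_eq_zero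
      intro c _
      by_cases hc : p ∣ orderOf c
      · rw [pRegularPart_of_dvd _ hc, map_zero]
      · rw [pRegularPart_of_not_dvd _ hc, secFun_apply]
        have hc' : ¬ p ∣ orderOf (c : G) := by rwa [Subgroup.orderOf_coe]
        rw [apply_eq_zero_of_tw_eq N hM hidx hf hne hc', map_zero]
    have hle : (contrib p (cent v) (subB p M P e (Subgroup.zpowers v)) v (χ : G → ℂ)
        (χ : G → ℂ)).re ≤ ∑ b ∈ blocksFinset M ↥(cent v), (contrib p (cent v) b v (χ : G → ℂ)
        (χ : G → ℂ)).re :=
      Finset.single_le_sum (f := fun b => (contrib p (cent v) b v (χ : G → ℂ) (χ : G → ℂ)).re)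
        (fun b hb => contrib_self_re_nonneg hM (cent v) hC ((mem_blocksFinset b).1 hb) hχcf)
        ((mem_blocksFinset _).2 hb)
    rw [hzero] at hle
    exact absurd hpos' (not_lt.2 hle)
  -- hence on all of `G`
  have hker : ∀ g : G, lin N f g = 1 := by
    intro g
    have hle : N ⊔ P ≤ (lin N f).ker := by
      apply sup_le
      · intro n hn
        exact MonoidHom.mem_ker.2 (lin_of_mem N f hn)
      · intro v hv
        exact MonoidHom.mem_ker.2 (hP v hv)
    rw [hNP] at hle
    exact MonoidHom.mem_ker.1 (hle (Subgroup.mem_top g))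
  apply MonoidHom.ext
  intro q
  induction q using QuotientGroup.induction_on with
  | H g => exact hker g

end Cfsg.Agent.Lib.Helper8.PX
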