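import Mathlib
import Cfsg.Prelude.Def_Blocks
import Cfsg.Prelude.Def_BlockRank
import Cfsg.Prelude.Def_BlockLocal
import Cfsg.Prelude.Def_BrauerPairs
import Cfsg.Agent.Lib.Helper8.PX2
import Cfsg.Agent.Lib.Helper8.KN4
import Cfsg.Agent.Lib.Helper8.DC1
import Cfsg.Agent.Lib.Helper2.CliffordDeg

/-!
# Stable blocks of normal subgroups of `p`-power index, abelian defect groups
-/

set_option autoImplicit false
set_option linter.unusedSectionVars false

namespace Cfsg.Agent.Lib.Helper8.PX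

open Cfsg Cfsg.Agent.Lib.Helper1 Cfsg.Agent.Lib.Helper4 Cfsg.Agent.Lib.Helper8
open scoped ComplexConjugate

universe u

variable {G : Type u} [Group G] [Fintype G] (N : Subgroup G) [hN : N.Normal] [Fintype N]
  {M : Ideal AlgInt} {p : ℕ} [Fact p.Prime]

/-- `G = N P` with `P` abelian forces `G/N` abelian -/
theorem comm_mem_of_sup_eq_top {P : Subgroup G} (hab : ∀ x ∈ P, ∀ y ∈ P, x * y = y * x)
    (hNP : N ⊔ P = ⊤) (x y : G) : x * y * x⁻¹ * y⁻¹ ∈ N := by
  have hx : x ∈ N ⊔ P := by rw [hNP]; exact Subgroup.mem_top x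
  have hy : y ∈ N ⊔ P := by rw [hNP]; exact Subgroup.mem_top y
  rw [← SetLike.mem_coe, Subgroup.normal_mul] at hx hy
  obtain ⟨n, hn, v, hv, rfl⟩ := hx
  obtain ⟨n', hn', v', hv', rfl⟩ := hy
  rw [← QuotientGroup.eq_one_iff]
  have h1 : ((n : G) : G ⧸ N) = 1 := (QuotientGroup.eq_one_iff n).2 hn
  have h2 : ((n' : G) : G ⧸ N) = 1 := (QuotientGroup.eq_one_iff n').2 hn'
  simp only [QuotientGroup.mk_mul, QuotientGroup.mk_inv, h1, h2, one_mul]
  rw [← QuotientGroup.mk_mul, hab v hv v' hv', QuotientGroup.mk_mul]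
  group

/-- the data of the situation -/
structure Ctx (p : ℕ) (M : Ideal AlgInt) (N : Subgroup G) [N.Normal] [Fintype N]
    (b : Set (IrrCharacter N)) (B : Set (IrrCharacter G)) : Prop where
  hab : ∀ x y : G, x * y * x⁻¹ * y⁻¹ ∈ N
  hcl : IsClassFunction G (eb N b)
  hover : {χ : IrrCharacter G | omega (χ : G → ℂ) (eb N b) = 1} = B
  hfree : ∀ χ : IrrCharacter G, χ ∈ B → ∀ f : (G ⧸ N) →* ℂˣ,
    tw N f (χ : G → ℂ) = (χ : G → ℂ) → f = 1

variable {N}

theorem Ctx.mem_iff {b : Set (IrrCharacter N)} {B : Set (IrrCharacter G)} (c : Ctx p M N b B)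
    (χ : IrrCharacter G) :
    χ ∈ B ↔ ∃ θ ∈ b, classInner (fun n : N => (χ : G → ℂ) n) (θ : N → ℂ) ≠ 0 := by
  rw [← c.hover, Set.mem_ofPred_eq, omega_eb_G_eq_one_iff N c.hcl χ.2]

/-- every member of `B` restricts to a member of `b` -/
theorem Ctx.restrict {b : Set (IrrCharacter N)} {B : Set (IrrCharacter G)} (c : Ctx p M N b B)
    {χ : IrrCharacter G} (hχ : χ ∈ B) :
    ∃ θ ∈ b, ∀ n : N, (χ : G → ℂ) n = (θ : N → ℂ) n := by
  have hirr := isIrrCharacter_restrict_of_free N c.hab χ.2 (c.hfree χ hχ)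
  obtain ⟨θ, hθ, hne⟩ := (c.mem_iff χ).1 hχ
  refine ⟨θ, hθ, fun n => ?_⟩
  by_contra h
  apply hne
  apply classInner_irr_ne hirr θ.2
  intro heq
  exact h (congrFun heq n)

/-- the members of `B` restricting to `θ ∈ b` -/
theorem Ctx.card_fiber {b : Set (IrrCharacter N)} {B : Set (IrrCharacter G)} (c : Ctx p M N b B)
    {θ : IrrCharacter N} (hθ : θ ∈ b) :
    Nat.card {χ : IrrCharacter G // χ ∈ B ∧ ∀ n : N, (χ : G → ℂ) n = (θ : N → ℂ) n} =
      N.index := by
  classical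
  obtain ⟨χ₀, hχ₀, hne⟩ := Cfsg.Agent.Lib.Helper2.CliffordDeg.exists_irr_over (G := G) N θ.2
  have hχ₀B : (⟨χ₀, hχ₀⟩ : IrrCharacter G) ∈ B := (c.mem_iff _).2 ⟨θ, hθ, hne⟩
  obtain ⟨θ', hθ', hres'⟩ := c.restrict hχ₀B
  have hθθ' : θ' = θ := by
    by_contra h
    apply hne
    have : (fun n : N => χ₀ n) = (θ' : N → ℂ) := funext hres'
    rw [this]
    exact classInner_irr_ne θ'.2 θ.2 (fun h' => h (Subtype.ext h'))
  subst hθθ'
  have hres : ∀ n : N, χ₀ n = (θ' : N → ℂ) n := hres'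
  have hfree := c.hfree ⟨χ₀, hχ₀⟩ hχ₀B
  have hresirr : IsIrrCharacter N (fun n : N => χ₀ n) := by
    have : (fun n : N => χ₀ n) = (θ' : N → ℂ) := funext hres
    rw [this]
    exact θ'.2
  -- the bijection
  have hmem : ∀ f : (G ⧸ N) →* ℂˣ,
      (⟨tw N f χ₀, isIrrCharacter_tw N f hχ₀⟩ : IrrCharacter G) ∈ B ∧
        ∀ n : N, tw N f χ₀ n = (θ' : N → ℂ) n := by
    intro f
    have h2 : ∀ n : N, tw N f χ₀ n = (θ' : N → ℂ) n := by
      intro n
      rw [tw_of_mem N f χ₀ n.2, hres n]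
    refine ⟨(c.mem_iff _).2 ⟨θ', hθ, ?_⟩, h2⟩
    have : (fun n : N => ((⟨tw N f χ₀, isIrrCharacter_tw N f hχ₀⟩ : IrrCharacter G) : G → ℂ) n) =
        (θ' : N → ℂ) := funext h2
    rw [this, classInner_irr_self θ'.2]
    exact one_ne_zero
  let Φ : ((G ⧸ N) →* ℂˣ) →
      {χ : IrrCharacter G // χ ∈ B ∧ ∀ n : N, (χ : G → ℂ) n = (θ' : N → ℂ) n} :=
    fun f => ⟨⟨tw N f χ₀, isIrrCharacter_tw N f hχ₀⟩, hmem f⟩
  have hΦ : Function.Bijective Φ := by
    constructor
    · intro f f' h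
      apply tw_injective_of_free N hfree
      exact congrArg (fun x : {χ : IrrCharacter G // χ ∈ B ∧
        ∀ n : N, (χ : G → ℂ) n = (θ' : N → ℂ) n} => (x.1.1 : G → ℂ)) h
    · rintro ⟨χ, hχB, hχres⟩
      obtain ⟨f, hf⟩ := exists_tw_eq_of_restrict_eq N c.hab hχ₀ χ.2 hresirr
        (fun n => by rw [hres n, hχres n])
      refine ⟨f, ?_⟩
      apply Subtype.ext
      apply Subtype.ext
      exact hf
  rw [← Nat.card_congr (Equiv.ofBijective Φ hΦ), card_dual N c.hab]


/-- every member of `b` is the restriction of a member of `B` -/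
theorem Ctx.exists_extension {b : Set (IrrCharacter N)} {B : Set (IrrCharacter G)}
    (c : Ctx p M N b B) {θ : IrrCharacter N} (hθ : θ ∈ b) :
    ∃ χ ∈ B, ∀ n : N, (χ : G → ℂ) n = (θ : N → ℂ) n := by
  have h := c.card_fiber hθ
  have hne : Nat.card {χ : IrrCharacter G // χ ∈ B ∧ ∀ n : N, (χ : G → ℂ) n = (θ : N → ℂ) n} ≠ 0 := by
    rw [h]
    exact Subgroup.index_ne_zero_of_finite
  obtain ⟨⟨χ, hχ, hres⟩⟩ := (Nat.card_ne_zero.1 hne).1
  exact ⟨χ, hχ, hres⟩

/-- the number of characters -/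
theorem Ctx.card_eq {b : Set (IrrCharacter N)} {B : Set (IrrCharacter G)} (c : Ctx p M N b B) :
    Nat.card B = N.index * Nat.card b := by
  classical
  have : Fintype (IrrCharacter N) := Fintype.ofFinite _
  have : Fintype (IrrCharacter G) := Fintype.ofFinite _
  have hr : ∀ χ : B, ∃ θ : b, ∀ n : N,
      ((χ : IrrCharacter G) : G → ℂ) n = ((θ : IrrCharacter N) : N → ℂ) n := by
    intro χ
    obtain ⟨θ, hθ, h⟩ := c.restrict χ.2
    exact ⟨⟨θ, hθ⟩, h⟩
  choose r hr using hr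
  rw [← Nat.card_congr (Equiv.sigmaFiberEquiv r), Nat.card_sigma]
  have hfib : ∀ θ : b, Nat.card {χ : B // r χ = θ} = N.index := by
    intro θ
    rw [← c.card_fiber θ.2]
    apply Nat.card_congr
    refine ⟨fun x => ⟨x.1.1, x.1.2, fun n => by rw [hr x.1 n, x.2]⟩,
      fun y => ⟨⟨y.1, y.2.1⟩, ?_⟩, fun x => rfl, fun y => rfl⟩
    apply Subtype.ext
    apply Subtype.ext
    funext n
    rw [← hr ⟨y.1, y.2.1⟩ n, y.2.2 n]
  rw [Finset.sum_congr rfl fun θ _ => hfib θ, Finset.sum_const, Finset.card_univ, smul_eq_mul,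
    mul_comm, Nat.card_eq_fintype_card]

/-- the restriction map on functions -/
noncomputable def resLin (N : Subgroup G) : (G → ℂ) →ₗ[ℂ] (N → ℂ) :=
  LinearMap.funLeft ℂ ℂ (Subtype.val : N → G)

theorem resLin_apply (x : G → ℂ) (n : N) : resLin N x n = x n := rfl

theorem resLin_pRegularPart (χ : G → ℂ) :
    resLin N (pRegularPart p χ) = pRegularPart p (fun n : N => χ n) := by
  classical
  funext n
  rw [resLin_apply]
  by_cases h : p ∣ orderOf n
  · rw [pRegularPart_of_dvd _ h]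
    have h' : p ∣ orderOf (n : G) := by rwa [Subgroup.orderOf_coe]
    rw [pRegularPart_of_dvd _ h']
  · rw [pRegularPart_of_not_dvd _ h]
    have h' : ¬ p ∣ orderOf (n : G) := by rwa [Subgroup.orderOf_coe]
    rw [pRegularPart_of_not_dvd _ h']

/-- the `p`-regular ranks agree -/
theorem Ctx.blockRank_eq (hp : p.Prime) (hidx : ∃ k : ℕ, N.index = p ^ k)
    {b : Set (IrrCharacter N)} {B : Set (IrrCharacter G)}
    (c : Ctx p M N b B) : blockRank p B = blockRank p b := by
  classical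
  unfold blockRank
  set S : Set (G → ℂ) := (fun χ : IrrCharacter G => pRegularPart p (χ : G → ℂ)) '' B with hS
  set S' : Set (N → ℂ) := (fun θ : IrrCharacter N => pRegularPart p (θ : N → ℂ)) '' b with hS'
  have himg : resLin N '' S = S' := by
    ext y
    constructor
    · rintro ⟨x, ⟨χ, hχ, rfl⟩, rfl⟩
      obtain ⟨θ, hθ, hres⟩ := c.restrict hχ
      refine ⟨θ, hθ, ?_⟩
      show pRegularPart p (θ : N → ℂ) = resLin N (pRegularPart p (χ : G → ℂ))
      rw [resLin_pRegularPart]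
      congr 1
      funext n
      exact (hres n).symm
    · rintro ⟨θ, hθ, rfl⟩
      obtain ⟨χ, hχ, hres⟩ := c.exists_extension hθ
      refine ⟨pRegularPart p (χ : G → ℂ), ⟨χ, hχ, rfl⟩, ?_⟩
      show resLin N (pRegularPart p (χ : G → ℂ)) = pRegularPart p (θ : N → ℂ)
      rw [resLin_pRegularPart]
      congr 1
      funext n
      exact hres n
  have hmap : (Submodule.span ℂ S).map (resLin N) = Submodule.span ℂ S' := by
    rw [Submodule.map_span, himg]
  have hvan : ∀ x ∈ Submodule.span ℂ S, ∀ g : G, p ∣ orderOf g → x g = 0 := by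
    intro x hx
    induction hx using Submodule.span_induction with
    | mem y hy =>
      obtain ⟨χ, -, rfl⟩ := hy
      intro g hg
      exact pRegularPart_of_dvd _ hg
    | zero => intro g _; rfl
    | add y z _ _ hy hz =>
      intro g hg
      rw [Pi.add_apply, hy g hg, hz g hg, add_zero]
    | smul a y _ hy =>
      intro g hg
      rw [Pi.smul_apply, hy g hg, smul_zero]
  have hinj : Function.Injective ((resLin N).domRestrict (Submodule.span ℂ S)) := by
    rw [← LinearMap.ker_eq_bot, LinearMap.ker_eq_bot']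
    intro x hx
    apply Subtype.ext
    funext g
    by_cases hg : g ∈ N
    · have := congrFun hx ⟨g, hg⟩
      exact this
    · exact hvan x.1 x.2 g (dvd_orderOf_of_not_mem N hp hidx hg)
  have h1 := LinearMap.finrank_range_of_inj hinj
  rw [LinearMap.range_domRestrict, hmap] at h1
  exact h1.symm

/-- **the theorem** -/
theorem stable_block_abelian_defect (hM : IsPModular p M) (hidx : ∃ k : ℕ, N.index = p ^ k)
    {b : Set (IrrCharacter N)} (hb : IsPBlock M b) (hstab : ∀ g : G, StabilizesBlock N b g)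
    {B : Set (IrrCharacter G)} (hB : IsPBlock M B) (hcov : Covers N B b) {P : Subgroup G}
    (hPD : IsDefectGroup p M B P) (hPab : ∀ x ∈ P, ∀ y ∈ P, x * y = y * x) :
    N ⊔ P = ⊤ ∧ IsDefectGroup p M b ((P ⊓ N).subgroupOf N) ∧
      (∀ χ ∈ B, ∃ θ ∈ b, ∀ n : N, (χ : G → ℂ) n = (θ : N → ℂ) n) ∧
      (∀ θ ∈ b, Nat.card {χ : IrrCharacter G // χ ∈ B ∧
        ∀ n : N, (χ : G → ℂ) n = (θ : N → ℂ) n} = N.index) ∧
      Nat.card B = N.index * Nat.card b ∧ blockRank p B = blockRank p b := by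
  have hcl := isClassFunction_eb_of_invariant N hstab
  have hover := over_eq_of_covers_pIndex N hM hidx hb hstab hB hcov
  have heb : ∀ g : G, blockCoeff B g = eb N b g := by
    intro g
    rw [eb_eq_blockCoeff_over N hcl, hover]
  obtain ⟨h1, h2⟩ := (block_of_pIndex_invariant N hM hidx hb hstab).2 B hB heb P hPD
  obtain ⟨e, hmax⟩ := exists_isMaximalBrauerPair_defectGroup hM hB hPD
  have c : Ctx p M N b B :=
    { hab := comm_mem_of_sup_eq_top N hPab h1
      hcl := hcl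
      hover := hover
      hfree := fun χ hχ f hf => eq_one_of_tw_eq N hM hidx hmax hPab h1 hχ f hf }
  exact ⟨h1, h2, fun χ hχ => c.restrict hχ, fun θ hθ => c.card_fiber hθ, c.card_eq,
    c.blockRank_eq hM.1 hidx⟩

end Cfsg.Agent.Lib.Helper8.PX
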