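import Mathlib

set_option autoImplicit false

namespace Cfsg.Agent.Lib.Helper8

/-- A finite group of order `p * d` with `0 < d < p` is not perfect. -/
theorem commutator_ne_top_of_card_eq_prime_mul {Q : Type*} [Group Q] [Finite Q] (p d : ℕ)
    (hp : p.Prime) (hd : 0 < d) (hdp : d < p) (hcard : Nat.card Q = p * d) :
    commutator Q ≠ ⊤ := by
  intro hperf
  haveI : Fact p.Prime := ⟨hp⟩
  obtain ⟨P⟩ : Nonempty (Sylow p Q) := inferInstance
  have hpd : ¬ p ∣ d := fun h => absurd (Nat.le_of_dvd hd h) (not_le.mpr hdp)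
  have hPcard : Nat.card (P : Subgroup Q) = p := by
    rw [Sylow.card_eq_multiplicity, hcard, Nat.factorization_mul hp.ne_zero hd.ne',
      Finsupp.add_apply, hp.factorization_self, Nat.factorization_eq_zero_of_not_dvd hpd]
    simp
  have hidx : (P : Subgroup Q).index = d := by
    have h := (P : Subgroup Q).card_mul_index
    rw [hPcard, hcard] at h
    exact Nat.eq_of_mul_eq_mul_left hp.pos h
  have hone : Nat.card (Sylow p Q) = 1 := by
    have h1 : Nat.card (Sylow p Q) ∣ d := hidx ▸ P.card_dvd_index
    have h2 : Nat.card (Sylow p Q) ≡ 1 [MOD p] := card_sylow_modEq_one p Q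
    have h3 : Nat.card (Sylow p Q) ≤ d := Nat.le_of_dvd hd h1
    have h4 : Nat.card (Sylow p Q) < p := lt_of_le_of_lt h3 hdp
    unfold Nat.ModEq at h2
    rw [Nat.mod_eq_of_lt h4, Nat.mod_eq_of_lt hp.one_lt] at h2
    exact h2
  haveI : Subsingleton (Sylow p Q) := (Nat.card_eq_one_iff_unique.mp hone).1
  haveI hnormal : (P : Subgroup Q).Normal := Sylow.normal_of_subsingleton P
  haveI hcyc : IsCyclic (P : Subgroup Q) := isCyclic_of_prime_card hPcard
  let f : Q →* (ZMod (Nat.card (P : Subgroup Q)))ˣ :=
    (IsCyclic.mulAutMulEquiv (P : Subgroup Q)).toMonoidHom.comp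
      (MulAut.conjNormal (H := (P : Subgroup Q)))
  have hker : ∀ g : Q, f g = 1 := by
    intro g
    have h1 : commutator Q ≤ f.ker := Abelianization.commutator_subset_ker f
    rw [hperf] at h1
    exact h1 (Subgroup.mem_top g)
  have hcent : ∀ g : Q, ∀ x ∈ (P : Subgroup Q), g * x * g⁻¹ = x := by
    intro g x hx
    have h1 : MulAut.conjNormal (H := (P : Subgroup Q)) g = 1 := by
      apply (IsCyclic.mulAutMulEquiv (P : Subgroup Q)).injective
      rw [map_one]
      exact hker g
    have h2 : ((MulAut.conjNormal (H := (P : Subgroup Q)) g) ⟨x, hx⟩ : Q) = x := by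
      rw [h1]; rfl
    rw [MulAut.conjNormal_apply] at h2
    exact h2
  have hNC : Subgroup.normalizer ((P : Subgroup Q) : Set Q)
      ≤ Subgroup.centralizer ((P : Subgroup Q) : Set Q) := by
    intro g _
    rw [Subgroup.mem_centralizer_iff]
    intro x hx
    have h := hcent g x hx
    calc x * g = (g * x * g⁻¹) * g := by rw [h]
      _ = g * x := by group
  have hcompl := MonoidHom.ker_transferSylow_isComplement' P hNC
  have hcm := hcompl.card_mul_card
  rw [hPcard, hcard, mul_comm] at hcm
  have hkcard : Nat.card (MonoidHom.transferSylow P hNC).ker = d :=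
    Nat.eq_of_mul_eq_mul_left hp.pos hcm
  -- the transfer has abelian target
  let e : (P : Subgroup Q) ≃* Multiplicative (ZMod (Nat.card (P : Subgroup Q))) :=
    (zmodCyclicMulEquiv hcyc).symm
  let f2 : Q →* Multiplicative (ZMod (Nat.card (P : Subgroup Q))) :=
    e.toMonoidHom.comp (MonoidHom.transferSylow P hNC)
  have h2 : commutator Q ≤ f2.ker := Abelianization.commutator_subset_ker f2
  rw [hperf] at h2
  have h3 : (MonoidHom.transferSylow P hNC).ker = ⊤ := by
    rw [eq_top_iff]
    intro g hg
    have h4 := h2 hg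
    rw [MonoidHom.mem_ker] at h4 ⊢
    apply e.injective
    rw [map_one]
    exact h4
  rw [h3, Subgroup.card_top, hcard] at hkcard
  have : 1 < p := hp.one_lt
  nlinarith

end Cfsg.Agent.Lib.Helper8
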