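import Mathlib
import Cfsg.Agent.Lib.Helper8.QB15

/-!
# Seven characters in the principal `2`-block (quaternion Sylow `2`-subgroups of order `8`)
-/

set_option autoImplicit false
set_option maxHeartbeats 800000

namespace Cfsg.Agent.Lib.Helper8

open Cfsg
open scoped ComplexConjugate
open Cfsg.Agent.Lib.Helper2.QuatSylow
open Cfsg.Agent.Lib.Helper1 Cfsg.Agent.Lib.Helper4

universe u

section

variable {G : Type u} [Group G] [Finite G] {M : Ideal AlgInt}

theorem q8_principal_card (hM : IsPModular 2 M) (S : Sylow 2 G)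
    (e : (S : Subgroup G) ≃* QuaternionGroup 2)
    (hO : ∀ N : Subgroup G, N.Normal → Odd (Nat.card N) → N = ⊥)
    (hG : (S : Subgroup G) ≠ ⊤) : Nat.card (principalBlock M G) = 7 := by
  classical
  haveI : Fintype G := Fintype.ofFinite G
  haveI : Fintype (IrrCharacter G) := Fintype.ofFinite _
  haveI : Fintype ↥(principalBlock M G) := Fintype.ofFinite _
  obtain ⟨α, β, h⟩ := exists_qdata (S : Subgroup G) 2 e
  have hnc := q8_no_complement S hO hG
  obtain ⟨x, y, w, a, cz, d, e₂, e₃, i₀, hcz, hd1, hdpos, ha, hczexp, hodd2, hodd3,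
    ⟨hxx, hyy, hww, hxy, hxw, hyw⟩, ⟨hdx, hdy, hdw⟩, -, -, haa, hpar, hnz,
    ⟨hx0, hy0, hw0, ha0, hd0, hcz0⟩, -⟩ := q8_block_data (M := M) hM S e h hnc
  rw [Nat.card_eq_fintype_card]
  refine qb_count x y w a d hdpos hxx hyy hww hxy hxw hyw hdx hdy hdw ?_ ?_ haa.le ?_
  · intro i
    by_contra hc
    push_neg at hc
    obtain ⟨h1, h2, h3⟩ := hc
    apply hnz i
    rw [hczexp i, h1, h2, h3]
    ring
  · intro i
    obtain ⟨k2, hk2⟩ := hodd2
    obtain ⟨k3, hk3⟩ := hodd3
    obtain ⟨k, hk⟩ := hpar i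
    refine ⟨k + k2 * y i + k3 * w i, ?_⟩
    have := hczexp i
    rw [hk2, hk3] at this
    linarith
  · refine ⟨i₀, ?_⟩
    rw [hx0, hy0, hw0]
    decide

end

end Cfsg.Agent.Lib.Helper8
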