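import Mathlib
import Cfsg.Agent.Lib.Helper8.TB10
import Cfsg.Agent.Lib.Helper8.QC6

set_option autoImplicit false
open Pointwise TensorProduct

/-! The quadratic commutator lemma for a `p`-solvable linear group with `O_p = 1`. -/

namespace Cfsg.Agent.Lib.Helper8.QC

open Cfsg Module Cfsg.Agent.Lib.Helper8.TB
open scoped commutatorElement

universe u v

theorem qcg_algClosed {K : Type*} [Field K] [IsAlgClosed K] (p : ℕ) [Fact p.Prime] [CharP K p]
    (hp2 : p ≠ 2)
    {G : Type u} [Group G] [Finite G] (hG : Cfsg.IsPSolvable p G) (hred : Cfsg.pCore p G = ⊥)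
    {V : Type v} [AddCommGroup V] [Module K V] [FiniteDimensional K V]
    (ρ : Representation K G V) (hρ : Function.Injective ρ)
    (B : Subgroup G) (hB : IsPGroup p B) (a : G) (haB : a ∈ B) (hacen : ∀ b ∈ B, b * a = a * b)
    (haB' : a ∈ ⁅B, B⁆) (hap : a ^ p = 1)
    (hquad : (ρ a - 1) ^ 2 = 0) (hrel : ∀ b ∈ B, (ρ a - 1) * (ρ b - 1) * (ρ b - 1) = 0) :
    a = 1 := by
  classical
  have hp : p.Prime := Fact.out
  obtain ⟨R, hRdef⟩ : ∃ R : Subgroup G, R = Cfsg.pPrimeCore p G := ⟨_, rfl⟩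
  have hRn : R.Normal := by rw [hRdef]; exact (Cfsg.Agent.Lib.Helper6.pPrimeCore_mem_set p).1
  have hRc : (Nat.card R).Coprime p := by
    rw [hRdef]; exact Cfsg.Agent.Lib.Helper6.pPrimeCore_coprime p
  have hBR : B ≤ Subgroup.normalizer (R : Set G) := by
    rw [Subgroup.normalizer_eq_top]; exact le_top
  have hcop : (Nat.card B).Coprime (Nat.card R) := by
    obtain ⟨e, he⟩ := IsPGroup.iff_card.mp hB
    rw [he]
    exact Nat.Coprime.pow_left e hRc.symm
  have hBsolv : Group.IsSolvable B := by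
    haveI : Group.IsNilpotent B := hB.isNilpotent
    infer_instance
  have hall : ∀ u ∈ R, u * a = a * u := by
    apply centralizes_of_sylows R a
    intro q hq
    haveI : Fact q.Prime := ⟨hq⟩
    obtain ⟨S, hS⟩ := Cfsg.Agent.Lib.Lead.coprime_invariant_sylow_exists B R hBR hcop
      (Or.inl hBsolv) q
    refine ⟨(S : Subgroup R).map R.subtype, Subgroup.map_subtype_le _,
      (Cfsg.Agent.Lib.Lead.sylow_card_facts R q S).1, ?_⟩
    have hSq : IsPGroup q ((S : Subgroup R).map R.subtype) := S.isPGroup'.map _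
    by_cases hpq : p = q
    · intro u hu
      have h1 : u = 1 := by
        obtain ⟨k, hk⟩ := (IsPGroup.iff_orderOf.mp hSq) ⟨u, hu⟩
        rw [Subgroup.orderOf_mk] at hk
        exact Cfsg.Agent.Lib.Helper6.eq_one_of_pElement_of_coprime_card hRc
          (Subgroup.map_subtype_le _ hu) ⟨k, by rw [hk, hpq]⟩
      rw [h1, one_mul, mul_one]
    · exact qc p q hpq hp2 ρ hρ B hB a haB hacen haB' hap hquad hrel _ hSq hS
  have h1 : a ∈ Subgroup.centralizer (R : Set G) := by
    rw [Subgroup.mem_centralizer_iff]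
    intro u hu
    exact hall u hu
  have h2 : a ∈ R := by
    rw [hRdef] at h1 ⊢
    exact centralizer_pPrimeCore_le_of_isPSolvable hG hred h1
  have h3 : orderOf a ∣ p ^ 1 := by
    rw [pow_one]; exact orderOf_dvd_of_pow_eq_one hap
  obtain ⟨k, -, hk⟩ := (Nat.dvd_prime_pow hp).mp h3
  exact Cfsg.Agent.Lib.Helper6.eq_one_of_pElement_of_coprime_card hRc h2 ⟨k, hk⟩

theorem qcg_field {F : Type*} [Field F] (p : ℕ) [Fact p.Prime] [CharP F p] (hp2 : p ≠ 2)
    {G : Type u} [Group G] [Finite G] (hG : Cfsg.IsPSolvable p G) (hred : Cfsg.pCore p G = ⊥)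
    {V : Type v} [AddCommGroup V] [Module F V] [FiniteDimensional F V]
    (ρ : Representation F G V) (hρ : Function.Injective ρ)
    (B : Subgroup G) (hB : IsPGroup p B) (a : G) (haB : a ∈ B) (hacen : ∀ b ∈ B, b * a = a * b)
    (haB' : a ∈ ⁅B, B⁆) (hap : a ^ p = 1)
    (hquad : (ρ a - 1) ^ 2 = 0) (hrel : ∀ b ∈ B, (ρ a - 1) * (ρ b - 1) * (ρ b - 1) = 0) :
    a = 1 := by
  classical
  have : CharP (AlgebraicClosure F) p :=
    charP_of_injective_algebraMap (algebraMap F (AlgebraicClosure F)).injective p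
  have hinj : Function.Injective (Module.End.baseChangeHom F (AlgebraicClosure F) V) :=
    LinearMap.baseChangeHom_injective F V (AlgebraicClosure F)
  obtain ⟨ρK, hρKdef⟩ : ∃ ρK : Representation (AlgebraicClosure F) G (AlgebraicClosure F ⊗[F] V),
      ρK = ((Module.End.baseChangeHom F (AlgebraicClosure F) V : Module.End F V →ₐ[F] _) :
        Module.End F V →* _).comp ρ := ⟨_, rfl⟩
  have hρKapp : ∀ g, ρK g = Module.End.baseChangeHom F (AlgebraicClosure F) V (ρ g) := by
    intro g; rw [hρKdef]; rfl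
  have hρK : Function.Injective ρK := by
    intro x y hxy
    rw [hρKapp, hρKapp] at hxy
    exact hρ (hinj hxy)
  have hsub : ∀ g, ρK g - 1 = Module.End.baseChangeHom F (AlgebraicClosure F) V (ρ g - 1) := by
    intro g
    rw [map_sub, map_one, hρKapp]
  have hquadK : (ρK a - 1) ^ 2 = 0 := by
    rw [hsub, ← map_pow, hquad, map_zero]
  have hrelK : ∀ b ∈ B, (ρK a - 1) * (ρK b - 1) * (ρK b - 1) = 0 := by
    intro b hb
    rw [hsub, hsub, ← map_mul, ← map_mul, hrel b hb, map_zero]
  exact qcg_algClosed p hp2 hG hred ρK hρK B hB a haB hacen haB' hap hquadK hrelK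

end Cfsg.Agent.Lib.Helper8.QC
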