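import Mathlib
import Cfsg.Agent.Lib.Helper8.HW6
import Cfsg.Agent.Lib.Helper8.QC7
import Cfsg.Agent.Lib.Lead.Nilpotent

set_option autoImplicit false

/-! The last term of the derived series of a Sylow `p`-subgroup lies in `O_p(G)` when
`O_p(G)` is elementary abelian and self-centralizing (`p` odd, `G` `p`-solvable). -/

namespace Cfsg.Agent.Lib.Helper8.QC

open Cfsg Cfsg.Agent.Lib.Helper7.NormB Cfsg.Agent.Lib.Helper8.HW
open scoped IsMulCommutative commutatorElement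

universe u

variable {G : Type u} [Group G]

/-- `(conj g - 1) w` is the commutator `[g, w]` -/
theorem conj_sub_one_apply (V : Subgroup G) [hVn : V.Normal] [hVc : IsMulCommutative V] (g : G)
    (w : Additive V) :
    ((Additive.toMul ((conjEndHom V g - 1) w) : V) : G) =
      ⁅g, ((Additive.toMul w : V) : G)⁆ := by
  have h1 : (conjEndHom V g - 1) w = conjEndHom V g w - w := rfl
  rw [h1, toMul_sub, Subgroup.coe_div, conjEndHom_apply, commutatorElement_def, div_eq_mul_inv]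

variable [Finite G] {p : ℕ} [hp : Fact p.Prime]

theorem commutator_le_pCore_of_selfcentralizing (hp2 : p ≠ 2) (hG : IsPSolvable p G)
    (hVc : ∀ a ∈ pCore p G, ∀ b ∈ pCore p G, a * b = b * a)
    (hVe : ∀ a ∈ pCore p G, a ^ p = 1)
    (hCV : ∀ z : G, (∀ v ∈ pCore p G, z * v = v * z) → z ∈ pCore p G)
    (P : Sylow p G) (B : Subgroup G) (hBP : B ≤ (P : Subgroup G))
    (hBn : ∀ x ∈ (P : Subgroup G), ∀ b ∈ B, x * b * x⁻¹ ∈ B)
    (hab : ∀ x ∈ ⁅B, B⁆, ∀ y ∈ ⁅B, B⁆, x * y = y * x) : ⁅B, B⁆ ≤ pCore p G := by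
  classical
  obtain ⟨V, hVdef⟩ : ∃ V : Subgroup G, V = pCore p G := ⟨_, rfl⟩
  rw [← hVdef] at hVc hVe hCV ⊢
  haveI hVn : V.Normal := by rw [hVdef]; exact Cfsg.Agent.Lib.Lead.pCore_normal p
  haveI hVcomm : IsMulCommutative V := ⟨⟨fun a b => Subtype.ext (hVc a a.2 b b.2)⟩⟩
  have hVP : V ≤ (P : Subgroup G) := by
    rw [hVdef]; exact Cfsg.Agent.Lib.Helper6.pCore_le_sylow P
  have inst : Module (ZMod p) (Additive V) := zmodInst V hVe
  have hVpg : IsPGroup p V := by rw [hVdef]; exact Cfsg.Agent.Lib.Lead.pCore_isPGroup p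
  have hOp : pCore p (G ⧸ V) = ⊥ := by
    rw [Cfsg.Agent.Lib.Helper6.pCore_quotient_of_isPGroup V hVpg, ← hVdef]
    exact QuotientGroup.map_mk'_self V
  have hGq : IsPSolvable p (G ⧸ V) := Cfsg.Agent.Lib.Helper7.isPSolvable_quotient hG V
  -- the representation
  obtain ⟨ρ, hρdef⟩ : ∃ ρ : Representation (ZMod p) (G ⧸ V) (Additive V),
      ρ = (linOf p (Additive V)).toMonoidHom.comp (quotAct V) := ⟨_, rfl⟩
  have hρapp : ∀ γ, ρ γ = linOf p (Additive V) (quotAct V γ) := by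
    intro γ; rw [hρdef]; rfl
  have hρinj : Function.Injective ρ := by
    rw [injective_iff_map_eq_one]
    intro γ hγ
    rw [hρapp] at hγ
    have h1 : quotAct V γ = 1 := by
      apply linOf_injective p (Additive V)
      rw [hγ, map_one]
    obtain ⟨g, rfl⟩ := QuotientGroup.mk'_surjective V γ
    apply (QuotientGroup.eq_one_iff g).mpr
    apply hCV
    intro v hv
    have h2 := congrArg (fun E : AddMonoid.End (Additive V) =>
      ((Additive.toMul (E (Additive.ofMul (⟨v, hv⟩ : V))) : V) : G)) h1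
    simp only [quotAct_mk_apply] at h2
    have h3 : g * v * g⁻¹ = v := h2
    calc g * v = (g * v * g⁻¹) * g := by group
      _ = v * g := by rw [h3]
  have hsub : ∀ g : G, ρ (QuotientGroup.mk' V g) - 1 = linOf p (Additive V) (conjEndHom V g - 1) := by
    intro g
    rw [hρapp, quotAct_mk, map_sub, map_one]
  -- the images
  obtain ⟨π, hπdef⟩ : ∃ π : G →* G ⧸ V, π = QuotientGroup.mk' V := ⟨_, rfl⟩
  obtain ⟨Bb, hBbdef⟩ : ∃ Bb : Subgroup (G ⧸ V), Bb = B.map π := ⟨_, rfl⟩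
  have hAb : (⁅B, B⁆ : Subgroup G).map π = ⁅Bb, Bb⁆ := by
    rw [hBbdef, Subgroup.map_commutator]
  have hBbp : IsPGroup p Bb := by
    rw [hBbdef]
    exact (P.2.to_le hBP).map π
  -- it suffices that the image of the commutator subgroup is trivial
  suffices hbot : ⁅Bb, Bb⁆ = ⊥ by
    intro x hx
    have h1 : π x ∈ (⁅B, B⁆ : Subgroup G).map π := Subgroup.mem_map_of_mem _ hx
    rw [hAb, hbot, Subgroup.mem_bot, hπdef] at h1
    exact (QuotientGroup.eq_one_iff x).mp h1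
  by_contra hne
  -- a central element of order `p` in the image of the commutator subgroup
  haveI : Group.IsNilpotent ↥Bb := hBbp.isNilpotent
  haveI hnorm : ((⁅Bb, Bb⁆ : Subgroup (G ⧸ V)).subgroupOf Bb).Normal := by
    have h1 : (⁅Bb, Bb⁆ : Subgroup (G ⧸ V)).subgroupOf Bb = commutator ↥Bb := by
      apply Subgroup.map_injective Bb.subtype_injective
      rw [Subgroup.subgroupOf_map_subtype, inf_eq_left.mpr (Subgroup.commutator_le_self Bb),
        commutator_def, Subgroup.map_commutator, ← MonoidHom.range_eq_map, Subgroup.range_subtype]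
    rw [h1]
    infer_instance
  have hne' : (⁅Bb, Bb⁆ : Subgroup (G ⧸ V)).subgroupOf Bb ≠ ⊥ := by
    intro h
    apply hne
    rw [Subgroup.subgroupOf_eq_bot] at h
    rw [disjoint_iff, inf_eq_left.mpr (Subgroup.commutator_le_self Bb)] at h
    exact h
  have hcen := Cfsg.Agent.Lib.Lead.inf_center_ne_bot _ hne'
  obtain ⟨⟨a', ha'⟩, ha'1⟩ := (Subgroup.ne_bot_iff_exists_ne_one).mp hcen
  have ha'ne : a' ≠ 1 := by
    intro h
    apply ha'1
    exact Subtype.ext h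
  obtain ⟨m, hm⟩ := (IsPGroup.iff_orderOf.mp hBbp) a'
  have hm1 : 1 ≤ m := by
    by_contra hcon
    have hm0 : m = 0 := by omega
    rw [hm0, pow_zero, orderOf_eq_one_iff] at hm
    exact ha'ne hm
  obtain ⟨a'', ha''def⟩ : ∃ a'' : ↥Bb, a'' = a' ^ p ^ (m - 1) := ⟨_, rfl⟩
  have ha''mem : a'' ∈ (⁅Bb, Bb⁆ : Subgroup (G ⧸ V)).subgroupOf Bb ⊓ Subgroup.center ↥Bb := by
    rw [ha''def]; exact Subgroup.pow_mem _ ha' _
  have ha''p : a'' ^ p = 1 := by
    rw [ha''def, ← pow_mul, ← pow_succ, Nat.sub_add_cancel hm1, ← hm, pow_orderOf_eq_one]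
  have ha''ne : a'' ≠ 1 := by
    intro h
    rw [ha''def] at h
    have h1 := orderOf_dvd_of_pow_eq_one h
    rw [hm] at h1
    have h2 := (Nat.pow_dvd_pow_iff_le_right hp.out.one_lt).mp h1
    omega
  obtain ⟨a, hadef⟩ : ∃ a : G ⧸ V, a = (a'' : G ⧸ V) := ⟨_, rfl⟩
  have haBb : a ∈ Bb := by rw [hadef]; exact a''.2
  have haBb' : a ∈ ⁅Bb, Bb⁆ := by
    rw [hadef]
    exact Subgroup.mem_subgroupOf.mp ha''mem.1
  have hacen : ∀ b ∈ Bb, b * a = a * b := by
    intro b hb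
    have h1 := Subgroup.mem_center_iff.mp ha''mem.2 ⟨b, hb⟩
    rw [hadef]
    exact congrArg Subtype.val h1
  have hap : a ^ p = 1 := by
    rw [hadef, ← Subgroup.coe_pow, ha''p, Subgroup.coe_one]
  have hane : a ≠ 1 := by
    rw [hadef]
    intro h
    exact ha''ne (Subtype.ext h)
  -- lifts
  obtain ⟨a₀, ha₀, ha₀a⟩ : ∃ a₀ ∈ ⁅B, B⁆, π a₀ = a := by
    rw [← hAb] at haBb'
    exact haBb'
  have hlift : ∀ b ∈ Bb, ∃ b₀ ∈ B, π b₀ = b := by
    intro b hb
    rw [hBbdef] at hb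
    exact hb
  -- P normalizes ⁅B, B⁆
  have hAn : ∀ x ∈ (P : Subgroup G), ∀ y ∈ ⁅B, B⁆, x * y * x⁻¹ ∈ ⁅B, B⁆ := by
    intro x hx y hy
    have h2 : (⁅B, B⁆ : Subgroup G).map (MulAut.conj x).toMonoidHom ≤ ⁅B, B⁆ := by
      rw [Subgroup.map_commutator]
      have h3 : B.map (MulAut.conj x).toMonoidHom ≤ B := by
        rintro _ ⟨s, hs, rfl⟩
        exact hBn x hx s hs
      exact Subgroup.commutator_mono h3 h3
    exact h2 ⟨y, hy, rfl⟩
  -- commutators with elements of V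
  have hcomB : ∀ b ∈ B, ∀ v ∈ (P : Subgroup G), ⁅b, v⁆ ∈ B := by
    intro b hb v hv
    rw [commutatorElement_def]
    have h1 : v * b⁻¹ * v⁻¹ ∈ B := hBn v hv _ (B.inv_mem hb)
    have h2 : b * v * b⁻¹ * v⁻¹ = b * (v * b⁻¹ * v⁻¹) := by group
    rw [h2]
    exact B.mul_mem hb h1
  have hcomA : ∀ y ∈ ⁅B, B⁆, ∀ v ∈ (P : Subgroup G), ⁅y, v⁆ ∈ ⁅B, B⁆ := by
    intro y hy v hv
    rw [commutatorElement_def]
    have h1 : v * y⁻¹ * v⁻¹ ∈ ⁅B, B⁆ := hAn v hv _ (Subgroup.inv_mem _ hy)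
    have h2 : y * v * y⁻¹ * v⁻¹ = y * (v * y⁻¹ * v⁻¹) := by group
    rw [h2]
    exact Subgroup.mul_mem _ hy h1
  have hzero : ∀ E : AddMonoid.End (Additive V),
      (∀ w : Additive V, ((Additive.toMul (E w) : V) : G) = 1) → E = 0 := by
    intro E hE
    refine DFunLike.ext _ _ (fun w => ?_)
    apply Additive.toMul.injective
    apply Subtype.ext
    rw [hE w]
    rfl
  have hquad : (ρ a - 1) ^ 2 = 0 := by
    rw [← ha₀a, hπdef, hsub, ← map_pow]
    have h1 : (conjEndHom V a₀ - 1) ^ 2 = 0 := by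
      apply hzero
      intro w
      rw [pow_two]
      show ((Additive.toMul ((conjEndHom V a₀ - 1) ((conjEndHom V a₀ - 1) w)) : V) : G) = 1
      rw [conj_sub_one_apply, conj_sub_one_apply]
      have h2 : ⁅a₀, ((Additive.toMul w : V) : G)⁆ ∈ ⁅B, B⁆ :=
        hcomA a₀ ha₀ _ (hVP (Additive.toMul w).2)
      rw [commutatorElement_eq_one_iff_mul_comm]
      exact hab _ ha₀ _ h2
    rw [h1, map_zero]
  have hrel : ∀ b ∈ Bb, (ρ a - 1) * (ρ b - 1) * (ρ b - 1) = 0 := by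
    intro b hb
    obtain ⟨b₀, hb₀, hb₀b⟩ := hlift b hb
    rw [← ha₀a, ← hb₀b, hπdef, hsub, hsub, ← map_mul, ← map_mul]
    have h1 : (conjEndHom V a₀ - 1) * (conjEndHom V b₀ - 1) * (conjEndHom V b₀ - 1) = 0 := by
      apply hzero
      intro w
      show ((Additive.toMul ((conjEndHom V a₀ - 1) ((conjEndHom V b₀ - 1)
        ((conjEndHom V b₀ - 1) w))) : V) : G) = 1
      rw [conj_sub_one_apply, conj_sub_one_apply, conj_sub_one_apply]
      have h2 : ⁅b₀, ((Additive.toMul w : V) : G)⁆ ∈ B :=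
        hcomB b₀ hb₀ _ (hVP (Additive.toMul w).2)
      have h3 : ⁅b₀, ⁅b₀, ((Additive.toMul w : V) : G)⁆⁆ ∈ ⁅B, B⁆ :=
        Subgroup.commutator_mem_commutator hb₀ h2
      rw [commutatorElement_eq_one_iff_mul_comm]
      exact hab _ ha₀ _ h3
    rw [h1, map_zero]
  exact hane (qcg_field p hp2 hGq hOp ρ hρinj Bb hBbp a haBb hacen haBb' hap hquad hrel)

end Cfsg.Agent.Lib.Helper8.QC
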