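import Mathlib
import Cfsg.Agent.Lib.Helper8.QC8

set_option autoImplicit false

/-! The commutator subgroup of a normal subgroup `B` of a Sylow `p`-subgroup lies in
`O_{p',p}(G)` when it is abelian (`p` odd, `G` `p`-solvable). -/

namespace Cfsg.Agent.Lib.Helper8.QC

open Cfsg Cfsg.Agent.Lib.Helper7 Cfsg.Agent.Lib.Helper8.HW
open scoped commutatorElement

universe u

variable {G : Type u} [Group G] [Finite G] {p : ℕ} [hp : Fact p.Prime]

/-- transport of the hypotheses along a quotient map -/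
theorem quot_hyps (N : Subgroup G) [N.Normal] (P : Sylow p G) (B : Subgroup G)
    (hBP : B ≤ (P : Subgroup G))
    (hBn : ∀ x ∈ (P : Subgroup G), ∀ b ∈ B, x * b * x⁻¹ ∈ B)
    (hab : ∀ x ∈ ⁅B, B⁆, ∀ y ∈ ⁅B, B⁆, x * y = y * x) :
    B.map (QuotientGroup.mk' N) ≤
      ((P.mapSurjective (QuotientGroup.mk'_surjective N) : Sylow p (G ⧸ N)) : Subgroup (G ⧸ N)) ∧
    (∀ x ∈ ((P.mapSurjective (QuotientGroup.mk'_surjective N) : Sylow p (G ⧸ N)) :
        Subgroup (G ⧸ N)), ∀ b ∈ B.map (QuotientGroup.mk' N),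
      x * b * x⁻¹ ∈ B.map (QuotientGroup.mk' N)) ∧
    (∀ x ∈ ⁅B.map (QuotientGroup.mk' N), B.map (QuotientGroup.mk' N)⁆,
      ∀ y ∈ ⁅B.map (QuotientGroup.mk' N), B.map (QuotientGroup.mk' N)⁆, x * y = y * x) := by
  have hcoe : ((P.mapSurjective (QuotientGroup.mk'_surjective N) : Sylow p (G ⧸ N)) :
      Subgroup (G ⧸ N)) = (P : Subgroup G).map (QuotientGroup.mk' N) :=
    Sylow.coe_mapSurjective (QuotientGroup.mk'_surjective N) P
  rw [hcoe]
  refine ⟨Subgroup.map_mono hBP, ?_, ?_⟩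
  · rintro _ ⟨x, hx, rfl⟩ _ ⟨b, hb, rfl⟩
    refine ⟨x * b * x⁻¹, hBn x hx b hb, ?_⟩
    rw [map_mul, map_mul, map_inv]
  · rw [← Subgroup.map_commutator]
    rintro _ ⟨x, hx, rfl⟩ _ ⟨y, hy, rfl⟩
    rw [← map_mul, ← map_mul, hab x hx y hy]

theorem commutator_le_pCore_of_bot (hp2 : p ≠ 2) (hG : IsPSolvable p G)
    (hO : pPrimeCore p G = ⊥)
    (P : Sylow p G) (B : Subgroup G) (hBP : B ≤ (P : Subgroup G))
    (hBn : ∀ x ∈ (P : Subgroup G), ∀ b ∈ B, x * b * x⁻¹ ∈ B)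
    (hab : ∀ x ∈ ⁅B, B⁆, ∀ y ∈ ⁅B, B⁆, x * y = y * x) : ⁅B, B⁆ ≤ pCore p G := by
  intro x hx
  apply FrattRed.mem_pCore_of_mk_mem p
  obtain ⟨h1, h2, h3⟩ := quot_hyps (FrattRed.phi p G) P B hBP hBn hab
  have h4 := commutator_le_pCore_of_selfcentralizing hp2 (isPSolvable_quotient hG _)
    FrattRed.quot_comm FrattRed.quot_exp (FrattRed.quot_selfcentralizing hG hO)
    (P.mapSurjective (QuotientGroup.mk'_surjective (FrattRed.phi p G))) _ h1 h2 h3
  apply h4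
  rw [← Subgroup.map_commutator]
  exact Subgroup.mem_map_of_mem _ hx

theorem commutator_le_pPrimePCore (hp2 : p ≠ 2) (hG : IsPSolvable p G)
    (P : Sylow p G) (B : Subgroup G) (hBP : B ≤ (P : Subgroup G))
    (hBn : ∀ x ∈ (P : Subgroup G), ∀ b ∈ B, x * b * x⁻¹ ∈ B)
    (hab : ∀ x ∈ ⁅B, B⁆, ∀ y ∈ ⁅B, B⁆, x * y = y * x) : ⁅B, B⁆ ≤ pPrimePCore p G := by
  obtain ⟨N, hNdef⟩ : ∃ N : Subgroup G, N = pPrimeCore p G := ⟨_, rfl⟩
  haveI hNn : N.Normal := by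
    rw [hNdef]; exact (Cfsg.Agent.Lib.Helper6.pPrimeCore_mem_set p).1
  have hO : pPrimeCore p (G ⧸ N) = ⊥ := by
    subst hNdef
    exact Cfsg.Agent.Lib.Lead.PStabQuot.pPrimeCore_quotient_eq_bot p
  obtain ⟨h1, h2, h3⟩ := quot_hyps N P B hBP hBn hab
  have h4 := commutator_le_pCore_of_bot hp2 (isPSolvable_quotient hG N) hO
    (P.mapSurjective (QuotientGroup.mk'_surjective N)) _ h1 h2 h3
  intro x hx
  have h5 : (QuotientGroup.mk' N) x ∈ pCore p (G ⧸ N) := by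
    apply h4
    rw [← Subgroup.map_commutator]
    exact Subgroup.mem_map_of_mem _ hx
  unfold pPrimePCore
  rw [Subgroup.mem_comap]
  subst hNdef
  exact h5

/-- an abelian Sylow `p`-subgroup lies in `O_{p',p}(G)` -/
theorem abelian_sylow_le_pPrimePCore (hG : IsPSolvable p G)
    (P : Sylow p G) (hab : ∀ x ∈ (P : Subgroup G), ∀ y ∈ (P : Subgroup G), x * y = y * x) :
    (P : Subgroup G) ≤ pPrimePCore p G := by
  obtain ⟨N, hNdef⟩ : ∃ N : Subgroup G, N = pPrimeCore p G := ⟨_, rfl⟩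
  haveI hNn : N.Normal := by
    rw [hNdef]; exact (Cfsg.Agent.Lib.Helper6.pPrimeCore_mem_set p).1
  have hO : pPrimeCore p (G ⧸ N) = ⊥ := by
    subst hNdef
    exact Cfsg.Agent.Lib.Lead.PStabQuot.pPrimeCore_quotient_eq_bot p
  have hGq : IsPSolvable p (G ⧸ N) := isPSolvable_quotient hG N
  have hcoe : ((P.mapSurjective (QuotientGroup.mk'_surjective N) : Sylow p (G ⧸ N)) :
      Subgroup (G ⧸ N)) = (P : Subgroup G).map (QuotientGroup.mk' N) :=
    Sylow.coe_mapSurjective (QuotientGroup.mk'_surjective N) P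
  have hle : pCore p (G ⧸ N) ≤ (P : Subgroup G).map (QuotientGroup.mk' N) := by
    rw [← hcoe]
    exact Cfsg.Agent.Lib.Helper6.pCore_le_sylow _
  intro x hx
  have h5 : (QuotientGroup.mk' N) x ∈ pCore p (G ⧸ N) := by
    apply Cfsg.Agent.Lib.Helper4.centralizer_pCore_le_of_isPSolvable hGq hO
    rw [Subgroup.mem_centralizer_iff]
    intro v hv
    obtain ⟨y, hy, rfl⟩ := hle hv
    rw [← map_mul, ← map_mul, hab y hy x hx]
  unfold pPrimePCore
  rw [Subgroup.mem_comap]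
  subst hNdef
  exact h5

end Cfsg.Agent.Lib.Helper8.QC
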