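import Mathlib
import Cfsg.Agent.Lib.Helper8.QC9
import Cfsg.Agent.Lib.Helper2.PSeries

set_option autoImplicit false

/-! The `p`-length of a `p`-solvable group (`p` odd) is at most the derived length of its Sylow
`p`-subgroups. -/

namespace Cfsg.Agent.Lib.Helper8.QC

open Cfsg Cfsg.Agent.Lib.Helper7
open scoped commutatorElement

universe u

variable {p : ℕ} [hp : Fact p.Prime]

/-- the term `d` of the derived series of a Sylow `p`-subgroup, whose derived length is at most
`d + 1`, lies in `O_{p',p}(G)` -/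
theorem derivedSeries_le_pPrimePCore {G : Type u} [Group G] [Finite G] (hp2 : p ≠ 2)
    (hG : IsPSolvable p G) (P : Sylow p G) (d : ℕ)
    (hP : derivedSeries ↥(P : Subgroup G) (d + 1) = ⊥) :
    (derivedSeries ↥(P : Subgroup G) d).map (P : Subgroup G).subtype ≤ pPrimePCore p G := by
  rcases Nat.eq_zero_or_pos d with hd | hd
  · subst hd
    rw [derivedSeries_zero, ← MonoidHom.range_eq_map, Subgroup.range_subtype]
    apply abelian_sylow_le_pPrimePCore hG P
    intro x hx y hy
    rw [zero_add, derivedSeries_one, commutator_eq_bot_iff_center_eq_top] at hP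
    have h1 : (⟨x, hx⟩ : ↥(P : Subgroup G)) ∈ Subgroup.center ↥(P : Subgroup G) := by
      rw [hP]; trivial
    have h2 := Subgroup.mem_center_iff.mp h1 ⟨y, hy⟩
    exact (congrArg Subtype.val h2).symm
  · obtain ⟨d', rfl⟩ : ∃ d', d = d' + 1 := ⟨d - 1, by omega⟩
    obtain ⟨B, hBdef⟩ : ∃ B : Subgroup G,
        B = (derivedSeries ↥(P : Subgroup G) d').map (P : Subgroup G).subtype := ⟨_, rfl⟩
    have hA : (derivedSeries ↥(P : Subgroup G) (d' + 1)).map (P : Subgroup G).subtype = ⁅B, B⁆ := by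
      rw [derivedSeries_succ, Subgroup.map_commutator, hBdef]
    rw [hA]
    have hBP : B ≤ (P : Subgroup G) := by
      rw [hBdef]; exact Subgroup.map_subtype_le _
    have hBn : ∀ x ∈ (P : Subgroup G), ∀ b ∈ B, x * b * x⁻¹ ∈ B := by
      intro x hx b hb
      rw [hBdef] at hb ⊢
      obtain ⟨b', hb', rfl⟩ := hb
      haveI : (derivedSeries ↥(P : Subgroup G) d').Normal := derivedSeries_normal _ d'
      refine ⟨⟨x, hx⟩ * b' * ⟨x, hx⟩⁻¹, ?_, rfl⟩
      exact (derivedSeries_normal ↥(P : Subgroup G) d').conj_mem b' hb' ⟨x, hx⟩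
    have hab : ∀ x ∈ ⁅B, B⁆, ∀ y ∈ ⁅B, B⁆, x * y = y * x := by
      have h1 : ⁅(⁅B, B⁆ : Subgroup G), ⁅B, B⁆⁆ = ⊥ := by
        rw [← hA, ← Subgroup.map_commutator, ← derivedSeries_succ, hP, Subgroup.map_bot]
      intro x hx y hy
      have h2 : ⁅x, y⁆ ∈ ⁅(⁅B, B⁆ : Subgroup G), ⁅B, B⁆⁆ := Subgroup.commutator_mem_commutator hx hy
      rw [h1, Subgroup.mem_bot, commutatorElement_eq_one_iff_mul_comm] at h2
      exact h2
    exact commutator_le_pPrimePCore hp2 hG P B hBP hBn hab

theorem pLengthLE_of_derivedSeries (hp2 : p ≠ 2) : ∀ (d : ℕ) (G : Type u) [Group G] [Finite G],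
    IsPSolvable p G → (∃ P : Sylow p G, derivedSeries ↥(P : Subgroup G) d = ⊥) →
    PLengthLE p d G := by
  intro d
  induction d with
  | zero =>
    intro G _ _ hG hP
    obtain ⟨P, hP⟩ := hP
    apply Cfsg.Agent.Lib.Helper2.PSeries.pLengthLE_zero_of_coprime
    rw [derivedSeries_zero] at hP
    haveI : Subsingleton (Subgroup ↥(P : Subgroup G)) := subsingleton_of_bot_eq_top hP.symm
    haveI : Subsingleton ↥(P : Subgroup G) := Subgroup.subsingleton_iff.mp inferInstance
    have h1 : (P : Subgroup G) = ⊥ := Subgroup.eq_bot_of_subsingleton _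
    have h2 : ¬ p ∣ (P : Subgroup G).index := P.not_dvd_index
    rw [h1, Subgroup.index_bot] at h2
    rw [Nat.coprime_comm, Nat.Prime.coprime_iff_not_dvd hp.out]
    exact h2
  | succ d ih =>
    intro G _ _ hG hP
    obtain ⟨P, hP⟩ := hP
    haveI hMn : (pPrimePCore p G).Normal := by
      unfold pPrimePCore
      haveI : (pPrimeCore p G).Normal := (Cfsg.Agent.Lib.Helper6.pPrimeCore_mem_set p).1
      haveI : (pCore p (G ⧸ pPrimeCore p G)).Normal := Cfsg.Agent.Lib.Lead.pCore_normal p
      infer_instance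
    apply Cfsg.Agent.Lib.Helper2.PSeries.pLengthLE_succ_of_quotient
    apply ih _ (isPSolvable_quotient hG _)
    have hle := derivedSeries_le_pPrimePCore hp2 hG P d hP
    refine ⟨P.mapSurjective (QuotientGroup.mk'_surjective (pPrimePCore p G)), ?_⟩
    show derivedSeries ↥((P : Subgroup G).map (QuotientGroup.mk' (pPrimePCore p G))) d = ⊥
    have hsurj := MonoidHom.subgroupMap_surjective (QuotientGroup.mk' (pPrimePCore p G))
      (P : Subgroup G)
    rw [← map_derivedSeries_eq hsurj d, eq_bot_iff]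
    rintro _ ⟨x, hx, rfl⟩
    rw [Subgroup.mem_bot]
    apply Subtype.ext
    show (QuotientGroup.mk' (pPrimePCore p G)) (x : G) = 1
    rw [QuotientGroup.mk'_apply, QuotientGroup.eq_one_iff]
    exact hle ⟨x, hx, rfl⟩

end Cfsg.Agent.Lib.Helper8.QC
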