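import Mathlib

/-! Two square-zero endomorphisms `s, t` with `st + ts` invertible: matrix units. -/

set_option autoImplicit false
set_option linter.unusedSectionVars false

namespace Cfsg.Agent.Lib.Helper8.Qp

variable {k : Type*} [Field k] {V : Type*} [AddCommGroup V] [Module k V]
variable {R : Type*} [CommRing R] [Algebra k R]

/-- the data: `θ : R → End V` central for `s, t`, with `θ α = st + ts` and `α` a unit -/
structure Frame (θ : R →ₐ[k] Module.End k V) (s t : Module.End k V) (α β : R) : Prop where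
  ss : s * s = 0
  tt : t * t = 0
  unit : α * β = 1
  hz : θ α = s * t + t * s
  cs : ∀ r, θ r * s = s * θ r
  ct : ∀ r, θ r * t = t * θ r

variable {θ : R →ₐ[k] Module.End k V} {s t : Module.End k V} {α β : R}

namespace Frame

variable (F : Frame θ s t α β)
include F

theorem ba : θ β * θ α = 1 := by
  rw [← map_mul, mul_comm, F.unit, map_one]

theorem ab : θ α * θ β = 1 := by
  rw [← map_mul, F.unit, map_one]

theorem sts : s * t * s = θ α * s := by
  rw [F.hz, add_mul, mul_assoc t s s, F.ss, mul_zero, add_zero]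

theorem tst : t * s * t = θ α * t := by
  rw [F.hz, add_mul, mul_assoc s t t, F.tt, mul_zero, zero_add]

theorem cc (a b : R) : θ a * θ b = θ b * θ a := by
  rw [← map_mul, ← map_mul, mul_comm]

end Frame

/-- the lower left matrix unit -/
def tp (θ : R →ₐ[k] Module.End k V) (t : Module.End k V) (β : R) : Module.End k V := θ β * t

/-- the upper left idempotent -/
def ee (θ : R →ₐ[k] Module.End k V) (s t : Module.End k V) (β : R) : Module.End k V := s * tp θ t β

/-- the lower right idempotent -/
def ff (θ : R →ₐ[k] Module.End k V) (s t : Module.End k V) (β : R) : Module.End k V := tp θ t β * s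

namespace Frame

variable (F : Frame θ s t α β)
include F

theorem c_tp (r : R) : θ r * tp θ t β = tp θ t β * θ r := by
  unfold tp
  rw [← mul_assoc, F.cc r β, mul_assoc, F.ct r, mul_assoc]

theorem c_ee (r : R) : θ r * ee θ s t β = ee θ s t β * θ r := by
  unfold ee
  rw [← mul_assoc, F.cs r, mul_assoc, F.c_tp r, mul_assoc]

theorem c_ff (r : R) : θ r * ff θ s t β = ff θ s t β * θ r := by
  unfold ff
  rw [← mul_assoc, F.c_tp r, mul_assoc, F.cs r, mul_assoc]

theorem tp_tp : tp θ t β * tp θ t β = 0 := by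
  unfold tp
  rw [mul_assoc, ← mul_assoc t, ← F.ct β, mul_assoc, F.tt, mul_zero, mul_zero]

theorem ee_add_ff : ee θ s t β + ff θ s t β = 1 := by
  unfold ee ff tp
  rw [← mul_assoc, ← F.cs β, mul_assoc, mul_assoc, ← mul_add, ← F.hz, F.ba]

theorem ee_s : ee θ s t β * s = s := by
  unfold ee tp
  rw [← mul_assoc, ← F.cs β, mul_assoc, mul_assoc, ← mul_assoc s t s, F.sts, ← mul_assoc, F.ba, one_mul]

theorem s_ee : s * ee θ s t β = 0 := by
  unfold ee
  rw [← mul_assoc, F.ss, zero_mul]

theorem ff_s : ff θ s t β * s = 0 := by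
  unfold ff
  rw [mul_assoc, F.ss, mul_zero]

theorem s_ff : s * ff θ s t β = s := by
  unfold ff
  rw [← mul_assoc]
  exact F.ee_s

theorem tp_s_tp : tp θ t β * s * tp θ t β = tp θ t β := by
  show θ β * t * s * (θ β * t) = θ β * t
  calc θ β * t * s * (θ β * t) = θ β * t * (s * θ β) * t := by simp only [mul_assoc]
    _ = θ β * t * (θ β * s) * t := by rw [F.cs β]
    _ = θ β * (t * θ β) * s * t := by simp only [mul_assoc]
    _ = θ β * (θ β * t) * s * t := by rw [F.ct β]
    _ = θ β * θ β * (t * s * t) := by simp only [mul_assoc]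
    _ = θ β * θ β * (θ α * t) := by rw [F.tst]
    _ = θ β * (θ β * θ α) * t := by simp only [mul_assoc]
    _ = θ β * t := by rw [F.ba, mul_one]

theorem ff_tp : ff θ s t β * tp θ t β = tp θ t β := by
  unfold ff
  exact F.tp_s_tp

theorem tp_ee : tp θ t β * ee θ s t β = tp θ t β := by
  unfold ee
  rw [← mul_assoc]
  exact F.tp_s_tp

theorem ee_tp : ee θ s t β * tp θ t β = 0 := by
  unfold ee
  rw [mul_assoc, F.tp_tp, mul_zero]

theorem tp_ff : tp θ t β * ff θ s t β = 0 := by
  unfold ff
  rw [← mul_assoc, F.tp_tp, zero_mul]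

theorem ee_ee : ee θ s t β * ee θ s t β = ee θ s t β := by
  show s * tp θ t β * (s * tp θ t β) = s * tp θ t β
  rw [mul_assoc, ← mul_assoc (tp θ t β) s, F.tp_s_tp]

theorem ff_ff : ff θ s t β * ff θ s t β = ff θ s t β := by
  show tp θ t β * s * (tp θ t β * s) = tp θ t β * s
  rw [← mul_assoc, F.tp_s_tp]

theorem ee_ff : ee θ s t β * ff θ s t β = 0 := by
  unfold ee
  rw [mul_assoc, F.tp_ff, mul_zero]

theorem ff_ee : ff θ s t β * ee θ s t β = 0 := by
  unfold ff
  rw [mul_assoc, F.s_ee, mul_zero]

theorem s_tp : s * tp θ t β = ee θ s t β := rfl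

theorem tp_s : tp θ t β * s = ff θ s t β := rfl

end Frame

end Cfsg.Agent.Lib.Helper8.Qp
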