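import Mathlib
import Cfsg.Agent.Lib.Helper8.St4

/-! `SL₂` over a commutative ring: elementary matrices and entry formulas. -/

set_option autoImplicit false
set_option linter.unusedSectionVars false

namespace Cfsg.Agent.Lib.Helper8.Sr

open Matrix

variable {R : Type*} [CommRing R]

def xR (u : R) : SpecialLinearGroup (Fin 2) R := ⟨!![1, u; 0, 1], by simp [Matrix.det_fin_two]⟩

def yR (u : R) : SpecialLinearGroup (Fin 2) R := ⟨!![1, 0; u, 1], by simp [Matrix.det_fin_two]⟩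

theorem ext2 {g g' : SpecialLinearGroup (Fin 2) R} (h00 : g.1 0 0 = g'.1 0 0)
    (h01 : g.1 0 1 = g'.1 0 1) (h10 : g.1 1 0 = g'.1 1 0) (h11 : g.1 1 1 = g'.1 1 1) : g = g' := by
  apply Subtype.ext
  ext i j
  fin_cases i <;> fin_cases j <;> assumption

theorem mul_00 (g g' : SpecialLinearGroup (Fin 2) R) :
    (g * g').1 0 0 = g.1 0 0 * g'.1 0 0 + g.1 0 1 * g'.1 1 0 := by
  show (g.1 * g'.1) 0 0 = _
  rw [Matrix.mul_apply, Fin.sum_univ_two]

theorem mul_01 (g g' : SpecialLinearGroup (Fin 2) R) :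
    (g * g').1 0 1 = g.1 0 0 * g'.1 0 1 + g.1 0 1 * g'.1 1 1 := by
  show (g.1 * g'.1) 0 1 = _
  rw [Matrix.mul_apply, Fin.sum_univ_two]

theorem mul_10 (g g' : SpecialLinearGroup (Fin 2) R) :
    (g * g').1 1 0 = g.1 1 0 * g'.1 0 0 + g.1 1 1 * g'.1 1 0 := by
  show (g.1 * g'.1) 1 0 = _
  rw [Matrix.mul_apply, Fin.sum_univ_two]

theorem mul_11 (g g' : SpecialLinearGroup (Fin 2) R) :
    (g * g').1 1 1 = g.1 1 0 * g'.1 0 1 + g.1 1 1 * g'.1 1 1 := by
  show (g.1 * g'.1) 1 1 = _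
  rw [Matrix.mul_apply, Fin.sum_univ_two]

theorem det2 (g : SpecialLinearGroup (Fin 2) R) :
    g.1 0 0 * g.1 1 1 - g.1 0 1 * g.1 1 0 = 1 := by
  have := g.2
  rwa [Matrix.det_fin_two] at this

@[simp] theorem xR_00 (u : R) : (xR u).1 0 0 = 1 := rfl
@[simp] theorem xR_01 (u : R) : (xR u).1 0 1 = u := rfl
@[simp] theorem xR_10 (u : R) : (xR u).1 1 0 = 0 := rfl
@[simp] theorem xR_11 (u : R) : (xR u).1 1 1 = 1 := rfl
@[simp] theorem yR_00 (u : R) : (yR u).1 0 0 = 1 := rfl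
@[simp] theorem yR_01 (u : R) : (yR u).1 0 1 = 0 := rfl
@[simp] theorem yR_10 (u : R) : (yR u).1 1 0 = u := rfl
@[simp] theorem yR_11 (u : R) : (yR u).1 1 1 = 1 := rfl

theorem xR_add (s t : R) : xR (s + t) = xR s * xR t := by
  apply ext2
  · rw [mul_00]; simp
  · rw [mul_01]; simp [add_comm]
  · rw [mul_10]; simp
  · rw [mul_11]; simp

theorem yR_add (s t : R) : yR (s + t) = yR s * yR t := by
  apply ext2
  · rw [mul_00]; simp
  · rw [mul_01]; simp
  · rw [mul_10]; simp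
  · rw [mul_11]; simp

theorem xR_zero : xR (0 : R) = 1 := by
  apply ext2 <;> simp

theorem yR_zero : yR (0 : R) = 1 := by
  apply ext2 <;> simp

theorem xR_inv (t : R) : (xR t)⁻¹ = xR (-t) := by
  rw [inv_eq_iff_mul_eq_one, ← xR_add, add_neg_cancel, xR_zero]

theorem yR_inv (t : R) : (yR t)⁻¹ = yR (-t) := by
  rw [inv_eq_iff_mul_eq_one, ← yR_add, add_neg_cancel, yR_zero]

/-- second column of `xR c * g` -/
theorem xR_mul_01 (c : R) (g : SpecialLinearGroup (Fin 2) R) :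
    (xR c * g).1 0 1 = g.1 0 1 + c * g.1 1 1 := by
  rw [mul_01]; simp
theorem xR_mul_11 (c : R) (g : SpecialLinearGroup (Fin 2) R) :
    (xR c * g).1 1 1 = g.1 1 1 := by
  rw [mul_11]; simp
theorem yR_mul_01 (c : R) (g : SpecialLinearGroup (Fin 2) R) :
    (yR c * g).1 0 1 = g.1 0 1 := by
  rw [mul_01]; simp
theorem yR_mul_11 (c : R) (g : SpecialLinearGroup (Fin 2) R) :
    (yR c * g).1 1 1 = g.1 1 1 + c * g.1 0 1 := by
  rw [mul_11]; simp [add_comm]

/-- conjugating `xR t` by an upper triangular matrix -/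
theorem upper_mul_xR (s : SpecialLinearGroup (Fin 2) R) (hs : s.1 1 0 = 0) (t : R) :
    s * xR t = xR (s.1 0 0 ^ 2 * t) * s := by
  have hd := det2 s
  rw [hs, mul_zero, sub_zero] at hd
  apply ext2
  · rw [mul_00, mul_00]; simp [hs]
  · rw [mul_01, mul_01]; simp
    have : s.1 0 0 ^ 2 * t * s.1 1 1 = s.1 0 0 * t * (s.1 0 0 * s.1 1 1) := by ring
    rw [this, hd]; ring
  · rw [mul_10, mul_10]; simp [hs]
  · rw [mul_11, mul_11]; simp [hs]

/-- the diagonal matrices -/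
def dR (u v : R) (h : u * v = 1) : SpecialLinearGroup (Fin 2) R :=
  ⟨!![u, 0; 0, v], by simp [Matrix.det_fin_two, h]⟩

@[simp] theorem dR_00 (u v : R) (h : u * v = 1) : (dR u v h).1 0 0 = u := rfl
@[simp] theorem dR_01 (u v : R) (h : u * v = 1) : (dR u v h).1 0 1 = 0 := rfl
@[simp] theorem dR_10 (u v : R) (h : u * v = 1) : (dR u v h).1 1 0 = 0 := rfl
@[simp] theorem dR_11 (u v : R) (h : u * v = 1) : (dR u v h).1 1 1 = v := rfl

theorem dR_mul_xR (u v : R) (h : u * v = 1) (t : R) :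
    dR u v h * xR t = xR (u ^ 2 * t) * dR u v h := by
  have := upper_mul_xR (dR u v h) rfl t
  simpa using this

theorem dR_mul_yR (u v : R) (h : u * v = 1) (t : R) :
    dR u v h * yR t = yR (v ^ 2 * t) * dR u v h := by
  apply ext2
  · rw [mul_00, mul_00]; simp
  · rw [mul_01, mul_01]; simp
  · rw [mul_10, mul_10]; simp
    have : v ^ 2 * t * u = v * t * (u * v) := by ring
    rw [this, h]; ring
  · rw [mul_11, mul_11]; simp

/-- a conjugation formula -/
theorem conj_xR_eq_yR (α β : R) (hαβ : α * β = 1) (t : R) :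
    (xR (-β) * yR α) * xR t = yR (-(t * α ^ 2)) * (xR (-β) * yR α) := by
  have h1 : β * α = 1 := by rw [mul_comm]; exact hαβ
  apply ext2
  · simp only [mul_00, mul_01, mul_10, mul_11, xR_00, xR_01, xR_10, xR_11, yR_00, yR_01, yR_10, yR_11]
    ring
  · simp only [mul_00, mul_01, mul_10, mul_11, xR_00, xR_01, xR_10, xR_11, yR_00, yR_01, yR_10, yR_11]
    linear_combination (-t) * h1
  · simp only [mul_00, mul_01, mul_10, mul_11, xR_00, xR_01, xR_10, xR_11, yR_00, yR_01, yR_10, yR_11]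
    linear_combination (-(t * α ^ 2)) * h1
  · simp only [mul_00, mul_01, mul_10, mul_11, xR_00, xR_01, xR_10, xR_11, yR_00, yR_01, yR_10, yR_11]
    linear_combination (-(t * α)) * h1

theorem xR_eq_xS {F : Type*} [Field F] (u : F) : xR u = Cfsg.Agent.Lib.Helper8.St.xS u := rfl
theorem yR_eq_yS {F : Type*} [Field F] (u : F) : yR u = Cfsg.Agent.Lib.Helper8.St.yS u := rfl

end Cfsg.Agent.Lib.Helper8.Sr
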