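import Mathlib
import Cfsg.Agent.Lib.Helper8.Sr1

/-! The filtration of `k[α]` by degree. -/

set_option autoImplicit false
set_option linter.unusedSectionVars false

namespace Cfsg.Agent.Lib.Helper8.Sr

open Polynomial

variable {k R : Type*} [Field k] [CommRing R] [Algebra k R] (α : R)

/-- polynomials of degree `< j` -/
def DL (k : Type*) [Field k] (j : ℕ) : Set k[X] := {p | ∀ i, j ≤ i → p.coeff i = 0}

theorem DL_mono {j j' : ℕ} (h : j ≤ j') {p : k[X]} (hp : p ∈ DL k j) : p ∈ DL k j' :=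
  fun i hi => hp i (le_trans h hi)

theorem DL_zero {p : k[X]} (hp : p ∈ DL k 0) : p = 0 := by
  ext i; rw [hp i (Nat.zero_le _)]; simp

theorem zero_mem_DL (j : ℕ) : (0 : k[X]) ∈ DL k j := fun i _ => by simp

theorem DL_add {j : ℕ} {p q : k[X]} (hp : p ∈ DL k j) (hq : q ∈ DL k j) : p + q ∈ DL k j :=
  fun i hi => by rw [coeff_add, hp i hi, hq i hi, add_zero]

theorem DL_smul {j : ℕ} (c : k) {p : k[X]} (hp : p ∈ DL k j) : c • p ∈ DL k j :=
  fun i hi => by rw [coeff_smul, hp i hi, smul_zero]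

theorem DL_X_mul {j : ℕ} {p : k[X]} (hp : p ∈ DL k j) : X * p ∈ DL k (j + 1) := by
  intro i hi
  obtain ⟨i', rfl⟩ : ∃ i', i = i' + 1 := ⟨i - 1, by omega⟩
  rw [coeff_X_mul, hp i' (by omega)]

theorem DL_one {p : k[X]} (hp : p ∈ DL k 1) : p = C (p.coeff 0) := by
  ext i
  rcases Nat.eq_zero_or_pos i with rfl | hi
  · simp
  · rw [hp i hi, coeff_C, if_neg (by omega)]

theorem C_mem_DL (c : k) : C c ∈ DL k 1 := by
  intro i hi
  rw [coeff_C, if_neg (by omega)]

theorem X_pow_mem_DL {i j : ℕ} (h : i < j) : (X ^ i : k[X]) ∈ DL k j := by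
  intro l hl
  rw [coeff_X_pow, if_neg (by omega)]

/-- lowering the degree bound when the top coefficient vanishes -/
theorem DL_of_coeff {j : ℕ} {p : k[X]} (hp : p ∈ DL k (j + 1)) (h : p.coeff j = 0) : p ∈ DL k j := by
  intro i hi
  rcases Nat.eq_or_lt_of_le hi with rfl | hlt
  · exact h
  · exact hp i hlt

/-- `V j`: values at `α` of polynomials of degree `< j` -/
def V (j : ℕ) : Submodule k R where
  carrier := {x | ∃ p ∈ DL k j, aeval α p = x}
  zero_mem' := ⟨0, zero_mem_DL j, by simp⟩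
  add_mem' := by
    rintro _ _ ⟨p, hp, rfl⟩ ⟨q, hq, rfl⟩
    exact ⟨p + q, DL_add hp hq, by simp⟩
  smul_mem' := by
    rintro c _ ⟨p, hp, rfl⟩
    exact ⟨c • p, DL_smul c hp, by simp⟩

theorem mem_V {j : ℕ} {x : R} : x ∈ V (k := k) α j ↔ ∃ p ∈ DL k j, aeval α p = x := Iff.rfl

theorem V_mono {j j' : ℕ} (h : j ≤ j') : V (k := k) α j ≤ V α j' := by
  rintro _ ⟨p, hp, rfl⟩
  exact ⟨p, DL_mono h hp, rfl⟩

theorem V_zero {x : R} (hx : x ∈ V (k := k) α 0) : x = 0 := by
  obtain ⟨p, hp, rfl⟩ := hx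
  rw [DL_zero hp]; simp

theorem mul_mem_V {j : ℕ} {x : R} (hx : x ∈ V (k := k) α j) : α * x ∈ V (k := k) α (j + 1) := by
  obtain ⟨p, hp, rfl⟩ := hx
  exact ⟨X * p, DL_X_mul hp, by simp⟩

theorem one_mem_V : (1 : R) ∈ V (k := k) α 1 := ⟨C 1, C_mem_DL 1, by simp⟩

theorem algebraMap_mem_V (c : k) : algebraMap k R c ∈ V (k := k) α 1 :=
  ⟨C c, C_mem_DL c, by simp⟩

variable {n : ℕ} (hli : LinearIndependent k (fun i : Fin n => α ^ (i : ℕ)))
  (hsp : Submodule.span k (Set.range (fun i : Fin n => α ^ (i : ℕ))) = ⊤)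

include hli in
/-- injectivity on polynomials of degree `< n` -/
theorem aeval_inj {p : k[X]} (hp : p ∈ DL k n) (h : aeval α p = 0) : p = 0 := by
  by_contra hne
  have hdeg : p.natDegree < n := by
    by_contra hcon
    push Not at hcon
    exact (leadingCoeff_ne_zero.mpr hne) (hp p.natDegree hcon)
  have h1 : aeval α p = ∑ i : Fin n, p.coeff i • α ^ (i : ℕ) := by
    rw [aeval_eq_sum_range' hdeg, Finset.sum_range]
  rw [h1] at h
  have := Fintype.linearIndependent_iff.mp hli (fun i => p.coeff i) h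
  apply hne
  ext i
  by_cases hi : i < n
  · simpa using this ⟨i, hi⟩
  · rw [hp i (by omega)]; simp

include hsp in
theorem V_top (x : R) : x ∈ V (k := k) α n := by
  have hx : x ∈ Submodule.span k (Set.range (fun i : Fin n => α ^ (i : ℕ))) := by rw [hsp]; trivial
  induction hx using Submodule.span_induction with
  | mem x hx =>
    obtain ⟨i, rfl⟩ := hx
    exact ⟨X ^ (i : ℕ), X_pow_mem_DL i.2, by simp⟩
  | zero => exact (V α n).zero_mem
  | add x y _ _ hx hy => exact (V α n).add_mem hx hy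
  | smul c x _ hx => exact (V α n).smul_mem c hx

include hli in
/-- if `x` and `α x` both lie in `V j`, `j < n`, then `x ∈ V (j-1)` -/
theorem V_of_mul_mem {j : ℕ} (hj : j < n) {x : R} (hx : x ∈ V (k := k) α j) (hx' : α * x ∈ V (k := k) α j) :
    x ∈ V (k := k) α (j - 1) := by
  obtain ⟨p, hp, rfl⟩ := hx
  obtain ⟨r, hr, hr'⟩ := hx'
  have h0 : X * p - r = 0 := by
    apply aeval_inj α hli
    · intro i hi
      rw [coeff_sub, DL_X_mul hp i (by omega), hr i (by omega), sub_zero]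
    · rw [map_sub, hr']; simp
  have h1 : X * p = r := sub_eq_zero.mp h0
  refine ⟨p, ?_, rfl⟩
  intro i hi
  have := hr (i + 1) (by omega)
  rw [← h1, coeff_X_mul] at this
  exact this

end Cfsg.Agent.Lib.Helper8.Sr
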