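import Mathlib
import Cfsg.Agent.Lib.Helper8.Sr2

/-! The continued fraction word: reaching `(c u, 0)` from `(0, 1)`. -/

set_option autoImplicit false
set_option linter.unusedSectionVars false

namespace Cfsg.Agent.Lib.Helper8.Sr

open Polynomial Matrix

variable {k R : Type*} [Field k] [CommRing R] [Algebra k R] (α : R) (n : ℕ)

/-- first family of genericity conditions -/
def CondE (u : R) (i : ℕ) : Prop :=
  ∀ p ∈ DL k i, u * aeval α p ∈ V (k := k) α (n - i) → u * aeval α p = 0

/-- second family of genericity conditions -/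
def CondE' (u : R) (i : ℕ) : Prop :=
  ∀ q ∈ DL k i, α * u * aeval α q ∈ V (k := k) α (n - i) → α * u * aeval α q = 0

/-- the generic elements -/
structure GoodW (u : R) : Prop where
  unit : ∃ v : R, u * v = 1
  e : ∀ i ≤ n, CondE (k := k) α n u i
  e' : ∀ i < n, CondE' (k := k) α n u i

variable (Γ : Subgroup (SpecialLinearGroup (Fin 2) R))

/-- the state after a step of the first kind -/
def Pre (u : R) (j : ℕ) : Prop :=
  ∃ g ∈ Γ, ∃ p ∈ DL k (n + 1 - j), ∃ q ∈ DL k (n + 1 - j),
    g.1 0 1 = u * aeval α p ∧ g.1 0 1 ∈ V (k := k) α j ∧ g.1 0 1 ≠ 0 ∧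
    g.1 1 1 = α * u * aeval α q ∧ g.1 1 1 ∈ V (k := k) α j ∧ g.1 1 1 ≠ 0

/-- the state after a step of the second kind -/
def Inv (u : R) (j : ℕ) : Prop :=
  ∃ g ∈ Γ, ∃ p ∈ DL k (n + 1 - j), ∃ q ∈ DL k (n - j),
    g.1 0 1 = u * aeval α p ∧ g.1 0 1 ∈ V (k := k) α j ∧ g.1 0 1 ≠ 0 ∧
    g.1 1 1 = α * u * aeval α q ∧ g.1 1 1 ∈ V (k := k) α (j + 1) ∧ (j < n → g.1 1 1 ≠ 0)

variable {α n Γ}
variable (hli : LinearIndependent k (fun i : Fin n => α ^ (i : ℕ)))
  (hsp : Submodule.span k (Set.range (fun i : Fin n => α ^ (i : ℕ))) = ⊤)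
  (hx : ∀ c : k, xR (algebraMap k R c) ∈ Γ) (hy : ∀ c : k, yR (algebraMap k R c * α) ∈ Γ)

include hsp hx in
theorem pre_one [Nontrivial R] {β : R} (hαβ : α * β = 1) {u : R} (hu : GoodW (k := k) α n u) :
    Pre (k := k) α n Γ u 1 := by
  obtain ⟨v, hv⟩ := hu.unit
  obtain ⟨p, hp, hpv⟩ := V_top α hsp v
  obtain ⟨q, hq, hqv⟩ := V_top α hsp (β * v)
  refine ⟨xR (algebraMap k R 1), hx 1, p, by simpa using hp, q, by simpa using hq, ?_, ?_, ?_, ?_, ?_, ?_⟩
  · simp only [map_one, xR_01]; rw [hpv, hv]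
  · simp only [map_one, xR_01]; exact one_mem_V α
  · simp only [map_one, xR_01]; exact one_ne_zero
  · simp only [xR_11]; rw [hqv]
    calc (1 : R) = (α * β) * (u * v) := by rw [hαβ, hv, one_mul]
      _ = α * u * (β * v) := by ring
  · simp only [xR_11]; exact one_mem_V α
  · simp only [xR_11]; exact one_ne_zero

include hli hy in
theorem step_b {u : R} (hu : GoodW (k := k) α n u) {j : ℕ} (hj1 : 1 ≤ j) (hjn : j ≤ n)
    (h : Pre (k := k) α n Γ u j) : Inv (k := k) α n Γ u j := by
  obtain ⟨g, hg, p, hp, q, hq, hx0, hxV, hxne, hy0, hyV, hyne⟩ := h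
  obtain ⟨m, hm⟩ : ∃ m, n + 1 - j = m + 1 := ⟨n - j, by omega⟩
  have hmj : m = n - j := by omega
  rw [hm] at hp hq
  -- the top coefficient of `p` is nonzero
  have ha : p.coeff m ≠ 0 := by
    intro ha
    have hp' : p ∈ DL k (n - j) := by rw [← hmj]; exact DL_of_coeff hp ha
    have := hu.e (n - j) (by omega) p hp' (by
      have : n - (n - j) = j := by omega
      rw [this, ← hx0]; exact hxV)
    rw [← hx0] at this
    exact hxne this
  set d : k := -(q.coeff m) / p.coeff m with hd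
  have hq1 : q + d • p ∈ DL k (n - j) := by
    rw [← hmj]
    apply DL_of_coeff (DL_add hq (DL_smul d hp))
    rw [coeff_add, coeff_smul, smul_eq_mul, hd]
    field_simp
    ring
  refine ⟨yR (algebraMap k R d * α) * g, Γ.mul_mem (hy d) hg, p, by rw [hm]; exact hp, q + d • p, hq1,
    ?_, ?_, ?_, ?_, ?_, ?_⟩
  · rw [yR_mul_01]; exact hx0
  · rw [yR_mul_01]; exact hxV
  · rw [yR_mul_01]; exact hxne
  · rw [yR_mul_11, hy0, hx0, map_add, map_smul, Algebra.smul_def]; ring
  · rw [yR_mul_11]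
    apply (V α (j + 1)).add_mem (V_mono α (Nat.le_succ j) hyV)
    have : algebraMap k R d * α * g.1 0 1 = d • (α * g.1 0 1) := by rw [Algebra.smul_def]; ring
    rw [this]
    exact (V α (j + 1)).smul_mem d (mul_mem_V α hxV)
  · intro hjn' hzero
    rw [yR_mul_11] at hzero
    by_cases hd0 : d = 0
    · rw [hd0, map_zero, zero_mul, zero_mul, add_zero] at hzero
      exact hyne hzero
    · have hαx : α * g.1 0 1 ∈ V (k := k) α j := by
        have : α * g.1 0 1 = (-d⁻¹) • g.1 1 1 := by
          have h1 : g.1 1 1 = -(d • (α * g.1 0 1)) := by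
            rw [Algebra.smul_def]; linear_combination hzero
          rw [h1, smul_neg, neg_smul, neg_neg, smul_smul, inv_mul_cancel₀ hd0, one_smul]
        rw [this]
        exact (V α j).smul_mem _ hyV
      have hx1 := V_of_mul_mem α hli hjn' hxV hαx
      have := hu.e (n + 1 - j) (by omega) p (by rw [hm]; exact hp) (by
        have : n - (n + 1 - j) = j - 1 := by omega
        rw [this, ← hx0]; exact hx1)
      rw [← hx0] at this
      exact hxne this

include hx in
theorem step_a {u : R} (hu : GoodW (k := k) α n u) {j : ℕ} (hj2 : 2 ≤ j) (hjn : j ≤ n)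
    (h : Inv (k := k) α n Γ u (j - 1)) : Pre (k := k) α n Γ u j := by
  obtain ⟨g, hg, p, hp, q, hq, hx0, hxV, hxne, hy0, hyV, hyne⟩ := h
  obtain ⟨m, hm⟩ : ∃ m, n + 1 - j = m + 1 := ⟨n - j, by omega⟩
  have hmj : m = n - j := by omega
  have e1 : n + 1 - (j - 1) = (m + 1) + 1 := by omega
  have e2 : n - (j - 1) = m + 1 := by omega
  have e3 : j - 1 + 1 = j := by omega
  rw [e1] at hp
  rw [e2] at hq
  rw [e3] at hyV
  have hyne' := hyne (by omega)
  -- the top coefficient of `q` is nonzero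
  have hb : q.coeff m ≠ 0 := by
    intro hb
    have hq' : q ∈ DL k (n - j) := by rw [← hmj]; exact DL_of_coeff hq hb
    have := hu.e' (n - j) (by omega) q hq' (by
      have : n - (n - j) = j := by omega
      rw [this, ← hy0]; exact hyV)
    rw [← hy0] at this
    exact hyne' this
  set c : k := -(p.coeff (m + 1)) / q.coeff m with hc
  have hp1 : p + c • (X * q) ∈ DL k (m + 1) := by
    apply DL_of_coeff (DL_add hp (DL_smul c (DL_X_mul hq)))
    rw [coeff_add, coeff_smul, smul_eq_mul, coeff_X_mul, hc]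
    field_simp
    ring
  refine ⟨xR (algebraMap k R c) * g, Γ.mul_mem (hx c) hg, p + c • (X * q), by rw [hm]; exact hp1,
    q, by rw [hm]; exact hq, ?_, ?_, ?_, ?_, ?_, ?_⟩
  · rw [xR_mul_01, hx0, hy0, map_add, map_smul, Algebra.smul_def, map_mul, aeval_X]; ring
  · rw [xR_mul_01]
    apply (V α j).add_mem (V_mono α (Nat.sub_le j 1) hxV)
    have : algebraMap k R c * g.1 1 1 = c • g.1 1 1 := by rw [Algebra.smul_def]
    rw [this]
    exact (V α j).smul_mem c hyV
  · rw [xR_mul_01]
    intro hzero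
    by_cases hc0 : c = 0
    · rw [hc0, map_zero, zero_mul, add_zero] at hzero
      exact hxne hzero
    · have hy1 : g.1 1 1 ∈ V (k := k) α (j - 1) := by
        have : g.1 1 1 = (-c⁻¹) • g.1 0 1 := by
          have h1 : g.1 0 1 = -(c • g.1 1 1) := by
            rw [Algebra.smul_def]; linear_combination hzero
          rw [h1, smul_neg, neg_smul, neg_neg, smul_smul, inv_mul_cancel₀ hc0, one_smul]
        rw [this]
        exact (V α (j - 1)).smul_mem _ hxV
      have := hu.e' (n + 1 - j) (by omega) q (by rw [hm]; exact hq) (by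
        have : n - (n + 1 - j) = j - 1 := by omega
        rw [this, ← hy0]; exact hy1)
      rw [← hy0] at this
      exact hyne' this
  · rw [xR_mul_11]; exact hy0
  · rw [xR_mul_11]; exact hyV
  · rw [xR_mul_11]; exact hyne'

include hli hsp hx hy in
theorem inv_all [Nontrivial R] {β : R} (hαβ : α * β = 1) {u : R} (hu : GoodW (k := k) α n u) :
    ∀ j, 1 ≤ j → j ≤ n → Inv (k := k) α n Γ u j := by
  intro j
  induction j with
  | zero => intro h; omega
  | succ j ih =>
    intro _ hjn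
    rcases Nat.eq_zero_or_pos j with rfl | hjpos
    · exact step_b hli hy hu (le_refl 1) hjn (pre_one hsp hx hαβ hu)
    · have := ih hjpos (by omega)
      exact step_b hli hy hu (by omega) hjn (step_a hx hu (by omega) hjn (by simpa using this))

include hli hsp hx hy in
/-- the word: for generic `u` some element of `X` has second column `(c u, 0)` -/
theorem exists_word [Nontrivial R] {β : R} (hαβ : α * β = 1) (hn : 1 ≤ n) {u : R}
    (hu : GoodW (k := k) α n u) :
    ∃ g ∈ Γ, ∃ c : k, c ≠ 0 ∧ g.1 0 1 = algebraMap k R c * u ∧ g.1 1 1 = 0 := by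
  obtain ⟨g, hg, p, hp, q, hq, hx0, _, hxne, hy0, _, _⟩ := inv_all hli hsp hx hy hαβ hu n hn (le_refl n)
  have e1 : n + 1 - n = 1 := by omega
  rw [e1] at hp
  rw [Nat.sub_self] at hq
  rw [DL_zero hq, map_zero, mul_zero] at hy0
  rw [DL_one hp, aeval_C] at hx0
  refine ⟨g, hg, p.coeff 0, ?_, by rw [hx0, mul_comm], hy0⟩
  intro h0
  rw [h0, map_zero, mul_zero] at hx0
  exact hxne hx0

end Cfsg.Agent.Lib.Helper8.Sr
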