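import Mathlib
import Cfsg.Agent.Lib.Helper8.Sr3

/-! Genericity: line-open sets and the existence of generic elements. -/

set_option autoImplicit false
set_option linter.unusedSectionVars false

namespace Cfsg.Agent.Lib.Helper8.Sr

open Polynomial Matrix

variable (k : Type*) {R : Type*} [Field k] [CommRing R] [Algebra k R]

/-- along each affine line the set is the non-vanishing locus of a polynomial -/
def LineOpen (S : Set R) : Prop :=
  ∀ a b : R, ∃ φ : k[X], ∀ s : k, (a + s • b ∈ S ↔ φ.eval s ≠ 0)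

variable {k}

theorem lineOpen_univ : LineOpen k (Set.univ : Set R) := by
  intro a b
  exact ⟨1, fun s => by simp⟩

theorem LineOpen.inter {S T : Set R} (hS : LineOpen k S) (hT : LineOpen k T) :
    LineOpen k (S ∩ T) := by
  intro a b
  obtain ⟨φ, hφ⟩ := hS a b
  obtain ⟨ψ, hψ⟩ := hT a b
  refine ⟨φ * ψ, fun s => ?_⟩
  rw [Set.mem_inter_iff, hφ s, hψ s, eval_mul, mul_ne_zero_iff]

theorem LineOpen.preimage_mul {S : Set R} (hS : LineOpen k S) (μ : R) :
    LineOpen k {u | μ * u ∈ S} := by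
  intro a b
  obtain ⟨φ, hφ⟩ := hS (μ * a) (μ * b)
  refine ⟨φ, fun s => ?_⟩
  rw [← hφ s, Set.mem_ofPred_eq, mul_add, mul_smul_comm]

theorem LineOpen.inter_nonempty [Infinite k] {S T : Set R} (hS : LineOpen k S) (hT : LineOpen k T)
    (hSn : S.Nonempty) (hTn : T.Nonempty) : (S ∩ T).Nonempty := by
  classical
  obtain ⟨a, ha⟩ := hSn
  obtain ⟨b, hb⟩ := hTn
  obtain ⟨φ, hφ⟩ := hS a (b - a)
  obtain ⟨ψ, hψ⟩ := hT a (b - a)
  have h0 : φ.eval 0 ≠ 0 := by
    rw [← hφ 0]; simpa using ha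
  have h1 : ψ.eval 1 ≠ 0 := by
    rw [← hψ 1]; simpa using hb
  have hφ0 : φ ≠ 0 := by
    rintro rfl; simp at h0
  have hψ0 : ψ ≠ 0 := by
    rintro rfl; simp at h1
  have hne : φ * ψ ≠ 0 := mul_ne_zero hφ0 hψ0
  obtain ⟨s, hs⟩ := Infinite.exists_notMem_finset (φ * ψ).roots.toFinset
  have hs' : (φ * ψ).eval s ≠ 0 := by
    intro h
    apply hs
    rw [Multiset.mem_toFinset, mem_roots hne]
    exact h
  rw [eval_mul, mul_ne_zero_iff] at hs'
  exact ⟨a + s • (b - a), (hφ s).mpr hs'.1, (hψ s).mpr hs'.2⟩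

theorem LineOpen.biInter {ι : Type*} [Infinite k] (I : Finset ι) (S : ι → Set R)
    (hS : ∀ i ∈ I, LineOpen k (S i)) (hn : ∀ i ∈ I, (S i).Nonempty) :
    LineOpen k (⋂ i ∈ I, S i) ∧ (⋂ i ∈ I, S i).Nonempty := by
  classical
  induction I using Finset.induction_on with
  | empty =>
    simp only [Finset.notMem_empty, Set.iInter_of_empty, Set.iInter_univ]
    exact ⟨lineOpen_univ, ⟨0, trivial⟩⟩
  | insert i I hi ih =>
    have ih' := ih (fun j hj => hS j (Finset.mem_insert_of_mem hj))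
      (fun j hj => hn j (Finset.mem_insert_of_mem hj))
    rw [Finset.set_biInter_insert]
    exact ⟨(hS i (Finset.mem_insert_self i I)).inter ih'.1,
      (hS i (Finset.mem_insert_self i I)).inter_nonempty ih'.1 (hn i (Finset.mem_insert_self i I)) ih'.2⟩

/-- `det (A + s B)` is a polynomial in `s` -/
theorem det_add_smul_poly {ι : Type*} [Fintype ι] [DecidableEq ι] (A B : Matrix ι ι k) :
    ∃ φ : k[X], ∀ s : k, φ.eval s = (A + s • B).det := by
  refine ⟨(A.map C + (X : k[X]) • B.map C).det, fun s => ?_⟩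
  have := RingHom.map_det (Polynomial.evalRingHom s) (A.map C + (X : k[X]) • B.map C)
  rw [Polynomial.coe_evalRingHom] at this
  rw [this]
  congr 1
  ext i j
  simp only [RingHom.mapMatrix_apply, Matrix.map_apply, Matrix.add_apply, Matrix.smul_apply,
    Polynomial.coe_evalRingHom, eval_add, eval_C, smul_eq_mul, eval_mul, eval_X]

theorem lineOpen_det {ι : Type*} [Fintype ι] [DecidableEq ι] (e : Module.Basis ι k R)
    (F G : R → ι → R) (h : ∀ (a b : R) (s : k), F (a + s • b) = F a + s • G b) :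
    LineOpen k {u | e.det (F u) ≠ 0} := by
  intro a b
  obtain ⟨φ, hφ⟩ := det_add_smul_poly (e.toMatrix (F a)) (e.toMatrix (G b))
  refine ⟨φ, fun s => ?_⟩
  rw [hφ s, Set.mem_ofPred_eq, h a b s, Module.Basis.det_apply]
  have : e.toMatrix (F a + s • G b) = e.toMatrix (F a) + s • e.toMatrix (G b) := by
    ext i j
    simp [Module.Basis.toMatrix_apply]
  rw [this]

end Cfsg.Agent.Lib.Helper8.Sr
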