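import Mathlib
import Cfsg.Agent.Lib.Helper8.Sr4

/-! Genericity: the sets of generic elements are line-open and non-empty. -/

set_option autoImplicit false
set_option linter.unusedSectionVars false

namespace Cfsg.Agent.Lib.Helper8.Sr

open Polynomial Matrix

variable {k R : Type*} [Field k] [CommRing R] [Algebra k R] (α : R) (n : ℕ)

/-- the family whose linear independence is the `i`-th genericity condition -/
def EF (i : ℕ) (u : R) : Fin i ⊕ Fin (n - i) → R :=
  Sum.elim (fun c => u * α ^ (c : ℕ)) (fun c => α ^ (c : ℕ))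

/-- the `i`-th set of generic elements -/
def SE (k : Type*) [Field k] [Algebra k R] (i : ℕ) : Set R := {u | LinearIndependent k (EF α n i u)}

theorem aeval_eq_sum_of_DL {j : ℕ} {p : k[X]} (hp : p ∈ DL k j) :
    aeval α p = ∑ c : Fin j, p.coeff (c : ℕ) • α ^ (c : ℕ) := by
  by_cases h0 : p = 0
  · subst h0; simp
  · have hdeg : p.natDegree < j := by
      by_contra hcon
      push Not at hcon
      exact (leadingCoeff_ne_zero.mpr h0) (hp p.natDegree hcon)
    rw [aeval_eq_sum_range' hdeg, Finset.sum_range]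

theorem mem_span_of_V {j : ℕ} {x : R} (hx : x ∈ V (k := k) α j) :
    x ∈ Submodule.span k (Set.range (fun c : Fin j => α ^ (c : ℕ))) := by
  obtain ⟨p, hp, rfl⟩ := hx
  rw [aeval_eq_sum_of_DL α hp]
  exact Submodule.sum_mem _ (fun c _ => Submodule.smul_mem _ _ (Submodule.subset_span ⟨c, rfl⟩))

theorem mul_mem_span_of_DL (u : R) {j : ℕ} {p : k[X]} (hp : p ∈ DL k j) :
    u * aeval α p ∈ Submodule.span k (Set.range (fun c : Fin j => u * α ^ (c : ℕ))) := by
  rw [aeval_eq_sum_of_DL α hp, Finset.mul_sum]
  refine Submodule.sum_mem _ (fun c _ => ?_)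
  rw [mul_smul_comm]
  exact Submodule.smul_mem _ _ (Submodule.subset_span ⟨c, rfl⟩)

variable {α n}

theorem condE_of_SE {i : ℕ} {u : R} (hu : u ∈ SE α n k i) : CondE (k := k) α n u i := by
  intro p hp hV
  have hli : LinearIndependent k (EF α n i u) := hu
  rw [EF, linearIndependent_sum] at hli
  have hdis := hli.2.2
  have h1 := mul_mem_span_of_DL α u hp
  have h2 := mem_span_of_V α hV
  exact (Submodule.disjoint_def.mp hdis) _ h1 h2

theorem condE'_of_SE {i : ℕ} {u : R} (hu : α * u ∈ SE α n k i) : CondE' (k := k) α n u i :=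
  condE_of_SE hu

variable (hli : LinearIndependent k (fun i : Fin n => α ^ (i : ℕ)))
  (hsp : Submodule.span k (Set.range (fun i : Fin n => α ^ (i : ℕ))) = ⊤)

include hli in
theorem SE_nonempty {i : ℕ} (hi : i ≤ n) : α ^ (n - i) ∈ SE α n k i := by
  show LinearIndependent k (EF α n i (α ^ (n - i)))
  have hσ : Function.Injective (Sum.elim (fun c : Fin i => (⟨n - i + c, by omega⟩ : Fin n))
      (fun c : Fin (n - i) => (⟨c, by omega⟩ : Fin n))) := by
    rintro (a | a) (b | b) hab
    · simp only [Sum.elim_inl, Fin.mk.injEq] at hab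
      congr 1; apply Fin.ext; omega
    · simp only [Sum.elim_inl, Sum.elim_inr, Fin.mk.injEq] at hab
      omega
    · simp only [Sum.elim_inl, Sum.elim_inr, Fin.mk.injEq] at hab
      omega
    · simp only [Sum.elim_inr, Fin.mk.injEq] at hab
      congr 1; apply Fin.ext; omega
  have := hli.comp _ hσ
  convert this using 1
  ext c
  rcases c with c | c
  · simp [EF, pow_add]
  · simp [EF]

/-- the power basis -/
noncomputable def pbasis : Module.Basis (Fin n) k R := Module.Basis.mk hli (by rw [hsp])

include hli hsp in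
theorem SE_lineOpen {i : ℕ} (hi : i ≤ n) : LineOpen k (SE α n k i) := by
  classical
  have hn : i + (n - i) = n := by omega
  let e : Module.Basis (Fin i ⊕ Fin (n - i)) k R :=
    (pbasis hli hsp).reindex ((finCongr hn.symm).trans finSumFinEquiv.symm)
  have hset : SE α n k i = {u | e.det (EF α n i u) ≠ 0} := by
    ext u
    show LinearIndependent k (EF α n i u) ↔ e.det (EF α n i u) ≠ 0
    constructor
    · intro h
      have hcard : Fintype.card (Fin i ⊕ Fin (n - i)) = Module.finrank k R := by
        rw [Module.finrank_eq_card_basis e]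
      have hfd : FiniteDimensional k R := Module.Finite.of_basis e
      have hspan := h.span_eq_top_of_card_eq_finrank' hcard
      exact ((Module.Basis.is_basis_iff_det e).mp ⟨h, hspan⟩).ne_zero
    · intro h
      exact ((Module.Basis.is_basis_iff_det e).mpr (isUnit_iff_ne_zero.mpr h)).1
  rw [hset]
  apply lineOpen_det e (EF α n i) (fun b => Sum.elim (fun c => b * α ^ (c : ℕ)) (fun _ => 0))
  intro a b s
  ext c
  rcases c with c | c
  · simp [EF, add_mul]
  · simp [EF]

include hli hsp in
/-- elements of `SE n` are units -/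
theorem unit_of_SE {u : R} (hu : u ∈ SE α n k n) : ∃ v : R, u * v = 1 := by
  classical
  have h : LinearIndependent k (EF α n n u) := hu
  have hcard : Fintype.card (Fin n ⊕ Fin (n - n)) = Module.finrank k R := by
    rw [Module.finrank_eq_card_basis (pbasis hli hsp)]
    simp
  have hfd : FiniteDimensional k R := Module.Finite.of_basis (pbasis hli hsp)
  have hspan := h.span_eq_top_of_card_eq_finrank' hcard
  have hle : Submodule.span k (Set.range (EF α n n u)) ≤ LinearMap.range (LinearMap.mulLeft k u) := by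
    rw [Submodule.span_le]
    rintro _ ⟨c, rfl⟩
    rcases c with c | c
    · exact ⟨α ^ (c : ℕ), rfl⟩
    · exact absurd c.2 (by omega)
  rw [hspan] at hle
  obtain ⟨v, hv⟩ := hle (Submodule.mem_top : (1 : R) ∈ ⊤)
  exact ⟨v, hv⟩

/-- the set of all generic elements -/
def GoodSet (α : R) (n : ℕ) (k : Type*) [Field k] [Algebra k R] : Set R :=
  ⋂ i ∈ Finset.range (n + 1), SE α n k i

theorem mem_SE_of_goodSet {u : R} (hu : u ∈ GoodSet α n k) {i : ℕ} (hi : i ≤ n) : u ∈ SE α n k i := by
  have := Set.mem_iInter₂.mp hu i (Finset.mem_range.mpr (by omega))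
  exact this

include hli hsp in
theorem goodW_of_goodSet {u : R} (hu : u ∈ GoodSet α n k) (hu' : α * u ∈ GoodSet α n k) :
    GoodW (k := k) α n u :=
  ⟨unit_of_SE hli hsp (mem_SE_of_goodSet hu (le_refl n)),
    fun i hi => condE_of_SE (mem_SE_of_goodSet hu hi),
    fun i hi => condE'_of_SE (mem_SE_of_goodSet hu' (le_of_lt hi))⟩

include hli hsp in
theorem goodSet_spec [Infinite k] : LineOpen k (GoodSet α n k) ∧ (GoodSet α n k).Nonempty :=
  LineOpen.biInter (Finset.range (n + 1)) (fun i => SE α n k i)
    (fun i hi => SE_lineOpen hli hsp (by have := Finset.mem_range.mp hi; omega))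
    (fun i hi => ⟨_, SE_nonempty hli (by have := Finset.mem_range.mp hi; omega)⟩)

theorem preimage_nonempty {S : Set R} (hS : S.Nonempty) {μ ν : R} (hμν : μ * ν = 1) :
    ({u | μ * u ∈ S}).Nonempty := by
  obtain ⟨w, hw⟩ := hS
  refine ⟨ν * w, ?_⟩
  show μ * (ν * w) ∈ S
  rw [← mul_assoc, hμν, one_mul]
  exact hw

include hli hsp in
/-- generic elements exist, simultaneously for `u` and `μ u` -/
theorem exists_good [Infinite k] {β : R} (hαβ : α * β = 1) {μ ν : R} (hμν : μ * ν = 1) :
    ∃ u : R, GoodW (k := k) α n u ∧ GoodW (k := k) α n (μ * u) := by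
  obtain ⟨hG, hGn⟩ := goodSet_spec (k := k) hli hsp
  have h1 := hG.preimage_mul α
  have h1n := preimage_nonempty hGn hαβ
  have h2 := hG.preimage_mul μ
  have h2n := preimage_nonempty hGn hμν
  have h3 := h1.preimage_mul μ
  have h3n := preimage_nonempty h1n hμν
  have h12 := hG.inter h1
  have h12n := hG.inter_nonempty h1 hGn h1n
  have h23 := h2.inter h3
  have h23n := h2.inter_nonempty h3 h2n h3n
  obtain ⟨u, ⟨hu1, hu2⟩, hu3, hu4⟩ := h12.inter_nonempty h23 h12n h23n
  exact ⟨u, goodW_of_goodSet hli hsp hu1 hu2, goodW_of_goodSet hli hsp hu3 hu4⟩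

end Cfsg.Agent.Lib.Helper8.Sr
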