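import Mathlib
import Cfsg.Agent.Lib.Helper8.Sr5

/-! The subgroup generated by `xR(k)` and `yR(kα)` contains all of `xR(R)`, `yR(R)` (`k` infinite). -/

set_option autoImplicit false
set_option linter.unusedSectionVars false

namespace Cfsg.Agent.Lib.Helper8.Sr

open Polynomial Matrix

variable {k R : Type*} [Field k] [CommRing R] [Algebra k R]

/-- the generators -/
def gens (k : Type*) {R : Type*} [Field k] [CommRing R] [Algebra k R] (α : R) :
    Set (SpecialLinearGroup (Fin 2) R) :=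
  {g | ∃ c : k, g = xR (algebraMap k R c)} ∪ {g | ∃ c : k, g = yR (algebraMap k R c * α)}

/-- the subgroup they generate -/
def Gam (k : Type*) {R : Type*} [Field k] [CommRing R] [Algebra k R] (α : R) :
    Subgroup (SpecialLinearGroup (Fin 2) R) := Subgroup.closure (gens k α)

variable {α : R}

theorem xR_mem_Gam (c : k) : xR (algebraMap k R c) ∈ Gam k α :=
  Subgroup.subset_closure (Or.inl ⟨c, rfl⟩)

theorem yR_mem_Gam (c : k) : yR (algebraMap k R c * α) ∈ Gam k α :=
  Subgroup.subset_closure (Or.inr ⟨c, rfl⟩)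

/-- the torus normalizes -/
theorem torus_conj (lam lam' : k) (h : lam * lam' = 1) {g : SpecialLinearGroup (Fin 2) R}
    (hg : g ∈ Gam k α) :
    dR (algebraMap k R lam) (algebraMap k R lam') (by rw [← map_mul, h, map_one]) * g *
      (dR (algebraMap k R lam) (algebraMap k R lam') (by rw [← map_mul, h, map_one]))⁻¹ ∈ Gam k α := by
  set D := dR (algebraMap k R lam) (algebraMap k R lam') (by rw [← map_mul, h, map_one]) with hD
  have hle : Subgroup.closure (gens k α) ≤ (Gam k α).comap (MulAut.conj D).toMonoidHom := by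
    rw [Subgroup.closure_le]
    rintro g (⟨c, rfl⟩ | ⟨c, rfl⟩)
    · show D * xR _ * D⁻¹ ∈ Gam k α
      rw [hD, dR_mul_xR, mul_inv_cancel_right]
      have : algebraMap k R lam ^ 2 * algebraMap k R c = algebraMap k R (lam ^ 2 * c) := by
        rw [map_mul, map_pow]
      rw [this]
      exact xR_mem_Gam _
    · show D * yR _ * D⁻¹ ∈ Gam k α
      rw [hD, dR_mul_yR, mul_inv_cancel_right]
      have : algebraMap k R lam' ^ 2 * (algebraMap k R c * α) = algebraMap k R (lam' ^ 2 * c) * α := by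
        rw [map_mul, map_pow, mul_assoc]
      rw [this]
      exact yR_mem_Gam _
  exact hle hg

theorem sq_mul_mem (a : k) {t : R} (ht : xR t ∈ Gam k α) :
    xR (algebraMap k R a ^ 2 * t) ∈ Gam k α := by
  by_cases ha : a = 0
  · rw [ha, map_zero, zero_pow (by norm_num), zero_mul, xR_zero]
    exact (Gam k α).one_mem
  · have := torus_conj a a⁻¹ (mul_inv_cancel₀ ha) ht
    rwa [dR_mul_xR, mul_inv_cancel_right] at this

theorem neg_mem_T {t : R} (ht : xR t ∈ Gam k α) : xR (-t) ∈ Gam k α := by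
  rw [← xR_inv]; exact (Gam k α).inv_mem ht

theorem add_mem_T {s t : R} (hs : xR s ∈ Gam k α) (ht : xR t ∈ Gam k α) : xR (s + t) ∈ Gam k α := by
  rw [xR_add]; exact (Gam k α).mul_mem hs ht

theorem smul_mem_T (h2 : (2 : k) ≠ 0) (c : k) {t : R} (ht : xR t ∈ Gam k α) :
    xR (algebraMap k R c * t) ∈ Gam k α := by
  have hc : c = ((c + 1) / 2) ^ 2 - ((c - 1) / 2) ^ 2 := by
    field_simp; ring
  have : algebraMap k R c * t = algebraMap k R ((c + 1) / 2) ^ 2 * t +
      -(algebraMap k R ((c - 1) / 2) ^ 2 * t) := by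
    conv_lhs => rw [hc]
    rw [map_sub, map_pow, map_pow]; ring
  rw [this]
  exact add_mem_T (sq_mul_mem _ ht) (neg_mem_T (sq_mul_mem _ ht))

variable {n : ℕ} (hli : LinearIndependent k (fun i : Fin n => α ^ (i : ℕ)))
  (hsp : Submodule.span k (Set.range (fun i : Fin n => α ^ (i : ℕ))) = ⊤)

include hli hsp in
theorem unit_sq_mul_mem [Infinite k] [Nontrivial R] {β : R} (hαβ : α * β = 1) {μ ν : R} (hμν : μ * ν = 1)
    {t : R} (ht : xR t ∈ Gam k α) : xR (μ ^ 2 * t) ∈ Gam k α := by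
  have hn : 1 ≤ n := by
    rcases Nat.eq_zero_or_pos n with rfl | h
    · exfalso
      have h1 : (1 : R) ∈ Submodule.span k (Set.range (fun i : Fin 0 => α ^ (i : ℕ))) := by
        rw [hsp]; trivial
      have : Set.range (fun i : Fin 0 => α ^ (i : ℕ)) = ∅ := Set.range_eq_empty _
      rw [this, Submodule.span_empty] at h1
      exact one_ne_zero h1
    · exact h
  obtain ⟨u, hu, hu'⟩ := exists_good (k := k) hli hsp hαβ hμν
  obtain ⟨v, huv⟩ := hu.unit
  obtain ⟨g, hg, c, hc, hg01, hg11⟩ :=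
    exists_word hli hsp (Γ := Gam k α) xR_mem_Gam yR_mem_Gam hαβ hn hu
  obtain ⟨g', hg', c', hc', hg'01, hg'11⟩ :=
    exists_word hli hsp (Γ := Gam k α) xR_mem_Gam yR_mem_Gam hαβ hn hu'
  set h := g' * g⁻¹ with hh
  have hmem : h ∈ Gam k α := (Gam k α).mul_mem hg' ((Gam k α).inv_mem hg)
  have hhg : h * g = g' := by rw [hh, inv_mul_cancel_right]
  have hunit : g.1 0 1 * (algebraMap k R c⁻¹ * v) = 1 := by
    rw [hg01]
    calc algebraMap k R c * u * (algebraMap k R c⁻¹ * v)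
        = algebraMap k R (c * c⁻¹) * (u * v) := by rw [map_mul]; ring
      _ = 1 := by rw [mul_inv_cancel₀ hc, map_one, huv, one_mul]
  have h10 : h.1 1 0 = 0 := by
    have := mul_11 h g
    rw [hhg, hg'11, hg11, mul_zero, add_zero] at this
    calc h.1 1 0 = h.1 1 0 * (g.1 0 1 * (algebraMap k R c⁻¹ * v)) := by rw [hunit, mul_one]
      _ = (h.1 1 0 * g.1 0 1) * (algebraMap k R c⁻¹ * v) := by ring
      _ = 0 := by rw [← this, zero_mul]
  have h00 : h.1 0 0 = algebraMap k R (c' * c⁻¹) * μ := by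
    have := mul_01 h g
    rw [hhg, hg'01, hg11, mul_zero, add_zero] at this
    calc h.1 0 0 = h.1 0 0 * (g.1 0 1 * (algebraMap k R c⁻¹ * v)) := by rw [hunit, mul_one]
      _ = (h.1 0 0 * g.1 0 1) * (algebraMap k R c⁻¹ * v) := by ring
      _ = algebraMap k R c' * (μ * u) * (algebraMap k R c⁻¹ * v) := by rw [← this]
      _ = algebraMap k R (c' * c⁻¹) * μ * (u * v) := by rw [map_mul]; ring
      _ = algebraMap k R (c' * c⁻¹) * μ := by rw [huv, mul_one]
  have hconj : xR (h.1 0 0 ^ 2 * t) ∈ Gam k α := by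
    have := upper_mul_xR h h10 t
    have h2 : xR (h.1 0 0 ^ 2 * t) = h * xR t * h⁻¹ := by
      rw [this, mul_inv_cancel_right]
    rw [h2]
    exact (Gam k α).mul_mem ((Gam k α).mul_mem hmem ht) ((Gam k α).inv_mem hmem)
  have := sq_mul_mem (c * c'⁻¹) hconj
  have e : algebraMap k R (c * c'⁻¹) ^ 2 * (h.1 0 0 ^ 2 * t) = μ ^ 2 * t := by
    rw [h00]
    calc algebraMap k R (c * c'⁻¹) ^ 2 * ((algebraMap k R (c' * c⁻¹) * μ) ^ 2 * t)
        = (algebraMap k R (c * c'⁻¹) * algebraMap k R (c' * c⁻¹)) ^ 2 * (μ ^ 2 * t) := by ring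
      _ = μ ^ 2 * t := by
        rw [← map_mul]
        have : c * c'⁻¹ * (c' * c⁻¹) = 1 := by field_simp
        rw [this, map_one, one_pow, one_mul]
  rwa [e] at this

include hli hsp in
/-- for all but finitely many `s`, `1 + s v` is a unit -/
theorem exists_bad_set (v : R) : ∃ B : Finset k, ∀ s : k, s ∉ B → ∃ w : R, (1 + s • v) * w = 1 := by
  classical
  obtain ⟨φ, hφ⟩ := SE_lineOpen hli hsp (le_refl n) 1 v
  have h0 : φ.eval 0 ≠ 0 := by
    rw [← hφ 0, zero_smul, add_zero]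
    have := SE_nonempty hli (le_refl n)
    rwa [Nat.sub_self, pow_zero] at this
  have hφ0 : φ ≠ 0 := by
    rintro rfl; simp at h0
  refine ⟨φ.roots.toFinset, fun s hs => ?_⟩
  apply unit_of_SE hli hsp
  rw [hφ s]
  intro h
  apply hs
  rw [Multiset.mem_toFinset, mem_roots hφ0]
  exact h

include hli hsp in
theorem exists_shift_units [Infinite k] (v : R) : ∃ c : k,
    (∃ w : R, (v + algebraMap k R c + 1) * w = 1) ∧ (∃ w : R, (v + algebraMap k R c - 1) * w = 1) := by
  classical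
  obtain ⟨B, hB⟩ := exists_bad_set hli hsp v
  obtain ⟨c, hc⟩ := Infinite.exists_notMem_finset
    (({-1, 1} : Finset k) ∪ B.image (fun s => s⁻¹ - 1) ∪ B.image (fun s => s⁻¹ + 1))
  simp only [Finset.mem_union, Finset.mem_insert, Finset.mem_singleton, Finset.mem_image, not_or,
    not_exists, not_and] at hc
  obtain ⟨⟨⟨hc1, hc2⟩, hc3⟩, hc4⟩ := hc
  have hp : c + 1 ≠ 0 := fun h => hc1 (eq_neg_of_add_eq_zero_left h)
  have hm : c - 1 ≠ 0 := fun h => hc2 (sub_eq_zero.mp h)
  have hp' : (c + 1)⁻¹ ∉ B := fun h => hc3 _ h (by rw [inv_inv]; ring)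
  have hm' : (c - 1)⁻¹ ∉ B := fun h => hc4 _ h (by rw [inv_inv]; ring)
  obtain ⟨w1, hw1⟩ := hB _ hp'
  obtain ⟨w2, hw2⟩ := hB _ hm'
  refine ⟨c, ⟨algebraMap k R (c + 1)⁻¹ * w1, ?_⟩, ⟨algebraMap k R (c - 1)⁻¹ * w2, ?_⟩⟩
  · have e : v + algebraMap k R c + 1 = algebraMap k R (c + 1) * (1 + (c + 1)⁻¹ • v) := by
      rw [mul_add, mul_one, Algebra.smul_def, ← mul_assoc, ← map_mul, mul_inv_cancel₀ hp, map_one,
        one_mul, map_add, map_one]
      ring
    rw [e]
    calc algebraMap k R (c + 1) * (1 + (c + 1)⁻¹ • v) * (algebraMap k R (c + 1)⁻¹ * w1)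
        = algebraMap k R ((c + 1) * (c + 1)⁻¹) * ((1 + (c + 1)⁻¹ • v) * w1) := by
          rw [map_mul]; ring
      _ = 1 := by rw [hw1, mul_inv_cancel₀ hp, map_one, one_mul]
  · have e : v + algebraMap k R c - 1 = algebraMap k R (c - 1) * (1 + (c - 1)⁻¹ • v) := by
      rw [mul_add, mul_one, Algebra.smul_def, ← mul_assoc, ← map_mul, mul_inv_cancel₀ hm, map_one,
        one_mul, map_sub, map_one]
      ring
    rw [e]
    calc algebraMap k R (c - 1) * (1 + (c - 1)⁻¹ • v) * (algebraMap k R (c - 1)⁻¹ * w2)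
        = algebraMap k R ((c - 1) * (c - 1)⁻¹) * ((1 + (c - 1)⁻¹ • v) * w2) := by
          rw [map_mul]; ring
      _ = 1 := by rw [hw2, mul_inv_cancel₀ hm, map_one, one_mul]

include hli hsp in
/-- all upper unitriangular matrices lie in the subgroup -/
theorem xR_all_mem [Infinite k] [Nontrivial R] (h2 : (2 : k) ≠ 0) {β : R} (hαβ : α * β = 1) (v : R) :
    xR v ∈ Gam k α := by
  obtain ⟨c, ⟨w1, hw1⟩, ⟨w2, hw2⟩⟩ := exists_shift_units hli hsp v
  have h1 : xR (1 : R) ∈ Gam k α := by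
    have := xR_mem_Gam (α := α) (1 : k)
    rwa [map_one] at this
  have hhalf : algebraMap k R 2⁻¹ * algebraMap k R 2 = 1 := by
    rw [← map_mul, inv_mul_cancel₀ h2, map_one]
  have h2R : algebraMap k R 2 = 2 := by
    rw [map_ofNat]
  have hA : xR ((algebraMap k R 2⁻¹ * (v + algebraMap k R c + 1)) ^ 2 * 1) ∈ Gam k α :=
    unit_sq_mul_mem hli hsp hαβ (ν := algebraMap k R 2 * w1) (by
      calc algebraMap k R 2⁻¹ * (v + algebraMap k R c + 1) * (algebraMap k R 2 * w1)
          = (algebraMap k R 2⁻¹ * algebraMap k R 2) * ((v + algebraMap k R c + 1) * w1) := by ring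
        _ = 1 := by rw [hhalf, hw1, one_mul]) h1
  have hB : xR ((algebraMap k R 2⁻¹ * (v + algebraMap k R c - 1)) ^ 2 * 1) ∈ Gam k α :=
    unit_sq_mul_mem hli hsp hαβ (ν := algebraMap k R 2 * w2) (by
      calc algebraMap k R 2⁻¹ * (v + algebraMap k R c - 1) * (algebraMap k R 2 * w2)
          = (algebraMap k R 2⁻¹ * algebraMap k R 2) * ((v + algebraMap k R c - 1) * w2) := by ring
        _ = 1 := by rw [hhalf, hw2, one_mul]) h1
  have hsum := add_mem_T (add_mem_T hA (neg_mem_T hB)) (neg_mem_T (xR_mem_Gam (α := α) c))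
  have e : (algebraMap k R 2⁻¹ * (v + algebraMap k R c + 1)) ^ 2 * 1 +
      -((algebraMap k R 2⁻¹ * (v + algebraMap k R c - 1)) ^ 2 * 1) + -(algebraMap k R c) = v := by
    have h4 : algebraMap k R 2⁻¹ ^ 2 * 4 = 1 := by
      have : (4 : R) = algebraMap k R 2 * algebraMap k R 2 := by rw [h2R]; norm_num
      rw [this]
      calc algebraMap k R 2⁻¹ ^ 2 * (algebraMap k R 2 * algebraMap k R 2)
          = (algebraMap k R 2⁻¹ * algebraMap k R 2) ^ 2 := by ring
        _ = 1 := by rw [hhalf, one_pow]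
    linear_combination (v + algebraMap k R c) * h4
  rwa [e] at hsum

include hli hsp in
/-- all lower unitriangular matrices lie in the subgroup -/
theorem yR_all_mem [Infinite k] [Nontrivial R] (h2 : (2 : k) ≠ 0) {β : R} (hαβ : α * β = 1) (v : R) :
    yR v ∈ Gam k α := by
  have hw : xR (-β) * yR α ∈ Gam k α := by
    apply (Gam k α).mul_mem (xR_all_mem hli hsp h2 hαβ _)
    have := yR_mem_Gam (α := α) (1 : k)
    rwa [map_one, one_mul] at this
  have h := conj_xR_eq_yR α β hαβ (-(v * β ^ 2))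
  have e : -(-(v * β ^ 2) * α ^ 2) = v := by
    have : β ^ 2 * α ^ 2 = 1 := by rw [← mul_pow, mul_comm, hαβ, one_pow]
    linear_combination v * this
  rw [e] at h
  have h' : yR v = (xR (-β) * yR α) * xR (-(v * β ^ 2)) * (xR (-β) * yR α)⁻¹ := by
    rw [h, mul_inv_cancel_right]
  rw [h']
  exact (Gam k α).mul_mem ((Gam k α).mul_mem hw (xR_all_mem hli hsp h2 hαβ _)) ((Gam k α).inv_mem hw)

end Cfsg.Agent.Lib.Helper8.Sr
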