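import Mathlib
import Cfsg.Agent.Lib.Helper8.Sr6

/-! `SL₂` over rings: change of rings, conjugation formulas, the lower unitriangular analogues. -/

set_option autoImplicit false
set_option linter.unusedSectionVars false
set_option linter.unusedSimpArgs false

namespace Cfsg.Agent.Lib.Helper8.Sr

open Matrix

section maps

variable {R S : Type*} [CommRing R] [CommRing S] (f : R →+* S)

theorem map_entry' (g : SpecialLinearGroup (Fin 2) R) (i j : Fin 2) :
    (SpecialLinearGroup.map f g).1 i j = f (g.1 i j) := by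
  rw [SpecialLinearGroup.map_apply_coe]
  rfl

theorem map_xR (t : R) : SpecialLinearGroup.map f (xR t) = xR (f t) := by
  apply ext2 <;> rw [map_entry'] <;> simp

theorem map_yR (t : R) : SpecialLinearGroup.map f (yR t) = yR (f t) := by
  apply ext2 <;> rw [map_entry'] <;> simp

theorem mem_ker_map_iff (g : SpecialLinearGroup (Fin 2) R) :
    SpecialLinearGroup.map f g = 1 ↔
      f (g.1 0 0) = 1 ∧ f (g.1 0 1) = 0 ∧ f (g.1 1 0) = 0 ∧ f (g.1 1 1) = 1 := by
  constructor
  · intro h
    have h' := fun i j => map_entry' f g i j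
    simp only [h] at h'
    refine ⟨(h' 0 0).symm.trans ?_, (h' 0 1).symm.trans ?_, (h' 1 0).symm.trans ?_, (h' 1 1).symm.trans ?_⟩ <;>
      simp
  · rintro ⟨h00, h01, h10, h11⟩
    apply ext2 <;> rw [map_entry'] <;> simp [h00, h01, h10, h11]

end maps

section alg

variable {k R S : Type*} [Field k] [CommRing R] [CommRing S] [Algebra k R] [Algebra k S]

theorem map_gens (f : R →ₐ[k] S) (α : R) :
    (SpecialLinearGroup.map (f : R →+* S)) '' (gens k α) = gens k (f α) := by
  unfold gens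
  rw [Set.image_union]
  congr 1
  · ext g
    constructor
    · rintro ⟨_, ⟨c, rfl⟩, rfl⟩
      refine ⟨c, ?_⟩
      rw [map_xR]
      congr 1
      exact f.commutes c
    · rintro ⟨c, rfl⟩
      refine ⟨_, ⟨c, rfl⟩, ?_⟩
      rw [map_xR]
      congr 1
      exact f.commutes c
  · ext g
    constructor
    · rintro ⟨_, ⟨c, rfl⟩, rfl⟩
      refine ⟨c, ?_⟩
      rw [map_yR]
      congr 1
      rw [map_mul]
      congr 1
      exact f.commutes c
    · rintro ⟨c, rfl⟩
      refine ⟨_, ⟨c, rfl⟩, ?_⟩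
      rw [map_yR]
      congr 1
      rw [map_mul]
      congr 1
      exact f.commutes c

theorem map_Gam (f : R →ₐ[k] S) (α : R) :
    (Gam k α).map (SpecialLinearGroup.map (f : R →+* S)) = Gam k (f α) := by
  unfold Gam
  rw [MonoidHom.map_closure, map_gens]

end alg

section conj

variable {R : Type*} [CommRing R]

/-- conjugating `xR t` when `t` annihilates the lower left entry -/
theorem conj_xR_of_ann (h : SpecialLinearGroup (Fin 2) R) (t : R) (h1 : t * h.1 1 0 = 0) :
    h * xR t * h⁻¹ = xR (h.1 0 0 ^ 2 * t) := by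
  have hd := det2 h
  have e : h * xR t = xR (h.1 0 0 ^ 2 * t) * h := by
    apply ext2
    · rw [mul_00, mul_00]; simp only [xR_00, xR_01, xR_10, xR_11]
      linear_combination (-(h.1 0 0 ^ 2)) * h1
    · rw [mul_01, mul_01]; simp only [xR_00, xR_01, xR_10, xR_11]
      linear_combination (-(h.1 0 0 * t)) * hd - (h.1 0 0 * h.1 0 1) * h1
    · rw [mul_10, mul_10]; simp only [xR_00, xR_01, xR_10, xR_11]
      ring
    · rw [mul_11, mul_11]; simp only [xR_00, xR_01, xR_10, xR_11]
      linear_combination h1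
  rw [e, mul_inv_cancel_right]

/-- conjugating `xR t` when `t` annihilates the upper left entry -/
theorem conj_xR_of_ann' (h : SpecialLinearGroup (Fin 2) R) (t : R) (h1 : t * h.1 0 0 = 0) :
    h * xR t * h⁻¹ = yR (-(h.1 1 0 ^ 2 * t)) := by
  have hd := det2 h
  have e : h * xR t = yR (-(h.1 1 0 ^ 2 * t)) * h := by
    apply ext2
    · rw [mul_00, mul_00]; simp only [xR_00, xR_01, xR_10, xR_11, yR_00, yR_01, yR_10, yR_11]
      ring
    · rw [mul_01, mul_01]; simp only [xR_00, xR_01, xR_10, xR_11, yR_00, yR_01, yR_10, yR_11]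
      linear_combination h1
    · rw [mul_10, mul_10]; simp only [xR_00, xR_01, xR_10, xR_11, yR_00, yR_01, yR_10, yR_11]
      linear_combination (h.1 1 0 ^ 2) * h1
    · rw [mul_11, mul_11]; simp only [xR_00, xR_01, xR_10, xR_11, yR_00, yR_01, yR_10, yR_11]
      linear_combination (-(h.1 1 0 * t)) * hd + (h.1 1 0 * h.1 1 1) * h1
  rw [e, mul_inv_cancel_right]

/-- the element `w(u) = x(u) y(-v) x(u)` when `u v = 1` -/
def wR (u v : R) (h : u * v = 1) : SpecialLinearGroup (Fin 2) R :=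
  ⟨!![0, u; -v, 0], by simp [Matrix.det_fin_two, h]⟩

@[simp] theorem wR_00 (u v : R) (h : u * v = 1) : (wR u v h).1 0 0 = 0 := rfl
@[simp] theorem wR_01 (u v : R) (h : u * v = 1) : (wR u v h).1 0 1 = u := rfl
@[simp] theorem wR_10 (u v : R) (h : u * v = 1) : (wR u v h).1 1 0 = -v := rfl
@[simp] theorem wR_11 (u v : R) (h : u * v = 1) : (wR u v h).1 1 1 = 0 := rfl

theorem wR_eq (u v : R) (h : u * v = 1) : wR u v h = xR u * yR (-v) * xR u := by
  apply ext2
  · simp only [mul_00, mul_01, mul_10, mul_11, xR_00, xR_01, xR_10, xR_11, yR_00, yR_01, yR_10, yR_11,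
      wR_00]
    linear_combination h
  · simp only [mul_00, mul_01, mul_10, mul_11, xR_00, xR_01, xR_10, xR_11, yR_00, yR_01, yR_10, yR_11,
      wR_01]
    linear_combination u * h
  · simp only [mul_00, mul_01, mul_10, mul_11, xR_00, xR_01, xR_10, xR_11, yR_00, yR_01, yR_10, yR_11,
      wR_10]
    ring
  · simp only [mul_00, mul_01, mul_10, mul_11, xR_00, xR_01, xR_10, xR_11, yR_00, yR_01, yR_10, yR_11,
      wR_11]
    linear_combination h

theorem wR_mul_xR (u v : R) (h : u * v = 1) (t : R) :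
    wR u v h * xR t = yR (-(v ^ 2 * t)) * wR u v h := by
  apply ext2
  · simp only [mul_00, mul_01, mul_10, mul_11, xR_00, xR_01, xR_10, xR_11, yR_00, yR_01, yR_10, yR_11,
      wR_00, wR_01, wR_10, wR_11]; ring
  · simp only [mul_00, mul_01, mul_10, mul_11, xR_00, xR_01, xR_10, xR_11, yR_00, yR_01, yR_10, yR_11,
      wR_00, wR_01, wR_10, wR_11]; ring
  · simp only [mul_00, mul_01, mul_10, mul_11, xR_00, xR_01, xR_10, xR_11, yR_00, yR_01, yR_10, yR_11,
      wR_00, wR_01, wR_10, wR_11]; ring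
  · simp only [mul_00, mul_01, mul_10, mul_11, xR_00, xR_01, xR_10, xR_11, yR_00, yR_01, yR_10, yR_11,
      wR_00, wR_01, wR_10, wR_11]
    linear_combination (v * t) * h

theorem wR_mul_yR (u v : R) (h : u * v = 1) (t : R) :
    wR u v h * yR t = xR (-(u ^ 2 * t)) * wR u v h := by
  apply ext2
  · simp only [mul_00, mul_01, mul_10, mul_11, xR_00, xR_01, xR_10, xR_11, yR_00, yR_01, yR_10, yR_11,
      wR_00, wR_01, wR_10, wR_11]
    linear_combination (-(u * t)) * h
  · simp only [mul_00, mul_01, mul_10, mul_11, xR_00, xR_01, xR_10, xR_11, yR_00, yR_01, yR_10, yR_11,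
      wR_00, wR_01, wR_10, wR_11]; ring
  · simp only [mul_00, mul_01, mul_10, mul_11, xR_00, xR_01, xR_10, xR_11, yR_00, yR_01, yR_10, yR_11,
      wR_00, wR_01, wR_10, wR_11]; ring
  · simp only [mul_00, mul_01, mul_10, mul_11, xR_00, xR_01, xR_10, xR_11, yR_00, yR_01, yR_10, yR_11,
      wR_00, wR_01, wR_10, wR_11]; ring

/-- `w(u) w(1)⁻¹ = diag(u, u⁻¹)` -/
theorem wR_mul_wR_one_inv (u v : R) (h : u * v = 1) :
    wR u v h * (wR 1 1 (one_mul 1))⁻¹ = dR u v h := by
  rw [mul_inv_eq_iff_eq_mul]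
  apply ext2
  · simp only [mul_00, mul_01, mul_10, mul_11, dR_00, dR_01, dR_10, dR_11, wR_00, wR_01, wR_10, wR_11]; ring
  · simp only [mul_00, mul_01, mul_10, mul_11, dR_00, dR_01, dR_10, dR_11, wR_00, wR_01, wR_10, wR_11]; ring
  · simp only [mul_00, mul_01, mul_10, mul_11, dR_00, dR_01, dR_10, dR_11, wR_00, wR_01, wR_10, wR_11]; ring
  · simp only [mul_00, mul_01, mul_10, mul_11, dR_00, dR_01, dR_10, dR_11, wR_00, wR_01, wR_10, wR_11]; ring

end conj

section lower

variable {k R : Type*} [Field k] [CommRing R] [Algebra k R] {α : R}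

theorem sq_mul_mem_y (a : k) {t : R} (ht : yR t ∈ Gam k α) :
    yR (algebraMap k R a ^ 2 * t) ∈ Gam k α := by
  by_cases ha : a = 0
  · rw [ha, map_zero, zero_pow (by norm_num), zero_mul, yR_zero]
    exact (Gam k α).one_mem
  · have := torus_conj a⁻¹ a (inv_mul_cancel₀ ha) ht
    rwa [dR_mul_yR, mul_inv_cancel_right] at this

theorem neg_mem_T2 {t : R} (ht : yR t ∈ Gam k α) : yR (-t) ∈ Gam k α := by
  rw [← yR_inv]; exact (Gam k α).inv_mem ht

theorem add_mem_T2 {s t : R} (hs : yR s ∈ Gam k α) (ht : yR t ∈ Gam k α) : yR (s + t) ∈ Gam k α := by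
  rw [yR_add]; exact (Gam k α).mul_mem hs ht

theorem smul_mem_T2 (h2 : (2 : k) ≠ 0) (c : k) {t : R} (ht : yR t ∈ Gam k α) :
    yR (algebraMap k R c * t) ∈ Gam k α := by
  have hc : c = ((c + 1) / 2) ^ 2 - ((c - 1) / 2) ^ 2 := by
    field_simp; ring
  have : algebraMap k R c * t = algebraMap k R ((c + 1) / 2) ^ 2 * t +
      -(algebraMap k R ((c - 1) / 2) ^ 2 * t) := by
    conv_lhs => rw [hc]
    rw [map_sub, map_pow, map_pow]; ring
  rw [this]
  exact add_mem_T2 (sq_mul_mem_y _ ht) (neg_mem_T2 (sq_mul_mem_y _ ht))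

end lower

end Cfsg.Agent.Lib.Helper8.Sr
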