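import Mathlib
import Cfsg.Agent.Lib.Helper8.Sm1

/-! Normal subgroups of `SL₂(K)` are central or everything. -/

set_option autoImplicit false
set_option linter.unusedSectionVars false

namespace Cfsg.Agent.Lib.Helper8.Sr

open Matrix

variable {K : Type*} [Field K]

theorem normal_le_center_or_top (hK : ∃ a : K, a ≠ 0 ∧ a ^ 2 ≠ 1)
    (N : Subgroup (SpecialLinearGroup (Fin 2) K)) (hN : N.Normal) :
    N ≤ Subgroup.center (SpecialLinearGroup (Fin 2) K) ∨ N = ⊤ := by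
  have hsimple : IsSimpleGroup (ProjectiveSpecialLinearGroup (Fin 2) K) :=
    Matrix.ProjectiveSpecialLinearGroup.rank_two_simple' hK
  set Z := Subgroup.center (SpecialLinearGroup (Fin 2) K) with hZ
  have hmapN : (N.map (QuotientGroup.mk' Z)).Normal :=
    hN.map _ (QuotientGroup.mk'_surjective Z)
  rcases hmapN.eq_bot_or_eq_top with h | h
  · left
    rw [Subgroup.map_eq_bot_iff, QuotientGroup.ker_mk'] at h
    exact h
  · right
    have h1 : N ⊔ Z = ⊤ := by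
      have := Subgroup.comap_map_eq (QuotientGroup.mk' Z) N
      rw [h, Subgroup.comap_top, QuotientGroup.ker_mk'] at this
      exact this.symm
    obtain ⟨a, ha, hasq⟩ := hK
    have hperf : commutator (SpecialLinearGroup (Fin 2) K) = ⊤ := SL2.commutator_eq_top ha hasq
    rw [eq_top_iff, ← hperf, commutator_def, Subgroup.commutator_le]
    intro g₁ _ g₂ _
    have hg₁ : g₁ ∈ N ⊔ Z := by rw [h1]; trivial
    have hg₂ : g₂ ∈ N ⊔ Z := by rw [h1]; trivial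
    have hZn : Z.Normal := by rw [hZ]; infer_instance
    rw [Subgroup.mem_sup_of_normal_right] at hg₁ hg₂
    obtain ⟨n₁, hn₁, z₁, hz₁, rfl⟩ := hg₁
    obtain ⟨n₂, hn₂, z₂, hz₂, rfl⟩ := hg₂
    have hc1 : ∀ x, z₁ * x = x * z₁ := fun x => (Subgroup.mem_center_iff.mp hz₁ x).symm
    have hc2 : ∀ x, z₂ * x = x * z₂ := fun x => (Subgroup.mem_center_iff.mp hz₂ x).symm
    rw [commutatorElement_def]
    have e : n₁ * z₁ * (n₂ * z₂) * (n₁ * z₁)⁻¹ * (n₂ * z₂)⁻¹ = n₁ * n₂ * n₁⁻¹ * n₂⁻¹ := by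
      simp only [_root_.mul_inv_rev]
      calc n₁ * z₁ * (n₂ * z₂) * (z₁⁻¹ * n₁⁻¹) * (z₂⁻¹ * n₂⁻¹)
          = n₁ * (z₁ * (n₂ * z₂ * z₁⁻¹)) * n₁⁻¹ * (z₂⁻¹ * n₂⁻¹) := by group
        _ = n₁ * ((n₂ * z₂ * z₁⁻¹) * z₁) * n₁⁻¹ * (z₂⁻¹ * n₂⁻¹) := by rw [hc1]
        _ = n₁ * n₂ * (z₂ * (n₁⁻¹ * z₂⁻¹)) * n₂⁻¹ := by group
        _ = n₁ * n₂ * ((n₁⁻¹ * z₂⁻¹) * z₂) * n₂⁻¹ := by rw [hc2]
        _ = n₁ * n₂ * n₁⁻¹ * n₂⁻¹ := by group
    rw [e]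
    exact N.mul_mem (N.mul_mem (N.mul_mem hn₁ hn₂) (N.inv_mem hn₁)) (N.inv_mem hn₂)

end Cfsg.Agent.Lib.Helper8.Sr
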