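import Mathlib
import Cfsg.Agent.Lib.Helper8.Sm2

/-! The induction step along a minimal ideal, case 1: the subgroup meets `xR(I)`. -/

set_option autoImplicit false
set_option linter.unusedSectionVars false
set_option linter.unusedSimpArgs false

namespace Cfsg.Agent.Lib.Helper8.Sr

open Matrix

variable {k R S K : Type*} [Field k] [CommRing R] [Algebra k R] [CommRing S] [Algebra k S]
  [Field K] [Algebra k K] {z : R} {I : Ideal R}
  (fI : R →ₐ[k] S) (fK : R →ₐ[k] K)

/-- the hypotheses on a minimal ideal `I` with annihilator the kernel of `fK` -/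
structure MinIdeal (z : R) (I : Ideal R) (fI : R →ₐ[k] S) (fK : R →ₐ[k] K) : Prop where
  kerI : ∀ r, fI r = 0 ↔ r ∈ I
  surjK : Function.Surjective fK
  ann : ∀ i ∈ I, ∀ r, fK r = 0 → r * i = 0
  ann' : ∀ i ∈ I, i ≠ 0 → ∀ r, r * i = 0 → fK r = 0
  gen : ∀ i ∈ I, i ≠ 0 → ∀ j ∈ I, ∃ a : R, j = a * i
  liftK : ∀ g : SpecialLinearGroup (Fin 2) K, ∃ h ∈ Gam k z,
    SpecialLinearGroup.map (fK : R →+* K) h = g
  liftX : ∀ r : R, ∃ h ∈ Gam k z, SpecialLinearGroup.map (fI : R →+* S) h = xR (fI r)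
  liftY : ∀ r : R, ∃ h ∈ Gam k z, SpecialLinearGroup.map (fI : R →+* S) h = yR (fI r)

variable {fI fK}

theorem MinIdeal.sq_mul_mem (H : MinIdeal z I fI fK) {i : R} (hi : i ∈ I) (hx : xR i ∈ Gam k z) (a : R) :
    xR (a ^ 2 * i) ∈ Gam k z := by
  by_cases ha : fK a = 0
  · have : a ^ 2 * i = 0 := by
      rw [pow_two, mul_assoc, H.ann i hi a ha, mul_zero]
    rw [this, xR_zero]
    exact (Gam k z).one_mem
  · obtain ⟨b, hb⟩ := H.surjK (fK a)⁻¹
    obtain ⟨h, hh, hmap⟩ := H.liftK (dR (fK a) (fK b) (by rw [hb, mul_inv_cancel₀ ha]))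
    have h00 : fK (h.1 0 0) = fK a := by
      have := map_entry' (fK : R →+* K) h 0 0
      rw [hmap] at this
      simpa using this.symm
    have h10 : fK (h.1 1 0) = 0 := by
      have := map_entry' (fK : R →+* K) h 1 0
      rw [hmap] at this
      simpa using this.symm
    have hc := conj_xR_of_ann h i (by rw [mul_comm]; exact H.ann i hi _ h10)
    have e : h.1 0 0 ^ 2 * i = a ^ 2 * i := by
      have : (h.1 0 0 ^ 2 - a ^ 2) * i = 0 := by
        apply H.ann i hi
        rw [map_sub, map_pow, map_pow, h00, sub_self]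
      linear_combination this
    rw [← e, ← hc]
    exact (Gam k z).mul_mem ((Gam k z).mul_mem hh hx) ((Gam k z).inv_mem hh)

theorem MinIdeal.mul_mem (H : MinIdeal z I fI fK) (h2 : (2 : k) ≠ 0) {i : R} (hi : i ∈ I)
    (hx : xR i ∈ Gam k z) (a : R) : xR (a * i) ∈ Gam k z := by
  have hhalf : algebraMap k R 2⁻¹ * 2 = 1 := by
    have : (2 : R) = algebraMap k R 2 := by rw [map_ofNat]
    rw [this, ← map_mul, inv_mul_cancel₀ h2, map_one]
  have e : a * i = ((a + 1) * algebraMap k R 2⁻¹) ^ 2 * i + -(((a - 1) * algebraMap k R 2⁻¹) ^ 2 * i) := by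
    have h4 : algebraMap k R 2⁻¹ ^ 2 * 4 = 1 := by
      calc algebraMap k R 2⁻¹ ^ 2 * 4 = (algebraMap k R 2⁻¹ * 2) ^ 2 := by ring
        _ = 1 := by rw [hhalf, one_pow]
    linear_combination (-(a * i)) * h4
  rw [e]
  exact add_mem_T (H.sq_mul_mem hi hx _) (neg_mem_T (H.sq_mul_mem hi hx _))

theorem MinIdeal.xR_mem_of_mem (H : MinIdeal z I fI fK) (h2 : (2 : k) ≠ 0) {i : R} (hi : i ∈ I)
    (hi0 : i ≠ 0) (hx : xR i ∈ Gam k z) {j : R} (hj : j ∈ I) : xR j ∈ Gam k z := by
  obtain ⟨a, rfl⟩ := H.gen i hi hi0 j hj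
  exact H.mul_mem h2 hi hx a

theorem MinIdeal.yR_mem_of_xR_mem (H : MinIdeal z I fI fK) {j : R} (hj : j ∈ I)
    (hx : xR j ∈ Gam k z) : yR (-j) ∈ Gam k z := by
  obtain ⟨h, hh, hmap⟩ := H.liftK (wR 1 1 (one_mul 1))
  have h00 : fK (h.1 0 0) = 0 := by
    have := map_entry' (fK : R →+* K) h 0 0
    rw [hmap] at this
    simpa using this.symm
  have h10 : fK (h.1 1 0) = -1 := by
    have := map_entry' (fK : R →+* K) h 1 0
    rw [hmap] at this
    simpa using this.symm
  have hc := conj_xR_of_ann' h j (by rw [mul_comm]; exact H.ann j hj _ h00)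
  have e : h.1 1 0 ^ 2 * j = j := by
    have : (h.1 1 0 ^ 2 - 1) * j = 0 := by
      apply H.ann j hj
      rw [map_sub, map_pow, h10, map_one]; ring
    linear_combination this
  rw [e] at hc
  rw [← hc]
  exact (Gam k z).mul_mem ((Gam k z).mul_mem hh hx) ((Gam k z).inv_mem hh)

theorem MinIdeal.mem_I_of_ker (H : MinIdeal z I fI fK) {g : SpecialLinearGroup (Fin 2) R}
    (hg : SpecialLinearGroup.map (fI : R →+* S) g = 1) :
    g.1 0 0 - 1 ∈ I ∧ g.1 0 1 ∈ I ∧ g.1 1 0 ∈ I ∧ g.1 1 1 - 1 ∈ I := by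
  rw [mem_ker_map_iff] at hg
  obtain ⟨h00, h01, h10, h11⟩ := hg
  refine ⟨?_, ?_, ?_, ?_⟩
  · rw [← H.kerI, map_sub, map_one]; exact sub_eq_zero.mpr h00
  · rw [← H.kerI]; exact h01
  · rw [← H.kerI]; exact h10
  · rw [← H.kerI, map_sub, map_one]; exact sub_eq_zero.mpr h11

/-- the diagonal part of the congruence kernel when `I² = 0` -/
theorem dR_mem_of_sq_zero {z : R} {i : R} (hii : i * i = 0)
    (hxi : xR i ∈ Gam k z) (hxi' : xR (-i) ∈ Gam k z) (hyi : yR (z ^ 2 * i) ∈ Gam k z) :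
    dR (1 - z * i) (1 + z * i) (by linear_combination (-(z ^ 2)) * hii) ∈ Gam k z := by
  have hyz : yR z ∈ Gam k z := by
    have := yR_mem_Gam (k := k) (α := z) 1
    rwa [map_one, one_mul] at this
  have hyz' : yR (-z) ∈ Gam k z := neg_mem_T2 hyz
  have e : dR (1 - z * i) (1 + z * i) (by linear_combination (-(z ^ 2)) * hii) =
      yR (z ^ 2 * i) * (yR z * xR i * yR (-z)) * xR (-i) := by
    apply ext2
    · simp only [mul_00, mul_01, mul_10, mul_11, xR_00, xR_01, xR_10, xR_11, yR_00, yR_01, yR_10, yR_11,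
        dR_00]
      ring
    · simp only [mul_00, mul_01, mul_10, mul_11, xR_00, xR_01, xR_10, xR_11, yR_00, yR_01, yR_10, yR_11,
        dR_01]
      linear_combination (-z) * hii
    · simp only [mul_00, mul_01, mul_10, mul_11, xR_00, xR_01, xR_10, xR_11, yR_00, yR_01, yR_10, yR_11,
        dR_10]
      linear_combination (z ^ 3) * hii
    · simp only [mul_00, mul_01, mul_10, mul_11, xR_00, xR_01, xR_10, xR_11, yR_00, yR_01, yR_10, yR_11,
        dR_11]
      linear_combination (-(z ^ 3 * i) - z ^ 2) * hii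
  rw [e]
  exact (Gam k z).mul_mem ((Gam k z).mul_mem hyi
    ((Gam k z).mul_mem ((Gam k z).mul_mem hyz hxi) hyz')) hxi'

/-- case 1, sub-case `I² = 0`: the congruence kernel lies in the subgroup -/
theorem MinIdeal.ker_le_A (H : MinIdeal z I fI fK) {z' : R} (hz : z * z' = 1)
    (hsq : ∀ i ∈ I, ∀ j ∈ I, i * j = 0)
    (hxI : ∀ j ∈ I, xR j ∈ Gam k z) (hyI : ∀ j ∈ I, yR j ∈ Gam k z)
    {g : SpecialLinearGroup (Fin 2) R} (hg : SpecialLinearGroup.map (fI : R →+* S) g = 1) :
    g ∈ Gam k z := by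
  obtain ⟨ha, hb, hc, hd⟩ := H.mem_I_of_ker hg
  set a := g.1 0 0 - 1 with ha_def
  set d := g.1 1 1 - 1 with hd_def
  have hdet := det2 g
  have h00 : g.1 0 0 = 1 + a := by rw [ha_def]; ring
  have h11 : g.1 1 1 = 1 + d := by rw [hd_def]; ring
  have had : a + d = 0 := by
    have h1 := hsq a ha d hd
    have h2 := hsq _ hb _ hc
    rw [h00, h11] at hdet
    linear_combination hdet - h1 + h2
  -- the element `i` with `a = - z i`
  set i := -(z' * a) with hi_def
  have hiI : i ∈ I := by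
    rw [hi_def]; exact I.neg_mem (I.mul_mem_left z' ha)
  have hzi : z * i = -a := by
    rw [hi_def]; linear_combination (-a) * hz
  have hD := dR_mem_of_sq_zero (k := k) (z := z) (hsq i hiI i hiI) (hxI i hiI) (hxI (-i) (I.neg_mem hiI))
    (hyI _ (I.mul_mem_left _ hiI))
  have e : g = yR (g.1 1 0) * dR (1 - z * i) (1 + z * i)
      (by linear_combination (-(z ^ 2)) * (hsq i hiI i hiI)) * xR (g.1 0 1) := by
    apply ext2
    · simp only [mul_00, mul_01, mul_10, mul_11, xR_00, xR_01, xR_10, xR_11, yR_00, yR_01, yR_10, yR_11,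
        dR_00, dR_01, dR_10, dR_11]
      rw [h00, hzi]; ring
    · simp only [mul_00, mul_01, mul_10, mul_11, xR_00, xR_01, xR_10, xR_11, yR_00, yR_01, yR_10, yR_11,
        dR_00, dR_01, dR_10, dR_11]
      rw [hzi]
      linear_combination (-1 : R) * hsq a ha _ hb
    · simp only [mul_00, mul_01, mul_10, mul_11, xR_00, xR_01, xR_10, xR_11, yR_00, yR_01, yR_10, yR_11,
        dR_00, dR_01, dR_10, dR_11]
      rw [hzi]
      linear_combination (-1 : R) * hsq _ hc a ha
    · simp only [mul_00, mul_01, mul_10, mul_11, xR_00, xR_01, xR_10, xR_11, yR_00, yR_01, yR_10, yR_11,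
        dR_00, dR_01, dR_10, dR_11]
      rw [h11, hzi]
      linear_combination had - (1 + a) * hsq _ hc _ hb
  rw [e]
  exact (Gam k z).mul_mem ((Gam k z).mul_mem (hyI _ hc) hD) (hxI _ hb)

/-- case 1, sub-case `I ∩ m = 0`: the congruence kernel lies in the subgroup -/
theorem MinIdeal.ker_le_B (H : MinIdeal z I fI fK)
    (hIm : ∀ r ∈ I, fK r = 0 → r = 0) (hsum : ∀ r : R, ∃ j ∈ I, fK j = fK r)
    (hxI : ∀ j ∈ I, xR j ∈ Gam k z) (hyI : ∀ j ∈ I, yR j ∈ Gam k z)
    {g : SpecialLinearGroup (Fin 2) R} (hg : SpecialLinearGroup.map (fI : R →+* S) g = 1) :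
    g ∈ Gam k z := by
  set Y : Subgroup (SpecialLinearGroup (Fin 2) R) :=
    Gam k z ⊓ (SpecialLinearGroup.map (fI : R →+* S)).ker with hY
  have hfI0 : ∀ j ∈ I, fI j = 0 := fun j hj => (H.kerI j).mpr hj
  have htop : Y.map (SpecialLinearGroup.map (fK : R →+* K)) = ⊤ := by
    rw [eq_top_iff, ← Cfsg.Agent.Lib.Helper8.St.closure_xS_yS, Subgroup.closure_le]
    rintro _ (⟨u, rfl⟩ | ⟨u, rfl⟩)
    · obtain ⟨r, rfl⟩ := H.surjK u
      obtain ⟨j, hj, hjr⟩ := hsum r
      refine ⟨xR j, ⟨hxI j hj, ?_⟩, ?_⟩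
      · show SpecialLinearGroup.map (fI : R →+* S) (xR j) = 1
        rw [map_xR]
        show xR (fI j) = 1
        rw [hfI0 j hj, xR_zero]
      · rw [map_xR]
        show xR (fK j) = _
        rw [hjr]; rfl
    · obtain ⟨r, rfl⟩ := H.surjK u
      obtain ⟨j, hj, hjr⟩ := hsum r
      refine ⟨yR j, ⟨hyI j hj, ?_⟩, ?_⟩
      · show SpecialLinearGroup.map (fI : R →+* S) (yR j) = 1
        rw [map_yR]
        show yR (fI j) = 1
        rw [hfI0 j hj, yR_zero]
      · rw [map_yR]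
        show yR (fK j) = _
        rw [hjr]; rfl
  have hgK : SpecialLinearGroup.map (fK : R →+* K) g ∈ Y.map (SpecialLinearGroup.map (fK : R →+* K)) := by
    rw [htop]; trivial
  obtain ⟨y, hyY, hyg⟩ := hgK
  have hyker : SpecialLinearGroup.map (fI : R →+* S) y = 1 := hyY.2
  obtain ⟨g00, g01, g10, g11⟩ := H.mem_I_of_ker hg
  obtain ⟨y00, y01, y10, y11⟩ := H.mem_I_of_ker hyker
  have hent : ∀ i j, fK (y.1 i j) = fK (g.1 i j) := by
    intro i j
    have h1 := map_entry' (fK : R →+* K) y i j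
    have h2 := map_entry' (fK : R →+* K) g i j
    rw [hyg] at h1
    exact h1.symm.trans h2
  have hgy : g = y := by
    apply ext2
    · have := hIm (g.1 0 0 - 1 - (y.1 0 0 - 1)) (I.sub_mem g00 y00) (by
        rw [map_sub, map_sub, map_sub, hent]; ring)
      linear_combination this
    · have := hIm (g.1 0 1 - y.1 0 1) (I.sub_mem g01 y01) (by rw [map_sub, hent]; ring)
      linear_combination this
    · have := hIm (g.1 1 0 - y.1 1 0) (I.sub_mem g10 y10) (by rw [map_sub, hent]; ring)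
      linear_combination this
    · have := hIm (g.1 1 1 - 1 - (y.1 1 1 - 1)) (I.sub_mem g11 y11) (by
        rw [map_sub, map_sub, map_sub, hent]; ring)
      linear_combination this
  rw [hgy]
  exact hyY.1

/-- conclusion of case 1 -/
theorem MinIdeal.all_mem_of_ker_le (H : MinIdeal z I fI fK)
    (hker : ∀ g : SpecialLinearGroup (Fin 2) R, SpecialLinearGroup.map (fI : R →+* S) g = 1 → g ∈ Gam k z)
    (r : R) : xR r ∈ Gam k z ∧ yR r ∈ Gam k z := by
  constructor
  · obtain ⟨h, hh, hmap⟩ := H.liftX r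
    have : h⁻¹ * xR r ∈ Gam k z := by
      apply hker
      rw [map_mul, map_inv, hmap, map_xR]
      exact inv_mul_cancel _
    have := (Gam k z).mul_mem hh this
    rwa [mul_inv_cancel_left] at this
  · obtain ⟨h, hh, hmap⟩ := H.liftY r
    have : h⁻¹ * yR r ∈ Gam k z := by
      apply hker
      rw [map_mul, map_inv, hmap, map_yR]
      exact inv_mul_cancel _
    have := (Gam k z).mul_mem hh this
    rwa [mul_inv_cancel_left] at this

end Cfsg.Agent.Lib.Helper8.Sr
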