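import Mathlib
import Cfsg.Agent.Lib.Helper8.Sm3

/-! The induction step along a minimal ideal, case 2: the subgroup misses `xR(I)`; a contradiction. -/

set_option autoImplicit false
set_option linter.unusedSectionVars false
set_option linter.unusedSimpArgs false

namespace Cfsg.Agent.Lib.Helper8.Sr

open Matrix

section scal

variable {R : Type*} [CommRing R]

/-- scalar matrices -/
def IsScal (y : SpecialLinearGroup (Fin 2) R) : Prop :=
  y.1 0 1 = 0 ∧ y.1 1 0 = 0 ∧ y.1 0 0 = y.1 1 1

theorem trace_conj (g u : SpecialLinearGroup (Fin 2) R) :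
    (g * u * g⁻¹).1 0 0 + (g * u * g⁻¹).1 1 1 = u.1 0 0 + u.1 1 1 := by
  have h1 : (g * u * g⁻¹).1 = g.1 * (u.1 * (g⁻¹).1) := by
    simp [Matrix.mul_assoc]
  have h2 : Matrix.trace (g * u * g⁻¹).1 = Matrix.trace u.1 := by
    rw [h1, Matrix.trace_mul_comm, Matrix.mul_assoc]
    have : (g⁻¹).1 * g.1 = 1 := by
      show (g⁻¹ * g).1 = 1
      rw [inv_mul_cancel]; rfl
    rw [this, Matrix.mul_one]
  rw [Matrix.trace_fin_two, Matrix.trace_fin_two] at h2
  exact h2

/-- if the commutator of `g` and `u` is scalar and `u` has trace `2`, they commute -/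
theorem comm_of_scal {half : R} (hhalf : half * 2 = 1) (g u : SpecialLinearGroup (Fin 2) R)
    (htr : u.1 0 0 + u.1 1 1 = 2) (hc : IsScal (g * u * g⁻¹ * u⁻¹)) : g * u = u * g := by
  set c := g * u * g⁻¹ * u⁻¹ with hc_def
  obtain ⟨c01, c10, c00⟩ := hc
  have hcu : c * u = g * u * g⁻¹ := by rw [hc_def, inv_mul_cancel_right]
  have htr' := trace_conj g u
  rw [← hcu, mul_00, mul_11, c01, c10, htr] at htr'
  have ha : c.1 0 0 = 1 := by
    have : c.1 0 0 * 2 = 2 := by
      rw [← c00] at htr'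
      linear_combination htr' - c.1 0 0 * htr
    calc c.1 0 0 = c.1 0 0 * 2 * half := by linear_combination (-(c.1 0 0)) * hhalf
      _ = 2 * half := by rw [this]
      _ = 1 := by rw [mul_comm]; exact hhalf
  have hc1 : c = 1 := by
    apply ext2
    · rw [ha]; rfl
    · rw [c01]; rfl
    · rw [c10]; rfl
    · rw [← c00, ha]; rfl
  have : g * u * g⁻¹ = u := by rw [← hcu, hc1, one_mul]
  calc g * u = g * u * g⁻¹ * g := by rw [inv_mul_cancel_right]
    _ = u * g := by rw [this]

/-- the centralizer of `xR 1` -/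
theorem of_comm_xR_one (g : SpecialLinearGroup (Fin 2) R) (h : g * xR 1 = xR 1 * g) :
    g.1 1 0 = 0 ∧ g.1 0 0 = g.1 1 1 := by
  have h00 := congrArg (fun m : SpecialLinearGroup (Fin 2) R => m.1 0 0) h
  have h01 := congrArg (fun m : SpecialLinearGroup (Fin 2) R => m.1 0 1) h
  simp only [mul_00, mul_01, xR_00, xR_01, xR_10, xR_11] at h00 h01
  constructor
  · linear_combination (-1 : R) * h00
  · have : g.1 1 0 = 0 := by linear_combination (-1 : R) * h00
    linear_combination h01

/-- the centralizer of `yR z`, `z` a unit -/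
theorem of_comm_yR (g : SpecialLinearGroup (Fin 2) R) {z z' : R} (hz : z * z' = 1)
    (h : g * yR z = yR z * g) : g.1 0 1 = 0 ∧ g.1 0 0 = g.1 1 1 := by
  have h00 := congrArg (fun m : SpecialLinearGroup (Fin 2) R => m.1 0 0) h
  have h10 := congrArg (fun m : SpecialLinearGroup (Fin 2) R => m.1 1 0) h
  simp only [mul_00, mul_10, yR_00, yR_01, yR_10, yR_11] at h00 h10
  have h1 : g.1 0 1 * z = 0 := by linear_combination h00
  have h01 : g.1 0 1 = 0 := by
    calc g.1 0 1 = g.1 0 1 * z * z' := by linear_combination (-(g.1 0 1)) * hz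
      _ = 0 := by rw [h1, zero_mul]
  constructor
  · exact h01
  · have h2 : (g.1 0 0 - g.1 1 1) * z = 0 := by linear_combination (-1 : R) * h10
    have : g.1 0 0 - g.1 1 1 = 0 := by
      calc g.1 0 0 - g.1 1 1 = (g.1 0 0 - g.1 1 1) * z * z' := by
            linear_combination (-(g.1 0 0 - g.1 1 1)) * hz
        _ = 0 := by rw [h2, zero_mul]
    linear_combination this

/-- the square of an upper triangular matrix with equal diagonal entries -/
theorem sq_of_upper (g : SpecialLinearGroup (Fin 2) R) (h10 : g.1 1 0 = 0) (hd : g.1 0 0 = g.1 1 1) :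
    g * g = xR (2 * (g.1 0 0 * g.1 0 1)) := by
  have hdet := det2 g
  rw [h10, ← hd] at hdet
  apply ext2
  · simp only [mul_00, xR_00, h10]; linear_combination hdet
  · simp only [mul_01, xR_01, ← hd]; ring
  · simp only [mul_10, xR_10, h10]; ring
  · simp only [mul_11, xR_11, h10, ← hd]; linear_combination hdet

theorem sq_of_lower (g : SpecialLinearGroup (Fin 2) R) (h01 : g.1 0 1 = 0) (hd : g.1 0 0 = g.1 1 1) :
    g * g = yR (2 * (g.1 0 0 * g.1 1 0)) := by
  have hdet := det2 g
  rw [h01, ← hd] at hdet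
  apply ext2
  · simp only [mul_00, yR_00, h01]; linear_combination hdet
  · simp only [mul_01, yR_01, h01]; ring
  · simp only [mul_10, yR_10, ← hd]; ring
  · simp only [mul_11, yR_11, h01, ← hd]; linear_combination hdet

end scal

section explicit

variable {R : Type*} [CommRing R]

/-- the conjugate `W x(1) W⁻¹` for `W = x(u) y(-v) x(u)` -/
def G1 (u v : R) : SpecialLinearGroup (Fin 2) R :=
  ⟨!![1 + (1 - u * v) * v, (1 - u * v) ^ 2; -(v ^ 2), 1 - (1 - u * v) * v], by
    simp only [Matrix.det_fin_two_of]; ring⟩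

theorem G1_spec (u v : R) :
    (xR u * yR (-v) * xR u) * xR 1 = G1 u v * (xR u * yR (-v) * xR u) := by
  apply ext2
  · simp only [mul_00, mul_01, mul_10, mul_11, xR_00, xR_01, xR_10, xR_11, yR_00, yR_01, yR_10, yR_11]
    show _ = (1 + (1 - u * v) * v) * _ + (1 - u * v) ^ 2 * _
    ring
  · simp only [mul_00, mul_01, mul_10, mul_11, xR_00, xR_01, xR_10, xR_11, yR_00, yR_01, yR_10, yR_11]
    show _ = (1 + (1 - u * v) * v) * _ + (1 - u * v) ^ 2 * _
    ring
  · simp only [mul_00, mul_01, mul_10, mul_11, xR_00, xR_01, xR_10, xR_11, yR_00, yR_01, yR_10, yR_11]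
    show _ = (-(v ^ 2)) * _ + (1 - (1 - u * v) * v) * _
    ring
  · simp only [mul_00, mul_01, mul_10, mul_11, xR_00, xR_01, xR_10, xR_11, yR_00, yR_01, yR_10, yR_11]
    show _ = (-(v ^ 2)) * _ + (1 - (1 - u * v) * v) * _
    ring

/-- the conjugate `W' y(z) W'⁻¹` for `W' = y(-v) x(u) y(-v)` -/
def G2 (u v z : R) : SpecialLinearGroup (Fin 2) R :=
  ⟨!![1 + z * u * (1 - u * v), -(z * u ^ 2); z * (1 - u * v) ^ 2, 1 - z * u * (1 - u * v)], by
    simp only [Matrix.det_fin_two_of]; ring⟩

theorem G2_spec (u v z : R) :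
    (yR (-v) * xR u * yR (-v)) * yR z = G2 u v z * (yR (-v) * xR u * yR (-v)) := by
  apply ext2
  · simp only [mul_00, mul_01, mul_10, mul_11, xR_00, xR_01, xR_10, xR_11, yR_00, yR_01, yR_10, yR_11]
    show _ = (1 + z * u * (1 - u * v)) * _ + (-(z * u ^ 2)) * _
    ring
  · simp only [mul_00, mul_01, mul_10, mul_11, xR_00, xR_01, xR_10, xR_11, yR_00, yR_01, yR_10, yR_11]
    show _ = (1 + z * u * (1 - u * v)) * _ + (-(z * u ^ 2)) * _
    ring
  · simp only [mul_00, mul_01, mul_10, mul_11, xR_00, xR_01, xR_10, xR_11, yR_00, yR_01, yR_10, yR_11]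
    show _ = (z * (1 - u * v) ^ 2) * _ + (1 - z * u * (1 - u * v)) * _
    ring
  · simp only [mul_00, mul_01, mul_10, mul_11, xR_00, xR_01, xR_10, xR_11, yR_00, yR_01, yR_10, yR_11]
    show _ = (z * (1 - u * v) ^ 2) * _ + (1 - z * u * (1 - u * v)) * _
    ring

end explicit

end Cfsg.Agent.Lib.Helper8.Sr
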