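import Mathlib
import Cfsg.Agent.Lib.Helper8.Sm4

/-! Case 2 of the induction step: lifting the unipotent elements and the relations. -/

set_option autoImplicit false
set_option linter.unusedSectionVars false
set_option linter.unusedSimpArgs false

namespace Cfsg.Agent.Lib.Helper8.Sr

open Matrix

variable {k R S K : Type*} [Field k] [CommRing R] [Algebra k R] [CommRing S] [Algebra k S]
  [Field K] [Algebra k K] {z : R} {I : Ideal R} {fI : R →ₐ[k] S} {fK : R →ₐ[k] K}

theorem half_mul_two (h2 : (2 : k) ≠ 0) : algebraMap k R 2⁻¹ * 2 = 1 := by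
  have : (2 : R) = algebraMap k R 2 := by rw [map_ofNat]
  rw [this, ← map_mul, inv_mul_cancel₀ h2, map_one]

theorem xR_one_mem : xR (1 : R) ∈ Gam k z := by
  have := xR_mem_Gam (k := k) (α := z) 1
  rwa [map_one] at this

theorem yR_z_mem : yR z ∈ Gam k z := by
  have := yR_mem_Gam (k := k) (α := z) 1
  rwa [map_one, one_mul] at this

/-- the scalar hypothesis of case 2 -/
def ScalKer (k : Type*) [Field k] [Algebra k R] [Algebra k S] (z : R) (fI : R →ₐ[k] S) : Prop :=
  ∀ y ∈ Gam k z, SpecialLinearGroup.map (fI : R →+* S) y = 1 → IsScal y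

theorem MinIdeal.exists_T1 (H : MinIdeal z I fI fK) (hZ : ScalKer k z fI) (h2 : (2 : k) ≠ 0) (r : R) :
    ∃ b : R, xR b ∈ Gam k z ∧ fI b = fI r := by
  obtain ⟨g, hg, hmap⟩ := H.liftX r
  have hx1 : xR (1 : R) ∈ Gam k z := xR_one_mem
  have hc : IsScal (g * xR 1 * g⁻¹ * (xR 1)⁻¹) := by
    apply hZ
    · exact (Gam k z).mul_mem ((Gam k z).mul_mem ((Gam k z).mul_mem hg hx1) ((Gam k z).inv_mem hg))
        ((Gam k z).inv_mem hx1)
    · rw [map_mul, map_mul, map_mul, map_inv, map_inv, hmap, map_xR, xR_inv, xR_inv, ← xR_add,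
        ← xR_add, ← xR_add]
      convert xR_zero using 2
      ring
  have hcomm := comm_of_scal (half_mul_two h2) g (xR 1) (by simp only [xR_00, xR_11]; norm_num) hc
  obtain ⟨h10, hd⟩ := of_comm_xR_one g hcomm
  have hsq := sq_of_upper g h10 hd
  have h1 : xR (2 * (g.1 0 0 * g.1 0 1)) ∈ Gam k z := by rw [← hsq]; exact (Gam k z).mul_mem hg hg
  have h3 := smul_mem_T h2 2⁻¹ h1
  refine ⟨g.1 0 0 * g.1 0 1, ?_, ?_⟩
  · convert h3 using 2
    linear_combination (-(g.1 0 0 * g.1 0 1)) * half_mul_two (R := R) h2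
  · have e00 := map_entry' (fI : R →+* S) g 0 0
    have e01 := map_entry' (fI : R →+* S) g 0 1
    rw [hmap] at e00 e01
    simp only [xR_00, xR_01] at e00 e01
    rw [map_mul]
    have e00' : fI (g.1 0 0) = 1 := e00.symm
    have e01' : fI (g.1 0 1) = fI r := e01.symm
    rw [e00', e01', one_mul]

theorem MinIdeal.exists_T2 (H : MinIdeal z I fI fK) (hZ : ScalKer k z fI) (h2 : (2 : k) ≠ 0)
    {z' : R} (hz : z * z' = 1) (r : R) :
    ∃ b : R, yR b ∈ Gam k z ∧ fI b = fI r := by
  obtain ⟨g, hg, hmap⟩ := H.liftY r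
  have hy1 : yR z ∈ Gam k z := yR_z_mem
  have hc : IsScal (g * yR z * g⁻¹ * (yR z)⁻¹) := by
    apply hZ
    · exact (Gam k z).mul_mem ((Gam k z).mul_mem ((Gam k z).mul_mem hg hy1) ((Gam k z).inv_mem hg))
        ((Gam k z).inv_mem hy1)
    · rw [map_mul, map_mul, map_mul, map_inv, map_inv, hmap, map_yR, yR_inv, yR_inv, ← yR_add,
        ← yR_add, ← yR_add]
      convert yR_zero using 2
      ring
  have hcomm := comm_of_scal (half_mul_two h2) g (yR z) (by simp only [yR_00, yR_11]; norm_num) hc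
  obtain ⟨h01, hd⟩ := of_comm_yR g hz hcomm
  have hsq := sq_of_lower g h01 hd
  have h1 : yR (2 * (g.1 0 0 * g.1 1 0)) ∈ Gam k z := by rw [← hsq]; exact (Gam k z).mul_mem hg hg
  have h3 := smul_mem_T2 h2 2⁻¹ h1
  refine ⟨g.1 0 0 * g.1 1 0, ?_, ?_⟩
  · convert h3 using 2
    linear_combination (-(g.1 0 0 * g.1 1 0)) * half_mul_two (R := R) h2
  · have e00 := map_entry' (fI : R →+* S) g 0 0
    have e10 := map_entry' (fI : R →+* S) g 1 0
    rw [hmap] at e00 e10
    simp only [yR_00, yR_10] at e00 e10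
    rw [map_mul]
    have e00' : fI (g.1 0 0) = 1 := e00.symm
    have e10' : fI (g.1 1 0) = fI r := e10.symm
    rw [e00', e10', one_mul]

/-- inverses of units of `T₁` lie in `T₂` -/
theorem MinIdeal.inv_mem_T2 (H : MinIdeal z I fI fK) (hZ : ScalKer k z fI) (h2 : (2 : k) ≠ 0)
    {z' : R} (hz : z * z' = 1) {u u' : R} (hu : u * u' = 1) (hxu : xR u ∈ Gam k z) :
    yR u' ∈ Gam k z := by
  obtain ⟨v, hyv, hv⟩ := H.exists_T2 hZ h2 hz u'
  set W := xR u * yR (-v) * xR u with hW
  have hWm : W ∈ Gam k z := (Gam k z).mul_mem ((Gam k z).mul_mem hxu (neg_mem_T2 hyv)) hxu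
  have hG1 : G1 u v ∈ Gam k z := by
    have e : G1 u v = W * xR 1 * W⁻¹ := by
      rw [G1_spec u v, mul_inv_cancel_right]
    rw [e]
    exact (Gam k z).mul_mem ((Gam k z).mul_mem hWm xR_one_mem) ((Gam k z).inv_mem hWm)
  have hδ : fI (1 - u * v) = 0 := by
    rw [map_sub, map_one, map_mul, hv, ← map_mul, hu, map_one, sub_self]
  have hy1 : yR z ∈ Gam k z := yR_z_mem
  have hmapG : SpecialLinearGroup.map (fI : R →+* S) (G1 u v) = yR (-(fI v ^ 2)) := by
    apply ext2
    · rw [map_entry']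
      show fI (1 + (1 - u * v) * v) = 1
      rw [map_add, map_mul, hδ, zero_mul, add_zero, map_one]
    · rw [map_entry']
      show fI ((1 - u * v) ^ 2) = 0
      rw [map_pow, hδ]; ring
    · rw [map_entry']
      show fI (-(v ^ 2)) = -(fI v ^ 2)
      rw [map_neg, map_pow]
    · rw [map_entry']
      show fI (1 - (1 - u * v) * v) = 1
      rw [map_sub, map_mul, hδ, zero_mul, sub_zero, map_one]
  have hc : IsScal (G1 u v * yR z * (G1 u v)⁻¹ * (yR z)⁻¹) := by
    apply hZ
    · exact (Gam k z).mul_mem ((Gam k z).mul_mem ((Gam k z).mul_mem hG1 hy1) ((Gam k z).inv_mem hG1))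
        ((Gam k z).inv_mem hy1)
    · rw [map_mul, map_mul, map_mul, map_inv, map_inv, hmapG, map_yR, yR_inv, yR_inv, ← yR_add,
        ← yR_add, ← yR_add]
      convert yR_zero using 2
      ring
  have hcomm := comm_of_scal (half_mul_two h2) (G1 u v) (yR z) (by simp only [yR_00, yR_11]; norm_num) hc
  obtain ⟨h01, hd⟩ := of_comm_yR (G1 u v) hz hcomm
  have h01' : (1 - u * v) ^ 2 = 0 := h01
  have hd' : 1 + (1 - u * v) * v = 1 - (1 - u * v) * v := hd
  have hδv : (1 - u * v) * v = 0 := by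
    have : (1 - u * v) * v * 2 = 0 := by linear_combination hd'
    calc (1 - u * v) * v = (1 - u * v) * v * 2 * algebraMap k R 2⁻¹ := by
          linear_combination (-((1 - u * v) * v)) * half_mul_two (R := R) h2
      _ = 0 := by rw [this, zero_mul]
  have hδ0 : 1 - u * v = 0 := by
    linear_combination h01' + u * hδv
  have huv : u * v = 1 := by linear_combination (-1 : R) * hδ0
  have : v = u' := by
    calc v = v * (u * u') := by rw [hu, mul_one]
      _ = (u * v) * u' := by ring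
      _ = u' := by rw [huv, one_mul]
  rw [← this]; exact hyv

/-- inverses of units of `T₂` lie in `T₁` -/
theorem MinIdeal.inv_mem_T1 (H : MinIdeal z I fI fK) (hZ : ScalKer k z fI) (h2 : (2 : k) ≠ 0)
    {z' : R} (hz : z * z' = 1) {v v' : R} (hv : v * v' = 1) (hyv : yR v ∈ Gam k z) :
    xR v' ∈ Gam k z := by
  obtain ⟨u, hxu, hu⟩ := H.exists_T1 hZ h2 v'
  set W := yR (-v) * xR u * yR (-v) with hW
  have hWm : W ∈ Gam k z := (Gam k z).mul_mem ((Gam k z).mul_mem (neg_mem_T2 hyv) hxu) (neg_mem_T2 hyv)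
  have hy1 : yR z ∈ Gam k z := yR_z_mem
  have hG2 : G2 u v z ∈ Gam k z := by
    have e : G2 u v z = W * yR z * W⁻¹ := by
      rw [G2_spec u v z, mul_inv_cancel_right]
    rw [e]
    exact (Gam k z).mul_mem ((Gam k z).mul_mem hWm hy1) ((Gam k z).inv_mem hWm)
  have hδ : fI (1 - u * v) = 0 := by
    rw [map_sub, map_one, map_mul, hu, ← map_mul, mul_comm, hv, map_one, sub_self]
  have hx1 : xR (1 : R) ∈ Gam k z := xR_one_mem
  have hmapG : SpecialLinearGroup.map (fI : R →+* S) (G2 u v z) = xR (-(fI z * fI u ^ 2)) := by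
    apply ext2
    · rw [map_entry']
      show fI (1 + z * u * (1 - u * v)) = 1
      rw [map_add, map_mul, hδ, mul_zero, add_zero, map_one]
    · rw [map_entry']
      show fI (-(z * u ^ 2)) = -(fI z * fI u ^ 2)
      rw [map_neg, map_mul, map_pow]
    · rw [map_entry']
      show fI (z * (1 - u * v) ^ 2) = 0
      rw [map_mul, map_pow, hδ]; ring
    · rw [map_entry']
      show fI (1 - z * u * (1 - u * v)) = 1
      rw [map_sub, map_mul, hδ, mul_zero, sub_zero, map_one]
  have hc : IsScal (G2 u v z * xR 1 * (G2 u v z)⁻¹ * (xR 1)⁻¹) := by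
    apply hZ
    · exact (Gam k z).mul_mem ((Gam k z).mul_mem ((Gam k z).mul_mem hG2 hx1) ((Gam k z).inv_mem hG2))
        ((Gam k z).inv_mem hx1)
    · rw [map_mul, map_mul, map_mul, map_inv, map_inv, hmapG, map_xR, xR_inv, xR_inv, ← xR_add,
        ← xR_add, ← xR_add]
      convert xR_zero using 2
      ring
  have hcomm := comm_of_scal (half_mul_two h2) (G2 u v z) (xR 1) (by simp only [xR_00, xR_11]; norm_num) hc
  obtain ⟨h10, hd⟩ := of_comm_xR_one (G2 u v z) hcomm
  have h10' : z * (1 - u * v) ^ 2 = 0 := h10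
  have hd' : 1 + z * u * (1 - u * v) = 1 - z * u * (1 - u * v) := hd
  have hsq : (1 - u * v) ^ 2 = 0 := by
    calc (1 - u * v) ^ 2 = z' * (z * (1 - u * v) ^ 2) := by
          linear_combination (-((1 - u * v) ^ 2)) * hz
      _ = 0 := by rw [h10', mul_zero]
  have huδ : u * (1 - u * v) = 0 := by
    have h1 : z * u * (1 - u * v) * 2 = 0 := by linear_combination hd'
    have h2' : z * u * (1 - u * v) = 0 := by
      calc z * u * (1 - u * v) = z * u * (1 - u * v) * 2 * algebraMap k R 2⁻¹ := by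
            linear_combination (-(z * u * (1 - u * v))) * half_mul_two (R := R) h2
        _ = 0 := by rw [h1, zero_mul]
    calc u * (1 - u * v) = z' * (z * u * (1 - u * v)) := by
          linear_combination (-(u * (1 - u * v))) * hz
      _ = 0 := by rw [h2', mul_zero]
  have hδ0 : 1 - u * v = 0 := by
    linear_combination hsq + v * huδ
  have huv : u * v = 1 := by linear_combination (-1 : R) * hδ0
  have : u = v' := by
    calc u = u * (v * v') := by rw [hv, mul_one]
      _ = (u * v) * v' := by ring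
      _ = v' := by rw [huv, one_mul]
  rw [← this]; exact hxu

/-- the `k`-subspace `T₁` -/
def T1sub (k : Type*) [Field k] [Algebra k R] (h2 : (2 : k) ≠ 0) (z : R) : Submodule k R where
  carrier := {t | xR t ∈ Gam k z}
  add_mem' := fun ha hb => add_mem_T ha hb
  zero_mem' := by
    show xR (0 : R) ∈ Gam k z
    rw [xR_zero]; exact (Gam k z).one_mem
  smul_mem' := fun c t ht => by
    show xR (c • t) ∈ Gam k z
    rw [Algebra.smul_def]
    exact smul_mem_T h2 c ht

theorem mem_T1sub {h2 : (2 : k) ≠ 0} {t : R} : t ∈ T1sub k h2 z ↔ xR t ∈ Gam k z := Iff.rfl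

/-- case 2 is contradictory -/
theorem MinIdeal.case2_false (H : MinIdeal z I fI fK) (hZ : ScalKer k z fI) (h2 : (2 : k) ≠ 0)
    {z' : R} (hz : z * z' = 1) (hadj : Algebra.adjoin k {z} = ⊤)
    (hT : ∀ i ∈ I, xR i ∈ Gam k z → i = 0) {i₀ : R} (hi₀ : i₀ ∈ I) (hne : i₀ ≠ 0) : False := by
  have hz' : z' * z = 1 := by rw [mul_comm]; exact hz
  have hy1 : yR (1 : R) ∈ Gam k z := H.inv_mem_T2 hZ h2 hz (one_mul 1) xR_one_mem
  have hw1 : wR (1 : R) 1 (one_mul 1) ∈ Gam k z := by
    rw [wR_eq]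
    exact (Gam k z).mul_mem ((Gam k z).mul_mem xR_one_mem (neg_mem_T2 hy1)) xR_one_mem
  have hxz' : xR z' ∈ Gam k z := H.inv_mem_T1 hZ h2 hz hz yR_z_mem
  have hwz : wR z' z hz' ∈ Gam k z := by
    rw [wR_eq]
    exact (Gam k z).mul_mem ((Gam k z).mul_mem hxz' (neg_mem_T2 yR_z_mem)) hxz'
  have hd : dR z' z hz' ∈ Gam k z := by
    rw [← wR_mul_wR_one_inv]
    exact (Gam k z).mul_mem hwz ((Gam k z).inv_mem hw1)
  have T21 : ∀ t : R, yR t ∈ Gam k z → xR t ∈ Gam k z := by
    intro t ht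
    have e := wR_mul_yR (1 : R) 1 (one_mul 1) t
    have e' : xR (-(1 ^ 2 * t)) = wR (1 : R) 1 (one_mul 1) * yR t * (wR (1 : R) 1 (one_mul 1))⁻¹ := by
      rw [e, mul_inv_cancel_right]
    have h1 : xR (-(1 ^ 2 * t)) ∈ Gam k z := by
      rw [e']
      exact (Gam k z).mul_mem ((Gam k z).mul_mem hw1 ht) ((Gam k z).inv_mem hw1)
    have h3 := neg_mem_T h1
    convert h3 using 2
    ring
  have hxz : xR z ∈ Gam k z := T21 z yR_z_mem
  have hzz : ∀ t : R, xR t ∈ Gam k z → xR (z ^ 2 * t) ∈ Gam k z := by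
    intro t ht
    have e := dR_mul_xR z' z hz' (z ^ 2 * t)
    have e1 : z' ^ 2 * (z ^ 2 * t) = t := by
      have : (z' * z) ^ 2 = 1 := by rw [hz', one_pow]
      linear_combination t * this
    rw [e1] at e
    have e' : xR (z ^ 2 * t) = (dR z' z hz')⁻¹ * xR t * dR z' z hz' := by
      rw [mul_assoc, ← e, inv_mul_cancel_left]
    rw [e']
    exact (Gam k z).mul_mem ((Gam k z).mul_mem ((Gam k z).inv_mem hd) ht) hd
  have hpow : ∀ j : ℕ, xR (z ^ j) ∈ Gam k z ∧ xR (z ^ (j + 1)) ∈ Gam k z := by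
    intro j
    induction j with
    | zero => exact ⟨by rw [pow_zero]; exact xR_one_mem, by rw [zero_add, pow_one]; exact hxz⟩
    | succ j ih =>
      refine ⟨ih.2, ?_⟩
      have := hzz _ ih.1
      convert this using 2
      ring
  have hall : ∀ r : R, r ∈ T1sub k h2 z := by
    intro r
    have hr : r ∈ Algebra.adjoin k {z} := by rw [hadj]; trivial
    rw [Algebra.adjoin_singleton_eq_range_aeval] at hr
    obtain ⟨p, rfl⟩ := hr
    show Polynomial.aeval z p ∈ T1sub k h2 z
    rw [Polynomial.aeval_eq_sum_range]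
    exact Submodule.sum_mem _ (fun j _ => Submodule.smul_mem _ _ (hpow j).1)
  exact hne (hT i₀ hi₀ (hall i₀))

end Cfsg.Agent.Lib.Helper8.Sr
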