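import Mathlib
import Cfsg.Agent.Lib.Helper8.Sm5

/-! Case 2 of the induction step: the congruence kernel consists of scalar matrices. -/

set_option autoImplicit false
set_option linter.unusedSectionVars false
set_option linter.unusedSimpArgs false

namespace Cfsg.Agent.Lib.Helper8.Sr

open Matrix

variable {k R S K : Type*} [Field k] [CommRing R] [Algebra k R] [CommRing S] [Algebra k S]
  [Field K] [Algebra k K] {z : R} {I : Ideal R} {fI : R →ₐ[k] S} {fK : R →ₐ[k] K}

/-- the commutator of `xR 1` with an element of the congruence kernel, `I² = 0` -/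
def Ycomm (a c : R) (hcc : c * c = 0) : SpecialLinearGroup (Fin 2) R :=
  ⟨!![1 + c, -(2 * a) - c; 0, 1 - c], by
    simp only [Matrix.det_fin_two_of]; linear_combination (-1 : R) * hcc⟩

theorem Ycomm_spec (y : SpecialLinearGroup (Fin 2) R)
    (hsq : ∀ i ∈ I, ∀ j ∈ I, i * j = 0) (ha : y.1 0 0 - 1 ∈ I) (hb : y.1 0 1 ∈ I) (hc : y.1 1 0 ∈ I)
    (hd : y.1 1 1 - 1 ∈ I) :
    xR 1 * y * (xR 1)⁻¹ * y⁻¹ = Ycomm (y.1 0 0 - 1) (y.1 1 0) (hsq _ hc _ hc) := by
  have hdet := det2 y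
  set a := y.1 0 0 - 1 with ha_def
  set d := y.1 1 1 - 1 with hd_def
  have h00 : y.1 0 0 = 1 + a := by rw [ha_def]; ring
  have h11 : y.1 1 1 = 1 + d := by rw [hd_def]; ring
  have had : a + d = 0 := by
    have h1 := hsq a ha d hd
    have h2 := hsq _ hb _ hc
    rw [h00, h11] at hdet
    linear_combination hdet - h1 + h2
  have e : xR 1 * y = Ycomm a (y.1 1 0) (hsq _ hc _ hc) * (y * xR 1) := by
    apply ext2
    · simp only [mul_00, mul_01, mul_10, mul_11, xR_00, xR_01, xR_10, xR_11]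
      show _ = (1 + y.1 1 0) * _ + (-(2 * a) - y.1 1 0) * _
      rw [h00]
      linear_combination (-1 : R) * hsq _ hc a ha + 2 * hsq a ha _ hc + hsq _ hc _ hc
    · simp only [mul_00, mul_01, mul_10, mul_11, xR_00, xR_01, xR_10, xR_11]
      show _ = (1 + y.1 1 0) * _ + (-(2 * a) - y.1 1 0) * _
      rw [h00, h11]
      linear_combination had - hsq _ hc a ha - hsq _ hc _ hb + 2 * hsq a ha _ hc + 2 * hsq a ha d hd
        + hsq _ hc _ hc + hsq _ hc d hd
    · simp only [mul_00, mul_01, mul_10, mul_11, xR_00, xR_01, xR_10, xR_11]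
      show _ = (0 : R) * _ + (1 - y.1 1 0) * _
      linear_combination hsq _ hc _ hc
    · simp only [mul_00, mul_01, mul_10, mul_11, xR_00, xR_01, xR_10, xR_11]
      show _ = (0 : R) * _ + (1 - y.1 1 0) * _
      rw [h11]
      linear_combination hsq _ hc _ hc + hsq _ hc d hd
  calc xR 1 * y * (xR 1)⁻¹ * y⁻¹ = Ycomm a (y.1 1 0) (hsq _ hc _ hc) * (y * xR 1) * (xR 1)⁻¹ * y⁻¹ := by
        rw [e]
    _ = Ycomm a (y.1 1 0) (hsq _ hc _ hc) := by group

theorem Ycomm_eq_xR (a : R) : Ycomm a 0 (mul_zero 0) = xR (-(2 * a)) := by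
  apply ext2
  · show (1 : R) + 0 = 1; ring
  · show -(2 * a) - 0 = -(2 * a); ring
  · rfl
  · show (1 : R) - 0 = 1; ring

/-- case 2, sub-case `I² = 0`: the congruence kernel meets the subgroup trivially -/
theorem MinIdeal.scalKer_A (H : MinIdeal z I fI fK) (h2 : (2 : k) ≠ 0)
    (hsq : ∀ i ∈ I, ∀ j ∈ I, i * j = 0) (hT : ∀ i ∈ I, xR i ∈ Gam k z → i = 0) :
    ScalKer k z fI := by
  have hhalf := half_mul_two (R := R) h2
  have htwo : ∀ c : R, 2 * c = 0 → c = 0 := by
    intro c hc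
    calc c = algebraMap k R 2⁻¹ * 2 * c := by rw [hhalf, one_mul]
      _ = algebraMap k R 2⁻¹ * (2 * c) := by ring
      _ = 0 := by rw [hc, mul_zero]
  -- the commutator with `xR 1` stays in the kernel and in the subgroup
  have hstep : ∀ y ∈ Gam k z, SpecialLinearGroup.map (fI : R →+* S) y = 1 →
      xR 1 * y * (xR 1)⁻¹ * y⁻¹ ∈ Gam k z ∧
        SpecialLinearGroup.map (fI : R →+* S) (xR 1 * y * (xR 1)⁻¹ * y⁻¹) = 1 := by
    intro y hy hker
    constructor
    · exact (Gam k z).mul_mem ((Gam k z).mul_mem ((Gam k z).mul_mem xR_one_mem hy)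
        ((Gam k z).inv_mem xR_one_mem)) ((Gam k z).inv_mem hy)
    · rw [map_mul, map_mul, map_mul, map_inv, map_inv, hker]
      simp
  intro y hy hker
  obtain ⟨ha, hb, hc, hd⟩ := H.mem_I_of_ker hker
  obtain ⟨hY1, hY1k⟩ := hstep y hy hker
  rw [Ycomm_spec y hsq ha hb hc hd] at hY1 hY1k
  set Y1 := Ycomm (y.1 0 0 - 1) (y.1 1 0) (hsq _ hc _ hc) with hY1def
  obtain ⟨ha1, hb1, hc1, hd1⟩ := H.mem_I_of_ker hY1k
  obtain ⟨hY2, -⟩ := hstep Y1 hY1 hY1k
  rw [Ycomm_spec Y1 hsq ha1 hb1 hc1 hd1] at hY2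
  have e00 : Y1.1 0 0 - 1 = y.1 1 0 := by
    show (1 + y.1 1 0) - 1 = y.1 1 0; ring
  have e10 : Y1.1 1 0 = 0 := rfl
  have hc0 : y.1 1 0 = 0 := by
    have hY2' : Ycomm (Y1.1 0 0 - 1) (Y1.1 1 0) (hsq _ hc1 _ hc1) = xR (-(2 * y.1 1 0)) := by
      apply ext2
      · show (1 : R) + Y1.1 1 0 = 1; rw [e10]; ring
      · show -(2 * (Y1.1 0 0 - 1)) - Y1.1 1 0 = -(2 * y.1 1 0); rw [e10, e00]; ring
      · rfl
      · show (1 : R) - Y1.1 1 0 = 1; rw [e10]; ring
    rw [hY2'] at hY2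
    have := hT _ (I.neg_mem (I.mul_mem_left 2 hc)) hY2
    exact htwo _ (neg_eq_zero.mp this)
  have ha0 : y.1 0 0 - 1 = 0 := by
    have hY1' : Y1 = xR (-(2 * (y.1 0 0 - 1))) := by
      apply ext2
      · show (1 : R) + y.1 1 0 = 1; rw [hc0]; ring
      · show -(2 * (y.1 0 0 - 1)) - y.1 1 0 = -(2 * (y.1 0 0 - 1)); rw [hc0]; ring
      · rfl
      · show (1 : R) - y.1 1 0 = 1; rw [hc0]; ring
    rw [hY1'] at hY1
    have := hT _ (I.neg_mem (I.mul_mem_left 2 ha)) hY1
    exact htwo _ (neg_eq_zero.mp this)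
  have hdet := det2 y
  have h00 : y.1 0 0 = 1 := by linear_combination ha0
  have h11 : y.1 1 1 = 1 := by
    rw [h00, hc0] at hdet
    linear_combination hdet
  have hb0 : y.1 0 1 = 0 := by
    have hy' : y = xR (y.1 0 1) := by
      apply ext2
      · rw [h00]; rfl
      · rfl
      · rw [hc0]; rfl
      · rw [h11]; rfl
    rw [hy'] at hy
    exact hT _ hb hy
  exact ⟨hb0, hc0, by rw [h00, h11]⟩

/-- case 2, sub-case `I ∩ m = 0`: the congruence kernel meets the subgroup in scalar matrices -/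
theorem MinIdeal.scalKer_B (H : MinIdeal z I fI fK) (hk : ∃ a : k, a ≠ 0 ∧ a ^ 2 ≠ 1)
    (hIm : ∀ r ∈ I, fK r = 0 → r = 0) (hsum : ∀ r : R, ∃ j ∈ I, fK j = fK r)
    (hT : ∀ i ∈ I, xR i ∈ Gam k z → i = 0) : ScalKer k z fI := by
  set Y : Subgroup (SpecialLinearGroup (Fin 2) R) :=
    Gam k z ⊓ (SpecialLinearGroup.map (fI : R →+* S)).ker with hY
  set N : Subgroup (SpecialLinearGroup (Fin 2) K) := Y.map (SpecialLinearGroup.map (fK : R →+* K)) with hN
  have hNn : N.Normal := by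
    constructor
    rintro _ ⟨y, hy, rfl⟩ g
    obtain ⟨h, hh, rfl⟩ := H.liftK g
    refine ⟨h * y * h⁻¹, ⟨?_, ?_⟩, by rw [map_mul, map_mul, map_inv]⟩
    · exact (Gam k z).mul_mem ((Gam k z).mul_mem hh hy.1) ((Gam k z).inv_mem hh)
    · have : SpecialLinearGroup.map (fI : R →+* S) y = 1 := hy.2
      show SpecialLinearGroup.map (fI : R →+* S) (h * y * h⁻¹) = 1
      rw [map_mul, map_mul, map_inv, this, mul_one, mul_inv_cancel]
  have hK : ∃ a : K, a ≠ 0 ∧ a ^ 2 ≠ 1 := by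
    obtain ⟨a, ha, ha2⟩ := hk
    refine ⟨algebraMap k K a, ?_, ?_⟩
    · intro h; apply ha
      exact (algebraMap k K).injective (by rw [h, map_zero])
    · intro h; apply ha2
      exact (algebraMap k K).injective (by rw [map_pow, h, map_one])
  have hxN : xR (1 : K) ∉ N := by
    rintro ⟨y, hy, hyx⟩
    obtain ⟨j, hj, hj1⟩ := hsum 1
    have hyker : SpecialLinearGroup.map (fI : R →+* S) y = 1 := hy.2
    obtain ⟨y00, y01, y10, y11⟩ := H.mem_I_of_ker hyker
    have hent : ∀ a b, fK (y.1 a b) = (xR (1 : K)).1 a b := by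
      intro a b
      have h1 := map_entry' (fK : R →+* K) y a b
      rw [hyx] at h1
      exact h1.symm
    have e : y = xR j := by
      apply ext2
      · have := hIm (y.1 0 0 - 1) y00 (by rw [map_sub, hent, map_one]; simp)
        rw [xR_00]; linear_combination this
      · have := hIm (y.1 0 1 - j) (I.sub_mem y01 hj) (by rw [map_sub, hent, hj1, map_one]; simp)
        rw [xR_01]; linear_combination this
      · have := hIm (y.1 1 0) y10 (by rw [hent]; simp)
        rw [xR_10]; exact this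
      · have := hIm (y.1 1 1 - 1) y11 (by rw [map_sub, hent, map_one]; simp)
        rw [xR_11]; linear_combination this
    have hj0 : j = 0 := hT j hj (by rw [← e]; exact hy.1)
    rw [hj0, map_zero, map_one] at hj1
    exact zero_ne_one hj1
  have hcent : N ≤ Subgroup.center (SpecialLinearGroup (Fin 2) K) := by
    rcases normal_le_center_or_top hK N hNn with h | h
    · exact h
    · exfalso; apply hxN; rw [h]; trivial
  intro y hy hker
  have hyN : SpecialLinearGroup.map (fK : R →+* K) y ∈ N := ⟨y, ⟨hy, hker⟩, rfl⟩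
  have hc := hcent hyN
  rw [Matrix.SpecialLinearGroup.mem_center_iff] at hc
  obtain ⟨r, -, hr⟩ := hc
  obtain ⟨y00, y01, y10, y11⟩ := H.mem_I_of_ker hker
  have hent : ∀ a b, fK (y.1 a b) = (Matrix.scalar (Fin 2) r) a b := by
    intro a b
    have h1 := map_entry' (fK : R →+* K) y a b
    rw [← hr] at h1
    exact h1.symm
  refine ⟨?_, ?_, ?_⟩
  · exact hIm _ y01 (by rw [hent]; simp)
  · exact hIm _ y10 (by rw [hent]; simp)
  · have := hIm (y.1 0 0 - 1 - (y.1 1 1 - 1)) (I.sub_mem y00 y11) (by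
      rw [map_sub, map_sub, map_sub, hent, hent]; simp)
    linear_combination this

end Cfsg.Agent.Lib.Helper8.Sr
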