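import Mathlib
import Cfsg.Agent.Lib.Helper8.Sr6
import Cfsg.Agent.Lib.Helper8.Dk15

/-! Generation of `SL₂(k(α))` by `xR(k)` and `yR(kα)`. -/

set_option autoImplicit false
set_option linter.unusedSectionVars false

namespace Cfsg.Agent.Lib.Helper8.Sr

open Polynomial Matrix

universe u

theorem dickson_inf {k F : Type*} [Field k] [Field F] [Algebra k F] [Infinite k] (h2 : (2 : k) ≠ 0)
    (α : F) (hα : α ≠ 0) {n : ℕ} (hli : LinearIndependent k (fun i : Fin n => α ^ (i : ℕ)))
    (hsp : Submodule.span k (Set.range (fun i : Fin n => α ^ (i : ℕ))) = ⊤) : Gam k α = ⊤ := by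
  rw [eq_top_iff, ← Cfsg.Agent.Lib.Helper8.St.closure_xS_yS, Subgroup.closure_le]
  rintro g (⟨u, rfl⟩ | ⟨u, rfl⟩)
  · exact xR_all_mem hli hsp h2 (mul_inv_cancel₀ hα) u
  · exact yR_all_mem hli hsp h2 (mul_inv_cancel₀ hα) u

theorem four_le_card {k : Type*} [Field k] [Finite k] (h2 : (2 : k) ≠ 0) (h3 : Nat.card k ≠ 3) :
    4 ≤ Nat.card k := by
  have := Fintype.ofFinite k
  rw [Nat.card_eq_fintype_card] at h3 ⊢
  have h1 : 1 < Fintype.card k := Fintype.one_lt_card
  have hne2 : Fintype.card k ≠ 2 := by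
    intro h
    apply h2
    have := Nat.cast_card_eq_zero k
    rw [h] at this
    exact_mod_cast this
  omega

theorem dickson_all {k : Type*} {F : Type u} [Field k] [Field F] [Algebra k F] (h2 : (2 : k) ≠ 0)
    (h3 : Nat.card k ≠ 3) (pb : PowerBasis k F) (hα : pb.gen ≠ 0) : Gam k pb.gen = ⊤ := by
  rcases finite_or_infinite k with hfin | hinf
  · have : Module.Finite k F := pb.finite
    have : Finite F := Module.finite_of_finite k
    have h2F : (2 : F) ≠ 0 := by
      intro h
      apply h2
      apply (algebraMap k F).injective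
      rw [map_ofNat, map_zero]; exact h
    exact Cfsg.Agent.Lib.Helper8.Dk.dickson_fin h2F (four_le_card h2 h3) pb.gen hα pb.adjoin_gen_eq_top
  · have hli : LinearIndependent k (fun i : Fin pb.dim => pb.gen ^ (i : ℕ)) := by
      have := pb.basis.linearIndependent
      rwa [pb.coe_basis] at this
    have hsp : Submodule.span k (Set.range (fun i : Fin pb.dim => pb.gen ^ (i : ℕ))) = ⊤ := by
      have := pb.basis.span_eq
      rwa [pb.coe_basis] at this
    exact dickson_inf h2 pb.gen hα hli hsp

end Cfsg.Agent.Lib.Helper8.Sr
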