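import Mathlib
import Cfsg.Agent.Lib.Helper8.Sm6
import Cfsg.Agent.Lib.Helper8.Sr7

/-! The subgroup generated by `xR(k)`, `yR(kz)` in `SL₂(k[z])` contains all `xR(R)`, `yR(R)`:
induction on the dimension along minimal ideals. -/

set_option autoImplicit false
set_option linter.unusedSectionVars false
set_option linter.unusedSimpArgs false

namespace Cfsg.Agent.Lib.Helper8.Sr

open Matrix

universe u

theorem exists_ne_zero_sq_ne_one {k : Type*} [Field k] (h2 : (2 : k) ≠ 0) (h3 : Nat.card k ≠ 3) :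
    ∃ a : k, a ≠ 0 ∧ a ^ 2 ≠ 1 := by
  by_contra hcon
  push Not at hcon
  -- every nonzero element is `±1`
  have hall : ∀ a : k, a = 0 ∨ a = 1 ∨ a = -1 := by
    intro a
    by_cases ha : a = 0
    · left; exact ha
    · right
      have := hcon a ha
      have h' : (a - 1) * (a + 1) = 0 := by linear_combination this
      rcases mul_eq_zero.mp h' with h | h
      · left; linear_combination h
      · right; linear_combination h
  have hm1 : (-1 : k) ≠ 1 := by
    intro h
    apply h2
    linear_combination (-1 : k) * h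
  have huniv : (Set.univ : Set k) = {0, 1, -1} := by
    ext a
    simp only [Set.mem_univ, Set.mem_insert_iff, Set.mem_singleton_iff, true_iff]
    exact hall a
  apply h3
  rw [← Set.ncard_univ, Set.ncard_eq_three]
  exact ⟨0, 1, -1, zero_ne_one, fun h => by simp at h, fun h => hm1 h.symm, huniv⟩

theorem ring_gen_aux {k : Type*} [Field k] (h2 : (2 : k) ≠ 0) (h3 : Nat.card k ≠ 3) :
    ∀ (n : ℕ) (R : Type u) [CommRing R] [Algebra k R] [Module.Finite k R] (z z' : R),
      z * z' = 1 → Algebra.adjoin k {z} = ⊤ → Module.finrank k R = n →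
      ∀ r : R, xR r ∈ Gam k z ∧ yR r ∈ Gam k z := by
  intro n
  induction n using Nat.strong_induction_on with
  | _ n ih =>
  intro R _ _ _ z z' hz hadj hn r
  rcases subsingleton_or_nontrivial R with hsub | hnt
  · have hone : ∀ g : SpecialLinearGroup (Fin 2) R, g = 1 := fun g =>
      ext2 (Subsingleton.elim _ _) (Subsingleton.elim _ _) (Subsingleton.elim _ _) (Subsingleton.elim _ _)
    rw [hone (xR r), hone (yR r)]
    exact ⟨(Gam k z).one_mem, (Gam k z).one_mem⟩
  have hart : IsArtinianRing R := IsArtinianRing.of_finite k R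
  have hatomic : IsAtomic (Ideal R) := isAtomic_of_orderBot_wellFounded_lt wellFounded_lt
  obtain ⟨I, hI⟩ := IsAtomic.exists_atom (Ideal R)
  obtain ⟨i₀, hi₀, hne⟩ := Submodule.exists_mem_ne_zero_of_ne_bot hI.1
  have hgen : ∀ i ∈ I, i ≠ 0 → ∀ j ∈ I, ∃ a : R, j = a * i := by
    intro i hi hi0 j hj
    have hle : Ideal.span {i} ≤ I := (Ideal.span_singleton_le_iff_mem _).mpr hi
    have hne' : Ideal.span {i} ≠ ⊥ := by
      rw [Ne, Ideal.span_singleton_eq_bot]; exact hi0
    have heq : Ideal.span {i} = I := (hI.le_iff.mp hle).resolve_left hne'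
    rw [← heq, Ideal.mem_span_singleton'] at hj
    obtain ⟨a, ha⟩ := hj
    exact ⟨a, ha.symm⟩
  -- the annihilator of `i₀`
  set m : Ideal R := LinearMap.ker (LinearMap.mulRight R i₀) with hm_def
  have hm_mem : ∀ x : R, x ∈ m ↔ x * i₀ = 0 := by
    intro x
    rw [hm_def, LinearMap.mem_ker, LinearMap.mulRight_apply]
  have hmax : m.IsMaximal := by
    rw [Ideal.isMaximal_iff]
    constructor
    · rw [hm_mem, one_mul]; exact hne
    · intro J x hmJ hx hxJ
      rw [hm_mem] at hx
      obtain ⟨a, ha⟩ := hgen (x * i₀) (I.mul_mem_left x hi₀) hx i₀ hi₀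
      have h1 : 1 - a * x ∈ m := by
        rw [hm_mem]
        linear_combination ha
      have h2 : a * x ∈ J := J.mul_mem_left a hxJ
      have := J.add_mem (hmJ h1) h2
      rwa [sub_add_cancel] at this
  let _ : Field (R ⧸ m) := Ideal.Quotient.field m
  set fK : R →ₐ[k] R ⧸ m := Ideal.Quotient.mkₐ k m with hfK
  set fI : R →ₐ[k] R ⧸ I := Ideal.Quotient.mkₐ k I with hfI
  have hfK0 : ∀ x : R, fK x = 0 ↔ x ∈ m := fun x => Ideal.Quotient.eq_zero_iff_mem
  have hfI0 : ∀ x : R, fI x = 0 ↔ x ∈ I := fun x => Ideal.Quotient.eq_zero_iff_mem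
  have hsurjK : Function.Surjective fK := Ideal.Quotient.mkₐ_surjective k m
  have hsurjI : Function.Surjective fI := Ideal.Quotient.mkₐ_surjective k I
  -- the quotient by `I` satisfies the induction hypothesis
  have hfinI : Module.Finite k (R ⧸ I) := Module.Finite.of_surjective fI.toLinearMap hsurjI
  have hfinK : Module.Finite k (R ⧸ m) := Module.Finite.of_surjective fK.toLinearMap hsurjK
  have hlt : Module.finrank k (R ⧸ I) < n := by
    have h1 := LinearMap.finrank_range_add_finrank_ker fI.toLinearMap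
    have h2' : LinearMap.range fI.toLinearMap = ⊤ := LinearMap.range_eq_top.mpr hsurjI
    rw [h2', finrank_top, hn] at h1
    have h3' : 0 < Module.finrank k (LinearMap.ker fI.toLinearMap) := by
      rw [Module.finrank_pos_iff_exists_ne_zero]
      refine ⟨⟨i₀, ?_⟩, ?_⟩
      · rw [LinearMap.mem_ker]; exact (hfI0 i₀).mpr hi₀
      · intro h
        exact hne (congrArg Subtype.val h)
    omega
  have hadjI : Algebra.adjoin k {fI z} = ⊤ := by
    rw [← Set.image_singleton, ← AlgHom.map_adjoin, hadj, Algebra.map_top, AlgHom.range_eq_top]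
    exact hsurjI
  have hadjK : Algebra.adjoin k {fK z} = ⊤ := by
    rw [← Set.image_singleton, ← AlgHom.map_adjoin, hadj, Algebra.map_top, AlgHom.range_eq_top]
    exact hsurjK
  have ihI := ih _ hlt (R ⧸ I) (fI z) (fI z') (by rw [← map_mul, hz, map_one]) hadjI rfl
  -- the residue field
  have hzK : fK z ≠ 0 := by
    intro h
    have : fK z * fK z' = 1 := by rw [← map_mul, hz, map_one]
    rw [h, zero_mul] at this
    exact zero_ne_one this
  have hGK : Gam k (fK z) = ⊤ := by
    have hint : IsIntegral k (fK z) := IsIntegral.of_finite k _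
    have := dickson_all h2 h3 (PowerBasis.ofAdjoinEqTop hint hadjK) (by
      rw [PowerBasis.ofAdjoinEqTop_gen]; exact hzK)
    rwa [PowerBasis.ofAdjoinEqTop_gen] at this
  have H : MinIdeal z I fI fK :=
    { kerI := hfI0
      surjK := hsurjK
      ann := by
        intro i hi x hx
        rw [hfK0, hm_mem] at hx
        obtain ⟨a, rfl⟩ := hgen i₀ hi₀ hne i hi
        linear_combination a * hx
      ann' := by
        intro i hi hi0 x hx
        rw [hfK0, hm_mem]
        obtain ⟨a, ha⟩ := hgen i hi hi0 i₀ hi₀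
        rw [ha]
        linear_combination a * hx
      gen := hgen
      liftK := by
        intro g
        have hg : g ∈ (Gam k z).map (SpecialLinearGroup.map (fK : R →+* R ⧸ m)) := by
          rw [map_Gam, hGK]; trivial
        obtain ⟨h, hh, rfl⟩ := hg
        exact ⟨h, hh, rfl⟩
      liftX := by
        intro x
        have hg : xR (fI x) ∈ (Gam k z).map (SpecialLinearGroup.map (fI : R →+* R ⧸ I)) := by
          rw [map_Gam]; exact (ihI (fI x)).1
        obtain ⟨h, hh, hmap⟩ := hg
        exact ⟨h, hh, hmap⟩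
      liftY := by
        intro x
        have hg : yR (fI x) ∈ (Gam k z).map (SpecialLinearGroup.map (fI : R →+* R ⧸ I)) := by
          rw [map_Gam]; exact (ihI (fI x)).2
        obtain ⟨h, hh, hmap⟩ := hg
        exact ⟨h, hh, hmap⟩ }
  -- the two sub-cases
  have hsubcase : (∀ i ∈ I, ∀ j ∈ I, i * j = 0) ∨
      ((∀ x ∈ I, fK x = 0 → x = 0) ∧ ∀ x : R, ∃ j ∈ I, fK j = fK x) := by
    by_cases hsq : i₀ * i₀ = 0
    · left
      intro i hi j hj
      obtain ⟨a, rfl⟩ := hgen i₀ hi₀ hne i hi
      obtain ⟨b, rfl⟩ := hgen i₀ hi₀ hne j hj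
      linear_combination (a * b) * hsq
    · right
      constructor
      · intro x hx hx0
        by_contra hxne
        apply hsq
        rw [hfK0, hm_mem] at hx0
        obtain ⟨a, ha⟩ := hgen x hx hxne i₀ hi₀
        calc i₀ * i₀ = a * (x * i₀) := by rw [ha]; ring
          _ = 0 := by rw [hx0, mul_zero]
      · intro x
        have hi₀K : fK i₀ ≠ 0 := by
          intro h
          rw [hfK0, hm_mem] at h
          exact hsq h
        obtain ⟨b, hb⟩ := hsurjK (fK i₀)⁻¹
        refine ⟨x * b * i₀, I.mul_mem_left _ hi₀, ?_⟩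
        rw [map_mul, map_mul, hb, mul_assoc, inv_mul_cancel₀ hi₀K, mul_one]
  by_cases hT : ∃ i ∈ I, i ≠ 0 ∧ xR i ∈ Gam k z
  · -- case 1
    obtain ⟨i₁, hi₁, hi₁0, hxi₁⟩ := hT
    have hxI : ∀ j ∈ I, xR j ∈ Gam k z := fun j hj => H.xR_mem_of_mem h2 hi₁ hi₁0 hxi₁ hj
    have hyI : ∀ j ∈ I, yR j ∈ Gam k z := by
      intro j hj
      have := H.yR_mem_of_xR_mem (I.neg_mem hj) (hxI _ (I.neg_mem hj))
      rwa [neg_neg] at this
    rcases hsubcase with hA | ⟨hB1, hB2⟩
    · exact H.all_mem_of_ker_le (fun g hg => H.ker_le_A hz hA hxI hyI hg) r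
    · exact H.all_mem_of_ker_le (fun g hg => H.ker_le_B hB1 hB2 hxI hyI hg) r
  · -- case 2
    exfalso
    have hT' : ∀ i ∈ I, xR i ∈ Gam k z → i = 0 := by
      intro i hi hx
      by_contra hi0
      exact hT ⟨i, hi, hi0, hx⟩
    have hZ : ScalKer k z fI := by
      rcases hsubcase with hA | ⟨hB1, hB2⟩
      · exact H.scalKer_A h2 hA hT'
      · exact H.scalKer_B (exists_ne_zero_sq_ne_one h2 h3) hB1 hB2 hT'
    exact H.case2_false hZ h2 hz hadj hT' hi₀ hne

/-- the subgroup generated by `xR(k)` and `yR(kz)` contains all elementary matrices -/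
theorem ring_gen {k : Type*} [Field k] (h2 : (2 : k) ≠ 0) (h3 : Nat.card k ≠ 3)
    {R : Type u} [CommRing R] [Algebra k R] [Module.Finite k R] {z z' : R}
    (hz : z * z' = 1) (hadj : Algebra.adjoin k {z} = ⊤) (r : R) :
    xR r ∈ Gam k z ∧ yR r ∈ Gam k z :=
  ring_gen_aux h2 h3 _ R z z' hz hadj rfl r

end Cfsg.Agent.Lib.Helper8.Sr
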