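import Mathlib
import Cfsg.Agent.Lib.Helper8.Qp1
import Cfsg.Agent.Lib.Helper8.Sm7

/-! The representation of `M₂(R)` and of `SL₂(R)` attached to a frame. -/

set_option autoImplicit false
set_option linter.unusedSectionVars false
set_option linter.unusedSimpArgs false

namespace Cfsg.Agent.Lib.Helper8.Qp

open Matrix Cfsg.Agent.Lib.Helper8.Sr

variable {k : Type*} [Field k] {V : Type*} [AddCommGroup V] [Module k V]
variable {R : Type*} [CommRing R] [Algebra k R]

/-- the representation of `2 × 2` matrices -/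
def rho (θ : R →ₐ[k] Module.End k V) (s t : Module.End k V) (β : R) (A : Matrix (Fin 2) (Fin 2) R) :
    Module.End k V :=
  θ (A 0 0) * ee θ s t β + θ (A 0 1) * s + θ (A 1 0) * tp θ t β + θ (A 1 1) * ff θ s t β

variable {θ : R →ₐ[k] Module.End k V} {s t : Module.End k V} {α β : R}

namespace Frame

variable (F : Frame θ s t α β)
include F

theorem sw_e (a b : R) (Y : Module.End k V) :
    θ a * ee θ s t β * (θ b * Y) = θ a * θ b * (ee θ s t β * Y) := by
  rw [mul_assoc, ← mul_assoc (ee θ s t β) (θ b) Y, ← F.c_ee b, mul_assoc, ← mul_assoc]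

theorem sw_s (a b : R) (Y : Module.End k V) :
    θ a * s * (θ b * Y) = θ a * θ b * (s * Y) := by
  rw [mul_assoc, ← mul_assoc s (θ b) Y, ← F.cs b, mul_assoc, ← mul_assoc]

theorem sw_tp (a b : R) (Y : Module.End k V) :
    θ a * tp θ t β * (θ b * Y) = θ a * θ b * (tp θ t β * Y) := by
  rw [mul_assoc, ← mul_assoc (tp θ t β) (θ b) Y, ← F.c_tp b, mul_assoc, ← mul_assoc]

theorem sw_f (a b : R) (Y : Module.End k V) :
    θ a * ff θ s t β * (θ b * Y) = θ a * θ b * (ff θ s t β * Y) := by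
  rw [mul_assoc, ← mul_assoc (ff θ s t β) (θ b) Y, ← F.c_ff b, mul_assoc, ← mul_assoc]

theorem rho_one : rho θ s t β 1 = 1 := by
  unfold rho
  simp only [Matrix.one_apply_eq, Matrix.one_apply_ne (show (0 : Fin 2) ≠ 1 by decide),
    Matrix.one_apply_ne (show (1 : Fin 2) ≠ 0 by decide), map_one, map_zero, one_mul, zero_mul, add_zero]
  exact F.ee_add_ff

theorem rho_mul (A B : Matrix (Fin 2) (Fin 2) R) :
    rho θ s t β (A * B) = rho θ s t β A * rho θ s t β B := by
  unfold rho
  simp only [Matrix.mul_apply, Fin.sum_univ_two, map_add, map_mul, add_mul, mul_add]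
  simp only [F.sw_e, F.sw_s, F.sw_tp, F.sw_f, F.ee_ee, F.ee_s, F.ee_tp, F.ee_ff, F.s_ee, F.ss,
    F.s_tp, F.s_ff, F.tp_ee, F.tp_s, F.tp_tp, F.tp_ff, F.ff_ee, F.ff_s, F.ff_tp, F.ff_ff, mul_zero,
    add_zero, zero_add]
  abel

/-- `rho` as a monoid homomorphism -/
def rhoHom : Matrix (Fin 2) (Fin 2) R →* Module.End k V where
  toFun := rho θ s t β
  map_one' := F.rho_one
  map_mul' := F.rho_mul

/-- the action of `SL₂(R)` -/
noncomputable def Phi : SpecialLinearGroup (Fin 2) R →* (Module.End k V)ˣ :=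
  (Units.map F.rhoHom).comp SpecialLinearGroup.toGL

theorem Phi_val (g : SpecialLinearGroup (Fin 2) R) :
    ((F.Phi g : (Module.End k V)ˣ) : Module.End k V) = rho θ s t β g.1 := rfl

theorem Phi_xR (c : R) : ((F.Phi (xR c) : (Module.End k V)ˣ) : Module.End k V) = 1 + θ c * s := by
  rw [Phi_val]
  unfold rho
  simp only [xR_00, xR_01, xR_10, xR_11, map_one, map_zero, one_mul, zero_mul, add_zero]
  rw [add_right_comm, F.ee_add_ff]

theorem Phi_yR (c : R) :
    ((F.Phi (yR (c * α)) : (Module.End k V)ˣ) : Module.End k V) = 1 + θ c * t := by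
  rw [Phi_val]
  unfold rho
  simp only [yR_00, yR_01, yR_10, yR_11, map_one, map_zero, one_mul, zero_mul, add_zero]
  have : θ (c * α) * tp θ t β = θ c * t := by
    unfold tp
    rw [map_mul, mul_assoc, ← mul_assoc (θ α), F.ab, one_mul]
  rw [this, add_right_comm, F.ee_add_ff]

/-- `θ r s = 0` forces `θ r = 0` -/
theorem theta_eq_zero_of_mul_s {r : R} (h : θ r * s = 0) : θ r = 0 := by
  have h1 : θ r * ee θ s t β = 0 := by
    unfold ee
    rw [← mul_assoc, h, zero_mul]
  have h2 : θ r * ff θ s t β = 0 := by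
    unfold ff
    rw [← mul_assoc, F.c_tp, mul_assoc, h, mul_zero]
  calc θ r = θ r * (ee θ s t β + ff θ s t β) := by rw [F.ee_add_ff, mul_one]
    _ = 0 := by rw [mul_add, h1, h2, add_zero]

theorem theta_eq_zero_of_mul_t {r : R} (h : θ r * t = 0) : θ r = 0 := by
  have h0 : θ r * tp θ t β = 0 := by
    unfold tp
    rw [← mul_assoc, F.cc, mul_assoc, h, mul_zero]
  have h1 : θ r * ee θ s t β = 0 := by
    unfold ee
    rw [← mul_assoc, F.cs, mul_assoc, h0, mul_zero]
  have h2 : θ r * ff θ s t β = 0 := by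
    unfold ff
    rw [← mul_assoc, h0, zero_mul]
  calc θ r = θ r * (ee θ s t β + ff θ s t β) := by rw [F.ee_add_ff, mul_one]
    _ = 0 := by rw [mul_add, h1, h2, add_zero]

theorem e_th (a : R) (X : Module.End k V) :
    ee θ s t β * (θ a * X) = θ a * (ee θ s t β * X) := by
  rw [← mul_assoc, ← F.c_ee, mul_assoc]

theorem f_th (a : R) (X : Module.End k V) :
    ff θ s t β * (θ a * X) = θ a * (ff θ s t β * X) := by
  rw [← mul_assoc, ← F.c_ff, mul_assoc]

/-- the components of `rho A` -/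
theorem ee_rho_ee (A : Matrix (Fin 2) (Fin 2) R) :
    ee θ s t β * rho θ s t β A * ee θ s t β = θ (A 0 0) * ee θ s t β := by
  unfold rho
  simp only [mul_add, add_mul, mul_assoc, F.e_th, F.f_th]
  simp only [F.ee_ee, F.ee_s, F.ee_tp, F.ee_ff, F.s_ee, F.ss, F.s_tp, F.s_ff, F.tp_ee, F.tp_s, F.tp_tp,
    F.tp_ff, F.ff_ee, F.ff_s, F.ff_tp, F.ff_ff, mul_zero, add_zero, zero_add]

theorem ee_rho_ff (A : Matrix (Fin 2) (Fin 2) R) :
    ee θ s t β * rho θ s t β A * ff θ s t β = θ (A 0 1) * s := by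
  unfold rho
  simp only [mul_add, add_mul, mul_assoc, F.e_th, F.f_th]
  simp only [F.ee_ee, F.ee_s, F.ee_tp, F.ee_ff, F.s_ee, F.ss, F.s_tp, F.s_ff, F.tp_ee, F.tp_s, F.tp_tp,
    F.tp_ff, F.ff_ee, F.ff_s, F.ff_tp, F.ff_ff, mul_zero, add_zero, zero_add]

theorem ff_rho_ee (A : Matrix (Fin 2) (Fin 2) R) :
    ff θ s t β * rho θ s t β A * ee θ s t β = θ (A 1 0) * tp θ t β := by
  unfold rho
  simp only [mul_add, add_mul, mul_assoc, F.e_th, F.f_th]
  simp only [F.ee_ee, F.ee_s, F.ee_tp, F.ee_ff, F.s_ee, F.ss, F.s_tp, F.s_ff, F.tp_ee, F.tp_s, F.tp_tp,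
    F.tp_ff, F.ff_ee, F.ff_s, F.ff_tp, F.ff_ff, mul_zero, add_zero, zero_add]

theorem ff_rho_ff (A : Matrix (Fin 2) (Fin 2) R) :
    ff θ s t β * rho θ s t β A * ff θ s t β = θ (A 1 1) * ff θ s t β := by
  unfold rho
  simp only [mul_add, add_mul, mul_assoc, F.e_th, F.f_th]
  simp only [F.ee_ee, F.ee_s, F.ee_tp, F.ee_ff, F.s_ee, F.ss, F.s_tp, F.s_ff, F.tp_ee, F.tp_s, F.tp_tp,
    F.tp_ff, F.ff_ee, F.ff_s, F.ff_tp, F.ff_ff, mul_zero, add_zero, zero_add]

/-- `rho` is injective when `θ` is -/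
theorem rho_injective (hθ : Function.Injective θ) : Function.Injective (rho θ s t β) := by
  intro A B hAB
  have key : ∀ r r' : R, θ r * s = θ r' * s → r = r' := by
    intro r r' h
    apply hθ
    have : θ (r - r') * s = 0 := by rw [map_sub, sub_mul, h, sub_self]
    have := F.theta_eq_zero_of_mul_s this
    rw [map_sub, sub_eq_zero] at this
    exact this
  have key' : ∀ r r' : R, θ r * tp θ t β = θ r' * tp θ t β → r = r' := by
    intro r r' h
    apply key
    have e1 : ∀ a : R, s * (θ a * tp θ t β) * s = θ a * s := by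
      intro a
      rw [← mul_assoc, ← F.cs, mul_assoc, mul_assoc, F.tp_s, F.s_ff]
    have := e1 r
    rw [h, e1 r'] at this
    exact this.symm
  ext i j
  fin_cases i <;> fin_cases j
  · apply key
    have := F.ee_rho_ee A
    rw [hAB, F.ee_rho_ee B] at this
    have h2 := congrArg (fun x => x * s) this
    simp only [mul_assoc, F.ee_s] at h2
    exact h2.symm
  · apply key
    have := F.ee_rho_ff A
    rw [hAB, F.ee_rho_ff B] at this
    exact this.symm
  · apply key'
    have := F.ff_rho_ee A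
    rw [hAB, F.ff_rho_ee B] at this
    exact this.symm
  · apply key
    have := F.ff_rho_ff A
    rw [hAB, F.ff_rho_ff B] at this
    have e2 : ∀ a : R, s * (θ a * ff θ s t β) = θ a * s := by
      intro a
      rw [← mul_assoc, ← F.cs, mul_assoc, F.s_ff]
    have h2 := e2 (A 1 1)
    rw [← this, e2 (B 1 1)] at h2
    exact h2.symm

theorem Phi_injective (hθ : Function.Injective θ) : Function.Injective F.Phi := by
  intro g g' h
  apply Subtype.ext
  apply F.rho_injective hθ
  have := congrArg (fun u : (Module.End k V)ˣ => (u : Module.End k V)) h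
  simpa [Phi_val] using this

end Frame

end Cfsg.Agent.Lib.Helper8.Qp
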