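import Mathlib

/-! The congruence filtration of `GL(M)` attached to a descending chain of subspaces. -/

set_option autoImplicit false
set_option linter.unusedSectionVars false

namespace Cfsg.Agent.Lib.Helper8.Qp

variable {k : Type*} [Field k] {M : Type*} [AddCommGroup M] [Module k M]

theorem unit_inv_apply (g : (M →ₗ[k] M)ˣ) (m : M) : (g⁻¹).1 (g.1 m) = m := by
  have : (g⁻¹).1 * g.1 = 1 := by rw [← Units.val_mul, inv_mul_cancel, Units.val_one]
  calc (g⁻¹).1 (g.1 m) = ((g⁻¹).1 * g.1) m := rfl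
    _ = m := by rw [this]; rfl

theorem unit_apply_inv (g : (M →ₗ[k] M)ˣ) (m : M) : g.1 ((g⁻¹).1 m) = m := by
  have : g.1 * (g⁻¹).1 = 1 := by rw [← Units.val_mul, mul_inv_cancel, Units.val_one]
  calc g.1 ((g⁻¹).1 m) = (g.1 * (g⁻¹).1) m := rfl
    _ = m := by rw [this]; rfl

/-- elements lowering the chain `D` by `i` steps -/
def cfilt (D : ℕ → Submodule k M) (hD : Antitone D) (i : ℕ) : Subgroup (M →ₗ[k] M)ˣ where
  carrier := {g | ∀ j, ∀ m ∈ D j, (g.1 - 1) m ∈ D (j + i) ∧ ((g⁻¹).1 - 1) m ∈ D (j + i)}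
  one_mem' := by
    intro j m _
    simp
  mul_mem' := by
    intro a b ha hb j m hm
    have e1 : ((a * b).1 - 1) m = (a.1 - 1) ((b.1 - 1) m) + ((a.1 - 1) m + (b.1 - 1) m) := by
      simp only [Units.val_mul, LinearMap.sub_apply, Module.End.mul_apply, Module.End.one_apply, map_sub]
      abel
    have e2 : (((a * b)⁻¹).1 - 1) m =
        ((b⁻¹).1 - 1) (((a⁻¹).1 - 1) m) + (((b⁻¹).1 - 1) m + ((a⁻¹).1 - 1) m) := by
      simp only [mul_inv_rev, Units.val_mul, LinearMap.sub_apply, Module.End.mul_apply,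
        Module.End.one_apply, map_sub]
      abel
    constructor
    · rw [e1]
      refine Submodule.add_mem _ ?_ (Submodule.add_mem _ (ha j m hm).1 (hb j m hm).1)
      exact hD (by omega) (ha (j + i) _ (hb j m hm).1).1
    · rw [e2]
      refine Submodule.add_mem _ ?_ (Submodule.add_mem _ (hb j m hm).2 (ha j m hm).2)
      exact hD (by omega) (hb (j + i) _ (ha j m hm).2).2
  inv_mem' := by
    intro a ha j m hm
    rw [inv_inv]
    exact ⟨(ha j m hm).2, (ha j m hm).1⟩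

variable {D : ℕ → Submodule k M} {hD : Antitone D}

theorem mem_cfilt {i : ℕ} {g : (M →ₗ[k] M)ˣ} :
    g ∈ cfilt D hD i ↔ ∀ j, ∀ m ∈ D j, (g.1 - 1) m ∈ D (j + i) ∧ ((g⁻¹).1 - 1) m ∈ D (j + i) := Iff.rfl

theorem apply_mem_of_mem_cfilt {i : ℕ} {g : (M →ₗ[k] M)ˣ} (hg : g ∈ cfilt D hD i) {j : ℕ}
    {m : M} (hm : m ∈ D j) : g.1 m ∈ D j := by
  have h1 : g.1 m = (g.1 - 1) m + m := by
    rw [LinearMap.sub_apply, Module.End.one_apply]; abel
  rw [h1]
  exact Submodule.add_mem _ (hD (by omega) (hg j m hm).1) hm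

theorem commutator_sub_one_mem {a b : ℕ} {z s : (M →ₗ[k] M)ˣ} (hz : z ∈ cfilt D hD a)
    (hs : s ∈ cfilt D hD b) {j : ℕ} {m : M} (hm : m ∈ D j) :
    ((z * s * z⁻¹ * s⁻¹).1 - 1) m ∈ D (j + (a + b)) := by
  have hm' : (z⁻¹).1 ((s⁻¹).1 m) ∈ D j :=
    apply_mem_of_mem_cfilt ((cfilt D hD a).inv_mem hz)
      (apply_mem_of_mem_cfilt ((cfilt D hD b).inv_mem hs) hm)
  have e : ((z * s * z⁻¹ * s⁻¹).1 - 1) m =
      (z.1 - 1) ((s.1 - 1) ((z⁻¹).1 ((s⁻¹).1 m))) - (s.1 - 1) ((z.1 - 1) ((z⁻¹).1 ((s⁻¹).1 m))) := by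
    simp only [Units.val_mul, LinearMap.sub_apply, Module.End.mul_apply, Module.End.one_apply, map_sub]
    rw [unit_apply_inv, unit_apply_inv]
    abel
  rw [e]
  apply Submodule.sub_mem
  · have h1 := (hs j _ hm').1
    have h2 := (hz (j + b) _ h1).1
    exact hD (by omega) h2
  · have h1 := (hz j _ hm').1
    have h2 := (hs (j + a) _ h1).1
    exact hD (by omega) h2

theorem commutator_mem_cfilt {a b : ℕ} {z s : (M →ₗ[k] M)ˣ} (hz : z ∈ cfilt D hD a)
    (hs : s ∈ cfilt D hD b) : z * s * z⁻¹ * s⁻¹ ∈ cfilt D hD (a + b) := by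
  intro j m hm
  constructor
  · exact commutator_sub_one_mem hz hs hm
  · have h1 : (z * s * z⁻¹ * s⁻¹)⁻¹ = s * z * s⁻¹ * z⁻¹ := by group
    rw [h1]
    have := commutator_sub_one_mem hs hz hm
    rw [add_comm b a] at this
    exact this

/-- elements deep in the filtration fix `D 0` pointwise -/
theorem apply_eq_of_mem_cfilt {n : ℕ} (hn : D n = ⊥) {g : (M →ₗ[k] M)ˣ}
    (hg : g ∈ cfilt D hD n) {m : M} (hm : m ∈ D 0) : g.1 m = m := by
  have h1 := (hg 0 m hm).1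
  rw [zero_add, hn, Submodule.mem_bot, LinearMap.sub_apply, Module.End.one_apply, sub_eq_zero] at h1
  exact h1

end Cfsg.Agent.Lib.Helper8.Qp
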