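import Mathlib
import Cfsg.Agent.Lib.Helper8.Qp3

/-! Two square-zero endomorphisms: the Fitting decomposition with respect to `st + ts`. -/

set_option autoImplicit false
set_option linter.unusedSectionVars false

namespace Cfsg.Agent.Lib.Helper8.Qp

variable {k : Type*} [Field k] {M : Type*} [AddCommGroup M] [Module k M]

/-- `z = st + ts` -/
def zz (s t : Module.End k M) : Module.End k M := s * t + t * s

variable {s t : Module.End k M}

theorem zz_s (hs : s * s = 0) : zz s t * s = s * zz s t := by
  unfold zz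
  rw [add_mul, mul_add, mul_assoc t s s, hs, mul_zero, add_zero, ← mul_assoc s s t, hs, zero_mul,
    zero_add, mul_assoc]

theorem zz_t (ht : t * t = 0) : zz s t * t = t * zz s t := by
  unfold zz
  rw [add_mul, mul_add, mul_assoc s t t, ht, mul_zero, zero_add, ← mul_assoc t t s, ht, zero_mul,
    add_zero, mul_assoc]

theorem sts_eq (hs : s * s = 0) : s * t * s = zz s t * s := by
  unfold zz
  rw [add_mul, mul_assoc t s s, hs, mul_zero, add_zero]

theorem tst_eq (ht : t * t = 0) : t * s * t = zz s t * t := by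
  unfold zz
  rw [add_mul, mul_assoc s t t, ht, mul_zero, zero_add]

theorem pow_comm_of_comm {z u : Module.End k M} (h : z * u = u * z) (n : ℕ) : z ^ n * u = u * z ^ n := by
  induction n with
  | zero => simp
  | succ n ih => rw [pow_succ, mul_assoc, h, ← mul_assoc, ih, mul_assoc]

section fitting

variable [FiniteDimensional k M]

theorem exists_fitting (z : Module.End k M) :
    ∃ n : ℕ, 1 ≤ n ∧ IsCompl (LinearMap.ker (z ^ n)) (LinearMap.range (z ^ n)) := by
  have h := LinearMap.eventually_isCompl_ker_pow_range_pow z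
  rw [Filter.eventually_atTop] at h
  obtain ⟨n, hn⟩ := h
  exact ⟨n + 1, by omega, hn (n + 1) (by omega)⟩

end fitting

/-- the Fitting null component -/
def M0 (z : Module.End k M) (n : ℕ) : Submodule k M := LinearMap.ker (z ^ n)

/-- the Fitting one component -/
def M1 (z : Module.End k M) (n : ℕ) : Submodule k M := LinearMap.range (z ^ n)

theorem map_M0 {z u : Module.End k M} (h : z * u = u * z) (n : ℕ) {m : M} (hm : m ∈ M0 z n) :
    u m ∈ M0 z n := by
  unfold M0 at *
  rw [LinearMap.mem_ker] at *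
  have := congrArg (fun f : Module.End k M => f m) (pow_comm_of_comm h n)
  simp only [Module.End.mul_apply] at this
  rw [this, hm, map_zero]

theorem map_M1 {z u : Module.End k M} (h : z * u = u * z) (n : ℕ) {m : M} (hm : m ∈ M1 z n) :
    u m ∈ M1 z n := by
  unfold M1 at *
  obtain ⟨x, rfl⟩ := hm
  refine ⟨u x, ?_⟩
  have := congrArg (fun f : Module.End k M => f x) (pow_comm_of_comm h n)
  simp only [Module.End.mul_apply] at this
  exact this

/-- `z` is injective on the one component -/
theorem inj_on_M1 {z : Module.End k M} {n : ℕ} (hn : 1 ≤ n) (hc : IsCompl (M0 z n) (M1 z n))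
    {m : M} (hm : m ∈ M1 z n) (h0 : z m = 0) : m = 0 := by
  have h1 : m ∈ M0 z n := by
    unfold M0
    rw [LinearMap.mem_ker]
    obtain ⟨j, rfl⟩ : ∃ j, n = j + 1 := ⟨n - 1, by omega⟩
    rw [pow_succ, Module.End.mul_apply, h0, map_zero]
  have := hc.disjoint
  rw [Submodule.disjoint_def] at this
  exact this m h1 hm

/-- the descending chain on the null component -/
def chain (s t : Module.End k M) (N : Submodule k M) : ℕ → Submodule k M
  | 0 => N
  | (j + 1) => (chain s t N j).map s ⊔ (chain s t N j).map t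

theorem chain_zero (N : Submodule k M) : chain s t N 0 = N := rfl

theorem chain_succ (N : Submodule k M) (j : ℕ) :
    chain s t N (j + 1) = (chain s t N j).map s ⊔ (chain s t N j).map t := rfl

theorem s_mem_chain {N : Submodule k M} {j : ℕ} {m : M} (hm : m ∈ chain s t N j) :
    s m ∈ chain s t N (j + 1) := by
  rw [chain_succ]
  exact Submodule.mem_sup_left (Submodule.mem_map_of_mem hm)

theorem t_mem_chain {N : Submodule k M} {j : ℕ} {m : M} (hm : m ∈ chain s t N j) :
    t m ∈ chain s t N (j + 1) := by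
  rw [chain_succ]
  exact Submodule.mem_sup_right (Submodule.mem_map_of_mem hm)

theorem chain_succ_le {N : Submodule k M} (hsN : ∀ m ∈ N, s m ∈ N) (htN : ∀ m ∈ N, t m ∈ N) (j : ℕ) :
    chain s t N (j + 1) ≤ chain s t N j := by
  induction j with
  | zero =>
    rw [chain_succ, chain_zero]
    apply sup_le
    · rintro _ ⟨m, hm, rfl⟩; exact hsN m hm
    · rintro _ ⟨m, hm, rfl⟩; exact htN m hm
  | succ j ih =>
    rw [chain_succ, chain_succ (j := j)]
    exact sup_le_sup (Submodule.map_mono ih) (Submodule.map_mono ih)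

theorem chain_antitone {N : Submodule k M} (hsN : ∀ m ∈ N, s m ∈ N) (htN : ∀ m ∈ N, t m ∈ N) :
    Antitone (chain s t N) :=
  antitone_nat_of_succ_le (chain_succ_le hsN htN)

/-- three steps down the chain are one step and an application of `z` -/
theorem chain_add_three_le (hs : s * s = 0) (ht : t * t = 0) (N : Submodule k M) (j : ℕ) :
    chain s t N (j + 3) ≤ (chain s t N (j + 1)).map (zz s t) := by
  have hss : ∀ m, s (s m) = 0 := fun m => by
    have := congrArg (fun f : Module.End k M => f m) hs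
    simpa using this
  have htt : ∀ m, t (t m) = 0 := fun m => by
    have := congrArg (fun f : Module.End k M => f m) ht
    simpa using this
  have hsts : ∀ m, s (t (s m)) = zz s t (s m) := fun m => by
    have := congrArg (fun f : Module.End k M => f m) (sts_eq (t := t) hs)
    simpa using this
  have htst : ∀ m, t (s (t m)) = zz s t (t m) := fun m => by
    have := congrArg (fun f : Module.End k M => f m) (tst_eq (s := s) ht)
    simpa using this
  -- elements two steps down
  have h2 : ∀ x ∈ chain s t N (j + 2), ∃ c ∈ chain s t N j, ∃ d ∈ chain s t N j,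
      x = s (t c) + t (s d) := by
    intro x hx
    rw [chain_succ, Submodule.mem_sup] at hx
    obtain ⟨_, ⟨a, ha, rfl⟩, _, ⟨b, hb, rfl⟩, rfl⟩ := hx
    rw [SetLike.mem_coe, chain_succ, Submodule.mem_sup] at ha hb
    obtain ⟨_, ⟨a1, ha1, rfl⟩, _, ⟨a2, ha2, rfl⟩, rfl⟩ := ha
    obtain ⟨_, ⟨b1, hb1, rfl⟩, _, ⟨b2, hb2, rfl⟩, rfl⟩ := hb
    refine ⟨a2, ha2, b1, hb1, ?_⟩
    rw [map_add, map_add, hss, htt, zero_add, add_zero]
  rw [show j + 3 = (j + 2) + 1 from rfl, chain_succ]
  apply sup_le
  · rintro _ ⟨x, hx, rfl⟩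
    obtain ⟨c, hc, d, hd, rfl⟩ := h2 x hx
    refine ⟨s d, s_mem_chain hd, ?_⟩
    rw [map_add, hss, zero_add, hsts]
  · rintro _ ⟨x, hx, rfl⟩
    obtain ⟨c, hc, d, hd, rfl⟩ := h2 x hx
    refine ⟨t c, t_mem_chain hc, ?_⟩
    rw [map_add, htt, add_zero, htst]

theorem chain_odd_le (hs : s * s = 0) (ht : t * t = 0) {N : Submodule k M}
    (hsN : ∀ m ∈ N, s m ∈ N) (htN : ∀ m ∈ N, t m ∈ N) (i : ℕ) :
    chain s t N (2 * i + 1) ≤ N.map (zz s t ^ i) := by
  induction i with
  | zero =>
    rw [pow_zero]
    intro x hx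
    have := chain_antitone hsN htN (Nat.zero_le (2 * 0 + 1)) hx
    exact ⟨x, this, rfl⟩
  | succ i ih =>
    have e : 2 * (i + 1) + 1 = (2 * i) + 3 := by ring
    rw [e]
    refine le_trans (chain_add_three_le hs ht N (2 * i)) ?_
    refine le_trans (Submodule.map_mono ih) ?_
    rw [← Submodule.map_comp]
    rw [pow_succ']
    exact le_of_eq rfl

theorem chain_eq_bot (hs : s * s = 0) (ht : t * t = 0) (n : ℕ) :
    chain s t (M0 (zz s t) n) (2 * n + 1) = ⊥ := by
  rw [eq_bot_iff]
  refine le_trans (chain_odd_le hs ht (fun m hm => map_M0 (zz_s hs) n hm)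
    (fun m hm => map_M0 (zz_t ht) n hm) n) ?_
  rintro _ ⟨x, hx, rfl⟩
  rw [Submodule.mem_bot]
  exact hx

end Cfsg.Agent.Lib.Helper8.Qp
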