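import Mathlib
import Cfsg.Agent.Lib.Helper8.Qp4
import Cfsg.Agent.Lib.Helper8.Qp2

/-! The frame on the Fitting one component. -/

set_option autoImplicit false
set_option linter.unusedSectionVars false

namespace Cfsg.Agent.Lib.Helper8.Qp

open Polynomial

variable {k : Type*} [Field k] {M : Type*} [AddCommGroup M] [Module k M]
variable {s t : Module.End k M}

/-- restriction of `s` to the one component -/
def s1 (hs : s * s = 0) (t : Module.End k M) (n : ℕ) : Module.End k (M1 (zz s t) n) :=
  s.restrict (fun _ hm => map_M1 (zz_s hs) n hm)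

/-- restriction of `t` to the one component -/
def t1 (s : Module.End k M) (ht : t * t = 0) (n : ℕ) : Module.End k (M1 (zz s t) n) :=
  t.restrict (fun _ hm => map_M1 (zz_t ht) n hm)

variable (hs : s * s = 0) (ht : t * t = 0) (n : ℕ)

@[simp] theorem s1_apply (v : M1 (zz s t) n) : ((s1 hs t n v : M1 (zz s t) n) : M) = s (v : M) := rfl

@[simp] theorem t1_apply (v : M1 (zz s t) n) : ((t1 s ht n v : M1 (zz s t) n) : M) = t (v : M) := rfl

theorem s1_s1 : s1 hs t n * s1 hs t n = 0 := by
  ext v
  have := congrArg (fun f : Module.End k M => f (v : M)) hs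
  simpa using this

theorem t1_t1 : t1 s ht n * t1 s ht n = 0 := by
  ext v
  have := congrArg (fun f : Module.End k M => f (v : M)) ht
  simpa using this

theorem zz1_apply (v : M1 (zz s t) n) :
    ((zz (s1 hs t n) (t1 s ht n) v : M1 (zz s t) n) : M) = zz s t (v : M) := by
  rfl

variable [FiniteDimensional k M]

theorem zz1_injective (hn : 1 ≤ n) (hc : IsCompl (M0 (zz s t) n) (M1 (zz s t) n)) :
    Function.Injective (zz (s1 hs t n) (t1 s ht n)) := by
  rw [injective_iff_map_eq_zero]
  intro v hv
  apply Subtype.ext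
  apply inj_on_M1 hn hc v.2
  rw [← zz1_apply hs ht n v, hv]
  rfl

section theta

variable {V : Type*} [AddCommGroup V] [Module k V] [FiniteDimensional k V] (z : Module.End k V)

/-- the ring `k[z]` as a quotient of the polynomial ring -/
abbrev RR (z : Module.End k V) := AdjoinRoot (minpoly k z)

/-- the action of `k[z]` -/
noncomputable def theta : RR z →ₐ[k] Module.End k V :=
  Ideal.Quotient.liftₐ (Ideal.span {minpoly k z}) (aeval z) (by
    intro a ha
    rw [Ideal.mem_span_singleton] at ha
    obtain ⟨q, rfl⟩ := ha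
    rw [map_mul, minpoly.aeval, zero_mul])

theorem theta_mk (p : k[X]) : theta z (AdjoinRoot.mk _ p) = aeval z p := rfl

theorem theta_root : theta z (AdjoinRoot.root _) = z := by
  show theta z (AdjoinRoot.mk _ X) = z
  rw [theta_mk, aeval_X]

theorem theta_injective : Function.Injective (theta z) := by
  rw [injective_iff_map_eq_zero]
  intro r hr
  obtain ⟨p, rfl⟩ := AdjoinRoot.mk_surjective r
  rw [theta_mk] at hr
  rw [AdjoinRoot.mk_eq_zero]
  exact minpoly.dvd k z hr

theorem theta_comm {u : Module.End k V} (h : z * u = u * z) (r : RR z) :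
    theta z r * u = u * theta z r := by
  obtain ⟨p, rfl⟩ := AdjoinRoot.mk_surjective r
  rw [theta_mk]
  induction p using Polynomial.induction_on with
  | C a =>
    rw [aeval_C]
    exact (Algebra.commutes a u)
  | add p q hp hq => rw [map_add, add_mul, mul_add, hp, hq]
  | monomial n a ih =>
    rw [pow_succ, ← mul_assoc, map_mul, aeval_X, mul_assoc, h, ← mul_assoc, ih, mul_assoc]

/-- the inverse of the root -/
noncomputable def betaR : RR z :=
  -(algebraMap k (RR z) ((minpoly k z).coeff 0)⁻¹) * AdjoinRoot.mk _ (divX (minpoly k z))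

theorem root_mul_betaR (hinj : Function.Injective z) :
    AdjoinRoot.root (minpoly k z) * betaR z = 1 := by
  have h0 : (minpoly k z).coeff 0 ≠ 0 := LinearMap.minpoly_coeff_zero_of_injective hinj
  have h1 : AdjoinRoot.mk (minpoly k z) (divX (minpoly k z)) * AdjoinRoot.root (minpoly k z) +
      algebraMap k (RR z) ((minpoly k z).coeff 0) = 0 := by
    have h := AdjoinRoot.mk_self (f := minpoly k z)
    have e : AdjoinRoot.mk (minpoly k z) (minpoly k z) =
        AdjoinRoot.mk (minpoly k z) (divX (minpoly k z) * X + C ((minpoly k z).coeff 0)) := by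
      rw [divX_mul_X_add]
    rw [e, map_add, map_mul, AdjoinRoot.mk_X, AdjoinRoot.mk_C] at h
    exact h
  unfold betaR
  have h2 : algebraMap k (RR z) ((minpoly k z).coeff 0)⁻¹ * algebraMap k (RR z) ((minpoly k z).coeff 0) = 1 := by
    rw [← map_mul, inv_mul_cancel₀ h0, map_one]
  linear_combination (-(algebraMap k (RR z) ((minpoly k z).coeff 0)⁻¹)) * h1 + h2

end theta

section frame1

variable (hs : s * s = 0) (ht : t * t = 0) (n : ℕ)

/-- the frame on the Fitting one component -/
theorem frame1 (hn : 1 ≤ n) (hc : IsCompl (M0 (zz s t) n) (M1 (zz s t) n)) :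
    Frame (theta (zz (s1 hs t n) (t1 s ht n))) (s1 hs t n) (t1 s ht n)
      (AdjoinRoot.root (minpoly k (zz (s1 hs t n) (t1 s ht n)))) (betaR (zz (s1 hs t n) (t1 s ht n))) :=
  { ss := s1_s1 hs n
    tt := t1_t1 ht n
    unit := root_mul_betaR _ (zz1_injective hs ht n hn hc)
    hz := theta_root _
    cs := theta_comm _ (zz_s (s1_s1 hs n))
    ct := theta_comm _ (zz_t (t1_t1 ht n)) }

end frame1

end Cfsg.Agent.Lib.Helper8.Qp
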