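import Mathlib
import Cfsg.Agent.Lib.Helper8.Qp5

/-! The correspondence between the group generated by the two scalar families and
`⟨x(k), y(kz)⟩ ≤ SL₂(k[z])`; pure elements. -/

set_option autoImplicit false
set_option linter.unusedSectionVars false

namespace Cfsg.Agent.Lib.Helper8.Qp

open Polynomial Matrix Cfsg.Agent.Lib.Helper8.Sr

universe u

variable {k : Type u} [Field k] {M : Type u} [AddCommGroup M] [Module k M]

/-- the scalar family `1 + c s` as units -/
def sc (s : Module.End k M) (hs : s * s = 0) (c : k) : (Module.End k M)ˣ where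
  val := 1 + c • s
  inv := 1 - c • s
  val_inv := by
    have : (c • s) * (c • s) = 0 := by rw [smul_mul_smul_comm, hs, smul_zero]
    generalize c • s = a at this
    calc (1 + a) * (1 - a) = 1 - a * a := by noncomm_ring
      _ = 1 := by rw [this, sub_zero]
  inv_val := by
    have : (c • s) * (c • s) = 0 := by rw [smul_mul_smul_comm, hs, smul_zero]
    generalize c • s = a at this
    calc (1 - a) * (1 + a) = 1 - a * a := by noncomm_ring
      _ = 1 := by rw [this, sub_zero]

theorem sc_val (s : Module.End k M) (hs : s * s = 0) (c : k) : (sc s hs c).1 = 1 + c • s := rfl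

theorem sc_inv (s : Module.End k M) (hs : s * s = 0) (c : k) : (sc s hs c)⁻¹ = sc s hs (-c) := by
  apply Units.ext
  show 1 - c • s = 1 + (-c) • s
  rw [neg_smul, sub_eq_add_neg]

section main

variable [FiniteDimensional k M] {s t : Module.End k M} (hs : s * s = 0) (ht : t * t = 0) (n : ℕ)

/-- `z` on the one component -/
abbrev Z1 : Module.End k (M1 (zz s t) n) := zz (s1 hs t n) (t1 s ht n)

/-- the ring `k[z]` on the one component -/
abbrev R1 := RR (Z1 hs ht n)

/-- the generator of `R1` -/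
noncomputable abbrev rt : R1 hs ht n := AdjoinRoot.root (minpoly k (Z1 hs ht n))

/-- the chain on the null component -/
abbrev D0 : ℕ → Submodule k M := chain s t (M0 (zz s t) n)

include hs ht in
theorem D0_antitone : Antitone (D0 (s := s) (t := t) n) :=
  chain_antitone (fun _ hm => map_M0 (zz_s hs) n hm) (fun _ hm => map_M0 (zz_t ht) n hm)

/-- the generators of the graph subgroup -/
noncomputable def genP : Set ((Module.End k M)ˣ × SpecialLinearGroup (Fin 2) (R1 hs ht n)) :=
  {p | ∃ c : k, p = (sc s hs c, xR (algebraMap k (R1 hs ht n) c))} ∪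
    {p | ∃ c : k, p = (sc t ht c, yR (algebraMap k (R1 hs ht n) c * rt hs ht n))}

/-- the graph subgroup -/
noncomputable def PP : Subgroup ((Module.End k M)ˣ × SpecialLinearGroup (Fin 2) (R1 hs ht n)) :=
  Subgroup.closure (genP hs ht n)

variable (hn : 1 ≤ n) (hc : IsCompl (M0 (zz s t) n) (M1 (zz s t) n))

/-- the action of `SL₂(R1)` on the one component -/
noncomputable abbrev Phi1 : SpecialLinearGroup (Fin 2) (R1 hs ht n) →* (Module.End k (M1 (zz s t) n))ˣ :=
  (frame1 hs ht n hn hc).Phi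

/-- compatible pairs: first part -/
noncomputable def S1 : Subgroup ((Module.End k M)ˣ × SpecialLinearGroup (Fin 2) (R1 hs ht n)) where
  carrier := {p | ∀ v : M1 (zz s t) n, p.1.1 (v : M) = (((Phi1 hs ht n hn hc p.2).1 v : M1 (zz s t) n) : M)}
  one_mem' := by
    intro v
    simp
  mul_mem' := by
    intro p q hp hq v
    show (p.1 * q.1).1 (v : M) = (((Phi1 hs ht n hn hc (p.2 * q.2)).1 v : M1 (zz s t) n) : M)
    rw [map_mul, Units.val_mul, Units.val_mul, Module.End.mul_apply, Module.End.mul_apply, hq v, hp]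
  inv_mem' := by
    intro p hp v
    show (p.1⁻¹).1 (v : M) = (((Phi1 hs ht n hn hc (p.2⁻¹)).1 v : M1 (zz s t) n) : M)
    rw [map_inv]
    have h1 := hp (((Phi1 hs ht n hn hc p.2)⁻¹).1 v)
    rw [unit_apply_inv] at h1
    rw [← h1, unit_inv_apply]

theorem mem_S1 {p : (Module.End k M)ˣ × SpecialLinearGroup (Fin 2) (R1 hs ht n)} :
    p ∈ S1 hs ht n hn hc ↔
      ∀ v : M1 (zz s t) n, p.1.1 (v : M) = (((Phi1 hs ht n hn hc p.2).1 v : M1 (zz s t) n) : M) := Iff.rfl

/-- compatible pairs: second part -/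
noncomputable def S2 : Subgroup ((Module.End k M)ˣ × SpecialLinearGroup (Fin 2) (R1 hs ht n)) :=
  (cfilt (D0 (s := s) (t := t) n) (D0_antitone hs ht n) 1).comap (MonoidHom.fst _ _)

theorem mem_S2 {p : (Module.End k M)ˣ × SpecialLinearGroup (Fin 2) (R1 hs ht n)} :
    p ∈ S2 hs ht n ↔ p.1 ∈ cfilt (D0 (s := s) (t := t) n) (D0_antitone hs ht n) 1 := Iff.rfl

theorem Phi1_xR_apply (c : k) (v : M1 (zz s t) n) :
    (((Phi1 hs ht n hn hc (xR (algebraMap k (R1 hs ht n) c))).1 v : M1 (zz s t) n) : M) =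
      (v : M) + c • s (v : M) := by
  rw [Frame.Phi_xR, AlgHom.commutes, Algebra.algebraMap_eq_smul_one, smul_mul_assoc, one_mul]
  rfl

theorem Phi1_yR_apply (c : k) (v : M1 (zz s t) n) :
    (((Phi1 hs ht n hn hc (yR (algebraMap k (R1 hs ht n) c * rt hs ht n))).1 v : M1 (zz s t) n) : M) =
      (v : M) + c • t (v : M) := by
  rw [Frame.Phi_yR, AlgHom.commutes, Algebra.algebraMap_eq_smul_one, smul_mul_assoc, one_mul]
  rfl

theorem sc_mem_cfilt_s (c : k) :
    sc s hs c ∈ cfilt (D0 (s := s) (t := t) n) (D0_antitone hs ht n) 1 := by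
  intro j m hm
  constructor
  · rw [sc_val, add_sub_cancel_left, LinearMap.smul_apply]
    exact Submodule.smul_mem _ _ (s_mem_chain hm)
  · rw [sc_inv, sc_val, add_sub_cancel_left, LinearMap.smul_apply]
    exact Submodule.smul_mem _ _ (s_mem_chain hm)

theorem sc_mem_cfilt_t (c : k) :
    sc t ht c ∈ cfilt (D0 (s := s) (t := t) n) (D0_antitone hs ht n) 1 := by
  intro j m hm
  constructor
  · rw [sc_val, add_sub_cancel_left, LinearMap.smul_apply]
    exact Submodule.smul_mem _ _ (t_mem_chain hm)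
  · rw [sc_inv, sc_val, add_sub_cancel_left, LinearMap.smul_apply]
    exact Submodule.smul_mem _ _ (t_mem_chain hm)

theorem PP_le : PP hs ht n ≤ S1 hs ht n hn hc ⊓ S2 hs ht n := by
  unfold PP
  rw [Subgroup.closure_le]
  rintro p (⟨c, rfl⟩ | ⟨c, rfl⟩)
  · refine ⟨?_, ?_⟩
    · intro v
      rw [Phi1_xR_apply]
      show (1 + c • s) (v : M) = _
      simp
    · exact sc_mem_cfilt_s hs ht n c
  · refine ⟨?_, ?_⟩
    · intro v
      rw [Phi1_yR_apply]
      show (1 + c • t) (v : M) = _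
      simp
    · exact sc_mem_cfilt_t hs ht n c

/-- the group generated by the two scalar families -/
def HH : Subgroup (Module.End k M)ˣ :=
  Subgroup.closure (Set.range (sc s hs) ∪ Set.range (sc t ht))

theorem PP_map_fst : (PP hs ht n).map (MonoidHom.fst _ _) = HH hs ht := by
  unfold PP HH
  rw [MonoidHom.map_closure]
  congr 1
  ext h
  constructor
  · rintro ⟨_, (⟨c, rfl⟩ | ⟨c, rfl⟩), rfl⟩
    · exact Or.inl ⟨c, rfl⟩
    · exact Or.inr ⟨c, rfl⟩
  · rintro (⟨c, rfl⟩ | ⟨c, rfl⟩)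
    · exact ⟨_, Or.inl ⟨c, rfl⟩, rfl⟩
    · exact ⟨_, Or.inr ⟨c, rfl⟩, rfl⟩

theorem PP_map_snd : (PP hs ht n).map (MonoidHom.snd _ _) = Gam k (rt hs ht n) := by
  unfold PP Gam gens
  rw [MonoidHom.map_closure]
  congr 1
  ext h
  constructor
  · rintro ⟨_, (⟨c, rfl⟩ | ⟨c, rfl⟩), rfl⟩
    · exact Or.inl ⟨c, rfl⟩
    · exact Or.inr ⟨c, rfl⟩
  · rintro (⟨c, rfl⟩ | ⟨c, rfl⟩)
    · exact ⟨_, Or.inl ⟨c, rfl⟩, rfl⟩
    · exact ⟨_, Or.inr ⟨c, rfl⟩, rfl⟩

end main

end Cfsg.Agent.Lib.Helper8.Qp
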