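import Mathlib
import Cfsg.Agent.Lib.Helper8.Qp6

/-! Pure elements: elements of `HH` trivial on the null component and elementary on the one component. -/

set_option autoImplicit false
set_option linter.unusedSectionVars false

namespace Cfsg.Agent.Lib.Helper8.Qp

open Polynomial Matrix Cfsg.Agent.Lib.Helper8.Sr

universe u

variable {k : Type u} [Field k] {M : Type u} [AddCommGroup M] [Module k M]
variable [FiniteDimensional k M] {s t : Module.End k M} (hs : s * s = 0) (ht : t * t = 0) (n : ℕ)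
variable (hn : 1 ≤ n) (hc : IsCompl (M0 (zz s t) n) (M1 (zz s t) n))
variable (h2 : (2 : k) ≠ 0) (h3 : Nat.card k ≠ 3)

theorem R1_finite : Module.Finite k (R1 hs ht n) :=
  (AdjoinRoot.powerBasis' (minpoly.monic (Algebra.IsIntegral.isIntegral (Z1 hs ht n)))).finite

include hn hc in
theorem rt_unit : rt hs ht n * betaR (Z1 hs ht n) = 1 :=
  root_mul_betaR _ (zz1_injective hs ht n hn hc)

include hn hc h2 h3 in
theorem all_mem_Gam (r : R1 hs ht n) : xR r ∈ Gam k (rt hs ht n) ∧ yR r ∈ Gam k (rt hs ht n) := by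
  have := R1_finite hs ht n
  exact ring_gen h2 h3 (rt_unit hs ht n hn hc) AdjoinRoot.adjoinRoot_eq_top r

include hn hc h2 h3 in
theorem dR_mem_Gam (u v : R1 hs ht n) (h : u * v = 1) : dR u v h ∈ Gam k (rt hs ht n) := by
  have hw : ∀ (a b : R1 hs ht n) (hab : a * b = 1), wR a b hab ∈ Gam k (rt hs ht n) := by
    intro a b hab
    rw [wR_eq]
    exact (Gam k _).mul_mem ((Gam k _).mul_mem (all_mem_Gam hs ht n hn hc h2 h3 a).1
      (all_mem_Gam hs ht n hn hc h2 h3 (-b)).2) (all_mem_Gam hs ht n hn hc h2 h3 a).1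
  rw [← wR_mul_wR_one_inv]
  exact (Gam k _).mul_mem (hw u v h) ((Gam k _).inv_mem (hw 1 1 (one_mul 1)))

theorem exists_lift {g : SpecialLinearGroup (Fin 2) (R1 hs ht n)} (hg : g ∈ Gam k (rt hs ht n)) :
    ∃ h : (Module.End k M)ˣ, (h, g) ∈ PP hs ht n := by
  rw [← PP_map_snd] at hg
  obtain ⟨p, hp, rfl⟩ := hg
  exact ⟨p.1, hp⟩

include hn hc h2 h3 in
/-- lifts of `xR r` arbitrarily deep in the filtration -/
theorem exists_deep_x (N : ℕ) : ∀ r : R1 hs ht n, ∃ h : (Module.End k M)ˣ,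
    (h, xR r) ∈ PP hs ht n ∧ h ∈ cfilt (D0 (s := s) (t := t) n) (D0_antitone hs ht n) (N + 1) := by
  induction N with
  | zero =>
    intro r
    obtain ⟨h, hh⟩ := exists_lift hs ht n (all_mem_Gam hs ht n hn hc h2 h3 r).1
    exact ⟨h, hh, ((PP_le hs ht n hn hc) hh).2⟩
  | succ N ih =>
    intro r
    obtain ⟨lam, hl0, hl1⟩ := exists_ne_zero_sq_ne_one h2 h3
    have hl2 : lam ^ 2 - 1 ≠ 0 := sub_ne_zero.mpr hl1
    have huv : algebraMap k (R1 hs ht n) lam * algebraMap k (R1 hs ht n) lam⁻¹ = 1 := by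
      rw [← map_mul, mul_inv_cancel₀ hl0, map_one]
    obtain ⟨hd, hhd⟩ := exists_lift hs ht n (dR_mem_Gam hs ht n hn hc h2 h3 _ _ huv)
    have hd1 := ((PP_le hs ht n hn hc) hhd).2
    obtain ⟨h', hh', hdeep⟩ := ih (algebraMap k (R1 hs ht n) (lam ^ 2 - 1)⁻¹ * r)
    refine ⟨hd * h' * hd⁻¹ * h'⁻¹, ?_, ?_⟩
    · have hmem := (PP hs ht n).mul_mem ((PP hs ht n).mul_mem ((PP hs ht n).mul_mem hhd hh')
        ((PP hs ht n).inv_mem hhd)) ((PP hs ht n).inv_mem hh')
      have e : dR _ _ huv * xR (algebraMap k (R1 hs ht n) (lam ^ 2 - 1)⁻¹ * r) * (dR _ _ huv)⁻¹ *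
          (xR (algebraMap k (R1 hs ht n) (lam ^ 2 - 1)⁻¹ * r))⁻¹ = xR r := by
        rw [dR_mul_xR, mul_inv_cancel_right, xR_inv, ← xR_add]
        congr 1
        have h4 : algebraMap k (R1 hs ht n) (lam ^ 2 - 1) * algebraMap k (R1 hs ht n) (lam ^ 2 - 1)⁻¹ = 1 := by
          rw [← map_mul, mul_inv_cancel₀ hl2, map_one]
        rw [map_sub, map_pow, map_one] at h4
        linear_combination r * h4
      rw [← e]
      exact hmem
    · have := commutator_mem_cfilt hd1 hdeep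
      rw [show N + 1 + 1 = 1 + (N + 1) by ring]
      exact this

include hn hc h2 h3 in
/-- lifts of `yR r` arbitrarily deep in the filtration -/
theorem exists_deep_y (N : ℕ) : ∀ r : R1 hs ht n, ∃ h : (Module.End k M)ˣ,
    (h, yR r) ∈ PP hs ht n ∧ h ∈ cfilt (D0 (s := s) (t := t) n) (D0_antitone hs ht n) (N + 1) := by
  induction N with
  | zero =>
    intro r
    obtain ⟨h, hh⟩ := exists_lift hs ht n (all_mem_Gam hs ht n hn hc h2 h3 r).2
    exact ⟨h, hh, ((PP_le hs ht n hn hc) hh).2⟩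
  | succ N ih =>
    intro r
    obtain ⟨lam, hl0, hl1⟩ := exists_ne_zero_sq_ne_one h2 h3
    have hl2 : (lam⁻¹) ^ 2 - 1 ≠ 0 := by
      intro h
      apply hl1
      have h' : (lam⁻¹) ^ 2 = 1 := by linear_combination h
      calc lam ^ 2 = lam ^ 2 * (lam⁻¹) ^ 2 := by rw [h', mul_one]
        _ = (lam * lam⁻¹) ^ 2 := by ring
        _ = 1 := by rw [mul_inv_cancel₀ hl0, one_pow]
    have huv : algebraMap k (R1 hs ht n) lam * algebraMap k (R1 hs ht n) lam⁻¹ = 1 := by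
      rw [← map_mul, mul_inv_cancel₀ hl0, map_one]
    obtain ⟨hd, hhd⟩ := exists_lift hs ht n (dR_mem_Gam hs ht n hn hc h2 h3 _ _ huv)
    have hd1 := ((PP_le hs ht n hn hc) hhd).2
    obtain ⟨h', hh', hdeep⟩ := ih (algebraMap k (R1 hs ht n) ((lam⁻¹) ^ 2 - 1)⁻¹ * r)
    refine ⟨hd * h' * hd⁻¹ * h'⁻¹, ?_, ?_⟩
    · have hmem := (PP hs ht n).mul_mem ((PP hs ht n).mul_mem ((PP hs ht n).mul_mem hhd hh')
        ((PP hs ht n).inv_mem hhd)) ((PP hs ht n).inv_mem hh')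
      have e : dR _ _ huv * yR (algebraMap k (R1 hs ht n) ((lam⁻¹) ^ 2 - 1)⁻¹ * r) * (dR _ _ huv)⁻¹ *
          (yR (algebraMap k (R1 hs ht n) ((lam⁻¹) ^ 2 - 1)⁻¹ * r))⁻¹ = yR r := by
        rw [dR_mul_yR, mul_inv_cancel_right, yR_inv, ← yR_add]
        congr 1
        have h4 : algebraMap k (R1 hs ht n) ((lam⁻¹) ^ 2 - 1) *
            algebraMap k (R1 hs ht n) ((lam⁻¹) ^ 2 - 1)⁻¹ = 1 := by
          rw [← map_mul, mul_inv_cancel₀ hl2, map_one]
        rw [map_sub, map_pow, map_one] at h4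
        linear_combination r * h4
      rw [← e]
      exact hmem
    · have := commutator_mem_cfilt hd1 hdeep
      rw [show N + 1 + 1 = 1 + (N + 1) by ring]
      exact this

theorem fst_mem_HH {p : (Module.End k M)ˣ × SpecialLinearGroup (Fin 2) (R1 hs ht n)}
    (hp : p ∈ PP hs ht n) : p.1 ∈ HH hs ht := by
  rw [← PP_map_fst hs ht n]
  exact ⟨p, hp, rfl⟩

include hn hc h2 h3 in
/-- pure elements of the first kind -/
theorem pure_x (r : R1 hs ht n) : ∃ h : (Module.End k M)ˣ, h ∈ HH hs ht ∧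
    (∀ m ∈ M0 (zz s t) n, h.1 m = m) ∧
    ∀ v : M1 (zz s t) n, h.1 (v : M) =
      (v : M) + (((theta (Z1 hs ht n) r * s1 hs t n) v : M1 (zz s t) n) : M) := by
  obtain ⟨h, hP, hdeep⟩ := exists_deep_x hs ht n hn hc h2 h3 (2 * n) r
  refine ⟨h, fst_mem_HH hs ht n hP, ?_, ?_⟩
  · intro m hm
    exact apply_eq_of_mem_cfilt (chain_eq_bot hs ht n) hdeep hm
  · intro v
    have := ((PP_le hs ht n hn hc) hP).1 v
    rw [this, Frame.Phi_xR]
    rfl

include hn hc h2 h3 in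
/-- pure elements of the second kind -/
theorem pure_y (r : R1 hs ht n) : ∃ h : (Module.End k M)ˣ, h ∈ HH hs ht ∧
    (∀ m ∈ M0 (zz s t) n, h.1 m = m) ∧
    ∀ v : M1 (zz s t) n, h.1 (v : M) =
      (v : M) + (((theta (Z1 hs ht n) r * t1 s ht n) v : M1 (zz s t) n) : M) := by
  obtain ⟨h, hP, hdeep⟩ := exists_deep_y hs ht n hn hc h2 h3 (2 * n) (r * rt hs ht n)
  refine ⟨h, fst_mem_HH hs ht n hP, ?_, ?_⟩
  · intro m hm
    exact apply_eq_of_mem_cfilt (chain_eq_bot hs ht n) hdeep hm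
  · intro v
    have := ((PP_le hs ht n hn hc) hP).1 v
    rw [this, Frame.Phi_yR]
    rfl

end Cfsg.Agent.Lib.Helper8.Qp
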