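import Mathlib
import Cfsg.Agent.Lib.Helper8.Qp7

/-! Consequences of minimality of the commutator rank: the null component is centralized and
`k[z]` is a field. -/

set_option autoImplicit false
set_option linter.unusedSectionVars false

namespace Cfsg.Agent.Lib.Helper8.Qp

open Polynomial Matrix Cfsg.Agent.Lib.Helper8.Sr

universe u

variable {k : Type u} [Field k] {M : Type u} [AddCommGroup M] [Module k M]
variable [FiniteDimensional k M] {s t : Module.End k M} (hs : s * s = 0) (ht : t * t = 0) (n : ℕ)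
variable (hn : 1 ≤ n) (hc : IsCompl (M0 (zz s t) n) (M1 (zz s t) n))

include hc in
theorem exists_decomp (m : M) : ∃ m₀ ∈ M0 (zz s t) n, ∃ m₁ ∈ M1 (zz s t) n, m₀ + m₁ = m := by
  obtain ⟨y, z, hy, hz, h⟩ := Submodule.codisjoint_iff_exists_add_eq.mp hc.codisjoint m
  exact ⟨y, hy, z, hz, h⟩

include hc in
/-- linear maps agreeing on both components are equal -/
theorem ext_of_components {f g : Module.End k M} (h0 : ∀ m ∈ M0 (zz s t) n, f m = g m)
    (h1 : ∀ m ∈ M1 (zz s t) n, f m = g m) : f = g := by
  ext m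
  obtain ⟨m₀, hm₀, m₁, hm₁, rfl⟩ := exists_decomp n hc m
  rw [map_add, map_add, h0 m₀ hm₀, h1 m₁ hm₁]

/-- the properties of a pure element with parameter `u : End (M1)` -/
structure IsPure (u : Module.End k (M1 (zz s t) n)) (h : (Module.End k M)ˣ) : Prop where
  fix0 : ∀ m ∈ M0 (zz s t) n, h.1 m = m
  act1 : ∀ v : M1 (zz s t) n, h.1 (v : M) = (v : M) + ((u v : M1 (zz s t) n) : M)

variable {n}

include hc in
theorem IsPure.range_eq {u : Module.End k (M1 (zz s t) n)} {h : (Module.End k M)ˣ}
    (hp : IsPure n u h) :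
    LinearMap.range (h.1 - 1) = (LinearMap.range u).map (M1 (zz s t) n).subtype := by
  apply le_antisymm
  · rintro _ ⟨m, rfl⟩
    obtain ⟨m₀, hm₀, m₁, hm₁, rfl⟩ := exists_decomp n hc m
    refine ⟨u ⟨m₁, hm₁⟩, ⟨_, rfl⟩, ?_⟩
    have h1 := hp.act1 ⟨m₁, hm₁⟩
    have h0 := hp.fix0 m₀ hm₀
    simp only [Submodule.subtype_apply, LinearMap.sub_apply, Module.End.one_apply, map_add]
    simp only at h1
    rw [h0, h1]
    abel
  · rintro _ ⟨_, ⟨v, rfl⟩, rfl⟩
    refine ⟨(v : M), ?_⟩
    have h1 := hp.act1 v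
    simp only [Submodule.subtype_apply, LinearMap.sub_apply, Module.End.one_apply]
    rw [h1]
    abel

include hc in
theorem IsPure.sq_zero {u : Module.End k (M1 (zz s t) n)} {h : (Module.End k M)ˣ}
    (hp : IsPure n u h) (hu : u * u = 0) : (h.1 - 1) * (h.1 - 1) = 0 := by
  apply ext_of_components n hc
  · intro m hm
    have : (h.1 - 1) m = 0 := by
      rw [LinearMap.sub_apply, Module.End.one_apply, hp.fix0 m hm, sub_self]
    rw [Module.End.mul_apply, this, map_zero, LinearMap.zero_apply]
  · intro m hm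
    have e1 : ∀ v : M1 (zz s t) n, (h.1 - 1) (v : M) = ((u v : M1 (zz s t) n) : M) := by
      intro v
      rw [LinearMap.sub_apply, Module.End.one_apply, hp.act1 v]
      abel
    have := e1 ⟨m, hm⟩
    simp only at this
    rw [Module.End.mul_apply, this, e1, LinearMap.zero_apply]
    have h2 := congrArg (fun f : Module.End k (M1 (zz s t) n) => f ⟨m, hm⟩) hu
    simp only [Module.End.mul_apply, LinearMap.zero_apply] at h2
    rw [h2]
    rfl

theorem IsPure.ne_one {u : Module.End k (M1 (zz s t) n)} {h : (Module.End k M)ˣ}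
    (hp : IsPure n u h) (hu : u ≠ 0) : h.1 - 1 ≠ 0 := by
  intro h0
  apply hu
  ext v
  have h1 := hp.act1 v
  have h2 : h.1 (v : M) = (v : M) := by
    have := congrArg (fun f : Module.End k M => f (v : M)) h0
    simp only [LinearMap.sub_apply, Module.End.one_apply, LinearMap.zero_apply, sub_eq_zero] at this
    exact this
  rw [h2] at h1
  simp only [LinearMap.zero_apply, ZeroMemClass.coe_zero]
  have : ((u v : M1 (zz s t) n) : M) = 0 := by
    have := h1
    exact (add_eq_left.mp this.symm)
  exact this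

include hc in
/-- scalar multiples of pure elements -/
theorem IsPure.smul_eq {u : Module.End k (M1 (zz s t) n)} {h h' : (Module.End k M)ˣ} (c : k)
    (hp : IsPure n u h) (hp' : IsPure n (c • u) h') : h'.1 = 1 + c • (h.1 - 1) := by
  apply ext_of_components n hc
  · intro m hm
    rw [hp'.fix0 m hm, LinearMap.add_apply, LinearMap.smul_apply, LinearMap.sub_apply,
      Module.End.one_apply, hp.fix0 m hm, sub_self, smul_zero, add_zero]
  · intro m hm
    have h1 := hp.act1 ⟨m, hm⟩
    have h2 := hp'.act1 ⟨m, hm⟩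
    simp only at h1 h2
    rw [h2]
    show m + (((c • u) ⟨m, hm⟩ : M1 (zz s t) n) : M) = m + c • (h.1 m - m)
    rw [h1, add_sub_cancel_left]
    rfl

/-- a map not lowering the dimension of a subspace is injective on it -/
theorem inj_on_of_finrank_le {V : Type*} [AddCommGroup V] [Module k V] [FiniteDimensional k V]
    (f : Module.End k V) (W : Submodule k V)
    (h : Module.finrank k W ≤ Module.finrank k (W.map f)) {w : V} (hw : w ∈ W) (h0 : f w = 0) :
    w = 0 := by
  have h1 := LinearMap.finrank_range_add_finrank_ker (f.domRestrict W)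
  rw [LinearMap.range_domRestrict] at h1
  have h2 : Module.finrank k (LinearMap.ker (f.domRestrict W)) = 0 := by omega
  have h3 : LinearMap.ker (f.domRestrict W) = ⊥ := Submodule.finrank_eq_zero.mp h2
  have h4 : (⟨w, hw⟩ : W) ∈ LinearMap.ker (f.domRestrict W) := by
    rw [LinearMap.mem_ker, LinearMap.domRestrict_apply]
    exact h0
  rw [h3, Submodule.mem_bot] at h4
  exact congrArg Subtype.val h4

/-- the abstract minimality hypothesis -/
def MinRank (H : Subgroup (Module.End k M)ˣ) (s : Module.End k M) : Prop :=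
  ∀ h ∈ H, (h.1 - 1) * (h.1 - 1) = 0 → h.1 - 1 ≠ 0 →
    (∀ c : k, ∃ h' ∈ H, h'.1 = 1 + c • (h.1 - 1)) →
    Module.finrank k (LinearMap.range s) ≤ Module.finrank k (LinearMap.range (h.1 - 1))

end Cfsg.Agent.Lib.Helper8.Qp
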