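import Mathlib
import Cfsg.Agent.Lib.Helper8.Qp8

/-! Minimality of the commutator rank: conclusions. -/

set_option autoImplicit false
set_option linter.unusedSectionVars false

namespace Cfsg.Agent.Lib.Helper8.Qp

open Polynomial Matrix Cfsg.Agent.Lib.Helper8.Sr

universe u

variable {k : Type u} [Field k] {M : Type u} [AddCommGroup M] [Module k M]
variable [FiniteDimensional k M] {s t : Module.End k M} (hs : s * s = 0) (ht : t * t = 0) (n : ℕ)
variable (hn : 1 ≤ n) (hc : IsCompl (M0 (zz s t) n) (M1 (zz s t) n))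
variable (h2 : (2 : k) ≠ 0) (h3 : Nat.card k ≠ 3)

include hn hc h2 h3 in
theorem rank_pure_x (hmin : MinRank (HH hs ht) s) (r : R1 hs ht n)
    (hr : theta (Z1 hs ht n) r * s1 hs t n ≠ 0) :
    Module.finrank k (LinearMap.range s) ≤
      Module.finrank k (LinearMap.range (theta (Z1 hs ht n) r * s1 hs t n)) := by
  have F := frame1 hs ht n hn hc
  obtain ⟨h, hH, h0, h1⟩ := pure_x hs ht n hn hc h2 h3 r
  have hp : IsPure n (theta (Z1 hs ht n) r * s1 hs t n) h := ⟨h0, h1⟩
  have huu : (theta (Z1 hs ht n) r * s1 hs t n) * (theta (Z1 hs ht n) r * s1 hs t n) = 0 := by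
    rw [F.sw_s, F.ss, mul_zero]
  have hsc : ∀ c : k, ∃ h' ∈ HH hs ht, h'.1 = 1 + c • (h.1 - 1) := by
    intro c
    obtain ⟨h', hH', h0', h1'⟩ := pure_x hs ht n hn hc h2 h3 (c • r)
    refine ⟨h', hH', ?_⟩
    have hp' : IsPure n (c • (theta (Z1 hs ht n) r * s1 hs t n)) h' := by
      refine ⟨h0', ?_⟩
      intro v
      rw [h1' v, map_smul, smul_mul_assoc]
    exact hp.smul_eq hc c hp'
  have := hmin h hH (hp.sq_zero hc huu) (hp.ne_one hr) hsc
  rw [hp.range_eq hc, Submodule.finrank_map_subtype_eq] at this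
  exact this

include hn hc h2 h3 in
theorem rank_pure_y (hmin : MinRank (HH hs ht) t) (r : R1 hs ht n)
    (hr : theta (Z1 hs ht n) r * t1 s ht n ≠ 0) :
    Module.finrank k (LinearMap.range t) ≤
      Module.finrank k (LinearMap.range (theta (Z1 hs ht n) r * t1 s ht n)) := by
  have F := frame1 hs ht n hn hc
  obtain ⟨h, hH, h0, h1⟩ := pure_y hs ht n hn hc h2 h3 r
  have hp : IsPure n (theta (Z1 hs ht n) r * t1 s ht n) h := ⟨h0, h1⟩
  have huu : (theta (Z1 hs ht n) r * t1 s ht n) * (theta (Z1 hs ht n) r * t1 s ht n) = 0 := by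
    rw [mul_assoc, ← mul_assoc (t1 s ht n), ← F.ct, mul_assoc, F.tt, mul_zero, mul_zero]
  have hsc : ∀ c : k, ∃ h' ∈ HH hs ht, h'.1 = 1 + c • (h.1 - 1) := by
    intro c
    obtain ⟨h', hH', h0', h1'⟩ := pure_y hs ht n hn hc h2 h3 (c • r)
    refine ⟨h', hH', ?_⟩
    have hp' : IsPure n (c • (theta (Z1 hs ht n) r * t1 s ht n)) h' := by
      refine ⟨h0', ?_⟩
      intro v
      rw [h1' v, map_smul, smul_mul_assoc]
    exact hp.smul_eq hc c hp'
  have := hmin h hH (hp.sq_zero hc huu) (hp.ne_one hr) hsc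
  rw [hp.range_eq hc, Submodule.finrank_map_subtype_eq] at this
  exact this

theorem map_range_s1_le :
    (LinearMap.range (s1 hs t n)).map (M1 (zz s t) n).subtype ≤ LinearMap.range s := by
  rintro _ ⟨_, ⟨v, rfl⟩, rfl⟩
  exact ⟨(v : M), rfl⟩

theorem map_range_t1_le :
    (LinearMap.range (t1 s ht n)).map (M1 (zz s t) n).subtype ≤ LinearMap.range t := by
  rintro _ ⟨_, ⟨v, rfl⟩, rfl⟩
  exact ⟨(v : M), rfl⟩

theorem finrank_range_s1_le :
    Module.finrank k (LinearMap.range (s1 hs t n)) ≤ Module.finrank k (LinearMap.range s) := by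
  rw [← Submodule.finrank_map_subtype_eq (M1 (zz s t) n) (LinearMap.range (s1 hs t n))]
  exact Submodule.finrank_mono (map_range_s1_le hs n)

theorem finrank_range_t1_le :
    Module.finrank k (LinearMap.range (t1 s ht n)) ≤ Module.finrank k (LinearMap.range t) := by
  rw [← Submodule.finrank_map_subtype_eq (M1 (zz s t) n) (LinearMap.range (t1 s ht n))]
  exact Submodule.finrank_mono (map_range_t1_le ht n)

include ht hn hc in
theorem s1_ne_zero (hV : M1 (zz s t) n ≠ ⊥) : s1 hs t n ≠ 0 := by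
  intro h0
  have hnt : Nontrivial (M1 (zz s t) n) := Submodule.nontrivial_iff_ne_bot.mpr hV
  obtain ⟨v, hv⟩ := exists_ne (0 : M1 (zz s t) n)
  apply hv
  apply zz1_injective hs ht n hn hc
  rw [map_zero]
  show (s1 hs t n * t1 s ht n + t1 s ht n * s1 hs t n) v = 0
  rw [h0, zero_mul, mul_zero, add_zero, LinearMap.zero_apply]

include hn hc h2 h3 in
/-- `s` vanishes on the null component -/
theorem s_M0_eq_zero (hmin : MinRank (HH hs ht) s) (hV : M1 (zz s t) n ≠ ⊥) :
    ∀ m ∈ M0 (zz s t) n, s m = 0 := by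
  have h1 : theta (Z1 hs ht n) 1 * s1 hs t n = s1 hs t n := by rw [map_one, one_mul]
  have hr := rank_pure_x hs ht n hn hc h2 h3 hmin 1 (by rw [h1]; exact s1_ne_zero hs ht n hn hc hV)
  rw [h1, ← Submodule.finrank_map_subtype_eq (M1 (zz s t) n) (LinearMap.range (s1 hs t n))] at hr
  have heq := Submodule.eq_of_le_of_finrank_le (map_range_s1_le hs n) hr
  intro m hm
  have hsm : s m ∈ LinearMap.range s := ⟨m, rfl⟩
  rw [← heq] at hsm
  obtain ⟨w, -, hw⟩ := hsm
  have hm1 : s m ∈ M1 (zz s t) n := by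
    rw [← hw]; exact w.2
  have hm0 : s m ∈ M0 (zz s t) n := map_M0 (zz_s hs) n hm
  have := hc.disjoint
  rw [Submodule.disjoint_def] at this
  exact this _ hm0 hm1

include hs hn hc in
theorem t1_ne_zero (hV : M1 (zz s t) n ≠ ⊥) : t1 s ht n ≠ 0 := by
  intro h0
  have hnt : Nontrivial (M1 (zz s t) n) := Submodule.nontrivial_iff_ne_bot.mpr hV
  obtain ⟨v, hv⟩ := exists_ne (0 : M1 (zz s t) n)
  apply hv
  apply zz1_injective hs ht n hn hc
  rw [map_zero]
  show (s1 hs t n * t1 s ht n + t1 s ht n * s1 hs t n) v = 0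
  rw [h0, zero_mul, mul_zero, add_zero, LinearMap.zero_apply]

include hn hc h2 h3 in
/-- `t` vanishes on the null component -/
theorem t_M0_eq_zero (hmin : MinRank (HH hs ht) t) (hV : M1 (zz s t) n ≠ ⊥) :
    ∀ m ∈ M0 (zz s t) n, t m = 0 := by
  have h1 : theta (Z1 hs ht n) 1 * t1 s ht n = t1 s ht n := by rw [map_one, one_mul]
  have hr := rank_pure_y hs ht n hn hc h2 h3 hmin 1 (by rw [h1]; exact t1_ne_zero hs ht n hn hc hV)
  rw [h1, ← Submodule.finrank_map_subtype_eq (M1 (zz s t) n) (LinearMap.range (t1 s ht n))] at hr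
  have heq := Submodule.eq_of_le_of_finrank_le (map_range_t1_le ht n) hr
  intro m hm
  have hsm : t m ∈ LinearMap.range t := ⟨m, rfl⟩
  rw [← heq] at hsm
  obtain ⟨w, -, hw⟩ := hsm
  have hm1 : t m ∈ M1 (zz s t) n := by
    rw [← hw]; exact w.2
  have hm0 : t m ∈ M0 (zz s t) n := map_M0 (zz_t ht) n hm
  have := hc.disjoint
  rw [Submodule.disjoint_def] at this
  exact this _ hm0 hm1

include hn hc h2 h3 in
/-- nonzero elements of `k[z]` act injectively -/
theorem theta_injective_of_ne (hmin_s : MinRank (HH hs ht) s) (hmin_t : MinRank (HH hs ht) t)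
    (r : R1 hs ht n) (hr : r ≠ 0) : Function.Injective (theta (Z1 hs ht n) r) := by
  have F := frame1 hs ht n hn hc
  have hθr : theta (Z1 hs ht n) r ≠ 0 := by
    intro h
    apply hr
    apply theta_injective (Z1 hs ht n)
    rw [h, map_zero]
  have hrs : theta (Z1 hs ht n) r * s1 hs t n ≠ 0 := fun h => hθr (F.theta_eq_zero_of_mul_s h)
  have hrt : theta (Z1 hs ht n) r * t1 s ht n ≠ 0 := fun h => hθr (F.theta_eq_zero_of_mul_t h)
  have h1 := rank_pure_x hs ht n hn hc h2 h3 hmin_s r hrs
  have h1' := rank_pure_y hs ht n hn hc h2 h3 hmin_t r hrt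
  have e1 : LinearMap.range (theta (Z1 hs ht n) r * s1 hs t n) =
      (LinearMap.range (s1 hs t n)).map (theta (Z1 hs ht n) r) := by
    rw [Module.End.mul_eq_comp, LinearMap.range_comp]
  have e1' : LinearMap.range (theta (Z1 hs ht n) r * t1 s ht n) =
      (LinearMap.range (t1 s ht n)).map (theta (Z1 hs ht n) r) := by
    rw [Module.End.mul_eq_comp, LinearMap.range_comp]
  rw [e1] at h1
  rw [e1'] at h1'
  have hinj_s : ∀ w ∈ LinearMap.range (s1 hs t n), theta (Z1 hs ht n) r w = 0 → w = 0 :=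
    fun w hw h0 => inj_on_of_finrank_le _ _ (le_trans (finrank_range_s1_le hs n) h1) hw h0
  have hinj_t : ∀ w ∈ LinearMap.range (t1 s ht n), theta (Z1 hs ht n) r w = 0 → w = 0 :=
    fun w hw h0 => inj_on_of_finrank_le _ _ (le_trans (finrank_range_t1_le ht n) h1') hw h0
  rw [injective_iff_map_eq_zero]
  intro v hv
  set θ := theta (Z1 hs ht n) with hθ
  set β := betaR (Z1 hs ht n) with hβ
  -- the `e`-part
  have he : ee θ (s1 hs t n) (t1 s ht n) β v = 0 := by
    apply hinj_s
    · exact ⟨tp θ (t1 s ht n) β v, rfl⟩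
    · have := congrArg (fun f : Module.End k (M1 (zz s t) n) => f v) (F.c_ee r)
      simp only [Module.End.mul_apply] at this
      rw [this, hv, map_zero]
  -- the `f`-part
  have hf : ff θ (s1 hs t n) (t1 s ht n) β v = 0 := by
    have hw : t1 s ht n (s1 hs t n v) = 0 := by
      apply hinj_t
      · exact ⟨_, rfl⟩
      · have h3' : θ β (θ r (t1 s ht n (s1 hs t n v))) = 0 := by
          have e2 : θ β (θ r (t1 s ht n (s1 hs t n v))) = θ r (ff θ (s1 hs t n) (t1 s ht n) β v) := by
            have := congrArg (fun f : Module.End k (M1 (zz s t) n) => f (t1 s ht n (s1 hs t n v))) (F.cc r β)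
            simp only [Module.End.mul_apply] at this
            rw [← this]
            rfl
          rw [e2]
          have := congrArg (fun f : Module.End k (M1 (zz s t) n) => f v) (F.c_ff r)
          simp only [Module.End.mul_apply] at this
          rw [this, hv, map_zero]
        have h4 := congrArg (fun f : Module.End k (M1 (zz s t) n) => f (θ r (t1 s ht n (s1 hs t n v)))) F.ab
        simp only [Module.End.mul_apply, Module.End.one_apply] at h4
        rw [← h4, h3', map_zero]
    show θ β (t1 s ht n (s1 hs t n v)) = 0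
    rw [hw, map_zero]
  have := congrArg (fun f : Module.End k (M1 (zz s t) n) => f v) F.ee_add_ff
  simp only [LinearMap.add_apply, Module.End.one_apply] at this
  rw [← this, he, hf, add_zero]

include hn hc h2 h3 in
/-- the minimal polynomial of `z` on the one component is irreducible -/
theorem irreducible_minpoly (hmin_s : MinRank (HH hs ht) s) (hmin_t : MinRank (HH hs ht) t)
    (hV : M1 (zz s t) n ≠ ⊥) : Irreducible (minpoly k (Z1 hs ht n)) := by
  have hnt : Nontrivial (M1 (zz s t) n) := Submodule.nontrivial_iff_ne_bot.mpr hV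
  have hint : IsIntegral k (Z1 hs ht n) := Algebra.IsIntegral.isIntegral _
  have hm0 : minpoly k (Z1 hs ht n) ≠ 0 := minpoly.ne_zero hint
  -- no zero divisors in `R1`
  have hnzd : ∀ a b : R1 hs ht n, a * b = 0 → a = 0 ∨ b = 0 := by
    intro a b hab
    by_cases ha : a = 0
    · left; exact ha
    · right
      apply theta_injective (Z1 hs ht n)
      rw [map_zero]
      apply LinearMap.ext
      intro v
      apply theta_injective_of_ne hs ht n hn hc h2 h3 hmin_s hmin_t a ha
      have := congrArg (fun f : Module.End k (M1 (zz s t) n) => f v)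
        (map_mul (theta (Z1 hs ht n)) a b)
      simp only [Module.End.mul_apply] at this
      rw [LinearMap.zero_apply, map_zero, ← this, hab, map_zero, LinearMap.zero_apply]
  rw [irreducible_iff]
  refine ⟨minpoly.not_isUnit k (Z1 hs ht n), ?_⟩
  intro p q hpq
  have h0 : AdjoinRoot.mk (minpoly k (Z1 hs ht n)) p * AdjoinRoot.mk (minpoly k (Z1 hs ht n)) q = 0 := by
    rw [← map_mul, ← hpq, AdjoinRoot.mk_self]
  rcases hnzd _ _ h0 with h | h
  · right
    rw [AdjoinRoot.mk_eq_zero] at h
    obtain ⟨c, hc'⟩ := h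
    have : minpoly k (Z1 hs ht n) * 1 = minpoly k (Z1 hs ht n) * (c * q) := by
      rw [mul_one, ← mul_assoc, ← hc', ← hpq]
    have h1 := mul_left_cancel₀ hm0 this
    exact IsUnit.of_mul_eq_one c (by rw [mul_comm]; exact h1.symm)
  · left
    rw [AdjoinRoot.mk_eq_zero] at h
    obtain ⟨c, hc'⟩ := h
    have : minpoly k (Z1 hs ht n) * 1 = minpoly k (Z1 hs ht n) * (c * p) := by
      rw [mul_one, ← mul_assoc, ← hc', mul_comm, ← hpq]
    have h1 := mul_left_cancel₀ hm0 this
    exact IsUnit.of_mul_eq_one c (by rw [mul_comm]; exact h1.symm)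

end Cfsg.Agent.Lib.Helper8.Qp
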