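import Mathlib
import Cfsg.Agent.Lib.Helper8.Qp9
import Cfsg.Agent.Lib.Helper8.St4

/-! Final assembly: the group generated by two scalar families is `SL₂(k[z])`. -/

set_option autoImplicit false
set_option linter.unusedSectionVars false

namespace Cfsg.Agent.Lib.Helper8.Qp

open Polynomial Matrix Cfsg.Agent.Lib.Helper8.Sr

universe u

section gam

variable {k : Type*} [Field k] {K : Type*} [Field K] [Algebra k K]

theorem Gam_eq_top_of_all (α : K) (h : ∀ r : K, xR r ∈ Gam k α ∧ yR r ∈ Gam k α) :
    Gam k α = ⊤ := by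
  rw [eq_top_iff, ← Cfsg.Agent.Lib.Helper8.St.closure_xS_yS, Subgroup.closure_le]
  rintro g (⟨u, rfl⟩ | ⟨u, rfl⟩)
  · exact (h u).1
  · exact (h u).2

end gam

variable {k : Type u} [Field k] {M : Type u} [AddCommGroup M] [Module k M]

/-- the abstract unipotence condition -/
def Unip (H : Subgroup (Module.End k M)ˣ) : Prop :=
  ∃ N : ℕ, ∀ l : List (Module.End k M)ˣ, (∀ g ∈ l, g ∈ H) → l.length = N →
    (l.map fun g => (g.1 - 1 : Module.End k M)).prod = 0

theorem prod_mem_of_cfilt {D : ℕ → Submodule k M} {hD : Antitone D} :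
    ∀ l : List (Module.End k M)ˣ, (∀ g ∈ l, g ∈ cfilt D hD 1) → ∀ (j : ℕ) (m : M), m ∈ D j →
      (l.map fun g => (g.1 - 1 : Module.End k M)).prod m ∈ D (j + l.length) := by
  intro l
  induction l with
  | nil =>
    intro _ j m hm
    simpa using hm
  | cons g l ih =>
    intro hl j m hm
    have h1 := ih (fun g' hg' => hl g' (List.mem_cons_of_mem _ hg')) j m hm
    have h2 := (hl g List.mem_cons_self (j + l.length) _ h1).1
    rw [List.map_cons, List.prod_cons, Module.End.mul_apply, List.length_cons, ← add_assoc]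
    exact h2

/-- the pointwise stabilizer of a subspace -/
def fixSub (N : Submodule k M) : Subgroup (Module.End k M)ˣ where
  carrier := {h | ∀ m ∈ N, h.1 m = m}
  one_mem' := by
    intro m _
    rfl
  mul_mem' := by
    intro a b ha hb m hm
    rw [Units.val_mul, Module.End.mul_apply, hb m hm, ha m hm]
  inv_mem' := by
    intro a ha m hm
    have := unit_inv_apply a m
    rw [ha m hm] at this
    exact this

variable [FiniteDimensional k M] {s t : Module.End k M} (hs : s * s = 0) (ht : t * t = 0) (n : ℕ)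
variable (hn : 1 ≤ n) (hc : IsCompl (M0 (zz s t) n) (M1 (zz s t) n))
variable (h2 : (2 : k) ≠ 0) (h3 : Nat.card k ≠ 3)

theorem HH_le_cfilt : HH hs ht ≤ cfilt (D0 (s := s) (t := t) n) (D0_antitone hs ht n) 1 := by
  unfold HH
  rw [Subgroup.closure_le]
  rintro g (⟨c, rfl⟩ | ⟨c, rfl⟩)
  · exact sc_mem_cfilt_s hs ht n c
  · exact sc_mem_cfilt_t hs ht n c

include hc in
/-- if the one component vanishes, the group is unipotent -/
theorem unip_of_M1_eq_bot (hV : M1 (zz s t) n = ⊥) : Unip (HH hs ht) := by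
  have h0 : M0 (zz s t) n = ⊤ := by
    have := hc.sup_eq_top
    rw [hV, sup_bot_eq] at this
    exact this
  refine ⟨2 * n + 1, ?_⟩
  intro l hl hlen
  apply LinearMap.ext
  intro m
  have hm : m ∈ D0 (s := s) (t := t) n 0 := by
    show m ∈ M0 (zz s t) n
    rw [h0]
    exact Submodule.mem_top
  have := prod_mem_of_cfilt (hD := D0_antitone hs ht n) l
    (fun g hg => HH_le_cfilt hs ht n (hl g hg)) 0 m hm
  have hbot : D0 (s := s) (t := t) n (2 * n + 1) = ⊥ := chain_eq_bot hs ht n
  rw [hlen, zero_add, hbot, Submodule.mem_bot] at this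
  rw [this, LinearMap.zero_apply]

include hn hc h2 h3 in
theorem HH_le_fixSub (hmin_s : MinRank (HH hs ht) s) (hmin_t : MinRank (HH hs ht) t)
    (hV : M1 (zz s t) n ≠ ⊥) : HH hs ht ≤ fixSub (M0 (zz s t) n) := by
  unfold HH
  rw [Subgroup.closure_le]
  rintro g (⟨c, rfl⟩ | ⟨c, rfl⟩)
  · intro m hm
    rw [sc_val, LinearMap.add_apply, Module.End.one_apply, LinearMap.smul_apply,
      s_M0_eq_zero hs ht n hn hc h2 h3 hmin_s hV m hm, smul_zero, add_zero]
  · intro m hm
    rw [sc_val, LinearMap.add_apply, Module.End.one_apply, LinearMap.smul_apply,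
      t_M0_eq_zero hs ht n hn hc h2 h3 hmin_t hV m hm, smul_zero, add_zero]

include hn hc in
/-- the first projection is injective on the graph subgroup -/
theorem PP_fst_inj {p : (Module.End k M)ˣ × SpecialLinearGroup (Fin 2) (R1 hs ht n)}
    (hp : p ∈ PP hs ht n) (h1 : p.1 = 1) : p.2 = 1 := by
  have hS' : p ∈ S1 hs ht n hn hc := ((PP_le hs ht n hn hc) hp).1
  have hS := (mem_S1 hs ht n hn hc).mp hS'
  apply (frame1 hs ht n hn hc).Phi_injective (theta_injective _)
  rw [map_one]
  apply Units.ext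
  apply LinearMap.ext
  intro v
  apply Subtype.ext
  rw [← hS v, h1]
  rfl

include hn hc h2 h3 in
/-- the second projection is injective on the graph subgroup -/
theorem PP_snd_inj (hmin_s : MinRank (HH hs ht) s) (hmin_t : MinRank (HH hs ht) t)
    (hV : M1 (zz s t) n ≠ ⊥)
    {p : (Module.End k M)ˣ × SpecialLinearGroup (Fin 2) (R1 hs ht n)}
    (hp : p ∈ PP hs ht n) (h1 : p.2 = 1) : p.1 = 1 := by
  have hS' : p ∈ S1 hs ht n hn hc := ((PP_le hs ht n hn hc) hp).1
  have hS := (mem_S1 hs ht n hn hc).mp hS'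
  have hfix := HH_le_fixSub hs ht n hn hc h2 h3 hmin_s hmin_t hV (fst_mem_HH hs ht n hp)
  apply Units.ext
  apply ext_of_components n hc
  · intro m hm
    rw [hfix m hm]
    rfl
  · intro m hm
    have := hS ⟨m, hm⟩
    rw [h1, map_one] at this
    exact this

include hn hc h2 h3 in
/-- the main abstract result -/
theorem exists_iso (hmin_s : MinRank (HH hs ht) s) (hmin_t : MinRank (HH hs ht) t)
    (hV : M1 (zz s t) n ≠ ⊥) :
    ∃ (K : Type u) (_ : Field K) (_ : Algebra k K) (lam : K), IsAlgebraic k lam ∧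
      IntermediateField.adjoin k ({lam} : Set K) = ⊤ ∧
      Nonempty (↥(HH hs ht) ≃* Matrix.SpecialLinearGroup (Fin 2) K) := by
  have : Fact (Irreducible (minpoly k (Z1 hs ht n))) :=
    ⟨irreducible_minpoly hs ht n hn hc h2 h3 hmin_s hmin_t hV⟩
  refine ⟨R1 hs ht n, AdjoinRoot.instField, inferInstance, rt hs ht n, ?_, ?_, ?_⟩
  · exact AdjoinRoot.isAlgebraic_root (minpoly.ne_zero (Algebra.IsIntegral.isIntegral _))
  · exact IntermediateField.adjoin_root_eq_top _
  · have htop : Gam k (rt hs ht n) = ⊤ :=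
      Gam_eq_top_of_all (rt hs ht n) (all_mem_Gam hs ht n hn hc h2 h3)
    have hf : Function.Injective ((MonoidHom.fst _ _).comp (PP hs ht n).subtype) := by
      rw [injective_iff_map_eq_one]
      intro p hp
      apply Subtype.ext
      apply Prod.ext
      · exact hp
      · exact PP_fst_inj hs ht n hn hc p.2 hp
    have hg : Function.Injective ((MonoidHom.snd _ _).comp (PP hs ht n).subtype) := by
      rw [injective_iff_map_eq_one]
      intro p hp
      apply Subtype.ext
      apply Prod.ext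
      · exact PP_snd_inj hs ht n hn hc h2 h3 hmin_s hmin_t hV p.2 hp
      · exact hp
    have hg' : Function.Surjective ((MonoidHom.snd _ _).comp (PP hs ht n).subtype) := by
      intro x
      have : x ∈ (PP hs ht n).map (MonoidHom.snd _ _) := by
        rw [PP_map_snd, htop]
        exact Subgroup.mem_top x
      obtain ⟨p, hp, rfl⟩ := this
      exact ⟨⟨p, hp⟩, rfl⟩
    have hfr : ((MonoidHom.fst _ _).comp (PP hs ht n).subtype).range = HH hs ht := by
      rw [← PP_map_fst hs ht n, MonoidHom.range_comp, Subgroup.range_subtype]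
    exact ⟨((MulEquiv.subgroupCongr hfr).symm.trans (MonoidHom.ofInjective hf).symm).trans
      (MulEquiv.ofBijective _ ⟨hg, hg'⟩)⟩

end Cfsg.Agent.Lib.Helper8.Qp
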