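import Mathlib
import Cfsg.Prelude.Def_RootSubgroups
import Cfsg.Agent.Lib.Helper8.Qp10

/-! Basic API for quadratic elements of a linear group. -/

set_option autoImplicit false
set_option linter.unusedSectionVars false

namespace Cfsg.Agent.Lib.Helper8.Qr

open Cfsg Cfsg.Agent.Lib.Helper8.Qp

universe u

variable {k : Type u} [Field k] {M : Type u} [AddCommGroup M] [Module k M]

theorem units_val_inv_mul (g : LinearMap.GeneralLinearGroup k M) : (g⁻¹).1 * g.1 = 1 := by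
  rw [← Units.val_mul, inv_mul_cancel, Units.val_one]

theorem units_val_mul_inv (g : LinearMap.GeneralLinearGroup k M) : g.1 * (g⁻¹).1 = 1 := by
  rw [← Units.val_mul, mul_inv_cancel, Units.val_one]

theorem conj_sub_one (g σ : LinearMap.GeneralLinearGroup k M) :
    ((g * σ * g⁻¹ : LinearMap.GeneralLinearGroup k M) : M →ₗ[k] M) - 1 =
      g.1 * (σ.1 - 1) * (g⁻¹).1 := by
  rw [Units.val_mul, Units.val_mul, mul_sub, sub_mul, mul_one, units_val_mul_inv]

theorem range_conj (g : LinearMap.GeneralLinearGroup k M) (x : M →ₗ[k] M) :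
    LinearMap.range (g.1 * x * (g⁻¹).1) = (LinearMap.range x).map g.1 := by
  apply le_antisymm
  · rintro _ ⟨m, rfl⟩
    exact ⟨x ((g⁻¹).1 m), ⟨_, rfl⟩, rfl⟩
  · rintro _ ⟨_, ⟨m, rfl⟩, rfl⟩
    refine ⟨g.1 m, ?_⟩
    show g.1 (x ((g⁻¹).1 (g.1 m))) = g.1 (x m)
    rw [unit_inv_apply]

theorem ker_conj (g : LinearMap.GeneralLinearGroup k M) (x : M →ₗ[k] M) :
    LinearMap.ker (g.1 * x * (g⁻¹).1) = (LinearMap.ker x).map g.1 := by
  apply le_antisymm
  · intro m hm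
    rw [LinearMap.mem_ker] at hm
    have h1 : g.1 (x ((g⁻¹).1 m)) = 0 := hm
    have h2 : x ((g⁻¹).1 m) = 0 := by
      have := congrArg (g⁻¹).1 h1
      rw [unit_inv_apply, map_zero] at this
      exact this
    exact ⟨(g⁻¹).1 m, h2, unit_apply_inv g m⟩
  · rintro _ ⟨m, hm, rfl⟩
    have hm' : x m = 0 := hm
    show g.1 (x ((g⁻¹).1 (g.1 m))) = 0
    rw [unit_inv_apply, hm', map_zero]

theorem units_injective (g : LinearMap.GeneralLinearGroup k M) : Function.Injective g.1 := by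
  intro a b h
  have := congrArg (g⁻¹).1 h
  rwa [unit_inv_apply, unit_inv_apply] at this

theorem finrank_map_unit (g : LinearMap.GeneralLinearGroup k M) (W : Submodule k M) :
    Module.finrank k (W.map g.1) = Module.finrank k W :=
  (LinearEquiv.finrank_eq (Submodule.equivMapOfInjective g.1 (units_injective g) W)).symm

theorem commutatorRank_conj (g σ : LinearMap.GeneralLinearGroup k M) :
    commutatorRank (g * σ * g⁻¹) = commutatorRank σ := by
  unfold commutatorRank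
  rw [conj_sub_one, range_conj, finrank_map_unit]

theorem isQuadraticOn_conj {g σ : LinearMap.GeneralLinearGroup k M} (h : IsQuadraticOn σ) :
    IsQuadraticOn (g * σ * g⁻¹) := by
  unfold IsQuadraticOn at h ⊢
  rw [conj_sub_one]
  constructor
  · calc g.1 * (σ.1 - 1) * (g⁻¹).1 * (g.1 * (σ.1 - 1) * (g⁻¹).1)
        = g.1 * (σ.1 - 1) * ((g⁻¹).1 * g.1) * (σ.1 - 1) * (g⁻¹).1 := by noncomm_ring
      _ = g.1 * ((σ.1 - 1) * (σ.1 - 1)) * (g⁻¹).1 := by
        rw [units_val_inv_mul]; noncomm_ring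
      _ = 0 := by rw [h.1, mul_zero, zero_mul]
  · intro h0
    apply h.2
    have : (g⁻¹).1 * (g.1 * (σ.1 - 1) * (g⁻¹).1) * g.1 = (σ.1 - 1) := by
      calc (g⁻¹).1 * (g.1 * (σ.1 - 1) * (g⁻¹).1) * g.1
          = ((g⁻¹).1 * g.1) * (σ.1 - 1) * ((g⁻¹).1 * g.1) := by noncomm_ring
        _ = σ.1 - 1 := by rw [units_val_inv_mul, one_mul, mul_one]
    rw [← this, h0, mul_zero, zero_mul]

theorem scalarFamily_conj (g σ : LinearMap.GeneralLinearGroup k M) :
    scalarFamily (g * σ * g⁻¹) = (fun x => g * x * g⁻¹) '' scalarFamily σ := by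
  ext x
  constructor
  · rintro ⟨c, hc⟩
    refine ⟨g⁻¹ * x * g, ⟨c, ?_⟩, by group⟩
    rw [conj_sub_one] at hc
    rw [Units.val_mul, Units.val_mul, hc]
    calc (g⁻¹).1 * (1 + c • (g.1 * (σ.1 - 1) * (g⁻¹).1)) * g.1
        = (g⁻¹).1 * g.1 + c • (((g⁻¹).1 * g.1) * (σ.1 - 1) * ((g⁻¹).1 * g.1)) := by
          simp only [mul_add, add_mul, mul_one, mul_smul_comm, smul_mul_assoc, mul_assoc]
      _ = 1 + c • (σ.1 - 1) := by rw [units_val_inv_mul, one_mul, mul_one]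
  · rintro ⟨y, ⟨c, hc⟩, rfl⟩
    refine ⟨c, ?_⟩
    rw [conj_sub_one, Units.val_mul, Units.val_mul, hc]
    calc g.1 * (1 + c • (σ.1 - 1)) * (g⁻¹).1
        = g.1 * (g⁻¹).1 + c • (g.1 * (σ.1 - 1) * (g⁻¹).1) := by
          simp only [mul_add, add_mul, mul_one, mul_smul_comm, smul_mul_assoc, mul_assoc]
      _ = 1 + c • (g.1 * (σ.1 - 1) * (g⁻¹).1) := by rw [units_val_mul_inv]

variable {G : Subgroup (LinearMap.GeneralLinearGroup k M)}

theorem conj_mem_Q {g σ : LinearMap.GeneralLinearGroup k M} (hg : g ∈ G)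
    (h : σ ∈ quadraticElements G) : g * σ * g⁻¹ ∈ quadraticElements G := by
  refine ⟨G.mul_mem (G.mul_mem hg h.1) (G.inv_mem hg), isQuadraticOn_conj h.2.1, ?_⟩
  rw [scalarFamily_conj]
  rintro _ ⟨y, hy, rfl⟩
  exact G.mul_mem (G.mul_mem hg (h.2.2 hy)) (G.inv_mem hg)

theorem conj_mem_Qd {g σ : LinearMap.GeneralLinearGroup k M} (hg : g ∈ G)
    (h : σ ∈ minimalQuadraticElements G) : g * σ * g⁻¹ ∈ minimalQuadraticElements G := by
  refine ⟨conj_mem_Q hg h.1, ?_⟩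
  intro τ hτ
  rw [commutatorRank_conj]
  exact h.2 τ hτ

theorem rank_eq_of_Qd {σ τ : LinearMap.GeneralLinearGroup k M}
    (hσ : σ ∈ minimalQuadraticElements G) (hτ : τ ∈ minimalQuadraticElements G) :
    commutatorRank σ = commutatorRank τ :=
  le_antisymm (hσ.2 τ hτ.1) (hτ.2 σ hσ.1)

/-- membership in `𝒬(G)` from explicit data -/
theorem mem_Q_of {h : LinearMap.GeneralLinearGroup k M} (hG : h ∈ G)
    (hq : (h.1 - 1) * (h.1 - 1) = 0) (hne : h.1 - 1 ≠ 0)
    (hsc : ∀ c : k, ∃ h' ∈ G, h'.1 = 1 + c • (h.1 - 1)) : h ∈ quadraticElements G := by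
  refine ⟨hG, ⟨hq, hne⟩, ?_⟩
  rintro x ⟨c, hc⟩
  obtain ⟨h', hh', e⟩ := hsc c
  have : x = h' := Units.ext (hc.trans e.symm)
  rw [this]
  exact hh'

theorem mem_Qd_of_rank_le {σ h : LinearMap.GeneralLinearGroup k M}
    (hσ : σ ∈ minimalQuadraticElements G) (hh : h ∈ quadraticElements G)
    (hr : commutatorRank h ≤ commutatorRank σ) : h ∈ minimalQuadraticElements G := by
  refine ⟨hh, ?_⟩
  intro τ hτ
  exact le_trans hr (hσ.2 τ hτ)

end Cfsg.Agent.Lib.Helper8.Qr
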