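import Mathlib
import Cfsg.Agent.Lib.Helper8.Qr1

/-! The classes `E_σ` and the subgroups `E(σ)`. -/

set_option autoImplicit false
set_option linter.unusedSectionVars false

namespace Cfsg.Agent.Lib.Helper8.Qr

open Cfsg Cfsg.Agent.Lib.Helper8.Qp

universe u

variable {k : Type u} [Field k] {M : Type u} [AddCommGroup M] [Module k M]
variable {G : Subgroup (LinearMap.GeneralLinearGroup k M)}

/-- `x` has image in `A` and kills `C` -/
def InE (A C : Submodule k M) (x : M →ₗ[k] M) : Prop :=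
  LinearMap.range x ≤ A ∧ C ≤ LinearMap.ker x

theorem InE.mul_eq_zero {A C : Submodule k M} (hAC : A ≤ C) {x y : M →ₗ[k] M}
    (hx : InE A C x) (hy : InE A C y) : x * y = 0 := by
  apply LinearMap.ext
  intro m
  have h1 : y m ∈ A := hy.1 ⟨m, rfl⟩
  exact hx.2 (hAC h1)

theorem InE.add {A C : Submodule k M} {x y : M →ₗ[k] M}
    (hx : InE A C x) (hy : InE A C y) : InE A C (x + y) := by
  constructor
  · rintro _ ⟨m, rfl⟩
    exact A.add_mem (hx.1 ⟨m, rfl⟩) (hy.1 ⟨m, rfl⟩)
  · intro m hm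
    rw [LinearMap.mem_ker, LinearMap.add_apply, hx.2 hm, hy.2 hm, add_zero]

theorem InE.smul {A C : Submodule k M} {x : M →ₗ[k] M} (c : k)
    (hx : InE A C x) : InE A C (c • x) := by
  constructor
  · rintro _ ⟨m, rfl⟩
    exact A.smul_mem c (hx.1 ⟨m, rfl⟩)
  · intro m hm
    rw [LinearMap.mem_ker, LinearMap.smul_apply, hx.2 hm, smul_zero]

theorem InE.zero {A C : Submodule k M} : InE A C (0 : M →ₗ[k] M) := by
  constructor
  · rintro _ ⟨m, rfl⟩
    exact A.zero_mem
  · intro m _
    rfl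

theorem range_le_ker_of_sq {s : M →ₗ[k] M} (hs : s * s = 0) :
    LinearMap.range s ≤ LinearMap.ker s := by
  rintro _ ⟨m, rfl⟩
  have := congrArg (fun f : M →ₗ[k] M => f m) hs
  exact this

theorem sc_mem_scalarFamily (a : LinearMap.GeneralLinearGroup k M)
    (hs : (a.1 - 1) * (a.1 - 1) = 0) (c : k) : sc (a.1 - 1) hs c ∈ scalarFamily a :=
  ⟨c, rfl⟩

theorem sc_one_eq (a : LinearMap.GeneralLinearGroup k M)
    (hs : (a.1 - 1) * (a.1 - 1) = 0) : sc (a.1 - 1) hs 1 = a := by
  apply Units.ext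
  rw [sc_val, one_smul, add_sub_cancel]

theorem sc_sub_one (s : M →ₗ[k] M) (hs : s * s = 0) (c : k) : (sc s hs c).1 - 1 = c • s := by
  rw [sc_val, add_sub_cancel_left]

theorem sc_mul_sc (s : M →ₗ[k] M) (hs : s * s = 0) (c c' : k) :
    sc s hs c * sc s hs c' = sc s hs (c + c') := by
  apply Units.ext
  rw [Units.val_mul, sc_val, sc_val, sc_val]
  have : (c • s) * (c' • s) = 0 := by rw [smul_mul_smul_comm, hs, smul_zero]
  have e : ∀ x y : M →ₗ[k] M, (1 + x) * (1 + y) = 1 + x + y + x * y := by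
    intro x y; noncomm_ring
  rw [e, this, add_zero, add_smul, add_assoc]

theorem sc_mem_G {a : LinearMap.GeneralLinearGroup k M} (ha : a ∈ quadraticElements G) (c : k) :
    sc (a.1 - 1) ha.2.1.1 c ∈ G :=
  ha.2.2 (sc_mem_scalarFamily a ha.2.1.1 c)

variable [FiniteDimensional k M]

theorem mem_sameActionClass_of_le {τ b : LinearMap.GeneralLinearGroup k M}
    (hτ : τ ∈ minimalQuadraticElements G) (hb : b ∈ quadraticElements G)
    (hr : LinearMap.range (b.1 - 1) ≤ LinearMap.range (τ.1 - 1))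
    (hk : LinearMap.ker (τ.1 - 1) ≤ LinearMap.ker (b.1 - 1)) : b ∈ sameActionClass G τ := by
  have h1 : commutatorRank b ≤ commutatorRank τ := Submodule.finrank_mono hr
  have h2 : commutatorRank τ ≤ commutatorRank b := hτ.2 b hb
  have hQd : b ∈ minimalQuadraticElements G := mem_Qd_of_rank_le hτ hb h1
  have hreq : LinearMap.range (b.1 - 1) = LinearMap.range (τ.1 - 1) :=
    Submodule.eq_of_le_of_finrank_le hr h2
  have e1 := LinearMap.finrank_range_add_finrank_ker (b.1 - 1)
  have e2 := LinearMap.finrank_range_add_finrank_ker (τ.1 - 1)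
  have h3 : Module.finrank k (LinearMap.range (b.1 - 1)) =
      Module.finrank k (LinearMap.range (τ.1 - 1)) := le_antisymm h1 h2
  have hkeq : LinearMap.ker (τ.1 - 1) = LinearMap.ker (b.1 - 1) :=
    Submodule.eq_of_le_of_finrank_le hk (by omega)
  exact ⟨hQd, hkeq.symm, hreq⟩

theorem inE_of_mem_sameActionClass {σ a : LinearMap.GeneralLinearGroup k M}
    (ha : a ∈ sameActionClass G σ) :
    InE (LinearMap.range (σ.1 - 1)) (LinearMap.ker (σ.1 - 1)) (a.1 - 1) :=
  ⟨le_of_eq ha.2.2, le_of_eq ha.2.1.symm⟩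

theorem self_mem_sameActionClass {σ : LinearMap.GeneralLinearGroup k M}
    (hσ : σ ∈ minimalQuadraticElements G) : σ ∈ sameActionClass G σ :=
  ⟨hσ, rfl, rfl⟩

/-- nonzero scalar multiples stay in the class -/
theorem sc_mem_sameActionClass {σ a : LinearMap.GeneralLinearGroup k M}
    (hσ : σ ∈ minimalQuadraticElements G) (ha : a ∈ sameActionClass G σ) {c : k} (hc : c ≠ 0) :
    sc (a.1 - 1) ha.1.1.2.1.1 c ∈ sameActionClass G σ := by
  have hq := ha.1.1
  have hin := inE_of_mem_sameActionClass ha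
  apply mem_sameActionClass_of_le hσ
  · apply mem_Q_of (sc_mem_G hq c)
    · rw [sc_sub_one, smul_mul_smul_comm, hq.2.1.1, smul_zero]
    · rw [sc_sub_one]
      intro h0
      exact hq.2.1.2 ((smul_eq_zero.mp h0).resolve_left hc)
    · intro c'
      refine ⟨sc (a.1 - 1) hq.2.1.1 (c' * c), sc_mem_G hq _, ?_⟩
      rw [sc_sub_one, sc_val, mul_smul]
  · rw [sc_sub_one]
    exact (hin.smul c).1
  · rw [sc_sub_one]
    exact (hin.smul c).2

/-- products of members of the class -/
theorem mul_mem_sameActionClass {σ a b : LinearMap.GeneralLinearGroup k M}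
    (hσ : σ ∈ minimalQuadraticElements G) (ha : a ∈ sameActionClass G σ)
    (hb : b ∈ sameActionClass G σ) : a * b = 1 ∨ a * b ∈ sameActionClass G σ := by
  have hqa := ha.1.1
  have hqb := hb.1.1
  have hia := inE_of_mem_sameActionClass ha
  have hib := inE_of_mem_sameActionClass hb
  have hAC := range_le_ker_of_sq hσ.1.2.1.1
  have hab : (a.1 - 1) * (b.1 - 1) = 0 := hia.mul_eq_zero hAC hib
  have hba : (b.1 - 1) * (a.1 - 1) = 0 := hib.mul_eq_zero hAC hia
  have hsum : (a * b).1 - 1 = (a.1 - 1) + (b.1 - 1) := by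
    rw [Units.val_mul]
    calc a.1 * b.1 - 1 = (a.1 - 1) * (b.1 - 1) + ((a.1 - 1) + (b.1 - 1)) := by noncomm_ring
      _ = (a.1 - 1) + (b.1 - 1) := by rw [hab, zero_add]
  by_cases h0 : (a.1 - 1) + (b.1 - 1) = 0
  · left
    apply Units.ext
    rw [Units.val_one]
    rw [h0, sub_eq_zero] at hsum
    exact hsum
  · right
    apply mem_sameActionClass_of_le hσ
    · apply mem_Q_of (G.mul_mem hqa.1 hqb.1)
      · rw [hsum]
        calc ((a.1 - 1) + (b.1 - 1)) * ((a.1 - 1) + (b.1 - 1))
            = (a.1 - 1) * (a.1 - 1) + (a.1 - 1) * (b.1 - 1) + (b.1 - 1) * (a.1 - 1)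
              + (b.1 - 1) * (b.1 - 1) := by noncomm_ring
          _ = 0 := by rw [hqa.2.1.1, hqb.2.1.1, hab, hba]; simp
      · rw [hsum]; exact h0
      · intro c
        refine ⟨sc (a.1 - 1) hqa.2.1.1 c * sc (b.1 - 1) hqb.2.1.1 c,
          G.mul_mem (sc_mem_G hqa c) (sc_mem_G hqb c), ?_⟩
        rw [hsum, Units.val_mul, sc_val, sc_val]
        have : (c • (a.1 - 1)) * (c • (b.1 - 1)) = 0 := by
          rw [smul_mul_smul_comm, hab, smul_zero]
        have e : ∀ x y : M →ₗ[k] M, (1 + x) * (1 + y) = 1 + x + y + x * y := by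
          intro x y; noncomm_ring
        rw [e, this, add_zero, smul_add, add_assoc]
    · rw [hsum]; exact (hia.add hib).1
    · rw [hsum]; exact (hia.add hib).2

theorem inv_mem_sameActionClass {σ a : LinearMap.GeneralLinearGroup k M}
    (hσ : σ ∈ minimalQuadraticElements G) (ha : a ∈ sameActionClass G σ) :
    a⁻¹ ∈ sameActionClass G σ := by
  have h1 := sc_mem_sameActionClass hσ ha (c := -1) (by simp)
  have h2 : a⁻¹ = sc (a.1 - 1) ha.1.1.2.1.1 (-1) := by
    rw [← sc_inv, sc_one_eq]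
  rw [h2]
  exact h1

/-- `E(σ) = E_σ ∪ {1}` -/
theorem mem_sameActionSubgroup {σ a : LinearMap.GeneralLinearGroup k M}
    (hσ : σ ∈ minimalQuadraticElements G) (ha : a ∈ sameActionSubgroup G σ) :
    a = 1 ∨ a ∈ sameActionClass G σ := by
  unfold sameActionSubgroup at ha
  induction ha using Subgroup.closure_induction with
  | mem x hx => exact Or.inr hx
  | one => exact Or.inl rfl
  | mul x y _ _ hx hy =>
    rcases hx with rfl | hx
    · rw [one_mul]; exact hy
    · rcases hy with rfl | hy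
      · rw [mul_one]; exact Or.inr hx
      · exact mul_mem_sameActionClass hσ hx hy
  | inv x _ hx =>
    rcases hx with rfl | hx
    · rw [inv_one]; exact Or.inl rfl
    · exact Or.inr (inv_mem_sameActionClass hσ hx)

theorem sameActionClass_le {σ : LinearMap.GeneralLinearGroup k M} :
    sameActionClass G σ ⊆ (sameActionSubgroup G σ : Set _) :=
  Subgroup.subset_closure

theorem sameActionSubgroup_le (σ : LinearMap.GeneralLinearGroup k M) :
    sameActionSubgroup G σ ≤ G := by
  unfold sameActionSubgroup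
  rw [Subgroup.closure_le]
  intro x hx
  exact hx.1.1.1

theorem inE_of_mem_sameActionSubgroup {σ a : LinearMap.GeneralLinearGroup k M}
    (hσ : σ ∈ minimalQuadraticElements G) (ha : a ∈ sameActionSubgroup G σ) :
    InE (LinearMap.range (σ.1 - 1)) (LinearMap.ker (σ.1 - 1)) (a.1 - 1) := by
  rcases mem_sameActionSubgroup hσ ha with rfl | h
  · rw [Units.val_one, sub_self]; exact InE.zero
  · exact inE_of_mem_sameActionClass h

end Cfsg.Agent.Lib.Helper8.Qr
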