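import Mathlib
import Cfsg.Agent.Lib.Helper8.Qr2

/-! The key lemma for unipotent pairs: if `z = st + ts` is nilpotent then `tst = 0`. -/

set_option autoImplicit false
set_option linter.unusedSectionVars false
set_option linter.unusedSimpArgs false

namespace Cfsg.Agent.Lib.Helper8.Qr

open Cfsg Cfsg.Agent.Lib.Helper8.Qp

universe u

section alg

variable {R : Type*} [Ring R]

theorem comm_formula {x y : R} (hx : x * x = 0) (hy : y * y = 0) :
    (1 + x) * (1 + y) * (1 - x) * (1 - y) =
      1 + x * y - y * x + y * x * y - x * y * x + x * y * x * y := by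
  have hx' : ∀ a : R, x * (x * a) = 0 := fun a => by rw [← mul_assoc, hx, zero_mul]
  have hy' : ∀ a : R, y * (y * a) = 0 := fun a => by rw [← mul_assoc, hy, zero_mul]
  simp only [mul_add, add_mul, mul_sub, sub_mul, mul_one, one_mul, mul_assoc, hx, hy, hx', hy',
    mul_zero, zero_mul, add_zero, zero_add, sub_zero]
  abel

theorem conj_expand (x t : R) :
    (1 + x) * t * (1 - x) = t + x * t - t * x - x * t * x := by
  noncomm_ring

theorem conj_expand' (x t : R) :
    (1 - x) * t * (1 + x) = t - x * t + t * x - x * t * x := by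
  noncomm_ring

theorem conj_one_add {x t : R} (hx : x * x = 0) :
    (1 + x) * (1 + t) * (1 - x) = 1 + (t + x * t - t * x - x * t * x) := by
  have hx' : ∀ a : R, x * (x * a) = 0 := fun a => by rw [← mul_assoc, hx, zero_mul]
  simp only [mul_add, add_mul, mul_sub, sub_mul, mul_one, one_mul, mul_assoc, hx, hx',
    mul_zero, zero_mul, add_zero, zero_add, sub_zero]
  abel

theorem conj_one_sub {x t : R} (hx : x * x = 0) :
    (1 + x) * (1 - t) * (1 - x) = 1 - (t + x * t - t * x - x * t * x) := by
  have hx' : ∀ a : R, x * (x * a) = 0 := fun a => by rw [← mul_assoc, hx, zero_mul]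
  simp only [mul_add, add_mul, mul_sub, sub_mul, mul_one, one_mul, mul_assoc, hx, hx',
    mul_zero, zero_mul, add_zero, zero_add, sub_zero]
  abel

theorem conj_one_add' {x t : R} (hx : x * x = 0) :
    (1 - x) * (1 + t) * (1 + x) = 1 + (t - x * t + t * x - x * t * x) := by
  have hx' : ∀ a : R, x * (x * a) = 0 := fun a => by rw [← mul_assoc, hx, zero_mul]
  simp only [mul_add, add_mul, mul_sub, sub_mul, mul_one, one_mul, mul_assoc, hx, hx',
    mul_zero, zero_mul, add_zero, zero_add, sub_zero]
  abel

theorem conj_one_sub' {x t : R} (hx : x * x = 0) :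
    (1 - x) * (1 - t) * (1 + x) = 1 - (t - x * t + t * x - x * t * x) := by
  have hx' : ∀ a : R, x * (x * a) = 0 := fun a => by rw [← mul_assoc, hx, zero_mul]
  simp only [mul_add, add_mul, mul_sub, sub_mul, mul_one, one_mul, mul_assoc, hx, hx',
    mul_zero, zero_mul, add_zero, zero_add, sub_zero]
  abel

/-- the anticommutator of `t` and its conjugate -/
theorem zz_conj {x t : R} (hx : x * x = 0) (ht : t * t = 0) :
    (t + x * t - t * x - x * t * x) * t + t * (t + x * t - t * x - x * t * x) =
      -((x * t + t * x) * (x * t + t * x)) := by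
  have hx' : ∀ a : R, x * (x * a) = 0 := fun a => by rw [← mul_assoc, hx, zero_mul]
  have ht' : ∀ a : R, t * (t * a) = 0 := fun a => by rw [← mul_assoc, ht, zero_mul]
  simp only [mul_add, add_mul, mul_sub, sub_mul, mul_one, one_mul, mul_assoc, hx, ht, hx', ht',
    mul_zero, zero_mul, add_zero, zero_add, sub_zero, neg_zero, mul_neg, neg_mul]
  abel

theorem t_conj_t {x t : R} (ht : t * t = 0) :
    t * (t + x * t - t * x - x * t * x) * t = -(t * x * t * x * t) := by
  have ht' : ∀ a : R, t * (t * a) = 0 := fun a => by rw [← mul_assoc, ht, zero_mul]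
  simp only [mul_add, add_mul, mul_sub, sub_mul, mul_one, one_mul, mul_assoc, ht, ht',
    mul_zero, zero_mul, add_zero, zero_add, sub_zero, neg_zero, mul_neg, neg_mul]
  abel

theorem lemmaA {x t : R} (hx : x * x = 0) (ht : t * t = 0)
    (h1 : x * t * x * t * x = 0) (h2 : t * x * t * x * t = 0) :
    (1 + (t + x * t - t * x - x * t * x)) * (1 + (t - x * t + t * x - x * t * x)) *
      (1 - (t + x * t - t * x - x * t * x)) * (1 - (t - x * t + t * x - x * t * x)) =
      1 - (t * x * t + t * x * t + t * x * t + t * x * t) := by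
  have hx' : ∀ a : R, x * (x * a) = 0 := fun a => by rw [← mul_assoc, hx, zero_mul]
  have ht' : ∀ a : R, t * (t * a) = 0 := fun a => by rw [← mul_assoc, ht, zero_mul]
  have h1a : x * (t * (x * (t * x))) = 0 := by rw [← h1]; simp only [mul_assoc]
  have h2a : t * (x * (t * (x * t))) = 0 := by rw [← h2]; simp only [mul_assoc]
  have h1' : ∀ a : R, x * (t * (x * (t * (x * a)))) = 0 := fun a => by
    have : x * (t * (x * (t * (x * a)))) = (x * (t * (x * (t * x)))) * a := by simp only [mul_assoc]
    rw [this, h1a, zero_mul]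
  have h2' : ∀ a : R, t * (x * (t * (x * (t * a)))) = 0 := fun a => by
    have : t * (x * (t * (x * (t * a)))) = (t * (x * (t * (x * t)))) * a := by simp only [mul_assoc]
    rw [this, h2a, zero_mul]
  simp only [mul_add, add_mul, mul_sub, sub_mul, mul_one, one_mul, mul_assoc, hx, ht, hx', ht',
    h1a, h2a, h1', h2', mul_zero, zero_mul, add_zero, zero_add, sub_zero, neg_zero, mul_neg, neg_mul]
  abel

end alg

variable {k : Type u} [Field k] {M : Type u} [AddCommGroup M] [Module k M]
variable {G : Subgroup (LinearMap.GeneralLinearGroup k M)}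

theorem val_eq_one_add (σ : LinearMap.GeneralLinearGroup k M) : σ.1 = 1 + (σ.1 - 1) := by
  rw [add_sub_cancel]

theorem inv_val_of_sq (σ : LinearMap.GeneralLinearGroup k M)
    (hs : (σ.1 - 1) * (σ.1 - 1) = 0) : (σ⁻¹).1 = 1 - (σ.1 - 1) := by
  have h1 : σ⁻¹ = sc (σ.1 - 1) hs (-1) := by
    rw [← sc_inv, sc_one_eq]
  rw [h1, sc_val, neg_smul, one_smul]
  exact (sub_eq_add_neg _ _).symm

section rank

variable [FiniteDimensional k M]

/-- a nilpotent map commuting with `t ≠ 0` lowers its rank -/
theorem rank_mul_lt {z t : Module.End k M} (hzt : z * t = t * z) {n : ℕ} (hz : z ^ n = 0)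
    (ht : t ≠ 0) :
    Module.finrank k (LinearMap.range (z * t)) < Module.finrank k (LinearMap.range t) := by
  by_contra hlt
  rw [not_lt] at hlt
  have e1 : LinearMap.range (z * t) = (LinearMap.range t).map z := by
    rw [Module.End.mul_eq_comp, LinearMap.range_comp]
  rw [e1] at hlt
  have hinj : ∀ w ∈ LinearMap.range t, z w = 0 → w = 0 :=
    fun w hw h0 => inj_on_of_finrank_le z _ hlt hw h0
  have hpres : ∀ w ∈ LinearMap.range t, z w ∈ LinearMap.range t := by
    rintro _ ⟨m, rfl⟩
    refine ⟨z m, ?_⟩
    have := congrArg (fun f : Module.End k M => f m) hzt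
    exact this.symm
  have hpow : ∀ j : ℕ, ∀ w ∈ LinearMap.range t, (z ^ j) w = 0 → w = 0 := by
    intro j
    induction j with
    | zero =>
      intro w _ h0
      simpa using h0
    | succ j ih =>
      intro w hw h0
      rw [pow_succ, Module.End.mul_apply] at h0
      exact hinj w hw (ih (z w) (hpres w hw) h0)
  apply ht
  apply LinearMap.ext
  intro m
  apply hpow n (t m) ⟨m, rfl⟩
  rw [hz, LinearMap.zero_apply]

end rank

end Cfsg.Agent.Lib.Helper8.Qr
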