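import Mathlib
import Cfsg.Agent.Lib.Helper8.Qr3

/-! The key lemma for unipotent pairs: if `z = st + ts` is nilpotent then `tst = 0`. -/

set_option autoImplicit false
set_option linter.unusedSectionVars false
set_option linter.unusedSimpArgs false

namespace Cfsg.Agent.Lib.Helper8.Qr

open Cfsg Cfsg.Agent.Lib.Helper8.Qp

universe u

variable {k : Type u} [Field k] {M : Type u} [AddCommGroup M] [Module k M]
variable {G : Subgroup (LinearMap.GeneralLinearGroup k M)}

/-- the exact element `1 - 4c tst` -/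
theorem exists_tst {σ τ : LinearMap.GeneralLinearGroup k M}
    (hσ : σ ∈ quadraticElements G) (hτ : τ ∈ quadraticElements G)
    (h1 : (σ.1 - 1) * (τ.1 - 1) * (σ.1 - 1) * (τ.1 - 1) * (σ.1 - 1) = 0)
    (h2 : (τ.1 - 1) * (σ.1 - 1) * (τ.1 - 1) * (σ.1 - 1) * (τ.1 - 1) = 0) (c : k) :
    ∃ g ∈ G, g.1 = 1 - (4 * c) • ((τ.1 - 1) * (σ.1 - 1) * (τ.1 - 1)) := by
  have hs := hσ.2.1.1
  have ht := hτ.2.1.1
  set s := σ.1 - 1 with hsdef
  set t := τ.1 - 1 with htdef
  have hσc : sc s hs c ∈ G := sc_mem_G hσ c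
  have hx : (c • s) * (c • s) = 0 := by rw [smul_mul_smul_comm, hs, smul_zero]
  have e1 : (sc s hs c).1 = 1 + c • s := sc_val s hs c
  have e2 : ((sc s hs c)⁻¹).1 = 1 - c • s := by
    rw [sc_inv, sc_val, neg_smul]
    exact (sub_eq_add_neg _ _).symm
  have e3 : τ.1 = 1 + t := val_eq_one_add τ
  have e4 : (τ⁻¹).1 = 1 - t := inv_val_of_sq τ ht
  refine ⟨(sc s hs c * τ * (sc s hs c)⁻¹) * ((sc s hs c)⁻¹ * τ * sc s hs c) *
    (sc s hs c * τ⁻¹ * (sc s hs c)⁻¹) * ((sc s hs c)⁻¹ * τ⁻¹ * sc s hs c), ?_, ?_⟩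
  · exact G.mul_mem (G.mul_mem (G.mul_mem
      (G.mul_mem (G.mul_mem hσc hτ.1) (G.inv_mem hσc))
      (G.mul_mem (G.mul_mem (G.inv_mem hσc) hτ.1) hσc))
      (G.mul_mem (G.mul_mem hσc (G.inv_mem hτ.1)) (G.inv_mem hσc)))
      (G.mul_mem (G.mul_mem (G.inv_mem hσc) (G.inv_mem hτ.1)) hσc)
  · simp only [Units.val_mul]
    rw [e1, e2, e3, e4, conj_one_add hx, conj_one_add' hx, conj_one_sub hx, conj_one_sub' hx]
    have h1' : (c • s) * t * (c • s) * t * (c • s) = 0 := by
      have : (c • s) * t * (c • s) * t * (c • s) = (c * c * c) • (s * t * s * t * s) := by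
        simp only [smul_mul_assoc, mul_smul_comm, smul_smul]
        congr 1
        ring
      rw [this, h1, smul_zero]
    have h2' : t * (c • s) * t * (c • s) * t = 0 := by
      have : t * (c • s) * t * (c • s) * t = (c * c) • (t * s * t * s * t) := by
        simp only [smul_mul_assoc, mul_smul_comm, smul_smul]
      rw [this, h2, smul_zero]
    rw [lemmaA hx ht h1' h2']
    congr 1
    have : t * (c • s) * t = c • (t * s * t) := by
      simp only [smul_mul_assoc, mul_smul_comm]
    rw [this, ← add_smul, ← add_smul, ← add_smul]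
    congr 1
    ring

variable [FiniteDimensional k M]

/-- Key lemma: for `σ, τ ∈ 𝒬_d` with `st + ts` nilpotent, `tst = 0`. -/
theorem key_U (h2 : (2 : k) ≠ 0) (n : ℕ) :
    ∀ σ τ : LinearMap.GeneralLinearGroup k M, σ ∈ minimalQuadraticElements G →
      τ ∈ minimalQuadraticElements G → (zz (σ.1 - 1) (τ.1 - 1)) ^ n = 0 →
      (τ.1 - 1) * (σ.1 - 1) * (τ.1 - 1) = 0 := by
  induction n using Nat.strong_induction_on with
  | _ n ih =>
    intro σ τ hσ hτ hz
    have hs := hσ.1.2.1.1
    have ht := hτ.1.2.1.1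
    set s := σ.1 - 1 with hsdef
    set t := τ.1 - 1 with htdef
    have eσ : σ.1 = 1 + s := by rw [hsdef]; exact val_eq_one_add σ
    have eσi : (σ⁻¹).1 = 1 - s := inv_val_of_sq σ hs
    have eτ : τ.1 = 1 + t := by rw [htdef]; exact val_eq_one_add τ
    have eτi : (τ⁻¹).1 = 1 - t := inv_val_of_sq τ ht
    by_cases hn : n ≤ 1
    · have hz1 : zz s t = 0 := by
        have := pow_eq_zero_of_le hn hz
        rwa [pow_one] at this
      rw [tst_eq ht, hz1, zero_mul]
    · rw [not_le] at hn
      have hm : (n + 1) / 2 < n := by omega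
      have hm2 : n ≤ 2 * ((n + 1) / 2) := by omega
      -- the pair (ρ, τ) with ρ = σ τ σ⁻¹
      have hρ : σ * τ * σ⁻¹ ∈ minimalQuadraticElements G := conj_mem_Qd hσ.1.1 hτ
      have er : (σ * τ * σ⁻¹ : LinearMap.GeneralLinearGroup k M).1 - 1 =
          t + s * t - t * s - s * t * s := by
        rw [conj_sub_one, ← htdef, eσi, eσ, conj_expand]
      have ez : zz ((σ * τ * σ⁻¹ : LinearMap.GeneralLinearGroup k M).1 - 1) t =
          -(zz s t * zz s t) := by
        rw [er]
        unfold zz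
        exact zz_conj hs ht
      have hz' : (zz ((σ * τ * σ⁻¹ : LinearMap.GeneralLinearGroup k M).1 - 1) t) ^ ((n + 1) / 2)
          = 0 := by
        rw [ez, neg_pow, ← pow_two, ← pow_mul, pow_eq_zero_of_le hm2 hz, mul_zero]
      have k1 := ih _ hm (σ * τ * σ⁻¹) τ hρ hτ hz'
      rw [er, ← htdef, t_conj_t ht, neg_eq_zero] at k1
      -- the pair (ρ', σ) with ρ' = τ σ τ⁻¹
      have hρ' : τ * σ * τ⁻¹ ∈ minimalQuadraticElements G := conj_mem_Qd hτ.1.1 hσ
      have er' : (τ * σ * τ⁻¹ : LinearMap.GeneralLinearGroup k M).1 - 1 =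
          s + t * s - s * t - t * s * t := by
        rw [conj_sub_one, ← hsdef, eτi, eτ, conj_expand]
      have ez' : zz ((τ * σ * τ⁻¹ : LinearMap.GeneralLinearGroup k M).1 - 1) s =
          -(zz s t * zz s t) := by
        rw [er']
        unfold zz
        rw [zz_conj ht hs, add_comm (t * s) (s * t)]
      have hz'' : (zz ((τ * σ * τ⁻¹ : LinearMap.GeneralLinearGroup k M).1 - 1) s) ^ ((n + 1) / 2)
          = 0 := by
        rw [ez', neg_pow, ← pow_two, ← pow_mul, pow_eq_zero_of_le hm2 hz, mul_zero]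
      have k2 := ih _ hm (τ * σ * τ⁻¹) σ hρ' hσ hz''
      rw [er', ← hsdef, t_conj_t hs, neg_eq_zero] at k2
      -- the exact elements
      by_contra hw
      obtain ⟨g, hgG, hg⟩ := exists_tst hσ.1 hτ.1 k2 k1 1
      rw [← hsdef, ← htdef, mul_one] at hg
      have h4 : (4 : k) ≠ 0 := by
        have : (4 : k) = 2 * 2 := by norm_num
        rw [this]
        exact mul_ne_zero h2 h2
      have hg1 : g.1 - 1 = (-4 : k) • (t * s * t) := by
        rw [hg, sub_sub_cancel_left, neg_smul]
      have hww : (t * s * t) * (t * s * t) = 0 := by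
        have : (t * s * t) * (t * s * t) = t * s * (t * t) * s * t := by noncomm_ring
        rw [this, ht, mul_zero, zero_mul, zero_mul]
      have hgQ : g ∈ quadraticElements G := by
        apply mem_Q_of hgG
        · rw [hg1, smul_mul_smul_comm, hww, smul_zero]
        · rw [hg1]
          intro h0
          rcases smul_eq_zero.mp h0 with h | h
          · exact h4 (neg_eq_zero.mp h)
          · exact hw h
        · intro c
          obtain ⟨g', hg'G, hg'⟩ := exists_tst hσ.1 hτ.1 k2 k1 c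
          refine ⟨g', hg'G, ?_⟩
          rw [hg', hg1, ← hsdef, ← htdef, smul_smul, sub_eq_add_neg, ← neg_smul]
          congr 2
          ring
      have hrk := hτ.2 g hgQ
      unfold commutatorRank at hrk
      rw [← htdef, hg1] at hrk
      have hrange : LinearMap.range ((-4 : k) • (t * s * t)) ≤ LinearMap.range (zz s t * t) := by
        rintro _ ⟨m, rfl⟩
        refine ⟨(-4 : k) • m, ?_⟩
        rw [map_smul, LinearMap.smul_apply, tst_eq ht]
      have hlt := rank_mul_lt (zz_t ht) hz hτ.1.2.1.2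
      have := Submodule.finrank_mono hrange
      omega

end Cfsg.Agent.Lib.Helper8.Qr
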