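import Mathlib
import Cfsg.Agent.Lib.Helper8.Qr4

/-! Analysis of a pair of square-zero endomorphisms under the minimality hypothesis. -/

set_option autoImplicit false
set_option linter.unusedSectionVars false
set_option linter.unusedSimpArgs false

namespace Cfsg.Agent.Lib.Helper8.Qr

open Cfsg Cfsg.Agent.Lib.Helper8.Qp

universe u

variable {k : Type u} [Field k] {M : Type u} [AddCommGroup M] [Module k M]
variable [FiniteDimensional k M] {s t : Module.End k M} (hs : s * s = 0) (ht : t * t = 0) (n : ℕ)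
variable (hn : 1 ≤ n) (hc : IsCompl (M0 (zz s t) n) (M1 (zz s t) n))
variable (h2 : (2 : k) ≠ 0) (h3 : Nat.card k ≠ 3)

include hn hc h2 h3 in
theorem range_s_le_M1 (hmin : MinRank (HH hs ht) s) (hV : M1 (zz s t) n ≠ ⊥) :
    LinearMap.range s ≤ M1 (zz s t) n := by
  rintro _ ⟨m, rfl⟩
  obtain ⟨m₀, hm₀, m₁, hm₁, rfl⟩ := exists_decomp n hc m
  rw [map_add, s_M0_eq_zero hs ht n hn hc h2 h3 hmin hV m₀ hm₀, zero_add]
  exact map_M1 (zz_s hs) n hm₁

include hn hc h2 h3 in
theorem range_t_le_M1 (hmin : MinRank (HH hs ht) t) (hV : M1 (zz s t) n ≠ ⊥) :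
    LinearMap.range t ≤ M1 (zz s t) n := by
  rintro _ ⟨m, rfl⟩
  obtain ⟨m₀, hm₀, m₁, hm₁, rfl⟩ := exists_decomp n hc m
  rw [map_add, t_M0_eq_zero hs ht n hn hc h2 h3 hmin hV m₀ hm₀, zero_add]
  exact map_M1 (zz_t ht) n hm₁

include hn hc h2 h3 in
theorem M0_eq (hmin_s : MinRank (HH hs ht) s) (hmin_t : MinRank (HH hs ht) t)
    (hV : M1 (zz s t) n ≠ ⊥) : M0 (zz s t) n = LinearMap.ker s ⊓ LinearMap.ker t := by
  apply le_antisymm
  · intro m hm
    exact ⟨s_M0_eq_zero hs ht n hn hc h2 h3 hmin_s hV m hm,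
      t_M0_eq_zero hs ht n hn hc h2 h3 hmin_t hV m hm⟩
  · rintro m ⟨h1, h2'⟩
    have h1' : s m = 0 := h1
    have h2'' : t m = 0 := h2'
    show m ∈ LinearMap.ker ((zz s t) ^ n)
    rw [LinearMap.mem_ker]
    obtain ⟨j, rfl⟩ : ∃ j, n = j + 1 := ⟨n - 1, by omega⟩
    have hz : zz s t m = 0 := by
      unfold zz
      rw [LinearMap.add_apply, Module.End.mul_apply, Module.End.mul_apply, h1', h2'', map_zero,
        map_zero, add_zero]
    rw [pow_succ, Module.End.mul_apply, hz, map_zero]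

include hn hc h2 h3 in
theorem M1_eq (hmin_s : MinRank (HH hs ht) s) (hmin_t : MinRank (HH hs ht) t)
    (hV : M1 (zz s t) n ≠ ⊥) : M1 (zz s t) n = LinearMap.range s ⊔ LinearMap.range t := by
  apply le_antisymm
  · rintro _ ⟨m, rfl⟩
    obtain ⟨j, rfl⟩ : ∃ j, n = j + 1 := ⟨n - 1, by omega⟩
    rw [pow_succ', Module.End.mul_apply]
    unfold zz
    rw [LinearMap.add_apply, Module.End.mul_apply, Module.End.mul_apply]
    exact Submodule.add_mem_sup ⟨_, rfl⟩ ⟨_, rfl⟩
  · exact sup_le (range_s_le_M1 hs ht n hn hc h2 h3 hmin_s hV)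
      (range_t_le_M1 hs ht n hn hc h2 h3 hmin_t hV)

include hn hc h2 h3 in
theorem range_s_inf_ker_t (hmin_s : MinRank (HH hs ht) s) (hV : M1 (zz s t) n ≠ ⊥) :
    LinearMap.range s ⊓ LinearMap.ker t = ⊥ := by
  rw [eq_bot_iff]
  rintro v ⟨hv1, hv2⟩
  have hv2' : t v = 0 := hv2
  have hsv : s v = 0 := range_le_ker_of_sq hs hv1
  rw [Submodule.mem_bot]
  apply inj_on_M1 hn hc (range_s_le_M1 hs ht n hn hc h2 h3 hmin_s hV hv1)
  unfold zz
  rw [LinearMap.add_apply, Module.End.mul_apply, Module.End.mul_apply, hv2', hsv, map_zero,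
    map_zero, add_zero]

include hn hc h2 h3 in
theorem range_t_inf_ker_s (hmin_t : MinRank (HH hs ht) t) (hV : M1 (zz s t) n ≠ ⊥) :
    LinearMap.range t ⊓ LinearMap.ker s = ⊥ := by
  rw [eq_bot_iff]
  rintro v ⟨hv1, hv2⟩
  have hv2' : s v = 0 := hv2
  have htv : t v = 0 := range_le_ker_of_sq ht hv1
  rw [Submodule.mem_bot]
  apply inj_on_M1 hn hc (range_t_le_M1 hs ht n hn hc h2 h3 hmin_t hV hv1)
  unfold zz
  rw [LinearMap.add_apply, Module.End.mul_apply, Module.End.mul_apply, hv2', htv, map_zero,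
    map_zero, add_zero]

include hs ht hc in
/-- opposite pairs are not unipotent -/
theorem M1_ne_bot_of_opp (h1 : LinearMap.range s ⊓ LinearMap.ker t = ⊥)
    (h2' : LinearMap.range t ⊓ LinearMap.ker s = ⊥) (hs0 : s ≠ 0) : M1 (zz s t) n ≠ ⊥ := by
  intro hV
  have h0 : M0 (zz s t) n = ⊤ := by
    have := hc.sup_eq_top
    rw [hV, sup_bot_eq] at this
    exact this
  have hzn : (zz s t) ^ n = 0 := by
    apply LinearMap.ext
    intro m
    have : m ∈ M0 (zz s t) n := by rw [h0]; exact Submodule.mem_top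
    exact this
  have hinj : ∀ v ∈ LinearMap.range s, zz s t v = 0 → v = 0 := by
    intro v hv hz
    have hsv : s v = 0 := range_le_ker_of_sq hs hv
    unfold zz at hz
    rw [LinearMap.add_apply, Module.End.mul_apply, Module.End.mul_apply, hsv, map_zero,
      add_zero] at hz
    have h3' : t v ∈ LinearMap.range t ⊓ LinearMap.ker s := ⟨⟨v, rfl⟩, hz⟩
    rw [h2', Submodule.mem_bot] at h3'
    have h4 : v ∈ LinearMap.range s ⊓ LinearMap.ker t := ⟨hv, h3'⟩
    rw [h1, Submodule.mem_bot] at h4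
    exact h4
  have hpres : ∀ v ∈ LinearMap.range s, zz s t v ∈ LinearMap.range s := by
    rintro _ ⟨m, rfl⟩
    refine ⟨zz s t m, ?_⟩
    have := congrArg (fun f : Module.End k M => f m) (zz_s (t := t) hs)
    exact this.symm
  have hpow : ∀ j : ℕ, ∀ w ∈ LinearMap.range s, ((zz s t) ^ j) w = 0 → w = 0 := by
    intro j
    induction j with
    | zero =>
      intro w _ h0
      simpa using h0
    | succ j ih =>
      intro w hw h0
      rw [pow_succ, Module.End.mul_apply] at h0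
      exact hinj w hw (ih (zz s t w) (hpres w hw) h0)
  apply hs0
  apply LinearMap.ext
  intro m
  apply hpow n (s m) ⟨m, rfl⟩
  rw [hzn, LinearMap.zero_apply]

include hc in
theorem pow_eq_zero_of_M1_eq_bot (hV : M1 (zz s t) n = ⊥) : (zz s t) ^ n = 0 := by
  have h0 : M0 (zz s t) n = ⊤ := by
    have := hc.sup_eq_top
    rw [hV, sup_bot_eq] at this
    exact this
  apply LinearMap.ext
  intro m
  have : m ∈ M0 (zz s t) n := by rw [h0]; exact Submodule.mem_top
  exact this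

end Cfsg.Agent.Lib.Helper8.Qr
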