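import Mathlib
import Cfsg.Agent.Lib.Helper8.Qr5

/-! Pairs of elements of `𝒬_d`: the dichotomy. -/

set_option autoImplicit false
set_option linter.unusedSectionVars false
set_option linter.unusedSimpArgs false

namespace Cfsg.Agent.Lib.Helper8.Qr

open Cfsg Cfsg.Agent.Lib.Helper8.Qp

universe u

variable {k : Type u} [Field k] {M : Type u} [AddCommGroup M] [Module k M]
variable {G : Subgroup (LinearMap.GeneralLinearGroup k M)}

theorem scalarFamily_eq_range (ρ : LinearMap.GeneralLinearGroup k M)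
    (hr : (ρ.1 - 1) * (ρ.1 - 1) = 0) : scalarFamily ρ = Set.range (sc (ρ.1 - 1) hr) := by
  ext g
  constructor
  · rintro ⟨c, hc⟩
    exact ⟨c, Units.ext hc.symm⟩
  · rintro ⟨c, rfl⟩
    exact ⟨c, rfl⟩

theorem HH_le_G {a b : LinearMap.GeneralLinearGroup k M} (ha : a ∈ quadraticElements G)
    (hb : b ∈ quadraticElements G) : HH ha.2.1.1 hb.2.1.1 ≤ G := by
  unfold HH
  rw [Subgroup.closure_le]
  rintro g (⟨c, rfl⟩ | ⟨c, rfl⟩)
  · exact sc_mem_G ha c
  · exact sc_mem_G hb c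

theorem minRank_of_Qd {a b ρ : LinearMap.GeneralLinearGroup k M} (ha : a ∈ quadraticElements G)
    (hb : b ∈ quadraticElements G) (hρ : ρ ∈ minimalQuadraticElements G) :
    MinRank (HH ha.2.1.1 hb.2.1.1) (ρ.1 - 1) := by
  intro h hh hq hne hsc
  have hle := HH_le_G ha hb
  have hmem : h ∈ quadraticElements G := by
    apply mem_Q_of (hle hh) hq hne
    intro c
    obtain ⟨h', hh', e⟩ := hsc c
    exact ⟨h', hle hh', e⟩
  exact hρ.2 h hmem

variable [FiniteDimensional k M]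

/-- the opposite relation between two members of `𝒬_d` -/
def Opp (σ τ : LinearMap.GeneralLinearGroup k M) : Prop :=
  LinearMap.range (σ.1 - 1) ⊓ LinearMap.ker (τ.1 - 1) = ⊥ ∧
    LinearMap.range (τ.1 - 1) ⊓ LinearMap.ker (σ.1 - 1) = ⊥

theorem Opp.symm {σ τ : LinearMap.GeneralLinearGroup k M} (h : Opp σ τ) : Opp τ σ := ⟨h.2, h.1⟩

theorem opp_congr {σ τ a b : LinearMap.GeneralLinearGroup k M} (ha : a ∈ sameActionClass G σ)
    (hb : b ∈ sameActionClass G τ) : Opp a b ↔ Opp σ τ := by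
  unfold Opp
  rw [ha.2.1, ha.2.2, hb.2.1, hb.2.2]

/-- non-opposite pairs: the triple products vanish -/
theorem triple_eq_zero_of_not_opp (h2 : (2 : k) ≠ 0) (h3 : Nat.card k ≠ 3)
    {a b : LinearMap.GeneralLinearGroup k M} (ha : a ∈ minimalQuadraticElements G)
    (hb : b ∈ minimalQuadraticElements G) (hopp : ¬ Opp a b) :
    (b.1 - 1) * (a.1 - 1) * (b.1 - 1) = 0 ∧ (a.1 - 1) * (b.1 - 1) * (a.1 - 1) = 0 := by
  have hs := ha.1.2.1.1
  have ht := hb.1.2.1.1
  obtain ⟨n, hn, hc⟩ := exists_fitting (zz (a.1 - 1) (b.1 - 1))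
  have hc' : IsCompl (M0 (zz (a.1 - 1) (b.1 - 1)) n) (M1 (zz (a.1 - 1) (b.1 - 1)) n) := hc
  have hms := minRank_of_Qd ha.1 hb.1 ha
  have hmt := minRank_of_Qd ha.1 hb.1 hb
  have hV : M1 (zz (a.1 - 1) (b.1 - 1)) n = ⊥ := by
    by_contra hV
    apply hopp
    exact ⟨range_s_inf_ker_t hs ht n hn hc' h2 h3 hms hV,
      range_t_inf_ker_s hs ht n hn hc' h2 h3 hmt hV⟩
  have hz := pow_eq_zero_of_M1_eq_bot n hc' hV
  have hz' : (zz (b.1 - 1) (a.1 - 1)) ^ n = 0 := by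
    have : zz (b.1 - 1) (a.1 - 1) = zz (a.1 - 1) (b.1 - 1) := by
      unfold zz; rw [add_comm]
    rw [this]; exact hz
  exact ⟨key_U h2 n a b ha hb hz, key_U h2 n b a hb ha hz'⟩

end Cfsg.Agent.Lib.Helper8.Qr
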