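import Mathlib
import Cfsg.Agent.Lib.Helper8.Qr6

/-! Non-opposite pairs generate a unipotent group. -/

set_option autoImplicit false
set_option linter.unusedSectionVars false
set_option linter.unusedSimpArgs false

namespace Cfsg.Agent.Lib.Helper8.Qr

open Cfsg Cfsg.Agent.Lib.Helper8.Qp

universe u

variable {k : Type u} [Field k] {M : Type u} [AddCommGroup M] [Module k M]
variable {G : Subgroup (LinearMap.GeneralLinearGroup k M)}

/-- the flag used in the unipotent case -/
def uchain (A B C D : Submodule k M) : ℕ → Submodule k M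
  | 0 => ⊤
  | 1 => A ⊔ B
  | 2 => (A ⊓ D) ⊔ (B ⊓ C)
  | _ => ⊥

theorem uchain_antitone (A B C D : Submodule k M) : Antitone (uchain A B C D) := by
  apply antitone_nat_of_succ_le
  intro j
  match j with
  | 0 => exact le_top
  | 1 => exact sup_le (le_trans inf_le_left le_sup_left) (le_trans inf_le_left le_sup_right)
  | 2 => exact bot_le
  | (j + 3) => exact bot_le

theorem uchain_step_left {A B C D : Submodule k M} (hAC : A ≤ C) {x t₀ : M →ₗ[k] M}
    (hx : InE A C x) (hB : LinearMap.range t₀ = B) (hD : LinearMap.ker t₀ = D)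
    (h0 : t₀ * x * t₀ = 0) : ∀ j : ℕ, ∀ m ∈ uchain A B C D j, x m ∈ uchain A B C D (j + 1) := by
  intro j
  match j with
  | 0 =>
    intro m _
    exact Submodule.mem_sup_left (hx.1 ⟨m, rfl⟩)
  | 1 =>
    intro m hm
    obtain ⟨α, hα, β, hβ, rfl⟩ := Submodule.mem_sup.mp hm
    have h1 : x α = 0 := hx.2 (hAC hα)
    rw [map_add, h1, zero_add]
    apply Submodule.mem_sup_left
    refine ⟨hx.1 ⟨β, rfl⟩, ?_⟩
    rw [← hB] at hβ
    obtain ⟨m', rfl⟩ := hβ
    rw [← hD]
    show t₀ (x (t₀ m')) = 0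
    have := congrArg (fun f : M →ₗ[k] M => f m') h0
    exact this
  | 2 =>
    intro m hm
    obtain ⟨p, hp, q, hq, rfl⟩ := Submodule.mem_sup.mp hm
    have h1 : x p = 0 := hx.2 (hAC hp.1)
    have h2 : x q = 0 := hx.2 hq.2
    rw [map_add, h1, h2, add_zero]
    exact Submodule.zero_mem _
  | (j + 3) =>
    intro m hm
    have hm' : m = 0 := by
      have : m ∈ (⊥ : Submodule k M) := hm
      exact (Submodule.mem_bot k).mp this
    rw [hm', map_zero]
    exact Submodule.zero_mem _

theorem uchain_step_right {A B C D : Submodule k M} (hBD : B ≤ D) {y s₀ : M →ₗ[k] M}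
    (hy : InE B D y) (hA : LinearMap.range s₀ = A) (hC : LinearMap.ker s₀ = C)
    (h0 : s₀ * y * s₀ = 0) : ∀ j : ℕ, ∀ m ∈ uchain A B C D j, y m ∈ uchain A B C D (j + 1) := by
  intro j
  match j with
  | 0 =>
    intro m _
    exact Submodule.mem_sup_right (hy.1 ⟨m, rfl⟩)
  | 1 =>
    intro m hm
    obtain ⟨α, hα, β, hβ, rfl⟩ := Submodule.mem_sup.mp hm
    have h1 : y β = 0 := hy.2 (hBD hβ)
    rw [map_add, h1, add_zero]
    apply Submodule.mem_sup_right
    refine ⟨hy.1 ⟨α, rfl⟩, ?_⟩
    rw [← hA] at hα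
    obtain ⟨m', rfl⟩ := hα
    rw [← hC]
    show s₀ (y (s₀ m')) = 0
    have := congrArg (fun f : M →ₗ[k] M => f m') h0
    exact this
  | 2 =>
    intro m hm
    obtain ⟨p, hp, q, hq, rfl⟩ := Submodule.mem_sup.mp hm
    have h1 : y p = 0 := hy.2 hp.2
    have h2 : y q = 0 := hy.2 (hBD hq.1)
    rw [map_add, h1, h2, add_zero]
    exact Submodule.zero_mem _
  | (j + 3) =>
    intro m hm
    have hm' : m = 0 := by
      have : m ∈ (⊥ : Submodule k M) := hm
      exact (Submodule.mem_bot k).mp this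
    rw [hm', map_zero]
    exact Submodule.zero_mem _

variable [FiniteDimensional k M]

theorem unip_of_not_opp (h2 : (2 : k) ≠ 0) (h3 : Nat.card k ≠ 3)
    {σ τ : LinearMap.GeneralLinearGroup k M} (hσ : σ ∈ minimalQuadraticElements G)
    (hτ : τ ∈ minimalQuadraticElements G) (hopp : ¬ Opp σ τ) :
    IsUnipotentOn (sameActionSubgroup G σ ⊔ sameActionSubgroup G τ) := by
  have hAC := range_le_ker_of_sq hσ.1.2.1.1
  have hBD := range_le_ker_of_sq hτ.1.2.1.1
  -- triple products
  have hL : ∀ a ∈ sameActionSubgroup G σ, (τ.1 - 1) * (a.1 - 1) * (τ.1 - 1) = 0 := by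
    intro a ha
    rcases mem_sameActionSubgroup hσ ha with rfl | ha'
    · rw [Units.val_one, sub_self, mul_zero, zero_mul]
    · have hno : ¬ Opp a τ := fun h =>
        hopp ((opp_congr ha' (self_mem_sameActionClass hτ)).mp h)
      exact (triple_eq_zero_of_not_opp h2 h3 ha'.1 hτ hno).1
  have hR : ∀ b ∈ sameActionSubgroup G τ, (σ.1 - 1) * (b.1 - 1) * (σ.1 - 1) = 0 := by
    intro b hb
    rcases mem_sameActionSubgroup hτ hb with rfl | hb'
    · rw [Units.val_one, sub_self, mul_zero, zero_mul]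
    · have hno : ¬ Opp σ b := fun h =>
        hopp ((opp_congr (self_mem_sameActionClass hσ) hb').mp h)
      exact (triple_eq_zero_of_not_opp h2 h3 hσ hb'.1 hno).2
  set A := LinearMap.range (σ.1 - 1) with hA
  set C := LinearMap.ker (σ.1 - 1) with hC
  set B := LinearMap.range (τ.1 - 1) with hB
  set D := LinearMap.ker (τ.1 - 1) with hD
  have hle : sameActionSubgroup G σ ⊔ sameActionSubgroup G τ ≤
      cfilt (uchain A B C D) (uchain_antitone A B C D) 1 := by
    apply sup_le
    · intro a ha j m hm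
      exact ⟨uchain_step_left hAC (inE_of_mem_sameActionSubgroup hσ ha) hB.symm hD.symm
          (hL a ha) j m hm,
        uchain_step_left hAC (inE_of_mem_sameActionSubgroup hσ (Subgroup.inv_mem _ ha)) hB.symm
          hD.symm (hL a⁻¹ (Subgroup.inv_mem _ ha)) j m hm⟩
    · intro b hb j m hm
      exact ⟨uchain_step_right hBD (inE_of_mem_sameActionSubgroup hτ hb) hA.symm hC.symm
          (hR b hb) j m hm,
        uchain_step_right hBD (inE_of_mem_sameActionSubgroup hτ (Subgroup.inv_mem _ hb)) hA.symm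
          hC.symm (hR b⁻¹ (Subgroup.inv_mem _ hb)) j m hm⟩
  refine ⟨3, fun l hl hlen => ?_⟩
  simp only [bind_pure_comp, List.map_eq_map, List.map_map]
  apply LinearMap.ext
  intro m
  have := prod_mem_of_cfilt (hD := uchain_antitone A B C D) l (fun g hg => hle (hl g hg)) 0 m
    Submodule.mem_top
  rw [hlen] at this
  have h0 : (List.map (fun g : (Module.End k M)ˣ => (g.1 - 1 : Module.End k M)) l).prod m = 0 :=
    (Submodule.mem_bot k).mp this
  rw [LinearMap.zero_apply]
  exact h0

end Cfsg.Agent.Lib.Helper8.Qr
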