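import Mathlib
import Cfsg.Agent.Lib.Helper8.Qr7

/-! Opposite pairs: the partner of `s` among the pure elements. -/

set_option autoImplicit false
set_option linter.unusedSectionVars false
set_option linter.unusedSimpArgs false

namespace Cfsg.Agent.Lib.Helper8.Qr

open Cfsg Cfsg.Agent.Lib.Helper8.Qp

universe u

variable {k : Type u} [Field k] {M : Type u} [AddCommGroup M] [Module k M]
variable [FiniteDimensional k M] {s t : Module.End k M} (hs : s * s = 0) (ht : t * t = 0) (n : ℕ)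
variable (hn : 1 ≤ n) (hc : IsCompl (M0 (zz s t) n) (M1 (zz s t) n))
variable (h2 : (2 : k) ≠ 0) (h3 : Nat.card k ≠ 3)

include hn hc h2 h3 in
theorem exists_partner (hmin_t : MinRank (HH hs ht) t) (hV : M1 (zz s t) n ≠ ⊥) :
    ∃ h ∈ HH hs ht, (h.1 - 1) * (h.1 - 1) = 0 ∧ h.1 - 1 ≠ 0 ∧
      (∀ c : k, ∃ h' ∈ HH hs ht, h'.1 = 1 + c • (h.1 - 1)) ∧
      LinearMap.range (h.1 - 1) ≤ LinearMap.range t ∧
      LinearMap.ker t ≤ LinearMap.ker (h.1 - 1) ∧
      ∀ v ∈ M1 (zz s t) n, zz s (h.1 - 1) v = v := by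
  have F := frame1 hs ht n hn hc
  have hnt : Nontrivial (M1 (zz s t) n) := Submodule.nontrivial_iff_ne_bot.mpr hV
  set r := betaR (Z1 hs ht n) with hr
  obtain ⟨h, hH, h0, h1⟩ := pure_y hs ht n hn hc h2 h3 r
  have hp : IsPure n (theta (Z1 hs ht n) r * t1 s ht n) h := ⟨h0, h1⟩
  have P1 : s1 hs t n * (theta (Z1 hs ht n) r * t1 s ht n) +
      (theta (Z1 hs ht n) r * t1 s ht n) * s1 hs t n = 1 := F.ee_add_ff
  have huu : (theta (Z1 hs ht n) r * t1 s ht n) * (theta (Z1 hs ht n) r * t1 s ht n) = 0 := by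
    rw [mul_assoc, ← mul_assoc (t1 s ht n), ← F.ct, mul_assoc, F.tt, mul_zero, mul_zero]
  have hu0 : theta (Z1 hs ht n) r * t1 s ht n ≠ 0 := by
    intro h0'
    rw [h0', mul_zero, zero_mul, add_zero] at P1
    exact zero_ne_one P1
  have e1 : ∀ v : M1 (zz s t) n, (h.1 - 1) (v : M) =
      (((theta (Z1 hs ht n) r * t1 s ht n) v : M1 (zz s t) n) : M) := by
    intro v
    rw [LinearMap.sub_apply, Module.End.one_apply, h1 v, add_sub_cancel_left]
  have e0 : ∀ m ∈ M0 (zz s t) n, (h.1 - 1) m = 0 := by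
    intro m hm
    rw [LinearMap.sub_apply, Module.End.one_apply, h0 m hm, sub_self]
  refine ⟨h, hH, hp.sq_zero hc huu, hp.ne_one hu0, ?_, ?_, ?_, ?_⟩
  · intro c
    obtain ⟨h', hH', h0', h1'⟩ := pure_y hs ht n hn hc h2 h3 (c • r)
    refine ⟨h', hH', ?_⟩
    have hp' : IsPure n (c • (theta (Z1 hs ht n) r * t1 s ht n)) h' := by
      refine ⟨h0', ?_⟩
      intro v
      rw [h1' v, map_smul, smul_mul_assoc]
    exact hp.smul_eq hc c hp'
  · rw [hp.range_eq hc]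
    rintro _ ⟨_, ⟨v, rfl⟩, rfl⟩
    rw [F.ct r]
    exact ⟨((theta (Z1 hs ht n) r v : M1 (zz s t) n) : M), rfl⟩
  · intro v hv
    have hv' : t v = 0 := hv
    obtain ⟨m₀, hm₀, m₁, hm₁, rfl⟩ := exists_decomp n hc v
    rw [map_add, t_M0_eq_zero hs ht n hn hc h2 h3 hmin_t hV m₀ hm₀, zero_add] at hv'
    rw [LinearMap.mem_ker, map_add, e0 m₀ hm₀, zero_add]
    have := e1 ⟨m₁, hm₁⟩
    simp only at this
    rw [this, Module.End.mul_apply]
    have ht1 : t1 s ht n ⟨m₁, hm₁⟩ = 0 := Subtype.ext hv'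
    rw [ht1, map_zero]
    rfl
  · intro v hv
    have hsv : s v ∈ M1 (zz s t) n := map_M1 (zz_s hs) n hv
    unfold zz
    rw [LinearMap.add_apply, Module.End.mul_apply, Module.End.mul_apply]
    have a1 := e1 ⟨v, hv⟩
    have a2 := e1 ⟨s v, hsv⟩
    simp only at a1 a2
    rw [a1, a2]
    have P1v := congrArg (fun f : Module.End k (M1 (zz s t) n) => ((f ⟨v, hv⟩ : M1 (zz s t) n) : M)) P1
    simp only [LinearMap.add_apply, Module.End.mul_apply, Module.End.one_apply,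
      Submodule.coe_add] at P1v
    exact P1v

end Cfsg.Agent.Lib.Helper8.Qr
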