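import Mathlib
import Cfsg.Agent.Lib.Helper8.Qr8

/-! Conjugation of the subgroups `E(σ)`; the algebra of partners. -/

set_option autoImplicit false
set_option linter.unusedSectionVars false
set_option linter.unusedSimpArgs false

namespace Cfsg.Agent.Lib.Helper8.Qr

open Cfsg Cfsg.Agent.Lib.Helper8.Qp

universe u

variable {k : Type u} [Field k] {M : Type u} [AddCommGroup M] [Module k M]
variable {G : Subgroup (LinearMap.GeneralLinearGroup k M)}

section conj

theorem conjBy_conjBy {Γ : Type*} [Group Γ] (A : Subgroup Γ) (g h : Γ) :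
    conjBy (conjBy A g) h = conjBy A (h * g) := by
  ext x
  simp only [conjBy, Subgroup.mem_map, MulEquiv.coe_toMonoidHom, MulAut.conj_apply]
  constructor
  · rintro ⟨_, ⟨y, hy, rfl⟩, rfl⟩
    exact ⟨y, hy, by group⟩
  · rintro ⟨y, hy, rfl⟩
    exact ⟨g * y * g⁻¹, ⟨y, hy, rfl⟩, by group⟩

theorem conjBy_one {Γ : Type*} [Group Γ] (A : Subgroup Γ) : conjBy A 1 = A := by
  ext x
  simp [conjBy]

theorem conj_mem_sameActionClass {g σ a : LinearMap.GeneralLinearGroup k M} (hg : g ∈ G)
    (ha : a ∈ sameActionClass G σ) : g * a * g⁻¹ ∈ sameActionClass G (g * σ * g⁻¹) := by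
  refine ⟨conj_mem_Qd hg ha.1, ?_, ?_⟩
  · rw [conj_sub_one, conj_sub_one, ker_conj, ker_conj, ha.2.1]
  · rw [conj_sub_one, conj_sub_one, range_conj, range_conj, ha.2.2]

theorem sameActionClass_conj {g : LinearMap.GeneralLinearGroup k M} (hg : g ∈ G)
    (σ : LinearMap.GeneralLinearGroup k M) :
    (fun x => g * x * g⁻¹) '' sameActionClass G σ = sameActionClass G (g * σ * g⁻¹) := by
  ext x
  constructor
  · rintro ⟨a, ha, rfl⟩
    exact conj_mem_sameActionClass hg ha
  · intro hx
    have h1 := conj_mem_sameActionClass (G.inv_mem hg) hx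
    have e : g⁻¹ * (g * σ * g⁻¹) * g⁻¹⁻¹ = σ := by group
    rw [e] at h1
    exact ⟨g⁻¹ * x * g⁻¹⁻¹, h1, by group⟩

theorem conjBy_sameActionSubgroup {g : LinearMap.GeneralLinearGroup k M} (hg : g ∈ G)
    (σ : LinearMap.GeneralLinearGroup k M) :
    conjBy (sameActionSubgroup G σ) g = sameActionSubgroup G (g * σ * g⁻¹) := by
  unfold sameActionSubgroup conjBy
  rw [MonoidHom.map_closure, ← sameActionClass_conj hg σ]
  rfl

theorem sameActionSubgroup_congr {ρ ρ' : LinearMap.GeneralLinearGroup k M}
    (hk : LinearMap.ker (ρ.1 - 1) = LinearMap.ker (ρ'.1 - 1))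
    (hr : LinearMap.range (ρ.1 - 1) = LinearMap.range (ρ'.1 - 1)) :
    sameActionSubgroup G ρ = sameActionSubgroup G ρ' := by
  unfold sameActionSubgroup sameActionClass
  rw [hk, hr]

end conj

/-- the data of a pair of partners -/
structure Partner (A B C D : Submodule k M) (s t : M →ₗ[k] M) : Prop where
  ss : s * s = 0
  tt : t * t = 0
  rs : LinearMap.range s = A
  ks : LinearMap.ker s = C
  rt : LinearMap.range t = B
  kt : LinearMap.ker t = D
  part : ∀ v ∈ A ⊔ B, zz s t v = v

namespace Partner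

variable {A B C D : Submodule k M} {s t : M →ₗ[k] M} (P : Partner A B C D s t)
include P

theorem s_mem (m : M) : s m ∈ A := by rw [← P.rs]; exact ⟨m, rfl⟩

theorem t_mem (m : M) : t m ∈ B := by rw [← P.rt]; exact ⟨m, rfl⟩

theorem s_apply_s (m : M) : s (s m) = 0 := congrArg (fun f : M →ₗ[k] M => f m) P.ss

theorem t_apply_t (m : M) : t (t m) = 0 := congrArg (fun f : M →ₗ[k] M => f m) P.tt

theorem sts : s * t * s = s := by
  apply LinearMap.ext
  intro m
  have h1 := P.part (s m) (Submodule.mem_sup_left (P.s_mem m))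
  unfold zz at h1
  rw [LinearMap.add_apply, Module.End.mul_apply, Module.End.mul_apply, P.s_apply_s, map_zero,
    add_zero] at h1
  exact h1

theorem tst : t * s * t = t := by
  apply LinearMap.ext
  intro m
  have h1 := P.part (t m) (Submodule.mem_sup_right (P.t_mem m))
  unfold zz at h1
  rw [LinearMap.add_apply, Module.End.mul_apply, Module.End.mul_apply, P.t_apply_t, map_zero,
    zero_add] at h1
  exact h1

/-- `w = (1+s)(1-t)(1+s)` as an operator -/
theorem w_eq : (1 + s) * (1 - t) * (1 + s) = 1 + s - t - zz s t := by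
  have e : (1 + s) * (1 - t) * (1 + s) = 1 + (s + s) - t - (s * t + t * s) - s * t * s + s * s
      - s * t * s + s * t * s := by noncomm_ring
  rw [e, P.sts, P.ss]
  unfold zz
  abel

/-- the identity of a special rank one group -/
theorem special : (1 - t) * (1 + s) * (1 + t) = (1 - s) * (1 - t) * (1 + s) := by
  have e1 : (1 - t) * (1 + s) * (1 + t) = 1 + s + s * t - t * s - t * s * t - t * t := by
    noncomm_ring
  have e2 : (1 - s) * (1 - t) * (1 + s) = 1 - t + s * t - t * s + s * t * s - s * s := by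
    noncomm_ring
  rw [e1, e2, P.sts, P.tst, P.ss, P.tt]
  abel

/-- `g = (1+s)(1-t)` maps `A` into `B` -/
theorem g_apply_A {α : M} (hα : α ∈ A) : ((1 + s) * (1 - t)) α = -t α := by
  have h1 := P.part α (Submodule.mem_sup_left hα)
  have hsα : s α = 0 := by
    have : α ∈ LinearMap.range s := by rw [P.rs]; exact hα
    exact range_le_ker_of_sq P.ss this
  unfold zz at h1
  rw [LinearMap.add_apply, Module.End.mul_apply, Module.End.mul_apply, hsα, map_zero,
    add_zero] at h1
  rw [Module.End.mul_apply, LinearMap.sub_apply, Module.End.one_apply, LinearMap.add_apply,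
    Module.End.one_apply, map_sub, h1, hsα]
  abel

theorem g_apply_C {c : M} (hc : c ∈ C) : t (((1 + s) * (1 - t)) c) = 0 := by
  have hsc : s c = 0 := by
    have : c ∈ LinearMap.ker s := by rw [P.ks]; exact hc
    exact this
  rw [Module.End.mul_apply, LinearMap.sub_apply, Module.End.one_apply, LinearMap.add_apply,
    Module.End.one_apply, map_sub, hsc, map_add, map_sub, P.t_apply_t, zero_sub, map_neg]
  have := congrArg (fun f : M →ₗ[k] M => f c) P.tst
  simp only [Module.End.mul_apply] at this
  rw [this]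
  abel

/-- the action of `w` on `A ⊔ B` -/
theorem w_apply {v : M} (hv : v ∈ A ⊔ B) : ((1 + s) * (1 - t) * (1 + s)) v = s v - t v := by
  rw [P.w_eq]
  simp only [LinearMap.sub_apply, LinearMap.add_apply, Module.End.one_apply]
  rw [P.part v hv]
  abel

theorem w_sq_apply {v : M} (hv : v ∈ A ⊔ B) :
    ((1 + s) * (1 - t) * (1 + s)) (((1 + s) * (1 - t) * (1 + s)) v) = -v := by
  rw [P.w_apply hv]
  have hv' : s v - t v ∈ A ⊔ B :=
    Submodule.sub_mem _ (Submodule.mem_sup_left (P.s_mem v)) (Submodule.mem_sup_right (P.t_mem v))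
  rw [P.w_apply hv', map_sub, map_sub, P.s_apply_s, P.t_apply_t]
  have h1 := P.part v hv
  unfold zz at h1
  rw [LinearMap.add_apply, Module.End.mul_apply, Module.End.mul_apply] at h1
  rw [zero_sub, sub_zero, ← neg_add', h1]

theorem w_apply_fix {m : M} (hm : m ∈ C ⊓ D) : ((1 + s) * (1 - t) * (1 + s)) m = m := by
  have hsm : s m = 0 := by
    have : m ∈ LinearMap.ker s := by rw [P.ks]; exact hm.1
    exact this
  have htm : t m = 0 := by
    have : m ∈ LinearMap.ker t := by rw [P.kt]; exact hm.2
    exact this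
  simp only [Module.End.mul_apply, LinearMap.sub_apply, LinearMap.add_apply, Module.End.one_apply,
    hsm, htm, add_zero, sub_zero]

end Partner

end Cfsg.Agent.Lib.Helper8.Qr
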