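import Mathlib
import Cfsg.Agent.Lib.Helper8.Qr9

/-! Opposite pairs in `𝒬_d`: the decomposition, partners, and the rank one condition. -/

set_option autoImplicit false
set_option linter.unusedSectionVars false
set_option linter.unusedSimpArgs false

namespace Cfsg.Agent.Lib.Helper8.Qr

open Cfsg Cfsg.Agent.Lib.Helper8.Qp

universe u

variable {k : Type u} [Field k] {M : Type u} [AddCommGroup M] [Module k M]
variable {G : Subgroup (LinearMap.GeneralLinearGroup k M)}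
variable [FiniteDimensional k M]

theorem opp_isCompl (h2 : (2 : k) ≠ 0) (h3 : Nat.card k ≠ 3)
    {σ τ : LinearMap.GeneralLinearGroup k M} (hσ : σ ∈ minimalQuadraticElements G)
    (hτ : τ ∈ minimalQuadraticElements G) (hopp : Opp σ τ) :
    IsCompl (LinearMap.ker (σ.1 - 1) ⊓ LinearMap.ker (τ.1 - 1))
      (LinearMap.range (σ.1 - 1) ⊔ LinearMap.range (τ.1 - 1)) := by
  have hs := hσ.1.2.1.1
  have ht := hτ.1.2.1.1
  obtain ⟨n, hn, hc⟩ := exists_fitting (zz (σ.1 - 1) (τ.1 - 1))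
  have hc' : IsCompl (M0 (zz (σ.1 - 1) (τ.1 - 1)) n) (M1 (zz (σ.1 - 1) (τ.1 - 1)) n) := hc
  have hms := minRank_of_Qd hσ.1 hτ.1 hσ
  have hmt := minRank_of_Qd hσ.1 hτ.1 hτ
  have hV := M1_ne_bot_of_opp hs ht n hc' hopp.1 hopp.2 hσ.1.2.1.2
  have e0 := M0_eq hs ht n hn hc' h2 h3 hms hmt hV
  have e1 := M1_eq hs ht n hn hc' h2 h3 hms hmt hV
  rw [e0, e1] at hc'
  exact hc'

theorem exists_partner_G (h2 : (2 : k) ≠ 0) (h3 : Nat.card k ≠ 3)
    {σ τ : LinearMap.GeneralLinearGroup k M} (hσ : σ ∈ minimalQuadraticElements G)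
    (hτ : τ ∈ minimalQuadraticElements G) (hopp : Opp σ τ)
    {a : LinearMap.GeneralLinearGroup k M} (ha : a ∈ sameActionClass G σ) :
    ∃ b ∈ sameActionClass G τ,
      Partner (LinearMap.range (σ.1 - 1)) (LinearMap.range (τ.1 - 1)) (LinearMap.ker (σ.1 - 1))
        (LinearMap.ker (τ.1 - 1)) (a.1 - 1) (b.1 - 1) := by
  have hs := ha.1.1.2.1.1
  have ht := hτ.1.2.1.1
  have hopp' : Opp a τ := (opp_congr ha (self_mem_sameActionClass hτ)).mpr hopp
  obtain ⟨n, hn, hc⟩ := exists_fitting (zz (a.1 - 1) (τ.1 - 1))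
  have hc' : IsCompl (M0 (zz (a.1 - 1) (τ.1 - 1)) n) (M1 (zz (a.1 - 1) (τ.1 - 1)) n) := hc
  have hms := minRank_of_Qd ha.1.1 hτ.1 ha.1
  have hmt := minRank_of_Qd ha.1.1 hτ.1 hτ
  have hV := M1_ne_bot_of_opp hs ht n hc' hopp'.1 hopp'.2 ha.1.1.2.1.2
  obtain ⟨h, hH, hq, hne, hsc, hr, hk, hpart⟩ := exists_partner hs ht n hn hc' h2 h3 hmt hV
  have hle := HH_le_G ha.1.1 hτ.1
  have hhQ : h ∈ quadraticElements G := by
    apply mem_Q_of (hle hH) hq hne
    intro c
    obtain ⟨h', hh', e⟩ := hsc c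
    exact ⟨h', hle hh', e⟩
  have hb := mem_sameActionClass_of_le hτ hhQ hr hk
  refine ⟨h, hb, ?_⟩
  refine ⟨hs, hq, ha.2.2, ha.2.1, hb.2.2, hb.2.1, ?_⟩
  intro v hv
  apply hpart
  rw [M1_eq hs ht n hn hc' h2 h3 hms hmt hV, ha.2.2]
  exact hv

theorem val_mul_inv_eq {a b : LinearMap.GeneralLinearGroup k M}
    (hb : (b.1 - 1) * (b.1 - 1) = 0) :
    (a * b⁻¹).1 = (1 + (a.1 - 1)) * (1 - (b.1 - 1)) := by
  rw [Units.val_mul, inv_val_of_sq b hb, ← val_eq_one_add a]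

theorem finrank_ker_eq {σ τ : LinearMap.GeneralLinearGroup k M}
    (hσ : σ ∈ minimalQuadraticElements G) (hτ : τ ∈ minimalQuadraticElements G) :
    Module.finrank k (LinearMap.ker (σ.1 - 1)) = Module.finrank k (LinearMap.ker (τ.1 - 1)) := by
  have e1 := LinearMap.finrank_range_add_finrank_ker (σ.1 - 1)
  have e2 := LinearMap.finrank_range_add_finrank_ker (τ.1 - 1)
  have e3 : Module.finrank k (LinearMap.range (σ.1 - 1)) =
      Module.finrank k (LinearMap.range (τ.1 - 1)) := rank_eq_of_Qd hσ hτ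
  omega

/-- a partner pair conjugates `E(σ)` to `E(τ)` -/
theorem map_g_of_partner {σ τ a b : LinearMap.GeneralLinearGroup k M}
    (hσ : σ ∈ minimalQuadraticElements G) (hτ : τ ∈ minimalQuadraticElements G)
    (P : Partner (LinearMap.range (σ.1 - 1)) (LinearMap.range (τ.1 - 1))
      (LinearMap.ker (σ.1 - 1)) (LinearMap.ker (τ.1 - 1)) (a.1 - 1) (b.1 - 1)) :
    (LinearMap.range (σ.1 - 1)).map (a * b⁻¹).1 = LinearMap.range (τ.1 - 1) ∧
      (LinearMap.ker (σ.1 - 1)).map (a * b⁻¹).1 = LinearMap.ker (τ.1 - 1) := by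
  have hg := val_mul_inv_eq (a := a) P.tt
  constructor
  · apply Submodule.eq_of_le_of_finrank_le
    · rintro _ ⟨α, hα, rfl⟩
      rw [hg, P.g_apply_A hα]
      exact Submodule.neg_mem _ (P.t_mem α)
    · rw [finrank_map_unit]
      exact le_of_eq (rank_eq_of_Qd hτ hσ)
  · apply Submodule.eq_of_le_of_finrank_le
    · rintro _ ⟨c, hc, rfl⟩
      rw [hg, ← P.kt]
      exact P.g_apply_C hc
    · rw [finrank_map_unit]
      exact le_of_eq (finrank_ker_eq hτ hσ)

theorem conjBy_of_map {σ τ g : LinearMap.GeneralLinearGroup k M} (hg : g ∈ G)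
    (h1 : (LinearMap.range (σ.1 - 1)).map g.1 = LinearMap.range (τ.1 - 1))
    (h2 : (LinearMap.ker (σ.1 - 1)).map g.1 = LinearMap.ker (τ.1 - 1)) :
    conjBy (sameActionSubgroup G σ) g = sameActionSubgroup G τ := by
  rw [conjBy_sameActionSubgroup hg]
  apply sameActionSubgroup_congr
  · rw [conj_sub_one, ker_conj, h2]
  · rw [conj_sub_one, range_conj, h1]

/-- the rank one condition for opposite pairs -/
theorem rankOneCondition_of_opp (h2 : (2 : k) ≠ 0) (h3 : Nat.card k ≠ 3)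
    {σ τ : LinearMap.GeneralLinearGroup k M} (hσ : σ ∈ minimalQuadraticElements G)
    (hτ : τ ∈ minimalQuadraticElements G) (hopp : Opp σ τ) :
    RankOneCondition (sameActionSubgroup G σ) (sameActionSubgroup G τ) := by
  intro a ha hne
  have ha' : a ∈ sameActionClass G σ := (mem_sameActionSubgroup hσ ha).resolve_left hne
  obtain ⟨b, hb, P⟩ := exists_partner_G h2 h3 hσ hτ hopp ha'
  have hbne : b ≠ 1 := by
    intro h
    apply hb.1.1.2.1.2
    rw [h, Units.val_one, sub_self]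
  refine ⟨b, sameActionClass_le hb, hbne, ?_⟩
  have hgG : a * b⁻¹ ∈ G := G.mul_mem ha'.1.1.1 (G.inv_mem hb.1.1.1)
  obtain ⟨m1, m2⟩ := map_g_of_partner hσ hτ P
  have e := conjBy_of_map hgG m1 m2
  rw [← e, conjBy_conjBy]
  congr 1
  group

end Cfsg.Agent.Lib.Helper8.Qr
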