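import Mathlib
import Cfsg.Agent.Lib.Helper8.Qr10

/-! Opposite pairs in `𝒬_d`: the special rank one group and its central involution. -/

set_option autoImplicit false
set_option linter.unusedSectionVars false
set_option linter.unusedSimpArgs false

namespace Cfsg.Agent.Lib.Helper8.Qr

open Cfsg Cfsg.Agent.Lib.Helper8.Qp

universe u

theorem isNilpotent_of_comm {Γ : Type*} [Group Γ] (A : Subgroup Γ)
    (h : ∀ a ∈ A, ∀ b ∈ A, a * b = b * a) : Group.IsNilpotent ↥A := by
  let _ : CommGroup ↥A :=
    { (inferInstance : Group ↥A) with mul_comm := fun a b => Subtype.ext (h a a.2 b b.2) }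
  exact CommGroup.isNilpotent

variable {k : Type u} [Field k] {M : Type u} [AddCommGroup M] [Module k M]
variable {G : Subgroup (LinearMap.GeneralLinearGroup k M)}

theorem ext_of_isCompl {P Q : Submodule k M} (h : IsCompl P Q) {f g : M →ₗ[k] M}
    (hP : ∀ m ∈ P, f m = g m) (hQ : ∀ m ∈ Q, f m = g m) : f = g := by
  apply LinearMap.ext
  intro m
  obtain ⟨y, z, hy, hz, rfl⟩ := Submodule.codisjoint_iff_exists_add_eq.mp h.codisjoint m
  rw [map_add, map_add, hP y hy, hQ z hz]

/-- elements whose commutator space lies in `W` -/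
def rangeSub (W : Submodule k M) : Subgroup (LinearMap.GeneralLinearGroup k M) where
  carrier := {g | LinearMap.range (g.1 - 1) ≤ W}
  one_mem' := by
    rintro _ ⟨m, rfl⟩
    simp
  mul_mem' := by
    intro a b ha hb
    rintro _ ⟨m, rfl⟩
    have e : ((a * b).1 - 1) m = (a.1 - 1) (b.1 m) + (b.1 - 1) m := by
      simp only [Units.val_mul, LinearMap.sub_apply, Module.End.mul_apply, Module.End.one_apply]
      abel
    rw [e]
    exact W.add_mem (ha ⟨_, rfl⟩) (hb ⟨_, rfl⟩)
  inv_mem' := by
    intro a ha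
    rintro _ ⟨m, rfl⟩
    have e : ((a⁻¹).1 - 1) m = -((a.1 - 1) ((a⁻¹).1 m)) := by
      simp only [LinearMap.sub_apply, Module.End.one_apply, unit_apply_inv]
      abel
    rw [e]
    exact W.neg_mem (ha ⟨_, rfl⟩)

theorem mem_rangeSub {W : Submodule k M} {g : LinearMap.GeneralLinearGroup k M} :
    g ∈ rangeSub W ↔ LinearMap.range (g.1 - 1) ≤ W := Iff.rfl

variable [FiniteDimensional k M]

theorem sameActionSubgroup_comm {σ : LinearMap.GeneralLinearGroup k M}
    (hσ : σ ∈ minimalQuadraticElements G) :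
    ∀ a ∈ sameActionSubgroup G σ, ∀ b ∈ sameActionSubgroup G σ, a * b = b * a := by
  intro a ha b hb
  have hia := inE_of_mem_sameActionSubgroup hσ ha
  have hib := inE_of_mem_sameActionSubgroup hσ hb
  have hAC := range_le_ker_of_sq hσ.1.2.1.1
  have hab : (a.1 - 1) * (b.1 - 1) = 0 := hia.mul_eq_zero hAC hib
  have hba : (b.1 - 1) * (a.1 - 1) = 0 := hib.mul_eq_zero hAC hia
  apply Units.ext
  rw [Units.val_mul, Units.val_mul]
  have e1 : a.1 * b.1 = (a.1 - 1) * (b.1 - 1) + a.1 + b.1 - 1 := by noncomm_ring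
  have e2 : b.1 * a.1 = (b.1 - 1) * (a.1 - 1) + a.1 + b.1 - 1 := by noncomm_ring
  rw [e1, e2, hab, hba]

theorem sameActionSubgroup_le_fixSub {σ : LinearMap.GeneralLinearGroup k M}
    (hσ : σ ∈ minimalQuadraticElements G) {N : Submodule k M}
    (hN : N ≤ LinearMap.ker (σ.1 - 1)) : sameActionSubgroup G σ ≤ fixSub N := by
  intro a ha m hm
  have hia := inE_of_mem_sameActionSubgroup hσ ha
  have : (a.1 - 1) m = 0 := hia.2 (hN hm)
  rw [LinearMap.sub_apply, Module.End.one_apply, sub_eq_zero] at this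
  exact this

theorem sameActionSubgroup_le_rangeSub {σ : LinearMap.GeneralLinearGroup k M}
    (hσ : σ ∈ minimalQuadraticElements G) {W : Submodule k M}
    (hW : LinearMap.range (σ.1 - 1) ≤ W) : sameActionSubgroup G σ ≤ rangeSub W := by
  intro a ha
  have hia := inE_of_mem_sameActionSubgroup hσ ha
  exact le_trans hia.1 hW

theorem self_mem_sameActionSubgroup {σ : LinearMap.GeneralLinearGroup k M}
    (hσ : σ ∈ minimalQuadraticElements G) : σ ∈ sameActionSubgroup G σ :=
  sameActionClass_le (self_mem_sameActionClass hσ)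

theorem fixedSubmodule_sup_eq {σ τ : LinearMap.GeneralLinearGroup k M}
    (hσ : σ ∈ minimalQuadraticElements G) (hτ : τ ∈ minimalQuadraticElements G) :
    fixedSubmodule (sameActionSubgroup G σ ⊔ sameActionSubgroup G τ) =
      LinearMap.ker (σ.1 - 1) ⊓ LinearMap.ker (τ.1 - 1) := by
  apply le_antisymm
  · apply le_inf
    · exact iInf₂_le σ (Subgroup.mem_sup_left (self_mem_sameActionSubgroup hσ))
    · exact iInf₂_le τ (Subgroup.mem_sup_right (self_mem_sameActionSubgroup hτ))
  · unfold fixedSubmodule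
    apply le_iInf₂
    intro g hg m hm
    have hle : sameActionSubgroup G σ ⊔ sameActionSubgroup G τ ≤
        fixSub (LinearMap.ker (σ.1 - 1) ⊓ LinearMap.ker (τ.1 - 1)) :=
      sup_le (sameActionSubgroup_le_fixSub hσ inf_le_left)
        (sameActionSubgroup_le_fixSub hτ inf_le_right)
    have := hle hg m hm
    rw [LinearMap.mem_ker, LinearMap.sub_apply, Module.End.one_apply, sub_eq_zero]
    exact this

theorem commutatorSubmodule_sup_eq {σ τ : LinearMap.GeneralLinearGroup k M}
    (hσ : σ ∈ minimalQuadraticElements G) (hτ : τ ∈ minimalQuadraticElements G) :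
    commutatorSubmodule (sameActionSubgroup G σ ⊔ sameActionSubgroup G τ) =
      LinearMap.range (σ.1 - 1) ⊔ LinearMap.range (τ.1 - 1) := by
  apply le_antisymm
  · unfold commutatorSubmodule
    apply iSup₂_le
    intro g hg
    have hle : sameActionSubgroup G σ ⊔ sameActionSubgroup G τ ≤
        rangeSub (LinearMap.range (σ.1 - 1) ⊔ LinearMap.range (τ.1 - 1)) :=
      sup_le (sameActionSubgroup_le_rangeSub hσ le_sup_left)
        (sameActionSubgroup_le_rangeSub hτ le_sup_right)
    exact hle hg
  · apply sup_le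
    · exact le_iSup₂_of_le σ (Subgroup.mem_sup_left (self_mem_sameActionSubgroup hσ)) le_rfl
    · exact le_iSup₂_of_le τ (Subgroup.mem_sup_right (self_mem_sameActionSubgroup hτ)) le_rfl

end Cfsg.Agent.Lib.Helper8.Qr
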