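import Mathlib
import Cfsg.Agent.Lib.Helper8.Qr11

/-! Opposite pairs in `𝒬_d`: the special rank one group and its central involution. -/

set_option autoImplicit false
set_option linter.unusedSectionVars false
set_option linter.unusedSimpArgs false

namespace Cfsg.Agent.Lib.Helper8.Qr

open Cfsg Cfsg.Agent.Lib.Helper8.Qp

universe u

variable {k : Type u} [Field k] {M : Type u} [AddCommGroup M] [Module k M]
variable {G : Subgroup (LinearMap.GeneralLinearGroup k M)}
variable [FiniteDimensional k M]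

theorem range_inf_range_eq_bot {σ τ : LinearMap.GeneralLinearGroup k M}
    (hτ : τ ∈ minimalQuadraticElements G) (hopp : Opp σ τ) :
    LinearMap.range (σ.1 - 1) ⊓ LinearMap.range (τ.1 - 1) = ⊥ := by
  rw [eq_bot_iff, ← hopp.1]
  exact inf_le_inf_left _ (range_le_ker_of_sq hτ.1.2.1.1)

/-- if `a b⁻¹` conjugates `E(σ)` to `E(τ)` then `s t` is the identity on `[M, σ]` -/
theorem st_eq_of_conj {σ τ a b : LinearMap.GeneralLinearGroup k M}
    (hσ : σ ∈ minimalQuadraticElements G) (hτ : τ ∈ minimalQuadraticElements G)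
    (hopp : Opp σ τ) (ha : a ∈ sameActionClass G σ) (hb : b ∈ sameActionClass G τ)
    (hconj : conjBy (sameActionSubgroup G σ) (a * b⁻¹) = sameActionSubgroup G τ) :
    ∀ α ∈ LinearMap.range (σ.1 - 1), (a.1 - 1) ((b.1 - 1) α) = α := by
  have hgG : a * b⁻¹ ∈ G := G.mul_mem ha.1.1.1 (G.inv_mem hb.1.1.1)
  -- the conjugate of σ lies in the class of τ
  have hy : (a * b⁻¹) * σ * (a * b⁻¹)⁻¹ ∈ sameActionSubgroup G τ := by
    rw [← hconj]
    exact ⟨σ, self_mem_sameActionSubgroup hσ, rfl⟩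
  have hy1 : (a * b⁻¹) * σ * (a * b⁻¹)⁻¹ ≠ 1 := by
    intro h
    have : σ = 1 := by
      have h' := congrArg (fun x => (a * b⁻¹)⁻¹ * x * (a * b⁻¹)) h
      simp only [mul_one, inv_mul_cancel] at h'
      rw [← h']
      group
    apply hσ.1.2.1.2
    rw [this, Units.val_one, sub_self]
  have hy2 := (mem_sameActionSubgroup hτ hy).resolve_left hy1
  have hr := hy2.2.2
  rw [conj_sub_one, range_conj] at hr
  intro α hα
  have h1 : (a * b⁻¹).1 α ∈ LinearMap.range (τ.1 - 1) := by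
    rw [← hr]
    exact ⟨α, hα, rfl⟩
  rw [val_mul_inv_eq hb.1.1.2.1.1] at h1
  have hsα : (a.1 - 1) α = 0 := by
    have : α ∈ LinearMap.ker (a.1 - 1) := by
      rw [ha.2.1]
      exact range_le_ker_of_sq hσ.1.2.1.1 hα
    exact this
  have e : ((1 + (a.1 - 1)) * (1 - (b.1 - 1))) α =
      (α - (a.1 - 1) ((b.1 - 1) α)) - (b.1 - 1) α := by
    rw [Module.End.mul_apply, LinearMap.sub_apply, Module.End.one_apply, LinearMap.add_apply,
      Module.End.one_apply, map_sub, hsα]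
    abel
  rw [e] at h1
  have h2 : (b.1 - 1) α ∈ LinearMap.range (τ.1 - 1) := by
    rw [← hb.2.2]; exact ⟨α, rfl⟩
  have h3 : α - (a.1 - 1) ((b.1 - 1) α) ∈ LinearMap.range (τ.1 - 1) := by
    have := Submodule.add_mem _ h1 h2
    rwa [sub_add_cancel] at this
  have h4 : α - (a.1 - 1) ((b.1 - 1) α) ∈ LinearMap.range (σ.1 - 1) := by
    apply Submodule.sub_mem _ hα
    rw [← ha.2.2]; exact ⟨_, rfl⟩
  have h5 : α - (a.1 - 1) ((b.1 - 1) α) ∈
      LinearMap.range (σ.1 - 1) ⊓ LinearMap.range (τ.1 - 1) := ⟨h4, h3⟩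
  rw [range_inf_range_eq_bot hτ hopp, Submodule.mem_bot, sub_eq_zero] at h5
  exact h5.symm

/-- the special rank one identity -/
theorem special_of_opp {σ τ : LinearMap.GeneralLinearGroup k M}
    (hσ : σ ∈ minimalQuadraticElements G) (hτ : τ ∈ minimalQuadraticElements G)
    (hopp : Opp σ τ) :
    ∀ a ∈ sameActionSubgroup G σ, a ≠ 1 → ∀ b ∈ sameActionSubgroup G τ, b ≠ 1 →
      conjBy (sameActionSubgroup G σ) b⁻¹ = conjBy (sameActionSubgroup G τ) a⁻¹ →
      b⁻¹ * a * b = a⁻¹ * b⁻¹ * a := by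
  intro a ha hane b hb hbne hconj
  have ha' := (mem_sameActionSubgroup hσ ha).resolve_left hane
  have hb' := (mem_sameActionSubgroup hτ hb).resolve_left hbne
  have c1 : conjBy (sameActionSubgroup G σ) (a * b⁻¹) = sameActionSubgroup G τ := by
    rw [← conjBy_conjBy, hconj, conjBy_conjBy, mul_inv_cancel, conjBy_one]
  have c2 : conjBy (sameActionSubgroup G τ) (b * a⁻¹) = sameActionSubgroup G σ := by
    rw [← conjBy_conjBy, ← hconj, conjBy_conjBy, mul_inv_cancel, conjBy_one]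
  have k1 := st_eq_of_conj hσ hτ hopp ha' hb' c1
  have k2 := st_eq_of_conj hτ hσ hopp.symm hb' ha' c2
  have hss := ha'.1.1.2.1.1
  have htt := hb'.1.1.2.1.1
  have P : Partner (LinearMap.range (σ.1 - 1)) (LinearMap.range (τ.1 - 1))
      (LinearMap.ker (σ.1 - 1)) (LinearMap.ker (τ.1 - 1)) (a.1 - 1) (b.1 - 1) := by
    refine ⟨hss, htt, ha'.2.2, ha'.2.1, hb'.2.2, hb'.2.1, ?_⟩
    intro v hv
    obtain ⟨α, hα, β, hβ, rfl⟩ := Submodule.mem_sup.mp hv
    have hsα : (a.1 - 1) α = 0 := by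
      have : α ∈ LinearMap.ker (a.1 - 1) := by
        rw [ha'.2.1]
        exact range_le_ker_of_sq hσ.1.2.1.1 hα
      exact this
    have htβ : (b.1 - 1) β = 0 := by
      have : β ∈ LinearMap.ker (b.1 - 1) := by
        rw [hb'.2.1]
        exact range_le_ker_of_sq hτ.1.2.1.1 hβ
      exact this
    have e1 : (b.1 - 1) (α + β) = (b.1 - 1) α := by rw [map_add, htβ, add_zero]
    have e2 : (a.1 - 1) (α + β) = (a.1 - 1) β := by rw [map_add, hsα, zero_add]
    unfold zz
    rw [LinearMap.add_apply, Module.End.mul_apply, Module.End.mul_apply, e1, e2, k1 α hα,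
      k2 β hβ]
  apply Units.ext
  simp only [Units.val_mul]
  rw [inv_val_of_sq a hss, inv_val_of_sq b htt]
  have ea : a.1 = 1 + (a.1 - 1) := val_eq_one_add a
  have eb : b.1 = 1 + (b.1 - 1) := val_eq_one_add b
  calc (1 - (b.1 - 1)) * a.1 * b.1 = (1 - (b.1 - 1)) * (1 + (a.1 - 1)) * (1 + (b.1 - 1)) := by
        rw [← ea, ← eb]
    _ = (1 - (a.1 - 1)) * (1 - (b.1 - 1)) * (1 + (a.1 - 1)) := P.special
    _ = (1 - (a.1 - 1)) * (1 - (b.1 - 1)) * a.1 := by rw [← ea]

end Cfsg.Agent.Lib.Helper8.Qr
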