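import Mathlib
import Cfsg.Agent.Lib.Helper8.Qr12

/-! The subgroup generated by `E(σ)` and `E(τ)`: unipotent or a special rank one group. -/

set_option autoImplicit false
set_option linter.unusedSectionVars false
set_option linter.unusedSimpArgs false

namespace Cfsg.Agent.Lib.Helper8.Qr

open Cfsg Cfsg.Agent.Lib.Helper8.Qp

universe u

variable {k : Type u} [Field k] {M : Type u} [AddCommGroup M] [Module k M]
variable {G : Subgroup (LinearMap.GeneralLinearGroup k M)}
variable [FiniteDimensional k M]

theorem exists_involution (h2 : (2 : k) ≠ 0) (h3 : Nat.card k ≠ 3)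
    {σ τ : LinearMap.GeneralLinearGroup k M} (hσ : σ ∈ minimalQuadraticElements G)
    (hτ : τ ∈ minimalQuadraticElements G) (hopp : Opp σ τ) :
    ∃ i ∈ sameActionSubgroup G σ ⊔ sameActionSubgroup G τ,
      (∀ m ∈ LinearMap.ker (σ.1 - 1) ⊓ LinearMap.ker (τ.1 - 1), i.1 m = m) ∧
      (∀ v ∈ LinearMap.range (σ.1 - 1) ⊔ LinearMap.range (τ.1 - 1), i.1 v = -v) := by
  obtain ⟨b, hb, P⟩ := exists_partner_G h2 h3 hσ hτ hopp (self_mem_sameActionClass hσ)
  have hσX : σ ∈ sameActionSubgroup G σ ⊔ sameActionSubgroup G τ :=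
    Subgroup.mem_sup_left (self_mem_sameActionSubgroup hσ)
  have hbX : b ∈ sameActionSubgroup G σ ⊔ sameActionSubgroup G τ :=
    Subgroup.mem_sup_right (sameActionClass_le hb)
  have hw : (σ * b⁻¹ * σ).1 = (1 + (σ.1 - 1)) * (1 - (b.1 - 1)) * (1 + (σ.1 - 1)) := by
    rw [Units.val_mul, Units.val_mul, inv_val_of_sq b P.tt, ← val_eq_one_add σ]
  refine ⟨(σ * b⁻¹ * σ) * (σ * b⁻¹ * σ), ?_, ?_, ?_⟩
  · exact Subgroup.mul_mem _ (Subgroup.mul_mem _ (Subgroup.mul_mem _ hσX (Subgroup.inv_mem _ hbX)) hσX)
      (Subgroup.mul_mem _ (Subgroup.mul_mem _ hσX (Subgroup.inv_mem _ hbX)) hσX)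
  · intro m hm
    rw [Units.val_mul, Module.End.mul_apply, hw, P.w_apply_fix hm, P.w_apply_fix hm]
  · intro v hv
    rw [Units.val_mul, Module.End.mul_apply, hw, P.w_sq_apply hv]

/-- Main theorem on pairs of root subgroups of a quadratic pair. -/
theorem unipotent_or_special (h2 : (2 : k) ≠ 0) (h3 : Nat.card k ≠ 3)
    {σ τ : LinearMap.GeneralLinearGroup k M} (hσ : σ ∈ minimalQuadraticElements G)
    (hτ : τ ∈ minimalQuadraticElements G) :
    IsUnipotentOn (sameActionSubgroup G σ ⊔ sameActionSubgroup G τ) ∨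
    (IsSpecialRankOnePair (sameActionSubgroup G σ) (sameActionSubgroup G τ) ∧
      (∃! i : LinearMap.GeneralLinearGroup k M,
        i ∈ sameActionSubgroup G σ ⊔ sameActionSubgroup G τ ∧ i ≠ 1 ∧ i * i = 1 ∧
        (∀ x ∈ sameActionSubgroup G σ ⊔ sameActionSubgroup G τ, i * x = x * i) ∧
        (∀ m ∈ commutatorSubmodule (sameActionSubgroup G σ ⊔ sameActionSubgroup G τ),
          (i : M →ₗ[k] M) m = -m) ∧
        (∀ m ∈ fixedSubmodule (sameActionSubgroup G σ ⊔ sameActionSubgroup G τ),
          (i : M →ₗ[k] M) m = m)) ∧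
      IsCompl (fixedSubmodule (sameActionSubgroup G σ ⊔ sameActionSubgroup G τ))
        (commutatorSubmodule (sameActionSubgroup G σ ⊔ sameActionSubgroup G τ))) := by
  by_cases hopp : Opp σ τ
  · right
    have hcompl := opp_isCompl h2 h3 hσ hτ hopp
    have hfix := fixedSubmodule_sup_eq hσ hτ
    have hcomm := commutatorSubmodule_sup_eq hσ hτ
    have hAB := range_inf_range_eq_bot (σ := σ) hτ hopp
    have hA0 : LinearMap.range (σ.1 - 1) ≠ ⊥ := by
      intro h
      apply hσ.1.2.1.2
      exact LinearMap.range_eq_bot.mp h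
    refine ⟨⟨⟨?_, ?_, ?_, ?_, ?_⟩, ?_⟩, ?_, ?_⟩
    · -- the two subgroups differ
      intro heq
      have h1 : τ ∈ sameActionSubgroup G σ := by
        rw [heq]; exact self_mem_sameActionSubgroup hτ
      have hτ1 : τ ≠ 1 := by
        intro h
        apply hτ.1.2.1.2
        rw [h, Units.val_one, sub_self]
      have h2' := (mem_sameActionSubgroup hσ h1).resolve_left hτ1
      have h3' := h2'.2.2
      rw [h3', inf_idem] at hAB
      exact hA0 hAB
    · exact isNilpotent_of_comm _ (sameActionSubgroup_comm hσ)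
    · exact isNilpotent_of_comm _ (sameActionSubgroup_comm hτ)
    · exact rankOneCondition_of_opp h2 h3 hσ hτ hopp
    · exact rankOneCondition_of_opp h2 h3 hτ hσ hopp.symm
    · exact special_of_opp hσ hτ hopp
    · obtain ⟨i, hiX, hi0, hi1⟩ := exists_involution h2 h3 hσ hτ hopp
      have hleF : sameActionSubgroup G σ ⊔ sameActionSubgroup G τ ≤
          fixSub (LinearMap.ker (σ.1 - 1) ⊓ LinearMap.ker (τ.1 - 1)) :=
        sup_le (sameActionSubgroup_le_fixSub hσ inf_le_left)
          (sameActionSubgroup_le_fixSub hτ inf_le_right)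
      have hleR : sameActionSubgroup G σ ⊔ sameActionSubgroup G τ ≤
          rangeSub (LinearMap.range (σ.1 - 1) ⊔ LinearMap.range (τ.1 - 1)) :=
        sup_le (sameActionSubgroup_le_rangeSub hσ le_sup_left)
          (sameActionSubgroup_le_rangeSub hτ le_sup_right)
      refine ⟨i, ⟨hiX, ?_, ?_, ?_, ?_, ?_⟩, ?_⟩
      · -- i ≠ 1
        intro h
        obtain ⟨α, hα, hα0⟩ := Submodule.exists_mem_ne_zero_of_ne_bot hA0
        have := hi1 α (Submodule.mem_sup_left hα)
        rw [h, Units.val_one, Module.End.one_apply] at this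
        have h4 : (2 : k) • α = 0 := by
          rw [two_smul]
          nth_rewrite 1 [this]
          exact neg_add_cancel α
        rcases smul_eq_zero.mp h4 with h5 | h5
        · exact h2 h5
        · exact hα0 h5
      · -- i * i = 1
        apply Units.ext
        rw [Units.val_mul, Units.val_one]
        apply ext_of_isCompl hcompl
        · intro m hm
          rw [Module.End.mul_apply, hi0 m hm, hi0 m hm, Module.End.one_apply]
        · intro v hv
          rw [Module.End.mul_apply, hi1 v hv, map_neg, hi1 v hv, neg_neg, Module.End.one_apply]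
      · -- central
        intro x hx
        apply Units.ext
        rw [Units.val_mul, Units.val_mul]
        apply ext_of_isCompl hcompl
        · intro m hm
          have hxm : x.1 m = m := hleF hx m hm
          rw [Module.End.mul_apply, Module.End.mul_apply, hxm, hi0 m hm, hxm]
        · intro v hv
          have hxv : x.1 v ∈ LinearMap.range (σ.1 - 1) ⊔ LinearMap.range (τ.1 - 1) := by
            have e : x.1 v = (x.1 - 1) v + v := by
              rw [LinearMap.sub_apply, Module.End.one_apply, sub_add_cancel]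
            rw [e]
            exact Submodule.add_mem _ (hleR hx ⟨v, rfl⟩) hv
          rw [Module.End.mul_apply, Module.End.mul_apply, hi1 _ hxv, hi1 v hv, map_neg]
      · intro m hm
        rw [hcomm] at hm
        exact hi1 m hm
      · intro m hm
        rw [hfix] at hm
        exact hi0 m hm
      · -- uniqueness
        rintro j ⟨_, _, _, _, hj1, hj0⟩
        apply Units.ext
        apply ext_of_isCompl hcompl
        · intro m hm
          rw [hi0 m hm]
          apply hj0
          rw [hfix]; exact hm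
        · intro v hv
          rw [hi1 v hv]
          apply hj1
          rw [hcomm]; exact hv
    · rw [hfix, hcomm]
      exact hcompl
  · left
    exact unip_of_not_opp h2 h3 hσ hτ hopp

end Cfsg.Agent.Lib.Helper8.Qr
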