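import Mathlib
import Cfsg.Agent.Lib.Helper8.Qr13

/-! Non-opposite pairs: commutators, and the dimension count. -/

set_option autoImplicit false
set_option linter.unusedSectionVars false
set_option linter.unusedSimpArgs false

namespace Cfsg.Agent.Lib.Helper8.Qr

open Cfsg Cfsg.Agent.Lib.Helper8.Qp

universe u

variable {k : Type u} [Field k] {M : Type u} [AddCommGroup M] [Module k M]
variable {G : Subgroup (LinearMap.GeneralLinearGroup k M)}

/-- the commutator of two quadratic elements with vanishing triple products -/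
theorem comm_val {a b : LinearMap.GeneralLinearGroup k M}
    (hs : (a.1 - 1) * (a.1 - 1) = 0) (ht : (b.1 - 1) * (b.1 - 1) = 0)
    (h1 : (a.1 - 1) * (b.1 - 1) * (a.1 - 1) = 0) (h2 : (b.1 - 1) * (a.1 - 1) * (b.1 - 1) = 0) :
    (a * b * a⁻¹ * b⁻¹).1 = 1 + ((a.1 - 1) * (b.1 - 1) - (b.1 - 1) * (a.1 - 1)) := by
  simp only [Units.val_mul]
  rw [inv_val_of_sq a hs, inv_val_of_sq b ht]
  have ea : a.1 = 1 + (a.1 - 1) := val_eq_one_add a
  have eb : b.1 = 1 + (b.1 - 1) := val_eq_one_add b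
  have e : a.1 * b.1 * (1 - (a.1 - 1)) * (1 - (b.1 - 1)) =
      (1 + (a.1 - 1)) * (1 + (b.1 - 1)) * (1 - (a.1 - 1)) * (1 - (b.1 - 1)) := by
    rw [← ea, ← eb]
  rw [e, comm_formula hs ht, h1, h2, zero_mul]
  abel

theorem comm_sq_zero {s t : M →ₗ[k] M} (hs : s * s = 0) (ht : t * t = 0)
    (h1 : s * t * s = 0) (h2 : t * s * t = 0) : (s * t - t * s) * (s * t - t * s) = 0 := by
  have e : (s * t - t * s) * (s * t - t * s) =
      (s * t * s) * t - s * (t * t) * s - t * (s * s) * t + (t * s * t) * s := by noncomm_ring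
  rw [e, h1, h2, hs, ht]
  simp

/-- the commutator of a non-commuting pair with vanishing triple products is in `𝒬(G)` -/
theorem comm_mem_Q {a b : LinearMap.GeneralLinearGroup k M} (ha : a ∈ quadraticElements G)
    (hb : b ∈ quadraticElements G)
    (h1 : (a.1 - 1) * (b.1 - 1) * (a.1 - 1) = 0) (h2 : (b.1 - 1) * (a.1 - 1) * (b.1 - 1) = 0)
    (hne : (a.1 - 1) * (b.1 - 1) ≠ (b.1 - 1) * (a.1 - 1)) :
    a * b * a⁻¹ * b⁻¹ ∈ quadraticElements G := by
  have hs := ha.2.1.1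
  have ht := hb.2.1.1
  have hv := comm_val hs ht h1 h2
  have hv1 : (a * b * a⁻¹ * b⁻¹).1 - 1 = (a.1 - 1) * (b.1 - 1) - (b.1 - 1) * (a.1 - 1) := by
    rw [hv, add_sub_cancel_left]
  apply mem_Q_of (G.mul_mem (G.mul_mem (G.mul_mem ha.1 hb.1) (G.inv_mem ha.1)) (G.inv_mem hb.1))
  · rw [hv1]
    exact comm_sq_zero hs ht h1 h2
  · rw [hv1]
    exact sub_ne_zero.mpr hne
  · intro c
    have hac := sc_mem_G ha c
    refine ⟨sc (a.1 - 1) hs c * b * (sc (a.1 - 1) hs c)⁻¹ * b⁻¹,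
      G.mul_mem (G.mul_mem (G.mul_mem hac hb.1) (G.inv_mem hac)) (G.inv_mem hb.1), ?_⟩
    have e1 : (sc (a.1 - 1) hs c).1 - 1 = c • (a.1 - 1) := sc_sub_one _ hs c
    have hs' : ((sc (a.1 - 1) hs c).1 - 1) * ((sc (a.1 - 1) hs c).1 - 1) = 0 := by
      rw [e1, smul_mul_smul_comm, hs, smul_zero]
    have h1' : ((sc (a.1 - 1) hs c).1 - 1) * (b.1 - 1) * ((sc (a.1 - 1) hs c).1 - 1) = 0 := by
      rw [e1]
      have : (c • (a.1 - 1)) * (b.1 - 1) * (c • (a.1 - 1)) =
          (c * c) • ((a.1 - 1) * (b.1 - 1) * (a.1 - 1)) := by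
        simp only [smul_mul_assoc, mul_smul_comm, smul_smul]
      rw [this, h1, smul_zero]
    have h2' : (b.1 - 1) * ((sc (a.1 - 1) hs c).1 - 1) * (b.1 - 1) = 0 := by
      rw [e1]
      have : (b.1 - 1) * (c • (a.1 - 1)) * (b.1 - 1) =
          c • ((b.1 - 1) * (a.1 - 1) * (b.1 - 1)) := by
        simp only [smul_mul_assoc, mul_smul_comm]
      rw [this, h2, smul_zero]
    rw [comm_val hs' ht h1' h2', hv1, e1, smul_mul_assoc, mul_smul_comm, ← smul_sub]

variable [FiniteDimensional k M]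

theorem finrank_map_add_finrank_inf_ker (f : M →ₗ[k] M) (W : Submodule k M) :
    Module.finrank k (W.map f) + Module.finrank k (W ⊓ LinearMap.ker f : Submodule k M) =
      Module.finrank k W := by
  have h1 := LinearMap.finrank_range_add_finrank_ker (f.domRestrict W)
  rw [LinearMap.range_domRestrict] at h1
  have h2 : Module.finrank k (LinearMap.ker (f.domRestrict W)) =
      Module.finrank k (W ⊓ LinearMap.ker f : Submodule k M) := by
    rw [LinearMap.ker_domRestrict]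
    have e : Submodule.comap W.subtype (LinearMap.ker f) =
        Submodule.comap W.subtype (W ⊓ LinearMap.ker f) := by
      ext x
      simp
    rw [e]
    exact (Submodule.comapSubtypeEquivOfLe (inf_le_left : W ⊓ LinearMap.ker f ≤ W)).finrank_eq
  rw [h2] at h1
  exact h1

/-- the dimension count: a non-commuting pair excludes commuting pairs -/
theorem nc_count {A B C D : Submodule k M} {s₀ t₀ s t : M →ₗ[k] M}
    (rs₀ : LinearMap.range s₀ = A) (ks₀ : LinearMap.ker s₀ = C)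
    (rt₀ : LinearMap.range t₀ = B) (kt₀ : LinearMap.ker t₀ = D)
    (rs : LinearMap.range s = A) (ks : LinearMap.ker s = C)
    (rt : LinearMap.range t = B) (kt : LinearMap.ker t = D)
    (hAB : Module.finrank k A = Module.finrank k B)
    (h1 : t₀ * s₀ * t₀ = 0) (h2 : s₀ * t₀ * s₀ = 0) (h3 : t * s * t = 0) (h4 : s * t * s = 0)
    (hd : Module.finrank k A ≤ Module.finrank k (LinearMap.range (s₀ * t₀ - t₀ * s₀)))
    (hcomm : s * t = t * s) (hs0 : s ≠ 0) : False := by
  -- images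
  have i1 : B.map s₀ ≤ A ⊓ D := by
    rintro _ ⟨β, hβ, rfl⟩
    refine ⟨by rw [← rs₀]; exact ⟨β, rfl⟩, ?_⟩
    rw [← rt₀] at hβ
    obtain ⟨m, rfl⟩ := hβ
    rw [← kt₀]
    exact congrArg (fun f : M →ₗ[k] M => f m) h1
  have i2 : A.map t₀ ≤ B ⊓ C := by
    rintro _ ⟨α, hα, rfl⟩
    refine ⟨by rw [← rt₀]; exact ⟨α, rfl⟩, ?_⟩
    rw [← rs₀] at hα
    obtain ⟨m, rfl⟩ := hα
    rw [← ks₀]
    exact congrArg (fun f : M →ₗ[k] M => f m) h2
  have i3 : LinearMap.range (s₀ * t₀ - t₀ * s₀) ≤ B.map s₀ ⊔ A.map t₀ := by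
    rintro _ ⟨m, rfl⟩
    rw [LinearMap.sub_apply, Module.End.mul_apply, Module.End.mul_apply]
    apply Submodule.sub_mem
    · exact Submodule.mem_sup_left ⟨t₀ m, by rw [← rt₀]; exact ⟨m, rfl⟩, rfl⟩
    · exact Submodule.mem_sup_right ⟨s₀ m, by rw [← rs₀]; exact ⟨m, rfl⟩, rfl⟩
  have c1 := finrank_map_add_finrank_inf_ker s₀ B
  have c2 := finrank_map_add_finrank_inf_ker t₀ A
  rw [ks₀] at c1
  rw [kt₀] at c2
  have c3 := Submodule.finrank_sup_add_finrank_inf_eq (B.map s₀) (A.map t₀)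
  have c4 := Submodule.finrank_mono i1
  have c5 := Submodule.finrank_mono i2
  have c6 := Submodule.finrank_mono i3
  -- consequences: α + β = d and the intersection is trivial
  have c7 : Module.finrank k (B.map s₀ ⊓ A.map t₀ : Submodule k M) = 0 := by omega
  have c8 : Module.finrank k (B.map s₀) = Module.finrank k (A ⊓ D : Submodule k M) := by omega
  have c9 : Module.finrank k (A.map t₀) = Module.finrank k (B ⊓ C : Submodule k M) := by omega
  have e1 : B.map s₀ = A ⊓ D := Submodule.eq_of_le_of_finrank_le i1 (le_of_eq c8.symm)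
  have e2 : A.map t₀ = B ⊓ C := Submodule.eq_of_le_of_finrank_le i2 (le_of_eq c9.symm)
  have hdisj : (A ⊓ D) ⊓ (B ⊓ C) = ⊥ := by
    rw [← e1, ← e2]
    exact Submodule.finrank_eq_zero.mp c7
  -- the commuting pair
  have j1 : LinearMap.range (s * t) ≤ (A ⊓ D) ⊓ (B ⊓ C) := by
    rintro _ ⟨m, rfl⟩
    refine ⟨⟨by rw [← rs]; exact ⟨t m, rfl⟩, ?_⟩, ?_⟩
    · rw [← kt]
      exact congrArg (fun f : M →ₗ[k] M => f m) h3
    · rw [hcomm]
      refine ⟨by rw [← rt]; exact ⟨s m, rfl⟩, ?_⟩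
      rw [← ks]
      exact congrArg (fun f : M →ₗ[k] M => f m) h4
  rw [hdisj] at j1
  have hst : s * t = 0 := LinearMap.range_eq_bot.mp (le_bot_iff.mp j1)
  have hts : t * s = 0 := by rw [← hcomm]; exact hst
  have hBC : B ≤ C := by
    intro β hβ
    rw [← rt] at hβ
    obtain ⟨m, rfl⟩ := hβ
    rw [← ks]
    exact congrArg (fun f : M →ₗ[k] M => f m) hst
  have hAD : A ≤ D := by
    intro α hα
    rw [← rs] at hα
    obtain ⟨m, rfl⟩ := hα
    rw [← kt]
    exact congrArg (fun f : M →ₗ[k] M => f m) hts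
  have f1 : A ⊓ D = A := inf_eq_left.mpr hAD
  have f2 : B ⊓ C = B := inf_eq_left.mpr hBC
  rw [f1] at c8
  rw [f2] at c9
  have hA0 : Module.finrank k A = 0 := by omega
  apply hs0
  apply LinearMap.range_eq_bot.mp
  rw [rs]
  exact Submodule.finrank_eq_zero.mp hA0

end Cfsg.Agent.Lib.Helper8.Qr
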