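import Mathlib
import Cfsg.Agent.Lib.Helper8.Qr14

/-! Commuting criteria for root subgroups of a quadratic pair. -/

set_option autoImplicit false
set_option linter.unusedSectionVars false
set_option linter.unusedSimpArgs false

namespace Cfsg.Agent.Lib.Helper8.Qr

open Cfsg Cfsg.Agent.Lib.Helper8.Qp

universe u

variable {k : Type u} [Field k] {M : Type u} [AddCommGroup M] [Module k M]
variable {G : Subgroup (LinearMap.GeneralLinearGroup k M)}
variable [FiniteDimensional k M]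

theorem ne_one_of_mem_class {σ a : LinearMap.GeneralLinearGroup k M}
    (ha : a ∈ sameActionClass G σ) : a ≠ 1 := by
  intro h
  apply ha.1.1.2.1.2
  rw [h, Units.val_one, sub_self]

theorem commute_iff_sub_one {a b : LinearMap.GeneralLinearGroup k M} :
    a * b = b * a ↔ (a.1 - 1) * (b.1 - 1) = (b.1 - 1) * (a.1 - 1) := by
  constructor
  · intro h
    have h' := congrArg Units.val h
    rw [Units.val_mul, Units.val_mul] at h'
    have e1 : (a.1 - 1) * (b.1 - 1) = a.1 * b.1 - a.1 - b.1 + 1 := by noncomm_ring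
    have e2 : (b.1 - 1) * (a.1 - 1) = b.1 * a.1 - a.1 - b.1 + 1 := by noncomm_ring
    rw [e1, e2, h']
  · intro h
    apply Units.ext
    rw [Units.val_mul, Units.val_mul]
    have e1 : a.1 * b.1 = (a.1 - 1) * (b.1 - 1) + a.1 + b.1 - 1 := by noncomm_ring
    have e2 : b.1 * a.1 = (b.1 - 1) * (a.1 - 1) + a.1 + b.1 - 1 := by noncomm_ring
    rw [e1, e2, h]

/-- in the non-opposite case a non-commuting pair excludes commuting pairs -/
theorem all_noncomm (h2 : (2 : k) ≠ 0) (h3 : Nat.card k ≠ 3)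
    {σ τ : LinearMap.GeneralLinearGroup k M} (hσ : σ ∈ minimalQuadraticElements G)
    (hτ : τ ∈ minimalQuadraticElements G) (hopp : ¬ Opp σ τ)
    {a₀ b₀ : LinearMap.GeneralLinearGroup k M} (ha₀ : a₀ ∈ sameActionClass G σ)
    (hb₀ : b₀ ∈ sameActionClass G τ)
    (hne : (a₀.1 - 1) * (b₀.1 - 1) ≠ (b₀.1 - 1) * (a₀.1 - 1))
    {a b : LinearMap.GeneralLinearGroup k M} (ha : a ∈ sameActionClass G σ)
    (hb : b ∈ sameActionClass G τ) : (a.1 - 1) * (b.1 - 1) ≠ (b.1 - 1) * (a.1 - 1) := by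
  intro hcomm
  have hno₀ : ¬ Opp a₀ b₀ := fun h => hopp ((opp_congr ha₀ hb₀).mp h)
  have hno : ¬ Opp a b := fun h => hopp ((opp_congr ha hb).mp h)
  obtain ⟨t1, t2⟩ := triple_eq_zero_of_not_opp h2 h3 ha₀.1 hb₀.1 hno₀
  obtain ⟨t3, t4⟩ := triple_eq_zero_of_not_opp h2 h3 ha.1 hb.1 hno
  have hQ := comm_mem_Q ha₀.1.1 hb₀.1.1 t2 t1 hne
  have hrk := hσ.2 _ hQ
  unfold commutatorRank at hrk
  rw [comm_val ha₀.1.1.2.1.1 hb₀.1.1.2.1.1 t2 t1, add_sub_cancel_left] at hrk
  exact nc_count ha₀.2.2 ha₀.2.1 hb₀.2.2 hb₀.2.1 ha.2.2 ha.2.1 hb.2.2 hb.2.1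
    (rank_eq_of_Qd hσ hτ) t1 t2 t3 t4 hrk hcomm ha.1.1.2.1.2

/-- opposite pairs: no commuting nontrivial elements -/
theorem not_commute_of_opp {σ τ : LinearMap.GeneralLinearGroup k M}
    (hσ : σ ∈ minimalQuadraticElements G)
    (hopp : Opp σ τ) {a b : LinearMap.GeneralLinearGroup k M} (ha : a ∈ sameActionClass G σ)
    (hb : b ∈ sameActionClass G τ) : (a.1 - 1) * (b.1 - 1) ≠ (b.1 - 1) * (a.1 - 1) := by
  intro hcomm
  have hA0 : LinearMap.range (σ.1 - 1) ≠ ⊥ := by
    intro h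
    apply hσ.1.2.1.2
    exact LinearMap.range_eq_bot.mp h
  obtain ⟨α, hα, hα0⟩ := Submodule.exists_mem_ne_zero_of_ne_bot hA0
  have hsα : (a.1 - 1) α = 0 := by
    have : α ∈ LinearMap.ker (a.1 - 1) := by
      rw [ha.2.1]
      exact range_le_ker_of_sq hσ.1.2.1.1 hα
    exact this
  have h1 := congrArg (fun f : M →ₗ[k] M => f α) hcomm
  simp only [Module.End.mul_apply] at h1
  rw [hsα, map_zero] at h1
  -- (b-1) α ∈ B ⊓ C = ⊥
  have h2 : (b.1 - 1) α ∈ LinearMap.range (τ.1 - 1) ⊓ LinearMap.ker (σ.1 - 1) := by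
    refine ⟨by rw [← hb.2.2]; exact ⟨α, rfl⟩, ?_⟩
    rw [← ha.2.1]
    exact h1
  rw [hopp.2, Submodule.mem_bot] at h2
  have h3 : α ∈ LinearMap.range (σ.1 - 1) ⊓ LinearMap.ker (τ.1 - 1) := by
    refine ⟨hα, ?_⟩
    rw [← hb.2.1]
    exact h2
  rw [hopp.1, Submodule.mem_bot] at h3
  exact hα0 h3

/-- opposite pairs: no nontrivial element of `E(σ)` normalizes `E(τ)` -/
theorem not_normalize_of_opp {σ τ : LinearMap.GeneralLinearGroup k M}
    (hτ : τ ∈ minimalQuadraticElements G)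
    (hopp : Opp σ τ) {e : LinearMap.GeneralLinearGroup k M} (he : e ∈ sameActionClass G σ)
    (hn : e * τ * e⁻¹ ∈ sameActionSubgroup G τ) : False := by
  have hne : e * τ * e⁻¹ ≠ 1 := by
    intro h
    have : τ = 1 := by
      have h' := congrArg (fun x => e⁻¹ * x * e) h
      simp only [mul_one, inv_mul_cancel] at h'
      rw [← h']
      group
    exact ne_one_of_mem_class (self_mem_sameActionClass hτ) this
  have hcl := (mem_sameActionSubgroup hτ hn).resolve_left hne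
  have hr := hcl.2.2
  rw [conj_sub_one, range_conj] at hr
  have hB0 : LinearMap.range (τ.1 - 1) ≠ ⊥ := by
    intro h
    apply hτ.1.2.1.2
    exact LinearMap.range_eq_bot.mp h
  obtain ⟨β, hβ, hβ0⟩ := Submodule.exists_mem_ne_zero_of_ne_bot hB0
  have h1 : e.1 β ∈ LinearMap.range (τ.1 - 1) := by
    rw [← hr]; exact ⟨β, hβ, rfl⟩
  have h2 : (e.1 - 1) β ∈ LinearMap.range (τ.1 - 1) := by
    rw [LinearMap.sub_apply, Module.End.one_apply]
    exact Submodule.sub_mem _ h1 hβ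
  have h3 : (e.1 - 1) β ∈ LinearMap.range (σ.1 - 1) := by
    rw [← he.2.2]; exact ⟨β, rfl⟩
  have h4 : (e.1 - 1) β ∈ LinearMap.range (σ.1 - 1) ⊓ LinearMap.range (τ.1 - 1) := ⟨h3, h2⟩
  rw [range_inf_range_eq_bot hτ hopp, Submodule.mem_bot] at h4
  have h5 : β ∈ LinearMap.range (τ.1 - 1) ⊓ LinearMap.ker (σ.1 - 1) := by
    refine ⟨hβ, ?_⟩
    rw [← he.2.1]
    exact h4
  rw [hopp.2, Submodule.mem_bot] at h5
  exact hβ0 h5

/-- the commuting criteria -/
theorem commutator_eq_bot_of_cond (h2 : (2 : k) ≠ 0) (h3 : Nat.card k ≠ 3)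
    {σ τ : LinearMap.GeneralLinearGroup k M} (hσ : σ ∈ minimalQuadraticElements G)
    (hτ : τ ∈ minimalQuadraticElements G)
    (h : (∃ e ∈ sameActionSubgroup G σ, e ≠ 1 ∧ ∃ f ∈ sameActionSubgroup G τ, f ≠ 1 ∧
        e * f = f * e) ∨
      sameActionSubgroup G σ ⊓ Subgroup.normalizer
        (sameActionSubgroup G τ : Set (LinearMap.GeneralLinearGroup k M)) ≠ ⊥) :
    ⁅sameActionSubgroup G σ, sameActionSubgroup G τ⁆ = ⊥ := by
  rw [Subgroup.commutator_eq_bot_iff_le_centralizer]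
  intro a ha
  rw [Subgroup.mem_centralizer_iff]
  intro b hb
  by_contra hab
  have hb' : b ∈ sameActionSubgroup G τ := hb
  have ha1 : a ≠ 1 := by
    rintro rfl
    apply hab; simp
  have hb1 : b ≠ 1 := by
    rintro rfl
    apply hab; simp
  have hac := (mem_sameActionSubgroup hσ ha).resolve_left ha1
  have hbc := (mem_sameActionSubgroup hτ hb').resolve_left hb1
  have hne : (a.1 - 1) * (b.1 - 1) ≠ (b.1 - 1) * (a.1 - 1) := by
    intro h'
    apply hab
    exact (commute_iff_sub_one.mpr h').symm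
  by_cases hopp : Opp σ τ
  · rcases h with ⟨e, he, he1, f, hf, hf1, hef⟩ | hN
    · have hec := (mem_sameActionSubgroup hσ he).resolve_left he1
      have hfc := (mem_sameActionSubgroup hτ hf).resolve_left hf1
      exact not_commute_of_opp hσ hopp hec hfc (commute_iff_sub_one.mp hef)
    · rw [Subgroup.ne_bot_iff_exists_ne_one] at hN
      obtain ⟨⟨e, he, heN⟩, he1⟩ := hN
      have he1' : e ≠ 1 := fun h' => he1 (Subtype.ext h')
      have hec := (mem_sameActionSubgroup hσ he).resolve_left he1'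
      have := (Subgroup.mem_normalizer_iff.mp heN τ).mp (self_mem_sameActionSubgroup hτ)
      exact not_normalize_of_opp hτ hopp hec this
  · rcases h with ⟨e, he, he1, f, hf, hf1, hef⟩ | hN
    · have hec := (mem_sameActionSubgroup hσ he).resolve_left he1
      have hfc := (mem_sameActionSubgroup hτ hf).resolve_left hf1
      exact all_noncomm h2 h3 hσ hτ hopp hac hbc hne hec hfc (commute_iff_sub_one.mp hef)
    · rw [Subgroup.ne_bot_iff_exists_ne_one] at hN
      obtain ⟨⟨e, he, heN⟩, he1⟩ := hN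
      have he1' : e ≠ 1 := fun h' => he1 (Subtype.ext h')
      have hec := (mem_sameActionSubgroup hσ he).resolve_left he1'
      have hn1 := (Subgroup.mem_normalizer_iff.mp heN τ).mp (self_mem_sameActionSubgroup hτ)
      -- ρ = [e, τ] ∈ F
      have hρF : e * τ * e⁻¹ * τ⁻¹ ∈ sameActionSubgroup G τ :=
        Subgroup.mul_mem _ hn1 (Subgroup.inv_mem _ (self_mem_sameActionSubgroup hτ))
      have hτc := self_mem_sameActionClass hτ
      have hno : ¬ Opp e τ := fun h' => hopp ((opp_congr hec hτc).mp h')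
      obtain ⟨t1, t2⟩ := triple_eq_zero_of_not_opp h2 h3 hec.1 hτ hno
      have hv := comm_val hec.1.1.2.1.1 hτ.1.2.1.1 t2 t1
      have hne' := all_noncomm h2 h3 hσ hτ hopp hac hbc hne hec hτc
      have hρ1 : e * τ * e⁻¹ * τ⁻¹ ≠ 1 := by
        intro h'
        rw [h', Units.val_one] at hv
        apply hne'
        have : (e.1 - 1) * (τ.1 - 1) - (τ.1 - 1) * (e.1 - 1) = 0 := by
          have := hv
          rw [left_eq_add] at this
          exact this
        exact sub_eq_zero.mp this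
      have hρc := (mem_sameActionSubgroup hτ hρF).resolve_left hρ1
      have hfin := all_noncomm h2 h3 hσ hτ hopp hac hbc hne hec hρc
      apply hfin
      have hss := hec.1.1.2.1.1
      have e1 : (e.1 - 1) * ((e.1 - 1) * (τ.1 - 1) - (τ.1 - 1) * (e.1 - 1)) =
          (e.1 - 1) * (e.1 - 1) * (τ.1 - 1) - (e.1 - 1) * (τ.1 - 1) * (e.1 - 1) := by
        noncomm_ring
      have e2 : ((e.1 - 1) * (τ.1 - 1) - (τ.1 - 1) * (e.1 - 1)) * (e.1 - 1) =
          (e.1 - 1) * (τ.1 - 1) * (e.1 - 1) - (τ.1 - 1) * ((e.1 - 1) * (e.1 - 1)) := by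
        noncomm_ring
      rw [hv, add_sub_cancel_left, e1, e2, hss, t2, zero_mul, mul_zero]

end Cfsg.Agent.Lib.Helper8.Qr
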