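import Mathlib
import Cfsg.Agent.Lib.Helper8.Qr15
import Cfsg.Agent.S5061

/-! Existence of opposite elements in an (irreducible) quadratic pair. -/

set_option autoImplicit false
set_option linter.unusedSectionVars false
set_option linter.unusedSimpArgs false

namespace Cfsg.Agent.Lib.Helper8.Qr

open Cfsg Cfsg.Agent.Lib.Helper8.Qp

universe u

variable {k : Type u} [Field k] {M : Type u} [AddCommGroup M] [Module k M]
variable {G : Subgroup (LinearMap.GeneralLinearGroup k M)}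
variable [FiniteDimensional k M]

theorem opp_conj {σ τ : LinearMap.GeneralLinearGroup k M} (g : LinearMap.GeneralLinearGroup k M)
    (h : Opp σ τ) : Opp (g * σ * g⁻¹) (g * τ * g⁻¹) := by
  unfold Opp
  rw [conj_sub_one, conj_sub_one, range_conj, range_conj, ker_conj, ker_conj,
    ← Submodule.map_inf _ (units_injective g), ← Submodule.map_inf _ (units_injective g), h.1, h.2,
    Submodule.map_bot]
  exact ⟨rfl, rfl⟩

theorem opp_conj_iff {σ τ : LinearMap.GeneralLinearGroup k M}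
    (g : LinearMap.GeneralLinearGroup k M) : Opp (g * σ * g⁻¹) (g * τ * g⁻¹) ↔ Opp σ τ := by
  constructor
  · intro h
    have := opp_conj g⁻¹ h
    have e1 : g⁻¹ * (g * σ * g⁻¹) * g⁻¹⁻¹ = σ := by group
    have e2 : g⁻¹ * (g * τ * g⁻¹) * g⁻¹⁻¹ = τ := by group
    rw [e1, e2] at this
    exact this
  · exact opp_conj g

/-- in a quadratic pair every member of `𝒬_d` is opposite to one of its conjugates -/
theorem exists_opp (hG : IsQuadraticPair G) (h2 : (2 : k) ≠ 0) (h3 : Nat.card k ≠ 3)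
    {σ : LinearMap.GeneralLinearGroup k M} (hσ : σ ∈ minimalQuadraticElements G) :
    ∃ g ∈ G, Opp σ (g * σ * g⁻¹) := by
  by_contra hno
  push Not at hno
  set W : Set (Subgroup (LinearMap.GeneralLinearGroup k M)) :=
    {A | ∃ g ∈ G, A = sameActionSubgroup G (g * σ * g⁻¹)} with hW
  have hWG : ∀ A ∈ W, A ≤ G := by
    rintro A ⟨g, _, rfl⟩
    exact sameActionSubgroup_le _
  have hWconj : ∀ A ∈ W, ∀ g ∈ G, conjBy A g ∈ W := by
    rintro A ⟨x, hx, rfl⟩ g hg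
    refine ⟨g * x, G.mul_mem hg hx, ?_⟩
    rw [conjBy_sameActionSubgroup hg]
    have e : g * (x * σ * x⁻¹) * g⁻¹ = g * x * σ * (g * x)⁻¹ := by group
    rw [e]
  have hWW : ∀ A ∈ W, ∀ B ∈ W, IsUnipotentOn (A ⊔ B) := by
    rintro A ⟨x, hx, rfl⟩ B ⟨y, hy, rfl⟩
    apply unip_of_not_opp h2 h3 (conj_mem_Qd hx hσ) (conj_mem_Qd hy hσ)
    intro hopp
    have h1 := opp_conj x⁻¹ hopp
    have e1 : x⁻¹ * (x * σ * x⁻¹) * x⁻¹⁻¹ = σ := by group
    have e2 : x⁻¹ * (y * σ * y⁻¹) * x⁻¹⁻¹ = (x⁻¹ * y) * σ * (x⁻¹ * y)⁻¹ := by group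
    rw [e1, e2] at h1
    exact hno (x⁻¹ * y) (G.mul_mem (G.inv_mem hx) hy) h1
  obtain ⟨hU, hN⟩ := Cfsg.Agent.S5061.result hWG hWW hWconj
  obtain ⟨m₀, hm₀⟩ := hG.1.1
  have : Nontrivial M := ⟨⟨m₀, 0, hm₀⟩⟩
  have hF := Cfsg.Agent.Lib.Helper8.Unip.fixSp_ne_bot
    ((Cfsg.Agent.Lib.Helper8.isUnipotentOn_iff_unip _).mp hU)
  have hinv : ∀ g ∈ G, ∀ w ∈ Cfsg.Agent.Lib.Helper8.fixSp (Units.coeHom (M →ₗ[k] M))
      (⨆ A ∈ W, A), (g : M →ₗ[k] M) w ∈ Cfsg.Agent.Lib.Helper8.fixSp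
        (Units.coeHom (M →ₗ[k] M)) (⨆ A ∈ W, A) := by
    intro g hg w hw
    apply Cfsg.Agent.Lib.Helper8.apply_mem_fixSp_of_conj (ρ := Units.coeHom (M →ₗ[k] M)) _ hw
    intro x hx
    have := hN g⁻¹ (G.inv_mem hg)
    rw [← this]
    exact ⟨x, hx, by simp [MulAut.conj_apply]⟩
  rcases hG.1.2 _ hinv with h | h
  · exact hF h
  · -- σ acts trivially
    have hσN : σ ∈ ⨆ A ∈ W, A := by
      have hmem : sameActionSubgroup G σ ∈ W := ⟨1, G.one_mem, by simp⟩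
      exact (le_iSup₂_of_le (sameActionSubgroup G σ) hmem le_rfl :
        sameActionSubgroup G σ ≤ ⨆ A ∈ W, A) (self_mem_sameActionSubgroup hσ)
    apply hσ.1.2.1.2
    apply LinearMap.ext
    intro m
    have hm : m ∈ Cfsg.Agent.Lib.Helper8.fixSp (Units.coeHom (M →ₗ[k] M)) (⨆ A ∈ W, A) := by
      rw [h]; exact Submodule.mem_top
    rw [Cfsg.Agent.Lib.Helper8.mem_fixSp] at hm
    have := hm σ hσN
    rw [LinearMap.sub_apply, Module.End.one_apply, LinearMap.zero_apply, sub_eq_zero]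
    exact this

end Cfsg.Agent.Lib.Helper8.Qr
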