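import Mathlib
import Cfsg.Agent.Lib.Helper8.Qr16

/-! Non-opposite, non-commuting pairs: the structure of the commutators. -/

set_option autoImplicit false
set_option linter.unusedSectionVars false
set_option linter.unusedSimpArgs false

namespace Cfsg.Agent.Lib.Helper8.Qr

open Cfsg Cfsg.Agent.Lib.Helper8.Qp

universe u

variable {k : Type u} [Field k] {M : Type u} [AddCommGroup M] [Module k M]
variable {G : Subgroup (LinearMap.GeneralLinearGroup k M)}
variable [FiniteDimensional k M]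

/-- the structure of a non-commuting pair with vanishing triple products -/
theorem nc_struct {A B C D : Submodule k M} {s t : M →ₗ[k] M}
    (rs : LinearMap.range s = A) (ks : LinearMap.ker s = C)
    (rt : LinearMap.range t = B) (kt : LinearMap.ker t = D)
    (hAB : Module.finrank k A = Module.finrank k B)
    (h1 : t * s * t = 0) (h2 : s * t * s = 0)
    (hd : Module.finrank k A ≤ Module.finrank k (LinearMap.range (s * t - t * s))) :
    B.map s = A ⊓ D ∧ A.map t = B ⊓ C ∧ (A ⊓ D) ⊓ (B ⊓ C) = ⊥ ∧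
      LinearMap.range (s * t - t * s) = (A ⊓ D) ⊔ (B ⊓ C) ∧
      LinearMap.ker (s * t - t * s) = (A ⊔ D) ⊓ (B ⊔ C) ∧
      Module.finrank k (LinearMap.range (s * t - t * s)) = Module.finrank k A := by
  have i1 : B.map s ≤ A ⊓ D := by
    rintro _ ⟨β, hβ, rfl⟩
    refine ⟨by rw [← rs]; exact ⟨β, rfl⟩, ?_⟩
    rw [← rt] at hβ
    obtain ⟨m, rfl⟩ := hβ
    rw [← kt]
    exact congrArg (fun f : M →ₗ[k] M => f m) h1
  have i2 : A.map t ≤ B ⊓ C := by
    rintro _ ⟨α, hα, rfl⟩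
    refine ⟨by rw [← rt]; exact ⟨α, rfl⟩, ?_⟩
    rw [← rs] at hα
    obtain ⟨m, rfl⟩ := hα
    rw [← ks]
    exact congrArg (fun f : M →ₗ[k] M => f m) h2
  have i3 : LinearMap.range (s * t - t * s) ≤ B.map s ⊔ A.map t := by
    rintro _ ⟨m, rfl⟩
    rw [LinearMap.sub_apply, Module.End.mul_apply, Module.End.mul_apply]
    apply Submodule.sub_mem
    · exact Submodule.mem_sup_left ⟨t m, by rw [← rt]; exact ⟨m, rfl⟩, rfl⟩
    · exact Submodule.mem_sup_right ⟨s m, by rw [← rs]; exact ⟨m, rfl⟩, rfl⟩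
  have c1 := finrank_map_add_finrank_inf_ker s B
  have c2 := finrank_map_add_finrank_inf_ker t A
  rw [ks] at c1
  rw [kt] at c2
  have c3 := Submodule.finrank_sup_add_finrank_inf_eq (B.map s) (A.map t)
  have c4 := Submodule.finrank_mono i1
  have c5 := Submodule.finrank_mono i2
  have c6 := Submodule.finrank_mono i3
  have c7 : Module.finrank k (B.map s ⊓ A.map t : Submodule k M) = 0 := by omega
  have c8 : Module.finrank k (B.map s) = Module.finrank k (A ⊓ D : Submodule k M) := by omega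
  have c9 : Module.finrank k (A.map t) = Module.finrank k (B ⊓ C : Submodule k M) := by omega
  have e1 : B.map s = A ⊓ D := Submodule.eq_of_le_of_finrank_le i1 (le_of_eq c8.symm)
  have e2 : A.map t = B ⊓ C := Submodule.eq_of_le_of_finrank_le i2 (le_of_eq c9.symm)
  have hdisj : (A ⊓ D) ⊓ (B ⊓ C) = ⊥ := by
    rw [← e1, ← e2]
    exact Submodule.finrank_eq_zero.mp c7
  have hrange : LinearMap.range (s * t - t * s) = (A ⊓ D) ⊔ (B ⊓ C) := by
    rw [← e1, ← e2]
    apply Submodule.eq_of_le_of_finrank_le i3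
    omega
  refine ⟨e1, e2, hdisj, hrange, ?_, by omega⟩
  apply le_antisymm
  · intro v hv
    have hv' : (s * t - t * s) v = 0 := hv
    rw [LinearMap.sub_apply, Module.End.mul_apply, Module.End.mul_apply, sub_eq_zero] at hv'
    have m1 : s (t v) ∈ A ⊓ D := by
      rw [← e1]; exact ⟨t v, by rw [← rt]; exact ⟨v, rfl⟩, rfl⟩
    have m2 : t (s v) ∈ B ⊓ C := by
      rw [← e2]; exact ⟨s v, by rw [← rs]; exact ⟨v, rfl⟩, rfl⟩
    have z1 : s (t v) = 0 := by
      have : s (t v) ∈ (A ⊓ D) ⊓ (B ⊓ C) := ⟨m1, by rw [hv']; exact m2⟩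
      rw [hdisj] at this
      exact (Submodule.mem_bot k).mp this
    have z2 : t (s v) = 0 := by rw [← hv']; exact z1
    constructor
    · -- t v ∈ B ⊓ C = t(A)
      have : t v ∈ A.map t := by
        rw [e2]
        refine ⟨by rw [← rt]; exact ⟨v, rfl⟩, ?_⟩
        rw [← ks]; exact z1
      obtain ⟨α, hα, hαv⟩ := this
      have hD : v - α ∈ D := by
        rw [← kt, LinearMap.mem_ker, map_sub, hαv, sub_self]
      have : v = α + (v - α) := by abel
      rw [this]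
      exact Submodule.add_mem_sup hα hD
    · have : s v ∈ B.map s := by
        rw [e1]
        refine ⟨by rw [← rs]; exact ⟨v, rfl⟩, ?_⟩
        rw [← kt]; exact z2
      obtain ⟨β, hβ, hβv⟩ := this
      have hC : v - β ∈ C := by
        rw [← ks, LinearMap.mem_ker, map_sub, hβv, sub_self]
      have : v = β + (v - β) := by abel
      rw [this]
      exact Submodule.add_mem_sup hβ hC
  · rintro v ⟨hv1, hv2⟩
    obtain ⟨α, hα, δ, hδ, rfl⟩ := Submodule.mem_sup.mp hv1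
    obtain ⟨β, hβ, γ, hγ, hβγ⟩ := Submodule.mem_sup.mp hv2
    have tδ : t δ = 0 := by rw [← kt] at hδ; exact hδ
    have sγ : s γ = 0 := by rw [← ks] at hγ; exact hγ
    have w1 : s (t (α + δ)) = 0 := by
      rw [map_add, tδ, add_zero]
      have : t α ∈ B ⊓ C := by rw [← e2]; exact ⟨α, hα, rfl⟩
      have h' := this.2
      rw [← ks] at h'
      exact h'
    have w2 : t (s (α + δ)) = 0 := by
      rw [← hβγ, map_add, sγ, add_zero]
      have : s β ∈ A ⊓ D := by rw [← e1]; exact ⟨β, hβ, rfl⟩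
      have h' := this.2
      rw [← kt] at h'
      exact h'
    rw [LinearMap.mem_ker, LinearMap.sub_apply, Module.End.mul_apply, Module.End.mul_apply, w1, w2,
      sub_zero]

/-- the commutators of a non-opposite non-commuting pair all lie in one class -/
theorem comm_mem_class (h2 : (2 : k) ≠ 0) (h3 : Nat.card k ≠ 3)
    {σ τ : LinearMap.GeneralLinearGroup k M} (hσ : σ ∈ minimalQuadraticElements G)
    (hτ : τ ∈ minimalQuadraticElements G) (hopp : ¬ Opp σ τ)
    (hne : (σ.1 - 1) * (τ.1 - 1) ≠ (τ.1 - 1) * (σ.1 - 1)) :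
    σ * τ * σ⁻¹ * τ⁻¹ ∈ minimalQuadraticElements G ∧
    ∀ a ∈ sameActionClass G σ, ∀ b ∈ sameActionClass G τ,
      a * b * a⁻¹ * b⁻¹ ∈ sameActionClass G (σ * τ * σ⁻¹ * τ⁻¹) := by
  have hσc := self_mem_sameActionClass hσ
  have hτc := self_mem_sameActionClass hτ
  have key : ∀ a ∈ sameActionClass G σ, ∀ b ∈ sameActionClass G τ,
      a * b * a⁻¹ * b⁻¹ ∈ quadraticElements G ∧
      LinearMap.range ((a * b * a⁻¹ * b⁻¹).1 - 1) =
        (LinearMap.range (σ.1 - 1) ⊓ LinearMap.ker (τ.1 - 1)) ⊔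
          (LinearMap.range (τ.1 - 1) ⊓ LinearMap.ker (σ.1 - 1)) ∧
      LinearMap.ker ((a * b * a⁻¹ * b⁻¹).1 - 1) =
        (LinearMap.range (σ.1 - 1) ⊔ LinearMap.ker (τ.1 - 1)) ⊓
          (LinearMap.range (τ.1 - 1) ⊔ LinearMap.ker (σ.1 - 1)) ∧
      commutatorRank (a * b * a⁻¹ * b⁻¹) = commutatorRank σ := by
    intro a ha b hb
    have hno : ¬ Opp a b := fun h => hopp ((opp_congr ha hb).mp h)
    obtain ⟨t1, t2⟩ := triple_eq_zero_of_not_opp h2 h3 ha.1 hb.1 hno
    have hne' := all_noncomm h2 h3 hσ hτ hopp hσc hτc hne ha hb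
    have hQ := comm_mem_Q ha.1.1 hb.1.1 t2 t1 hne'
    have hrk := hσ.2 _ hQ
    have hv : (a * b * a⁻¹ * b⁻¹).1 - 1 = (a.1 - 1) * (b.1 - 1) - (b.1 - 1) * (a.1 - 1) := by
      rw [comm_val ha.1.1.2.1.1 hb.1.1.2.1.1 t2 t1, add_sub_cancel_left]
    unfold commutatorRank at hrk ⊢
    rw [hv] at hrk ⊢
    obtain ⟨-, -, -, e4, e5, e6⟩ := nc_struct ha.2.2 ha.2.1 hb.2.2 hb.2.1
      (rank_eq_of_Qd hσ hτ) t1 t2 hrk
    exact ⟨hQ, e4, e5, e6⟩
  obtain ⟨q1, q2, q3, q4⟩ := key σ hσc τ hτc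
  have hρ : σ * τ * σ⁻¹ * τ⁻¹ ∈ minimalQuadraticElements G :=
    mem_Qd_of_rank_le hσ q1 (le_of_eq q4)
  refine ⟨hρ, ?_⟩
  intro a ha b hb
  obtain ⟨p1, p2, p3, p4⟩ := key a ha b hb
  refine ⟨mem_Qd_of_rank_le hσ p1 (le_of_eq p4), ?_, ?_⟩
  · rw [p3, q3]
  · rw [p2, q2]

end Cfsg.Agent.Lib.Helper8.Qr
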