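import Mathlib
import Cfsg.Agent.Lib.Helper8.Qr17

/-! The `k`-dimension of a root subgroup `E(σ)`. -/

set_option autoImplicit false
set_option linter.unusedSectionVars false
set_option linter.unusedSimpArgs false

namespace Cfsg.Agent.Lib.Helper8.Qr

open Cfsg Cfsg.Agent.Lib.Helper8.Qp

universe u

variable {k : Type u} [Field k] {M : Type u} [AddCommGroup M] [Module k M]
variable {G : Subgroup (LinearMap.GeneralLinearGroup k M)}

/-- the set `E - 1` -/
def eSet (E : Subgroup (LinearMap.GeneralLinearGroup k M)) : Set (M →ₗ[k] M) :=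
  {x | ∃ a ∈ E, a.1 - 1 = x}

/-- the dimension of the span of `E - 1` -/
noncomputable def dl (E : Subgroup (LinearMap.GeneralLinearGroup k M)) : ℕ :=
  Module.finrank k (Submodule.span k (eSet E))

/-- conjugation by a unit as a linear map on `End M` -/
def cL (g : LinearMap.GeneralLinearGroup k M) : (M →ₗ[k] M) →ₗ[k] (M →ₗ[k] M) where
  toFun x := g.1 * x * (g⁻¹).1
  map_add' x y := by rw [mul_add, add_mul]
  map_smul' c x := by
    rw [RingHom.id_apply, mul_smul_comm, smul_mul_assoc]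

theorem cL_apply (g : LinearMap.GeneralLinearGroup k M) (x : M →ₗ[k] M) :
    cL g x = g.1 * x * (g⁻¹).1 := rfl

theorem cL_injective (g : LinearMap.GeneralLinearGroup k M) : Function.Injective (cL g) := by
  intro x y h
  rw [cL_apply, cL_apply] at h
  have := congrArg (fun z => (g⁻¹).1 * z * g.1) h
  have e : ∀ z : M →ₗ[k] M, (g⁻¹).1 * (g.1 * z * (g⁻¹).1) * g.1 = z := by
    intro z
    calc (g⁻¹).1 * (g.1 * z * (g⁻¹).1) * g.1 = ((g⁻¹).1 * g.1) * z * ((g⁻¹).1 * g.1) := by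
          noncomm_ring
      _ = z := by rw [units_val_inv_mul, one_mul, mul_one]
  have h' : (g⁻¹).1 * (g.1 * x * (g⁻¹).1) * g.1 = (g⁻¹).1 * (g.1 * y * (g⁻¹).1) * g.1 := this
  rw [e, e] at h'
  exact h'

theorem eSet_conjBy (E : Subgroup (LinearMap.GeneralLinearGroup k M))
    (g : LinearMap.GeneralLinearGroup k M) : eSet (conjBy E g) = cL g '' eSet E := by
  ext x
  constructor
  · rintro ⟨_, ⟨a, ha, rfl⟩, rfl⟩
    refine ⟨a.1 - 1, ⟨a, ha, rfl⟩, ?_⟩
    rw [cL_apply]
    exact (conj_sub_one g a).symm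
  · rintro ⟨_, ⟨a, ha, rfl⟩, rfl⟩
    refine ⟨g * a * g⁻¹, ⟨a, ha, rfl⟩, ?_⟩
    rw [cL_apply]
    exact conj_sub_one g a

theorem dl_conjBy (E : Subgroup (LinearMap.GeneralLinearGroup k M))
    (g : LinearMap.GeneralLinearGroup k M) : dl (conjBy E g) = dl E := by
  unfold dl
  rw [eSet_conjBy, ← Submodule.map_span]
  exact (LinearEquiv.finrank_eq
    (Submodule.equivMapOfInjective (cL g) (cL_injective g) (Submodule.span k (eSet E)))).symm

variable [FiniteDimensional k M]

/-- `E(σ) - 1` as a subspace -/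
def eSub {σ : LinearMap.GeneralLinearGroup k M} (hσ : σ ∈ minimalQuadraticElements G) :
    Submodule k (M →ₗ[k] M) where
  carrier := eSet (sameActionSubgroup G σ)
  zero_mem' := ⟨1, Subgroup.one_mem _, by simp⟩
  add_mem' := by
    rintro _ _ ⟨a, ha, rfl⟩ ⟨b, hb, rfl⟩
    refine ⟨a * b, Subgroup.mul_mem _ ha hb, ?_⟩
    have hia := inE_of_mem_sameActionSubgroup hσ ha
    have hib := inE_of_mem_sameActionSubgroup hσ hb
    have hAC := range_le_ker_of_sq hσ.1.2.1.1
    have hab : (a.1 - 1) * (b.1 - 1) = 0 := hia.mul_eq_zero hAC hib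
    rw [Units.val_mul]
    calc a.1 * b.1 - 1 = (a.1 - 1) * (b.1 - 1) + ((a.1 - 1) + (b.1 - 1)) := by noncomm_ring
      _ = (a.1 - 1) + (b.1 - 1) := by rw [hab, zero_add]
  smul_mem' := by
    rintro c _ ⟨a, ha, rfl⟩
    by_cases hc : c = 0
    · exact ⟨1, Subgroup.one_mem _, by simp [hc]⟩
    · rcases mem_sameActionSubgroup hσ ha with rfl | ha'
      · exact ⟨1, Subgroup.one_mem _, by simp⟩
      · exact ⟨sc (a.1 - 1) ha'.1.1.2.1.1 c,
          sameActionClass_le (sc_mem_sameActionClass hσ ha' hc), sc_sub_one _ _ c⟩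

theorem mem_eSub {σ : LinearMap.GeneralLinearGroup k M} (hσ : σ ∈ minimalQuadraticElements G)
    {x : M →ₗ[k] M} : x ∈ eSub hσ ↔ ∃ a ∈ sameActionSubgroup G σ, a.1 - 1 = x := Iff.rfl

theorem dl_eq_finrank {σ : LinearMap.GeneralLinearGroup k M}
    (hσ : σ ∈ minimalQuadraticElements G) :
    dl (sameActionSubgroup G σ) = Module.finrank k (eSub hσ) := by
  unfold dl
  have : Submodule.span k (eSet (sameActionSubgroup G σ)) = eSub hσ := Submodule.span_eq (eSub hσ)
  rw [this]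

/-- opposite root subgroups have the same dimension -/
theorem dl_eq_of_opp (h2 : (2 : k) ≠ 0) (h3 : Nat.card k ≠ 3)
    {σ τ : LinearMap.GeneralLinearGroup k M} (hσ : σ ∈ minimalQuadraticElements G)
    (hτ : τ ∈ minimalQuadraticElements G) (hopp : Opp σ τ) :
    dl (sameActionSubgroup G σ) = dl (sameActionSubgroup G τ) := by
  obtain ⟨b, hb, P⟩ := exists_partner_G h2 h3 hσ hτ hopp (self_mem_sameActionClass hσ)
  have hgG : σ * b⁻¹ ∈ G := G.mul_mem hσ.1.1 (G.inv_mem hb.1.1.1)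
  obtain ⟨m1, m2⟩ := map_g_of_partner hσ hτ P
  have e := conjBy_of_map hgG m1 m2
  rw [← e, dl_conjBy]

end Cfsg.Agent.Lib.Helper8.Qr
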