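import Mathlib
import Cfsg.Agent.Lib.Helper8.Qr18

/-! Commutators of root subgroups: `[σ, F] = E([σ, τ])`. -/

set_option autoImplicit false
set_option linter.unusedSectionVars false
set_option linter.unusedSimpArgs false

namespace Cfsg.Agent.Lib.Helper8.Qr

open Cfsg Cfsg.Agent.Lib.Helper8.Qp

universe u

variable {k : Type u} [Field k] {M : Type u} [AddCommGroup M] [Module k M]
variable {G : Subgroup (LinearMap.GeneralLinearGroup k M)}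
variable [FiniteDimensional k M]

theorem nun_ne_zero {ρ ν : LinearMap.GeneralLinearGroup k M} (hopp : Opp ρ ν)
    (hν : ν.1 - 1 ≠ 0) : (ν.1 - 1) * (ρ.1 - 1) * (ν.1 - 1) ≠ 0 := by
  intro h0
  have hN0 : LinearMap.range (ν.1 - 1) ≠ ⊥ := fun h => hν (LinearMap.range_eq_bot.mp h)
  obtain ⟨y, hy, hy0⟩ := Submodule.exists_mem_ne_zero_of_ne_bot hN0
  obtain ⟨m, rfl⟩ := hy
  have h1 := congrArg (fun f : M →ₗ[k] M => f m) h0
  simp only [Module.End.mul_apply, LinearMap.zero_apply] at h1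
  have h2 : (ρ.1 - 1) ((ν.1 - 1) m) ∈ LinearMap.range (ρ.1 - 1) ⊓ LinearMap.ker (ν.1 - 1) :=
    ⟨⟨_, rfl⟩, h1⟩
  rw [hopp.1, Submodule.mem_bot] at h2
  have h3 : (ν.1 - 1) m ∈ LinearMap.range (ν.1 - 1) ⊓ LinearMap.ker (ρ.1 - 1) := ⟨⟨m, rfl⟩, h2⟩
  rw [hopp.2, Submodule.mem_bot] at h3
  exact hy0 h3

/-- the dimension of `E(σ)` equals that of `E([σ, τ])` -/
theorem dl_eq_comm (hG : IsQuadraticPair G) (h2 : (2 : k) ≠ 0) (h3 : Nat.card k ≠ 3)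
    {σ τ : LinearMap.GeneralLinearGroup k M} (hσ : σ ∈ minimalQuadraticElements G)
    (hτ : τ ∈ minimalQuadraticElements G) (hopp : ¬ Opp σ τ)
    (hne : (σ.1 - 1) * (τ.1 - 1) ≠ (τ.1 - 1) * (σ.1 - 1)) :
    dl (sameActionSubgroup G σ) = dl (sameActionSubgroup G (σ * τ * σ⁻¹ * τ⁻¹)) := by
  obtain ⟨hρ, -⟩ := comm_mem_class h2 h3 hσ hτ hopp hne
  obtain ⟨g, hg, hoppρ⟩ := exists_opp hG h2 h3 hρ
  have hν := conj_mem_Qd hg hρ
  set ρ := σ * τ * σ⁻¹ * τ⁻¹ with hρdef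
  set ν := g * ρ * g⁻¹ with hνdef
  obtain ⟨t1, t2⟩ := triple_eq_zero_of_not_opp h2 h3 hσ hτ hopp
  have hu : ρ.1 - 1 = (σ.1 - 1) * (τ.1 - 1) - (τ.1 - 1) * (σ.1 - 1) := by
    rw [hρdef, comm_val hσ.1.2.1.1 hτ.1.2.1.1 t2 t1, add_sub_cancel_left]
  by_cases o1 : Opp σ ν
  · rw [dl_eq_of_opp h2 h3 hσ hν o1, ← dl_eq_of_opp h2 h3 hρ hν hoppρ]
  · have hσ₁ : τ * σ * τ⁻¹ ∈ minimalQuadraticElements G := conj_mem_Qd hτ.1.1 hσ
    by_cases o2 : Opp (τ * σ * τ⁻¹) ν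
    · have e1 : dl (sameActionSubgroup G (τ * σ * τ⁻¹)) = dl (sameActionSubgroup G σ) := by
        rw [← conjBy_sameActionSubgroup hτ.1.1, dl_conjBy]
      rw [← e1, dl_eq_of_opp h2 h3 hσ₁ hν o2, ← dl_eq_of_opp h2 h3 hρ hν hoppρ]
    · exfalso
      have k1 := (triple_eq_zero_of_not_opp h2 h3 hσ hν o1).1
      have k2 := (triple_eq_zero_of_not_opp h2 h3 hσ₁ hν o2).1
      have er : (τ * σ * τ⁻¹ : LinearMap.GeneralLinearGroup k M).1 - 1 =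
          (σ.1 - 1) - (ρ.1 - 1) := by
        rw [conj_sub_one, inv_val_of_sq τ hτ.1.2.1.1, hu]
        have eτ : τ.1 = 1 + (τ.1 - 1) := val_eq_one_add τ
        have : τ.1 * (σ.1 - 1) * (1 - (τ.1 - 1)) =
            (1 + (τ.1 - 1)) * (σ.1 - 1) * (1 - (τ.1 - 1)) := by rw [← eτ]
        rw [this, conj_expand, t1]
        abel
      have e3 : (ν.1 - 1) * ((σ.1 - 1) - (ρ.1 - 1)) * (ν.1 - 1) =
          (ν.1 - 1) * (σ.1 - 1) * (ν.1 - 1) - (ν.1 - 1) * (ρ.1 - 1) * (ν.1 - 1) := by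
        noncomm_ring
      rw [er, e3, k1, zero_sub, neg_eq_zero] at k2
      exact nun_ne_zero hoppρ hν.1.2.1.2 k2

theorem sameActionSubgroup_inv {ρ : LinearMap.GeneralLinearGroup k M}
    (hr : (ρ.1 - 1) * (ρ.1 - 1) = 0) :
    sameActionSubgroup G ρ⁻¹ = sameActionSubgroup G ρ := by
  have e : (ρ⁻¹).1 - 1 = -(ρ.1 - 1) := by
    rw [inv_val_of_sq ρ hr]; abel
  apply sameActionSubgroup_congr
  · rw [e, LinearMap.ker_neg]
  · rw [e, LinearMap.range_neg]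

end Cfsg.Agent.Lib.Helper8.Qr
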