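import Mathlib
import Cfsg.Agent.Lib.Helper8.Qr19

/-! Commutators of root subgroups: `[σ, F] = E([σ, τ])`. -/

set_option autoImplicit false
set_option linter.unusedSectionVars false
set_option linter.unusedSimpArgs false

namespace Cfsg.Agent.Lib.Helper8.Qr

open Cfsg Cfsg.Agent.Lib.Helper8.Qp

universe u

variable {k : Type u} [Field k] {M : Type u} [AddCommGroup M] [Module k M]
variable {G : Subgroup (LinearMap.GeneralLinearGroup k M)}
variable [FiniteDimensional k M]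

/-- the bracket with `s` as a linear map on `End M` -/
def adL (s : M →ₗ[k] M) : (M →ₗ[k] M) →ₗ[k] (M →ₗ[k] M) where
  toFun x := s * x - x * s
  map_add' x y := by rw [mul_add, add_mul]; abel
  map_smul' c x := by
    rw [RingHom.id_apply, mul_smul_comm, smul_mul_assoc, smul_sub]

theorem adL_apply (s x : M →ₗ[k] M) : adL s x = s * x - x * s := rfl

/-- every element of `E([σ, τ])` is a commutator `[σ, b]` with `b ∈ E(τ)` -/
theorem comm_surj (hG : IsQuadraticPair G) (h2 : (2 : k) ≠ 0) (h3 : Nat.card k ≠ 3)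
    {σ τ : LinearMap.GeneralLinearGroup k M} (hσ : σ ∈ minimalQuadraticElements G)
    (hτ : τ ∈ minimalQuadraticElements G) (hopp : ¬ Opp σ τ)
    (hne : (σ.1 - 1) * (τ.1 - 1) ≠ (τ.1 - 1) * (σ.1 - 1)) :
    ∀ ρ' ∈ sameActionSubgroup G (σ * τ * σ⁻¹ * τ⁻¹),
      ∃ b ∈ sameActionSubgroup G τ, σ * b * σ⁻¹ * b⁻¹ = ρ' := by
  obtain ⟨hρ, hcl⟩ := comm_mem_class h2 h3 hσ hτ hopp hne
  have hσc := self_mem_sameActionClass hσ
  have hτc := self_mem_sameActionClass hτ
  -- dimensions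
  have hd : dl (sameActionSubgroup G τ) = dl (sameActionSubgroup G (σ * τ * σ⁻¹ * τ⁻¹)) := by
    have hopp' : ¬ Opp τ σ := fun h => hopp h.symm
    rw [dl_eq_comm hG h2 h3 hτ hσ hopp' hne.symm]
    have e : τ * σ * τ⁻¹ * σ⁻¹ = (σ * τ * σ⁻¹ * τ⁻¹)⁻¹ := by group
    rw [e, sameActionSubgroup_inv hρ.1.2.1.1]
  rw [dl_eq_finrank hτ, dl_eq_finrank hρ] at hd
  -- values of the commutators
  have hval : ∀ b ∈ sameActionClass G τ,
      (σ * b * σ⁻¹ * b⁻¹).1 - 1 = adL (σ.1 - 1) (b.1 - 1) := by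
    intro b hb
    have hno : ¬ Opp σ b := fun h => hopp ((opp_congr hσc hb).mp h)
    obtain ⟨t1, t2⟩ := triple_eq_zero_of_not_opp h2 h3 hσ hb.1 hno
    rw [comm_val hσ.1.2.1.1 hb.1.1.2.1.1 t2 t1, add_sub_cancel_left, adL_apply]
  -- the map lands in eSub ρ
  have hmap : (eSub hτ).map (adL (σ.1 - 1)) ≤ eSub hρ := by
    rintro _ ⟨_, ⟨b, hb, rfl⟩, rfl⟩
    rcases mem_sameActionSubgroup hτ hb with rfl | hb'
    · refine ⟨1, Subgroup.one_mem _, ?_⟩
      rw [Units.val_one, sub_self, map_zero]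
    · exact ⟨σ * b * σ⁻¹ * b⁻¹, sameActionClass_le (hcl σ hσc b hb'), hval b hb'⟩
  -- injectivity
  have hinj : eSub hτ ⊓ LinearMap.ker (adL (σ.1 - 1)) = ⊥ := by
    rw [eq_bot_iff]
    rintro _ ⟨⟨b, hb, rfl⟩, hker⟩
    rw [Submodule.mem_bot]
    rcases mem_sameActionSubgroup hτ hb with rfl | hb'
    · rw [Units.val_one, sub_self]
    · exfalso
      have hker' : adL (σ.1 - 1) (b.1 - 1) = 0 := hker
      rw [adL_apply, sub_eq_zero] at hker'
      exact all_noncomm h2 h3 hσ hτ hopp hσc hτc hne hσc hb' hker'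
  have hcount := finrank_map_add_finrank_inf_ker (adL (σ.1 - 1)) (eSub hτ)
  rw [hinj, finrank_bot, add_zero] at hcount
  have heq : (eSub hτ).map (adL (σ.1 - 1)) = eSub hρ :=
    Submodule.eq_of_le_of_finrank_le hmap (by omega)
  intro ρ' hρ'
  have hmem : ρ'.1 - 1 ∈ eSub hρ := ⟨ρ', hρ', rfl⟩
  rw [← heq] at hmem
  obtain ⟨_, ⟨b, hb, rfl⟩, hb2⟩ := hmem
  refine ⟨b, hb, ?_⟩
  rcases mem_sameActionSubgroup hτ hb with rfl | hb'
  · rw [Units.val_one, sub_self, map_zero] at hb2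
    have : ρ' = 1 := by
      apply Units.ext
      rw [Units.val_one]
      exact (sub_eq_zero.mp hb2.symm)
    rw [this]
    group
  · apply Units.ext
    have := hval b hb'
    rw [hb2] at this
    exact sub_left_injective this

end Cfsg.Agent.Lib.Helper8.Qr
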