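import Mathlib

/-! A group generated by two abelian subgroups whose mutual commutators are central. -/

set_option autoImplicit false

namespace Cfsg.Agent.Lib.Helper8.Qr

variable {Γ : Type*} [Group Γ]

/-- elements of `X` whose commutator with `g` (on the left) lies in `Z` -/
def czR (X Z : Subgroup Γ) (hZ : ∀ z ∈ Z, ∀ x ∈ X, x * z = z * x) (g : Γ) : Subgroup Γ where
  carrier := {y | y ∈ X ∧ g * y * g⁻¹ * y⁻¹ ∈ Z}
  one_mem' := ⟨X.one_mem, by simp⟩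
  mul_mem' := by
    rintro y₁ y₂ ⟨h1, h1'⟩ ⟨h2, h2'⟩
    refine ⟨X.mul_mem h1 h2, ?_⟩
    have e : g * (y₁ * y₂) * g⁻¹ * (y₁ * y₂)⁻¹ =
        (g * y₁ * g⁻¹ * y₁⁻¹) * (y₁ * (g * y₂ * g⁻¹ * y₂⁻¹) * y₁⁻¹) := by group
    have e2 : y₁ * (g * y₂ * g⁻¹ * y₂⁻¹) * y₁⁻¹ = g * y₂ * g⁻¹ * y₂⁻¹ := by
      rw [hZ _ h2' _ h1, mul_assoc, mul_inv_cancel, mul_one]
    rw [e, e2]
    exact Z.mul_mem h1' h2'
  inv_mem' := by
    rintro y ⟨h1, h1'⟩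
    refine ⟨X.inv_mem h1, ?_⟩
    have e : g * y⁻¹ * g⁻¹ * y⁻¹⁻¹ = y⁻¹ * (g * y * g⁻¹ * y⁻¹)⁻¹ * y⁻¹⁻¹ := by group
    have e2 : y⁻¹ * (g * y * g⁻¹ * y⁻¹)⁻¹ * y⁻¹⁻¹ = (g * y * g⁻¹ * y⁻¹)⁻¹ := by
      rw [hZ _ (Z.inv_mem h1') _ (X.inv_mem h1), mul_assoc, mul_inv_cancel, mul_one]
    rw [e, e2]
    exact Z.inv_mem h1'

/-- elements of `X` whose commutator with `g` (on the right) lies in `Z` -/
def czL (X Z : Subgroup Γ) (hZ : ∀ z ∈ Z, ∀ x ∈ X, x * z = z * x) (g : Γ) : Subgroup Γ where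
  carrier := {x | x ∈ X ∧ x * g * x⁻¹ * g⁻¹ ∈ Z}
  one_mem' := ⟨X.one_mem, by simp⟩
  mul_mem' := by
    rintro x₁ x₂ ⟨h1, h1'⟩ ⟨h2, h2'⟩
    refine ⟨X.mul_mem h1 h2, ?_⟩
    have e : (x₁ * x₂) * g * (x₁ * x₂)⁻¹ * g⁻¹ =
        (x₁ * (x₂ * g * x₂⁻¹ * g⁻¹) * x₁⁻¹) * (x₁ * g * x₁⁻¹ * g⁻¹) := by group
    have e2 : x₁ * (x₂ * g * x₂⁻¹ * g⁻¹) * x₁⁻¹ = x₂ * g * x₂⁻¹ * g⁻¹ := by
      rw [hZ _ h2' _ h1, mul_assoc, mul_inv_cancel, mul_one]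
    rw [e, e2]
    exact Z.mul_mem h2' h1'
  inv_mem' := by
    rintro x ⟨h1, h1'⟩
    refine ⟨X.inv_mem h1, ?_⟩
    have e : x⁻¹ * g * x⁻¹⁻¹ * g⁻¹ = x⁻¹ * (x * g * x⁻¹ * g⁻¹)⁻¹ * x⁻¹⁻¹ := by group
    have e2 : x⁻¹ * (x * g * x⁻¹ * g⁻¹)⁻¹ * x⁻¹⁻¹ = (x * g * x⁻¹ * g⁻¹)⁻¹ := by
      rw [hZ _ (Z.inv_mem h1') _ (X.inv_mem h1), mul_assoc, mul_inv_cancel, mul_one]
    rw [e, e2]
    exact Z.inv_mem h1'

/-- two abelian subgroups with central mutual commutators generate a group of class at most 2 -/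
theorem commutator_sup_le {E F Z : Subgroup Γ}
    (hE : ∀ a ∈ E, ∀ b ∈ E, a * b = b * a) (hF : ∀ a ∈ F, ∀ b ∈ F, a * b = b * a)
    (hEF : ∀ e ∈ E, ∀ f ∈ F, e * f * e⁻¹ * f⁻¹ ∈ Z)
    (hZE : ∀ z ∈ Z, ∀ e ∈ E, e * z = z * e) (hZF : ∀ z ∈ Z, ∀ f ∈ F, f * z = z * f) :
    ⁅E ⊔ F, E ⊔ F⁆ ≤ Z := by
  have hZ : ∀ z ∈ Z, ∀ x ∈ E ⊔ F, x * z = z * x := by
    intro z hz
    have hle : E ⊔ F ≤ Subgroup.centralizer {z} := by
      apply sup_le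
      · intro e he
        rw [Subgroup.mem_centralizer_singleton_iff]
        exact hZE z hz e he
      · intro f hf
        rw [Subgroup.mem_centralizer_singleton_iff]
        exact hZF z hz f hf
    intro x hx
    have := hle hx
    rw [Subgroup.mem_centralizer_singleton_iff] at this
    exact this
  -- step 1
  have s1 : ∀ e ∈ E, E ⊔ F ≤ czR (E ⊔ F) Z hZ e := by
    intro e he
    apply sup_le
    · intro a ha
      refine ⟨Subgroup.mem_sup_left ha, ?_⟩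
      rw [hE e he a ha, mul_assoc a, mul_inv_cancel, mul_one, mul_inv_cancel]
      exact Z.one_mem
    · intro f hf
      exact ⟨Subgroup.mem_sup_right hf, hEF e he f hf⟩
  have s2 : ∀ f ∈ F, E ⊔ F ≤ czR (E ⊔ F) Z hZ f := by
    intro f hf
    apply sup_le
    · intro e he
      refine ⟨Subgroup.mem_sup_left he, ?_⟩
      have : f * e * f⁻¹ * e⁻¹ = (e * f * e⁻¹ * f⁻¹)⁻¹ := by group
      rw [this]
      exact Z.inv_mem (hEF e he f hf)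
    · intro b hb
      refine ⟨Subgroup.mem_sup_right hb, ?_⟩
      rw [hF f hf b hb, mul_assoc b, mul_inv_cancel, mul_one, mul_inv_cancel]
      exact Z.one_mem
  rw [Subgroup.commutator_le]
  intro x hx y hy
  have s3 : E ⊔ F ≤ czL (E ⊔ F) Z hZ y := by
    apply sup_le
    · intro e he
      exact ⟨Subgroup.mem_sup_left he, (s1 e he hy).2⟩
    · intro f hf
      exact ⟨Subgroup.mem_sup_right hf, (s2 f hf hy).2⟩
  rw [commutatorElement_def]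
  exact (s3 hx).2

end Cfsg.Agent.Lib.Helper8.Qr
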