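import Mathlib
import Cfsg.Agent.Lib.Helper8.Qr20
import Cfsg.Agent.Lib.Helper8.Qr21

/-! The unipotent core `U(L)` of `L = [E, F]`. -/

set_option autoImplicit false
set_option linter.unusedSectionVars false
set_option linter.unusedSimpArgs false

namespace Cfsg.Agent.Lib.Helper8.Qr

open Cfsg Cfsg.Agent.Lib.Helper8.Qp

universe u

variable {k : Type u} [Field k] {M : Type u} [AddCommGroup M] [Module k M]
variable {G : Subgroup (LinearMap.GeneralLinearGroup k M)}

/-- a three step flag -/
def chain3 (K R : Submodule k M) : ℕ → Submodule k M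
  | 0 => ⊤
  | 1 => K
  | 2 => R
  | _ => ⊥

theorem chain3_antitone {K R : Submodule k M} (h : R ≤ K) : Antitone (chain3 K R) := by
  apply antitone_nat_of_succ_le
  intro j
  match j with
  | 0 => exact le_top
  | 1 => exact h
  | 2 => exact bot_le
  | (j + 3) => exact bot_le

theorem chain3_step {K R : Submodule k M} {x : M →ₗ[k] M}
    (h0 : ∀ m, x m ∈ K) (h1 : ∀ m ∈ K, x m ∈ R) (h2 : ∀ m ∈ R, x m = 0) :
    ∀ j : ℕ, ∀ m ∈ chain3 K R j, x m ∈ chain3 K R (j + 1) := by
  intro j
  match j with
  | 0 => intro m _; exact h0 m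
  | 1 => intro m hm; exact h1 m hm
  | 2 =>
    intro m hm
    rw [h2 m hm]
    exact Submodule.zero_mem _
  | (j + 3) =>
    intro m hm
    have hm' : m = 0 := by
      have : m ∈ (⊥ : Submodule k M) := hm
      exact (Submodule.mem_bot k).mp this
    rw [hm', map_zero]
    exact Submodule.zero_mem _

variable [FiniteDimensional k M]

theorem fixedSubmodule_sameActionSubgroup {ρ : LinearMap.GeneralLinearGroup k M}
    (hρ : ρ ∈ minimalQuadraticElements G) :
    fixedSubmodule (sameActionSubgroup G ρ) = LinearMap.ker (ρ.1 - 1) := by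
  apply le_antisymm
  · exact iInf₂_le ρ (self_mem_sameActionSubgroup hρ)
  · unfold fixedSubmodule
    apply le_iInf₂
    intro a ha
    exact (inE_of_mem_sameActionSubgroup hρ ha).2

theorem commutatorSubmodule_sameActionSubgroup {ρ : LinearMap.GeneralLinearGroup k M}
    (hρ : ρ ∈ minimalQuadraticElements G) :
    commutatorSubmodule (sameActionSubgroup G ρ) = LinearMap.range (ρ.1 - 1) := by
  apply le_antisymm
  · unfold commutatorSubmodule
    apply iSup₂_le
    intro a ha
    exact (inE_of_mem_sameActionSubgroup hρ ha).1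
  · exact le_iSup₂_of_le ρ (self_mem_sameActionSubgroup hρ) le_rfl

/-- two elements with `xy = yx = 0` for the parts commute -/
theorem commute_of_mul_zero {a l : LinearMap.GeneralLinearGroup k M}
    (h1 : (a.1 - 1) * (l.1 - 1) = 0) (h2 : (l.1 - 1) * (a.1 - 1) = 0) : a * l = l * a :=
  commute_iff_sub_one.mpr (by rw [h1, h2])

end Cfsg.Agent.Lib.Helper8.Qr
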