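import Mathlib
import Cfsg.Agent.Lib.Helper8.Qr22

/-! Non-opposite, non-commuting root subgroups: `[E, F] ∈ Σ`, class two, and `⟨E, F⟩ ≤ U([E, F])`. -/

set_option autoImplicit false
set_option linter.unusedSectionVars false
set_option linter.unusedSimpArgs false

namespace Cfsg.Agent.Lib.Helper8.Qr

open Cfsg Cfsg.Agent.Lib.Helper8.Qp

universe u

variable {k : Type u} [Field k] {M : Type u} [AddCommGroup M] [Module k M]
variable {G : Subgroup (LinearMap.GeneralLinearGroup k M)}
variable [FiniteDimensional k M]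

theorem triple_left (h2 : (2 : k) ≠ 0) (h3 : Nat.card k ≠ 3)
    {σ τ : LinearMap.GeneralLinearGroup k M} (hσ : σ ∈ minimalQuadraticElements G)
    (hτ : τ ∈ minimalQuadraticElements G) (hopp : ¬ Opp σ τ) :
    ∀ a ∈ sameActionSubgroup G σ, (τ.1 - 1) * (a.1 - 1) * (τ.1 - 1) = 0 := by
  intro a ha
  rcases mem_sameActionSubgroup hσ ha with rfl | ha'
  · rw [Units.val_one, sub_self, mul_zero, zero_mul]
  · have hno : ¬ Opp a τ := fun h =>
      hopp ((opp_congr ha' (self_mem_sameActionClass hτ)).mp h)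
    exact (triple_eq_zero_of_not_opp h2 h3 ha'.1 hτ hno).1

theorem triple_right (h2 : (2 : k) ≠ 0) (h3 : Nat.card k ≠ 3)
    {σ τ : LinearMap.GeneralLinearGroup k M} (hσ : σ ∈ minimalQuadraticElements G)
    (hτ : τ ∈ minimalQuadraticElements G) (hopp : ¬ Opp σ τ) :
    ∀ b ∈ sameActionSubgroup G τ, (σ.1 - 1) * (b.1 - 1) * (σ.1 - 1) = 0 := by
  intro b hb
  rcases mem_sameActionSubgroup hτ hb with rfl | hb'
  · rw [Units.val_one, sub_self, mul_zero, zero_mul]
  · have hno : ¬ Opp σ b := fun h =>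
      hopp ((opp_congr (self_mem_sameActionClass hσ) hb').mp h)
    exact (triple_eq_zero_of_not_opp h2 h3 hσ hb'.1 hno).2

/-- range and kernel of the commutator -/
theorem comm_range_ker (h2 : (2 : k) ≠ 0) (h3 : Nat.card k ≠ 3)
    {σ τ : LinearMap.GeneralLinearGroup k M} (hσ : σ ∈ minimalQuadraticElements G)
    (hτ : τ ∈ minimalQuadraticElements G) (hopp : ¬ Opp σ τ)
    (hne : (σ.1 - 1) * (τ.1 - 1) ≠ (τ.1 - 1) * (σ.1 - 1)) :
    LinearMap.range ((σ * τ * σ⁻¹ * τ⁻¹).1 - 1) =
        (LinearMap.range (σ.1 - 1) ⊓ LinearMap.ker (τ.1 - 1)) ⊔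
          (LinearMap.range (τ.1 - 1) ⊓ LinearMap.ker (σ.1 - 1)) ∧
      LinearMap.ker ((σ * τ * σ⁻¹ * τ⁻¹).1 - 1) =
        (LinearMap.range (σ.1 - 1) ⊔ LinearMap.ker (τ.1 - 1)) ⊓
          (LinearMap.range (τ.1 - 1) ⊔ LinearMap.ker (σ.1 - 1)) := by
  obtain ⟨t1, t2⟩ := triple_eq_zero_of_not_opp h2 h3 hσ hτ hopp
  have hQ := comm_mem_Q hσ.1 hτ.1 t2 t1 hne
  have hrk := hσ.2 _ hQ
  have hv : (σ * τ * σ⁻¹ * τ⁻¹).1 - 1 = (σ.1 - 1) * (τ.1 - 1) - (τ.1 - 1) * (σ.1 - 1) := by
    rw [comm_val hσ.1.2.1.1 hτ.1.2.1.1 t2 t1, add_sub_cancel_left]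
  unfold commutatorRank at hrk
  rw [hv] at hrk ⊢
  obtain ⟨-, -, -, e4, e5, -⟩ := nc_struct rfl rfl rfl rfl (rank_eq_of_Qd hσ hτ) t1 t2 hrk
  exact ⟨e4, e5⟩

/-- the main theorem on non-opposite non-commuting root subgroups -/
theorem class2_main (hG : IsQuadraticPair G) (h2 : (2 : k) ≠ 0) (h3 : Nat.card k ≠ 3)
    {σ τ : LinearMap.GeneralLinearGroup k M} (hσ : σ ∈ minimalQuadraticElements G)
    (hτ : τ ∈ minimalQuadraticElements G) (hopp : ¬ Opp σ τ)
    (hne : (σ.1 - 1) * (τ.1 - 1) ≠ (τ.1 - 1) * (σ.1 - 1)) :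
    ⁅sameActionSubgroup G σ, sameActionSubgroup G τ⁆ ∈ quadraticRootSubgroups G ∧
    (∀ e ∈ sameActionSubgroup G σ, e ≠ 1 →
      Subgroup.closure ((fun f : LinearMap.GeneralLinearGroup k M => e * f * e⁻¹ * f⁻¹) ''
        (sameActionSubgroup G τ : Set (LinearMap.GeneralLinearGroup k M))) =
        ⁅sameActionSubgroup G σ, sameActionSubgroup G τ⁆) ∧
    (∀ f ∈ sameActionSubgroup G τ, f ≠ 1 →
      Subgroup.closure ((fun e : LinearMap.GeneralLinearGroup k M => e * f * e⁻¹ * f⁻¹) ''
        (sameActionSubgroup G σ : Set (LinearMap.GeneralLinearGroup k M))) =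
        ⁅sameActionSubgroup G σ, sameActionSubgroup G τ⁆) ∧
    ⁅sameActionSubgroup G σ ⊔ sameActionSubgroup G τ,
      sameActionSubgroup G σ ⊔ sameActionSubgroup G τ⁆ ≠ ⊥ ∧
    ⁅⁅sameActionSubgroup G σ ⊔ sameActionSubgroup G τ,
      sameActionSubgroup G σ ⊔ sameActionSubgroup G τ⁆,
      sameActionSubgroup G σ ⊔ sameActionSubgroup G τ⁆ = ⊥ ∧
    ((sameActionSubgroup G σ ⊔ sameActionSubgroup G τ :
      Subgroup (LinearMap.GeneralLinearGroup k M)) : Set (LinearMap.GeneralLinearGroup k M)) ⊆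
      quadraticUnipotentCore G ⁅sameActionSubgroup G σ, sameActionSubgroup G τ⁆ := by
  obtain ⟨hρ, hcl⟩ := comm_mem_class h2 h3 hσ hτ hopp hne
  obtain ⟨hR, hK⟩ := comm_range_ker h2 h3 hσ hτ hopp hne
  have hσc := self_mem_sameActionClass hσ
  have hτc := self_mem_sameActionClass hτ
  have hAC := range_le_ker_of_sq hσ.1.2.1.1
  have hBD := range_le_ker_of_sq hτ.1.2.1.1
  set ρ := σ * τ * σ⁻¹ * τ⁻¹ with hρdef
  -- Part A
  have hA : ⁅sameActionSubgroup G σ, sameActionSubgroup G τ⁆ = sameActionSubgroup G ρ := by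
    apply le_antisymm
    · rw [Subgroup.commutator_le]
      intro a ha b hb
      rw [commutatorElement_def]
      rcases mem_sameActionSubgroup hσ ha with rfl | ha'
      · simp
      · rcases mem_sameActionSubgroup hτ hb with rfl | hb'
        · simp
        · exact sameActionClass_le (hcl a ha' b hb')
    · intro ρ' hρ'
      obtain ⟨b, hb, rfl⟩ := comm_surj hG h2 h3 hσ hτ hopp hne ρ' hρ'
      have := Subgroup.commutator_mem_commutator (self_mem_sameActionSubgroup hσ) hb
      rw [commutatorElement_def] at this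
      exact this
  -- centrality of E(ρ)
  have hRC : LinearMap.range (ρ.1 - 1) ≤ LinearMap.ker (σ.1 - 1) := by
    rw [hR]
    exact sup_le (le_trans inf_le_left hAC) inf_le_right
  have hRD : LinearMap.range (ρ.1 - 1) ≤ LinearMap.ker (τ.1 - 1) := by
    rw [hR]
    exact sup_le inf_le_right (le_trans inf_le_left hBD)
  have hAK : LinearMap.range (σ.1 - 1) ≤ LinearMap.ker (ρ.1 - 1) := by
    rw [hK]
    exact le_inf le_sup_left (le_trans hAC le_sup_right)
  have hBK : LinearMap.range (τ.1 - 1) ≤ LinearMap.ker (ρ.1 - 1) := by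
    rw [hK]
    exact le_inf (le_trans hBD le_sup_right) le_sup_left
  have hZE : ∀ z ∈ sameActionSubgroup G ρ, ∀ e ∈ sameActionSubgroup G σ, e * z = z * e := by
    intro z hz e he
    have iz := inE_of_mem_sameActionSubgroup hρ hz
    have ie := inE_of_mem_sameActionSubgroup hσ he
    apply commute_of_mul_zero
    · apply LinearMap.ext
      intro m
      exact ie.2 (hRC (iz.1 ⟨m, rfl⟩))
    · apply LinearMap.ext
      intro m
      exact iz.2 (hAK (ie.1 ⟨m, rfl⟩))
  have hZF : ∀ z ∈ sameActionSubgroup G ρ, ∀ f ∈ sameActionSubgroup G τ, f * z = z * f := by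
    intro z hz f hf
    have iz := inE_of_mem_sameActionSubgroup hρ hz
    have ie := inE_of_mem_sameActionSubgroup hτ hf
    apply commute_of_mul_zero
    · apply LinearMap.ext
      intro m
      exact ie.2 (hRD (iz.1 ⟨m, rfl⟩))
    · apply LinearMap.ext
      intro m
      exact iz.2 (hBK (ie.1 ⟨m, rfl⟩))
  have hEF : ∀ e ∈ sameActionSubgroup G σ, ∀ f ∈ sameActionSubgroup G τ,
      e * f * e⁻¹ * f⁻¹ ∈ sameActionSubgroup G ρ := by
    intro e he f hf
    rw [← hA]
    have := Subgroup.commutator_mem_commutator he hf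
    rw [commutatorElement_def] at this
    exact this
  have hXZ : ⁅sameActionSubgroup G σ ⊔ sameActionSubgroup G τ,
      sameActionSubgroup G σ ⊔ sameActionSubgroup G τ⁆ ≤ sameActionSubgroup G ρ :=
    commutator_sup_le (sameActionSubgroup_comm hσ) (sameActionSubgroup_comm hτ) hEF hZE hZF
  have hZX : ∀ z ∈ sameActionSubgroup G ρ,
      ∀ x ∈ sameActionSubgroup G σ ⊔ sameActionSubgroup G τ, x * z = z * x := by
    intro z hz
    have hle : sameActionSubgroup G σ ⊔ sameActionSubgroup G τ ≤ Subgroup.centralizer {z} := by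
      apply sup_le
      · intro e he
        rw [Subgroup.mem_centralizer_singleton_iff]
        exact hZE z hz e he
      · intro f hf
        rw [Subgroup.mem_centralizer_singleton_iff]
        exact hZF z hz f hf
    intro x hx
    have := hle hx
    rw [Subgroup.mem_centralizer_singleton_iff] at this
    exact this
  have hρ1 : ρ ≠ 1 := ne_one_of_mem_class (self_mem_sameActionClass hρ)
  refine ⟨?_, ?_, ?_, ?_, ?_, ?_⟩
  · exact ⟨ρ, hρ, hA⟩
  · -- [e, F] = [E, F]
    intro e he he1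
    have hec := (mem_sameActionSubgroup hσ he).resolve_left he1
    apply le_antisymm
    · rw [Subgroup.closure_le]
      rintro _ ⟨f, hf, rfl⟩
      have := Subgroup.commutator_mem_commutator he hf
      rw [commutatorElement_def] at this
      exact this
    · rw [hA]
      intro ρ' hρ'
      have hno : ¬ Opp e τ := fun h => hopp ((opp_congr hec hτc).mp h)
      have hne' := all_noncomm h2 h3 hσ hτ hopp hσc hτc hne hec hτc
      have hcle := hcl e hec τ hτc
      have hEq : sameActionSubgroup G (e * τ * e⁻¹ * τ⁻¹) = sameActionSubgroup G ρ :=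
        sameActionSubgroup_congr hcle.2.1 hcle.2.2
      rw [← hEq] at hρ'
      obtain ⟨b, hb, hb2⟩ := comm_surj hG h2 h3 hec.1 hτ hno hne' ρ' hρ'
      exact Subgroup.subset_closure ⟨b, hb, hb2⟩
  · -- [E, f] = [E, F]
    intro f hf hf1
    have hfc := (mem_sameActionSubgroup hτ hf).resolve_left hf1
    apply le_antisymm
    · rw [Subgroup.closure_le]
      rintro _ ⟨e, he, rfl⟩
      have := Subgroup.commutator_mem_commutator he hf
      rw [commutatorElement_def] at this
      exact this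
    · rw [hA]
      intro ρ' hρ'
      have hno : ¬ Opp f σ := fun h => hopp ((opp_congr hσc hfc).mp h.symm)
      have hne' := all_noncomm h2 h3 hσ hτ hopp hσc hτc hne hσc hfc
      have hcle := hcl σ hσc f hfc
      have hEq : sameActionSubgroup G (f * σ * f⁻¹ * σ⁻¹) = sameActionSubgroup G ρ := by
        have e : f * σ * f⁻¹ * σ⁻¹ = (σ * f * σ⁻¹ * f⁻¹)⁻¹ := by group
        rw [e, sameActionSubgroup_inv hcle.1.1.2.1.1]
        exact sameActionSubgroup_congr hcle.2.1 hcle.2.2
      have hρ'' : ρ'⁻¹ ∈ sameActionSubgroup G (f * σ * f⁻¹ * σ⁻¹) := by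
        rw [hEq]; exact Subgroup.inv_mem _ hρ'
      obtain ⟨a, ha, ha2⟩ := comm_surj hG h2 h3 hfc.1 hσ hno hne'.symm _ hρ''
      refine Subgroup.subset_closure ⟨a, ha, ?_⟩
      have : a * f * a⁻¹ * f⁻¹ = (f * a * f⁻¹ * a⁻¹)⁻¹ := by group
      show a * f * a⁻¹ * f⁻¹ = ρ'
      rw [this, ha2, inv_inv]
  · -- [X, X] ≠ 1
    intro h
    have hmem : ρ ∈ ⁅sameActionSubgroup G σ ⊔ sameActionSubgroup G τ,
        sameActionSubgroup G σ ⊔ sameActionSubgroup G τ⁆ := by
      apply Subgroup.commutator_mono (le_sup_left) (le_sup_right)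
      rw [hA]
      exact self_mem_sameActionSubgroup hρ
    rw [h, Subgroup.mem_bot] at hmem
    exact hρ1 hmem
  · rw [Subgroup.commutator_eq_bot_iff_le_centralizer]
    intro z hz
    rw [Subgroup.mem_centralizer_iff]
    intro x hx
    exact hZX z (hXZ hz) x hx
  · -- X ≤ U(L)
    intro g hg
    have hg' : g ∈ sameActionSubgroup G σ ⊔ sameActionSubgroup G τ := hg
    have hL := triple_left h2 h3 hσ hτ hopp
    have hRt := triple_right h2 h3 hσ hτ hopp
    have hRK : LinearMap.range (ρ.1 - 1) ≤ LinearMap.ker (ρ.1 - 1) :=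
      range_le_ker_of_sq hρ.1.2.1.1
    have hle : sameActionSubgroup G σ ⊔ sameActionSubgroup G τ ≤
        cfilt (chain3 (LinearMap.ker (ρ.1 - 1)) (LinearMap.range (ρ.1 - 1)))
          (chain3_antitone hRK) 1 := by
      have stepL : ∀ a ∈ sameActionSubgroup G σ, ∀ j : ℕ,
          ∀ m ∈ chain3 (LinearMap.ker (ρ.1 - 1)) (LinearMap.range (ρ.1 - 1)) j,
          (a.1 - 1) m ∈ chain3 (LinearMap.ker (ρ.1 - 1)) (LinearMap.range (ρ.1 - 1)) (j + 1) := by
        intro a ha
        have ia := inE_of_mem_sameActionSubgroup hσ ha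
        apply chain3_step
        · intro m
          exact hAK (ia.1 ⟨m, rfl⟩)
        · intro m hm
          rw [hK] at hm
          obtain ⟨β, hβ, γ, hγ, rfl⟩ := Submodule.mem_sup.mp hm.2
          have h1 : (a.1 - 1) γ = 0 := ia.2 hγ
          rw [map_add, h1, add_zero, hR]
          apply Submodule.mem_sup_left
          refine ⟨ia.1 ⟨β, rfl⟩, ?_⟩
          obtain ⟨m', rfl⟩ := hβ
          exact congrArg (fun f : M →ₗ[k] M => f m') (hL a ha)
        · intro m hm
          exact ia.2 (hRC hm)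
      have stepR : ∀ b ∈ sameActionSubgroup G τ, ∀ j : ℕ,
          ∀ m ∈ chain3 (LinearMap.ker (ρ.1 - 1)) (LinearMap.range (ρ.1 - 1)) j,
          (b.1 - 1) m ∈ chain3 (LinearMap.ker (ρ.1 - 1)) (LinearMap.range (ρ.1 - 1)) (j + 1) := by
        intro b hb
        have ib := inE_of_mem_sameActionSubgroup hτ hb
        apply chain3_step
        · intro m
          exact hBK (ib.1 ⟨m, rfl⟩)
        · intro m hm
          rw [hK] at hm
          obtain ⟨α, hα, δ, hδ, rfl⟩ := Submodule.mem_sup.mp hm.1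
          have h1 : (b.1 - 1) δ = 0 := ib.2 hδ
          rw [map_add, h1, add_zero, hR]
          apply Submodule.mem_sup_right
          refine ⟨ib.1 ⟨α, rfl⟩, ?_⟩
          obtain ⟨m', rfl⟩ := hα
          exact congrArg (fun f : M →ₗ[k] M => f m') (hRt b hb)
        · intro m hm
          exact ib.2 (hRD hm)
      apply sup_le
      · intro a ha j m hm
        exact ⟨stepL a ha j m hm, stepL a⁻¹ (Subgroup.inv_mem _ ha) j m hm⟩
      · intro b hb j m hm
        exact ⟨stepR b hb j m hm, stepR b⁻¹ (Subgroup.inv_mem _ hb) j m hm⟩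
    have hgc := hle hg'
    have hGg : g ∈ G :=
      (sup_le (sameActionSubgroup_le σ) (sameActionSubgroup_le τ) :
        sameActionSubgroup G σ ⊔ sameActionSubgroup G τ ≤ G) hg'
    rw [hA]
    refine ⟨hGg, ?_, ?_, ?_, ?_⟩
    · apply Subgroup.centralizer_le_normalizer
      rw [Subgroup.mem_centralizer_iff]
      intro z hz
      exact (hZX z hz g hg').symm
    · intro m
      rw [fixedSubmodule_sameActionSubgroup hρ]
      have := (hgc 0 m Submodule.mem_top).1
      rw [LinearMap.sub_apply, Module.End.one_apply] at this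
      exact this
    · intro m hm
      rw [fixedSubmodule_sameActionSubgroup hρ] at hm
      rw [commutatorSubmodule_sameActionSubgroup hρ]
      have := (hgc 1 m hm).1
      rw [LinearMap.sub_apply, Module.End.one_apply] at this
      exact this
    · intro m hm
      rw [commutatorSubmodule_sameActionSubgroup hρ] at hm
      have := (hgc 2 m hm).1
      have h0 : (g.1 - 1) m = 0 := (Submodule.mem_bot k).mp this
      rw [LinearMap.sub_apply, Module.End.one_apply, sub_eq_zero] at h0
      exact h0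

end Cfsg.Agent.Lib.Helper8.Qr
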