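import Mathlib
import Cfsg.Agent.Lib.Helper8.Qr23

/-! Pairs of root subgroups: class two pairs and unipotent pairs. -/

set_option autoImplicit false
set_option linter.unusedSectionVars false
set_option linter.unusedSimpArgs false

namespace Cfsg.Agent.Lib.Helper8.Qr

open Cfsg Cfsg.Agent.Lib.Helper8.Qp

universe u

variable {k : Type u} [Field k] {M : Type u} [AddCommGroup M] [Module k M]
variable {G : Subgroup (LinearMap.GeneralLinearGroup k M)}
variable [FiniteDimensional k M]

/-- ring computation: a partner pair cannot satisfy `s` commuting with `(1+t) s (1-t)` -/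
theorem partner_ring {R : Type*} [Ring R] (s t : R) (ss : s * s = 0)
    (sts : s * t * s = s)
    (h : s * ((1 + t) * s * (1 - t)) = ((1 + t) * s * (1 - t)) * s) : s = 0 := by
  have h1 : s * (s * ((1 + t) * s * (1 - t))) = s * (((1 + t) * s * (1 - t)) * s) := by rw [h]
  rw [← mul_assoc, ss, zero_mul] at h1
  have hx' : ∀ a, s * (s * a) = 0 := fun a => by rw [← mul_assoc, ss, zero_mul]
  have hsts : s * (t * s) = s := by rw [← mul_assoc, sts]
  have hsts' : ∀ a, s * (t * (s * a)) = s * a := fun a => by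
    rw [← mul_assoc, ← mul_assoc, sts]
  have h2 : s * (((1 + t) * s * (1 - t)) * s) = - s := by
    simp only [mul_add, add_mul, mul_sub, sub_mul, mul_one, one_mul, mul_assoc, ss, hx', hsts,
      hsts', mul_zero, zero_mul, add_zero, zero_add, sub_zero, neg_zero, mul_neg, neg_mul]
    abel
  rw [h2] at h1
  exact neg_eq_zero.mp h1.symm

theorem not_opp_of_class2 (h2 : (2 : k) ≠ 0) (h3 : Nat.card k ≠ 3)
    {σ τ : LinearMap.GeneralLinearGroup k M} (hσ : σ ∈ minimalQuadraticElements G)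
    (hτ : τ ∈ minimalQuadraticElements G)
    (hc : ⁅⁅sameActionSubgroup G σ ⊔ sameActionSubgroup G τ,
      sameActionSubgroup G σ ⊔ sameActionSubgroup G τ⁆,
      sameActionSubgroup G σ ⊔ sameActionSubgroup G τ⁆ = ⊥) : ¬ Opp σ τ := by
  intro hopp
  obtain ⟨b, hb, P⟩ := exists_partner_G h2 h3 hσ hτ hopp (self_mem_sameActionClass hσ)
  have hσX : σ ∈ sameActionSubgroup G σ ⊔ sameActionSubgroup G τ :=
    Subgroup.mem_sup_left (self_mem_sameActionSubgroup hσ)
  have hbX : b ∈ sameActionSubgroup G σ ⊔ sameActionSubgroup G τ :=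
    Subgroup.mem_sup_right (sameActionClass_le hb)
  have h1 :=
    Subgroup.commutator_mem_commutator (Subgroup.commutator_mem_commutator hσX hbX) hσX
  rw [hc, Subgroup.mem_bot] at h1
  rw [commutatorElement_def, commutatorElement_def] at h1
  have hC : Commute (σ * b * σ⁻¹ * b⁻¹) σ := by
    have h1' := mul_inv_eq_one.mp h1
    exact mul_inv_eq_iff_eq_mul.mp h1'
  have h4 : σ * (b * σ * b⁻¹) = (b * σ * b⁻¹) * σ := by
    have e1 : b * σ * b⁻¹ = (σ * b * σ⁻¹ * b⁻¹)⁻¹ * σ := by group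
    have hC' : (σ * b * σ⁻¹ * b⁻¹)⁻¹ * σ = σ * (σ * b * σ⁻¹ * b⁻¹)⁻¹ := hC.inv_left
    rw [e1, ← mul_assoc, ← hC']
  rw [commute_iff_sub_one, conj_sub_one] at h4
  have h5 : (σ.1 - 1) * ((1 + (b.1 - 1)) * (σ.1 - 1) * (1 - (b.1 - 1))) =
      ((1 + (b.1 - 1)) * (σ.1 - 1) * (1 - (b.1 - 1))) * (σ.1 - 1) := by
    have e : (1 : Module.End k M) + (b.1 - 1) = b.1 := add_sub_cancel _ _
    rw [e, ← inv_val_of_sq b P.tt]
    exact h4
  have hz := partner_ring (σ.1 - 1) (b.1 - 1) P.ss P.sts h5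
  exact hσ.1.2.1.2 hz

theorem not_opp_of_unip (h2 : (2 : k) ≠ 0) (h3 : Nat.card k ≠ 3)
    {σ τ : LinearMap.GeneralLinearGroup k M} (hσ : σ ∈ minimalQuadraticElements G)
    (hτ : τ ∈ minimalQuadraticElements G)
    (hu : IsUnipotentOn (sameActionSubgroup G σ ⊔ sameActionSubgroup G τ)) : ¬ Opp σ τ := by
  intro hopp
  obtain ⟨i, hi, -, hneg⟩ := exists_involution h2 h3 hσ hτ hopp
  obtain ⟨n, hn⟩ := hu
  have hA0 : LinearMap.range (σ.1 - 1) ≠ ⊥ := by
    intro h
    apply hσ.1.2.1.2
    exact LinearMap.range_eq_bot.mp h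
  obtain ⟨α, hα, hα0⟩ := Submodule.exists_mem_ne_zero_of_ne_bot hA0
  have hαV : α ∈ LinearMap.range (σ.1 - 1) ⊔ LinearMap.range (τ.1 - 1) :=
    Submodule.mem_sup_left hα
  have hz := hn (List.replicate n i) (fun g hg => by
    rw [List.eq_of_mem_replicate hg]; exact hi) (List.length_replicate)
  simp only [bind_pure_comp, List.map_eq_map, List.map_map, List.map_replicate,
    List.prod_replicate, Function.comp_apply] at hz
  have hpow : ∀ j : ℕ, ((i.1 - 1) ^ j) α = ((-2 : k) ^ j) • α := by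
    intro j
    induction j with
    | zero => simp
    | succ j ih =>
      rw [pow_succ, Module.End.mul_apply, LinearMap.sub_apply, Module.End.one_apply, hneg α hαV,
        pow_succ, mul_smul]
      have : -α - α = (-2 : k) • α := by
        rw [neg_smul, two_smul]; abel
      rw [this, map_smul, ih, smul_comm]
  have h0 := hpow n
  rw [hz, LinearMap.zero_apply] at h0
  have h20 : ((-2 : k) ^ n) ≠ 0 := pow_ne_zero _ (neg_ne_zero.mpr h2)
  rcases smul_eq_zero.mp h0.symm with h | h
  · exact h20 h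
  · exact hα0 h

theorem ne_of_comm_ne_bot (h2 : (2 : k) ≠ 0) (h3 : Nat.card k ≠ 3)
    {σ τ : LinearMap.GeneralLinearGroup k M} (hσ : σ ∈ minimalQuadraticElements G)
    (hτ : τ ∈ minimalQuadraticElements G) (hopp : ¬ Opp σ τ)
    (hc : ⁅sameActionSubgroup G σ, sameActionSubgroup G τ⁆ ≠ ⊥) :
    (σ.1 - 1) * (τ.1 - 1) ≠ (τ.1 - 1) * (σ.1 - 1) := by
  have hex : ∃ e ∈ sameActionSubgroup G σ, ∃ f ∈ sameActionSubgroup G τ, e * f ≠ f * e := by
    by_contra hcon
    push Not at hcon
    apply hc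
    rw [Subgroup.commutator_eq_bot_iff_le_centralizer]
    intro a ha
    rw [Subgroup.mem_centralizer_iff]
    intro b hb
    exact (hcon a ha b hb).symm
  obtain ⟨e, he, f, hf, hef⟩ := hex
  have he1 : e ≠ 1 := by
    rintro rfl
    apply hef; rw [one_mul, mul_one]
  have hf1 : f ≠ 1 := by
    rintro rfl
    apply hef; rw [one_mul, mul_one]
  have hec := (mem_sameActionSubgroup hσ he).resolve_left he1
  have hfc := (mem_sameActionSubgroup hτ hf).resolve_left hf1
  have hne0 : (e.1 - 1) * (f.1 - 1) ≠ (f.1 - 1) * (e.1 - 1) := fun h =>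
    hef (commute_iff_sub_one.mpr h)
  exact all_noncomm h2 h3 hσ hτ hopp hec hfc hne0 (self_mem_sameActionClass hσ)
    (self_mem_sameActionClass hτ)

theorem comm_ne_bot_of_sup
    {σ τ : LinearMap.GeneralLinearGroup k M} (hσ : σ ∈ minimalQuadraticElements G)
    (hτ : τ ∈ minimalQuadraticElements G)
    (hc : ⁅sameActionSubgroup G σ ⊔ sameActionSubgroup G τ,
      sameActionSubgroup G σ ⊔ sameActionSubgroup G τ⁆ ≠ ⊥) :
    ⁅sameActionSubgroup G σ, sameActionSubgroup G τ⁆ ≠ ⊥ := by
  intro h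
  apply hc
  rw [eq_bot_iff]
  apply commutator_sup_le
  · exact sameActionSubgroup_comm hσ
  · exact sameActionSubgroup_comm hτ
  · intro e he f hf
    have := Subgroup.commutator_mem_commutator he hf
    rw [h, commutatorElement_def] at this
    exact this
  · intro z hz e _
    rw [Subgroup.mem_bot] at hz
    rw [hz, mul_one, one_mul]
  · intro z hz f _
    rw [Subgroup.mem_bot] at hz
    rw [hz, mul_one, one_mul]

end Cfsg.Agent.Lib.Helper8.Qr
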