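import Mathlib
import Cfsg.Prelude.Def_RootSubgroups

/-! Transport of the root subgroup notions to a subgroup `H` (via `subgroupOf`). -/

set_option autoImplicit false
set_option linter.unusedSectionVars false
set_option linter.unusedSimpArgs false

namespace Cfsg.Agent.Lib.Helper8.Qr

open Cfsg

variable {Γ : Type*} [Group Γ]

theorem conjBy_subgroupOf (H A : Subgroup Γ) (g : H) :
    conjBy (A.subgroupOf H) g = (conjBy A g.1).subgroupOf H := by
  ext x
  simp only [Subgroup.mem_map, Subgroup.mem_subgroupOf, MulEquiv.coe_toMonoidHom,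
    MulAut.conj_apply]
  constructor
  · rintro ⟨y, hy, rfl⟩
    exact ⟨y.1, hy, by simp⟩
  · rintro ⟨y, hy, hxy⟩
    have hyH : y ∈ H := by
      have : y = g.1⁻¹ * x.1 * g.1 := by rw [← hxy]; group
      rw [this]; exact H.mul_mem (H.mul_mem (H.inv_mem g.2) x.2) g.2
    refine ⟨⟨y, hyH⟩, hy, Subtype.ext ?_⟩
    simpa using hxy

theorem commutator_le_of_le {H A B : Subgroup Γ} (hA : A ≤ H) (hB : B ≤ H) : ⁅A, B⁆ ≤ H := by
  rw [Subgroup.commutator_le]
  intro a ha b hb
  rw [commutatorElement_def]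
  exact H.mul_mem (H.mul_mem (H.mul_mem (hA ha) (hB hb)) (H.inv_mem (hA ha))) (H.inv_mem (hB hb))

theorem commutator_subgroupOf {H A B : Subgroup Γ} (hA : A ≤ H) (hB : B ≤ H) :
    ⁅A.subgroupOf H, B.subgroupOf H⁆ = ⁅A, B⁆.subgroupOf H := by
  apply Subgroup.map_injective H.subtype_injective
  rw [Subgroup.map_commutator, Subgroup.map_subgroupOf_eq_of_le hA,
    Subgroup.map_subgroupOf_eq_of_le hB,
    Subgroup.map_subgroupOf_eq_of_le (commutator_le_of_le hA hB)]

theorem rankOneCondition_subgroupOf {H A B : Subgroup Γ} (hB : B ≤ H)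
    (h : RankOneCondition A B) : RankOneCondition (A.subgroupOf H) (B.subgroupOf H) := by
  intro a ha hne
  have ha' : a.1 ∈ A := ha
  have hne' : a.1 ≠ 1 := fun h' => hne (Subtype.ext h')
  obtain ⟨b, hb, hb1, e⟩ := h a.1 ha' hne'
  refine ⟨⟨b, hB hb⟩, hb, ?_, ?_⟩
  · intro h'
    exact hb1 (congrArg Subtype.val h')
  · rw [conjBy_subgroupOf, conjBy_subgroupOf]
    have e1 : ((⟨b, hB hb⟩ : H)⁻¹ : H).1 = b⁻¹ := rfl
    have e2 : ((a⁻¹ : H) : Γ) = a.1⁻¹ := rfl
    rw [e1, e2, e]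

theorem isRankOnePair_subgroupOf {H A B : Subgroup Γ} (hA : A ≤ H) (hB : B ≤ H)
    (h : IsRankOnePair A B) : IsRankOnePair (A.subgroupOf H) (B.subgroupOf H) := by
  refine ⟨?_, ?_, ?_, rankOneCondition_subgroupOf hB h.cond_left,
    rankOneCondition_subgroupOf hA h.cond_right⟩
  · intro e
    apply h.ne
    have := congrArg (Subgroup.map H.subtype) e
    rwa [Subgroup.map_subgroupOf_eq_of_le hA, Subgroup.map_subgroupOf_eq_of_le hB] at this
  · have := h.nilpotent_left
    exact Group.nilpotent_of_mulEquiv (Subgroup.subgroupOfEquivOfLe hA).symm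
  · have := h.nilpotent_right
    exact Group.nilpotent_of_mulEquiv (Subgroup.subgroupOfEquivOfLe hB).symm

theorem rootCommutatorCase_subgroupOf {S : Set (Subgroup Γ)} {H A B : Subgroup Γ} (hA : A ≤ H)
    (hB : B ≤ H) (h : RootCommutatorCase S A B) :
    RootCommutatorCase ((fun X : Subgroup Γ => X.subgroupOf H) '' S) (A.subgroupOf H)
      (B.subgroupOf H) := by
  have hC := commutator_le_of_le hA hB
  unfold RootCommutatorCase
  rw [commutator_subgroupOf hA hB]
  refine ⟨⟨_, h.1, rfl⟩, ?_, ?_, ?_⟩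
  · intro c hc x hx
    have hx' : x.1 ∈ A ⊔ B := by
      have hle : A.subgroupOf H ⊔ B.subgroupOf H ≤ (A ⊔ B).subgroupOf H :=
        sup_le (Subgroup.subgroupOf_mono H le_sup_left)
          (Subgroup.subgroupOf_mono H le_sup_right)
      exact hle hx
    exact Subtype.ext (h.2.1 c.1 hc x.1 hx')
  · intro a ha hne
    have hne' : a.1 ≠ 1 := fun h' => hne (Subtype.ext h')
    apply Subgroup.map_injective H.subtype_injective
    rw [MonoidHom.map_closure, Subgroup.map_subgroupOf_eq_of_le hC, ← h.2.2.1 a.1 ha hne']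
    congr 1
    ext z
    constructor
    · rintro ⟨_, ⟨b, hb, rfl⟩, rfl⟩
      exact ⟨b.1, hb, rfl⟩
    · rintro ⟨b, hb, rfl⟩
      exact ⟨_, ⟨⟨b, hB hb⟩, hb, rfl⟩, rfl⟩
  · intro b hb hne
    have hne' : b.1 ≠ 1 := fun h' => hne (Subtype.ext h')
    apply Subgroup.map_injective H.subtype_injective
    rw [MonoidHom.map_closure, Subgroup.map_subgroupOf_eq_of_le hC, ← h.2.2.2 b.1 hb hne']
    congr 1
    ext z
    constructor
    · rintro ⟨_, ⟨a, ha, rfl⟩, rfl⟩
      exact ⟨a.1, ha, rfl⟩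
    · rintro ⟨a, ha, rfl⟩
      exact ⟨_, ⟨⟨a, hA ha⟩, ha, rfl⟩, rfl⟩

theorem iSup_subgroupOf_eq_top (S : Set (Subgroup Γ)) :
    (⨆ A' ∈ (fun X : Subgroup Γ => X.subgroupOf (⨆ B ∈ S, B)) '' S, A') = ⊤ := by
  apply Subgroup.map_injective (⨆ B ∈ S, B).subtype_injective
  rw [iSup_image, Subgroup.map_iSup]
  have : ∀ A : Subgroup Γ, Subgroup.map (⨆ B ∈ S, B).subtype
      (⨆ (_ : A ∈ S), A.subgroupOf (⨆ B ∈ S, B)) = ⨆ (_ : A ∈ S), A := by
    intro A
    rw [Subgroup.map_iSup]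
    apply iSup_congr
    intro hA
    exact Subgroup.map_subgroupOf_eq_of_le (le_biSup (fun X => X) hA)
  simp_rw [this]
  rw [← MonoidHom.range_eq_map, Subgroup.range_subtype]

end Cfsg.Agent.Lib.Helper8.Qr
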