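import Mathlib
import Cfsg.Agent.Lib.Helper8.Qr24
import Cfsg.Agent.Lib.Helper8.St4

/-! Matrix units attached to a pair of partners, and the resulting copy of `SL₂(k)`. -/

set_option autoImplicit false
set_option linter.unusedSectionVars false
set_option linter.unusedSimpArgs false

namespace Cfsg.Agent.Lib.Helper8.Qr

open Cfsg Cfsg.Agent.Lib.Helper8.Qp Matrix

universe u

variable {k : Type u} [Field k] {M : Type u} [AddCommGroup M] [Module k M]

/-- a system of `2 × 2` matrix units in `End M` -/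
structure MU (e11 e12 e21 e22 : Module.End k M) : Prop where
  h1111 : e11 * e11 = e11
  h1112 : e11 * e12 = e12
  h1121 : e11 * e21 = 0
  h1122 : e11 * e22 = 0
  h1211 : e12 * e11 = 0
  h1212 : e12 * e12 = 0
  h1221 : e12 * e21 = e11
  h1222 : e12 * e22 = e12
  h2111 : e21 * e11 = e21
  h2112 : e21 * e12 = e22
  h2121 : e21 * e21 = 0
  h2122 : e21 * e22 = 0
  h2211 : e22 * e11 = 0
  h2212 : e22 * e12 = 0
  h2221 : e22 * e21 = e21
  h2222 : e22 * e22 = e22

theorem MU.of_partner {s t : Module.End k M} (ss : s * s = 0) (tt : t * t = 0)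
    (sts : s * t * s = s) (tst : t * s * t = t) : MU (s * t) s t (t * s) where
  h1111 := by rw [← mul_assoc, sts]
  h1112 := sts
  h1121 := by rw [mul_assoc, tt, mul_zero]
  h1122 := by rw [mul_assoc, ← mul_assoc t t s, tt, zero_mul, mul_zero]
  h1211 := by rw [← mul_assoc, ss, zero_mul]
  h1212 := ss
  h1221 := rfl
  h1222 := by rw [← mul_assoc, sts]
  h2111 := by rw [← mul_assoc, tst]
  h2112 := rfl
  h2121 := tt
  h2122 := by rw [← mul_assoc, tt, zero_mul]
  h2211 := by rw [mul_assoc, ← mul_assoc s s t, ss, zero_mul, mul_zero]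
  h2212 := by rw [mul_assoc, ss, mul_zero]
  h2221 := tst
  h2222 := by rw [← mul_assoc, tst]

/-- the representation of `2 × 2` matrices attached to matrix units -/
def psi (e11 e12 e21 e22 : Module.End k M) (X : Matrix (Fin 2) (Fin 2) k) : Module.End k M :=
  1 + (X 0 0 - 1) • e11 + X 0 1 • e12 + X 1 0 • e21 + (X 1 1 - 1) • e22

section

variable {e11 e12 e21 e22 : Module.End k M} (U : MU e11 e12 e21 e22)
include U

theorem MU.psi_one : psi e11 e12 e21 e22 1 = 1 := by
  unfold psi
  simp only [Matrix.one_apply_eq, Matrix.one_apply_ne (show (0 : Fin 2) ≠ 1 by decide),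
    Matrix.one_apply_ne (show (1 : Fin 2) ≠ 0 by decide), sub_self, zero_smul, add_zero]

theorem MU.psi_mul (X Y : Matrix (Fin 2) (Fin 2) k) :
    psi e11 e12 e21 e22 (X * Y) = psi e11 e12 e21 e22 X * psi e11 e12 e21 e22 Y := by
  unfold psi
  simp only [Matrix.mul_apply, Fin.sum_univ_two]
  generalize X 0 0 = a
  generalize X 0 1 = b
  generalize X 1 0 = c
  generalize X 1 1 = d
  generalize Y 0 0 = a'
  generalize Y 0 1 = b'
  generalize Y 1 0 = c'
  generalize Y 1 1 = d'
  simp only [mul_add, add_mul, smul_mul_assoc, mul_smul_comm, smul_smul, mul_one, one_mul,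
    U.h1111, U.h1112, U.h1121, U.h1122, U.h1211, U.h1212, U.h1221, U.h1222, U.h2111, U.h2112,
    U.h2121, U.h2122, U.h2211, U.h2212, U.h2221, U.h2222, smul_zero, add_zero, zero_add]
  module

/-- `psi` as a monoid homomorphism -/
def MU.psiHom : Matrix (Fin 2) (Fin 2) k →* Module.End k M where
  toFun := psi e11 e12 e21 e22
  map_one' := U.psi_one
  map_mul' := U.psi_mul

/-- the action of `SL₂(k)` -/
noncomputable def MU.Phi : SpecialLinearGroup (Fin 2) k →* LinearMap.GeneralLinearGroup k M :=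
  (Units.map U.psiHom).comp SpecialLinearGroup.toGL

theorem MU.Phi_val (g : SpecialLinearGroup (Fin 2) k) :
    (U.Phi g).1 = psi e11 e12 e21 e22 g.1 := rfl

theorem MU.Phi_upper (g : SpecialLinearGroup (Fin 2) k) (h10 : g.1 1 0 = 0) (h00 : g.1 0 0 = 1)
    (h11 : g.1 1 1 = 1) : (U.Phi g).1 = 1 + g.1 0 1 • e12 := by
  rw [U.Phi_val]
  unfold psi
  simp only [h10, h00, h11, sub_self, zero_smul, add_zero]

theorem MU.Phi_lower (g : SpecialLinearGroup (Fin 2) k) (h01 : g.1 0 1 = 0) (h00 : g.1 0 0 = 1)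
    (h11 : g.1 1 1 = 1) : (U.Phi g).1 = 1 + g.1 1 0 • e21 := by
  rw [U.Phi_val]
  unfold psi
  simp only [h01, h00, h11, sub_self, zero_smul, add_zero]

theorem MU.Phi_ker (h12 : e12 ≠ 0) : U.Phi.ker = ⊥ := by
  rw [eq_bot_iff]
  intro g hg
  rw [MonoidHom.mem_ker] at hg
  have h := congrArg Units.val hg
  rw [U.Phi_val, Units.val_one] at h
  unfold psi at h
  have h0 : (g.1 0 0 - 1) • e11 + g.1 0 1 • e12 + g.1 1 0 • e21 + (g.1 1 1 - 1) • e22 = 0 := by
    have := congrArg (fun x => x - 1) h
    simp only [sub_self] at this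
    rw [← this]
    abel
  have h21 : e21 ≠ 0 := by
    intro h
    apply h12
    rw [← U.h1222, ← U.h2112, h, zero_mul, mul_zero]
  have h11 : e11 ≠ 0 := by
    intro h
    apply h12
    rw [← U.h1112, h, zero_mul]
  have h22 : e22 ≠ 0 := by
    intro h
    apply h12
    rw [← U.h1222, h, mul_zero]
  have ha : g.1 0 0 - 1 = 0 := by
    have := congrArg (fun x => e11 * x * e11) h0
    simp only [mul_add, add_mul, smul_mul_assoc, mul_smul_comm, smul_smul, mul_one, one_mul,
      U.h1111, U.h1112, U.h1121, U.h1122, U.h1211, U.h1212, U.h1221, U.h1222, U.h2111, U.h2112,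
      U.h2121, U.h2122, U.h2211, U.h2212, U.h2221, U.h2222, smul_zero, add_zero, zero_add,
      mul_zero, zero_mul] at this
    exact (smul_eq_zero.mp this).resolve_right h11
  have hb : g.1 0 1 = 0 := by
    have := congrArg (fun x => e11 * x * e22) h0
    simp only [mul_add, add_mul, smul_mul_assoc, mul_smul_comm, smul_smul, mul_one, one_mul,
      U.h1111, U.h1112, U.h1121, U.h1122, U.h1211, U.h1212, U.h1221, U.h1222, U.h2111, U.h2112,
      U.h2121, U.h2122, U.h2211, U.h2212, U.h2221, U.h2222, smul_zero, add_zero, zero_add,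
      mul_zero, zero_mul] at this
    exact (smul_eq_zero.mp this).resolve_right h12
  have hc : g.1 1 0 = 0 := by
    have := congrArg (fun x => e22 * x * e11) h0
    simp only [mul_add, add_mul, smul_mul_assoc, mul_smul_comm, smul_smul, mul_one, one_mul,
      U.h1111, U.h1112, U.h1121, U.h1122, U.h1211, U.h1212, U.h1221, U.h1222, U.h2111, U.h2112,
      U.h2121, U.h2122, U.h2211, U.h2212, U.h2221, U.h2222, smul_zero, add_zero, zero_add,
      mul_zero, zero_mul] at this
    exact (smul_eq_zero.mp this).resolve_right h21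
  have hd : g.1 1 1 - 1 = 0 := by
    have := congrArg (fun x => e22 * x * e22) h0
    simp only [mul_add, add_mul, smul_mul_assoc, mul_smul_comm, smul_smul, mul_one, one_mul,
      U.h1111, U.h1112, U.h1121, U.h1122, U.h1211, U.h1212, U.h1221, U.h1222, U.h2111, U.h2112,
      U.h2121, U.h2122, U.h2211, U.h2212, U.h2221, U.h2222, smul_zero, add_zero, zero_add,
      mul_zero, zero_mul] at this
    exact (smul_eq_zero.mp this).resolve_right h22
  rw [Subgroup.mem_bot]
  apply Subtype.ext
  ext i j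
  fin_cases i <;> fin_cases j
  · exact sub_eq_zero.mp ha
  · exact hb
  · exact hc
  · exact sub_eq_zero.mp hd

end

theorem upper_sup_lower : upperUnipotentSL2 k ⊔ lowerUnipotentSL2 k = ⊤ := by
  rw [eq_top_iff, ← Cfsg.Agent.Lib.Helper8.St.closure_xS_yS, Subgroup.closure_le]
  rintro g (⟨u, rfl⟩ | ⟨u, rfl⟩)
  · apply Subgroup.mem_sup_left
    apply Subgroup.subset_closure
    exact ⟨rfl, rfl, rfl⟩
  · apply Subgroup.mem_sup_right
    apply Subgroup.subset_closure
    exact ⟨rfl, rfl, rfl⟩

end Cfsg.Agent.Lib.Helper8.Qr
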