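import Mathlib
import Cfsg.Agent.Lib.Helper8.Qr25
import Cfsg.Agent.Lib.Helper8.Qr26

/-! The three cases for a pair of root subgroups of a quadratic pair; `SL₂(k)`-subpairs. -/

set_option autoImplicit false
set_option linter.unusedSectionVars false
set_option linter.unusedSimpArgs false

namespace Cfsg.Agent.Lib.Helper8.Qr

open Cfsg Cfsg.Agent.Lib.Helper8.Qp Matrix

universe u

theorem three_lt_card {k : Type*} [Field k] (h2 : (2 : k) ≠ 0) (h3 : Nat.card k ≠ 3) :
    3 < ENat.card k := by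
  classical
  obtain ⟨a, ha0, ha1⟩ := Cfsg.Agent.Lib.Helper8.Sr.exists_ne_zero_sq_ne_one h2 h3
  rcases finite_or_infinite k with hfin | hinf
  · have := Fintype.ofFinite k
    rw [ENat.card_eq_coe_fintype_card]
    have hm1 : (-1 : k) ≠ 1 := by
      intro h
      apply h2
      linear_combination (-1 : k) * h
    have ha1' : a ≠ 1 := by
      rintro rfl
      exact ha1 (one_pow 2)
    have ham1 : a ≠ -1 := by
      rintro rfl
      apply ha1
      ring
    have hs : ({0, 1, -1, a} : Finset k).card = 4 := by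
      rw [Finset.card_insert_of_notMem, Finset.card_insert_of_notMem,
        Finset.card_insert_of_notMem, Finset.card_singleton]
      · simp only [Finset.mem_singleton]
        exact fun h => ham1 h.symm
      · simp only [Finset.mem_insert, Finset.mem_singleton, not_or]
        exact ⟨fun h => hm1 h.symm, fun h => ha1' h.symm⟩
      · simp only [Finset.mem_insert, Finset.mem_singleton, not_or]
        refine ⟨zero_ne_one, ?_, fun h => ha0 h.symm⟩
        intro h
        have : (1 : k) = 0 := by linear_combination h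
        exact one_ne_zero this
    have hle := Finset.card_le_univ ({0, 1, -1, a} : Finset k)
    have : 3 < Fintype.card k := by omega
    exact_mod_cast this
  · rw [ENat.card_eq_top_of_infinite]
    exact ENat.natCast_lt_top 3

variable {k : Type u} [Field k] {M : Type u} [AddCommGroup M] [Module k M]
variable {G : Subgroup (LinearMap.GeneralLinearGroup k M)}
variable [FiniteDimensional k M]

theorem psl2_of_opp (h2 : (2 : k) ≠ 0) (h3 : Nat.card k ≠ 3)
    {σ τ : LinearMap.GeneralLinearGroup k M} (hσ : σ ∈ minimalQuadraticElements G)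
    (hτ : τ ∈ minimalQuadraticElements G) (hopp : Opp σ τ) :
    ∃ A₀ B₀ : Subgroup (LinearMap.GeneralLinearGroup k M), A₀ ≤ sameActionSubgroup G σ ∧
      B₀ ≤ sameActionSubgroup G τ ∧ IsPSL2PairOver k A₀ B₀ := by
  obtain ⟨b, hb, P⟩ := exists_partner_G h2 h3 hσ hτ hopp (self_mem_sameActionClass hσ)
  have U := MU.of_partner P.ss P.tt P.sts P.tst
  refine ⟨(upperUnipotentSL2 k).map U.Phi, (lowerUnipotentSL2 k).map U.Phi, ?_, ?_, U.Phi, ?_, ?_,
    rfl, rfl⟩
  · rw [Subgroup.map_le_iff_le_comap]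
    unfold upperUnipotentSL2
    rw [Subgroup.closure_le]
    rintro g ⟨h10, h00, h11⟩
    show U.Phi g ∈ sameActionSubgroup G σ
    have hv := U.Phi_upper g h10 h00 h11
    by_cases hc : g.1 0 1 = 0
    · have : U.Phi g = 1 := Units.ext (by rw [hv, hc, zero_smul, add_zero, Units.val_one])
      rw [this]; exact Subgroup.one_mem _
    · have : U.Phi g = sc (σ.1 - 1) P.ss (g.1 0 1) := Units.ext (by rw [hv, sc_val])
      rw [this]
      exact sameActionClass_le (sc_mem_sameActionClass hσ (self_mem_sameActionClass hσ) hc)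
  · rw [Subgroup.map_le_iff_le_comap]
    unfold lowerUnipotentSL2
    rw [Subgroup.closure_le]
    rintro g ⟨h01, h00, h11⟩
    show U.Phi g ∈ sameActionSubgroup G τ
    have hv := U.Phi_lower g h01 h00 h11
    by_cases hc : g.1 1 0 = 0
    · have : U.Phi g = 1 := Units.ext (by rw [hv, hc, zero_smul, add_zero, Units.val_one])
      rw [this]; exact Subgroup.one_mem _
    · have : U.Phi g = sc (b.1 - 1) P.tt (g.1 1 0) := Units.ext (by rw [hv, sc_val])
      rw [this]
      exact sameActionClass_le (sc_mem_sameActionClass hτ hb hc)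
  · rw [← Subgroup.map_sup, upper_sup_lower, MonoidHom.range_eq_map]
  · rw [U.Phi_ker hσ.1.2.1.2]
    exact bot_le

theorem class_le_two_of_not_opp (hG : IsQuadraticPair G) (h2 : (2 : k) ≠ 0)
    (h3 : Nat.card k ≠ 3)
    {σ τ : LinearMap.GeneralLinearGroup k M} (hσ : σ ∈ minimalQuadraticElements G)
    (hτ : τ ∈ minimalQuadraticElements G) (hopp : ¬ Opp σ τ) :
    ⁅⁅sameActionSubgroup G σ ⊔ sameActionSubgroup G τ,
      sameActionSubgroup G σ ⊔ sameActionSubgroup G τ⁆,
      sameActionSubgroup G σ ⊔ sameActionSubgroup G τ⁆ = ⊥ := by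
  by_cases hc : ⁅sameActionSubgroup G σ, sameActionSubgroup G τ⁆ = ⊥
  · have : ⁅sameActionSubgroup G σ ⊔ sameActionSubgroup G τ,
        sameActionSubgroup G σ ⊔ sameActionSubgroup G τ⁆ = ⊥ := by
      by_contra hcon
      exact comm_ne_bot_of_sup hσ hτ hcon hc
    rw [this, Subgroup.commutator_bot_left]
  · have hne := ne_of_comm_ne_bot h2 h3 hσ hτ hopp hc
    exact (class2_main hG h2 h3 hσ hτ hopp hne).2.2.2.2.1

theorem conjBy_eq_of_comm {Γ : Type*} [Group Γ] {A : Subgroup Γ} {g : Γ}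
    (h : ∀ a ∈ A, g * a = a * g) : conjBy A g = A := by
  ext x
  simp only [Subgroup.mem_map, MulEquiv.coe_toMonoidHom, MulAut.conj_apply]
  constructor
  · rintro ⟨y, hy, rfl⟩
    rw [h y hy, mul_assoc, mul_inv_cancel, mul_one]
    exact hy
  · intro hx
    refine ⟨x, hx, ?_⟩
    rw [h x hx, mul_assoc, mul_inv_cancel, mul_one]

theorem central_of_class2 {Γ : Type*} [Group Γ] {X : Subgroup Γ} (h : ⁅⁅X, X⁆, X⁆ = ⊥) :
    ∀ z ∈ ⁅X, X⁆, ∀ x ∈ X, z * x = x * z := by
  rw [Subgroup.commutator_eq_bot_iff_le_centralizer] at h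
  intro z hz x hx
  have := h hz
  rw [Subgroup.mem_centralizer_iff] at this
  exact (this x hx).symm

theorem opp_of_rankOneCondition (hG : IsQuadraticPair G) (h2 : (2 : k) ≠ 0)
    (h3 : Nat.card k ≠ 3)
    {σ τ : LinearMap.GeneralLinearGroup k M} (hσ : σ ∈ minimalQuadraticElements G)
    (hτ : τ ∈ minimalQuadraticElements G)
    (hne : sameActionSubgroup G σ ≠ sameActionSubgroup G τ)
    (hc : RankOneCondition (sameActionSubgroup G σ) (sameActionSubgroup G τ)) : Opp σ τ := by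
  by_contra hopp
  have hcl := class_le_two_of_not_opp hG h2 h3 hσ hτ hopp
  have hcen := central_of_class2 hcl
  have hσE := self_mem_sameActionSubgroup hσ
  have hσ1 : σ ≠ 1 := ne_one_of_mem_class (self_mem_sameActionClass hσ)
  obtain ⟨b, hb, hb1, e⟩ := hc σ hσE hσ1
  have hσX : σ ∈ sameActionSubgroup G σ ⊔ sameActionSubgroup G τ := Subgroup.mem_sup_left hσE
  have hbX : b ∈ sameActionSubgroup G σ ⊔ sameActionSubgroup G τ := Subgroup.mem_sup_right hb
  have hmem : b⁻¹ * σ * b⁻¹⁻¹ ∈ conjBy (sameActionSubgroup G τ) σ⁻¹ := by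
    rw [← e]
    exact ⟨σ, hσE, rfl⟩
  obtain ⟨b₁, hb₁, e1⟩ := hmem
  have e1' : σ⁻¹ * b₁ * σ⁻¹⁻¹ = b⁻¹ * σ * b⁻¹⁻¹ := e1
  rw [inv_inv, inv_inv] at e1'
  have hb₁X : b₁ ∈ sameActionSubgroup G σ ⊔ sameActionSubgroup G τ := Subgroup.mem_sup_right hb₁
  obtain ⟨c₁, hc₁⟩ : ∃ c, c = b⁻¹ * σ * b⁻¹⁻¹ * σ⁻¹ := ⟨_, rfl⟩
  obtain ⟨c₂, hc₂⟩ : ∃ c, c = σ⁻¹ * b₁ * σ⁻¹⁻¹ * b₁⁻¹ := ⟨_, rfl⟩
  have hc₁X : c₁ ∈ ⁅sameActionSubgroup G σ ⊔ sameActionSubgroup G τ,
      sameActionSubgroup G σ ⊔ sameActionSubgroup G τ⁆ := by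
    have := Subgroup.commutator_mem_commutator (Subgroup.inv_mem _ hbX) hσX
    rw [commutatorElement_def] at this
    rw [hc₁]; exact this
  have hc₂X : c₂ ∈ ⁅sameActionSubgroup G σ ⊔ sameActionSubgroup G τ,
      sameActionSubgroup G σ ⊔ sameActionSubgroup G τ⁆ := by
    have := Subgroup.commutator_mem_commutator (Subgroup.inv_mem _ hσX) hb₁X
    rw [commutatorElement_def] at this
    rw [hc₂]; exact this
  have e2 : σ = c₁⁻¹ * c₂ * b₁ := by
    have e3 : c₁⁻¹ * c₂ * b₁ = σ * b⁻¹ * σ⁻¹ * b * (σ⁻¹ * b₁ * σ) := by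
      rw [hc₁, hc₂]; group
    rw [e3, e1']; group
  have k1 : Commute b c₁ := (hcen c₁ hc₁X b hbX).symm
  have k2 : Commute b c₂ := (hcen c₂ hc₂X b hbX).symm
  have k3 : Commute b b₁ := sameActionSubgroup_comm hτ b hb b₁ hb₁
  have k4 : Commute b (c₁⁻¹ * c₂ * b₁) := (k1.inv_right.mul_right k2).mul_right k3
  rw [← e2] at k4
  have hbot := commutator_eq_bot_of_cond h2 h3 hσ hτ
    (Or.inl ⟨σ, hσE, hσ1, b, hb, hb1, k4.symm⟩)
  rw [Subgroup.commutator_eq_bot_iff_le_centralizer] at hbot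
  have hcomm : ∀ a ∈ sameActionSubgroup G σ, ∀ f ∈ sameActionSubgroup G τ, f * a = a * f := by
    intro a ha f hf
    have := hbot ha
    rw [Subgroup.mem_centralizer_iff] at this
    exact this f hf
  apply hne
  have r1 : conjBy (sameActionSubgroup G σ) b⁻¹ = sameActionSubgroup G σ := by
    apply conjBy_eq_of_comm
    intro a ha
    have := hcomm a ha b hb
    have e4 : b⁻¹ * a = b⁻¹ * (a * b) * b⁻¹ := by group
    rw [e4, ← this]; group
  have r2 : conjBy (sameActionSubgroup G τ) σ⁻¹ = sameActionSubgroup G τ := by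
    apply conjBy_eq_of_comm
    intro f hf
    have := hcomm σ hσE f hf
    have e4 : σ⁻¹ * f = σ⁻¹ * (f * σ) * σ⁻¹ := by group
    rw [e4, this]; group
  rw [← r1, e, r2]

theorem pair_cases (hG : IsQuadraticPair G) (h2 : (2 : k) ≠ 0) (h3 : Nat.card k ≠ 3)
    {σ τ : LinearMap.GeneralLinearGroup k M} (hσ : σ ∈ minimalQuadraticElements G)
    (hτ : τ ∈ minimalQuadraticElements G) :
    ⁅sameActionSubgroup G σ, sameActionSubgroup G τ⁆ = ⊥ ∨
      IsRankOnePair (sameActionSubgroup G σ) (sameActionSubgroup G τ) ∨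
      RootCommutatorCase (quadraticRootSubgroups G) (sameActionSubgroup G σ)
        (sameActionSubgroup G τ) := by
  by_cases hopp : Opp σ τ
  · right; left
    rcases unipotent_or_special h2 h3 hσ hτ with hu | hs
    · exact absurd hopp (not_opp_of_unip h2 h3 hσ hτ hu)
    · exact hs.1.1
  · by_cases hc : ⁅sameActionSubgroup G σ, sameActionSubgroup G τ⁆ = ⊥
    · exact Or.inl hc
    · right; right
      have hne := ne_of_comm_ne_bot h2 h3 hσ hτ hopp hc
      obtain ⟨r1, r2, r3, -, r5, -⟩ := class2_main hG h2 h3 hσ hτ hopp hne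
      refine ⟨r1, ?_, r2, r3⟩
      intro c hc x hx
      exact central_of_class2 r5 c (Subgroup.commutator_mono le_sup_left le_sup_right hc) x hx

theorem exists_rankOne_partner (hG : IsQuadraticPair G) (h2 : (2 : k) ≠ 0)
    (h3 : Nat.card k ≠ 3)
    {σ : LinearMap.GeneralLinearGroup k M} (hσ : σ ∈ minimalQuadraticElements G) :
    ∃ B ∈ quadraticRootSubgroups G, IsRankOnePair (sameActionSubgroup G σ) B := by
  obtain ⟨g, hg, hopp⟩ := exists_opp hG h2 h3 hσ
  have hτ := conj_mem_Qd hg hσ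
  refine ⟨_, ⟨_, hτ, rfl⟩, ?_⟩
  rcases unipotent_or_special h2 h3 hσ hτ with hu | hs
  · exact absurd hopp (not_opp_of_unip h2 h3 hσ hτ hu)
  · exact hs.1.1

end Cfsg.Agent.Lib.Helper8.Qr
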