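import Mathlib
import Cfsg.Agent.Lib.Helper8.BS8

/-! Unipotent action: a unipotent subgroup normalized by a unipotent subgroup. -/

set_option autoImplicit false
set_option linter.unusedSectionVars false
set_option linter.unusedSimpArgs false

namespace Cfsg.Agent.Lib.Helper8.Qr

open Cfsg Cfsg.Agent.Lib.Helper8

universe u v w

section

variable {k : Type*} [Field k] {M : Type*} [AddCommGroup M] [Module k M]
variable {Γ : Type*} [Group Γ] {ρ : Γ →* (M →ₗ[k] M)}

/-- The elements acting like some element of `B`. -/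
def actsLike (ρ : Γ →* (M →ₗ[k] M)) (B : Subgroup Γ) : Subgroup Γ where
  carrier := {g | ∃ b ∈ B, ρ g = ρ b}
  one_mem' := ⟨1, B.one_mem, rfl⟩
  mul_mem' := by
    rintro x y ⟨b, hb, e⟩ ⟨c, hc, e'⟩
    exact ⟨b * c, B.mul_mem hb hc, by rw [map_mul, map_mul, e, e']⟩
  inv_mem' := by
    rintro x ⟨b, hb, e⟩
    refine ⟨b⁻¹, B.inv_mem hb, ?_⟩
    calc ρ x⁻¹ = ρ x⁻¹ * (ρ b * ρ b⁻¹) := by rw [rho_mul_inv, mul_one]
      _ = (ρ x⁻¹ * ρ x) * ρ b⁻¹ := by rw [← e, mul_assoc]
      _ = ρ b⁻¹ := by rw [rho_inv_mul, one_mul]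

theorem lowFlag_sup_le_of_trivial {A B : Subgroup Γ} (hA : ∀ a ∈ A, ρ a = 1) (j : ℕ) :
    lowFlag ρ (A ⊔ B) j ≤ lowFlag ρ B j := by
  have hle : A ⊔ B ≤ actsLike ρ B := by
    apply sup_le
    · intro a ha
      exact ⟨1, B.one_mem, by rw [hA a ha, map_one]⟩
    · intro b hb
      exact ⟨b, hb, rfl⟩
  induction j with
  | zero => rw [lowFlag_zero, lowFlag_zero]
  | succ j ih =>
    rw [lowFlag_succ]
    apply iSup₂_le
    intro g hg
    obtain ⟨b, hb, e⟩ := hle hg
    rw [e]
    apply le_trans (Submodule.map_mono ih)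
    rw [lowFlag_succ]
    exact le_iSup₂_of_le b hb le_rfl

theorem unip_sup_of_trivial {A B : Subgroup Γ} (hA : ∀ a ∈ A, ρ a = 1) (hB : Unip ρ B) :
    Unip ρ (A ⊔ B) := by
  obtain ⟨n, hn⟩ := hB
  refine ⟨n, ?_⟩
  rw [eq_bot_iff, ← hn]
  exact lowFlag_sup_le_of_trivial hA n

end

theorem unip_sup_aux (k : Type u) [Field k] (n : ℕ) :
    ∀ (M : Type v) [AddCommGroup M] [Module k M] [FiniteDimensional k M] (Γ : Type w) [Group Γ]
      (ρ : Γ →* (M →ₗ[k] M)) (A B : Subgroup Γ),
      Module.finrank k M = n → Unip ρ A → Unip ρ B →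
      (∀ b ∈ B, ∀ a ∈ A, b⁻¹ * a * b ∈ A) → Unip ρ (A ⊔ B) := by
  induction n using Nat.strong_induction_on with
  | _ n ih =>
    intro M _ _ _ Γ _ ρ A B hn hA hB hnorm
    rcases subsingleton_or_nontrivial M with hsub | hnt
    · refine ⟨0, ?_⟩
      rw [lowFlag_zero]
      exact Subsingleton.elim _ _
    · have hF0 : fixSp ρ A ≠ ⊥ := hA.fixSp_ne_bot
      have hAs : A ≤ stab ρ (fixSp ρ A) := by
        apply le_stab_of_subgroup
        intro a ha m hm
        rw [mem_fixSp.mp hm a ha]
        exact hm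
      have hBs : B ≤ stab ρ (fixSp ρ A) := by
        apply le_stab_of_subgroup
        intro b hb m hm
        exact apply_mem_fixSp_of_conj (hnorm b hb) hm
      have hmapA : (A.subgroupOf (stab ρ (fixSp ρ A))).map (stab ρ (fixSp ρ A)).subtype = A :=
        Subgroup.map_subgroupOf_eq_of_le hAs
      have hmapB : (B.subgroupOf (stab ρ (fixSp ρ A))).map (stab ρ (fixSp ρ A)).subtype = B :=
        Subgroup.map_subgroupOf_eq_of_le hBs
      have hmap : (A.subgroupOf (stab ρ (fixSp ρ A)) ⊔ B.subgroupOf (stab ρ (fixSp ρ A))).map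
          (stab ρ (fixSp ρ A)).subtype = A ⊔ B := by
        rw [Subgroup.map_sup, hmapA, hmapB]
      rw [← hmap]
      apply unip_of_sub_of_quot
      · apply unip_sup_of_trivial
        · intro a ha
          apply LinearMap.ext
          intro m
          apply Subtype.ext
          rw [subRep_apply, Module.End.one_apply]
          exact mem_fixSp.mp m.2 a.1 ha
        · apply Unip.subRep
          rw [hmapB]
          exact hB
      · have hlt : Module.finrank k (M ⧸ fixSp ρ A) < n := by
          rw [← hn]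
          have h1 := Submodule.finrank_quotient_add_finrank (fixSp ρ A)
          have h2 : Module.finrank k (fixSp ρ A) ≠ 0 := by
            intro h
            exact hF0 (Submodule.finrank_eq_zero.mp h)
          omega
        apply ih _ hlt (M ⧸ fixSp ρ A) (↥(stab ρ (fixSp ρ A))) (quotRep ρ (fixSp ρ A)) _ _ rfl
        · apply Unip.quotRep
          rw [hmapA]
          exact hA
        · apply Unip.quotRep
          rw [hmapB]
          exact hB
        · intro b hb a ha
          exact hnorm b.1 hb a.1 ha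

section Lin

variable {k : Type*} [Field k] {M : Type*} [AddCommGroup M] [Module k M] [FiniteDimensional k M]

/-- A unipotent subgroup together with a unipotent subgroup normalizing it. -/
theorem isUnipotentOn_sup_of_normalizes {A B : Subgroup (LinearMap.GeneralLinearGroup k M)}
    (hA : IsUnipotentOn A) (hB : IsUnipotentOn B) (hnorm : ∀ b ∈ B, ∀ a ∈ A, b⁻¹ * a * b ∈ A) :
    IsUnipotentOn (A ⊔ B) := by
  rw [isUnipotentOn_iff_unip] at hA hB ⊢
  exact unip_sup_aux k _ M _ _ A B rfl hA hB hnorm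

/-- A conjugate of a unipotent subgroup is unipotent. -/
theorem isUnipotentOn_conjBy {A : Subgroup (LinearMap.GeneralLinearGroup k M)}
    (hA : IsUnipotentOn A) (g : LinearMap.GeneralLinearGroup k M) :
    IsUnipotentOn (conjBy A g) := by
  obtain ⟨n, hn⟩ := hA
  refine ⟨n, ?_⟩
  intro l hl hlen
  rw [coeList_eq]
  have key : ∀ l : List (LinearMap.GeneralLinearGroup k M), (∀ x ∈ l, x ∈ conjBy A g) →
      ∃ l' : List (LinearMap.GeneralLinearGroup k M), (∀ x ∈ l', x ∈ A) ∧ l'.length = l.length ∧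
        (l.map (fun x : LinearMap.GeneralLinearGroup k M => ((x : M →ₗ[k] M)) - 1)).prod =
          g.1 * (l'.map (fun x : LinearMap.GeneralLinearGroup k M => ((x : M →ₗ[k] M)) - 1)).prod *
            (g⁻¹).1 := by
    intro l
    induction l with
    | nil =>
      intro _
      refine ⟨[], by simp, rfl, ?_⟩
      simp
    | cons x l ih =>
      intro hx
      obtain ⟨l', h1, h2, h3⟩ := ih (fun y hy => hx y (List.mem_cons_of_mem _ hy))
      have hxA := hx x List.mem_cons_self
      rw [mem_conjBy] at hxA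
      refine ⟨(g⁻¹ * x * g) :: l', ?_, ?_, ?_⟩
      · intro y hy
        rcases List.mem_cons.mp hy with rfl | hy
        · exact hxA
        · exact h1 y hy
      · rw [List.length_cons, List.length_cons, h2]
      · rw [List.map_cons, List.prod_cons, List.map_cons, List.prod_cons, h3]
        have e : (x : M →ₗ[k] M) - 1 = g.1 * (((g⁻¹ * x * g : LinearMap.GeneralLinearGroup k M) :
            M →ₗ[k] M) - 1) * (g⁻¹).1 := by
          simp only [Units.val_mul, mul_sub, sub_mul, mul_one]
          rw [← mul_assoc, ← mul_assoc, Units.mul_inv, one_mul, mul_assoc, Units.mul_inv, mul_one]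
        rw [e]
        simp only [mul_assoc]
        rw [← mul_assoc (g⁻¹).1 g.1, Units.inv_mul, one_mul]
  obtain ⟨l', h1, h2, h3⟩ := key l hl
  have h4 := hn l' h1 (by rw [h2, hlen])
  rw [coeList_eq] at h4
  rw [h3, h4, mul_zero, zero_mul]

end Lin

end Cfsg.Agent.Lib.Helper8.Qr
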