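import Mathlib
import Cfsg.Agent.Lib.Helper8.Qr27
import Cfsg.Agent.Lib.Helper8.Qr28

/-! Quadratic pairs: unipotent normal families are trivial; common opposite elements. -/

set_option autoImplicit false
set_option linter.unusedSectionVars false
set_option linter.unusedSimpArgs false

namespace Cfsg.Agent.Lib.Helper8.Qr

open Cfsg Cfsg.Agent.Lib.Helper8.Qp

universe u

variable {k : Type u} [Field k] {M : Type u} [AddCommGroup M] [Module k M]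
variable {G : Subgroup (LinearMap.GeneralLinearGroup k M)}
variable [FiniteDimensional k M]

theorem not_opp_self {σ : LinearMap.GeneralLinearGroup k M}
    (hσ : σ ∈ minimalQuadraticElements G) : ¬ Opp σ σ := by
  intro h
  have h1 := h.1
  rw [inf_eq_left.mpr (range_le_ker_of_sq hσ.1.2.1.1)] at h1
  exact hσ.1.2.1.2 (LinearMap.range_eq_bot.mp h1)

theorem isUnipotentOn_sameActionSubgroup (h2 : (2 : k) ≠ 0) (h3 : Nat.card k ≠ 3)
    {σ : LinearMap.GeneralLinearGroup k M} (hσ : σ ∈ minimalQuadraticElements G) :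
    IsUnipotentOn (sameActionSubgroup G σ) := by
  have := unip_of_not_opp h2 h3 hσ hσ (not_opp_self hσ)
  rwa [sup_idem] at this

theorem opp_triple_ne_zero {σ τ : LinearMap.GeneralLinearGroup k M}
    (hτ : τ ∈ minimalQuadraticElements G) (hopp : Opp σ τ) :
    (τ.1 - 1) * (σ.1 - 1) * (τ.1 - 1) ≠ 0 := by
  intro h0
  apply hτ.1.2.1.2
  apply LinearMap.ext
  intro m
  have h1 : (τ.1 - 1) ((σ.1 - 1) ((τ.1 - 1) m)) = 0 := by
    have := congrArg (fun f : M →ₗ[k] M => f m) h0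
    simpa [Module.End.mul_apply] using this
  have h2 : (σ.1 - 1) ((τ.1 - 1) m) ∈
      LinearMap.range (σ.1 - 1) ⊓ LinearMap.ker (τ.1 - 1) := ⟨⟨_, rfl⟩, h1⟩
  rw [hopp.1, Submodule.mem_bot] at h2
  have h3 : (τ.1 - 1) m ∈ LinearMap.range (τ.1 - 1) ⊓ LinearMap.ker (σ.1 - 1) := ⟨⟨_, rfl⟩, h2⟩
  rw [hopp.2, Submodule.mem_bot] at h3
  rw [h3, LinearMap.zero_apply]

theorem isSpecial_of_opp (h2 : (2 : k) ≠ 0) (h3 : Nat.card k ≠ 3)
    {σ τ : LinearMap.GeneralLinearGroup k M} (hσ : σ ∈ minimalQuadraticElements G)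
    (hτ : τ ∈ minimalQuadraticElements G) (hopp : Opp σ τ) :
    IsSpecialRankOnePair (sameActionSubgroup G σ) (sameActionSubgroup G τ) := by
  rcases unipotent_or_special h2 h3 hσ hτ with hu | hs
  · exact absurd hopp (not_opp_of_unip h2 h3 hσ hτ hu)
  · exact hs.1

theorem isRankOnePair_of_opp (h2 : (2 : k) ≠ 0) (h3 : Nat.card k ≠ 3)
    {σ τ : LinearMap.GeneralLinearGroup k M} (hσ : σ ∈ minimalQuadraticElements G)
    (hτ : τ ∈ minimalQuadraticElements G) (hopp : Opp σ τ) :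
    IsRankOnePair (sameActionSubgroup G σ) (sameActionSubgroup G τ) :=
  (isSpecial_of_opp h2 h3 hσ hτ hopp).1

/-- a `G`-invariant family of pairwise unipotent subgroups of an irreducible group is trivial -/
theorem family_trivial (hG : IsQuadraticPair G)
    {W : Set (Subgroup (LinearMap.GeneralLinearGroup k M))} (hWG : ∀ A ∈ W, A ≤ G)
    (hWW : ∀ A ∈ W, ∀ B ∈ W, IsUnipotentOn (A ⊔ B)) (hWconj : ∀ A ∈ W, ∀ g ∈ G, conjBy A g ∈ W) :
    (⨆ A ∈ W, A) = ⊥ := by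
  obtain ⟨hU, hN⟩ := Cfsg.Agent.S5061.result hWG hWW hWconj
  obtain ⟨m₀, hm₀⟩ := hG.1.1
  have : Nontrivial M := ⟨⟨m₀, 0, hm₀⟩⟩
  have hF := Cfsg.Agent.Lib.Helper8.Unip.fixSp_ne_bot
    ((Cfsg.Agent.Lib.Helper8.isUnipotentOn_iff_unip _).mp hU)
  have hinv : ∀ g ∈ G, ∀ w ∈ Cfsg.Agent.Lib.Helper8.fixSp (Units.coeHom (M →ₗ[k] M))
      (⨆ A ∈ W, A), (g : M →ₗ[k] M) w ∈ Cfsg.Agent.Lib.Helper8.fixSp
        (Units.coeHom (M →ₗ[k] M)) (⨆ A ∈ W, A) := by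
    intro g hg w hw
    apply Cfsg.Agent.Lib.Helper8.apply_mem_fixSp_of_conj (ρ := Units.coeHom (M →ₗ[k] M)) _ hw
    intro x hx
    have := hN g⁻¹ (G.inv_mem hg)
    rw [← this]
    exact ⟨x, hx, by simp [MulAut.conj_apply]⟩
  rcases hG.1.2 _ hinv with h | h
  · exact absurd h hF
  · rw [eq_bot_iff]
    intro x hx
    rw [Subgroup.mem_bot]
    apply Units.ext
    apply LinearMap.ext
    intro m
    have hm : m ∈ Cfsg.Agent.Lib.Helper8.fixSp (Units.coeHom (M →ₗ[k] M)) (⨆ A ∈ W, A) := by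
      rw [h]; exact Submodule.mem_top
    rw [Cfsg.Agent.Lib.Helper8.mem_fixSp] at hm
    have := hm x hx
    rw [Units.val_one, Module.End.one_apply]
    exact this

/-- non-opposite non-commuting pairs: some member of `𝒬_d` is opposite to both `σ` and the
commutator -/
theorem exists_common_opp (hG : IsQuadraticPair G) (h2 : (2 : k) ≠ 0) (h3 : Nat.card k ≠ 3)
    {σ τ : LinearMap.GeneralLinearGroup k M} (hσ : σ ∈ minimalQuadraticElements G)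
    (hτ : τ ∈ minimalQuadraticElements G) (hopp : ¬ Opp σ τ)
    (hne : (σ.1 - 1) * (τ.1 - 1) ≠ (τ.1 - 1) * (σ.1 - 1)) :
    ∃ ω ∈ minimalQuadraticElements G, Opp σ ω ∧ Opp (σ * τ * σ⁻¹ * τ⁻¹) ω := by
  obtain ⟨hρ, -⟩ := comm_mem_class h2 h3 hσ hτ hopp hne
  obtain ⟨t1, t2⟩ := triple_eq_zero_of_not_opp h2 h3 hσ hτ hopp
  have hss := hσ.1.2.1.1
  have htt := hτ.1.2.1.1
  have hv : (σ * τ * σ⁻¹ * τ⁻¹).1 - 1 = (σ.1 - 1) * (τ.1 - 1) - (τ.1 - 1) * (σ.1 - 1) := by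
    rw [comm_val hss htt t2 t1, add_sub_cancel_left]
  obtain ⟨g, hg, hoppρ⟩ := exists_opp hG h2 h3 hρ
  have hω := conj_mem_Qd hg hρ
  by_cases h : Opp σ (g * (σ * τ * σ⁻¹ * τ⁻¹) * g⁻¹)
  · exact ⟨_, hω, h, hoppρ⟩
  · obtain ⟨w1, -⟩ := triple_eq_zero_of_not_opp h2 h3 hσ hω h
    have hwr := opp_triple_ne_zero hω hoppρ
    have hτG : τ ∈ G := hτ.1.1
    have hσ' := conj_mem_Qd hτG hσ
    -- `τ σ τ⁻¹ - 1 = s - r`
    have hs' : (τ * σ * τ⁻¹).1 - 1 = (σ.1 - 1) - ((σ * τ * σ⁻¹ * τ⁻¹).1 - 1) := by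
      rw [conj_sub_one, hv, inv_val_of_sq τ htt]
      have e : τ.1 * (σ.1 - 1) * (1 - (τ.1 - 1)) =
          (1 + (τ.1 - 1)) * (σ.1 - 1) * (1 - (τ.1 - 1)) := by rw [← val_eq_one_add]
      rw [e]
      have e2 : (1 + (τ.1 - 1)) * (σ.1 - 1) * (1 - (τ.1 - 1)) =
          (σ.1 - 1) + (τ.1 - 1) * (σ.1 - 1) - (σ.1 - 1) * (τ.1 - 1) -
            (τ.1 - 1) * (σ.1 - 1) * (τ.1 - 1) := by noncomm_ring
      rw [e2, t1]
      abel
    have hopp' : Opp (τ * σ * τ⁻¹) (g * (σ * τ * σ⁻¹ * τ⁻¹) * g⁻¹) := by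
      by_contra hno
      obtain ⟨w2, -⟩ := triple_eq_zero_of_not_opp h2 h3 hσ' hω hno
      apply hwr
      rw [hs'] at w2
      have e : ∀ w s r : M →ₗ[k] M, w * (s - r) * w = w * s * w - w * r * w := by
        intro w s r
        noncomm_ring
      rw [e, w1, zero_sub, neg_eq_zero] at w2
      exact w2
    -- conjugate back by `τ⁻¹`
    have hτi : τ⁻¹ ∈ G := G.inv_mem hτG
    have h4 := opp_conj τ⁻¹ hopp'
    have e1 : τ⁻¹ * (τ * σ * τ⁻¹) * τ⁻¹⁻¹ = σ := by group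
    rw [e1] at h4
    have h5 := opp_conj τ⁻¹ hoppρ
    have e2 : τ⁻¹ * (σ * τ * σ⁻¹ * τ⁻¹) * τ⁻¹⁻¹ = σ * τ * σ⁻¹ * τ⁻¹ := by
      apply Units.ext
      have hc : (τ⁻¹ * (σ * τ * σ⁻¹ * τ⁻¹) * τ⁻¹⁻¹).1 - 1 = (σ * τ * σ⁻¹ * τ⁻¹).1 - 1 := by
        rw [conj_sub_one, hv, inv_inv, inv_val_of_sq τ htt]
        have e : (1 - (τ.1 - 1)) * ((σ.1 - 1) * (τ.1 - 1) - (τ.1 - 1) * (σ.1 - 1)) * τ.1 =
            (1 - (τ.1 - 1)) * ((σ.1 - 1) * (τ.1 - 1) - (τ.1 - 1) * (σ.1 - 1)) *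
              (1 + (τ.1 - 1)) := by rw [← val_eq_one_add]
        rw [e]
        have e3 : (1 - (τ.1 - 1)) * ((σ.1 - 1) * (τ.1 - 1) - (τ.1 - 1) * (σ.1 - 1)) *
            (1 + (τ.1 - 1)) =
            (σ.1 - 1) * (τ.1 - 1) - (τ.1 - 1) * (σ.1 - 1)
              + (σ.1 - 1) * ((τ.1 - 1) * (τ.1 - 1)) - 2 • ((τ.1 - 1) * (σ.1 - 1) * (τ.1 - 1))
              + ((τ.1 - 1) * (τ.1 - 1)) * (σ.1 - 1)
              - (τ.1 - 1) * (σ.1 - 1) * ((τ.1 - 1) * (τ.1 - 1))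
              + ((τ.1 - 1) * (τ.1 - 1)) * (σ.1 - 1) * (τ.1 - 1) := by noncomm_ring
        rw [e3, htt, t1]
        simp
      exact sub_left_injective hc
    rw [e2] at h5
    exact ⟨_, conj_mem_Qd hτi hω, h4, h5⟩

/-- pairwise commuting opposite pairs: finitely many -/
theorem finite_of_commuting_opp {ι : Type*} (σ τ : ι → LinearMap.GeneralLinearGroup k M)
    (hτ : ∀ i, τ i ∈ minimalQuadraticElements G) (hopp : ∀ i, Opp (σ i) (τ i))
    (hcomm : ∀ i j, i ≠ j → ((τ i).1 - 1) * ((σ j).1 - 1) = ((σ j).1 - 1) * ((τ i).1 - 1)) :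
    Finite ι := by
  classical
  have hli : LinearIndependent k (fun i => ((σ i).1 - 1 : M →ₗ[k] M)) := by
    rw [linearIndependent_iff']
    intro s c hsum j hj
    have h1 : ((τ j).1 - 1) * (∑ i ∈ s, c i • ((σ i).1 - 1 : M →ₗ[k] M)) * ((τ j).1 - 1) = 0 := by
      rw [hsum, mul_zero, zero_mul]
    rw [Finset.mul_sum, Finset.sum_mul, Finset.sum_eq_single j] at h1
    · rw [mul_smul_comm, smul_mul_assoc] at h1
      rcases smul_eq_zero.mp h1 with h | h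
      · exact h
      · exact absurd h (opp_triple_ne_zero (hτ j) (hopp j))
    · intro i _ hij
      rw [mul_smul_comm, smul_mul_assoc, hcomm j i (Ne.symm hij), mul_assoc, (hτ j).1.2.1.1,
        mul_zero, smul_zero]
    · intro hj'
      exact absurd hj hj'
  exact hli.finite

end Cfsg.Agent.Lib.Helper8.Qr
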