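import Mathlib
import Cfsg.Prelude.Def_RootSubgroups
import Cfsg.Agent.Lib.Helper8.ConjBy

set_option autoImplicit false

namespace Cfsg.Agent.Lib.Helper8

variable {G : Type*} [Group G] {A B : Subgroup G}

/-- `A ∩ N(B) = 1` from the one-sided condition. -/
theorem rankOne_inf_normalizer (hne : A ≠ B) (hc : Cfsg.RankOneCondition A B) :
    A ⊓ Subgroup.normalizer (B : Set G) = ⊥ := by
  rw [eq_bot_iff]
  intro a ha
  rw [Subgroup.mem_bot]
  by_contra ha1
  obtain ⟨haA, haN⟩ := Subgroup.mem_inf.mp ha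
  obtain ⟨b, hbB, hb1, hEq⟩ := hc a haA ha1
  have h1 : Cfsg.conjBy B a⁻¹ = B := conjBy_eq_self_iff.mpr (Subgroup.inv_mem _ haN)
  have h2 : Cfsg.conjBy B b⁻¹ = B := conjBy_eq_self_of_mem (B.inv_mem hbB)
  rw [h1, ← h2] at hEq
  exact hne (conjBy_injective _ hEq)

theorem rankOnePair_inf_normalizer (h : Cfsg.IsRankOnePair A B) :
    A ⊓ Subgroup.normalizer (B : Set G) = ⊥ := rankOne_inf_normalizer h.ne h.cond_left

theorem rankOnePair_inf_normalizer' (h : Cfsg.IsRankOnePair A B) :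
    B ⊓ Subgroup.normalizer (A : Set G) = ⊥ := rankOne_inf_normalizer h.ne.symm h.cond_right

theorem rankOnePair_inf (h : Cfsg.IsRankOnePair A B) : A ⊓ B = ⊥ := by
  rw [eq_bot_iff, ← rankOnePair_inf_normalizer h]
  exact inf_le_inf_left _ Subgroup.le_normalizer

theorem rankOnePair_exists_left (h : Cfsg.IsRankOnePair A B) : ∃ a ∈ A, a ≠ 1 := by
  by_contra hcon
  push Not at hcon
  have hA : A = ⊥ := (Subgroup.eq_bot_iff_forall A).mpr hcon
  have hB : B ≠ ⊥ := fun hB => h.ne (hA.trans hB.symm)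
  obtain ⟨b, hb1⟩ := (Subgroup.ne_bot_iff_exists_ne_one).mp hB
  obtain ⟨a, ha, ha1, -⟩ := h.cond_right b.1 b.2 (fun hb' => hb1 (Subtype.ext hb'))
  exact ha1 (hcon a ha)

theorem rankOnePair_exists_right (h : Cfsg.IsRankOnePair A B) : ∃ b ∈ B, b ≠ 1 :=
  rankOnePair_exists_left (Cfsg.RankOnePair_symm h)

/-- For every `b ∈ B`, `b A b⁻¹` is `A` or some `a B a⁻¹` with `a ∈ A`. -/
theorem rankOnePair_conj_left (h : Cfsg.IsRankOnePair A B) {b : G} (hb : b ∈ B) :
    Cfsg.conjBy A b = A ∨ ∃ a ∈ A, a ≠ 1 ∧ Cfsg.conjBy A b = Cfsg.conjBy B a := by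
  by_cases hb1 : b = 1
  · left; rw [hb1]; exact conjBy_one A
  · right
    have hb1' : b⁻¹ ≠ 1 := fun hh => hb1 (inv_eq_one.mp hh)
    obtain ⟨a, ha, ha1, hEq⟩ := h.cond_right b⁻¹ (B.inv_mem hb) hb1'
    rw [inv_inv] at hEq
    exact ⟨a⁻¹, A.inv_mem ha, fun hh => ha1 (inv_eq_one.mp hh), hEq.symm⟩

/-- The set `{A} ∪ B^A`. -/
def rankOneOrbit (A B : Subgroup G) : Set (Subgroup G) :=
  {C | C = A ∨ ∃ a ∈ A, C = Cfsg.conjBy B a}

theorem rankOneOrbit_conj_left {C : Subgroup G} (hC : C ∈ rankOneOrbit A B) {a : G} (ha : a ∈ A) :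
    Cfsg.conjBy C a ∈ rankOneOrbit A B := by
  rcases hC with rfl | ⟨a', ha', rfl⟩
  · left; exact conjBy_eq_self_of_mem ha
  · right; exact ⟨a * a', A.mul_mem ha ha', conjBy_conjBy _ _ _⟩

theorem rankOneOrbit_conj_right (h : Cfsg.IsRankOnePair A B) {C : Subgroup G}
    (hC : C ∈ rankOneOrbit A B) {b : G} (hb : b ∈ B) :
    Cfsg.conjBy C b ∈ rankOneOrbit A B := by
  have key : ∀ b' ∈ B, Cfsg.conjBy A b' ∈ rankOneOrbit A B := by
    intro b' hb'
    rcases rankOnePair_conj_left h hb' with h1 | ⟨a, ha, -, h1⟩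
    · left; exact h1
    · right; exact ⟨a, ha, h1⟩
  rcases hC with rfl | ⟨a, ha, rfl⟩
  · exact key b hb
  · by_cases ha1 : a = 1
    · right
      refine ⟨1, A.one_mem, ?_⟩
      rw [ha1, conjBy_one]
      exact conjBy_eq_self_of_mem hb
    · have ha1' : a⁻¹ ≠ 1 := fun hh => ha1 (inv_eq_one.mp hh)
      obtain ⟨b₁, hb₁, -, hEq⟩ := h.cond_left a⁻¹ (A.inv_mem ha) ha1'
      rw [inv_inv] at hEq
      rw [← hEq, conjBy_conjBy]
      exact key _ (B.mul_mem hb (B.inv_mem hb₁))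

theorem rankOneOrbit_conj (h : Cfsg.IsRankOnePair A B) {x : G} (hx : x ∈ A ⊔ B) :
    (∀ C ∈ rankOneOrbit A B, Cfsg.conjBy C x ∈ rankOneOrbit A B) := by
  have hP : (∀ C ∈ rankOneOrbit A B, Cfsg.conjBy C x ∈ rankOneOrbit A B) ∧
      (∀ C ∈ rankOneOrbit A B, Cfsg.conjBy C x⁻¹ ∈ rankOneOrbit A B) := by
    rw [← Subgroup.closure_eq A, ← Subgroup.closure_eq B, ← Subgroup.closure_union] at hx
    induction hx using Subgroup.closure_induction with
    | mem y hy =>
      rcases hy with hy | hy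
      · exact ⟨fun C hC => rankOneOrbit_conj_left hC hy,
          fun C hC => rankOneOrbit_conj_left hC (A.inv_mem hy)⟩
      · exact ⟨fun C hC => rankOneOrbit_conj_right h hC hy,
          fun C hC => rankOneOrbit_conj_right h hC (B.inv_mem hy)⟩
    | one =>
      refine ⟨fun C hC => ?_, fun C hC => ?_⟩
      · rw [conjBy_one]; exact hC
      · rw [inv_one, conjBy_one]; exact hC
    | mul y z _ _ ihy ihz =>
      refine ⟨fun C hC => ?_, fun C hC => ?_⟩
      · rw [← conjBy_conjBy]; exact ihy.1 _ (ihz.1 _ hC)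
      · rw [mul_inv_rev, ← conjBy_conjBy]; exact ihz.2 _ (ihy.2 _ hC)
    | inv y _ ihy =>
      refine ⟨ihy.2, ?_⟩
      rw [inv_inv]; exact ihy.1
  exact hP.1

theorem mem_unipotentSubgroups_self (A B : Subgroup G) : A ∈ Cfsg.unipotentSubgroups A B :=
  ⟨1, Subgroup.one_mem _, (conjBy_one A).symm⟩

theorem conjBy_mem_unipotentSubgroups {C : Subgroup G} (hC : C ∈ Cfsg.unipotentSubgroups A B)
    {x : G} (hx : x ∈ A ⊔ B) : Cfsg.conjBy C x ∈ Cfsg.unipotentSubgroups A B := by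
  obtain ⟨y, hy, rfl⟩ := hC
  exact ⟨x * y, Subgroup.mul_mem _ hx hy, conjBy_conjBy _ _ _⟩

theorem rankOnePair_right_mem_unipotentSubgroups (h : Cfsg.IsRankOnePair A B) :
    B ∈ Cfsg.unipotentSubgroups A B := by
  obtain ⟨a, ha, ha1⟩ := rankOnePair_exists_left h
  obtain ⟨b, hb, -, hEq⟩ := h.cond_left a ha ha1
  -- conjBy A b⁻¹ = conjBy B a⁻¹, so B = conjBy A (a * b⁻¹)
  refine ⟨a * b⁻¹, Subgroup.mul_mem _ (Subgroup.mem_sup_left ha)
    (Subgroup.inv_mem _ (Subgroup.mem_sup_right hb)), ?_⟩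
  rw [← conjBy_conjBy, hEq, conjBy_conjBy]
  simp

/-- `Ω = {A} ∪ B^A`. -/
theorem unipotentSubgroups_eq_rankOneOrbit (h : Cfsg.IsRankOnePair A B) :
    Cfsg.unipotentSubgroups A B = rankOneOrbit A B := by
  ext C
  constructor
  · rintro ⟨x, hx, rfl⟩
    exact rankOneOrbit_conj h hx A (Or.inl rfl)
  · rintro (rfl | ⟨a, ha, rfl⟩)
    · exact mem_unipotentSubgroups_self _ B
    · exact conjBy_mem_unipotentSubgroups (rankOnePair_right_mem_unipotentSubgroups h)
        (Subgroup.mem_sup_left ha)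

theorem rankOnePair_conjBy_right_ne (h : Cfsg.IsRankOnePair A B) {a : G} (ha : a ∈ A) :
    Cfsg.conjBy B a ≠ A := by
  intro hEq
  rw [conjBy_eq_iff, conjBy_eq_self_of_mem (A.inv_mem ha)] at hEq
  exact h.ne hEq.symm

theorem rankOnePair_conjBy_right_injective (h : Cfsg.IsRankOnePair A B) {a a' : G} (ha : a ∈ A)
    (ha' : a' ∈ A) (hEq : Cfsg.conjBy B a = Cfsg.conjBy B a') : a = a' := by
  have h1 : Cfsg.conjBy B (a'⁻¹ * a) = B := by
    rw [← conjBy_conjBy, hEq, conjBy_conjBy]; simp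
  have h2 : a'⁻¹ * a ∈ A ⊓ Subgroup.normalizer (B : Set G) :=
    Subgroup.mem_inf.mpr ⟨A.mul_mem (A.inv_mem ha') ha, conjBy_eq_self_iff.mp h1⟩
  rw [rankOnePair_inf_normalizer h, Subgroup.mem_bot] at h2
  exact (inv_mul_eq_one.mp h2).symm

/-- `A` is regular on `Ω \ {A}`. -/
theorem rankOnePair_regular (h : Cfsg.IsRankOnePair A B) {C D : Subgroup G}
    (hC : C ∈ Cfsg.unipotentSubgroups A B) (hD : D ∈ Cfsg.unipotentSubgroups A B)
    (hCA : C ≠ A) (hDA : D ≠ A) : ∃! a : G, a ∈ A ∧ Cfsg.conjBy C a = D := by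
  rw [unipotentSubgroups_eq_rankOneOrbit h] at hC hD
  rcases hC with rfl | ⟨c, hc, rfl⟩
  · exact absurd rfl hCA
  rcases hD with rfl | ⟨d, hd, rfl⟩
  · exact absurd rfl hDA
  refine ⟨d * c⁻¹, ⟨A.mul_mem hd (A.inv_mem hc), ?_⟩, ?_⟩
  · rw [conjBy_conjBy]; simp [mul_assoc]
  · rintro a ⟨ha, hEq⟩
    rw [conjBy_conjBy] at hEq
    have := rankOnePair_conjBy_right_injective h (A.mul_mem ha hc) hd hEq
    rw [← this]; group

section RankOneGroup

variable {X : Type*} [Group X] {A B : Subgroup X}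

/-- If a normal subgroup normalizes `A`, it normalizes every conjugate of `A`. -/
theorem normal_le_normalizer_conjBy {N : Subgroup X} (hN : N.Normal)
    (hNA : N ≤ Subgroup.normalizer (A : Set X)) (x : X) :
    N ≤ Subgroup.normalizer (Cfsg.conjBy A x : Set X) := by
  intro n hn
  rw [← conjBy_eq_self_iff, conjBy_conjBy]
  have h1 : n * x = x * (x⁻¹ * n * x) := by group
  rw [h1, ← conjBy_conjBy]
  congr 1
  rw [conjBy_eq_self_iff]
  exact hNA (hN.conj_mem' n hn x)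

/-- Key dichotomy for normal subgroups of a rank one group. -/
theorem rankOneGroup_normal_dichotomy (h : Cfsg.IsRankOneGroup X A B) (N : Subgroup X)
    (hN : N.Normal) : N ⊔ A = ⊤ ∨ N ≤ Subgroup.center X := by
  obtain ⟨htop, hp⟩ := h
  by_cases hNA : N ≤ Subgroup.normalizer (A : Set X)
  · right
    have hBmem := rankOnePair_right_mem_unipotentSubgroups hp
    obtain ⟨x, -, hx⟩ := hBmem
    have hNB : N ≤ Subgroup.normalizer (B : Set X) := by
      rw [hx]; exact normal_le_normalizer_conjBy hN hNA x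
    have comm_of : ∀ {C D : Subgroup X}, C ⊓ Subgroup.normalizer (D : Set X) = ⊥ →
        N ≤ Subgroup.normalizer (C : Set X) → N ≤ Subgroup.normalizer (D : Set X) →
        ∀ n ∈ N, ∀ c ∈ C, c * n = n * c := by
      intro C D hCD hNC hND n hn c hc
      have h1 : n * c * n⁻¹ * c⁻¹ ∈ C := by
        have := (Subgroup.mem_normalizer_iff.mp (hNC hn) c).mp hc
        exact C.mul_mem this (C.inv_mem hc)
      have h2 : n * c * n⁻¹ * c⁻¹ ∈ N := by
        have := hN.conj_mem n⁻¹ (N.inv_mem hn) c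
        have h3 : n * c * n⁻¹ * c⁻¹ = n * (c * n⁻¹ * c⁻¹) := by group
        rw [h3]; exact N.mul_mem hn this
      have h4 : n * c * n⁻¹ * c⁻¹ ∈ C ⊓ Subgroup.normalizer (D : Set X) :=
        Subgroup.mem_inf.mpr ⟨h1, hND h2⟩
      rw [hCD, Subgroup.mem_bot] at h4
      have h5 : n * c = c * n := by
        have : n * c = (n * c * n⁻¹ * c⁻¹) * (c * n) := by group
        rw [this, h4, one_mul]
      exact h5.symm
    intro n hn
    rw [Subgroup.mem_center_iff]
    have hA' : A ≤ Subgroup.centralizer ({n} : Set X) := by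
      intro a ha
      rw [Subgroup.mem_centralizer_iff]
      intro m hm
      rw [Set.mem_singleton_iff.mp hm]
      exact (comm_of (rankOnePair_inf_normalizer hp) hNA hNB n hn a ha).symm
    have hB' : B ≤ Subgroup.centralizer ({n} : Set X) := by
      intro b hb
      rw [Subgroup.mem_centralizer_iff]
      intro m hm
      rw [Set.mem_singleton_iff.mp hm]
      exact (comm_of (rankOnePair_inf_normalizer' hp) hNB hNA n hn b hb).symm
    intro g
    have hg : g ∈ Subgroup.centralizer ({n} : Set X) := by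
      have : (⊤ : Subgroup X) ≤ Subgroup.centralizer ({n} : Set X) := by
        rw [← htop]; exact sup_le hA' hB'
      exact this (Subgroup.mem_top g)
    rw [Subgroup.mem_centralizer_iff] at hg
    exact (hg n rfl).symm
  · left
    rw [SetLike.not_le_iff_exists] at hNA
    obtain ⟨n, hn, hnA⟩ := hNA
    rw [← conjBy_eq_self_iff] at hnA
    have hmem : Cfsg.conjBy A n ∈ Cfsg.unipotentSubgroups A B :=
      ⟨n, by rw [htop]; exact Subgroup.mem_top n, rfl⟩
    obtain ⟨a, ⟨ha, hEq⟩, -⟩ := rankOnePair_regular hp hmem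
      (rankOnePair_right_mem_unipotentSubgroups hp) hnA hp.ne.symm
    rw [conjBy_conjBy] at hEq
    have hB : B ≤ N ⊔ A := by
      rw [← hEq]
      apply conjBy_le_of_mem le_sup_right
      exact Subgroup.mul_mem _ (Subgroup.mem_sup_right ha) (Subgroup.mem_sup_left hn)
    rw [eq_top_iff, ← htop]
    exact sup_le le_sup_right hB

theorem rankOneGroup_center_ne_top (h : Cfsg.IsRankOneGroup X A B) :
    Subgroup.center X ≠ ⊤ := by
  intro hc
  obtain ⟨htop, hp⟩ := h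
  have h1 : Subgroup.normalizer (A : Set X) = ⊤ := by
    rw [eq_top_iff]
    intro g _
    rw [Subgroup.mem_normalizer_iff]
    intro x
    have hg : g ∈ Subgroup.center X := by rw [hc]; exact Subgroup.mem_top g
    rw [Subgroup.mem_center_iff] at hg
    have : g * x * g⁻¹ = x := by rw [← hg x]; group
    rw [this]
  have h2 := rankOnePair_inf_normalizer' hp
  rw [h1, inf_top_eq] at h2
  obtain ⟨b, hb, hb1⟩ := rankOnePair_exists_right hp
  rw [h2, Subgroup.mem_bot] at hb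
  exact hb1 hb

theorem conjBy_of_mem_center (A : Subgroup X) {z : X} (hz : z ∈ Subgroup.center X) :
    Cfsg.conjBy A z = A := by
  ext x
  rw [mem_conjBy]
  rw [Subgroup.mem_center_iff] at hz
  have : z⁻¹ * x * z = x := by rw [mul_assoc, hz x]; group
  rw [this]

/-- A normal subgroup `N` with `[N, X] ≤ Z(X)` cannot supplement `A`. -/
theorem rankOneGroup_sup_ne_top_of_commutator_le_center (h : Cfsg.IsRankOneGroup X A B)
    (N : Subgroup X) (hN : N.Normal)
    (hc : ∀ n ∈ N, ∀ x : X, n * x * n⁻¹ * x⁻¹ ∈ Subgroup.center X) : N ⊔ A ≠ ⊤ := by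
  intro hNA
  obtain ⟨htop, hp⟩ := h
  obtain ⟨x, -, hx⟩ := rankOnePair_right_mem_unipotentSubgroups hp
  have hx' : x ∈ N ⊔ A := by rw [hNA]; exact Subgroup.mem_top x
  obtain ⟨n, hn, a, ha, rfl⟩ := Subgroup.mem_sup_of_normal_left.mp hx'
  rw [← conjBy_conjBy, conjBy_eq_self_of_mem ha] at hx
  have hBN : B ≤ Subgroup.normalizer (A : Set X) := by
    intro b hb
    rw [hx, mem_conjBy] at hb
    -- b = n * a' * n⁻¹ where a' = n⁻¹ * b * n ∈ A
    set a' := n⁻¹ * b * n with ha'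
    have hz := hc n hn a'
    have hb_eq : b = (n * a' * n⁻¹ * a'⁻¹) * a' := by rw [ha']; group
    rw [← conjBy_eq_self_iff, hb_eq, ← conjBy_conjBy, conjBy_eq_self_of_mem hb,
      conjBy_of_mem_center A hz]
  have h2 := rankOnePair_inf_normalizer' hp
  rw [inf_eq_left.mpr hBN] at h2
  obtain ⟨b, hb, hb1⟩ := rankOnePair_exists_right hp
  rw [h2, Subgroup.mem_bot] at hb
  exact hb1 hb

end RankOneGroup

section Conj

variable {G : Type*} [Group G] {A B : Subgroup G}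

theorem rankOneCondition_conjBy (hc : Cfsg.RankOneCondition A B) (g : G) :
    Cfsg.RankOneCondition (Cfsg.conjBy A g) (Cfsg.conjBy B g) := by
  intro a' ha' ha'1
  rw [mem_conjBy] at ha'
  have ha1 : g⁻¹ * a' * g ≠ 1 := by
    intro h1
    apply ha'1
    have : a' = g * (g⁻¹ * a' * g) * g⁻¹ := by group
    rw [this, h1]; group
  obtain ⟨b, hb, hb1, hEq⟩ := hc _ ha' ha1
  refine ⟨g * b * g⁻¹, conj_mem_conjBy hb, ?_, ?_⟩
  · intro h1
    apply hb1
    have : b = g⁻¹ * (g * b * g⁻¹) * g := by group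
    rw [this, h1]; group
  · rw [conjBy_conjBy, conjBy_conjBy]
    have e1 : (g * b * g⁻¹)⁻¹ * g = g * b⁻¹ := by group
    have e2 : a'⁻¹ * g = g * (g⁻¹ * a' * g)⁻¹ := by group
    rw [e1, e2, ← conjBy_conjBy, hEq, conjBy_conjBy]

theorem isNilpotent_conjBy (hA : Group.IsNilpotent A) (g : G) :
    Group.IsNilpotent (Cfsg.conjBy A g) := by
  unfold Cfsg.conjBy
  exact Group.nilpotent_of_surjective ((MulAut.conj g).toMonoidHom.subgroupMap A)
    (MonoidHom.subgroupMap_surjective _ _)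

theorem isRankOnePair_conjBy (h : Cfsg.IsRankOnePair A B) (g : G) :
    Cfsg.IsRankOnePair (Cfsg.conjBy A g) (Cfsg.conjBy B g) where
  ne := fun hEq => h.ne (conjBy_injective g hEq)
  nilpotent_left := isNilpotent_conjBy h.nilpotent_left g
  nilpotent_right := isNilpotent_conjBy h.nilpotent_right g
  cond_left := rankOneCondition_conjBy h.cond_left g
  cond_right := rankOneCondition_conjBy h.cond_right g

theorem conjBy_sup_self_of_mem {X : Subgroup G} {g : G} (hg : g ∈ X) : Cfsg.conjBy X g = X :=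
  conjBy_eq_self_of_mem hg

/-- Two distinct unipotent subgroups of a rank one group `⟨A, B⟩` form a rank one pair
generating `⟨A, B⟩`. -/
theorem rankOnePair_of_mem_unipotentSubgroups (h : Cfsg.IsRankOnePair A B) {E E' : Subgroup G}
    (hE : E ∈ Cfsg.unipotentSubgroups A B) (hE' : E' ∈ Cfsg.unipotentSubgroups A B)
    (hne : E ≠ E') :
    Cfsg.IsRankOnePair E E' ∧ E ⊔ E' = A ⊔ B ∧
      ∃ y ∈ A ⊔ B, E = Cfsg.conjBy A y ∧ E' = Cfsg.conjBy B y := by
  -- 2-transitivity: reduce to `E = A` via conjugation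
  obtain ⟨x, hx, rfl⟩ := hE
  have hx' : x⁻¹ ∈ A ⊔ B := Subgroup.inv_mem _ hx
  have hE'' : Cfsg.conjBy E' x⁻¹ ∈ Cfsg.unipotentSubgroups A B :=
    conjBy_mem_unipotentSubgroups hE' hx'
  have hne' : Cfsg.conjBy E' x⁻¹ ≠ A := by
    intro hEq
    apply hne
    rw [conjBy_eq_iff, inv_inv] at hEq
    exact hEq.symm
  obtain ⟨a, ⟨ha, hEq⟩, -⟩ := rankOnePair_regular h
    (rankOnePair_right_mem_unipotentSubgroups h) hE'' h.ne.symm hne'
  -- conjBy B a = conjBy E' x⁻¹, so E' = conjBy B (x * a)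
  have hE'eq : E' = Cfsg.conjBy B (x * a) := by
    rw [← conjBy_conjBy, hEq, conjBy_conjBy]; simp
  have hAeq : Cfsg.conjBy A x = Cfsg.conjBy A (x * a) := by
    rw [← conjBy_conjBy, conjBy_eq_self_of_mem ha]
  have hy : x * a ∈ A ⊔ B := Subgroup.mul_mem _ hx (Subgroup.mem_sup_left ha)
  refine ⟨?_, ?_, x * a, hy, hAeq, hE'eq⟩
  · rw [hAeq, hE'eq]; exact isRankOnePair_conjBy h _
  · rw [hAeq, hE'eq, ← conjBy_sup, conjBy_eq_self_of_mem hy]

theorem unipotentSubgroups_eq_of_conj {y : G} (hy : y ∈ A ⊔ B) :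
    Cfsg.unipotentSubgroups (Cfsg.conjBy A y) (Cfsg.conjBy B y) = Cfsg.unipotentSubgroups A B := by
  have hsup : Cfsg.conjBy A y ⊔ Cfsg.conjBy B y = A ⊔ B := by
    rw [← conjBy_sup, conjBy_eq_self_of_mem hy]
  ext F
  show (∃ x ∈ Cfsg.conjBy A y ⊔ Cfsg.conjBy B y, F = Cfsg.conjBy (Cfsg.conjBy A y) x) ↔
    (∃ x ∈ A ⊔ B, F = Cfsg.conjBy A x)
  rw [hsup]
  constructor
  · rintro ⟨x, hx, rfl⟩
    exact ⟨x * y, Subgroup.mul_mem _ hx hy, conjBy_conjBy _ _ _⟩
  · rintro ⟨x, hx, rfl⟩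
    refine ⟨x * y⁻¹, Subgroup.mul_mem _ hx (Subgroup.inv_mem _ hy), ?_⟩
    rw [conjBy_conjBy]; simp [mul_assoc]

end Conj

end Cfsg.Agent.Lib.Helper8
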