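import Mathlib
import Cfsg.Prelude.Def_RootSubgroups
import Cfsg.Agent.Lib.Helper8.RankOne

set_option autoImplicit false

namespace Cfsg.Agent.Lib.Helper8

variable {G : Type*} [Group G]

open scoped commutatorElement

/-- A non-isolated member of `S` (for the rank one graph) has a rank one partner. -/
theorem exists_rankOnePartner_of_not_isolated {S : Set (Subgroup G)} {A : Subgroup G}
    (hA : ¬ Cfsg.IsIsolatedIn (Cfsg.FAdj S) S A) (hAS : A ∈ S) :
    ∃ C ∈ S, Cfsg.IsRankOnePair A C := by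
  unfold Cfsg.IsIsolatedIn at hA
  push Not at hA
  obtain ⟨C, hC⟩ := hA hAS
  by_cases h1 : Cfsg.FAdj S A C
  · exact ⟨C, h1.2.1, h1.2.2⟩
  · have h2 := hC h1
    exact ⟨C, h2.1, Cfsg.RankOnePair_symm h2.2.2⟩

theorem mul_comm_of_mem_commutative {C : Subgroup G} (hC : IsMulCommutative C) {x y : G}
    (hx : x ∈ C) (hy : y ∈ C) : x * y = y * x := by
  have := congrArg Subtype.val (hC.is_comm.comm ⟨x, hx⟩ ⟨y, hy⟩)
  simpa using this

/-- In a rank one pair `(A, C)`, for `1 ≠ a ∈ A` the conjugate `a⁻¹ C a` does not centralize `C`. -/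
theorem rankOnePair_conj_not_centralize {A C : Subgroup G} (hAC : Cfsg.IsRankOnePair A C)
    {a : G} (haA : a ∈ A) (ha1 : a ≠ 1)
    (key : ∀ c₁ ∈ C, ∀ c₃ ∈ C, (a⁻¹ * c₁ * a) * c₃ = c₃ * (a⁻¹ * c₁ * a)) : False := by
  have hbot := rankOnePair_inf_normalizer hAC
  have hcentr : a ∈ Subgroup.centralizer (C : Set G) := by
    rw [Subgroup.mem_centralizer_iff]
    intro c₂ hc₂
    obtain ⟨c, hc, -, hEq⟩ := hAC.cond_left a haA ha1
    have h6 : c⁻¹ * a * c ∈ Cfsg.conjBy C a⁻¹ := by
      rw [← hEq]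
      have := conj_mem_conjBy (A := A) (g := c⁻¹) haA
      simpa using this
    rw [mem_conjBy] at h6
    simp only [inv_inv] at h6
    set c₁ := a * (c⁻¹ * a * c) * a⁻¹ with hc₁def
    have h7 : c⁻¹ * a * c = a⁻¹ * c₁ * a := by rw [hc₁def]; group
    have h8 := key c₁ h6 (c⁻¹ * c₂ * c) (C.mul_mem (C.mul_mem (C.inv_mem hc) hc₂) hc)
    rw [← h7] at h8
    have h9 : a * c₂ = c₂ * a := by
      have e1 : a * c₂ = c * ((c⁻¹ * a * c) * (c⁻¹ * c₂ * c)) * c⁻¹ := by group
      have e2 : c₂ * a = c * ((c⁻¹ * c₂ * c) * (c⁻¹ * a * c)) * c⁻¹ := by group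
      rw [e1, e2, h8]
    exact h9.symm
  have : a ∈ A ⊓ Subgroup.normalizer (C : Set G) :=
    Subgroup.mem_inf.mpr ⟨haA, Subgroup.centralizer_le_normalizer _ hcentr⟩
  rw [hbot, Subgroup.mem_bot] at this
  exact ha1 this

/-- In the commutator case for `(B, C)` with `C` abelian, every conjugate `x⁻¹ C x`, `x ∈ B`,
centralizes `C`. -/
theorem commutatorCase_conj_centralizes {S : Set (Subgroup G)} {B C : Subgroup G}
    (hCc : IsMulCommutative C) (h3 : Cfsg.RootCommutatorCase S B C) {x : G} (hx : x ∈ B) :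
    ∀ c₁ ∈ C, ∀ c₃ ∈ C, (x⁻¹ * c₁ * x) * c₃ = c₃ * (x⁻¹ * c₁ * x) := by
  obtain ⟨-, hcen, -, -⟩ := h3
  intro c₁ hc₁ c₃ hc₃
  have hd : ⁅x⁻¹, c₁⁆ ∈ ⁅B, C⁆ := Subgroup.commutator_mem_commutator (B.inv_mem hx) hc₁
  have hd' := hcen _ hd c₃ (Subgroup.mem_sup_right hc₃)
  have hcc : c₁ * c₃ = c₃ * c₁ := mul_comm_of_mem_commutative hCc hc₁ hc₃
  have hx' : x⁻¹ * c₁ * x = ⁅x⁻¹, c₁⁆ * c₁ := by
    rw [commutatorElement_def]; group
  rw [hx', mul_assoc, hcc, ← mul_assoc, hd', mul_assoc]

/-- Members of a set of abstract root subgroups meet a non-isolated member trivially. -/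
theorem rootSet_inf_eq_bot {S : Set (Subgroup G)} (hS : Cfsg.IsRootSubgroupSet S)
    {A B C : Subgroup G} (hC : C ∈ S) (hAC : Cfsg.IsRankOnePair A C) (hB : B ∈ S)
    (hne : A ≠ B) : A ⊓ B = ⊥ := by
  rw [eq_bot_iff]
  intro a ha
  rw [Subgroup.mem_bot]
  by_contra ha1
  obtain ⟨haA, haB⟩ := Subgroup.mem_inf.mp ha
  have hbot := rankOnePair_inf_normalizer hAC
  rcases hS.pair B hB C hC with h1 | h2 | h3
  · -- commuting case
    rw [Subgroup.commutator_eq_bot_iff_le_centralizer] at h1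
    have : a ∈ A ⊓ Subgroup.normalizer (C : Set G) :=
      Subgroup.mem_inf.mpr ⟨haA, Subgroup.centralizer_le_normalizer _ (h1 haB)⟩
    rw [hbot, Subgroup.mem_bot] at this
    exact ha1 this
  · -- rank one case
    obtain ⟨c, hc, -, hEq⟩ := hAC.cond_left a haA ha1
    obtain ⟨c', hc', -, hEq'⟩ := h2.cond_left a haB ha1
    have hBA : B = Cfsg.conjBy A (c' * c⁻¹) := by
      rw [← conjBy_conjBy, hEq, ← hEq', conjBy_conjBy]; simp
    rcases rankOnePair_conj_left hAC (C.mul_mem hc' (C.inv_mem hc)) with h4 | ⟨a₁, ha₁, -, h4⟩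
    · exact hne (h4.symm.trans hBA.symm)
    · rw [h4] at hBA
      rw [hBA, mem_conjBy] at haB
      have h5 : a₁⁻¹ * a * a₁ ∈ A ⊓ C :=
        Subgroup.mem_inf.mpr ⟨A.mul_mem (A.mul_mem (A.inv_mem ha₁) haA) ha₁, haB⟩
      rw [rankOnePair_inf hAC, Subgroup.mem_bot] at h5
      apply ha1
      have : a = a₁ * (a₁⁻¹ * a * a₁) * a₁⁻¹ := by group
      rw [this, h5]; group
  · -- commutator case
    exact rankOnePair_conj_not_centralize hAC haA ha1
      (commutatorCase_conj_centralizes (hS.commutative C hC) h3 haB)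

section Containment

variable {G : Type*} [Group G]

open scoped commutatorElement

theorem unipotentSubgroups_le {C D E : Subgroup G} (hE : E ∈ Cfsg.unipotentSubgroups C D) :
    E ≤ C ⊔ D := by
  obtain ⟨y, hy, rfl⟩ := hE
  exact conjBy_le_of_mem le_sup_left hy

theorem unipotentSubgroups_subset {S : Set (Subgroup G)} (hS : Cfsg.IsRootSubgroupSet S)
    {C D E : Subgroup G} (hC : C ∈ S) (hE : E ∈ Cfsg.unipotentSubgroups C D) : E ∈ S := by
  obtain ⟨y, -, rfl⟩ := hE
  exact hS.conj_mem C hC y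

theorem conjBy_ne_bot {A : Subgroup G} (hA : A ≠ ⊥) (g : G) : Cfsg.conjBy A g ≠ ⊥ := by
  intro h
  apply hA
  have : Cfsg.conjBy A g = Cfsg.conjBy ⊥ g := by
    rw [h]; unfold Cfsg.conjBy; rw [Subgroup.map_bot]
  exact conjBy_injective g this

/-- A member `A ≤ ⟨C, D⟩` of `S` is never in the commutator case with a unipotent subgroup of the
rank one group `⟨C, D⟩`. -/
theorem not_commutatorCase_of_le {S : Set (Subgroup G)} (hS : Cfsg.IsRootSubgroupSet S)
    {A C D E : Subgroup G} (hC : C ∈ S) (hD : D ∈ S) (hCD : Cfsg.IsRankOnePair C D)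
    (hAY : A ≤ C ⊔ D) (hE : E ∈ Cfsg.unipotentSubgroups C D) :
    ¬ Cfsg.RootCommutatorCase S A E := by
  intro h3
  have hES : E ∈ S := unipotentSubgroups_subset hS hC hE
  -- a rank one partner of E
  obtain ⟨y, hy, hEy⟩ := hE
  have hE'S : Cfsg.conjBy D y ∈ S := hS.conj_mem D hD y
  have hEE' : Cfsg.IsRankOnePair E (Cfsg.conjBy D y) := by
    rw [hEy]; exact isRankOnePair_conjBy hCD y
  have hEΩ : E ∈ Cfsg.unipotentSubgroups C D := ⟨y, hy, hEy⟩
  -- A normalizes E
  have hAN : A ≤ Subgroup.normalizer (E : Set G) := by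
    intro x hx
    have hcent := commutatorCase_conj_centralizes (hS.commutative E hES) h3 hx
    have hx' : x⁻¹ ∈ C ⊔ D := Subgroup.inv_mem _ (hAY hx)
    have hmem : Cfsg.conjBy E x⁻¹ ∈ Cfsg.unipotentSubgroups C D :=
      conjBy_mem_unipotentSubgroups hEΩ hx'
    have hEq : Cfsg.conjBy E x⁻¹ = E := by
      by_contra hne
      obtain ⟨hp, -, -⟩ := rankOnePair_of_mem_unipotentSubgroups hCD hmem hEΩ hne
      have hbot := rankOnePair_inf_normalizer hp
      have hle : Cfsg.conjBy E x⁻¹ ≤ Subgroup.normalizer (E : Set G) := by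
        intro w hw
        apply Subgroup.centralizer_le_normalizer
        rw [Subgroup.mem_centralizer_iff]
        intro c₃ hc₃
        rw [mem_conjBy] at hw
        simp only [inv_inv] at hw
        have := hcent _ hw c₃ hc₃
        have e : x⁻¹ * (x * w * x⁻¹) * x = w := by group
        rw [e] at this
        exact this.symm
      rw [inf_eq_left.mpr hle] at hbot
      exact conjBy_ne_bot (hS.ne_bot E hES) _ hbot
    have := conjBy_eq_self_iff.mp hEq
    simpa using Subgroup.inv_mem _ this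
  -- hence [A, E] ≤ E
  have hcomm_le : ⁅A, E⁆ ≤ E := by
    rw [Subgroup.commutator_le]
    intro a ha e he
    rw [commutatorElement_def]
    have := (Subgroup.mem_normalizer_iff.mp (hAN ha) e).mp he
    exact E.mul_mem this (E.inv_mem he)
  obtain ⟨hmemS, hcen, -, -⟩ := h3
  have hne_bot := hS.ne_bot _ hmemS
  have hEeq : E = ⁅A, E⁆ := by
    by_contra hne
    have := rootSet_inf_eq_bot hS hE'S hEE' hmemS hne
    rw [inf_eq_right.mpr hcomm_le] at this
    exact hne_bot this
  apply hne_bot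
  rw [Subgroup.commutator_eq_bot_iff_le_centralizer]
  intro a ha
  rw [Subgroup.mem_centralizer_iff]
  intro e he
  have he' : e ∈ ⁅A, E⁆ := by rw [← hEeq]; exact he
  exact hcen e he' a (Subgroup.mem_sup_left ha)

/-- If the rank one group `⟨A, B⟩` lies in the rank one group `⟨C, D⟩` (all in `S`), then `A` is a
unipotent subgroup of `⟨C, D⟩`. -/
theorem mem_unipotentSubgroups_of_le {S : Set (Subgroup G)} (hS : Cfsg.IsRootSubgroupSet S)
    {A B C D : Subgroup G} (hA : A ∈ S) (hC : C ∈ S) (hD : D ∈ S)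
    (hAB : Cfsg.IsRankOnePair A B) (hCD : Cfsg.IsRankOnePair C D) (hle : A ⊔ B ≤ C ⊔ D) :
    A ∈ Cfsg.unipotentSubgroups C D := by
  have hAY : A ≤ C ⊔ D := le_sup_left.trans hle
  have hBY : B ≤ C ⊔ D := le_sup_right.trans hle
  have hCΩ : C ∈ Cfsg.unipotentSubgroups C D := mem_unipotentSubgroups_self C D
  have hDΩ : D ∈ Cfsg.unipotentSubgroups C D := rankOnePair_right_mem_unipotentSubgroups hCD
  -- some E ∈ {C, D} forms a rank one pair with A
  have hex : ∃ E ∈ Cfsg.unipotentSubgroups C D, Cfsg.IsRankOnePair A E := by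
    by_contra hno
    push Not at hno
    have hcomm : ∀ E ∈ Cfsg.unipotentSubgroups C D, A ≤ Subgroup.centralizer (E : Set G) := by
      intro E hE
      have hES := unipotentSubgroups_subset hS hC hE
      rcases hS.pair A hA E hES with h1 | h2 | h3
      · exact Subgroup.commutator_eq_bot_iff_le_centralizer.mp h1
      · exact absurd h2 (hno E hE)
      · exact absurd h3 (not_commutatorCase_of_le hS hC hD hCD hAY hE)
    obtain ⟨a, ha, ha1⟩ := rankOnePair_exists_left hAB
    have haC := hcomm C hCΩ ha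
    have haD := hcomm D hDΩ ha
    rw [Subgroup.mem_centralizer_iff] at haC haD
    have hY : C ⊔ D ≤ Subgroup.centralizer ({a} : Set G) := by
      apply sup_le
      · intro c hc
        rw [Subgroup.mem_centralizer_iff]
        intro m hm
        rw [Set.mem_singleton_iff.mp hm]
        exact (haC c hc).symm
      · intro d hd
        rw [Subgroup.mem_centralizer_iff]
        intro m hm
        rw [Set.mem_singleton_iff.mp hm]
        exact (haD d hd).symm
    have haB : a ∈ Subgroup.centralizer (B : Set G) := by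
      rw [Subgroup.mem_centralizer_iff]
      intro b hb
      have := hY (hBY hb)
      rw [Subgroup.mem_centralizer_iff] at this
      exact (this a rfl).symm
    have : a ∈ A ⊓ Subgroup.normalizer (B : Set G) :=
      Subgroup.mem_inf.mpr ⟨ha, Subgroup.centralizer_le_normalizer _ haB⟩
    rw [rankOnePair_inf_normalizer hAB, Subgroup.mem_bot] at this
    exact ha1 this
  obtain ⟨E, hE, hAE⟩ := hex
  obtain ⟨a, ha, ha1⟩ := rankOnePair_exists_left hAB
  obtain ⟨e, he, -, hEq⟩ := hAE.cond_left a ha ha1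
  have hAeq : A = Cfsg.conjBy E (e * a⁻¹) := by
    rw [← conjBy_conjBy, ← hEq, conjBy_conjBy]; simp
  rw [hAeq]
  exact conjBy_mem_unipotentSubgroups hE
    (Subgroup.mul_mem _ (unipotentSubgroups_le hE he) (Subgroup.inv_mem _ (hAY ha)))

end Containment

section NotCommute

variable {G : Type*} [Group G]

/-- Non-identity elements of the two unipotent subgroups of a rank one pair never commute. -/
theorem rankOnePair_not_commute {A B : Subgroup G} (h : Cfsg.IsRankOnePair A B) {a b : G}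
    (ha : a ∈ A) (ha1 : a ≠ 1) (hb : b ∈ B) (hb1 : b ≠ 1) : a * b ≠ b * a := by
  intro hab
  rcases rankOnePair_conj_left h hb with h1 | ⟨a', ha', -, h1⟩
  · have : b ∈ B ⊓ Subgroup.normalizer (A : Set G) :=
      Subgroup.mem_inf.mpr ⟨hb, conjBy_eq_self_iff.mp h1⟩
    rw [rankOnePair_inf_normalizer' h, Subgroup.mem_bot] at this
    exact hb1 this
  · have h2 : Cfsg.conjBy (Cfsg.conjBy A b) a = Cfsg.conjBy A b := by
      rw [conjBy_conjBy, hab, ← conjBy_conjBy, conjBy_eq_self_of_mem ha]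
    rw [h1, conjBy_conjBy] at h2
    have h3 := rankOnePair_conjBy_right_injective h (A.mul_mem ha ha') ha' h2
    apply ha1
    have : a = (a * a') * a'⁻¹ := by group
    rw [this, h3]; group

theorem le_centralizer_zpowers_iff {E : Subgroup G} {x : G} :
    E ≤ Subgroup.centralizer ((Subgroup.zpowers x : Subgroup G) : Set G) ↔
      ∀ e ∈ E, e * x = x * e := by
  constructor
  · intro h e he
    have := h he
    rw [Subgroup.mem_centralizer_iff] at this
    exact (this x (Subgroup.mem_zpowers x)).symm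
  · intro h e he
    rw [Subgroup.mem_centralizer_iff]
    rintro _ ⟨n, rfl⟩
    have hc : Commute x e := (h e he).symm
    exact (hc.zpow_left n)

end NotCommute

end Cfsg.Agent.Lib.Helper8
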