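import Mathlib
import Cfsg.Agent.Lib.Helper8.Qr29
import Cfsg.Agent.Lib.Helper8.RootSet

/-! The graph of rank one pairs on `Σ(G)` for a quadratic pair: reachability. -/

set_option autoImplicit false
set_option linter.unusedSectionVars false
set_option linter.unusedSimpArgs false

namespace Cfsg.Agent.Lib.Helper8.Qr

open Cfsg Cfsg.Agent.Lib.Helper8.Qp

universe u

variable {k : Type u} [Field k] {M : Type u} [AddCommGroup M] [Module k M]
variable {G : Subgroup (LinearMap.GeneralLinearGroup k M)}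
variable [FiniteDimensional k M]

/-- reachability in the graph of rank one pairs on `Σ(G)` -/
def Reach (G : Subgroup (LinearMap.GeneralLinearGroup k M))
    (A B : Subgroup (LinearMap.GeneralLinearGroup k M)) : Prop :=
  Relation.ReflTransGen (FAdj (quadraticRootSubgroups G)) A B

theorem fadj_symm {A B : Subgroup (LinearMap.GeneralLinearGroup k M)}
    (h : FAdj (quadraticRootSubgroups G) A B) : FAdj (quadraticRootSubgroups G) B A :=
  ⟨h.2.1, h.1, RankOnePair_symm h.2.2⟩

theorem Reach.refl (A : Subgroup (LinearMap.GeneralLinearGroup k M)) : Reach G A A :=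
  Relation.ReflTransGen.refl

theorem Reach.symm {A B : Subgroup (LinearMap.GeneralLinearGroup k M)} (h : Reach G A B) :
    Reach G B A := by
  induction h with
  | refl => exact Relation.ReflTransGen.refl
  | tail _ h2 ih => exact Relation.ReflTransGen.head (fadj_symm h2) ih

theorem Reach.trans {A B C : Subgroup (LinearMap.GeneralLinearGroup k M)} (h : Reach G A B)
    (h' : Reach G B C) : Reach G A C :=
  Relation.ReflTransGen.trans h h'

theorem mem_Sigma_conj {g : LinearMap.GeneralLinearGroup k M} (hg : g ∈ G)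
    {A : Subgroup (LinearMap.GeneralLinearGroup k M)} (hA : A ∈ quadraticRootSubgroups G) :
    conjBy A g ∈ quadraticRootSubgroups G := by
  obtain ⟨σ, hσ, rfl⟩ := hA
  exact ⟨g * σ * g⁻¹, conj_mem_Qd hg hσ, conjBy_sameActionSubgroup hg σ⟩

theorem fadj_conj {g : LinearMap.GeneralLinearGroup k M} (hg : g ∈ G)
    {A B : Subgroup (LinearMap.GeneralLinearGroup k M)}
    (h : FAdj (quadraticRootSubgroups G) A B) :
    FAdj (quadraticRootSubgroups G) (conjBy A g) (conjBy B g) :=
  ⟨mem_Sigma_conj hg h.1, mem_Sigma_conj hg h.2.1, isRankOnePair_conjBy h.2.2 g⟩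

theorem Reach.conj {g : LinearMap.GeneralLinearGroup k M} (hg : g ∈ G)
    {A B : Subgroup (LinearMap.GeneralLinearGroup k M)} (h : Reach G A B) :
    Reach G (conjBy A g) (conjBy B g) := by
  induction h with
  | refl => exact Relation.ReflTransGen.refl
  | tail _ h2 ih => exact Relation.ReflTransGen.tail ih (fadj_conj hg h2)

theorem Reach.mem {A B : Subgroup (LinearMap.GeneralLinearGroup k M)} (h : Reach G A B)
    (hA : A ∈ quadraticRootSubgroups G) : B ∈ quadraticRootSubgroups G := by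
  induction h with
  | refl => exact hA
  | tail _ h2 _ => exact h2.2.1

theorem reach_of_opp (h2 : (2 : k) ≠ 0) (h3 : Nat.card k ≠ 3)
    {σ τ : LinearMap.GeneralLinearGroup k M} (hσ : σ ∈ minimalQuadraticElements G)
    (hτ : τ ∈ minimalQuadraticElements G) (hopp : Opp σ τ) :
    Reach G (sameActionSubgroup G σ) (sameActionSubgroup G τ) :=
  Relation.ReflTransGen.single
    ⟨⟨σ, hσ, rfl⟩, ⟨τ, hτ, rfl⟩, isRankOnePair_of_opp h2 h3 hσ hτ hopp⟩

/-- the commutator subgroup in the commutator case -/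
theorem comm_eq (hG : IsQuadraticPair G) (h2 : (2 : k) ≠ 0) (h3 : Nat.card k ≠ 3)
    {σ τ : LinearMap.GeneralLinearGroup k M} (hσ : σ ∈ minimalQuadraticElements G)
    (hτ : τ ∈ minimalQuadraticElements G) (hopp : ¬ Opp σ τ)
    (hne : (σ.1 - 1) * (τ.1 - 1) ≠ (τ.1 - 1) * (σ.1 - 1)) :
    ⁅sameActionSubgroup G σ, sameActionSubgroup G τ⁆ =
      sameActionSubgroup G (σ * τ * σ⁻¹ * τ⁻¹) := by
  obtain ⟨hρ, -⟩ := comm_mem_class h2 h3 hσ hτ hopp hne
  obtain ⟨⟨ρ', hρ', e⟩, -⟩ := class2_main hG h2 h3 hσ hτ hopp hne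
  have hmem : σ * τ * σ⁻¹ * τ⁻¹ ∈ sameActionSubgroup G ρ' := by
    rw [← e]
    have := Subgroup.commutator_mem_commutator (self_mem_sameActionSubgroup hσ)
      (self_mem_sameActionSubgroup hτ)
    rw [commutatorElement_def] at this
    exact this
  have hcl := (mem_sameActionSubgroup hρ' hmem).resolve_left
    (ne_one_of_mem_class (self_mem_sameActionClass hρ))
  rw [e]
  exact (sameActionSubgroup_congr hcl.2.1 hcl.2.2).symm

/-- in the commutator case `E(σ)` is joined to `[E(σ), E(τ)]` -/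
theorem reach_comm (hG : IsQuadraticPair G) (h2 : (2 : k) ≠ 0) (h3 : Nat.card k ≠ 3)
    {σ τ : LinearMap.GeneralLinearGroup k M} (hσ : σ ∈ minimalQuadraticElements G)
    (hτ : τ ∈ minimalQuadraticElements G) (hopp : ¬ Opp σ τ)
    (hc : ⁅sameActionSubgroup G σ, sameActionSubgroup G τ⁆ ≠ ⊥) :
    Reach G (sameActionSubgroup G σ) ⁅sameActionSubgroup G σ, sameActionSubgroup G τ⁆ := by
  have hne := ne_of_comm_ne_bot h2 h3 hσ hτ hopp hc
  obtain ⟨hρ, -⟩ := comm_mem_class h2 h3 hσ hτ hopp hne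
  rw [comm_eq hG h2 h3 hσ hτ hopp hne]
  obtain ⟨ω, hω, o1, o2⟩ := exists_common_opp hG h2 h3 hσ hτ hopp hne
  exact (reach_of_opp h2 h3 hσ hω o1).trans (reach_of_opp h2 h3 hρ hω o2).symm

theorem reach_comm' (hG : IsQuadraticPair G) (h2 : (2 : k) ≠ 0) (h3 : Nat.card k ≠ 3)
    {σ τ : LinearMap.GeneralLinearGroup k M} (hσ : σ ∈ minimalQuadraticElements G)
    (hτ : τ ∈ minimalQuadraticElements G) (hopp : ¬ Opp σ τ)
    (hc : ⁅sameActionSubgroup G σ, sameActionSubgroup G τ⁆ ≠ ⊥) :
    Reach G (sameActionSubgroup G τ) ⁅sameActionSubgroup G σ, sameActionSubgroup G τ⁆ := by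
  rw [Subgroup.commutator_comm]
  apply reach_comm hG h2 h3 hτ hσ (fun h => hopp h.symm)
  rwa [Subgroup.commutator_comm]

/-- members of different components commute -/
theorem comm_eq_bot_of_not_reach (hG : IsQuadraticPair G) (h2 : (2 : k) ≠ 0)
    (h3 : Nat.card k ≠ 3) {A B : Subgroup (LinearMap.GeneralLinearGroup k M)}
    (hA : A ∈ quadraticRootSubgroups G) (hB : B ∈ quadraticRootSubgroups G)
    (h : ¬ Reach G A B) : ⁅A, B⁆ = ⊥ := by
  obtain ⟨σ, hσ, rfl⟩ := hA
  obtain ⟨τ, hτ, rfl⟩ := hB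
  by_contra hc
  apply h
  by_cases hopp : Opp σ τ
  · exact reach_of_opp h2 h3 hσ hτ hopp
  · exact (reach_comm hG h2 h3 hσ hτ hopp hc).trans (reach_comm' hG h2 h3 hσ hτ hopp hc).symm

/-- conjugating by an element of a root subgroup does not leave the component -/
theorem reach_conj_mem (hG : IsQuadraticPair G) (h2 : (2 : k) ≠ 0) (h3 : Nat.card k ≠ 3)
    {A B : Subgroup (LinearMap.GeneralLinearGroup k M)}
    (hA : A ∈ quadraticRootSubgroups G) (hB : B ∈ quadraticRootSubgroups G)
    {b : LinearMap.GeneralLinearGroup k M} (hb : b ∈ B) : Reach G A (conjBy A b) := by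
  obtain ⟨σ, hσ, rfl⟩ := hA
  obtain ⟨τ, hτ, rfl⟩ := hB
  have hbG : b ∈ G := sameActionSubgroup_le τ hb
  by_cases hc : ⁅sameActionSubgroup G σ, sameActionSubgroup G τ⁆ = ⊥
  · have : conjBy (sameActionSubgroup G σ) b = sameActionSubgroup G σ := by
      apply conjBy_eq_of_comm
      intro a ha
      rw [Subgroup.commutator_eq_bot_iff_le_centralizer] at hc
      have := hc ha
      rw [Subgroup.mem_centralizer_iff] at this
      exact this b hb
    rw [this]
    exact Reach.refl _
  · by_cases hopp : Opp σ τ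
    · have h1 := reach_of_opp h2 h3 hσ hτ hopp
      have h4 := h1.conj hbG
      rw [Cfsg.Agent.Lib.Helper8.conjBy_eq_self_of_mem hb] at h4
      exact h1.trans h4.symm
    · have h1 := reach_comm hG h2 h3 hσ hτ hopp hc
      have h4 := h1.conj hbG
      have hne := ne_of_comm_ne_bot h2 h3 hσ hτ hopp hc
      obtain ⟨-, -, -, -, r5, -⟩ := class2_main hG h2 h3 hσ hτ hopp hne
      have hcen := central_of_class2 r5
      have : conjBy ⁅sameActionSubgroup G σ, sameActionSubgroup G τ⁆ b =
          ⁅sameActionSubgroup G σ, sameActionSubgroup G τ⁆ := by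
        apply conjBy_eq_of_comm
        intro c hc'
        exact (hcen c (Subgroup.commutator_mono le_sup_left le_sup_right hc') b
          (Subgroup.mem_sup_right hb)).symm
      rw [this] at h4
      exact h1.trans h4.symm

theorem G0_le : (⨆ B ∈ quadraticRootSubgroups G, B) ≤ G := by
  apply iSup₂_le
  rintro _ ⟨σ, _, rfl⟩
  exact sameActionSubgroup_le σ

/-- the elements of `G` keeping every member of `Σ` in its component -/
def compStab (G : Subgroup (LinearMap.GeneralLinearGroup k M)) :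
    Subgroup (LinearMap.GeneralLinearGroup k M) where
  carrier := {g | g ∈ G ∧ ∀ A ∈ quadraticRootSubgroups G, Reach G A (conjBy A g)}
  one_mem' := ⟨G.one_mem, fun A _ => by rw [conjBy_one]; exact Reach.refl A⟩
  mul_mem' := by
    rintro x y ⟨hx, hx'⟩ ⟨hy, hy'⟩
    refine ⟨G.mul_mem hx hy, fun A hA => ?_⟩
    rw [← conjBy_conjBy]
    exact (hy' A hA).trans (hx' _ (mem_Sigma_conj hy hA))
  inv_mem' := by
    rintro x ⟨hx, hx'⟩
    refine ⟨G.inv_mem hx, fun A hA => ?_⟩
    have h1 := hx' _ (mem_Sigma_conj (G.inv_mem hx) hA)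
    rw [conjBy_conjBy, mul_inv_cancel, conjBy_one] at h1
    exact h1.symm

theorem reach_conj_G0 (hG : IsQuadraticPair G) (h2 : (2 : k) ≠ 0) (h3 : Nat.card k ≠ 3)
    {A : Subgroup (LinearMap.GeneralLinearGroup k M)}
    (hA : A ∈ quadraticRootSubgroups G) {g : LinearMap.GeneralLinearGroup k M}
    (hg : g ∈ ⨆ B ∈ quadraticRootSubgroups G, B) : Reach G A (conjBy A g) := by
  have hle : (⨆ B ∈ quadraticRootSubgroups G, B) ≤ compStab G := by
    apply iSup₂_le
    intro B hB b hb
    have hBG : B ≤ G := by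
      obtain ⟨τ, _, rfl⟩ := hB
      exact sameActionSubgroup_le τ
    exact ⟨hBG hb, fun A hA => reach_conj_mem hG h2 h3 hA hB hb⟩
  exact (hle hg).2 A hA

end Cfsg.Agent.Lib.Helper8.Qr
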