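import Mathlib
import Cfsg.Prelude.Def_RootSubgroups
import Cfsg.Agent.Lib.Helper9.SpecialRankOne1

/-!
# Special rank one groups with abelian unipotent subgroups: `A = [A, H]` when `|A| > 3`

For a special rank one pair `(A, B)` with abelian unipotent subgroups and `|A| > 3`, every subgroup
`A₀ ≤ A` containing all commutators `c⁻¹ c^h` (`c ∈ A`, `h ∈ ⟨A, B⟩` normalizing `A` and `B`) is
`A` itself.  In particular `A ≤ ⟨A, B⟩'`.
-/

set_option autoImplicit false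

namespace Cfsg.Agent.Lib.Helper8.RY

open Cfsg.Agent.H9SR Cfsg.Agent.Lib.Helper8

variable {G : Type*} [Group G]

theorem cg_identity {K : Type*} [CommGroup K] (w x d g1 g2 : K) :
    x * d * d = (w * x * d) * (w * (g1 * g2⁻¹))⁻¹ * (d * x * g1) * (x * g2)⁻¹ := by
  have := (by intro w x d g1 g2; abel :
    ∀ (w x d g1 g2 : Additive K),
      x + d + d = (w + x + d) + -(w + (g1 + -g2)) + (d + x + g1) + -(x + g2))
    (Additive.ofMul w) (Additive.ofMul x) (Additive.ofMul d) (Additive.ofMul g1) (Additive.ofMul g2)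
  exact this

open scoped IsMulCommutative in
theorem comm_combo (A A₀ : Subgroup G)
    (hc : ∀ p ∈ A, ∀ q ∈ A, p * q = q * p) {w x d g1 g2 : G}
    (hw : w ∈ A) (hx : x ∈ A) (hd : d ∈ A) (hg1 : g1 ∈ A) (hg2 : g2 ∈ A)
    (m4 : w * x * d ∈ A₀) (m1 : w * (g1 * g2⁻¹) ∈ A₀) (m2 : d * x * g1 ∈ A₀) (m3 : x * g2 ∈ A₀) :
    x * d * d ∈ A₀ := by
  have : IsMulCommutative ↥A := ⟨⟨fun p q => Subtype.ext (hc p p.2 q q.2)⟩⟩
  have h := cg_identity (K := ↥A) ⟨w, hw⟩ ⟨x, hx⟩ ⟨d, hd⟩ ⟨g1, hg1⟩ ⟨g2, hg2⟩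
  have h' := congrArg Subtype.val h
  simp only [Subgroup.coe_mul, Subgroup.coe_inv] at h'
  rw [h']
  exact A₀.mul_mem (A₀.mul_mem (A₀.mul_mem m4 (A₀.inv_mem m1)) m2) (A₀.inv_mem m3)

variable {A B : Subgroup G}

section Basic

variable (S : SpecAb A B)
include S

/-- `n(a) = a b⁻¹ a` maps `A` to `B`. -/
theorem ra_n_left {a b : G} (h : Chi A B a b) : ra A (a * b⁻¹ * a) = B := by
  have hinv := (S.chi_inv h).2.2.2.2
  calc ra A (a * b⁻¹ * a) = ra (ra (ra A a) b⁻¹) a := by rw [ra_ra, ra_ra, mul_assoc]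
    _ = ra (ra A b⁻¹) a := by rw [ra_of_mem h.1]
    _ = ra (ra B a⁻¹) a := by rw [hinv]
    _ = B := by rw [ra_ra, inv_mul_cancel, ra_one]

omit S in
/-- `n(a) = a b⁻¹ a` maps `B` to `A`. -/
theorem ra_n_right {a b : G} (h : Chi A B a b) : ra B (a * b⁻¹ * a) = A := by
  have h1 : ra (ra A b) b⁻¹ = A := by rw [ra_ra, mul_inv_cancel, ra_one]
  calc ra B (a * b⁻¹ * a) = ra (ra (ra B a) b⁻¹) a := by rw [ra_ra, ra_ra, mul_assoc]
    _ = ra (ra (ra A b) b⁻¹) a := by rw [h.2.2.2.2]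
    _ = ra A a := by rw [h1]
    _ = A := ra_of_mem h.1

/-- `a^{n(a)} = b⁻¹`. -/
theorem conj_n {a b : G} (h : Chi A B a b) : (a * b⁻¹ * a)⁻¹ * a * (a * b⁻¹ * a) = b⁻¹ := by
  have h1 := S.rel (S.chi_inv h)
  simp only [inv_inv] at h1
  -- h1 : b * a⁻¹ * b⁻¹ = a * b * a⁻¹
  have h2 : b * a * b⁻¹ = a * b⁻¹ * a⁻¹ := by
    have := congrArg (fun t => t⁻¹) h1
    simp only [mul_inv_rev, inv_inv] at this
    rw [← mul_assoc, ← mul_assoc] at this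
    exact this
  calc (a * b⁻¹ * a)⁻¹ * a * (a * b⁻¹ * a) = a⁻¹ * (b * a * b⁻¹) * a := by group
    _ = a⁻¹ * (a * b⁻¹ * a⁻¹) * a := by rw [h2]
    _ = b⁻¹ := by group

omit S in
theorem n_mem {a b : G} (h : Chi A B a b) : a * b⁻¹ * a ∈ A ⊔ B :=
  Subgroup.mul_mem _ (Subgroup.mul_mem _ (Subgroup.mem_sup_left h.1)
    (Subgroup.inv_mem _ (Subgroup.mem_sup_right h.2.2.1))) (Subgroup.mem_sup_left h.1)

end Basic

/-- `A₀ ≤ A` contains all commutators of `A` with the diagonal subgroup. -/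
structure HInv (A B A₀ : Subgroup G) : Prop where
  le : A₀ ≤ A
  comm : ∀ c ∈ A, ∀ h : G, h ∈ A ⊔ B → ra A h = A → ra B h = B → c⁻¹ * (h⁻¹ * c * h) ∈ A₀

section Key

variable (S : SpecAb A B) {A₀ : Subgroup G} (hI : HInv A B A₀)
include S hI

/-- With reference `n = n(x)`: for `χ(c) = b`, `c · (n b n⁻¹) ∈ A₀`. -/
theorem claim_one {x bx : G} (hx : Chi A B x bx) {c b : G} (hc : Chi A B c b) :
    c * ((x * bx⁻¹ * x) * b * (x * bx⁻¹ * x)⁻¹) ∈ A₀ := by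
  obtain ⟨n, hn⟩ : ∃ n, n = x * bx⁻¹ * x := ⟨_, rfl⟩
  obtain ⟨m, hm⟩ : ∃ m, m = c * b⁻¹ * c := ⟨_, rfl⟩
  rw [← hn]
  have hnA : ra A n = B := by rw [hn]; exact ra_n_left S hx
  have hnB : ra B n = A := by rw [hn]; exact ra_n_right hx
  have hmA : ra A m = B := by rw [hm]; exact ra_n_left S hc
  have hmB : ra B m = A := by rw [hm]; exact ra_n_right hc
  have hBn : ra B n⁻¹ = A := by
    rw [← hnA, ra_ra, mul_inv_cancel, ra_one]
  have hAn : ra A n⁻¹ = B := by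
    rw [← hnB, ra_ra, mul_inv_cancel, ra_one]
  have hh1 : ra A (m * n⁻¹) = A := by rw [← ra_ra, hmA, hBn]
  have hh2 : ra B (m * n⁻¹) = B := by rw [← ra_ra, hmB, hAn]
  have hmem : m * n⁻¹ ∈ A ⊔ B := by
    rw [hm, hn]
    exact Subgroup.mul_mem _ (n_mem hc) (Subgroup.inv_mem _ (n_mem hx))
  have h1 := hI.comm c hc.1 (m * n⁻¹) hmem hh1 hh2
  have hcm : m⁻¹ * c * m = b⁻¹ := by rw [hm]; exact conj_n S hc
  have h2 : (m * n⁻¹)⁻¹ * c * (m * n⁻¹) = n * b⁻¹ * n⁻¹ := by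
    calc (m * n⁻¹)⁻¹ * c * (m * n⁻¹) = n * (m⁻¹ * c * m) * n⁻¹ := by group
      _ = n * b⁻¹ * n⁻¹ := by rw [hcm]
  rw [h2] at h1
  -- h1 : c⁻¹ * (n b⁻¹ n⁻¹) ∈ A₀
  have h3 := A₀.inv_mem h1
  have h4 : (c⁻¹ * (n * b⁻¹ * n⁻¹))⁻¹ = (n * b * n⁻¹) * c := by group
  rw [h4] at h3
  have hγ : n * b * n⁻¹ ∈ A := by
    have : b ∈ ra A n := by rw [hnA]; exact hc.2.2.1
    exact mem_ra.mp this
  rw [S.commA c hc.1 _ hγ]
  exact h3

/-- The key relation: `x d² ∈ A₀` for `x, d ∈ A#` with `d x ≠ 1`. -/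
theorem key {x d : G} (hx : x ∈ A) (hx1 : x ≠ 1) (hd : d ∈ A) (hd1 : d ≠ 1) (hdx : d * x ≠ 1) :
    x * d * d ∈ A₀ := by
  obtain ⟨bx, hbx⟩ := S.exists_chi hx hx1
  obtain ⟨bdx, hbdx⟩ := S.exists_chi (A.mul_mem hd hx) hdx
  obtain ⟨n, hn⟩ : ∃ n, n = x * bx⁻¹ * x := ⟨_, rfl⟩
  have hnA : ra A n = B := by rw [hn]; exact ra_n_left S hbx
  have hnB : ra B n = A := by rw [hn]; exact ra_n_right hbx
  have hBn : ra B n⁻¹ = A := by
    rw [← hnA, ra_ra, mul_inv_cancel, ra_one]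
  have hAn : ra A n⁻¹ = B := by
    rw [← hnB, ra_ra, mul_inv_cancel, ra_one]
  -- `b' = χ(dx) χ(x)⁻¹ ≠ 1`
  have hb'1 : bdx * bx⁻¹ ≠ 1 := by
    intro h0
    have : bdx = bx := mul_inv_eq_one.mp h0
    rw [this] at hbdx
    have h1 := S.chi_injective hbdx hbx
    apply hd1
    calc d = (d * x) * x⁻¹ := by group
      _ = x * x⁻¹ := by rw [h1]
      _ = 1 := mul_inv_cancel x
  have hb'B : bdx * bx⁻¹ ∈ B := B.mul_mem hbdx.2.2.1 (B.inv_mem hbx.2.2.1)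
  obtain ⟨w, hw⟩ := S.symm.exists_chi hb'B hb'1
  have hw' : Chi A B w (bdx * bx⁻¹) := hw.symm
  -- `u = n⁻¹ d n`
  obtain ⟨u, hu⟩ : ∃ u, u = n⁻¹ * d * n := ⟨_, rfl⟩
  have huB : u ∈ B := by
    rw [hu, ← hnA]
    exact conj_mem_ra hd
  have hu1 : u ≠ 1 := by
    intro h0
    apply hd1
    have : d = n * u * n⁻¹ := by rw [hu]; group
    rw [this, h0]; group
  -- `ra A u = ra B (w x)`
  have hAu : ra A u = ra B (w * x) := by
    have e1 : u = n⁻¹ * (d * n) := by rw [hu]; group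
    have e2 : d * n = (d * x) * bx⁻¹ * x := by rw [hn]; group
    calc ra A u = ra (ra A n⁻¹) (d * n) := by rw [e1, ra_ra]
      _ = ra B ((d * x) * bx⁻¹ * x) := by rw [hAn, e2]
      _ = ra (ra (ra B (d * x)) bx⁻¹) x := by rw [ra_ra, ra_ra, mul_assoc]
      _ = ra (ra (ra A bdx) bx⁻¹) x := by rw [hbdx.2.2.2.2]
      _ = ra (ra A (bdx * bx⁻¹)) x := by rw [ra_ra A]
      _ = ra (ra B w) x := by rw [hw'.2.2.2.2]
      _ = ra B (w * x) := by rw [ra_ra]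
  have hwx1 : w * x ≠ 1 := by
    intro h0
    rw [h0, ra_one] at hAu
    -- ra A u = B with u ∈ B
    have : A = B := by
      have h2 : ra (ra A u) u⁻¹ = ra B u⁻¹ := by rw [hAu]
      rw [ra_ra, mul_inv_cancel, ra_one, ra_of_mem (B.inv_mem huB)] at h2
      exact h2
    exact S.pair.ne this
  have hwxu : Chi A B (w * x) u := ⟨A.mul_mem hw'.1 hx, hwx1, huB, hu1, hAu⟩
  -- the four memberships
  have c4 := claim_one S hI hbx hwxu
  have c1 := claim_one S hI hbx hw'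
  have c2 := claim_one S hI hbx hbdx
  have c3 := claim_one S hI hbx hbx
  rw [← hn] at c4 c1 c2 c3
  have hγu : n * u * n⁻¹ = d := by rw [hu]; group
  rw [hγu] at c4
  have hγb' : n * (bdx * bx⁻¹) * n⁻¹ = (n * bdx * n⁻¹) * (n * bx * n⁻¹)⁻¹ := by group
  rw [hγb'] at c1
  have hg1 : n * bdx * n⁻¹ ∈ A := by
    have : bdx ∈ ra A n := by rw [hnA]; exact hbdx.2.2.1
    exact mem_ra.mp this
  have hg2 : n * bx * n⁻¹ ∈ A := by
    have : bx ∈ ra A n := by rw [hnA]; exact hbx.2.2.1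
    exact mem_ra.mp this
  exact comm_combo A A₀ S.commA hw'.1 hx hd hg1 hg2 c4 c1 c2 c3

end Key

end Cfsg.Agent.Lib.Helper8.RY
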