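import Mathlib
import Cfsg.Prelude.Def_RootSubgroups
import Cfsg.Agent.Lib.Helper8.RY1

/-!
# Special rank one groups with abelian unipotent subgroups and `|A| > 3` : `A ≤ ⟨A, B⟩'`
-/

set_option autoImplicit false

namespace Cfsg.Agent.Lib.Helper8.RY

open Cfsg.Agent.H9SR Cfsg.Agent.Lib.Helper8

variable {G : Type*} [Group G]

open scoped commutatorElement

theorem exists_ne_three {A : Subgroup G} (h : 3 < ENat.card ↥A) (u v w : G) :
    ∃ z ∈ A, z ≠ u ∧ z ≠ v ∧ z ≠ w := by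
  by_contra hcon
  push Not at hcon
  have hsub : (A : Set G) ⊆ {u, v, w} := by
    intro z hz
    by_cases h1 : z = u
    · simp [h1]
    by_cases h2 : z = v
    · simp [h2]
    have := hcon z hz h1 h2
    simp [this]
  have h1 : Set.encard (A : Set G) ≤ 3 := by
    calc Set.encard (A : Set G) ≤ Set.encard ({u, v, w} : Set G) := Set.encard_mono hsub
      _ ≤ Set.encard ({v, w} : Set G) + 1 := Set.encard_insert_le _ _
      _ ≤ (Set.encard ({w} : Set G) + 1) + 1 := by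
        gcongr
        exact Set.encard_insert_le _ _
      _ = 3 := by rw [Set.encard_singleton]; norm_num
  have h2 : ENat.card ↥A = Set.encard (A : Set G) := rfl
  rw [h2] at h
  exact absurd h (not_lt.mpr h1)

variable {A B : Subgroup G}

theorem le_of_hinv (S : SpecAb A B) {A₀ : Subgroup G} (hI : HInv A B A₀)
    (hcard : 3 < ENat.card ↥A) : A ≤ A₀ := by
  have star : ∀ x ∈ A, x ≠ 1 → ∀ x' ∈ A, x' ≠ 1 → x⁻¹ * x' ∈ A₀ := by
    intro x hx hx1 x' hx' hx'1
    obtain ⟨d, hd, hd1, hd2, hd3⟩ := exists_ne_three hcard 1 x⁻¹ x'⁻¹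
    have hdx : d * x ≠ 1 := fun h0 => hd2 (eq_inv_of_mul_eq_one_left h0)
    have hdx' : d * x' ≠ 1 := fun h0 => hd3 (eq_inv_of_mul_eq_one_left h0)
    have k1 := key S hI hx hx1 hd hd1 hdx
    have k2 := key S hI hx' hx'1 hd hd1 hdx'
    have hy : (x⁻¹ * x') * d = d * (x⁻¹ * x') :=
      S.commA _ (A.mul_mem (A.inv_mem hx) hx') _ hd
    have : x⁻¹ * x' = (x * d * d)⁻¹ * (x' * d * d) := by
      calc x⁻¹ * x' = d⁻¹ * d⁻¹ * (d * (d * (x⁻¹ * x'))) := by group
        _ = d⁻¹ * d⁻¹ * (d * ((x⁻¹ * x') * d)) := by rw [hy]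
        _ = d⁻¹ * d⁻¹ * ((d * (x⁻¹ * x')) * d) := by group
        _ = d⁻¹ * d⁻¹ * (((x⁻¹ * x') * d) * d) := by rw [hy]
        _ = (x * d * d)⁻¹ * (x' * d * d) := by group
    rw [this]
    exact A₀.mul_mem (A₀.inv_mem k1) k2
  intro y hy
  by_cases hy1 : y = 1
  · rw [hy1]; exact A₀.one_mem
  obtain ⟨x, hx, hx1, hx2, -⟩ := exists_ne_three hcard 1 y⁻¹ 1
  have hxy1 : x * y ≠ 1 := fun h0 => hx2 (eq_inv_of_mul_eq_one_left h0)
  have := star x hx hx1 (x * y) (A.mul_mem hx hy) hxy1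
  rwa [inv_mul_cancel_left] at this

/-- A special rank one pair with abelian unipotent subgroups and `|A| > 3`: `A ≤ ⟨A, B⟩'`. -/
theorem le_commutator (hs : Cfsg.IsSpecialRankOnePair A B) (hab : Cfsg.HasAbelianUnipotents A B)
    (hcard : 3 < ENat.card ↥A) : A ≤ ⁅A ⊔ B, A ⊔ B⁆ := by
  have S : SpecAb A B :=
    { pair := hs.1
      special := fun a ha ha1 b hb hb1 h => hs.2 a ha ha1 b hb hb1 h
      commA := fun a ha a' ha' => by
        have := hab.1.is_comm.comm ⟨a, ha⟩ ⟨a', ha'⟩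
        exact congrArg Subtype.val this
      commB := fun b hb b' hb' => by
        have := hab.2.is_comm.comm ⟨b, hb⟩ ⟨b', hb'⟩
        exact congrArg Subtype.val this }
  have hI : HInv A B (A ⊓ ⁅A ⊔ B, A ⊔ B⁆) := by
    refine ⟨inf_le_left, fun c hc h hh hA _ => Subgroup.mem_inf.mpr ⟨?_, ?_⟩⟩
    · have h1 : h⁻¹ * c * h ∈ ra A h := conj_mem_ra hc
      rw [hA] at h1
      exact A.mul_mem (A.inv_mem hc) h1
    · have h1 : c⁻¹ * (h⁻¹ * c * h) = ⁅c⁻¹, h⁻¹⁆ := by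
        rw [commutatorElement_def]; group
      rw [h1]
      exact Subgroup.commutator_mem_commutator
        (Subgroup.inv_mem _ (Subgroup.mem_sup_left hc)) (Subgroup.inv_mem _ hh)
  exact le_trans (le_of_hinv S hI hcard) inf_le_right

end Cfsg.Agent.Lib.Helper8.RY
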