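import Mathlib
import Cfsg.Prelude.Def_RootSubgroups
import Cfsg.Agent.Lib.Helper8.RootSet
import Cfsg.Agent.Lib.Helper8.RY2

/-! Normal subgroups of a group generated by a class of abstract root subgroups (generic part). -/

set_option autoImplicit false
set_option linter.unusedSectionVars false
set_option linter.unusedSimpArgs false

namespace Cfsg.Agent.Lib.Helper8.Qr

open Cfsg Cfsg.Agent.Lib.Helper8

open scoped commutatorElement

variable {Γ : Type*} [Group Γ]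

theorem comm_of_comm_eq_bot {A B : Subgroup Γ} (h : ⁅A, B⁆ = ⊥) {a b : Γ} (ha : a ∈ A)
    (hb : b ∈ B) : a * b = b * a := by
  rw [Subgroup.commutator_eq_bot_iff_le_centralizer] at h
  have := h ha
  rw [Subgroup.mem_centralizer_iff] at this
  exact (this b hb).symm

theorem comm_eq_bot_of_comm {A B : Subgroup Γ} (h : ∀ a ∈ A, ∀ b ∈ B, a * b = b * a) :
    ⁅A, B⁆ = ⊥ := by
  rw [Subgroup.commutator_eq_bot_iff_le_centralizer]
  intro a ha
  rw [Subgroup.mem_centralizer_iff]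
  intro b hb
  exact (h a ha b hb).symm

/-- If `C` commutes with `A` and `m ∈ N ⊴ G` then `[A, m C m⁻¹] ≤ N`. -/
theorem comm_conjBy_le {N : Subgroup Γ} (hN : N.Normal) {A C : Subgroup Γ}
    (hAC : ∀ a ∈ A, ∀ c ∈ C, a * c = c * a) {m : Γ} (hm : m ∈ N) :
    ⁅A, conjBy C m⁆ ≤ N := by
  rw [Subgroup.commutator_le]
  intro a ha y hy
  rw [mem_conjBy] at hy
  obtain ⟨c, hc⟩ : ∃ c, c = m⁻¹ * y * m := ⟨_, rfl⟩
  rw [← hc] at hy
  have hcomm := hAC a ha c hy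
  have hn₁ : y * c⁻¹ ∈ N := by
    have h1 : y * c⁻¹ = m * (c * m⁻¹ * c⁻¹) := by rw [hc]; group
    rw [h1]
    exact N.mul_mem hm (hN.conj_mem m⁻¹ (N.inv_mem hm) c)
  have h3 : c⁻¹ * a⁻¹ * c = a⁻¹ := by
    have : a⁻¹ * c = c * a⁻¹ := by
      calc a⁻¹ * c = a⁻¹ * (c * a) * a⁻¹ := by group
        _ = a⁻¹ * (a * c) * a⁻¹ := by rw [hcomm]
        _ = c * a⁻¹ := by group
    rw [mul_assoc, this]; group
  have h4 : ⁅a, y⁆ = (a * (y * c⁻¹) * a⁻¹) * (y * c⁻¹)⁻¹ := by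
    rw [commutatorElement_def]
    calc a * y * a⁻¹ * y⁻¹ = a * y * (c⁻¹ * a⁻¹ * c) * y⁻¹ := by rw [h3]
      _ = (a * (y * c⁻¹) * a⁻¹) * (y * c⁻¹)⁻¹ := by group
  rw [h4]
  exact N.mul_mem (hN.conj_mem _ hn₁ a) (N.inv_mem hn₁)

theorem comm_sup_sup_eq_bot {P₁ P₂ Q₁ Q₂ : Subgroup Γ}
    (h11 : ∀ p ∈ P₁, ∀ q ∈ Q₁, p * q = q * p) (h12 : ∀ p ∈ P₁, ∀ q ∈ Q₂, p * q = q * p)
    (h21 : ∀ p ∈ P₂, ∀ q ∈ Q₁, p * q = q * p) (h22 : ∀ p ∈ P₂, ∀ q ∈ Q₂, p * q = q * p) :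
    ⁅P₁ ⊔ P₂, Q₁ ⊔ Q₂⁆ = ⊥ := by
  rw [Subgroup.commutator_eq_bot_iff_le_centralizer]
  have key : ∀ P : Subgroup Γ, (∀ p ∈ P, ∀ q ∈ Q₁, p * q = q * p) →
      (∀ p ∈ P, ∀ q ∈ Q₂, p * q = q * p) →
      P ≤ Subgroup.centralizer ((Q₁ ⊔ Q₂ : Subgroup Γ) : Set Γ) := by
    intro P hP1 hP2
    rw [Subgroup.le_centralizer_iff]
    apply sup_le
    · intro q hq
      rw [Subgroup.mem_centralizer_iff]
      intro p hp
      exact hP1 p hp q hq
    · intro q hq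
      rw [Subgroup.mem_centralizer_iff]
      intro p hp
      exact hP2 p hp q hq
  exact sup_le (key P₁ h11 h12) (key P₂ h21 h22)

/-- If `A`, `D` are abelian and `[A, D] ≤ N ⊴ G` then `⟨A, D⟩' ≤ N`. -/
theorem comm_sup_le {N : Subgroup Γ} [hN : N.Normal] {A D : Subgroup Γ}
    (hA : ∀ a ∈ A, ∀ a' ∈ A, a * a' = a' * a) (hD : ∀ d ∈ D, ∀ d' ∈ D, d * d' = d' * d)
    (h : ⁅A, D⁆ ≤ N) : ⁅A ⊔ D, A ⊔ D⁆ ≤ N := by
  have hker : (QuotientGroup.mk' N).ker = N := QuotientGroup.ker_mk' N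
  rw [← hker, ← Subgroup.map_eq_bot_iff, Subgroup.map_commutator, Subgroup.map_sup]
  have hAD : ∀ p ∈ A.map (QuotientGroup.mk' N), ∀ q ∈ D.map (QuotientGroup.mk' N),
      p * q = q * p := by
    rintro _ ⟨a, ha, rfl⟩ _ ⟨d, hd, rfl⟩
    have h1 : ⁅a, d⁆ ∈ N := h (Subgroup.commutator_mem_commutator ha hd)
    have h2 : (QuotientGroup.mk' N) ⁅a, d⁆ = 1 := by
      rw [← MonoidHom.mem_ker, hker]; exact h1
    rw [commutatorElement_def, map_mul, map_mul, map_mul, map_inv, map_inv] at h2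
    have h3 := mul_inv_eq_one.mp h2
    have h4 := mul_inv_eq_iff_eq_mul.mp h3
    exact h4
  apply comm_sup_sup_eq_bot
  · rintro _ ⟨a, ha, rfl⟩ _ ⟨a', ha', rfl⟩
    rw [← map_mul, ← map_mul, hA a ha a' ha']
  · exact hAD
  · intro q hq p hp
    exact (hAD p hp q hq).symm
  · rintro _ ⟨d, hd, rfl⟩ _ ⟨d', hd', rfl⟩
    rw [← map_mul, ← map_mul, hD d hd d' hd']

variable {S : Set (Subgroup Γ)}

/-- A normal subgroup containing a member of a class of root subgroups is everything. -/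
theorem normal_eq_top_of_mem_le (hS : IsRootSubgroupClass S) {N : Subgroup Γ}
    (hN : N.Normal) {A : Subgroup Γ} (hA : A ∈ S) (hAN : A ≤ N) : N = ⊤ := by
  rw [eq_top_iff, ← hS.1.generates]
  apply iSup₂_le
  intro C hC
  obtain ⟨g, rfl⟩ := hS.2.2 A hA C hC
  intro x hx
  rw [mem_conjBy] at hx
  have h2 := hN.conj_mem _ (hAN hx) g
  have h3 : g * (g⁻¹ * x * g) * g⁻¹ = x := by group
  rwa [h3] at h2

/-- For a proper normal subgroup `N`, every member commutes with its `N`-conjugates. -/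
theorem comm_conj_eq_bot (hS : IsRootSubgroupClass S)
    (hR : ∀ A ∈ S, ∀ D ∈ S, IsRankOnePair A D → ∀ N : Subgroup Γ, N.Normal →
      ⁅A, D⁆ ≤ N → N = ⊤)
    {N : Subgroup Γ} (hN : N.Normal) (hNtop : N ≠ ⊤) {A : Subgroup Γ} (hA : A ∈ S) {n : Γ}
    (hn : n ∈ N) : ⁅A, conjBy A n⁆ = ⊥ := by
  have hcommA : ∀ a ∈ A, ∀ a' ∈ A, a * a' = a' * a := fun a ha a' ha' =>
    mul_comm_of_mem_commutative (hS.1.commutative A hA) ha ha'
  have hle : ⁅A, conjBy A n⁆ ≤ N := comm_conjBy_le hN hcommA hn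
  rcases hS.1.pair A hA _ (hS.1.conj_mem A hA n) with h1 | h2 | h3
  · exact h1
  · exact absurd (hR A hA _ (hS.1.conj_mem A hA n) h2 N hN hle) hNtop
  · exact absurd (normal_eq_top_of_mem_le hS hN h3.1 hle) hNtop

/-- quasisimplicity from the two properties of normal subgroups -/
theorem quasisimple_of (_hS : IsRootSubgroupClass S)
    (hR : ∀ A ∈ S, ∀ D ∈ S, IsRankOnePair A D → ∀ N : Subgroup Γ, N.Normal →
      ⁅A, D⁆ ≤ N → N = ⊤)
    (hcent : ∀ N : Subgroup Γ, N.Normal → N ≠ ⊤ → N ≤ Subgroup.center Γ)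
    {A₁ D₁ : Subgroup Γ} (hA₁ : A₁ ∈ S) (hD₁ : D₁ ∈ S) (hAD₁ : IsRankOnePair A₁ D₁) :
    IsQuasisimple Γ := by
  have hperf : commutator Γ = ⊤ := by
    have hNn : (commutator Γ).Normal := inferInstance
    apply hR A₁ hA₁ D₁ hD₁ hAD₁ _ hNn
    rw [commutator_def]
    exact Subgroup.commutator_mono le_top le_top
  have hnorm : ∀ N : Subgroup Γ, N.Normal → ¬ N ≤ Subgroup.center Γ → N = ⊤ := by
    intro N hN hNZ
    by_contra hne
    exact hNZ (hcent N hN hne)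
  refine ⟨⟨hperf⟩, ?_⟩
  obtain ⟨x, hx⟩ : ∃ x : Γ, x ∉ Subgroup.center Γ := by
    obtain ⟨a, ha, ha1⟩ := rankOnePair_exists_left hAD₁
    obtain ⟨d, hd, hd1⟩ := rankOnePair_exists_right hAD₁
    refine ⟨a, fun hz => rankOnePair_not_commute hAD₁ ha ha1 hd hd1 ?_⟩
    rw [Subgroup.mem_center_iff] at hz
    exact (hz d).symm
  refine { exists_pair_ne := ⟨(x : Γ ⧸ Subgroup.center Γ), 1,
    fun h0 => hx ((QuotientGroup.eq_one_iff x).mp h0)⟩, eq_bot_or_eq_top_of_normal := ?_ }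
  intro H hH
  by_cases hle : H.comap (QuotientGroup.mk' (Subgroup.center Γ)) ≤ Subgroup.center Γ
  · left
    rw [eq_bot_iff]
    intro y hy
    obtain ⟨g, rfl⟩ := QuotientGroup.mk_surjective y
    have hg : g ∈ H.comap (QuotientGroup.mk' (Subgroup.center Γ)) := hy
    rw [Subgroup.mem_bot]
    exact (QuotientGroup.eq_one_iff g).mpr (hle hg)
  · right
    have htop := hnorm _ (hH.comap _) hle
    rw [eq_top_iff]
    intro y _
    obtain ⟨g, rfl⟩ := QuotientGroup.mk_surjective y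
    have hg : g ∈ H.comap (QuotientGroup.mk' (Subgroup.center Γ)) := by rw [htop]; trivial
    exact hg

end Cfsg.Agent.Lib.Helper8.Qr
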