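import Mathlib
import Cfsg.Agent.Lib.Helper8.Qr30

/-! Quadratic pairs: a proper normal subgroup of a component centralizes it (linear part). -/

set_option autoImplicit false
set_option linter.unusedSectionVars false
set_option linter.unusedSimpArgs false

namespace Cfsg.Agent.Lib.Helper8.Qr

open Cfsg Cfsg.Agent.Lib.Helper8.Qp

open scoped commutatorElement

universe u

section Generic

variable {Γ : Type*} [Group Γ]

/-- `N` normalizes `[A, N]` -/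
theorem conj_commutator_mem {A N : Subgroup Γ} {m : Γ} (hm : m ∈ N) {x : Γ}
    (hx : x ∈ ⁅A, N⁆) : m * x * m⁻¹ ∈ ⁅A, N⁆ := by
  have hle : ⁅A, N⁆ ≤ (⁅A, N⁆).comap (MulAut.conj m).toMonoidHom := by
    rw [Subgroup.commutator_le]
    intro a ha n hn
    rw [Subgroup.mem_comap]
    have e : (MulAut.conj m).toMonoidHom ⁅a, n⁆ = ⁅a, m⁆⁻¹ * ⁅a, m * n⁆ := by
      simp only [MulEquiv.coe_toMonoidHom, MulAut.conj_apply, commutatorElement_def]
      group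
    rw [e]
    exact Subgroup.mul_mem _
      (Subgroup.inv_mem _ (Subgroup.commutator_mem_commutator ha hm))
      (Subgroup.commutator_mem_commutator ha (N.mul_mem hm hn))
  have := hle hx
  rw [Subgroup.mem_comap] at this
  simpa [MulAut.conj_apply] using this

theorem commutator_le_right_of_le_normalizer {B N : Subgroup Γ}
    (h : B ≤ Subgroup.normalizer (N : Set Γ)) : ⁅B, N⁆ ≤ N := by
  rw [Subgroup.commutator_le]
  intro b hb n hn
  rw [commutatorElement_def]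
  have h1 := (Subgroup.mem_normalizer_iff.mp (h hb) n).mp hn
  exact N.mul_mem h1 (N.inv_mem hn)

theorem isUnipotentOn_mono {k : Type*} [Field k] {M : Type*} [AddCommGroup M] [Module k M]
    {A B : Subgroup (LinearMap.GeneralLinearGroup k M)} (hAB : A ≤ B) (hB : IsUnipotentOn B) :
    IsUnipotentOn A := by
  obtain ⟨n, hn⟩ := hB
  exact ⟨n, fun l hl hlen => hn l (fun g hg => hAB (hl g hg)) hlen⟩

end Generic

variable {k : Type u} [Field k] {M : Type u} [AddCommGroup M] [Module k M]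
variable {G : Subgroup (LinearMap.GeneralLinearGroup k M)}
variable [FiniteDimensional k M]

/-- the `N`-conjugates of a member `A` generate a unipotent group containing `[A, N]` -/
theorem isUnipotentOn_commutator (h2 : (2 : k) ≠ 0) (h3 : Nat.card k ≠ 3)
    {P : Set (Subgroup (LinearMap.GeneralLinearGroup k M))}
    (hPS : P ⊆ quadraticRootSubgroups G)
    {N : Subgroup (LinearMap.GeneralLinearGroup k M)}
    (hPconj : ∀ A ∈ P, ∀ n ∈ N, conjBy A n ∈ P)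
    (hQ : ∀ A ∈ P, ∀ n ∈ N, ⁅A, conjBy A n⁆ = ⊥)
    {A : Subgroup (LinearMap.GeneralLinearGroup k M)} (hA : A ∈ P) :
    IsUnipotentOn ⁅A, N⁆ := by
  obtain ⟨W, hW⟩ : ∃ W : Set (Subgroup (LinearMap.GeneralLinearGroup k M)),
      W = {X | ∃ n ∈ N, X = conjBy A n} := ⟨_, rfl⟩
  have hWP : ∀ X ∈ W, X ∈ P := by
    intro X hX
    rw [hW] at hX
    obtain ⟨n, hn, rfl⟩ := hX
    exact hPconj A hA n hn
  have hcomm : ∀ X ∈ W, ∀ Y ∈ W, ⁅X, Y⁆ = ⊥ := by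
    intro X hX Y hY
    have hXP := hWP X hX
    rw [hW] at hX hY
    obtain ⟨n, hn, rfl⟩ := hX
    obtain ⟨m, hm, rfl⟩ := hY
    have e : conjBy A m = conjBy (conjBy A n) (m * n⁻¹) := by
      rw [conjBy_conjBy, mul_assoc, inv_mul_cancel, mul_one]
    rw [e]
    exact hQ _ hXP _ (N.mul_mem hm (N.inv_mem hn))
  have hunip : ∀ X ∈ W, IsUnipotentOn X := by
    intro X hX
    obtain ⟨σ, hσ, rfl⟩ := hPS (hWP X hX)
    exact isUnipotentOn_sameActionSubgroup h2 h3 hσ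
  have hcent : ∀ X ∈ W, ∀ g ∈ (⨆ Y ∈ W, Y), ∀ x ∈ X, g * x = x * g := by
    intro X hX g hg x hx
    have hle : (⨆ Y ∈ W, Y) ≤ Subgroup.centralizer (X : Set (LinearMap.GeneralLinearGroup k M)) := by
      apply iSup₂_le
      intro Y hY
      rw [← Subgroup.commutator_eq_bot_iff_le_centralizer]
      exact hcomm Y hY X hX
    have := hle hg
    rw [Subgroup.mem_centralizer_iff] at this
    exact (this x hx).symm
  have hWG : ∀ X ∈ W, X ≤ ⨆ Y ∈ W, Y := fun X hX => le_iSup₂_of_le X hX le_rfl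
  have hWW : ∀ X ∈ W, ∀ Y ∈ W, IsUnipotentOn (X ⊔ Y) := by
    intro X hX Y hY
    apply isUnipotentOn_sup_of_normalizes (hunip X hX) (hunip Y hY)
    intro y hy x hx
    have h1 := hcent X hX y (hWG Y hY hy) x hx
    have e : y⁻¹ * x * y = x := by
      rw [mul_assoc, ← h1]; group
    rw [e]
    exact hx
  have hWconj : ∀ X ∈ W, ∀ g ∈ (⨆ Y ∈ W, Y), conjBy X g ∈ W := by
    intro X hX g hg
    rw [conjBy_eq_of_comm (hcent X hX g hg)]
    exact hX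
  obtain ⟨hU, -⟩ := Cfsg.Agent.S5061.result hWG hWW hWconj
  apply isUnipotentOn_mono _ hU
  rw [Subgroup.commutator_le]
  intro a ha n hn
  rw [commutatorElement_def]
  have h1 : a ∈ ⨆ Y ∈ W, Y := by
    apply hWG A _ ha
    rw [hW]
    exact ⟨1, N.one_mem, (conjBy_one A).symm⟩
  have h2' : n * a⁻¹ * n⁻¹ ∈ ⨆ Y ∈ W, Y := by
    apply hWG (conjBy A n) _ (Cfsg.Agent.Lib.Helper8.conj_mem_conjBy (A.inv_mem ha))
    rw [hW]
    exact ⟨n, hn, rfl⟩
  have e : a * n * a⁻¹ * n⁻¹ = a * (n * a⁻¹ * n⁻¹) := by group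
  rw [e]
  exact Subgroup.mul_mem _ h1 h2'

/-- `[H, N]` is unipotent and normalized by `H` -/
theorem isUnipotentOn_iSup_commutator (h2 : (2 : k) ≠ 0) (h3 : Nat.card k ≠ 3)
    {P : Set (Subgroup (LinearMap.GeneralLinearGroup k M))}
    (hPS : P ⊆ quadraticRootSubgroups G)
    (hPconj : ∀ A ∈ P, ∀ h ∈ (⨆ B ∈ P, B), conjBy A h ∈ P)
    {N : Subgroup (LinearMap.GeneralLinearGroup k M)} (hNH : N ≤ ⨆ B ∈ P, B)
    (hNnorm : (⨆ B ∈ P, B) ≤ Subgroup.normalizer (N : Set (LinearMap.GeneralLinearGroup k M)))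
    (hQ : ∀ A ∈ P, ∀ n ∈ N, ⁅A, conjBy A n⁆ = ⊥) :
    IsUnipotentOn (⨆ X ∈ {T | ∃ A ∈ P, T = ⁅A, N⁆}, X) ∧
      ∀ h ∈ (⨆ B ∈ P, B), conjBy (⨆ X ∈ {T | ∃ A ∈ P, T = ⁅A, N⁆}, X) h =
        ⨆ X ∈ {T | ∃ A ∈ P, T = ⁅A, N⁆}, X := by
  have hPle : ∀ A ∈ P, A ≤ ⨆ B ∈ P, B := fun A hA => le_iSup₂_of_le A hA le_rfl
  have hWG : ∀ X ∈ {T | ∃ A ∈ P, T = ⁅A, N⁆}, X ≤ ⨆ B ∈ P, B := by
    rintro X ⟨A, hA, rfl⟩
    exact commutator_le_of_le (hPle A hA) hNH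
  have hunip : ∀ A ∈ P, IsUnipotentOn ⁅A, N⁆ := fun A hA =>
    isUnipotentOn_commutator h2 h3 hPS (fun A hA n hn => hPconj A hA n (hNH hn)) hQ hA
  have hleN : ∀ A ∈ P, ⁅A, N⁆ ≤ N := fun A hA =>
    commutator_le_right_of_le_normalizer (le_trans (hPle A hA) hNnorm)
  have hWW : ∀ X ∈ {T | ∃ A ∈ P, T = ⁅A, N⁆}, ∀ Y ∈ {T | ∃ A ∈ P, T = ⁅A, N⁆},
      IsUnipotentOn (X ⊔ Y) := by
    rintro X ⟨A, hA, rfl⟩ Y ⟨B, hB, rfl⟩
    apply isUnipotentOn_sup_of_normalizes (hunip A hA) (hunip B hB)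
    intro y hy x hx
    have hyN : y⁻¹ ∈ N := N.inv_mem (hleN B hB hy)
    have := conj_commutator_mem hyN hx
    rwa [inv_inv] at this
  have hWconj : ∀ X ∈ {T | ∃ A ∈ P, T = ⁅A, N⁆}, ∀ h ∈ (⨆ B ∈ P, B),
      conjBy X h ∈ {T | ∃ A ∈ P, T = ⁅A, N⁆} := by
    rintro X ⟨A, hA, rfl⟩ h hh
    refine ⟨conjBy A h, hPconj A hA h hh, ?_⟩
    have hN' : conjBy N h = N := Cfsg.Agent.Lib.Helper8.conjBy_eq_self_iff.mpr (hNnorm hh)
    unfold conjBy at hN' ⊢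
    rw [Subgroup.map_commutator, hN']
  exact Cfsg.Agent.S5061.result hWG hWW hWconj

/-- a unipotent subgroup of `G₀` normalized by `G₀` is trivial -/
theorem eq_bot_of_unipotent_normal (hG : IsQuadraticPair G)
    {T : Subgroup (LinearMap.GeneralLinearGroup k M)} (hU : IsUnipotentOn T)
    (hT : T ≤ ⨆ B ∈ quadraticRootSubgroups G, B)
    (hTn : (⨆ B ∈ quadraticRootSubgroups G, B) ≤
      Subgroup.normalizer (T : Set (LinearMap.GeneralLinearGroup k M))) : T = ⊥ := by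
  have hG0conj : ∀ g ∈ G, conjBy (⨆ B ∈ quadraticRootSubgroups G, B) g ≤
      ⨆ B ∈ quadraticRootSubgroups G, B := by
    intro g hg
    rw [Cfsg.Agent.Lib.Helper8.conjBy_iSup₂]
    apply iSup₂_le
    intro B hB
    exact le_iSup₂_of_le _ (mem_Sigma_conj hg hB) le_rfl
  have hG0mem : ∀ g ∈ G, ∀ z ∈ (⨆ B ∈ quadraticRootSubgroups G, B),
      g * z * g⁻¹ ∈ ⨆ B ∈ quadraticRootSubgroups G, B := by
    intro g hg z hz
    exact hG0conj g hg (Cfsg.Agent.Lib.Helper8.conj_mem_conjBy hz)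
  obtain ⟨W, hW⟩ : ∃ W : Set (Subgroup (LinearMap.GeneralLinearGroup k M)),
      W = {X | ∃ g ∈ G, X = conjBy T g} := ⟨_, rfl⟩
  have hTG : T ≤ G := le_trans hT G0_le
  have hWG : ∀ X ∈ W, X ≤ G := by
    intro X hX
    rw [hW] at hX
    obtain ⟨g, hg, rfl⟩ := hX
    intro x hx
    rw [Cfsg.Agent.Lib.Helper8.mem_conjBy] at hx
    have h1 := G.mul_mem (G.mul_mem hg (hTG hx)) (G.inv_mem hg)
    have e : g * (g⁻¹ * x * g) * g⁻¹ = x := by group
    rwa [e] at h1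
  have hWconj : ∀ X ∈ W, ∀ g ∈ G, conjBy X g ∈ W := by
    intro X hX g hg
    rw [hW] at hX ⊢
    obtain ⟨g', hg', rfl⟩ := hX
    exact ⟨g * g', G.mul_mem hg hg', conjBy_conjBy T g' g⟩
  have hWG0 : ∀ X ∈ W, X ≤ ⨆ B ∈ quadraticRootSubgroups G, B := by
    intro X hX
    rw [hW] at hX
    obtain ⟨g, hg, rfl⟩ := hX
    exact le_trans (Cfsg.Agent.Lib.Helper8.conjBy_mono hT g) (hG0conj g hg)
  have hWn : ∀ X ∈ W, ∀ z ∈ (⨆ B ∈ quadraticRootSubgroups G, B), conjBy X z = X := by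
    intro X hX z hz
    rw [hW] at hX
    obtain ⟨g, hg, rfl⟩ := hX
    have h1 : g⁻¹ * z * g⁻¹⁻¹ ∈ ⨆ B ∈ quadraticRootSubgroups G, B :=
      hG0mem g⁻¹ (G.inv_mem hg) z hz
    have h2' : conjBy T (g⁻¹ * z * g⁻¹⁻¹) = T :=
      Cfsg.Agent.Lib.Helper8.conjBy_eq_self_iff.mpr (hTn h1)
    calc conjBy (conjBy T g) z = conjBy T (z * g) := conjBy_conjBy T g z
      _ = conjBy T (g * (g⁻¹ * z * g⁻¹⁻¹)) := by congr 1; group
      _ = conjBy (conjBy T (g⁻¹ * z * g⁻¹⁻¹)) g := (conjBy_conjBy T _ g).symm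
      _ = conjBy T g := by rw [h2']
  have hWU : ∀ X ∈ W, IsUnipotentOn X := by
    intro X hX
    rw [hW] at hX
    obtain ⟨g, hg, rfl⟩ := hX
    exact isUnipotentOn_conjBy hU g
  have hWW : ∀ X ∈ W, ∀ Y ∈ W, IsUnipotentOn (X ⊔ Y) := by
    intro X hX Y hY
    apply isUnipotentOn_sup_of_normalizes (hWU X hX) (hWU Y hY)
    intro y hy x hx
    have h1 := hWn X hX y (hWG0 Y hY hy)
    rw [← h1] at hx
    rw [Cfsg.Agent.Lib.Helper8.mem_conjBy] at hx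
    exact hx
  have hbot := family_trivial hG hWG hWW hWconj
  rw [eq_bot_iff, ← hbot]
  have hTW : T ∈ W := by
    rw [hW]
    exact ⟨1, G.one_mem, (conjBy_one T).symm⟩
  exact le_iSup₂_of_le T hTW le_rfl

/-- the main centralization statement -/
theorem normal_centralizes (hG : IsQuadraticPair G) (h2 : (2 : k) ≠ 0) (h3 : Nat.card k ≠ 3)
    {P : Set (Subgroup (LinearMap.GeneralLinearGroup k M))}
    (hPS : P ⊆ quadraticRootSubgroups G)
    (hPconj : ∀ A ∈ P, ∀ h ∈ (⨆ B ∈ P, B), conjBy A h ∈ P)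
    (hPcomm : ∀ A ∈ quadraticRootSubgroups G, A ∉ P → ∀ B ∈ P, ⁅A, B⁆ = ⊥)
    {N : Subgroup (LinearMap.GeneralLinearGroup k M)} (hNH : N ≤ ⨆ B ∈ P, B)
    (hNnorm : (⨆ B ∈ P, B) ≤ Subgroup.normalizer (N : Set (LinearMap.GeneralLinearGroup k M)))
    (hQ : ∀ A ∈ P, ∀ n ∈ N, ⁅A, conjBy A n⁆ = ⊥) :
    ∀ A ∈ P, ⁅A, N⁆ = ⊥ := by
  obtain ⟨hU, hTH⟩ := isUnipotentOn_iSup_commutator h2 h3 hPS hPconj hNH hNnorm hQ
  have hPle : ∀ A ∈ P, A ≤ ⨆ B ∈ P, B := fun A hA => le_iSup₂_of_le A hA le_rfl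
  have hTle : (⨆ X ∈ {T | ∃ A ∈ P, T = ⁅A, N⁆}, X) ≤ ⨆ B ∈ P, B := by
    apply iSup₂_le
    rintro X ⟨A, hA, rfl⟩
    exact commutator_le_of_le (hPle A hA) hNH
  have hHG0 : (⨆ B ∈ P, B) ≤ ⨆ B ∈ quadraticRootSubgroups G, B := by
    apply iSup₂_le
    intro B hB
    exact le_iSup₂_of_le B (hPS hB) le_rfl
  have hTn : (⨆ B ∈ quadraticRootSubgroups G, B) ≤ Subgroup.normalizer
      ((⨆ X ∈ {T | ∃ A ∈ P, T = ⁅A, N⁆}, X : Subgroup (LinearMap.GeneralLinearGroup k M)) :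
        Set (LinearMap.GeneralLinearGroup k M)) := by
    apply iSup₂_le
    intro B hB
    by_cases hBP : B ∈ P
    · intro b hb
      exact Cfsg.Agent.Lib.Helper8.conjBy_eq_self_iff.mp (hTH b (hPle B hBP hb))
    · intro b hb
      apply Cfsg.Agent.Lib.Helper8.conjBy_eq_self_iff.mp
      apply conjBy_eq_of_comm
      intro t ht
      have hle : (⨆ C ∈ P, C) ≤
          Subgroup.centralizer (B : Set (LinearMap.GeneralLinearGroup k M)) := by
        apply iSup₂_le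
        intro C hC
        rw [← Subgroup.commutator_eq_bot_iff_le_centralizer, Subgroup.commutator_comm]
        exact hPcomm B hB hBP C hC
      have := hle (hTle ht)
      rw [Subgroup.mem_centralizer_iff] at this
      exact this b hb
  have hbot := eq_bot_of_unipotent_normal hG hU (le_trans hTle hHG0) hTn
  intro A hA
  rw [eq_bot_iff, ← hbot]
  exact le_iSup₂_of_le ⁅A, N⁆ ⟨A, hA, rfl⟩ le_rfl

end Cfsg.Agent.Lib.Helper8.Qr
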