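import Mathlib
import Cfsg.Agent.Lib.Helper8.Qr32
import Cfsg.Agent.Lib.Helper8.Qr31

/-! Components of `Σ(G)`: each is a class of abstract root subgroups of the subgroup it generates. -/

set_option autoImplicit false
set_option linter.unusedSectionVars false
set_option linter.unusedSimpArgs false

namespace Cfsg.Agent.Lib.Helper8.Qr

open Cfsg Cfsg.Agent.Lib.Helper8.Qp

universe u

section Generic

variable {Γ : Type*} [Group Γ]

theorem rankOneCondition_of_subgroupOf {H A B : Subgroup Γ} (hA : A ≤ H) (hB : B ≤ H)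
    (h : RankOneCondition (A.subgroupOf H) (B.subgroupOf H)) : RankOneCondition A B := by
  intro a ha hne
  have ha' : (⟨a, hA ha⟩ : H) ∈ A.subgroupOf H := ha
  have hne' : (⟨a, hA ha⟩ : H) ≠ 1 := fun h' => hne (congrArg Subtype.val h')
  obtain ⟨b, hb, hb1, e⟩ := h ⟨a, hA ha⟩ ha' hne'
  refine ⟨b.1, hb, fun h' => hb1 (Subtype.ext h'), ?_⟩
  rw [conjBy_subgroupOf, conjBy_subgroupOf] at e
  have e1 : ((b⁻¹ : H) : Γ) = b.1⁻¹ := rfl
  have e2 : (((⟨a, hA ha⟩ : H)⁻¹ : H) : Γ) = a⁻¹ := rfl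
  rw [e1, e2] at e
  have h1 : conjBy A b.1⁻¹ ≤ H := Cfsg.Agent.Lib.Helper8.conjBy_le_of_le hA (H.inv_mem b.2)
  have h2 : conjBy B a⁻¹ ≤ H := Cfsg.Agent.Lib.Helper8.conjBy_le_of_le hB (H.inv_mem (hA ha))
  have := congrArg (Subgroup.map H.subtype) e
  rwa [Subgroup.map_subgroupOf_eq_of_le h1, Subgroup.map_subgroupOf_eq_of_le h2] at this

theorem eq_bot_of_subgroupOf_eq_bot {H X : Subgroup Γ} (hX : X ≤ H)
    (h : X.subgroupOf H = ⊥) : X = ⊥ := by
  have := congrArg (Subgroup.map H.subtype) h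
  rwa [Subgroup.map_subgroupOf_eq_of_le hX, Subgroup.map_bot] at this

end Generic

variable {k : Type u} [Field k] {M : Type u} [AddCommGroup M] [Module k M]
variable {G : Subgroup (LinearMap.GeneralLinearGroup k M)}
variable [FiniteDimensional k M]

/-- a connected component of the graph of rank one pairs on `Σ(G)` -/
structure IsComp (G : Subgroup (LinearMap.GeneralLinearGroup k M))
    (P : Set (Subgroup (LinearMap.GeneralLinearGroup k M))) : Prop where
  sub : P ⊆ quadraticRootSubgroups G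
  nonempty : P.Nonempty
  reach : ∀ A ∈ P, ∀ B ∈ P, Reach G A B
  closed : ∀ A ∈ P, ∀ B, Reach G A B → B ∈ P

theorem isComp_componentOf {A₀ : Subgroup (LinearMap.GeneralLinearGroup k M)}
    (hA₀ : A₀ ∈ quadraticRootSubgroups G) :
    IsComp G (componentOf (FAdj (quadraticRootSubgroups G)) (quadraticRootSubgroups G) A₀) where
  sub := fun _ hB => hB.1
  nonempty := ⟨A₀, hA₀, Relation.ReflTransGen.refl⟩
  reach := fun _ hA _ hB => (Reach.symm hA.2).trans hB.2
  closed := fun _ hA _ hAB => ⟨Reach.mem hAB hA.1, Reach.trans hA.2 hAB⟩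

namespace IsComp

variable {P : Set (Subgroup (LinearMap.GeneralLinearGroup k M))}

theorem le_iSup (_hP : IsComp G P) {A : Subgroup (LinearMap.GeneralLinearGroup k M)}
    (hA : A ∈ P) : A ≤ ⨆ B ∈ P, B := le_iSup₂_of_le A hA le_rfl

theorem iSup_le_G0 (hP : IsComp G P) : (⨆ B ∈ P, B) ≤ ⨆ B ∈ quadraticRootSubgroups G, B := by
  apply iSup₂_le
  intro B hB
  exact le_iSup₂_of_le B (hP.sub hB) le_rfl

theorem conj_mem (hP : IsComp G P) (hG : IsQuadraticPair G) (h2 : (2 : k) ≠ 0)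
    (h3 : Nat.card k ≠ 3) : ∀ A ∈ P, ∀ h ∈ (⨆ B ∈ P, B), conjBy A h ∈ P := by
  intro A hA h hh
  exact hP.closed A hA _ (reach_conj_G0 hG h2 h3 (hP.sub hA) (hP.iSup_le_G0 hh))

theorem comm_eq_bot (hP : IsComp G P) (hG : IsQuadraticPair G) (h2 : (2 : k) ≠ 0)
    (h3 : Nat.card k ≠ 3) :
    ∀ A ∈ quadraticRootSubgroups G, A ∉ P → ∀ B ∈ P, ⁅A, B⁆ = ⊥ := by
  intro A hA hAP B hB
  apply comm_eq_bot_of_not_reach hG h2 h3 hA (hP.sub hB)
  intro hr
  exact hAP (hP.closed B hB A hr.symm)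

/-- members of a component are conjugate in the subgroup it generates -/
theorem exists_conj (hP : IsComp G P) {A B : Subgroup (LinearMap.GeneralLinearGroup k M)}
    (hA : A ∈ P) (hAB : Reach G A B) : ∃ g ∈ (⨆ C ∈ P, C), B = conjBy A g := by
  induction hAB with
  | refl => exact ⟨1, Subgroup.one_mem _, (conjBy_one A).symm⟩
  | @tail C D h1 h2 ih =>
    obtain ⟨g, hg, rfl⟩ := ih
    have hC : conjBy A g ∈ P := hP.closed A hA _ h1
    have hD : D ∈ P := hP.closed A hA _ (Relation.ReflTransGen.tail h1 h2)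
    obtain ⟨x, hx, hDx⟩ := rankOnePair_right_mem_unipotentSubgroups h2.2.2
    refine ⟨x * g, Subgroup.mul_mem _ (sup_le (hP.le_iSup hC) (hP.le_iSup hD) hx) hg, ?_⟩
    rw [hDx, conjBy_conjBy]

theorem exists_partner (hP : IsComp G P) (hG : IsQuadraticPair G) (h2 : (2 : k) ≠ 0)
    (h3 : Nat.card k ≠ 3) {A : Subgroup (LinearMap.GeneralLinearGroup k M)} (hA : A ∈ P) :
    ∃ B ∈ P, IsRankOnePair A B := by
  obtain ⟨σ, hσ, rfl⟩ := hP.sub hA
  obtain ⟨B, hB, hr⟩ := exists_rankOne_partner hG h2 h3 hσ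
  exact ⟨B, hP.closed _ hA B (Relation.ReflTransGen.single ⟨⟨σ, hσ, rfl⟩, hB, hr⟩), hr⟩

/-- a component is a class of abstract root subgroups of the subgroup it generates -/
theorem isRootSubgroupClass (hP : IsComp G P) (hG : IsQuadraticPair G) (h2 : (2 : k) ≠ 0)
    (h3 : Nat.card k ≠ 3) :
    IsRootSubgroupClass ((fun A : Subgroup (LinearMap.GeneralLinearGroup k M) =>
      A.subgroupOf (⨆ B ∈ P, B)) '' P) := by
  refine ⟨⟨?_, ?_, ?_, ?_, ?_⟩, ?_, ?_⟩
  · rintro _ ⟨A, hA, rfl⟩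
    obtain ⟨σ, hσ, rfl⟩ := hP.sub hA
    beta_reduce
    refine ⟨⟨fun a b => ?_⟩⟩
    apply Subtype.ext
    apply Subtype.ext
    exact sameActionSubgroup_comm hσ a.1.1 a.2 b.1.1 b.2
  · rintro _ ⟨A, hA, rfl⟩ hbot
    obtain ⟨σ, hσ, rfl⟩ := hP.sub hA
    beta_reduce at hbot
    have hσE := self_mem_sameActionSubgroup hσ
    have hmem : (⟨σ, hP.le_iSup hA hσE⟩ : ↥(⨆ B ∈ P, B)) ∈
        (sameActionSubgroup G σ).subgroupOf (⨆ B ∈ P, B) := hσE
    rw [hbot, Subgroup.mem_bot] at hmem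
    exact ne_one_of_mem_class (self_mem_sameActionClass hσ) (congrArg Subtype.val hmem)
  · exact iSup_subgroupOf_eq_top _
  · rintro _ ⟨A, hA, rfl⟩ g
    beta_reduce
    rw [conjBy_subgroupOf]
    exact ⟨_, hP.conj_mem hG h2 h3 A hA g.1 g.2, rfl⟩
  · rintro _ ⟨A, hA, rfl⟩ _ ⟨B, hB, rfl⟩
    have hAle := hP.le_iSup hA
    have hBle := hP.le_iSup hB
    obtain ⟨σ, hσ, rfl⟩ := hP.sub hA
    obtain ⟨τ, hτ, rfl⟩ := hP.sub hB
    beta_reduce
    by_cases hopp : Opp σ τ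
    · right; left
      exact isRankOnePair_subgroupOf hAle hBle (isRankOnePair_of_opp h2 h3 hσ hτ hopp)
    · by_cases hc : ⁅sameActionSubgroup G σ, sameActionSubgroup G τ⁆ = ⊥
      · left
        rw [commutator_subgroupOf hAle hBle, hc, Subgroup.bot_subgroupOf]
      · right; right
        have hne := ne_of_comm_ne_bot h2 h3 hσ hτ hopp hc
        obtain ⟨-, r2, r3, -, r5, -⟩ := class2_main hG h2 h3 hσ hτ hopp hne
        apply rootCommutatorCase_subgroupOf hAle hBle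
        refine ⟨hP.closed _ hA _ (reach_comm hG h2 h3 hσ hτ hopp hc), ?_, r2, r3⟩
        intro c hc' x hx
        exact central_of_class2 r5 c (Subgroup.commutator_mono le_sup_left le_sup_right hc') x hx
  · obtain ⟨A, hA⟩ := hP.nonempty
    exact ⟨_, A, hA, rfl⟩
  · rintro _ ⟨A, hA, rfl⟩ _ ⟨B, hB, rfl⟩
    obtain ⟨g, hg, rfl⟩ := hP.exists_conj hA (hP.reach A hA B hB)
    refine ⟨⟨g, hg⟩, ?_⟩
    beta_reduce
    rw [conjBy_subgroupOf]

end IsComp

end Cfsg.Agent.Lib.Helper8.Qr
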