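import Mathlib
import Cfsg.Agent.Lib.Helper8.Qr33

/-! Components of `Σ(G)`: quasisimplicity of the subgroup generated by a component. -/

set_option autoImplicit false
set_option linter.unusedSectionVars false
set_option linter.unusedSimpArgs false

namespace Cfsg.Agent.Lib.Helper8.Qr

open Cfsg Cfsg.Agent.Lib.Helper8.Qp

universe u

variable {k : Type u} [Field k] {M : Type u} [AddCommGroup M] [Module k M]
variable {G : Subgroup (LinearMap.GeneralLinearGroup k M)}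
variable [FiniteDimensional k M]

theorem three_lt_card_sameActionSubgroup (h2 : (2 : k) ≠ 0) (h3 : Nat.card k ≠ 3)
    {σ : LinearMap.GeneralLinearGroup k M} (hσ : σ ∈ minimalQuadraticElements G) :
    3 < ENat.card ↥(sameActionSubgroup G σ) := by
  have hss := hσ.1.2.1.1
  have hmem : ∀ c : k, sc (σ.1 - 1) hss c ∈ sameActionSubgroup G σ := by
    intro c
    by_cases hc : c = 0
    · have : sc (σ.1 - 1) hss c = 1 := by
        apply Units.ext
        rw [sc_val, hc, zero_smul, add_zero, Units.val_one]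
      rw [this]
      exact Subgroup.one_mem _
    · exact sameActionClass_le (sc_mem_sameActionClass hσ (self_mem_sameActionClass hσ) hc)
  have hinj : Function.Injective
      (fun c : k => (⟨sc (σ.1 - 1) hss c, hmem c⟩ : ↥(sameActionSubgroup G σ))) := by
    intro c c' h
    have h1 := congrArg (fun x : ↥(sameActionSubgroup G σ) => (x.1.1 : M →ₗ[k] M)) h
    simp only [sc_val] at h1
    have h4 : (c - c') • (σ.1 - 1 : M →ₗ[k] M) = 0 := by
      rw [sub_smul]
      exact sub_eq_zero.mpr (add_left_cancel h1)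
    rcases smul_eq_zero.mp h4 with h5 | h5
    · exact sub_eq_zero.mp h5
    · exact absurd h5 hσ.1.2.1.2
  exact lt_of_lt_of_le (three_lt_card h2 h3) (ENat.card_le_card_of_injective hinj)

namespace IsComp

variable {P : Set (Subgroup (LinearMap.GeneralLinearGroup k M))}

/-- a normal subgroup containing the commutator of a rank one pair is everything -/
theorem normal_eq_top_of_rankOne (hP : IsComp G P) (hG : IsQuadraticPair G) (h2 : (2 : k) ≠ 0)
    (h3 : Nat.card k ≠ 3) :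
    ∀ A' ∈ ((fun A : Subgroup (LinearMap.GeneralLinearGroup k M) =>
        A.subgroupOf (⨆ B ∈ P, B)) '' P),
      ∀ D' ∈ ((fun A : Subgroup (LinearMap.GeneralLinearGroup k M) =>
        A.subgroupOf (⨆ B ∈ P, B)) '' P),
      IsRankOnePair A' D' → ∀ N : Subgroup ↥(⨆ B ∈ P, B), N.Normal → ⁅A', D'⁆ ≤ N → N = ⊤ := by
  rintro _ ⟨A, hA, rfl⟩ _ ⟨D, hD, rfl⟩ hp N hN hle
  have hclass := hP.isRootSubgroupClass hG h2 h3
  have hAle := hP.le_iSup hA
  have hDle := hP.le_iSup hD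
  obtain ⟨σ, hσ, rfl⟩ := hP.sub hA
  obtain ⟨τ, hτ, rfl⟩ := hP.sub hD
  beta_reduce at hp hle
  have hne : sameActionSubgroup G σ ≠ sameActionSubgroup G τ := by
    intro e
    apply hp.ne
    rw [e]
  have hc := rankOneCondition_of_subgroupOf hAle hDle hp.cond_left
  have hopp := opp_of_rankOneCondition hG h2 h3 hσ hτ hne hc
  have hsp := isSpecial_of_opp h2 h3 hσ hτ hopp
  have hab : HasAbelianUnipotents (sameActionSubgroup G σ) (sameActionSubgroup G τ) :=
    ⟨⟨⟨fun a b => Subtype.ext (sameActionSubgroup_comm hσ a.1 a.2 b.1 b.2)⟩⟩,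
      ⟨⟨fun a b => Subtype.ext (sameActionSubgroup_comm hτ a.1 a.2 b.1 b.2)⟩⟩⟩
  have h5 := Cfsg.Agent.Lib.Helper8.RY.le_commutator hsp hab
    (three_lt_card_sameActionSubgroup h2 h3 hσ)
  have h5' : (sameActionSubgroup G σ).subgroupOf (⨆ B ∈ P, B) ≤
      ⁅(sameActionSubgroup G σ).subgroupOf (⨆ B ∈ P, B) ⊔
          (sameActionSubgroup G τ).subgroupOf (⨆ B ∈ P, B),
        (sameActionSubgroup G σ).subgroupOf (⨆ B ∈ P, B) ⊔
          (sameActionSubgroup G τ).subgroupOf (⨆ B ∈ P, B)⁆ := by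
    rw [← Subgroup.subgroupOf_sup hAle hDle,
      commutator_subgroupOf (sup_le hAle hDle) (sup_le hAle hDle)]
    exact Subgroup.subgroupOf_mono _ h5
  have h6 : ⁅(sameActionSubgroup G σ).subgroupOf (⨆ B ∈ P, B) ⊔
          (sameActionSubgroup G τ).subgroupOf (⨆ B ∈ P, B),
        (sameActionSubgroup G σ).subgroupOf (⨆ B ∈ P, B) ⊔
          (sameActionSubgroup G τ).subgroupOf (⨆ B ∈ P, B)⁆ ≤ N := by
    have := hN
    apply comm_sup_le _ _ hle
    · intro a ha a' ha'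
      apply Subtype.ext
      exact sameActionSubgroup_comm hσ a.1 ha a'.1 ha'
    · intro d hd d' hd'
      apply Subtype.ext
      exact sameActionSubgroup_comm hτ d.1 hd d'.1 hd'
  exact normal_eq_top_of_mem_le hclass hN ⟨_, hA, rfl⟩ (le_trans h5' h6)

/-- a proper normal subgroup is central -/
theorem normal_le_center (hP : IsComp G P) (hG : IsQuadraticPair G) (h2 : (2 : k) ≠ 0)
    (h3 : Nat.card k ≠ 3) :
    ∀ N : Subgroup ↥(⨆ B ∈ P, B), N.Normal → N ≠ ⊤ → N ≤ Subgroup.center ↥(⨆ B ∈ P, B) := by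
  intro N hN hNtop
  have hclass := hP.isRootSubgroupClass hG h2 h3
  have hR := hP.normal_eq_top_of_rankOne hG h2 h3
  have hconj := hP.conj_mem hG h2 h3
  have hNH : N.map (⨆ B ∈ P, B).subtype ≤ ⨆ B ∈ P, B := Subgroup.map_subtype_le N
  have hconjN : ∀ h ∈ (⨆ B ∈ P, B), ∀ n ∈ N.map (⨆ B ∈ P, B).subtype,
      h * n * h⁻¹ ∈ N.map (⨆ B ∈ P, B).subtype := by
    rintro h hh _ ⟨n, hn, rfl⟩
    exact ⟨⟨h, hh⟩ * n * ⟨h, hh⟩⁻¹, hN.conj_mem n hn ⟨h, hh⟩, rfl⟩
  have hNnorm : (⨆ B ∈ P, B) ≤ Subgroup.normalizer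
      ((N.map (⨆ B ∈ P, B).subtype : Subgroup (LinearMap.GeneralLinearGroup k M)) :
        Set (LinearMap.GeneralLinearGroup k M)) := by
    intro h hh
    rw [Subgroup.mem_normalizer_iff]
    intro n
    constructor
    · exact hconjN h hh n
    · intro hn
      have := hconjN h⁻¹ (Subgroup.inv_mem _ hh) _ hn
      have e : h⁻¹ * (h * n * h⁻¹) * h⁻¹⁻¹ = n := by group
      rwa [e] at this
  have hQ : ∀ A ∈ P, ∀ n ∈ N.map (⨆ B ∈ P, B).subtype, ⁅A, conjBy A n⁆ = ⊥ := by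
    rintro A hA _ ⟨n, hn, rfl⟩
    have h1 := comm_conj_eq_bot hclass hR hN hNtop (A := A.subgroupOf (⨆ B ∈ P, B))
      ⟨A, hA, rfl⟩ hn
    rw [conjBy_subgroupOf] at h1
    have hA' : conjBy A n.1 ∈ P := hconj A hA n.1 n.2
    rw [commutator_subgroupOf (hP.le_iSup hA) (hP.le_iSup hA')] at h1
    exact eq_bot_of_subgroupOf_eq_bot
      (commutator_le_of_le (hP.le_iSup hA) (hP.le_iSup hA')) h1
  have hcen := normal_centralizes hG h2 h3 hP.sub hconj (hP.comm_eq_bot hG h2 h3) hNH hNnorm hQ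
  have hle : (⨆ B ∈ P, B) ≤ Subgroup.centralizer
      ((N.map (⨆ B ∈ P, B).subtype : Subgroup (LinearMap.GeneralLinearGroup k M)) :
        Set (LinearMap.GeneralLinearGroup k M)) := by
    apply iSup₂_le
    intro A hA
    rw [← Subgroup.commutator_eq_bot_iff_le_centralizer]
    exact hcen A hA
  intro n hn
  rw [Subgroup.mem_center_iff]
  intro g
  apply Subtype.ext
  have := hle g.2
  rw [Subgroup.mem_centralizer_iff] at this
  exact (this n.1 ⟨n, hn, rfl⟩).symm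

theorem isQuasisimple (hP : IsComp G P) (hG : IsQuadraticPair G) (h2 : (2 : k) ≠ 0)
    (h3 : Nat.card k ≠ 3) : IsQuasisimple ↥(⨆ B ∈ P, B) := by
  obtain ⟨A, hA⟩ := hP.nonempty
  obtain ⟨D, hD, hr⟩ := hP.exists_partner hG h2 h3 hA
  exact quasisimple_of (hP.isRootSubgroupClass hG h2 h3) (hP.normal_eq_top_of_rankOne hG h2 h3)
    (hP.normal_le_center hG h2 h3) ⟨A, hA, rfl⟩ ⟨D, hD, rfl⟩
    (isRankOnePair_subgroupOf (hP.le_iSup hA) (hP.le_iSup hD) hr)

theorem psl2 (hP : IsComp G P) (hG : IsQuadraticPair G) (h2 : (2 : k) ≠ 0)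
    (h3 : Nat.card k ≠ 3) :
    ∀ A ∈ P, ∀ B ∈ rankOnePartners P A,
      ∃ A₀ B₀ : Subgroup (LinearMap.GeneralLinearGroup k M), A₀ ≤ A ∧ B₀ ≤ B ∧
        ∃ (k₁ : Type u) (_ : Field k₁), 3 < ENat.card k₁ ∧ IsPSL2PairOver k₁ A₀ B₀ := by
  intro A hA B hB
  obtain ⟨σ, hσ, rfl⟩ := hP.sub hA
  obtain ⟨τ, hτ, rfl⟩ := hP.sub hB.1
  have hr := hB.2
  have hopp := opp_of_rankOneCondition hG h2 h3 hσ hτ hr.ne hr.cond_left
  obtain ⟨A₀, B₀, hA₀, hB₀, hp⟩ := psl2_of_opp h2 h3 hσ hτ hopp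
  exact ⟨A₀, B₀, hA₀, hB₀, k, inferInstance, three_lt_card h2 h3, hp⟩

theorem eq_of_mem (hP : IsComp G P) {P' : Set (Subgroup (LinearMap.GeneralLinearGroup k M))}
    (hP' : IsComp G P') {A : Subgroup (LinearMap.GeneralLinearGroup k M)} (hA : A ∈ P)
    (hA' : A ∈ P') : P = P' := by
  ext B
  constructor
  · intro hB
    exact hP'.closed A hA' B (hP.reach A hA B hB)
  · intro hB
    exact hP.closed A hA B (hP'.reach A hA' B hB)

theorem comm_iSup_eq_bot (hP : IsComp G P)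
    {P' : Set (Subgroup (LinearMap.GeneralLinearGroup k M))} (hP' : IsComp G P')
    (hne : P ≠ P') (hG : IsQuadraticPair G) (h2 : (2 : k) ≠ 0) (h3 : Nat.card k ≠ 3) :
    ⁅(⨆ A ∈ P, A), (⨆ A ∈ P', A)⁆ = ⊥ := by
  rw [Subgroup.commutator_eq_bot_iff_le_centralizer]
  apply iSup₂_le
  intro A hA
  rw [Subgroup.le_centralizer_iff]
  apply iSup₂_le
  intro B hB
  rw [← Subgroup.commutator_eq_bot_iff_le_centralizer, Subgroup.commutator_comm]
  apply hP'.comm_eq_bot hG h2 h3 A (hP.sub hA) _ B hB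
  intro hA'
  exact hne (hP.eq_of_mem hP' hA hA')

/-- an opposite pair inside a component -/
theorem exists_opp_pair (hP : IsComp G P) (hG : IsQuadraticPair G) (h2 : (2 : k) ≠ 0)
    (h3 : Nat.card k ≠ 3) :
    ∃ σ τ : LinearMap.GeneralLinearGroup k M, σ ∈ minimalQuadraticElements G ∧
      τ ∈ minimalQuadraticElements G ∧ sameActionSubgroup G σ ∈ P ∧
      sameActionSubgroup G τ ∈ P ∧ Opp σ τ := by
  obtain ⟨A, hA⟩ := hP.nonempty
  obtain ⟨D, hD, hr⟩ := hP.exists_partner hG h2 h3 hA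
  obtain ⟨σ, hσ, rfl⟩ := hP.sub hA
  obtain ⟨τ, hτ, rfl⟩ := hP.sub hD
  exact ⟨σ, τ, hσ, hτ, hA, hD, opp_of_rankOneCondition hG h2 h3 hσ hτ hr.ne hr.cond_left⟩

end IsComp

/-- there are finitely many components -/
theorem finite_comps (hG : IsQuadraticPair G) (h2 : (2 : k) ≠ 0) (h3 : Nat.card k ≠ 3) :
    Finite {P : Set (Subgroup (LinearMap.GeneralLinearGroup k M)) // IsComp G P} := by
  choose σ τ hσ hτ hσP hτP hopp using
    fun P : {P : Set (Subgroup (LinearMap.GeneralLinearGroup k M)) // IsComp G P} =>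
      P.2.exists_opp_pair hG h2 h3
  apply finite_of_commuting_opp σ τ hτ hopp
  intro i j hij
  have hne : i.1 ≠ j.1 := fun h => hij (Subtype.ext h)
  have hbot : ⁅sameActionSubgroup G (τ i), sameActionSubgroup G (σ j)⁆ = ⊥ := by
    apply j.2.comm_eq_bot hG h2 h3 _ (i.2.sub (hτP i)) _ _ (hσP j)
    intro h
    exact hne (i.2.eq_of_mem j.2 (hτP i) h)
  apply commute_iff_sub_one.mp
  exact comm_of_comm_eq_bot hbot (self_mem_sameActionSubgroup (hτ i))
    (self_mem_sameActionSubgroup (hσ j))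

end Cfsg.Agent.Lib.Helper8.Qr
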