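import Mathlib
import Cfsg.Agent.Lib.Helper8.Qp10

/-! Two square-zero endomorphisms: splitting off the part on the Fitting one component, and the
scalar family as commutators when the null component is centralized. -/

set_option autoImplicit false
set_option linter.unusedSectionVars false
set_option linter.unusedSimpArgs false

namespace Cfsg.Agent.Lib.Helper8.Qr

open Cfsg.Agent.Lib.Helper8.Qp Polynomial Matrix Cfsg.Agent.Lib.Helper8.Sr

universe u

variable {k : Type u} [Field k] {M : Type u} [AddCommGroup M] [Module k M]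

theorem zz_comm (s t : Module.End k M) : zz t s = zz s t := by
  unfold zz
  rw [add_comm]

/-- the data of a quadratic element inside a subgroup `H` -/
def QQ (H : Subgroup (Module.End k M)ˣ) (x : (Module.End k M)ˣ) : Prop :=
  x ∈ H ∧ (x.1 - 1) * (x.1 - 1) = 0 ∧ x.1 - 1 ≠ 0 ∧ ∀ c : k, ∃ x' ∈ H, x'.1 = 1 + c • (x.1 - 1)

variable [FiniteDimensional k M] {s t : Module.End k M} (hs : s * s = 0) (ht : t * t = 0) (n : ℕ)
variable (hn : 1 ≤ n) (hc : IsCompl (M0 (zz s t) n) (M1 (zz s t) n))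
variable (h2 : (2 : k) ≠ 0) (h3 : Nat.card k ≠ 3)

include hn hc h2 h3 in
theorem exists_neg_pure (c : k) : ∃ h ∈ HH hs ht, IsPure n (c • (-(s1 hs t n))) h := by
  obtain ⟨h, hH, h0, h1⟩ := pure_x hs ht n hn hc h2 h3 (c • (-1))
  refine ⟨h, hH, h0, ?_⟩
  intro v
  have e : theta (Z1 hs ht n) (c • (-1)) * s1 hs t n = c • (-(s1 hs t n)) := by
    rw [map_smul, map_neg, map_one]
    apply LinearMap.ext
    intro w
    simp
  rw [h1 v, e]

include hs in
/-- the action of `sc s c * h_c` for the pure element `h_c` with parameter `-c s` -/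
theorem act_split (c : k) {h : (Module.End k M)ˣ} (hp : IsPure n (c • (-(s1 hs t n))) h) :
    (∀ m ∈ M0 (zz s t) n, (sc s hs c * h).1 m = m + c • s m) ∧
      (∀ m ∈ M1 (zz s t) n, (sc s hs c * h).1 m = m) := by
  have hss : ∀ m, s (s m) = 0 := fun m => by
    have := congrArg (fun f : Module.End k M => f m) hs
    simpa using this
  constructor
  · intro m hm
    rw [Units.val_mul, Module.End.mul_apply, hp.fix0 m hm, sc_val]
    simp
  · intro m hm
    have h1 := hp.act1 ⟨m, hm⟩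
    have e : (((c • (-(s1 hs t n))) ⟨m, hm⟩ : M1 (zz s t) n) : M) = -(c • s m) := by
      simp
    rw [e] at h1
    simp only at h1
    rw [Units.val_mul, Module.End.mul_apply, h1, sc_val]
    simp only [LinearMap.add_apply, Module.End.one_apply, LinearMap.smul_apply, map_add, map_neg,
      map_smul, hss, smul_zero, neg_zero, add_zero]
    abel

include hn hc h2 h3 in
/-- splitting `1 + s` into a part living on the null component and a pure part -/
theorem exists_split (hV : M1 (zz s t) n ≠ ⊥) (h0 : ∃ m ∈ M0 (zz s t) n, s m ≠ 0) :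
    ∃ a h : (Module.End k M)ˣ, QQ (HH hs ht) a ∧ QQ (HH hs ht) h ∧ sc s hs 1 = a * h⁻¹ ∧
      Module.finrank k (LinearMap.range (a.1 - 1)) < Module.finrank k (LinearMap.range s) ∧
      Module.finrank k (LinearMap.range (h.1 - 1)) < Module.finrank k (LinearMap.range s) := by
  have hss : ∀ m, s (s m) = 0 := fun m => by
    have := congrArg (fun f : Module.End k M => f m) hs
    simpa using this
  have hdisj : ∀ m, m ∈ M0 (zz s t) n → m ∈ M1 (zz s t) n → m = 0 := by
    have := hc.disjoint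
    rw [Submodule.disjoint_def] at this
    exact this
  obtain ⟨h, hH, hp1⟩ := exists_neg_pure hs ht n hn hc h2 h3 1
  have hp : IsPure n (-(s1 hs t n)) h := by
    rw [one_smul] at hp1
    exact hp1
  obtain ⟨ha0, ha1⟩ := act_split hs n 1 hp1
  have hsc1 : sc s hs 1 ∈ HH hs ht := Subgroup.subset_closure (Or.inl ⟨1, rfl⟩)
  have hu : -(s1 hs t n) ≠ 0 := neg_ne_zero.mpr (s1_ne_zero hs ht n hn hc hV)
  have huu : (-(s1 hs t n)) * (-(s1 hs t n)) = 0 := by
    have := neg_mul_neg (s1 hs t n) (s1 hs t n)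
    rw [s1_s1] at this
    exact this
  -- the action of `a - 1`
  have hb0 : ∀ m ∈ M0 (zz s t) n, ((sc s hs 1 * h).1 - 1) m = s m := by
    intro m hm
    rw [LinearMap.sub_apply, Module.End.one_apply, ha0 m hm, one_smul, add_sub_cancel_left]
  have hb1 : ∀ m ∈ M1 (zz s t) n, ((sc s hs 1 * h).1 - 1) m = 0 := by
    intro m hm
    rw [LinearMap.sub_apply, Module.End.one_apply, ha1 m hm, sub_self]
  have hrange_a : ∀ m, ∃ m₀ ∈ M0 (zz s t) n, ((sc s hs 1 * h).1 - 1) m = s m₀ := by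
    intro m
    obtain ⟨m₀, hm₀, m₁, hm₁, rfl⟩ := exists_decomp n hc m
    refine ⟨m₀, hm₀, ?_⟩
    rw [map_add, hb0 m₀ hm₀, hb1 m₁ hm₁, add_zero]
  refine ⟨sc s hs 1 * h, h, ⟨(HH hs ht).mul_mem hsc1 hH, ?_, ?_, ?_⟩,
    ⟨hH, hp.sq_zero hc huu, hp.ne_one hu, ?_⟩, (mul_inv_cancel_right _ _).symm, ?_, ?_⟩
  · -- square zero
    apply ext_of_components n hc
    · intro m hm
      rw [Module.End.mul_apply, hb0 m hm, hb0 _ (map_M0 (zz_s hs) n hm), hss, LinearMap.zero_apply]
    · intro m hm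
      rw [Module.End.mul_apply, hb1 m hm, map_zero, LinearMap.zero_apply]
  · -- nonzero
    obtain ⟨m, hm, hsm⟩ := h0
    intro h0'
    apply hsm
    rw [← hb0 m hm, h0', LinearMap.zero_apply]
  · -- scalar family
    intro c
    obtain ⟨h', hH', hp'⟩ := exists_neg_pure hs ht n hn hc h2 h3 c
    obtain ⟨hc0, hc1⟩ := act_split hs n c hp'
    refine ⟨sc s hs c * h', (HH hs ht).mul_mem (Subgroup.subset_closure (Or.inl ⟨c, rfl⟩)) hH', ?_⟩
    apply ext_of_components n hc
    · intro m hm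
      rw [hc0 m hm, LinearMap.add_apply, Module.End.one_apply, LinearMap.smul_apply, hb0 m hm]
    · intro m hm
      rw [hc1 m hm, LinearMap.add_apply, Module.End.one_apply, LinearMap.smul_apply, hb1 m hm,
        smul_zero, add_zero]
  · -- scalar family of `h`
    intro c
    obtain ⟨h', hH', hp'⟩ := exists_neg_pure hs ht n hn hc h2 h3 c
    exact ⟨h', hH', hp.smul_eq hc c hp'⟩
  · -- rank of `a`
    have hle : LinearMap.range ((sc s hs 1 * h).1 - 1) ≤ LinearMap.range s := by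
      rintro _ ⟨m, rfl⟩
      obtain ⟨m₀, -, e⟩ := hrange_a m
      exact ⟨m₀, e.symm⟩
    have hle0 : LinearMap.range ((sc s hs 1 * h).1 - 1) ≤ M0 (zz s t) n := by
      rintro _ ⟨m, rfl⟩
      obtain ⟨m₀, hm₀, e⟩ := hrange_a m
      rw [e]
      exact map_M0 (zz_s hs) n hm₀
    by_contra hlt
    rw [not_lt] at hlt
    have heq := Submodule.eq_of_le_of_finrank_le hle hlt
    apply s1_ne_zero hs ht n hn hc hV
    apply LinearMap.ext
    intro v
    apply Subtype.ext
    rw [s1_apply, LinearMap.zero_apply, ZeroMemClass.coe_zero]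
    apply hdisj
    · apply hle0
      rw [heq]
      exact ⟨_, rfl⟩
    · exact map_M1 (zz_s hs) n v.2
  · -- rank of `h`
    have hr := hp.range_eq hc
    have hle : LinearMap.range (h.1 - 1) ≤ LinearMap.range s := by
      rw [hr]
      rintro _ ⟨_, ⟨v, rfl⟩, rfl⟩
      refine ⟨-(v : M), ?_⟩
      simp
    have hle1 : LinearMap.range (h.1 - 1) ≤ M1 (zz s t) n := by
      rw [hr]
      rintro _ ⟨w, -, rfl⟩
      exact w.2
    by_contra hlt
    rw [not_lt] at hlt
    have heq := Submodule.eq_of_le_of_finrank_le hle hlt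
    obtain ⟨m, hm, hsm⟩ := h0
    apply hsm
    apply hdisj
    · exact map_M0 (zz_s hs) n hm
    · apply hle1
      rw [heq]
      exact ⟨_, rfl⟩

include hn hc in
/-- the second projection is injective on the graph subgroup when the null component is fixed -/
theorem PP_snd_inj' (hfix : HH hs ht ≤ fixSub (M0 (zz s t) n))
    {p : (Module.End k M)ˣ × SpecialLinearGroup (Fin 2) (R1 hs ht n)}
    (hp : p ∈ PP hs ht n) (h1 : p.2 = 1) : p.1 = 1 := by
  have hS' : p ∈ S1 hs ht n hn hc := ((PP_le hs ht n hn hc) hp).1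
  have hS := (mem_S1 hs ht n hn hc).mp hS'
  have hfix' := hfix (fst_mem_HH hs ht n hp)
  apply Units.ext
  apply ext_of_components n hc
  · intro m hm
    rw [hfix' m hm]
    rfl
  · intro m hm
    have := hS ⟨m, hm⟩
    rw [h1, map_one] at this
    exact this

theorem HH_le_fixSub' (hs0 : ∀ m ∈ M0 (zz s t) n, s m = 0) (ht0 : ∀ m ∈ M0 (zz s t) n, t m = 0) :
    HH hs ht ≤ fixSub (M0 (zz s t) n) := by
  unfold HH
  rw [Subgroup.closure_le]
  rintro g (⟨c, rfl⟩ | ⟨c, rfl⟩)
  · intro m hm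
    rw [sc_val, LinearMap.add_apply, Module.End.one_apply, LinearMap.smul_apply,
      hs0 m hm, smul_zero, add_zero]
  · intro m hm
    rw [sc_val, LinearMap.add_apply, Module.End.one_apply, LinearMap.smul_apply,
      ht0 m hm, smul_zero, add_zero]

include hn hc h2 h3 in
/-- if both endomorphisms vanish on the null component, `1 + s` is a commutator -/
theorem sc_one_eq_commutator (hs0 : ∀ m ∈ M0 (zz s t) n, s m = 0)
    (ht0 : ∀ m ∈ M0 (zz s t) n, t m = 0) :
    ∃ x ∈ HH hs ht, ∃ y ∈ HH hs ht, sc s hs 1 = x * y * x⁻¹ * y⁻¹ := by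
  have hfix := HH_le_fixSub' hs ht n hs0 ht0
  obtain ⟨lam, hl0, hl1⟩ := exists_ne_zero_sq_ne_one h2 h3
  have hl2 : lam ^ 2 - 1 ≠ 0 := sub_ne_zero.mpr hl1
  have huv : algebraMap k (R1 hs ht n) lam * algebraMap k (R1 hs ht n) lam⁻¹ = 1 := by
    rw [← map_mul, mul_inv_cancel₀ hl0, map_one]
  obtain ⟨hd, hhd⟩ := exists_lift hs ht n (dR_mem_Gam hs ht n hn hc h2 h3 _ _ huv)
  obtain ⟨hx, hhx⟩ := exists_lift hs ht n (all_mem_Gam hs ht n hn hc h2 h3
    (algebraMap k (R1 hs ht n) (lam ^ 2 - 1)⁻¹ * 1)).1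
  have hq : (sc s hs 1, xR (1 : R1 hs ht n)) ∈ PP hs ht n := by
    have : (sc s hs 1, xR (algebraMap k (R1 hs ht n) 1)) ∈ PP hs ht n :=
      Subgroup.subset_closure (Or.inl ⟨1, rfl⟩)
    rwa [map_one] at this
  have hmem := (PP hs ht n).mul_mem ((PP hs ht n).mul_mem ((PP hs ht n).mul_mem
    ((PP hs ht n).mul_mem hhd hhx) ((PP hs ht n).inv_mem hhd)) ((PP hs ht n).inv_mem hhx))
    ((PP hs ht n).inv_mem hq)
  have e : dR _ _ huv * xR (algebraMap k (R1 hs ht n) (lam ^ 2 - 1)⁻¹ * 1) * (dR _ _ huv)⁻¹ *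
      (xR (algebraMap k (R1 hs ht n) (lam ^ 2 - 1)⁻¹ * 1))⁻¹ = xR (1 : R1 hs ht n) := by
    rw [dR_mul_xR, mul_inv_cancel_right, xR_inv, ← xR_add]
    congr 1
    have h4 : algebraMap k (R1 hs ht n) (lam ^ 2 - 1) * algebraMap k (R1 hs ht n) (lam ^ 2 - 1)⁻¹ = 1 := by
      rw [← map_mul, mul_inv_cancel₀ hl2, map_one]
    rw [map_sub, map_pow, map_one] at h4
    linear_combination (1 : R1 hs ht n) * h4
  have h1 := PP_snd_inj' hs ht n hn hc hfix hmem (by
    show dR _ _ huv * xR _ * (dR _ _ huv)⁻¹ * (xR _)⁻¹ * (xR _)⁻¹ = 1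
    rw [e, mul_inv_cancel])
  refine ⟨hd, fst_mem_HH hs ht n hhd, hx, fst_mem_HH hs ht n hhx, ?_⟩
  have h1' : hd * hx * hd⁻¹ * hx⁻¹ * (sc s hs 1)⁻¹ = 1 := h1
  exact (mul_inv_eq_one.mp h1').symm

end Cfsg.Agent.Lib.Helper8.Qr
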