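import Mathlib
import Cfsg.Agent.Lib.Helper8.Qr32
import Cfsg.Agent.Lib.Helper8.Qr35

/-! Quadratic pairs: the scalar family of a quadratic element as a subgroup, and the group it
generates with a conjugate. -/

set_option autoImplicit false
set_option linter.unusedSectionVars false
set_option linter.unusedSimpArgs false

namespace Cfsg.Agent.Lib.Helper8.Qr

open Cfsg Cfsg.Agent.Lib.Helper8.Qp

open scoped commutatorElement

universe u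

section Generic

variable {Γ : Type*} [Group Γ]

/-- commutators of `N ⊔ R` lie in `N` when `R` is commutative and normalizes `N` -/
theorem comm_mem_of_sup {N R : Subgroup Γ} (hLE : R ≤ Subgroup.normalizer (N : Set Γ))
    (hcomm : ∀ r ∈ R, ∀ r' ∈ R, r * r' = r' * r) {x y : Γ} (hx : x ∈ N ⊔ R) (hy : y ∈ N ⊔ R) :
    x * y * x⁻¹ * y⁻¹ ∈ N := by
  have hcoe := Subgroup.coe_mul_of_right_le_normalizer_left N R hLE
  have hx' : x ∈ ((N ⊔ R : Subgroup Γ) : Set Γ) := hx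
  have hy' : y ∈ ((N ⊔ R : Subgroup Γ) : Set Γ) := hy
  rw [hcoe] at hx' hy'
  obtain ⟨n₁, hn₁, r₁, hr₁, rfl⟩ := hx'
  obtain ⟨n₂, hn₂, r₂, hr₂, rfl⟩ := hy'
  have hc := hcomm r₁ hr₁ r₂ hr₂
  have e : n₁ * r₁ * (n₂ * r₂) * (n₁ * r₁)⁻¹ * (n₂ * r₂)⁻¹ =
      n₁ * (r₁ * n₂ * r₁⁻¹) * (r₁ * r₂ * r₁⁻¹ * r₂⁻¹) * (r₂ * n₁⁻¹ * r₂⁻¹) * n₂⁻¹ := by group
  have e2 : r₁ * r₂ * r₁⁻¹ * r₂⁻¹ = 1 := by rw [hc]; group
  rw [e, e2, mul_one]
  have h1 : r₁ * n₂ * r₁⁻¹ ∈ N := (Subgroup.mem_normalizer_iff.mp (hLE hr₁) n₂).mp hn₂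
  have h2 : r₂ * n₁⁻¹ * r₂⁻¹ ∈ N :=
    (Subgroup.mem_normalizer_iff.mp (hLE hr₂) n₁⁻¹).mp (N.inv_mem hn₁)
  exact N.mul_mem (N.mul_mem (N.mul_mem hn₁ h1) h2) (N.inv_mem hn₂)

/-- conjugates of `R` by elements of `N ⊔ R` are conjugates by elements of `N` -/
theorem conjBy_sup_eq {N R : Subgroup Γ} (hLE : R ≤ Subgroup.normalizer (N : Set Γ))
    {x : Γ} (hx : x ∈ N ⊔ R) : ∃ n ∈ N, conjBy R x = conjBy R n := by
  have hcoe := Subgroup.coe_mul_of_right_le_normalizer_left N R hLE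
  have hx' : x ∈ ((N ⊔ R : Subgroup Γ) : Set Γ) := hx
  rw [hcoe] at hx'
  obtain ⟨n, hn, r, hr, rfl⟩ := hx'
  refine ⟨n, hn, ?_⟩
  rw [← Cfsg.Agent.Lib.Helper8.conjBy_conjBy, Cfsg.Agent.Lib.Helper8.conjBy_eq_self_of_mem hr]

end Generic

variable {k : Type u} [Field k] {M : Type u} [AddCommGroup M] [Module k M]
variable {G : Subgroup (LinearMap.GeneralLinearGroup k M)}

/-- the scalar family as a subgroup -/
def scSub (s : M →ₗ[k] M) (hs : s * s = 0) : Subgroup (LinearMap.GeneralLinearGroup k M) where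
  carrier := Set.range (sc s hs)
  one_mem' := ⟨0, by
    apply Units.ext
    rw [sc_val, zero_smul, add_zero]
    rfl⟩
  mul_mem' := by
    rintro _ _ ⟨c, rfl⟩ ⟨c', rfl⟩
    exact ⟨c + c', (sc_mul_sc s hs c c').symm⟩
  inv_mem' := by
    rintro _ ⟨c, rfl⟩
    exact ⟨-c, (sc_inv s hs c).symm⟩

theorem mem_scSub {s : M →ₗ[k] M} {hs : s * s = 0} {x : LinearMap.GeneralLinearGroup k M} :
    x ∈ scSub s hs ↔ ∃ c : k, sc s hs c = x := Iff.rfl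

theorem sc_mem_scSub (s : M →ₗ[k] M) (hs : s * s = 0) (c : k) : sc s hs c ∈ scSub s hs := ⟨c, rfl⟩

theorem scSub_comm {s : M →ₗ[k] M} {hs : s * s = 0} :
    ∀ r ∈ scSub s hs, ∀ r' ∈ scSub s hs, r * r' = r' * r := by
  rintro _ ⟨c, rfl⟩ _ ⟨c', rfl⟩
  rw [sc_mul_sc, sc_mul_sc, add_comm]

theorem conj_sc (g : LinearMap.GeneralLinearGroup k M) {s t : M →ₗ[k] M} (hs : s * s = 0)
    (ht : t * t = 0) (htg : t = g.1 * s * (g⁻¹).1) (c : k) : g * sc s hs c * g⁻¹ = sc t ht c := by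
  apply Units.ext
  rw [Units.val_mul, Units.val_mul, sc_val, sc_val, htg]
  calc g.1 * (1 + c • s) * (g⁻¹).1
      = g.1 * (g⁻¹).1 + c • (g.1 * s * (g⁻¹).1) := by
        simp only [mul_add, add_mul, mul_one, mul_smul_comm, smul_mul_assoc, mul_assoc]
    _ = 1 + c • (g.1 * s * (g⁻¹).1) := by rw [units_val_mul_inv]

theorem scSub_le_G {ρ : LinearMap.GeneralLinearGroup k M} (hρ : ρ ∈ quadraticElements G) :
    scSub (ρ.1 - 1) hρ.2.1.1 ≤ G := by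
  rintro _ ⟨c, rfl⟩
  exact sc_mem_G hρ c

theorem self_mem_scSub {ρ : LinearMap.GeneralLinearGroup k M} (hs : (ρ.1 - 1) * (ρ.1 - 1) = 0) :
    ρ ∈ scSub (ρ.1 - 1) hs := ⟨1, sc_one_eq ρ hs⟩

section HHsec

variable {s t : M →ₗ[k] M} (hs : s * s = 0) (ht : t * t = 0)

theorem scSub_le_HH : scSub s hs ≤ HH hs ht := by
  rintro _ ⟨c, rfl⟩
  exact Subgroup.subset_closure (Or.inl ⟨c, rfl⟩)

theorem conjBy_scSub_le_HH {g : LinearMap.GeneralLinearGroup k M} (htg : t = g.1 * s * (g⁻¹).1) :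
    conjBy (scSub s hs) g ≤ HH hs ht := by
  intro x hx
  rw [Cfsg.Agent.Lib.Helper8.mem_conjBy] at hx
  obtain ⟨c, hc⟩ := hx
  have e : x = g * sc s hs c * g⁻¹ := by
    rw [hc]; group
  rw [e, conj_sc g hs ht htg c]
  exact Subgroup.subset_closure (Or.inr ⟨c, rfl⟩)

theorem HH_le_sup {N : Subgroup (LinearMap.GeneralLinearGroup k M)}
    {g : LinearMap.GeneralLinearGroup k M} (hg : g ∈ N) (htg : t = g.1 * s * (g⁻¹).1) :
    HH hs ht ≤ N ⊔ scSub s hs := by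
  unfold HH
  rw [Subgroup.closure_le]
  rintro x (⟨c, rfl⟩ | ⟨c, rfl⟩)
  · exact (le_sup_right : scSub s hs ≤ N ⊔ scSub s hs) (sc_mem_scSub s hs c)
  · rw [← conj_sc g hs ht htg c]
    have h1 : g ∈ N ⊔ scSub s hs := (le_sup_left : N ≤ N ⊔ scSub s hs) hg
    have h2 : sc s hs c ∈ N ⊔ scSub s hs :=
      (le_sup_right : scSub s hs ≤ N ⊔ scSub s hs) (sc_mem_scSub s hs c)
    exact Subgroup.mul_mem _ (Subgroup.mul_mem _ h1 h2) (Subgroup.inv_mem _ h1)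

end HHsec

variable [FiniteDimensional k M]

theorem G0_conj_mem {g : LinearMap.GeneralLinearGroup k M} (hg : g ∈ G)
    {z : LinearMap.GeneralLinearGroup k M} (hz : z ∈ ⨆ B ∈ quadraticRootSubgroups G, B) :
    g * z * g⁻¹ ∈ ⨆ B ∈ quadraticRootSubgroups G, B := by
  have hG0conj : conjBy (⨆ B ∈ quadraticRootSubgroups G, B) g ≤
      ⨆ B ∈ quadraticRootSubgroups G, B := by
    rw [Cfsg.Agent.Lib.Helper8.conjBy_iSup₂]
    apply iSup₂_le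
    intro B hB
    exact le_iSup₂_of_le _ (mem_Sigma_conj hg hB) le_rfl
  exact hG0conj (Cfsg.Agent.Lib.Helper8.conj_mem_conjBy hz)

theorem G_le_normalizer_G0 :
    G ≤ Subgroup.normalizer ((⨆ B ∈ quadraticRootSubgroups G, B :
      Subgroup (LinearMap.GeneralLinearGroup k M)) : Set (LinearMap.GeneralLinearGroup k M)) := by
  intro g hg
  rw [Subgroup.mem_normalizer_iff]
  intro z
  constructor
  · exact G0_conj_mem hg
  · intro h
    have := G0_conj_mem (G.inv_mem hg) h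
    have e : g⁻¹ * (g * z * g⁻¹) * g⁻¹⁻¹ = z := by group
    rwa [e] at this

/-- if both `ρ - 1` and its conjugate vanish on the null component, `ρ ∈ G₀` -/
theorem mem_G0_of_vanish (h2 : (2 : k) ≠ 0) (h3 : Nat.card k ≠ 3)
    {ρ g : LinearMap.GeneralLinearGroup k M} (hρ : ρ ∈ quadraticElements G)
    (hg : g ∈ ⨆ B ∈ quadraticRootSubgroups G, B) (n : ℕ) (hn : 1 ≤ n)
    (hc : IsCompl (M0 (zz (ρ.1 - 1) ((g * ρ * g⁻¹).1 - 1)) n)
      (M1 (zz (ρ.1 - 1) ((g * ρ * g⁻¹).1 - 1)) n))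
    (hs0 : ∀ m ∈ M0 (zz (ρ.1 - 1) ((g * ρ * g⁻¹).1 - 1)) n, (ρ.1 - 1) m = 0)
    (ht0 : ∀ m ∈ M0 (zz (ρ.1 - 1) ((g * ρ * g⁻¹).1 - 1)) n, ((g * ρ * g⁻¹).1 - 1) m = 0) :
    ρ ∈ ⨆ B ∈ quadraticRootSubgroups G, B := by
  have hb := conj_mem_Q (G0_le hg) hρ
  have hs := hρ.2.1.1
  have ht := hb.2.1.1
  have htg : (g * ρ * g⁻¹).1 - 1 = g.1 * (ρ.1 - 1) * (g⁻¹).1 := conj_sub_one g ρ
  obtain ⟨x, hx, y, hy, e⟩ := sc_one_eq_commutator hs ht n hn hc h2 h3 hs0 ht0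
  have hLE : scSub (ρ.1 - 1) hs ≤ Subgroup.normalizer ((⨆ B ∈ quadraticRootSubgroups G, B :
      Subgroup (LinearMap.GeneralLinearGroup k M)) : Set (LinearMap.GeneralLinearGroup k M)) :=
    le_trans (scSub_le_G hρ) G_le_normalizer_G0
  have key := comm_mem_of_sup hLE scSub_comm (HH_le_sup hs ht hg htg hx) (HH_le_sup hs ht hg htg hy)
  rw [← e, sc_one_eq ρ hs] at key
  exact key

/-- if `ρ` splits into two quadratic elements of smaller rank, induction applies -/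
theorem mem_of_split (h2 : (2 : k) ≠ 0) (h3 : Nat.card k ≠ 3)
    {X : Subgroup (LinearMap.GeneralLinearGroup k M)}
    {ρ b : LinearMap.GeneralLinearGroup k M} (hρ : ρ ∈ quadraticElements G)
    (hb : b ∈ quadraticElements G) (n : ℕ) (hn : 1 ≤ n)
    (hc : IsCompl (M0 (zz (ρ.1 - 1) (b.1 - 1)) n) (M1 (zz (ρ.1 - 1) (b.1 - 1)) n))
    (hV : M1 (zz (ρ.1 - 1) (b.1 - 1)) n ≠ ⊥)
    (h0 : ∃ m ∈ M0 (zz (ρ.1 - 1) (b.1 - 1)) n, (ρ.1 - 1) m ≠ 0)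
    (IH : ∀ x ∈ quadraticElements G, commutatorRank x < commutatorRank ρ → x ∈ X) : ρ ∈ X := by
  have hs := hρ.2.1.1
  have ht := hb.2.1.1
  obtain ⟨a, h, ha, hh, e, hra, hrh⟩ := exists_split hs ht n hn hc h2 h3 hV h0
  have hle := HH_le_G hρ hb
  have haQ : a ∈ quadraticElements G := by
    apply mem_Q_of (hle ha.1) ha.2.1 ha.2.2.1
    intro c
    obtain ⟨x', hx', e'⟩ := ha.2.2.2 c
    exact ⟨x', hle hx', e'⟩
  have hhQ : h ∈ quadraticElements G := by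
    apply mem_Q_of (hle hh.1) hh.2.1 hh.2.2.1
    intro c
    obtain ⟨x', hx', e'⟩ := hh.2.2.2 c
    exact ⟨x', hle hx', e'⟩
  rw [← sc_one_eq ρ hs, e]
  exact X.mul_mem (IH a haQ hra) (X.inv_mem (IH h hhQ hrh))

/-- a non-unipotent pair has a nonzero one component -/
theorem M1_ne_bot_of_not_unip {ρ g : LinearMap.GeneralLinearGroup k M}
    (hs : (ρ.1 - 1) * (ρ.1 - 1) = 0) (ht : ((g * ρ * g⁻¹).1 - 1) * ((g * ρ * g⁻¹).1 - 1) = 0)
    (n : ℕ)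
    (hc : IsCompl (M0 (zz (ρ.1 - 1) ((g * ρ * g⁻¹).1 - 1)) n)
      (M1 (zz (ρ.1 - 1) ((g * ρ * g⁻¹).1 - 1)) n))
    (hnu : ¬ IsUnipotentOn (scSub (ρ.1 - 1) hs ⊔ conjBy (scSub (ρ.1 - 1) hs) g)) :
    M1 (zz (ρ.1 - 1) ((g * ρ * g⁻¹).1 - 1)) n ≠ ⊥ := by
  intro hV
  apply hnu
  have htg : (g * ρ * g⁻¹).1 - 1 = g.1 * (ρ.1 - 1) * (g⁻¹).1 := conj_sub_one g ρ
  have hU : IsUnipotentOn (HH hs ht) := by
    obtain ⟨N, hN⟩ := unip_of_M1_eq_bot hs ht n hc hV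
    refine ⟨N, fun l hl hlen => ?_⟩
    rw [Cfsg.Agent.Lib.Helper8.coeList_eq]
    exact hN l hl hlen
  exact isUnipotentOn_mono (sup_le (scSub_le_HH hs ht) (conjBy_scSub_le_HH hs ht htg)) hU

end Cfsg.Agent.Lib.Helper8.Qr
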