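import Mathlib
import Cfsg.Agent.Lib.Helper8.Qr36

/-! Quadratic pairs: a quadratic element generating unipotent groups with all its
`G₀`-conjugates centralizes `G₀`. -/

set_option autoImplicit false
set_option linter.unusedSectionVars false
set_option linter.unusedSimpArgs false

namespace Cfsg.Agent.Lib.Helper8.Qr

open Cfsg Cfsg.Agent.Lib.Helper8.Qp Cfsg.Agent.Lib.Helper8

open scoped commutatorElement

universe u

variable {k : Type u} [Field k] {M : Type u} [AddCommGroup M] [Module k M]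
variable {G : Subgroup (LinearMap.GeneralLinearGroup k M)}
variable [FiniteDimensional k M]

theorem mem_centralizer_of_unip (hG : IsQuadraticPair G) {ρ : LinearMap.GeneralLinearGroup k M}
    (hρ : ρ ∈ quadraticElements G)
    (hall : ∀ g ∈ (⨆ B ∈ quadraticRootSubgroups G, B),
      IsUnipotentOn (scSub (ρ.1 - 1) hρ.2.1.1 ⊔ conjBy (scSub (ρ.1 - 1) hρ.2.1.1) g)) :
    ρ ∈ Subgroup.centralizer ((⨆ B ∈ quadraticRootSubgroups G, B :
      Subgroup (LinearMap.GeneralLinearGroup k M)) : Set (LinearMap.GeneralLinearGroup k M)) := by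
  obtain ⟨G0, hG0⟩ : ∃ G0 : Subgroup (LinearMap.GeneralLinearGroup k M),
      G0 = ⨆ B ∈ quadraticRootSubgroups G, B := ⟨_, rfl⟩
  obtain ⟨R, hR⟩ : ∃ R : Subgroup (LinearMap.GeneralLinearGroup k M),
      R = scSub (ρ.1 - 1) hρ.2.1.1 := ⟨_, rfl⟩
  rw [← hG0, ← hR] at hall
  rw [← hG0]
  have hRG : R ≤ G := by rw [hR]; exact scSub_le_G hρ
  have hG0G : G0 ≤ G := by rw [hG0]; exact G0_le
  have hGn : G ≤ Subgroup.normalizer (G0 : Set (LinearMap.GeneralLinearGroup k M)) := by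
    rw [hG0]; exact G_le_normalizer_G0
  have hLE : R ≤ Subgroup.normalizer (G0 : Set (LinearMap.GeneralLinearGroup k M)) :=
    le_trans hRG hGn
  have hall' : ∀ x ∈ G0 ⊔ R, IsUnipotentOn (R ⊔ conjBy R x) := by
    intro x hx
    obtain ⟨n, hn, e⟩ := conjBy_sup_eq hLE hx
    rw [e]
    exact hall n hn
  obtain ⟨W, hW⟩ : ∃ W : Set (Subgroup (LinearMap.GeneralLinearGroup k M)),
      W = {X | ∃ x ∈ G0 ⊔ R, X = conjBy R x} := ⟨_, rfl⟩
  have hWG : ∀ X ∈ W, X ≤ G0 ⊔ R := by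
    intro X hX
    rw [hW] at hX
    obtain ⟨x, hx, rfl⟩ := hX
    exact conjBy_le_of_mem le_sup_right hx
  have hWconj : ∀ X ∈ W, ∀ g ∈ G0 ⊔ R, conjBy X g ∈ W := by
    intro X hX g hg
    rw [hW] at hX ⊢
    obtain ⟨x, hx, rfl⟩ := hX
    exact ⟨g * x, Subgroup.mul_mem _ hg hx, conjBy_conjBy R x g⟩
  have hWW : ∀ X ∈ W, ∀ Y ∈ W, IsUnipotentOn (X ⊔ Y) := by
    intro X hX Y hY
    rw [hW] at hX hY
    obtain ⟨x, hx, rfl⟩ := hX
    obtain ⟨y, hy, rfl⟩ := hY
    have e : conjBy R x ⊔ conjBy R y = conjBy (R ⊔ conjBy R (x⁻¹ * y)) x := by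
      rw [conjBy_sup, conjBy_conjBy, mul_inv_cancel_left]
    rw [e]
    exact isUnipotentOn_conjBy (hall' _ (Subgroup.mul_mem _ (Subgroup.inv_mem _ hx) hy)) x
  obtain ⟨hU, hNn⟩ := Cfsg.Agent.S5061.result hWG hWW hWconj
  obtain ⟨N, hN⟩ : ∃ N : Subgroup (LinearMap.GeneralLinearGroup k M), N = ⨆ A ∈ W, A := ⟨_, rfl⟩
  rw [← hN] at hU hNn
  have hRN : R ≤ N := by
    rw [hN]
    exact le_iSup₂_of_le R (by rw [hW]; exact ⟨1, Subgroup.one_mem _, (conjBy_one R).symm⟩) le_rfl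
  have hNG : N ≤ G := by
    rw [hN]
    exact iSup₂_le (fun X hX => le_trans (hWG X hX) (sup_le hG0G hRG))
  have hNn' : ∀ z ∈ G0, conjBy N z = N := fun z hz => hNn z ((le_sup_left : G0 ≤ G0 ⊔ R) hz)
  have hG0N : G0 ≤ Subgroup.normalizer (N : Set (LinearMap.GeneralLinearGroup k M)) :=
    fun z hz => conjBy_eq_self_iff.mp (hNn' z hz)
  have hNG0 : N ≤ Subgroup.normalizer (G0 : Set (LinearMap.GeneralLinearGroup k M)) :=
    le_trans hNG hGn
  have hT1 : ⁅G0, N⁆ ≤ N := commutator_le_right_of_le_normalizer hG0N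
  have hT2 : ⁅G0, N⁆ ≤ G0 := by
    rw [Subgroup.commutator_comm]
    exact commutator_le_right_of_le_normalizer hNG0
  have hTU : IsUnipotentOn ⁅G0, N⁆ := isUnipotentOn_mono hT1 hU
  have hTn : G0 ≤ Subgroup.normalizer ((⁅G0, N⁆ : Subgroup (LinearMap.GeneralLinearGroup k M)) :
      Set (LinearMap.GeneralLinearGroup k M)) := by
    intro z hz
    apply conjBy_eq_self_iff.mp
    have h1 : conjBy G0 z = G0 := conjBy_eq_self_of_mem hz
    have h2 : conjBy N z = N := hNn' z hz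
    unfold conjBy at h1 h2 ⊢
    rw [Subgroup.map_commutator, h1, h2]
  subst hG0
  have hbot := eq_bot_of_unipotent_normal hG hTU hT2 hTn
  rw [Subgroup.commutator_comm, Subgroup.commutator_eq_bot_iff_le_centralizer] at hbot
  apply hbot
  apply hRN
  rw [hR]
  exact self_mem_scSub _

end Cfsg.Agent.Lib.Helper8.Qr
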