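import Mathlib
import Cfsg.Agent.Lib.Helper8.Qr37

/-! Quadratic pairs: every quadratic element lies in `G₀ C_G(G₀)`. -/

set_option autoImplicit false
set_option linter.unusedSectionVars false
set_option linter.unusedSimpArgs false

namespace Cfsg.Agent.Lib.Helper8.Qr

open Cfsg Cfsg.Agent.Lib.Helper8.Qp Cfsg.Agent.Lib.Helper8

universe u

variable {k : Type u} [Field k] {M : Type u} [AddCommGroup M] [Module k M]
variable {G : Subgroup (LinearMap.GeneralLinearGroup k M)}
variable [FiniteDimensional k M]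

theorem quadratic_mem_hat (hG : IsQuadraticPair G) (h2 : (2 : k) ≠ 0) (h3 : Nat.card k ≠ 3) :
    ∀ N : ℕ, ∀ ρ ∈ quadraticElements G, commutatorRank ρ = N →
      ρ ∈ (⨆ A ∈ quadraticRootSubgroups G, A) ⊔
        (G ⊓ Subgroup.centralizer ((⨆ A ∈ quadraticRootSubgroups G, A :
          Subgroup (LinearMap.GeneralLinearGroup k M)) :
            Set (LinearMap.GeneralLinearGroup k M))) := by
  intro N
  induction N using Nat.strong_induction_on with
  | _ N ih =>
    intro ρ hρ hN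
    obtain ⟨X, hX⟩ : ∃ X : Subgroup (LinearMap.GeneralLinearGroup k M),
        X = (⨆ A ∈ quadraticRootSubgroups G, A) ⊔
        (G ⊓ Subgroup.centralizer ((⨆ A ∈ quadraticRootSubgroups G, A :
          Subgroup (LinearMap.GeneralLinearGroup k M)) :
            Set (LinearMap.GeneralLinearGroup k M))) := ⟨_, rfl⟩
    rw [← hX] at ih ⊢
    have hG0X : (⨆ A ∈ quadraticRootSubgroups G, A) ≤ X := by
      rw [hX]; exact le_sup_left
    have hs := hρ.2.1.1
    by_cases hall : ∀ g ∈ (⨆ B ∈ quadraticRootSubgroups G, B),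
        IsUnipotentOn (scSub (ρ.1 - 1) hρ.2.1.1 ⊔ conjBy (scSub (ρ.1 - 1) hρ.2.1.1) g)
    · rw [hX]
      exact (le_sup_right : _ ≤ (⨆ A ∈ quadraticRootSubgroups G, A) ⊔ _)
        ⟨hρ.1, mem_centralizer_of_unip hG hρ hall⟩
    · push Not at hall
      obtain ⟨g, hg, hnu⟩ := hall
      have hgG := G0_le hg
      have hb := conj_mem_Q hgG hρ
      have ht := hb.2.1.1
      obtain ⟨n, hn, hc⟩ := exists_fitting (zz (ρ.1 - 1) ((g * ρ * g⁻¹).1 - 1))
      have hc' : IsCompl (M0 (zz (ρ.1 - 1) ((g * ρ * g⁻¹).1 - 1)) n)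
          (M1 (zz (ρ.1 - 1) ((g * ρ * g⁻¹).1 - 1)) n) := hc
      have hV := M1_ne_bot_of_not_unip hs ht n hc' hnu
      have IH : ∀ x ∈ quadraticElements G, commutatorRank x < commutatorRank ρ → x ∈ X := by
        intro x hx hlt
        rw [hN] at hlt
        exact ih _ hlt x hx rfl
      by_cases hs0 : ∀ m ∈ M0 (zz (ρ.1 - 1) ((g * ρ * g⁻¹).1 - 1)) n, (ρ.1 - 1) m = 0
      · by_cases ht0 : ∀ m ∈ M0 (zz (ρ.1 - 1) ((g * ρ * g⁻¹).1 - 1)) n,
            ((g * ρ * g⁻¹).1 - 1) m = 0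
        · exact hG0X (mem_G0_of_vanish h2 h3 hρ hg n hn hc' hs0 ht0)
        · push Not at ht0
          have hzc := zz_comm (ρ.1 - 1) ((g * ρ * g⁻¹).1 - 1)
          have hc'' : IsCompl (M0 (zz ((g * ρ * g⁻¹).1 - 1) (ρ.1 - 1)) n)
              (M1 (zz ((g * ρ * g⁻¹).1 - 1) (ρ.1 - 1)) n) := by
            rw [hzc]; exact hc'
          have hV'' : M1 (zz ((g * ρ * g⁻¹).1 - 1) (ρ.1 - 1)) n ≠ ⊥ := by
            rw [hzc]; exact hV
          have h0'' : ∃ m ∈ M0 (zz ((g * ρ * g⁻¹).1 - 1) (ρ.1 - 1)) n,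
              ((g * ρ * g⁻¹).1 - 1) m ≠ 0 := by
            rw [hzc]; exact ht0
          have hbX : g * ρ * g⁻¹ ∈ X := by
            apply mem_of_split h2 h3 hb hρ n hn hc'' hV'' h0''
            intro x hx hlt
            rw [commutatorRank_conj] at hlt
            exact IH x hx hlt
          have hgX : g ∈ X := hG0X hg
          have e : ρ = g⁻¹ * (g * ρ * g⁻¹) * g := by group
          rw [e]
          exact X.mul_mem (X.mul_mem (X.inv_mem hgX) hbX) hgX
      · push Not at hs0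
        exact mem_of_split h2 h3 hρ hb n hn hc' hV hs0 IH

end Cfsg.Agent.Lib.Helper8.Qr
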