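import Mathlib
import Cfsg.Agent.Lib.Helper8.Qr38

/-! Quadratic pairs: a normal subgroup `H` of `G` satisfies `G = H C_G(H)`. -/

set_option autoImplicit false
set_option linter.unusedSectionVars false
set_option linter.unusedSimpArgs false

namespace Cfsg.Agent.Lib.Helper8.Qr

open Cfsg Cfsg.Agent.Lib.Helper8.Qp Cfsg.Agent.Lib.Helper8

open scoped commutatorElement

universe u

variable {k : Type u} [Field k] {M : Type u} [AddCommGroup M] [Module k M]
variable {G : Subgroup (LinearMap.GeneralLinearGroup k M)}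
variable [FiniteDimensional k M]

theorem conj_mem_of_le_normalizer {H : Subgroup (LinearMap.GeneralLinearGroup k M)}
    (hHn : G ≤ Subgroup.normalizer (H : Set (LinearMap.GeneralLinearGroup k M)))
    {g z : LinearMap.GeneralLinearGroup k M} (hg : g ∈ G) (hz : z ∈ H) : g * z * g⁻¹ ∈ H :=
  (Subgroup.mem_normalizer_iff.mp (hHn hg) z).mp hz

/-- a unipotent subgroup of a normal subgroup `H` of `G` normalized by `H` is trivial -/
theorem eq_bot_of_unipotent_normal' (hG : IsQuadraticPair G)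
    {H : Subgroup (LinearMap.GeneralLinearGroup k M)} (hHG : H ≤ G)
    (hHn : G ≤ Subgroup.normalizer (H : Set (LinearMap.GeneralLinearGroup k M)))
    {T : Subgroup (LinearMap.GeneralLinearGroup k M)} (hU : IsUnipotentOn T)
    (hT : T ≤ H)
    (hTn : H ≤ Subgroup.normalizer (T : Set (LinearMap.GeneralLinearGroup k M))) : T = ⊥ := by
  have hHconj : ∀ g ∈ G, conjBy H g ≤ H := by
    intro g hg
    exact le_of_eq (conjBy_eq_self_iff.mpr (hHn hg))
  have hHmem : ∀ g ∈ G, ∀ z ∈ H, g * z * g⁻¹ ∈ H := fun g hg z hz =>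
    conj_mem_of_le_normalizer hHn hg hz
  obtain ⟨W, hW⟩ : ∃ W : Set (Subgroup (LinearMap.GeneralLinearGroup k M)),
      W = {X | ∃ g ∈ G, X = conjBy T g} := ⟨_, rfl⟩
  have hTG : T ≤ G := le_trans hT hHG
  have hWG : ∀ X ∈ W, X ≤ G := by
    intro X hX
    rw [hW] at hX
    obtain ⟨g, hg, rfl⟩ := hX
    exact conjBy_le_of_mem hTG hg
  have hWconj : ∀ X ∈ W, ∀ g ∈ G, conjBy X g ∈ W := by
    intro X hX g hg
    rw [hW] at hX ⊢
    obtain ⟨g', hg', rfl⟩ := hX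
    exact ⟨g * g', G.mul_mem hg hg', conjBy_conjBy T g' g⟩
  have hWH : ∀ X ∈ W, X ≤ H := by
    intro X hX
    rw [hW] at hX
    obtain ⟨g, hg, rfl⟩ := hX
    exact le_trans (conjBy_mono hT g) (hHconj g hg)
  have hWn : ∀ X ∈ W, ∀ z ∈ H, conjBy X z = X := by
    intro X hX z hz
    rw [hW] at hX
    obtain ⟨g, hg, rfl⟩ := hX
    have h1 : g⁻¹ * z * g⁻¹⁻¹ ∈ H := hHmem g⁻¹ (G.inv_mem hg) z hz
    have h2' : conjBy T (g⁻¹ * z * g⁻¹⁻¹) = T := conjBy_eq_self_iff.mpr (hTn h1)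
    calc conjBy (conjBy T g) z = conjBy T (z * g) := conjBy_conjBy T g z
      _ = conjBy T (g * (g⁻¹ * z * g⁻¹⁻¹)) := by congr 1; group
      _ = conjBy (conjBy T (g⁻¹ * z * g⁻¹⁻¹)) g := (conjBy_conjBy T _ g).symm
      _ = conjBy T g := by rw [h2']
  have hWU : ∀ X ∈ W, IsUnipotentOn X := by
    intro X hX
    rw [hW] at hX
    obtain ⟨g, hg, rfl⟩ := hX
    exact isUnipotentOn_conjBy hU g
  have hWW : ∀ X ∈ W, ∀ Y ∈ W, IsUnipotentOn (X ⊔ Y) := by
    intro X hX Y hY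
    apply isUnipotentOn_sup_of_normalizes (hWU X hX) (hWU Y hY)
    intro y hy x hx
    have h1 := hWn X hX y (hWH Y hY hy)
    rw [← h1] at hx
    rw [mem_conjBy] at hx
    exact hx
  have hbot := family_trivial hG hWG hWW hWconj
  rw [eq_bot_iff, ← hbot]
  have hTW : T ∈ W := by
    rw [hW]
    exact ⟨1, G.one_mem, (conjBy_one T).symm⟩
  exact le_iSup₂_of_le T hTW le_rfl

theorem mem_centralizer_of_unip' (hG : IsQuadraticPair G)
    {H : Subgroup (LinearMap.GeneralLinearGroup k M)} (hHG : H ≤ G)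
    (hHn : G ≤ Subgroup.normalizer (H : Set (LinearMap.GeneralLinearGroup k M)))
    {ρ : LinearMap.GeneralLinearGroup k M} (hρ : ρ ∈ quadraticElements G)
    (hall : ∀ g ∈ H,
      IsUnipotentOn (scSub (ρ.1 - 1) hρ.2.1.1 ⊔ conjBy (scSub (ρ.1 - 1) hρ.2.1.1) g)) :
    ρ ∈ Subgroup.centralizer (H : Set (LinearMap.GeneralLinearGroup k M)) := by
  obtain ⟨R, hR⟩ : ∃ R : Subgroup (LinearMap.GeneralLinearGroup k M),
      R = scSub (ρ.1 - 1) hρ.2.1.1 := ⟨_, rfl⟩
  rw [← hR] at hall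
  have hRG : R ≤ G := by rw [hR]; exact scSub_le_G hρ
  have hLE : R ≤ Subgroup.normalizer (H : Set (LinearMap.GeneralLinearGroup k M)) :=
    le_trans hRG hHn
  have hall' : ∀ x ∈ H ⊔ R, IsUnipotentOn (R ⊔ conjBy R x) := by
    intro x hx
    obtain ⟨n, hn, e⟩ := conjBy_sup_eq hLE hx
    rw [e]
    exact hall n hn
  obtain ⟨W, hW⟩ : ∃ W : Set (Subgroup (LinearMap.GeneralLinearGroup k M)),
      W = {X | ∃ x ∈ H ⊔ R, X = conjBy R x} := ⟨_, rfl⟩
  have hWG : ∀ X ∈ W, X ≤ H ⊔ R := by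
    intro X hX
    rw [hW] at hX
    obtain ⟨x, hx, rfl⟩ := hX
    exact conjBy_le_of_mem le_sup_right hx
  have hWconj : ∀ X ∈ W, ∀ g ∈ H ⊔ R, conjBy X g ∈ W := by
    intro X hX g hg
    rw [hW] at hX ⊢
    obtain ⟨x, hx, rfl⟩ := hX
    exact ⟨g * x, Subgroup.mul_mem _ hg hx, conjBy_conjBy R x g⟩
  have hWW : ∀ X ∈ W, ∀ Y ∈ W, IsUnipotentOn (X ⊔ Y) := by
    intro X hX Y hY
    rw [hW] at hX hY
    obtain ⟨x, hx, rfl⟩ := hX
    obtain ⟨y, hy, rfl⟩ := hY
    have e : conjBy R x ⊔ conjBy R y = conjBy (R ⊔ conjBy R (x⁻¹ * y)) x := by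
      rw [conjBy_sup, conjBy_conjBy, mul_inv_cancel_left]
    rw [e]
    exact isUnipotentOn_conjBy (hall' _ (Subgroup.mul_mem _ (Subgroup.inv_mem _ hx) hy)) x
  obtain ⟨hU, hNn⟩ := Cfsg.Agent.S5061.result hWG hWW hWconj
  obtain ⟨N, hN⟩ : ∃ N : Subgroup (LinearMap.GeneralLinearGroup k M), N = ⨆ A ∈ W, A := ⟨_, rfl⟩
  rw [← hN] at hU hNn
  have hRN : R ≤ N := by
    rw [hN]
    exact le_iSup₂_of_le R (by rw [hW]; exact ⟨1, Subgroup.one_mem _, (conjBy_one R).symm⟩) le_rfl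
  have hNG : N ≤ G := by
    rw [hN]
    exact iSup₂_le (fun X hX => le_trans (hWG X hX) (sup_le hHG hRG))
  have hNn' : ∀ z ∈ H, conjBy N z = N := fun z hz => hNn z ((le_sup_left : H ≤ H ⊔ R) hz)
  have hHN : H ≤ Subgroup.normalizer (N : Set (LinearMap.GeneralLinearGroup k M)) :=
    fun z hz => conjBy_eq_self_iff.mp (hNn' z hz)
  have hNH : N ≤ Subgroup.normalizer (H : Set (LinearMap.GeneralLinearGroup k M)) :=
    le_trans hNG hHn
  have hT1 : ⁅H, N⁆ ≤ N := commutator_le_right_of_le_normalizer hHN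
  have hT2 : ⁅H, N⁆ ≤ H := by
    rw [Subgroup.commutator_comm]
    exact commutator_le_right_of_le_normalizer hNH
  have hTU : IsUnipotentOn ⁅H, N⁆ := isUnipotentOn_mono hT1 hU
  have hTn : H ≤ Subgroup.normalizer ((⁅H, N⁆ : Subgroup (LinearMap.GeneralLinearGroup k M)) :
      Set (LinearMap.GeneralLinearGroup k M)) := by
    intro z hz
    apply conjBy_eq_self_iff.mp
    have h1 : conjBy H z = H := conjBy_eq_self_of_mem hz
    have h2 : conjBy N z = N := hNn' z hz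
    unfold conjBy at h1 h2 ⊢
    rw [Subgroup.map_commutator, h1, h2]
  have hbot := eq_bot_of_unipotent_normal' hG hHG hHn hTU hT2 hTn
  rw [Subgroup.commutator_comm, Subgroup.commutator_eq_bot_iff_le_centralizer] at hbot
  apply hbot
  apply hRN
  rw [hR]
  exact self_mem_scSub _

/-- if both `ρ - 1` and its conjugate vanish on the null component, `ρ ∈ H` -/
theorem mem_of_vanish' (h2 : (2 : k) ≠ 0) (h3 : Nat.card k ≠ 3)
    {H : Subgroup (LinearMap.GeneralLinearGroup k M)} (hHG : H ≤ G)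
    (hHn : G ≤ Subgroup.normalizer (H : Set (LinearMap.GeneralLinearGroup k M)))
    {ρ g : LinearMap.GeneralLinearGroup k M} (hρ : ρ ∈ quadraticElements G)
    (hg : g ∈ H) (n : ℕ) (hn : 1 ≤ n)
    (hc : IsCompl (M0 (zz (ρ.1 - 1) ((g * ρ * g⁻¹).1 - 1)) n)
      (M1 (zz (ρ.1 - 1) ((g * ρ * g⁻¹).1 - 1)) n))
    (hs0 : ∀ m ∈ M0 (zz (ρ.1 - 1) ((g * ρ * g⁻¹).1 - 1)) n, (ρ.1 - 1) m = 0)
    (ht0 : ∀ m ∈ M0 (zz (ρ.1 - 1) ((g * ρ * g⁻¹).1 - 1)) n, ((g * ρ * g⁻¹).1 - 1) m = 0) :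
    ρ ∈ H := by
  have hb := conj_mem_Q (hHG hg) hρ
  have hs := hρ.2.1.1
  have ht := hb.2.1.1
  have htg : (g * ρ * g⁻¹).1 - 1 = g.1 * (ρ.1 - 1) * (g⁻¹).1 := conj_sub_one g ρ
  obtain ⟨x, hx, y, hy, e⟩ := sc_one_eq_commutator hs ht n hn hc h2 h3 hs0 ht0
  have hLE : scSub (ρ.1 - 1) hs ≤
      Subgroup.normalizer (H : Set (LinearMap.GeneralLinearGroup k M)) :=
    le_trans (scSub_le_G hρ) hHn
  have key := comm_mem_of_sup hLE scSub_comm (HH_le_sup hs ht hg htg hx) (HH_le_sup hs ht hg htg hy)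
  rw [← e, sc_one_eq ρ hs] at key
  exact key

theorem quadratic_mem_sup (hG : IsQuadraticPair G) (h2 : (2 : k) ≠ 0) (h3 : Nat.card k ≠ 3)
    {H : Subgroup (LinearMap.GeneralLinearGroup k M)} (hHG : H ≤ G)
    (hHn : G ≤ Subgroup.normalizer (H : Set (LinearMap.GeneralLinearGroup k M))) :
    ∀ N : ℕ, ∀ ρ ∈ quadraticElements G, commutatorRank ρ = N →
      ρ ∈ H ⊔ (G ⊓ Subgroup.centralizer (H : Set (LinearMap.GeneralLinearGroup k M))) := by
  intro N
  induction N using Nat.strong_induction_on with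
  | _ N ih =>
    intro ρ hρ hN
    obtain ⟨X, hX⟩ : ∃ X : Subgroup (LinearMap.GeneralLinearGroup k M),
        X = H ⊔ (G ⊓ Subgroup.centralizer (H : Set (LinearMap.GeneralLinearGroup k M))) :=
      ⟨_, rfl⟩
    rw [← hX] at ih ⊢
    have hHX : H ≤ X := by
      rw [hX]; exact le_sup_left
    have hs := hρ.2.1.1
    by_cases hall : ∀ g ∈ H,
        IsUnipotentOn (scSub (ρ.1 - 1) hρ.2.1.1 ⊔ conjBy (scSub (ρ.1 - 1) hρ.2.1.1) g)
    · rw [hX]
      exact (le_sup_right : _ ≤ H ⊔ _) ⟨hρ.1, mem_centralizer_of_unip' hG hHG hHn hρ hall⟩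
    · push Not at hall
      obtain ⟨g, hg, hnu⟩ := hall
      have hgG := hHG hg
      have hb := conj_mem_Q hgG hρ
      have ht := hb.2.1.1
      obtain ⟨n, hn, hc⟩ := exists_fitting (zz (ρ.1 - 1) ((g * ρ * g⁻¹).1 - 1))
      have hc' : IsCompl (M0 (zz (ρ.1 - 1) ((g * ρ * g⁻¹).1 - 1)) n)
          (M1 (zz (ρ.1 - 1) ((g * ρ * g⁻¹).1 - 1)) n) := hc
      have hV := M1_ne_bot_of_not_unip hs ht n hc' hnu
      have IH : ∀ x ∈ quadraticElements G, commutatorRank x < commutatorRank ρ → x ∈ X := by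
        intro x hx hlt
        rw [hN] at hlt
        exact ih _ hlt x hx rfl
      by_cases hs0 : ∀ m ∈ M0 (zz (ρ.1 - 1) ((g * ρ * g⁻¹).1 - 1)) n, (ρ.1 - 1) m = 0
      · by_cases ht0 : ∀ m ∈ M0 (zz (ρ.1 - 1) ((g * ρ * g⁻¹).1 - 1)) n,
            ((g * ρ * g⁻¹).1 - 1) m = 0
        · exact hHX (mem_of_vanish' h2 h3 hHG hHn hρ hg n hn hc' hs0 ht0)
        · push Not at ht0
          have hzc := zz_comm (ρ.1 - 1) ((g * ρ * g⁻¹).1 - 1)
          have hc'' : IsCompl (M0 (zz ((g * ρ * g⁻¹).1 - 1) (ρ.1 - 1)) n)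
              (M1 (zz ((g * ρ * g⁻¹).1 - 1) (ρ.1 - 1)) n) := by
            rw [hzc]; exact hc'
          have hV'' : M1 (zz ((g * ρ * g⁻¹).1 - 1) (ρ.1 - 1)) n ≠ ⊥ := by
            rw [hzc]; exact hV
          have h0'' : ∃ m ∈ M0 (zz ((g * ρ * g⁻¹).1 - 1) (ρ.1 - 1)) n,
              ((g * ρ * g⁻¹).1 - 1) m ≠ 0 := by
            rw [hzc]; exact ht0
          have hbX : g * ρ * g⁻¹ ∈ X := by
            apply mem_of_split h2 h3 hb hρ n hn hc'' hV'' h0''
            intro x hx hlt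
            rw [commutatorRank_conj] at hlt
            exact IH x hx hlt
          have hgX : g ∈ X := hHX hg
          have e : ρ = g⁻¹ * (g * ρ * g⁻¹) * g := by group
          rw [e]
          exact X.mul_mem (X.mul_mem (X.inv_mem hgX) hbX) hgX
      · push Not at hs0
        exact mem_of_split h2 h3 hρ hb n hn hc' hV hs0 IH

/-- a normal subgroup of `G` is a central factor -/
theorem normal_sup_centralizer (hG : IsQuadraticPair G) (h2 : (2 : k) ≠ 0) (h3 : Nat.card k ≠ 3)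
    {H : Subgroup (LinearMap.GeneralLinearGroup k M)} (hHG : H ≤ G)
    (hHn : G ≤ Subgroup.normalizer (H : Set (LinearMap.GeneralLinearGroup k M))) :
    H ⊔ (G ⊓ Subgroup.centralizer (H : Set (LinearMap.GeneralLinearGroup k M))) = G := by
  apply le_antisymm
  · exact sup_le hHG inf_le_left
  · have key : Subgroup.closure (quadraticElements G) ≤
        H ⊔ (G ⊓ Subgroup.centralizer (H : Set (LinearMap.GeneralLinearGroup k M))) := by
      rw [Subgroup.closure_le]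
      intro ρ hρ
      exact quadratic_mem_sup hG h2 h3 hHG hHn _ ρ hρ rfl
    rw [hG.2] at key
    exact key

end Cfsg.Agent.Lib.Helper8.Qr
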