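import Mathlib
import Cfsg.Agent.Lib.Helper8.Qr39

/-! Quadratic pairs: a quadratic element lies in a given normal subgroup or centralizes it. -/

set_option autoImplicit false
set_option linter.unusedSectionVars false
set_option linter.unusedSimpArgs false

namespace Cfsg.Agent.Lib.Helper8.Qr

open Cfsg Cfsg.Agent.Lib.Helper8.Qp Cfsg.Agent.Lib.Helper8

universe u

section Abstract

variable {k : Type u} [Field k] {M : Type u} [AddCommGroup M] [Module k M]
variable [FiniteDimensional k M] {s t : Module.End k M} (hs : s * s = 0) (ht : t * t = 0) (n : ℕ)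
variable (hn : 1 ≤ n) (hc : IsCompl (M0 (zz s t) n) (M1 (zz s t) n))
variable (h2 : (2 : k) ≠ 0) (h3 : Nat.card k ≠ 3)

include hn hc h2 h3 in
/-- splitting `1 + s`, with the orthogonality of the two parts -/
theorem exists_split' (hV : M1 (zz s t) n ≠ ⊥) (h0 : ∃ m ∈ M0 (zz s t) n, s m ≠ 0) :
    ∃ a h : (Module.End k M)ˣ, QQ (HH hs ht) a ∧ QQ (HH hs ht) h ∧ sc s hs 1 = a * h⁻¹ ∧
      Module.finrank k (LinearMap.range (a.1 - 1)) < Module.finrank k (LinearMap.range s) ∧
      Module.finrank k (LinearMap.range (h.1 - 1)) < Module.finrank k (LinearMap.range s) ∧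
      (a.1 - 1) * (h.1 - 1) = 0 ∧ (h.1 - 1) * (a.1 - 1) = 0 := by
  have hss : ∀ m, s (s m) = 0 := fun m => by
    have := congrArg (fun f : Module.End k M => f m) hs
    simpa using this
  have hdisj : ∀ m, m ∈ M0 (zz s t) n → m ∈ M1 (zz s t) n → m = 0 := by
    have := hc.disjoint
    rw [Submodule.disjoint_def] at this
    exact this
  obtain ⟨h, hH, hp1⟩ := exists_neg_pure hs ht n hn hc h2 h3 1
  have hp : IsPure n (-(s1 hs t n)) h := by
    rw [one_smul] at hp1
    exact hp1
  obtain ⟨ha0, ha1⟩ := act_split hs n 1 hp1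
  have hsc1 : sc s hs 1 ∈ HH hs ht := Subgroup.subset_closure (Or.inl ⟨1, rfl⟩)
  have hu : -(s1 hs t n) ≠ 0 := neg_ne_zero.mpr (s1_ne_zero hs ht n hn hc hV)
  have huu : (-(s1 hs t n)) * (-(s1 hs t n)) = 0 := by
    have := neg_mul_neg (s1 hs t n) (s1 hs t n)
    rw [s1_s1] at this
    exact this
  -- the action of `a - 1`
  have hb0 : ∀ m ∈ M0 (zz s t) n, ((sc s hs 1 * h).1 - 1) m = s m := by
    intro m hm
    rw [LinearMap.sub_apply, Module.End.one_apply, ha0 m hm, one_smul, add_sub_cancel_left]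
  have hb1 : ∀ m ∈ M1 (zz s t) n, ((sc s hs 1 * h).1 - 1) m = 0 := by
    intro m hm
    rw [LinearMap.sub_apply, Module.End.one_apply, ha1 m hm, sub_self]
  -- the action of `h - 1`
  have hh0 : ∀ m ∈ M0 (zz s t) n, (h.1 - 1) m = 0 := by
    intro m hm
    rw [LinearMap.sub_apply, Module.End.one_apply, hp.fix0 m hm, sub_self]
  have hh1 : ∀ m ∈ M1 (zz s t) n, (h.1 - 1) m = -(s m) := by
    intro m hm
    have := hp.act1 ⟨m, hm⟩
    simp only at this
    rw [LinearMap.sub_apply, Module.End.one_apply, this]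
    simp
  have hrange_a : ∀ m, ∃ m₀ ∈ M0 (zz s t) n, ((sc s hs 1 * h).1 - 1) m = s m₀ := by
    intro m
    obtain ⟨m₀, hm₀, m₁, hm₁, rfl⟩ := exists_decomp n hc m
    refine ⟨m₀, hm₀, ?_⟩
    rw [map_add, hb0 m₀ hm₀, hb1 m₁ hm₁, add_zero]
  refine ⟨sc s hs 1 * h, h, ⟨(HH hs ht).mul_mem hsc1 hH, ?_, ?_, ?_⟩,
    ⟨hH, hp.sq_zero hc huu, hp.ne_one hu, ?_⟩, (mul_inv_cancel_right _ _).symm, ?_, ?_, ?_, ?_⟩
  · -- square zero
    apply ext_of_components n hc
    · intro m hm
      rw [Module.End.mul_apply, hb0 m hm, hb0 _ (map_M0 (zz_s hs) n hm), hss, LinearMap.zero_apply]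
    · intro m hm
      rw [Module.End.mul_apply, hb1 m hm, map_zero, LinearMap.zero_apply]
  · -- nonzero
    obtain ⟨m, hm, hsm⟩ := h0
    intro h0'
    apply hsm
    rw [← hb0 m hm, h0', LinearMap.zero_apply]
  · -- scalar family
    intro c
    obtain ⟨h', hH', hp'⟩ := exists_neg_pure hs ht n hn hc h2 h3 c
    obtain ⟨hc0, hc1⟩ := act_split hs n c hp'
    refine ⟨sc s hs c * h', (HH hs ht).mul_mem (Subgroup.subset_closure (Or.inl ⟨c, rfl⟩)) hH', ?_⟩
    apply ext_of_components n hc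
    · intro m hm
      rw [hc0 m hm, LinearMap.add_apply, Module.End.one_apply, LinearMap.smul_apply, hb0 m hm]
    · intro m hm
      rw [hc1 m hm, LinearMap.add_apply, Module.End.one_apply, LinearMap.smul_apply, hb1 m hm,
        smul_zero, add_zero]
  · -- scalar family of `h`
    intro c
    obtain ⟨h', hH', hp'⟩ := exists_neg_pure hs ht n hn hc h2 h3 c
    exact ⟨h', hH', hp.smul_eq hc c hp'⟩
  · -- rank of `a`
    have hle : LinearMap.range ((sc s hs 1 * h).1 - 1) ≤ LinearMap.range s := by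
      rintro _ ⟨m, rfl⟩
      obtain ⟨m₀, -, e⟩ := hrange_a m
      exact ⟨m₀, e.symm⟩
    have hle0 : LinearMap.range ((sc s hs 1 * h).1 - 1) ≤ M0 (zz s t) n := by
      rintro _ ⟨m, rfl⟩
      obtain ⟨m₀, hm₀, e⟩ := hrange_a m
      rw [e]
      exact map_M0 (zz_s hs) n hm₀
    by_contra hlt
    rw [not_lt] at hlt
    have heq := Submodule.eq_of_le_of_finrank_le hle hlt
    apply s1_ne_zero hs ht n hn hc hV
    apply LinearMap.ext
    intro v
    apply Subtype.ext
    rw [s1_apply, LinearMap.zero_apply, ZeroMemClass.coe_zero]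
    apply hdisj
    · apply hle0
      rw [heq]
      exact ⟨_, rfl⟩
    · exact map_M1 (zz_s hs) n v.2
  · -- rank of `h`
    have hr := hp.range_eq hc
    have hle : LinearMap.range (h.1 - 1) ≤ LinearMap.range s := by
      rw [hr]
      rintro _ ⟨_, ⟨v, rfl⟩, rfl⟩
      refine ⟨-(v : M), ?_⟩
      simp
    have hle1 : LinearMap.range (h.1 - 1) ≤ M1 (zz s t) n := by
      rw [hr]
      rintro _ ⟨w, -, rfl⟩
      exact w.2
    by_contra hlt
    rw [not_lt] at hlt
    have heq := Submodule.eq_of_le_of_finrank_le hle hlt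
    obtain ⟨m, hm, hsm⟩ := h0
    apply hsm
    apply hdisj
    · exact map_M0 (zz_s hs) n hm
    · apply hle1
      rw [heq]
      exact ⟨_, rfl⟩
  · -- `(a - 1)(h - 1) = 0`
    apply ext_of_components n hc
    · intro m hm
      rw [Module.End.mul_apply, hh0 m hm, map_zero, LinearMap.zero_apply]
    · intro m hm
      rw [Module.End.mul_apply, hh1 m hm, map_neg, hb1 _ (map_M1 (zz_s hs) n hm), neg_zero,
        LinearMap.zero_apply]
  · -- `(h - 1)(a - 1) = 0`
    apply ext_of_components n hc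
    · intro m hm
      rw [Module.End.mul_apply, hb0 m hm, hh0 _ (map_M0 (zz_s hs) n hm), LinearMap.zero_apply]
    · intro m hm
      rw [Module.End.mul_apply, hb1 m hm, map_zero, LinearMap.zero_apply]

end Abstract

variable {k : Type u} [Field k] {M : Type u} [AddCommGroup M] [Module k M]
variable {G : Subgroup (LinearMap.GeneralLinearGroup k M)}
variable [FiniteDimensional k M]

/-- an element of a normal subgroup `H` fixing a nonzero `H`-invariant subspace pointwise is trivial
(when `G = H C_G(H)`) -/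
theorem eq_one_of_fix (hG : IsQuadraticPair G)
    {H : Subgroup (LinearMap.GeneralLinearGroup k M)}
    (hsup : H ⊔ (G ⊓ Subgroup.centralizer (H : Set (LinearMap.GeneralLinearGroup k M))) = G)
    {U : Submodule k M} (hU : U ≠ ⊥) (hUinv : ∀ x ∈ H, ∀ u ∈ U, x.1 u ∈ U)
    {a : LinearMap.GeneralLinearGroup k M} (ha : a ∈ H) (hfix : ∀ u ∈ U, a.1 u = u) : a = 1 := by
  -- the pointwise stabilizer of `U` in `H`
  obtain ⟨K, hK⟩ : ∃ K : Subgroup (LinearMap.GeneralLinearGroup k M),
      ∀ x, x ∈ K ↔ x ∈ H ∧ ∀ u ∈ U, x.1 u = u := by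
    refine ⟨{ carrier := {x | x ∈ H ∧ ∀ u ∈ U, x.1 u = u}
              one_mem' := ⟨H.one_mem, fun u _ => rfl⟩
              mul_mem' := ?_
              inv_mem' := ?_ }, fun x => Iff.rfl⟩
    · rintro x y ⟨hx, hx'⟩ ⟨hy, hy'⟩
      refine ⟨H.mul_mem hx hy, fun u hu => ?_⟩
      rw [Units.val_mul, Module.End.mul_apply, hy' u hu, hx' u hu]
    · rintro x ⟨hx, hx'⟩
      refine ⟨H.inv_mem hx, fun u hu => ?_⟩
      have := unit_inv_apply x u
      rw [hx' u hu] at this
      exact this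
  have hP1 : ∀ g ∈ H, ∀ x ∈ K, g * x * g⁻¹ ∈ K := by
    intro g hg x hx
    rw [hK] at hx ⊢
    refine ⟨H.mul_mem (H.mul_mem hg hx.1) (H.inv_mem hg), fun u hu => ?_⟩
    have h1 : (g⁻¹).1 u ∈ U := hUinv g⁻¹ (H.inv_mem hg) u hu
    rw [Units.val_mul, Units.val_mul, Module.End.mul_apply, Module.End.mul_apply, hx.2 _ h1,
      unit_apply_inv]
  have hP2 : ∀ g ∈ G ⊓ Subgroup.centralizer (H : Set (LinearMap.GeneralLinearGroup k M)),
      ∀ x ∈ K, g * x * g⁻¹ ∈ K := by
    intro g hg x hx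
    have hxH : x ∈ H := ((hK x).mp hx).1
    have := Subgroup.mem_centralizer_iff.mp hg.2 x hxH
    rw [← this, mul_inv_cancel_right]
    exact hx
  have hKn : G ≤ Subgroup.normalizer (K : Set (LinearMap.GeneralLinearGroup k M)) := by
    rw [← hsup]
    apply sup_le
    · intro g hg
      rw [Subgroup.mem_normalizer_iff]
      intro x
      constructor
      · exact hP1 g hg x
      · intro h
        have := hP1 g⁻¹ (H.inv_mem hg) _ h
        have e : g⁻¹ * (g * x * g⁻¹) * g⁻¹⁻¹ = x := by group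
        rwa [e] at this
    · intro g hg
      rw [Subgroup.mem_normalizer_iff]
      intro x
      constructor
      · exact hP2 g hg x
      · intro h
        have := hP2 g⁻¹ (Subgroup.inv_mem _ hg) _ h
        have e : g⁻¹ * (g * x * g⁻¹) * g⁻¹⁻¹ = x := by group
        rwa [e] at this
  -- the fixed space of `K`
  obtain ⟨F, hF⟩ : ∃ F : Submodule k M, ∀ m, m ∈ F ↔ ∀ x ∈ K, x.1 m = m := by
    refine ⟨{ carrier := {m | ∀ x ∈ K, x.1 m = m}
              add_mem' := ?_
              zero_mem' := fun x _ => map_zero _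
              smul_mem' := ?_ }, fun m => Iff.rfl⟩
    · intro m m' hm hm' x hx
      rw [map_add, hm x hx, hm' x hx]
    · intro c m hm x hx
      rw [map_smul, hm x hx]
  have hFinv : ∀ g ∈ G, ∀ w ∈ F, (g : M →ₗ[k] M) w ∈ F := by
    intro g hg w hw
    rw [hF] at hw ⊢
    intro x hx
    have h1 : g⁻¹ * x * g⁻¹⁻¹ ∈ K :=
      (Subgroup.mem_normalizer_iff.mp (hKn (G.inv_mem hg)) x).mp hx
    have h2 := hw _ h1
    rw [inv_inv, Units.val_mul, Units.val_mul, Module.End.mul_apply, Module.End.mul_apply] at h2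
    have h3 := congrArg g.1 h2
    rw [unit_apply_inv] at h3
    exact h3
  have hUF : U ≤ F := by
    intro u hu
    rw [hF]
    intro x hx
    exact ((hK x).mp hx).2 u hu
  rcases hG.1.2 F hFinv with h | h
  · exfalso
    apply hU
    rw [eq_bot_iff, ← h]
    exact hUF
  · apply Units.ext
    apply LinearMap.ext
    intro m
    have hm : m ∈ F := by rw [h]; trivial
    rw [hF] at hm
    exact hm a ((hK a).mpr ⟨ha, hfix⟩)

end Cfsg.Agent.Lib.Helper8.Qr
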