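import Mathlib
import Cfsg.Agent.Lib.Helper8.Qr40

/-! Quadratic pairs: a quadratic element lies in a given normal subgroup or centralizes it. -/

set_option autoImplicit false
set_option linter.unusedSectionVars false
set_option linter.unusedSimpArgs false

namespace Cfsg.Agent.Lib.Helper8.Qr

open Cfsg Cfsg.Agent.Lib.Helper8.Qp Cfsg.Agent.Lib.Helper8

universe u

variable {k : Type u} [Field k] {M : Type u} [AddCommGroup M] [Module k M]
variable {G : Subgroup (LinearMap.GeneralLinearGroup k M)}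
variable [FiniteDimensional k M]

/-- the range of `h - 1` is invariant under a group centralized by `h` -/
theorem range_sub_one_invariant {H : Subgroup (LinearMap.GeneralLinearGroup k M)}
    {h : LinearMap.GeneralLinearGroup k M}
    (hh : h ∈ Subgroup.centralizer (H : Set (LinearMap.GeneralLinearGroup k M))) :
    ∀ x ∈ H, ∀ u ∈ LinearMap.range (h.1 - 1), x.1 u ∈ LinearMap.range (h.1 - 1) := by
  rintro x hx _ ⟨m, rfl⟩
  refine ⟨x.1 m, ?_⟩
  have h1 := Subgroup.mem_centralizer_iff.mp hh x hx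
  have h2 : x.1 * h.1 = h.1 * x.1 := by
    rw [← Units.val_mul, ← Units.val_mul, h1]
  have h3 := congrArg (fun f : M →ₗ[k] M => f m) h2
  simp only [Module.End.mul_apply] at h3
  simp only [LinearMap.sub_apply, Module.End.one_apply, map_sub]
  rw [h3]

theorem fix_of_mul_eq_zero {a : LinearMap.GeneralLinearGroup k M} {y : M →ₗ[k] M}
    (h : (a.1 - 1) * y = 0) : ∀ u ∈ LinearMap.range y, a.1 u = u := by
  rintro _ ⟨m, rfl⟩
  have := congrArg (fun f : M →ₗ[k] M => f m) h
  simp only [Module.End.mul_apply, LinearMap.sub_apply, Module.End.one_apply,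
    LinearMap.zero_apply, sub_eq_zero] at this
  exact this

/-- the splitting step for the dichotomy -/
theorem mem_or_of_split (hG : IsQuadraticPair G) (h2 : (2 : k) ≠ 0) (h3 : Nat.card k ≠ 3)
    {H : Subgroup (LinearMap.GeneralLinearGroup k M)}
    (hsup : H ⊔ (G ⊓ Subgroup.centralizer (H : Set (LinearMap.GeneralLinearGroup k M))) = G)
    {ρ b : LinearMap.GeneralLinearGroup k M} (hρ : ρ ∈ quadraticElements G)
    (hb : b ∈ quadraticElements G) (n : ℕ) (hn : 1 ≤ n)
    (hc : IsCompl (M0 (zz (ρ.1 - 1) (b.1 - 1)) n) (M1 (zz (ρ.1 - 1) (b.1 - 1)) n))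
    (hV : M1 (zz (ρ.1 - 1) (b.1 - 1)) n ≠ ⊥)
    (h0 : ∃ m ∈ M0 (zz (ρ.1 - 1) (b.1 - 1)) n, (ρ.1 - 1) m ≠ 0)
    (IH : ∀ x ∈ quadraticElements G, commutatorRank x < commutatorRank ρ →
      x ∈ H ∨ x ∈ Subgroup.centralizer (H : Set (LinearMap.GeneralLinearGroup k M))) :
    ρ ∈ H ∨ ρ ∈ Subgroup.centralizer (H : Set (LinearMap.GeneralLinearGroup k M)) := by
  have hs := hρ.2.1.1
  have ht := hb.2.1.1
  obtain ⟨a, h, ha, hh, e, hra, hrh, hah, hha⟩ := exists_split' hs ht n hn hc h2 h3 hV h0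
  have hle := HH_le_G hρ hb
  have haQ : a ∈ quadraticElements G := by
    apply mem_Q_of (hle ha.1) ha.2.1 ha.2.2.1
    intro c
    obtain ⟨x', hx', e'⟩ := ha.2.2.2 c
    exact ⟨x', hle hx', e'⟩
  have hhQ : h ∈ quadraticElements G := by
    apply mem_Q_of (hle hh.1) hh.2.1 hh.2.2.1
    intro c
    obtain ⟨x', hx', e'⟩ := hh.2.2.2 c
    exact ⟨x', hle hx', e'⟩
  have hane : a ≠ 1 := by
    intro h1
    apply ha.2.2.1
    rw [h1, Units.val_one, sub_self]
  have hhne : h ≠ 1 := by
    intro h1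
    apply hh.2.2.1
    rw [h1, Units.val_one, sub_self]
  have hrange_ne : ∀ x : LinearMap.GeneralLinearGroup k M, x.1 - 1 ≠ 0 →
      LinearMap.range (x.1 - 1) ≠ ⊥ := by
    intro x hx h1
    exact hx (LinearMap.range_eq_bot.mp h1)
  rw [← sc_one_eq ρ hs, e]
  rcases IH a haQ hra with haH | haC
  · rcases IH h hhQ hrh with hhH | hhC
    · left
      exact H.mul_mem haH (H.inv_mem hhH)
    · exfalso
      exact hane (eq_one_of_fix hG hsup (hrange_ne h hh.2.2.1) (range_sub_one_invariant hhC) haH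
        (fix_of_mul_eq_zero hah))
  · rcases IH h hhQ hrh with hhH | hhC
    · exfalso
      exact hhne (eq_one_of_fix hG hsup (hrange_ne a ha.2.2.1) (range_sub_one_invariant haC) hhH
        (fix_of_mul_eq_zero hha))
    · right
      exact Subgroup.mul_mem _ haC (Subgroup.inv_mem _ hhC)

/-- the dichotomy: a quadratic element lies in a normal subgroup or centralizes it -/
theorem quadratic_mem_or (hG : IsQuadraticPair G) (h2 : (2 : k) ≠ 0) (h3 : Nat.card k ≠ 3)
    {H : Subgroup (LinearMap.GeneralLinearGroup k M)} (hHG : H ≤ G)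
    (hHn : G ≤ Subgroup.normalizer (H : Set (LinearMap.GeneralLinearGroup k M))) :
    ∀ N : ℕ, ∀ ρ ∈ quadraticElements G, commutatorRank ρ = N →
      ρ ∈ H ∨ ρ ∈ Subgroup.centralizer (H : Set (LinearMap.GeneralLinearGroup k M)) := by
  have hsup := normal_sup_centralizer hG h2 h3 hHG hHn
  intro N
  induction N using Nat.strong_induction_on with
  | _ N ih =>
    intro ρ hρ hN
    have hs := hρ.2.1.1
    by_cases hall : ∀ g ∈ H,
        IsUnipotentOn (scSub (ρ.1 - 1) hρ.2.1.1 ⊔ conjBy (scSub (ρ.1 - 1) hρ.2.1.1) g)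
    · right
      exact mem_centralizer_of_unip' hG hHG hHn hρ hall
    · push Not at hall
      obtain ⟨g, hg, hnu⟩ := hall
      have hgG := hHG hg
      have hb := conj_mem_Q hgG hρ
      have ht := hb.2.1.1
      obtain ⟨n, hn, hc⟩ := exists_fitting (zz (ρ.1 - 1) ((g * ρ * g⁻¹).1 - 1))
      have hc' : IsCompl (M0 (zz (ρ.1 - 1) ((g * ρ * g⁻¹).1 - 1)) n)
          (M1 (zz (ρ.1 - 1) ((g * ρ * g⁻¹).1 - 1)) n) := hc
      have hV := M1_ne_bot_of_not_unip hs ht n hc' hnu
      have IH : ∀ x ∈ quadraticElements G, commutatorRank x < commutatorRank ρ →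
          x ∈ H ∨ x ∈ Subgroup.centralizer (H : Set (LinearMap.GeneralLinearGroup k M)) := by
        intro x hx hlt
        rw [hN] at hlt
        exact ih _ hlt x hx rfl
      by_cases hs0 : ∀ m ∈ M0 (zz (ρ.1 - 1) ((g * ρ * g⁻¹).1 - 1)) n, (ρ.1 - 1) m = 0
      · by_cases ht0 : ∀ m ∈ M0 (zz (ρ.1 - 1) ((g * ρ * g⁻¹).1 - 1)) n,
            ((g * ρ * g⁻¹).1 - 1) m = 0
        · left
          exact mem_of_vanish' h2 h3 hHG hHn hρ hg n hn hc' hs0 ht0
        · push Not at ht0
          have hzc := zz_comm (ρ.1 - 1) ((g * ρ * g⁻¹).1 - 1)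
          have hc'' : IsCompl (M0 (zz ((g * ρ * g⁻¹).1 - 1) (ρ.1 - 1)) n)
              (M1 (zz ((g * ρ * g⁻¹).1 - 1) (ρ.1 - 1)) n) := by
            rw [hzc]; exact hc'
          have hV'' : M1 (zz ((g * ρ * g⁻¹).1 - 1) (ρ.1 - 1)) n ≠ ⊥ := by
            rw [hzc]; exact hV
          have h0'' : ∃ m ∈ M0 (zz ((g * ρ * g⁻¹).1 - 1) (ρ.1 - 1)) n,
              ((g * ρ * g⁻¹).1 - 1) m ≠ 0 := by
            rw [hzc]; exact ht0
          have hbX : g * ρ * g⁻¹ ∈ H ∨ g * ρ * g⁻¹ ∈
              Subgroup.centralizer (H : Set (LinearMap.GeneralLinearGroup k M)) := by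
            apply mem_or_of_split hG h2 h3 hsup hb hρ n hn hc'' hV'' h0''
            intro x hx hlt
            rw [commutatorRank_conj] at hlt
            exact IH x hx hlt
          have e : ρ = g⁻¹ * (g * ρ * g⁻¹) * g := by group
          rcases hbX with hbH | hbC
          · left
            rw [e]
            exact H.mul_mem (H.mul_mem (H.inv_mem hg) hbH) hg
          · right
            have h1 := Subgroup.mem_centralizer_iff.mp hbC g hg
            have e2 : ρ = g * ρ * g⁻¹ := by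
              have h4 : g * (g * ρ * g⁻¹) = g * ρ := by
                rw [h1]; group
              exact (mul_left_cancel h4).symm
            rw [e2]
            exact hbC
      · push Not at hs0
        exact mem_or_of_split hG h2 h3 hsup hρ hb n hn hc' hV hs0 IH

end Cfsg.Agent.Lib.Helper8.Qr
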