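import Mathlib
import Cfsg.Agent.Lib.Helper8.Qr41

/-! Quadratic pairs: the normal closures of the scalar families of quadratic elements. -/

set_option autoImplicit false
set_option linter.unusedSectionVars false
set_option linter.unusedSimpArgs false

namespace Cfsg.Agent.Lib.Helper8.Qr

open Cfsg Cfsg.Agent.Lib.Helper8.Qp Cfsg.Agent.Lib.Helper8

open scoped commutatorElement

universe u

section Generic

variable {Γ : Type*} [Group Γ]

theorem le_normalizer_of_conj_mem {G H : Subgroup Γ} (h : ∀ g ∈ G, ∀ z ∈ H, g * z * g⁻¹ ∈ H) :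
    G ≤ Subgroup.normalizer (H : Set Γ) := by
  intro g hg
  rw [Subgroup.mem_normalizer_iff]
  intro z
  constructor
  · exact h g hg z
  · intro hz
    have := h g⁻¹ (G.inv_mem hg) _ hz
    have e : g⁻¹ * (g * z * g⁻¹) * g⁻¹⁻¹ = z := by group
    rwa [e] at this

/-- the centralizer of a subgroup normalized by `G` is normalized by `G` -/
theorem conj_mem_centralizer {G N : Subgroup Γ} (hNn : G ≤ Subgroup.normalizer (N : Set Γ))
    {g x : Γ} (hg : g ∈ G) (hx : x ∈ Subgroup.centralizer (N : Set Γ)) :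
    g * x * g⁻¹ ∈ Subgroup.centralizer (N : Set Γ) := by
  rw [Subgroup.mem_centralizer_iff] at hx ⊢
  intro z hz
  have h1 : g⁻¹ * z * g⁻¹⁻¹ ∈ N :=
    (Subgroup.mem_normalizer_iff.mp (hNn (G.inv_mem hg)) z).mp hz
  have h2 := hx _ h1
  calc z * (g * x * g⁻¹) = g * ((g⁻¹ * z * g⁻¹⁻¹) * x) * g⁻¹ := by group
    _ = g * (x * (g⁻¹ * z * g⁻¹⁻¹)) * g⁻¹ := by rw [h2]
    _ = g * x * g⁻¹ * z := by group

end Generic

variable {k : Type u} [Field k] {M : Type u} [AddCommGroup M] [Module k M]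
variable {G : Subgroup (LinearMap.GeneralLinearGroup k M)}

/-- the normal closure in `G` of the scalar family of `ρ` -/
def ncl (G : Subgroup (LinearMap.GeneralLinearGroup k M)) (ρ : LinearMap.GeneralLinearGroup k M) :
    Subgroup (LinearMap.GeneralLinearGroup k M) :=
  Subgroup.closure {y | ∃ g ∈ G, ∃ x ∈ scalarFamily ρ, y = g * x * g⁻¹}

theorem self_mem_scalarFamily (ρ : LinearMap.GeneralLinearGroup k M) : ρ ∈ scalarFamily ρ :=
  ⟨1, by rw [one_smul, add_sub_cancel]⟩

theorem scalarFamily_sub_ncl (ρ : LinearMap.GeneralLinearGroup k M) :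
    scalarFamily ρ ⊆ (ncl G ρ : Set (LinearMap.GeneralLinearGroup k M)) := by
  intro x hx
  apply Subgroup.subset_closure
  exact ⟨1, G.one_mem, x, hx, by group⟩

theorem self_mem_ncl (ρ : LinearMap.GeneralLinearGroup k M) : ρ ∈ ncl G ρ :=
  scalarFamily_sub_ncl ρ (self_mem_scalarFamily ρ)

theorem ncl_le {ρ : LinearMap.GeneralLinearGroup k M} (hρ : ρ ∈ quadraticElements G) :
    ncl G ρ ≤ G := by
  unfold ncl
  rw [Subgroup.closure_le]
  rintro _ ⟨g, hg, x, hx, rfl⟩
  exact G.mul_mem (G.mul_mem hg (hρ.2.2 hx)) (G.inv_mem hg)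

theorem ncl_conj_mem (ρ : LinearMap.GeneralLinearGroup k M) :
    ∀ g ∈ G, ∀ z ∈ ncl G ρ, g * z * g⁻¹ ∈ ncl G ρ := by
  intro g hg z hz
  unfold ncl at hz
  induction hz using Subgroup.closure_induction with
  | mem y hy =>
    obtain ⟨g', hg', x, hx, rfl⟩ := hy
    apply Subgroup.subset_closure
    exact ⟨g * g', G.mul_mem hg hg', x, hx, by group⟩
  | one =>
    rw [mul_one, mul_inv_cancel]
    exact Subgroup.one_mem _
  | mul a b _ _ ha hb =>
    have e : g * (a * b) * g⁻¹ = (g * a * g⁻¹) * (g * b * g⁻¹) := by group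
    rw [e]
    exact Subgroup.mul_mem _ ha hb
  | inv a _ ha =>
    have e : g * a⁻¹ * g⁻¹ = (g * a * g⁻¹)⁻¹ := by group
    rw [e]
    exact Subgroup.inv_mem _ ha

theorem ncl_normal (ρ : LinearMap.GeneralLinearGroup k M) :
    G ≤ Subgroup.normalizer ((ncl G ρ : Subgroup (LinearMap.GeneralLinearGroup k M)) :
      Set (LinearMap.GeneralLinearGroup k M)) :=
  le_normalizer_of_conj_mem (ncl_conj_mem ρ)

/-- a subgroup normalized by `G` containing the scalar family contains the normal closure -/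
theorem ncl_le_of_sub {ρ : LinearMap.GeneralLinearGroup k M}
    {N : Subgroup (LinearMap.GeneralLinearGroup k M)}
    (hNn : ∀ g ∈ G, ∀ z ∈ N, g * z * g⁻¹ ∈ N)
    (h : scalarFamily ρ ⊆ (N : Set (LinearMap.GeneralLinearGroup k M))) : ncl G ρ ≤ N := by
  unfold ncl
  rw [Subgroup.closure_le]
  rintro _ ⟨g, hg, x, hx, rfl⟩
  exact hNn g hg x (h hx)

/-- nontrivial members of the scalar family of a quadratic element are quadratic elements -/
theorem scalar_mem_Q {ρ x : LinearMap.GeneralLinearGroup k M} (hρ : ρ ∈ quadraticElements G)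
    (hx : x ∈ scalarFamily ρ) (hx1 : x ≠ 1) : x ∈ quadraticElements G := by
  obtain ⟨c, hc⟩ := hx
  have hc0 : c ≠ 0 := by
    rintro rfl
    apply hx1
    apply Units.ext
    rw [hc, zero_smul, add_zero, Units.val_one]
  have hx' : x.1 - 1 = c • (ρ.1 - 1) := by rw [hc, add_sub_cancel_left]
  apply mem_Q_of (hρ.2.2 ⟨c, hc⟩)
  · rw [hx', smul_mul_smul_comm, hρ.2.1.1, smul_zero]
  · rw [hx']
    intro h0
    exact hρ.2.1.2 ((smul_eq_zero.mp h0).resolve_left hc0)
  · intro c'
    refine ⟨sc (ρ.1 - 1) hρ.2.1.1 (c' * c), sc_mem_G hρ _, ?_⟩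
    rw [hx', sc_val, mul_smul]

/-- `ρ` lies in the scalar family of any nontrivial member of its scalar family -/
theorem mem_scalarFamily_symm {ρ x : LinearMap.GeneralLinearGroup k M}
    (hx : x ∈ scalarFamily ρ) (hx1 : x ≠ 1) : ρ ∈ scalarFamily x := by
  obtain ⟨c, hc⟩ := hx
  have hc0 : c ≠ 0 := by
    rintro rfl
    apply hx1
    apply Units.ext
    rw [hc, zero_smul, add_zero, Units.val_one]
  have hx' : x.1 - 1 = c • (ρ.1 - 1) := by rw [hc, add_sub_cancel_left]
  refine ⟨c⁻¹, ?_⟩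
  rw [hx', smul_smul, inv_mul_cancel₀ hc0, one_smul, add_sub_cancel]

theorem scalarFamily_sub_centralizer {ρ : LinearMap.GeneralLinearGroup k M}
    {S : Set (LinearMap.GeneralLinearGroup k M)} (h : ρ ∈ Subgroup.centralizer S) :
    scalarFamily ρ ⊆ (Subgroup.centralizer S : Set (LinearMap.GeneralLinearGroup k M)) := by
  rintro x ⟨c, hc⟩
  rw [Subgroup.mem_centralizer_iff] at h
  rw [SetLike.mem_coe, Subgroup.mem_centralizer_iff]
  intro z hz
  have h1 : z.1 * ρ.1 = ρ.1 * z.1 := by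
    rw [← Units.val_mul, ← Units.val_mul, h z hz]
  apply Units.ext
  rw [Units.val_mul, Units.val_mul, hc]
  simp only [mul_add, add_mul, mul_one, one_mul, mul_smul_comm, smul_mul_assoc, mul_sub, sub_mul,
    h1]

variable [FiniteDimensional k M]

/-- the dichotomy for the normal closures -/
theorem ncl_le_or (hG : IsQuadraticPair G) (h2 : (2 : k) ≠ 0) (h3 : Nat.card k ≠ 3)
    {N : Subgroup (LinearMap.GeneralLinearGroup k M)} (hNG : N ≤ G)
    (hNn : G ≤ Subgroup.normalizer (N : Set (LinearMap.GeneralLinearGroup k M)))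
    {ρ : LinearMap.GeneralLinearGroup k M} (hρ : ρ ∈ quadraticElements G) :
    ncl G ρ ≤ N ∨ ncl G ρ ≤ Subgroup.centralizer (N : Set (LinearMap.GeneralLinearGroup k M)) := by
  by_cases hC : ρ ∈ Subgroup.centralizer (N : Set (LinearMap.GeneralLinearGroup k M))
  · right
    apply ncl_le_of_sub _ (scalarFamily_sub_centralizer hC)
    intro g hg z hz
    exact conj_mem_centralizer hNn hg hz
  · left
    apply ncl_le_of_sub (fun g hg z hz => conj_mem_of_le_normalizer hNn hg hz)
    intro x hx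
    by_cases hx1 : x = 1
    · rw [hx1]; exact N.one_mem
    · have hxQ := scalar_mem_Q hρ hx hx1
      rcases quadratic_mem_or hG h2 h3 hNG hNn _ x hxQ rfl with h | h
      · exact h
      · exfalso
        exact hC (scalarFamily_sub_centralizer h (mem_scalarFamily_symm hx hx1))

end Cfsg.Agent.Lib.Helper8.Qr
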