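import Mathlib
import Cfsg.Agent.Lib.Helper8.Qr42

/-! Quadratic pairs: the normal closures of scalar families form a partition into commuting
normal subgroups. -/

set_option autoImplicit false
set_option linter.unusedSectionVars false
set_option linter.unusedSimpArgs false

namespace Cfsg.Agent.Lib.Helper8.Qr

open Cfsg Cfsg.Agent.Lib.Helper8.Qp Cfsg.Agent.Lib.Helper8

open scoped commutatorElement

universe u

variable {k : Type u} [Field k] {M : Type u} [AddCommGroup M] [Module k M]
variable {G : Subgroup (LinearMap.GeneralLinearGroup k M)}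

/-- the normal closure is generated by the quadratic elements it contains -/
theorem ncl_eq_closure_inter {ρ : LinearMap.GeneralLinearGroup k M}
    (hρ : ρ ∈ quadraticElements G) :
    Subgroup.closure (quadraticElements G ∩
      (ncl G ρ : Set (LinearMap.GeneralLinearGroup k M))) = ncl G ρ := by
  apply le_antisymm
  · rw [Subgroup.closure_le]
    exact Set.inter_subset_right
  · conv_lhs => unfold ncl
    rw [Subgroup.closure_le]
    rintro _ ⟨g, hg, x, hx, rfl⟩
    by_cases hx1 : x = 1
    · rw [hx1, mul_one, mul_inv_cancel]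
      exact Subgroup.one_mem _
    · apply Subgroup.subset_closure
      refine ⟨conj_mem_Q hg (scalar_mem_Q hρ hx hx1), ?_⟩
      exact ncl_conj_mem ρ g hg x (scalarFamily_sub_ncl ρ hx)

/-- a quadratic element is not central -/
theorem not_mem_centralizer_G (hG : IsQuadraticPair G) {ρ : LinearMap.GeneralLinearGroup k M}
    (hρ : ρ ∈ quadraticElements G) :
    ρ ∉ Subgroup.centralizer (G : Set (LinearMap.GeneralLinearGroup k M)) := by
  intro hC
  rw [Subgroup.mem_centralizer_iff] at hC
  have hinv : ∀ g ∈ G, ∀ w ∈ LinearMap.ker (ρ.1 - 1), (g : M →ₗ[k] M) w ∈ LinearMap.ker (ρ.1 - 1) := by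
    intro g hg w hw
    rw [LinearMap.mem_ker] at hw ⊢
    have h1 : g.1 * ρ.1 = ρ.1 * g.1 := by
      rw [← Units.val_mul, ← Units.val_mul, hC g hg]
    have h2 := congrArg (fun f : M →ₗ[k] M => f w) h1
    simp only [Module.End.mul_apply] at h2
    rw [LinearMap.sub_apply, Module.End.one_apply] at hw ⊢
    rw [← h2, ← map_sub, hw, map_zero]
  rcases hG.1.2 _ hinv with h | h
  · apply hρ.2.1.2
    have := range_le_ker_of_sq hρ.2.1.1
    rw [h, le_bot_iff] at this
    exact LinearMap.range_eq_bot.mp this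
  · exact hρ.2.1.2 (LinearMap.ker_eq_top.mp h)

/-- an element of a central factor `H` centralizing `H` is central in `G` -/
theorem mem_centralizer_G_of {H : Subgroup (LinearMap.GeneralLinearGroup k M)}
    (hsup : H ⊔ (G ⊓ Subgroup.centralizer (H : Set (LinearMap.GeneralLinearGroup k M))) = G)
    {ρ : LinearMap.GeneralLinearGroup k M} (h1 : ρ ∈ H)
    (h2 : ρ ∈ Subgroup.centralizer (H : Set (LinearMap.GeneralLinearGroup k M))) :
    ρ ∈ Subgroup.centralizer (G : Set (LinearMap.GeneralLinearGroup k M)) := by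
  have hle : G ≤ Subgroup.centralizer ({ρ} : Set (LinearMap.GeneralLinearGroup k M)) := by
    rw [← hsup]
    apply sup_le
    · intro x hx
      rw [Subgroup.mem_centralizer_iff]
      rintro _ rfl
      exact ((Subgroup.mem_centralizer_iff.mp h2) x hx).symm
    · intro x hx
      rw [Subgroup.mem_centralizer_iff]
      rintro _ rfl
      exact (Subgroup.mem_centralizer_iff.mp hx.2) _ h1
  rw [Subgroup.mem_centralizer_iff]
  intro g hg
  have := Subgroup.mem_centralizer_iff.mp (hle hg) ρ rfl
  exact this.symm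

variable [FiniteDimensional k M]

/-- the normal closures of equivalent quadratic elements coincide -/
theorem ncl_eq_of_mem (hG : IsQuadraticPair G) (h2 : (2 : k) ≠ 0) (h3 : Nat.card k ≠ 3)
    {ρ τ : LinearMap.GeneralLinearGroup k M} (hρ : ρ ∈ quadraticElements G)
    (hτ : τ ∈ quadraticElements G) (h : τ ∈ ncl G ρ) : ncl G τ = ncl G ρ := by
  have hsupρ := normal_sup_centralizer hG h2 h3 (ncl_le hρ) (ncl_normal ρ)
  have hτC : τ ∉ Subgroup.centralizer ((ncl G ρ : Subgroup (LinearMap.GeneralLinearGroup k M)) :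
      Set (LinearMap.GeneralLinearGroup k M)) := fun hC =>
    not_mem_centralizer_G hG hτ (mem_centralizer_G_of hsupρ h hC)
  apply le_antisymm
  · rcases ncl_le_or hG h2 h3 (ncl_le hρ) (ncl_normal ρ) hτ with h1 | h1
    · exact h1
    · exact absurd (h1 (self_mem_ncl τ)) hτC
  · rcases ncl_le_or hG h2 h3 (ncl_le hτ) (ncl_normal τ) hρ with h1 | h1
    · exact h1
    · exfalso
      apply hτC
      rw [Subgroup.mem_centralizer_iff]
      intro z hz
      exact ((Subgroup.mem_centralizer_iff.mp (h1 hz)) τ (self_mem_ncl τ)).symm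

/-- the normal closures of inequivalent quadratic elements commute -/
theorem ncl_comm_of_not_mem (hG : IsQuadraticPair G) (h2 : (2 : k) ≠ 0) (h3 : Nat.card k ≠ 3)
    {ρ τ : LinearMap.GeneralLinearGroup k M} (hρ : ρ ∈ quadraticElements G)
    (hτ : τ ∈ quadraticElements G) (h : τ ∉ ncl G ρ) : ⁅ncl G ρ, ncl G τ⁆ = ⊥ := by
  rcases ncl_le_or hG h2 h3 (ncl_le hρ) (ncl_normal ρ) hτ with h1 | h1
  · exact absurd (h1 (self_mem_ncl τ)) h
  · rw [Subgroup.commutator_comm, Subgroup.commutator_eq_bot_iff_le_centralizer]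
    exact h1

theorem ncl_comm_of_ne (hG : IsQuadraticPair G) (h2 : (2 : k) ≠ 0) (h3 : Nat.card k ≠ 3)
    {ρ τ : LinearMap.GeneralLinearGroup k M} (hρ : ρ ∈ quadraticElements G)
    (hτ : τ ∈ quadraticElements G) (h : ncl G ρ ≠ ncl G τ) : ⁅ncl G ρ, ncl G τ⁆ = ⊥ := by
  apply ncl_comm_of_not_mem hG h2 h3 hρ hτ
  intro hm
  exact h (ncl_eq_of_mem hG h2 h3 hρ hτ hm).symm

end Cfsg.Agent.Lib.Helper8.Qr
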