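import Mathlib
import Cfsg.Agent.Lib.Helper8.Qr43

/-! Quadratic pairs: a non-unipotent pair of scalar families generates a group which is not
nilpotent of class two. -/

set_option autoImplicit false
set_option linter.unusedSectionVars false
set_option linter.unusedSimpArgs false

namespace Cfsg.Agent.Lib.Helper8.Qr

open Cfsg Cfsg.Agent.Lib.Helper8.Qp Cfsg.Agent.Lib.Helper8 Polynomial Matrix
  Cfsg.Agent.Lib.Helper8.Sr

universe u

section Abstract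

variable {k : Type u} [Field k] {M : Type u} [AddCommGroup M] [Module k M]
variable [FiniteDimensional k M] {s t : Module.End k M} (hs : s * s = 0) (ht : t * t = 0) (n : ℕ)
variable (hn : 1 ≤ n) (hc : IsCompl (M0 (zz s t) n) (M1 (zz s t) n))
variable (h2 : (2 : k) ≠ 0) (h3 : Nat.card k ≠ 3)

include hn hc h2 h3 in
/-- a double commutator in `HH` which is not trivial -/
theorem exists_double_commutator_ne_one (hV : M1 (zz s t) n ≠ ⊥) :
    ∃ x ∈ HH hs ht, ∃ y ∈ HH hs ht,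
      x * (x * y * x⁻¹ * y⁻¹) * x⁻¹ * (x * y * x⁻¹ * y⁻¹)⁻¹ ≠ 1 := by
  obtain ⟨lam, hl0, hl1⟩ := exists_ne_zero_sq_ne_one h2 h3
  have hl2 : lam ^ 2 - 1 ≠ 0 := sub_ne_zero.mpr hl1
  have huv : algebraMap k (R1 hs ht n) lam * algebraMap k (R1 hs ht n) lam⁻¹ = 1 := by
    rw [← map_mul, mul_inv_cancel₀ hl0, map_one]
  obtain ⟨hd, hhd⟩ := exists_lift hs ht n (dR_mem_Gam hs ht n hn hc h2 h3 _ _ huv)
  have hq : (sc s hs 1, xR (algebraMap k (R1 hs ht n) 1)) ∈ PP hs ht n :=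
    Subgroup.subset_closure (Or.inl ⟨1, rfl⟩)
  have hconj : ∀ r : R1 hs ht n, dR _ _ huv * xR r * (dR _ _ huv)⁻¹ =
      xR ((algebraMap k (R1 hs ht n) lam) ^ 2 * r) := by
    intro r
    rw [dR_mul_xR, mul_inv_cancel_right]
  have hc1 : dR _ _ huv * xR (algebraMap k (R1 hs ht n) 1) * (dR _ _ huv)⁻¹ *
      (xR (algebraMap k (R1 hs ht n) 1))⁻¹ = xR (algebraMap k (R1 hs ht n) (lam ^ 2 - 1)) := by
    rw [hconj, xR_inv, ← xR_add]
    congr 1
    rw [map_sub, map_pow, map_one]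
    ring
  have hc2 : dR _ _ huv * xR (algebraMap k (R1 hs ht n) (lam ^ 2 - 1)) * (dR _ _ huv)⁻¹ *
      (xR (algebraMap k (R1 hs ht n) (lam ^ 2 - 1)))⁻¹ =
        xR (algebraMap k (R1 hs ht n) ((lam ^ 2 - 1) ^ 2)) := by
    rw [hconj, xR_inv, ← xR_add]
    congr 1
    rw [map_pow, map_sub, map_pow, map_one]
    ring
  refine ⟨hd, fst_mem_HH hs ht n hhd, sc s hs 1, fst_mem_HH hs ht n hq, ?_⟩
  intro h1
  obtain ⟨p, hp, hp1, hp2⟩ : ∃ p ∈ PP hs ht n, p.1 = hd ∧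
      p.2 = dR (algebraMap k (R1 hs ht n) lam) (algebraMap k (R1 hs ht n) lam⁻¹) huv :=
    ⟨_, hhd, rfl, rfl⟩
  obtain ⟨q, hq', hq1, hq2⟩ : ∃ q ∈ PP hs ht n, q.1 = sc s hs 1 ∧
      q.2 = xR (algebraMap k (R1 hs ht n) 1) := ⟨_, hq, rfl, rfl⟩
  have hm1 := (PP hs ht n).mul_mem ((PP hs ht n).mul_mem ((PP hs ht n).mul_mem hp hq')
    ((PP hs ht n).inv_mem hp)) ((PP hs ht n).inv_mem hq')
  have hm2 := (PP hs ht n).mul_mem ((PP hs ht n).mul_mem ((PP hs ht n).mul_mem hp hm1)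
    ((PP hs ht n).inv_mem hp)) ((PP hs ht n).inv_mem hm1)
  have hS := (mem_S1 hs ht n hn hc).mp ((PP_le hs ht n hn hc) hm2).1
  have e1 : (p * (p * q * p⁻¹ * q⁻¹) * p⁻¹ * (p * q * p⁻¹ * q⁻¹)⁻¹).1 = 1 := by
    simp only [Prod.fst_mul, Prod.fst_inv, hp1, hq1]
    exact h1
  have e2 : (p * (p * q * p⁻¹ * q⁻¹) * p⁻¹ * (p * q * p⁻¹ * q⁻¹)⁻¹).2 =
      xR (algebraMap k (R1 hs ht n) ((lam ^ 2 - 1) ^ 2)) := by
    simp only [Prod.snd_mul, Prod.snd_inv, hp2, hq2]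
    rw [hc1, hc2]
  apply s1_ne_zero hs ht n hn hc hV
  apply LinearMap.ext
  intro v
  apply Subtype.ext
  have h4 := hS v
  rw [e1, e2, Phi1_xR_apply] at h4
  have h5 : ((lam ^ 2 - 1) ^ 2) • s (v : M) = 0 := by
    have h6 : (v : M) = (v : M) + ((lam ^ 2 - 1) ^ 2) • s (v : M) := h4
    exact (add_eq_left.mp h6.symm)
  rw [s1_apply, LinearMap.zero_apply, ZeroMemClass.coe_zero]
  exact (smul_eq_zero.mp h5).resolve_left (pow_ne_zero 2 hl2)

end Abstract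

end Cfsg.Agent.Lib.Helper8.Qr
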