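import Mathlib
import Cfsg.Agent.Lib.Helper8.Qr44

/-! Quadratic pairs: the normal closure of the scalar family of a quadratic element is
quasisimple. -/

set_option autoImplicit false
set_option linter.unusedSectionVars false
set_option linter.unusedSimpArgs false

namespace Cfsg.Agent.Lib.Helper8.Qr

open Cfsg Cfsg.Agent.Lib.Helper8.Qp Cfsg.Agent.Lib.Helper8

open scoped commutatorElement

universe u

section Generic

variable {Γ : Type*} [Group Γ]

/-- quasisimplicity from the dichotomy for normal subgroups -/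
theorem quasisimple_of_normal (hperf : commutator Γ = ⊤)
    (hnorm : ∀ N : Subgroup Γ, N.Normal → N ≤ Subgroup.center Γ ∨ N = ⊤)
    (hx : ∃ x : Γ, x ∉ Subgroup.center Γ) : IsQuasisimple Γ := by
  refine ⟨⟨hperf⟩, ?_⟩
  obtain ⟨x, hx⟩ := hx
  refine { exists_pair_ne := ⟨(x : Γ ⧸ Subgroup.center Γ), 1,
    fun h0 => hx ((QuotientGroup.eq_one_iff x).mp h0)⟩, eq_bot_or_eq_top_of_normal := ?_ }
  intro H hH
  rcases hnorm _ (hH.comap (QuotientGroup.mk' (Subgroup.center Γ))) with hle | htop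
  · left
    rw [eq_bot_iff]
    intro y hy
    obtain ⟨g, rfl⟩ := QuotientGroup.mk_surjective y
    have hg : g ∈ H.comap (QuotientGroup.mk' (Subgroup.center Γ)) := hy
    rw [Subgroup.mem_bot]
    exact (QuotientGroup.eq_one_iff g).mpr (hle hg)
  · right
    rw [eq_top_iff]
    intro y _
    obtain ⟨g, rfl⟩ := QuotientGroup.mk_surjective y
    have hg : g ∈ H.comap (QuotientGroup.mk' (Subgroup.center Γ)) := by rw [htop]; trivial
    exact hg

end Generic

variable {k : Type u} [Field k] {M : Type u} [AddCommGroup M] [Module k M]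
variable {G : Subgroup (LinearMap.GeneralLinearGroup k M)}
variable [FiniteDimensional k M]

/-- normal subgroups of the normal closure are central or everything -/
theorem ncl_normal_dichotomy (hG : IsQuadraticPair G) (h2 : (2 : k) ≠ 0) (h3 : Nat.card k ≠ 3)
    {ρ : LinearMap.GeneralLinearGroup k M} (hρ : ρ ∈ quadraticElements G)
    (N : Subgroup ↥(ncl G ρ)) (hN : N.Normal) : N ≤ Subgroup.center ↥(ncl G ρ) ∨ N = ⊤ := by
  have hsup := normal_sup_centralizer hG h2 h3 (ncl_le hρ) (ncl_normal ρ)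
  have hN'H : N.map (ncl G ρ).subtype ≤ ncl G ρ := Subgroup.map_subtype_le N
  have hN'n : G ≤ Subgroup.normalizer ((N.map (ncl G ρ).subtype :
      Subgroup (LinearMap.GeneralLinearGroup k M)) : Set (LinearMap.GeneralLinearGroup k M)) := by
    refine le_trans (le_of_eq hsup.symm) (sup_le ?_ ?_)
    · apply le_normalizer_of_conj_mem
      rintro g hg _ ⟨z, hz, rfl⟩
      refine ⟨⟨g, hg⟩ * z * ⟨g, hg⟩⁻¹, hN.conj_mem z hz ⟨g, hg⟩, rfl⟩
    · apply le_normalizer_of_conj_mem
      rintro g hg _ ⟨z, hz, rfl⟩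
      have := Subgroup.mem_centralizer_iff.mp hg.2 (z : LinearMap.GeneralLinearGroup k M) z.2
      have e : g * (ncl G ρ).subtype z * g⁻¹ = (ncl G ρ).subtype z := by
        show g * (z : LinearMap.GeneralLinearGroup k M) * g⁻¹ = z
        rw [← this, mul_inv_cancel_right]
      rw [e]
      exact ⟨z, hz, rfl⟩
  rcases ncl_le_or hG h2 h3 (le_trans hN'H (ncl_le hρ)) hN'n hρ with h | h
  · right
    rw [eq_top_iff]
    intro x _
    obtain ⟨z, hz, hzx⟩ := h x.2
    have : z = x := Subtype.ext hzx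
    rw [← this]
    exact hz
  · left
    intro z hz
    rw [Subgroup.mem_center_iff]
    intro y
    apply Subtype.ext
    have h1 := Subgroup.mem_centralizer_iff.mp (h y.2) (z : LinearMap.GeneralLinearGroup k M)
      ⟨z, hz, rfl⟩
    show (y : LinearMap.GeneralLinearGroup k M) * z = z * y
    exact h1.symm

/-- there is a conjugate generating a non-unipotent group with the scalar family -/
theorem exists_not_unip (hG : IsQuadraticPair G) {ρ : LinearMap.GeneralLinearGroup k M}
    (hρ : ρ ∈ quadraticElements G) :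
    ∃ g ∈ G, ¬ IsUnipotentOn (scSub (ρ.1 - 1) hρ.2.1.1 ⊔ conjBy (scSub (ρ.1 - 1) hρ.2.1.1) g) := by
  by_contra hcon
  push Not at hcon
  exact not_mem_centralizer_G hG hρ
    (mem_centralizer_of_unip' hG le_rfl Subgroup.le_normalizer hρ hcon)

theorem HH_le_ncl {ρ g : LinearMap.GeneralLinearGroup k M} (hg : g ∈ G)
    (hs : (ρ.1 - 1) * (ρ.1 - 1) = 0)
    (ht : ((g * ρ * g⁻¹).1 - 1) * ((g * ρ * g⁻¹).1 - 1) = 0) : HH hs ht ≤ ncl G ρ := by
  have htg : (g * ρ * g⁻¹).1 - 1 = g.1 * (ρ.1 - 1) * (g⁻¹).1 := conj_sub_one g ρ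
  unfold HH
  rw [Subgroup.closure_le]
  rintro x (⟨c, rfl⟩ | ⟨c, rfl⟩)
  · exact scalarFamily_sub_ncl ρ (sc_mem_scalarFamily ρ hs c)
  · rw [← conj_sc g hs ht htg c]
    exact ncl_conj_mem ρ g hg _ (scalarFamily_sub_ncl ρ (sc_mem_scalarFamily ρ hs c))

theorem ncl_quasisimple (hG : IsQuadraticPair G) (h2 : (2 : k) ≠ 0) (h3 : Nat.card k ≠ 3)
    {ρ : LinearMap.GeneralLinearGroup k M} (hρ : ρ ∈ quadraticElements G) :
    IsQuasisimple ↥(ncl G ρ) := by
  have hsup := normal_sup_centralizer hG h2 h3 (ncl_le hρ) (ncl_normal ρ)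
  apply quasisimple_of_normal
  · -- perfect
    rcases ncl_normal_dichotomy hG h2 h3 hρ (commutator ↥(ncl G ρ)) inferInstance with h | h
    · exfalso
      obtain ⟨g, hg, hnu⟩ := exists_not_unip hG hρ
      have hs := hρ.2.1.1
      have hb := conj_mem_Q hg hρ
      have ht := hb.2.1.1
      obtain ⟨n, hn, hc⟩ := exists_fitting (zz (ρ.1 - 1) ((g * ρ * g⁻¹).1 - 1))
      have hc' : IsCompl (M0 (zz (ρ.1 - 1) ((g * ρ * g⁻¹).1 - 1)) n)
          (M1 (zz (ρ.1 - 1) ((g * ρ * g⁻¹).1 - 1)) n) := hc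
      have hV := M1_ne_bot_of_not_unip hs ht n hc' hnu
      obtain ⟨x, hx, y, hy, hne⟩ := exists_double_commutator_ne_one hs ht n hn hc' h2 h3 hV
      apply hne
      have hxH := HH_le_ncl hg hs ht hx
      have hyH := HH_le_ncl hg hs ht hy
      have hcm : (⁅(⟨x, hxH⟩ : ↥(ncl G ρ)), ⟨y, hyH⟩⁆) ∈ commutator ↥(ncl G ρ) := by
        rw [commutator_def]
        exact Subgroup.commutator_mem_commutator (Subgroup.mem_top _) (Subgroup.mem_top _)
      have hz := Subgroup.mem_center_iff.mp (h hcm) ⟨x, hxH⟩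
      rw [commutatorElement_def] at hz
      have hz' := congrArg Subtype.val hz
      have hz'' : x * (x * y * x⁻¹ * y⁻¹) = (x * y * x⁻¹ * y⁻¹) * x := hz'
      rw [hz'', mul_inv_cancel_right, mul_inv_cancel]
    · rw [commutator_def] at h ⊢
      exact h
  · exact ncl_normal_dichotomy hG h2 h3 hρ
  · refine ⟨⟨ρ, self_mem_ncl ρ⟩, ?_⟩
    intro hz
    apply not_mem_centralizer_G hG hρ
    apply mem_centralizer_G_of hsup (self_mem_ncl ρ)
    rw [Subgroup.mem_centralizer_iff]
    intro y hy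
    have := Subgroup.mem_center_iff.mp hz ⟨y, hy⟩
    exact congrArg Subtype.val this

end Cfsg.Agent.Lib.Helper8.Qr
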