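import Mathlib
import Cfsg.Agent.Lib.Helper8.Qr45

/-! Quadratic pairs: there are only finitely many normal closures of scalar families. -/

set_option autoImplicit false
set_option linter.unusedSectionVars false
set_option linter.unusedSimpArgs false

namespace Cfsg.Agent.Lib.Helper8.Qr

open Cfsg Cfsg.Agent.Lib.Helper8.Qp Cfsg.Agent.Lib.Helper8

open scoped commutatorElement

universe u

variable {k : Type u} [Field k] {M : Type u} [AddCommGroup M] [Module k M]
variable {G : Subgroup (LinearMap.GeneralLinearGroup k M)}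
variable [FiniteDimensional k M]

/-- elements of distinct normal closures commute -/
theorem ncl_elements_commute (hG : IsQuadraticPair G) (h2 : (2 : k) ≠ 0) (h3 : Nat.card k ≠ 3)
    {ρ τ : LinearMap.GeneralLinearGroup k M} (hρ : ρ ∈ quadraticElements G)
    (hτ : τ ∈ quadraticElements G) (h : ncl G ρ ≠ ncl G τ)
    {x y : LinearMap.GeneralLinearGroup k M} (hx : x ∈ ncl G ρ) (hy : y ∈ ncl G τ) :
    x.1 * (y.1 - 1) = (y.1 - 1) * x.1 := by
  have h1 := ncl_comm_of_ne hG h2 h3 hρ hτ h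
  rw [Subgroup.commutator_eq_bot_iff_le_centralizer] at h1
  have h4 := Subgroup.mem_centralizer_iff.mp (h1 hx) y hy
  have h5 : y.1 * x.1 = x.1 * y.1 := by
    rw [← Units.val_mul, ← Units.val_mul, h4]
  rw [mul_sub, sub_mul, h5, mul_one, one_mul]

theorem comm_sub_one {a b : M →ₗ[k] M} (h : a * (b - 1) = (b - 1) * a) :
    (a - 1) * (b - 1) = (b - 1) * (a - 1) := by
  rw [sub_mul, mul_sub (b - 1) a 1, h, one_mul, mul_one]

section Family

variable {ι : Type*} (ρ : ι → LinearMap.GeneralLinearGroup k M)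

/-- the step: the product stays nonzero -/
theorem prod_step_ne_zero (hG : IsQuadraticPair G) (h2 : (2 : k) ≠ 0) (h3 : Nat.card k ≠ 3)
    (hρ : ∀ i, ρ i ∈ quadraticElements G)
    (hne : ∀ i j, i ≠ j → ncl G (ρ i) ≠ ncl G (ρ j))
    (S : Finset ι) {j : ι} (hj : j ∉ S) {P : M →ₗ[k] M} (hP : P ≠ 0)
    (hPc : ∀ x : M →ₗ[k] M, (∀ i ∈ S, x * ((ρ i).1 - 1) = ((ρ i).1 - 1) * x) → x * P = P * x) :
    P * ((ρ j).1 - 1) ≠ 0 := by
  intro h0
  have hjS : ∀ i ∈ S, j ≠ i := by
    rintro i hi rfl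
    exact hj hi
  have hsj : ∀ i ∈ S, ((ρ j).1 - 1) * ((ρ i).1 - 1) = ((ρ i).1 - 1) * ((ρ j).1 - 1) := by
    intro i hi
    have := ncl_elements_commute hG h2 h3 (hρ j) (hρ i) (hne j i (hjS i hi))
      (self_mem_ncl (ρ j)) (self_mem_ncl (ρ i))
    exact comm_sub_one this
  have h0' : ((ρ j).1 - 1) * P = 0 := by rw [hPc _ hsj, h0]
  have hsup := normal_sup_centralizer hG h2 h3 (ncl_le (hρ j)) (ncl_normal (ρ j))
  have hU : LinearMap.range P ≠ ⊥ := fun h => hP (LinearMap.range_eq_bot.mp h)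
  have hUinv : ∀ x ∈ ncl G (ρ j), ∀ u ∈ LinearMap.range P, x.1 u ∈ LinearMap.range P := by
    rintro x hx _ ⟨m, rfl⟩
    refine ⟨x.1 m, ?_⟩
    have h1 : x.1 * P = P * x.1 := by
      apply hPc
      intro i hi
      exact ncl_elements_commute hG h2 h3 (hρ j) (hρ i) (hne j i (hjS i hi)) hx
        (self_mem_ncl (ρ i))
    have := congrArg (fun f : M →ₗ[k] M => f m) h1
    simp only [Module.End.mul_apply] at this
    exact this.symm
  have h1 := eq_one_of_fix hG hsup hU hUinv (self_mem_ncl (ρ j)) (fix_of_mul_eq_zero h0')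
  apply (hρ j).2.1.2
  rw [h1, Units.val_one, sub_self]

/-- products over finite subfamilies are nonzero -/
theorem exists_prod_ne_zero (hG : IsQuadraticPair G) (h2 : (2 : k) ≠ 0) (h3 : Nat.card k ≠ 3)
    (hρ : ∀ i, ρ i ∈ quadraticElements G)
    (hne : ∀ i j, i ≠ j → ncl G (ρ i) ≠ ncl G (ρ j)) (S : Finset ι) :
    ∃ P : M →ₗ[k] M, P ≠ 0 ∧ (∀ i ∈ S, P * ((ρ i).1 - 1) = 0) ∧
      ∀ x : M →ₗ[k] M, (∀ i ∈ S, x * ((ρ i).1 - 1) = ((ρ i).1 - 1) * x) → x * P = P * x := by
  classical
  induction S using Finset.induction_on with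
  | empty =>
    refine ⟨1, ?_, fun i hi => absurd hi (Finset.notMem_empty i), fun x _ => by
      rw [mul_one, one_mul]⟩
    obtain ⟨m₀, hm₀⟩ := hG.1.1
    intro h
    apply hm₀
    have := congrArg (fun f : M →ₗ[k] M => f m₀) h
    simpa using this
  | insert j S hj ih =>
    obtain ⟨P, hP, hP0, hPc⟩ := ih
    have hjS : ∀ i ∈ S, j ≠ i := by
      rintro i hi rfl
      exact hj hi
    have hsj : ∀ i ∈ S, ((ρ j).1 - 1) * ((ρ i).1 - 1) = ((ρ i).1 - 1) * ((ρ j).1 - 1) := by
      intro i hi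
      have := ncl_elements_commute hG h2 h3 (hρ j) (hρ i) (hne j i (hjS i hi))
        (self_mem_ncl (ρ j)) (self_mem_ncl (ρ i))
      exact comm_sub_one this
    refine ⟨P * ((ρ j).1 - 1), prod_step_ne_zero ρ hG h2 h3 hρ hne S hj hP hPc, ?_, ?_⟩
    · intro i hi
      rcases Finset.mem_insert.mp hi with rfl | hi
      · rw [mul_assoc, (hρ i).2.1.1, mul_zero]
      · rw [mul_assoc, hsj i hi, ← mul_assoc, hP0 i hi, zero_mul]
    · intro x hx
      have h1 : x * P = P * x := hPc x (fun i hi => hx i (Finset.mem_insert_of_mem hi))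
      have h2' := hx j (Finset.mem_insert_self j S)
      rw [← mul_assoc, h1, mul_assoc, h2', ← mul_assoc]

/-- a family of quadratic elements with pairwise distinct normal closures is finite -/
theorem finite_of_ncl_ne (hG : IsQuadraticPair G) (h2 : (2 : k) ≠ 0) (h3 : Nat.card k ≠ 3)
    (hρ : ∀ i, ρ i ∈ quadraticElements G)
    (hne : ∀ i j, i ≠ j → ncl G (ρ i) ≠ ncl G (ρ j)) : Finite ι := by
  classical
  have hli : LinearIndependent k (fun i => ((ρ i).1 - 1 : M →ₗ[k] M)) := by
    rw [linearIndependent_iff']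
    intro T c hsum j hj
    obtain ⟨P, hP, hP0, hPc⟩ := exists_prod_ne_zero ρ hG h2 h3 hρ hne (T.erase j)
    have hjS : j ∉ T.erase j := Finset.notMem_erase j T
    have hstep := prod_step_ne_zero ρ hG h2 h3 hρ hne (T.erase j) hjS hP hPc
    have h1 : P * (∑ i ∈ T, c i • ((ρ i).1 - 1 : M →ₗ[k] M)) = 0 := by
      rw [hsum, mul_zero]
    rw [Finset.mul_sum, Finset.sum_eq_single j] at h1
    · rw [mul_smul_comm] at h1
      rcases smul_eq_zero.mp h1 with h | h
      · exact h
      · exact absurd h hstep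
    · intro i hi hij
      rw [mul_smul_comm, hP0 i (Finset.mem_erase.mpr ⟨hij, hi⟩), smul_zero]
    · intro hj'
      exact absurd hj hj'
  exact hli.finite

end Family

/-- there are only finitely many normal closures -/
theorem finite_ncl (hG : IsQuadraticPair G) (h2 : (2 : k) ≠ 0) (h3 : Nat.card k ≠ 3) :
    Finite {H : Subgroup (LinearMap.GeneralLinearGroup k M) //
      ∃ ρ ∈ quadraticElements G, H = ncl G ρ} := by
  apply finite_of_ncl_ne (fun i : {H : Subgroup (LinearMap.GeneralLinearGroup k M) //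
      ∃ ρ ∈ quadraticElements G, H = ncl G ρ} => Classical.choose i.2) hG h2 h3
  · intro i
    exact (Classical.choose_spec i.2).1
  · intro i j hij h
    apply hij
    apply Subtype.ext
    rw [(Classical.choose_spec i.2).2, (Classical.choose_spec j.2).2]
    exact h

end Cfsg.Agent.Lib.Helper8.Qr
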