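import Mathlib

/-!
# Extracting an invertible square submatrix from a matrix with independent columns
-/

set_option autoImplicit false

namespace Cfsg.Agent.Lib.Helper8

/-- A matrix with `r` columns whose associated linear map is injective has `r` rows forming an
invertible matrix. -/
theorem exists_rows_det_ne_zero {K : Type*} [Field K] {m : Type*} [Fintype m] [DecidableEq m]
    {r : ℕ} (W : Matrix m (Fin r) K) (hinj : Function.Injective W.mulVecLin) :
    ∃ f : Fin r → m, (Matrix.of fun i j => W (f i) j).det ≠ 0 := by
  classical
  have hrank : W.rank = r := by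
    unfold Matrix.rank
    rw [LinearMap.finrank_range_of_inj hinj]
    simp
  have hspan : Module.finrank K (Submodule.span K (Set.range W.row)) = r := by
    rw [← Matrix.rank_eq_finrank_span_row, hrank]
  obtain ⟨b, hbt, hbspan, hbli⟩ := exists_linearIndependent K (Set.range W.row)
  have hbfin : b.Finite := (Set.finite_range W.row).subset hbt
  haveI : Fintype b := hbfin.fintype
  have hcard : Fintype.card b = r := by
    have h1 := linearIndependent_iff_card_eq_finrank_span.mp hbli
    rw [h1, Set.finrank, Subtype.range_coe_subtype, Set.ofPred_mem_eq, hbspan, hspan]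
  let e : b ≃ Fin r := Fintype.equivFinOfCardEq hcard
  let A : Matrix (Fin r) (Fin r) K := Matrix.of fun i j => ((e.symm i : b) : Fin r → K) j
  have hArow : A.row = (Subtype.val : b → Fin r → K) ∘ e.symm := by
    funext i
    rfl
  have hAli : LinearIndependent K A.row := by
    rw [hArow]
    exact hbli.comp _ e.symm.injective
  have hAunit : IsUnit A := Matrix.linearIndependent_rows_iff_isUnit.1 hAli
  have hdet : IsUnit A.det := (Matrix.isUnit_iff_isUnit_det A).1 hAunit
  have hmem : ∀ i : Fin r, ∃ a : m, W.row a = ((e.symm i : b) : Fin r → K) := fun i =>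
    hbt (e.symm i).2
  choose f hf using hmem
  refine ⟨f, ?_⟩
  have hA : (Matrix.of fun i j => W (f i) j) = A := by
    ext i j
    have := congrFun (hf i) j
    simpa [A, Matrix.row] using this
  rw [hA]
  exact hdet.ne_zero

end Cfsg.Agent.Lib.Helper8
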