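import Mathlib
import Cfsg.Prelude.Def_Blocks
import Cfsg.Agent.Lib.Helper8.RB1
import Cfsg.Agent.Lib.Helper8.RB2

/-!
# Blocks from classes separated by `p`-elements (Brauer, Robinson)
-/

set_option autoImplicit false

namespace Cfsg.Agent.Lib.Helper8

open Cfsg
open scoped ComplexConjugate
open Cfsg.Agent.Lib.Helper1 Cfsg.Agent.Lib.Helper4

universe u

section

variable {G : Type u} [Group G] [Fintype G] {M : Ideal AlgInt} {p : ℕ}

/-- The central character of an irreducible character, as an algebraic integer. -/
noncomputable def ccAI (ψ : IrrCharacter G) (g : G) : AlgInt :=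
  ⟨centralChar (ψ : G → ℂ) g, isIntegral_centralChar ψ.2 g⟩

theorem coe_ccAI (ψ : IrrCharacter G) (g : G) : ((ccAI ψ g : AlgInt) : ℂ) =
    centralChar (ψ : G → ℂ) g := rfl

/-- Characters in the same block have central characters congruent modulo `M`. -/
theorem mk_ccAI_eq_of_sameBlock (hM : M.IsPrime) {χ ψ : IrrCharacter G}
    (h : SameBlock M (χ : G → ℂ) (ψ : G → ℂ)) (g : G) :
    Ideal.Quotient.mk M (ccAI χ g) = Ideal.Quotient.mk M (ccAI ψ g) := by
  rw [Ideal.Quotient.eq, ← memLocalIdeal_algInt_iff hM]
  have := h g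
  simpa [coe_ccAI] using this

/-- Existence of `r` irreducible characters in blocks with defect group `D` whose central
characters on the given classes form a matrix invertible modulo `M`. -/
theorem exists_irr_det_ne_zero (hM : IsPModular p M) (D : Subgroup G) {r : ℕ}
    (x : Fin r → G) (hx : ∀ i j : Fin r, IsConj (x i) (x j) → i = j)
    (hD : ∀ i : Fin r, ∃ S : Sylow p ↥(Subgroup.centralizer ({x i} : Set G)),
      (S : Subgroup ↥(Subgroup.centralizer ({x i} : Set G))).map
        (Subgroup.centralizer ({x i} : Set G)).subtype = D)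
    (hsep : ∀ i j : Fin r, ∀ g h : G, IsConj (x i) g → IsConj (x j) h →
      (∃ n : ℕ, orderOf (g⁻¹ * h) = p ^ n) → g = h) :
    ∃ ψs : Fin r → IrrCharacter G, (∀ i, IsDefectGroup p M (blockOf M (ψs i : G → ℂ)) D) ∧
      (Matrix.of fun i j => Ideal.Quotient.mk M (ccAI (ψs i) (x j))).det ≠ 0 := by
  classical
  haveI hp : Fact p.Prime := ⟨hM.1⟩
  have hMp := isPModular_isPrime hM
  haveI : M.IsMaximal := hM.2.1
  haveI : Fintype (IrrCharacter G) := Fintype.ofFinite _
  letI : Field (AlgInt ⧸ M) := Ideal.Quotient.field M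
  let W : Matrix (IrrCharacter G) (Fin r) (AlgInt ⧸ M) := fun ψ j =>
    if IsDefectGroup p M (blockOf M (ψ : G → ℂ)) D then Ideal.Quotient.mk M (ccAI ψ (x j)) else 0
  have hinj : Function.Injective W.mulVecLin := by
    rw [injective_iff_map_eq_zero]
    intro cbar hcbar
    have hlift : ∀ j, ∃ c : AlgInt, Ideal.Quotient.mk M c = cbar j := fun j =>
      Ideal.Quotient.mk_surjective (cbar j)
    choose c hc using hlift
    have hkey : ∀ k, MemLocalIdeal M ((c k : AlgInt) : ℂ) := by
      apply memLocalIdeal_coeff_of_forall_defect hM D x hx hD hsep (fun j => ((c j : AlgInt) : ℂ))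
        (fun j => memLocalRing_algInt hMp.ne_top (c j))
      intro ψ hψ
      have h1 := congrFun hcbar ψ
      rw [Matrix.mulVecLin_apply, Matrix.mulVec, dotProduct] at h1
      simp only [W, if_pos hψ, ← hc, ← map_mul, ← map_sum, Pi.zero_apply] at h1
      rw [Ideal.Quotient.eq_zero_iff_mem, ← memLocalIdeal_algInt_iff hMp] at h1
      convert h1 using 1
      push_cast
      refine Finset.sum_congr rfl fun j _ => ?_
      rw [coe_ccAI, mul_comm]
    funext k
    rw [← hc k, Pi.zero_apply, Ideal.Quotient.eq_zero_iff_mem, ← memLocalIdeal_algInt_iff hMp]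
    exact hkey k
  obtain ⟨f, hf⟩ := exists_rows_det_ne_zero W hinj
  have hfD : ∀ i, IsDefectGroup p M (blockOf M (f i : G → ℂ)) D := by
    intro i
    by_contra hcon
    apply hf
    apply Matrix.det_eq_zero_of_row_eq_zero i
    intro j
    simp only [Matrix.of_apply, W, if_neg hcon]
  refine ⟨f, hfD, ?_⟩
  have hWf : (Matrix.of fun i j => Ideal.Quotient.mk M (ccAI (f i) (x j))) =
      (Matrix.of fun i j => W (f i) j) := by
    ext i j
    simp only [Matrix.of_apply, W, if_pos (hfD i)]
  rw [hWf]
  exact hf

/-- A finite product of local integers outside the local ideal is outside the local ideal. -/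
theorem memLocalRing_and_not_memLocalIdeal_prod (hM : M.IsPrime) {ι : Type*} (s : Finset ι)
    (f : ι → ℂ) (h : ∀ i ∈ s, MemLocalRing M (f i) ∧ ¬ MemLocalIdeal M (f i)) :
    MemLocalRing M (∏ i ∈ s, f i) ∧ ¬ MemLocalIdeal M (∏ i ∈ s, f i) := by
  classical
  induction s using Finset.induction_on with
  | empty =>
    rw [Finset.prod_empty]
    exact ⟨memLocalRing_one hM.ne_top, not_memLocalIdeal_one hM⟩
  | insert a s ha ih =>
    rw [Finset.prod_insert ha]
    have h1 := h a (Finset.mem_insert_self a s)
    have h2 := ih (fun i hi => h i (Finset.mem_insert_of_mem hi))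
    exact ⟨memLocalRing_mul hM h1.1 h2.1, not_memLocalIdeal_mul hM h1.1 h2.1 h1.2 h2.2⟩

/-- For a height zero character in a block with defect group `D` and an element `g` whose
centralizer has `D` as a Sylow subgroup, the ratio of class size to degree is a local integer. -/
theorem memLocalRing_index_div_degree (hM : IsPModular p M) {B : Set (IrrCharacter G)}
    (hB : IsPBlock M B) (D : Subgroup G) (hBD : IsDefectGroup p M B D) (χ : IrrCharacter G)
    (hχ : χ ∈ B) (h0 : blockHeight p B (χ : G → ℂ) = 0) (g : G)
    (S : Sylow p (Subgroup.centralizer ({g} : Set G)))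
    (hS : (S : Subgroup (Subgroup.centralizer ({g} : Set G))).map
      (Subgroup.centralizer ({g} : Set G)).subtype = D) :
    MemLocalRing M (((Subgroup.centralizer ({g} : Set G)).index : ℂ) / (χ : G → ℂ) 1) := by
  classical
  haveI hp : Fact p.Prime := ⟨hM.1⟩
  have hMp := isPModular_isPrime hM
  obtain ⟨hd1, hd0⟩ := irr_apply_one_eq_charDegree χ.2
  rw [hd1]
  have hDcard2 : Nat.card D =
      p ^ (Nat.card (Subgroup.centralizer ({g} : Set G))).factorization p :=
    card_of_sylow_map_eq (Subgroup.centralizer ({g} : Set G)) D S hS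
  clear hS S
  set C := Subgroup.centralizer ({g} : Set G) with hC
  -- the defect of `B`
  obtain ⟨w, hw, P, hP⟩ := hBD
  have hDcard1 : Nat.card D = p ^ blockDefect p B := by
    rw [hP, Nat.card_congr (Subgroup.equivMapOfInjective _ _
      (Subgroup.subtype_injective _)).symm.toEquiv]
    exact card_sylow_centralizer_of_isDefectClass hM hB hw P
  have hdef : blockDefect p B = (Nat.card C).factorization p :=
    Nat.pow_right_injective hM.1.two_le (hDcard1.symm.trans hDcard2)
  have h1 : sInf ((fun ψ : IrrCharacter G => (charDegree (ψ : G → ℂ)).factorization p) '' B) ≤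
      (charDegree (χ : G → ℂ)).factorization p := Nat.sInf_le ⟨χ, hχ, rfl⟩
  have h2 : (Nat.card C).factorization p + C.index.factorization p =
      (Nat.card G).factorization p := by
    rw [← C.card_mul_index, Nat.factorization_mul Nat.card_pos.ne'
      Subgroup.index_ne_zero_of_finite, Finsupp.add_apply]
  have h3 : (charDegree (χ : G → ℂ)).factorization p ≤ (Nat.card G).factorization p :=
    (Nat.factorization_le_iff_dvd hd0.ne' Nat.card_pos.ne').2 (charDegree_dvd_card χ.2) p
  have hval : (C.index).factorization p = (charDegree (χ : G → ℂ)).factorization p := by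
    unfold blockHeight at h0
    unfold blockDefect at hdef
    omega
  have := (unit_div_iff hM (C.index : ℤ) (charDegree (χ : G → ℂ)) hd0.ne').2
    ⟨by exact_mod_cast Subgroup.index_ne_zero_of_finite, by
      rw [padicValInt.of_nat, ← hval, Nat.factorization_def _ hM.1]⟩
  simpa using this.1

/-- **Brauer–Robinson**: classes separated by `p`-elements with common defect group `D` give as
many blocks with defect group `D`, and the corresponding square piece of the character table is
invertible modulo `M` on height zero characters. -/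
theorem exists_blocks_of_separated (hM : IsPModular p M) (D : Subgroup G) {r : ℕ}
    (x : Fin r → G) (hx : ∀ i j : Fin r, IsConj (x i) (x j) → i = j)
    (hD : ∀ i : Fin r, ∃ S : Sylow p ↥(Subgroup.centralizer ({x i} : Set G)),
      (S : Subgroup ↥(Subgroup.centralizer ({x i} : Set G))).map
        (Subgroup.centralizer ({x i} : Set G)).subtype = D)
    (hsep : ∀ i j : Fin r, ∀ g h : G, IsConj (x i) g → IsConj (x j) h →
      (∃ n : ℕ, orderOf (g⁻¹ * h) = p ^ n) → g = h) :
    ∃ B : Fin r → Set (IrrCharacter G), Function.Injective B ∧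
      (∀ i : Fin r, IsPBlock M (B i) ∧ IsDefectGroup p M (B i) D) ∧
      ∀ χ : Fin r → IrrCharacter G,
        (∀ i : Fin r, χ i ∈ B i ∧ blockHeight p (B i) (χ i : G → ℂ) = 0) →
        ¬ MemLocalIdeal M (Matrix.det (Matrix.of fun i j : Fin r => (χ i : G → ℂ) (x j))) := by
  classical
  haveI hp : Fact p.Prime := ⟨hM.1⟩
  have hMp := isPModular_isPrime hM
  obtain ⟨ψs, hψD, hdet⟩ := exists_irr_det_ne_zero hM D x hx hD hsep
  refine ⟨fun i => blockOf M (ψs i : G → ℂ), ?_, fun i => ⟨⟨ψs i, rfl⟩, hψD i⟩, ?_⟩
  · intro i i' hii'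
    by_contra hne
    apply hdet
    apply Matrix.det_zero_of_row_eq hne
    funext j
    simp only [Matrix.of_apply]
    have h1 : ψs i' ∈ blockOf M (ψs i : G → ℂ) := by
      have h2 : blockOf M (ψs i : G → ℂ) = blockOf M (ψs i' : G → ℂ) := hii'
      rw [h2]
      exact sameBlock_refl hMp.ne_top _
    exact mk_ccAI_eq_of_sameBlock hMp h1 (x j)
  · intro χ hχ
    -- the matrix of central characters
    let Ω : Matrix (Fin r) (Fin r) AlgInt := Matrix.of fun i j => ccAI (χ i) (x j)
    have hΩmap : (Ideal.Quotient.mk M).mapMatrix Ω =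
        Matrix.of fun i j => Ideal.Quotient.mk M (ccAI (ψs i) (x j)) := by
      ext i j
      simp only [RingHom.mapMatrix_apply, Matrix.map_apply, Matrix.of_apply, Ω]
      exact (mk_ccAI_eq_of_sameBlock hMp (hχ i).1 (x j)).symm
    have hΩdet : Ω.det ∉ M := by
      rw [← Ideal.Quotient.eq_zero_iff_mem, RingHom.map_det, hΩmap]
      exact hdet
    have hΩdet' : ¬ MemLocalIdeal M ((Ω.det : AlgInt) : ℂ) := by
      rw [memLocalIdeal_algInt_iff hMp]
      exact hΩdet
    have hcoe : ((Ω.det : AlgInt) : ℂ) =
        (Matrix.of fun i j : Fin r => centralChar (χ i : G → ℂ) (x j)).det := by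
      have h1 := RingHom.map_det (algebraMap AlgInt ℂ) Ω
      rw [show ((Ω.det : AlgInt) : ℂ) = algebraMap AlgInt ℂ Ω.det from rfl, h1]
      congr 1
    -- scaling rows and columns
    have hscale : (Matrix.of fun i j : Fin r => centralChar (χ i : G → ℂ) (x j)).det =
        (∏ i, ((Subgroup.centralizer ({x i} : Set G)).index : ℂ) / (χ i : G → ℂ) 1) *
        (Matrix.of fun i j : Fin r => (χ i : G → ℂ) (x j)).det := by
      let X : Matrix (Fin r) (Fin r) ℂ := Matrix.of fun i j : Fin r => (χ i : G → ℂ) (x j)
      let v : Fin r → ℂ := fun i => ((χ i : G → ℂ) 1)⁻¹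
      let w : Fin r → ℂ := fun j => ((Subgroup.centralizer ({x j} : Set G)).index : ℂ)
      have h1 : (Matrix.of fun i j : Fin r => centralChar (χ i : G → ℂ) (x j)) =
          Matrix.of fun i j : Fin r => v i * (Matrix.of fun i j : Fin r => w j * X i j) i j := by
        ext i j
        simp only [Matrix.of_apply, v, w, X]
        unfold centralChar
        have := irr_apply_one_ne_zero (χ i).2
        field_simp
      rw [h1, Matrix.det_mul_column v, Matrix.det_mul_row w X]
      rw [← mul_assoc, ← Finset.prod_mul_distrib]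
      congr 1
      refine Finset.prod_congr rfl fun i _ => ?_
      simp only [v, w]
      rw [div_eq_mul_inv, mul_comm]
    intro hX
    apply hΩdet'
    rw [hcoe, hscale]
    apply memLocalIdeal_mul_left hMp _ hX
    apply memLocalRing_prod hMp
    intro i _
    obtain ⟨S, hS⟩ := hD i
    exact memLocalRing_index_div_degree hM ⟨ψs i, rfl⟩ D (hψD i) (χ i) (hχ i).1 (hχ i).2 (x i) S hS

end

end Cfsg.Agent.Lib.Helper8
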