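import Mathlib
import Cfsg.Prelude.Def_Blocks
import Cfsg.Agent.Lib.Helper8.RB3
import Cfsg.Agent.Lib.Helper8.BlockFirstMain3

/-!
# Characters of defect zero from a single separated class
-/

set_option autoImplicit false

namespace Cfsg.Agent.Lib.Helper8

open Cfsg
open scoped ComplexConjugate
open Cfsg.Agent.Lib.Helper1 Cfsg.Agent.Lib.Helper4

universe u

section

variable {G : Type u} [Group G] [Fintype G] {M : Ideal AlgInt} {p : ℕ}

/-- Characters in a block of defect zero have full `p`-part in their degree. -/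
theorem factorization_degree_eq_of_blockDefect_eq_zero [Fact p.Prime]
    {B : Set (IrrCharacter G)} (h0 : blockDefect p B = 0) {χ : IrrCharacter G} (hχ : χ ∈ B) :
    (charDegree (χ : G → ℂ)).factorization p = (Nat.card G).factorization p := by
  have hp : p.Prime := Fact.out
  obtain ⟨hd1, hd0⟩ := irr_apply_one_eq_charDegree χ.2
  have h1 : sInf ((fun ψ : IrrCharacter G => (charDegree (ψ : G → ℂ)).factorization p) '' B) ≤
      (charDegree (χ : G → ℂ)).factorization p := Nat.sInf_le ⟨χ, hχ, rfl⟩
  have h3 : (charDegree (χ : G → ℂ)).factorization p ≤ (Nat.card G).factorization p :=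
    (Nat.factorization_le_iff_dvd hd0.ne' Nat.card_pos.ne').2 (charDegree_dvd_card χ.2) p
  unfold blockDefect at h0
  omega

/-- **Robinson**: a class of elements with `p'`-centralizers, no two distinct members of which
differ by a `p`-element, yields a character of `p`-defect zero. -/
theorem exists_irr_defect_zero_of_separated (hM : IsPModular p M) (z : G)
    (hz : ¬ p ∣ Nat.card (Subgroup.centralizer ({z} : Set G)))
    (hsep : ∀ g h : G, IsConj z g → IsConj z h → (∃ n : ℕ, orderOf (g⁻¹ * h) = p ^ n) → g = h) :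
    ∃ χ : IrrCharacter G,
      (charDegree (χ : G → ℂ)).factorization p = (Nat.card G).factorization p := by
  classical
  haveI hp : Fact p.Prime := ⟨hM.1⟩
  have hD : ∀ i : Fin 1, ∃ S : Sylow p ↥(Subgroup.centralizer ({(fun _ : Fin 1 => z) i} : Set G)),
      (S : Subgroup ↥(Subgroup.centralizer ({(fun _ : Fin 1 => z) i} : Set G))).map
        (Subgroup.centralizer ({(fun _ : Fin 1 => z) i} : Set G)).subtype = (⊥ : Subgroup G) := by
    intro i
    have S : Sylow p ↥(Subgroup.centralizer ({z} : Set G)) := default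
    refine ⟨S, ?_⟩
    have hcard : Nat.card (S : Subgroup ↥(Subgroup.centralizer ({z} : Set G))) = 1 := by
      rw [Sylow.card_eq_multiplicity, Nat.factorization_eq_zero_of_not_dvd hz, pow_zero]
    rw [Subgroup.eq_bot_of_card_eq _ hcard, Subgroup.map_bot]
  obtain ⟨B, -, hB, -⟩ := exists_blocks_of_separated hM (⊥ : Subgroup G) (fun _ : Fin 1 => z)
    (fun i j _ => Subsingleton.elim i j) hD (fun _ _ g h hg hh hn => hsep g h hg hh hn)
  obtain ⟨hB1, hB2⟩ := hB 0
  have hcard := card_of_isDefectGroup hM hB1 hB2
  rw [Subgroup.card_bot] at hcard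
  have h0 : blockDefect p (B 0) = 0 := by
    by_contra hne
    have : 1 < p ^ blockDefect p (B 0) := Nat.one_lt_pow hne hM.1.one_lt
    omega
  obtain ⟨χ, hχ⟩ := isPBlock_nonempty (isPModular_isPrime hM) hB1
  exact ⟨χ, factorization_degree_eq_of_blockDefect_eq_zero h0 hχ⟩

end

end Cfsg.Agent.Lib.Helper8
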