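import Mathlib
import Cfsg.Agent.Lib.Helper8.SylowCard

/-!
# Involutions inverting `p`-elements when centralizers of `p`-elements have odd order
-/

set_option autoImplicit false

namespace Cfsg.Agent.Lib.Helper8

open scoped Pointwise

universe u

section

variable {G : Type u} [Group G]

/-- Conjugation by an element normalizing a subgroup, as an automorphism of the subgroup. -/
def conjRestrict (N : Subgroup G) (g : G) (hg : ∀ c ∈ N, g * c * g⁻¹ ∈ N)
    (hg' : ∀ c ∈ N, g⁻¹ * c * g ∈ N) : MulAut N where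
  toFun c := ⟨g * c * g⁻¹, hg c c.2⟩
  invFun c := ⟨g⁻¹ * c * g, hg' c c.2⟩
  left_inv c := Subtype.ext (by simp [mul_assoc])
  right_inv c := Subtype.ext (by simp [mul_assoc])
  map_mul' a b := Subtype.ext (by simp [mul_assoc])

theorem conjRestrict_apply (N : Subgroup G) (g : G) (hg : ∀ c ∈ N, g * c * g⁻¹ ∈ N)
    (hg' : ∀ c ∈ N, g⁻¹ * c * g ∈ N) (c : N) :
    ((conjRestrict N g hg hg' c : N) : G) = g * c * g⁻¹ := rfl

/-- An element of square one normalizing a subgroup of odd order normalizes one of its Sylow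
subgroups. -/
theorem exists_invariant_sylow_of_sq_eq_one [Finite G] (p : ℕ) [Fact p.Prime] (N : Subgroup G)
    (hN : Odd (Nat.card N)) (g : G) (hg2 : g * g = 1) (hg : ∀ c ∈ N, g * c * g⁻¹ ∈ N) :
    ∃ Q : Sylow p N, ∀ w : N, w ∈ Q → (⟨g * w * g⁻¹, hg w w.2⟩ : N) ∈ Q := by
  have hginv : g⁻¹ = g := inv_eq_of_mul_eq_one_left hg2
  have hg' : ∀ c ∈ N, g⁻¹ * c * g ∈ N := by
    intro c hc
    have := hg c hc
    rw [hginv] at this ⊢
    exact this
  let φ : MulAut N := conjRestrict N g hg hg'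
  have hφ2 : φ * φ = 1 := by
    ext c
    rw [MulAut.mul_apply, MulAut.one_apply, conjRestrict_apply, conjRestrict_apply, hginv]
    calc g * (g * ↑c * g) * g = (g * g) * c * (g * g) := by group
      _ = c := by rw [hg2, one_mul, mul_one]
  let K : Subgroup (MulAut N) := Subgroup.zpowers φ
  have hK : IsPGroup 2 K := by
    intro k
    refine ⟨1, ?_⟩
    obtain ⟨k, hk⟩ := k
    obtain ⟨j, rfl⟩ := Subgroup.mem_zpowers_iff.1 hk
    apply Subtype.ext
    rw [pow_one, Subgroup.coe_pow, Subgroup.coe_one]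
    show (φ ^ j) ^ 2 = 1
    rw [← zpow_natCast, ← zpow_mul, mul_comm, zpow_mul, zpow_natCast, pow_two, hφ2, one_zpow]
  have hodd : ¬ 2 ∣ Nat.card (Sylow p N) := by
    intro h2
    have Q0 : Sylow p N := default
    have h3 : Nat.card (Sylow p N) ∣ Nat.card N :=
      (Sylow.card_dvd_index Q0).trans (Subgroup.index_dvd_card _)
    have := (Nat.odd_iff.1 hN)
    have h4 := h2.trans h3
    omega
  obtain ⟨Q, hQ⟩ := hK.nonempty_fixed_point_of_prime_not_dvd_card (Sylow p N) hodd
  refine ⟨Q, fun w hw => ?_⟩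
  have h1 : (⟨φ, Subgroup.mem_zpowers φ⟩ : K) • Q = Q := hQ _
  have h2 : φ • Q = Q := h1
  have h3 : φ • w ∈ φ • (Q : Subgroup N) := Subgroup.smul_mem_pointwise_smul w φ Q hw
  rw [← Sylow.pointwise_smul_def, h2] at h3
  exact h3

/-- An element of square one acting by conjugation without non-trivial fixed points on a finite
subgroup inverts it, and the subgroup is abelian. -/
theorem inverts_of_fixedPointFree (Q : Subgroup G) [Finite Q] (g : G) (hg2 : g * g = 1)
    (hg : ∀ w ∈ Q, g * w * g⁻¹ ∈ Q) (hfix : ∀ w ∈ Q, g * w * g⁻¹ = w → w = 1) :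
    (∀ w ∈ Q, g * w * g⁻¹ = w⁻¹) ∧ ∀ a ∈ Q, ∀ b ∈ Q, a * b = b * a := by
  have hginv : g⁻¹ = g := inv_eq_of_mul_eq_one_left hg2
  have hg' : ∀ c ∈ Q, g⁻¹ * c * g ∈ Q := by
    intro c hc
    have := hg c hc
    rw [hginv] at this ⊢
    exact this
  let φ : Q →* Q := (conjRestrict Q g hg hg').toMonoidHom
  have hφ : MonoidHom.FixedPointFree φ := by
    intro w hw
    have h1 : g * (w : G) * g⁻¹ = w := congrArg Subtype.val hw
    exact Subtype.ext (hfix w w.2 h1)
  have hinv : Function.Involutive φ := by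
    intro c
    apply Subtype.ext
    show g * (g * (c : G) * g⁻¹) * g⁻¹ = c
    rw [hginv]
    calc g * (g * ↑c * g) * g = (g * g) * c * (g * g) := by group
      _ = c := by rw [hg2, one_mul, mul_one]
  constructor
  · intro w hw
    have h1 := congrFun (hφ.coe_eq_inv_of_involutive hinv) ⟨w, hw⟩
    exact congrArg Subtype.val h1
  · intro a ha b hb
    have h1 := hφ.commute_all_of_involutive hinv ⟨a, ha⟩ ⟨b, hb⟩
    exact congrArg Subtype.val h1.eq

end

section Main

variable {G : Type u} [Group G] [Finite G] (p : ℕ) [hp : Fact p.Prime]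

/-- If centralizers of non-identity `p`-elements have odd order and the involution `g` inverts the
non-identity `p`-element `v`, then `g` inverts an abelian Sylow `p`-subgroup of the centralizer of
`v`. -/
theorem exists_inverted_sylow_centralizer
    (hC : ∀ g : G, g ≠ 1 → (∃ k : ℕ, orderOf g = p ^ k) →
      Odd (Nat.card (Subgroup.centralizer ({g} : Set G))))
    (g v : G) (hg : orderOf g = 2) (hv1 : v ≠ 1) (hv : ∃ k : ℕ, orderOf v = p ^ k)
    (hinv : g * v * g⁻¹ = v⁻¹) :
    ∃ Q : Subgroup G, Q ≤ Subgroup.centralizer ({v} : Set G) ∧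
      Nat.card Q = p ^ (Nat.card (Subgroup.centralizer ({v} : Set G))).factorization p ∧
      v ∈ Q ∧ (∀ w ∈ Q, g * w * g⁻¹ = w⁻¹) ∧ ∀ a ∈ Q, ∀ b ∈ Q, a * b = b * a := by
  have hg2 : g * g = 1 := by rw [← pow_two, ← hg, pow_orderOf_eq_one]
  have hginv : g⁻¹ = g := inv_eq_of_mul_eq_one_left hg2
  set N := Subgroup.centralizer ({v} : Set G) with hN
  have hgN : ∀ c ∈ N, g * c * g⁻¹ ∈ N := by
    intro c hc
    rw [hN, Subgroup.mem_centralizer_singleton_iff] at hc ⊢
    -- (g c g⁻¹) commutes with v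
    have h1 : g⁻¹ * v * g = v⁻¹ := by
      rw [hginv]
      rw [hginv] at hinv
      exact hinv
    have h2 : c * v⁻¹ = v⁻¹ * c := ((show Commute c v from hc).inv_right).eq
    calc g * c * g⁻¹ * v = g * (c * (g⁻¹ * v * g)) * g⁻¹ := by group
      _ = g * (c * v⁻¹) * g⁻¹ := by rw [h1]
      _ = g * (v⁻¹ * c) * g⁻¹ := by rw [h2]
      _ = g * ((g⁻¹ * v * g) * c) * g⁻¹ := by rw [h1]
      _ = v * (g * c * g⁻¹) := by group
  obtain ⟨Q₀, hQ₀⟩ := exists_invariant_sylow_of_sq_eq_one p N (hC v hv1 hv) g hg2 hgN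
  set Q : Subgroup G := (Q₀ : Subgroup N).map N.subtype with hQ
  have hQN : Q ≤ N := by
    rintro x ⟨y, -, rfl⟩
    exact y.2
  have hQcard : Nat.card Q = p ^ (Nat.card N).factorization p :=
    card_of_sylow_map_eq N Q Q₀ rfl
  have hQp : IsPGroup p Q := IsPGroup.of_card hQcard
  have hgQ : ∀ w ∈ Q, g * w * g⁻¹ ∈ Q := by
    rintro w ⟨y, hy, rfl⟩
    exact ⟨_, hQ₀ y hy, rfl⟩
  have hfix : ∀ w ∈ Q, g * w * g⁻¹ = w → w = 1 := by
    intro w hw hgw
    by_contra hw1
    have hwp : ∃ k : ℕ, orderOf w = p ^ k := by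
      obtain ⟨k, hk⟩ := (IsPGroup.iff_orderOf.1 hQp) ⟨w, hw⟩
      exact ⟨k, by rw [← hk, Subgroup.orderOf_mk]⟩
    have hodd := hC w hw1 hwp
    have hgmem : g ∈ Subgroup.centralizer ({w} : Set G) := by
      rw [Subgroup.mem_centralizer_singleton_iff]
      calc g * w = (g * w * g⁻¹) * g := by group
        _ = w * g := by rw [hgw]
    have h2 : orderOf (⟨g, hgmem⟩ : Subgroup.centralizer ({w} : Set G)) ∣
        Nat.card (Subgroup.centralizer ({w} : Set G)) := orderOf_dvd_natCard _
    rw [Subgroup.orderOf_mk, hg] at h2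
    have := Nat.odd_iff.1 hodd
    omega
  haveI : Finite Q := inferInstance
  obtain ⟨h1, h2⟩ := inverts_of_fixedPointFree Q g hg2 hgQ hfix
  refine ⟨Q, hQN, hQcard, ?_, h1, h2⟩
  -- v lies in Q
  have hvN : v ∈ N := by
    rw [hN, Subgroup.mem_centralizer_singleton_iff]
  let v' : N := ⟨v, hvN⟩
  have hZn : (Subgroup.zpowers v').Normal := by
    constructor
    intro n hn c
    obtain ⟨j, rfl⟩ := Subgroup.mem_zpowers_iff.1 hn
    have hc : (c : G) * v = v * c := Subgroup.mem_centralizer_singleton_iff.1 c.2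
    have hcomm : Commute c v' := by
      apply Subtype.ext
      exact hc
    have : c * v' ^ j * c⁻¹ = v' ^ j := by
      rw [(hcomm.zpow_right j).eq, mul_inv_cancel_right]
    rw [this]
    exact Subgroup.zpow_mem_zpowers v' j
  have hZp : IsPGroup p (Subgroup.zpowers v') := by
    obtain ⟨k, hk⟩ := hv
    apply IsPGroup.of_card (n := k)
    rw [Nat.card_zpowers, Subgroup.orderOf_mk, hk]
  have hle := hZp.le_sylow_of_normal Q₀
  exact ⟨v', hle (Subgroup.mem_zpowers v'), rfl⟩

/-- **Robinson's group-theoretic step**: if centralizers of non-identity `p`-elements have odd order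
and some involution inverts a non-identity `p`-element, then the Sylow `p`-subgroups are abelian with
normalizers of even order. -/
theorem sylow_abelian_of_inverted
    (hC : ∀ g : G, g ≠ 1 → (∃ k : ℕ, orderOf g = p ^ k) →
      Odd (Nat.card (Subgroup.centralizer ({g} : Set G))))
    (g u : G) (hg : orderOf g = 2) (hu1 : u ≠ 1) (hu : ∃ k : ℕ, orderOf u = p ^ k)
    (hinv : g * u * g⁻¹ = u⁻¹) (P₁ : Sylow p G) :
    Even (Nat.card (Subgroup.normalizer ((P₁ : Subgroup G) : Set G))) ∧
      IsMulCommutative (P₁ : Subgroup G) := by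
  obtain ⟨Q, hQN, hQcard, huQ, hQinv, -⟩ := exists_inverted_sylow_centralizer p hC g u hg hu1 hu hinv
  have hQp : IsPGroup p Q := IsPGroup.of_card hQcard
  obtain ⟨P, hQP⟩ := hQp.exists_le_sylow
  -- a non-identity central element of `P`
  haveI : Nontrivial (P : Subgroup G) := by
    refine ⟨⟨⟨u, hQP huQ⟩, 1, ?_⟩⟩
    intro h
    exact hu1 (congrArg Subtype.val h)
  haveI := P.isPGroup'.center_nontrivial
  obtain ⟨w₀, hw₀⟩ := exists_ne (1 : Subgroup.center (P : Subgroup G))
  set w : G := ((w₀ : (P : Subgroup G)) : G) with hw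
  have hw1 : w ≠ 1 := by
    intro h
    apply hw₀
    apply Subtype.ext
    apply Subtype.ext
    exact h
  have hwP : w ∈ (P : Subgroup G) := (w₀ : (P : Subgroup G)).2
  have hwcomm : ∀ y ∈ (P : Subgroup G), y * w = w * y := by
    intro y hy
    have h1 := Subgroup.mem_center_iff.1 w₀.2 ⟨y, hy⟩
    exact congrArg Subtype.val h1
  have hwp : ∃ k : ℕ, orderOf w = p ^ k := by
    obtain ⟨k, hk⟩ := (IsPGroup.iff_orderOf.1 P.isPGroup') ⟨w, hwP⟩
    exact ⟨k, by rw [← hk, Subgroup.orderOf_mk]⟩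
  -- `w` lies in `Q`
  have hwQ : w ∈ Q := by
    set N := Subgroup.centralizer ({u} : Set G) with hN
    have hR : IsPGroup p ((P : Subgroup G) ⊓ N : Subgroup G) := P.isPGroup'.to_le inf_le_left
    have hQR : Q ≤ (P : Subgroup G) ⊓ N := le_inf hQP hQN
    have hRcard : Nat.card ((P : Subgroup G) ⊓ N : Subgroup G) ≤ Nat.card Q := by
      obtain ⟨k, hk⟩ := IsPGroup.iff_card.1 hR
      rw [hk, hQcard]
      apply Nat.pow_le_pow_right hp.out.pos
      have h1 : p ^ k ∣ Nat.card N := by
        rw [← hk]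
        exact Subgroup.card_dvd_of_le inf_le_right
      exact (hp.out.pow_dvd_iff_le_factorization Nat.card_pos.ne').1 h1
    have heq : Q = (P : Subgroup G) ⊓ N := Subgroup.eq_of_le_of_card_ge hQR hRcard
    rw [heq]
    refine ⟨hwP, ?_⟩
    show w ∈ Subgroup.centralizer ({u} : Set G)
    rw [Subgroup.mem_centralizer_singleton_iff]
    exact (hwcomm u (hQP huQ)).symm
  have hwinv : g * w * g⁻¹ = w⁻¹ := hQinv w hwQ
  obtain ⟨Q₂, hQ₂N, hQ₂card, -, hQ₂inv, hQ₂comm⟩ :=
    exists_inverted_sylow_centralizer p hC g w hg hw1 hwp hwinv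
  -- `Q₂` is a Sylow subgroup of `G`
  have hPle : (P : Subgroup G) ≤ Subgroup.centralizer ({w} : Set G) := by
    intro y hy
    rw [Subgroup.mem_centralizer_singleton_iff]
    exact hwcomm y hy
  have hfac : (Nat.card (Subgroup.centralizer ({w} : Set G))).factorization p =
      (Nat.card G).factorization p := by
    apply le_antisymm
    · exact (Nat.factorization_le_iff_dvd Nat.card_pos.ne' Nat.card_pos.ne').2
        (Subgroup.card_subgroup_dvd_card _) p
    · have h1 : p ^ (Nat.card G).factorization p ∣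
          Nat.card (Subgroup.centralizer ({w} : Set G)) := by
        rw [← P.card_eq_multiplicity]
        exact Subgroup.card_dvd_of_le hPle
      exact (hp.out.pow_dvd_iff_le_factorization Nat.card_pos.ne').1 h1
  rw [hfac] at hQ₂card
  let P₂ : Sylow p G := Sylow.ofCard Q₂ hQ₂card
  obtain ⟨c, hc⟩ := MulAction.exists_smul_eq G P₂ P₁
  have hmem : ∀ y : G, y ∈ (P₁ : Subgroup G) ↔ c⁻¹ * y * c ∈ Q₂ := by
    intro y
    rw [← hc, Sylow.coe_subgroup_smul, Subgroup.mem_pointwise_smul_iff_inv_smul_mem,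
      MulAut.smul_def, MulAut.conj_inv_apply]
    rfl
  constructor
  · -- the normalizer contains the involution `c g c⁻¹`
    have hmemN : c * g * c⁻¹ ∈ Subgroup.normalizer ((P₁ : Subgroup G) : Set G) := by
      rw [Subgroup.mem_normalizer_iff]
      intro y
      rw [hmem, hmem]
      have hginv : g⁻¹ = g := by
        have hg2 : g * g = 1 := by rw [← pow_two, ← hg, pow_orderOf_eq_one]
        exact inv_eq_of_mul_eq_one_left hg2
      have h1 : c⁻¹ * (c * g * c⁻¹ * y * (c * g * c⁻¹)⁻¹) * c = g * (c⁻¹ * y * c) * g⁻¹ := by group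
      rw [h1]
      constructor
      · intro h
        rw [hQ₂inv _ h]
        exact inv_mem h
      · intro h
        have h2 := hQ₂inv _ h
        have h3 : c⁻¹ * y * c = g⁻¹ * (g * (c⁻¹ * y * c) * g⁻¹) * g := by group
        rw [h3, hginv]
        have h4 : g * (g * (c⁻¹ * y * c) * g) * g = g * (g * (c⁻¹ * y * c) * g) * g⁻¹ := by
          rw [hginv]
        rw [h4]
        rw [hginv] at h2 h
        rw [hQ₂inv _ h]
        exact inv_mem h
    have h2 : orderOf (⟨c * g * c⁻¹, hmemN⟩ :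
        Subgroup.normalizer ((P₁ : Subgroup G) : Set G)) ∣
        Nat.card (Subgroup.normalizer ((P₁ : Subgroup G) : Set G)) := orderOf_dvd_natCard _
    rw [Subgroup.orderOf_mk] at h2
    have h3 : orderOf (c * g * c⁻¹) = 2 := by
      have := MulEquiv.orderOf_eq (MulAut.conj c) g
      rw [MulAut.conj_apply] at this
      rw [this, hg]
    rw [h3] at h2
    exact even_iff_two_dvd.2 h2
  · refine ⟨⟨fun a b => ?_⟩⟩
    apply Subtype.ext
    have ha := (hmem a).1 a.2
    have hb := (hmem b).1 b.2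
    have h1 := hQ₂comm _ ha _ hb
    show (a : G) * b = b * a
    calc (a : G) * b = c * ((c⁻¹ * a * c) * (c⁻¹ * b * c)) * c⁻¹ := by group
      _ = c * ((c⁻¹ * b * c) * (c⁻¹ * a * c)) * c⁻¹ := by rw [h1]
      _ = b * a := by group

end Main

end Cfsg.Agent.Lib.Helper8
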