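import Mathlib
import Cfsg.Prelude.Def_Blocks
import Cfsg.Prelude.Def_Local
import Cfsg.Agent.S4742

/-!
# Defect zero characters in `p`-solvable groups without elements of order `pq`
-/

set_option autoImplicit false

namespace Cfsg.Agent.Lib.Helper8

open Cfsg

universe u

section

variable {G : Type u} [Group G] [Finite G]

/-- The hypothesis on centralizers is symmetric in the two primes. -/
theorem centralizer_hyp_symm (p q : ℕ) [hp : Fact p.Prime] [hq : Fact q.Prime]
    (hC : ∀ g : G, g ≠ 1 → (∃ k : ℕ, orderOf g = p ^ k) →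
      ¬ q ∣ Nat.card ↥(Subgroup.centralizer ({g} : Set G))) :
    ∀ g : G, g ≠ 1 → (∃ k : ℕ, orderOf g = q ^ k) →
      ¬ p ∣ Nat.card ↥(Subgroup.centralizer ({g} : Set G)) := by
  intro z hz1 ⟨kz, hkz⟩ hdvd
  obtain ⟨u, hu⟩ := exists_prime_orderOf_dvd_card' p hdvd
  have hu1 : (u : G) ≠ 1 := by
    intro h
    have : u = 1 := Subtype.ext h
    rw [this, orderOf_one] at hu
    exact hp.out.one_lt.ne hu
  have huo : orderOf (u : G) = p ^ 1 := by
    rw [Subgroup.orderOf_coe, hu, pow_one]
  apply hC (u : G) hu1 ⟨1, huo⟩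
  have hzmem : z ∈ Subgroup.centralizer ({(u : G)} : Set G) := by
    rw [Subgroup.mem_centralizer_singleton_iff]
    exact (Subgroup.mem_centralizer_singleton_iff.1 u.2).symm
  have h2 : orderOf (⟨z, hzmem⟩ : Subgroup.centralizer ({(u : G)} : Set G)) ∣
      Nat.card (Subgroup.centralizer ({(u : G)} : Set G)) := orderOf_dvd_natCard _
  rw [Subgroup.orderOf_mk, hkz] at h2
  have hk0 : kz ≠ 0 := by
    rintro rfl
    rw [pow_zero, orderOf_eq_one_iff] at hkz
    exact hz1 hkz
  exact (dvd_pow_self q hk0).trans h2

/-- A normal `p'`-subgroup of order divisible by `q` forces a character of `p`-defect zero. -/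
theorem exists_defect_zero_of_normal_pprime (p q : ℕ) [hp : Fact p.Prime] [hq : Fact q.Prime]
    (hppq : p ≠ q) (hpG : p ∣ Nat.card G) (hqG : q ∣ Nat.card G)
    (hC : ∀ g : G, g ≠ 1 → (∃ k : ℕ, orderOf g = p ^ k) →
      ¬ q ∣ Nat.card ↥(Subgroup.centralizer ({g} : Set G)))
    (R : Subgroup G) [hR : R.Normal] (hqR : q ∣ Nat.card R) (hpR : ¬ p ∣ Nat.card R) :
    ∃ χ : IrrCharacter G,
      (charDegree (χ : G → ℂ)).factorization p = (Nat.card G).factorization p := by
  rcases Cfsg.Agent.S4742.result p q hppq hpG hqG hC with h | h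
  · exact h
  · exfalso
    obtain ⟨z, hz⟩ := exists_prime_orderOf_dvd_card' q hqR
    have hz1 : (z : G) ≠ 1 := by
      intro h
      have : z = 1 := Subtype.ext h
      rw [this, orderOf_one] at hz
      exact hq.out.one_lt.ne hz
    obtain ⟨g, h', hg, hh, hne, k, hk⟩ := h (z : G) hz1 ⟨1, by
      rw [Subgroup.orderOf_coe, hz, pow_one]⟩
    have hgR : g ∈ R := by
      obtain ⟨c, hc⟩ := isConj_iff.1 hg
      rw [← hc]
      exact hR.conj_mem _ z.2 c
    have hhR : h' ∈ R := by
      obtain ⟨c, hc⟩ := isConj_iff.1 hh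
      rw [← hc]
      exact hR.conj_mem _ z.2 c
    have hmem : g * h'⁻¹ ∈ R := R.mul_mem hgR (R.inv_mem hhR)
    have h2 : orderOf (⟨g * h'⁻¹, hmem⟩ : R) ∣ Nat.card R := orderOf_dvd_natCard _
    rw [Subgroup.orderOf_mk, hk] at h2
    have hk0 : k ≠ 0 := by
      rintro rfl
      rw [pow_zero, orderOf_eq_one_iff] at hk
      exact hne hk
    exact hpR ((dvd_pow_self p hk0).trans h2)

/-- **Robinson**: a `p`-solvable group of order divisible by `p` and `q` without elements of order
`pq` has a character of `p`-defect zero or of `q`-defect zero. -/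
theorem exists_defect_zero_of_isPSolvable (p q : ℕ) [hp : Fact p.Prime] [hq : Fact q.Prime]
    (hppq : p ≠ q) (hpG : p ∣ Nat.card G) (hqG : q ∣ Nat.card G)
    (hC : ∀ g : G, g ≠ 1 → (∃ k : ℕ, orderOf g = p ^ k) →
      ¬ q ∣ Nat.card ↥(Subgroup.centralizer ({g} : Set G)))
    (hsolv : IsPSolvable p G) :
    (∃ χ : IrrCharacter G,
      (charDegree (χ : G → ℂ)).factorization p = (Nat.card G).factorization p) ∨
    (∃ χ : IrrCharacter G,
      (charDegree (χ : G → ℂ)).factorization q = (Nat.card G).factorization q) := by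
  obtain ⟨n, H, h0, hlast, hmono, hnorm, hstep⟩ := hsolv
  have hC' := centralizer_hyp_symm p q hC
  -- the key induction along the series
  have key : ∀ i : ℕ, ∀ hi : i < n + 1,
      (¬ p ∣ Nat.card (H ⟨i, hi⟩) ∧ ¬ q ∣ Nat.card (H ⟨i, hi⟩)) ∨
      ((∃ χ : IrrCharacter G,
        (charDegree (χ : G → ℂ)).factorization p = (Nat.card G).factorization p) ∨
      (∃ χ : IrrCharacter G,
        (charDegree (χ : G → ℂ)).factorization q = (Nat.card G).factorization q)) := by
    intro i
    induction i with
    | zero =>
      intro hi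
      left
      have : H ⟨0, hi⟩ = ⊥ := h0
      rw [this, Subgroup.card_bot]
      exact ⟨fun h => hp.out.one_lt.ne' (Nat.dvd_one.1 h),
        fun h => hq.out.one_lt.ne' (Nat.dvd_one.1 h)⟩
    | succ i ih =>
      intro hi
      rcases ih (by omega) with ⟨h1, h2⟩ | h
      · set A := H ⟨i, by omega⟩ with hA
        set B := H ⟨i + 1, hi⟩ with hB
        have hAB : A ≤ B := hmono (by
          rw [Fin.le_def]
          simp)
        haveI : B.Normal := hnorm _
        have hcard : Nat.card A * A.relIndex B = Nat.card B := by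
          have h3 := Subgroup.card_mul_index (A.subgroupOf B)
          rw [Nat.card_congr (Subgroup.subgroupOfEquivOfLe hAB).toEquiv] at h3
          exact h3
        have hs := hstep ⟨i, by omega⟩
        have e1 : H (Fin.castSucc ⟨i, by omega⟩) = A := rfl
        have e2 : H (Fin.succ ⟨i, by omega⟩) = B := rfl
        rw [e1, e2] at hs
        rcases hs with ⟨m, hm⟩ | hcop
        · -- the factor is a `p`-group
          have hqB : ¬ q ∣ Nat.card B := by
            rw [← hcard, hm]
            intro h
            rcases (Nat.Prime.dvd_mul hq.out).1 h with h | h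
            · exact h2 h
            · have := (Nat.prime_dvd_prime_iff_eq hq.out hp.out).1 (hq.out.dvd_of_dvd_pow h)
              exact hppq this.symm
          by_cases hpB : p ∣ Nat.card B
          · right; right
            exact exists_defect_zero_of_normal_pprime q p (Ne.symm hppq) hqG hpG hC' B hpB hqB
          · left
            exact ⟨hpB, hqB⟩
        · -- the factor is a `p'`-group
          have hpB : ¬ p ∣ Nat.card B := by
            rw [← hcard]
            intro h
            rcases (Nat.Prime.dvd_mul hp.out).1 h with h | h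
            · exact h1 h
            · exact (Nat.Prime.coprime_iff_not_dvd hp.out).1 hcop.symm h
          by_cases hqB : q ∣ Nat.card B
          · right; left
            exact exists_defect_zero_of_normal_pprime p q hppq hpG hqG hC B hqB hpB
          · left
            exact ⟨hpB, hqB⟩
      · exact Or.inr h
  rcases key n (by omega) with ⟨h1, -⟩ | h
  · exfalso
    apply h1
    have : H ⟨n, by omega⟩ = ⊤ := hlast
    rw [this, Subgroup.card_top]
    exact hpG
  · exact h

end

end Cfsg.Agent.Lib.Helper8
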