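import Mathlib
import Cfsg.Agent.Lib.Helper8.RC3

/-!
# Involutions inverting Sylow subgroups; one class of involutions
-/

set_option autoImplicit false

namespace Cfsg.Agent.Lib.Helper8

open scoped Pointwise

universe u

section

variable {G : Type u} [Group G]

/-- Two involutions whose product has odd order are conjugate. -/
theorem isConj_of_odd_orderOf_mul {s t : G} (hs : s * s = 1) (ht : t * t = 1)
    (hodd : Odd (orderOf (s * t))) : IsConj s t := by
  obtain ⟨k, hk⟩ := hodd
  set r := s * t with hr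
  have hsinv : s⁻¹ = s := inv_eq_of_mul_eq_one_left hs
  have htinv : t⁻¹ = t := inv_eq_of_mul_eq_one_left ht
  have hrinv : r⁻¹ = t * s := by rw [hr, mul_inv_rev, hsinv, htinv]
  have hconj : s * r * s⁻¹ = r⁻¹ := by
    rw [hrinv, hr, hsinv]
    calc s * (s * t) * s = (s * s) * t * s := by group
      _ = t * s := by rw [hs, one_mul]
  have hconjk : s * r ^ k * s⁻¹ = (r ^ k)⁻¹ := by
    rw [← conj_pow, hconj, inv_pow]
  rw [isConj_iff]
  refine ⟨r ^ k, ?_⟩
  rw [← hconjk, hsinv]
  have h1 : r ^ k * s * (s * r ^ k * s) = r ^ (2 * k) * s := by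
    calc r ^ k * s * (s * r ^ k * s) = r ^ k * (s * s) * r ^ k * s := by group
      _ = r ^ (2 * k) * s := by rw [hs, mul_one, ← pow_add, two_mul]
  rw [h1]
  have h2 : r ^ (2 * k) = r⁻¹ := by
    have h3 : r ^ (2 * k) * r = 1 := by
      rw [← pow_succ, ← hk, pow_orderOf_eq_one]
    exact eq_inv_of_mul_eq_one_left h3
  rw [h2, hrinv, mul_assoc, hs, mul_one]

end

section Main

variable {G : Type u} [Group G] [Finite G] (p : ℕ) [hp : Fact p.Prime]

/-- If centralizers of non-identity `p`-elements have odd order and the involution `g` inverts a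
non-identity `p`-element, then `g` inverts a Sylow `p`-subgroup of the whole group. -/
theorem exists_sylow_inverted
    (hC : ∀ g : G, g ≠ 1 → (∃ k : ℕ, orderOf g = p ^ k) →
      Odd (Nat.card (Subgroup.centralizer ({g} : Set G))))
    (g u : G) (hg : orderOf g = 2) (hu1 : u ≠ 1) (hu : ∃ k : ℕ, orderOf u = p ^ k)
    (hinv : g * u * g⁻¹ = u⁻¹) :
    ∃ P : Sylow p G, ∀ w ∈ P, g * w * g⁻¹ = w⁻¹ := by
  obtain ⟨Q, hQN, hQcard, huQ, hQinv, -⟩ := exists_inverted_sylow_centralizer p hC g u hg hu1 hu hinv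
  have hQp : IsPGroup p Q := IsPGroup.of_card hQcard
  obtain ⟨P, hQP⟩ := hQp.exists_le_sylow
  -- a non-identity central element of `P`
  haveI : Nontrivial (P : Subgroup G) := by
    refine ⟨⟨⟨u, hQP huQ⟩, 1, ?_⟩⟩
    intro h
    exact hu1 (congrArg Subtype.val h)
  haveI := P.isPGroup'.center_nontrivial
  obtain ⟨w₀, hw₀⟩ := exists_ne (1 : Subgroup.center (P : Subgroup G))
  set w : G := ((w₀ : (P : Subgroup G)) : G) with hw
  have hw1 : w ≠ 1 := by
    intro h
    apply hw₀
    apply Subtype.ext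
    apply Subtype.ext
    exact h
  have hwP : w ∈ (P : Subgroup G) := (w₀ : (P : Subgroup G)).2
  have hwcomm : ∀ y ∈ (P : Subgroup G), y * w = w * y := by
    intro y hy
    have h1 := Subgroup.mem_center_iff.1 w₀.2 ⟨y, hy⟩
    exact congrArg Subtype.val h1
  have hwp : ∃ k : ℕ, orderOf w = p ^ k := by
    obtain ⟨k, hk⟩ := (IsPGroup.iff_orderOf.1 P.isPGroup') ⟨w, hwP⟩
    exact ⟨k, by rw [← hk, Subgroup.orderOf_mk]⟩
  -- `w` lies in `Q`
  have hwQ : w ∈ Q := by
    set N := Subgroup.centralizer ({u} : Set G) with hN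
    have hR : IsPGroup p ((P : Subgroup G) ⊓ N : Subgroup G) := P.isPGroup'.to_le inf_le_left
    have hQR : Q ≤ (P : Subgroup G) ⊓ N := le_inf hQP hQN
    have hRcard : Nat.card ((P : Subgroup G) ⊓ N : Subgroup G) ≤ Nat.card Q := by
      obtain ⟨k, hk⟩ := IsPGroup.iff_card.1 hR
      rw [hk, hQcard]
      apply Nat.pow_le_pow_right hp.out.pos
      have h1 : p ^ k ∣ Nat.card N := by
        rw [← hk]
        exact Subgroup.card_dvd_of_le inf_le_right
      exact (hp.out.pow_dvd_iff_le_factorization Nat.card_pos.ne').1 h1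
    have heq : Q = (P : Subgroup G) ⊓ N := Subgroup.eq_of_le_of_card_ge hQR hRcard
    rw [heq]
    refine ⟨hwP, ?_⟩
    show w ∈ Subgroup.centralizer ({u} : Set G)
    rw [Subgroup.mem_centralizer_singleton_iff]
    exact (hwcomm u (hQP huQ)).symm
  have hwinv : g * w * g⁻¹ = w⁻¹ := hQinv w hwQ
  obtain ⟨Q₂, hQ₂N, hQ₂card, -, hQ₂inv, hQ₂comm⟩ :=
    exists_inverted_sylow_centralizer p hC g w hg hw1 hwp hwinv
  -- `Q₂` is a Sylow subgroup of `G`
  have hPle : (P : Subgroup G) ≤ Subgroup.centralizer ({w} : Set G) := by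
    intro y hy
    rw [Subgroup.mem_centralizer_singleton_iff]
    exact hwcomm y hy
  have hfac : (Nat.card (Subgroup.centralizer ({w} : Set G))).factorization p =
      (Nat.card G).factorization p := by
    apply le_antisymm
    · exact (Nat.factorization_le_iff_dvd Nat.card_pos.ne' Nat.card_pos.ne').2
        (Subgroup.card_subgroup_dvd_card _) p
    · have h1 : p ^ (Nat.card G).factorization p ∣
          Nat.card (Subgroup.centralizer ({w} : Set G)) := by
        rw [← P.card_eq_multiplicity]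
        exact Subgroup.card_dvd_of_le hPle
      exact (hp.out.pow_dvd_iff_le_factorization Nat.card_pos.ne').1 h1
  rw [hfac] at hQ₂card
  exact ⟨Sylow.ofCard Q₂ hQ₂card, hQ₂inv⟩

end Main

end Cfsg.Agent.Lib.Helper8
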