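import Mathlib
import Cfsg.Prelude.Def_Blocks
import Cfsg.Agent.Lib.Helper8.RC5
import Cfsg.Agent.Lib.Helper8.TwoClass
import Cfsg.Agent.S4742
import Cfsg.Agent.S4744

/-!
# No elements of order `2p`: defect zero, or abelian Sylow `p`-subgroups and one class of involutions
-/

set_option autoImplicit false

namespace Cfsg.Agent.Lib.Helper8

open Cfsg
open scoped Pointwise

universe u

section

variable {G : Type u} [Group G] [Finite G] (p : ℕ) [hp : Fact p.Prime]

omit [Finite G] hp in
/-- Inverting a Sylow subgroup is preserved by conjugation. -/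
theorem inverts_smul_sylow {g : G} {P : Sylow p G} (h : ∀ w ∈ P, g * w * g⁻¹ = w⁻¹) (c : G) :
    ∀ w ∈ (c • P : Sylow p G), (c * g * c⁻¹) * w * (c * g * c⁻¹)⁻¹ = w⁻¹ := by
  intro w hw
  have hw' : c⁻¹ * w * c ∈ P := by
    have : w ∈ ((c • P : Sylow p G) : Subgroup G) := hw
    rw [Sylow.coe_subgroup_smul, Subgroup.mem_pointwise_smul_iff_inv_smul_mem,
      MulAut.smul_def, MulAut.conj_inv_apply] at this
    exact this
  have h1 := h _ hw'
  calc c * g * c⁻¹ * w * (c * g * c⁻¹)⁻¹ = c * (g * (c⁻¹ * w * c) * g⁻¹) * c⁻¹ := by group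
    _ = c * (c⁻¹ * w * c)⁻¹ * c⁻¹ := by rw [h1]
    _ = w⁻¹ := by group

/-- **Robinson**: a group of even order without elements of order `2p` has a character of
`p`-defect zero, or abelian Sylow `p`-subgroups and a single class of involutions. -/
theorem defect_zero_or_one_class_involutions (hp2 : p ≠ 2) (hG : Even (Nat.card G))
    (h2p : ∀ g : G, orderOf g ≠ 2 * p) :
    (∃ χ : IrrCharacter G,
      (charDegree (χ : G → ℂ)).factorization p = (Nat.card G).factorization p) ∨
    ((∀ P : Sylow p G, IsMulCommutative ↥(P : Subgroup G)) ∧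
      ∀ s t : G, orderOf s = 2 → orderOf t = 2 → IsConj s t) := by
  classical
  haveI : Fact (Nat.Prime 2) := ⟨Nat.prime_two⟩
  by_cases hpG : p ∣ Nat.card G
  swap
  · left
    refine ⟨trivIrr G, ?_⟩
    have h1 : charDegree (trivIrr G : G → ℂ) = 1 := by
      unfold charDegree
      rw [trivIrr_apply]
      simp
    rw [h1, Nat.factorization_one, Nat.factorization_eq_zero_of_not_dvd hpG]
    rfl
  by_cases hno : ∃ χ : IrrCharacter G,
      (charDegree (χ : G → ℂ)).factorization p = (Nat.card G).factorization p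
  · exact Or.inl hno
  right
  have h2G : 2 ∣ Nat.card G := even_iff_two_dvd.1 hG
  -- centralizers of `p`-elements have odd order
  have hC : ∀ g : G, g ≠ 1 → (∃ k : ℕ, orderOf g = p ^ k) →
      Odd (Nat.card ↥(Subgroup.centralizer ({g} : Set G))) := by
    intro g hg1 ⟨k, hk⟩
    by_contra hodd
    rw [Nat.not_odd_iff_even, even_iff_two_dvd] at hodd
    obtain ⟨t, ht⟩ := exists_prime_orderOf_dvd_card' 2 hodd
    have hk0 : k ≠ 0 := by
      rintro rfl
      rw [pow_zero, orderOf_eq_one_iff] at hk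
      exact hg1 hk
    have hpo : p ∣ orderOf g := by rw [hk]; exact dvd_pow_self p hk0
    have hg'o : orderOf (g ^ (orderOf g / p)) = p :=
      orderOf_pow_orderOf_div (orderOf_pos g).ne' hpo
    have hcomm : Commute (t : G) g := Subgroup.mem_centralizer_singleton_iff.1 t.2
    have hcomm' : Commute (t : G) (g ^ (orderOf g / p)) := hcomm.pow_right _
    have hto : orderOf (t : G) = 2 := by rw [Subgroup.orderOf_coe, ht]
    have hcop : Nat.Coprime (orderOf (t : G)) (orderOf (g ^ (orderOf g / p))) := by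
      rw [hto, hg'o]
      exact (Nat.coprime_primes Nat.prime_two hp.out).2 (Ne.symm hp2)
    have hord := hcomm'.orderOf_mul_eq_mul_orderOf_of_coprime hcop
    rw [hto, hg'o] at hord
    exact h2p _ hord
  have hC' : ∀ g : G, g ≠ 1 → (∃ k : ℕ, orderOf g = p ^ k) →
      ¬ 2 ∣ Nat.card ↥(Subgroup.centralizer ({g} : Set G)) := by
    intro g hg1 hgp h2
    have := Nat.odd_iff.1 (hC g hg1 hgp)
    omega
  constructor
  · rcases Cfsg.Agent.S4744.result p hp2 hpG h2G hC with h | h
    · exact absurd h hno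
    · exact fun P => (h P).2
  -- every involution inverts a Sylow `p`-subgroup
  have hinvS : ∀ t : G, orderOf t = 2 → ∃ P : Sylow p G, ∀ w ∈ P, t * w * t⁻¹ = w⁻¹ := by
    intro t ht
    have ht1 : t ≠ 1 := by
      rintro rfl
      rw [orderOf_one] at ht
      omega
    rcases Cfsg.Agent.S4742.result p 2 hp2 hpG h2G hC' with h | h
    · exact absurd h hno
    · obtain ⟨g, h', hg, hh, hne, hpk⟩ := h t ht1 ⟨1, by rw [ht, pow_one]⟩
      have hord : ∀ x : G, IsConj t x → orderOf x = 2 := by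
        intro x hx
        obtain ⟨c, hc⟩ := isConj_iff.1 hx
        rw [← hc]
        have := MulEquiv.orderOf_eq (MulAut.conj c) t
        rw [MulAut.conj_apply] at this
        rw [this, ht]
      have hgo := hord g hg
      have hho := hord h' hh
      have hg2 : g * g = 1 := by rw [← pow_two, ← hgo, pow_orderOf_eq_one]
      have hh2 : h' * h' = 1 := by rw [← pow_two, ← hho, pow_orderOf_eq_one]
      have hginv : g⁻¹ = g := inv_eq_of_mul_eq_one_left hg2
      have hhinv : h'⁻¹ = h' := inv_eq_of_mul_eq_one_left hh2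
      have hinv : g * (g * h'⁻¹) * g⁻¹ = (g * h'⁻¹)⁻¹ := by
        rw [hhinv, hginv, mul_inv_rev, hginv, hhinv, ← mul_assoc, hg2, one_mul]
      obtain ⟨P, hP⟩ := exists_sylow_inverted p hC g (g * h'⁻¹) hgo hne hpk hinv
      obtain ⟨c, hc⟩ := isConj_iff.1 hg
      -- t = c⁻¹ g c
      refine ⟨c⁻¹ • P, ?_⟩
      have := inverts_smul_sylow p hP c⁻¹
      have ht' : c⁻¹ * g * c⁻¹⁻¹ = t := by
        rw [← hc]
        group
      rw [ht'] at this
      exact this
  intro s t hs ht
  obtain ⟨Ps, hPs⟩ := hinvS s hs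
  obtain ⟨Pt, hPt⟩ := hinvS t ht
  obtain ⟨c, hc⟩ := MulAction.exists_smul_eq G Pt Ps
  have hPt' := inverts_smul_sylow p hPt c
  rw [hc] at hPt'
  set t' := c * t * c⁻¹ with ht'
  have htt' : IsConj t t' := isConj_iff.2 ⟨c, rfl⟩
  have hs2 : s * s = 1 := by rw [← pow_two, ← hs, pow_orderOf_eq_one]
  have ht'o : orderOf t' = 2 := by
    have := MulEquiv.orderOf_eq (MulAut.conj c) t
    rw [MulAut.conj_apply] at this
    rw [ht', this, ht]
  have ht'2 : t' * t' = 1 := by rw [← pow_two, ← ht'o, pow_orderOf_eq_one]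
  -- a non-identity element of `Ps`
  have hPs1 : (Ps : Subgroup G) ≠ ⊥ := Sylow.ne_bot_of_dvd_card Ps hpG
  obtain ⟨w, hw⟩ := (Subgroup.ne_bot_iff_exists_ne_one.1 hPs1)
  have hwPs : (w : G) ∈ Ps := w.2
  have hw1' : (w : G) ≠ 1 := fun h => hw (Subtype.ext h)
  have hwp : ∃ k : ℕ, orderOf (w : G) = p ^ k := by
    obtain ⟨k, hk⟩ := (IsPGroup.iff_orderOf.1 Ps.isPGroup') w
    exact ⟨k, by rw [← hk, Subgroup.orderOf_coe]⟩
  have hcent : s * t' ∈ Subgroup.centralizer ({(w : G)} : Set G) := by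
    rw [Subgroup.mem_centralizer_singleton_iff]
    have h1 := hPs (w : G) hwPs
    have h2 := hPt' (w : G) hwPs
    have h3 : s * t' * (w : G) * (s * t')⁻¹ = (w : G) := by
      calc s * t' * (w : G) * (s * t')⁻¹ = s * (t' * (w : G) * t'⁻¹) * s⁻¹ := by group
        _ = s * (w : G)⁻¹ * s⁻¹ := by rw [h2]
        _ = (s * (w : G) * s⁻¹)⁻¹ := by group
        _ = (w : G) := by rw [h1, inv_inv]
    calc s * t' * (w : G) = (s * t' * (w : G) * (s * t')⁻¹) * (s * t') := by group
      _ = (w : G) * (s * t') := by rw [h3]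
  have hoddC := hC (w : G) hw1' hwp
  have h2 : orderOf (⟨s * t', hcent⟩ : Subgroup.centralizer ({(w : G)} : Set G)) ∣
      Nat.card (Subgroup.centralizer ({(w : G)} : Set G)) := orderOf_dvd_natCard _
  rw [Subgroup.orderOf_mk] at h2
  have hodd : Odd (orderOf (s * t')) := Odd.of_dvd_nat hoddC h2
  exact (isConj_of_odd_orderOf_mul hs2 ht'2 hodd).trans htt'.symm

end

end Cfsg.Agent.Lib.Helper8
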