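import Mathlib
import Cfsg.Agent.S4475
import Cfsg.Agent.Lib.Helper8.RF1

/-!
# A real form from an invariant symmetric bilinear form

For an irreducible complex matrix representation with an invertible invariant symmetric bilinear
form, some conjugate of the representation has real entries.
-/

set_option autoImplicit false

namespace Cfsg.Agent.Lib.Helper8

open scoped ComplexConjugate ComplexOrder
open Matrix Cfsg.Agent.Lib.Helper4 Cfsg.Agent.Lib.Helper1 Cfsg.Agent.S4475

section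

variable {G : Type*} [Group G] [Fintype G] {n : ℕ}

/-- Schur's lemma for matrices. -/
theorem matrix_scalar_of_commute (ρ : Representation ℂ G (Fin n → ℂ)) [hirr : ρ.IsIrreducible]
    (N : Matrix (Fin n) (Fin n) ℂ) (hN : ∀ g : G, N * repMat ρ g = repMat ρ g * N) :
    ∃ c : ℂ, N = c • (1 : Matrix (Fin n) (Fin n) ℂ) := by
  obtain ⟨c, hc⟩ := scalar_of_commute ρ (Matrix.toLin' N) (by
    intro g
    apply LinearMap.ext
    intro v
    simp only [LinearMap.comp_apply, Matrix.toLin'_apply, rho_apply_eq, Matrix.mulVec_mulVec]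
    rw [hN g])
  refine ⟨c, ?_⟩
  have := congrArg LinearMap.toMatrix' hc
  rw [LinearMap.toMatrix'_toLin'] at this
  rw [this, map_smul, LinearMap.toMatrix'_id]

/-- the twisting matrix `P⁻¹ * conj S` intertwines the representation with its conjugate -/
theorem rep_mul_twist (ρ : Representation ℂ G (Fin n → ℂ)) (S : Matrix (Fin n) (Fin n) ℂ)
    (hinv : ∀ g : G, (repMat ρ g)ᵀ * S * repMat ρ g = S) (g : G) :
    repMat ρ g * ((weylForm ρ)⁻¹ * cj n S) = ((weylForm ρ)⁻¹ * cj n S) * cj n (repMat ρ g) := by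
  set P := weylForm ρ with hP
  have hPu : IsUnit P := (weylForm_posDef ρ).isUnit
  have hdet : IsUnit P.det := (Matrix.isUnit_iff_isUnit_det P).mp hPu
  have h0 : (repMat ρ g⁻¹)ᴴ * (repMat ρ g)ᴴ = 1 := by
    rw [← Matrix.conjTranspose_mul, ← repMat_mul, mul_inv_cancel, repMat_one,
      Matrix.conjTranspose_one]
  have h1 : P * repMat ρ g = (repMat ρ g⁻¹)ᴴ * P := by
    calc P * repMat ρ g = ((repMat ρ g⁻¹)ᴴ * (repMat ρ g)ᴴ) * P * repMat ρ g := by
          rw [h0, Matrix.one_mul]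
      _ = (repMat ρ g⁻¹)ᴴ * ((repMat ρ g)ᴴ * P * repMat ρ g) := by
          simp only [Matrix.mul_assoc]
      _ = (repMat ρ g⁻¹)ᴴ * P := by rw [weylForm_invariant ρ g]
  have h2 : repMat ρ g * P⁻¹ = P⁻¹ * (repMat ρ g⁻¹)ᴴ := by
    calc repMat ρ g * P⁻¹ = P⁻¹ * (P * repMat ρ g) * P⁻¹ := by
          rw [← Matrix.mul_assoc, Matrix.nonsing_inv_mul P hdet, Matrix.one_mul]
      _ = P⁻¹ * ((repMat ρ g⁻¹)ᴴ * P) * P⁻¹ := by rw [h1]
      _ = P⁻¹ * (repMat ρ g⁻¹)ᴴ * (P * P⁻¹) := by simp only [Matrix.mul_assoc]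
      _ = P⁻¹ * (repMat ρ g⁻¹)ᴴ := by rw [Matrix.mul_nonsing_inv P hdet, Matrix.mul_one]
  have h3 : cj n S * cj n (repMat ρ g) = (repMat ρ g⁻¹)ᴴ * cj n S := by
    rw [← map_mul, invariant_comm ρ S hinv g, map_mul, cj_transpose]
  rw [← Matrix.mul_assoc, h2, Matrix.mul_assoc, ← h3, Matrix.mul_assoc]

/-- positivity of the Schur scalar -/
theorem twist_scalar_pos (ρ : Representation ℂ G (Fin n → ℂ)) [hirr : ρ.IsIrreducible]
    (S : Matrix (Fin n) (Fin n) ℂ) (hSu : IsUnit S) (hSs : Sᵀ = S) (c : ℂ)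
    (hc : ((weylForm ρ)⁻¹ * cj n S) * cj n ((weylForm ρ)⁻¹ * cj n S)
      = c • (1 : Matrix (Fin n) (Fin n) ℂ)) : 0 < c.re ∧ c.im = 0 := by
  classical
  set P := weylForm ρ with hP
  have hPd : P.PosDef := weylForm_posDef ρ
  have hPu : IsUnit P := hPd.isUnit
  have hdet : IsUnit P.det := (Matrix.isUnit_iff_isUnit_det P).mp hPu
  set Q := cj n P⁻¹ with hQ
  have hQd : Q.PosDef := by
    have h1 : (P⁻¹).PosDef := hPd.inv
    have h2 : Q = (P⁻¹)ᵀ := by
      rw [hQ]
      conv_lhs => rw [← h1.isHermitian.eq]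
      rw [cj_conjTranspose]
    rw [h2]
    exact h1.transpose
  have hSh : cj n S = Sᴴ := by
    conv_lhs => rw [← hSs]
    rw [cj_transpose]
  have hform : Sᴴ * Q * S = c • P := by
    have h1 : P⁻¹ * (Sᴴ * Q * S) = c • (1 : Matrix (Fin n) (Fin n) ℂ) := by
      rw [← hc, map_mul, cj_cj, ← hQ, hSh]
      simp only [Matrix.mul_assoc]
    calc Sᴴ * Q * S = P * (P⁻¹ * (Sᴴ * Q * S)) := by
          rw [← Matrix.mul_assoc, Matrix.mul_nonsing_inv P hdet, Matrix.one_mul]
      _ = c • P := by rw [h1, Matrix.mul_smul, Matrix.mul_one]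
  have hinj : Function.Injective S.mulVec := Matrix.mulVec_injective_iff_isUnit.mpr hSu
  have hpd : (c • P).PosDef := by
    rw [← hform]
    exact hQd.conjTranspose_mul_mul_same hinj
  haveI : Nontrivial (Fin n → ℂ) := nontrivial_of_irreducible ρ
  obtain ⟨x, hx⟩ := exists_ne (0 : Fin n → ℂ)
  have h1 := hpd.dotProduct_mulVec_pos hx
  have h2 := hPd.dotProduct_mulVec_pos hx
  rw [Matrix.smul_mulVec, dotProduct_smul, smul_eq_mul] at h1
  set b := star x ⬝ᵥ (P *ᵥ x) with hb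
  rw [Complex.pos_iff] at h1 h2
  obtain ⟨h2r, h2i'⟩ := h2
  obtain ⟨h1r, h1i'⟩ := h1
  have h2i : b.im = 0 := h2i'.symm
  have h1i : (c * b).im = 0 := h1i'.symm
  rw [Complex.mul_re, h2i, mul_zero, sub_zero] at h1r
  rw [Complex.mul_im, h2i, mul_zero, zero_add] at h1i
  constructor
  · by_contra hneg
    push Not at hneg
    have := mul_nonpos_of_nonpos_of_nonneg hneg h2r.le
    linarith
  · rcases mul_eq_zero.1 h1i with h | h
    · exact h
    · linarith

/-- **Real form.**  An irreducible matrix representation with an invertible symmetric invariant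
bilinear form is conjugate to a representation by matrices fixed by complex conjugation. -/
theorem exists_real_form (ρ : Representation ℂ G (Fin n → ℂ)) [hirr : ρ.IsIrreducible]
    (S : Matrix (Fin n) (Fin n) ℂ) (hSu : IsUnit S) (hSs : Sᵀ = S)
    (hinv : ∀ g : G, (repMat ρ g)ᵀ * S * repMat ρ g = S) :
    ∃ T : Matrix (Fin n) (Fin n) ℂ, IsUnit T ∧
      ∀ g : G, cj n (T⁻¹ * repMat ρ g * T) = T⁻¹ * repMat ρ g * T := by
  obtain ⟨M, hM⟩ : ∃ M, M = (weylForm ρ)⁻¹ * cj n S := ⟨_, rfl⟩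
  have hRM : ∀ g : G, repMat ρ g * M = M * cj n (repMat ρ g) := by
    intro g
    rw [hM]
    exact rep_mul_twist ρ S hinv g
  -- `M * conj M` is a scalar
  have hcomm : ∀ g : G, (M * cj n M) * repMat ρ g = repMat ρ g * (M * cj n M) := by
    intro g
    have h1 : cj n M * repMat ρ g = cj n (repMat ρ g) * cj n M := by
      have := congrArg (cj n) (hRM g)
      rw [map_mul, map_mul, cj_cj] at this
      exact this.symm
    rw [Matrix.mul_assoc, h1, ← Matrix.mul_assoc, ← hRM g, Matrix.mul_assoc]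
  obtain ⟨c, hc⟩ := matrix_scalar_of_commute ρ (M * cj n M) hcomm
  obtain ⟨hcr, hci⟩ := twist_scalar_pos ρ S hSu hSs c (by rw [← hM]; exact hc)
  have hcval : c = (c.re : ℂ) := by
    apply Complex.ext
    · simp
    · simp [hci]
  -- rescale
  set s : ℝ := (Real.sqrt c.re)⁻¹ with hs
  have hs2 : s * s * c.re = 1 := by
    have h1 : Real.sqrt c.re * Real.sqrt c.re = c.re := Real.mul_self_sqrt hcr.le
    have h2 : Real.sqrt c.re ≠ 0 := (Real.sqrt_pos.mpr hcr).ne'
    rw [hs]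
    field_simp
    linarith
  obtain ⟨M', hM'⟩ : ∃ M', M' = (s : ℂ) • M := ⟨_, rfl⟩
  have hM'1 : M' * cj n M' = 1 := by
    rw [hM', cj_smul, Complex.conj_ofReal, Matrix.smul_mul, Matrix.mul_smul, smul_smul, hc,
      smul_smul, hcval]
    have : (s : ℂ) * (s : ℂ) * (c.re : ℂ) = 1 := by
      exact_mod_cast hs2
    rw [this, one_smul]
  have hRM' : ∀ g : G, repMat ρ g * M' = M' * cj n (repMat ρ g) := by
    intro g
    rw [hM', Matrix.mul_smul, hRM g, Matrix.smul_mul]
  obtain ⟨T, hTu, hT⟩ := exists_conj_fix M' hM'1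
  refine ⟨T, hTu, ?_⟩
  have hdet : IsUnit T.det := (Matrix.isUnit_iff_isUnit_det T).mp hTu
  intro g
  obtain ⟨R', hR'⟩ : ∃ R', R' = T⁻¹ * repMat ρ g * T := ⟨_, rfl⟩
  rw [← hR']
  have h1 : repMat ρ g * T = T * R' := by
    rw [hR', ← Matrix.mul_assoc, ← Matrix.mul_assoc, Matrix.mul_nonsing_inv T hdet,
      Matrix.one_mul]
  have h2 : cj n (repMat ρ g) * cj n T = cj n T * cj n R' := by
    rw [← map_mul, h1, map_mul]
  have h3 : T * R' = T * cj n R' := by
    calc T * R' = repMat ρ g * T := h1.symm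
      _ = repMat ρ g * (M' * cj n T) := by rw [hT]
      _ = (repMat ρ g * M') * cj n T := by rw [Matrix.mul_assoc]
      _ = M' * (cj n (repMat ρ g) * cj n T) := by rw [hRM' g, Matrix.mul_assoc]
      _ = (M' * cj n T) * cj n R' := by rw [h2, Matrix.mul_assoc]
      _ = T * cj n R' := by rw [hT]
  have h4 := congrArg (fun X => T⁻¹ * X) h3
  simp only [← Matrix.mul_assoc, Matrix.nonsing_inv_mul T hdet, Matrix.one_mul] at h4
  exact h4.symm

end

end Cfsg.Agent.Lib.Helper8
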