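import Mathlib
import Cfsg.Agent.S4475
import Cfsg.Agent.Lib.Helper8.FI1
import Cfsg.Agent.Lib.Helper8.RF2

/-!
# Indicator one implies a real representation
-/

set_option autoImplicit false

namespace Cfsg.Agent.Lib.Helper8

open scoped ComplexConjugate
open Matrix Cfsg.Agent.Lib.Helper4 Cfsg.Agent.Lib.Helper1 Cfsg.Agent.S4475

section

variable {G : Type*} [Group G] {n : ℕ}

/-- A matrix representation by conjugation-fixed matrices comes from a real representation. -/
theorem exists_real_rep_of_fixed (R : G → Matrix (Fin n) (Fin n) ℂ) (h1 : R 1 = 1)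
    (hmul : ∀ g h : G, R (g * h) = R g * R h) (hfix : ∀ g : G, cj n (R g) = R g) :
    ∃ σ : Representation ℝ G (Fin n → ℝ),
      ∀ g : G, ((LinearMap.trace ℝ (Fin n → ℝ) (σ g) : ℝ) : ℂ) = (R g).trace := by
  set B : G → Matrix (Fin n) (Fin n) ℝ := fun g => (R g).map Complex.re with hB
  have hBR : ∀ g : G, (B g).map Complex.ofRealHom = R g := by
    intro g
    ext i j
    simp only [hB, Matrix.map_apply, Complex.ofRealHom_eq_coe]
    have := congrFun (congrFun (hfix g) i) j
    rw [cj_apply] at this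
    exact Complex.conj_eq_iff_re.mp this
  have hinj : Function.Injective
      (fun A : Matrix (Fin n) (Fin n) ℝ => A.map Complex.ofRealHom) := by
    intro A A' h
    ext i j
    have := congrFun (congrFun h i) j
    simp only [Matrix.map_apply, Complex.ofRealHom_eq_coe] at this
    exact_mod_cast this
  have hB1 : B 1 = 1 := by
    apply hinj
    change (B 1).map Complex.ofRealHom = (1 : Matrix (Fin n) (Fin n) ℝ).map Complex.ofRealHom
    rw [hBR, h1, Matrix.map_one _ (map_zero _) (map_one _)]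
  have hBmul : ∀ g h : G, B (g * h) = B g * B h := by
    intro g h
    apply hinj
    change (B (g * h)).map Complex.ofRealHom = (B g * B h).map Complex.ofRealHom
    rw [Matrix.map_mul, hBR, hBR, hBR, hmul]
  let σ : Representation ℝ G (Fin n → ℝ) :=
    { toFun := fun g => Matrix.toLin' (B g)
      map_one' := by rw [hB1, Matrix.toLin'_one]; rfl
      map_mul' := fun g h => by rw [hBmul, Matrix.toLin'_mul]; rfl }
  refine ⟨σ, fun g => ?_⟩
  have h2 : LinearMap.trace ℝ (Fin n → ℝ) (σ g) = (B g).trace := by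
    change LinearMap.trace ℝ (Fin n → ℝ) (Matrix.toLin' (B g)) = _
    rw [Matrix.trace_toLin'_eq]
  rw [h2, ← hBR g]
  simp only [Matrix.trace, Matrix.diag_apply, Matrix.map_apply, Complex.ofRealHom_eq_coe]
  push_cast
  rfl

end

section

variable {G : Type*} [Group G] [Fintype G] {n : ℕ}

/-- **Indicator one gives a real representation.** -/
theorem exists_real_rep_of_indicator (ρ : Representation ℂ G (Fin n → ℂ)) (hirr : ρ.IsIrreducible)
    (hν : (Nat.card G : ℂ)⁻¹ * ∑ s : G, ρ.character (s * s) = 1) :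
    ∃ σ : Representation ℝ G (Fin n → ℝ),
      ∀ g : G, ((LinearMap.trace ℝ (Fin n → ℝ) (σ g) : ℝ) : ℂ) = ρ.character g := by
  haveI := hirr
  have hχ : IsIrrCharacter G ρ.character := ⟨n, ρ, hirr, rfl⟩
  have hreal : ∀ g : G, (ρ.character g).im = 0 := by
    rcases fs_indicator_cases hχ with h | ⟨h, -⟩
    · rw [hν] at h
      exact absurd h one_ne_zero
    · intro g
      exact Complex.conj_eq_iff_im.mp (h g)
  obtain ⟨⟨S, hS0, hSinv⟩, hsym⟩ := Cfsg.Agent.S4475.result n ρ hirr hreal
  have hSinv' : ∀ g : G, (repMat ρ g)ᵀ * S * repMat ρ g = S := hSinv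
  have hSu : IsUnit S := isUnit_of_invariant ρ S hS0 hSinv'
  have hSs : Sᵀ = S := by
    rw [hsym S hSinv, hν, one_smul]
  obtain ⟨T, hTu, hT⟩ := exists_real_form ρ S hSu hSs hSinv'
  have hdet : IsUnit T.det := (Matrix.isUnit_iff_isUnit_det T).mp hTu
  obtain ⟨σ, hσ⟩ := exists_real_rep_of_fixed (fun g => T⁻¹ * repMat ρ g * T)
    (by
      change T⁻¹ * repMat ρ 1 * T = 1
      rw [repMat_one, Matrix.mul_one, Matrix.nonsing_inv_mul T hdet])
    (by
      intro g h
      change T⁻¹ * repMat ρ (g * h) * T = (T⁻¹ * repMat ρ g * T) * (T⁻¹ * repMat ρ h * T)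
      rw [repMat_mul]
      calc T⁻¹ * (repMat ρ g * repMat ρ h) * T
          = T⁻¹ * repMat ρ g * 1 * repMat ρ h * T := by
            simp only [Matrix.mul_assoc, Matrix.one_mul]
        _ = T⁻¹ * repMat ρ g * (T * T⁻¹) * repMat ρ h * T := by
            rw [Matrix.mul_nonsing_inv T hdet]
        _ = (T⁻¹ * repMat ρ g * T) * (T⁻¹ * repMat ρ h * T) := by
            simp only [Matrix.mul_assoc])
    hT
  refine ⟨σ, fun g => ?_⟩
  rw [hσ g, character_eq_trace_repMat]
  change (T⁻¹ * repMat ρ g * T).trace = _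
  rw [Matrix.trace_mul_cycle, Matrix.mul_nonsing_inv T hdet, Matrix.one_mul]

end

end Cfsg.Agent.Lib.Helper8
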