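import Mathlib
import Cfsg.Agent.S4475
import Cfsg.Agent.Lib.Helper8.RF4

/-!
# A real representation has indicator one (assembly)
-/

set_option autoImplicit false

namespace Cfsg.Agent.Lib.Helper8

open scoped ComplexConjugate
open Matrix Cfsg.Agent.Lib.Helper4 Cfsg.Agent.Lib.Helper1 Cfsg.Agent.S4475

section

variable {G : Type*} [Group G] [Fintype G] {n : ℕ}

/-- the sum of squares form of a real matrix representation -/
theorem exists_real_invariant_form (A : G → Matrix (Fin n) (Fin n) ℝ) (h1 : A 1 = 1)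
    (hA : ∀ g h : G, A (g * h) = A g * A h) (hn : n ≠ 0) :
    ∃ P : Matrix (Fin n) (Fin n) ℝ, P ≠ 0 ∧ Pᵀ = P ∧ ∀ g : G, (A g)ᵀ * P * A g = P := by
  refine ⟨∑ g : G, (A g)ᵀ * A g, ?_, ?_, ?_⟩
  · intro h0
    obtain ⟨i⟩ : Nonempty (Fin n) := ⟨⟨0, Nat.pos_of_ne_zero hn⟩⟩
    have h2 := congrFun (congrFun h0 i) i
    rw [Matrix.sum_apply] at h2
    simp only [Matrix.mul_apply, Matrix.transpose_apply, Matrix.zero_apply] at h2
    have h3 : ∀ g ∈ (Finset.univ : Finset G), 0 ≤ ∑ k, A g k i * A g k i :=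
      fun g _ => Finset.sum_nonneg (fun k _ => mul_self_nonneg _)
    have h4 := (Finset.sum_eq_zero_iff_of_nonneg h3).1 h2 1 (Finset.mem_univ _)
    have h5 := (Finset.sum_eq_zero_iff_of_nonneg (fun k _ => mul_self_nonneg _)).1 h4 i
      (Finset.mem_univ _)
    rw [h1] at h5
    simp at h5
  · rw [Matrix.transpose_sum]
    apply Finset.sum_congr rfl
    intro g _
    rw [Matrix.transpose_mul, Matrix.transpose_transpose]
  · intro h
    rw [Finset.mul_sum, Finset.sum_mul]
    apply Fintype.sum_equiv (Equiv.mulRight h)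
    intro g
    simp only [Equiv.coe_mulRight]
    rw [hA, Matrix.transpose_mul]
    simp only [Matrix.mul_assoc]

/-- **A real representation has indicator one.** -/
theorem indicator_of_real_rep (ρ : Representation ℂ G (Fin n → ℂ)) (hirr : ρ.IsIrreducible)
    {m : ℕ} (σ : Representation ℝ G (Fin m → ℝ))
    (hσ : ∀ g : G, ((LinearMap.trace ℝ (Fin m → ℝ) (σ g) : ℝ) : ℂ) = ρ.character g) :
    (Nat.card G : ℂ)⁻¹ * ∑ s : G, ρ.character (s * s) = 1 := by
  haveI := hirr
  -- the real matrices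
  obtain ⟨A, hAdef⟩ : ∃ A : G → Matrix (Fin m) (Fin m) ℝ,
      A = fun g => LinearMap.toMatrix' (σ g) := ⟨_, rfl⟩
  have hA1 : A 1 = 1 := by
    rw [hAdef]
    change LinearMap.toMatrix' (σ 1) = 1
    rw [map_one, Module.End.one_eq_id, LinearMap.toMatrix'_id]
  have hAmul : ∀ g h : G, A (g * h) = A g * A h := by
    intro g h
    rw [hAdef]
    change LinearMap.toMatrix' (σ (g * h)) = LinearMap.toMatrix' (σ g) * LinearMap.toMatrix' (σ h)
    rw [map_mul, Module.End.mul_eq_comp, LinearMap.toMatrix'_comp]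
  have hAtr : ∀ g : G, ((A g).trace : ℂ) = ρ.character g := by
    intro g
    rw [← hσ g, hAdef]
    change ((LinearMap.toMatrix' (σ g)).trace : ℂ) = _
    rw [LinearMap.trace_eq_matrix_trace ℝ (Pi.basisFun ℝ (Fin m)),
      LinearMap.toMatrix_eq_toMatrix']
  -- degrees agree
  have hmn : m = n := by
    have h1 := hAtr 1
    rw [hA1, Matrix.trace_one, Representation.char_one, Fintype.card_fin,
      Module.finrank_fin_fun] at h1
    exact_mod_cast h1
  subst hmn
  have hn : m ≠ 0 := by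
    haveI : Nontrivial (Fin m → ℂ) := nontrivial_of_irreducible ρ
    intro h0
    subst h0
    obtain ⟨x, hx⟩ := exists_ne (0 : Fin 0 → ℂ)
    exact hx (Subsingleton.elim _ _)
  have hreal : ∀ g : G, (ρ.character g).im = 0 := by
    intro g
    rw [← hAtr g]
    exact Complex.ofReal_im _
  -- the complexified matrices
  obtain ⟨AC, hACdef⟩ : ∃ AC : G → Matrix (Fin m) (Fin m) ℂ,
      AC = fun g => (A g).map Complex.ofRealHom := ⟨_, rfl⟩
  have hACmul : ∀ g h : G, AC (g * h) = AC g * AC h := by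
    intro g h
    rw [hACdef]
    change (A (g * h)).map Complex.ofRealHom = (A g).map Complex.ofRealHom * (A h).map _
    rw [hAmul, Matrix.map_mul]
  have hACtr : ∀ g : G, (AC g).trace = ρ.character g := by
    intro g
    rw [← hAtr g, hACdef]
    simp only [Matrix.trace, Matrix.diag_apply, Matrix.map_apply, Complex.ofRealHom_eq_coe]
    push_cast
    rfl
  obtain ⟨T, hTu, hT⟩ := exists_intertwiner ρ AC hACmul hACtr
  have hdet : IsUnit T.det := (Matrix.isUnit_iff_isUnit_det T).mp hTu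
  obtain ⟨P, hP0, hPs, hPinv⟩ := exists_real_invariant_form A hA1 hAmul hn
  obtain ⟨PC, hPCdef⟩ : ∃ PC : Matrix (Fin m) (Fin m) ℂ, PC = P.map Complex.ofRealHom := ⟨_, rfl⟩
  have hPC0 : PC ≠ 0 := by
    intro h0
    apply hP0
    ext i j
    have := congrFun (congrFun h0 i) j
    rw [hPCdef] at this
    simp only [Matrix.map_apply, Complex.ofRealHom_eq_coe, Matrix.zero_apply] at this
    rw [Matrix.zero_apply]
    exact_mod_cast this
  have hPCs : PCᵀ = PC := by
    rw [hPCdef, ← Matrix.transpose_map, hPs]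
  have hPCinv : ∀ g : G, (AC g)ᵀ * PC * AC g = PC := by
    intro g
    rw [hPCdef, hACdef]
    change ((A g).map Complex.ofRealHom)ᵀ * P.map Complex.ofRealHom * (A g).map Complex.ofRealHom
      = P.map Complex.ofRealHom
    rw [← Matrix.transpose_map, ← Matrix.map_mul, ← Matrix.map_mul, hPinv]
  -- the transported form
  obtain ⟨M, hMdef⟩ : ∃ M : Matrix (Fin m) (Fin m) ℂ, M = Tᵀ * PC * T := ⟨_, rfl⟩
  have hMs : Mᵀ = M := by
    rw [hMdef, Matrix.transpose_mul, Matrix.transpose_mul, Matrix.transpose_transpose, hPCs,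
      Matrix.mul_assoc]
  have hM0 : M ≠ 0 := by
    intro h0
    apply hPC0
    have hdet' : IsUnit Tᵀ.det := by rw [Matrix.det_transpose]; exact hdet
    calc PC = (Tᵀ)⁻¹ * (Tᵀ * PC * T) * T⁻¹ := by
          simp only [Matrix.mul_assoc]
          rw [Matrix.mul_nonsing_inv T hdet, Matrix.mul_one, ← Matrix.mul_assoc,
            Matrix.nonsing_inv_mul _ hdet', Matrix.one_mul]
      _ = 0 := by rw [← hMdef, h0, Matrix.mul_zero, Matrix.zero_mul]
  have hMinv : ∀ g : G, (LinearMap.toMatrix' (ρ g))ᵀ * M * LinearMap.toMatrix' (ρ g) = M := by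
    intro g
    change (repMat ρ g)ᵀ * M * repMat ρ g = M
    rw [hMdef]
    calc (repMat ρ g)ᵀ * (Tᵀ * PC * T) * repMat ρ g
        = (T * repMat ρ g)ᵀ * PC * (T * repMat ρ g) := by
          rw [Matrix.transpose_mul]
          simp only [Matrix.mul_assoc]
      _ = (AC g * T)ᵀ * PC * (AC g * T) := by rw [hT g]
      _ = Tᵀ * ((AC g)ᵀ * PC * AC g) * T := by
          rw [Matrix.transpose_mul]
          simp only [Matrix.mul_assoc]
      _ = Tᵀ * PC * T := by rw [hPCinv g]
  obtain ⟨-, hsym⟩ := Cfsg.Agent.S4475.result m ρ hirr hreal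
  have h1 := hsym M hMinv
  rw [hMs] at h1
  set ν := (Nat.card G : ℂ)⁻¹ * ∑ s : G, ρ.character (s * s) with hν
  have h2 : (1 - ν) • M = 0 := by
    rw [sub_smul, one_smul, ← h1, sub_self]
  rcases smul_eq_zero.1 h2 with h | h
  · linear_combination -h
  · exact absurd h hM0

end

end Cfsg.Agent.Lib.Helper8
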