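import Mathlib
import Cfsg.Prelude.Def_RootSubgroups
import Cfsg.Agent.Lib.Helper8.RankOne

/-!
# Rank one groups with a quadratic "module" (a ring representation) are special
-/

set_option autoImplicit false

namespace Cfsg.Agent.Lib.Helper8

section Ring

variable {X : Type*} [Group X] {R : Type*} [Ring R] (ρ : X →* R)

theorem rho_mul_inv (g : X) : ρ g * ρ g⁻¹ = 1 := by rw [← map_mul, mul_inv_cancel, map_one]

theorem rho_inv_mul (g : X) : ρ g⁻¹ * ρ g = 1 := by rw [← map_mul, inv_mul_cancel, map_one]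

/-- `ρ g⁻¹ = 1 - (ρ g - 1)` when `(ρ g - 1)² = 0`. -/
theorem rho_inv_of_sq_zero {g : X} (h : (ρ g - 1) * (ρ g - 1) = 0) : ρ g⁻¹ = 1 - (ρ g - 1) := by
  have e : (1 - (ρ g - 1)) * ρ g = 1 - (ρ g - 1) * (ρ g - 1) := by noncomm_ring
  rw [h, sub_zero] at e
  calc ρ g⁻¹ = ((1 - (ρ g - 1)) * ρ g) * ρ g⁻¹ := by rw [e, one_mul]
    _ = (1 - (ρ g - 1)) * (ρ g * ρ g⁻¹) := by rw [mul_assoc]
    _ = 1 - (ρ g - 1) := by rw [rho_mul_inv, mul_one]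

theorem rho_conj_sub_one (g h : X) : ρ (g * h * g⁻¹) - 1 = ρ g * (ρ h - 1) * ρ g⁻¹ := by
  rw [map_mul, map_mul]
  have : ρ g * (ρ h - 1) * ρ g⁻¹ = ρ g * ρ h * ρ g⁻¹ - ρ g * ρ g⁻¹ := by noncomm_ring
  rw [this, rho_mul_inv]

theorem rho_conj_sub_one' (g h : X) : ρ (g⁻¹ * h * g) - 1 = ρ g⁻¹ * (ρ h - 1) * ρ g := by
  have := rho_conj_sub_one ρ g⁻¹ h
  rwa [inv_inv] at this

/-- The general quadratic relation. -/
theorem rho_quadratic_relation {p q r : X}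
    (hpp : (ρ p - 1) * (ρ p - 1) = 0) (hqr : (ρ q - 1) * (ρ r - 1) = 0)
    (hrel : (ρ (q⁻¹ * p * q) - 1) * (ρ (p⁻¹ * r * p) - 1) = 0) :
    (ρ p - 1) * (ρ r - 1) = (ρ p - 1) * (ρ q - 1) * ((ρ p - 1) * (ρ r - 1)) := by
  rw [rho_conj_sub_one', rho_conj_sub_one'] at hrel
  have h1 : (ρ p - 1) * ρ q * ρ p⁻¹ * (ρ r - 1) = 0 := by
    have e : (ρ p - 1) * ρ q * ρ p⁻¹ * (ρ r - 1) =
        (ρ q * ρ q⁻¹) * (ρ p - 1) * ρ q * ρ p⁻¹ * (ρ r - 1) * (ρ p * ρ p⁻¹) := by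
      rw [rho_mul_inv, rho_mul_inv, one_mul, mul_one]
    have e2 : (ρ q * ρ q⁻¹) * (ρ p - 1) * ρ q * ρ p⁻¹ * (ρ r - 1) * (ρ p * ρ p⁻¹) =
        ρ q * ((ρ q⁻¹ * (ρ p - 1) * ρ q) * (ρ p⁻¹ * (ρ r - 1) * ρ p)) * ρ p⁻¹ := by noncomm_ring
    rw [e, e2, hrel, mul_zero, zero_mul]
  rw [rho_inv_of_sq_zero ρ hpp] at h1
  have e3 : (ρ p - 1) * ρ q * (1 - (ρ p - 1)) * (ρ r - 1) =
      (ρ p - 1) * (ρ r - 1) - (ρ p - 1) * (ρ p - 1) * (ρ r - 1) + (ρ p - 1) * ((ρ q - 1) * (ρ r - 1))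
        - (ρ p - 1) * (ρ q - 1) * ((ρ p - 1) * (ρ r - 1)) := by noncomm_ring
  rw [e3, hpp, hqr, zero_mul, mul_zero, sub_zero, add_zero] at h1
  exact sub_eq_zero.mp h1

end Ring

end Cfsg.Agent.Lib.Helper8
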