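import Mathlib
import Cfsg.Prelude.Def_RootSubgroups
import Cfsg.Agent.Lib.Helper8.RS1

/-!
# Rank one groups with a quadratic ring representation are special: the main argument
-/

set_option autoImplicit false

namespace Cfsg.Agent.Lib.Helper8

section Main

variable {X : Type*} [Group X] {A B : Subgroup X} {R : Type*} [Ring R] (ρ : X →* R)

/-- The kernel of a ring representation. -/
def rhoKer : Subgroup X where
  carrier := {x | ρ x = 1}
  mul_mem' := by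
    intro x y hx hy
    show ρ (x * y) = 1
    rw [map_mul, hx, hy, one_mul]
  one_mem' := map_one ρ
  inv_mem' := by
    intro x hx
    show ρ x⁻¹ = 1
    have := rho_inv_mul ρ x
    rw [show ρ x = 1 from hx, mul_one] at this
    exact this

theorem mem_rhoKer {x : X} : x ∈ rhoKer ρ ↔ ρ x = 1 := Iff.rfl

theorem rhoKer_normal : (rhoKer ρ).Normal := by
  refine ⟨fun x hx g => ?_⟩
  rw [mem_rhoKer] at hx ⊢
  rw [map_mul, map_mul, hx, mul_one, rho_mul_inv]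

/-- All unipotent subgroups act quadratically. -/
theorem quadratic_of_mem_unipotentSubgroups
    (hq : ∀ a ∈ A, ∀ a' ∈ A, (ρ a' - 1) * (ρ a - 1) = 0) {U : Subgroup X}
    (hU : U ∈ Cfsg.unipotentSubgroups A B) :
    ∀ u ∈ U, ∀ u' ∈ U, (ρ u' - 1) * (ρ u - 1) = 0 := by
  obtain ⟨g, -, rfl⟩ := hU
  intro u hu u' hu'
  rw [mem_conjBy] at hu hu'
  have e : ∀ v : X, ρ v - 1 = ρ g * (ρ (g⁻¹ * v * g) - 1) * ρ g⁻¹ := by
    intro v
    rw [← rho_conj_sub_one]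
    congr 2
    group
  rw [e u, e u']
  have e2 : ρ g * (ρ (g⁻¹ * u' * g) - 1) * ρ g⁻¹ * (ρ g * (ρ (g⁻¹ * u * g) - 1) * ρ g⁻¹) =
      ρ g * ((ρ (g⁻¹ * u' * g) - 1) * (ρ g⁻¹ * ρ g) * (ρ (g⁻¹ * u * g) - 1)) * ρ g⁻¹ := by
    noncomm_ring
  rw [e2, rho_inv_mul, mul_one, hq _ hu _ hu', mul_zero, zero_mul]

/-- The kernel is central if the whole group does not act quadratically. -/
theorem rhoKer_le_center (h : Cfsg.IsRankOneGroup X A B)
    (hq : ∀ a ∈ A, ∀ a' ∈ A, (ρ a' - 1) * (ρ a - 1) = 0)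
    (hX : ∃ x y : X, (ρ y - 1) * (ρ x - 1) ≠ 0) : rhoKer ρ ≤ Subgroup.center X := by
  rcases rankOneGroup_normal_dichotomy h (rhoKer ρ) (rhoKer_normal ρ) with h1 | h1
  · exfalso
    obtain ⟨x, y, hxy⟩ := hX
    have := rhoKer_normal ρ
    have key : ∀ z : X, ∃ a ∈ A, ρ z = ρ a := by
      intro z
      have hz : z ∈ rhoKer ρ ⊔ A := by rw [h1]; exact Subgroup.mem_top z
      obtain ⟨k, hk, a, ha, rfl⟩ := Subgroup.mem_sup_of_normal_left.mp hz
      refine ⟨a, ha, ?_⟩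
      rw [map_mul, (mem_rhoKer ρ).mp hk, one_mul]
    obtain ⟨a, ha, hxa⟩ := key x
    obtain ⟨a', ha', hya⟩ := key y
    apply hxy
    rw [hxa, hya]
    exact hq a ha a' ha'
  · exact h1

/-- The difference of the two candidates kills `ρ h - 1` for all `h`. -/
theorem rho_diff_mul_eq_zero (h : Cfsg.IsRankOneGroup X A B)
    (hq : ∀ a ∈ A, ∀ a' ∈ A, (ρ a' - 1) * (ρ a - 1) = 0)
    {a b : X} (ha : a ∈ A) (hb : b ∈ B)
    (hab : Cfsg.conjBy A b⁻¹ = Cfsg.conjBy B a⁻¹) (g : X) :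
    (ρ (b⁻¹ * a * b) - ρ (a⁻¹ * b⁻¹ * a)) * (ρ g - 1) = 0 := by
  obtain ⟨htop, hp⟩ := h
  have hBq := quadratic_of_mem_unipotentSubgroups ρ hq
    (rankOnePair_right_mem_unipotentSubgroups hp)
  have hUmem : Cfsg.conjBy A b⁻¹ ∈ Cfsg.unipotentSubgroups A B :=
    ⟨b⁻¹, Subgroup.inv_mem _ (Subgroup.mem_sup_right hb), rfl⟩
  have hUq := quadratic_of_mem_unipotentSubgroups ρ hq hUmem
  have haa := hq a ha a ha
  have hbb := hBq b hb b hb
  set α := ρ a - 1 with hα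
  set β := ρ b - 1 with hβ
  have hρa : ρ a = 1 + α := by rw [hα]; noncomm_ring
  have hρb : ρ b = 1 + β := by rw [hβ]; noncomm_ring
  have hρa' : ρ a⁻¹ = 1 - α := rho_inv_of_sq_zero ρ haa
  have hρb' : ρ b⁻¹ = 1 - β := rho_inv_of_sq_zero ρ hbb
  have hT : ρ (b⁻¹ * a * b) - ρ (a⁻¹ * b⁻¹ * a) =
      α + β - β * β - β * α * β + α * α - α * β * α := by
    rw [map_mul, map_mul, map_mul, map_mul, hρa, hρb, hρa', hρb']
    noncomm_ring
  -- for generators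
  have hA : ∀ a' ∈ A, (ρ (b⁻¹ * a * b) - ρ (a⁻¹ * b⁻¹ * a)) * (ρ a' - 1) = 0 := by
    intro a' ha'
    have h1 : (ρ b - 1) * (ρ a' - 1) = (ρ b - 1) * (ρ a - 1) * ((ρ b - 1) * (ρ a' - 1)) := by
      apply rho_quadratic_relation ρ hbb (hq a' ha' a ha)
      apply hUq
      · have := conj_mem_conjBy (A := A) (g := b⁻¹) ha'
        rwa [inv_inv] at this
      · rw [hab]
        have := conj_mem_conjBy (A := B) (g := a⁻¹) hb
        rwa [inv_inv] at this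
    rw [← hα, ← hβ] at h1
    have h2 : α * (ρ a' - 1) = 0 := hq a' ha' a ha
    rw [hT]
    have e : (α + β - β * β - β * α * β + α * α - α * β * α) * (ρ a' - 1) =
        α * (ρ a' - 1) + β * (ρ a' - 1) - β * β * (ρ a' - 1) - β * α * (β * (ρ a' - 1))
          + α * (α * (ρ a' - 1)) - α * β * (α * (ρ a' - 1)) := by noncomm_ring
    rw [e, h2, hbb, ← h1]
    noncomm_ring
  have hB : ∀ b' ∈ B, (ρ (b⁻¹ * a * b) - ρ (a⁻¹ * b⁻¹ * a)) * (ρ b' - 1) = 0 := by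
    intro b' hb'
    have h1 : (ρ a - 1) * (ρ b' - 1) = (ρ a - 1) * (ρ b - 1) * ((ρ a - 1) * (ρ b' - 1)) := by
      apply rho_quadratic_relation ρ haa (hBq b' hb' b hb)
      apply hUq
      · rw [hab]
        have := conj_mem_conjBy (A := B) (g := a⁻¹) hb'
        rwa [inv_inv] at this
      · have := conj_mem_conjBy (A := A) (g := b⁻¹) ha
        rwa [inv_inv] at this
    rw [← hα, ← hβ] at h1
    have h2 : β * (ρ b' - 1) = 0 := hBq b' hb' b hb
    rw [hT]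
    have e : (α + β - β * β - β * α * β + α * α - α * β * α) * (ρ b' - 1) =
        α * (ρ b' - 1) + β * (ρ b' - 1) - β * (β * (ρ b' - 1)) - β * α * (β * (ρ b' - 1))
          + α * α * (ρ b' - 1) - α * β * (α * (ρ b' - 1)) := by noncomm_ring
    rw [e, h2, haa, ← h1]
    noncomm_ring
  -- the set of `g` with the property is a subgroup
  let H : Subgroup X :=
    { carrier := {g | (ρ (b⁻¹ * a * b) - ρ (a⁻¹ * b⁻¹ * a)) * (ρ g - 1) = 0}
      mul_mem' := by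
        intro x y hx hy
        show (ρ (b⁻¹ * a * b) - ρ (a⁻¹ * b⁻¹ * a)) * (ρ (x * y) - 1) = 0
        have e : ρ (x * y) - 1 = (ρ x - 1) * ρ y + (ρ y - 1) := by rw [map_mul]; noncomm_ring
        rw [e, mul_add, ← mul_assoc, show (ρ (b⁻¹ * a * b) - ρ (a⁻¹ * b⁻¹ * a)) * (ρ x - 1) = 0 from hx,
          show (ρ (b⁻¹ * a * b) - ρ (a⁻¹ * b⁻¹ * a)) * (ρ y - 1) = 0 from hy, zero_mul, add_zero]
      one_mem' := by
        show (ρ (b⁻¹ * a * b) - ρ (a⁻¹ * b⁻¹ * a)) * (ρ 1 - 1) = 0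
        rw [map_one, sub_self, mul_zero]
      inv_mem' := by
        intro x hx
        show (ρ (b⁻¹ * a * b) - ρ (a⁻¹ * b⁻¹ * a)) * (ρ x⁻¹ - 1) = 0
        have e : ρ x⁻¹ - 1 = -((ρ x - 1) * ρ x⁻¹) := by
          have : (ρ x - 1) * ρ x⁻¹ = ρ x * ρ x⁻¹ - ρ x⁻¹ := by noncomm_ring
          rw [this, rho_mul_inv]
          noncomm_ring
        rw [e, mul_neg, ← mul_assoc,
          show (ρ (b⁻¹ * a * b) - ρ (a⁻¹ * b⁻¹ * a)) * (ρ x - 1) = 0 from hx, zero_mul, neg_zero] }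
  have hle : A ⊔ B ≤ H := sup_le (fun x hx => hA x hx) (fun x hx => hB x hx)
  rw [htop] at hle
  exact hle (Subgroup.mem_top g)

end Main

end Cfsg.Agent.Lib.Helper8
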