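import Mathlib
import Cfsg.Prelude.Def_RootSubgroups
import Cfsg.Agent.Lib.Helper8.RS2

/-!
# Rank one groups with a quadratic ring representation are special
-/

set_option autoImplicit false

namespace Cfsg.Agent.Lib.Helper8

section Main

variable {X : Type*} [Group X] {A B : Subgroup X} {R : Type*} [Ring R] (ρ : X →* R)

/-- A rank one group with a ring representation in which `A` acts quadratically but the whole
group does not is special. -/
theorem special_of_ringHom (h : Cfsg.IsRankOneGroup X A B)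
    (hq : ∀ a ∈ A, ∀ a' ∈ A, (ρ a' - 1) * (ρ a - 1) = 0)
    (hX : ∃ x y : X, (ρ y - 1) * (ρ x - 1) ≠ 0) : Cfsg.IsSpecialRankOnePair A B := by
  have hp := h.2
  refine ⟨hp, ?_⟩
  intro a ha ha1 b hb hb1 hab
  by_contra hne
  set u₁ := b⁻¹ * a * b with hu₁
  set u₂ := a⁻¹ * b⁻¹ * a with hu₂
  set w := u₁ * u₂⁻¹ with hw
  have hw1 : w ≠ 1 := by
    intro h1
    apply hne
    rw [hw] at h1
    exact mul_inv_eq_one.mp h1
  -- `U` and its properties
  have hUmem : Cfsg.conjBy A b⁻¹ ∈ Cfsg.unipotentSubgroups A B :=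
    ⟨b⁻¹, Subgroup.inv_mem _ (Subgroup.mem_sup_right hb), rfl⟩
  have hUq := quadratic_of_mem_unipotentSubgroups ρ hq hUmem
  have hu₁U : u₁ ∈ Cfsg.conjBy A b⁻¹ := by
    have := conj_mem_conjBy (A := A) (g := b⁻¹) ha
    rwa [inv_inv] at this
  have hu₂U : u₂ ∈ Cfsg.conjBy A b⁻¹ := by
    rw [hab]
    have := conj_mem_conjBy (A := B) (g := a⁻¹) (B.inv_mem hb)
    rwa [inv_inv] at this
  have hwU : w ∈ Cfsg.conjBy A b⁻¹ := Subgroup.mul_mem _ hu₁U (Subgroup.inv_mem _ hu₂U)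
  have hUA : Cfsg.conjBy A b⁻¹ ≠ A := by
    rw [hab]
    exact rankOnePair_conjBy_right_ne hp (A.inv_mem ha)
  obtain ⟨hUArk, -, -⟩ := rankOnePair_of_mem_unipotentSubgroups hp hUmem
    (mem_unipotentSubgroups_self A B) hUA
  -- the partner of `w`
  obtain ⟨a'', ha'', ha''1, hV⟩ := hUArk.cond_left w hwU hw1
  have hVmem : Cfsg.conjBy A w⁻¹ ∈ Cfsg.unipotentSubgroups A B :=
    ⟨w⁻¹, by rw [h.1]; exact Subgroup.mem_top _, rfl⟩
  have hVq := quadratic_of_mem_unipotentSubgroups ρ hq hVmem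
  -- `ρ w - 1` kills everything of the form `ρ g - 1`
  have hωg : ∀ g : X, (ρ w - 1) * (ρ g - 1) = 0 := by
    intro g
    have e1 : ρ w - 1 = (ρ u₁ - ρ u₂) * ρ u₂⁻¹ := by
      rw [hw, map_mul, sub_mul, rho_mul_inv]
    have e2 : ρ u₂⁻¹ * (ρ g - 1) = (ρ (u₂⁻¹ * g * u₂⁻¹⁻¹) - 1) * ρ u₂⁻¹ := by
      rw [rho_conj_sub_one, mul_assoc, mul_assoc, rho_inv_mul, mul_one]
    rw [e1, mul_assoc, e2, ← mul_assoc, rho_diff_mul_eq_zero ρ h hq ha hb hab, zero_mul]
  have hωa : (ρ w - 1) * (ρ a'' - 1) = 0 := hωg a''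
  -- the reverse product vanishes too
  have haω : (ρ a'' - 1) * (ρ w - 1) = 0 := by
    have h1 : (ρ a'' - 1) * (ρ w - 1) =
        (ρ a'' - 1) * (ρ w - 1) * ((ρ a'' - 1) * (ρ w - 1)) := by
      apply rho_quadratic_relation ρ (hq a'' ha'' a'' ha'') (hUq w hwU w hwU)
      apply hVq
      · rw [← hV]
        have := conj_mem_conjBy (A := Cfsg.conjBy A b⁻¹) (g := a''⁻¹) hwU
        rwa [inv_inv] at this
      · have := conj_mem_conjBy (A := A) (g := w⁻¹) ha''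
        rwa [inv_inv] at this
    rw [h1]
    have e : (ρ a'' - 1) * (ρ w - 1) * ((ρ a'' - 1) * (ρ w - 1)) =
        (ρ a'' - 1) * ((ρ w - 1) * (ρ a'' - 1)) * (ρ w - 1) := by noncomm_ring
    rw [e, hωa, mul_zero, zero_mul]
  -- `w` and `a''` commute modulo the kernel
  have hcomm : ρ (w * a'') = ρ (a'' * w) := by
    rw [map_mul ρ w a'', map_mul ρ a'' w]
    have e1 : ρ w * ρ a'' = (ρ w - 1) * (ρ a'' - 1) + ρ w + ρ a'' - 1 := by noncomm_ring
    have e2 : ρ a'' * ρ w = (ρ a'' - 1) * (ρ w - 1) + ρ w + ρ a'' - 1 := by noncomm_ring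
    rw [e1, e2, hωa, haω]
  have hz : w * a'' * w⁻¹ * a''⁻¹ ∈ rhoKer ρ := by
    rw [mem_rhoKer]
    have e : w * a'' * w⁻¹ * a''⁻¹ = (w * a'') * (a'' * w)⁻¹ := by group
    rw [e, map_mul, hcomm, rho_mul_inv]
  have hzc := rhoKer_le_center ρ h hq hX hz
  -- contradiction inside the rank one group
  have hAw : Cfsg.conjBy A w ≠ A := by
    intro hEq
    have hwN : w ∈ Cfsg.conjBy A b⁻¹ ⊓ Subgroup.normalizer (A : Set X) :=
      Subgroup.mem_inf.mpr ⟨hwU, conjBy_eq_self_iff.mp hEq⟩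
    rw [rankOnePair_inf_normalizer hUArk, Subgroup.mem_bot] at hwN
    exact hw1 hwN
  have hAwmem : Cfsg.conjBy A w ∈ Cfsg.unipotentSubgroups A B :=
    ⟨w, by rw [h.1]; exact Subgroup.mem_top _, rfl⟩
  obtain ⟨hrk, -, -⟩ := rankOnePair_of_mem_unipotentSubgroups hp hAwmem
    (mem_unipotentSubgroups_self A B) hAw
  have h1 : w * a'' * w⁻¹ ∈ Cfsg.conjBy A w := conj_mem_conjBy ha''
  have h2 : w * a'' * w⁻¹ ∈ Subgroup.normalizer (A : Set X) := by
    have e : w * a'' * w⁻¹ = (w * a'' * w⁻¹ * a''⁻¹) * a'' := by group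
    rw [e]
    apply Subgroup.mul_mem _ _ (Subgroup.le_normalizer ha'')
    have := conjBy_of_mem_center A hzc
    exact conjBy_eq_self_iff.mp this
  have h3 : w * a'' * w⁻¹ ∈ Cfsg.conjBy A w ⊓ Subgroup.normalizer (A : Set X) :=
    Subgroup.mem_inf.mpr ⟨h1, h2⟩
  rw [rankOnePair_inf_normalizer hrk, Subgroup.mem_bot] at h3
  apply ha''1
  have e : a'' = w⁻¹ * (w * a'' * w⁻¹) * w := by group
  rw [e, h3]
  group

end Main

end Cfsg.Agent.Lib.Helper8
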