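import Mathlib
import Cfsg.Prelude.Def_RootSubgroups
import Cfsg.Agent.Lib.Helper8.RS3

/-!
# Transfer of rank one pairs to a subgroup containing them; conjugation action on an abelian
subgroup as a ring representation
-/

set_option autoImplicit false

namespace Cfsg.Agent.Lib.Helper8

variable {G : Type*} [Group G]

section Transfer

variable {A B Y : Subgroup G}

theorem mem_conjBy_subgroupOf {y g : ↥Y} :
    y ∈ Cfsg.conjBy (A.subgroupOf Y) g ↔ (y : G) ∈ Cfsg.conjBy A (g : G) := by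
  rw [mem_conjBy, mem_conjBy, Subgroup.mem_subgroupOf]
  rfl

theorem rankOneCondition_subgroupOf (hA : A ≤ Y) (hB : B ≤ Y) (h : Cfsg.RankOneCondition A B) :
    Cfsg.RankOneCondition (A.subgroupOf Y) (B.subgroupOf Y) := by
  intro a ha ha1
  rw [Subgroup.mem_subgroupOf] at ha
  have ha1' : (a : G) ≠ 1 := fun h1 => ha1 (Subtype.ext h1)
  obtain ⟨b, hb, hb1, hEq⟩ := h a ha ha1'
  refine ⟨⟨b, hB hb⟩, Subgroup.mem_subgroupOf.mpr hb, fun h1 => hb1 (congrArg Subtype.val h1), ?_⟩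
  ext y
  rw [mem_conjBy_subgroupOf, mem_conjBy_subgroupOf]
  show (y : G) ∈ Cfsg.conjBy A b⁻¹ ↔ (y : G) ∈ Cfsg.conjBy B (a : G)⁻¹
  rw [hEq]

theorem isRankOnePair_subgroupOf (hA : A ≤ Y) (hB : B ≤ Y) (h : Cfsg.IsRankOnePair A B) :
    Cfsg.IsRankOnePair (A.subgroupOf Y) (B.subgroupOf Y) := by
  refine ⟨?_, ?_, ?_, rankOneCondition_subgroupOf hA hB h.cond_left,
    rankOneCondition_subgroupOf hB hA h.cond_right⟩
  · intro hEq
    apply h.ne
    rw [Subgroup.subgroupOf_inj, inf_of_le_left hA, inf_of_le_left hB] at hEq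
    exact hEq
  · have := h.nilpotent_left
    exact (Group.isNilpotent_congr (Subgroup.subgroupOfEquivOfLe hA)).mpr this
  · have := h.nilpotent_right
    exact (Group.isNilpotent_congr (Subgroup.subgroupOfEquivOfLe hB)).mpr this

theorem isRankOneGroup_subgroupOf (h : Cfsg.IsRankOnePair A B) :
    Cfsg.IsRankOneGroup ↥(A ⊔ B) (A.subgroupOf (A ⊔ B)) (B.subgroupOf (A ⊔ B)) := by
  refine ⟨?_, isRankOnePair_subgroupOf le_sup_left le_sup_right h⟩
  rw [← Subgroup.subgroupOf_sup le_sup_left le_sup_right]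
  exact Subgroup.subgroupOf_self _

theorem isSpecialRankOnePair_of_subgroupOf (h : Cfsg.IsRankOnePair A B)
    (hs : Cfsg.IsSpecialRankOnePair (A.subgroupOf (A ⊔ B)) (B.subgroupOf (A ⊔ B))) :
    Cfsg.IsSpecialRankOnePair A B := by
  refine ⟨h, ?_⟩
  intro a ha ha1 b hb hb1 hEq
  have haY : a ∈ A ⊔ B := Subgroup.mem_sup_left ha
  have hbY : b ∈ A ⊔ B := Subgroup.mem_sup_right hb
  have := hs.2 ⟨a, haY⟩ (Subgroup.mem_subgroupOf.mpr ha) (fun h1 => ha1 (congrArg Subtype.val h1))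
    ⟨b, hbY⟩ (Subgroup.mem_subgroupOf.mpr hb) (fun h1 => hb1 (congrArg Subtype.val h1)) (by
      ext y
      rw [mem_conjBy_subgroupOf, mem_conjBy_subgroupOf]
      show (y : G) ∈ Cfsg.conjBy A b⁻¹ ↔ (y : G) ∈ Cfsg.conjBy B a⁻¹
      rw [hEq])
  exact congrArg Subtype.val this

end Transfer

end Cfsg.Agent.Lib.Helper8
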