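import Mathlib
import Cfsg.Prelude.Def_RootSubgroups
import Cfsg.Agent.Lib.Helper8.RS4

/-!
# A rank one pair acting quadratically by conjugation on an abelian subgroup is special
-/

set_option autoImplicit false

namespace Cfsg.Agent.Lib.Helper8

variable {G : Type*} [Group G]

/-- A rank one pair `(A, B)` normalizing an abelian subgroup `N` on which `A` acts quadratically
by conjugation, but `⟨A, B⟩` does not, is special. -/
theorem special_of_quadratic_conj {A B N : Subgroup G} (h : Cfsg.IsRankOnePair A B)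
    (hNc : ∀ x ∈ N, ∀ y ∈ N, x * y = y * x)
    (hnorm : A ⊔ B ≤ Subgroup.normalizer (N : Set G))
    (hq : ∀ a ∈ A, ∀ a' ∈ A, ∀ n ∈ N, a' * (a * n * a⁻¹ * n⁻¹) = (a * n * a⁻¹ * n⁻¹) * a')
    (hX : ∃ x ∈ A ⊔ B, ∃ y ∈ A ⊔ B, ∃ n ∈ N,
      y * (x * n * x⁻¹ * n⁻¹) ≠ (x * n * x⁻¹ * n⁻¹) * y) :
    Cfsg.IsSpecialRankOnePair A B := by
  let _ : CommGroup ↥N :=
    { (inferInstance : Group ↥N) with mul_comm := fun x y => Subtype.ext (hNc x x.2 y y.2) }
  have hmem : ∀ (x : ↥(A ⊔ B)) (n : ↥N), (x : G) * n * (x : G)⁻¹ ∈ N := by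
    intro x n
    exact (Subgroup.mem_normalizer_iff.mp (hnorm x.2) n).mp n.2
  let φ : ↥(A ⊔ B) → (Additive ↥N →+ Additive ↥N) := fun x =>
    AddMonoidHom.mk' (fun n => Additive.ofMul ⟨(x : G) * (Additive.toMul n : ↥N) * (x : G)⁻¹,
      hmem x (Additive.toMul n)⟩) (by
        intro m n
        apply Additive.toMul.injective
        apply Subtype.ext
        show (x : G) * ((Additive.toMul m : ↥N) * (Additive.toMul n : ↥N) : ↥N) * (x : G)⁻¹ =
          ((x : G) * (Additive.toMul m : ↥N) * (x : G)⁻¹) *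
            ((x : G) * (Additive.toMul n : ↥N) * (x : G)⁻¹)
        rw [Subgroup.coe_mul]
        group)
  have hφ : ∀ (x : ↥(A ⊔ B)) (n : Additive ↥N),
      ((Additive.toMul (φ x n) : ↥N) : G) = (x : G) * (Additive.toMul n : ↥N) * (x : G)⁻¹ :=
    fun x n => rfl
  let ρ : ↥(A ⊔ B) →* AddMonoid.End (Additive ↥N) :=
    { toFun := φ
      map_one' := by
        refine AddMonoidHom.ext fun n => ?_
        show φ 1 n = n
        apply Additive.toMul.injective
        apply Subtype.ext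
        rw [hφ]
        show (1 : G) * (Additive.toMul n : ↥N) * (1 : G)⁻¹ = _
        rw [one_mul, inv_one, mul_one]
      map_mul' := by
        intro x y
        refine AddMonoidHom.ext fun n => ?_
        show φ (x * y) n = φ x (φ y n)
        apply Additive.toMul.injective
        apply Subtype.ext
        rw [hφ, hφ, hφ]
        show ((x : G) * (y : G)) * (Additive.toMul n : ↥N) * ((x : G) * (y : G))⁻¹ =
          (x : G) * ((y : G) * (Additive.toMul n : ↥N) * (y : G)⁻¹) * (x : G)⁻¹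
        group }
  have hd : ∀ (x : ↥(A ⊔ B)) (n : Additive ↥N),
      ((Additive.toMul ((ρ x - 1) n) : ↥N) : G) =
        (x : G) * (Additive.toMul n : ↥N) * (x : G)⁻¹ * ((Additive.toMul n : ↥N) : G)⁻¹ := by
    intro x n
    have e : (ρ x - 1) n = φ x n - n := rfl
    rw [e, toMul_sub, Subgroup.coe_div, div_eq_mul_inv, hφ]
  have hρ : ∀ (x y : ↥(A ⊔ B)) (n : Additive ↥N),
      ((Additive.toMul (((ρ y - 1) * (ρ x - 1)) n) : ↥N) : G) =
        (y : G) * ((x : G) * (Additive.toMul n : ↥N) * (x : G)⁻¹ * ((Additive.toMul n : ↥N) : G)⁻¹)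
          * (y : G)⁻¹ *
          ((x : G) * (Additive.toMul n : ↥N) * (x : G)⁻¹ * ((Additive.toMul n : ↥N) : G)⁻¹)⁻¹ := by
    intro x y n
    have e : ((ρ y - 1) * (ρ x - 1)) n = (ρ y - 1) ((ρ x - 1) n) := rfl
    rw [e, hd y, hd x]
  apply isSpecialRankOnePair_of_subgroupOf h
  apply special_of_ringHom ρ (isRankOneGroup_subgroupOf h)
  · intro a ha a' ha'
    rw [Subgroup.mem_subgroupOf] at ha ha'
    refine AddMonoidHom.ext fun n => ?_
    apply Additive.toMul.injective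
    apply Subtype.ext
    refine (hρ a a' n).trans ?_
    have := hq a ha a' ha' (Additive.toMul n : ↥N) (Additive.toMul n : ↥N).2
    rw [this]
    show _ = (1 : G)
    group
  · obtain ⟨x, hx, y, hy, n, hn, hne⟩ := hX
    refine ⟨⟨x, hx⟩, ⟨y, hy⟩, fun h0 => hne ?_⟩
    have h1 := hρ ⟨x, hx⟩ ⟨y, hy⟩ (Additive.ofMul ⟨n, hn⟩)
    rw [h0] at h1
    have h2 : ((Additive.toMul ((0 : AddMonoid.End (Additive ↥N)) (Additive.ofMul ⟨n, hn⟩)) : ↥N) : G)
        = 1 := rfl
    rw [h2] at h1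
    have h3 : y * (x * n * x⁻¹ * n⁻¹) * y⁻¹ * (x * n * x⁻¹ * n⁻¹)⁻¹ = 1 := h1.symm
    calc y * (x * n * x⁻¹ * n⁻¹)
        = (y * (x * n * x⁻¹ * n⁻¹) * y⁻¹ * (x * n * x⁻¹ * n⁻¹)⁻¹) * ((x * n * x⁻¹ * n⁻¹) * y) := by
          group
      _ = (x * n * x⁻¹ * n⁻¹) * y := by rw [h3, one_mul]

end Cfsg.Agent.Lib.Helper8
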