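import Mathlib
import Cfsg.Prelude.Def_RootSubgroups
import Cfsg.Agent.Lib.Helper8.RootSet

/-!
# The commutator case for abstract root subgroups: basic calculus
-/

set_option autoImplicit false

namespace Cfsg.Agent.Lib.Helper8

variable {G : Type*} [Group G]

open scoped commutatorElement

section CommCase

variable {S : Set (Subgroup G)} {A B : Subgroup G}

theorem comm_mem_commutator {a b : G} (ha : a ∈ A) (hb : b ∈ B) :
    a * b * a⁻¹ * b⁻¹ ∈ ⁅A, B⁆ := by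
  have := Subgroup.commutator_mem_commutator ha hb
  rwa [commutatorElement_def] at this

theorem commutator_le_sup' : ⁅A, B⁆ ≤ A ⊔ B := by
  rw [Subgroup.commutator_le]
  intro a ha b hb
  rw [commutatorElement_def]
  exact Subgroup.mul_mem _ (Subgroup.mul_mem _ (Subgroup.mul_mem _ (Subgroup.mem_sup_left ha)
    (Subgroup.mem_sup_right hb)) (Subgroup.inv_mem _ (Subgroup.mem_sup_left ha)))
    (Subgroup.inv_mem _ (Subgroup.mem_sup_right hb))

theorem commCase_central_left (h : Cfsg.RootCommutatorCase S A B) {c a : G} (hc : c ∈ ⁅A, B⁆)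
    (ha : a ∈ A) : c * a = a * c := h.2.1 c hc a (Subgroup.mem_sup_left ha)

theorem commCase_central_right (h : Cfsg.RootCommutatorCase S A B) {c b : G} (hc : c ∈ ⁅A, B⁆)
    (hb : b ∈ B) : c * b = b * c := h.2.1 c hc b (Subgroup.mem_sup_right hb)

theorem commCase_central_self (h : Cfsg.RootCommutatorCase S A B) {c c' : G} (hc : c ∈ ⁅A, B⁆)
    (hc' : c' ∈ ⁅A, B⁆) : c * c' = c' * c := h.2.1 c hc c' (commutator_le_sup' hc')

theorem commCase_symm (h : Cfsg.RootCommutatorCase S A B) : Cfsg.RootCommutatorCase S B A := by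
  obtain ⟨h1, h2, h3, h4⟩ := h
  have hcomm : ⁅B, A⁆ = ⁅A, B⁆ := Subgroup.commutator_comm B A
  have hinv : ∀ (X Y : Subgroup G) (x : G),
      Subgroup.closure ((fun y : G => x * y * x⁻¹ * y⁻¹) '' (Y : Set G)) =
        Subgroup.closure ((fun y : G => y * x * y⁻¹ * x⁻¹) '' (Y : Set G)) := by
    intro X Y x
    apply le_antisymm
    · rw [Subgroup.closure_le]
      rintro _ ⟨y, hy, rfl⟩
      have : x * y * x⁻¹ * y⁻¹ = (y * x * y⁻¹ * x⁻¹)⁻¹ := by group
      show x * y * x⁻¹ * y⁻¹ ∈ _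
      rw [this]
      exact Subgroup.inv_mem _ (Subgroup.subset_closure ⟨y, hy, rfl⟩)
    · rw [Subgroup.closure_le]
      rintro _ ⟨y, hy, rfl⟩
      have : y * x * y⁻¹ * x⁻¹ = (x * y * x⁻¹ * y⁻¹)⁻¹ := by group
      show y * x * y⁻¹ * x⁻¹ ∈ _
      rw [this]
      exact Subgroup.inv_mem _ (Subgroup.subset_closure ⟨y, hy, rfl⟩)
  refine ⟨by rw [hcomm]; exact h1, ?_, ?_, ?_⟩
  · intro c hc x hx
    rw [hcomm] at hc
    rw [sup_comm] at hx
    exact h2 c hc x hx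
  · intro b hb hb1
    rw [hcomm, hinv B A b]
    exact h4 b hb hb1
  · intro a ha ha1
    rw [hcomm, ← hinv A B a]
    exact h3 a ha ha1

/-- `b ↦ a b a⁻¹ b⁻¹` is multiplicative in the commutator case. -/
theorem commCase_map_mul_right (h : Cfsg.RootCommutatorCase S A B) {a b b' : G} (ha : a ∈ A)
    (hb : b ∈ B) (hb' : b' ∈ B) :
    a * (b * b') * a⁻¹ * (b * b')⁻¹ = (a * b * a⁻¹ * b⁻¹) * (a * b' * a⁻¹ * b'⁻¹) := by
  have hc := commCase_central_right h (comm_mem_commutator ha hb') hb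
  have e : a * (b * b') * a⁻¹ * (b * b')⁻¹ =
      (a * b * a⁻¹ * b⁻¹) * (b * (a * b' * a⁻¹ * b'⁻¹) * b⁻¹) := by group
  rw [e, ← hc]
  group

/-- `a ↦ a b a⁻¹ b⁻¹` is multiplicative in the commutator case. -/
theorem commCase_map_mul_left (h : Cfsg.RootCommutatorCase S A B) {a a' b : G} (ha : a ∈ A)
    (ha' : a' ∈ A) (hb : b ∈ B) :
    (a * a') * b * (a * a')⁻¹ * b⁻¹ = (a * b * a⁻¹ * b⁻¹) * (a' * b * a'⁻¹ * b⁻¹) := by
  have hc := commCase_central_left h (comm_mem_commutator ha' hb) ha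
  have hcc := commCase_central_self h (comm_mem_commutator ha hb) (comm_mem_commutator ha' hb)
  have e : (a * a') * b * (a * a')⁻¹ * b⁻¹ =
      (a * (a' * b * a'⁻¹ * b⁻¹) * a⁻¹) * (a * b * a⁻¹ * b⁻¹) := by group
  rw [e, ← hc, hcc]
  group

theorem commCase_map_one_right (a : G) : a * (1 : G) * a⁻¹ * (1 : G)⁻¹ = 1 := by group

theorem commCase_map_inv_right (h : Cfsg.RootCommutatorCase S A B) {a b : G} (ha : a ∈ A)
    (hb : b ∈ B) : a * b⁻¹ * a⁻¹ * (b⁻¹)⁻¹ = (a * b * a⁻¹ * b⁻¹)⁻¹ := by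
  have h1 := commCase_map_mul_right h ha hb (B.inv_mem hb)
  rw [mul_inv_cancel, commCase_map_one_right] at h1
  exact eq_inv_of_mul_eq_one_right h1.symm

theorem commCase_map_inv_left (h : Cfsg.RootCommutatorCase S A B) {a b : G} (ha : a ∈ A)
    (hb : b ∈ B) : a⁻¹ * b * (a⁻¹)⁻¹ * b⁻¹ = (a * b * a⁻¹ * b⁻¹)⁻¹ := by
  have h1 := commCase_map_mul_left h ha (A.inv_mem ha) hb
  have h0 : (a * a⁻¹) * b * (a * a⁻¹)⁻¹ * b⁻¹ = 1 := by group
  rw [h0] at h1
  exact eq_inv_of_mul_eq_one_right h1.symm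

/-- Every element of `⁅A, B⁆` is a commutator `a b a⁻¹ b⁻¹` with the given `a ≠ 1`. -/
theorem commCase_surj_right (h : Cfsg.RootCommutatorCase S A B) {a : G} (ha : a ∈ A) (ha1 : a ≠ 1)
    {c : G} (hc : c ∈ ⁅A, B⁆) : ∃ b ∈ B, a * b * a⁻¹ * b⁻¹ = c := by
  let T : Subgroup G :=
    { carrier := {c | ∃ b ∈ B, a * b * a⁻¹ * b⁻¹ = c}
      mul_mem' := by
        rintro _ _ ⟨b, hb, rfl⟩ ⟨b', hb', rfl⟩
        exact ⟨b * b', B.mul_mem hb hb', commCase_map_mul_right h ha hb hb'⟩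
      one_mem' := ⟨1, B.one_mem, by group⟩
      inv_mem' := by
        rintro _ ⟨b, hb, rfl⟩
        exact ⟨b⁻¹, B.inv_mem hb, commCase_map_inv_right h ha hb⟩ }
  have hle : Subgroup.closure ((fun b : G => a * b * a⁻¹ * b⁻¹) '' (B : Set G)) ≤ T := by
    rw [Subgroup.closure_le]
    rintro _ ⟨b, hb, rfl⟩
    exact ⟨b, hb, rfl⟩
  rw [h.2.2.1 a ha ha1] at hle
  exact hle hc

/-- Every element of `⁅A, B⁆` is a commutator `a b a⁻¹ b⁻¹` with the given `b ≠ 1`. -/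
theorem commCase_surj_left (h : Cfsg.RootCommutatorCase S A B) {b : G} (hb : b ∈ B) (hb1 : b ≠ 1)
    {c : G} (hc : c ∈ ⁅A, B⁆) : ∃ a ∈ A, a * b * a⁻¹ * b⁻¹ = c := by
  let T : Subgroup G :=
    { carrier := {c | ∃ a ∈ A, a * b * a⁻¹ * b⁻¹ = c}
      mul_mem' := by
        rintro _ _ ⟨a, ha, rfl⟩ ⟨a', ha', rfl⟩
        exact ⟨a * a', A.mul_mem ha ha', commCase_map_mul_left h ha ha' hb⟩
      one_mem' := ⟨1, A.one_mem, by group⟩
      inv_mem' := by
        rintro _ ⟨a, ha, rfl⟩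
        exact ⟨a⁻¹, A.inv_mem ha, commCase_map_inv_left h ha hb⟩ }
  have hle : Subgroup.closure ((fun a : G => a * b * a⁻¹ * b⁻¹) '' (A : Set G)) ≤ T := by
    rw [Subgroup.closure_le]
    rintro _ ⟨a, ha, rfl⟩
    exact ⟨a, ha, rfl⟩
  rw [h.2.2.2 b hb hb1] at hle
  exact hle hc

/-- In the commutator case `A` and `⁅A, B⁆` are different (for members of a root subgroup set). -/
theorem commCase_ne_left (hS : Cfsg.IsRootSubgroupSet S) (h : Cfsg.RootCommutatorCase S A B) :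
    A ≠ ⁅A, B⁆ := by
  intro hAC
  have hbot : ⁅A, B⁆ = ⊥ := by
    rw [Subgroup.commutator_eq_bot_iff_le_centralizer]
    intro a ha
    rw [Subgroup.mem_centralizer_iff]
    intro b hb
    have ha' : a ∈ ⁅A, B⁆ := by rw [← hAC]; exact ha
    exact (commCase_central_right h ha' hb).symm
  exact hS.ne_bot _ h.1 hbot

theorem commCase_ne_right (hS : Cfsg.IsRootSubgroupSet S) (h : Cfsg.RootCommutatorCase S A B) :
    B ≠ ⁅A, B⁆ := by
  have := commCase_ne_left hS (commCase_symm h)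
  rwa [Subgroup.commutator_comm B A] at this

/-- Conjugates of `A` by elements of `B` lie in `A ⊔ ⁅A, B⁆`. -/
theorem conjBy_le_sup_commutator {b : G} (hb : b ∈ B) : Cfsg.conjBy A b ≤ A ⊔ ⁅A, B⁆ := by
  intro x hx
  rw [mem_conjBy] at hx
  have e : x = (b * (b⁻¹ * x * b) * b⁻¹ * (b⁻¹ * x * b)⁻¹) * (b⁻¹ * x * b) := by group
  rw [e]
  refine Subgroup.mul_mem _ (Subgroup.mem_sup_right ?_) (Subgroup.mem_sup_left hx)
  rw [Subgroup.commutator_comm]
  exact comm_mem_commutator hb hx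

end CommCase

end Cfsg.Agent.Lib.Helper8
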