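import Mathlib
import Cfsg.Prelude.Def_RootSubgroups
import Cfsg.Agent.Lib.Helper8.RT1
import Cfsg.Agent.S5025

/-!
# Members inside rank one groups; the commutator case is forced; injectivity of commutator maps
-/

set_option autoImplicit false

namespace Cfsg.Agent.Lib.Helper8

variable {G : Type*} [Group G]

open scoped commutatorElement

section Containment

variable {S : Set (Subgroup G)}

/-- A member of `S` inside the rank one group `⟨C, D⟩` is a unipotent subgroup of it or central
in it. -/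
theorem mem_unipotentSubgroups_or_centralizes (hS : Cfsg.IsRootSubgroupSet S)
    {E C D : Subgroup G} (hE : E ∈ S) (hC : C ∈ S) (hD : D ∈ S) (hCD : Cfsg.IsRankOnePair C D)
    (hle : E ≤ C ⊔ D) :
    E ∈ Cfsg.unipotentSubgroups C D ∨
      E ≤ Subgroup.centralizer ((C ⊔ D : Subgroup G) : Set G) := by
  by_cases hex : ∃ E' ∈ Cfsg.unipotentSubgroups C D, Cfsg.IsRankOnePair E E'
  · left
    obtain ⟨E', hE', hEE'⟩ := hex
    obtain ⟨e, he, he1⟩ := rankOnePair_exists_left hEE'
    obtain ⟨e', he', -, hEq⟩ := hEE'.cond_left e he he1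
    have hEeq : E = Cfsg.conjBy E' (e' * e⁻¹) := by
      rw [← conjBy_conjBy, ← hEq, conjBy_conjBy]; simp
    rw [hEeq]
    exact conjBy_mem_unipotentSubgroups hE'
      (Subgroup.mul_mem _ (unipotentSubgroups_le hE' he') (Subgroup.inv_mem _ (hle he)))
  · right
    push Not at hex
    have hcomm : ∀ E' ∈ Cfsg.unipotentSubgroups C D, E ≤ Subgroup.centralizer (E' : Set G) := by
      intro E' hE'
      have hES := unipotentSubgroups_subset hS hC hE'
      rcases hS.pair E hE E' hES with h1 | h2 | h3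
      · exact Subgroup.commutator_eq_bot_iff_le_centralizer.mp h1
      · exact absurd h2 (hex E' hE')
      · exact absurd h3 (not_commutatorCase_of_le hS hC hD hCD hle hE')
    have h1 := hcomm C (mem_unipotentSubgroups_self C D)
    have h2 := hcomm D (rankOnePair_right_mem_unipotentSubgroups hCD)
    rw [Subgroup.le_centralizer_iff] at h1 h2 ⊢
    exact sup_le h1 h2

/-- If `⁅A, B⁆` is again a member of `S` then `(A, B)` is in the commutator case. -/
theorem commCase_of_commutator_mem (hS : Cfsg.IsRootSubgroupSet S) {A B : Subgroup G}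
    (hA : A ∈ S) (hB : B ∈ S) (hC : ⁅A, B⁆ ∈ S) : Cfsg.RootCommutatorCase S A B := by
  rcases hS.pair A hA B hB with h1 | h2 | h3
  · exact absurd h1 (hS.ne_bot _ hC)
  · exfalso
    obtain ⟨a, ha, ha1⟩ := rankOnePair_exists_left h2
    obtain ⟨b, hb, hb1, hEq⟩ := h2.cond_left a ha ha1
    rcases mem_unipotentSubgroups_or_centralizes hS hC hA hB h2 (Subgroup.commutator_le_sup A B)
      with h | h
    · obtain ⟨x, hx, hx'⟩ := h
      -- `⁅A, B⁆` is normalized by `A ⊔ B`
      have hnorm : A ⊔ B ≤ Subgroup.normalizer ((⁅A, B⁆ : Subgroup G) : Set G) :=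
        sup_le (Subgroup.normalizer_commutator_ge_left A B) (Subgroup.normalizer_commutator_ge_right A B)
      have hAC : A = ⁅A, B⁆ := by
        have h3 : Cfsg.conjBy ⁅A, B⁆ x⁻¹ = ⁅A, B⁆ :=
          conjBy_eq_self_iff.mpr (hnorm (Subgroup.inv_mem _ hx))
        rw [← h3]
        exact conjBy_eq_iff.mp hx'.symm
      have hbN : b⁻¹ ∈ Subgroup.normalizer (A : Set G) := by
        rw [hAC]
        exact hnorm (Subgroup.mem_sup_right (B.inv_mem hb))
      have : b⁻¹ ∈ B ⊓ Subgroup.normalizer (A : Set G) :=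
        Subgroup.mem_inf.mpr ⟨B.inv_mem hb, hbN⟩
      rw [rankOnePair_inf_normalizer' h2, Subgroup.mem_bot] at this
      exact hb1 (inv_eq_one.mp this)
    · -- `⁅A, B⁆` central: then `A` centralizes `b⁻¹ A b = a⁻¹ B a`
      have hAab : IsMulCommutative A := hS.commutative A hA
      have hcent : ∀ x ∈ Cfsg.conjBy A b⁻¹, a * x = x * a := by
        intro x hx
        rw [mem_conjBy] at hx
        simp only [inv_inv] at hx
        set a' := b * x * b⁻¹ with ha'
        have hx' : x = (b⁻¹ * a' * b * a'⁻¹) * a' := by rw [ha']; group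
        have hz : b⁻¹ * a' * b * a'⁻¹ ∈ ⁅A, B⁆ := by
          rw [Subgroup.commutator_comm]
          have := comm_mem_commutator (A := B) (B := A) (B.inv_mem hb) hx
          simpa using this
        have hz' := h hz
        rw [Subgroup.mem_centralizer_iff] at hz'
        have hza := hz' a (Subgroup.mem_sup_left ha)
        have haa' : a * a' = a' * a := mul_comm_of_mem_commutative hAab ha hx
        rw [hx', ← mul_assoc, hza, mul_assoc, haa', ← mul_assoc]
      rw [hEq] at hcent
      have haN : a ∈ Subgroup.centralizer (B : Set G) := by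
        rw [Subgroup.mem_centralizer_iff]
        intro b' hb'
        have h4 : a⁻¹ * b' * a ∈ Cfsg.conjBy B a⁻¹ := by
          have := conj_mem_conjBy (A := B) (g := a⁻¹) hb'
          simpa using this
        have h5 := hcent _ h4
        have h6 : b' * a = a⁻¹ * b' * a * a := by rw [← h5]; group
        have h7 : a * b' * a = b' * a * a := by
          have h8 : a * (b' * a) = a * (a⁻¹ * b' * a * a) := congrArg (a * ·) h6
          have e1 : a * b' * a = a * (b' * a) := by group
          have e2 : a * (a⁻¹ * b' * a * a) = b' * a * a := by group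
          rw [e1, h8, e2]
        exact (mul_right_cancel h7).symm
      have : a ∈ A ⊓ Subgroup.normalizer (B : Set G) :=
        Subgroup.mem_inf.mpr ⟨ha, Subgroup.centralizer_le_normalizer _ haN⟩
      rw [rankOnePair_inf_normalizer h2, Subgroup.mem_bot] at this
      exact ha1 this
  · exact h3

/-- In the commutator case with `A` having a rank one partner, `b ↦ a b a⁻¹ b⁻¹` is injective for
`a ≠ 1`. -/
theorem commCase_injective_right (hS : Cfsg.IsRootSubgroupSet S) {A B D : Subgroup G}
    (hA : A ∈ S) (hD : D ∈ S) (hAD : Cfsg.IsRankOnePair A D)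
    (h : Cfsg.RootCommutatorCase S A B) {a b : G} (ha : a ∈ A) (ha1 : a ≠ 1) (hb : b ∈ B)
    (hab : a * b * a⁻¹ * b⁻¹ = 1) : b = 1 := by
  by_contra hb1
  have hcomm : b * a * b⁻¹ = a := by
    have : a * b = b * a := by
      have e : a * b = (a * b * a⁻¹ * b⁻¹) * (b * a) := by group
      rw [e, hab, one_mul]
    rw [← this]; group
  have haAb : a ∈ Cfsg.conjBy A b := by
    have := conj_mem_conjBy (A := A) (g := b) ha
    rwa [hcomm] at this
  have hAb : A = Cfsg.conjBy A b := by
    by_contra hne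
    have h1 := rootSet_inf_eq_bot hS hD hAD (hS.conj_mem A hA b) hne
    have : a ∈ A ⊓ Cfsg.conjBy A b := Subgroup.mem_inf.mpr ⟨ha, haAb⟩
    rw [h1, Subgroup.mem_bot] at this
    exact ha1 this
  have hAC : A ⊓ ⁅A, B⁆ = ⊥ := rootSet_inf_eq_bot hS hD hAD h.1 (commCase_ne_left hS h)
  have hall : ∀ a' ∈ A, a' * b * a'⁻¹ * b⁻¹ = 1 := by
    intro a' ha'
    have h1 : a' * b * a'⁻¹ * b⁻¹ ∈ ⁅A, B⁆ := comm_mem_commutator ha' hb
    have h2 : a' * b * a'⁻¹ * b⁻¹ ∈ A := by
      have h3 : b * a'⁻¹ * b⁻¹ ∈ Cfsg.conjBy A b := conj_mem_conjBy (A.inv_mem ha')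
      rw [← hAb] at h3
      have e : a' * b * a'⁻¹ * b⁻¹ = a' * (b * a'⁻¹ * b⁻¹) := by group
      rw [e]
      exact A.mul_mem ha' h3
    have : a' * b * a'⁻¹ * b⁻¹ ∈ A ⊓ ⁅A, B⁆ := Subgroup.mem_inf.mpr ⟨h2, h1⟩
    rwa [hAC, Subgroup.mem_bot] at this
  have hbot : ⁅A, B⁆ = ⊥ := by
    rw [← h.2.2.2 b hb hb1, Subgroup.closure_eq_bot_iff]
    rintro _ ⟨a', ha', rfl⟩
    exact hall a' ha'
  exact hS.ne_bot _ h.1 hbot

/-- In the commutator case with `B` having a rank one partner, `a ↦ a b a⁻¹ b⁻¹` is injective for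
`b ≠ 1`. -/
theorem commCase_injective_left (hS : Cfsg.IsRootSubgroupSet S) {A B D : Subgroup G}
    (hB : B ∈ S) (hD : D ∈ S) (hBD : Cfsg.IsRankOnePair B D)
    (h : Cfsg.RootCommutatorCase S A B) {a b : G} (ha : a ∈ A) (hb : b ∈ B) (hb1 : b ≠ 1)
    (hab : a * b * a⁻¹ * b⁻¹ = 1) : a = 1 := by
  apply commCase_injective_right hS hB hD hBD (commCase_symm h) hb hb1 ha
  have e : b * a * b⁻¹ * a⁻¹ = (a * b * a⁻¹ * b⁻¹)⁻¹ := by group
  rw [e, hab, inv_one]

end Containment

end Cfsg.Agent.Lib.Helper8
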