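import Mathlib
import Cfsg.Prelude.Def_RootSubgroups
import Cfsg.Agent.Lib.Helper8.RT2

/-!
# The members of `S` inside `A ⊔ ⁅A, B⁆` in the commutator case
-/

set_option autoImplicit false

namespace Cfsg.Agent.Lib.Helper8

variable {G : Type*} [Group G]

open scoped commutatorElement

open scoped Pointwise in
/-- If `A` centralizes `C` then every element of `A ⊔ C` is a product `a * c`. -/
theorem exists_mul_of_mem_sup_of_commute {A C : Subgroup G}
    (hcomm : ∀ c ∈ C, ∀ a ∈ A, c * a = a * c) {x : G} (hx : x ∈ A ⊔ C) :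
    ∃ a ∈ A, ∃ c ∈ C, x = a * c := by
  have hle : A ≤ Subgroup.normalizer (C : Set G) := by
    intro a ha
    apply Subgroup.centralizer_le_normalizer
    rw [Subgroup.mem_centralizer_iff]
    intro c hc
    exact hcomm c hc a ha
  have h1 := Subgroup.coe_mul_of_left_le_normalizer_right A C hle
  have hx' : x ∈ ((A ⊔ C : Subgroup G) : Set G) := hx
  rw [h1, Set.mem_mul] at hx'
  obtain ⟨a, ha, c, hc, rfl⟩ := hx'
  exact ⟨a, ha, c, hc, rfl⟩

section CommCase

variable {S : Set (Subgroup G)} {A B : Subgroup G}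

/-- In the commutator case the two conventions for the commutator agree. -/
theorem commCase_comm_eq (h : Cfsg.RootCommutatorCase S A B) {a b : G} (ha : a ∈ A) (hb : b ∈ B) :
    a⁻¹ * b⁻¹ * a * b = a * b * a⁻¹ * b⁻¹ := by
  have h1 := commCase_map_inv_right h (A.inv_mem ha) hb
  have h2 := commCase_map_inv_left h ha hb
  rw [inv_inv, inv_inv] at h1
  rw [inv_inv] at h2
  rw [h1, h2, inv_inv]

/-- In the commutator case, if `a b a⁻¹ b⁻¹ = c` then `b⁻¹ a b = a c`. -/
theorem commCase_conj_eq (h : Cfsg.RootCommutatorCase S A B) {a b : G} (ha : a ∈ A) (hb : b ∈ B) :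
    b⁻¹ * a * b = a * (a * b * a⁻¹ * b⁻¹) := by
  rw [← commCase_comm_eq h ha hb]
  group

/-- In the commutator case every element `a c` with `1 ≠ a ∈ A`, `c ∈ ⁅A, B⁆` lies in a conjugate
of `A` by an element of `B`. -/
theorem commCase_exists_conj (h : Cfsg.RootCommutatorCase S A B) {a c : G} (ha : a ∈ A)
    (ha1 : a ≠ 1) (hc : c ∈ ⁅A, B⁆) : ∃ b ∈ B, a * c ∈ Cfsg.conjBy A b := by
  obtain ⟨b, hb, hbc⟩ := commCase_surj_right h ha ha1 hc
  refine ⟨b⁻¹, B.inv_mem hb, ?_⟩
  rw [← hbc, ← commCase_conj_eq h ha hb]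
  have := conj_mem_conjBy (A := A) (g := b⁻¹) ha
  simpa using this

end CommCase

section Members

variable {S : Set (Subgroup G)}

/-- A non-identity element of `⁅A, B⁆` does not centralize a rank one partner `D` of `A`. -/
theorem commCase_not_centralize (hS : Cfsg.IsRootSubgroupSet S) {A B D : Subgroup G}
    (hA : A ∈ S) (hD : D ∈ S) (hAD : Cfsg.IsRankOnePair A D)
    (h : Cfsg.RootCommutatorCase S A B) {c : G} (hc : c ∈ ⁅A, B⁆) (hc1 : c ≠ 1)
    (hcD : ∀ d ∈ D, d * c = c * d) : False := by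
  obtain ⟨a, ha, ha1⟩ := rankOnePair_exists_left hAD
  have hz : c ∈ Subgroup.centralizer ((A ⊔ D : Subgroup G) : Set G) := by
    have h1 : A ⊔ D ≤ Subgroup.centralizer ((Subgroup.zpowers c : Subgroup G) : Set G) := by
      apply sup_le
      · rw [le_centralizer_zpowers_iff]
        intro x hx
        exact (commCase_central_left h hc hx).symm
      · rw [le_centralizer_zpowers_iff]
        exact hcD
    rw [Subgroup.mem_centralizer_iff]
    intro x hx
    have := (le_centralizer_zpowers_iff.mp h1) x hx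
    exact this
  have hAC : A ⊓ ⁅A, B⁆ = ⊥ := rootSet_inf_eq_bot hS hD hAD h.1 (commCase_ne_left hS h)
  apply Cfsg.Agent.S5025.result hS hA ⟨hD, hAD⟩ hz hc1 a ha ha1
  obtain ⟨b, hb, hmem⟩ := commCase_exists_conj h ha ha1 hc
  rw [commCase_central_left h hc ha]
  refine ⟨?_, Cfsg.conjBy A b, hS.conj_mem A hA b, hmem⟩
  intro hac
  have h2 : a ∈ A ⊓ ⁅A, B⁆ := by
    refine Subgroup.mem_inf.mpr ⟨ha, ?_⟩
    have : a = c⁻¹ := eq_inv_of_mul_eq_one_left hac
    rw [this]
    exact Subgroup.inv_mem _ hc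
  rw [hAC, Subgroup.mem_bot] at h2
  exact ha1 h2

/-- A member of `S` inside `⁅A, B⁆` equals `⁅A, B⁆`, if `A` has a rank one partner. -/
theorem eq_commutator_of_le (hS : Cfsg.IsRootSubgroupSet S) {A B D E : Subgroup G}
    (hA : A ∈ S) (hD : D ∈ S) (hAD : Cfsg.IsRankOnePair A D)
    (h : Cfsg.RootCommutatorCase S A B) (hE : E ∈ S) (hle : E ≤ ⁅A, B⁆) : E = ⁅A, B⁆ := by
  have hC := h.1
  have hEne : ∃ e ∈ E, e ≠ 1 := by
    by_contra hcon
    push Not at hcon
    apply hS.ne_bot E hE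
    rw [eq_bot_iff]
    intro e he
    rw [Subgroup.mem_bot]
    exact hcon e he
  obtain ⟨e, he, he1⟩ := hEne
  -- a member with a rank one partner, contained in or containing another member, equals it
  have hrk1 : ∀ D', D' ∈ S → Cfsg.IsRankOnePair ⁅A, B⁆ D' → E = ⁅A, B⁆ := by
    intro D' hD' hr
    by_contra hne
    have := rootSet_inf_eq_bot hS hD' hr hE (Ne.symm hne)
    have he' : e ∈ ⁅A, B⁆ ⊓ E := Subgroup.mem_inf.mpr ⟨hle he, he⟩
    rw [this, Subgroup.mem_bot] at he'
    exact he1 he'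
  have hrk2 : ∀ D', D' ∈ S → Cfsg.IsRankOnePair E D' → E = ⁅A, B⁆ := by
    intro D' hD' hr
    by_contra hne
    have := rootSet_inf_eq_bot hS hD' hr hC hne
    have he' : e ∈ E ⊓ ⁅A, B⁆ := Subgroup.mem_inf.mpr ⟨he, hle he⟩
    rw [this, Subgroup.mem_bot] at he'
    exact he1 he'
  rcases hS.pair ⁅A, B⁆ hC D hD with h1 | h2 | h3
  · exfalso
    rw [Subgroup.commutator_eq_bot_iff_le_centralizer] at h1
    refine commCase_not_centralize hS hA hD hAD h (hle he) he1 ?_
    have := h1 (hle he)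
    rw [Subgroup.mem_centralizer_iff] at this
    exact this
  · exact hrk1 D hD h2
  · rcases hS.pair E hE D hD with k1 | k2 | k3
    · exfalso
      rw [Subgroup.commutator_eq_bot_iff_le_centralizer] at k1
      refine commCase_not_centralize hS hA hD hAD h (hle he) he1 ?_
      have := k1 he
      rw [Subgroup.mem_centralizer_iff] at this
      exact this
    · exact hrk2 D hD k2
    · -- both in the commutator case with `D`
      have hcomEq : ⁅E, D⁆ = ⁅⁅A, B⁆, D⁆ := by
        rw [← k3.2.2.1 e he he1, ← h3.2.2.1 e (hle he) he1]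
      obtain ⟨d, hd, hd1⟩ := rankOnePair_exists_right hAD
      apply le_antisymm hle
      intro c hc
      have hψc : c * d * c⁻¹ * d⁻¹ ∈ ⁅E, D⁆ := by
        rw [hcomEq]; exact comm_mem_commutator hc hd
      obtain ⟨e', he', hee⟩ := commCase_surj_left k3 hd hd1 hψc
      -- `c * e'⁻¹` is killed by the injective map
      have h4 : (c * e'⁻¹) * d * (c * e'⁻¹)⁻¹ * d⁻¹ = 1 := by
        rw [commCase_map_mul_left h3 hc (Subgroup.inv_mem _ (hle he')) hd,
          commCase_map_inv_left h3 (hle he') hd, hee, mul_inv_cancel]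
      have h5 := commCase_injective_left hS hD hA (Cfsg.RankOnePair_symm hAD) h3
        (Subgroup.mul_mem _ hc (Subgroup.inv_mem _ (hle he'))) hd hd1 h4
      have : c = e' := by
        have := mul_inv_eq_one.mp h5
        exact this
      rw [this]; exact he'

/-- The members of `S` inside `A ⊔ ⁅A, B⁆`. -/
theorem membersIn_sup_commutator (hS : Cfsg.IsRootSubgroupSet S) {A B D : Subgroup G}
    (hA : A ∈ S) (hD : D ∈ S) (hAD : Cfsg.IsRankOnePair A D)
    (h : Cfsg.RootCommutatorCase S A B) :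
    Cfsg.membersIn S (A ⊔ ⁅A, B⁆) = (fun b : G => Cfsg.conjBy A b) '' (B : Set G) ∪ {⁅A, B⁆} := by
  ext E
  constructor
  · rintro ⟨hE, hle⟩
    by_cases hEC : E ≤ ⁅A, B⁆
    · right
      exact eq_commutator_of_le hS hA hD hAD h hE hEC
    · left
      obtain ⟨e, he, heC⟩ := SetLike.not_le_iff_exists.mp hEC
      obtain ⟨a, ha, c, hc, rfl⟩ := exists_mul_of_mem_sup_of_commute
        (fun c hc a ha => commCase_central_left h hc ha) (hle he)
      have ha1 : a ≠ 1 := by
        rintro rfl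
        apply heC
        simpa using hc
      obtain ⟨b, hb, hmem⟩ := commCase_exists_conj h ha ha1 hc
      refine ⟨b, hb, ?_⟩
      show Cfsg.conjBy A b = E
      by_contra hne
      have hr : Cfsg.IsRankOnePair (Cfsg.conjBy A b) (Cfsg.conjBy D b) := isRankOnePair_conjBy hAD b
      have := rootSet_inf_eq_bot hS (hS.conj_mem D hD b) hr hE hne
      have he' : a * c ∈ Cfsg.conjBy A b ⊓ E := Subgroup.mem_inf.mpr ⟨hmem, he⟩
      rw [this, Subgroup.mem_bot] at he'
      apply heC
      rw [he']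
      exact Subgroup.one_mem _
  · rintro (⟨b, hb, rfl⟩ | hE)
    · exact ⟨hS.conj_mem A hA b, conjBy_le_sup_commutator hb⟩
    · rw [Set.mem_singleton_iff] at hE
      rw [hE]
      exact ⟨h.1, le_sup_right⟩

/-- The members of `S` inside `A ⊔ ⁅A, B⁆` partition it. -/
theorem isSubgroupPartition_sup_commutator (hS : Cfsg.IsRootSubgroupSet S) {A B D : Subgroup G}
    (hA : A ∈ S) (hD : D ∈ S) (hAD : Cfsg.IsRankOnePair A D)
    (h : Cfsg.RootCommutatorCase S A B) :
    Cfsg.IsSubgroupPartition (A ⊔ ⁅A, B⁆) (Cfsg.membersIn S (A ⊔ ⁅A, B⁆)) := by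
  refine ⟨fun E hE => hE.2, ?_, ?_⟩
  · intro x hx hx1
    obtain ⟨a, ha, c, hc, rfl⟩ := exists_mul_of_mem_sup_of_commute
      (fun c hc a ha => commCase_central_left h hc ha) hx
    by_cases ha1 : a = 1
    · refine ⟨⁅A, B⁆, ⟨h.1, le_sup_right⟩, ?_⟩
      rw [ha1, one_mul]; exact hc
    · obtain ⟨b, hb, hmem⟩ := commCase_exists_conj h ha ha1 hc
      exact ⟨Cfsg.conjBy A b, ⟨hS.conj_mem A hA b, conjBy_le_sup_commutator hb⟩, hmem⟩
  · intro E hE F hF hne
    rw [membersIn_sup_commutator hS hA hD hAD h] at hE hF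
    have key : ∀ b : G, ∀ F' ∈ S, Cfsg.conjBy A b ≠ F' → Cfsg.conjBy A b ⊓ F' = ⊥ := by
      intro b F' hF' hne'
      exact rootSet_inf_eq_bot hS (hS.conj_mem D hD b) (isRankOnePair_conjBy hAD b) hF' hne'
    have hES : ∀ X, X ∈ (fun b : G => Cfsg.conjBy A b) '' (B : Set G) ∪ {⁅A, B⁆} → X ∈ S := by
      rintro X (⟨b, hb, rfl⟩ | hX)
      · exact hS.conj_mem A hA b
      · rw [Set.mem_singleton_iff] at hX
        rw [hX]; exact h.1
    rcases hE with ⟨b, hb, rfl⟩ | hE
    · exact key b F (hES F hF) hne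
    · rcases hF with ⟨b, hb, rfl⟩ | hF
      · rw [inf_comm]
        exact key b E (hES E (Or.inr hE)) (Ne.symm hne)
      · rw [Set.mem_singleton_iff] at hE hF
        exact absurd (hE.trans hF.symm) hne

end Members

end Cfsg.Agent.Lib.Helper8
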