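import Mathlib
import Cfsg.Prelude.Def_RootSubgroups
import Cfsg.Agent.Lib.Helper8.RT3

/-!
# Components of the graph of rank one pairs
-/

set_option autoImplicit false

namespace Cfsg.Agent.Lib.Helper8

variable {G : Type*} [Group G]

open scoped commutatorElement

section Components

variable {S : Set (Subgroup G)}

theorem fAdj_symm {A B : Subgroup G} (h : Cfsg.FAdj S A B) : Cfsg.FAdj S B A :=
  ⟨h.2.1, h.1, Cfsg.RankOnePair_symm h.2.2⟩

theorem fReach_symm {A B : Subgroup G} (h : Relation.ReflTransGen (Cfsg.FAdj S) A B) :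
    Relation.ReflTransGen (Cfsg.FAdj S) B A := by
  induction h with
  | refl => exact Relation.ReflTransGen.refl
  | tail _ hbc ih => exact Relation.ReflTransGen.head (fAdj_symm hbc) ih

theorem componentOf_eq_of_reach {A B : Subgroup G}
    (h : Relation.ReflTransGen (Cfsg.FAdj S) A B) :
    Cfsg.componentOf (Cfsg.FAdj S) S A = Cfsg.componentOf (Cfsg.FAdj S) S B := by
  ext X
  constructor
  · rintro ⟨hX, hr⟩
    exact ⟨hX, (fReach_symm h).trans hr⟩
  · rintro ⟨hX, hr⟩
    exact ⟨hX, h.trans hr⟩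

theorem exists_rankOnePartner_of_component {A : Subgroup G}
    (h : ∃ A' ∈ Cfsg.componentOf (Cfsg.FAdj S) S A, A' ≠ A) :
    ∃ D ∈ S, Cfsg.IsRankOnePair A D := by
  obtain ⟨A', ⟨-, hr⟩, hne⟩ := h
  rcases Relation.ReflTransGen.cases_head hr with h1 | ⟨D, hD, -⟩
  · exact absurd h1.symm hne
  · exact ⟨D, hD.2.1, hD.2.2⟩

theorem reach_of_rankOnePair {A D : Subgroup G} (hA : A ∈ S) (hD : D ∈ S)
    (h : Cfsg.IsRankOnePair A D) : Relation.ReflTransGen (Cfsg.FAdj S) A D :=
  Relation.ReflTransGen.single ⟨hA, hD, h⟩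

/-- Key step for line partners in different components. -/
theorem rankOnePair_of_mul_mem (hS : Cfsg.IsRootSubgroupSet S) {A B D E : Subgroup G}
    (hB : B ∈ S) (hD : D ∈ S) (hE : E ∈ S)
    (hAD : Cfsg.IsRankOnePair A D) (hAB : ∀ a ∈ A, ∀ b ∈ B, a * b = b * a)
    (hBD : ¬ Cfsg.IsRankOnePair B D) {a b : G} (ha : a ∈ A) (ha1 : a ≠ 1) (hb : b ∈ B)
    (he : a * b ∈ E) : Cfsg.IsRankOnePair E D := by
  obtain ⟨d, hd, hd1, hEq⟩ := hAD.cond_left a ha ha1
  have hDc : IsMulCommutative D := hS.commutative D hD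
  -- `b⁻¹ D b` commutes elementwise with `D`
  have claim1 : ∀ c₁ ∈ D, ∀ c₃ ∈ D, (b⁻¹ * c₁ * b) * c₃ = c₃ * (b⁻¹ * c₁ * b) := by
    rcases hS.pair B hB D hD with h1 | h2 | h3
    · intro c₁ hc₁ c₃ hc₃
      rw [Subgroup.commutator_eq_bot_iff_le_centralizer] at h1
      have h4 := h1 hb
      rw [Subgroup.mem_centralizer_iff] at h4
      have h5 : b⁻¹ * c₁ * b = c₁ := by
        rw [mul_assoc, h4 c₁ hc₁, ← mul_assoc, inv_mul_cancel, one_mul]
      rw [h5]
      exact mul_comm_of_mem_commutative hDc hc₁ hc₃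
    · exact absurd h2 hBD
    · exact commutatorCase_conj_centralizes hDc h3 hb
  set f := b⁻¹ * d * b with hf
  have hfD : ∀ c ∈ D, f * c = c * f := fun c hc => claim1 d hd c hc
  have hfN : Cfsg.conjBy D f = D := by
    apply conjBy_eq_self_iff.mpr
    apply Subgroup.centralizer_le_normalizer
    rw [Subgroup.mem_centralizer_iff]
    intro c hc
    exact (hfD c hc).symm
  have hbA : Cfsg.conjBy A b = A := by
    apply conjBy_eq_self_iff.mpr
    apply Subgroup.centralizer_le_normalizer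
    rw [Subgroup.mem_centralizer_iff]
    intro x hx
    exact hAB x hx b hb
  -- `e⁻¹ D e = f⁻¹ A f`
  have claim2 : Cfsg.conjBy D (a * b)⁻¹ = Cfsg.conjBy A f⁻¹ := by
    have e1 : (a * b)⁻¹ = b⁻¹ * a⁻¹ := by group
    have e2 : f⁻¹ = (b⁻¹ * d⁻¹) * b := by rw [hf]; group
    rw [e1, ← conjBy_conjBy, ← hEq, conjBy_conjBy, e2, ← conjBy_conjBy A b, hbA]
  rcases hS.pair E hE D hD with h1 | h2 | h3
  · exfalso
    rw [Subgroup.commutator_eq_bot_iff_le_centralizer] at h1
    have heN : Cfsg.conjBy D (a * b)⁻¹ = D := by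
      apply conjBy_eq_self_iff.mpr
      apply Subgroup.inv_mem
      apply Subgroup.centralizer_le_normalizer
      exact h1 he
    rw [heN] at claim2
    have h4 : A = D := by
      have := conjBy_eq_iff.mp claim2.symm
      rw [inv_inv, hfN] at this
      exact this
    exact hAD.ne h4
  · exact h2
  · exfalso
    have hcc := commutatorCase_conj_centralizes hDc h3 he
    apply rankOnePair_not_commute hAD ha ha1 hd hd1
    -- `f⁻¹ a f ∈ e⁻¹ D e` commutes with `d`
    have h4 : f⁻¹ * a * f ∈ Cfsg.conjBy D (a * b)⁻¹ := by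
      rw [claim2]
      have := conj_mem_conjBy (A := A) (g := f⁻¹) ha
      simpa using this
    rw [mem_conjBy, inv_inv] at h4
    set c₁ := (a * b) * (f⁻¹ * a * f) * (a * b)⁻¹ with hc₁
    have h5 := hcc c₁ h4 d hd
    have h6 : (a * b)⁻¹ * c₁ * (a * b) = f⁻¹ * a * f := by rw [hc₁]; group
    rw [h6] at h5
    -- now conjugate back by f
    have h7 : f * d = d * f := hfD d hd
    have h8 : a * d = f * ((f⁻¹ * a * f) * d) * f⁻¹ * (f * d⁻¹ * f⁻¹ * d) := by group
    have h9 : f * d⁻¹ * f⁻¹ * d = 1 := by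
      have : f * d⁻¹ = d⁻¹ * f := by
        have h10 : d⁻¹ * (f * d) * d⁻¹ = d⁻¹ * (d * f) * d⁻¹ := by rw [h7]
        have e3 : d⁻¹ * (f * d) * d⁻¹ = d⁻¹ * f := by group
        have e4 : d⁻¹ * (d * f) * d⁻¹ = f * d⁻¹ := by group
        rw [e3, e4] at h10
        exact h10.symm
      rw [this]; group
    rw [h8, h9, mul_one, h5]
    have e5 : f * (d * (f⁻¹ * a * f)) * f⁻¹ = (f * d * f⁻¹) * a := by group
    rw [e5, h7]
    group

end Components

end Cfsg.Agent.Lib.Helper8
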