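import Mathlib
import Cfsg.Prelude.Def_RootSubgroups
import Cfsg.Agent.Lib.Helper8.RT4
import Cfsg.Agent.S5031

/-!
# Conjugation preserves the components of the graph of rank one pairs
-/

set_option autoImplicit false

namespace Cfsg.Agent.Lib.Helper8

variable {G : Type*} [Group G]

open scoped commutatorElement

section Conj

variable {S : Set (Subgroup G)}

/-- Rank one partners are conjugate. -/
theorem rankOnePair_exists_conj {A B : Subgroup G} (h : Cfsg.IsRankOnePair A B) :
    ∃ g : G, B = Cfsg.conjBy A g := by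
  obtain ⟨a, ha, ha1⟩ := rankOnePair_exists_left h
  obtain ⟨b, hb, -, hEq⟩ := h.cond_left a ha ha1
  refine ⟨a * b⁻¹, ?_⟩
  rw [← conjBy_conjBy, hEq, conjBy_conjBy]
  simp [conjBy_one]

theorem reach_exists_conj {A B : Subgroup G} (h : Relation.ReflTransGen (Cfsg.FAdj S) A B) :
    ∃ g : G, B = Cfsg.conjBy A g := by
  induction h with
  | refl => exact ⟨1, (conjBy_one _).symm⟩
  | tail _ hbc ih =>
    obtain ⟨g, rfl⟩ := ih
    obtain ⟨g', hg'⟩ := rankOnePair_exists_conj hbc.2.2
    exact ⟨g' * g, by rw [hg', conjBy_conjBy]⟩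

/-- In the commutator case, a conjugate of `A` by an element of `B` is `A` or a line partner. -/
theorem commCase_conj_mem_linePartners (hS : Cfsg.IsRootSubgroupSet S) {A B D : Subgroup G}
    (hA : A ∈ S) (hD : D ∈ S) (hAD : Cfsg.IsRankOnePair A D)
    (h : Cfsg.RootCommutatorCase S A B) {b : G} (hb : b ∈ B)
    (hne : Cfsg.conjBy A b ≠ A) : Cfsg.conjBy A b ∈ Cfsg.linePartners S A := by
  have hb1 : b ≠ 1 := by
    rintro rfl
    exact hne (conjBy_one A)
  have hAab : IsMulCommutative A := hS.commutative A hA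
  have hle : Cfsg.conjBy A b ≤ A ⊔ ⁅A, B⁆ := conjBy_le_sup_commutator hb
  have hsup : A ⊔ Cfsg.conjBy A b = A ⊔ ⁅A, B⁆ := by
    apply le_antisymm (sup_le le_sup_left hle)
    apply sup_le le_sup_left
    intro c hc
    obtain ⟨a, ha, hac⟩ := commCase_surj_left h hb hb1 hc
    have e : c = a * (b * a⁻¹ * b⁻¹) := by rw [← hac]; group
    rw [e]
    exact Subgroup.mul_mem _ (Subgroup.mem_sup_left ha)
      (Subgroup.mem_sup_right (conj_mem_conjBy (A.inv_mem ha)))
  refine ⟨⟨hS.conj_mem A hA b, hne, ?_⟩, ?_⟩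
  · rw [Subgroup.commutator_eq_bot_iff_le_centralizer]
    intro a ha
    rw [Subgroup.mem_centralizer_iff]
    intro x hx
    obtain ⟨a', ha', c, hc, rfl⟩ := exists_mul_of_mem_sup_of_commute
      (fun c hc a ha => commCase_central_left h hc ha) (hle hx)
    rw [mul_assoc, commCase_central_left h hc ha, ← mul_assoc,
      mul_comm_of_mem_commutative hAab ha' ha, mul_assoc]
  · rw [hsup]
    exact isSubgroupPartition_sup_commutator hS hA hD hAD h

/-- Conjugating a non-isolated member by an element of a member stays in its component. -/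
theorem reach_conjBy_of_mem (hS : Cfsg.IsRootSubgroupSet S) {A D E : Subgroup G}
    (hA : A ∈ S) (hD : D ∈ S) (hAD : Cfsg.IsRankOnePair A D) (hE : E ∈ S) {e : G} (he : e ∈ E) :
    Relation.ReflTransGen (Cfsg.FAdj S) A (Cfsg.conjBy A e) := by
  rcases hS.pair A hA E hE with h1 | h2 | h3
  · have : Cfsg.conjBy A e = A := by
      apply conjBy_eq_self_iff.mpr
      apply Subgroup.centralizer_le_normalizer
      rw [Subgroup.commutator_comm, Subgroup.commutator_eq_bot_iff_le_centralizer] at h1
      exact h1 he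
    rw [this]
  · have h4 : Cfsg.IsRankOnePair (Cfsg.conjBy A e) (Cfsg.conjBy E e) := isRankOnePair_conjBy h2 e
    rw [conjBy_eq_self_of_mem he] at h4
    exact (reach_of_rankOnePair hA hE h2).trans
      (reach_of_rankOnePair hE (hS.conj_mem A hA e) (Cfsg.RankOnePair_symm h4))
  · by_cases hne : Cfsg.conjBy A e = A
    · rw [hne]
    · have hline := commCase_conj_mem_linePartners hS hA hD hAD h3 he hne
      have hA' := hS.conj_mem A hA e
      have hcomp : Cfsg.componentOf (Cfsg.FAdj S) S A =
          Cfsg.componentOf (Cfsg.FAdj S) S (Cfsg.conjBy A e) := by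
        by_contra hcne
        refine Cfsg.Agent.S5031.result hS hA hA' hcne ?_ ?_ hline
        · exact ⟨D, ⟨hD, reach_of_rankOnePair hA hD hAD⟩, hAD.ne.symm⟩
        · have h4 := isRankOnePair_conjBy hAD e
          exact ⟨Cfsg.conjBy D e, ⟨hS.conj_mem D hD e,
            reach_of_rankOnePair hA' (hS.conj_mem D hD e) h4⟩, h4.ne.symm⟩
      have : Cfsg.conjBy A e ∈ Cfsg.componentOf (Cfsg.FAdj S) S A := by
        rw [hcomp]
        exact ⟨hA', Relation.ReflTransGen.refl⟩
      exact this.2

/-- If every member has a rank one partner, conjugation by any element preserves components. -/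
theorem reach_conjBy (hS : Cfsg.IsRootSubgroupSet S)
    (hall : ∀ A ∈ S, ∃ D ∈ S, Cfsg.IsRankOnePair A D) (g : G) :
    ∀ A ∈ S, Relation.ReflTransGen (Cfsg.FAdj S) A (Cfsg.conjBy A g) := by
  let H : Subgroup G :=
    { carrier := {g | ∀ A ∈ S, Relation.ReflTransGen (Cfsg.FAdj S) A (Cfsg.conjBy A g)}
      mul_mem' := by
        intro g h hg hh A hA
        rw [← conjBy_conjBy]
        exact (hh A hA).trans (hg _ (hS.conj_mem A hA h))
      one_mem' := by
        intro A hA
        rw [conjBy_one]
      inv_mem' := by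
        intro g hg A hA
        have h1 := hg _ (hS.conj_mem A hA g⁻¹)
        rw [conjBy_conjBy, mul_inv_cancel, conjBy_one] at h1
        exact fReach_symm h1 }
  have hle : (⨆ E ∈ S, E) ≤ H := by
    apply iSup₂_le
    intro E hE e he A hA
    obtain ⟨D, hD, hAD⟩ := hall A hA
    exact reach_conjBy_of_mem hS hA hD hAD hE he
  rw [hS.generates] at hle
  exact hle (Subgroup.mem_top g)

end Conj

end Cfsg.Agent.Lib.Helper8
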