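import Mathlib
import Cfsg.Prelude.Def_RootSubgroups
import Cfsg.Agent.Lib.Helper8.RT5

/-!
# Homomorphic images of sets of abstract root subgroups
-/

set_option autoImplicit false

namespace Cfsg.Agent.Lib.Helper8

variable {G H : Type*} [Group G] [Group H]

open scoped commutatorElement

theorem map_conjBy (f : G →* H) (A : Subgroup G) (g : G) :
    (Cfsg.conjBy A g).map f = Cfsg.conjBy (A.map f) (f g) := by
  ext y
  rw [mem_conjBy, Subgroup.mem_map, Subgroup.mem_map]
  constructor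
  · rintro ⟨x, hx, rfl⟩
    rw [mem_conjBy] at hx
    exact ⟨g⁻¹ * x * g, hx, by simp⟩
  · rintro ⟨x, hx, hxy⟩
    refine ⟨g * x * g⁻¹, conj_mem_conjBy hx, ?_⟩
    rw [map_mul, map_mul, hxy, map_inv]
    group

theorem rankOneCondition_map (f : G →* H) {A B : Subgroup G} (h : Cfsg.RankOneCondition A B)
    (hne : A.map f ≠ B.map f) : Cfsg.RankOneCondition (A.map f) (B.map f) := by
  intro a' ha' ha'1
  obtain ⟨a, ha, rfl⟩ := Subgroup.mem_map.mp ha'
  have ha1 : a ≠ 1 := by
    rintro rfl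
    exact ha'1 (map_one f)
  obtain ⟨b, hb, hb1, hEq⟩ := h a ha ha1
  have hEq' : Cfsg.conjBy (A.map f) (f b)⁻¹ = Cfsg.conjBy (B.map f) (f a)⁻¹ := by
    rw [← map_inv, ← map_inv, ← map_conjBy, ← map_conjBy, hEq]
  refine ⟨f b, Subgroup.mem_map_of_mem f hb, ?_, hEq'⟩
  intro hfb
  rw [hfb, inv_one, conjBy_one] at hEq'
  apply hne
  have := conjBy_eq_iff.mp hEq'.symm
  rw [inv_inv, conjBy_eq_self_of_mem ha'] at this
  exact this.symm

theorem isRankOnePair_map (f : G →* H) {A B : Subgroup G} (h : Cfsg.IsRankOnePair A B)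
    (hne : A.map f ≠ B.map f) : Cfsg.IsRankOnePair (A.map f) (B.map f) := by
  refine ⟨hne, ?_, ?_, rankOneCondition_map f h.cond_left hne,
    rankOneCondition_map f h.cond_right (Ne.symm hne)⟩
  · have := h.nilpotent_left
    exact Group.nilpotent_of_surjective (f.subgroupMap A) (f.subgroupMap_surjective A)
  · have := h.nilpotent_right
    exact Group.nilpotent_of_surjective (f.subgroupMap B) (f.subgroupMap_surjective B)

theorem isMulCommutative_map (f : G →* H) {A : Subgroup G} (hA : IsMulCommutative A) :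
    IsMulCommutative (A.map f) := by
  refine ⟨⟨?_⟩⟩
  rintro ⟨x, hx⟩ ⟨y, hy⟩
  obtain ⟨a, ha, rfl⟩ := Subgroup.mem_map.mp hx
  obtain ⟨b, hb, rfl⟩ := Subgroup.mem_map.mp hy
  apply Subtype.ext
  show f a * f b = f b * f a
  rw [← map_mul, ← map_mul, mul_comm_of_mem_commutative hA ha hb]

theorem commCase_map (f : G →* H) {S : Set (Subgroup G)} {A B : Subgroup G}
    (h : Cfsg.RootCommutatorCase S A B) :
    Cfsg.RootCommutatorCase ((fun A : Subgroup G => A.map f) '' S) (A.map f) (B.map f) := by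
  have hcm : ⁅A.map f, B.map f⁆ = (⁅A, B⁆).map f := (Subgroup.map_commutator A B f).symm
  have hcl : ∀ (X : Subgroup G) (φ : G → G) (φ' : H → H), (∀ x, f (φ x) = φ' (f x)) →
      Subgroup.closure (φ' '' ((X.map f : Subgroup H) : Set H)) =
        (Subgroup.closure (φ '' (X : Set G))).map f := by
    intro X φ φ' hφ
    rw [MonoidHom.map_closure]
    congr 1
    ext y
    constructor
    · rintro ⟨x', hx', rfl⟩
      obtain ⟨x, hx, rfl⟩ := Subgroup.mem_map.mp hx'
      exact ⟨φ x, ⟨x, hx, rfl⟩, hφ x⟩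
    · rintro ⟨_, ⟨x, hx, rfl⟩, rfl⟩
      exact ⟨f x, Subgroup.mem_map_of_mem f hx, (hφ x).symm⟩
  refine ⟨?_, ?_, ?_, ?_⟩
  · rw [hcm]
    exact ⟨⁅A, B⁆, h.1, rfl⟩
  · intro c' hc' x' hx'
    rw [hcm] at hc'
    rw [← Subgroup.map_sup] at hx'
    obtain ⟨c, hc, rfl⟩ := Subgroup.mem_map.mp hc'
    obtain ⟨x, hx, rfl⟩ := Subgroup.mem_map.mp hx'
    rw [← map_mul, ← map_mul, h.2.1 c hc x hx]
  · intro a' ha' ha'1
    obtain ⟨a, ha, rfl⟩ := Subgroup.mem_map.mp ha'
    have ha1 : a ≠ 1 := by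
      rintro rfl
      exact ha'1 (map_one f)
    rw [hcm, ← h.2.2.1 a ha ha1]
    apply hcl B (fun b => a * b * a⁻¹ * b⁻¹) (fun b' => f a * b' * (f a)⁻¹ * b'⁻¹)
    intro x
    simp
  · intro b' hb' hb'1
    obtain ⟨b, hb, rfl⟩ := Subgroup.mem_map.mp hb'
    have hb1 : b ≠ 1 := by
      rintro rfl
      exact hb'1 (map_one f)
    rw [hcm, ← h.2.2.2 b hb hb1]
    apply hcl A (fun a => a * b * a⁻¹ * b⁻¹) (fun a' => a' * f b * a'⁻¹ * (f b)⁻¹)
    intro x
    simp

/-- The image of a set of abstract root subgroups under a surjective homomorphism, when no image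
is trivial. -/
theorem isRootSubgroupSet_map {S : Set (Subgroup G)} (hS : Cfsg.IsRootSubgroupSet S) (f : G →* H)
    (hf : Function.Surjective f) (hbot : ∀ A ∈ S, A.map f ≠ ⊥) :
    Cfsg.IsRootSubgroupSet ((fun A : Subgroup G => A.map f) '' S) := by
  refine ⟨?_, ?_, ?_, ?_, ?_⟩
  · rintro _ ⟨A, hA, rfl⟩
    exact isMulCommutative_map f (hS.commutative A hA)
  · rintro _ ⟨A, hA, rfl⟩
    exact hbot A hA
  · have h1 : (⨆ A ∈ S, A).map f = ⊤ := by
      rw [hS.generates, ← MonoidHom.range_eq_map, MonoidHom.range_eq_top]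
      exact hf
    rw [eq_top_iff, ← h1, Subgroup.map_iSup]
    apply iSup_le
    intro A
    rw [Subgroup.map_iSup]
    apply iSup_le
    intro hA
    exact le_iSup₂_of_le (A.map f) ⟨A, hA, rfl⟩ le_rfl
  · rintro _ ⟨A, hA, rfl⟩ h
    obtain ⟨g, rfl⟩ := hf h
    exact ⟨Cfsg.conjBy A g, hS.conj_mem A hA g, map_conjBy f A g⟩
  · rintro _ ⟨A, hA, rfl⟩ _ ⟨B, hB, rfl⟩
    show ⁅A.map f, B.map f⁆ = ⊥ ∨ Cfsg.IsRankOnePair (A.map f) (B.map f) ∨
      Cfsg.RootCommutatorCase ((fun A : Subgroup G => A.map f) '' S) (A.map f) (B.map f)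
    rcases hS.pair A hA B hB with h1 | h2 | h3
    · left
      rw [← Subgroup.map_commutator, h1, Subgroup.map_bot]
    · by_cases hne : A.map f = B.map f
      · left
        rw [← hne, Subgroup.commutator_eq_bot_iff_le_centralizer]
        have hc := isMulCommutative_map f (hS.commutative A hA)
        intro x hx
        rw [Subgroup.mem_centralizer_iff]
        intro y hy
        exact mul_comm_of_mem_commutative hc hy hx
      · right; left
        exact isRankOnePair_map f h2 hne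
    · right; right
      exact commCase_map f h3

theorem reach_map {S : Set (Subgroup G)} (f : G →* H) {A B : Subgroup G}
    (h : Relation.ReflTransGen (Cfsg.FAdj S) A B) :
    Relation.ReflTransGen (Cfsg.FAdj ((fun A : Subgroup G => A.map f) '' S)) (A.map f) (B.map f) := by
  induction h with
  | refl => exact Relation.ReflTransGen.refl
  | @tail X Y _ hbc ih =>
    by_cases hne : X.map f = Y.map f
    · rw [← hne]; exact ih
    · exact ih.tail ⟨⟨X, hbc.1, rfl⟩, ⟨Y, hbc.2.1, rfl⟩, isRankOnePair_map f hbc.2.2 hne⟩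

end Cfsg.Agent.Lib.Helper8
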