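import Mathlib
import Cfsg.Prelude.Def_RootSubgroups
import Cfsg.Agent.Lib.Helper8.RT6

/-!
# The configuration `C = ⁅A, B⁆`, `A = ⁅D, C⁆`: `B` and `D` form a rank one pair
-/

set_option autoImplicit false

namespace Cfsg.Agent.Lib.Helper8

variable {G : Type*} [Group G]

open scoped commutatorElement

/-- The configuration `C = ⁅A, B⁆`, `A = ⁅D, C⁆` for members of a root subgroup set. -/
structure RootPreConfig (S : Set (Subgroup G)) (A B C D : Subgroup G) : Prop where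
  hS : Cfsg.IsRootSubgroupSet S
  hA : A ∈ S
  hB : B ∈ S
  hC : C ∈ S
  hD : D ∈ S
  comAB : Cfsg.RootCommutatorCase S A B
  eqC : ⁅A, B⁆ = C
  comDC : Cfsg.RootCommutatorCase S D C
  eqA : ⁅D, C⁆ = A

section PreConfig

variable {S : Set (Subgroup G)} {A B C D : Subgroup G}

theorem RootPreConfig.symm (h : RootPreConfig S A B C D) : RootPreConfig S C D A B where
  hS := h.hS
  hA := h.hC
  hB := h.hD
  hC := h.hA
  hD := h.hB
  comAB := commCase_symm h.comDC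
  eqC := by rw [Subgroup.commutator_comm]; exact h.eqA
  comDC := commCase_symm h.comAB
  eqA := by rw [Subgroup.commutator_comm]; exact h.eqC

theorem RootPreConfig.comm_CA (h : RootPreConfig S A B C D) {c a : G} (hc : c ∈ C) (ha : a ∈ A) :
    c * a = a * c := by
  have hc' : c ∈ ⁅A, B⁆ := by rw [h.eqC]; exact hc
  exact commCase_central_left h.comAB hc' ha

theorem RootPreConfig.comm_CB (h : RootPreConfig S A B C D) {c b : G} (hc : c ∈ C) (hb : b ∈ B) :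
    c * b = b * c := by
  have hc' : c ∈ ⁅A, B⁆ := by rw [h.eqC]; exact hc
  exact commCase_central_right h.comAB hc' hb

theorem RootPreConfig.comm_AD (h : RootPreConfig S A B C D) {a d : G} (ha : a ∈ A) (hd : d ∈ D) :
    a * d = d * a := h.symm.comm_CB ha hd

theorem RootPreConfig.comm_AA (h : RootPreConfig S A B C D) {a a' : G} (ha : a ∈ A) (ha' : a' ∈ A) :
    a * a' = a' * a := mul_comm_of_mem_commutative (h.hS.commutative A h.hA) ha ha'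

theorem RootPreConfig.comm_CC (h : RootPreConfig S A B C D) {c c' : G} (hc : c ∈ C) (hc' : c' ∈ C) :
    c * c' = c' * c := h.symm.comm_AA hc hc'

theorem RootPreConfig.mem_C (h : RootPreConfig S A B C D) {a b : G} (ha : a ∈ A) (hb : b ∈ B) :
    b * a * b⁻¹ * a⁻¹ ∈ C := by
  rw [← h.eqC, Subgroup.commutator_comm]
  exact comm_mem_commutator hb ha

theorem RootPreConfig.mem_A (h : RootPreConfig S A B C D) {c d : G} (hc : c ∈ C) (hd : d ∈ D) :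
    d * c * d⁻¹ * c⁻¹ ∈ A := h.symm.mem_C hc hd

/-- Every element of `C` is `b a b⁻¹ a⁻¹` for given `b ≠ 1`. -/
theorem RootPreConfig.surj_C (h : RootPreConfig S A B C D) {b : G} (hb : b ∈ B) (hb1 : b ≠ 1)
    {c : G} (hc : c ∈ C) : ∃ a ∈ A, b * a * b⁻¹ * a⁻¹ = c := by
  have hc' : c ∈ ⁅B, A⁆ := by rw [Subgroup.commutator_comm, h.eqC]; exact hc
  exact commCase_surj_right (commCase_symm h.comAB) hb hb1 hc'

/-- Every element of `A` is `d c d⁻¹ c⁻¹` for given `d ≠ 1`. -/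
theorem RootPreConfig.surj_A (h : RootPreConfig S A B C D) {d : G} (hd : d ∈ D) (hd1 : d ≠ 1)
    {a : G} (ha : a ∈ A) : ∃ c ∈ C, d * c * d⁻¹ * c⁻¹ = a := h.symm.surj_C hd hd1 ha

theorem RootPreConfig.exists_ne_one (hS : Cfsg.IsRootSubgroupSet S) {E : Subgroup G} (hE : E ∈ S) :
    ∃ e ∈ E, e ≠ 1 := by
  by_contra hcon
  push Not at hcon
  exact hS.ne_bot E hE ((Subgroup.eq_bot_iff_forall E).mpr hcon)

/-- `A ∩ C = 1`. -/
theorem RootPreConfig.inf_eq_bot (h : RootPreConfig S A B C D) : A ⊓ C = ⊥ := by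
  rw [eq_bot_iff]
  intro z hz
  rw [Subgroup.mem_bot]
  by_contra hz1
  obtain ⟨hzA, hzC⟩ := Subgroup.mem_inf.mp hz
  have hbot : ⁅D, C⁆ = ⊥ := by
    rw [← h.comDC.2.2.2 z hzC hz1, Subgroup.closure_eq_bot_iff]
    rintro _ ⟨d, hd, rfl⟩
    show d * z * d⁻¹ * z⁻¹ = 1
    rw [← h.comm_AD hzA hd]
    group
  rw [h.eqA] at hbot
  exact h.hS.ne_bot A h.hA hbot

/-- `B` and `D` do not commute. -/
theorem RootPreConfig.commutator_ne_bot (h : RootPreConfig S A B C D) : ⁅B, D⁆ ≠ ⊥ := by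
  intro hBD
  have h1 : ⁅⁅C, B⁆, D⁆ = ⊥ := by
    have : ⁅C, B⁆ = ⊥ := by
      rw [Subgroup.commutator_eq_bot_iff_le_centralizer]
      intro c hc
      rw [Subgroup.mem_centralizer_iff]
      intro b hb
      exact (h.comm_CB hc hb).symm
    rw [this]
    exact Subgroup.commutator_bot_left D
  have h2 : ⁅⁅B, D⁆, C⁆ = ⊥ := by
    rw [hBD]
    exact Subgroup.commutator_bot_left C
  have h3 := Subgroup.commutator_commutator_eq_bot_of_rotate h1 h2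
  rw [h.eqA, h.eqC] at h3
  exact h.hS.ne_bot C h.hC h3

/-- Conjugation identity: `f = b d b⁻¹ d⁻¹` acts on `d c d⁻¹` like `b`, if `b` commutes with `c`. -/
theorem conj_comm_eq {b d c : G} (hbc : b * c = c * b) :
    (b * d * b⁻¹ * d⁻¹) * (d * c * d⁻¹) * (b * d * b⁻¹ * d⁻¹)⁻¹ = b * (d * c * d⁻¹) * b⁻¹ := by
  have h1 : b⁻¹ * c * b = c := by
    rw [mul_assoc, ← hbc, ← mul_assoc, inv_mul_cancel, one_mul]
  have e : (b * d * b⁻¹ * d⁻¹) * (d * c * d⁻¹) * (b * d * b⁻¹ * d⁻¹)⁻¹ =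
      b * (d * (b⁻¹ * c * b) * d⁻¹) * b⁻¹ := by group
  rw [e, h1]

/-- The key computation: if `f` acts on `n` like `b` and commutes with `b`, and `b` commutes with
`c₂ = b n b⁻¹ n⁻¹`, then `f` commutes with `c₂`. -/
theorem conj_comm_fix {f b n : G} (h1 : f * n * f⁻¹ = b * n * b⁻¹) (hfb : f * b = b * f)
    (hb2 : b * (b * n * b⁻¹ * n⁻¹) = (b * n * b⁻¹ * n⁻¹) * b) :
    f * (b * n * b⁻¹ * n⁻¹) = (b * n * b⁻¹ * n⁻¹) * f := by
  have e1 : f * (b * n * b⁻¹ * n⁻¹) * f⁻¹ = ((f * b) * n * (f * b)⁻¹) * (f * n * f⁻¹)⁻¹ := by group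
  rw [hfb] at e1
  have e2 : (b * f) * n * (b * f)⁻¹ = b * (f * n * f⁻¹) * b⁻¹ := by group
  rw [e2, h1] at e1
  have e3 : b * (b * n * b⁻¹) * b⁻¹ * (b * n * b⁻¹)⁻¹ = (b * (b * n * b⁻¹ * n⁻¹)) * b⁻¹ := by group
  rw [e3, hb2] at e1
  calc f * (b * n * b⁻¹ * n⁻¹) = (f * (b * n * b⁻¹ * n⁻¹) * f⁻¹) * f := by group
    _ = (b * n * b⁻¹ * n⁻¹) * b * b⁻¹ * f := by rw [e1]
    _ = (b * n * b⁻¹ * n⁻¹) * f := by group

/-- In the configuration, if `(B, D)` were in the commutator case then `b d b⁻¹ d⁻¹` would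
centralize `C`. -/
theorem RootPreConfig.comm_fix_C (h : RootPreConfig S A B C D)
    (hBD : Cfsg.RootCommutatorCase S B D) {b d : G} (hb : b ∈ B) (hb1 : b ≠ 1) (hd : d ∈ D)
    (hd1 : d ≠ 1) {c' : G} (hc' : c' ∈ C) :
    (b * d * b⁻¹ * d⁻¹) * c' = c' * (b * d * b⁻¹ * d⁻¹) := by
  obtain ⟨a, ha, rfl⟩ := h.surj_C hb hb1 hc'
  obtain ⟨c, hc, rfl⟩ := h.surj_A hd hd1 ha
  have hbc : b * c = c * b := (h.comm_CB hc hb).symm
  have hfb : (b * d * b⁻¹ * d⁻¹) * b = b * (b * d * b⁻¹ * d⁻¹) :=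
    commCase_central_left hBD (comm_mem_commutator hb hd) hb
  -- `c₂` in terms of `n = d c d⁻¹`
  have e : b * (d * c * d⁻¹ * c⁻¹) * b⁻¹ * (d * c * d⁻¹ * c⁻¹)⁻¹ =
      b * (d * c * d⁻¹) * b⁻¹ * (d * c * d⁻¹)⁻¹ := by
    have e4 : b * (d * c * d⁻¹ * c⁻¹) * b⁻¹ * (d * c * d⁻¹ * c⁻¹)⁻¹ =
        (b * (d * c * d⁻¹) * b⁻¹) * (b * c⁻¹ * b⁻¹) * c * (d * c * d⁻¹)⁻¹ := by group
    have e5 : b * c⁻¹ * b⁻¹ = c⁻¹ := by
      have : b * c⁻¹ = c⁻¹ * b := (h.comm_CB (C.inv_mem hc) hb).symm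
      rw [this]; group
    rw [e4, e5]
    group
  have hmem : b * (d * c * d⁻¹ * c⁻¹) * b⁻¹ * (d * c * d⁻¹ * c⁻¹)⁻¹ ∈ C :=
    h.mem_C (h.mem_A hc hd) hb
  rw [e] at hmem ⊢
  exact conj_comm_fix (conj_comm_eq hbc) hfb (h.comm_CB hmem hb).symm

/-- `(B, D)` is not in the commutator case. -/
theorem RootPreConfig.not_commCase (h : RootPreConfig S A B C D) :
    ¬ Cfsg.RootCommutatorCase S B D := by
  intro hBD
  obtain ⟨b, hb, hb1⟩ := RootPreConfig.exists_ne_one h.hS h.hB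
  obtain ⟨d, hd, hd1⟩ := RootPreConfig.exists_ne_one h.hS h.hD
  set f := b * d * b⁻¹ * d⁻¹ with hf
  have hfC : ∀ c ∈ C, f * c = c * f := fun c hc => h.comm_fix_C hBD hb hb1 hd hd1 hc
  have hfA : ∀ a ∈ A, f * a = a * f := by
    intro a ha
    have h1 := h.symm.comm_fix_C (commCase_symm hBD) hd hd1 hb hb1 ha
    have e : d * b * d⁻¹ * b⁻¹ = f⁻¹ := by rw [hf]; group
    rw [e] at h1
    calc f * a = f * (a * f⁻¹) * f := by group
      _ = f * (f⁻¹ * a) * f := by rw [h1]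
      _ = a * f := by group
  apply h.hS.ne_bot C h.hC
  rw [eq_bot_iff]
  intro c' hc'
  rw [Subgroup.mem_bot]
  obtain ⟨a, ha, rfl⟩ := h.surj_C hb hb1 hc'
  obtain ⟨c, hc, rfl⟩ := h.surj_A hd hd1 ha
  have hbc : b * c = c * b := (h.comm_CB hc hb).symm
  have h1 := conj_comm_eq (d := d) hbc
  rw [← hf] at h1
  -- `f` centralizes `n = d c d⁻¹ = a₁ c`
  have ha₁ : d * c * d⁻¹ * c⁻¹ ∈ A := h.mem_A hc hd
  have h2 : f * (d * c * d⁻¹) * f⁻¹ = d * c * d⁻¹ := by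
    have e1 : d * c * d⁻¹ = (d * c * d⁻¹ * c⁻¹) * c := by group
    rw [e1]
    have e2 : f * ((d * c * d⁻¹ * c⁻¹) * c) * f⁻¹ = (f * (d * c * d⁻¹ * c⁻¹)) * c * f⁻¹ := by group
    rw [e2, hfA _ ha₁]
    have e3 : (d * c * d⁻¹ * c⁻¹) * f * c * f⁻¹ = (d * c * d⁻¹ * c⁻¹) * (f * c) * f⁻¹ := by group
    rw [e3, hfC c hc]
    group
  rw [h2] at h1
  -- so `b` centralizes `d c d⁻¹`
  have hbc' : b⁻¹ * c⁻¹ * b = c⁻¹ := by
    have : b * c⁻¹ = c⁻¹ * b := (h.comm_CB (C.inv_mem hc) hb).symm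
    rw [mul_assoc, ← this, ← mul_assoc, inv_mul_cancel, one_mul]
  have e4 : b * (d * c * d⁻¹ * c⁻¹) * b⁻¹ * (d * c * d⁻¹ * c⁻¹)⁻¹ =
      (b * (d * c * d⁻¹) * b⁻¹) * (b * c⁻¹ * b⁻¹) * c * (d * c * d⁻¹)⁻¹ := by group
  have e5 : b * c⁻¹ * b⁻¹ = c⁻¹ := by
    have : b * c⁻¹ = c⁻¹ * b := (h.comm_CB (C.inv_mem hc) hb).symm
    rw [this]; group
  rw [e4, ← h1, e5]
  group

/-- `(B, D)` is a rank one pair. -/
theorem RootPreConfig.rankOne (h : RootPreConfig S A B C D) : Cfsg.IsRankOnePair B D := by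
  rcases h.hS.pair B h.hB D h.hD with h1 | h2 | h3
  · exact absurd h1 h.commutator_ne_bot
  · exact h2
  · exact absurd h3 h.not_commCase

end PreConfig

end Cfsg.Agent.Lib.Helper8
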