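import Mathlib
import Cfsg.Prelude.Def_RootSubgroups
import Cfsg.Agent.Lib.Helper8.RT7

/-!
# The configuration `C = ⁅A, B⁆`, `A = ⁅D, C⁆`: the natural module `A C` for `⟨B, D⟩`
-/

set_option autoImplicit false

namespace Cfsg.Agent.Lib.Helper8

variable {G : Type*} [Group G]

open scoped commutatorElement

theorem conjBy_eq_self_of_le {N : Subgroup G} {x : G} (h1 : Cfsg.conjBy N x ≤ N)
    (h2 : Cfsg.conjBy N x⁻¹ ≤ N) : Cfsg.conjBy N x = N := by
  apply le_antisymm h1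
  have := conjBy_mono h2 x
  rw [conjBy_conjBy, mul_inv_cancel, conjBy_one] at this
  exact this

theorem conjBy_inf (P Q : Subgroup G) (x : G) :
    Cfsg.conjBy (P ⊓ Q) x = Cfsg.conjBy P x ⊓ Cfsg.conjBy Q x := by
  ext y
  rw [Subgroup.mem_inf, mem_conjBy, mem_conjBy, mem_conjBy, Subgroup.mem_inf]

theorem conjBy_bot (x : G) : Cfsg.conjBy (⊥ : Subgroup G) x = ⊥ := by
  unfold Cfsg.conjBy
  rw [Subgroup.map_bot]

section Config

variable {S : Set (Subgroup G)} {A B C D : Subgroup G}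

/-- `c ↦ d c d⁻¹ c⁻¹` is injective on `C` for `1 ≠ d ∈ D`. -/
theorem RootPreConfig.inj_C (h : RootPreConfig S A B C D) {d c : G} (hd : d ∈ D) (hd1 : d ≠ 1)
    (hc : c ∈ C) (hdc : d * c = c * d) : c = 1 := by
  apply commCase_injective_right h.hS h.hD h.hB (Cfsg.RankOnePair_symm h.rankOne) h.comDC hd hd1 hc
  rw [hdc]; group

theorem RootPreConfig.inj_A (h : RootPreConfig S A B C D) {b a : G} (hb : b ∈ B) (hb1 : b ≠ 1)
    (ha : a ∈ A) (hba : b * a = a * b) : a = 1 := h.symm.inj_C hb hb1 ha hba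

/-- The fixed points of `1 ≠ d ∈ D` on `A C` are `A`. -/
theorem RootPreConfig.fix_D (h : RootPreConfig S A B C D) {d n : G} (hd : d ∈ D) (hd1 : d ≠ 1)
    (hn : n ∈ A ⊔ C) (hdn : d * n = n * d) : n ∈ A := by
  obtain ⟨a, ha, c, hc, rfl⟩ := exists_mul_of_mem_sup_of_commute
    (fun c hc a ha => h.comm_CA hc ha) hn
  have hdc : d * c = c * d := by
    have h1 : a * (d * c) = a * (c * d) := by
      calc a * (d * c) = (a * d) * c := by rw [mul_assoc]
        _ = (d * a) * c := by rw [h.comm_AD ha hd]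
        _ = d * (a * c) := by rw [mul_assoc]
        _ = a * c * d := hdn
        _ = a * (c * d) := by rw [mul_assoc]
    exact mul_left_cancel h1
  rw [h.inj_C hd hd1 hc hdc, mul_one]
  exact ha

theorem RootPreConfig.fix_B (h : RootPreConfig S A B C D) {b n : G} (hb : b ∈ B) (hb1 : b ≠ 1)
    (hn : n ∈ A ⊔ C) (hbn : b * n = n * b) : n ∈ C := by
  rw [sup_comm] at hn
  exact h.symm.fix_D hb hb1 hn hbn

theorem RootPreConfig.conjBy_le_B (h : RootPreConfig S A B C D) {b : G} (hb : b ∈ B) :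
    Cfsg.conjBy (A ⊔ C) b ≤ A ⊔ C := by
  rw [conjBy_sup]
  apply sup_le
  · have := conjBy_le_sup_commutator (A := A) hb
    rwa [h.eqC] at this
  · have : Cfsg.conjBy C b = C := by
      apply conjBy_eq_self_iff.mpr
      apply Subgroup.centralizer_le_normalizer
      rw [Subgroup.mem_centralizer_iff]
      intro c hc
      exact h.comm_CB hc hb
    rw [this]
    exact le_sup_right

theorem RootPreConfig.conjBy_le_D (h : RootPreConfig S A B C D) {d : G} (hd : d ∈ D) :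
    Cfsg.conjBy (A ⊔ C) d ≤ A ⊔ C := by
  have := h.symm.conjBy_le_B hd
  rwa [sup_comm] at this

theorem RootPreConfig.le_normalizer (h : RootPreConfig S A B C D) :
    B ⊔ D ≤ Subgroup.normalizer ((A ⊔ C : Subgroup G) : Set G) := by
  apply sup_le
  · intro b hb
    rw [← conjBy_eq_self_iff]
    exact conjBy_eq_self_of_le (h.conjBy_le_B hb) (h.conjBy_le_B (B.inv_mem hb))
  · intro d hd
    rw [← conjBy_eq_self_iff]
    exact conjBy_eq_self_of_le (h.conjBy_le_D hd) (h.conjBy_le_D (D.inv_mem hd))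

theorem RootPreConfig.conjBy_N (h : RootPreConfig S A B C D) {x : G} (hx : x ∈ B ⊔ D) :
    Cfsg.conjBy (A ⊔ C) x = A ⊔ C := conjBy_eq_self_iff.mpr (h.le_normalizer hx)

theorem RootPreConfig.conj_mem_N (h : RootPreConfig S A B C D) {x n : G} (hx : x ∈ B ⊔ D)
    (hn : n ∈ A ⊔ C) : x * n * x⁻¹ ∈ A ⊔ C := by
  have := conj_mem_conjBy (A := A ⊔ C) (g := x) hn
  rwa [h.conjBy_N hx] at this

/-- One inclusion between the fixed point groups of `b⁻¹ D b = d⁻¹ B d`. -/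
theorem RootPreConfig.conj_le (h : RootPreConfig S A B C D) {b d : G} (hb : b ∈ B) (hd : d ∈ D)
    (hEq : Cfsg.conjBy B d⁻¹ = Cfsg.conjBy D b⁻¹) :
    Cfsg.conjBy A b⁻¹ ≤ Cfsg.conjBy C d⁻¹ := by
  intro n hn
  rw [mem_conjBy, inv_inv] at hn ⊢
  obtain ⟨d₁, hd₁, hd₁1⟩ := RootPreConfig.exists_ne_one h.hS h.hD
  set y := b⁻¹ * d₁ * b with hy
  have hyD : y ∈ Cfsg.conjBy D b⁻¹ := by
    rw [mem_conjBy, inv_inv]
    have : b * y * b⁻¹ = d₁ := by rw [hy]; group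
    rw [this]; exact hd₁
  rw [← hEq, mem_conjBy, inv_inv] at hyD
  have hy1 : d * y * d⁻¹ ≠ 1 := by
    intro h1
    apply hd₁1
    have : d₁ = b * (d⁻¹ * (d * y * d⁻¹) * d) * b⁻¹ := by rw [hy]; group
    rw [this, h1]; group
  -- `y` commutes with `n`
  have hyn : y * n = n * y := by
    have h1 := h.comm_AD hn hd₁
    have e1 : y * n = b⁻¹ * (d₁ * (b * n * b⁻¹)) * b := by rw [hy]; group
    have e2 : n * y = b⁻¹ * ((b * n * b⁻¹) * d₁) * b := by rw [hy]; group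
    rw [e1, e2, h1]
  have hnN : n ∈ A ⊔ C := by
    have := h.conj_mem_N (Subgroup.mem_sup_left (B.inv_mem hb)) (Subgroup.mem_sup_left hn)
    have e : b⁻¹ * (b * n * b⁻¹) * b⁻¹⁻¹ = n := by group
    rwa [e] at this
  have hmN : d * n * d⁻¹ ∈ A ⊔ C := h.conj_mem_N (Subgroup.mem_sup_right hd) hnN
  apply h.fix_B hyD hy1 hmN
  have e3 : d * y * d⁻¹ * (d * n * d⁻¹) = d * (y * n) * d⁻¹ := by group
  have e4 : d * n * d⁻¹ * (d * y * d⁻¹) = d * (n * y) * d⁻¹ := by group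
  rw [e3, e4, hyn]

theorem RootPreConfig.conj_eq (h : RootPreConfig S A B C D) {b d : G} (hb : b ∈ B) (hd : d ∈ D)
    (hEq : Cfsg.conjBy B d⁻¹ = Cfsg.conjBy D b⁻¹) :
    Cfsg.conjBy A b⁻¹ = Cfsg.conjBy C d⁻¹ :=
  le_antisymm (h.conj_le hb hd hEq) (h.symm.conj_le hd hb hEq.symm)

/-- A conjugate of `C` by a non-identity element of `D` is a conjugate of `A` by an element
of `B`. -/
theorem RootPreConfig.conjC_mem (h : RootPreConfig S A B C D) {d : G} (hd : d ∈ D) (hd1 : d ≠ 1) :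
    ∃ b ∈ B, Cfsg.conjBy C d = Cfsg.conjBy A b := by
  have hd1' : d⁻¹ ≠ 1 := fun hh => hd1 (inv_eq_one.mp hh)
  obtain ⟨b', hb', -, hEq⟩ := h.rankOne.cond_right d⁻¹ (D.inv_mem hd) hd1'
  have := h.conj_eq hb' (D.inv_mem hd) hEq.symm
  rw [inv_inv] at this
  exact ⟨b'⁻¹, B.inv_mem hb', this.symm⟩

theorem RootPreConfig.conjA_mem (h : RootPreConfig S A B C D) {b : G} (hb : b ∈ B) (hb1 : b ≠ 1) :
    ∃ d ∈ D, Cfsg.conjBy A b = Cfsg.conjBy C d := h.symm.conjC_mem hb hb1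

/-- The set of conjugates of `A` by `B` together with `C` is invariant under `B` and `D`. -/
theorem RootPreConfig.conj_mem_T (h : RootPreConfig S A B C D) {E : Subgroup G}
    (hE : E ∈ (fun b : G => Cfsg.conjBy A b) '' (B : Set G) ∪ {C}) {x : G} (hx : x ∈ B ⊔ D) :
    Cfsg.conjBy E x ∈ (fun b : G => Cfsg.conjBy A b) '' (B : Set G) ∪ {C} := by
  set T := (fun b : G => Cfsg.conjBy A b) '' (B : Set G) ∪ {C} with hT
  have hCB : ∀ b ∈ B, Cfsg.conjBy C b = C := by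
    intro b hb
    apply conjBy_eq_self_iff.mpr
    apply Subgroup.centralizer_le_normalizer
    rw [Subgroup.mem_centralizer_iff]
    intro c hc
    exact h.comm_CB hc hb
  have hAD : ∀ d ∈ D, Cfsg.conjBy A d = A := by
    intro d hd
    apply conjBy_eq_self_iff.mpr
    apply Subgroup.centralizer_le_normalizer
    rw [Subgroup.mem_centralizer_iff]
    intro a ha
    exact h.comm_AD ha hd
  have hAT : A ∈ T := Or.inl ⟨1, B.one_mem, conjBy_one A⟩
  have hCT : C ∈ T := Or.inr rfl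
  have hCd : ∀ d ∈ D, Cfsg.conjBy C d ∈ T := by
    intro d hd
    by_cases hd1 : d = 1
    · rw [hd1, conjBy_one]; exact hCT
    · obtain ⟨b, hb, hEq⟩ := h.conjC_mem hd hd1
      rw [hEq]; exact Or.inl ⟨b, hb, rfl⟩
  have hB : ∀ b ∈ B, ∀ E ∈ T, Cfsg.conjBy E b ∈ T := by
    rintro b hb E (⟨b', hb', rfl⟩ | hE)
    · exact Or.inl ⟨b * b', B.mul_mem hb hb', (conjBy_conjBy A b' b).symm⟩
    · rw [Set.mem_singleton_iff] at hE
      rw [hE, hCB b hb]; exact hCT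
  have hD : ∀ d ∈ D, ∀ E ∈ T, Cfsg.conjBy E d ∈ T := by
    rintro d hd E (⟨b, hb, rfl⟩ | hE)
    · by_cases hb1 : b = 1
      · show Cfsg.conjBy (Cfsg.conjBy A b) d ∈ T
        rw [hb1, conjBy_one, hAD d hd]; exact hAT
      · obtain ⟨d', hd', hEq⟩ := h.conjA_mem hb hb1
        show Cfsg.conjBy (Cfsg.conjBy A b) d ∈ T
        rw [hEq, conjBy_conjBy]
        exact hCd _ (D.mul_mem hd hd')
    · rw [Set.mem_singleton_iff] at hE
      rw [hE]; exact hCd d hd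
  let K : Subgroup G :=
    { carrier := {x | (∀ E ∈ T, Cfsg.conjBy E x ∈ T) ∧ (∀ E ∈ T, Cfsg.conjBy E x⁻¹ ∈ T)}
      mul_mem' := by
        rintro x y ⟨hx1, hx2⟩ ⟨hy1, hy2⟩
        refine ⟨fun E hE => ?_, fun E hE => ?_⟩
        · rw [← conjBy_conjBy]; exact hx1 _ (hy1 E hE)
        · rw [mul_inv_rev, ← conjBy_conjBy]; exact hy2 _ (hx2 E hE)
      one_mem' := by
        refine ⟨fun E hE => ?_, fun E hE => ?_⟩
        · rw [conjBy_one]; exact hE
        · rw [inv_one, conjBy_one]; exact hE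
      inv_mem' := by
        rintro x ⟨hx1, hx2⟩
        refine ⟨hx2, ?_⟩
        rw [inv_inv]; exact hx1 }
  have hle : B ⊔ D ≤ K := by
    apply sup_le
    · intro b hb
      exact ⟨hB b hb, hB b⁻¹ (B.inv_mem hb)⟩
    · intro d hd
      exact ⟨hD d hd, hD d⁻¹ (D.inv_mem hd)⟩
  exact (hle hx).1 E hE

/-- `C` is a conjugate of `A` under `⟨B, D⟩`. -/
theorem RootPreConfig.exists_conj (h : RootPreConfig S A B C D) :
    ∃ x ∈ B ⊔ D, C = Cfsg.conjBy A x := by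
  obtain ⟨d, hd, hd1⟩ := RootPreConfig.exists_ne_one h.hS h.hD
  obtain ⟨b, hb, hEq⟩ := h.conjC_mem hd hd1
  refine ⟨d⁻¹ * b, Subgroup.mul_mem _ (Subgroup.mem_sup_right (D.inv_mem hd))
    (Subgroup.mem_sup_left hb), ?_⟩
  rw [← conjBy_conjBy, ← hEq, conjBy_conjBy, inv_mul_cancel, conjBy_one]

/-- The conjugates of `A` under `⟨B, D⟩`. -/
theorem RootPreConfig.orbit_eq (h : RootPreConfig S A B C D) :
    {E | ∃ x ∈ B ⊔ D, E = Cfsg.conjBy A x} =
      (fun b : G => Cfsg.conjBy A b) '' (B : Set G) ∪ {C} := by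
  ext E
  constructor
  · rintro ⟨x, hx, rfl⟩
    exact h.conj_mem_T (Or.inl ⟨1, B.one_mem, conjBy_one A⟩) hx
  · rintro (⟨b, hb, rfl⟩ | hE)
    · exact ⟨b, Subgroup.mem_sup_left hb, rfl⟩
    · rw [Set.mem_singleton_iff] at hE
      rw [hE]
      exact h.exists_conj

/-- The conjugates of `A` and of `C` under `⟨B, D⟩` coincide. -/
theorem RootPreConfig.orbit_eq_orbit (h : RootPreConfig S A B C D) :
    {E | ∃ x ∈ B ⊔ D, E = Cfsg.conjBy A x} = {E | ∃ x ∈ B ⊔ D, E = Cfsg.conjBy C x} := by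
  obtain ⟨g, hg, hCg⟩ := h.exists_conj
  ext E
  constructor
  · rintro ⟨x, hx, rfl⟩
    refine ⟨x * g⁻¹, Subgroup.mul_mem _ hx (Subgroup.inv_mem _ hg), ?_⟩
    rw [hCg, conjBy_conjBy, mul_assoc, inv_mul_cancel, mul_one]
  · rintro ⟨x, hx, rfl⟩
    refine ⟨x * g, Subgroup.mul_mem _ hx hg, ?_⟩
    rw [hCg, conjBy_conjBy]

end Config

end Cfsg.Agent.Lib.Helper8
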