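import Mathlib
import Cfsg.Prelude.Def_RootSubgroups
import Cfsg.Agent.Lib.Helper8.RT8

/-!
# The configuration `C = ⁅A, B⁆`, `A = ⁅D, C⁆`: partition of `A C`, centralizer of `A C`
-/

set_option autoImplicit false

namespace Cfsg.Agent.Lib.Helper8

variable {G : Type*} [Group G]

open scoped commutatorElement

section Config

variable {S : Set (Subgroup G)} {A B C D : Subgroup G}

/-- A conjugate of `A` under `⟨B, D⟩` different from `A` meets `A` trivially. -/
theorem RootPreConfig.inf_conj_eq_bot (h : RootPreConfig S A B C D) {E : Subgroup G}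
    (hE : E ∈ {E | ∃ x ∈ B ⊔ D, E = Cfsg.conjBy A x}) (hne : E ≠ A) : A ⊓ E = ⊥ := by
  rw [h.orbit_eq] at hE
  rcases hE with ⟨b, hb, rfl⟩ | hE
  · have hb1 : b ≠ 1 := by
      rintro rfl
      exact hne (conjBy_one A)
    rw [eq_bot_iff]
    intro x hx
    rw [Subgroup.mem_bot]
    obtain ⟨hxA, hxb⟩ := Subgroup.mem_inf.mp hx
    have hxb' : b⁻¹ * x * b ∈ A := mem_conjBy.mp hxb
    set a' := b⁻¹ * x * b with ha'
    have hc : b * a' * b⁻¹ * a'⁻¹ ∈ C := h.mem_C hxb' hb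
    have hx' : b * a' * b⁻¹ = x := by rw [ha']; group
    have hcA : b * a' * b⁻¹ * a'⁻¹ ∈ A := by
      rw [hx']; exact A.mul_mem hxA (A.inv_mem hxb')
    have h1 : b * a' * b⁻¹ * a'⁻¹ ∈ A ⊓ C := Subgroup.mem_inf.mpr ⟨hcA, hc⟩
    rw [h.inf_eq_bot, Subgroup.mem_bot] at h1
    have h2 : b * a' = a' * b := by
      calc b * a' = (b * a' * b⁻¹ * a'⁻¹) * (a' * b) := by group
        _ = a' * b := by rw [h1, one_mul]
    have h3 := h.inj_A hb hb1 hxb' h2
    rw [← hx', h3]; group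
  · rw [Set.mem_singleton_iff] at hE
    rw [hE]; exact h.inf_eq_bot

/-- The conjugates of `A` under `⟨B, D⟩` partition `A C`. -/
theorem RootPreConfig.isPartition (h : RootPreConfig S A B C D) :
    Cfsg.IsSubgroupPartition (A ⊔ C) {E | ∃ x ∈ B ⊔ D, E = Cfsg.conjBy A x} := by
  refine ⟨?_, ?_, ?_⟩
  · rintro E ⟨x, hx, rfl⟩
    rw [← h.conjBy_N hx]
    exact conjBy_mono le_sup_left x
  · intro n hn hn1
    obtain ⟨a, ha, c, hc, rfl⟩ := exists_mul_of_mem_sup_of_commute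
      (fun c hc a ha => h.comm_CA hc ha) hn
    by_cases ha1 : a = 1
    · refine ⟨C, h.exists_conj, ?_⟩
      rw [ha1, one_mul]; exact hc
    · have hc' : c ∈ ⁅A, B⁆ := by rw [h.eqC]; exact hc
      obtain ⟨b, hb, hmem⟩ := commCase_exists_conj h.comAB ha ha1 hc'
      exact ⟨Cfsg.conjBy A b, ⟨b, Subgroup.mem_sup_left hb, rfl⟩, hmem⟩
  · rintro E₁ ⟨x₁, hx₁, rfl⟩ E₂ ⟨x₂, hx₂, rfl⟩ hne
    have hmem : Cfsg.conjBy A (x₁⁻¹ * x₂) ∈ {E | ∃ x ∈ B ⊔ D, E = Cfsg.conjBy A x} :=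
      ⟨x₁⁻¹ * x₂, Subgroup.mul_mem _ (Subgroup.inv_mem _ hx₁) hx₂, rfl⟩
    have hne' : Cfsg.conjBy A (x₁⁻¹ * x₂) ≠ A := by
      intro hEq
      apply hne
      have h3 : Cfsg.conjBy (Cfsg.conjBy A (x₁⁻¹ * x₂)) x₁ = Cfsg.conjBy A x₂ := by
        rw [conjBy_conjBy, ← mul_assoc, mul_inv_cancel, one_mul]
      rw [hEq] at h3
      exact h3
    have h1 := h.inf_conj_eq_bot hmem hne'
    have h2 : Cfsg.conjBy (A ⊓ Cfsg.conjBy A (x₁⁻¹ * x₂)) x₁ = ⊥ := by rw [h1, conjBy_bot]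
    rw [conjBy_inf, conjBy_conjBy, ← mul_assoc, mul_inv_cancel, one_mul] at h2
    exact h2

/-- An element of `⟨B, D⟩` centralizing `A C` centralizes `B`. -/
theorem RootPreConfig.comm_of_centralizes (h : RootPreConfig S A B C D) {x : G} (hx : x ∈ B ⊔ D)
    (hxN : ∀ n ∈ A ⊔ C, x * n = n * x) : ∀ b ∈ B, x * b = b * x := by
  -- `x` normalizes `B`
  have hxB : Cfsg.conjBy B x = B := by
    by_contra hne
    have hE : B ∈ Cfsg.unipotentSubgroups B D := mem_unipotentSubgroups_self B D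
    have hE' : Cfsg.conjBy B x ∈ Cfsg.unipotentSubgroups B D := ⟨x, hx, rfl⟩
    obtain ⟨-, hsup, -⟩ := rankOnePair_of_mem_unipotentSubgroups h.rankOne hE hE' (Ne.symm hne)
    have hle : B ⊔ Cfsg.conjBy B x ≤ Subgroup.centralizer (C : Set G) := by
      apply sup_le
      · intro b hb
        rw [Subgroup.mem_centralizer_iff]
        intro c hc
        exact h.comm_CB hc hb
      · intro y hy
        rw [mem_conjBy] at hy
        rw [Subgroup.mem_centralizer_iff]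
        intro c hc
        have h1 := h.comm_CB hc hy
        have h2 := hxN c (Subgroup.mem_sup_right hc)
        have h2' : x⁻¹ * c = c * x⁻¹ := by
          calc x⁻¹ * c = x⁻¹ * (c * x) * x⁻¹ := by group
            _ = x⁻¹ * (x * c) * x⁻¹ := by rw [h2]
            _ = c * x⁻¹ := by group
        calc c * y = c * (x * (x⁻¹ * y * x) * x⁻¹) := by group
          _ = (c * x) * (x⁻¹ * y * x) * x⁻¹ := by group
          _ = (x * c) * (x⁻¹ * y * x) * x⁻¹ := by rw [h2]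
          _ = x * (c * (x⁻¹ * y * x)) * x⁻¹ := by group
          _ = x * ((x⁻¹ * y * x) * c) * x⁻¹ := by rw [h1]
          _ = x * (x⁻¹ * y * x) * (c * x⁻¹) := by group
          _ = x * (x⁻¹ * y * x) * (x⁻¹ * c) := by rw [h2']
          _ = y * c := by group
    rw [hsup] at hle
    have hbot : ⁅D, C⁆ = ⊥ := by
      rw [Subgroup.commutator_eq_bot_iff_le_centralizer]
      exact le_sup_right.trans hle
    rw [h.eqA] at hbot
    exact h.hS.ne_bot A h.hA hbot
  intro b hb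
  obtain ⟨a, ha, ha1⟩ := RootPreConfig.exists_ne_one h.hS h.hA
  have hz : x * b * x⁻¹ * b⁻¹ ∈ B := by
    have := conj_mem_conjBy (A := B) (g := x) hb
    rw [hxB] at this
    exact B.mul_mem this (B.inv_mem hb)
  by_contra hxb
  have hz1 : x * b * x⁻¹ * b⁻¹ ≠ 1 := by
    intro h1
    apply hxb
    calc x * b = (x * b * x⁻¹ * b⁻¹) * (b * x) := by group
      _ = b * x := by rw [h1, one_mul]
  apply ha1
  apply h.inj_A hz hz1 ha
  -- `z` commutes with `a`
  have hm : b⁻¹ * a * b ∈ A ⊔ C := by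
    have := h.conj_mem_N (Subgroup.mem_sup_left (B.inv_mem hb)) (Subgroup.mem_sup_left ha)
    rwa [inv_inv] at this
  have h1 := hxN _ hm
  have h2 := hxN a (Subgroup.mem_sup_left ha)
  have h1' : x⁻¹ * (b⁻¹ * a * b) * x = b⁻¹ * a * b := by
    calc x⁻¹ * (b⁻¹ * a * b) * x = x⁻¹ * ((b⁻¹ * a * b) * x) := by group
      _ = x⁻¹ * (x * (b⁻¹ * a * b)) := by rw [h1]
      _ = b⁻¹ * a * b := by group
  calc x * b * x⁻¹ * b⁻¹ * a = x * b * (x⁻¹ * (b⁻¹ * a * b) * x) * x⁻¹ * b⁻¹ := by group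
    _ = x * b * (b⁻¹ * a * b) * x⁻¹ * b⁻¹ := by rw [h1']
    _ = (x * a) * b * x⁻¹ * b⁻¹ := by group
    _ = (a * x) * b * x⁻¹ * b⁻¹ := by rw [h2]
    _ = a * (x * b * x⁻¹ * b⁻¹) := by group

/-- The centralizer of `A C` in `⟨B, D⟩` is central in `⟨B, D⟩`. -/
theorem RootPreConfig.central (h : RootPreConfig S A B C D) {x : G} (hx : x ∈ B ⊔ D)
    (hxN : ∀ n ∈ A ⊔ C, x * n = n * x) : ∀ y ∈ B ⊔ D, x * y = y * x := by
  have h1 := h.comm_of_centralizes hx hxN
  have h2 := h.symm.comm_of_centralizes (by rw [sup_comm]; exact hx)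
    (by rw [sup_comm]; exact hxN)
  have hle : B ⊔ D ≤ Subgroup.centralizer ((Subgroup.zpowers x : Subgroup G) : Set G) := by
    apply sup_le
    · rw [le_centralizer_zpowers_iff]
      intro b hb
      exact (h1 b hb).symm
    · rw [le_centralizer_zpowers_iff]
      intro d hd
      exact (h2 d hd).symm
  intro y hy
  exact ((le_centralizer_zpowers_iff.mp hle) y hy).symm

end Config

end Cfsg.Agent.Lib.Helper8
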