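import Mathlib
import Cfsg.Prelude.Def_RootSubgroups
import Cfsg.Agent.Lib.Helper8.RT9
import Cfsg.Agent.Lib.Helper8.RS5

/-!
# The configuration `C = ⁅A, B⁆`, `A = ⁅D, C⁆`: the rank one pair `(B, D)` is special
-/

set_option autoImplicit false

namespace Cfsg.Agent.Lib.Helper8

variable {G : Type*} [Group G]

open scoped commutatorElement

section Config

variable {S : Set (Subgroup G)} {A B C D : Subgroup G}

theorem RootPreConfig.comm_N (h : RootPreConfig S A B C D) :
    ∀ x ∈ A ⊔ C, ∀ y ∈ A ⊔ C, x * y = y * x := by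
  intro x hx y hy
  obtain ⟨a, ha, c, hc, rfl⟩ := exists_mul_of_mem_sup_of_commute
    (fun c hc a ha => h.comm_CA hc ha) hx
  obtain ⟨a', ha', c', hc', rfl⟩ := exists_mul_of_mem_sup_of_commute
    (fun c hc a ha => h.comm_CA hc ha) hy
  calc a * c * (a' * c') = a * (c * a') * c' := by group
    _ = a * (a' * c) * c' := by rw [h.comm_CA hc ha']
    _ = (a * a') * (c * c') := by group
    _ = (a' * a) * (c' * c) := by rw [h.comm_AA ha ha', h.comm_CC hc hc']
    _ = a' * (a * c') * c := by group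
    _ = a' * (c' * a) * c := by rw [h.comm_CA hc' ha]
    _ = a' * c' * (a * c) := by group

/-- In the configuration the rank one pair `(B, D)` is special. -/
theorem RootPreConfig.special (h : RootPreConfig S A B C D) : Cfsg.IsSpecialRankOnePair B D := by
  apply special_of_quadratic_conj (N := A ⊔ C) h.rankOne h.comm_N h.le_normalizer
  · intro b hb b' hb' n hn
    obtain ⟨a, ha, c, hc, rfl⟩ := exists_mul_of_mem_sup_of_commute
      (fun c hc a ha => h.comm_CA hc ha) hn
    have hmem : b * (a * c) * b⁻¹ * (a * c)⁻¹ ∈ C := by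
      have hcb : c * b⁻¹ = b⁻¹ * c := h.comm_CB hc (B.inv_mem hb)
      have e : b * (a * c) * b⁻¹ * (a * c)⁻¹ = b * a * (c * b⁻¹) * c⁻¹ * a⁻¹ := by group
      have e2 : b * a * (b⁻¹ * c) * c⁻¹ * a⁻¹ = b * a * b⁻¹ * a⁻¹ := by group
      rw [e, hcb, e2]
      exact h.mem_C ha hb
    exact (h.comm_CB hmem hb').symm
  · obtain ⟨b, hb, hb1⟩ := RootPreConfig.exists_ne_one h.hS h.hB
    obtain ⟨d, hd, hd1⟩ := RootPreConfig.exists_ne_one h.hS h.hD
    obtain ⟨a, ha, ha1⟩ := RootPreConfig.exists_ne_one h.hS h.hA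
    refine ⟨b, Subgroup.mem_sup_left hb, d, Subgroup.mem_sup_right hd, a, Subgroup.mem_sup_left ha, ?_⟩
    intro hcomm
    have hc : b * a * b⁻¹ * a⁻¹ ∈ C := h.mem_C ha hb
    have hc1 := h.inj_C hd hd1 hc hcomm
    apply ha1
    apply h.inj_A hb hb1 ha
    calc b * a = (b * a * b⁻¹ * a⁻¹) * (a * b) := by group
      _ = a * b := by rw [hc1, one_mul]

end Config

end Cfsg.Agent.Lib.Helper8
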