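import Mathlib
import Cfsg.Prelude.Def_RootSubgroups
import Cfsg.Agent.Lib.Helper8.RG1

/-!
# Points on a line through a rank one partner
-/

set_option autoImplicit false

namespace Cfsg.Agent.Lib.Helper8

variable {G : Type*} [Group G]

open scoped commutatorElement

section Geometry

variable {S : Set (Subgroup G)}

theorem comm_of_commutator_eq_bot {A B : Subgroup G} (h : ⁅A, B⁆ = ⊥) {a b : G} (ha : a ∈ A)
    (hb : b ∈ B) : a * b = b * a := by
  rw [Subgroup.commutator_eq_bot_iff_le_centralizer] at h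
  have := h ha
  rw [Subgroup.mem_centralizer_iff] at this
  exact (this b hb).symm

theorem commutator_eq_bot_of_comm {A B : Subgroup G} (h : ∀ a ∈ A, ∀ b ∈ B, a * b = b * a) :
    ⁅A, B⁆ = ⊥ := by
  rw [Subgroup.commutator_eq_bot_iff_le_centralizer]
  intro a ha
  rw [Subgroup.mem_centralizer_iff]
  intro b hb
  exact (h a ha b hb).symm

/-- A member of `S` cannot be a rank one partner of all points of a line through one of its rank
one partners. -/
theorem not_all_rankOne_on_line (hS : Cfsg.IsRootSubgroupSet S) {A B F : Subgroup G}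
    (hB : B ∈ S) (hAB : Cfsg.IsRankOnePair A B) (hF : F ∈ Cfsg.linePartners S B)
    (hall : ∀ P ∈ Cfsg.membersIn S (B ⊔ F), Cfsg.IsRankOnePair A P) : False := by
  obtain ⟨⟨hFS, hFB, hcomm⟩, hpart⟩ := hF
  have hBm : B ∈ Cfsg.membersIn S (B ⊔ F) := ⟨hB, le_sup_left⟩
  have hFm : F ∈ Cfsg.membersIn S (B ⊔ F) := ⟨hFS, le_sup_right⟩
  have hAF := hall F hFm
  obtain ⟨a, ha, ha1⟩ := rankOnePair_exists_left hAB
  obtain ⟨b, hb, hb1, hEqb⟩ := hAB.cond_left a ha ha1
  obtain ⟨f, hf, hf1, hEqf⟩ := hAF.cond_left a ha ha1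
  have hinf : B ⊓ F = ⊥ := hpart.2.2 B hBm F hFm (Ne.symm hFB)
  have hp1 : b * f⁻¹ ≠ 1 := by
    intro h1
    have hbf : b = f := by
      have := mul_inv_eq_one.mp h1
      exact this
    have : b ∈ B ⊓ F := Subgroup.mem_inf.mpr ⟨hb, hbf ▸ hf⟩
    rw [hinf, Subgroup.mem_bot] at this
    exact hb1 this
  have hpm : b * f⁻¹ ∈ B ⊔ F :=
    Subgroup.mul_mem _ (Subgroup.mem_sup_left hb) (Subgroup.mem_sup_right (F.inv_mem hf))
  obtain ⟨P, hP, hpP⟩ := hpart.2.1 _ hpm hp1
  have hAP := hall P hP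
  set p := b * f⁻¹ with hp
  have hp1' : p⁻¹ ≠ 1 := fun h1 => hp1 (inv_eq_one.mp h1)
  apply rankOnePair_conj_not_centralize (Cfsg.RankOnePair_symm hAP) (P.inv_mem hpP) hp1'
  intro c₁ hc₁ c₃ hc₃
  rw [inv_inv]
  -- `f⁻¹ c₁ f = a⁻¹ f' a`, `b⁻¹ c₃ b = a⁻¹ b' a`
  have h1 : f⁻¹ * c₁ * f ∈ Cfsg.conjBy F a⁻¹ := by
    rw [← hEqf]
    have := conj_mem_conjBy (A := A) (g := f⁻¹) hc₁
    rwa [inv_inv] at this
  have h2 : b⁻¹ * c₃ * b ∈ Cfsg.conjBy B a⁻¹ := by
    rw [← hEqb]
    have := conj_mem_conjBy (A := A) (g := b⁻¹) hc₃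
    rwa [inv_inv] at this
  rw [mem_conjBy, inv_inv] at h1 h2
  have hfb := comm_of_commutator_eq_bot hcomm h2 h1
  calc p * c₁ * p⁻¹ * c₃
      = b * a⁻¹ * ((a * (f⁻¹ * c₁ * f) * a⁻¹) * (a * (b⁻¹ * c₃ * b) * a⁻¹)) * a * b⁻¹ := by
        rw [hp]; group
    _ = b * a⁻¹ * ((a * (b⁻¹ * c₃ * b) * a⁻¹) * (a * (f⁻¹ * c₁ * f) * a⁻¹)) * a * b⁻¹ := by
        rw [hfb]
    _ = c₃ * (p * c₁ * p⁻¹) := by rw [hp]; group

/-- A member `T` commuting with `B` such that products of non-identity elements of `T` and `B`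
are root elements does not commute with a rank one partner `A` of `B`. -/
theorem not_commute_of_line (hS : Cfsg.IsRootSubgroupSet S) {A B T : Subgroup G}
    (hA : A ∈ S) (hB : B ∈ S) (hAB : Cfsg.IsRankOnePair A B)
    (hTB : ∀ t ∈ T, ∀ b ∈ B, t * b = b * t)
    (hroot : ∀ t ∈ T, t ≠ 1 → ∀ b ∈ B, b ≠ 1 → t * b ∈ Cfsg.rootElements S)
    (hT1 : ∃ t ∈ T, t ≠ 1) : ¬ (∀ t ∈ T, ∀ a ∈ A, t * a = a * t) := by
  intro hTA
  obtain ⟨t, ht, ht1⟩ := hT1
  obtain ⟨b, hb, hb1⟩ := rankOnePair_exists_right hAB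
  have hz : t ∈ Subgroup.centralizer ((B ⊔ A : Subgroup G) : Set G) := by
    have h1 : B ⊔ A ≤ Subgroup.centralizer ((Subgroup.zpowers t : Subgroup G) : Set G) := by
      apply sup_le
      · rw [le_centralizer_zpowers_iff]
        intro x hx
        exact (hTB t ht x hx).symm
      · rw [le_centralizer_zpowers_iff]
        intro x hx
        exact (hTA t ht x hx).symm
    rw [Subgroup.mem_centralizer_iff]
    intro x hx
    exact (le_centralizer_zpowers_iff.mp h1) x hx
  exact Cfsg.Agent.S5025.result hS hB ⟨hA, Cfsg.RankOnePair_symm hAB⟩ hz ht1 b hb hb1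
    (hroot t ht ht1 b hb hb1)

/-- On a commutator line through `B` there is a point in the commutator case with a given rank
one partner `A` of `B`. -/
theorem exists_commCase_on_line (hS : Cfsg.IsRootSubgroupSet S) {A B C₀ : Subgroup G}
    (hA : A ∈ S) (hB : B ∈ S) (hAB : Cfsg.IsRankOnePair A B)
    (h0 : Cfsg.RootCommutatorCase S B C₀) :
    ∃ T ∈ S, (∀ t ∈ T, ∀ b ∈ B, t * b = b * t) ∧ Cfsg.RootCommutatorCase S A T := by
  have hBA := Cfsg.RankOnePair_symm hAB
  have hpart := isSubgroupPartition_sup_commutator hS hB hA hBA h0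
  have hcommF : ∀ c ∈ ⁅B, C₀⁆, ∀ b ∈ B, c * b = b * c := fun c hc b hb =>
    commCase_central_left h0 hc hb
  have hF : ⁅B, C₀⁆ ∈ Cfsg.linePartners S B := by
    refine ⟨⟨h0.1, (commCase_ne_left hS h0).symm, ?_⟩, hpart⟩
    apply commutator_eq_bot_of_comm
    intro b hb c hc
    exact (hcommF c hc b hb).symm
  by_contra hcon
  push Not at hcon
  apply not_all_rankOne_on_line hS hB hAB hF
  intro P hP
  obtain ⟨hPS, hPle⟩ := hP
  have hBab := hS.commutative B hB
  have hPB : ∀ t ∈ P, ∀ b ∈ B, t * b = b * t := by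
    intro t ht b hb
    obtain ⟨b', hb', c, hc, rfl⟩ := exists_mul_of_mem_sup_of_commute hcommF (hPle ht)
    rw [mul_assoc, hcommF c hc b hb, ← mul_assoc, mul_comm_of_mem_commutative hBab hb' hb,
      mul_assoc]
  by_cases hPBeq : P = B
  · rw [hPBeq]; exact hAB
  rcases hS.pair A hA P hPS with h1 | h2 | h3
  · exfalso
    have hinf : P ⊓ B = ⊥ := hpart.2.2 P ⟨hPS, hPle⟩ B ⟨hB, le_sup_left⟩ hPBeq
    refine not_commute_of_line hS hA hB hAB hPB ?_ (RootPreConfig.exists_ne_one hS hPS) ?_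
    · intro t ht ht1 b hb hb1
      have htb1 : t * b ≠ 1 := by
        intro h4
        have : t ∈ P ⊓ B := by
          refine Subgroup.mem_inf.mpr ⟨ht, ?_⟩
          have : t = b⁻¹ := eq_inv_of_mul_eq_one_left h4
          rw [this]; exact B.inv_mem hb
        rw [hinf, Subgroup.mem_bot] at this
        exact ht1 this
      have hmem : t * b ∈ B ⊔ ⁅B, C₀⁆ :=
        Subgroup.mul_mem _ (hPle ht) (Subgroup.mem_sup_left hb)
      obtain ⟨Q, hQ, hQm⟩ := hpart.2.1 _ hmem htb1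
      exact ⟨htb1, Q, hQ.1, hQm⟩
    · intro t ht a ha
      exact (comm_of_commutator_eq_bot h1 ha ht).symm
  · exact h2
  · exact absurd h3 (hcon P hPS hPB)

/-- If `T` commutes with `B` and `(A, T)` is in the commutator case, for a rank one pair `(A, B)`,
then `(⁅A, T⁆, B)` is in the commutator case. -/
theorem commCase_commutator_right (hS : Cfsg.IsRootSubgroupSet S) {A B T : Subgroup G}
    (hA : A ∈ S) (hB : B ∈ S) (hAB : Cfsg.IsRankOnePair A B)
    (hTB : ∀ t ∈ T, ∀ b ∈ B, t * b = b * t) (h : Cfsg.RootCommutatorCase S A T) :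
    Cfsg.RootCommutatorCase S ⁅A, T⁆ B := by
  rcases hS.pair ⁅A, T⁆ h.1 B hB with h1 | h2 | h3
  · exfalso
    obtain ⟨e, he, he1⟩ := RootPreConfig.exists_ne_one hS h.1
    exact commCase_not_centralize hS hA hB hAB h he he1
      (fun d hd => (comm_of_commutator_eq_bot h1 he hd).symm)
  · exfalso
    have hE : ⁅A, T⁆ ∈ Cfsg.linePartners S A := by
      refine ⟨⟨h.1, (commCase_ne_left hS h).symm, ?_⟩,
        isSubgroupPartition_sup_commutator hS hA hB hAB h⟩
      apply commutator_eq_bot_of_comm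
      intro a ha c hc
      exact (commCase_central_left h hc ha).symm
    apply not_all_rankOne_on_line hS hA (Cfsg.RankOnePair_symm hAB) hE
    intro P hP
    rw [membersIn_sup_commutator hS hA hB hAB h] at hP
    rcases hP with ⟨t, ht, rfl⟩ | hP
    · have h4 := isRankOnePair_conjBy (Cfsg.RankOnePair_symm hAB) t
      have h5 : Cfsg.conjBy B t = B := by
        apply conjBy_eq_self_iff.mpr
        apply Subgroup.centralizer_le_normalizer
        rw [Subgroup.mem_centralizer_iff]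
        intro b hb
        exact (hTB t ht b hb).symm
      rw [h5] at h4
      exact h4
    · rw [Set.mem_singleton_iff] at hP
      rw [hP]
      exact Cfsg.RankOnePair_symm h2
  · exact h3

end Geometry

end Cfsg.Agent.Lib.Helper8
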