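import Mathlib
import Cfsg.Prelude.Def_RootSubgroups
import Cfsg.Agent.Lib.Helper8.RG2

/-!
# Closing a commutator chain into the natural module configuration
-/

set_option autoImplicit false

namespace Cfsg.Agent.Lib.Helper8

variable {G : Type*} [Group G]

open scoped commutatorElement

section Closing

variable {S : Set (Subgroup G)}

/-- The computation: conjugating `t` by `u = b⁻¹ a b = a⁻¹ b₁ a` in two ways. -/
theorem conj_two_ways {a b b₁ t e₁ e₁' τ τ' : G}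
    (hu : b⁻¹ * a * b = a⁻¹ * b₁ * a)
    (hbt : b * t * b⁻¹ = t) (hbt' : b⁻¹ * t * b = t) (hb₁t : b₁⁻¹ * t * b₁ = t)
    (he₁ : a⁻¹ * t * a = t * e₁) (he₁' : a * t * a⁻¹ = t * e₁')
    (hτ : b⁻¹ * e₁ * b = e₁ * τ) (hτ' : b₁⁻¹ * e₁' * b₁ = e₁' * τ')
    (hae : a⁻¹ * e₁' * a = e₁') (hee : e₁ * e₁' = 1) :
    a⁻¹ * τ' * a = e₁ * τ := by
  have w1 : (b⁻¹ * a * b)⁻¹ * t * (b⁻¹ * a * b) = t * (e₁ * τ) := by
    have s1 : (b⁻¹ * a * b)⁻¹ * t * (b⁻¹ * a * b) = b⁻¹ * (a⁻¹ * (b * t * b⁻¹) * a) * b := by group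
    rw [s1, hbt, he₁]
    have s2 : b⁻¹ * (t * e₁) * b = (b⁻¹ * t * b) * (b⁻¹ * e₁ * b) := by group
    rw [s2, hbt', hτ]
  have w2 : (a⁻¹ * b₁ * a)⁻¹ * t * (a⁻¹ * b₁ * a) = t * (a⁻¹ * τ' * a) := by
    have s1 : (a⁻¹ * b₁ * a)⁻¹ * t * (a⁻¹ * b₁ * a) = a⁻¹ * (b₁⁻¹ * (a * t * a⁻¹) * b₁) * a := by
      group
    rw [s1, he₁']
    have s2 : b₁⁻¹ * (t * e₁') * b₁ = (b₁⁻¹ * t * b₁) * (b₁⁻¹ * e₁' * b₁) := by group
    rw [s2, hb₁t, hτ']
    have s3 : a⁻¹ * (t * (e₁' * τ')) * a = (a⁻¹ * t * a) * (a⁻¹ * e₁' * a) * (a⁻¹ * τ' * a) := by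
      group
    rw [s3, he₁, hae, mul_assoc t e₁ e₁', hee, mul_one]
  rw [hu, w2] at w1
  exact mul_left_cancel w1

/-- Closing the chain `T → E = ⁅A, T⁆ → T₂ = ⁅E, B⁆` into a configuration. -/
theorem commCase_closes (hS : Cfsg.IsRootSubgroupSet S)
    (hall : ∀ X ∈ S, ∃ D ∈ S, Cfsg.IsRankOnePair X D) {A B T : Subgroup G}
    (hA : A ∈ S) (hB : B ∈ S) (hT : T ∈ S) (hAB : Cfsg.IsRankOnePair A B)
    (hTB : ∀ t ∈ T, ∀ b ∈ B, t * b = b * t) (h : Cfsg.RootCommutatorCase S A T) :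
    RootPreConfig S ⁅⁅A, T⁆, B⁆ A ⁅A, T⁆ B := by
  have hE := h.1
  have hEB := commCase_commutator_right hS hA hB hAB hTB h
  have hT₂ := hEB.1
  have hEA : ∀ e ∈ ⁅A, T⁆, ∀ a ∈ A, e * a = a * e := fun e he a ha =>
    commCase_central_left h he ha
  have hBE := commCase_symm hEB
  have hcomm : ⁅B, ⁅A, T⁆⁆ = ⁅⁅A, T⁆, B⁆ := Subgroup.commutator_comm _ _
  have hT₂A : Cfsg.RootCommutatorCase S ⁅⁅A, T⁆, B⁆ A := by
    have := commCase_commutator_right hS hB hA (Cfsg.RankOnePair_symm hAB) hEA hBE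
    rwa [hcomm] at this
  have hAT₂ := commCase_symm hT₂A
  have hE₂ := hT₂A.1
  -- the main claim
  have hclaim : ⁅⁅⁅A, T⁆, B⁆, A⁆ = ⁅A, T⁆ := by
    obtain ⟨a, ha, ha1⟩ := rankOnePair_exists_left hAB
    obtain ⟨b, hb, hb1, hEq⟩ := hAB.cond_left a ha ha1
    obtain ⟨t, ht, ht1⟩ := RootPreConfig.exists_ne_one hS hT
    -- `b₁`
    have hu : b⁻¹ * a * b ∈ Cfsg.conjBy B a⁻¹ := by
      rw [← hEq]
      have := conj_mem_conjBy (A := A) (g := b⁻¹) ha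
      rwa [inv_inv] at this
    rw [mem_conjBy, inv_inv] at hu
    set b₁ := a * (b⁻¹ * a * b) * a⁻¹ with hb₁
    have hub₁ : b⁻¹ * a * b = a⁻¹ * b₁ * a := by rw [hb₁]; group
    set e₁ := t⁻¹ * a⁻¹ * t * a with he₁
    set e₁' := t⁻¹ * a * t * a⁻¹ with he₁'
    set τ := e₁⁻¹ * b⁻¹ * e₁ * b with hτ
    set τ' := e₁'⁻¹ * b₁⁻¹ * e₁' * b₁ with hτ'
    have he₁E : e₁ ∈ ⁅A, T⁆ := by
      rw [Subgroup.commutator_comm]
      have := comm_mem_commutator (A := T) (B := A) (T.inv_mem ht) (A.inv_mem ha)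
      rwa [inv_inv, inv_inv] at this
    have he₁'E : e₁' ∈ ⁅A, T⁆ := by
      rw [Subgroup.commutator_comm]
      have := comm_mem_commutator (A := T) (B := A) (T.inv_mem ht) ha
      rwa [inv_inv] at this
    have hτm : τ ∈ ⁅⁅A, T⁆, B⁆ := by
      have := comm_mem_commutator (A := ⁅A, T⁆) (B := B) (Subgroup.inv_mem _ he₁E) (B.inv_mem hb)
      rwa [inv_inv, inv_inv] at this
    have hτ'm : τ' ∈ ⁅⁅A, T⁆, B⁆ := by
      have := comm_mem_commutator (A := ⁅A, T⁆) (B := B) (Subgroup.inv_mem _ he₁'E) (B.inv_mem hu)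
      rwa [inv_inv, inv_inv] at this
    -- `e₁ e₁' = 1`
    have hee : e₁ * e₁' = 1 := by
      have h1 := commCase_map_inv_left (commCase_symm h) (T.inv_mem ht) ha
      -- h1 : (t⁻¹)⁻¹ * a * ... hmm use bilinearity in the second variable instead
      have h2 := commCase_map_inv_right (commCase_symm h) (T.inv_mem ht) ha
      -- h2 : t⁻¹ * a⁻¹ * (t⁻¹)⁻¹ * (a⁻¹)⁻¹ = (t⁻¹ * a * (t⁻¹)⁻¹ * a⁻¹)⁻¹
      rw [inv_inv, inv_inv] at h2
      rw [he₁, he₁', h2]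
      group
    have hrel : a⁻¹ * τ' * a = e₁ * τ := by
      apply conj_two_ways hub₁ (t := t) (e₁' := e₁')
      · rw [← hTB t ht b hb]; group
      · rw [mul_assoc, hTB t ht b hb, ← mul_assoc, inv_mul_cancel, one_mul]
      · rw [mul_assoc, hTB t ht b₁ hu, ← mul_assoc, inv_mul_cancel, one_mul]
      · rw [he₁]; group
      · rw [he₁']; group
      · rw [hτ]; group
      · rw [hτ']; group
      · rw [mul_assoc, hEA e₁' he₁'E a ha, ← mul_assoc, inv_mul_cancel, one_mul]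
      · exact hee
    -- `e₁ ≠ 1`
    have ha1' : a⁻¹ ≠ 1 := fun hh => ha1 (inv_eq_one.mp hh)
    have he₁1 : e₁ ≠ 1 := by
      intro h1
      apply ht1
      apply commCase_injective_right hS hA hB hAB h (A.inv_mem ha) ha1' ht
      rw [inv_inv]
      calc a⁻¹ * t * a * t⁻¹ = t * (t⁻¹ * a⁻¹ * t * a) * t⁻¹ := by group
        _ = 1 := by rw [← he₁, h1]; group
    -- the element `g`
    obtain ⟨D₁, hD₁, hED₁⟩ := hall _ hE
    obtain ⟨D₂, hD₂, hE₂D₂⟩ := hall _ hE₂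
    have hET₂ : ⁅A, T⁆ ⊓ ⁅⁅A, T⁆, B⁆ = ⊥ :=
      rootSet_inf_eq_bot hS hD₁ hED₁ hT₂ (commCase_ne_left hS hEB)
    have hgE₂ : τ'⁻¹ * (a⁻¹ * τ' * a) ∈ ⁅⁅⁅A, T⁆, B⁆, A⁆ := by
      have := comm_mem_commutator (A := ⁅⁅A, T⁆, B⁆) (B := A) (Subgroup.inv_mem _ hτ'm)
        (A.inv_mem ha)
      rw [inv_inv, inv_inv] at this
      have e : τ'⁻¹ * (a⁻¹ * τ' * a) = τ'⁻¹ * a⁻¹ * τ' * a := by group
      rw [e]; exact this
    rw [hrel] at hgE₂
    have hgN : τ'⁻¹ * (e₁ * τ) ∈ ⁅A, T⁆ ⊔ ⁅⁅A, T⁆, B⁆ :=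
      Subgroup.mul_mem _ (Subgroup.mem_sup_right (Subgroup.inv_mem _ hτ'm))
        (Subgroup.mul_mem _ (Subgroup.mem_sup_left he₁E) (Subgroup.mem_sup_right hτm))
    have hgT₂ : τ'⁻¹ * (e₁ * τ) ∉ ⁅⁅A, T⁆, B⁆ := by
      intro hg
      have : e₁ ∈ ⁅⁅A, T⁆, B⁆ := by
        have e : e₁ = τ' * (τ'⁻¹ * (e₁ * τ)) * τ⁻¹ := by group
        rw [e]
        exact Subgroup.mul_mem _ (Subgroup.mul_mem _ hτ'm hg) (Subgroup.inv_mem _ hτm)
      have : e₁ ∈ ⁅A, T⁆ ⊓ ⁅⁅A, T⁆, B⁆ := Subgroup.mem_inf.mpr ⟨he₁E, this⟩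
      rw [hET₂, Subgroup.mem_bot] at this
      exact he₁1 this
    have hg1 : τ'⁻¹ * (e₁ * τ) ≠ 1 := by
      intro h1
      apply hgT₂
      rw [h1]; exact Subgroup.one_mem _
    have hpart := isSubgroupPartition_sup_commutator hS hE hD₁ hED₁ hEB
    obtain ⟨P, hP, hgP⟩ := hpart.2.1 _ hgN hg1
    have hE₂P : ⁅⁅⁅A, T⁆, B⁆, A⁆ = P := by
      by_contra hne
      have := rootSet_inf_eq_bot hS hD₂ hE₂D₂ hP.1 hne
      have hg : τ'⁻¹ * (e₁ * τ) ∈ ⁅⁅⁅A, T⁆, B⁆, A⁆ ⊓ P := Subgroup.mem_inf.mpr ⟨hgE₂, hgP⟩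
      rw [this, Subgroup.mem_bot] at hg
      exact hg1 hg
    rw [membersIn_sup_commutator hS hE hD₁ hED₁ hEB] at hP
    rcases hP with ⟨b', hb', hPb'⟩ | hP
    · by_cases hAb' : Cfsg.conjBy A b' = A
      · have hb'1 : b' = 1 := by
          have : b' ∈ B ⊓ Subgroup.normalizer (A : Set G) :=
            Subgroup.mem_inf.mpr ⟨hb', conjBy_eq_self_iff.mp hAb'⟩
          rw [rankOnePair_inf_normalizer' hAB, Subgroup.mem_bot] at this
          exact this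
        rw [hE₂P, ← hPb', hb'1]
        exact conjBy_one _
      · exfalso
        obtain ⟨-, hsup, -⟩ := rankOnePair_of_mem_unipotentSubgroups hAB
          (mem_unipotentSubgroups_self A B)
          (⟨b', Subgroup.mem_sup_right hb', rfl⟩ : Cfsg.conjBy A b' ∈ Cfsg.unipotentSubgroups A B)
          (Ne.symm hAb')
        -- `E₂` centralizes `A` and `b' A b'⁻¹`
        have hle : A ⊔ Cfsg.conjBy A b' ≤
            Subgroup.centralizer ((⁅⁅⁅A, T⁆, B⁆, A⁆ : Subgroup G) : Set G) := by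
          apply sup_le
          · intro x hx
            rw [Subgroup.mem_centralizer_iff]
            intro c hc
            exact commCase_central_right hT₂A hc hx
          · intro x hx
            rw [Subgroup.mem_centralizer_iff]
            intro c hc
            rw [hE₂P, ← hPb'] at hc
            have hc' : b'⁻¹ * c * b' ∈ ⁅A, T⁆ := mem_conjBy.mp hc
            have hx' : b'⁻¹ * x * b' ∈ A := mem_conjBy.mp hx
            have h5 := hEA _ hc' _ hx'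
            calc c * x = b' * ((b'⁻¹ * c * b') * (b'⁻¹ * x * b')) * b'⁻¹ := by group
              _ = b' * ((b'⁻¹ * x * b') * (b'⁻¹ * c * b')) * b'⁻¹ := by rw [h5]
              _ = x * c := by group
        rw [hsup] at hle
        obtain ⟨e₂, he₂, he₂1⟩ := RootPreConfig.exists_ne_one hS hE₂
        have he₂' : e₂ ∈ ⁅A, ⁅⁅A, T⁆, B⁆⁆ := by rw [Subgroup.commutator_comm]; exact he₂
        refine commCase_not_centralize hS hA hB hAB hAT₂ he₂' he₂1 ?_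
        intro d hd
        have := hle (Subgroup.mem_sup_right hd)
        rw [Subgroup.mem_centralizer_iff] at this
        exact (this e₂ he₂).symm
    · rw [Set.mem_singleton_iff] at hP
      exfalso
      apply hgT₂
      rw [← hP]; exact hgP
  exact
    { hS := hS
      hA := hT₂
      hB := hA
      hC := hE
      hD := hB
      comAB := hT₂A
      eqC := hclaim
      comDC := hBE
      eqA := hcomm }

end Closing

end Cfsg.Agent.Lib.Helper8
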