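import Mathlib
import Cfsg.Prelude.Def_RootSubgroups
import Cfsg.Agent.Lib.Helper8.RG3

/-!
# Non-degenerate classes of abstract root subgroups: the natural module configuration exists
-/

set_option autoImplicit false

namespace Cfsg.Agent.Lib.Helper8

variable {G : Type*} [Group G]

open scoped commutatorElement

section NonDeg

variable {S : Set (Subgroup G)}

theorem commCase_conjBy (hS : Cfsg.IsRootSubgroupSet S) {P Q : Subgroup G}
    (h : Cfsg.RootCommutatorCase S P Q) (g : G) :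
    Cfsg.RootCommutatorCase S (Cfsg.conjBy P g) (Cfsg.conjBy Q g) := by
  have h1 := commCase_map (MulAut.conj g).toMonoidHom h
  refine ⟨?_, h1.2.1, h1.2.2.1, h1.2.2.2⟩
  obtain ⟨X, hX, hXeq⟩ := h1.1
  have : ⁅Cfsg.conjBy P g, Cfsg.conjBy Q g⁆ = Cfsg.conjBy X g := hXeq.symm
  rw [this]
  exact hS.conj_mem X hX g

/-- In a class with a rank one pair, every member has a rank one partner. -/
theorem exists_rankOnePartner_of_class (hS : Cfsg.IsRootSubgroupClass S) {A B : Subgroup G}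
    (hA : A ∈ S) (hB : B ∈ S) (hAB : Cfsg.IsRankOnePair A B) :
    ∀ X ∈ S, ∃ D ∈ S, Cfsg.IsRankOnePair X D := by
  intro X hX
  obtain ⟨g, rfl⟩ := hS.2.2 A hA X hX
  exact ⟨Cfsg.conjBy B g, hS.1.conj_mem B hB g, isRankOnePair_conjBy hAB g⟩

/-- In a class with a pair in the commutator case, every member has a commutator partner. -/
theorem exists_commCase_of_class (hS : Cfsg.IsRootSubgroupClass S)
    (hc : ∃ P ∈ S, ∃ Q ∈ S, Cfsg.RootCommutatorCase S P Q) {B : Subgroup G} (hB : B ∈ S) :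
    ∃ C₀ ∈ S, Cfsg.RootCommutatorCase S B C₀ := by
  obtain ⟨P, hP, Q, hQ, hPQ⟩ := hc
  obtain ⟨g, rfl⟩ := hS.2.2 P hP B hB
  exact ⟨Cfsg.conjBy Q g, hS.1.conj_mem Q hQ g, commCase_conjBy hS.1 hPQ g⟩

/-- The natural module configuration through a rank one pair of a non-degenerate class. -/
theorem exists_config_of_nondegenerate (hS : Cfsg.IsRootSubgroupClass S)
    (hc : ∃ P ∈ S, ∃ Q ∈ S, Cfsg.RootCommutatorCase S P Q) {A B : Subgroup G}
    (hA : A ∈ S) (hB : B ∈ S) (hAB : Cfsg.IsRankOnePair A B) :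
    ∃ T ∈ S, (∀ t ∈ T, ∀ b ∈ B, t * b = b * t) ∧ Cfsg.RootCommutatorCase S A T ∧
      RootPreConfig S ⁅⁅A, T⁆, B⁆ A ⁅A, T⁆ B := by
  obtain ⟨C₀, -, h0⟩ := exists_commCase_of_class hS hc hB
  obtain ⟨T, hT, hTB, h⟩ := exists_commCase_on_line hS.1 hA hB hAB h0
  exact ⟨T, hT, hTB, h, commCase_closes hS.1 (exists_rankOnePartner_of_class hS hA hB hAB)
    hA hB hT hAB hTB h⟩

/-- `⁅A, T⁆` is a line partner of `A` in the commutator case, if `A` has a rank one partner. -/
theorem commutator_mem_linePartners (hS : Cfsg.IsRootSubgroupSet S) {A B T : Subgroup G}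
    (hA : A ∈ S) (hB : B ∈ S) (hAB : Cfsg.IsRankOnePair A B)
    (h : Cfsg.RootCommutatorCase S A T) : ⁅A, T⁆ ∈ Cfsg.linePartners S A := by
  refine ⟨⟨h.1, (commCase_ne_left hS h).symm, ?_⟩,
    isSubgroupPartition_sup_commutator hS hA hB hAB h⟩
  apply commutator_eq_bot_of_comm
  intro a ha c hc
  exact (commCase_central_left h hc ha).symm

end NonDeg

end Cfsg.Agent.Lib.Helper8
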