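import Mathlib
import Cfsg.Prelude.Def_RootSubgroups
import Cfsg.Agent.Lib.Helper8.RG4

/-!
# Closure of a line under the commutator construction
-/

set_option autoImplicit false

namespace Cfsg.Agent.Lib.Helper8

variable {G : Type*} [Group G]

open scoped commutatorElement

section LineClosure

variable {S : Set (Subgroup G)}

/-- If `T` commutes with `A`, products of non-identity elements of `T` and `A` are root elements,
`D` is a rank one partner of `A` and `(D, T)` is in the commutator case, then `⁅⁅D, T⁆, A⁆ = T`. -/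
theorem line_closure (hS : Cfsg.IsRootSubgroupSet S)
    (hall : ∀ X ∈ S, ∃ D ∈ S, Cfsg.IsRankOnePair X D) {A D T : Subgroup G}
    (hA : A ∈ S) (hD : D ∈ S) (hT : T ∈ S) (hDA : Cfsg.IsRankOnePair D A)
    (hTA : ∀ t ∈ T, ∀ a ∈ A, t * a = a * t) (h : Cfsg.RootCommutatorCase S D T)
    (hroot : ∀ t ∈ T, t ≠ 1 → ∀ a ∈ A, a ≠ 1 → t * a ∈ Cfsg.rootElements S) :
    ⁅⁅D, T⁆, A⁆ = T := by
  have cfg := commCase_closes hS hall hD hA hT hDA hTA h
  have hAD := Cfsg.RankOnePair_symm hDA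
  obtain ⟨t, ht, ht1⟩ := RootPreConfig.exists_ne_one hS hT
  obtain ⟨d, hd, hd1⟩ := rankOnePair_exists_left hDA
  obtain ⟨a, ha, ha1⟩ := rankOnePair_exists_right hDA
  -- (1) `t₂`
  have he : t * d * t⁻¹ * d⁻¹ ∈ ⁅⁅⁅D, T⁆, A⁆, D⁆ := by
    rw [cfg.eqC, Subgroup.commutator_comm]
    exact comm_mem_commutator ht hd
  obtain ⟨t₂, ht₂, ht₂e⟩ := commCase_surj_left cfg.comAB hd hd1 he
  set z := t⁻¹ * t₂ with hz
  have hzd : z * d = d * z := by
    have h1 : t₂ * d * t₂⁻¹ = t * d * t⁻¹ := by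
      calc t₂ * d * t₂⁻¹ = (t₂ * d * t₂⁻¹ * d⁻¹) * d := by group
        _ = (t * d * t⁻¹ * d⁻¹) * d := by rw [ht₂e]
        _ = t * d * t⁻¹ := by group
    calc z * d = t⁻¹ * (t₂ * d * t₂⁻¹) * t₂ := by rw [hz]; group
      _ = t⁻¹ * (t * d * t⁻¹) * t₂ := by rw [h1]
      _ = d * z := by rw [hz]; group
  -- (2) `z` commutes with `A`
  have hzA : ∀ x ∈ A, z * x = x * z := by
    intro x hx
    have h1 : t⁻¹ * x = x * t⁻¹ := hTA t⁻¹ (T.inv_mem ht) x hx
    have h2 : t₂ * x = x * t₂ := cfg.comm_AD ht₂ hx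
    calc z * x = t⁻¹ * (t₂ * x) := by rw [hz]; group
      _ = t⁻¹ * (x * t₂) := by rw [h2]
      _ = (t⁻¹ * x) * t₂ := by group
      _ = (x * t⁻¹) * t₂ := by rw [h1]
      _ = x * z := by rw [hz]; group
  -- (3) `z` centralizes `A ⊔ D`
  have hAd : Cfsg.conjBy A d ≠ A := by
    intro hEq
    have : d ∈ D ⊓ Subgroup.normalizer (A : Set G) :=
      Subgroup.mem_inf.mpr ⟨hd, conjBy_eq_self_iff.mp hEq⟩
    rw [rankOnePair_inf_normalizer hDA, Subgroup.mem_bot] at this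
    exact hd1 this
  obtain ⟨-, hsup, -⟩ := rankOnePair_of_mem_unipotentSubgroups hAD
    (mem_unipotentSubgroups_self A D)
    (⟨d, Subgroup.mem_sup_right hd, rfl⟩ : Cfsg.conjBy A d ∈ Cfsg.unipotentSubgroups A D)
    (Ne.symm hAd)
  have hzX : A ⊔ D ≤ Subgroup.centralizer ((Subgroup.zpowers z : Subgroup G) : Set G) := by
    rw [← hsup]
    apply sup_le
    · rw [le_centralizer_zpowers_iff]
      intro x hx
      exact (hzA x hx).symm
    · rw [le_centralizer_zpowers_iff]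
      intro x hx
      rw [mem_conjBy] at hx
      have h1 := hzA _ hx
      calc x * z = d * ((d⁻¹ * x * d) * z) * d⁻¹ * (d * z⁻¹ * d⁻¹ * z) := by group
        _ = d * (z * (d⁻¹ * x * d)) * d⁻¹ * (d * z⁻¹ * d⁻¹ * z) := by rw [h1]
        _ = (d * z) * (d⁻¹ * x * d) * d⁻¹ * (d * z⁻¹ * d⁻¹ * z) := by group
        _ = (z * d) * (d⁻¹ * x * d) * d⁻¹ * (d * z⁻¹ * d⁻¹ * z) := by rw [hzd]
        _ = z * x * (d * z⁻¹ * d⁻¹ * z) := by group
        _ = z * x * ((d * z⁻¹) * d⁻¹ * z) := by group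
        _ = z * x := by
          have : d * z⁻¹ = z⁻¹ * d := by
            calc d * z⁻¹ = z⁻¹ * (z * d) * z⁻¹ := by group
              _ = z⁻¹ * (d * z) * z⁻¹ := by rw [hzd]
              _ = z⁻¹ * d := by group
          rw [this]; group
  -- (4) if `z ≠ 1` we get a contradiction
  have hz1 : z = 1 := by
    by_contra hz1
    -- `m`
    have ht₂' : t₂⁻¹ ∈ ⁅⁅D, T⁆, A⁆ := Subgroup.inv_mem _ ht₂
    obtain ⟨m, hm, hmt⟩ := cfg.surj_A ha ha1 ht₂'
    have hmE : m ∈ ⁅D, T⁆ := hm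
    have hma : m * a * m⁻¹ = t₂ * a := by
      have : m * a * m⁻¹ * a⁻¹ = t₂ := by
        have e : m * a * m⁻¹ * a⁻¹ = (a * m * a⁻¹ * m⁻¹)⁻¹ := by group
        rw [e, hmt, inv_inv]
      calc m * a * m⁻¹ = (m * a * m⁻¹ * a⁻¹) * a := by group
        _ = t₂ * a := by rw [this]
    -- `z` commutes with `m`
    have hzm : z * m = m * z := by
      have h1 : m * t⁻¹ = t⁻¹ * m := commCase_central_right h hmE (T.inv_mem ht)
      have h2 : m * t₂ = t₂ * m := cfg.comm_CA hmE ht₂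
      calc z * m = t⁻¹ * (t₂ * m) := by rw [hz]; group
        _ = t⁻¹ * (m * t₂) := by rw [h2]
        _ = (t⁻¹ * m) * t₂ := by group
        _ = (m * t⁻¹) * t₂ := by rw [h1]
        _ = m * z := by rw [hz]; group
    have hzinv1 : z⁻¹ ≠ 1 := fun hh => hz1 (inv_eq_one.mp hh)
    have hzc : z⁻¹ ∈ Subgroup.centralizer
        ((Cfsg.conjBy A m ⊔ Cfsg.conjBy D m : Subgroup G) : Set G) := by
      rw [← conjBy_sup, Subgroup.mem_centralizer_iff]
      intro x hx0
      have hx : x ∈ Cfsg.conjBy (A ⊔ D) m := hx0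
      rw [mem_conjBy] at hx
      have h1 : (m⁻¹ * x * m) * z = z * (m⁻¹ * x * m) :=
        (le_centralizer_zpowers_iff.mp hzX) _ hx
      have h2 : x * z = z * x := by
        calc x * z = m * ((m⁻¹ * x * m) * z) * m⁻¹ * (m * z⁻¹ * m⁻¹ * z) := by group
          _ = m * (z * (m⁻¹ * x * m)) * m⁻¹ * (m * z⁻¹ * m⁻¹ * z) := by rw [h1]
          _ = (m * z) * (m⁻¹ * x * m) * m⁻¹ * (m * z⁻¹ * m⁻¹ * z) := by group
          _ = (z * m) * (m⁻¹ * x * m) * m⁻¹ * (m * z⁻¹ * m⁻¹ * z) := by rw [hzm]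
          _ = z * x * ((m * z⁻¹) * m⁻¹ * z) := by group
          _ = z * x := by
            have : m * z⁻¹ = z⁻¹ * m := by
              calc m * z⁻¹ = z⁻¹ * (z * m) * z⁻¹ := by group
                _ = z⁻¹ * (m * z) * z⁻¹ := by rw [hzm]
                _ = z⁻¹ * m := by group
            rw [this]; group
      calc x * z⁻¹ = z⁻¹ * (z * x) * z⁻¹ := by group
        _ = z⁻¹ * (x * z) * z⁻¹ := by rw [h2]
        _ = z⁻¹ * x := by group
    have hma1 : m * a * m⁻¹ ≠ 1 := by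
      intro h1
      apply ha1
      calc a = m⁻¹ * (m * a * m⁻¹) * m := by group
        _ = 1 := by rw [h1]; group
    have hnot := Cfsg.Agent.S5025.result hS (hS.conj_mem A hA m)
      ⟨hS.conj_mem D hD m, isRankOnePair_conjBy hAD m⟩ hzc hzinv1 (m * a * m⁻¹)
      (conj_mem_conjBy ha) hma1
    apply hnot
    have : z⁻¹ * (m * a * m⁻¹) = t * a := by
      have htt : t₂ * t = t * t₂ := by
        have hle : ⁅⁅D, T⁆, A⁆ ≤ Subgroup.centralizer ((Subgroup.zpowers t : Subgroup G) : Set G) := by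
          refine (commutator_le_sup' (A := ⁅D, T⁆) (B := A)).trans (sup_le ?_ ?_)
          · rw [le_centralizer_zpowers_iff]
            intro x hx
            exact commCase_central_right h hx ht
          · rw [le_centralizer_zpowers_iff]
            intro x hx
            exact (hTA t ht x hx).symm
        exact (le_centralizer_zpowers_iff.mp hle) t₂ ht₂
      have hzt₂ : z⁻¹ * t₂ = t := by
        calc z⁻¹ * t₂ = t₂⁻¹ * (t * t₂) := by rw [hz]; group
          _ = t₂⁻¹ * (t₂ * t) := by rw [htt]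
          _ = t := by group
      rw [hma, ← mul_assoc, hzt₂]
    rw [this]
    exact hroot t ht ht1 a ha ha1
  -- (5) conclusion
  have htt₂ : t = t₂ := by
    have : t⁻¹ * t₂ = 1 := hz1
    exact (inv_mul_eq_one.mp this)
  by_contra hne
  obtain ⟨W, hW, hTW⟩ := hall T hT
  have := rootSet_inf_eq_bot hS hW hTW cfg.hA (Ne.symm hne)
  have hmem : t ∈ T ⊓ ⁅⁅D, T⁆, A⁆ := Subgroup.mem_inf.mpr ⟨ht, htt₂ ▸ ht₂⟩
  rw [this, Subgroup.mem_bot] at hmem
  exact ht1 hmem

end LineClosure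

end Cfsg.Agent.Lib.Helper8
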