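import Mathlib
import Cfsg.Prelude.Def_RootSubgroups
import Cfsg.Agent.Lib.Helper8.RG5

/-!
# Every line is a commutator line
-/

set_option autoImplicit false

namespace Cfsg.Agent.Lib.Helper8

variable {G : Type*} [Group G]

open scoped commutatorElement

section Lines

variable {S : Set (Subgroup G)}

/-- A line is abelian. -/
theorem line_comm {A B : Subgroup G} (hS : Cfsg.IsRootSubgroupSet S) (hA : A ∈ S) (hB : B ∈ S)
    (hcomm : ⁅A, B⁆ = ⊥) : ∀ x ∈ A ⊔ B, ∀ y ∈ A ⊔ B, x * y = y * x := by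
  have hAab := hS.commutative A hA
  have hBab := hS.commutative B hB
  have hba : ∀ b ∈ B, ∀ a ∈ A, b * a = a * b := fun b hb a ha =>
    (comm_of_commutator_eq_bot hcomm ha hb).symm
  intro x hx y hy
  obtain ⟨a, ha, b, hb, rfl⟩ := exists_mul_of_mem_sup_of_commute hba hx
  obtain ⟨a', ha', b', hb', rfl⟩ := exists_mul_of_mem_sup_of_commute hba hy
  calc a * b * (a' * b') = a * (b * a') * b' := by group
    _ = a * (a' * b) * b' := by rw [hba b hb a' ha']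
    _ = (a * a') * (b * b') := by group
    _ = (a' * a) * (b' * b) := by
        rw [mul_comm_of_mem_commutative hAab ha ha', mul_comm_of_mem_commutative hBab hb hb']
    _ = a' * (a * b') * b := by group
    _ = a' * (b' * a) * b := by rw [hba b' hb' a ha]
    _ = a' * b' * (a * b) := by group

/-- If `D` is a rank one partner of two points `A`, `B` of a line, some third point related to
them is not a rank one partner of `D`. -/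
theorem exists_point_not_rankOne {D A B : Subgroup G}
    (hA : A ∈ S) (hDA : Cfsg.IsRankOnePair D A) (hB : B ∈ Cfsg.linePartners S A)
    (hDB : Cfsg.IsRankOnePair D B) :
    ∃ P ∈ Cfsg.membersIn S (A ⊔ B), ∃ a₁ ∈ A, ∃ b₁ ∈ B, b₁ ≠ 1 ∧ a₁ * b₁⁻¹ ∈ P ∧
      ¬ Cfsg.IsRankOnePair D P := by
  obtain ⟨⟨hBS, hBA, hcomm⟩, hpart⟩ := hB
  have hAm : A ∈ Cfsg.membersIn S (A ⊔ B) := ⟨hA, le_sup_left⟩
  have hBm : B ∈ Cfsg.membersIn S (A ⊔ B) := ⟨hBS, le_sup_right⟩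
  obtain ⟨d, hd, hd1⟩ := rankOnePair_exists_left hDA
  obtain ⟨a₁, ha₁, ha₁1, hEqa⟩ := hDA.cond_left d hd hd1
  obtain ⟨b₁, hb₁, hb₁1, hEqb⟩ := hDB.cond_left d hd hd1
  have hinf : A ⊓ B = ⊥ := hpart.2.2 A hAm B hBm (Ne.symm hBA)
  have hp1 : a₁ * b₁⁻¹ ≠ 1 := by
    intro h1
    have hab : a₁ = b₁ := mul_inv_eq_one.mp h1
    have : a₁ ∈ A ⊓ B := Subgroup.mem_inf.mpr ⟨ha₁, hab ▸ hb₁⟩
    rw [hinf, Subgroup.mem_bot] at this
    exact ha₁1 this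
  have hpm : a₁ * b₁⁻¹ ∈ A ⊔ B :=
    Subgroup.mul_mem _ (Subgroup.mem_sup_left ha₁) (Subgroup.mem_sup_right (B.inv_mem hb₁))
  obtain ⟨P, hP, hpP⟩ := hpart.2.1 _ hpm hp1
  refine ⟨P, hP, a₁, ha₁, b₁, hb₁, hb₁1, hpP, ?_⟩
  intro hDP
  set p := a₁ * b₁⁻¹ with hp
  have hp1' : p⁻¹ ≠ 1 := fun h1 => hp1 (inv_eq_one.mp h1)
  apply rankOnePair_conj_not_centralize (Cfsg.RankOnePair_symm hDP) (P.inv_mem hpP) hp1'
  intro c₁ hc₁ c₃ hc₃
  rw [inv_inv]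
  have h1 : b₁⁻¹ * c₁ * b₁ ∈ Cfsg.conjBy B d⁻¹ := by
    rw [← hEqb]
    have := conj_mem_conjBy (A := D) (g := b₁⁻¹) hc₁
    rwa [inv_inv] at this
  have h2 : a₁⁻¹ * c₃ * a₁ ∈ Cfsg.conjBy A d⁻¹ := by
    rw [← hEqa]
    have := conj_mem_conjBy (A := D) (g := a₁⁻¹) hc₃
    rwa [inv_inv] at this
  rw [mem_conjBy, inv_inv] at h1 h2
  have hfb := comm_of_commutator_eq_bot hcomm h2 h1
  calc p * c₁ * p⁻¹ * c₃
      = a₁ * d⁻¹ * ((d * (b₁⁻¹ * c₁ * b₁) * d⁻¹) * (d * (a₁⁻¹ * c₃ * a₁) * d⁻¹)) * d * a₁⁻¹ := by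
        rw [hp]; group
    _ = a₁ * d⁻¹ * ((d * (a₁⁻¹ * c₃ * a₁) * d⁻¹) * (d * (b₁⁻¹ * c₁ * b₁) * d⁻¹)) * d * a₁⁻¹ := by
        rw [hfb]
    _ = c₃ * (p * c₁ * p⁻¹) := by rw [hp]; group

/-- Every line `A ⊔ B` is a commutator line `A ⊔ ⁅A, E⁆`. -/
theorem line_is_commutator_line (hS : Cfsg.IsRootSubgroupSet S)
    (hall : ∀ X ∈ S, ∃ D ∈ S, Cfsg.IsRankOnePair X D) {A B : Subgroup G}
    (hA : A ∈ S) (hB : B ∈ Cfsg.linePartners S A) :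
    ∃ E ∈ S, Cfsg.RootCommutatorCase S A E ∧ A ⊔ ⁅A, E⁆ = A ⊔ B := by
  have hB' := hB
  obtain ⟨⟨hBS, hBA, hcomm⟩, hpart⟩ := hB
  obtain ⟨D, hD, hAD⟩ := hall A hA
  have hDA := Cfsg.RankOnePair_symm hAD
  have hNab := line_comm hS hA hBS hcomm
  have hAm : A ∈ Cfsg.membersIn S (A ⊔ B) := ⟨hA, le_sup_left⟩
  -- facts about points different from `A`
  have hpt : ∀ P ∈ Cfsg.membersIn S (A ⊔ B), P ≠ A →
      (∀ t ∈ P, ∀ a ∈ A, t * a = a * t) ∧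
      (∀ t ∈ P, t ≠ 1 → ∀ a ∈ A, a ≠ 1 → t * a ∈ Cfsg.rootElements S) := by
    intro P hP hPA
    refine ⟨fun t ht a ha => hNab t (hP.2 ht) a (Subgroup.mem_sup_left ha), ?_⟩
    intro t ht ht1 a ha ha1
    have hinf : P ⊓ A = ⊥ := hpart.2.2 P hP A hAm hPA
    have hta1 : t * a ≠ 1 := by
      intro h4
      have : t ∈ P ⊓ A := by
        refine Subgroup.mem_inf.mpr ⟨ht, ?_⟩
        have : t = a⁻¹ := eq_inv_of_mul_eq_one_left h4
        rw [this]; exact A.inv_mem ha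
      rw [hinf, Subgroup.mem_bot] at this
      exact ht1 this
    have hmem : t * a ∈ A ⊔ B := Subgroup.mul_mem _ (hP.2 ht) (Subgroup.mem_sup_left ha)
    obtain ⟨Q, hQ, hQm⟩ := hpart.2.1 _ hmem hta1
    exact ⟨hta1, Q, hQ.1, hQm⟩
  have hnc : ∀ P ∈ Cfsg.membersIn S (A ⊔ B), P ≠ A → ⁅D, P⁆ ≠ ⊥ := by
    intro P hP hPA h1
    obtain ⟨h2, h3⟩ := hpt P hP hPA
    refine not_commute_of_line hS hD hA hDA h2 h3 (RootPreConfig.exists_ne_one hS hP.1) ?_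
    intro t ht a ha
    exact (comm_of_commutator_eq_bot h1 ha ht).symm
  -- the point `T`
  have hT : ∃ T ∈ Cfsg.membersIn S (A ⊔ B), T ≠ A ∧ Cfsg.RootCommutatorCase S D T ∧
      ∃ b₁ ∈ B, b₁ ≠ 1 ∧ b₁ ∈ A ⊔ T := by
    have hBm : B ∈ Cfsg.membersIn S (A ⊔ B) := ⟨hBS, le_sup_right⟩
    rcases hS.pair D hD B hBS with h1 | h2 | h3
    · exact absurd h1 (hnc B hBm hBA)
    · obtain ⟨P, hP, a₁, ha₁, b₁, hb₁, hb₁1, hpP, hnr⟩ := exists_point_not_rankOne hA hDA hB' h2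
      have hPA : P ≠ A := by
        rintro rfl
        exact hnr hDA
      refine ⟨P, hP, hPA, ?_, b₁, hb₁, hb₁1, ?_⟩
      · rcases hS.pair D hD P hP.1 with k1 | k2 | k3
        · exact absurd k1 (hnc P hP hPA)
        · exact absurd k2 hnr
        · exact k3
      · have e : b₁ = (a₁ * b₁⁻¹)⁻¹ * a₁ := by group
        rw [e]
        exact Subgroup.mul_mem _ (Subgroup.mem_sup_right (P.inv_mem hpP)) (Subgroup.mem_sup_left ha₁)
    · obtain ⟨b₁, hb₁, hb₁1⟩ := RootPreConfig.exists_ne_one hS hBS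
      exact ⟨B, hBm, hBA, h3, b₁, hb₁, hb₁1, Subgroup.mem_sup_right hb₁⟩
  obtain ⟨T, hTm, hTA, hDT, b₁, hb₁, hb₁1, hb₁m⟩ := hT
  obtain ⟨hTc, hTr⟩ := hpt T hTm hTA
  have hcl := line_closure hS hall hA hD hTm.1 hDA hTc hDT hTr
  have cfg := commCase_closes hS hall hD hA hTm.1 hDA hTc hDT
  have hAE : Cfsg.RootCommutatorCase S A ⁅D, T⁆ := cfg.comDC
  have hAEeq : ⁅A, ⁅D, T⁆⁆ = T := by rw [cfg.eqA]; exact hcl
  refine ⟨⁅D, T⁆, hDT.1, hAE, ?_⟩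
  rw [hAEeq]
  apply le_antisymm (sup_le le_sup_left hTm.2)
  apply sup_le le_sup_left
  -- `B ≤ A ⊔ T`
  have hpart' := isSubgroupPartition_sup_commutator hS hA hD hAD hAE
  rw [hAEeq] at hpart'
  obtain ⟨Q, hQ, hQm⟩ := hpart'.2.1 b₁ hb₁m hb₁1
  obtain ⟨W, hW, hBW⟩ := hall B hBS
  have hBQ : B = Q := by
    by_contra hne
    have := rootSet_inf_eq_bot hS hW hBW hQ.1 hne
    have hmem : b₁ ∈ B ⊓ Q := Subgroup.mem_inf.mpr ⟨hb₁, hQm⟩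
    rw [this, Subgroup.mem_bot] at hmem
    exact hb₁1 hmem
  rw [hBQ]
  exact hQ.2

end Lines

end Cfsg.Agent.Lib.Helper8
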