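import Mathlib
import Cfsg.Prelude.Def_RootSubgroups
import Cfsg.Agent.Lib.Helper8.RG6

/-!
# The normalizing members of a line act doubly transitively on its points
-/

set_option autoImplicit false

namespace Cfsg.Agent.Lib.Helper8

variable {G : Type*} [Group G]

open scoped commutatorElement

section TwoTrans

variable {S : Set (Subgroup G)}

/-- In the commutator case, a non-identity element of `E` does not normalize `A`. -/
theorem commCase_conjBy_ne (hS : Cfsg.IsRootSubgroupSet S) {A D E : Subgroup G}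
    (hA : A ∈ S) (hD : D ∈ S) (hAD : Cfsg.IsRankOnePair A D)
    (h : Cfsg.RootCommutatorCase S A E) {e : G} (he : e ∈ E) (he1 : e ≠ 1) :
    Cfsg.conjBy A e ≠ A := by
  intro hEq
  obtain ⟨a, ha, ha1⟩ := rankOnePair_exists_left hAD
  have hAC : A ⊓ ⁅A, E⁆ = ⊥ := rootSet_inf_eq_bot hS hD hAD h.1 (commCase_ne_left hS h)
  have hc : a * e * a⁻¹ * e⁻¹ ∈ ⁅A, E⁆ := comm_mem_commutator ha he
  have hcA : a * e * a⁻¹ * e⁻¹ ∈ A := by
    have h1 : e * a⁻¹ * e⁻¹ ∈ Cfsg.conjBy A e := conj_mem_conjBy (A.inv_mem ha)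
    rw [hEq] at h1
    have e1 : a * e * a⁻¹ * e⁻¹ = a * (e * a⁻¹ * e⁻¹) := by group
    rw [e1]
    exact A.mul_mem ha h1
  have : a * e * a⁻¹ * e⁻¹ ∈ A ⊓ ⁅A, E⁆ := Subgroup.mem_inf.mpr ⟨hcA, hc⟩
  rw [hAC, Subgroup.mem_bot] at this
  exact he1 (commCase_injective_right hS hA hD hAD h ha ha1 he this)

/-- In the commutator case `E` normalizes `A ⊔ ⁅A, E⁆`. -/
theorem commCase_le_normalizer {A E : Subgroup G} (h : Cfsg.RootCommutatorCase S A E) :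
    E ≤ Subgroup.normalizer ((A ⊔ ⁅A, E⁆ : Subgroup G) : Set G) := by
  have key : ∀ e ∈ E, Cfsg.conjBy (A ⊔ ⁅A, E⁆) e ≤ A ⊔ ⁅A, E⁆ := by
    intro e he
    rw [conjBy_sup]
    apply sup_le (conjBy_le_sup_commutator he)
    have : Cfsg.conjBy ⁅A, E⁆ e = ⁅A, E⁆ := by
      apply conjBy_eq_self_iff.mpr
      apply Subgroup.centralizer_le_normalizer
      rw [Subgroup.mem_centralizer_iff]
      intro c hc
      exact commCase_central_right h hc he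
    rw [this]
    exact le_sup_right
  intro e he
  rw [← conjBy_eq_self_iff]
  exact conjBy_eq_self_of_le (key e he) (key e⁻¹ (E.inv_mem he))

theorem commCase_conjBy_commutator {A E : Subgroup G} (h : Cfsg.RootCommutatorCase S A E)
    {e : G} (he : e ∈ E) : Cfsg.conjBy ⁅A, E⁆ e = ⁅A, E⁆ := by
  apply conjBy_eq_self_iff.mpr
  apply Subgroup.centralizer_le_normalizer
  rw [Subgroup.mem_centralizer_iff]
  intro c hc
  exact commCase_central_right h hc he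

/-- Double transitivity of the group generated by the normalizing members of a line. -/
theorem line_two_transitive (hS : Cfsg.IsRootSubgroupSet S)
    (hall : ∀ X ∈ S, ∃ D ∈ S, Cfsg.IsRankOnePair X D) {A B : Subgroup G}
    (hA : A ∈ S) (hB : B ∈ Cfsg.linePartners S A) :
    ∀ C₁ ∈ Cfsg.membersIn S (A ⊔ B), ∀ C₂ ∈ Cfsg.membersIn S (A ⊔ B),
      ∀ D₁ ∈ Cfsg.membersIn S (A ⊔ B), ∀ D₂ ∈ Cfsg.membersIn S (A ⊔ B), C₁ ≠ C₂ → D₁ ≠ D₂ →
        ∃ x ∈ ⨆ E ∈ Cfsg.normalizingMembers S (A ⊔ B), E,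
          Cfsg.conjBy C₁ x = D₁ ∧ Cfsg.conjBy C₂ x = D₂ := by
  obtain ⟨E, hE, hAE, hN⟩ := line_is_commutator_line hS hall hA hB
  obtain ⟨DA, hDA, hADA⟩ := hall A hA
  have hT := hAE.1
  -- `A` is a line partner of `T`
  have hAT : A ∈ Cfsg.linePartners S ⁅A, E⁆ := by
    refine ⟨⟨hA, commCase_ne_left hS hAE, ?_⟩, ?_⟩
    · apply commutator_eq_bot_of_comm
      intro c hc a ha
      exact commCase_central_left hAE hc ha
    · rw [sup_comm]
      exact isSubgroupPartition_sup_commutator hS hA hDA hADA hAE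
  obtain ⟨E', hE', hTE', hN'⟩ := line_is_commutator_line hS hall hT hAT
  obtain ⟨DT, hDT, hTDT⟩ := hall _ hT
  have hN'' : ⁅A, E⁆ ⊔ ⁅⁅A, E⁆, E'⁆ = A ⊔ B := by rw [hN', sup_comm, hN]
  have hPi1 := membersIn_sup_commutator hS hA hDA hADA hAE
  rw [hN] at hPi1
  have hPi2 := membersIn_sup_commutator hS hT hDT hTDT hTE'
  rw [hN''] at hPi2
  set K := ⨆ E ∈ Cfsg.normalizingMembers S (A ⊔ B), E with hK
  have hEK : E ≤ K := by
    have hmem : E ∈ Cfsg.normalizingMembers S (A ⊔ B) := by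
      refine ⟨hE, ?_⟩
      rw [← hN]
      exact commCase_le_normalizer hAE
    exact le_iSup₂_of_le E hmem le_rfl
  have hE'K : E' ≤ K := by
    have hmem : E' ∈ Cfsg.normalizingMembers S (A ⊔ B) := by
      refine ⟨hE', ?_⟩
      rw [← hN'']
      exact commCase_le_normalizer hTE'
    exact le_iSup₂_of_le E' hmem le_rfl
  have hKN : K ≤ Subgroup.normalizer ((A ⊔ B : Subgroup G) : Set G) := by
    apply iSup₂_le
    intro X hX
    exact hX.2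
  have hact : ∀ x ∈ K, ∀ P ∈ Cfsg.membersIn S (A ⊔ B),
      Cfsg.conjBy P x ∈ Cfsg.membersIn S (A ⊔ B) := by
    intro x hx P hP
    refine ⟨hS.conj_mem P hP.1 x, ?_⟩
    have h1 := conjBy_mono hP.2 x
    rwa [conjBy_eq_self_iff.mpr (hKN hx)] at h1
  have hTm : ⁅A, E⁆ ∈ Cfsg.membersIn S (A ⊔ B) := by rw [hPi1]; exact Or.inr rfl
  have hAm : A ∈ Cfsg.membersIn S (A ⊔ B) := ⟨hA, le_sup_left⟩
  -- `T' ≠ conjBy T e'`
  have hT'ne : ∀ e' ∈ E', Cfsg.conjBy ⁅A, E⁆ e' ≠ ⁅⁅A, E⁆, E'⁆ := by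
    intro e' he' hEq
    have h1 := conjBy_eq_iff.mp hEq
    rw [commCase_conjBy_commutator hTE' (E'.inv_mem he')] at h1
    exact commCase_ne_left hS hTE' h1
  -- transitivity: every point is conjugate to `T`
  have htrans : ∀ P ∈ Cfsg.membersIn S (A ⊔ B), ∃ x ∈ K, Cfsg.conjBy P x = ⁅A, E⁆ := by
    -- points of the second kind
    have h2 : ∀ e' ∈ E', ∃ x ∈ K, Cfsg.conjBy (Cfsg.conjBy ⁅A, E⁆ e') x = ⁅A, E⁆ := by
      intro e' he'
      refine ⟨e'⁻¹, K.inv_mem (hE'K he'), ?_⟩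
      rw [conjBy_conjBy, inv_mul_cancel, conjBy_one]
    -- a third point
    obtain ⟨e₀, he₀, he₀1⟩ := RootPreConfig.exists_ne_one hS hE
    have hP₃ne : Cfsg.conjBy A e₀ ≠ A := commCase_conjBy_ne hS hA hDA hADA hAE he₀ he₀1
    have hA_orbit : ∃ x ∈ K, Cfsg.conjBy A x = ⁅A, E⁆ := by
      have hAm' := hAm
      rw [hPi2] at hAm'
      rcases hAm' with ⟨e', he', hEq⟩ | hAT'
      · obtain ⟨x, hx, hxeq⟩ := h2 e' he'
        have hEq' : Cfsg.conjBy ⁅A, E⁆ e' = A := hEq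
        rw [hEq'] at hxeq
        exact ⟨x, hx, hxeq⟩
      · rw [Set.mem_singleton_iff] at hAT'
        -- `A = T'`: use the third point
        have hP₃m : Cfsg.conjBy A e₀ ∈ Cfsg.membersIn S (A ⊔ B) := hact e₀ (hEK he₀) A hAm
        rw [hPi2] at hP₃m
        rcases hP₃m with ⟨e', he', hEq⟩ | hP₃T'
        · obtain ⟨x, hx, hxeq⟩ := h2 e' he'
          have hEq' : Cfsg.conjBy ⁅A, E⁆ e' = Cfsg.conjBy A e₀ := hEq
          rw [hEq'] at hxeq
          refine ⟨x * e₀, K.mul_mem hx (hEK he₀), ?_⟩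
          rw [← conjBy_conjBy]; exact hxeq
        · rw [Set.mem_singleton_iff] at hP₃T'
          exact absurd (hP₃T'.trans hAT'.symm) hP₃ne
    intro P hP
    have hP' := hP
    rw [hPi1] at hP'
    rcases hP' with ⟨e, he, rfl⟩ | hPT
    · obtain ⟨x, hx, hxeq⟩ := hA_orbit
      refine ⟨x * e⁻¹, K.mul_mem hx (K.inv_mem (hEK he)), ?_⟩
      show Cfsg.conjBy (Cfsg.conjBy A e) (x * e⁻¹) = ⁅A, E⁆
      rw [conjBy_conjBy, mul_assoc, inv_mul_cancel, mul_one]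
      exact hxeq
    · rw [Set.mem_singleton_iff] at hPT
      exact ⟨1, K.one_mem, by rw [conjBy_one]; exact hPT⟩
  -- double transitivity
  intro C₁ hC₁ C₂ hC₂ D₁ hD₁ D₂ hD₂ hC hD
  obtain ⟨x₁, hx₁, hx₁eq⟩ := htrans C₁ hC₁
  obtain ⟨x₂, hx₂, hx₂eq⟩ := htrans D₁ hD₁
  have hC₂' : Cfsg.conjBy C₂ x₁ ∈ Cfsg.membersIn S (A ⊔ B) := hact x₁ hx₁ C₂ hC₂
  have hD₂' : Cfsg.conjBy D₂ x₂ ∈ Cfsg.membersIn S (A ⊔ B) := hact x₂ hx₂ D₂ hD₂
  have hC₂ne : Cfsg.conjBy C₂ x₁ ≠ ⁅A, E⁆ := by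
    intro hEq
    apply hC
    exact conjBy_injective x₁ (hx₁eq.trans hEq.symm)
  have hD₂ne : Cfsg.conjBy D₂ x₂ ≠ ⁅A, E⁆ := by
    intro hEq
    apply hD
    exact conjBy_injective x₂ (hx₂eq.trans hEq.symm)
  rw [hPi1] at hC₂' hD₂'
  rcases hC₂' with ⟨e₁, he₁, hEq₁⟩ | hC₂T
  swap
  · rw [Set.mem_singleton_iff] at hC₂T; exact absurd hC₂T hC₂ne
  rcases hD₂' with ⟨e₂, he₂, hEq₂⟩ | hD₂T
  swap
  · rw [Set.mem_singleton_iff] at hD₂T; exact absurd hD₂T hD₂ne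
  have hy : e₂ * e₁⁻¹ ∈ E := E.mul_mem he₂ (E.inv_mem he₁)
  refine ⟨x₂⁻¹ * (e₂ * e₁⁻¹) * x₁, K.mul_mem (K.mul_mem (K.inv_mem hx₂) (hEK hy)) hx₁, ?_, ?_⟩
  · rw [← conjBy_conjBy, ← conjBy_conjBy, hx₁eq, commCase_conjBy_commutator hAE hy, ← hx₂eq,
      conjBy_conjBy, inv_mul_cancel, conjBy_one]
  · rw [← conjBy_conjBy, ← conjBy_conjBy]
    have h1 : Cfsg.conjBy (Cfsg.conjBy C₂ x₁) (e₂ * e₁⁻¹) = Cfsg.conjBy D₂ x₂ := by
      rw [← hEq₁, ← hEq₂]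
      show Cfsg.conjBy (Cfsg.conjBy A e₁) (e₂ * e₁⁻¹) = Cfsg.conjBy A e₂
      rw [conjBy_conjBy, mul_assoc, inv_mul_cancel, mul_one]
    rw [h1, conjBy_conjBy, inv_mul_cancel, conjBy_one]

end TwoTrans

end Cfsg.Agent.Lib.Helper8
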