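import Mathlib
import Cfsg.Prelude.Def_RootSubgroups
import Cfsg.Agent.Lib.Helper8.RG7
import Cfsg.Agent.S5032

/-!
# Connectivity of the line graph and of the commuting graph for non-degenerate classes
-/

set_option autoImplicit false

namespace Cfsg.Agent.Lib.Helper8

variable {G : Type*} [Group G]

open scoped commutatorElement

section Connected

variable {S : Set (Subgroup G)}

theorem linePartners_symm {A B : Subgroup G} (hA : A ∈ S) (hB : B ∈ Cfsg.linePartners S A) :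
    A ∈ Cfsg.linePartners S B := by
  obtain ⟨⟨hBS, hBA, hcomm⟩, hpart⟩ := hB
  refine ⟨⟨hA, Ne.symm hBA, ?_⟩, ?_⟩
  · rw [Subgroup.commutator_comm]; exact hcomm
  · rw [sup_comm]; exact hpart

/-- In a non-degenerate class, rank one partners are joined by a path of line partners. -/
theorem eReach_of_rankOnePair (hS : Cfsg.IsRootSubgroupClass S)
    (hc : ∃ P ∈ S, ∃ Q ∈ S, Cfsg.RootCommutatorCase S P Q) {A B : Subgroup G}
    (hA : A ∈ S) (hB : B ∈ S) (hAB : Cfsg.IsRankOnePair A B) :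
    Relation.ReflTransGen (Cfsg.EAdj S S) A B := by
  have hall := exists_rankOnePartner_of_class hS hA hB hAB
  obtain ⟨T, hT, hTB, h, cfg⟩ := exists_config_of_nondegenerate hS hc hA hB hAB
  -- `A → Y := ⁅A, T⁆`
  have h1 : Cfsg.EAdj S S A ⁅A, T⁆ :=
    ⟨hA, h.1, commutator_mem_linePartners hS.1 hA hB hAB h⟩
  -- `Y → T₂ := ⁅Y, B⁆`
  obtain ⟨DY, hDY, hYDY⟩ := hall _ h.1
  have hYB : Cfsg.RootCommutatorCase S ⁅A, T⁆ B := commCase_symm cfg.comDC
  have h2 : Cfsg.EAdj S S ⁅A, T⁆ ⁅⁅A, T⁆, B⁆ :=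
    ⟨h.1, cfg.hA, commutator_mem_linePartners hS.1 h.1 hDY hYDY hYB⟩
  -- `T₂ → B`
  have hBY : Cfsg.RootCommutatorCase S B ⁅A, T⁆ := cfg.comDC
  have h3' : ⁅B, ⁅A, T⁆⁆ ∈ Cfsg.linePartners S B :=
    commutator_mem_linePartners hS.1 hB hA (Cfsg.RankOnePair_symm hAB) hBY
  rw [cfg.eqA] at h3'
  have h3 : Cfsg.EAdj S S ⁅⁅A, T⁆, B⁆ B := ⟨cfg.hA, hB, linePartners_symm hB h3'⟩
  exact ((Relation.ReflTransGen.single h1).tail h2).tail h3

/-- In a non-degenerate class the graph of line partners is connected. -/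
theorem eConnected_of_nondegenerate (hS : Cfsg.IsRootSubgroupClass S)
    (hnd : Cfsg.IsNondegenerateRootSet S) : Cfsg.IsConnectedFamily (Cfsg.EAdj S S) S := by
  obtain ⟨-, ⟨A₀, hA₀, B₀, hB₀, hAB₀⟩, hc⟩ := hnd
  have hFconn : Cfsg.IsConnectedFamily (Cfsg.FAdj S) S := by
    apply (Cfsg.Agent.S5032.result hS.1 ⟨A₀, hA₀, B₀, hB₀, hAB₀.ne⟩).mpr
    refine ⟨hS.2, A₀, hA₀, ?_⟩
    rintro ⟨-, hiso⟩
    exact (hiso B₀).1 ⟨hA₀, hB₀, hAB₀⟩
  have key : ∀ A B : Subgroup G, Relation.ReflTransGen (Cfsg.FAdj S) A B →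
      Relation.ReflTransGen (Cfsg.EAdj S S) A B := by
    intro A B h
    induction h with
    | refl => exact Relation.ReflTransGen.refl
    | tail _ hbc ih =>
      exact ih.trans (eReach_of_rankOnePair hS hc hbc.1 hbc.2.1 hbc.2.2)
  intro A hA B hB
  exact key A B (hFconn A hA B hB)

end Connected

end Cfsg.Agent.Lib.Helper8
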