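import Mathlib
import Cfsg.Prelude.Def_RootSubgroups
import Cfsg.Agent.Lib.Helper8.RG8

/-!
# Generation of a non-degenerate class by the line partners of `A` and a rank one partner
-/

set_option autoImplicit false

namespace Cfsg.Agent.Lib.Helper8

variable {G : Type*} [Group G]

open scoped commutatorElement

section Gen

variable {S : Set (Subgroup G)}

theorem conjBy_commutator (P Q : Subgroup G) (g : G) :
    Cfsg.conjBy ⁅P, Q⁆ g = ⁅Cfsg.conjBy P g, Cfsg.conjBy Q g⁆ :=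
  Subgroup.map_commutator P Q _

theorem membersIn_conjBy (hS : Cfsg.IsRootSubgroupSet S) {N P : Subgroup G} (g : G)
    (hP : P ∈ Cfsg.membersIn S N) : Cfsg.conjBy P g ∈ Cfsg.membersIn S (Cfsg.conjBy N g) :=
  ⟨hS.conj_mem P hP.1 g, conjBy_mono hP.2 g⟩

theorem isSubgroupPartition_conjBy (hS : Cfsg.IsRootSubgroupSet S) {N : Subgroup G} (g : G)
    (h : Cfsg.IsSubgroupPartition N (Cfsg.membersIn S N)) :
    Cfsg.IsSubgroupPartition (Cfsg.conjBy N g) (Cfsg.membersIn S (Cfsg.conjBy N g)) := by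
  have hback : ∀ P ∈ Cfsg.membersIn S (Cfsg.conjBy N g), Cfsg.conjBy P g⁻¹ ∈ Cfsg.membersIn S N := by
    intro P hP
    have := membersIn_conjBy hS g⁻¹ hP
    rwa [conjBy_conjBy, inv_mul_cancel, conjBy_one] at this
  refine ⟨fun C hC => hC.2, ?_, ?_⟩
  · intro x hx hx1
    rw [mem_conjBy] at hx
    have hx1' : g⁻¹ * x * g ≠ 1 := by
      intro h1
      apply hx1
      have : x = g * (g⁻¹ * x * g) * g⁻¹ := by group
      rw [this, h1]; group
    obtain ⟨C, hC, hxC⟩ := h.2.1 _ hx hx1'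
    refine ⟨Cfsg.conjBy C g, membersIn_conjBy hS g hC, ?_⟩
    rw [mem_conjBy]; exact hxC
  · intro C hC D hD hCD
    have h1 := h.2.2 _ (hback C hC) _ (hback D hD) (fun hEq => hCD (conjBy_injective g⁻¹ hEq))
    rw [← conjBy_inf] at h1
    have h2 : Cfsg.conjBy (Cfsg.conjBy (C ⊓ D) g⁻¹) g = Cfsg.conjBy ⊥ g := by rw [h1]
    rwa [conjBy_conjBy, mul_inv_cancel, conjBy_one, conjBy_bot] at h2

theorem linePartners_conjBy (hS : Cfsg.IsRootSubgroupSet S) {A B : Subgroup G} (g : G)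
    (hB : B ∈ Cfsg.linePartners S A) :
    Cfsg.conjBy B g ∈ Cfsg.linePartners S (Cfsg.conjBy A g) := by
  obtain ⟨⟨hBS, hBA, hcomm⟩, hpart⟩ := hB
  refine ⟨⟨hS.conj_mem B hBS g, fun hEq => hBA (conjBy_injective g hEq), ?_⟩, ?_⟩
  · rw [← conjBy_commutator, hcomm, conjBy_bot]
  · rw [← conjBy_sup]
    exact isSubgroupPartition_conjBy hS g hpart

/-- A point of the line `A ⊔ B` other than `A` spanning the line with `A` is a line partner. -/
theorem mem_linePartners_of_line (hS : Cfsg.IsRootSubgroupSet S) {A B T : Subgroup G}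
    (hA : A ∈ S) (hB : B ∈ Cfsg.linePartners S A) (hT : T ∈ Cfsg.membersIn S (A ⊔ B))
    (hTA : T ≠ A) (hN : A ⊔ T = A ⊔ B) : T ∈ Cfsg.linePartners S A := by
  obtain ⟨⟨hBS, hBA, hcomm⟩, hpart⟩ := hB
  have hNab := line_comm hS hA hBS hcomm
  refine ⟨⟨hT.1, hTA, ?_⟩, ?_⟩
  · apply commutator_eq_bot_of_comm
    intro a ha t ht
    exact hNab a (Subgroup.mem_sup_left ha) t (hT.2 ht)
  · rw [hN]; exact hpart

/-- Given a rank one partner `D` of `A`, every line through `A` is the commutator line of `A` and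
`⁅D, T⁆` for a point `T` of the line. -/
theorem exists_commutator_point (hS : Cfsg.IsRootSubgroupSet S)
    (hall : ∀ X ∈ S, ∃ D ∈ S, Cfsg.IsRankOnePair X D) {A B D : Subgroup G}
    (hA : A ∈ S) (hD : D ∈ S) (hAD : Cfsg.IsRankOnePair A D)
    (hB : B ∈ Cfsg.linePartners S A) :
    ∃ T ∈ Cfsg.membersIn S (A ⊔ B), T ≠ A ∧ Cfsg.RootCommutatorCase S D T ∧
      Cfsg.RootCommutatorCase S A ⁅D, T⁆ ∧ ⁅A, ⁅D, T⁆⁆ = T ∧ A ⊔ T = A ⊔ B := by
  have hB' := hB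
  obtain ⟨⟨hBS, hBA, hcomm⟩, hpart⟩ := hB
  have hDA := Cfsg.RankOnePair_symm hAD
  have hNab := line_comm hS hA hBS hcomm
  have hAm : A ∈ Cfsg.membersIn S (A ⊔ B) := ⟨hA, le_sup_left⟩
  -- facts about points different from `A`
  have hpt : ∀ P ∈ Cfsg.membersIn S (A ⊔ B), P ≠ A →
      (∀ t ∈ P, ∀ a ∈ A, t * a = a * t) ∧
      (∀ t ∈ P, t ≠ 1 → ∀ a ∈ A, a ≠ 1 → t * a ∈ Cfsg.rootElements S) := by
    intro P hP hPA
    refine ⟨fun t ht a ha => hNab t (hP.2 ht) a (Subgroup.mem_sup_left ha), ?_⟩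
    intro t ht ht1 a ha ha1
    have hinf : P ⊓ A = ⊥ := hpart.2.2 P hP A hAm hPA
    have hta1 : t * a ≠ 1 := by
      intro h4
      have : t ∈ P ⊓ A := by
        refine Subgroup.mem_inf.mpr ⟨ht, ?_⟩
        have : t = a⁻¹ := eq_inv_of_mul_eq_one_left h4
        rw [this]; exact A.inv_mem ha
      rw [hinf, Subgroup.mem_bot] at this
      exact ht1 this
    have hmem : t * a ∈ A ⊔ B := Subgroup.mul_mem _ (hP.2 ht) (Subgroup.mem_sup_left ha)
    obtain ⟨Q, hQ, hQm⟩ := hpart.2.1 _ hmem hta1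
    exact ⟨hta1, Q, hQ.1, hQm⟩
  have hnc : ∀ P ∈ Cfsg.membersIn S (A ⊔ B), P ≠ A → ⁅D, P⁆ ≠ ⊥ := by
    intro P hP hPA h1
    obtain ⟨h2, h3⟩ := hpt P hP hPA
    refine not_commute_of_line hS hD hA hDA h2 h3 (RootPreConfig.exists_ne_one hS hP.1) ?_
    intro t ht a ha
    exact (comm_of_commutator_eq_bot h1 ha ht).symm
  -- the point `T`
  have hT : ∃ T ∈ Cfsg.membersIn S (A ⊔ B), T ≠ A ∧ Cfsg.RootCommutatorCase S D T ∧
      ∃ b₁ ∈ B, b₁ ≠ 1 ∧ b₁ ∈ A ⊔ T := by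
    have hBm : B ∈ Cfsg.membersIn S (A ⊔ B) := ⟨hBS, le_sup_right⟩
    rcases hS.pair D hD B hBS with h1 | h2 | h3
    · exact absurd h1 (hnc B hBm hBA)
    · obtain ⟨P, hP, a₁, ha₁, b₁, hb₁, hb₁1, hpP, hnr⟩ := exists_point_not_rankOne hA hDA hB' h2
      have hPA : P ≠ A := by
        rintro rfl
        exact hnr hDA
      refine ⟨P, hP, hPA, ?_, b₁, hb₁, hb₁1, ?_⟩
      · rcases hS.pair D hD P hP.1 with k1 | k2 | k3
        · exact absurd k1 (hnc P hP hPA)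
        · exact absurd k2 hnr
        · exact k3
      · have e : b₁ = (a₁ * b₁⁻¹)⁻¹ * a₁ := by group
        rw [e]
        exact Subgroup.mul_mem _ (Subgroup.mem_sup_right (P.inv_mem hpP)) (Subgroup.mem_sup_left ha₁)
    · obtain ⟨b₁, hb₁, hb₁1⟩ := RootPreConfig.exists_ne_one hS hBS
      exact ⟨B, hBm, hBA, h3, b₁, hb₁, hb₁1, Subgroup.mem_sup_right hb₁⟩
  obtain ⟨T, hTm, hTA, hDT, b₁, hb₁, hb₁1, hb₁m⟩ := hT
  obtain ⟨hTc, hTr⟩ := hpt T hTm hTA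
  have hcl := line_closure hS hall hA hD hTm.1 hDA hTc hDT hTr
  have cfg := commCase_closes hS hall hD hA hTm.1 hDA hTc hDT
  have hAE : Cfsg.RootCommutatorCase S A ⁅D, T⁆ := cfg.comDC
  have hAEeq : ⁅A, ⁅D, T⁆⁆ = T := by rw [cfg.eqA]; exact hcl
  refine ⟨T, hTm, hTA, hDT, hAE, hAEeq, ?_⟩
  apply le_antisymm (sup_le le_sup_left hTm.2)
  apply sup_le le_sup_left
  -- `B ≤ A ⊔ T`
  have hpart' := isSubgroupPartition_sup_commutator hS hA hD hAD hAE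
  rw [hAEeq] at hpart'
  obtain ⟨Q, hQ, hQm⟩ := hpart'.2.1 b₁ hb₁m hb₁1
  obtain ⟨W, hW, hBW⟩ := hall B hBS
  have hBQ : B = Q := by
    by_contra hne
    have := rootSet_inf_eq_bot hS hW hBW hQ.1 hne
    have hmem : b₁ ∈ B ⊓ Q := Subgroup.mem_inf.mpr ⟨hb₁, hQm⟩
    rw [this, Subgroup.mem_bot] at hmem
    exact hb₁1 hmem
  rw [hBQ]
  exact hQ.2

end Gen

end Cfsg.Agent.Lib.Helper8
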