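import Mathlib
import Cfsg.Prelude.Def_RootSubgroups
import Cfsg.Agent.Lib.Helper8.RG9

/-!
# Generation of a non-degenerate class by the line partners of `A` and a rank one partner, II
-/

set_option autoImplicit false

namespace Cfsg.Agent.Lib.Helper8

variable {G : Type*} [Group G]

open scoped commutatorElement

section Gen

variable {S : Set (Subgroup G)}

/-- Every line partner of `A` is conjugate to `A` under `⟨Λ_A, B⟩`. -/
theorem exists_conj_of_linePartner (hS : Cfsg.IsRootSubgroupSet S)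
    (hall : ∀ X ∈ S, ∃ D ∈ S, Cfsg.IsRankOnePair X D) {A B C : Subgroup G}
    (hA : A ∈ S) (hB : B ∈ S) (hAB : Cfsg.IsRankOnePair A B)
    (hC : C ∈ Cfsg.linePartners S A) :
    ∃ r ∈ (⨆ X ∈ Cfsg.linePartners S A, X) ⊔ B, C = Cfsg.conjBy A r := by
  set R := (⨆ X ∈ Cfsg.linePartners S A, X) ⊔ B with hR
  have hΛR : ∀ X ∈ Cfsg.linePartners S A, X ≤ R := fun X hX =>
    le_trans (le_iSup₂_of_le X hX le_rfl) le_sup_left
  have hBR : B ≤ R := le_sup_right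
  obtain ⟨T, hTm, hTA, hBT, hAE, hAEeq, hN⟩ := exists_commutator_point hS hall hA hB hAB hC
  have hTΛ : T ∈ Cfsg.linePartners S A := mem_linePartners_of_line hS hA hC hTm hTA hN
  have hER : ⁅B, T⁆ ≤ R := le_trans commutator_le_sup' (sup_le hBR (hΛR T hTΛ))
  have hPi := membersIn_sup_commutator hS hA hB hAB hAE
  rw [hAEeq] at hPi
  have hCm : C ∈ Cfsg.membersIn S (A ⊔ T) := by
    rw [hN]; exact ⟨hC.1.1, le_sup_right⟩
  have hCm' := hCm
  rw [hPi] at hCm'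
  rcases hCm' with ⟨e, he, hEq⟩ | hCT
  · exact ⟨e, hER he, hEq.symm⟩
  rw [Set.mem_singleton_iff] at hCT
  -- the case `C = T`
  obtain ⟨W, hW, hTW⟩ := hall T hTm.1
  have hAΛ : A ∈ Cfsg.linePartners S T := linePartners_symm hA hTΛ
  obtain ⟨P, hPm, hPT, hWP, hTE, hTEeq, hN'⟩ :=
    exists_commutator_point hS hall hTm.1 hW hTW hAΛ
  have hPm' : P ∈ Cfsg.membersIn S (A ⊔ T) := by rw [sup_comm]; exact hPm
  rw [hPi] at hPm'
  rcases hPm' with ⟨e, he, hEq⟩ | hPT'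
  swap
  · rw [Set.mem_singleton_iff] at hPT'; exact absurd hPT' hPT
  have hEq' : Cfsg.conjBy A e = P := hEq
  -- `E'' = ⁅W, P⁆ ≤ R`
  have hE''R : ⁅W, P⁆ ≤ R := by
    obtain ⟨DP, hDP, hPDP⟩ := hall P hPm.1
    have h1 : ⁅P, W⁆ ∈ Cfsg.linePartners S P :=
      commutator_mem_linePartners hS hPm.1 hDP hPDP (commCase_symm hWP)
    rw [Subgroup.commutator_comm] at h1
    have h2 := linePartners_conjBy hS e⁻¹ h1
    have hPe : Cfsg.conjBy P e⁻¹ = A := by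
      rw [← hEq', conjBy_conjBy, inv_mul_cancel, conjBy_one]
    rw [hPe] at h2
    have h3 := conjBy_le_of_mem (hΛR _ h2) (hER he)
    rwa [conjBy_conjBy, mul_inv_cancel, conjBy_one] at h3
  obtain ⟨e'', he'', he''1⟩ := RootPreConfig.exists_ne_one hS hWP.1
  have hne : Cfsg.conjBy T e'' ≠ T := commCase_conjBy_ne hS hTm.1 hW hTW hTE he'' he''1
  have hmem : Cfsg.conjBy T e'' ∈ Cfsg.membersIn S (A ⊔ T) := by
    refine ⟨hS.conj_mem T hTm.1 e'', ?_⟩
    have h1 : Cfsg.conjBy T e'' ≤ T ⊔ ⁅T, ⁅W, P⁆⁆ := conjBy_le_sup_commutator he''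
    rw [hTEeq, hN', sup_comm] at h1
    exact h1
  rw [hPi] at hmem
  rcases hmem with ⟨e₂, he₂, hEq₂⟩ | hmemT
  swap
  · rw [Set.mem_singleton_iff] at hmemT; exact absurd hmemT hne
  have hEq₂' : Cfsg.conjBy A e₂ = Cfsg.conjBy T e'' := hEq₂
  refine ⟨e''⁻¹ * e₂, R.mul_mem (R.inv_mem (hE''R he'')) (hER he₂), ?_⟩
  rw [hCT, ← conjBy_conjBy, hEq₂', conjBy_conjBy, inv_mul_cancel, conjBy_one]

/-- In a non-degenerate class, `A` lies in the group generated by its line partners. -/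
theorem le_iSup_linePartners (hS : Cfsg.IsRootSubgroupClass S)
    (hall : ∀ X ∈ S, ∃ D ∈ S, Cfsg.IsRankOnePair X D)
    (hc : ∃ P ∈ S, ∃ Q ∈ S, Cfsg.RootCommutatorCase S P Q) {A : Subgroup G} (hA : A ∈ S) :
    A ≤ ⨆ X ∈ Cfsg.linePartners S A, X := by
  obtain ⟨P₀, hP₀, Q₀, hQ₀, h0⟩ := hc
  obtain ⟨g, hg⟩ := hS.2.2 _ h0.1 A hA
  have hPQ := commCase_conjBy hS.1 h0 g
  have hEq : ⁅Cfsg.conjBy P₀ g, Cfsg.conjBy Q₀ g⁆ = A := by
    rw [← conjBy_commutator]; exact hg.symm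
  have hP := hS.1.conj_mem P₀ hP₀ g
  have hQ := hS.1.conj_mem Q₀ hQ₀ g
  obtain ⟨DP, hDP, hPDP⟩ := hall _ hP
  obtain ⟨DQ, hDQ, hQDQ⟩ := hall _ hQ
  have h1 := commutator_mem_linePartners hS.1 hP hDP hPDP hPQ
  have h2 := commutator_mem_linePartners hS.1 hQ hDQ hQDQ (commCase_symm hPQ)
  rw [Subgroup.commutator_comm] at h2
  rw [hEq] at h1 h2
  have hPΛ := linePartners_symm hP h1
  have hQΛ := linePartners_symm hQ h2
  calc A = ⁅Cfsg.conjBy P₀ g, Cfsg.conjBy Q₀ g⁆ := hEq.symm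
    _ ≤ Cfsg.conjBy P₀ g ⊔ Cfsg.conjBy Q₀ g := commutator_le_sup'
    _ ≤ _ := sup_le (le_iSup₂_of_le _ hPΛ le_rfl) (le_iSup₂_of_le _ hQΛ le_rfl)

theorem generated_by_linePartners (hS : Cfsg.IsRootSubgroupClass S)
    (hnd : Cfsg.IsNondegenerateRootSet S) {A B : Subgroup G} (hA : A ∈ S) (hB : B ∈ S)
    (hAB : Cfsg.IsRankOnePair A B) :
    (⨆ C ∈ Cfsg.linePartners S A, C) ⊔ B = ⊤ := by
  have hE := eConnected_of_nondegenerate hS hnd
  have hall := exists_rankOnePartner_of_class hS hA hB hAB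
  set R := (⨆ X ∈ Cfsg.linePartners S A, X) ⊔ B with hR
  have hAR : A ≤ R := le_trans (le_iSup_linePartners hS hall hnd.2.2 hA) le_sup_left
  have key : ∀ X Y : Subgroup G, Relation.ReflTransGen (Cfsg.EAdj S S) X Y →
      (∃ r ∈ R, X = Cfsg.conjBy A r) → ∃ r ∈ R, Y = Cfsg.conjBy A r := by
    intro X Y h
    induction h with
    | refl => exact id
    | tail _ hbc ih =>
      intro hX
      obtain ⟨r, hr, hEq⟩ := ih hX
      obtain ⟨_, _, hYΛ⟩ := hbc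
      have h1 := linePartners_conjBy hS.1 r⁻¹ hYΛ
      rw [hEq, conjBy_conjBy, inv_mul_cancel, conjBy_one] at h1
      obtain ⟨r', hr', hEq'⟩ := exists_conj_of_linePartner hS.1 hall hA hB hAB h1
      refine ⟨r * r', R.mul_mem hr hr', ?_⟩
      rw [← conjBy_conjBy, ← hEq', conjBy_conjBy, mul_inv_cancel, conjBy_one]
  rw [eq_top_iff, ← hS.1.generates]
  apply iSup₂_le
  intro X hX
  obtain ⟨r, hr, hEq⟩ := key A X (hE A hA X hX) ⟨1, R.one_mem, (conjBy_one A).symm⟩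
  rw [hEq]
  exact conjBy_le_of_mem hAR hr

end Gen

end Cfsg.Agent.Lib.Helper8
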