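import Mathlib
import Cfsg.Prelude.Def_RootSubgroups
import Cfsg.Agent.Lib.Helper8.RG10

/-!
# Weak TI-subsets of non-degenerate classes are abelian
-/

set_option autoImplicit false

namespace Cfsg.Agent.Lib.Helper8

variable {G : Type*} [Group G]

open scoped commutatorElement

section TI

variable {S : Set (Subgroup G)}

/-- Every pair in the commutator case extends to a natural module configuration. -/
theorem exists_config_of_commCase (hS : Cfsg.IsRootSubgroupSet S)
    (hall : ∀ X ∈ S, ∃ D ∈ S, Cfsg.IsRankOnePair X D) {A B : Subgroup G}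
    (hA : A ∈ S) (hB : B ∈ S) (h : Cfsg.RootCommutatorCase S A B) :
    ∃ E ∈ S, RootPreConfig S A B ⁅A, B⁆ E := by
  obtain ⟨DA, hDA, hADA⟩ := hall A hA
  obtain ⟨D₁, hD₁, hCD₁⟩ := hall _ h.1
  have hCΛ : ⁅A, B⁆ ∈ Cfsg.linePartners S A := commutator_mem_linePartners hS hA hDA hADA h
  have hAΛ : A ∈ Cfsg.linePartners S ⁅A, B⁆ := linePartners_symm hA hCΛ
  obtain ⟨T, hTm, hTC, hD₁T, hCE, hCEeq, hN⟩ :=
    exists_commutator_point hS hall h.1 hD₁ hCD₁ hAΛ
  have hPi := membersIn_sup_commutator hS hA hDA hADA h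
  have hTm' : T ∈ Cfsg.membersIn S (A ⊔ ⁅A, B⁆) := by rw [sup_comm]; exact hTm
  rw [hPi] at hTm'
  rcases hTm' with ⟨b, hb, hEq⟩ | hTC'
  swap
  · rw [Set.mem_singleton_iff] at hTC'; exact absurd hTC' hTC
  have hEq' : Cfsg.conjBy A b = T := hEq
  have hCb : Cfsg.conjBy ⁅A, B⁆ b⁻¹ = ⁅A, B⁆ := commCase_conjBy_commutator h (B.inv_mem hb)
  have hcc := commCase_conjBy hS hCE b⁻¹
  rw [hCb] at hcc
  have hEqA : ⁅⁅A, B⁆, Cfsg.conjBy ⁅D₁, T⁆ b⁻¹⁆ = A := by
    have h1 := conjBy_commutator ⁅A, B⁆ ⁅D₁, T⁆ b⁻¹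
    have hTb : Cfsg.conjBy T b⁻¹ = A := by
      rw [← hEq', conjBy_conjBy, inv_mul_cancel, conjBy_one]
    rw [hCb, hCEeq, hTb] at h1
    exact h1.symm
  refine ⟨Cfsg.conjBy ⁅D₁, T⁆ b⁻¹, hS.conj_mem _ hD₁T.1 _, ?_⟩
  exact
    { hS := hS
      hA := hA
      hB := hB
      hC := h.1
      hD := hS.conj_mem _ hD₁T.1 _
      comAB := h
      eqC := rfl
      comDC := commCase_symm hcc
      eqA := by rw [Subgroup.commutator_comm]; exact hEqA }

/-- The setwise stabilizer of a family of subgroups under conjugation. -/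
def familyStabilizer (Δ : Set (Subgroup G)) : Subgroup G where
  carrier := {g | (fun X => Cfsg.conjBy X g) '' Δ = Δ}
  one_mem' := by
    show (fun X => Cfsg.conjBy X (1 : G)) '' Δ = Δ
    have : (fun X : Subgroup G => Cfsg.conjBy X (1 : G)) = id := by
      funext X; exact conjBy_one X
    rw [this, Set.image_id]
  mul_mem' := by
    intro g h hg hh
    show (fun X => Cfsg.conjBy X (g * h)) '' Δ = Δ
    have : (fun X : Subgroup G => Cfsg.conjBy X (g * h)) =
        (fun X => Cfsg.conjBy X g) ∘ (fun X => Cfsg.conjBy X h) := by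
      funext X; exact (conjBy_conjBy X h g).symm
    rw [this, Set.image_comp]
    have hh' : (fun X => Cfsg.conjBy X h) '' Δ = Δ := hh
    rw [hh']
    exact hg
  inv_mem' := by
    intro g hg
    show (fun X => Cfsg.conjBy X g⁻¹) '' Δ = Δ
    have hg' : (fun X => Cfsg.conjBy X g) '' Δ = Δ := hg
    conv_lhs => rw [← hg']
    rw [← Set.image_comp]
    have : ((fun X : Subgroup G => Cfsg.conjBy X g⁻¹) ∘ (fun X => Cfsg.conjBy X g)) = id := by
      funext X
      show Cfsg.conjBy (Cfsg.conjBy X g) g⁻¹ = X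
      rw [conjBy_conjBy, inv_mul_cancel, conjBy_one]
    rw [this, Set.image_id]

theorem mem_familyStabilizer {Δ : Set (Subgroup G)} {g : G} :
    g ∈ familyStabilizer Δ ↔ (fun X => Cfsg.conjBy X g) '' Δ = Δ := Iff.rfl

/-- A member of `S` normalizing a member of a weak TI-subset stabilizes the subset. -/
theorem le_familyStabilizer_of_normalizes {Δ : Set (Subgroup G)} (hΔ : Cfsg.IsWeakTISubset S Δ)
    {X Y : Subgroup G} (hX : X ∈ Δ) (hY : Y ∈ S)
    (hYX : ∀ y ∈ Y, Cfsg.conjBy X y = X) : Y ≤ familyStabilizer Δ := by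
  intro y hy
  by_cases hy1 : y = 1
  · rw [hy1]; exact (familyStabilizer Δ).one_mem
  have hroot : y ∈ Cfsg.rootElements S := ⟨hy1, Y, hY, hy⟩
  rcases hΔ.2.2.2 y hroot with h1 | h2
  · exact h1
  · exfalso
    have hmem : X ∈ (fun A => Cfsg.conjBy A y) '' Δ := ⟨X, hX, hYX y hy⟩
    exact Set.disjoint_left.mp h2 hmem hX

theorem le_familyStabilizer_of_commute {Δ : Set (Subgroup G)} (hΔ : Cfsg.IsWeakTISubset S Δ)
    {X Y : Subgroup G} (hX : X ∈ Δ) (hY : Y ∈ S)
    (hYX : ∀ y ∈ Y, ∀ x ∈ X, y * x = x * y) : Y ≤ familyStabilizer Δ := by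
  apply le_familyStabilizer_of_normalizes hΔ hX hY
  intro y hy
  apply conjBy_eq_self_iff.mpr
  apply Subgroup.centralizer_le_normalizer
  rw [Subgroup.mem_centralizer_iff]
  intro x hx
  exact (hYX y hy x hx).symm

theorem weakTI_abelian (hS : Cfsg.IsRootSubgroupClass S) (hnd : Cfsg.IsNondegenerateRootSet S)
    {Δ : Set (Subgroup G)} (hΔ : Cfsg.IsWeakTISubset S Δ) : Cfsg.IsAbelianFamily Δ := by
  obtain ⟨A₀, hA₀, B₀, hB₀, hAB₀⟩ := hnd.2.1
  have hall := exists_rankOnePartner_of_class hS hA₀ hB₀ hAB₀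
  -- the stabilizer is not everything
  have hM : familyStabilizer Δ ≠ ⊤ := by
    intro htop
    apply hΔ.2.2.1
    apply Set.Subset.antisymm hΔ.1
    intro Y hY
    obtain ⟨A, hA, -⟩ := hΔ.2.1
    obtain ⟨g, hg⟩ := hS.2.2 A (hΔ.1 hA) Y hY
    have hgM : g ∈ familyStabilizer Δ := by rw [htop]; exact Subgroup.mem_top g
    rw [mem_familyStabilizer] at hgM
    rw [← hgM]
    exact ⟨A, hA, hg.symm⟩
  -- members of `Λ_A` stabilize `Δ` for `A ∈ Δ`
  have hΛ : ∀ A ∈ Δ, (⨆ C ∈ Cfsg.linePartners S A, C) ≤ familyStabilizer Δ := by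
    intro A hA
    apply iSup₂_le
    intro C hC
    apply le_familyStabilizer_of_commute hΔ hA hC.1.1
    intro c hc a ha
    exact (comm_of_commutator_eq_bot hC.1.2.2 ha hc).symm
  have hself : ∀ A ∈ Δ, A ≤ familyStabilizer Δ := by
    intro A hA
    apply le_familyStabilizer_of_normalizes hΔ hA (hΔ.1 hA)
    intro y hy
    exact conjBy_eq_self_of_mem hy
  intro A hA B hB a ha b hb
  have hAS := hΔ.1 hA
  have hBS := hΔ.1 hB
  rcases hS.1.pair A hAS B hBS with h1 | h2 | h3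
  · exact comm_of_commutator_eq_bot h1 ha hb
  · exfalso
    apply hM
    rw [eq_top_iff, ← generated_by_linePartners hS hnd hAS hBS h2]
    exact sup_le (hΛ A hA) (hself B hB)
  · exfalso
    obtain ⟨E, hE, cfg⟩ := exists_config_of_commCase hS.1 hall hAS hBS h3
    apply hM
    rw [eq_top_iff, ← generated_by_linePartners hS hnd hBS hE cfg.rankOne]
    refine sup_le (hΛ B hB) ?_
    apply le_familyStabilizer_of_commute hΔ hA hE
    intro e he x hx
    exact (cfg.comm_AD hx he).symm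

end TI

end Cfsg.Agent.Lib.Helper8
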