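import Mathlib
import Cfsg.Prelude.Def_RootSubgroups
import Cfsg.Prelude.Def_QuasithinSetup
import Cfsg.Agent.Lib.Helper7.RootInv1
import Cfsg.Agent.Lib.Helper9.PCore

set_option autoImplicit false

/-!
# Root involutions with connected odd-product graph and `D ∩ D² ≠ ∅`:
proper normal subgroups lie in `Z*(G)`
-/

namespace Cfsg.Agent.Lib.Helper8.RIS1

open Cfsg Relation Cfsg.Agent.Lib.Helper7.RootInv

variable {G : Type*} [Group G] {D : Set G}

/-- two involutions with product of odd order are conjugate -/
theorem conj_of_odd {a b : G} (ha : a * a = 1) (hb : b * b = 1) (hodd : Odd (orderOf (a * b))) :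
    ∃ g : G, b = g * a * g⁻¹ := by
  obtain ⟨i, hi⟩ := hodd
  have hai : a⁻¹ = a := inv_eq_of_mul_eq_one_right ha
  have hbi : b⁻¹ = b := inv_eq_of_mul_eq_one_right hb
  refine ⟨(a * b) ^ i, ?_⟩
  have h1 : (a * b) ^ i * a = a * (b * a) ^ i := by
    have : a⁻¹ * (a * b) ^ i * a = (b * a) ^ i := by
      have h := map_pow (MulAut.conj a⁻¹) (a * b) i
      simp only [MulAut.conj_apply, inv_inv] at h
      rw [h]
      congr 1
      group
    rw [← this]; group
  have h2 : ((a * b) ^ i)⁻¹ = (b * a) ^ i := by
    rw [← inv_pow]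
    congr 1
    rw [mul_inv_rev, hai, hbi]
  have h3 : (b * a) ^ (2 * i + 1) = 1 := by
    rw [← hi, orderOf_mul_swap a b]
    exact pow_orderOf_eq_one _
  rw [h1, h2, mul_assoc, ← pow_add]
  have h4 : (b * a) ^ (i + i) = (b * a)⁻¹ := by
    rw [eq_inv_iff_mul_eq_one, ← pow_succ, ← two_mul]
    exact h3
  rw [h4, mul_inv_rev, hai, hbi, ← mul_assoc, ha, one_mul]

theorem conj_of_reach (hD : IsRootInvolutionSet D) {a b : G}
    (h : ReflTransGen (OddAdj D) a b) : ∃ g : G, b = g * a * g⁻¹ := by
  induction h with
  | refl => exact ⟨1, by simp⟩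
  | tail _ hbc ih =>
    obtain ⟨g, rfl⟩ := ih
    obtain ⟨k, hk⟩ := conj_of_odd (sq_one hD hbc.1) (sq_one hD hbc.2.1) hbc.2.2.2
    exact ⟨k * g, by rw [hk]; group⟩

theorem conj_of_conn (hD : IsRootInvolutionSet D) (hc : IsConnectedSet (OddAdj D) D)
    {a b : G} (ha : a ∈ D) (hb : b ∈ D) : ∃ g : G, b = g * a * g⁻¹ :=
  conj_of_reach hD (hc a ha b hb)

/-- a proper normal subgroup contains no member of `D` -/
theorem not_mem_of_ne_top (hD : IsRootInvolutionSet D) (hc : IsConnectedSet (OddAdj D) D)
    (M : Subgroup G) [M.Normal] (hM : M ≠ ⊤) {d : G} (hd : d ∈ D) : d ∉ M := by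
  intro hdM
  apply hM
  rw [eq_top_iff, ← hD.generates, Subgroup.closure_le]
  intro e he
  obtain ⟨g, rfl⟩ := conj_of_conn hD hc hd he
  exact Subgroup.Normal.conj_mem inferInstance d hdM g

/-- the key pair analysis: `a` commutes with its conjugates under a normal subgroup
missing `D` -/
theorem sq_conj_eq_one (hD : IsRootInvolutionSet D) {a b : G} (ha : a ∈ D) (hb : b ∈ D)
    (hab : a * b = b * a) (habD : a * b ∈ D) (M : Subgroup G) [hMn : M.Normal]
    (hDM : ∀ d ∈ D, d ∉ M) {m : G} (hm : m ∈ M) :
    (a * (m * a * m⁻¹)) * (a * (m * a * m⁻¹)) = 1 := by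
  have haa := sq_one hD ha
  have hbb := sq_one hD hb
  have hai := inv_self hD ha
  set c := m * a * m⁻¹ with hc
  have hcD : c ∈ D := hD.conj_mem a ha m
  have hcc := sq_one hD hcD
  have hacM : a * c ∈ M := by
    have h1 : a * c = (a * m * a⁻¹) * m⁻¹ := by rw [hc, hai]; group
    rw [h1]
    exact M.mul_mem (hMn.conj_mem m hm a) (M.inv_mem hm)
  -- the quotient map
  let π := QuotientGroup.mk' M
  have hπm : π m = 1 := (QuotientGroup.eq_one_iff m).mpr hm
  have hπc : π c = π a := by
    rw [hc, map_mul, map_mul, map_inv, hπm]; simp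
  have hπ_of : ∀ x : G, π x = 1 → x ∈ M := fun x hx => (QuotientGroup.eq_one_iff x).mp hx
  have hbaD : b * a ∈ D := hab ▸ habD
  have hba2 : (b * a) * (b * a) = 1 := sq_one hD hbaD
  rcases hD.pair a ha c hcD with h | h | h
  · calc a * c * (a * c) = a * (c * a) * c := by group
      _ = a * (a * c) * c := by rw [h]
      _ = (a * a) * (c * c) := by group
      _ = 1 := by rw [haa, hcc, one_mul]
  · -- odd order
    by_cases hk1 : orderOf (a * c) = 1
    · rw [orderOf_eq_one_iff] at hk1
      rw [hk1, one_mul]
    exfalso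
    rcases hD.pair b hb c hcD with h' | h' | h'
    · -- b commutes with c, hence with a * c
      have hcomm : Commute b (a * c) := by
        show b * (a * c) = a * c * b
        calc b * (a * c) = (b * a) * c := by group
          _ = (a * b) * c := by rw [hab]
          _ = a * (b * c) := by group
          _ = a * (c * b) := by rw [h']
          _ = a * c * b := by group
      have hcop : Nat.Coprime (orderOf b) (orderOf (a * c)) := by
        rw [hD.orderOf_eq b hb]
        exact (Nat.coprime_two_left).mpr h
      have hord : orderOf (b * (a * c)) = 2 * orderOf (a * c) := by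
        rw [hcomm.orderOf_mul_eq_mul_orderOf_of_coprime hcop, hD.orderOf_eq b hb]
      have heq : a * b * c = b * (a * c) := by rw [hab]; group
      rcases hD.pair (a * b) habD c hcD with h'' | h'' | h''
      · have : (a * b * c) ^ 2 = 1 := by
          rw [pow_two]
          calc a * b * c * (a * b * c) = a * b * (c * (a * b)) * c := by group
            _ = a * b * (a * b * c) * c := by rw [h'']
            _ = (a * b * (a * b)) * (c * c) := by group
            _ = 1 := by rw [sq_one hD habD, hcc, one_mul]
        have hdvd := orderOf_dvd_of_pow_eq_one this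
        rw [heq, hord] at hdvd
        have : orderOf (a * c) ∣ 1 := by
          have h2 : 2 * orderOf (a * c) ∣ 2 * 1 := by simpa using hdvd
          exact Nat.dvd_of_mul_dvd_mul_left (by norm_num : 0 < 2) h2
        exact hk1 (Nat.dvd_one.mp this)
      · rw [heq, hord] at h''
        exact (Nat.not_odd_iff_even.mpr (even_two_mul _)) h''
      · rw [heq, hord] at h''
        have : orderOf (a * c) = 2 := by omega
        rw [this] at h
        exact absurd h (by decide)
    · -- odd order of b * c: then b * a ∈ M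
      obtain ⟨j, hj⟩ := h'
      have h1 : π (b * a) ^ (2 * j + 1) = 1 := by
        have : π (b * a) = π (b * c) := by rw [map_mul, map_mul, hπc]
        rw [this, ← map_pow, ← hj, pow_orderOf_eq_one, map_one]
      have h2 : π (b * a) ^ 2 = 1 := by
        rw [← map_pow, pow_two, hba2, map_one]
      have h3 : π (b * a) = 1 := by
        rw [pow_succ, pow_mul, h2, one_pow, one_mul] at h1
        exact h1
      exact hDM _ hbaD (hπ_of _ h3)
    · -- order 4 and square in D: the square lies in M
      have h1 : π ((b * c) ^ 2) = 1 := by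
        rw [map_pow, map_mul, hπc, ← map_mul, ← map_pow, pow_two, hba2, map_one]
      exact hDM _ h'.2 (hπ_of _ h1)
  · exact absurd (M.pow_mem hacM 2) (hDM _ h.2)

end Cfsg.Agent.Lib.Helper8.RIS1
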