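import Mathlib
import Cfsg.Prelude.Def_RootSubgroups
import Cfsg.Prelude.Def_QuasithinSetup
import Cfsg.Agent.Lib.Helper7.RootInv1
import Cfsg.Agent.Lib.Helper9.PCore
import Cfsg.Agent.Lib.Helper8.RIS1

set_option autoImplicit false

/-!
# An involution commuting with its conjugates under a normal subgroup `M`
has `[a, M] ≤ O_2(G)`
-/

namespace Cfsg.Agent.Lib.Helper8.RIS2

open Cfsg Relation Cfsg.Agent.Lib.Helper7.RootInv

variable {G : Type*} [Group G]

/-- `O_2(M)` of a normal subgroup lies in `O_2(G)` -/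
theorem pCoreMap_le_pCore [Finite G] (M : Subgroup G) [hMn : M.Normal] :
    (Cfsg.pCore 2 ↥M).map M.subtype ≤ Cfsg.pCore 2 G := by
  have : Fact (Nat.Prime 2) := ⟨Nat.prime_two⟩
  apply Cfsg.Agent.Lib.Helper9.le_pCore
  · constructor
    intro x hx g
    obtain ⟨y, hy, rfl⟩ := hx
    refine ⟨MulAut.conjNormal g y, ?_, ?_⟩
    · have hle : (Cfsg.pCore 2 ↥M).map (MulAut.conjNormal g : ↥M ≃* ↥M).toMonoidHom ≤
          Cfsg.pCore 2 ↥M := by
        apply Cfsg.Agent.Lib.Helper9.le_pCore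
        · exact Subgroup.Normal.map (Cfsg.Agent.Lib.Helper9.pCore_normal' 2) _
            (MulAut.conjNormal g : ↥M ≃* ↥M).surjective
        · exact IsPGroup.map (Cfsg.Agent.Lib.Helper9.pCore_isPGroup' 2) _
      exact hle ⟨y, hy, rfl⟩
    · simp [MulAut.conjNormal_apply]
  · exact IsPGroup.map (Cfsg.Agent.Lib.Helper9.pCore_isPGroup' 2) _

theorem comm_mem_pCore [Finite G] (M : Subgroup G) [hMn : M.Normal] {a : G} (haa : a * a = 1)
    (h : ∀ m ∈ M, (a * (m * a * m⁻¹)) * (a * (m * a * m⁻¹)) = 1) :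
    ∀ m ∈ M, a * m * a⁻¹ * m⁻¹ ∈ Cfsg.pCore 2 G := by
  have hai : a⁻¹ = a := inv_eq_of_mul_eq_one_right haa
  set S : Set G := {x | ∃ m ∈ M, x = m * a * m⁻¹} with hS
  have hSsq : ∀ x ∈ S, x * x = 1 := by
    rintro x ⟨m, -, rfl⟩
    calc m * a * m⁻¹ * (m * a * m⁻¹) = m * (a * a) * m⁻¹ := by group
      _ = 1 := by rw [haa]; group
  have hcomm0 : ∀ m ∈ M, a * (m * a * m⁻¹) = (m * a * m⁻¹) * a := by
    intro m hm
    have h1 := h m hm
    have hc : (m * a * m⁻¹) * (m * a * m⁻¹) = 1 := hSsq _ ⟨m, hm, rfl⟩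
    set c := m * a * m⁻¹
    calc a * c = (c * c) * (a * c) * (a * a) := by rw [hc, haa]; group
      _ = c * (c * a) * (c * a) * a := by group
      _ = c * ((c * a) * (c * a)) * a := by group
      _ = c * a := by
        have h2 : (c * a) * (c * a) = 1 := by
          calc (c * a) * (c * a) = a⁻¹ * ((a * c) * (a * c)) * a := by group
            _ = 1 := by rw [h1]; group
        rw [h2, mul_one]
  have hScomm : ∀ x ∈ S, ∀ y ∈ S, x * y = y * x := by
    rintro x ⟨m, hm, rfl⟩ y ⟨m', hm', rfl⟩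
    have h1 := hcomm0 (m⁻¹ * m') (M.mul_mem (M.inv_mem hm) hm')
    calc m * a * m⁻¹ * (m' * a * m'⁻¹)
        = m * (a * ((m⁻¹ * m') * a * (m⁻¹ * m')⁻¹)) * m⁻¹ := by group
      _ = m * (((m⁻¹ * m') * a * (m⁻¹ * m')⁻¹) * a) * m⁻¹ := by rw [h1]
      _ = m' * a * m'⁻¹ * (m * a * m⁻¹) := by group
  set K := Subgroup.closure S with hK
  have hKcomm : ∀ x ∈ K, ∀ y ∈ K, x * y = y * x := by
    have h1 : ∀ x ∈ S, ∀ y ∈ K, x * y = y * x := by
      intro x hx y hy
      induction hy using Subgroup.closure_induction with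
      | mem y hy => exact hScomm x hx y hy
      | one => simp
      | mul y z _ _ ihy ihz => rw [← mul_assoc, ihy, mul_assoc, ihz, mul_assoc]
      | inv y _ ih =>
        calc x * y⁻¹ = y⁻¹ * (y * x) * y⁻¹ := by group
          _ = y⁻¹ * (x * y) * y⁻¹ := by rw [ih]
          _ = y⁻¹ * x := by group
    intro x hx y hy
    induction hx using Subgroup.closure_induction with
    | mem x hx => exact h1 x hx y hy
    | one => simp
    | mul x z _ _ ihx ihz => rw [mul_assoc, ihz, ← mul_assoc, ihx, mul_assoc]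
    | inv x _ ih =>
      calc x⁻¹ * y = x⁻¹ * (y * x) * x⁻¹ := by group
        _ = x⁻¹ * (x * y) * x⁻¹ := by rw [ih]
        _ = y * x⁻¹ := by group
  have hKsq : ∀ x ∈ K, x * x = 1 := by
    intro x hx
    induction hx using Subgroup.closure_induction with
    | mem x hx => exact hSsq x hx
    | one => simp
    | mul x y hx hy ihx ihy =>
      calc x * y * (x * y) = x * (y * x) * y := by group
        _ = x * (x * y) * y := by rw [hKcomm y hy x hx]
        _ = (x * x) * (y * y) := by group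
        _ = 1 := by rw [ihx, ihy, one_mul]
    | inv x _ ih =>
      calc x⁻¹ * x⁻¹ = (x * x)⁻¹ := by group
        _ = 1 := by rw [ih, inv_one]
  have hKconj : ∀ m ∈ M, ∀ x ∈ K, m * x * m⁻¹ ∈ K := by
    intro m hm x hx
    induction hx using Subgroup.closure_induction with
    | mem x hx =>
      obtain ⟨m', hm', rfl⟩ := hx
      apply Subgroup.subset_closure
      exact ⟨m * m', M.mul_mem hm hm', by group⟩
    | one => simp
    | mul x y _ _ ihx ihy =>
      have : m * (x * y) * m⁻¹ = (m * x * m⁻¹) * (m * y * m⁻¹) := by group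
      rw [this]; exact K.mul_mem ihx ihy
    | inv x _ ih =>
      have : m * x⁻¹ * m⁻¹ = (m * x * m⁻¹)⁻¹ := by group
      rw [this]; exact K.inv_mem ih
  -- the normal 2-subgroup K ⊓ M of M
  have hnorm : ((K ⊓ M).subgroupOf M).Normal := by
    constructor
    intro x hx m
    rw [Subgroup.mem_subgroupOf] at hx ⊢
    refine ⟨?_, ?_⟩
    · have := hKconj m.1 m.2 x.1 hx.1
      simpa using this
    · exact (m * x * m⁻¹).2
  have hp : IsPGroup 2 ((K ⊓ M).subgroupOf M) := by
    intro x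
    refine ⟨1, ?_⟩
    have hx : (x.1 : G) ∈ K := (Subgroup.mem_subgroupOf.mp x.2).1
    have h2 := hKsq _ hx
    apply Subtype.ext
    apply Subtype.ext
    simp only [pow_one, pow_two, Subgroup.coe_mul, Subgroup.coe_one]
    exact h2
  have hle := Cfsg.Agent.Lib.Helper9.le_pCore hnorm hp
  intro m hm
  apply pCoreMap_le_pCore M
  have hmem : a * m * a⁻¹ * m⁻¹ ∈ M :=
    M.mul_mem (hMn.conj_mem m hm a) (M.inv_mem hm)
  refine ⟨⟨a * m * a⁻¹ * m⁻¹, hmem⟩, hle ?_, rfl⟩
  rw [Subgroup.mem_subgroupOf]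
  refine ⟨?_, hmem⟩
  show a * m * a⁻¹ * m⁻¹ ∈ K
  have h1 : a * m * a⁻¹ * m⁻¹ = a * (m * a * m⁻¹) := by rw [hai]; group
  rw [h1]
  refine K.mul_mem (Subgroup.subset_closure ⟨1, M.one_mem, by group⟩)
    (Subgroup.subset_closure ⟨m, hm, rfl⟩)

end Cfsg.Agent.Lib.Helper8.RIS2
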