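import Mathlib
import Cfsg.Prelude.Def_RootSubgroups
import Cfsg.Prelude.Def_QuasithinSetup
import Cfsg.Agent.Lib.Helper7.RootInv1
import Cfsg.Agent.Lib.Helper9.PCore
import Cfsg.Agent.Lib.Helper8.RIS1
import Cfsg.Agent.Lib.Helper8.RIS2

set_option autoImplicit false

/-!
# Root involutions, `F(D)` connected, `D ∩ D² ≠ ∅`: `S(G) = Z*(G)` and `G/Z*(G)` is simple
-/

namespace Cfsg.Agent.Lib.Helper8.RIS3

open Cfsg Relation Cfsg.Agent.Lib.Helper7.RootInv Cfsg.Agent.Lib.Helper8.RIS1
  Cfsg.Agent.Lib.Helper8.RIS2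
open scoped commutatorElement

variable {G : Type*} [Group G] {D : Set G}

/-- every member of `D` has a product partner -/
theorem exists_partner (hD : IsRootInvolutionSet D) (hc : IsConnectedSet (OddAdj D) D)
    (hDD : (D ∩ commutingProducts D).Nonempty) {d : G} (hd : d ∈ D) :
    ∃ e ∈ D, d * e = e * d ∧ d * e ∈ D := by
  obtain ⟨x, hxD, a, ha, b, hb, hab, -, rfl⟩ := hDD
  obtain ⟨g, rfl⟩ := conj_of_conn hD hc ha hd
  refine ⟨g * b * g⁻¹, hD.conj_mem b hb g, ?_, ?_⟩
  · calc g * a * g⁻¹ * (g * b * g⁻¹) = g * (a * b) * g⁻¹ := by group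
      _ = g * (b * a) * g⁻¹ := by rw [hab]
      _ = g * b * g⁻¹ * (g * a * g⁻¹) := by group
  · have : g * a * g⁻¹ * (g * b * g⁻¹) = g * (a * b) * g⁻¹ := by group
    rw [this]
    exact hD.conj_mem _ hxD g

/-- proper normal subgroups lie in `Z*(G)` -/
theorem le_twoZCore [Finite G] (hD : IsRootInvolutionSet D) (hc : IsConnectedSet (OddAdj D) D)
    (hDD : (D ∩ commutingProducts D).Nonempty) (M : Subgroup G) [hMn : M.Normal] (hM : M ≠ ⊤) :
    M ≤ twoZCore G := by
  have hDM : ∀ d ∈ D, d ∉ M := fun d hd => not_mem_of_ne_top hD hc M hM hd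
  have hcomm : ∀ d ∈ D, ∀ m ∈ M, d * m * d⁻¹ * m⁻¹ ∈ Cfsg.pCore 2 G := by
    intro d hd
    obtain ⟨e, he, hde, hdeD⟩ := exists_partner hD hc hDD hd
    exact comm_mem_pCore M (sq_one hD hd)
      (fun m hm => sq_conj_eq_one hD hd he hde hdeD M hDM hm)
  set Q := Cfsg.pCore 2 G with hQ
  let π := QuotientGroup.mk' Q
  -- the subgroup of elements whose image centralizes the image of M
  let C : Subgroup G := (Subgroup.centralizer ((M.map π : Subgroup (G ⧸ Q)) : Set (G ⧸ Q))).comap π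
  have hDC : D ⊆ (C : Set G) := by
    intro d hd
    show π d ∈ Subgroup.centralizer _
    rw [Subgroup.mem_centralizer_iff]
    rintro y ⟨m, hm, rfl⟩
    have h1 := hcomm d hd m hm
    have h2 : π (d * m * d⁻¹ * m⁻¹) = 1 := (QuotientGroup.eq_one_iff _).mpr h1
    have h3 : π d * π m * (π d)⁻¹ * (π m)⁻¹ = 1 := by
      rw [← map_inv, ← map_inv, ← map_mul, ← map_mul, ← map_mul]; exact h2
    calc π m * π d = (π d * π m * (π d)⁻¹ * (π m)⁻¹)⁻¹ * (π d * π m) := by group
      _ = π d * π m := by rw [h3]; group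
  have hCtop : C = ⊤ := by
    rw [eq_top_iff, ← hD.generates, Subgroup.closure_le]
    exact hDC
  intro x hx
  show π x ∈ Subgroup.center (G ⧸ Q)
  rw [Subgroup.mem_center_iff]
  intro y
  obtain ⟨g, rfl⟩ := QuotientGroup.mk'_surjective Q y
  have hg : g ∈ C := by rw [hCtop]; trivial
  have hg' : π g ∈ Subgroup.centralizer ((M.map π : Subgroup (G ⧸ Q)) : Set (G ⧸ Q)) := hg
  rw [Subgroup.mem_centralizer_iff] at hg'
  exact (hg' (π x) ⟨x, hx, rfl⟩).symm

/-- `G` is perfect -/
theorem commutator_eq_top (hD : IsRootInvolutionSet D) (hc : IsConnectedSet (OddAdj D) D)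
    (hDD : (D ∩ commutingProducts D).Nonempty) : commutator G = ⊤ := by
  by_contra hne
  obtain ⟨x, hxD, a, ha, b, hb, hab, -, rfl⟩ := hDD
  have hnot := not_mem_of_ne_top hD hc (commutator G) hne hxD
  apply hnot
  obtain ⟨g, rfl⟩ := conj_of_conn hD hc ha hb
  have hai := inv_self hD ha
  have : a * (g * a * g⁻¹) = ⁅a, g⁆ := by
    rw [commutatorElement_def, hai]; group
  rw [this]
  exact Subgroup.commutator_mem_commutator (Subgroup.mem_top a) (Subgroup.mem_top g)

theorem not_isSolvable (hD : IsRootInvolutionSet D) (hc : IsConnectedSet (OddAdj D) D)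
    (hDD : (D ∩ commutingProducts D).Nonempty) : ¬ Group.IsSolvable G := by
  intro hs
  obtain ⟨x, hxD, hx2⟩ := hDD
  have : Nontrivial G := ⟨⟨x, 1, ne_one_of_mem hD hxD⟩⟩
  have h := Group.IsSolvable.commutator_lt_top_of_nontrivial G
  rw [commutator_eq_top hD hc ⟨x, hxD, hx2⟩] at h
  exact lt_irrefl _ h

theorem twoZCore_isSolvable [Finite G] : Group.IsSolvable ↥(twoZCore G) := by
  have : Fact (Nat.Prime 2) := ⟨Nat.prime_two⟩
  set Q := Cfsg.pCore 2 G with hQ
  have hQle : Q ≤ twoZCore G := by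
    intro x hx
    show QuotientGroup.mk' Q x ∈ Subgroup.center (G ⧸ Q)
    have : QuotientGroup.mk' Q x = 1 := (QuotientGroup.eq_one_iff x).mpr hx
    rw [this]
    exact Subgroup.one_mem _
  have hQp : IsPGroup 2 ↥Q := Cfsg.Agent.Lib.Helper9.pCore_isPGroup' 2
  have hQs : Group.IsSolvable ↥Q := by
    have : Group.IsNilpotent ↥Q := hQp.isNilpotent
    infer_instance
  let f : ↥Q →* ↥(twoZCore G) := Subgroup.inclusion hQle
  let g : ↥(twoZCore G) →* ↥(Subgroup.center (G ⧸ Q)) :=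
    ((QuotientGroup.mk' Q).comp (twoZCore G).subtype).codRestrict _ (fun x => x.2)
  have hCs : Group.IsSolvable ↥(Subgroup.center (G ⧸ Q)) :=
    Group.isSolvable_of_comm (fun a b => Subtype.ext (b.2.comm a.1).symm)
  refine Group.isSolvable_of_ker_le_range f g ?_
  intro x hx
  rw [MonoidHom.mem_ker] at hx
  have h1 : QuotientGroup.mk' Q (x : G) = 1 := congrArg Subtype.val hx
  have h2 : (x : G) ∈ Q := (QuotientGroup.eq_one_iff _).mp h1
  exact ⟨⟨x, h2⟩, Subtype.ext rfl⟩

theorem main [Finite G] (hD : IsRootInvolutionSet D) (hc : IsConnectedSet (OddAdj D) D)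
    (hDD : (D ∩ commutingProducts D).Nonempty) :
    solvableRadical G = twoZCore G ∧ IsSimpleGroup (G ⧸ twoZCore G) := by
  have hns := not_isSolvable hD hc hDD
  have htop_ns : ∀ N : Subgroup G, Group.IsSolvable ↥N → N ≠ ⊤ := by
    intro N hN hNt
    subst hNt
    exact hns (Group.isSolvable_of_surjective (f := (Subgroup.topEquiv : (⊤ : Subgroup G) ≃* G).toMonoidHom)
      Subgroup.topEquiv.surjective)
  have hZs : Group.IsSolvable ↥(twoZCore G) := twoZCore_isSolvable
  have hZne : twoZCore G ≠ ⊤ := htop_ns _ hZs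
  refine ⟨le_antisymm ?_ ?_, ?_⟩
  · apply sSup_le
    rintro N ⟨hNn, hNs⟩
    have := hNn
    exact le_twoZCore hD hc hDD N (htop_ns N hNs)
  · exact le_sSup ⟨inferInstance, hZs⟩
  · have hnt : Nontrivial (G ⧸ twoZCore G) := QuotientGroup.nontrivial_iff.mpr hZne
    refine { exists_pair_ne := hnt.exists_pair_ne, eq_bot_or_eq_top_of_normal := ?_ }
    intro H hH
    set M := H.comap (QuotientGroup.mk' (twoZCore G)) with hM
    have hMn : M.Normal := Subgroup.Normal.comap hH _
    have hmap : M.map (QuotientGroup.mk' (twoZCore G)) = H :=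
      Subgroup.map_comap_eq_self_of_surjective (QuotientGroup.mk'_surjective _) H
    by_cases hMt : M = ⊤
    · right
      rw [← hmap, hMt, ← MonoidHom.range_eq_map]
      exact MonoidHom.range_eq_top.mpr (QuotientGroup.mk'_surjective _)
    · left
      have hle := le_twoZCore hD hc hDD M hMt
      rw [← hmap, eq_bot_iff]
      rintro y ⟨m, hm, rfl⟩
      rw [Subgroup.mem_bot]
      exact (QuotientGroup.eq_one_iff m).mpr (hle hm)

end Cfsg.Agent.Lib.Helper8.RIS3
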