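import Mathlib

set_option autoImplicit false

namespace Cfsg.Agent.Lib.Helper8.RK

open Matrix

theorem rank_fromBlocks_one_zero {F : Type*} [Field F] (r s : ℕ) :
    (fromBlocks (1 : Matrix (Fin r) (Fin r) F) (0 : Matrix (Fin r) (Fin s) F)
      (0 : Matrix (Fin s) (Fin r) F) (0 : Matrix (Fin s) (Fin s) F)).rank = r := by
  classical
  rw [← diagonal_one, ← diagonal_zero, fromBlocks_diagonal, rank_diagonal]
  rw [Fintype.card_subtype]
  have : (Finset.univ.filter fun i : Fin r ⊕ Fin s => Sum.elim (fun _ => (1 : F)) (fun _ => (0 : F)) i ≠ 0)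
      = Finset.univ.map ⟨Sum.inl, Sum.inl_injective⟩ := by
    ext i
    rcases i with i | i <;> simp
  rw [this, Finset.card_map, Finset.card_univ, Fintype.card_fin]

/-- The rank of a square matrix over a field is invariant under field extension. -/
theorem rank_map_eq {F K : Type*} [Field F] [Field K] (f : F →+* K) {m : Type*} [Fintype m]
    [DecidableEq m] (A : Matrix m m F) : (A.map f).rank = A.rank := by
  obtain ⟨V, U, e, hV, hU, h⟩ := exists_rank_normal_form A
  have hV' : IsUnit (V.map f) := by
    have := hV.map (RingHom.mapMatrix f : Matrix m m F →+* Matrix m m K)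
    simpa using this
  have hU' : IsUnit (U.map f) := by
    have := hU.map (RingHom.mapMatrix f : Matrix m m F →+* Matrix m m K)
    simpa using this
  have h2 : V.map f * A.map f * U.map f
      = (fromBlocks (1 : Matrix (Fin A.rank) (Fin A.rank) K) 0 0 0).submatrix e e := by
    rw [← Matrix.map_mul, ← Matrix.map_mul, h]
    ext i j
    simp only [Matrix.map_apply, submatrix_apply]
    rcases e i with a | a <;> rcases e j with b | b <;> simp [Matrix.one_apply]
  have h3 : (V.map f * A.map f * U.map f).rank = (A.map f).rank := by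
    rw [rank_mul_eq_left_of_isUnit_det _ _ ((isUnit_iff_isUnit_det _).1 hU'),
      rank_mul_eq_right_of_isUnit_det _ _ ((isUnit_iff_isUnit_det _).1 hV')]
  rw [← h3, h2, rank_submatrix, rank_fromBlocks_one_zero]

end Cfsg.Agent.Lib.Helper8.RK
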