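import Mathlib
import Cfsg.Prelude.Def_Blocks
import Cfsg.Agent.Lib.Helper8.BlockOmega
import Cfsg.Agent.Lib.Helper8.BlockOrth2
import Cfsg.Agent.Lib.Helper8.BlockMinMax
import Cfsg.Agent.Lib.Helper8.GT3
import Cfsg.Agent.Lib.Helper8.BlockUnion
import Cfsg.Agent.Lib.Helper8.RK2

set_option autoImplicit false

namespace Cfsg.Agent.Lib.Helper8.RK

open Cfsg Cfsg.Agent.Lib.Helper8 Cfsg.Agent.Lib.Helper1 Cfsg.Agent.Lib.Helper4
open Cfsg.Agent.Lib.Helper8.GT
open scoped ComplexConjugate BigOperators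

universe u

variable {G : Type u} [Group G] [Fintype G] {M : Ideal AlgInt} {p : ℕ}

set_option linter.unusedSectionVars false

/-- Weak block orthogonality summed over a `p`-subgroup. -/
theorem sum_block_conj_mul_sum [Fintype (IrrCharacter G)] (hM : IsPModular p M)
    {B : Set (IrrCharacter G)} (hB : IsPBlock M B) (S : Subgroup G) [Fintype S]
    (hS : IsPGroup p S) {x : G} (hx : ¬ p ∣ orderOf x) :
    ∑ ψ : IrrCharacter G, (by classical exact if ψ ∈ B then (1 : ℂ) else 0) *
        (conj ((ψ : G → ℂ) x) * ∑ s : S, conj ((ψ : G → ℂ) (s : G)))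
      = (Nat.card G : ℂ) * blockCoeff B x := by
  classical
  haveI : Fact p.Prime := ⟨hM.1⟩
  have hG0 : (Nat.card G : ℂ) ≠ 0 := Nat.cast_ne_zero.2 Nat.card_pos.ne'
  have h1 : ∀ ψ : IrrCharacter G, (if ψ ∈ B then (1 : ℂ) else 0) *
        (conj ((ψ : G → ℂ) x) * ∑ s : S, conj ((ψ : G → ℂ) (s : G)))
      = ∑ s : S, (if ψ ∈ B then (1 : ℂ) else 0) *
        (conj ((ψ : G → ℂ) x) * conj ((ψ : G → ℂ) (s : G))) := by
    intro ψ
    rw [Finset.mul_sum, Finset.mul_sum]
  simp only [h1]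
  rw [Finset.sum_comm]
  have h2 : ∀ s : S, ∑ ψ : IrrCharacter G, (if ψ ∈ B then (1 : ℂ) else 0) *
        (conj ((ψ : G → ℂ) x) * conj ((ψ : G → ℂ) (s : G)))
      = if s = 1 then (Nat.card G : ℂ) * blockCoeff B x else 0 := by
    intro s
    split_ifs with hs
    · rw [hs, blockCoeff_eq_sum, ← mul_assoc, mul_inv_cancel₀ hG0, one_mul]
      refine Finset.sum_congr rfl fun ψ _ => ?_
      have : conj ((ψ : G → ℂ) ((1 : S) : G)) = (ψ : G → ℂ) 1 := by
        rw [← isCharacter_inv (isCharacter_of_irr ψ.2)]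
        simp
      rw [this]
      ring
    · have hs' : p ∣ orderOf (s : G) := by
        obtain ⟨k, hk⟩ := IsPGroup.iff_orderOf.1 hS s
        rw [Subgroup.orderOf_coe, hk]
        rcases Nat.eq_zero_or_pos k with h0 | h0
        · rw [h0, pow_zero] at hk
          exact absurd (orderOf_eq_one_iff.1 hk) hs
        · exact dvd_pow_self p h0.ne'
      have h3 := finsum_block_mul_eq_zero hM hB hx hs'
      rw [finsum_mem_eq_sum_indicator] at h3
      have h4 : ∑ ψ : IrrCharacter G, (if ψ ∈ B then (1 : ℂ) else 0) *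
          (conj ((ψ : G → ℂ) x) * conj ((ψ : G → ℂ) (s : G)))
          = conj (∑ ψ : IrrCharacter G, (if ψ ∈ B then (1 : ℂ) else 0) *
            ((ψ : G → ℂ) x * (ψ : G → ℂ) (s : G))) := by
        rw [map_sum]
        refine Finset.sum_congr rfl fun ψ _ => ?_
        rw [map_mul, map_mul]
        congr 1
        split_ifs <;> simp
      rw [h4, h3, map_zero]
  simp only [h2]
  rw [Finset.sum_ite_eq' Finset.univ (1 : S)]
  simp

theorem red_natCast (hM : M.IsPrime) (n : ℕ) : red hM ((n : ℕ) : ℂ) = (n : ResField M hM) := by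
  have h1 : MemLocalRing M ((n : ℕ) : ℂ) := memLocalRing_natCast hM.ne_top n
  rw [red_of_mem hM h1]
  have : (⟨((n : ℕ) : ℂ), h1⟩ : localRing M hM) = ((n : ℕ) : localRing M hM) := by
    apply Subtype.ext
    simp
  rw [this, map_natCast]

theorem red_eq_of_sub (hM : M.IsPrime) {z w : ℂ} (hz : MemLocalRing M z) (hw : MemLocalRing M w)
    (h : MemLocalIdeal M (z - w)) : red hM z = red hM w := by
  have h1 : z = (z - w) + w := by ring
  rw [h1, red_add hM (memLocalRing_sub hM hz hw) hw,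
    (red_eq_zero_iff hM (memLocalRing_sub hM hz hw)).2 h, zero_add]

/-- Every irreducible character lies in exactly one block. -/
theorem sum_eq_sum_blocks [Fintype (IrrCharacter G)] (hM : M.IsPrime)
    (𝔅 : Finset (Set (IrrCharacter G))) (h𝔅 : ∀ B, B ∈ 𝔅 ↔ IsPBlock M B)
    (F : IrrCharacter G → ℂ) :
    ∑ ψ : IrrCharacter G, F ψ = ∑ B ∈ 𝔅, ∑ ψ : IrrCharacter G,
      (by classical exact if ψ ∈ B then (1 : ℂ) else 0) * F ψ := by
  classical
  rw [Finset.sum_comm]
  refine Finset.sum_congr rfl fun ψ _ => ?_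
  rw [← Finset.sum_mul]
  have h1 : ∑ B ∈ 𝔅, (if ψ ∈ B then (1 : ℂ) else 0) = 1 := by
    rw [Finset.sum_eq_single (blockOf M (ψ : G → ℂ))]
    · rw [if_pos]
      exact sameBlock_refl hM.ne_top _
    · intro B hB hne
      rw [if_neg]
      intro hψ
      exact hne (eq_blockOf_of_mem hM ((h𝔅 B).1 hB) hψ)
    · intro h
      exact absurd ((h𝔅 _).2 ⟨ψ, rfl⟩) h
  rw [h1, one_mul]

/-- The key congruence: the pair count, divided by the appropriate power of `p`, is congruent
modulo the local ideal to a sum over blocks of idempotent coefficients times central characters. -/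
theorem red_key [Fintype (IrrCharacter G)] (hM : IsPModular p M)
    (𝔅 : Finset (Set (IrrCharacter G))) (h𝔅 : ∀ B, B ∈ 𝔅 ↔ IsPBlock M B)
    (rep : Set (IrrCharacter G) → IrrCharacter G) (hrep : ∀ B ∈ 𝔅, rep B ∈ B)
    (S : Subgroup G) [Fintype S] (hSp : IsPGroup p S) (a g' : ℕ) (hS : Nat.card S = p ^ a)
    (hG : Nat.card G = p ^ a * g') {x : G} (hx : ¬ p ∣ orderOf x) (x' : G) (c w : ℕ)
    (hcw : Nat.card (Subgroup.centralizer ({x} : Set G)) *
      Nat.card {yz : G × G // IsConj x yz.1 ∧ IsConj x' yz.2 ∧ yz.2 * yz.1⁻¹ ∈ S}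
        = p ^ a * (c * w)) :
    (c : ResField M (isPModular_isPrime hM)) * (w : ResField M (isPModular_isPrime hM))
      = (g' : ResField M (isPModular_isPrime hM)) *
        ∑ B ∈ 𝔅, red (isPModular_isPrime hM) (blockCoeff B x) *
          red (isPModular_isPrime hM) (centralChar (rep B : G → ℂ) x') := by
  classical
  have hMp := isPModular_isPrime hM
  have hMt : M ≠ ⊤ := hMp.ne_top
  have hp0 : ((p : ℂ) ^ a) ≠ 0 := pow_ne_zero _ (Nat.cast_ne_zero.2 hM.1.ne_zero)
  have hm : ∀ ψ : IrrCharacter G, ∃ m : ℕ,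
      ∑ s : S, conj ((ψ : G → ℂ) (s : G)) = (p : ℂ) ^ a * m := by
    intro ψ
    obtain ⟨m, hm⟩ := sum_conj_subgroup_eq_nat S (isCharacter_of_irr ψ.2)
    refine ⟨m, ?_⟩
    rw [hm, hS]
    push_cast
    ring
  choose m hm using hm
  have h2 : ((c : ℂ) * (w : ℂ)) = ∑ ψ : IrrCharacter G,
      conj ((ψ : G → ℂ) x) * centralChar (ψ : G → ℂ) x' * (m ψ : ℂ) := by
    have h := card_centralizer_mul_card_pairs S x x'
    have hcw' : ((Nat.card (Subgroup.centralizer ({x} : Set G)) : ℂ) *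
        (Nat.card {yz : G × G // IsConj x yz.1 ∧ IsConj x' yz.2 ∧ yz.2 * yz.1⁻¹ ∈ S} : ℂ))
        = (p : ℂ) ^ a * ((c : ℂ) * (w : ℂ)) := by exact_mod_cast hcw
    rw [hcw'] at h
    simp only [hm] at h
    have h3 : ∑ ψ : IrrCharacter G, conj ((ψ : G → ℂ) x) * centralChar (ψ : G → ℂ) x' *
        ((p : ℂ) ^ a * (m ψ : ℂ))
        = (p : ℂ) ^ a * ∑ ψ : IrrCharacter G,
          conj ((ψ : G → ℂ) x) * centralChar (ψ : G → ℂ) x' * (m ψ : ℂ) := by
      rw [Finset.mul_sum]
      refine Finset.sum_congr rfl fun ψ _ => ?_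
      ring
    rw [h3] at h
    exact mul_left_cancel₀ hp0 h
  rw [sum_eq_sum_blocks hMp 𝔅 h𝔅] at h2
  have h4 : ∀ B ∈ 𝔅, MemLocalRing M (∑ ψ : IrrCharacter G, (if ψ ∈ B then (1 : ℂ) else 0) *
        (conj ((ψ : G → ℂ) x) * centralChar (ψ : G → ℂ) x' * (m ψ : ℂ))) ∧
      red hMp (∑ ψ : IrrCharacter G, (if ψ ∈ B then (1 : ℂ) else 0) *
        (conj ((ψ : G → ℂ) x) * centralChar (ψ : G → ℂ) x' * (m ψ : ℂ)))
      = (g' : ResField M hMp) * (red hMp (blockCoeff B x) *
          red hMp (centralChar (rep B : G → ℂ) x')) := by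
    intro B hB𝔅
    have hB := (h𝔅 B).1 hB𝔅
    have hχ := hrep B hB𝔅
    set lam := centralChar (rep B : G → ℂ) x' with hlam
    have hlamR : MemLocalRing M lam := memLocalRing_centralChar hMt (rep B).2 x'
    have haR : MemLocalRing M (blockCoeff B x) := blockCoeff_memLocalRing hMp hB x
    -- the second sum
    have h5 : ∑ ψ : IrrCharacter G, (if ψ ∈ B then (1 : ℂ) else 0) *
        (conj ((ψ : G → ℂ) x) * (m ψ : ℂ)) = (g' : ℂ) * blockCoeff B x := by
      have h6 := sum_block_conj_mul_sum hM hB S hSp hx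
      simp only [hm] at h6
      have h7 : ∑ ψ : IrrCharacter G, (if ψ ∈ B then (1 : ℂ) else 0) *
          (conj ((ψ : G → ℂ) x) * ((p : ℂ) ^ a * (m ψ : ℂ)))
          = (p : ℂ) ^ a * ∑ ψ : IrrCharacter G, (if ψ ∈ B then (1 : ℂ) else 0) *
            (conj ((ψ : G → ℂ) x) * (m ψ : ℂ)) := by
        rw [Finset.mul_sum]
        refine Finset.sum_congr rfl fun ψ _ => ?_
        ring
      rw [h7, hG] at h6
      push_cast at h6
      rw [mul_assoc] at h6
      exact mul_left_cancel₀ hp0 h6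
    -- the decomposition
    have h8 : ∑ ψ : IrrCharacter G, (if ψ ∈ B then (1 : ℂ) else 0) *
        (conj ((ψ : G → ℂ) x) * centralChar (ψ : G → ℂ) x' * (m ψ : ℂ))
        = ∑ ψ : IrrCharacter G, (if ψ ∈ B then (1 : ℂ) else 0) *
          (conj ((ψ : G → ℂ) x) * (m ψ : ℂ)) * (centralChar (ψ : G → ℂ) x' - lam)
          + (g' : ℂ) * blockCoeff B x * lam := by
      rw [← h5, Finset.sum_mul, ← Finset.sum_add_distrib]
      refine Finset.sum_congr rfl fun ψ _ => ?_
      ring
    have hT : MemLocalIdeal M (∑ ψ : IrrCharacter G, (if ψ ∈ B then (1 : ℂ) else 0) *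
          (conj ((ψ : G → ℂ) x) * (m ψ : ℂ)) * (centralChar (ψ : G → ℂ) x' - lam)) := by
      apply memLocalIdeal_sum hMp
      intro ψ _
      by_cases hψ : ψ ∈ B
      · rw [if_pos hψ, one_mul]
        apply memLocalIdeal_mul_left hMp
        · exact memLocalRing_mul hMp
            (memLocalRing_of_isIntegral hMt
              (isIntegral_conj (isIntegral_char_apply (isCharacter_of_irr ψ.2) x)))
            (memLocalRing_natCast hMt _)
        · have hBψ := eq_blockOf_of_mem hMp hB hψ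
          have hsb : SameBlock M (ψ : G → ℂ) (rep B : G → ℂ) := by
            have : rep B ∈ blockOf M (ψ : G → ℂ) := hBψ ▸ hχ
            exact this
          exact hsb x'
      · rw [if_neg hψ, zero_mul, zero_mul]
        exact memLocalIdeal_zero hMt
    have hU : MemLocalRing M ((g' : ℂ) * blockCoeff B x * lam) :=
      memLocalRing_mul hMp (memLocalRing_mul hMp (memLocalRing_natCast hMt _) haR) hlamR
    rw [h8]
    refine ⟨memLocalRing_add hMp (memLocalRing_of_memLocalIdeal hT) hU, ?_⟩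
    rw [red_add hMp (memLocalRing_of_memLocalIdeal hT) hU,
      (red_eq_zero_iff hMp (memLocalRing_of_memLocalIdeal hT)).2 hT, zero_add,
      red_mul hMp (memLocalRing_mul hMp (memLocalRing_natCast hMt _) haR) hlamR,
      red_mul hMp (memLocalRing_natCast hMt _) haR, red_natCast, mul_assoc]
  have h5 := congrArg (red hMp) h2
  rw [red_sum hMp _ _ (fun B hB => (h4 B hB).1),
    red_mul hMp (memLocalRing_natCast hMt _) (memLocalRing_natCast hMt _), red_natCast,
    red_natCast] at h5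
  rw [h5, Finset.mul_sum]
  exact Finset.sum_congr rfl fun B hB => (h4 B hB).2

end Cfsg.Agent.Lib.Helper8.RK
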