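import Mathlib
import Cfsg.Prelude.Def_Blocks
import Cfsg.Agent.Lib.Helper8.RK3
import Cfsg.Agent.S0911

set_option autoImplicit false

namespace Cfsg.Agent.Lib.Helper8.RK

open Cfsg Cfsg.Agent.Lib.Helper8 Cfsg.Agent.Lib.Helper1 Cfsg.Agent.Lib.Helper4
open Cfsg.Agent.Lib.Helper8.GT
open scoped ComplexConjugate BigOperators Pointwise

universe u

variable {G : Type u} [Group G] [Fintype G] {M : Ideal AlgInt} {p : ℕ} [Fact p.Prime]

set_option linter.unusedSectionVars false

theorem map_conj_eq_of_normal (D : Subgroup G) [D.Normal] (t : G) :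
    D.map (MulAut.conj t).toMonoidHom = D := by
  exact Subgroup.Normal.map_conj_eq D t

/-- If a normal subgroup is (the image of) a Sylow subgroup of a centralizer, it is the image of
every Sylow subgroup of that centralizer. -/
theorem sylow_map_eq_of_normal (D : Subgroup G) [D.Normal] {x : G}
    (Q : Sylow p (Subgroup.centralizer ({x} : Set G)))
    (hQ : (Q : Subgroup (Subgroup.centralizer ({x} : Set G))).map
      (Subgroup.centralizer ({x} : Set G)).subtype = D)
    (Q' : Sylow p (Subgroup.centralizer ({x} : Set G))) :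
    (Q' : Subgroup (Subgroup.centralizer ({x} : Set G))).map
      (Subgroup.centralizer ({x} : Set G)).subtype = D := by
  have hn : (Q : Subgroup (Subgroup.centralizer ({x} : Set G))).Normal := by
    have h1 : (Q : Subgroup (Subgroup.centralizer ({x} : Set G)))
        = D.subgroupOf (Subgroup.centralizer ({x} : Set G)) := by
      rw [← hQ]
      ext z
      simp [Subgroup.mem_subgroupOf]
    rw [h1]
    infer_instance
  have := Sylow.unique_of_normal Q hn
  rw [← hQ, Subsingleton.elim Q' Q]

/-- A block whose idempotent coefficient and whose central character are units at classes with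
defect group the normal subgroup `D` has defect group `D`. -/
theorem isDefectGroup_of_units (hM : IsPModular p M) {B : Set (IrrCharacter G)}
    (hB : IsPBlock M B) (D : Subgroup G) [D.Normal] {xi xj : G}
    (Qi : Sylow p (Subgroup.centralizer ({xi} : Set G)))
    (hQi : (Qi : Subgroup (Subgroup.centralizer ({xi} : Set G))).map
      (Subgroup.centralizer ({xi} : Set G)).subtype = D)
    (Qj : Sylow p (Subgroup.centralizer ({xj} : Set G)))
    (hQj : (Qj : Subgroup (Subgroup.centralizer ({xj} : Set G))).map
      (Subgroup.centralizer ({xj} : Set G)).subtype = D)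
    (hi : ¬ MemLocalIdeal M (blockCoeff B xi))
    (hj : ∃ χ ∈ B, ¬ MemLocalIdeal M (centralChar (χ : G → ℂ) xj)) :
    IsDefectGroup p M B D := by
  have hMp := isPModular_isPrime hM
  obtain ⟨g, hg⟩ := exists_isDefectClass hMp hB
  obtain ⟨P⟩ : Nonempty (Sylow p (Subgroup.centralizer ({g} : Set G))) := inferInstance
  have h := Cfsg.Agent.S0911.result p M hM B hB g hg P
  obtain ⟨y, Q, hQ⟩ := (h xi).1 (blockCoeff_memLocalRing hMp hB xi) hi
  obtain ⟨y', Q', hQ'⟩ := (h xj).2 hj
  rw [sylow_map_eq_of_normal D Qi hQi Q] at hQ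
  rw [sylow_map_eq_of_normal D Qj hQj Q'] at hQ'
  set DB := (P : Subgroup (Subgroup.centralizer ({g} : Set G))).map
      (Subgroup.centralizer ({g} : Set G)).subtype with hDB
  have hc1 : Nat.card (DB.map (MulAut.conj y).toMonoidHom) = Nat.card DB :=
    Nat.card_congr (DB.equivMapOfInjective _ (MulAut.conj y).injective).symm.toEquiv
  have hc2 : Nat.card (DB.map (MulAut.conj y').toMonoidHom) = Nat.card DB :=
    Nat.card_congr (DB.equivMapOfInjective _ (MulAut.conj y').injective).symm.toEquiv
  have hle1 : Nat.card D ≤ Nat.card DB := by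
    rw [← hc1]
    exact Nat.card_le_card_of_injective _ (Subgroup.inclusion_injective hQ)
  have heq : DB.map (MulAut.conj y').toMonoidHom = D := by
    apply Subgroup.eq_of_le_of_card_ge hQ'
    rw [hc2]
    exact hle1
  have hDD : DB = D := by
    have h2 : DB.map (MulAut.conj y').toMonoidHom = D.map (MulAut.conj y').toMonoidHom := by
      rw [heq, map_conj_eq_of_normal]
    exact Subgroup.map_injective (MulAut.conj y').injective h2
  exact ⟨g, hg, P, hDD.symm⟩

/-- For blocks `B`, `B'` with the normal defect group `D`, the product of the idempotent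
coefficient of `B` and a central character of `B'` lies in the local ideal at every element which
is not `p`-regular with `D` as a Sylow subgroup of its centralizer. -/
theorem memLocalIdeal_coeff_mul_centralChar (hM : IsPModular p M) {B B' : Set (IrrCharacter G)}
    (hB : IsPBlock M B) (hB' : IsPBlock M B') (D : Subgroup G) [D.Normal]
    (hD : IsDefectGroup p M B D) (hD' : IsDefectGroup p M B' D) {χ' : IrrCharacter G}
    (hχ' : χ' ∈ B') (y : G)
    (hy : ¬ (¬ p ∣ orderOf y ∧ ∃ Q : Sylow p (Subgroup.centralizer ({y} : Set G)),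
      (Q : Subgroup (Subgroup.centralizer ({y} : Set G))).map
        (Subgroup.centralizer ({y} : Set G)).subtype = D)) :
    MemLocalIdeal M (blockCoeff B y * centralChar (χ' : G → ℂ) y) := by
  have hMp := isPModular_isPrime hM
  have haR := blockCoeff_memLocalRing hMp hB y
  have hlR := memLocalRing_centralChar hMp.ne_top χ'.2 y
  by_contra hcon
  have h1 : ¬ MemLocalIdeal M (blockCoeff B y) := fun h =>
    hcon (memLocalIdeal_mul_right hMp h hlR)
  have h2 : ¬ MemLocalIdeal M (centralChar (χ' : G → ℂ) y) := fun h =>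
    hcon (memLocalIdeal_mul_left hMp haR h)
  have hreg : ¬ p ∣ orderOf y := by
    intro hdvd
    apply h1
    rw [blockCoeff_eq_zero_of_dvd_orderOf hM hB hdvd]
    exact memLocalIdeal_zero hMp.ne_top
  apply hy
  refine ⟨hreg, ?_⟩
  obtain ⟨g, hg, P, hP⟩ := hD
  obtain ⟨g', hg', P', hP'⟩ := hD'
  obtain ⟨t, Q, hQ⟩ := (Cfsg.Agent.S0911.result p M hM B hB g hg P y).1 haR h1
  obtain ⟨t', Q', hQ'⟩ := (Cfsg.Agent.S0911.result p M hM B' hB' g' hg' P' y).2 ⟨χ', hχ', h2⟩
  rw [← hP, map_conj_eq_of_normal] at hQ
  rw [← hP', map_conj_eq_of_normal] at hQ'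
  refine ⟨Q', ?_⟩
  symm
  apply Subgroup.eq_of_le_of_card_ge hQ'
  have hc : Nat.card ((Q' : Subgroup (Subgroup.centralizer ({y} : Set G))).map
        (Subgroup.centralizer ({y} : Set G)).subtype)
      = Nat.card ((Q : Subgroup (Subgroup.centralizer ({y} : Set G))).map
        (Subgroup.centralizer ({y} : Set G)).subtype) := by
    rw [Nat.card_congr ((Q' : Subgroup (Subgroup.centralizer ({y} : Set G))).equivMapOfInjective _
        (Subgroup.subtype_injective _)).symm.toEquiv,
      Nat.card_congr ((Q : Subgroup (Subgroup.centralizer ({y} : Set G))).equivMapOfInjective _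
        (Subgroup.subtype_injective _)).symm.toEquiv,
      Sylow.card_eq_multiplicity, Sylow.card_eq_multiplicity]
  rw [hc]
  exact Nat.card_le_card_of_injective _ (Subgroup.inclusion_injective hQ)

theorem red_one (hM : M.IsPrime) : red hM (1 : ℂ) = 1 := by
  have := red_natCast hM 1
  simpa using this

/-- The orthogonality relation between central characters and idempotent coefficients of blocks
with the normal defect group `D`, over the classes with defect group `D`. -/
theorem sum_red_centralChar_mul_red_coeff (hM : IsPModular p M) {ι : Type*} [Fintype ι]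
    (K : ι → ConjClasses G) (hKinj : Function.Injective K) (D : Subgroup G) [D.Normal]
    (hK : ∀ C : ConjClasses G, (∃ i, K i = C) ↔ ∃ x ∈ C.carrier, ¬ p ∣ orderOf x ∧
      ∃ Q : Sylow p (Subgroup.centralizer ({x} : Set G)),
        (Q : Subgroup (Subgroup.centralizer ({x} : Set G))).map
          (Subgroup.centralizer ({x} : Set G)).subtype = D)
    (x : ι → G) (hx : ∀ i, x i ∈ (K i).carrier)
    {B B' : Set (IrrCharacter G)} (hB : IsPBlock M B) (hB' : IsPBlock M B')
    (hD : IsDefectGroup p M B D) (hD' : IsDefectGroup p M B' D) {χ' : IrrCharacter G}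
    (hχ' : χ' ∈ B') :
    ∑ i, red (isPModular_isPrime hM) (centralChar (χ' : G → ℂ) (x i)) *
        red (isPModular_isPrime hM) (blockCoeff B (x i))
      = (by classical exact if χ' ∈ B then (1 : ResField M (isPModular_isPrime hM)) else 0) := by
  classical
  have hMp := isPModular_isPrime hM
  have : Fintype (ConjClasses G) := Fintype.ofFinite _
  have key := omega_blockCoeff B χ'
  rw [omega_eq_sum_classes χ'.2 (isClassFunction_blockCoeff B)] at key
  have hR : ∀ c : ConjClasses G, MemLocalRing M
      (blockCoeff B (Quotient.out c) * centralChar (χ' : G → ℂ) (Quotient.out c)) := fun c =>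
    memLocalRing_mul hMp (blockCoeff_memLocalRing hMp hB _)
      (memLocalRing_centralChar hMp.ne_top χ'.2 _)
  have key2 := congrArg (red hMp) key
  rw [red_sum hMp _ _ (fun c _ => hR c)] at key2
  have hrhs : red hMp (if χ' ∈ B then (1 : ℂ) else 0)
      = if χ' ∈ B then (1 : ResField M hMp) else 0 := by
    split_ifs
    · exact red_one hMp
    · exact red_zero hMp
  rw [hrhs] at key2
  rw [← key2]
  rw [← Finset.sum_subset (Finset.subset_univ (Finset.univ.image K))]
  · rw [Finset.sum_image (fun i _ j _ h => hKinj h)]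
    refine Finset.sum_congr rfl fun i _ => ?_
    have hconj : IsConj (x i) (Quotient.out (K i)) := by
      have h1 : ConjClasses.mk (x i) = K i := ConjClasses.mem_carrier_iff_mk_eq.1 (hx i)
      have h2 : ConjClasses.mk (Quotient.out (K i)) = K i := Quotient.out_eq _
      exact ConjClasses.mk_eq_mk_iff_isConj.1 (h1.trans h2.symm)
    obtain ⟨t, ht⟩ := isConj_iff.1 hconj
    rw [← ht, isClassFunction_blockCoeff B (x i) t,
      centralChar_conj (isClassFunction_irr χ'.2) (x i) t,
      red_mul hMp (blockCoeff_memLocalRing hMp hB _) (memLocalRing_centralChar hMp.ne_top χ'.2 _),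
      mul_comm]
  · intro c _ hc
    rw [(red_eq_zero_iff hMp (hR c))]
    apply memLocalIdeal_coeff_mul_centralChar hM hB hB' D hD hD' hχ'
    intro hy
    apply hc
    obtain ⟨i, hi⟩ := (hK c).2 ⟨Quotient.out c,
      ConjClasses.mem_carrier_iff_mk_eq.2 (Quotient.out_eq _), hy⟩
    exact Finset.mem_image.2 ⟨i, Finset.mem_univ _, hi⟩

end Cfsg.Agent.Lib.Helper8.RK
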