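import Mathlib
import Cfsg.Prelude.Def_Blocks
import Cfsg.Agent.Lib.Helper8.RK1
import Cfsg.Agent.Lib.Helper8.RK4
import Cfsg.Agent.S0957

set_option autoImplicit false

namespace Cfsg.Agent.Lib.Helper8.RK

open Cfsg Cfsg.Agent.Lib.Helper8 Cfsg.Agent.Lib.Helper1 Cfsg.Agent.Lib.Helper4
open Cfsg.Agent.Lib.Helper8.GT
open scoped ComplexConjugate BigOperators

universe u v

theorem rank_eq_card_of_factor {k : Type*} [Field k] {ι T : Type*} [Fintype ι] [DecidableEq ι]
    [Fintype T] [DecidableEq T] (W : Matrix ι ι k) (U : ι → k) (hU : ∀ i, U i ≠ 0)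
    (A : Matrix ι T k) (L : Matrix T ι k) (hW : W = Matrix.diagonal U * (A * L))
    (hLA : L * A = 1) : W.rank = Fintype.card T := by
  have hdet : IsUnit (Matrix.diagonal U).det := by
    rw [Matrix.det_diagonal]
    exact IsUnit.mk0 _ (Finset.prod_ne_zero_iff.2 fun i _ => hU i)
  rw [hW, Matrix.rank_mul_eq_right_of_isUnit_det _ _ hdet]
  apply le_antisymm
  · exact (Matrix.rank_mul_le_left A L).trans (Matrix.rank_le_card_width A)
  · have h1 : L * (A * L) = L := by rw [← Matrix.mul_assoc, hLA, Matrix.one_mul]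
    have h2 : (L * A).rank ≤ L.rank := Matrix.rank_mul_le_left L A
    rw [hLA, Matrix.rank_one] at h2
    calc Fintype.card T ≤ L.rank := h2
      _ = (L * (A * L)).rank := by rw [h1]
      _ ≤ (A * L).rank := Matrix.rank_mul_le_right L (A * L)

theorem natCast_resField_ne_zero {M : Ideal AlgInt} {p : ℕ} (hM : IsPModular p M) {n : ℕ}
    (hn : ¬ p ∣ n) : (n : ResField M (isPModular_isPrime hM)) ≠ 0 := by
  have hMp := isPModular_isPrime hM
  rw [← red_natCast hMp n]
  intro h
  rw [red_eq_zero_iff hMp (memLocalRing_natCast hMp.ne_top n)] at h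
  exact hn ((memLocalIdeal_natCast_iff hM n).1 h)

/-- **Robinson's theorem**: the number of blocks with the normal defect group `D` is the rank
modulo `p` of the matrix of pair counts divided by `p ^ (a - d)`. -/
theorem robinson {G : Type u} [Group G] [Fintype G] (p : ℕ) [Fact p.Prime] (M : Ideal AlgInt)
    (hM : IsPModular p M) (D : Subgroup G) [D.Normal] (hD : IsPGroup p D) (S : Sylow p G)
    {ι : Type v} [Fintype ι] [DecidableEq ι] (K : ι → ConjClasses G)
    (hKinj : Function.Injective K)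
    (hK : ∀ C : ConjClasses G, (∃ i, K i = C) ↔ ∃ x ∈ C.carrier, ¬ p ∣ orderOf x ∧
      ∃ Q : Sylow p (Subgroup.centralizer ({x} : Set G)),
        (Q : Subgroup (Subgroup.centralizer ({x} : Set G))).map
          (Subgroup.centralizer ({x} : Set G)).subtype = D) :
    Nat.card {B : Set (IrrCharacter G) // IsPBlock M B ∧ IsDefectGroup p M B D}
      = (Matrix.of fun i j : ι => ((Nat.card {yz : G × G // yz.1 ∈ (K i).carrier ∧
          yz.2 ∈ (K j).carrier ∧ yz.2 * yz.1⁻¹ ∈ (S : Subgroup G)} /
          p ^ ((Nat.card G).factorization p - (Nat.card D).factorization p) : ℕ) : ZMod p)).rank := by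
  classical
  have hp : p.Prime := Fact.out
  have hMp := isPModular_isPrime hM
  have hMt : M ≠ ⊤ := hMp.ne_top
  have : Fintype (IrrCharacter G) := Fintype.ofFinite _
  -- representatives
  have hex : ∀ i, ∃ x ∈ (K i).carrier, ¬ p ∣ orderOf x ∧
      ∃ Q : Sylow p (Subgroup.centralizer ({x} : Set G)),
        (Q : Subgroup (Subgroup.centralizer ({x} : Set G))).map
          (Subgroup.centralizer ({x} : Set G)).subtype = D := fun i => (hK (K i)).1 ⟨i, rfl⟩
  choose x hx hxreg Qx hQx using hex
  -- numerical data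
  set a := (Nat.card G).factorization p with ha
  set d := (Nat.card D).factorization p with hd
  have hSa : Nat.card S = p ^ a := S.card_eq_multiplicity
  set g' := Nat.card G / p ^ a with hg'
  have hG : Nat.card G = p ^ a * g' := (Nat.ordProj_mul_ordCompl_eq_self (Nat.card G) p).symm
  have hg'p : ¬ p ∣ g' := Nat.not_dvd_ordCompl hp Nat.card_pos.ne'
  have hDd : Nat.card D = p ^ d := by
    obtain ⟨n, hn⟩ := IsPGroup.iff_card.1 hD
    rw [hd, hn, hp.factorization_pow, Finsupp.single_eq_same]
  have hda : d ≤ a := by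
    have h1 : p ^ d ∣ Nat.card G := hDd ▸ Subgroup.card_subgroup_dvd_card D
    exact (hp.pow_dvd_iff_le_factorization Nat.card_pos.ne').1 h1
  have hQcard : ∀ i, Nat.card (Qx i) = p ^ d := by
    intro i
    rw [← hDd, ← hQx i]
    exact Nat.card_congr ((Qx i : Subgroup (Subgroup.centralizer ({x i} : Set G))).equivMapOfInjective
      _ (Subgroup.subtype_injective _)).toEquiv
  have hCfac : ∀ i, (Nat.card (Subgroup.centralizer ({x i} : Set G))).factorization p = d := by
    intro i
    have h1 := (Qx i).card_eq_multiplicity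
    rw [hQcard i] at h1
    exact (Nat.pow_right_injective hp.two_le h1).symm
  set c : ι → ℕ := fun i => Nat.card (Subgroup.centralizer ({x i} : Set G)) / p ^ d with hc
  have hCc : ∀ i, Nat.card (Subgroup.centralizer ({x i} : Set G)) = p ^ d * c i := by
    intro i
    have := Nat.ordProj_mul_ordCompl_eq_self (Nat.card (Subgroup.centralizer ({x i} : Set G))) p
    rw [hCfac i] at this
    exact this.symm
  have hcp : ∀ i, ¬ p ∣ c i := by
    intro i
    have := Nat.not_dvd_ordCompl (n := Nat.card (Subgroup.centralizer ({x i} : Set G))) hp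
      Nat.card_pos.ne'
    rw [hCfac i] at this
    exact this
  -- the pair counts
  set om : ι → ι → ℕ := fun i j => Nat.card {yz : G × G // yz.1 ∈ (K i).carrier ∧
          yz.2 ∈ (K j).carrier ∧ yz.2 * yz.1⁻¹ ∈ (S : Subgroup G)} with hom
  have hom' : ∀ i j, om i j = Nat.card {yz : G × G // IsConj (x i) yz.1 ∧ IsConj (x j) yz.2 ∧
      yz.2 * yz.1⁻¹ ∈ (S : Subgroup G)} := by
    intro i j
    have hmem : ∀ (l : ι) (y : G), y ∈ (K l).carrier ↔ IsConj (x l) y := by
      intro l y
      have h1 : ConjClasses.mk (x l) = K l := ConjClasses.mem_carrier_iff_mk_eq.1 (hx l)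
      rw [ConjClasses.mem_carrier_iff_mk_eq, ← h1, ConjClasses.mk_eq_mk_iff_isConj, isConj_comm]
    refine Nat.card_congr (Equiv.subtypeEquivRight fun yz => ?_)
    rw [hmem i, hmem j]
  have hdiv : ∀ i j, p ^ (a - d) ∣ om i j := by
    intro i j
    have h1 := Cfsg.Agent.S0957.result p S (x i) (x j) (Qx i)
    rw [hSa, hQcard i, Nat.pow_div hda hp.pos, ← hom' i j] at h1
    exact h1
  set w : ι → ι → ℕ := fun i j => om i j / p ^ (a - d) with hw
  have homw : ∀ i j, om i j = p ^ (a - d) * w i j := fun i j =>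
    (Nat.mul_div_cancel' (hdiv i j)).symm
  have hcw : ∀ i j, Nat.card (Subgroup.centralizer ({x i} : Set G)) *
      Nat.card {yz : G × G // IsConj (x i) yz.1 ∧ IsConj (x j) yz.2 ∧
        yz.2 * yz.1⁻¹ ∈ (S : Subgroup G)} = p ^ a * (c i * w i j) := by
    intro i j
    rw [← hom' i j, homw i j, hCc i]
    have : p ^ a = p ^ d * p ^ (a - d) := by rw [← pow_add, Nat.add_sub_cancel' hda]
    rw [this]
    ring
  -- blocks
  set 𝔅 : Finset (Set (IrrCharacter G)) := Finset.univ.filter (fun B => IsPBlock M B) with h𝔅def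
  have h𝔅 : ∀ B, B ∈ 𝔅 ↔ IsPBlock M B := fun B => by simp [h𝔅def]
  set rep : Set (IrrCharacter G) → IrrCharacter G := fun B =>
    if h : ∃ χ, χ ∈ B then h.choose else trivIrr G with hrepdef
  have hrep : ∀ B ∈ 𝔅, rep B ∈ B := by
    intro B hB
    have hne : ∃ χ, χ ∈ B := by
      obtain ⟨χ₀, rfl⟩ := (h𝔅 B).1 hB
      exact ⟨χ₀, sameBlock_refl hMt _⟩
    simp only [hrepdef, dif_pos hne]
    exact hne.choose_spec
  have hkey : ∀ i j, (c i : ResField M hMp) * (w i j : ResField M hMp)
      = (g' : ResField M hMp) * ∑ B ∈ 𝔅, red hMp (blockCoeff B (x i)) *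
          red hMp (centralChar (rep B : G → ℂ) (x j)) := fun i j =>
    red_key hM 𝔅 h𝔅 rep hrep (S : Subgroup G) S.isPGroup' a g' hSa hG (hxreg i) (x j) (c i) (w i j)
      (hcw i j)
  -- restriction to the blocks with defect group D
  have hsub : ∀ i j, ∑ B ∈ 𝔅, red hMp (blockCoeff B (x i)) *
          red hMp (centralChar (rep B : G → ℂ) (x j))
      = ∑ B : {B : Set (IrrCharacter G) // IsPBlock M B ∧ IsDefectGroup p M B D},
          red hMp (blockCoeff B.1 (x i)) * red hMp (centralChar (rep B.1 : G → ℂ) (x j)) := by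
    intro i j
    rw [← Finset.sum_filter_of_ne (p := fun B => IsDefectGroup p M B D)]
    · refine Finset.sum_subtype _ (fun B => ?_) _
      simp [h𝔅def]
    · intro B hB hne
      have hBb := (h𝔅 B).1 hB
      have h1 : red hMp (blockCoeff B (x i)) ≠ 0 := left_ne_zero_of_mul hne
      have h2 : red hMp (centralChar (rep B : G → ℂ) (x j)) ≠ 0 := right_ne_zero_of_mul hne
      rw [Ne, red_eq_zero_iff hMp (blockCoeff_memLocalRing hMp hBb _)] at h1
      rw [Ne, red_eq_zero_iff hMp (memLocalRing_centralChar hMt (rep B).2 _)] at h2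
      exact isDefectGroup_of_units hM hBb D (Qx i) (hQx i) (Qx j) (hQx j) h1
        ⟨rep B, hrep B hB, h2⟩
  -- the matrices
  have hchar : CharP (ResField M hMp) p :=
    (CharP.charP_iff_prime_eq_zero hp).2 (red_natCast_prime hM)
  set f : ZMod p →+* ResField M hMp := ZMod.castHom (dvd_refl p) (ResField M hMp) with hf
  set W : Matrix ι ι (ZMod p) := Matrix.of fun i j : ι => ((w i j : ℕ) : ZMod p) with hW
  rw [← rank_map_eq f W]
  rw [Nat.card_eq_fintype_card]
  symm
  refine rank_eq_card_of_factor (W.map f)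
    (fun i => (g' : ResField M hMp) * ((c i : ResField M hMp))⁻¹)
    (fun i => mul_ne_zero (natCast_resField_ne_zero hM hg'p)
      (inv_ne_zero (natCast_resField_ne_zero hM (hcp i))))
    (Matrix.of fun i (B : {B : Set (IrrCharacter G) // IsPBlock M B ∧ IsDefectGroup p M B D}) =>
      red hMp (blockCoeff B.1 (x i)))
    (Matrix.of fun (B : {B : Set (IrrCharacter G) // IsPBlock M B ∧ IsDefectGroup p M B D}) j =>
      red hMp (centralChar (rep B.1 : G → ℂ) (x j))) ?_ ?_
  · ext i j
    rw [Matrix.map_apply, hW, Matrix.of_apply, map_natCast, Matrix.diagonal_mul, Matrix.mul_apply]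
    simp only [Matrix.of_apply]
    rw [← hsub i j, mul_assoc, mul_comm _ (∑ B ∈ 𝔅, _), ← mul_assoc, ← hkey i j,
      mul_comm (c i : ResField M hMp), mul_assoc,
      mul_inv_cancel₀ (natCast_resField_ne_zero hM (hcp i)), mul_one]
  · ext B' B
    rw [Matrix.mul_apply, Matrix.one_apply]
    simp only [Matrix.of_apply]
    rw [sum_red_centralChar_mul_red_coeff hM K hKinj D hK x hx B.2.1 B'.2.1 B.2.2 B'.2.2
      (hrep B'.1 ((h𝔅 _).2 B'.2.1))]
    by_cases hBB : B' = B
    · rw [if_pos hBB, if_pos]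
      rw [← hBB]
      exact hrep B'.1 ((h𝔅 _).2 B'.2.1)
    · rw [if_neg hBB, if_neg]
      intro hmem
      apply hBB
      apply Subtype.ext
      exact (eq_blockOf_of_mem hMp B'.2.1 (hrep B'.1 ((h𝔅 _).2 B'.2.1))).trans
        (eq_blockOf_of_mem hMp B.2.1 hmem).symm

end Cfsg.Agent.Lib.Helper8.RK
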