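import Mathlib
import Cfsg.Prelude.Def_Blocks
import Cfsg.Agent.Lib.Helper8.BF7
import Cfsg.Agent.Lib.Helper8.BlockOrth2
import Cfsg.Agent.Lib.Helper8.BlockDefectBounds
import Cfsg.Agent.Lib.Helper1.ConjCount
import Cfsg.Agent.Lib.Helper1.CharFound8

/-!
# A real `2`-block of full defect is the principal block
-/

set_option autoImplicit false

namespace Cfsg.Agent.Lib.Helper8

open Cfsg
open scoped ComplexConjugate
open Cfsg.Agent.Lib.Helper1 Cfsg.Agent.Lib.Helper4

universe u

/-- Summing over the orbits of an involution. -/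
theorem pred_sum_of_involution {ι : Type*} [Fintype ι] [DecidableEq ι] (P : ℂ → Prop) (h0 : P 0)
    (hadd : ∀ a b, P a → P b → P (a + b)) (σ : ι → ι) (hσ : ∀ i, σ (σ i) = i) (t : ι → ℂ)
    (i₀ : ι) (hpair : ∀ i, σ i ≠ i → P (t i + t (σ i)))
    (hfix : ∀ i, σ i = i → i ≠ i₀ → P (t i)) (hi₀ : σ i₀ = i₀) :
    P (∑ i, t i - t i₀) := by
  classical
  letI : LinearOrder ι := LinearOrder.lift' (Fintype.equivFin ι) (Fintype.equivFin ι).injective
  have hsum : ∀ (s : Finset ι) (f : ι → ℂ), (∀ i ∈ s, P (f i)) → P (∑ i ∈ s, f i) := by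
    intro s f hf
    exact Finset.sum_induction f P hadd h0 hf
  have hpt : ∀ i, t i = (if σ i = i then t i else 0) + (if i < σ i then t i else 0)
      + (if σ i < i then t i else 0) := by
    intro i
    rcases lt_trichotomy i (σ i) with h | h | h
    · rw [if_neg h.ne', if_pos h, if_neg (not_lt.2 h.le)]
      ring
    · rw [if_pos h.symm, if_neg (by rw [← h]; exact lt_irrefl _),
        if_neg (by rw [← h]; exact lt_irrefl _)]
      ring
    · rw [if_neg h.ne, if_neg (not_lt.2 h.le), if_pos h]
      ring
  have h3 : ∑ i, (if σ i < i then t i else 0) = ∑ i, (if i < σ i then t (σ i) else 0) := by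
    apply Fintype.sum_equiv ⟨σ, σ, hσ, hσ⟩
    intro i
    show (if σ i < i then t i else 0) = if σ i < σ (σ i) then t (σ (σ i)) else 0
    rw [hσ]
  have h1 : ∑ i, t i - t i₀ = ∑ i, (if σ i = i ∧ i ≠ i₀ then t i else 0)
      + ∑ i, (if i < σ i then t i + t (σ i) else 0) := by
    have e1 : ∑ i, t i = ∑ i, ((if σ i = i then t i else 0) + (if i < σ i then t i else 0)
        + (if σ i < i then t i else 0)) := Finset.sum_congr rfl fun i _ => hpt i
    rw [e1, Finset.sum_add_distrib, Finset.sum_add_distrib, h3]
    have e2 : ∑ i, (if σ i = i then t i else 0) = t i₀ +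
        ∑ i, (if σ i = i ∧ i ≠ i₀ then t i else 0) := by
      have : ∀ i, (if σ i = i then t i else 0) = (if i = i₀ then t i else 0) +
          (if σ i = i ∧ i ≠ i₀ then t i else 0) := by
        intro i
        by_cases hi : i = i₀
        · subst hi
          rw [if_pos hi₀, if_pos rfl, if_neg (by simp)]
          ring
        · rw [if_neg hi, zero_add]
          by_cases hs : σ i = i
          · rw [if_pos hs, if_pos ⟨hs, hi⟩]
          · rw [if_neg hs, if_neg (fun h => hs h.1)]
      rw [Finset.sum_congr rfl fun i _ => this i, Finset.sum_add_distrib,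
        Finset.sum_ite_eq' Finset.univ i₀, if_pos (Finset.mem_univ _)]
    have e3 : ∑ i, (if i < σ i then t i + t (σ i) else 0) =
        ∑ i, (if i < σ i then t i else 0) + ∑ i, (if i < σ i then t (σ i) else 0) := by
      rw [← Finset.sum_add_distrib]
      refine Finset.sum_congr rfl fun i _ => ?_
      split_ifs <;> ring
    rw [e2, e3]
    ring
  rw [h1]
  apply hadd
  · apply hsum
    intro i _
    split_ifs with h
    · exact hfix i h.1 h.2
    · exact h0
  · apply hsum
    intro i _
    split_ifs with h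
    · exact hpair i h.ne'
    · exact h0

section

variable {G : Type u} [Group G] [Fintype G]

/-- A nontrivial real element of odd order has an even number of conjugates. -/
theorem even_card_isConj_of_real {g : G} (hodd : ¬ 2 ∣ orderOf g) (hg1 : g ≠ 1)
    (hreal : IsConj g g⁻¹) : 2 ∣ Nat.card {v : G // IsConj g v} := by
  classical
  haveI : Fintype {v : G // IsConj g v} := Fintype.ofFinite _
  let σ : Equiv.Perm {v : G // IsConj g v} :=
    { toFun := fun v => ⟨(v : G)⁻¹, by
        obtain ⟨x, hx⟩ := isConj_iff.1 v.2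
        obtain ⟨y, hy⟩ := isConj_iff.1 hreal
        rw [isConj_iff]
        refine ⟨x * y, ?_⟩
        rw [← hx]
        have : x * y * g * (x * y)⁻¹ = x * (y * g * y⁻¹) * x⁻¹ := by group
        rw [this, hy]
        group⟩
      invFun := fun v => ⟨(v : G)⁻¹, by
        obtain ⟨x, hx⟩ := isConj_iff.1 v.2
        obtain ⟨y, hy⟩ := isConj_iff.1 hreal
        rw [isConj_iff]
        refine ⟨x * y, ?_⟩
        rw [← hx]
        have : x * y * g * (x * y)⁻¹ = x * (y * g * y⁻¹) * x⁻¹ := by group
        rw [this, hy]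
        group⟩
      left_inv := fun v => Subtype.ext (inv_inv _)
      right_inv := fun v => Subtype.ext (inv_inv _) }
  have hσ2 : σ ^ 2 = 1 := by
    ext v
    show (((v : G)⁻¹)⁻¹ : G) = v
    rw [inv_inv]
  have hsupp : σ.support = Finset.univ := by
    ext v
    simp only [Equiv.Perm.mem_support, Finset.mem_univ, iff_true]
    intro h
    have h1 : (v : G)⁻¹ = v := congrArg Subtype.val h
    have h2 : (v : G) ^ 2 = 1 := by
      rw [pow_two]
      nth_rewrite 1 [← h1]
      exact inv_mul_cancel _
    obtain ⟨x, hx⟩ := isConj_iff.1 v.2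
    have h3 : g ^ 2 = 1 := by
      have : (x * g * x⁻¹) ^ 2 = 1 := by rw [hx]; exact h2
      rw [conj_pow] at this
      have h4 := congrArg (fun t => x⁻¹ * t * x) this
      simpa [mul_assoc] using h4
    have h4 : orderOf g ∣ 2 := orderOf_dvd_of_pow_eq_one h3
    rcases (Nat.dvd_prime Nat.prime_two).1 h4 with h5 | h5
    · exact hg1 (orderOf_eq_one_iff.1 h5)
    · exact hodd (by rw [h5])
  have := Equiv.Perm.two_dvd_card_support hσ2
  rw [hsupp, Finset.card_univ, ← Nat.card_eq_fintype_card] at this
  exact this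

end

end Cfsg.Agent.Lib.Helper8
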