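import Mathlib
import Cfsg.Prelude.Def_Blocks
import Cfsg.Agent.Lib.Helper8.RL1
import Cfsg.Agent.Lib.Helper8.TwoClass
import Cfsg.Agent.Lib.Helper8.KV10

/-!
# A real `2`-block of full defect is the principal block
-/

set_option autoImplicit false

namespace Cfsg.Agent.Lib.Helper8

open Cfsg
open scoped ComplexConjugate
open Cfsg.Agent.Lib.Helper1 Cfsg.Agent.Lib.Helper4

universe u

section

variable {G : Type u} [Group G] [Fintype G] {M : Ideal AlgInt}

/-- For a class function `F` with `F g⁻¹ = F g`, vanishing on elements of even order, and an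
irreducible character `ψ` of odd degree in the same block as its conjugate, `ω_ψ(F) ≡ F 1`. -/
theorem omega_sub_apply_one_memLocalIdeal (hM : IsPModular 2 M) {F : G → ℂ}
    (hFcf : IsClassFunction G F) (hFR : ∀ g, MemLocalRing M (F g)) (hFinv : ∀ g, F g⁻¹ = F g)
    (hFsing : ∀ g, 2 ∣ orderOf g → F g = 0) (ψ : IrrCharacter G)
    (hodd : ¬ 2 ∣ charDegree (ψ : G → ℂ))
    (hsame : SameBlock M (ψ : G → ℂ) (fun g => conj ((ψ : G → ℂ) g))) :
    MemLocalIdeal M (omega (ψ : G → ℂ) F - F 1) := by
  classical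
  haveI : Fintype (ConjClasses G) := Fintype.ofFinite _
  have hMp := isPModular_isPrime hM
  have hψcf := isClassFunction_irr ψ.2
  obtain ⟨hd, hdpos⟩ := irr_apply_one_eq_charDegree ψ.2
  have hd0 : ((charDegree (ψ : G → ℂ) : ℕ) : ℂ) ≠ 0 := Nat.cast_ne_zero.2 hdpos.ne'
  -- central character at the inverse
  have hcc_inv : ∀ g : G, centralChar (ψ : G → ℂ) g⁻¹ =
      centralChar (fun g => conj ((ψ : G → ℂ) g)) g := by
    intro g
    unfold centralChar
    have h1 : Subgroup.centralizer ({g⁻¹} : Set G) = Subgroup.centralizer ({g} : Set G) := by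
      ext x
      simp only [Subgroup.mem_centralizer_iff, Set.mem_singleton_iff, forall_eq]
      constructor
      · intro h
        have := congrArg (fun t => g * t * g) h
        simp only [mul_assoc, mul_inv_cancel_left, inv_mul_cancel, mul_one] at this
        simpa [mul_assoc] using this.symm
      · intro h
        have := congrArg (fun t => g⁻¹ * t * g⁻¹) h
        simp only [mul_assoc, mul_inv_cancel, mul_one, inv_mul_cancel_left] at this
        simpa [mul_assoc] using this.symm
    rw [h1, isCharacter_inv (isCharacter_of_irr ψ.2)]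
    simp only [hd, map_natCast]
  obtain ⟨rep, hrep⟩ : ∃ rep : ConjClasses G → G, ∀ c, rep c = Quotient.out c :=
    ⟨fun c => Quotient.out c, fun _ => rfl⟩
  have hrep_mk : ∀ c, ConjClasses.mk (rep c) = c := by
    intro c
    rw [hrep]
    exact Quotient.out_eq c
  have hconj_out : ∀ h : G, ∃ x : G, x * h * x⁻¹ = rep (ConjClasses.mk h) := by
    intro h
    exact isConj_iff.1 (ConjClasses.mk_eq_mk_iff_isConj.1 (hrep_mk (ConjClasses.mk h))).symm
  have hout1 : rep (ConjClasses.mk (1 : G)) = 1 := by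
    obtain ⟨x, hx⟩ := hconj_out 1
    rw [← hx]
    group
  obtain ⟨t, ht⟩ : ∃ t : ConjClasses G → ℂ,
      ∀ c, t c = F (rep c) * centralChar (ψ : G → ℂ) (rep c) := ⟨_, fun _ => rfl⟩
  obtain ⟨σ, hσdef⟩ : ∃ σ : ConjClasses G → ConjClasses G,
      ∀ c, σ c = ConjClasses.mk (rep c)⁻¹ := ⟨_, fun _ => rfl⟩
  have e : omega (ψ : G → ℂ) F = ∑ c, t c := by
    rw [omega_eq_sum_classes ψ.2 hFcf]
    refine Finset.sum_congr rfl fun c _ => ?_
    rw [ht, hrep]
  have ht1 : t (ConjClasses.mk (1 : G)) = F 1 := by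
    rw [ht, hout1]
    unfold centralChar
    have : Subgroup.centralizer ({(1 : G)} : Set G) = ⊤ := by
      ext x
      simp [Subgroup.mem_centralizer_iff]
    rw [this, Subgroup.index_top, hd, Nat.cast_one, one_mul, div_self hd0, mul_one]
  have h2mem : MemLocalIdeal M (2 : ℂ) := by
    have := memLocalIdeal_prime hM
    simpa using this
  rw [e, ← ht1]
  refine pred_sum_of_involution (MemLocalIdeal M) (memLocalIdeal_zero hMp.ne_top)
    (fun a b ha hb => memLocalIdeal_add hMp ha hb) σ ?_ t (ConjClasses.mk 1) ?_ ?_ ?_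
  · -- involutive
    intro c
    rw [hσdef (σ c), hσdef c]
    obtain ⟨x, hx⟩ := hconj_out (rep c)⁻¹
    rw [← hx]
    have : (x * (rep c)⁻¹ * x⁻¹)⁻¹ = x * rep c * x⁻¹ := by group
    rw [this]
    have h2 : ConjClasses.mk (x * rep c * x⁻¹) = ConjClasses.mk (rep c) :=
      ConjClasses.mk_eq_mk_iff_isConj.2 (isConj_iff.2 ⟨x, rfl⟩).symm
    rw [h2]
    exact hrep_mk c
  · -- pairs
    intro c _
    obtain ⟨x, hx⟩ := hconj_out (rep c)⁻¹
    rw [ht c, ht (σ c), hσdef c, ← hx, hFcf, hFinv, centralChar_conj hψcf, hcc_inv, ← mul_add]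
    apply memLocalIdeal_mul_left hMp (hFR _)
    have h2 : centralChar (ψ : G → ℂ) (rep c) +
        centralChar (fun g => conj ((ψ : G → ℂ) g)) (rep c) =
        (2 : ℂ) * centralChar (ψ : G → ℂ) (rep c) -
          (centralChar (ψ : G → ℂ) (rep c) -
            centralChar (fun g => conj ((ψ : G → ℂ) g)) (rep c)) := by ring
    rw [h2]
    apply memLocalIdeal_sub hMp
    · exact memLocalIdeal_mul_right hMp h2mem (memLocalRing_centralChar hMp.ne_top ψ.2 _)
    · exact hsame _
  · -- fixed classes
    intro c hc hc1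
    rw [ht c]
    obtain ⟨g, hg⟩ : ∃ g, g = rep c := ⟨_, rfl⟩
    rw [← hg]
    have hreal : IsConj g g⁻¹ := by
      have h1 : ConjClasses.mk g⁻¹ = ConjClasses.mk g := by
        rw [hg, ← hσdef c, hc, hrep_mk]
      exact (ConjClasses.mk_eq_mk_iff_isConj.1 h1).symm
    have hg1 : g ≠ 1 := by
      intro h
      apply hc1
      rw [← hrep_mk c, ← hg, h]
    by_cases hsing : 2 ∣ orderOf g
    · rw [hFsing g hsing, zero_mul]
      exact memLocalIdeal_zero hMp.ne_top
    · apply memLocalIdeal_mul_left hMp (hFR _)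
      obtain ⟨m, hm⟩ := even_card_isConj_of_real hsing hg1 hreal
      have hidx : (Subgroup.centralizer ({g} : Set G)).index = 2 * m := by
        have h1 := card_isConj_mul_card_centralizer g
        have h2 := Subgroup.index_mul_card (Subgroup.centralizer ({g} : Set G))
        rw [← h2] at h1
        have h3 := Nat.eq_of_mul_eq_mul_right Nat.card_pos h1
        rw [← h3, hm]
      unfold centralChar
      rw [hidx, hd]
      have : ((2 * m : ℕ) : ℂ) * (ψ : G → ℂ) g / ((charDegree (ψ : G → ℂ) : ℕ) : ℂ) =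
          (2 : ℂ) * ((m : ℂ) * (ψ : G → ℂ) g * ((charDegree (ψ : G → ℂ) : ℕ) : ℂ)⁻¹) := by
        push_cast
        field_simp
      rw [this]
      apply memLocalIdeal_mul_right hMp h2mem
      apply memLocalRing_mul hMp
      · apply memLocalRing_mul hMp (memLocalRing_natCast hMp.ne_top m)
        exact memLocalRing_of_isIntegral hMp.ne_top
          (isIntegral_charValue (isCharacter_of_irr ψ.2) g)
      · exact memLocalRing_inv_natCast hM hodd
  · -- the base class is fixed
    rw [hσdef, hout1, inv_one]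

end

end Cfsg.Agent.Lib.Helper8
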