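import Mathlib
import Cfsg.Prelude.Def_Blocks
import Cfsg.Agent.Lib.Helper8.RL2

/-!
# A real `2`-block of full defect is the principal block: the theorem
-/

set_option autoImplicit false

namespace Cfsg.Agent.Lib.Helper8

open Cfsg
open scoped ComplexConjugate
open Cfsg.Agent.Lib.Helper1 Cfsg.Agent.Lib.Helper4

universe u

section

variable {G : Type u} [Group G] [Fintype G] {M : Ideal AlgInt}

/-- The complex conjugate of an irreducible character. -/
noncomputable def barIrr (χ : IrrCharacter G) : IrrCharacter G :=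
  ⟨fun g => conj ((χ : G → ℂ) g), isIrrCharacter_conj χ.2⟩

theorem barIrr_apply (χ : IrrCharacter G) (g : G) :
    (barIrr χ : G → ℂ) g = conj ((χ : G → ℂ) g) := rfl

theorem barIrr_barIrr (χ : IrrCharacter G) : barIrr (barIrr χ) = χ := by
  apply Subtype.ext
  funext g
  rw [barIrr_apply, barIrr_apply, Complex.conj_conj]

theorem real_full_defect_block_eq_principal (hM : IsPModular 2 M) {B : Set (IrrCharacter G)}
    (hB : IsPBlock M B) (P : Sylow 2 G) (hfull : IsDefectGroup 2 M B (P : Subgroup G))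
    (hreal : ∀ χ ∈ B, barIrr χ ∈ B) : B = principalBlock M G := by
  classical
  haveI : Fintype (IrrCharacter G) := Fintype.ofFinite _
  haveI : Fact (Nat.Prime 2) := ⟨Nat.prime_two⟩
  have hMp := isPModular_isPrime hM
  -- an odd degree character in `B`
  obtain ⟨χ₀, hχ₀B, hχ₀odd⟩ : ∃ χ₀ ∈ B, ¬ 2 ∣ charDegree (χ₀ : G → ℂ) := by
    obtain ⟨g, hg, Q, hPQ⟩ := hfull
    have h1 := card_sylow_centralizer_of_isDefectClass hM hB hg Q
    have h2 : Nat.card (P : Subgroup G) = Nat.card Q := by
      rw [hPQ]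
      exact Nat.card_congr (Subgroup.equivMapOfInjective _ _
        (Subgroup.subtype_injective _)).symm.toEquiv
    rw [P.card_eq_multiplicity, h1] at h2
    have h3 : (Nat.card G).factorization 2 = blockDefect 2 B :=
      Nat.pow_right_injective (le_refl 2) h2
    obtain ⟨χ₀, hχ₀B, h0⟩ := exists_height_zero (p := 2) hMp hB
    refine ⟨χ₀, hχ₀B, ?_⟩
    have h4 := (block_valuations (p := 2) hχ₀B).1
    rw [h0, ← h3] at h4
    have h5 : (charDegree (χ₀ : G → ℂ)).factorization 2 = 0 := by omega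
    have hpos := (irr_apply_one_eq_charDegree χ₀.2).2
    rcases (Nat.factorization_eq_zero_iff _ _).1 h5 with h | h | h
    · exact absurd Nat.prime_two h
    · exact h
    · omega
  -- the block idempotent
  have hFcf := isClassFunction_blockCoeff B
  have hFR := blockCoeff_memLocalRing hMp hB
  have hFsing : ∀ g : G, 2 ∣ orderOf g → blockCoeff B g = 0 :=
    fun g hg => blockCoeff_eq_zero_of_dvd_orderOf hM hB hg
  have hmem_iff : ∀ χ : IrrCharacter G, barIrr χ ∈ B ↔ χ ∈ B := by
    intro χ
    constructor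
    · intro h
      have := hreal _ h
      rwa [barIrr_barIrr] at this
    · exact hreal χ
  have hFinv : ∀ g : G, blockCoeff B g⁻¹ = blockCoeff B g := by
    intro g
    rw [blockCoeff_eq_sum B g⁻¹, blockCoeff_eq_sum B g]
    congr 1
    rw [← Equiv.sum_comp ⟨barIrr, barIrr, barIrr_barIrr, barIrr_barIrr⟩]
    refine Finset.sum_congr rfl fun χ _ => ?_
    show (if barIrr χ ∈ B then (1 : ℂ) else 0) * (barIrr χ : G → ℂ) 1 *
      conj ((barIrr χ : G → ℂ) g⁻¹) = _
    rw [barIrr_apply, barIrr_apply, Complex.conj_conj,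
      isCharacter_inv (isCharacter_of_irr χ.2), (irr_apply_one_eq_charDegree χ.2).1,
      Complex.conj_natCast]
    by_cases h : χ ∈ B
    · rw [if_pos h, if_pos ((hmem_iff χ).2 h)]
    · rw [if_neg h, if_neg (fun h' => h ((hmem_iff χ).1 h'))]
  -- the two congruences
  obtain ⟨χ', rfl⟩ := hB
  have hsame₀ : SameBlock M (χ₀ : G → ℂ) (fun g => conj ((χ₀ : G → ℂ) g)) := by
    have h1 : SameBlock M (χ' : G → ℂ) (χ₀ : G → ℂ) := hχ₀B
    have h2 : SameBlock M (χ' : G → ℂ) (barIrr χ₀ : G → ℂ) := hreal χ₀ hχ₀B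
    exact sameBlock_trans hMp (sameBlock_symm h1) h2
  have hc₀ := omega_sub_apply_one_memLocalIdeal hM hFcf hFR hFinv hFsing χ₀ hχ₀odd hsame₀
  have htriv_fn : (trivIrr G : G → ℂ) = fun _ => 1 := by
    funext x
    exact trivIrr_apply x
  have hdeg1 : charDegree (trivIrr G : G → ℂ) = 1 := by
    have h := (irr_apply_one_eq_charDegree (trivIrr G).2).1
    rw [trivIrr_apply] at h
    exact_mod_cast h.symm
  have hsame₁ : SameBlock M (trivIrr G : G → ℂ) (fun g => conj ((trivIrr G : G → ℂ) g)) := by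
    have : (fun g => conj ((trivIrr G : G → ℂ) g)) = (trivIrr G : G → ℂ) := by
      funext g
      rw [trivIrr_apply, map_one]
    rw [this]
    exact sameBlock_refl hMp.ne_top _
  have hc₁ := omega_sub_apply_one_memLocalIdeal hM hFcf hFR hFinv hFsing (trivIrr G)
    (by rw [hdeg1]; norm_num) hsame₁
  rw [omega_blockCoeff] at hc₀ hc₁
  rw [if_pos hχ₀B] at hc₀
  have htrivB : trivIrr G ∈ blockOf M (χ' : G → ℂ) := by
    by_contra hnot
    rw [if_neg hnot] at hc₁
    have := memLocalIdeal_sub hMp hc₀ hc₁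
    have h2 : (1 - blockCoeff (blockOf M (χ' : G → ℂ)) 1) -
        (0 - blockCoeff (blockOf M (χ' : G → ℂ)) 1) = 1 := by ring
    rw [h2] at this
    exact not_memLocalIdeal_one hMp this
  -- conclude
  have h1 : SameBlock M (χ' : G → ℂ) (fun _ : G => (1 : ℂ)) := by
    have : SameBlock M (χ' : G → ℂ) (trivIrr G : G → ℂ) := htrivB
    rwa [htriv_fn] at this
  unfold principalBlock
  ext ψ
  constructor
  · intro h
    exact sameBlock_trans hMp (sameBlock_symm h1) h
  · intro h
    exact sameBlock_trans hMp h1 h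

end

end Cfsg.Agent.Lib.Helper8
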