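import Mathlib
import Cfsg.Prelude.Def_RootSubgroups
import Cfsg.Agent.Lib.Helper8.RG11

/-!
# Central chains, commutators on generators
-/

set_option autoImplicit false

namespace Cfsg.Agent.Lib.Helper8

variable {G : Type*} [Group G]

open scoped commutatorElement

/-- A subgroup with a finite chain of subgroups, each commutator step landing in the next member,
is nilpotent. -/
theorem nilpotent_of_chain (R : Subgroup G) (H : ℕ → Subgroup G) (n : ℕ) (h0 : H 0 = R)
    (hn : H n = ⊥)
    (hc : ∀ i, ∀ x ∈ H i, ∀ g ∈ R, x * g * x⁻¹ * g⁻¹ ∈ H (i + 1)) :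
    Group.IsNilpotent ↥R := by
  rw [Subgroup.nilpotent_iff_finite_descending_central_series]
  refine ⟨n, fun i => (H i).subgroupOf R, ⟨?_, ?_⟩, ?_⟩
  · show (H 0).subgroupOf R = ⊤
    rw [h0]; exact Subgroup.subgroupOf_self R
  · intro x i hx g
    rw [Subgroup.mem_subgroupOf] at hx ⊢
    have := hc i x hx g g.2
    simpa [commutatorElement_def] using this
  · show (H n).subgroupOf R = ⊥
    rw [hn]; exact Subgroup.bot_subgroupOf R

/-- Commutators with a subgroup normalizing `N` land in `N` as soon as they do on generators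
(second variable). -/
theorem comm_mem_of_gens_right {N : Subgroup G} {T : Set G}
    (hN : ∀ t ∈ T, ∀ n ∈ N, t * n * t⁻¹ ∈ N ∧ t⁻¹ * n * t ∈ N) {k : G}
    (hk : ∀ t ∈ T, k * t * k⁻¹ * t⁻¹ ∈ N) :
    ∀ g ∈ Subgroup.closure T, k * g * k⁻¹ * g⁻¹ ∈ N := by
  -- the closure normalizes `N`
  have hnorm : ∀ g ∈ Subgroup.closure T, ∀ n ∈ N, g * n * g⁻¹ ∈ N ∧ g⁻¹ * n * g ∈ N := by
    intro g hg
    induction hg using Subgroup.closure_induction with
    | mem t ht => exact hN t ht
    | one => intro n hn; simpa using hn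
    | mul x y _ _ hx hy =>
      intro n hn
      constructor
      · have := (hx _ ((hy n hn).1)).1
        have e : x * y * n * (x * y)⁻¹ = x * (y * n * y⁻¹) * x⁻¹ := by group
        rw [e]; exact this
      · have := (hy _ ((hx n hn).2)).2
        have e : (x * y)⁻¹ * n * (x * y) = y⁻¹ * (x⁻¹ * n * x) * y := by group
        rw [e]; exact this
    | inv x _ hx =>
      intro n hn
      constructor
      · have := (hx n hn).2
        simpa using this
      · have := (hx n hn).1
        simpa using this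
  intro g hg
  induction hg using Subgroup.closure_induction with
  | mem t ht => exact hk t ht
  | one => simp
  | mul x y hx' hy' hx hy =>
    have e : k * (x * y) * k⁻¹ * (x * y)⁻¹ =
        (k * x * k⁻¹ * x⁻¹) * (x * (k * y * k⁻¹ * y⁻¹) * x⁻¹) := by group
    rw [e]
    exact N.mul_mem hx ((hnorm x hx' _ hy).1)
  | inv x hx' hx =>
    have e : k * x⁻¹ * k⁻¹ * x⁻¹⁻¹ = x⁻¹ * (k * x * k⁻¹ * x⁻¹)⁻¹ * x := by group
    rw [e]
    exact (hnorm x hx' _ (N.inv_mem hx)).2

/-- Commutators land in `N` as soon as they do on generators (both variables), when the second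
closure normalizes `N` and contains the first set of generators. -/
theorem comm_mem_of_gens {N : Subgroup G} {T T' : Set G}
    (hN : ∀ t ∈ T, ∀ n ∈ N, t * n * t⁻¹ ∈ N ∧ t⁻¹ * n * t ∈ N)
    (hT' : T' ⊆ Subgroup.closure T)
    (hk : ∀ k ∈ T', ∀ t ∈ T, k * t * k⁻¹ * t⁻¹ ∈ N) :
    ∀ k ∈ Subgroup.closure T', ∀ g ∈ Subgroup.closure T, k * g * k⁻¹ * g⁻¹ ∈ N := by
  have hnorm : ∀ g ∈ Subgroup.closure T, ∀ n ∈ N, g * n * g⁻¹ ∈ N ∧ g⁻¹ * n * g ∈ N := by
    intro g hg
    induction hg using Subgroup.closure_induction with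
    | mem t ht => exact hN t ht
    | one => intro n hn; simpa using hn
    | mul x y _ _ hx hy =>
      intro n hn
      constructor
      · have := (hx _ ((hy n hn).1)).1
        have e : x * y * n * (x * y)⁻¹ = x * (y * n * y⁻¹) * x⁻¹ := by group
        rw [e]; exact this
      · have := (hy _ ((hx n hn).2)).2
        have e : (x * y)⁻¹ * n * (x * y) = y⁻¹ * (x⁻¹ * n * x) * y := by group
        rw [e]; exact this
    | inv x _ hx =>
      intro n hn
      constructor
      · have := (hx n hn).2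
        simpa using this
      · have := (hx n hn).1
        simpa using this
  have hT'le : Subgroup.closure T' ≤ Subgroup.closure T := (Subgroup.closure_le _).mpr hT'
  intro k hk'
  induction hk' using Subgroup.closure_induction with
  | mem k hkT => exact comm_mem_of_gens_right hN (hk k hkT)
  | one => intro g _; simp
  | mul x y hx' hy' hx hy =>
    intro g hg
    have e : (x * y) * g * (x * y)⁻¹ * g⁻¹ =
        (x * (y * g * y⁻¹ * g⁻¹) * x⁻¹) * (x * g * x⁻¹ * g⁻¹) := by group
    rw [e]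
    exact N.mul_mem ((hnorm x (hT'le hx') _ (hy g hg)).1) (hx g hg)
  | inv x hx' hx =>
    intro g hg
    have e : x⁻¹ * g * x⁻¹⁻¹ * g⁻¹ = x⁻¹ * (x * g * x⁻¹ * g⁻¹)⁻¹ * x := by group
    rw [e]
    exact (hnorm x (hT'le hx') _ (N.inv_mem (hx g hg))).2

theorem sup_eq_closure_union (A B : Subgroup G) : A ⊔ B = Subgroup.closure ((A : Set G) ∪ B) := by
  rw [Subgroup.closure_union, Subgroup.closure_eq, Subgroup.closure_eq]

theorem sup3_eq_closure_union (A B C : Subgroup G) :
    A ⊔ B ⊔ C = Subgroup.closure ((A : Set G) ∪ B ∪ C) := by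
  rw [Subgroup.closure_union, Subgroup.closure_union, Subgroup.closure_eq, Subgroup.closure_eq,
    Subgroup.closure_eq]

/-- Two subgroups commuting elementwise with two others: the joins commute. -/
theorem commutator_sup_sup_eq_bot {P₁ P₂ Q₁ Q₂ : Subgroup G}
    (h11 : ∀ p ∈ P₁, ∀ q ∈ Q₁, p * q = q * p) (h12 : ∀ p ∈ P₁, ∀ q ∈ Q₂, p * q = q * p)
    (h21 : ∀ p ∈ P₂, ∀ q ∈ Q₁, p * q = q * p) (h22 : ∀ p ∈ P₂, ∀ q ∈ Q₂, p * q = q * p) :
    ⁅P₁ ⊔ P₂, Q₁ ⊔ Q₂⁆ = ⊥ := by
  rw [Subgroup.commutator_eq_bot_iff_le_centralizer]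
  have key : ∀ P : Subgroup G, (∀ p ∈ P, ∀ q ∈ Q₁, p * q = q * p) →
      (∀ p ∈ P, ∀ q ∈ Q₂, p * q = q * p) →
      P ≤ Subgroup.centralizer ((Q₁ ⊔ Q₂ : Subgroup G) : Set G) := by
    intro P hP1 hP2
    rw [Subgroup.le_centralizer_iff]
    apply sup_le
    · intro q hq
      rw [Subgroup.mem_centralizer_iff]
      intro p hp
      exact hP1 p hp q hq
    · intro q hq
      rw [Subgroup.mem_centralizer_iff]
      intro p hp
      exact hP2 p hp q hq
  exact sup_le (key P₁ h11 h12) (key P₂ h21 h22)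

section Class2

variable {S : Set (Subgroup G)}

/-- In the commutator case, `A ⊔ B` is nilpotent of class two. -/
theorem commCase_class_two (hS : Cfsg.IsRootSubgroupSet S) {A B : Subgroup G} (hA : A ∈ S)
    (hB : B ∈ S) (h : Cfsg.RootCommutatorCase S A B) :
    ⁅⁅A ⊔ B, A ⊔ B⁆, A ⊔ B⁆ = ⊥ := by
  have hAab := hS.commutative A hA
  have hBab := hS.commutative B hB
  have hcent : ∀ c ∈ ⁅A, B⁆, ∀ x ∈ A ⊔ B, c * x = x * c := h.2.1
  have h1 : ⁅A ⊔ B, A ⊔ B⁆ ≤ ⁅A, B⁆ := by
    rw [Subgroup.commutator_le]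
    intro x hx y hy
    rw [commutatorElement_def]
    rw [sup_eq_closure_union] at hx hy
    refine comm_mem_of_gens (N := ⁅A, B⁆) (T := (A : Set G) ∪ B) (T' := (A : Set G) ∪ B)
      ?_ Subgroup.subset_closure ?_ x hx y hy
    · intro t ht n hn
      have htm : t ∈ A ⊔ B := by
        rcases ht with ht | ht
        · exact Subgroup.mem_sup_left ht
        · exact Subgroup.mem_sup_right ht
      have e1 := hcent n hn t htm
      have e2 : t * n * t⁻¹ = n := by rw [← e1]; group
      have e3 : t⁻¹ * n * t = n := by rw [mul_assoc, e1]; group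
      rw [e2, e3]; exact ⟨hn, hn⟩
    · intro k hk t ht
      rcases hk with hk | hk <;> rcases ht with ht | ht
      · have := mul_comm_of_mem_commutative hAab hk ht
        have e : k * t * k⁻¹ * t⁻¹ = 1 := by rw [this]; group
        rw [e]; exact Subgroup.one_mem _
      · exact comm_mem_commutator hk ht
      · have := comm_mem_commutator (A := A) (B := B) ht hk
        have e : k * t * k⁻¹ * t⁻¹ = (t * k * t⁻¹ * k⁻¹)⁻¹ := by group
        rw [e]; exact Subgroup.inv_mem _ this
      · have := mul_comm_of_mem_commutative hBab hk ht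
        have e : k * t * k⁻¹ * t⁻¹ = 1 := by rw [this]; group
        rw [e]; exact Subgroup.one_mem _
  rw [eq_bot_iff]
  refine le_trans (Subgroup.commutator_mono h1 le_rfl) ?_
  rw [Subgroup.commutator_le]
  intro c hc x hx
  rw [commutatorElement_def, Subgroup.mem_bot, hcent c hc x hx]
  group

theorem commCase_not_commutative (hS : Cfsg.IsRootSubgroupSet S) {A B : Subgroup G}
    (h : Cfsg.RootCommutatorCase S A B) : ¬ IsMulCommutative ↥(A ⊔ B) := by
  intro hcomm
  apply hS.ne_bot _ h.1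
  apply commutator_eq_bot_of_comm
  intro a ha b hb
  exact mul_comm_of_mem_commutative hcomm (Subgroup.mem_sup_left ha) (Subgroup.mem_sup_right hb)

theorem isMulCommutative_of_comm {X : Subgroup G} (h : ∀ x ∈ X, ∀ y ∈ X, x * y = y * x) :
    IsMulCommutative ↥X :=
  ⟨⟨fun x y => Subtype.ext (h x x.2 y y.2)⟩⟩

end Class2

end Cfsg.Agent.Lib.Helper8
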