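import Mathlib
import Cfsg.Prelude.Def_RootSubgroups
import Cfsg.Agent.Lib.Helper8.RN1

/-!
# Three root subgroups `A, B, C` with `⁅A, B⁆, ⁅C, B⁆ ∈ S` and `⁅A, C⁆ = 1`
-/

set_option autoImplicit false

namespace Cfsg.Agent.Lib.Helper8

variable {G : Type*} [Group G]

open scoped commutatorElement

/-- The configuration: `(A, B)` and `(C, B)` in the commutator case, `A` and `C` commuting. -/
structure TripleCfg (S : Set (Subgroup G)) (A B C : Subgroup G) : Prop where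
  hS : Cfsg.IsRootSubgroupSet S
  hA : A ∈ S
  hB : B ∈ S
  hC : C ∈ S
  comAB : Cfsg.RootCommutatorCase S A B
  comCB : Cfsg.RootCommutatorCase S C B
  comm : ∀ a ∈ A, ∀ c ∈ C, a * c = c * a

section Triple

variable {S : Set (Subgroup G)} {A B C : Subgroup G}

theorem TripleCfg.symm (t : TripleCfg S A B C) : TripleCfg S C B A where
  hS := t.hS
  hA := t.hC
  hB := t.hB
  hC := t.hA
  comAB := t.comCB
  comCB := t.comAB
  comm := fun c hc a ha => (t.comm a ha c hc).symm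

/-- If `x` commutes with all elements of `P` and of `Q`, it commutes with all of `P ⊔ Q`. -/
theorem comm_sup_of_comm {P Q : Subgroup G} {x : G} (hP : ∀ p ∈ P, x * p = p * x)
    (hQ : ∀ q ∈ Q, x * q = q * x) : ∀ y ∈ P ⊔ Q, x * y = y * x := by
  have : P ⊔ Q ≤ Subgroup.centralizer ({x} : Set G) := by
    apply sup_le
    · intro p hp
      rw [Subgroup.mem_centralizer_iff]
      intro y hy
      rw [Set.mem_singleton_iff] at hy
      rw [hy]; exact hP p hp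
    · intro q hq
      rw [Subgroup.mem_centralizer_iff]
      intro y hy
      rw [Set.mem_singleton_iff] at hy
      rw [hy]; exact hQ q hq
  intro y hy
  have h := this hy
  rw [Subgroup.mem_centralizer_iff] at h
  exact h x rfl

theorem TripleCfg.comm_AA (t : TripleCfg S A B C) {a a' : G} (ha : a ∈ A) (ha' : a' ∈ A) :
    a * a' = a' * a := mul_comm_of_mem_commutative (t.hS.commutative A t.hA) ha ha'

theorem TripleCfg.comm_BB (t : TripleCfg S A B C) {b b' : G} (hb : b ∈ B) (hb' : b' ∈ B) :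
    b * b' = b' * b := mul_comm_of_mem_commutative (t.hS.commutative B t.hB) hb hb'

theorem TripleCfg.comm_EA (t : TripleCfg S A B C) {e a : G} (he : e ∈ ⁅A, B⁆) (ha : a ∈ A) :
    e * a = a * e := commCase_central_left t.comAB he ha

theorem TripleCfg.comm_EB (t : TripleCfg S A B C) {e b : G} (he : e ∈ ⁅A, B⁆) (hb : b ∈ B) :
    e * b = b * e := commCase_central_right t.comAB he hb

/-- `a` commutes with `A ⊔ ⁅A, B⁆`. -/
theorem TripleCfg.comm_A_AE (t : TripleCfg S A B C) {a : G} (ha : a ∈ A) :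
    ∀ y ∈ A ⊔ ⁅A, B⁆, a * y = y * a :=
  comm_sup_of_comm (fun p hp => t.comm_AA ha hp) (fun q hq => (t.comm_EA hq ha).symm)

/-- `c ∈ C` commutes with `A ⊔ ⁅A, B⁆` iff ... ; here: `a` commutes with `C`. -/
theorem TripleCfg.conjBy_A_le (t : TripleCfg S A B C) {b : G} (hb : b ∈ B) :
    Cfsg.conjBy A b ≤ A ⊔ ⁅A, B⁆ := conjBy_le_sup_commutator hb

theorem TripleCfg.conjBy_E (t : TripleCfg S A B C) {b : G} (hb : b ∈ B) :
    Cfsg.conjBy ⁅A, B⁆ b = ⁅A, B⁆ := commCase_conjBy_commutator t.comAB hb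

/-- The subgroups `X = A ⊔ b⁻¹ C b` and `Y = b⁻¹ A b ⊔ C` commute. -/
theorem TripleCfg.commutator_XY (t : TripleCfg S A B C) {b : G} (hb : b ∈ B) :
    ⁅A ⊔ Cfsg.conjBy C b⁻¹, Cfsg.conjBy A b⁻¹ ⊔ C⁆ = ⊥ := by
  have hb' : b⁻¹ ∈ B := B.inv_mem hb
  apply commutator_sup_sup_eq_bot
  · intro a ha q hq
    exact t.comm_A_AE ha q (t.conjBy_A_le hb' hq)
  · intro a ha c hc
    exact t.comm a ha c hc
  · intro p hp q hq
    rw [mem_conjBy, inv_inv] at hp hq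
    have h := t.comm _ hq _ hp
    have e1 : p * q = b⁻¹ * ((b * p * b⁻¹) * (b * q * b⁻¹)) * b := by group
    have e2 : q * p = b⁻¹ * ((b * q * b⁻¹) * (b * p * b⁻¹)) * b := by group
    rw [e1, e2, h]
  · intro p hp c hc
    exact (t.symm.comm_A_AE hc p (t.symm.conjBy_A_le hb' hp)).symm

/-- `⁅A, B⁆ ≤ A ⊔ b⁻¹ A b` for `1 ≠ b ∈ B`. -/
theorem TripleCfg.E_le (t : TripleCfg S A B C) {b : G} (hb : b ∈ B) (hb1 : b ≠ 1) :
    ⁅A, B⁆ ≤ A ⊔ Cfsg.conjBy A b⁻¹ := by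
  intro e he
  have hb' : b⁻¹ ∈ B := B.inv_mem hb
  have hb1' : b⁻¹ ≠ 1 := fun h => hb1 (inv_eq_one.mp h)
  obtain ⟨a, ha, hEq⟩ := commCase_surj_left t.comAB hb' hb1' he
  rw [inv_inv] at hEq
  have e1 : e = a * (b⁻¹ * a⁻¹ * b) := by rw [← hEq]; group
  rw [e1]
  refine Subgroup.mul_mem _ (Subgroup.mem_sup_left ha) (Subgroup.mem_sup_right ?_)
  have := conj_mem_conjBy (A := A) (g := b⁻¹) (A.inv_mem ha)
  rwa [inv_inv] at this

/-- `X ⊔ Y = (A ⊔ ⁅A, B⁆) ⊔ (C ⊔ ⁅C, B⁆)`. -/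
theorem TripleCfg.XY_eq (t : TripleCfg S A B C) {b : G} (hb : b ∈ B) (hb1 : b ≠ 1) :
    (A ⊔ Cfsg.conjBy C b⁻¹) ⊔ (Cfsg.conjBy A b⁻¹ ⊔ C) = (A ⊔ ⁅A, B⁆) ⊔ (C ⊔ ⁅C, B⁆) := by
  have hb' : b⁻¹ ∈ B := B.inv_mem hb
  apply le_antisymm
  · apply sup_le
    · apply sup_le (le_trans le_sup_left le_sup_left)
      exact le_trans (t.symm.conjBy_A_le hb') le_sup_right
    · apply sup_le (le_trans (t.conjBy_A_le hb') le_sup_left)
      exact le_trans le_sup_left le_sup_right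
  · apply sup_le
    · apply sup_le (le_trans le_sup_left le_sup_left)
      refine le_trans (t.E_le hb hb1) (sup_le (le_trans le_sup_left le_sup_left) ?_)
      exact le_trans le_sup_left le_sup_right
    · apply sup_le (le_trans le_sup_right le_sup_right)
      refine le_trans (t.symm.E_le hb hb1) (sup_le (le_trans le_sup_right le_sup_right) ?_)
      exact le_trans le_sup_right le_sup_left

/-- `M = (A ⊔ ⁅A, B⁆) ⊔ (C ⊔ ⁅C, B⁆)` is normalized by `A ⊔ B ⊔ C`. -/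
theorem TripleCfg.conjBy_M (t : TripleCfg S A B C) {r : G} (hr : r ∈ A ⊔ B ⊔ C) :
    Cfsg.conjBy ((A ⊔ ⁅A, B⁆) ⊔ (C ⊔ ⁅C, B⁆)) r = (A ⊔ ⁅A, B⁆) ⊔ (C ⊔ ⁅C, B⁆) := by
  rw [conjBy_eq_self_iff]
  revert r
  show A ⊔ B ⊔ C ≤ _
  have hAM : A ≤ (A ⊔ ⁅A, B⁆) ⊔ (C ⊔ ⁅C, B⁆) := le_trans le_sup_left le_sup_left
  have hCM : C ≤ (A ⊔ ⁅A, B⁆) ⊔ (C ⊔ ⁅C, B⁆) := le_trans le_sup_left le_sup_right
  refine sup_le (sup_le (le_trans hAM Subgroup.le_normalizer) ?_) (le_trans hCM Subgroup.le_normalizer)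
  have key : ∀ b ∈ B, Cfsg.conjBy ((A ⊔ ⁅A, B⁆) ⊔ (C ⊔ ⁅C, B⁆)) b ≤
      (A ⊔ ⁅A, B⁆) ⊔ (C ⊔ ⁅C, B⁆) := by
    intro b hb
    rw [conjBy_sup, conjBy_sup, conjBy_sup, t.conjBy_E hb, t.symm.conjBy_E hb]
    apply sup_le
    · exact sup_le (le_trans (t.conjBy_A_le hb) le_sup_left) (le_trans le_sup_right le_sup_left)
    · exact sup_le (le_trans (t.symm.conjBy_A_le hb) le_sup_right)
        (le_trans le_sup_right le_sup_right)
  intro b hb
  rw [← conjBy_eq_self_iff]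
  exact conjBy_eq_self_of_le (key b hb) (key b⁻¹ (B.inv_mem hb))

theorem TripleCfg.M_sup_B (t : TripleCfg S A B C) :
    ((A ⊔ ⁅A, B⁆) ⊔ (C ⊔ ⁅C, B⁆)) ⊔ B = A ⊔ B ⊔ C := by
  apply le_antisymm
  · apply sup_le _ (le_trans le_sup_right le_sup_left)
    apply sup_le
    · exact sup_le (le_trans le_sup_left le_sup_left) (le_trans commutator_le_sup' le_sup_left)
    · refine sup_le le_sup_right (le_trans commutator_le_sup' ?_)
      exact sup_le le_sup_right (le_trans le_sup_right le_sup_left)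
  · apply sup_le (sup_le _ le_sup_right)
    · exact le_trans (le_trans le_sup_left le_sup_right) le_sup_left
    · exact le_trans (le_trans le_sup_left le_sup_left) le_sup_left

end Triple

end Cfsg.Agent.Lib.Helper8
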