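import Mathlib
import Cfsg.Prelude.Def_RootSubgroups
import Cfsg.Agent.Lib.Helper8.RN2
import Cfsg.Agent.S5025

/-!
# Three root subgroups: the dichotomy for `X` and `Y`
-/

set_option autoImplicit false

namespace Cfsg.Agent.Lib.Helper8

variable {G : Type*} [Group G]

open scoped commutatorElement

/-- If `x` commutes with `p` and `q`, it commutes with their commutator. -/
theorem comm_word4 {x p q : G} (hp : x * p = p * x) (hq : x * q = q * x) :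
    x * (p * q * p⁻¹ * q⁻¹) = (p * q * p⁻¹ * q⁻¹) * x := by
  have hp' : p ∈ Subgroup.centralizer ({x} : Set G) := by
    rw [Subgroup.mem_centralizer_iff]
    intro y hy
    rw [Set.mem_singleton_iff] at hy
    rw [hy]; exact hp
  have hq' : q ∈ Subgroup.centralizer ({x} : Set G) := by
    rw [Subgroup.mem_centralizer_iff]
    intro y hy
    rw [Set.mem_singleton_iff] at hy
    rw [hy]; exact hq
  have h := Subgroup.mul_mem _ (Subgroup.mul_mem _ (Subgroup.mul_mem _ hp' hq')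
    (Subgroup.inv_mem _ hp')) (Subgroup.inv_mem _ hq')
  rw [Subgroup.mem_centralizer_iff] at h
  exact h x rfl

theorem comm_inv_of_comm {x p : G} (hp : x * p = p * x) : x * p⁻¹ = p⁻¹ * x := by
  have : p⁻¹ * (x * p) * p⁻¹ = p⁻¹ * (p * x) * p⁻¹ := by rw [hp]
  have e1 : p⁻¹ * (x * p) * p⁻¹ = p⁻¹ * x := by group
  have e2 : p⁻¹ * (p * x) * p⁻¹ = x * p⁻¹ := by group
  rw [e1, e2] at this; exact this.symm

/-- The key identity: `[a, b⁻¹ c b] = [a, f]` when `b⁻¹ c b = c f` and `c` commutes with `a, f`. -/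
theorem key_identity {a c b f : G} (hac : a * c = c * a) (hcf : c * f = f * c)
    (hf : b⁻¹ * c * b = c * f) :
    a * (b⁻¹ * c * b) * a⁻¹ * (b⁻¹ * c * b)⁻¹ = a * f * a⁻¹ * f⁻¹ := by
  rw [hf]
  have hcw : c * (a * f * a⁻¹ * f⁻¹) = (a * f * a⁻¹ * f⁻¹) * c := comm_word4 hac.symm hcf
  calc a * (c * f) * a⁻¹ * (c * f)⁻¹ = (a * c) * f * a⁻¹ * f⁻¹ * c⁻¹ := by group
    _ = (c * a) * f * a⁻¹ * f⁻¹ * c⁻¹ := by rw [hac]
    _ = (c * (a * f * a⁻¹ * f⁻¹)) * c⁻¹ := by group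
    _ = ((a * f * a⁻¹ * f⁻¹) * c) * c⁻¹ := by rw [hcw]
    _ = a * f * a⁻¹ * f⁻¹ := by group

section Triple

variable {S : Set (Subgroup G)} {A B C : Subgroup G}

/-- For `c ∈ C`, `b ∈ B`: `c⁻¹ b⁻¹ c b ∈ ⁅C, B⁆`. -/
theorem TripleCfg.f_mem (t : TripleCfg S A B C) {c b : G} (hc : c ∈ C) (hb : b ∈ B) :
    c⁻¹ * b⁻¹ * c * b ∈ ⁅C, B⁆ := by
  have := comm_mem_commutator (A := C) (B := B) (C.inv_mem hc) (B.inv_mem hb)
  simpa using this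

/-- For `1 ≠ b ∈ B`, every element of `⁅C, B⁆` has the form `c⁻¹ b⁻¹ c b`. -/
theorem TripleCfg.exists_f_form (t : TripleCfg S A B C) {b : G} (hb : b ∈ B) (hb1 : b ≠ 1)
    {f : G} (hf : f ∈ ⁅C, B⁆) : ∃ c ∈ C, c⁻¹ * b⁻¹ * c * b = f := by
  have hb' : b⁻¹ ∈ B := B.inv_mem hb
  have hb1' : b⁻¹ ≠ 1 := fun h => hb1 (inv_eq_one.mp h)
  obtain ⟨c', hc', hEq⟩ := commCase_surj_left t.comCB hb' hb1' hf
  refine ⟨c'⁻¹, C.inv_mem hc', ?_⟩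
  rw [← hEq]; group

/-- The elementwise form of the key identity in the configuration. -/
theorem TripleCfg.key (t : TripleCfg S A B C) {a c b : G} (ha : a ∈ A) (hc : c ∈ C) (hb : b ∈ B) :
    a * (b⁻¹ * c * b) * a⁻¹ * (b⁻¹ * c * b)⁻¹ =
      a * (c⁻¹ * b⁻¹ * c * b) * a⁻¹ * (c⁻¹ * b⁻¹ * c * b)⁻¹ := by
  apply key_identity (t.comm a ha c hc)
  · exact (t.symm.comm_EA (t.f_mem hc hb) hc).symm
  · group

/-- `⁅A, b⁻¹ C b⁆ = ⁅A, ⁅C, B⁆⁆` for `1 ≠ b ∈ B`. -/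
theorem TripleCfg.commutator_conj (t : TripleCfg S A B C) {b : G} (hb : b ∈ B) (hb1 : b ≠ 1) :
    ⁅A, Cfsg.conjBy C b⁻¹⁆ = ⁅A, ⁅C, B⁆⁆ := by
  apply le_antisymm
  · rw [Subgroup.commutator_le]
    intro a ha p hp
    rw [mem_conjBy, inv_inv] at hp
    rw [commutatorElement_def]
    have e : p = b⁻¹ * (b * p * b⁻¹) * b := by group
    rw [e, t.key ha hp hb]
    exact comm_mem_commutator ha (t.f_mem hp hb)
  · rw [Subgroup.commutator_le]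
    intro a ha f hf
    rw [commutatorElement_def]
    obtain ⟨c, hc, rfl⟩ := t.exists_f_form hb hb1 hf
    rw [← t.key ha hc hb]
    apply comm_mem_commutator ha
    have := conj_mem_conjBy (A := C) (g := b⁻¹) hc
    rwa [inv_inv] at this

/-- Conjugation by `1 ≠ b' ∈ B` maps `⁅A, ⁅C, B⁆⁆` into `⁅C, ⁅A, B⁆⁆`. -/
theorem TripleCfg.conj_swap (t : TripleCfg S A B C) {b : G} (hb : b ∈ B) (hb1 : b ≠ 1) :
    Cfsg.conjBy ⁅A, ⁅C, B⁆⁆ b ≤ ⁅C, ⁅A, B⁆⁆ := by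
  rw [conjBy_commutator, Subgroup.commutator_le]
  intro x hx y hy
  -- `x ∈ b A b⁻¹`, `y ∈ b ⁅C, B⁆ b⁻¹ = ⁅C, B⁆`
  rw [t.symm.conjBy_E hb] at hy
  rw [mem_conjBy] at hx
  obtain ⟨c, hc, rfl⟩ := t.exists_f_form hb hb1 hy
  rw [commutatorElement_def]
  -- `x = b a b⁻¹` with `a = b⁻¹ x b`
  set a := b⁻¹ * x * b with ha
  have hx' : x = b * a * b⁻¹ := by rw [ha]; group
  have h1 := t.key hx hc hb
  -- conjugate by `b`
  have e1 : x * (c⁻¹ * b⁻¹ * c * b) * x⁻¹ * (c⁻¹ * b⁻¹ * c * b)⁻¹ =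
      b * (a * (c⁻¹ * b⁻¹ * c * b) * a⁻¹ * (c⁻¹ * b⁻¹ * c * b)⁻¹) * b⁻¹ := by
    have hfb : (c⁻¹ * b⁻¹ * c * b) * b = b * (c⁻¹ * b⁻¹ * c * b) :=
      t.symm.comm_EB (t.f_mem hc hb) hb
    set f := c⁻¹ * b⁻¹ * c * b with hfdef
    have h3 : b⁻¹ * f * b = f := by rw [mul_assoc, hfb]; group
    have h4 : b⁻¹ * f⁻¹ = f⁻¹ * b⁻¹ := by
      have : (f * b)⁻¹ = (b * f)⁻¹ := by rw [hfb]
      simpa [mul_inv_rev] using this
    calc x * f * x⁻¹ * f⁻¹ = b * a * (b⁻¹ * f * b) * a⁻¹ * (b⁻¹ * f⁻¹) := by rw [hx']; group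
      _ = b * a * f * a⁻¹ * (f⁻¹ * b⁻¹) := by rw [h3, h4]
      _ = b * (a * f * a⁻¹ * f⁻¹) * b⁻¹ := by group
  rw [e1, ← h1]
  -- `b [a, b⁻¹ c b] b⁻¹ = [x, c] = [e, c]`
  have e2 : b * (a * (b⁻¹ * c * b) * a⁻¹ * (b⁻¹ * c * b)⁻¹) * b⁻¹ = x * c * x⁻¹ * c⁻¹ := by
    rw [hx']; group
  rw [e2]
  -- `x = a e` with `e ∈ ⁅A, B⁆`
  have hxAE : x ∈ A ⊔ ⁅A, B⁆ := by
    have h2 : x ∈ Cfsg.conjBy A b := by rw [mem_conjBy]; exact hx
    exact t.conjBy_A_le hb h2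
  have hcomm : ∀ e ∈ ⁅A, B⁆, ∀ a' ∈ A, e * a' = a' * e := fun e he a' ha' => t.comm_EA he ha'
  obtain ⟨a', ha', e, he, hxe⟩ := exists_mul_of_mem_sup_of_commute hcomm hxAE
  -- `[a' e, c] = [e, c]`
  have hkey : x * c * x⁻¹ * c⁻¹ = (c * e * c⁻¹ * e⁻¹)⁻¹ := by
    have hac := t.comm a' ha' c hc
    have hea := t.comm_EA he ha'
    rw [hxe]
    have hinv : a'⁻¹ * c⁻¹ = c⁻¹ * a'⁻¹ := by
      have : (c * a')⁻¹ = (a' * c)⁻¹ := by rw [hac]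
      simpa [mul_inv_rev] using this
    have haw : a' * (e * c * e⁻¹ * c⁻¹) = (e * c * e⁻¹ * c⁻¹) * a' := comm_word4 hea.symm hac
    calc a' * e * c * (a' * e)⁻¹ * c⁻¹ = a' * e * c * e⁻¹ * (a'⁻¹ * c⁻¹) := by group
      _ = a' * e * c * e⁻¹ * (c⁻¹ * a'⁻¹) := by rw [hinv]
      _ = (a' * (e * c * e⁻¹ * c⁻¹)) * a'⁻¹ := by group
      _ = ((e * c * e⁻¹ * c⁻¹) * a') * a'⁻¹ := by rw [haw]
      _ = (c * e * c⁻¹ * e⁻¹)⁻¹ := by group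
  rw [hkey]
  exact Subgroup.inv_mem _ (comm_mem_commutator hc he)

end Triple

end Cfsg.Agent.Lib.Helper8
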