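import Mathlib
import Cfsg.Prelude.Def_RootSubgroups
import Cfsg.Agent.Lib.Helper8.RN3

/-!
# Three root subgroups: dichotomy for `X`, `Y`
-/

set_option autoImplicit false

namespace Cfsg.Agent.Lib.Helper8

variable {G : Type*} [Group G]

open scoped commutatorElement

section Triple

variable {S : Set (Subgroup G)} {A B C : Subgroup G}

theorem TripleCfg.commutator_AC (t : TripleCfg S A B C) : ⁅C, A⁆ = ⊥ := by
  apply commutator_eq_bot_of_comm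
  intro c hc a ha
  exact (t.comm a ha c hc).symm

/-- Three subgroups lemma: `⁅A, ⁅C, B⁆⁆ = 1` implies `⁅C, ⁅A, B⁆⁆ = 1`. -/
theorem TripleCfg.ZY_eq_bot (t : TripleCfg S A B C) (h : ⁅A, ⁅C, B⁆⁆ = ⊥) : ⁅C, ⁅A, B⁆⁆ = ⊥ := by
  rw [Subgroup.commutator_comm]
  apply Subgroup.commutator_commutator_eq_bot_of_rotate
  · rw [Subgroup.commutator_comm ⁅B, C⁆ A, Subgroup.commutator_comm B C]
    exact h
  · rw [t.commutator_AC]
    exact Subgroup.commutator_bot_left B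

theorem TripleCfg.ZX_eq_bot_iff (t : TripleCfg S A B C) : ⁅A, ⁅C, B⁆⁆ = ⊥ ↔ ⁅C, ⁅A, B⁆⁆ = ⊥ :=
  ⟨t.ZY_eq_bot, t.symm.ZY_eq_bot⟩

/-- `A` and `b⁻¹ C b` do not form a rank one pair. -/
theorem TripleCfg.not_rankOne (t : TripleCfg S A B C) {b : G} (hb : b ∈ B) (hb1 : b ≠ 1) :
    ¬ Cfsg.IsRankOnePair A (Cfsg.conjBy C b⁻¹) := by
  intro h
  have hb' : b⁻¹ ∈ B := B.inv_mem hb
  have hb1' : b⁻¹ ≠ 1 := fun h => hb1 (inv_eq_one.mp h)
  -- an element `a` with nontrivial commutator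
  have hex : ∃ a ∈ A, a * b⁻¹ * a⁻¹ * b⁻¹⁻¹ ≠ 1 := by
    by_contra hall
    push Not at hall
    have hcl := t.comAB.2.2.2 b⁻¹ hb' hb1'
    apply t.hS.ne_bot _ t.comAB.1
    rw [← hcl, eq_bot_iff, Subgroup.closure_le]
    rintro _ ⟨a, ha, rfl⟩
    show a * b⁻¹ * a⁻¹ * b⁻¹⁻¹ ∈ (⊥ : Subgroup G)
    rw [Subgroup.mem_bot]
    exact hall a ha
  obtain ⟨a, ha, hne⟩ := hex
  rw [inv_inv] at hne
  have ha1 : a ≠ 1 := by
    rintro rfl
    apply hne; group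
  set z := b⁻¹ * a⁻¹ * b with hz
  have hzY : z ∈ Cfsg.conjBy A b⁻¹ ⊔ C := by
    apply Subgroup.mem_sup_left
    have := conj_mem_conjBy (A := A) (g := b⁻¹) (A.inv_mem ha)
    rwa [inv_inv] at this
  have hzc : z ∈ Subgroup.centralizer ((A ⊔ Cfsg.conjBy C b⁻¹ : Subgroup G) : Set G) := by
    have h1 := t.commutator_XY hb
    rw [Subgroup.commutator_comm, Subgroup.commutator_eq_bot_iff_le_centralizer] at h1
    exact h1 hzY
  have hz1 : z ≠ 1 := by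
    intro h1
    apply ha1
    have : a⁻¹ = b * z * b⁻¹ := by rw [hz]; group
    rw [h1] at this
    have h2 : a⁻¹ = 1 := by rw [this]; group
    exact inv_eq_one.mp h2
  have hCb : Cfsg.conjBy C b⁻¹ ∈ Cfsg.rankOnePartners S A := ⟨t.hS.conj_mem C t.hC _, h⟩
  apply Cfsg.Agent.S5025.result t.hS t.hA hCb hzc hz1 a ha ha1
  refine ⟨?_, ⁅A, B⁆, t.comAB.1, ?_⟩
  · intro h1
    apply hne
    have h2 : z = a⁻¹ := eq_inv_of_mul_eq_one_left h1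
    have h3 : a * b⁻¹ * a⁻¹ * b = a * z := by rw [hz]; group
    rw [h3, h2]; group
  · have := comm_mem_commutator (A := B) (B := A) hb' (A.inv_mem ha)
    rw [Subgroup.commutator_comm] at this
    have e : z * a = b⁻¹ * a⁻¹ * b⁻¹⁻¹ * a⁻¹⁻¹ := by rw [hz]; group
    rw [e]; exact this

/-- The dichotomy for `X = A ⊔ b⁻¹ C b`. -/
theorem TripleCfg.X_cases (t : TripleCfg S A B C) {b : G} (hb : b ∈ B) (hb1 : b ≠ 1) :
    (⁅A, ⁅C, B⁆⁆ = ⊥ ∧ ∀ x ∈ A ⊔ Cfsg.conjBy C b⁻¹, ∀ y ∈ A ⊔ Cfsg.conjBy C b⁻¹, x * y = y * x) ∨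
    (⁅A, ⁅C, B⁆⁆ ≠ ⊥ ∧ Cfsg.RootCommutatorCase S A (Cfsg.conjBy C b⁻¹)) := by
  have hCb : Cfsg.conjBy C b⁻¹ ∈ S := t.hS.conj_mem C t.hC _
  have hEq := t.commutator_conj hb hb1
  by_cases hZ : ⁅A, ⁅C, B⁆⁆ = ⊥
  · left
    refine ⟨hZ, line_comm t.hS t.hA hCb ?_⟩
    rw [hEq]; exact hZ
  · right
    refine ⟨hZ, ?_⟩
    rcases t.hS.pair A t.hA _ hCb with h1 | h2 | h3
    · exfalso; apply hZ; rw [← hEq]; exact h1
    · exact absurd h2 (t.not_rankOne hb hb1)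
    · exact h3

end Triple

end Cfsg.Agent.Lib.Helper8
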